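import Mathlib
import Cfsg.Agent.Lib.AutSL2
import Cfsg.Agent.Mrg.Omega.CloseA.Weak
import Cfsg.Agent.Mrg.Omega.SQ1.Choice
import Cfsg.Agent.Mrg.Omega.SQ1.NodeI
import Cfsg.Agent.ZN.Facts
import Cfsg.Agent.MinSimple.Basic
import Cfsg.Agent.TypeL3.Back
import Cfsg.Agent.TwoFusion.SectionalRank
import Cfsg.Agent.BabyComp.Sec
import Cfsg.Agent.CpAut.TwoAbs
import Cfsg.Agent.Lib.MinNormal
import Cfsg.Agent.Lib.Cores
import Cfsg.Agent.Lib.GenFitting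
import Cfsg.Agent.SignalizersComponents.IntrinsicDiag
import Cfsg.Agent.SignalizersComponents.FStarNormal
import Cfsg.Agent.SignalizersComponents.ComponentNormalize
import Cfsg.Agent.Omega.NatPair.Of
import Cfsg.Statements.S3091
set_option linter.all false

-- part: H282/Side
section
/-!
# helper282: one rank one parabolic `L` on its natural module `V`

`Side F L V J π`: `π : V ≃ F²`, `L` acts on `V` as `SL₂(F)` with kernel `V`, and the subgroup `V ≤ J ≤ L` acts as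
the group of upper unitriangular matrices.
-/

set_option autoImplicit false
set_option linter.unusedSectionVars false

namespace Cfsg.Agent.H282

open Subgroup Cfsg.Agent.Omega.NatPair Cfsg.Agent.Lib.SL2Mat Cfsg.Agent.Lib.AutSL2

universe u v w

variable {G : Type u} [Group G]

/-- `L/V = SL₂(F)` on the natural module `V`; `J/V` is the group of upper unitriangular matrices. -/
structure Side (F : Type v) [Field F] (L V J : Subgroup G) (π : G → Fin 2 → F) : Prop where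
  JL : J ≤ L
  VJ : V ≤ J
  Vn : ∀ l ∈ L, ∀ v ∈ V, l * v * l⁻¹ ∈ V
  mul : ∀ v ∈ V, ∀ w ∈ V, π (v * w) = π v + π w
  inj : ∀ v ∈ V, π v = 0 → v = 1
  surj : ∀ x, ∃ v ∈ V, π v = x
  ind : ∀ l ∈ L, ∃ A : Matrix.SpecialLinearGroup (Fin 2) F, ∀ v ∈ V, π (l * v * l⁻¹) = ap A (π v)
  lift : ∀ A : Matrix.SpecialLinearGroup (Fin 2) F, ∃ l ∈ L, ∀ v ∈ V, π (l * v * l⁻¹) = ap A (π v)
  ker : ∀ l ∈ L, (∀ v ∈ V, l * v = v * l) → l ∈ V
  upJ : ∀ b ∈ J, ∃ c : F, ∀ v ∈ V, π (b * v * b⁻¹) = ap (up c) (π v)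
  cup : ∀ c : F, ∃ b ∈ J, ∀ v ∈ V, π (b * v * b⁻¹) = ap (up c) (π v)

namespace Side

variable {F : Type v} [Field F] {L V J : Subgroup G} {π : G → Fin 2 → F} (s : Side F L V J π)

include s

theorem VL : V ≤ L := s.VJ.trans s.JL

theorem map_one : π 1 = 0 := by
  have := s.mul 1 (one_mem V) 1 (one_mem V)
  rw [one_mul] at this
  exact left_eq_add.1 this

theorem map_inv {v : G} (hv : v ∈ V) : π v⁻¹ = - π v := by
  have := s.mul v hv v⁻¹ (inv_mem hv)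
  rw [mul_inv_cancel, s.map_one] at this
  exact (neg_eq_of_add_eq_zero_right this.symm).symm

theorem eq_of {v w : G} (hv : v ∈ V) (hw : w ∈ V) (h : π v = π w) : v = w := by
  have h1 := s.inj (v * w⁻¹) (mul_mem hv (inv_mem hw)) (by
    rw [s.mul v hv _ (inv_mem hw), s.map_inv hw, h, add_neg_cancel])
  exact mul_inv_eq_one.1 h1

theorem eq_zero_iff {v : G} (hv : v ∈ V) : π v = 0 ↔ v = 1 :=
  ⟨s.inj v hv, fun h => by rw [h, s.map_one]⟩

theorem comm {v w : G} (hv : v ∈ V) (hw : w ∈ V) : v * w = w * v :=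
  s.eq_of (mul_mem hv hw) (mul_mem hw hv) (by rw [s.mul v hv w hw, s.mul w hw v hv, add_comm])

theorem sq [CharP F 2] {v : G} (hv : v ∈ V) : v * v = 1 :=
  s.inj _ (mul_mem hv hv) (by
    rw [s.mul v hv v hv]
    funext i
    exact CharTwo.add_self_eq_zero _)

theorem conj_cancel {x y : G} (hx : x ∈ V) (hy : y ∈ V) : x * y * x⁻¹ = y := by
  rw [s.comm hx hy, mul_inv_cancel_right]

/-- an element acting as a matrix acts trivially if and only if the matrix is `1` -/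
theorem act_one {l : G} (hn : ∀ v ∈ V, l * v * l⁻¹ ∈ V) (h : ∀ v ∈ V, π (l * v * l⁻¹) = π v) :
    ∀ v ∈ V, l * v = v * l := by
  intro v hv
  have h1 := s.eq_of (hn v hv) hv (h v hv)
  exact mul_inv_eq_iff_eq_mul.1 h1

/-- uniqueness of the matrix -/
theorem mat_unique {l : G} {A B : Matrix.SpecialLinearGroup (Fin 2) F}
    (hA : ∀ v ∈ V, π (l * v * l⁻¹) = ap A (π v)) (hB : ∀ v ∈ V, π (l * v * l⁻¹) = ap B (π v)) : A = B := by
  apply ap_inj
  intro x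
  obtain ⟨v, hv, rfl⟩ := s.surj x
  rw [← hA v hv, hB v hv]

theorem mat_mul {l m : G} (hm : ∀ v ∈ V, m * v * m⁻¹ ∈ V) {A B : Matrix.SpecialLinearGroup (Fin 2) F}
    (hA : ∀ v ∈ V, π (l * v * l⁻¹) = ap A (π v)) (hB : ∀ v ∈ V, π (m * v * m⁻¹) = ap B (π v)) :
    ∀ v ∈ V, π (l * m * v * (l * m)⁻¹) = ap (A * B) (π v) := by
  intro v hv
  have e : l * m * v * (l * m)⁻¹ = l * (m * v * m⁻¹) * l⁻¹ := by group
  rw [e, hA _ (hm v hv), hB v hv, ap_mul]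

theorem mat_one : ∀ v ∈ V, π (1 * v * 1⁻¹) = ap 1 (π v) := by
  intro v _
  rw [ap_one, one_mul, inv_one, mul_one]

theorem mat_inv {l : G} (hl : ∀ v ∈ V, l⁻¹ * v * l ∈ V) {A : Matrix.SpecialLinearGroup (Fin 2) F}
    (hA : ∀ v ∈ V, π (l * v * l⁻¹) = ap A (π v)) : ∀ v ∈ V, π (l⁻¹ * v * l⁻¹⁻¹) = ap A⁻¹ (π v) := by
  intro v hv
  rw [inv_inv]
  have h1 := hA _ (hl v hv)
  have e : l * (l⁻¹ * v * l) * l⁻¹ = v := by group
  rw [e] at h1
  rw [h1, ap_inv_ap]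

theorem Vn' {l v : G} (hl : l ∈ L) (hv : v ∈ V) : l⁻¹ * v * l ∈ V := by
  have := s.Vn l⁻¹ (inv_mem hl) v hv
  rwa [inv_inv] at this

/-- two elements of `L` with the same matrix -/
theorem same {l m : G} (hl : l ∈ L) (hm : m ∈ L) {A : Matrix.SpecialLinearGroup (Fin 2) F}
    (hA : ∀ v ∈ V, π (l * v * l⁻¹) = ap A (π v)) (hB : ∀ v ∈ V, π (m * v * m⁻¹) = ap A (π v)) :
    l * m⁻¹ ∈ V := by
  apply s.ker _ (mul_mem hl (inv_mem hm))
  apply s.act_one (s.Vn _ (mul_mem hl (inv_mem hm)))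
  intro v hv
  rw [s.mat_mul (s.Vn _ (inv_mem hm)) hA (s.mat_inv (fun v hv => s.Vn' hm hv) hB) v hv, mul_inv_cancel, ap_one]

theorem mem_J_of_up {l : G} (hl : l ∈ L) {c : F} (h : ∀ v ∈ V, π (l * v * l⁻¹) = ap (up c) (π v)) : l ∈ J := by
  obtain ⟨b, hb, hbc⟩ := s.cup c
  have h1 := s.VJ (s.same hl (s.JL hb) h hbc)
  have h2 := mul_mem h1 hb
  rwa [inv_mul_cancel_right] at h2

/-- transitivity of `L` on `V - 1` -/
theorem trans {v w : G} (hv : v ∈ V) (hw : w ∈ V) (hv1 : v ≠ 1) (hw1 : w ≠ 1) : ∃ l ∈ L, l * v * l⁻¹ = w := by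
  obtain ⟨A, hA⟩ := exists_ap (x := π v) (y := π w) (fun h => hv1 (s.inj v hv h)) (fun h => hw1 (s.inj w hw h))
  obtain ⟨l, hl, h⟩ := s.lift A
  exact ⟨l, hl, s.eq_of (s.Vn l hl v hv) hw (by rw [h v hv, hA])⟩

/-- irreducibility -/
theorem irr {K : Subgroup G} (hK : ∀ l ∈ L, ∀ k ∈ K, l * k * l⁻¹ ∈ K) {v : G} (hv : v ∈ V) (hvK : v ∈ K)
    (hv1 : v ≠ 1) : V ≤ K := by
  intro w hw
  by_cases hw1 : w = 1
  · rw [hw1]; exact one_mem K
  · obtain ⟨l, hl, rfl⟩ := s.trans hv hw hv1 hw1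
    exact hK l hl v hvK

theorem ap_up_one (c : F) (x : Fin 2 → F) : ap (up c) x 1 = x 1 := by
  rw [ap_one', up_10, up_11]; ring

theorem ap_up_zero (c : F) (x : Fin 2 → F) : ap (up c) x 0 = x 0 + c * x 1 := by
  rw [ap_zero', up_00, up_01]; ring

/-- the fixed points of `J` on `V` -/
theorem fix_iff {v : G} (hv : v ∈ V) : (∀ j ∈ J, j * v = v * j) ↔ π v 1 = 0 := by
  constructor
  · intro h
    obtain ⟨b, hb, hbc⟩ := s.cup 1
    have h1 := congrFun (hbc v hv) 0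
    rw [h b hb, mul_inv_cancel_right, s.ap_up_zero, one_mul] at h1
    exact left_eq_add.1 h1
  · intro h j hj
    obtain ⟨c, hc⟩ := s.upJ j hj
    have h1 := s.eq_of (s.Vn j (s.JL hj) v hv) hv (by
      rw [hc v hv]
      apply ext2
      · rw [s.ap_up_zero, h, mul_zero, add_zero]
      · rw [s.ap_up_one])
    exact mul_inv_eq_iff_eq_mul.1 h1

/-- `C_L(Z) = J` -/
theorem mem_J_of_cent {l : G} (hl : l ∈ L) (h : ∀ v ∈ V, π v 1 = 0 → l * v = v * l) : l ∈ J := by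
  obtain ⟨A, hA⟩ := s.ind l hl
  obtain ⟨v, hv, e⟩ := s.surj ![1, 0]
  have h1 := hA v hv
  rw [h v hv (by rw [e]; rfl), mul_inv_cancel_right, e] at h1
  have e0 : ent A 0 0 = 1 := by
    have := congrFun h1 0
    rw [ap_zero'] at this
    simpa using this.symm
  have e1 : ent A 1 0 = 0 := by
    have := congrFun h1 1
    rw [ap_one'] at this
    simpa using this.symm
  have e2 : ent A 1 1 = 1 := by
    have := det_eq A
    rw [e0, e1] at this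
    simpa using this
  refine s.mem_J_of_up hl (c := ent A 0 1) fun v hv => ?_
  rw [hA v hv]
  congr 1
  exact ext_ent (by simp [e0]) (by simp) (by simp [e1]) (by simp [e2])

/-- `J` is a maximal 2-subgroup of `L` -/
theorem syl [Finite F] [CharP F 2] {P : Subgroup G} (hP : IsPGroup 2 P) (hJP : J ≤ P) (hPL : P ≤ L) : P = J := by
  have hf : Fact (Nat.Prime 2) := ⟨Nat.prime_two⟩
  let Q : Subgroup (Matrix.SpecialLinearGroup (Fin 2) F) :=
    { carrier := {A | ∃ p ∈ P, ∀ v ∈ V, π (p * v * p⁻¹) = ap A (π v)}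
      one_mem' := ⟨1, one_mem P, s.mat_one⟩
      mul_mem' := by
        rintro A B ⟨p, hp, hA⟩ ⟨q, hq, hB⟩
        exact ⟨p * q, mul_mem hp hq, s.mat_mul (s.Vn q (hPL hq)) hA hB⟩
      inv_mem' := by
        rintro A ⟨p, hp, hA⟩
        exact ⟨p⁻¹, inv_mem hp, s.mat_inv (fun v hv => s.Vn' (hPL hp) hv) hA⟩ }
  have hQ : IsPGroup 2 Q := by
    rintro ⟨A, p, hp, hA⟩
    obtain ⟨n, hn⟩ := hP ⟨p, hp⟩
    refine ⟨n, Subtype.ext ?_⟩
    have hn' : p ^ 2 ^ n = 1 := congrArg Subtype.val hn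
    have hpow : ∀ k : ℕ, ∀ v ∈ V, π (p ^ k * v * (p ^ k)⁻¹) = ap (A ^ k) (π v) := by
      intro k
      induction k with
      | zero => intro v hv; rw [pow_zero, pow_zero]; exact s.mat_one v hv
      | succ k ih =>
        intro v hv
        rw [pow_succ, pow_succ]
        exact s.mat_mul (s.Vn p (hPL hp)) ih hA v hv
    have h1 := hpow (2 ^ n)
    rw [hn'] at h1
    exact s.mat_unique h1 s.mat_one
  have hU : upG F ≤ Q := by
    rintro _ ⟨c, rfl⟩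
    obtain ⟨b, hb, h⟩ := s.cup c
    exact ⟨b, hJP hb, h⟩
  have hQU := eq_upG_of_le hQ hU
  refine le_antisymm (fun p hp => ?_) hJP
  obtain ⟨A, hA⟩ := s.ind p (hPL hp)
  have h1 : A ∈ Q := ⟨p, hp, hA⟩
  rw [hQU] at h1
  obtain ⟨c, rfl⟩ := h1
  exact s.mem_J_of_up (hPL hp) hA

/-- `L` is generated by the `L`-conjugates of `J` -/
theorem le_of_J {K : Subgroup G} (hK : ∀ l ∈ L, ∀ k ∈ K, l * k * l⁻¹ ∈ K) (hJ : J ≤ K) : L ≤ K := by
  obtain ⟨m, hm, hmw⟩ := s.lift (wm 1 one_ne_zero)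
  -- the matrices induced by `K ⊓ L`
  let Q : Subgroup (Matrix.SpecialLinearGroup (Fin 2) F) :=
    { carrier := {A | ∃ p ∈ K ⊓ L, ∀ v ∈ V, π (p * v * p⁻¹) = ap A (π v)}
      one_mem' := ⟨1, one_mem _, s.mat_one⟩
      mul_mem' := by
        rintro A B ⟨p, hp, hA⟩ ⟨q, hq, hB⟩
        exact ⟨p * q, mul_mem hp hq, s.mat_mul (s.Vn q hq.2) hA hB⟩
      inv_mem' := by
        rintro A ⟨p, hp, hA⟩
        exact ⟨p⁻¹, inv_mem hp, s.mat_inv (fun v hv => s.Vn' hp.2 hv) hA⟩ }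
  have hup : ∀ c, up c ∈ Q := fun c => by
    obtain ⟨b, hb, h⟩ := s.cup c
    exact ⟨b, ⟨hJ hb, s.JL hb⟩, h⟩
  have hlo : ∀ c, lo c ∈ Q := fun c => by
    obtain ⟨b, hb, h⟩ := s.cup (-c)
    refine ⟨m * b * m⁻¹, mem_inf.2 ⟨hK m hm b (hJ hb), L.mul_mem (L.mul_mem hm (s.JL hb)) (L.inv_mem hm)⟩, ?_⟩
    have h1 := s.mat_mul (s.Vn _ (inv_mem hm)) (s.mat_mul (s.Vn b (s.JL hb)) hmw h)
      (s.mat_inv (fun v hv => s.Vn' hm hv) hmw)
    have e : wm (1 : F) one_ne_zero * up (-c) * (wm 1 one_ne_zero)⁻¹ = lo c := by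
      rw [wm_up, mul_inv_cancel_right]
      simp
    rwa [e] at h1
  intro l hl
  obtain ⟨A, hA⟩ := s.ind l hl
  have hAQ : A ∈ Q := by
    obtain ⟨a, b, c, d, rfl⟩ := exists_up_lo A
    exact mul_mem (mul_mem (mul_mem (hup a) (hlo b)) (hup c)) (hlo d)
  obtain ⟨p, hp, hpA⟩ := hAQ
  have h1 := hJ (s.VJ (s.same hl hp.2 hA hpA))
  have h2 := mul_mem h1 hp.1
  rwa [inv_mul_cancel_right] at h2

/-- a torus element: it normalises `J` and acts on `Z` without fixed points -/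
theorem exists_torus {ω : F} (hω : ω ≠ 0) : ∃ t ∈ L, (∀ j ∈ J, t * j * t⁻¹ ∈ J) ∧
    ∀ v ∈ V, π (t * v * t⁻¹) = ap (dg ω hω) (π v) := by
  obtain ⟨t, ht, h⟩ := s.lift (dg ω hω)
  refine ⟨t, ht, fun j hj => ?_, h⟩
  obtain ⟨c, hc⟩ := s.upJ j hj
  have h1 := s.mat_mul (s.Vn _ (inv_mem ht)) (s.mat_mul (s.Vn j (s.JL hj)) h hc)
    (s.mat_inv (fun v hv => s.Vn' ht hv) h)
  rw [dg_up, mul_inv_cancel_right] at h1
  exact s.mem_J_of_up (mul_mem (mul_mem ht (s.JL hj)) (inv_mem ht)) h1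

/-- transfer to a subgroup -/
theorem subgroupOf {E : Subgroup G} (hLE : L ≤ E) :
    Side F (L.subgroupOf E) (V.subgroupOf E) (J.subgroupOf E) (fun g : E => π g) where
  JL := fun x hx => mem_subgroupOf.2 (s.JL (mem_subgroupOf.1 hx))
  VJ := fun x hx => mem_subgroupOf.2 (s.VJ (mem_subgroupOf.1 hx))
  Vn := fun l hl v hv => mem_subgroupOf.2 (s.Vn l (mem_subgroupOf.1 hl) v (mem_subgroupOf.1 hv))
  mul := fun v hv w hw => s.mul v (mem_subgroupOf.1 hv) w (mem_subgroupOf.1 hw)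
  inj := fun v hv h => Subtype.ext (s.inj v (mem_subgroupOf.1 hv) h)
  surj := fun x => by
    obtain ⟨v, hv, h⟩ := s.surj x
    exact ⟨⟨v, hLE (s.VL hv)⟩, mem_subgroupOf.2 hv, h⟩
  ind := fun l hl => by
    obtain ⟨A, hA⟩ := s.ind l (mem_subgroupOf.1 hl)
    exact ⟨A, fun v hv => hA v (mem_subgroupOf.1 hv)⟩
  lift := fun A => by
    obtain ⟨l, hl, h⟩ := s.lift A
    exact ⟨⟨l, hLE hl⟩, mem_subgroupOf.2 hl, fun v hv => h v (mem_subgroupOf.1 hv)⟩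
  ker := fun l hl h => mem_subgroupOf.2 (s.ker l (mem_subgroupOf.1 hl) fun v hv =>
    congrArg Subtype.val (h ⟨v, hLE (s.VL hv)⟩ (mem_subgroupOf.2 hv)))
  upJ := fun b hb => by
    obtain ⟨c, hc⟩ := s.upJ b (mem_subgroupOf.1 hb)
    exact ⟨c, fun v hv => hc v (mem_subgroupOf.1 hv)⟩
  cup := fun c => by
    obtain ⟨b, hb, h⟩ := s.cup c
    exact ⟨⟨b, hLE (s.JL hb)⟩, mem_subgroupOf.2 hb, fun v hv => h v (mem_subgroupOf.1 hv)⟩

/-- transport of the field -/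
theorem field {F' : Type w} [Field F'] (ρ : F ≃+* F') : Side F' L V J (fun g i => ρ (π g i)) where
  JL := s.JL
  VJ := s.VJ
  Vn := s.Vn
  mul := fun v hv w hw => by
    funext i
    show ρ (π (v * w) i) = ρ (π v i) + ρ (π w i)
    rw [s.mul v hv w hw, Pi.add_apply, map_add]
  inj := fun v hv h => s.inj v hv (by
    funext i
    have := congrFun h i
    exact (map_eq_zero_iff ρ ρ.injective).1 this)
  surj := fun x => by
    obtain ⟨v, hv, h⟩ := s.surj (fun i => ρ.symm (x i))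
    refine ⟨v, hv, ?_⟩
    funext i
    show ρ (π v i) = x i
    rw [h]
    exact ρ.apply_symm_apply _
  ind := fun l hl => by
    obtain ⟨A, hA⟩ := s.ind l hl
    refine ⟨Lib.SL2Mat.mk (ρ (ent A 0 0)) (ρ (ent A 0 1)) (ρ (ent A 1 0)) (ρ (ent A 1 1)) ?_, fun v hv => ?_⟩
    · rw [← map_mul, ← map_mul, ← map_sub, det_eq, _root_.map_one]
    · apply ext2
      · show ρ (π (l * v * l⁻¹) 0) = _
        rw [hA v hv, ap_zero', ap_zero', map_add, map_mul, map_mul, mk_00, mk_01]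
      · show ρ (π (l * v * l⁻¹) 1) = _
        rw [hA v hv, ap_one', ap_one', map_add, map_mul, map_mul, mk_10, mk_11]
  lift := fun A => by
    obtain ⟨l, hl, h⟩ := s.lift (Lib.SL2Mat.mk (ρ.symm (ent A 0 0)) (ρ.symm (ent A 0 1)) (ρ.symm (ent A 1 0))
      (ρ.symm (ent A 1 1)) (by rw [← map_mul, ← map_mul, ← map_sub, det_eq, _root_.map_one]))
    refine ⟨l, hl, fun v hv => ?_⟩
    apply ext2
    · show ρ (π (l * v * l⁻¹) 0) = _
      rw [h v hv, ap_zero', ap_zero', mk_00, mk_01, map_add, map_mul, map_mul, ρ.apply_symm_apply,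
        ρ.apply_symm_apply]
    · show ρ (π (l * v * l⁻¹) 1) = _
      rw [h v hv, ap_one', ap_one', mk_10, mk_11, map_add, map_mul, map_mul, ρ.apply_symm_apply,
        ρ.apply_symm_apply]
  ker := s.ker
  upJ := fun b hb => by
    obtain ⟨c, hc⟩ := s.upJ b hb
    refine ⟨ρ c, fun v hv => ?_⟩
    apply ext2
    · show ρ (π (b * v * b⁻¹) 0) = _
      rw [hc v hv, ap_zero', ap_zero', up_00, up_01, up_00, up_01, one_mul, one_mul, map_add, map_mul]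
    · show ρ (π (b * v * b⁻¹) 1) = _
      rw [hc v hv, ap_one', ap_one', up_10, up_11, up_10, up_11, one_mul, one_mul, zero_mul, zero_mul, zero_add,
        zero_add]
  cup := fun c => by
    obtain ⟨b, hb, h⟩ := s.cup (ρ.symm c)
    refine ⟨b, hb, fun v hv => ?_⟩
    apply ext2
    · show ρ (π (b * v * b⁻¹) 0) = _
      rw [h v hv, ap_zero', ap_zero', up_00, up_01, up_00, up_01, one_mul, one_mul, map_add, map_mul,
        ρ.apply_symm_apply]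
    · show ρ (π (b * v * b⁻¹) 1) = _
      rw [h v hv, ap_one', ap_one', up_10, up_11, up_10, up_11, one_mul, one_mul, zero_mul, zero_mul, zero_add,
        zero_add]

end Side

end Cfsg.Agent.H282
end

-- part: H282/Semi
section
/-!
# helper282: the normaliser of `V` acts semilinearly
-/

set_option autoImplicit false
set_option linter.unusedSectionVars false

namespace Cfsg.Agent.H282

open Subgroup Cfsg.Agent.Omega.NatPair Cfsg.Agent.Lib.SL2Mat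
open Cfsg.Agent.Omega.SQ1.FFOne (NatSec)
open Cfsg.Agent.MinSimple.VModule (mem_normalizer_of_map_le)

universe u v

theorem eq_one_of_pow {F : Type v} [Field F] [CharP F 2] {a : F} {k : ℕ} (h : a ^ 2 ^ k = 1) : a = 1 := by
  have h4 : (a - 1) ^ 2 ^ k = 0 := by rw [sub_pow_char_pow, h, one_pow, sub_self]
  exact sub_eq_zero.1 (pow_eq_zero_iff (pow_ne_zero k two_ne_zero) |>.1 h4)

variable {G : Type u} [Group G]

theorem mem_norm_iff [Finite G] {K : Subgroup G} {g : G} : g ∈ normalizer (K : Set G) ↔ ∀ k ∈ K, g * k * g⁻¹ ∈ K := by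
  constructor
  · intro h k hk
    exact (mem_normalizer_iff.1 h k).1 hk
  · intro h
    apply mem_normalizer_of_map_le
    rintro _ ⟨k, hk, rfl⟩
    exact h k hk

namespace Side

variable {F : Type v} [Field F] {L V J : Subgroup G} {π : G → Fin 2 → F} (s : Side F L V J π)

include s

/-- `V` as a natural section for its normaliser -/
def sec [Finite G] (hn : ∀ g, (∀ v ∈ V, g * v * g⁻¹ ∈ V) → ∀ l ∈ L, g * l * g⁻¹ ∈ L) :
    NatSec F (normalizer (V : Set G)) V ⊥ where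
  π := π
  map_mul := s.mul
  V0V := bot_le
  ker := fun v hv => by rw [mem_bot]; exact s.eq_zero_iff hv
  surj := s.surj
  Vn := fun h hh v hv => mem_norm_iff.1 hh v hv
  V0n := fun h _ v hv => by rw [mem_bot] at hv ⊢; rw [hv]; group
  lift := fun A => by
    obtain ⟨l, hl, h⟩ := s.lift A
    exact ⟨l, mem_norm_iff.2 (s.Vn l hl), h⟩
  norm := by
    intro g hg h hh A hA
    obtain ⟨l, hl, hlA⟩ := s.lift A
    have hgl := hn g (mem_norm_iff.1 hg) l hl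
    obtain ⟨B, hB⟩ := s.ind _ hgl
    refine ⟨B, fun v hv => ?_⟩
    rw [← hB v hv]
    congr 1
    have hgi := mem_norm_iff.1 (inv_mem hg) v hv
    rw [inv_inv] at hgi
    have h1 : h * (g⁻¹ * v * g) * h⁻¹ = l * (g⁻¹ * v * g) * l⁻¹ :=
      s.eq_of (mem_norm_iff.1 hh _ hgi) (s.Vn l hl _ hgi) (by rw [hA _ hgi, hlA _ hgi])
    calc g * h * g⁻¹ * v * (g * h * g⁻¹)⁻¹ = g * (h * (g⁻¹ * v * g) * h⁻¹) * g⁻¹ := by group
      _ = g * (l * (g⁻¹ * v * g) * l⁻¹) * g⁻¹ := by rw [h1]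
      _ = _ := by group

@[simp] theorem sec_π [Finite G] (hn : ∀ g, (∀ v ∈ V, g * v * g⁻¹ ∈ V) → ∀ l ∈ L, g * l * g⁻¹ ∈ L) :
    (s.sec hn).π = π := rfl

/-- semilinear -/
theorem semi [Finite G] [Finite F] (hn : ∀ g, (∀ v ∈ V, g * v * g⁻¹ ∈ V) → ∀ l ∈ L, g * l * g⁻¹ ∈ L) {t : G}
    (ht : ∀ v ∈ V, t * v * t⁻¹ ∈ V) : ∃ (σ : F ≃+* F) (p q : Fin 2 → F),
      (∀ v ∈ V, π (t * v * t⁻¹) = σ (π v 0) • p + σ (π v 1) • q) ∧ p ≠ 0 := by
  have htN := mem_norm_iff.2 ht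
  obtain ⟨σ, hσ⟩ := (s.sec hn).exists_semi htN
  refine ⟨σ, (s.sec hn).act t ![1, 0], (s.sec hn).act t ![0, 1], fun v hv => ?_, fun h => ?_⟩
  · have h1 := (s.sec hn).act_π htN hv
    rw [sec_π] at h1
    rw [← h1]
    have e : π v = π v 0 • ![1, 0] + π v 1 • ![0, 1] := by
      apply ext2
      · simp
      · simp
    conv_lhs => rw [e]
    rw [(s.sec hn).act_add htN, hσ, hσ]
  · have h2 := (s.sec hn).act_inv_act htN ![1, 0]
    rw [h, (s.sec hn).act_zero (inv_mem htN)] at h2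
    have h3 := congrFun h2 0
    simp at h3

/-- a 2-element of `N(V)` centralising `Z` acts as an element of `J` -/
theorem lin_of [Finite G] [Finite F] [CharP F 2]
    (hn : ∀ g, (∀ v ∈ V, g * v * g⁻¹ ∈ V) → ∀ l ∈ L, g * l * g⁻¹ ∈ L) {t : G}
    (ht : ∀ v ∈ V, t * v * t⁻¹ ∈ V) {k : ℕ} (hk : t ^ 2 ^ k = 1) (hZ : ∀ v ∈ V, π v 1 = 0 → t * v = v * t) :
    ∃ c : F, ∀ v ∈ V, π (t * v * t⁻¹) = ap (up c) (π v) := by
  obtain ⟨σ, p, q, h, -⟩ := s.semi hn ht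
  have h1 : ∀ c : F, σ c • p = ![c, 0] := by
    intro c
    obtain ⟨v, hv, e⟩ := s.surj ![c, 0]
    have h1 := h v hv
    rw [hZ v hv (by rw [e]; rfl), mul_inv_cancel_right, e] at h1
    simpa using h1.symm
  have hp : p = ![1, 0] := by
    have := h1 1
    rwa [_root_.map_one, one_smul] at this
  have hσ : ∀ c, σ c = c := by
    intro c
    have h2 := congrFun (h1 c) 0
    rw [hp] at h2
    simpa using h2
  have hone : ∀ v ∈ V, π (t * v * t⁻¹) 1 = q 1 * π v 1 := by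
    intro v hv
    rw [h v hv, hσ, hσ, hp]
    simp [mul_comm]
  have hpow : ∀ n : ℕ, ∀ v ∈ V, (t ^ n * v * (t ^ n)⁻¹ ∈ V) ∧ π (t ^ n * v * (t ^ n)⁻¹) 1 = q 1 ^ n * π v 1 := by
    intro n
    induction n with
    | zero => intro v hv; simp [hv]
    | succ n ih =>
      intro v hv
      have e : t ^ (n + 1) * v * (t ^ (n + 1))⁻¹ = t * (t ^ n * v * (t ^ n)⁻¹) * t⁻¹ := by
        rw [pow_succ']; group
      obtain ⟨h1, h2⟩ := ih v hv
      refine ⟨by rw [e]; exact ht _ h1, ?_⟩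
      rw [e, hone _ h1, h2, pow_succ']; ring
  have hq : q 1 = 1 := by
    obtain ⟨v, hv, e⟩ := s.surj ![0, 1]
    have h2 := (hpow (2 ^ k) v hv).2
    rw [hk, one_mul, inv_one, mul_one, e] at h2
    simp at h2
    exact eq_one_of_pow h2.symm
  refine ⟨q 0, fun v hv => ?_⟩
  apply ext2
  · rw [h v hv, hσ, hσ, hp, s.ap_up_zero]
    simp [mul_comm]
  · rw [hone v hv, hq, one_mul, s.ap_up_one]

/-- a 2-element of `N(V)` trivial on `V/Z` acts as an element of `J` -/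
theorem lin_of' [Finite G] [Finite F] [CharP F 2]
    (hn : ∀ g, (∀ v ∈ V, g * v * g⁻¹ ∈ V) → ∀ l ∈ L, g * l * g⁻¹ ∈ L) {t : G}
    (ht : ∀ v ∈ V, t * v * t⁻¹ ∈ V) {k : ℕ} (hk : t ^ 2 ^ k = 1) (hZ : ∀ v ∈ V, π (t * v * t⁻¹) 1 = π v 1) :
    ∃ c : F, ∀ v ∈ V, π (t * v * t⁻¹) = ap (up c) (π v) := by
  obtain ⟨σ, p, q, h, -⟩ := s.semi hn ht
  have h1 : ∀ x : F, σ x * p 1 = 0 := by
    intro c
    obtain ⟨v, hv, e⟩ := s.surj ![c, 0]
    have h1 := hZ v hv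
    rw [h v hv, e] at h1
    simpa using h1
  have hp1 : p 1 = 0 := by
    have := h1 1
    rwa [_root_.map_one, one_mul] at this
  have h2 : ∀ x : F, σ x * q 1 = x := by
    intro c
    obtain ⟨v, hv, e⟩ := s.surj ![0, c]
    have h1 := hZ v hv
    rw [h v hv, e] at h1
    simpa using h1
  have hq1 : q 1 = 1 := by
    have := h2 1
    rwa [_root_.map_one, one_mul] at this
  have hσ : ∀ c, σ c = c := by
    intro c
    have := h2 c
    rwa [hq1, mul_one] at this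
  have hone : ∀ v ∈ V, π v 1 = 0 → π (t * v * t⁻¹) 1 = 0 ∧ π (t * v * t⁻¹) 0 = p 0 * π v 0 := by
    intro v hv h0
    rw [h v hv, hσ, hσ, h0]
    simp [hp1, mul_comm]
  have hpow : ∀ n : ℕ, ∀ v ∈ V, π v 1 = 0 → (t ^ n * v * (t ^ n)⁻¹ ∈ V) ∧ π (t ^ n * v * (t ^ n)⁻¹) 1 = 0 ∧
      π (t ^ n * v * (t ^ n)⁻¹) 0 = p 0 ^ n * π v 0 := by
    intro n
    induction n with
    | zero => intro v hv h0; simp [hv, h0]
    | succ n ih =>
      intro v hv h0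
      have e : t ^ (n + 1) * v * (t ^ (n + 1))⁻¹ = t * (t ^ n * v * (t ^ n)⁻¹) * t⁻¹ := by
        rw [pow_succ']; group
      obtain ⟨h1, h2, h3⟩ := ih v hv h0
      obtain ⟨h4, h5⟩ := hone _ h1 h2
      refine ⟨by rw [e]; exact ht _ h1, by rw [e]; exact h4, ?_⟩
      rw [e, h5, h3, pow_succ']; ring
  have hp : p 0 = 1 := by
    obtain ⟨v, hv, e⟩ := s.surj ![1, 0]
    have h2 := (hpow (2 ^ k) v hv (by rw [e]; rfl)).2.2
    rw [hk, one_mul, inv_one, mul_one, e] at h2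
    simp at h2
    exact eq_one_of_pow h2.symm
  refine ⟨q 0, fun v hv => ?_⟩
  apply ext2
  · rw [h v hv, hσ, hσ, s.ap_up_zero]
    simp [hp, mul_comm]
  · rw [hZ v hv, s.ap_up_one]

/-- the line `Z`: an element of `N(V)` taking a nontrivial element of `Z` to `Z` normalises `Z` -/
theorem line [Finite G] [Finite F] (hn : ∀ g, (∀ v ∈ V, g * v * g⁻¹ ∈ V) → ∀ l ∈ L, g * l * g⁻¹ ∈ L) {t : G}
    (ht : ∀ v ∈ V, t * v * t⁻¹ ∈ V) {z : G} (hz : z ∈ V) (hz1 : z ≠ 1) (hz0 : π z 1 = 0)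
    (hz0' : π (t * z * t⁻¹) 1 = 0) : ∀ v ∈ V, π v 1 = 0 → π (t * v * t⁻¹) 1 = 0 := by
  obtain ⟨σ, p, q, h, -⟩ := s.semi hn ht
  have h1 : π z 0 ≠ 0 := fun h0 => hz1 (s.inj z hz (ext2 h0 hz0))
  have h2 : p 1 = 0 := by
    rw [h z hz, hz0] at hz0'
    simp at hz0'
    exact hz0'.resolve_left h1
  intro v hv hv0
  rw [h v hv, hv0]
  simp [h2]

/-- `C_L(Z) = J` is normalised by the elements of `N(V) ∩ N(Z)` -/
theorem norm_J [Finite G] (hn : ∀ g, (∀ v ∈ V, g * v * g⁻¹ ∈ V) → ∀ l ∈ L, g * l * g⁻¹ ∈ L) {t : G}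
    (ht : ∀ v ∈ V, t * v * t⁻¹ ∈ V) (hZ : ∀ v ∈ V, π v 1 = 0 → π (t * v * t⁻¹) 1 = 0) :
    ∀ j ∈ J, t * j * t⁻¹ ∈ J := by
  -- the group `Z`
  let Z : Subgroup G :=
    { carrier := {v | v ∈ V ∧ π v 1 = 0}
      one_mem' := ⟨one_mem V, by rw [s.map_one]; rfl⟩
      mul_mem' := by
        rintro a b ⟨ha, ha'⟩ ⟨hb, hb'⟩
        exact ⟨mul_mem ha hb, by rw [s.mul a ha b hb, Pi.add_apply, ha', hb', add_zero]⟩
      inv_mem' := by
        rintro a ⟨ha, ha'⟩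
        exact ⟨inv_mem ha, by rw [s.map_inv ha, Pi.neg_apply, ha', neg_zero]⟩ }
  have htZ : t ∈ normalizer (Z : Set G) := mem_norm_iff.2 fun v hv => ⟨ht v hv.1, hZ v hv.1 hv.2⟩
  intro j hj
  apply s.mem_J_of_cent (hn t ht j (s.JL hj))
  intro v hv hv0
  have h1 := mem_norm_iff.1 (inv_mem htZ) v ⟨hv, hv0⟩
  rw [inv_inv] at h1
  have h2 := (s.fix_iff h1.1).2 h1.2 j hj
  calc t * j * t⁻¹ * v = t * (j * (t⁻¹ * v * t)) * t⁻¹ := by group
    _ = t * ((t⁻¹ * v * t) * j) * t⁻¹ := by rw [h2]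
    _ = _ := by group

end Side

end Cfsg.Agent.H282
end

-- part: H282/Pair
section
/-!
# helper282: two rank one parabolics on natural modules sharing `J = V₁V₂`
-/

set_option autoImplicit false
set_option linter.unusedSectionVars false

namespace Cfsg.Agent.H282

open Subgroup Cfsg.Agent.Omega.NatPair Cfsg.Agent.Lib.SL2Mat
open Cfsg.Agent.Omega.CloseA (Co3 Ctx Amb Lin pr)
open Cfsg.Agent.Omega.SQ1.MidOne (Mid)

universe u v w

variable {G : Type u} [Group G] {F : Type v} [Field F]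

/-- the parameter of `b ∈ J` -/
noncomputable def bet (J V : Subgroup G) (π : G → Fin 2 → F) (b : G) : F := by
  classical exact
    if h : b ∈ J ∧ ∃ c : F, ∀ v ∈ V, π (b * v * b⁻¹) = ap (up c) (π v) then h.2.choose else 0

namespace Side

variable {L V J : Subgroup G} {π : G → Fin 2 → F} (s : Side F L V J π)

include s

theorem bet_spec {b : G} (hb : b ∈ J) : ∀ v ∈ V, π (b * v * b⁻¹) = ap (up (bet J V π b)) (π v) := by
  have h : b ∈ J ∧ ∃ c : F, ∀ v ∈ V, π (b * v * b⁻¹) = ap (up c) (π v) := ⟨hb, s.upJ b hb⟩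
  rw [bet, dif_pos h]
  exact h.2.choose_spec

theorem bet_eq {b : G} (hb : b ∈ J) {c : F} (h : ∀ v ∈ V, π (b * v * b⁻¹) = ap (up c) (π v)) :
    bet J V π b = c :=
  up_inj (s.mat_unique (s.bet_spec hb) h)

theorem bet_mul {b c : G} (hb : b ∈ J) (hc : c ∈ J) : bet J V π (b * c) = bet J V π b + bet J V π c := by
  apply s.bet_eq (mul_mem hb hc)
  have := s.mat_mul (s.Vn c (s.JL hc)) (s.bet_spec hb) (s.bet_spec hc)
  rwa [up_mul] at this

theorem bet_zero_iff {b : G} (hb : b ∈ J) : bet J V π b = 0 ↔ b ∈ V := by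
  constructor
  · intro h
    apply s.ker b (s.JL hb)
    apply s.act_one (s.Vn b (s.JL hb))
    intro v hv
    rw [s.bet_spec hb v hv, h, up_zero, ap_one]
  · intro h
    apply s.bet_eq hb
    intro v hv
    rw [s.conj_cancel h hv, up_zero, ap_one]

theorem card [Finite F] : Nat.card V = Nat.card (Fin 2 → F) := by
  refine Nat.card_congr (Equiv.ofBijective (fun v : V => π v) ⟨?_, ?_⟩)
  · intro v w h
    exact Subtype.ext (s.eq_of v.2 w.2 h)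
  · intro x
    obtain ⟨v, hv, h⟩ := s.surj x
    exact ⟨⟨v, hv⟩, h⟩

end Side

/-- two sides with the same `J = V₁V₂` -/
structure Pair (F : Type v) [Field F] (L₁ L₂ V₁ V₂ J : Subgroup G) (π₁ π₂ : G → Fin 2 → F) : Prop where
  s₁ : Side F L₁ V₁ J π₁
  s₂ : Side F L₂ V₂ J π₂
  prod : ∀ j ∈ J, ∃ a ∈ V₁, ∃ b ∈ V₂, j = a * b

namespace Pair

variable {L₁ L₂ V₁ V₂ J : Subgroup G} {π₁ π₂ : G → Fin 2 → F}

theorem symm (h : Pair F L₁ L₂ V₁ V₂ J π₁ π₂) : Pair F L₂ L₁ V₂ V₁ J π₂ π₁ where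
  s₁ := h.s₂
  s₂ := h.s₁
  prod := by
    intro j hj
    obtain ⟨a, ha, b, hb, e⟩ := h.prod j⁻¹ (inv_mem hj)
    exact ⟨b⁻¹, inv_mem hb, a⁻¹, inv_mem ha, by rw [← mul_inv_rev, ← e, inv_inv]⟩

variable (h : Pair F L₁ L₂ V₁ V₂ J π₁ π₂)

include h

/-- `V₁ ∩ V₂` in coordinates -/
theorem mem_iff {v : G} (hv : v ∈ V₁) : v ∈ V₂ ↔ π₁ v 1 = 0 := by
  rw [← h.s₁.fix_iff hv]
  constructor
  · intro hv2 j hj
    obtain ⟨a, ha, b, hb, rfl⟩ := h.prod j hj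
    rw [mul_assoc, h.s₂.comm hb hv2, ← mul_assoc, h.s₁.comm ha hv, mul_assoc]
  · intro hc
    apply h.s₂.ker v (h.s₂.JL (h.s₁.VJ hv))
    intro w hw
    exact (hc w (h.s₂.VJ hw)).symm

theorem fixJ {v : G} (hv : v ∈ V₁) (hv2 : v ∈ V₂) : ∀ j ∈ J, j * v = v * j :=
  (h.s₁.fix_iff hv).2 ((h.mem_iff hv).1 hv2)

/-- `C_J(J) = V₁ ∩ V₂` -/
theorem mem_of_cent {g : G} (hg : g ∈ J) (hc : ∀ j ∈ J, g * j = j * g) : g ∈ V₁ ⊓ V₂ :=
  ⟨h.s₁.ker g (h.s₁.JL hg) fun v hv => hc v (h.s₁.VJ hv), h.s₂.ker g (h.s₂.JL hg) fun v hv => hc v (h.s₂.VJ hv)⟩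

theorem exists_out : ∃ u ∈ V₁, u ∉ V₂ := by
  obtain ⟨u, hu, e⟩ := h.s₁.surj ![0, 1]
  refine ⟨u, hu, fun h2 => ?_⟩
  have := (h.mem_iff hu).1 h2
  rw [e] at this
  simp at this

theorem exists_z : ∃ z ∈ V₁ ⊓ V₂, z ≠ 1 := by
  obtain ⟨u, hu, e⟩ := h.s₁.surj ![1, 0]
  refine ⟨u, ⟨hu, (h.mem_iff hu).2 (by rw [e]; rfl)⟩, fun h1 => ?_⟩
  rw [h1, h.s₁.map_one] at e
  have := congrFun e 0
  simp at this

/-- the coordinates of the Sylow 2-subgroup of `L₃(F)` -/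
theorem co3 [CharP F 2] : Co3 V₁ V₂ (V₁ ⊓ V₂) (fun u => π₁ u 1) (fun v => bet J V₁ π₁ v) (fun d => π₁ d 0) where
  sq₁ := fun u hu => h.s₁.sq hu
  sq₂ := fun u hu => h.s₂.sq hu
  inf := fun u => mem_inf
  x_mul := fun u hu v hv => by
    show π₁ (u * v) 1 = _
    rw [h.s₁.mul u hu v hv]; rfl
  x_surj := fun a => by
    obtain ⟨u, hu, e⟩ := h.s₁.surj ![0, a]
    exact ⟨u, hu, by show π₁ u 1 = a; rw [e]; rfl⟩
  x_ker := fun u hu => by
    show π₁ u 1 = 0 ↔ _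
    rw [mem_inf, ← h.mem_iff hu]
    exact ⟨fun h1 => ⟨hu, h1⟩, fun h1 => h1.2⟩
  y_mul := fun u hu v hv => h.s₁.bet_mul (h.s₂.VJ hu) (h.s₂.VJ hv)
  y_surj := fun c => by
    obtain ⟨b, hb, hc⟩ := h.s₁.cup c
    have h1 := h.s₁.bet_eq hb hc
    obtain ⟨a, ha, v, hv, rfl⟩ := h.prod b hb
    refine ⟨v, hv, ?_⟩
    rw [h.s₁.bet_mul (h.s₁.VJ ha) (h.s₂.VJ hv), (h.s₁.bet_zero_iff (h.s₁.VJ ha)).2 ha, zero_add] at h1
    exact h1
  y_ker := fun v hv => by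
    show bet J V₁ π₁ v = 0 ↔ _
    rw [h.s₁.bet_zero_iff (h.s₂.VJ hv), mem_inf]
    exact ⟨fun h1 => ⟨h1, hv⟩, fun h1 => h1.1⟩
  z_mul := fun u hu v hv => by
    show π₁ (u * v) 0 = _
    rw [h.s₁.mul u hu.1 v hv.1]; rfl
  z_surj := fun a => by
    obtain ⟨u, hu, e⟩ := h.s₁.surj ![a, 0]
    exact ⟨u, ⟨hu, (h.mem_iff hu).2 (by rw [e]; rfl)⟩, by show π₁ u 0 = a; rw [e]; rfl⟩
  z_inj := fun u hu h0 => h.s₁.inj u hu.1 (ext2 h0 ((h.mem_iff hu.1).1 hu.2))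
  mem := fun u hu v hv => by
    have e1 : u * v * u⁻¹ * v⁻¹ = u * (v * u⁻¹ * v⁻¹) := by group
    refine mem_inf.2 ⟨?_, mul_mem (h.s₂.Vn u (h.s₂.JL (h.s₁.VJ hu)) v hv) (inv_mem hv)⟩
    rw [e1]
    exact mul_mem hu (h.s₁.Vn v (h.s₁.JL (h.s₂.VJ hv)) _ (inv_mem hu))
  com := fun u hu v hv => by
    show π₁ (u * v * u⁻¹ * v⁻¹) 0 = π₁ u 1 * bet J V₁ π₁ v
    have hv' := h.s₁.Vn v (h.s₁.JL (h.s₂.VJ hv)) _ (inv_mem hu)
    have e1 : u * v * u⁻¹ * v⁻¹ = u * (v * u⁻¹ * v⁻¹) := by group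
    rw [e1, h.s₁.mul u hu _ hv', h.s₁.bet_spec (h.s₂.VJ hv) _ (inv_mem hu), Pi.add_apply, h.s₁.ap_up_zero,
      h.s₁.map_inv hu, Pi.neg_apply, Pi.neg_apply]
    have h2 : (2 : F) = 0 := CharTwo.two_eq_zero
    linear_combination (-(bet J V₁ π₁ v * π₁ u 1)) * h2

theorem card_eq [Finite F] : Nat.card V₁ = Nat.card V₂ := by rw [h.s₁.card, h.s₂.card]

theorem ctxJ [CharP F 2] : Ctx J J (V₁ ⊓ V₂) V₁ V₂ where
  le₁ := h.s₁.VJ
  le₂ := h.s₂.VJ
  n₁ := fun s hs => h.s₁.Vn s (h.s₁.JL hs)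
  n₂ := fun s hs => h.s₂.Vn s (h.s₂.JL hs)
  sq₁ := fun u hu => h.s₁.sq hu
  sq₂ := fun u hu => h.s₂.sq hu
  inf := fun u => mem_inf
  sup := fun g => ⟨h.prod g, by
    rintro ⟨a, ha, b, hb, rfl⟩
    exact mul_mem (h.s₁.VJ ha) (h.s₂.VJ hb)⟩
  faith₁ := fun s hs _ => hs
  faith₂ := fun s hs _ => hs

theorem isPGroup_J [CharP F 2] : IsPGroup 2 J := by
  rintro ⟨j, hj⟩
  refine ⟨2, Subtype.ext ?_⟩
  show j ^ 4 = 1
  obtain ⟨a, ha, b, hb, rfl⟩ := h.prod j hj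
  have h1 : a * b * (a * b) ∈ V₁ ⊓ V₂ := by
    have h2 := h.co3.mem a ha b hb
    have e : a * b * (a * b) = a * b * a⁻¹ * b⁻¹ * (b * (a * a) * b) := by group
    rw [e, h.s₁.sq ha, mul_one, h.s₂.sq hb, mul_one]
    exact h2
  have e : (a * b) ^ 4 = (a * b * (a * b)) * (a * b * (a * b)) := by
    simp only [pow_succ, pow_zero, one_mul, mul_assoc]
  rw [e]
  exact h.s₁.sq h1.1

theorem ambJ [Finite G] [Finite F] [CharP F 2] : Amb J J (V₁ ⊓ V₂) (pr V₁ V₂) := h.co3.amb h.ctxJ h.isPGroup_J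

/-- elementary abelian subgroups of `J` -/
theorem le_or [Finite G] [Finite F] [CharP F 2] {A : Subgroup G} (hA : A ≤ J) (h2 : ∀ a ∈ A, a * a = 1) :
    A ≤ V₁ ∨ A ≤ V₂ := by
  obtain ⟨j, hj⟩ := h.ambJ.le_or hA h2
  cases j
  · exact Or.inl hj
  · exact Or.inr hj

/-- involutions of `J` -/
theorem mem_or [Finite G] [Finite F] [CharP F 2] {a : G} (hA : a ∈ J) (h2 : a * a = 1) :
    a ∈ V₁ ∨ a ∈ V₂ := by
  have := h.le_or (A := zpowers a) (by rwa [zpowers_le]) (by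
    rintro _ ⟨n, rfl⟩
    show a ^ n * a ^ n = 1
    rw [← (Commute.refl a).mul_zpow, h2, one_zpow])
  rcases this with h1 | h1
  · exact Or.inl (h1 (mem_zpowers a))
  · exact Or.inr (h1 (mem_zpowers a))

theorem map_sq [CharP F 2] (g : G) : ∀ a ∈ V₁.map (MulAut.conj g).toMonoidHom, a * a = 1 := by
  rintro _ ⟨v, hv, rfl⟩
  rw [← map_mul, h.s₁.sq hv, map_one]

/-- elements of `N(J)` permute `V₁` and `V₂` -/
theorem perm [Finite G] [Finite F] [CharP F 2] {g : G} (hg : ∀ j ∈ J, g * j * g⁻¹ ∈ J) :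
    (∀ v ∈ V₁, g * v * g⁻¹ ∈ V₁) ∨ (∀ v ∈ V₁, g * v * g⁻¹ ∈ V₂) := by
  have := h.le_or (A := V₁.map (MulAut.conj g).toMonoidHom) (by
    rintro _ ⟨v, hv, rfl⟩
    exact hg v (h.s₁.VJ hv)) (h.map_sq g)
  rcases this with h1 | h1
  · exact Or.inl fun v hv => h1 ⟨v, hv, rfl⟩
  · exact Or.inr fun v hv => h1 ⟨v, hv, rfl⟩

/-- elements of `N(J) ∩ N(V₁)` normalise `V₂` -/
theorem perm₁ [Finite G] [Finite F] [CharP F 2] {g : G} (hg : ∀ j ∈ J, g * j * g⁻¹ ∈ J)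
    (h1 : ∀ v ∈ V₁, g * v * g⁻¹ ∈ V₁) : ∀ v ∈ V₂, g * v * g⁻¹ ∈ V₂ := by
  rcases h.symm.perm hg with h2 | h2
  · exact h2
  · exfalso
    obtain ⟨v, hv, hv1⟩ := h.symm.exists_out
    have hN : g ∈ normalizer (V₁ : Set G) := mem_norm_iff.2 h1
    exact hv1 (((mem_normalizer_iff.1 hN) v).2 (h2 v hv))

/-- elements of `N(J)` taking `V₁` to `V₂` take `V₂` to `V₁` -/
theorem perm₂ [Finite G] [Finite F] [CharP F 2] {g : G} (hg : ∀ j ∈ J, g * j * g⁻¹ ∈ J)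
    (h1 : ∀ v ∈ V₁, g * v * g⁻¹ ∈ V₂) : ∀ v ∈ V₂, g * v * g⁻¹ ∈ V₁ := by
  rcases h.symm.perm hg with h2 | h2
  · exfalso
    have e : V₁.map (MulAut.conj g).toMonoidHom = V₂ := by
      refine Subgroup.eq_of_le_of_card_ge ?_ ?_
      · rintro _ ⟨v, hv, rfl⟩
        exact h1 v hv
      · rw [← h.card_eq]
        exact (Nat.card_congr (V₁.equivMapOfInjective _ (MulAut.conj g).injective).toEquiv).le
    have e2 : V₂.map (MulAut.conj g).toMonoidHom = V₂ := by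
      refine Subgroup.eq_of_le_of_card_ge ?_ ?_
      · rintro _ ⟨v, hv, rfl⟩
        exact h2 v hv
      · exact (Nat.card_congr (V₂.equivMapOfInjective _ (MulAut.conj g).injective).toEquiv).le
    have e3 : V₁ = V₂ := Subgroup.map_injective (MulAut.conj g).injective (e.trans e2.symm)
    obtain ⟨v, hv, hv1⟩ := h.exists_out
    exact hv1 (e3 ▸ hv)
  · exact h2

theorem field {F' : Type w} [Field F'] (ρ : F ≃+* F') :
    Pair F' L₁ L₂ V₁ V₂ J (fun g i => ρ (π₁ g i)) (fun g i => ρ (π₂ g i)) where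
  s₁ := h.s₁.field ρ
  s₂ := h.s₂.field ρ
  prod := h.prod

theorem subgroupOf {E : Subgroup G} (h1 : L₁ ≤ E) (h2 : L₂ ≤ E) :
    Pair F (L₁.subgroupOf E) (L₂.subgroupOf E) (V₁.subgroupOf E) (V₂.subgroupOf E) (J.subgroupOf E)
      (fun g : E => π₁ g) (fun g : E => π₂ g) where
  s₁ := h.s₁.subgroupOf h1
  s₂ := h.s₂.subgroupOf h2
  prod := fun j hj => by
    obtain ⟨a, ha, b, hb, e⟩ := h.prod j (mem_subgroupOf.1 hj)
    exact ⟨⟨a, h1 (h.s₁.VL ha)⟩, mem_subgroupOf.2 ha, ⟨b, h2 (h.s₂.VL hb)⟩, mem_subgroupOf.2 hb, Subtype.ext e⟩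

end Pair

/-- two parabolics on natural modules, `C_G(V_i) = V_i`, `N_G(V_i)` normalises `L_i` -/
structure Dat (F : Type v) [Field F] (L₁ L₂ V₁ V₂ J : Subgroup G) (π₁ π₂ : G → Fin 2 → F) : Prop extends
    Pair F L₁ L₂ V₁ V₂ J π₁ π₂ where
  cen₁ : ∀ g, (∀ v ∈ V₁, g * v = v * g) → g ∈ V₁
  cen₂ : ∀ g, (∀ v ∈ V₂, g * v = v * g) → g ∈ V₂
  nrm₁ : ∀ g, (∀ v ∈ V₁, g * v * g⁻¹ ∈ V₁) → ∀ l ∈ L₁, g * l * g⁻¹ ∈ L₁
  nrm₂ : ∀ g, (∀ v ∈ V₂, g * v * g⁻¹ ∈ V₂) → ∀ l ∈ L₂, g * l * g⁻¹ ∈ L₂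

namespace Dat

variable {L₁ L₂ V₁ V₂ J : Subgroup G} {π₁ π₂ : G → Fin 2 → F}

theorem symm (h : Dat F L₁ L₂ V₁ V₂ J π₁ π₂) : Dat F L₂ L₁ V₂ V₁ J π₂ π₁ where
  toPair := h.toPair.symm
  cen₁ := h.cen₂
  cen₂ := h.cen₁
  nrm₁ := h.nrm₂
  nrm₂ := h.nrm₁

theorem field (h : Dat F L₁ L₂ V₁ V₂ J π₁ π₂) {F' : Type w} [Field F'] (ρ : F ≃+* F') :
    Dat F' L₁ L₂ V₁ V₂ J (fun g i => ρ (π₁ g i)) (fun g i => ρ (π₂ g i)) where
  toPair := h.toPair.field ρ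
  cen₁ := h.cen₁
  cen₂ := h.cen₂
  nrm₁ := h.nrm₁
  nrm₂ := h.nrm₂

theorem subgroupOf (h : Dat F L₁ L₂ V₁ V₂ J π₁ π₂) {E : Subgroup G} (h1 : L₁ ≤ E) (h2 : L₂ ≤ E) :
    Dat F (L₁.subgroupOf E) (L₂.subgroupOf E) (V₁.subgroupOf E) (V₂.subgroupOf E) (J.subgroupOf E)
      (fun g : E => π₁ g) (fun g : E => π₂ g) where
  toPair := h.toPair.subgroupOf h1 h2
  cen₁ := fun g hg => mem_subgroupOf.2 (h.cen₁ g fun v hv =>
    congrArg Subtype.val (hg ⟨v, h1 (h.s₁.VL hv)⟩ (mem_subgroupOf.2 hv)))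
  cen₂ := fun g hg => mem_subgroupOf.2 (h.cen₂ g fun v hv =>
    congrArg Subtype.val (hg ⟨v, h2 (h.s₂.VL hv)⟩ (mem_subgroupOf.2 hv)))
  nrm₁ := fun g hg l hl => mem_subgroupOf.2 (h.nrm₁ g (fun v hv =>
    mem_subgroupOf.1 (hg ⟨v, h1 (h.s₁.VL hv)⟩ (mem_subgroupOf.2 hv))) l (mem_subgroupOf.1 hl))
  nrm₂ := fun g hg l hl => mem_subgroupOf.2 (h.nrm₂ g (fun v hv =>
    mem_subgroupOf.1 (hg ⟨v, h2 (h.s₂.VL hv)⟩ (mem_subgroupOf.2 hv))) l (mem_subgroupOf.1 hl))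

variable (h : Dat F L₁ L₂ V₁ V₂ J π₁ π₂) [Finite G] [Finite F] [CharP F 2]

include h

/-- an element of `N(V₁)` acting as an element of `J` lies in `J` -/
theorem mem_J {t : G} (ht : ∀ v ∈ V₁, t * v * t⁻¹ ∈ V₁) {c : F}
    (hc : ∀ v ∈ V₁, π₁ (t * v * t⁻¹) = ap (up c) (π₁ v)) : t ∈ J := by
  obtain ⟨b, hb, hbc⟩ := h.s₁.cup c
  have h1 : t * b⁻¹ ∈ V₁ := by
    apply h.cen₁
    have hbi : ∀ v ∈ V₁, b⁻¹ * v * b⁻¹⁻¹ ∈ V₁ := h.s₁.Vn _ (inv_mem (h.s₁.JL hb))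
    apply h.s₁.act_one
    · intro v hv
      have e : t * b⁻¹ * v * (t * b⁻¹)⁻¹ = t * (b⁻¹ * v * b⁻¹⁻¹) * t⁻¹ := by group
      rw [e]
      exact ht _ (hbi v hv)
    · intro v hv
      rw [h.s₁.mat_mul hbi hc (h.s₁.mat_inv (fun v hv => h.s₁.Vn' (h.s₁.JL hb) hv) hbc) v hv, mul_inv_cancel,
        ap_one]
  have h2 := mul_mem (h.s₁.VJ h1) hb
  rwa [inv_mul_cancel_right] at h2

/-- 2-elements of `N(V₁) ∩ C(Z)` -/
theorem mem_J_of_cent {t : G} (ht : ∀ v ∈ V₁, t * v * t⁻¹ ∈ V₁) {k : ℕ} (hk : t ^ 2 ^ k = 1)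
    (hZ : ∀ z ∈ V₁ ⊓ V₂, t * z = z * t) : t ∈ J := by
  obtain ⟨c, hc⟩ := h.s₁.lin_of h.nrm₁ ht hk fun v hv h0 => hZ v ⟨hv, (h.mem_iff hv).2 h0⟩
  exact h.mem_J ht hc

/-- 2-elements of `N(V₁)` trivial on `V₁/Z` -/
theorem mem_J_of_quot {t : G} (ht : ∀ v ∈ V₁, t * v * t⁻¹ ∈ V₁) {k : ℕ} (hk : t ^ 2 ^ k = 1)
    (hZ : ∀ v ∈ V₁, t * v * t⁻¹ * v ∈ V₂) : t ∈ J := by
  obtain ⟨c, hc⟩ := h.s₁.lin_of' h.nrm₁ ht hk fun v hv => by
    have h1 := (h.mem_iff (mul_mem (ht v hv) hv)).1 (hZ v hv)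
    rw [h.s₁.mul _ (ht v hv) v hv, Pi.add_apply] at h1
    exact CharTwo.add_eq_zero.1 h1
  exact h.mem_J ht hc

theorem pow_of {P : Subgroup G} (hP : IsPGroup 2 P) {t : G} (ht : t ∈ P) : ∃ k : ℕ, t ^ 2 ^ k = 1 := by
  obtain ⟨k, hk⟩ := hP ⟨t, ht⟩
  exact ⟨k, congrArg Subtype.val hk⟩

/-- `S` normalises `V₁` and `V₂` -/
theorem ctx {P : Subgroup G} (hP : IsPGroup 2 P) (hJ : J ≤ P) (n₁ : ∀ s ∈ P, ∀ a ∈ V₁, s * a * s⁻¹ ∈ V₁)
    (n₂ : ∀ s ∈ P, ∀ a ∈ V₂, s * a * s⁻¹ ∈ V₂) : Ctx P J (V₁ ⊓ V₂) V₁ V₂ where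
  le₁ := h.s₁.VJ.trans hJ
  le₂ := h.s₂.VJ.trans hJ
  n₁ := n₁
  n₂ := n₂
  sq₁ := fun u hu => h.s₁.sq hu
  sq₂ := fun u hu => h.s₂.sq hu
  inf := fun u => mem_inf
  sup := h.ctxJ.sup
  faith₁ := fun s hs h1 => by
    obtain ⟨k, hk⟩ := h.pow_of hP hs
    exact h.mem_J_of_quot (n₁ s hs) hk fun v hv => (h1 v hv).2
  faith₂ := fun s hs h1 => by
    obtain ⟨k, hk⟩ := h.pow_of hP hs
    exact h.symm.mem_J_of_quot (n₂ s hs) hk fun v hv => (h1 v hv).1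

/-- a group normalising `V₁`, `V₂` -/
theorem lin₁ {S : Subgroup G} (hS : IsPGroup 2 S) (hJ : J ≤ S) (n₁ : ∀ s ∈ S, ∀ a ∈ V₁, s * a * s⁻¹ ∈ V₁) :
    Lin S J (V₁ ⊓ V₂) V₁ (normalizer (V₁ : Set G)) L₁ ⊥ where
  SP := fun s hs => mem_norm_iff.2 (n₁ s hs)
  PQ := fun p hp => mem_norm_iff.1 hp
  PL := fun p hp => h.nrm₁ p (mem_norm_iff.1 hp)
  PC := fun p _ c hc => by rw [mem_bot] at hc ⊢; rw [hc]; group
  CD := bot_le
  LS := fun s hs => by
    refine ⟨fun hsL => ?_, fun hsJ => h.s₁.JL hsJ⟩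
    have h1 : S ⊓ L₁ = J := h.s₁.syl (hS.to_le inf_le_left) (le_inf hJ h.s₁.JL) inf_le_right
    rw [← h1]
    exact ⟨hs, hsL⟩
  cov := fun a ha => by
    by_cases ha1 : a = 1
    · exact ⟨1, one_mem _, by rw [ha1]; simp⟩
    · obtain ⟨z, hz, hz1⟩ := h.exists_z
      obtain ⟨l, hl, e⟩ := h.s₁.trans ha hz.1 ha1 hz1
      exact ⟨l, mem_norm_iff.2 (h.s₁.Vn l hl), by rw [e]; exact hz⟩
  line := fun p hp hex d hd hd' => by
    obtain ⟨d₀, hd₀, hnd⟩ := hex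
    rw [mem_bot]
    by_contra hd1
    apply hnd
    have hpV := mem_norm_iff.1 hp
    have h1 := h.s₁.line h.nrm₁ hpV hd.1 hd1 ((h.mem_iff hd.1).1 hd.2) ((h.mem_iff hd'.1).1 hd'.2) d₀ hd₀.1
      ((h.mem_iff hd₀.1).1 hd₀.2)
    exact ⟨hpV _ hd₀.1, (h.mem_iff (hpV _ hd₀.1)).2 h1⟩
  cen := h.cen₁

end Dat

end Cfsg.Agent.H282
end

-- part: H282/Cob
section
/-!
# helper282: cocycles of `L` with values in `V` trivial on `J` are coboundaries
-/

set_option autoImplicit false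
set_option linter.unusedSectionVars false

namespace Cfsg.Agent.H282

open Subgroup Cfsg Cfsg.Agent.Omega.NatPair Cfsg.Agent.Lib.SL2Mat

universe u v

variable {G : Type u} [Group G] {F : Type v} [Field F]

namespace Side

variable {L V J : Subgroup G} {π : G → Fin 2 → F} (s : Side F L V J π)

include s

/-- `C_V(L) = 1` -/
theorem eq_one_of_cent {c : G} (hc : c ∈ V) (h : ∀ l ∈ L, l * c = c * l) : c = 1 := by
  by_contra hc1
  have key : ∀ w ∈ V, w ≠ 1 → w = c := by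
    intro w hw hw1
    obtain ⟨l, hl, e⟩ := s.trans hc hw hc1 hw1
    rw [← e, h l hl, mul_inv_cancel_right]
  obtain ⟨v, hv, e⟩ := s.surj ![1, 0]
  obtain ⟨w, hw, e'⟩ := s.surj ![0, 1]
  have h1 : v ≠ 1 := by
    rintro rfl
    rw [s.map_one] at e
    have := congrFun e 0
    simp at this
  have h2 : w ≠ 1 := by
    rintro rfl
    rw [s.map_one] at e'
    have := congrFun e' 1
    simp at this
  have h3 := (key v hv h1).trans (key w hw h2).symm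
  rw [h3, e'] at e
  have := congrFun e 0
  simp at this

/-- `[c, l] ∈ V` if `c` centralises `V` -/
theorem del_mem {c : G} (hc : ∀ v ∈ V, c * v = v * c) (hn : ∀ l ∈ L, c * l * c⁻¹ ∈ L) {l : G} (hl : l ∈ L) :
    c * l * c⁻¹ * l⁻¹ ∈ V := by
  apply s.ker _ (mul_mem (hn l hl) (inv_mem hl))
  intro v hv
  have h1 : c⁻¹ * (l⁻¹ * v * l) = (l⁻¹ * v * l) * c⁻¹ := by
    have h2 := hc _ (s.Vn' hl hv)
    rw [inv_mul_eq_iff_eq_mul, ← mul_assoc, h2, mul_inv_cancel_right]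
  have h3 := hc v hv
  calc c * l * c⁻¹ * l⁻¹ * v = c * l * (c⁻¹ * (l⁻¹ * v * l)) * l⁻¹ := by group
    _ = c * l * ((l⁻¹ * v * l) * c⁻¹) * l⁻¹ := by rw [h1]
    _ = (c * v) * l * c⁻¹ * l⁻¹ := by group
    _ = (v * c) * l * c⁻¹ * l⁻¹ := by rw [h3]
    _ = v * (c * l * c⁻¹ * l⁻¹) := by group

/-- the square of `c ∈ C(V)` centralises `L` -/
theorem sq_cent [CharP F 2] {c : G} (hc : ∀ v ∈ V, c * v = v * c) (hn : ∀ l ∈ L, c * l * c⁻¹ ∈ L) {l : G}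
    (hl : l ∈ L) : (c * c) * l = l * (c * c) := by
  have h1 := s.del_mem hc hn hl
  have h2 := hc _ h1
  have e : c * l = (c * l * c⁻¹ * l⁻¹) * (l * c) := by group
  have h3 := s.sq h1
  generalize c * l * c⁻¹ * l⁻¹ = d at h2 h3 e
  calc (c * c) * l = c * (c * l) := by rw [mul_assoc]
    _ = (c * d) * (l * c) := by rw [e, mul_assoc]
    _ = d * ((c * l) * c) := by rw [h2]; simp only [mul_assoc]
    _ = (d * d) * (l * (c * c)) := by rw [e]; simp only [mul_assoc]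
    _ = l * (c * c) := by rw [h3, one_mul]

/-- elements centralising `J` are `u r` with `u ∈ C_V(J)`, `r ∈ C(L)` -/
theorem cob [Finite G] [Finite F] [CharP F 2] {c : G} (hc : ∀ j ∈ J, c * j = j * c)
    (hn : ∀ l ∈ L, c * l * c⁻¹ ∈ L) :
    ∃ u ∈ V, (∀ j ∈ J, u * j = j * u) ∧ ∀ l ∈ L, (u⁻¹ * c) * l = l * (u⁻¹ * c) := by
  classical
  have hf : Fact (Nat.Prime 2) := ⟨Nat.prime_two⟩
  have hcV : ∀ v ∈ V, c * v = v * c := fun v hv => hc v (s.VJ hv)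
  let K : Subgroup L := J.subgroupOf L
  have hJ2 : IsPGroup 2 J := by
    rintro ⟨j, hj⟩
    refine ⟨2, Subtype.ext ?_⟩
    show j ^ 2 ^ 2 = 1
    obtain ⟨a, ha⟩ := s.upJ j hj
    have h1 : j * j ∈ V := by
      apply s.ker _ (s.JL (mul_mem hj hj))
      apply s.act_one (s.Vn _ (s.JL (mul_mem hj hj)))
      intro v hv
      rw [s.mat_mul (s.Vn j (s.JL hj)) ha ha v hv, up_mul, CharTwo.add_self_eq_zero, up_zero, ap_one]
    have h2 := s.sq h1
    have e : j ^ 2 ^ 2 = (j * j) * (j * j) := by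
      norm_num
      simp only [pow_succ, pow_zero, one_mul, mul_assoc]
    rw [e, h2]
  have hK : IsPGroup 2 K := hJ2.comap_subtype
  let P : Sylow 2 L :=
    { toSubgroup := K
      isPGroup' := hK
      is_maximal' := by
        intro Q hQ hKQ
        have h1 : Q.map L.subtype = J := s.syl (hQ.map _) (by
          intro j hj
          exact ⟨⟨j, s.JL hj⟩, hKQ (mem_subgroupOf.2 hj), rfl⟩) (map_subtype_le Q)
        refine le_antisymm ?_ hKQ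
        intro q hq
        rw [mem_subgroupOf, ← h1]
        exact ⟨q, hq, rfl⟩ }
  have hodd : ¬ 2 ∣ K.index := P.not_dvd_index
  have _ : Finite (L ⧸ K) := inferInstance
  have _ := Fintype.ofFinite (L ⧸ K)
  let D : L → Fin 2 → F := fun l => π (c * l * c⁻¹ * (l : G)⁻¹)
  have hD : ∀ l m : L, ∀ A : Matrix.SpecialLinearGroup (Fin 2) F,
      (∀ v ∈ V, π (l * v * (l : G)⁻¹) = ap A (π v)) → D (l * m) = D l + ap A (D m) := by
    intro l m A hA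
    have h1 := s.del_mem hcV hn l.2
    have h2 := s.del_mem hcV hn m.2
    show π (c * (l * m : G) * c⁻¹ * (l * m : G)⁻¹) = π (c * l * c⁻¹ * (l : G)⁻¹) + ap A (π (c * m * c⁻¹ * (m : G)⁻¹))
    rw [← hA _ h2, ← s.mul _ h1 _ (s.Vn l l.2 _ h2)]
    congr 1
    group
  have hDJ : ∀ l m : L, m ∈ K → D (l * m) = D l := by
    intro l m hm
    obtain ⟨A, hA⟩ := s.ind l l.2
    rw [hD l m A hA]
    have h1 : D m = 0 := by
      show π (c * m * c⁻¹ * (m : G)⁻¹) = 0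
      rw [hc m (mem_subgroupOf.1 hm), mul_inv_cancel_right, mul_inv_cancel, s.map_one]
    rw [h1]
    have h2 := ap_add A 0 0
    rw [add_zero] at h2
    rw [left_eq_add.1 h2, add_zero]
  let f : L ⧸ K → Fin 2 → F := fun x => D x.out
  have hf' : ∀ l : L, f (l : L ⧸ K) = D l := by
    intro l
    obtain ⟨k, hk⟩ := QuotientGroup.mk_out_eq_mul K l
    show D (l : L ⧸ K).out = D l
    rw [hk, hDJ l k k.2]
  obtain ⟨u, hu, hU⟩ := s.surj (∑ x, f x)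
  have key : ∀ l ∈ L, c * l * c⁻¹ * l⁻¹ = u * l * u⁻¹ * l⁻¹ := by
    intro l hl
    obtain ⟨A, hA⟩ := s.ind l hl
    have h1 : ∑ x, f x = ∑ x : L ⧸ K, f ((⟨l, hl⟩ : L) • x) :=
      (Equiv.sum_comp (MulAction.toPerm (⟨l, hl⟩ : L) : Equiv.Perm (L ⧸ K)) f).symm
    have h2 : ∀ x : L ⧸ K, f ((⟨l, hl⟩ : L) • x) = D ⟨l, hl⟩ + ap A (f x) := by
      intro x
      induction x using QuotientGroup.induction_on with
      | _ m =>
        have e : ((⟨l, hl⟩ : L) • (m : L ⧸ K)) = ((⟨l, hl⟩ * m : L) : L ⧸ K) := rfl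
        rw [e, hf', hf', hD _ _ A hA]
    let g : (Fin 2 → F) →+ (Fin 2 → F) := AddMonoidHom.mk' (ap A) (ap_add A)
    have h3 : ∑ x : L ⧸ K, f ((⟨l, hl⟩ : L) • x) = D ⟨l, hl⟩ + ap A (∑ x, f x) := by
      rw [Finset.sum_congr rfl fun x _ => h2 x, Finset.sum_add_distrib, Finset.sum_const, Finset.card_univ,
        ← Nat.card_eq_fintype_card]
      have h4 : Nat.card (L ⧸ K) = K.index := rfl
      have h5 : K.index • D ⟨l, hl⟩ = D ⟨l, hl⟩ := by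
        obtain ⟨k, hk⟩ : Odd K.index := by rwa [← Nat.not_even_iff_odd, even_iff_two_dvd]
        rw [hk, add_smul, one_smul, mul_comm, mul_smul, two_nsmul]
        have h6 : D ⟨l, hl⟩ + D ⟨l, hl⟩ = 0 := by
          funext i
          exact CharTwo.add_self_eq_zero _
        rw [h6, smul_zero, zero_add]
      rw [h4, h5]
      congr 1
      exact (map_sum g f Finset.univ).symm
    rw [← h1, ← hU] at h3
    have h4 := s.del_mem hcV hn hl
    have h5 := s.Vn l hl _ (inv_mem hu)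
    have e : u * l * u⁻¹ * l⁻¹ = u * (l * u⁻¹ * l⁻¹) := by group
    rw [e]
    refine s.eq_of h4 (mul_mem hu h5) ?_
    rw [s.mul u hu _ h5, hA _ (inv_mem hu), s.map_inv hu]
    have h6 : ap A (- π u) = - ap A (π u) := map_neg g _
    rw [h6]
    show D ⟨l, hl⟩ = _
    rw [eq_add_neg_iff_add_eq]
    exact h3.symm
  have key2 : ∀ l ∈ L, c * l * c⁻¹ = u * l * u⁻¹ := fun l hl => mul_right_cancel (key l hl)
  refine ⟨u, hu, ?_, ?_⟩
  · intro j hj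
    have h1 := key2 j (s.JL hj)
    rw [hc j hj, mul_inv_cancel_right] at h1
    exact (mul_inv_eq_iff_eq_mul.1 h1.symm)
  · intro l hl
    have h1 := key2 l hl
    calc u⁻¹ * c * l = u⁻¹ * (c * l * c⁻¹) * c := by group
      _ = u⁻¹ * (u * l * u⁻¹) * c := by rw [h1]
      _ = l * (u⁻¹ * c) := by group

end Side

end Cfsg.Agent.H282
end

-- part: H282/Case
section
/-!
# helper282: the 2-groups above `J = V₁V₂`
-/

set_option autoImplicit false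
set_option linter.unusedSectionVars false

namespace Cfsg.Agent.H282

open Subgroup Cfsg Cfsg.Agent.Omega.NatPair Cfsg.Agent.Lib.SL2Mat
open Cfsg.Agent.Omega.CloseA (Co3 Ctx Amb Lin pr)
open Cfsg.Agent.Omega.SQ1.MidOne (Mid)

universe u v

variable {G : Type u} [Group G] {F : Type v} [Field F]


namespace Dat

variable {L₁ L₂ V₁ V₂ J : Subgroup G} {π₁ π₂ : G → Fin 2 → F}
variable (h : Dat F L₁ L₂ V₁ V₂ J π₁ π₂) [Finite G] [Finite F] [CharP F 2]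

include h

/-- 2-elements of `N(V₁)` over `J` normalise `J` -/
theorem TB {S : Subgroup G} (hS : IsPGroup 2 S) (hJ : J ≤ S) {t : G} (ht : t ∈ S)
    (htV : ∀ v ∈ V₁, t * v * t⁻¹ ∈ V₁) : ∀ j ∈ J, t * j * t⁻¹ ∈ J := by
  intro j hj
  have h1 : S ⊓ L₁ = J := h.s₁.syl (hS.to_le inf_le_left) (le_inf hJ h.s₁.JL) inf_le_right
  rw [← h1]
  exact mem_inf.2 ⟨mul_mem (mul_mem ht (hJ hj)) (inv_mem ht), h.nrm₁ t htV j (h.s₁.JL hj)⟩

/-- `s` interchanges `V₁` and `V₂` -/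
theorem mid {S : Subgroup G} (hS : IsPGroup 2 S) (hJ : J ≤ S) {s : G} (hs : s ∈ S)
    (hsJ : ∀ j ∈ J, s * j * s⁻¹ ∈ J) (hs1 : ∀ v ∈ V₁, s * v * s⁻¹ ∈ V₂) :
    Nonempty (Mid F (normalizer (V₁ : Set G)) (S ⊓ normalizer (V₁ : Set G)) J V₁ (V₁ ⊓ V₂) ⊥ L₁ s) := by
  have hs2 := h.perm₂ hsJ hs1
  have e1 : V₁.map (MulAut.conj s).toMonoidHom = V₂ := by
    refine Subgroup.eq_of_le_of_card_ge ?_ ?_
    · rintro _ ⟨v, hv, rfl⟩
      exact hs1 v hv
    · rw [← h.card_eq]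
      exact (Nat.card_congr (V₁.equivMapOfInjective _ (MulAut.conj s).injective).toEquiv).le
  have e2 : V₂.map (MulAut.conj s).toMonoidHom = V₁ := by
    refine Subgroup.eq_of_le_of_card_ge ?_ ?_
    · rintro _ ⟨v, hv, rfl⟩
      exact hs2 v hv
    · rw [h.card_eq]
      exact (Nat.card_congr (V₂.equivMapOfInjective _ (MulAut.conj s).injective).toEquiv).le
  have i1 : ∀ w ∈ V₂, ∃ v ∈ V₁, w = s * v * s⁻¹ := by
    intro w hw
    rw [← e1] at hw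
    obtain ⟨v, hv, rfl⟩ := hw
    exact ⟨v, hv, rfl⟩
  have i2 : ∀ v, s * v * s⁻¹ ∈ V₁ → v ∈ V₂ := by
    intro v hv
    rw [← e2] at hv
    obtain ⟨w, hw, e⟩ := hv
    have : w = v := (MulAut.conj s).injective e
    rwa [← this]
  have i3 : ∀ v, s * v * s⁻¹ ∈ V₂ → v ∈ V₁ := by
    intro v hv
    rw [← e1] at hv
    obtain ⟨w, hw, e⟩ := hv
    have : w = v := (MulAut.conj s).injective e
    rwa [← this]
  have hT : ∀ t, t ∈ S ⊓ normalizer (V₁ : Set G) ↔ t ∈ S ∧ ∀ v ∈ V₁, t * v * t⁻¹ ∈ V₁ := fun t => by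
    rw [mem_inf, mem_norm_iff]
  have hT2 : ∀ t ∈ S ⊓ normalizer (V₁ : Set G), ∀ v ∈ V₂, t * v * t⁻¹ ∈ V₂ := fun t ht =>
    h.perm₁ (h.TB hS hJ ((hT t).1 ht).1 ((hT t).1 ht).2) ((hT t).1 ht).2
  have hsi : ∀ v ∈ V₁, s⁻¹ * v * s ∈ V₂ := fun v hv => i2 _ (by
    have e : s * (s⁻¹ * v * s) * s⁻¹ = v := by group
    rwa [e])
  exact ⟨
  { toNatSec := h.s₁.sec h.nrm₁
    TH := inf_le_right
    LH := fun l hl => mem_norm_iff.2 (h.s₁.Vn l hl)
    BT := fun j hj => (hT j).2 ⟨hJ hj, h.s₁.Vn j (h.s₁.JL hj)⟩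
    BL := h.s₁.JL
    YB := h.s₁.VJ
    ZY := inf_le_left
    two := hS.to_le inf_le_left
    TL := fun t ht => h.nrm₁ t ((hT t).1 ht).2
    TB := fun t ht => h.TB hS hJ ((hT t).1 ht).1 ((hT t).1 ht).2
    TZ := fun t ht z hz => ⟨((hT t).1 ht).2 z hz.1, hT2 t ht z hz.2⟩
    ind := h.s₁.ind
    liftL := h.s₁.lift
    kerL := fun l hl hv => h.s₁.ker l hl (h.s₁.act_one (h.s₁.Vn l hl) hv)
    upB := h.s₁.upJ
    cup := h.s₁.cup
    Zpi := fun y hy => by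
      rw [mem_inf, and_iff_right hy]
      exact h.mem_iff hy
    cC := by
      intro c
      rw [mem_bot]
      constructor
      · rintro rfl
        exact ⟨one_mem _, fun l _ => by simp⟩
      · rintro ⟨hc, hc'⟩
        exact h.s₁.eq_one_of_cent hc hc'
    Ycomm := fun x hx y hy => h.s₁.comm hx hy
    Ysq := fun y hy => h.s₁.sq hy
    BcZ := fun b hb z hz => h.fixJ hz.1 hz.2 b hb
    cent := by
      intro t ht hZ
      obtain ⟨k, hk⟩ := h.pow_of hS ((hT t).1 ht).1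
      exact h.mem_J_of_cent ((hT t).1 ht).2 hk hZ
    sT := by
      intro t ht
      refine (hT _).2 ⟨mul_mem (mul_mem hs ((hT t).1 ht).1) (inv_mem hs), fun v hv => ?_⟩
      have e : s * t * s⁻¹ * v * (s * t * s⁻¹)⁻¹ = s * (t * (s⁻¹ * v * s) * t⁻¹) * s⁻¹ := by group
      rw [e]
      exact hs2 _ (hT2 t ht _ (hsi v hv))
    ss := by
      refine (hT _).2 ⟨mul_mem hs hs, fun v hv => ?_⟩
      have e : s * s * v * (s * s)⁻¹ = s * (s * v * s⁻¹) * s⁻¹ := by group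
      rw [e]
      exact hs2 _ (hs1 v hv)
    sB := hsJ
    sZ := fun z hz => ⟨hs2 z hz.2, hs1 z hz.1⟩
    prod := by
      intro b hb
      obtain ⟨y, hy, w, hw, rfl⟩ := h.prod b hb
      obtain ⟨v, hv, rfl⟩ := i1 w hw
      exact ⟨y, hy, v, hv, rfl⟩
    inf := fun y hy hy' => ⟨hy, i2 y hy'⟩
    CC := fun c hc _ => mem_bot.1 hc }⟩

/-- the two cases -/
theorem cases {S : Subgroup G} (hS : IsPGroup 2 S) (hJ : J ≤ S) :
    (∀ s ∈ S, (∀ v ∈ V₁, s * v * s⁻¹ ∈ V₁) ∧ (∀ v ∈ V₂, s * v * s⁻¹ ∈ V₂)) ∨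
      ∃ s ∈ S, Nonempty (Mid F (normalizer (V₁ : Set G)) (S ⊓ normalizer (V₁ : Set G)) J V₁ (V₁ ⊓ V₂) ⊥ L₁ s) := by
  by_cases hB : ∃ s ∈ S, (∀ j ∈ J, s * j * s⁻¹ ∈ J) ∧ ∀ v ∈ V₁, s * v * s⁻¹ ∈ V₂
  · obtain ⟨s, hs, hsJ, hs1⟩ := hB
    exact Or.inr ⟨s, hs, h.mid hS hJ hs hsJ hs1⟩
  · left
    have hf : Fact (Nat.Prime 2) := ⟨Nat.prime_two⟩
    set T : Subgroup G := S ⊓ normalizer (V₁ : Set G) with hTdef
    have hT : ∀ t, t ∈ T ↔ t ∈ S ∧ ∀ v ∈ V₁, t * v * t⁻¹ ∈ V₁ := fun t => by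
      rw [hTdef, mem_inf, mem_norm_iff]
    have hTJ : ∀ t ∈ T, ∀ j ∈ J, t * j * t⁻¹ ∈ J := fun t ht => h.TB hS hJ ((hT t).1 ht).1 ((hT t).1 ht).2
    have hT2 : ∀ t ∈ T, ∀ v ∈ V₂, t * v * t⁻¹ ∈ V₂ := fun t ht =>
      h.perm₁ (hTJ t ht) ((hT t).1 ht).2
    have hJT : J ≤ T := fun j hj => (hT j).2 ⟨hJ hj, h.s₁.Vn j (h.s₁.JL hj)⟩
    have hT2g : IsPGroup 2 T := hS.to_le inf_le_left
    have ha : Amb T J (V₁ ⊓ V₂) (pr V₁ V₂) :=
      h.co3.amb (h.ctx hT2g hJT (fun t ht => ((hT t).1 ht).2) hT2) hT2g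
    have hne : ∀ i, ∃ a ∈ pr V₁ V₂ i, a ∉ V₁ ⊓ V₂ := by
      rintro (_ | _)
      · obtain ⟨u, hu, hu2⟩ := h.exists_out
        exact ⟨u, hu, fun hc => hu2 hc.2⟩
      · obtain ⟨u, hu, hu2⟩ := h.symm.exists_out
        exact ⟨u, hu, fun hc => hu2 hc.1⟩
    have hST : S ≤ T := by
      by_contra hc
      have hnil : Group.IsNilpotent ↥S := hS.isNilpotent
      have h1 : T.subgroupOf S < ⊤ := by
        rw [lt_top_iff_ne_top]
        intro h2
        exact hc (subgroupOf_eq_top.1 h2)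
      have h2 := Group.normalizerCondition_of_isNilpotent (G := ↥S) _ h1
      obtain ⟨g, hg, hgT⟩ := Set.exists_of_ssubset h2
      apply hgT
      rw [SetLike.mem_coe, mem_subgroupOf]
      have h3 : ∀ x ∈ J, (g : G) * x * (g : G)⁻¹ ∈ T := by
        intro x hx
        have h4 := (mem_normalizer_iff.1 hg ⟨x, hJ hx⟩).1 (by rw [mem_subgroupOf]; exact hJT hx)
        rwa [mem_subgroupOf] at h4
      have h4 := (ha.weak hne h3).2
      refine (hT _).2 ⟨g.2, ?_⟩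
      exact (h.perm h4).resolve_right fun h5 => hB ⟨g, g.2, h4, h5⟩
    exact fun s hs => ⟨((hT s).1 (hST hs)).2, hT2 s (hST hs)⟩

/-- **`q = 4`** -/
theorem rank (hF : Nat.card F = 4) : SectionalPRankLE 2 4 G := by
  have hf : Fact (Nat.Prime 2) := ⟨Nat.prime_two⟩
  obtain ⟨S, hS⟩ := h.isPGroup_J.exists_le_sylow
  rcases h.cases S.isPGroup' hS with hA | ⟨s, hs, ⟨M⟩⟩
  · exact h.co3.rank_four S (h.ctx S.isPGroup' hS (fun s hs => (hA s hs).1) fun s hs => (hA s hs).2) hF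
  · have hb := M.base S.isPGroup' inf_le_left hs (fun x hx hxa => ⟨hx, mem_norm_iff.2 hxa⟩) (by rw [hF])
    rw [hF] at hb
    refine Cfsg.Agent.Omega.SQ1.RankFourOf.rank_four_of_sylow hb ?_
    rw [h.co3.card_D, hF]

end Dat

end Cfsg.Agent.H282
end

-- part: H282/Loc
section
/-!
# helper282: `C_G(V₁) = V₁`, `C_G(V₂) = V₂` in groups of characteristic 2 type

`Sit`: a pair with `N_G(V_i) ≤ N_G(L_i)`, and no nontrivial 2-subgroup is normalised by `N_G(L₁)` and centralised by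
`L₁` and `L₂`.
-/

set_option autoImplicit false
set_option linter.unusedSectionVars false

namespace Cfsg.Agent.H282

open Subgroup Cfsg Cfsg.Agent.Omega.NatPair Cfsg.Agent.Lib.SL2Mat
open Cfsg.Agent.ZN (o2 o2_le isPGroup_o2 le_normalizer_o2 le_o2 normalizer_le_normalizer_o2)

universe u v

variable {G : Type u} [Group G] {F : Type v} [Field F]

theorem norm_cent {X : Subgroup G} {g : G} (hg : g ∈ normalizer (X : Set G)) {y : G}
    (hy : ∀ x ∈ X, y * x = x * y) : ∀ x ∈ X, g * y * g⁻¹ * x = x * (g * y * g⁻¹) := by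
  intro x hx
  have h1 : g⁻¹ * x * g ∈ X := by
    have := (mem_normalizer_iff.1 (inv_mem hg) x).1 hx
    rwa [inv_inv] at this
  have h2 := hy _ h1
  calc g * y * g⁻¹ * x = g * (y * (g⁻¹ * x * g)) * g⁻¹ := by group
    _ = g * ((g⁻¹ * x * g) * y) * g⁻¹ := by rw [h2]
    _ = _ := by group

theorem norm_le_norm_cent [Finite G] {X : Subgroup G} :
    normalizer (X : Set G) ≤ normalizer (centralizer (X : Set G) : Set G) := by
  intro g hg
  rw [mem_norm_iff]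
  intro y hy
  rw [mem_centralizer_iff] at hy ⊢
  intro x hx
  exact (norm_cent hg (fun x hx => (hy x hx).symm) x hx).symm

/-- the situation of the analysis of centralisers -/
structure Sit (F : Type v) [Field F] (L₁ L₂ V₁ V₂ J : Subgroup G) (π₁ π₂ : G → Fin 2 → F) : Prop extends
    Pair F L₁ L₂ V₁ V₂ J π₁ π₂ where
  ct : IsCharacteristicTwoType G
  nrm₁ : ∀ g, (∀ v ∈ V₁, g * v * g⁻¹ ∈ V₁) → ∀ l ∈ L₁, g * l * g⁻¹ ∈ L₁
  nrm₂ : ∀ g, (∀ v ∈ V₂, g * v * g⁻¹ ∈ V₂) → ∀ l ∈ L₂, g * l * g⁻¹ ∈ L₂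

namespace Sit

variable {L₁ L₂ V₁ V₂ J : Subgroup G} {π₁ π₂ : G → Fin 2 → F}

theorem symm (h : Sit F L₁ L₂ V₁ V₂ J π₁ π₂) : Sit F L₂ L₁ V₂ V₁ J π₂ π₁ where
  toPair := h.toPair.symm
  ct := h.ct
  nrm₁ := h.nrm₂
  nrm₂ := h.nrm₁

variable (h : Sit F L₁ L₂ V₁ V₂ J π₁ π₂) [Finite G] [Finite F] [CharP F 2]

include h

/-- `C_G(J) = Z C_G(L₁)` -/
theorem cob {c : G} (hc : ∀ j ∈ J, c * j = j * c) :
    ∃ u ∈ V₁ ⊓ V₂, ∀ l ∈ L₁, (u⁻¹ * c) * l = l * (u⁻¹ * c) := by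
  have h1 : ∀ v ∈ V₁, c * v * c⁻¹ ∈ V₁ := fun v hv => by
    rw [hc v (h.s₁.VJ hv), mul_inv_cancel_right]; exact hv
  obtain ⟨u, hu, huJ, hul⟩ := h.s₁.cob hc (h.nrm₁ c h1)
  exact ⟨u, h.mem_of_cent (h.s₁.VJ hu) huJ, hul⟩

/-- `O₂(C_G(L₂)) ≤ C_G(L₁)` -/
theorem o2_le_cent {ω : F} (hω : ω ≠ 0) (hω1 : ω ≠ 1) :
    o2 (centralizer (L₂ : Set G)) ≤ centralizer (L₁ : Set G) := by
  intro y hy
  have hyC := mem_centralizer_iff.1 (o2_le _ hy)
  obtain ⟨u, hu, hul⟩ := h.cob (c := y) fun j hj => (hyC j (h.s₂.JL hj)).symm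
  obtain ⟨t, ht, htJ, htω⟩ := h.s₁.exists_torus hω
  have ht1 : ∀ v ∈ V₁, t * v * t⁻¹ ∈ V₁ := h.s₁.Vn t ht
  have ht2 := h.perm₁ htJ ht1
  have htL : t ∈ normalizer (L₂ : Set G) := mem_norm_iff.2 (h.nrm₂ t ht2)
  have htR := normalizer_le_normalizer_o2 _ (norm_le_norm_cent htL)
  have h1 : t * y * t⁻¹ * y⁻¹ ∈ o2 (centralizer (L₂ : Set G)) :=
    mul_mem (mem_norm_iff.1 htR y hy) (inv_mem hy)
  have e : t * y * t⁻¹ * y⁻¹ = t * u * t⁻¹ * u⁻¹ := by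
    have e1 : y = u * (u⁻¹ * y) := by group
    have e2 := hul t ht
    calc t * y * t⁻¹ * y⁻¹ = t * (u * (u⁻¹ * y)) * t⁻¹ * (u * (u⁻¹ * y))⁻¹ := by rw [← e1]
      _ = t * u * ((u⁻¹ * y) * t⁻¹) * (u⁻¹ * y)⁻¹ * u⁻¹ := by group
      _ = t * u * (t⁻¹ * (t * ((u⁻¹ * y) * t⁻¹))) * (u⁻¹ * y)⁻¹ * u⁻¹ := by rw [inv_mul_cancel_left]
      _ = t * u * (t⁻¹ * ((t * (u⁻¹ * y)) * t⁻¹)) * (u⁻¹ * y)⁻¹ * u⁻¹ := by rw [← mul_assoc t]
      _ = t * u * (t⁻¹ * (((u⁻¹ * y) * t) * t⁻¹)) * (u⁻¹ * y)⁻¹ * u⁻¹ := by rw [e2]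
      _ = _ := by group
  have h2 : t * u * t⁻¹ * u⁻¹ ∈ V₁ ⊓ V₂ :=
    mem_inf.2 ⟨mul_mem (ht1 u hu.1) (inv_mem hu.1), mul_mem (ht2 u hu.2) (inv_mem hu.2)⟩
  have h3 : t * u * t⁻¹ * u⁻¹ = 1 := by
    apply h.s₂.eq_one_of_cent h2.2
    intro l hl
    rw [← e]
    exact mem_centralizer_iff.1 (o2_le _ h1) l hl
  have h4 : u = 1 := by
    have h5 := htω u hu.1
    rw [mul_inv_eq_one.1 h3] at h5
    have h6 := congrFun h5 0
    rw [ap_zero', dg_00, dg_01, zero_mul, add_zero] at h6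
    apply h.s₁.inj u hu.1
    apply ext2
    · have h7 : (ω - 1) * π₁ u 0 = 0 := by linear_combination -h6
      exact (mul_eq_zero.1 h7).resolve_left (sub_ne_zero.2 hω1)
    · exact (h.mem_iff hu.1).1 hu.2
  rw [mem_centralizer_iff]
  intro l hl
  have := hul l hl
  rw [h4, inv_one, one_mul] at this
  exact this.symm

/-- `O₂(C_G(L₂)) ≤ O₂(C_G(L₁))` -/
theorem o2_le_o2 {ω : F} (hω : ω ≠ 0) (hω1 : ω ≠ 1) :
    o2 (centralizer (L₂ : Set G)) ≤ o2 (centralizer (L₁ : Set G)) := by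
  refine le_o2 (h.o2_le_cent hω hω1) (isPGroup_o2 _) ?_
  intro g hg
  apply normalizer_le_normalizer_o2
  apply norm_le_norm_cent
  rw [mem_norm_iff]
  apply h.nrm₂
  intro v hv
  rw [← mem_centralizer_iff.1 hg v (h.s₁.JL (h.s₂.VJ hv)), mul_inv_cancel_right]
  exact hv

/-- `C_G(L₁) = 1` if `O₂(C_G(L₁)) = 1` -/
theorem cent_L (h0 : o2 (centralizer (L₁ : Set G)) = ⊥) : centralizer (L₁ : Set G) = ⊥ := by
  set C := centralizer (L₁ : Set G) with hC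
  set M := normalizer (V₁ : Set G) with hM
  have hV2 : IsPGroup 2 V₁ := h.isPGroup_J.to_le h.s₁.VJ
  have hV1 : V₁ ≠ ⊥ := by
    obtain ⟨z, hz, hz1⟩ := h.exists_z
    intro h1
    have h2 : z ∈ V₁ := (mem_inf.1 hz).1
    rw [h1, mem_bot] at h2
    exact hz1 h2
  have hch := MinSimple.Basic.char2_normalizer h.ct hV2 hV1
  have hCM : C ≤ M := by
    intro g hg
    rw [hM, mem_norm_iff]
    intro v hv
    rw [← mem_centralizer_iff.1 hg v (h.s₁.VL hv), mul_inv_cancel_right]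
    exact hv
  have hMC : M ≤ normalizer (C : Set G) := by
    intro g hg
    apply norm_le_norm_cent
    rw [mem_norm_iff]
    exact h.nrm₁ g (mem_norm_iff.1 hg)
  have hI : C ⊓ o2 M = ⊥ := by
    rw [eq_bot_iff, ← h0]
    refine le_o2 inf_le_left ((isPGroup_o2 M).to_le inf_le_right) ?_
    intro g hg
    rw [mem_norm_iff]
    intro k hk
    exact mem_inf.2 ⟨mul_mem (mul_mem hg hk.1) (inv_mem hg), mem_norm_iff.1 (le_normalizer_o2 M (hCM hg)) k hk.2⟩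
  rw [eq_bot_iff, ← hI]
  intro x hx
  refine mem_inf.2 ⟨hx, hch (mem_inf.2 ⟨hCM hx, mem_centralizer_iff.2 ?_⟩)⟩
  intro q hq
  have h1 : q * x * q⁻¹ * x⁻¹ ∈ C ⊓ o2 M := by
    refine mem_inf.2 ⟨mul_mem (mem_norm_iff.1 (hMC (o2_le M hq)) x hx) (inv_mem hx), ?_⟩
    have e : q * x * q⁻¹ * x⁻¹ = q * (x * q⁻¹ * x⁻¹) := by group
    rw [e]
    exact mul_mem hq (mem_norm_iff.1 (le_normalizer_o2 M (hCM hx)) _ (inv_mem hq))
  rw [hI, mem_bot, mul_inv_eq_one, mul_inv_eq_iff_eq_mul] at h1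
  exact h1

/-- `C_G(V₁) = V₁` if `C_G(L₁) = 1` -/
theorem cent_V (h0 : centralizer (L₁ : Set G) = ⊥) {d : G} (hd : ∀ v ∈ V₁, d * v = v * d) : d ∈ V₁ := by
  have hdV : ∀ v ∈ V₁, d * v * d⁻¹ ∈ V₁ := fun v hv => by
    rw [hd v hv, mul_inv_cancel_right]; exact hv
  have hdL := h.nrm₁ d hdV
  have hdd : d * d = 1 := by
    rw [← mem_bot, ← h0, mem_centralizer_iff]
    intro l hl
    exact (h.s₁.sq_cent hd hdL hl).symm
  have hdJ : ∀ j ∈ J, d * j * d⁻¹ ∈ J := by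
    intro j hj
    have h1 := h.s₁.VJ (h.s₁.del_mem hd hdL (h.s₁.JL hj))
    have h2 := mul_mem h1 hj
    rwa [inv_mul_cancel_right] at h2
  have hd2 := h.perm₁ hdJ hdV
  obtain ⟨c, hc⟩ := h.s₂.lin_of h.nrm₂ hd2 (k := 1) (by rw [pow_one, pow_two, hdd]) fun v hv hv0 =>
    hd v ((h.symm.mem_iff hv).2 hv0)
  obtain ⟨b, hb, hbc⟩ := h.s₂.cup c
  obtain ⟨a, ha, b', hb', rfl⟩ := h.prod b hb
  -- `a⁻¹ d` centralises `J`
  have key : ∀ v ∈ V₂, (a⁻¹ * d) * v = v * (a⁻¹ * d) := by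
    intro v hv
    have h1 : d * v * d⁻¹ = a * b' * v * (a * b')⁻¹ :=
      h.s₂.eq_of (hd2 v hv) (h.s₂.Vn _ (h.s₂.JL hb) v hv) (by rw [hc v hv, hbc v hv])
    have h2 : a * b' * v * (a * b')⁻¹ = a * v * a⁻¹ := by
      calc a * b' * v * (a * b')⁻¹ = a * (b' * v * b'⁻¹) * a⁻¹ := by group
        _ = a * v * a⁻¹ := by rw [h.s₂.conj_cancel hb' hv]
    rw [h2] at h1
    calc a⁻¹ * d * v = a⁻¹ * (d * v * d⁻¹) * d := by group
      _ = a⁻¹ * (a * v * a⁻¹) * d := by rw [h1]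
      _ = v * (a⁻¹ * d) := by group
  have key1 : ∀ v ∈ V₁, (a⁻¹ * d) * v = v * (a⁻¹ * d) := by
    intro v hv
    rw [mul_assoc, hd v hv, ← mul_assoc, h.s₁.comm (inv_mem ha) hv, mul_assoc]
  have keyJ : ∀ j ∈ J, (a⁻¹ * d) * j = j * (a⁻¹ * d) := by
    intro j hj
    obtain ⟨x, hx, y, hy, rfl⟩ := h.prod j hj
    rw [← mul_assoc, key1 x hx, mul_assoc, key y hy, ← mul_assoc, mul_assoc x y]
  obtain ⟨u, hu, hul⟩ := h.cob keyJ
  have h1 : u⁻¹ * (a⁻¹ * d) = 1 := by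
    rw [← mem_bot, ← h0, mem_centralizer_iff]
    intro l hl
    exact (hul l hl).symm
  have h2 : d = a * u := by
    have := inv_mul_eq_one.1 h1
    rw [this]; group
  rw [h2]
  exact mul_mem ha hu.1

/-- the output -/
theorem dat {ω : F} (hω : ω ≠ 0) (hω1 : ω ≠ 1)
    (hO : ∀ R : Subgroup G, IsPGroup 2 R → normalizer (L₁ : Set G) ≤ normalizer (R : Set G) →
      R ≤ centralizer (L₁ : Set G) → R ≤ centralizer (L₂ : Set G) → R = ⊥) : Dat F L₁ L₂ V₁ V₂ J π₁ π₂ := by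
  have e : o2 (centralizer (L₂ : Set G)) = o2 (centralizer (L₁ : Set G)) :=
    le_antisymm (h.o2_le_o2 hω hω1) (h.symm.o2_le_o2 hω hω1)
  have h1 : o2 (centralizer (L₁ : Set G)) = ⊥ := by
    refine hO _ (isPGroup_o2 _) (norm_le_norm_cent.trans (normalizer_le_normalizer_o2 _)) (o2_le _) ?_
    rw [← e]
    exact o2_le _
  exact
  { toPair := h.toPair
    cen₁ := fun g hg => h.cent_V (h.cent_L h1) hg
    cen₂ := fun g hg => h.symm.cent_V (h.symm.cent_L (e.trans h1)) hg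
    nrm₁ := h.nrm₁
    nrm₂ := h.nrm₂ }

end Sit

end Cfsg.Agent.H282
end

-- part: H282/Close
section
/-!
# helper282: `J` a Sylow 2-subgroup of a group of characteristic 2 type: the local data of type `L₃(q)`
-/

set_option autoImplicit false
set_option linter.unusedSectionVars false

namespace Cfsg.Agent.H282

open Subgroup Cfsg Cfsg.Agent.Omega.NatPair Cfsg.Agent.Lib.SL2Mat
open Cfsg.Agent.ZN (o2 o2_le isPGroup_o2 le_normalizer_o2 le_o2 normalizer_le_normalizer_o2)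
open Cfsg.Agent.TypeL3.Local (LThreeLocal LThreeCoord)

universe u v

variable {G : Type u} [Group G] {F : Type v} [Field F]

namespace Pair

variable {L₁ L₂ V₁ V₂ J : Subgroup G} {π₁ π₂ : G → Fin 2 → F}
variable (h : Pair F L₁ L₂ V₁ V₂ J π₁ π₂)

include h

theorem sup_eq : V₁ ⊔ V₂ = J := by
  apply le_antisymm (sup_le h.s₁.VJ h.s₂.VJ)
  intro j hj
  obtain ⟨a, ha, b, hb, rfl⟩ := h.prod j hj
  exact mul_mem (mem_sup_left ha) (mem_sup_right hb)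

/-- coordinates of type `L₃(F)` -/
theorem coord [CharP F 2] : ∃ x y z : F → G, LThreeCoord V₁ V₂ x y z := by
  obtain ⟨x₀, hx1, hx2, hx3⟩ := Cfsg.Agent.Omega.CloseA.IdFour.sect (Q := V₁) (x := fun u => π₁ u 1)
    (fun u hu => h.s₁.sq hu) h.co3.x_mul h.co3.x_surj
  obtain ⟨y₀, hy1, hy2, hy3⟩ := Cfsg.Agent.Omega.CloseA.IdFour.sect (Q := V₂) (x := fun v => bet J V₁ π₁ v)
    (fun u hu => h.s₂.sq hu) h.co3.y_mul h.co3.y_surj
  have hz : ∀ a : F, ∃ u ∈ V₁ ⊓ V₂, π₁ u 0 = a := h.co3.z_surj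
  choose z₀ hz1 hz2 using hz
  have zeq : ∀ u ∈ V₁ ⊓ V₂, ∀ v ∈ V₁ ⊓ V₂, π₁ u 0 = π₁ v 0 → u = v := by
    intro u hu v hv e
    exact h.s₁.eq_of hu.1 hv.1 (ext2 e (((h.mem_iff hu.1).1 hu.2).trans ((h.mem_iff hv.1).1 hv.2).symm))
  refine ⟨x₀, y₀, z₀, hx3, hy3, ?_, ?_, ?_, ?_⟩
  · intro a b
    apply zeq _ (hz1 _) _ (mul_mem (hz1 a) (hz1 b))
    rw [h.co3.z_mul _ (hz1 a) _ (hz1 b)]
    show π₁ (z₀ (a + b)) 0 = π₁ (z₀ a) 0 + π₁ (z₀ b) 0
    rw [hz2, hz2, hz2]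
  · intro g
    constructor
    · intro hg
      have h1 : (x₀ (π₁ g 1))⁻¹ * g ∈ V₁ ⊓ V₂ := by
        refine (h.co3.x_ker _ (mul_mem (inv_mem (hx1 _)) hg)).1 ?_
        show π₁ ((x₀ (π₁ g 1))⁻¹ * g) 1 = 0
        rw [h.s₁.mul _ (inv_mem (hx1 _)) g hg, h.s₁.map_inv (hx1 _), Pi.add_apply, Pi.neg_apply]
        have : π₁ (x₀ (π₁ g 1)) 1 = π₁ g 1 := hx2 (π₁ g 1)
        rw [this, neg_add_cancel]
      refine ⟨π₁ g 1, π₁ ((x₀ (π₁ g 1))⁻¹ * g) 0, ?_⟩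
      rw [← zeq _ h1 _ (hz1 _) (hz2 _).symm, mul_inv_cancel_left]
    · rintro ⟨a, c, rfl⟩
      exact mul_mem (hx1 a) (mem_inf.1 (hz1 c)).1
  · intro g
    constructor
    · intro hg
      have hy1' : ∀ a, y₀ a ∈ J := fun a => h.s₂.VJ (hy1 a)
      have hgJ : g ∈ J := h.s₂.VJ hg
      have h1 : (y₀ (bet J V₁ π₁ g))⁻¹ * g ∈ V₁ ⊓ V₂ := by
        refine (h.co3.y_ker _ (mul_mem (inv_mem (hy1 _)) hg)).1 ?_
        show bet J V₁ π₁ ((y₀ (bet J V₁ π₁ g))⁻¹ * g) = 0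
        have h2 := h.s₁.bet_mul (hy1' (bet J V₁ π₁ g)) (mul_mem (inv_mem (hy1' (bet J V₁ π₁ g))) hgJ)
        rw [mul_inv_cancel_left] at h2
        have : bet J V₁ π₁ (y₀ (bet J V₁ π₁ g)) = bet J V₁ π₁ g := hy2 (bet J V₁ π₁ g)
        rw [this] at h2
        exact left_eq_add.1 h2
      refine ⟨bet J V₁ π₁ g, π₁ ((y₀ (bet J V₁ π₁ g))⁻¹ * g) 0, ?_⟩
      rw [← zeq _ h1 _ (hz1 _) (hz2 _).symm, mul_inv_cancel_left]
    · rintro ⟨a, c, rfl⟩
      exact mul_mem (hy1 a) (mem_inf.1 (hz1 c)).2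
  · intro a b
    apply zeq _ (h.co3.mem _ (hx1 a) _ (hy1 b)) _ (hz1 _)
    have h1 := h.co3.com _ (hx1 a) _ (hy1 b)
    have h2 : π₁ (x₀ a) 1 = a := hx2 a
    have h3 : bet J V₁ π₁ (y₀ b) = b := hy2 b
    rw [h1, h2, h3, hz2]

end Pair

namespace Dat

variable {L₁ L₂ V₁ V₂ J : Subgroup G} {π₁ π₂ : G → Fin 2 → F}
variable (h : Dat F L₁ L₂ V₁ V₂ J π₁ π₂) [Finite G] [Finite F] [CharP F 2]

include h

/-- `N(J) ≤ N(V₁)` if `J` is a maximal 2-subgroup -/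
theorem normJ (S : Sylow 2 G) (hS : (S : Subgroup G) = J) {g : G} (hg : ∀ j ∈ J, g * j * g⁻¹ ∈ J) :
    ∀ v ∈ V₁, g * v * g⁻¹ ∈ V₁ := by
  have hf : Fact (Nat.Prime 2) := ⟨Nat.prime_two⟩
  rcases h.perm hg with h1 | h1
  · exact h1
  · have h2 := h.perm₂ hg h1
    have hgg : ∀ v ∈ V₁, (g * g) * v * (g * g)⁻¹ ∈ V₁ := fun v hv => by
      have e : (g * g) * v * (g * g)⁻¹ = g * (g * v * g⁻¹) * g⁻¹ := by group
      rw [e]
      exact h2 _ (h1 v hv)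
    have hggN : g * g ∈ normalizer (V₁ : Set G) := mem_norm_iff.2 hgg
    obtain ⟨k, m, hm, hrm⟩ := Nat.exists_eq_two_pow_mul_odd (n := orderOf g) (orderOf_pos g).ne'
    obtain ⟨j, rfl⟩ := hm
    have hg2 : IsPGroup 2 (zpowers (g ^ (2 * j + 1))) := by
      rw [IsPGroup.iff_card]
      refine ⟨k, ?_⟩
      rw [Nat.card_zpowers, orderOf_pow, hrm, Nat.gcd_eq_right (Dvd.intro_left _ rfl)]
      exact Nat.mul_div_cancel _ (by omega)
    have hgJ : g ∈ normalizer (J : Set G) := mem_norm_iff.2 hg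
    have hN : zpowers (g ^ (2 * j + 1)) ≤ normalizer (J : Set G) := zpowers_le.2 (pow_mem hgJ _)
    have h3 : IsPGroup 2 (J ⊔ zpowers (g ^ (2 * j + 1)) : Subgroup G) :=
      IsPGroup.to_sup_of_normal_left' h.isPGroup_J hg2 hN
    have h4 := S.is_maximal' h3 (by rw [hS]; exact le_sup_left)
    have h5 : g ^ (2 * j + 1) ∈ J := by
      rw [← hS]
      rw [← h4]
      exact mem_sup_right (mem_zpowers _)
    have h6 : g ^ (2 * j + 1) ∈ normalizer (V₁ : Set G) := mem_norm_iff.2 (h.s₁.Vn _ (h.s₁.JL h5))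
    have h7 : g = ((g * g) ^ j)⁻¹ * g ^ (2 * j + 1) := by
      rw [← pow_two, ← pow_mul, pow_succ, inv_mul_cancel_left]
    have h8 : g ∈ normalizer (V₁ : Set G) := by
      rw [h7]
      exact mul_mem (inv_mem (pow_mem hggN j)) h6
    exact mem_norm_iff.1 h8

/-- centralisers of the elements of `Z` normalise `J` -/
theorem cent_Z (hG : IsCharacteristicTwoType G) (S : Sylow 2 G) (hS : (S : Subgroup G) = J) {z : G}
    (hz : z ∈ V₁ ⊓ V₂) (hz1 : z ≠ 1) {g : G} (hg : g * z = z * g) : ∀ j ∈ J, g * j * g⁻¹ ∈ J := by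
  have hf : Fact (Nat.Prime 2) := ⟨Nat.prime_two⟩
  set X := centralizer ({z} : Set G) with hX
  have memX : ∀ {x : G}, x ∈ X ↔ x * z = z * x := by
    intro x; rw [hX, mem_centralizer_singleton_iff]
  have hzz : z ^ 2 = 1 := by rw [pow_two]; exact h.s₁.sq hz.1
  have hch := MinSimple.Basic.char2_centralizer hG hzz hz1
  set R := o2 X with hR
  have hJX : J ≤ X := fun j hj => memX.2 (h.fixJ hz.1 hz.2 j hj)
  have maxJ : ∀ K : Subgroup G, IsPGroup 2 K → J ≤ K → K = J := by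
    intro K hK hJK
    have h1 := S.is_maximal' hK (by rw [hS]; exact hJK)
    rw [h1]; exact hS
  have hRJ : R ≤ J := by
    have h1 : IsPGroup 2 (R ⊔ J : Subgroup G) :=
      IsPGroup.to_sup_of_normal_left' (isPGroup_o2 X) h.isPGroup_J (hJX.trans (le_normalizer_o2 X))
    rw [← maxJ _ h1 le_sup_right]
    exact le_sup_left
  have hXR := le_normalizer_o2 X
  have hZR : V₁ ⊓ V₂ ≤ R := by
    intro u hu
    refine hch (mem_inf.2 ⟨hJX (h.s₁.VJ hu.1), mem_centralizer_iff.2 fun r hr => ?_⟩)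
    exact h.fixJ hu.1 hu.2 r (hRJ hr)
  -- `W = Ω₁(Z(R))`
  let W : Subgroup G :=
    { carrier := {w | w ∈ R ∧ w * w = 1 ∧ ∀ r ∈ R, r * w = w * r}
      one_mem' := ⟨one_mem R, by simp, fun r _ => by simp⟩
      mul_mem' := by
        rintro a b ⟨ha, ha1, ha2⟩ ⟨hb, hb1, hb2⟩
        refine ⟨mul_mem ha hb, ?_, fun r hr => ?_⟩
        · have h1 := ha2 b hb
          calc a * b * (a * b) = a * (b * a) * b := by group
            _ = a * (a * b) * b := by rw [h1]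
            _ = (a * a) * (b * b) := by group
            _ = 1 := by rw [ha1, hb1, one_mul]
        · rw [← mul_assoc, ha2 r hr, mul_assoc, hb2 r hr, ← mul_assoc]
      inv_mem' := by
        rintro a ⟨ha, ha1, ha2⟩
        have : a⁻¹ = a := inv_eq_of_mul_eq_one_left ha1
        rw [this]
        exact ⟨ha, ha1, ha2⟩ }
  have hWmem : ∀ w, w ∈ W ↔ w ∈ R ∧ w * w = 1 ∧ ∀ r ∈ R, r * w = w * r := fun w => Iff.rfl
  have hXW : ∀ x ∈ X, ∀ w ∈ W, x * w * x⁻¹ ∈ W := by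
    intro x hx w hw
    obtain ⟨hw0, hw1, hw2⟩ := (hWmem w).1 hw
    refine (hWmem _).2 ⟨mem_norm_iff.1 (hXR hx) w hw0, ?_, ?_⟩
    · calc x * w * x⁻¹ * (x * w * x⁻¹) = x * (w * w) * x⁻¹ := by group
        _ = 1 := by rw [hw1]; group
    · intro r hr
      exact (norm_cent (X := R) (hXR hx) (fun y hy => (hw2 y hy).symm) r hr).symm
  have hZW : V₁ ⊓ V₂ ≤ W := fun u hu => (hWmem u).2 ⟨hZR hu, h.s₁.sq hu.1, fun r hr => h.fixJ hu.1 hu.2 r (hRJ hr)⟩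
  have hgX : g ∈ X := memX.2 hg
  -- the case `W = Z`
  have caseZ : W ≤ V₁ ⊓ V₂ → ∀ j ∈ J, g * j * g⁻¹ ∈ J := by
    intro hWZ
    have hXZ : ∀ x ∈ X, ∀ u ∈ V₁ ⊓ V₂, x * u * x⁻¹ ∈ V₁ ⊓ V₂ := fun x hx u hu => hWZ (hXW x hx u (hZW hu))
    have hXZi : ∀ x ∈ X, ∀ u ∈ V₁ ⊓ V₂, x⁻¹ * u * x ∈ V₁ ⊓ V₂ := fun x hx u hu => by
      have := hXZ x⁻¹ (inv_mem hx) u hu
      rwa [inv_inv] at this
    have hXRi : ∀ x ∈ X, ∀ u ∈ R, x⁻¹ * u * x ∈ R := fun x hx u hu => by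
      have := mem_norm_iff.1 (hXR (inv_mem hx)) u hu
      rwa [inv_inv] at this
    let K : Subgroup G :=
      { carrier := {k | k ∈ X ∧ (∀ r ∈ R, k * r * k⁻¹ * r⁻¹ ∈ V₁ ⊓ V₂) ∧ ∀ u ∈ V₁ ⊓ V₂, k * u = u * k}
        one_mem' := ⟨one_mem X, fun r _ => by simp [one_mem], fun u _ => by simp⟩
        mul_mem' := by
          rintro a b ⟨ha, ha1, ha2⟩ ⟨hb, hb1, hb2⟩
          refine ⟨mul_mem ha hb, fun r hr => ?_, fun u hu => ?_⟩
          · have e : a * b * r * (a * b)⁻¹ * r⁻¹ = (a * (b * r * b⁻¹ * r⁻¹) * a⁻¹) * (a * r * a⁻¹ * r⁻¹) := by group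
            rw [e]
            exact mul_mem (hXZ a ha _ (hb1 r hr)) (ha1 r hr)
          · rw [mul_assoc, hb2 u hu, ← mul_assoc, ha2 u hu, mul_assoc]
        inv_mem' := by
          rintro a ⟨ha, ha1, ha2⟩
          refine ⟨inv_mem ha, fun r hr => ?_, fun u hu => ?_⟩
          · have h1 := inv_mem (ha1 _ (hXRi a ha r hr))
            have e : (a * (a⁻¹ * r * a) * a⁻¹ * (a⁻¹ * r * a)⁻¹)⁻¹ = a⁻¹ * r * a⁻¹⁻¹ * r⁻¹ := by group
            rwa [e] at h1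
          · rw [inv_mul_eq_iff_eq_mul, ← mul_assoc, ha2 u hu, mul_inv_cancel_right] }
    have hKmem : ∀ k, k ∈ K ↔ k ∈ X ∧ (∀ r ∈ R, k * r * k⁻¹ * r⁻¹ ∈ V₁ ⊓ V₂) ∧ ∀ u ∈ V₁ ⊓ V₂, k * u = u * k :=
      fun k => Iff.rfl
    have hJK : J ≤ K := by
      intro j hj
      refine (hKmem j).2 ⟨hJX hj, fun r hr => ?_, fun u hu => h.fixJ hu.1 hu.2 j hj⟩
      have ha := h.ambJ
      have h1 := ha.comm_mem0 hj (hRJ hr)
      exact h1
    have hK2 : IsPGroup 2 K := by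
      rintro ⟨k, hk⟩
      obtain ⟨hk0, hk1, hk2⟩ := (hKmem k).1 hk
      have h1 : k * k ∈ R := by
        refine hch (mem_inf.2 ⟨mul_mem hk0 hk0, mem_centralizer_iff.2 fun r hr => ?_⟩)
        have h2 := hk1 r hr
        have h3 := hk2 _ h2
        have h4 : k * r * k⁻¹ * r⁻¹ * (k * r * k⁻¹ * r⁻¹) = 1 := h.s₁.sq h2.1
        generalize hd : k * r * k⁻¹ * r⁻¹ = d at h3 h4
        have h5 : k * r = d * r * k := by rw [← hd]; group
        calc r * (k * k) = (d * d) * r * (k * k) := by rw [h4, one_mul]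
          _ = d * (d * r * k) * k := by group
          _ = d * (k * r) * k := by rw [h5]
          _ = (d * k) * r * k := by group
          _ = (k * d) * r * k := by rw [h3]
          _ = k * (d * r * k) := by group
          _ = k * k * r := by rw [← h5]; group
      obtain ⟨n, hn⟩ := isPGroup_o2 X ⟨k * k, h1⟩
      refine ⟨n + 1, Subtype.ext ?_⟩
      show k ^ 2 ^ (n + 1) = 1
      have hn' : (k * k) ^ 2 ^ n = 1 := congrArg Subtype.val hn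
      rw [pow_succ', pow_mul, pow_two, hn']
    have hKJ := maxJ K hK2 hJK
    intro j hj
    rw [← hKJ] at hj ⊢
    obtain ⟨hj0, hj1, hj2⟩ := (hKmem j).1 hj
    refine (hKmem _).2 ⟨mul_mem (mul_mem hgX hj0) (inv_mem hgX), fun r hr => ?_, fun u hu => ?_⟩
    · have h1 := hXZ g hgX _ (hj1 _ (hXRi g hgX r hr))
      have e : g * (j * (g⁻¹ * r * g) * j⁻¹ * (g⁻¹ * r * g)⁻¹) * g⁻¹ = g * j * g⁻¹ * r * (g * j * g⁻¹)⁻¹ * r⁻¹ := by
        group
      rwa [e] at h1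
    · have h1 := hj2 _ (hXZi g hgX u hu)
      calc g * j * g⁻¹ * u = g * (j * (g⁻¹ * u * g)) * g⁻¹ := by group
        _ = g * ((g⁻¹ * u * g) * j) * g⁻¹ := by rw [h1]
        _ = _ := by group
  -- the case `W ≰ Z`
  have caseV : ∀ {L₁ L₂ V₁ V₂ : Subgroup G} {π₁ π₂ : G → Fin 2 → F}, Dat F L₁ L₂ V₁ V₂ J π₁ π₂ → z ∈ V₁ ⊓ V₂ →
      W ≤ V₁ → (∃ w ∈ W, w ∉ V₂) → ∀ j ∈ J, g * j * g⁻¹ ∈ J := by
    intro L₁ L₂ V₁ V₂ π₁ π₂ h hz hWV hex
    obtain ⟨w, hw, hwV⟩ := hex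
    obtain ⟨hw0, hw1, hw2⟩ := (hWmem w).1 hw
    have hRV : R ≤ V₁ := by
      intro r hr
      obtain ⟨a, ha, b, hb, hab⟩ := h.prod r (hRJ hr)
      have h1 := hw2 r hr
      rw [hab] at h1
      have h2 : w * b = b * w := by
        have h3 : a * (b * w) = a * (w * b) := by
          calc a * (b * w) = a * b * w := by group
            _ = w * (a * b) := h1
            _ = (w * a) * b := by group
            _ = (a * w) * b := by rw [h.s₁.comm (hWV hw) ha]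
            _ = a * (w * b) := by group
        exact (mul_left_cancel h3).symm
      rcases h.co3.cen (hWV hw) hb h2 with h3 | h3
      · exact absurd h3.2 hwV
      · rw [hab]
        exact mul_mem ha h3.1
    have hVR : V₁ ≤ R := by
      intro v hv
      refine hch (mem_inf.2 ⟨hJX (h.s₁.VJ hv), mem_centralizer_iff.2 fun r hr => ?_⟩)
      exact h.s₁.comm (hRV hr) hv
    have hgV : ∀ v ∈ V₁, g * v * g⁻¹ ∈ V₁ := fun v hv => hRV (mem_norm_iff.1 (hXR hgX) v (hVR hv))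
    have hgz : g * z * g⁻¹ = z := by rw [hg, mul_inv_cancel_right]
    have h0 := (h.mem_iff hz.1).1 hz.2
    exact h.s₁.norm_J h.nrm₁ hgV (h.s₁.line h.nrm₁ hgV hz.1 hz1 h0 (by rw [hgz]; exact h0))
  rcases h.le_or (A := W) (fun w hw => hRJ ((hWmem w).1 hw).1) (fun w hw => ((hWmem w).1 hw).2.1) with h1 | h1
  · by_cases h2 : W ≤ V₂
    · exact caseZ (le_inf h1 h2)
    · obtain ⟨w, hw, hw2⟩ := SetLike.not_le_iff_exists.1 h2
      exact caseV h hz h1 ⟨w, hw, hw2⟩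
  · by_cases h2 : W ≤ V₁
    · exact caseZ (le_inf h2 h1)
    · obtain ⟨w, hw, hw2⟩ := SetLike.not_le_iff_exists.1 h2
      exact caseV h.symm ⟨hz.2, hz.1⟩ h1 ⟨w, hw, hw2⟩

end Dat

end Cfsg.Agent.H282
end

-- part: H282/End
section
/-!
# helper282: simple groups of characteristic 2 type with two rank one parabolics on natural modules, `q > 4`
-/

set_option autoImplicit false
set_option linter.unusedSectionVars false

namespace Cfsg.Agent.H282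

open Subgroup Cfsg Cfsg.Agent.Omega.NatPair Cfsg.Agent.Lib.SL2Mat
open Cfsg.Agent.TypeL3.Local (LThreeLocal LThreeCoord)
open Cfsg.Agent.TwoFusion.SectionalRank (sectionalPRankLE_iff)

universe u v

variable {G : Type u} [Group G] {F : Type v} [Field F]

namespace Dat

variable {L₁ L₂ V₁ V₂ J : Subgroup G} {π₁ π₂ : G → Fin 2 → F}
variable (h : Dat F L₁ L₂ V₁ V₂ J π₁ π₂) [Finite G] [Finite F] [CharP F 2]

include h

theorem normJ₂ (S : Sylow 2 G) (hS : (S : Subgroup G) = J) {g : G} (hg : ∀ j ∈ J, g * j * g⁻¹ ∈ J) :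
    ∀ v ∈ V₂, g * v * g⁻¹ ∈ V₂ := h.symm.normJ S hS hg

theorem H1 {g : G} (hg : g ∈ normalizer (V₁ : Set G)) (hg2 : g ∉ normalizer (V₂ : Set G)) {z : G}
    (hz : z ∈ V₁ ⊓ V₂) (hgz : g * z * g⁻¹ ∈ V₁ ⊓ V₂) : z = 1 := by
  by_contra hz1
  apply hg2
  rw [mem_norm_iff] at hg ⊢
  have h1 := h.s₁.line h.nrm₁ hg hz.1 hz1 ((h.mem_iff hz.1).1 hz.2) ((h.mem_iff hgz.1).1 hgz.2)
  exact h.perm₁ (h.s₁.norm_J h.nrm₁ hg h1) hg

theorem trans_V {a b : G} (ha : a ∈ V₁) (ha1 : a ≠ 1) (hb : b ∈ V₁) (hb1 : b ≠ 1) :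
    ∃ g ∈ normalizer (V₁ : Set G), g * a * g⁻¹ = b := by
  obtain ⟨l, hl, e⟩ := h.s₁.trans ha hb ha1 hb1
  exact ⟨l, mem_norm_iff.2 (h.s₁.Vn l hl), e⟩

theorem not_conj (S : Sylow 2 G) (hS : (S : Subgroup G) = J) (g : G) : ∃ a ∈ V₁, g * a * g⁻¹ ∉ V₂ := by
  by_contra hcon
  push Not at hcon
  have e1 : V₁.map (MulAut.conj g).toMonoidHom = V₂ := by
    refine Subgroup.eq_of_le_of_card_ge ?_ ?_
    · rintro _ ⟨v, hv, rfl⟩
      exact hcon v hv
    · rw [← h.card_eq]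
      exact (Nat.card_congr (V₁.equivMapOfInjective _ (MulAut.conj g).injective).toEquiv).le
  have hback : ∀ v ∈ V₂, ∃ u ∈ V₁, v = g * u * g⁻¹ := by
    intro v hv
    rw [← e1] at hv
    obtain ⟨u, hu, rfl⟩ := hv
    exact ⟨u, hu, rfl⟩
  have hSN : (S : Subgroup G) ≤ normalizer (V₂ : Set G) := by
    rw [hS]
    exact fun j hj => mem_norm_iff.2 (h.s₂.Vn j (h.s₂.JL hj))
  have hT : (S : Subgroup G).map (MulAut.conj g).toMonoidHom ≤ normalizer (V₂ : Set G) := by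
    rintro _ ⟨j, hj, rfl⟩
    rw [mem_norm_iff]
    intro v hv
    obtain ⟨u, hu, rfl⟩ := hback v hv
    have hj' : j ∈ J := by rw [← hS]; exact hj
    show g * j * g⁻¹ * (g * u * g⁻¹) * (g * j * g⁻¹)⁻¹ ∈ V₂
    have e : g * j * g⁻¹ * (g * u * g⁻¹) * (g * j * g⁻¹)⁻¹ = g * (j * u * j⁻¹) * g⁻¹ := by group
    rw [e]
    exact hcon _ (h.s₁.Vn j (h.s₁.JL hj') u hu)
  obtain ⟨n, hn, hnS⟩ := Cfsg.Agent.Omega.CloseA.exists_conj_le S hSN hT (S.isPGroup'.map _)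
  have h1 : ∀ j ∈ J, (n * g) * j * (n * g)⁻¹ ∈ J := by
    intro j hj
    have h2 := hnS (g * j * g⁻¹) ⟨j, by rw [SetLike.mem_coe]; show j ∈ (S : Subgroup G); rw [hS]; exact hj, rfl⟩
    rw [hS] at h2
    have e : n * g * j * (n * g)⁻¹ = n * (g * j * g⁻¹) * n⁻¹ := by group
    rwa [e]
  have h2 := h.normJ S hS h1
  obtain ⟨u, hu, hu2⟩ := h.exists_out
  have h3 : n * g ∈ normalizer (V₁ : Set G) := mem_norm_iff.2 h2
  -- `n g u g⁻¹ n⁻¹ ∈ V₂` for all `u ∈ V₁`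
  have h4 : ∀ u ∈ V₁, (n * g) * u * (n * g)⁻¹ ∈ V₂ := by
    intro u hu
    have e : n * g * u * (n * g)⁻¹ = n * (g * u * g⁻¹) * n⁻¹ := by group
    rw [e]
    exact mem_norm_iff.1 hn _ (hcon u hu)
  have h5 := (mem_norm_iff.1 (inv_mem h3)) u hu
  have h6 := h4 _ h5
  have e : n * g * ((n * g)⁻¹ * u * (n * g)⁻¹⁻¹) * (n * g)⁻¹ = u := by group
  rw [e] at h6
  exact hu2 h6

theorem card_V : Nat.card V₁ = Nat.card F ^ 2 := by
  rw [h.s₁.card, Nat.card_fun, Nat.card_eq_fintype_card (α := Fin 2), Fintype.card_fin]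

theorem three (hG : IsCharacteristicTwoType G) (S : Sylow 2 G) (hS : (S : Subgroup G) = J)
    (hF : 4 ≤ Nat.card F) : LThreeLocal V₁ V₂ (Nat.card F) where
  four_le := hF
  even_q := by
    have _ := Fintype.ofFinite F
    obtain ⟨n, hp, hn⟩ := FiniteField.card F 2
    rw [Nat.card_eq_fintype_card, hn]
    exact (even_iff_two_dvd).2 (dvd_pow_self 2 n.2.ne')
  A_comm := fun a ha b hb => h.s₁.comm ha hb
  B_comm := fun a ha b hb => h.s₂.comm ha hb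
  A_sq := fun a ha => h.s₁.sq ha
  B_sq := fun a ha => h.s₂.sq ha
  card_A := h.card_V
  card_B := h.symm.card_V
  card_Z := h.co3.card_D
  A_le := fun a ha => mem_norm_iff.2 (h.s₂.Vn a (h.s₂.JL (h.s₁.VJ ha)))
  B_le := fun a ha => mem_norm_iff.2 (h.s₁.Vn a (h.s₁.JL (h.s₂.VJ ha)))
  sylow := ⟨S, by rw [hS, h.sup_eq]⟩
  inv_mem := fun s hs h2 => h.mem_or (by rwa [h.sup_eq] at hs) h2
  trans_A := fun a ha ha1 b hb hb1 => h.trans_V ha ha1 hb hb1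
  trans_B := fun a ha ha1 b hb hb1 => h.symm.trans_V ha ha1 hb hb1
  H1 := fun g hg hg2 z hz hgz => h.H1 hg hg2 hz hgz
  H2 := fun g hg hg2 z hz hgz => h.symm.H1 hg hg2 ⟨hz.2, hz.1⟩ ⟨hgz.2, hgz.1⟩
  cent_Z := fun z hz hz1 g hg => by
    have hgz := mem_centralizer_singleton_iff.1 hg
    have h1 := h.cent_Z hG S hS hz hz1 hgz
    exact mem_inf.2 ⟨mem_norm_iff.2 (h.normJ S hS h1), mem_norm_iff.2 (h.normJ₂ S hS h1)⟩
  not_conj := h.not_conj S hS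

/-- `J = S` -/
theorem psl_of (hG : IsCharacteristicTwoType G) (S : Sylow 2 G) (hS : (S : Subgroup G) = J)
    (hF : 4 ≤ Nat.card F) [IsSimpleGroup G] : Nonempty (G ≃* Matrix.ProjectiveSpecialLinearGroup (Fin 3) F) := by
  obtain ⟨x, y, z, hc⟩ := h.coord
  exact Cfsg.Agent.TypeL3.Back.nonempty_psl hc (h.three hG S hS hF) rfl

end Dat

/-- a group of characteristic 2 type in which some element of `S` interchanges `V₁` and `V₂` is not simple -/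
theorem Dat.no_swap {G : Type u} [Group G] [Finite G] [IsSimpleGroup G] (hG : IsCharacteristicTwoType G)
    {F : Type} [Field F] [Finite F] [CharP F 2] {L₁ L₂ V₁ V₂ J : Subgroup G} {π₁ π₂ : G → Fin 2 → F}
    (h : Dat F L₁ L₂ V₁ V₂ J π₁ π₂) (hF : 4 < Nat.card F) (S : Sylow 2 G) (hS : J ≤ (S : Subgroup G)) :
    ∀ s ∈ (S : Subgroup G), (∀ v ∈ V₁, s * v * s⁻¹ ∈ V₁) ∧ (∀ v ∈ V₂, s * v * s⁻¹ ∈ V₂) := by
  rcases h.cases S.isPGroup' hS with hA | ⟨s, hs, ⟨M⟩⟩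
  · exact hA
  · exfalso
    have hNS : ∀ x ∈ (S : Subgroup G), (∀ a ∈ V₁, x * a * x⁻¹ ∈ V₁) → x ∈ (S : Subgroup G) ⊓ normalizer (V₁ : Set G) :=
      fun x hx hxa => ⟨hx, mem_norm_iff.2 hxa⟩
    have hr : ¬ SectionalPRankLE 2 4 G := by
      intro hr
      rw [sectionalPRankLE_iff] at hr
      have h1 := hr V₁ ⊥ ⟨bot_le, fun a ha b hb => by
        rw [mem_bot, h.s₁.comm ha hb]; group, fun a ha => by rw [mem_bot, pow_two, h.s₁.sq ha]⟩
      rw [card_bot, h.card_V] at h1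
      have h2 : 5 ^ 2 ≤ Nat.card F ^ 2 := Nat.pow_le_pow_left hF 2
      omega
    exact M.false_of inf_le_left hs hNS hF.le (Cfsg.Agent.Omega.SQ1.EndOneOf.glob M hG inf_le_left hs hNS hF.le
      (Cfsg.Agent.Omega.SQ1.CoOf.nodeA G hG hr F S _ _ _ _ _ _ _ _ M inf_le_left hs hNS hF.le))

/-- **simple groups, `q > 4`** -/
theorem Dat.simple {G : Type u} [Group G] [Finite G] [IsSimpleGroup G] (hG : IsCharacteristicTwoType G)
    {F : Type v} [Field F] [Finite F] [CharP F 2] {L₁ L₂ V₁ V₂ J : Subgroup G} {π₁ π₂ : G → Fin 2 → F}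
    (h : Dat F L₁ L₂ V₁ V₂ J π₁ π₂) (hF : 4 < Nat.card F) {F' : Type} [Field F'] (ρ : F ≃+* F') :
    Nonempty (G ≃* Matrix.ProjectiveSpecialLinearGroup (Fin 3) F) := by
  obtain ⟨S, hS⟩ := h.isPGroup_J.exists_le_sylow
  have _ : Finite F' := Finite.of_equiv F ρ.toEquiv
  have _ : CharP F' 2 := charP_of_injective_ringHom (f := (ρ : F →+* F')) ρ.injective 2
  have hA := (h.field ρ).no_swap hG (by rwa [← Nat.card_congr ρ.toEquiv]) S hS
  have hc := h.ctx S.isPGroup' hS (fun s hs => (hA s hs).1) fun s hs => (hA s hs).2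
  have l₁ := h.lin₁ S.isPGroup' hS fun s hs => (hA s hs).1
  have l₂ := h.symm.lin₁ S.isPGroup' hS fun s hs => (hA s hs).2
  rw [inf_comm] at l₂
  rcases Cfsg.Agent.Omega.CloseA.close3 S h.co3 hc l₁ l₂ (Cfsg.Agent.Omega.CloseA.CTs_of hG _ _) with h1 | h1
  · exact h.psl_of hG S h1 hF.le
  · omega

end Cfsg.Agent.H282
end

-- part: H282/Red
section
/-!
# helper282: reduction to simple groups
-/

set_option autoImplicit false
set_option linter.unusedSectionVars false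

namespace Cfsg.Agent.H282

open Subgroup Cfsg Cfsg.Agent.CpAut.TwoAbs

universe u v

section general

variable {G : Type u} [Group G] [Finite G]

/-- centralisers of involutions in groups of characteristic 2 type -/
theorem ct_inv (hG : IsCharacteristicTwoType G) {x : G} (hx : x * x = 1) (hx1 : x ≠ 1) :
    IsOfCharacteristicTwo ↥(centralizer ({x} : Set G)) :=
  (MinSimple.Basic.char2_iff _).2 (MinSimple.Basic.char2_centralizer hG (by rw [pow_two, hx]) hx1)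

/-- `K ∩ C(x) = 1` for a normal subgroup `K` of odd order and an involution `x` -/
theorem odd_fix (hG : IsCharacteristicTwoType G) {K : Subgroup G} (hK : K.Normal) (ho : Odd (Nat.card K)) {x : G}
    (hx : x * x = 1) (hx1 : x ≠ 1) {k : G} (hk : k ∈ K) (hkx : k * x = x * k) : k = 1 := by
  have h1 := MinSimple.Basic.char2_centralizer hG (by rw [pow_two, hx]) hx1
  have h2 : K ⊓ centralizer ({x} : Set G) = ⊥ := by
    refine MinSimple.Basic.eq_bot_of_odd h1 inf_le_right ?_ ?_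
    · intro g hg
      rw [mem_norm_iff]
      intro y hy
      exact mem_inf.2 ⟨hK.conj_mem y hy.1 g, mul_mem (mul_mem hg hy.2) (inv_mem hg)⟩
    · exact Odd.of_dvd_nat ho (card_dvd_of_le inf_le_left)
  have h3 : k ∈ K ⊓ centralizer ({x} : Set G) := mem_inf.2 ⟨hk, mem_centralizer_singleton_iff.2 hkx⟩
  rwa [h2, mem_bot] at h3

/-- a fixed point free involution inverts -/
theorem inverts {K : Subgroup G} (hK : K.Normal) {x : G} (hx : x * x = 1)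
    (hfix : ∀ k ∈ K, k * x = x * k → k = 1) {k : G} (hk : k ∈ K) : x * k * x⁻¹ = k⁻¹ := by
  let φ : K →* K := ((MulAut.conjNormal x : MulAut K) : K ≃* K).toMonoidHom
  have hφ : ∀ k : K, ((φ k : K) : G) = x * k * x⁻¹ := fun k => by
    simp [φ]
  have h1 : MonoidHom.FixedPointFree φ := by
    intro k hk
    apply Subtype.ext
    apply hfix k k.2
    have := hφ k
    rw [hk] at this
    have h2 := congrArg (· * x) this
    simpa [mul_assoc] using h2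
  have h2 : Function.Involutive φ := by
    intro k
    apply Subtype.ext
    rw [hφ, hφ]
    have hxi : x⁻¹ = x := inv_eq_of_mul_eq_one_left hx
    rw [hxi]
    calc x * (x * (k : G) * x) * x = (x * x) * k * (x * x) := by simp only [mul_assoc]
      _ = k := by rw [hx]; simp
  have h3 := h1.coe_eq_inv_of_involutive h2
  have h4 := congrFun h3 ⟨k, hk⟩
  have h5 := hφ ⟨k, hk⟩
  rw [h4] at h5
  exact h5.symm

/-- `O(G) = 1` if `G` contains a four group -/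
theorem odd_eq_bot (hG : IsCharacteristicTwoType G) {K : Subgroup G} (hK : K.Normal) (ho : Odd (Nat.card K))
    {x y : G} (hx : x * x = 1) (hx1 : x ≠ 1) (hy : y * y = 1) (hy1 : y ≠ 1) (hxy : x * y = y * x) (hne : x ≠ y) :
    K = ⊥ := by
  have hix : ∀ k ∈ K, x * k * x⁻¹ = k⁻¹ := fun k hk =>
    inverts hK hx (fun k hk hkx => odd_fix hG hK ho hx hx1 hk hkx) hk
  have hiy : ∀ k ∈ K, y * k * y⁻¹ = k⁻¹ := fun k hk =>
    inverts hK hy (fun k hk hkx => odd_fix hG hK ho hy hy1 hk hkx) hk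
  rw [eq_bot_iff]
  intro k hk
  rw [mem_bot]
  refine odd_fix hG hK ho (x := x * y) ?_ ?_ hk ?_
  · calc x * y * (x * y) = x * (y * x) * y := by group
      _ = x * (x * y) * y := by rw [hxy]
      _ = (x * x) * (y * y) := by group
      _ = 1 := by rw [hx, hy, one_mul]
  · intro h1
    apply hne
    rw [eq_inv_of_mul_eq_one_left h1]
    exact inv_eq_of_mul_eq_one_left hy
  · have h1 : x * (y * k * y⁻¹) * x⁻¹ = k := by
      rw [hiy k hk, hix k⁻¹ (inv_mem hk), inv_inv]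
    have h2 : x * y * k = k * (x * y) := by
      have := congrArg (· * (x * y)) h1
      simpa [mul_assoc] using this
    exact h2.symm

/-- normal subgroups of even order of groups of characteristic 2 type -/
theorem ct_normal (hG : IsCharacteristicTwoType G) {E : Subgroup G} (hE : E.Normal) (he : Even (Nat.card E)) :
    IsCharacteristicTwoType ↥E := by
  refine ⟨he, fun U hU hU1 => ?_⟩
  have hU' : IsPGroup 2 (U.map E.subtype : Subgroup G) := hU.map _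
  have hU1' : U.map E.subtype ≠ ⊥ := by
    intro h1
    apply hU1
    rwa [Subgroup.map_eq_bot_iff_of_injective _ E.subtype_injective] at h1
  have h1 := hG.2 _ hU' hU1'
  set M := normalizer ((U.map E.subtype : Subgroup G) : Set G) with hM
  have h2 : (E.subgroupOf M).Normal := inferInstance
  have h3 := ct_of_normal h1 (E.subgroupOf M)
  have hmem : ∀ e : E, e ∈ normalizer (U : Set E) ↔ (e : G) ∈ M := by
    intro e
    rw [hM, mem_norm_iff, mem_norm_iff]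
    constructor
    · rintro h _ ⟨u, hu, rfl⟩
      exact ⟨_, h u hu, rfl⟩
    · intro h u hu
      obtain ⟨w, hw, e'⟩ := h u ⟨u, hu, rfl⟩
      have : w = e * u * e⁻¹ := Subtype.ext e'
      rwa [← this]
  let f : ↥(E.subgroupOf M) ≃* ↥(normalizer (U : Set E)) :=
    { toFun := fun x => ⟨⟨(x : M), mem_subgroupOf.1 x.2⟩, (hmem _).2 (x : M).2⟩
      invFun := fun y => ⟨⟨(y : E), (hmem _).1 y.2⟩, mem_subgroupOf.2 (y : E).2⟩
      left_inv := fun _ => rfl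
      right_inv := fun _ => rfl
      map_mul' := fun _ _ => rfl }
  exact ct_congr f h3

/-- a normal simple nonabelian self-centralising subgroup is `F*(G)` -/
theorem fstar_eq {N : Subgroup G} (hNc : IsComponent N) (hC : centralizer (N : Set G) = ⊥) :
    generalizedFittingSubgroup G = N := by
  apply le_antisymm
  · rw [Cfsg.Agent.Lib.GenFitting.genFitting_def]
    apply sup_le
    · rw [Cfsg.Agent.Lib.GenFitting.layer_def]
      apply sSup_le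
      intro K hK
      by_cases hKN : K = N
      · exact hKN.le
      · have h1 := Cfsg.Agent.SignalizersComponents.ComponentNormalize.component_comm_of_ne hK hNc hKN
        rw [commutator_eq_bot_iff_le_centralizer, hC, le_bot_iff] at h1
        rw [h1]
        exact bot_le
    · have h1 := Cfsg.Agent.SignalizersComponents.FStarNormal.component_comm_fitting hNc
      rw [commutator_comm, commutator_eq_bot_iff_le_centralizer, hC, le_bot_iff] at h1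
      rw [h1]
      exact bot_le
  · exact Cfsg.Agent.Lib.GenFitting.component_le_genFitting hNc

/-- **`F*(G)` is simple** if `G` has characteristic 2 type, `O₂(G) = 1`, and all nontrivial normal subgroups contain
the nonabelian group `J` -/
theorem exists_simple (hG : IsCharacteristicTwoType G)
    (hodd : ∀ K : Subgroup G, K.Normal → Odd (Nat.card K) → K = ⊥) {J : Subgroup G}
    (hJ : ∀ N : Subgroup G, N.Normal → N ≠ ⊥ → J ≤ N) (hna : ∃ a ∈ J, ∃ b ∈ J, a * b ≠ b * a) :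
    IsSimpleGroup ↥(generalizedFittingSubgroup G) ∧ centralizer (generalizedFittingSubgroup G : Set G) = ⊥ ∧
      IsCharacteristicTwoType ↥(generalizedFittingSubgroup G) ∧ (generalizedFittingSubgroup G).Normal ∧
      generalizedFittingSubgroup G ≠ ⊥ := by
  have : Nontrivial G := by
    obtain ⟨a, -, b, -, hab⟩ := hna
    refine ⟨a * b, b * a, hab⟩
  obtain ⟨N, -, hN1, hNn, hNmin⟩ := Cfsg.Agent.Lib.MinNormal.exists_minimal_normal_le (⊤ : Subgroup G) top_ne_bot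
  have hN : N.Normal := normalizer_eq_top_iff.1 (top_le_iff.1 hNn)
  have hmin : ∀ K : Subgroup G, K.Normal → K ≤ N → K = ⊥ ∨ K = N := fun K hK hKN =>
    hNmin K hKN (by rw [normalizer_eq_top_iff.2 hK])
  obtain ⟨m, T, hm, hTN, hTs, hTn, hTc, hTcomm, hTinj, -, hTsup⟩ :=
    Cfsg.Agent.Lib.MinNormal.exists_internal_decomposition N hN1 hmin
  have hZ : N ⊓ centralizer (N : Set G) = ⊥ := by
    by_contra h1
    obtain ⟨a, ha, b, hb, hab⟩ := hna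
    have h2 := hJ _ inferInstance h1
    exact hab (mem_centralizer_iff.1 (h2 hb).2 a (h2 ha).1)
  let i₀ : Fin m := ⟨0, hm⟩
  have hTna : ¬ IsMulCommutative ↥(T i₀) := by
    intro hcm
    have h1 : T i₀ ≤ N ⊓ centralizer (N : Set G) := by
      refine le_inf (hTN i₀) ?_
      rw [le_centralizer_iff, ← hTsup]
      apply iSup_le
      intro j y hy
      rw [mem_centralizer_iff]
      intro a ha
      by_cases hij : i₀ = j
      · rw [← hij] at hy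
        exact congrArg Subtype.val (hcm.is_comm.comm (⟨a, ha⟩ : ↥(T i₀)) ⟨y, hy⟩)
      · exact hTcomm i₀ j hij a ha y hy
    rw [hZ, le_bot_iff] at h1
    have h2 := hTs i₀
    rw [h1] at h2
    exact not_nontrivial _ h2.toNontrivial
  have hTcomp : IsComponent (T i₀) := by
    refine ⟨?_, Cfsg.Agent.SignalizersComponents.IntrinsicDiag.quasisimple_of_simple (hTs i₀) hTna⟩
    have h1 : ((T i₀).subgroupOf N).Normal := normal_subgroupOf_of_le_normalizer (hTn i₀)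
    exact IsSubnormal.step (T i₀) N (hTN i₀) hN.isSubnormal h1
  have hT2 : 2 ∣ Nat.card ↥(T i₀) := by
    by_contra h1
    apply hN1
    apply hodd N hN
    have hodd' : ∀ j, (Nat.card ↥(T j)).Coprime 2 := by
      intro j
      obtain ⟨g, hg⟩ := hTc i₀ j
      rw [hg, ← Nat.card_congr ((T i₀).equivMapOfInjective _ (MulAut.conj g).injective).toEquiv]
      exact ((Nat.Prime.coprime_iff_not_dvd Nat.prime_two).2 h1).symm
    have h2 : ∀ j, (T j).subgroupOf N ≤ pPrimeCore 2 ↥N := by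
      intro j
      refine Cfsg.Agent.Lib.Cores.le_pPrimeCore (normal_subgroupOf_of_le_normalizer (hTn j)) ?_
      rw [Nat.card_congr (subgroupOfEquivOfLe (hTN j)).toEquiv]
      exact hodd' j
    have h3 : N ≤ (pPrimeCore 2 ↥N).map N.subtype := by
      conv_lhs => rw [← hTsup]
      apply iSup_le
      intro j t ht
      exact ⟨⟨t, hTN j ht⟩, h2 j (mem_subgroupOf.2 ht), rfl⟩
    have h4 : (Nat.card ↥N).Coprime 2 := by
      have h5 : N = (pPrimeCore 2 ↥N).map N.subtype := le_antisymm h3 (map_subtype_le _)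
      have h6 : Nat.card ↥((pPrimeCore 2 ↥N).map N.subtype) = Nat.card ↥(pPrimeCore 2 ↥N) :=
        (Nat.card_congr ((pPrimeCore 2 ↥N).equivMapOfInjective _ N.subtype_injective).toEquiv).symm
      rw [← h5] at h6
      rw [h6]
      exact Cfsg.Agent.Lib.Cores.pPrimeCore_coprime 2
    exact Nat.coprime_two_right.1 h4
  obtain ⟨hEs, hEn, hEc, -⟩ := Cfsg.Agent.BabyComp.Fix.comp_simple (fun x hx => by
    have h1 := hx ▸ pow_orderOf_eq_one x
    refine ct_inv hG (by rw [← pow_two]; exact h1) ?_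
    rintro rfl
    rw [orderOf_one] at hx
    norm_num at hx) (T i₀) hTcomp hT2
  have hFE := fstar_eq hTcomp hEc
  rw [hFE]
  refine ⟨hEs, hEc, ct_normal hG hEn (even_iff_two_dvd.2 hT2), hEn, ?_⟩
  intro h1
  rw [h1] at hEs
  exact not_nontrivial _ hEs.toNontrivial

end general

namespace Dat

variable {G : Type u} [Group G] {F : Type v} [Field F]
variable {L₁ L₂ V₁ V₂ J : Subgroup G} {π₁ π₂ : G → Fin 2 → F}
variable (h : Dat F L₁ L₂ V₁ V₂ J π₁ π₂) [Finite G] [Finite F] [CharP F 2]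

include h

theorem exists_four : ∃ x ∈ V₁, ∃ y ∈ V₁, x ≠ 1 ∧ y ≠ 1 ∧ x ≠ y := by
  obtain ⟨v, hv, e⟩ := h.s₁.surj ![1, 0]
  obtain ⟨w, hw, e'⟩ := h.s₁.surj ![0, 1]
  refine ⟨v, hv, w, hw, ?_, ?_, ?_⟩
  · rintro rfl
    rw [h.s₁.map_one] at e
    have := congrFun e 0
    simp at this
  · rintro rfl
    rw [h.s₁.map_one] at e'
    have := congrFun e' 1
    simp at this
  · rintro rfl
    rw [e'] at e
    have := congrFun e 0
    simp at this

theorem odd_normal (hG : IsCharacteristicTwoType G) {K : Subgroup G} (hK : K.Normal) (ho : Odd (Nat.card K)) :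
    K = ⊥ := by
  obtain ⟨x, hx, y, hy, hx1, hy1, hxy⟩ := h.exists_four
  exact odd_eq_bot hG hK ho (h.s₁.sq hx) hx1 (h.s₁.sq hy) hy1 (h.s₁.comm hx hy) hxy

/-- nontrivial normal subgroups contain `L₁` and `L₂` -/
theorem le_normal (hG : IsCharacteristicTwoType G) {N : Subgroup G} (hN : N.Normal) (hN1 : N ≠ ⊥) :
    J ≤ N ∧ L₁ ≤ N ∧ L₂ ≤ N := by
  have hf : Fact (Nat.Prime 2) := ⟨Nat.prime_two⟩
  obtain ⟨S, hS⟩ := h.isPGroup_J.exists_le_sylow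
  have h2 : 2 ∣ Nat.card N := by
    by_contra h1
    exact hN1 (h.odd_normal hG hN (by rwa [← Nat.not_even_iff_odd, even_iff_two_dvd]))
  obtain ⟨t, ht⟩ := exists_prime_orderOf_dvd_card' 2 h2
  have ht2 : (t : G) * t = 1 := by
    have := pow_orderOf_eq_one t
    rw [ht, pow_two] at this
    exact congrArg Subtype.val this
  have ht1 : (t : G) ≠ 1 := by
    intro h1
    have : t = 1 := Subtype.ext h1
    rw [this, orderOf_one] at ht
    norm_num at ht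
  have htp : IsPGroup 2 (zpowers (t : G)) := by
    rw [IsPGroup.iff_card]
    refine ⟨1, ?_⟩
    rw [Nat.card_zpowers, pow_one]
    exact orderOf_eq_prime (by rw [pow_two]; exact ht2) ht1
  obtain ⟨g, -, hg⟩ := Cfsg.Agent.Omega.CloseA.exists_conj_le S (H := ⊤) le_top le_top htp
  have hgt := hg t (mem_zpowers _)
  have hgN : g * t * g⁻¹ ∈ N := hN.conj_mem t t.2 g
  have hg1 : g * t * g⁻¹ ≠ 1 := by
    intro h1
    apply ht1
    have : (t : G) = g⁻¹ * (g * t * g⁻¹) * g := by group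
    rw [this, h1]; group
  have hne : N.subgroupOf (S : Subgroup G) ≠ ⊥ := by
    intro h1
    have h3 : (⟨g * t * g⁻¹, hgt⟩ : (S : Subgroup G)) ∈ N.subgroupOf (S : Subgroup G) := mem_subgroupOf.2 hgN
    rw [h1, mem_bot] at h3
    exact hg1 (congrArg Subtype.val h3)
  have hnil : Group.IsNilpotent ↥(S : Subgroup G) := S.isPGroup'.isNilpotent
  have h3 := Cfsg.Agent.Lib.NormalAbelian.normal_inf_center_ne_bot (N.subgroupOf (S : Subgroup G)) hne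
  obtain ⟨q, hq, hq1⟩ := (bot_or_exists_ne_one _).resolve_left h3
  have hqN : (q : G) ∈ N := mem_subgroupOf.1 (mem_inf.1 hq).1
  have hqc : ∀ s ∈ (S : Subgroup G), (q : G) * s = s * q := fun s hs =>
    (congrArg Subtype.val (mem_center_iff.1 (mem_inf.1 hq).2 ⟨s, hs⟩)).symm
  have hq1' : (q : G) ≠ 1 := fun h4 => hq1 (Subtype.ext h4)
  have hqV₁ : (q : G) ∈ V₁ := h.cen₁ _ fun v hv => hqc v (hS (h.s₁.VJ hv))
  have hqV₂ : (q : G) ∈ V₂ := h.cen₂ _ fun v hv => hqc v (hS (h.s₂.VJ hv))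
  have h4 : V₁ ≤ N := h.s₁.irr (fun l _ k hk => hN.conj_mem k hk l) hqV₁ hqN hq1'
  have h5 : V₂ ≤ N := h.s₂.irr (fun l _ k hk => hN.conj_mem k hk l) hqV₂ hqN hq1'
  have hJN : J ≤ N := by
    rw [← h.sup_eq]
    exact sup_le h4 h5
  exact ⟨hJN, h.s₁.le_of_J (fun l _ k hk => hN.conj_mem k hk l) hJN,
    h.s₂.le_of_J (fun l _ k hk => hN.conj_mem k hk l) hJN⟩

theorem nonab : ∃ a ∈ J, ∃ b ∈ J, a * b ≠ b * a := by
  obtain ⟨u, hu, hu2⟩ := h.exists_out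
  by_contra hc
  push Not at hc
  apply hu2
  rw [h.mem_iff hu, ← h.s₁.fix_iff hu]
  exact fun j hj => hc j hj u (h.s₁.VJ hu)

end Dat

/-- **the main theorem**, `q > 4` -/
theorem Dat.main {G : Type u} [Group G] [Finite G] (hG : IsCharacteristicTwoType G)
    {F : Type v} [Field F] [Finite F] [CharP F 2] {L₁ L₂ V₁ V₂ J : Subgroup G} {π₁ π₂ : G → Fin 2 → F}
    (h : Dat F L₁ L₂ V₁ V₂ J π₁ π₂) (hF : 4 < Nat.card F) {F' : Type} [Field F'] (ρ : F ≃+* F') :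
    Nonempty (↥(generalizedFittingSubgroup G) ≃* Matrix.ProjectiveSpecialLinearGroup (Fin 3) F) := by
  obtain ⟨hs, -, hct, hn, h1⟩ := exists_simple hG (fun K hK ho => h.odd_normal hG hK ho)
    (fun N hN hN1 => (h.le_normal hG hN hN1).1) h.nonab
  obtain ⟨-, h2, h3⟩ := h.le_normal hG hn h1
  exact (h.subgroupOf h2 h3).simple hct hF ρ

end Cfsg.Agent.H282
end

-- part: H282/Raw
section
/-!
# helper282: the structure `Side` out of an isomorphism `L/O₂(L) ≅ SL₂(F)` acting naturally on `O₂(L)`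
-/

set_option autoImplicit false
set_option linter.unusedSectionVars false

namespace Cfsg.Agent.H282

open Subgroup Cfsg Cfsg.Agent.Omega.NatPair Cfsg.Agent.Lib.SL2Mat Cfsg.Agent.Lib.AutSL2
open Cfsg.Agent.ZN (o2 o2_le isPGroup_o2 le_normalizer_o2 le_o2 normalizer_le_normalizer_o2)

universe u v

variable {G : Type u} [Group G] [Finite G] {F : Type v} [Field F] [Finite F] [CharP F 2]

/-- coordinates on `O₂(L)` -/
noncomputable def crd (L : Subgroup G) (ψ : Additive ↥(pCore 2 ↥L) ≃+ (Fin 2 → F)) (g : G) : Fin 2 → F := by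
  classical exact if h : ∃ v : ↥(pCore 2 ↥L), ((v : ↥L) : G) = g then ψ (Additive.ofMul h.choose) else 0

theorem crd_coe (L : Subgroup G) (ψ : Additive ↥(pCore 2 ↥L) ≃+ (Fin 2 → F)) (v : ↥(pCore 2 ↥L)) :
    crd L ψ ((v : ↥L) : G) = ψ (Additive.ofMul v) := by
  have h : ∃ w : ↥(pCore 2 ↥L), ((w : ↥L) : G) = ((v : ↥L) : G) := ⟨v, rfl⟩
  rw [crd, dif_pos h]
  congr 2
  exact Subtype.ext (Subtype.ext h.choose_spec)

theorem side_of (L : Subgroup G) (φ : ↥L ⧸ pCore 2 ↥L ≃* Matrix.SpecialLinearGroup (Fin 2) F)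
    (ψ : Additive ↥(pCore 2 ↥L) ≃+ (Fin 2 → F))
    (h : ∀ (g : ↥L) (v : ↥(pCore 2 ↥L)),
      ψ (Additive.ofMul ⟨g * v * g⁻¹, Subgroup.Normal.conj_mem inferInstance (v : ↥L) v.2 g⟩)
        = Matrix.mulVec ((φ (QuotientGroup.mk g) : Matrix.SpecialLinearGroup (Fin 2) F) : Matrix (Fin 2) (Fin 2) F)
          (ψ (Additive.ofMul v)))
    (S : Sylow 2 ↥L) {J : Subgroup G} (hS : (S : Subgroup ↥L).map L.subtype = J) :
    ∃ π : G → Fin 2 → F, Side F L ((pCore 2 ↥L).map L.subtype) J π := by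
  have hf : Fact (Nat.Prime 2) := ⟨Nat.prime_two⟩
  let Φ : ↥L →* Matrix.SpecialLinearGroup (Fin 2) F := φ.toMonoidHom.comp (QuotientGroup.mk' (pCore 2 ↥L))
  have hΦs : Function.Surjective Φ := φ.surjective.comp (QuotientGroup.mk'_surjective _)
  have hΦk : ∀ l, Φ l = 1 → l ∈ pCore 2 ↥L := by
    intro l hl
    have h1 : φ (QuotientGroup.mk l) = 1 := hl
    rwa [map_eq_one_iff φ φ.injective, QuotientGroup.eq_one_iff] at h1
  obtain ⟨g, hg⟩ := MulAction.exists_smul_eq (Matrix.SpecialLinearGroup (Fin 2) F) (S.mapSurjective hΦs) (sylU F 2)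
  have hmem : ∀ A : Matrix.SpecialLinearGroup (Fin 2) F, A ∈ upG F ↔ ∃ j ∈ S, g * Φ j * g⁻¹ = A := by
    intro A
    have h1 : A ∈ upG F ↔ A ∈ g • (S.mapSurjective hΦs) := by
      rw [hg]; exact Iff.rfl
    rw [h1, mem_smul_sylow]
    constructor
    · rintro ⟨j, hj, hjA⟩
      exact ⟨j, hj, by rw [hjA]; group⟩
    · rintro ⟨j, hj, rfl⟩
      exact ⟨j, hj, by group⟩
  have act : ∀ (l : ↥L) (v : ↥(pCore 2 ↥L)), ap g (crd L ψ ((l : G) * ((v : ↥L) : G) * (l : G)⁻¹)) =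
      ap (g * Φ l * g⁻¹) (ap g (crd L ψ ((v : ↥L) : G))) := by
    intro l v
    have e1 : (l : G) * ((v : ↥L) : G) * (l : G)⁻¹ =
      (((⟨l * v * l⁻¹, Subgroup.Normal.conj_mem inferInstance (v : ↥L) v.2 l⟩ : ↥(pCore 2 ↥L)) : ↥L) : G) := rfl
    rw [e1, crd_coe, crd_coe, h l v, ← ap_mul, inv_mul_cancel_right, ap_mul, ← ap_eq_mulVec]
    rfl
  refine ⟨fun x => ap g (crd L ψ x), ?_⟩
  exact
  { JL := by rw [← hS]; exact map_subtype_le _
    VJ := by rw [← hS]; exact map_mono (Cfsg.Agent.Lib.Cores.pCore_le_sylow S)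
    Vn := by
      rintro l hl _ ⟨v, hv, rfl⟩
      exact ⟨⟨l, hl⟩ * v * ⟨l, hl⟩⁻¹, Subgroup.Normal.conj_mem inferInstance v hv _, rfl⟩
    mul := by
      rintro _ ⟨v, hv, rfl⟩ _ ⟨w, hw, rfl⟩
      show ap g (crd L ψ ((((⟨v, hv⟩ * ⟨w, hw⟩ : ↥(pCore 2 ↥L)) : ↥L) : G))) =
        ap g (crd L ψ (((⟨v, hv⟩ : ↥(pCore 2 ↥L)) : ↥L) : G)) + ap g (crd L ψ (((⟨w, hw⟩ : ↥(pCore 2 ↥L)) : ↥L) : G))
      rw [crd_coe, crd_coe, crd_coe, ← ap_add, ofMul_mul, map_add]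
    inj := by
      rintro _ ⟨v, hv, rfl⟩ h0
      have h1 : ap g (crd L ψ (((⟨v, hv⟩ : ↥(pCore 2 ↥L)) : ↥L) : G)) = 0 := h0
      rw [crd_coe] at h1
      have h2 := congrArg (ap g⁻¹) h1
      rw [ap_inv_ap] at h2
      have h3 : ap g⁻¹ (0 : Fin 2 → F) = 0 := by
        have := ap_add g⁻¹ 0 0
        rw [add_zero] at this
        exact left_eq_add.1 this
      rw [h3, map_eq_zero_iff ψ ψ.injective] at h2
      have h4 : (⟨v, hv⟩ : ↥(pCore 2 ↥L)) = 1 := h2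
      have h5 : v = 1 := congrArg Subtype.val h4
      rw [h5]; rfl
    surj := by
      intro x
      obtain ⟨v, hv⟩ := ψ.surjective (ap g⁻¹ x)
      refine ⟨((Additive.toMul v : ↥(pCore 2 ↥L)) : ↥L), ⟨_, (Additive.toMul v).2, rfl⟩, ?_⟩
      rw [crd_coe, ofMul_toMul, hv, ap_ap_inv]
    ind := by
      intro l hl
      refine ⟨g * Φ ⟨l, hl⟩ * g⁻¹, ?_⟩
      rintro _ ⟨v, hv, rfl⟩
      exact act ⟨l, hl⟩ ⟨v, hv⟩
    lift := by
      intro A
      obtain ⟨l, hl⟩ := hΦs (g⁻¹ * A * g)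
      refine ⟨l, l.2, ?_⟩
      rintro _ ⟨v, hv, rfl⟩
      have h1 := act l ⟨v, hv⟩
      rw [hl] at h1
      have e : g * (g⁻¹ * A * g) * g⁻¹ = A := by group
      rw [e] at h1
      exact h1
    ker := by
      intro l hl hc
      refine ⟨⟨l, hl⟩, hΦk _ ?_, rfl⟩
      apply ap_inj
      intro x
      obtain ⟨v, hv⟩ := ψ.surjective x
      have h1 := act ⟨l, hl⟩ (Additive.toMul v)
      have h2 := hc _ ⟨_, (Additive.toMul v).2, rfl⟩
      have h3 : l * (((Additive.toMul v : ↥(pCore 2 ↥L)) : ↥L) : G) * l⁻¹ =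
          (((Additive.toMul v : ↥(pCore 2 ↥L)) : ↥L) : G) := by
        rw [mul_inv_eq_iff_eq_mul]; exact h2
      change ap g (crd L ψ (l * (((Additive.toMul v : ↥(pCore 2 ↥L)) : ↥L) : G) * l⁻¹)) = _ at h1
      rw [h3, crd_coe, ofMul_toMul, hv, ap_mul, ap_mul, ap_inv_ap] at h1
      have h4 := congrArg (ap g⁻¹) h1
      rw [ap_inv_ap, ap_inv_ap] at h4
      rw [ap_one]
      exact h4.symm
    upJ := by
      intro b hb
      rw [← hS] at hb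
      obtain ⟨j, hj, rfl⟩ := hb
      obtain ⟨c, hc⟩ := (hmem (g * Φ j * g⁻¹)).2 ⟨j, hj, rfl⟩
      refine ⟨c, ?_⟩
      rintro _ ⟨v, hv, rfl⟩
      have h1 := act j ⟨v, hv⟩
      rw [← hc] at h1
      exact h1
    cup := by
      intro c
      obtain ⟨j, hj, hc⟩ := (hmem (up c)).1 ⟨c, rfl⟩
      refine ⟨j, by rw [← hS]; exact ⟨j, hj, rfl⟩, ?_⟩
      rintro _ ⟨v, hv, rfl⟩
      have h1 := act j ⟨v, hv⟩
      rw [hc] at h1
      exact h1 }

open scoped Pointwise in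
/-- the pair out of its two sides -/
theorem pair_of {L₁ L₂ V₁ V₂ : Subgroup G} {π₁ π₂ : G → Fin 2 → F} (s₁ : Side F L₁ V₁ (V₁ ⊔ V₂) π₁)
    (s₂ : Side F L₂ V₂ (V₁ ⊔ V₂) π₂) : Pair F L₁ L₂ V₁ V₂ (V₁ ⊔ V₂) π₁ π₂ := by
  refine ⟨s₁, s₂, fun j hj => ?_⟩
  have h5 : V₂ ≤ Subgroup.normalizer (V₁ : Set G) := fun v hv =>
    mem_norm_iff.2 (s₁.Vn v (s₁.JL (Subgroup.mem_sup_right hv)))
  have h6 : j ∈ (V₁ : Set G) * (V₂ : Set G) := by
    rw [← Subgroup.coe_mul_of_right_le_normalizer_left _ _ h5]; exact hj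
  obtain ⟨a, ha, b, hb, hab⟩ := Set.mem_mul.1 h6
  exact ⟨a, ha, b, hb, hab.symm⟩

omit [Finite G] [CharP F 2] in
theorem exists_ne_of_card {F : Type v} [Field F] [Fintype F] (h4 : 4 ≤ Nat.card F) : ∃ ω : F, ω ≠ 0 ∧ ω ≠ 1 := by
  classical
  by_contra hc
  push Not at hc
  have h3 : (Finset.univ : Finset F) ⊆ {0, 1} := by
    intro a _
    by_cases h0 : a = 0
    · simp [h0]
    · simp [hc a h0]
  have h5 := Finset.card_le_card h3
  have h6 : ({0, 1} : Finset F).card ≤ 2 := Finset.card_le_two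
  rw [Finset.card_univ, ← Nat.card_eq_fintype_card] at h5
  omega

end Cfsg.Agent.H282
end

-- part: S3091
section
set_option autoImplicit false
open Cfsg

namespace Cfsg.Agent.S3091

/-- Let G be a finite group of characteristic 2 type and q = 2ᵉ > 2, F the field with q elements. Let L₁ ≠ L₂ be subgroups of G such that, for i = 1, 2, V_i = O₂(L_i) is elementary abelian with L_i/V_i ≅ SL(2, q) acting on V_i as on its natural 2-dimensional module F² (an additive isomorphism V_i ≅ F² carrying conjugation by g ∈ L_i to multiplication by the matrix of gV_i), and such that J = V₁V₂ is a Sylow 2-subgroup of both L₁ and L₂. Assume that N_G(L₁) and N_G(L₂) are maximal 2-local subgroups of G and that, for a Sylow 2-subgroup T of N_G(L₁), the subgroup generated by T, L₁ and L₂ has no nontrivial normal 2-subgroup. Then G has sectional 2-rank at most 4, or F*(G) ≅ L₃(q). -/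
theorem result
    {G : Type*} [Group G] [Finite G] (hG : Cfsg.IsCharacteristicTwoType G)
    {F : Type*} [Field F] [Fintype F] (e : ℕ) (he : 2 ≤ e) (hF : Fintype.card F = 2 ^ e)
    (L₁ L₂ : Subgroup G) (hne : L₁ ≠ L₂)
    (φ₁ : ↥L₁ ⧸ Cfsg.pCore 2 ↥L₁ ≃* Matrix.SpecialLinearGroup (Fin 2) F)
    (ψ₁ : Additive ↥(Cfsg.pCore 2 ↥L₁) ≃+ (Fin 2 → F))
    (h₁ : ∀ (g : ↥L₁) (v : ↥(Cfsg.pCore 2 ↥L₁)),
      ψ₁ (Additive.ofMul ⟨g * v * g⁻¹, Subgroup.Normal.conj_mem inferInstance (v : ↥L₁) v.2 g⟩)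
        = Matrix.mulVec ((φ₁ (QuotientGroup.mk g) : Matrix.SpecialLinearGroup (Fin 2) F) : Matrix (Fin 2) (Fin 2) F) (ψ₁ (Additive.ofMul v)))
    (φ₂ : ↥L₂ ⧸ Cfsg.pCore 2 ↥L₂ ≃* Matrix.SpecialLinearGroup (Fin 2) F)
    (ψ₂ : Additive ↥(Cfsg.pCore 2 ↥L₂) ≃+ (Fin 2 → F))
    (h₂ : ∀ (g : ↥L₂) (v : ↥(Cfsg.pCore 2 ↥L₂)),
      ψ₂ (Additive.ofMul ⟨g * v * g⁻¹, Subgroup.Normal.conj_mem inferInstance (v : ↥L₂) v.2 g⟩)
        = Matrix.mulVec ((φ₂ (QuotientGroup.mk g) : Matrix.SpecialLinearGroup (Fin 2) F) : Matrix (Fin 2) (Fin 2) F) (ψ₂ (Additive.ofMul v)))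
    (hJ₁ : ∃ S : Sylow 2 ↥L₁, (S : Subgroup ↥L₁).map L₁.subtype = (Cfsg.pCore 2 ↥L₁).map L₁.subtype ⊔ (Cfsg.pCore 2 ↥L₂).map L₂.subtype)
    (hJ₂ : ∃ S : Sylow 2 ↥L₂, (S : Subgroup ↥L₂).map L₂.subtype = (Cfsg.pCore 2 ↥L₁).map L₁.subtype ⊔ (Cfsg.pCore 2 ↥L₂).map L₂.subtype)
    (hM₁ : Cfsg.IsMaximalTwoLocal (Subgroup.normalizer (L₁ : Set G))) (hM₂ : Cfsg.IsMaximalTwoLocal (Subgroup.normalizer (L₂ : Set G)))
    (T : Sylow 2 ↥(Subgroup.normalizer (L₁ : Set G)))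
    (hO : Cfsg.pCore 2 ↥(((T : Subgroup ↥(Subgroup.normalizer (L₁ : Set G))).map (Subgroup.normalizer (L₁ : Set G)).subtype) ⊔ L₁ ⊔ L₂) = ⊥) :
    Cfsg.SectionalPRankLE 2 4 G ∨
      Nonempty (↥(Cfsg.generalizedFittingSubgroup G) ≃* Matrix.ProjectiveSpecialLinearGroup (Fin 3) F) := by
  have hf : Fact (Nat.Prime 2) := ⟨Nat.prime_two⟩
  have _ : CharP F 2 := by
    obtain ⟨p, hp⟩ := CharP.exists F
    obtain ⟨n, hpp, hn⟩ := FiniteField.card F p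
    rw [hF] at hn
    have h1 : p ∣ 2 ^ e := by
      rw [hn]
      exact dvd_pow_self p n.2.ne'
    have h2 : p = 2 := (Nat.prime_dvd_prime_iff_eq hpp Nat.prime_two).1 (hpp.dvd_of_dvd_pow h1)
    rw [← h2]
    exact hp
  have hcard : Nat.card F = 2 ^ e := by rw [Nat.card_eq_fintype_card, hF]
  have h4 : 4 ≤ Nat.card F := by
    rw [hcard]
    calc 4 = 2 ^ 2 := by norm_num
      _ ≤ 2 ^ e := Nat.pow_le_pow_right (by norm_num) he
  obtain ⟨S₁, hS₁⟩ := hJ₁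
  obtain ⟨S₂, hS₂⟩ := hJ₂
  obtain ⟨π₁, s₁⟩ := Cfsg.Agent.H282.side_of L₁ φ₁ ψ₁ h₁ S₁ hS₁
  obtain ⟨π₂, s₂⟩ := Cfsg.Agent.H282.side_of L₂ φ₂ ψ₂ h₂ S₂ hS₂
  set V₁ : Subgroup G := (Cfsg.pCore 2 ↥L₁).map L₁.subtype with hV₁
  set V₂ : Subgroup G := (Cfsg.pCore 2 ↥L₂).map L₂.subtype with hV₂
  have hp : Cfsg.Agent.H282.Pair F L₁ L₂ V₁ V₂ (V₁ ⊔ V₂) π₁ π₂ := Cfsg.Agent.H282.pair_of s₁ s₂
  -- `N_G(V_i) = N_G(L_i)`
  have hmax : ∀ (L : Subgroup G), Cfsg.IsMaximalTwoLocal (Subgroup.normalizer (L : Set G)) →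
      (∃ z ∈ (Cfsg.pCore 2 ↥L).map L.subtype, z ≠ 1) →
      ∀ g, (∀ v ∈ (Cfsg.pCore 2 ↥L).map L.subtype, g * v * g⁻¹ ∈ (Cfsg.pCore 2 ↥L).map L.subtype) →
        ∀ l ∈ L, g * l * g⁻¹ ∈ L := by
    rintro L hM ⟨z, hz, hz1⟩ g hg
    have h7 : Subgroup.normalizer (((Cfsg.pCore 2 ↥L).map L.subtype : Subgroup G) : Set G) =
        Subgroup.normalizer (L : Set G) := by
      refine hM.2 _ ⟨_, Cfsg.Agent.ZN.isPGroup_o2 L, ?_, rfl⟩ (Cfsg.Agent.ZN.normalizer_le_normalizer_o2 L)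
      intro h8
      apply hz1
      have h9 : z ∈ Cfsg.Agent.ZN.o2 L := hz
      rw [h8, Subgroup.mem_bot] at h9
      exact h9
    have h8 := Cfsg.Agent.H282.mem_norm_iff.2 hg
    rw [h7] at h8
    exact Cfsg.Agent.H282.mem_norm_iff.1 h8
  obtain ⟨z, hz, hz1⟩ := hp.exists_z
  have hs : Cfsg.Agent.H282.Sit F L₁ L₂ V₁ V₂ (V₁ ⊔ V₂) π₁ π₂ :=
    { toPair := hp
      ct := hG
      nrm₁ := hmax L₁ hM₁ ⟨z, hz.1, hz1⟩
      nrm₂ := hmax L₂ hM₂ ⟨z, hz.2, hz1⟩ }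
  obtain ⟨ω, hω, hω1⟩ := Cfsg.Agent.H282.exists_ne_of_card h4
  have hd := hs.dat hω hω1 (by
    intro R hR hRn hR1 hR2
    have hRN : R ≤ Subgroup.normalizer (L₁ : Set G) := by
      intro r hr
      rw [Cfsg.Agent.H282.mem_norm_iff]
      intro l hl
      rw [← Subgroup.mem_centralizer_iff.1 (hR1 hr) l hl, mul_inv_cancel_right]
      exact hl
    have hn : (R.subgroupOf (Subgroup.normalizer (L₁ : Set G))).Normal :=
      Subgroup.normal_subgroupOf_of_le_normalizer hRn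
    have hRp : IsPGroup 2 (R.subgroupOf (Subgroup.normalizer (L₁ : Set G))) := hR.comap_subtype
    have hRT := IsPGroup.le_sylow_of_normal hRp T
    have hRT' : R ≤ (T : Subgroup ↥(Subgroup.normalizer (L₁ : Set G))).map
        (Subgroup.normalizer (L₁ : Set G)).subtype := fun r hr =>
      ⟨⟨r, hRN hr⟩, hRT (Subgroup.mem_subgroupOf.2 hr), rfl⟩
    set Y : Subgroup G := ((T : Subgroup ↥(Subgroup.normalizer (L₁ : Set G))).map
      (Subgroup.normalizer (L₁ : Set G)).subtype) ⊔ L₁ ⊔ L₂ with hY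
    have hcR : ∀ L : Subgroup G, R ≤ Subgroup.centralizer (L : Set G) → L ≤ Subgroup.normalizer (R : Set G) := by
      intro L hL l hl
      rw [Cfsg.Agent.H282.mem_norm_iff]
      intro r hr
      rw [Subgroup.mem_centralizer_iff.1 (hL hr) l hl, mul_inv_cancel_right]
      exact hr
    have hYR : Y ≤ Subgroup.normalizer (R : Set G) :=
      sup_le (sup_le ((Subgroup.map_subtype_le _).trans hRn) (hcR L₁ hR1)) (hcR L₂ hR2)
    have hRY : R ≤ Y := hRT'.trans (le_sup_left.trans le_sup_left)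
    have hn2 : (R.subgroupOf Y).Normal := Subgroup.normal_subgroupOf_of_le_normalizer hYR
    have h5 := Cfsg.Agent.Lib.Cores.le_pCore hn2 (hR.comap_subtype : IsPGroup 2 (R.subgroupOf Y))
    rw [hO, le_bot_iff, Subgroup.subgroupOf_eq_bot, disjoint_iff, inf_eq_left.2 hRY] at h5
    exact h5)
  rcases h4.eq_or_lt with h5 | h5
  · exact Or.inl (hd.rank h5.symm)
  · right
    have _ : Fintype (GaloisField 2 e) := Fintype.ofFinite _
    have h6 : Fintype.card F = Fintype.card (GaloisField 2 e) := by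
      rw [hF, ← Nat.card_eq_fintype_card, GaloisField.card 2 e (by omega)]
    exact hd.main hG h5 (FiniteField.ringEquivOfCardEq h6)

end Cfsg.Agent.S3091
end
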