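import Mathlib
import Cfsg.Agent.Classification.FourGenMain
import Cfsg.Agent.S0219
import Cfsg.Prelude.Def_Solvable
import Cfsg.Agent.H909.KFour_m3
import Cfsg.Agent.GH.Cov.QuatTop_m3
import Cfsg.Agent.GH.BranchEC_mg_m3
import Cfsg.Agent.S0892
import Cfsg.Agent.S2035
import Cfsg.Agent.S2086
import Cfsg.Agent.S2089
import Cfsg.Agent.S2092
import Cfsg.Agent.GH.L2One.Inst_m3
import Cfsg.Agent.Dichotomy.CoreTools
import Cfsg.Agent.Lib.GenFitting
import Cfsg.Agent.H740.FiveBase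
import Cfsg.Agent.H100.NormRank
import Cfsg.Agent.Transfer.PGroupNormal
import Cfsg.Agent.S0501
import Cfsg.Agent.GH.Cov.SylowThree_m3
import Cfsg.Agent.Lib.AutSL2Out
import Cfsg.Prelude.Def_KGroupFacts
import Cfsg.Agent.H933.SubTwist
import Cfsg.Agent.H933.SubChev
import Cfsg.Agent.H69.OutTwD4
import Cfsg.Agent.H69.OutGF
import Cfsg.Agent.S2121
import Cfsg.Agent.S2129
import Cfsg.Agent.GH.AltOut
import Cfsg.Agent.S1738
import Cfsg.Agent.S2060
import Cfsg.Agent.S2061
import Cfsg.Agent.S2062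
import Cfsg.Agent.S2063
import Cfsg.Agent.S2065
import Cfsg.Agent.S2066
import Cfsg.Agent.S2067
import Cfsg.Agent.S2073
import Cfsg.Agent.S2076
import Cfsg.Agent.S2119
import Cfsg.Agent.S2126
import Cfsg.Agent.S2127
import Cfsg.Agent.S2601
import Cfsg.Agent.S2602
import Cfsg.Agent.S2603
import Cfsg.Agent.H326.CHZ
import Cfsg.Prelude.Def_Classical
import Cfsg.Agent.S0243
import Cfsg.Agent.S0280
import Cfsg.Agent.HoltZ.Base
import Cfsg.Agent.Lib.FastPerm
import Cfsg.Agent.Schreier.McLaughlin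
import Cfsg.Agent.SporadicA.MathieuRecog
import Cfsg.Agent.ClassificationK.GTwoSylow
import Cfsg.Agent.S1059
import Cfsg.Prelude.Def_Sz
import Cfsg.Prelude.Def_Spor_Mathieu
import Cfsg.Agent.HoltZ.Psl4
import Cfsg.Agent.Characters.CNBasic
import Cfsg.Agent.LieClassical.SUBasic
import Cfsg.Agent.HoltZ.Psp
import Cfsg.Agent.H100.SpTwo
import Cfsg.Agent.LThreeMB.QuoMap
import Cfsg.Agent.NotResT.SmallTwo
import Cfsg.Agent.RankThree.FilterSpor
import Cfsg.Agent.Schreier.JThreeSylow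
import Cfsg.Agent.J2Sylow.SporSylow
import Cfsg.Agent.J3.Core
import Cfsg.Statements.S3102
import Cfsg.Agent.FastGrp
import Cfsg.Agent.Prune
set_option linter.all false

section
prune_inst 0x7f00000000000000000000000000000000000000000000000000000000000000000000000000000000000000000000000000000000000000000000000000000000000000000000000000000000000000003fffffffffffffffffffffffffffbeffbdffffffff

section
prune_inst 0xb0fcf9afb825dfdfff7e7ffeb9dffff9b4ffffffdff9cbffecebffafdf6b0ac9e5fb8d0be818ff0ef6629610f87b13fbffd67fee6bdc7ffffd5ff41ffbff8fedf7b508519488340f382fff03f07f8e7f000000000000000000000000000000004200000000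

-- part: H285/FsC
section
prune_inst 0x4c03020040980020000000014600000448000000200630001110004000007536000022f404c200b0018020200000400400088001002100000000004004005012080aa50063300a10c65000f80b007180c00000000000000000000000000041000000000000
set_option linter.all false
open scoped Cfsg.Agent.FastGrp

-- part: H285/FsA
section
/-!
# Fusion simple groups with a normal four-group: the local situation (S3102)

`Loc S V`: `S` is a Sylow 2-subgroup of `X` without a normal `E₈`, `X` has no normal subgroup of index two,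
`V` is a normal four-group of `X` and no involution of `V` is central.
-/

set_option autoImplicit false
set_option linter.unusedSectionVars false

open Subgroup
open scoped commutatorElement

namespace Cfsg.Agent.H285.Fs

variable {X : Type*} [Group X] [Finite X]

/-- The local situation. -/
structure Loc (S V : Subgroup X) : Prop where
  syl : ∃ P : Sylow 2 X, (P : Subgroup X) = S
  noE : ∀ E : Subgroup X, E ≤ S → (∀ a ∈ E, a * a = 1) → (∀ s ∈ S, ∀ a ∈ E, s * a * s⁻¹ ∈ E) → Nat.card E ≤ 4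
  noIdx : ∀ N : Subgroup X, N.Normal → N.index ≠ 2
  vn : V.Normal
  v2 : ∀ v ∈ V, v * v = 1
  v4 : Nat.card V = 4
  nc : ∀ v ∈ V, v ≠ 1 → ∃ g : X, g * v * g⁻¹ ≠ v

/-! ### general lemmas -/

theorem two_mul_card_le {A B : Subgroup X} (h : A ≤ B) (hne : A ≠ B) : 2 * Nat.card A ≤ Nat.card B := by
  have h1 : Nat.card A ∣ Nat.card B := Subgroup.card_dvd_of_le h
  obtain ⟨k, hk⟩ := h1
  have hA : 0 < Nat.card A := Nat.card_pos
  have hB : 0 < Nat.card B := Nat.card_pos
  have hk0 : k ≠ 0 := by rintro rfl; omega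
  have hk1 : k ≠ 1 := by
    rintro rfl
    exact hne (Subgroup.eq_of_le_of_card_ge h (by omega))
  rw [hk, mul_comm]
  exact Nat.mul_le_mul_left _ (by omega)

/-- A normal subgroup containing "half" of a Sylow 2-subgroup contains it. -/
theorem le_of_idx (hI : ∀ N : Subgroup X, N.Normal → N.index ≠ 2) (P : Sylow 2 X) (C : Subgroup X) (hC : C.Normal)
    (h : ∀ s ∈ (P : Subgroup X), ∀ s' ∈ (P : Subgroup X), s ∉ C → s' ∉ C → s * s' ∈ C) : (P : Subgroup X) ≤ C := by
  by_contra hcon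
  obtain ⟨s, hs, hsC⟩ := SetLike.not_le_iff_exists.1 hcon
  have hsur : Function.Surjective (QuotientGroup.mk' C) := QuotientGroup.mk'_surjective C
  let T : Sylow 2 (X ⧸ C) := P.mapSurjective hsur
  have hT : (T : Subgroup (X ⧸ C)) = (P : Subgroup X).map (QuotientGroup.mk' C) := rfl
  have hss : QuotientGroup.mk' C s * QuotientGroup.mk' C s = 1 := by
    rw [← map_mul]
    exact (QuotientGroup.eq_one_iff _).2 (h s hs s hs hsC hsC)
  have hs1 : QuotientGroup.mk' C s ≠ 1 := fun e => hsC ((QuotientGroup.eq_one_iff _).1 e)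
  have hgen : ∀ y ∈ (T : Subgroup (X ⧸ C)), y = 1 ∨ y = QuotientGroup.mk' C s := by
    intro y hy
    rw [hT] at hy
    obtain ⟨t, ht, rfl⟩ := hy
    by_cases htC : t ∈ C
    · exact Or.inl ((QuotientGroup.eq_one_iff _).2 htC)
    · refine Or.inr ?_
      have h1 : QuotientGroup.mk' C t * QuotientGroup.mk' C s = 1 := by
        rw [← map_mul]
        exact (QuotientGroup.eq_one_iff _).2 (h t ht s hs htC hsC)
      rw [eq_inv_of_mul_eq_one_left h1]
      exact (eq_inv_of_mul_eq_one_left hss).symm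
  have hcyc : IsCyclic (T : Subgroup (X ⧸ C)) := by
    refine ⟨⟨QuotientGroup.mk' C s, by rw [hT]; exact ⟨s, hs, rfl⟩⟩, ?_⟩
    rintro ⟨y, hy⟩
    rcases hgen y hy with h1 | h1
    · exact ⟨0, Subtype.ext (by simp only [h1, _root_.QuotientGroup.mk'_apply, _root_.zpow_ofNat, _root_.pow_zero, _root_.OneMemClass.coe_one])⟩
    · exact ⟨1, Subtype.ext (by simp only [h1, _root_.QuotientGroup.mk'_apply, _root_.zpow_ofNat, _root_.pow_one])⟩
  have heven : Even (Nat.card (X ⧸ C)) := by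
    rw [even_iff_two_dvd]
    have h2 : orderOf (QuotientGroup.mk' C s) = 2 := orderOf_eq_prime (by rw [pow_two]; exact hss) hs1
    rw [← h2]
    exact _root_.orderOf_dvd_natCard _
  obtain ⟨H, hH⟩ := S0219.result heven T hcyc
  have hHn : H.Normal := Subgroup.normal_of_index_eq_two hH
  exact hI (H.comap (QuotientGroup.mk' C)) (hHn.comap _)
    (by rw [Subgroup.index_comap_of_surjective H hsur]; exact hH)

/-- Fixed points of a 2-group on a section. -/
theorem exists_mid {P : Type*} [Group P] [Finite P] (hP : IsPGroup 2 P) (A M : Subgroup P) (hA : A.Normal)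
    (hM : M.Normal) (hne : ∃ m ∈ M, m ∉ A) :
    ∃ m ∈ M, m ∉ A ∧ m * m ∈ A ∧ ∀ s : P, s * m * s⁻¹ * m⁻¹ ∈ A := by
  classical
  have := hA
  have hsur : Function.Surjective (QuotientGroup.mk' A) := QuotientGroup.mk'_surjective A
  let N : Subgroup (P ⧸ A) := M.map (QuotientGroup.mk' A)
  have hN : N.Normal := hM.map _ hsur
  have hPQ : IsPGroup 2 (P ⧸ A) := hP.to_quotient A
  have hNt : Nontrivial N := by
    obtain ⟨m, hm, hmA⟩ := hne
    refine ⟨⟨⟨QuotientGroup.mk' A m, ⟨m, hm, rfl⟩⟩, 1, ?_⟩⟩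
    intro e
    exact hmA ((QuotientGroup.eq_one_iff _).1 (congrArg Subtype.val e))
  have : Fact (Nat.Prime 2) := ⟨Nat.prime_two⟩
  -- the action of P/A on N by conjugation
  have hfix : 2 ∣ Nat.card (MulAction.fixedPoints (ConjAct (P ⧸ A)) N) := by
    have h1 : IsPGroup 2 (ConjAct (P ⧸ A)) := hPQ
    have h2 : 2 ∣ Nat.card N := by
      have h3 : IsPGroup 2 N := hPQ.to_subgroup N
      obtain ⟨k, hk⟩ := h3.exists_card_eq
      have : 1 < Nat.card N := Finite.one_lt_card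
      rcases Nat.eq_zero_or_pos k with h0 | h0
      · rw [h0, pow_zero] at hk; omega
      · rw [hk]; exact dvd_pow_self 2 (by omega)
    exact (h1.card_modEq_card_fixedPoints N).dvd_iff (dvd_refl 2) |>.1 h2
  -- the subgroup of fixed points
  let F : Subgroup (P ⧸ A) := N ⊓ center (P ⧸ A)
  have hF : 2 ∣ Nat.card F := by
    have e : MulAction.fixedPoints (ConjAct (P ⧸ A)) N ≃ F := by
      refine ⟨fun x => ⟨(x.1 : P ⧸ A), x.1.2, ?_⟩, fun y => ⟨⟨y.1, y.2.1⟩, ?_⟩, ?_, ?_⟩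
      · show (x.1 : P ⧸ A) ∈ center (P ⧸ A)
        rw [mem_center_iff]
        intro g
        have h1 := congrArg Subtype.val (x.2 (ConjAct.toConjAct g))
        have h2 : g * (x.1 : P ⧸ A) * g⁻¹ = x.1 := by
          simpa only [ConjAct.Subgroup.val_conj_smul, ConjAct.toConjAct_smul] using h1
        rw [mul_inv_eq_iff_eq_mul] at h2
        exact h2
      · intro g
        refine Subtype.ext ?_
        have h1 := mem_center_iff.1 y.2.2 (ConjAct.ofConjAct g)
        rw [ConjAct.Subgroup.val_conj_smul, ConjAct.smul_def, h1, mul_inv_cancel_right]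
      · intro x; rfl
      · intro y; rfl
    rwa [Nat.card_congr e] at hfix
  obtain ⟨⟨f, hf⟩, hf2⟩ := exists_prime_orderOf_dvd_card' (G := F) 2 hF
  have hf2' : orderOf f = 2 := by
    rw [← hf2]; exact Subgroup.orderOf_coe (⟨f, hf⟩ : F)
  obtain ⟨⟨m, hm, hmf⟩, hfc⟩ := hf
  refine ⟨m, hm, ?_, ?_, ?_⟩
  · intro hmA
    have h1 : f = 1 := by rw [← hmf]; exact (QuotientGroup.eq_one_iff _).2 hmA
    rw [h1, orderOf_one] at hf2'
    omega
  · rw [← QuotientGroup.eq_one_iff (N := A)]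
    have h1 : f * f = 1 := by rw [← pow_two, ← hf2', pow_orderOf_eq_one]
    rw [← hmf] at h1
    exact h1
  · intro s
    rw [← QuotientGroup.eq_one_iff (N := A)]
    have h1 := mem_center_iff.1 hfc (QuotientGroup.mk' A s)
    rw [← hmf] at h1
    have h2 : QuotientGroup.mk' A (s * m * s⁻¹ * m⁻¹) = 1 := by
      rw [map_mul, map_mul, map_mul, map_inv, map_inv, h1]
      group
    exact h2

/-- `exists_mid` for a subgroup `S` of `X`. -/
theorem exists_mid' {S : Subgroup X} (hS : IsPGroup 2 S) {A M : Subgroup X} (hMS : M ≤ S)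
    (hA : ∀ s ∈ S, ∀ a ∈ A, s * a * s⁻¹ ∈ A) (hM : ∀ s ∈ S, ∀ a ∈ M, s * a * s⁻¹ ∈ M)
    (hne : ∃ m ∈ M, m ∉ A) :
    ∃ m ∈ M, m ∉ A ∧ m * m ∈ A ∧ ∀ s ∈ S, s * m * s⁻¹ * m⁻¹ ∈ A := by
  obtain ⟨m, hm, hmA⟩ := hne
  obtain ⟨⟨m', hm'S⟩, h1, h2, h3, h4⟩ := exists_mid hS (A.subgroupOf S) (M.subgroupOf S)
    ⟨fun a ha s => hA s s.2 a ha⟩ ⟨fun a ha s => hM s s.2 a ha⟩
    ⟨⟨m, hMS hm⟩, hm, hmA⟩
  exact ⟨m', h1, h2, h3, fun s hs => h4 ⟨s, hs⟩⟩

/-- A minimal normal subgroup above `A` inside a normal 2-group. -/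
theorem exists_min {A Q : Subgroup X} (hQ : IsPGroup 2 Q) (hA : A.Normal) (hQn : Q.Normal) (h : A ≤ Q) (hne : A ≠ Q) :
    ∃ M : Subgroup X, M.Normal ∧ A ≤ M ∧ A ≠ M ∧ M ≤ Q ∧
      (∀ N : Subgroup X, N.Normal → A ≤ N → N ≤ M → N = A ∨ N = M) ∧
      (∀ m ∈ M, m * m ∈ A) ∧ (∀ m ∈ M, ∀ n ∈ M, n * m * n⁻¹ * m⁻¹ ∈ A) := by
  obtain ⟨M, ⟨hMn, hAM, hne', hMQ⟩, hmin⟩ := Set.Finite.exists_minimal
    (Set.toFinite {M : Subgroup X | M.Normal ∧ A ≤ M ∧ A ≠ M ∧ M ≤ Q}) ⟨Q, hQn, h, hne, le_rfl⟩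
  have hmin' : ∀ N : Subgroup X, N.Normal → A ≤ N → N ≤ M → N = A ∨ N = M := by
    intro N hN hAN hNM
    by_cases hc : N = A
    · exact Or.inl hc
    · exact Or.inr (le_antisymm hNM (hmin ⟨hN, hAN, fun e => hc e.symm, hNM.trans hMQ⟩ hNM))
  let N : Subgroup X :=
    { carrier := {m | m ∈ M ∧ m * m ∈ A ∧ ∀ n ∈ M, n * m * n⁻¹ * m⁻¹ ∈ A}
      one_mem' := ⟨M.one_mem, by simp [A.one_mem], fun n _ => by simp [A.one_mem]⟩
      mul_mem' := by
        rintro a b ⟨ha, ha2, hac⟩ ⟨hb, hb2, hbc⟩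
        refine ⟨M.mul_mem ha hb, ?_, ?_⟩
        · have e : a * b * (a * b) = (a * b * a⁻¹ * b⁻¹) * (b * (a * a) * b⁻¹) * (b * b) := by group
          rw [e]
          exact A.mul_mem (A.mul_mem (hbc a ha) (hA.conj_mem _ ha2 b)) hb2
        · intro n hn
          have e : n * (a * b) * n⁻¹ * (a * b)⁻¹ =
              (n * a * n⁻¹ * a⁻¹) * (a * (n * b * n⁻¹ * b⁻¹) * a⁻¹) := by group
          rw [e]
          exact A.mul_mem (hac n hn) (hA.conj_mem _ (hbc n hn) a)
      inv_mem' := by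
        rintro a ⟨ha, ha2, hac⟩
        refine ⟨M.inv_mem ha, ?_, ?_⟩
        · have e : a⁻¹ * a⁻¹ = (a * a)⁻¹ := by group
          rw [e]; exact A.inv_mem ha2
        · intro n hn
          have e : n * a⁻¹ * n⁻¹ * a⁻¹⁻¹ = a⁻¹ * (n * a * n⁻¹ * a⁻¹)⁻¹ * a := by group
          rw [e]
          have := hA.conj_mem _ (A.inv_mem (hac n hn)) a⁻¹
          rwa [inv_inv] at this }
  have hNn : N.Normal := by
    refine ⟨?_⟩
    rintro a ⟨ha, ha2, hac⟩ g
    refine ⟨hMn.conj_mem _ ha g, ?_, ?_⟩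
    · have e : g * a * g⁻¹ * (g * a * g⁻¹) = g * (a * a) * g⁻¹ := by group
      rw [e]; exact hA.conj_mem _ ha2 g
    · intro n hn
      have e : n * (g * a * g⁻¹) * n⁻¹ * (g * a * g⁻¹)⁻¹ =
          g * ((g⁻¹ * n * g) * a * (g⁻¹ * n * g)⁻¹ * a⁻¹) * g⁻¹ := by group
      rw [e]
      have h1 := hMn.conj_mem _ hn g⁻¹
      rw [inv_inv] at h1
      exact hA.conj_mem _ (hac _ h1) g
  have hAN : A ≤ N := by
    intro a ha
    exact ⟨hAM ha, A.mul_mem ha ha, fun n _ => A.mul_mem (hA.conj_mem _ ha n) (A.inv_mem ha)⟩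
  have hNM : N ≤ M := fun a ha => ha.1
  have hMp : IsPGroup 2 M := hQ.to_le hMQ
  have hex : ∃ m ∈ M, m ∉ A := by
    by_contra hcon
    push Not at hcon
    exact hne' (le_antisymm hAM hcon)
  obtain ⟨m, hm, hmA, hm2, hmc⟩ := exists_mid' hMp le_rfl (fun s _ a ha => hA.conj_mem _ ha s)
    (fun s _ a ha => hMn.conj_mem _ ha s) hex
  have hNe : N = M := by
    rcases hmin' N hNn hAN hNM with h1 | h1
    · exact absurd (h1 ▸ (⟨hm, hm2, hmc⟩ : m ∈ N)) hmA
    · exact h1
  refine ⟨M, hMn, hAM, hne', hMQ, hmin', ?_, ?_⟩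
  · intro m hm; rw [← hNe] at hm; exact hm.2.1
  · intro m hm n hn; rw [← hNe] at hm; exact hm.2.2 n hn

end Cfsg.Agent.H285.Fs
end

-- part: H285/FsB
section
/-!
# The local situation: `V` is central in `S`, the subgroup `W` with `W / V = Ω₁(Z(S / V))`
-/

set_option autoImplicit false
set_option linter.unusedSectionVars false

open Subgroup

namespace Cfsg.Agent.H285.Fs

variable {X : Type*} [Group X] [Finite X] {S V : Subgroup X}

theorem perm_cube : ∀ σ : Equiv.Perm (Fin 3), Equiv.Perm.sign σ = 1 → σ * σ * σ = 1 := by decide +kernel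

theorem perm_trans : ∀ σ : Equiv.Perm (Fin 3), Equiv.Perm.sign σ = 1 → σ ≠ 1 →
    ∀ i j : Fin 3, i = j ∨ σ i = j ∨ (σ * σ) i = j := by decide +kernel

theorem normal_le {N : Subgroup X} (hp : IsPGroup 2 N) (hn : N.Normal) (P : Sylow 2 X) : N ≤ (P : Subgroup X) := by
  obtain ⟨Q, hQ⟩ := hp.exists_le_sylow
  obtain ⟨g, rfl⟩ := MulAction.exists_smul_eq X Q P
  intro n hn'
  have h1 := hQ (hn.conj_mem n hn' g⁻¹)
  rw [Sylow.coe_subgroup_smul, Subgroup.mem_pointwise_smul_iff_inv_smul_mem]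
  simpa only [MulAut.smul_def, _root_.MulAut.inv_apply, _root_.MulAut.conj_symm_apply, _root_.inv_inv] using h1

namespace Loc

theorem isP (h : Loc S V) : IsPGroup 2 S := by
  obtain ⟨P, rfl⟩ := h.syl
  exact P.2

theorem vp (h : Loc S V) : IsPGroup 2 V := by
  intro v
  refine ⟨1, ?_⟩
  rw [pow_one, pow_two]
  exact Subtype.ext (h.v2 v v.2)

theorem vS (h : Loc S V) : V ≤ S := by
  obtain ⟨P, rfl⟩ := h.syl
  exact normal_le h.vp h.vn P

theorem v_comm (h : Loc S V) {a b : X} (ha : a ∈ V) (hb : b ∈ V) : a * b = b * a := by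
  have h1 := h.v2 _ (V.mul_mem ha hb)
  have h2 := h.v2 _ ha
  have h3 := h.v2 _ hb
  have ha' : a⁻¹ = a := inv_eq_of_mul_eq_one_left h2
  have hb' : b⁻¹ = b := inv_eq_of_mul_eq_one_left h3
  have h4 : (a * b)⁻¹ = a * b := inv_eq_of_mul_eq_one_left h1
  rw [← h4, mul_inv_rev, ha', hb']

theorem v_inv (h : Loc S V) {a : X} (ha : a ∈ V) : a⁻¹ = a := inv_eq_of_mul_eq_one_left (h.v2 _ ha)

/-- The three involutions of `V`, numbered. -/
theorem exists_equiv (h : Loc S V) : Nonempty ({v : V // v ≠ 1} ≃ Fin 3) := by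
  classical
  have := Fintype.ofFinite V
  refine ⟨Fintype.equivFinOfCardEq ?_⟩
  rw [Fintype.card_subtype_compl, Fintype.card_subtype_eq, ← Nat.card_eq_fintype_card, h.v4]

/-- The action of `X` on the involutions of `V`. -/
def act (h : Loc S V) : X →* Equiv.Perm {v : V // v ≠ 1} where
  toFun g :=
    { toFun := fun v => ⟨⟨g * v * g⁻¹, h.vn.conj_mem _ v.1.2 g⟩, fun e => v.2 (Subtype.ext (by
        have h1 := congrArg Subtype.val e
        simpa only [_root_.ne_eq, _root_.OneMemClass.coe_one, _root_.OneMemClass.coe_eq_one, _root_.conj_eq_one_iff] using h1))⟩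
      invFun := fun v => ⟨⟨g⁻¹ * v * g, by simpa only [_root_.ne_eq, _root_.inv_inv] using h.vn.conj_mem _ v.1.2 g⁻¹⟩, fun e => v.2 (Subtype.ext (by
        have h1 := congrArg Subtype.val e
        have h2 : g * (g⁻¹ * (v : X) * g) * g⁻¹ = g * 1 * g⁻¹ := by rw [show g⁻¹ * (v : X) * g = 1 from h1]
        simpa only [mul_assoc, _root_.ne_eq, _root_.OneMemClass.coe_one, _root_.OneMemClass.coe_eq_one, _root_.mul_inv_cancel_left, _root_.mul_inv_cancel, _root_.mul_one] using h2))⟩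
      left_inv := fun v => Subtype.ext (Subtype.ext (by simp only [mul_assoc, _root_.ne_eq, _root_.inv_mul_cancel_left, _root_.inv_mul_cancel, _root_.mul_one]))
      right_inv := fun v => Subtype.ext (Subtype.ext (by simp only [mul_assoc, _root_.ne_eq, _root_.mul_inv_cancel_left, _root_.mul_inv_cancel, _root_.mul_one])) }
  map_one' := by ext v; simp only [_root_.ne_eq, _root_.one_mul, _root_.inv_one, _root_.mul_one, _root_.Subtype.coe_eta, _root_.Equiv.coe_fn_mk, _root_.Equiv.Perm.coe_one, _root_.id_eq]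
  map_mul' a b := by ext v; simp only [mul_assoc, _root_.ne_eq, _root_.mul_inv_rev, _root_.Equiv.coe_fn_mk, _root_.Equiv.Perm.coe_mul, _root_.Function.comp_apply]

theorem act_apply (h : Loc S V) (g : X) (v : {v : V // v ≠ 1}) : ((h.act g v : V) : X) = g * v * g⁻¹ := rfl

theorem sign_act (h : Loc S V) (e : {v : V // v ≠ 1} ≃ Fin 3) (g : X) :
    Equiv.Perm.sign (e.permCongr (h.act g)) = 1 := by
  let f : X →* ℤˣ := (Equiv.Perm.sign).comp ((e.permCongrHom : _ ≃* Equiv.Perm (Fin 3)).toMonoidHom.comp h.act)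
  by_contra hcon
  have hf : f g ≠ 1 := hcon
  have h2 : f.ker.index = 2 := by
    rw [Subgroup.index_ker]
    have hr : f.range = ⊤ := by
      rw [eq_top_iff]
      intro u _
      rcases Int.units_eq_one_or u with h1 | h1
      · rw [h1]; exact one_mem _
      · rcases Int.units_eq_one_or (f g) with h3 | h3
        · exact absurd h3 hf
        · exact ⟨g, by rw [h1, h3]⟩
    rw [hr]
    simp only [_root_.Subgroup.mem_top, _root_.Nat.card_eq_fintype_card, _root_.Fintype.card_subtype_true, _root_.Fintype.card_units_int]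
  exact h.noIdx _ inferInstance h2

theorem cube (h : Loc S V) (g : X) : h.act g * h.act g * h.act g = 1 := by
  obtain ⟨e⟩ := h.exists_equiv
  have h1 := perm_cube _ (h.sign_act e g)
  have h2 : (e.permCongrHom (h.act g * h.act g * h.act g)) = 1 := by
    rw [map_mul, map_mul]; exact h1
  exact (MulEquiv.map_eq_one_iff _).1 h2

theorem vc (h : Loc S V) {v s : X} (hv : v ∈ V) (hs : s ∈ S) : s * v = v * s := by
  by_cases hv1 : v = 1
  · rw [hv1, mul_one, one_mul]
  obtain ⟨k, hk⟩ := h.isP ⟨s, hs⟩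
  have h1 : h.act s ^ 2 ^ k = 1 := by
    rw [← map_pow]
    have : s ^ 2 ^ k = 1 := congrArg Subtype.val hk
    rw [this, map_one]
  have h3 : h.act s ^ 3 = 1 := by
    have := h.cube s
    rw [pow_succ, pow_two]; exact this
  have h2 : h.act s = 1 := by
    rw [← orderOf_eq_one_iff]
    have hco : Nat.Coprime (2 ^ k) 3 := Nat.Coprime.pow_left k (by norm_num)
    exact Nat.eq_one_of_dvd_coprimes hco (orderOf_dvd_of_pow_eq_one h1) (orderOf_dvd_of_pow_eq_one h3)
  have h4 := h.act_apply s ⟨⟨v, hv⟩, fun e => hv1 (congrArg Subtype.val e)⟩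
  rw [h2] at h4
  have h5 : v = s * v * s⁻¹ := h4
  rw [eq_mul_inv_iff_mul_eq] at h5
  exact h5.symm

/-- `N(S)` is transitive on the involutions of `V`. -/
theorem tr (h : Loc S V) {u v : X} (hu : u ∈ V) (hv : v ∈ V) (hu1 : u ≠ 1) (hv1 : v ≠ 1) :
    ∃ x ∈ normalizer (S : Set X), x * u * x⁻¹ = v := by
  obtain ⟨e⟩ := h.exists_equiv
  obtain ⟨g, hg⟩ := h.nc u hu hu1
  let u' : {v : V // v ≠ 1} := ⟨⟨u, hu⟩, fun e => hu1 (congrArg Subtype.val e)⟩
  let v' : {v : V // v ≠ 1} := ⟨⟨v, hv⟩, fun e => hv1 (congrArg Subtype.val e)⟩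
  have hne : e.permCongr (h.act g) ≠ 1 := by
    intro h1
    have h2 : (e.permCongrHom (h.act g)) = 1 := h1
    have h3 : h.act g = 1 := (MulEquiv.map_eq_one_iff _).1 h2
    have h4 := h.act_apply g u'
    rw [h3] at h4
    exact hg h4.symm
  have h5 : ∃ k : X, k * u * k⁻¹ = v := by
    rcases perm_trans _ (h.sign_act e g) hne (e u') (e v') with h1 | h1 | h1
    · refine ⟨1, ?_⟩
      have : u' = v' := e.injective h1
      have h2 : u = v := congrArg (fun z : {v : V // v ≠ 1} => (z : X)) this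
      rw [h2]; group
    · refine ⟨g, ?_⟩
      have h2 : e (h.act g u') = e v' := by simpa [Equiv.permCongr_apply] using h1
      exact congrArg (fun z : {v : V // v ≠ 1} => (z : X)) (e.injective h2)
    · refine ⟨g * g, ?_⟩
      have h2 : e (h.act (g * g) u') = e v' := by
        rw [map_mul]
        simpa only [Equiv.permCongr_apply, _root_.ne_eq, _root_.Equiv.Perm.coe_mul, _root_.Function.comp_apply, _root_.EmbeddingLike.apply_eq_iff_eq, _root_.Equiv.symm_apply_apply] using h1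
      exact congrArg (fun z : {v : V // v ≠ 1} => (z : X)) (e.injective h2)
  obtain ⟨k, hk⟩ := h5
  -- Frattini
  let C : Subgroup X := h.act.ker
  obtain ⟨P, hP⟩ := h.syl
  have hPC : (P : Subgroup X) ≤ C := by
    intro s hs
    rw [hP] at hs
    show h.act s = 1
    ext w
    have h1 := h.act_apply s w
    have h2 := h.vc w.1.2 hs
    rw [h1, h2, mul_inv_cancel_right]
    rfl
  have htop : normalizer ((P : Subgroup X) : Set X) ⊔ C = ⊤ := Sylow.normalizer_sup_eq_top' P hPC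
  have hk' : k ∈ normalizer ((P : Subgroup X) : Set X) ⊔ C := by rw [htop]; exact mem_top _
  obtain ⟨n, hn, c, hc, hnc⟩ := Subgroup.mem_sup_of_normal_right.1 hk'
  refine ⟨n, by rwa [hP] at hn, ?_⟩
  have hcu : c * u * c⁻¹ = u := by
    have h1 := h.act_apply c u'
    rw [show h.act c = 1 from hc] at h1
    exact h1.symm
  rw [← hk, ← hnc]
  calc n * u * n⁻¹ = n * (c * u * c⁻¹) * n⁻¹ := by rw [hcu]
    _ = _ := by group

/-- An element of order three of the situation: it moves the involutions of `V` cyclically. -/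
theorem cyc (h : Loc S V) {u v : X} (hu : u ∈ V) (hv : v ∈ V) (hu1 : u ≠ 1) (hv1 : v ≠ 1) (huv : u ≠ v) :
    ∃ x ∈ normalizer (S : Set X), x * u * x⁻¹ = v ∧ x * v * x⁻¹ = u * v ∧ x * (u * v) * x⁻¹ = u := by
  obtain ⟨x, hx, hxu⟩ := h.tr hu hv hu1 hv1
  let u' : {v : V // v ≠ 1} := ⟨⟨u, hu⟩, fun e => hu1 (congrArg Subtype.val e)⟩
  have hx3 : x * (x * (x * u * x⁻¹) * x⁻¹) * x⁻¹ = u := by
    have h1 := congrArg (fun σ : Equiv.Perm {v : V // v ≠ 1} => ((σ u' : V) : X)) (h.cube x)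
    simp only [Equiv.Perm.mul_apply, Equiv.Perm.one_apply, h.act_apply] at h1
    exact h1
  rw [hxu] at hx3
  have hw : x * v * x⁻¹ ∈ V := h.vn.conj_mem _ hv x
  have hw1 : x * v * x⁻¹ ≠ 1 := fun e => hv1 (by
    have := congrArg (fun z => x⁻¹ * z * x) e
    simpa [mul_assoc] using this)
  have hwv : x * v * x⁻¹ ≠ v := by
    intro e
    rw [e, e] at hx3
    exact huv hx3.symm
  have hwu : x * v * x⁻¹ ≠ u := by
    intro e
    rw [e, hxu] at hx3
    exact huv hx3.symm
  have hcard : ∀ w ∈ V, w ≠ 1 → w ≠ u → w ≠ v → w = u * v := by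
    intro w hw h1 h2 h3
    by_contra h4
    have huvV := V.mul_mem hu hv
    have huv1 : u * v ≠ 1 := by
      intro e
      have := eq_inv_of_mul_eq_one_left e
      rw [h.v_inv hv] at this
      exact huv this
    have huvu : u * v ≠ u := by
      intro e; exact hv1 (by simpa using e)
    have huvv : u * v ≠ v := by
      intro e; exact hu1 (by simpa using e)
    classical
    have : Fintype V := Fintype.ofFinite V
    have h5 : ({⟨1, V.one_mem⟩, ⟨u, hu⟩, ⟨v, hv⟩, ⟨u * v, huvV⟩, ⟨w, hw⟩} : Finset V).card ≤ Fintype.card V :=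
      Finset.card_le_univ _
    rw [← Nat.card_eq_fintype_card, h.v4, Finset.card_insert_of_notMem, Finset.card_insert_of_notMem,
      Finset.card_insert_of_notMem, Finset.card_insert_of_notMem, Finset.card_singleton] at h5
    · omega
    · simp only [Finset.mem_singleton, Subtype.mk.injEq]
      exact fun e => h4 e.symm
    · simp only [Finset.mem_insert, Finset.mem_singleton, Subtype.mk.injEq]
      rintro (e | e)
      · exact huvv e.symm
      · exact h3 e.symm
    · simp only [Finset.mem_insert, Finset.mem_singleton, Subtype.mk.injEq]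
      rintro (e | e | e)
      · exact huv e
      · exact huvu e.symm
      · exact h2 e.symm
    · simp only [Finset.mem_insert, Finset.mem_singleton, Subtype.mk.injEq]
      rintro (e | e | e | e)
      · exact hu1 e.symm
      · exact hv1 e.symm
      · exact huv1 e.symm
      · exact h1 e.symm
  have h6 := hcard _ hw hw1 hwu hwv
  refine ⟨x, hx, hxu, h6, ?_⟩
  rw [← h6]; exact hx3

/-- Any element of `V` is one of `1, u, v, uv`. -/
theorem v_cases (h : Loc S V) {u v w : X} (hu : u ∈ V) (hv : v ∈ V) (hu1 : u ≠ 1) (hv1 : v ≠ 1) (huv : u ≠ v)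
    (hw : w ∈ V) : w = 1 ∨ w = u ∨ w = v ∨ w = u * v := by
  by_contra hcon
  push Not at hcon
  obtain ⟨h1, h2, h3, h4⟩ := hcon
  have huvV := V.mul_mem hu hv
  have huv1 : u * v ≠ 1 := by
    intro e
    have := eq_inv_of_mul_eq_one_left e
    rw [h.v_inv hv] at this
    exact huv this
  have huvu : u * v ≠ u := by
    intro e; exact hv1 (by simpa using e)
  have huvv : u * v ≠ v := by
    intro e; exact hu1 (by simpa using e)
  classical
  have : Fintype V := Fintype.ofFinite V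
  have h5 : ({⟨1, V.one_mem⟩, ⟨u, hu⟩, ⟨v, hv⟩, ⟨u * v, huvV⟩, ⟨w, hw⟩} : Finset V).card ≤ Fintype.card V :=
    Finset.card_le_univ _
  rw [← Nat.card_eq_fintype_card, h.v4, Finset.card_insert_of_notMem, Finset.card_insert_of_notMem,
    Finset.card_insert_of_notMem, Finset.card_insert_of_notMem, Finset.card_singleton] at h5
  · omega
  · simp only [Finset.mem_singleton, Subtype.mk.injEq]
    exact fun e => h4 e.symm
  · simp only [Finset.mem_insert, Finset.mem_singleton, Subtype.mk.injEq]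
    rintro (e | e)
    · exact huvv e.symm
    · exact h3 e.symm
  · simp only [Finset.mem_insert, Finset.mem_singleton, Subtype.mk.injEq]
    rintro (e | e | e)
    · exact huv e
    · exact huvu e.symm
    · exact h2 e.symm
  · simp only [Finset.mem_insert, Finset.mem_singleton, Subtype.mk.injEq]
    rintro (e | e | e | e)
    · exact hu1 e.symm
    · exact hv1 e.symm
    · exact huv1 e.symm
    · exact h1 e.symm

theorem exists_two (h : Loc S V) : ∃ u ∈ V, ∃ v ∈ V, u ≠ 1 ∧ v ≠ 1 ∧ u ≠ v := by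
  obtain ⟨e⟩ := h.exists_equiv
  refine ⟨(e.symm 0).1, (e.symm 0).1.2, (e.symm 1).1, (e.symm 1).1.2, ?_, ?_, ?_⟩
  · exact fun h1 => (e.symm 0).2 (Subtype.ext h1)
  · exact fun h1 => (e.symm 1).2 (Subtype.ext h1)
  · intro h1
    have h2 : e.symm 0 = e.symm 1 := Subtype.ext (Subtype.ext h1)
    have := e.symm.injective h2
    exact absurd this (by decide)

/-- The E8 killer. -/
theorem kill (h : Loc S V) {t : X} (ht : t ∈ S) (ht2 : t * t = 1)
    (hc : ∀ s ∈ S, s * t * s⁻¹ * t⁻¹ ∈ V) : t ∈ V := by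
  have hti : t⁻¹ = t := inv_eq_of_mul_eq_one_left ht2
  let E : Subgroup X :=
    { carrier := {g | g ∈ V ∨ g * t ∈ V}
      one_mem' := Or.inl V.one_mem
      mul_mem' := by
        rintro a b (ha | ha) (hb | hb)
        · exact Or.inl (V.mul_mem ha hb)
        · refine Or.inr ?_
          rw [mul_assoc]; exact V.mul_mem ha hb
        · refine Or.inr ?_
          have e : a * b * t = (a * t) * (t⁻¹ * b * t⁻¹⁻¹) := by rw [inv_inv]; group
          rw [e]
          exact V.mul_mem ha (h.vn.conj_mem _ hb t⁻¹)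
        · refine Or.inl ?_
          have e : a * b = (a * t) * (t⁻¹ * (b * t) * t⁻¹⁻¹) * (t * t)⁻¹ := by rw [inv_inv]; group
          rw [e, ht2, inv_one, mul_one]
          exact V.mul_mem ha (h.vn.conj_mem _ hb t⁻¹)
      inv_mem' := by
        rintro a (ha | ha)
        · exact Or.inl (V.inv_mem ha)
        · refine Or.inr ?_
          have e : a⁻¹ * t = (t * t) * (t⁻¹ * (a * t)⁻¹ * t⁻¹⁻¹) := by rw [inv_inv]; group
          rw [e, ht2, one_mul]
          exact h.vn.conj_mem _ (V.inv_mem ha) t⁻¹ }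
  have hES : E ≤ S := by
    rintro a (ha | ha)
    · exact h.vS ha
    · have := S.mul_mem (h.vS ha) (S.inv_mem ht)
      rwa [mul_inv_cancel_right] at this
  have hE2 : ∀ a ∈ E, a * a = 1 := by
    rintro a (ha | ha)
    · exact h.v2 a ha
    · have h1 := h.vc ha ht
      have h2 : a = (a * t) * t⁻¹ := by group
      have h3 : (a * t) * t⁻¹ = t⁻¹ * (a * t) := by rw [hti]; exact h1.symm
      calc a * a = ((a * t) * t⁻¹) * ((a * t) * t⁻¹) := by rw [← h2]
        _ = (a * t) * (t⁻¹ * (a * t)) * t⁻¹ := by group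
        _ = (a * t) * ((a * t) * t⁻¹) * t⁻¹ := by rw [h3]
        _ = ((a * t) * (a * t)) * (t * t)⁻¹ := by group
        _ = 1 := by rw [h.v2 _ ha, ht2, inv_one, mul_one]
  have hEn : ∀ s ∈ S, ∀ a ∈ E, s * a * s⁻¹ ∈ E := by
    rintro s hs a (ha | ha)
    · exact Or.inl (h.vn.conj_mem _ ha s)
    · refine Or.inr ?_
      have e : s * a * s⁻¹ * t = (s * (a * t) * s⁻¹) * (s * t * s⁻¹ * t⁻¹) := by
        calc s * a * s⁻¹ * t = s * a * (t * t) * s⁻¹ * t⁻¹ := by rw [ht2, mul_one, hti]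
          _ = _ := by group
      rw [e]
      exact V.mul_mem (h.vn.conj_mem _ ha s) (hc s hs)
  have hcard := h.noE E hES hE2 hEn
  have hVE : V ≤ E := fun a ha => Or.inl ha
  have hVE' : V = E := Subgroup.eq_of_le_of_card_ge hVE (by rw [h.v4]; exact hcard)
  rw [hVE']
  exact Or.inr (by show t * t ∈ V; rw [ht2]; exact V.one_mem)

end Loc

end Cfsg.Agent.H285.Fs
end

-- part: H285/FsC
section
/-!
# The subgroup `W` with `W / V = Ω₁(Z(S / V))`: homocyclic of type (4, 4)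
-/

set_option autoImplicit false
set_option linter.unusedSectionVars false

open Subgroup

namespace Cfsg.Agent.H285.Fs

variable {X : Type*} [Group X] [Finite X] {S V : Subgroup X}

namespace Loc

/-- Four generator theorem for subgroups of `S`. -/
theorem card_le (h : Loc S V) {H R : Subgroup X} (hH : H ≤ S) (hR : ∀ x ∈ H, x * x ∈ R) :
    Nat.card H ≤ 16 * Nat.card R := by
  have hE : Cfsg.Agent.Classification.FourGenKey.NoE8 ↥S := by
    intro E hEn _ hE2
    have h1 := h.noE (E.map S.subtype) (by rintro _ ⟨a, _, rfl⟩; exact a.2)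
      (by
        rintro _ ⟨a, ha, rfl⟩
        have := congrArg Subtype.val (hE2 a ha)
        rw [pow_two] at this
        exact this)
      (by
        rintro s hs _ ⟨a, ha, rfl⟩
        exact ⟨⟨s, hs⟩ * a * ⟨s, hs⟩⁻¹, hEn.conj_mem a ha ⟨s, hs⟩, rfl⟩)
    rwa [Nat.card_congr (E.equivMapOfInjective _ S.subtype_injective).symm.toEquiv] at h1
  have h1 := Cfsg.Agent.Classification.FourGenMain.card_le h.isP hE (H.subgroupOf S) (R.subgroupOf S) (by
    intro x hx
    rw [pow_two]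
    exact hR x hx)
  rw [Nat.card_congr (Subgroup.subgroupOfEquivOfLe hH).toEquiv] at h1
  refine h1.trans (Nat.mul_le_mul_left _ ?_)
  have : Nat.card (R.subgroupOf S) = Nat.card ((R.subgroupOf S).map S.subtype) :=
    Nat.card_congr ((R.subgroupOf S).equivMapOfInjective _ S.subtype_injective).toEquiv
  rw [this]
  refine Subgroup.card_le_of_le ?_
  rintro _ ⟨a, ha, rfl⟩
  exact ha

/-- `W / V = Ω₁(Z(S / V))`. -/
def W (h : Loc S V) : Subgroup X where
  carrier := {w | w ∈ S ∧ w * w ∈ V ∧ ∀ s ∈ S, s * w * s⁻¹ * w⁻¹ ∈ V}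
  one_mem' := ⟨S.one_mem, by simp [V.one_mem], fun n _ => by simp [V.one_mem]⟩
  mul_mem' := by
    rintro a b ⟨ha, ha2, hac⟩ ⟨hb, hb2, hbc⟩
    refine ⟨S.mul_mem ha hb, ?_, ?_⟩
    · have e : a * b * (a * b) = (a * b * a⁻¹ * b⁻¹) * (b * (a * a) * b⁻¹) * (b * b) := by group
      rw [e]
      exact V.mul_mem (V.mul_mem (hbc a ha) (h.vn.conj_mem _ ha2 b)) hb2
    · intro n hn
      have e : n * (a * b) * n⁻¹ * (a * b)⁻¹ =
          (n * a * n⁻¹ * a⁻¹) * (a * (n * b * n⁻¹ * b⁻¹) * a⁻¹) := by group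
      rw [e]
      exact V.mul_mem (hac n hn) (h.vn.conj_mem _ (hbc n hn) a)
  inv_mem' := by
    rintro a ⟨ha, ha2, hac⟩
    refine ⟨S.inv_mem ha, ?_, ?_⟩
    · have e : a⁻¹ * a⁻¹ = (a * a)⁻¹ := by group
      rw [e]; exact V.inv_mem ha2
    · intro n hn
      have e : n * a⁻¹ * n⁻¹ * a⁻¹⁻¹ = a⁻¹ * (n * a * n⁻¹ * a⁻¹)⁻¹ * a := by group
      rw [e]
      have := h.vn.conj_mem _ (V.inv_mem (hac n hn)) a⁻¹
      rwa [inv_inv] at this

theorem W_le (h : Loc S V) : h.W ≤ S := fun _ hw => hw.1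

theorem V_le_W (h : Loc S V) : V ≤ h.W := by
  intro v hv
  refine ⟨h.vS hv, V.mul_mem hv hv, fun s hs => ?_⟩
  rw [h.vc hv hs]
  simp

theorem W_norm (h : Loc S V) {x w : X} (hx : x ∈ normalizer (S : Set X)) (hw : w ∈ h.W) : x * w * x⁻¹ ∈ h.W := by
  obtain ⟨h1, h2, h3⟩ := hw
  refine ⟨(mem_normalizer_iff.1 hx w).1 h1, ?_, ?_⟩
  · have e : x * w * x⁻¹ * (x * w * x⁻¹) = x * (w * w) * x⁻¹ := by group
    rw [e]; exact h.vn.conj_mem _ h2 x
  · intro s hs
    have e : s * (x * w * x⁻¹) * s⁻¹ * (x * w * x⁻¹)⁻¹ =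
          x * ((x⁻¹ * s * x) * w * (x⁻¹ * s * x)⁻¹ * w⁻¹) * x⁻¹ := by group
    rw [e]
    have h4 := (mem_normalizer_iff.1 (inv_mem hx) s).1 hs
    rw [inv_inv] at h4
    exact h.vn.conj_mem _ (h3 _ h4) x

theorem W_sq_one (h : Loc S V) {w : X} (hw : w ∈ h.W) (h2 : w * w = 1) : w ∈ V := h.kill hw.1 h2 hw.2.2

section big

variable {t : X} (ht : t ∈ S) (ht2 : t * t = 1) (htV : t ∉ V)

include ht ht2 htV

theorem card_W_le (h : Loc S V) : Nat.card h.W ≤ 32 := by
  have htW : t ∉ h.W := fun hw => htV (h.W_sq_one hw ht2)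
  let H : Subgroup X :=
    { carrier := {g | g ∈ h.W ∨ g * t ∈ h.W}
      one_mem' := Or.inl (h.W).one_mem
      mul_mem' := by
        have hconj : ∀ w ∈ h.W, t * w * t⁻¹ ∈ h.W := fun w hw =>
          h.W_norm (Subgroup.le_normalizer ht) hw
        have hconj' : ∀ w ∈ h.W, t⁻¹ * w * t ∈ h.W := fun w hw => by
          have := h.W_norm (Subgroup.le_normalizer (S.inv_mem ht)) hw
          rwa [inv_inv] at this
        rintro a b (ha | ha) (hb | hb)
        · exact Or.inl ((h.W).mul_mem ha hb)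
        · refine Or.inr ?_
          rw [mul_assoc]; exact (h.W).mul_mem ha hb
        · refine Or.inr ?_
          have e : a * b * t = (a * t) * (t⁻¹ * b * t) := by group
          rw [e]
          exact (h.W).mul_mem ha (hconj' _ hb)
        · refine Or.inl ?_
          have e : a * b = (a * t) * (t⁻¹ * (b * t) * t) * (t * t)⁻¹ := by group
          rw [e, ht2, inv_one, mul_one]
          exact (h.W).mul_mem ha (hconj' _ hb)
      inv_mem' := by
        have hconj' : ∀ w ∈ h.W, t⁻¹ * w * t ∈ h.W := fun w hw => by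
          have := h.W_norm (Subgroup.le_normalizer (S.inv_mem ht)) hw
          rwa [inv_inv] at this
        rintro a (ha | ha)
        · exact Or.inl ((h.W).inv_mem ha)
        · refine Or.inr ?_
          have e : a⁻¹ * t = (t * t) * (t⁻¹ * (a * t)⁻¹ * t) := by group
          rw [e, ht2, one_mul]
          exact hconj' _ ((h.W).inv_mem ha) }
  have hHS : H ≤ S := by
    rintro a (ha | ha)
    · exact h.W_le ha
    · have := S.mul_mem (h.W_le ha) (S.inv_mem ht)
      rwa [mul_inv_cancel_right] at this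
  have hH2 : ∀ a ∈ H, a * a ∈ V := by
    rintro a (ha | ha)
    · exact ha.2.1
    · have e : a * a = (a * t) * (t⁻¹ * (a * t) * t⁻¹⁻¹ * (a * t)⁻¹) * (a * t) * (t * t)⁻¹ := by group
      rw [e, ht2, inv_one, mul_one]
      have h1 := ha.2.2 _ (S.inv_mem ht)
      have h2 := h.vc h1 (h.W_le ha)
      rw [h2, mul_assoc]
      exact V.mul_mem h1 ha.2.1
  have h1 := h.card_le hHS hH2
  rw [h.v4] at h1
  have h2 := two_mul_card_le (A := h.W) (B := H) (fun a ha => Or.inl ha) (by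
    intro e
    exact htW (e ▸ (Or.inr (by show t * t ∈ h.W; rw [ht2]; exact (h.W).one_mem) : t ∈ H)))
  omega

/-- `|W| = 16`, and the square map is a bijection `W / V → V`. -/
theorem W_main (h : Loc S V) : Nat.card h.W = 16 ∧ (∀ v ∈ V, ∃ w ∈ h.W, w * w = v) ∧
    (∀ w ∈ h.W, ∀ w' ∈ h.W, w * w = w' * w' → w⁻¹ * w' ∈ V) := by
  classical
  -- the fibres of the square map
  have : Fintype h.W := Fintype.ofFinite _
  let f : X → Finset h.W := fun v => Finset.univ.filter (fun w : h.W => (w : X) * w = v)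
  have hf : ∀ v (w : h.W), w ∈ f v ↔ (w : X) * w = v := by
    intro v w
    simp only [f, Finset.mem_filter]
    exact ⟨fun h => h.2, fun h => ⟨Finset.mem_univ _, h⟩⟩
  have hf1 : (f 1).card = 4 := by
    have : Fintype V := Fintype.ofFinite V
    rw [← h.v4, Nat.card_eq_fintype_card, ← Finset.card_univ,
      ← Finset.card_image_of_injective (f 1) Subtype.val_injective,
      ← Finset.card_image_of_injective (Finset.univ : Finset V) Subtype.val_injective]
    congr 1
    ext v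
    simp only [Finset.mem_image]
    constructor
    · rintro ⟨w, hw, rfl⟩
      exact ⟨⟨w, h.W_sq_one w.2 ((hf 1 w).1 hw)⟩, Finset.mem_univ _, rfl⟩
    · rintro ⟨v, _, rfl⟩
      exact ⟨⟨v, h.V_le_W v.2⟩, (hf 1 _).2 (h.v2 v v.2), rfl⟩
  have hfe : ∀ u ∈ V, ∀ v ∈ V, u ≠ 1 → v ≠ 1 → (f u).card ≤ (f v).card := by
    intro u hu v hv hu1 hv1
    obtain ⟨x, hx, hxu⟩ := h.tr hu hv hu1 hv1
    refine Finset.card_le_card_of_injOn (fun w => ⟨x * w * x⁻¹, h.W_norm hx w.2⟩) ?_ ?_
    · intro w hw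
      rw [Finset.mem_coe, hf] at hw ⊢
      show x * w * x⁻¹ * (x * w * x⁻¹) = v
      rw [← hxu, ← hw]; group
    · intro a _ b _ hab
      have h1 := congrArg Subtype.val hab
      exact Subtype.ext (by simpa only [_root_.SetLike.coe_eq_coe, _root_.mul_left_inj, _root_.mul_right_inj] using h1)
  obtain ⟨u, hu, v, hv, hu1, hv1, huv⟩ := h.exists_two
  have huvV := V.mul_mem hu hv
  have huv1 : u * v ≠ 1 := by
    intro e
    have := eq_inv_of_mul_eq_one_left e
    rw [h.v_inv hv] at this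
    exact huv this
  have huvu : u * v ≠ u := by
    intro e; exact hv1 (by simpa using e)
  have huvv : u * v ≠ v := by
    intro e; exact hu1 (by simpa using e)
  have hsum : Fintype.card h.W = (f 1).card + ((f u).card + ((f v).card + (f (u * v)).card)) := by
    have huniv : (Finset.univ : Finset h.W) = f 1 ∪ (f u ∪ (f v ∪ f (u * v))) := by
      ext w
      simp only [Finset.mem_univ, Finset.mem_union, hf, true_iff]
      exact h.v_cases hu hv hu1 hv1 huv w.2.2.1
    rw [← Finset.card_univ, huniv, Finset.card_union_of_disjoint, Finset.card_union_of_disjoint,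
      Finset.card_union_of_disjoint]
    · rw [Finset.disjoint_left]; intro w h1 h2
      rw [hf] at h1 h2; exact huvv (h2.symm.trans h1)
    · rw [Finset.disjoint_left]; intro w h1 h2
      rw [Finset.mem_union, hf, hf] at h2; rw [hf] at h1
      rcases h2 with h2 | h2
      · exact huv (h1.symm.trans h2)
      · exact huvu (h2.symm.trans h1)
    · rw [Finset.disjoint_left]; intro w h1 h2
      rw [Finset.mem_union, Finset.mem_union, hf, hf, hf] at h2; rw [hf] at h1
      rcases h2 with h2 | h2 | h2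
      · exact hu1 (h2.symm.trans h1)
      · exact hv1 (h2.symm.trans h1)
      · exact huv1 (h2.symm.trans h1)
  have e1 := le_antisymm (hfe u hu v hv hu1 hv1) (hfe v hv u hu hv1 hu1)
  have e2 := le_antisymm (hfe u hu _ huvV hu1 huv1) (hfe _ huvV u hu huv1 hu1)
  -- W is bigger than V
  obtain ⟨w, hwS, hwV, hw2, hwc⟩ := exists_mid' (S := S) h.isP (A := V) (M := S) le_rfl
    (fun s _ a ha => h.vn.conj_mem _ ha s) (fun s hs a ha => S.mul_mem (S.mul_mem hs ha) (S.inv_mem hs))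
    ⟨t, ht, htV⟩
  have hwW : w ∈ h.W := ⟨hwS, hw2, hwc⟩
  have hpos : 0 < (f u).card := by
    have h1 : w * w ≠ 1 := fun e => hwV (h.W_sq_one hwW e)
    have h2 : 0 < (f (w * w)).card := Finset.card_pos.2 ⟨⟨w, hwW⟩, (hf _ _).2 rfl⟩
    exact lt_of_lt_of_le h2 (hfe _ hw2 u hu h1 hu1)
  have hle := h.card_W_le ht ht2 htV
  obtain ⟨k, hk⟩ := (h.isP.to_le h.W_le).exists_card_eq
  rw [Nat.card_eq_fintype_card] at hle hk
  have hkle : k ≤ 5 := by
    by_contra hcon
    have : 2 ^ 6 ≤ 2 ^ k := Nat.pow_le_pow_right (by norm_num) (by omega)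
    omega
  have hfu : (f u).card = 4 ∧ Fintype.card h.W = 16 := by
    interval_cases k <;> (clear * - h hf1 hsum e1 e2 hpos hle hk; omega)
  refine ⟨by rw [Nat.card_eq_fintype_card]; exact hfu.2, ?_, ?_⟩
  · intro z hz
    by_cases hz1 : z = 1
    · exact ⟨1, (h.W).one_mem, by rw [hz1, one_mul]⟩
    · have h1 : 0 < (f z).card := lt_of_lt_of_le hpos (hfe u hu z hz hu1 hz1)
      obtain ⟨w, hw⟩ := Finset.card_pos.1 h1
      exact ⟨w, w.2, (hf z w).1 hw⟩
  · intro a ha b hb hab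
    by_cases ha1 : a * a = 1
    · exact V.mul_mem (V.inv_mem (h.W_sq_one ha ha1)) (h.W_sq_one hb (hab ▸ ha1))
    · have h1 : (f (a * a)).card = 4 := le_antisymm ((hfe _ ha.2.1 u hu ha1 hu1).trans hfu.1.le)
        (hfu.1.symm.le.trans (hfe u hu _ ha.2.1 hu1 ha1))
      -- the coset a V
      have : Fintype V := Fintype.ofFinite V
      let C : Finset h.W := Finset.univ.image (fun v : V => (⟨a * v, (h.W).mul_mem ha (h.V_le_W v.2)⟩ : h.W))
      have hC : C.card = 4 := by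
        rw [Finset.card_image_of_injective, Finset.card_univ, ← Nat.card_eq_fintype_card, h.v4]
        intro x y hxy
        have h2 := congrArg Subtype.val hxy
        exact Subtype.ext (mul_left_cancel h2)
      have hCf : C ⊆ f (a * a) := by
        intro w hw
        obtain ⟨v, _, rfl⟩ := Finset.mem_image.1 hw
        rw [hf]
        have h2 := h.vc v.2 (h.W_le ha)
        show a * v * (a * v) = a * a
        calc a * v * (a * v) = a * (v * a) * v := by group
          _ = a * (a * v) * v := by rw [h2]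
          _ = a * a * (v * v) := by group
          _ = a * a := by rw [h.v2 v v.2, mul_one]
      have hCe : C = f (a * a) := Finset.eq_of_subset_of_card_le hCf (by rw [h1, hC])
      have hbC : (⟨b, hb⟩ : h.W) ∈ C := by rw [hCe, hf]; exact hab.symm
      obtain ⟨v, _, hv⟩ := Finset.mem_image.1 hbC
      have h3 : a * v = b := congrArg Subtype.val hv
      rw [← h3, inv_mul_cancel_left]
      exact v.2

theorem card_W (h : Loc S V) : Nat.card h.W = 16 := (h.W_main ht ht2 htV).1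

theorem W_surj (h : Loc S V) {v : X} (hv : v ∈ V) : ∃ w ∈ h.W, w * w = v := (h.W_main ht ht2 htV).2.1 v hv

theorem W_inj (h : Loc S V) {w w' : X} (hw : w ∈ h.W) (hw' : w' ∈ h.W) (e : w * w = w' * w') : w⁻¹ * w' ∈ V :=
  (h.W_main ht ht2 htV).2.2 w hw w' hw' e

/-- `W` is abelian. -/
theorem W_ab (h : Loc S V) {a b : X} (ha : a ∈ h.W) (hb : b ∈ h.W) : a * b = b * a := by
  have hc := hb.2.2 a ha.1
  set c := a * b * a⁻¹ * b⁻¹ with hcdef
  have hab : a * b = c * (b * a) := by rw [hcdef]; group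
  -- (ab)² = a² b² c
  have hsq : a * b * (a * b) = c * ((a * a) * (b * b)) := by
    have h1 : b * a = c⁻¹ * (a * b) := by rw [hab]; group
    have h2 : b * a = c * (a * b) := by rw [h1, h.v_inv hc]
    calc a * b * (a * b) = a * (b * a) * b := by group
      _ = a * (c * (a * b)) * b := by rw [h2]
      _ = (a * c) * (a * (b * b)) := by group
      _ = (c * a) * (a * (b * b)) := by rw [h.vc hc ha.1]
      _ = c * ((a * a) * (b * b)) := by group
  by_cases haV : a ∈ V
  · exact (h.vc haV hb.1).symm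
  by_cases hbV : b ∈ V
  · exact h.vc hbV ha.1
  have ha1 : a * a ≠ 1 := fun e => haV (h.W_sq_one ha e)
  have hb1 : b * b ≠ 1 := fun e => hbV (h.W_sq_one hb e)
  by_cases hab' : a * a = b * b
  · have h1 := h.W_inj ht ht2 htV ha hb hab'
    have h2 := h.vc h1 ha.1
    calc a * b = a * (a * (a⁻¹ * b)) := by group
      _ = a * ((a⁻¹ * b) * a) := by rw [h2]
      _ = b * a := by group
  · -- c is trivial: (ab)² must be a² b²
    obtain ⟨x, hx, hxw⟩ : ∃ w ∈ h.W, w * w = (a * a) * (b * b) := h.W_surj ht ht2 htV (V.mul_mem ha.2.1 hb.2.1)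
    -- the coset of x is ab V
    have hcard := h.card_W ht ht2 htV
    -- V, aV, bV, abV, xV
    by_contra hne
    have hc1 : c ≠ 1 := by
      intro e; rw [e, one_mul] at hab; exact hne hab
    have habW := (h.W).mul_mem ha hb
    have h4 := h.v_cases ha.2.1 hb.2.1 ha1 hb1 hab' habW.2.1
    -- (ab)² ∈ {1, a², b²} leads to a contradiction
    have hcase : a * b ∈ V ∨ a⁻¹ * (a * b) ∈ V ∨ b⁻¹ * (a * b) ∈ V ∨ c = 1 := by
      rcases h4 with h5 | h5 | h5 | h5
      · exact Or.inl (h.W_sq_one habW h5)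
      · exact Or.inr (Or.inl (h.W_inj ht ht2 htV ha habW h5.symm))
      · exact Or.inr (Or.inr (Or.inl (h.W_inj ht ht2 htV hb habW h5.symm)))
      · refine Or.inr (Or.inr (Or.inr ?_))
        rw [hsq] at h5
        simpa using h5
    rcases hcase with h5 | h5 | h5 | h5
    · -- ab ∈ V : then b ∈ a⁻¹ V, so a and b commute
      have h6 := h.vc h5 ha.1
      apply hne
      have : a * (a * b) = (a * b) * a := h6
      have h7 : a * (a * b) = a * (b * a) := by rw [this]; group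
      exact mul_left_cancel h7
    · rw [inv_mul_cancel_left] at h5; exact hbV h5
    · have h6 := h.vn.conj_mem _ h5 b
      have e : b * (b⁻¹ * (a * b)) * b⁻¹ = a := by group
      rw [e] at h6
      exact haV h6
    · exact hc1 h5

/-- `W / V` is irreducible for `N(S)`. -/
theorem W_le_of (h : Loc S V) {M : Subgroup X} (hM : ∀ x ∈ normalizer (S : Set X), ∀ m ∈ M, x * m * x⁻¹ ∈ M)
    (hVM : V ≤ M) (hne : ∃ w ∈ M, w ∈ h.W ∧ w ∉ V) : h.W ≤ M := by
  obtain ⟨w, hwM, hw, hwV⟩ := hne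
  intro a ha
  by_cases haV : a ∈ V
  · exact hVM haV
  have ha1 : a * a ≠ 1 := fun e => haV (h.W_sq_one ha e)
  have hw1 : w * w ≠ 1 := fun e => hwV (h.W_sq_one hw e)
  obtain ⟨x, hx, hxw⟩ := h.tr hw.2.1 ha.2.1 hw1 ha1
  have h1 := h.W_norm hx hw
  have h2 : x * w * x⁻¹ * (x * w * x⁻¹) = a * a := by rw [← hxw]; group
  have h3 := h.W_inj ht ht2 htV h1 ha h2
  have h4 := M.mul_mem (hM x hx w hwM) (hVM h3)
  rwa [mul_inv_cancel_left] at h4

end big

end Loc

end Cfsg.Agent.H285.Fs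
end

private theorem dce_dfc156aece6d : _root_.True := by
  try have : _root_.True := by simp only [_root_.Cfsg.Agent.H285.Fs.Loc.act.congr_simp]
  exact _root_.True.intro
end

-- part: H285/FsF
section
prune_inst 0x4e030240459a202000000001440000064800000020063000131000502014f532180022f414c200e1019028a20000400400298001940100000000006004005012080aa52063340a10c44000f80b807180c00000000000000000000000000041000000000000
set_option linter.all false
open scoped Cfsg.Agent.FastGrp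

-- part: H285/FsD
section
/-!
# Minimal normal subgroups above `V`
-/

set_option autoImplicit false
set_option linter.unusedSectionVars false

open Subgroup
open scoped commutatorElement

namespace Cfsg.Agent.H285.Fs

variable {X : Type*} [Group X] [Finite X] {S V : Subgroup X}

namespace Loc

theorem cc_left (h : Loc S V) {a b c : X} (ha : a ∈ S) (hbc : ⁅b, c⁆ ∈ V) : ⁅a * b, c⁆ = ⁅b, c⁆ * ⁅a, c⁆ := by
  have h1 := h.vc hbc ha
  calc ⁅a * b, c⁆ = (a * ⁅b, c⁆) * (c * a⁻¹ * c⁻¹) := by simp only [commutatorElement_def]; group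
    _ = (⁅b, c⁆ * a) * (c * a⁻¹ * c⁻¹) := by rw [h1]
    _ = ⁅b, c⁆ * ⁅a, c⁆ := by simp only [commutatorElement_def]; group

theorem cc_right (h : Loc S V) {a b c : X} (hb : b ∈ S) (hac : ⁅a, c⁆ ∈ V) : ⁅a, b * c⁆ = ⁅a, b⁆ * ⁅a, c⁆ := by
  have h1 := h.vc hac hb
  calc ⁅a, b * c⁆ = ⁅a, b⁆ * (b * ⁅a, c⁆ * b⁻¹) := by simp only [commutatorElement_def]; group
    _ = ⁅a, b⁆ * ⁅a, c⁆ := by rw [h1, mul_inv_cancel_right]

theorem cc_symm (h : Loc S V) {a b : X} (hab : ⁅a, b⁆ ∈ V) : ⁅b, a⁆ = ⁅a, b⁆ := by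
  rw [← commutatorElement_inv, h.v_inv hab]

theorem cc_symm_mem (h : Loc S V) {a b : X} (hab : ⁅a, b⁆ ∈ V) : ⁅b, a⁆ ∈ V := by
  rw [h.cc_symm hab]; exact hab

theorem cc_one {a b : X} : ⁅a, b⁆ = 1 ↔ a * b = b * a := commutatorElement_eq_one_iff_mul_comm

/-- the involutions of an abelian `S`-invariant subgroup containing `V` are in `V` -/
theorem omega (h : Loc S V) {A : Subgroup X} (hA : A ≤ S) (hn : ∀ s ∈ S, ∀ a ∈ A, s * a * s⁻¹ ∈ A)
    (hc : ∀ a ∈ A, ∀ b ∈ A, a * b = b * a) (hVA : V ≤ A) {a : X} (ha : a ∈ A) (ha2 : a * a = 1) : a ∈ V := by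
  let E : Subgroup X :=
    { carrier := {g | g ∈ A ∧ g * g = 1}
      one_mem' := ⟨A.one_mem, one_mul 1⟩
      mul_mem' := by
        rintro x y ⟨hx, hx2⟩ ⟨hy, hy2⟩
        refine ⟨A.mul_mem hx hy, ?_⟩
        calc x * y * (x * y) = x * (y * x) * y := by group
          _ = x * (x * y) * y := by rw [hc x hx y hy]
          _ = (x * x) * (y * y) := by group
          _ = 1 := by rw [hx2, hy2, one_mul]
      inv_mem' := by
        rintro x ⟨hx, hx2⟩
        refine ⟨A.inv_mem hx, ?_⟩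
        rw [← mul_inv_rev, hx2, inv_one] }
  have h1 := h.noE E (fun g hg => hA hg.1) (fun g hg => hg.2) (by
    rintro s hs g ⟨hg, hg2⟩
    refine ⟨hn s hs g hg, ?_⟩
    calc s * g * s⁻¹ * (s * g * s⁻¹) = s * (g * g) * s⁻¹ := by group
      _ = 1 := by rw [hg2]; group)
  have h2 : V = E := Subgroup.eq_of_le_of_card_ge (fun v hv => ⟨hVA hv, h.v2 v hv⟩) (by rw [h.v4]; exact h1)
  rw [h2]
  exact ⟨ha, ha2⟩

/-- The situation of a minimal normal subgroup `N / V` of `X / V`. -/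
structure MinN (h : Loc S V) (N : Subgroup X) : Prop where
  n : N.Normal
  vN : V ≤ N
  ne : V ≠ N
  NS : N ≤ S
  min : ∀ M : Subgroup X, M.Normal → V ≤ M → M ≤ N → M = V ∨ M = N
  sq : ∀ m ∈ N, m * m ∈ V
  cm : ∀ m ∈ N, ∀ n ∈ N, ⁅n, m⁆ ∈ V

section minN

variable {N : Subgroup X} {t : X} (h : Loc S V) (hN : MinN h N) (ht : t ∈ S) (ht2 : t * t = 1) (htV : t ∉ V)

include hN ht ht2 htV

theorem W_le_N : h.W ≤ N := by
  refine h.W_le_of ht ht2 htV (fun x _ m hm => hN.n.conj_mem m hm x) hN.vN ?_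
  have hex : ∃ m ∈ N, m ∉ V := by
    by_contra hcon
    push Not at hcon
    exact hN.ne (le_antisymm hN.vN hcon)
  obtain ⟨m, hm, hmV, hm2, hmc⟩ := exists_mid' h.isP hN.NS (fun s _ a ha => h.vn.conj_mem _ ha s)
    (fun s _ a ha => hN.n.conj_mem _ ha s) hex
  exact ⟨m, hm, ⟨hN.NS hm, hm2, hmc⟩, hmV⟩

theorem eq_W_of_ab (hab : ∀ a ∈ N, ∀ b ∈ N, a * b = b * a) : N = h.W := by
  refine (Subgroup.eq_of_le_of_card_ge (h.W_le_N hN ht ht2 htV) ?_).symm
  rw [h.card_W ht ht2 htV]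
  have h1 := Cfsg.Agent.Classification.FourGenMain.card_le_fiber (X := N) (K := V) (Y := V)
    (fun x => ⟨(x : X) * x, hN.sq x x.2⟩) (by
      intro x y hxy
      have h2 : (x : X) * x = y * y := congrArg Subtype.val hxy
      refine h.omega hN.NS (fun s _ a ha => hN.n.conj_mem _ ha s) hab hN.vN
        (N.mul_mem (N.inv_mem x.2) y.2) ?_
      have h3 := hab _ (N.inv_mem x.2) _ y.2
      calc (x : X)⁻¹ * y * ((x : X)⁻¹ * y) = (x : X)⁻¹ * (y * (x : X)⁻¹) * y := by group
        _ = (x : X)⁻¹ * ((x : X)⁻¹ * y) * y := by rw [h3]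
        _ = ((x : X) * x)⁻¹ * (y * y) := by group
        _ = 1 := by rw [h2, inv_mul_cancel])
  rw [h.v4] at h1
  exact h1

/-- the centre of `N` -/
theorem center_N (hnab : ∃ a ∈ N, ∃ b ∈ N, a * b ≠ b * a) {z : X} (hz : z ∈ N)
    (hzc : ∀ n ∈ N, n * z = z * n) : z ∈ V := by
  let Z : Subgroup X := N ⊓ centralizer (N : Set X)
  have hZn : Z.Normal := by
    have := hN.n
    exact inferInstance
  have hVZ : V ≤ Z := fun v hv => ⟨hN.vN hv, mem_centralizer_iff.2 (fun n hn => h.vc hv (hN.NS hn))⟩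
  rcases hN.min Z hZn hVZ inf_le_left with h1 | h1
  · rw [← h1]; exact ⟨hz, mem_centralizer_iff.2 hzc⟩
  · obtain ⟨a, ha, b, hb, hab⟩ := hnab
    rw [← h1] at hb
    exact absurd (mem_centralizer_iff.1 hb.2 a ha) hab

theorem card_N_le : Nat.card N ≤ 64 := by
  have h1 := h.card_le hN.NS hN.sq
  rwa [h.v4] at h1

omit ht ht2 htV in
/-- The radical modulo `⟨v⟩`. -/
def R (v : X) : Subgroup X where
  carrier := {n | n ∈ N ∧ ∀ m ∈ N, ⁅m, n⁆ = 1 ∨ ⁅m, n⁆ = v}
  one_mem' := ⟨N.one_mem, fun m _ => Or.inl (commutatorElement_one_right m)⟩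
  mul_mem' := by
    rintro a b ⟨ha, ha1⟩ ⟨hb, hb1⟩
    refine ⟨N.mul_mem ha hb, fun m hm => ?_⟩
    have h1 := h.cc_right (a := m) (hN.NS ha) (hN.cm b hb m hm)
    rw [h1]
    have hv2 : ∀ w : X, w ∈ V → w * w = 1 := h.v2
    rcases ha1 m hm with h2 | h2 <;> rcases hb1 m hm with h3 | h3
    · left; rw [h2, h3, one_mul]
    · right; rw [h2, h3, one_mul]
    · right; rw [h2, h3, mul_one]
    · left; rw [h2, h3]; exact hv2 v (h2 ▸ hN.cm a ha m hm)
  inv_mem' := by
    rintro a ⟨ha, ha1⟩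
    refine ⟨N.inv_mem ha, fun m hm => ?_⟩
    have h1 := h.cc_right (a := m) (hN.NS ha) (hN.cm a⁻¹ (N.inv_mem ha) m hm)
    rw [mul_inv_cancel, commutatorElement_one_right] at h1
    have h2 : ⁅m, a⁻¹⁆ = ⁅m, a⁆ := by
      rw [← h.v_inv (hN.cm a ha m hm)]
      exact (inv_eq_of_mul_eq_one_right h1.symm).symm
    rw [h2]; exact ha1 m hm

omit ht ht2 htV in
theorem V_le_R {v : X} : V ≤ R h hN v := fun w hw =>
  ⟨hN.vN hw, fun m hm => Or.inl (cc_one.2 (h.vc hw (hN.NS hm)))⟩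

omit ht ht2 htV in
theorem R_conj {v n : X} (hn : n ∈ R h hN v) (x : X) : x * n * x⁻¹ ∈ R h hN (x * v * x⁻¹) := by
  refine ⟨hN.n.conj_mem _ hn.1 x, fun m hm => ?_⟩
  have hm' : x⁻¹ * m * x ∈ N := by
    have := hN.n.conj_mem _ hm x⁻¹
    rwa [inv_inv] at this
  have e : ⁅m, x * n * x⁻¹⁆ = x * ⁅x⁻¹ * m * x, n⁆ * x⁻¹ := by simp only [commutatorElement_def]; group
  rw [e]
  rcases hn.2 _ hm' with h1 | h1
  · left; rw [h1]; group
  · right; rw [h1]

omit ht ht2 htV in
theorem R_comm {u v a b : X} (huv : u ≠ v) (ha : a ∈ R h hN u) (hb : b ∈ R h hN v) : a * b = b * a := by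
  have h1 := hb.2 a ha.1
  have h2 := ha.2 b hb.1
  rw [h.cc_symm (hN.cm b hb.1 a ha.1)] at h2
  rw [← cc_one]
  rcases h1 with h1 | h1
  · exact h1
  · rcases h2 with h2 | h2
    · exact h2
    · exact absurd (h2.symm.trans h1) huv

/-- Case A is impossible. -/
theorem caseA (hnab : ∃ a ∈ N, ∃ b ∈ N, a * b ≠ b * a) {v r : X} (hv : v ∈ V) (hv1 : v ≠ 1)
    (hr : r ∈ R h hN v) (hrV : r ∉ V) : False := by
  -- all the radicals are non-trivial
  have hall : ∀ u ∈ V, u ≠ 1 → ∃ r ∈ R h hN u, r ∉ V := by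
    intro u hu hu1
    obtain ⟨x, _, hx⟩ := h.tr hv hu hv1 hu1
    refine ⟨x * r * x⁻¹, hx ▸ R_conj h hN hr x, fun e => hrV ?_⟩
    have := h.vn.conj_mem _ e x⁻¹
    simpa [mul_assoc] using this
  let S0 : Set X := {n | ∃ u ∈ V, u ≠ 1 ∧ n ∈ R h hN u}
  have hS0 : ∀ n ∈ S0, ∀ x : X, x * n * x⁻¹ ∈ S0 := by
    rintro n ⟨u, hu, hu1, hn⟩ x
    refine ⟨x * u * x⁻¹, h.vn.conj_mem _ hu x, fun e => hu1 ?_, R_conj h hN hn x⟩
    have := congrArg (fun z => x⁻¹ * z * x) e
    simpa [mul_assoc] using this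
  have hTle : ∀ K : Subgroup X, S0 ⊆ K → normalClosure S0 ≤ K := by
    intro K hK
    refine (closure_le K).2 ?_
    intro y hy
    obtain ⟨n, hn, hny⟩ := Group.mem_conjugatesOfSet_iff.1 hy
    obtain ⟨x, hx⟩ := isConj_iff.1 hny
    rw [← hx]
    exact hK (hS0 n hn x)
  have hTN : normalClosure S0 = N := by
    have h1 : normalClosure S0 ≤ N := hTle N (by rintro n ⟨u, _, _, hn⟩; exact hn.1)
    have h2 : V ≤ normalClosure S0 := fun w hw =>
      subset_normalClosure ⟨v, hv, hv1, V_le_R h hN hw⟩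
    rcases hN.min _ inferInstance h2 h1 with h3 | h3
    · exfalso
      have : r ∈ normalClosure S0 := subset_normalClosure ⟨v, hv, hv1, hr⟩
      rw [h3] at this
      exact hrV this
    · exact h3
  -- elements of N commuting with all radicals are in V
  have hcen : ∀ z ∈ N, (∀ u ∈ V, u ≠ 1 → ∀ n ∈ R h hN u, n * z = z * n) → z ∈ V := by
    intro z hz hzc
    refine h.center_N hN ht ht2 htV hnab hz (fun n hn => ?_)
    have h1 : normalClosure S0 ≤ centralizer ({z} : Set X) := hTle _ (by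
      rintro n ⟨u, hu, hu1, hn⟩
      rw [SetLike.mem_coe, mem_centralizer_singleton_iff]
      exact (hzc u hu hu1 n hn))
    rw [hTN] at h1
    exact mem_centralizer_singleton_iff.1 (h1 hn)
  -- the radicals are not abelian, so they have order ≥ 16
  have hcard : ∀ u ∈ V, u ≠ 1 → 16 ≤ Nat.card (R h hN u) := by
    intro u hu hu1
    obtain ⟨r, hr, hrV⟩ := hall u hu hu1
    -- r does not commute with some element of R u
    have hex : ∃ s ∈ R h hN u, s * r ≠ r * s := by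
      by_contra hcon
      push Not at hcon
      refine hrV (hcen r hr.1 (fun w hw hw1 n hn => ?_))
      by_cases hwu : w = u
      · rw [hwu] at hn; exact hcon n hn
      · exact R_comm h hN hwu hn hr
    obtain ⟨s, hs, hsr⟩ := hex
    let A : Subgroup X := R h hN u ⊓ centralizer ({r} : Set X)
    have hVA : V ≤ A := fun w hw => ⟨V_le_R h hN hw, mem_centralizer_singleton_iff.2 (h.vc hw (hN.NS hr.1)).symm⟩
    have h1 := two_mul_card_le hVA (by
      intro e
      exact hrV (e ▸ (⟨hr, mem_centralizer_singleton_iff.2 rfl⟩ : r ∈ A)))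
    have h2 := two_mul_card_le (A := A) (B := R h hN u) inf_le_left (by
      intro e
      rw [← e] at hs
      exact hsr (mem_centralizer_singleton_iff.1 hs.2))
    rw [h.v4] at h1
    omega
  obtain ⟨u, hu, w, hw, hu1, hw1, huw⟩ := h.exists_two
  have huwV := V.mul_mem hu hw
  have huw1 : u * w ≠ 1 := by
    intro e
    have := eq_inv_of_mul_eq_one_left e
    rw [h.v_inv hw] at this
    exact huw this
  have huwu : u * w ≠ u := by
    intro e; exact hw1 (by simpa using e)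
  have huww : u * w ≠ w := by
    intro e; exact hu1 (by simpa using e)
  obtain ⟨r3, hr3, hr3V⟩ := hall _ huwV huw1
  let D : Subgroup X := N ⊓ centralizer ({r3} : Set X)
  have hDu : R h hN u ≤ D := fun a ha => ⟨ha.1, mem_centralizer_singleton_iff.2 (R_comm h hN huwu.symm ha hr3)⟩
  have hDw : R h hN w ≤ D := fun a ha => ⟨ha.1, mem_centralizer_singleton_iff.2 (R_comm h hN huww.symm ha hr3)⟩
  have h1 := Cfsg.Agent.Classification.FourGenMain.card_le_fiber (X := R h hN u) (K := V)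
    (Y := D ⧸ (R h hN w).subgroupOf D) (fun x => QuotientGroup.mk ⟨(x : X), hDu x.2⟩) (by
      intro x y hxy
      have h2 := QuotientGroup.eq.1 hxy
      have h3 : (x : X)⁻¹ * y ∈ R h hN w := h2
      have h4 : (x : X)⁻¹ * y ∈ R h hN u := (R h hN u).mul_mem ((R h hN u).inv_mem x.2) y.2
      refine h.center_N hN ht ht2 htV hnab h3.1 (fun n hn => ?_)
      rw [← cc_one]
      rcases h3.2 n hn with h5 | h5
      · exact h5
      · rcases h4.2 n hn with h6 | h6
        · exact h6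
        · exact absurd (h6.symm.trans h5) huw)
  have h5 : Nat.card (R h hN w) * Nat.card (D ⧸ (R h hN w).subgroupOf D) = Nat.card D := by
    rw [← Nat.card_congr (Subgroup.subgroupOfEquivOfLe hDw).toEquiv, mul_comm]
    exact (Subgroup.card_eq_card_quotient_mul_card_subgroup _).symm
  have h6 := hcard u hu hu1
  have h7 := hcard w hw hw1
  rw [h.v4] at h1
  have h8 : 4 ≤ Nat.card (D ⧸ (R h hN w).subgroupOf D) := by omega
  have h9 : 64 ≤ Nat.card D := by
    rw [← h5]
    calc 64 = 16 * 4 := by norm_num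
      _ ≤ _ := Nat.mul_le_mul h7 h8
  have hDN : D = N := Subgroup.eq_of_le_of_card_ge inf_le_left
    ((h.card_N_le hN ht ht2 htV).trans h9)
  refine hr3V (h.center_N hN ht ht2 htV hnab hr3.1 (fun n hn => ?_))
  rw [← hDN] at hn
  exact mem_centralizer_singleton_iff.1 hn.2

end minN

end Loc

end Cfsg.Agent.H285.Fs
end

-- part: H285/FsE
section
/-!
# Minimal normal subgroups above `V` are equal to `W`
-/

set_option autoImplicit false
set_option linter.unusedSectionVars false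

open Subgroup
open scoped commutatorElement

namespace Cfsg.Agent.H285.Fs

variable {X : Type*} [Group X] [Finite X] {S V : Subgroup X}

namespace Loc

section minN

variable {N : Subgroup X} {t : X} (h : Loc S V) (hN : MinN h N) (ht : t ∈ S) (ht2 : t * t = 1) (htV : t ∉ V)

include hN ht ht2 htV

theorem exists_w : ∃ w ∈ h.W, w ∉ V := by
  by_contra hcon
  push Not at hcon
  have h1 : h.W ≤ V := hcon
  have h2 := Subgroup.card_le_of_le h1
  rw [h.v4, h.card_W ht ht2 htV] at h2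
  omega

/-- The commutator map of a non-central element is onto `V`. -/
theorem surj (hnab : ∃ a ∈ N, ∃ b ∈ N, a * b ≠ b * a) {r : X} (hr : r ∈ N) (hrV : r ∉ V) {v : X} (hv : v ∈ V) :
    ∃ m ∈ N, ⁅m, r⁆ = v := by
  have hB : ∀ u ∈ V, u ≠ 1 → ∃ m ∈ N, ⁅m, r⁆ ≠ 1 ∧ ⁅m, r⁆ ≠ u := by
    intro u hu hu1
    by_contra hcon
    push Not at hcon
    exact caseA h hN ht ht2 htV hnab (v := u) (r := r) hu hu1
      ⟨hr, fun m hm => or_iff_not_imp_left.2 (hcon m hm)⟩ hrV
  obtain ⟨u, hu, w, hw, hu1, hw1, huw⟩ := h.exists_two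
  obtain ⟨m1, hm1, h1, _⟩ := hB u hu hu1
  obtain ⟨m2, hm2, h2, h3⟩ := hB _ (hN.cm r hr m1 hm1) h1
  rcases h.v_cases (hN.cm r hr m1 hm1) (hN.cm r hr m2 hm2) h1 h2 (Ne.symm h3) hv with h4 | h4 | h4 | h4
  · exact ⟨1, N.one_mem, by rw [h4]; exact commutatorElement_one_left r⟩
  · exact ⟨m1, hm1, h4.symm⟩
  · exact ⟨m2, hm2, h4.symm⟩
  · refine ⟨m2 * m1, N.mul_mem hm2 hm1, ?_⟩
    rw [h4, h.cc_left (hN.NS hm2) (hN.cm r hr m1 hm1)]

theorem card_N (hnab : ∃ a ∈ N, ∃ b ∈ N, a * b ≠ b * a) :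
    Nat.card N = 64 ∧ ∀ w ∈ h.W, w ∉ V → ∀ n ∈ N, n * w = w * n → n ∈ h.W := by
  have hWN := h.W_le_N hN ht ht2 htV
  have key : ∀ w ∈ h.W, w ∉ V → Nat.card N = 64 ∧ h.W = N ⊓ centralizer ({w} : Set X) := by
    intro w hw hwV
    have hwN := hWN hw
    let φ : N →* V :=
      { toFun := fun m => ⟨⁅(m : X), w⁆, hN.cm w hwN m m.2⟩
        map_one' := Subtype.ext (commutatorElement_one_left w)
        map_mul' := fun a b => Subtype.ext (by
          show ⁅(a : X) * b, w⁆ = ⁅(a : X), w⁆ * ⁅(b : X), w⁆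
          rw [h.cc_left (hN.NS a.2) (hN.cm w hwN b b.2), h.v_comm (hN.cm w hwN b b.2) (hN.cm w hwN a a.2)]) }
    have hsur : Function.Surjective φ := by
      rintro ⟨v, hv⟩
      obtain ⟨m, hm, hmv⟩ := h.surj hN ht ht2 htV hnab hwN hwV hv
      exact ⟨⟨m, hm⟩, Subtype.ext hmv⟩
    have h1 : Nat.card N = 4 * Nat.card φ.ker := by
      have h2 := φ.ker.index_mul_card
      rw [Subgroup.index_ker, MonoidHom.range_eq_top.2 hsur, Subgroup.card_top, h.v4] at h2
      exact h2.symm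
    have h3 : φ.ker.map N.subtype = N ⊓ centralizer ({w} : Set X) := by
      ext n
      constructor
      · rintro ⟨m, hm, rfl⟩
        refine ⟨m.2, mem_centralizer_singleton_iff.2 ?_⟩
        exact cc_one.1 (congrArg Subtype.val hm)
      · rintro ⟨hn, hnc⟩
        exact ⟨⟨n, hn⟩, Subtype.ext (cc_one.2 (mem_centralizer_singleton_iff.1 hnc)), rfl⟩
    have h4 : Nat.card φ.ker = Nat.card (N ⊓ centralizer ({w} : Set X) : Subgroup X) := by
      rw [← h3]
      exact Nat.card_congr (φ.ker.equivMapOfInjective _ N.subtype_injective).toEquiv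
    have h5 : h.W ≤ N ⊓ centralizer ({w} : Set X) := fun a ha =>
      ⟨hWN ha, mem_centralizer_singleton_iff.2 (h.W_ab ht ht2 htV ha hw)⟩
    have h6 := Subgroup.card_le_of_le h5
    rw [h.card_W ht ht2 htV, ← h4] at h6
    have h7 := h.card_N_le hN ht ht2 htV
    refine ⟨by omega, Subgroup.eq_of_le_of_card_ge h5 ?_⟩
    rw [h.card_W ht ht2 htV, ← h4]
    omega
  obtain ⟨w, hw, hwV⟩ := h.exists_w hN ht ht2 htV
  refine ⟨(key w hw hwV).1, fun w hw hwV n hn hnw => ?_⟩
  rw [(key w hw hwV).2]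
  exact ⟨hn, mem_centralizer_singleton_iff.2 hnw⟩

/-- `[N, S] ≤ W`. -/
theorem cc_mem_W (hnab : ∃ a ∈ N, ∃ b ∈ N, a * b ≠ b * a) {s n : X} (hs : s ∈ S) (hn : n ∈ N) : ⁅s, n⁆ ∈ h.W := by
  obtain ⟨w, hw, hwV⟩ := h.exists_w hN ht ht2 htV
  have hwN := h.W_le_N hN ht ht2 htV hw
  have hsn : s * n * s⁻¹ ∈ N := hN.n.conj_mem n hn s
  refine (h.card_N hN ht ht2 htV hnab).2 w hw hwV _ ?_ ?_
  · have e : ⁅s, n⁆ = (s * n * s⁻¹) * n⁻¹ := rfl
    rw [e]; exact N.mul_mem hsn (N.inv_mem hn)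
  · -- c = [n, w], s⁻¹ w s = d w
    have hc := hN.cm w hwN n hn
    have hd : s⁻¹ * w * s⁻¹⁻¹ * w⁻¹ ∈ V := hw.2.2 _ (S.inv_mem hs)
    have h1 : ⁅s * n * s⁻¹, w⁆ = ⁅n, w⁆ := by
      have h2 : ⁅n, (s⁻¹ * w * s⁻¹⁻¹ * w⁻¹) * w⁆ = ⁅n, w⁆ := by
        rw [h.cc_right (h.vS hd) hc, cc_one.2 (h.vc hd (hN.NS hn)), one_mul]
      have h3 : ⁅s * n * s⁻¹, w⁆ = s * ⁅n, (s⁻¹ * w * s⁻¹⁻¹ * w⁻¹) * w⁆ * s⁻¹ := by
        simp only [commutatorElement_def]; group
      rw [h3, h2, h.vc hc hs, mul_inv_cancel_right]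
    have h4 : ⁅(s * n * s⁻¹) * n⁻¹, w⁆ = 1 := by
      have h5 := hN.cm w hwN _ (N.inv_mem hn)
      rw [h.cc_left (hN.NS hsn) h5, h1]
      have h6 := h.cc_left (hN.NS (N.inv_mem hn)) hc (c := w)
      rw [inv_mul_cancel, commutatorElement_one_left] at h6
      rw [h.v_comm h5 hc]; exact h6.symm
    exact cc_one.1 h4

/-- `δ² = [n, δ]` for `δ = [s, n]`. -/
theorem cc_sq (hnab : ∃ a ∈ N, ∃ b ∈ N, a * b ≠ b * a) {s n : X} (hs : s ∈ S) (hn : n ∈ N) :
    ⁅s, n⁆ * ⁅s, n⁆ = ⁅n, ⁅s, n⁆⁆ := by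
  have hW := h.cc_mem_W hN ht ht2 htV hnab hs hn
  have hWN := h.W_le_N hN ht ht2 htV hW
  set δ := ⁅s, n⁆ with hδ
  have h1 : s * n * s⁻¹ = δ * n := by rw [hδ, commutatorElement_def]; group
  have h2 : (δ * n) * (δ * n) = n * n := by
    rw [← h1]
    calc s * n * s⁻¹ * (s * n * s⁻¹) = s * (n * n) * s⁻¹ := by group
      _ = n * n := by rw [h.vc (hN.sq n hn) hs, mul_inv_cancel_right]
  have hc := hN.cm δ hWN n hn
  have h3 : n * δ = ⁅n, δ⁆ * (δ * n) := by rw [commutatorElement_def]; group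
  have h4 : (δ * n) * (δ * n) = ⁅n, δ⁆ * (δ * δ) * (n * n) := by
    calc (δ * n) * (δ * n) = δ * (n * δ) * n := by group
      _ = δ * (⁅n, δ⁆ * (δ * n)) * n := by rw [h3]
      _ = (δ * ⁅n, δ⁆) * (δ * (n * n)) := by group
      _ = (⁅n, δ⁆ * δ) * (δ * (n * n)) := by rw [h.vc hc (h.W_le hW)]
      _ = _ := by group
  rw [h4] at h2
  have h5 : ⁅n, δ⁆ * (δ * δ) = 1 := by
    have := mul_right_cancel (h2.trans (one_mul (n * n)).symm)
    exact this
  have h6 := eq_inv_of_mul_eq_one_right h5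
  rw [h6, h.v_inv hc]

theorem cc_cross (hnab : ∃ a ∈ N, ∃ b ∈ N, a * b ≠ b * a) {s c d : X} (hs : s ∈ S) (hc : c ∈ N) (hd : d ∈ N) :
    ⁅c, ⁅s, d⁆⁆ = ⁅d, ⁅s, c⁆⁆ := by
  have hδ := h.cc_mem_W hN ht ht2 htV hnab hs hc
  have hε := h.cc_mem_W hN ht ht2 htV hnab hs hd
  have h1 := h.cc_sq hN ht ht2 htV hnab hs hc
  have h2 := h.cc_sq hN ht ht2 htV hnab hs hd
  have h3 := h.cc_sq hN ht ht2 htV hnab hs (N.mul_mem hc hd)
  set δ := ⁅s, c⁆ with hδd
  set ε := ⁅s, d⁆ with hεd
  have hWN := h.W_le_N hN ht ht2 htV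
  have hcε := hN.cm ε (hWN hε) c hc
  have hcδ := hN.cm δ (hWN hδ) c hc
  have hdε := hN.cm ε (hWN hε) d hd
  have hdδ := hN.cm δ (hWN hδ) d hd
  have e1 : ⁅s, c * d⁆ = δ * (⁅c, ε⁆ * ε) := by
    rw [hδd, hεd]; simp only [commutatorElement_def]; group
  have hab := h.W_ab ht ht2 htV hδ hε
  have e2 : δ * (⁅c, ε⁆ * ε) * (δ * (⁅c, ε⁆ * ε)) = (δ * δ) * (ε * ε) := by
    have h5 := h.vc hcε (h.W_le hδ)
    have h6 := h.vc hcε (h.W_le hε)
    calc δ * (⁅c, ε⁆ * ε) * (δ * (⁅c, ε⁆ * ε)) = (δ * ⁅c, ε⁆) * ε * δ * (⁅c, ε⁆ * ε) := by group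
      _ = (⁅c, ε⁆ * δ) * ε * δ * (ε * ⁅c, ε⁆) := by rw [h5, h6]
      _ = ⁅c, ε⁆ * δ * (ε * δ) * ε * ⁅c, ε⁆ := by group
      _ = ⁅c, ε⁆ * δ * (δ * ε) * ε * ⁅c, ε⁆ := by rw [hab]
      _ = ⁅c, ε⁆ * ((δ * δ) * (ε * ε)) * ⁅c, ε⁆ := by group
      _ = ((δ * δ) * (ε * ε)) * ⁅c, ε⁆ * ⁅c, ε⁆ := by rw [h.v_comm hcε (V.mul_mem hδ.2.1 hε.2.1)]
      _ = (δ * δ) * (ε * ε) * (⁅c, ε⁆ * ⁅c, ε⁆) := by group
      _ = (δ * δ) * (ε * ε) := by rw [h.v2 _ hcε, mul_one]
  rw [e1, e2] at h3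
  have hsS := hN.NS hc
  have e3 : ⁅c * d, δ * (⁅c, ε⁆ * ε)⁆ = (⁅d, δ⁆ * ⁅d, ε⁆) * (⁅c, δ⁆ * ⁅c, ε⁆) := by
    have hgen : ∀ m ∈ N, ⁅m, δ * (⁅c, ε⁆ * ε)⁆ = ⁅m, δ⁆ * ⁅m, ε⁆ := by
      intro m hm
      have hmε := hN.cm ε (hWN hε) m hm
      have h7 : ⁅m, ⁅c, ε⁆ * ε⁆ = ⁅m, ε⁆ := by
        rw [h.cc_right (h.vS hcε) hmε, cc_one.2 (h.vc hcε (hN.NS hm)), one_mul]
      rw [h.cc_right (h.W_le hδ) (by rw [h7]; exact hmε), h7]
    have hmem : ⁅d, δ * (⁅c, ε⁆ * ε)⁆ ∈ V := by rw [hgen d hd]; exact V.mul_mem hdδ hdε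
    rw [h.cc_left hsS hmem, hgen d hd, hgen c hc]
  rw [e3, h1, h2] at h3
  -- [c,δ][d,ε] = [d,δ][d,ε][c,δ][c,ε]
  have h8 : ⁅d, δ⁆ * ⁅c, ε⁆ = 1 := by
    have e4 : ⁅d, δ⁆ * ⁅d, ε⁆ * (⁅c, δ⁆ * ⁅c, ε⁆) = (⁅c, δ⁆ * ⁅d, ε⁆) * (⁅d, δ⁆ * ⁅c, ε⁆) := by
      rw [h.v_comm hdδ hdε, h.v_comm hcδ hdε]
      calc ⁅d, ε⁆ * ⁅d, δ⁆ * (⁅c, δ⁆ * ⁅c, ε⁆) = ⁅d, ε⁆ * (⁅d, δ⁆ * ⁅c, δ⁆) * ⁅c, ε⁆ := by group
        _ = ⁅d, ε⁆ * (⁅c, δ⁆ * ⁅d, δ⁆) * ⁅c, ε⁆ := by rw [h.v_comm hdδ hcδ]
        _ = _ := by group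
    rw [e4] at h3
    exact (mul_eq_left.1 h3.symm)
  have h9 := eq_inv_of_mul_eq_one_right h8
  rw [h9, h.v_inv hdδ]

theorem stab_or (hnab : ∃ a ∈ N, ∃ b ∈ N, a * b ≠ b * a) {s c : X} (hs : s ∈ S) (hc : c ∈ N) (hcW : c ∉ h.W)
    (hsc : ⁅s, c⁆ ∈ V) {d : X} (hd : d ∈ N) : ⁅s, d⁆ ∈ V := by
  by_contra hcon
  have h1 := h.cc_cross hN ht ht2 htV hnab hs hc hd
  rw [cc_one.2 (h.vc hsc (hN.NS hd))] at h1
  exact hcW ((h.card_N hN ht ht2 htV hnab).2 _ (h.cc_mem_W hN ht ht2 htV hnab hs hd) hcon c hc (cc_one.1 h1))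

/-- Minimal normal subgroups above `V` are equal to `W`. -/
theorem eq_W : N = h.W := by
  by_cases hab : ∀ a ∈ N, ∀ b ∈ N, a * b = b * a
  · exact h.eq_W_of_ab hN ht ht2 htV hab
  push Not at hab
  exfalso
  have hnab := hab
  obtain ⟨hcard, hCW⟩ := h.card_N hN ht ht2 htV hnab
  have hWN := h.W_le_N hN ht ht2 htV
  have hWcard := h.card_W ht ht2 htV
  -- elements c, d of N, independent modulo W
  obtain ⟨c, hc, hcW⟩ : ∃ c ∈ N, c ∉ h.W := by
    by_contra hcon
    push Not at hcon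
    have := Subgroup.card_le_of_le (show N ≤ h.W from hcon)
    omega
  obtain ⟨d, hd, hdW, hcd⟩ : ∃ d ∈ N, d ∉ h.W ∧ c⁻¹ * d ∉ h.W := by
    by_contra hcon
    push Not at hcon
    have h1 := Cfsg.Agent.Classification.FourGenMain.card_le_fiber (X := N) (K := h.W) (Y := Bool)
      (fun x => @decide ((x : X) ∈ h.W) (Classical.dec _)) (by
        intro x y hxy
        have h2 : ((x : X) ∈ h.W) ↔ ((y : X) ∈ h.W) := by
          simpa using hxy
        by_cases hx : (x : X) ∈ h.W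
        · exact (h.W).mul_mem ((h.W).inv_mem hx) (h2.1 hx)
        · have hy : (y : X) ∉ h.W := fun e => hx (h2.2 e)
          have h3 := hcon x x.2 hx
          have h4 := hcon y y.2 hy
          have h5 := (h.W).mul_mem ((h.W).inv_mem h3) h4
          have e : (c⁻¹ * (x : X))⁻¹ * (c⁻¹ * y) = (x : X)⁻¹ * y := by group
          rwa [e] at h5)
    rw [Nat.card_eq_fintype_card (α := Bool), Fintype.card_bool] at h1
    omega
  -- the normal subgroup centralising N / V
  let B : Subgroup X :=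
    { carrier := {g | ∀ n ∈ N, ⁅g, n⁆ ∈ V}
      one_mem' := fun n _ => by rw [commutatorElement_one_left]; exact V.one_mem
      mul_mem' := by
        intro a b ha hb n hn
        have e : ⁅a * b, n⁆ = (a * ⁅b, n⁆ * a⁻¹) * ⁅a, n⁆ := by simp only [commutatorElement_def]; group
        rw [e]
        exact V.mul_mem (h.vn.conj_mem _ (hb n hn) a) (ha n hn)
      inv_mem' := by
        intro a ha n hn
        have e : ⁅a⁻¹, n⁆ = a⁻¹ * (⁅a, n⁆)⁻¹ * a⁻¹⁻¹ := by simp only [commutatorElement_def]; group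
        rw [e]
        exact h.vn.conj_mem _ (V.inv_mem (ha n hn)) _ }
  have hBn : B.Normal := by
    refine ⟨fun a ha g n hn => ?_⟩
    have e : ⁅g * a * g⁻¹, n⁆ = g * ⁅a, g⁻¹ * n * g⁻¹⁻¹⁆ * g⁻¹ := by simp only [commutatorElement_def]; group
    rw [e]
    exact h.vn.conj_mem _ (ha _ (hN.n.conj_mem n hn g⁻¹)) g
  obtain ⟨P, hP⟩ := h.syl
  have hSB : (P : Subgroup X) ≤ B := by
    refine le_of_idx h.noIdx P B hBn ?_
    intro s hs s' hs' hsB hs'B
    rw [hP] at hs hs'
    by_contra hcon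
    have hss := S.mul_mem hs hs'
    have hnot : ∀ g ∈ S, g ∉ B → ∀ m ∈ N, m ∉ h.W → ⁅g, m⁆ ∉ V := by
      intro g hg hgB m hm hmW hgm
      exact hgB (fun n hn => h.stab_or hN ht ht2 htV hnab hg hm hmW hgm hn)
    have main : ∀ m ∈ N, m ∉ h.W → ∀ w ∈ h.W, w * w = ⁅m, w⁆ := by
      intro m hm hmW
      have hδW := h.cc_mem_W hN ht ht2 htV hnab hs hm
      have hδ'W := h.cc_mem_W hN ht ht2 htV hnab hs' hm
      have hδV := hnot s hs hsB m hm hmW
      have hδ'V := hnot s' hs' hs'B m hm hmW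
      have hδδV := hnot _ hss hcon m hm hmW
      have r1 := h.cc_sq hN ht ht2 htV hnab hs hm
      have r2 := h.cc_sq hN ht ht2 htV hnab hs' hm
      set δ := ⁅s, m⁆ with hδ
      set δ' := ⁅s', m⁆ with hδ'
      have e1 : ⁅s * s', m⁆ = ⁅s, δ'⁆ * (δ' * δ) := by
        rw [hδ, hδ']; simp only [commutatorElement_def]; group
      have hsδ' : ⁅s, δ'⁆ ∈ V := hδ'W.2.2 s hs
      have hprod : δ' * δ ∉ V := fun e => hδδV (by rw [e1]; exact V.mul_mem hsδ' e)
      -- the subgroup where the relation holds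
      let Y : Subgroup X :=
        { carrier := {w | w ∈ h.W ∧ w * w = ⁅m, w⁆}
          one_mem' := ⟨(h.W).one_mem, by rw [commutatorElement_one_right, one_mul]⟩
          mul_mem' := by
            rintro a b ⟨ha, ha2⟩ ⟨hb, hb2⟩
            refine ⟨(h.W).mul_mem ha hb, ?_⟩
            have hmb := hN.cm b (hWN hb) m hm
            rw [h.cc_right (h.W_le ha) hmb, ← ha2, ← hb2]
            have hab := h.W_ab ht ht2 htV ha hb
            calc a * b * (a * b) = a * (b * a) * b := by group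
              _ = a * (a * b) * b := by rw [hab]
              _ = _ := by group
          inv_mem' := by
            rintro a ⟨ha, ha2⟩
            refine ⟨(h.W).inv_mem ha, ?_⟩
            have hma := hN.cm a (hWN ha) m hm
            have h3 := hN.cm _ (N.inv_mem (hWN ha)) m hm
            have h4 := h.cc_right (a := m) (b := a) (c := a⁻¹) (h.W_le ha) h3
            rw [mul_inv_cancel, commutatorElement_one_right] at h4
            have h5 := (inv_eq_of_mul_eq_one_right h4.symm).symm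
            rw [h5, ← ha2, mul_inv_rev] }
      have hVY : V ≤ Y := fun v hv => ⟨h.V_le_W hv, by rw [h.v2 v hv]; exact (cc_one.2 (h.vc hv (hN.NS hm))).symm⟩
      have hδY : δ ∈ Y := ⟨hδW, r1⟩
      have hδ'Y : δ' ∈ Y := ⟨hδ'W, r2⟩
      have hδ1 : δ * δ ≠ 1 := fun e => hδV (h.W_sq_one hδW e)
      have hδ'1 : δ' * δ' ≠ 1 := fun e => hδ'V (h.W_sq_one hδ'W e)
      have hne : δ' * δ' ≠ δ * δ := by
        intro e
        have h3 := h.W_inj ht ht2 htV hδ'W hδW e
        apply hprod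
        have e2 : δ' * δ = (δ' * δ') * (δ'⁻¹ * δ) := by group
        rw [e2]
        exact V.mul_mem hδ'W.2.1 h3
      intro w hw
      have hwY : w ∈ Y := by
        have hcase : ∀ y ∈ Y, w * w = y * y → w ∈ Y := by
          intro y hy e
          have h3 := h.W_inj ht ht2 htV hy.1 hw e.symm
          have h4 := Y.mul_mem hy (hVY h3)
          rwa [mul_inv_cancel_left] at h4
        rcases h.v_cases hδ'W.2.1 hδW.2.1 hδ'1 hδ1 hne hw.2.1 with h3 | h3 | h3 | h3
        · exact hVY (h.W_sq_one hw h3)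
        · exact hcase _ hδ'Y h3
        · exact hcase _ hδY h3
        · refine hcase (δ' * δ) (Y.mul_mem hδ'Y hδY) ?_
          rw [h3]
          have hab := h.W_ab ht ht2 htV hδ'W hδW
          calc δ' * δ' * (δ * δ) = δ' * (δ' * δ) * δ := by group
            _ = δ' * (δ * δ') * δ := by rw [hab]
            _ = _ := by group
      exact hwY.2
    obtain ⟨w, hw, hwV⟩ := h.exists_w hN ht ht2 htV
    have h1 := main c hc hcW w hw
    have h2 := main d hd hdW w hw
    have h3 : ⁅c⁻¹ * d, w⁆ = 1 := by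
      have hcw := hN.cm w (hWN hw) c hc
      have hdw := hN.cm w (hWN hw) d hd
      have hciw := hN.cm w (hWN hw) _ (N.inv_mem hc)
      rw [h.cc_left (hN.NS (N.inv_mem hc)) hdw]
      have h4 := h.cc_left (hN.NS (N.inv_mem hc)) hcw
      rw [inv_mul_cancel, commutatorElement_one_left] at h4
      rw [← h2, h1]; exact h4.symm
    exact hcd (hCW w hw hwV _ (N.mul_mem (N.inv_mem hc) hd) (cc_one.1 h3))
  rw [hP] at hSB
  apply hcW
  exact ⟨hN.NS hc, hN.sq c hc, fun s hs => hSB hs c hc⟩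

end minN

end Loc

end Cfsg.Agent.H285.Fs
end

-- part: H285/FsF
section
/-!
# A self-centralizing normal abelian subgroup; `S` is normal
-/

set_option autoImplicit false
set_option linter.unusedSectionVars false

open Subgroup
open scoped commutatorElement

namespace Cfsg.Agent.H285.Fs

variable {X : Type*} [Group X] [Finite X] {S V : Subgroup X}

theorem conj_pow {y z c : X} (h : y * z = c * z * y) (hc : y * c = c * y) (j : ℕ) : y ^ j * z = c ^ j * z * y ^ j := by
  induction j with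
  | zero => simp
  | succ j ih =>
    have hcj : y * c ^ j = c ^ j * y := (Commute.pow_right hc j)
    calc y ^ (j + 1) * z = y * (y ^ j * z) := by rw [pow_succ']; group
      _ = y * (c ^ j * z * y ^ j) := by rw [ih]
      _ = (y * c ^ j) * z * y ^ j := by group
      _ = (c ^ j * y) * z * y ^ j := by rw [hcj]
      _ = c ^ j * (y * z) * y ^ j := by group
      _ = c ^ j * (c * z * y) * y ^ j := by rw [h]
      _ = c ^ (j + 1) * z * y ^ (j + 1) := by rw [pow_succ c j, pow_succ' y j]; group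

theorem eq_one_of_two_odd {c : X} {k m : ℕ} (h2 : c ^ 2 ^ k = 1) (hm : c ^ m = 1) (hodd : Odd m) : c = 1 := by
  rw [← orderOf_eq_one_iff]
  have hco : Nat.Coprime (2 ^ k) m := Nat.Coprime.pow_left k ((Nat.coprime_two_left).2 hodd)
  exact Nat.eq_one_of_dvd_coprimes hco (orderOf_dvd_of_pow_eq_one h2) (orderOf_dvd_of_pow_eq_one hm)

theorem isPGroup_of_odd {D : Subgroup X} (h : ∀ y ∈ D, Odd (orderOf y) → y = 1) : IsPGroup 2 D := by
  intro g
  obtain ⟨k, m, hm, hkm⟩ := Nat.exists_eq_two_pow_mul_odd (n := orderOf (g : X)) (orderOf_pos _).ne'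
  refine ⟨k, Subtype.ext ?_⟩
  refine h _ (D.pow_mem g.2 _) ?_
  have hg : Nat.gcd (2 ^ k * m) (2 ^ k) = 2 ^ k := Nat.gcd_eq_right (dvd_mul_right _ _)
  rw [SubmonoidClass.coe_pow, orderOf_pow' _ (by positivity), hkm, hg,
    Nat.mul_div_cancel_left _ (by positivity)]
  exact hm

namespace Loc

variable (h : Loc S V)

/-- a normal abelian subgroup above `W` -/
structure Ab (h : Loc S V) (Z : Subgroup X) : Prop where
  n : Z.Normal
  ZS : Z ≤ S
  WZ : h.W ≤ Z
  ab : ∀ a ∈ Z, ∀ b ∈ Z, a * b = b * a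

/-- the squares -/
def Sq {Z : Subgroup X} (hZ : Ab h Z) : Subgroup X where
  carrier := {g | ∃ z ∈ Z, z * z = g}
  one_mem' := ⟨1, Z.one_mem, one_mul 1⟩
  mul_mem' := by
    rintro _ _ ⟨a, ha, rfl⟩ ⟨b, hb, rfl⟩
    refine ⟨a * b, Z.mul_mem ha hb, ?_⟩
    calc a * b * (a * b) = a * (b * a) * b := by group
      _ = a * (a * b) * b := by rw [hZ.ab a ha b hb]
      _ = _ := by group
  inv_mem' := by
    rintro _ ⟨a, ha, rfl⟩
    exact ⟨a⁻¹, Z.inv_mem ha, by group⟩

section ab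

variable {Z : Subgroup X} {t : X} (hZ : Ab h Z) (ht : t ∈ S) (ht2 : t * t = 1) (htV : t ∉ V)

theorem Ab.VZ {h : Loc S V} (hZ : Ab h Z) : V ≤ Z := h.V_le_W.trans hZ.WZ

theorem Sq_le : h.Sq hZ ≤ Z := by
  rintro _ ⟨z, hz, rfl⟩; exact Z.mul_mem hz hz

theorem Sq_normal : (h.Sq hZ).Normal := by
  refine ⟨?_⟩
  rintro _ ⟨z, hz, rfl⟩ g
  exact ⟨g * z * g⁻¹, hZ.n.conj_mem z hz g, by group⟩

theorem Ab.om {h : Loc S V} (hZ : Ab h Z) {a : X} (ha : a ∈ Z) (ha2 : a * a = 1) : a ∈ V :=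
  h.omega hZ.ZS (fun s _ a ha => hZ.n.conj_mem a ha s) hZ.ab hZ.VZ ha ha2

theorem card_Z_le : Nat.card Z ≤ 4 * Nat.card (h.Sq hZ) := by
  have h1 := Cfsg.Agent.Classification.FourGenMain.card_le_fiber (X := Z) (K := V) (Y := h.Sq hZ)
    (fun x => ⟨(x : X) * x, ⟨x, x.2, rfl⟩⟩) (by
      intro x y hxy
      have h2 : (x : X) * x = y * y := congrArg Subtype.val hxy
      refine hZ.om (Z.mul_mem (Z.inv_mem x.2) y.2) ?_
      have h3 := hZ.ab _ (Z.inv_mem x.2) _ y.2
      calc (x : X)⁻¹ * y * ((x : X)⁻¹ * y) = (x : X)⁻¹ * (y * (x : X)⁻¹) * y := by group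
        _ = (x : X)⁻¹ * ((x : X)⁻¹ * y) * y := by rw [h3]
        _ = ((x : X) * x)⁻¹ * (y * y) := by group
        _ = 1 := by rw [h2, inv_mul_cancel])
  rw [h.v4, mul_comm] at h1
  exact h1

include hZ ht ht2 htV

theorem V_le_Sq : V ≤ h.Sq hZ := by
  intro v hv
  obtain ⟨w, hw, hwv⟩ := h.W_surj ht ht2 htV hv
  exact ⟨w, hZ.WZ hw, hwv⟩

/-- elements of `Z` with square in `V` are in `W` -/
theorem mem_W_of_sq {z : X} (hz : z ∈ Z) (hz2 : z * z ∈ V) : z ∈ h.W := by
  obtain ⟨w, hw, hwz⟩ := h.W_surj ht ht2 htV hz2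
  have hwZ := hZ.WZ hw
  have h1 : w⁻¹ * z ∈ V := by
    refine hZ.om (Z.mul_mem (Z.inv_mem hwZ) hz) ?_
    have h3 := hZ.ab _ (Z.inv_mem hwZ) _ hz
    calc w⁻¹ * z * (w⁻¹ * z) = w⁻¹ * (z * w⁻¹) * z := by group
      _ = w⁻¹ * (w⁻¹ * z) * z := by rw [h3]
      _ = (w * w)⁻¹ * (z * z) := by group
      _ = 1 := by rw [hwz, inv_mul_cancel]
  have h2 := (h.W).mul_mem hw (h.V_le_W h1)
  rwa [mul_inv_cancel_left] at h2

/-- A maximal normal abelian subgroup contained in the normal 2-subgroup `Q` is self-centralizing in `Q`. -/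
theorem selfcent {Q : Subgroup X} (hQ : IsPGroup 2 Q) (hQn : Q.Normal) (hQS : Q ≤ S) (hZQ : Z ≤ Q)
    (hmax : ∀ M : Subgroup X, M.Normal → M ≤ Q → Z ≤ M → (∀ a ∈ M, ∀ b ∈ M, a * b = b * a) → M = Z) :
    ∀ q ∈ Q, (∀ z ∈ Z, z * q = q * z) → q ∈ Z := by
  intro q hq hqz
  by_contra hqZ
  have hZn := hZ.n
  let C : Subgroup X := Q ⊓ centralizer (Z : Set X)
  have hCn : C.Normal := by
    have := hQn; exact inferInstance
  have hZC : Z ≤ C := fun z hz => ⟨hZQ hz, mem_centralizer_iff.2 (fun y hy => hZ.ab y hy z hz)⟩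
  obtain ⟨M, hMn, hZM, hne, hMC, hmin, hsq, hcm⟩ := exists_min (A := Z) (Q := C) (hQ.to_le inf_le_left) hZ.n hCn hZC
    (fun e => hqZ (by rw [e]; exact ⟨hq, mem_centralizer_iff.2 hqz⟩))
  have hMQ : M ≤ Q := hMC.trans inf_le_left
  have hMS : M ≤ S := hMQ.trans hQS
  have hMZ : ∀ m ∈ M, ∀ z ∈ Z, z * m = m * z := fun m hm z hz => mem_centralizer_iff.1 (hMC hm).2 z hz
  -- commutators of M are in V
  have hcV : ∀ a ∈ M, ∀ b ∈ M, ⁅a, b⁆ ∈ V := by
    intro a ha b hb
    have h1 : ⁅a, b⁆ ∈ Z := hcm b hb a ha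
    refine hZ.om h1 ?_
    have h2 : ⁅a, b * b⁆ = ⁅a, b⁆ * (b * ⁅a, b⁆ * b⁻¹) := by simp only [commutatorElement_def]; group
    have h3 : b * ⁅a, b⁆ * b⁻¹ = ⁅a, b⁆ := by rw [← hMZ b hb _ h1, mul_inv_cancel_right]
    rw [h3] at h2
    rw [← h2]
    exact cc_one.2 (hMZ a ha _ (hsq b hb)).symm
  have hnab : ∃ a ∈ M, ∃ b ∈ M, a * b ≠ b * a := by
    by_contra hcon
    push Not at hcon
    exact hne (hmax M hMn hMQ hZM hcon).symm
  -- K₀
  have hVSq := h.V_le_Sq hZ ht ht2 htV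
  have hsqmul : ∀ a ∈ M, ∀ b ∈ M, ∃ v ∈ V, a * b * (a * b) = v * (a * a * (b * b)) := by
    intro a ha b hb
    have h1 := hcV b hb a ha
    refine ⟨⁅b, a⁆, h1, ?_⟩
    have h2 := h.vc h1 (hMS ha)
    calc a * b * (a * b) = (a * ⁅b, a⁆) * (a * (b * b)) := by simp only [commutatorElement_def]; group
      _ = (⁅b, a⁆ * a) * (a * (b * b)) := by rw [h2]
      _ = _ := by group
  let K : Subgroup X :=
    { carrier := {a | a ∈ M ∧ a * a ∈ h.Sq hZ}
      one_mem' := ⟨M.one_mem, by rw [one_mul]; exact (h.Sq hZ).one_mem⟩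
      mul_mem' := by
        rintro a b ⟨ha, ha2⟩ ⟨hb, hb2⟩
        refine ⟨M.mul_mem ha hb, ?_⟩
        obtain ⟨v, hv, e⟩ := hsqmul a ha b hb
        rw [e]
        exact (h.Sq hZ).mul_mem (hVSq hv) ((h.Sq hZ).mul_mem ha2 hb2)
      inv_mem' := by
        rintro a ⟨ha, ha2⟩
        refine ⟨M.inv_mem ha, ?_⟩
        rw [← mul_inv_rev]; exact (h.Sq hZ).inv_mem ha2 }
  have hKn : K.Normal := by
    refine ⟨?_⟩
    rintro a ⟨ha, ha2⟩ g
    refine ⟨hMn.conj_mem _ ha g, ?_⟩
    have e : g * a * g⁻¹ * (g * a * g⁻¹) = g * (a * a) * g⁻¹ := by group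
    rw [e]; exact (h.Sq_normal hZ).conj_mem _ ha2 g
  have hZK : Z ≤ K := fun z hz => ⟨hZM hz, ⟨z, hz, rfl⟩⟩
  rcases hmin K hKn hZK (fun a ha => ha.1) with hK | hK
  · -- K = Z: M / Z has order at most 4
    have hcard : Nat.card M ≤ 4 * Nat.card Z := by
      have h1 := Cfsg.Agent.Classification.FourGenMain.card_le_fiber (X := M) (K := Z)
        (Y := Z ⧸ (h.Sq hZ).subgroupOf Z) (fun x => QuotientGroup.mk (⟨(x : X) * x, hsq x x.2⟩ : Z)) (by
          intro x y hxy
          have h2 : ((x : X) * x)⁻¹ * ((y : X) * y) ∈ h.Sq hZ := by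
            have := QuotientGroup.eq.1 hxy
            exact this
          rw [← hK]
          refine ⟨M.mul_mem (M.inv_mem x.2) y.2, ?_⟩
          obtain ⟨v, hv, e⟩ := hsqmul _ (M.inv_mem x.2) _ y.2
          rw [e]
          refine (h.Sq hZ).mul_mem (hVSq hv) ?_
          rwa [← mul_inv_rev])
      have h5 : Nat.card (h.Sq hZ) * Nat.card (Z ⧸ (h.Sq hZ).subgroupOf Z) = Nat.card Z := by
        rw [← Nat.card_congr (Subgroup.subgroupOfEquivOfLe (h.Sq_le hZ)).toEquiv, mul_comm]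
        exact (Subgroup.card_eq_card_quotient_mul_card_subgroup _).symm
      have h6 := h.card_Z_le hZ
      rw [← h5] at h6
      have h7 : 0 < Nat.card (h.Sq hZ) := Nat.card_pos
      have h8 : Nat.card (Z ⧸ (h.Sq hZ).subgroupOf Z) ≤ 4 := by
        rw [mul_comm 4] at h6
        exact Nat.le_of_mul_le_mul_left h6 h7
      exact h1.trans (Nat.mul_le_mul_right _ h8)
    -- commutator maps have image of order ≤ 2
    have hrng : ∀ a ∈ M, ∀ v : X, v ≠ 1 → (∃ b ∈ M, ⁅b, a⁆ = v) → ∀ m ∈ M, ⁅m, a⁆ = 1 ∨ ⁅m, a⁆ = v := by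
      intro a ha v hv1 ⟨b, hb, hbv⟩ m hm
      by_contra hcon
      push Not at hcon
      let Z1 : Subgroup X := M ⊓ centralizer ({a} : Set X)
      let Z2 : Subgroup X :=
        { carrier := {n | n ∈ M ∧ (⁅n, a⁆ = 1 ∨ ⁅n, a⁆ = v)}
          one_mem' := ⟨M.one_mem, Or.inl (commutatorElement_one_left a)⟩
          mul_mem' := by
            rintro c d ⟨hc, hc1⟩ ⟨hd, hd1⟩
            refine ⟨M.mul_mem hc hd, ?_⟩
            rw [h.cc_left (hMS hc) (hcV d hd a ha)]
            have hv2 : v ∈ V → v * v = 1 := h.v2 v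
            rcases hd1 with h2 | h2 <;> rcases hc1 with h3 | h3
            · left; rw [h2, h3, one_mul]
            · right; rw [h2, h3, one_mul]
            · right; rw [h2, h3, mul_one]
            · left; rw [h2, h3]; exact hv2 (h2 ▸ hcV d hd a ha)
          inv_mem' := by
            rintro c ⟨hc, hc1⟩
            refine ⟨M.inv_mem hc, ?_⟩
            have h2 := h.cc_left (hMS (M.inv_mem hc)) (hcV c hc a ha) (c := a)
            rw [inv_mul_cancel, commutatorElement_one_left] at h2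
            have h3 := eq_inv_of_mul_eq_one_right h2.symm
            rw [h3, h.v_inv (hcV c hc a ha)]
            exact hc1 }
      have haZ : a ∉ Z := by
        intro e
        have h2 := hMZ b hb a e
        apply hv1
        rw [← hbv]
        exact cc_one.2 h2.symm
      have h1 := two_mul_card_le (A := Z) (B := Z1) (fun z hz => ⟨hZM hz, mem_centralizer_singleton_iff.2
        (hMZ a ha z hz)⟩) (by
          intro e
          exact haZ (e ▸ (⟨ha, mem_centralizer_singleton_iff.2 rfl⟩ : a ∈ Z1)))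
      have h2 := two_mul_card_le (A := Z1) (B := Z2) (fun z hz => ⟨hz.1, Or.inl (cc_one.2
        (mem_centralizer_singleton_iff.1 hz.2))⟩) (by
          intro e
          have h3 : b ∈ Z2 := ⟨hb, Or.inr hbv⟩
          rw [← e] at h3
          apply hv1
          rw [← hbv]
          exact cc_one.2 (mem_centralizer_singleton_iff.1 h3.2))
      have h3 := two_mul_card_le (A := Z2) (B := M) (fun z hz => hz.1) (by
          intro e
          rw [← e] at hm
          rcases hm.2 with h4 | h4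
          · exact hcon.1 h4
          · exact hcon.2 h4)
      have h4 : 0 < Nat.card Z := Nat.card_pos
      omega
    obtain ⟨a, ha, b, hb, hab⟩ := hnab
    have hv1 : ⁅a, b⁆ ≠ 1 := fun e => hab (cc_one.1 e)
    have hvV := hcV a ha b hb
    -- all commutators are in {1, v}
    have hb1 := hrng b hb _ hv1 ⟨a, ha, rfl⟩
    have ha1 := hrng a ha _ hv1 ⟨b, hb, h.cc_symm hvV⟩
    have hall : ∀ m ∈ M, ∀ n ∈ M, ⁅n, m⁆ = 1 ∨ ⁅n, m⁆ = ⁅a, b⁆ := by
      intro m hm n hn
      rcases ha1 m hm with h1 | h1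
      · -- use m b
        have h2 : ⁅a, m * b⁆ = ⁅a, b⁆ := by
          rw [h.cc_right (hMS hm) hvV, h.cc_symm (hcV m hm a ha), h1, one_mul]
        have h3 := hrng (m * b) (M.mul_mem hm hb) _ hv1 ⟨a, ha, h2⟩ n hn
        rw [h.cc_right (hMS hm) (hcV n hn b hb)] at h3
        have hnm := hcV n hn m hm
        rcases hb1 n hn with h4 | h4
        · rw [h4, mul_one] at h3; exact h3
        · rw [h4] at h3
          rcases h3 with h5 | h5
          · right
            rw [eq_inv_of_mul_eq_one_left h5, h.v_inv hvV]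
          · left
            exact mul_eq_right.1 h5
      · exact hrng m hm _ hv1 ⟨a, ha, by rw [h.cc_symm (hcV m hm a ha)]; exact h1⟩ n hn
    obtain ⟨u, hu, w, hw, hu1, hw1, huw⟩ := h.exists_two
    obtain ⟨v', hv', hv'1, hv'v⟩ : ∃ v' ∈ V, v' ≠ 1 ∧ v' ≠ ⁅a, b⁆ := by
      by_cases hc : u = ⁅a, b⁆
      · exact ⟨w, hw, hw1, fun e => huw (hc.trans e.symm)⟩
      · exact ⟨u, hu, hu1, hc⟩
    obtain ⟨x, _, hx⟩ := h.tr hvV hv' hv1 hv'1
    have h5 : ⁅x * a * x⁻¹, x * b * x⁻¹⁆ = v' := by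
      rw [← hx]; simp only [commutatorElement_def]; group
    rcases hall _ (hMn.conj_mem b hb x) _ (hMn.conj_mem a ha x) with h6 | h6
    · exact hv'1 (h5.symm.trans h6)
    · exact hv'v (h5.symm.trans h6)
  · -- K = M
    have hex : ∃ m ∈ M, m ∉ Z := by
      by_contra hcon
      push Not at hcon
      exact hne (le_antisymm hZM hcon)
    obtain ⟨a, ha, haZ, _, hac⟩ := exists_mid' h.isP hMS (fun s _ a ha => hZ.n.conj_mem a ha s)
      (fun s _ a ha => hMn.conj_mem a ha s) hex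
    have haK : a ∈ K := by rw [hK]; exact ha
    obtain ⟨z, hz, hza⟩ := haK.2
    have hcomm := hMZ a ha z hz
    have hcomm' : a * z⁻¹ = z⁻¹ * a := by
      have := hMZ a ha z⁻¹ (Z.inv_mem hz); exact this.symm
    obtain ⟨a', ha'⟩ : ∃ a' : X, a' = a * z⁻¹ := ⟨_, rfl⟩
    have ha'M : a' ∈ M := by rw [ha']; exact M.mul_mem ha (hZM (Z.inv_mem hz))
    have ha'2 : a' * a' = 1 := by
      calc a' * a' = a * (z⁻¹ * a) * z⁻¹ := by rw [ha']; group
        _ = a * (a * z⁻¹) * z⁻¹ := by rw [hcomm']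
        _ = (a * a) * (z * z)⁻¹ := by group
        _ = 1 := by rw [hza, mul_inv_cancel]
    have ha'V : a' ∈ V := by
      refine h.kill (hMS ha'M) ha'2 (fun s hs => ?_)
      have h1 : ⁅s, a'⁆ ∈ Z := by
        have e : ⁅s, a'⁆ = ⁅s, a⁆ * (a * ⁅s, z⁻¹⁆ * a⁻¹) := by
          rw [ha']; simp only [commutatorElement_def]; group
        rw [e]
        refine Z.mul_mem (hac s hs) (hZ.n.conj_mem _ ?_ a)
        have e2 : ⁅s, z⁻¹⁆ = (s * z⁻¹ * s⁻¹) * z⁻¹⁻¹ := rfl
        rw [e2]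
        exact Z.mul_mem (hZ.n.conj_mem _ (Z.inv_mem hz) s) (Z.inv_mem (Z.inv_mem hz))
      refine hZ.om h1 ?_
      have h2 := hMZ a' ha'M _ h1
      have h3 : s * a' * s⁻¹ = ⁅s, a'⁆ * a' := by rw [commutatorElement_def]; group
      calc ⁅s, a'⁆ * ⁅s, a'⁆ = ⁅s, a'⁆ * ⁅s, a'⁆ * (a' * a') := by rw [ha'2, mul_one]
        _ = ⁅s, a'⁆ * (⁅s, a'⁆ * a') * a' := by group
        _ = ⁅s, a'⁆ * (a' * ⁅s, a'⁆) * a' := by rw [h2]
        _ = (⁅s, a'⁆ * a') * (⁅s, a'⁆ * a') := by group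
        _ = (s * a' * s⁻¹) * (s * a' * s⁻¹) := by rw [h3]
        _ = s * (a' * a') * s⁻¹ := by group
        _ = 1 := by rw [ha'2]; group
    apply haZ
    have h4 := Z.mul_mem (hZ.VZ ha'V) hz
    rw [ha', inv_mul_cancel_right] at h4
    exact h4

/-- elements of odd order centralizing `V` centralize `Z` -/
theorem odd_cent {y : X} (hyV : ∀ v ∈ V, y * v = v * y) {m : ℕ} (hm : y ^ m = 1) (hodd : Odd m) :
    ∀ z ∈ Z, y * z = z * y := by
  have key : ∀ k : ℕ, ∀ z ∈ Z, z ^ 2 ^ k = 1 → y * z = z * y := by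
    intro k
    induction k with
    | zero =>
      intro z _ hz1
      rw [pow_zero, pow_one] at hz1
      rw [hz1, mul_one, one_mul]
    | succ k ih =>
      intro z hz hz1
      have h1 : y * (z * z) = (z * z) * y := by
        refine ih (z * z) (Z.mul_mem hz hz) ?_
        rw [← pow_two, ← pow_mul, ← pow_succ']; exact hz1
      have hc : ⁅y, z⁆ ∈ Z := by
        have e : ⁅y, z⁆ = (y * z * y⁻¹) * z⁻¹ := rfl
        rw [e]; exact Z.mul_mem (hZ.n.conj_mem z hz y) (Z.inv_mem hz)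
      have hcz := hZ.ab _ hc _ hz
      have h2 : y * z = ⁅y, z⁆ * z * y := by rw [commutatorElement_def]; group
      have hc2 : ⁅y, z⁆ * ⁅y, z⁆ = 1 := by
        have h3 : y * (z * z) = (⁅y, z⁆ * ⁅y, z⁆) * (z * z) * y := by
          calc y * (z * z) = (y * z) * z := by group
            _ = (⁅y, z⁆ * z * y) * z := by rw [← h2]
            _ = ⁅y, z⁆ * z * (y * z) := by group
            _ = ⁅y, z⁆ * z * (⁅y, z⁆ * z * y) := by rw [← h2]
            _ = ⁅y, z⁆ * (z * ⁅y, z⁆) * z * y := by group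
            _ = ⁅y, z⁆ * (⁅y, z⁆ * z) * z * y := by rw [hcz]
            _ = _ := by group
        rw [h1] at h3
        have h4 := mul_right_cancel h3
        exact (mul_eq_right.1 h4.symm)
      have hcV := hZ.om hc hc2
      have h5 := conj_pow h2 (hyV _ hcV) m
      rw [hm, one_mul, mul_one] at h5
      have h6 : ⁅y, z⁆ ^ m = 1 := mul_eq_right.1 h5.symm
      have h7 : ⁅y, z⁆ = 1 := eq_one_of_two_odd (k := 1) (by rw [pow_one, pow_two]; exact hc2) h6 hodd
      exact cc_one.1 h7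
  intro z hz
  obtain ⟨k, hk⟩ := h.isP ⟨z, hZ.ZS hz⟩
  exact key k z hz (congrArg Subtype.val hk)

end ab

/-- The constrained situation: a self-centralizing normal abelian subgroup. -/
theorem exists_Z (h : Loc S V) {Q : Subgroup X} (hQ : IsPGroup 2 Q) (hQn : Q.Normal)
    (hQmax : ∀ M : Subgroup X, M.Normal → IsPGroup 2 M → M ≤ Q) (hQc : centralizer (Q : Set X) ≤ Q)
    {t : X} (ht : t ∈ S) (ht2 : t * t = 1) (htV : t ∉ V) :
    ∃ Z : Subgroup X, Ab h Z ∧ (∀ g : X, (∀ z ∈ Z, g * z = z * g) → g ∈ Z) := by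
  have hQS : Q ≤ S := by
    obtain ⟨P, rfl⟩ := h.syl
    exact normal_le hQ hQn P
  have hVQ : V ≤ Q := hQmax V h.vn h.vp
  have hne : V ≠ Q := by
    intro e
    apply htV
    rw [e]
    apply hQc
    rw [mem_centralizer_iff, ← e]
    intro v hv
    exact (h.vc hv ht).symm
  obtain ⟨N, hNn, hVN, hneN, hNQ, hmin, hsq, hcm⟩ := exists_min hQ h.vn hQn hVQ hne
  have hN : MinN h N := ⟨hNn, hVN, hneN, hNQ.trans hQS, hmin, hsq, hcm⟩
  have hNW := h.eq_W hN ht ht2 htV
  have hWn : h.W.Normal := hNW ▸ hNn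
  have hWQ : h.W ≤ Q := hNW ▸ hNQ
  -- maximal normal abelian subgroup
  obtain ⟨Z, ⟨hZn, hZQ, hWZ, hZab⟩, hZmax⟩ := Set.Finite.exists_maximal
    (Set.toFinite {M : Subgroup X | M.Normal ∧ M ≤ Q ∧ h.W ≤ M ∧ ∀ a ∈ M, ∀ b ∈ M, a * b = b * a})
    ⟨h.W, hWn, hWQ, le_rfl, fun a ha b hb => h.W_ab ht ht2 htV ha hb⟩
  have hZ : Ab h Z := ⟨hZn, hZQ.trans hQS, hWZ, hZab⟩
  have hself := h.selfcent hZ ht ht2 htV hQ hQn hQS hZQ (fun M hM hMQ hZM hMab =>
    le_antisymm (hZmax ⟨hM, hMQ, hWZ.trans hZM, hMab⟩ hZM) hZM)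
  refine ⟨Z, hZ, ?_⟩
  let D : Subgroup X := centralizer (Z : Set X)
  have hDn : D.Normal := by have := hZn; exact inferInstance
  have hDp : IsPGroup 2 D := by
    refine isPGroup_of_odd ?_
    intro y hy hodd
    have hyQ : ∀ q ∈ Q, y * q = q * y := by
      intro q hq
      have h1 : ⁅y, q⁆ ∈ Q := by
        have e : ⁅y, q⁆ = (y * q * y⁻¹) * q⁻¹ := rfl
        rw [e]; exact Q.mul_mem (hQn.conj_mem q hq y) (Q.inv_mem hq)
      have h2 : ⁅y, q⁆ ∈ D := by
        have e : ⁅y, q⁆ = y * (q * y⁻¹ * q⁻¹) := by rw [commutatorElement_def]; group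
        rw [e]; exact D.mul_mem hy (hDn.conj_mem _ (D.inv_mem hy) q)
      have h3 := hself _ h1 (mem_centralizer_iff.1 h2)
      have h4 : y * q = ⁅y, q⁆ * q * y := by rw [commutatorElement_def]; group
      have h5 : y * ⁅y, q⁆ = ⁅y, q⁆ * y := (mem_centralizer_iff.1 hy _ h3).symm
      have h6 := conj_pow h4 h5 (orderOf y)
      rw [pow_orderOf_eq_one, one_mul, mul_one] at h6
      have h7 : ⁅y, q⁆ ^ orderOf y = 1 := mul_eq_right.1 h6.symm
      obtain ⟨k, hk⟩ := hQ ⟨_, h1⟩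
      have h8 : ⁅y, q⁆ = 1 := eq_one_of_two_odd (k := k) (congrArg Subtype.val hk) h7 hodd
      exact cc_one.1 h8
    have hyQ' : y ∈ Q := hQc (mem_centralizer_iff.2 (fun q hq => (hyQ q hq).symm))
    obtain ⟨k, hk⟩ := hQ ⟨y, hyQ'⟩
    exact eq_one_of_two_odd (k := k) (congrArg Subtype.val hk) (pow_orderOf_eq_one y) hodd
  intro g hg
  have hgD : g ∈ D := mem_centralizer_iff.2 (fun z hz => (hg z hz).symm)
  exact hself g (hQmax D hDn hDp hgD) (fun z hz => (hg z hz).symm)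

/-- `S = C_X(V)` is normal. -/
theorem S_eq (h : Loc S V) {Z : Subgroup X} (hZ : Ab h Z) (hself : ∀ g : X, (∀ z ∈ Z, g * z = z * g) → g ∈ Z)
    {t : X} (ht : t ∈ S) (ht2 : t * t = 1) (htV : t ∉ V) : S = centralizer (V : Set X) := by
  have h1 : S ≤ centralizer (V : Set X) := fun s hs => mem_centralizer_iff.2 (fun v hv => (h.vc hv hs).symm)
  have hn : (centralizer (V : Set X)).Normal := by have := h.vn; exact inferInstance
  have hp : IsPGroup 2 (centralizer (V : Set X)) := by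
    refine isPGroup_of_odd ?_
    intro y hy hodd
    have h2 := h.odd_cent hZ ht ht2 htV (fun v hv => (mem_centralizer_iff.1 hy v hv).symm) (pow_orderOf_eq_one y) hodd
    have h3 := hself y h2
    obtain ⟨k, hk⟩ := h.isP ⟨y, hZ.ZS h3⟩
    exact eq_one_of_two_odd (k := k) (congrArg Subtype.val hk) (pow_orderOf_eq_one y) hodd
  obtain ⟨P, hP⟩ := h.syl
  refine le_antisymm h1 ?_
  rw [← hP]
  exact normal_le hp hn P

end Loc

end Cfsg.Agent.H285.Fs
end

private theorem dce_a4aa8bbabef8 : _root_.True := by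
  try have : _root_.True := by simp only [_root_.Cfsg.Agent.H285.Fs.Loc.R.congr_simp]
  try have : _root_.True := by simp only [_root_.Cfsg.Agent.H285.Fs.Loc.W.congr_simp]
  exact _root_.True.intro
end

-- part: H285/FsI
section
prune_inst 0x4e030240459a202000018001460000044900000020063000131400502014f5360a0462f414e200d1018028a402004004002980010421000000a0004000005012080aa5206b348a10c64000f803007180c00000000000000000000000000041000000000000
set_option linter.all false
open scoped Cfsg.Agent.FastGrp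

-- part: H285/FsG
section
/-!
# The constrained case is impossible
-/

set_option autoImplicit false
set_option linter.unusedSectionVars false

open Subgroup
open scoped commutatorElement

namespace Cfsg.Agent.H285.Fs

variable {X : Type*} [Group X] [Finite X] {S V : Subgroup X}

namespace Loc

/-- The element `y` of order three, and the elements `w₁`, `w₂`, `w₃` of `W`. -/
structure Y3 (h : Loc S V) (u v y w : X) : Prop where
  hu : u ∈ V
  hv : v ∈ V
  hu1 : u ≠ 1
  hv1 : v ≠ 1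
  huv : u ≠ v
  y3 : y * y * y = 1
  yu : y * u * y⁻¹ = v
  yv : y * v * y⁻¹ = u * v
  yuv : y * (u * v) * y⁻¹ = u
  hw : w ∈ h.W
  ww : w * w = u

section

variable {Z : Subgroup X} {t : X} (h : Loc S V) (hZ : Ab h Z)
  (hself : ∀ g : X, (∀ z ∈ Z, g * z = z * g) → g ∈ Z) (ht : t ∈ S) (ht2 : t * t = 1) (htV : t ∉ V)

include hZ hself ht ht2 htV

theorem exists_Y3 : ∃ u v y w : X, Y3 h u v y w := by
  obtain ⟨u, hu, v, hv, hu1, hv1, huv⟩ := h.exists_two
  obtain ⟨x, _, hx1, hx2, hx3⟩ := h.cyc hu hv hu1 hv1 huv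
  obtain ⟨w, hw, hww⟩ := h.W_surj ht ht2 htV hu
  -- x³ centralizes V
  have hx3c : ∀ z ∈ V, (x * x * x) * z = z * (x * x * x) := by
    intro z hz
    have hconj : (x * x * x) * z * (x * x * x)⁻¹ = z := by
      have e : (x * x * x) * z * (x * x * x)⁻¹ = x * (x * (x * z * x⁻¹) * x⁻¹) * x⁻¹ := by group
      rw [e]
      rcases h.v_cases hu hv hu1 hv1 huv hz with h1 | h1 | h1 | h1
      · rw [h1]; group
      · rw [h1, hx1, hx2, hx3]
      · rw [h1, hx2, hx3, hx1]
      · rw [h1, hx3, hx1, hx2]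
    rw [mul_inv_eq_iff_eq_mul] at hconj
    exact hconj
  have hS := h.S_eq hZ hself ht ht2 htV
  have hx3S : x * x * x ∈ S := by
    rw [hS, mem_centralizer_iff]
    exact fun z hz => (hx3c z hz).symm
  obtain ⟨a, ha⟩ := h.isP ⟨_, hx3S⟩
  have ha' : (x * x * x) ^ 2 ^ a = 1 := congrArg Subtype.val ha
  -- y = x ^ (4 ^ a)
  have h4 : ∃ b : ℕ, 4 ^ a = 3 * b + 1 := by
    clear ha ha'
    induction a with
    | zero => exact ⟨0, rfl⟩
    | succ a ih =>
      obtain ⟨b, hb⟩ := ih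
      exact ⟨4 * b + 1, by rw [pow_succ, hb]; ring⟩
  obtain ⟨b, hb⟩ := h4
  have hxx : x * x * x = x ^ 3 := by rw [pow_succ, pow_two]
  have hyx : ∀ z ∈ V, x ^ 4 ^ a * z * (x ^ 4 ^ a)⁻¹ = x * z * x⁻¹ := by
    intro z hz
    have e : x ^ 4 ^ a = x * (x ^ 3) ^ b := by rw [hb, ← pow_mul, pow_succ']
    have hc : (x ^ 3) ^ b * z = z * (x ^ 3) ^ b := by
      have := hx3c z hz
      rw [hxx] at this
      exact Commute.pow_left this b
    rw [e]
    calc x * (x ^ 3) ^ b * z * (x * (x ^ 3) ^ b)⁻¹ = x * ((x ^ 3) ^ b * z) * ((x ^ 3) ^ b)⁻¹ * x⁻¹ := by group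
      _ = x * (z * (x ^ 3) ^ b) * ((x ^ 3) ^ b)⁻¹ * x⁻¹ := by rw [hc]
      _ = x * z * x⁻¹ := by group
  refine ⟨u, v, x ^ 4 ^ a, w, hu, hv, hu1, hv1, huv, ?_, ?_, ?_, ?_, hw, hww⟩
  · have e : x ^ 4 ^ a * x ^ 4 ^ a * x ^ 4 ^ a = ((x ^ 3) ^ 2 ^ a) ^ 2 ^ a := by
      rw [← pow_mul, ← pow_mul, ← pow_add, ← pow_add]
      congr 1
      have : (4 : ℕ) ^ a = 2 ^ a * 2 ^ a := by rw [← mul_pow]; norm_num
      rw [this]; ring
    rw [e, ← hxx, ha', one_pow]
  · rw [hyx u hu, hx1]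
  · rw [hyx v hv, hx2]
  · rw [hyx _ (V.mul_mem hu hv), hx3]

end

section Y

variable {u v y w : X} {h : Loc S V} (Y : Y3 h u v y w)

include Y

theorem Y3.fpf {z : X} (hz : z ∈ V) (hzy : y * z * y⁻¹ = z) : z = 1 := by
  rcases h.v_cases Y.hu Y.hv Y.hu1 Y.hv1 Y.huv hz with h1 | h1 | h1 | h1
  · exact h1
  · rw [h1, Y.yu] at hzy; exact absurd hzy.symm Y.huv
  · rw [h1, Y.yv] at hzy; exact absurd (by simpa using hzy) Y.hu1
  · rw [h1, Y.yuv] at hzy
    exact absurd (by simpa using hzy.symm) Y.hv1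

theorem Y3.y3' : y⁻¹ = y * y := (eq_inv_of_mul_eq_one_left Y.y3).symm

/-- the norm on `V` is trivial -/
theorem Y3.norm {z : X} (hz : z ∈ V) : z * (y * z * y⁻¹) = y⁻¹ * z * y := by
  have e : y⁻¹ * z * y = y * (y * z * y⁻¹) * y⁻¹ := by
    have h1 : y = y⁻¹ * y⁻¹ := by
      rw [← mul_inv_rev]; exact eq_inv_of_mul_eq_one_right Y.y3
    have h2 := Y.y3'
    calc y⁻¹ * z * y = (y * y) * z * (y⁻¹ * y⁻¹) := by rw [← h1, ← h2]
      _ = _ := by group
  rw [e]
  rcases h.v_cases Y.hu Y.hv Y.hu1 Y.hv1 Y.huv hz with h1 | h1 | h1 | h1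
  · rw [h1]; group
  · rw [h1, Y.yu, Y.yv]
  · rw [h1, Y.yv, Y.yuv]
    rw [h.v_comm Y.hu Y.hv, ← mul_assoc, h.v2 _ Y.hv, one_mul]
  · rw [h1, Y.yuv, Y.yu]
    calc u * v * u = u * (v * u) := by group
      _ = u * (u * v) := by rw [h.v_comm Y.hu Y.hv]
      _ = (u * u) * v := by group
      _ = v := by rw [h.v2 _ Y.hu, one_mul]

end Y

section main

variable {Z : Subgroup X} {t : X} (h : Loc S V) (hZ : Ab h Z)
  (hself : ∀ g : X, (∀ z ∈ Z, g * z = z * g) → g ∈ Z) (ht : t ∈ S) (ht2 : t * t = 1) (htV : t ∉ V)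
  {u v y w : X} (Y : Y3 h u v y w)

/-- commutators with elements of `W` only depend on the square -/
theorem cc_of_sq (ht : t ∈ S) (ht2 : t * t = 1) (htV : t ∉ V) {a b c : X} (ha : a ∈ h.W) (hb : b ∈ h.W)
    (hc : c ∈ S) (hab : a * a = b * b) : ⁅c, a⁆ = ⁅c, b⁆ := by
  have h1 := h.W_inj ht ht2 htV ha hb hab
  have e : b = a * (a⁻¹ * b) := by group
  have h2 : ⁅c, a⁻¹ * b⁆ = 1 := cc_one.2 (h.vc h1 hc)
  rw [e, h.cc_right (h.W_le ha) (by rw [h2]; exact V.one_mem), h2, mul_one]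

include hZ hself ht ht2 htV Y

theorem yN : S.Normal ∧ (∀ g : X, g ∈ S ∨ y⁻¹ * g ∈ S ∨ y * g ∈ S) := by
  have hS := h.S_eq hZ hself ht ht2 htV
  have hn : S.Normal := by
    rw [hS]; have := h.vn; exact inferInstance
  refine ⟨hn, fun g => ?_⟩
  -- where g sends u
  have hmem : ∀ k : X, k * u * k⁻¹ = u → k ∈ S := by
    intro k hk
    rw [hS, mem_centralizer_iff]
    -- k fixes u, so it fixes V
    have hfix : ∀ z ∈ V, k * z * k⁻¹ = z := by
      have h3 := h.cube k
      have e3 : ∀ z ∈ V, z ≠ 1 → k * (k * (k * z * k⁻¹) * k⁻¹) * k⁻¹ = z := by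
        intro z hz hz1
        have h1 := congrArg (fun σ : Equiv.Perm {v : V // v ≠ 1} =>
          ((σ ⟨⟨z, hz⟩, fun e => hz1 (congrArg Subtype.val e)⟩ : V) : X)) h3
        simp only [Equiv.Perm.mul_apply, Equiv.Perm.one_apply, h.act_apply] at h1
        exact h1
      have hkv : k * v * k⁻¹ = v := by
        have h4 := h.vn.conj_mem _ Y.hv k
        rcases h.v_cases Y.hu Y.hv Y.hu1 Y.hv1 Y.huv h4 with h5 | h5 | h5 | h5
        · exfalso
          apply Y.hv1
          have := congrArg (fun z => k⁻¹ * z * k) h5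
          simpa [mul_assoc] using this
        · exfalso
          apply Y.huv
          have := congrArg (fun z => k⁻¹ * z * k) (hk.trans h5.symm)
          simpa [mul_assoc] using this
        · exact h5
        · exfalso
          have h6 := e3 v Y.hv Y.hv1
          have h7 : k * (u * v) * k⁻¹ = v := by
            calc k * (u * v) * k⁻¹ = (k * u * k⁻¹) * (k * v * k⁻¹) := by group
              _ = u * (u * v) := by rw [hk, h5]
              _ = (u * u) * v := by group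
              _ = v := by rw [h.v2 _ Y.hu, one_mul]
          rw [h5, h7, h5] at h6
          exact Y.hu1 (by simpa using h6)
      intro z hz
      rcases h.v_cases Y.hu Y.hv Y.hu1 Y.hv1 Y.huv hz with h5 | h5 | h5 | h5
      · rw [h5]; group
      · rw [h5]; exact hk
      · rw [h5]; exact hkv
      · rw [h5]
        calc k * (u * v) * k⁻¹ = (k * u * k⁻¹) * (k * v * k⁻¹) := by group
          _ = u * v := by rw [hk, hkv]
    intro z hz
    have h6 := hfix z hz
    rw [mul_inv_eq_iff_eq_mul] at h6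
    exact h6.symm
  have hgu := h.vn.conj_mem _ Y.hu g
  rcases h.v_cases Y.hu Y.hv Y.hu1 Y.hv1 Y.huv hgu with h5 | h5 | h5 | h5
  · exfalso
    apply Y.hu1
    have := congrArg (fun z => g⁻¹ * z * g) h5
    simpa [mul_assoc] using this
  · exact Or.inl (hmem g h5)
  · right; left
    apply hmem
    have e : y⁻¹ * g * u * (y⁻¹ * g)⁻¹ = y⁻¹ * (g * u * g⁻¹) * y := by group
    rw [e, h5, ← Y.yu]; group
  · right; right
    apply hmem
    have e : y * g * u * (y * g)⁻¹ = y * (g * u * g⁻¹) * y⁻¹ := by group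
    rw [e, h5, Y.yuv]

/-- The semilinearity relation. -/
theorem semi {c : X} (hc : c ∈ S) : ⁅c, y * w * y⁻¹⁆ = y⁻¹ * ⁅c, w⁆ * y ∧
    ⁅c, y⁻¹ * w * y⁆ = y * ⁅c, w⁆ * y⁻¹ := by
  obtain ⟨hSn, hcos⟩ := h.yN hZ hself ht ht2 htV Y
  have hyN : y ∈ normalizer (S : Set X) := by
    rw [normalizer_eq_top (H := S)]; exact mem_top y
  have hwW := Y.hw
  have hw2 : y * w * y⁻¹ ∈ h.W := h.W_norm hyN hwW
  have hw3 : y⁻¹ * w * y ∈ h.W := by
    have := h.W_norm (inv_mem hyN) hwW
    rwa [inv_inv] at this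
  have hWV : ∀ a ∈ h.W, ∀ c ∈ S, ⁅c, a⁆ ∈ V := fun a ha c hc => ha.2.2 c hc
  -- the map T
  let T : X → X := fun c => ⁅c, w⁆ * (y⁻¹ * ⁅c, y * w * y⁻¹⁆ * y) * (y * ⁅c, y⁻¹ * w * y⁆ * y⁻¹)
  have hVc1 : ∀ z ∈ V, y * z * y⁻¹ ∈ V := fun z hz => h.vn.conj_mem z hz y
  have hVc2 : ∀ z ∈ V, y⁻¹ * z * y ∈ V := fun z hz => by
    have := h.vn.conj_mem z hz y⁻¹
    rwa [inv_inv] at this
  have hTV : ∀ c ∈ S, T c ∈ V := fun c hc =>
    V.mul_mem (V.mul_mem (hWV _ hwW c hc) (hVc2 _ (hWV _ hw2 c hc))) (hVc1 _ (hWV _ hw3 c hc))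
  have hTmul : ∀ a ∈ S, ∀ b ∈ S, T (a * b) = T a * T b := by
    intro a ha b hb
    have m1 := h.cc_left ha (hWV _ hwW b hb)
    have m2 := h.cc_left ha (hWV _ hw2 b hb)
    have m3 := h.cc_left ha (hWV _ hw3 b hb)
    show ⁅a * b, w⁆ * (y⁻¹ * ⁅a * b, y * w * y⁻¹⁆ * y) * (y * ⁅a * b, y⁻¹ * w * y⁆ * y⁻¹) = _
    rw [m1, m2, m3]
    have a1 := hWV _ hwW a ha
    have a2 := hVc2 _ (hWV _ hw2 a ha)
    have a3 := hVc1 _ (hWV _ hw3 a ha)
    have b1 := hWV _ hwW b hb
    have b2 := hVc2 _ (hWV _ hw2 b hb)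
    have b3 := hVc1 _ (hWV _ hw3 b hb)
    have e2 : y⁻¹ * (⁅b, y * w * y⁻¹⁆ * ⁅a, y * w * y⁻¹⁆) * y =
      (y⁻¹ * ⁅b, y * w * y⁻¹⁆ * y) * (y⁻¹ * ⁅a, y * w * y⁻¹⁆ * y) := by group
    have e3 : y * (⁅b, y⁻¹ * w * y⁆ * ⁅a, y⁻¹ * w * y⁆) * y⁻¹ =
      (y * ⁅b, y⁻¹ * w * y⁆ * y⁻¹) * (y * ⁅a, y⁻¹ * w * y⁆ * y⁻¹) := by group
    rw [e2, e3]
    show _ = (⁅a, w⁆ * (y⁻¹ * ⁅a, y * w * y⁻¹⁆ * y) * (y * ⁅a, y⁻¹ * w * y⁆ * y⁻¹)) *
      (⁅b, w⁆ * (y⁻¹ * ⁅b, y * w * y⁻¹⁆ * y) * (y * ⁅b, y⁻¹ * w * y⁆ * y⁻¹))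
    generalize ⁅a, w⁆ = p1 at *
    generalize y⁻¹ * ⁅a, y * w * y⁻¹⁆ * y = p2 at *
    generalize y * ⁅a, y⁻¹ * w * y⁆ * y⁻¹ = p3 at *
    generalize ⁅b, w⁆ = q1 at *
    generalize y⁻¹ * ⁅b, y * w * y⁻¹⁆ * y = q2 at *
    generalize y * ⁅b, y⁻¹ * w * y⁆ * y⁻¹ = q3 at *
    calc q1 * p1 * (q2 * p2) * (q3 * p3) = (q1 * p1) * (q2 * p2) * (q3 * p3) := rfl
      _ = (p1 * q1) * (p2 * q2) * (p3 * q3) := by
          rw [h.v_comm b1 a1, h.v_comm b2 a2, h.v_comm b3 a3]
      _ = p1 * (q1 * (p2 * q2)) * (p3 * q3) := by group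
      _ = p1 * ((p2 * q2) * q1) * (p3 * q3) := by rw [h.v_comm b1 (V.mul_mem a2 b2)]
      _ = p1 * p2 * (q2 * q1 * p3) * q3 := by group
      _ = p1 * p2 * (p3 * (q2 * q1)) * q3 := by rw [h.v_comm (V.mul_mem b2 b1) a3]
      _ = p1 * p2 * p3 * (q2 * q1) * q3 := by group
      _ = p1 * p2 * p3 * (q1 * q2) * q3 := by rw [h.v_comm b2 b1]
      _ = p1 * p2 * p3 * (q1 * q2 * q3) := by group
  have hyy : y⁻¹ = y * y := Y.y3'
  have hTy : ∀ c : X, T (y * c * y⁻¹) = (y * ⁅c, y⁻¹ * w * y⁆ * y⁻¹) * ⁅c, w⁆ * (y⁻¹ * ⁅c, y * w * y⁻¹⁆ * y) := by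
    intro c
    show ⁅y * c * y⁻¹, w⁆ * (y⁻¹ * ⁅y * c * y⁻¹, y * w * y⁻¹⁆ * y) * (y * ⁅y * c * y⁻¹, y⁻¹ * w * y⁆ * y⁻¹) = _
    have e1 : ⁅y * c * y⁻¹, w⁆ = y * ⁅c, y⁻¹ * w * y⁆ * y⁻¹ := by simp only [commutatorElement_def]; group
    have e2 : y⁻¹ * ⁅y * c * y⁻¹, y * w * y⁻¹⁆ * y = ⁅c, w⁆ := by simp only [commutatorElement_def]; group
    have e3 : y * ⁅y * c * y⁻¹, y⁻¹ * w * y⁆ * y⁻¹ = y⁻¹ * ⁅c, y * w * y⁻¹⁆ * y := by
      have e4 : y * ⁅y * c * y⁻¹, y⁻¹ * w * y⁆ * y⁻¹ = (y * y) * ⁅c, (y * y)⁻¹ * w * (y * y)⁆ * (y * y)⁻¹ := by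
        simp only [commutatorElement_def]; group
      rw [e4, ← hyy, inv_inv]
    rw [e1, e2, e3]
  have hTy' : ∀ c ∈ S, T (y * c * y⁻¹) = T c := by
    intro c hc
    rw [hTy c]
    have p1 := hWV _ hwW c hc
    have p2 := hVc2 _ (hWV _ hw2 c hc)
    have p3 := hVc1 _ (hWV _ hw3 c hc)
    show _ = ⁅c, w⁆ * (y⁻¹ * ⁅c, y * w * y⁻¹⁆ * y) * (y * ⁅c, y⁻¹ * w * y⁆ * y⁻¹)
    rw [mul_assoc, h.v_comm p3 (V.mul_mem p1 p2)]
  have hTs : ∀ s ∈ S, ∀ c ∈ S, T (s * c * s⁻¹) = T c := by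
    intro s hs c hc
    have h1 : T (s * c * s⁻¹) * T s = T s * T c := by
      rw [← hTmul _ (hSn.conj_mem c hc s) _ hs, ← hTmul _ hs _ hc]
      congr 1; group
    rw [h.v_comm (hTV s hs) (hTV c hc)] at h1
    exact mul_right_cancel h1
  have hTg : ∀ g : X, ∀ c ∈ S, T (g * c * g⁻¹) = T c := by
    intro g c hc
    rcases hcos g with hg | hg | hg
    · exact hTs g hg c hc
    · have e : g * c * g⁻¹ = y * ((y⁻¹ * g) * c * (y⁻¹ * g)⁻¹) * y⁻¹ := by group
      rw [e, hTy' _ (hSn.conj_mem c hc _), hTs _ hg c hc]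
    · have h1 := hTs _ hg c hc
      have e : (y * g) * c * (y * g)⁻¹ = y * (g * c * g⁻¹) * y⁻¹ := by group
      rw [e, hTy' _ (hSn.conj_mem c hc g)] at h1
      exact h1
  -- T is trivial
  have hT2 : ∀ v' ∈ V, v' ≠ 1 → ∀ c ∈ S, T c = 1 ∨ T c = v' := by
    intro v' hv' hv'1
    have hT1 : T 1 = 1 := by
      have := hTmul 1 S.one_mem 1 S.one_mem
      rw [mul_one] at this
      exact (mul_eq_left.1 this.symm)
    let C : Subgroup X :=
      { carrier := {c | c ∈ S ∧ (T c = 1 ∨ T c = v')}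
        one_mem' := ⟨S.one_mem, Or.inl hT1⟩
        mul_mem' := by
          rintro a b ⟨ha, ha1⟩ ⟨hb, hb1⟩
          refine ⟨S.mul_mem ha hb, ?_⟩
          rw [hTmul a ha b hb]
          rcases ha1 with h2 | h2 <;> rcases hb1 with h3 | h3
          · left; rw [h2, h3, one_mul]
          · right; rw [h2, h3, one_mul]
          · right; rw [h2, h3, mul_one]
          · left; rw [h2, h3]; exact h.v2 _ hv'
        inv_mem' := by
          rintro a ⟨ha, ha1⟩
          refine ⟨S.inv_mem ha, ?_⟩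
          have h2 := hTmul a ha a⁻¹ (S.inv_mem ha)
          rw [mul_inv_cancel, hT1] at h2
          have h3 := (inv_eq_of_mul_eq_one_right h2.symm).symm
          rw [h3, h.v_inv (hTV a ha)]
          exact ha1 }
    have hCn : C.Normal := by
      refine ⟨?_⟩
      rintro c ⟨hc, hc1⟩ g
      exact ⟨hSn.conj_mem c hc g, by rw [hTg g c hc]; exact hc1⟩
    obtain ⟨P, hP⟩ := h.syl
    have hle : (P : Subgroup X) ≤ C := by
      refine le_of_idx h.noIdx P C hCn ?_
      intro s hs s' hs' hsC hs'C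
      rw [hP] at hs hs'
      refine ⟨S.mul_mem hs hs', ?_⟩
      rw [hTmul s hs s' hs']
      have hs1 : T s ≠ 1 ∧ T s ≠ v' := by
        constructor
        · intro e; exact hsC ⟨hs, Or.inl e⟩
        · intro e; exact hsC ⟨hs, Or.inr e⟩
      have hs'1 : T s' ≠ 1 ∧ T s' ≠ v' := by
        constructor
        · intro e; exact hs'C ⟨hs', Or.inl e⟩
        · intro e; exact hs'C ⟨hs', Or.inr e⟩
      rcases h.v_cases (hTV s hs) hv' hs1.1 hv'1 hs1.2 (hTV s' hs') with h4 | h4 | h4 | h4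
      · exact absurd h4 hs'1.1
      · left; rw [h4]; exact h.v2 _ (hTV s hs)
      · exact absurd h4 hs'1.2
      · right; rw [h4, ← mul_assoc, h.v2 _ (hTV s hs), one_mul]
    intro c hc
    rw [hP] at hle
    exact (hle hc).2
  have hT : ∀ c ∈ S, T c = 1 := by
    intro c hc
    rcases hT2 u Y.hu Y.hu1 c hc with h1 | h1
    · exact h1
    · rcases hT2 v Y.hv Y.hv1 c hc with h2 | h2
      · exact h2
      · exact absurd (h1.symm.trans h2) Y.huv
  -- w₁ w₂ ≡ w₃ modulo V
  have hT1 := hT c hc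
  have p1 := hWV _ hwW c hc
  have p2 := hWV _ hw2 c hc
  have p3 := hWV _ hw3 c hc
  have hsq2 : (y * w * y⁻¹) * (y * w * y⁻¹) = v := by
    rw [← Y.yu, ← Y.ww]; group
  have hsq3 : (y⁻¹ * w * y) * (y⁻¹ * w * y) = u * v := by
    have e : (y⁻¹ * w * y) * (y⁻¹ * w * y) = y⁻¹ * u * y := by rw [← Y.ww]; group
    rw [e, ← Y.norm Y.hu, Y.yu]
  have h13 : ⁅c, y⁻¹ * w * y⁆ = ⁅c, w⁆ * ⁅c, y * w * y⁻¹⁆ := by
    have h1 : ⁅c, y⁻¹ * w * y⁆ = ⁅c, w * (y * w * y⁻¹)⁆ := by
      refine h.cc_of_sq ht ht2 htV hw3 ((h.W).mul_mem hwW hw2) hc ?_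
      rw [hsq3]
      have hab := h.W_ab ht ht2 htV hwW hw2
      calc u * v = (w * w) * ((y * w * y⁻¹) * (y * w * y⁻¹)) := by rw [Y.ww, hsq2]
        _ = w * (w * (y * w * y⁻¹)) * (y * w * y⁻¹) := by group
        _ = w * ((y * w * y⁻¹) * w) * (y * w * y⁻¹) := by rw [hab]
        _ = _ := by group
    rw [h1, h.cc_right (h.W_le hwW) p2]
  have hT1' : ⁅c, w⁆ * (y⁻¹ * ⁅c, y * w * y⁻¹⁆ * y) * (y * ⁅c, y⁻¹ * w * y⁆ * y⁻¹) = 1 := hT1
  rw [h13] at hT1' ⊢
  generalize ⁅c, w⁆ = p at *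
  generalize ⁅c, y * w * y⁻¹⁆ = q at *
  -- p · q^{y⁻¹} · p^y q^y = 1, q q^y = q^{y⁻¹}
  have n2 := Y.norm p2
  have n1 := Y.norm p1
  have hpq : p * (y * p * y⁻¹) * q = 1 := by
    have e : p * (y⁻¹ * q * y) * (y * (p * q) * y⁻¹) = p * ((y⁻¹ * q * y) * (y * p * y⁻¹)) * (y * q * y⁻¹) := by group
    rw [e, h.v_comm (hVc2 _ p2) (hVc1 _ p1), ← n2] at hT1'
    calc p * (y * p * y⁻¹) * q = p * (y * p * y⁻¹) * q * ((y * q * y⁻¹) * (y * q * y⁻¹)) := by
          rw [h.v2 _ (hVc1 _ p2), mul_one]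
      _ = p * ((y * p * y⁻¹) * (q * (y * q * y⁻¹))) * (y * q * y⁻¹) := by group
      _ = 1 := hT1'
  rw [n1] at hpq
  have hq : q = y⁻¹ * p * y := by
    have := (inv_eq_of_mul_eq_one_right hpq).symm
    rw [this, h.v_inv (hVc2 _ p1)]
  refine ⟨hq, ?_⟩
  rw [hq, ← n1]
  rw [← mul_assoc, h.v2 _ p1, one_mul]

end main

end Loc

end Cfsg.Agent.H285.Fs
end

-- part: H285/FsH
section
/-!
# The constrained case is impossible: end
-/

set_option autoImplicit false
set_option linter.unusedSectionVars false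

open Subgroup
open scoped commutatorElement

namespace Cfsg.Agent.H285.Fs

variable {X : Type*} [Group X] [Finite X] {S V : Subgroup X}

namespace Loc

variable {Z : Subgroup X} {t : X} (h : Loc S V) (hZ : Ab h Z)
  (hself : ∀ g : X, (∀ z ∈ Z, g * z = z * g) → g ∈ Z) (ht : t ∈ S) (ht2 : t * t = 1) (htV : t ∉ V)
  {u v y w : X} (Y : Y3 h u v y w)

theorem t_inv (ht2 : t * t = 1) (z : X) : t * ⁅t, z⁆ * t⁻¹ = ⁅t, z⁆⁻¹ := by
  have e : t * ⁅t, z⁆ * t⁻¹ = (t * t) * z * (t * t)⁻¹ * (t * z⁻¹ * t⁻¹) := by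
    rw [commutatorElement_def]; group
  rw [e, ht2, inv_one, mul_one, one_mul, commutatorElement_def]
  group

include hZ ht ht2 htV

/-- elements of `W` are squares of elements of `Z` if `Z ≠ W` -/
theorem W_le_Sq (hne : ∃ z ∈ Z, z ∉ h.W) : h.W ≤ h.Sq hZ := by
  obtain ⟨z, hz, hzW, hz2, _⟩ := exists_mid' h.isP hZ.ZS (fun s hs a ha => h.W_norm (Subgroup.le_normalizer hs) ha)
    (fun s _ a ha => hZ.n.conj_mem a ha s) hne
  refine h.W_le_of ht ht2 htV (fun x _ m hm => (h.Sq_normal hZ).conj_mem m hm x) (h.V_le_Sq hZ ht ht2 htV)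
    ⟨z * z, ⟨z, hz, rfl⟩, hz2, fun e => hzW (h.mem_W_of_sq hZ ht ht2 htV hz e)⟩

include hself Y

theorem t_cent_W (hne : ∃ z ∈ Z, z ∉ h.W) {a : X} (ha : a ∈ h.W) : ⁅t, a⁆ = 1 := by
  obtain ⟨hSn, _⟩ := h.yN hZ hself ht ht2 htV Y
  have hWS := h.W_le_Sq hZ ht ht2 htV hne
  have hyN : y ∈ normalizer (S : Set X) := by
    rw [normalizer_eq_top (H := S)]; exact mem_top y
  have hwW := Y.hw
  have hw2 : y * w * y⁻¹ ∈ h.W := h.W_norm hyN hwW
  have hw3 : y⁻¹ * w * y ∈ h.W := by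
    have := h.W_norm (inv_mem hyN) hwW
    rwa [inv_inv] at this
  have hsq2 : (y * w * y⁻¹) * (y * w * y⁻¹) = v := by
    rw [← Y.yu, ← Y.ww]; group
  have hsq3 : (y⁻¹ * w * y) * (y⁻¹ * w * y) = u * v := by
    have e : (y⁻¹ * w * y) * (y⁻¹ * w * y) = y⁻¹ * u * y := by rw [← Y.ww]; group
    rw [e, ← Y.norm Y.hu, Y.yu]
  -- for every a ∈ W there is r ∈ W with r² = [t, a] = [t, r]
  have key : ∀ a ∈ h.W, ∃ r ∈ h.W, r * r = ⁅t, a⁆ ∧ ⁅t, r⁆ = ⁅t, a⁆ := by
    intro a ha
    obtain ⟨z, hz, hza⟩ := hWS ha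
    have hr : ⁅t, z⁆ ∈ Z := by
      have e : ⁅t, z⁆ = (t * z * t⁻¹) * z⁻¹ := rfl
      rw [e]; exact Z.mul_mem (hZ.n.conj_mem z hz t) (Z.inv_mem hz)
    have h1 : ⁅t, z⁆ * ⁅t, z⁆ = ⁅t, a⁆ := by
      have e : ⁅t, z * z⁆ = ⁅t, z⁆ * (z * ⁅t, z⁆ * z⁻¹) := by simp only [commutatorElement_def]; group
      rw [← hza, e, hZ.ab z hz _ hr, mul_inv_cancel_right]
    have h2 : ⁅t, a⁆ ∈ V := ha.2.2 t ht
    have h3 := h.mem_W_of_sq hZ ht ht2 htV hr (h1 ▸ h2)
    refine ⟨⁅t, z⁆, h3, h1, ?_⟩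
    have h4 := t_inv ht2 z
    have e : ⁅t, ⁅t, z⁆⁆ = (t * ⁅t, z⁆ * t⁻¹) * ⁅t, z⁆⁻¹ := rfl
    rw [e, h4, ← mul_inv_rev, h1, h.v_inv h2]
  -- μ
  obtain ⟨s2, s3⟩ := h.semi hZ hself ht ht2 htV Y ht
  have hp : ⁅t, w⁆ ∈ V := hwW.2.2 t ht
  have sqmu : ∀ r ∈ h.W, (r * r = u → ⁅t, r⁆ = ⁅t, w⁆) ∧ (r * r = v → ⁅t, r⁆ = ⁅t, y * w * y⁻¹⁆) ∧
      (r * r = u * v → ⁅t, r⁆ = ⁅t, y⁻¹ * w * y⁆) := by
    intro r hr
    refine ⟨fun e => ?_, fun e => ?_, fun e => ?_⟩
    · exact h.cc_of_sq ht ht2 htV hr hwW ht (e.trans Y.ww.symm)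
    · exact h.cc_of_sq ht ht2 htV hr hw2 ht (e.trans hsq2.symm)
    · exact h.cc_of_sq ht ht2 htV hr hw3 ht (e.trans hsq3.symm)
  have hyiu : y⁻¹ * u * y = u * v := by rw [← Y.norm Y.hu, Y.yu]
  have hyiv : y⁻¹ * v * y = u := by rw [← Y.yu]; group
  have hyiuv : y⁻¹ * (u * v) * y = v := by rw [← Y.yv]; group
  have huvu : u * v ≠ u := by intro e; exact Y.hv1 (by simpa using e)
  have huvv : u * v ≠ v := by intro e; exact Y.hu1 (by simpa using e)
  have hp1 : ⁅t, w⁆ = 1 := by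
    rcases h.v_cases Y.hu Y.hv Y.hu1 Y.hv1 Y.huv hp with h1 | h1 | h1 | h1
    · exact h1
    · -- μ(u) = u, μ(v) = uv, μ(uv) = v
      exfalso
      rw [h1] at s2 s3
      rw [hyiu] at s2
      rw [Y.yu] at s3
      obtain ⟨r, hr, hrr, hrt⟩ := key _ hw2
      rw [s2] at hrr hrt
      have := (sqmu r hr).2.2 hrr
      rw [s3, hrt] at this
      exact huvv this
    · -- μ(u) = v, μ(v) = u
      exfalso
      rw [h1] at s2 s3
      rw [hyiv] at s2
      obtain ⟨r, hr, hrr, hrt⟩ := key _ hwW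
      rw [h1] at hrr hrt
      have := (sqmu r hr).2.1 hrr
      rw [s2, hrt] at this
      exact Y.huv this.symm
    · -- μ(u) = uv, μ(uv) = u
      exfalso
      rw [h1] at s2 s3
      rw [Y.yuv] at s3
      obtain ⟨r, hr, hrr, hrt⟩ := key _ hwW
      rw [h1] at hrr hrt
      have := (sqmu r hr).2.2 hrr
      rw [s3, hrt] at this
      exact huvu this
  rw [hp1] at s2 s3
  have s2' : ⁅t, y * w * y⁻¹⁆ = 1 := by rw [s2]; group
  have s3' : ⁅t, y⁻¹ * w * y⁆ = 1 := by rw [s3]; group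
  rcases h.v_cases Y.hu Y.hv Y.hu1 Y.hv1 Y.huv ha.2.1 with h1 | h1 | h1 | h1
  · exact cc_one.2 (h.vc (h.W_sq_one ha h1) ht)
  · rw [(sqmu a ha).1 h1, hp1]
  · rw [(sqmu a ha).2.1 h1, s2']
  · rw [(sqmu a ha).2.2 h1, s3']

theorem tZ {z : X} (hz : z ∈ Z) : ⁅t, z⁆ ∈ V := by
  by_cases hne : ∃ z ∈ Z, z ∉ h.W
  · obtain ⟨hSn, _⟩ := h.yN hZ hself ht ht2 htV Y
    have key : ∀ k : ℕ, ∀ r ∈ Z, r ^ 2 ^ k = 1 → t * r * t⁻¹ = r⁻¹ → r ∈ V := by
      intro k
      induction k with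
      | zero =>
        intro r _ hr1 _
        rw [pow_zero, pow_one] at hr1
        rw [hr1]; exact V.one_mem
      | succ k ih =>
        intro r hr hr1 hrt
        have h1 : r * r ∈ V := by
          refine ih (r * r) (Z.mul_mem hr hr) ?_ ?_
          · rw [← pow_two, ← pow_mul, ← pow_succ']; exact hr1
          · calc t * (r * r) * t⁻¹ = (t * r * t⁻¹) * (t * r * t⁻¹) := by group
              _ = (r * r)⁻¹ := by rw [hrt, mul_inv_rev]
        have h2 := h.mem_W_of_sq hZ ht ht2 htV hr h1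
        have h3 := cc_one.1 (h.t_cent_W hZ hself ht ht2 htV Y hne h2)
        rw [h3, mul_inv_cancel_right] at hrt
        refine h.W_sq_one h2 ?_
        calc r * r = r * r⁻¹ := by rw [← hrt]
          _ = 1 := mul_inv_cancel r
    have hr : ⁅t, z⁆ ∈ Z := by
      have e : ⁅t, z⁆ = (t * z * t⁻¹) * z⁻¹ := rfl
      rw [e]; exact Z.mul_mem (hZ.n.conj_mem z hz t) (Z.inv_mem hz)
    obtain ⟨k, hk⟩ := h.isP ⟨_, hZ.ZS hr⟩
    exact key k _ hr (congrArg Subtype.val hk) (t_inv ht2 z)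
  · push Not at hne
    exact (hne z hz).2.2 t ht

omit hself ht ht2 htV in
theorem y_fix {z : X} (hz : z ∈ Z) (hzy : y * z * y⁻¹ = z) : z = 1 := by
  have key : ∀ k : ℕ, ∀ r ∈ Z, r ^ 2 ^ k = 1 → y * r * y⁻¹ = r → r = 1 := by
    intro k
    induction k with
    | zero => intro r _ hr1 _; rwa [pow_zero, pow_one] at hr1
    | succ k ih =>
      intro r hr hr1 hry
      have h1 : r * r = 1 := by
        refine ih (r * r) (Z.mul_mem hr hr) ?_ ?_
        · rw [← pow_two, ← pow_mul, ← pow_succ']; exact hr1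
        · calc y * (r * r) * y⁻¹ = (y * r * y⁻¹) * (y * r * y⁻¹) := by group
            _ = r * r := by rw [hry]
      exact Y.fpf (hZ.om hr h1) hry
  obtain ⟨k, hk⟩ := h.isP ⟨z, hZ.ZS hz⟩
  exact key k z hz (congrArg Subtype.val hk) hzy

omit hself ht ht2 htV in
theorem y_norm {z : X} (hz : z ∈ Z) : z * (y * z * y⁻¹) * (y⁻¹ * z * y) = 1 := by
  have z1 := hZ.n.conj_mem z hz y
  have z2 : y⁻¹ * z * y ∈ Z := by
    have := hZ.n.conj_mem z hz y⁻¹
    rwa [inv_inv] at this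
  refine h.y_fix hZ Y (Z.mul_mem (Z.mul_mem hz z1) z2) ?_
  have hyy := Y.y3'
  have h1 : y = y⁻¹ * y⁻¹ := by
    rw [← mul_inv_rev]; exact eq_inv_of_mul_eq_one_right Y.y3
  have e : y * (z * (y * z * y⁻¹) * (y⁻¹ * z * y)) * y⁻¹ = (y * z * y⁻¹) * ((y * y) * z * (y * y)⁻¹) * z := by
    group
  have e2 : (y * y)⁻¹ = y := by rw [← hyy, inv_inv]
  rw [e, e2, ← hyy, mul_assoc, hZ.ab _ z2 _ hz, hZ.ab _ z1 _ (Z.mul_mem hz z2), mul_assoc, hZ.ab _ z2 _ z1,
    ← mul_assoc]

/-- `[Z, S]` is contained in the squares of `Z`. -/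
theorem Z_S_Sq {s z : X} (hs : s ∈ S) (hz : z ∈ Z) : ⁅s, z⁆ ∈ h.Sq hZ := by
  obtain ⟨hSn, _⟩ := h.yN hZ hself ht ht2 htV Y
  have hSqn := h.Sq_normal hZ
  have hSqle := h.Sq_le hZ
  let B : Subgroup X :=
    { carrier := {z | z ∈ Z ∧ ∀ s ∈ S, ⁅s, z⁆ ∈ h.Sq hZ}
      one_mem' := ⟨Z.one_mem, fun s _ => by rw [commutatorElement_one_right]; exact (h.Sq hZ).one_mem⟩
      mul_mem' := by
        rintro a b ⟨ha, ha1⟩ ⟨hb, hb1⟩
        refine ⟨Z.mul_mem ha hb, fun s hs => ?_⟩
        have e : ⁅s, a * b⁆ = ⁅s, a⁆ * (a * ⁅s, b⁆ * a⁻¹) := by simp only [commutatorElement_def]; group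
        rw [e]; exact (h.Sq hZ).mul_mem (ha1 s hs) (hSqn.conj_mem _ (hb1 s hs) a)
      inv_mem' := by
        rintro a ⟨ha, ha1⟩
        refine ⟨Z.inv_mem ha, fun s hs => ?_⟩
        have e : ⁅s, a⁻¹⁆ = a⁻¹ * (⁅s, a⁆)⁻¹ * a⁻¹⁻¹ := by simp only [commutatorElement_def]; group
        rw [e]; exact hSqn.conj_mem _ ((h.Sq hZ).inv_mem (ha1 s hs)) _ }
  have hBn : B.Normal := by
    refine ⟨?_⟩
    rintro a ⟨ha, ha1⟩ g
    refine ⟨hZ.n.conj_mem a ha g, fun s hs => ?_⟩
    have e : ⁅s, g * a * g⁻¹⁆ = g * ⁅g⁻¹ * s * g⁻¹⁻¹, a⁆ * g⁻¹ := by simp only [commutatorElement_def]; group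
    rw [e]; exact hSqn.conj_mem _ (ha1 _ (hSn.conj_mem s hs g⁻¹)) g
  have hBZ : B ≤ Z := fun a ha => ha.1
  -- Z ≠ Sq
  have hZSq : ∃ z ∈ Z, z ∉ h.Sq hZ := by
    by_contra hcon
    push Not at hcon
    have h1 : Z ≤ h.Sq hZ := hcon
    -- the square map of Z is then injective
    have hfin : Function.Surjective (fun z : Z => (⟨(z : X) * z, Z.mul_mem z.2 z.2⟩ : Z)) := by
      intro z
      obtain ⟨a, ha, haz⟩ := h1 z.2
      exact ⟨⟨a, ha⟩, Subtype.ext haz⟩
    have hinj := Finite.injective_iff_surjective.2 hfin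
    have := @hinj ⟨u, hZ.VZ Y.hu⟩ 1 (Subtype.ext (by
      show u * u = 1 * 1
      rw [h.v2 u Y.hu, one_mul]))
    exact Y.hu1 (congrArg Subtype.val this)
  obtain ⟨z0, hz0, hz0Sq, _, hz0c⟩ := exists_mid' h.isP hZ.ZS (fun s _ a ha => hSqn.conj_mem a ha s)
    (fun s _ a ha => hZ.n.conj_mem a ha s) hZSq
  have hz0B : z0 ∈ B := ⟨hz0, hz0c⟩
  have hz1B : y * z0 * y⁻¹ ∈ B := hBn.conj_mem _ hz0B y
  have hz00 : z0 * z0 ∈ h.Sq hZ := ⟨z0, hz0, rfl⟩
  have hz1 : z0⁻¹ * (y * z0 * y⁻¹) ∉ h.Sq hZ := by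
    intro hcon
    apply hz0Sq
    -- z0³ ∈ Sq
    have c1 := hSqn.conj_mem _ hcon y
    have c2 := hSqn.conj_mem _ hcon y⁻¹
    have e1 : y * (z0⁻¹ * (y * z0 * y⁻¹)) * y⁻¹ = (y * z0 * y⁻¹)⁻¹ * ((y * y) * z0 * (y * y)⁻¹) := by group
    have e2 : (y * y) * z0 * (y * y)⁻¹ = y⁻¹ * z0 * y := by rw [← Y.y3', inv_inv]
    rw [e1, e2] at c1
    have hn := h.y_norm hZ Y hz0
    have zy := hZ.n.conj_mem z0 hz0 y
    have zyi : y⁻¹ * z0 * y ∈ Z := by
      have := hZ.n.conj_mem z0 hz0 y⁻¹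
      rwa [inv_inv] at this
    generalize hA : y * z0 * y⁻¹ = A at *
    generalize hBB : y⁻¹ * z0 * y = B' at *
    -- hcon : z0⁻¹ A ∈ Sq, c1 : A⁻¹ B' ∈ Sq, hn : z0 A B' = 1
    have h3 : (z0⁻¹ * A) * (z0⁻¹ * A) * (A⁻¹ * B') ∈ h.Sq hZ :=
      (h.Sq hZ).mul_mem ((h.Sq hZ).mul_mem hcon hcon) c1
    have h4 : (z0⁻¹ * A) * (z0⁻¹ * A) * (A⁻¹ * B') = z0⁻¹ * z0⁻¹ * z0⁻¹ := by
      have q1 := hZ.ab A zy z0⁻¹ (Z.inv_mem hz0)
      calc (z0⁻¹ * A) * (z0⁻¹ * A) * (A⁻¹ * B') = z0⁻¹ * (A * z0⁻¹) * B' := by group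
        _ = z0⁻¹ * (z0⁻¹ * A) * B' := by rw [q1]
        _ = z0⁻¹ * z0⁻¹ * z0⁻¹ * (z0 * A * B') := by group
        _ = z0⁻¹ * z0⁻¹ * z0⁻¹ := by rw [hn, mul_one]
    rw [h4] at h3
    have h5 := (h.Sq hZ).mul_mem hz00 h3
    have h6 : z0 * z0 * (z0⁻¹ * z0⁻¹ * z0⁻¹) = z0⁻¹ := by group
    rw [h6] at h5
    exact (h.Sq hZ).inv_mem_iff.1 h5
  let A1 : Subgroup X :=
    { carrier := {z | z ∈ h.Sq hZ ∨ z0⁻¹ * z ∈ h.Sq hZ}
      one_mem' := Or.inl (h.Sq hZ).one_mem
      mul_mem' := by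
        have hle : ∀ z, z ∈ h.Sq hZ ∨ z0⁻¹ * z ∈ h.Sq hZ → z ∈ Z := by
          rintro z (hz | hz)
          · exact hSqle hz
          · have := Z.mul_mem hz0 (hSqle hz)
            rwa [mul_inv_cancel_left] at this
        rintro a b (ha | ha) (hb | hb)
        · exact Or.inl ((h.Sq hZ).mul_mem ha hb)
        · refine Or.inr ?_
          have h1 := hZ.ab _ (hSqle ha) _ (hle b (Or.inr hb))
          rw [h1, ← mul_assoc]
          exact (h.Sq hZ).mul_mem hb ha
        · refine Or.inr ?_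
          rw [← mul_assoc]
          exact (h.Sq hZ).mul_mem ha hb
        · refine Or.inl ?_
          have h1 := hZ.ab _ (hle a (Or.inr ha)) _ (Z.inv_mem hz0)
          have e : a * b = (z0 * z0) * ((z0⁻¹ * a) * (z0⁻¹ * b)) := by
            calc a * b = z0 * (z0⁻¹ * a) * z0 * (z0⁻¹ * b) := by group
              _ = z0 * ((z0⁻¹ * a) * z0) * (z0⁻¹ * b) := by group
              _ = z0 * (z0 * (z0⁻¹ * a)) * (z0⁻¹ * b) := by rw [hZ.ab _ (hSqle ha) _ hz0]
              _ = _ := by group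
          rw [e]
          exact (h.Sq hZ).mul_mem hz00 ((h.Sq hZ).mul_mem ha hb)
      inv_mem' := by
        rintro a (ha | ha)
        · exact Or.inl ((h.Sq hZ).inv_mem ha)
        · refine Or.inr ?_
          have e : z0⁻¹ * a⁻¹ = (z0 * z0)⁻¹ * (z0 * (z0⁻¹ * a)⁻¹ * z0⁻¹) := by group
          rw [e]
          exact (h.Sq hZ).mul_mem ((h.Sq hZ).inv_mem hz00) (hSqn.conj_mem _ ((h.Sq hZ).inv_mem ha) z0) }
  have hSqB : h.Sq hZ ≤ B := fun a ha => ⟨hSqle ha, fun s _ => by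
    have e : ⁅s, a⁆ = (s * a * s⁻¹) * a⁻¹ := rfl
    rw [e]; exact (h.Sq hZ).mul_mem (hSqn.conj_mem a ha s) ((h.Sq hZ).inv_mem ha)⟩
  have c1 := two_mul_card_le (A := h.Sq hZ) (B := A1) (fun a ha => Or.inl ha) (by
    intro e
    exact hz0Sq (e ▸ (Or.inr (by show z0⁻¹ * z0 ∈ _; rw [inv_mul_cancel]; exact (h.Sq hZ).one_mem) : z0 ∈ A1)))
  have c2 := two_mul_card_le (A := A1) (B := B) (by
    rintro a (ha | ha)
    · exact hSqB ha
    · have := B.mul_mem hz0B (hSqB ha)
      rwa [mul_inv_cancel_left] at this) (by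
    intro e
    rw [← e] at hz1B
    rcases hz1B with h1 | h1
    · have h2 := hSqn.conj_mem _ h1 y⁻¹
      have e3 : y⁻¹ * (y * z0 * y⁻¹) * y⁻¹⁻¹ = z0 := by group
      rw [e3] at h2
      exact hz0Sq h2
    · exact hz1 h1)
  have c3 := h.card_Z_le hZ
  have hBe : B = Z := Subgroup.eq_of_le_of_card_ge hBZ (by omega)
  rw [← hBe] at hz
  exact hz.2 s hs

/-- `[S, t] ≤ Z`. -/
theorem S_t {s : X} (hs : s ∈ S) : ⁅s, t⁆ ∈ Z := by
  refine hself _ (fun z hz => ?_)
  rw [← cc_one]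
  have hsi : s⁻¹ * z * s ∈ Z := by
    have := hZ.n.conj_mem z hz s⁻¹
    rwa [inv_inv] at this
  have htV' : ∀ z ∈ Z, ⁅t, z⁆ ∈ V := fun z hz => h.tZ hZ hself ht ht2 htV Y hz
  -- [s t s⁻¹, z] = [t, z]
  have h1 : ⁅s * t * s⁻¹, z⁆ = ⁅t, z⁆ := by
    have e : ⁅s * t * s⁻¹, z⁆ = s * ⁅t, s⁻¹ * z * s⁆ * s⁻¹ := by simp only [commutatorElement_def]; group
    rw [e, h.vc (htV' _ hsi) hs, mul_inv_cancel_right]
    -- s⁻¹ z s = z · (square)
    have h2 := h.Z_S_Sq hZ hself ht ht2 htV Y (S.inv_mem hs) hz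
    obtain ⟨a, ha, haz⟩ := h2
    have h3 : s⁻¹ * z * s = (a * a) * z := by rw [haz, commutatorElement_def]; group
    have h4 : ⁅t, a * a⁆ = 1 := by
      rw [h.cc_right (hZ.ZS ha) (htV' a ha), h.v2 _ (htV' a ha)]
    rw [h3, h.cc_right (hZ.ZS (Z.mul_mem ha ha)) (htV' z hz), h4, one_mul]
  have hti : t⁻¹ = t := inv_eq_of_mul_eq_one_left ht2
  have e : ⁅s, t⁆ = (s * t * s⁻¹) * t := by rw [commutatorElement_def, hti]
  have hsts : s * t * s⁻¹ ∈ S := S.mul_mem (S.mul_mem hs ht) (S.inv_mem hs)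
  rw [e, h.cc_left hsts (htV' z hz), h1, h.v2 _ (htV' z hz)]

/-- The constrained case is impossible. -/
theorem contra : False := by
  obtain ⟨hSn, _⟩ := h.yN hZ hself ht ht2 htV Y
  have hti : t⁻¹ = t := inv_eq_of_mul_eq_one_left ht2
  -- c = [s, t] is in W
  have hcW : ∀ s ∈ S, ⁅s, t⁆ ∈ h.W ∧ t * ⁅s, t⁆ * t⁻¹ = ⁅s, t⁆⁻¹ := by
    intro s hs
    have hc := h.S_t hZ hself ht ht2 htV Y hs
    have e : s * t * s⁻¹ = ⁅s, t⁆ * t := by rw [commutatorElement_def]; group
    have h1 : (⁅s, t⁆ * t) * (⁅s, t⁆ * t) = 1 := by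
      rw [← e]
      calc s * t * s⁻¹ * (s * t * s⁻¹) = s * (t * t) * s⁻¹ := by group
        _ = 1 := by rw [ht2]; group
    have h2 : t * ⁅s, t⁆ * t⁻¹ = ⁅s, t⁆⁻¹ := by
      rw [hti]
      refine (inv_eq_of_mul_eq_one_right ?_).symm
      rw [← h1]; group
    refine ⟨?_, h2⟩
    have h3 := h.tZ hZ hself ht ht2 htV Y hc
    have e2 : ⁅t, ⁅s, t⁆⁆ = (t * ⁅s, t⁆ * t⁻¹) * ⁅s, t⁆⁻¹ := rfl
    rw [e2, h2, ← mul_inv_rev] at h3
    exact h.mem_W_of_sq hZ ht ht2 htV hc (V.inv_mem_iff.1 h3)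
  refine htV (h.kill ht ht2 (fun s hs => ?_))
  by_cases hne : ∃ z ∈ Z, z ∉ h.W
  · obtain ⟨h1, h2⟩ := hcW s hs
    have h3 := cc_one.1 (h.t_cent_W hZ hself ht ht2 htV Y hne h1)
    rw [h3, mul_inv_cancel_right] at h2
    refine h.W_sq_one h1 ?_
    have : ⁅s, t⁆ * ⁅s, t⁆ = 1 := by
      calc ⁅s, t⁆ * ⁅s, t⁆ = ⁅s, t⁆ * ⁅s, t⁆⁻¹ := by rw [← h2]
        _ = 1 := mul_inv_cancel _
    exact this
  · push Not at hne
    -- Z = W
    have hyN : y ∈ normalizer (S : Set X) := by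
      rw [normalizer_eq_top (H := S)]; exact mem_top y
    have hwW := Y.hw
    have hw2 : y * w * y⁻¹ ∈ h.W := h.W_norm hyN hwW
    have hw3 : y⁻¹ * w * y ∈ h.W := by
      have := h.W_norm (inv_mem hyN) hwW
      rwa [inv_inv] at this
    have hsq2 : (y * w * y⁻¹) * (y * w * y⁻¹) = v := by
      rw [← Y.yu, ← Y.ww]; group
    have hsq3 : (y⁻¹ * w * y) * (y⁻¹ * w * y) = u * v := by
      have e : (y⁻¹ * w * y) * (y⁻¹ * w * y) = y⁻¹ * u * y := by rw [← Y.ww]; group
      rw [e, ← Y.norm Y.hu, Y.yu]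
    have hsemi : ∀ c ∈ S, ⁅c, y * w * y⁻¹⁆ = y⁻¹ * ⁅c, w⁆ * y ∧ ⁅c, y⁻¹ * w * y⁆ = y * ⁅c, w⁆ * y⁻¹ :=
      fun c hc => h.semi hZ hself ht ht2 htV Y hc
    have hpV : ∀ c ∈ S, ⁅c, w⁆ ∈ V := fun c hc => hwW.2.2 c hc
    -- the kernel of p is W
    have hker : ∀ c ∈ S, ⁅c, w⁆ = 1 → c ∈ h.W := by
      intro c hc hcw
      obtain ⟨s2, s3⟩ := hsemi c hc
      rw [hcw] at s2 s3
      have s2' : ⁅c, y * w * y⁻¹⁆ = 1 := by rw [s2]; group
      have s3' : ⁅c, y⁻¹ * w * y⁆ = 1 := by rw [s3]; group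
      refine hne c (hself c (fun z hz => ?_))
      have hzW := hne z hz
      rw [← cc_one]
      rcases h.v_cases Y.hu Y.hv Y.hu1 Y.hv1 Y.huv hzW.2.1 with h1 | h1 | h1 | h1
      · exact cc_one.2 (h.vc (h.W_sq_one hzW h1) hc)
      · rw [h.cc_of_sq ht ht2 htV hzW hwW hc (h1.trans Y.ww.symm), hcw]
      · rw [h.cc_of_sq ht ht2 htV hzW hw2 hc (h1.trans hsq2.symm), s2']
      · rw [h.cc_of_sq ht ht2 htV hzW hw3 hc (h1.trans hsq3.symm), s3']
    have hpmul : ∀ a ∈ S, ∀ b ∈ S, ⁅a * b, w⁆ = ⁅a, w⁆ * ⁅b, w⁆ := by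
      intro a ha b hb
      rw [h.cc_left ha (hpV b hb), h.v_comm (hpV b hb) (hpV a ha)]
    have hpinv : ∀ a ∈ S, ⁅a⁻¹, w⁆ = ⁅a, w⁆ := by
      intro a ha
      have h1 := hpmul a ha a⁻¹ (S.inv_mem ha)
      rw [mul_inv_cancel, commutatorElement_one_left] at h1
      have h2 := (inv_eq_of_mul_eq_one_right h1.symm).symm
      rw [h2, h.v_inv (hpV a ha)]
    have hsame : ∀ a ∈ S, ∀ b ∈ S, ⁅a, w⁆ = ⁅b, w⁆ → a⁻¹ * b ∈ h.W := by
      intro a ha b hb hab
      refine hker _ (S.mul_mem (S.inv_mem ha) hb) ?_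
      rw [hpmul _ (S.inv_mem ha) _ hb, hpinv a ha, hab, h.v2 _ (hpV b hb)]
    have htp : ⁅t, w⁆ ≠ 1 := by
      intro e
      exact htV (h.W_sq_one (hker t ht e) ht2)
    -- the conjugates of t
    have ht' : y * t * y⁻¹ ∈ S := hSn.conj_mem t ht y
    have ht'' : y⁻¹ * t * y ∈ S := by
      have := hSn.conj_mem t ht y⁻¹
      rwa [inv_inv] at this
    have hyy := Y.y3'
    have hyy' : y = y⁻¹ * y⁻¹ := by
      rw [← mul_inv_rev]; exact eq_inv_of_mul_eq_one_right Y.y3
    obtain ⟨st2, st3⟩ := hsemi t ht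
    have hVc1 : ∀ z ∈ V, y * z * y⁻¹ ∈ V := fun z hz => h.vn.conj_mem z hz y
    have hVc2 : ∀ z ∈ V, y⁻¹ * z * y ∈ V := fun z hz => by
      have := h.vn.conj_mem z hz y⁻¹
      rwa [inv_inv] at this
    have hy2 : ∀ z : X, y * (y * z * y⁻¹) * y⁻¹ = y⁻¹ * z * y := by
      intro z
      calc y * (y * z * y⁻¹) * y⁻¹ = (y * y) * z * (y⁻¹ * y⁻¹) := by group
        _ = y⁻¹ * z * y := by rw [← hyy', ← hyy]
    have hyi2 : ∀ z : X, y⁻¹ * (y⁻¹ * z * y) * y = y * z * y⁻¹ := by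
      intro z
      calc y⁻¹ * (y⁻¹ * z * y) * y = (y⁻¹ * y⁻¹) * z * (y * y) := by group
        _ = y * z * y⁻¹ := by rw [← hyy', ← hyy]
    have hpt' : ⁅y * t * y⁻¹, w⁆ = y⁻¹ * ⁅t, w⁆ * y := by
      have e : ⁅y * t * y⁻¹, w⁆ = y * ⁅t, y⁻¹ * w * y⁆ * y⁻¹ := by simp only [commutatorElement_def]; group
      rw [e, st3, hy2]
    have hpt'' : ⁅y⁻¹ * t * y, w⁆ = y * ⁅t, w⁆ * y⁻¹ := by
      have e : ⁅y⁻¹ * t * y, w⁆ = y⁻¹ * ⁅t, y * w * y⁻¹⁆ * y := by simp only [commutatorElement_def]; group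
      rw [e, st2, hyi2]
    -- t'' ∈ t t' W
    have hnorm := Y.norm (hpV t ht)
    have h3 : (t * (y * t * y⁻¹))⁻¹ * (y⁻¹ * t * y) ∈ h.W := by
      refine hsame _ (S.mul_mem ht ht') _ ht'' ?_
      rw [hpmul t ht _ ht', hpt', hpt'', ← hnorm, ← mul_assoc, h.v2 _ (hpV t ht), one_mul]
    -- e = [t, t']
    have heW := (hcW _ ht').1
    have hcomm : ∀ a ∈ h.W, ∀ s ∈ S, ⁅a, s⁆ ∈ V := by
      intro a ha s hs
      exact h.cc_symm_mem (ha.2.2 s hs)
    set e := ⁅y * t * y⁻¹, t⁆ with he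
    -- [t'', t'] = y e y⁻¹
    have hcon1 : ⁅y⁻¹ * t * y, y * t * y⁻¹⁆ = y * e * y⁻¹ := by
      rw [he, ← hy2 t]; simp only [commutatorElement_def]; group
    have hcon2 : ∃ z ∈ V, ⁅y⁻¹ * t * y, y * t * y⁻¹⁆ = z * e⁻¹ := by
      set x := (t * (y * t * y⁻¹))⁻¹ * (y⁻¹ * t * y) with hx
      have e1 : y⁻¹ * t * y = t * ((y * t * y⁻¹) * x) := by rw [hx]; group
      have e2 : ⁅y⁻¹ * t * y, y * t * y⁻¹⁆ = (t * ((y * t * y⁻¹) * ⁅x, y * t * y⁻¹⁆ * (y * t * y⁻¹)⁻¹) * t⁻¹) * e⁻¹ := by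
        rw [e1, he]; simp only [commutatorElement_def]; group
      exact ⟨_, h.vn.conj_mem _ (h.vn.conj_mem _ (hcomm _ h3 _ ht') _) _, e2⟩
    have heV : e ∈ V := by
      obtain ⟨z, hz, hze⟩ := hcon2
      rw [hcon1] at hze
      have heV2 : e * e ∈ V := heW.2.1
      have h4 : y * (e * e) * y⁻¹ = e * e := by
        have h5 := h.vc hz (S.inv_mem (h.W_le heW))
        calc y * (e * e) * y⁻¹ = (y * e * y⁻¹) * (y * e * y⁻¹) := by group
          _ = (z * e⁻¹) * (z * e⁻¹) := by rw [hze]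
          _ = z * (e⁻¹ * z) * e⁻¹ := by group
          _ = z * (z * e⁻¹) * e⁻¹ := by rw [h5]
          _ = (z * z) * (e * e)⁻¹ := by group
          _ = e * e := by rw [h.v2 z hz, one_mul, h.v_inv heV2]
      exact h.W_sq_one heW (Y.fpf heV2 h4)
    -- [s, t] ∈ V for all s
    have hWt : ∀ a ∈ h.W, ⁅a, t⁆ ∈ V := fun a ha => hcomm a ha t ht
    have hcos : ∀ b ∈ S, ⁅b, t⁆ ∈ V → b⁻¹ * s ∈ h.W → ⁅s, t⁆ ∈ V := by
      intro b hb hbt hbs
      have e1 : ⁅s, t⁆ = (b * ⁅b⁻¹ * s, t⁆ * b⁻¹) * ⁅b, t⁆ := by simp only [commutatorElement_def]; group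
      rw [e1]
      exact V.mul_mem (h.vn.conj_mem _ (hWt _ hbs) b) hbt
    have hgoal : ⁅s, t⁆ ∈ V := by
      rcases h.v_cases (hpV t ht) (hVc2 _ (hpV t ht)) htp (by
          intro e1
          apply htp
          have := congrArg (fun z => y * z * y⁻¹) e1
          simpa [mul_assoc] using this) (by
          intro e1
          apply htp
          refine Y.fpf (hpV t ht) ?_
          have := congrArg (fun z => y * z * y⁻¹) e1
          simpa [mul_assoc] using this) (hpV s hs) with h1 | h1 | h1 | h1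
      · exact hcos 1 S.one_mem (by rw [commutatorElement_one_left]; exact V.one_mem)
          (by rw [inv_one, one_mul]; exact hker s hs h1)
      · exact hcos t ht (by rw [commutatorElement_self]; exact V.one_mem) (hsame t ht s hs h1.symm)
      · exact hcos _ ht' heV (hsame _ ht' s hs (by rw [hpt', h1]))
      · refine hcos _ ht'' ?_ (hsame _ ht'' s hs ?_)
        · -- [t'', t] = y⁻¹ [t, y t y⁻¹] y
          have e1 : ⁅y⁻¹ * t * y, t⁆ = y⁻¹ * e⁻¹ * y := by
            rw [he]; simp only [commutatorElement_def]; group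
          rw [e1]
          exact hVc2 _ (V.inv_mem heV)
        · rw [hpt'', h1, ← hnorm, ← mul_assoc, h.v2 _ (hpV t ht), one_mul]
    exact hgoal

end Loc

end Cfsg.Agent.H285.Fs
end

-- part: H285/FsI
section
/-!
# The constrained case is impossible: summary
-/

set_option autoImplicit false

open Subgroup

namespace Cfsg.Agent.H285.Fs

variable {X : Type*} [Group X] [Finite X] {S V : Subgroup X}

/-- `X` has no normal subgroup of index two, no central involution in the normal four-group `V`, `S` has no normal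
`E₈` and `C_X(Q) ≤ Q` for the largest normal 2-subgroup `Q`: then all involutions of `S` are in `V`. -/
theorem Loc.constrained (h : Loc S V) {Q : Subgroup X} (hQ : IsPGroup 2 Q) (hQn : Q.Normal)
    (hQmax : ∀ M : Subgroup X, M.Normal → IsPGroup 2 M → M ≤ Q) (hQc : centralizer (Q : Set X) ≤ Q)
    {t : X} (ht : t ∈ S) (ht2 : t * t = 1) : t ∈ V := by
  by_contra htV
  obtain ⟨Z, hZ, hself⟩ := h.exists_Z hQ hQn hQmax hQc ht ht2 htV
  obtain ⟨u, v, y, w, Y⟩ := h.exists_Y3 hZ hself ht ht2 htV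
  exact h.contra hZ hself ht ht2 htV Y

end Cfsg.Agent.H285.Fs
end

private theorem dce_5ecf1917a2f3 : _root_.True := by
  try have : _root_.True := by simp only [_root_.Cfsg.Agent.H285.Fs.Loc.Sq.congr_simp]
  exact _root_.True.intro
end

-- part: H285/FsL
section
prune_inst 0x470202504158002000000001460000044b000000000230001014000000000436100022f403c20030019020220000800400200001940000000200004000001012080aa7046b308a10c64000f809005000000000000000000000000000000000000000000000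
set_option linter.all false
open scoped Cfsg.Agent.FastGrp

-- part: H285/FsJ
section
/-!
# Perfect groups with simple central quotient and sectional 2-rank at most 4: one central involution (helper285)

* `unique_of_cyclic`: central involutions of a perfect central extension of a group with cyclic Schur multiplier.
* `comp_unique`: a 2-component `K` (of a group of sectional 2-rank at most 4): commuting involutions which centralize
  `K` modulo `O(K)` are equal.
-/

set_option autoImplicit false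

open Cfsg Subgroup

namespace Cfsg.Agent.H285.Fs

open Cfsg.Agent.GH.Defs Cfsg.Agent.Intrinsic.Basic Cfsg.Agent.GH.Comp

universe u

/-- a finite group has a copy in `Type` -/
theorem exists_type (A : Type u) [Group A] [Finite A] :
    ∃ (B : Type) (_ : Group B) (_ : Finite B), Nonempty (B ≃* A) := by
  have : Small.{0} A := inferInstance
  exact ⟨Shrink.{0} A, inferInstance, Finite.of_equiv A (equivShrink A), ⟨Shrink.mulEquiv⟩⟩

/-- an involution of a cyclic group is unique -/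
theorem cyclic_unique {C : Type*} [Group C] [Finite C] [IsCyclic C] {s t : C} (hs : s * s = 1) (ht : t * t = 1)
    (hs1 : s ≠ 1) (ht1 : t ≠ 1) : s = t := by
  classical
  have := Fintype.ofFinite C
  by_contra hne
  have h1 : ({1, s, t} : Finset C) ⊆ (Finset.univ.filter fun x : C => x ^ 2 = 1) := by
    intro x hx
    simp only [Finset.mem_insert, Finset.mem_singleton] at hx
    rw [Finset.mem_filter]
    refine ⟨Finset.mem_univ _, ?_⟩
    rcases hx with rfl | rfl | rfl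
    · exact one_pow 2
    · rw [pow_two, hs]
    · rw [pow_two, ht]
  have h2 := Finset.card_le_card h1
  have h3 : ({1, s, t} : Finset C).card = 3 := by
    rw [Finset.card_insert_of_notMem, Finset.card_insert_of_notMem, Finset.card_singleton]
    · simpa using hne
    · simp only [Finset.mem_insert, Finset.mem_singleton, not_or]
      exact ⟨fun h => hs1 h.symm, fun h => ht1 h.symm⟩
  have h4 := IsCyclic.card_pow_eq_one_le (α := C) (n := 2) (by norm_num)
  omega

/-- central involutions of a perfect central extension of a group with cyclic Schur multiplier -/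
theorem unique_of_cyclic {L : Type} [Group L] {n : ℕ} (hn : n ≠ 0) (hM : HasCyclicSchurMultiplier L n)
    {A : Type u} [Group A] [Finite A] (hp : commutator A = ⊤) (f : A →* L) (hf : Function.Surjective f)
    (hk : f.ker ≤ center A) {s t : A} (hs : s ∈ f.ker) (ht : t ∈ f.ker) (hs2 : s * s = 1) (ht2 : t * t = 1)
    (hs1 : s ≠ 1) (ht1 : t ≠ 1) : s = t := by
  obtain ⟨B, _, _, ⟨e⟩⟩ := exists_type A
  let σ : B →* L := f.comp e.toMonoidHom
  have hσ : IsStemExtension σ := by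
    refine ⟨hf.comp e.surjective, ?_, ?_⟩
    · intro b hb
      rw [mem_center_iff]
      intro g
      have h1 : e b ∈ center A := hk hb
      apply e.injective
      rw [map_mul, map_mul]
      exact mem_center_iff.mp h1 (e g)
    · have h1 : (commutator B).map e.toMonoidHom = commutator A := by
        rw [_root_.commutator_def, _root_.commutator_def, Subgroup.map_commutator, ← MonoidHom.range_eq_map,
          MonoidHom.range_eq_top.mpr e.surjective]
      have h2 : commutator B = ⊤ := by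
        rw [eq_top_iff]
        intro b _
        have h3 : e b ∈ commutator A := by rw [hp]; exact Subgroup.mem_top _
        rw [← h1] at h3
        obtain ⟨b', hb', he⟩ := h3
        have h4 : b' = b := e.injective he
        rwa [← h4]
      rw [h2]; exact le_top
  obtain ⟨π, hπ⟩ := hM.2 B σ hσ
  have : NeZero n := ⟨hn⟩
  have hcyc : IsCyclic σ.ker := isCyclic_of_surjective π hπ
  have h1 := cyclic_unique (C := σ.ker) (s := ⟨e.symm s, by
      rw [MonoidHom.mem_ker]
      show f (e (e.symm s)) = 1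
      rw [e.apply_symm_apply]; exact hs⟩)
    (t := ⟨e.symm t, by
      rw [MonoidHom.mem_ker]
      show f (e (e.symm t)) = 1
      rw [e.apply_symm_apply]; exact ht⟩)
    (Subtype.ext (by
      show e.symm s * e.symm s = 1
      rw [← map_mul, hs2, map_one]))
    (Subtype.ext (by
      show e.symm t * e.symm t = 1
      rw [← map_mul, ht2, map_one]))
    (fun h => hs1 (e.symm.injective (by
      rw [map_one]
      exact congrArg Subtype.val h)))
    (fun h => ht1 (e.symm.injective (by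
      rw [map_one]
      exact congrArg Subtype.val h)))
  exact e.symm.injective (congrArg Subtype.val h1)

/-- the centre version -/
theorem unique_of_equiv {L : Type} [Group L] {n : ℕ} (hn : n ≠ 0) (hM : HasCyclicSchurMultiplier L n)
    {A : Type u} [Group A] [Finite A] (hp : commutator A = ⊤) (e : A ⧸ center A ≃* L) {s t : A}
    (hs : s ∈ center A) (ht : t ∈ center A) (hs2 : s * s = 1) (ht2 : t * t = 1)
    (hs1 : s ≠ 1) (ht1 : t ≠ 1) : s = t := by
  have hker : (e.toMonoidHom.comp (QuotientGroup.mk' (center A))).ker = center A := by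
    ext x
    rw [MonoidHom.mem_ker]
    show e (QuotientGroup.mk' (center A) x) = 1 ↔ _
    rw [e.map_eq_one_iff, ← MonoidHom.mem_ker, QuotientGroup.ker_mk']
  exact unique_of_cyclic hn hM hp (e.toMonoidHom.comp (QuotientGroup.mk' (center A)))
    (e.surjective.comp (QuotientGroup.mk'_surjective _)) hker.le (by rwa [hker]) (by rwa [hker]) hs2 ht2 hs1 ht1

/-- The survivors other than `PSL₂(q)` and `A₇`. -/
theorem unique_of_surv {A : Type u} [Group A] [Finite A] (hp : commutator A = ⊤) (hr : SectionalPRankLE 2 4 A)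
    (hS : GH.Cov.Cut.Surv (A ⧸ center A)) (h2 : ¬ IsL2odd (A ⧸ center A)) (h7 : ¬ IsAlt 7 (A ⧸ center A))
    {s t : A} (hs : s ∈ center A) (ht : t ∈ center A) (hs2 : s * s = 1) (ht2 : t * t = 1)
    (hs1 : s ≠ 1) (ht1 : t ≠ 1) : s = t := by
  rcases hS with h | h | ⟨n, hn, -, ⟨e⟩⟩ | ⟨F, _, _, hF, ⟨e⟩⟩ | ⟨⟨e⟩⟩ | ⟨F, _, _, hF, ⟨e⟩⟩ |
    ⟨F, _, _, hF, ⟨e⟩⟩ | ⟨F, _, _, q, hF, hq, ⟨e⟩⟩
  · exact absurd h h2
  · exact absurd h h7
  · have h1 : Nat.card (center A) ≤ 2 := S0892.result n (by omega) (by omega) (by omega) (center A) le_rfl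
      (by rw [hp]; exact le_top) e
    by_contra hne
    have h3 : ({1, ⟨s, hs⟩, ⟨t, ht⟩} : Set (center A)).ncard = 3 := by
      rw [Set.ncard_eq_three]
      exact ⟨1, ⟨s, hs⟩, ⟨t, ht⟩, fun h => hs1 (congrArg Subtype.val h).symm,
        fun h => ht1 (congrArg Subtype.val h).symm, fun h => hne (congrArg Subtype.val h), rfl⟩
    have h4 := Set.ncard_le_card ({1, ⟨s, hs⟩, ⟨t, ht⟩} : Set (center A))
    omega
  · obtain ⟨π, P, B⟩ := GH.Cov.SzCover.exists_base (A := A) (F := F) (m := 1) le_rfl (by rw [hF]; norm_num) e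
    rcases B.unique le_rfl hr ht1 ht2 ht s hs hs2 with h | h
    · exact absurd h hs1
    · exact h
  · exact unique_of_equiv (by norm_num) S2035.result hp e hs ht hs2 ht2 hs1 ht1
  · have hq : Fintype.card F % 2 = 1 := Nat.odd_iff.1 hF
    have h3 : 3 ≤ Fintype.card F := by
      have := Fintype.one_lt_card (α := F)
      omega
    exact unique_of_equiv (Nat.gcd_pos_of_pos_left _ (by norm_num)).ne' (S2092.result (F := F) rfl 2 le_rfl
      (fun _ => h3) (by omega)) hp e hs ht hs2 ht2 hs1 ht1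
  · have h3 : 3 ≤ Fintype.card F := by
      have := Fintype.one_lt_card (α := F)
      omega
    exact unique_of_equiv (Nat.gcd_pos_of_pos_left _ (by norm_num)).ne' (S2086.result (F := F) rfl 4 (by norm_num)
      (by omega) (by
        simp only [Set.mem_insert_iff, Set.mem_singleton_iff, Prod.mk.injEq]
        omega)) hp e hs ht hs2 ht2 hs1 ht1
  · exact unique_of_equiv (Nat.gcd_pos_of_pos_left _ (by norm_num)).ne' (S2089.result (F := F) 4 q hF (by norm_num)
      (by omega) (by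
        simp only [Set.mem_insert_iff, Set.mem_singleton_iff, Prod.mk.injEq]
        omega)) hp e hs ht hs2 ht2 hs1 ht1

variable {G : Type u} [Group G] [Finite G]

/-- the centre of a 2-component of a group of sectional 2-rank at most 4 -/
theorem comp_unique (hr : SectionalPRankLE 2 4 G) {H K : Subgroup G} (hK : IsComp H K) {s t : G} (hs : s ∈ K)
    (ht : t ∈ K) (hsc : ∀ k ∈ K, k * s = s * k) (htc : ∀ k ∈ K, k * t = t * k) (hs2 : s * s = 1) (ht2 : t * t = 1)
    (hs1 : s ≠ 1) (ht1 : t ≠ 1) : s = t := by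
  have hodd : ∀ k : K, (QuotientGroup.mk' (oddCore ↥K)) k = 1 → k * k = 1 → k = 1 := by
    intro k hk hkk
    have hk' : k ∈ oddCore ↥K := (QuotientGroup.eq_one_iff k).1 hk
    have h1 : Odd (Nat.card (oddCore ↥K)) := by
      exact Nat.coprime_two_right.1 (Cfsg.Agent.Lib.Cores.pPrimeCore_coprime (G := K) 2)
    have h2 : orderOf k ∣ Nat.card (oddCore ↥K) := by
      have h3 := orderOf_dvd_natCard (⟨k, hk'⟩ : oddCore ↥K)
      rwa [Subgroup.orderOf_mk] at h3
    have h3 : orderOf k ∣ 2 := orderOf_dvd_of_pow_eq_one (by rw [pow_two, hkk])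
    have h4 : orderOf k ∣ 1 := by
      rw [← Nat.coprime_two_right.2 (h1.of_dvd_nat h2)]
      exact Nat.dvd_gcd dvd_rfl h3
    exact orderOf_eq_one_iff.1 (Nat.dvd_one.1 h4)
  let s' : K := ⟨s, hs⟩
  let t' : K := ⟨t, ht⟩
  let φ := QuotientGroup.mk' (oddCore ↥K)
  have hs2' : s' * s' = 1 := Subtype.ext hs2
  have ht2' : t' * t' = 1 := Subtype.ext ht2
  have hφs : φ s' ≠ 1 := fun h => hs1 (congrArg Subtype.val (hodd s' h hs2'))
  have hφt : φ t' ≠ 1 := fun h => ht1 (congrArg Subtype.val (hodd t' h ht2'))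
  have hcs : φ s' ∈ center (Bar K) := by
    rw [mem_center_iff]
    intro y
    obtain ⟨k, rfl⟩ := QuotientGroup.mk'_surjective _ y
    rw [← map_mul, ← map_mul]
    exact congrArg φ (Subtype.ext (hsc k k.2))
  have hct : φ t' ∈ center (Bar K) := by
    rw [mem_center_iff]
    intro y
    obtain ⟨k, rfl⟩ := QuotientGroup.mk'_surjective _ y
    rw [← map_mul, ← map_mul]
    exact congrArg φ (Subtype.ext (htc k k.2))
  have he : EvenCenter K := by
    rw [EvenCenter, even_iff_two_dvd]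
    have h1 : orderOf (⟨φ s', hcs⟩ : center (Bar K)) = 2 := by
      rw [orderOf_eq_prime_iff]
      refine ⟨Subtype.ext ?_, fun h => hφs (congrArg Subtype.val h)⟩
      show φ s' ^ 2 = 1
      rw [pow_two, ← map_mul, hs2', map_one]
    rw [← h1]
    exact orderOf_dvd_natCard _
  by_cases h2 : IsL2odd (STop K) ∨ IsAlt 7 (STop K)
  · exact GH.Cov.QuatTop.qt_of_top hK he h2 s hs t ht hs2 ht2 hs1 ht1 (htc s hs)
  · push Not at h2
    have hrB : SectionalPRankLE 2 4 (Bar K) := GH.Rank.of_quotient (GH.Rank.of_subgroup hr K) _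
    obtain ⟨Y, i1, i2, f, hY, hf, hk, hrY⟩ := GH.Cov.Alt.exists_double hK he hr
    have hsim : IsSimpleGroup (STop K) := top_simple hK
    have hna : ¬ IsMulCommutative (STop K) := top_nonComm hK
    have hS : GH.Cov.Cut.Surv (STop K) := H909.KFour.surv hna hY f hf hk hrY
    have h3 := unique_of_surv (quasisimple hK).1.commutator_eq_top hrB hS h2.1 h2.2 hcs hct
      (by rw [← map_mul, hs2', map_one]) (by rw [← map_mul, ht2', map_one]) hφs hφt
    have h4 : s' * t' = 1 := by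
      apply hodd
      · show φ (s' * t') = 1
        rw [map_mul, h3, ← map_mul, ht2', map_one]
      · have h5 : s' * t' = t' * s' := Subtype.ext (htc s hs)
        calc s' * t' * (s' * t') = s' * (t' * s') * t' := by group
          _ = (s' * s') * (t' * t') := by rw [← h5]; group
          _ = 1 := by rw [hs2', ht2', one_mul]
    have h6 : s * t = 1 := congrArg Subtype.val h4
    rw [eq_inv_of_mul_eq_one_left h6]
    exact inv_eq_of_mul_eq_one_left ht2

end Cfsg.Agent.H285.Fs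
end

-- part: H285/FsK
section
/-!
# Components for S3102 (helper285)

* `comp_normal`: sectional 2-rank at most 4, no subgroup of index two: 2-components of `X` are normal.
* `Loc.no_comp`: a normal four-group, no normal `E₈` in `S`: no 2-component.
* `Loc.elim`: hence (with `O(X) = 1`) all involutions of `S` lie in `V`.
-/

set_option autoImplicit false

open Cfsg Subgroup

namespace Cfsg.Agent.H285.Fs

open Cfsg.Agent.GH.Defs Cfsg.Agent.Intrinsic.Basic Cfsg.Agent.GH.Comp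
open Cfsg.Agent.SignalizersComponents.IntrinsicBasic
open scoped commutatorElement

universe u

variable {X : Type u} [Group X] [Finite X]

omit [Finite X] in
theorem cj_top (g : X) : cj g (⊤ : Subgroup X) = ⊤ := by
  rw [eq_top_iff]
  intro x _
  rw [mem_cj]
  exact Subgroup.mem_top _

theorem comp_normal (hr : SectionalPRankLE 2 4 X) (hI : ∀ N : Subgroup X, N.Normal → N.index ≠ 2)
    {K : Subgroup X} (hK : IsComp (⊤ : Subgroup X) K) : K.Normal := by
  have hcj : ∀ g : X, IsComp (⊤ : Subgroup X) (cj g K) := fun g => by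
    have := hK.cj g
    rwa [cj_top] at this
  by_contra hn
  obtain ⟨g, hg⟩ : ∃ g : X, cj g K ≠ K := by
    by_contra hcon
    push Not at hcon
    refine hn ⟨fun a ha g => ?_⟩
    rw [← hcon g, mem_cj]
    have : g⁻¹ * (g * a * g⁻¹) * g = a := by group
    rwa [this]
  have hor : ∀ x, cj x K = K ∨ cj x K = cj g K := fun x => GH.QA.only_two hr hK (hcj g) (hcj x) hg.symm
  have hidx : (normalizer (K : Set X)).index = 2 := by
    rw [index_eq_two_iff]
    refine ⟨g, fun b => ?_⟩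
    rw [mem_normalizer_iff_cj, mem_normalizer_iff_cj, cj_mul]
    rcases hor b with hb | hb
    · refine Or.inr ⟨hb, fun h => hg ?_⟩
      rw [← hb] at h
      rw [hb] at h
      exact cj_injective b (h.trans hb.symm)
    · refine Or.inl ⟨?_, fun h => hg (hb.symm.trans h)⟩
      rw [← cj_mul]
      rcases hor (b * g) with h | h
      · exact h
      · rw [cj_mul, ← hb] at h
        exact absurd (hb.symm.trans (cj_injective b h)) hg
  exact hI _ (normal_of_index_eq_two hidx) hidx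

theorem perm_comm : ∀ σ τ : Equiv.Perm (Fin 3), Equiv.Perm.sign σ = 1 → Equiv.Perm.sign τ = 1 → σ * τ = τ * σ := by
  decide

variable {S V : Subgroup X}

/-- commutators centralize `V` -/
theorem Loc.comm_cent (h : Loc S V) (a b : X) {v : X} (hv : v ∈ V) : ⁅a, b⁆ * v = v * ⁅a, b⁆ := by
  rcases eq_or_ne v 1 with rfl | hv1
  · rw [mul_one, one_mul]
  obtain ⟨e⟩ := h.exists_equiv
  have h1 : h.act a * h.act b = h.act b * h.act a := by
    have h2 := perm_comm (e.permCongr (h.act a)) (e.permCongr (h.act b)) (h.sign_act e a) (h.sign_act e b)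
    apply e.permCongr.injective
    rw [← Equiv.permCongrHom_coe e, map_mul, map_mul]
    exact h2
  have h2 : h.act ⁅a, b⁆ = 1 := by
    rw [map_commutatorElement, commutatorElement_eq_one_iff_mul_comm]
    exact h1
  have h3 := h.act_apply ⁅a, b⁆ ⟨⟨v, hv⟩, fun h4 => hv1 (congrArg Subtype.val h4)⟩
  rw [h2] at h3
  have h4 : v = ⁅a, b⁆ * v * ⁅a, b⁆⁻¹ := h3
  calc ⁅a, b⁆ * v = ⁅a, b⁆ * v * ⁅a, b⁆⁻¹ * ⁅a, b⁆ := by group
    _ = v * ⁅a, b⁆ := by rw [← h4]

/-- **No 2-component.** -/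
theorem Loc.no_comp (h : Loc S V) (hr : SectionalPRankLE 2 4 X) (K : Subgroup X) :
    ¬ IsComp (⊤ : Subgroup X) K := by
  intro hK
  have hn := comp_normal hr h.noIdx hK
  obtain ⟨P, hP⟩ := h.syl
  have hp : Fact (Nat.Prime 2) := ⟨Nat.prime_two⟩
  -- an involution of `S ∩ K`
  have hne : ∃ m ∈ S ⊓ K, m ∉ (⊥ : Subgroup X) := by
    by_contra hcon
    push Not at hcon
    have h1 : ¬ (2 ∣ Nat.card K) := by
      intro h2
      obtain ⟨k, hk⟩ := exists_prime_orderOf_dvd_card' 2 h2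
      have hpk : IsPGroup 2 (zpowers (k : X)) := by
        refine IsPGroup.of_card (n := 1) ?_
        rw [Nat.card_zpowers, Subgroup.orderOf_coe, hk, pow_one]
      obtain ⟨Q, hQ⟩ := hpk.exists_le_sylow
      obtain ⟨g, hg⟩ := MulAction.exists_smul_eq X Q P
      have h3 : g * (k : X) * g⁻¹ ∈ S := by
        rw [← hP, ← hg]
        exact mem_map_of_mem (MulAut.conj g).toMonoidHom (hQ (mem_zpowers _))
      have h4 := hcon _ ⟨h3, hn.conj_mem _ k.2 g⟩
      rw [mem_bot] at h4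
      have h5 : (k : X) = 1 := by
        have h6 : (k : X) = g⁻¹ * (g * (k : X) * g⁻¹) * g := by group
        rw [h6, h4]; group
      rw [Subtype.ext (a1 := k) (a2 := 1) h5, orderOf_one] at hk
      exact absurd hk (by norm_num)
    exact h1 hK.even
  obtain ⟨m, hm, hm1, hm2, hmc⟩ := exists_mid' h.isP (A := ⊥) (M := S ⊓ K) inf_le_left
    (fun s _ a ha => by
      rw [mem_bot] at ha ⊢
      rw [ha]; group)
    (fun s hs a ha => ⟨S.mul_mem (S.mul_mem hs ha.1) (S.inv_mem hs), hn.conj_mem _ ha.2 s⟩) hne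
  rw [mem_bot] at hm1 hm2
  have hmV : m ∈ V := h.kill hm.1 hm2 (fun s hs => by
    have := hmc s hs
    rw [mem_bot] at this
    rw [this]; exact V.one_mem)
  -- `V ≤ K`
  have hVK : ∀ v ∈ V, v ∈ K := by
    intro v hv
    rcases eq_or_ne v 1 with rfl | hv1
    · exact K.one_mem
    · obtain ⟨x, -, hx⟩ := h.tr hmV hv hm1 hv1
      rw [← hx]
      exact hn.conj_mem _ hm.2 x
  -- `K` centralizes `V`
  have hc : ∀ v ∈ V, ∀ k ∈ K, k * v = v * k := by
    intro v hv k hk
    have h1 : ⁅K, K⁆ ≤ centralizer ({v} : Set X) := by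
      rw [commutator_le]
      intro a _ b _
      rw [mem_centralizer_singleton_iff]
      exact h.comm_cent a b hv
    rw [hK.perfect] at h1
    exact mem_centralizer_singleton_iff.1 (h1 hk)
  obtain ⟨u, hu, v, hv, hu1, hv1, huv⟩ := h.exists_two
  exact huv (comp_unique hr hK (hVK u hu) (hVK v hv) (hc u hu) (hc v hv) (h.v2 u hu) (h.v2 v hv) hu1 hv1)

/-- no 2-component and `O(X) = 1`: constrained -/
theorem centralizer_le_of_no_comp (hO : oddCore X = ⊥) (hc : ∀ K : Subgroup X, ¬ IsComp (⊤ : Subgroup X) K) :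
    centralizer (pCore 2 X : Set X) ≤ pCore 2 X := by
  have hp : Fact (Nat.Prime 2) := ⟨Nat.prime_two⟩
  have h1 : ∀ M : Subgroup X, ¬ IsPComponent 2 M := by
    intro M hM
    apply hc M
    refine ⟨le_top, ?_⟩
    have h2 := Cfsg.Agent.SignalizersComponents.PLayerAut.isPComponent_map_equiv 2 (topEquiv (G := X)).symm hM
    have h3 : M.map (topEquiv (G := X)).symm.toMonoidHom = M.subgroupOf ⊤ := by
      ext x
      rw [mem_subgroupOf]
      constructor
      · rintro ⟨y, hy, rfl⟩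
        exact hy
      · intro hx
        exact ⟨x, hx, rfl⟩
    rwa [h3] at h2
  have h2 : pLayer 2 X = ⊥ := by
    rw [eq_bot_iff]
    exact sSup_le fun M hM => absurd hM (h1 M)
  have h3 := Cfsg.Agent.Dichotomy.CoreTools.genFitting_eq_pCore (p := 2) (G := X) hO h2
  have h4 := Cfsg.Agent.Lib.GenFitting.centralizer_genFitting_le (G := X)
  rwa [h3] at h4

/-- **All involutions of `S` lie in `V`.** -/
theorem Loc.elim (h : Loc S V) (hr : SectionalPRankLE 2 4 X) (hO : oddCore X = ⊥) {t : X} (ht : t ∈ S)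
    (ht2 : t * t = 1) : t ∈ V := by
  have hp : Fact (Nat.Prime 2) := ⟨Nat.prime_two⟩
  refine h.constrained (Q := pCore 2 X) ?_ ?_ ?_ (centralizer_le_of_no_comp hO fun K => h.no_comp hr K) ht ht2
  · exact Cfsg.Agent.Lib.Cores.pCore_isPGroup 2
  · infer_instance
  · intro M hM hM2
    exact Cfsg.Agent.Lib.Cores.le_pCore hM hM2

end Cfsg.Agent.H285.Fs
end

-- part: H285/FsL
section
/-!
# The reduced situation for S3102 (helper285)

`Glob S U`: `O(X) = 1`, no central involution, no subgroup of index two, no normal `E₈` in the Sylow 2-subgroup `S`,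
`U` a normal four-group of `S` with `X`-conjugate involutions, 2-rank at least 3.

* `Glob.pcore`: `O₂(X) = 1`.
* `Glob.exists_simple`: there is a simple normal nonabelian `K` with `C(K) = 1`.
-/

set_option autoImplicit false

open Cfsg Subgroup

namespace Cfsg.Agent.H285.Fs

open Cfsg.Agent.GH.Defs Cfsg.Agent.Intrinsic.Basic Cfsg.Agent.GH.Comp
open Cfsg.Agent.SignalizersComponents.IntrinsicBasic
open scoped commutatorElement

universe u

variable {X : Type u} [Group X]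

structure Glob (S U : Subgroup X) : Prop where
  syl : ∃ P : Sylow 2 X, (P : Subgroup X) = S
  noE : ∀ E : Subgroup X, E ≤ S → (∀ a ∈ E, a * a = 1) → (∀ s ∈ S, ∀ a ∈ E, s * a * s⁻¹ ∈ E) → Nat.card E ≤ 4
  noIdx : ∀ N : Subgroup X, N.Normal → N.index ≠ 2
  odd : oddCore X = ⊥
  noCen : ∀ z : X, (∀ x, x * z = z * x) → z * z = 1 → z = 1
  US : U ≤ S
  un : ∀ s ∈ S, ∀ u ∈ U, s * u * s⁻¹ ∈ U
  u2 : ∀ u ∈ U, u * u = 1
  u4 : Nat.card U = 4
  conj : ∀ u ∈ U, ∀ v ∈ U, u ≠ 1 → v ≠ 1 → ∃ x : X, x * u * x⁻¹ = v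
  rk : ∀ V : Subgroup X, V ≤ S → Nat.card V = 4 → ∃ t ∈ S, t * t = 1 ∧ t ∉ V
  sr : SectionalPRankLE 2 4 X

variable [Finite X] {S U : Subgroup X}

omit [Finite X] in
/-- an odd normal subgroup is trivial -/
theorem Glob.eq_bot_of_odd (h : Glob S U) {N : Subgroup X} (hN : N.Normal) (ho : Odd (Nat.card N)) : N = ⊥ := by
  rw [eq_bot_iff, ← h.odd]
  exact le_sSup ⟨hN, by
    show (Nat.card N).Coprime 2
    exact Nat.coprime_two_right.2 ho⟩

/-- a normal subgroup of even order contains an involution of the centre of `S` -/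
theorem Glob.exists_cen (h : Glob S U) {N : Subgroup X} (hN : N.Normal) (he : 2 ∣ Nat.card N) :
    ∃ z ∈ S, z ∈ N ∧ z ≠ 1 ∧ z * z = 1 ∧ ∀ s ∈ S, s * z = z * s := by
  have hp : Fact (Nat.Prime 2) := ⟨Nat.prime_two⟩
  obtain ⟨P, hP⟩ := h.syl
  have hS : IsPGroup 2 S := by rw [← hP]; exact P.isPGroup'
  obtain ⟨k, hk⟩ := exists_prime_orderOf_dvd_card' 2 he
  have hpk : IsPGroup 2 (zpowers (k : X)) := by
    refine IsPGroup.of_card (n := 1) ?_
    rw [Nat.card_zpowers, Subgroup.orderOf_coe, hk, pow_one]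
  obtain ⟨Q, hQ⟩ := hpk.exists_le_sylow
  obtain ⟨g, hg⟩ := MulAction.exists_smul_eq X Q P
  have h3 : g * (k : X) * g⁻¹ ∈ S := by
    rw [← hP, ← hg]
    exact mem_map_of_mem (MulAut.conj g).toMonoidHom (hQ (mem_zpowers _))
  have hne : ∃ m ∈ S ⊓ N, m ∉ (⊥ : Subgroup X) := by
    refine ⟨_, ⟨h3, hN.conj_mem _ k.2 g⟩, ?_⟩
    rw [mem_bot]
    intro h4
    have h5 : (k : X) = 1 := by
      have h6 : (k : X) = g⁻¹ * (g * (k : X) * g⁻¹) * g := by group
      rw [h6, h4]; group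
    rw [Subtype.ext (a1 := k) (a2 := 1) h5, orderOf_one] at hk
    exact absurd hk (by norm_num)
  obtain ⟨m, hm, hm1, hm2, hmc⟩ := exists_mid' hS (A := ⊥) (M := S ⊓ N) inf_le_left
    (fun s _ a ha => by
      rw [mem_bot] at ha ⊢
      rw [ha]; group)
    (fun s hs a ha => ⟨S.mul_mem (S.mul_mem hs ha.1) (S.inv_mem hs), hN.conj_mem _ ha.2 s⟩) hne
  rw [mem_bot] at hm1 hm2
  refine ⟨m, hm.1, hm.2, hm1, hm2, fun s hs => ?_⟩
  have h4 := hmc s hs
  rw [mem_bot] at h4
  calc s * m = s * m * s⁻¹ * m⁻¹ * m * s := by group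
    _ = m * s := by rw [h4, one_mul]

/-- **`O₂(X) = 1`**: a normal 2-subgroup is trivial. -/
theorem Glob.eq_bot_of_two (h : Glob S U) {N : Subgroup X} (hN : N.Normal) (h2 : IsPGroup 2 N) : N = ⊥ := by
  by_contra hne
  have hp : Fact (Nat.Prime 2) := ⟨Nat.prime_two⟩
  obtain ⟨P, hP⟩ := h.syl
  have hNS : N ≤ S := by rw [← hP]; exact normal_le h2 hN P
  let A : Subgroup X :=
    { carrier := {z | z ∈ N ∧ (∀ y ∈ N, y * z = z * y) ∧ z * z = 1}
      one_mem' := ⟨N.one_mem, fun y _ => by rw [mul_one, one_mul], one_mul 1⟩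
      mul_mem' := by
        rintro a b ⟨ha, hac, ha2⟩ ⟨hb, hbc, hb2⟩
        refine ⟨N.mul_mem ha hb, fun y hy => ?_, ?_⟩
        · rw [← mul_assoc, hac y hy, mul_assoc, hbc y hy, mul_assoc]
        · calc a * b * (a * b) = a * (b * a) * b := by group
            _ = (a * a) * (b * b) := by rw [hac b hb]; group
            _ = 1 := by rw [ha2, hb2, one_mul]
      inv_mem' := by
        rintro a ⟨ha, hac, ha2⟩
        rw [inv_eq_of_mul_eq_one_left ha2]
        exact ⟨ha, hac, ha2⟩ }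
  have hAn : A.Normal := by
    refine ⟨?_⟩
    rintro a ⟨ha, hac, ha2⟩ g
    refine ⟨hN.conj_mem _ ha g, fun y hy => ?_, ?_⟩
    · have h1 := hac (g⁻¹ * y * g) (by
        have := hN.conj_mem _ hy g⁻¹
        rwa [inv_inv] at this)
      calc y * (g * a * g⁻¹) = g * (g⁻¹ * y * g * a) * g⁻¹ := by group
        _ = g * a * g⁻¹ * y := by rw [h1]; group
    · calc g * a * g⁻¹ * (g * a * g⁻¹) = g * (a * a) * g⁻¹ := by group
        _ = 1 := by rw [ha2]; group
  have hAS : A ≤ S := fun a ha => hNS ha.1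
  -- `A ≠ 1`
  have heven : 2 ∣ Nat.card N := by
    obtain ⟨n, hn⟩ := IsPGroup.iff_card.1 h2
    rcases n with _ | n
    · rw [pow_zero] at hn
      exact absurd (Subgroup.eq_bot_of_card_eq N hn) hne
    · rw [hn, pow_succ]; exact Dvd.intro_left _ rfl
  have hA1 : ∃ a ∈ A, a ≠ 1 := by
    obtain ⟨z, hzS, hzN, hz1, hz2, hzc⟩ := h.exists_cen hN heven
    exact ⟨z, ⟨hzN, fun y hy => hzc y (hNS hy), hz2⟩, hz1⟩
  have hA4 : Nat.card A ≤ 4 := h.noE A hAS (fun a ha => ha.2.2) (fun s _ a ha => hAn.conj_mem a ha s)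
  have hA2 : IsPGroup 2 A := h2.to_le fun a ha => ha.1
  obtain ⟨n, hn⟩ := IsPGroup.iff_card.1 hA2
  obtain ⟨a, ha, ha1⟩ := hA1
  have hn2 : n ≤ 2 := by
    by_contra hcon
    have : 2 ^ 3 ≤ 2 ^ n := Nat.pow_le_pow_right (by norm_num) (by omega)
    omega
  interval_cases n
  · rw [pow_zero] at hn
    have := Subgroup.eq_bot_of_card_eq A hn
    rw [this, mem_bot] at ha
    exact ha1 ha
  · -- a central involution
    rw [pow_one] at hn
    apply ha1
    refine h.noCen a (fun x => ?_) ha.2.2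
    have h1 : x * a * x⁻¹ ∈ A := hAn.conj_mem a ha x
    obtain ⟨b, c, hbc, hu⟩ := Nat.card_eq_two_iff.1 hn
    have hall : ∀ y : A, y = b ∨ y = c := by
      intro y
      have : y ∈ ({b, c} : Set A) := by rw [hu]; trivial
      exact this
    have h2 : x * a * x⁻¹ ≠ 1 := fun h3 => ha1 (by
      have : a = x⁻¹ * (x * a * x⁻¹) * x := by group
      rw [this, h3]; group)
    have h3 : (⟨x * a * x⁻¹, h1⟩ : A) = ⟨a, ha⟩ := by
      have e1 := hall 1
      have e2 := hall ⟨a, ha⟩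
      have e3 := hall ⟨_, h1⟩
      have n1 : (⟨a, ha⟩ : A) ≠ 1 := fun h4 => ha1 (congrArg Subtype.val h4)
      have n2 : (⟨x * a * x⁻¹, h1⟩ : A) ≠ 1 := fun h4 => h2 (congrArg Subtype.val h4)
      rcases e1 with e1 | e1 <;> rcases e2 with e2 | e2 <;> rcases e3 with e3 | e3 <;>
        first
        | exact e3.trans e2.symm
        | exact absurd (e2.trans e1.symm) n1
        | exact absurd (e3.trans e1.symm) n2
    have h4 : x * a * x⁻¹ = a := congrArg Subtype.val h3
    calc x * a = x * a * x⁻¹ * x := by group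
      _ = a * x := by rw [h4]
  · -- a normal four-group
    have hL : Loc S A :=
      { syl := h.syl, noE := h.noE, noIdx := h.noIdx, vn := hAn, v2 := fun v hv => hv.2.2, v4 := hn
        nc := by
          intro v hv hv1
          by_contra hcon
          push Not at hcon
          apply hv1
          refine h.noCen v (fun x => ?_) hv.2.2
          calc x * v = x * v * x⁻¹ * x := by group
            _ = v * x := by rw [hcon x] }
    obtain ⟨t, ht, ht2, htA⟩ := h.rk A hAS hn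
    exact htA (hL.elim h.sr h.odd ht ht2)

/-- an abelian normal subgroup is trivial -/
theorem Glob.eq_bot_of_comm (h : Glob S U) {N : Subgroup X} (hN : N.Normal) (hc : ∀ a ∈ N, ∀ b ∈ N, a * b = b * a) :
    N = ⊥ := by
  have hp : Fact (Nat.Prime 2) := ⟨Nat.prime_two⟩
  let A : Subgroup X :=
    { carrier := {z | z ∈ N ∧ z * z = 1}
      one_mem' := ⟨N.one_mem, one_mul 1⟩
      mul_mem' := by
        rintro a b ⟨ha, ha2⟩ ⟨hb, hb2⟩
        refine ⟨N.mul_mem ha hb, ?_⟩
        calc a * b * (a * b) = a * (b * a) * b := by group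
          _ = (a * a) * (b * b) := by rw [hc b hb a ha]; group
          _ = 1 := by rw [ha2, hb2, one_mul]
      inv_mem' := by
        rintro a ⟨ha, ha2⟩
        rw [inv_eq_of_mul_eq_one_left ha2]
        exact ⟨ha, ha2⟩ }
  have hAn : A.Normal := by
    refine ⟨?_⟩
    rintro a ⟨ha, ha2⟩ g
    refine ⟨hN.conj_mem _ ha g, ?_⟩
    calc g * a * g⁻¹ * (g * a * g⁻¹) = g * (a * a) * g⁻¹ := by group
      _ = 1 := by rw [ha2]; group
  have hA2 : IsPGroup 2 A := by
    intro a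
    refine ⟨1, ?_⟩
    rw [pow_one, pow_two]
    exact Subtype.ext a.2.2
  have hA := h.eq_bot_of_two hAn hA2
  refine h.eq_bot_of_odd hN ?_
  rw [← Nat.not_even_iff_odd, even_iff_two_dvd]
  intro h2
  obtain ⟨k, hk⟩ := exists_prime_orderOf_dvd_card' 2 h2
  have h3 : (k : X) ∈ A := by
    refine ⟨k.2, ?_⟩
    have h4 : k ^ 2 = 1 := by rw [← hk, pow_orderOf_eq_one]
    have h5 := congrArg Subtype.val h4
    rw [pow_two] at h5
    exact h5
  rw [hA, mem_bot] at h3
  rw [Subtype.ext (a1 := k) (a2 := 1) h3, orderOf_one] at hk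
  exact absurd hk (by norm_num)

/-- **A simple normal subgroup with trivial centralizer.** -/
theorem Glob.exists_simple (h : Glob S U) : ∃ K : Subgroup X, K.Normal ∧ IsSimpleGroup K ∧
    ¬ IsMulCommutative K ∧ centralizer (K : Set X) = ⊥ := by
  have hp : Fact (Nat.Prime 2) := ⟨Nat.prime_two⟩
  obtain ⟨P, hP⟩ := h.syl
  -- a component
  obtain ⟨K, hK⟩ : ∃ K : Subgroup X, IsComp (⊤ : Subgroup X) K := by
    by_contra hcon
    push Not at hcon
    have h1 := centralizer_le_of_no_comp h.odd hcon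
    have h2 : pCore 2 X = ⊥ := h.eq_bot_of_two inferInstance (Cfsg.Agent.Lib.Cores.pCore_isPGroup 2)
    rw [h2] at h1
    obtain ⟨t, ht, ht2, htU⟩ := h.rk U h.US h.u4
    have h3 : t ∈ centralizer (((⊥ : Subgroup X) : Set X)) := by
      rw [mem_centralizer_iff]
      intro y hy
      rw [SetLike.mem_coe, mem_bot] at hy
      rw [hy, one_mul, mul_one]
    have h4 := h1 h3
    rw [mem_bot] at h4
    rw [h4] at htU
    exact htU U.one_mem
  have hn : K.Normal := comp_normal h.sr h.noIdx hK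
  -- `O(K) = 1`, `Z(K) = 1`
  have hO : oddCore ↥K = ⊥ := by
    have h1 : ((oddCore ↥K).map K.subtype).Normal := by
      have : (oddCore ↥K).Characteristic := Cfsg.Agent.Lib.Cores.pPrimeCore_characteristic 2
      exact ConjAct.normal_of_characteristic_of_normal
    have h2 := h.eq_bot_of_odd h1 (by
      rw [card_map_of_injective K.subtype_injective]
      exact Nat.coprime_two_right.1 (Cfsg.Agent.Lib.Cores.pPrimeCore_coprime (G := K) 2))
    exact (map_eq_bot_iff_of_injective _ K.subtype_injective).1 h2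
  have hZ : center ↥K = ⊥ := by
    have h1 : ((center ↥K).map K.subtype).Normal := ConjAct.normal_of_characteristic_of_normal
    have h2 := h.eq_bot_of_comm h1 (by
      rintro _ ⟨a, ha, rfl⟩ _ ⟨b, hb, rfl⟩
      exact congrArg Subtype.val (mem_center_iff.1 hb a))
    exact (map_eq_bot_iff_of_injective _ K.subtype_injective).1 h2
  -- `K` is simple
  let φ : ↥K →* STop K := (QuotientGroup.mk' (center (Bar K))).comp (QuotientGroup.mk' (oddCore ↥K))
  have hφs : Function.Surjective φ :=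
    (QuotientGroup.mk'_surjective _).comp (QuotientGroup.mk'_surjective _)
  have hmk : Function.Injective (QuotientGroup.mk' (oddCore ↥K)) := by
    rw [← MonoidHom.ker_eq_bot_iff, QuotientGroup.ker_mk', hO]
  have hφi : Function.Injective φ := by
    rw [injective_iff_map_eq_one]
    intro k hk
    have h1 : QuotientGroup.mk' (oddCore ↥K) k ∈ center (Bar K) := (QuotientGroup.eq_one_iff _).1 hk
    have h2 : k ∈ center ↥K := by
      rw [mem_center_iff]
      intro y
      apply hmk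
      rw [map_mul, map_mul]
      exact mem_center_iff.1 h1 _
    rwa [hZ, mem_bot] at h2
  let e : ↥K ≃* STop K := MulEquiv.ofBijective φ ⟨hφi, hφs⟩
  have hsim : IsSimpleGroup ↥K := by
    have := top_simple hK
    exact e.isSimpleGroup
  have hna : ¬ IsMulCommutative ↥K := by
    intro hc
    apply top_nonComm hK
    refine ⟨⟨fun a b => ?_⟩⟩
    obtain ⟨a, rfl⟩ := e.surjective a
    obtain ⟨b, rfl⟩ := e.surjective b
    rw [← map_mul, ← map_mul, hc.is_comm.comm]
  refine ⟨K, hn, hsim, hna, ?_⟩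
  -- the centralizer
  by_contra hC
  have hCn : (centralizer (K : Set X)).Normal := inferInstance
  have hCe : 2 ∣ Nat.card (centralizer (K : Set X)) := by
    by_contra h2
    exact hC (h.eq_bot_of_odd hCn (by rwa [← Nat.not_even_iff_odd, even_iff_two_dvd]))
  obtain ⟨z1, hz1S, hz1K, hz11, hz12, hz1c⟩ := h.exists_cen hn hK.even
  obtain ⟨z2, hz2S, hz2C, hz21, hz22, hz2c⟩ := h.exists_cen hCn hCe
  -- central involutions of `S` lie in `U`
  have key : ∀ z ∈ S, z * z = 1 → (∀ s ∈ S, s * z = z * s) → z ∈ U := by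
    intro z hzS hz2 hzc
    let E : Subgroup X :=
      { carrier := {x | ∃ a ∈ U, x = a ∨ x = a * z}
        one_mem' := ⟨1, U.one_mem, Or.inl rfl⟩
        mul_mem' := by
          rintro x y ⟨a, ha, hx⟩ ⟨b, hb, hy⟩
          refine ⟨a * b, U.mul_mem ha hb, ?_⟩
          have hbz : b * z = z * b := hzc b (h.US hb)
          rcases hx with rfl | rfl <;> rcases hy with rfl | rfl
          · exact Or.inl rfl
          · exact Or.inr (by group)
          · exact Or.inr (by rw [mul_assoc, ← hbz, mul_assoc])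
          · left
            calc a * z * (b * z) = a * (z * b) * z := by group
              _ = a * b * (z * z) := by rw [← hbz]; group
              _ = _ := by rw [hz2, mul_one]
        inv_mem' := by
          rintro x ⟨a, ha, hx⟩
          have haz : a * z = z * a := hzc a (h.US ha)
          rcases hx with rfl | rfl
          · exact ⟨x⁻¹, U.inv_mem ha, Or.inl rfl⟩
          · refine ⟨a⁻¹, U.inv_mem ha, Or.inr ?_⟩
            rw [haz, mul_inv_rev, inv_eq_of_mul_eq_one_left hz2] }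
    have hUE : U ≤ E := fun a ha => ⟨a, ha, Or.inl rfl⟩
    have hE4 : Nat.card E ≤ 4 := by
      refine h.noE E ?_ ?_ ?_
      · rintro x ⟨a, ha, rfl | rfl⟩
        · exact h.US ha
        · exact S.mul_mem (h.US ha) hzS
      · rintro x ⟨a, ha, rfl | rfl⟩
        · exact h.u2 _ ha
        · have haz : a * z = z * a := hzc a (h.US ha)
          calc a * z * (a * z) = a * (z * a) * z := by group
            _ = (a * a) * (z * z) := by rw [← haz]; group
            _ = 1 := by rw [h.u2 a ha, hz2, one_mul]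
      · rintro s hs x ⟨a, ha, rfl | rfl⟩
        · exact ⟨_, h.un s hs _ ha, Or.inl rfl⟩
        · refine ⟨_, h.un s hs _ ha, Or.inr ?_⟩
          have h1 : s⁻¹ * z = z * s⁻¹ := hzc _ (S.inv_mem hs)
          calc s * (a * z) * s⁻¹ = s * a * (z * s⁻¹) := by group
            _ = _ := by rw [← h1]; group
    have hEU : U = E := eq_of_le_of_card_ge hUE (by rw [h.u4]; exact hE4)
    rw [hEU]
    exact ⟨1, U.one_mem, Or.inr (one_mul z).symm⟩
  have hz1U := key z1 hz1S hz12 hz1c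
  have hz2U := key z2 hz2S hz22 hz2c
  have hKC : ∀ x ∈ K, x ∈ centralizer (K : Set X) → x = 1 := by
    intro x hx hxc
    have h1 : (⟨x, hx⟩ : ↥K) ∈ center ↥K := by
      rw [mem_center_iff]
      intro y
      exact Subtype.ext (mem_centralizer_iff.1 hxc y y.2)
    rw [hZ, mem_bot] at h1
    exact congrArg Subtype.val h1
  have hne : z1 * z2 ≠ 1 := by
    intro h1
    apply hz11
    refine hKC z1 hz1K ?_
    rw [eq_inv_of_mul_eq_one_left h1]
    exact inv_mem hz2C
  obtain ⟨x, hx⟩ := h.conj z1 hz1U (z1 * z2) (U.mul_mem hz1U hz2U) hz11 hne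
  have h1 : z1 * z2 ∈ K := by rw [← hx]; exact hn.conj_mem _ hz1K x
  have h2 : z2 ∈ K := by
    have h3 := K.mul_mem (K.inv_mem hz1K) h1
    rwa [inv_mul_cancel_left] at h3
  exact hz21 (hKC z2 h2 hz2C)

end Cfsg.Agent.H285.Fs
end
end

-- part: H285/FsO
section
prune_inst 0x4f02065040ca202000000001460000064a000000200630001114005020806536100022f407c100f1019020aa0400a000002880019421000000a0006004001000080aa70c4b33cad0c75000f80f807180c00000000000000000000000000041000000000000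
set_option linter.all false
open scoped Cfsg.Agent.FastGrp

-- part: H285/FsM
section
/-!
# Outer automorphism groups without even perfect-like sections (helper285)

`OKOut K`: every subgroup of `Out K` without normal subgroup of index two has odd order.

* `okOut_of_hom`: a homomorphism of `Out K` to a commutative group with cyclic kernel is enough.
* `Glob.le_of_okOut`: the Sylow 2-subgroup of `X` lies in the simple normal subgroup `K`.
-/

set_option autoImplicit false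

open Cfsg Subgroup

namespace Cfsg.Agent.H285.Fs

universe u v

/-- no normal subgroup of index two -/
def NoTwo (G : Type u) [Group G] : Prop := ∀ N : Subgroup G, N.Normal → N.index ≠ 2

theorem NoTwo.map {G : Type u} {H : Type v} [Group G] [Group H] (h : NoTwo G) (f : G →* H)
    (hf : Function.Surjective f) : NoTwo H := by
  intro N hN h2
  refine h (N.comap f) inferInstance ?_
  rw [index_comap_of_surjective N hf, h2]

theorem NoTwo.odd {G : Type u} [Group G] [Finite G] (h : NoTwo G) (hc : ∀ a b : G, a * b = b * a) :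
    Odd (Nat.card G) := by
  rw [← Nat.not_even_iff_odd, even_iff_two_dvd]
  intro h2
  obtain ⟨M, hM⟩ := GH.Cov.Alt.exists_index_two (C := G) hc h2
  exact h M (normal_of_index_eq_two hM) hM

theorem NoTwo.odd_of_cyclic {G : Type u} [Group G] [Finite G] (h : NoTwo G) (T : Sylow 2 G)
    (hT : IsCyclic (T : Subgroup G)) : Odd (Nat.card G) := by
  rw [← Nat.not_even_iff_odd]
  intro h2
  obtain ⟨M, hM⟩ := S0219.result h2 T hT
  exact h M (normal_of_index_eq_two hM) hM

/-- every subgroup of `Out K` without normal subgroup of index two has odd order -/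
def OKOut (K : Type u) [Group K] : Prop := ∀ H : Subgroup (Cfsg.Out K), NoTwo H → Odd (Nat.card H)

theorem OKOut.congr {K : Type u} {L : Type v} [Group K] [Group L] (e : K ≃* L) (h : OKOut L) : OKOut K := by
  obtain ⟨f⟩ := H816.OutEmb.out_congr e
  intro H hH
  have e1 : H ≃* H.map f.toMonoidHom := H.equivMapOfInjective f.toMonoidHom f.injective
  have h1 := h (H.map f.toMonoidHom) (hH.map e1.toMonoidHom e1.surjective)
  rwa [← Nat.card_congr e1.toEquiv] at h1

theorem okOut_of_hom {K : Type u} [Group K] [Finite K] {C : Type v} [CommGroup C]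
    (φ : Cfsg.Out K →* C) (hc : IsCyclic φ.ker) : OKOut K := by
  intro H hH
  have hp : Fact (Nat.Prime 2) := ⟨Nat.prime_two⟩
  have : Finite (MulAut K) := inferInstance
  have : Finite (Cfsg.Out K) := inferInstance
  let ψ : H →* C := φ.comp H.subtype
  have : Finite ψ.range := Finite.of_surjective ψ.rangeRestrict ψ.rangeRestrict_surjective
  have hr : Odd (Nat.card ψ.range) :=
    (hH.map ψ.rangeRestrict ψ.rangeRestrict_surjective).odd (fun a b => mul_comm a b)
  obtain ⟨T⟩ : Nonempty (Sylow 2 H) := inferInstance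
  have hT : ∀ x ∈ (T : Subgroup H), ψ x = 1 := by
    intro x hx
    obtain ⟨k, hk⟩ := T.isPGroup' ⟨x, hx⟩
    have h1 : (ψ.rangeRestrict x) ^ 2 ^ k = 1 := by
      rw [← map_pow]
      have h2 : x ^ 2 ^ k = 1 := congrArg Subtype.val hk
      rw [h2, map_one]
    have h2 : orderOf (ψ.rangeRestrict x) ∣ 2 ^ k := orderOf_dvd_of_pow_eq_one h1
    have h3 : orderOf (ψ.rangeRestrict x) ∣ Nat.card ψ.range := orderOf_dvd_natCard _
    have h4 : Nat.Coprime (2 ^ k) (Nat.card ψ.range) := Nat.Coprime.pow_left k (Nat.coprime_two_left.2 hr)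
    have h5 : orderOf (ψ.rangeRestrict x) = 1 := Nat.eq_one_of_dvd_coprimes h4 h2 h3
    rw [orderOf_eq_one_iff] at h5
    exact congrArg Subtype.val h5
  refine hH.odd_of_cyclic T ?_
  let g : ↥(T : Subgroup H) →* φ.ker :=
    { toFun := fun x => ⟨((x : H) : Cfsg.Out K), hT x x.2⟩
      map_one' := rfl
      map_mul' := fun _ _ => rfl }
  refine isCyclic_of_injective g ?_
  intro a b hab
  exact Subtype.ext (Subtype.ext (congrArg (fun y : φ.ker => (y : Cfsg.Out K)) hab))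

theorem okOut_of_card {K : Type u} [Group K] [Finite K] (h : Nat.card (Cfsg.Out K) ≤ 2) : OKOut K := by
  intro H hH
  have : Finite (MulAut K) := inferInstance
  have : Finite (Cfsg.Out K) := inferInstance
  have h1 : Nat.card H ≤ 2 := (Nat.le_of_dvd Nat.card_pos (card_subgroup_dvd_card H)).trans h
  have h2 : 0 < Nat.card H := Nat.card_pos
  have h3 : Nat.card H ≠ 2 := by
    intro h3
    refine hH ⊥ inferInstance ?_
    rw [index_bot, h3]
  have h4 : Nat.card H = 1 := by omega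
  rw [h4]
  exact odd_one

theorem okOut_of_odd {K : Type u} [Group K] [Finite K] (h : Odd (Nat.card (Cfsg.Out K))) : OKOut K :=
  fun H _ => h.of_dvd_nat (card_subgroup_dvd_card H)

variable {X : Type u} [Group X] {S U : Subgroup X}

/-- **`S ≤ K`.** -/
theorem Glob.le_of_okOut (h : Glob S U) {K : Subgroup X} (hn : K.Normal) (hc : centralizer (K : Set X) = ⊥)
    (hO : OKOut K) : S ≤ K := by
  have hp : Fact (Nat.Prime 2) := ⟨Nat.prime_two⟩
  obtain ⟨φ, hφ⟩ := H816.OutEmb.exists_hom K (by rw [hc]; exact bot_le)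
  have h1 : Odd (Nat.card φ.range) := hO _ (NoTwo.map (G := X) h.noIdx φ.rangeRestrict φ.rangeRestrict_surjective)
  obtain ⟨P, hP⟩ := h.syl
  intro x hx
  rw [← hφ, MonoidHom.mem_ker]
  have hS : IsPGroup 2 S := by rw [← hP]; exact P.isPGroup'
  obtain ⟨k, hk⟩ := hS ⟨x, hx⟩
  have h2 : (φ.rangeRestrict x) ^ 2 ^ k = 1 := by
    rw [← map_pow]
    have h2 : x ^ 2 ^ k = 1 := congrArg Subtype.val hk
    rw [h2, map_one]
  have h3 : orderOf (φ.rangeRestrict x) ∣ 2 ^ k := orderOf_dvd_of_pow_eq_one h2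
  have h4 : orderOf (φ.rangeRestrict x) ∣ Nat.card φ.range := orderOf_dvd_natCard _
  have h5 : Nat.Coprime (2 ^ k) (Nat.card φ.range) := Nat.Coprime.pow_left k (Nat.coprime_two_left.2 h1)
  have h6 : orderOf (φ.rangeRestrict x) = 1 := Nat.eq_one_of_dvd_coprimes h5 h3 h4
  rw [orderOf_eq_one_iff] at h6
  exact congrArg Subtype.val h6

end Cfsg.Agent.H285.Fs
end

-- part: H285/FsN
section
/-!
# Transfer of the situation to the simple group `K` (helper285)

`Four L T W`: `T` a Sylow 2-subgroup of `L` without normal `E₈`, of rank at least 3, `W` a normal four-group of `T` with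
2-central involutions.
-/

set_option autoImplicit false

open Cfsg Subgroup

namespace Cfsg.Agent.H285.Fs

open Cfsg.Agent.H100.NormRank (Lower)

universe u v

structure Four {L : Type u} [Group L] (T : Sylow 2 L) (W : Subgroup L) : Prop where
  low : ¬ Lower ↥(T : Subgroup L) 3
  rk : ¬ PRankLE 2 2 L
  WT : W ≤ T
  w4 : Nat.card W = 4
  w2 : ∀ u ∈ W, u * u = 1
  wn : ∀ s ∈ T, ∀ u ∈ W, s * u * s⁻¹ ∈ W
  wc : ∀ u ∈ W, u ≠ 1 → Cfsg.IsTwoCentralInvolution u

theorem rank_congr {G : Type u} {H : Type v} [Group G] [Group H] {p k : ℕ} (e : G ≃* H) (h : PRankLE p k H) :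
    PRankLE p k G := by
  intro A hA hAp
  rw [← Subgroup.card_map_of_injective (f := e.toMonoidHom) e.injective]
  refine h _ ⟨⟨?_⟩⟩ ?_
  · rintro ⟨_, a, ha, rfl⟩ ⟨_, b, hb, rfl⟩
    apply Subtype.ext
    show e a * e b = e b * e a
    rw [← map_mul, ← map_mul]
    exact congrArg e (congrArg Subtype.val (hA.is_comm.comm (⟨a, ha⟩ : A) ⟨b, hb⟩))
  · rintro _ ⟨a, ha, rfl⟩
    show (e a) ^ p = 1
    rw [← map_pow, hAp a ha, map_one]

theorem rank_of_injective {G : Type u} {H : Type v} [Group G] [Group H] {p k : ℕ} (f : G →* H)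
    (hf : Function.Injective f) (h : PRankLE p k H) : PRankLE p k G := by
  intro A hA hAp
  rw [← Subgroup.card_map_of_injective hf]
  refine h _ ⟨⟨?_⟩⟩ ?_
  · rintro ⟨_, a, ha, rfl⟩ ⟨_, b, hb, rfl⟩
    apply Subtype.ext
    show f a * f b = f b * f a
    rw [← map_mul, ← map_mul]
    exact congrArg f (congrArg Subtype.val (hA.is_comm.comm (⟨a, ha⟩ : A) ⟨b, hb⟩))
  · rintro _ ⟨a, ha, rfl⟩
    show (f a) ^ p = 1
    rw [← map_pow, hAp a ha, map_one]

theorem Four.congr {K : Type u} {L : Type v} [Group K] [Group L] [Finite K] (e : K ≃* L) {T : Sylow 2 K}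
    {W : Subgroup K} (h : Four T W) : ∃ (T' : Sylow 2 L) (W' : Subgroup L), Four T' W' ∧
      Nonempty (↥(T : Subgroup K) ≃* ↥(T' : Subgroup L)) := by
  have hp : Fact (Nat.Prime 2) := ⟨Nat.prime_two⟩
  let T' : Sylow 2 L := T.mapSurjective (f := e.toMonoidHom) e.surjective
  have hT' : (T' : Subgroup L) = (T : Subgroup K).map e.toMonoidHom := rfl
  have e1 : ↥(T : Subgroup K) ≃* ↥(T' : Subgroup L) :=
    (T : Subgroup K).equivMapOfInjective e.toMonoidHom e.injective
  refine ⟨T', W.map e.toMonoidHom, ?_, ⟨e1⟩⟩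
  refine ⟨fun hl => h.low (hl.congr e1.symm), fun hr => h.rk (rank_congr e hr), ?_, ?_, ?_, ?_, ?_⟩
  · rw [hT']; exact map_mono h.WT
  · rw [card_map_of_injective e.injective]; exact h.w4
  · rintro _ ⟨u, hu, rfl⟩
    show e u * e u = 1
    rw [← map_mul, h.w2 u hu, map_one]
  · rintro s hs _ ⟨u, hu, rfl⟩
    have hs' : s ∈ (T : Subgroup K).map e.toMonoidHom := hs
    obtain ⟨s, hs0, rfl⟩ := hs'
    exact ⟨s * u * s⁻¹, h.wn s hs0 u hu, by rw [map_mul, map_mul, map_inv]⟩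
  · rintro _ ⟨u, hu, rfl⟩ hu1
    obtain ⟨h1, P, hP, hc⟩ := h.wc u hu (fun h2 => hu1 (by rw [h2, map_one]))
    refine ⟨?_, P.mapSurjective (f := e.toMonoidHom) e.surjective, ⟨u, hP, rfl⟩, ?_⟩
    · rw [orderOf_injective e.toMonoidHom e.injective]; exact h1
    · intro x hx
      have hx' : x ∈ (P : Subgroup K).map e.toMonoidHom := hx
      obtain ⟨x, hx0, rfl⟩ := hx'
      show e x * e u = e u * e x
      rw [← map_mul, ← map_mul, hc x hx0]

variable {X : Type u} [Group X] [Finite X] {S U : Subgroup X}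

/-- **The situation in `K`.** -/
theorem Glob.four (h : Glob S U) (hr3 : ¬ PRankLE 2 2 ↥S) {K : Subgroup X} (hn : K.Normal) (hSK : S ≤ K) :
    ∃ (T : Sylow 2 ↥K) (W : Subgroup ↥K), Four T W ∧ Nonempty (↥S ≃* ↥(T : Subgroup ↥K)) := by
  have hp : Fact (Nat.Prime 2) := ⟨Nat.prime_two⟩
  obtain ⟨P, hP⟩ := h.syl
  have hPK : (P : Subgroup X) ≤ K := by rw [hP]; exact hSK
  let T : Sylow 2 ↥K := P.subtype hPK
  have hT : (T : Subgroup ↥K) = (P : Subgroup X).subgroupOf K := rfl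
  have e1 : ↥S ≃* ↥(T : Subgroup ↥K) := by
    refine (MulEquiv.subgroupCongr hP.symm).trans ?_
    exact (subgroupOfEquivOfLe hPK).symm
  have hUK : U ≤ K := h.US.trans hSK
  refine ⟨T, U.subgroupOf K, ?_, ⟨e1⟩⟩
  have hS : IsPGroup 2 S := by rw [← hP]; exact P.isPGroup'
  refine ⟨?_, ?_, ?_, ?_, ?_, ?_, ?_⟩
  · -- no normal `E₈`
    intro hl
    obtain ⟨E, hEn, hE2, hE8⟩ := hl.congr e1.symm
    rw [Cfsg.Agent.H100.NormRank.elemAb_iff] at hE2
    have h1 := h.noE (E.map S.subtype) (map_subtype_le E) (by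
      rintro _ ⟨a, ha, rfl⟩
      exact congrArg Subtype.val (hE2.2 a ha)) (by
      rintro s hs _ ⟨a, ha, rfl⟩
      exact ⟨_, hEn.conj_mem a ha ⟨s, hs⟩, rfl⟩)
    rw [card_map_of_injective S.subtype_injective] at h1
    have h2 : 2 ^ 3 ≤ Nat.card E := hE8
    omega
  · -- rank
    intro hr
    exact hr3 (rank_of_injective (inclusion hSK) (inclusion_injective hSK) hr)
  · intro x hx
    have h1 : (x : X) ∈ (P : Subgroup X) := by rw [hP]; exact h.US (mem_subgroupOf.1 hx)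
    exact h1
  · rw [Nat.card_congr (subgroupOfEquivOfLe hUK).toEquiv]; exact h.u4
  · intro u hu
    exact Subtype.ext (h.u2 _ (mem_subgroupOf.1 hu))
  · intro s hs u hu
    have hs' : (s : X) ∈ S := by
      rw [← hP]; exact mem_subgroupOf.1 hs
    exact mem_subgroupOf.2 (h.un _ hs' _ (mem_subgroupOf.1 hu))
  · intro u hu hu1
    have hu0 : (u : X) ∈ U := mem_subgroupOf.1 hu
    have hu10 : (u : X) ≠ 1 := fun h1 => hu1 (Subtype.ext h1)
    obtain ⟨z, hz, hz1, -, hzc⟩ := exists_mid' hS (A := ⊥) (M := U) h.US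
      (fun s _ a ha => by
        rw [mem_bot] at ha ⊢
        rw [ha]; group) h.un ⟨u, hu0, by rwa [mem_bot]⟩
    rw [mem_bot] at hz1
    obtain ⟨x, hx⟩ := h.conj z hz u hu0 hz1 hu10
    refine ⟨?_, ?_⟩
    · exact orderOf_eq_prime (by rw [pow_two]; exact Subtype.ext (h.u2 _ hu0)) hu1
    · have hQK : ((x • P : Sylow 2 X) : Subgroup X) ≤ K := by
        rintro _ ⟨y, hy, rfl⟩
        exact hn.conj_mem _ (hPK hy) x
      refine ⟨(x • P).subtype hQK, ?_, ?_⟩
      · show (u : X) ∈ ((x • P : Sylow 2 X) : Subgroup X)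
        rw [← hx]
        exact mem_map_of_mem (MulAut.conj x).toMonoidHom (by rw [hP]; exact h.US hz)
      · intro y hy
        have hy' : (y : X) ∈ ((x • P : Sylow 2 X) : Subgroup X) := hy
        obtain ⟨y0, hy0, hy1⟩ := hy'
        have hy2 : x * y0 * x⁻¹ = (y : X) := hy1
        have hy0' : y0 ∈ S := by rw [← hP]; exact hy0
        have h1 : y0 * z = z * y0 := by
          have := hzc y0 hy0'
          rw [mem_bot] at this
          calc y0 * z = y0 * z * y0⁻¹ * z⁻¹ * z * y0 := by group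
            _ = z * y0 := by rw [this, one_mul]
        apply Subtype.ext
        show (y : X) * u = u * y
        rw [← hy2, ← hx]
        calc x * y0 * x⁻¹ * (x * z * x⁻¹) = x * (y0 * z) * x⁻¹ := by group
          _ = x * z * x⁻¹ * (x * y0 * x⁻¹) := by rw [h1]; group

end Cfsg.Agent.H285.Fs
end

-- part: H285/FsO
section
/-!
# Reduction of S3102 to `O(X) = 1` (helper285)
-/

set_option autoImplicit false

open Cfsg Subgroup

namespace Cfsg.Agent.H285.Fs

universe u

variable {X : Type u} [Group X] [Finite X]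

theorem oddCore_odd (X : Type u) [Group X] [Finite X] : Odd (Nat.card (oddCore X)) :=
  Nat.coprime_two_right.1 (Cfsg.Agent.Lib.Cores.pPrimeCore_coprime (G := X) 2)

/-- a 2-element of `O(X)` is trivial -/
theorem eq_one_of_oddCore {x : X} (hx : x ∈ oddCore X) {k : ℕ} (hk : x ^ 2 ^ k = 1) : x = 1 := by
  have h1 : orderOf x ∣ 2 ^ k := orderOf_dvd_of_pow_eq_one hk
  have h2 : orderOf x ∣ Nat.card (oddCore X) := by
    have := orderOf_dvd_natCard (⟨x, hx⟩ : oddCore X)
    rwa [Subgroup.orderOf_mk] at this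
  have h3 : Nat.Coprime (2 ^ k) (Nat.card (oddCore X)) :=
    Nat.Coprime.pow_left k (Nat.coprime_two_left.2 (oddCore_odd X))
  exact orderOf_eq_one_iff.1 (Nat.eq_one_of_dvd_coprimes h3 h1 h2)

theorem exists_glob (hidx : ∀ N : Subgroup X, N.Normal → N.index ≠ 2)
    (hiso : ∀ z : X, ¬ Cfsg.IsIsolatedInvolution z) (S : Sylow 2 X) (h3 : ¬ Cfsg.PRankLE 2 2 ↥(S : Subgroup X))
    (h8 : ∀ E : Subgroup ↥(S : Subgroup X), E.Normal → Cfsg.IsElementaryAbelian 2 E → Nat.card ↥E ≠ 8)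
    (U : Subgroup ↥(S : Subgroup X)) (hU : IsKleinFour ↥U) (hUn : U.Normal)
    (hconj : ∀ u ∈ U, ∀ v ∈ U, u ≠ 1 → v ≠ 1 → IsConj (u : X) (v : X)) :
    ∃ (Y : Type u) (_ : Group Y) (_ : Finite Y) (S' U' : Subgroup Y), Glob S' U' ∧ ¬ PRankLE 2 2 ↥S' ∧
      Nonempty (↥(S : Subgroup X) ≃* ↥S') := by
  have hp : Fact (Nat.Prime 2) := ⟨Nat.prime_two⟩
  let π : X →* X ⧸ oddCore X := QuotientGroup.mk' (oddCore X)
  have hπs : Function.Surjective π := QuotientGroup.mk'_surjective _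
  have hπk : ∀ x : X, π x = 1 ↔ x ∈ oddCore X := fun x => QuotientGroup.eq_one_iff x
  let f : ↥(S : Subgroup X) →* X ⧸ oddCore X := π.comp (S : Subgroup X).subtype
  have hf : Function.Injective f := by
    rw [injective_iff_map_eq_one]
    intro s hs
    obtain ⟨k, hk⟩ := S.isPGroup' s
    exact Subtype.ext (eq_one_of_oddCore ((hπk _).1 hs) (k := k) (congrArg Subtype.val hk))
  let S' : Subgroup (X ⧸ oddCore X) := f.range
  let e : ↥(S : Subgroup X) ≃* ↥S' := MonoidHom.ofInjective hf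
  have he : ∀ s, ((e s : S') : X ⧸ oddCore X) = π s := fun s => rfl
  have hS' : S' = (S : Subgroup X).map π := by
    ext y
    constructor
    · rintro ⟨s, rfl⟩; exact ⟨s, s.2, rfl⟩
    · rintro ⟨s, hs, rfl⟩; exact ⟨⟨s, hs⟩, rfl⟩
  have hr' : ¬ PRankLE 2 2 ↥S' := fun h => h3 (rank_congr e h)
  -- no normal elementary abelian subgroup of order more than four
  have hno : ∀ E : Subgroup ↥(S : Subgroup X), E.Normal → Cfsg.IsElementaryAbelian 2 E → Nat.card ↥E ≤ 4 := by
    intro E hE hE2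
    by_contra hcon
    push Not at hcon
    have hE2' : IsPGroup 2 E := S.isPGroup'.to_subgroup E
    obtain ⟨n, hn⟩ := IsPGroup.iff_card.1 hE2'
    have h5 : 2 ^ 3 ≤ Nat.card E := by
      rw [hn] at hcon ⊢
      refine Nat.pow_le_pow_right (by norm_num) ?_
      by_contra h6
      have : 2 ^ n ≤ 2 ^ 2 := Nat.pow_le_pow_right (by norm_num) (by omega)
      omega
    obtain ⟨M, hM, hME, hM8⟩ := Cfsg.Agent.Transfer.PGroupNormal.exists_normal_le_card S.isPGroup' hE h5
    refine h8 M hM ?_ hM8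
    rw [Cfsg.Agent.H100.NormRank.elemAb_iff] at hE2 ⊢
    exact ⟨fun a ha b hb => hE2.1 a (hME ha) b (hME hb), fun a ha => hE2.2 a (hME ha)⟩
  refine ⟨X ⧸ oddCore X, inferInstance, inferInstance, S', U.map f, ?_, hr', ⟨e⟩⟩
  have hU4 : Nat.card U = 4 := hU.card_four
  have hU2 : ∀ u ∈ U, u * u = 1 := by
    intro u hu
    have h1 := hU.exponent_two
    have h2 := Monoid.pow_exponent_eq_one (⟨u, hu⟩ : U)
    rw [h1, pow_two] at h2
    exact congrArg Subtype.val h2
  refine ⟨⟨S.mapSurjective hπs, hS'.symm⟩, ?_, ?_, ?_, ?_, ?_, ?_, ?_, ?_, ?_, ?_, ?_⟩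
  · -- noE
    intro E hES hE2 hEn
    let E0 : Subgroup ↥(S : Subgroup X) := (E.subgroupOf S').map e.symm.toMonoidHom
    have h1 : Nat.card E0 = Nat.card E := by
      rw [card_map_of_injective e.symm.injective, Nat.card_congr (subgroupOfEquivOfLe hES).toEquiv]
    rw [← h1]
    refine hno E0 ?_ ?_
    · have h2 : (E.subgroupOf S').Normal := by
        refine ⟨fun a ha g => ?_⟩
        exact hEn g g.2 a ha
      exact h2.map _ e.symm.surjective
    · rw [Cfsg.Agent.H100.NormRank.elemAb_iff]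
      have hsq : ∀ a ∈ E0, a * a = 1 := by
        rintro _ ⟨a, ha, rfl⟩
        rw [← map_mul]
        have h3 : a * a = 1 := Subtype.ext (hE2 a ha)
        rw [h3, map_one]
      refine ⟨?_, hsq⟩
      intro a ha b hb
      have h3 : ∀ w ∈ E0, w⁻¹ = w := fun w hw => inv_eq_of_mul_eq_one_right (hsq w hw)
      have h4 := h3 _ (E0.mul_mem ha hb)
      rw [mul_inv_rev, h3 a ha, h3 b hb] at h4
      exact h4.symm
  · -- noIdx
    exact NoTwo.map hidx π hπs
  · -- O = 1
    exact Cfsg.Agent.Lib.Cores.pPrimeCore_quotient_pPrimeCore 2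
  · -- no central involution
    intro z hzc hz2
    by_contra hz1
    obtain ⟨y, rfl⟩ := hπs z
    -- an involution above `z`
    have hev : y * y ∈ oddCore X := by rw [← hπk, map_mul, hz2]
    obtain ⟨m, hm⟩ := oddCore_odd X
    have hy1 : (y * y) ^ (2 * m + 1) = 1 := by
      have h1 : (⟨y * y, hev⟩ : oddCore X) ^ (2 * m + 1) = 1 := by rw [← hm]; exact pow_card_eq_one'
      exact congrArg Subtype.val h1
    let t := y ^ (2 * m + 1)
    have ht2 : t * t = 1 := by
      show y ^ (2 * m + 1) * y ^ (2 * m + 1) = 1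
      rw [← pow_add, ← two_mul, pow_mul, pow_two]
      exact hy1
    have hty : π t = π y := by
      show π (y ^ (2 * m + 1)) = π y
      rw [map_pow, pow_succ, pow_mul, pow_two, hz2, one_pow, one_mul]
    have ht1 : t ≠ 1 := fun h => hz1 (by rw [← hty, h, map_one])
    refine hiso t ⟨orderOf_eq_prime (by rw [pow_two]; exact ht2) ht1, fun g hg => ?_⟩
    -- `t` commutes with `g t g⁻¹`
    have h1 : g * t * g⁻¹ * t ∈ oddCore X := by
      rw [← hπk, map_mul, map_mul, map_mul, map_inv, hty, hzc (π g), mul_assoc (π y) (π g) (π g)⁻¹, mul_inv_cancel,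
        mul_one, hz2]
    have h2 : g * t * g⁻¹ * t = 1 := by
      refine eq_one_of_oddCore h1 (k := 1) ?_
      rw [pow_one, pow_two]
      have h3 : t * (g * t * g⁻¹) = g * t * g⁻¹ * t := hg
      calc g * t * g⁻¹ * t * (g * t * g⁻¹ * t) = g * t * g⁻¹ * (t * (g * t * g⁻¹)) * t := by group
        _ = g * (t * t) * g⁻¹ * (t * t) := by rw [h3]; group
        _ = 1 := by rw [ht2]; group
    rw [eq_inv_of_mul_eq_one_left h2]
    exact inv_eq_of_mul_eq_one_left ht2
  · rintro _ ⟨u, -, rfl⟩; exact ⟨u, rfl⟩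
  · rintro _ ⟨s, rfl⟩ _ ⟨u, hu, rfl⟩
    refine ⟨s * u * s⁻¹, hUn.conj_mem u hu s, ?_⟩
    rw [map_mul, map_mul, map_inv]
  · rintro _ ⟨u, hu, rfl⟩
    rw [← map_mul, hU2 u hu, map_one]
  · rw [card_map_of_injective hf]; exact hU4
  · rintro _ ⟨u, hu, rfl⟩ _ ⟨v, hv, rfl⟩ hu1 hv1
    obtain ⟨c, hc⟩ := isConj_iff.1 (hconj u hu v hv (fun h => hu1 (by rw [h, map_one]))
      (fun h => hv1 (by rw [h, map_one])))
    refine ⟨π c, ?_⟩
    show π c * π (u : X) * (π c)⁻¹ = π (v : X)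
    rw [← hc, map_mul, map_mul, map_inv]
  · -- rank
    intro V hVS hV4
    by_contra hcon
    push Not at hcon
    apply hr'
    intro A _ hAp
    have h1 : Nat.card (A.map S'.subtype) ≤ Nat.card V := by
      refine card_le_of_le ?_
      rintro _ ⟨a, ha, rfl⟩
      refine hcon _ a.2 ?_
      have h2 := congrArg Subtype.val (hAp a ha)
      rw [pow_two] at h2
      exact h2
    rw [card_map_of_injective S'.subtype_injective, hV4] at h1
    exact h1
  · -- sectional rank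
    have h1 : SectionalPRankLE 2 4 ↥(S : Subgroup X) :=
      S0501.result S.isPGroup' fun A hA hAc hA2 => hno A hA ⟨hAc, hA2⟩
    exact GH.Rank.of_quotient ((GH.Rank.sylow_iff S).1 h1) _

end Cfsg.Agent.H285.Fs
end
end

-- part: H285/FsP
section
set_option linter.all false
open scoped Cfsg.Agent.FastGrp

-- part: H931/OutSp4
section
/-!
# `Out(PSp₄(q))`, `q` odd, has no subgroup of even order without subgroups of index two (task 278, for S3102)
-/

set_option autoImplicit false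

namespace Cfsg.Agent.H931.OutSp4

open Cfsg
open Cfsg.Agent.ClassicalGeometry.SympAutSemi
open Cfsg.Agent.ClassicalGeometry.SympAutExists
open Cfsg.Agent.GH.Cov.SpSemi
open Cfsg.Agent.GH.Cov.SpPsi
open Cfsg.Agent.GH.Cov.SpData

/-- a finite commutative group of even order has a subgroup of index two -/
theorem exists_index_two {A : Type*} [Group A] [Finite A] (hc : ∀ a b : A, a * b = b * a) (h : 2 ∣ Nat.card A) :
    ∃ N : Subgroup A, N.index = 2 := by
  let _ : CommGroup A := { (inferInstance : Group A) with mul_comm := hc }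
  -- squaring is not injective, hence not surjective
  let f : A →* A := powMonoidHom 2
  have hf : ¬ Function.Injective f := by
    intro hinj
    have : Fact (Nat.Prime 2) := ⟨Nat.prime_two⟩
    obtain ⟨a, ha⟩ := exists_prime_orderOf_dvd_card' 2 h
    have h1 : a ^ 2 = 1 := by rw [← ha]; exact pow_orderOf_eq_one a
    have h2 : f a = f 1 := by
      change a ^ 2 = (1 : A) ^ 2
      rw [h1, one_pow]
    rw [hinj h2, orderOf_one] at ha
    norm_num at ha
  have hs : ¬ Function.Surjective f := fun h => hf (Finite.injective_iff_surjective.2 h)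
  have hr : f.range ≠ ⊤ := fun h => hs (MonoidHom.range_eq_top.1 h)
  -- maximal subgroup above the squares
  obtain ⟨N, hN, hle⟩ := (eq_top_or_exists_le_coatom f.range).resolve_left hr
  refine ⟨N, ?_⟩
  obtain ⟨a, ha⟩ : ∃ a, a ∉ N := by
    by_contra hcon
    push Not at hcon
    exact hN.1 ((Subgroup.eq_top_iff' N).2 hcon)
  have hsq : ∀ b : A, b * b ∈ N := fun b => hle ⟨b, by change b ^ 2 = _; rw [pow_two]⟩
  have htop : N ⊔ Subgroup.zpowers a = ⊤ := by
    apply hN.2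
    refine lt_of_le_of_ne le_sup_left fun h => ha ?_
    rw [h]
    exact Subgroup.mem_sup_right (Subgroup.mem_zpowers a)
  rw [Subgroup.index_eq_two_iff]
  refine ⟨a⁻¹, fun b => ?_⟩
  have hb : b ∈ N ⊔ Subgroup.zpowers a := htop ▸ Subgroup.mem_top b
  obtain ⟨m, hm, k, ⟨j, rfl⟩, hmk⟩ := Subgroup.mem_sup.1 hb
  simp only at hmk
  rcases Int.even_or_odd' j with ⟨i, hi | hi⟩
  · -- even
    have h1 : a ^ j ∈ N := by
      rw [hi, mul_comm, zpow_mul]
      have : (a ^ i) ^ (2 : ℤ) = a ^ i * a ^ i := zpow_two _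
      rw [this]
      exact hsq _
    have h2 : b ∈ N := hmk ▸ mul_mem hm h1
    refine Or.inr ⟨h2, fun h3 => ha ?_⟩
    have := (Subgroup.mul_mem_cancel_left N h2).1 h3
    exact (Subgroup.inv_mem_iff N).1 this
  · have h1 : a ^ j * a⁻¹ ∈ N := by
      rw [hi, zpow_add, zpow_one, mul_inv_cancel_right, mul_comm, zpow_mul]
      have : (a ^ i) ^ (2 : ℤ) = a ^ i * a ^ i := zpow_two _
      rw [this]
      exact hsq _
    have h2 : b * a⁻¹ ∈ N := by
      rw [← hmk, mul_assoc]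
      exact mul_mem hm h1
    refine Or.inl ⟨h2, fun h3 => ha ?_⟩
    have := (Subgroup.mul_mem_cancel_left N h3).1 h2
    exact (Subgroup.inv_mem_iff N).1 this

theorem out_Sp4 {F : Type*} [Field F] [Fintype F] (hF : Odd (Fintype.card F))
    (H : Subgroup (Cfsg.Out (Cfsg.PSp 2 F))) (hH : ∀ N : Subgroup H, N.Normal → N.index ≠ 2) :
    Odd (Nat.card H) := by
  have h2 : (2 : F) ≠ 0 := Cfsg.Agent.GH.Cov.SLTwoFacts.two_ne_zero_of_odd hF
  have hfin : Finite (MulAut (PSp 2 F)) := inferInstance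
  have hfin' : Finite (Out (PSp 2 F)) := Quotient.finite _
  let A : Subgroup (Out (PSp 2 F)) := (A0 F).map (QuotientGroup.mk' _)
  -- products of two elements outside `A` lie in `A`
  have hA : ∀ a b : Out (PSp 2 F), a ∉ A → b ∉ A → a * b ∈ A := by
    intro a b ha hb
    obtain ⟨φ, rfl⟩ := QuotientGroup.mk_surjective a
    obtain ⟨ψ, rfl⟩ := QuotientGroup.mk_surjective b
    exact ⟨φ * ψ, mul_mem_A0 h2 (fun h => ha ⟨φ, h, rfl⟩) (fun h => hb ⟨ψ, h, rfl⟩), rfl⟩
  have hHA : H ≤ A := by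
    by_contra hcon
    obtain ⟨h, hh, hhA⟩ := SetLike.not_le_iff_exists.1 hcon
    have hidx : (A.subgroupOf H).index = 2 := by
      rw [Subgroup.index_eq_two_iff]
      refine ⟨⟨h, hh⟩, fun b => ?_⟩
      by_cases hb : (b : Out (PSp 2 F)) ∈ A
      · refine Or.inr ⟨hb, fun h3 => hhA ?_⟩
        exact (Subgroup.mul_mem_cancel_left A hb).1 h3
      · exact Or.inl ⟨hA _ _ hb hhA, hb⟩
    exact hH _ (Subgroup.normal_of_index_eq_two hidx) hidx
  -- `A` is commutative
  have hcomm : ∀ a ∈ A, ∀ b ∈ A, a * b = b * a := by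
    rintro _ ⟨_, ⟨g, σ, hg, rfl⟩, rfl⟩ _ ⟨_, ⟨k, τ, hk, rfl⟩, rfl⟩
    have h1 := ((hg.mul hk).mul (hg.inv one_ne_zero)).mul (hk.inv one_ne_zero)
    simp only [inv_one, map_one, mul_one] at h1
    obtain ⟨x, hx⟩ := inn_of_linear (g := g * k * g⁻¹ * k⁻¹) h1 (by
      intro c
      have h3 : ∀ c, σ (τ c) = τ (σ c) := fun c =>
        congrArg (fun e : F ≃+* F => e c) (Cfsg.Agent.Lib.AutSL2Out.ringEquiv_comm σ τ)
      change σ (τ (σ.symm (τ.symm c))) = c
      rw [h3, RingEquiv.apply_symm_apply, RingEquiv.apply_symm_apply])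
    rw [map_mul, map_mul, map_mul, map_inv, map_inv] at hx
    rw [← map_mul, ← map_mul]
    apply QuotientGroup.eq_iff_div_mem.2
    refine ⟨x, ?_⟩
    rw [← hx, map_mul, div_eq_mul_inv, mul_inv_rev, ← mul_assoc]
  by_contra hodd
  rw [Nat.not_odd_iff_even, even_iff_two_dvd] at hodd
  obtain ⟨N, hN⟩ := exists_index_two (A := H) (fun a b => Subtype.ext (hcomm _ (hHA a.2) _ (hHA b.2))) hodd
  exact hH N (Subgroup.normal_of_index_eq_two hN) hN

end Cfsg.Agent.H931.OutSp4
end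

-- part: H680/OutOdd
section
/-!
# `Out(G₂(q))`, `Out(³D₄(q))`: subgroups without normal subgroup of index two (helper680, task 279, S3102)
-/

set_option autoImplicit false
set_option linter.unusedSectionVars false

namespace Cfsg.Agent.H680.OutOdd

open Subgroup

theorem odd_of {X : Type*} [Group X] [Finite X] (C : Subgroup X) (hc : IsCyclic C) (hC : C.index ∣ 2) (H : Subgroup X)
    (hH : ∀ N : Subgroup H, N.Normal → N.index ≠ 2) : Odd (Nat.card H) := by
  have hN : C.Normal := by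
    rcases (Nat.dvd_prime Nat.prime_two).1 hC with h | h
    · rw [index_eq_one.1 h]
      infer_instance
    · exact normal_of_index_eq_two h
  have h1 : C.relIndex H ∣ 2 := (relIndex_dvd_index_of_normal C H).trans hC
  have h2 : C.relIndex H = 1 := by
    rcases (Nat.dvd_prime Nat.prime_two).1 h1 with h | h
    · exact h
    · exact (hH (C.subgroupOf H) inferInstance h).elim
  rw [relIndex_eq_one] at h2
  have h3 : IsCyclic H := isCyclic_of_injective (inclusion h2) (inclusion_injective h2)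
  rw [← Nat.not_even_iff_odd]
  intro he
  obtain ⟨g, hg⟩ := h3.exists_generator
  have h4 : orderOf g = Nat.card H := orderOf_eq_card_of_forall_mem_zpowers hg
  have hcm : IsMulCommutative H := IsCyclic.isMulCommutative
  refine hH (zpowers (g ^ 2)) ?_ ?_
  · exact ⟨fun n hn x => by rw [mul_comm' x n, mul_inv_cancel_right]; exact hn⟩
  · have h5 : orderOf (g ^ 2) = Nat.card H / 2 := by
      rw [orderOf_pow' g two_ne_zero, h4, Nat.gcd_eq_right he.two_dvd]
    have h6 := (zpowers (g ^ 2)).index_mul_card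
    rw [Nat.card_zpowers, h5] at h6
    have h7 : 0 < Nat.card H := Nat.card_pos
    obtain ⟨k, hk⟩ := he.two_dvd
    rw [hk, Nat.mul_div_cancel_left k two_pos] at h6
    have hk0 : 0 < k := by omega
    exact Nat.eq_of_mul_eq_mul_right hk0 h6

theorem odd_of_elt {X : Type*} [Group X] [Finite X] {n : ℕ} (hn : 0 < n) (x : X) (hx : n ∣ orderOf x)
    (hX : Nat.card X ∣ 2 * n) (H : Subgroup X) (hH : ∀ N : Subgroup H, N.Normal → N.index ≠ 2) :
    Odd (Nat.card H) := by
  refine odd_of (zpowers x) inferInstance ?_ H hH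
  have h1 := (zpowers x).index_mul_card
  rw [Nat.card_zpowers] at h1
  have h2 : (zpowers x).index * n ∣ 2 * n := (mul_dvd_mul_left _ hx).trans (h1 ▸ hX)
  exact Nat.dvd_of_mul_dvd_mul_right hn h2

theorem out_G2 {F : Type*} [Field F] [Fintype F] (hF : Odd (Fintype.card F))
    (H : Subgroup (Cfsg.Out ↥(Cfsg.Lie.chevG2.group F))) (hH : ∀ N : Subgroup H, N.Normal → N.index ≠ 2) :
    Odd (Nat.card H) := by
  obtain ⟨p, hp⟩ := CharP.exists F
  obtain ⟨f, hpr, hf⟩ := FiniteField.card F p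
  have := Fact.mk hpr
  have h3 : 3 ≤ p ^ (f : ℕ) := by
    rw [← hf]
    have h1 : 1 < Fintype.card F := Fintype.one_lt_card
    obtain ⟨k, hk⟩ := hF
    omega
  have hcard := Cfsg.Agent.S2121.result (F := F) p f hf h3
  obtain ⟨σ, hσ⟩ := H933.SubField.exists_orderOf f.pos hf
  obtain ⟨x, hx⟩ := H933.SubChev.exists_out H69.OutGF.hG2 σ
  rw [hσ] at hx
  have hfin : Finite (Cfsg.Out ↥(Cfsg.Lie.chevG2.group F)) := by
    have : Finite ↥(Cfsg.Lie.chevG2.group F) := inferInstance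
    infer_instance
  refine odd_of_elt f.pos x hx ?_ H hH
  rw [hcard]
  split_ifs
  · exact dvd_rfl
  · exact dvd_mul_left _ _

section D4

open CoxeterSystem Cfsg.Agent.ChevalleyStructure.CoxeterGeom Cfsg.Agent.Tits.Roots Cfsg.Agent.Tits.Core
  Cfsg.Agent.Tits.Exchange Cfsg.Agent.Nodes.Reps Cfsg.Agent.Nodes.BNOf Cfsg.Agent.Nodes.StabComb
  Cfsg.Agent.Nodes.Bruhat Cfsg.Agent.Nodes.OppDec Cfsg.Agent.Nodes.RGDTwGen Cfsg.Agent.Nodes.RGDChev
  Cfsg.Agent.Nodes.RGDFold Cfsg.Agent.Nodes.RGDFoldSL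
open Cfsg.Agent.KFacts.RgdOpp Cfsg.Agent.KFacts.RgdAut Cfsg.Agent.KFacts.RgdDiag Cfsg.Agent.KFacts.RgdRigid
  Cfsg.Agent.KFacts.RgdField Cfsg.Agent.KFacts.RgdTau Cfsg.Agent.KFacts.RgdNodes
open Cfsg Cfsg.Lie Cfsg.Agent.ChevalleyStructure Cfsg.Agent.ChevalleyStructure.Elts Cfsg.Agent.ChevStructure.FieldMap
open Cfsg.Agent.ChevalleyStructure.SL2Hom (up lo)
open Cfsg.Agent.KFacts.TwDFour.Out
open Cfsg.Agent.Nodes.RGDTwD4 Cfsg.Agent.Nodes.RGDTwNode.D4
open Cfsg.Agent.ParSys.Fam.D4 (hf)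
open Cfsg.Agent.CpAut.RgdTwStd
open Cfsg.Agent.H69.OutCount Cfsg.Agent.H69.OutTwD4
open Cfsg.Agent.H933.SubCount

universe u

theorem exists_out {K : Type u} [Field K] [Fintype K] {q : ℕ} (hq : IsPrimePow q) (hK : Fintype.card K = q ^ 3) (p : ℕ)
    [Fact p.Prime] [CharP K p] (σ : K ≃+* K) : ∃ x : Cfsg.Out ↥(twistedD4 K q), orderOf σ ∣ orderOf x := by
  obtain ⟨φ, hφ⟩ := D4Fixed.exists_frob hq hK
  let cs : CoxeterSystem CoxeterMatrix.G₂ CoxeterMatrix.G₂.Group := CoxeterMatrix.G₂.toCoxeterSystem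
  have hfin : Finite CoxeterMatrix.G₂.Group := finiteW cs
  have R := Cfsg.Agent.Nodes.RGDTwD4.rgd cs hK hφ p
  have hG1 : RGD.Sup (X φ q) {x | IsRoot cs isCartan x} = ⊤ := G1_eq_top cs hK hφ
  refine ⟨_, Cfsg.Agent.H933.SubField.dvd_orderOf (st q σ) fun k g hg => ?_⟩
  have hpow : ∀ k : ℕ, DTau hφ hK (st q σ ^ k) (σ ^ k) := by
    intro k
    induction k with
    | zero => rw [pow_zero, pow_zero]; exact DTau.one hφ hK
    | succ k ih => rw [pow_succ, pow_succ]; exact ih.mul hφ hK (dtau_st hφ hK σ cs p)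
  have h1 := hpow k
  rw [hg] at h1
  have h2 := mem_T_of_diag R hG1 h1.diag
  exact h1.unique hφ hK (dtau_conj hφ hK cs p h2)

theorem out_D4 {K : Type u} [Field K] [Fintype K] {q : ℕ} (hq : Odd q) (hK : Fintype.card K = q ^ 3)
    (H : Subgroup (Cfsg.Out ↥(Cfsg.Lie.twistedD4 K q))) (hH : ∀ N : Subgroup H, N.Normal → N.index ≠ 2) :
    Odd (Nat.card H) := by
  have hq' : IsPrimePow q := by
    obtain ⟨p, hp⟩ := CharP.exists K
    obtain ⟨f, hpr, hf⟩ := FiniteField.card K p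
    have h1 : IsPrimePow (q ^ 3) := by
      rw [← hK, hf]
      exact hpr.isPrimePow.pow f.ne_zero
    exact (isPrimePow_pow_iff (by norm_num)).1 h1
  obtain ⟨p, f, hp, hf, rfl⟩ := (isPrimePow_nat_iff q).1 hq'
  have hfp : Fact p.Prime := ⟨hp⟩
  have hK' : Fintype.card K = p ^ (3 * f) := by rw [hK, ← pow_mul, mul_comm]
  have hch : CharP K p := charP_of_card_eq_prime_pow hK'
  have hcard := Cfsg.Agent.S2129.result (K := K) p f hK' hf
  obtain ⟨σ, hσ⟩ := H933.SubField.exists_orderOf (show 1 ≤ 3 * f by omega) hK'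
  obtain ⟨x, hx⟩ := exists_out hq' hK p σ
  rw [hσ] at hx
  have hfin : Finite (Cfsg.Out ↥(twistedD4 K (p ^ f))) := by
    have : Finite ↥(twistedD4 K (p ^ f)) := inferInstance
    infer_instance
  exact odd_of_elt (by omega) x hx (by rw [hcard]; exact dvd_mul_left _ _) H hH

end D4

end Cfsg.Agent.H680.OutOdd
end

-- part: H285/FsP
section
/-!
# `OKOut` for the simple groups of sectional 2-rank at most 4 (helper285)
-/

set_option autoImplicit false

open Cfsg Subgroup

namespace Cfsg.Agent.H285.Fs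

open Cfsg.Agent.GH.Defs

universe u

/-- the prime power form of the order of a finite field -/
theorem card_field (F : Type) [Field F] [Fintype F] : ∃ (p f : ℕ) (_ : Fact p.Prime), 1 ≤ f ∧ Fintype.card F = p ^ f := by
  obtain ⟨p, hp⟩ := CharP.exists F
  obtain ⟨n, hn, hc⟩ := FiniteField.card F p
  exact ⟨p, n, ⟨hn⟩, n.2, hc⟩

theorem okOut_psl {n : ℕ} (hn : 3 ≤ n) (F : Type) [Field F] [Fintype F] :
    OKOut (Matrix.ProjectiveSpecialLinearGroup (Fin n) F) := by
  obtain ⟨p, f, _, hf, hF⟩ := card_field F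
  obtain ⟨φ, -, hc, -⟩ := S2601.result (F := F) hf hF hn
  exact okOut_of_hom φ hc

theorem okOut_psl_two (F : Type) [Field F] [Fintype F] (h4 : 4 ≤ Fintype.card F) :
    OKOut (Matrix.ProjectiveSpecialLinearGroup (Fin 2) F) := by
  obtain ⟨p, f, _, hf, hF⟩ := card_field F
  obtain ⟨φ, -, hc, -⟩ := S2602.result (F := F) hf hF (by rw [← hF]; exact h4)
  exact okOut_of_hom φ hc

theorem okOut_psu {n : ℕ} (hn : 3 ≤ n) (F : Type) [Field F] [Fintype F] {q : ℕ} (hq : Fintype.card F = q ^ 2)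
    (h3 : ¬ (n = 3 ∧ q = 2)) : OKOut (Cfsg.PSU n F q) := by
  obtain ⟨p, f, hp, hf, hF⟩ := card_field F
  obtain ⟨k, hk⟩ : ∃ k, q = p ^ k := by
    have h1 : q ∣ p ^ f := by rw [← hF, hq]; exact Dvd.intro_left (q ^ 1) (by ring)
    obtain ⟨k, -, hk⟩ := (Nat.dvd_prime_pow hp.out).1 h1
    exact ⟨k, hk⟩
  have hk1 : 1 ≤ k := by
    rcases Nat.eq_zero_or_pos k with h | h
    · rw [h, pow_zero] at hk
      rw [hk, one_pow] at hq
      have := Fintype.one_lt_card (α := F)
      omega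
    · exact h
  obtain ⟨φ, -, hc, -⟩ := S2603.result (K := F) hk1 hk hq hn h3
  exact okOut_of_hom φ hc

theorem okOut_alt {n : ℕ} (hn : 7 ≤ n) : OKOut ↥(alternatingGroup (Fin n)) := by
  refine okOut_of_card ?_
  have h1 := S2119.result n (by omega) (by omega)
  have : Nontrivial (Fin n) := Fin.nontrivial_iff_two_le.2 (by omega)
  rw [show Nat.card (Cfsg.Out ↥(alternatingGroup (Fin n))) = (Cfsg.Inn ↥(alternatingGroup (Fin n))).index from rfl]
  have h2 : ((Cfsg.Inn ↥(alternatingGroup (Fin n))).comap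
      (MulAut.conjNormal : Equiv.Perm (Fin n) →* MulAut ↥(alternatingGroup (Fin n)))).index =
      (Cfsg.Inn ↥(alternatingGroup (Fin n))).index := index_comap_of_surjective _ h1.surjective
  rw [← h2]
  have h3 : alternatingGroup (Fin n) ≤ (Cfsg.Inn ↥(alternatingGroup (Fin n))).comap
      (MulAut.conjNormal : Equiv.Perm (Fin n) →* MulAut ↥(alternatingGroup (Fin n))) := by
    intro a ha
    refine ⟨⟨a, ha⟩, ?_⟩
    ext x
    rfl
  have h4 : (alternatingGroup (Fin n)).index = 2 := alternatingGroup.index_eq_two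
  rw [← h4]
  exact Nat.le_of_dvd (by rw [h4]; norm_num) (index_dvd_of_le h3)

/-- `McL` and `Ly` -/
theorem mcl_or_ly {K : Type u} [Group K] [Finite K] [IsSimpleGroup K] (hna : ¬ IsMulCommutative K)
    (heven : 2 ∣ Nat.card K) (h : HasAltCover K) : Spor.IsoMcL K ∨ Spor.IsoLy K := by
  have hO : oddCore K = ⊥ := by
    have h1 : (oddCore K).Normal := Cfsg.Agent.Lib.Cores.pPrimeCore_normal 2
    rcases h1.eq_bot_or_eq_top with h2 | h2
    · exact h2
    · exfalso
      have h3 := oddCore_odd K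
      rw [h2, Subgroup.card_top, ← Nat.not_even_iff_odd, even_iff_two_dvd] at h3
      exact h3 heven
  exact GH.AltOut.mcl_or_ly hna hO (fun h1 h2 t ht K' hK' htK n hn hd =>
    S1738.result h1 h2 t ht K' hK' htK n hn hd) h

/-- **All simple groups of sectional 2-rank at most 4.** -/
theorem okOut_of_k4 {K : Type u} [Group K] [Finite K] [IsSimpleGroup K] (hna : ¬ IsMulCommutative K)
    (heven : 2 ∣ Nat.card K) (hK : K4 K) : OKOut K := by
  have c2 : ∀ {L : Type} [Group L] [Finite L], K ≃* L → Nat.card (Cfsg.Out L) ≤ 2 → OKOut K :=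
    fun e h => (okOut_of_card h).congr e
  rcases hK with h | h | h | h | h | h | h | h | h | h | h | h | h | h | h | h | h | h
  · rcases h with h | h | h | h | h | h
    · obtain ⟨F, _, _, -, h5, ⟨e⟩⟩ := h
      exact (okOut_psl_two F (by omega)).congr e
    · obtain ⟨F, _, _, -, ⟨e⟩⟩ := h
      exact (okOut_psl le_rfl F).congr e
    · obtain ⟨F, _, _, q, hF, hq, ⟨e⟩⟩ := h
      exact (okOut_psu le_rfl F hF (by
        rintro ⟨-, rfl⟩
        exact absurd hq (by decide))).congr e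
    · obtain ⟨F, _, _, hF, ⟨e⟩⟩ := h
      exact (okOut_psu le_rfl F (q := 4) (by rw [hF]; norm_num) (by norm_num)).congr e
    · obtain ⟨e⟩ := h
      exact (okOut_alt (n := 7) le_rfl).congr e
    · obtain ⟨e⟩ := h
      have : Finite ↥Spor.M11 := Finite.of_equiv K e.toEquiv
      exact c2 e (by rw [S2060.result]; norm_num)
  · rcases h with h | h | h | h
    · obtain ⟨F, _, _, hF, ⟨e⟩⟩ := h
      exact (okOut_psl_two F (by omega)).congr e
    · obtain ⟨F, _, _, hF, ⟨e⟩⟩ := h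
      have : Finite ↥(Lie.Sz F 4) := Finite.of_equiv K e.toEquiv
      refine (okOut_of_odd ?_).congr e
      have h1 := S2126.result (F := F) (m := 1) le_rfl (by rw [hF]; norm_num)
      rw [show (2 : ℕ) ^ (1 + 1) = 4 by norm_num] at h1
      rw [h1]
      decide
    · obtain ⟨F, _, _, m, hm, hF, ⟨e⟩⟩ := h
      have : Finite ↥(Lie.twistedG2 F (3 ^ m)) := Finite.of_equiv K e.toEquiv
      refine (okOut_of_odd ?_).congr e
      rw [S2127.result (K := F) hm hF]
      exact ⟨m, rfl⟩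
    · obtain ⟨e⟩ := h
      have : Finite ↥Spor.J1 := Finite.of_equiv K e.toEquiv
      exact c2 e (by rw [S2065.result]; norm_num)
  · obtain ⟨F, _, _, hF, ⟨e⟩⟩ := h
    exact (okOut_psl_two F (by omega)).congr e
  · obtain ⟨F, _, _, hF, ⟨e⟩⟩ := h
    exact (okOut_psl le_rfl F).congr e
  · obtain ⟨n, hn, -, ⟨e⟩⟩ := h
    exact (okOut_alt (n := n) (by omega)).congr e
  · obtain ⟨F, _, _, hF, ⟨e⟩⟩ := h
    exact OKOut.congr e (fun H hH => H931.OutSp4.out_Sp4 hF H hH)
  · obtain ⟨F, _, _, -, -, ⟨e⟩⟩ := h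
    exact (okOut_psl (by norm_num) F).congr e
  · obtain ⟨F, _, _, q, hF, -, -, ⟨e⟩⟩ := h
    exact (okOut_psu (by norm_num) F hF (by norm_num)).congr e
  · obtain ⟨F, _, _, -, ⟨e⟩⟩ := h
    exact (okOut_psl (by norm_num) F).congr e
  · obtain ⟨F, _, _, q, hF, -, ⟨e⟩⟩ := h
    exact (okOut_psu (by norm_num) F hF (by norm_num)).congr e
  · obtain ⟨⟨F, _, _, hF, ⟨e⟩⟩, -⟩ := h
    exact OKOut.congr e (fun H hH => H680.OutOdd.out_G2 hF H hH)
  · obtain ⟨⟨F, _, _, q, hq, hF, ⟨e⟩⟩, -⟩ := h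
    exact OKOut.congr e (fun H hH => H680.OutOdd.out_D4 hq hF H hH)
  · obtain ⟨e⟩ := h
    have : Finite ↥Spor.M12 := Finite.of_equiv K e.toEquiv
    exact c2 e (by rw [S2061.result])
  · obtain ⟨e⟩ := h
    have : Finite ↥Spor.M22 := Finite.of_equiv K e.toEquiv
    exact c2 e (by rw [S2062.result])
  · obtain ⟨e⟩ := h
    have : Finite ↥Spor.M23 := Finite.of_equiv K e.toEquiv
    exact c2 e (by rw [S2063.result]; norm_num)
  · obtain ⟨e⟩ := h
    have : Finite Spor.J2 := Finite.of_equiv K e.toEquiv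
    exact c2 e (by rw [S2066.result])
  · obtain ⟨F, _, _, ω, hF, hω, ⟨e⟩⟩ := h
    have : Finite (Spor.J3 F ω) := Finite.of_equiv K e.toEquiv
    exact c2 e (by rw [S2067.result hF ω hω])
  · rcases mcl_or_ly hna heven h with ⟨⟨e⟩⟩ | ⟨⟨e⟩⟩
    · have : Finite ↥Spor.McL := Finite.of_equiv K e.toEquiv
      exact c2 e (by rw [S2073.result])
    · have : Finite Spor.Ly := Finite.of_equiv K e.toEquiv
      exact c2 e (by rw [S2076.result]; norm_num)

end Cfsg.Agent.H285.Fs
end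
end

-- part: H868/NormE8_mg
section
prune_inst 0xf01045005c2200000000000400000000300000000000000000000000000800200000200030200000180000004004004002880000420000000a000000000401000000000081480000000000000000000000000000000000000000000000000000000000000
set_option linter.all false
open scoped Cfsg.Agent.FastGrp

-- part: H868/NormE8
section
/-!
# Normal elementary abelian subgroups of order 8 (for S3102) (helper868)

`Lower S 3` for the Sylow 2-subgroups of the Mathieu groups `M₁₂`, `M₂₂`, `M₂₃`, from helper326's `NE8`.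
-/

set_option autoImplicit false

namespace Cfsg.Agent.H868.NormE8

open Cfsg Cfsg.Agent.H100.NormRank Cfsg.Agent.H326.NormEight

theorem lower_of_ne8 {S : Type*} [Group S] (h : NE8 S) : Lower S 3 := by
  obtain ⟨V, h1, h2, h3⟩ := h
  refine ⟨V, h1, ⟨isMulCommutative_of_sq h2, fun x hx => ?_⟩, h3⟩
  rw [pow_two]
  exact h2 x hx

theorem lower_M12 {X : Type*} [Group X] [Finite X] (h : Cfsg.Spor.IsoM12 X) (S : Sylow 2 X) :
    Lower ↥(S : Subgroup X) 3 :=
  lower_of_ne8 (Cfsg.Agent.H326.Models.m12 h S)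

theorem lower_M22 {X : Type*} [Group X] [Finite X] (h : Cfsg.Spor.IsoM22 X) (S : Sylow 2 X) :
    Lower ↥(S : Subgroup X) 3 :=
  lower_of_ne8 (Cfsg.Agent.H326.ModelsB.m22 h S)

theorem lower_M23 {X : Type*} [Group X] [Finite X] (h : Cfsg.Spor.IsoM23 X) (S : Sylow 2 X) :
    Lower ↥(S : Subgroup X) 3 :=
  lower_of_ne8 (Cfsg.Agent.H326.ModelsB.m23 h S)

end Cfsg.Agent.H868.NormE8
end

-- part: H956/MonoFour
section
/-!
# The monomial subgroup of `SL_4` with entries fourth roots of unity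

`W`: the monomial matrices of determinant 1 with entries fourth roots of unity (order 1536), `E ≤ W` the
subgroup of order 64 of `SL_4` consisting of (scalars)·(signs)·(four-group); modulo scalars `E` is elementary abelian and
normalised by `W`.  Abstract conclusion `lower_of_hom`: for an embedding `f : G → SL_4(F)` with `W ≤ range f` and
`|G / Z(G)|` of 2-part `2 ^ 7`, the Sylow 2-subgroups of `G / Z(G)` have a normal elementary abelian subgroup of order 16.
-/

set_option autoImplicit false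

namespace Cfsg.Agent.H956.MonoFour

open Matrix Equiv
open Cfsg.Agent.H100.NormRank

variable {F : Type*} [Field F]

/-- monomial matrices -/
def mon (σ : Perm (Fin 4)) (a : Fin 4 → F) : Matrix (Fin 4) (Fin 4) F := Matrix.of fun i j => if i = σ j then a j else 0

theorem mon_apply (σ : Perm (Fin 4)) (a : Fin 4 → F) (i j : Fin 4) : mon σ a i j = if i = σ j then a j else 0 := rfl

theorem mon_mul (σ τ : Perm (Fin 4)) (a b : Fin 4 → F) : mon σ a * mon τ b = mon (σ * τ) (fun j => a (τ j) * b j) := by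
  ext i j
  rw [Matrix.mul_apply, mon_apply, Finset.sum_eq_single (τ j)]
  · rw [mon_apply, mon_apply, if_pos rfl, ite_mul, zero_mul]
    rfl
  · intro k _ hk
    rw [mon_apply τ, if_neg hk, mul_zero]
  · intro h
    exact absurd (Finset.mem_univ _) h

theorem mon_one (c : F) : mon 1 (fun _ => c) = c • (1 : Matrix (Fin 4) (Fin 4) F) := by
  ext i j
  rw [mon_apply, Matrix.smul_apply, Matrix.one_apply]
  by_cases h : i = j
  · rw [if_pos h, if_pos (by rw [h]; rfl), smul_eq_mul, mul_one]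
  · rw [if_neg h, if_neg (by rw [Perm.one_apply]; exact h), smul_zero]

theorem mon_inj {σ τ : Perm (Fin 4)} {a b : Fin 4 → F} (ha : ∀ j, a j ≠ 0) (h : mon σ a = mon τ b) : σ = τ ∧ a = b := by
  have h1 : ∀ j, σ j = τ j ∧ a j = b j := by
    intro j
    have h2 := congrFun (congrFun h (σ j)) j
    rw [mon_apply, mon_apply, if_pos rfl] at h2
    by_cases h3 : σ j = τ j
    · rw [if_pos h3] at h2
      exact ⟨h3, h2⟩
    · rw [if_neg h3] at h2
      exact absurd h2 (ha j)
  exact ⟨Equiv.ext fun j => (h1 j).1, funext fun j => (h1 j).2⟩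

theorem mon_eq (σ : Perm (Fin 4)) (a : Fin 4 → F) : mon σ a = (σ⁻¹).permMatrix F * Matrix.diagonal a := by
  ext i j
  rw [Matrix.mul_diagonal, mon_apply, Equiv.Perm.permMatrix, PEquiv.toMatrix_apply]
  simp only [Equiv.toPEquiv_apply, Option.mem_def, Option.some.injEq]
  by_cases h : i = σ j
  · rw [if_pos h, if_pos (by rw [h]; simp), one_mul]
  · rw [if_neg h, if_neg (by
      intro h1
      apply h
      rw [← h1]
      simp), zero_mul]

theorem det_mon (σ : Perm (Fin 4)) (a : Fin 4 → F) : (mon σ a).det = ((Perm.sign σ : ℤ) : F) * ∏ j, a j := by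
  rw [mon_eq, Matrix.det_mul, Matrix.det_diagonal, Matrix.det_permutation, Perm.sign_inv]

/-! ## the four-group -/

/-- the members of the four-group -/
def IsV (σ : Perm (Fin 4)) : Prop := σ * σ = 1 ∧ (σ = 1 ∨ ∀ j, σ j ≠ j)

instance (σ : Perm (Fin 4)) : Decidable (IsV σ) := inferInstanceAs (Decidable (_ ∧ _))

theorem isV_mul : ∀ σ τ : Perm (Fin 4), IsV σ → IsV τ → IsV (σ * τ) := by (delta Cfsg.Agent.H956.MonoFour.IsV; set_option synthInstance.maxSize 9000 in open scoped Cfsg.Agent.Lib.FastPerm in decide +kernel)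

theorem isV_comm : ∀ σ τ : Perm (Fin 4), IsV σ → IsV τ → σ * τ = τ * σ := by (delta Cfsg.Agent.H956.MonoFour.IsV; set_option synthInstance.maxSize 9000 in open scoped Cfsg.Agent.Lib.FastPerm in decide +kernel)

theorem isV_sign : ∀ σ : Perm (Fin 4), IsV σ → Perm.sign σ = 1 := by (delta Cfsg.Agent.H956.MonoFour.IsV; set_option synthInstance.maxSize 9000 in open scoped Cfsg.Agent.Lib.FastPerm in decide +kernel)

theorem isV_conj (σ τ : Perm (Fin 4)) (h : IsV τ) : IsV (σ * τ * σ⁻¹) := by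
  obtain ⟨h1, h2⟩ := h
  refine ⟨?_, ?_⟩
  · calc σ * τ * σ⁻¹ * (σ * τ * σ⁻¹) = σ * (τ * τ) * σ⁻¹ := by group
      _ = 1 := by rw [h1]; group
  · rcases h2 with rfl | h2
    · left; group
    · right
      intro j hj
      apply h2 (σ⁻¹ j)
      rw [Perm.mul_apply, Perm.mul_apply] at hj
      rw [Perm.eq_inv_iff_eq]
      exact hj

theorem isV_inv (σ : Perm (Fin 4)) (h : IsV σ) : IsV σ⁻¹ := by
  have : σ⁻¹ = σ := inv_eq_of_mul_eq_one_right h.1
  rwa [this]

theorem sgn_const : ∀ s : Fin 4 → ℤˣ, (∏ j, s j) = 1 → ∀ τ : Perm (Fin 4), IsV τ → ∀ j, s (τ j) * s j = s (τ 0) * s 0 := by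
  decide +kernel

theorem exists_sep : ∀ σ : Perm (Fin 4), σ ≠ 1 → ∃ s : Fin 4 → ℤˣ, (∏ j, s j) = 1 ∧ ∃ j, s (σ j) ≠ s j := by
  decide +kernel

theorem exists_V : ∀ j : Fin 4, ∃ τ : Perm (Fin 4), IsV τ ∧ τ 0 = j := by (delta Cfsg.Agent.H956.MonoFour.IsV; set_option synthInstance.maxSize 9000 in open scoped Cfsg.Agent.Lib.FastPerm in decide +kernel)

/-! ## the groups -/

theorem ne_zero_of_pow {a : F} (h : a ^ 4 = 1) : a ≠ 0 := by
  rintro rfl
  rw [zero_pow (by norm_num)] at h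
  exact zero_ne_one h

/-- the inverse of a monomial matrix -/
theorem mon_mul_inv (σ : Perm (Fin 4)) {a : Fin 4 → F} (ha : ∀ j, a j ≠ 0) :
    mon σ a * mon σ⁻¹ (fun j => (a (σ⁻¹ j))⁻¹) = 1 := by
  rw [mon_mul, mul_inv_cancel]
  have : (fun j => a (σ⁻¹ j) * (a (σ⁻¹ j))⁻¹) = fun _ => (1 : F) := by
    ext j
    rw [mul_inv_cancel₀ (ha _)]
  rw [this, mon_one, one_smul]

/-- the monomial group -/
def W (F : Type*) [Field F] : Subgroup (Matrix.SpecialLinearGroup (Fin 4) F) where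
  carrier := {g | ∃ (σ : Perm (Fin 4)) (a : Fin 4 → F), (∀ j, a j ^ 4 = 1) ∧
    (g : Matrix (Fin 4) (Fin 4) F) = mon σ a}
  one_mem' := ⟨1, fun _ => 1, fun _ => one_pow 4, by rw [mon_one, one_smul]; rfl⟩
  mul_mem' := by
    rintro g h ⟨σ, a, ha, hg⟩ ⟨τ, b, hb, hh⟩
    refine ⟨σ * τ, fun j => a (τ j) * b j, fun j => by rw [mul_pow, ha, hb, one_mul], ?_⟩
    rw [Matrix.SpecialLinearGroup.coe_mul, hg, hh, mon_mul]
  inv_mem' := by
    rintro g ⟨σ, a, ha, hg⟩
    refine ⟨σ⁻¹, fun j => (a (σ⁻¹ j))⁻¹, fun j => by rw [inv_pow, ha, inv_one], ?_⟩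
    have h1 := mon_mul_inv σ (fun j => ne_zero_of_pow (ha j))
    rw [← hg] at h1
    have h2 : (g : Matrix (Fin 4) (Fin 4) F) * ((g⁻¹ : Matrix.SpecialLinearGroup (Fin 4) F) : Matrix (Fin 4) (Fin 4) F) = 1 := by
      rw [← Matrix.SpecialLinearGroup.coe_mul, mul_inv_cancel]
      rfl
    have h3 : ((g⁻¹ : Matrix.SpecialLinearGroup (Fin 4) F) : Matrix (Fin 4) (Fin 4) F) * (g : Matrix (Fin 4) (Fin 4) F) = 1 := by
      rw [← Matrix.SpecialLinearGroup.coe_mul, inv_mul_cancel]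
      rfl
    calc ((g⁻¹ : Matrix.SpecialLinearGroup (Fin 4) F) : Matrix (Fin 4) (Fin 4) F)
        = ((g⁻¹ : Matrix.SpecialLinearGroup (Fin 4) F) : Matrix (Fin 4) (Fin 4) F) *
          ((g : Matrix (Fin 4) (Fin 4) F) * mon σ⁻¹ (fun j => (a (σ⁻¹ j))⁻¹)) := by rw [h1, Matrix.mul_one]
      _ = _ := by rw [← Matrix.mul_assoc, h3, Matrix.one_mul]

theorem sq_sq_eq {a b : F} (h : a ^ 2 = b ^ 2) (hb : b ≠ 0) : ∃ u : ℤˣ, a = b * ((u : ℤ) : F) := by
  rcases sq_eq_sq_iff_eq_or_eq_neg.1 h with h1 | h1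
  · exact ⟨1, by rw [h1]; simp⟩
  · exact ⟨-1, by rw [h1]; simp⟩

/-- the subgroup with elementary abelian image -/
def E (F : Type*) [Field F] : Subgroup (Matrix.SpecialLinearGroup (Fin 4) F) where
  carrier := {g | ∃ (σ : Perm (Fin 4)) (a : Fin 4 → F), IsV σ ∧ (∀ j, a j ^ 4 = 1) ∧ (∀ j k, a j ^ 2 = a k ^ 2) ∧
    (g : Matrix (Fin 4) (Fin 4) F) = mon σ a}
  one_mem' := ⟨1, fun _ => 1, by decide, fun _ => one_pow 4, fun _ _ => rfl, by rw [mon_one, one_smul]; rfl⟩
  mul_mem' := by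
    rintro g h ⟨σ, a, hσ, ha, ha', hg⟩ ⟨τ, b, hτ, hb, hb', hh⟩
    refine ⟨σ * τ, fun j => a (τ j) * b j, isV_mul _ _ hσ hτ, fun j => by rw [mul_pow, ha, hb, one_mul],
      fun j k => by rw [mul_pow, mul_pow, ha' (τ j) (τ k), hb' j k], ?_⟩
    rw [Matrix.SpecialLinearGroup.coe_mul, hg, hh, mon_mul]
  inv_mem' := by
    rintro g ⟨σ, a, hσ, ha, ha', hg⟩
    refine ⟨σ⁻¹, fun j => (a (σ⁻¹ j))⁻¹, isV_inv _ hσ, fun j => by rw [inv_pow, ha, inv_one],
      fun j k => by rw [inv_pow, inv_pow, ha' (σ⁻¹ j) (σ⁻¹ k)], ?_⟩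
    have h1 := mon_mul_inv σ (fun j => ne_zero_of_pow (ha j))
    rw [← hg] at h1
    have h3 : ((g⁻¹ : Matrix.SpecialLinearGroup (Fin 4) F) : Matrix (Fin 4) (Fin 4) F) * (g : Matrix (Fin 4) (Fin 4) F) = 1 := by
      rw [← Matrix.SpecialLinearGroup.coe_mul, inv_mul_cancel]
      rfl
    calc ((g⁻¹ : Matrix.SpecialLinearGroup (Fin 4) F) : Matrix (Fin 4) (Fin 4) F)
        = ((g⁻¹ : Matrix.SpecialLinearGroup (Fin 4) F) : Matrix (Fin 4) (Fin 4) F) *
          ((g : Matrix (Fin 4) (Fin 4) F) * mon σ⁻¹ (fun j => (a (σ⁻¹ j))⁻¹)) := by rw [h1, Matrix.mul_one]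
      _ = _ := by rw [← Matrix.mul_assoc, h3, Matrix.one_mul]

theorem E_le_W : E F ≤ W F := by
  rintro g ⟨σ, a, _, ha, _, hg⟩
  exact ⟨σ, a, ha, hg⟩

/-- elements of `E` in terms of signs -/
theorem exists_signs {σ : Perm (Fin 4)} {a : Fin 4 → F} (h2 : (2 : F) ≠ 0) (hσ : IsV σ) (ha : ∀ j, a j ^ 4 = 1)
    (ha' : ∀ j k, a j ^ 2 = a k ^ 2) (hdet : (mon σ a).det = 1) :
    ∃ s : Fin 4 → ℤˣ, (∏ j, s j) = 1 ∧ ∀ j, a j = a 0 * ((s j : ℤ) : F) := by
  have h0 : a 0 ≠ 0 := ne_zero_of_pow (ha 0)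
  choose s hs using fun j => sq_sq_eq (ha' j 0) h0
  refine ⟨s, ?_, hs⟩
  rw [det_mon, isV_sign σ hσ] at hdet
  simp only [Units.val_one, Int.cast_one, one_mul] at hdet
  have h3 : ∏ j, a j = (((∏ j, s j : ℤˣ) : ℤ) : F) := by
    calc ∏ j, a j = ∏ j, (a 0 * ((s j : ℤ) : F)) := Finset.prod_congr rfl fun j _ => hs j
      _ = a 0 ^ 4 * ∏ j, ((s j : ℤ) : F) := by rw [Finset.prod_mul_distrib, Finset.prod_const, Finset.card_univ, Fintype.card_fin]
      _ = _ := by rw [ha, one_mul, Units.coe_prod, Int.cast_prod]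
  rw [h3] at hdet
  rcases Int.units_eq_one_or (∏ j, s j) with h4 | h4
  · exact h4
  · exfalso
    rw [h4] at hdet
    apply h2
    have : (-1 : F) = 1 := by simpa using hdet
    linear_combination -this

/-- `E` is abelian modulo signs -/
theorem E_comm (h2 : (2 : F) ≠ 0) {g h : Matrix.SpecialLinearGroup (Fin 4) F} (hg : g ∈ E F) (hh : h ∈ E F) :
    ∃ c : F, ((g * h : Matrix.SpecialLinearGroup (Fin 4) F) : Matrix (Fin 4) (Fin 4) F) =
      c • ((h * g : Matrix.SpecialLinearGroup (Fin 4) F) : Matrix (Fin 4) (Fin 4) F) := by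
  obtain ⟨σ, a, hσ, ha, ha', hga⟩ := hg
  obtain ⟨τ, b, hτ, hb, hb', hhb⟩ := hh
  obtain ⟨s, hs, hs'⟩ := exists_signs h2 hσ ha ha' (by rw [← hga]; exact g.2)
  obtain ⟨t, ht, ht'⟩ := exists_signs h2 hτ hb hb' (by rw [← hhb]; exact h.2)
  refine ⟨((s (τ 0) * s 0 * (t (σ 0) * t 0) : ℤˣ) : ℤ), ?_⟩
  rw [Matrix.SpecialLinearGroup.coe_mul, Matrix.SpecialLinearGroup.coe_mul, hga, hhb, mon_mul, mon_mul,
    isV_comm σ τ hσ hτ]
  ext i j
  rw [Matrix.smul_apply, mon_apply, mon_apply, smul_eq_mul]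
  by_cases hij : i = (τ * σ) j
  · rw [if_pos hij, if_pos hij, hs' (τ j), hs' j, ht' (σ j), ht' j]
    have e1 := sgn_const s hs τ hτ j
    have e2 := sgn_const t ht σ hσ j
    have e3 : ∀ u : ℤˣ, ((u : ℤ) : F) * ((u : ℤ) : F) = 1 := by
      intro u
      rcases Int.units_eq_one_or u with h | h <;> rw [h] <;> simp
    have e4 : (((s (τ 0) * s 0 * (t (σ 0) * t 0) : ℤˣ) : ℤ) : F) =
        ((s (τ j) : ℤ) : F) * ((s j : ℤ) : F) * (((t (σ j) : ℤ) : F) * ((t j : ℤ) : F)) := by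
      rw [← e1, ← e2]
      push_cast
      ring
    rw [e4]
    linear_combination (-(a 0 * b 0 * ((s (τ j) : ℤ) : F) * ((t j : ℤ) : F))) *
      (e3 (s j) * (((t (σ j) : ℤ) : F) * ((t (σ j) : ℤ) : F)) + e3 (t (σ j)))
  · rw [if_neg hij, if_neg hij, mul_zero]

/-- squares of elements of `E` are scalars -/
theorem E_sq (h2 : (2 : F) ≠ 0) {g : Matrix.SpecialLinearGroup (Fin 4) F} (hg : g ∈ E F) :
    ∃ c : F, ((g * g : Matrix.SpecialLinearGroup (Fin 4) F) : Matrix (Fin 4) (Fin 4) F) = c • (1 : Matrix (Fin 4) (Fin 4) F) := by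
  obtain ⟨σ, a, hσ, ha, ha', hga⟩ := hg
  obtain ⟨s, hs, hs'⟩ := exists_signs h2 hσ ha ha' (by rw [← hga]; exact g.2)
  refine ⟨a 0 ^ 2 * ((s (σ 0) * s 0 : ℤˣ) : ℤ), ?_⟩
  rw [Matrix.SpecialLinearGroup.coe_mul, hga, mon_mul, hσ.1, ← mon_one]
  congr 1
  ext j
  rw [hs' (σ j), hs' j, ← sgn_const s hs σ hσ j]
  push_cast
  ring

/-- `W` normalises `E` -/
theorem W_norm {w g : Matrix.SpecialLinearGroup (Fin 4) F} (hw : w ∈ W F) (hg : g ∈ E F) : w * g * w⁻¹ ∈ E F := by
  obtain ⟨σ, a, ha, hwa⟩ := hw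
  obtain ⟨τ, b, hτ, hb, hb', hgb⟩ := hg
  have hwinv : ((w⁻¹ : Matrix.SpecialLinearGroup (Fin 4) F) : Matrix (Fin 4) (Fin 4) F) =
      mon σ⁻¹ (fun j => (a (σ⁻¹ j))⁻¹) := by
    have h1 := mon_mul_inv σ (fun j => ne_zero_of_pow (ha j))
    rw [← hwa] at h1
    have h3 : ((w⁻¹ : Matrix.SpecialLinearGroup (Fin 4) F) : Matrix (Fin 4) (Fin 4) F) * (w : Matrix (Fin 4) (Fin 4) F) = 1 := by
      rw [← Matrix.SpecialLinearGroup.coe_mul, inv_mul_cancel]
      rfl
    calc ((w⁻¹ : Matrix.SpecialLinearGroup (Fin 4) F) : Matrix (Fin 4) (Fin 4) F)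
        = ((w⁻¹ : Matrix.SpecialLinearGroup (Fin 4) F) : Matrix (Fin 4) (Fin 4) F) *
          ((w : Matrix (Fin 4) (Fin 4) F) * mon σ⁻¹ (fun j => (a (σ⁻¹ j))⁻¹)) := by rw [h1, Matrix.mul_one]
      _ = _ := by rw [← Matrix.mul_assoc, h3, Matrix.one_mul]
  refine ⟨σ * τ * σ⁻¹, fun j => a (τ (σ⁻¹ j)) * b (σ⁻¹ j) * (a (σ⁻¹ j))⁻¹, isV_conj σ τ hτ, fun j => ?_, ?_, ?_⟩
  · rw [mul_pow, mul_pow, inv_pow, ha, hb, ha]; simp
  · -- the squares
    have hdet : (mon σ a).det = 1 := by rw [← hwa]; exact w.2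
    have hprod : (∏ j, a j) ^ 2 = 1 := by
      rw [det_mon] at hdet
      have h1 : (((Perm.sign σ : ℤ) : F) * ∏ j, a j) ^ 2 = 1 := by rw [hdet, one_pow]
      rw [mul_pow] at h1
      have h3 : ((Perm.sign σ : ℤ) : F) ^ 2 = 1 := by
        rcases Int.units_eq_one_or (Perm.sign σ) with h | h <;> rw [h] <;> simp only [_root_.Units.val_one, _root_.Int.cast_one, _root_.one_pow, _root_.Units.val_neg, _root_.Int.reduceNeg, _root_.Int.cast_neg, _root_.even_two, _root_.Even.neg_pow]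
      rwa [h3, one_mul] at h1
    have key : ∀ j k, (a (τ j) * (a j)⁻¹) ^ 2 = (a (τ k) * (a k)⁻¹) ^ 2 := by
      rcases hτ.2 with rfl | hfix
      · intro j k
        rw [Perm.one_apply, Perm.one_apply, mul_inv_cancel₀ (ne_zero_of_pow (ha j)),
          mul_inv_cancel₀ (ne_zero_of_pow (ha k))]
      · intro j k
        have hj0 := ne_zero_of_pow (ha j)
        have hk0 := ne_zero_of_pow (ha k)
        by_cases hjk : j = k
        · rw [hjk]
        by_cases hjk' : τ j = k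
        · have h5 : τ k = j := by
            rw [← hjk', ← Perm.mul_apply, hτ.1, Perm.one_apply]
          rw [hjk', h5]
          field_simp
          linear_combination (ha k) - (ha j)
        · -- `{j, τ j, k, τ k}` is everything
          have h6 : (∏ l, a l) = a j * a (τ j) * (a k * a (τ k)) := by
            have hne1 : j ≠ τ j := (hfix j).symm
            have hne2 : k ≠ τ k := (hfix k).symm
            have hne3 : τ j ≠ τ k := fun h => hjk (τ.injective h)
            have hne4 : j ≠ τ k := by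
              intro h
              apply hjk'
              rw [h, ← Perm.mul_apply, hτ.1, Perm.one_apply]
            have hu : (Finset.univ : Finset (Fin 4)) = {j, τ j, k, τ k} := by
              symm
              apply Finset.eq_univ_of_card
              rw [Finset.card_insert_of_notMem, Finset.card_insert_of_notMem, Finset.card_insert_of_notMem,
                Finset.card_singleton, Fintype.card_fin]
              · simpa using hne2
              · simp only [Finset.mem_insert, Finset.mem_singleton, not_or]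
                exact ⟨hjk', hne3⟩
              · simp only [Finset.mem_insert, Finset.mem_singleton, not_or]
                exact ⟨hne1, hjk, hne4⟩
            rw [hu, Finset.prod_insert, Finset.prod_insert, Finset.prod_insert, Finset.prod_singleton]
            · ring
            · simpa using hne2
            · simp only [Finset.mem_insert, Finset.mem_singleton, not_or]
              exact ⟨hjk', hne3⟩
            · simp only [Finset.mem_insert, Finset.mem_singleton, not_or]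
              exact ⟨hne1, hjk, hne4⟩
          rw [h6] at hprod
          field_simp
          have h7 := ha j
          have h8 := ha (τ j)
          have h9 := ha k
          have h10 := ha (τ k)
          linear_combination (a (τ k) ^ 2 * a j ^ 2) * hprod - (a (τ j) ^ 2 * a k ^ 2) * (a (τ k) ^ 4 * h7 + h10)
    intro j k
    have := key (σ⁻¹ j) (σ⁻¹ k)
    have hb2 := hb' (σ⁻¹ j) (σ⁻¹ k)
    calc (a (τ (σ⁻¹ j)) * b (σ⁻¹ j) * (a (σ⁻¹ j))⁻¹) ^ 2 = (a (τ (σ⁻¹ j)) * (a (σ⁻¹ j))⁻¹) ^ 2 * b (σ⁻¹ j) ^ 2 := by ring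
      _ = (a (τ (σ⁻¹ k)) * (a (σ⁻¹ k))⁻¹) ^ 2 * b (σ⁻¹ k) ^ 2 := by rw [this, hb2]
      _ = _ := by ring
  · rw [Matrix.SpecialLinearGroup.coe_mul, Matrix.SpecialLinearGroup.coe_mul, hwa, hgb, hwinv, mon_mul, mon_mul]

/-! ## central elements and orders -/

theorem scalar_of_comm (h2 : (2 : F) ≠ 0) {g : Matrix.SpecialLinearGroup (Fin 4) F} (hg : g ∈ W F)
    (hc : ∀ w ∈ W F, w * g = g * w) : ∃ c : F, c ^ 4 = 1 ∧ (g : Matrix (Fin 4) (Fin 4) F) = c • (1 : Matrix (Fin 4) (Fin 4) F) := by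
  obtain ⟨σ, a, ha, hga⟩ := hg
  have hσ : σ = 1 := by
    by_contra hne
    obtain ⟨s, hs, j, hj⟩ := exists_sep σ hne
    have hdet : (mon 1 (fun k => ((s k : ℤ) : F))).det = 1 := by
      rw [det_mon, Perm.sign_one]
      have : ∏ k, ((s k : ℤ) : F) = (((∏ k, s k : ℤˣ) : ℤ) : F) := by rw [Units.coe_prod, Int.cast_prod]
      rw [this, hs]
      simp
    have hw : (⟨mon 1 (fun k => ((s k : ℤ) : F)), hdet⟩ : Matrix.SpecialLinearGroup (Fin 4) F) ∈ W F := by
      refine ⟨1, fun k => ((s k : ℤ) : F), fun k => ?_, rfl⟩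
      change ((s k : ℤ) : F) ^ 4 = 1
      rcases Int.units_eq_one_or (s k) with h | h <;> rw [h] <;> norm_num
    have h1 : mon 1 (fun k => ((s k : ℤ) : F)) * (g : Matrix (Fin 4) (Fin 4) F) =
        (g : Matrix (Fin 4) (Fin 4) F) * mon 1 (fun k => ((s k : ℤ) : F)) :=
      congrArg (fun m : Matrix.SpecialLinearGroup (Fin 4) F => (m : Matrix (Fin 4) (Fin 4) F)) (hc _ hw)
    rw [hga] at h1
    change mon 1 (fun k => ((s k : ℤ) : F)) * mon σ a = mon σ a * mon 1 (fun k => ((s k : ℤ) : F)) at h1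
    rw [mon_mul, mon_mul, one_mul, mul_one] at h1
    have h3 := congrFun (mon_inj (fun k => ?_) h1).2 j
    · simp only [Perm.one_apply] at h3
      have h4 : ((s (σ j) : ℤ) : F) = ((s j : ℤ) : F) := by
        apply mul_right_cancel₀ (ne_zero_of_pow (ha j))
        rw [h3, mul_comm]
      apply hj
      rcases Int.units_eq_one_or (s (σ j)) with h5 | h5 <;> rcases Int.units_eq_one_or (s j) with h6 | h6
      · rw [h5, h6]
      · exfalso
        rw [h5, h6] at h4
        apply h2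
        simp only [Units.val_one, Units.val_neg, Int.cast_one, Int.cast_neg] at h4
        linear_combination h4
      · exfalso
        rw [h5, h6] at h4
        apply h2
        simp only [Units.val_one, Units.val_neg, Int.cast_one, Int.cast_neg] at h4
        linear_combination -h4
      · rw [h5, h6]
    · refine mul_ne_zero ?_ (ne_zero_of_pow (ha k))
      rcases Int.units_eq_one_or (s (σ k)) with h | h <;> rw [h] <;> simp
  subst hσ
  have ha0 : ∀ j, a j = a 0 := by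
    intro j
    obtain ⟨τ, hτ, hτj⟩ := exists_V j
    have hdet : (mon τ (fun _ => (1 : F))).det = 1 := by
      rw [det_mon, isV_sign τ hτ]
      simp
    have h1 : mon τ (fun _ => (1 : F)) * (g : Matrix (Fin 4) (Fin 4) F) =
        (g : Matrix (Fin 4) (Fin 4) F) * mon τ (fun _ => (1 : F)) :=
      congrArg (fun m : Matrix.SpecialLinearGroup (Fin 4) F => (m : Matrix (Fin 4) (Fin 4) F))
        (hc ⟨mon τ (fun _ => (1 : F)), hdet⟩ ⟨τ, fun _ => 1, fun _ => one_pow 4, rfl⟩)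
    rw [hga] at h1
    change mon τ (fun _ => (1 : F)) * mon 1 a = mon 1 a * mon τ (fun _ => (1 : F)) at h1
    rw [mon_mul, mon_mul, one_mul, mul_one] at h1
    have h3 := congrFun (mon_inj (fun k => by rw [one_mul]; exact ne_zero_of_pow (ha k)) h1).2 0
    simp only [one_mul, mul_one, hτj] at h3
    exact h3.symm
  refine ⟨a 0, ha 0, ?_⟩
  rw [hga, ← mon_one]
  congr 1
  ext j
  exact ha0 j

theorem card_roots {i : F} (hi : i ^ 2 = -1) (h2 : (2 : F) ≠ 0) : Nat.card (rootsOfUnity 4 F) = 4 := by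
  have h1 : IsPrimitiveRoot i 4 := by
    refine IsPrimitiveRoot.mk_of_lt i (by norm_num) ?_ ?_
    · calc i ^ 4 = (i ^ 2) ^ 2 := by ring
        _ = 1 := by rw [hi]; ring
    · intro l hl hl4 h
      have hcases : l = 1 ∨ l = 2 ∨ l = 3 := by omega
      rcases hcases with rfl | rfl | rfl
      · rw [pow_one] at h
        rw [h, one_pow] at hi
        apply h2
        linear_combination hi
      · rw [hi] at h
        apply h2
        linear_combination -h
      · have : i = -1 := by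
          have h3 : i ^ 3 = i ^ 2 * i := by ring
          rw [h3, hi] at h
          linear_combination -h
        rw [this] at hi
        apply h2
        linear_combination hi
  exact h1.card_rootsOfUnity

/-- the fourth coefficient -/
def cf (σ : Perm (Fin 4)) (c : Fin 3 → rootsOfUnity 4 F) : Fin 4 → F :=
  Fin.snoc (α := fun _ => F) (fun j => ((c j : Fˣ) : F)) ((((Perm.sign σ : ℤ) : F) * ∏ j, ((c j : Fˣ) : F))⁻¹)

theorem sign_sq (u : ℤˣ) : ((u : ℤ) : F) * ((u : ℤ) : F) = 1 := by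
  rcases Int.units_eq_one_or u with h | h <;> rw [h] <;> simp

theorem root_pow (c : rootsOfUnity 4 F) : ((c : Fˣ) : F) ^ 4 = 1 := by
  have := c.2
  rw [mem_rootsOfUnity] at this
  rw [← Units.val_pow_eq_pow_val, this, Units.val_one]

theorem cf_pow (σ : Perm (Fin 4)) (c : Fin 3 → rootsOfUnity 4 F) (j : Fin 4) : cf σ c j ^ 4 = 1 := by
  refine Fin.lastCases ?_ (fun j => ?_) j
  · rw [cf, Fin.snoc_last, inv_pow, mul_pow, ← Finset.prod_pow]
    have h1 : ((Perm.sign σ : ℤ) : F) ^ 4 = 1 := by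
      have := sign_sq (F := F) (Perm.sign σ)
      calc ((Perm.sign σ : ℤ) : F) ^ 4 = (((Perm.sign σ : ℤ) : F) * ((Perm.sign σ : ℤ) : F)) ^ 2 := by ring
        _ = 1 := by rw [this, one_pow]
    rw [h1, Finset.prod_eq_one (fun k _ => root_pow (c k)), one_mul, inv_one]
  · rw [cf, Fin.snoc_castSucc]
    exact root_pow _

theorem cf_det (σ : Perm (Fin 4)) (c : Fin 3 → rootsOfUnity 4 F) : (mon σ (cf σ c)).det = 1 := by
  rw [det_mon, Fin.prod_univ_castSucc]
  simp only [cf, Fin.snoc_castSucc, Fin.snoc_last]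
  rw [← mul_assoc]
  apply mul_inv_cancel₀
  refine mul_ne_zero ?_ (Finset.prod_ne_zero_iff.2 fun j _ => Units.ne_zero _)
  intro h
  have := sign_sq (F := F) (Perm.sign σ)
  rw [h, zero_mul] at this
  exact zero_ne_one this

/-- the order of `W` -/
theorem card_W {i : F} (hi : i ^ 2 = -1) (h2 : (2 : F) ≠ 0) : Nat.card (W F) = 1536 := by
  let Ψ : Perm (Fin 4) × (Fin 3 → rootsOfUnity 4 F) → W F := fun p =>
    ⟨⟨mon p.1 (cf p.1 p.2), cf_det p.1 p.2⟩, p.1, cf p.1 p.2, cf_pow p.1 p.2, rfl⟩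
  have hinj : Function.Injective Ψ := by
    rintro ⟨σ, c⟩ ⟨τ, d⟩ h
    have h1 : mon σ (cf σ c) = mon τ (cf τ d) := congrArg (fun w : W F => ((w : Matrix.SpecialLinearGroup (Fin 4) F) : Matrix (Fin 4) (Fin 4) F)) h
    obtain ⟨h3, h4⟩ := mon_inj (fun j => ne_zero_of_pow (cf_pow σ c j)) h1
    subst h3
    refine Prod.ext rfl (funext fun j => ?_)
    have h5 := congrFun h4 j.castSucc
    simp only [cf, Fin.snoc_castSucc] at h5
    exact Subtype.ext (Units.ext h5)
  have hsurj : Function.Surjective Ψ := by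
    rintro ⟨g, σ, a, ha, hg⟩
    let c : Fin 3 → rootsOfUnity 4 F := fun j => ⟨Units.mk0 (a j.castSucc) (ne_zero_of_pow (ha _)), by
      rw [mem_rootsOfUnity]
      ext
      rw [Units.val_pow_eq_pow_val, Units.val_mk0, ha, Units.val_one]⟩
    refine ⟨(σ, c), Subtype.ext (Subtype.ext ?_)⟩
    change mon σ (cf σ c) = (g : Matrix (Fin 4) (Fin 4) F)
    rw [hg]
    congr 1
    ext j
    refine Fin.lastCases ?_ (fun j => ?_) j
    · rw [cf, Fin.snoc_last]
      have hdet : (mon σ a).det = 1 := by rw [← hg]; exact g.2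
      rw [det_mon, Fin.prod_univ_castSucc, ← mul_assoc] at hdet
      exact (eq_inv_of_mul_eq_one_right hdet).symm
    · rw [cf, Fin.snoc_castSucc]
      rfl
  rw [← Nat.card_eq_of_bijective Ψ ⟨hinj, hsurj⟩, Nat.card_prod, Nat.card_pi]
  have h3 : Nat.card (Perm (Fin 4)) = 24 := by
    rw [Nat.card_eq_fintype_card, Fintype.card_perm, Fintype.card_fin]
    rfl
  rw [h3]
  simp only [card_roots hi h2, Finset.prod_const, Finset.card_univ, Fintype.card_fin]
  norm_num

section Hom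

variable {G : Type*} [Group G] (f : G →* Matrix.SpecialLinearGroup (Fin 4) F) (hf : Function.Injective f)

include hf in
theorem mem_center_of_scalar {x : G} {c : F}
    (h : (f x : Matrix (Fin 4) (Fin 4) F) = c • (1 : Matrix (Fin 4) (Fin 4) F)) : x ∈ Subgroup.center G := by
  rw [Subgroup.mem_center_iff]
  intro g
  apply hf
  rw [map_mul, map_mul]
  ext1
  rw [Matrix.SpecialLinearGroup.coe_mul, Matrix.SpecialLinearGroup.coe_mul, h]
  simp

variable (hW : W F ≤ f.range)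

include hW in
theorem scalar_of_mem_center (h2 : (2 : F) ≠ 0) {x : G} (hx : f x ∈ W F) (hc : x ∈ Subgroup.center G) :
    ∃ c : F, c ^ 4 = 1 ∧ (f x : Matrix (Fin 4) (Fin 4) F) = c • (1 : Matrix (Fin 4) (Fin 4) F) := by
  refine scalar_of_comm h2 hx fun w hw => ?_
  obtain ⟨y, rfl⟩ := hW hw
  rw [← map_mul, ← map_mul, (Subgroup.mem_center_iff.1 hc y)]

include hf hW in
theorem card_Wbar {i : F} (hi : i ^ 2 = -1) (h2 : (2 : F) ≠ 0) :
    Nat.card (((W F).comap f).map (QuotientGroup.mk' (Subgroup.center G))) = 384 := by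
  let W' := (W F).comap f
  have hW' : Nat.card W' = 1536 := by
    rw [← card_W hi h2, ← Subgroup.card_map_of_injective (K := W') hf, Subgroup.map_comap_eq_self hW]
  let φ : W' →* G ⧸ Subgroup.center G := (QuotientGroup.mk' (Subgroup.center G)).comp W'.subtype
  have hr : φ.range = W'.map (QuotientGroup.mk' (Subgroup.center G)) := by
    rw [MonoidHom.range_comp, Subgroup.range_subtype]
  have hker : Nat.card φ.ker = 4 := by
    rw [← card_roots hi h2]
    have hex : ∀ c : rootsOfUnity 4 F, ∃ x : φ.ker, (f x.1.1 : Matrix (Fin 4) (Fin 4) F) =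
        ((c : Fˣ) : F) • (1 : Matrix (Fin 4) (Fin 4) F) := by
      intro c
      have hdet : (mon 1 (fun _ => ((c : Fˣ) : F))).det = 1 := by
        rw [det_mon, Perm.sign_one, Finset.prod_const, Finset.card_univ, Fintype.card_fin, root_pow]
        simp
      have hmem : (⟨mon 1 (fun _ => ((c : Fˣ) : F)), hdet⟩ : Matrix.SpecialLinearGroup (Fin 4) F) ∈ W F :=
        ⟨1, fun _ => ((c : Fˣ) : F), fun _ => root_pow c, rfl⟩
      obtain ⟨x, hx⟩ := hW hmem
      have hx' : (f x : Matrix (Fin 4) (Fin 4) F) = ((c : Fˣ) : F) • (1 : Matrix (Fin 4) (Fin 4) F) := by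
        rw [hx, ← mon_one]
      refine ⟨⟨⟨x, ?_⟩, ?_⟩, hx'⟩
      · change f x ∈ W F
        rw [hx]
        exact hmem
      · rw [MonoidHom.mem_ker]
        change ((x : G) : G ⧸ Subgroup.center G) = 1
        rw [QuotientGroup.eq_one_iff]
        exact mem_center_of_scalar f hf hx'
    choose Φ hΦ using hex
    refine (Nat.card_eq_of_bijective Φ ⟨?_, ?_⟩).symm
    · intro c d h
      have h1 : (f (Φ c).1.1 : Matrix (Fin 4) (Fin 4) F) = f (Φ d).1.1 := by rw [h]
      rw [hΦ, hΦ] at h1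
      have h3 := congrFun (congrFun h1 0) 0
      simp only [Matrix.smul_apply, Matrix.one_apply_eq, smul_eq_mul, mul_one] at h3
      exact Subtype.ext (Units.ext h3)
    · rintro ⟨⟨x, hx⟩, hx'⟩
      have hxc : x ∈ Subgroup.center G := by
        rw [MonoidHom.mem_ker] at hx'
        exact (QuotientGroup.eq_one_iff x).1 hx'
      obtain ⟨c, hc, hc'⟩ := scalar_of_mem_center f hW h2 hx hxc
      let c' : rootsOfUnity 4 F := ⟨Units.mk0 c (ne_zero_of_pow hc), by
        rw [mem_rootsOfUnity]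
        ext
        rw [Units.val_pow_eq_pow_val, Units.val_mk0, hc, Units.val_one]⟩
      refine ⟨c', Subtype.ext (Subtype.ext (hf (Subtype.ext ?_)))⟩
      rw [hΦ]
      change c • (1 : Matrix (Fin 4) (Fin 4) F) = (f x : Matrix (Fin 4) (Fin 4) F)
      rw [hc']
  have h3 := Subgroup.card_eq_card_quotient_mul_card_subgroup φ.ker
  rw [Nat.card_congr (QuotientGroup.quotientKerEquivRange φ).toEquiv, hker, hW', hr] at h3
  change Nat.card (W'.map (QuotientGroup.mk' (Subgroup.center G))) = 384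
  omega

include hf hW in
/-- the main statement -/
theorem lower_of_hom [Finite G] {i : F} (hi : i ^ 2 = -1) (h2 : (2 : F) ≠ 0)
    (hcard : (Nat.card (G ⧸ Subgroup.center G)).factorization 2 = 7) (S : Sylow 2 (G ⧸ Subgroup.center G)) :
    Lower ↥(S : Subgroup (G ⧸ Subgroup.center G)) 4 := by
  have hz : ∀ x y : G, ∀ c : F, (f x : Matrix (Fin 4) (Fin 4) F) = c • (f y : Matrix (Fin 4) (Fin 4) F) →
      ((x : G) : G ⧸ Subgroup.center G) = y := by
    intro x y c h
    rw [eq_comm, QuotientGroup.eq]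
    refine mem_center_of_scalar f hf (c := c) ?_
    rw [map_mul, Matrix.SpecialLinearGroup.coe_mul, h, Matrix.mul_smul, ← Matrix.SpecialLinearGroup.coe_mul, ← map_mul,
      inv_mul_cancel, map_one, Matrix.SpecialLinearGroup.coe_one]
  refine lower_of (((W F).comap f).map (QuotientGroup.mk' (Subgroup.center G)))
    (((E F).comap f).map (QuotientGroup.mk' (Subgroup.center G)))
    (Subgroup.map_mono (Subgroup.comap_mono E_le_W)) ?_ ?_ ?_ ?_ S
  · rintro _ ⟨w, hw, rfl⟩ _ ⟨e, he, rfl⟩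
    refine ⟨w * e * w⁻¹, ?_, by simp only [map_mul, map_inv]⟩
    change f (w * e * w⁻¹) ∈ E F
    rw [map_mul, map_mul, map_inv]
    exact W_norm hw he
  · rw [elemAb_iff]
    constructor
    · rintro _ ⟨x, hx, rfl⟩ _ ⟨y, hy, rfl⟩
      obtain ⟨c, hc⟩ := E_comm h2 hx hy
      rw [← map_mul, ← map_mul]
      exact hz _ _ c (by rw [map_mul, map_mul]; exact hc)
    · rintro _ ⟨x, hx, rfl⟩
      obtain ⟨c, hc⟩ := E_sq h2 hx
      rw [← map_mul, ← map_one (QuotientGroup.mk' (Subgroup.center G))]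
      exact hz _ _ c (by rw [map_mul, map_one, Matrix.SpecialLinearGroup.coe_one]; exact hc)
  · rw [card_Wbar f hf hW hi h2, hcard]
    have : (384 : ℕ) = 2 ^ 7 * 3 := by norm_num
    rw [this, Nat.factorization_mul (by norm_num) (by norm_num), Nat.Prime.factorization_pow Nat.prime_two,
      Nat.Prime.factorization Nat.prime_three]
    simp
  · -- sixteen elements
    let X := {p : (Fin 4 → ℤˣ) × Perm (Fin 4) // (∏ j, p.1 j) = 1 ∧ p.1 0 = 1 ∧ IsV p.2}
    have hX : Nat.card X = 2 ^ 4 := by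
      rw [Nat.card_eq_fintype_card]
      decide +kernel
    rw [← hX]
    have hdet : ∀ p : X, (mon p.1.2 (fun j => ((p.1.1 j : ℤ) : F))).det = 1 := by
      intro p
      rw [det_mon, isV_sign _ p.2.2.2]
      have : ∏ k, ((p.1.1 k : ℤ) : F) = (((∏ k, p.1.1 k : ℤˣ) : ℤ) : F) := by rw [Units.coe_prod, Int.cast_prod]
      rw [this, p.2.1]
      simp
    have hmem : ∀ p : X, (⟨mon p.1.2 (fun j => ((p.1.1 j : ℤ) : F)), hdet p⟩ : Matrix.SpecialLinearGroup (Fin 4) F) ∈ E F := by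
      intro p
      refine ⟨p.1.2, _, p.2.2.2, fun j => ?_, fun j k => ?_, rfl⟩
      · calc ((p.1.1 j : ℤ) : F) ^ 4 = (((p.1.1 j : ℤ) : F) * ((p.1.1 j : ℤ) : F)) ^ 2 := by ring
          _ = 1 := by rw [sign_sq, one_pow]
      · rw [pow_two, pow_two, sign_sq, sign_sq]
    choose Φ hΦ using fun p : X => hW (E_le_W (hmem p))
    refine Nat.card_le_card_of_injective (fun p : X => (⟨(QuotientGroup.mk' (Subgroup.center G)) (Φ p), Φ p, by
      change f (Φ p) ∈ E F
      rw [hΦ]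
      exact hmem p, rfl⟩ : (((E F).comap f).map (QuotientGroup.mk' (Subgroup.center G))))) ?_
    intro p p' h
    have h1 : ((Φ p : G) : G ⧸ Subgroup.center G) = Φ p' := congrArg Subtype.val h
    rw [QuotientGroup.eq] at h1
    obtain ⟨c, -, hc⟩ := scalar_of_mem_center f hW h2 (x := (Φ p)⁻¹ * Φ p') (by
      rw [map_mul, map_inv]
      refine mul_mem (inv_mem ?_) ?_
      · rw [hΦ]; exact E_le_W (hmem p)
      · rw [hΦ]; exact E_le_W (hmem p')) h1
    have h3 : (f (Φ p') : Matrix (Fin 4) (Fin 4) F) = c • (f (Φ p) : Matrix (Fin 4) (Fin 4) F) := by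
      have : Φ p' = Φ p * ((Φ p)⁻¹ * Φ p') := by group
      rw [this, map_mul, Matrix.SpecialLinearGroup.coe_mul, hc, Matrix.mul_smul, Matrix.mul_one]
    rw [hΦ, hΦ] at h3
    change mon p'.1.2 (fun j => ((p'.1.1 j : ℤ) : F)) = c • mon p.1.2 (fun j => ((p.1.1 j : ℤ) : F)) at h3
    have h4 : c • mon p.1.2 (fun j => ((p.1.1 j : ℤ) : F)) = mon p.1.2 (fun j => c * ((p.1.1 j : ℤ) : F)) := by
      ext i j
      rw [Matrix.smul_apply, mon_apply, mon_apply, smul_eq_mul, mul_ite, mul_zero]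
    rw [h4] at h3
    have hne : ∀ j, ((p'.1.1 j : ℤ) : F) ≠ 0 := by
      intro j h
      have := sign_sq (F := F) (p'.1.1 j)
      rw [h, zero_mul] at this
      exact zero_ne_one this
    obtain ⟨h5, h6⟩ := mon_inj hne h3
    have h7 := congrFun h6 0
    simp only [p.2.2.1, p'.2.2.1, Units.val_one, Int.cast_one, mul_one] at h7
    refine Subtype.ext (Prod.ext (funext fun j => ?_) h5.symm)
    have h8 := congrFun h6 j
    simp only [← h7, one_mul] at h8
    rcases Int.units_eq_one_or (p.1.1 j) with h9 | h9 <;> rcases Int.units_eq_one_or (p'.1.1 j) with h10 | h10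
    · rw [h9, h10]
    · exfalso
      rw [h9, h10] at h8
      apply h2
      simp only [Units.val_one, Units.val_neg, Int.cast_one, Int.cast_neg] at h8
      linear_combination -h8
    · exfalso
      rw [h9, h10] at h8
      apply h2
      simp only [Units.val_one, Units.val_neg, Int.cast_one, Int.cast_neg] at h8
      linear_combination h8
    · rw [h9, h10]

end Hom

end Cfsg.Agent.H956.MonoFour
end

-- part: H956/NormE8
section
/-!
# Normal elementary abelian subgroups of the Sylow 2-subgroups of `PSL_4(q)`, `q = 5 (mod 8)`, and `PSU_4(q)`, `q = 3 (mod 8)`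
-/

set_option autoImplicit false

namespace Cfsg.Agent.H956.NormE8

open Matrix Equiv
open Cfsg.Agent.H100.NormRank Cfsg.Agent.H956.MonoFour

theorem Lower.mono {G : Type*} [Group G] {k l : ℕ} (hkl : k ≤ l) (h : Lower G l) : Lower G k := by
  obtain ⟨E, h1, h2, h3⟩ := h
  exact ⟨E, h1, h2, (Nat.pow_le_pow_right (by norm_num) hkl).trans h3⟩

theorem fact_two {N m : ℕ} (h : N = 128 * m) (hm : ¬ 2 ∣ m) : N.factorization 2 = 7 := by
  have hm0 : m ≠ 0 := by
    rintro rfl
    exact hm (dvd_zero 2)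
  rw [h, Nat.factorization_mul (by norm_num) hm0, show (128 : ℕ) = 2 ^ 7 by norm_num,
    Nat.Prime.factorization_pow Nat.prime_two, Finsupp.add_apply, Nat.factorization_eq_zero_of_not_dvd hm]
  simp

theorem odd_mul' {a b : ℕ} (ha : ¬ 2 ∣ a) (hb : ¬ 2 ∣ b) : ¬ 2 ∣ a * b := by
  intro h
  rcases (Nat.Prime.dvd_mul Nat.prime_two).1 h with h | h
  · exact ha h
  · exact hb h

theorem odd_pow' {a : ℕ} (ha : ¬ 2 ∣ a) (n : ℕ) : ¬ 2 ∣ a ^ n := fun h => ha (Nat.Prime.dvd_of_dvd_pow Nat.prime_two h)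

/-- the 2-part of the order of `PSL_4(q)` -/
theorem fact_psl {F : Type} [Field F] [Fintype F] (hF : Fintype.card F % 8 = 5) :
    (Nat.card (Matrix.ProjectiveSpecialLinearGroup (Fin 4) F)).factorization 2 = 7 := by
  obtain ⟨k, hk⟩ : ∃ k, Fintype.card F = 8 * k + 5 := ⟨Fintype.card F / 8, by omega⟩
  have h := Cfsg.Agent.S0243.result hk 4 (by norm_num)
  generalize Nat.card (Matrix.ProjectiveSpecialLinearGroup (Fin 4) F) = N at h ⊢
  have h1 : 8 * k + 5 - 1 = 4 * (2 * k + 1) := by omega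
  rw [h1, Nat.gcd_mul_right_right] at h
  simp only [Fin.prod_univ_four] at h
  have e0 : (8 * k + 5) ^ 4 - (8 * k + 5) ^ ((0 : Fin 4) : ℕ) = 16 * ((2 * k + 1) * (4 * k + 3) * (32 * k ^ 2 + 40 * k + 13)) := by
    apply Nat.sub_eq_of_eq_add
    simp only [Fin.val_zero]
    ring
  have e1 : (8 * k + 5) ^ 4 - (8 * k + 5) ^ ((1 : Fin 4) : ℕ) = (8 * k + 5) * (4 * ((2 * k + 1) * ((8 * k + 5) ^ 2 + (8 * k + 5) + 1))) := by
    apply Nat.sub_eq_of_eq_add
    simp only [Fin.val_one]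
    ring
  have e2 : (8 * k + 5) ^ 4 - (8 * k + 5) ^ ((2 : Fin 4) : ℕ) = (8 * k + 5) ^ 2 * (8 * ((2 * k + 1) * (4 * k + 3))) := by
    apply Nat.sub_eq_of_eq_add
    simp only [Fin.val_two]
    ring
  have e3 : (8 * k + 5) ^ 4 - (8 * k + 5) ^ ((3 : Fin 4) : ℕ) = (8 * k + 5) ^ 3 * (4 * (2 * k + 1)) := by
    apply Nat.sub_eq_of_eq_add
    have : ((3 : Fin 4) : ℕ) = 3 := rfl
    rw [this]
    ring
  rw [e0, e1, e2, e3] at h
  have hN : N = 128 * ((8 * k + 5) ^ 6 * (2 * k + 1) ^ 3 * (4 * k + 3) ^ 2 * (32 * k ^ 2 + 40 * k + 13) *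
      ((8 * k + 5) ^ 2 + (8 * k + 5) + 1)) := by
    have hpos : 0 < 4 * (4 * (2 * k + 1)) := by (clear * -; positivity)
    apply Nat.eq_of_mul_eq_mul_left hpos
    rw [mul_assoc, h]
    ring
  refine fact_two hN ?_
  refine odd_mul' (odd_mul' (odd_mul' (odd_mul' (odd_pow' (by omega) _) (odd_pow' (by omega) _)) (odd_pow' (by omega) _)) ?_) ?_
  · have : 32 * k ^ 2 + 40 * k + 13 = 2 * (16 * k ^ 2 + 20 * k + 6) + 1 := by ring
    omega
  · have : (8 * k + 5) ^ 2 + (8 * k + 5) + 1 = 2 * (32 * k ^ 2 + 44 * k + 15) + 1 := by ring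
    omega

/-- the 2-part of the order of `PSU_4(q)` -/
theorem fact_psu {F : Type} [Field F] [Fintype F] {q : ℕ} (hF : Fintype.card F = q ^ 2) (hq : q % 8 = 3) :
    (Nat.card (Cfsg.PSU 4 F q)).factorization 2 = 7 := by
  have h := Cfsg.Agent.S0280.result hF 4 (by norm_num)
  generalize Nat.card (Cfsg.PSU 4 F q) = N at h ⊢
  obtain ⟨k, hk⟩ : ∃ k, q = 8 * k + 3 := ⟨q / 8, by omega⟩
  subst hk
  have h1 : 8 * k + 3 + 1 = 4 * (2 * k + 1) := by omega
  simp only [Finset.prod_range_succ, Finset.prod_range_zero, one_mul] at h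
  have e1 : (if Even 1 then (8 * k + 3) ^ (1 + 1) + 1 else (8 * k + 3) ^ (1 + 1) - 1) = 8 * ((2 * k + 1) * (4 * k + 1)) := by
    rw [if_neg (by decide)]
    apply Nat.sub_eq_of_eq_add
    ring
  have e0 : (if Even 0 then (8 * k + 3) ^ (0 + 1) + 1 else (8 * k + 3) ^ (0 + 1) - 1) = 4 * (2 * k + 1) := by
    rw [if_pos (by decide), zero_add, pow_one]
    omega
  have e2 : (if Even 2 then (8 * k + 3) ^ (2 + 1) + 1 else (8 * k + 3) ^ (2 + 1) - 1) =
      4 * ((2 * k + 1) * (64 * k ^ 2 + 40 * k + 7)) := by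
    rw [if_pos (by decide)]
    ring
  have e3 : (if Even 3 then (8 * k + 3) ^ (3 + 1) + 1 else (8 * k + 3) ^ (3 + 1) - 1) =
      16 * ((2 * k + 1) * (4 * k + 1) * (32 * k ^ 2 + 24 * k + 5)) := by
    rw [if_neg (by decide)]
    apply Nat.sub_eq_of_eq_add
    ring
  rw [h1, Nat.gcd_mul_right_right, e0, e1, e2, e3] at h
  have hN : N = 128 * ((8 * k + 3) ^ 6 * (2 * k + 1) ^ 3 * (4 * k + 1) ^ 2 * (32 * k ^ 2 + 24 * k + 5) *
      (64 * k ^ 2 + 40 * k + 7)) := by
    have hpos : 0 < 4 * (4 * (2 * k + 1)) := by (clear * -; positivity)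
    apply Nat.eq_of_mul_eq_mul_left hpos
    rw [mul_assoc, h]
    norm_num only []
    ring
  refine fact_two hN ?_
  refine odd_mul' (odd_mul' (odd_mul' (odd_mul' (odd_pow' (by omega) _) (odd_pow' (by omega) _)) (odd_pow' (by omega) _)) ?_) ?_
  · have : 32 * k ^ 2 + 24 * k + 5 = 2 * (16 * k ^ 2 + 12 * k + 2) + 1 := by ring
    omega
  · have : 64 * k ^ 2 + 40 * k + 7 = 2 * (32 * k ^ 2 + 20 * k + 3) + 1 := by ring
    omega

theorem two_ne_zero' {F : Type} [Field F] [Fintype F] (h : Fintype.card F % 2 = 1) : (2 : F) ≠ 0 := by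
  intro h2
  have h3 : ringChar F = 2 := by
    have h4 : ringChar F ∣ 2 := (ringChar.spec F 2).1 (by exact_mod_cast h2)
    exact ((Nat.dvd_prime Nat.prime_two).1 h4).resolve_left (CharP.ringChar_ne_one)
  rw [FiniteField.even_card_iff_char_two] at h3
  omega

theorem lower_L45 {F : Type} [Field F] [Fintype F] (hF : Fintype.card F % 8 = 5)
    (S : Sylow 2 (Matrix.ProjectiveSpecialLinearGroup (Fin 4) F)) :
    Lower ↥(S : Subgroup (Matrix.ProjectiveSpecialLinearGroup (Fin 4) F)) 3 := by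
  have h2 : (2 : F) ≠ 0 := two_ne_zero' (by omega)
  obtain ⟨i, hi⟩ := FiniteField.isSquare_neg_one_iff.2 (show Fintype.card F % 4 ≠ 3 by omega)
  refine Lower.mono (by norm_num) (lower_of_hom (MonoidHom.id (Matrix.SpecialLinearGroup (Fin 4) F)) (fun _ _ h => h)
    (fun g _ => ⟨g, rfl⟩) (i := i) (by rw [pow_two, hi]) h2 (fact_psl hF) S)

/-- monomial matrices are unitary -/
theorem W_le_SU {F : Type} [Field F] {q : ℕ} (hq : q % 4 = 3) : W F ≤ Cfsg.SU 4 F q := by
  rintro g ⟨σ, a, ha, hg⟩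
  have hmul : ∀ (u : Fin 4 → F) (j : Fin 4), (mon σ a *ᵥ u) (σ j) = a j * u j := by
    intro u j
    rw [Matrix.mulVec, dotProduct, Finset.sum_eq_single j]
    · rw [mon_apply, if_pos rfl]
    · intro k _ hk
      rw [mon_apply, if_neg (fun h => hk (σ.injective h).symm), zero_mul]
    · intro h
      exact absurd (Finset.mem_univ _) h
  have haq : ∀ j, a j * a j ^ q = 1 := by
    intro j
    obtain ⟨m, hm⟩ : ∃ m, q + 1 = 4 * m := ⟨(q + 1) / 4, by omega⟩
    rw [← pow_succ', hm, pow_mul, ha, one_pow]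
  intro u v
  change Cfsg.hermForm 4 F q ((g : Matrix (Fin 4) (Fin 4) F) *ᵥ u) ((g : Matrix (Fin 4) (Fin 4) F) *ᵥ v) = Cfsg.hermForm 4 F q u v
  rw [hg]
  unfold Cfsg.hermForm
  rw [← Equiv.sum_comp σ]
  refine Finset.sum_congr rfl fun j _ => ?_
  rw [hmul, hmul, mul_pow]
  linear_combination (u j * v j ^ q) * haq j

theorem lower_U43 {F : Type} [Field F] [Fintype F] {q : ℕ} (hF : Fintype.card F = q ^ 2) (hq : q % 8 = 3)
    (S : Sylow 2 (Cfsg.PSU 4 F q)) : Lower ↥(S : Subgroup (Cfsg.PSU 4 F q)) 3 := by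
  obtain ⟨k, hk⟩ : ∃ k, q = 8 * k + 3 := ⟨q / 8, by omega⟩
  have hF' : Fintype.card F = 8 * (8 * k ^ 2 + 6 * k + 1) + 1 := by rw [hF, hk]; ring
  have h2 : (2 : F) ≠ 0 := two_ne_zero' (by omega)
  obtain ⟨i, hi⟩ := FiniteField.isSquare_neg_one_iff.2 (show Fintype.card F % 4 ≠ 3 by omega)
  refine Lower.mono (by norm_num) (lower_of_hom (Cfsg.SU 4 F q).subtype (Cfsg.SU 4 F q).subtype_injective
    (fun g hg => ⟨⟨g, W_le_SU (by omega) hg⟩, rfl⟩) (i := i) (by rw [pow_two, hi]) h2 (fact_psu hF hq) S)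

end Cfsg.Agent.H956.NormE8
end

-- part: H991/FourBase
section
/-!
# 2-central four-groups: the good position (helper991)

Tasks 280-283 (for S3102).
-/

set_option autoImplicit false

namespace Cfsg.Agent.H991.FG

open Cfsg

/-- **Good position.** Up to conjugation `z` commutes with a given 2-subgroup `D`. -/
theorem exists_commute {G : Type*} [Group G] [Finite G] {z : G} (hz : IsTwoCentralInvolution z) (D : Subgroup G)
    (hD : IsPGroup 2 D) : ∃ g : G, ∀ d ∈ D, d * (g * z * g⁻¹) = g * z * g⁻¹ * d := by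
  obtain ⟨P, hP, hc⟩ := hz.2
  obtain ⟨Q, hQ⟩ := hD.exists_le_sylow
  obtain ⟨g, hg⟩ := MulAction.exists_smul_eq G P Q
  refine ⟨g, ?_⟩
  intro d hd
  have h1 : d ∈ ((g • P : Sylow 2 G) : Subgroup G) := by rw [hg]; exact hQ hd
  rw [Sylow.coe_subgroup_smul] at h1
  obtain ⟨y, hy, rfl⟩ := Subgroup.mem_map.1 h1
  change g * y * g⁻¹ * (g * z * g⁻¹) = g * z * g⁻¹ * (g * y * g⁻¹)
  have := hc y hy
  calc g * y * g⁻¹ * (g * z * g⁻¹) = g * (y * z) * g⁻¹ := by group
    _ = g * (z * y) * g⁻¹ := by rw [this]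
    _ = _ := by group

end Cfsg.Agent.H991.FG
end

private theorem dce_269934792397 : _root_.True := by
  try have : _root_.True := by simp only [_root_.Cfsg.Agent.H956.MonoFour.cf.eq_1]
  exact _root_.True.intro
end
end

-- part: H285/FsQ
section
set_option linter.all false
open scoped Cfsg.Agent.FastGrp

-- part: H868/NormE8M
section
/-!
# Normal elementary abelian subgroups of order 8 in the Sylow 2-subgroups of `McL` (helper868)
-/

set_option autoImplicit false

namespace Cfsg.Agent.H868.NormE8M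

open Cfsg Cfsg.Agent.H100.NormRank Cfsg.Agent.H326.NormEight Cfsg.Agent.Schreier.SylMTwentyTwo

theorem ne8_T : NE8 T := by
  have : Fact (Nat.Prime 2) := ⟨Nat.prime_two⟩
  have hc := Cfsg.Agent.SporadicA.MathieuRecog.card_M22
  have hfin : Finite Spor.M22 := Nat.finite_of_card_ne_zero (by rw [hc]; norm_num)
  have e : T.subgroupOf Spor.M22 ≃* T := Subgroup.subgroupOfEquivOfLe T_le
  have h1 : Nat.card (T.subgroupOf Spor.M22) = 2 ^ (Nat.card Spor.M22).factorization 2 := by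
    rw [Nat.card_congr e.toEquiv, card_T, hc]
    have h2 : (443520 : ℕ).factorization 2 = 7 := by
      rw [show (443520 : ℕ) = 2 ^ 7 * 3465 by norm_num, Nat.factorization_mul (by norm_num) (by norm_num),
        Nat.Prime.factorization_pow Nat.prime_two, Finsupp.add_apply, Finsupp.single_eq_same,
        Nat.factorization_eq_zero_of_not_dvd (by norm_num)]
    rw [h2]
    norm_num
  have h3 := Cfsg.Agent.H326.ModelsB.m22 (G := Spor.M22) ⟨MulEquiv.refl _⟩ (Sylow.ofCard _ h1)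
  exact h3.congr e

theorem lower_McL {X : Type*} [Group X] [Finite X] (h : Cfsg.Spor.IsoMcL X) (S : Sylow 2 X) :
    Lower ↥(S : Subgroup X) 3 := by
  obtain ⟨e⟩ := h
  have : Finite Spor.McL := Finite.of_equiv _ e.toEquiv
  obtain ⟨P, ⟨f⟩⟩ := Cfsg.Agent.Schreier.McLaughlin.exists_sylow
  exact NormE8.lower_of_ne8 (of_equiv e (S := P) (ne8_T.congr f) S)

end Cfsg.Agent.H868.NormE8M
end

-- part: H868/NormE8G
section
/-!
# Normal elementary abelian subgroups of order 8 in the Sylow 2-subgroups of `G₂(q)`, `q ≡ 3, 5 (mod 8)` (helper868)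
-/

set_option autoImplicit false

namespace Cfsg.Agent.H868.NormE8G

open Cfsg Cfsg.Agent.H100.NormRank Cfsg.Agent.H326.NormEight
open Cfsg.Agent.ClassificationK.GTwoModel

theorem exists_m (q : ℕ) (h : q % 8 = 3 ∨ q % 8 = 5) : ∃ m, Odd m ∧ q ^ 2 - 1 = 4 * 2 ^ 1 * m := by
  rcases h with h | h
  · refine ⟨8 * (q / 8) ^ 2 + 6 * (q / 8) + 1, ⟨4 * (q / 8) ^ 2 + 3 * (q / 8), by ring⟩, ?_⟩
    have h1 : q = 8 * (q / 8) + 3 := by omega
    have h2 : q ^ 2 = 4 * 2 ^ 1 * (8 * (q / 8) ^ 2 + 6 * (q / 8) + 1) + 1 := by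
      conv_lhs => rw [h1]
      ring
    omega
  · refine ⟨8 * (q / 8) ^ 2 + 10 * (q / 8) + 3, ⟨4 * (q / 8) ^ 2 + 5 * (q / 8) + 1, by ring⟩, ?_⟩
    have h1 : q = 8 * (q / 8) + 5 := by omega
    have h2 : q ^ 2 = 4 * 2 ^ 1 * (8 * (q / 8) ^ 2 + 10 * (q / 8) + 3) + 1 := by
      conv_lhs => rw [h1]
      ring
    omega

theorem lower_G23 {F : Type} [Field F] [Fintype F] (hF : Fintype.card F % 8 = 3 ∨ Fintype.card F % 8 = 5)
    (S : Sylow 2 ↥(Cfsg.Lie.chevG2.group F)) : (Lower ↥(S : Subgroup ↥(Cfsg.Lie.chevG2.group F)) 3 :) := by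
  have hp : Fact (Nat.Prime 2) := ⟨Nat.prime_two⟩
  have hcard := Cfsg.Agent.S1059.result (F := F) rfl
  have hodd : Odd (Fintype.card F) := by
    rw [Nat.odd_iff]
    omega
  obtain ⟨k, hk, ⟨e⟩⟩ := ClassificationK.GTwoSylow.exists_equiv hodd hcard S
  obtain ⟨m, hm, hqm⟩ := exists_m _ hF
  have h1 : 4 * (2 * 2 ^ k) ^ 2 = 64 := by
    have h2 := S.card_eq_multiplicity
    rw [hcard, ClassificationK.GTwoSylow.factorization_card _ 1 m hodd Fintype.one_lt_card hm hqm] at h2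
    rw [← T.card_T, Nat.card_congr e.toEquiv]
    exact h2
  have h2 : k = 1 := by
    have h3 : 4 * (2 * 2 ^ k) ^ 2 = 16 * (2 ^ k) ^ 2 := by ring
    have h4 : (2 ^ k) ^ 2 = 4 := by omega
    have h5 : 2 ^ k = 2 := by nlinarith only [h1, Nat.zero_le (2 ^ k)]
    exact Nat.pow_right_injective le_rfl (by simpa using h5)
  subst h2
  exact NormE8.lower_of_ne8 (Cfsg.Agent.H326.Models.T_ne8.congr e)

end Cfsg.Agent.H868.NormE8G
end

-- part: H978/LowEight
section
/-!
# Normal elementary abelian subgroups of order 8 (for S3102)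

Conversion of `NE8` (helper326) to `Lower _ 3` (helper100): `A₈`, ..., `A₁₁`, `PSL₃(4)`, `Sz(8)`, `M₁₂`, `M₂₂`, `M₂₃`.
-/

set_option autoImplicit false

namespace Cfsg.Agent.H978.LowEight

open Cfsg.Agent.H100.NormRank Cfsg.Agent.H326.NormEight Cfsg.Agent.H326

theorem lower_of_ne8 {T : Type*} [Group T] (h : NE8 T) : Lower T 3 := by
  obtain ⟨V, h1, h2, h3⟩ := h
  refine ⟨V, h1, ?_, h3⟩
  have h4 := isMulCommutative_of_sq h2
  rw [elemAb_iff]
  exact ⟨fun a ha b hb => congrArg Subtype.val (h4.is_comm.comm (⟨a, ha⟩ : V) ⟨b, hb⟩), h2⟩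

theorem lower_alt {n : ℕ} (h8 : 8 ≤ n) (h11 : n ≤ 11) (S : Sylow 2 (alternatingGroup (Fin n))) :
    Lower ↥(S : Subgroup (alternatingGroup (Fin n))) 3 := lower_of_ne8 (Models.alt n h8 h11 S)

theorem lower_L34 {F : Type} [Field F] [Fintype F] (hF : Fintype.card F = 4)
    (S : Sylow 2 (Matrix.ProjectiveSpecialLinearGroup (Fin 3) F)) :
    Lower ↥(S : Subgroup (Matrix.ProjectiveSpecialLinearGroup (Fin 3) F)) 3 :=
  lower_of_ne8 (ModelsB.psl34 hF (MulEquiv.refl _) S)

theorem lower_Sz8 {F : Type} [Field F] [Fintype F] (hF : Fintype.card F = 8) (S : Sylow 2 ↥(Cfsg.Lie.Sz F 4)) :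
    (Lower ↥(S : Subgroup ↥(Cfsg.Lie.Sz F 4)) 3 :) := by
  have hF' : Fintype.card F = 2 ^ (2 * 1 + 1) := by rw [hF]; norm_num
  have h1 := Cfsg.Agent.TypeUSz.Inv.shape_sz (m := 1) le_rfl hF' S
  exact lower_of_ne8 ⟨Subgroup.center S, inferInstance, fun x hx => h1.sq x hx,
    le_of_le_of_eq (by norm_num : 8 ≤ 2 ^ (2 * 1 + 1)) h1.card_center.symm⟩

end Cfsg.Agent.H978.LowEight
end

-- part: H991/FourQuat
section
/-!
# No 2-central normal four-group: two blocks of size two (helper991)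

Tasks 280, 281 (for S3102).
-/

set_option autoImplicit false

namespace Cfsg.Agent.H991.FG

open Cfsg Matrix Subgroup Cfsg.Agent.HoltZ Cfsg.Agent.HoltZ.Psl

/-- the 4 by 4 matrices -/
abbrev M4 (F : Type*) := Matrix (Fin 4) (Fin 4) F

section mats

variable {F : Type*} [Field F]

/-- the matrix `diag([x y; z w], 1)` -/
def uM (x y z w : F) : M4 F := !![x, y, 0, 0; z, w, 0, 0; 0, 0, 1, 0; 0, 0, 0, 1]

/-- the matrix `diag(1, [x y; z w])` -/
def lM (x y z w : F) : M4 F := !![1, 0, 0, 0; 0, 1, 0, 0; 0, 0, x, y; 0, 0, z, w]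

theorem uM_mul (x y z w x' y' z' w' : F) : uM x y z w * uM x' y' z' w' =
    uM (x * x' + y * z') (x * y' + y * w') (z * x' + w * z') (z * y' + w * w') := by
  ext i j
  (revert i j; simp only [uM, Matrix.mul_apply, Fin.sum_univ_four, _root_.Fin.forall_fin_succ, _root_.Matrix.of_apply, _root_.Matrix.cons_val', _root_.Matrix.cons_val_fin_one, Fin.isValue, _root_.Matrix.cons_val_zero, _root_.Matrix.cons_val_one, _root_.Matrix.cons_val, _root_.MulZeroClass.mul_zero, _root_.add_zero, _root_.Matrix.cons_val_succ, _root_.mul_one, _root_.zero_add, _root_.implies_true, _root_.and_self, _root_.and_true, _root_.MulZeroClass.zero_mul])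

/-- what commutes with both quaternion groups is `diag(p, p, s, s)` -/
theorem diag_of_comm {x y : F} (h2 : (2 : F) ≠ 0) (hxy : x ^ 2 + y ^ 2 = -1) {z : M4 F} (hdet : z.det = 1)
    {r1 r2 r3 r4 : F}
    (h1 : z * uM 0 1 (-1) 0 = r1 • (uM 0 1 (-1) 0 * z))
    (h1' : z * uM x y y (-x) = r2 • (uM x y y (-x) * z))
    (h3 : z * lM 0 1 (-1) 0 = r3 • (lM 0 1 (-1) 0 * z))
    (h3' : z * lM x y y (-x) = r4 • (lM x y y (-x) * z)) :
    ∃ p s : F, z = diagonal ![p, p, s, s] := by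
  obtain ⟨c, hc, h01⟩ := diag_of_comm_four h2 hxy hdet h1 h1' h3 h3'
  have h23 : c 2 = c 3 := by
    have e3 := congrFun (congrFun h3 2) 3
    have e30 := congrFun (congrFun h3 0) 0
    rw [hc, diagonal_mul, Matrix.smul_apply, mul_diagonal, smul_eq_mul] at e3 e30
    have hc0 : c 0 ≠ 0 := by
      intro h0
      rw [hc, det_diagonal, Fin.prod_univ_four, h0] at hdet
      simp at hdet
    change c 0 * 1 = r3 * (1 * c 0) at e30
    change c 2 * 1 = r3 * (1 * c 3) at e3
    have hr : r3 = 1 := by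
      have : (r3 - 1) * c 0 = 0 := by linear_combination -e30
      exact sub_eq_zero.1 ((mul_eq_zero.1 this).resolve_right hc0)
    rw [hr] at e3
    linear_combination e3
  refine ⟨c 0, c 2, ?_⟩
  rw [hc]
  congr 1
  funext i
  fin_cases i
  · rfl
  · exact h01.symm
  · rfl
  · exact h23.symm

end mats

/-- The data: a group of 4 by 4 matrices of determinant one containing two quaternion groups, and a quotient by
`±1`. -/
structure Dat {F : Type*} [Field F] (X P : Type*) [Group X] [Group P] (r s : F) where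
  /-- the matrices -/
  ρ : X →* _root_.Matrix.SpecialLinearGroup (Fin 4) F
  inj : Function.Injective ρ
  /-- the quotient -/
  π : X →* P
  surj : Function.Surjective π
  ker : ∀ g, π g = 1 ↔ (ρ g : M4 F) = 1 ∨ (ρ g : M4 F) = -1
  h2 : (2 : F) ≠ 0
  hrs : r ^ 2 + s ^ 2 = -1
  /-- the generators -/
  a1 : X
  /-- the generators -/
  b1 : X
  /-- the generators -/
  a2 : X
  /-- the generators -/
  b2 : X
  ha1 : (ρ a1 : M4 F) = uM 0 1 (-1) 0
  hb1 : (ρ b1 : M4 F) = uM r s s (-r)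
  ha2 : (ρ a2 : M4 F) = lM 0 1 (-1) 0
  hb2 : (ρ b2 : M4 F) = lM r s s (-r)
  K : ∀ (g h : X) (c : F), (∀ i, (ρ g : M4 F) i 0 = c * (ρ h : M4 F) i 0) → c ^ 2 ≠ -1

namespace Dat

variable {F : Type*} [Field F] {X P : Type*} [Group X] [Group P] {r s : F} (d : Dat X P r s)

/-- the matrix of an element -/
def M (g : X) : M4 F := (d.ρ g : M4 F)

theorem M_mul (g h : X) : d.M (g * h) = d.M g * d.M h := by
  unfold M; rw [map_mul]; rfl

theorem M_one : d.M 1 = 1 := by
  unfold M; rw [map_one]; rfl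

theorem M_inj {g h : X} (e : d.M g = d.M h) : g = h := d.inj (Subtype.ext e)

theorem π_eq_one {g : X} : d.π g = 1 ↔ d.M g = 1 ∨ d.M g = -1 := d.ker g

theorem π_eq {g h : X} (e : d.π g = d.π h) : d.M g = d.M h ∨ d.M g = - d.M h := by
  have h1 : d.π (g * h⁻¹) = 1 := by rw [map_mul, e, map_inv, mul_inv_cancel]
  have h3 : d.M g = d.M (g * h⁻¹) * d.M h := by rw [← M_mul, inv_mul_cancel_right]
  rcases d.π_eq_one.1 h1 with h2 | h2
  · left; rw [h3, h2, one_mul]
  · right; rw [h3, h2, neg_one_mul]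

theorem π_eq_of {g h : X} (e : d.M g = d.M h ∨ d.M g = - d.M h) : d.π g = d.π h := by
  rcases e with e | e
  · rw [d.M_inj e]
  · have h1 : d.M (g * h⁻¹) = -1 := by
      rw [M_mul, e, neg_mul, ← M_mul, mul_inv_cancel, M_one]
    have h2 := d.π_eq_one.2 (Or.inr h1)
    rwa [map_mul, map_inv, mul_inv_eq_one] at h2

/-- the involution `diag(-1, -1, 1, 1)` -/
def t : X := d.a1 * d.a1

theorem M_t : d.M d.t = diagonal ![-1, -1, 1, 1] := by
  unfold t
  rw [M_mul]
  unfold M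
  rw [d.ha1]
  ext i j
  (revert i j; simp only [uM, Matrix.mul_apply, Fin.sum_univ_four, _root_.Fin.forall_fin_succ, _root_.Matrix.of_apply, _root_.Matrix.cons_val', _root_.Matrix.cons_val_fin_one, Fin.isValue, _root_.Matrix.cons_val_zero, _root_.Matrix.cons_val_one, _root_.Matrix.cons_val, _root_.Nat.succ_eq_add_one, Nat.reduceAdd, _root_.MulZeroClass.mul_zero, _root_.mul_neg, _root_.mul_one, _root_.zero_add, _root_.add_zero, _root_.Matrix.cons_val_succ, _root_.Fin.succ_zero_eq_one, _root_.Fin.succ_one_eq_two, Fin.reduceSucc, _root_.IsEmpty.forall_iff, _root_.and_true, _root_.Matrix.diagonal_apply_eq, _root_.ne_eq, _root_.zero_ne_one, _root_.not_false_eq_true, _root_.Matrix.diagonal_apply_ne, Fin.reduceEq, _root_.and_self, _root_.Fin.succ_ne_zero, _root_.neg_eq_zero, _root_.true_and])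

/-- the 2-group -/
def D : Subgroup X := _root_.Subgroup.closure ({d.a1, d.b1} : Set X) ⊔ closure ({d.a2, d.b2} : Set X)

theorem a1_mem : d.a1 ∈ d.D := mem_sup_left (_root_.Subgroup.subset_closure (by simp))
theorem b1_mem : d.b1 ∈ d.D := mem_sup_left (_root_.Subgroup.subset_closure (by simp))
theorem a2_mem : d.a2 ∈ d.D := mem_sup_right (_root_.Subgroup.subset_closure (by simp))
theorem b2_mem : d.b2 ∈ d.D := mem_sup_right (_root_.Subgroup.subset_closure (by simp))

theorem isPGroup_D : IsPGroup 2 d.D := by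
  have h1 : (d.D.map d.ρ) = _root_.Subgroup.closure ({d.ρ d.a1, d.ρ d.b1} : Set _) ⊔ _root_.Subgroup.closure ({d.ρ d.a2, d.ρ d.b2} : Set _) := by
    unfold D
    rw [Subgroup.map_sup, MonoidHom.map_closure, MonoidHom.map_closure, Set.image_pair, Set.image_pair]
  have ha1 : d.ρ d.a1 = up 0 1 (-1) 0 (by ring) := Subtype.ext d.ha1
  have hb1 : d.ρ d.b1 = up r s s (-r) (by linear_combination -d.hrs) := Subtype.ext d.hb1
  have ha2 : d.ρ d.a2 = lo 0 1 (-1) 0 (by ring) := Subtype.ext d.ha2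
  have hb2 : d.ρ d.b2 = lo r s s (-r) (by linear_combination -d.hrs) := Subtype.ext d.hb2
  have h2 : IsPGroup 2 ↥(d.D.map d.ρ) := by
    rw [h1, ha1, hb1, ha2, hb2]
    refine isPGroup_sup (isPGroup_up d.hrs) (isPGroup_lo d.hrs) (commute_closure ?_)
    rintro a (rfl | rfl) b (rfl | rfl) <;> exact up_mul_lo _ _ _ _ _ _ _ _ _ _
  intro x
  obtain ⟨k, hk⟩ := h2 ⟨d.ρ x, mem_map_of_mem _ x.2⟩
  refine ⟨k, Subtype.ext (d.inj ?_)⟩
  have := congrArg Subtype.val hk
  simpa only [_root_.SubmonoidClass.coe_pow, _root_.map_pow, _root_.OneMemClass.coe_one, _root_.map_one, _root_.SubmonoidClass.mk_pow] using this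

/-- **Step 1.** -/
theorem step1 {u : P} (hu : orderOf u = 2) (hc : ∀ x ∈ d.D, d.π x * u = u * d.π x) : u = d.π d.t := by
  obtain ⟨g, rfl⟩ := d.surj u
  have hex : ∀ a ∈ d.D, ∃ k : F, d.M g * d.M a = k • (d.M a * d.M g) := by
    intro a ha
    have h1 := hc a ha
    rw [← map_mul, ← map_mul] at h1
    rcases d.π_eq h1.symm with h | h
    · exact ⟨1, by rw [one_smul, ← M_mul, h, M_mul]⟩
    · exact ⟨-1, by rw [neg_one_smul, ← M_mul, h, M_mul]⟩
  obtain ⟨k1, e1⟩ := hex _ d.a1_mem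
  obtain ⟨k2, e2⟩ := hex _ d.b1_mem
  obtain ⟨k3, e3⟩ := hex _ d.a2_mem
  obtain ⟨k4, e4⟩ := hex _ d.b2_mem
  unfold M at e1 e2 e3 e4
  rw [d.ha1] at e1
  rw [d.hb1] at e2
  rw [d.ha2] at e3
  rw [d.hb2] at e4
  obtain ⟨p, q, hpq⟩ := diag_of_comm d.h2 d.hrs (d.ρ g).2 e1 e2 e3 e4
  change d.M g = _ at hpq
  have hu2 : d.π (g * g) = 1 := by
    rw [map_mul, ← pow_two, ← hu, pow_orderOf_eq_one]
  have hK := d.K g 1 p (by
    intro i
    change d.M g i 0 = p * d.M 1 i 0
    rw [hpq, M_one, diagonal_apply, Matrix.one_apply]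
    (revert i; simp only [_root_.Fin.forall_fin_succ, _root_.Nat.succ_eq_add_one, Nat.reduceAdd, Fin.isValue, _root_.mul_ite, _root_.mul_one, _root_.MulZeroClass.mul_zero, ↓reduceIte, _root_.Matrix.cons_val_zero, _root_.Fin.succ_ne_zero, _root_.implies_true, _root_.and_self]))
  have hsq : p * p = 1 ∧ q * q = 1 := by
    rcases d.π_eq_one.1 hu2 with h | h
    · rw [M_mul, hpq, diagonal_mul_diagonal] at h
      have h0 := congrFun (congrFun h 0) 0
      have h3 := congrFun (congrFun h 2) 2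
      simp only [_root_.Nat.succ_eq_add_one, _root_.Nat.reduceAdd, _root_.Fin.isValue, _root_.Matrix.diagonal_apply_eq, _root_.Matrix.cons_val_zero, _root_.Matrix.one_apply_eq, _root_.Matrix.cons_val] at h0 h3
      exact ⟨h0, h3⟩
    · rw [M_mul, hpq, diagonal_mul_diagonal] at h
      have h0 := congrFun (congrFun h 0) 0
      simp at h0
      exact absurd (by rw [pow_two, h0]) hK
  have hne : d.M g ≠ 1 ∧ d.M g ≠ -1 := by
    constructor <;> intro h
    · rw [d.π_eq_one.2 (Or.inl h), orderOf_one] at hu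
      exact absurd hu (by norm_num)
    · rw [d.π_eq_one.2 (Or.inr h), orderOf_one] at hu
      exact absurd hu (by norm_num)
  apply d.π_eq_of
  rw [M_t, hpq]
  rw [hpq] at hne
  have e1 : diagonal ![(1 : F), 1, 1, 1] = 1 := by
    rw [← diagonal_one]; congr 1; funext i; fin_cases i <;> rfl
  have e2 : diagonal ![(-1 : F), -1, -1, -1] = -1 := by
    rw [← diagonal_one, diagonal_neg]; congr 1; funext i; fin_cases i <;> rfl
  rcases mul_self_eq_one_iff.1 hsq.1 with hp | hp <;> rcases mul_self_eq_one_iff.1 hsq.2 with hq | hq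
  · rw [hp, hq] at hne; exact absurd e1 hne.1
  · right
    rw [hp, hq, diagonal_neg]; congr 1; funext i; (revert i; simp only [_root_.Fin.forall_fin_succ, _root_.Nat.succ_eq_add_one, Nat.reduceAdd, Fin.isValue, _root_.Matrix.cons_val_zero, _root_.neg_neg, _root_.Matrix.cons_val_succ, _root_.Matrix.cons_val_fin_one, _root_.implies_true, _root_.and_self])
  · left
    rw [hp, hq]
  · rw [hp, hq] at hne; exact absurd e2 hne.2

/-- the lifts of 2-central involutions -/
theorem lift_two_central [Finite X] {g : X} (hg : IsTwoCentralInvolution (d.π g)) : g * g = 1 ∧ (d.M g).trace = 0 := by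
  have : Finite P := Finite.of_surjective d.π d.surj
  obtain ⟨k, hk⟩ := exists_commute hg (d.D.map d.π) (d.isPGroup_D.map _)
  obtain ⟨y, rfl⟩ := d.surj k
  have h1 : d.π (y * g * y⁻¹) = d.π d.t := by
    rw [map_mul, map_mul, map_inv]
    refine d.step1 ?_ (fun x hx => hk _ (mem_map_of_mem _ hx))
    rw [← hg.1]
    exact (MulAut.conj (d.π y)).orderOf_eq (d.π g)
  have h3 : d.M (y * g * y⁻¹) * d.M (y * g * y⁻¹) = 1 ∧ (d.M (y * g * y⁻¹)).trace = 0 := by
    rcases d.π_eq h1 with h | h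
    · rw [h, M_t, diagonal_mul_diagonal, trace_diagonal]
      constructor
      · rw [← diagonal_one]; congr 1; funext i; fin_cases i <;> simp
      · simp [Fin.sum_univ_four]
    · rw [h, M_t, neg_mul_neg, diagonal_mul_diagonal, trace_neg, trace_diagonal]
      constructor
      · rw [← diagonal_one]; congr 1; funext i; fin_cases i <;> simp
      · simp [Fin.sum_univ_four]
  constructor
  · have h4 : (y * g * y⁻¹) * (y * g * y⁻¹) = 1 := d.M_inj (by rw [M_mul, h3.1, M_one])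
    calc g * g = y⁻¹ * ((y * g * y⁻¹) * (y * g * y⁻¹)) * y := by group
      _ = 1 := by rw [h4]; group
  · have h5 : g = y⁻¹ * (y * g * y⁻¹) * y := by group
    rw [h5, M_mul, M_mul, trace_mul_comm, ← mul_assoc, ← M_mul, mul_inv_cancel, M_one, one_mul]
    exact h3.2

/-- **The core.** -/
theorem core [Finite X] {U : Subgroup P} (hU4 : Nat.card U = 4) (hc : ∀ u ∈ U, u ≠ 1 → IsTwoCentralInvolution u)
    (hn : ∀ x ∈ d.D, ∀ u ∈ U, d.π x * u * (d.π x)⁻¹ ∈ U) {u1 : P} (hu1 : u1 ∈ U) (hu1' : u1 ≠ 1)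
    (hu1c : ∀ x ∈ d.D, d.π x * u1 = u1 * d.π x) : False := by
  classical
  have : Finite P := Finite.of_surjective d.π d.surj
  have e1 : u1 = d.π d.t := d.step1 (hc u1 hu1 hu1').1 hu1c
  obtain ⟨u2, hu2, h21, h2u⟩ : ∃ u2 ∈ U, u2 ≠ 1 ∧ u2 ≠ u1 := by
    by_contra hcon
    push Not at hcon
    have h1 : (U : Set P) ⊆ {1, u1} := by
      intro u hu
      by_cases h : u = 1
      · simp [h]
      · simp [hcon u hu h]
    have h3 := Set.ncard_le_ncard h1 (Set.toFinite _)
    rw [show (U : Set P).ncard = 4 from hU4] at h3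
    have h4 := Set.ncard_insert_le 1 ({u1} : Set P)
    rw [Set.ncard_singleton] at h4
    omega
  obtain ⟨b, rfl⟩ := d.surj u2
  have hb := d.lift_two_central (hc _ hu2 h21)
  have htbU : d.π (d.t * b) ∈ U := by
    rw [map_mul, ← e1]; exact mul_mem hu1 hu2
  have htb1 : d.π (d.t * b) ≠ 1 := by
    intro h
    apply h2u
    rw [map_mul, ← e1] at h
    have h3 : u1 * u1 = 1 := by rw [← pow_two, ← (hc u1 hu1 hu1').1, pow_orderOf_eq_one]
    calc d.π b = u1 * u1 * d.π b := by rw [h3, one_mul]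
      _ = u1 * (u1 * d.π b) := mul_assoc _ _ _
      _ = u1 := by rw [h, mul_one]
  have htb := d.lift_two_central (hc _ htbU htb1)
  -- the elements of `U`
  have hall : ∀ u ∈ U, u = 1 ∨ u = u1 ∨ u = d.π b ∨ u = d.π (d.t * b) := by
    have h1 : ({1, u1, d.π b, d.π (d.t * b)} : Set P) ⊆ U := by
      rintro x (rfl | rfl | rfl | rfl)
      exacts [U.one_mem, hu1, hu2, htbU]
    have h3 : ({1, u1, d.π b, d.π (d.t * b)} : Set P).ncard = 4 := by
      have a1 : u1 ≠ d.π (d.t * b) := by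
        rw [map_mul, ← e1]
        intro h
        exact h21 (left_eq_mul.1 h)
      have a2 : d.π b ≠ d.π (d.t * b) := by
        rw [map_mul, ← e1]
        intro h
        exact hu1' (right_eq_mul.1 h)
      rw [Set.ncard_insert_of_notMem, Set.ncard_insert_of_notMem, Set.ncard_pair a2]
      · rintro (h | h)
        · exact h2u h.symm
        · exact a1 h
      · rintro (h | h | h)
        · exact hu1' h.symm
        · exact h21 h.symm
        · exact htb1 h.symm
    have h4 : (U : Set P).ncard = 4 := hU4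
    have h5 := Set.eq_of_subset_of_ncard_le h1 (by rw [h3, h4]) (Set.toFinite _)
    intro u hu
    have : u ∈ ({1, u1, d.π b, d.π (d.t * b)} : Set P) := by rw [h5]; exact hu
    simpa only [_root_.map_mul, _root_.Set.mem_insert_iff, _root_.Set.mem_singleton_iff] using this
  have hconj : ∀ x ∈ d.D, ∃ e : F, (e = 1 ∨ e = -1) ∧ ∀ i j : Fin 4, i ∈ ({0, 1} : Finset (Fin 4)) →
      (d.M x * d.M b) i j = e * (d.M b * d.M x) i j := by
    intro x hx
    have h1 := hn x hx _ hu2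
    have hne1 : d.π x * d.π b * (d.π x)⁻¹ ≠ 1 := by
      intro h
      rw [mul_inv_eq_one, mul_eq_left] at h
      exact h21 h
    have hne2 : d.π x * d.π b * (d.π x)⁻¹ ≠ u1 := by
      intro h
      rw [mul_inv_eq_iff_eq_mul, ← hu1c x hx, mul_right_inj] at h
      exact h2u h
    have h3 : d.π (x * b) = d.π (b * x) ∨ d.π (x * b) = d.π (d.t * b * x) := by
      rcases hall _ h1 with h | h | h | h
      · exact absurd h hne1
      · exact absurd h hne2
      · left; rw [map_mul, map_mul]; exact mul_inv_eq_iff_eq_mul.1 h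
      · right; rw [map_mul, map_mul _ _ x]; exact mul_inv_eq_iff_eq_mul.1 h
    have hT : ∀ (N : M4 F) (i j : Fin 4), i ∈ ({0, 1} : Finset (Fin 4)) → (d.M d.t * N) i j = - N i j := by
      intro N i j hi
      rw [M_t, diagonal_mul]
      simp only [Finset.mem_insert, Finset.mem_singleton] at hi
      rcases hi with rfl | rfl <;> simp
    rcases h3 with h | h <;> rcases d.π_eq h with h4 | h4
    · exact ⟨1, Or.inl rfl, fun i j _ => by rw [← M_mul, ← M_mul, h4, one_mul]⟩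
    · exact ⟨-1, Or.inr rfl, fun i j _ => by rw [← M_mul, ← M_mul, h4, Matrix.neg_apply, neg_one_mul]⟩
    · refine ⟨-1, Or.inr rfl, fun i j hi => ?_⟩
      rw [← M_mul, h4, mul_assoc, M_mul, hT _ _ _ hi, M_mul, neg_one_mul]
    · refine ⟨1, Or.inl rfl, fun i j hi => ?_⟩
      rw [← M_mul, h4, mul_assoc, M_mul, Matrix.neg_apply, hT _ _ _ hi, M_mul, neg_neg, one_mul]
  -- the matrix of `b`
  have hbb : d.M b * d.M b = 1 := by rw [← M_mul, hb.1, M_one]
  have htb2 : d.t * b = b * d.t := by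
    have h1 : b⁻¹ = b := inv_eq_of_mul_eq_one_left hb.1
    have h3 : (d.t * b)⁻¹ = d.t * b := inv_eq_of_mul_eq_one_left htb.1
    have h4 : d.t⁻¹ = d.t := by
      apply inv_eq_of_mul_eq_one_left
      apply d.M_inj
      rw [M_mul, M_t, M_one, diagonal_mul_diagonal, ← diagonal_one]
      congr 1; funext i; (revert i; simp only [_root_.Fin.forall_fin_succ, _root_.Nat.succ_eq_add_one, Nat.reduceAdd, Fin.isValue, _root_.Matrix.cons_val_zero, _root_.mul_neg, _root_.mul_one, _root_.neg_neg, _root_.Matrix.cons_val_succ, _root_.Matrix.cons_val_fin_one, _root_.implies_true, _root_.and_self])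
    rw [← h3, _root_.mul_inv_rev, h1, h4]
  have hTM : d.M d.t * d.M b = d.M b * d.M d.t := by rw [← M_mul, ← M_mul, htb2]
  have htr := hb.2
  have htr' := htb.2
  rw [M_mul, M_t] at htr'
  rw [M_t] at hTM
  obtain ⟨N, hN⟩ : ∃ N, N = d.M b := ⟨_, rfl⟩
  rw [← hN] at hbb hTM htr htr'
  have two := d.h2
  have half : ∀ {x : F}, -x = x → x = 0 := by
    intro x hx
    have : 2 * x = 0 := by linear_combination -hx
    exact (mul_eq_zero.1 this).resolve_left two
  have n02 : N 0 2 = 0 := by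
    have := congrFun (congrFun hTM 0) 2
    rw [diagonal_mul, mul_diagonal] at this
    simp at this
    exact half this
  have n12 : N 1 2 = 0 := by
    have := congrFun (congrFun hTM 1) 2
    rw [diagonal_mul, mul_diagonal] at this
    simp at this
    exact half this
  have n03 : N 0 3 = 0 := by
    have := congrFun (congrFun hTM 0) 3
    rw [diagonal_mul, mul_diagonal] at this
    simp at this
    exact half this
  have n13 : N 1 3 = 0 := by
    have := congrFun (congrFun hTM 1) 3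
    rw [diagonal_mul, mul_diagonal] at this
    simp at this
    exact half this
  have n20 : N 2 0 = 0 := by
    have := congrFun (congrFun hTM 2) 0
    rw [diagonal_mul, mul_diagonal] at this
    simp at this
    exact half this.symm
  have n30 : N 3 0 = 0 := by
    have := congrFun (congrFun hTM 3) 0
    rw [diagonal_mul, mul_diagonal] at this
    simp at this
    exact half this.symm
  have n11 : N 1 1 = - N 0 0 := by
    rw [Matrix.trace, Fin.sum_univ_four] at htr htr'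
    simp only [diag_apply, diagonal_mul] at htr htr'
    simp only [_root_.Nat.succ_eq_add_one, _root_.Nat.reduceAdd, _root_.Fin.isValue, _root_.Matrix.cons_val_zero, _root_.neg_mul, _root_.one_mul, _root_.Matrix.cons_val_one, _root_.Matrix.cons_val] at htr'
    have : 2 * (N 0 0 + N 1 1) = 0 := by linear_combination htr - htr'
    rcases mul_eq_zero.1 this with h | h
    · exact absurd h two
    · linear_combination h
  have nsq : N 0 0 * N 0 0 + N 0 1 * N 1 0 = 1 := by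
    have := congrFun (congrFun hbb 0) 0
    rw [Matrix.mul_apply, Fin.sum_univ_four, n02, n03] at this
    simpa only [_root_.Fin.isValue, _root_.MulZeroClass.zero_mul, _root_.add_zero, _root_.Matrix.one_apply_eq] using this
  obtain ⟨ea, hea, ha⟩ := hconj _ d.a1_mem
  obtain ⟨eb, heb, hb'⟩ := hconj _ d.b1_mem
  rw [← hN] at ha hb'
  have hA : d.M d.a1 = uM 0 1 (-1) 0 := d.ha1
  have hB : d.M d.b1 = uM r s s (-r) := d.hb1
  rw [hA] at ha
  rw [hB] at hb'
  have ha00 := ha 0 0 (by simp only [_root_.Fin.isValue, _root_.Finset.mem_insert, _root_.Finset.mem_singleton, _root_.zero_ne_one, _root_.or_false])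
  have ha01 := ha 0 1 (by simp only [_root_.Fin.isValue, _root_.Finset.mem_insert, _root_.Finset.mem_singleton, _root_.zero_ne_one, _root_.or_false])
  have hb00 := hb' 0 0 (by simp)
  have hb01 := hb' 0 1 (by simp)
  have hb10 := hb' 1 0 (by simp)
  simp only [Matrix.mul_apply, Fin.sum_univ_four, uM, n02, n03, n12, n13, n20, n30] at ha00 ha01 hb00 hb01 hb10
  simp only [n11, _root_.Fin.isValue, _root_.Matrix.of_apply, _root_.Matrix.cons_val', _root_.Matrix.cons_val_zero, _root_.Matrix.cons_val_fin_one, _root_.MulZeroClass.zero_mul, _root_.Matrix.cons_val_one, _root_.one_mul, _root_.zero_add, _root_.Matrix.cons_val, _root_.MulZeroClass.mul_zero, _root_.add_zero, _root_.mul_neg, _root_.mul_one, _root_.neg_mul] at ha00 ha01 hb00 hb01 hb10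
  have hrs := d.hrs
  have cancel : ∀ {x : F}, 2 * x = 0 → x = 0 := fun h => (mul_eq_zero.1 h).resolve_left two
  rcases hea with rfl | rfl
  · have hx : N 0 0 = 0 := cancel (by linear_combination -ha01)
    refine d.K b d.a1 (N 0 1) ?_ ?_
    · intro i
      change d.M b i 0 = N 0 1 * d.M d.a1 i 0
      rw [← hN, hA]
      fin_cases i
      · change N 0 0 = N 0 1 * 0
        rw [hx, mul_zero]
      · change N 1 0 = N 0 1 * (-1)
        linear_combination ha00
      · change N 2 0 = N 0 1 * 0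
        rw [n20, mul_zero]
      · change N 3 0 = N 0 1 * 0
        rw [n30, mul_zero]
    · rw [hx] at nsq
      linear_combination -nsq + N 0 1 * ha00
  · have hyz : N 1 0 = N 0 1 := by linear_combination ha00
    rcases heb with rfl | rfl
    · have hxy : r * N 0 1 = s * N 0 0 := by
        have := cancel (x := r * N 0 1 - s * N 0 0) (by linear_combination hb01)
        linear_combination this
      refine d.K b d.b1 (-(r * N 0 0 + s * N 1 0)) ?_ ?_
      · intro i
        change d.M b i 0 = -(r * N 0 0 + s * N 1 0) * d.M d.b1 i 0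
        rw [← hN, hB]
        fin_cases i
        · change N 0 0 = -(r * N 0 0 + s * N 1 0) * r
          linear_combination N 0 0 * hrs + s * hxy + s * r * hyz
        · change N 1 0 = -(r * N 0 0 + s * N 1 0) * s
          linear_combination N 1 0 * hrs - r * hxy - r * r * hyz
        · change N 2 0 = -(r * N 0 0 + s * N 1 0) * 0
          rw [n20, mul_zero]
        · change N 3 0 = -(r * N 0 0 + s * N 1 0) * 0
          rw [n30, mul_zero]
      · linear_combination (N 0 0 ^ 2 + N 1 0 ^ 2) * hrs - nsq - N 1 0 * hyz -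
          (r * N 1 0 - s * N 0 0) * (hxy + r * hyz)
    · have hxy : r * N 0 0 + s * N 1 0 = 0 := by
        apply cancel
        linear_combination hb00 + s * hyz
      refine d.K b (d.a1 * d.b1) (-(s * N 0 0 - r * N 1 0)) ?_ ?_
      · intro i
        change d.M b i 0 = -(s * N 0 0 - r * N 1 0) * d.M (d.a1 * d.b1) i 0
        rw [← hN, M_mul, hA, hB, uM_mul]
        fin_cases i
        · change N 0 0 = -(s * N 0 0 - r * N 1 0) * (0 * r + 1 * s)
          linear_combination N 0 0 * hrs - r * hxy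
        · change N 1 0 = -(s * N 0 0 - r * N 1 0) * (-1 * r + 0 * s)
          linear_combination N 1 0 * hrs - s * hxy
        · change N 2 0 = -(s * N 0 0 - r * N 1 0) * 0
          rw [n20, mul_zero]
        · change N 3 0 = -(s * N 0 0 - r * N 1 0) * 0
          rw [n30, mul_zero]
      · linear_combination (N 0 0 ^ 2 + N 1 0 ^ 2) * hrs - nsq - N 1 0 * hyz -
          (r * N 0 0 + s * N 1 0) * hxy

include d in
/-- **No normal 2-central four-group.** -/
theorem four [Finite X] (S : Sylow 2 P) (U : Subgroup P) (hU4 : Nat.card U = 4) (hUS : U ≤ S)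
    (hn : ∀ s ∈ S, ∀ u ∈ U, s * u * s⁻¹ ∈ U) (hc : ∀ u ∈ U, u ≠ 1 → IsTwoCentralInvolution u) : False := by
  have : Finite P := Finite.of_surjective d.π d.surj
  obtain ⟨Q, hQ⟩ := (d.isPGroup_D.map d.π).exists_le_sylow
  obtain ⟨g, hg⟩ := MulAction.exists_smul_eq P S Q
  have hU1 : U ≠ ⊥ := by
    intro h
    rw [h, Subgroup.card_bot] at hU4
    omega
  obtain ⟨w, hw, hw1, hwc⟩ := Cfsg.Agent.Characters.CNBasic.exists_mem_center_of_normal (p := 2)
    (S : Subgroup P) S.2 U (S.2.to_le hUS) hU1 hn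
  have hcj : ∀ x ∈ d.D, ∃ s ∈ S, d.π x = g * s * g⁻¹ := by
    intro x hx
    have h1 : d.π x ∈ ((g • S : Sylow 2 P) : Subgroup P) := by rw [hg]; exact hQ (mem_map_of_mem _ hx)
    rw [Sylow.coe_subgroup_smul] at h1
    obtain ⟨y, hy, h2⟩ := Subgroup.mem_map.1 h1
    exact ⟨y, hy, h2.symm⟩
  refine d.core (U := U.map (MulAut.conj g).toMonoidHom) ?_ ?_ ?_ (u1 := g * w * g⁻¹) ?_ ?_ ?_
  · rw [← hU4]
    exact Subgroup.card_map_of_injective (MulAut.conj g).injective
  · rintro _ ⟨u, hu, rfl⟩ h1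
    change g * u * g⁻¹ ≠ 1 at h1
    change IsTwoCentralInvolution (g * u * g⁻¹)
    refine isTwoCentral_conj (hc u hu ?_) g
    rintro rfl
    exact h1 (by group)
  · rintro x hx _ ⟨u, hu, rfl⟩
    obtain ⟨s, hs, hxs⟩ := hcj x hx
    refine ⟨s * u * s⁻¹, hn s hs u hu, ?_⟩
    change g * (s * u * s⁻¹) * g⁻¹ = d.π x * (g * u * g⁻¹) * (d.π x)⁻¹
    rw [hxs]
    group
  · exact ⟨w, hw, rfl⟩
  · intro h
    apply hw1
    calc w = g⁻¹ * (g * w * g⁻¹) * g := by group
      _ = 1 := by rw [h]; group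
  · intro x hx
    obtain ⟨s, hs, hxs⟩ := hcj x hx
    rw [hxs]
    have := hwc s hs
    calc g * s * g⁻¹ * (g * w * g⁻¹) = g * (s * w) * g⁻¹ := by group
      _ = g * (w * s) * g⁻¹ := by rw [this]
      _ = _ := by group

end Dat

end Cfsg.Agent.H991.FG
end

-- part: H991/FourL4
section
/-!
# No 2-central normal four-group in `PSL_4(q)`, `q = 3 mod 4`, and `PSU_4(q)`, `q = 1 mod 4` (helper991)

Tasks 280, 281 (for S3102).
-/

set_option autoImplicit false

namespace Cfsg.Agent.H991.FG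

open Cfsg Matrix Subgroup Cfsg.Agent.HoltZ Cfsg.Agent.HoltZ.Psl Cfsg.Agent.LieClassical.HermBasic

theorem sq_ne_neg_one {F : Type*} [Field F] [Fintype F] (hF : Fintype.card F % 4 = 3) (c : F) : c ^ 2 ≠ -1 := by
  intro h
  have h1 : IsSquare (-1 : F) := ⟨c, by rw [← pow_two, h]⟩
  rw [FiniteField.isSquare_neg_one_iff] at h1
  exact h1 hF

theorem two_ne {F : Type*} [Field F] [Fintype F] (hF : Odd (Fintype.card F)) : (2 : F) ≠ 0 := 
  Cfsg.Agent.H991.two_ne_of_odd_card hF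

theorem pow_four_cases {F : Type*} [Field F] (hns : ∀ c : F, c ^ 2 ≠ -1) {c : F} (h : c ^ 4 = 1) : c = 1 ∨ c = -1 := by
  have h1 : (c ^ 2 - 1) * (c ^ 2 + 1) = 0 := by linear_combination h
  rcases mul_eq_zero.1 h1 with h2 | h2
  · have h3 : (c - 1) * (c + 1) = 0 := by linear_combination h2
    rcases mul_eq_zero.1 h3 with h4 | h4
    · left; linear_combination h4
    · right; linear_combination h4
  · exact absurd (by linear_combination h2) (hns c)

/-- the data for `PSL_4(q)` -/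
def datL {F : Type} [Field F] [Fintype F] (hF : Fintype.card F % 4 = 3) {r s : F} (hrs : r ^ 2 + s ^ 2 = -1) :
    Dat (_root_.Matrix.SpecialLinearGroup (Fin 4) F) (Matrix.ProjectiveSpecialLinearGroup (Fin 4) F) r s where
  ρ := MonoidHom.id _
  inj := fun _ _ h => h
  π := QuotientGroup.mk' (center (_root_.Matrix.SpecialLinearGroup (Fin 4) F))
  surj := QuotientGroup.mk'_surjective _
  ker := by
    intro g
    rw [QuotientGroup.mk'_apply, QuotientGroup.eq_one_iff, Matrix.SpecialLinearGroup.mem_center_iff]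
    constructor
    · rintro ⟨c, hc, hg⟩
      rw [Fintype.card_fin] at hc
      rcases pow_four_cases (sq_ne_neg_one hF) hc with h | h
      · left
        rw [h, map_one] at hg
        exact hg.symm
      · right
        rw [h, map_neg, map_one] at hg
        exact hg.symm
    · rintro (h | h)
      · exact ⟨1, by simp, by rw [map_one]; exact h.symm⟩
      · exact ⟨-1, by simp only [_root_.Fintype.card_fin]; norm_num, by rw [map_neg, map_one]; exact h.symm⟩
  h2 := two_ne (Nat.odd_iff.2 (by omega))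
  hrs := hrs
  a1 := up 0 1 (-1) 0 (by ring)
  b1 := up r s s (-r) (by linear_combination -hrs)
  a2 := lo 0 1 (-1) 0 (by ring)
  b2 := lo r s s (-r) (by linear_combination -hrs)
  ha1 := rfl
  hb1 := rfl
  ha2 := rfl
  hb2 := rfl
  K := fun _ _ c _ => sq_ne_neg_one hF c

theorem four_L4 {F : Type} [Field F] [Fintype F] (hF : Fintype.card F % 4 = 3)
    (S : Sylow 2 (Matrix.ProjectiveSpecialLinearGroup (Fin 4) F))
    (U : Subgroup (Matrix.ProjectiveSpecialLinearGroup (Fin 4) F)) (hUS : U ≤ S) (hU4 : Nat.card U = 4)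
    (hU2 : ∀ u ∈ U, u * u = 1) (hn : ∀ s ∈ S, ∀ u ∈ U, s * u * s⁻¹ ∈ U)
    (hc : ∀ u ∈ U, u ≠ 1 → Cfsg.IsTwoCentralInvolution u) : False := by
  obtain ⟨r, s, hrs⟩ := Cfsg.Agent.HoltZ.exists_sq_add_sq (two_ne (F := F) (Nat.odd_iff.2 (by omega))) (-1)
  exact (datL hF hrs).four S U hU4 hUS hn hc

section U

variable {F : Type} [Field F] [Fintype F] {q : ℕ}

omit [Fintype F] in
theorem herm4 (u v : Fin 4 → F) : hermForm 4 F q u v = u 0 * v 0 ^ q + u 1 * v 1 ^ q + u 2 * v 2 ^ q + u 3 * v 3 ^ q := by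
  rw [herm_def, Fin.sum_univ_four]

theorem up_mem (hF : Fintype.card F = q ^ 2) {x y z w : F} (h : x * w - y * z = 1)
    (h1 : x * x ^ q + z * z ^ q = 1) (h2 : y * y ^ q + w * w ^ q = 1) (h3 : x * y ^ q + z * w ^ q = 0)
    (h4 : y * x ^ q + w * z ^ q = 0) :
    up x y z w h ∈ SU 4 F q := by
  rw [mem_SU_iff]
  intro u v
  have e : ∀ u : Fin 4 → F, (up x y z w h).1 *ᵥ u = ![x * u 0 + y * u 1, z * u 0 + w * u 1, u 2, u 3] := by
    intro u
    ext i
    (revert i; simp only [up, Matrix.mulVec, dotProduct, Fin.sum_univ_four, _root_.Fin.forall_fin_succ, _root_.Matrix.of_apply, _root_.Matrix.cons_val', _root_.Matrix.cons_val_fin_one, Fin.isValue, _root_.Matrix.cons_val_zero, _root_.Matrix.cons_val_one, _root_.Matrix.cons_val, _root_.Nat.succ_eq_add_one, Nat.reduceAdd, _root_.MulZeroClass.zero_mul, _root_.add_zero, _root_.Matrix.cons_val_succ, _root_.one_mul, _root_.zero_add, _root_.implies_true, _root_.and_self])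
  rw [e, e, herm4, herm4]
  simp only [add_pow_q hF, mul_pow, _root_.Nat.succ_eq_add_one, _root_.Nat.reduceAdd, _root_.Fin.isValue, _root_.Matrix.cons_val_zero, _root_.mul_pow, _root_.Matrix.cons_val_one, _root_.Matrix.cons_val, _root_.add_left_inj]
  linear_combination (u 0 * v 0 ^ q) * h1 + (u 1 * v 1 ^ q) * h2 + (u 0 * v 1 ^ q) * h3 + (u 1 * v 0 ^ q) * h4

theorem lo_mem (hF : Fintype.card F = q ^ 2) {x y z w : F} (h : x * w - y * z = 1)
    (h1 : x * x ^ q + z * z ^ q = 1) (h2 : y * y ^ q + w * w ^ q = 1) (h3 : x * y ^ q + z * w ^ q = 0)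
    (h4 : y * x ^ q + w * z ^ q = 0) :
    lo x y z w h ∈ SU 4 F q := by
  rw [mem_SU_iff]
  intro u v
  have e : ∀ u : Fin 4 → F, (lo x y z w h).1 *ᵥ u = ![u 0, u 1, x * u 2 + y * u 3, z * u 2 + w * u 3] := by
    intro u
    ext i
    (revert i; simp only [lo, Matrix.mulVec, dotProduct, Fin.sum_univ_four, _root_.Fin.forall_fin_succ, _root_.Matrix.of_apply, _root_.Matrix.cons_val', _root_.Matrix.cons_val_fin_one, Fin.isValue, _root_.Matrix.cons_val_zero, _root_.Matrix.cons_val_one, _root_.Matrix.cons_val, _root_.Nat.succ_eq_add_one, Nat.reduceAdd, _root_.one_mul, _root_.MulZeroClass.zero_mul, _root_.add_zero, _root_.Matrix.cons_val_succ, _root_.zero_add, _root_.implies_true, _root_.and_self])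
  rw [e, e, herm4, herm4]
  simp only [add_pow_q hF, mul_pow, _root_.Nat.succ_eq_add_one, _root_.Nat.reduceAdd, _root_.Fin.isValue, _root_.Matrix.cons_val_zero, _root_.Matrix.cons_val_one, _root_.Matrix.cons_val, _root_.mul_pow]
  linear_combination (u 2 * v 2 ^ q) * h1 + (u 3 * v 3 ^ q) * h2 + (u 2 * v 3 ^ q) * h3 + (u 3 * v 2 ^ q) * h4

omit [Fintype F] in
/-- a square root of `-1` is not a norm one element if `q = 1 mod 4` -/
theorem norm_ne (hq : q % 4 = 1) (h2 : (2 : F) ≠ 0) {c : F} (hc : c ^ 2 = -1) : c ^ (q + 1) ≠ 1 := by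
  obtain ⟨k, rfl⟩ : ∃ k, q = 4 * k + 1 := ⟨q / 4, by omega⟩
  have : c ^ (4 * k + 1 + 1) = -1 := by
    rw [show 4 * k + 1 + 1 = 2 * (2 * k + 1) by ring, pow_mul, hc]
    exact Odd.neg_one_pow ⟨k, rfl⟩
  rw [this]
  intro h
  apply h2
  linear_combination -h

omit [Fintype F] in
theorem pow_four_cases_norm (hq : q % 4 = 1) (h2 : (2 : F) ≠ 0) {c : F} (h : c ^ 4 = 1) (hc : c ^ (q + 1) = 1) :
    c = 1 ∨ c = -1 := by
  have h1 : (c ^ 2 - 1) * (c ^ 2 + 1) = 0 := by linear_combination h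
  rcases mul_eq_zero.1 h1 with h2' | h2'
  · have h3 : (c - 1) * (c + 1) = 0 := by linear_combination h2'
    rcases mul_eq_zero.1 h3 with h4 | h4
    · left; linear_combination h4
    · right; linear_combination h4
  · exact absurd hc (norm_ne hq h2 (by linear_combination h2'))

omit [Field F] in
theorem odd_card_of (hF : Fintype.card F = q ^ 2) (hq : q % 4 = 1) : Odd (Fintype.card F) := by
  rw [hF]
  exact Odd.pow (Nat.odd_iff.2 (by omega))

/-- the data for `PSU_4(q)` -/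
def datU (hF : Fintype.card F = q ^ 2) (hq : q % 4 = 1) {r s : F} (hrs : r ^ 2 + s ^ 2 = -1) (hr : r ^ q = -r)
    (hs : s ^ q = -s) :
    Dat (SU 4 F q) (Cfsg.PSU 4 F q) r s where
  ρ := (SU 4 F q).subtype
  inj := (SU 4 F q).subtype_injective
  π := QuotientGroup.mk' (center (SU 4 F q))
  surj := QuotientGroup.mk'_surjective _
  ker := by
    intro g
    rw [QuotientGroup.mk'_apply, QuotientGroup.eq_one_iff,
      Cfsg.Agent.LieClassical.SUBasic.mem_center_SU_iff hF (by norm_num)]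
    have hq' : Even (q + 1) := Nat.even_iff.2 (by omega)
    constructor
    · rintro ⟨c, hcn, hcq, rfl⟩
      rcases pow_four_cases_norm hq (two_ne (odd_card_of hF hq)) hcn hcq with h | h
      · left
        subst h
        exact diagonal_one
      · right
        subst h
        change diagonal (fun _ => (-1 : F)) = -1
        rw [← diagonal_one, diagonal_neg]
    · rintro (h | h)
      · refine ⟨1, one_pow _, one_pow _, ?_⟩
        apply Subtype.ext
        apply Subtype.ext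
        change _ = diagonal (fun _ => (1 : F))
        rw [diagonal_one]
        exact h
      · refine ⟨-1, by norm_num, hq'.neg_one_pow, ?_⟩
        apply Subtype.ext
        apply Subtype.ext
        change _ = diagonal (fun _ => (-1 : F))
        have e : diagonal (fun _ : Fin 4 => (-1 : F)) = -1 := by
          rw [← diagonal_one, diagonal_neg]
        rw [e]
        exact h
  h2 := two_ne (odd_card_of hF hq)
  hrs := hrs
  a1 := ⟨up 0 1 (-1) 0 (by ring), up_mem hF _ (by simp [zero_pow_q hF, neg_pow_q hF])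
    (by simp [zero_pow_q hF]) (by simp [zero_pow_q hF]) (by simp only [zero_pow_q hF, _root_.MulZeroClass.mul_zero, _root_.MulZeroClass.zero_mul, _root_.add_zero])⟩
  b1 := ⟨up r s s (-r) (by linear_combination -hrs), up_mem hF _
    (by rw [hr, hs]; linear_combination -hrs) (by rw [neg_pow_q hF, hr, hs]; linear_combination -hrs)
    (by rw [neg_pow_q hF, hr, hs]; ring) (by rw [hr, hs]; ring)⟩
  a2 := ⟨lo 0 1 (-1) 0 (by ring), lo_mem hF _ (by simp [zero_pow_q hF, neg_pow_q hF])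
    (by simp [zero_pow_q hF]) (by simp [zero_pow_q hF]) (by simp only [zero_pow_q hF, _root_.MulZeroClass.mul_zero, _root_.MulZeroClass.zero_mul, _root_.add_zero])⟩
  b2 := ⟨lo r s s (-r) (by linear_combination -hrs), lo_mem hF _
    (by rw [hr, hs]; linear_combination -hrs) (by rw [neg_pow_q hF, hr, hs]; linear_combination -hrs)
    (by rw [neg_pow_q hF, hr, hs]; ring) (by rw [hr, hs]; ring)⟩
  ha1 := rfl
  hb1 := rfl
  ha2 := rfl
  hb2 := rfl
  K := by
    intro g h c hgh hc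
    apply norm_ne hq (two_ne (odd_card_of hF hq)) hc
    have key : ∀ g : SU 4 F q, ∑ i, (g.1.1 : Matrix (Fin 4) (Fin 4) F) i 0 * (g.1.1 i 0) ^ q = 1 := by
      intro g
      have h1 := (mem_SU_iff _).1 g.2 (Pi.single 0 1) (Pi.single 0 1)
      rw [herm_def, herm_def] at h1
      have h3 : ∀ i, (g.1.1 *ᵥ (Pi.single 0 1 : Fin 4 → F)) i = g.1.1 i 0 := by
        intro i
        rw [mulVec_single_one]; rfl
      simp only [h3] at h1
      rw [h1, Fin.sum_univ_four]
      simp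
    have h1 := key g
    have h2 := key h
    have h3 : ∀ i, (g.1.1 : Matrix (Fin 4) (Fin 4) F) i 0 * (g.1.1 i 0) ^ q =
        c ^ (q + 1) * (h.1.1 i 0 * (h.1.1 i 0) ^ q) := by
      intro i
      have : g.1.1 i 0 = c * h.1.1 i 0 := hgh i
      rw [this, mul_pow]
      ring
    rw [Finset.sum_congr rfl fun i _ => h3 i, ← Finset.mul_sum, h2, mul_one] at h1
    exact h1

theorem four_U4 {F : Type} [Field F] [Fintype F] {q : ℕ} (hF : Fintype.card F = q ^ 2) (hq : q % 4 = 1)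
    (S : Sylow 2 (Cfsg.PSU 4 F q)) (U : Subgroup (Cfsg.PSU 4 F q)) (hUS : U ≤ S) (hU4 : Nat.card U = 4)
    (hU2 : ∀ u ∈ U, u * u = 1) (hn : ∀ s ∈ S, ∀ u ∈ U, s * u * s⁻¹ ∈ U)
    (hc : ∀ u ∈ U, u ≠ 1 → Cfsg.IsTwoCentralInvolution u) : False := by
  obtain ⟨r, s, hrs, hr, hs⟩ := exists_ab hF (two_ne (odd_card_of hF hq))
  exact (datU hF hq hrs hr hs).four S U hU4 hUS hn hc

end U

end Cfsg.Agent.H991.FG
end

-- part: H991/FourSp
section
/-!
# No 2-central four-group in `PSp_4(q)` (helper991)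

Task 282 (for S3102).
-/

set_option autoImplicit false

namespace Cfsg.Agent.H991.FG

open Cfsg Matrix Subgroup Cfsg.Agent.HoltZ.Psp Cfsg.Agent.ClassicalGeometry.SympBasic Cfsg.Agent.HoltZ

theorem two_ne_of_odd {F : Type*} [Field F] [Fintype F] (hF : Odd (Fintype.card F)) : (2 : F) ≠ 0 := by
  intro h
  have h1 : ringChar F = 2 := by
    have h3 : ringChar F ∣ 2 := ringChar.dvd (by exact_mod_cast h)
    rcases (Nat.dvd_prime Nat.prime_two).1 h3 with h4 | h4
    · exact absurd h4 (CharP.ringChar_ne_one)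
    · exact h4
  have h2 := FiniteField.even_card_iff_char_two.1 h1
  rw [Nat.odd_iff] at hF
  omega

/-- the lifts of 2-central involutions are involutions -/
theorem sq_one_sp {F : Type*} [Field F] [Fintype F] (hF : Odd (Fintype.card F)) (g : symplecticGroup (Fin 2) F)
    (hg : IsTwoCentralInvolution (QuotientGroup.mk' (center (symplecticGroup (Fin 2) F)) g)) : g * g = 1 := by
  have h2 := two_ne_of_odd hF
  obtain ⟨x, y, hxy⟩ := exists_sq_add_sq h2 (-1 : F)
  obtain ⟨k, hk⟩ := exists_commute hg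
    (((Subgroup.pi Set.univ (fun _ : Fin 2 => Q hxy)).map (blk (m := 2))).map
      (QuotientGroup.mk' (center (symplecticGroup (Fin 2) F)))) ((isPGroup_Q hxy).map _)
  obtain ⟨t, rfl⟩ := QuotientGroup.mk'_surjective (center (symplecticGroup (Fin 2) F)) k
  rw [← map_inv, ← map_mul, ← map_mul] at hk
  obtain ⟨e, he, he1⟩ := exists_dg h2 (le_refl 2) hxy (z := t * g * t⁻¹) (fun i a ha => exists_scalar (by norm_num)
    (hk _ (mem_map_of_mem _ (mulSingle_mem hxy i ha))))
  have h3 : (t * g * t⁻¹) * (t * g * t⁻¹) = 1 := by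
    apply ext_mulVec
    intro v
    rw [coe_mul_mulVec]
    ext (k | k)
    · rw [he.inl, he.inl, ← mul_assoc, he1, one_mul]; simp
    · rw [he.inr, he.inr, ← mul_assoc, he1, one_mul]; simp only [_root_.OneMemClass.coe_one, _root_.Matrix.one_mulVec]
  calc g * g = t⁻¹ * ((t * g * t⁻¹) * (t * g * t⁻¹)) * t := by group
    _ = 1 := by rw [h3]; group

theorem four_Sp4 {F : Type} [Field F] [Fintype F] (hF : Odd (Fintype.card F)) (U : Subgroup (Cfsg.PSp 2 F))
    (hU4 : Nat.card U = 4) (hU2 : ∀ u ∈ U, u * u = 1) (hc : ∀ u ∈ U, u ≠ 1 → Cfsg.IsTwoCentralInvolution u) :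
    False := by
  have h2 := two_ne_of_odd hF
  set! π := QuotientGroup.mk' (center (symplecticGroup (Fin 2) F)) with hπ
  have hsq : ∀ g ∈ U.comap π, g * g = 1 := by
    intro g hg
    by_cases h1 : π g = 1
    · have h3 : g ∈ center (symplecticGroup (Fin 2) F) := by
        rwa [hπ, QuotientGroup.mk'_apply, QuotientGroup.eq_one_iff] at h1
      obtain ⟨r, hr⟩ := (Cfsg.Agent.LieClassical.SympCenter.mem_center_iff 2 _).1 h3
      have h4 := Cfsg.Agent.LieClassical.SympCenter.sq_eq_one_of_smul_mem (by norm_num) (hr ▸ g.2)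
      apply Subtype.ext
      change g.1 * g.1 = 1
      rw [hr, smul_mul_smul_comm, h4, one_smul, one_mul]
    · exact sq_one_sp hF g (hc _ hg h1)
  have hcomm : ∀ a ∈ U.comap π, ∀ b ∈ U.comap π, a * b = b * a := by
    intro a ha b hb
    have h1 := hsq a ha
    have h3 := hsq b hb
    have h4 := hsq _ (mul_mem ha hb)
    have h5 : (a * b)⁻¹ = a * b := inv_eq_of_mul_eq_one_left h4
    rw [← h5, _root_.mul_inv_rev, inv_eq_of_mul_eq_one_left h1, inv_eq_of_mul_eq_one_left h3]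
  have h5 := Cfsg.Agent.H100.SpTwo.card_elemAb_le h2 (U.comap π) hcomm hsq
  have h6 := Cfsg.Agent.LThreeMB.QuoMap.card_comap π (QuotientGroup.mk'_surjective _) U
  have h7 : Nat.card π.ker = 2 := by
    rw [hπ, QuotientGroup.ker_mk', Cfsg.Agent.LieClassical.SympCenter.card_center (by norm_num)]
    apply Nat.gcd_eq_left
    rw [Nat.odd_iff] at hF
    omega
  rw [h6, hU4] at h5
  omega

end Cfsg.Agent.H991.FG
end

-- part: H991/FourFive
section
/-!
# No 2-central four-group: five-dimensional groups (helper991)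

Task 283 (for S3102).
-/

set_option autoImplicit false

namespace Cfsg.Agent.H991.FG

open Cfsg Matrix Subgroup Cfsg.Agent.HoltZ Cfsg.Agent.HoltZ.Psl

section emb

variable {F : Type*} [Field F]

/-- the 5 by 5 matrices -/
abbrev M5 (F : Type*) := Matrix (Fin 5) (Fin 5) F

/-- the index equivalence -/
abbrev e5 : Fin 4 ⊕ Fin 1 ≃ Fin 5 := finSumFinEquiv

/-- `SL_4 → SL_5`. -/
def emb : _root_.Matrix.SpecialLinearGroup (Fin 4) F →* _root_.Matrix.SpecialLinearGroup (Fin 5) F where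
  toFun A := ⟨(fromBlocks A.1 0 0 1).submatrix e5.symm e5.symm, by
    rw [det_submatrix_equiv_self, det_fromBlocks_zero₂₁, det_one, mul_one]
    exact A.2⟩
  map_one' := Subtype.ext (by
    show (fromBlocks (1 : Matrix (Fin 4) (Fin 4) F) 0 0 1).submatrix e5.symm e5.symm = 1
    rw [fromBlocks_one, submatrix_one_equiv])
  map_mul' A B := Subtype.ext (by
    show (fromBlocks (A.1 * B.1) 0 0 1).submatrix e5.symm e5.symm =
      (fromBlocks A.1 0 0 1).submatrix e5.symm e5.symm * (fromBlocks B.1 0 0 1).submatrix e5.symm e5.symm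
    rw [submatrix_mul_equiv, fromBlocks_multiply]
    simp only [_root_.Matrix.mul_zero, _root_.add_zero, _root_.Matrix.mul_one, _root_.Matrix.zero_mul, _root_.mul_one, _root_.zero_add])

theorem coe_emb (A : _root_.Matrix.SpecialLinearGroup (Fin 4) F) :
    ((emb A : _root_.Matrix.SpecialLinearGroup (Fin 5) F) : M5 F) = (fromBlocks A.1 0 0 1).submatrix e5.symm e5.symm := rfl

/-- the block swap -/
def sw4 : _root_.Matrix.SpecialLinearGroup (Fin 4) F := ⟨!![0, 0, 1, 0; 0, 0, 0, 1; 1, 0, 0, 0; 0, 1, 0, 0], by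
  simp only [Matrix.det_succ_row_zero, Fin.sum_univ_succ, Fin.succAbove, _root_.Matrix.det_succ_row_zero, _root_.Nat.succ_eq_add_one, _root_.Nat.reduceAdd, _root_.Fin.isValue, _root_.Matrix.of_apply, _root_.Matrix.cons_val', _root_.Matrix.cons_val_fin_one, _root_.Matrix.cons_val_zero, _root_.Matrix.submatrix_apply, _root_.Fin.succ_zero_eq_one, _root_.Fin.succAbove, _root_.Matrix.cons_val_one, _root_.Matrix.submatrix_submatrix, _root_.Function.comp_apply, _root_.Fin.succ_one_eq_two, _root_.Matrix.cons_val, _root_.Matrix.det_unique, _root_.Fin.default_eq_zero, _root_.Fin.reduceSucc, _root_.Fin.castSucc_zero, _root_.Fin.sum_univ_succ, _root_.Fin.coe_ofNat_eq_mod, _root_.Nat.zero_mod, _root_.pow_zero, _root_.one_mul, _root_.lt_self_iff_false, ↓ _root_.reduceIte, _root_.Fin.castSucc_one, _root_.Finset.univ_unique, _root_.Fin.val_succ, _root_.Fin.val_eq_zero, _root_.zero_add, _root_.pow_one, _root_.Fin.castSucc_succ, _root_.neg_mul, _root_.Fin.succ_pos,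 _root_.Finset.sum_neg_distrib, _root_.Finset.sum_singleton, _root_.not_lt_zero, _root_.Fin.reduceCastSucc, _root_.even_two, _root_.Even.neg_pow, _root_.one_pow, _root_.Fin.reduceLT, _root_.MulZeroClass.mul_zero, _root_.neg_zero, _root_.add_zero, _root_.mul_one, _root_.Matrix.cons_val_succ, _root_.MulZeroClass.zero_mul, _root_.Fin.lt_one_iff, _root_.Fin.reduceEq, _root_.Finset.sum_const_zero]⟩

theorem coe_sw4 : ((sw4 : _root_.Matrix.SpecialLinearGroup (Fin 4) F) : M4 F) =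
  !![0, 0, 1, 0; 0, 0, 0, 1; 1, 0, 0, 0; 0, 1, 0, 0] := rfl

theorem sw4_mul_self : (sw4 : _root_.Matrix.SpecialLinearGroup (Fin 4) F) * sw4 = 1 := by
  apply Subtype.ext
  rw [Matrix.SpecialLinearGroup.coe_mul, coe_sw4, Matrix.SpecialLinearGroup.coe_one]
  ext i j
  (revert i j; simp only [Matrix.mul_apply, Fin.sum_univ_four, _root_.Fin.forall_fin_succ, _root_.Matrix.of_apply, _root_.Matrix.cons_val', _root_.Matrix.cons_val_fin_one, Fin.isValue, _root_.Matrix.cons_val_zero, _root_.Matrix.cons_val_one, _root_.Matrix.cons_val, _root_.MulZeroClass.mul_zero, _root_.add_zero, _root_.mul_one, _root_.zero_add, _root_.Matrix.cons_val_succ, _root_.IsEmpty.forall_iff, _root_.and_true, _root_.Matrix.one_apply_eq, Nat.reduceAdd, _root_.Fin.succ_zero_eq_one, _root_.ne_eq, _root_.zero_ne_one, _root_.not_false_eq_true, _root_.Matrix.one_apply_ne, _root_.Fin.succ_one_eq_two, Fin.reduceEq, Fin.reduceSucc, _root_.and_self, _root_.Fin.succ_ne_zero, _root_.true_and])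

theorem sw4_up (x y z w : F) (h : x * w - y * z = 1) : sw4 * up x y z w h = lo x y z w h * sw4 := by
  apply Subtype.ext
  rw [Matrix.SpecialLinearGroup.coe_mul, Matrix.SpecialLinearGroup.coe_mul, coe_sw4, coe_up, coe_lo]
  ext i j
  (revert i j; simp only [Matrix.mul_apply, Fin.sum_univ_four, _root_.Fin.forall_fin_succ, _root_.Matrix.of_apply, _root_.Matrix.cons_val', _root_.Matrix.cons_val_fin_one, Fin.isValue, _root_.Matrix.cons_val_zero, _root_.Matrix.cons_val_one, _root_.Matrix.cons_val, _root_.MulZeroClass.mul_zero, _root_.add_zero, _root_.mul_one, _root_.zero_add, _root_.Matrix.cons_val_succ, _root_.implies_true, _root_.and_self, _root_.and_true, _root_.MulZeroClass.zero_mul, _root_.one_mul])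

theorem sw4_lo (x y z w : F) (h : x * w - y * z = 1) : sw4 * lo x y z w h = up x y z w h * sw4 := by
  apply Subtype.ext
  rw [Matrix.SpecialLinearGroup.coe_mul, Matrix.SpecialLinearGroup.coe_mul, coe_sw4, coe_up, coe_lo]
  ext i j
  (revert i j; simp only [Matrix.mul_apply, Fin.sum_univ_four, _root_.Fin.forall_fin_succ, _root_.Matrix.of_apply, _root_.Matrix.cons_val', _root_.Matrix.cons_val_fin_one, Fin.isValue, _root_.Matrix.cons_val_zero, _root_.Matrix.cons_val_one, _root_.Matrix.cons_val, _root_.mul_one, _root_.MulZeroClass.mul_zero, _root_.add_zero, _root_.zero_add, _root_.Matrix.cons_val_succ, _root_.forall_const, _root_.true_and, _root_.one_mul, _root_.MulZeroClass.zero_mul, _root_.and_self, _root_.implies_true])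

variable {r s : F} (hrs : r ^ 2 + s ^ 2 = -1)

/-- the product of two quaternion groups -/
def D0 : Subgroup (_root_.Matrix.SpecialLinearGroup (Fin 4) F) :=
  _root_.Subgroup.closure ({up 0 1 (-1) 0 (by ring), up r s s (-r) (by linear_combination -hrs)} : Set _) ⊔
    _root_.Subgroup.closure ({lo 0 1 (-1) 0 (by ring), lo r s s (-r) (by linear_combination -hrs)} : Set _)

theorem isPGroup_D0 : IsPGroup 2 (D0 hrs) := by
  refine isPGroup_sup (isPGroup_up hrs) (isPGroup_lo hrs) (commute_closure ?_)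
  rintro a (rfl | rfl) b (rfl | rfl) <;> exact up_mul_lo _ _ _ _ _ _ _ _ _ _

theorem map_conj_D0 : (D0 hrs).map (MulAut.conj (sw4 : _root_.Matrix.SpecialLinearGroup (Fin 4) F)).toMonoidHom ≤ D0 hrs := by
  unfold D0
  rw [Subgroup.map_sup, MonoidHom.map_closure, MonoidHom.map_closure, Set.image_pair, Set.image_pair, sup_comm]
  have e1 : ∀ (x y z w : F) (h : x * w - y * z = 1), (MulAut.conj (sw4 : _root_.Matrix.SpecialLinearGroup (Fin 4) F)).toMonoidHom
      (up x y z w h) = lo x y z w h := fun x y z w h => mul_inv_eq_iff_eq_mul.2 (sw4_up x y z w h)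
  have e2 : ∀ (x y z w : F) (h : x * w - y * z = 1), (MulAut.conj (sw4 : _root_.Matrix.SpecialLinearGroup (Fin 4) F)).toMonoidHom
      (lo x y z w h) = up x y z w h := fun x y z w h => mul_inv_eq_iff_eq_mul.2 (sw4_lo x y z w h)
  rw [e1, e1, e2, e2]

/-- the 2-group -/
def D4 : Subgroup (_root_.Matrix.SpecialLinearGroup (Fin 4) F) := D0 hrs ⊔ zpowers sw4

theorem isPGroup_D4 : IsPGroup 2 (D4 hrs) := by
  refine IsPGroup.to_sup_of_normal_left' (isPGroup_D0 hrs) ?_ ?_
  · rintro ⟨g, k, rfl⟩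
    refine ⟨1, Subtype.ext ?_⟩
    change ((sw4 : _root_.Matrix.SpecialLinearGroup (Fin 4) F) ^ k) ^ (2 ^ 1) = 1
    rw [pow_one, ← zpow_natCast, ← _root_.zpow_mul, mul_comm, _root_.zpow_mul, zpow_natCast, pow_two, sw4_mul_self, _root_.one_zpow]
  · have key : ∀ x ∈ D0 hrs, sw4 * x * sw4⁻¹ ∈ D0 hrs := fun x hx => map_conj_D0 hrs (mem_map_of_mem _ hx)
    rw [zpowers_le, mem_normalizer_iff]
    intro x
    refine ⟨key x, fun h => ?_⟩
    have h1 := key _ h
    have h2 : (sw4 : _root_.Matrix.SpecialLinearGroup (Fin 4) F)⁻¹ = sw4 := inv_eq_of_mul_eq_one_left sw4_mul_self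
    have h3 : sw4 * (sw4 * x * sw4⁻¹) * sw4⁻¹ = x := by
      rw [h2]
      calc sw4 * (sw4 * x * sw4) * sw4 = (sw4 * sw4) * x * (sw4 * sw4) := by simp only [mul_assoc]
        _ = x := by rw [sw4_mul_self, one_mul, mul_one]
    rwa [h3] at h1

theorem up_mem_D4 : (up 0 1 (-1) 0 (by ring) : _root_.Matrix.SpecialLinearGroup (Fin 4) F) ∈ D4 hrs :=
  mem_sup_left (mem_sup_left (_root_.Subgroup.subset_closure (by simp)))
theorem up_mem_D4' : (up r s s (-r) (by linear_combination -hrs) : _root_.Matrix.SpecialLinearGroup (Fin 4) F) ∈ D4 hrs :=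
  mem_sup_left (mem_sup_left (_root_.Subgroup.subset_closure (by simp)))
theorem lo_mem_D4 : (lo 0 1 (-1) 0 (by ring) : _root_.Matrix.SpecialLinearGroup (Fin 4) F) ∈ D4 hrs :=
  mem_sup_left (mem_sup_right (_root_.Subgroup.subset_closure (by simp)))
theorem sw4_mem_D4 : (sw4 : _root_.Matrix.SpecialLinearGroup (Fin 4) F) ∈ D4 hrs :=
  mem_sup_right (mem_zpowers _)

/-- the matrix `diag(-1, 1)` -/
def tau : M5 F := diagonal ![-1, -1, -1, -1, 1]

/-- the central element -/
def t4 : _root_.Matrix.SpecialLinearGroup (Fin 4) F :=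
  up 0 1 (-1) 0 (by ring) * up 0 1 (-1) 0 (by ring) * (lo 0 1 (-1) 0 (by ring) * lo 0 1 (-1) 0 (by ring))

theorem t4_mem_D4 : (t4 : _root_.Matrix.SpecialLinearGroup (Fin 4) F) ∈ D4 hrs :=
  mul_mem (mul_mem (up_mem_D4 hrs) (up_mem_D4 hrs)) (mul_mem (lo_mem_D4 hrs) (lo_mem_D4 hrs))

theorem coe_t4 : ((t4 : _root_.Matrix.SpecialLinearGroup (Fin 4) F) : M4 F) = -1 := by
  unfold t4
  rw [Matrix.SpecialLinearGroup.coe_mul, Matrix.SpecialLinearGroup.coe_mul, Matrix.SpecialLinearGroup.coe_mul,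
    coe_up, coe_lo]
  ext i j
  (revert i j; simp only [Matrix.mul_apply, Fin.sum_univ_four, _root_.Fin.forall_fin_succ, _root_.Matrix.cons_mul, _root_.Nat.succ_eq_add_one, Nat.reduceAdd, _root_.Matrix.vecMul_cons, _root_.Matrix.head_cons, _root_.zero_smul, _root_.Matrix.tail_cons, _root_.one_smul, _root_.Matrix.empty_vecMul, _root_.add_zero, _root_.zero_add, _root_.neg_smul, _root_.Matrix.neg_cons, _root_.neg_zero, _root_.Matrix.neg_empty, _root_.Matrix.empty_mul, _root_.Equiv.symm_apply_apply, _root_.Matrix.of_apply, _root_.Matrix.cons_val', _root_.Matrix.cons_val_fin_one, Fin.isValue, _root_.Matrix.cons_val_zero, _root_.Matrix.cons_val_one, _root_.Matrix.cons_val, _root_.Matrix.neg_apply, _root_.mul_one, _root_.MulZeroClass.mul_zero, _root_.Matrix.cons_val_succ, _root_.mul_neg, _root_.neg_inj, _root_.IsEmpty.forall_iff, _root_.and_true, _root_.Matrix.one_apply_eq, _root_.Fin.succ_zero_eq_one, _root_.ne_eq, _root_.zero_ne_one, _root_.not_false_eq_true,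 _root_.Matrix.one_apply_ne, _root_.Fin.succ_one_eq_two, Fin.reduceEq, Fin.reduceSucc, _root_.and_self, _root_.Fin.succ_ne_zero, _root_.zero_eq_neg, _root_.true_and])

theorem coe_emb' (A : _root_.Matrix.SpecialLinearGroup (Fin 4) F) :
    ((emb A : _root_.Matrix.SpecialLinearGroup (Fin 5) F) : M5 F) = !![A.1 0 0, A.1 0 1, A.1 0 2, A.1 0 3, 0;
      A.1 1 0, A.1 1 1, A.1 1 2, A.1 1 3, 0; A.1 2 0, A.1 2 1, A.1 2 2, A.1 2 3, 0;
      A.1 3 0, A.1 3 1, A.1 3 2, A.1 3 3, 0; 0, 0, 0, 0, 1] := by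
  rw [coe_emb]
  ext i j
  fin_cases i <;> fin_cases j <;> rfl

theorem emb_cc (A : _root_.Matrix.SpecialLinearGroup (Fin 4) F) (i j : Fin 4) :
    ((emb A : _root_.Matrix.SpecialLinearGroup (Fin 5) F) : M5 F) (Fin.castSucc i) (Fin.castSucc j) = A.1 i j := by
  rw [coe_emb']
  fin_cases i <;> fin_cases j <;> rfl

theorem emb_lc (A : _root_.Matrix.SpecialLinearGroup (Fin 4) F) (j : Fin 4) :
    ((emb A : _root_.Matrix.SpecialLinearGroup (Fin 5) F) : M5 F) 4 (Fin.castSucc j) = 0 := by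
  rw [coe_emb']
  fin_cases j <;> rfl

theorem emb_cl (A : _root_.Matrix.SpecialLinearGroup (Fin 4) F) (j : Fin 4) :
    ((emb A : _root_.Matrix.SpecialLinearGroup (Fin 5) F) : M5 F) (Fin.castSucc j) 4 = 0 := by
  rw [coe_emb']
  fin_cases j <;> rfl

theorem coe_emb_t4 : ((emb t4 : _root_.Matrix.SpecialLinearGroup (Fin 5) F) : M5 F) = tau := by
  rw [coe_emb', coe_t4]
  ext i j
  unfold tau
  (revert i j; simp only [_root_.Fin.forall_fin_succ, Fin.isValue, _root_.Matrix.neg_apply, _root_.Matrix.one_apply_eq, _root_.ne_eq, _root_.zero_ne_one, _root_.not_false_eq_true, _root_.Matrix.one_apply_ne, _root_.neg_zero, Fin.reduceEq, _root_.one_ne_zero, _root_.Matrix.of_apply, _root_.Matrix.cons_val', _root_.Matrix.cons_val_fin_one, _root_.Matrix.cons_val_zero, _root_.Matrix.cons_val_succ, _root_.Fin.succ_zero_eq_one, _root_.Fin.succ_one_eq_two, Fin.reduceSucc, _root_.IsEmpty.forall_iff, _root_.and_true, _root_.Matrix.diagonal_apply_eq, _root_.Matrix.diagonal_apply_ne,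 _root_.and_self, _root_.Fin.succ_ne_zero, _root_.Matrix.cons_val_one, _root_.Matrix.cons_val, _root_.true_and])

end emb

/-- what commutes with both quaternion groups and the swap is a scalar -/
theorem scalar_of_comm {F : Type*} [Field F] {x y : F} (h2 : (2 : F) ≠ 0) (hxy : x ^ 2 + y ^ 2 = -1) {z : M4 F}
    (h1 : z * uM 0 1 (-1) 0 = uM 0 1 (-1) 0 * z)
    (h1' : z * uM x y y (-x) = uM x y y (-x) * z)
    (h3 : z * lM 0 1 (-1) 0 = lM 0 1 (-1) 0 * z)
    (h5 : z * !![0, 0, 1, 0; 0, 0, 0, 1; 1, 0, 0, 0; 0, 1, 0, 0] = !![0, 0, 1, 0; 0, 0, 0, 1; 1, 0, 0, 0; 0, 1, 0, 0] * z) :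
    ∃ p : F, z = p • 1 := by
  have rot : ∀ {s t : F}, s = t → t = -s → s = 0 := by
    intro s t hs ht
    have : 2 * s = 0 := by linear_combination hs + ht
    exact (mul_eq_zero.1 this).resolve_left h2
  have e1 := fun i j => congrFun (congrFun h1 i) j
  have e2 := fun i j => congrFun (congrFun h1' i) j
  have e3 := fun i j => congrFun (congrFun h3 i) j
  have e5 := fun i j => congrFun (congrFun h5 i) j
  simp only [uM, lM, Matrix.mul_apply, Fin.sum_univ_four, Fin.isValue, of_apply, cons_val', cons_val_fin_one] at e1 e2 e3 e5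
  have a00 := e1 0 0
  have a01 := e1 0 1
  have a02 := e1 0 2
  have a03 := e1 0 3
  have a12 := e1 1 2
  have a13 := e1 1 3
  have c20 := e5 2 0
  have c30 := e5 3 0
  have c21 := e5 2 1
  have c31 := e5 3 1
  have c22 := e5 2 2
  have c23 := e5 2 3
  have c32 := e5 3 2
  have c33 := e5 3 3
  have b00 := e2 0 0
  have b01 := e2 0 1
  simp only [_root_.Fin.isValue, _root_.Matrix.cons_val_zero, _root_.MulZeroClass.mul_zero, _root_.Matrix.cons_val_one, _root_.mul_neg, _root_.mul_one, _root_.zero_add, _root_.Matrix.cons_val, _root_.add_zero, _root_.MulZeroClass.zero_mul, _root_.one_mul, _root_.neg_mul] at a00 a01 a02 a03 a12 a13 c20 c30 c21 c31 c22 c23 c32 c33 b00 b01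
  have z02 : z 0 2 = 0 := rot a02 a12
  have z03 : z 0 3 = 0 := rot a03 a13
  have z12 : z 1 2 = 0 := by rw [← a02, z02]
  have z13 : z 1 3 = 0 := by rw [← a03, z03]
  have z01 : z 0 1 = 0 := by
    have : 2 * z 0 1 = 0 := by
      linear_combination x * b01 - y * b00 + 2 * z 0 1 * hxy - x * y * a01 + y ^ 2 * a00
    exact (mul_eq_zero.1 this).resolve_left h2
  have z10 : z 1 0 = 0 := by rw [← a00, z01, neg_zero]
  refine ⟨z 0 0, ?_⟩
  rw [← diagonal_one, ← diagonal_smul]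
  ext i j
  rw [diagonal_apply]
  (revert i j; simp only [z01, z02, z03, z10, z12, z13, c20, c30, c21, c31, c22, c23, c32, c33, a01, _root_.Fin.forall_fin_succ, Fin.isValue, _root_.Pi.smul_apply, _root_.smul_eq_mul, _root_.mul_one, _root_.Fin.succ_zero_eq_one, _root_.Fin.succ_one_eq_two, Fin.reduceSucc, _root_.IsEmpty.forall_iff, _root_.and_true, ↓reduceIte, _root_.zero_ne_one, Fin.reduceEq, _root_.and_self, _root_.Fin.succ_ne_zero])

/-- The data: a group of 5 by 5 matrices of determinant one containing the 2-group, and a quotient by scalars. -/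
structure Dat5 {F : Type*} [Field F] (X P : Type*) [Group X] [Group P] {r s : F} (hrs : r ^ 2 + s ^ 2 = -1) where
  /-- the matrices -/
  ρ : X →* _root_.Matrix.SpecialLinearGroup (Fin 5) F
  inj : Function.Injective ρ
  /-- the quotient -/
  π : X →* P
  surj : Function.Surjective π
  ker : ∀ g, π g = 1 ↔ ∃ c : F, c ^ 5 = 1 ∧ (ρ g : M5 F) = c • 1
  h2 : (2 : F) ≠ 0
  hD : ∀ A ∈ D4 hrs, ∃ x : X, ρ x = emb A

namespace Dat5

variable {F : Type*} [Field F] {X P : Type*} [Group X] [Group P] {r s : F} {hrs : r ^ 2 + s ^ 2 = -1}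
  (d : Dat5 X P hrs)

/-- the matrix of an element -/
def M (g : X) : M5 F := (d.ρ g : M5 F)

theorem M_mul (g h : X) : d.M (g * h) = d.M g * d.M h := by
  unfold M; rw [map_mul]; rfl

theorem M_one : d.M 1 = 1 := by
  unfold M; rw [map_one]; rfl

theorem M_det (g : X) : (d.M g).det = 1 := (d.ρ g).2

theorem π_eq {g h : X} (e : d.π g = d.π h) : ∃ c : F, c ^ 5 = 1 ∧ d.M g = c • d.M h := by
  have h1 : d.π (g * h⁻¹) = 1 := by rw [map_mul, e, map_inv, mul_inv_cancel]
  have h3 : d.M g = d.M (g * h⁻¹) * d.M h := by rw [← M_mul, inv_mul_cancel_right]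
  obtain ⟨c, hc, h2⟩ := (d.ker _).1 h1
  refine ⟨c, hc, ?_⟩
  rw [h3]
  change (d.ρ (g * h⁻¹) : M5 F) * _ = _
  rw [h2, smul_mul_assoc, one_mul]

/-- the 2-group -/
def D : Subgroup X := ((D4 hrs).map emb).comap d.ρ

theorem isPGroup_D : IsPGroup 2 d.D := ((isPGroup_D4 hrs).map emb).comap_of_injective _ d.inj

/-- central commutators with elements of 2-power order are trivial -/
theorem comm_of {g x : X} (hx : x ∈ d.D) (h : d.π x * d.π g = d.π g * d.π x) : d.M g * d.M x = d.M x * d.M g := by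
  rw [← map_mul, ← map_mul] at h
  obtain ⟨c, hc, h1⟩ := d.π_eq h.symm
  rw [M_mul, M_mul] at h1
  obtain ⟨k, hk⟩ := d.isPGroup_D ⟨x, hx⟩
  have hk' : x ^ 2 ^ k = 1 := congrArg Subtype.val hk
  have h2 : ∀ n : ℕ, d.M g * d.M (x ^ n) = c ^ n • (d.M (x ^ n) * d.M g) := by
    intro n
    induction n with
    | zero => rw [pow_zero, pow_zero, M_one, mul_one, one_mul, one_smul]
    | succ n ih =>
      rw [pow_succ, M_mul, ← mul_assoc, ih, smul_mul_assoc, mul_assoc, h1, mul_smul_comm, smul_smul, ← pow_succ,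
        mul_assoc]
  have h3 := h2 (2 ^ k)
  rw [hk', M_one, mul_one, one_mul] at h3
  have h4 : c ^ 2 ^ k = 1 := by
    have h5 : d.M g * d.M g⁻¹ = c ^ 2 ^ k • (d.M g * d.M g⁻¹) := by
      rw [← smul_mul_assoc, ← h3]
    rw [← M_mul, mul_inv_cancel, M_one] at h5
    have h6 := congrFun (congrFun h5 0) 0
    simpa using h6.symm
  have h5 : orderOf c ∣ 1 := by
    have h6 : Nat.Coprime 5 (2 ^ k) := Nat.Coprime.pow_right k (by norm_num)
    rw [← h6]
    exact Nat.dvd_gcd (orderOf_dvd_of_pow_eq_one hc) (orderOf_dvd_of_pow_eq_one h4)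
  have h6 : c = 1 := orderOf_eq_one_iff.1 (Nat.dvd_one.1 h5)
  rw [h1, h6, one_smul]

/-- **Step 1.** -/
theorem step1 {g : X} (hu : orderOf (d.π g) = 2) (hc : ∀ x ∈ d.D, d.π x * d.π g = d.π g * d.π x) :
    ∃ c : F, c ^ 5 = 1 ∧ d.M g = c • tau := by
  have hcomm : ∀ A ∈ D4 hrs, d.M g * (emb A : M5 F) = (emb A : M5 F) * d.M g := by
    intro A hA
    obtain ⟨x, hx⟩ := d.hD A hA
    have h1 : x ∈ d.D := ⟨A, hA, hx.symm⟩
    have h2 := d.comm_of h1 (hc x h1)
    have h3 : d.M x = (emb A : M5 F) := by unfold M; rw [hx]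
    rwa [h3] at h2
  have ht := hcomm _ (t4_mem_D4 hrs)
  rw [coe_emb_t4] at ht
  set z := d.M g with hz
  have two := d.h2
  have half : ∀ {x : F}, -x = x → x = 0 := by
    intro x hx
    have : 2 * x = 0 := by linear_combination -hx
    exact (mul_eq_zero.1 this).resolve_left two
  have hcol : ∀ i : Fin 5, i ≠ 4 → z i 4 = 0 ∧ z 4 i = 0 := by
    intro i hi
    have h1 := congrFun (congrFun ht i) 4
    have h2 := congrFun (congrFun ht 4) i
    unfold tau at h1 h2
    rw [diagonal_mul, mul_diagonal] at h1 h2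
    fin_cases i
    · simp at h1 h2; exact ⟨half h1.symm, half h2⟩
    · simp at h1 h2; exact ⟨half h1.symm, half h2⟩
    · simp at h1 h2; exact ⟨half h1.symm, half h2⟩
    · simp at h1 h2; exact ⟨half h1.symm, half h2⟩
    · exact absurd rfl hi
  -- the upper left block
  obtain ⟨w, hw⟩ : ∃ w : M4 F, w = z.submatrix Fin.castSucc Fin.castSucc := ⟨_, rfl⟩
  have hwz : ∀ i j, w i j = z (Fin.castSucc i) (Fin.castSucc j) := fun i j => by rw [hw]; rfl
  have hcomm' : ∀ A ∈ D4 hrs, w * (A : M4 F) = (A : M4 F) * w := by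
    intro A hA
    ext i j
    have h1 := congrFun (congrFun (hcomm A hA) (Fin.castSucc i)) (Fin.castSucc j)
    have e : ∀ f : Fin 5 → F, ∑ k, f k = ∑ k : Fin 4, f (Fin.castSucc k) + f 4 := fun f => Fin.sum_univ_castSucc f
    rw [Matrix.mul_apply, Matrix.mul_apply, e, e, emb_lc, emb_cl, mul_zero, zero_mul, add_zero, add_zero] at h1
    simp only [emb_cc] at h1
    rw [Matrix.mul_apply, Matrix.mul_apply]
    simp only [hwz]
    exact h1
  obtain ⟨p, hp⟩ := scalar_of_comm d.h2 hrs (z := w) ((hcomm' _ (up_mem_D4 hrs) :)) ((hcomm' _ (up_mem_D4' hrs) :))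
    ((hcomm' _ (lo_mem_D4 hrs) :)) ((hcomm' _ (sw4_mem_D4 hrs) :))
  have hzd : z = diagonal ![p, p, p, p, z 4 4] := by
    ext i j
    induction i using Fin.lastCases with
    | last =>
      induction j using Fin.lastCases with
      | last => rfl
      | cast j =>
        rw [show Fin.last 4 = 4 from rfl, (hcol _ (Fin.castSucc_lt_last j).ne).2, diagonal_apply_ne]
        exact (Fin.castSucc_lt_last j).ne'
    | cast i =>
      induction j using Fin.lastCases with
      | last =>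
        rw [show Fin.last 4 = 4 from rfl, (hcol _ (Fin.castSucc_lt_last i).ne).1, diagonal_apply_ne]
        exact (Fin.castSucc_lt_last i).ne
      | cast j =>
        rw [← hwz, hp]
        (revert i j; simp only [_root_.Fin.forall_fin_succ, _root_.Matrix.smul_apply, _root_.smul_eq_mul, _root_.Nat.succ_eq_add_one, Nat.reduceAdd, Fin.isValue, _root_.Fin.castSucc_zero, _root_.Fin.castSucc_succ, _root_.Fin.succ_zero_eq_one, _root_.Fin.succ_one_eq_two, Fin.reduceSucc, _root_.IsEmpty.forall_iff, _root_.and_true, _root_.Matrix.one_apply_eq, _root_.mul_one, _root_.Matrix.diagonal_apply_eq, _root_.Matrix.cons_val_zero, _root_.ne_eq, _root_.zero_ne_one, _root_.not_false_eq_true, _root_.Matrix.one_apply_ne, _root_.MulZeroClass.mul_zero, _root_.Matrix.diagonal_apply_ne, Fin.reduceEq, _root_.and_self, _root_.Fin.succ_ne_zero, _root_.true_and, _root_.Matrix.cons_val_one, _root_.Matrix.cons_val])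
  obtain ⟨q, hq⟩ : ∃ q, q = z 4 4 := ⟨_, rfl⟩
  rw [← hq] at hzd
  have hdet := d.M_det g
  rw [← hz, hzd, det_diagonal, Fin.prod_univ_five] at hdet
  simp only [_root_.Nat.succ_eq_add_one, _root_.Nat.reduceAdd, _root_.Fin.isValue, _root_.Matrix.cons_val_zero, _root_.Matrix.cons_val_one, _root_.Matrix.cons_val] at hdet
  have hu2 : d.π (g * g) = 1 := by
    rw [map_mul, ← pow_two, ← hu, pow_orderOf_eq_one]
  obtain ⟨c, hc5, hcc⟩ := (d.ker _).1 hu2
  change d.M (g * g) = _ at hcc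
  rw [M_mul, ← hz, hzd, diagonal_mul_diagonal] at hcc
  have h0 := congrFun (congrFun hcc 0) 0
  have h4 := congrFun (congrFun hcc 4) 4
  simp at h0 h4
  have hc0 : c ≠ 0 := by
    rintro rfl
    norm_num only [_root_.zero_ne_one] at hc5
  have hqc : q = c ^ 3 := by
    have : c ^ 2 * (q - c ^ 3) = 0 := by
      linear_combination hdet - hc5 - q * (p * p + c) * h0
    rcases mul_eq_zero.1 this with h | h
    · exact absurd h (pow_ne_zero 2 hc0)
    · linear_combination h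
  have hpc : (p - c ^ 3) * (p + c ^ 3) = 0 := by
    linear_combination h0 - c * hc5
  refine ⟨c ^ 3, by rw [← pow_mul, mul_comm, pow_mul, hc5, one_pow], ?_⟩
  rcases mul_eq_zero.1 hpc with h | h
  · exfalso
    have hp' : p = c ^ 3 := by linear_combination h
    have h1 : d.π g = 1 := by
      rw [d.ker]
      refine ⟨c ^ 3, by rw [← pow_mul, mul_comm, pow_mul, hc5, one_pow], ?_⟩
      change z = _
      rw [hzd, hp', hqc, ← diagonal_one, ← diagonal_smul]
      congr 1
      funext i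
      (revert i; simp only [_root_.Fin.forall_fin_succ, _root_.Nat.succ_eq_add_one, Nat.reduceAdd, _root_.Pi.smul_apply, _root_.smul_eq_mul, _root_.mul_one, Fin.isValue, _root_.Matrix.cons_val_zero, _root_.Matrix.cons_val_succ, _root_.Matrix.cons_val_fin_one, _root_.implies_true, _root_.and_self])
    rw [h1, orderOf_one] at hu
    exact absurd hu (by norm_num)
  · have hp' : p = -c ^ 3 := by linear_combination h
    rw [hzd, hp', hqc]
    unfold tau
    rw [← diagonal_smul]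
    congr 1
    funext i
    (revert i; simp only [_root_.Fin.forall_fin_succ, _root_.Nat.succ_eq_add_one, Nat.reduceAdd, _root_.Pi.smul_apply, _root_.smul_eq_mul, Fin.isValue, _root_.Matrix.cons_val_zero, _root_.mul_neg, _root_.mul_one, _root_.Matrix.cons_val_succ, _root_.Matrix.cons_val_fin_one, _root_.implies_true, _root_.and_self])

/-- the anti-fixed space -/
theorem two_central [Finite X] {g : X} (hg : IsTwoCentralInvolution (d.π g)) :
    ∃ (c : F) (φ : (Fin 5 → F) →ₗ[F] F), c ^ 5 = 1 ∧ ∀ v, φ v = 0 → d.M g *ᵥ v = -(c • v) := by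
  have : Finite P := Finite.of_surjective d.π d.surj
  obtain ⟨k, hk⟩ := exists_commute hg (d.D.map d.π) (d.isPGroup_D.map _)
  obtain ⟨y, rfl⟩ := d.surj k
  have e : d.π (y * g * y⁻¹) = d.π y * d.π g * (d.π y)⁻¹ := by rw [map_mul, map_mul, map_inv]
  obtain ⟨c, hc, h1⟩ := d.step1 (g := y * g * y⁻¹) (by
    rw [e, ← hg.1]
    exact (MulAut.conj (d.π y)).orderOf_eq (d.π g)) (fun x hx => by rw [e]; exact hk _ (mem_map_of_mem _ hx))
  refine ⟨c, (LinearMap.proj 4).comp (d.M y).mulVecLin, hc, ?_⟩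
  intro v hv
  change (d.M y *ᵥ v) 4 = 0 at hv
  have h2 : d.M g = d.M y⁻¹ * d.M (y * g * y⁻¹) * d.M y := by
    rw [← M_mul, ← M_mul]
    congr 1
    group
  have h3 : (tau : M5 F) *ᵥ (d.M y *ᵥ v) = -(d.M y *ᵥ v) := by
    ext i
    unfold tau
    rw [mulVec_diagonal]
    fin_cases i
    · simp
    · simp
    · simp
    · simp
    · change 1 * (d.M y *ᵥ v) 4 = -(d.M y *ᵥ v) 4
      rw [hv]; ring
  rw [h2, h1, mul_smul_comm, smul_mul_assoc, smul_mulVec, ← mulVec_mulVec, ← mulVec_mulVec, h3, mulVec_neg,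
    mulVec_mulVec, ← M_mul, inv_mul_cancel, M_one, one_mulVec, smul_neg]

include d in
theorem four [Finite X] (U : Subgroup P) (hU4 : Nat.card U = 4)
    (hc : ∀ u ∈ U, u ≠ 1 → IsTwoCentralInvolution u) : False := by
  classical
  have : Finite P := Finite.of_surjective d.π d.surj
  have hex : ∀ w : P, ∃ u ∈ U, u ≠ 1 ∧ u ≠ w := by
    intro w
    by_contra hcon
    push Not at hcon
    have h1 : (U : Set P) ⊆ {1, w} := by
      intro u hu
      by_cases h : u = 1
      · simp [h]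
      · simp [hcon u hu h]
    have h3 := Set.ncard_le_ncard h1 (Set.toFinite _)
    rw [show (U : Set P).ncard = 4 from hU4] at h3
    have h4 := Set.ncard_insert_le 1 ({w} : Set P)
    rw [Set.ncard_singleton] at h4
    omega
  obtain ⟨u1, hu1, h11, -⟩ := hex 1
  obtain ⟨u2, hu2, h21, h2u⟩ := hex u1
  obtain ⟨g1, rfl⟩ := d.surj u1
  obtain ⟨g2, rfl⟩ := d.surj u2
  have h3 : d.π (g1 * g2) ≠ 1 := by
    intro h
    rw [map_mul] at h
    have h4 : d.π g1 * d.π g1 = 1 := by rw [← pow_two, ← (hc _ hu1 h11).1, pow_orderOf_eq_one]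
    apply h2u
    calc d.π g2 = d.π g1 * d.π g1 * d.π g2 := by rw [h4, one_mul]
      _ = d.π g1 * (d.π g1 * d.π g2) := mul_assoc _ _ _
      _ = d.π g1 := by rw [h, mul_one]
  obtain ⟨c1, φ1, hc1, e1⟩ := d.two_central (hc _ hu1 h11)
  obtain ⟨c2, φ2, hc2, e2⟩ := d.two_central (hc _ hu2 h21)
  obtain ⟨c3, φ3, hc3, e3⟩ := d.two_central (g := g1 * g2) (hc _ (by rw [map_mul]; exact mul_mem hu1 hu2) h3)
  obtain ⟨v, hv, hv0⟩ : ∃ v : Fin 5 → F, v ∈ LinearMap.ker (LinearMap.pi ![φ1, φ2, φ3]) ∧ v ≠ 0 := by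
    apply Submodule.exists_mem_ne_zero_of_ne_bot
    apply LinearMap.ker_ne_bot_of_finrank_lt
    simp
  rw [LinearMap.mem_ker] at hv
  have f1 : φ1 v = 0 := congrFun hv 0
  have f2 : φ2 v = 0 := congrFun hv 1
  have f3 : φ3 v = 0 := congrFun hv 2
  have h5 := e3 v f3
  rw [M_mul, ← mulVec_mulVec, e2 v f2, mulVec_neg, mulVec_smul, e1 v f1, smul_neg, neg_neg, smul_smul] at h5
  have h6 : (c2 * c1 + c3) • v = 0 := by
    rw [add_smul, h5, neg_add_cancel]
  have h7 : c2 * c1 = -c3 := by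
    rcases smul_eq_zero.1 h6 with h | h
    · linear_combination h
    · exact absurd h hv0
  have h8 : (c2 * c1) ^ 5 = (-c3) ^ 5 := by rw [h7]
  rw [mul_pow, hc1, hc2, Odd.neg_pow (by decide), hc3] at h8
  apply d.h2
  linear_combination h8

end Dat5

end Cfsg.Agent.H991.FG
end

-- part: H991/FourL5
section
/-!
# No 2-central four-group in `PSL_5(q)` and `PSU_5(q)`, `q` odd (helper991)

Task 283 (for S3102).
-/

set_option autoImplicit false

namespace Cfsg.Agent.H991.FG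

open Cfsg Matrix Subgroup Cfsg.Agent.HoltZ Cfsg.Agent.HoltZ.Psl Cfsg.Agent.LieClassical.HermBasic

/-- the data for `PSL_5(q)` -/
def datL5 {F : Type} [Field F] (h2 : (2 : F) ≠ 0) {r s : F} (hrs : r ^ 2 + s ^ 2 = -1) :
    Dat5 (_root_.Matrix.SpecialLinearGroup (Fin 5) F) (Matrix.ProjectiveSpecialLinearGroup (Fin 5) F) hrs where
  ρ := MonoidHom.id _
  inj := fun _ _ h => h
  π := QuotientGroup.mk' (center (_root_.Matrix.SpecialLinearGroup (Fin 5) F))
  surj := QuotientGroup.mk'_surjective _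
  ker := by
    intro g
    rw [QuotientGroup.mk'_apply, QuotientGroup.eq_one_iff, Matrix.SpecialLinearGroup.mem_center_iff]
    constructor
    · rintro ⟨c, hc, hg⟩
      rw [Fintype.card_fin] at hc
      refine ⟨c, hc, ?_⟩
      change g.1 = _
      rw [← hg, scalar_apply, ← smul_one_eq_diagonal]
    · rintro ⟨c, hc, hg⟩
      refine ⟨c, by rw [Fintype.card_fin]; exact hc, ?_⟩
      change g.1 = _ at hg
      rw [hg, scalar_apply, ← smul_one_eq_diagonal]
  h2 := h2
  hD := fun A _ => ⟨emb A, rfl⟩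

theorem four_L5 {F : Type} [Field F] [Fintype F] (hF : Fintype.card F % 4 = 3)
    (U : Subgroup (Matrix.ProjectiveSpecialLinearGroup (Fin 5) F)) (hU4 : Nat.card U = 4)
    (hU2 : ∀ u ∈ U, u * u = 1) (hc : ∀ u ∈ U, u ≠ 1 → Cfsg.IsTwoCentralInvolution u) : False := by
  obtain ⟨r, s, hrs⟩ := Cfsg.Agent.HoltZ.exists_sq_add_sq (two_ne (F := F) (Nat.odd_iff.2 (by omega))) (-1)
  exact (datL5 (two_ne (Nat.odd_iff.2 (by omega))) hrs).four U hU4 hc

section U

variable {F : Type} [Field F] [Fintype F] {q : ℕ}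

omit [Fintype F] in
theorem emb_mem {A : _root_.Matrix.SpecialLinearGroup (Fin 4) F} (hA : A ∈ SU 4 F q) : emb A ∈ SU 5 F q := by
  rw [mem_SU_iff] at hA ⊢
  have key : ∀ u v : Fin 5 → F, hermForm 5 F q u v =
      hermForm 4 F q (fun i => u (Fin.castSucc i)) (fun i => v (Fin.castSucc i)) + u 4 * v 4 ^ q := by
    intro u v
    rw [herm_def, herm_def, Fin.sum_univ_castSucc]
    rfl
  have e1 : ∀ (u : Fin 5 → F) (i : Fin 4), ((emb A).1 *ᵥ u) (Fin.castSucc i) =
      (A.1 *ᵥ fun i => u (Fin.castSucc i)) i := by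
    intro u i
    rw [Matrix.mulVec, Matrix.mulVec, dotProduct, dotProduct, Fin.sum_univ_castSucc]
    have h1 : (emb A).1 (Fin.castSucc i) (Fin.last 4) = 0 := emb_cl A i
    rw [h1, zero_mul, add_zero]
    exact Finset.sum_congr rfl fun k _ => by rw [emb_cc]
  have e2 : ∀ (u : Fin 5 → F), ((emb A).1 *ᵥ u) 4 = u 4 := by
    intro u
    rw [Matrix.mulVec, dotProduct, Fin.sum_univ_castSucc]
    have h1 : (emb A).1 4 (Fin.last 4) = 1 := by rw [coe_emb']; rfl
    have h2 : ∀ i : Fin 4, (emb A).1 4 (Fin.castSucc i) = 0 := emb_lc A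
    rw [h1, one_mul, Finset.sum_eq_zero fun k _ => by rw [h2, zero_mul], zero_add]
    rfl
  intro u v
  rw [key, key u v, e2, e2]
  congr 1
  have h3 : ∀ u : Fin 5 → F, (fun i => ((emb A).1 *ᵥ u) (Fin.castSucc i)) = A.1 *ᵥ fun i => u (Fin.castSucc i) :=
    fun u => funext (e1 u)
  rw [h3, h3]
  exact hA _ _

theorem D4_le (hF : Fintype.card F = q ^ 2) {r s : F} (hrs : r ^ 2 + s ^ 2 = -1) (hr : r ^ q = -r)
    (hs : s ^ q = -s) : D4 hrs ≤ SU 4 F q := by
  unfold D4 D0
  rw [sup_le_iff, sup_le_iff, closure_le, closure_le, zpowers_le]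
  refine ⟨⟨?_, ?_⟩, ?_⟩
  · rintro A (rfl | rfl)
    · exact up_mem hF _ (by simp [zero_pow_q hF, neg_pow_q hF]) (by simp [zero_pow_q hF]) (by simp [zero_pow_q hF])
        (by simp only [zero_pow_q hF, _root_.MulZeroClass.mul_zero, _root_.MulZeroClass.zero_mul, _root_.add_zero])
    · exact up_mem hF _ (by rw [hr, hs]; linear_combination -hrs)
        (by rw [neg_pow_q hF, hr, hs]; linear_combination -hrs) (by rw [neg_pow_q hF, hr, hs]; ring)
        (by rw [hr, hs]; ring)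
  · rintro A (rfl | rfl)
    · exact lo_mem hF _ (by simp [zero_pow_q hF, neg_pow_q hF]) (by simp [zero_pow_q hF]) (by simp [zero_pow_q hF])
        (by simp only [zero_pow_q hF, _root_.MulZeroClass.mul_zero, _root_.MulZeroClass.zero_mul, _root_.add_zero])
    · exact lo_mem hF _ (by rw [hr, hs]; linear_combination -hrs)
        (by rw [neg_pow_q hF, hr, hs]; linear_combination -hrs) (by rw [neg_pow_q hF, hr, hs]; ring)
        (by rw [hr, hs]; ring)
  · rw [mem_SU_iff]
    intro u v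
    have e : ∀ u : Fin 4 → F, (sw4 : _root_.Matrix.SpecialLinearGroup (Fin 4) F).1 *ᵥ u = ![u 2, u 3, u 0, u 1] := by
      intro u
      ext i
      (revert i; simp only [sw4, Matrix.mulVec, dotProduct, Fin.sum_univ_four, _root_.Fin.forall_fin_succ, _root_.Matrix.of_apply, _root_.Matrix.cons_val', _root_.Matrix.cons_val_fin_one, Fin.isValue, _root_.Matrix.cons_val_zero, _root_.Matrix.cons_val_one, _root_.Matrix.cons_val, _root_.Nat.succ_eq_add_one, Nat.reduceAdd, _root_.MulZeroClass.zero_mul, _root_.add_zero, _root_.one_mul, _root_.zero_add, _root_.Matrix.cons_val_succ, _root_.implies_true, _root_.and_self])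
    rw [e, e, herm4, herm4]
    simp only [_root_.Nat.succ_eq_add_one, _root_.Nat.reduceAdd, _root_.Fin.isValue, _root_.Matrix.cons_val_zero, _root_.Matrix.cons_val_one, _root_.Matrix.cons_val]
    ring

/-- the data for `PSU_5(q)` -/
def datU5 (hF : Fintype.card F = q ^ 2) (h2 : (2 : F) ≠ 0) {r s : F} (hrs : r ^ 2 + s ^ 2 = -1) (hr : r ^ q = -r)
    (hs : s ^ q = -s) :
    Dat5 (SU 5 F q) (Cfsg.PSU 5 F q) hrs where
  ρ := (SU 5 F q).subtype
  inj := (SU 5 F q).subtype_injective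
  π := QuotientGroup.mk' (center (SU 5 F q))
  surj := QuotientGroup.mk'_surjective _
  ker := by
    intro g
    rw [QuotientGroup.mk'_apply, QuotientGroup.eq_one_iff]
    constructor
    · intro h
      obtain ⟨c, hcn, hcq, rfl⟩ := (Cfsg.Agent.LieClassical.SUBasic.mem_center_SU_iff hF (by norm_num) _).1 h
      refine ⟨c, hcn, ?_⟩
      change diagonal (fun _ => c) = _
      rw [← smul_one_eq_diagonal]
    · rintro ⟨c, hc, hg⟩
      change g.1.1 = c • 1 at hg
      rw [Subgroup.mem_center_iff]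
      intro h
      apply Subtype.ext
      apply Subtype.ext
      change h.1.1 * g.1.1 = g.1.1 * h.1.1
      rw [hg, mul_smul_comm, smul_mul_assoc, one_mul, mul_one]
  h2 := h2
  hD := fun A hA => ⟨⟨emb A, emb_mem (D4_le hF hrs hr hs hA)⟩, rfl⟩

theorem four_U5 {F : Type} [Field F] [Fintype F] {q : ℕ} (hF : Fintype.card F = q ^ 2) (hq : q % 4 = 1)
    (U : Subgroup (Cfsg.PSU 5 F q)) (hU4 : Nat.card U = 4) (hU2 : ∀ u ∈ U, u * u = 1)
    (hc : ∀ u ∈ U, u ≠ 1 → Cfsg.IsTwoCentralInvolution u) : False := by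
  obtain ⟨r, s, hrs, hr, hs⟩ := exists_ab hF (two_ne (odd_card_of hF hq))
  exact (datU5 hF (two_ne (odd_card_of hF hq)) hrs hr hs).four U hU4 hc

end U

end Cfsg.Agent.H991.FG
end

-- part: H285/FsQ
section
/-!
# The simple groups of sectional 2-rank at most 4 in the situation `Four` (helper285)
-/

set_option autoImplicit false

open Cfsg Subgroup

namespace Cfsg.Agent.H285.Fs

open Cfsg.Agent.GH.Defs
open Cfsg.Agent.H100.NormRank (Lower)

universe u v

/-- the conclusion of S3102 -/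
def Concl (S : Type u) [Group S] : Prop :=
  (∃ (F : Type) (_ : Field F) (_ : Fintype F), (Fintype.card F % 8 = 1 ∨ Fintype.card F % 8 = 7) ∧
      ∃ P : Sylow 2 ↥(Cfsg.Lie.chevG2.group F), (Nonempty (S ≃* ↥(P : Subgroup ↥(Cfsg.Lie.chevG2.group F))) :)) ∨
    (∃ P : Sylow 2 Cfsg.Spor.J2, (Nonempty (S ≃* ↥(P : Subgroup Cfsg.Spor.J2)) :)) ∨
    (∃ P : Sylow 2 Cfsg.Spor.Ly, Nonempty (S ≃* ↥(P : Subgroup Cfsg.Spor.Ly)))

theorem Concl.congr {S : Type u} {T : Type v} [Group S] [Group T] (e : S ≃* T) (h : Concl T) : Concl S := by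
  rcases h with ⟨F, i, j, hF, P, ⟨f⟩⟩ | ⟨P, ⟨f⟩⟩ | ⟨P, ⟨f⟩⟩
  · exact Or.inl ⟨F, i, j, hF, P, ⟨e.trans f⟩⟩
  · exact Or.inr (Or.inl ⟨P, ⟨e.trans f⟩⟩)
  · exact Or.inr (Or.inr ⟨P, ⟨e.trans f⟩⟩)

theorem lower_of_sq {G : Type u} [Group G] (h2 : ∀ x : G, x * x = 1) (h8 : 8 ≤ Nat.card G) : Lower G 3 := by
  refine ⟨⊤, inferInstance, ?_, ?_⟩
  · rw [Cfsg.Agent.H100.NormRank.elemAb_iff]
    have h3 : ∀ w : G, w⁻¹ = w := fun w => inv_eq_of_mul_eq_one_right (h2 w)
    refine ⟨fun a _ b _ => ?_, fun a _ => h2 a⟩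
    have h4 := h3 (a * b)
    rw [mul_inv_rev, h3 a, h3 b] at h4
    exact h4.symm
  · rw [Subgroup.card_top]
    exact h8

theorem rank_m11 {K : Type u} [Group K] (h : Spor.IsoM11 K) : PRankLE 2 2 K := by
  obtain ⟨e⟩ := h
  refine rank_congr (e.trans Cfsg.Agent.Schreier.MEleven.equiv.symm) ?_
  refine NotResT.SmallTwo.prank_of_centralizers fun t ht => ?_
  obtain ⟨f⟩ := Cfsg.Agent.S1603.result _ Cfsg.Agent.Schreier.MEleven.squareDodecad_mem _
      Cfsg.Agent.Schreier.MEleven.zero_mem t ht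
  exact rank_congr f (NotResT.SmallTwo.prank_gl_two (by decide))

theorem rank_k2 {K : Type u} [Group K] [Finite K] (h : K2 K) : PRankLE 2 2 K := by
  rcases h with h | h | h | h | h | h
  · obtain ⟨F, _, _, hF, -, ⟨e⟩⟩ := h
    exact rank_congr e (NotResT.TwoRank.prank_psl_two hF)
  · obtain ⟨F, _, _, hF, ⟨e⟩⟩ := h
    exact rank_congr e (NotResT.TwoRank.prank_psl_three hF)
  · obtain ⟨F, _, _, q, hF, hq, ⟨e⟩⟩ := h
    exact rank_congr e (NotResT.TwoRank.prank_psu_three hF hq)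
  · exact RankThree.FilterSpor.u34 h
  · obtain ⟨e⟩ := h
    exact rank_congr e NotResT.SmallTwo.prank_alt_seven
  · exact rank_m11 h

section

variable {K : Type u} [Group K] [Finite K] {T : Sylow 2 K} {W : Subgroup K}

theorem Four.no_lower (h : Four T W) {L : Type v} [Group L] (e : K ≃* L)
    (hL : ∀ S : Sylow 2 L, Lower ↥(S : Subgroup L) 3) : False := by
  obtain ⟨T', W', h', -⟩ := h.congr e
  exact h'.low (hL T')

theorem Four.no_e8 (h : Four T W) (hE : GH.EFrameMain.SylE8 K) : False := by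
  obtain ⟨h8, h2⟩ := hE T
  exact h.low (lower_of_sq (fun x => Subtype.ext (h2 x x.2)) h8.ge)

theorem Four.of_g2 (h : Four T W) (hG : TypeG2 ↥(T : Subgroup K)) : Concl ↥(T : Subgroup K) := by
  obtain ⟨F, i, j, hF, P, ⟨e⟩⟩ := hG
  rw [Nat.odd_iff] at hF
  rcases (by omega : (Fintype.card F % 8 = 1 ∨ Fintype.card F % 8 = 7) ∨
    (Fintype.card F % 8 = 3 ∨ Fintype.card F % 8 = 5)) with h4 | h4
  · exact Or.inl ⟨F, i, j, h4, P, ⟨e⟩⟩
  · exact (h.low ((H868.NormE8G.lower_G23 h4 P).congr e.symm)).elim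

/-- **The families.** -/
theorem Four.concl [IsSimpleGroup K] (hna : ¬ IsMulCommutative K) (h : Four T W) (hK : K4 K) :
    Concl ↥(T : Subgroup K) := by
  have hp : Fact (Nat.Prime 2) := ⟨Nat.prime_two⟩
  have heven : 2 ∣ Nat.card K := by
    have h1 : Nat.card W ∣ Nat.card K := card_subgroup_dvd_card W
    rw [h.w4] at h1
    exact Dvd.dvd.trans (by norm_num) h1
  rcases hK with hK | hK | hK | hK | hK | hK | hK | hK | hK | hK | hK | hK | hK | hK | hK | hK | hK | hK
  · exact absurd (rank_k2 hK) h.rk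
  · rcases hK with hK | hK | hK | hK
    · exact (h.no_e8 (GH.EFrameTops.sylE8_L28 hK)).elim
    · obtain ⟨F, _, _, hF, ⟨e⟩⟩ := hK
      exact (h.no_lower e (H978.LowEight.lower_Sz8 hF)).elim
    · exact (h.no_e8 (GH.EFrameTops.sylE8_ree hK)).elim
    · exact (h.no_e8 (GH.EFrameTops.sylE8_J1 hK)).elim
  · obtain ⟨F, _, _, hF, ⟨e⟩⟩ := hK
    obtain ⟨Q, hQ, hcard, -⟩ := Cfsg.Agent.Ree.ReducePSL.even_case (F := F) (by rw [hF]; decide)
    refine (h.no_lower e fun S => ?_).elim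
    have : Finite (Matrix.ProjectiveSpecialLinearGroup (Fin 2) F) := Finite.of_equiv K e.toEquiv
    refine Lower.congr (Q.equiv S) (lower_of_sq (fun x => Subtype.ext (hQ x x.2)) ?_)
    rw [show Nat.card ↥(Q : Subgroup (Matrix.ProjectiveSpecialLinearGroup (Fin 2) F)) = Fintype.card F from hcard, hF]
    norm_num
  · obtain ⟨F, _, _, hF, ⟨e⟩⟩ := hK
    exact (h.no_lower e (H978.LowEight.lower_L34 hF)).elim
  · obtain ⟨n, hn, hn', ⟨e⟩⟩ := hK
    exact (h.no_lower e (H978.LowEight.lower_alt hn hn')).elim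
  · obtain ⟨F, _, _, hF, ⟨e⟩⟩ := hK
    obtain ⟨T', W', h', -⟩ := h.congr e
    exact (H991.FG.four_Sp4 hF W' h'.w4 h'.w2 h'.wc).elim
  · obtain ⟨F, _, _, hF, h8, ⟨e⟩⟩ := hK
    rw [Nat.odd_iff] at hF
    rcases (by omega : Fintype.card F % 4 = 3 ∨ Fintype.card F % 8 = 5) with h4 | h4
    · obtain ⟨T', W', h', -⟩ := h.congr e
      exact (H991.FG.four_L4 h4 T' W' h'.WT h'.w4 h'.w2 h'.wn h'.wc).elim
    · exact (h.no_lower e (H956.NormE8.lower_L45 h4)).elim
  · obtain ⟨F, _, _, q, hF, hq, h8, ⟨e⟩⟩ := hK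
    rw [Nat.odd_iff] at hq
    rcases (by omega : q % 4 = 1 ∨ q % 8 = 3) with h4 | h4
    · obtain ⟨T', W', h', -⟩ := h.congr e
      exact (H991.FG.four_U4 hF h4 T' W' h'.WT h'.w4 h'.w2 h'.wn h'.wc).elim
    · exact (h.no_lower e (H956.NormE8.lower_U43 hF h4)).elim
  · obtain ⟨F, _, _, hF, ⟨e⟩⟩ := hK
    obtain ⟨T', W', h', -⟩ := h.congr e
    exact (H991.FG.four_L5 hF W' h'.w4 h'.w2 h'.wc).elim
  · obtain ⟨F, _, _, q, hF, hq, ⟨e⟩⟩ := hK
    obtain ⟨T', W', h', -⟩ := h.congr e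
    exact (H991.FG.four_U5 hF hq W' h'.w4 h'.w2 h'.wc).elim
  · exact h.of_g2 (hK.2 T)
  · exact h.of_g2 (hK.2 T)
  · exact (h.low (H868.NormE8.lower_M12 hK T)).elim
  · exact (h.low (H868.NormE8.lower_M22 hK T)).elim
  · exact (h.low (H868.NormE8.lower_M23 hK T)).elim
  · obtain ⟨e⟩ := hK
    obtain ⟨T', W', -, ⟨f⟩⟩ := h.congr e
    exact Or.inr (Or.inl ⟨T', ⟨f⟩⟩)
  · obtain ⟨F, _, _, ω, hF, hω, ⟨e⟩⟩ := hK
    obtain ⟨T', W', -, ⟨f⟩⟩ := h.congr e
    obtain ⟨f1⟩ := Schreier.JThreeSylow.exists_equiv hF (J3.Core.good_of_card hF hω) T'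
    let P : Sylow 2 Spor.J2 := default
    obtain ⟨g⟩ := J2Sylow.SporSylow.exists_equiv P
    exact Or.inr (Or.inl ⟨P, ⟨f.trans (f1.symm.trans g)⟩⟩)
  · rcases mcl_or_ly hna heven hK with hK | ⟨⟨e⟩⟩
    · exact (h.low (H868.NormE8M.lower_McL hK T)).elim
    · obtain ⟨T', W', -, ⟨f⟩⟩ := h.congr e
      exact Or.inr (Or.inr ⟨T', ⟨f⟩⟩)

end

end Cfsg.Agent.H285.Fs
end

private theorem dce_6736dff953bb : _root_.True := by
  try have : _root_.True := by simp only [_root_.Cfsg.Agent.HoltZ.Psl.lo.congr_simp]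
  try have : _root_.True := by simp only [_root_.Cfsg.Agent.HoltZ.Psl.up.congr_simp]
  try have : _root_.True := by simp only [_root_.Cfsg.Agent.H991.FG.sw4.eq_1]
  try have : _root_.True := by simp only [_root_.Cfsg.Agent.HoltZ.Psl.lo.eq_1]
  try have : _root_.True := by simp only [_root_.Cfsg.Agent.H991.FG.lM.eq_1]
  try have : _root_.True := by simp only [_root_.Cfsg.Agent.H991.FG.uM.eq_1]
  try have : _root_.True := by simp only [_root_.Cfsg.Agent.HoltZ.Psl.up.eq_1]
  exact _root_.True.intro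
end
end

-- part: S3102
section
set_option linter.all false
open scoped Cfsg.Agent.FastGrp

set_option autoImplicit false
open Cfsg

namespace Cfsg.Agent.S3102

/-- Let X be a finite group with no normal subgroup of index 2 and no isolated involution (no involution commuting with none of its other conjugates), and let S be a Sylow 2-subgroup of X of 2-rank at least 3 which has no normal elementary abelian subgroup of order 8. Suppose that for some normal Klein four-subgroup U of S the three involutions of U are conjugate in X. Then S is isomorphic to a Sylow 2-subgroup of the Chevalley group of type G₂ over a field with q elements, q ≡ 1 or 7 mod 8, or to a Sylow 2-subgroup of the second Janko group, or to a Sylow 2-subgroup of the Lyons group. -/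
theorem result {X : Type*} [Group X] [Finite X] (hidx : ∀ N : Subgroup X, N.Normal → N.index ≠ 2) (hiso : ∀ z : X, ¬ Cfsg.IsIsolatedInvolution z)
    (S : Sylow 2 X) (h3 : ¬ Cfsg.PRankLE 2 2 ↥(S : Subgroup X))
    (h8 : ∀ E : Subgroup ↥(S : Subgroup X), E.Normal → Cfsg.IsElementaryAbelian 2 E → Nat.card ↥E ≠ 8)
    (U : Subgroup ↥(S : Subgroup X)) (hU : IsKleinFour ↥U) (hUn : U.Normal)
    (hconj : ∀ u ∈ U, ∀ v ∈ U, u ≠ 1 → v ≠ 1 → IsConj (u : X) (v : X)) :
    (∃ (F : Type) (_ : Field F) (_ : Fintype F), (Fintype.card F % 8 = 1 ∨ Fintype.card F % 8 = 7) ∧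
        ∃ P : Sylow 2 ↥(Cfsg.Lie.chevG2.group F), Nonempty (↥(S : Subgroup X) ≃* ↥(P : Subgroup ↥(Cfsg.Lie.chevG2.group F)))) ∨
      (∃ P : Sylow 2 Cfsg.Spor.J2, Nonempty (↥(S : Subgroup X) ≃* ↥(P : Subgroup Cfsg.Spor.J2))) ∨
      (∃ P : Sylow 2 Cfsg.Spor.Ly, Nonempty (↥(S : Subgroup X) ≃* ↥(P : Subgroup Cfsg.Spor.Ly))) := by
  obtain ⟨Y, _, _, S', U', h, hr, ⟨e⟩⟩ := Cfsg.Agent.H285.Fs.exists_glob hidx hiso S h3 h8 U hU hUn hconj
  obtain ⟨K, hn, hs, hna, hc⟩ := h.exists_simple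
  have hK4 := Cfsg.Agent.H909.KFour.k4 ↥K hna (Cfsg.Agent.GH.Rank.of_subgroup h.sr K)
  have heven : 2 ∣ Nat.card ↥K := by
    by_contra h2
    have h4 : K = ⊥ := h.eq_bot_of_odd hn (by rwa [← Nat.not_even_iff_odd, even_iff_two_dvd])
    have : Nontrivial ↥K := hs.toNontrivial
    exact (Subgroup.nontrivial_iff_ne_bot K).1 this h4
  have hSK := h.le_of_okOut hn hc (Cfsg.Agent.H285.Fs.okOut_of_k4 hna heven hK4)
  obtain ⟨T, W, hF, ⟨f⟩⟩ := h.four hr hn hSK
  exact Cfsg.Agent.H285.Fs.Concl.congr (e.trans f) (hF.concl hna hK4)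

end Cfsg.Agent.S3102
end
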