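import Cfsg.Agent.StdRank2.End.HexAsm
import Cfsg.Agent.TriTwo.CoreTwo
import Cfsg.Agent.S1770
import Cfsg.Agent.Hexagon.D4Field
import Cfsg.Agent.H294.Mvd
import Cfsg.Agent.HexModel.Main_m3
import Cfsg.Agent.H294.Gen
import Cfsg.Agent.S1071
import Cfsg.Statements.S3136
import Cfsg.Agent.Prune
set_option linter.all false
open scoped Cfsg.Agent.FastGrp

-- part: H294/CoreHex
section
/-!
# Standard subgroups of type `³D₄(q)`, `G₂(q)`, `q` even: the exact conclusion for the reduced configuration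

`Conf L A t` (`StdL2.Setup`).  `Moved A t`: some element of `G` interchanges `t` and `t z`, `z` an involution of `A`.
* `d4_exact`: `A / Z(A) ≅ ³D₄(2^a)`: `t ∉ L`, `Moved A t` and `L ≅ ³D₄(4^a)`;
* `g2_exact`: `A / Z(A) ≅ G₂(2^a)`, `a ≥ 2`: `t ∉ L`, `Moved A t` and `L ≅ G₂(4^a)`.
-/

set_option autoImplicit false

namespace Cfsg.Agent.H294.CoreHex

open Cfsg Subgroup Cfsg.Agent.StdRank2.Hex Cfsg.Agent.SplitTwo Cfsg.Agent.StdEven.Syl
open Cfsg.Agent.StdEven.CoreQuot Cfsg.Agent.StdEven.Loc Cfsg.Agent.StdL2.Setup Cfsg.Agent.StdEven.Red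
open Cfsg.Agent.StdRank2.Hex.HexTwo
open Cfsg.Agent.HexGrow.Defs (Grown)
open Cfsg.Agent.HexGrow.OfHexTwo (XX)
open Cfsg.Agent.HexToX Cfsg.Agent.HexEight.ToPos Cfsg.Agent.StdRank2.End.HexLie
open Cfsg.Agent.H294.Mvd (Moved)

universe u v

section

variable {E : Type*} [Field E] [Finite E] {σ : E ≃+* E} {G : Type u} [Group G] [Finite G] {x : ZMod 12 → E → G}

theorem moved (h : HexTwo σ x) {ω : E} (hω : σ ω = ω) (h0 : ω ≠ 0) (h1 : ω ≠ 1) {L : Subgroup G} {t : G}
    (C : Conf L (AA σ x) t) : Moved (AA σ x) t := by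
  obtain ⟨x', T, h', hA, -, -, -, -, -, g, -, -, -, z, hz, hz1, -, hgt, hgz⟩ := HexStart.exists_start h C hω h0 h1
  obtain ⟨a, ha, rfl⟩ := h'.mem_gen_singleton.1 hz
  refine ⟨_, ?_, hz1, h'.x_sq ha, g, hgt, hgz⟩
  rw [← hA]
  exact x_mem_AA ha

end

/-- from the Sylow 2-subgroup to the group -/
theorem equiv_3D4 {G : Type u} [Group G] [Finite G] {S L : Subgroup G} (hs : IsSimpleGroup ↥L) (hS : IsSyl S L) {r : ℕ}
    (hr : 1 ≤ r) (e : Syl3D4 r ↥S) (K : Type) [Field K] [Fintype K] (hK : Fintype.card K = 8 ^ r) :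
    Nonempty (↥L ≃* ↥(Cfsg.Lie.twistedD4 K (2 ^ r))) := by
  obtain ⟨f⟩ := equiv_toSylow hS
  obtain ⟨P⟩ : Nonempty (Sylow 2 ↥(Cfsg.Lie.twistedD4 K (2 ^ r))) := inferInstance
  exact (Cfsg.Agent.S1770.result hS.toSylow r).2 K hr hK P ((e _ hK P).map f.trans)

/-- the exact conclusion for type `³D₄` -/
def ConclD4 {G : Type*} [Group G] (L A : Subgroup G) (t : G) (a : ℕ) : Prop :=
  t ∉ L ∧ Moved A t ∧ ∀ (K : Type) [Field K] [Fintype K], Fintype.card K = 8 ^ (2 * a) →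
    Nonempty (↥L ≃* ↥(Cfsg.Lie.twistedD4 K (2 ^ (2 * a))))

/-- **Type `³D₄(q)`, `q ≥ 4`.** -/
theorem d4_exact_big {G : Type u} [Group G] [Finite G] {L A : Subgroup G} {t : G} (C : Conf L A t)
    (hZ : Odd (Nat.card ↥(center ↥A))) {K : Type} [Field K] [Fintype K] {a : ℕ} (ha : 2 ≤ a)
    (hc : Fintype.card K = 8 ^ a) (e : (↥A ⧸ center ↥A) ≃* ↥(Cfsg.Lie.twistedD4 K (2 ^ a))) : ConclD4 L A t a := by
  obtain ⟨σ, x, hσ, -, -, hf, hx, rfl⟩ := HexModel.Main.of_D4 A (by omega) hc hZ C.std.1.1.commutator_eq_top e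
  obtain ⟨ω, hω, h0, h1⟩ : ∃ ω : K, σ ω = ω ∧ ω ≠ 0 ∧ ω ≠ 1 := by
    by_contra hcon
    push Not at hcon
    have h2 : Nat.card {c : K // σ c = c} ≤ 2 := by
      classical
      let f : {c : K // σ c = c} → Bool := fun c => if c.1 = 0 then true else false
      have hinj : Function.Injective f := by
        rintro ⟨c, hc⟩ ⟨d, hd⟩ h
        have h3 : (c = 0 ↔ d = 0) := by
          by_cases hc0 : c = 0 <;> by_cases hd0 : d = 0 <;> simp [f, hc0, hd0] at h ⊢
        apply Subtype.ext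
        show c = d
        by_cases hc0 : c = 0
        · rw [hc0, h3.1 hc0]
        · rw [hcon c hc hc0, hcon d hd (fun hd0 => hc0 (h3.2 hd0))]
      have := Nat.card_le_card_of_injective f hinj
      simpa using this
    have h4 : 2 ^ 2 ≤ 2 ^ a := Nat.pow_le_pow_right (by norm_num) ha
    omega
  obtain ⟨S, hS, htL, -, f2⟩ := Cfsg.Agent.StdRank2.End.HexAsm.asm hx hω h0 h1 C
  refine ⟨htL, moved hx hω h0 h1 C, fun K' _ _ hK => ?_⟩
  exact equiv_3D4 C.simple hS (r := 2 * a) (by omega) (f2 hσ (by rw [Nat.card_eq_fintype_card, hc])) K' hK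

section two

open Cfsg.Agent.TriTwo.Bridge Cfsg.Agent.TriTwo.Rec Cfsg.Agent.TriTwo Cfsg.Agent.TriTwo.CoreTwo

/-- **Type `³D₄(2)`.** -/
theorem d4_exact_two {G : Type u} [Group G] [Finite G] {L A : Subgroup G} {t : G} (C : Conf L A t)
    (hZ : Odd (Nat.card ↥(center ↥A))) {K : Type} [Field K] [Fintype K]
    (hK : Fintype.card K = 8) (e : (↥A ⧸ center ↥A) ≃* ↥(Cfsg.Lie.twistedD4 K 2)) : ConclD4 L A t 1 := by
  have hp : commutator ↥A = ⊤ := C.std.1.1.commutator_eq_top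
  obtain ⟨σ, x, hσ, h3, hne, hfix, hx, hA⟩ := HexModel.Main.of_D4 A (a := 1) le_rfl (by rw [hK]; norm_num) hZ hp
    (by rw [pow_one]; exact e)
  have hc : Nat.card K = 8 := by rw [Nat.card_eq_fintype_card, hK]
  have hf : ∀ a, σ a = a → a = 0 ∨ a = 1 := fix_of_card (by rw [hfix]; norm_num)
  have h1770 : Rec1770.{u} := fun _ _ _ _ S r => (Cfsg.Agent.S1770.result S r).2
  obtain ⟨T, H, hTA, -, g, -, -, hgt, hgz⟩ := exists_hyp C hZ hx hA.symm hc hf
    (rec_card h1770 C hx hA.symm hc hf hK e)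
  subst hA
  have v := env hx hc hf H hTA hgt hgz
  obtain ⟨V, W, gr⟩ := Chain.exists_gr v
  obtain ⟨-, hS⟩ := exists_hex hx hc hf H
  have hAA : im (AA σ x) t (AA σ x) = AA σ (Cfsg.Agent.TriTwo.Bridge.xX (AA σ x) t x) := hS Set.univ
  obtain ⟨s, hs0, hs1⟩ := PF.exists_unit v.hex hc
  have hLn := C.normal
  have hN : (im (AA σ x) t L).Normal := by
    constructor
    intro n hn y
    obtain ⟨l, hl, rfl⟩ := mem_im.mp hn
    obtain ⟨m, rfl⟩ := pr_surjective (AA σ x) t y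
    rw [← map_inv, ← map_mul, ← map_mul]
    exact pr_mem_im (hLn.conj_mem _ hl _)
  have hSL : HexGrow.Defs.UU V 1 ≤ im (AA σ x) t L := InL.UU_le v.hex ⟨s, hs0, hs1⟩ v.tx W
    (fun r y => v.hex.mem_gen_singleton) hN (by rw [← hAA]; exact im_mono C.le) 1
  obtain ⟨S, hSy, htL, hSN, hSi, ⟨f⟩, -⟩ := StdEven.EndLift.main C H (EndX.endX hx hc hf H hTA W) hSL
  have hmv : Moved (AA σ x) t := ⟨x 4 1, x_mem_AA (ok_one σ _), fun e => one_ne_zero (hx.inj 4 1 (ok_one σ _) e),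
    hx.x_sq (ok_one σ _), g, hgt, hgz⟩
  refine ⟨htL, hmv, fun K' _ _ hK' => ?_⟩
  rcases split_or gr hc hf (fun a => by rw [hσ, pow_one]) with ⟨S₁, S₂, D₁, D₂, hd⟩ | hfield
  · exfalso
    exact WreathFusion.false_of_im C H hSy hSN (by rw [hSi]; exact hd)
  · obtain ⟨P⟩ : Nonempty (Sylow 2 ↥(Cfsg.Lie.twistedD4 K' (2 ^ 2))) := inferInstance
    obtain ⟨k⟩ := hfield K' (by rw [hK']; norm_num) P
    have hsimple := C.simple
    have e1 : ↥((hSy.toSylow : Sylow 2 ↥L) : Subgroup ↥L) ≃* ↥S := subgroupOfEquivOfLe hSy.le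
    exact h1770 ↥L hSy.toSylow 2 K' (by norm_num) (by rw [hK']) P ⟨(e1.trans f).trans k⟩

end two

/-- **Type `³D₄(q)`.** -/
theorem d4_exact {G : Type u} [Group G] [Finite G] {L A : Subgroup G} {t : G} (C : Conf L A t)
    (hZ : Odd (Nat.card ↥(center ↥A))) {K : Type} [Field K] [Fintype K] {a : ℕ} (ha : 1 ≤ a)
    (hc : Fintype.card K = 8 ^ a) (e : (↥A ⧸ center ↥A) ≃* ↥(Cfsg.Lie.twistedD4 K (2 ^ a))) : ConclD4 L A t a := by
  rcases Nat.lt_or_ge a 2 with h | h
  · obtain rfl : a = 1 := by omega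
    exact d4_exact_two C hZ (by simpa using hc) (by simpa using e)
  · exact d4_exact_big C hZ h hc e

end Cfsg.Agent.H294.CoreHex
end

-- part: H294/MulHex
section
/-!
# Odd central extensions of `G₂(q)`, `³D₄(q)`, `q` even, split

`Split K`: every perfect finite central extension of `K` with kernel of odd order is an isomorphism.
* `split_of_hexTwo`: true if `K` is generated by a hexagonal system in characteristic two;
* `split_G2`, `split_D4`: `G₂(q)`, `³D₄(q)`, `q` even.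
-/

set_option autoImplicit false

namespace Cfsg.Agent.H294.MulHex

open Cfsg.Lie Cfsg.Agent.StdRank2.Hex Cfsg.Agent.StdRank2.Hex.HexTwo Cfsg.Agent.StdRank2.FrameLift
open Cfsg.Agent.HexModel

universe u v

/-- Every perfect finite central extension of `K` with kernel of odd order is an isomorphism: the odd part of the
Schur multiplier of `K` is trivial (for `K` perfect). -/
def OddSplit (K : Type v) [Group K] : Prop :=
  ∀ (X : Type u) [Group X] [Finite X] (f : X →* K), Function.Surjective f → commutator X = ⊤ →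
    f.ker ≤ Subgroup.center X → Odd (Nat.card f.ker) → f.ker = ⊥

theorem split_of_hexTwo {E : Type*} [Field E] [Finite E] {σ : E ≃+* E} {K : Type v} [Group K] {y : ZMod 12 → E → K}
    (h : HexTwo σ y) (htop : AA σ y = ⊤) : OddSplit.{u} K := by
  intro X _ _ f hf hp hc ho
  have c : OddCover f := OddCover.of_card hf hc ho
  have h0 := lift_hexTwo c h
  have h1 := lift_AA c h htop hp
  rw [eq_bot_iff]
  intro z hz
  rw [Subgroup.mem_bot]
  refine center_eq_one h0 (g := z) (by rw [h1]; trivial) fun k a _ => ?_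
  rw [mul_inv_eq_iff_eq_mul]
  exact c.central z hz _

/-- **`³D₄(q)`, `q` even.** -/
theorem split_D4 {K : Type*} [Field K] [Fintype K] {a : ℕ} (ha : 1 ≤ a) (hc : Fintype.card K = 8 ^ a) :
    OddSplit.{u} ↥(twistedD4 K (2 ^ a)) := by
  obtain ⟨σ, hσ, h3, -, -⟩ := Main.exists_sigma ha hc
  have h2 : (2 : K) = 0 := by
    apply Main.two_eq_zero (n := 3 * a)
    rw [hc, pow_mul]
    norm_num
  exact split_of_hexTwo (Main.d4_hexTwo hσ h2 h3) (Main.d4_top hσ h2)

end Cfsg.Agent.H294.MulHex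
end

-- part: H294/D4Std
section
/-!
# Standard subgroups of type `³D₄(q)`, `q` even, whose centralizer has cyclic Sylow 2-subgroups
-/

set_option autoImplicit false

namespace Cfsg.Agent.H294.D4Std

open Cfsg Subgroup Cfsg.Agent.H293.StdOdd Cfsg.Agent.H293.G2Odd Cfsg.Agent.H293.G2Std

universe u v

theorem noOddExt_of_split {K : Type*} [Group K] (h : MulHex.OddSplit.{u} K) : NoOddExt.{u} K := by
  intro X _ _ hp f hf hc ho
  exact (MonoidHom.ker_eq_bot_iff f).1 (h X f hf hp hc ho)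

theorem noOddExt {K : Type*} [Field K] [Fintype K] {a : ℕ} (ha : 1 ≤ a) (hc : Fintype.card K = 8 ^ a) :
    NoOddExt.{u} ↥(Cfsg.Lie.twistedD4 K (2 ^ a)) := noOddExt_of_split (MulHex.split_D4 ha hc)

theorem exists_field (n : ℕ) (hn : 1 ≤ n) : ∃ (E : Type) (_ : Field E) (_ : Fintype E), Fintype.card E = 8 ^ n := by
  let _ : Fintype (GaloisField 2 (3 * n)) := Fintype.ofFinite _
  refine ⟨GaloisField 2 (3 * n), inferInstance, inferInstance, ?_⟩
  rw [← Nat.card_eq_fintype_card, GaloisField.card 2 (3 * n) (by omega), pow_mul]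
  norm_num

/-- simplicity -/
theorem simple {K : Type*} [Field K] [Fintype K] {a : ℕ} (ha : 1 ≤ a) (hc : Fintype.card K = 8 ^ a) :
    IsSimpleGroup ↥(Cfsg.Lie.twistedD4 K (2 ^ a)) ∧ ¬ IsMulCommutative ↥(Cfsg.Lie.twistedD4 K (2 ^ a)) :=
  Cfsg.Agent.S1071.result ((isPrimePow_nat_iff _).2 ⟨2, a, Nat.prime_two, by omega, rfl⟩)
    (by rw [hc, ← pow_mul, mul_comm, pow_mul]; norm_num)

variable {G : Type u} [Group G] [Finite G]

/-- **The theorem.** -/
theorem main (L : Subgroup G) (hL : Cfsg.IsStandardSubgroup L)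
    {K : Type v} [Field K] [Fintype K] (n : ℕ) (hn : 1 ≤ n) (hK : Fintype.card K = 8 ^ n)
    (hLX : Nonempty (↥L ≃* ↥(Cfsg.Lie.twistedD4 K (2 ^ n))))
    (hR : ∀ R : Sylow 2 ↥(centralizer (L : Set G)), IsCyclic ↥(R : Subgroup ↥(centralizer (L : Set G)))) :
    (L ⊔ Cfsg.oddCore G).Normal ∨
      (∃ (E : Type) (_ : Field E) (_ : Fintype E), Fintype.card E = 64 ^ n ∧
        Nonempty (↥(Cfsg.layer G) ≃* ↥(Cfsg.Lie.twistedD4 E (4 ^ n)))) ∨
      Nonempty (↥(Cfsg.layer G) ≃* ↥L × ↥L) := by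
  by_cases hnorm : (L ⊔ Cfsg.oddCore G).Normal
  · exact Or.inl hnorm
  right
  have h : Hyp L := ⟨hL, hR⟩
  obtain ⟨eL⟩ := hLX
  obtain ⟨K₀, i1, i2, hK₀⟩ := exists_field n hn
  obtain ⟨E, j1, j2, hE⟩ := exists_field (2 * n) (by omega)
  have φ : K ≃+* K₀ := FiniteField.ringEquivOfCardEq (by rw [hK, hK₀])
  have eL₀ : ↥L ≃* ↥(Cfsg.Lie.twistedD4 K₀ (2 ^ n)) := eL.trans (Cfsg.Agent.Hexagon.D4Field.equiv φ (2 ^ n))
  obtain ⟨hs, hnc⟩ := simple hn hK₀
  have hZ : center ↥L = ⊥ := center_eq_bot (simple_congr eL₀.symm hs) (nc_congr eL₀.symm hnc)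
  obtain ⟨hlay, hc⟩ := Gen.general h hnorm hs hnc (noOddExt hn hK₀) (by rw [hZ]; simp) ((quotBot hZ).trans eL₀)
    (noOddExt (a := 2 * n) (by omega) hE) (by
      intro H _ _ N A t C hZA e
      obtain ⟨-, ⟨z, hz, hz1, -, g, hg, -⟩, hN⟩ := CoreHex.d4_exact C hZA hn hK₀ e
      exact ⟨hN E hE, g, z, hz, hz1, hg⟩)
  have h4 : (2 : ℕ) ^ (2 * n) = 4 ^ n := by rw [pow_mul]; norm_num
  rcases hc with k | k
  · left
    obtain ⟨k⟩ := k
    refine ⟨E, j1, j2, by rw [hE, pow_mul]; norm_num, ?_⟩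
    rw [hlay, ← h4]
    exact ⟨k⟩
  · right
    obtain ⟨k⟩ := k
    rw [hlay]
    exact ⟨k.trans (eL₀.symm.prodCongr eL₀.symm)⟩

end Cfsg.Agent.H294.D4Std
end

-- part: S3136
section
set_option autoImplicit false
open Cfsg

namespace Cfsg.Agent.S3136

/-- Let G be a finite group with a standard subgroup L isomorphic to the triality-twisted group of type D₄ with parameter q = 2^n ≥ 2 (realised over the field with q³ elements), such that the centralizer of L in G has cyclic Sylow 2-subgroups. Assume moreover that for every section X of G (a quotient of a subgroup of G by a normal subgroup of that subgroup), every 2-local subgroup of X/O(X) has its 2-layer equal to its layer (all its 2-components are quasisimple), O(X) being the largest normal odd-order subgroup. Then one of the following holds: L·O(G) is normal in G; the layer E(G) is isomorphic to the triality-twisted group of type D₄ with parameter q² (realised over the field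 with q⁶ elements); or E(G) is isomorphic to L × L. -/
theorem result {G : Type*} [Group G] [Finite G] (L : Subgroup G) (hL : Cfsg.IsStandardSubgroup L)
    {K : Type*} [Field K] [Fintype K] (n : ℕ) (hn : 1 ≤ n) (hK : Fintype.card K = 8 ^ n)
    (hLX : Nonempty (↥L ≃* ↥(Cfsg.Lie.twistedD4 K (2 ^ n))))
    (hR : ∀ R : Sylow 2 ↥(Subgroup.centralizer (L : Set G)), IsCyclic ↥(R : Subgroup ↥(Subgroup.centralizer (L : Set G))))
    (hS : ∀ (H : Subgroup G) (N : Subgroup ↥H) [N.Normal] (M : Subgroup ((↥H ⧸ N) ⧸ Cfsg.oddCore (↥H ⧸ N))),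
      Cfsg.IsTwoLocal M → Cfsg.pLayer 2 ↥M = Cfsg.layer ↥M) :
    (L ⊔ Cfsg.oddCore G).Normal ∨
      (∃ (E : Type) (_ : Field E) (_ : Fintype E), Fintype.card E = 64 ^ n ∧ Nonempty (↥(Cfsg.layer G) ≃* ↥(Cfsg.Lie.twistedD4 E (4 ^ n)))) ∨
      Nonempty (↥(Cfsg.layer G) ≃* ↥L × ↥L) :=
  Cfsg.Agent.H294.D4Std.main L hL n hn hK hLX hR

end Cfsg.Agent.S3136
end
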