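import Cfsg.Agent.H298.UThree.FourB
import Cfsg.Prelude.Def_Transfer
import Cfsg.Prelude.Def_TwoFusion
import Cfsg.Agent.S0282
import Cfsg.Statements.S3151
import Cfsg.Agent.FastGrp
import Cfsg.Agent.Prune
set_option linter.all false
prune_inst 0x3fffffffffffffffffffffffffffbeffbdffffffff
open scoped Cfsg.Agent.FastGrp

-- part: H298/UThree/Two
section
/-!
# S3151: the case `|E| = 2`
-/

set_option autoImplicit false
set_option linter.unusedSectionVars false

namespace Cfsg.Agent.H298.UThree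

open Subgroup Cfsg.Agent.OddHalf.D4.Basic Cfsg.Agent.OddHalf.D4.U3.ParDefs
open Cfsg.Agent.OddHalf.D4.CommConj (cj mem_cj cj_mul card_cj cj_eq_of_mem_normalizer mem_normalizer_of_cj_eq
  mem_cj_mul)
open Cfsg.Agent.SignalizersComponents

universe u v

section General

variable {G : Type u} [Group G]

/-- a non-trivial elementary abelian strongly closed 2-subgroup -/
def C1 (G : Type u) [Group G] : Prop :=
  ∃ (P : Sylow 2 G) (Q : Subgroup G), Q ≠ ⊥ ∧ Cfsg.IsElementaryAbelian 2 Q ∧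
    Cfsg.IsStronglyClosed Q (P : Subgroup G)

/-- a complement of `⟨t⟩` -/
def C2 (t : G) : Prop := ∃ H : Subgroup G, t ∉ H ∧ ∀ g, g ∈ H ∨ t * g ∈ H

/-- involutions of 2-subgroups of `L` are central in them -/
def InvCent (L : Subgroup G) : Prop :=
  ∀ T : Subgroup G, T ≤ L → IsPGroup 2 ↥T → ∀ z ∈ T, z * z = 1 → ∀ s ∈ T, z * s = s * z

theorem InvCent.of_equiv {L M : Subgroup G} (e : ↥L ≃* ↥M) (hM : InvCent M) : InvCent L := by
  intro T hTL hT z hz hz2 s hs
  have h1 := hM (((T.subgroupOf L).map e.toMonoidHom).map M.subtype) (by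
    rintro _ ⟨x, -, rfl⟩
    exact x.2) (by
    have h2 : IsPGroup 2 ↥(T.subgroupOf L) := hT.comap_subtype
    exact (h2.map _).map _) (e ⟨z, hTL hz⟩) ⟨_, ⟨⟨z, hTL hz⟩, mem_subgroupOf.mpr hz, rfl⟩, rfl⟩ (by
    have h3 : (⟨z, hTL hz⟩ : ↥L) * ⟨z, hTL hz⟩ = 1 := Subtype.ext hz2
    have h4 : e ⟨z, hTL hz⟩ * e ⟨z, hTL hz⟩ = 1 := by rw [← map_mul, h3, map_one]
    exact congrArg Subtype.val h4) (e ⟨s, hTL hs⟩) ⟨_, ⟨⟨s, hTL hs⟩, mem_subgroupOf.mpr hs, rfl⟩, rfl⟩
  have h2 : e (⟨z, hTL hz⟩ * ⟨s, hTL hs⟩) = e (⟨s, hTL hs⟩ * ⟨z, hTL hz⟩) := by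
    rw [map_mul, map_mul]
    exact Subtype.ext h1
  exact congrArg Subtype.val (e.injective h2)

theorem mem_sup_of_comm {X Y : Subgroup G} (hc : ∀ a ∈ X, ∀ b ∈ Y, a * b = b * a) {z : G} (hz : z ∈ X ⊔ Y) :
    ∃ x ∈ X, ∃ y ∈ Y, z = x * y := by
  have h1 : X ≤ normalizer (Y : Set G) := by
    intro x hx
    apply mem_normalizer_of
    · intro y hy
      rw [hc x hx y hy, mul_inv_cancel_right]; exact hy
    · intro y hy
      have : x⁻¹ * y * x = y := by rw [mul_assoc, ← hc x hx y hy]; group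
      rw [this]; exact hy
  have h2 : z ∈ ((X ⊔ Y : Subgroup G) : Set G) := hz
  rw [coe_mul_of_left_le_normalizer_right X Y h1] at h2
  obtain ⟨x, hx, y, hy, rfl⟩ := h2
  exact ⟨x, hx, y, hy, rfl⟩

/-- the projection of a 2-subgroup of `XY` -/
theorem proj_comm {X Y : Subgroup G} (hc : ∀ a ∈ X, ∀ b ∈ Y, a * b = b * a) (hi : X ⊓ Y = ⊥) (hX : InvCent X)
    {T : Subgroup G} (hT : IsPGroup 2 ↥T) {x y x' y' : G} (hx : x ∈ X) (hy : y ∈ Y) (hx' : x' ∈ X) (hy' : y' ∈ Y)
    (h1 : x * y ∈ T) (h2 : x' * y' ∈ T) (h3 : (x * y) * (x * y) = 1) : x * x' = x' * x := by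
  have hone : ∀ a ∈ X, ∀ b ∈ Y, a * b = 1 → a = 1 := by
    intro a ha b hb hab
    have h4 : a = b⁻¹ := eq_inv_of_mul_eq_one_left hab
    have h5 : a ∈ X ⊓ Y := mem_inf.mpr ⟨ha, by rw [h4]; exact inv_mem hb⟩
    rwa [hi, mem_bot] at h5
  let TX : Subgroup G :=
    { carrier := {a | a ∈ X ∧ ∃ b ∈ Y, a * b ∈ T}
      one_mem' := ⟨one_mem _, 1, one_mem _, by rw [mul_one]; exact one_mem _⟩
      mul_mem' := by
        rintro a a' ⟨ha, b, hb, hab⟩ ⟨ha', b', hb', hab'⟩
        refine ⟨mul_mem ha ha', b * b', mul_mem hb hb', ?_⟩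
        have : a * a' * (b * b') = a * b * (a' * b') := by
          calc a * a' * (b * b') = a * (a' * b) * b' := by group
            _ = a * b * (a' * b') := by rw [hc a' ha' b hb]; group
        rw [this]; exact mul_mem hab hab'
      inv_mem' := by
        rintro a ⟨ha, b, hb, hab⟩
        refine ⟨inv_mem ha, b⁻¹, inv_mem hb, ?_⟩
        have : a⁻¹ * b⁻¹ = (a * b)⁻¹ := by
          rw [mul_inv_rev]
          exact hc _ (inv_mem ha) _ (inv_mem hb)
        rw [this]; exact inv_mem hab }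
  have hTX : IsPGroup 2 ↥TX := by
    rintro ⟨a, ha, b, hb, hab⟩
    obtain ⟨k, hk⟩ := Two.of_mem hT hab
    refine ⟨k, Subtype.ext ?_⟩
    have h4 : Commute a b := hc a ha b hb
    rw [h4.mul_pow] at hk
    exact hone _ (pow_mem ha _) _ (pow_mem hb _) hk
  refine hX TX (fun a ha => ha.1) hTX x ⟨hx, y, hy, h1⟩ ?_ x' ⟨hx', y', hy', h2⟩
  apply hone _ (mul_mem hx hx) _ (mul_mem hy hy)
  calc x * x * (y * y) = x * (x * y) * y := by group
    _ = x * (y * x) * y := by rw [hc x hx y hy]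
    _ = x * y * (x * y) := by group
    _ = 1 := h3

theorem InvCent.sup {X Y : Subgroup G} (hc : ∀ a ∈ X, ∀ b ∈ Y, a * b = b * a) (hi : X ⊓ Y = ⊥) (hX : InvCent X)
    (hY : InvCent Y) : InvCent (X ⊔ Y) := by
  intro T hTL hT z hz hz2 s hs
  obtain ⟨x, hx, y, hy, rfl⟩ := mem_sup_of_comm hc (hTL hz)
  obtain ⟨x', hx', y', hy', rfl⟩ := mem_sup_of_comm hc (hTL hs)
  have h1 := proj_comm hc hi hX hT hx hy hx' hy' hz hs hz2
  have h2 := proj_comm (fun a ha b hb => (hc b hb a ha).symm) (by rw [inf_comm]; exact hi) hY hT hy hx hy' hx'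
    (by rw [← hc x hx y hy]; exact hz) (by rw [← hc x' hx' y' hy']; exact hs)
    (by rw [← hc x hx y hy]; exact hz2)
  calc x * y * (x' * y') = x * (y * x') * y' := by group
    _ = (x * x') * (y * y') := by rw [← hc x' hx' y hy]; group
    _ = x' * (x * y') * y := by rw [h1, h2]; group
    _ = x' * y' * (x * y) := by rw [hc x hx y' hy']; group

variable [Finite G]

theorem invCent_of_par {F : Type v} [Field F] [Fintype F] [CharP F 2] {σ : F →+* F}
    [hσ : Fact (∀ x, σ (σ x) = x)] {n : ℕ} {L : Subgroup G} (p : Par L σ n) : InvCent L := by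
  intro T hTL hT z hz hz2 s hs
  obtain ⟨k, hk, hle⟩ := p.exists_cj_le hT hTL
  have h1 : k * z * k⁻¹ ∈ p.S := hle (mem_cj_mul hz)
  have h2 : k * s * k⁻¹ ∈ p.S := hle (mem_cj_mul hs)
  have h3 : k * z * k⁻¹ ∈ p.Z := p.mem_Z_of_sq h1 (by
    calc k * z * k⁻¹ * (k * z * k⁻¹) = k * (z * z) * k⁻¹ := by group
      _ = 1 := by rw [hz2]; group)
  have h4 := p.Z_comm h3 h2
  calc z * s = k⁻¹ * (k * z * k⁻¹ * (k * s * k⁻¹)) * k := by group
    _ = k⁻¹ * (k * s * k⁻¹ * (k * z * k⁻¹)) * k := by rw [h4]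
    _ = s * z := by group

/-- **strongly closed `Ω₁(S ∩ L)`** -/
theorem c1_of_invCent {L : Subgroup G} (hLn : L.Normal) (hL : InvCent L) (hev : ∃ x ∈ L, orderOf x = 2) :
    C1 G := by
  have : Fact (Nat.Prime 2) := ⟨Nat.prime_two⟩
  obtain ⟨u, hu, hu2⟩ := hev
  have h1 : IsPGroup 2 ↥(zpowers u) := by
    apply IsPGroup.of_card (n := 1)
    rw [Nat.card_zpowers, hu2, pow_one]
  obtain ⟨S, hS⟩ := h1.exists_le_sylow
  have huS : u ∈ (S : Subgroup G) := hS (mem_zpowers u)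
  have hT2 : IsPGroup 2 ↥((S : Subgroup G) ⊓ L : Subgroup G) := S.isPGroup'.to_le inf_le_left
  have hTL : (S : Subgroup G) ⊓ L ≤ L := inf_le_right
  let Q : Subgroup G :=
    { carrier := {x | x ∈ (S : Subgroup G) ⊓ L ∧ x * x = 1}
      one_mem' := ⟨one_mem _, one_mul 1⟩
      mul_mem' := by
        rintro x y ⟨hx, hx2⟩ ⟨hy, hy2⟩
        refine ⟨mul_mem hx hy, ?_⟩
        have h2 := hL _ hTL hT2 x hx hx2 y hy
        calc x * y * (x * y) = x * (y * x) * y := by group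
          _ = (x * x) * (y * y) := by rw [← h2]; group
          _ = 1 := by rw [hx2, hy2, one_mul]
      inv_mem' := by
        rintro x ⟨hx, hx2⟩
        refine ⟨inv_mem hx, ?_⟩
        rw [← mul_inv_rev, hx2, inv_one] }
  have memQ : ∀ x, x ∈ Q ↔ (x ∈ (S : Subgroup G) ⊓ L ∧ x * x = 1) := fun x => Iff.rfl
  refine ⟨S, Q, ?_, ⟨⟨⟨fun x y => ?_⟩⟩, ?_⟩, ?_, ?_⟩
  · intro h2
    have h3 : u ∈ Q := (memQ u).mpr ⟨mem_inf.mpr ⟨huS, hu⟩, by rw [← pow_two, ← hu2, pow_orderOf_eq_one]⟩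
    rw [h2, mem_bot] at h3
    rw [h3, orderOf_one] at hu2
    omega
  · exact Subtype.ext (hL _ hTL hT2 x ((memQ x).mp x.2).1 ((memQ x).mp x.2).2 y ((memQ y).mp y.2).1)
  · intro x hx
    rw [pow_two]
    exact ((memQ x).mp hx).2
  · intro x hx
    exact (mem_inf.mp ((memQ x).mp hx).1).1
  · intro x hx g hg
    obtain ⟨h2, h3⟩ := (memQ x).mp hx
    refine (memQ _).mpr ⟨mem_inf.mpr ⟨hg, hLn.conj_mem x (mem_inf.mp h2).2 g⟩, ?_⟩
    calc g * x * g⁻¹ * (g * x * g⁻¹) = g * (x * x) * g⁻¹ := by group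
      _ = 1 := by rw [h3]; group

/-- `C1` lifts from the quotient by a normal subgroup of odd order -/
theorem c1_of_quot {N : Subgroup G} [hN : N.Normal] (hodd : Odd (Nat.card ↥N)) (h : C1 (G ⧸ N)) : C1 G := by
  have : Fact (Nat.Prime 2) := ⟨Nat.prime_two⟩
  obtain ⟨P, Q, hQ, ⟨hQc, hQ2⟩, hQP, hcl⟩ := h
  have S₀ : Sylow 2 G := default
  obtain ⟨g, hg⟩ := MulAction.exists_smul_eq (G ⧸ N) (S₀.mapSurjective (QuotientGroup.mk'_surjective N)) P
  obtain ⟨g, rfl⟩ := QuotientGroup.mk'_surjective N g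
  have hSP : ((g • S₀ : Sylow 2 G) : Subgroup G).map (QuotientGroup.mk' N) = (P : Subgroup (G ⧸ N)) := by
    rw [← hg, Sylow.coe_subgroup_smul, Sylow.coe_subgroup_smul, Sylow.coe_mapSurjective]
    ext x
    constructor
    · rintro ⟨_, ⟨s, hs, rfl⟩, rfl⟩
      exact ⟨_, ⟨s, hs, rfl⟩, rfl⟩
    · rintro ⟨_, ⟨s, hs, rfl⟩, rfl⟩
      exact ⟨_, ⟨s, hs, rfl⟩, rfl⟩
  set S := g • S₀ with hS
  have hone : ∀ x ∈ (S : Subgroup G), QuotientGroup.mk' N x = 1 → x = 1 := by
    intro x hx h1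
    rw [← MonoidHom.mem_ker, QuotientGroup.ker_mk'] at h1
    have h3 : x ^ Nat.card ↥N = 1 := by
      have : (⟨x, h1⟩ : ↥N) ^ Nat.card ↥N = 1 := pow_card_eq_one'
      exact congrArg Subtype.val this
    exact (Two.of_mem S.isPGroup' hx).eq_one_of_odd hodd h3
  refine ⟨S, (S : Subgroup G) ⊓ Q.comap (QuotientGroup.mk' N), ?_, ⟨⟨⟨fun x y => ?_⟩⟩, ?_⟩, inf_le_left, ?_⟩
  · intro h1
    apply hQ
    rw [eq_bot_iff]
    intro q hq
    have h2 : q ∈ (P : Subgroup (G ⧸ N)) := hQP hq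
    rw [← hSP] at h2
    obtain ⟨s, hs, rfl⟩ := h2
    have h3 : s ∈ (S : Subgroup G) ⊓ Q.comap (QuotientGroup.mk' N) := mem_inf.mpr ⟨hs, hq⟩
    rw [h1, mem_bot] at h3
    rw [h3, map_one]
    exact one_mem _
  · obtain ⟨hx1, hx2⟩ := mem_inf.mp x.2
    obtain ⟨hy1, hy2⟩ := mem_inf.mp y.2
    have h1 := hQc.is_comm.comm (⟨_, hx2⟩ : ↥Q) ⟨_, hy2⟩
    have h2 : QuotientGroup.mk' N (x : G) * QuotientGroup.mk' N (y : G) =
        QuotientGroup.mk' N (y : G) * QuotientGroup.mk' N (x : G) := congrArg Subtype.val h1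
    have h3 := hone ((x : G) * y * (x : G)⁻¹ * (y : G)⁻¹)
      (mul_mem (mul_mem (mul_mem hx1 hy1) (inv_mem hx1)) (inv_mem hy1)) (by
        rw [map_mul, map_mul, map_mul, map_inv, map_inv, h2]; group)
    rw [mul_inv_eq_one, mul_inv_eq_iff_eq_mul] at h3
    exact Subtype.ext h3
  · intro x hx
    obtain ⟨hx1, hx2⟩ := mem_inf.mp hx
    apply hone _ (pow_mem hx1 2)
    rw [map_pow]
    exact hQ2 _ hx2
  · intro x hx g hg
    obtain ⟨hx1, hx2⟩ := mem_inf.mp hx
    refine mem_inf.mpr ⟨hg, ?_⟩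
    rw [mem_comap, map_mul, map_mul, map_inv]
    apply hcl _ hx2
    rw [← map_inv, ← map_mul, ← map_mul, ← hSP]
    exact ⟨_, hg, rfl⟩

theorem c2_of_quot {N : Subgroup G} [hN : N.Normal] {t : G} (h : C2 (QuotientGroup.mk' N t)) : C2 t := by
  obtain ⟨H, h1, h2⟩ := h
  refine ⟨H.comap (QuotientGroup.mk' N), h1, fun g => ?_⟩
  rcases h2 (QuotientGroup.mk' N g) with h3 | h3
  · exact Or.inl h3
  · right
    rw [mem_comap, map_mul]
    exact h3

end General

end Cfsg.Agent.H298.UThree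
end

-- part: H298/UThree/TwoB
section
/-!
# S3151: the case `|E| = 2`, conclusion
-/

set_option autoImplicit false
set_option linter.unusedSectionVars false

namespace Cfsg.Agent.H298.UThree

open Subgroup Cfsg.Agent.OddHalf.D4.Basic Cfsg.Agent.OddHalf.D4.U3.ParDefs
open Cfsg.Agent.OddHalf.D4.CommConj (cj mem_cj cj_mul card_cj cj_eq_of_mem_normalizer mem_normalizer_of_cj_eq
  mem_cj_mul)
open Cfsg.Agent.OddHalf.D4.RkEnd.Tools (cj_one)
open Cfsg.Agent.SignalizersComponents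

universe u v

variable {G : Type u} [Group G] [Finite G]

theorem cj_inj {g : G} {X Y : Subgroup G} (h : cj g X = cj g Y) : X = Y := by
  have h1 := congrArg (cj g⁻¹) h
  rwa [← cj_mul, ← cj_mul, inv_mul_cancel, cj_one, cj_one] at h1

/-- 2-elements of `L` normalising a Sylow 2-subgroup `T` of `L` are in `T` -/
theorem mem_of_two {T L : Subgroup G} (hT : IsSyl T L) {y : G} (hy : y ∈ L) (h2 : Two y)
    (hyT : y ∈ normalizer (T : Set G)) : y ∈ T := by
  have h1 : IsSyl T (normalizer (T : Set G) ⊓ L) := hT.mono (le_inf le_normalizer hT.le) inf_le_right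
  obtain ⟨m, hm, h3⟩ := h1.conj_into (zpowers_two h2) (by rw [zpowers_le]; exact mem_inf.mpr ⟨hyT, hy⟩)
  have h4 := h3 y (mem_zpowers y)
  exact (mem_normalizer_iff.mp (mem_inf.mp hm).1 y).mpr h4

/-- elements of `N(T)` permute `A`, `B` -/
theorem AB.perm {T A B : Subgroup G} (h : AB T A B) {g : G} (hg : g ∈ normalizer (T : Set G)) :
    cj g A = A ∨ cj g A = B := by
  obtain ⟨Q, hA, hB, hQ⟩ := h.num
  have hcard : Nat.card ↥A = Nat.card ↥B := by rw [hA, hB]
  have hsub : cj g A ≤ T := by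
    rw [← cj_eq_of_mem_normalizer hg]
    rintro _ ⟨a, ha, rfl⟩
    exact mem_cj_mul (h.A_le ha)
  have hsq : ∀ x ∈ cj g A, x * x = 1 := by
    rintro _ ⟨a, ha, rfl⟩
    show g * a * g⁻¹ * (g * a * g⁻¹) = 1
    calc g * a * g⁻¹ * (g * a * g⁻¹) = g * (a * a) * g⁻¹ := by group
      _ = 1 := by rw [h.A_sq a ha]; group
  rcases h.le_or_le hsub hsq with h1 | h1
  · exact Or.inl (eq_of_le_of_card_ge h1 (by rw [card_cj]))
  · exact Or.inr (eq_of_le_of_card_ge h1 (by rw [card_cj, hcard]))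

theorem AB.ne {T A B : Subgroup G} (h : AB T A B) : A ≠ B := by
  rintro rfl
  obtain ⟨a, ha, ha'⟩ := h.neA
  exact ha' ha

/-- `N_L(T)` normalises `A` -/
theorem AB.inner {T A B L : Subgroup G} (h : AB T A B) (hT : IsSyl T L) {l : G} (hl : l ∈ L)
    (hlT : l ∈ normalizer (T : Set G)) : cj l A = A := by
  by_contra hcon
  have h1 : cj l A = B := (h.perm hlT).resolve_left hcon
  have h2 : cj (l * l) A = A := by
    rcases h.perm (mul_mem hlT hlT) with h3 | h3
    · exact h3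
    · exfalso
      rw [cj_mul, ← h1] at h3
      exact hcon (cj_inj h3)
  obtain ⟨k, m, ⟨s, hs⟩, hkm⟩ := Nat.exists_eq_two_pow_mul_odd (orderOf_pos l).ne'
  have h3 : Two (l ^ m) := ⟨k, by rw [← pow_mul, mul_comm, ← hkm, pow_orderOf_eq_one]⟩
  have h4 : l ^ m ∈ T := mem_of_two hT (pow_mem hl m) h3 (pow_mem hlT m)
  have h5 : cj (l ^ m) A = A := cj_eq_of_mem_normalizer (h.S_le_normalizer_A h4)
  have h6 : l ^ m = l * (l * l) ^ s := by
    rw [hs, pow_succ', pow_mul, pow_two]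
  have h7 : cj ((l * l) ^ s) A = A :=
    cj_eq_of_mem_normalizer (pow_mem (mem_normalizer_of_cj_eq h2) s)
  rw [h6, cj_mul, h7] at h5
  exact hcon h5

variable {E K : Subgroup G} {F : Type v} [Field F] [Fintype F] {n : ℕ}

/-- **the complement** -/
theorem Hyp.c2 (h : Hyp E K F n) {L : Subgroup G} (hLn : L.Normal) (hKL : K ≤ L) (hk : KindAB ↥L)
    {t : G} (ht : t ∈ E) (ht1 : t ≠ 1) (hEL : ∀ f ∈ E, f ∈ L → f = 1) : C2 t := by
  obtain ⟨P, S, hP, hS, hES, hPS, hT⟩ := h.exists_T hLn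
  obtain ⟨A, B, hAB⟩ := exists_ab hk hT
  have htT : cj t (S ⊓ L) = S ⊓ L := cj_inf_of_mem hLn (hES ht)
  have hsw : cj t A = B := h.swap hEL hP inf_le_right (le_inf hPS (hP.le.trans hKL)) hAB ht ht1 htT
  have hsw' : cj t B = A := by
    rw [← hsw, ← cj_mul, h.c.sq t ht, cj_one]
  have htN : t ∈ normalizer ((S ⊓ L : Subgroup G) : Set G) := mem_normalizer_of_cj_eq htT
  refine ⟨L ⊔ (normalizer ((S ⊓ L : Subgroup G) : Set G) ⊓ normalizer (A : Set G)), ?_, ?_⟩
  · intro h1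
    obtain ⟨l, hl, x, hx, hlx⟩ := Subgroup.mem_sup_of_normal_left.mp h1
    obtain ⟨hx1, hx2⟩ := mem_inf.mp hx
    have h2 : l ∈ normalizer ((S ⊓ L : Subgroup G) : Set G) := by
      have : l = t * x⁻¹ := by rw [← hlx]; group
      rw [this]; exact mul_mem htN (inv_mem hx1)
    have h3 := hAB.inner hT hl h2
    apply hAB.ne
    rw [← hsw, ← hlx, cj_mul, cj_eq_of_mem_normalizer hx2, h3]
  · intro g
    have h1 : cj g (S ⊓ L) ≤ L := by
      rintro _ ⟨x, hx, rfl⟩
      exact hLn.conj_mem x (mem_inf.mp hx).2 g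
    have h2 : IsPGroup 2 ↥(cj g (S ⊓ L)) := Cfsg.Agent.OddHalf.D4.RkEnd.Tools.isPGroup_cj hT.two
    obtain ⟨m, hm, hmT⟩ := hT.conj_into h2 h1
    have h3 : cj (m * g) (S ⊓ L) = S ⊓ L := by
      apply eq_of_le_of_card_ge
      · rw [cj_mul]
        rintro _ ⟨x, hx, rfl⟩
        exact hmT x hx
      · rw [card_cj]
    have h4 := mem_normalizer_of_cj_eq h3
    rcases hAB.perm h4 with h5 | h5
    · left
      have : g = m⁻¹ * (m * g) := by group
      rw [this]
      exact mul_mem (mem_sup_left (inv_mem hm)) (mem_sup_right (mem_inf.mpr ⟨h4, mem_normalizer_of_cj_eq h5⟩))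
    · right
      have : t * g = (t * m⁻¹ * t⁻¹) * (t * (m * g)) := by group
      rw [this]
      refine mul_mem (mem_sup_left (hLn.conj_mem _ (inv_mem hm) t)) (mem_sup_right (mem_inf.mpr
        ⟨mul_mem htN h4, mem_normalizer_of_cj_eq ?_⟩))
      rw [cj_mul, h5, hsw']

theorem Hyp.invCent (h : Hyp E K F n) : InvCent K := by
  intro T hTK hT z hz hz2 s hs
  obtain ⟨P, hP, hTP⟩ := exists_isSyl hT hTK
  exact h.comm_P hP (hTP hz) hz2 (hTP hs)

/-- **the case `|E| = 2`, `O(G) = 1`** -/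
theorem Hyp.two (h : Hyp E K F n) (hO : Cfsg.oddCore G = ⊥) {t : G} (ht : t ∈ E) (ht1 : t ≠ 1)
    (hE : ∀ e ∈ E, e ≠ 1 → e = t) : C1 G ∨ C2 t := by
  have hf2 : Fact (Nat.Prime 2) := ⟨Nat.prime_two⟩
  have hord : orderOf t = 2 := orderOf_eq_prime (by rw [pow_two]; exact h.c.sq t ht) ht1
  have htC := h.c.E_le ht
  by_cases hKn : K.Normal
  · left
    obtain ⟨S, hES⟩ := h.c.E_two.exists_le_sylow
    refine ⟨S, E, ?_, ⟨⟨⟨fun x y => Subtype.ext (h.c.E_comm x.2 y.2)⟩⟩, ?_⟩, hES, ?_⟩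
    · rintro rfl
      exact ht1 (mem_bot.mp ht)
    · intro x hx
      rw [pow_two]
      exact h.c.sq x hx
    · intro x hx g hg
      have h1 := h.c.isSyl.max ((S : Subgroup G) ⊓ centralizer (K : Set G)) (S.isPGroup'.to_le inf_le_left)
        (le_inf hES h.c.E_le) inf_le_right
      apply h1
      refine mem_inf.mpr ⟨hg, ?_⟩
      rw [mem_centralizer_iff]
      intro k hk
      have h2 : g⁻¹ * k * g ∈ K := by
        have := hKn.conj_mem k hk g⁻¹
        rwa [inv_inv] at this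
      have h3 := h.c.Kc x hx _ h2
      calc k * (g * x * g⁻¹) = g * (g⁻¹ * k * g * x) * g⁻¹ := by group
        _ = g * (x * (g⁻¹ * k * g)) * g⁻¹ := by rw [h3]
        _ = g * x * g⁻¹ * k := by group
  have h2 : Cfsg.pCore 2 G = ⊥ := by
    by_contra h0
    exact hKn (StandardTrichotomy.normal_of_pCore_ne_bot h.isStandard hord htC h0)
  have hC := StandardTrichotomy.centralizer_layer_eq_bot hO h2
  have hLn : (Cfsg.layer G).Normal := Components.layer_normal G
  rcases Cfsg.Agent.S1347.result K h.isStandard hO t hord htC with h1 | h1 | h1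
  · exact absurd h1 hKn
  · left
    obtain ⟨X, -, -, ⟨e⟩, hcomm, hinf, hsup, -⟩ := h1
    have hX : InvCent X := h.invCent.of_equiv e
    have g : ↥X ≃* ↥(X.map (MulAut.conj t).toMonoidHom) :=
      X.equivMapOfInjective _ (MulAut.conj t).injective
    have hY : InvCent (X.map (MulAut.conj t).toMonoidHom) := hX.of_equiv g.symm
    have hL := InvCent.sup hcomm hinf hX hY
    rw [hsup] at hL
    apply c1_of_invCent hLn hL
    obtain ⟨x, hx, hx2⟩ := h.K_even
    refine ⟨(e.symm ⟨x, hx⟩ : G), ?_, ?_⟩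
    · rw [← hsup]
      exact mem_sup_left (e.symm ⟨x, hx⟩).2
    · rw [Subgroup.orderOf_coe, MulEquiv.orderOf_eq, Subgroup.orderOf_mk]
      exact hx2
  · obtain ⟨hKL, hLs, hna⟩ := h1
    have hev : ∃ x ∈ Cfsg.layer G, orderOf x = 2 := by
      obtain ⟨x, hx, hx2⟩ := h.K_even
      exact ⟨x, hKL hx, hx2⟩
    obtain ⟨htL, hk⟩ := h.local_analysis hLn hLs hna hC hKL ht ht1 (by
      intro f hf _
      by_cases hf1 : f = 1
      · exact Or.inl hf1
      · exact Or.inr (hE f hf hf1))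
    rcases hk with ⟨F', _, _, q, hq, heven, hq4, hpsu⟩ | hk
    · left
      obtain ⟨m, _, σ, _, -, -, ⟨p⟩⟩ := exists_par_of_psu hq heven hq4 hpsu
      exact c1_of_invCent hLn (invCent_of_par p) hev
    · right
      refine h.c2 hLn hKL hk ht ht1 ?_
      intro f hf hfL
      by_contra hf1
      rw [hE f hf hf1] at hfL
      exact htL hfL

/-- **the case `|E| = 2`** -/
theorem Hyp.two' (h : Hyp E K F n) {t : G} (ht : t ∈ E) (ht1 : t ≠ 1)
    (hE : ∀ e ∈ E, e ≠ 1 → e = t) : C1 G ∨ C2 t := by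
  have hn : (Cfsg.oddCore G).Normal := Cfsg.Agent.Lib.Cores.pPrimeCore_normal 2
  have hodd : Odd (Nat.card ↥(Cfsg.oddCore G)) := by
    have := Cfsg.Agent.Lib.Cores.pPrimeCore_coprime (G := G) 2
    rwa [Nat.coprime_two_right] at this
  have h' := h.quot hodd
  have ht' : QuotientGroup.mk' (Cfsg.oddCore G) t ≠ 1 := by
    intro h1
    rw [← MonoidHom.mem_ker, QuotientGroup.ker_mk'] at h1
    have h3 : t ^ Nat.card ↥(Cfsg.oddCore G) = 1 := by
      have : (⟨t, h1⟩ : ↥(Cfsg.oddCore G)) ^ Nat.card ↥(Cfsg.oddCore G) = 1 := pow_card_eq_one'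
      exact congrArg Subtype.val this
    exact ht1 ((Two.of_mem h.c.E_two ht).eq_one_of_odd hodd h3)
  rcases h'.two (Cfsg.Agent.Lib.Cores.pPrimeCore_quotient_pPrimeCore 2) ⟨t, ht, rfl⟩ ht' (by
    rintro _ ⟨e, he, rfl⟩ he1
    rw [hE e he (by rintro rfl; exact he1 (map_one _))]) with h1 | h1
  · exact Or.inl (c1_of_quot hodd h1)
  · exact Or.inr (c2_of_quot h1)

end Cfsg.Agent.H298.UThree
end

-- part: H298/UThree/Final
section
/-!
# S3151: the configuration from the literal hypotheses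
-/

set_option autoImplicit false
set_option linter.unusedSectionVars false

namespace Cfsg.Agent.H298.UThree

open Subgroup Cfsg.Agent.OddHalf.D4.Basic Cfsg.Agent.OddHalf.D4.U3.ParDefs Cfsg.Agent.StdU3.Semi
  Cfsg.Agent.StdU3.Field Cfsg.Agent.StdU3 Cfsg.Agent.SignalizersComponents

universe u v

variable {G : Type u} [Group G] [Finite G] {F : Type v} [Field F] [Fintype F] {n : ℕ}

/-- `n ≥ 2` -/
theorem two_le_of_quasisimple {X : Type u} [Group X] (hq : Cfsg.IsQuasisimple X)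
    (hF : Fintype.card F = 4 ^ n) (hX : Nonempty ((X ⧸ center X) ≃* Cfsg.PSU 3 F (2 ^ n))) : 2 ≤ n := by
  have h1 : 1 < Fintype.card F := Fintype.one_lt_card
  by_contra hcon
  have h2 : n = 0 ∨ n = 1 := by omega
  rcases h2 with rfl | rfl
  · rw [hF] at h1
    norm_num at h1
  · obtain ⟨e⟩ := hX
    rw [pow_one] at e
    have h3 : Group.IsSolvable (Cfsg.PSU 3 F 2) := (Cfsg.Agent.S0282.result (by rw [hF]; norm_num)).2
    have h4 : Group.IsSolvable (X ⧸ center X) :=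
      Group.isSolvable_of_isSolvable_injective (f := e.toMonoidHom) e.injective
    have h5 : Group.IsSolvable (center X) := Group.isSolvable_of_comm fun a b =>
      Subtype.ext (mem_center_iff.mp b.2 a)
    have h6 : Group.IsSolvable X :=
      Group.isSolvable_of_ker_le_range (center X).subtype (QuotientGroup.mk' (center X)) (by
        rw [QuotientGroup.ker_mk', Subgroup.range_subtype])
    exact Components.quasisimple_not_isSolvable hq h6

/-- the order of the centre is odd -/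
theorem odd_center_of {X : Type u} [Group X] [Finite X] (hq : Cfsg.IsQuasisimple X) (hn : 2 ≤ n)
    (hF : Fintype.card F = 4 ^ n) (hX : Nonempty ((X ⧸ center X) ≃* Cfsg.PSU 3 F (2 ^ n))) :
    Odd (Nat.card ↥(center X)) := by
  have hc : CharP F 2 := LZeroTop.charP_two hF
  have hqd := LZeroTop.qd hn hF
  let σ : F →+* F := iterateFrobenius F 2 n
  have hσ : ∀ x, σ x = bar n x := fun x => iterateFrobenius_def 2 n x
  have hfact : Fact (∀ x, σ (σ x) = x) := ⟨fun x => by rw [hσ, hσ, bar_bar hqd]⟩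
  have hS : Sg σ n := ⟨hqd, hσ⟩
  obtain ⟨R0⟩ := Cfsg.Agent.StdU3.URelModel.nonempty_urel (σ := σ) (n := n) (by omega) hσ
    (by rw [Nat.card_eq_fintype_card, hqd.hK])
  obtain ⟨f⟩ := hX
  exact Cover.odd_center hS hq.1.commutator_eq_top (R0.map f.symm)

/-- **the configuration** -/
theorem hyp_of {t : G} {E U U₀ : Subgroup G}
    (hEU : Cfsg.IsInternalDirectProduct E U (Subgroup.centralizer ({t} : Set G)))
    (hE : Cfsg.IsElementaryAbelian 2 E) (hE1 : E ≠ ⊥)
    (hU₀ : U₀ ≤ U) (hU₀n : (U₀.subgroupOf U).Normal) (hq : Cfsg.IsQuasisimple ↥U₀)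
    (hF : Fintype.card F = 4 ^ n)
    (hUX : Nonempty ((↥U₀ ⧸ Subgroup.center ↥U₀) ≃* Cfsg.PSU 3 F (2 ^ n)))
    (hCU : U ⊓ Subgroup.centralizer (U₀ : Set G) = (Subgroup.center ↥U₀).map U₀.subtype)
    (hC : ∀ e ∈ E, orderOf e = 2 → Subgroup.centralizer ({e} : Set G) = Subgroup.centralizer ({t} : Set G)) :
    Hyp E U₀ F n := by
  obtain ⟨hEC, hUC, hcomm, hinf, hsup⟩ := hEU
  have hn := two_le_of_quasisimple hq hF hUX
  have hsq : ∀ e ∈ E, e * e = 1 := by
    intro e he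
    have := hE.2 e he
    rwa [pow_two] at this
  have hord : ∀ e ∈ E, e ≠ 1 → orderOf e = 2 := fun e he he1 =>
    orderOf_eq_prime (by rw [pow_two]; exact hsq e he) he1
  have hmem : ∀ e ∈ E, e ≠ 1 → ∀ x : G, x * e = e * x → x ∈ centralizer ({t} : Set G) := by
    intro e he he1 x hx
    rw [← hC e he (hord e he he1), mem_centralizer_iff]
    rintro _ rfl
    exact hx.symm
  have hprod : ∀ x ∈ centralizer ({t} : Set G), ∃ f ∈ E, ∃ u ∈ U, x = f * u := by
    intro x hx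
    rw [← hsup] at hx
    exact mem_sup_of_comm hcomm hx
  refine ⟨⟨?_, hsq, ?_, ?_, ?_, ?_, hq, odd_center_of hq hn hF hUX⟩, hn, hF, hUX⟩
  · by_contra hcon
    push Not at hcon
    exact hE1 ((Subgroup.eq_bot_iff_forall E).mpr hcon)
  · intro e he he1 f hf x hx
    by_cases hf1 : f = 1
    · rw [hf1, mul_one, one_mul]
    · have h1 := hmem e he he1 x hx
      rw [← hC f hf (hord f hf hf1), mem_centralizer_iff] at h1
      exact (h1 f rfl).symm
  · exact fun e he k hk => hcomm e he k (hU₀ hk)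
  · intro e he he1 x hx k hk
    obtain ⟨f, hf, u, hu, rfl⟩ := hprod x (hmem e he he1 x hx)
    have h1 : u * k * u⁻¹ ∈ U₀ := by
      have := hU₀n.conj_mem ⟨k, hU₀ hk⟩ (mem_subgroupOf.mpr hk) ⟨u, hu⟩
      exact mem_subgroupOf.mp this
    have h2 := hcomm f hf _ (hU₀ h1)
    have h3 : f * u * k * (f * u)⁻¹ = u * k * u⁻¹ := by
      calc f * u * k * (f * u)⁻¹ = f * (u * k * u⁻¹) * f⁻¹ := by group
        _ = u * k * u⁻¹ := by rw [h2]; group
    rw [h3]; exact h1
  · intro e he he1 x hx hxK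
    obtain ⟨f, hf, u, hu, rfl⟩ := hprod x (hmem e he he1 x hx)
    refine ⟨f, hf, u, ?_⟩
    have h1 : u ∈ U ⊓ centralizer (U₀ : Set G) := by
      refine mem_inf.mpr ⟨hu, ?_⟩
      rw [mem_centralizer_iff]
      intro k hk
      have h2 := mem_centralizer_iff.mp hxK k hk
      have h3 := hcomm f hf k (hU₀ hk)
      have h4 : f * (k * u) = f * (u * k) := by
        calc f * (k * u) = f * k * u := by group
          _ = k * (f * u) := by rw [h3]; group
          _ = f * u * k := h2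
          _ = f * (u * k) := by group
      exact mul_left_cancel h4
    rw [hCU] at h1
    obtain ⟨w, hw, rfl⟩ := h1
    refine ⟨w.2, ?_, rfl⟩
    rw [mem_centralizer_iff]
    intro k hk
    exact congrArg Subtype.val (mem_center_iff.mp hw ⟨k, hk⟩)

/-- **the conclusion of S3151** -/
theorem Hyp.concl {E K : Subgroup G} (h : Hyp E K F n) :
    (∃ (P : Sylow 2 G) (Q : Subgroup G), Q ≠ ⊥ ∧ Cfsg.IsElementaryAbelian 2 Q ∧
      Cfsg.IsStronglyClosed Q (P : Subgroup G)) ∨ (Nat.card ↥E = 2 ∧ ∃ H : Subgroup G, Subgroup.IsComplement' E H) := by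
  by_cases h4 : ∃ e ∈ E, ∃ f ∈ E, e ≠ 1 ∧ f ≠ 1 ∧ e ≠ f
  · left
    obtain ⟨S, hS⟩ := h.strongly_closed_of_four h4
    refine ⟨S, E, ?_, ⟨⟨⟨fun x y => Subtype.ext (h.c.E_comm x.2 y.2)⟩⟩, ?_⟩, hS⟩
    · rintro rfl
      obtain ⟨e, he, he1⟩ := h.c.ne
      exact he1 (mem_bot.mp he)
    · intro x hx
      rw [pow_two]
      exact h.c.sq x hx
  · push Not at h4
    obtain ⟨t, ht, ht1⟩ := h.c.ne
    have hE : ∀ e ∈ E, e ≠ 1 → e = t := fun e he he1 => h4 e he t ht he1 ht1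
    rcases h.two' ht ht1 hE with h1 | ⟨H, htH, hH⟩
    · exact Or.inl h1
    · right
      have hEz : E = zpowers t := by
        apply le_antisymm
        · intro e he
          by_cases he1 : e = 1
          · rw [he1]; exact one_mem _
          · rw [hE e he he1]; exact mem_zpowers t
        · rw [zpowers_le]; exact ht
      refine ⟨?_, H, ?_⟩
      · rw [hEz, Nat.card_zpowers]
        exact orderOf_eq_prime (by rw [pow_two]; exact h.c.sq t ht) ht1
      · apply Subgroup.isComplement'_of_disjoint_and_mul_eq_univ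
        · rw [disjoint_iff, eq_bot_iff]
          intro x hx
          obtain ⟨hx1, hx2⟩ := mem_inf.mp hx
          rw [mem_bot]
          by_contra hx3
          rw [hE x hx1 hx3] at hx2
          exact htH hx2
        · rw [Set.eq_univ_iff_forall]
          intro g
          rcases hH g with h2 | h2
          · exact ⟨1, one_mem _, g, h2, one_mul g⟩
          · exact ⟨t⁻¹, inv_mem ht, t * g, h2, by group⟩

end Cfsg.Agent.H298.UThree
end

-- part: S3151
section
set_option autoImplicit false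
open Cfsg

namespace Cfsg.Agent.S3151

/-- Let G be a finite group and t an involution of G whose centralizer C is the internal direct product of a nontrivial elementary abelian 2-subgroup E and a subgroup U, where U has a normal quasisimple subgroup U₀ with U₀ modulo its centre isomorphic to the projective special unitary group of dimension 3 with parameter 2^n (realised over the field with 4^n elements) and with the centralizer of U₀ in U equal to the centre of U₀; suppose moreover that C is the centralizer of every involution of E. Then either G has a nontrivial elementary abelian 2-subgroup that is strongly closed in a Sylow 2-subgroup containing it, or E has order 2 and has a complement in G. -/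
theorem result {G : Type*} [Group G] [Finite G] (t : G) (ht : orderOf t = 2) (E U U₀ : Subgroup G)
    (hEU : Cfsg.IsInternalDirectProduct E U (Subgroup.centralizer ({t} : Set G)))
    (hE : Cfsg.IsElementaryAbelian 2 E) (hE1 : E ≠ ⊥)
    (hU₀ : U₀ ≤ U) (hU₀n : (U₀.subgroupOf U).Normal) (hq : Cfsg.IsQuasisimple ↥U₀)
    {F : Type*} [Field F] [Fintype F] (n : ℕ) (hF : Fintype.card F = 4 ^ n)
    (hUX : Nonempty ((↥U₀ ⧸ Subgroup.center ↥U₀) ≃* Cfsg.PSU 3 F (2 ^ n)))
    (hCU : U ⊓ Subgroup.centralizer (U₀ : Set G) = (Subgroup.center ↥U₀).map U₀.subtype)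
    (hC : ∀ e ∈ E, orderOf e = 2 → Subgroup.centralizer ({e} : Set G) = Subgroup.centralizer ({t} : Set G)) :
    (∃ (P : Sylow 2 G) (Q : Subgroup G), Q ≠ ⊥ ∧ Cfsg.IsElementaryAbelian 2 Q ∧ Cfsg.IsStronglyClosed Q (P : Subgroup G)) ∨
      (Nat.card ↥E = 2 ∧ ∃ H : Subgroup G, Subgroup.IsComplement' E H) := by
  exact (Cfsg.Agent.H298.UThree.hyp_of hEU hE hE1 hU₀ hU₀n hq hF hUX hCU hC).concl

end Cfsg.Agent.S3151
end
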