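import Mathlib
import Cfsg.Agent.ClassTwoFusion.Ess
import Cfsg.Agent.TwoFusion.SylowConj
import Cfsg.Agent.ClassTwoFusion.QuadStruct
import Cfsg.Agent.SporadicB.DihedralLift
import Cfsg.Agent.BenderType.Classify
import Cfsg.Agent.StrongEmb.Strong
import Cfsg.Agent.S1169
import Cfsg.Statements.S3186
import Cfsg.Agent.FastGrp
import Cfsg.Agent.Prune
set_option linter.all false

section
prune_inst 0x7ffcfefbaff8addfffff7e7ffedddffd99fcffffffdffbcbfffcf3ffbfdf6b0ebfe5fbad9fe8d8ff0ef7e29e30f87b53f97eceffef6bdc7ffffd5ff45ffb7f9ff7ffbd8d71d6ac3e1ffc6fff9bf07fce7f3fffffffffdfffffffffffffffffbeffffffffffff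

-- part: H305/EssQ
section
prune_inst 0x18001220002640000000020043000010800402000614000000260140000d000002084000000008001000000010000000000000000000000022000211000000200006003003180c00000000020000000000000000041000000000000
set_option linter.all false
open scoped Cfsg.Agent.FastGrp

-- part: H305/EssBasic
section
/-!
# Essential subgroups in groups with abelian Sylow 2-intersections

`AI G`: distinct Sylow 2-subgroups of `G` have abelian intersection.  Then all essential subgroups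
are abelian (`IsE`), fusion is generated by `N(S)` and their normalizers.
-/

set_option autoImplicit false

namespace Cfsg.Agent.H305.Ess

open Subgroup Cfsg.Agent.Lib.GoldschmidtFusion
open scoped Pointwise commutatorElement

variable {G : Type*} [Group G]

/-- distinct Sylow 2-subgroups have abelian intersection -/
def AI (G : Type*) [Group G] : Prop :=
  ∀ S T : Sylow 2 G, ∀ a b : G, a ∈ (S : Subgroup G) → a ∈ (T : Subgroup G) → b ∈ (S : Subgroup G) →
    b ∈ (T : Subgroup G) → a * b ≠ b * a → S = T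

theorem ai_of (hA : ∀ S T : Sylow 2 G, S ≠ T → IsMulCommutative ↥((S : Subgroup G) ⊓ (T : Subgroup G))) :
    AI G := by
  intro S T a b ha ha' hb hb' hab
  by_contra hne
  have h1 := (hA S T hne).is_comm.comm (⟨a, ha, ha'⟩ : ↥((S : Subgroup G) ⊓ (T : Subgroup G))) ⟨b, hb, hb'⟩
  exact hab (congrArg Subtype.val h1)

/-- abelian essential subgroups -/
structure IsE (S : Sylow 2 G) (E : Subgroup G) : Prop where
  le : E ≤ S
  comm : ∀ x ∈ E, ∀ y ∈ E, x * y = y * x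
  cent : ∀ x ∈ (S : Subgroup G), (∀ e ∈ E, x * e = e * x) → x ∈ E
  move : ∃ g ∈ normalizer (E : Set G), ∀ c ∈ centralizer (E : Set G),
    c * g ∉ normalizer ((S : Subgroup G) : Set G)

theorem mem_smul {S : Sylow 2 G} {g x : G} :
    x ∈ ((g • S : Sylow 2 G) : Subgroup G) ↔ g⁻¹ * x * g ∈ (S : Subgroup G) := by
  change x ∈ (MulAut.conj g • (S : Subgroup G)) ↔ _
  rw [mem_pointwise_smul_iff_inv_smul_mem]
  simp

theorem conj_mem_of_norm {H : Subgroup G} {g x : G} (hg : g ∈ normalizer (H : Set G)) (hx : x ∈ H) :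
    g * x * g⁻¹ ∈ H := (mem_normalizer_iff.1 hg x).1 hx

theorem conj_mem_of_norm' {H : Subgroup G} {g x : G} (hg : g ∈ normalizer (H : Set G)) (hx : x ∈ H) :
    g⁻¹ * x * g ∈ H := by
  have := conj_mem_of_norm (inv_mem hg) hx
  rwa [inv_inv] at this

/-- in a finite group, an element conjugating `H` into `H` normalizes `H` -/
theorem norm_of_conj_le [Finite G] {H : Subgroup G} {g : G} (hg : ∀ x ∈ H, g * x * g⁻¹ ∈ H) :
    g ∈ normalizer (H : Set G) := by
  have h1 : H.map (MulAut.conj g).toMonoidHom ≤ H := by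
    rintro _ ⟨x, hx, rfl⟩
    exact hg x hx
  have h2 : H.map (MulAut.conj g).toMonoidHom = H := by
    refine eq_of_le_of_card_ge h1 ?_
    rw [card_map_conj]
  exact mem_normalizer_iff_map_conj.2 h2

section AI

variable [Finite G] (hAI : AI G) (S : Sylow 2 G)
include hAI

/-- `g` normalizes `S` if it conjugates two non-commuting elements of `S` into `S` -/
theorem norm_of_conj {S : Sylow 2 G} {a b g : G} (ha : a ∈ (S : Subgroup G)) (hb : b ∈ (S : Subgroup G)) (hab : a * b ≠ b * a)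
    (ha' : g * a * g⁻¹ ∈ (S : Subgroup G)) (hb' : g * b * g⁻¹ ∈ (S : Subgroup G)) :
    g ∈ normalizer ((S : Subgroup G) : Set G) := by
  have h1 : g⁻¹ • S = S := by
    refine hAI _ _ a b ?_ ha ?_ hb hab
    · rw [mem_smul, inv_inv]; exact ha'
    · rw [mem_smul, inv_inv]; exact hb'
  have h2 : g⁻¹ ∈ normalizer ((S : Subgroup G) : Set G) := Sylow.smul_eq_iff_mem_normalizer.1 h1
  have h3 := inv_mem h2
  rwa [inv_inv] at h3

/-- A 2-subgroup containing two non-commuting elements of `S` is contained in `S`. -/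
theorem le_of_noncomm {S : Sylow 2 G} {T : Subgroup G} (hT : IsPGroup 2 T) {a b : G} (ha : a ∈ (S : Subgroup G))
    (hb : b ∈ (S : Subgroup G)) (haT : a ∈ T) (hbT : b ∈ T) (hab : a * b ≠ b * a) : T ≤ S := by
  obtain ⟨R, hR⟩ := hT.exists_le_sylow
  rw [hAI S R a b ha (hR haT) hb (hR hbT) hab]
  exact hR

theorem isE_of_isEss {S : Sylow 2 G} {X : Subgroup G}
    (hX : Cfsg.Agent.ClassTwoFusion.Ess.IsEss 2 (S : Subgroup G) X) : IsE S X := by
  have hcomm : ∀ x ∈ X, ∀ y ∈ X, x * y = y * x := by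
    by_contra hcon
    push Not at hcon
    obtain ⟨a, ha, b, hb, hab⟩ := hcon
    apply hX.ess
    intro g hg
    refine Cfsg.Agent.ClassTwoFusion.Ess.inf_normalizer_le_starSub hX.lt le_rfl ⟨hg, ?_⟩
    exact norm_of_conj hAI (hX.lt.le ha) (hX.lt.le hb) hab (hX.lt.le (conj_mem_of_norm hg ha))
      (hX.lt.le (conj_mem_of_norm hg hb))
  refine ⟨hX.lt.le, hcomm, fun x hx hxe => hX.centric ⟨?_, hx⟩, ?_⟩
  · exact mem_centralizer_iff.2 (fun e he => (hxe e he).symm)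
  · by_contra hcon
    push Not at hcon
    apply hX.ess
    intro g hg
    obtain ⟨c, hc, hcg⟩ := hcon g hg
    have h1 : c * g ∈ Cfsg.Agent.ClassTwoFusion.Ess.starSub (S : Subgroup G) X :=
      Cfsg.Agent.ClassTwoFusion.Ess.inf_normalizer_le_starSub hX.lt le_rfl
        ⟨mul_mem (centralizer_le_normalizer _ hc) hg, hcg⟩
    have h2 := mul_mem (inv_mem (Cfsg.Agent.ClassTwoFusion.Ess.centralizer_le_starSub (S : Subgroup G) X hc)) h1
    rwa [inv_mul_cancel_left] at h2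

/-- **Fusion** is generated by `N(S)` and the `N(E)`, `E` essential. -/
theorem fusion {α : Sort*} (f : G → α)
    (hN : ∀ n ∈ normalizer ((S : Subgroup G) : Set G), ∀ s ∈ (S : Subgroup G), f (n * s * n⁻¹) = f s)
    (hE : ∀ E : Subgroup G, IsE S E → ∀ g ∈ normalizer (E : Set G), ∀ e ∈ E, f (g * e * g⁻¹) = f e)
    {s g : G} (hs : s ∈ (S : Subgroup G)) (hg : g * s * g⁻¹ ∈ (S : Subgroup G)) :
    f (g * s * g⁻¹) = f s := by
  have h1 := Cfsg.Agent.ClassTwoFusion.Ess.gen_ess S (A := zpowers s) (by rw [zpowers_le]; exact hs)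
    (zpowers_map_conj_le (P := (S : Subgroup G)) hg)
  refine h1.invariant f ?_ s (mem_zpowers s)
  rintro X - (rfl | hX) g hg x hx
  · exact hN g hg x hx
  · exact hE X (isE_of_isEss hAI hX) g hg x hx

/-- Criterion for strong closure. -/
theorem stronglyClosed (A : Subgroup G) (hAS : A ≤ S)
    (hN : ∀ n ∈ normalizer ((S : Subgroup G) : Set G), ∀ a ∈ A, n * a * n⁻¹ ∈ A)
    (hE : ∀ E : Subgroup G, IsE S E → ∀ g ∈ normalizer (E : Set G), ∀ e ∈ E, e ∈ A → g * e * g⁻¹ ∈ A) :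
    Cfsg.IsStronglyClosed A (S : Subgroup G) :=
  Cfsg.Agent.ClassTwoFusion.Ess.isStronglyClosed S A hAS hN
    (fun X hX g hg a haA haX => hE X (isE_of_isEss hAI hX) g hg a haX haA)

/-- **Focal subgroup criterion.** -/
theorem focal [IsSimpleGroup G] (hna : ∃ a b : G, a * b ≠ b * a) (H : Subgroup G)
    (hN : ∀ n ∈ normalizer ((S : Subgroup G) : Set G), ∀ s ∈ (S : Subgroup G), s⁻¹ * (n * s * n⁻¹) ∈ H)
    (hE : ∀ E : Subgroup G, IsE S E → ∀ g ∈ normalizer (E : Set G), ∀ e ∈ E, e⁻¹ * (g * e * g⁻¹) ∈ H) :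
    (S : Subgroup G) ≤ H := by
  have h1 : _root_.commutator G = ⊤ := by
    rcases IsSimpleGroup.eq_bot_or_eq_top_of_normal (_root_.commutator G) inferInstance with h | h
    · exfalso
      obtain ⟨a, b, hab⟩ := hna
      apply hab
      have h2 : ⁅a, b⁆ ∈ _root_.commutator G := commutator_mem_commutator (mem_top a) (mem_top b)
      rw [h, mem_bot, commutatorElement_eq_one_iff_mul_comm] at h2
      exact h2
    · exact h
  have h2 := Subgroup.commutator_inf_eq_focalSubgroup S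
  rw [h1, top_inf_eq] at h2
  rw [h2, focalSubgroup_def, closure_le]
  rintro _ ⟨hgS, x, hx, u, rfl⟩
  have hx' : u * x⁻¹ * u⁻¹ ∈ (S : Subgroup G) := by
    have e : u * x⁻¹ * u⁻¹ = x⁻¹ * ⁅x, u⁆ := by rw [commutatorElement_def]; group
    rw [e]
    exact mul_mem (inv_mem hx) hgS
  have h3 := fusion hAI S (fun x => (QuotientGroup.mk x : G ⧸ H))
    (fun n hn s hs => (QuotientGroup.eq.2 (hN n hn s hs)).symm)
    (fun E hE' g hg e he => (QuotientGroup.eq.2 (hE E hE' g hg e he)).symm) (inv_mem hx) hx'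
  have h4 := QuotientGroup.eq.1 h3.symm
  rw [inv_inv] at h4
  have e : ⁅x, u⁆ = x * (u * x⁻¹ * u⁻¹) := by rw [commutatorElement_def]; group
  rw [SetLike.mem_coe, e]
  exact h4

end AI

end Cfsg.Agent.H305.Ess
end

-- part: H305/EssOmega
section
/-!
# Essential subgroups: the subgroup `Ω₁(E)`

For an abelian essential subgroup `E` and `V = Ω₁(E)`: `C_S(V) = E`, `N_S(V) = N_S(E)` and
`N_G(V)` has an element none of whose translates under `C_G(V)` normalizes `S`.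
-/

set_option autoImplicit false

namespace Cfsg.Agent.H305.Ess

open Subgroup Cfsg.Agent.Lib.GoldschmidtFusion
open scoped Pointwise commutatorElement

variable {G : Type*} [Group G]

/-- the subgroup generated by the elements of order at most two -/
def om (E : Subgroup G) : Subgroup G := _root_.Subgroup.closure {x | x ∈ E ∧ x * x = 1}

theorem mem_om {E : Subgroup G} (hE : ∀ x ∈ E, ∀ y ∈ E, x * y = y * x) {x : G} :
    x ∈ om E ↔ x ∈ E ∧ x * x = 1 := by
  constructor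
  · intro hx
    induction hx using closure_induction with
    | mem x hx => exact hx
    | one => exact ⟨one_mem E, one_mul 1⟩
    | mul x y _ _ hx hy =>
      refine ⟨mul_mem hx.1 hy.1, ?_⟩
      calc x * y * (x * y) = x * (y * x) * y := by group
        _ = (x * x) * (y * y) := by rw [hE y hy.1 x hx.1]; group
        _ = 1 := by rw [hx.2, hy.2, one_mul]
    | inv x _ hx =>
      refine ⟨inv_mem hx.1, ?_⟩
      rw [← mul_inv_rev, hx.2, inv_one]
  · exact fun hx => _root_.Subgroup.subset_closure hx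

theorem om_le (E : Subgroup G) : om E ≤ E := (closure_le E).2 (fun _ hx => hx.1)

theorem norm_om {E : Subgroup G} {g : G} (hg : g ∈ normalizer (E : Set G)) :
    g ∈ normalizer (om E : Set G) := by
  have key : ∀ {g : G}, g ∈ normalizer (E : Set G) → ∀ x ∈ om E, g * x * g⁻¹ ∈ om E := by
    intro g hg x hx
    induction hx using closure_induction with
    | mem x hx =>
      refine subset_closure ⟨conj_mem_of_norm hg hx.1, ?_⟩
      have e : g * x * g⁻¹ * (g * x * g⁻¹) = g * (x * x) * g⁻¹ := by group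
      rw [e, hx.2]; group
    | one => rw [mul_one, mul_inv_cancel]; exact one_mem _
    | mul x y _ _ hx hy =>
      have e : g * (x * y) * g⁻¹ = g * x * g⁻¹ * (g * y * g⁻¹) := by group
      rw [e]; exact mul_mem hx hy
    | inv x _ hx =>
      have e : g * x⁻¹ * g⁻¹ = (g * x * g⁻¹)⁻¹ := by group
      rw [e]; exact inv_mem hx
  rw [mem_normalizer_iff]
  intro x
  refine ⟨key hg x, fun hx => ?_⟩
  have h1 := key (inv_mem hg) _ hx
  have e : g⁻¹ * (g * x * g⁻¹) * g⁻¹⁻¹ = x := by group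
  rwa [e] at h1

/-- An element of odd order normalizing an abelian 2-group `E` and centralizing `Ω₁(E)` centralizes `E`. -/
theorem odd_cent {E : Subgroup G} (hcomm : ∀ x ∈ E, ∀ y ∈ E, x * y = y * x) (hp : IsPGroup 2 E)
    {c : G} (hc : c ∈ normalizer (E : Set G)) (hcV : ∀ v ∈ om E, c * v * c⁻¹ = v) {m : ℕ} (hm : Odd m)
    (hcm : c ^ m = 1) {e : G} (he : e ∈ E) : c * e * c⁻¹ = e := by
  have key : ∀ n : ℕ, ∀ e ∈ E, e ^ 2 ^ n = 1 → c * e * c⁻¹ = e := by
    intro n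
    induction n with
    | zero =>
      intro e he h1
      rw [pow_zero, pow_one] at h1
      rw [h1]; group
    | succ n ih =>
      intro e he h1
      have hce := conj_mem_of_norm hc he
      have h2 : c * (e * e) * c⁻¹ = e * e := by
        refine ih (e * e) (mul_mem he he) ?_
        rw [← pow_two, ← pow_mul, mul_comm, ← pow_succ]
        exact h1
      set v := e⁻¹ * (c * e * c⁻¹) with hv
      have hvE : v ∈ E := mul_mem (inv_mem he) hce
      have hvV : v ∈ om E := by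
        rw [mem_om hcomm]
        refine ⟨hvE, ?_⟩
        have e1 : v * v = e⁻¹ * (e⁻¹ * (c * e * c⁻¹)) * (c * e * c⁻¹) := by
          rw [← hcomm _ hce _ (inv_mem he), hv]
          group
        have e2 : (c * e * c⁻¹) * (c * e * c⁻¹) = e * e := by rw [← h2]; group
        rw [e1]
        calc e⁻¹ * (e⁻¹ * (c * e * c⁻¹)) * (c * e * c⁻¹) = e⁻¹ * e⁻¹ * ((c * e * c⁻¹) * (c * e * c⁻¹)) := by group
          _ = 1 := by rw [e2]; group
      have hstep : ∀ k : ℕ, c ^ k * e * (c ^ k)⁻¹ = e * v ^ k := by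
        intro k
        induction k with
        | zero => simp
        | succ k ihk =>
          have e3 : c ^ (k + 1) * e * (c ^ (k + 1))⁻¹ = c * (c ^ k * e * (c ^ k)⁻¹) * c⁻¹ := by
            rw [pow_succ']; group
          have hck : c * v ^ k * c⁻¹ = v ^ k := by
            have : c * v ^ k * c⁻¹ = (c * v * c⁻¹) ^ k := by rw [conj_pow]
            rw [this, hcV v hvV]
          rw [e3, ihk]
          calc c * (e * v ^ k) * c⁻¹ = (c * e * c⁻¹) * (c * v ^ k * c⁻¹) := by group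
            _ = (e * v) * v ^ k := by rw [hck, hv]; group
            _ = e * v ^ (k + 1) := by rw [pow_succ', mul_assoc]
      have h3 := hstep m
      rw [hcm] at h3
      have h4 : v ^ m = 1 := by
        have : 1 * e * 1⁻¹ = e * v ^ m := h3
        rw [one_mul, inv_one, mul_one] at this
        exact (mul_eq_left.1 this.symm)
      obtain ⟨k, rfl⟩ := hm
      have hvv : v * v = 1 := ((mem_om hcomm).1 hvV).2
      rw [pow_succ, pow_mul, pow_two, hvv, one_pow, one_mul] at h4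
      have h5 : c * e * c⁻¹ = e * v := by rw [hv]; group
      rw [h5, h4, mul_one]
  obtain ⟨k, hk⟩ := hp ⟨e, he⟩
  exact key k e he (by simpa only [_root_.SubmonoidClass.mk_pow, _root_.OneMemClass.coe_one] using congrArg Subtype.val hk)

/-- decomposition into 2-part and 2'-part -/
theorem mem_of_pow_mem {H : Subgroup G} [Finite G] {k : G}
    (h1 : ∀ m : ℕ, (∃ s : ℕ, (k ^ m) ^ 2 ^ s = 1) → k ^ m ∈ H)
    (h2 : ∀ s : ℕ, (∃ m : ℕ, Odd m ∧ (k ^ 2 ^ s) ^ m = 1) → k ^ 2 ^ s ∈ H) : k ∈ H := by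
  obtain ⟨s, m, hm, hsm⟩ := Nat.exists_eq_two_pow_mul_odd (n := orderOf k) (orderOf_pos k).ne'
  have h3 : k ^ m ∈ H := h1 m ⟨s, by rw [← pow_mul, mul_comm, ← hsm]; exact pow_orderOf_eq_one k⟩
  have h4 : k ^ 2 ^ s ∈ H := h2 s ⟨m, hm, by rw [← pow_mul, ← hsm]; exact pow_orderOf_eq_one k⟩
  have hcop : Nat.gcd m (2 ^ s) = 1 := Nat.Coprime.pow_right s (hm.coprime_two_right)
  have hb := Nat.gcd_eq_gcd_ab m (2 ^ s)
  rw [hcop] at hb
  have e : k = (k ^ m) ^ (Nat.gcdA m (2 ^ s)) * (k ^ 2 ^ s) ^ (Nat.gcdB m (2 ^ s)) := by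
    rw [← zpow_natCast k m, ← zpow_natCast k (2 ^ s), ← zpow_mul, ← zpow_mul, ← zpow_add, ← hb]
    simp
  rw [e]
  exact mul_mem (zpow_mem h3 _) (zpow_mem h4 _)

/-- normalizers grow in 2-groups -/
theorem exists_norm [Finite G] {T H : Subgroup G} (hT : IsPGroup 2 T) (hHT : H ≤ T) {x : G} (hx : x ∈ T)
    (hxH : x ∉ H) : ∃ y ∈ T, y ∉ H ∧ y ∈ normalizer (H : Set G) := by
  have : Fact (Nat.Prime 2) := ⟨Nat.prime_two⟩
  have : Group.IsNilpotent T := hT.isNilpotent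
  have h1 : NormalizerCondition T := Group.normalizerCondition_of_isNilpotent
  have h2 : H.subgroupOf T < ⊤ := by
    rw [lt_top_iff_ne_top]
    intro h3
    have : (⟨x, hx⟩ : T) ∈ H.subgroupOf T := by rw [h3]; trivial
    exact hxH (mem_subgroupOf.1 this)
  obtain ⟨y, hy, hyH⟩ := SetLike.exists_of_lt (h1 _ h2)
  refine ⟨y, y.2, fun h3 => hyH (mem_subgroupOf.2 h3), ?_⟩
  refine norm_of_conj_le (fun z hz => ?_)
  have h3 := (mem_normalizer_iff.1 hy ⟨z, hHT hz⟩).1 (mem_subgroupOf.2 hz)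
  exact mem_subgroupOf.1 h3

section ess

variable [Finite G] (hAI : AI G) {S : Sylow 2 G} {E : Subgroup G} (hE : IsE S E)

namespace IsE

include hE

theorem isPGroup : IsPGroup 2 E := S.isPGroup'.to_le hE.le

theorem exists_noncomm {x : G} (hx : x ∈ (S : Subgroup G)) (hxE : x ∉ E) : ∃ e ∈ E, x * e ≠ e * x := by
  by_contra hcon
  push Not at hcon
  exact hxE (hE.cent x hx hcon)

theorem exists_not_mem : ∃ x ∈ (S : Subgroup G), x ∉ E := by
  by_contra hcon
  push Not at hcon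
  obtain ⟨g, hg, hc⟩ := hE.move
  have h1 : E = (S : Subgroup G) := le_antisymm hE.le hcon
  refine hc 1 (one_mem _) ?_
  rw [one_mul, ← h1]
  exact hg

theorem exists_t : ∃ t ∈ (S : Subgroup G), t ∉ E ∧ t ∈ normalizer (E : Set G) := by
  obtain ⟨x, hx, hxE⟩ := hE.exists_not_mem
  exact exists_norm S.isPGroup' hE.le hx hxE

theorem mem_om' {x : G} : x ∈ om E ↔ x ∈ E ∧ x * x = 1 := mem_om hE.comm

theorem om_le_S : om E ≤ S := (om_le E).trans hE.le

include hAI

/-- `C_S(Ω₁(E)) = E` -/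
theorem centV {x : G} (hx : x ∈ (S : Subgroup G)) (hxV : ∀ v ∈ om E, x * v = v * x) : x ∈ E := by
  have : Fact (Nat.Prime 2) := ⟨Nat.prime_two⟩
  by_contra hxE
  have hxD : x ∈ (S : Subgroup G) ⊓ centralizer (om E : Set G) :=
    ⟨hx, mem_centralizer_iff.2 (fun v hv => (hxV v hv).symm)⟩
  have hED : E ≤ (S : Subgroup G) ⊓ centralizer (om E : Set G) := fun e he =>
    ⟨hE.le he, mem_centralizer_iff.2 (fun v hv => hE.comm v (om_le E hv) e he)⟩
  obtain ⟨y, hyD, hyE, hyN⟩ := exists_norm (S.isPGroup'.to_le inf_le_left) hED hxD hxE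
  obtain ⟨e, he, hye⟩ := hE.exists_noncomm hyD.1 hyE
  set Lc : Subgroup G := normalizer (E : Set G) ⊓ centralizer (om E : Set G) with hLc
  have hELc : E ≤ Lc := fun e he => ⟨le_normalizer he, (hED he).2⟩
  set Q : Subgroup G := (S : Subgroup G) ⊓ Lc with hQ
  have hQp : IsPGroup 2 Q := S.isPGroup'.to_le inf_le_left
  have heQ : e ∈ Q := ⟨hE.le he, hELc he⟩
  have hyQ : y ∈ Q := ⟨hyD.1, hyN, hyD.2⟩
  obtain ⟨g, hg, hgm⟩ := hE.move
  -- a conjugate of `Q`
  obtain ⟨P₀, hP₀L, hP₀p, hQP₀, c, hcL, hcP⟩ := Cfsg.Agent.TwoFusion.SylowConj.exists_pgroup_le Lc Q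
    (Q.map (MulAut.conj g).toMonoidHom) hQp inf_le_right (hQp.map _) (by
      rintro _ ⟨q, hq, rfl⟩
      refine mem_inf.2 ⟨mul_mem (mul_mem hg hq.2.1) (inv_mem hg), ?_⟩
      change g * q * g⁻¹ ∈ _
      refine mem_centralizer_iff.2 (fun v hv => ?_)
      have h1 : g⁻¹ * v * g ∈ om E := conj_mem_of_norm' (norm_om hg) hv
      have h2 := mem_centralizer_iff.1 hq.2.2 _ h1
      calc v * (g * q * g⁻¹) = g * ((g⁻¹ * v * g) * q) * g⁻¹ := by group
        _ = g * (q * (g⁻¹ * v * g)) * g⁻¹ := by rw [h2]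
        _ = g * q * g⁻¹ * v := by group)
  have hP₀S : P₀ ≤ S := le_of_noncomm hAI hP₀p hyD.1 (hE.le he) (hQP₀ hyQ) (hQP₀ heQ) hye
  have hcg : c * g ∈ normalizer ((S : Subgroup G) : Set G) := by
    refine norm_of_conj hAI hyD.1 (hE.le he) hye ?_ ?_
    · have h1 := hP₀S (hcP (g * y * g⁻¹) ⟨y, hyQ, rfl⟩)
      have e1 : c * g * y * (c * g)⁻¹ = c * (g * y * g⁻¹) * c⁻¹ := by group
      rw [e1]; exact h1
    · have h1 := hP₀S (hcP (g * e * g⁻¹) ⟨e, heQ, rfl⟩)
      have e1 : c * g * e * (c * g)⁻¹ = c * (g * e * g⁻¹) * c⁻¹ := by group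
      rw [e1]; exact h1
  -- `Lc = Q C_G(E)`
  let ψ : Lc →* MulAut E := E.normalizerMonoidHom.comp (inclusion inf_le_left)
  have hψ : ∀ (k : Lc) (e : E), ((ψ k e : E) : G) = (k : G) * e * (k : G)⁻¹ := fun _ _ => rfl
  have hcp : ∀ k : Lc, (∀ e : E, ψ k e = e) ↔ (k : G) ∈ centralizer (E : Set G) := by
    intro k
    rw [mem_centralizer_iff]
    constructor
    · intro h1 e he
      have h2 := congrArg Subtype.val (h1 ⟨e, he⟩)
      rw [hψ, mul_inv_eq_iff_eq_mul] at h2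
      exact h2.symm
    · intro h1 e
      apply Subtype.ext
      rw [hψ, mul_inv_eq_iff_eq_mul]
      exact (h1 e e.2).symm
  have hrange : IsPGroup 2 ψ.range := by
    rintro ⟨_, k, rfl⟩
    obtain ⟨s, m, hm, hsm⟩ := Nat.exists_eq_two_pow_mul_odd (n := orderOf k) (orderOf_pos k).ne'
    refine ⟨s, Subtype.ext ?_⟩
    change (ψ k) ^ 2 ^ s = 1
    rw [← map_pow]
    apply MulEquiv.ext
    intro e
    apply Subtype.ext
    rw [hψ]
    refine odd_cent hE.comm hE.isPGroup (k ^ 2 ^ s).2.1 ?_ hm ?_ e.2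
    · intro v hv
      rw [mul_inv_eq_iff_eq_mul]
      exact (mem_centralizer_iff.1 (k ^ 2 ^ s).2.2 v hv).symm
    · have h1 : (k ^ 2 ^ s) ^ m = 1 := by rw [← pow_mul, ← hsm]; exact pow_orderOf_eq_one k
      exact congrArg Subtype.val h1
  let QS : Sylow 2 Lc :=
    { toSubgroup := Q.subgroupOf Lc
      isPGroup' := hQp.comap_subtype
      is_maximal' := by
        intro R hR hle
        apply le_antisymm _ hle
        intro r hr
        rw [mem_subgroupOf]
        refine ⟨?_, r.2⟩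
        have h1 : R.map Lc.subtype ≤ S := le_of_noncomm hAI (hR.map _) hyD.1 (hE.le he)
          ⟨⟨y, hyQ.2⟩, hle (mem_subgroupOf.2 hyQ), rfl⟩ ⟨⟨e, heQ.2⟩, hle (mem_subgroupOf.2 heQ), rfl⟩ hye
        exact h1 ⟨r, hr, rfl⟩ }
  have hsurj : Function.Surjective ψ.rangeRestrict := ψ.rangeRestrict_surjective
  have htop : (⊤ : Subgroup ψ.range) = (QS.mapSurjective hsurj : Subgroup ψ.range) :=
    (QS.mapSurjective hsurj).is_maximal' (hrange.to_subgroup ⊤) le_top
  obtain ⟨q, hq, hqc⟩ : ∃ q ∈ Q.subgroupOf Lc, ψ q = ψ ⟨c, hcL⟩ := by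
    have h1 : ψ.rangeRestrict ⟨c, hcL⟩ ∈ (⊤ : Subgroup ψ.range) := mem_top _
    rw [htop, Sylow.coe_mapSurjective] at h1
    obtain ⟨q, hq, hqc⟩ := h1
    exact ⟨q, hq, congrArg Subtype.val hqc⟩
  have hcent : (q : G)⁻¹ * c ∈ centralizer (E : Set G) := by
    have h1 : ψ (q⁻¹ * ⟨c, hcL⟩) = 1 := by rw [map_mul, map_inv, hqc, inv_mul_cancel]
    exact (hcp (q⁻¹ * ⟨c, hcL⟩)).1 (fun e => by rw [h1]; rfl)
  refine hgm _ hcent ?_
  rw [mul_assoc]
  exact mul_mem (inv_mem (le_normalizer (mem_subgroupOf.1 hq).1)) hcg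

omit hE in
/-- `S ⊓ N_G(E)` is a maximal 2-subgroup of `N_G(E)` -/
theorem le_S_of_le {E : Subgroup G} (hE : IsE S E) {T : Subgroup G} (hT : IsPGroup 2 T)
    (h1 : (S : Subgroup G) ⊓ normalizer (E : Set G) ≤ T) : T ≤ S := by
  obtain ⟨t, htS, htE, htN⟩ := hE.exists_t
  obtain ⟨e, he, hte⟩ := hE.exists_noncomm htS htE
  exact le_of_noncomm hAI hT htS (hE.le he) (h1 ⟨htS, htN⟩) (h1 ⟨hE.le he, le_normalizer he⟩) hte

/-- `E` is a maximal 2-subgroup of `C_G(Ω₁(E))` -/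
theorem le_of_pgroup {Q : Subgroup G} (hQ : IsPGroup 2 Q) (hEQ : E ≤ Q)
    (hQV : ∀ q ∈ Q, ∀ v ∈ om E, q * v = v * q) : Q ≤ E := by
  have : Fact (Nat.Prime 2) := ⟨Nat.prime_two⟩
  intro x hx
  by_contra hxE
  obtain ⟨y, hyQ, hyE, hyN⟩ := exists_norm hQ hEQ hx hxE
  obtain ⟨P₀, hP₀L, hP₀p, hSP₀, c, hcN, hcP⟩ := Cfsg.Agent.TwoFusion.SylowConj.exists_pgroup_le
    (normalizer (E : Set G)) ((S : Subgroup G) ⊓ normalizer (E : Set G)) (Q ⊓ normalizer (E : Set G))
    (S.isPGroup'.to_le inf_le_left) inf_le_right (hQ.to_le inf_le_left) inf_le_right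
  have hP₀S : P₀ ≤ S := le_S_of_le hAI hE hP₀p hSP₀
  have h1 : c * y * c⁻¹ ∈ E := by
    refine hE.centV hAI (hP₀S (hcP y ⟨hyQ, hyN⟩)) (fun v hv => ?_)
    have h2 : c⁻¹ * v * c ∈ om E := conj_mem_of_norm' (norm_om hcN) hv
    have h3 := hQV y hyQ _ h2
    calc c * y * c⁻¹ * v = c * (y * (c⁻¹ * v * c)) * c⁻¹ := by group
      _ = c * ((c⁻¹ * v * c) * y) * c⁻¹ := by rw [h3]
      _ = v * (c * y * c⁻¹) := by group
  have h2 := conj_mem_of_norm' hcN h1
  have e : c⁻¹ * (c * y * c⁻¹) * c = y := by group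
  rw [e] at h2
  exact hyE h2

/-- `N_G(E) ∩ C_G(Ω₁(E)) = C_G(E)` -/
theorem cent_of_normV {k : G} (hk : k ∈ normalizer (E : Set G)) (hkV : ∀ v ∈ om E, k * v = v * k) :
    ∀ e ∈ E, k * e = e * k := by
  have hkc : k ∈ centralizer (E : Set G) := by
    apply mem_of_pow_mem
    · rintro m ⟨s, hs⟩
      have h1 : k ^ m ∈ normalizer (E : Set G) := pow_mem hk m
      have hp : IsPGroup 2 (zpowers (k ^ m)) := by
        rw [IsPGroup.iff_card]
        have h2 : orderOf (k ^ m) ∣ 2 ^ s := orderOf_dvd_of_pow_eq_one hs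
        obtain ⟨j, -, hj⟩ := (Nat.dvd_prime_pow Nat.prime_two).1 h2
        exact ⟨j, by rw [Nat.card_zpowers, hj]⟩
      have h2 : IsPGroup 2 (E ⊔ zpowers (k ^ m) : Subgroup G) :=
        hE.isPGroup.to_sup_of_normal_left' hp (by rw [zpowers_le]; exact h1)
      have h3 : E ⊔ zpowers (k ^ m) ≤ centralizer (om E : Set G) := by
        refine sup_le (fun e he => mem_centralizer_iff.2 (fun v hv => hE.comm v (om_le E hv) e he)) ?_
        rw [zpowers_le]
        exact pow_mem (mem_centralizer_iff.2 (fun v hv => (hkV v hv).symm)) m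
      have h4 := hE.le_of_pgroup hAI h2 le_sup_left
        (fun q hq v hv => (mem_centralizer_iff.1 (h3 hq) v hv).symm)
      have h5 : k ^ m ∈ E := h4 (mem_sup_right (mem_zpowers _))
      exact mem_centralizer_iff.2 (fun e he => hE.comm e he _ h5)
    · rintro s ⟨m, hm, hsm⟩
      refine mem_centralizer_iff.2 (fun e he => ?_)
      have h1 : k ^ 2 ^ s ∈ centralizer (om E : Set G) :=
        pow_mem (mem_centralizer_iff.2 (fun v hv => (hkV v hv).symm)) _
      have h2 := odd_cent hE.comm hE.isPGroup (pow_mem hk (2 ^ s))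
        (fun v hv => by rw [mul_inv_eq_iff_eq_mul]; exact (mem_centralizer_iff.1 h1 v hv).symm) hm hsm he
      rw [mul_inv_eq_iff_eq_mul] at h2
      exact h2.symm
  exact fun e he => (mem_centralizer_iff.1 hkc e he).symm

/-- `N_S(Ω₁(E)) = N_S(E)` -/
theorem norm_of_normV {x : G} (hx : x ∈ (S : Subgroup G)) (hxV : x ∈ normalizer (om E : Set G)) :
    x ∈ normalizer (E : Set G) := by
  refine norm_of_conj_le (fun e he => ?_)
  refine hE.centV hAI (mul_mem (mul_mem hx (hE.le he)) (inv_mem hx)) (fun v hv => ?_)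
  have h2 : x⁻¹ * v * x ∈ om E := conj_mem_of_norm' hxV hv
  have h3 := hE.comm e he _ (om_le E h2)
  calc x * e * x⁻¹ * v = x * (e * (x⁻¹ * v * x)) * x⁻¹ := by group
    _ = x * ((x⁻¹ * v * x) * e) * x⁻¹ := by rw [h3]
    _ = v * (x * e * x⁻¹) := by group

/-- the moving element for `Ω₁(E)` -/
theorem moveV : ∃ g ∈ normalizer (E : Set G), ∀ k ∈ centralizer (om E : Set G),
    k * g ∉ normalizer ((S : Subgroup G) : Set G) := by
  obtain ⟨g, hg, hgm⟩ := hE.move
  refine ⟨g, hg, fun k hk hkg => ?_⟩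
  have hgV := norm_om hg
  have hkN : k ∈ normalizer (om E : Set G) := centralizer_le_normalizer _ hk
  have h1 : k * g ∈ normalizer (E : Set G) := by
    refine norm_of_conj_le (fun e he => ?_)
    refine hE.centV hAI (conj_mem_of_norm hkg (hE.le he)) (fun v hv => ?_)
    have h2 : (k * g)⁻¹ * v * (k * g) ∈ om E := conj_mem_of_norm' (mul_mem hkN hgV) hv
    have h3 := hE.comm e he _ (om_le E h2)
    calc (k * g) * e * (k * g)⁻¹ * v = (k * g) * (e * ((k * g)⁻¹ * v * (k * g))) * (k * g)⁻¹ := by group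
      _ = (k * g) * (((k * g)⁻¹ * v * (k * g)) * e) * (k * g)⁻¹ := by rw [h3]
      _ = v * ((k * g) * e * (k * g)⁻¹) := by group
  have h2 : k ∈ normalizer (E : Set G) := by
    have := mul_mem h1 (inv_mem hg)
    rwa [mul_inv_cancel_right] at this
  have h3 := hE.cent_of_normV hAI h2 (fun v hv => (mem_centralizer_iff.1 hk v hv).symm)
  exact hgm k (mem_centralizer_iff.2 (fun e he => (h3 e he).symm)) hkg

end IsE

end ess

end Cfsg.Agent.H305.Ess
end

-- part: H305/FFOff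
section
/-!
# Quadratic offenders in groups with TI Sylow 2-subgroups, I

Version of `ClassTwoFusion.Quad.QData.offender` in which only the offender is quadratic.
-/

set_option autoImplicit false

namespace Cfsg.Agent.H305.FF

open Subgroup Cfsg.Agent.TwoFusion.StronglyEmbeddedBasic
open Cfsg.Agent.ClassTwoFusion.Quad (cv mem_cv mem_cv_singleton cv_anti d)

variable {L V : Type*} [Group L] [Group V] [MulDistribMulAction L V]

/-- quadratic subgroups -/
def Qd (V : Type*) [Group V] [MulDistribMulAction L V] (A : Subgroup L) : Prop :=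
  ∀ x ∈ A, ∀ y ∈ A, ∀ v : V, y • d x v = d x v

/-- Elementary abelian module, faithful action. -/
structure Mod (L V : Type*) [Group L] [Group V] [MulDistribMulAction L V] : Prop where
  comm : ∀ v w : V, v * w = w * v
  sq : ∀ v : V, v * v = 1
  faith : ∀ x : L, (∀ v : V, x • v = v) → x = 1

namespace Mod

variable (h : Mod L V)
include h

theorem inv_eq (v : V) : v⁻¹ = v := inv_eq_of_mul_eq_one_right (h.sq v)

theorem smul_eq (x : L) (v : V) : x • v = d x v * v := by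
  unfold d
  rw [mul_assoc, h.sq, mul_one]

theorem d_eq_one_iff (x : L) (v : V) : d x v = 1 ↔ x • v = v := by
  unfold d
  rw [mul_eq_one_iff_eq_inv, h.inv_eq]

omit h in
theorem _root_.Cfsg.Agent.H305.FF.Qd.mono {A B : Subgroup L} (hB : Qd V B) (hAB : A ≤ B) : Qd V A :=
  fun x hx y hy v => hB x (hAB hx) y (hAB hy) v

/-- elements of quadratic subgroups are involutions -/
theorem mul_self {Q : Subgroup L} (hQ : Qd V Q) {x : L} (hx : x ∈ Q) : x * x = 1 := by
  apply h.faith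
  intro v
  rw [mul_smul, h.smul_eq x v, smul_mul', hQ x hx x hx, h.smul_eq x v, ← mul_assoc, h.sq,
    one_mul]

/-- quadratic subgroups are commutative -/
theorem mul_comm' {Q : Subgroup L} (hQ : Qd V Q) {x y : L} (hx : x ∈ Q) (hy : y ∈ Q) :
    x * y = y * x := by
  have h1 := h.mul_self hQ (mul_mem hx hy)
  have h2 := h.mul_self hQ hx
  have h3 := h.mul_self hQ hy
  calc x * y = x * y * ((y * x) * (y * x)) := by rw [h.mul_self hQ (mul_mem hy hx), mul_one]
    _ = x * (y * y) * x * (y * x) := by group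
    _ = y * x := by rw [h3, mul_one, h2, one_mul]

theorem d_mul_left {Q : Subgroup L} (hQ : Qd V Q) {x y : L} (hx : x ∈ Q) (hy : y ∈ Q) (v : V) :
    d (x * y) v = d x v * d y v := by
  have h1 : (x * y) • v = d y v * (d x v * v) := by
    rw [mul_smul, h.smul_eq y v, smul_mul', hQ y hy x hx, h.smul_eq x v]
  calc d (x * y) v = d y v * (d x v * v) * v := by rw [← h1]; rfl
    _ = d y v * d x v * (v * v) := by group
    _ = d x v * d y v := by rw [h.sq, mul_one, h.comm]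

theorem orderOf_eq_two {Q : Subgroup L} (hQ : Qd V Q) {x : L} (hx : x ∈ Q) (h1 : x ≠ 1) :
    orderOf x = 2 := orderOf_eq_two_of_mul_self (h.mul_self hQ hx) h1

/-- an involution acts quadratically -/
theorem d_self {x : L} (hx : orderOf x = 2) (v : V) : x • d x v = d x v := by
  have h2 : x * x = 1 := by
    have := pow_orderOf_eq_one x
    rwa [hx, pow_two] at this
  unfold d
  rw [smul_mul', smul_smul, h2, one_smul, h.comm]

/-- quadratic subgroups are 2-groups -/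
theorem isPGroup {Q : Subgroup L} (hQ : Qd V Q) : IsPGroup 2 Q := by
  intro x
  refine ⟨1, Subtype.ext ?_⟩
  have := h.mul_self hQ x.2
  rw [pow_one, pow_two]
  exact this

/-- if `st` has odd order, `s` fixes `w` and `[w,t]` then `t` fixes `w`. -/
theorem key {s t : L} (ht : orderOf t = 2) (hst : Odd (orderOf (s * t)))
    {w : V} (hw : s • w = w) (hd : s • d t w = d t w) : t • w = w := by
  have h1 : (s * t) • w = d t w * w := by
    rw [mul_smul, h.smul_eq t w, smul_mul', hd, hw]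
  have h2 : (s * t) • d t w = d t w := by rw [mul_smul, h.d_self ht, hd]
  have h3 : ∀ k : ℕ, (s * t) ^ (2 * k) • w = w := by
    intro k
    induction k with
    | zero => simp
    | succ k ih =>
      rw [show 2 * (k + 1) = 2 * k + 2 by ring, pow_add, mul_smul, pow_two, mul_smul, h1, smul_mul',
        h2, h1, ← mul_assoc, h.sq, one_mul, ih]
  obtain ⟨k, hk⟩ := hst
  have h4 : (s * t) ^ (2 * k + 1) = 1 := by rw [← hk]; exact pow_orderOf_eq_one _
  have h5 : (s * t) ^ (2 * k + 1) • w = d t w * w := by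
    rw [pow_succ', mul_smul, h3, h1]
  rw [h4, one_smul] at h5
  rw [← h.d_eq_one_iff]
  exact mul_eq_right.1 h5.symm

omit h in
theorem d_mem_cv {A : Subgroup L} (hA : Qd V A) {a : L} (ha : a ∈ A) (v : V) :
    d a v ∈ cv V (A : Set L) := fun b hb => hA a ha b hb v

omit h in
/-- conjugates of quadratic subgroups -/
theorem qd_map {A : Subgroup L} (hA : Qd V A) (g : L) :
    Qd V (A.map (MulAut.conj g).toMonoidHom) := by
  rintro _ ⟨x, hx, rfl⟩ _ ⟨y, hy, rfl⟩ v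
  have h1 : d ((MulAut.conj g).toMonoidHom x) v = g • d x (g⁻¹ • v) := by
    unfold d
    have e : (MulAut.conj g).toMonoidHom x = g * x * g⁻¹ := rfl
    rw [e, smul_mul', mul_smul, mul_smul, smul_inv_smul]
  have e : (MulAut.conj g).toMonoidHom y = g * y * g⁻¹ := rfl
  rw [h1, e, mul_smul, mul_smul, inv_smul_smul, hA x hx y hy]

section off

variable [Finite L]

omit h in
theorem odd_of_ne {α : Type*} {f : L → α}
    (hf : ∀ s t : L, orderOf s = 2 → orderOf t = 2 → Commute s t → f s = f t)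
    {s t : L} (hs : orderOf s = 2) (ht : orderOf t = 2) (hst : f s ≠ f t) :
    Odd (orderOf (s * t)) := by
  by_contra hodd
  obtain ⟨z, -, hz2, hza, hzb⟩ := exists_commuting_involution s t hs ht (orderOf_pos _) hodd
  exact hst ((hf s z hs hz2 hza.symm).trans (hf z t hz2 ht hzb))

variable [Finite V]

open Cfsg.Agent.ClassTwoFusion.Quad in
/-- **Offenders.** -/
theorem offender {α : Type*} {f : L → α}
    (hf : ∀ s t : L, orderOf s = 2 → orderOf t = 2 → Commute s t → f s = f t) :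
    ∀ (n : ℕ) (M : Subgroup L), Nat.card M ≤ n →
    (∃ t ∈ M, ∃ s ∈ M, orderOf t = 2 ∧ orderOf s = 2 ∧ f t ≠ f s) →
    ∀ A : Subgroup L, A ≤ M → Qd V A → A ≠ ⊥ →
    (cv V (A : Set L)).index ≤ Nat.card A →
    (cv V (A : Set L)).index = Nat.card A ∧ ∀ a ∈ A, a ≠ 1 → cv V ({a} : Set L) = cv V (A : Set L) := by
  intro n
  induction n with
  | zero =>
    intro M hM
    exact absurd hM (not_le_of_gt Nat.card_pos)
  | succ n ih =>
    intro M hM ⟨t, htM, s, hsM, ht2, hs2, hts⟩ A hAM hA hA1 hoff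
    obtain ⟨a₀, ha₀A, ha₀⟩ := (bot_or_exists_ne_one A).resolve_left hA1
    have ha₀2 := h.orderOf_eq_two hA ha₀A ha₀
    obtain ⟨b₀, hb₀M, hb₀2, hab₀⟩ : ∃ b₀ ∈ M, orderOf b₀ = 2 ∧ f a₀ ≠ f b₀ := by
      by_cases h1 : f a₀ = f t
      · exact ⟨s, hsM, hs2, by rw [h1]; exact hts⟩
      · exact ⟨t, htM, ht2, h1⟩
    obtain ⟨m, hm, -, hm1, hm2⟩ := exists_swap a₀ b₀ ha₀2 hb₀2 (odd_of_ne hf ha₀2 hb₀2 hab₀)
    have hmM : m ∈ M := by
      have : _root_.Subgroup.closure ({a₀, b₀} : Set L) ≤ M := by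
        rw [closure_le]
        rintro x (rfl | rfl)
        · exact hAM ha₀A
        · exact hb₀M
      exact this hm
    set B : Subgroup L := A.map (MulAut.conj m).toMonoidHom with hBdef
    have hBM : B ≤ M := by
      rintro _ ⟨a, ha, rfl⟩
      exact mul_mem (mul_mem hmM (hAM ha)) (inv_mem hmM)
    have hB : Qd V B := qd_map hA m
    have hb₀B : b₀ ∈ B := ⟨a₀, ha₀A, hm1⟩
    have hb₀1 : b₀ ≠ 1 := fun e => by rw [e, orderOf_one] at hb₀2; omega
    have hcardB : Nat.card B = Nat.card A :=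
      Nat.card_congr (A.equivMapOfInjective _ (MulAut.conj m).injective).toEquiv.symm
    have hindB : (cv V (B : Set L)).index = (cv V (A : Set L)).index := QData.index_cv_map_conj A m
    have hfA : ∀ {x y : L}, x ∈ A → y ∈ A → x ≠ 1 → y ≠ 1 → f x = f y := fun hx hy h1 h2 =>
      hf _ _ (h.orderOf_eq_two hA hx h1) (h.orderOf_eq_two hA hy h2) (h.mul_comm' hA hx hy)
    have hfB : ∀ {x y : L}, x ∈ B → y ∈ B → x ≠ 1 → y ≠ 1 → f x = f y := fun hx hy h1 h2 =>
      hf _ _ (h.orderOf_eq_two hB hx h1) (h.orderOf_eq_two hB hy h2) (h.mul_comm' hB hx hy)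
    -- products are odd
    have hodd : ∀ a ∈ A, a ≠ 1 → ∀ b ∈ B, b ≠ 1 → f b ≠ f a := by
      intro a ha ha1 b hb hb1
      rw [hfA ha ha₀A ha1 ha₀, hfB hb hb₀B hb1 hb₀1]
      exact hab₀.symm
    -- claim 1
    have claim1 : ∀ v ∈ cv V (B : Set L), ∀ a ∈ A, a ≠ 1 → a • v = v → v ∈ cv V (A : Set L) := by
      intro v hv a ha ha1 hav
      set M' : Subgroup L := M ⊓ MulAction.stabilizer L v with hM'
      by_cases hMM : M' = M
      · intro b hb
        have : b ∈ M' := by rw [hMM]; exact hAM hb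
        exact this.2
      · have hlt : M' < M := lt_of_le_of_ne inf_le_left hMM
        have hcard : Nat.card M' < Nat.card M := by
          have := Set.ncard_lt_ncard (s := (M' : Set L)) (t := (M : Set L)) (by exact_mod_cast hlt)
            (Set.toFinite _)
          exact this
        have hbM' : b₀ ∈ M' := ⟨hb₀M, hv b₀ hb₀B⟩
        have haM' : a ∈ M' := ⟨hAM ha, hav⟩
        have hBM' : B ≤ M' := le_inf hBM (fun b hb => hv b hb)
        have ha2 := h.orderOf_eq_two hA ha ha1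
        obtain ⟨e1, e2⟩ := ih M' (by omega) ⟨b₀, hbM', a, haM', hb₀2, ha2, hodd a ha ha1 b₀ hb₀B hb₀1⟩
          B hBM' hB (fun e => hb₀1 (by rw [e, mem_bot] at hb₀B; exact hb₀B))
          (by rw [hcardB, hindB]; exact hoff)
        have e3 := e2 b₀ hb₀B hb₀1
        obtain ⟨g, -, -, hg, -⟩ := exists_swap b₀ a hb₀2 ha2 (odd_of_ne hf hb₀2 ha2
          (hodd a ha ha1 b₀ hb₀B hb₀1))
        have e4 : (cv V ({a} : Set L)).index = Nat.card A := by
          rw [← hg, QData.index_cv_conj, e3, e1, hcardB]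
        have hle : cv V (A : Set L) ≤ cv V ({a} : Set L) := cv_anti (by simpa using ha)
        have e5 : cv V (A : Set L) = cv V ({a} : Set L) := by
          have h1 := relIndex_mul_index hle
          have h2 : (cv V (A : Set L)).relIndex (cv V ({a} : Set L)) = 1 := by
            have hpos : 0 < (cv V ({a} : Set L)).index := Nat.pos_of_ne_zero index_ne_zero_of_finite
            have h3 : (cv V (A : Set L)).relIndex (cv V ({a} : Set L)) * (cv V ({a} : Set L)).index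
                ≤ 1 * (cv V ({a} : Set L)).index := by rw [h1, one_mul, e4]; exact hoff
            have h4 := Nat.le_of_mul_le_mul_right h3 hpos
            have h5 : (cv V (A : Set L)).relIndex (cv V ({a} : Set L)) ≠ 0 := by
              exact index_ne_zero_of_finite
            omega
          exact le_antisymm hle (relIndex_eq_one.1 h2)
        rw [e5]
        exact mem_cv_singleton.2 hav
    set CA := cv V (A : Set L) with hCA
    set CB := cv V (B : Set L) with hCB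
    have hposA : 0 < CA.index := Nat.pos_of_ne_zero index_ne_zero_of_finite
    have hposB : 0 < CB.index := Nat.pos_of_ne_zero index_ne_zero_of_finite
    -- claim 2
    have claim2 : ∀ v ∈ CB, ∀ a ∈ A, a ≠ 1 → d a v ∈ CB → a • v = v := by
      intro v hv a ha ha1 hdv
      exact h.key (h.orderOf_eq_two hA ha ha1) (odd_of_ne hf hb₀2 (h.orderOf_eq_two hA ha ha1)
        (hodd a ha ha1 b₀ hb₀B hb₀1)) (hv b₀ hb₀B) (hdv b₀ hb₀B)
    -- there is a vector
    obtain ⟨v, hvB, hvA⟩ : ∃ v ∈ CB, v ∉ CA := by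
      by_contra hcon
      push Not at hcon
      have hle : CB ≤ CA := hcon
      have heq : CB = CA := by
        have h1 := relIndex_mul_index hle
        rw [hindB] at h1
        have h2 : CB.relIndex CA = 1 := by
          have : CB.relIndex CA * CA.index = 1 * CA.index := by rw [h1, one_mul]
          exact Nat.eq_of_mul_eq_mul_right hposA this
        exact le_antisymm hle (relIndex_eq_one.1 h2)
      -- `a₀ b₀` has order two
      have h1 : ∀ v : V, a₀ • v = v := by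
        intro v
        -- use key with an arbitrary vector
        have h2 : ∀ w : V, b₀ • d a₀ w = d a₀ w := by
          intro w
          have : d a₀ w ∈ CB := by rw [heq]; exact d_mem_cv hA ha₀A w
          exact this b₀ hb₀B
        have h3 : ∀ w : V, a₀ • d b₀ w = d b₀ w := by
          intro w
          have : d b₀ w ∈ CA := by rw [← heq]; exact d_mem_cv hB hb₀B w
          exact this a₀ ha₀A
        have h4 : ∀ w : V, (a₀ * b₀) • (a₀ * b₀) • w = w := by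
          intro w
          have e1 : ∀ w : V, (a₀ * b₀) • w = d b₀ w * (d a₀ w * w) := by
            intro w
            rw [mul_smul, h.smul_eq b₀ w, smul_mul', h3, h.smul_eq a₀ w]
          rw [e1 w, smul_mul', smul_mul']
          have e2 : (a₀ * b₀) • d b₀ w = d b₀ w := by rw [mul_smul, h.d_self hb₀2, h3]
          have e3 : (a₀ * b₀) • d a₀ w = d a₀ w := by rw [mul_smul, h2, h.d_self ha₀2]
          rw [e2, e3, e1 w]
          calc d b₀ w * (d a₀ w * (d b₀ w * (d a₀ w * w)))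
              = d b₀ w * (d a₀ w * d b₀ w) * d a₀ w * w := by group
            _ = w := by
                rw [h.comm (d a₀ w), ← mul_assoc, h.sq, one_mul, h.sq, one_mul]
        have h5 : (a₀ * b₀) ^ 2 = 1 := h.faith _ (fun w => by rw [pow_two, mul_smul]; exact h4 w)
        have h6 : a₀ * b₀ = 1 := by
          have := odd_of_ne hf ha₀2 hb₀2 hab₀
          have h7 : orderOf (a₀ * b₀) ∣ 2 := orderOf_dvd_of_pow_eq_one h5
          rw [← orderOf_eq_one_iff]
          rcases (Nat.dvd_prime Nat.prime_two).1 h7 with h8 | h8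
          · exact h8
          · rw [h8] at this; exact absurd this (by decide)
        have h7 : a₀ = b₀ := by
          rw [mul_eq_one_iff_eq_inv] at h6
          rw [h6, inv_eq_self_of_orderOf hb₀2]
        exact absurd (congrArg f h7) hab₀
      exact ha₀ (h.faith _ h1)
    -- the injection
    have hinj : Nat.card A ≤ (CA ⊓ CB).relIndex CA := by
      have hfun : Function.Injective (fun a : A =>
          (QuotientGroup.mk (⟨d (a : L) v, d_mem_cv hA a.2 v⟩ : CA) : CA ⧸ ((CA ⊓ CB).subgroupOf CA))) := by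
        intro a b hab
        have h1 := QuotientGroup.eq.1 hab
        rw [mem_subgroupOf] at h1
        have h2 : d (a * b : L) v ∈ CB := by
          rw [h.d_mul_left hA a.2 b.2]
          have := h1.2
          simpa only [h.inv_eq, _root_.Subgroup.coe_toSubmonoid, _root_.Subgroup.coe_mul, _root_.InvMemClass.coe_inv, _root_.SetLike.mem_coe] using this
        by_contra hne
        have hab1 : (a * b : L) ≠ 1 := by
          intro e
          apply hne
          apply Subtype.ext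
          rw [mul_eq_one_iff_eq_inv] at e
          rw [e, inv_eq_iff_mul_eq_one]
          exact h.mul_self hA b.2
        exact hvA (claim1 v hvB _ (mul_mem a.2 b.2) hab1 (claim2 v hvB _ (mul_mem a.2 b.2) hab1 h2))
      have := Nat.card_le_card_of_injective _ hfun
      exact this
    have h1 : (CA ⊓ CB).relIndex CA * CA.index = (CA ⊓ CB).index := relIndex_mul_index inf_le_left
    have h1' : (CA ⊓ CB).relIndex CB * CB.index = (CA ⊓ CB).index := relIndex_mul_index inf_le_right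
    have h2 : (CA ⊓ CB).index ≤ CA.index * CB.index := index_inf_le
    have h3 : (CA ⊓ CB).relIndex CA ≤ CB.index := by
      have : (CA ⊓ CB).relIndex CA * CA.index ≤ CB.index * CA.index := by
        rw [h1, mul_comm CB.index]; exact h2
      exact Nat.le_of_mul_le_mul_right this hposA
    have hind : CA.index = Nat.card A := by rw [hindB] at h3; omega
    refine ⟨hind, ?_⟩
    intro a ha ha1
    have hle : CA ≤ cv V ({a} : Set L) := cv_anti (by simpa using ha)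
    -- `cv {a} ⊓ CB = CA ⊓ CB`
    have h4 : cv V ({a} : Set L) ⊓ CB = CA ⊓ CB := by
      apply le_antisymm
      · intro v hv
        exact ⟨claim1 v hv.2 a ha ha1 (mem_cv_singleton.1 hv.1), hv.2⟩
      · exact inf_le_inf_right _ hle
    have h5 : (cv V ({a} : Set L)).index = CA.index := by
      have h6 : (cv V ({a} : Set L) ⊓ CB).index ≤ (cv V ({a} : Set L)).index * CB.index := index_inf_le
      rw [h4, ← h1] at h6
      rw [hindB] at h6
      have h7 := Nat.le_of_mul_le_mul_right h6 hposA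
      have h8 : (cv V ({a} : Set L)).index ≤ CA.index :=
        Nat.le_of_dvd hposA (index_dvd_of_le hle)
      omega
    have h6 := relIndex_mul_index hle
    rw [h5] at h6
    have h7 : CA.relIndex (cv V ({a} : Set L)) = 1 := by
      have : CA.relIndex (cv V ({a} : Set L)) * CA.index = 1 * CA.index := by rw [h6, one_mul]
      exact Nat.eq_of_mul_eq_mul_right hposA this
    exact le_antisymm (relIndex_eq_one.1 h7) hle

end off

end Mod

end Cfsg.Agent.H305.FF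
end

-- part: H305/FFLine
section
/-!
# Quadratic offenders in groups with TI Sylow 2-subgroups, II: lines
-/

set_option autoImplicit false

namespace Cfsg.Agent.H305.FF

open Subgroup Cfsg.Agent.TwoFusion.StronglyEmbeddedBasic
open Cfsg.Agent.ClassTwoFusion.Quad (cv mem_cv mem_cv_singleton cv_anti d cv_sup mem_smul_sylow
  coe_smul_sylow)
open scoped Pointwise

variable {L V : Type*} [Group L] [Group V] [MulDistribMulAction L V]

/-- distinct Sylow 2-subgroups intersect trivially and there are at least two -/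
structure TI (L : Type*) [Group L] : Prop where
  ti : ∀ P Q : Sylow 2 L, ∀ x ∈ (P : Subgroup L), x ∈ (Q : Subgroup L) → x ≠ 1 → P = Q
  two : ∃ P Q : Sylow 2 L, P ≠ Q

open Classical in
/-- a Sylow 2-subgroup containing `B` -/
noncomputable def sy (B : Subgroup L) : Sylow 2 L :=
  if h : ∃ P : Sylow 2 L, B ≤ P then h.choose else default

theorem le_sy {B : Subgroup L} (hB : IsPGroup 2 B) : B ≤ sy B := by
  have h : ∃ P : Sylow 2 L, B ≤ P := hB.exists_le_sylow
  unfold sy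
  rw [dif_pos h]
  exact h.choose_spec

namespace TI

variable (h : TI L)
include h

theorem eq_sy {B : Subgroup L} (hB : IsPGroup 2 B) {x : L} (hx : x ∈ B) (hx1 : x ≠ 1)
    {Q : Sylow 2 L} (hxQ : x ∈ (Q : Subgroup L)) : Q = sy B :=
  h.ti _ _ x hxQ (le_sy hB hx) hx1

omit h in
theorem mem_of_smul_eq [Finite L] {P Q : Sylow 2 L} {x : L} (hx : x ∈ (P : Subgroup L)) (hQ : x • Q = Q) :
    x ∈ (Q : Subgroup L) := by
  have h1 : x ∈ normalizer ((Q : Subgroup L) : Set L) := Sylow.smul_eq_iff_mem_normalizer.1 hQ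
  have h2 := P.isPGroup'.inf_normalizer_sylow Q
  have h3 : x ∈ (P : Subgroup L) ⊓ normalizer (Q : Set L) := ⟨hx, h1⟩
  rw [h2] at h3
  exact h3.2

theorem eq_one_of_smul_eq [Finite L] {P Q : Sylow 2 L} (hPQ : P ≠ Q) {x : L} (hx : x ∈ (P : Subgroup L))
    (hQ : x • Q = Q) : x = 1 := by
  by_contra h1
  exact hPQ (h.ti P Q x hx (mem_of_smul_eq hx hQ) h1)

/-- an involution commuting with `a ∈ P`, `a ≠ 1`, is in `P` -/
theorem mem_of_commute [Finite L] {P : Sylow 2 L} {a z : L} (ha : a ∈ (P : Subgroup L)) (ha1 : a ≠ 1)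
    (hz : orderOf z = 2) (hc : Commute z a) : z ∈ (P : Subgroup L) := by
  obtain ⟨T, hT⟩ := Cfsg.Agent.ClassTwoFusion.Quad.QData.exists_sylow_mem hz
  apply mem_of_smul_eq hT
  apply h.ti _ _ a _ ha ha1
  rw [mem_smul_sylow]
  have : z⁻¹ * a * z = a := by rw [mul_assoc, ← hc.eq, inv_mul_cancel_left]
  rw [this]
  exact ha

theorem sy_map {B : Subgroup L} (hB : IsPGroup 2 B) {x : L} (hx : x ∈ B) (hx1 : x ≠ 1) (g : L) :
    sy (B.map (MulAut.conj g).toMonoidHom) = g • sy B := by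
  symm
  refine h.eq_sy (hB.map _) (x := g * x * g⁻¹) ⟨x, hx, rfl⟩ (fun e => hx1 ?_) ?_
  · rw [mul_inv_eq_one] at e
    exact mul_eq_left.1 e
  · rw [mem_smul_sylow]
    have e : g⁻¹ * (g * x * g⁻¹) * g = x := by group
    rw [e]
    exact le_sy hB hx

end TI

/-- Members: quadratic subgroups of order `n` whose fixed space has index `n`. -/
structure Mem (V : Type*) [Group V] [MulDistribMulAction L V] (n : ℕ) (B : Subgroup L) : Prop where
  qd : Qd V B
  card : Nat.card B = n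
  idx : (cv V (B : Set L)).index = n
  fix : ∀ b ∈ B, b ≠ 1 → cv V ({b} : Set L) = cv V (B : Set L)

section

variable [Finite L] [Finite V]

omit [Finite V] [Group V] [MulDistribMulAction L V] in
theorem f_comm (h : TI L) (s t : L) (hs : orderOf s = 2) (ht : orderOf t = 2) (hst : Commute s t) :
    sy (zpowers s) = sy (zpowers t) := by
  have hp : ∀ {x : L}, orderOf x = 2 → IsPGroup 2 (zpowers x) := by
    intro x hx
    refine IsPGroup.of_card (n := 1) ?_
    rw [Nat.card_zpowers, hx, pow_one]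
  have hs1 : s ≠ 1 := fun e => by rw [e, orderOf_one] at hs; omega
  have ht1 : t ≠ 1 := fun e => by rw [e, orderOf_one] at ht; omega
  exact h.eq_sy (hp ht) (mem_zpowers t) ht1
    (h.mem_of_commute (le_sy (hp hs) (mem_zpowers s)) hs1 ht hst.symm)

omit [Finite V] in
theorem exists_two (hm : Mod L V) (h : TI L) {A : Subgroup L} (hA : Qd V A) (hA1 : A ≠ ⊥) :
    ∃ t ∈ (⊤ : Subgroup L), ∃ s ∈ (⊤ : Subgroup L), orderOf t = 2 ∧ orderOf s = 2 ∧
      sy (zpowers t) ≠ sy (zpowers s) := by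
  obtain ⟨P, Q, hPQ⟩ := h.two
  obtain ⟨a, haA, ha⟩ := (bot_or_exists_ne_one A).resolve_left hA1
  have ha2 := hm.orderOf_eq_two hA haA ha
  obtain ⟨T, hT⟩ := Cfsg.Agent.ClassTwoFusion.Quad.QData.exists_sylow_mem ha2
  have key : ∀ R : Sylow 2 L, ∃ t ∈ (R : Subgroup L), orderOf t = 2 := by
    intro R
    obtain ⟨g, rfl⟩ := MulAction.exists_smul_eq L T R
    refine ⟨g * a * g⁻¹, ?_, ?_⟩
    · rw [mem_smul_sylow]
      have e : g⁻¹ * (g * a * g⁻¹) * g = a := by group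
      rw [e]; exact hT
    · rw [← ha2]
      exact orderOf_injective (MulAut.conj g).toMonoidHom (MulAut.conj g).injective a
  obtain ⟨t, htP, ht⟩ := key P
  obtain ⟨s, hsQ, hs⟩ := key Q
  have hp : ∀ {x : L}, orderOf x = 2 → IsPGroup 2 (zpowers x) := by
    intro x hx
    refine IsPGroup.of_card (n := 1) ?_
    rw [Nat.card_zpowers, hx, pow_one]
  refine ⟨t, mem_top _, s, mem_top _, ht, hs, ?_⟩
  have hs1 : s ≠ 1 := fun e => by rw [e, orderOf_one] at hs; omega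
  have ht1 : t ≠ 1 := fun e => by rw [e, orderOf_one] at ht; omega
  rw [← h.eq_sy (hp ht) (mem_zpowers t) ht1 htP, ← h.eq_sy (hp hs) (mem_zpowers s) hs1 hsQ]
  exact hPQ

theorem offender_mem (hm : Mod L V) (h : TI L) {A : Subgroup L} (hA : Qd V A) (hA1 : A ≠ ⊥)
    (hoff : (cv V (A : Set L)).index ≤ Nat.card A) : Mem V (Nat.card A) A := by
  obtain ⟨h1, h2⟩ := hm.offender (f_comm h) _ ⊤ le_rfl (exists_two hm h hA hA1) A le_top hA hA1 hoff
  exact ⟨hA, rfl, h1, h2⟩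

end

namespace Mem

variable {n : ℕ}

theorem map {B : Subgroup L} (hB : Mem V n B) (g : L) : Mem V n (B.map (MulAut.conj g).toMonoidHom) := by
  have hc : cv V ((B.map (MulAut.conj g).toMonoidHom : Subgroup L) : Set L) = _ :=
    Cfsg.Agent.ClassTwoFusion.Quad.QData.cv_map_conj B g
  refine ⟨Mod.qd_map hB.qd g, ?_, ?_, ?_⟩
  · rw [← hB.card]
    exact Nat.card_congr (B.equivMapOfInjective _ (MulAut.conj g).injective).toEquiv.symm
  · rw [← hB.idx]
    exact Cfsg.Agent.ClassTwoFusion.Quad.QData.index_cv_map_conj B g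
  · rintro _ ⟨b, hb, rfl⟩ hb1
    have hb1' : b ≠ 1 := by
      rintro rfl
      exact hb1 (map_one _)
    have h1 : (zpowers b).map (MulAut.conj g).toMonoidHom = zpowers (g * b * g⁻¹) := by
      rw [MonoidHom.map_zpowers]
      rfl
    have e : (MulAut.conj g).toMonoidHom b = g * b * g⁻¹ := rfl
    rw [e, Cfsg.Agent.ClassTwoFusion.Quad.QData.cv_singleton, ← h1,
      Cfsg.Agent.ClassTwoFusion.Quad.QData.cv_map_conj, hc,
      ← Cfsg.Agent.ClassTwoFusion.Quad.QData.cv_singleton, hB.fix b hb hb1']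

theorem mem_cv_map {B : Subgroup L} {g : L} {v : V} :
    v ∈ cv V ((B.map (MulAut.conj g).toMonoidHom : Subgroup L) : Set L) ↔ g⁻¹ • v ∈ cv V (B : Set L) := by
  rw [Cfsg.Agent.ClassTwoFusion.Quad.QData.cv_map_conj, Subgroup.mem_map]
  constructor
  · rintro ⟨w, hw, rfl⟩
    change g⁻¹ • (g • w) ∈ _
    rw [inv_smul_smul]
    exact hw
  · intro hv
    exact ⟨g⁻¹ • v, hv, smul_inv_smul g v⟩

variable {B : Subgroup L} (hB : Mem V n B)
include hB

theorem ne_bot (hn : 2 ≤ n) : ∃ b ∈ B, b ≠ 1 := by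
  apply (bot_or_exists_ne_one B).resolve_left
  rintro rfl
  have := hB.card
  rw [card_bot] at this
  omega

theorem eq_of_smul_eq {b : L} (hb : b ∈ B) (hb1 : b ≠ 1) {v : V} (hv : b • v = v) :
    v ∈ cv V (B : Set L) := by
  rw [← hB.fix b hb hb1, mem_cv_singleton]
  exact hv

end Mem

section lines

variable [Finite L] [Finite V] (hm : Mod L V) (h : TI L) {n : ℕ} (hn : 2 ≤ n)
include hm h hn

theorem sy_eq {B : Subgroup L} (hB : Mem V n B) {x : L} (hx : x ∈ B) (hx1 : x ≠ 1)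
    {Q : Sylow 2 L} (hxQ : x ∈ (Q : Subgroup L)) : Q = sy B := h.eq_sy (hm.isPGroup hB.qd) hx hx1 hxQ

theorem sy_map {B : Subgroup L} (hB : Mem V n B) (g : L) :
    sy (B.map (MulAut.conj g).toMonoidHom) = g • sy B := by
  obtain ⟨b, hb, hb1⟩ := hB.ne_bot hn
  exact h.sy_map (hm.isPGroup hB.qd) hb hb1 g

theorem mem_sy {B : Subgroup L} (hB : Mem V n B) {x : L} (hx : x ∈ B) : x ∈ (sy B : Subgroup L) :=
  le_sy (hm.isPGroup hB.qd) hx

theorem odd_mul {A B : Subgroup L} (hA : Mem V n A) (hB : Mem V n B) (hAB : sy A ≠ sy B) {a b : L}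
    (ha : a ∈ A) (ha1 : a ≠ 1) (hb : b ∈ B) (hb1 : b ≠ 1) : Odd (orderOf (b * a)) := by
  by_contra hodd
  obtain ⟨z, -, hz2, hzb, hza⟩ := exists_commuting_involution b a (hm.orderOf_eq_two hB.qd hb hb1)
    (hm.orderOf_eq_two hA.qd ha ha1) (orderOf_pos _) hodd
  have hz1 : z ≠ 1 := fun e => by rw [e, orderOf_one] at hz2; omega
  exact hAB (h.ti _ _ z (h.mem_of_commute (mem_sy hm h hn hA ha) ha1 hz2 hza)
    (h.mem_of_commute (mem_sy hm h hn hB hb) hb1 hz2 hzb) hz1)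

/-- `v ∈ C_V(B)`, `[v,a] ∈ C_V(B)` imply that `a` fixes `v`. -/
theorem claim2 {A B : Subgroup L} (hA : Mem V n A) (hB : Mem V n B) (hAB : sy A ≠ sy B) {a : L}
    (ha : a ∈ A) (ha1 : a ≠ 1) {v : V} (hv : v ∈ cv V (B : Set L)) (hd : d a v ∈ cv V (B : Set L)) :
    a • v = v := by
  obtain ⟨b, hb, hb1⟩ := hB.ne_bot hn
  exact hm.key (hm.orderOf_eq_two hA.qd ha ha1) (odd_mul hm h hn hA hB hAB ha ha1 hb hb1) (hv b hb) (hd b hb)

omit hn in
/-- Members with the same fixed space are equal. -/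
theorem eq_of_cv_eq (hn : 2 ≤ n) {A B : Subgroup L} (hA : Mem V n A) (hB : Mem V n B)
    (hAB : cv V (A : Set L) = cv V (B : Set L)) : A = B := by
  set F := cv V (A : Set L) with hF
  let K : Subgroup L :=
    { carrier := {x | (∀ v ∈ F, x • v = v) ∧ ∀ v : V, d x v ∈ F}
      one_mem' := ⟨fun v _ => one_smul L v, fun v => by
        have : d (1 : L) v = 1 := by rw [hm.d_eq_one_iff, one_smul]
        rw [this]; exact one_mem F⟩
      mul_mem' := by
        rintro x y ⟨hx1, hx2⟩ ⟨hy1, hy2⟩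
        refine ⟨fun v hv => by rw [mul_smul, hy1 v hv, hx1 v hv], fun v => ?_⟩
        have e : d (x * y) v = d y v * d x v := by
          have e1 : (x * y) • v = d y v * (d x v * v) := by
            rw [mul_smul, hm.smul_eq y v, smul_mul', hx1 _ (hy2 v), hm.smul_eq x v]
          calc d (x * y) v = (x * y) • v * v := rfl
            _ = d y v * d x v * (v * v) := by rw [e1]; group
            _ = d y v * d x v := by rw [hm.sq, mul_one]
        rw [e]
        exact mul_mem (hy2 v) (hx2 v)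
      inv_mem' := by
        rintro x ⟨hx1, hx2⟩
        have h1 : ∀ v ∈ F, x⁻¹ • v = v := fun v hv => by rw [inv_smul_eq_iff, hx1 v hv]
        refine ⟨h1, fun v => ?_⟩
        have e : d x⁻¹ v = d x v := by
          have e1 : x⁻¹ • (d x v) = d x⁻¹ v := by
            unfold d
            rw [smul_mul', inv_smul_smul, hm.comm]
          rw [← e1, h1 _ (hx2 v)]
        rw [e]
        exact hx2 v }
  have hAK : A ≤ K := fun a ha => ⟨fun v hv => hv a ha, fun v => Mod.d_mem_cv hA.qd ha v⟩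
  have hBK : B ≤ K := fun b hb => ⟨fun v hv => by rw [hAB] at hv; exact hv b hb,
    fun v => by rw [hAB]; exact Mod.d_mem_cv hB.qd hb v⟩
  have hJK : A ⊔ B ≤ K := sup_le hAK hBK
  have hcv : cv V ((A ⊔ B : Subgroup L) : Set L) = F := by rw [cv_sup, ← hAB, inf_idem]
  have hJ : Qd V (A ⊔ B) := fun x hx y hy v => (hJK hy).1 _ ((hJK hx).2 v)
  have hJ1 : A ⊔ B ≠ ⊥ := by
    intro e
    obtain ⟨a, ha, ha1⟩ := hA.ne_bot hn
    have : a ∈ A ⊔ B := mem_sup_left ha
    rw [e, mem_bot] at this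
    exact ha1 this
  have hle : Nat.card A ≤ Nat.card (A ⊔ B : Subgroup L) := Nat.card_le_card_of_injective _
    (inclusion_injective le_sup_left)
  have hoff : (cv V ((A ⊔ B : Subgroup L) : Set L)).index ≤ Nat.card (A ⊔ B : Subgroup L) := by
    rw [hcv, hF, hA.idx, ← hA.card]
    exact hle
  have h1 := offender_mem hm h hJ hJ1 hoff
  have h2 := h1.idx
  rw [hcv, hF, hA.idx] at h2
  have h3 : A = A ⊔ B := eq_of_le_of_card_ge le_sup_left (by rw [← h2, hA.card])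
  have h4 : B = A ⊔ B := eq_of_le_of_card_ge le_sup_right (by rw [← h2, hB.card])
  exact h3.trans h4.symm

omit hn in
theorem cv_eq_of_le {A B : Subgroup L} (hA : Mem V n A) (hB : Mem V n B) (hle : cv V (A : Set L) ≤ cv V (B : Set L)) :
    cv V (A : Set L) = cv V (B : Set L) := by
  have h1 := relIndex_mul_index hle
  rw [hA.idx, hB.idx] at h1
  have hpos : 0 < n := by rw [← hA.card]; exact Nat.card_pos
  have h2 : (cv V (A : Set L)).relIndex (cv V (B : Set L)) = 1 := by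
    have : (cv V (A : Set L)).relIndex (cv V (B : Set L)) * n = 1 * n := by rw [h1, one_mul]
    exact Nat.eq_of_mul_eq_mul_right hpos this
  exact le_antisymm hle (relIndex_eq_one.1 h2)

/-- the map `a ↦ [v,a]` is injective modulo the intersection of the fixed spaces -/
theorem inj {A B : Subgroup L} (hA : Mem V n A) (hB : Mem V n B) (hAB : sy A ≠ sy B) {v : V}
    (hvB : v ∈ cv V (B : Set L)) (hvA : v ∉ cv V (A : Set L)) :
    Function.Injective (fun a : A =>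
      (QuotientGroup.mk (⟨d (a : L) v, Mod.d_mem_cv hA.qd a.2 v⟩ : cv V (A : Set L)) :
        cv V (A : Set L) ⧸ ((cv V (A : Set L) ⊓ cv V (B : Set L)).subgroupOf (cv V (A : Set L))))) := by
  intro a b hab
  have h1 := QuotientGroup.eq.1 hab
  rw [mem_subgroupOf] at h1
  have h2 : d (a * b : L) v ∈ cv V (B : Set L) := by
    rw [hm.d_mul_left hA.qd a.2 b.2]
    have := h1.2
    simpa only [hm.inv_eq, _root_.Subgroup.coe_toSubmonoid, _root_.Subgroup.coe_mul, _root_.InvMemClass.coe_inv, _root_.SetLike.mem_coe] using this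
  by_contra hne
  have hab1 : (a * b : L) ≠ 1 := by
    intro e
    apply hne
    apply Subtype.ext
    rw [mul_eq_one_iff_eq_inv] at e
    rw [e, inv_eq_iff_mul_eq_one]
    exact hm.mul_self hA.qd b.2
  exact hvA (hA.eq_of_smul_eq (mul_mem a.2 b.2) hab1
    (claim2 hm h hn hA hB hAB (mul_mem a.2 b.2) hab1 hvB h2))

/-- two opposite members: the intersection of the fixed spaces has index `n²` -/
theorem index_inf {A B : Subgroup L} (hA : Mem V n A) (hB : Mem V n B) (hAB : sy A ≠ sy B) :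
    (cv V (A : Set L) ⊓ cv V (B : Set L)).index = n * n ∧
      (cv V (A : Set L) ⊓ cv V (B : Set L)).relIndex (cv V (A : Set L)) = n := by
  have hpos : 0 < n := by omega
  obtain ⟨v, hvB, hvA⟩ : ∃ v ∈ cv V (B : Set L), v ∉ cv V (A : Set L) := by
    by_contra hcon
    push Not at hcon
    exact hAB (congrArg sy (eq_of_cv_eq hm h hn hA hB (cv_eq_of_le hm h hB hA hcon).symm))
  have hinj := Nat.card_le_card_of_injective _ (inj hm h hn hA hB hAB hvB hvA)
  rw [hA.card] at hinj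
  have h0 : n ≤ (cv V (A : Set L) ⊓ cv V (B : Set L)).relIndex (cv V (A : Set L)) := hinj
  have h1 : (cv V (A : Set L) ⊓ cv V (B : Set L)).relIndex (cv V (A : Set L)) * (cv V (A : Set L)).index =
    (cv V (A : Set L) ⊓ cv V (B : Set L)).index := relIndex_mul_index inf_le_left
  have h2 : (cv V (A : Set L) ⊓ cv V (B : Set L)).index ≤ (cv V (A : Set L)).index * (cv V (B : Set L)).index :=
    index_inf_le
  rw [hA.idx] at h1 h2
  rw [hB.idx] at h2
  have h3 : (cv V (A : Set L) ⊓ cv V (B : Set L)).relIndex (cv V (A : Set L)) ≤ n := by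
    rw [← h1] at h2
    exact Nat.le_of_mul_le_mul_right h2 hpos
  have h4 : (cv V (A : Set L) ⊓ cv V (B : Set L)).relIndex (cv V (A : Set L)) = n := le_antisymm h3 h0
  rw [h4] at h1
  exact ⟨h1.symm, h4⟩

/-- the fixed spaces of the members `A`, `B^a` (`a ∈ A`) cover `V` -/
theorem cover {A B : Subgroup L} (hA : Mem V n A) (hB : Mem V n B) (hAB : sy A ≠ sy B) (v : V) :
    v ∈ cv V (A : Set L) ∨ ∃ a ∈ A, a⁻¹ • v ∈ cv V (B : Set L) := by
  by_cases hv : v ∈ cv V (A : Set L)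
  · exact Or.inl hv
  right
  have hpos : 0 < n := by omega
  obtain ⟨hi, hr⟩ := index_inf hm h hn hA hB hAB
  have hnorm : (cv V (A : Set L)).Normal := ⟨fun x hx g => by
    rw [hm.comm g x, mul_inv_cancel_right]; exact hx⟩
  -- `V = C_V(A) C_V(B)`
  have htop : cv V (A : Set L) ⊔ cv V (B : Set L) = ⊤ := by
    have h1 : (cv V (A : Set L)).relIndex (cv V (B : Set L)) = n := by
      have h2 : (cv V (A : Set L) ⊓ cv V (B : Set L)).relIndex (cv V (B : Set L)) * (cv V (B : Set L)).index =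
        (cv V (A : Set L) ⊓ cv V (B : Set L)).index := relIndex_mul_index inf_le_right
      rw [hi, hB.idx, inf_relIndex_right] at h2
      exact Nat.eq_of_mul_eq_mul_right hpos h2
    have h2 : (cv V (A : Set L)).relIndex (cv V (A : Set L) ⊔ cv V (B : Set L)) = n := by
      rw [sup_comm, relIndex_sup_right, h1]
    have h3 := relIndex_mul_index (le_sup_left : cv V (A : Set L) ≤ cv V (A : Set L) ⊔ cv V (B : Set L))
    rw [h2, hA.idx] at h3
    have h4 : (cv V (A : Set L) ⊔ cv V (B : Set L)).index = 1 := by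
      have : n * (cv V (A : Set L) ⊔ cv V (B : Set L)).index = n * 1 := by rw [h3, mul_one]
      exact Nat.eq_of_mul_eq_mul_left hpos this
    exact index_eq_one.1 h4
  have hvt : v ∈ cv V (B : Set L) ⊔ cv V (A : Set L) := by rw [sup_comm, htop]; trivial
  obtain ⟨w, hw, u, hu, huw⟩ := mem_sup_of_normal_right.1 hvt
  have hwA : w ∉ cv V (A : Set L) := by
    intro hwA
    exact hv (by rw [← huw]; exact mul_mem hwA hu)
  have hinj := inj hm h hn hA hB hAB hw hwA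
  have hbij : Function.Bijective (fun a : A =>
      (QuotientGroup.mk (⟨d (a : L) w, Mod.d_mem_cv hA.qd a.2 w⟩ : cv V (A : Set L)) :
        cv V (A : Set L) ⧸ ((cv V (A : Set L) ⊓ cv V (B : Set L)).subgroupOf (cv V (A : Set L))))) := by
    rw [Nat.bijective_iff_injective_and_card]
    refine ⟨hinj, ?_⟩
    rw [hA.card]
    exact hr.symm
  obtain ⟨a, ha⟩ := hbij.2 (QuotientGroup.mk ⟨u, hu⟩)
  have h1 := QuotientGroup.eq.1 ha
  rw [mem_subgroupOf] at h1
  have h2 : d (a : L) w * u ∈ cv V (B : Set L) := by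
    have := h1.2
    simpa only [hm.inv_eq, _root_.Subgroup.coe_toSubmonoid, _root_.Subgroup.coe_mul, _root_.InvMemClass.coe_inv, _root_.SetLike.mem_coe] using this
  have h3 : d (a : L) w * u ∈ cv V (A : Set L) := mul_mem (Mod.d_mem_cv hA.qd a.2 w) hu
  refine ⟨a, a.2, ?_⟩
  have e : (a : L) • (w * (d (a : L) w * u)) = v := by
    rw [smul_mul', h3 a a.2, hm.smul_eq, ← huw, hm.comm (d (a : L) w) w, mul_assoc w,
      ← mul_assoc (d (a : L) w), hm.sq, one_mul]
  rw [← e, inv_smul_smul]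
  exact mul_mem hw h2

/-- the line through `A` and `B` -/
def InLine (A B D : Subgroup L) : Prop := D = A ∨ ∃ a ∈ A, D = B.map (MulAut.conj a).toMonoidHom

omit [Finite V] [Finite L] hm h hn in
theorem inLine_mem {A B D : Subgroup L} (hA : Mem V n A) (hB : Mem V n B) (hD : InLine A B D) :
    Mem V n D ∧ cv V (A : Set L) ⊓ cv V (B : Set L) ≤ cv V (D : Set L) := by
  rcases hD with rfl | ⟨a, ha, rfl⟩
  · exact ⟨hA, inf_le_left⟩
  · refine ⟨hB.map a, fun v hv => ?_⟩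
    rw [Mem.mem_cv_map]
    have : a⁻¹ • v = v := hv.1 _ (inv_mem ha)
    rw [this]
    exact hv.2

theorem inLine_sy {A B D D' : Subgroup L} (hA : Mem V n A) (hB : Mem V n B) (hAB : sy A ≠ sy B)
    (hD : InLine A B D) (hD' : InLine A B D') (hs : sy D = sy D') : D = D' := by
  have key : ∀ a ∈ A, a • sy B ≠ sy A := by
    intro a ha e
    apply hAB
    have h1 : a⁻¹ • sy A = sy A :=
      Sylow.smul_eq_iff_mem_normalizer.2 (le_normalizer (inv_mem (mem_sy hm h hn hA ha)))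
    rw [← h1, ← e, inv_smul_smul]
  rcases hD with rfl | ⟨a, ha, rfl⟩
  · rcases hD' with rfl | ⟨b, hb, rfl⟩
    · rfl
    · rw [sy_map hm h hn hB] at hs
      exact absurd hs.symm (key b hb)
  · rcases hD' with rfl | ⟨b, hb, rfl⟩
    · rw [sy_map hm h hn hB] at hs
      exact absurd hs (key a ha)
    · rw [sy_map hm h hn hB, sy_map hm h hn hB] at hs
      have h1 : (b⁻¹ * a) • sy B = sy B := by rw [mul_smul, hs, inv_smul_smul]
      have h2 : b⁻¹ * a = 1 := h.eq_one_of_smul_eq hAB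
        (mem_sy hm h hn hA (mul_mem (inv_mem hb) ha)) h1
      have h3 : a = b := by rw [inv_mul_eq_one] at h2; exact h2.symm
      rw [h3]

end lines

end Cfsg.Agent.H305.FF
end

-- part: H305/FFMain
section
/-!
# Quadratic offenders in groups with TI Sylow 2-subgroups, III

`main`: a quadratic offender is a Sylow 2-subgroup.
-/

set_option autoImplicit false

namespace Cfsg.Agent.H305.FF

open Subgroup Cfsg.Agent.TwoFusion.StronglyEmbeddedBasic
open Cfsg.Agent.ClassTwoFusion.Quad (cv mem_cv mem_cv_singleton cv_anti d cv_sup mem_smul_sylow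
  coe_smul_sylow)
open scoped Pointwise

variable {L V : Type*} [Group L] [Group V] [MulDistribMulAction L V]

/-- the intersection of the fixed spaces of two opposite members -/
def IsLine (V : Type*) [Group V] [MulDistribMulAction L V] (n : ℕ) (U : Subgroup V) (A B : Subgroup L) : Prop :=
  Mem V n A ∧ Mem V n B ∧ sy A ≠ sy B ∧ U = cv V (A : Set L) ⊓ cv V (B : Set L)

section

variable [Finite L] [Finite V] (hm : Mod L V) (h : TI L) {n : ℕ} (hn : 2 ≤ n)
include hm h hn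

omit h in
theorem eq_of_le_of_index {U U' : Subgroup V} (hle : U ≤ U') (h1 : U.index = U'.index) : U = U' := by
  have h2 := relIndex_mul_index hle
  have hpos : 0 < U'.index := Nat.pos_of_ne_zero index_ne_zero_of_finite
  rw [h1] at h2
  have h3 : U.relIndex U' = 1 := by
    have : U.relIndex U' * U'.index = 1 * U'.index := by rw [h2, one_mul]
    exact Nat.eq_of_mul_eq_mul_right hpos this
  exact le_antisymm hle (relIndex_eq_one.1 h3)

theorem line_index {U : Subgroup V} {A B : Subgroup L} (hU : IsLine V n U A B) : U.index = n * n := by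
  obtain ⟨hA, hB, hAB, rfl⟩ := hU
  exact (index_inf hm h hn hA hB hAB).1

/-- a member whose fixed space contains `U` is one of the members of the explicit line -/
theorem mem_line {U : Subgroup V} {A B : Subgroup L} (hU : IsLine V n U A B) {D : Subgroup L}
    (hD : Mem V n D) (hUD : U ≤ cv V (D : Set L)) : InLine A B D := by
  have hidx := line_index hm h hn hU
  obtain ⟨hA, hB, hAB, hUe⟩ := hU
  -- every vector of `C_V(D)` outside `U` is fixed by a member of the line in the same Sylow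
  have key : ∀ v ∈ cv V (D : Set L), v ∉ U → ∃ E, InLine A B E ∧ v ∈ cv V (E : Set L) ∧ sy D = sy E := by
    intro v hv hvU
    obtain ⟨E, hE, hvE⟩ : ∃ E, InLine A B E ∧ v ∈ cv V (E : Set L) := by
      rcases cover hm h hn hA hB hAB v with h1 | ⟨a, ha, h1⟩
      · exact ⟨A, Or.inl rfl, h1⟩
      · exact ⟨_, Or.inr ⟨a, ha, rfl⟩, Mem.mem_cv_map.2 h1⟩
    refine ⟨E, hE, hvE, ?_⟩
    by_contra hne
    obtain ⟨hEm, hUE⟩ := inLine_mem hA hB hE
    rw [← hUe] at hUE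
    have h1 : U = cv V (D : Set L) ⊓ cv V (E : Set L) :=
      eq_of_le_of_index hm hn (le_inf hUD hUE) (by rw [hidx, (index_inf hm h hn hD hEm hne).1])
    exact hvU (by rw [h1]; exact ⟨hv, hvE⟩)
  obtain ⟨v₀, hv₀, hv₀U⟩ : ∃ v ∈ cv V (D : Set L), v ∉ U := by
    by_contra hcon
    push Not at hcon
    have h1 : U = cv V (D : Set L) := le_antisymm hUD hcon
    have h2 : n * n = n := by rw [← hidx, h1, hD.idx]
    have h3 : n = 1 := by
      have : n * n = n * 1 := by rw [h2, mul_one]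
      exact Nat.eq_of_mul_eq_mul_left (by omega) this
    omega
  obtain ⟨E, hE, -, hsE⟩ := key v₀ hv₀ hv₀U
  obtain ⟨hEm, hUE⟩ := inLine_mem hA hB hE
  rw [← hUe] at hUE
  have hle : cv V (D : Set L) ≤ cv V (E : Set L) := by
    intro v hv
    by_cases hvU : v ∈ U
    · exact hUE hvU
    · obtain ⟨E', hE', hvE', hs'⟩ := key v hv hvU
      rwa [inLine_sy hm h hn hA hB hAB hE hE' (hsE.symm.trans hs')]
  rw [eq_of_cv_eq hm h hn hD hEm (cv_eq_of_le hm h hD hEm hle)]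
  exact hE

theorem line_two {U : Subgroup V} {A B : Subgroup L} (hU : IsLine V n U A B) {D D' : Subgroup L}
    (hD : Mem V n D) (hUD : U ≤ cv V (D : Set L)) (hD' : Mem V n D') (hUD' : U ≤ cv V (D' : Set L))
    (hne : D ≠ D') : sy D ≠ sy D' ∧ cv V (D : Set L) ⊓ cv V (D' : Set L) = U := by
  have hidx := line_index hm h hn hU
  have h1 := mem_line hm h hn hU hD hUD
  have h2 := mem_line hm h hn hU hD' hUD'
  obtain ⟨hA, hB, hAB, hUe⟩ := hU
  have h3 : sy D ≠ sy D' := fun e => hne (inLine_sy hm h hn hA hB hAB h1 h2 e)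
  exact ⟨h3, (eq_of_le_of_index hm hn (le_inf hUD hUD')
    (by rw [hidx, (index_inf hm h hn hD hD' h3).1])).symm⟩

theorem line_cover {U : Subgroup V} {A B : Subgroup L} (hU : IsLine V n U A B) (v : V) :
    ∃ D : Subgroup L, Mem V n D ∧ U ≤ cv V (D : Set L) ∧ v ∈ cv V (D : Set L) := by
  obtain ⟨hA, hB, hAB, hUe⟩ := hU
  obtain ⟨E, hE, hvE⟩ : ∃ E, InLine A B E ∧ v ∈ cv V (E : Set L) := by
    rcases cover hm h hn hA hB hAB v with h1 | ⟨a, ha, h1⟩
    · exact ⟨A, Or.inl rfl, h1⟩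
    · exact ⟨_, Or.inr ⟨a, ha, rfl⟩, Mem.mem_cv_map.2 h1⟩
  obtain ⟨hEm, hUE⟩ := inLine_mem hA hB hE
  exact ⟨E, hEm, by rw [hUe]; exact hUE, hvE⟩

omit hm h hn [Finite L] [Finite V] in
theorem line_other {U : Subgroup V} {A B : Subgroup L} (hU : IsLine V n U A B) (P : Sylow 2 L) :
    ∃ D : Subgroup L, Mem V n D ∧ U ≤ cv V (D : Set L) ∧ sy D ≠ P := by
  obtain ⟨hA, hB, hAB, hUe⟩ := hU
  by_cases h1 : sy A = P
  · exact ⟨B, hB, by rw [hUe]; exact inf_le_right, fun e => hAB (h1.trans e.symm)⟩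
  · exact ⟨A, hA, by rw [hUe]; exact inf_le_left, h1⟩

/-- image of a line -/
theorem line_map {U : Subgroup V} {A B : Subgroup L} (hU : IsLine V n U A B) (g : L) :
    IsLine V n (U.map (MulDistribMulAction.toMulEquiv V g).toMonoidHom)
      (A.map (MulAut.conj g).toMonoidHom) (B.map (MulAut.conj g).toMonoidHom) := by
  obtain ⟨hA, hB, hAB, hUe⟩ := hU
  refine ⟨hA.map g, hB.map g, ?_, ?_⟩
  · rw [sy_map hm h hn hA, sy_map hm h hn hB]
    exact fun e => hAB (smul_left_cancel g e)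
  · rw [Cfsg.Agent.ClassTwoFusion.Quad.QData.cv_map_conj, Cfsg.Agent.ClassTwoFusion.Quad.QData.cv_map_conj,
      hUe]
    exact Subgroup.map_inf _ _ (MulDistribMulAction.toMulEquiv V g).toMonoidHom
      (MulDistribMulAction.toMulEquiv V g).injective

omit hm h hn [Finite L] [Finite V] in
theorem mem_map_toMulEquiv {U : Subgroup V} {g : L} {v : V} :
    v ∈ U.map (MulDistribMulAction.toMulEquiv V g).toMonoidHom ↔ g⁻¹ • v ∈ U := by
  constructor
  · rintro ⟨w, hw, rfl⟩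
    change g⁻¹ • (g • w) ∈ _
    rw [inv_smul_smul]
    exact hw
  · intro hv
    exact ⟨g⁻¹ • v, hv, smul_inv_smul g v⟩

/-- Two lines with a common member are equal. -/
theorem line_eq {U₁ U₂ : Subgroup V} {A₁ B₁ A₂ B₂ : Subgroup L} (hU₁ : IsLine V n U₁ A₁ B₁)
    (hU₂ : IsLine V n U₂ A₂ B₂) {D : Subgroup L} (hD : Mem V n D) (h1 : U₁ ≤ cv V (D : Set L))
    (h2 : U₂ ≤ cv V (D : Set L)) : U₁ = U₂ := by
  classical
  have hpos : 0 < n := by omega
  by_contra hne0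
  -- choose a pair with maximal intersection
  let S : Set ℕ := {k | ∃ (U U' : Subgroup V) (A B A' B' D : Subgroup L), IsLine V n U A B ∧
    IsLine V n U' A' B' ∧ Mem V n D ∧ U ≤ cv V (D : Set L) ∧ U' ≤ cv V (D : Set L) ∧ U ≠ U' ∧
    k = Nat.card (U ⊓ U' : Subgroup V)}
  have hSne : S.Nonempty := ⟨_, U₁, U₂, A₁, B₁, A₂, B₂, D, hU₁, hU₂, hD, h1, h2, hne0, rfl⟩
  have hSbdd : BddAbove S := by
    refine ⟨Nat.card V, ?_⟩
    rintro k ⟨U, U', A, B, A', B', D, -, -, -, -, -, -, rfl⟩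
    exact Nat.card_le_card_of_injective _ (Subgroup.subtype_injective _)
  have hmax := Nat.sSup_mem hSne hSbdd
  obtain ⟨U, U', A, B, A', B', D, hU, hU', hD, hUD, hUD', hne, hk⟩ := hmax
  clear hU₁ hU₂ h1 h2 hne0
  have hmax' : ∀ (X X' : Subgroup V) (A B A' B' D : Subgroup L), IsLine V n X A B →
      IsLine V n X' A' B' → Mem V n D → X ≤ cv V (D : Set L) → X' ≤ cv V (D : Set L) → X ≠ X' →
      Nat.card (X ⊓ X' : Subgroup V) ≤ Nat.card (U ⊓ U' : Subgroup V) := by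
    intro X X' A B A' B' D a1 a2 a3 a4 a5 a6
    rw [← hk]
    exact le_csSup hSbdd ⟨X, X', A, B, A', B', D, a1, a2, a3, a4, a5, a6, rfl⟩
  clear_value S
  set W : Subgroup V := U ⊓ U' with hW
  -- (a)
  have ha : ∀ (X : Subgroup V) (A B C : Subgroup L), IsLine V n X A B → W ≤ X → Mem V n C →
      W ≤ cv V (C : Set L) → ¬ X ≤ cv V (C : Set L) → X ⊓ cv V (C : Set L) = W := by
    intro X A B C hX hWX hC hWC hXC
    obtain ⟨E, hE, hXE, hsE⟩ := line_other hX (sy C)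
    have hY : IsLine V n (cv V (E : Set L) ⊓ cv V (C : Set L)) E C := ⟨hE, hC, hsE, rfl⟩
    have hXY : X ≠ cv V (E : Set L) ⊓ cv V (C : Set L) := fun e => hXC (by rw [e]; exact inf_le_right)
    have h1 := hmax' _ _ _ _ _ _ E hX hY hE hXE inf_le_left hXY
    have h2 : W ≤ X ⊓ (cv V (E : Set L) ⊓ cv V (C : Set L)) :=
      le_inf hWX (le_inf (hWX.trans hXE) hWC)
    have h3 : W = X ⊓ (cv V (E : Set L) ⊓ cv V (C : Set L)) := eq_of_le_of_card_ge h2 h1
    rw [h3, ← inf_assoc, inf_eq_left.2 hXE]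
  -- (b)
  have hb : ∀ (X Y : Subgroup V) (A B A' B' : Subgroup L), IsLine V n X A B → IsLine V n Y A' B' →
      W ≤ X → W ≤ Y → ∃ C : Subgroup L, Mem V n C ∧ X ≤ cv V (C : Set L) ∧ Y ≤ cv V (C : Set L) := by
    intro X Y A₃ B₃ A₄ B₄ hX hY hWX hWY
    by_contra hcon
    push Not at hcon
    have h1 : X ≤ W := by
      intro x hx
      obtain ⟨C, hC, hYC, hxC⟩ := line_cover hm h hn hY x
      have h2 : ¬ X ≤ cv V (C : Set L) := fun h3 => hcon C hC h3 hYC
      rw [← ha X _ _ C hX hWX hC (hWY.trans hYC) h2]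
      exact ⟨hx, hxC⟩
    have h2 : W = X := le_antisymm hWX h1
    have h3 : W ≤ U := inf_le_left
    have h4 : U.index = W.index := by rw [h2, line_index hm h hn hX, line_index hm h hn hU]
    have h5 : W = U := eq_of_le_of_index hm hn h3 h4.symm
    have h6 : W = U' := eq_of_le_of_index hm hn inf_le_right
      (by rw [h2, line_index hm h hn hX, line_index hm h hn hU'])
    exact hne (h5.symm.trans h6)
  -- (d)
  have hd : ∀ (X : Subgroup V) (A B C : Subgroup L), IsLine V n X A B → W ≤ X → Mem V n C →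
      W ≤ cv V (C : Set L) → ∃ E : Subgroup L, Mem V n E ∧ X ≤ cv V (E : Set L) ∧ sy E = sy C := by
    intro X A₃ B₃ C hX hWX hC hWC
    obtain ⟨a, haC, ha1⟩ := hC.ne_bot hn
    have ha2 := hm.orderOf_eq_two hC.qd haC ha1
    have haa : a * a = 1 := hm.mul_self hC.qd haC
    have hai : a⁻¹ = a := inv_eq_of_mul_eq_one_right haa
    set aX := X.map (MulDistribMulAction.toMulEquiv V a).toMonoidHom with haX
    have hXa : IsLine V n aX _ _ := line_map hm h hn hX a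
    have hWaX : W ≤ aX := by
      intro v hv
      rw [haX, mem_map_toMulEquiv, hWC hv a⁻¹ (inv_mem haC)]
      exact hWX hv
    -- it suffices to find a member normalised by `a`
    suffices hs : ∃ E : Subgroup L, Mem V n E ∧ X ≤ cv V (E : Set L) ∧ E.map (MulAut.conj a).toMonoidHom = E by
      obtain ⟨E, hE, hXE, haE⟩ := hs
      refine ⟨E, hE, hXE, ?_⟩
      have h1 : a • sy E = sy E := by rw [← sy_map hm h hn hE, haE]
      by_contra hne'
      exact ha1 (h.eq_one_of_smul_eq (fun e => hne' e.symm) (mem_sy hm h hn hC haC) h1)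
    -- a member `E` of both `X` and `aX` gives `a E` in both
    have hswap : ∀ E : Subgroup L, X ≤ cv V (E : Set L) → aX ≤ cv V (E : Set L) →
        X ≤ cv V ((E.map (MulAut.conj a).toMonoidHom : Subgroup L) : Set L) ∧
        aX ≤ cv V ((E.map (MulAut.conj a).toMonoidHom : Subgroup L) : Set L) := by
      intro E hE1 hE2
      constructor
      · intro v hv
        rw [Mem.mem_cv_map]
        apply hE2
        rw [haX, mem_map_toMulEquiv, smul_smul, hai, haa, one_smul]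
        exact hv
      · intro v hv
        rw [Mem.mem_cv_map]
        apply hE1
        rwa [haX, mem_map_toMulEquiv] at hv
    by_cases hXX : aX = X
    · -- a vector outside `X` fixed modulo `X`
      obtain ⟨v, hvX, hdv⟩ : ∃ v, v ∉ X ∧ d a v ∈ X := by
        by_cases hall : ∀ w : V, d a w ∈ X
        · obtain ⟨v, hv⟩ : ∃ v, v ∉ X := by
            by_contra hcon
            push Not at hcon
            have h1 : X = ⊤ := eq_top_iff.2 (fun v _ => hcon v)
            have h2 := line_index hm h hn hX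
            rw [h1, index_top] at h2
            have : n ≤ n * n := Nat.le_mul_self n
            omega
          exact ⟨v, hv, hall v⟩
        · push Not at hall
          obtain ⟨w, hw⟩ := hall
          refine ⟨d a w, hw, ?_⟩
          have : d a (d a w) = 1 := by rw [hm.d_eq_one_iff]; exact hm.d_self ha2 w
          rw [this]; exact one_mem X
      obtain ⟨E, hE, hXE, hvE⟩ := line_cover hm h hn hX v
      refine ⟨E, hE, hXE, ?_⟩
      by_contra hne'
      obtain ⟨h1, -⟩ := hswap E hXE (by rw [hXX]; exact hXE)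
      have h2 := (line_two hm h hn hX hE hXE (hE.map a) h1 (fun e => hne' e.symm)).2
      have h3 : a • v ∈ X := by
        rw [← h2]
        constructor
        · rw [hm.smul_eq a v]
          exact mul_mem (hXE hdv) hvE
        · refine Mem.mem_cv_map.2 ?_
          rw [inv_smul_smul]
          exact hvE
      apply hvX
      rw [← hXX, haX, mem_map_toMulEquiv, hai]
      exact h3
    · obtain ⟨E, hE, hXE, haXE⟩ := hb X aX _ _ _ _ hX hXa hWX hWaX
      refine ⟨E, hE, hXE, ?_⟩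
      by_contra hne'
      obtain ⟨h1, h1'⟩ := hswap E hXE haXE
      have h2 := (line_two hm h hn hX hE hXE (hE.map a) h1 (fun e => hne' e.symm)).2
      have h3 := (line_two hm h hn hXa hE haXE (hE.map a) h1' (fun e => hne' e.symm)).2
      exact hXX (h3.symm.trans h2)
  -- (c): the line `U` as a line through `D`
  have hWU : W ≤ U := inf_le_left
  have hWU' : W ≤ U' := inf_le_right
  obtain ⟨B₅, hB₅, hUB₅, hsB₅⟩ := line_other hU (sy D)
  have hDB : IsLine V n U D B₅ := ⟨hD, hB₅, fun e => hsB₅ e.symm,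
    ((line_two hm h hn hU hD hUD hB₅ hUB₅ (fun e => hsB₅ (by rw [e]))).2).symm⟩
  -- `B₆`: a member of `U'`, opposite to `D` and to `B₅`
  obtain ⟨B₇, hB₇, hUB₇, hsB₇⟩ := line_other hU' (sy D)
  have hDB7 : IsLine V n U' D B₇ := ⟨hD, hB₇, fun e => hsB₇ e.symm,
    ((line_two hm h hn hU' hD hUD' hB₇ hUB₇ (fun e => hsB₇ (by rw [e]))).2).symm⟩
  obtain ⟨B₆, hB₆, hUB₆, hsB₆, hsB₆'⟩ : ∃ B₆ : Subgroup L, Mem V n B₆ ∧ U' ≤ cv V (B₆ : Set L) ∧ sy B₆ ≠ sy D ∧
      sy B₆ ≠ sy B₅ := by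
    by_cases h1 : sy B₇ = sy B₅
    · obtain ⟨a, haD, ha1⟩ := hD.ne_bot hn
      have h2 : InLine D B₇ (B₇.map (MulAut.conj a).toMonoidHom) := Or.inr ⟨a, haD, rfl⟩
      obtain ⟨h3, h4⟩ := inLine_mem hD hB₇ h2
      have h5 : a • sy B₇ ≠ sy B₇ := fun e =>
        ha1 (h.eq_one_of_smul_eq (fun e' => hsB₇ e'.symm) (mem_sy hm h hn hD haD) e)
      refine ⟨_, h3, ?_, ?_, ?_⟩
      · rw [hDB7.2.2.2]; exact h4
      · rw [sy_map hm h hn hB₇]
        intro e
        apply hsB₇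
        have h6 : a⁻¹ • sy D = sy D :=
          Sylow.smul_eq_iff_mem_normalizer.2 (le_normalizer (inv_mem (mem_sy hm h hn hD haD)))
        rw [← h6, ← e, inv_smul_smul]
      · rw [sy_map hm h hn hB₇, ← h1]
        exact h5
    · exact ⟨B₇, hB₇, hUB₇, hsB₇, h1⟩
  set X : Subgroup V := cv V (B₅ : Set L) ⊓ cv V (B₆ : Set L) with hX
  have hXl : IsLine V n X B₅ B₆ := ⟨hB₅, hB₆, fun e => hsB₆' e.symm, rfl⟩
  have hWX : W ≤ X := le_inf (hWU.trans hUB₅) (hWU'.trans hUB₆)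
  have hXD : ¬ X ≤ cv V (D : Set L) := by
    intro hXD
    have h1 : cv V (D : Set L) ⊓ cv V (B₅ : Set L) = X :=
      (line_two hm h hn hXl hD hXD hB₅ inf_le_left (fun e => hsB₅ (by rw [e]))).2
    have h2 : cv V (D : Set L) ⊓ cv V (B₆ : Set L) = X :=
      (line_two hm h hn hXl hD hXD hB₆ inf_le_right (fun e => hsB₆ (by rw [e]))).2
    have h3 : cv V (D : Set L) ⊓ cv V (B₆ : Set L) = U' :=
      (line_two hm h hn hU' hD hUD' hB₆ hUB₆ (fun e => hsB₆ (by rw [e]))).2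
    apply hne
    rw [hDB.2.2.2, h1, ← h2, h3]
  -- a member of `X` in the Sylow subgroup of `D`
  obtain ⟨C, hC, hXC, hsC⟩ := hd X _ _ D hXl hWX hD (hWU.trans hUD)
  have hCD : C ≠ D := fun e => hXD (by rw [← e]; exact hXC)
  apply hCD
  refine (eq_of_le_of_card_ge ?_ (by rw [hC.card, hD.card]) : C = D)
  intro c hc
  -- the Sylow `c P₅ c⁻¹`
  have hcB : Mem V n (B₅.map (MulAut.conj c).toMonoidHom) := hB₅.map c
  have hWcB : W ≤ cv V ((B₅.map (MulAut.conj c).toMonoidHom : Subgroup L) : Set L) := by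
    intro v hv
    rw [Mem.mem_cv_map, (hWX.trans hXC) hv c⁻¹ (inv_mem hc)]
    exact (hWU.trans hUB₅) hv
  obtain ⟨E, hE, hUE, hsE⟩ := hd U _ _ _ hDB hWU hcB hWcB
  rw [sy_map hm h hn hB₅] at hsE
  have hcP : c ∈ (sy D : Subgroup L) := by rw [← hsC]; exact mem_sy hm h hn hC hc
  rcases mem_line hm h hn hDB hE hUE with rfl | ⟨a, haD, rfl⟩
  · exfalso
    apply hsB₅
    have h6 : c⁻¹ • sy E = sy E :=
      Sylow.smul_eq_iff_mem_normalizer.2 (le_normalizer (inv_mem hcP))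
    rw [← h6, hsE, inv_smul_smul]
  · rw [sy_map hm h hn hB₅] at hsE
    have h1 : (a⁻¹ * c) • sy B₅ = sy B₅ := by rw [mul_smul, ← hsE, inv_smul_smul]
    have h2 : a⁻¹ * c = 1 := h.eq_one_of_smul_eq (fun e => hsB₅ e.symm)
      (mul_mem (inv_mem (mem_sy hm h hn hD haD)) hcP) h1
    have h3 : a = c := by rwa [inv_mul_eq_one] at h2
    rw [← h3]
    exact haD

end

/-- Conclusion of the theorem on offenders. -/
structure Concl (V : Type*) [Group V] [MulDistribMulAction L V] (P : Sylow 2 L) : Prop where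
  qd : Qd V (P : Subgroup L)
  idx : (cv V ((P : Subgroup L) : Set L)).index = Nat.card P
  fix : ∀ a ∈ (P : Subgroup L), a ≠ 1 → ∀ v : V, a • v = v → v ∈ cv V ((P : Subgroup L) : Set L)
  sylow : ∀ P' : Sylow 2 L, P' ≠ P → ∀ R : Sylow 2 L, R = P ∨ ∃ a ∈ (P : Subgroup L), R = a • P'
  idx2 : ∀ P' : Sylow 2 L, P' ≠ P →
    (cv V ((P : Subgroup L) : Set L) ⊓ cv V ((P' : Subgroup L) : Set L)).index = Nat.card P * Nat.card P
  opp : ∀ a ∈ (P : Subgroup L), a ≠ 1 → ∀ v : V,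
    (∀ R : Sylow 2 L, R ≠ P → d a v ∈ cv V ((R : Subgroup L) : Set L)) → a • v = v

/-- **Main theorem**: a quadratic offender is a Sylow 2-subgroup. -/
theorem main [Finite L] [Finite V] (hm : Mod L V) (h : TI L) {A : Subgroup L} (hA : Qd V A) (hA1 : A ≠ ⊥)
    (hoff : (cv V (A : Set L)).index ≤ Nat.card A) {P : Sylow 2 L} (hAP : A ≤ P) :
    A = P ∧ Concl V P := by
  have hAm := offender_mem hm h hA hA1 hoff
  set n := Nat.card A with hn_def
  have hn : 2 ≤ n := by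
    have := (one_lt_card_iff_ne_bot A).2 hA1
    omega
  obtain ⟨a₀, ha₀, ha₀1⟩ := hAm.ne_bot hn
  have hsA : sy A = P := (sy_eq hm h hn hAm ha₀ ha₀1 (hAP ha₀)).symm
  -- every Sylow subgroup contains a member
  have hex : ∀ R : Sylow 2 L, ∃ B : Subgroup L, Mem V n B ∧ sy B = R := by
    intro R
    obtain ⟨g, rfl⟩ := MulAction.exists_smul_eq L (sy A) R
    exact ⟨_, hAm.map g, sy_map hm h hn hAm g⟩
  -- all members are on every line through `A`
  have hall : ∀ B C : Subgroup L, Mem V n B → Mem V n C → sy B ≠ sy A →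
      cv V (A : Set L) ⊓ cv V (B : Set L) ≤ cv V (C : Set L) := by
    intro B C hB hC hBA
    have hl : IsLine V n (cv V (A : Set L) ⊓ cv V (B : Set L)) A B := ⟨hAm, hB, fun e => hBA e.symm, rfl⟩
    by_cases h1 : sy C = sy A
    · have hl' : IsLine V n (cv V (C : Set L) ⊓ cv V (B : Set L)) C B :=
        ⟨hC, hB, fun e => hBA (e.symm.trans h1), rfl⟩
      rw [line_eq hm h hn hl hl' hB inf_le_right inf_le_right]
      exact inf_le_left
    · have hl' : IsLine V n (cv V (A : Set L) ⊓ cv V (C : Set L)) A C :=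
        ⟨hAm, hC, fun e => h1 e.symm, rfl⟩
      rw [line_eq hm h hn hl hl' hAm inf_le_left inf_le_left]
      exact inf_le_right
  have hPA : ∀ x ∈ (P : Subgroup L), x ∈ A := by
    intro x hx
    obtain ⟨P', hP'⟩ : ∃ P' : Sylow 2 L, P' ≠ P := by
      obtain ⟨Q, Q', hQ⟩ := h.two
      by_cases h1 : Q = P
      · exact ⟨Q', fun e => hQ (h1.trans e.symm)⟩
      · exact ⟨Q, h1⟩
    obtain ⟨B, hB, hsB⟩ := hex P'
    have hBA : sy B ≠ sy A := by rw [hsB, hsA]; exact hP'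
    have hl : IsLine V n (cv V (A : Set L) ⊓ cv V (B : Set L)) A B := ⟨hAm, hB, fun e => hBA e.symm, rfl⟩
    have h2 := mem_line hm h hn hl (hB.map x) (hall B _ hB (hB.map x) hBA)
    rcases h2 with h2 | ⟨a, ha, h2⟩
    · exfalso
      have h3 : x • sy B = sy A := by rw [← sy_map hm h hn hB, h2]
      apply hBA
      have h4 : x⁻¹ • sy A = sy A :=
        Sylow.smul_eq_iff_mem_normalizer.2 (le_normalizer (inv_mem (by rw [hsA]; exact hx)))
      rw [← h4, ← h3, inv_smul_smul]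
    · have h3 : x • sy B = a • sy B := by rw [← sy_map hm h hn hB, h2, sy_map hm h hn hB]
      have h4 : (a⁻¹ * x) • sy B = sy B := by rw [mul_smul, h3, inv_smul_smul]
      have h5 : a⁻¹ * x = 1 := h.eq_one_of_smul_eq (fun e => hBA e.symm)
        (mul_mem (inv_mem (mem_sy hm h hn hAm ha)) (by rw [hsA]; exact hx)) h4
      have h6 : a = x := by rwa [inv_mul_eq_one] at h5
      rw [← h6]; exact ha
  have hAeq : A = P := le_antisymm hAP hPA
  -- every Sylow subgroup is a member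
  have hsyl : ∀ B : Subgroup L, Mem V n B → B = (sy B : Subgroup L) := by
    intro B hB
    obtain ⟨g, hg⟩ := MulAction.exists_smul_eq L (sy B) P
    refine eq_of_le_of_card_ge (fun x hx => mem_sy hm h hn hB hx) ?_
    rw [hB.card, hn_def, hAeq, ← hg]
    exact (Nat.card_congr ((sy B).equivSMul g).toEquiv).le
  have hPm : Mem V n (P : Subgroup L) := by rw [← hAeq]; exact hAm
  have hsyP : ∀ R : Sylow 2 L, Mem V n (R : Subgroup L) ∧ sy (R : Subgroup L) = R := by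
    intro R
    obtain ⟨B, hB, hsB⟩ := hex R
    have h1 := hsyl B hB
    rw [hsB] at h1
    rw [← h1]
    exact ⟨hB, hsB⟩
  have hcardP : Nat.card P = n := hPm.card
  have hsyl2 : ∀ P' : Sylow 2 L, P' ≠ P → ∀ R : Sylow 2 L, R = P ∨ ∃ a ∈ (P : Subgroup L), R = a • P' := by
    intro P' hP' R
    have hBA : sy (P' : Subgroup L) ≠ sy A := by rw [(hsyP P').2, hsA]; exact hP'
    have hl : IsLine V n (cv V (A : Set L) ⊓ cv V ((P' : Subgroup L) : Set L)) A P' :=
      ⟨hAm, (hsyP P').1, fun e => hBA e.symm, rfl⟩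
    rcases mem_line hm h hn hl (hsyP R).1 (hall _ _ (hsyP P').1 (hsyP R).1 hBA) with h1 | ⟨a, ha, h1⟩
    · left
      rw [← (hsyP R).2, h1, hsA]
    · right
      refine ⟨a, by rw [← hAeq]; exact ha, ?_⟩
      rw [← (hsyP R).2, h1, sy_map hm h hn (hsyP P').1, (hsyP P').2]
  refine ⟨hAeq, ⟨hPm.qd, by rw [hPm.idx, hcardP], fun a ha ha1 v hv => hPm.eq_of_smul_eq ha ha1 hv,
    hsyl2, ?_, ?_⟩⟩
  · intro P' hP'
    rw [hcardP]
    exact (index_inf hm h hn hPm (hsyP P').1 (by rw [(hsyP P).2, (hsyP P').2]; exact hP'.symm)).1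
  · intro a ha ha1 v hv
    obtain ⟨P', hP'⟩ : ∃ P' : Sylow 2 L, P' ≠ P := by
      obtain ⟨Q, Q', hQ⟩ := h.two
      by_cases h1 : Q = P
      · exact ⟨Q', fun e => hQ (h1.trans e.symm)⟩
      · exact ⟨Q, h1⟩
    have hPP' : sy (P : Subgroup L) ≠ sy (P' : Subgroup L) := by
      rw [(hsyP P).2, (hsyP P').2]; exact hP'.symm
    rcases cover hm h hn hPm (hsyP P').1 hPP' v with h1 | ⟨b, hb, h1⟩
    · exact h1 a ha
    · have hbP : b • P' ≠ P := by
        intro e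
        apply hP'
        have h4 : b⁻¹ • P = P := Sylow.smul_eq_iff_mem_normalizer.2 (le_normalizer (inv_mem hb))
        rw [← h4, ← e, inv_smul_smul]
      have hRm := (hsyP (b • P')).1
      refine claim2 hm h hn hPm hRm (by rw [(hsyP P).2, (hsyP (b • P')).2]; exact hbP.symm) ha ha1 ?_
        (hv _ hbP)
      rw [coe_smul_sylow, Mem.mem_cv_map]
      exact h1

end Cfsg.Agent.H305.FF
end

-- part: H305/EssFF
section
/-!
# Essential subgroups: the action of `N_G(V)` on `V = Ω₁(E)`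

The automizer of `V` has TI Sylow 2-subgroups; quadratic offenders.
-/

set_option autoImplicit false

namespace Cfsg.Agent.H305.Ess

open Subgroup Cfsg.Agent.Lib.GoldschmidtFusion Cfsg.Agent.H305.FF
open Cfsg.Agent.ClassTwoFusion.Quad (cv mem_cv mem_cv_singleton cv_anti d cv_sup mem_smul_sylow
  coe_smul_sylow)
open scoped Pointwise commutatorElement

variable {G : Type*} [Group G]

/-- the normalizer of `Ω₁(E)` -/
abbrev NV (E : Subgroup G) : Subgroup G := normalizer (om E : Set G)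

/-- the automizer of `Ω₁(E)` -/
abbrev LL (E : Subgroup G) : Subgroup (MulAut (om E)) := (om E).normalizerMonoidHom.range

/-- the action -/
def rho (E : Subgroup G) : NV E →* LL E := (om E).normalizerMonoidHom.rangeRestrict

theorem rho_surj (E : Subgroup G) : Function.Surjective (rho E) :=
  (om E).normalizerMonoidHom.rangeRestrict_surjective

theorem coe_smul {E : Subgroup G} (k : NV E) (v : om E) :
    ((rho E k • v : om E) : G) = (k : G) * v * (k : G)⁻¹ := rfl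

theorem rho_eq_one {E : Subgroup G} {k : NV E} : rho E k = 1 ↔ (k : G) ∈ centralizer (om E : Set G) := by
  rw [mem_centralizer_iff]
  constructor
  · intro h v hv
    have h1 : ((rho E k • (⟨v, hv⟩ : om E) : om E) : G) = v := by rw [h, one_smul]
    rw [coe_smul, mul_inv_eq_iff_eq_mul] at h1
    exact h1.symm
  · intro h
    apply Subtype.ext
    apply MulEquiv.ext
    intro v
    apply Subtype.ext
    change ((rho E k • v : om E) : G) = v
    rw [coe_smul, mul_inv_eq_iff_eq_mul]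
    exact (h v v.2).symm

theorem rho_eq {E : Subgroup G} {k l : NV E} : rho E k = rho E l ↔ (l : G)⁻¹ * k ∈ centralizer (om E : Set G) := by
  rw [← coe_inv, ← coe_mul, ← rho_eq_one, map_mul, map_inv, inv_mul_eq_one, eq_comm]

theorem mod {E : Subgroup G} (hcomm : ∀ x ∈ E, ∀ y ∈ E, x * y = y * x) : _root_.Cfsg.Agent.H305.FF.Mod (LL E) (om E) := by
  refine ⟨fun v w => Subtype.ext (hcomm v (om_le E v.2) w (om_le E w.2)),
    fun v => Subtype.ext ((mem_om hcomm).1 v.2).2, fun x hx => ?_⟩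
  apply Subtype.ext
  apply MulEquiv.ext
  exact hx

section

variable [Finite G] (hAI : AI G) {S : Sylow 2 G} {E : Subgroup G} (hE : IsE S E)
include hAI hE

namespace IsE

omit hAI hE in
/-- a Sylow 2-subgroup of `N_G(V)` contains `V` -/
theorem om_le_sylow (hE : IsE S E) (T : Sylow 2 (NV E)) {v : G} (hv : v ∈ om E) :
    (⟨v, le_normalizer hv⟩ : NV E) ∈ (T : Subgroup (NV E)) := by
  have : Fact (Nat.Prime 2) := ⟨Nat.prime_two⟩
  have hn : ((om E).subgroupOf (NV E)).Normal := by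
    refine ⟨fun x hx g => ?_⟩
    exact mem_subgroupOf.2 (conj_mem_of_norm g.2 (mem_subgroupOf.1 hx))
  have hp : IsPGroup 2 ((om E).subgroupOf (NV E)) := (hE.isPGroup.to_le (om_le E)).comap_subtype
  have h1 := hp.to_sup_of_normal_left T.isPGroup'
  have h2 : ((om E).subgroupOf (NV E)) ⊔ T = T := T.is_maximal' h1 le_sup_right
  have h3 : (⟨v, le_normalizer hv⟩ : NV E) ∈ ((om E).subgroupOf (NV E)) ⊔ T :=
    mem_sup_left (mem_subgroupOf.2 hv)
  rwa [h2] at h3

omit hE in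
/-- Sylow 2-subgroups of `N_G(V)` sharing an element outside `C_G(V)` are equal. -/
theorem sylow_eq (hE : IsE S E) {T T' : Sylow 2 (NV E)} {x : NV E} (hx : x ∈ (T : Subgroup (NV E)))
    (hx' : x ∈ (T' : Subgroup (NV E))) (hxV : (x : G) ∉ centralizer (om E : Set G)) : T = T' := by
  have : Fact (Nat.Prime 2) := ⟨Nat.prime_two⟩
  obtain ⟨v, hv, hxv⟩ : ∃ v ∈ om E, v * (x : G) ≠ x * v := by
    by_contra hcon
    push Not at hcon
    exact hxV (mem_centralizer_iff.2 hcon)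
  obtain ⟨S₁, hS₁⟩ := (T.isPGroup'.map (NV E).subtype).exists_le_sylow
  obtain ⟨S₂, hS₂⟩ := (T'.isPGroup'.map (NV E).subtype).exists_le_sylow
  have h12 : S₁ = S₂ := hAI S₁ S₂ v x (hS₁ ⟨_, hE.om_le_sylow T hv, rfl⟩)
    (hS₂ ⟨_, hE.om_le_sylow T' hv, rfl⟩) (hS₁ ⟨x, hx, rfl⟩) (hS₂ ⟨x, hx', rfl⟩) hxv
  have key : ∀ T : Sylow 2 (NV E), T.map (NV E).subtype ≤ S₁ →
      (S₁ : Subgroup G).subgroupOf (NV E) = (T : Subgroup (NV E)) := by
    intro T hT
    exact T.is_maximal' S₁.isPGroup'.comap_subtype (fun y hy => mem_subgroupOf.2 (hT ⟨y, hy, rfl⟩))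
  apply Sylow.ext
  rw [← key T hS₁, ← key T' (by rw [h12]; exact hS₂)]

/-- **TI** -/
theorem ti (P Q : Sylow 2 (LL E)) (x : LL E) (hxP : x ∈ (P : Subgroup (LL E))) (hxQ : x ∈ (Q : Subgroup (LL E)))
    (hx1 : x ≠ 1) : P = Q := by
  have : Fact (Nat.Prime 2) := ⟨Nat.prime_two⟩
  obtain ⟨T₁, rfl⟩ := Sylow.mapSurjective_surjective (rho_surj E) 2 P
  obtain ⟨T₂, rfl⟩ := Sylow.mapSurjective_surjective (rho_surj E) 2 Q
  rw [Sylow.coe_mapSurjective] at hxP hxQ
  obtain ⟨k, hk, rfl⟩ := hxP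
  set M₁ : Subgroup (NV E) := ((T₂ : Subgroup (NV E)).map (rho E)).comap (rho E) with hM₁
  have hT₂M : (T₂ : Subgroup (NV E)) ≤ M₁ := le_comap_map _ _
  have hkp : IsPGroup 2 (zpowers k) := T₁.isPGroup'.to_le (by rw [zpowers_le]; exact hk)
  obtain ⟨c, hc, hck⟩ := Cfsg.Agent.TwoFusion.SylowConj.exists_conj_le_of_sylow_le T₂ M₁ (zpowers k)
    hT₂M hkp (by rw [zpowers_le]; exact hxQ)
  have h1 : k ∈ ((c⁻¹ • T₂ : Sylow 2 (NV E)) : Subgroup (NV E)) := by
    rw [mem_smul, inv_inv]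
    exact hck k (mem_zpowers k)
  have h2 : T₁ = c⁻¹ • T₂ := hE.sylow_eq hAI hk h1 (fun h => hx1 (rho_eq_one.2 h))
  rw [h2]
  -- `ρ(c)` normalizes `ρ(T₂)`
  have h3 : rho E c ∈ (T₂ : Subgroup (NV E)).map (rho E) := hc
  apply Sylow.ext
  rw [Sylow.coe_mapSurjective, Sylow.coe_mapSurjective]
  ext y
  constructor
  · rintro ⟨z, hz, rfl⟩
    have hz' : c⁻¹⁻¹ * z * c⁻¹ ∈ (T₂ : Subgroup (NV E)) := mem_smul.1 hz
    rw [inv_inv] at hz'
    have e : rho E z = (rho E c)⁻¹ * rho E (c * z * c⁻¹) * rho E c := by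
      rw [← map_inv, ← map_mul, ← map_mul]
      congr 1
      group
    rw [e]
    exact mul_mem (mul_mem (inv_mem h3) ⟨_, hz', rfl⟩) h3
  · rintro ⟨z, hz, rfl⟩
    have h4 : rho E c * rho E z * (rho E c)⁻¹ ∈ (T₂ : Subgroup (NV E)).map (rho E) :=
      mul_mem (mul_mem h3 ⟨z, hz, rfl⟩) (inv_mem h3)
    obtain ⟨w, hw, hwe⟩ := h4
    refine ⟨c⁻¹ * w * c, ?_, ?_⟩
    · refine mem_smul.2 ?_
      have e : c⁻¹⁻¹ * (c⁻¹ * w * c) * c⁻¹ = w := by group
      rw [e]
      exact hw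
    · rw [map_mul, map_mul, hwe, map_inv]
      group

/-- `N_S(V)` as a Sylow 2-subgroup of `N_G(V)` -/
noncomputable def TS : Sylow 2 (NV E) where
  toSubgroup := (S : Subgroup G).subgroupOf (NV E)
  isPGroup' := S.isPGroup'.comap_subtype
  is_maximal' := by
    intro R hR hle
    apply le_antisymm _ hle
    intro r hr
    rw [mem_subgroupOf]
    have h1 : R.map (NV E).subtype ≤ S := by
      obtain ⟨t, htS, htE, htN⟩ := hE.exists_t
      obtain ⟨e, he, hte⟩ := hE.exists_noncomm htS htE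
      exact le_of_noncomm hAI (hR.map _) htS (hE.le he)
        ⟨⟨t, norm_om htN⟩, hle (mem_subgroupOf.2 htS), rfl⟩
        ⟨⟨e, norm_om (le_normalizer he)⟩, hle (mem_subgroupOf.2 (hE.le he)), rfl⟩ hte
    exact h1 ⟨r, hr, rfl⟩

theorem mem_TS {x : NV E} : x ∈ (hE.TS hAI : Subgroup (NV E)) ↔ (x : G) ∈ (S : Subgroup G) := Iff.rfl

/-- its image in the automizer -/
noncomputable def P0 : Sylow 2 (LL E) := (hE.TS hAI).mapSurjective (rho_surj E)

theorem mem_P0 {x : LL E} : x ∈ (hE.P0 hAI : Subgroup (LL E)) ↔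
    ∃ t : NV E, (t : G) ∈ (S : Subgroup G) ∧ rho E t = x := by
  constructor
  · rintro ⟨t, ht, rfl⟩
    exact ⟨t, ht, rfl⟩
  · rintro ⟨t, ht, rfl⟩
    exact ⟨t, ht, rfl⟩

theorem smul_ne {g : G} (hg : g ∈ NV E)
    (hgm : ∀ k ∈ centralizer (om E : Set G), k * g ∉ normalizer ((S : Subgroup G) : Set G)) :
    rho E ⟨g, hg⟩ • hE.P0 hAI ≠ hE.P0 hAI := by
  have : Fact (Nat.Prime 2) := ⟨Nat.prime_two⟩
  intro h
  -- Sylow conjugacy in the preimage of `P0`
  set M₁ : Subgroup (NV E) := (hE.P0 hAI : Subgroup (LL E)).comap (rho E) with hM₁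
  have hT₂M : (hE.TS hAI : Subgroup (NV E)) ≤ M₁ := fun x hx => (hE.mem_P0 hAI).2 ⟨x, hx, rfl⟩
  have hgT : ((⟨g, hg⟩ : NV E) • hE.TS hAI : Sylow 2 (NV E)) ≤ M₁ := by
    intro x hx
    have hx' : (⟨g, hg⟩ : NV E)⁻¹ * x * ⟨g, hg⟩ ∈ (hE.TS hAI : Subgroup (NV E)) := mem_smul.1 hx
    have h1 : rho E ((⟨g, hg⟩ : NV E)⁻¹ * x * ⟨g, hg⟩) ∈ (hE.P0 hAI : Subgroup (LL E)) :=
      (hE.mem_P0 hAI).2 ⟨_, (hE.mem_TS hAI).1 hx', rfl⟩
    rw [map_mul, map_mul, map_inv] at h1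
    have h2 : rho E x ∈ ((rho E ⟨g, hg⟩ • hE.P0 hAI : Sylow 2 (LL E)) : Subgroup (LL E)) := mem_smul.2 h1
    rw [h] at h2
    exact h2
  obtain ⟨c, hc, hck⟩ := Cfsg.Agent.TwoFusion.SylowConj.exists_conj_le_of_sylow_le (hE.TS hAI) M₁
    ((⟨g, hg⟩ : NV E) • hE.TS hAI : Sylow 2 (NV E)) hT₂M ((⟨g, hg⟩ : NV E) • hE.TS hAI).isPGroup' hgT
  obtain ⟨t, htS, htc⟩ := (hE.mem_P0 hAI).1 hc
  have hk := rho_eq.1 htc.symm
  -- `t⁻¹ c g` conjugates `N_S(E)` into `S`
  obtain ⟨s, hsS, hsE, hsN⟩ := hE.exists_t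
  obtain ⟨e, he, hse⟩ := hE.exists_noncomm hsS hsE
  have key : ∀ y ∈ (S : Subgroup G), y ∈ NV E → ((t : G)⁻¹ * c * g) * y * ((t : G)⁻¹ * c * g)⁻¹ ∈ (S : Subgroup G) := by
    intro y hyS hyN
    have h1 : (⟨g, hg⟩ : NV E) * ⟨y, hyN⟩ * (⟨g, hg⟩ : NV E)⁻¹ ∈
        (((⟨g, hg⟩ : NV E) • hE.TS hAI : Sylow 2 (NV E)) : Subgroup (NV E)) := by
      rw [mem_smul]
      have e1 : (⟨g, hg⟩ : NV E)⁻¹ * ((⟨g, hg⟩ : NV E) * ⟨y, hyN⟩ * (⟨g, hg⟩ : NV E)⁻¹) * ⟨g, hg⟩ = ⟨y, hyN⟩ := by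
        group
      rw [e1]
      exact hyS
    have h2 : (c : G) * (g * y * g⁻¹) * (c : G)⁻¹ ∈ (S : Subgroup G) := hck _ h1
    have e1 : ((t : G)⁻¹ * c * g) * y * ((t : G)⁻¹ * c * g)⁻¹ = (t : G)⁻¹ * (c * (g * y * g⁻¹) * (c : G)⁻¹) * t := by
      group
    rw [e1]
    exact mul_mem (mul_mem (inv_mem htS) h2) htS
  refine hgm _ hk (norm_of_conj hAI hsS (hE.le he) hse (key s hsS (norm_om hsN))
    (key e (hE.le he) (norm_om (le_normalizer he))))

theorem tiL : TI (LL E) := by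
  refine ⟨hE.ti hAI, ?_⟩
  obtain ⟨g, hg, hgm⟩ := hE.moveV hAI
  exact ⟨_, _, hE.smul_ne hAI (norm_om hg) hgm⟩

omit hE in
theorem ff_aux (hE : IsE S E) (B : Subgroup G) (hBV : B ≤ NV E)
    (hBS : B ≤ S)
    (hq : ∀ b ∈ B, ∀ b' ∈ B, ∀ v ∈ om E, b' * (b * v * b⁻¹ * v) = (b * v * b⁻¹ * v) * b') :
    Qd (om E) ((rho E).comp (inclusion hBV)).range ∧
    cv (om E) ((((rho E).comp (inclusion hBV)).range : Subgroup (LL E)) : Set (LL E)) =
      (centralizer (B : Set G)).subgroupOf (om E) ∧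
    Nat.card ((rho E).comp (inclusion hBV)).range = E.relIndex B := by
  refine ⟨?_, ?_, ?_⟩
  · rintro _ ⟨x, rfl⟩ _ ⟨y, rfl⟩ v
    apply Subtype.ext
    have e1 : (((rho E).comp (inclusion hBV)) y • d (((rho E).comp (inclusion hBV)) x) v : om E) =
        ((y : G) * (x * v * (x : G)⁻¹ * v) * (y : G)⁻¹ : G) := rfl
    have e2 : ((d (((rho E).comp (inclusion hBV)) x) v : om E) : G) = x * v * (x : G)⁻¹ * v := rfl
    rw [e1, e2, mul_inv_eq_iff_eq_mul]
    exact hq x x.2 y y.2 v v.2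
  · ext v
    rw [mem_subgroupOf, mem_centralizer_iff]
    constructor
    · intro h b hb
      have h1 := congrArg Subtype.val (h _ ⟨⟨b, hb⟩, rfl⟩)
      have e1 : ((((rho E).comp (inclusion hBV)) ⟨b, hb⟩ • v : om E) : G) = b * v * b⁻¹ := rfl
      rw [e1, mul_inv_eq_iff_eq_mul] at h1
      exact h1
    · rintro h _ ⟨b, rfl⟩
      apply Subtype.ext
      have e1 : ((((rho E).comp (inclusion hBV)) b • v : om E) : G) = b * v * (b : G)⁻¹ := rfl
      rw [e1, mul_inv_eq_iff_eq_mul]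
      exact h b b.2
  · rw [← index_ker]
    have : ((rho E).comp (inclusion hBV)).ker = E.subgroupOf B := by
      ext b
      rw [MonoidHom.mem_ker, mem_subgroupOf]
      change rho E (inclusion hBV b) = 1 ↔ _
      rw [rho_eq_one]
      constructor
      · intro h
        exact hE.centV hAI (hBS b.2) (fun v hv => (mem_centralizer_iff.1 h v hv).symm)
      · intro h
        exact mem_centralizer_iff.2 (fun v hv => hE.comm v (om_le E hv) b h)
    rw [this]
    rfl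

/-- **Quadratic offenders.** -/
theorem ff (B : Subgroup G) (hBV : B ≤ NV E) (hBS : B ≤ S) {b₀ : G} (hb₀ : b₀ ∈ B) (hb₀E : b₀ ∉ E)
    (hq : ∀ b ∈ B, ∀ b' ∈ B, ∀ v ∈ om E, b' * (b * v * b⁻¹ * v) = (b * v * b⁻¹ * v) * b')
    (hidx : (centralizer (B : Set G)).relIndex (om E) ≤ E.relIndex B) :
    (∀ s ∈ (S : Subgroup G), s ∈ NV E → ∃ b ∈ B, b⁻¹ * s ∈ E) ∧ Concl (om E) (hE.P0 hAI) := by
  obtain ⟨h1, h2, h3⟩ := ff_aux hAI hE B hBV hBS hq
  set A := ((rho E).comp (inclusion hBV)).range with hA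
  have hA1 : A ≠ ⊥ := by
    intro h
    have h4 : rho E (inclusion hBV ⟨b₀, hb₀⟩) ∈ A := ⟨⟨b₀, hb₀⟩, rfl⟩
    rw [h, mem_bot, rho_eq_one] at h4
    exact hb₀E (hE.centV hAI (hBS hb₀) (fun v hv => (mem_centralizer_iff.1 h4 v hv).symm))
  have hAP : A ≤ hE.P0 hAI := by
    rintro _ ⟨b, rfl⟩
    exact (hE.mem_P0 hAI).2 ⟨_, hBS b.2, rfl⟩
  obtain ⟨h4, h5⟩ := FF.main (mod hE.comm) (hE.tiL hAI) h1 hA1 (by rw [h2, h3]; exact hidx) hAP
  refine ⟨?_, h5⟩
  intro s hsS hsN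
  have h6 : rho E ⟨s, hsN⟩ ∈ A := by
    rw [h4]
    exact (hE.mem_P0 hAI).2 ⟨_, hsS, rfl⟩
  obtain ⟨b, hb⟩ := h6
  refine ⟨b, b.2, ?_⟩
  have h7 : rho E (inclusion hBV b) = rho E ⟨s, hsN⟩ := hb
  have h8 := rho_eq.1 h7.symm
  exact hE.centV hAI (mul_mem (inv_mem (hBS b.2)) hsS) (fun v hv => (mem_centralizer_iff.1 h8 v hv).symm)

end IsE

end

end Cfsg.Agent.H305.Ess
end

-- part: H305/EssConcl
section
/-!
# Essential subgroups: consequences of the theorem on offenders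
-/

set_option autoImplicit false

namespace Cfsg.Agent.H305.Ess

open Subgroup Cfsg.Agent.Lib.GoldschmidtFusion Cfsg.Agent.H305.FF
open Cfsg.Agent.ClassTwoFusion.Quad (cv mem_cv mem_cv_singleton cv_anti d cv_sup mem_smul_sylow
  coe_smul_sylow)
open scoped Pointwise commutatorElement

variable {G : Type*} [Group G] [Finite G]

/-- Consequences of an offender, in terms of `G`. `T0 = N_S(E)`. -/
structure FFC (S : Sylow 2 G) (E : Subgroup G) : Prop where
  quad : ∀ t ∈ (S : Subgroup G), t ∈ normalizer (E : Set G) → ∀ v ∈ om E,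
    ∀ s ∈ (S : Subgroup G), s ∈ normalizer (E : Set G) → s * (t * v * t⁻¹ * v) = (t * v * t⁻¹ * v) * s
  fix : ∀ t ∈ (S : Subgroup G), t ∈ normalizer (E : Set G) → t ∉ E → ∀ v ∈ om E, t * v = v * t →
    ∀ s ∈ (S : Subgroup G), s ∈ normalizer (E : Set G) → s * v = v * s
  opp : ∀ t ∈ (S : Subgroup G), t ∈ normalizer (E : Set G) → t ∉ E → ∀ v ∈ om E,
    (∀ h ∈ normalizer (E : Set G), ∀ s ∈ (S : Subgroup G), s ∈ normalizer (E : Set G) →
      s * (h * (t * v * t⁻¹ * v) * h⁻¹) = (h * (t * v * t⁻¹ * v) * h⁻¹) * s) → t * v = v * t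
  idx : (centralizer (((S : Subgroup G) ⊓ normalizer (E : Set G) : Subgroup G) : Set G)).relIndex (om E) =
    E.relIndex ((S : Subgroup G) ⊓ normalizer (E : Set G))

variable (hAI : AI G) {S : Sylow 2 G} {E : Subgroup G} (hE : IsE S E)
include hAI hE

namespace IsE

/-- Frattini -/
theorem exists_cent_mul {g : G} (hg : g ∈ NV E) : ∃ k ∈ centralizer (om E : Set G), k * g ∈ normalizer (E : Set G) := by
  have : Fact (Nat.Prime 2) := ⟨Nat.prime_two⟩
  have hEC : E ≤ centralizer (om E : Set G) := fun e he =>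
    mem_centralizer_iff.2 (fun v hv => hE.comm v (om_le E hv) e he)
  obtain ⟨P₀, hP₀L, hP₀p, hEP₀, k, hk, hkP⟩ := Cfsg.Agent.TwoFusion.SylowConj.exists_pgroup_le
    (centralizer (om E : Set G)) E (E.map (MulAut.conj g).toMonoidHom) hE.isPGroup hEC
    (hE.isPGroup.map _) (by
      rintro _ ⟨e, he, rfl⟩
      change g * e * g⁻¹ ∈ _
      refine mem_centralizer_iff.2 (fun v hv => ?_)
      have h2 : g⁻¹ * v * g ∈ om E := conj_mem_of_norm' hg hv
      have h3 := hE.comm e he _ (om_le E h2)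
      calc v * (g * e * g⁻¹) = g * ((g⁻¹ * v * g) * e) * g⁻¹ := by group
        _ = g * (e * (g⁻¹ * v * g)) * g⁻¹ := by rw [h3]
        _ = g * e * g⁻¹ * v := by group)
  have h1 := hE.le_of_pgroup hAI hP₀p hEP₀ (fun q hq v hv => (mem_centralizer_iff.1 (hP₀L hq) v hv).symm)
  refine ⟨k, hk, norm_of_conj_le (fun e he => ?_)⟩
  have h2 := h1 (hkP (g * e * g⁻¹) ⟨e, he, rfl⟩)
  have e1 : k * g * e * (k * g)⁻¹ = k * (g * e * g⁻¹) * k⁻¹ := by group
  rw [e1]
  exact h2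

/-- stabilizer of the Sylow subgroup in the automizer -/
theorem stab {m : G} (hm : m ∈ NV E) (h : rho E ⟨m, hm⟩ • hE.P0 hAI = hE.P0 hAI) :
    ∀ t ∈ (S : Subgroup G), t ∈ normalizer (E : Set G) → ∃ t' ∈ (S : Subgroup G), t' ∈ normalizer (E : Set G) ∧
      t'⁻¹ * (m * t * m⁻¹) ∈ centralizer (om E : Set G) := by
  intro t htS htN
  have h1 : rho E (⟨m, hm⟩ * ⟨t, norm_om htN⟩ * ⟨m, hm⟩⁻¹) ∈ (hE.P0 hAI : Subgroup (LL E)) := by
    rw [← h, mem_smul, ← map_inv, ← map_mul, ← map_mul]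
    refine (hE.mem_P0 hAI).2 ⟨⟨t, norm_om htN⟩, htS, ?_⟩
    congr 1
    group
  obtain ⟨t', ht'S, ht'⟩ := (hE.mem_P0 hAI).1 h1
  exact ⟨t', ht'S, hE.norm_of_normV hAI ht'S t'.2, rho_eq.1 ht'.symm⟩

/-- The Sylow subgroups of the automizer. -/
theorem sylow_cases (hc : Concl (om E) (hE.P0 hAI)) {g : G} (hg : g ∈ NV E)
    (hgP : rho E ⟨g, hg⟩ • hE.P0 hAI ≠ hE.P0 hAI) {m : G} (hm : m ∈ NV E) :
    rho E ⟨m, hm⟩ • hE.P0 hAI = hE.P0 hAI ∨
    ∃ (s : G) (_ : s ∈ (S : Subgroup G)) (hs : s ∈ normalizer (E : Set G)),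
      rho E ((⟨s, norm_om hs⟩ * ⟨g, hg⟩)⁻¹ * ⟨m, hm⟩) • hE.P0 hAI = hE.P0 hAI := by
  rcases hc.sylow _ hgP (rho E ⟨m, hm⟩ • hE.P0 hAI) with h1 | ⟨a, ha, h1⟩
  · exact Or.inl h1
  · right
    obtain ⟨s, hsS, rfl⟩ := (hE.mem_P0 hAI).1 ha
    have hsN := hE.norm_of_normV hAI hsS s.2
    refine ⟨s, hsS, hsN, ?_⟩
    rw [map_mul, mul_smul, h1, ← mul_smul, ← mul_smul, ← map_mul, ← map_mul]
    have : ((⟨(s : G), norm_om hsN⟩ * ⟨g, hg⟩ : NV E)⁻¹ * s * ⟨g, hg⟩) = 1 := by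
      rw [show (⟨(s : G), norm_om hsN⟩ : NV E) = s from rfl]
      group
    rw [this, map_one, one_smul]

theorem concl_ffc (hc : Concl (om E) (hE.P0 hAI)) : FFC S E := by
  have hcent : ∀ t ∈ (S : Subgroup G), ∀ (htN : t ∈ NV E), t ∉ E → rho E ⟨t, htN⟩ ≠ 1 := by
    intro t htS htN htE h
    exact htE (hE.centV hAI htS (fun v hv => (mem_centralizer_iff.1 (rho_eq_one.1 h) v hv).symm))
  refine ⟨?_, ?_, ?_, ?_⟩
  · intro t htS htN v hv s hsS hsN
    have h1 := hc.qd _ ((hE.mem_P0 hAI).2 ⟨⟨t, norm_om htN⟩, htS, rfl⟩) _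
      ((hE.mem_P0 hAI).2 ⟨⟨s, norm_om hsN⟩, hsS, rfl⟩) (⟨v, hv⟩ : om E)
    have h2 := congrArg Subtype.val h1
    have e1 : ((rho E ⟨s, norm_om hsN⟩ • d (rho E ⟨t, norm_om htN⟩) (⟨v, hv⟩ : om E) : om E) : G) =
      s * (t * v * t⁻¹ * v) * s⁻¹ := rfl
    rw [e1, mul_inv_eq_iff_eq_mul] at h2
    exact h2
  · intro t htS htN htE v hv htv s hsS hsN
    have h1 := hc.fix _ ((hE.mem_P0 hAI).2 ⟨⟨t, norm_om htN⟩, htS, rfl⟩) (hcent t htS _ htE) (⟨v, hv⟩ : om E)
      (by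
        apply Subtype.ext
        rw [coe_smul, mul_inv_eq_iff_eq_mul]
        exact htv)
    have h2 := congrArg Subtype.val (h1 _ ((hE.mem_P0 hAI).2 ⟨⟨s, norm_om hsN⟩, hsS, rfl⟩))
    rw [coe_smul, mul_inv_eq_iff_eq_mul] at h2
    exact h2
  · intro t htS htN htE v hv H
    have h1 := hc.opp _ ((hE.mem_P0 hAI).2 ⟨⟨t, norm_om htN⟩, htS, rfl⟩) (hcent t htS _ htE) (⟨v, hv⟩ : om E) ?_
    · have h2 := congrArg Subtype.val h1
      rw [coe_smul, mul_inv_eq_iff_eq_mul] at h2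
      exact h2
    · intro R hR
      obtain ⟨l, rfl⟩ := MulAction.exists_smul_eq (LL E) (hE.P0 hAI) R
      obtain ⟨h, rfl⟩ := rho_surj E l
      intro x hx
      have hx' : (rho E h)⁻¹ * x * rho E h ∈ (hE.P0 hAI : Subgroup (LL E)) := mem_smul.1 hx
      obtain ⟨s, hsS, hsx⟩ := (hE.mem_P0 hAI).1 hx'
      have hsN := hE.norm_of_normV hAI hsS s.2
      -- replace `h⁻¹` by an element of `N(E)`
      obtain ⟨k, hk, hkh⟩ := hE.exists_cent_mul hAI (inv_mem h.2)
      have hxe : x = rho E (h * s * h⁻¹) := by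
        rw [map_mul, map_mul, map_inv, hsx]
        group
      apply Subtype.ext
      rw [hxe]
      have e1 : ((rho E (h * s * h⁻¹) • d (rho E ⟨t, norm_om htN⟩) (⟨v, hv⟩ : om E) : om E) : G) =
        (h * s * (h : G)⁻¹) * (t * v * t⁻¹ * v) * (h * s * (h : G)⁻¹)⁻¹ := rfl
      have e2 : ((d (rho E ⟨t, norm_om htN⟩) (⟨v, hv⟩ : om E) : om E) : G) = t * v * t⁻¹ * v := rfl
      rw [e1, e2, mul_inv_eq_iff_eq_mul]
      have h3 := H _ hkh s hsS hsN
      have hdV : t * v * t⁻¹ * v ∈ om E := mul_mem (conj_mem_of_norm (norm_om htN) hv) hv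
      have hdV' : (h : G)⁻¹ * (t * v * t⁻¹ * v) * h ∈ om E := conj_mem_of_norm' h.2 hdV
      have h4 : k * (h : G)⁻¹ * (t * v * t⁻¹ * v) * (k * (h : G)⁻¹)⁻¹ = (h : G)⁻¹ * (t * v * t⁻¹ * v) * h := by
        have h5 := mem_centralizer_iff.1 hk _ hdV'
        calc k * (h : G)⁻¹ * (t * v * t⁻¹ * v) * (k * (h : G)⁻¹)⁻¹ =
            (k * ((h : G)⁻¹ * (t * v * t⁻¹ * v) * h)) * k⁻¹ := by group
          _ = (((h : G)⁻¹ * (t * v * t⁻¹ * v) * h) * k) * k⁻¹ := by rw [h5]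
          _ = _ := by group
      rw [h4] at h3
      calc (h * s * (h : G)⁻¹) * (t * v * t⁻¹ * v) = h * (s * ((h : G)⁻¹ * (t * v * t⁻¹ * v) * h)) * (h : G)⁻¹ := by group
        _ = h * (((h : G)⁻¹ * (t * v * t⁻¹ * v) * h) * s) * (h : G)⁻¹ := by rw [h3]
        _ = _ := by group
  · have hle : ((S : Subgroup G) ⊓ normalizer (E : Set G)) ≤ NV E := fun x hx => norm_om hx.2
    have hq : ∀ b ∈ ((S : Subgroup G) ⊓ normalizer (E : Set G)), ∀ b' ∈ ((S : Subgroup G) ⊓ normalizer (E : Set G)),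
        ∀ v ∈ om E, b' * (b * v * b⁻¹ * v) = (b * v * b⁻¹ * v) * b' := by
      intro b hb b' hb' v hv
      have h1 := hc.qd _ ((hE.mem_P0 hAI).2 ⟨⟨b, hle hb⟩, hb.1, rfl⟩) _
        ((hE.mem_P0 hAI).2 ⟨⟨b', hle hb'⟩, hb'.1, rfl⟩) (⟨v, hv⟩ : om E)
      have h2 := congrArg Subtype.val h1
      have e1 : ((rho E ⟨b', hle hb'⟩ • d (rho E ⟨b, hle hb⟩) (⟨v, hv⟩ : om E) : om E) : G) =
        b' * (b * v * b⁻¹ * v) * b'⁻¹ := rfl
      rw [e1, mul_inv_eq_iff_eq_mul] at h2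
      exact h2
    obtain ⟨-, h2, h3⟩ := ff_aux hAI hE ((S : Subgroup G) ⊓ normalizer (E : Set G)) hle inf_le_left hq
    have h4 : ((rho E).comp (inclusion hle)).range = (hE.P0 hAI : Subgroup (LL E)) := by
      ext x
      constructor
      · rintro ⟨b, rfl⟩
        exact (hE.mem_P0 hAI).2 ⟨_, b.2.1, rfl⟩
      · intro hx
        obtain ⟨s, hsS, rfl⟩ := (hE.mem_P0 hAI).1 hx
        exact ⟨⟨s, hsS, hE.norm_of_normV hAI hsS s.2⟩, rfl⟩
    have h5 := hc.idx
    rw [h4] at h2 h3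
    rw [h2] at h5
    exact h5.trans h3

end IsE

end Cfsg.Agent.H305.Ess
end

-- part: H305/EssPair
section
/-!
# Pairs of essential subgroups normalizing each other
-/

set_option autoImplicit false

namespace Cfsg.Agent.H305.Ess

open Subgroup Cfsg.Agent.Lib.GoldschmidtFusion Cfsg.Agent.H305.FF
open scoped Pointwise commutatorElement

variable {G : Type*} [Group G]

/-- conjugate of a subgroup -/
abbrev cj (g : G) (E : Subgroup G) : Subgroup G := E.map (MulAut.conj g).toMonoidHom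

theorem mem_cj {g x : G} {E : Subgroup G} : x ∈ cj g E ↔ g⁻¹ * x * g ∈ E := mem_map_conj

theorem conj_mem_cj {g x : G} {E : Subgroup G} (hx : x ∈ E) : g * x * g⁻¹ ∈ cj g E := conj_mem_map_conj hx g

theorem cj_eq_iff {g : G} {E : Subgroup G} : cj g E = E ↔ g ∈ normalizer (E : Set G) :=
  mem_normalizer_iff_map_conj.symm

theorem card_cj (g : G) (E : Subgroup G) : Nat.card (cj g E) = Nat.card E := card_map_conj E g

theorem om_cj (g : G) (E : Subgroup G) : om (cj g E) = cj g (om E) := by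
  unfold om cj
  rw [MonoidHom.map_closure]
  congr 1
  ext x
  constructor
  · rintro ⟨⟨y, hy, rfl⟩, hx⟩
    refine ⟨y, ⟨hy, ?_⟩, rfl⟩
    have h1 : (MulAut.conj g).toMonoidHom (y * y) = 1 := by rw [map_mul]; exact hx
    exact (MulAut.conj g).injective (h1.trans (map_one _).symm)
  · rintro ⟨y, ⟨hy, hyy⟩, rfl⟩
    refine ⟨⟨y, hy, rfl⟩, ?_⟩
    rw [← map_mul, hyy, map_one]

theorem mem_norm_cj {g x : G} {E : Subgroup G} : x ∈ normalizer (cj g E : Set G) ↔
    g⁻¹ * x * g ∈ normalizer (E : Set G) := by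
  rw [← map_conj_normalizer, mem_map_conj]

theorem mem_cent_cj {g x : G} {E : Subgroup G} : x ∈ centralizer (cj g E : Set G) ↔
    g⁻¹ * x * g ∈ centralizer (E : Set G) := mem_centralizer_map_conj

theorem card_inf_mul (H K : Subgroup G) : Nat.card (H ⊓ K : Subgroup G) * H.relIndex K = Nat.card K := by
  have h := relIndex_mul_relIndex ⊥ (H ⊓ K) K bot_le inf_le_right
  rwa [relIndex_bot_left, relIndex_bot_left, inf_relIndex_right] at h

variable [Finite G] (hAI : AI G) {S : Sylow 2 G}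

/-- conjugates of essential subgroups -/
theorem IsE.conj {E : Subgroup G} (hE : IsE S E) {n : G} (hn : n ∈ normalizer ((S : Subgroup G) : Set G)) :
    IsE S (cj n E) := by
  refine ⟨?_, ?_, ?_, ?_⟩
  · rintro _ ⟨x, hx, rfl⟩
    exact conj_mem_of_norm hn (hE.le hx)
  · rintro _ ⟨x, hx, rfl⟩ _ ⟨y, hy, rfl⟩
    rw [← map_mul, ← map_mul, hE.comm x hx y hy]
  · intro x hx hxe
    rw [mem_cj]
    refine hE.cent _ (conj_mem_of_norm' hn hx) (fun e he => ?_)
    have h1 := hxe (n * e * n⁻¹) (conj_mem_cj he)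
    calc n⁻¹ * x * n * e = n⁻¹ * (x * (n * e * n⁻¹)) * n := by group
      _ = n⁻¹ * ((n * e * n⁻¹) * x) * n := by rw [h1]
      _ = e * (n⁻¹ * x * n) := by group
  · obtain ⟨g, hg, hgm⟩ := hE.move
    refine ⟨n * g * n⁻¹, ?_, ?_⟩
    · rw [mem_norm_cj]
      have e : n⁻¹ * (n * g * n⁻¹) * n = g := by group
      rw [e]; exact hg
    · intro c hc hcn
      rw [mem_cent_cj] at hc
      refine hgm _ hc ?_
      have h1 := mul_mem (mul_mem (inv_mem hn) hcn) hn
      have e : n⁻¹ * (c * (n * g * n⁻¹)) * n = n⁻¹ * c * n * g := by group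
      rw [e] at h1
      exact h1

include hAI

theorem IsE.eq_of_om_le {E₁ E₂ : Subgroup G} (h₁ : IsE S E₁) (h₂ : IsE S E₂) (h : om E₁ ≤ om E₂) : E₁ = E₂ := by
  have h1 : E₂ ≤ E₁ := by
    intro e he
    refine h₁.centV hAI (h₂.le he) (fun v hv => h₂.comm e he v (om_le E₂ (h hv)))
  refine le_antisymm ?_ h1
  intro e he
  exact h₂.cent e (h₁.le he) (fun f hf => h₁.comm e he f (h1 hf))

theorem IsE.cent_om {E₁ E₂ : Subgroup G} (h₁ : IsE S E₁) (h₂ : IsE S E₂) {x : G} (hx : x ∈ om E₂)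
    (hc : ∀ v ∈ om E₁, x * v = v * x) : x ∈ om E₁ :=
  h₁.mem_om'.2 ⟨h₁.centV hAI (h₂.le (om_le E₂ hx)) hc, (h₂.mem_om'.1 hx).2⟩

/-- `Ω₁(E₁)` is an offender on `Ω₁(E₂)`. -/
theorem pair_ff {E₁ E₂ : Subgroup G} (h₁ : IsE S E₁) (h₂ : IsE S E₂) (hne : E₁ ≠ E₂)
    (h12 : om E₁ ≤ normalizer (E₂ : Set G)) (h21 : om E₂ ≤ normalizer (E₁ : Set G))
    (hcard : Nat.card (om E₂) ≤ Nat.card (om E₁)) :
    (∀ s ∈ (S : Subgroup G), s ∈ normalizer (E₂ : Set G) → ∃ b ∈ om E₁, b⁻¹ * s ∈ E₂) ∧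
      Concl (om E₂) (h₂.P0 hAI) := by
  have hnot : ¬ om E₁ ≤ E₂ := by
    intro hle
    have h3 : om E₁ ≤ om E₂ := fun x hx => h₂.mem_om'.2 ⟨hle hx, (h₁.mem_om'.1 hx).2⟩
    exact hne (h₁.eq_of_om_le hAI h₂ h3)
  obtain ⟨b₀, hb₀, hb₀E⟩ := SetLike.not_le_iff_exists.1 hnot
  have hq : ∀ b ∈ om E₁, ∀ b' ∈ om E₁, ∀ v ∈ om E₂, b' * (b * v * b⁻¹ * v) = (b * v * b⁻¹ * v) * b' := by
    intro b hb b' hb' v hv
    have h5 : v * b⁻¹ * v⁻¹ ∈ om E₁ := conj_mem_of_norm (norm_om (h21 hv)) (inv_mem hb)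
    have hvv : v⁻¹ = v := inv_eq_of_mul_eq_one_right (h₂.mem_om'.1 hv).2
    rw [hvv] at h5
    have h6 : b * v * b⁻¹ * v ∈ om E₁ := by
      have e : b * v * b⁻¹ * v = b * (v * b⁻¹ * v) := by group
      rw [e]
      exact mul_mem hb h5
    exact h₁.comm _ (om_le E₁ hb') _ (om_le E₁ h6)
  have hidx : (centralizer (om E₁ : Set G)).relIndex (om E₂) ≤ E₂.relIndex (om E₁) := by
    have e1 : (centralizer (om E₁ : Set G)).relIndex (om E₂) = (om E₁).relIndex (om E₂) := by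
      rw [← inf_relIndex_right (centralizer (om E₁ : Set G)), ← inf_relIndex_right (om E₁)]
      congr 1
      ext x
      constructor
      · rintro ⟨hx1, hx2⟩
        exact ⟨h₁.cent_om hAI h₂ hx2 (fun v hv => (mem_centralizer_iff.1 hx1 v hv).symm), hx2⟩
      · rintro ⟨hx1, hx2⟩
        exact ⟨mem_centralizer_iff.2 (fun v hv => h₁.comm v (om_le E₁ hv) x (om_le E₁ hx1)), hx2⟩
    have e2 : E₂.relIndex (om E₁) = (om E₂).relIndex (om E₁) := by
      rw [← inf_relIndex_right E₂, ← inf_relIndex_right (om E₂)]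
      congr 1
      ext x
      constructor
      · rintro ⟨hx1, hx2⟩
        exact ⟨h₂.mem_om'.2 ⟨hx1, (h₁.mem_om'.1 hx2).2⟩, hx2⟩
      · rintro ⟨hx1, hx2⟩
        exact ⟨om_le E₂ hx1, hx2⟩
    rw [e1, e2]
    have h5 := card_inf_mul (om E₁) (om E₂)
    have h6 := card_inf_mul (om E₂) (om E₁)
    rw [inf_comm] at h6
    have hpos : 0 < Nat.card (om E₁ ⊓ om E₂ : Subgroup G) := Nat.card_pos
    rw [← h5, ← h6] at hcard
    exact Nat.le_of_mul_le_mul_left hcard hpos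
  obtain ⟨h3, h4⟩ := h₂.ff hAI (om E₁) (fun x hx => norm_om (h12 hx)) h₁.om_le_S hb₀ hb₀E hq hidx
  exact ⟨fun s hs hsN => h3 s hs (norm_om hsN), h4⟩

end Cfsg.Agent.H305.Ess
end

-- part: H305/EssNormal
section
/-!
# All essential subgroups are normal in `S`
-/

set_option autoImplicit false

namespace Cfsg.Agent.H305.Ess

open Subgroup Cfsg.Agent.Lib.GoldschmidtFusion Cfsg.Agent.H305.FF
open scoped Pointwise commutatorElement

variable {G : Type*} [Group G]

/-- class at most two -/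
def Cl2 (S : Subgroup G) : Prop :=
  ∀ a ∈ S, ∀ b ∈ S, ∀ c ∈ S, c * (a * b * a⁻¹ * b⁻¹) = (a * b * a⁻¹ * b⁻¹) * c

theorem comm_mem {S H : Subgroup G} (hH : S ≤ normalizer (H : Set G)) {a b x y : G} (hx : x ∈ S) (hy : y ∈ S)
    (hxy : x * y = y * x) (ha : x⁻¹ * a ∈ H) (hb : y⁻¹ * b ∈ H) : a * b * a⁻¹ * b⁻¹ ∈ H := by
  -- `a b = x y h₁`, `b a = y x h₂`
  have h1 : (x * y)⁻¹ * (a * b) ∈ H := by
    have e : (x * y)⁻¹ * (a * b) = (y⁻¹ * (x⁻¹ * a) * y) * (y⁻¹ * b) := by group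
    rw [e]
    exact mul_mem (conj_mem_of_norm' (hH hy) ha) hb
  have h2 : (x * y)⁻¹ * (b * a) ∈ H := by
    have e : (x * y)⁻¹ * (b * a) = (x⁻¹ * (y⁻¹ * b) * x) * (x⁻¹ * a) := by rw [hxy]; group
    rw [e]
    exact mul_mem (conj_mem_of_norm' (hH hx) hb) ha
  have h3 := mul_mem h1 (inv_mem h2)
  have h4 := conj_mem_of_norm (hH (mul_mem hx hy)) h3
  have e : x * y * ((x * y)⁻¹ * (a * b) * ((x * y)⁻¹ * (b * a))⁻¹) * (x * y)⁻¹ = a * b * a⁻¹ * b⁻¹ := by group
  rwa [e] at h4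

variable [Finite G] (hAI : AI G) {S : Sylow 2 G}
include hAI

/-- Two distinct essential subgroups normal in `S`. -/
theorem two_normal {E₁ E₂ : Subgroup G} (h₁ : IsE S E₁) (h₂ : IsE S E₂) (hne : E₁ ≠ E₂)
    (h1S : (S : Subgroup G) ≤ normalizer (E₁ : Set G)) (h2S : (S : Subgroup G) ≤ normalizer (E₂ : Set G)) :
    Cl2 (S : Subgroup G) := by
  wlog hcard : Nat.card (om E₂) ≤ Nat.card (om E₁) generalizing E₁ E₂
  · exact this h₂ h₁ hne.symm h2S h1S (not_le.1 hcard).le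
  obtain ⟨h3, -⟩ := pair_ff hAI h₁ h₂ hne (fun x hx => h2S (h₁.om_le_S hx)) (fun x hx => h1S (h₂.om_le_S hx)) hcard
  intro a ha b hb c hc
  obtain ⟨x, hx, hxa⟩ := h3 a ha (h2S ha)
  obtain ⟨y, hy, hyb⟩ := h3 b hb (h2S hb)
  have hxS := h₁.om_le_S hx
  have hyS := h₁.om_le_S hy
  have e1 : a * b * a⁻¹ * b⁻¹ ∈ E₂ := comm_mem h2S hxS hyS (h₁.comm x (om_le E₁ hx) y (om_le E₁ hy)) hxa hyb
  have hV1 : (S : Subgroup G) ≤ normalizer (om E₁ : Set G) := fun s hs => norm_om (h1S hs)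
  have e2 : a * b * a⁻¹ * b⁻¹ ∈ om E₁ := by
    -- `a = (x (x⁻¹ a) x⁻¹) x`
    have hf : x * (x⁻¹ * a) * x⁻¹ ∈ E₂ := conj_mem_of_norm (h2S hxS) hxa
    have hf' : y * (y⁻¹ * b) * y⁻¹ ∈ E₂ := conj_mem_of_norm (h2S hyS) hyb
    refine comm_mem hV1 (h₂.le hf) (h₂.le hf') (h₂.comm _ hf _ hf') ?_ ?_
    · have e : (x * (x⁻¹ * a) * x⁻¹)⁻¹ * a = x := by group
      rw [e]
      exact hx
    · have e : (y * (y⁻¹ * b) * y⁻¹)⁻¹ * b = y := by group
      rw [e]
      exact hy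
  set k := a * b * a⁻¹ * b⁻¹ with hk
  obtain ⟨z, hz, hzc⟩ := h3 c hc (h2S hc)
  have e3 : z * k = k * z := h₁.comm z (om_le E₁ hz) k (om_le E₁ e2)
  have e4 : (z⁻¹ * c) * k = k * (z⁻¹ * c) := h₂.comm _ hzc k e1
  calc c * k = z * ((z⁻¹ * c) * k) := by group
    _ = (z * k) * (z⁻¹ * c) := by rw [e4]; group
    _ = k * c := by rw [e3]; group

omit hAI in
theorem exists_om_ne {E : Subgroup G} (hE : IsE S E) : ∃ v ∈ om E, v ≠ 1 := by
  have : Fact (Nat.Prime 2) := ⟨Nat.prime_two⟩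
  have h1 : ∃ e ∈ E, e ≠ 1 := by
    by_contra hcon
    push Not at hcon
    obtain ⟨x, hx, hxE⟩ := hE.exists_not_mem
    exact hxE (hE.cent x hx (fun e he => by rw [hcon e he, mul_one, one_mul]))
  obtain ⟨e, he, he1⟩ := h1
  have hp := hE.isPGroup
  have h2 : Nat.card E ≠ 1 := by
    intro h3
    rw [Nat.card_eq_one_iff_unique] at h3
    have := h3.1
    exact he1 (congrArg Subtype.val (Subsingleton.elim (⟨e, he⟩ : E) 1))
  obtain ⟨n, hn⟩ := (IsPGroup.iff_card (p := 2)).1 hp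
  have h3 : 2 ∣ Nat.card E := by
    rw [hn]
    cases n with
    | zero => rw [hn, pow_zero] at h2; exact absurd rfl h2
    | succ n => exact dvd_pow_self 2 (Nat.succ_ne_zero n)
  obtain ⟨y, hy⟩ := exists_prime_orderOf_dvd_card' 2 h3
  refine ⟨y, ?_, ?_⟩
  · rw [hE.mem_om']
    refine ⟨y.2, ?_⟩
    have h4 := pow_orderOf_eq_one y
    rw [hy, pow_two] at h4
    exact congrArg Subtype.val h4
  · intro h4
    have : y = 1 := Subtype.ext h4
    rw [this, orderOf_one] at hy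
    omega

/-- All essential subgroups are normal in `S`. -/
theorem normal_case (hS : (S : Subgroup G) ≠ ⊥)
    (hall : ∀ E, IsE S E → (S : Subgroup G) ≤ normalizer (E : Set G)) :
    Cl2 (S : Subgroup G) ∨ ∃ A : Subgroup G, A ≠ ⊥ ∧ (∀ x ∈ A, ∀ y ∈ A, x * y = y * x) ∧
      Cfsg.IsStronglyClosed A (S : Subgroup G) := by
  have : Fact (Nat.Prime 2) := ⟨Nat.prime_two⟩
  by_cases hex : ∃ E, IsE S E
  · obtain ⟨E, hE⟩ := hex
    by_cases huniq : ∀ E', IsE S E' → E' = E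
    · right
      refine ⟨om E, ?_, ?_, ?_⟩
      · intro h
        obtain ⟨v, hv, hv1⟩ := exists_om_ne hE
        rw [h, mem_bot] at hv
        exact hv1 hv
      · exact fun x hx y hy => hE.comm x (om_le E hx) y (om_le E hy)
      · refine stronglyClosed hAI S (om E) hE.om_le_S ?_ ?_
        · intro n hn a ha
          have h1 := huniq _ (hE.conj hn)
          exact conj_mem_of_norm (norm_om (cj_eq_iff.1 h1)) ha
        · intro E' hE' g hg e he heV
          rw [huniq E' hE'] at hg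
          exact conj_mem_of_norm (norm_om hg) heV
    · left
      push Not at huniq
      obtain ⟨E', hE', hne⟩ := huniq
      exact two_normal hAI hE' hE hne (hall E' hE') (hall E hE)
  · right
    push Not at hex
    refine ⟨(center (S : Subgroup G)).map (S : Subgroup G).subtype, ?_, ?_, ?_⟩
    · intro h
      have h1 : Nontrivial (S : Subgroup G) := (nontrivial_iff_ne_bot _).2 hS
      have h2 : Nontrivial (center (S : Subgroup G)) := S.isPGroup'.center_nontrivial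
      rw [map_eq_bot_iff_of_injective _ (Subgroup.subtype_injective _)] at h
      exact (nontrivial_iff_ne_bot _).1 h2 h
    · rintro _ ⟨x, hx, rfl⟩ _ ⟨y, -, rfl⟩
      exact congrArg Subtype.val (mem_center_iff.1 hx y).symm
    · refine stronglyClosed hAI S _ (map_subtype_le _) ?_ (fun E hE => absurd hE (hex E))
      rintro n hn _ ⟨x, hx, rfl⟩
      refine ⟨⟨n * x * n⁻¹, conj_mem_of_norm hn x.2⟩, ?_, rfl⟩
      refine mem_center_iff.2 (fun s => Subtype.ext ?_)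
      have h1 := congrArg Subtype.val (mem_center_iff.1 hx ⟨n⁻¹ * s * n, conj_mem_of_norm' hn s.2⟩)
      change (s : G) * (n * x * n⁻¹) = n * x * n⁻¹ * s
      have h2 : n⁻¹ * (s : G) * n * x = x * (n⁻¹ * s * n) := h1
      calc (s : G) * (n * x * n⁻¹) = n * (n⁻¹ * s * n * x) * n⁻¹ := by group
        _ = n * (x * (n⁻¹ * s * n)) * n⁻¹ := by rw [h2]
        _ = n * x * n⁻¹ * s := by group

end Cfsg.Agent.H305.Ess
end

-- part: H305/EssNN
section
/-!
# Essential subgroups which are not normal in `S`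
-/

set_option autoImplicit false

namespace Cfsg.Agent.H305.Ess

open Subgroup Cfsg.Agent.Lib.GoldschmidtFusion Cfsg.Agent.H305.FF
open scoped Pointwise commutatorElement

variable {G : Type*} [Group G]

/-- `N_S(E)` -/
def T0 (S : Sylow 2 G) (E : Subgroup G) : Subgroup G := (S : Subgroup G) ⊓ normalizer (E : Set G)

theorem mem_T0 {S : Sylow 2 G} {E : Subgroup G} {x : G} : x ∈ T0 S E ↔ x ∈ (S : Subgroup G) ∧ x ∈ normalizer (E : Set G) :=
  Iff.rfl

/-- central elements of `T` -/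
def Cen (T : Subgroup G) (z : G) : Prop := ∀ t ∈ T, t * z = z * t

theorem Cen.mul {T : Subgroup G} {y z : G} (hy : Cen T y) (hz : Cen T z) : Cen T (y * z) := fun t ht => by
  rw [← mul_assoc, hy t ht, mul_assoc, hz t ht, mul_assoc]

theorem Cen.inv {T : Subgroup G} {y : G} (hy : Cen T y) : Cen T y⁻¹ := fun t ht => by
  rw [eq_inv_mul_iff_mul_eq, ← mul_assoc, mul_inv_eq_iff_eq_mul, hy t ht]

theorem Cen.one (T : Subgroup G) : Cen T (1 : G) := fun t _ => by rw [mul_one, one_mul]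

/-- a non-normal essential subgroup and an element of `N_S(N_S(E)) ∖ N_S(E)` -/
structure NN (S : Sylow 2 G) (E : Subgroup G) (x : G) : Prop where
  hE : IsE S E
  xS : x ∈ (S : Subgroup G)
  xE : x ∉ normalizer (E : Set G)
  xT : x ∈ normalizer (T0 S E : Set G)

/-- a subgroup contained in a union of two subgroups is contained in one of them -/
theorem le_or_le {A B C : Subgroup G} (h : ∀ x ∈ A, x ∈ B ∨ x ∈ C) : A ≤ B ∨ A ≤ C := by
  by_contra hcon
  push Not at hcon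
  obtain ⟨h1, h2⟩ := hcon
  obtain ⟨b, hbA, hb⟩ := SetLike.not_le_iff_exists.1 h1
  obtain ⟨c, hcA, hc⟩ := SetLike.not_le_iff_exists.1 h2
  have hbC := (h b hbA).resolve_left hb
  have hcB := (h c hcA).resolve_right hc
  rcases h (b * c) (mul_mem hbA hcA) with h3 | h3
  · exact hb (by have := mul_mem h3 (inv_mem hcB); rwa [mul_inv_cancel_right] at this)
  · exact hc (by have := mul_mem (inv_mem hbC) h3; rwa [inv_mul_cancel_left] at this)

variable [Finite G] (hAI : AI G) {S : Sylow 2 G}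

theorem exists_NN {E : Subgroup G} (hE : IsE S E) (h : ¬ (S : Subgroup G) ≤ normalizer (E : Set G)) :
    ∃ x, NN S E x := by
  obtain ⟨y, hyS, hy⟩ := SetLike.not_le_iff_exists.1 h
  obtain ⟨x, hxS, hxT, hxN⟩ := exists_norm (H := T0 S E) S.isPGroup' inf_le_left hyS (fun h => hy h.2)
  exact ⟨x, hE, hxS, fun h => hxT ⟨hxS, h⟩, hxN⟩

namespace NN

variable {E : Subgroup G} {x : G} (h : NN S E x)
include h

theorem hE' : IsE S (cj x E) := h.hE.conj (le_normalizer h.xS)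

theorem ne : cj x E ≠ E := fun e => h.xE (cj_eq_iff.1 e)

omit [Finite G] in
theorem T0_eq : T0 S (cj x E) = T0 S E := by
  ext y
  rw [mem_T0, mem_norm_cj]
  constructor
  · rintro ⟨hy, hyn⟩
    have h1 : x⁻¹ * y * x ∈ T0 S E := mem_T0.2 ⟨mul_mem (mul_mem (inv_mem h.xS) hy) h.xS, hyn⟩
    have h2 := conj_mem_of_norm h.xT h1
    have e : x * (x⁻¹ * y * x) * x⁻¹ = y := by group
    rwa [e] at h2
  · intro hy
    exact ⟨hy.1, (conj_mem_of_norm' h.xT hy).2⟩

omit [Finite G] in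
theorem E_le : E ≤ T0 S E := fun _ he => ⟨h.hE.le he, le_normalizer he⟩

theorem E'_le : cj x E ≤ T0 S E := by
  rw [← h.T0_eq]
  exact fun _ he => ⟨h.hE'.le he, le_normalizer he⟩

include hAI

theorem pair1 : (∀ t ∈ T0 S E, ∃ b ∈ om (cj x E), b⁻¹ * t ∈ E) ∧ FFC S E := by
  obtain ⟨h1, h2⟩ := pair_ff hAI h.hE' h.hE h.ne (fun y hy => (h.E'_le (om_le _ hy)).2)
    (fun y hy => by
      have := h.E_le (om_le _ hy)
      rw [← h.T0_eq] at this
      exact this.2) (by rw [om_cj, card_cj])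
  exact ⟨fun t ht => h1 t ht.1 ht.2, h.hE.concl_ffc hAI h2⟩

theorem pair2 : ∀ t ∈ T0 S E, ∃ b ∈ om E, b⁻¹ * t ∈ cj x E := by
  obtain ⟨h1, h2⟩ := pair_ff hAI h.hE h.hE' h.ne.symm (fun y hy => by
      have := h.E_le (om_le _ hy)
      rw [← h.T0_eq] at this
      exact this.2) (fun y hy => (h.E'_le (om_le _ hy)).2) (by rw [om_cj, card_cj])
  intro t ht
  rw [← h.T0_eq] at ht
  exact h1 t ht.1 ht.2

/-- an element of `E ∩ E'` is central in `N_S(E)` -/
theorem cen_of_mem {z : G} (hz : z ∈ E) (hz' : z ∈ cj x E) : Cen (T0 S E) z := by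
  intro t ht
  obtain ⟨b, hb, hbt⟩ := (h.pair1 hAI).1 t ht
  have h1 := h.hE'.comm b (om_le _ hb) z hz'
  have h2 := h.hE.comm _ hbt z hz
  calc t * z = b * ((b⁻¹ * t) * z) := by group
    _ = (b * z) * (b⁻¹ * t) := by rw [h2]; group
    _ = z * t := by rw [h1]; group

omit hAI in
theorem mem_of_cen {z : G} (hzS : z ∈ (S : Subgroup G)) (hz : Cen (T0 S E) z) : z ∈ E ∧ z ∈ cj x E :=
  ⟨h.hE.cent z hzS (fun e he => (hz e (h.E_le he)).symm), h.hE'.cent z hzS (fun e he => (hz e (h.E'_le he)).symm)⟩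

/-- `E = Ω₁(E) Z(N_S(E))` -/
theorem decomp {e : G} (he : e ∈ E) : ∃ v ∈ om E, v⁻¹ * e ∈ E ∧ Cen (T0 S E) (v⁻¹ * e) := by
  obtain ⟨b, hb, hbt⟩ := h.pair2 hAI e (h.E_le he)
  have h1 : b⁻¹ * e ∈ E := mul_mem (inv_mem (om_le E hb)) he
  exact ⟨b, hb, h1, h.cen_of_mem hAI h1 hbt⟩

/-- squares of elements of `E` are central in `N_S(E)` -/
theorem sq_cen {e : G} (he : e ∈ E) : Cen (T0 S E) (e * e) := by
  obtain ⟨v, hv, hz, hzc⟩ := h.decomp hAI he
  have e1 : e * e = (v⁻¹ * e) * (v⁻¹ * e) := by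
    have h1 := h.hE.comm v (om_le E hv) (v⁻¹ * e) hz
    have h2 := (h.hE.mem_om'.1 hv).2
    calc e * e = v * ((v⁻¹ * e) * v) * (v⁻¹ * e) := by group
      _ = v * (v * (v⁻¹ * e)) * (v⁻¹ * e) := by rw [← h1]
      _ = (v * v) * ((v⁻¹ * e) * (v⁻¹ * e)) := by group
      _ = (v⁻¹ * e) * (v⁻¹ * e) := by rw [h2, one_mul]
  rw [e1]
  exact hzc.mul hzc

theorem opp_sq {t v e : G} (ht : t ∈ T0 S E) (htE : t ∉ E) (hv : v ∈ om E) (he : e ∈ E)
    (heq : t * v * t⁻¹ * v = e * e) : t * v = v * t := by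
  refine (h.pair1 hAI).2.opp t ht.1 ht.2 htE v hv (fun g hg s hs hsN => ?_)
  have h1 := h.sq_cen hAI (conj_mem_of_norm hg he)
  have e1 : g * (t * v * t⁻¹ * v) * g⁻¹ = g * e * g⁻¹ * (g * e * g⁻¹) := by rw [heq]; group
  rw [e1]
  exact h1 s ⟨hs, hsN⟩

theorem cen_of_comm {t v : G} (ht : t ∈ T0 S E) (htE : t ∉ E) (hv : v ∈ om E) (htv : t * v = v * t) :
    Cen (T0 S E) v := fun s hs => (h.pair1 hAI).2.fix t ht.1 ht.2 htE v hv htv s hs.1 hs.2

/-- the involutions of `N_S(E)` -/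
theorem inv_cases {i : G} (hi : i ∈ T0 S E) (hii : i * i = 1) : i ∈ om E ∨ i ∈ om (cj x E) := by
  obtain ⟨b, hb, hbi⟩ := (h.pair1 hAI).1 i hi
  by_cases hbE : b ∈ E
  · left
    rw [h.hE.mem_om']
    refine ⟨?_, hii⟩
    have := mul_mem hbE hbi
    rwa [mul_inv_cancel_left] at this
  · right
    obtain ⟨v, hv, hz, hzc⟩ := h.decomp hAI hbi
    set z := v⁻¹ * (b⁻¹ * i) with hzdef
    have hi' : i = b * v * z := by rw [hzdef]; group
    have hbT : b ∈ T0 S E := h.E'_le (om_le _ hb)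
    have hvT : v ∈ T0 S E := h.E_le (om_le _ hv)
    have hbb : b⁻¹ = b := inv_eq_of_mul_eq_one_right (h.hE'.mem_om'.1 hb).2
    have h1 : b * v * b⁻¹ * v = z⁻¹ * z⁻¹ := by
      have h2 : (b * v) * (b * v) * (z * z) = 1 := by
        have h3 := hzc _ (mul_mem hbT hvT)
        calc (b * v) * (b * v) * (z * z) = (b * v) * ((b * v) * z) * z := by group
          _ = (b * v) * (z * (b * v)) * z := by rw [h3]
          _ = (b * v * z) * (b * v * z) := by group
          _ = 1 := by rw [← hi']; exact hii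
      rw [hbb]
      have h4 : b * v * (b * v) = (z * z)⁻¹ := eq_inv_of_mul_eq_one_left h2
      calc b * v * b * v = b * v * (b * v) := by group
        _ = z⁻¹ * z⁻¹ := by rw [h4, mul_inv_rev]
    have h2 := h.opp_sq hAI hbT hbE hv (inv_mem hz) h1
    have h3 := h.cen_of_comm hAI hbT hbE hv h2
    have h4 : Cen (T0 S E) (b⁻¹ * i) := by
      have e : b⁻¹ * i = v * z := by rw [hzdef]; group
      rw [e]
      exact h3.mul hzc
    have h5 := (h.mem_of_cen (h.hE.le hbi) h4).2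
    rw [h.hE'.mem_om']
    refine ⟨?_, hii⟩
    have := mul_mem (om_le _ hb) h5
    rwa [mul_inv_cancel_left] at this

/-- centralizers of the elements of `Ω₁(E)` outside `Z(N_S(E))` -/
theorem cent_eq {v : G} (hv : v ∈ om E) (hnc : ¬ Cen (T0 S E) v) {y : G} (hy : y ∈ (S : Subgroup G))
    (hyv : y * v = v * y) : y ∈ E := by
  by_contra hyE
  have hED : E ≤ (S : Subgroup G) ⊓ centralizer ({v} : Set G) := fun e he =>
    ⟨h.hE.le he, mem_centralizer_singleton_iff.2 (h.hE.comm e he v (om_le E hv))⟩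
  obtain ⟨y', hy'D, hy'E, hy'N⟩ := exists_norm (S.isPGroup'.to_le inf_le_left) hED
    (x := y) ⟨hy, mem_centralizer_singleton_iff.2 hyv⟩ hyE
  exact hnc (h.cen_of_comm hAI ⟨hy'D.1, hy'N⟩ hy'E hv (mem_centralizer_singleton_iff.1 hy'D.2))

theorem norm_T0 {y : G} (hy : y ∈ (S : Subgroup G)) (hyN : y ∈ normalizer (T0 S E : Set G)) :
    y ∈ T0 S E ∨ x⁻¹ * y ∈ T0 S E := by
  have h1 : ∀ w ∈ cj y (om E), w ∈ om E ∨ w ∈ om (cj x E) := by
    rintro _ ⟨v, hv, rfl⟩
    refine h.inv_cases hAI (conj_mem_of_norm hyN (h.E_le (om_le _ hv))) ?_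
    rw [← map_mul, (h.hE.mem_om'.1 hv).2, map_one]
  rcases le_or_le h1 with h2 | h2
  · left
    refine ⟨hy, h.hE.norm_of_normV hAI hy (norm_of_conj_le (fun v hv => h2 (conj_mem_cj hv)))⟩
  · right
    have hxy : x⁻¹ * y ∈ (S : Subgroup G) := mul_mem (inv_mem h.xS) hy
    refine ⟨hxy, h.hE.norm_of_normV hAI hxy (norm_of_conj_le (fun v hv => ?_))⟩
    have h3 := h2 (conj_mem_cj hv)
    rw [om_cj, mem_cj] at h3
    have e : x⁻¹ * y * v * (x⁻¹ * y)⁻¹ = x⁻¹ * (y * v * y⁻¹) * x := by group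
    rw [e]
    exact h3

end NN

theorem relIndex_le_two {H K : Subgroup G} (h : ∀ a ∈ K, ∀ b ∈ K, a ∉ H → b ∉ H → a⁻¹ * b ∈ H) :
    H.relIndex K ≤ 2 := by
  by_cases hKH : K ≤ H
  · rw [relIndex_eq_one.2 hKH]; omega
  obtain ⟨a, haK, haH⟩ := SetLike.not_le_iff_exists.1 hKH
  have hsurj : Function.Surjective (fun b : Bool => if b then (QuotientGroup.mk ⟨a, haK⟩ : K ⧸ H.subgroupOf K)
      else QuotientGroup.mk 1) := by
    intro q
    obtain ⟨b, rfl⟩ := QuotientGroup.mk_surjective q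
    by_cases hb : (b : G) ∈ H
    · refine ⟨false, ?_⟩
      simp only [Bool.false_eq_true, if_false]
      rw [QuotientGroup.eq, mem_subgroupOf]
      simpa using hb
    · refine ⟨true, ?_⟩
      simp only [if_true]
      rw [QuotientGroup.eq, mem_subgroupOf]
      exact h a haK b b.2 haH hb
  have h1 := Nat.card_le_card_of_surjective _ hsurj
  rw [Nat.card_eq_fintype_card (α := Bool), Fintype.card_bool] at h1
  exact h1

theorem exists_three {H K : Subgroup G} (h : 2 < H.relIndex K) : ∃ a ∈ K, ∃ b ∈ K, a ∉ H ∧ b ∉ H ∧ a⁻¹ * b ∉ H := by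
  by_contra hcon
  push Not at hcon
  have := relIndex_le_two (H := H) (K := K) (fun a ha b hb haH hbH => hcon a ha b hb haH hbH)
  omega

theorem mem_of_relIndex_le_two {H K : Subgroup G} (h : H.relIndex K ≤ 2) {a b : G} (ha : a ∈ K) (hb : b ∈ K)
    (haH : a ∉ H) (hbH : b ∉ H) : a⁻¹ * b ∈ H := by
  by_contra hab
  have hinj : Function.Injective (fun i : Fin 3 => (QuotientGroup.mk
      (![(1 : K), ⟨a, ha⟩, ⟨b, hb⟩] i) : K ⧸ H.subgroupOf K)) := by
    intro i j hij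
    have h1 : ∀ {p q : K}, (QuotientGroup.mk p : K ⧸ H.subgroupOf K) = QuotientGroup.mk q → (p : G)⁻¹ * q ∈ H := by
      intro p q hpq
      exact mem_subgroupOf.1 (QuotientGroup.eq.1 hpq)
    fin_cases i <;> fin_cases j <;> first
      | rfl
      | (exfalso; have h2 := h1 hij; have h3 := inv_mem h2; simp only [_root_.Nat.succ_eq_add_one, _root_.Nat.reduceAdd, _root_.Fin.zero_eta, _root_.Fin.isValue, _root_.Matrix.cons_val_zero, _root_.OneMemClass.coe_one, _root_.inv_one, _root_.Fin.mk_one, _root_.Matrix.cons_val_one, _root_.one_mul, _root_.inv_mem_iff, _root_.Fin.reduceFinMk, _root_.Matrix.cons_val, _root_.mul_one, _root_.inv_inv, _root_.mul_inv_rev] at h2 h3; tauto)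
  have := Nat.card_le_card_of_injective _ hinj
  rw [Nat.card_eq_fintype_card (α := Fin 3), Fintype.card_fin] at this
  change 3 ≤ H.relIndex K at this
  omega

end Cfsg.Agent.H305.Ess
end

-- part: H305/EssQ
section
/-!
# Non-normal essential subgroups: `|N_S(E) : E| = 2` in simple groups
-/

set_option autoImplicit false

namespace Cfsg.Agent.H305.Ess

open Subgroup Cfsg.Agent.Lib.GoldschmidtFusion Cfsg.Agent.H305.FF
open scoped Pointwise commutatorElement

variable {G : Type*} [Group G] [Finite G] (hAI : AI G) {S : Sylow 2 G}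
include hAI

namespace NN

variable {E : Subgroup G} {x : G} (h : NN S E x)
include h

/-- if `|N_S(E) : E| > 2` then `N_S(E)` has index two in `S` -/
theorem index_two (hq : 2 < E.relIndex (T0 S E)) : ∀ y ∈ (S : Subgroup G), y ∈ T0 S E ∨ x⁻¹ * y ∈ T0 S E := by
  by_contra hcon
  push Not at hcon
  obtain ⟨y₀, hy₀S, hy₀T, hy₀x⟩ := hcon
  set T₁ : Subgroup G := (S : Subgroup G) ⊓ normalizer (T0 S E : Set G) with hT₁
  have hy₀T₁ : y₀ ∉ T₁ := by
    intro h1
    rcases h.norm_T0 hAI h1.1 h1.2 with h2 | h2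
    · exact hy₀T h2
    · exact hy₀x h2
  have hT01 : T0 S E ≤ T₁ := fun t ht => ⟨ht.1, le_normalizer ht⟩
  have hxT₁ : x ∈ T₁ := ⟨h.xS, h.xT⟩
  have claim : ∀ y ∈ (S : Subgroup G), y ∉ T₁ → y ∈ normalizer (T₁ : Set G) →
      cj y (om E) ⊓ T0 S E ≤ om E → False := by
    intro y hyS hyT hyN hle
    set K := cj y (om E) with hK
    have hKT : K ≤ T₁ := by
      rintro _ ⟨v, hv, rfl⟩
      exact conj_mem_of_norm hyN (hT01 (h.E_le (om_le _ hv)))
    have h2 : (T0 S E).relIndex K ≤ 2 := by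
      refine relIndex_le_two (fun a ha b hb haT hbT => ?_)
      have h3 := (h.norm_T0 hAI (hKT ha).1 (hKT ha).2).resolve_left haT
      have h4 := (h.norm_T0 hAI (hKT hb).1 (hKT hb).2).resolve_left hbT
      have h5 := mul_mem (inv_mem h3) h4
      have e : (x⁻¹ * a)⁻¹ * (x⁻¹ * b) = a⁻¹ * b := by group
      rwa [e] at h5
    have hKcomm : ∀ a ∈ K, ∀ b ∈ K, a * b = b * a := by
      rintro _ ⟨a, ha, rfl⟩ _ ⟨b, hb, rfl⟩
      rw [← map_mul, ← map_mul, h.hE.comm a (om_le _ ha) b (om_le _ hb)]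
    -- an element of `K ∩ T0` which is not central
    obtain ⟨v, hvK, hvT, hvc⟩ : ∃ v ∈ K, v ∈ T0 S E ∧ ¬ Cen (T0 S E) v := by
      by_contra hcon
      push Not at hcon
      have h3 : K ⊓ T0 S E ≤ centralizer (T0 S E : Set G) ⊓ om E := by
        rintro v ⟨hvK, hvT⟩
        exact ⟨mem_centralizer_iff.2 (fun t ht => hcon v hvK hvT t ht), hle ⟨hvK, hvT⟩⟩
      have h4 := card_inf_mul (T0 S E) K
      have h5 := card_inf_mul (centralizer (T0 S E : Set G)) (om E)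
      have h6 := (h.pair1 hAI).2.idx
      change (centralizer (T0 S E : Set G)).relIndex (om E) = E.relIndex (T0 S E) at h6
      rw [h6] at h5
      have h7 : Nat.card K = Nat.card (om E) := card_cj y (om E)
      have h8 : Nat.card (T0 S E ⊓ K : Subgroup G) ≤
          Nat.card (centralizer (T0 S E : Set G) ⊓ om E : Subgroup G) := by
        rw [inf_comm]
        exact Nat.card_le_card_of_injective _ (inclusion_injective h3)
      have hpos : 0 < Nat.card (centralizer (T0 S E : Set G) ⊓ om E : Subgroup G) := Nat.card_pos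
      have h9 : Nat.card (centralizer (T0 S E : Set G) ⊓ om E : Subgroup G) * 2 <
          Nat.card (centralizer (T0 S E : Set G) ⊓ om E : Subgroup G) * E.relIndex (T0 S E) :=
        Nat.mul_lt_mul_of_pos_left hq hpos
      have h10 : Nat.card (T0 S E ⊓ K : Subgroup G) * (T0 S E).relIndex K ≤
          Nat.card (centralizer (T0 S E : Set G) ⊓ om E : Subgroup G) * 2 := Nat.mul_le_mul h8 h2
      omega
    have hvE : v ∈ om E := hle ⟨hvK, hvT⟩
    have hKE : K ≤ E := fun k hk => h.cent_eq hAI hvE hvc (hKT hk).1 (hKcomm k hk v hvK)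
    have h3 : y ∈ normalizer (om E : Set G) := by
      refine norm_of_conj_le (fun w hw => ?_)
      rw [h.hE.mem_om']
      refine ⟨hKE (conj_mem_cj hw), ?_⟩
      have e : y * w * y⁻¹ * (y * w * y⁻¹) = y * (w * w) * y⁻¹ := by group
      rw [e, (h.hE.mem_om'.1 hw).2]; group
    exact hyT (hT01 ⟨hyS, h.hE.norm_of_normV hAI hyS h3⟩)
  obtain ⟨y, hyS, hyT, hyN⟩ := exists_norm (H := T₁) S.isPGroup' inf_le_left hy₀S hy₀T₁
  have h1 : ∀ w ∈ cj y (om E) ⊓ T0 S E, w ∈ om E ∨ w ∈ om (cj x E) := by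
    rintro _ ⟨⟨v, hv, rfl⟩, h2⟩
    refine h.inv_cases hAI h2 ?_
    rw [← map_mul, (h.hE.mem_om'.1 hv).2, map_one]
  rcases le_or_le h1 with h2 | h2
  · exact claim y hyS hyT hyN h2
  · refine claim (x⁻¹ * y) (mul_mem (inv_mem h.xS) hyS) ?_ ?_ ?_
    · intro h3
      have := mul_mem hxT₁ h3
      rw [mul_inv_cancel_left] at this
      exact hyT this
    · exact mul_mem (inv_mem (le_normalizer hxT₁)) hyN
    · intro w hw
      obtain ⟨hw1, hw2⟩ := mem_inf.1 hw
      have h3 : x * w * x⁻¹ ∈ cj y (om E) := by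
        rw [mem_cj] at hw1
        rw [mem_cj]
        have e : y⁻¹ * (x * w * x⁻¹) * y = (x⁻¹ * y)⁻¹ * w * (x⁻¹ * y) := by group
        rw [e]
        exact hw1
      have h4 := h2 ⟨h3, conj_mem_of_norm h.xT hw2⟩
      rw [om_cj, mem_cj] at h4
      have e : x⁻¹ * (x * w * x⁻¹) * x = w := by group
      rwa [e] at h4

/-- an essential subgroup whose `Ω₁` is in `N_S(E)` is one of two -/
theorem eq_or_eq {E₃ : Subgroup G} (h₃ : IsE S E₃) (hle : om E₃ ≤ T0 S E) : E₃ = E ∨ E₃ = cj x E := by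
  have h1 : ∀ w ∈ om E₃, w ∈ om E ∨ w ∈ om (cj x E) := fun w hw =>
    h.inv_cases hAI (hle hw) (h₃.mem_om'.1 hw).2
  rcases le_or_le h1 with h2 | h2
  · exact Or.inl (h₃.eq_of_om_le hAI h.hE h2)
  · exact Or.inr (h₃.eq_of_om_le hAI h.hE' h2)

theorem exists_other [IsSimpleGroup G] (hna : ∃ a b : G, a * b ≠ b * a)
    (hidx : ∀ y ∈ (S : Subgroup G), y ∈ T0 S E ∨ x⁻¹ * y ∈ T0 S E) :
    ∃ E₃, IsE S E₃ ∧ ¬ om E₃ ≤ T0 S E := by
  by_contra hcon
  push Not at hcon
  have hall : ∀ E₃, IsE S E₃ → E₃ ≤ T0 S E := by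
    intro E₃ h₃
    rcases h.eq_or_eq hAI h₃ (hcon E₃ h₃) with rfl | rfl
    · exact h.E_le
    · exact h.E'_le
  have hT : ∀ n ∈ normalizer ((S : Subgroup G) : Set G), n ∈ normalizer (T0 S E : Set G) := by
    intro n hn
    refine norm_of_conj_le (fun t ht => ?_)
    obtain ⟨b, hb, hbt⟩ := (h.pair1 hAI).1 t ht
    have h1 := hall _ (h.hE'.conj hn) (conj_mem_cj (om_le _ hb))
    have h2 := hall _ (h.hE.conj hn) (conj_mem_cj hbt)
    have e : n * t * n⁻¹ = n * b * n⁻¹ * (n * (b⁻¹ * t) * n⁻¹) := by group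
    rw [e]
    exact mul_mem h1 h2
  have hST : (S : Subgroup G) ≤ T0 S E := by
    refine focal hAI S hna (T0 S E) ?_ ?_
    · intro n hn s hs
      have hs' := conj_mem_of_norm hn hs
      by_cases hsT : s ∈ T0 S E
      · exact mul_mem (inv_mem hsT) (conj_mem_of_norm (hT n hn) hsT)
      · have hsT' : n * s * n⁻¹ ∉ T0 S E := by
          intro h1
          apply hsT
          have h2 := conj_mem_of_norm' (hT n hn) h1
          have e : n⁻¹ * (n * s * n⁻¹) * n = s := by group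
          rwa [e] at h2
        have h1 := (hidx s hs).resolve_left hsT
        have h2 := (hidx _ hs').resolve_left hsT'
        have e : s⁻¹ * (n * s * n⁻¹) = (x⁻¹ * s)⁻¹ * (x⁻¹ * (n * s * n⁻¹)) := by group
        rw [e]
        exact mul_mem (inv_mem h1) h2
    · intro E₃ h₃ g hg e he
      exact hall E₃ h₃ (mul_mem (inv_mem he) (conj_mem_of_norm hg he))
  exact h.xE (hST h.xS).2

/-- the contradiction in case `|N_S(E) : E| > 2` -/
theorem no_big (hxx : x * x = 1) (hq : 2 < E.relIndex (T0 S E))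
    (hidx : ∀ y ∈ (S : Subgroup G), y ∈ T0 S E ∨ x⁻¹ * y ∈ T0 S E)
    {E₃ : Subgroup G} (h₃ : IsE S E₃) (hx3 : x ∈ om E₃) : False := by
  have hxi : x⁻¹ = x := inv_eq_of_mul_eq_one_right hxx
  -- (i)
  have hcenS : ∀ z, Cen (T0 S E) z → x * z = z * x → Cen (S : Subgroup G) z := by
    intro z hz hxz s hs
    rcases hidx s hs with h1 | h1
    · exact hz s h1
    · have h2 := hz _ h1
      calc s * z = x * ((x⁻¹ * s) * z) := by group
        _ = (x * z) * (x⁻¹ * s) := by rw [h2]; group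
        _ = z * s := by rw [hxz]; group
  -- (ii)
  have h2 : ∀ u ∈ om E₃, u ∈ T0 S E → Cen (S : Subgroup G) u := by
    intro u hu huT
    have hux : x * u = u * x := h₃.comm x (om_le _ hx3) u (om_le _ hu)
    have hconj : x * u * x⁻¹ = u := by rw [hux]; group
    refine hcenS u ?_ hux
    rcases h.inv_cases hAI huT (h₃.mem_om'.1 hu).2 with h1 | h1
    · refine h.cen_of_mem hAI (om_le _ h1) ?_
      rw [← hconj]
      exact conj_mem_cj (om_le _ h1)
    · have h3 : u ∈ E := by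
        have h4 := om_le _ h1
        rw [mem_cj] at h4
        have e : x⁻¹ * u * x = u := by rw [mul_assoc, ← hux]; group
        rwa [e] at h4
      exact h.cen_of_mem hAI h3 (om_le _ h1)
  -- (iii)
  have h3 : ∀ u ∈ om E₃, Cen (S : Subgroup G) u ∨ Cen (S : Subgroup G) (x⁻¹ * u) := by
    intro u hu
    rcases hidx u (h₃.om_le_S hu) with h1 | h1
    · exact Or.inl (h2 u hu h1)
    · exact Or.inr (h2 _ (mul_mem (inv_mem hx3) hu) h1)
  -- (iv)
  have h4 : ∀ s ∈ (S : Subgroup G), s * x = x * s → s ∈ E₃ := by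
    intro s hs hsx
    refine h₃.centV hAI hs (fun u hu => ?_)
    rcases h3 u hu with h5 | h5
    · exact h5 s hs
    · have h6 := h5 s hs
      calc s * u = (s * x) * (x⁻¹ * u) := by group
        _ = x * (s * (x⁻¹ * u)) := by rw [hsx]; group
        _ = u * s := by rw [h6]; group
  -- (v)
  have h5 : ¬ Cen (S : Subgroup G) x := by
    intro hc
    obtain ⟨s, hs, hsE⟩ := h₃.exists_not_mem
    exact hsE (h4 s hs (hc s hs))
  -- (vi)
  have h6 : ∀ b ∈ T0 S E₃, ∀ u ∈ om E₃, Cen (S : Subgroup G) (b * u * b⁻¹ * u) := by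
    intro b hb u hu
    have huu := (h₃.mem_om'.1 hu).2
    rcases h3 u hu with h7 | h7
    · have e : b * u * b⁻¹ * u = 1 := by rw [h7 b hb.1]; rw [mul_inv_cancel_right]; exact huu
      rw [e]
      exact Cen.one _
    · set z := x⁻¹ * u with hz
      have hzV : z ∈ om E₃ := mul_mem (inv_mem hx3) hu
      have hzz := (h₃.mem_om'.1 hzV).2
      have hu' : u = x * z := by rw [hz]; group
      have hbx : b * x * b⁻¹ ∈ om E₃ := conj_mem_of_norm (norm_om hb.2) hx3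
      have h8 : Cen (S : Subgroup G) (x⁻¹ * (b * x * b⁻¹)) := by
        refine (h3 _ hbx).resolve_left (fun h9 => h5 ?_)
        have h10 := h9 b hb.1
        have e : b * x * b⁻¹ = x := by
          have h11 : b * (b * x * b⁻¹) = b * x := by rw [h10]; group
          exact mul_left_cancel h11
        rwa [e] at h9
      have hzc := h7 b hb.1
      have hzx := h7 x h.xS
      have e : b * u * b⁻¹ * u = x⁻¹ * (b * x * b⁻¹) := by
        have e1 : b * u * b⁻¹ * u = (b * x * b⁻¹) * (b * z * b⁻¹) * (x * z) := by rw [hu']; group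
        have e2 : b * z * b⁻¹ = z := by rw [hzc]; group
        have e3 : (b * x * b⁻¹) * x = x * (b * x * b⁻¹) :=
          h₃.comm _ (om_le _ hbx) _ (om_le _ hx3)
        rw [e1, e2]
        calc (b * x * b⁻¹) * z * (x * z) = (b * x * b⁻¹) * (z * x) * z := by group
          _ = (b * x * b⁻¹) * (x * z) * z := by rw [← hzx]
          _ = ((b * x * b⁻¹) * x) * (z * z) := by group
          _ = x * (b * x * b⁻¹) := by rw [e3, hzz, mul_one]
          _ = x⁻¹ * (b * x * b⁻¹) := by rw [hxi]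
      rw [e]
      exact h8
  -- (vii)
  obtain ⟨b₀, hb₀S, hb₀E, hb₀N⟩ := h₃.exists_t
  have hq3 : ∀ b ∈ T0 S E₃, ∀ b' ∈ T0 S E₃, ∀ v ∈ om E₃, b' * (b * v * b⁻¹ * v) = (b * v * b⁻¹ * v) * b' :=
    fun b hb b' hb' v hv => h6 b hb v hv b' hb'.1
  have hle2 : (centralizer (T0 S E₃ : Set G)).relIndex (om E₃) ≤ 2 := by
    refine relIndex_le_two (fun a ha b hb haC hbC => ?_)
    have hcc : ∀ z, Cen (S : Subgroup G) z → z ∈ centralizer (T0 S E₃ : Set G) := fun z hz =>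
      mem_centralizer_iff.2 (fun t ht => hz t ht.1)
    have h7 := (h3 a ha).resolve_left (fun h8 => haC (hcc a h8))
    have h8 := (h3 b hb).resolve_left (fun h8 => hbC (hcc b h8))
    have e : a⁻¹ * b = (x⁻¹ * a)⁻¹ * (x⁻¹ * b) := by group
    rw [e]
    exact hcc _ (h7.inv.mul h8)
  have hge2 : 2 ≤ E₃.relIndex (T0 S E₃) := by
    have h7 : E₃.relIndex (T0 S E₃) ≠ 0 := index_ne_zero_of_finite
    have h8 : E₃.relIndex (T0 S E₃) ≠ 1 := by
      intro h9
      exact hb₀E (relIndex_eq_one.1 h9 ⟨hb₀S, hb₀N⟩)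
    omega
  obtain ⟨-, hconcl⟩ := h₃.ff hAI (T0 S E₃) (fun t ht => norm_om ht.2) inf_le_left (b₀ := b₀)
    ⟨hb₀S, hb₀N⟩ hb₀E hq3 (hle2.trans hge2)
  have hF3 := h₃.concl_ffc hAI hconcl
  have hidx3 : E₃.relIndex (T0 S E₃) ≤ 2 := by
    have := hF3.idx
    change (centralizer (T0 S E₃ : Set G)).relIndex (om E₃) = E₃.relIndex (T0 S E₃) at this
    rw [← this]
    exact hle2
  -- (viii)
  have h8 : ∀ y ∈ E₃, (y * y) * (y * y) = 1 → Cen (S : Subgroup G) (y * y) := by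
    intro y hy hyy
    have hyT : y * y ∈ T0 S E := by
      rcases hidx y (h₃.le hy) with h9 | h9
      · exact mul_mem h9 h9
      · have hyx := h₃.comm x (om_le _ hx3) y hy
        have e : y * y = (x⁻¹ * y) * (x⁻¹ * y) := by
          calc y * y = (x * x) * (y * y) := by rw [hxx, one_mul]
            _ = x * (x * y) * y := by group
            _ = x * (y * x) * y := by rw [hyx]
            _ = (x * y) * (x * y) := by group
            _ = _ := by rw [hxi]
        rw [e]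
        exact mul_mem h9 h9
    exact h2 _ (h₃.mem_om'.2 ⟨mul_mem hy hy, hyy⟩) hyT
  -- (ix)
  let D : G → G := fun v => v * (x * v * x⁻¹)
  have hFE := (h.pair1 hAI).2
  have hconjT : ∀ v ∈ om E, x * v * x⁻¹ ∈ T0 S E := fun v hv => conj_mem_of_norm h.xT (h.E_le (om_le _ hv))
  have hvv : ∀ v ∈ om E, v⁻¹ = v := fun v hv => inv_eq_of_mul_eq_one_right (h.hE.mem_om'.1 hv).2
  have htt : ∀ v ∈ om E, (x * v * x⁻¹)⁻¹ = x * v * x⁻¹ := fun v hv => by
    rw [mul_inv_rev, mul_inv_rev, inv_inv, hvv v hv]; group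
  have hτV : ∀ a ∈ T0 S E, ∀ v ∈ om E, a * v * a⁻¹ * v ∈ om E := fun a ha v hv =>
    mul_mem (conj_mem_of_norm (norm_om ha.2) hv) hv
  have hDD : ∀ v ∈ om E, D v * D v = (x * v * x⁻¹) * v * (x * v * x⁻¹)⁻¹ * v := by
    intro v hv
    have h9 := hτV _ (hconjT v hv) v hv
    have h10 := (h.hE.mem_om'.1 h9).2
    have e : (D v * D v) * ((x * v * x⁻¹) * v * (x * v * x⁻¹)⁻¹ * v) = 1 := by
      rw [htt v hv]
      have e1 : (x * v * x⁻¹) * (x * v * x⁻¹) = 1 := by
        have : (x * v * x⁻¹) * (x * v * x⁻¹) = x * (v * v) * x⁻¹ := by group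
        rw [this, (h.hE.mem_om'.1 hv).2]; group
      have e2 := (h.hE.mem_om'.1 hv).2
      calc (D v * D v) * ((x * v * x⁻¹) * v * (x * v * x⁻¹) * v)
          = v * (x * v * x⁻¹) * v * ((x * v * x⁻¹) * (x * v * x⁻¹)) * v * (x * v * x⁻¹) * v := by
            simp only [D]; group
        _ = v * (x * v * x⁻¹) * (v * v) * (x * v * x⁻¹) * v := by rw [e1]; group
        _ = v * ((x * v * x⁻¹) * (x * v * x⁻¹)) * v := by rw [e2]; group
        _ = 1 := by rw [e1, mul_one, e2]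
    have h11 : D v * D v = ((x * v * x⁻¹) * v * (x * v * x⁻¹)⁻¹ * v)⁻¹ := eq_inv_of_mul_eq_one_left e
    rw [h11]
    exact inv_eq_of_mul_eq_one_right h10
  have hxD : ∀ v ∈ om E, x * D v * x⁻¹ = (D v)⁻¹ := by
    intro v hv
    have e : x * D v * x⁻¹ = (x * v * x⁻¹) * ((x * x) * v * (x * x)⁻¹) := by simp only [D]; group
    rw [e, hxx]
    change _ = (v * (x * v * x⁻¹))⁻¹
    rw [mul_inv_rev v, htt v hv, hvv v hv]; group
  have hDT : ∀ v ∈ om E, D v ∈ T0 S E := fun v hv => mul_mem (h.E_le (om_le _ hv)) (hconjT v hv)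
  have hτS : ∀ v ∈ om E, Cen (S : Subgroup G) (D v * D v) := by
    intro v hv
    have h9 : Cen (T0 S E) (D v * D v) := by
      rw [hDD v hv]
      intro s hs
      exact hFE.quad _ (hconjT v hv).1 (hconjT v hv).2 v hv s hs.1 hs.2
    refine hcenS _ h9 ?_
    have h10 : x * (D v * D v) * x⁻¹ = D v * D v := by
      have e : x * (D v * D v) * x⁻¹ = (x * D v * x⁻¹) * (x * D v * x⁻¹) := by group
      rw [e, hxD v hv, ← mul_inv_rev]
      rw [hDD v hv]
      exact inv_eq_of_mul_eq_one_right (h.hE.mem_om'.1 (hτV _ (hconjT v hv) v hv)).2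
    rw [mul_inv_eq_iff_eq_mul] at h10
    exact h10
  have hτ2 : ∀ v ∈ om E, (D v * D v) * (D v * D v) = 1 := by
    intro v hv
    rw [hDD v hv]
    exact (h.hE.mem_om'.1 (hτV _ (hconjT v hv) v hv)).2
  have hτ3 : ∀ v ∈ om E, D v * D v ∈ om E₃ := by
    intro v hv
    rw [h₃.mem_om']
    exact ⟨h4 _ (mul_mem (hDT v hv).1 (hDT v hv).1) (hτS v hv x h.xS).symm, hτ2 v hv⟩
  have hDx : ∀ v ∈ om E, D v * x * (D v)⁻¹ = (D v * D v) * x := by
    intro v hv
    have e : D v * x * (D v)⁻¹ = D v * (x * D v * x⁻¹)⁻¹ * x := by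
      have : (D v)⁻¹ = x * (D v) * x⁻¹ := (hxD v hv).symm
      rw [this]
      have e2 : (x * D v * x⁻¹)⁻¹ = D v := by rw [hxD v hv, inv_inv]
      rw [e2]
      calc D v * x * (x * D v * x⁻¹) = D v * (x * x) * D v * x⁻¹ := by group
        _ = D v * D v * x := by rw [hxx, mul_one, hxi]
    rw [e, hxD v hv, inv_inv]
  have hD3 : ∀ v ∈ om E, D v ∈ T0 S E₃ := by
    intro v hv
    refine ⟨(hDT v hv).1, h₃.norm_of_normV hAI (hDT v hv).1 (norm_of_conj_le (fun u hu => ?_))⟩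
    rcases h3 u hu with h9 | h9
    · have e : D v * u * (D v)⁻¹ = u := by rw [h9 _ (hDT v hv).1]; group
      rw [e]; exact hu
    · have e : D v * u * (D v)⁻¹ = (D v * x * (D v)⁻¹) * (x⁻¹ * u) := by
        calc D v * u * (D v)⁻¹ = (D v * x) * ((x⁻¹ * u) * (D v)⁻¹) := by group
          _ = (D v * x) * ((D v)⁻¹ * (x⁻¹ * u)) := by
              rw [← h9 _ (inv_mem (hDT v hv).1)]
          _ = _ := by group
      rw [e, hDx v hv]
      exact mul_mem (mul_mem (hτ3 v hv) hx3) (mul_mem (inv_mem hx3) hu)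
  -- `D v` does not commute with `x` if `v` is not central
  have hDn : ∀ v ∈ om E, ¬ Cen (T0 S E) v → D v * x ≠ x * D v := by
    intro v hv hvc hcomm
    have h9 : D v * D v = 1 := by
      have h10 := hxD v hv
      rw [← hcomm, mul_inv_cancel_right] at h10
      exact mul_eq_one_iff_eq_inv.2 h10
    rw [hDD v hv] at h9
    have h11 : (x * v * x⁻¹) * v = v * (x * v * x⁻¹) := by
      have h12 : (x * v * x⁻¹) * v * (x * v * x⁻¹)⁻¹ = v := by
        rw [mul_eq_one_iff_eq_inv, hvv v hv] at h9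
        exact h9
      rw [mul_inv_eq_iff_eq_mul] at h12
      exact h12
    have h12 : x * v * x⁻¹ ∉ E := by
      intro h13
      have h14 := h.cen_of_mem hAI h13 (conj_mem_cj (om_le _ hv))
      apply hvc
      intro t ht
      have h15 := h14 _ (conj_mem_of_norm h.xT ht)
      have h16 : x * (t * v) * x⁻¹ = x * (v * t) * x⁻¹ := by
        calc x * (t * v) * x⁻¹ = (x * t * x⁻¹) * (x * v * x⁻¹) := by group
          _ = (x * v * x⁻¹) * (x * t * x⁻¹) := h15
          _ = x * (v * t) * x⁻¹ := by group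
      exact mul_left_cancel (mul_right_cancel h16)
    exact hvc (h.cen_of_comm hAI (hconjT v hv) h12 hv h11)
  have hDE : ∀ v ∈ om E, ¬ Cen (T0 S E) v → D v ∉ E₃ := fun v hv hvc h9 =>
    hDn v hv hvc (h₃.comm _ h9 _ (om_le _ hx3))
  -- (x)
  have hidxC := hFE.idx
  change (centralizer (T0 S E : Set G)).relIndex (om E) = E.relIndex (T0 S E) at hidxC
  obtain ⟨v₁, hv₁, v₂, hv₂, hc₁, hc₂, hc₁₂⟩ := exists_three (H := centralizer (T0 S E : Set G)) (K := om E)
    (by rw [hidxC]; exact hq)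
  have hCC : ∀ v, v ∉ centralizer (T0 S E : Set G) → ¬ Cen (T0 S E) v := fun v hv hc =>
    hv (mem_centralizer_iff.2 hc)
  rw [hvv v₁ hv₁] at hc₁₂
  have hv₁₂ : v₁ * v₂ ∈ om E := mul_mem hv₁ hv₂
  have hy : D v₁ * D v₂ ∈ E₃ := by
    have h9 := mem_of_relIndex_le_two hidx3 (inv_mem (hD3 v₁ hv₁)) (hD3 v₂ hv₂)
      (fun h => hDE v₁ hv₁ (hCC _ hc₁) (by have := inv_mem h; rwa [inv_inv] at this))
      (hDE v₂ hv₂ (hCC _ hc₂))
    rwa [inv_inv] at h9
  have hκT := hconjT v₁ hv₁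
  set a := x * v₁ * x⁻¹ with ha
  set κ := a * v₂ * a⁻¹ * v₂ with hκ
  have hκV : κ ∈ om E := hτV a hκT v₂ hv₂
  have hκc : Cen (T0 S E) κ := fun s hs => hFE.quad a hκT.1 hκT.2 v₂ hv₂ s hs.1 hs.2
  have hav : a * v₂ = κ * (v₂ * a) := by
    have h9 := (h.hE.mem_om'.1 hv₂).2
    calc a * v₂ = a * v₂ * a⁻¹ * (v₂ * v₂) * a := by rw [h9]; group
      _ = κ * (v₂ * a) := by rw [hκ]; group
  have hyD : D v₁ * D v₂ = κ * D (v₁ * v₂) := by
    have h9 := hκc v₁ (h.E_le (om_le _ hv₁))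
    calc D v₁ * D v₂ = v₁ * (a * v₂) * (x * v₂ * x⁻¹) := by
          change v₁ * (x * v₁ * x⁻¹) * (v₂ * (x * v₂ * x⁻¹)) = _
          rw [← ha]; group
      _ = (v₁ * κ) * (v₂ * a) * (x * v₂ * x⁻¹) := by rw [hav]; group
      _ = κ * (v₁ * v₂ * (a * (x * v₂ * x⁻¹))) := by rw [h9]; group
      _ = κ * D (v₁ * v₂) := by
          have e : v₁ * v₂ * (a * (x * v₂ * x⁻¹)) = v₁ * v₂ * (x * (v₁ * v₂) * x⁻¹) := by rw [ha]; group
          rw [e]
  have hyy : (D v₁ * D v₂) * (D v₁ * D v₂) = D (v₁ * v₂) * D (v₁ * v₂) := by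
    have h9 := hκc _ (hDT _ hv₁₂)
    have h10 := (h.hE.mem_om'.1 hκV).2
    calc (D v₁ * D v₂) * (D v₁ * D v₂) = κ * (D (v₁ * v₂) * κ) * D (v₁ * v₂) := by rw [hyD]; group
      _ = (κ * κ) * (D (v₁ * v₂) * D (v₁ * v₂)) := by rw [h9]; group
      _ = _ := by rw [h10, one_mul]
  have hfin : D (v₁ * v₂) * x = x * D (v₁ * v₂) := by
    refine hF3.opp _ (hD3 _ hv₁₂).1 (hD3 _ hv₁₂).2 (hDE _ hv₁₂ (hCC _ hc₁₂)) x hx3 ?_
    intro g hg s hs hsN
    have e : D (v₁ * v₂) * x * (D (v₁ * v₂))⁻¹ * x = (D v₁ * D v₂) * (D v₁ * D v₂) := by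
      rw [hDx _ hv₁₂, mul_assoc, hxx, mul_one, hyy]
    rw [e]
    have e2 : g * ((D v₁ * D v₂) * (D v₁ * D v₂)) * g⁻¹ =
        (g * (D v₁ * D v₂) * g⁻¹) * (g * (D v₁ * D v₂) * g⁻¹) := by group
    rw [e2]
    refine h8 _ (conj_mem_of_norm hg hy) ?_ s hs
    rw [← e2]
    have e3 : g * ((D v₁ * D v₂) * (D v₁ * D v₂)) * g⁻¹ * (g * ((D v₁ * D v₂) * (D v₁ * D v₂)) * g⁻¹) =
      g * (((D v₁ * D v₂) * (D v₁ * D v₂)) * ((D v₁ * D v₂) * (D v₁ * D v₂))) * g⁻¹ := by group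
    rw [e3, hyy, hτ2 _ hv₁₂]; group
  exact hDn _ hv₁₂ (hCC _ hc₁₂) hfin

/-- **`|N_S(E) : E| = 2`** -/
theorem relIndex_le [IsSimpleGroup G] (hna : ∃ a b : G, a * b ≠ b * a) : E.relIndex (T0 S E) ≤ 2 := by
  by_contra hq
  rw [not_le] at hq
  have hidx := h.index_two hAI hq
  obtain ⟨E₃, h₃, hnot⟩ := h.exists_other hAI hna hidx
  obtain ⟨c, hc, hcT⟩ := SetLike.not_le_iff_exists.1 hnot
  have hcS := h₃.om_le_S hc
  have hxc := (hidx c hcS).resolve_left hcT
  have hcN : c ∈ normalizer (T0 S E : Set G) := by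
    have := mul_mem h.xT (le_normalizer hxc)
    rwa [mul_inv_cancel_left] at this
  have h' : NN S E c := ⟨h.hE, hcS, fun h1 => hcT ⟨hcS, h1⟩, hcN⟩
  refine h'.no_big hAI (h₃.mem_om'.1 hc).2 hq ?_ h₃ hc
  intro y hy
  rcases hidx y hy with h1 | h1
  · exact Or.inl h1
  · right
    have h2 := mul_mem (inv_mem hxc) h1
    have e : (x⁻¹ * c)⁻¹ * (x⁻¹ * y) = c⁻¹ * y := by group
    rwa [e] at h2

end NN

end Cfsg.Agent.H305.Ess
end
end

-- part: S3186
section
prune_inst 0x1000000122000000000000000000000000000000000000000000000000000000000000000000000000000000000020000000000000000000000000080400800000000000000000000000000000000000000000000000000000000000000000000000000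
set_option linter.all false
open scoped Cfsg.Agent.FastGrp

-- part: H305/EssTwo
section
/-!
# Non-normal essential subgroups with `|N_S(E) : E| = 2`: the structure of `E`

`E = W × A`, `W = {1, t, w, tw}` invariant under `N_G(E)`, `A` the largest `N_G(E)`-invariant subgroup
of `E` centralized by `N_S(E)`.
-/

set_option autoImplicit false

namespace Cfsg.Agent.H305.Ess

open Subgroup Cfsg.Agent.Lib.GoldschmidtFusion Cfsg.Agent.H305.FF
open scoped Pointwise commutatorElement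

variable {G : Type*} [Group G]

/-- the set `{1, t, w, tw}` -/
def InW (t w y : G) : Prop := y = 1 ∨ y = t ∨ y = w ∨ y = t * w

/-- the structure of `E` -/
structure Q2 (S : Sylow 2 G) (E : Subgroup G) (t w : G) (A : Subgroup G) : Prop where
  hE : IsE S E
  two : ∀ a ∈ T0 S E, ∀ b ∈ T0 S E, a ∉ E → b ∉ E → a⁻¹ * b ∈ E
  tV : t ∈ om E
  wV : w ∈ om E
  t1 : t ≠ 1
  tcen : Cen (T0 S E) t
  wcen : ¬ Cen (T0 S E) w
  comm : ∀ a ∈ T0 S E, a ∉ E → ∀ v ∈ om E, ¬ Cen (T0 S E) v → a * v * a⁻¹ * v = t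
  Winv : ∀ m ∈ normalizer (E : Set G), ∀ y, InW t w y → InW t w (m * y * m⁻¹)
  mem_A : ∀ a, a ∈ A ↔ a ∈ E ∧ ∀ g ∈ normalizer (E : Set G), Cen (T0 S E) (g * a * g⁻¹)
  decomp : ∀ e ∈ E, ∃ y, InW t w y ∧ y⁻¹ * e ∈ A
  tA : t ∉ A
  exists_h : ∃ g ∈ normalizer (E : Set G), w = g * t * g⁻¹

section

variable [Finite G] (hAI : AI G) {S : Sylow 2 G}
include hAI

namespace IsE

variable {E : Subgroup G} (hE : IsE S E)
include hE

theorem stab_inv {m : G} (hm : m ∈ NV E) (h : rho E ⟨m, hm⟩ • hE.P0 hAI = hE.P0 hAI) :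
    rho E ⟨m⁻¹, inv_mem hm⟩ • hE.P0 hAI = hE.P0 hAI := by
  have e : rho E ⟨m⁻¹, inv_mem hm⟩ = (rho E ⟨m, hm⟩)⁻¹ := by rw [← map_inv]; rfl
  rw [e, inv_smul_eq_iff, h]

/-- elements of `E` centralized by `N_S(E)` are moved to such elements by the stabilizer -/
theorem stab_cen {m : G} (hm : m ∈ normalizer (E : Set G)) (h : rho E ⟨m, norm_om hm⟩ • hE.P0 hAI = hE.P0 hAI)
    {z : G} (hz : z ∈ E) (hzc : Cen (T0 S E) z) : Cen (T0 S E) (m * z * m⁻¹) := by
  intro s hs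
  obtain ⟨s', hs'S, hs'N, hk⟩ := hE.stab hAI (inv_mem (norm_om hm)) (hE.stab_inv hAI _ h) s hs.1 hs.2
  rw [inv_inv] at hk
  -- `m⁻¹ s m = s' k`, `k ∈ C_G(E)`
  have hkN : s'⁻¹ * (m⁻¹ * s * m) ∈ normalizer (E : Set G) :=
    mul_mem (inv_mem hs'N) (mul_mem (mul_mem (inv_mem hm) hs.2) hm)
  have h1 := hE.cent_of_normV hAI hkN (fun v hv => (mem_centralizer_iff.1 hk v hv).symm) z hz
  have h2 := hzc s' ⟨hs'S, hs'N⟩
  have h3 : (m⁻¹ * s * m) * z = z * (m⁻¹ * s * m) := by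
    calc (m⁻¹ * s * m) * z = s' * ((s'⁻¹ * (m⁻¹ * s * m)) * z) := by group
      _ = (s' * z) * (s'⁻¹ * (m⁻¹ * s * m)) := by rw [h1]; group
      _ = z * (m⁻¹ * s * m) := by rw [h2]; group
  calc s * (m * z * m⁻¹) = m * ((m⁻¹ * s * m) * z) * m⁻¹ := by group
    _ = m * (z * (m⁻¹ * s * m)) * m⁻¹ := by rw [h3]
    _ = m * z * m⁻¹ * s := by group

end IsE

/-- the structure of a non-normal essential subgroup -/
theorem NN.exists_Q2 {E : Subgroup G} {x : G} (h : NN S E x) (hle : E.relIndex (T0 S E) ≤ 2) :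
    ∃ t w A, Q2 S E t w A := by
  have hFE := (h.pair1 hAI).2
  have hconcl : Concl (om E) (h.hE.P0 hAI) := by
    obtain ⟨-, h2⟩ := pair_ff hAI h.hE' h.hE h.ne (fun y hy => (h.E'_le (om_le _ hy)).2)
      (fun y hy => by
        have := h.E_le (om_le _ hy)
        rw [← h.T0_eq] at this
        exact this.2) (by rw [om_cj, card_cj])
    exact h2
  have hvv : ∀ v ∈ om E, v⁻¹ = v := fun v hv => inv_eq_of_mul_eq_one_right (h.hE.mem_om'.1 hv).2
  have hvv' : ∀ v ∈ om E, v * v = 1 := fun v hv => (h.hE.mem_om'.1 hv).2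
  have two : ∀ a ∈ T0 S E, ∀ b ∈ T0 S E, a ∉ E → b ∉ E → a⁻¹ * b ∈ E := fun a ha b hb haE hbE =>
    mem_of_relIndex_le_two hle ha hb haE hbE
  have hidxC := hFE.idx
  change (centralizer (T0 S E : Set G)).relIndex (om E) = E.relIndex (T0 S E) at hidxC
  have hCC : ∀ v, v ∈ centralizer (T0 S E : Set G) ↔ Cen (T0 S E) v := fun v => mem_centralizer_iff
  have vtwo : ∀ v ∈ om E, ∀ w ∈ om E, ¬ Cen (T0 S E) v → ¬ Cen (T0 S E) w → Cen (T0 S E) (v⁻¹ * w) := by
    intro v hv w hw hvc hwc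
    rw [← hCC] at hvc hwc ⊢
    exact mem_of_relIndex_le_two (by rw [hidxC]; exact hle) hv hw hvc hwc
  -- `f`, `v₀`, `t`
  obtain ⟨f, hfS, hfE, hfN⟩ := h.hE.exists_t
  have hfT : f ∈ T0 S E := ⟨hfS, hfN⟩
  obtain ⟨v₀, hv₀, hfv₀⟩ : ∃ v ∈ om E, f * v ≠ v * f := by
    by_contra hcon
    push Not at hcon
    exact hfE (h.hE.centV hAI hfS hcon)
  have hv₀c : ¬ Cen (T0 S E) v₀ := fun hc => hfv₀ (hc f hfT)
  set t := f * v₀ * f⁻¹ * v₀ with ht
  have htV : t ∈ om E := mul_mem (conj_mem_of_norm (norm_om hfN) hv₀) hv₀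
  have ht1 : t ≠ 1 := by
    intro h1
    apply hfv₀
    rw [ht, mul_eq_one_iff_eq_inv, hvv v₀ hv₀, mul_inv_eq_iff_eq_mul] at h1
    exact h1
  have htc : Cen (T0 S E) t := fun s hs => hFE.quad f hfS hfN v₀ hv₀ s hs.1 hs.2
  have hcomm : ∀ a ∈ T0 S E, a ∉ E → ∀ v ∈ om E, ¬ Cen (T0 S E) v → a * v * a⁻¹ * v = t := by
    intro a ha haE v hv hvc
    set e := f⁻¹ * a with he
    have heE : e ∈ E := two f hfT a ha hfE haE
    have hae : a = f * e := by rw [he]; group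
    set z := v₀⁻¹ * v with hz
    have hzc : Cen (T0 S E) z := vtwo v₀ hv₀ v hv hv₀c hvc
    have hzV : z ∈ om E := mul_mem (inv_mem hv₀) hv
    have hvz : v = v₀ * z := by rw [hz]; group
    have hev : e * v = v * e := h.hE.comm e heE v (om_le _ hv)
    have hfz := hzc f hfT
    have hv₀z := h.hE.comm v₀ (om_le _ hv₀) z (om_le _ hzV)
    calc a * v * a⁻¹ * v = f * (e * v) * e⁻¹ * f⁻¹ * v := by rw [hae]; group
      _ = f * v * f⁻¹ * v := by rw [hev]; group
      _ = f * (v₀ * z) * f⁻¹ * (v₀ * z) := by rw [← hvz]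
      _ = f * (z * v₀) * f⁻¹ * (v₀ * z) := by rw [hv₀z]
      _ = (f * z) * v₀ * f⁻¹ * v₀ * z := by group
      _ = z * (f * v₀ * f⁻¹ * v₀) * z := by rw [hfz]; group
      _ = z * t * z := by rw [← ht]
      _ = t * (z * z) := by rw [h.hE.comm z (om_le _ hzV) t (om_le _ htV), mul_assoc]
      _ = t := by rw [hvv' z hzV, mul_one]
  -- `w`
  obtain ⟨g, hgN, hgc⟩ : ∃ g ∈ normalizer (E : Set G), ¬ Cen (T0 S E) (g * t * g⁻¹) := by
    by_contra hcon
    push Not at hcon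
    exact hfv₀ (hFE.opp f hfS hfN hfE v₀ hv₀ (fun g hg s hs hsN => hcon g hg s ⟨hs, hsN⟩))
  set w := g * t * g⁻¹ with hw
  have hwV : w ∈ om E := conj_mem_of_norm (norm_om hgN) htV
  have htw : t * w = w * t := h.hE.comm t (om_le _ htV) w (om_le _ hwV)
  -- the stabilizer of the Sylow subgroup fixes `t`
  have hst : ∀ m (hm : m ∈ normalizer (E : Set G)), rho E ⟨m, norm_om hm⟩ • h.hE.P0 hAI = h.hE.P0 hAI →
      m * t * m⁻¹ = t := by
    intro m hm hs
    obtain ⟨f', hf'S, hf'N, hk⟩ := h.hE.stab hAI (norm_om hm) hs f hfS hfN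
    have hv'V : m * v₀ * m⁻¹ ∈ om E := conj_mem_of_norm (norm_om hm) hv₀
    have hv'c : ¬ Cen (T0 S E) (m * v₀ * m⁻¹) := by
      intro hc
      have h1 := h.hE.stab_cen hAI (inv_mem hm) (h.hE.stab_inv hAI _ hs) (om_le _ hv'V) hc
      have e : m⁻¹ * (m * v₀ * m⁻¹) * m⁻¹⁻¹ = v₀ := by group
      rw [e] at h1
      exact hv₀c h1
    have hf'E : f' ∉ E := by
      intro hf'E
      apply hfE
      refine h.hE.centV hAI hfS (fun v hv => ?_)
      have hv' : m * v * m⁻¹ ∈ om E := conj_mem_of_norm (norm_om hm) hv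
      have h1 := (mem_centralizer_iff.1 hk _ hv')
      have h2 := h.hE.comm f' hf'E _ (om_le _ hv')
      have h3 : (m * f * m⁻¹) * (m * v * m⁻¹) = (m * v * m⁻¹) * (m * f * m⁻¹) := by
        calc (m * f * m⁻¹) * (m * v * m⁻¹) = f' * ((f'⁻¹ * (m * f * m⁻¹)) * (m * v * m⁻¹)) := by group
          _ = (f' * (m * v * m⁻¹)) * (f'⁻¹ * (m * f * m⁻¹)) := by rw [← h1]; group
          _ = (m * v * m⁻¹) * (m * f * m⁻¹) := by rw [h2]; group
      have h4 : m * (f * v) * m⁻¹ = m * (v * f) * m⁻¹ := by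
        calc m * (f * v) * m⁻¹ = (m * f * m⁻¹) * (m * v * m⁻¹) := by group
          _ = (m * v * m⁻¹) * (m * f * m⁻¹) := h3
          _ = m * (v * f) * m⁻¹ := by group
      exact mul_left_cancel (mul_right_cancel h4)
    have h1 := hcomm f' ⟨hf'S, hf'N⟩ hf'E _ hv'V hv'c
    have h2 := mem_centralizer_iff.1 hk _ hv'V
    refine Eq.trans ?_ h1
    rw [ht]
    set v' := m * v₀ * m⁻¹ with hv'
    set k := f'⁻¹ * (m * f * m⁻¹) with hkdef
    have hmf : m * f * m⁻¹ = f' * k := by rw [hkdef]; group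
    calc m * (f * v₀ * f⁻¹ * v₀) * m⁻¹ = (m * f * m⁻¹) * v' * (m * f * m⁻¹)⁻¹ * v' := by rw [hv']; group
      _ = f' * (k * v') * k⁻¹ * f'⁻¹ * v' := by rw [hmf]; group
      _ = f' * (v' * k) * k⁻¹ * f'⁻¹ * v' := by rw [h2]
      _ = f' * v' * f'⁻¹ * v' := by group
  have hgP : rho E ⟨g, norm_om hgN⟩ • h.hE.P0 hAI ≠ h.hE.P0 hAI := by
    intro h1
    exact hgc (h.hE.stab_cen hAI hgN h1 (om_le _ htV) htc)
  -- conjugates of `w` under `N_S(E)`
  have hws : ∀ s ∈ T0 S E, s * w * s⁻¹ = w ∨ s * w * s⁻¹ = t * w := by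
    intro s hs
    by_cases hsE : s ∈ E
    · left
      rw [h.hE.comm s hsE w (om_le _ hwV)]; group
    · right
      have h1 := hcomm s hs hsE w hwV hgc
      rw [← h1]
      calc s * w * s⁻¹ = s * w * s⁻¹ * (w * w) := by rw [hvv' w hwV, mul_one]
        _ = _ := by group
  -- the conjugates of `t`
  have htm : ∀ m ∈ normalizer (E : Set G), m * t * m⁻¹ = t ∨ m * t * m⁻¹ = w ∨ m * t * m⁻¹ = t * w := by
    intro m hm
    rcases h.hE.sylow_cases hAI hconcl (norm_om hgN) hgP (norm_om hm) with h1 | ⟨s, hsS, hsN, h1⟩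
    · exact Or.inl (hst m hm h1)
    · have hm' : (s * g)⁻¹ * m ∈ normalizer (E : Set G) := mul_mem (inv_mem (mul_mem hsN hgN)) hm
      have h2 := hst _ hm' h1
      have h3 : m * t * m⁻¹ = s * w * s⁻¹ := by
        calc m * t * m⁻¹ = (s * g) * (((s * g)⁻¹ * m) * t * ((s * g)⁻¹ * m)⁻¹) * (s * g)⁻¹ := by group
          _ = (s * g) * t * (s * g)⁻¹ := by rw [h2]
          _ = s * w * s⁻¹ := by rw [hw]; group
      rw [h3]
      exact Or.inr (hws s ⟨hsS, hsN⟩)
  have hwm : ∀ m ∈ normalizer (E : Set G), m * w * m⁻¹ = t ∨ m * w * m⁻¹ = w ∨ m * w * m⁻¹ = t * w := by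
    intro m hm
    have h1 := htm (m * g) (mul_mem hm hgN)
    have e : m * g * t * (m * g)⁻¹ = m * w * m⁻¹ := by rw [hw]; group
    rwa [e] at h1
  have htt := hvv' t htV
  have hww := hvv' w hwV
  have hWinv : ∀ m ∈ normalizer (E : Set G), ∀ y, InW t w y → InW t w (m * y * m⁻¹) := by
    rintro m hm y (rfl | rfl | rfl | rfl)
    · left; group
    · exact Or.inr (htm m hm)
    · exact Or.inr (hwm m hm)
    · have e : m * (t * w) * m⁻¹ = (m * t * m⁻¹) * (m * w * m⁻¹) := by group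
      rw [e]
      rcases htm m hm with h1 | h1 | h1 <;> rcases hwm m hm with h2 | h2 | h2 <;> rw [h1, h2]
      · left; exact htt
      · right; right; right; rfl
      · right; right; left; rw [← mul_assoc, htt, one_mul]
      · right; right; right; exact htw.symm
      · left; exact hww
      · right; left; rw [htw, ← mul_assoc, hww, one_mul]
      · right; right; left; rw [mul_assoc, ← htw, ← mul_assoc, htt, one_mul]
      · right; left; rw [mul_assoc, hww, mul_one]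
      · left
        calc t * w * (t * w) = t * (w * t) * w := by group
          _ = t * (t * w) * w := by rw [htw]
          _ = (t * t) * (w * w) := by group
          _ = 1 := by rw [htt, hww, one_mul]
  -- `A`
  let A : Subgroup G :=
    { carrier := {a | a ∈ E ∧ ∀ g ∈ normalizer (E : Set G), Cen (T0 S E) (g * a * g⁻¹)}
      one_mem' := ⟨one_mem E, fun g _ => by
        have e : g * 1 * g⁻¹ = 1 := by group
        rw [e]; exact Cen.one _⟩
      mul_mem' := by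
        rintro a b ⟨ha, ha'⟩ ⟨hb, hb'⟩
        refine ⟨mul_mem ha hb, fun g hg => ?_⟩
        have e : g * (a * b) * g⁻¹ = (g * a * g⁻¹) * (g * b * g⁻¹) := by group
        rw [e]; exact (ha' g hg).mul (hb' g hg)
      inv_mem' := by
        rintro a ⟨ha, ha'⟩
        refine ⟨inv_mem ha, fun g hg => ?_⟩
        have e : g * a⁻¹ * g⁻¹ = (g * a * g⁻¹)⁻¹ := by group
        rw [e]; exact (ha' g hg).inv }
  -- `E = Ω₁(E) Z`
  have hEZ : ∀ e ∈ E, ∀ u ∈ om E, ¬ Cen (T0 S E) u → Cen (T0 S E) e ∨ Cen (T0 S E) (u * e) := by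
    intro e he u hu huc
    obtain ⟨v, hv, hz, hzc⟩ := h.decomp hAI he
    by_cases hvc : Cen (T0 S E) v
    · left
      have := hvc.mul hzc
      rwa [mul_inv_cancel_left] at this
    · right
      have h1 := (vtwo u hu v hv huc hvc).mul hzc
      have e1 : u⁻¹ * v * (v⁻¹ * e) = u⁻¹ * e := by group
      rw [e1, hvv u hu] at h1
      exact h1
  -- `g⁻¹ t g` is not central
  have hgt : ¬ Cen (T0 S E) (g⁻¹ * t * g) := by
    intro hc
    have h1 := htm g⁻¹ (inv_mem hgN)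
    rw [inv_inv] at h1
    rcases h1 with h2 | h2 | h2
    · apply hgc
      have e : w = t := by
        rw [hw]
        calc g * t * g⁻¹ = g * (g⁻¹ * t * g) * g⁻¹ := by rw [h2]
          _ = t := by group
      rw [e]; exact htc
    · exact hgc (by rw [← h2]; exact hc)
    · apply hgc
      rw [h2] at hc
      have := htc.inv.mul hc
      rwa [inv_mul_cancel_left] at this
  have hgtV : g⁻¹ * t * g ∈ om E := conj_mem_of_norm' (norm_om hgN) htV
  have hA : ∀ z ∈ E, Cen (T0 S E) z → Cen (T0 S E) (g⁻¹ * z * g) → z ∈ A := by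
    intro z hz hzc hgz
    refine ⟨hz, fun m hm => ?_⟩
    rcases h.hE.sylow_cases hAI hconcl (norm_om hgN) hgP (norm_om (inv_mem hm)) with h1 | ⟨s, hsS, hsN, h1⟩
    · have h2 := h.hE.stab_inv hAI _ h1
      exact h.hE.stab_cen hAI hm (by
        have e : (⟨m, norm_om hm⟩ : NV E) = ⟨m⁻¹⁻¹, inv_mem (norm_om (inv_mem hm))⟩ := Subtype.ext (inv_inv m).symm
        rw [e]; exact h2) hz hzc
    · have hm' : (s * g)⁻¹ * m⁻¹ ∈ normalizer (E : Set G) := mul_mem (inv_mem (mul_mem hsN hgN)) (inv_mem hm)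
      have h2 := h.hE.stab_inv hAI (norm_om hm') h1
      have h3 := h.hE.stab_cen hAI (inv_mem hm') h2 (z := g⁻¹ * z * g) (conj_mem_of_norm' hgN hz) hgz
      have e : ((s * g)⁻¹ * m⁻¹)⁻¹ * (g⁻¹ * z * g) * ((s * g)⁻¹ * m⁻¹)⁻¹⁻¹ = m * z * m⁻¹ := by
        have h4 := hzc s ⟨hsS, hsN⟩
        calc ((s * g)⁻¹ * m⁻¹)⁻¹ * (g⁻¹ * z * g) * ((s * g)⁻¹ * m⁻¹)⁻¹⁻¹ = m * (s * z) * s⁻¹ * m⁻¹ := by group
          _ = m * z * m⁻¹ := by rw [h4]; group
      rwa [e] at h3
  have hdec : ∀ e ∈ E, ∃ y, InW t w y ∧ y⁻¹ * e ∈ A := by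
    -- step 2: central elements
    have step : ∀ z ∈ E, Cen (T0 S E) z → z ∈ A ∨ t * z ∈ A := by
      intro z hz hzc
      rcases hEZ _ (conj_mem_of_norm' hgN hz) _ hgtV hgt with h1 | h1
      · exact Or.inl (hA z hz hzc h1)
      · right
        refine hA _ (mul_mem (om_le _ htV) hz) (htc.mul hzc) ?_
        have e : g⁻¹ * (t * z) * g = g⁻¹ * t * g * (g⁻¹ * z * g) := by group
        rw [e]; exact h1
    intro e he
    rcases hEZ e he w hwV hgc with h1 | h1
    · rcases step e he h1 with h2 | h2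
      · exact ⟨1, Or.inl rfl, by rw [inv_one, one_mul]; exact h2⟩
      · exact ⟨t, Or.inr (Or.inl rfl), by rw [hvv t htV]; exact h2⟩
    · rcases step (w * e) (mul_mem (om_le _ hwV) he) h1 with h2 | h2
      · exact ⟨w, Or.inr (Or.inr (Or.inl rfl)), by rw [hvv w hwV]; exact h2⟩
      · refine ⟨t * w, Or.inr (Or.inr (Or.inr rfl)), ?_⟩
        rw [mul_inv_rev, hvv t htV, hvv w hwV, ← htw, mul_assoc]
        exact h2
  exact ⟨t, w, A, h.hE, two, htV, hwV, ht1, htc, hgc, hcomm, hWinv, fun _ => Iff.rfl, hdec,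
    fun h1 => hgc (h1.2 g hgN), g, hgN, hw⟩

end

end Cfsg.Agent.H305.Ess
end

-- part: H305/Chain
section
/-!
# The chain of normalizers of an abelian centralizer in a 2-group

`W` is a class of involutions of the 2-group `S` (under `N ≥ S` normalizing `S`) whose centralizers
in `S` are abelian, `ch S w k` is the `k`-th iterated normalizer of `C_S(w)`. If the class is well behaved
for `k ≤ 1` then it is for all `k`.
-/

set_option autoImplicit false

namespace Cfsg.Agent.H305.Chain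

open Subgroup Cfsg.Agent.Lib.GoldschmidtFusion Cfsg.Agent.H305.Ess

variable {G : Type*} [Group G]

/-- iterated normalizers of `C_S(w)` -/
def ch (S : Subgroup G) (w : G) : ℕ → Subgroup G
  | 0 => S ⊓ centralizer ({w} : Set G)
  | k + 1 => S ⊓ normalizer (ch S w k : Set G)

theorem ch_le (S : Subgroup G) (w : G) (k : ℕ) : ch S w k ≤ S := by
  cases k <;> exact inf_le_left

theorem ch_succ_mem {S : Subgroup G} {w : G} {k : ℕ} {y : G} : y ∈ ch S w (k + 1) ↔ y ∈ S ∧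
    y ∈ normalizer (ch S w k : Set G) := Iff.rfl

theorem ch_zero_mem {S : Subgroup G} {w y : G} : y ∈ ch S w 0 ↔ y ∈ S ∧ y * w = w * y :=
  ⟨fun h => ⟨h.1, mem_centralizer_singleton_iff.1 h.2⟩, fun h => ⟨h.1, mem_centralizer_singleton_iff.2 h.2⟩⟩

theorem ch_mono (S : Subgroup G) (w : G) (k : ℕ) : ch S w k ≤ ch S w (k + 1) :=
  fun _ hy => ⟨ch_le S w k hy, le_normalizer hy⟩

theorem ch_mono' (S : Subgroup G) (w : G) {j k : ℕ} (h : j ≤ k) : ch S w j ≤ ch S w k := by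
  induction h with
  | refl => exact le_rfl
  | step _ ih => exact ih.trans (ch_mono S w _)

theorem cent_le {S : Subgroup G} {w y : G} (k : ℕ) (hy : y ∈ S) (hyw : y * w = w * y) : y ∈ ch S w k :=
  ch_mono' S w (Nat.zero_le k) (ch_zero_mem.2 ⟨hy, hyw⟩)

theorem cj_self {S : Subgroup G} {n : G} (hn : n ∈ normalizer (S : Set G)) : cj n S = S :=
  mem_normalizer_iff_map_conj.1 hn

theorem ch_conj {S : Subgroup G} {n : G} (hn : n ∈ normalizer (S : Set G)) (w : G) (k : ℕ) :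
    ch S (n * w * n⁻¹) k = cj n (ch S w k) := by
  induction k with
  | zero =>
    ext y
    rw [mem_cj, ch_zero_mem, ch_zero_mem]
    constructor
    · rintro ⟨h1, h2⟩
      refine ⟨conj_mem_of_norm' hn h1, ?_⟩
      calc n⁻¹ * y * n * w = n⁻¹ * (y * (n * w * n⁻¹)) * n := by group
        _ = n⁻¹ * ((n * w * n⁻¹) * y) * n := by rw [h2]
        _ = w * (n⁻¹ * y * n) := by group
    · rintro ⟨h1, h2⟩
      have h3 := conj_mem_of_norm hn h1
      have e : n * (n⁻¹ * y * n) * n⁻¹ = y := by group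
      rw [e] at h3
      refine ⟨h3, ?_⟩
      calc y * (n * w * n⁻¹) = n * (n⁻¹ * y * n * w) * n⁻¹ := by group
        _ = n * (w * (n⁻¹ * y * n)) * n⁻¹ := by rw [h2]
        _ = n * w * n⁻¹ * y := by group
  | succ k ih =>
    ext y
    rw [ch_succ_mem, ih, mem_norm_cj, mem_cj, ch_succ_mem]
    constructor
    · rintro ⟨h1, h2⟩
      exact ⟨conj_mem_of_norm' hn h1, h2⟩
    · rintro ⟨h1, h2⟩
      have h3 := conj_mem_of_norm hn h1
      have e : n * (n⁻¹ * y * n) * n⁻¹ = y := by group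
      rw [e] at h3
      exact ⟨h3, h2⟩

/-- conjugacy -/
def Cj (T : Subgroup G) (u v : G) : Prop := ∃ y ∈ T, v = y * u * y⁻¹

theorem Cj.symm {T : Subgroup G} {u v : G} (h : Cj T u v) : Cj T v u := by
  obtain ⟨y, hy, rfl⟩ := h
  exact ⟨y⁻¹, inv_mem hy, by group⟩

theorem Cj.trans {T : Subgroup G} {u v w : G} (h : Cj T u v) (h' : Cj T v w) : Cj T u w := by
  obtain ⟨y, hy, rfl⟩ := h
  obtain ⟨z, hz, rfl⟩ := h'
  exact ⟨z * y, mul_mem hz hy, by group⟩

theorem Cj.mono {T T' : Subgroup G} (hT : T ≤ T') {u v : G} (h : Cj T u v) : Cj T' u v := by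
  obtain ⟨y, hy, rfl⟩ := h
  exact ⟨y, hT hy, rfl⟩

variable [Finite G]

theorem ch_grow {S : Subgroup G} (hS : IsPGroup 2 S) {w : G} {k : ℕ} {x : G} (hx : x ∈ S) (hxk : x ∉ ch S w k) :
    ∃ y ∈ ch S w (k + 1), y ∉ ch S w k := by
  obtain ⟨y, hyS, hyk, hyN⟩ := exists_norm hS (ch_le S w k) hx hxk
  exact ⟨y, ⟨hyS, hyN⟩, hyk⟩

/-- the hypotheses -/
structure CH (S N : Subgroup G) (W : Set G) : Prop where
  p : IsPGroup 2 S
  norm : N ≤ normalizer (S : Set G)
  SN : S ≤ N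
  conj : ∀ u ∈ W, ∀ v ∈ W, ∃ n ∈ N, v = n * u * n⁻¹
  closed : ∀ u ∈ W, ∀ n ∈ N, n * u * n⁻¹ ∈ W
  mem : ∀ u ∈ W, u ∈ S
  sq : ∀ u ∈ W, u * u = 1
  comm : ∀ u ∈ W, ∀ a ∈ S, ∀ b ∈ S, a * u = u * a → b * u = u * b → a * b = b * a
  two : ∀ w ∈ W, ∃ t, ∀ u ∈ W, u * w = w * u → u = w ∨ u = t * w
  three : ∀ w ∈ W, ∀ u ∈ W, ∀ v ∈ W, u ∈ ch S w 1 → v ∈ ch S w 1 →
    u * w = w * u ∨ v * w = w * v ∨ u * v = v * u
  proper : ∀ w ∈ W, ∃ x ∈ S, x ∉ ch S w 1

/-- the statement proved by induction -/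
def Q (S : Subgroup G) (W : Set G) (k : ℕ) : Prop :=
  ∀ w ∈ W, ∀ u ∈ W, ∀ v ∈ W, ch S w k = ch S u k → v ∈ ch S w k →
    Cj (ch S w k) w u ∨ Cj (ch S w k) w v ∨ Cj (ch S w k) u v

namespace CH

variable {S N : Subgroup G} {W : Set G} (h : CH S N W)
include h

theorem closedS {u y : G} (hu : u ∈ W) (hy : y ∈ S) : y * u * y⁻¹ ∈ W := h.closed u hu y (h.SN hy)

omit [Finite G] h in
/-- elements conjugating `w` in the same way -/
theorem mem_of_conj_eq {w y z : G} {k : ℕ} (hy : y ∈ S) (hz : z ∈ ch S w k)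
    (heq : y * w * y⁻¹ = z * w * z⁻¹) : y ∈ ch S w k := by
  have h1 : z⁻¹ * y ∈ ch S w k := by
    refine cent_le k (mul_mem (inv_mem (ch_le S w k hz)) hy) ?_
    calc z⁻¹ * y * w = z⁻¹ * (y * w * y⁻¹) * y := by group
      _ = z⁻¹ * (z * w * z⁻¹) * y := by rw [heq]
      _ = w * (z⁻¹ * y) := by group
  have h2 := mul_mem hz h1
  rwa [mul_inv_cancel_left] at h2

theorem ch_conjS {w y : G} {k : ℕ} (hy : y ∈ ch S w (k + 1)) : ch S (y * w * y⁻¹) k = ch S w k := by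
  rw [ch_conj (h.norm (h.SN hy.1)), cj_eq_iff]
  exact hy.2

theorem self_mem {w : G} (hw : w ∈ W) (k : ℕ) : w ∈ ch S w k := cent_le k (h.mem w hw) rfl

/-- `(M1)` -/
theorem m1 {k : ℕ} (hQ : Q S W k) {w v s : G} (hw : w ∈ W) (hv : v ∈ W) (hvk : v ∈ ch S w k)
    (hs : s ∈ ch S w (k + 1)) (hsk : s ∉ ch S w k) :
    Cj (ch S w k) w v ∨ Cj (ch S w k) (s * w * s⁻¹) v := by
  have hu := h.closedS hw hs.1
  rcases hQ w hw _ hu v hv (h.ch_conjS hs).symm hvk with h1 | h1 | h1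
  · exfalso
    obtain ⟨z, hz, hze⟩ := h1
    exact hsk (mem_of_conj_eq hs.1 hz hze)
  · exact Or.inl h1
  · exact Or.inr h1

theorem m1' {k : ℕ} (hQ : Q S W k) {w v s : G} (hw : w ∈ W) (hv : v ∈ W) (hvk : v ∈ ch S w k)
    (hs : s ∈ ch S w (k + 1)) (hsk : s ∉ ch S w k) : Cj (ch S w (k + 1)) w v := by
  rcases h.m1 hQ hw hv hvk hs hsk with h1 | h1
  · exact h1.mono (ch_mono S w k)
  · exact Cj.trans ⟨s, hs, rfl⟩ (h1.mono (ch_mono S w k))

/-- `(M2)` -/
theorem m2 {k : ℕ} (hQ : Q S W k) {w s y : G} (hw : w ∈ W)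
    (hs : s ∈ ch S w (k + 1)) (hsk : s ∉ ch S w k) (hy : y ∈ ch S w (k + 1)) (hyk : y ∉ ch S w k) :
    s⁻¹ * y ∈ ch S w k := by
  have hv := h.closedS hw hy.1
  have hvk : y * w * y⁻¹ ∈ ch S w k := by
    rw [← h.ch_conjS hy]
    exact h.self_mem hv k
  rcases h.m1 hQ hw hv hvk hs hsk with ⟨z, hz, hze⟩ | ⟨z, hz, hze⟩
  · exact absurd (mem_of_conj_eq hy.1 hz hze) hyk
  · -- `y w y⁻¹ = z s w s⁻¹ z⁻¹`
    have h1 : s⁻¹ * z⁻¹ * y ∈ ch S w k := by
      refine cent_le k (mul_mem (mul_mem (inv_mem hs.1) (inv_mem (ch_le S w k hz))) hy.1) ?_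
      calc s⁻¹ * z⁻¹ * y * w = s⁻¹ * z⁻¹ * (y * w * y⁻¹) * y := by group
        _ = s⁻¹ * z⁻¹ * (z * (s * w * s⁻¹) * z⁻¹) * y := by rw [hze]
        _ = w * (s⁻¹ * z⁻¹ * y) := by group
    have h2 : s⁻¹ * z * s ∈ ch S w k := conj_mem_of_norm' hs.2 hz
    have h3 := mul_mem h2 h1
    have e : s⁻¹ * z * s * (s⁻¹ * z⁻¹ * y) = s⁻¹ * y := by group
    rwa [e] at h3

/-- generation of `ch S w k` by `C_S(w)` and a subgroup containing `w`, not in `ch S w (k-1)` -/
theorem gen {k : ℕ} (hQ : ∀ j, j ≤ k → Q S W j) {w : G} (hw : w ∈ W) {D : Subgroup G} (hwD : w ∈ D)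
    (hDk : D ≤ ch S w (k + 1)) {x : G} (hx : x ∈ D) (hxk : x ∉ ch S w k) :
    ∀ y ∈ ch S w (k + 1), ∃ d ∈ D, d⁻¹ * y ∈ S ∧ (d⁻¹ * y) * w = w * (d⁻¹ * y) := by
  have hDS : D ≤ S := hDk.trans (ch_le S w _)
  have key : ∀ j, j ≤ k + 1 → ∀ y ∈ ch S w j, ∃ d ∈ D, d ∈ ch S w j ∧ d⁻¹ * y ∈ S ∧
      (d⁻¹ * y) * w = w * (d⁻¹ * y) := by
    intro j
    induction j with
    | zero =>
      intro _ y hy
      rw [ch_zero_mem] at hy
      exact ⟨1, one_mem D, one_mem _, by rw [inv_one, one_mul]; exact hy.1, by rw [inv_one, one_mul]; exact hy.2⟩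
    | succ j ih =>
      intro hj y hy
      have hjk : j ≤ k := by omega
      have hxj : x ∉ ch S w j := fun h1 => hxk (ch_mono' S w hjk h1)
      -- an element of `D` normalizing `D ∩ ch j`
      obtain ⟨d, hdD, hdj, hdN⟩ := exists_norm (T := D) (H := D ⊓ ch S w j) (h.p.to_le hDS) inf_le_left hx
        (fun h1 => hxj h1.2)
      have hdj' : d ∉ ch S w j := fun h1 => hdj ⟨hdD, h1⟩
      obtain ⟨s, hs, hsj⟩ := ch_grow h.p (h.mem w hw |> fun _ => hDS hx) hxj
      have h1 : d * w * d⁻¹ ∈ ch S w j := (conj_mem_of_norm hdN ⟨hwD, h.self_mem hw j⟩).2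
      have h2 := h.m1' (hQ j hjk) hw (h.closedS hw (hDS hdD)) h1 hs hsj
      obtain ⟨z, hz, hze⟩ := h2
      have hd1 : d ∈ ch S w (j + 1) := mem_of_conj_eq (hDS hdD) hz hze
      by_cases hyj : y ∈ ch S w j
      · obtain ⟨d', hd'D, hd'j, h3, h4⟩ := ih (by omega) y hyj
        exact ⟨d', hd'D, ch_mono S w j hd'j, h3, h4⟩
      · have h5 := h.m2 (hQ j hjk) hw hd1 hdj' hy hyj
        obtain ⟨d', hd'D, hd'j, h3, h4⟩ := ih (by omega) _ h5
        refine ⟨d * d', mul_mem hdD hd'D, mul_mem hd1 (ch_mono S w j hd'j), ?_, ?_⟩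
        · have e : (d * d')⁻¹ * y = d'⁻¹ * (d⁻¹ * y) := by group
          rw [e]; exact h3
        · have e : (d * d')⁻¹ * y = d'⁻¹ * (d⁻¹ * y) := by group
          rw [e]; exact h4
  intro y hy
  obtain ⟨d, hd, -, h1, h2⟩ := key (k + 1) le_rfl y hy
  exact ⟨d, hd, h1, h2⟩

end CH

/-! ### Dihedral groups -/

section dihedral

omit [Finite G]

/-- the squares of the rotations -/
abbrev YY (w v : G) : Subgroup G := zpowers ((w * v) * (w * v))

variable {w v : G} (hw : w * w = 1) (hv : v * v = 1)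
include hw hv

omit hv in
theorem conj_w_c : w * (w * v) * w⁻¹ = v * w := by
  rw [inv_eq_of_mul_eq_one_right hw, ← mul_assoc, hw, one_mul]

theorem c_inv : (w * v)⁻¹ = v * w := by
  rw [mul_inv_rev, inv_eq_of_mul_eq_one_right hw, inv_eq_of_mul_eq_one_right hv]

theorem w_inverts {y : G} (hy : y ∈ YY w v) : w * y * w⁻¹ = y⁻¹ := by
  obtain ⟨k, rfl⟩ := mem_zpowers_iff.1 hy
  have h1 : w * ((w * v) * (w * v)) * w⁻¹ = ((w * v) * (w * v))⁻¹ := by
    have e : w * ((w * v) * (w * v)) * w⁻¹ = (w * (w * v) * w⁻¹) * (w * (w * v) * w⁻¹) := by group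
    rw [e, conj_w_c hw, ← c_inv hw hv]
    exact (mul_inv_rev _ _).symm
  rw [← conj_zpow, h1, inv_zpow]

theorem v_inverts {y : G} (hy : y ∈ YY w v) : v * y * v⁻¹ = y⁻¹ := by
  obtain ⟨k, rfl⟩ := mem_zpowers_iff.1 hy
  have h1 : v * ((w * v) * (w * v)) * v⁻¹ = ((w * v) * (w * v))⁻¹ := by
    have e : v * ((w * v) * (w * v)) * v⁻¹ = (v * w) * (v * w) := by group
    rw [e, ← c_inv hw hv]
    exact (mul_inv_rev _ _).symm
  rw [← conj_zpow, h1, inv_zpow]

/-- elements normalizing `Y` and centralizing `w` modulo `Y` -/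
def BB (w v : G) : Subgroup G where
  carrier := {g | g ∈ normalizer (YY w v : Set G) ∧ g * w * g⁻¹ * w⁻¹ ∈ YY w v}
  one_mem' := ⟨one_mem _, by
    have e : 1 * w * 1⁻¹ * w⁻¹ = 1 := by group
    rw [e]; exact one_mem _⟩
  mul_mem' := by
    rintro a b ⟨ha, ha'⟩ ⟨hb, hb'⟩
    refine ⟨mul_mem ha hb, ?_⟩
    have e : a * b * w * (a * b)⁻¹ * w⁻¹ = (a * (b * w * b⁻¹ * w⁻¹) * a⁻¹) * (a * w * a⁻¹ * w⁻¹) := by group
    rw [e]
    exact mul_mem (conj_mem_of_norm ha hb') ha'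
  inv_mem' := by
    rintro a ⟨ha, ha'⟩
    refine ⟨inv_mem ha, ?_⟩
    have e : a⁻¹ * w * a⁻¹⁻¹ * w⁻¹ = a⁻¹ * (a * w * a⁻¹ * w⁻¹)⁻¹ * a := by group
    rw [e]
    exact conj_mem_of_norm' ha (inv_mem ha')

omit hw hv in
theorem norm_of_inverts {Y : Subgroup G} {g : G} (hg : ∀ y ∈ Y, g * y * g⁻¹ = y⁻¹) : g ∈ normalizer (Y : Set G) := by
  rw [mem_normalizer_iff]
  intro y
  constructor
  · intro hy
    rw [hg y hy]; exact inv_mem hy
  · intro hy
    have h1 := hg _ hy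
    have h2 : g * y⁻¹ * g⁻¹ = g * (g * y * g⁻¹) * g⁻¹ := by rw [h1]; group
    have h3 : y⁻¹ = g * y * g⁻¹ := mul_left_cancel (mul_right_cancel h2)
    rw [← h3] at hy
    have := inv_mem hy
    rwa [inv_inv] at this

theorem mem_BB {d : G} (hd : d ∈ closure ({w, v} : Set G)) :
    d ∈ normalizer (YY w v : Set G) ∧ d * w * d⁻¹ * w⁻¹ ∈ YY w v := by
  have h1 : closure ({w, v} : Set G) ≤ BB w v := by
    rw [closure_le]
    rintro y (rfl | rfl)
    · refine ⟨norm_of_inverts (fun z hz => w_inverts hw hv hz), ?_⟩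
      have e : y * y * y⁻¹ * y⁻¹ = 1 := by group
      rw [e]; exact one_mem _
    · refine ⟨norm_of_inverts (fun z hz => v_inverts hw hv hz), ?_⟩
      have e : y * w * y⁻¹ * w⁻¹ = ((w * y) * (w * y))⁻¹ := by
        rw [mul_inv_rev, c_inv hw hv, inv_eq_of_mul_eq_one_right hw, inv_eq_of_mul_eq_one_right hv]
        group
      rw [e]
      exact inv_mem (mem_zpowers _)
  exact h1 hd

end dihedral

namespace CH

variable {S N : Subgroup G} {W : Set G} (h : CH S N W)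
include h

theorem y1 {k : ℕ} (hQ : ∀ j, j ≤ k → Q S W j) {w v : G} (hw : w ∈ W) (hv : v * v = 1)
    (hvk : v ∈ ch S w (k + 1)) (hvk' : v ∉ ch S w k) {y : G} (hy : y ∈ ch S w (k + 1)) :
    y * w * y⁻¹ * w⁻¹ ∈ YY w v := by
  have hDk : closure ({w, v} : Set G) ≤ ch S w (k + 1) := by
    rw [closure_le]
    rintro z (rfl | rfl)
    · exact h.self_mem hw _
    · exact hvk
  obtain ⟨d, hd, h1, h2⟩ := h.gen hQ hw (D := closure ({w, v} : Set G)) (subset_closure (by simp)) hDk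
    (x := v) (subset_closure (by simp)) hvk' y hy
  have h3 := (mem_BB (h.sq w hw) hv hd).2
  have e : y * w * y⁻¹ * w⁻¹ = d * w * d⁻¹ * w⁻¹ := by
    calc y * w * y⁻¹ * w⁻¹ = d * ((d⁻¹ * y) * w) * y⁻¹ * w⁻¹ := by group
      _ = d * (w * (d⁻¹ * y)) * y⁻¹ * w⁻¹ := by rw [h2]
      _ = d * w * d⁻¹ * w⁻¹ := by group
  rw [e]
  exact h3

theorem y2 {k : ℕ} (hk : 1 ≤ k) (hQ : ∀ j, j ≤ k → Q S W j) {w v : G} (hw : w ∈ W) (hv : v * v = 1)
    (hvk : v ∈ ch S w (k + 1)) (hvk' : v ∉ ch S w k) :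
    ((w * v) * (w * v)) * ((w * v) * (w * v)) ≠ 1 := by
  intro hc
  have hvS := ch_le S w _ hvk
  obtain ⟨s₀, hs₀, hs₀'⟩ := ch_grow h.p (k := 0) hvS (fun h1 => hvk' (ch_mono' S w (Nat.zero_le k) h1))
  obtain ⟨s₁, hs₁, hs₁'⟩ := ch_grow h.p (k := 1) hvS (fun h1 => hvk' (ch_mono' S w hk h1))
  have key : ∀ s ∈ ch S w (k + 1), s ∉ ch S w 0 → s * w * s⁻¹ * w⁻¹ = (w * v) * (w * v) := by
    intro s hs hs'
    have h1 := h.y1 hQ hw hv hvk hvk' hs
    obtain ⟨j, hj⟩ := mem_zpowers_iff.1 h1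
    rcases Int.even_or_odd' j with ⟨i, rfl | rfl⟩
    · exfalso
      have h2 : s * w * s⁻¹ * w⁻¹ = 1 := by
        rw [← hj, zpow_mul]
        have : ((w * v) * (w * v)) ^ (2 : ℤ) = 1 := by
          rw [show (2 : ℤ) = ((2 : ℕ) : ℤ) from rfl, zpow_natCast, pow_two, hc]
        rw [this, one_zpow]
      apply hs'
      refine cent_le 0 (ch_le S w _ hs) ?_
      rw [mul_inv_eq_one, mul_inv_eq_iff_eq_mul] at h2
      exact h2
    · rw [← hj, zpow_add, zpow_mul]
      have : ((w * v) * (w * v)) ^ (2 : ℤ) = 1 := by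
        rw [show (2 : ℤ) = ((2 : ℕ) : ℤ) from rfl, zpow_natCast, pow_two, hc]
      rw [this, one_zpow, one_mul, zpow_one]
  have h0 := key s₀ (ch_mono' S w (by omega) hs₀) hs₀'
  have h1 := key s₁ (ch_mono' S w (by omega) hs₁) (fun h2 => hs₁' (ch_mono S w 0 h2))
  rw [← h1] at h0
  have h2 : s₁ * w * s₁⁻¹ = s₀ * w * s₀⁻¹ := (mul_right_cancel h0).symm
  exact hs₁' (mem_of_conj_eq (ch_le S w _ hs₁) hs₀ h2)

/-- **three involutions** -/
theorem three_inv {k : ℕ} (hk : 1 ≤ k) (hQ : ∀ j, j ≤ k → Q S W j) {w u v : G} (hw : w ∈ W) (hu : u ∈ W)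
    (hv : v ∈ W) (hwu : ch S w (k + 1) = ch S u (k + 1)) (hvk : v ∈ ch S w (k + 1))
    (h1 : u ∉ ch S w k) (h2 : v ∉ ch S w k) (h3 : w ∉ ch S u k) (h4 : v ∉ ch S u k) : False := by
  have hww := h.sq w hw
  have huu := h.sq u hu
  have hvv := h.sq v hv
  have hwi : w⁻¹ = w := inv_eq_of_mul_eq_one_right hww
  have hui : u⁻¹ = u := inv_eq_of_mul_eq_one_right huu
  have hvi : v⁻¹ = v := inv_eq_of_mul_eq_one_right hvv
  have hwk : w ∈ ch S w (k + 1) := h.self_mem hw _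
  have huk : u ∈ ch S u (k + 1) := h.self_mem hu _
  have huk' : u ∈ ch S w (k + 1) := by rw [hwu]; exact huk
  have hwk' : w ∈ ch S u (k + 1) := by rw [← hwu]; exact hwk
  have hvk' : v ∈ ch S u (k + 1) := by rw [← hwu]; exact hvk
  set c₁ := w * v with hc₁
  set c₂ := w * u with hc₂
  set p := c₁ * c₁ with hp
  set q := c₂ * c₂ with hq
  set r := (u * v) * (u * v) with hr
  have hc₁i : c₁⁻¹ = v * w := c_inv hww hvv
  have hc₂i : c₂⁻¹ = u * w := c_inv hww huu
  -- `q ∈ ⟨p⟩`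
  have e1 : q ∈ zpowers p := by
    have h5 := h.y1 hQ hw hvv hvk h2 huk'
    have e : u * w * u⁻¹ * w⁻¹ = q⁻¹ := by
      rw [hq, mul_inv_rev, hc₂i, hwi, hui]; group
    rw [e] at h5
    have := inv_mem h5
    rwa [inv_inv] at this
  have e2 : p ∈ zpowers q := by
    have h5 := h.y1 hQ hw huu huk' h1 hvk
    have e : v * w * v⁻¹ * w⁻¹ = p⁻¹ := by
      rw [hp, mul_inv_rev, hc₁i, hwi, hvi]; group
    rw [e] at h5
    have := inv_mem h5
    rwa [inv_inv] at this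
  have hq' : (u * w) * (u * w) = q⁻¹ := by rw [hq, mul_inv_rev, hc₂i]
  have e3 : q ∈ zpowers r := by
    have h5 := h.y1 hQ hu hvv hvk' h4 hwk'
    have e : w * u * w⁻¹ * u⁻¹ = q := by rw [hwi, hui, hq, hc₂]; group
    rw [e] at h5
    exact h5
  have e4 : r ∈ zpowers q := by
    have h5 := h.y1 hQ hu hww hwk' h3 hvk'
    have e : v * u * v⁻¹ * u⁻¹ = r⁻¹ := by
      rw [hr, mul_inv_rev, mul_inv_rev, hui, hvi]; group
    rw [e, YY, hq', zpowers_inv] at h5
    have := inv_mem h5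
    rwa [inv_inv] at this
  have hpp := h.y2 hk hQ hw hvv hvk h2
  -- commutations
  have hwinv : ∀ y ∈ zpowers p, w * y * w⁻¹ = y⁻¹ := fun y hy => w_inverts hww hvv hy
  have hpq : zpowers p = zpowers q := le_antisymm (by rw [zpowers_le]; exact e2) (by rw [zpowers_le]; exact e1)
  have hc₁Y : ∀ y ∈ zpowers p, c₁ * y = y * c₁ := by
    intro y hy
    obtain ⟨j, rfl⟩ := mem_zpowers_iff.1 hy
    have h5 : Commute c₁ p := (Commute.refl c₁).mul_right (Commute.refl c₁)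
    exact (h5.zpow_right j).eq
  have hc₂Y : ∀ y ∈ zpowers p, c₂ * y = y * c₂ := by
    intro y hy
    rw [hpq] at hy
    obtain ⟨j, rfl⟩ := mem_zpowers_iff.1 hy
    have h5 : Commute c₂ q := (Commute.refl c₂).mul_right (Commute.refl c₂)
    exact (h5.zpow_right j).eq
  have hYY : ∀ y ∈ zpowers p, ∀ z ∈ zpowers p, y * z = z * y := by
    intro y hy z hz
    obtain ⟨i, rfl⟩ := mem_zpowers_iff.1 hy
    obtain ⟨j, rfl⟩ := mem_zpowers_iff.1 hz
    rw [← zpow_add, ← zpow_add, add_comm]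
  -- `κ`
  have hc₁k : c₁ ∈ ch S w (k + 1) := mul_mem hwk hvk
  obtain ⟨κ, hκ, hκe⟩ : ∃ κ ∈ zpowers p, c₁ * c₂ * c₁⁻¹ = κ * c₂ := by
    have h5 := h.y1 hQ hw hvv hvk h2 hc₁k
    have h6 : c₁ * u * c₁⁻¹ * u⁻¹ ∈ zpowers p := by
      have := h.y1 hQ hu hww hwk' h3 (y := c₁) (by rw [← hwu]; exact hc₁k)
      rw [YY, hq', zpowers_inv, ← hpq] at this
      exact this
    set y₁ := c₁ * w * c₁⁻¹ * w⁻¹ with hy₁
    set y₂ := c₁ * u * c₁⁻¹ * u⁻¹ with hy₂
    refine ⟨y₁ * (w * y₂ * w⁻¹), mul_mem h5 (by rw [hwinv y₂ h6]; exact inv_mem h6), ?_⟩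
    rw [hy₁, hy₂, hc₂]
    group
  have hκ2 : κ * κ = 1 := by
    have h5 : w * (c₁ * c₂ * c₁⁻¹) * w⁻¹ = c₁⁻¹ * c₂⁻¹ * c₁ := by
      have a1 : w * c₁ * w⁻¹ = c₁⁻¹ := by rw [hc₁i, hc₁]; exact conj_w_c hww
      have a2 : w * c₂ * w⁻¹ = c₂⁻¹ := by rw [hc₂i, hc₂]; exact conj_w_c hww
      have e : w * (c₁ * c₂ * c₁⁻¹) * w⁻¹ = (w * c₁ * w⁻¹) * (w * c₂ * w⁻¹) * (w * c₁ * w⁻¹)⁻¹ := by group
      rw [e, a1, a2, inv_inv]
    have h6 : w * (κ * c₂) * w⁻¹ = κ⁻¹ * c₂⁻¹ := by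
      have a2 : w * c₂ * w⁻¹ = c₂⁻¹ := by rw [hc₂i, hc₂]; exact conj_w_c hww
      have e : w * (κ * c₂) * w⁻¹ = (w * κ * w⁻¹) * (w * c₂ * w⁻¹) := by group
      rw [e, a2, hwinv κ hκ]
    rw [hκe, h6] at h5
    -- `c₁⁻¹ c₂ c₁ = c₂ κ`
    have h7 : c₁⁻¹ * c₂ * c₁ = c₂ * κ := by
      have h8 := congrArg (fun x => x⁻¹) h5
      simp only [mul_inv_rev, inv_inv] at h8
      rw [h8]; group
    have h8 : c₂ = κ * (κ * c₂) := by
      calc c₂ = c₁ * (c₁⁻¹ * c₂ * c₁) * c₁⁻¹ := by group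
        _ = c₁ * (c₂ * κ) * c₁⁻¹ := by rw [h7]
        _ = c₁ * (κ * c₂) * c₁⁻¹ := by rw [hc₂Y κ hκ]
        _ = (c₁ * κ) * c₂ * c₁⁻¹ := by group
        _ = κ * (c₁ * c₂ * c₁⁻¹) := by rw [hc₁Y κ hκ]; group
        _ = κ * (κ * c₂) := by rw [hκe]
    have h9 : κ * κ * c₂ = 1 * c₂ := by rw [one_mul, mul_assoc, ← h8]
    exact mul_right_cancel h9
  -- `r² = q⁻² p²`
  have hri : r = κ⁻¹ * q⁻¹ * p := by
    have huv : u * v = c₂⁻¹ * c₁ := by rw [hc₂i, hc₁]; calc u * v = u * (w * w) * v := by rw [hww, mul_one]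
                                                        _ = u * w * (w * v) := by group
    have h5 : c₁ * c₂⁻¹ = κ⁻¹ * c₂⁻¹ * c₁ := by
      have h6 := congrArg (fun x => x⁻¹) hκe
      simp only [mul_inv_rev, inv_inv] at h6
      -- `c₁ (c₂⁻¹ c₁⁻¹) = c₂⁻¹ κ⁻¹`
      have h7 : c₂⁻¹ * κ⁻¹ = κ⁻¹ * c₂⁻¹ := by
        rw [← mul_inv_rev, ← mul_inv_rev, hc₂Y κ hκ]
      rw [← h7, ← h6]; group
    rw [hr, huv]
    calc c₂⁻¹ * c₁ * (c₂⁻¹ * c₁) = c₂⁻¹ * (c₁ * c₂⁻¹) * c₁ := by group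
      _ = c₂⁻¹ * κ⁻¹ * c₂⁻¹ * (c₁ * c₁) := by rw [h5]; group
      _ = κ⁻¹ * c₂⁻¹ * c₂⁻¹ * (c₁ * c₁) := by
          have h7 : c₂⁻¹ * κ⁻¹ = κ⁻¹ * c₂⁻¹ := by
            rw [← mul_inv_rev, ← mul_inv_rev, hc₂Y κ hκ]
          rw [h7]
      _ = κ⁻¹ * q⁻¹ * p := by rw [hq, hp]; group
  obtain ⟨a, ha⟩ := mem_zpowers_iff.1 e1
  obtain ⟨a', ha'⟩ := mem_zpowers_iff.1 e2
  obtain ⟨b, hb⟩ := mem_zpowers_iff.1 (hpq ▸ e4 : r ∈ zpowers p)
  obtain ⟨b', hb'⟩ := mem_zpowers_iff.1 e3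
  -- the order of `p` is divisible by four
  have hpS : p ∈ S := ch_le S w _ (mul_mem hc₁k hc₁k)
  have h4p : 4 ∣ orderOf p := by
    obtain ⟨m, hm⟩ := h.p ⟨p, hpS⟩
    have hm' : p ^ 2 ^ m = 1 := congrArg Subtype.val hm
    obtain ⟨i, -, hi⟩ := (Nat.dvd_prime_pow Nat.prime_two).1 (orderOf_dvd_of_pow_eq_one hm')
    rcases i with _ | _ | i
    · exfalso
      rw [pow_zero, orderOf_eq_one_iff] at hi
      exact hpp (by change p * p = 1; rw [hi, one_mul])
    · exfalso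
      have h5 := pow_orderOf_eq_one p
      rw [hi, zero_add, pow_one, pow_two] at h5
      exact hpp h5
    · rw [hi]
      exact pow_dvd_pow 2 (by omega : 2 ≤ i + 1 + 1)
  have h4p' : (4 : ℤ) ∣ (orderOf p : ℤ) := by exact_mod_cast h4p
  have hodd_a : a * a' % 2 = 1 := by
    have h5 : p ^ (a * a' - 1) = 1 := by
      rw [zpow_sub, zpow_mul, ha, ha', zpow_one, mul_inv_cancel]
    have h6 := (orderOf_dvd_iff_zpow_eq_one.2 h5)
    have h7 : (4 : ℤ) ∣ a * a' - 1 := h4p'.trans h6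
    omega
  have hodd_b : b * b' * a' % 2 = 1 := by
    have h5 : p ^ (b * b' * a' - 1) = 1 := by
      rw [zpow_sub, zpow_mul, zpow_mul, hb, hb', ha', zpow_one, mul_inv_cancel]
    have h6 := (orderOf_dvd_iff_zpow_eq_one.2 h5)
    have h7 : (4 : ℤ) ∣ b * b' * a' - 1 := h4p'.trans h6
    omega
  have hodd_a' : a % 2 = 1 := by
    rcases Int.emod_two_eq_zero_or_one a with h5 | h5
    · rw [Int.mul_emod, h5] at hodd_a; simp at hodd_a
    · exact h5
  have hodd_b' : b % 2 = 1 := by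
    rcases Int.emod_two_eq_zero_or_one b with h5 | h5
    · rw [mul_assoc, Int.mul_emod, h5] at hodd_b; simp at hodd_b
    · exact h5
  have hfin : p ^ (2 * b + 2 * a - 2) = 1 := by
    have h5 : r * r = q⁻¹ * q⁻¹ * (p * p) := by
      have a1 : κ⁻¹ * κ⁻¹ = 1 := by rw [← mul_inv_rev, hκ2, inv_one]
      have a2 := hYY q⁻¹ (inv_mem e1) κ⁻¹ (inv_mem hκ)
      have a3 := hYY p (mem_zpowers p) (κ⁻¹ * q⁻¹) (mul_mem (inv_mem hκ) (inv_mem e1))
      calc r * r = κ⁻¹ * q⁻¹ * (p * (κ⁻¹ * q⁻¹)) * p := by rw [hri]; group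
        _ = κ⁻¹ * (q⁻¹ * κ⁻¹) * q⁻¹ * (p * p) := by rw [a3]; group
        _ = (κ⁻¹ * κ⁻¹) * (q⁻¹ * q⁻¹ * (p * p)) := by rw [a2]; group
        _ = q⁻¹ * q⁻¹ * (p * p) := by rw [a1, one_mul]
    rw [← hb, ← ha] at h5
    have h6 : p ^ (2 * b + 2 * a - 2) = (p ^ b * p ^ b) * ((p ^ a)⁻¹ * (p ^ a)⁻¹ * (p * p))⁻¹ := by
      group
    rw [h6, h5, mul_inv_cancel]
  have h5 := (orderOf_dvd_iff_zpow_eq_one.2 hfin)
  have h6 : (4 : ℤ) ∣ 2 * b + 2 * a - 2 := h4p'.trans h5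
  omega

theorem q_zero : Q S W 0 := by
  intro w hw u hu v hv heq hvk
  obtain ⟨t, ht⟩ := h.two w hw
  have hu0 : u ∈ ch S w 0 := by rw [heq]; exact h.self_mem hu 0
  have h1 := ht u hu (ch_zero_mem.1 hu0).2
  have h2 := ht v hv (ch_zero_mem.1 hvk).2
  have hone : ∀ x : G, Cj (ch S w 0) x x := fun x => ⟨1, one_mem _, by group⟩
  rcases h1 with rfl | rfl
  · exact Or.inl (hone _)
  · rcases h2 with rfl | rfl
    · exact Or.inr (Or.inl (hone _))
    · exact Or.inr (Or.inr (hone _))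

theorem q_one : Q S W 1 := by
  intro w hw u hu v hv heq hvk
  have hgrow : ∀ w ∈ W, ∃ s ∈ ch S w 1, s ∉ ch S w 0 := by
    intro w hw
    obtain ⟨x, hx, hx1⟩ := h.proper w hw
    exact ch_grow h.p hx (fun h1 => hx1 (ch_mono S w 0 h1))
  have huk : u ∈ ch S w 1 := by rw [heq]; exact h.self_mem hu 1
  rcases h.three w hw u hu v hv huk hvk with h1 | h1 | h1
  · obtain ⟨s, hs, hs'⟩ := hgrow w hw
    exact Or.inl (h.m1' h.q_zero hw hu (ch_zero_mem.2 ⟨h.mem u hu, h1⟩) hs hs')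
  · obtain ⟨s, hs, hs'⟩ := hgrow w hw
    exact Or.inr (Or.inl (h.m1' h.q_zero hw hv (ch_zero_mem.2 ⟨h.mem v hv, h1⟩) hs hs'))
  · obtain ⟨s, hs, hs'⟩ := hgrow u hu
    have h2 := h.m1' h.q_zero hu hv (ch_zero_mem.2 ⟨h.mem v hv, h1.symm⟩) hs hs'
    rw [← heq] at h2
    exact Or.inr (Or.inr h2)

theorem card_ch {w u : G} (hw : w ∈ W) (hu : u ∈ W) (k : ℕ) : Nat.card (ch S u k) = Nat.card (ch S w k) := by
  obtain ⟨n, hn, rfl⟩ := h.conj w hw u hu
  rw [ch_conj (h.norm hn), card_cj]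

theorem q_succ {k : ℕ} (hk : 1 ≤ k) (hQ : ∀ j, j ≤ k → Q S W j) : Q S W (k + 1) := by
  intro w hw u hu v hv heq hvk
  by_cases hex : ∃ s ∈ ch S w (k + 1), s ∉ ch S w k
  · obtain ⟨s, hs, hs'⟩ := hex
    obtain ⟨s', hs₁, hs₁'⟩ : ∃ s ∈ ch S u (k + 1), s ∉ ch S u k := by
      by_contra hcon
      push Not at hcon
      have h1 : ch S u (k + 1) ≤ ch S u k := hcon
      have h2 : ch S w k = ch S w (k + 1) := by
        refine eq_of_le_of_card_ge (ch_mono S w k) ?_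
        rw [← h.card_ch hw hu k, heq]
        exact Nat.card_le_card_of_injective _ (inclusion_injective h1)
      exact hs' (by rw [h2]; exact hs)
    have huk : u ∈ ch S w (k + 1) := by rw [heq]; exact h.self_mem hu _
    have hwk : w ∈ ch S u (k + 1) := by rw [← heq]; exact h.self_mem hw _
    by_cases h1 : u ∈ ch S w k
    · exact Or.inl (h.m1' (hQ k le_rfl) hw hu h1 hs hs')
    by_cases h2 : v ∈ ch S w k
    · exact Or.inr (Or.inl (h.m1' (hQ k le_rfl) hw hv h2 hs hs'))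
    by_cases h3 : w ∈ ch S u k
    · have h5 := h.m1' (hQ k le_rfl) hu hw h3 hs₁ hs₁'
      rw [← heq] at h5
      exact Or.inl h5.symm
    by_cases h4 : v ∈ ch S u k
    · have h5 := h.m1' (hQ k le_rfl) hu hv h4 hs₁ hs₁'
      rw [← heq] at h5
      exact Or.inr (Or.inr h5)
    exact (h.three_inv hk hQ hw hu hv heq hvk h1 h2 h3 h4).elim
  · push Not at hex
    have hS : ∀ x ∈ S, x ∈ ch S w k := by
      intro x hx
      by_contra hxk
      obtain ⟨y, hy, hyk⟩ := ch_grow h.p hx hxk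
      exact hyk (hex y hy)
    have h1 : ch S w k = S := le_antisymm (ch_le S w k) hS
    have h2 : ch S u k = S := by
      refine eq_of_le_of_card_ge (ch_le S u k) ?_
      rw [h.card_ch hw hu k, h1]
    have h3 : ch S w k = ch S w (k + 1) := le_antisymm (ch_mono S w k) (fun x hx => hS x (ch_le S w _ hx))
    have h4 := hQ k le_rfl w hw u hu v hv (h1.trans h2.symm) (hS v (h.mem v hv))
    rw [h3] at h4
    exact h4

/-- **Q holds for all `k`** -/
theorem q_all (k : ℕ) : Q S W k := by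
  induction k using Nat.strong_induction_on with
  | _ k ih =>
    rcases k with _ | _ | k
    · exact h.q_zero
    · exact h.q_one
    · exact h.q_succ (by omega) (fun j hj => ih j (by omega))

end CH

end Cfsg.Agent.H305.Chain
end

-- part: H305/EndA
section
/-!
# Endgame: first consequences of the structure of non-normal essential subgroups
-/

set_option autoImplicit false

namespace Cfsg.Agent.H305.Ess

open Subgroup Cfsg.Agent.Lib.GoldschmidtFusion Cfsg.Agent.H305.FF Cfsg.Agent.H305.Chain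
open scoped Pointwise commutatorElement

variable {G : Type*} [Group G]

namespace Q2

variable {S : Sylow 2 G} {E : Subgroup G} {t w : G} {A : Subgroup G} (q : Q2 S E t w A)
include q

theorem tt [Finite G] : t * t = 1 := (q.hE.mem_om'.1 q.tV).2
theorem ww [Finite G] : w * w = 1 := (q.hE.mem_om'.1 q.wV).2
theorem tE : t ∈ E := om_le E q.tV
theorem wE : w ∈ E := om_le E q.wV
theorem wS : w ∈ (S : Subgroup G) := q.hE.le q.wE
theorem tS : t ∈ (S : Subgroup G) := q.hE.le q.tE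
theorem tw : t * w = w * t := q.hE.comm t q.tE w q.wE
theorem AE {a : G} (ha : a ∈ A) : a ∈ E := ((q.mem_A a).1 ha).1
theorem AS {a : G} (ha : a ∈ A) : a ∈ (S : Subgroup G) := q.hE.le (q.AE ha)
theorem A_comm {a b : G} (ha : a ∈ A) (hb : b ∈ A) : a * b = b * a := q.hE.comm a (q.AE ha) b (q.AE hb)

theorem Acen {a : G} (ha : a ∈ A) : Cen (T0 S E) a := by
  have h1 := ((q.mem_A a).1 ha).2 1 (one_mem _)
  have e : 1 * a * 1⁻¹ = a := by group
  rwa [e] at h1

theorem Ainv {a g : G} (hg : g ∈ normalizer (E : Set G)) (ha : a ∈ A) : g * a * g⁻¹ ∈ A := by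
  refine (q.mem_A _).2 ⟨conj_mem_of_norm hg (q.AE ha), fun h hh => ?_⟩
  have h1 := ((q.mem_A a).1 ha).2 (h * g) (mul_mem hh hg)
  have e : h * g * a * (h * g)⁻¹ = h * (g * a * g⁻¹) * h⁻¹ := by group
  rwa [e] at h1

theorem twc : ¬ Cen (T0 S E) (t * w) := fun h => q.wcen (by
  have := q.tcen.inv.mul h
  rwa [inv_mul_cancel_left] at this)

theorem E_le : E ≤ T0 S E := fun _ he => ⟨q.hE.le he, le_normalizer he⟩

variable [Finite G]

/-- the centralizer of an involution of `E` not central in `N_S(E)` -/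
theorem cent_eq {v y : G} (hv : v ∈ om E) (hvc : ¬ Cen (T0 S E) v) (hy : y ∈ (S : Subgroup G))
    (hyv : y * v = v * y) : y ∈ E := by
  by_contra hyE
  have hED : E ≤ (S : Subgroup G) ⊓ centralizer ({v} : Set G) := fun e he =>
    ⟨q.hE.le he, mem_centralizer_singleton_iff.2 (q.hE.comm e he v (om_le E hv))⟩
  obtain ⟨y', hy'D, hy'E, hy'N⟩ := exists_norm (S.isPGroup'.to_le inf_le_left) hED
    (x := y) ⟨hy, mem_centralizer_singleton_iff.2 hyv⟩ hyE
  have h1 := q.comm y' ⟨hy'D.1, hy'N⟩ hy'E v hv hvc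
  have h2 := mem_centralizer_singleton_iff.1 hy'D.2
  have h3 : y' * v * y'⁻¹ * v = 1 := by
    rw [h2, mul_inv_cancel_right]; exact (q.hE.mem_om'.1 hv).2
  rw [h3] at h1
  exact q.t1 h1.symm

/-- `C_S(w) = E` -/
theorem cent_w {y : G} : (y ∈ (S : Subgroup G) ∧ y * w = w * y) ↔ y ∈ E :=
  ⟨fun h => q.cent_eq q.wV q.wcen h.1 h.2, fun h => ⟨q.hE.le h, q.hE.comm y h w q.wE⟩⟩

/-- elements of `N(E)` act on `A` like elements of `N(S)`. -/
theorem fratt (hAI : AI G) {h : G} (hh : h ∈ normalizer (E : Set G)) :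
    ∃ n ∈ normalizer ((S : Subgroup G) : Set G), n ∈ normalizer (E : Set G) ∧
      ∀ a ∈ A, h * a * h⁻¹ = n * a * n⁻¹ := by
  obtain ⟨f, hfS, hfE, hfN⟩ := q.hE.exists_t
  obtain ⟨e, he, hfe⟩ := q.hE.exists_noncomm hfS hfE
  set K : Subgroup G := normalizer (E : Set G) ⊓ centralizer (A : Set G) with hK
  have hTK : T0 S E ≤ K := fun s hs => ⟨hs.2, mem_centralizer_iff.2 (fun a ha => (q.Acen ha s hs).symm)⟩
  obtain ⟨P₀, hP₀L, hP₀p, hTP₀, c, hcK, hcP⟩ := Cfsg.Agent.TwoFusion.SylowConj.exists_pgroup_le K (T0 S E)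
    ((T0 S E).map (MulAut.conj h).toMonoidHom) (S.isPGroup'.to_le inf_le_left) hTK
    ((S.isPGroup'.to_le inf_le_left).map _) (by
      rintro _ ⟨s, hs, rfl⟩
      refine mem_inf.2 ⟨mul_mem (mul_mem hh (hTK hs).1) (inv_mem hh), ?_⟩
      change h * s * h⁻¹ ∈ _
      refine mem_centralizer_iff.2 (fun a ha => ?_)
      have h1 : h⁻¹ * a * h ∈ A := by
        have := q.Ainv (inv_mem hh) ha
        rwa [inv_inv] at this
      have h2 := mem_centralizer_iff.1 (hTK hs).2 _ h1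
      calc a * (h * s * h⁻¹) = h * ((h⁻¹ * a * h) * s) * h⁻¹ := by group
        _ = h * (s * (h⁻¹ * a * h)) * h⁻¹ := by rw [h2]
        _ = h * s * h⁻¹ * a := by group)
  have hfT : f ∈ T0 S E := ⟨hfS, hfN⟩
  have heT : e ∈ T0 S E := q.E_le he
  have hP₀S : P₀ ≤ S := le_of_noncomm hAI hP₀p hfS (q.hE.le he) (hTP₀ hfT) (hTP₀ heT) hfe
  refine ⟨c * h, ?_, mul_mem hcK.1 hh, ?_⟩
  · refine norm_of_conj hAI hfS (q.hE.le he) hfe ?_ ?_
    · have h1 := hP₀S (hcP (h * f * h⁻¹) ⟨f, hfT, rfl⟩)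
      have e1 : c * h * f * (c * h)⁻¹ = c * (h * f * h⁻¹) * c⁻¹ := by group
      rw [e1]; exact h1
    · have h1 := hP₀S (hcP (h * e * h⁻¹) ⟨e, heT, rfl⟩)
      have e1 : c * h * e * (c * h)⁻¹ = c * (h * e * h⁻¹) * c⁻¹ := by group
      rw [e1]; exact h1
  · intro a ha
    have h1 := mem_centralizer_iff.1 hcK.2 _ (q.Ainv hh ha)
    have e1 : c * h * a * (c * h)⁻¹ = c * (h * a * h⁻¹) * c⁻¹ := by group
    rw [e1, ← h1]; group

/-- elements of `N(S)` normalizing `E` permute `{w, tw}` -/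
theorem conj_w {n : G} (hn : n ∈ normalizer ((S : Subgroup G) : Set G)) (hnE : n ∈ normalizer (E : Set G)) :
    n * w * n⁻¹ = w ∨ n * w * n⁻¹ = t * w := by
  have hnc : ¬ Cen (T0 S E) (n * w * n⁻¹) := by
    intro hc
    apply q.wcen
    intro s hs
    have h1 : n * s * n⁻¹ ∈ T0 S E :=
      mem_T0.2 ⟨conj_mem_of_norm hn (mem_T0.1 hs).1, mul_mem (mul_mem hnE (mem_T0.1 hs).2) (inv_mem hnE)⟩
    have h2 := hc _ h1
    have h3 : n * (s * w) * n⁻¹ = n * (w * s) * n⁻¹ := by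
      calc n * (s * w) * n⁻¹ = (n * s * n⁻¹) * (n * w * n⁻¹) := by group
        _ = (n * w * n⁻¹) * (n * s * n⁻¹) := h2
        _ = n * (w * s) * n⁻¹ := by group
    exact mul_left_cancel (mul_right_cancel h3)
  rcases q.Winv n hnE w (Or.inr (Or.inr (Or.inl rfl))) with h1 | h1 | h1 | h1
  · exfalso; rw [h1] at hnc; exact hnc (Cen.one _)
  · exfalso; rw [h1] at hnc; exact hnc q.tcen
  · exact Or.inl h1
  · exact Or.inr h1

/-- the class of `w` under `N(S)` -/
abbrev cl (S : Subgroup G) (w : G) : Set G := {u | ∃ n ∈ normalizer (S : Set G), u = n * w * n⁻¹}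

theorem ch_zero : ch (S : Subgroup G) w 0 = E := by
  ext y
  rw [ch_zero_mem, q.cent_w]

theorem ch_one : ch (S : Subgroup G) w 1 = T0 S E := by
  ext y
  rw [ch_succ_mem, q.ch_zero]; rfl

theorem norm_of_comm {n : G} (hn : n ∈ normalizer ((S : Subgroup G) : Set G))
    (hnw : (n * w * n⁻¹) * w = w * (n * w * n⁻¹)) : n ∈ normalizer (E : Set G) := by
  have huS : n * w * n⁻¹ ∈ (S : Subgroup G) := conj_mem_of_norm hn q.wS
  have huE : n * w * n⁻¹ ∈ E := q.cent_w.1 ⟨huS, hnw⟩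
  have h1 : ∀ e ∈ E, n⁻¹ * e * n⁻¹⁻¹ ∈ E := by
    intro e he
    rw [inv_inv]
    refine q.cent_w.1 ⟨conj_mem_of_norm' hn (q.hE.le he), ?_⟩
    have h2 := q.hE.comm e he _ huE
    calc n⁻¹ * e * n * w = n⁻¹ * (e * (n * w * n⁻¹)) * n := by group
      _ = n⁻¹ * ((n * w * n⁻¹) * e) * n := by rw [h2]
      _ = w * (n⁻¹ * e * n) := by group
  have h2 := norm_of_conj_le h1
  have := inv_mem h2
  rwa [inv_inv] at this

/-- `C_S(nwn⁻¹) = nEn⁻¹` -/
theorem cent_conj {n y : G} (hn : n ∈ normalizer ((S : Subgroup G) : Set G)) (hy : y ∈ (S : Subgroup G))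
    (hyw : y * (n * w * n⁻¹) = (n * w * n⁻¹) * y) : n⁻¹ * y * n ∈ E := by
  refine q.cent_w.1 ⟨conj_mem_of_norm' hn hy, ?_⟩
  calc n⁻¹ * y * n * w = n⁻¹ * (y * (n * w * n⁻¹)) * n := by group
    _ = n⁻¹ * ((n * w * n⁻¹) * y) * n := by rw [hyw]
    _ = w * (n⁻¹ * y * n) := by group

theorem mem_ch_one {n y : G} (hn : n ∈ normalizer ((S : Subgroup G) : Set G)) :
    y ∈ ch (S : Subgroup G) (n * w * n⁻¹) 1 ↔ n⁻¹ * y * n ∈ T0 S E := by
  rw [ch_conj hn, q.ch_one, mem_cj]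

/-- the chain hypotheses -/
theorem toCH (hAI : AI G) {x : G} (h : NN S E x) :
    CH (S : Subgroup G) (normalizer ((S : Subgroup G) : Set G)) (cl (S : Subgroup G) w) where
  p := S.isPGroup'
  norm := le_rfl
  SN := le_normalizer
  conj := by
    rintro _ ⟨n, hn, rfl⟩ _ ⟨m, hm, rfl⟩
    exact ⟨m * n⁻¹, mul_mem hm (inv_mem hn), by group⟩
  closed := by
    rintro _ ⟨n, hn, rfl⟩ m hm
    exact ⟨m * n, mul_mem hm hn, by group⟩
  mem := by
    rintro _ ⟨n, hn, rfl⟩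
    exact conj_mem_of_norm hn q.wS
  sq := by
    rintro _ ⟨n, hn, rfl⟩
    have e : n * w * n⁻¹ * (n * w * n⁻¹) = n * (w * w) * n⁻¹ := by group
    rw [e, q.ww]; group
  comm := by
    rintro _ ⟨n, hn, rfl⟩ a ha b hb haw hbw
    have h1 := q.cent_conj hn ha haw
    have h2 := q.cent_conj hn hb hbw
    have h3 := q.hE.comm _ h1 _ h2
    have h4 : n⁻¹ * (a * b) * n = n⁻¹ * (b * a) * n := by
      calc n⁻¹ * (a * b) * n = (n⁻¹ * a * n) * (n⁻¹ * b * n) := by group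
        _ = (n⁻¹ * b * n) * (n⁻¹ * a * n) := h3
        _ = n⁻¹ * (b * a) * n := by group
    exact mul_left_cancel (mul_right_cancel h4)
  two := by
    rintro _ ⟨n, hn, rfl⟩
    refine ⟨n * t * n⁻¹, ?_⟩
    rintro _ ⟨m, hm, rfl⟩ hcomm
    have hk : n⁻¹ * m ∈ normalizer ((S : Subgroup G) : Set G) := mul_mem (inv_mem hn) hm
    have h1 : ((n⁻¹ * m) * w * (n⁻¹ * m)⁻¹) * w = w * ((n⁻¹ * m) * w * (n⁻¹ * m)⁻¹) := by
      calc ((n⁻¹ * m) * w * (n⁻¹ * m)⁻¹) * w = n⁻¹ * ((m * w * m⁻¹) * (n * w * n⁻¹)) * n := by group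
        _ = n⁻¹ * ((n * w * n⁻¹) * (m * w * m⁻¹)) * n := by rw [hcomm]
        _ = w * ((n⁻¹ * m) * w * (n⁻¹ * m)⁻¹) := by group
    have h2 := q.norm_of_comm hk h1
    rcases q.conj_w hk h2 with h3 | h3
    · left
      calc m * w * m⁻¹ = n * ((n⁻¹ * m) * w * (n⁻¹ * m)⁻¹) * n⁻¹ := by group
        _ = n * w * n⁻¹ := by rw [h3]
    · right
      calc m * w * m⁻¹ = n * ((n⁻¹ * m) * w * (n⁻¹ * m)⁻¹) * n⁻¹ := by group
        _ = n * t * n⁻¹ * (n * w * n⁻¹) := by rw [h3]; group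
  three := by
    rintro _ ⟨n, hn, rfl⟩ _ ⟨m, hm, rfl⟩ _ ⟨l, hl, rfl⟩ hu hv
    rw [q.mem_ch_one hn] at hu hv
    have hsq : ∀ m : G, (n⁻¹ * (m * w * m⁻¹) * n) * (n⁻¹ * (m * w * m⁻¹) * n) = 1 := by
      intro m
      have e : (n⁻¹ * (m * w * m⁻¹) * n) * (n⁻¹ * (m * w * m⁻¹) * n) = n⁻¹ * m * (w * w) * m⁻¹ * n := by group
      rw [e, q.ww]; group
    have back : ∀ a b : G, (n⁻¹ * a * n) * (n⁻¹ * b * n) = (n⁻¹ * b * n) * (n⁻¹ * a * n) → a * b = b * a := by
      intro a b hab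
      have h4 : n⁻¹ * (a * b) * n = n⁻¹ * (b * a) * n := by
        calc n⁻¹ * (a * b) * n = (n⁻¹ * a * n) * (n⁻¹ * b * n) := by group
          _ = (n⁻¹ * b * n) * (n⁻¹ * a * n) := hab
          _ = n⁻¹ * (b * a) * n := by group
      exact mul_left_cancel (mul_right_cancel h4)
    have hw' : n⁻¹ * (n * w * n⁻¹) * n = w := by group
    rcases h.inv_cases hAI hu (hsq m) with h1 | h1
    · left
      apply back
      rw [hw']
      exact q.hE.comm _ (om_le _ h1) _ q.wE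
    · rcases h.inv_cases hAI hv (hsq l) with h2 | h2
      · right; left
        apply back
        rw [hw']
        exact q.hE.comm _ (om_le _ h2) _ q.wE
      · right; right
        apply back
        exact h.hE'.comm _ (om_le _ h1) _ (om_le _ h2)
  proper := by
    rintro _ ⟨n, hn, rfl⟩
    refine ⟨n * x * n⁻¹, conj_mem_of_norm hn h.xS, ?_⟩
    rw [q.mem_ch_one hn]
    intro h1
    have e : n⁻¹ * (n * x * n⁻¹) * n = x := by group
    rw [e] at h1
    exact h.xE (mem_T0.1 h1).2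

end Q2

end Cfsg.Agent.H305.Ess
end

-- part: H305/EndB
section
/-!
# Endgame: the focal subgroup argument
-/

set_option autoImplicit false

namespace Cfsg.Agent.H305.Ess

open Subgroup Cfsg.Agent.Lib.GoldschmidtFusion Cfsg.Agent.H305.FF Cfsg.Agent.H305.Chain
open scoped Pointwise commutatorElement

variable {G : Type*} [Group G] [Finite G] {S : Sylow 2 G}

theorem NN.swap {E : Subgroup G} {x : G} (h : NN S E x) : NN S (cj x E) x := by
  refine ⟨h.hE', h.xS, ?_, ?_⟩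
  · rw [mem_norm_cj]
    have e : x⁻¹ * x * x = x := by group
    rw [e]; exact h.xE
  · rw [h.T0_eq]; exact h.xT

/-- If there is a non-normal essential subgroup, then no essential subgroup is normal. -/
theorem NN.not_normal (hAI : AI G) {E : Subgroup G} {x : G} (h : NN S E x) {E₁ : Subgroup G} (h₁ : IsE S E₁) :
    ¬ (S : Subgroup G) ≤ normalizer (E₁ : Set G) := by
  intro hn
  have hle : om E₁ ≤ T0 S E := by
    by_contra hcon
    obtain ⟨v₁, hv₁, hv₁T⟩ := SetLike.not_le_iff_exists.1 hcon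
    have hSN : (S : Subgroup G) ≤ normalizer (om E₁ : Set G) := fun s hs => norm_om (hn hs)
    have hE1 : E ≤ normalizer (om E₁ : Set G) := h.hE.le.trans hSN
    have hTS : E ⊔ om E₁ ≤ (S : Subgroup G) := sup_le h.hE.le h₁.om_le_S
    obtain ⟨y, hyT, hyE, hyN⟩ := exists_norm (S.isPGroup'.to_le hTS) (H := E) le_sup_left
      (mem_sup_right hv₁) (fun h2 => hv₁T (h.E_le h2))
    have hy' : y ∈ (E : Set G) * (om E₁ : Set G) := by
      rw [← coe_mul_of_left_le_normalizer_right E (om E₁) hE1]; exact hyT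
    obtain ⟨e, he, v, hv, rfl⟩ := Set.mem_mul.1 hy'
    have hvN : v ∈ normalizer (E : Set G) := by
      have := mul_mem (inv_mem (le_normalizer he)) hyN
      rwa [inv_mul_cancel_left] at this
    have hvE : v ∉ E := fun h2 => hyE (mul_mem he h2)
    have hvT : v ∈ T0 S E := ⟨h₁.om_le_S hv, hvN⟩
    rcases h.inv_cases hAI hvT (h₁.mem_om'.1 hv).2 with h2 | h2
    · exact hvE (om_le E h2)
    · have hvc : ¬ Cen (T0 S (cj x E)) v := by
        rw [h.T0_eq]
        intro hc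
        exact hvE (h.mem_of_cen (h₁.om_le_S hv) hc).1
      apply hcon
      intro u hu
      exact h.E'_le (h.swap.cent_eq hAI h2 hvc (h₁.om_le_S hu) (h₁.comm u (om_le _ hu) v (om_le _ hv)))
  rcases h.eq_or_eq hAI h₁ hle with rfl | rfl
  · exact h.xE (hn h.xS)
  · exact h.swap.xE (hn h.xS)

/-- the structure for every essential subgroup -/
theorem NN.all (hAI : AI G) [IsSimpleGroup G] (hna : ∃ a b : G, a * b ≠ b * a) {E : Subgroup G} {x : G}
    (h : NN S E x) {E₁ : Subgroup G} (h₁ : IsE S E₁) : ∃ x₁ t w A, NN S E₁ x₁ ∧ Q2 S E₁ t w A := by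
  obtain ⟨x₁, hx₁⟩ := exists_NN h₁ (h.not_normal hAI h₁)
  obtain ⟨t, w, A, q⟩ := hx₁.exists_Q2 hAI (hx₁.relIndex_le hAI hna)
  exact ⟨x₁, t, w, A, hx₁, q⟩

/-- the focal subgroup contributions of `E` -/
theorem Q2.focE (hAI : AI G) {E : Subgroup G} {t w : G} {A : Subgroup G} (q : Q2 S E t w A) {H : Subgroup G}
    (hN : ∀ n ∈ normalizer ((S : Subgroup G) : Set G), ∀ s ∈ (S : Subgroup G), s⁻¹ * (n * s * n⁻¹) ∈ H)
    (hw : w ∈ H) : ∀ g ∈ normalizer (E : Set G), ∀ e ∈ E, e⁻¹ * (g * e * g⁻¹) ∈ H := by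
  intro g hg e he
  have ht : t ∈ H := by
    obtain ⟨f, hfS, hfE, hfN⟩ := q.hE.exists_t
    have h1 := q.comm f ⟨hfS, hfN⟩ hfE w q.wV q.wcen
    have h2 := hN f (le_normalizer hfS) w q.wS
    have h3 : f * w * f⁻¹ = t * w := by
      rw [← h1, mul_assoc _ w w, q.ww, mul_one]
    rw [h3, q.tw, inv_mul_cancel_left] at h2
    exact h2
  have hW : ∀ y, InW t w y → y ∈ H := by
    rintro y (rfl | rfl | rfl | rfl)
    · exact one_mem _
    · exact ht
    · exact hw
    · exact mul_mem ht hw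
  obtain ⟨y, hy, ha⟩ := q.decomp e he
  obtain ⟨n, hnS, -, hn⟩ := q.fratt hAI hg
  set a := y⁻¹ * e with haa
  have hea : e = y * a := by rw [haa]; group
  have hyE : y ∈ E := by
    have := mul_mem he (inv_mem (q.AE ha))
    have e1 : e * a⁻¹ = y := by rw [haa]; group
    rwa [e1] at this
  have hgy := conj_mem_of_norm hg hyE
  have h1 := hN n hnS a (q.AS ha)
  rw [← hn a ha] at h1
  have h2 : g * y * g⁻¹ ∈ H := hW _ (q.Winv g hg y hy)
  have h3 := q.hE.comm _ (inv_mem (q.AE ha)) _ (mul_mem (inv_mem hyE) hgy)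
  have e1 : e⁻¹ * (g * e * g⁻¹) = (y⁻¹ * (g * y * g⁻¹)) * (a⁻¹ * (g * a * g⁻¹)) := by
    calc e⁻¹ * (g * e * g⁻¹) = (a⁻¹ * (y⁻¹ * (g * y * g⁻¹))) * (g * a * g⁻¹) := by rw [hea]; group
      _ = ((y⁻¹ * (g * y * g⁻¹)) * a⁻¹) * (g * a * g⁻¹) := by rw [h3]
      _ = _ := by group
  rw [e1]
  exact mul_mem (mul_mem (inv_mem (hW y hy)) h2) h1

namespace Q2

variable {E : Subgroup G} {t w : G} {A : Subgroup G} (q : Q2 S E t w A)
include q

/-- the chain of normalizers reaches `S` -/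
theorem exists_k {x : G} (h : NN S E x) : ∃ k, 1 ≤ k ∧ ch (S : Subgroup G) w k ≠ (S : Subgroup G) ∧
    ch (S : Subgroup G) w (k + 1) = (S : Subgroup G) := by
  classical
  have hex : ∃ k, ch (S : Subgroup G) w k = (S : Subgroup G) := by
    by_contra hcon
    push Not at hcon
    have h1 : ∀ k, k < Nat.card (ch (S : Subgroup G) w k) := by
      intro k
      induction k with
      | zero => exact Nat.card_pos
      | succ k ih =>
        obtain ⟨y, hyS, hy⟩ := SetLike.exists_of_lt (lt_of_le_of_ne (ch_le (S : Subgroup G) w k) (hcon k))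
        obtain ⟨z, hz, hzk⟩ := ch_grow S.isPGroup' hyS hy
        have h2 : ch (S : Subgroup G) w k < ch (S : Subgroup G) w (k + 1) :=
          lt_of_le_of_ne (ch_mono _ _ _) (fun h3 => hzk (by rw [h3]; exact hz))
        have h3 : Nat.card (ch (S : Subgroup G) w k) < Nat.card (ch (S : Subgroup G) w (k + 1)) := by
          rcases lt_or_ge (Nat.card (ch (S : Subgroup G) w k)) (Nat.card (ch (S : Subgroup G) w (k + 1))) with h4 | h4
          · exact h4
          · exact absurd (eq_of_le_of_card_ge h2.le h4) h2.ne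
        omega
    have h2 := h1 (Nat.card S)
    have h3 : Nat.card (ch (S : Subgroup G) w (Nat.card S)) ≤ Nat.card S :=
      Nat.card_le_card_of_injective _ (inclusion_injective (ch_le (S : Subgroup G) w (Nat.card S)))
    omega
  have hx : ∀ k, k ≤ 1 → ch (S : Subgroup G) w k ≠ (S : Subgroup G) := by
    intro k hk hS
    have h1 : (S : Subgroup G) ≤ T0 S E := by
      rw [← q.ch_one]
      exact hS.symm.le.trans (ch_mono' _ _ hk)
    exact h.xE (mem_T0.1 (h1 h.xS)).2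
  obtain ⟨k, hk⟩ : ∃ k, Nat.find hex = k + 1 := by
    refine ⟨Nat.find hex - 1, ?_⟩
    have h1 : Nat.find hex ≠ 0 := fun h2 => hx 0 (by omega) (by rw [← h2]; exact Nat.find_spec hex)
    omega
  refine ⟨k, ?_, Nat.find_min hex (by omega), by rw [← hk]; exact Nat.find_spec hex⟩
  by_contra h1
  exact hx (k + 1) (by omega) (by rw [← hk]; exact Nat.find_spec hex)

end Q2

/-- the index of `S` in `N(S)` is odd -/
theorem exists_odd_pow {n : G} (hn : n ∈ normalizer ((S : Subgroup G) : Set G)) :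
    ∃ m : ℕ, Odd m ∧ n ^ m ∈ (S : Subgroup G) := by
  have : Fact (Nat.Prime 2) := ⟨Nat.prime_two⟩
  obtain ⟨s, m, hm, hsm⟩ := Nat.exists_eq_two_pow_mul_odd (n := orderOf n) (orderOf_pos n).ne'
  refine ⟨m, hm, ?_⟩
  have h1 : n ^ m ∈ normalizer ((S : Subgroup G) : Set G) := pow_mem hn m
  have hp : IsPGroup 2 (zpowers (n ^ m)) := by
    rw [IsPGroup.iff_card]
    have h2 : orderOf (n ^ m) ∣ 2 ^ s := orderOf_dvd_of_pow_eq_one (by
      rw [← pow_mul, mul_comm, ← hsm]; exact pow_orderOf_eq_one n)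
    obtain ⟨j, -, hj⟩ := (Nat.dvd_prime_pow Nat.prime_two).1 h2
    exact ⟨j, by rw [Nat.card_zpowers, hj]⟩
  have h2 : IsPGroup 2 ((S : Subgroup G) ⊔ zpowers (n ^ m) : Subgroup G) :=
    S.isPGroup'.to_sup_of_normal_left' hp (by rw [zpowers_le]; exact h1)
  have h3 := S.is_maximal' h2 le_sup_left
  rw [← h3]
  exact mem_sup_right (mem_zpowers _)

/-- a subgroup containing `S` and the square of an element of `N(S)` contains the element. -/
theorem mem_of_sq {n : G} (hn : n ∈ normalizer ((S : Subgroup G) : Set G)) {H : Subgroup G} (hH : (S : Subgroup G) ≤ H)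
    (h2 : n * n ∈ H) : n ∈ H := by
  obtain ⟨m, ⟨k, rfl⟩, hm⟩ := exists_odd_pow hn
  have h3 : (n * n) ^ k ∈ H := pow_mem h2 k
  have e : n ^ (2 * k + 1) = (n * n) ^ k * n := by rw [pow_succ, pow_mul, pow_two]
  rw [e] at hm
  have := mul_mem (inv_mem h3) (hH hm)
  rwa [inv_mul_cancel_left] at this

end Cfsg.Agent.H305.Ess
end

-- part: H305/EndC
section
/-!
# Endgame: a second essential subgroup
-/

set_option autoImplicit false

namespace Cfsg.Agent.H305.Ess

open Subgroup Cfsg.Agent.Lib.GoldschmidtFusion Cfsg.Agent.H305.FF Cfsg.Agent.H305.Chain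
open scoped Pointwise commutatorElement

variable {G : Type*} [Group G] [Finite G] {S : Sylow 2 G}

/-- the data: a non-normal essential subgroup with its structure, and the top of the chain -/
structure Dat (S : Sylow 2 G) (E : Subgroup G) (t w : G) (A : Subgroup G) (x : G) (k : ℕ) : Prop where
  nn : NN S E x
  q : Q2 S E t w A
  hk : 1 ≤ k
  ne : ch (S : Subgroup G) w k ≠ (S : Subgroup G)
  top : ch (S : Subgroup G) w (k + 1) = (S : Subgroup G)

theorem exists_dat (hAI : AI G) [IsSimpleGroup G] (hna : ∃ a b : G, a * b ≠ b * a) {E : Subgroup G} {x : G}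
    (h : NN S E x) {E₁ : Subgroup G} (h₁ : IsE S E₁) : ∃ t w A x k, Dat S E₁ t w A x k := by
  obtain ⟨x₁, t, w, A, h', q⟩ := h.all hAI hna h₁
  obtain ⟨k, hk, h2, h3⟩ := q.exists_k h'
  exact ⟨t, w, A, x₁, k, h', q, hk, h2, h3⟩

namespace Dat

variable {E : Subgroup G} {t w : G} {A : Subgroup G} {x : G} {k : ℕ} (d : Dat S E t w A x k)
include d

theorem w_mem : w ∈ Q2.cl (S : Subgroup G) w := ⟨1, one_mem _, by group⟩

theorem conj_top {n : G} (hn : n ∈ normalizer ((S : Subgroup G) : Set G)) :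
    ch (S : Subgroup G) (n * w * n⁻¹) (k + 1) = (S : Subgroup G) := by
  rw [ch_conj hn, d.top, cj_self hn]

/-- the `N(S)`-class of `w` is the `S`-class -/
theorem conj_S (hAI : AI G) {n : G} (hn : n ∈ normalizer ((S : Subgroup G) : Set G)) :
    ∃ s ∈ (S : Subgroup G), n * w * n⁻¹ = s * w * s⁻¹ := by
  have hCH := d.q.toCH hAI d.nn
  set C : Subgroup G := normalizer ((S : Subgroup G) : Set G) ⊓ centralizer ({w} : Set G) with hC
  have hmem : ∀ m, m ∈ normalizer ((S : Subgroup G) : Set G) → (∃ s ∈ (S : Subgroup G), m * w * m⁻¹ = s * w * s⁻¹) →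
      m ∈ (S : Subgroup G) ⊔ C := by
    rintro m hm ⟨s, hs, hse⟩
    have h1 : s⁻¹ * m ∈ C := by
      refine mem_inf.2 ⟨mul_mem (inv_mem (le_normalizer hs)) hm, mem_centralizer_singleton_iff.2 ?_⟩
      calc s⁻¹ * m * w = s⁻¹ * (m * w * m⁻¹) * m := by group
        _ = s⁻¹ * (s * w * s⁻¹) * m := by rw [hse]
        _ = w * (s⁻¹ * m) := by group
    have := mul_mem (mem_sup_left (T := C) hs) (mem_sup_right h1)
    rwa [mul_inv_cancel_left] at this
  have hback : ∀ m, m ∈ (S : Subgroup G) ⊔ C → ∃ s ∈ (S : Subgroup G), m * w * m⁻¹ = s * w * s⁻¹ := by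
    intro m hm
    have h1 : m ∈ ((S : Subgroup G) : Set G) * (C : Set G) := by
      rw [← coe_mul_of_right_le_normalizer_left (S : Subgroup G) C inf_le_left]; exact hm
    obtain ⟨s, hs, c, hc, rfl⟩ := Set.mem_mul.1 h1
    refine ⟨s, hs, ?_⟩
    have h2 := mem_centralizer_singleton_iff.1 hc.2
    calc s * c * w * (s * c)⁻¹ = s * (c * w) * c⁻¹ * s⁻¹ := by group
      _ = s * w * s⁻¹ := by rw [h2]; group
  have hu : n * w * n⁻¹ ∈ Q2.cl (S : Subgroup G) w := ⟨n, hn, rfl⟩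
  have hn2 : n * n ∈ normalizer ((S : Subgroup G) : Set G) := mul_mem hn hn
  have hv : (n * n) * w * (n * n)⁻¹ ∈ Q2.cl (S : Subgroup G) w := ⟨n * n, hn2, rfl⟩
  have hQ := hCH.q_all (k + 1) w d.w_mem _ hu _ hv (by rw [d.top, d.conj_top hn])
    (by rw [d.top]; exact conj_mem_of_norm hn2 d.q.wS)
  rw [d.top] at hQ
  rcases hQ with ⟨s, hs, h1⟩ | ⟨s, hs, h1⟩ | ⟨s, hs, h1⟩
  · exact ⟨s, hs, h1⟩
  · have h2 := hmem (n * n) hn2 ⟨s, hs, h1⟩
    exact hback n (mem_of_sq hn le_sup_left h2)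
  · refine ⟨n⁻¹ * s * n, conj_mem_of_norm' hn hs, ?_⟩
    calc n * w * n⁻¹ = n⁻¹ * ((n * n) * w * (n * n)⁻¹) * n := by group
      _ = n⁻¹ * (s * (n * w * n⁻¹) * s⁻¹) * n := by rw [h1]
      _ = (n⁻¹ * s * n) * w * (n⁻¹ * s * n)⁻¹ := by group

theorem norm_ch (hAI : AI G) {n : G} (hn : n ∈ normalizer ((S : Subgroup G) : Set G)) :
    n ∈ normalizer (ch (S : Subgroup G) w k : Set G) := by
  have hCH := d.q.toCH hAI d.nn
  obtain ⟨s, hs, hse⟩ := d.conj_S hAI hn
  rw [← cj_eq_iff, ← ch_conj hn, hse]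
  exact hCH.ch_conjS (by rw [d.top]; exact hs)

/-- there is an essential subgroup whose `w` is not in the maximal subgroup of the chain -/
theorem exists_F (hAI : AI G) [IsSimpleGroup G] (hna : ∃ a b : G, a * b ≠ b * a) :
    ∃ F t' w' A' x' k', Dat S F t' w' A' x' k' ∧ w' ∉ ch (S : Subgroup G) w k := by
  by_contra hcon
  push Not at hcon
  have hCH := d.q.toCH hAI d.nn
  have hN : ∀ n ∈ normalizer ((S : Subgroup G) : Set G), ∀ s ∈ (S : Subgroup G),
      s⁻¹ * (n * s * n⁻¹) ∈ ch (S : Subgroup G) w k := by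
    intro n hn s hs
    have hnP := d.norm_ch hAI hn
    by_cases hsP : s ∈ ch (S : Subgroup G) w k
    · exact mul_mem (inv_mem hsP) (conj_mem_of_norm hnP hsP)
    · have h1 : n * s * n⁻¹ ∉ ch (S : Subgroup G) w k := by
        intro h2
        apply hsP
        have h3 := conj_mem_of_norm' hnP h2
        have e : n⁻¹ * (n * s * n⁻¹) * n = s := by group
        rwa [e] at h3
      exact hCH.m2 (hCH.q_all k) d.w_mem (by rw [d.top]; exact hs) hsP
        (by rw [d.top]; exact conj_mem_of_norm hn hs) h1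
  have h1 := focal hAI S hna (ch (S : Subgroup G) w k) hN (fun E₁ h₁ g hg e he => by
    obtain ⟨t₁, w₁, A₁, x₁, k₁, d₁⟩ := exists_dat hAI hna d.nn h₁
    exact d₁.q.focE hAI hN (hcon _ _ _ _ _ _ d₁) g hg e he)
  exact d.ne (le_antisymm (ch_le _ _ _) h1)

end Dat

/-- the size of a conjugacy class -/
theorem class_ncard {T X : Subgroup G} {v : G} (hX : ∀ y, y ∈ X ↔ y ∈ T ∧ y * v = v * y) :
    ({u | ∃ s ∈ T, u = s * v * s⁻¹} : Set G).ncard = X.relIndex T := by
  have hkey : ∀ a b : T, (a : G) * v * (a : G)⁻¹ = b * v * (b : G)⁻¹ ↔ (a : G)⁻¹ * b ∈ X := by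
    intro a b
    rw [hX]
    constructor
    · intro h
      refine ⟨mul_mem (inv_mem a.2) b.2, ?_⟩
      calc (a : G)⁻¹ * b * v = (a : G)⁻¹ * (b * v * (b : G)⁻¹) * b := by group
        _ = (a : G)⁻¹ * (a * v * (a : G)⁻¹) * b := by rw [h]
        _ = v * ((a : G)⁻¹ * b) := by group
    · rintro ⟨-, h⟩
      calc (a : G) * v * (a : G)⁻¹ = a * (v * ((a : G)⁻¹ * b)) * (b : G)⁻¹ := by group
        _ = a * ((a : G)⁻¹ * b * v) * (b : G)⁻¹ := by rw [h]
        _ = b * v * (b : G)⁻¹ := by group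
  rw [← Nat.card_coe_set_eq, relIndex, index]
  symm
  refine Nat.card_congr (Equiv.ofBijective (fun c : T ⧸ X.subgroupOf T => Quotient.liftOn' c
    (fun s : T => (⟨(s : G) * v * (s : G)⁻¹, s, s.2, rfl⟩ : ({u | ∃ s ∈ T, u = s * v * s⁻¹} : Set G))) ?_) ?_)
  · intro a b hab
    rw [QuotientGroup.leftRel_apply, mem_subgroupOf] at hab
    exact Subtype.ext ((hkey a b).2 hab)
  · constructor
    · intro a b
      induction a using QuotientGroup.induction_on with | _ a => ?_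
      induction b using QuotientGroup.induction_on with | _ b => ?_
      intro hab
      have h1 := (hkey a b).1 (congrArg Subtype.val hab)
      exact QuotientGroup.eq.2 (mem_subgroupOf.2 h1)
    · rintro ⟨_, s, hs, rfl⟩
      exact ⟨QuotientGroup.mk ⟨s, hs⟩, rfl⟩

end Cfsg.Agent.H305.Ess
end

-- part: H305/EndD
section
/-!
# Endgame: the cyclic group generated by the product of two involutions
-/

set_option autoImplicit false

namespace Cfsg.Agent.H305.Ess

open Subgroup Cfsg.Agent.Lib.GoldschmidtFusion Cfsg.Agent.H305.FF Cfsg.Agent.H305.Chain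
open scoped Pointwise commutatorElement

variable {G : Type*} [Group G]

theorem image_ncard (Y : Subgroup G) (v : G) : ({u | ∃ y ∈ Y, u = y * v} : Set G).ncard = Nat.card Y := by
  have h1 : ({u | ∃ y ∈ Y, u = y * v} : Set G) = (fun y => y * v) '' (Y : Set G) := by
    ext u
    constructor
    · rintro ⟨y, hy, rfl⟩; exact ⟨y, hy, rfl⟩
    · rintro ⟨y, hy, rfl⟩; exact ⟨y, hy, rfl⟩
  rw [h1, Set.ncard_image_of_injective _ (mul_left_injective v), ← Nat.card_coe_set_eq]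
  rfl

theorem class_ge [Finite G] {T X Y : Subgroup G} {v : G} (hX : ∀ y, y ∈ X ↔ y ∈ T ∧ y * v = v * y)
    (hYv : ∀ y ∈ Y, ∃ s ∈ T, y * v = s * v * s⁻¹) (hle : ∀ s ∈ T, s * v * s⁻¹ * v⁻¹ ∈ Y) :
    X.relIndex T = Nat.card Y := by
  rw [← class_ncard hX, ← image_ncard Y v]
  congr 1
  ext u
  constructor
  · rintro ⟨s, hs, rfl⟩
    exact ⟨_, hle s hs, by group⟩
  · rintro ⟨y, hy, rfl⟩
    exact hYv y hy

theorem class_le [Finite G] {T X Y : Subgroup G} {v : G} (hX : ∀ y, y ∈ X ↔ y ∈ T ∧ y * v = v * y)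
    (hYv : ∀ y ∈ Y, ∃ s ∈ T, y * v = s * v * s⁻¹) (hcard : X.relIndex T ≤ Nat.card Y) :
    ∀ s ∈ T, s * v * s⁻¹ * v⁻¹ ∈ Y := by
  have h1 : ({u | ∃ y ∈ Y, u = y * v} : Set G) ⊆ {u | ∃ s ∈ T, u = s * v * s⁻¹} := by
    rintro u ⟨y, hy, rfl⟩
    exact hYv y hy
  have h2 := Set.eq_of_subset_of_ncard_le h1 (by rw [class_ncard hX, image_ncard]; exact hcard) (Set.toFinite _)
  intro s hs
  have h3 : s * v * s⁻¹ ∈ ({u | ∃ y ∈ Y, u = y * v} : Set G) := by rw [h2]; exact ⟨s, hs, rfl⟩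
  obtain ⟨y, hy, h4⟩ := h3
  rw [h4, mul_inv_cancel_right]
  exact hy

/-- the element of order four in a cyclic 2-group -/
theorem exists_four {S : Sylow 2 G} [Finite G] {c : G} (hcS : c ∈ (S : Subgroup G)) (hc : c * c ≠ 1) :
    ∃ j : ℤ, c ^ j * c ^ j ≠ 1 ∧ (c ^ j * c ^ j) * (c ^ j * c ^ j) = 1 ∧
      ∀ i : ℤ, c ^ i * c ^ i = 1 → c ^ i = 1 ∨ c ^ i = c ^ j * c ^ j := by
  obtain ⟨n, hn⟩ := S.isPGroup' ⟨c, hcS⟩
  have hn' : c ^ 2 ^ n = 1 := congrArg Subtype.val hn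
  obtain ⟨m, -, hm⟩ := (Nat.dvd_prime_pow Nat.prime_two).1 (orderOf_dvd_of_pow_eq_one hn')
  have hm2 : 2 ≤ m := by
    by_contra hlt
    apply hc
    have h1 : orderOf c ∣ 2 := by
      rw [hm]
      interval_cases m <;> norm_num
    rw [← pow_two]
    exact orderOf_dvd_iff_pow_eq_one.1 h1
  obtain ⟨l, rfl⟩ := Nat.exists_eq_add_of_le hm2
  have e1 : c ^ ((2 : ℤ) ^ l) * c ^ ((2 : ℤ) ^ l) = c ^ ((2 : ℤ) ^ (l + 1)) := by
    rw [← zpow_add, pow_succ]; congr 1; ring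
  have e2 : c ^ ((2 : ℤ) ^ (l + 1)) * c ^ ((2 : ℤ) ^ (l + 1)) = 1 := by
    rw [← zpow_add, ← orderOf_dvd_iff_zpow_eq_one, hm]
    refine ⟨1, ?_⟩
    push_cast
    ring
  have e3 : c ^ ((2 : ℤ) ^ (l + 1)) ≠ 1 := by
    intro h1
    have h2 : orderOf c ∣ 2 ^ (l + 1) := by
      rw [orderOf_dvd_iff_pow_eq_one, ← zpow_natCast]
      push_cast
      exact h1
    rw [hm] at h2
    have := (Nat.pow_dvd_pow_iff_le_right (by norm_num : 1 < 2)).1 h2
    omega
  refine ⟨(2 : ℤ) ^ l, by rw [e1]; exact e3, by rw [e1]; exact e2, ?_⟩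
  intro i hi
  rw [e1]
  rw [← zpow_add, ← orderOf_dvd_iff_zpow_eq_one, hm] at hi
  have h1 : (2 : ℤ) ^ (l + 1) ∣ i := by
    obtain ⟨k, hk⟩ := hi
    refine ⟨k, ?_⟩
    push_cast at hk
    have h2 : (2 : ℤ) * i = 2 * (2 ^ (l + 1) * k) := by
      calc (2 : ℤ) * i = i + i := by ring
        _ = 2 ^ (2 + l) * k := hk
        _ = 2 * (2 ^ (l + 1) * k) := by ring
    exact mul_left_cancel₀ (by norm_num) h2
  obtain ⟨k, rfl⟩ := h1
  rcases Int.even_or_odd' k with ⟨k', rfl | rfl⟩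
  · left
    rw [← mul_assoc, zpow_mul, zpow_mul, zpow_ofNat, pow_two, e2, one_zpow]
  · right
    rw [zpow_mul, zpow_add, zpow_mul, zpow_ofNat, pow_two, e2, one_zpow, one_mul, zpow_one]

/-- one half of the configuration -/
structure Half (S : Sylow 2 G) (E : Subgroup G) (t w : G) (A : Subgroup G) (c z : G) : Prop where
  q : Q2 S E t w A
  cS : c ∈ (S : Subgroup G)
  wc : w * c * w⁻¹ = c⁻¹
  zc : ∃ j : ℤ, z = c ^ j
  zz : z * z = t
  SE : ∀ s ∈ (S : Subgroup G), ∃ i : ℤ, (c ^ i)⁻¹ * s ∈ E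
  norm : ∀ n ∈ normalizer ((S : Subgroup G) : Set G), ∃ u : ℤ, n * c * n⁻¹ = c ^ (1 + 2 * u)
  two : ∀ i : ℤ, c ^ i * c ^ i = 1 → c ^ i = 1 ∨ c ^ i = t
  wn : ∀ n ∈ normalizer ((S : Subgroup G) : Set G), ∃ i : ℤ, n * w * n⁻¹ = c ^ (2 * i) * w

theorem mem_YY {w v y : G} : y ∈ YY w v ↔ ∃ i : ℤ, y = (w * v) ^ (2 * i) := by
  rw [YY, mem_zpowers_iff]
  constructor
  · rintro ⟨i, rfl⟩
    exact ⟨i, by rw [zpow_mul, zpow_ofNat, pow_two]⟩
  · rintro ⟨i, rfl⟩
    exact ⟨i, by rw [zpow_mul, zpow_ofNat, pow_two]⟩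

/-- conjugating an inverting element -/
theorem conj_inv_elt {c w : G} (hwc : w * c * w⁻¹ = c⁻¹) (i : ℤ) : c ^ i * w * (c ^ i)⁻¹ = c ^ (2 * i) * w := by
  have h1 : w * (c ^ i)⁻¹ * w⁻¹ = c ^ i := by
    rw [← conj_inv, ← conj_zpow, hwc, inv_zpow, inv_inv]
  calc c ^ i * w * (c ^ i)⁻¹ = c ^ i * (w * (c ^ i)⁻¹ * w⁻¹) * w := by group
    _ = c ^ (2 * i) * w := by rw [h1, ← zpow_add, two_mul]

/-- **The configuration** -/
theorem exists_half (hAI : AI G) [Finite G] {S : Sylow 2 G} {E F : Subgroup G} {t w t' w' : G} {A A' : Subgroup G}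
    {x x' : G} {k k' : ℕ} (d : Dat S E t w A x k) (d' : Dat S F t' w' A' x' k')
    (hw' : w' ∉ ch (S : Subgroup G) w k) (hcard : Nat.card E ≤ Nat.card F) :
    ∃ z, Half S E t w A (w * w') z ∧ Half S F t' w' A' (w * w') z := by
  have hCH := d.q.toCH hAI d.nn
  have hQ : ∀ j, j ≤ k → Q (S : Subgroup G) (Q2.cl (S : Subgroup G) w) j := fun j _ => hCH.q_all j
  have hw'S : w' ∈ ch (S : Subgroup G) w (k + 1) := by rw [d.top]; exact d'.q.wS
  have hww := d.q.ww
  have hww' := d'.q.ww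
  have hwi : w⁻¹ = w := inv_eq_of_mul_eq_one_right hww
  have hwi' : w'⁻¹ = w' := inv_eq_of_mul_eq_one_right hww'
  set c := w * w' with hc
  have hc4 : (c * c) * (c * c) ≠ 1 := hCH.y2 d.hk hQ d.w_mem hww' hw'S hw'
  have hc2 : c * c ≠ 1 := fun h => hc4 (by rw [h, one_mul])
  have hcS : c ∈ (S : Subgroup G) := mul_mem d.q.wS d'.q.wS
  have hwc : w * c * w⁻¹ = c⁻¹ := by rw [c_inv hww hww']; exact conj_w_c hww
  have hwc' : w' * c * w'⁻¹ = c⁻¹ := by
    rw [c_inv hww hww', hc]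
    group
  have hYw : ∀ y ∈ YY w w', ∃ s ∈ (S : Subgroup G), y * w = s * w * s⁻¹ := by
    intro y hy
    obtain ⟨i, rfl⟩ := mem_YY.1 hy
    exact ⟨c ^ i, zpow_mem hcS i, (conj_inv_elt hwc i).symm⟩
  have hYw' : ∀ y ∈ YY w w', ∃ s ∈ (S : Subgroup G), y * w' = s * w' * s⁻¹ := by
    intro y hy
    obtain ⟨i, rfl⟩ := mem_YY.1 hy
    exact ⟨c ^ i, zpow_mem hcS i, (conj_inv_elt hwc' i).symm⟩
  have hY1 : ∀ s ∈ (S : Subgroup G), s * w * s⁻¹ * w⁻¹ ∈ YY w w' := fun s hs =>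
    hCH.y1 hQ d.w_mem hww' hw'S hw' (by rw [d.top]; exact hs)
  have hi1 := class_ge (T := (S : Subgroup G)) (fun y => d.q.cent_w.symm) hYw hY1
  have hi2 : F.relIndex (S : Subgroup G) ≤ Nat.card (YY w w') := by
    rw [← hi1]
    have h1 := card_inf_mul E (S : Subgroup G)
    have h2 := card_inf_mul F (S : Subgroup G)
    rw [inf_of_le_left d.q.hE.le] at h1
    rw [inf_of_le_left d'.q.hE.le] at h2
    by_contra hlt
    rw [not_le] at hlt
    have h3 : Nat.card E * E.relIndex (S : Subgroup G) < Nat.card F * F.relIndex (S : Subgroup G) := by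
      calc Nat.card E * E.relIndex (S : Subgroup G) ≤ Nat.card F * E.relIndex (S : Subgroup G) :=
            Nat.mul_le_mul_right _ hcard
        _ < _ := Nat.mul_lt_mul_of_pos_left hlt Nat.card_pos
    omega
  have hY2 := class_le (T := (S : Subgroup G)) (fun y => d'.q.cent_w.symm) hYw' hi2
  have hY1' : ∀ s ∈ (S : Subgroup G), ∃ i : ℤ, s * w * s⁻¹ = c ^ (2 * i) * w := by
    intro s hs
    obtain ⟨i, hi⟩ := mem_YY.1 (hY1 s hs)
    exact ⟨i, by rw [← hi]; group⟩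
  have hY2' : ∀ s ∈ (S : Subgroup G), ∃ i : ℤ, s * w' * s⁻¹ = c ^ (2 * i) * w' := by
    intro s hs
    obtain ⟨i, hi⟩ := mem_YY.1 (hY2 s hs)
    exact ⟨i, by rw [← hi]; group⟩
  have hn1 : ∀ n ∈ normalizer ((S : Subgroup G) : Set G), ∃ i : ℤ, n * w * n⁻¹ = c ^ (2 * i) * w := by
    intro n hn
    obtain ⟨s, hs, h1⟩ := d.conj_S hAI hn
    rw [h1]; exact hY1' s hs
  have hn2 : ∀ n ∈ normalizer ((S : Subgroup G) : Set G), ∃ i : ℤ, n * w' * n⁻¹ = c ^ (2 * i) * w' := by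
    intro n hn
    obtain ⟨s, hs, h1⟩ := d'.conj_S hAI hn
    rw [h1]; exact hY2' s hs
  have hwci : ∀ i : ℤ, w * c ^ i * w⁻¹ = c ^ (-i) := by
    intro i
    rw [← conj_zpow, hwc, inv_zpow, zpow_neg]
  have hnorm : ∀ n ∈ normalizer ((S : Subgroup G) : Set G), ∃ u : ℤ, n * c * n⁻¹ = c ^ (1 + 2 * u) := by
    intro n hn
    obtain ⟨i, hi⟩ := hn1 n hn
    obtain ⟨j, hj⟩ := hn2 n hn
    refine ⟨i - j, ?_⟩
    have e : n * c * n⁻¹ = (n * w * n⁻¹) * (n * w' * n⁻¹) := by rw [hc]; group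
    rw [e, hi, hj]
    calc c ^ (2 * i) * w * (c ^ (2 * j) * w') = c ^ (2 * i) * (w * c ^ (2 * j) * w⁻¹) * (w * w') := by group
      _ = c ^ (2 * i) * c ^ (-(2 * j)) * c := by rw [hwci]
      _ = c ^ (1 + 2 * (i - j)) := by
        rw [← zpow_add, ← zpow_add_one]; congr 1; ring
  obtain ⟨j, hj1, hj2, hj3⟩ := exists_four hcS hc2
  -- `z * z = t`
  have key : ∀ {E₁ : Subgroup G} {t₁ w₁ : G} {A₁ : Subgroup G}, Q2 S E₁ t₁ w₁ A₁ → w₁ * c * w₁⁻¹ = c⁻¹ →
      c ^ j * c ^ j = t₁ := by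
    intro E₁ t₁ w₁ A₁ q₁ hwc₁
    have h1 : c ^ j * w₁ * (c ^ j)⁻¹ = (c ^ j * c ^ j) * w₁ := by
      rw [conj_inv_elt hwc₁, two_mul, zpow_add]
    have h2 : w₁ * (c ^ j * c ^ j) * w₁⁻¹ = c ^ j * c ^ j := by
      have h3 : w₁ * (c ^ j * c ^ j) * w₁⁻¹ = (c ^ j * c ^ j)⁻¹ := by
        rw [← zpow_add, ← conj_zpow, hwc₁, inv_zpow]
      rw [h3]
      exact inv_eq_of_mul_eq_one_right hj2
    have h2' : w₁ * (c ^ j * c ^ j) = (c ^ j * c ^ j) * w₁ := mul_inv_eq_iff_eq_mul.1 h2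
    have hz : c ^ j ∈ normalizer ((S : Subgroup G) : Set G) := le_normalizer (zpow_mem hcS j)
    have h4 : (c ^ j * w₁ * (c ^ j)⁻¹) * w₁ = w₁ * (c ^ j * w₁ * (c ^ j)⁻¹) := by
      rw [h1, ← h2', mul_assoc, h2']
    rcases q₁.conj_w hz (q₁.norm_of_comm hz h4) with h5 | h5
    · exfalso
      rw [h1] at h5
      exact hj1 (mul_eq_right.1 h5)
    · rw [h1] at h5
      exact mul_right_cancel h5
  have ht := key d.q hwc
  have ht' := key d'.q hwc'
  refine ⟨c ^ j, ⟨d.q, hcS, hwc, ⟨j, rfl⟩, ht, ?_, hnorm, ?_, hn1⟩, ⟨d'.q, hcS, hwc', ⟨j, rfl⟩, ht', ?_, hnorm, ?_, hn2⟩⟩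
  · intro s hs
    obtain ⟨i, hi⟩ := hY1' s hs
    refine ⟨i, d.q.cent_w.1 ⟨mul_mem (inv_mem (zpow_mem hcS i)) hs, ?_⟩⟩
    rw [← conj_inv_elt hwc] at hi
    calc (c ^ i)⁻¹ * s * w = (c ^ i)⁻¹ * (s * w * s⁻¹) * s := by group
      _ = (c ^ i)⁻¹ * (c ^ i * w * (c ^ i)⁻¹) * s := by rw [hi]
      _ = w * ((c ^ i)⁻¹ * s) := by group
  · intro i hi
    rw [← ht]; exact hj3 i hi
  · intro s hs
    obtain ⟨i, hi⟩ := hY2' s hs
    refine ⟨i, d'.q.cent_w.1 ⟨mul_mem (inv_mem (zpow_mem hcS i)) hs, ?_⟩⟩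
    rw [← conj_inv_elt hwc'] at hi
    calc (c ^ i)⁻¹ * s * w' = (c ^ i)⁻¹ * (s * w' * s⁻¹) * s := by group
      _ = (c ^ i)⁻¹ * (c ^ i * w' * (c ^ i)⁻¹) * s := by rw [hi]
      _ = w' * ((c ^ i)⁻¹ * s) := by group
  · intro i hi
    rw [← ht']; exact hj3 i hi

end Cfsg.Agent.H305.Ess
end

-- part: H305/EndE
section
/-!
# Endgame: all essential subgroups
-/

set_option autoImplicit false

namespace Cfsg.Agent.H305.Ess

open Subgroup Cfsg.Agent.Lib.GoldschmidtFusion Cfsg.Agent.H305.FF Cfsg.Agent.H305.Chain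
open scoped Pointwise commutatorElement

variable {G : Type*} [Group G]

theorem exists_pow_two {S : Sylow 2 G} {v : G} (hv : v ∈ (S : Subgroup G)) : ∃ n : ℕ, v ^ 2 ^ n = 1 := by
  obtain ⟨n, hn⟩ := S.isPGroup' ⟨v, hv⟩
  exact ⟨n, congrArg Subtype.val hn⟩

/-- odd powers are invertible -/
theorem odd_inv {S : Sylow 2 G} {v : G} (hv : v ∈ (S : Subgroup G)) (o : ℤ) :
    ∃ o' : ℤ, v ^ ((1 + 2 * o) * o') = v := by
  obtain ⟨n, hn⟩ := exists_pow_two hv
  have h1 : IsCoprime (1 + 2 * o) ((2 : ℤ) ^ n) := by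
    apply IsCoprime.pow_right
    exact ⟨1, -o, by ring⟩
  obtain ⟨a, b, hab⟩ := h1
  refine ⟨a, ?_⟩
  have h2 : v ^ ((2 : ℤ) ^ n) = 1 := by
    have : ((2 : ℤ) ^ n) = ((2 ^ n : ℕ) : ℤ) := by push_cast; rfl
    rw [this, zpow_natCast, hn]
  have h3 : (1 + 2 * o) * a = 1 - (2 : ℤ) ^ n * b := by
    calc (1 + 2 * o) * a = (a * (1 + 2 * o) + b * 2 ^ n) - (2 : ℤ) ^ n * b := by ring
      _ = 1 - (2 : ℤ) ^ n * b := by rw [hab]
  rw [h3, zpow_sub, zpow_mul, h2, one_zpow, inv_one, mul_one, zpow_one]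

theorem odd_one {S : Sylow 2 G} {v : G} (hv : v ∈ (S : Subgroup G)) {o : ℤ} (h : v ^ (1 + 2 * o) = 1) : v = 1 := by
  obtain ⟨o', ho'⟩ := odd_inv hv o
  rw [zpow_mul, h, one_zpow] at ho'
  exact ho'.symm

namespace Half

variable {S : Sylow 2 G} {E : Subgroup G} {t w : G} {A : Subgroup G} {c z : G} (H : Half S E t w A c z)
include H

theorem cci (i : ℤ) : c ^ i ∈ (S : Subgroup G) := zpow_mem H.cS i

theorem zS : z ∈ (S : Subgroup G) := by
  obtain ⟨j, rfl⟩ := H.zc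
  exact H.cci j

theorem wci (i : ℤ) : w * c ^ i * w⁻¹ = c ^ (-i) := by
  rw [← conj_zpow, H.wc, inv_zpow, zpow_neg]

theorem wci' (i : ℤ) : w * c ^ i = c ^ (-i) * w := mul_inv_eq_iff_eq_mul.1 (H.wci i)

theorem tj : ∃ j : ℤ, t = c ^ (2 * j) ∧ z = c ^ j := by
  obtain ⟨j, hj⟩ := H.zc
  exact ⟨j, by rw [← H.zz, hj, two_mul, zpow_add], hj⟩

theorem zw : z * w * z⁻¹ = t * w := by
  obtain ⟨j, h1, h2⟩ := H.tj
  rw [h2, conj_inv_elt H.wc, h1]

theorem tcomm (i : ℤ) : t * c ^ i = c ^ i * t := by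
  obtain ⟨j, h1, -⟩ := H.tj
  rw [h1, ← zpow_add, ← zpow_add, add_comm]

theorem zcomm (i : ℤ) : z * c ^ i = c ^ i * z := by
  obtain ⟨j, -, h1⟩ := H.tj
  rw [h1, ← zpow_add, ← zpow_add, add_comm]

variable [Finite G]

theorem zT : z ∈ T0 S E := by
  refine ⟨H.zS, norm_of_conj_le (fun e he => ?_)⟩
  refine H.q.cent_eq (v := t * w) (mul_mem H.q.tV H.q.wV) H.q.twc (mul_mem (mul_mem H.zS (H.q.hE.le he)) (inv_mem H.zS)) ?_
  rw [← H.zw]
  have h1 := H.q.hE.comm e he w H.q.wE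
  calc z * e * z⁻¹ * (z * w * z⁻¹) = z * (e * w) * z⁻¹ := by group
    _ = z * (w * e) * z⁻¹ := by rw [h1]
    _ = z * w * z⁻¹ * (z * e * z⁻¹) := by group

theorem za {a : G} (ha : a ∈ A) : z * a = a * z := H.q.Acen ha z H.zT

theorem ta {a : G} (ha : a ∈ A) : t * a = a * t := H.q.hE.comm t H.q.tE a (H.q.AE ha)

theorem wa {a : G} (ha : a ∈ A) : w * a = a * w := H.q.hE.comm w H.q.wE a (H.q.AE ha)

/-- `⟨c⟩ ∩ A = 1` -/
theorem ca {i : ℤ} (h : c ^ i ∈ A) : c ^ i = 1 := by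
  have h1 := H.wa h
  rw [H.wci'] at h1
  have h2 := mul_right_cancel h1
  rw [zpow_neg] at h2
  have h3 : c ^ i * c ^ i = 1 := by
    nth_rewrite 1 [← h2]
    exact inv_mul_cancel _
  rcases H.two i h3 with h4 | h4
  · exact h4
  · exfalso
    rw [h4] at h
    exact H.q.tA h

theorem dec {s : G} (hs : s ∈ (S : Subgroup G)) : ∃ i : ℤ, ∃ a ∈ A, s = c ^ i * a ∨ s = c ^ i * w * a := by
  obtain ⟨i, hi⟩ := H.SE s hs
  obtain ⟨y, hy, hya⟩ := H.q.decomp _ hi
  obtain ⟨j, hj, -⟩ := H.tj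
  rcases hy with rfl | rfl | rfl | rfl
  · exact ⟨i, _, hya, Or.inl (by group)⟩
  · exact ⟨i + 2 * j, _, hya, Or.inl (by rw [zpow_add, ← hj]; group)⟩
  · exact ⟨i, _, hya, Or.inr (by group)⟩
  · exact ⟨i + 2 * j, _, hya, Or.inr (by rw [zpow_add, ← hj]; group)⟩

/-- commutation with `z` -/
theorem com1 {i : ℤ} {a : G} (ha : a ∈ A) : z * (c ^ i * a) = (c ^ i * a) * z := by
  rw [← mul_assoc, H.zcomm, mul_assoc, H.za ha, mul_assoc]

theorem com2 {i : ℤ} {a : G} (ha : a ∈ A) : z * (c ^ i * w * a) ≠ (c ^ i * w * a) * z := by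
  intro h
  have h1 := H.zw
  have h2 : z * (c ^ i * w * a) = t * ((c ^ i * w * a) * z) := by
    calc z * (c ^ i * w * a) = (z * c ^ i) * w * a := by group
      _ = c ^ i * (z * w * z⁻¹) * (z * a) := by rw [H.zcomm]; group
      _ = c ^ i * (t * w) * (a * z) := by rw [h1, H.za ha]
      _ = (c ^ i * t) * w * a * z := by group
      _ = t * ((c ^ i * w * a) * z) := by rw [← H.tcomm]; group
  rw [h] at h2
  exact H.q.t1 (mul_eq_right.1 h2.symm)

theorem a_conj {a : G} (ha : a ∈ A) : ∃ u : ℤ, ∀ i : ℤ, a * c ^ i * a⁻¹ = c ^ (i * (1 + 4 * u)) := by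
  obtain ⟨u, hu⟩ := H.norm a (le_normalizer (H.q.AS ha))
  have h1 : ∀ i : ℤ, a * c ^ i * a⁻¹ = c ^ (i * (1 + 2 * u)) := by
    intro i
    rw [← conj_zpow, hu, ← zpow_mul, mul_comm]
  obtain ⟨j, h2, h3⟩ := H.tj
  have h4 : a * z * a⁻¹ = z := by rw [← H.za ha]; group
  rw [h3, h1 j] at h4
  have h5 : t ^ u = 1 := by
    rw [h2, ← zpow_mul]
    have h6 : c ^ (j * (1 + 2 * u)) = c ^ j * c ^ (2 * j * u) := by rw [← zpow_add]; congr 1; ring
    rw [h6] at h4
    exact mul_eq_left.1 h4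
  rcases Int.even_or_odd' u with ⟨u', rfl | rfl⟩
  · refine ⟨u', fun i => ?_⟩
    rw [h1]; congr 1; ring
  · exfalso
    rw [add_comm] at h5
    exact H.q.t1 (odd_one H.q.tS h5)

/-- involutions commuting with `z` -/
theorem l1 {s : G} (hs : s ∈ (S : Subgroup G)) (hss : s * s = 1) (hsz : z * s = s * z) : Cen (T0 S E) s := by
  obtain ⟨i, a, ha, rfl | rfl⟩ := H.dec hs
  · obtain ⟨u, hu⟩ := H.a_conj ha
    have h1 : c ^ (2 * i * (1 + 2 * u)) * (a * a) = 1 := by
      rw [← hss]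
      calc c ^ (2 * i * (1 + 2 * u)) * (a * a) = c ^ i * c ^ (i * (1 + 4 * u)) * (a * a) := by
            rw [← zpow_add]; congr 2; ring
        _ = c ^ i * (a * c ^ i * a⁻¹) * (a * a) := by rw [hu]
        _ = c ^ i * a * (c ^ i * a) := by group
    have h2 : c ^ (2 * i * (1 + 2 * u)) ∈ A := by
      rw [eq_inv_of_mul_eq_one_left h1]
      exact inv_mem (mul_mem ha ha)
    have h3 := H.ca h2
    have h4 : c ^ (2 * i) = 1 := by
      rw [zpow_mul] at h3
      exact odd_one (H.cci _) h3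
    have h5 : c ^ i * c ^ i = 1 := by rw [← zpow_add, ← two_mul, h4]
    rcases H.two i h5 with h6 | h6
    · rw [h6, one_mul]; exact H.q.Acen ha
    · rw [h6]; exact H.q.tcen.mul (H.q.Acen ha)
  · exact absurd hsz (H.com2 ha)

theorem l2 {E₁ : Subgroup G} {t₁ w₁ : G} {A₁ : Subgroup G} (q₁ : Q2 S E₁ t₁ w₁ A₁) : z * w₁ ≠ w₁ * z := by
  intro h
  have h1 := H.l1 q₁.wS q₁.ww h
  obtain ⟨f, hfS, hfE, hfN⟩ := H.q.hE.exists_t
  obtain ⟨e, he, hfe⟩ := H.q.hE.exists_noncomm hfS hfE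
  have h2 := q₁.cent_w.1 ⟨hfS, h1 f ⟨hfS, hfN⟩⟩
  have h3 := q₁.cent_w.1 ⟨H.q.hE.le he, h1 e (H.q.E_le he)⟩
  exact hfe (q₁.hE.comm f h2 e h3)

theorem l3 {i : ℤ} {a : G} (ha : a ∈ A) (hss : (c ^ i * w * a) * (c ^ i * w * a) = 1) : a * a = 1 := by
  obtain ⟨u, hu⟩ := H.a_conj ha
  have h1 : c ^ (-(4 * u * i)) * (a * a) = 1 := by
    rw [← hss]
    have h2 := H.wci (i * (1 + 4 * u))
    calc c ^ (-(4 * u * i)) * (a * a) = c ^ i * c ^ (-(i * (1 + 4 * u))) * (a * a) := by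
          rw [← zpow_add]; congr 2; ring
      _ = c ^ i * (w * c ^ (i * (1 + 4 * u)) * w⁻¹) * (a * a) := by rw [h2]
      _ = c ^ i * (w * (a * c ^ i * a⁻¹) * w) * (a * a) := by rw [hu, inv_eq_of_mul_eq_one_right H.q.ww]
      _ = c ^ i * w * a * c ^ i * a⁻¹ * (w * a) * a := by group
      _ = c ^ i * w * a * c ^ i * a⁻¹ * (a * w) * a := by rw [H.wa ha]
      _ = (c ^ i * w * a) * (c ^ i * w * a) := by group
  have h2 : c ^ (-(4 * u * i)) ∈ A := by
    rw [eq_inv_of_mul_eq_one_left h1]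
    exact inv_mem (mul_mem ha ha)
  rw [H.ca h2, one_mul] at h1
  exact h1

theorem l4 {i : ℤ} {a : G} (ha : a ∈ A) (l : ℤ) : ∃ g ∈ (S : Subgroup G),
    g * (c ^ i * w * a) * g⁻¹ = c ^ (2 * l) * (c ^ i * w * a) := by
  obtain ⟨u, hu⟩ := H.a_conj ha
  obtain ⟨o, ho⟩ := odd_inv H.cS u
  refine ⟨c ^ (l * o), H.cci _, ?_⟩
  set m := l * o with hm
  have h1 : w * (a * (c ^ m)⁻¹ * a⁻¹) * w⁻¹ = c ^ (m * (1 + 4 * u)) := by
    rw [← zpow_neg, hu, H.wci]; congr 1; ring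
  calc c ^ m * (c ^ i * w * a) * (c ^ m)⁻¹ = c ^ m * c ^ i * (w * (a * (c ^ m)⁻¹ * a⁻¹) * w⁻¹) * w * a := by group
    _ = c ^ m * c ^ i * c ^ (m * (1 + 4 * u)) * w * a := by rw [h1]
    _ = c ^ (2 * m * (1 + 2 * u) + i) * w * a := by
      rw [← zpow_add, ← zpow_add]; congr 3; ring
    _ = c ^ (2 * l + i) * w * a := by
      congr 2
      rw [zpow_add, zpow_add]
      congr 1
      have e : 2 * m * (1 + 2 * u) = ((1 + 2 * u) * o) * (2 * l) := by rw [hm]; ring
      rw [e, zpow_mul, ho]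
    _ = c ^ (2 * l) * (c ^ i * w * a) := by rw [zpow_add]; group

/-- **the class of an essential subgroup** -/
theorem class_of {E₁ : Subgroup G} {t₁ w₁ : G} {A₁ : Subgroup G} (q₁ : Q2 S E₁ t₁ w₁ A₁) :
    ∃ i : ℤ, ∃ a ∈ A, w₁ = c ^ i * w * a ∧ a * a = 1 ∧ ((∃ j, i = 2 * j) → ∃ s ∈ (S : Subgroup G), E = cj s E₁) := by
  obtain ⟨i, a, ha, h1⟩ := H.dec q₁.wS
  have h2 := H.l2 q₁
  rcases h1 with rfl | rfl
  · exact absurd (H.com1 ha) h2
  · have haa := H.l3 ha q₁.ww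
    refine ⟨i, a, ha, rfl, haa, ?_⟩
    rintro ⟨j, rfl⟩
    obtain ⟨g, hgS, hg⟩ := H.l4 (i := 2 * j) ha (-j)
    have h3 : g * (c ^ (2 * j) * w * a) * g⁻¹ = w * a := by
      rw [hg]
      calc c ^ (2 * -j) * (c ^ (2 * j) * w * a) = c ^ (2 * -j) * c ^ (2 * j) * (w * a) := by group
        _ = w * a := by
          rw [← zpow_add]
          have : 2 * -j + 2 * j = 0 := by ring
          rw [this, zpow_zero, one_mul]
    have hwaV : w * a ∈ om E := by
      rw [H.q.hE.mem_om']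
      refine ⟨mul_mem H.q.wE (H.q.AE ha), ?_⟩
      calc w * a * (w * a) = w * (a * w) * a := by group
        _ = w * (w * a) * a := by rw [H.wa ha]
        _ = (w * w) * (a * a) := by group
        _ = 1 := by rw [H.q.ww, haa, one_mul]
    have hwac : ¬ Cen (T0 S E) (w * a) := by
      intro hc
      apply H.q.wcen
      have := hc.mul (H.q.Acen ha).inv
      rwa [mul_inv_cancel_right] at this
    refine ⟨g, hgS, ?_⟩
    ext y
    rw [mem_cj, ← q₁.cent_w]
    constructor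
    · intro hy
      refine ⟨mul_mem (mul_mem (inv_mem hgS) (H.q.hE.le hy)) hgS, ?_⟩
      have h4 := H.q.hE.comm y hy _ (om_le E hwaV)
      rw [← h3] at h4
      calc g⁻¹ * y * g * (c ^ (2 * j) * w * a) = g⁻¹ * (y * (g * (c ^ (2 * j) * w * a) * g⁻¹)) * g := by group
        _ = g⁻¹ * ((g * (c ^ (2 * j) * w * a) * g⁻¹) * y) * g := by rw [h4]
        _ = c ^ (2 * j) * w * a * (g⁻¹ * y * g) := by group
    · rintro ⟨hy1, hy2⟩
      have hyS : y ∈ (S : Subgroup G) := by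
        have := mul_mem (mul_mem hgS hy1) (inv_mem hgS)
        have e : g * (g⁻¹ * y * g) * g⁻¹ = y := by group
        rwa [e] at this
      refine H.q.cent_eq hwaV hwac hyS ?_
      rw [← h3]
      calc y * (g * (c ^ (2 * j) * w * a) * g⁻¹) = g * (g⁻¹ * y * g * (c ^ (2 * j) * w * a)) * g⁻¹ := by group
        _ = g * (c ^ (2 * j) * w * a * (g⁻¹ * y * g)) * g⁻¹ := by rw [hy2]
        _ = g * (c ^ (2 * j) * w * a) * g⁻¹ * y := by group

end Half

/-- the mixed case is impossible -/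
theorem no_mixed [Finite G] {S : Sylow 2 G} {E : Subgroup G} {t w w' : G} {A : Subgroup G} {z : G}
    (H : Half S E t w A (w * w') z) {a a' : G}
    (ha : a ∈ A) (haa : a * a = 1) (haa' : a' * a' = 1) {i j : ℤ}
    (heq : (w * w') ^ (2 * i + 1) * w * a = (w * w') ^ (2 * j + 1) * w' * a') : False := by
  have hww := H.q.ww
  set c := w * w' with hc
  have hw' : w' = w * c := by rw [hc, ← mul_assoc, hww, one_mul]
  -- `w⁻¹ c^l w = a' a⁻¹`
  have h1 : c ^ (2 * i + 1 - 2 * j) * w * a = w * a' := by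
    have h2 : c ^ (2 * j + 1) * w' = c ^ (2 * j) * w := by
      rw [hw']
      have h3 := H.wci' 1
      rw [zpow_one] at h3
      rw [h3, ← mul_assoc, ← zpow_add]
      congr 2; ring
    rw [h2] at heq
    calc c ^ (2 * i + 1 - 2 * j) * w * a = (c ^ (2 * j))⁻¹ * (c ^ (2 * i + 1) * w * a) := by
          have e : 2 * i + 1 - 2 * j = -(2 * j) + (2 * i + 1) := by ring
          rw [e, zpow_add, zpow_neg]; group
      _ = (c ^ (2 * j))⁻¹ * (c ^ (2 * j) * w * a') := by rw [heq]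
      _ = w * a' := by group
  set l := 2 * i + 1 - 2 * j with hl
  have hai : a⁻¹ = a := inv_eq_of_mul_eq_one_right haa
  have hai' : a'⁻¹ = a' := inv_eq_of_mul_eq_one_right haa'
  have h2 : c ^ (-l) = a' * a := by
    have h3 : w * c ^ (-l) = c ^ l * w := by
      have := H.wci' (-l)
      rwa [neg_neg] at this
    have h4 : w * (c ^ (-l) * a) = w * a' := by rw [← h1, ← h3]; group
    have h5 := mul_left_cancel h4
    rw [← h5, mul_assoc, haa, mul_one]
  have h3 : a * c ^ (-l) * a⁻¹ = c ^ l := by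
    have h4 : c ^ l = (a' * a)⁻¹ := by rw [← h2, zpow_neg, inv_inv]
    rw [h4, h2, mul_inv_rev, hai, hai']
    calc a * (a' * a) * a = a * a' * (a * a) := by group
      _ = a * a' := by rw [haa, mul_one]
  obtain ⟨j0, ht0, hz0⟩ := H.tj
  have h4 : a * z ^ (-l) * a⁻¹ = z ^ l := by
    have e1 : z ^ (-l) = (c ^ (-l)) ^ j0 := by rw [hz0, ← zpow_mul, ← zpow_mul, mul_comm]
    have e2 : z ^ l = (c ^ l) ^ j0 := by rw [hz0, ← zpow_mul, ← zpow_mul, mul_comm]
    rw [e1, e2, ← conj_zpow, h3]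
  have h5 : a * z ^ (-l) * a⁻¹ = z ^ (-l) := by
    have h6 : Commute a z := (H.za ha).symm
    have h7 := (h6.zpow_right (-l)).eq
    rw [h7]; group
  rw [h5] at h4
  have h6 : t ^ l = 1 := by
    rw [← H.zz]
    have h7 : (z * z) ^ l = z ^ l * z ^ l := (Commute.refl z).mul_zpow l
    rw [h7]
    nth_rewrite 1 [← h4]
    rw [← zpow_add, neg_add_cancel, zpow_zero]
  have h7 : l = 1 + 2 * (i - j) := by rw [hl]; ring
  rw [h7] at h6
  exact H.q.t1 (odd_one H.q.tS h6)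

end Cfsg.Agent.H305.Ess
end

-- part: H305/EndF
section
/-!
# Endgame: a non-normal essential subgroup gives a dihedral Sylow subgroup or a strongly closed abelian subgroup
-/

set_option autoImplicit false

namespace Cfsg.Agent.H305.Ess

open Subgroup Cfsg.Agent.Lib.GoldschmidtFusion Cfsg.Agent.H305.FF Cfsg.Agent.H305.Chain
open scoped Pointwise commutatorElement

variable {G : Type*} [Group G] [Finite G]

/-- the center of `S` -/
def Zs (S : Subgroup G) : Subgroup G := S ⊓ centralizer (S : Set G)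

omit [Finite G] in
theorem mem_Zs {S : Subgroup G} {z : G} : z ∈ Zs S ↔ z ∈ S ∧ Cen S z :=
  ⟨fun h => ⟨h.1, mem_centralizer_iff.1 h.2⟩, fun h => ⟨h.1, mem_centralizer_iff.2 h.2⟩⟩

omit [Finite G] in
theorem mem_closure_pair {w c w' d : G} (hww : w * w = 1) (hwc : w * c * w⁻¹ = c⁻¹) (hw' : w' = w * c)
    (hd : d ∈ closure ({w, w'} : Set G)) : ∃ i : ℤ, d = c ^ i ∨ d = c ^ i * w := by
  have hwi : ∀ i : ℤ, w * c ^ i = c ^ (-i) * w := by
    intro i
    rw [← mul_inv_eq_iff_eq_mul, ← conj_zpow, hwc, inv_zpow, zpow_neg]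
  have h1 : w' = c ^ (-1 : ℤ) * w := by rw [hw', ← hwi, zpow_one]
  induction hd using closure_induction with
  | mem x hx =>
    rcases hx with rfl | rfl
    · exact ⟨0, Or.inr (by rw [zpow_zero, one_mul])⟩
    · exact ⟨-1, Or.inr h1⟩
  | one => exact ⟨0, Or.inl (by rw [zpow_zero])⟩
  | mul x y _ _ hx hy =>
    obtain ⟨i, rfl | rfl⟩ := hx <;> obtain ⟨j, rfl | rfl⟩ := hy
    · exact ⟨i + j, Or.inl (by rw [zpow_add])⟩
    · exact ⟨i + j, Or.inr (by rw [zpow_add]; group)⟩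
    · refine ⟨i + -j, Or.inr ?_⟩
      rw [mul_assoc, hwi, zpow_add]; group
    · refine ⟨i + -j, Or.inl ?_⟩
      calc c ^ i * w * (c ^ j * w) = c ^ i * (w * c ^ j) * w := by group
        _ = c ^ i * c ^ (-j) * (w * w) := by rw [hwi]; group
        _ = c ^ (i + -j) := by rw [hww, mul_one, zpow_add]
  | inv x _ hx =>
    obtain ⟨i, rfl | rfl⟩ := hx
    · exact ⟨-i, Or.inl (by rw [zpow_neg])⟩
    · refine ⟨i, Or.inr ?_⟩
      rw [mul_inv_rev, inv_eq_of_mul_eq_one_right hww, ← zpow_neg, hwi, neg_neg]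

section

variable {S : Sylow 2 G} {E : Subgroup G} {t w w' : G} {A : Subgroup G} {z : G}

namespace Half

variable (H : Half S E t w A (w * w') z)
include H

omit [Finite G] in
theorem c_mem : w * w' ∈ closure ({w, w'} : Set G) :=
  mul_mem (subset_closure (by simp)) (subset_closure (by simp))

theorem eq_wc : w' = w * (w * w') := by rw [← mul_assoc, H.q.ww, one_mul]

theorem mem_D {d : G} (hd : d ∈ closure ({w, w'} : Set G)) : ∃ i : ℤ, d = (w * w') ^ i ∨ d = (w * w') ^ i * w :=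
  mem_closure_pair H.q.ww H.wc H.eq_wc hd

theorem decD {s : G} (hs : s ∈ (S : Subgroup G)) : ∃ d ∈ closure ({w, w'} : Set G), ∃ a ∈ A, s = d * a := by
  obtain ⟨i, a, ha, h1 | h1⟩ := H.dec hs
  · exact ⟨_, zpow_mem H.c_mem i, a, ha, h1⟩
  · exact ⟨_, mul_mem (zpow_mem H.c_mem i) (subset_closure (by simp)), a, ha, h1⟩

omit [Finite G] in
theorem D_le : closure ({w, w'} : Set G) ≤ (S : Subgroup G) := by
  rw [closure_le]
  rintro x (rfl | rfl)
  · exact H.q.wS
  · have := mul_mem (inv_mem H.q.wS) H.cS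
    rwa [inv_mul_cancel_left] at this

theorem D_conj {n d : G} (hn : n ∈ normalizer ((S : Subgroup G) : Set G)) (hd : d ∈ closure ({w, w'} : Set G)) :
    n * d * n⁻¹ ∈ closure ({w, w'} : Set G) := by
  obtain ⟨u, hu⟩ := H.norm n hn
  obtain ⟨v, hv⟩ := H.wn n hn
  have hwm : w ∈ closure ({w, w'} : Set G) := subset_closure (by simp)
  obtain ⟨i, rfl | rfl⟩ := H.mem_D hd
  · rw [← conj_zpow, hu]
    exact zpow_mem (zpow_mem H.c_mem _) _
  · have e : n * ((w * w') ^ i * w) * n⁻¹ = (n * (w * w') ^ i * n⁻¹) * (n * w * n⁻¹) := by group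
    rw [e, hv, ← conj_zpow, hu]
    exact mul_mem (zpow_mem (zpow_mem H.c_mem _) _) (mul_mem (zpow_mem H.c_mem _) hwm)

theorem D_conj' {n d : G} (hn : n ∈ normalizer ((S : Subgroup G) : Set G)) (hd : d ∈ closure ({w, w'} : Set G)) :
    n⁻¹ * d * n ∈ closure ({w, w'} : Set G) := by
  have := H.D_conj (inv_mem hn) hd
  rwa [inv_inv] at this

/-- commutators of elements of `S` are in `D` -/
theorem comm_D {s s' : G} (hs : s ∈ (S : Subgroup G)) (hs' : s' ∈ (S : Subgroup G)) :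
    s⁻¹ * (s' * s * s'⁻¹) ∈ closure ({w, w'} : Set G) := by
  obtain ⟨d, hd, a, ha, rfl⟩ := H.decD hs
  obtain ⟨d', hd', a', ha', rfl⟩ := H.decD hs'
  have hA := H.q.A_comm ha' ha
  have haN : a ∈ normalizer ((S : Subgroup G) : Set G) := le_normalizer (H.q.AS ha)
  have haN' : a' ∈ normalizer ((S : Subgroup G) : Set G) := le_normalizer (H.q.AS ha')
  have e : (d * a)⁻¹ * (d' * a' * (d * a) * (d' * a')⁻¹) = (a⁻¹ * (d⁻¹ * d' * (a' * d * a'⁻¹)) * a) * d'⁻¹ := by
    calc (d * a)⁻¹ * (d' * a' * (d * a) * (d' * a')⁻¹) = a⁻¹ * (d⁻¹ * d' * (a' * d * a'⁻¹)) * (a' * a) * a'⁻¹ * d'⁻¹ := by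
          group
      _ = a⁻¹ * (d⁻¹ * d' * (a' * d * a'⁻¹)) * (a * a') * a'⁻¹ * d'⁻¹ := by rw [hA]
      _ = _ := by group
  rw [e]
  exact mul_mem (H.D_conj' haN (mul_mem (mul_mem (inv_mem hd) hd') (H.D_conj haN' hd))) (inv_mem hd')

theorem cen_iff {g : G} (h1 : ∀ i : ℤ, (w * w') ^ i * g = g * (w * w') ^ i) (h2 : w * g = g * w)
    (h3 : ∀ a ∈ A, a * g = g * a) : Cen (S : Subgroup G) g := by
  intro s hs
  obtain ⟨i, a, ha, rfl | rfl⟩ := H.dec hs
  · rw [mul_assoc, h3 a ha, ← mul_assoc, h1, mul_assoc]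
  · rw [mul_assoc, h3 a ha, ← mul_assoc, mul_assoc _ w g, h2, ← mul_assoc, h1, mul_assoc, mul_assoc, mul_assoc]

/-- the action of `N(S)` on `A` -/
theorem A_act {n a : G} (hn : n ∈ normalizer ((S : Subgroup G) : Set G)) (ha : a ∈ A) :
    ∃ i : ℤ, ∃ b ∈ A, n * a * n⁻¹ = (w * w') ^ i * b * ((w * w') ^ i)⁻¹ ∧ Cen (S : Subgroup G) (a⁻¹ * b) := by
  obtain ⟨i, hi⟩ := H.wn n hn
  rw [← conj_inv_elt H.wc] at hi
  set m := ((w * w') ^ i)⁻¹ * n with hm
  have hmN : m ∈ normalizer ((S : Subgroup G) : Set G) := mul_mem (inv_mem (le_normalizer (H.cci i))) hn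
  have hmw : m * w * m⁻¹ = w := by
    calc m * w * m⁻¹ = ((w * w') ^ i)⁻¹ * (n * w * n⁻¹) * (w * w') ^ i := by rw [hm]; group
      _ = w := by rw [hi]; group
  have hmE : m ∈ normalizer (E : Set G) := H.q.norm_of_comm hmN (by rw [hmw])
  have hb := H.q.Ainv hmE ha
  refine ⟨i, _, hb, by rw [hm]; group, ?_⟩
  refine H.cen_iff ?_ ?_ ?_
  · intro j
    obtain ⟨u, hu⟩ := H.a_conj ha
    obtain ⟨v, hv⟩ := H.norm m hmN
    have hv' : ∀ j : ℤ, m * (w * w') ^ j * m⁻¹ = (w * w') ^ (j * (1 + 2 * v)) := by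
      intro j
      rw [← conj_zpow, hv, ← zpow_mul, mul_comm]
    -- `m a m⁻¹ c^j m a⁻¹ m⁻¹ = c^(j (1+4u))`
    have h1 : ∀ j : ℤ, (m * a * m⁻¹) * (w * w') ^ j * (m * a * m⁻¹)⁻¹ = (w * w') ^ (j * (1 + 4 * u)) := by
      intro j
      have hb2 : m * a * m⁻¹ ∈ (S : Subgroup G) := H.q.AS hb
      obtain ⟨u', hu'⟩ := H.norm _ (le_normalizer hb2)
      -- evaluate at `m c m⁻¹`
      have h2 : ∀ j : ℤ, (m * a * m⁻¹) * (w * w') ^ j * (m * a * m⁻¹)⁻¹ = (w * w') ^ (j * (1 + 2 * u')) := by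
        intro j
        rw [← conj_zpow, hu', ← zpow_mul, mul_comm]
      have h3 := h2 (1 * (1 + 2 * v))
      rw [← hv' 1] at h3
      have h4 : (m * a * m⁻¹) * (m * (w * w') ^ (1 : ℤ) * m⁻¹) * (m * a * m⁻¹)⁻¹ = (w * w') ^ ((1 * (1 + 4 * u)) * (1 + 2 * v)) := by
        rw [← hv', ← hu]; group
      rw [h4] at h3
      have h5 : ((w * w') ^ ((1 + 4 * u) - (1 + 2 * u'))) ^ (1 + 2 * v) = 1 := by
        rw [← zpow_mul]
        have e : ((1 + 4 * u) - (1 + 2 * u')) * (1 + 2 * v) = (1 * (1 + 4 * u)) * (1 + 2 * v) - 1 * (1 + 2 * v) * (1 + 2 * u') := by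
          ring
        rw [e, zpow_sub, h3, mul_inv_cancel]
      have h6 := odd_one (H.cci _) h5
      rw [h2]
      have e : j * (1 + 4 * u) = j * (1 + 2 * u') + ((1 + 4 * u) - (1 + 2 * u')) * j := by ring
      rw [e, zpow_add, zpow_mul _ ((1 + 4 * u) - (1 + 2 * u')), h6, one_zpow, mul_one]
    have h2 : (m * a * m⁻¹) * (w * w') ^ j * (m * a * m⁻¹)⁻¹ = a * (w * w') ^ j * a⁻¹ := by rw [h1, hu]
    calc (w * w') ^ j * (a⁻¹ * (m * a * m⁻¹)) = a⁻¹ * (a * (w * w') ^ j * a⁻¹) * (m * a * m⁻¹) := by group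
      _ = a⁻¹ * ((m * a * m⁻¹) * (w * w') ^ j * (m * a * m⁻¹)⁻¹) * (m * a * m⁻¹) := by rw [h2]
      _ = a⁻¹ * (m * a * m⁻¹) * (w * w') ^ j := by group
  · exact H.wa (mul_mem (inv_mem ha) hb)
  · intro a' ha'
    exact H.q.A_comm ha' (mul_mem (inv_mem ha) hb)

/-- the commutators with elements of `N(S)` -/
theorem comm_DZ {n s : G} (hn : n ∈ normalizer ((S : Subgroup G) : Set G)) (hs : s ∈ (S : Subgroup G)) :
    s⁻¹ * (n * s * n⁻¹) ∈ closure ({w, w'} : Set G) ⊔ Zs (S : Subgroup G) := by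
  obtain ⟨d, hd, a, ha, rfl⟩ := H.decD hs
  have haN : a ∈ normalizer ((S : Subgroup G) : Set G) := le_normalizer (H.q.AS ha)
  obtain ⟨i, b, hb, hnb, hc⟩ := H.A_act hn ha
  have e : (d * a)⁻¹ * (n * (d * a) * n⁻¹) = (a⁻¹ * (d⁻¹ * (n * d * n⁻¹)) * a) *
      ((a⁻¹ * b) * (b⁻¹ * ((w * w') ^ i * b * ((w * w') ^ i)⁻¹))) := by
    rw [← hnb]; group
  rw [e]
  refine mul_mem (mem_sup_left (H.D_conj' haN (mul_mem (inv_mem hd) (H.D_conj hn hd)))) (mul_mem (mem_sup_right ?_)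
    (mem_sup_left ?_))
  · exact mem_Zs.2 ⟨mul_mem (inv_mem (H.q.AS ha)) (H.q.AS hb), hc⟩
  · exact H.comm_D (H.q.AS hb) (H.cci i)

/-- if `S = D Z(S)` then `A` is central -/
theorem A_cen (hS : (S : Subgroup G) ≤ closure ({w, w'} : Set G) ⊔ Zs (S : Subgroup G)) {a : G} (ha : a ∈ A) :
    Cen (S : Subgroup G) a := by
  have hle : Zs (S : Subgroup G) ≤ normalizer (closure ({w, w'} : Set G) : Set G) := by
    intro ζ hζ
    refine norm_of_conj_le (fun d hd => ?_)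
    have h1 := (mem_Zs.1 hζ).2 d (H.D_le hd)
    rw [← h1, mul_inv_cancel_right]
    exact hd
  have h1 : a ∈ (closure ({w, w'} : Set G) : Set G) * (Zs (S : Subgroup G) : Set G) := by
    rw [← coe_mul_of_right_le_normalizer_left _ _ hle]
    exact hS (H.q.AS ha)
  obtain ⟨d, hd, ζ, hζ, rfl⟩ := Set.mem_mul.1 h1
  have hζc := (mem_Zs.1 hζ).2
  refine Cen.mul ?_ hζc
  obtain ⟨i, rfl | rfl⟩ := H.mem_D hd
  · -- `w` commutes with `c^i`
    have h2 := H.wa ha
    have h3 := hζc w H.q.wS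
    have h4 : w * (w * w') ^ i = (w * w') ^ i * w := by
      have h5 : w * (w * w') ^ i * ζ = (w * w') ^ i * w * ζ := by
        calc w * (w * w') ^ i * ζ = w * ((w * w') ^ i * ζ) := by group
          _ = (w * w') ^ i * ζ * w := h2
          _ = (w * w') ^ i * (w * ζ) := by rw [h3]; group
          _ = (w * w') ^ i * w * ζ := by group
      exact mul_right_cancel h5
    rw [H.wci'] at h4
    have h5 := mul_right_cancel h4
    rw [zpow_neg] at h5
    have h6 : (w * w') ^ i * (w * w') ^ i = 1 := by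
      nth_rewrite 1 [← h5]
      exact inv_mul_cancel _
    rcases H.two i h6 with h7 | h7
    · rw [h7]; exact Cen.one _
    · rw [h7]
      exact H.cen_iff (fun j => (H.tcomm j).symm) H.q.tw.symm (fun a ha => (H.ta ha).symm)
  · exfalso
    have h2 := H.za ha
    have h3 := hζc z H.zS
    have h4 : z * ((w * w') ^ i * w * 1) = ((w * w') ^ i * w * 1) * z := by
      have h5 : z * ((w * w') ^ i * w) * ζ = ((w * w') ^ i * w) * z * ζ := by
        calc z * ((w * w') ^ i * w) * ζ = z * ((w * w') ^ i * w * ζ) := by group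
          _ = (w * w') ^ i * w * ζ * z := h2
          _ = (w * w') ^ i * w * (z * ζ) := by rw [h3]; group
          _ = (w * w') ^ i * w * z * ζ := by group
      rw [mul_one]
      exact mul_right_cancel h5
    exact H.com2 (one_mem A) h4

/-- `N(S)` normalizes `A` if `A` is central -/
theorem A_norm (hcen : ∀ a ∈ A, Cen (S : Subgroup G) a) {n a : G} (hn : n ∈ normalizer ((S : Subgroup G) : Set G))
    (ha : a ∈ A) : n * a * n⁻¹ ∈ A := by
  obtain ⟨i, b, hb, hnb, -⟩ := H.A_act hn ha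
  rw [hnb, hcen b hb _ (H.cci i), mul_inv_cancel_right]
  exact hb

/-- elements of `S` commuting with `z` and `w` -/
theorem comm_zw {s : G} (hs : s ∈ (S : Subgroup G)) (hsz : z * s = s * z) (hsw : w * s = s * w) :
    s ∈ A ∨ t * s ∈ A := by
  obtain ⟨i, a, ha, rfl | rfl⟩ := H.dec hs
  · have h1 := H.wa ha
    have h4 : w * (w * w') ^ i = (w * w') ^ i * w := by
      have h5 : w * (w * w') ^ i * a = (w * w') ^ i * w * a := by
        calc w * (w * w') ^ i * a = w * ((w * w') ^ i * a) := by group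
          _ = (w * w') ^ i * a * w := hsw
          _ = (w * w') ^ i * (w * a) := by rw [h1]; group
          _ = (w * w') ^ i * w * a := by group
      exact mul_right_cancel h5
    rw [H.wci'] at h4
    have h5 := mul_right_cancel h4
    rw [zpow_neg] at h5
    have h6 : (w * w') ^ i * (w * w') ^ i = 1 := by
      nth_rewrite 1 [← h5]
      exact inv_mul_cancel _
    rcases H.two i h6 with h7 | h7
    · left; rw [h7, one_mul]; exact ha
    · right; rw [h7, ← mul_assoc, H.q.tt, one_mul]; exact ha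
  · exact absurd hsz (H.com2 ha)

end Half

/-- transport of focal contributions -/
theorem focE_conj {H : Subgroup G} {E₁ : Subgroup G} {s : G} (hH : H ≤ (S : Subgroup G)) (hs : s ∈ (S : Subgroup G))
    (hN : ∀ n ∈ normalizer ((S : Subgroup G) : Set G), ∀ s ∈ (S : Subgroup G), s⁻¹ * (n * s * n⁻¹) ∈ H)
    (hE : ∀ g ∈ normalizer (cj s E₁ : Set G), ∀ e ∈ cj s E₁, e⁻¹ * (g * e * g⁻¹) ∈ H) :
    ∀ g ∈ normalizer (E₁ : Set G), ∀ e ∈ E₁, e⁻¹ * (g * e * g⁻¹) ∈ H := by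
  intro g hg e he
  have h1 := hE (s * g * s⁻¹) (by
    rw [mem_norm_cj]
    have e : s⁻¹ * (s * g * s⁻¹) * s = g := by group
    rw [e]; exact hg) (s * e * s⁻¹) (conj_mem_cj he)
  have h2 := hN s⁻¹ (le_normalizer (inv_mem hs)) _ (hH h1)
  have h3 := mul_mem h1 h2
  have e2 : (s * e * s⁻¹)⁻¹ * (s * g * s⁻¹ * (s * e * s⁻¹) * (s * g * s⁻¹)⁻¹) *
      (((s * e * s⁻¹)⁻¹ * (s * g * s⁻¹ * (s * e * s⁻¹) * (s * g * s⁻¹)⁻¹))⁻¹ *
      (s⁻¹ * ((s * e * s⁻¹)⁻¹ * (s * g * s⁻¹ * (s * e * s⁻¹) * (s * g * s⁻¹)⁻¹)) * s⁻¹⁻¹)) = e⁻¹ * (g * e * g⁻¹) := by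
    group
  rwa [e2] at h3

end

end Cfsg.Agent.H305.Ess
end

-- part: H305/EndG
section
/-!
# Endgame: conclusion
-/

set_option autoImplicit false

namespace Cfsg.Agent.H305.Ess

open Subgroup Cfsg.Agent.Lib.GoldschmidtFusion Cfsg.Agent.H305.FF Cfsg.Agent.H305.Chain
open scoped Pointwise commutatorElement

variable {G : Type*} [Group G]

theorem Half.inv {S : Sylow 2 G} {E : Subgroup G} {t w : G} {A : Subgroup G} {c z : G} (H : Half S E t w A c z) :
    Half S E t w A c⁻¹ z where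
  q := H.q
  cS := inv_mem H.cS
  wc := by rw [← conj_inv, H.wc]
  zc := by
    obtain ⟨j, hj⟩ := H.zc
    exact ⟨-j, by rw [inv_zpow, zpow_neg, inv_inv, hj]⟩
  zz := H.zz
  SE := by
    intro s hs
    obtain ⟨i, hi⟩ := H.SE s hs
    exact ⟨-i, by rw [inv_zpow, zpow_neg, inv_inv]; exact hi⟩
  norm := by
    intro n hn
    obtain ⟨u, hu⟩ := H.norm n hn
    exact ⟨u, by rw [← conj_inv, hu, inv_zpow]⟩
  two := by
    intro i hi
    rw [inv_zpow, ← zpow_neg] at hi ⊢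
    exact H.two (-i) hi
  wn := by
    intro n hn
    obtain ⟨i, hi⟩ := H.wn n hn
    exact ⟨-i, by rw [hi, inv_zpow, ← zpow_neg]; congr 2; ring⟩

variable [Finite G]

theorem exists_min {S : Sylow 2 G} {E₀ : Subgroup G} (h₀ : IsE S E₀) :
    ∃ E, IsE S E ∧ ∀ F, IsE S F → Nat.card E ≤ Nat.card F := by
  obtain ⟨E, hE, hmin⟩ := Set.exists_min_image {E : Subgroup G | IsE S E} (fun E => Nat.card E)
    (Set.toFinite _) ⟨E₀, h₀⟩
  exact ⟨E, hE, hmin⟩

/-- **Endgame** -/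
theorem endgame (hAI : AI G) [IsSimpleGroup G] (hna : ∃ a b : G, a * b ≠ b * a) {S : Sylow 2 G} {E₀ : Subgroup G}
    {x₀ : G} (h₀ : NN S E₀ x₀) :
    (∃ m : ℕ, 2 ≤ m ∧ Nonempty (↥(S : Subgroup G) ≃* DihedralGroup m)) ∨
      ∃ B : Subgroup G, B ≠ ⊥ ∧ (∀ x ∈ B, ∀ y ∈ B, x * y = y * x) ∧ Cfsg.IsStronglyClosed B (S : Subgroup G) := by
  obtain ⟨E, hE, hmin⟩ := exists_min h₀.hE
  obtain ⟨t, w, A, x, k, d⟩ := exists_dat hAI hna h₀ hE
  obtain ⟨F, t', w', A', x', k', d', hw'⟩ := d.exists_F hAI hna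
  obtain ⟨z, H, H'⟩ := exists_half hAI d d' hw' (hmin F d'.q.hE)
  have hww := H.q.ww
  have hww' := H'.q.ww
  have hci : (w * w')⁻¹ = w' * w := c_inv hww hww'
  have H'' : Half S F t' w' A' (w' * w) z := by rw [← hci]; exact H'.inv
  have hpair : ({w', w} : Set G) = {w, w'} := Set.pair_comm w' w
  -- classification of the essential subgroups
  have hall : ∀ E₁, IsE S E₁ → (∃ s ∈ (S : Subgroup G), E = cj s E₁) ∨ (∃ s ∈ (S : Subgroup G), F = cj s E₁) := by
    intro E₁ h₁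
    obtain ⟨t₁, w₁, A₁, x₁, k₁, d₁⟩ := exists_dat hAI hna h₀ h₁
    obtain ⟨i, a, ha, h1, h2, h3⟩ := H.class_of d₁.q
    obtain ⟨j, a', ha', h4, h5, h6⟩ := H'.class_of d₁.q
    rcases Int.even_or_odd' i with ⟨i', hi | hi⟩
    · exact Or.inl (h3 ⟨i', hi⟩)
    rcases Int.even_or_odd' j with ⟨j', hj | hj⟩
    · exact Or.inr (h6 ⟨j', hj⟩)
    exfalso
    rw [hi] at h1
    rw [hj] at h4
    exact no_mixed H ha h2 h5 (h1.symm.trans h4)
  have hwm : w ∈ closure ({w, w'} : Set G) := subset_closure (by simp)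
  have hwm' : w' ∈ closure ({w, w'} : Set G) := subset_closure (by simp)
  have hfoc : ∀ K : Subgroup G, K ≤ (S : Subgroup G) → closure ({w, w'} : Set G) ≤ K →
      (∀ n ∈ normalizer ((S : Subgroup G) : Set G), ∀ s ∈ (S : Subgroup G), s⁻¹ * (n * s * n⁻¹) ∈ K) →
      (S : Subgroup G) ≤ K := by
    intro K hKS hDK hN
    refine focal hAI S hna K hN (fun E₁ h₁ => ?_)
    rcases hall E₁ h₁ with ⟨s, hs, h2⟩ | ⟨s, hs, h2⟩
    · exact focE_conj hKS hs hN (by rw [← h2]; exact H.q.focE hAI hN (hDK hwm))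
    · exact focE_conj hKS hs hN (by rw [← h2]; exact H'.q.focE hAI hN (hDK hwm'))
  have hS : (S : Subgroup G) ≤ closure ({w, w'} : Set G) ⊔ Zs (S : Subgroup G) :=
    hfoc _ (sup_le H.D_le inf_le_left) le_sup_left (fun n hn s hs => H.comm_DZ hn hs)
  have hcA : ∀ a ∈ A, Cen (S : Subgroup G) a := fun a ha => H.A_cen hS ha
  have hcA' : ∀ a ∈ A', Cen (S : Subgroup G) a := fun a ha => H''.A_cen (by rw [hpair]; exact hS) ha
  by_cases hB : A ⊓ A' = ⊥
  · left
    have hfix : ∀ n ∈ normalizer ((S : Subgroup G) : Set G), ∀ a ∈ A, n * a * n⁻¹ = a := by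
      intro n hn a ha
      have hb := H.A_norm hcA hn ha
      have hone : ∀ b, b ∈ A → b ∈ A' → b = 1 := by
        intro b hb hb'
        have : b ∈ A ⊓ A' := ⟨hb, hb'⟩
        rwa [hB, mem_bot] at this
      have h1 : a ∈ A' ∨ t' * a ∈ A' := H''.comm_zw (H.q.AS ha) (hcA a ha z H.zS) (hcA a ha w' H'.q.wS)
      have h2 : n * a * n⁻¹ ∈ A' ∨ t' * (n * a * n⁻¹) ∈ A' :=
        H''.comm_zw (H.q.AS hb) (hcA _ hb z H.zS) (hcA _ hb w' H'.q.wS)
      rcases h1 with h1 | h1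
      · rw [hone a ha h1]; group
      rcases h2 with h2 | h2
      · have h3 := hone _ hb h2
        have h4 : a = 1 := by
          have : n * a * n⁻¹ = n * 1 * n⁻¹ := by rw [h3]; group
          exact mul_left_cancel (mul_right_cancel this)
        rw [h4]; group
      · have h3 := mul_mem (inv_mem h1) h2
        have e : (t' * a)⁻¹ * (t' * (n * a * n⁻¹)) = a⁻¹ * (n * a * n⁻¹) := by group
        rw [e] at h3
        have h4 := hone _ (mul_mem (inv_mem ha) hb) h3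
        exact (inv_mul_eq_one.1 h4).symm
    have hSD : (S : Subgroup G) ≤ closure ({w, w'} : Set G) := by
      refine hfoc _ H.D_le le_rfl (fun n hn s hs => ?_)
      obtain ⟨d, hd, a, ha, rfl⟩ := H.decD hs
      have h1 := hfix n hn a ha
      have haN : a ∈ normalizer ((S : Subgroup G) : Set G) := le_normalizer (H.q.AS ha)
      have e : (d * a)⁻¹ * (n * (d * a) * n⁻¹) = a⁻¹ * (d⁻¹ * (n * d * n⁻¹)) * a := by
        calc (d * a)⁻¹ * (n * (d * a) * n⁻¹) = a⁻¹ * (d⁻¹ * (n * d * n⁻¹)) * (n * a * n⁻¹) := by group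
          _ = _ := by rw [h1]
      rw [e]
      exact H.D_conj' haN (mul_mem (inv_mem hd) (H.D_conj hn hd))
    have heq : (S : Subgroup G) = closure ({w, w'} : Set G) := le_antisymm hSD H.D_le
    have hwn : w ∉ zpowers (w * w') := by
      intro h1
      obtain ⟨i, hi⟩ := mem_zpowers_iff.1 h1
      have h2 := H.zcomm i
      have h3 := H.com2 (i := 0) (one_mem A)
      rw [zpow_zero, one_mul, mul_one] at h3
      rw [hi] at h2
      exact h3 h2
    obtain ⟨e⟩ := Cfsg.Agent.SporadicB.DihedralLift.closure_pair_equiv_dihedral hww hww' rfl hwn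
    refine ⟨orderOf (w * w'), ?_, ⟨(MulEquiv.subgroupCongr heq).trans e⟩⟩
    have h1 : orderOf (w * w') ≠ 1 := by
      intro h2
      rw [orderOf_eq_one_iff] at h2
      apply H.q.t1
      obtain ⟨j, hj, -⟩ := H.tj
      rw [hj, h2, one_zpow]
    have h2 : 0 < orderOf (w * w') := orderOf_pos _
    omega
  · right
    refine ⟨A ⊓ A', hB, fun a ha b hb => H.q.A_comm ha.1 hb.1, ?_⟩
    have hNB : ∀ n ∈ normalizer ((S : Subgroup G) : Set G), ∀ a ∈ A ⊓ A', n * a * n⁻¹ ∈ A ⊓ A' := fun n hn a ha =>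
      ⟨H.A_norm hcA hn ha.1, H''.A_norm hcA' hn ha.2⟩
    have hfix : ∀ s ∈ (S : Subgroup G), ∀ b ∈ A ⊓ A', s * b * s⁻¹ = b := by
      intro s hs b hb
      rw [hcA b hb.1 s hs, mul_inv_cancel_right]
    have key : ∀ (K E₁ : Subgroup G) (s : G), s ∈ (S : Subgroup G) → K = cj s E₁ →
        (∀ g ∈ normalizer (K : Set G), ∀ b ∈ A ⊓ A', b ∈ K → g * b * g⁻¹ ∈ A ⊓ A') →
        ∀ g ∈ normalizer (E₁ : Set G), ∀ e ∈ E₁, e ∈ A ⊓ A' → g * e * g⁻¹ ∈ A ⊓ A' := by
      rintro K E₁ s hs rfl hK g hg e he heB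
      have h1 := hK (s * g * s⁻¹) (by
        rw [mem_norm_cj]
        have e : s⁻¹ * (s * g * s⁻¹) * s = g := by group
        rw [e]; exact hg) e heB (by
        have := conj_mem_cj (g := s) he
        rwa [hfix s hs e heB] at this)
      have h2 := hfix s⁻¹ (inv_mem hs) _ h1
      have h3 := hfix s⁻¹ (inv_mem hs) e heB
      rw [← h2] at h1
      have e1 : s⁻¹ * (s * g * s⁻¹ * e * (s * g * s⁻¹)⁻¹) * s⁻¹⁻¹ = g * (s⁻¹ * e * s⁻¹⁻¹) * g⁻¹ := by group
      rw [e1, h3] at h1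
      exact h1
    refine stronglyClosed hAI S (A ⊓ A') (fun a ha => H.q.AS ha.1) hNB (fun E₁ h₁ => ?_)
    rcases hall E₁ h₁ with ⟨s, hs, h2⟩ | ⟨s, hs, h2⟩
    · refine key E E₁ s hs h2 (fun g hg b hb _ => ?_)
      obtain ⟨n, hnS, -, hn⟩ := H.q.fratt hAI hg
      rw [hn b hb.1]
      exact hNB n hnS b hb
    · refine key F E₁ s hs h2 (fun g hg b hb _ => ?_)
      obtain ⟨n, hnS, -, hn⟩ := H'.q.fratt hAI hg
      rw [hn b hb.2]
      exact hNB n hnS b hb

end Cfsg.Agent.H305.Ess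
end

-- part: H305/SylClassTwo
section
/-!
# Simple groups with a strongly closed abelian 2-subgroup have Sylow 2-subgroups of class at most two
-/

set_option autoImplicit false

namespace Cfsg.Agent.H305.SylClassTwo

open Cfsg Cfsg.Agent.LieRecognition Cfsg.Agent.LieRecognition.HermHeis Cfsg.Agent.LieRecognition.PSUThreeSylow
open Cfsg.Agent.LieRecognition.SzMatrix

/-- nilpotency class at most two -/
def C2 (P : Type*) [Group P] : Prop := ∀ a b c : P, c * (a * b * a⁻¹ * b⁻¹) = (a * b * a⁻¹ * b⁻¹) * c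

theorem C2.congr {P Q : Type*} [Group P] [Group Q] (h : C2 P) (e : P ≃* Q) : C2 Q := by
  intro a b c
  apply e.symm.injective
  simp only [map_mul, map_inv]
  exact h _ _ _

theorem C2.of_comm {P : Type*} [Group P] (h : IsMulCommutative P) : C2 P :=
  fun _ _ c => h.is_comm.comm c _

theorem c2_heis {F : Type*} [Field F] [CharP F 2] {σ : F →+* F} [hσ : Fact (∀ x, σ (σ x) = x)] : C2 (Heis σ) := by
  intro a b c
  set k := a * b * a⁻¹ * b⁻¹ with hk
  have h1 : k * (b * a) = a * b := by rw [hk]; group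
  have h2 : k.a + (b.a + a.a) = a.a + b.a := congrArg Heis.a h1
  have h3 : k.a = 0 := by
    have h4 : k.a + (b.a + a.a) = 0 + (b.a + a.a) := by rw [h2]; ring
    exact add_right_cancel h4
  rw [commute_iff, h3, map_zero, mul_zero, zero_mul]

theorem c2_psu {F : Type*} [Field F] [Fintype F] {n : ℕ} (hn : 1 ≤ n)
    (hF : Fintype.card F = (2 ^ n) ^ 2) (P : Sylow 2 (PSU 3 F (2 ^ n))) :
    C2 (P : Subgroup (PSU 3 F (2 ^ n))) := by
  have hF' : Nat.card F = (2 ^ n) ^ 2 := by rw [Nat.card_eq_fintype_card, hF]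
  obtain ⟨h2, σ, hσ, hs, -, h⟩ := exists_heis_equiv F hn hF'
  obtain ⟨e⟩ := h P
  exact c2_heis.congr e

theorem c2_unip {F : Type*} [Field F] [Finite F] {θ : F →+* F} {e : ℕ} (H : Good F θ e) : C2 H.unip := by
  rintro ⟨x, hx⟩ ⟨y, hy⟩ ⟨z, hz⟩
  obtain ⟨a, a', rfl⟩ := (H.mem_unip_iff x).1 hx
  obtain ⟨b, b', rfl⟩ := (H.mem_unip_iff y).1 hy
  obtain ⟨c, c', rfl⟩ := (H.mem_unip_iff z).1 hz
  set K : H.unip := ⟨H.u a a', hx⟩ * ⟨H.u b b', hy⟩ * (⟨H.u a a', hx⟩)⁻¹ * (⟨H.u b b', hy⟩)⁻¹ with hK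
  obtain ⟨k, k', hk⟩ := (H.mem_unip_iff K).1 K.2
  have h1 : K * (⟨H.u b b', hy⟩ * ⟨H.u a a', hx⟩) = ⟨H.u a a', hx⟩ * ⟨H.u b b', hy⟩ := by rw [hK]; group
  have h2 : (K : ↥(Cfsg.Lie.Sz F e)) * (H.u b b' * H.u a a') = H.u a a' * H.u b b' := congrArg Subtype.val h1
  rw [hk, H.u_mul, H.u_mul, H.u_mul] at h2
  have h3 := (H.u_inj h2).1
  have h4 : k = 0 := by
    have h5 : k + (b + a) = 0 + (b + a) := by rw [h3]; ring
    exact add_right_cancel h5
  apply Subtype.ext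
  change H.u c c' * (K : ↥(Cfsg.Lie.Sz F e)) = (K : ↥(Cfsg.Lie.Sz F e)) * H.u c c'
  rw [hk, h4, H.u_mul, H.u_mul, map_zero, mul_zero, zero_mul, add_zero, zero_add, add_zero, add_zero, add_comm c' k']

theorem c2_sz {F : Type*} [Field F] [Fintype F] {m : ℕ} (hm : 1 ≤ m)
    (hF : Fintype.card F = 2 ^ (2 * m + 1)) (P : Sylow 2 ↥(Cfsg.Lie.Sz F (2 ^ (m + 1)))) :
    C2 (P : Subgroup ↥(Cfsg.Lie.Sz F (2 ^ (m + 1)))) := by
  have : Fact (Nat.Prime 2) := ⟨Nat.prime_two⟩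
  have H := good hF
  have hcF : Nat.card F = 2 ^ (2 * m + 1) := by rw [Nat.card_eq_fintype_card, hF]
  have hT := c2_unip H
  have hodd : ¬ 2 ∣ H.unip.index := by
    have h1 := Subgroup.card_mul_index H.unip
    rw [(S1163.result hm hF).1, H.card_unip, hcF, mul_assoc] at h1
    have h2 := Nat.eq_of_mul_eq_mul_left (by positivity) h1
    rw [h2]
    intro h
    rcases (Nat.Prime.dvd_mul Nat.prime_two).mp h with h | h
    · have h1 : 1 ≤ 2 ^ (2 * m + 1) := Nat.one_le_two_pow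
      have h2 : 2 ∣ 2 ^ (2 * m + 1) := dvd_pow_self 2 (by omega)
      omega
    · have h2 : 2 ∣ (2 ^ (2 * m + 1)) ^ 2 := dvd_pow (dvd_pow_self 2 (by omega)) (by omega)
      omega
  have hpg : IsPGroup 2 H.unip := by
    apply IsPGroup.of_card (n := (2 * m + 1) * 2)
    rw [H.card_unip, hcF, ← pow_mul]
  exact hT.congr ((hpg.toSylow hodd).equiv P)

/-- transport along an isomorphism of the ambient group -/
theorem c2_of_equiv {G K : Type*} [Group G] [Group K] [Finite G] [Finite K] (e : G ≃* K)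
    (h : ∀ P : Sylow 2 K, C2 (P : Subgroup K)) (S : Sylow 2 G) : C2 (S : Subgroup G) := by
  have : Fact (Nat.Prime 2) := ⟨Nat.prime_two⟩
  let P : Sylow 2 K := S.mapSurjective (f := (e : G →* K)) e.surjective
  have h2 : (P : Subgroup K) = Subgroup.map (e : G →* K) (S : Subgroup G) := Sylow.coe_mapSurjective _ _
  have e2 : (S : Subgroup G) ≃* (P : Subgroup K) :=
    (e.subgroupMap (S : Subgroup G)).trans (MulEquiv.subgroupCongr h2.symm)
  exact (h P).congr e2.symm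

theorem c2_of_strongly_closed {G : Type*} [Group G] [Finite G] [IsSimpleGroup G] (hna : ∃ a b : G, a * b ≠ b * a)
    (S : Sylow 2 G) (A : Subgroup G) (hA : A ≠ ⊥) (hc : ∀ x ∈ A, ∀ y ∈ A, x * y = y * x)
    (hsc : Cfsg.IsStronglyClosed A (S : Subgroup G)) : C2 (S : Subgroup G) := by
  have hAc : IsMulCommutative A := ⟨⟨fun x y => Subtype.ext (hc x x.2 y y.2)⟩⟩
  rcases Cfsg.Agent.S1169.result S A hA hAc hsc with h1 | ⟨H, hH⟩
  · exact C2.of_comm h1
  · rcases Cfsg.Agent.StrongEmb.Strong.result hna H hH with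
      ⟨F, _, _, ⟨n, hn, hF⟩, ⟨e⟩⟩ | h2 | ⟨F, _, _, n, hn, hF, ⟨e⟩⟩
    · have : CharP F 2 := by
        have hp : (2 : ℕ) ∣ Fintype.card F := by rw [hF]; exact dvd_pow_self 2 (by omega)
        obtain ⟨p, hp'⟩ := CharP.exists F
        have hpp : p.Prime := (CharP.char_is_prime_or_zero F p).resolve_right (CharP.char_ne_zero_of_finite F p)
        obtain ⟨m, -, hm⟩ := FiniteField.card F p
        rw [hm] at hF
        have h3 : p ∣ 2 ^ n := by rw [← hF]; exact dvd_pow_self p m.ne_zero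
        have h4 := (Nat.prime_dvd_prime_iff_eq hpp Nat.prime_two).1 (hpp.dvd_of_dvd_pow h3)
        rw [← h4]; exact hp'
      exact C2.of_comm (Cfsg.Agent.Classification.PSLTwoEvenSylow.sylow_comm e S)
    · obtain ⟨F, _, _, m, hm, hF, ⟨e⟩⟩ := h2
      have : Finite ↥(Cfsg.Lie.Sz F (2 ^ (m + 1))) := Finite.of_equiv G e.toEquiv
      exact c2_of_equiv e (c2_sz hm hF) S
    · have : Finite (PSU 3 F (2 ^ n)) := Finite.of_equiv G e.toEquiv
      exact c2_of_equiv e (c2_psu (by omega) hF) S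

end Cfsg.Agent.H305.SylClassTwo
end

-- part: S3186
section
set_option autoImplicit false
open Cfsg

namespace Cfsg.Agent.S3186

/-- Let G be a non-abelian finite simple group in which the intersection of any two distinct Sylow 2-subgroups is abelian. Then a Sylow 2-subgroup of G is either dihedral (of order at least 4) or of nilpotency class at most two (its derived subgroup is central). -/
theorem result {G : Type*} [Group G] [Finite G] [IsSimpleGroup G]
    (hG : ¬ IsMulCommutative G)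
    (hA : ∀ S T : Sylow 2 G, S ≠ T → IsMulCommutative ↥((S : Subgroup G) ⊓ (T : Subgroup G))) (S : Sylow 2 G) :
    (∃ m : ℕ, 2 ≤ m ∧ Nonempty (↥(S : Subgroup G) ≃* DihedralGroup m)) ∨
      commutator ↥(S : Subgroup G) ≤ Subgroup.center ↥(S : Subgroup G) := by
  have hna : ∃ a b : G, a * b ≠ b * a := by
    by_contra hcon
    push Not at hcon
    exact hG ⟨⟨hcon⟩⟩
  have hAI := Cfsg.Agent.H305.Ess.ai_of hA
  have conv : Cfsg.Agent.H305.SylClassTwo.C2 (S : Subgroup G) →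
      commutator ↥(S : Subgroup G) ≤ Subgroup.center ↥(S : Subgroup G) := by
    intro h
    rw [commutator_def, Subgroup.commutator_le]
    intro a _ b _
    rw [Subgroup.mem_center_iff]
    intro c
    rw [commutatorElement_def]
    exact h a b c
  by_cases hS : (S : Subgroup G) = ⊥
  · right
    apply conv
    intro a b c
    have hsub : ∀ x : (S : Subgroup G), x = 1 := by
      rintro ⟨x, hx⟩
      apply Subtype.ext
      rw [hS, Subgroup.mem_bot] at hx
      exact hx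
    rw [hsub a, hsub b, hsub c]
    group
  have hend : (∃ B : Subgroup G, B ≠ ⊥ ∧ (∀ x ∈ B, ∀ y ∈ B, x * y = y * x) ∧
      Cfsg.IsStronglyClosed B (S : Subgroup G)) → commutator ↥(S : Subgroup G) ≤ Subgroup.center ↥(S : Subgroup G) := by
    rintro ⟨B, hB, hc, hsc⟩
    exact conv (Cfsg.Agent.H305.SylClassTwo.c2_of_strongly_closed hna S B hB hc hsc)
  by_cases hall : ∀ E, Cfsg.Agent.H305.Ess.IsE S E → (S : Subgroup G) ≤ Subgroup.normalizer (E : Set G)
  · rcases Cfsg.Agent.H305.Ess.normal_case hAI hS hall with h | h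
    · right
      apply conv
      intro a b c
      apply Subtype.ext
      exact h a a.2 b b.2 c c.2
    · exact Or.inr (hend h)
  · push Not at hall
    obtain ⟨E, hE, hEn⟩ := hall
    obtain ⟨x, hx⟩ := Cfsg.Agent.H305.Ess.exists_NN hE hEn
    rcases Cfsg.Agent.H305.Ess.endgame hAI hna hx with h | h
    · exact Or.inl h
    · exact Or.inr (hend h)

end Cfsg.Agent.S3186
end

private theorem dce_f394833d3018 : _root_.True := by
  try have : _root_.True := by simp only [_root_.Cfsg.Agent.H305.Chain.YY.eq_1]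
  exact _root_.True.intro
end
end
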