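import Mathlib
import Cfsg.Agent.Lib.Cores
import Cfsg.Agent.Lib.SylowNormalInf
import Cfsg.Agent.Lib.GoldschmidtFusion
import Cfsg.Agent.H308.AltFive
import Cfsg.Agent.S1249
import Cfsg.Prelude.Def_TwoFusion
import Cfsg.Agent.Lib.MinNormalNonabelian
import Cfsg.Agent.TwoFusion.StronglyEmbeddedBasic
import Cfsg.Agent.S1169
import Cfsg.Statements.S3197
import Cfsg.Agent.FastGrp
import Cfsg.Agent.Prune
set_option linter.all false
prune_inst 0x7ffcfefb2ff8bddfffff7e7ffff9dffff9fcffffffdffbfbfffdfbffffff6b6ffbe5fbaf7fecd8ffcef7e2b630f87b53f9feceffef6bdd7ffffd5ff45ffbfe1fbfeebfad51f6b83e1ffe6ffffbf37ffffffffffffffffffffffffffffffffffffffdffffffff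
open scoped Cfsg.Agent.FastGrp

-- part: H308/GoldHyp
section
/-!
# A strongly closed elementary abelian subgroup of order 16 with automizer `A₅`

`Hyp A` collects the (Sylow free) properties of `A` which are used in the proof of `S3197`.
-/

set_option autoImplicit false
set_option linter.style.haveILetI false

namespace Cfsg.Agent.H308.GoldHyp

open Subgroup

variable {G : Type*} [Group G]

/-- The properties of `A` used in the proof. -/
structure Hyp (A : Subgroup G) : Prop where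
  comm : ∀ a ∈ A, ∀ b ∈ A, a * b = b * a
  exp : ∀ a ∈ A, a * a = 1
  card : Nat.card A = 16
  cent : ∀ t : G, (∃ k : ℕ, t ^ 2 ^ k = 1) → (∀ a ∈ A, t * a = a * t) → t ∈ A
  sc : ∀ Q : Subgroup G, IsPGroup 2 Q → A ≤ Q → ∀ x ∈ A, ∀ g : G, g * x * g⁻¹ ∈ Q →
    g * x * g⁻¹ ∈ A
  irr : ∀ B : Subgroup G, B ≤ A → (∀ n ∈ normalizer (A : Set G), ∀ b ∈ B, n * b * n⁻¹ ∈ B) →
    B = ⊥ ∨ B = A
  idx : ∀ X : Subgroup G, X ≤ normalizer (A : Set G) →
    (∀ n ∈ normalizer (A : Set G), (∀ a ∈ A, n * a = a * n) → n ∈ X) →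
    X.relIndex (normalizer (A : Set G)) < 5 → normalizer (A : Set G) ≤ X
  odd : ∀ Y : Subgroup G, Y ≤ normalizer (A : Set G) →
    (∀ n ∈ normalizer (A : Set G), ∀ y ∈ Y, n * y * n⁻¹ ∈ Y) →
    (∀ y ∈ Y, (∃ k : ℕ, y ^ 2 ^ k = 1) → y ∈ A) → ∀ y ∈ Y, ∀ a ∈ A, y * a = a * y
  two : ∃ a ∈ A, ∃ b ∈ A, a ≠ 1 ∧ b ≠ 1 ∧ ∀ g : G, g * a * g⁻¹ ≠ b

theorem Hyp.ne_bot {A : Subgroup G} (h : Hyp A) : A ≠ ⊥ := by
  rintro rfl
  have := h.card
  rw [card_bot] at this
  norm_num at this

theorem Hyp.isPGroup {A : Subgroup G} (h : Hyp A) : IsPGroup 2 A := by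
  intro a
  refine ⟨1, Subtype.ext ?_⟩
  have := h.exp a a.2
  rw [← pow_two] at this
  simpa only [_root_.pow_one, _root_.SubmonoidClass.coe_pow, _root_.OneMemClass.coe_one] using this

/-- A subgroup normalized by `A` which meets `A` trivially has odd order. -/
theorem odd_of_inf_eq_bot [Finite G] {A : Subgroup G} (h2 : IsPGroup 2 A)
    (hcent : ∀ t : G, (∃ k : ℕ, t ^ 2 ^ k = 1) → (∀ a ∈ A, t * a = a * t) → t ∈ A)
    (hsc : ∀ Q : Subgroup G, IsPGroup 2 Q → A ≤ Q → ∀ x ∈ A, ∀ g : G, g * x * g⁻¹ ∈ Q →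
      g * x * g⁻¹ ∈ A) {L : Subgroup G} (hL : ∀ a ∈ A, ∀ l ∈ L, a * l * a⁻¹ ∈ L)
    (hAL : A ⊓ L = ⊥) : ¬ 2 ∣ Nat.card L := by
  haveI : Fact (Nat.Prime 2) := ⟨Nat.prime_two⟩
  have hn : A ≤ normalizer (L : Set G) := by
    intro a ha
    rw [mem_normalizer_iff]
    intro l
    refine ⟨fun hl => hL a ha l hl, fun hl => ?_⟩
    have h3 := hL a⁻¹ (A.inv_mem ha) _ hl
    have h4 : a⁻¹ * (a * l * a⁻¹) * a⁻¹⁻¹ = l := by group
    rwa [h4] at h3
  set H : Subgroup G := A ⊔ L with hH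
  have hLH : H ≤ normalizer (L : Set G) := sup_le hn le_normalizer
  haveI hLn : (L.subgroupOf H).Normal := normal_subgroupOf_iff_le_normalizer (le_sup_right) |>.2 hLH
  have hA' : IsPGroup 2 (A.subgroupOf H) := by
    have := h2.comap_of_injective H.subtype H.subtype_injective
    exact this
  obtain ⟨S, hS⟩ := hA'.exists_le_sylow
  have hnd := Lib.SylowNormalInf.not_dvd_relIndex S (L.subgroupOf H)
  have hbot : (S : Subgroup H) ⊓ L.subgroupOf H = ⊥ := by
    rw [eq_bot_iff]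
    rintro t ⟨htS, htL⟩
    have htL' : (t : G) ∈ L := htL
    have hQ : IsPGroup 2 ((S : Subgroup H).map H.subtype) := S.isPGroup'.map _
    have hAQ : A ≤ (S : Subgroup H).map H.subtype := by
      intro a ha
      exact ⟨⟨a, le_sup_left (a := A) (b := L) ha⟩, hS (show (⟨a, _⟩ : H) ∈ A.subgroupOf H from ha), rfl⟩
    have htQ : (t : G) ∈ (S : Subgroup H).map H.subtype := ⟨t, htS, rfl⟩
    have hcomm : ∀ a ∈ A, (t : G) * a = a * t := by
      intro a ha
      have h3 : (t : G) * a * (t : G)⁻¹ ∈ A := by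
        apply hsc _ hQ hAQ a ha
        exact mul_mem (mul_mem htQ (hAQ ha)) (inv_mem htQ)
      have h4 : (t : G) * a * (t : G)⁻¹ * a⁻¹ ∈ A := A.mul_mem h3 (A.inv_mem ha)
      have h5 : (t : G) * a * (t : G)⁻¹ * a⁻¹ ∈ L := by
        have h6 : (t : G) * a * (t : G)⁻¹ * a⁻¹ = (t : G) * (a * (t : G)⁻¹ * a⁻¹) := by group
        rw [h6]
        exact L.mul_mem htL' (hL a ha _ (L.inv_mem htL'))
      have h6 : (t : G) * a * (t : G)⁻¹ * a⁻¹ ∈ A ⊓ L := ⟨h4, h5⟩
      rw [hAL, mem_bot] at h6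
      have h7 : (t : G) * a * (t : G)⁻¹ = a := by
        rw [mul_inv_eq_one] at h6; exact h6
      rw [mul_inv_eq_iff_eq_mul] at h7
      exact h7
    obtain ⟨k, hk⟩ := S.isPGroup' ⟨t, htS⟩
    have hk' : (t : G) ^ 2 ^ k = 1 := by
      have := congrArg (fun w : (S : Subgroup H) => ((w : H) : G)) hk
      simpa only [_root_.SubmonoidClass.mk_pow, _root_.SubmonoidClass.coe_pow, _root_.OneMemClass.coe_one] using this
    have htA := hcent t ⟨k, hk'⟩ hcomm
    have : (t : G) ∈ A ⊓ L := ⟨htA, htL'⟩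
    rw [hAL, mem_bot] at this
    rw [mem_bot]
    exact Subtype.ext this
  rw [← inf_relIndex_right, hbot, relIndex_bot_left] at hnd
  have hc : Nat.card (L.subgroupOf H) = Nat.card L :=
    Nat.card_congr (subgroupOfEquivOfLe (le_sup_right : L ≤ A ⊔ L)).toEquiv
  rwa [hc] at hnd

end Cfsg.Agent.H308.GoldHyp
end

-- part: H308/GoldTransfer
section
/-!
# `Hyp` passes to the quotient by the odd core
-/

set_option autoImplicit false
set_option linter.style.haveILetI false

namespace Cfsg.Agent.H308.GoldTransfer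

open Subgroup Cfsg Cfsg.Agent.H308.GoldHyp Cfsg.Agent.Lib

variable {G : Type*} [Group G]

theorem eq_one_of_odd {O : Subgroup G} (hO : (Nat.card O).Coprime 2) {x : G} (hx : x ∈ O)
    (h : ∃ k : ℕ, x ^ 2 ^ k = 1) : x = 1 := by
  obtain ⟨k, hk⟩ := h
  have h1 : orderOf x ∣ 2 ^ k := orderOf_dvd_of_pow_eq_one hk
  have h2 : orderOf x ∣ Nat.card O := by
    have := _root_.orderOf_dvd_natCard (⟨x, hx⟩ : O)
    rwa [← orderOf_coe] at this
  have h3 : (orderOf x).Coprime (2 ^ k) := (hO.coprime_dvd_left h2).pow_right k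
  exact orderOf_eq_one_iff.1 (Nat.Coprime.eq_one_of_dvd h3 h1)

/-- If `π R ≤ π Q` for 2-subgroups `R`, `Q`, then `R` is conjugate into `Q` by an element of the
kernel. -/
theorem exists_lift_conj [Finite G] {O : Subgroup G} [O.Normal] (hO : (Nat.card O).Coprime 2)
    {Q R : Subgroup G} (hQ : IsPGroup 2 Q) (hR : IsPGroup 2 R)
    (h : R.map (QuotientGroup.mk' O) ≤ Q.map (QuotientGroup.mk' O)) :
    ∃ o ∈ O, ∀ r ∈ R, o * r * o⁻¹ ∈ Q := by
  haveI : Fact (Nat.Prime 2) := ⟨Nat.prime_two⟩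
  have h1 : R ≤ Q ⊔ O := by
    intro r hr
    obtain ⟨q, hq, hqr⟩ := h ⟨r, hr, rfl⟩
    have h2 : q⁻¹ * r ∈ O := by
      rw [← QuotientGroup.eq]; exact hqr
    have h3 : r = q * (q⁻¹ * r) := by group
    rw [h3]
    exact mul_mem (le_sup_left (a := Q) hq) (le_sup_right (a := Q) h2)
  have h2 : ¬ 2 ∣ Q.relIndex (Q ⊔ O) := by
    rw [SylowNormalInf.relIndex_sup_of_normal]
    intro h3
    have h4 : 2 ∣ Nat.card O := h3.trans (relIndex_dvd_card Q O)
    have h5 := Nat.dvd_gcd h4 (dvd_refl 2)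
    rw [hO] at h5
    norm_num at h5
  obtain ⟨n, hn, hnR⟩ := GoldschmidtFusion.exists_conj_le_in hQ h2 h1 hR
  rw [← SetLike.mem_coe, mul_normal] at hn
  obtain ⟨q, hq, o, ho, rfl⟩ := Set.mem_mul.1 hn
  refine ⟨o, ho, fun r hr => ?_⟩
  have h3 : (q * o) * r * (q * o)⁻¹ ∈ Q := hnR ⟨r, hr, rfl⟩
  have h4 := Q.mul_mem (Q.mul_mem (Q.inv_mem hq) h3) hq
  have h5 : q⁻¹ * (q * o * r * (q * o)⁻¹) * q = o * r * o⁻¹ := by group
  rwa [h5] at h4

theorem isPGroup_zpowers {x : G} (h : ∃ k : ℕ, x ^ 2 ^ k = 1) : IsPGroup 2 (zpowers x) := by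
  obtain ⟨k, h4⟩ := h
  rintro ⟨w, hw⟩
  obtain ⟨i, rfl⟩ := mem_zpowers_iff.1 hw
  refine ⟨k, Subtype.ext ?_⟩
  change (x ^ i) ^ 2 ^ k = 1
  rw [← zpow_natCast, ← zpow_mul, mul_comm, zpow_mul, zpow_natCast, h4, one_zpow]

theorem exists_lift_conj_mem [Finite G] {O : Subgroup G} [O.Normal] (hO : (Nat.card O).Coprime 2)
    {Q : Subgroup G} (hQ : IsPGroup 2 Q) {r : G} (hr : ∃ k : ℕ, r ^ 2 ^ k = 1)
    (h : (r : G ⧸ O) ∈ Q.map (QuotientGroup.mk' O)) :
    ∃ o ∈ O, o * r * o⁻¹ ∈ Q := by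
  obtain ⟨o, ho, h1⟩ := exists_lift_conj hO hQ (isPGroup_zpowers hr) (by
    rw [MonoidHom.map_zpowers, zpowers_le]
    exact h)
  exact ⟨o, ho, h1 r (mem_zpowers r)⟩

/-- 2-subgroups containing the image of `A` lift to 2-subgroups containing `A`. -/
theorem exists_lift [Finite G] {O : Subgroup G} [O.Normal] (hO : (Nat.card O).Coprime 2)
    {A : Subgroup G} (hA : IsPGroup 2 A) {Q' : Subgroup (G ⧸ O)} (hQ' : IsPGroup 2 Q')
    (hAQ : A.map (QuotientGroup.mk' O) ≤ Q') :
    ∃ Q : Subgroup G, IsPGroup 2 Q ∧ A ≤ Q ∧ Q' ≤ Q.map (QuotientGroup.mk' O) := by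
  haveI : Fact (Nat.Prime 2) := ⟨Nat.prime_two⟩
  obtain ⟨S', hS'⟩ := hQ'.exists_le_sylow
  obtain ⟨S, hS⟩ := Sylow.mapSurjective_surjective (QuotientGroup.mk'_surjective O) 2 S'
  have hS2 : (S : Subgroup G).map (QuotientGroup.mk' O) = (S' : Subgroup (G ⧸ O)) := by
    rw [← hS]; rfl
  obtain ⟨o, ho, hoA⟩ := exists_lift_conj hO S.isPGroup' hA (by
    rw [hS2]; exact hAQ.trans hS')
  refine ⟨(S : Subgroup G).map (MulAut.conj o⁻¹).toMonoidHom, S.isPGroup'.map _, ?_, ?_⟩
  · intro a ha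
    refine ⟨o * a * o⁻¹, hoA a ha, ?_⟩
    simp only [MulEquiv.toMonoidHom_eq_coe, MonoidHom.coe_coe, MulAut.conj_apply]
    group
  · intro q hq
    have h1 : q ∈ (S : Subgroup G).map (QuotientGroup.mk' O) := by rw [hS2]; exact hS' hq
    obtain ⟨s, hs, rfl⟩ := h1
    refine ⟨o⁻¹ * s * o⁻¹⁻¹, ⟨s, hs, rfl⟩, ?_⟩
    change QuotientGroup.mk' O (o⁻¹ * s * o⁻¹⁻¹) = _
    have h2 : QuotientGroup.mk' O o = 1 := by
      rw [QuotientGroup.mk'_apply, QuotientGroup.eq_one_iff]; exact ho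
    rw [inv_inv, map_mul, map_mul, map_inv, h2, inv_one, one_mul, mul_one]

/-- `Hyp` passes to the quotient by a normal subgroup of odd order. -/
theorem hyp_map [Finite G] {A : Subgroup G} (h : Hyp A) {O : Subgroup G} [hOn : O.Normal]
    (hO : (Nat.card O).Coprime 2) : Hyp (A.map (QuotientGroup.mk' O)) := by
  haveI : Fact (Nat.Prime 2) := ⟨Nat.prime_two⟩
  set π := QuotientGroup.mk' O with hπ
  have hπs : Function.Surjective π := QuotientGroup.mk'_surjective O
  have hπ1 : ∀ x, π x = 1 ↔ x ∈ O := fun x => QuotientGroup.eq_one_iff x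
  have hA2 : ∀ a ∈ A, ∃ k : ℕ, a ^ 2 ^ k = 1 := fun a ha => ⟨1, by
    rw [pow_one, pow_two]; exact h.exp a ha⟩
  have hAO : ∀ a ∈ A, a ∈ O → a = 1 := fun a ha haO => eq_one_of_odd hO haO (hA2 a ha)
  have hinj : ∀ a ∈ A, ∀ b ∈ A, π a = π b → a = b := by
    intro a ha b hb hab
    have h1 : π (a * b⁻¹) = 1 := by rw [map_mul, map_inv, hab, mul_inv_cancel]
    exact mul_inv_eq_one.1 (hAO _ (A.mul_mem ha (A.inv_mem hb)) ((hπ1 _).1 h1))
  have hcard : Nat.card (A.map π) = 16 := by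
    rw [← h.card]
    refine (Nat.card_congr (Equiv.ofBijective (fun a : A => (⟨π a, ⟨a, a.2, rfl⟩⟩ : A.map π)) ?_)).symm
    refine ⟨fun a b hab => Subtype.ext (hinj a a.2 b b.2 (congrArg Subtype.val hab)), ?_⟩
    rintro ⟨_, a, ha, rfl⟩
    exact ⟨⟨a, ha⟩, rfl⟩
  -- normalizers
  have hnorm1 : ∀ n ∈ normalizer (A : Set G), π n ∈ normalizer ((A.map π : Subgroup (G ⧸ O)) : Set (G ⧸ O)) := by
    intro n hn
    rw [mem_normalizer_iff_map_conj_eq] at hn ⊢
    apply Subgroup.eq_of_le_of_card_ge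
    · rintro _ ⟨_, ⟨a, ha, rfl⟩, rfl⟩
      have h1 : n * a * n⁻¹ ∈ A := by
        have h0 : n * a * n⁻¹ ∈ A.map (MulAut.conj n).toMonoidHom := ⟨a, ha, rfl⟩
        exact hn ▸ h0
      refine ⟨_, h1, ?_⟩
      rw [map_mul, map_mul, map_inv]
      rfl
    · rw [card_map_of_injective (K := A.map π) (MulAut.conj (π n)).injective]
  have hnorm2 : ∀ n' ∈ normalizer ((A.map π : Subgroup (G ⧸ O)) : Set (G ⧸ O)),
      ∃ n ∈ normalizer (A : Set G), π n = n' := by
    intro n' hn'
    obtain ⟨g, rfl⟩ := hπs n'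
    have h1 : IsPGroup 2 (A.map (MulAut.conj g).toMonoidHom) := h.isPGroup.map _
    obtain ⟨o, ho, hoA⟩ := exists_lift_conj hO h.isPGroup h1 (by
      rintro _ ⟨_, ⟨a, ha, rfl⟩, rfl⟩
      have h2 := (mem_normalizer_iff.1 hn' (π a)).1 ⟨a, ha, rfl⟩
      have h3 : π (g * a * g⁻¹) = π g * π a * (π g)⁻¹ := by rw [map_mul, map_mul, map_inv]
      change π (g * a * g⁻¹) ∈ A.map π
      rw [h3]; exact h2)
    refine ⟨o * g, ?_, ?_⟩
    · rw [mem_normalizer_iff_map_conj_eq]
      apply Subgroup.eq_of_le_of_card_ge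
      · rintro _ ⟨a, ha, rfl⟩
        have h2 := hoA (g * a * g⁻¹) ⟨a, ha, rfl⟩
        have h3 : (o * g) * a * (o * g)⁻¹ = o * (g * a * g⁻¹) * o⁻¹ := by group
        change (o * g) * a * (o * g)⁻¹ ∈ A
        rw [h3]; exact h2
      · rw [card_map_of_injective (MulAut.conj (o * g)).injective]
    · rw [map_mul, (hπ1 o).2 ho, one_mul]
  have hnorm3 : (normalizer (A : Set G)).map π = normalizer ((A.map π : Subgroup (G ⧸ O)) : Set (G ⧸ O)) := by
    apply le_antisymm
    · rintro _ ⟨n, hn, rfl⟩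
      exact hnorm1 n hn
    · intro n' hn'
      obtain ⟨n, hn, rfl⟩ := hnorm2 n' hn'
      exact ⟨n, hn, rfl⟩
  have hpow : ∀ x : G, (∃ k : ℕ, x ^ 2 ^ k = 1) → ∀ g, ∃ k : ℕ, (g * x * g⁻¹) ^ 2 ^ k = 1 := by
    rintro x ⟨k, hk⟩ g
    exact ⟨k, by rw [conj_pow, hk, mul_one, mul_inv_cancel]⟩
  refine ⟨?_, ?_, hcard, ?_, ?_, ?_, ?_, ?_, ?_⟩
  · rintro _ ⟨a, ha, rfl⟩ _ ⟨b, hb, rfl⟩
    rw [← map_mul, ← map_mul, h.comm a ha b hb]
  · rintro _ ⟨a, ha, rfl⟩
    rw [← map_mul, h.exp a ha, map_one]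
  · -- cent
    intro t' ht' hc
    have h1 : IsPGroup 2 (zpowers t' ⊔ A.map π : Subgroup (G ⧸ O)) := by
      refine IsPGroup.to_sup_of_normal_right' (isPGroup_zpowers ht') (h.isPGroup.map _) ?_
      rw [zpowers_le, mem_normalizer_iff_map_conj_eq]
      apply Subgroup.eq_of_le_of_card_ge
      · rintro _ ⟨a, ha, rfl⟩
        change t' * a * t'⁻¹ ∈ A.map π
        rw [hc a ha, mul_inv_cancel_right]
        exact ha
      · rw [card_map_of_injective (K := A.map π) (MulAut.conj t').injective]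
    obtain ⟨Q, hQ, hAQ, hQ'⟩ := exists_lift hO h.isPGroup h1 le_sup_right
    obtain ⟨t, ht, rfl⟩ := hQ' (le_sup_left (a := zpowers t') (mem_zpowers t'))
    obtain ⟨k, hk⟩ := hQ ⟨t, ht⟩
    have hk' : t ^ 2 ^ k = 1 := by simpa only [_root_.SubmonoidClass.mk_pow, _root_.OneMemClass.coe_one] using congrArg Subtype.val hk
    refine ⟨t, h.cent t ⟨k, hk'⟩ fun a ha => ?_, rfl⟩
    have h2 : t * a * t⁻¹ * a⁻¹ ∈ Q :=
      Q.mul_mem (Q.mul_mem (Q.mul_mem ht (hAQ ha)) (Q.inv_mem ht)) (Q.inv_mem (hAQ ha))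
    have h3 : t * a * t⁻¹ * a⁻¹ ∈ O := by
      rw [← hπ1, map_mul, map_mul, map_mul, map_inv, map_inv]
      have h4 := hc (π a) ⟨a, ha, rfl⟩
      change π t * π a = π a * π t at h4
      rw [h4, mul_inv_cancel_right, mul_inv_cancel]
    have h4 : t * a * t⁻¹ * a⁻¹ = 1 := by
      refine eq_one_of_odd hO h3 ?_
      obtain ⟨m, hm⟩ := hQ ⟨_, h2⟩
      exact ⟨m, by simpa only [_root_.SubmonoidClass.mk_pow, _root_.OneMemClass.coe_one] using congrArg Subtype.val hm⟩
    rw [mul_inv_eq_one, mul_inv_eq_iff_eq_mul] at h4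
    exact h4
  · -- sc
    rintro Q' hQ'2 hAQ' _ ⟨x, hx, rfl⟩ g' hg'
    obtain ⟨g, rfl⟩ := hπs g'
    obtain ⟨Q, hQ, hAQ, hQ'⟩ := exists_lift hO h.isPGroup hQ'2 hAQ'
    have h1 : π (g * x * g⁻¹) = π g * π x * (π g)⁻¹ := by rw [map_mul, map_mul, map_inv]
    have h2 := hQ' hg'
    rw [← h1] at h2
    obtain ⟨o, ho, h3⟩ := exists_lift_conj_mem hO hQ (hpow x (hA2 x hx) g) h2
    have h4 : o * (g * x * g⁻¹) * o⁻¹ = (o * g) * x * (o * g)⁻¹ := by group
    rw [h4] at h3
    have h5 := h.sc Q hQ hAQ x hx _ h3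
    refine ⟨_, h5, ?_⟩
    rw [← h4, map_mul, map_mul, map_inv, (hπ1 o).2 ho, one_mul, inv_one, mul_one, h1]
  · -- irr
    intro B' hB' hinv
    have h1 : (A ⊓ B'.comap π).map π = B' := by
      apply le_antisymm
      · rintro _ ⟨b, ⟨-, hb⟩, rfl⟩
        exact hb
      · intro b' hb'
        obtain ⟨a, ha, rfl⟩ := hB' hb'
        exact ⟨a, ⟨ha, hb'⟩, rfl⟩
    rcases h.irr (A ⊓ B'.comap π) inf_le_left (by
      rintro n hn b ⟨hbA, hbB⟩
      refine ⟨(mem_normalizer_iff.1 hn b).1 hbA, ?_⟩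
      have h2 := hinv _ (hnorm1 n hn) (π b) hbB
      rw [← map_inv, ← map_mul, ← map_mul] at h2
      exact h2) with h2 | h2
    · left
      rw [← h1, h2, Subgroup.map_bot]
    · right
      rw [← h1, h2]
  · -- idx
    intro X' hX' hc hlt
    have h1 : normalizer (A : Set G) ≤ normalizer (A : Set G) ⊓ X'.comap π := by
      refine h.idx _ inf_le_left ?_ ?_
      · intro n hn hna
        refine ⟨hn, hc _ (hnorm1 n hn) ?_⟩
        rintro _ ⟨a, ha, rfl⟩
        rw [← map_mul, ← map_mul, hna a ha]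
      · rw [inf_comm, inf_relIndex_right, relIndex_comap, hnorm3]
        exact hlt
    intro n' hn'
    obtain ⟨n, hn, rfl⟩ := hnorm2 n' hn'
    exact (h1 hn).2
  · -- odd
    intro Y' hY' hinv htwo y' hy' a' ha'
    have key := h.odd (normalizer (A : Set G) ⊓ Y'.comap π) inf_le_left (by
      rintro n hn y ⟨hy, hyY⟩
      refine ⟨(normalizer (A : Set G)).mul_mem ((normalizer (A : Set G)).mul_mem hn hy)
          ((normalizer (A : Set G)).inv_mem hn), ?_⟩
      have h2 := hinv _ (hnorm1 n hn) (π y) hyY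
      rw [← map_inv, ← map_mul, ← map_mul] at h2
      exact h2) (by
      rintro y ⟨hy, hyY⟩ ⟨k, hk⟩
      obtain ⟨a, ha, hay⟩ := htwo (π y) hyY ⟨k, by rw [← map_pow, hk, map_one]⟩
      refine h.cent y ⟨k, hk⟩ ?_
      -- `a⁻¹ * y` lies in `O` and normalizes `A`
      have h1 : a⁻¹ * y ∈ O := by
        rw [← hπ1, map_mul, map_inv, hay, inv_mul_cancel]
      have h2 : ∀ b ∈ A, (a⁻¹ * y) * b * (a⁻¹ * y)⁻¹ ∈ A := by
        intro b hb
        have h3 := (mem_normalizer_iff.1 hy b).1 hb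
        have h4 := A.mul_mem (A.mul_mem (A.inv_mem ha) h3) ha
        have h5 : a⁻¹ * (y * b * y⁻¹) * a = (a⁻¹ * y) * b * (a⁻¹ * y)⁻¹ := by group
        rwa [h5] at h4
      intro b hb
      have h3 : (a⁻¹ * y) * b * (a⁻¹ * y)⁻¹ * b⁻¹ = 1 := by
        refine hAO _ (A.mul_mem (h2 b hb) (A.inv_mem hb)) ?_
        have h4 : (a⁻¹ * y) * b * (a⁻¹ * y)⁻¹ * b⁻¹ = (a⁻¹ * y) * (b * (a⁻¹ * y)⁻¹ * b⁻¹) := by group
        rw [h4]
        exact O.mul_mem h1 (hOn.conj_mem _ (O.inv_mem h1) b)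
      rw [mul_inv_eq_one, mul_inv_eq_iff_eq_mul] at h3
      have h4 : a⁻¹ * (y * b) = a⁻¹ * (b * y) := by
        calc a⁻¹ * (y * b) = a⁻¹ * y * b := by group
          _ = b * (a⁻¹ * y) := h3
          _ = (b * a⁻¹) * y := by group
          _ = (a⁻¹ * b) * y := by rw [h.comm b hb _ (A.inv_mem ha)]
          _ = a⁻¹ * (b * y) := by group
      exact mul_left_cancel h4)
    obtain ⟨y, hy, rfl⟩ := hnorm2 y' (hY' hy')
    obtain ⟨a, ha, rfl⟩ := ha'
    rw [← map_mul, ← map_mul, key y ⟨hy, hy'⟩ a ha]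
  · -- two
    obtain ⟨a, ha, b, hb, ha1, hb1, hab⟩ := h.two
    refine ⟨π a, ⟨a, ha, rfl⟩, π b, ⟨b, hb, rfl⟩, ?_, ?_, ?_⟩
    · intro h1
      exact ha1 (hAO a ha ((hπ1 a).1 h1))
    · intro h1
      exact hb1 (hAO b hb ((hπ1 b).1 h1))
    · intro g' hg'
      obtain ⟨g, rfl⟩ := hπs g'
      have h1 : π (g * a * g⁻¹) = π g * π a * (π g)⁻¹ := by rw [map_mul, map_mul, map_inv]
      rw [← h1] at hg'
      obtain ⟨o, ho, h3⟩ := exists_lift_conj_mem hO (isPGroup_zpowers (hA2 b hb))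
        (hpow a (hA2 a ha) g) (by
          change π (g * a * g⁻¹) ∈ _
          rw [hg']; exact ⟨b, mem_zpowers b, rfl⟩)
      have h4 : o * (g * a * g⁻¹) * o⁻¹ = (o * g) * a * (o * g)⁻¹ := by group
      rw [h4] at h3
      obtain ⟨i, hi⟩ := mem_zpowers_iff.1 h3
      have hb2 : b ^ (2 : ℤ) = 1 := by
        rw [zpow_ofNat, pow_two]; exact h.exp b hb
      have hcases : b ^ i = 1 ∨ b ^ i = b := by
        rcases Int.even_or_odd' i with ⟨j, hj | hj⟩
        · left; rw [hj, zpow_mul, hb2, one_zpow]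
        · right; rw [hj, zpow_add, zpow_mul, hb2, one_zpow, one_mul, zpow_one]
      rcases hcases with h5 | h5
      · rw [h5] at hi
        apply ha1
        have h6 := hi.symm
        rwa [mul_inv_eq_one, mul_eq_left] at h6
      · rw [h5] at hi
        exact hab (o * g) hi.symm

end Cfsg.Agent.H308.GoldTransfer
end

-- part: H308/A5Count
section
/-!
# Action of a group with quotient `A₅` on an elementary abelian group of order 16
-/

set_option autoImplicit false
set_option linter.style.haveILetI false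

namespace Cfsg.Agent.H308.A5Count

open Subgroup Cfsg Cfsg.Agent.H308.GoldHyp Cfsg.Agent.H308

variable {G : Type*} [Group G]

/-- counting fixed points of an element whose fifth power acts trivially -/
theorem modEq_five [Finite G] (x : G) (s : Set G) (h1 : ∀ b ∈ s, x * b * x⁻¹ ∈ s)
    (h5 : ∀ b ∈ s, x ^ 5 * b = b * x ^ 5) :
    s.ncard ≡ {b ∈ s | x * b = b * x}.ncard [MOD 5] := by
  classical
  haveI : Fact (Nat.Prime 5) := ⟨by norm_num⟩
  haveI : Fintype s := Fintype.ofFinite s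
  let f : Function.End s := fun b => ⟨x * b * x⁻¹, h1 b b.2⟩
  have hf : ∀ (n : ℕ) (b : s), ((f ^ n) b : G) = x ^ n * b * (x ^ n)⁻¹ := by
    intro n
    induction n with
    | zero => intro b; rw [pow_zero, pow_zero, inv_one, one_mul, mul_one]; rfl
    | succ n ih =>
      intro b
      rw [pow_succ']
      change x * ((f ^ n) b : G) * x⁻¹ = _
      rw [ih b, pow_succ']
      group
  have hf5 : f ^ 5 ^ 1 = 1 := by
    funext b
    apply Subtype.ext
    rw [hf, pow_one, h5 b b.2, mul_inv_cancel_right]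
    rfl
  have h2 := Equiv.Perm.card_fixedPoints_modEq hf5
  have h3 : s.ncard = Fintype.card s := by
    rw [← Nat.card_eq_fintype_card, Nat.card_coe_set_eq]
  have h4 : {b ∈ s | x * b = b * x}.ncard = Fintype.card (Function.fixedPoints f) := by
    rw [← Nat.card_eq_fintype_card, ← Nat.card_coe_set_eq]
    refine Nat.card_congr ⟨fun b => ⟨⟨b, b.2.1⟩, ?_⟩, fun b => ⟨b, b.1.2, ?_⟩, fun _ => rfl, fun _ => rfl⟩
    · apply Subtype.ext
      change x * (b : G) * x⁻¹ = b
      rw [b.2.2, mul_inv_cancel_right]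
    · have := congrArg Subtype.val b.2
      change x * (b : G) * x⁻¹ = b at this
      rw [mul_inv_eq_iff_eq_mul] at this
      exact this
  rw [h3, h4]
  exact h2

/-- The data: `ψ` maps the normalizer of `A` onto `A₅`, with kernel `A × O`, `O` of odd order. -/
structure Data (A O : Subgroup G) (ψ : normalizer (A : Set G) →* alternatingGroup (Fin 5)) :
    Prop where
  comm : ∀ a ∈ A, ∀ b ∈ A, a * b = b * a
  exp : ∀ a ∈ A, a * a = 1
  card : Nat.card A = 16
  surj : Function.Surjective ψ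
  Ole : O ≤ normalizer (A : Set G)
  Onorm : ∀ n ∈ normalizer (A : Set G), ∀ o ∈ O, n * o * n⁻¹ ∈ O
  Oodd : (Nat.card O).Coprime 2
  ker : ∀ n : normalizer (A : Set G), ψ n = 1 ↔ ∃ a ∈ A, ∃ o ∈ O, (n : G) = a * o
  cen : ∀ n : normalizer (A : Set G), (∀ a ∈ A, (n : G) * a = a * n) → ψ n = 1

section

variable {A O : Subgroup G} {ψ : normalizer (A : Set G) →* alternatingGroup (Fin 5)}

theorem Data.pow2 (h : Data A O ψ) {a : G} (ha : a ∈ A) : ∃ k : ℕ, a ^ 2 ^ k = 1 :=
  ⟨1, by rw [pow_one, pow_two]; exact h.exp a ha⟩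

theorem Data.inv (h : Data A O ψ) {a : G} (ha : a ∈ A) : a⁻¹ = a :=
  inv_eq_of_mul_eq_one_left (h.exp a ha)

theorem Data.inf (h : Data A O ψ) {a : G} (ha : a ∈ A) (ho : a ∈ O) : a = 1 :=
  GoldTransfer.eq_one_of_odd h.Oodd ho (h.pow2 ha)

theorem Data.commO (h : Data A O ψ) {a o : G} (ha : a ∈ A) (ho : o ∈ O) : o * a = a * o := by
  have h1 : o * a * o⁻¹ * a⁻¹ ∈ A :=
    A.mul_mem ((mem_normalizer_iff.1 (h.Ole ho) a).1 ha) (A.inv_mem ha)
  have h2 : o * a * o⁻¹ * a⁻¹ ∈ O := by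
    have h3 : o * a * o⁻¹ * a⁻¹ = o * (a * o⁻¹ * a⁻¹) := by group
    rw [h3]
    exact O.mul_mem ho (h.Onorm a (le_normalizer ha) _ (O.inv_mem ho))
  have h3 := h.inf h1 h2
  rw [mul_inv_eq_one, mul_inv_eq_iff_eq_mul] at h3
  exact h3

theorem Data.cen' (h : Data A O ψ) {n : normalizer (A : Set G)} (hn : ψ n = 1) {a : G}
    (ha : a ∈ A) : (n : G) * a = a * n := by
  obtain ⟨b, hb, o, ho, hbo⟩ := (h.ker n).1 hn
  rw [hbo, mul_assoc, h.commO ha ho, ← mul_assoc, h.comm b hb a ha, mul_assoc]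

theorem Data.conj_mem (_ : Data A O ψ) {n : G} (hn : n ∈ normalizer (A : Set G)) {a : G}
    (ha : a ∈ A) : n * a * n⁻¹ ∈ A := (mem_normalizer_iff.1 hn a).1 ha

/-- 2-elements centralizing `A` are in `A` -/
theorem Data.mem_of_pow (h : Data A O ψ) {n : normalizer (A : Set G)} (hn : ψ n = 1)
    (h2 : ∃ k : ℕ, (n : G) ^ 2 ^ k = 1) : (n : G) ∈ A := by
  obtain ⟨a, ha, o, ho, hbo⟩ := (h.ker n).1 hn
  obtain ⟨k, hk⟩ := h2
  have h3 : o = a⁻¹ * n := by rw [hbo]; group
  have h4 : Commute a⁻¹ (n : G) := (h.cen' hn (A.inv_mem ha)).symm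
  have h5 : o ^ 2 ^ (k + 1) = 1 := by
    rw [h3, h4.mul_pow, pow_succ 2 k, pow_mul (n : G), hk, one_pow, mul_one, mul_comm (2 ^ k) 2,
      pow_mul, inv_pow, pow_two, h.exp a ha, inv_one, one_pow]
  have h6 := GoldTransfer.eq_one_of_odd h.Oodd ho ⟨_, h5⟩
  rw [hbo, h6, mul_one]
  exact ha

/-- elements of order 5 modulo the kernel act fixed point freely -/
theorem Data.fpf [Finite G] (h : Data A O ψ) {x : normalizer (A : Set G)} (hx5 : ψ x ^ 5 = 1)
    (hx : ψ x ≠ 1) {a : G} (ha : a ∈ A) (hxa : (x : G) * a = a * x) : a = 1 := by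
  have h5 : ∀ b ∈ A, (x : G) ^ 5 * b = b * (x : G) ^ 5 := by
    intro b hb
    have := h.cen' (n := x ^ 5) (by rw [map_pow, hx5]) hb
    simpa only [_root_.SubmonoidClass.coe_pow] using this
  have h1 := modEq_five (x : G) (A : Set G) (fun b hb => h.conj_mem x.2 hb) h5
  let C : Subgroup G := A ⊓ centralizer {(x : G)}
  have hC : (C : Set G) = {b ∈ (A : Set G) | (x : G) * b = b * x} := by
    ext b
    simp only [C, coe_inf, Set.mem_inter_iff, SetLike.mem_coe, mem_centralizer_singleton_iff,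
      Set.mem_ofPred_eq]
    exact and_congr_right fun _ => eq_comm
  have h2 : (A : Set G).ncard = 16 := by
    rw [← Nat.card_coe_set_eq]; exact h.card
  rw [h2, ← hC, ← Nat.card_coe_set_eq] at h1
  have h3 : Nat.card C ∣ 16 := by
    rw [← h.card]; exact card_dvd_of_le inf_le_left
  have h1' : Nat.card C % 5 = 1 := h1.symm
  have h4 : Nat.card C ≤ 16 := Nat.le_of_dvd (by norm_num) h3
  have h6 : Nat.card C = 1 ∨ Nat.card C = 16 := by
    have h7 : Nat.card C = 1 ∨ Nat.card C = 6 ∨ Nat.card C = 11 ∨ Nat.card C = 16 := by omega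
    rcases h7 with h7 | h7 | h7 | h7
    · exact Or.inl h7
    · rw [h7] at h3; norm_num at h3
    · rw [h7] at h3; norm_num at h3
    · exact Or.inr h7
  rcases h6 with h7 | h7
  · have h8 : C = ⊥ := card_eq_one.1 h7
    have h9 : a ∈ C := ⟨ha, mem_centralizer_singleton_iff.2 hxa.symm⟩
    rwa [h8, mem_bot] at h9
  · exfalso
    apply hx
    apply h.cen x
    have h8 : C = A := eq_of_le_of_card_ge inf_le_left (by rw [h7, h.card])
    intro b hb
    rw [← h8] at hb
    exact (mem_centralizer_singleton_iff.1 hb.2).symm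

/-- invariant subgroups -/
theorem Data.irr [Finite G] (h : Data A O ψ) {x : normalizer (A : Set G)} (hx5 : ψ x ^ 5 = 1)
    (hx : ψ x ≠ 1) {B : Subgroup G} (hB : B ≤ A) (hinv : ∀ b ∈ B, (x : G) * b * (x : G)⁻¹ ∈ B) :
    B = ⊥ ∨ B = A := by
  have h5 : ∀ b ∈ B, (x : G) ^ 5 * b = b * (x : G) ^ 5 := by
    intro b hb
    have := h.cen' (n := x ^ 5) (by rw [map_pow, hx5]) (hB hb)
    simpa only [_root_.SubmonoidClass.coe_pow] using this
  have h1 := modEq_five (x : G) (B : Set G) hinv h5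
  have hC : {b ∈ (B : Set G) | (x : G) * b = b * x} = {1} := by
    ext b
    simp only [SetLike.mem_coe, Set.mem_ofPred_eq, Set.mem_singleton_iff]
    constructor
    · rintro ⟨hb, hb'⟩
      exact h.fpf hx5 hx (hB hb) hb'
    · rintro rfl
      exact ⟨B.one_mem, by simp⟩
  rw [hC, Set.ncard_singleton, ← Nat.card_coe_set_eq] at h1
  have h3 : Nat.card B ∣ 16 := by
    rw [← h.card]; exact card_dvd_of_le hB
  have h1' : Nat.card B % 5 = 1 := h1
  have h4 : Nat.card B ≤ 16 := Nat.le_of_dvd (by norm_num) h3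
  have h7 : Nat.card B = 1 ∨ Nat.card B = 6 ∨ Nat.card B = 11 ∨ Nat.card B = 16 := by omega
  rcases h7 with h7 | h7 | h7 | h7
  · exact Or.inl (card_eq_one.1 h7)
  · rw [h7] at h3; norm_num at h3
  · rw [h7] at h3; norm_num at h3
  · exact Or.inr (eq_of_le_of_card_ge hB (by rw [h7, h.card]))

/-- `C_A(t) = [A,t]` for elements `t` inducing an involution -/
theorem Data.cent_eq [Finite G] (h : Data A O ψ) {t : normalizer (A : Set G)}
    (ht2 : ψ t * ψ t = 1) (ht : ψ t ≠ 1) {c : G} (hc : c ∈ A) (htc : (t : G) * c = c * t) :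
    ∃ b ∈ A, c = b * ((t : G) * b * (t : G)⁻¹) := by
  classical
  -- the subgroups `C_A(s)`
  let C : normalizer (A : Set G) → Subgroup G := fun s => A ⊓ centralizer {(s : G)}
  have hCmem : ∀ s b, b ∈ C s ↔ b ∈ A ∧ (s : G) * b = b * s := by
    intro s b
    simp only [C, mem_inf, mem_centralizer_singleton_iff]
    exact and_congr_right fun _ => eq_comm
  obtain ⟨g, hg1, hg2⟩ := AltFive.five_prod (ψ t) ht2 ht
  obtain ⟨n, rfl⟩ := h.surj g
  set u : normalizer (A : Set G) := n * t * n⁻¹ with hu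
  have hu' : ψ u = ψ n * ψ t * (ψ n)⁻¹ := by rw [hu, map_mul, map_mul, map_inv]
  have hdisj : C t ⊓ C u = ⊥ := by
    rw [eq_bot_iff]
    rintro b ⟨h1, h2⟩
    obtain ⟨hb, hb1⟩ := (hCmem t b).1 h1
    obtain ⟨-, hb2⟩ := (hCmem u b).1 h2
    refine h.fpf (x := t * u) (by rw [map_mul, hu']; exact hg1) (by rw [map_mul, hu']; exact hg2) hb ?_
    change (t : G) * u * b = b * (t * u)
    rw [mul_assoc, hb2, ← mul_assoc, hb1, mul_assoc]
  have hcard : Nat.card (C u) = Nat.card (C t) := by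
    have h1 : C u = (C t).map (MulAut.conj (n : G)).toMonoidHom := by
      ext b
      rw [hCmem]
      constructor
      · rintro ⟨hb, hb1⟩
        refine ⟨(n : G)⁻¹ * b * n, ?_, ?_⟩
        · change (n : G)⁻¹ * b * n ∈ C t
          rw [hCmem]
          refine ⟨?_, ?_⟩
          · have := h.conj_mem (inv_mem n.2) hb
            rwa [inv_inv] at this
          · have h2 : (u : G) = n * t * (n : G)⁻¹ := rfl
            rw [h2] at hb1
            have h3 : (t : G) * ((n : G)⁻¹ * b * n) = (n : G)⁻¹ * ((n * t * (n : G)⁻¹) * b) * n := by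
              group
            rw [h3, hb1]
            group
        · simp only [MulEquiv.toMonoidHom_eq_coe, MonoidHom.coe_coe, MulAut.conj_apply]
          group
      · rintro ⟨c, hc, rfl⟩
        obtain ⟨hc1, hc2⟩ := (hCmem t c).1 hc
        refine ⟨h.conj_mem n.2 hc1, ?_⟩
        change (n * t * (n : G)⁻¹) * (n * c * (n : G)⁻¹) = (n * c * (n : G)⁻¹) * (n * t * (n : G)⁻¹)
        have h3 : ((n : G) * t * (n : G)⁻¹) * (n * c * (n : G)⁻¹) = n * (t * c) * (n : G)⁻¹ := by
          group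
        rw [h3, hc2]
        group
    rw [h1, card_map_of_injective (MulAut.conj (n : G)).injective]
  have hle : Nat.card (C t) * Nat.card (C t) ≤ 16 := by
    have h1 : Nat.card (C t × C u) ≤ Nat.card A := by
      refine Nat.card_le_card_of_injective (fun p => (⟨(p.1 : G) * p.2,
        A.mul_mem ((hCmem _ _).1 p.1.2).1 ((hCmem _ _).1 p.2.2).1⟩ : A)) ?_
      rintro ⟨⟨a, ha⟩, ⟨b, hb⟩⟩ ⟨⟨a', ha'⟩, ⟨b', hb'⟩⟩ hab
      have h2 : a * b = a' * b' := congrArg Subtype.val hab
      have h3 : a'⁻¹ * a = b' * b⁻¹ := by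
        rw [inv_mul_eq_iff_eq_mul, ← mul_assoc, ← h2, mul_inv_cancel_right]
      have h4 : a'⁻¹ * a ∈ C t ⊓ C u :=
        ⟨(C t).mul_mem ((C t).inv_mem ha') ha, by
          rw [h3]; exact (C u).mul_mem hb' ((C u).inv_mem hb)⟩
      rw [hdisj, mem_bot] at h4
      have h5 := h4
      rw [h3] at h5
      have h6 : a = a' := (inv_mul_eq_one.1 h4).symm
      have h7 : b = b' := (mul_inv_eq_one.1 h5).symm
      subst h6 h7
      rfl
    rw [Nat.card_prod, hcard, h.card] at h1
    exact h1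
  -- the homomorphism `b ↦ b * b^t`
  let θ : A →* A := 
    { toFun := fun b => ⟨b * ((t : G) * b * (t : G)⁻¹), A.mul_mem b.2 (h.conj_mem t.2 b.2)⟩
      map_one' := by apply Subtype.ext; simp
      map_mul' := by
        rintro ⟨b, hb⟩ ⟨c, hc⟩
        apply Subtype.ext
        change b * c * (t * (b * c) * (t : G)⁻¹) = b * (t * b * (t : G)⁻¹) * (c * (t * c * (t : G)⁻¹))
        have h1 := h.comm c hc _ (h.conj_mem t.2 hb)
        calc b * c * (t * (b * c) * (t : G)⁻¹) = b * (c * (t * b * (t : G)⁻¹)) * (t * c * (t : G)⁻¹) := by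
              group
          _ = _ := by rw [h1]; group }
  have ht2' : ∀ b ∈ A, (t : G) * (t * b * (t : G)⁻¹) * (t : G)⁻¹ = b := by
    intro b hb
    have h1 := h.cen' (n := t * t) (by rw [map_mul, ht2]) hb
    change (t : G) * t * b = b * (t * t) at h1
    calc (t : G) * (t * b * (t : G)⁻¹) * (t : G)⁻¹ = (t * t * b) * ((t : G)⁻¹ * (t : G)⁻¹) := by group
      _ = b := by rw [h1]; group
  have hker : ∀ b : A, b ∈ θ.ker ↔ (b : G) ∈ C t := by
    intro b
    rw [MonoidHom.mem_ker, hCmem, Subtype.ext_iff]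
    change (b : G) * (t * b * (t : G)⁻¹) = 1 ↔ _
    rw [mul_eq_one_iff_inv_eq, h.inv b.2]
    constructor
    · intro h1
      refine ⟨b.2, ?_⟩
      rw [eq_comm, mul_inv_eq_iff_eq_mul] at h1
      exact h1
    · rintro ⟨-, h1⟩
      rw [h1, mul_inv_cancel_right]
  have hkc : Nat.card θ.ker = Nat.card (C t) := by
    refine Nat.card_congr ⟨fun b => ⟨(b : A), (hker b).1 b.2⟩,
      fun b => ⟨⟨b, ((hCmem _ _).1 b.2).1⟩, (hker _).2 b.2⟩, fun _ => rfl, fun _ => rfl⟩
  have hrange : ∀ b : A, ((θ b : A) : G) ∈ C t := by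
    intro b
    rw [hCmem]
    refine ⟨(θ b).2, ?_⟩
    change (t : G) * (b * (t * b * (t : G)⁻¹)) = (b * (t * b * (t : G)⁻¹)) * t
    have h1 : (t : G) * (b * (t * b * (t : G)⁻¹)) =
        (t * b * (t : G)⁻¹) * (t * (t * b * (t : G)⁻¹) * (t : G)⁻¹) * t := by group
    rw [h1, ht2' b b.2, h.comm _ (h.conj_mem t.2 b.2) b b.2]
  have hr : Nat.card θ.range ≤ Nat.card (C t) :=
    Nat.card_le_card_of_injective (fun b => (⟨((b : A) : G), by
      obtain ⟨c, hc⟩ := b.2
      rw [← hc]; exact hrange c⟩ : C t)) (by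
        intro a b hab
        exact Subtype.ext (Subtype.ext (congrArg (fun w : C t => (w : G)) hab)))
  have hkr : Nat.card θ.ker * Nat.card θ.range = 16 := by
    rw [← index_ker, card_mul_index, h.card]
  rw [hkc] at hkr
  have h4 : Nat.card θ.range = Nat.card (C t) := by
    have h5 : Nat.card (C t) ≤ 4 := by
      by_contra hcon
      push Not at hcon
      have := Nat.mul_le_mul hcon hcon
      omega
    have h6 : 4 ≤ Nat.card θ.range := by
      by_contra hcon
      push Not at hcon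
      have h7 : Nat.card θ.range ≤ 3 := by omega
      have := Nat.mul_le_mul h5 h7
      omega
    have h7 : Nat.card θ.range ≤ 4 := hr.trans h5
    have h8 : Nat.card θ.range = 4 := by omega
    rw [h8] at hkr ⊢
    omega
  -- hence every element of `C_A(t)` is in the range
  have h5 : (θ.range.map A.subtype) = C t := by
    apply eq_of_le_of_card_ge
    · rintro _ ⟨_, ⟨b, rfl⟩, rfl⟩
      exact hrange b
    · rw [card_map_of_injective A.subtype_injective, h4]
  have h6 : c ∈ θ.range.map A.subtype := by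
    rw [h5, hCmem]; exact ⟨hc, htc⟩
  obtain ⟨_, ⟨b, rfl⟩, hb⟩ := h6
  exact ⟨b, b.2, hb.symm⟩

/-- two involutions `v` and `v o`, `o` of odd order, are conjugate. -/
theorem conj_of_odd {v o : G} (hv : v * v = 1) (hvo : (v * o) * (v * o) = 1)
    (ho : Odd (orderOf o)) : ∃ k : ℕ, o ^ k * v * (o ^ k)⁻¹ = v * o := by
  have h1 : v⁻¹ = v := inv_eq_of_mul_eq_one_left hv
  have h2 : v * o * v⁻¹ = o⁻¹ := by
    rw [h1, eq_inv_iff_mul_eq_one]
    calc v * o * v * o = (v * o) * (v * o) := by group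
      _ = 1 := hvo
  obtain ⟨m, hm⟩ := ho
  have h3 : ∀ k : ℕ, v * o ^ k * v⁻¹ = (o ^ k)⁻¹ := by
    intro k
    rw [← conj_pow, h2, inv_pow]
  refine ⟨m, ?_⟩
  have h4 := h3 m
  have h5 : o ^ m * v = v * (o ^ m)⁻¹ := by
    rw [← h4, h1, ← mul_assoc, ← mul_assoc, hv, one_mul]
  rw [h5, mul_assoc, ← mul_inv_rev, ← pow_add]
  congr 1
  rw [inv_eq_iff_mul_eq_one, ← pow_succ]
  have h6 : m + m + 1 = orderOf o := by omega
  rw [h6, pow_orderOf_eq_one]

/-- the involutions of `N_G(A)` outside `C_G(A)` are all conjugate in `N_G(A)` -/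
theorem Data.conj_invol [Finite G] (h : Data A O ψ) {t u : normalizer (A : Set G)}
    (ht : t * t = 1) (hu : u * u = 1) (ht1 : ψ t ≠ 1) (hu1 : ψ u ≠ 1) :
    ∃ n : normalizer (A : Set G), n * t * n⁻¹ = u := by
  have hψt : ψ t * ψ t = 1 := by rw [← map_mul, ht, map_one]
  have hψu : ψ u * ψ u = 1 := by rw [← map_mul, hu, map_one]
  obtain ⟨g, hg⟩ := AltFive.invol_conj (ψ t) (ψ u) hψt ht1 hψu hu1
  obtain ⟨n, rfl⟩ := h.surj g
  set t' : normalizer (A : Set G) := n * t * n⁻¹ with ht'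
  have ht'2 : t' * t' = 1 := by
    rw [ht']
    calc n * t * n⁻¹ * (n * t * n⁻¹) = n * (t * t) * n⁻¹ := by group
      _ = 1 := by rw [ht]; group
  have hψ : ψ t' = ψ u := by rw [ht', map_mul, map_mul, map_inv, hg]
  have hm : ψ (u⁻¹ * t') = 1 := by rw [map_mul, map_inv, hψ, inv_mul_cancel]
  obtain ⟨a, ha, o, ho, hao⟩ := (h.ker _).1 hm
  have h1 : (t' : G) = u * a * o := by
    have : ((u⁻¹ * t' : normalizer (A : Set G)) : G) = (u : G)⁻¹ * t' := rfl
    rw [this, inv_mul_eq_iff_eq_mul] at hao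
    rw [hao, mul_assoc]
  have huG : (u : G) * u = 1 := congrArg Subtype.val hu
  have htG : (t' : G) * t' = 1 := congrArg Subtype.val ht'2
  set v : G := u * a with hv
  have hvN : v ∈ normalizer (A : Set G) :=
    (normalizer (A : Set G)).mul_mem u.2 (le_normalizer ha)
  have huinv : (u : G)⁻¹ = u := inv_eq_of_mul_eq_one_left huG
  have hv2 : v * v = 1 := by
    refine h.inf ?_ ?_
    · have h2 : v * v = (u * a * (u : G)⁻¹) * a := by
        rw [huinv, hv]; group
      rw [h2]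
      exact A.mul_mem (h.conj_mem u.2 ha) ha
    · have h2 : v = t' * o⁻¹ := by rw [h1]; group
      have h3 : v * v = (t' * o⁻¹ * (t' : G)⁻¹) * ((t' * t') * o⁻¹) := by
        rw [h2]; group
      rw [h3, htG, one_mul]
      exact O.mul_mem (h.Onorm _ t'.2 _ (O.inv_mem ho)) (O.inv_mem ho)
  have hodd : Odd (orderOf o) := by
    have h2 : orderOf o ∣ Nat.card O := by
      have := _root_.orderOf_dvd_natCard (⟨o, ho⟩ : O)
      rwa [← orderOf_coe] at this
    have h3 : (orderOf o).Coprime 2 := h.Oodd.coprime_dvd_left h2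
    rw [← Nat.not_even_iff_odd]
    intro h4
    have h5 := Nat.dvd_gcd h4.two_dvd (dvd_refl 2)
    rw [h3] at h5
    norm_num at h5
  obtain ⟨k, hk⟩ := conj_of_odd (v := v) (o := o) hv2 (by rw [← h1]; exact htG) hodd
  -- `v` is conjugate to `u`
  have hca : (u : G) * a = a * u := by
    have h2 : (u : G) * a * u * a = 1 := by
      rw [hv] at hv2
      calc (u : G) * a * u * a = (u * a) * (u * a) := by group
        _ = 1 := hv2
    have h3 : (u : G) * a * u = a := by
      rw [mul_eq_one_iff_eq_inv] at h2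
      rw [h2, h.inv ha]
    calc (u : G) * a = (u * a * u) * (u : G)⁻¹ := by group
      _ = a * u := by rw [h3, huinv]
  obtain ⟨b, hb, hab⟩ := h.cent_eq hψu hu1 ha hca
  have h2 : b * u * b⁻¹ = v := by
    have h3 : b * (u : G) * b⁻¹ = (b * (u * b * (u : G)⁻¹)) * u := by
      rw [h.inv hb]; group
    rw [h3, ← hab, hv, hca]
  have hok : o ^ k ∈ normalizer (A : Set G) := h.Ole (O.pow_mem ho k)
  refine ⟨(⟨b, le_normalizer hb⟩ : normalizer (A : Set G))⁻¹ *
    (⟨o ^ k, hok⟩ : normalizer (A : Set G))⁻¹ * n, ?_⟩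
  apply Subtype.ext
  change (b⁻¹ * (o ^ k)⁻¹ * n) * t * (b⁻¹ * (o ^ k)⁻¹ * n)⁻¹ = u
  have h3 : (b⁻¹ * (o ^ k)⁻¹ * n) * t * (b⁻¹ * (o ^ k)⁻¹ * n)⁻¹ =
      b⁻¹ * ((o ^ k)⁻¹ * (n * t * (n : G)⁻¹) * o ^ k) * b := by group
  have h4 : (n : G) * t * (n : G)⁻¹ = v * o := by
    rw [← h1]; rfl
  rw [h3, h4, ← hk]
  have h5 : b⁻¹ * ((o ^ k)⁻¹ * (o ^ k * v * (o ^ k)⁻¹) * o ^ k) * b = b⁻¹ * v * b := by group
  rw [h5, ← h2]
  group

end

end Cfsg.Agent.H308.A5Count
end

-- part: H308/A5Fusion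
section
/-!
# Fusion of the involutions
-/

set_option autoImplicit false
set_option linter.style.haveILetI false

namespace Cfsg.Agent.H308.A5Fusion

open Subgroup Cfsg Cfsg.Agent.H308.GoldHyp Cfsg.Agent.H308 Cfsg.Agent.H308.A5Count

variable {G : Type*} [Group G]
variable {A O : Subgroup G} {ψ : normalizer (A : Set G) →* alternatingGroup (Fin 5)}

/-- the orbit of `a` under `N_G(A)` -/
def orb (A : Subgroup G) (a : G) : Set G := {y | ∃ n ∈ normalizer (A : Set G), n * a * n⁻¹ = y}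

theorem mem_orb_self (a : G) : a ∈ orb A a := ⟨1, one_mem _, by simp⟩

theorem orb_conj {a y n : G} (hy : y ∈ orb A a) (hn : n ∈ normalizer (A : Set G)) :
    n * y * n⁻¹ ∈ orb A a := by
  obtain ⟨m, hm, rfl⟩ := hy
  exact ⟨n * m, mul_mem hn hm, by group⟩

theorem orb_disjoint {a b y : G} (h1 : y ∈ orb A a) (h2 : y ∈ orb A b) : b ∈ orb A a := by
  obtain ⟨m, hm, rfl⟩ := h1
  obtain ⟨n, hn, hnm⟩ := h2
  refine ⟨n⁻¹ * m, mul_mem (inv_mem hn) hm, ?_⟩
  calc n⁻¹ * m * a * (n⁻¹ * m)⁻¹ = n⁻¹ * (m * a * m⁻¹) * n := by group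
    _ = b := by rw [← hnm]; group

theorem orb_sub (h : Data A O ψ) {a : G} (ha : a ∈ A) (ha1 : a ≠ 1) :
    ∀ y ∈ orb A a, y ∈ A ∧ y ≠ 1 := by
  rintro y ⟨n, hn, rfl⟩
  refine ⟨h.conj_mem hn ha, fun h1 => ha1 ?_⟩
  rwa [mul_inv_eq_one, mul_eq_left] at h1

theorem exists_five (h : Data A O ψ) : ∃ x : normalizer (A : Set G), ψ x ^ 5 = 1 ∧ ψ x ≠ 1 := by
  have h5 : ∃ y : alternatingGroup (Fin 5), orderOf y = 5 := by
    haveI : Fact (Nat.Prime 5) := ⟨by norm_num⟩
    apply exists_prime_orderOf_dvd_card'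
    rw [AltFive.card_A5]; norm_num
  obtain ⟨y, hy⟩ := h5
  obtain ⟨x, rfl⟩ := h.surj y
  refine ⟨x, ?_, ?_⟩
  · exact orderOf_dvd_iff_pow_eq_one.1 (by rw [hy])
  · intro h1
    rw [h1, orderOf_one] at hy
    norm_num at hy

theorem five_dvd_orb [Finite G] (h : Data A O ψ) {a : G} (ha : a ∈ A) (ha1 : a ≠ 1) :
    (orb A a).ncard % 5 = 0 := by
  obtain ⟨x, hx5, hx⟩ := exists_five h
  have h5 : ∀ b ∈ orb A a, (x : G) ^ 5 * b = b * (x : G) ^ 5 := by
    intro b hb
    have := h.cen' (n := x ^ 5) (by rw [map_pow, hx5]) (orb_sub h ha ha1 b hb).1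
    simpa only [_root_.SubmonoidClass.coe_pow] using this
  have h1 := modEq_five (x : G) (orb A a) (fun b hb => orb_conj hb x.2) h5
  have hC : {b ∈ orb A a | (x : G) * b = b * x} = ∅ := by
    ext b
    simp only [Set.mem_ofPred_eq, Set.mem_empty_iff_false, iff_false]
    rintro ⟨hb, hb'⟩
    exact (orb_sub h ha ha1 b hb).2 (h.fpf hx5 hx (orb_sub h ha ha1 b hb).1 hb')
  rw [hC, Set.ncard_empty] at h1
  exact h1

/-- orbits of odd length contain points fixed by a 2-subgroup of the normalizer -/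
theorem exists_fixed [Finite G] {S : Subgroup G} (hS : IsPGroup 2 S)
    (hSN : S ≤ normalizer (A : Set G)) {a : G} (hodd : (orb A a).ncard % 2 = 1) :
    ∃ y ∈ orb A a, ∀ s ∈ S, s * y = y * s := by
  haveI : Fact (Nat.Prime 2) := ⟨Nat.prime_two⟩
  letI : MulAction S (orb A a) :=
    { smul := fun s y => ⟨s * y * (s : G)⁻¹, orb_conj y.2 (hSN s.2)⟩
      one_smul := fun y => Subtype.ext (by
        change ((1 : S) : G) * y * ((1 : S) : G)⁻¹ = y
        simp)
      mul_smul := fun s t y => Subtype.ext (by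
        change ((s * t : S) : G) * y * ((s * t : S) : G)⁻¹ = s * (t * y * (t : G)⁻¹) * (s : G)⁻¹
        rw [Subgroup.coe_mul]; group) }
  obtain ⟨y, hy⟩ := hS.nonempty_fixed_point_of_prime_not_dvd_card (orb A a) (by
    rw [Nat.card_coe_set_eq]; omega)
  refine ⟨y, y.2, fun s hs => ?_⟩
  have h1 := hy ⟨s, hs⟩
  have h2 : s * (y : G) * s⁻¹ = y := congrArg Subtype.val h1
  rwa [mul_inv_eq_iff_eq_mul] at h2

/-- `N_G(A)` has at most two orbits on the involutions of `A` -/
theorem two_orbits [Finite G] (h : Data A O ψ) {S : Subgroup G} (hS : IsPGroup 2 S)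
    (hSN : S ≤ normalizer (A : Set G))
    (hZ : ∀ Z : Subgroup G, Z ≤ A → (∀ z ∈ Z, ∀ s ∈ S, s * z = z * s) → Nat.card Z < 4) :
    ∃ a₁ ∈ A, ∃ a₂ ∈ A, a₁ ≠ 1 ∧ a₂ ≠ 1 ∧ ∀ a ∈ A, a ≠ 1 → a ∈ orb A a₁ ∨ a ∈ orb A a₂ := by
  classical
  obtain ⟨a₁, h₁, h₁'⟩ : ∃ a ∈ A, a ≠ 1 := by
    by_contra hcon
    push Not at hcon
    have h1 : A = ⊥ := by
      rw [eq_bot_iff]; intro a ha; rw [mem_bot]; exact hcon a ha
    have h2 := h.card
    rw [h1, card_bot] at h2
    norm_num at h2
  by_contra hcon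
  push Not at hcon
  obtain ⟨a₂, h₂, h₂', h12, -⟩ := hcon a₁ h₁ a₁ h₁ h₁' h₁'
  obtain ⟨a₃, h₃, h₃', h13, h23⟩ := hcon a₁ h₁ a₂ h₂ h₁' h₂'
  have hd12 : Disjoint (orb A a₁) (orb A a₂) :=
    Set.disjoint_left.2 fun y hy hy' => h12 (orb_disjoint hy hy')
  have hd13 : Disjoint (orb A a₁) (orb A a₃) :=
    Set.disjoint_left.2 fun y hy hy' => h13 (orb_disjoint hy hy')
  have hd23 : Disjoint (orb A a₂) (orb A a₃) :=
    Set.disjoint_left.2 fun y hy hy' => h23 (orb_disjoint hy hy')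
  have hpos : ∀ a, 0 < (orb A a).ncard := fun a =>
    (Set.ncard_pos (Set.toFinite _)).2 ⟨a, mem_orb_self a⟩
  have hsum : (orb A a₁).ncard + (orb A a₂).ncard + (orb A a₃).ncard ≤ 15 := by
    have h1 : (orb A a₁ ∪ orb A a₂ ∪ orb A a₃).ncard =
        (orb A a₁).ncard + (orb A a₂).ncard + (orb A a₃).ncard := by
      rw [Set.ncard_union_eq (Set.disjoint_union_left.2 ⟨hd13, hd23⟩), Set.ncard_union_eq hd12]
    rw [← h1]
    have h2 : orb A a₁ ∪ orb A a₂ ∪ orb A a₃ ⊆ (A : Set G) \ {1} := by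
      rintro y ((hy | hy) | hy)
      · exact orb_sub h h₁ h₁' y hy
      · exact orb_sub h h₂ h₂' y hy
      · exact orb_sub h h₃ h₃' y hy
    have h3 := Set.ncard_le_ncard h2
    have h4 : ((A : Set G) \ {1}).ncard = 15 := by
      rw [Set.ncard_sdiff_singleton_of_mem A.one_mem, ← Nat.card_coe_set_eq]
      have := h.card
      change Nat.card A - 1 = 15
      omega
    omega
  have e1 := five_dvd_orb h h₁ h₁'
  have e2 := five_dvd_orb h h₂ h₂'
  have e3 := five_dvd_orb h h₃ h₃'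
  have p1 := hpos a₁
  have p2 := hpos a₂
  have p3 := hpos a₃
  obtain ⟨z₁, hz1, hz1'⟩ := exists_fixed (a := a₁) hS hSN (by omega)
  obtain ⟨z₂, hz2, hz2'⟩ := exists_fixed (a := a₂) hS hSN (by omega)
  obtain ⟨z₃, hz3, hz3'⟩ := exists_fixed (a := a₃) hS hSN (by omega)
  have q1 := orb_sub h h₁ h₁' _ hz1
  have q2 := orb_sub h h₂ h₂' _ hz2
  have q3 := orb_sub h h₃ h₃' _ hz3
  let Z : Subgroup G := A ⊓ centralizer (S : Set G)
  have hZc := hZ Z inf_le_left (fun z hz s hs => mem_centralizer_iff.1 hz.2 s hs)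
  have hsub : ({1, z₁, z₂, z₃} : Finset G) ⊆ (Set.toFinite (Z : Set G)).toFinset := by
    intro y hy
    rw [Set.Finite.mem_toFinset]
    simp only [Finset.mem_insert, Finset.mem_singleton] at hy
    have hz : ∀ z, z ∈ A → (∀ s ∈ S, s * z = z * s) → z ∈ (Z : Set G) :=
      fun z hz hz' => ⟨hz, mem_centralizer_iff.2 fun s hs => hz' s hs⟩
    rcases hy with rfl | rfl | rfl | rfl
    · exact Z.one_mem
    · exact hz _ q1.1 hz1'
    · exact hz _ q2.1 hz2'
    · exact hz _ q3.1 hz3'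
  have hcard : ({1, z₁, z₂, z₃} : Finset G).card = 4 := by
    have n12 : z₁ ≠ z₂ := fun e => Set.disjoint_left.1 hd12 hz1 (e ▸ hz2)
    have n13 : z₁ ≠ z₃ := fun e => Set.disjoint_left.1 hd13 hz1 (e ▸ hz3)
    have n23 : z₂ ≠ z₃ := fun e => Set.disjoint_left.1 hd23 hz2 (e ▸ hz3)
    rw [Finset.card_insert_of_notMem, Finset.card_insert_of_notMem, Finset.card_insert_of_notMem,
      Finset.card_singleton]
    · simpa using n23
    · simpa using ⟨n12, n13⟩
    · simp only [Finset.mem_insert, Finset.mem_singleton, not_or]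
      exact ⟨q1.2.symm, q2.2.symm, q3.2.symm⟩
  have h4 := Finset.card_le_card hsub
  rw [hcard, ← Set.ncard_eq_toFinset_card (Z : Set G), ← Nat.card_coe_set_eq] at h4
  exact absurd hZc (not_lt.2 h4)

/-- three classes of involutions are not covered by two classes -/
theorem not_two [Finite G]
    (h3 : Nat.card {c : ConjClasses G // ∃ x ∈ c.carrier, orderOf x = 2} = 3) (c₁ c₂ : G)
    (h : ∀ x : G, orderOf x = 2 → IsConj c₁ x ∨ IsConj c₂ x) : False := by
  classical
  have h1 : {c : ConjClasses G | ∃ x ∈ c.carrier, orderOf x = 2} ⊆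
      {ConjClasses.mk c₁, ConjClasses.mk c₂} := by
    rintro c ⟨x, hx, hx2⟩
    rw [ConjClasses.mem_carrier_iff_mk_eq] at hx
    rw [Set.mem_insert_iff, Set.mem_singleton_iff, ← hx]
    rcases h x hx2 with h1 | h1
    · left; exact (ConjClasses.mk_eq_mk_iff_isConj.2 h1).symm
    · right; exact (ConjClasses.mk_eq_mk_iff_isConj.2 h1).symm
  have h2 := Set.ncard_le_ncard h1
  have h4 : ({ConjClasses.mk c₁, ConjClasses.mk c₂} : Set (ConjClasses G)).ncard ≤ 2 :=
    (Set.ncard_insert_le _ _).trans (by rw [Set.ncard_singleton])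
  have h5 : {c : ConjClasses G | ∃ x ∈ c.carrier, orderOf x = 2}.ncard = 3 := by
    rw [← Nat.card_coe_set_eq]; exact h3
  omega

theorem orderOf_conj_eq (g x : G) : orderOf (g * x * g⁻¹) = orderOf x :=
  (orderOf_injective (MulAut.conj g).toMonoidHom (MulAut.conj g).injective x)

theorem isConj_of_orb {a y : G} (h : y ∈ orb A a) : IsConj a y := by
  obtain ⟨n, -, hn⟩ := h
  exact isConj_iff.2 ⟨n, hn⟩

/-- **The fusion statement.** -/
theorem hyp_of_data [Finite G] (h : Data A O ψ) (S : Sylow 2 G)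
    (hSN : (S : Subgroup G) ≤ normalizer (A : Set G)) (hAS : A ≤ S)
    (hZ : ∀ Z : Subgroup G, Z ≤ A → (∀ z ∈ Z, ∀ s ∈ (S : Subgroup G), s * z = z * s) →
      Nat.card Z < 4)
    (h3 : Nat.card {c : ConjClasses G // ∃ x ∈ c.carrier, orderOf x = 2} = 3) : Hyp A := by
  classical
  haveI : Fact (Nat.Prime 2) := ⟨Nat.prime_two⟩
  obtain ⟨a₁, ha₁, a₂, ha₂, h₁, h₂, horb⟩ := two_orbits h S.isPGroup' hSN hZ
  have hcent : ∀ t : G, (∃ k : ℕ, t ^ 2 ^ k = 1) → (∀ a ∈ A, t * a = a * t) → t ∈ A := by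
    intro t ht hc
    have htN : t ∈ normalizer (A : Set G) := by
      rw [mem_normalizer_iff_map_conj_eq]
      apply Subgroup.eq_of_le_of_card_ge
      · rintro _ ⟨a, ha, rfl⟩
        change t * a * t⁻¹ ∈ A
        rw [hc a ha, mul_inv_cancel_right]
        exact ha
      · rw [card_map_of_injective (K := A) (MulAut.conj t).injective]
    exact h.mem_of_pow (n := ⟨t, htN⟩) (h.cen ⟨t, htN⟩ hc) ht
  have hψ : ∀ t (ht : t ∈ (S : Subgroup G)), t ∉ A → ψ ⟨t, hSN ht⟩ ≠ 1 := by
    intro t ht htA h1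
    apply htA
    obtain ⟨k, hk⟩ := S.isPGroup' ⟨t, ht⟩
    exact h.mem_of_pow h1 ⟨k, by simpa only [_root_.SubmonoidClass.mk_pow, _root_.OneMemClass.coe_one] using congrArg (fun w : (S : Subgroup G) => (w : G)) hk⟩
  -- involutions of `S` outside `A` are conjugate
  have hout : ∀ t u, t ∈ (S : Subgroup G) → t ∉ A → orderOf t = 2 →
      u ∈ (S : Subgroup G) → u ∉ A → orderOf u = 2 → IsConj t u := by
    intro t u ht htA ht2 hu huA hu2
    have e1 : t * t = 1 := by rw [← pow_two, ← ht2, pow_orderOf_eq_one]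
    have e2 : u * u = 1 := by rw [← pow_two, ← hu2, pow_orderOf_eq_one]
    obtain ⟨n, hn⟩ := h.conj_invol (t := ⟨t, hSN ht⟩) (u := ⟨u, hSN hu⟩) (Subtype.ext e1)
      (Subtype.ext e2) (hψ t ht htA) (hψ u hu huA)
    exact isConj_iff.2 ⟨n, congrArg Subtype.val hn⟩
  -- every involution is conjugate to an element of `S`
  have hsyl : ∀ x : G, orderOf x = 2 → ∃ y ∈ (S : Subgroup G), orderOf y = 2 ∧ IsConj y x := by
    intro x hx
    have h4 : IsPGroup 2 (zpowers x) :=
      GoldTransfer.isPGroup_zpowers ⟨1, by rw [pow_one, ← hx, pow_orderOf_eq_one]⟩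
    obtain ⟨T, hT⟩ := h4.exists_le_sylow
    obtain ⟨g, hg⟩ := MulAction.exists_smul_eq G T S
    refine ⟨g * x * g⁻¹, ?_, ?_, ?_⟩
    · rw [← hg]
      exact ⟨x, hT (mem_zpowers x), rfl⟩
    · rw [orderOf_conj_eq, hx]
    · exact (isConj_iff.2 ⟨g, rfl⟩).symm
  have horder : ∀ a ∈ A, a ≠ 1 → orderOf a = 2 := fun a ha ha1 =>
    orderOf_eq_prime (by rw [pow_two]; exact h.exp a ha) ha1
  have hne1 : ∀ x : G, orderOf x = 2 → x ≠ 1 := by
    rintro x hx rfl
    rw [orderOf_one] at hx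
    norm_num at hx
  -- strong closure in `S`
  have hscS : Cfsg.IsStronglyClosed A (S : Subgroup G) := by
    refine ⟨hAS, ?_⟩
    intro x hx g hg
    by_cases hx1 : x = 1
    · rw [hx1]; simp
    by_contra hcon
    refine not_two h3 a₁ a₂ ?_
    have hx2 := horder x hx hx1
    have hy2 : orderOf (g * x * g⁻¹) = 2 := by rw [orderOf_conj_eq, hx2]
    have hxc : IsConj x (g * x * g⁻¹) := isConj_iff.2 ⟨g, rfl⟩
    intro y hy
    obtain ⟨z, hz, hz2, hzy⟩ := hsyl y hy
    by_cases hzA : z ∈ A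
    · rcases horb z hzA (hne1 z hz2) with h4 | h4
      · left; exact (isConj_of_orb h4).trans hzy
      · right; exact (isConj_of_orb h4).trans hzy
    · have h4 := hout _ z hg hcon hy2 hz hzA hz2
      rcases horb x hx hx1 with h5 | h5
      · left; exact (((isConj_of_orb h5).trans hxc).trans h4).trans hzy
      · right; exact (((isConj_of_orb h5).trans hxc).trans h4).trans hzy
  refine ⟨h.comm, h.exp, h.card, hcent, ?_, ?_, ?_, ?_, ?_⟩
  · -- sc
    intro Q hQ hAQ x hx g hg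
    obtain ⟨T, hT⟩ := hQ.exists_le_sylow
    have h4 := Cfsg.Agent.S1249.result S T A (hAQ.trans hT) hscS
    exact h4.2 x hx g (hT hg)
  · -- irr
    intro B hB hinv
    obtain ⟨x, hx5, hx⟩ := exists_five h
    exact h.irr hx5 hx hB (fun b hb => hinv _ x.2 b hb)
  · -- idx
    intro X hX hc hlt
    have hker : ψ.ker ≤ X.subgroupOf (normalizer (A : Set G)) := by
      intro n hn
      exact hc n n.2 fun a ha => h.cen' hn ha
    have h4 : ((X.subgroupOf (normalizer (A : Set G))).map ψ).index < 5 := by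
      rw [index_map_eq _ h.surj hker]
      exact hlt
    have h5 := AltFive.eq_top_of_index h4
    have h6 := comap_map_eq_self hker
    rw [h5, comap_top] at h6
    exact subgroupOf_eq_top.1 h6.symm
  · -- odd
    intro Y hY hinv htwo y hy a ha
    have hn : (Y.subgroupOf (normalizer (A : Set G))).Normal := by
      refine ⟨fun n hn g => ?_⟩
      exact hinv g g.2 n hn
    have hs : IsSimpleGroup (alternatingGroup (Fin 5)) := inferInstance
    rcases (hn.map ψ h.surj).eq_bot_or_eq_top with h4 | h4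
    · have h5 : ψ ⟨y, hY hy⟩ ∈ (Y.subgroupOf (normalizer (A : Set G))).map ψ := ⟨_, hy, rfl⟩
      rw [h4, mem_bot] at h5
      exact h.cen' h5 ha
    · exfalso
      have h5 : ∃ s : alternatingGroup (Fin 5), orderOf s = 2 := by
        apply exists_prime_orderOf_dvd_card'
        rw [AltFive.card_A5]; norm_num
      obtain ⟨s, hs2⟩ := h5
      have h6 : s ∈ (Y.subgroupOf (normalizer (A : Set G))).map ψ := by rw [h4]; exact mem_top s
      obtain ⟨z, hz, rfl⟩ := h6
      obtain ⟨k, m, hm, hkm⟩ := Nat.exists_eq_two_pow_mul_odd (orderOf_pos z).ne'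
      have h7 : (z ^ m) ^ 2 ^ k = 1 := by
        rw [← pow_mul, mul_comm, ← hkm, pow_orderOf_eq_one]
      have h8 : ((z ^ m : normalizer (A : Set G)) : G) ∈ A := by
        refine htwo _ ?_ ⟨k, congrArg Subtype.val h7⟩
        exact (Y.subgroupOf (normalizer (A : Set G))).pow_mem hz m
      have h9 : ψ (z ^ m) = 1 := (h.ker _).2 ⟨_, h8, 1, O.one_mem, by rw [mul_one]⟩
      rw [map_pow] at h9
      have h10 : orderOf (ψ z) ∣ m := orderOf_dvd_of_pow_eq_one h9
      rw [hs2] at h10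
      exact (Nat.not_even_iff_odd.2 hm) (even_iff_two_dvd.2 h10)
  · -- two
    refine ⟨a₁, ha₁, a₂, ha₂, h₁, h₂, ?_⟩
    intro g hg
    have h12 : IsConj a₁ a₂ := isConj_iff.2 ⟨g, hg⟩
    by_cases hex : ∃ u ∈ (S : Subgroup G), u ∉ A ∧ orderOf u = 2
    · obtain ⟨u, hu, huA, hu2⟩ := hex
      refine not_two h3 a₁ u ?_
      intro y hy
      obtain ⟨z, hz, hz2, hzy⟩ := hsyl y hy
      by_cases hzA : z ∈ A
      · rcases horb z hzA (hne1 z hz2) with h4 | h4
        · left; exact (isConj_of_orb h4).trans hzy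
        · left; exact (h12.trans (isConj_of_orb h4)).trans hzy
      · right; exact (hout u z hu huA hu2 hz hzA hz2).trans hzy
    · push Not at hex
      refine not_two h3 a₁ a₁ ?_
      intro y hy
      obtain ⟨z, hz, hz2, hzy⟩ := hsyl y hy
      have hzA : z ∈ A := by
        by_contra hzA
        exact hex z hz hzA hz2
      rcases horb z hzA (hne1 z hz2) with h4 | h4
      · left; exact (isConj_of_orb h4).trans hzy
      · left; exact (h12.trans (isConj_of_orb h4)).trans hzy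

end Cfsg.Agent.H308.A5Fusion
end

-- part: H308/AltEight
section
/-!
# The centre of a Sylow 2-subgroup of `A₈` has order 2
-/

set_option autoImplicit false

namespace Cfsg.Agent.H308.AltEight

open Equiv Subgroup MulAction

theorem card_A8 : Nat.card (alternatingGroup (Fin 8)) = 20160 := by
  rw [nat_card_alternatingGroup, Nat.card_eq_fintype_card]; decide

theorem card_sylow (P : Sylow 2 (alternatingGroup (Fin 8))) : Nat.card P = 64 := by
  rw [P.card_eq_multiplicity, card_A8]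
  have : (20160 : ℕ) = 2 ^ 6 * 315 := by norm_num
  rw [this, Nat.factorization_mul (by norm_num) (by norm_num), Finsupp.add_apply,
    Nat.Prime.factorization_pow Nat.prime_two, Finsupp.single_eq_same,
    Nat.factorization_eq_zero_of_not_dvd (by norm_num)]
  rfl

/-- no subgroup of order at least 4 is centralized by a Sylow 2-subgroup of `A₈` -/
theorem center_small (P : Sylow 2 (alternatingGroup (Fin 8)))
    (Z : Subgroup (alternatingGroup (Fin 8)))
    (hZ : ∀ z ∈ Z, ∀ x ∈ (P : Subgroup (alternatingGroup (Fin 8))), x * z = z * x) :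
    Nat.card Z < 4 := by
  classical
  by_contra hcon
  push Not at hcon
  have htr : IsPretransitive (alternatingGroup (Fin 8)) (Fin 8) :=
    alternatingGroup.isPretransitive_of_three_le_card (Fin 8) (by simp)
  -- the point stabilizer
  let S0 : Subgroup (alternatingGroup (Fin 8)) := stabilizer (alternatingGroup (Fin 8)) (0 : Fin 8)
  have hS0i : S0.index = 8 := by
    rw [index_stabilizer_of_transitive]; simp
  have hS0 : Nat.card S0 = 2520 := by
    have h1 := S0.card_mul_index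
    rw [hS0i, card_A8] at h1
    omega
  set Q : Subgroup (alternatingGroup (Fin 8)) := (P : Subgroup (alternatingGroup (Fin 8))) with hQ
  have hQc : Nat.card Q = 64 := card_sylow P
  have hPa : Nat.card (stabilizer Q (0 : Fin 8)) ∣ 8 := by
    have h1 : Nat.card (stabilizer Q (0 : Fin 8)) ∣ 64 := by
      rw [← hQc]; exact card_subgroup_dvd_card _
    have h2 : Nat.card (stabilizer Q (0 : Fin 8)) ∣ 2520 := by
      rw [← hS0]
      let f : stabilizer Q (0 : Fin 8) →* S0 :=
        (Q.subtype.comp (stabilizer Q (0 : Fin 8)).subtype).codRestrict S0 (fun x => x.2)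
      have hf : Function.Injective f := by
        intro x y hxy
        apply Subtype.ext
        apply Subtype.ext
        exact congrArg (fun w : S0 => (w : alternatingGroup (Fin 8))) hxy
      exact Subgroup.card_dvd_of_injective f hf
    have h3 := Nat.dvd_gcd h1 h2
    have h4 : Nat.gcd 64 2520 = 8 := by norm_num
    rwa [h4] at h3
  -- `P` is transitive
  have horb : orbit Q (0 : Fin 8) = Set.univ := by
    have h1 := (stabilizer Q (0 : Fin 8)).card_mul_index
    rw [index_stabilizer, hQc] at h1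
    obtain ⟨k, hk⟩ := hPa
    have h2 : (orbit Q (0 : Fin 8)).ncard = 8 * k := by
      have h3 : 0 < Nat.card (stabilizer Q (0 : Fin 8)) := Nat.card_pos
      have h4 : Nat.card (stabilizer Q (0 : Fin 8)) * (orbit Q (0 : Fin 8)).ncard =
          Nat.card (stabilizer Q (0 : Fin 8)) * (8 * k) := by
        rw [h1]
        calc 64 = 8 * 8 := by norm_num
          _ = 8 * (Nat.card (stabilizer Q (0 : Fin 8)) * k) := by rw [← hk]
          _ = _ := by ring
      exact Nat.eq_of_mul_eq_mul_left h3 h4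
    have h3 : (orbit Q (0 : Fin 8)).ncard ≤ 8 := by
      have := Set.ncard_le_card (orbit Q (0 : Fin 8))
      simpa using this
    have h4 : 0 < k := by
      rcases Nat.eq_zero_or_pos k with h5 | h5
      · rw [h5] at hk; omega
      · exact h5
    refine Set.eq_of_subset_of_ncard_le (Set.subset_univ _) ?_
    rw [h2, Set.ncard_univ]
    simp only [_root_.Nat.card_eq_fintype_card, _root_.Fintype.card_fin, _root_.Nat.ofNat_pos, _root_.le_mul_iff_one_le_right]
    omega
  have hP8 : Nat.card (stabilizer Q (0 : Fin 8)) = 8 := by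
    have h1 := (stabilizer Q (0 : Fin 8)).card_mul_index
    rw [index_stabilizer, hQc, horb, Set.ncard_univ] at h1
    simp only [_root_.Fin.isValue, _root_.MulAction.mem_stabilizer_iff, _root_.Nat.card_eq_fintype_card, _root_.Fintype.card_fin] at h1
    simp only [_root_.Fin.isValue, _root_.MulAction.mem_stabilizer_iff, _root_.Nat.card_eq_fintype_card]
    omega
  have htrans : ∀ b : Fin 8, ∃ x ∈ Q, (x : Perm (Fin 8)) 0 = b := by
    intro b
    have h1 : b ∈ orbit Q (0 : Fin 8) := by rw [horb]; trivial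
    obtain ⟨x, hx⟩ := h1
    exact ⟨x, x.2, hx⟩
  have hcomm : ∀ z ∈ Z, ∀ x ∈ Q, ∀ b : Fin 8, (x : Perm (Fin 8)) ((z : Perm (Fin 8)) b) =
      (z : Perm (Fin 8)) ((x : Perm (Fin 8)) b) := by
    intro z hz x hx b
    have h1 := hZ z hz x hx
    have h2 : ((x * z : alternatingGroup (Fin 8)) : Perm (Fin 8)) = (z * x : alternatingGroup (Fin 8)) := by
      rw [h1]
    exact congrArg (fun w : Perm (Fin 8) => w b) h2
  -- `Z` is semiregular
  have hsemi : ∀ z ∈ Z, ∀ b : Fin 8, (z : Perm (Fin 8)) b = b → z = 1 := by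
    intro z hz b hb
    have h0 : (z : Perm (Fin 8)) 0 = 0 := by
      obtain ⟨x, hx, hxb⟩ := htrans b
      have h1 := hcomm z hz x hx 0
      rw [hxb, hb] at h1
      have h2 : (x : Perm (Fin 8)) ((z : Perm (Fin 8)) 0) = (x : Perm (Fin 8)) 0 := by
        rw [h1, hxb]
      exact (x : Perm (Fin 8)).injective h2
    apply Subtype.ext
    apply Equiv.ext
    intro c
    obtain ⟨x, hx, hxc⟩ := htrans c
    have h1 := hcomm z hz x hx 0
    rw [h0, hxc] at h1
    exact h1.symm
  let O : Fin 8 → Set (Fin 8) := fun b => Set.range (fun z : Z => ((z : alternatingGroup (Fin 8)) : Perm (Fin 8)) b)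
  have hOc : ∀ b, (O b).ncard = Nat.card Z := by
    intro b
    have h1 : Function.Injective (fun z : Z => ((z : alternatingGroup (Fin 8)) : Perm (Fin 8)) b) := by
      intro z w hzw
      have h2 : ((z : alternatingGroup (Fin 8)) : Perm (Fin 8)) b =
        ((w : alternatingGroup (Fin 8)) : Perm (Fin 8)) b := hzw
      have h3 : (((w⁻¹ * z : Z) : alternatingGroup (Fin 8)) : Perm (Fin 8)) b = b := by
        show (((w : alternatingGroup (Fin 8)) : Perm (Fin 8))⁻¹ *
          ((z : alternatingGroup (Fin 8)) : Perm (Fin 8))) b = b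
        rw [Perm.mul_apply, h2]; exact Equiv.symm_apply_apply _ _
      have h4 := hsemi _ (w⁻¹ * z).2 b h3
      have h5 : w⁻¹ * z = 1 := Subtype.ext h4
      exact (inv_mul_eq_one.1 h5).symm
    rw [← Nat.card_coe_set_eq]
    exact (Nat.card_congr (Equiv.ofInjective _ h1)).symm
  have hfix : ∀ b c, c ∈ O b → ∀ x ∈ Q, (x : Perm (Fin 8)) b = b → (x : Perm (Fin 8)) c = c := by
    rintro b _ ⟨z, rfl⟩ x hx hb
    have h1 := hcomm z z.2 x hx b
    rw [hb] at h1
    exact h1
  have hO0 : ∀ b, b ∈ O b := fun b => ⟨1, rfl⟩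
  have hdisj : ∀ b, b ∉ O 0 → ∀ c, c ∈ O b → c ∉ O 0 := by
    rintro b hb _ ⟨z, rfl⟩ ⟨w, hw⟩
    apply hb
    refine ⟨z⁻¹ * w, ?_⟩
    have h1 : ((w : alternatingGroup (Fin 8)) : Perm (Fin 8)) 0 =
      ((z : alternatingGroup (Fin 8)) : Perm (Fin 8)) b := hw
    show (((z : alternatingGroup (Fin 8)) : Perm (Fin 8))⁻¹ *
          ((w : alternatingGroup (Fin 8)) : Perm (Fin 8))) 0 = b
    rw [Perm.mul_apply, h1]; exact Equiv.symm_apply_apply _ _
  -- the point stabilizer of `P` acts semiregularly outside `O 0`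
  have hcov : ∀ b, b ∉ O 0 → ∀ c, c ∈ O 0 ∨ c ∈ O b := by
    intro b hb
    have h1 : Disjoint (O 0) (O b) := by
      rw [Set.disjoint_left]
      intro c h0 hc
      exact hdisj b hb c hc h0
    have h2 : (O 0 ∪ O b).ncard = Nat.card Z + Nat.card Z := by
      rw [Set.ncard_union_eq h1, hOc, hOc]
    have h3 : (O 0 ∪ O b).ncard ≤ 8 := by
      have := Set.ncard_le_card (O 0 ∪ O b)
      simpa using this
    have h4 : O 0 ∪ O b = Set.univ := by
      refine Set.eq_of_subset_of_ncard_le (Set.subset_univ _) ?_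
      rw [h2, Set.ncard_univ]
      have h5 : Nat.card (Fin 8) = 8 := by simp
      omega
    intro c
    have h5 : c ∈ O 0 ∪ O b := by rw [h4]; trivial
    exact h5
  have hx1 : ∀ x ∈ Q, (x : Perm (Fin 8)) 0 = 0 → ∀ b, b ∉ O 0 → (x : Perm (Fin 8)) b = b → x = 1 := by
    intro x hx h0 b hb hxb
    apply Subtype.ext
    apply Equiv.ext
    intro c
    rcases hcov b hb c with h1 | h1
    · exact hfix 0 c h1 x hx h0
    · exact hfix b c h1 x hx hxb
  have hex : ∃ b, b ∉ O 0 := by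
    by_contra hall
    push Not at hall
    have h1 : Nat.card (stabilizer Q (0 : Fin 8)) = 1 := by
      rw [Subgroup.card_eq_one, eq_bot_iff]
      rintro ⟨x, hx⟩ hx0
      rw [mem_bot]
      apply Subtype.ext
      apply Subtype.ext
      apply Equiv.ext
      intro c
      exact hfix 0 c (hall c) x hx hx0
    rw [hP8] at h1
    norm_num at h1
  obtain ⟨b, hb⟩ := hex
  have hle : Nat.card (stabilizer Q (0 : Fin 8)) ≤ ((O 0)ᶜ).ncard := by
    let f : stabilizer Q (0 : Fin 8) → ((O 0)ᶜ : Set (Fin 8)) := fun x =>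
      ⟨((x : Q) : alternatingGroup (Fin 8)) • b, by
        intro h1
        apply hb
        have h2 : ((x : Q) : alternatingGroup (Fin 8))⁻¹ ∈ Q := Q.inv_mem (x : Q).2
        have h3 : (((x : Q) : alternatingGroup (Fin 8))⁻¹ : alternatingGroup (Fin 8)) • (0 : Fin 8) = 0 := by
          rw [inv_smul_eq_iff]
          exact (show (x : Q) • (0 : Fin 8) = 0 from x.2).symm
        have h4 := hfix 0 _ h1 _ h2 h3
        have h5 : (((x : Q) : alternatingGroup (Fin 8))⁻¹ : alternatingGroup (Fin 8)) •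
          (((x : Q) : alternatingGroup (Fin 8)) • b) = ((x : Q) : alternatingGroup (Fin 8)) • b := h4
        rw [inv_smul_smul] at h5
        rw [h5]; exact h1⟩
    have hf : Function.Injective f := by
      intro x y hxy
      have h1 : ((x : Q) : alternatingGroup (Fin 8)) • b = ((y : Q) : alternatingGroup (Fin 8)) • b :=
        congrArg Subtype.val hxy
      have h2 : (((y⁻¹ * x : stabilizer Q (0 : Fin 8)) : Q) : alternatingGroup (Fin 8)) • b = b := by
        show ((((y : Q) : alternatingGroup (Fin 8)))⁻¹ * ((x : Q) : alternatingGroup (Fin 8))) • b = b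
        rw [mul_smul, h1, inv_smul_smul]
      have h3 := hx1 _ ((y⁻¹ * x : stabilizer Q (0 : Fin 8)) : Q).2 (y⁻¹ * x).2 b hb h2
      have h4 : y⁻¹ * x = 1 := Subtype.ext (Subtype.ext h3)
      exact (inv_mul_eq_one.1 h4).symm
    rw [← Nat.card_coe_set_eq]
    exact Nat.card_le_card_of_injective f hf
  have h1 := Set.ncard_add_ncard_compl (O 0)
  rw [hOc] at h1
  have h2 : Nat.card (Fin 8) = 8 := by simp
  omega

end Cfsg.Agent.H308.AltEight
end

-- part: H308/GoldCore
section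
/-!
# The core-free case
-/

set_option autoImplicit false
set_option linter.style.haveILetI false

namespace Cfsg.Agent.H308.GoldCore

open Subgroup Cfsg Cfsg.Agent.H308.GoldHyp Cfsg.Agent.Lib

variable {G : Type*} [Group G]

/-- distinct members of `minSet K` meet trivially -/
theorem inf_eq_bot_of_ne {K L M : Subgroup G} (hL : L ∈ MinNormalNonabelian.minSet K)
    (hM : M ∈ MinNormalNonabelian.minSet K) (h : L ≠ M) : L ⊓ M = ⊥ := by
  obtain ⟨h1, h2, h3, h4⟩ := hL
  obtain ⟨k1, k2, k3, k4⟩ := hM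
  rcases h4 (L ⊓ M) inf_le_left (MinNormal.le_normalizer_inf h3 k3) with h5 | h5
  · exact h5
  · exfalso
    have h6 : L ≤ M := inf_eq_left.1 h5
    rcases k4 L h6 h3 with h7 | h7
    · exact h2 h7
    · exact h h7

/-- The number of members of an independent family of subgroups meeting `A` nontrivially. -/
theorem two_pow_le {ι : Type*} [Finite ι] [Finite G] {A : Subgroup G}
    (hc : ∀ a ∈ A, ∀ b ∈ A, a * b = b * a) (L : ι → Subgroup G) (hL : iSupIndep L)
    (hne : ∀ i, A ⊓ L i ≠ ⊥) : 2 ^ Nat.card ι ≤ Nat.card A := by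
  classical
  haveI := Fintype.ofFinite ι
  have hind : iSupIndep (fun i => A ⊓ L i) := hL.mono fun i => inf_le_right
  have hcomm : Pairwise fun i j => ∀ x y : G, x ∈ A ⊓ L i → y ∈ A ⊓ L j → Commute x y := by
    intro i j _ x y hx hy
    exact hc x hx.1 y hy.1
  have hinj := injective_noncommPiCoprod_of_iSupIndep (hcomm := hcomm) hind
  have hr : ∀ f, noncommPiCoprod hcomm f ∈ A := by
    intro f
    have h1 : (noncommPiCoprod hcomm).range ≤ A := by
      rw [noncommPiCoprod_range]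
      exact iSup_le fun i => inf_le_left
    exact h1 ⟨f, rfl⟩
  let g : ((i : ι) → (A ⊓ L i : Subgroup G)) → A := fun f => ⟨noncommPiCoprod hcomm f, hr f⟩
  have hg : Function.Injective g := by
    intro x y hxy
    exact hinj (congrArg Subtype.val hxy)
  have h1 := Nat.card_le_card_of_injective g hg
  rw [Nat.card_pi] at h1
  refine le_trans ?_ h1
  rw [Nat.card_eq_fintype_card, ← Finset.card_univ, ← Finset.prod_const]
  refine Finset.prod_le_prod' fun i _ => ?_
  have h2 : Nat.card (A ⊓ L i : Subgroup G) ≠ 1 := fun h3 => hne i (card_eq_one.1 h3)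
  have h3 : 0 < Nat.card (A ⊓ L i : Subgroup G) := Nat.card_pos
  omega

/-- `A` is contained in a component normalized by `N(A)`. -/
theorem exists_component [Finite G] {A K : Subgroup G} (h : Hyp A) (hO : pPrimeCore 2 G = ⊥)
    (hK : K.Normal) (hne : (MinNormalNonabelian.minSet K).Nonempty)
    (hind : sSupIndep (MinNormalNonabelian.minSet K)) (hAK : A ≤ K) :
    ∃ L ∈ MinNormalNonabelian.minSet K, A ≤ L ∧
      ∀ n ∈ normalizer (A : Set G), n ∈ normalizer (L : Set G) := by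
  have hmeet : ∀ L ∈ MinNormalNonabelian.minSet K, A ⊓ L ≠ ⊥ := by
    intro L hL hbot
    have hodd := odd_of_inf_eq_bot h.isPGroup h.cent h.sc (L := L) (by
      intro a ha l hl
      exact (mem_normalizer_iff.1 (hL.2.2.1 (hAK ha)) l).1 hl) hbot
    have h1 : (L.subgroupOf K).Normal := normal_subgroupOf_iff_le_normalizer hL.1 |>.2 hL.2.2.1
    have h2 : L.subgroupOf K ≤ pPrimeCore 2 K := by
      refine Cores.le_pPrimeCore h1 ?_
      rw [Nat.card_congr (subgroupOfEquivOfLe hL.1).toEquiv]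
      rw [Nat.coprime_comm, Nat.Prime.coprime_iff_not_dvd Nat.prime_two]
      exact hodd
    have h3 := Subgroup.map_mono (f := K.subtype) h2
    rw [Cores.map_subtype_pPrimeCore 2 hK, subgroupOf_map_subtype, inf_eq_left.2 hL.1] at h3
    have h4 : pPrimeCore 2 G = ⊥ := hO
    rw [h4, inf_bot_eq] at h3
    exact hL.2.1 (le_bot_iff.1 h3)
  have hcard : Nat.card (MinNormalNonabelian.minSet K) < 5 := by
    have h1 := two_pow_le h.comm (fun L : MinNormalNonabelian.minSet K => (L : Subgroup G))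
      ((sSupIndep_iff _).1 hind) (fun L => hmeet L L.2)
    rw [h.card] at h1
    by_contra hcon
    push Not at hcon
    have h2 : 2 ^ 5 ≤ 2 ^ Nat.card (MinNormalNonabelian.minSet K) :=
      Nat.pow_le_pow_right (by norm_num) hcon
    have h3 := h2.trans h1
    norm_num at h3
  obtain ⟨L, hL⟩ := hne
  have hX : ∀ n ∈ normalizer (A : Set G), n ∈ normalizer (L : Set G) := by
    have h1 := h.idx (normalizer (A : Set G) ⊓ normalizer (L : Set G)) inf_le_left (by
      intro n hn hc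
      refine ⟨hn, ?_⟩
      change n ∈ normalizer (L : Set G)
      rw [mem_normalizer_iff_map_conj_eq]
      by_contra hcon
      have h2 := inf_eq_bot_of_ne (MinNormalNonabelian.map_conj_mem_minSet hL n) hL hcon
      apply hmeet L hL
      rw [eq_bot_iff, ← h2]
      rintro x ⟨hxA, hxL⟩
      refine ⟨⟨x, hxL, ?_⟩, hxL⟩
      simp only [MulEquiv.toMonoidHom_eq_coe, MonoidHom.coe_coe, MulAut.conj_apply]
      rw [hc x hxA, mul_inv_cancel_right]) (by
      refine lt_of_le_of_lt ?_ hcard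
      let f : (normalizer (A : Set G)) ⧸ (normalizer (A : Set G) ⊓ normalizer (L : Set G)).subgroupOf
          (normalizer (A : Set G)) → MinNormalNonabelian.minSet K := fun q =>
        ⟨L.map (MulAut.conj ((Quotient.out q : normalizer (A : Set G)) : G)).toMonoidHom,
          MinNormalNonabelian.map_conj_mem_minSet hL _⟩
      refine Nat.card_le_card_of_injective f ?_
      intro q r hqr
      have h3 := congrArg Subtype.val hqr
      change L.map (MulAut.conj ((Quotient.out q : normalizer (A : Set G)) : G)).toMonoidHom =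
        L.map (MulAut.conj ((Quotient.out r : normalizer (A : Set G)) : G)).toMonoidHom at h3
      have h4 : (((Quotient.out q : normalizer (A : Set G)) : G))⁻¹ *
          ((Quotient.out r : normalizer (A : Set G)) : G) ∈ normalizer (L : Set G) := by
        rw [mem_normalizer_iff_map_conj_eq]
        change L.map (MulAut.conj _).toMonoidHom = L
        rw [← MinNormal.map_conj_map_conj, ← h3,
          MinNormal.map_conj_map_conj, inv_mul_cancel, MinNormal.map_conj_one]
      rw [← QuotientGroup.out_eq' q, ← QuotientGroup.out_eq' r, QuotientGroup.eq]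
      rw [mem_subgroupOf]
      exact ⟨((Quotient.out q)⁻¹ * (Quotient.out r)).2, h4⟩)
    exact fun n hn => (h1 hn).2
  refine ⟨L, hL, ?_, hX⟩
  rcases h.irr (A ⊓ L) inf_le_left (by
    rintro n hn b ⟨hbA, hbL⟩
    exact ⟨(mem_normalizer_iff.1 hn b).1 hbA, (mem_normalizer_iff.1 (hX n hn) b).1 hbL⟩) with h1 | h1
  · exact absurd h1 (hmeet L hL)
  · exact inf_eq_left.1 h1

/-- Burnside's transfer theorem for a simple group. -/
theorem burnside {L : Type*} [Group L] [Finite L] [IsSimpleGroup L]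
    (T : Sylow 2 L) (hT : (T : Subgroup L) ≠ ⊥) (hna : ∃ x y : L, x * y ≠ y * x)
    (hN : (normalizer ((T : Subgroup L) : Set L)) ≤ centralizer ((T : Subgroup L) : Set L)) : False := by
  haveI : Fact (Nat.Prime 2) := ⟨Nat.prime_two⟩
  have h1 := MonoidHom.ker_transferSylow_isComplement' T hN
  rcases (inferInstance : (MonoidHom.transferSylow T hN).ker.Normal).eq_bot_or_eq_top with h2 | h2
  · rw [h2] at h1
    have h3 : (T : Subgroup L) = ⊤ := by
      have := h1.sup_eq_top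
      simpa only [_root_.bot_le, _root_.sup_of_le_right] using this
    obtain ⟨x, y, hxy⟩ := hna
    apply hxy
    have h4 : x ∈ normalizer ((T : Subgroup L) : Set L) := le_normalizer (h3 ▸ mem_top x)
    have h5 : y ∈ (T : Subgroup L) := h3 ▸ mem_top y
    exact ((mem_centralizer_iff.1 (hN h4)) y h5).symm
  · rw [h2] at h1
    exact hT (by
      have := h1.disjoint
      rw [disjoint_iff, top_inf_eq] at this
      exact this)

/-- **The core-free case**. -/
theorem normal_of_core_free [Finite G] {A : Subgroup G} (h : Hyp A) (hO : pPrimeCore 2 G = ⊥) :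
    A.Normal := by
  haveI : Fact (Nat.Prime 2) := ⟨Nat.prime_two⟩
  haveI : Nontrivial G := by
    by_contra hcon
    rw [not_nontrivial_iff_subsingleton] at hcon
    apply h.ne_bot
    exact Subsingleton.elim _ _
  -- a minimal normal subgroup
  have htop : (⊤ : Subgroup G) ≠ ⊥ := by
    intro h1
    exact h.ne_bot (le_bot_iff.1 (h1 ▸ le_top))
  obtain ⟨K, -, hK0, hKn, hKmin⟩ := MinNormal.exists_minimal_normal_le (⊤ : Subgroup G) htop
  haveI hK : K.Normal := normalizer_eq_top_iff.1 (top_le_iff.1 hKn)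
  have hmin : ∀ M : Subgroup G, M.Normal → M ≤ K → M = ⊥ ∨ M = K := fun M hM hMK =>
    hKmin M hMK (by rw [normalizer_eq_top_iff.2 hM])
  have hAK : A ≤ K := by
    rcases h.irr (A ⊓ K) inf_le_left (by
      rintro n hn b ⟨hbA, hbK⟩
      exact ⟨(mem_normalizer_iff.1 hn b).1 hbA, hK.conj_mem b hbK n⟩) with h1 | h1
    · exfalso
      have hodd := odd_of_inf_eq_bot h.isPGroup h.cent h.sc (L := K) (by
        intro a ha l hl
        exact hK.conj_mem l hl a) h1
      have h2 : K ≤ pPrimeCore 2 G := by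
        refine Cores.le_pPrimeCore hK ?_
        rw [Nat.coprime_comm, Nat.Prime.coprime_iff_not_dvd Nat.prime_two]
        exact hodd
      have h4 : pPrimeCore 2 G = ⊥ := hO
      rw [h4] at h2
      exact hK0 (le_bot_iff.1 h2)
    · exact inf_eq_left.1 h1
  by_cases hab : ∀ x ∈ K, ∀ y ∈ K, Commute x y
  · obtain ⟨p, hp, hpK, -⟩ := MinNormalNonabelian.abelian_structure K hK0 hmin hab
    obtain ⟨a, ha, -, -, ha1, -⟩ := h.two
    obtain ⟨k, hk⟩ := hpK ⟨a, hAK ha⟩
    have hk' : a ^ p ^ k = 1 := by simpa only [_root_.SubmonoidClass.mk_pow, _root_.OneMemClass.coe_one] using congrArg (fun w : K => (w : G)) hk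
    have h1 : orderOf a ∣ p ^ k := orderOf_dvd_of_pow_eq_one hk'
    have h2 : orderOf a = 2 := orderOf_eq_prime (by rw [pow_two]; exact h.exp a ha) ha1
    rw [h2] at h1
    have h3 : 2 = p := (Nat.prime_dvd_prime_iff_eq Nat.prime_two hp).1 (Nat.prime_two.dvd_of_dvd_pow h1)
    subst h3
    have h4 : K ≤ A := by
      intro x hx
      obtain ⟨m, hm⟩ := hpK ⟨x, hx⟩
      have hm' : x ^ 2 ^ m = 1 := by simpa only [_root_.SubmonoidClass.mk_pow, _root_.OneMemClass.coe_one] using congrArg (fun w : K => (w : G)) hm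
      exact h.cent x ⟨m, hm'⟩ fun b hb => hab x hx b (hAK hb)
    rw [le_antisymm hAK h4]
    exact hK
  · exfalso
    obtain ⟨hne, hind, -, hsimple, hcent, -⟩ := MinNormalNonabelian.nonabelian_structure K hmin hab
    obtain ⟨L, hL, hAL, hNL⟩ := exists_component h hO hK hne hind hAK
    haveI : IsSimpleGroup L := hsimple L hL
    have hA' : IsPGroup 2 (A.subgroupOf L) :=
      h.isPGroup.comap_of_injective L.subtype L.subtype_injective
    obtain ⟨T, hT⟩ := hA'.exists_le_sylow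
    have hTQ : IsPGroup 2 ((T : Subgroup L).map L.subtype) := T.isPGroup'.map _
    have hATQ : A ≤ (T : Subgroup L).map L.subtype := by
      intro a ha
      exact ⟨⟨a, hAL ha⟩, hT (show (⟨a, _⟩ : L) ∈ A.subgroupOf L from ha), rfl⟩
    have hsc : Cfsg.IsStronglyClosed (A.subgroupOf L) (T : Subgroup L) := by
      refine ⟨hT, ?_⟩
      intro x hx g hg
      rw [mem_subgroupOf] at hx ⊢
      exact h.sc _ hTQ hATQ x hx g ⟨_, hg, rfl⟩
    have hA0 : A.subgroupOf L ≠ ⊥ := by
      intro h1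
      apply h.ne_bot
      have := congrArg (Subgroup.map L.subtype) h1
      rwa [subgroupOf_map_subtype, inf_eq_left.2 hAL, Subgroup.map_bot] at this
    have hAc : IsMulCommutative (A.subgroupOf L) := by
      refine ⟨⟨?_⟩⟩
      rintro ⟨a, ha⟩ ⟨b, hb⟩
      exact Subtype.ext (Subtype.ext (h.comm a ha b hb))
    rcases Cfsg.Agent.S1169.result T (A.subgroupOf L) hA0 hAc hsc with h1 | ⟨H, hH⟩
    · -- abelian Sylow subgroups
      have hTA : ∀ t ∈ (T : Subgroup L), (t : G) ∈ A := by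
        intro t ht
        obtain ⟨k, hk⟩ := T.isPGroup' ⟨t, ht⟩
        have hk' : (t : G) ^ 2 ^ k = 1 := by
          simpa only [_root_.SubmonoidClass.mk_pow, _root_.SubmonoidClass.coe_pow, _root_.OneMemClass.coe_one] using congrArg (fun w : (T : Subgroup L) => ((w : L) : G)) hk
        refine h.cent t ⟨k, hk'⟩ ?_
        intro a ha
        have h2 : (⟨a, hAL ha⟩ : L) ∈ (T : Subgroup L) :=
          hT (show (⟨a, _⟩ : L) ∈ A.subgroupOf L from ha)
        have h3 := (h1.is_comm.comm (⟨t, ht⟩ : (T : Subgroup L)) ⟨⟨a, hAL ha⟩, h2⟩)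
        exact congrArg (fun w : (T : Subgroup L) => ((w : L) : G)) h3
      have hTeq : (T : Subgroup L) = A.subgroupOf L := le_antisymm (fun t ht => hTA t ht) hT
      have hY := h.odd (normalizer (A : Set G) ⊓ L) inf_le_left (by
        rintro n hn y ⟨hy, hyL⟩
        refine ⟨(normalizer (A : Set G)).mul_mem ((normalizer (A : Set G)).mul_mem hn hy)
          ((normalizer (A : Set G)).inv_mem hn), ?_⟩
        exact (mem_normalizer_iff.1 (hNL n hn) y).1 hyL) (by
        rintro y ⟨hy, hyL⟩ ⟨k, hk⟩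
        have h2 : IsPGroup 2 (zpowers (⟨y, hyL⟩ : L)) := by
          have h4 : (⟨y, hyL⟩ : L) ^ 2 ^ k = 1 := Subtype.ext (by simpa using hk)
          rintro ⟨w, hw⟩
          obtain ⟨i, rfl⟩ := mem_zpowers_iff.1 hw
          refine ⟨k, Subtype.ext ?_⟩
          change ((⟨y, hyL⟩ : L) ^ i) ^ 2 ^ k = 1
          rw [← zpow_natCast, ← zpow_mul, mul_comm, zpow_mul, zpow_natCast, h4, one_zpow]
        have h3 := IsPGroup.inf_normalizer_sylow h2 T
        have h4 : (⟨y, hyL⟩ : L) ∈ normalizer ((T : Subgroup L) : Set L) := by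
          rw [hTeq, mem_normalizer_iff]
          intro w
          exact mem_normalizer_iff.1 hy w
        have h5 : (⟨y, hyL⟩ : L) ∈ zpowers (⟨y, hyL⟩ : L) ⊓ (T : Subgroup L) := by
          rw [← h3]; exact ⟨mem_zpowers _, h4⟩
        exact hTA _ h5.2)
      refine burnside T (by rw [hTeq]; exact hA0) ?_ ?_
      · by_contra hcon
        push Not at hcon
        obtain ⟨a, ha, -, -, ha1, -⟩ := h.two
        apply ha1
        refine hcent L hL a (hAL ha) ?_
        intro t ht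
        exact congrArg (fun w : L => (w : G)) (hcon ⟨a, hAL ha⟩ ⟨t, ht⟩)
      · intro x hx
        rw [mem_centralizer_iff]
        intro t ht
        have h2 : (x : G) ∈ normalizer (A : Set G) := by
          rw [mem_normalizer_iff_map_conj_eq]
          apply Subgroup.eq_of_le_of_card_ge
          · rintro _ ⟨a, ha, rfl⟩
            have h3 : (⟨a, hAL ha⟩ : L) ∈ (T : Subgroup L) :=
              hT (show (⟨a, _⟩ : L) ∈ A.subgroupOf L from ha)
            have h4 := (mem_normalizer_iff.1 hx _).1 h3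
            exact hTA _ h4
          · rw [card_map_of_injective (MulAut.conj (x : G)).injective]
        have h3 := hY x ⟨h2, x.2⟩ t (hTA t ht)
        exact Subtype.ext h3.symm
    · obtain ⟨a, ha, b, hb, ha1, hb1, hab'⟩ := h.two
      have h2 : ∀ c (hc : c ∈ A), c ≠ 1 → orderOf (⟨c, hAL hc⟩ : L) = 2 := by
        intro c hc hc1
        refine orderOf_eq_prime ?_ ?_
        · exact Subtype.ext (by simpa only [pow_two, _root_.MulMemClass.mk_mul_mk, _root_.OneMemClass.coe_one] using h.exp c hc)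
        · intro h3
          exact hc1 (congrArg Subtype.val h3)
      have h3 := TwoFusion.StronglyEmbeddedBasic.isConj_of_involutions hH ⟨a, hAL ha⟩ ⟨b, hAL hb⟩
        (h2 a ha ha1) (h2 b hb hb1)
      obtain ⟨g, hg⟩ := isConj_iff.1 h3
      exact hab' g (congrArg Subtype.val hg)

end Cfsg.Agent.H308.GoldCore
end

-- part: S3197
section
set_option autoImplicit false
open Cfsg

namespace Cfsg.Agent.S3197

open Subgroup Cfsg.Agent.H308

/-- Let G be a finite group whose Sylow 2-subgroups are isomorphic to those of the alternating group of degree 8, with exactly three conjugacy classes of involutions, and containing an elementary abelian subgroup A of order 16 whose normalizer N satisfies: A·O(N) is normal in N with quotient N/(A·O(N)) isomorphic to the alternating group of degree 5, O(N) being the largest normal subgroup of odd order of N. Then A·O(G) is a normal subgroup of G. -/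
theorem result {G : Type*} [Group G] [Finite G]
    (S : Sylow 2 G) (P : Sylow 2 ↥(alternatingGroup (Fin 8)))
    (hS : Nonempty (↥(S : Subgroup G) ≃* ↥(P : Subgroup ↥(alternatingGroup (Fin 8)))))
    (h3 : Nat.card {c : ConjClasses G // ∃ x ∈ c.carrier, orderOf x = 2} = 3)
    (A : Subgroup G) (hA : Cfsg.IsElementaryAbelian 2 A) (hA16 : Nat.card ↥A = 16)
    (N : Subgroup G) (hN : N = Subgroup.normalizer (A : Set G))
    (hNA : ∃ (_ : (A.subgroupOf N ⊔ Cfsg.oddCore ↥N).Normal),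
      Nonempty (↥N ⧸ (A.subgroupOf N ⊔ Cfsg.oddCore ↥N) ≃* ↥(alternatingGroup (Fin 5)))) :
    (A ⊔ Cfsg.oddCore G).Normal := by
  classical
  haveI : Fact (Nat.Prime 2) := ⟨Nat.prime_two⟩
  subst hN
  obtain ⟨hMn, ⟨e⟩⟩ := hNA
  set M : Subgroup (normalizer (A : Set G)) :=
    A.subgroupOf (normalizer (A : Set G)) ⊔ Cfsg.oddCore ↥(normalizer (A : Set G)) with hM
  let ψ : normalizer (A : Set G) →* alternatingGroup (Fin 5) :=
    e.toMonoidHom.comp (QuotientGroup.mk' M)
  have hψs : Function.Surjective ψ := e.surjective.comp (QuotientGroup.mk'_surjective M)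
  have hψk : ∀ n, ψ n = 1 ↔ n ∈ M := by
    intro n
    change e (QuotientGroup.mk' M n) = 1 ↔ _
    rw [MulEquiv.map_eq_one_iff]
    exact QuotientGroup.eq_one_iff n
  have hcomm : ∀ a ∈ A, ∀ b ∈ A, a * b = b * a := fun a ha b hb =>
    congrArg Subtype.val (hA.1.is_comm.comm (⟨a, ha⟩ : A) ⟨b, hb⟩)
  have hexp : ∀ a ∈ A, a * a = 1 := fun a ha => by rw [← pow_two]; exact hA.2 a ha
  have hAn : (A.subgroupOf (normalizer (A : Set G))).Normal :=
    (normal_subgroupOf_iff_le_normalizer le_normalizer).2 le_rfl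
  have hOn : (Cfsg.oddCore ↥(normalizer (A : Set G))).Normal := Lib.Cores.pPrimeCore_normal 2
  have hOodd : (Nat.card (Cfsg.oddCore ↥(normalizer (A : Set G)))).Coprime 2 :=
    Lib.Cores.pPrimeCore_coprime 2
  let O : Subgroup G := (Cfsg.oddCore ↥(normalizer (A : Set G))).map (normalizer (A : Set G)).subtype
  have hOodd' : (Nat.card O).Coprime 2 := by
    rw [card_map_of_injective (normalizer (A : Set G)).subtype_injective]
    exact hOodd
  have hker : ∀ n : normalizer (A : Set G), ψ n = 1 ↔ ∃ a ∈ A, ∃ o ∈ O, (n : G) = a * o := by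
    intro n
    rw [hψk, hM, ← SetLike.mem_coe, mul_normal, Set.mem_mul]
    constructor
    · rintro ⟨a, ha, o, ho, rfl⟩
      exact ⟨a, ha, o, ⟨o, ho, rfl⟩, rfl⟩
    · rintro ⟨a, ha, _, ⟨o, ho, rfl⟩, hao⟩
      exact ⟨⟨a, le_normalizer ha⟩, ha, o, ho, Subtype.ext hao.symm⟩
  -- the Sylow 2-subgroup
  have hPc : Nat.card (P : Subgroup (alternatingGroup (Fin 8))) = 64 := AltEight.card_sylow P
  obtain ⟨φ⟩ := hS
  have hSc : Nat.card (S : Subgroup G) = 64 := by rw [Nat.card_congr φ.toEquiv, hPc]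
  have hA2 : IsPGroup 2 A := by
    intro a
    refine ⟨1, Subtype.ext ?_⟩
    have := hexp a a.2
    rw [← pow_two] at this
    simpa only [_root_.pow_one, _root_.SubmonoidClass.coe_pow, _root_.OneMemClass.coe_one] using this
  have hA2' : IsPGroup 2 (A.subgroupOf (normalizer (A : Set G))) :=
    hA2.comap_of_injective (normalizer (A : Set G)).subtype (normalizer (A : Set G)).subtype_injective
  obtain ⟨R, hR⟩ := hA2'.exists_le_sylow
  have h64 : 64 ∣ Nat.card (R : Subgroup (normalizer (A : Set G))) := by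
    have h1 : Nat.card (normalizer (A : Set G)) = 60 * Nat.card M := by
      rw [card_eq_card_quotient_mul_card_subgroup M, Nat.card_congr e.toEquiv, AltFive.card_A5]
    have h2 : 16 ∣ Nat.card M := by
      have h3 : Nat.card (A.subgroupOf (normalizer (A : Set G))) = 16 := by
        rw [Nat.card_congr (subgroupOfEquivOfLe le_normalizer).toEquiv, hA16]
      rw [← h3]
      exact card_dvd_of_le le_sup_left
    have h4 : 2 ^ 6 ∣ Nat.card (normalizer (A : Set G)) := by
      rw [h1]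
      obtain ⟨k, hk⟩ := h2
      rw [hk]
      exact ⟨15 * k, by ring⟩
    exact R.pow_dvd_card_of_pow_dvd_card h4
  obtain ⟨S', hS'⟩ := (R.isPGroup'.map (normalizer (A : Set G)).subtype).exists_le_sylow
  have hS'c : Nat.card (S' : Subgroup G) = 64 := by
    rw [← hSc]; exact Nat.card_congr (S'.equiv S).toEquiv
  have hRS' : (R : Subgroup (normalizer (A : Set G))).map (normalizer (A : Set G)).subtype = S' := by
    apply eq_of_le_of_card_ge hS'
    rw [hS'c, card_map_of_injective (normalizer (A : Set G)).subtype_injective]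
    exact Nat.le_of_dvd Nat.card_pos h64
  have hS'N : (S' : Subgroup G) ≤ normalizer (A : Set G) := by
    rw [← hRS']; exact map_subtype_le _
  have hAS' : A ≤ S' := by
    intro a ha
    rw [← hRS']
    exact ⟨⟨a, le_normalizer ha⟩, hR (show _ ∈ A.subgroupOf (normalizer (A : Set G)) from ha), rfl⟩
  let φ' : (S' : Subgroup G) ≃* P := (S'.equiv S).trans φ
  have hZ : ∀ Z : Subgroup G, Z ≤ A → (∀ z ∈ Z, ∀ s ∈ (S' : Subgroup G), s * z = z * s) →
      Nat.card Z < 4 := by
    intro Z hZA hZ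
    have hZS : Z ≤ S' := hZA.trans hAS'
    let f : (S' : Subgroup G) →* alternatingGroup (Fin 8) :=
      (P : Subgroup (alternatingGroup (Fin 8))).subtype.comp φ'.toMonoidHom
    have hf : Function.Injective f :=
      (P : Subgroup (alternatingGroup (Fin 8))).subtype_injective.comp φ'.injective
    have h1 := AltEight.center_small P ((Z.subgroupOf S').map f) (by
      rintro _ ⟨z, hz, rfl⟩ x hx
      obtain ⟨s, hs⟩ := φ'.surjective ⟨x, hx⟩
      have h2 : f s = x := congrArg Subtype.val hs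
      rw [← h2, ← map_mul, ← map_mul]
      congr 1
      exact Subtype.ext (hZ z hz s s.2))
    rwa [card_map_of_injective hf, Nat.card_congr (subgroupOfEquivOfLe hZS).toEquiv] at h1
  -- `M` centralizes `A`
  have hMc : ∀ n : normalizer (A : Set G), ψ n = 1 → ∀ a ∈ A, (n : G) * a = a * n := by
    intro n hn a ha
    obtain ⟨b, hb, _, ⟨o, ho, rfl⟩, hbo⟩ := (hker n).1 hn
    have h1 : o * ⟨a, le_normalizer ha⟩ * o⁻¹ * (⟨a, le_normalizer ha⟩ : normalizer (A : Set G))⁻¹ = 1 := by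
      have h2 : o * ⟨a, le_normalizer ha⟩ * o⁻¹ * (⟨a, le_normalizer ha⟩ : normalizer (A : Set G))⁻¹ ∈
          A.subgroupOf (normalizer (A : Set G)) :=
        mul_mem (hAn.conj_mem _ (show _ ∈ A.subgroupOf (normalizer (A : Set G)) from ha) o)
          (inv_mem (show _ ∈ A.subgroupOf (normalizer (A : Set G)) from ha))
      have h3 : o * ⟨a, le_normalizer ha⟩ * o⁻¹ * (⟨a, le_normalizer ha⟩ : normalizer (A : Set G))⁻¹ ∈
          Cfsg.oddCore ↥(normalizer (A : Set G)) := by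
        have h4 : o * ⟨a, le_normalizer ha⟩ * o⁻¹ * (⟨a, le_normalizer ha⟩ : normalizer (A : Set G))⁻¹ =
          o * (⟨a, le_normalizer ha⟩ * o⁻¹ * (⟨a, le_normalizer ha⟩ : normalizer (A : Set G))⁻¹) := by
            group
        rw [h4]
        exact mul_mem ho (hOn.conj_mem _ (inv_mem ho) _)
      refine GoldTransfer.eq_one_of_odd hOodd h3 ⟨1, ?_⟩
      rw [pow_one, pow_two]
      exact Subtype.ext (hexp _ h2)
    rw [mul_inv_eq_one, mul_inv_eq_iff_eq_mul] at h1
    have h2 : (o : G) * a = a * o := congrArg Subtype.val h1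
    change (n : G) = b * (o : G) at hbo
    rw [hbo, mul_assoc, h2, ← mul_assoc, hcomm b hb a ha, mul_assoc]
  -- `C(A) = M`
  have hcen : ∀ n : normalizer (A : Set G), (∀ a ∈ A, (n : G) * a = a * n) → ψ n = 1 := by
    let C : Subgroup (normalizer (A : Set G)) := (centralizer (A : Set G)).subgroupOf _
    have hCn : C.Normal := by
      refine ⟨fun n hn g => ?_⟩
      have hn' : ∀ a ∈ A, a * (n : G) = n * a := mem_centralizer_iff.1 hn
      change (g * n * (g : G)⁻¹) ∈ centralizer (A : Set G)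
      rw [mem_centralizer_iff]
      intro a ha
      have h1 : (g : G)⁻¹ * a * g ∈ A := by
        have := (mem_normalizer_iff.1 (inv_mem g.2) a).1 ha
        rwa [inv_inv] at this
      have h2 := hn' _ h1
      calc a * (g * n * (g : G)⁻¹) = g * (((g : G)⁻¹ * a * g) * n) * (g : G)⁻¹ := by group
        _ = g * (n * ((g : G)⁻¹ * a * g)) * (g : G)⁻¹ := by rw [h2]
        _ = _ := by group
    have hs : IsSimpleGroup (alternatingGroup (Fin 5)) := inferInstance
    rcases (hCn.map ψ hψs).eq_bot_or_eq_top with h4 | h4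
    · intro n hn
      have h5 : ψ n ∈ C.map ψ := ⟨n, mem_centralizer_iff.2 fun a ha => (hn a ha).symm, rfl⟩
      rwa [h4, mem_bot] at h5
    · exfalso
      have h5 := hZ A le_rfl (by
        intro z hz s hs
        have h6 : ψ ⟨s, hS'N hs⟩ ∈ C.map ψ := by rw [h4]; exact mem_top _
        obtain ⟨c, hc, hcs⟩ := h6
        have h7 : ψ (⟨s, hS'N hs⟩ * c⁻¹) = 1 := by
          rw [map_mul, map_inv, hcs, mul_inv_cancel]
        have h8 := hMc _ h7 z hz
        change s * (c : G)⁻¹ * z = z * (s * (c : G)⁻¹) at h8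
        have h9 : z * (c : G) = c * z := mem_centralizer_iff.1 hc z hz
        have h10 : (c : G)⁻¹ * z = z * (c : G)⁻¹ := by
          rw [inv_mul_eq_iff_eq_mul, ← mul_assoc, ← h9, mul_inv_cancel_right]
        have h11 : s * z * (c : G)⁻¹ = z * s * (c : G)⁻¹ := by
          calc s * z * (c : G)⁻¹ = s * ((c : G)⁻¹ * z) := by rw [h10, mul_assoc]
            _ = z * (s * (c : G)⁻¹) := by rw [← mul_assoc, h8]
            _ = _ := by rw [mul_assoc]
        exact mul_right_cancel h11)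
      rw [hA16] at h5
      norm_num at h5
  have hdata : A5Count.Data A O ψ := by
    refine ⟨hcomm, hexp, hA16, hψs, map_subtype_le _, ?_, hOodd', hker, hcen⟩
    rintro n hn _ ⟨o, ho, rfl⟩
    exact ⟨(⟨n, hn⟩ * o * ⟨n, hn⟩⁻¹ :), hOn.conj_mem o ho _, rfl⟩
  have hyp := A5Fusion.hyp_of_data hdata S' hS'N hAS' hZ h3
  haveI hOGn : (Cfsg.oddCore G).Normal := Lib.Cores.pPrimeCore_normal 2
  have hyp' := GoldTransfer.hyp_map hyp (O := Cfsg.oddCore G) (Lib.Cores.pPrimeCore_coprime 2)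
  have hn := GoldCore.normal_of_core_free hyp' (Lib.Cores.pPrimeCore_quotient_pPrimeCore 2)
  have h5 := hn.comap (QuotientGroup.mk' (Cfsg.oddCore G))
  rwa [comap_map_eq, QuotientGroup.ker_mk'] at h5

end Cfsg.Agent.S3197
end
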