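import Cfsg.Agent.S0088
import Mathlib
import Cfsg.Agent.TwoFusion.AbelianJanko
import Cfsg.Statements.S3206
import Cfsg.Agent.S0215
import Cfsg.Agent.S0105
set_option linter.all false

-- part: H310/CoverEight
section
/-!
# Perfect central extensions by 2-groups when the Sylow 2-subgroup is elementary abelian of order 8

If `L` is perfect, `Z ≤ Z(L)` is a 2-group and the Sylow 2-subgroups `S` of `L/Z` are elementary abelian of order 8
with `N(S)` transitive on `S ∖ {1}`, then `Z = 1`.
-/

set_option autoImplicit false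

namespace Cfsg.Agent.H310.CoverEight

open Subgroup

/-- The case `|ker σ| = 2`. -/
theorem core {L : Type*} {X : Type*} [Group L] [Finite L] [Group X] [Finite X] (σ : L →* X)
    (hσ : Function.Surjective σ) (hc : σ.ker ≤ Subgroup.center L) (hk2 : Nat.card σ.ker = 2)
    (hL : commutator L = ⊤) (S : Sylow 2 X) (hS8 : Nat.card (S : Subgroup X) = 8)
    (hS2 : ∀ x ∈ (S : Subgroup X), x * x = 1)
    (htr : ∀ x ∈ (S : Subgroup X), ∀ y ∈ (S : Subgroup X), x ≠ 1 → y ≠ 1 →
      ∃ n ∈ Subgroup.normalizer ((S : Subgroup X) : Set X), n * x * n⁻¹ = y) : False := by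
  classical
  have h2 : Fact (Nat.Prime 2) := ⟨Nat.prime_two⟩
  have hcen : ∀ k : L, σ k = 1 → ∀ y : L, y * k = k * y := by
    intro k hk y
    exact Subgroup.mem_center_iff.1 (hc (MonoidHom.mem_ker.2 hk)) y
  -- the nontrivial element of the kernel
  obtain ⟨z, hz1, hz⟩ : ∃ z : L, z ≠ 1 ∧ ∀ k : L, σ k = 1 ↔ (k = 1 ∨ k = z) := by
    obtain ⟨⟨z, hzk⟩, hz1, hzu⟩ := (Nat.card_eq_two_iff' (1 : σ.ker)).1 hk2
    refine ⟨z, fun h => hz1 (Subtype.ext h), fun k => ⟨fun hk => ?_, ?_⟩⟩
    · by_cases hk1 : k = 1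
      · exact Or.inl hk1
      · right
        have := hzu ⟨k, MonoidHom.mem_ker.2 hk⟩ (fun h => hk1 (congrArg Subtype.val h))
        exact congrArg Subtype.val this
    · rintro (rfl | rfl)
      · exact map_one σ
      · exact MonoidHom.mem_ker.1 hzk
  have hσz : σ z = 1 := (hz z).2 (Or.inr rfl)
  have hzz : z * z = 1 := by
    have h3 : σ (z * z) = 1 := by rw [map_mul, hσz, one_mul]
    rcases (hz _).1 h3 with h | h
    · exact h
    · exact absurd (by simpa using h) hz1
  have hzc : ∀ y : L, y * z = z * y := hcen z hσz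
  -- commutativity of `S`
  have hScomm : ∀ x ∈ (S : Subgroup X), ∀ y ∈ (S : Subgroup X), x * y = y * x := by
    intro x hx y hy
    have h3 := hS2 x hx
    have h4 := hS2 y hy
    have h5 := hS2 (x * y) ((S : Subgroup X).mul_mem hx hy)
    have hxi : x⁻¹ = x := inv_eq_of_mul_eq_one_left h3
    have hyi : y⁻¹ = y := inv_eq_of_mul_eq_one_left h4
    have h6 : (x * y)⁻¹ = x * y := inv_eq_of_mul_eq_one_left h5
    rw [mul_inv_rev, hxi, hyi] at h6
    exact h6.symm
  set P₀ : Subgroup L := (S : Subgroup X).comap σ with hP₀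
  have hmem : ∀ x : L, x ∈ P₀ ↔ σ x ∈ (S : Subgroup X) := fun x => Subgroup.mem_comap
  have hkP : ∀ k : L, σ k = 1 → k ∈ P₀ := fun k hk => by
    rw [hmem, hk]; exact (S : Subgroup X).one_mem
  have hcomm : ∀ x ∈ P₀, ∀ y ∈ P₀, x * y = y * x ∨ x * y = z * (y * x) := by
    intro x hx y hy
    have h3 : σ ((x * y) * (y * x)⁻¹) = 1 := by
      rw [map_mul, map_inv, map_mul, map_mul, hScomm _ ((hmem x).1 hx) _ ((hmem y).1 hy), mul_inv_cancel]
    rcases (hz _).1 h3 with h | h
    · left; exact mul_inv_eq_one.1 h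
    · right; exact mul_inv_eq_iff_eq_mul.1 h
  -- `P₀` is commutative
  have hab : ∀ x ∈ P₀, ∀ y ∈ P₀, x * y = y * x := by
    by_contra hne
    push Not at hne
    obtain ⟨a, ha, b, hb, hab⟩ := hne
    have hab' : a * b = z * (b * a) := (hcomm a ha b hb).resolve_left hab
    have hσa : σ a ≠ 1 := fun h => hab (hcen a h b).symm
    have hσb : σ b ≠ 1 := fun h => hab (hcen b h a)
    -- no noncentral element
    have hnc : ∀ x ∈ P₀, σ x ≠ 1 → ∃ y ∈ P₀, x * y ≠ y * x := by
      intro x hx hx1
      obtain ⟨n', hn', hn1⟩ := htr _ ((hmem a).1 ha) _ ((hmem x).1 hx) hσa hx1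
      obtain ⟨n, rfl⟩ := hσ n'
      have hk : σ (x * (n * a * n⁻¹)⁻¹) = 1 := by
        rw [map_mul, map_inv, map_mul, map_mul, map_inv, hn1, mul_inv_cancel]
      set k := x * (n * a * n⁻¹)⁻¹ with hkdef
      have hxk : x = k * (n * a * n⁻¹) := by rw [hkdef]; group
      refine ⟨n * b * n⁻¹, ?_, ?_⟩
      · rw [hmem, map_mul, map_mul, map_inv]
        exact (Subgroup.mem_normalizer_iff.1 hn' _).1 ((hmem b).1 hb)
      · intro h
        apply hab
        rw [hxk] at h
        have h3 : k * (n * (a * b) * n⁻¹) = k * (n * (b * a) * n⁻¹) := by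
          calc k * (n * (a * b) * n⁻¹) = k * (n * a * n⁻¹) * (n * b * n⁻¹) := by group
            _ = n * b * n⁻¹ * (k * (n * a * n⁻¹)) := h
            _ = (n * b * n⁻¹ * k) * (n * a * n⁻¹) := by group
            _ = (k * (n * b * n⁻¹)) * (n * a * n⁻¹) := by rw [hcen k hk]
            _ = k * (n * (b * a) * n⁻¹) := by group
        have h4 := mul_left_cancel h3
        have h5 := mul_right_cancel h4
        exact mul_left_cancel h5
    -- pick a third element
    obtain ⟨c, hcP, hc3⟩ : ∃ c ∈ P₀, σ c ≠ 1 ∧ σ c ≠ σ a ∧ σ c ≠ σ b ∧ σ c ≠ σ a * σ b := by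
      by_contra hno
      push Not at hno
      have hsub : ((S : Subgroup X) : Set X) ⊆ ({1, σ a, σ b, σ a * σ b} : Set X) := by
        intro s hs
        obtain ⟨c, rfl⟩ := hσ s
        have h3 := hno c ((hmem c).2 hs)
        by_cases h4 : σ c = 1
        · simp [h4]
        by_cases h5 : σ c = σ a
        · simp [h5]
        by_cases h6 : σ c = σ b
        · simp [h6]
        · have := h3 h4 h5 h6
          simp [this]
      have h3 : Nat.card (S : Subgroup X) ≤ 4 := by
        rw [← SetLike.coe_sort_coe, Nat.card_coe_set_eq]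
        refine (Set.ncard_le_ncard hsub (Set.toFinite _)).trans ?_
        refine (Set.ncard_insert_le _ _).trans ?_
        refine (Nat.add_le_add_right (Set.ncard_insert_le _ _) 1).trans ?_
        refine (Nat.add_le_add_right (Nat.add_le_add_right (Set.ncard_insert_le _ _) 1) 1).trans ?_
        rw [Set.ncard_singleton]
      omega
    -- adjust it to commute with `a` and `b`
    have haa : ∀ {u v w : L}, u * v = z * (v * u) → u * w = z * (w * u) → u * (v * w) = (v * w) * u := by
      intro u v w h3 h4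
      calc u * (v * w) = (u * v) * w := by group
        _ = z * (v * u) * w := by rw [h3]
        _ = z * (v * (u * w)) := by group
        _ = z * (v * (z * (w * u))) := by rw [h4]
        _ = z * ((v * z) * (w * u)) := by group
        _ = z * ((z * v) * (w * u)) := by rw [hzc v]
        _ = (z * z) * ((v * w) * u) := by group
        _ = (v * w) * u := by rw [hzz, one_mul]
    have hsymm : ∀ {u v : L}, u * v = z * (v * u) → v * u = z * (u * v) := by
      intro u v h3
      rw [h3, ← mul_assoc, hzz, one_mul]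
    have hcc : ∀ {u v w : L}, u * v = v * u → u * w = w * u → u * (v * w) = (v * w) * u := by
      intro u v w h3 h4
      rw [← mul_assoc, h3, mul_assoc, h4, ← mul_assoc]
    obtain ⟨w, hwP, hwa, hwb, hw1, hw2, hw3, hw4⟩ : ∃ w ∈ P₀, w * a = a * w ∧ w * b = b * w ∧
        σ w ≠ 1 ∧ σ w ≠ σ a ∧ σ w ≠ σ b ∧ σ w ≠ σ a * σ b := by
      obtain ⟨c1, c2, c3, c4⟩ := hc3
      have haS := (hmem a).1 ha
      have hbS := (hmem b).1 hb
      have hcS := (hmem c).1 hcP
      have haa1 := hS2 _ haS
      have hbb1 := hS2 _ hbS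
      have hbaS := hScomm _ haS _ hbS
      -- adjust for `a`
      obtain ⟨d, hdP, hda, d1, d2, d3, d4⟩ : ∃ d ∈ P₀, a * d = d * a ∧
          σ d ≠ 1 ∧ σ d ≠ σ a ∧ σ d ≠ σ b ∧ σ d ≠ σ a * σ b := by
        rcases hcomm a ha c hcP with h3 | h3
        · exact ⟨c, hcP, h3, c1, c2, c3, c4⟩
        · refine ⟨c * b, P₀.mul_mem hcP hb, haa h3 hab', ?_, ?_, ?_, ?_⟩
          · rw [map_mul]; intro h
            apply c3
            calc σ c = (σ c * σ b) * σ b := by rw [mul_assoc, hbb1, mul_one]
              _ = σ b := by rw [h, one_mul]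
          · rw [map_mul]; intro h
            apply c4
            calc σ c = (σ c * σ b) * σ b := by rw [mul_assoc, hbb1, mul_one]
              _ = σ a * σ b := by rw [h]
          · rw [map_mul]; intro h
            apply c1
            calc σ c = (σ c * σ b) * σ b := by rw [mul_assoc, hbb1, mul_one]
              _ = 1 := by rw [h, hbb1]
          · rw [map_mul]; intro h
            apply c2
            calc σ c = (σ c * σ b) * σ b := by rw [mul_assoc, hbb1, mul_one]
              _ = σ a := by rw [h, mul_assoc, hbb1, mul_one]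
      rcases hcomm b hb d hdP with h3 | h3
      · exact ⟨d, hdP, hda.symm, h3.symm, d1, d2, d3, d4⟩
      · refine ⟨d * a, P₀.mul_mem hdP ha, (hcc hda rfl).symm, (haa h3 (hsymm hab')).symm, ?_, ?_, ?_, ?_⟩
        · rw [map_mul]; intro h
          apply d2
          calc σ d = (σ d * σ a) * σ a := by rw [mul_assoc, haa1, mul_one]
            _ = σ a := by rw [h, one_mul]
        · rw [map_mul]; intro h
          apply d1
          calc σ d = (σ d * σ a) * σ a := by rw [mul_assoc, haa1, mul_one]
            _ = 1 := by rw [h, haa1]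
        · rw [map_mul]; intro h
          apply d4
          calc σ d = (σ d * σ a) * σ a := by rw [mul_assoc, haa1, mul_one]
            _ = σ a * σ b := by rw [h, hbaS]
        · rw [map_mul]; intro h
          apply d3
          calc σ d = (σ d * σ a) * σ a := by rw [mul_assoc, haa1, mul_one]
            _ = σ b := by rw [h, hbaS, mul_assoc, haa1, mul_one]
    -- the centraliser of `w`
    obtain ⟨y, hyP, hy⟩ := hnc w hwP hw1
    apply hy
    let C : Subgroup L := P₀ ⊓ Subgroup.centralizer {w}
    have hCm : ∀ {x : L}, x ∈ C ↔ x ∈ P₀ ∧ x * w = w * x := by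
      intro x
      rw [Subgroup.mem_inf, Subgroup.mem_centralizer_singleton_iff]
    have hCa : a ∈ C := hCm.2 ⟨ha, hwa.symm⟩
    have hCb : b ∈ C := hCm.2 ⟨hb, hwb.symm⟩
    have hCw : w ∈ C := hCm.2 ⟨hwP, rfl⟩
    let D : Subgroup X := C.map σ
    have hDS : D ≤ (S : Subgroup X) := by
      rintro _ ⟨x, hx, rfl⟩
      exact (hmem x).1 (hCm.1 hx).1
    have hDcard : Nat.card D ∣ 8 := by
      rw [← hS8]; exact Subgroup.card_dvd_of_le hDS
    have hsub : ({1, σ a, σ b, σ a * σ b, σ w} : Set X) ⊆ (D : Set X) := by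
      intro s hs
      simp only [Set.mem_insert_iff, Set.mem_singleton_iff] at hs
      have h3 : σ a ∈ D := ⟨a, hCa, rfl⟩
      have h4 : σ b ∈ D := ⟨b, hCb, rfl⟩
      rcases hs with rfl | rfl | rfl | rfl | rfl
      · exact D.one_mem
      · exact h3
      · exact h4
      · exact D.mul_mem h3 h4
      · exact ⟨w, hCw, rfl⟩
    have hba : σ a ≠ σ b := by
      intro h
      have h3 : σ (b * a⁻¹) = 1 := by rw [map_mul, map_inv, h, mul_inv_cancel]
      apply hab
      have h4 : b = (b * a⁻¹) * a := by group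
      rw [h4]
      calc a * (b * a⁻¹ * a) = (a * (b * a⁻¹)) * a := by group
        _ = ((b * a⁻¹) * a) * a := by rw [hcen _ h3 a]
        _ = b * a⁻¹ * a * a := by group
    have h5 : (5 : ℕ) ≤ Nat.card D := by
      rw [← SetLike.coe_sort_coe, Nat.card_coe_set_eq]
      refine le_trans ?_ (Set.ncard_le_ncard hsub (Set.toFinite _))
      rw [Set.ncard_insert_of_notMem, Set.ncard_insert_of_notMem, Set.ncard_insert_of_notMem,
        Set.ncard_insert_of_notMem, Set.ncard_singleton]
      · simp only [Set.mem_singleton_iff]; exact fun h => hw4 h.symm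
      · simp only [Set.mem_insert_iff, Set.mem_singleton_iff]
        rintro (h | h)
        · apply hσa
          have : σ a * σ b = 1 * σ b := by rw [← h, one_mul]
          exact mul_right_cancel this
        · exact hw3 h.symm
      · simp only [Set.mem_insert_iff, Set.mem_singleton_iff]
        rintro (h | h | h)
        · exact hba h
        · apply hσb
          have : σ a * σ b = σ a * 1 := by rw [← h, mul_one]
          exact mul_left_cancel this
        · exact hw2 h.symm
      · simp only [Set.mem_insert_iff, Set.mem_singleton_iff]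
        rintro (h | h | h | h)
        · exact hσa h.symm
        · exact hσb h.symm
        · apply hba
          have h6 := hS2 _ ((hmem a).1 ha)
          calc σ a = σ a * (σ a * σ b) := by rw [← h, mul_one]
            _ = σ b := by rw [← mul_assoc, h6, one_mul]
        · exact hw1 h.symm
    have h8 : Nat.card D = 8 := by
      obtain ⟨k, hk⟩ := hDcard
      have hk0 : k ≠ 0 := by rintro rfl; omega
      have : k = 1 := by
        by_contra hk1
        have : 2 ≤ k := by omega
        nlinarith
      rw [this, mul_one] at hk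
      exact hk.symm
    have hDS' : D = (S : Subgroup X) := by
      apply Subgroup.eq_of_le_of_card_ge hDS
      rw [h8, hS8]
    have hyD : σ y ∈ D := by rw [hDS']; exact (hmem y).1 hyP
    obtain ⟨x, hx, hxy⟩ := hyD
    have h9 : σ (y * x⁻¹) = 1 := by rw [map_mul, map_inv, hxy, mul_inv_cancel]
    have h10 : y = (y * x⁻¹) * x := by group
    rw [h10]
    have h11 := (hCm.1 hx).2
    calc w * (y * x⁻¹ * x) = (w * (y * x⁻¹)) * x := by group
      _ = ((y * x⁻¹) * w) * x := by rw [hcen _ h9 w]
      _ = (y * x⁻¹) * (w * x) := by group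
      _ = (y * x⁻¹) * (x * w) := by rw [h11]
      _ = y * x⁻¹ * x * w := by group
  -- conclusion
  have hcop : Nat.Coprime (Nat.card P₀) P₀.index := by
    have h3 : P₀.index = (S : Subgroup X).index := Subgroup.index_comap_of_surjective _ hσ
    have h4 : ¬ 2 ∣ (S : Subgroup X).index := S.not_dvd_index'
      (by exact Subgroup.index_ne_zero_of_finite)
    have h5 : IsPGroup 2 P₀ := by
      have h6 : Nat.card P₀ * P₀.index = Nat.card L := P₀.card_mul_index
      have h7 : Nat.card (S : Subgroup X) * (S : Subgroup X).index = Nat.card X := (S : Subgroup X).card_mul_index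
      have h8 : Nat.card L = 2 * Nat.card X := by
        rw [← hk2, ← Subgroup.card_mul_index σ.ker, Subgroup.index_ker, MonoidHom.range_eq_top.2 hσ,
          Subgroup.card_top]
      have h9 : Nat.card P₀ = 16 := by
        rw [h8, ← h7, hS8, h3] at h6
        have h10 : 0 < (S : Subgroup X).index := Nat.pos_of_ne_zero Subgroup.index_ne_zero_of_finite
        have h11 : Nat.card P₀ * (S : Subgroup X).index = 16 * (S : Subgroup X).index := by
          rw [h6]; ring
        exact Nat.eq_of_mul_eq_mul_right h10 h11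
      exact IsPGroup.of_card (n := 4) (by rw [h9]; norm_num)
    obtain ⟨n, hn⟩ := IsPGroup.iff_card.1 h5
    rw [hn, h3]
    exact Nat.Coprime.pow_left n ((Nat.Prime.coprime_iff_not_dvd Nat.prime_two).2 h4)
  have hfin := Cfsg.Agent.S0088.result P₀ ⟨⟨fun x y => Subtype.ext (hab x x.2 y y.2)⟩⟩ hcop
  apply hz1
  have : z ∈ P₀ ⊓ commutator L ⊓ Subgroup.center L := by
    refine ⟨⟨hkP z hσz, ?_⟩, hc (MonoidHom.mem_ker.2 hσz)⟩
    rw [hL]; exact Subgroup.mem_top z
  rwa [hfin, Subgroup.mem_bot] at this

/-- A perfect central extension of `X` by a 2-group is trivial when the Sylow 2-subgroups `S` of `X` are elementary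
abelian of order 8 and `N(S)` is transitive on `S ∖ {1}`. -/
theorem ker_eq_bot {L : Type*} {X : Type*} [Group L] [Finite L] [Group X] [Finite X] (σ : L →* X)
    (hσ : Function.Surjective σ) (hc : σ.ker ≤ Subgroup.center L) (hk2 : IsPGroup 2 σ.ker)
    (hL : commutator L = ⊤) (S : Sylow 2 X) (hS8 : Nat.card (S : Subgroup X) = 8)
    (hS2 : ∀ x ∈ (S : Subgroup X), x * x = 1)
    (htr : ∀ x ∈ (S : Subgroup X), ∀ y ∈ (S : Subgroup X), x ≠ 1 → y ≠ 1 →
      ∃ n ∈ Subgroup.normalizer ((S : Subgroup X) : Set X), n * x * n⁻¹ = y) : σ.ker = ⊥ := by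
  classical
  have h2 : Fact (Nat.Prime 2) := ⟨Nat.prime_two⟩
  by_contra hne
  obtain ⟨k, hk⟩ := IsPGroup.iff_card.1 hk2
  have hk0 : k ≠ 0 := by
    rintro rfl
    rw [pow_zero] at hk
    exact hne (Subgroup.card_eq_one.1 hk)
  obtain ⟨m, rfl⟩ : ∃ m, k = m + 1 := ⟨k - 1, by omega⟩
  obtain ⟨K', hK'⟩ := Sylow.exists_subgroup_card_pow_prime (G := σ.ker) 2 (n := m)
    (by rw [hk]; exact pow_dvd_pow 2 (Nat.le_succ m))
  let M : Subgroup L := K'.map σ.ker.subtype
  have hMk : M ≤ σ.ker := Subgroup.map_subtype_le _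
  have hMcard : Nat.card M = 2 ^ m := by
    rw [← hK']
    exact (Nat.card_congr (K'.equivMapOfInjective _ σ.ker.subtype_injective).toEquiv).symm
  have hMn : M.Normal := by
    refine ⟨fun x hx g => ?_⟩
    have h3 := Subgroup.mem_center_iff.1 (hc (hMk hx)) g
    rw [h3, mul_inv_cancel_right]
    exact hx
  let σ' : L ⧸ M →* X := QuotientGroup.lift M σ (fun x hx => MonoidHom.mem_ker.1 (hMk hx))
  have hσ'mk : ∀ x : L, σ' (x : L ⧸ M) = σ x := fun x => rfl
  have hσ' : Function.Surjective σ' := by
    intro x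
    obtain ⟨l, rfl⟩ := hσ x
    exact ⟨(l : L ⧸ M), rfl⟩
  refine core σ' hσ' ?_ ?_ ?_ S hS8 hS2 htr
  · intro x hx
    induction x using QuotientGroup.induction_on with
    | H l =>
      rw [MonoidHom.mem_ker, hσ'mk] at hx
      rw [Subgroup.mem_center_iff]
      intro y
      induction y using QuotientGroup.induction_on with
      | H y =>
        have h3 := Subgroup.mem_center_iff.1 (hc (MonoidHom.mem_ker.2 hx)) y
        change ((y * l : L) : L ⧸ M) = ((l * y : L) : L ⧸ M)
        rw [h3]
  · have h3 : Nat.card σ'.ker * Nat.card X = Nat.card (L ⧸ M) := by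
      rw [← Subgroup.card_mul_index σ'.ker, Subgroup.index_ker, MonoidHom.range_eq_top.2 hσ',
        Subgroup.card_top]
    have h4 : Nat.card σ.ker * Nat.card X = Nat.card L := by
      rw [← Subgroup.card_mul_index σ.ker, Subgroup.index_ker, MonoidHom.range_eq_top.2 hσ,
        Subgroup.card_top]
    have h5 : Nat.card (L ⧸ M) * Nat.card M = Nat.card L :=
      (Subgroup.card_eq_card_quotient_mul_card_subgroup M).symm
    have hX : 0 < Nat.card X := Nat.card_pos
    have h6 : (0 : ℕ) < 2 ^ m := by positivity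
    rw [← h3, hMcard, ← h4, hk] at h5
    have h7 : Nat.card σ'.ker * (Nat.card X * 2 ^ m) = 2 * (Nat.card X * 2 ^ m) := by
      calc Nat.card σ'.ker * (Nat.card X * 2 ^ m) = Nat.card σ'.ker * Nat.card X * 2 ^ m := by ring
        _ = 2 ^ (m + 1) * Nat.card X := h5
        _ = 2 * (Nat.card X * 2 ^ m) := by ring
    exact Nat.eq_of_mul_eq_mul_right (by positivity) h7
  · have h3 : (commutator L).map (QuotientGroup.mk' M) = commutator (L ⧸ M) := by
      rw [commutator_def, Subgroup.map_commutator, ← MonoidHom.range_eq_map,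
        MonoidHom.range_eq_top.2 (QuotientGroup.mk'_surjective M), commutator_def]
    rw [← h3, hL, ← MonoidHom.range_eq_map, MonoidHom.range_eq_top.2 (QuotientGroup.mk'_surjective M)]

end Cfsg.Agent.H310.CoverEight
end

-- part: H310/FixSylow
section
/-!
# Automorphisms of 2-power order fixing an abelian Sylow 2-subgroup elementwise are inner

For a simple group `G` of even order with trivial centre and abelian Sylow 2-subgroups: an automorphism of 2-power
order which fixes every element of a Sylow 2-subgroup is inner (from the `Z*`-theorem).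
-/

set_option autoImplicit false

namespace Cfsg.Agent.H310.FixSylow

open Subgroup
open Cfsg.Agent.TwoFusion.AbelianJanko (ZStar)

universe u

theorem inner_of_fix {G : Type u} [Group G] [Finite G] (zs : ZStar.{u}) (hZ : Subgroup.center G = ⊥)
    (hO : ∀ X : Subgroup G, X.Normal → Odd (Nat.card X) → X = ⊥) (S : Sylow 2 G)
    (hS : ∀ a ∈ (S : Subgroup G), ∀ b ∈ (S : Subgroup G), a * b = b * a) (φ : MulAut G) (k : ℕ)
    (hφ : φ ^ (2 ^ k) = 1) (hfix : ∀ s ∈ (S : Subgroup G), φ s = s) :
    ∃ g : G, ∀ x : G, φ x = g * x * g⁻¹ := by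
  classical
  have h2 : Fact (Nat.Prime 2) := ⟨Nat.prime_two⟩
  let c : G →* MulAut G := MulAut.conj
  have hcinj : Function.Injective c := by
    rw [← MonoidHom.ker_eq_bot_iff, eq_bot_iff, ← hZ]
    intro x hx
    rw [Subgroup.mem_center_iff]
    intro y
    have h3 : c x = 1 := MonoidHom.mem_ker.1 hx
    have h4 : c x y = y := by rw [h3]; rfl
    have h5 : x * y * x⁻¹ = y := h4
    exact (mul_inv_eq_iff_eq_mul.1 h5).symm
  have hconj : ∀ (ψ : MulAut G) (g : G), ψ * c g * ψ⁻¹ = c (ψ g) := by
    intro ψ g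
    ext x
    change ψ (g * (ψ⁻¹ x) * g⁻¹) = ψ g * x * (ψ g)⁻¹
    rw [map_mul, map_mul, map_inv]
    have : ψ (ψ⁻¹ x) = x := MulEquiv.apply_symm_apply ψ x
    rw [this]
  let I : Subgroup (MulAut G) := c.range
  have hIn : I.Normal := by
    refine ⟨?_⟩
    rintro _ ⟨g, rfl⟩ ψ
    exact ⟨ψ g, (hconj ψ g).symm⟩
  let K : Subgroup (MulAut G) := I ⊔ Subgroup.zpowers φ
  have hIK : I ≤ K := le_sup_left
  have hφK : φ ∈ K := (le_sup_right : Subgroup.zpowers φ ≤ K) (Subgroup.mem_zpowers φ)
  have hcomm : ∀ s ∈ (S : Subgroup G), Commute φ (c s) := by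
    intro s hs
    have h3 := hconj φ s
    rw [hfix s hs] at h3
    exact mul_inv_eq_iff_eq_mul.1 h3
  let K₀ : Subgroup K := I.subgroupOf K
  have hK₀n : K₀.Normal := hIn.subgroupOf K
  let Q : Subgroup (MulAut G) := (S : Subgroup G).map c ⊔ Subgroup.zpowers φ
  have hQK : Q ≤ K := sup_le_sup (Subgroup.map_le_range c _) le_rfl
  -- `Q` is a 2-group
  have hφ2 : IsPGroup 2 (Subgroup.zpowers φ) := by
    rw [IsPGroup.iff_orderOf]
    rintro ⟨x, hx⟩
    have h3 : (⟨x, hx⟩ : Subgroup.zpowers φ) ^ (2 ^ k) = 1 := by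
      apply Subtype.ext
      change x ^ (2 ^ k) = 1
      obtain ⟨j, rfl⟩ := hx
      change (φ ^ j) ^ (2 ^ k) = 1
      rw [← zpow_natCast, ← zpow_mul, mul_comm, zpow_mul, zpow_natCast, hφ, one_zpow]
    obtain ⟨m, -, hm⟩ := (Nat.dvd_prime_pow Nat.prime_two).1 (orderOf_dvd_of_pow_eq_one h3)
    exact ⟨m, hm⟩
  have hQ2 : IsPGroup 2 Q := by
    apply IsPGroup.to_sup_of_normal_right' (S.isPGroup'.map c) hφ2
    rintro _ ⟨s, hs, rfl⟩
    rw [Subgroup.mem_normalizer_iff]
    intro h
    constructor
    · rintro ⟨j, rfl⟩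
      refine ⟨j, ?_⟩
      change φ ^ j = c s * φ ^ j * (c s)⁻¹
      have h3 := (hcomm s hs).zpow_left j
      rw [← h3.eq, mul_inv_cancel_right]
    · rintro ⟨j, hj⟩
      refine ⟨j, ?_⟩
      change φ ^ j = h
      change φ ^ j = c s * h * (c s)⁻¹ at hj
      have h3 := (hcomm s hs).zpow_left j
      have h4 : h = (c s)⁻¹ * φ ^ j * c s := by rw [hj]; group
      rw [h4, mul_assoc, h3.eq, inv_mul_cancel_left]
  obtain ⟨R, hR⟩ : ∃ R : Sylow 2 K, Q.subgroupOf K ≤ R := by
    apply IsPGroup.exists_le_sylow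
    exact hQ2.comap_of_injective K.subtype K.subtype_injective
  -- the elements of `R`
  have hform : ∀ r ∈ (R : Subgroup K), ∃ s ∈ (S : Subgroup G), ∃ j : ℤ, (r : MulAut G) = c s * φ ^ j := by
    intro r hr
    have h3 : (r : MulAut G) ∈ I ⊔ Subgroup.zpowers φ := r.2
    rw [← SetLike.mem_coe, Subgroup.normal_mul] at h3
    obtain ⟨i, hi, p, hp, hip⟩ := h3
    obtain ⟨g, rfl⟩ := hi
    obtain ⟨j, rfl⟩ := hp
    refine ⟨g, ?_, j, hip.symm⟩
    -- `S` is maximal among 2-subgroups
    let T : Subgroup G := ((R : Subgroup K).map K.subtype).comap c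
    have hT2 : IsPGroup 2 T := (R.isPGroup'.map K.subtype).comap_of_injective c hcinj
    have hST : (S : Subgroup G) ≤ T := by
      intro s hs
      rw [Subgroup.mem_comap]
      have hsQ : c s ∈ Q := (le_sup_left : (S : Subgroup G).map c ≤ Q) ⟨s, hs, rfl⟩
      exact ⟨⟨c s, hQK hsQ⟩, hR hsQ, rfl⟩
    have hTS := S.is_maximal' hT2 hST
    have hgT : g ∈ T := by
      rw [Subgroup.mem_comap]
      have hφR : (⟨φ, hφK⟩ : K) ∈ (R : Subgroup K) :=
        hR ((le_sup_right : Subgroup.zpowers φ ≤ Q) (Subgroup.mem_zpowers φ))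
      have h4 : r * (⟨φ, hφK⟩ : K) ^ (-j) ∈ (R : Subgroup K) :=
        (R : Subgroup K).mul_mem hr ((R : Subgroup K).zpow_mem hφR _)
      refine ⟨_, h4, ?_⟩
      change (r : MulAut G) * ((⟨φ, hφK⟩ : K) ^ (-j) : K) = c g
      rw [← hip]
      change c g * φ ^ j * φ ^ (-j) = c g
      rw [mul_assoc, ← zpow_add, add_neg_cancel, zpow_zero, mul_one]
    rw [← hTS]; exact hgT
  have hRc : IsMulCommutative (R : Subgroup K) := by
    refine ⟨⟨fun x y => Subtype.ext (Subtype.ext ?_)⟩⟩
    obtain ⟨s, hs, i, hx⟩ := hform x x.2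
    obtain ⟨s', hs', j, hy⟩ := hform y y.2
    change ((x : K) : MulAut G) * ((y : K) : MulAut G) = ((y : K) : MulAut G) * ((x : K) : MulAut G)
    rw [hx, hy]
    have h3 : Commute (c s) (c s') := by
      change c s * c s' = c s' * c s
      rw [← map_mul, ← map_mul, hS s hs s' hs']
    have h4 : Commute (c s) (φ ^ j) := (hcomm s hs).symm.zpow_right j
    have h5 : Commute (φ ^ i) (c s') := (hcomm s' hs').zpow_left i
    have h6 : Commute (φ ^ i) (φ ^ j) := (Commute.refl φ).zpow_zpow i j
    exact ((h3.mul_right h4).mul_left (h5.mul_right h6)).eq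
  have hfin := Cfsg.Agent.TwoFusion.AbelianJanko.sylow_le zs K₀ hK₀n ?_ ?_ R hRc
  · have hφR : (⟨φ, hφK⟩ : K) ∈ (R : Subgroup K) :=
      hR ((le_sup_right : Subgroup.zpowers φ ≤ Q) (Subgroup.mem_zpowers φ))
    obtain ⟨g, hg⟩ : φ ∈ I := hfin hφR
    refine ⟨g, fun x => ?_⟩
    rw [← hg]; rfl
  · intro X hXK hXn hXo
    let X' : Subgroup G := (X.map K.subtype).comap c
    have hX'n : X'.Normal := by
      refine ⟨fun x hx g => ?_⟩
      rw [Subgroup.mem_comap] at hx ⊢
      obtain ⟨y, hy, hyx⟩ := hx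
      have hgK : c g ∈ K := hIK ⟨g, rfl⟩
      refine ⟨⟨c g, hgK⟩ * y * ⟨c g, hgK⟩⁻¹, hXn ⟨c g, hgK⟩ ⟨g, rfl⟩ y hy, ?_⟩
      change c g * (y : MulAut G) * (c g)⁻¹ = c (g * x * g⁻¹)
      have : (y : MulAut G) = c x := hyx
      rw [this, map_mul, map_mul, map_inv]
    have hX'card : Nat.card X' = Nat.card X := by
      have h3 : X'.map c = X.map K.subtype := by
        rw [Subgroup.map_comap_eq, inf_eq_right]
        rintro _ ⟨y, hy, rfl⟩
        exact hXK hy
      calc Nat.card X' = Nat.card (X'.map c) :=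
            Nat.card_congr (X'.equivMapOfInjective c hcinj).toEquiv
        _ = Nat.card (X.map K.subtype) := by rw [h3]
        _ = Nat.card X := (Nat.card_congr (X.equivMapOfInjective _ K.subtype_injective).toEquiv).symm
    have h4 : Nat.card X = 1 := by
      rw [← hX'card, hO X' hX'n (by rw [hX'card]; exact hXo), Subgroup.card_bot]
    exact Subgroup.card_eq_one.1 h4
  · rw [eq_bot_iff]
    intro ψ hψ
    rw [Subgroup.mem_centralizer_iff] at hψ
    rw [Subgroup.mem_bot]
    apply Subtype.ext
    change (ψ : MulAut G) = 1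
    ext g
    have h3 := hψ ⟨c g, hIK ⟨g, rfl⟩⟩ ⟨g, rfl⟩
    have h4 : c g * (ψ : MulAut G) = (ψ : MulAut G) * c g := congrArg Subtype.val h3
    have h5 := hconj (ψ : MulAut G) g
    rw [← h4, mul_inv_cancel_right] at h5
    have h6 := hcinj h5
    change (ψ : MulAut G) g = g
    exact h6.symm

end Cfsg.Agent.H310.FixSylow
end

-- part: S3206
section
set_option autoImplicit false
open Cfsg

namespace Cfsg.Agent.S3206

open Cfsg.Agent.TwoFusion.AbelianJanko in
/-- The abelian Sylow 2-subgroup is elementary of order 8 with `N(S)` transitive on its involutions. -/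
theorem exists_sylow {G : Type*} [Group G] [Finite G] [IsSimpleGroup G]
    (hG : ¬ IsMulCommutative G) (hab : ∀ S : Sylow 2 G, IsMulCommutative ↥(S : Subgroup G))
    (t : G) (ht : orderOf t = 2)
    (E : Subgroup G) (hE : Cfsg.IsInternalDirectProduct (Subgroup.zpowers t) E (Subgroup.centralizer ({t} : Set G)))
    {F : Type*} [Field F] [Fintype F] (hFo : Odd (Fintype.card F))
    (N : Subgroup ↥E) [N.Normal] (hN : Nonempty (↥N ≃* Matrix.ProjectiveSpecialLinearGroup (Fin 2) F))
    (hNc : Subgroup.centralizer (N : Set ↥E) = ⊥) :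
    ∃ S : Sylow 2 G, Nat.card (S : Subgroup G) = 8 ∧ (∀ x ∈ (S : Subgroup G), x * x = 1) ∧
      ∀ x ∈ (S : Subgroup G), ∀ y ∈ (S : Subgroup G), x ≠ 1 → y ≠ 1 →
        ∃ n ∈ Subgroup.normalizer ((S : Subgroup G) : Set G), n * x * n⁻¹ = y := by
  have h2 : Fact (Nat.Prime 2) := ⟨Nat.prime_two⟩
  have htt : t * t = 1 := by
    have := pow_orderOf_eq_one t
    rwa [ht, pow_two] at this
  have ht1 : t ≠ 1 := by
    intro h
    rw [h, orderOf_one] at ht
    omega
  have hcomm : ∀ Q : Subgroup G, IsPGroup 2 Q → IsMulCommutative Q := by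
    intro Q hQ
    obtain ⟨P, hP⟩ := hQ.exists_le_sylow
    refine ⟨⟨fun x y => Subtype.ext ?_⟩⟩
    have h1 : (⟨x, hP x.2⟩ : P) * ⟨y, hP y.2⟩ = ⟨y, hP y.2⟩ * ⟨x, hP x.2⟩ := (hab P).is_comm.comm _ _
    have h2 : (x : G) * y = y * x := congrArg Subtype.val h1
    exact h2
  obtain ⟨-, hEC, hcom, hinf, hsup⟩ := hE
  have hEt : ∀ e ∈ E, t * e = e * t := fun e he => hcom t (Subgroup.mem_zpowers t) e he
  have htE : t ∉ E := by
    intro h
    have : t ∈ (Subgroup.zpowers t ⊓ E : Subgroup G) := ⟨Subgroup.mem_zpowers t, h⟩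
    rw [hinf, Subgroup.mem_bot] at this
    exact ht1 this
  let E₀ : Subgroup G := N.map E.subtype
  have hE₀E : E₀ ≤ E := Subgroup.map_subtype_le _
  have hE₀ : Nonempty (E₀ ≃* Matrix.ProjectiveSpecialLinearGroup (Fin 2) F) := by
    obtain ⟨e⟩ := hN
    exact ⟨(N.equivMapOfInjective _ E.subtype_injective).symm.trans e⟩
  have good : Cfsg.Agent.TwoFusion.PSLTwoGood.Good E₀ := by
    obtain ⟨e⟩ := hE₀
    obtain ⟨P⟩ : Nonempty (Sylow 2 (Matrix.ProjectiveSpecialLinearGroup (Fin 2) F)) := inferInstance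
    refine Cfsg.Agent.TwoFusion.PSLTwoGood.Good.of_mulEquiv e
      (Cfsg.Agent.TwoFusion.PSLTwoGood.good_psl hFo P ?_)
    let f : Matrix.ProjectiveSpecialLinearGroup (Fin 2) F →* G := E₀.subtype.comp e.symm.toMonoidHom
    have hf : Function.Injective f := E₀.subtype_injective.comp e.symm.injective
    have h3 := hcomm _ (P.isPGroup'.map f)
    refine ⟨⟨fun x y => Subtype.ext (hf ?_)⟩⟩
    change f ((x : Matrix.ProjectiveSpecialLinearGroup (Fin 2) F) * y) = f (y * x)
    rw [map_mul, map_mul]
    exact comm_of h3 ⟨x, x.2, rfl⟩ ⟨y, y.2, rfl⟩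
  have S₁ : Setup t E E₀ :=
    { ht := ht
      hEC := hEt
      htE := htE
      dec := by
        intro x hx
        have hxC : x ∈ Subgroup.zpowers t ⊔ E := by
          rw [hsup]; exact Subgroup.mem_centralizer_singleton_iff.2 hx
        have hcl : Subgroup.zpowers t ⊔ E = Subgroup.closure ({t} ∪ (E : Set G)) := by
          rw [Subgroup.closure_union, Subgroup.closure_eq, Subgroup.zpowers_eq_closure]
        rw [hcl] at hxC
        induction hxC using Subgroup.closure_induction with
        | mem y hy =>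
          rcases hy with hy | hy
          · rw [Set.mem_singleton_iff] at hy
            right; rw [hy, htt]; exact E.one_mem
          · exact Or.inl hy
        | one => exact Or.inl E.one_mem
        | mul a b ha hb iha ihb =>
          have hac : a * t = t * a := by
            rw [← hcl, hsup] at ha
            exact Subgroup.mem_centralizer_singleton_iff.1 ha
          have hbc : b * t = t * b := by
            rw [← hcl, hsup] at hb
            exact Subgroup.mem_centralizer_singleton_iff.1 hb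
          rcases iha hac with h3 | h3 <;> rcases ihb hbc with h4 | h4
          · exact Or.inl (E.mul_mem h3 h4)
          · right
            rw [← mul_assoc, ← hac, mul_assoc]
            exact E.mul_mem h3 h4
          · right
            rw [← mul_assoc]
            exact E.mul_mem h3 h4
          · left
            have h5 : a * b = (t * a) * (t * b) := by
              rw [← hac, mul_assoc, ← mul_assoc t t b, htt, one_mul]
            rw [h5]
            exact E.mul_mem h3 h4
        | inv a ha iha =>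
          have hac : a * t = t * a := by
            rw [← hcl, hsup] at ha
            exact Subgroup.mem_centralizer_singleton_iff.1 ha
          rcases iha hac with h3 | h3
          · exact Or.inl (E.inv_mem h3)
          · right
            have h4 := E.inv_mem h3
            rw [← hac, mul_inv_rev, inv_eq_of_mul_eq_one_left htt] at h4
            exact h4
      hle := hE₀E
      hn := by
        rintro c hc _ ⟨x, hx, rfl⟩
        exact ⟨⟨c, hc⟩ * x * ⟨c, hc⟩⁻¹, (inferInstance : N.Normal).conj_mem x hx ⟨c, hc⟩, rfl⟩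
      good := good
      hCE := by
        intro x hx hxy
        have h3 : (⟨x, hx⟩ : E) ∈ Subgroup.centralizer (N : Set ↥E) := by
          rw [Subgroup.mem_centralizer_iff]
          intro y hy
          apply Subtype.ext
          exact (hxy y ⟨y, hy, rfl⟩).symm
        rw [hNc, Subgroup.mem_bot] at h3
        exact congrArg Subtype.val h3
      hcomm := hcomm
      zs := fun Γ _ _ P w hw hwP hiso => Cfsg.Agent.S0215.result P w hw hwP hiso }
  obtain ⟨V, hV1, hV2, hV3, P, hP⟩ := S₁.exists_V
  have S₂ : Setup' t E E₀ V P := { S₁ with hVE₀ := hV1, hV := hV2, hVtr := hV3, hP := hP }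
  have hPc : IsMulCommutative (P : Subgroup G) := hcomm _ P.isPGroup'
  -- one class of involutions
  have hconj : ∀ x ∈ P, x ≠ 1 → ∃ g : G, g * t * g⁻¹ = x := by
    rcases S₂.dichotomy ⊤ le_top with h3 | ⟨h3, -⟩
    · exfalso
      obtain ⟨N, hN, ⟨e⟩⟩ := Cfsg.Agent.S0105.result P hPc
      have htD : t ∈ ((P : Subgroup G) ⊓ Subgroup.centralizer
          (Subgroup.normalizer (P : Set G) : Set G) : Subgroup G) := by
        refine ⟨S₂.t_mem, Subgroup.mem_centralizer_iff.2 fun n hn => ?_⟩
        have := h3 n (Subgroup.mem_top n) hn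
        rwa [mul_inv_eq_iff_eq_mul] at this
      rcases hN.eq_bot_or_eq_top with h4 | h4
      · apply hG
        refine ⟨⟨fun x y => ?_⟩⟩
        have h5 : ((x * y : G) : G ⧸ N) = ((y * x : G) : G ⧸ N) := by
          apply e.injective
          have : ((x * y : G) : G ⧸ N) = (x : G ⧸ N) * (y : G ⧸ N) := rfl
          rw [this]
          have : ((y * x : G) : G ⧸ N) = (y : G ⧸ N) * (x : G ⧸ N) := rfl
          rw [this, map_mul, map_mul]
          apply Subtype.ext
          exact comm_of hPc (e _).2.1 (e _).2.1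
        rw [QuotientGroup.eq, h4, Subgroup.mem_bot, inv_mul_eq_one] at h5
        exact h5
      · have h5 : Subsingleton (G ⧸ N) := by
          rw [h4]; exact QuotientGroup.subsingleton_quotient_top
        have h6 : (⟨t, htD⟩ : ((P : Subgroup G) ⊓ Subgroup.centralizer
          (Subgroup.normalizer (P : Set G) : Set G) : Subgroup G)) = 1 := by
          apply e.symm.injective
          exact Subsingleton.elim _ _
        exact ht1 (congrArg Subtype.val h6)
    · intro x hx hx1
      obtain ⟨g, -, hg⟩ := h3 x hx hx1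
      exact ⟨g, hg⟩
  refine ⟨P, S₂.card_P, ?_, ?_⟩
  · intro x hx
    by_cases hx1 : x = 1
    · rw [hx1, one_mul]
    · obtain ⟨g, rfl⟩ := hconj x hx hx1
      calc g * t * g⁻¹ * (g * t * g⁻¹) = g * (t * t) * g⁻¹ := by group
        _ = 1 := by rw [htt]; group
  · intro x hx y hy hx1 hy1
    obtain ⟨g, hg⟩ := hconj x hx hx1
    obtain ⟨h, hh⟩ := hconj y hy hy1
    have h3 : (g * h⁻¹)⁻¹ * x * (g * h⁻¹) = y := by rw [← hg, ← hh]; group
    obtain ⟨n, hn, hn'⟩ := Sylow.conj_eq_normalizer_conj_of_mem P x (g * h⁻¹) hx (by rw [h3]; exact hy)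
    refine ⟨n⁻¹, inv_mem hn, ?_⟩
    rw [inv_inv, ← hn', h3]

/-- Let G be a non-abelian finite simple group with abelian Sylow 2-subgroups, and let t be an involution of G whose centralizer is a maximal subgroup of G and is the direct product of the subgroup generated by t with a subgroup E having a normal subgroup isomorphic to PSL(2, q), q odd and greater than 3, with trivial centralizer in E. Then every finite perfect group having a central 2-subgroup with quotient isomorphic to G has that central subgroup trivial (G has no nontrivial perfect central extension by a 2-group), and every automorphism of G of 2-power order that fixes every element of some Sylow 2-subgroup of G is inner. -/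
theorem result {G : Type*} [Group G] [Finite G] [IsSimpleGroup G]
    (hG : ¬ IsMulCommutative G) (hab : ∀ S : Sylow 2 G, IsMulCommutative ↥(S : Subgroup G))
    (t : G) (ht : orderOf t = 2) (hmax : IsCoatom (Subgroup.centralizer ({t} : Set G)))
    (E : Subgroup G) (hE : Cfsg.IsInternalDirectProduct (Subgroup.zpowers t) E (Subgroup.centralizer ({t} : Set G)))
    {F : Type*} [Field F] [Fintype F] (hFo : Odd (Fintype.card F)) (hF3 : 3 < Fintype.card F)
    (N : Subgroup ↥E) [N.Normal] (hN : Nonempty (↥N ≃* Matrix.ProjectiveSpecialLinearGroup (Fin 2) F))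
    (hNc : Subgroup.centralizer (N : Set ↥E) = ⊥) :
    (∀ (L : Type) (_ : Group L) (_ : Finite L) (Z : Subgroup L) (_ : Z.Normal), commutator L = ⊤ → Z ≤ Subgroup.center L →
        IsPGroup 2 ↥Z → Nonempty (L ⧸ Z ≃* G) → Z = ⊥) ∧
    (∀ (φ : G ≃* G) (k : ℕ), φ ^ (2 ^ k) = 1 → (∃ S : Sylow 2 G, ∀ s ∈ (S : Subgroup G), φ s = s) →
        ∃ g : G, ∀ x : G, φ x = g * x * g⁻¹) := by
  constructor
  · intro L _ _ Z _ hL hZc hZ2 ⟨e⟩
    obtain ⟨S, hS8, hS2, htr⟩ := exists_sylow hG hab t ht E hE hFo N hN hNc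
    let σ : L →* G := e.toMonoidHom.comp (QuotientGroup.mk' Z)
    have hker : σ.ker = Z := by
      ext x
      rw [MonoidHom.mem_ker]
      change e (QuotientGroup.mk' Z x) = 1 ↔ x ∈ Z
      rw [map_eq_one_iff e e.injective, QuotientGroup.mk'_apply, QuotientGroup.eq_one_iff]
    have hσ : Function.Surjective σ := e.surjective.comp (QuotientGroup.mk'_surjective Z)
    rw [← hker]
    exact Cfsg.Agent.H310.CoverEight.ker_eq_bot σ hσ (by rw [hker]; exact hZc) (by rw [hker]; exact hZ2)
      hL S hS8 hS2 htr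
  · rintro φ k hφ ⟨S, hS⟩
    have hcen : Subgroup.center G = ⊥ := by
      rcases (inferInstance : (Subgroup.center G).Normal).eq_bot_or_eq_top with h | h
      · exact h
      · exfalso
        apply hG
        refine ⟨⟨fun x y => ?_⟩⟩
        have : y ∈ Subgroup.center G := by rw [h]; exact Subgroup.mem_top y
        exact Subgroup.mem_center_iff.1 this x
    refine Cfsg.Agent.H310.FixSylow.inner_of_fix
      (fun Γ _ _ P w hw hwP hiso => Cfsg.Agent.S0215.result P w hw hwP hiso) hcen ?_ S ?_ φ k hφ hS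
    · intro X hX hodd
      rcases hX.eq_bot_or_eq_top with h | h
      · exact h
      · exfalso
        rw [h, Subgroup.card_top] at hodd
        have h3 : 2 ∣ Nat.card G := by rw [← ht]; exact orderOf_dvd_natCard t
        exact (Nat.not_even_iff_odd.2 hodd) (even_iff_two_dvd.2 h3)
    · intro a ha b hb
      exact congrArg Subtype.val ((hab S).is_comm.comm ⟨a, ha⟩ ⟨b, hb⟩)

end Cfsg.Agent.S3206
end
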