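import Cfsg.Agent.LargeExtra.W2.Iface
import Cfsg.Agent.LargeExtra.TwoCentral
import Cfsg.Agent.H314.PSp43Case
import Cfsg.Agent.SmallExtra438.NineAGeo
import Cfsg.Agent.S0822
import Cfsg.Agent.S1183
import Cfsg.Agent.KFacts.LargeO2
import Cfsg.Agent.LFourB.CyclicQuot
import Cfsg.Agent.Lib.SolvableMinNormal
import Cfsg.Agent.Lib.Cores
import Cfsg.Statements.S3221
set_option linter.all false

-- part: H314/CentTransfer
section
/-!
# `Case9a` along isomorphisms of centralizers (helper314)

* `Large.conj_of_central` : an involution in the centre of a Sylow 2-subgroup is conjugate to `z` if `Large Q z`;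
* `case9a_of_cent` : `Case9a` is a property of `C_G(z)`.
-/

set_option autoImplicit false
set_option linter.style.haveILetI false

namespace Cfsg.Agent.H314.CentTransfer

open Subgroup
open Cfsg.Agent.Co2Type.Quad Cfsg.Agent.LargeExtra.W2 Cfsg.Agent.LargeExtra.Base

variable {K G : Type*} [Group K] [Group G]

section central

variable {Q : Subgroup G} {z : G}

/-- An element commuting with `Q` is `1` or `z`. -/
theorem eq_of_comm (h : Large Q z) {g : G} (hg : ∀ x ∈ Q, g * x = x * g) : g = 1 ∨ g = z :=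
  h.cent g (h.self g (hg z h.z_mem) hg) hg

theorem isPGroup (h : Large Q z) : IsPGroup 2 Q := by
  intro x
  refine ⟨2, Subtype.ext ?_⟩
  have h1 : (x : G) * x = 1 ∨ (x : G) * x = z := h.sq x x.2
  change (x : G) ^ (2 ^ 2) = 1
  rw [show (2 : ℕ) ^ 2 = 2 * 2 from rfl, pow_mul, pow_two (x : G), pow_two]
  rcases h1 with h1 | h1
  · rw [h1, one_mul]
  · rw [h1, h.z_sq]

/-- a Sylow 2-subgroup of `G` which contains `Q` and centralises `z` -/
theorem exists_sylow [Finite G] (h : Large Q z) :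
    ∃ T : Sylow 2 G, Q ≤ T ∧ (T : Subgroup G) ≤ centralizer {z} := by
  have : Fact (Nat.Prime 2) := ⟨Nat.prime_two⟩
  have hQC : Q ≤ centralizer {z} := fun x hx => mem_centralizer_singleton_iff.2 (h.comm_z x hx)
  have hp : IsPGroup 2 (Q.subgroupOf (centralizer {z})) :=
    (isPGroup h).comap_of_injective _ (Subtype.val_injective)
  obtain ⟨P, hP⟩ := hp.exists_le_sylow
  -- `P` mapped to `G`
  set T : Subgroup G := (P : Subgroup (centralizer ({z} : Set G))).map (centralizer {z}).subtype with hT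
  have hTp : IsPGroup 2 T := P.isPGroup'.map _
  have hTC : T ≤ centralizer {z} := by
    rintro _ ⟨x, -, rfl⟩
    exact x.2
  have hcard : Nat.card T = Nat.card P :=
    Nat.card_congr ((P : Subgroup (centralizer ({z} : Set G))).equivMapOfInjective _
      (Subtype.val_injective)).toEquiv.symm
  have hodd := Cfsg.Agent.LargeExtra.TwoCentral.odd_index h
  have hidx : ¬ 2 ∣ T.index := by
    have h1 : T.index = T.relIndex (centralizer {z}) * (centralizer ({z} : Set G)).index :=
      (relIndex_mul_index hTC).symm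
    have h2 : T.relIndex (centralizer {z}) = (P : Subgroup (centralizer ({z} : Set G))).index := by
      rw [hT, relIndex, subgroupOf, comap_map_eq_self_of_injective Subtype.val_injective]
    rw [h1, h2]
    intro h3
    rcases (Nat.Prime.dvd_mul Nat.prime_two).1 h3 with h4 | h4
    · exact P.not_dvd_index h4
    · exact (Nat.not_even_iff_odd.2 hodd) (even_iff_two_dvd.2 h4)
  refine ⟨hTp.toSylow hidx, ?_, hTC⟩
  intro x hx
  exact ⟨⟨x, hQC hx⟩, hP hx, rfl⟩

/-- An involution of the centre of a Sylow 2-subgroup is conjugate to `z`. -/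
theorem conj_of_central [Finite G] (h : Large Q z) (U : Sylow 2 G) {t : G} (ht : t ≠ 1)
    (htU : t ∈ (U : Subgroup G)) (htc : ∀ u ∈ (U : Subgroup G), u * t = t * u) : ∃ g, g * t * g⁻¹ = z := by
  have : Fact (Nat.Prime 2) := ⟨Nat.prime_two⟩
  obtain ⟨T, hQT, -⟩ := exists_sylow h
  obtain ⟨g, hg⟩ := MulAction.exists_smul_eq G U T
  refine ⟨g, ?_⟩
  have h1 : g * t * g⁻¹ ≠ 1 := by
    intro he
    apply ht
    calc t = g⁻¹ * (g * t * g⁻¹) * g := by group
      _ = 1 := by rw [he]; group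
  refine (eq_of_comm h ?_).resolve_left h1
  intro x hx
  have hxT : x ∈ g • U := by rw [hg]; exact hQT hx
  have hxT' : x ∈ ((g • U : Sylow 2 G) : Subgroup G) := hxT
  rw [Sylow.coe_subgroup_smul, Subgroup.mem_pointwise_smul_iff_inv_smul_mem] at hxT'
  have h2 := htc _ hxT'
  have h3 : (MulAut.conj g)⁻¹ • x = g⁻¹ * x * g := by
    rw [← map_inv]
    simp [MulAut.smul_def]
  rw [h3] at h2
  calc g * t * g⁻¹ * x = g * (t * (g⁻¹ * x * g)) * g⁻¹ := by group
    _ = g * ((g⁻¹ * x * g) * t) * g⁻¹ := by rw [h2]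
    _ = x * (g * t * g⁻¹) := by group

end central

/-! ### transfer -/

section transfer

variable {Q : Subgroup K} {z i j k l x₁ x₂ s : K} {t : G}

theorem comm_of_mem (h : Case9a Q z i j k l x₁ x₂ s) {c : K} (hc : c ∈ ({i, j, k, l, x₁, x₂, s} : Set K)) :
    c ∈ centralizer ({z} : Set K) := by
  rw [h.cent]
  exact subset_closure hc

/-- `Case9a` is a property of the centralizer of `z` -/
theorem case9a_of_cent (h : Case9a Q z i j k l x₁ x₂ s) (ht : t ≠ 1)
    (e : ↥(centralizer ({t} : Set G)) ≃* ↥(centralizer ({z} : Set K))) :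
    ∃ (Q' : Subgroup G) (i' j' k' l' x₁' x₂' s' : G), Case9a Q' t i' j' k' l' x₁' x₂' s' := by
  have hzC : z ∈ centralizer ({z} : Set K) := mem_centralizer_singleton_iff.2 rfl
  have htC : t ∈ centralizer ({t} : Set G) := mem_centralizer_singleton_iff.2 rfl
  have hQC : Q ≤ centralizer {z} := fun x hx => mem_centralizer_singleton_iff.2 (h.large.comm_z x hx)
  -- `e t = z`
  have hez : e ⟨t, htC⟩ = ⟨z, hzC⟩ := by
    have h1 : ∀ x ∈ Q, ((e ⟨t, htC⟩ : _) : K) * x = x * (e ⟨t, htC⟩ : _) := by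
      intro x hx
      have h2 : (⟨t, htC⟩ : ↥(centralizer ({t} : Set G))) * e.symm ⟨x, hQC hx⟩ =
          e.symm ⟨x, hQC hx⟩ * ⟨t, htC⟩ := by
        apply Subtype.ext
        exact (mem_centralizer_singleton_iff.1 (e.symm ⟨x, hQC hx⟩).2).symm
      have h3 := congrArg e h2
      rw [map_mul, map_mul, e.apply_symm_apply] at h3
      exact congrArg Subtype.val h3
    rcases eq_of_comm h.large h1 with h2 | h2
    · exfalso
      apply ht
      have h3 : e ⟨t, htC⟩ = 1 := Subtype.ext h2
      rw [MulEquiv.map_eq_one_iff] at h3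
      exact congrArg Subtype.val h3
    · exact Subtype.ext h2
  have hI := comm_of_mem h (c := i) (by simp)
  have hJ := comm_of_mem h (c := j) (by simp)
  have hK := comm_of_mem h (c := k) (by simp)
  have hL := comm_of_mem h (c := l) (by simp)
  have hX := comm_of_mem h (c := x₁) (by simp)
  have hY := comm_of_mem h (c := x₂) (by simp)
  have hS := comm_of_mem h (c := s) (by simp)
  let φ : ↥(centralizer ({z} : Set K)) →* G := (centralizer ({t} : Set G)).subtype.comp e.symm.toMonoidHom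
  have φinj : Function.Injective φ := Subtype.val_injective.comp e.symm.injective
  have φz : φ ⟨z, hzC⟩ = t := by
    change ((e.symm ⟨z, hzC⟩ : _) : G) = t
    rw [← hez, e.symm_apply_apply]
  have φcomm : ∀ c, φ c * t = t * φ c := fun c => mem_centralizer_singleton_iff.1 (e.symm c).2
  have φsurj : ∀ g : G, g * t = t * g → ∃ c, φ c = g := by
    intro g hg
    refine ⟨e ⟨g, mem_centralizer_singleton_iff.2 hg⟩, ?_⟩
    change ((e.symm (e _) : _) : G) = g
    rw [e.symm_apply_apply]
  have φran : φ.range = centralizer {t} := by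
    ext g
    constructor
    · rintro ⟨c, rfl⟩
      exact mem_centralizer_singleton_iff.2 (φcomm c)
    · intro hg
      exact φsurj g (mem_centralizer_singleton_iff.1 hg)
  clear_value φ
  -- Q'
  set Q₀ := Q.subgroupOf (centralizer {z}) with hQ₀
  have hQ₀c : Q₀.map (centralizer ({z} : Set K)).subtype = Q := by
    rw [hQ₀, subgroupOf_map_subtype, inf_eq_left]; exact hQC
  -- equations
  have eqn : ∀ {a b : ↥(centralizer ({z} : Set K))}, (a : K) = b → φ a = φ b := fun hab =>
    congrArg φ (Subtype.ext hab)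
  have hφ1 : ∀ c, φ c = 1 ↔ (c : K) = 1 := by
    intro c
    constructor
    · intro hc
      have : c = 1 := φinj (by rw [hc, map_one])
      rw [this]; rfl
    · intro hc
      have : c = 1 := Subtype.ext hc
      rw [this, map_one]
  have hφz : ∀ c, φ c = t ↔ (c : K) = z := by
    intro c
    constructor
    · intro hc
      have : c = ⟨z, hzC⟩ := φinj (by rw [hc, φz])
      rw [this]
    · intro hc
      have : c = ⟨z, hzC⟩ := Subtype.ext hc
      rw [this, φz]
  have large : Large (Q₀.map φ) t := by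
    refine ⟨⟨⟨z, hzC⟩, h.large.z_mem, φz⟩, ht, ?_, ?_, ?_, ?_, ?_, ?_, ?_⟩
    · rw [← φz, ← map_mul, hφ1]
      exact h.large.z_sq
    · rintro _ ⟨x, -, rfl⟩
      exact φcomm x
    · rintro g hg _ ⟨x, hx, rfl⟩
      obtain ⟨c, rfl⟩ := φsurj g hg
      refine ⟨c * x * c⁻¹, h.large.conj_mem c (mem_centralizer_singleton_iff.1 c.2) x hx, ?_⟩
      simp
    · rintro _ ⟨x, hx, rfl⟩
      rcases h.large.sq x hx with h1 | h1
      · left
        rw [← map_mul, hφ1]; exact h1
      · right
        rw [← map_mul, hφz]; exact h1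
    · rintro _ ⟨x, hx, rfl⟩ _ ⟨y, hy, rfl⟩
      rcases h.large.comm x hx y hy with h1 | h1
      · left
        rw [← map_mul, ← map_mul]; exact eqn h1
      · right
        rw [← φz, ← map_mul, ← map_mul, ← map_mul]; exact eqn h1
    · rintro _ ⟨x, hx, rfl⟩ h2
      have h3 : ∀ y ∈ Q, (x : K) * y = y * x := by
        intro y hy
        have h4 := h2 (φ ⟨y, hQC hy⟩) ⟨⟨y, hQC hy⟩, hy, rfl⟩
        rw [← map_mul, ← map_mul] at h4
        exact congrArg Subtype.val (φinj h4)
      rcases h.large.cent x hx h3 with h4 | h4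
      · left; exact (hφ1 x).2 h4
      · right; exact (hφz x).2 h4
    · intro g hg h2
      obtain ⟨x, rfl⟩ := φsurj g hg
      have h3 : ∀ y ∈ Q, (x : K) * y = y * x := by
        intro y hy
        have h4 := h2 (φ ⟨y, hQC hy⟩) ⟨⟨y, hQC hy⟩, hy, rfl⟩
        rw [← map_mul, ← map_mul] at h4
        exact congrArg Subtype.val (φinj h4)
      exact ⟨x, h.large.self x (mem_centralizer_singleton_iff.1 x.2) h3, rfl⟩
  have cardQ : Nat.card (Q₀.map φ) = 32 := by
    have h1 : Nat.card (Q₀.map φ) = Nat.card Q₀ :=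
      Nat.card_congr (Q₀.equivMapOfInjective φ φinj).toEquiv.symm
    have h2 : Nat.card (Q₀.map (centralizer ({z} : Set K)).subtype) = Nat.card Q₀ :=
      Nat.card_congr (Q₀.equivMapOfInjective _ Subtype.val_injective).toEquiv.symm
    rw [h1, ← h2, hQ₀c, h.card]
  have clos : ∀ (S : Set ↥(centralizer ({z} : Set K))) (M : Subgroup K), M ≤ centralizer {z} →
      M = closure (((↑) : ↥(centralizer ({z} : Set K)) → K) '' S) →
      (M.subgroupOf (centralizer {z})).map φ = closure (φ '' S) := by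
    intro S M hM hMS
    have h1 : (M.subgroupOf (centralizer {z})) = closure S := by
      have hinj : Function.Injective (centralizer ({z} : Set K)).subtype := Subtype.val_injective
      apply Subgroup.map_injective hinj
      rw [subgroupOf_map_subtype, inf_eq_left.2 hM, MonoidHom.map_closure]
      exact hMS
    rw [h1, MonoidHom.map_closure]
  refine ⟨Q₀.map φ, φ ⟨i, hI⟩, φ ⟨j, hJ⟩, φ ⟨k, hK⟩, φ ⟨l, hL⟩, φ ⟨x₁, hX⟩, φ ⟨x₂, hY⟩, φ ⟨s, hS⟩, ?_⟩
  have act : ∀ {c i' j' k' l' : K} (hc : c ∈ centralizer ({z} : Set K)) (hi : i' ∈ centralizer ({z} : Set K))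
      (hj : j' ∈ centralizer ({z} : Set K)) (hk : k' ∈ centralizer ({z} : Set K))
      (hl : l' ∈ centralizer ({z} : Set K)), Act z i j k l c i' j' k' l' →
      Act t (φ ⟨i, hI⟩) (φ ⟨j, hJ⟩) (φ ⟨k, hK⟩) (φ ⟨l, hL⟩) (φ ⟨c, hc⟩) (φ ⟨i', hi⟩) (φ ⟨j', hj⟩)
        (φ ⟨k', hk⟩) (φ ⟨l', hl⟩) := by
    intro c i' j' k' l' hc hi hj hk hl ha
    refine ⟨?_, ?_, ?_, ?_, ?_⟩
    · rw [φcomm, mul_inv_cancel_right]
    · rw [← map_inv, ← map_mul, ← map_mul]; exact eqn ha.i
    · rw [← map_inv, ← map_mul, ← map_mul]; exact eqn ha.j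
    · rw [← map_inv, ← map_mul, ← map_mul]; exact eqn ha.k
    · rw [← map_inv, ← map_mul, ← map_mul]; exact eqn ha.l
  exact
    { large := large
      card := cardQ
      gen := by
        have h1 := clos {⟨i, hI⟩, ⟨j, hJ⟩, ⟨k, hK⟩, ⟨l, hL⟩} Q hQC (by
          simp only [Set.image_insert_eq, Set.image_singleton]
          exact h.gen)
        simpa only [Set.image_insert_eq, Set.image_singleton] using h1
      ii := by rw [← φz, ← map_mul]; exact eqn h.ii
      jj := by rw [← φz, ← map_mul]; exact eqn h.jj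
      kk := by rw [← φz, ← map_mul]; exact eqn h.kk
      ll := by rw [← φz, ← map_mul]; exact eqn h.ll
      ji := by rw [← φz, ← map_mul, ← map_mul, ← map_mul]; exact eqn h.ji
      lk := by rw [← φz, ← map_mul, ← map_mul, ← map_mul]; exact eqn h.lk
      ki := by rw [← map_mul, ← map_mul]; exact eqn h.ki
      li := by rw [← map_mul, ← map_mul]; exact eqn h.li
      kj := by rw [← map_mul, ← map_mul]; exact eqn h.kj
      lj := by rw [← map_mul, ← map_mul]; exact eqn h.lj
      x₁3 := by rw [← map_pow, hφ1]; exact h.x₁3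
      x₂3 := by rw [← map_pow, hφ1]; exact h.x₂3
      x₁_act := by
        have := act hX hJ (mul_mem hI hJ) hK hL h.x₁_act
        have e1 : φ ⟨i * j, mul_mem hI hJ⟩ = φ ⟨i, hI⟩ * φ ⟨j, hJ⟩ := by rw [← map_mul]; rfl
        rwa [e1] at this
      x₂_act := by
        have := act hY hI hJ hL (mul_mem hK hL) h.x₂_act
        have e1 : φ ⟨k * l, mul_mem hK hL⟩ = φ ⟨k, hK⟩ * φ ⟨l, hL⟩ := by rw [← map_mul]; rfl
        rwa [e1] at this
      s_act := act hS hK hL hI hJ h.s_act
      xx := by rw [← map_mul, ← map_mul]; exact eqn h.xx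
      s1 := by rw [← map_inv, ← map_mul, ← map_mul]; exact eqn h.s1
      s2 := by rw [← map_inv, ← map_mul, ← map_mul]; exact eqn h.s2
      ss := by
        rcases h.ss with h1 | h1
        · left; rw [← map_mul, hφ1]; exact h1
        · right; rw [← map_mul, hφz]; exact h1
      cent := by
        have h1 := clos {⟨i, hI⟩, ⟨j, hJ⟩, ⟨k, hK⟩, ⟨l, hL⟩, ⟨x₁, hX⟩, ⟨x₂, hY⟩, ⟨s, hS⟩}
          (centralizer {z}) le_rfl (by
          simp only [Set.image_insert_eq, Set.image_singleton]
          exact h.cent)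
        rw [subgroupOf_self, ← MonoidHom.range_eq_map, φran] at h1
        simpa only [Set.image_insert_eq, Set.image_singleton] using h1
      card_cent := by
        rw [Nat.card_congr e.toEquiv, h.card_cent] }

end transfer

end Cfsg.Agent.H314.CentTransfer
end

-- part: H314/PSp43Main
section
/-!
# Groups without subgroups of index two with an involution centralizer of type `Case9a` (helper314)

`main`: such a group is isomorphic to `PSp 2 F`, `|F| = 3`.
-/

set_option autoImplicit false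
set_option linter.style.haveILetI false

namespace Cfsg.Agent.H314.PSp43Main

open Cfsg.Agent.LargeExtra.Model Cfsg.Agent.LargeExtra.Pres Cfsg.Agent.LargeExtra.Models
open Cfsg.Agent.LargeExtra.W2 Cfsg.Agent.SmallExtra438.Model Cfsg.Agent.SmallExtra438.Frame
open Cfsg.Agent.SmallExtra438.NineA Cfsg.Agent.SmallExtra438.NineAWeak Cfsg.Agent.SmallExtra438.NineAGeo
open Cfsg.Agent.Co2Type.Quad Cfsg.Agent.LargeExtra.Base Cfsg.Agent.LargeExtra.WCEnd
open Cfsg.Agent.H314.CentTransfer
open Subgroup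
open scoped commutatorElement

universe u

variable {G : Type u} [Group G]

section large

variable {Q : Subgroup G} {z : G}

/-- A nontrivial subgroup of `C(z)` normalised by `Q` contains `z`. -/
theorem z_mem_of_normal (hl : Large Q z) {D : Subgroup G} (hD : ∀ d ∈ D, d * z = z * d)
    (hn : ∀ q ∈ Q, ∀ d ∈ D, q * d * q⁻¹ ∈ D) (hne : D ≠ ⊥) : z ∈ D := by
  obtain ⟨d, hd, hd1⟩ : ∃ d ∈ D, d ≠ 1 := by
    by_contra hcon
    push Not at hcon
    exact hne ((Subgroup.eq_bot_iff_forall _).2 hcon)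
  by_cases hall : ∀ q ∈ Q, d * q = q * d
  · rcases eq_of_comm hl hall with h | h
    · exact absurd h hd1
    · rw [← h]; exact hd
  · push Not at hall
    obtain ⟨q, hq, hdq⟩ := hall
    set c := d * q * d⁻¹ * q⁻¹ with hc
    have hcQ : c ∈ Q := mul_mem (hl.conj_mem d (hD d hd) q hq) (inv_mem hq)
    have hcD : c ∈ D := by
      have : c = d * (q * d⁻¹ * q⁻¹) := by rw [hc]; group
      rw [this]
      exact mul_mem hd (hn q hq _ (inv_mem hd))
    have hc1 : c ≠ 1 := by
      intro h
      apply hdq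
      calc d * q = (d * q * d⁻¹ * q⁻¹) * q * d := by group
        _ = q * d := by rw [← hc, h, one_mul]
    by_cases hcz : c = z
    · rw [← hcz]; exact hcD
    · have h1 : ¬ ∀ y ∈ Q, c * y = y * c := by
        intro h
        rcases hl.cent c hcQ h with h2 | h2
        · exact hc1 h2
        · exact hcz h2
      push Not at h1
      obtain ⟨y, hy, hcy⟩ := h1
      have h2 : c * y = y * c * z := (hl.comm c hcQ y hy).resolve_left hcy
      have h3 : z = c⁻¹ * (y⁻¹ * c * y) := by
        calc z = c⁻¹ * (y⁻¹ * (y * c * z)) := by group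
          _ = c⁻¹ * (y⁻¹ * c * y) := by rw [← h2]; group
      rw [h3]
      have h4 := hn y⁻¹ (inv_mem hy) c hcD
      rw [inv_inv] at h4
      exact mul_mem (inv_mem hcD) h4

/-- no normal subgroup of odd order -/
theorem odd_normal_eq_bot [Finite G] (hl : Large Q z)
    (hc : ∃ g, g * z * g⁻¹ ≠ z ∧ g * z * g⁻¹ * z = z * (g * z * g⁻¹)) {W : Subgroup G} (hW : W.Normal)
    (hodd : Odd (Nat.card W)) : W = ⊥ := by
  have hQC : ∀ q ∈ Q, q * z = z * q := hl.comm_z
  have two : ∀ w ∈ W, w * w = 1 → w = 1 := by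
    intro w hw hww
    have h1 : orderOf (⟨w, hw⟩ : W) ∣ 2 := orderOf_dvd_of_pow_eq_one (Subtype.ext (by simpa [pow_two] using hww))
    have h2 : orderOf (⟨w, hw⟩ : W) ∣ Nat.card W := orderOf_dvd_natCard _
    have h3 : orderOf (⟨w, hw⟩ : W) ∣ 1 := by
      have := Nat.dvd_gcd h1 h2
      rwa [Nat.Coprime.gcd_eq_one (Nat.coprime_two_left.2 hodd)] at this
    have h4 : (⟨w, hw⟩ : W) = 1 := by
      rw [← orderOf_eq_one_iff]; exact Nat.dvd_one.1 h3
    exact congrArg Subtype.val h4
  -- `C_W(z) = 1`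
  have hCW : W ⊓ centralizer {z} = ⊥ := by
    by_contra hne
    have h1 := z_mem_of_normal hl (D := W ⊓ centralizer {z})
      (fun d hd => mem_centralizer_singleton_iff.1 hd.2)
      (fun q hq d hd => Subgroup.mem_inf.2 ⟨hW.conj_mem d hd.1 q, mem_centralizer_singleton_iff.2 <| by
        have e1 := hQC q hq
        have e2 := mem_centralizer_singleton_iff.1 hd.2
        have e3 : q⁻¹ * z = z * q⁻¹ := ((show Commute q z from e1).inv_left).eq
        calc q * d * q⁻¹ * z = q * d * (q⁻¹ * z) := by group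
          _ = q * (d * z) * q⁻¹ := by rw [e3]; group
          _ = (q * z) * d * q⁻¹ := by rw [e2]; group
          _ = z * (q * d * q⁻¹) := by rw [e1]; group⟩) hne
    exact hl.z_ne (two z h1.1 hl.z_sq)
  -- `z` inverts `W`
  have hinv : ∀ w ∈ W, z * w * z⁻¹ = w⁻¹ := by
    let φ : W →* W := (MulAut.conjNormal z : MulAut W).toMonoidHom
    have hφ : ∀ w : W, ((φ w : W) : G) = z * w * z⁻¹ := fun w => MulAut.conjNormal_apply z w
    have hfix : MonoidHom.FixedPointFree φ := by
      intro w hw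
      have h1 : z * w * z⁻¹ = w := by rw [← hφ, hw]
      have h2 : (w : G) ∈ W ⊓ centralizer {z} := Subgroup.mem_inf.2 ⟨w.2, mem_centralizer_singleton_iff.2 <| by
        calc (w : G) * z = (z * w * z⁻¹) * z := by rw [h1]
          _ = z * w := by group⟩
      rw [hCW, Subgroup.mem_bot] at h2
      exact Subtype.ext h2
    have hinvol : Function.Involutive φ := by
      intro w
      apply Subtype.ext
      rw [hφ, hφ]
      calc z * (z * (w : G) * z⁻¹) * z⁻¹ = (z * z) * w * (z * z)⁻¹ := by group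
        _ = w := by rw [hl.z_sq]; group
    have h3 := hfix.coe_eq_inv_of_involutive hinvol
    intro w hw
    have h4 := congrFun h3 ⟨w, hw⟩
    have h5 := congrArg (Subtype.val) h4
    rw [hφ] at h5
    exact h5
  obtain ⟨g, hg1, hg2⟩ := hc
  set t := g * z * g⁻¹ with ht
  have hinv' : ∀ w ∈ W, t * w * t⁻¹ = w⁻¹ := by
    intro w hw
    have h1 : g⁻¹ * w * g ∈ W := by
      have := hW.conj_mem w hw g⁻¹
      rwa [inv_inv] at this
    have h2 := hinv _ h1
    calc t * w * t⁻¹ = g * (z * (g⁻¹ * w * g) * z⁻¹) * g⁻¹ := by rw [ht]; group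
      _ = w⁻¹ := by rw [h2]; group
  -- `z t` centralises `W`
  set D := centralizer (W : Set G) ⊓ centralizer {z} with hDdef
  have hu : z * t ∈ D := by
    refine Subgroup.mem_inf.2 ⟨mem_centralizer_iff.2 ?_, mem_centralizer_singleton_iff.2 ?_⟩
    · intro w hw
      have h1 : z * t * w * (z * t)⁻¹ = w := by
        calc z * t * w * (z * t)⁻¹ = z * (t * w * t⁻¹) * z⁻¹ := by group
          _ = w := by rw [hinv' w hw, hinv _ (inv_mem hw), inv_inv]
      calc w * (z * t) = (z * t * w * (z * t)⁻¹) * (z * t) := by rw [h1]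
        _ = z * t * w := by group
    · calc z * t * z = z * (t * z) := by group
        _ = z * (z * t) := by rw [hg2]
  have hDne : D ≠ ⊥ := by
    intro h
    rw [h, Subgroup.mem_bot] at hu
    apply hg1
    have : t = z⁻¹ := (inv_eq_of_mul_eq_one_right hu).symm
    rw [this]; exact hl.z_inv
  have hzD := z_mem_of_normal hl (D := D) (fun d hd => mem_centralizer_singleton_iff.1 hd.2)
      (fun q hq d hd => Subgroup.mem_inf.2 ⟨mem_centralizer_iff.2 <| by
        intro w hw
        have h1 : q⁻¹ * w * q ∈ W := by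
          have := hW.conj_mem w hw q⁻¹
          rwa [inv_inv] at this
        have h2 := mem_centralizer_iff.1 hd.1 _ h1
        calc w * (q * d * q⁻¹) = q * ((q⁻¹ * w * q) * d) * q⁻¹ := by group
          _ = q * d * q⁻¹ * w := by rw [h2]; group, mem_centralizer_singleton_iff.2 <| by
        have e1 := hQC q hq
        have e2 := mem_centralizer_singleton_iff.1 hd.2
        have e3 : q⁻¹ * z = z * q⁻¹ := ((show Commute q z from e1).inv_left).eq
        calc q * d * q⁻¹ * z = q * d * (q⁻¹ * z) := by group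
          _ = q * (d * z) * q⁻¹ := by rw [e3]; group
          _ = (q * z) * d * q⁻¹ := by rw [e2]; group
          _ = z * (q * d * q⁻¹) := by rw [e1]; group⟩) hDne
  rw [Subgroup.eq_bot_iff_forall]
  intro w hw
  apply two w hw
  have h1 := mem_centralizer_iff.1 hzD.1 w hw
  have h2 := hinv w hw
  have h3 : w = w⁻¹ := by
    calc w = w * z * z⁻¹ := by group
      _ = z * w * z⁻¹ := by rw [h1]
      _ = w⁻¹ := h2
  calc w * w = w * w⁻¹ := by rw [← h3]
    _ = 1 := mul_inv_cancel w

end large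

section nine

variable {Q : Subgroup G} {z i j k l x₁ x₂ s : G}

theorem x_ne [Finite G] (h : Case9a Q z i j k l x₁ x₂ s) : x₂ ≠ x₁ := by
  intro he
  have h1 := h.x₁_act.i
  have h2 := h.x₂_act.i
  rw [he, h1] at h2
  have h3 := h.ji
  rw [h2] at h3
  have h4 : i * i * 1 = i * i * z := by rw [mul_one]; exact h3
  exact h.large.z_ne (mul_left_cancel h4).symm

/-- no normal 2-subgroup -/
theorem two_normal_eq_bot [Finite G] (h : Case9a Q z i j k l x₁ x₂ s) (hs : s * s = 1)
    (hc : ∃ g, g * z * g⁻¹ ≠ z ∧ g * z * g⁻¹ * z = z * (g * z * g⁻¹)) {W : Subgroup G} (hW : W.Normal)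
    (h2 : IsPGroup 2 W) : W = ⊥ := by
  have : Fact (Nat.Prime 2) := ⟨Nat.prime_two⟩
  by_contra hne
  obtain ⟨T, -, hTC⟩ := exists_sylow h.large
  have hWT : W ≤ T := by
    obtain ⟨P, hP⟩ := h2.exists_le_sylow
    obtain ⟨g, hg⟩ := MulAction.exists_smul_eq G P T
    intro w hw
    have h3 : g⁻¹ * w * g ∈ (P : Subgroup G) := by
      have := hW.conj_mem w hw g⁻¹
      rw [inv_inv] at this
      exact hP this
    have h4 : w ∈ ((g • P : Sylow 2 G) : Subgroup G) := by
      rw [Sylow.coe_subgroup_smul, Subgroup.mem_pointwise_smul_iff_inv_smul_mem]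
      have h5 : (MulAut.conj g)⁻¹ • w = g⁻¹ * w * g := by
        rw [← map_inv]
        simp [MulAut.smul_def]
      rw [h5]; exact h3
    rw [hg] at h4
    exact h4
  have hWC : ∀ w ∈ W, w * z = z * w := fun w hw => mem_centralizer_singleton_iff.1 (hTC (hWT hw))
  have hzW : z ∈ W := z_mem_of_normal h.large hWC (fun q _ d hd => hW.conj_mem d hd q) hne
  obtain ⟨g, hg1, hg2⟩ := hc
  have htW : g * z * g⁻¹ ∈ W := hW.conj_mem z hzW g
  have htQ : g * z * g⁻¹ ∉ Q := fun hm => hg1 (weak h hs hm)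
  have htt : g * z * g⁻¹ * (g * z * g⁻¹) = 1 := by
    calc g * z * g⁻¹ * (g * z * g⁻¹) = g * (z * z) * g⁻¹ := by group
      _ = 1 := by rw [h.large.z_sq]; group
  obtain ⟨i', j', k', l', x₁', x₂', K⟩ := exists_frame h hs hg2 htt htQ
  set t := g * z * g⁻¹ with ht
  have h5 : x₂' * x₁'⁻¹ ∈ W := by
    have h6 : x₁' * t⁻¹ * x₁'⁻¹ ∈ W := hW.conj_mem _ (inv_mem htW) x₁'
    have h7 : x₂' * x₁'⁻¹ = t * (x₁' * t⁻¹ * x₁'⁻¹) := by
      rw [← K.s1]; group
    rw [h7]
    exact mul_mem htW h6
  have h8 : (x₂' * x₁'⁻¹) ^ 3 = 1 := by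
    have hcm : Commute x₂' x₁'⁻¹ := ((show Commute x₁' x₂' from K.xx).inv_left).symm
    rw [hcm.mul_pow, inv_pow, K.x₁3, K.x₂3]; simp
  obtain ⟨n, hn⟩ := h2 ⟨_, h5⟩
  have hn' : (x₂' * x₁'⁻¹) ^ 2 ^ n = 1 := congrArg Subtype.val hn
  have h9 : orderOf (x₂' * x₁'⁻¹) ∣ 1 := by
    have h10 := Nat.dvd_gcd (orderOf_dvd_of_pow_eq_one h8) (orderOf_dvd_of_pow_eq_one hn')
    rwa [Nat.Coprime.gcd_eq_one (Nat.Coprime.pow_right n (by norm_num))] at h10
  have h11 : x₂' * x₁'⁻¹ = 1 := orderOf_eq_one_iff.1 (Nat.dvd_one.1 h9)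
  exact x_ne K (mul_inv_eq_one.1 h11)

theorem km_small : ∀ a < 9, ∀ b < 9, km a b < 9 := by decide +kernel
theorem km_big : ∀ a < 9, ∀ b < 18, 9 ≤ b → 9 ≤ km a b := by decide +kernel
theorem km_s : ∀ a < 18, 9 ≤ a → km a 9 < 9 := by decide +kernel

theorem mm_div {t : ℕ} (ht : t = 0 ∨ t = 16) {m n : ℕ} (hm : m < 576) (hn : n < 576) :
    mm t m n / 32 = km (m / 32) (n / 32) := by
  have h1 : act (m / 32) (n % 32) < 32 := act_lt _ (by omega) _ (by omega)
  have h2 : qm (m % 32) (act (m / 32) (n % 32)) < 32 := qm_lt _ (by omega) _ h1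
  have h4 : t * ((m / 32) / 9 * ((n / 32) / 9)) = 0 ∨ t * ((m / 32) / 9 * ((n / 32) / 9)) = 16 := by
    have e1 : m / 32 / 9 = 0 ∨ m / 32 / 9 = 1 := by omega
    have e2 : n / 32 / 9 = 0 ∨ n / 32 / 9 = 1 := by omega
    rcases ht with rfl | rfl <;> rcases e1 with e1 | e1 <;> rcases e2 with e2 | e2 <;> simp [e1, e2]
  have h5 := (qm_t _ h2 _ h4).2
  unfold mm
  omega

/-- `C(z)` has a subgroup of index two -/
theorem exists_index_two [Finite G] (h : Case9a Q z i j k l x₁ x₂ s) :
    ∃ H : Subgroup ↥(centralizer ({z} : Set G)), H.index = 2 := by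
  obtain ⟨t, ht, hs⟩ := exists_t h
  have hmul : ∀ {m n : ℕ}, m < 576 → n < 576 →
      F z i j k l x₁ x₂ s (mm t m n) = F z i j k l x₁ x₂ s m * F z i j k l x₁ x₂ s n :=
    fun hm hn => F_mul h ht hs hm hn
  let H : Subgroup ↥(centralizer ({z} : Set G)) :=
    { carrier := {c | ∃ m < 288, F z i j k l x₁ x₂ s m = c}
      one_mem' := ⟨0, by norm_num, F_0⟩
      mul_mem' := by
        rintro ⟨a, ha⟩ ⟨b, hb⟩ ⟨m, hm, h1⟩ ⟨n, hn, h2⟩
        have h3 := km_small (m / 32) (by omega) (n / 32) (by omega)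
        have h4 := mm_div ht (m := m) (n := n) (by omega) (by omega)
        refine ⟨mm t m n, by omega, ?_⟩
        rw [hmul (by omega) (by omega), h1, h2]
        rfl
      inv_mem' := by
        rintro ⟨a, ha⟩ ⟨m, hm, h1⟩
        have h1' : F z i j k l x₁ x₂ s m = a := h1
        have hai : a⁻¹ * z = z * a⁻¹ :=
          ((show Commute a z from mem_centralizer_singleton_iff.1 ha).inv_left).eq
        obtain ⟨n, hn, h2⟩ := exists_code h hai
        refine ⟨n, ?_, h2⟩
        by_contra hcon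
        have h3 := km_big (m / 32) (by omega) (n / 32) (by omega) (by omega)
        have h4 := mm_div ht (m := m) (n := n) (by omega) (by omega)
        have h5 : mm t m n < 576 := mm_lt ht (by omega) hn
        have h6 : mm t m n = 0 := by
          apply F_inj h h5 (by norm_num)
          rw [hmul (by omega) hn, h1', h2, mul_inv_cancel, F_0]
        omega }
  refine ⟨H, ?_⟩
  rw [index_eq_two_iff_exists_notMem_and]
  have hsC : s ∈ centralizer ({z} : Set G) := comm_of_mem h (by simp)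
  refine ⟨⟨s, hsC⟩, ?_, ?_⟩
  · rintro ⟨m, hm, h1⟩
    have h2 := F_inj h (m := m) (n := 288) (by omega) (by norm_num) (by rw [F_288]; exact h1)
    omega
  · rintro ⟨b, hb⟩
    obtain ⟨m, hm, rfl⟩ := exists_code h (mem_centralizer_singleton_iff.1 hb)
    by_cases h1 : m < 288
    · right; exact ⟨m, h1, rfl⟩
    · left
      have h3 := km_s (m / 32) (by omega) (by omega)
      have h4 := mm_div ht (m := m) (n := 288) (by omega) (by omega)
      refine ⟨mm t m 288, ?_, ?_⟩
      · have : (288 : ℕ) / 32 = 9 := by norm_num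
        rw [this] at h4
        omega
      · rw [hmul hm (by norm_num), F_288]
        rfl

/-- `z` is not isolated -/
theorem exists_conj [Finite G] (h : Case9a Q z i j k l x₁ x₂ s) (hG : ∀ H : Subgroup G, H.index ≠ 2) :
    ∃ g, g * z * g⁻¹ ≠ z ∧ g * z * g⁻¹ * z = z * (g * z * g⁻¹) := by
  have : Fact (Nat.Prime 2) := ⟨Nat.prime_two⟩
  by_contra hcon
  push Not at hcon
  have hiso : Cfsg.IsIsolatedInvolution z := by
    refine ⟨orderOf_z h.large, fun g hg => ?_⟩
    by_contra hne
    exact hcon g hne hg.symm.eq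
  have h1 : Cfsg.pResidual 2 G = ⊤ := by
    by_contra hne
    obtain ⟨n, hn⟩ := Cfsg.Agent.Transfer.Residual.exists_index_pResidual_eq_pow (G := G) 2
    have hnorm : (Cfsg.pResidual 2 G).Normal := Cfsg.Agent.Transfer.Residual.pResidual_normal 2
    have hp : IsPGroup 2 (G ⧸ Cfsg.pResidual 2 G) := by
      apply IsPGroup.of_card (n := n)
      rw [← hn]
      rfl
    have hn0 : n ≠ 0 := by
      rintro rfl
      rw [pow_zero, Subgroup.index_eq_one] at hn
      exact hne hn
    have hcard : Nat.card (G ⧸ Cfsg.pResidual 2 G) = 2 ^ n := hn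
    obtain ⟨M, hM⟩ := Sylow.exists_subgroup_card_pow_prime 2 (n := n - 1) (G := G ⧸ Cfsg.pResidual 2 G)
      (by rw [hcard]; exact pow_dvd_pow 2 (by omega))
    have hMi : M.index = 2 := by
      have h2 := M.card_mul_index
      rw [hM, hcard] at h2
      have h3 : 2 ^ n = 2 ^ (n - 1) * 2 := by rw [← pow_succ]; congr 1; omega
      rw [h3] at h2
      exact Nat.eq_of_mul_eq_mul_left (by positivity) h2
    apply hG (M.comap (QuotientGroup.mk' _))
    rw [index_comap_of_surjective _ (QuotientGroup.mk'_surjective _), hMi]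
  have h2 := (Cfsg.Agent.S1183.result z hiso).1 h1
  obtain ⟨H, hH⟩ := exists_index_two h
  have h3 := Cfsg.Agent.LFourB.CyclicQuot.pResidual_le_of_index_two H hH
  rw [h2, top_le_iff] at h3
  rw [h3, index_top] at hH
  norm_num at hH

theorem split [Finite G] (h : Case9a Q z i j k l x₁ x₂ s)
    (hc : ∃ g, g * z * g⁻¹ ≠ z ∧ g * z * g⁻¹ * z = z * (g * z * g⁻¹)) : s * s = 1 := by
  rcases h.ss with hs | hs
  · exact hs
  · exfalso
    obtain ⟨g, hg1, hg2⟩ := hc
    have zz := h.large.z_sq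
    have h1 : g * z * g⁻¹ ∈ Q := by
      refine twisted_mem h hs hg2 ?_
      calc g * z * g⁻¹ * (g * z * g⁻¹) = g * (z * z) * g⁻¹ := by group
        _ = 1 := by rw [zz]; group
    exact hg1 (twisted_weak h hs h1)

/-! ### the normal closure of `z` -/

section closure

variable [Finite G] (h : Case9a Q z i j k l x₁ x₂ s) (hs : s * s = 1)
  (hc : ∃ g, g * z * g⁻¹ ≠ z ∧ g * z * g⁻¹ * z = z * (g * z * g⁻¹))
include h hs hc

/-- we may choose the frame such that `s` is conjugate to `z` -/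
theorem exists_frame_conj : ∃ (i' j' k' l' x₁' x₂' s' : G), Case9a Q z i' j' k' l' x₁' x₂' s' ∧ s' * s' = 1 ∧
    IsConj z s' := by
  obtain ⟨g, hg1, hg2⟩ := hc
  have htQ : g * z * g⁻¹ ∉ Q := fun hm => hg1 (weak h hs hm)
  have htt : g * z * g⁻¹ * (g * z * g⁻¹) = 1 := by
    calc g * z * g⁻¹ * (g * z * g⁻¹) = g * (z * z) * g⁻¹ := by group
      _ = 1 := by rw [h.large.z_sq]; group
  obtain ⟨i', j', k', l', x₁', x₂', K⟩ := exists_frame h hs hg2 htt htQ
  exact ⟨i', j', k', l', x₁', x₂', _, K, htt, isConj_iff.2 ⟨g, rfl⟩⟩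

end closure

theorem closure_normal (z : G) : (closure (PP z)).Normal := by
  constructor
  intro n hn g
  induction hn using Subgroup.closure_induction with
  | mem x hx => exact Subgroup.subset_closure ((show IsConj z x from hx).trans (isConj_iff.2 ⟨g, rfl⟩))
  | one => rw [mul_one, mul_inv_cancel]; exact Subgroup.one_mem _
  | mul x y _ _ hx hy =>
    have e : g * (x * y) * g⁻¹ = (g * x * g⁻¹) * (g * y * g⁻¹) := by group
    rw [e]; exact Subgroup.mul_mem _ hx hy
  | inv x _ hx =>
    have e : g * x⁻¹ * g⁻¹ = (g * x * g⁻¹)⁻¹ := by group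
    rw [e]; exact Subgroup.inv_mem _ hx

section closure

variable [Finite G] (h : Case9a Q z i j k l x₁ x₂ s) (hs : s * s = 1) (hzs : IsConj z s)
include h hs hzs

theorem gen_mem_closure : i ∈ closure (PP z) ∧ j ∈ closure (PP z) ∧ k ∈ closure (PP z) ∧ l ∈ closure (PP z) ∧
    s ∈ closure (PP z) := by
  have hn := closure_normal z
  have hsM : s ∈ closure (PP z) := subset_closure hzs
  have hik : k * i⁻¹ ∈ closure (PP z) := by
    have h1 : i * s⁻¹ * i⁻¹ ∈ closure (PP z) := hn.conj_mem _ (inv_mem hsM) i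
    have h2 : k * i⁻¹ = s * (i * s⁻¹ * i⁻¹) := by rw [← h.s_act.i]; group
    rw [h2]; exact mul_mem hsM h1
  have hjk : k * j⁻¹ ∈ closure (PP z) := by
    have h1 := hn.conj_mem _ hik x₁
    have h2 : x₁ * (k * i⁻¹) * x₁⁻¹ = k * j⁻¹ := by
      calc x₁ * (k * i⁻¹) * x₁⁻¹ = (x₁ * k * x₁⁻¹) * (x₁ * i * x₁⁻¹)⁻¹ := by group
        _ = k * j⁻¹ := by rw [h.x₁_act.k, h.x₁_act.i]
    rwa [h2] at h1
  have hij : i * j⁻¹ ∈ closure (PP z) := by
    have h1 := mul_mem (inv_mem hik) hjk
    have h2 : (k * i⁻¹)⁻¹ * (k * j⁻¹) = i * j⁻¹ := by group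
    rwa [h2] at h1
  have hi : i ∈ closure (PP z) := by
    have h1 := hn.conj_mem _ hij x₁
    have h2 : x₁ * (i * j⁻¹) * x₁⁻¹ = i⁻¹ := by
      have hj' := h.x₁_act.j
      calc x₁ * (i * j⁻¹) * x₁⁻¹ = (x₁ * i * x₁⁻¹) * (x₁ * j * x₁⁻¹)⁻¹ := by group
        _ = i⁻¹ := by rw [h.x₁_act.i, hj']; group
    rw [h2] at h1
    have h3 := inv_mem h1
    rwa [inv_inv] at h3
  have hj : j ∈ closure (PP z) := by
    rw [← h.x₁_act.i]; exact hn.conj_mem _ hi x₁
  refine ⟨hi, hj, ?_, ?_, hsM⟩
  · rw [← h.s_act.i]; exact hn.conj_mem _ hi s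
  · rw [← h.s_act.j]; exact hn.conj_mem _ hj s

theorem Q_le : Q ≤ closure (PP z) := by
  obtain ⟨hi, hj, hk, hl, -⟩ := gen_mem_closure h hs hzs
  conv_lhs => rw [h.gen]
  rw [closure_le]
  rintro g hg
  simp only [Set.mem_insert_iff, Set.mem_singleton_iff] at hg
  rcases hg with rfl | rfl | rfl | rfl
  · exact hi
  · exact hj
  · exact hk
  · exact hl

/-- a Sylow 2-subgroup of `G` contained in the normal closure of `z` -/
theorem exists_sylow_le : ∃ T : Sylow 2 G, Q ≤ T ∧ (T : Subgroup G) ≤ closure (PP z) ∧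
    (T : Subgroup G) ≤ centralizer {z} := by
  have : Fact (Nat.Prime 2) := ⟨Nat.prime_two⟩
  have hsz : s * z = z * s := mem_centralizer_singleton_iff.1 (comm_of_mem h (by simp))
  have hsn : ∀ q ∈ Q, s * q * s⁻¹ ∈ Q := h.large.conj_mem s hsz
  have hsi : s⁻¹ = s := inv_eq_of_mul_eq_one_left hs
  have hsQ : s ∉ Q := s_notMem h hs
  obtain ⟨hi, hj, hk, hl, hsM⟩ := gen_mem_closure h hs hzs
  let T : Subgroup G :=
    { carrier := {g | g ∈ Q ∨ s * g ∈ Q}
      one_mem' := Or.inl (one_mem Q)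
      mul_mem' := by
        rintro a b (ha | ha) (hb | hb)
        · exact Or.inl (mul_mem ha hb)
        · right
          have h1 : s * (a * b) = (s * a * s⁻¹) * (s * b) := by group
          rw [h1]; exact mul_mem (hsn a ha) hb
        · right
          have h1 : s * (a * b) = (s * a) * b := by group
          rw [h1]; exact mul_mem ha hb
        · left
          have h1 : a * b = (s * (s * a) * s⁻¹) * (s * b) := by
            calc a * b = (s * s) * a * b := by rw [hs, one_mul]
              _ = (s * (s * a) * s⁻¹) * (s * b) := by group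
          rw [h1]; exact mul_mem (hsn _ ha) hb
      inv_mem' := by
        rintro a (ha | ha)
        · exact Or.inl (inv_mem ha)
        · right
          have h1 : s * a⁻¹ = s * ((s * a)⁻¹) * s⁻¹ := by
            rw [hsi]
            calc s * a⁻¹ = s * a⁻¹ * (s⁻¹ * s) := by group
              _ = s * (a⁻¹ * s⁻¹) * s := by group
              _ = s * (s * a)⁻¹ * s := by group
          rw [h1]
          exact hsn _ (inv_mem ha) }
  have hQT : Q ≤ T := fun g hg => Or.inl hg
  have hsT : s ∈ T := Or.inr (by rw [hs]; exact one_mem Q)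
  have hTC : T ≤ centralizer {z} := by
    rintro g (hg | hg)
    · exact mem_centralizer_singleton_iff.2 (h.large.comm_z g hg)
    · have h1 := h.large.comm_z _ hg
      rw [mem_centralizer_singleton_iff]
      calc g * z = s⁻¹ * (s * g * z) := by group
        _ = (s⁻¹ * z) * (s * g) := by rw [h1]; group
        _ = z * g := by rw [hsi, hsz]; calc z * s * (s * g) = z * (s * s) * g := by group
                          _ = z * g := by rw [hs, mul_one]
  have hTM : T ≤ closure (PP z) := by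
    rintro g (hg | hg)
    · exact Q_le h hs hzs hg
    · have h1 : g = s * (s * g) := by
        rw [← mul_assoc, hs, one_mul]
      rw [h1]
      exact mul_mem hsM (Q_le h hs hzs hg)
  have hrel : Q.relIndex T = 2 := by
    rw [relIndex, index_eq_two_iff_exists_notMem_and']
    refine ⟨⟨s, hsT⟩, fun hm => hsQ hm, ?_⟩
    rintro ⟨b, hb | hb⟩
    · right; exact hb
    · left; exact hb
  have hcard : Nat.card T = 64 := by
    have h1 : Nat.card Q * Q.relIndex T = Nat.card T := by
      rw [← relIndex_bot_left (H := Q), ← relIndex_bot_left (H := T)]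
      exact relIndex_mul_relIndex _ _ _ bot_le hQT
    rw [h.card, hrel] at h1
    omega
  have hidx : ¬ 2 ∣ T.index := by
    have h1 := T.card_mul_index
    have h2 := (centralizer ({z} : Set G)).card_mul_index
    rw [h.card_cent] at h2
    rw [hcard] at h1
    obtain ⟨n, hn⟩ := Cfsg.Agent.LargeExtra.TwoCentral.odd_index h.large
    intro h3
    obtain ⟨m, hm⟩ := h3
    rw [hn] at h2
    rw [hm] at h1
    omega
  have hTp : IsPGroup 2 T := IsPGroup.of_card (n := 6) (by rw [hcard]; norm_num)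
  exact ⟨hTp.toSylow hidx, hQT, hTM, hTC⟩

/-- `G = N C(z)` -/
theorem frattini (g : G) : ∃ m ∈ closure (PP z), m * z * m⁻¹ = g * z * g⁻¹ := by
  have : Fact (Nat.Prime 2) := ⟨Nat.prime_two⟩
  obtain ⟨T, hQT, hTM, hTC⟩ := exists_sylow_le h hs hzs
  have hn := closure_normal z
  have h1 := Sylow.normalizer_sup_eq_top (T.subtype hTM)
  have h2 : ((T.subtype hTM : Sylow 2 ↥(closure (PP z))) : Subgroup ↥(closure (PP z))).map
      (closure (PP z)).subtype = T := by
    rw [Sylow.coe_subtype, subgroupOf_map_subtype, inf_eq_left]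
    exact hTM
  rw [h2] at h1
  have hg : g⁻¹ ∈ normalizer ((T : Subgroup G) : Set G) ⊔ closure (PP z) := by rw [h1]; trivial
  obtain ⟨y, hy, m, hm, hym⟩ := Subgroup.mem_sup_of_normal_right.1 hg
  have hmz : y * z * y⁻¹ = z := by
    have hyi : ∀ x, x ∈ (T : Subgroup G) → y⁻¹ * x * y ∈ (T : Subgroup G) := by
      intro x hx
      have h3 := (Subgroup.mem_normalizer_iff.1 (inv_mem hy) x).1 hx
      rwa [inv_inv] at h3
    have h4 : y * z * y⁻¹ ≠ 1 := by
      intro he
      apply h.large.z_ne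
      calc z = y⁻¹ * (y * z * y⁻¹) * y := by group
        _ = 1 := by rw [he]; group
    refine (eq_of_comm h.large ?_).resolve_left h4
    intro x hx
    have h5 := mem_centralizer_singleton_iff.1 (hTC (hyi x (hQT hx)))
    calc y * z * y⁻¹ * x = y * (z * (y⁻¹ * x * y)) * y⁻¹ := by group
      _ = x * (y * z * y⁻¹) := by rw [← h5]; group
  refine ⟨m⁻¹, inv_mem hm, ?_⟩
  have h6 : g = m⁻¹ * y⁻¹ := by
    rw [← mul_inv_rev, hym, inv_inv]
  have h7 : y⁻¹ * z * y = z := by
    calc y⁻¹ * z * y = y⁻¹ * (y * z * y⁻¹) * y := by rw [hmz]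
      _ = z := by group
  rw [h6]
  calc m⁻¹ * z * m⁻¹⁻¹ = m⁻¹ * (y⁻¹ * z * y) * m := by rw [h7]; group
    _ = m⁻¹ * y⁻¹ * z * (m⁻¹ * y⁻¹)⁻¹ := by group

end closure

end nine

/-! ### The theorem -/

theorem perm_not {M : Type*} [Group M] (hp : commutator M = ⊤) {n : ℕ} (hn : 2 ≤ n)
    (e : M ≃* Equiv.Perm (Fin n)) : False := by
  have h0 : (0 : ℕ) < n := by omega
  have h1 : (1 : ℕ) < n := by omega
  set a : Fin n := ⟨0, h0⟩
  set b : Fin n := ⟨1, h1⟩
  have hab : a ≠ b := by intro e; exact absurd (congrArg Fin.val e) (by norm_num [a, b])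
  let f : M →* ℤˣ := (Equiv.Perm.sign).comp e.toMonoidHom
  have h2 : commutator M ≤ f.ker := Abelianization.commutator_subset_ker f
  rw [hp] at h2
  have h3 : f (e.symm (Equiv.swap a b)) = 1 := MonoidHom.mem_ker.1 (h2 (Subgroup.mem_top _))
  have h4 : f (e.symm (Equiv.swap a b)) = Equiv.Perm.sign (Equiv.swap a b) := by
    change Equiv.Perm.sign (e (e.symm (Equiv.swap a b))) = _
    rw [e.apply_symm_apply]
  rw [h4, Equiv.Perm.sign_swap hab] at h3
  exact absurd h3 (by decide)

/-- a solvable normal subgroup of a normal subgroup gives a normal `p`-subgroup -/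
theorem exists_normal_p [Finite G] (M : Subgroup G) (hM : M.Normal) (A : Subgroup M) (hA : A.Normal)
    (hAs : Group.IsSolvable A) (hne : A ≠ ⊥) :
    ∃ (p : ℕ) (W : Subgroup G), p.Prime ∧ W.Normal ∧ IsPGroup p W ∧ W ≠ ⊥ := by
  have : Nontrivial A := (Subgroup.nontrivial_iff_ne_bot A).2 hne
  obtain ⟨p, hp, N, hNc, -, hNp, hN1⟩ := Cfsg.Agent.Lib.SolvableMinNormal.exists_characteristic_pgroup (G := A)
  have : Fact p.Prime := ⟨hp⟩
  have hN2 : (N.map A.subtype).Normal := inferInstance
  have h1 : N.map A.subtype ≤ Cfsg.pCore p M := le_sSup ⟨hN2, hNp.map _⟩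
  have hchar := Cfsg.Agent.Lib.Cores.pCore_characteristic (G := M) p
  refine ⟨p, (Cfsg.pCore p M).map M.subtype, hp, inferInstance,
    (Cfsg.Agent.Lib.Cores.pCore_isPGroup (G := M) p).map _, ?_⟩
  intro he
  rw [Subgroup.map_eq_bot_iff_of_injective _ M.subtype_injective] at he
  rw [he, le_bot_iff, Subgroup.map_eq_bot_iff_of_injective _ A.subtype_injective] at h1
  exact hN1 h1

theorem card_five {F : Type} [Field F] [Fintype F] (hF : Fintype.card F = 4) :
    Nat.card (Cfsg.PSU 5 F 2) = 13685760 := Cfsg.Agent.SmallExtra438.NineAGeo.card_psu_five hF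

/-- **Janko**: a group without subgroup of index two with an involution centralizer of type `PSp₄(3)` -/
theorem main {Q : Subgroup G} {z i j k l x₁ x₂ s : G} [Finite G] (h₀ : Case9a Q z i j k l x₁ x₂ s)
    (hG : ∀ H : Subgroup G, H.index ≠ 2) {K : Type*} [Field K] [Fintype K] (hK : Fintype.card K = 3) :
    Nonempty (G ≃* Cfsg.PSp 2 K) := by
  classical
  have hf2 : Fact (Nat.Prime 2) := ⟨Nat.prime_two⟩
  have hc := exists_conj h₀ hG
  have hs₀ := split h₀ hc
  obtain ⟨i', j', k', l', x₁', x₂', s', h, hs, hzs⟩ := exists_frame_conj h₀ hs₀ hc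
  clear h₀ hs₀
  have hg := geo h hs
  have hn := closure_normal z
  set M := closure (PP z) with hM
  have hzP : z ∈ PP z := IsConj.refl z
  have hzM : z ∈ M := subset_closure hzP
  obtain ⟨hi, hj, -, -, hsM⟩ := gen_mem_closure h hs hzs
  have hex : ∃ p ∈ PP z, ∃ t ∈ PP z, p ≠ t ∧ Commute p t := by
    obtain ⟨g, hg1, hg2⟩ := hc
    exact ⟨z, hzP, g * z * g⁻¹, isConj_iff.2 ⟨g, rfl⟩, hg1.symm, hg2.symm⟩
  -- the class of 3-transpositions
  set D : Set ↥M := {x | (x : G) ∈ PP z} with hD
  have hcl : closure D = ⊤ := by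
    apply Subgroup.map_injective M.subtype_injective
    rw [MonoidHom.map_closure, ← MonoidHom.range_eq_map, range_subtype]
    have h1 : (M.subtype '' D) = PP z := by
      ext x
      constructor
      · rintro ⟨y, hy, rfl⟩
        exact hy
      · intro hx
        exact ⟨⟨x, subset_closure hx⟩, hx, rfl⟩
    rw [h1]
  have hDc : D = conjugatesOf (⟨z, hzM⟩ : ↥M) := by
    ext x
    constructor
    · intro hx
      obtain ⟨g, hgx⟩ := isConj_iff.1 (show IsConj z (x : G) from hx)
      obtain ⟨m, hm, hmz⟩ := frattini h hs hzs g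
      refine (show IsConj (⟨z, hzM⟩ : ↥M) x from isConj_iff.2 ?_)
      exact ⟨⟨m, hm⟩, Subtype.ext (by rw [← hgx, ← hmz]; rfl)⟩
    · intro hx
      replace hx := isConj_iff.1 (show IsConj (⟨z, hzM⟩ : ↥M) x from hx)
      obtain ⟨m, rfl⟩ := hx
      exact isConj_iff.2 ⟨m, rfl⟩
  have hcom : commutator ↥M = ⊤ := by
    rw [eq_top_iff, ← hcl, closure_le, hDc]
    have hz : (⟨z, hzM⟩ : ↥M) ∈ commutator ↥M := by
      have h1 : (⟨z, hzM⟩ : ↥M) = ⁅(⟨j', hj⟩ : ↥M), (⟨i', hi⟩ : ↥M)⁆ := by
        apply Subtype.ext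
        change z = j' * i' * j'⁻¹ * i'⁻¹
        have h2 := h.ji
        have hzc : ∀ q ∈ Q, q * z = z * q := h.large.comm_z
        obtain ⟨hiQ, hjQ, -, -⟩ := gen_mem h
        rw [h2]
        calc z = (i' * j') * z * (i' * j')⁻¹ := by
              rw [hzc _ (mul_mem hiQ hjQ)]; group
          _ = i' * j' * z * j'⁻¹ * i'⁻¹ := by group
      rw [h1]
      exact Subgroup.commutator_mem_commutator (Subgroup.mem_top _) (Subgroup.mem_top _)
    intro x hx
    replace hx := isConj_iff.1 (show IsConj (⟨z, hzM⟩ : ↥M) x from hx)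
    obtain ⟨m, rfl⟩ := hx
    exact (inferInstance : (commutator ↥M).Normal).conj_mem _ hz m
  have hperf : ⁅commutator ↥M, commutator ↥M⁆ = commutator ↥M := by
    rw [hcom]; exact hcom
  have hsol : ∀ N : Subgroup ↥M, N.Normal → Group.IsSolvable ↥N → N = ⊥ := by
    intro A hA hAs
    by_contra hne
    obtain ⟨p, W, hp, hWn, hWp, hW1⟩ := exists_normal_p M hn A hA hAs hne
    rcases hp.eq_two_or_odd' with rfl | hodd
    · exact hW1 (two_normal_eq_bot h hs hc hWn hWp)
    · apply hW1
      refine odd_normal_eq_bot h.large hc hWn ?_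
      have : Fact p.Prime := ⟨hp⟩
      obtain ⟨n, hn'⟩ := IsPGroup.iff_card.1 hWp
      rw [hn']
      exact hodd.pow
  have hD3 : Cfsg.IsThreeTranspositionClass D := by
    refine ⟨⟨?_, ?_⟩, ⟨⟨z, hzM⟩, hzP, hDc⟩, hcl⟩
    · intro d hd
      apply orderOf_eq_prime
      · rw [pow_two]
        exact Subtype.ext (hg.sq hd)
      · intro he
        exact hg.ne_one hd (congrArg Subtype.val he)
    · intro d hd e he
      by_cases hcm : Commute (d : G) (e : G)
      · left
        apply Subtype.ext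
        change ((d : G) * (e : G)) ^ 2 = 1
        rw [hcm.mul_pow, pow_two, pow_two, hg.sq hd, hg.sq he, one_mul]
      · right
        apply Subtype.ext
        exact hg.three zStar hex hd he hcm
  have hsc : Group.IsSolvable ↥(closure {y : ↥M | y ∈ D ∧ y ≠ ⟨z, hzM⟩ ∧ Commute (⟨z, hzM⟩ : ↥M) y}) := by
    have h1 := hg.solvable_closure hzP
    set A := closure {y : ↥M | y ∈ D ∧ y ≠ ⟨z, hzM⟩ ∧ Commute (⟨z, hzM⟩ : ↥M) y} with hA
    have h2 : A.map M.subtype ≤ closure {y : G | y ∈ PP z ∧ y ≠ z ∧ Commute z y} := by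
      rw [hA, MonoidHom.map_closure, closure_le]
      rintro _ ⟨y, ⟨hy1, hy2, hy3⟩, rfl⟩
      apply Subgroup.subset_closure
      exact ⟨hy1, fun he => hy2 (Subtype.ext he), congrArg Subtype.val hy3.eq⟩
    have h3 : Function.Injective (((Subgroup.inclusion h2)).comp
        (A.equivMapOfInjective _ M.subtype_injective).toMonoidHom) :=
      (Subgroup.inclusion_injective h2).comp (A.equivMapOfInjective _ M.subtype_injective).injective
    exact Group.isSolvable_of_isSolvable_injective h3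
  have key := Cfsg.Agent.S1614.result hsol hperf hD3 ⟨z, hzM⟩ hzP hsc
  rcases key with ⟨⟨e⟩⟩ | ⟨⟨e⟩⟩ | ⟨F, hF1, hF2, hF, ⟨⟨e⟩⟩ | ⟨⟨e⟩⟩⟩
  · exact (perm_not hcom (by norm_num) e).elim
  · exact (perm_not hcom (by norm_num) e).elim
  · -- `PSU(4, 2)`
    obtain ⟨f⟩ := Cfsg.Agent.S0822.result (F := F) (K := K) hF hK
    have e2 : ↥M ≃* Cfsg.PSp 2 Cfsg.Agent.Lib.FieldThree.F3 := (e.trans f).trans
      (Cfsg.Agent.LieClassical.FieldTransfer.pspCongr 2 (Cfsg.Agent.Lib.FieldThree.equivOfCard hK))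
    have hcase := Cfsg.Agent.H314.PSp43Case.case9a
    have hlarge := Cfsg.Agent.KFacts.LargeO2.map e2.symm hcase.large
    obtain ⟨T, hQT, hTM, hTC⟩ := exists_sylow_le h hs hzs
    obtain ⟨m, hm⟩ := conj_of_central hlarge (T.subtype hTM) (t := ⟨z, hzM⟩)
      (fun he => h.large.z_ne (congrArg Subtype.val he))
      (by
        rw [Sylow.coe_subtype, mem_subgroupOf]
        exact hQT h.large.z_mem)
      (by
        intro u hu
        rw [Sylow.coe_subtype, mem_subgroupOf] at hu
        exact Subtype.ext (mem_centralizer_singleton_iff.1 (hTC hu)))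
    -- the order of the centralizer
    have hcM : Nat.card ↥(centralizer ({⟨z, hzM⟩} : Set ↥M)) = 576 := by
      have h1 : Nat.card ↥(centralizer ({⟨z, hzM⟩} : Set ↥M)) =
          Nat.card ↥(centralizer ({e2 (m * ⟨z, hzM⟩ * m⁻¹)} : Set _)) := by
        let α : ↥M ≃* _ := (MulAut.conj m).trans e2
        have hα : α ⟨z, hzM⟩ = e2 (m * ⟨z, hzM⟩ * m⁻¹) := rfl
        rw [← hα]
        refine Nat.card_congr (α.toEquiv.subtypeEquiv ?_)
        intro a
        rw [mem_centralizer_singleton_iff, mem_centralizer_singleton_iff]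
        change _ ↔ α a * α _ = α _ * α a
        rw [← map_mul, ← map_mul]
        exact α.injective.eq_iff.symm
      rw [h1, hm]
      change Nat.card ↥(centralizer ({e2 (e2.symm _)} : Set _)) = 576
      rw [e2.apply_symm_apply]
      exact hcase.card_cent
    have hCM : centralizer ({z} : Set G) ≤ M := by
      have h1 : Nat.card ↥((centralizer ({⟨z, hzM⟩} : Set ↥M)).map M.subtype) = 576 := by
        rw [← hcM]
        exact Nat.card_congr ((centralizer ({⟨z, hzM⟩} : Set ↥M)).equivMapOfInjective _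
          M.subtype_injective).toEquiv.symm
      have h2 : (centralizer ({⟨z, hzM⟩} : Set ↥M)).map M.subtype ≤ centralizer ({z} : Set G) := by
        rintro _ ⟨x, hx, rfl⟩
        exact mem_centralizer_singleton_iff.2 (congrArg Subtype.val (mem_centralizer_singleton_iff.1 hx))
      have h3 := Subgroup.eq_of_le_of_card_ge h2 (by rw [h1, h.card_cent])
      rw [← h3]
      exact map_subtype_le _
    have hMtop : M = ⊤ := by
      rw [eq_top_iff]
      intro g _
      obtain ⟨m', hm', hmz⟩ := frattini h hs hzs g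
      have h1 : m'⁻¹ * g ∈ centralizer ({z} : Set G) := by
        rw [mem_centralizer_singleton_iff]
        calc m'⁻¹ * g * z = m'⁻¹ * (g * z * g⁻¹) * g := by group
          _ = m'⁻¹ * (m' * z * m'⁻¹) * g := by rw [← hmz]
          _ = z * (m'⁻¹ * g) := by group
      have h2 := mul_mem hm' (hCM h1)
      rwa [mul_inv_cancel_left] at h2
    have e3 : G ≃* ↥M := (Subgroup.topEquiv.symm).trans (MulEquiv.subgroupCongr hMtop.symm)
    exact ⟨(e3.trans e).trans f⟩
  · -- `PSU(5, 2)`
    exfalso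
    have h1 : Nat.card ↥M = 13685760 := (Nat.card_congr e.toEquiv).trans (card_five hF)
    have h2 : Nat.card ↥M ∣ Nat.card G := Subgroup.card_subgroup_dvd_card M
    have h3 := (centralizer ({z} : Set G)).card_mul_index
    rw [h.card_cent] at h3
    obtain ⟨n, hn'⟩ := Cfsg.Agent.LargeExtra.TwoCentral.odd_index h.large
    obtain ⟨a, ha⟩ := h2
    rw [h1] at ha
    rw [hn', ha] at h3
    omega

end Cfsg.Agent.H314.PSp43Main
end

-- part: S3221
section
set_option autoImplicit false
open Cfsg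

namespace Cfsg.Agent.S3221

open Cfsg.Agent.H314

/-- Let F be the field with 3 elements and t₀ an involution of PSp₄(3) = PSp₄(F) lying in the centre of a Sylow 2-subgroup. If G is a finite group of even order that has no subgroup of index 2 and contains an involution t whose centralizer C_G(t) is isomorphic to C_{PSp₄(3)}(t₀), then G ≅ PSp₄(3). -/
theorem result {G : Type*} [Group G] [Finite G] (hev : Even (Nat.card G))
    (hG : ∀ H : Subgroup G, H.index ≠ 2) {F : Type*} [Field F] [Fintype F] (hF : Fintype.card F = 3)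
    (U : Sylow 2 (Cfsg.PSp 2 F)) (t₀ : Cfsg.PSp 2 F) (ht₀ : orderOf t₀ = 2) (ht₀U : t₀ ∈ (U : Subgroup (Cfsg.PSp 2 F)))
    (ht₀c : ∀ u ∈ (U : Subgroup (Cfsg.PSp 2 F)), u * t₀ = t₀ * u) (t : G) (ht : orderOf t = 2)
    (e : ↥(Subgroup.centralizer ({t} : Set G)) ≃* ↥(Subgroup.centralizer ({t₀} : Set (Cfsg.PSp 2 F)))) :
    Nonempty (G ≃* Cfsg.PSp 2 F) := by
  let f : Cfsg.PSp 2 F ≃* Cfsg.PSp 2 Cfsg.Agent.Lib.FieldThree.F3 :=
    Cfsg.Agent.LieClassical.FieldTransfer.pspCongr 2 (Cfsg.Agent.Lib.FieldThree.equivOfCard hF)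
  have hcase := PSp43Case.case9a
  have hne : t₀ ≠ 1 := by
    rintro rfl
    rw [orderOf_one] at ht₀
    norm_num at ht₀
  have hlarge := Cfsg.Agent.KFacts.LargeO2.map f.symm hcase.large
  obtain ⟨m, hm⟩ := CentTransfer.conj_of_central hlarge U hne ht₀U ht₀c
  let α : Cfsg.PSp 2 F ≃* Cfsg.PSp 2 Cfsg.Agent.Lib.FieldThree.F3 := (MulAut.conj m).trans f
  have hα : α t₀ = Cfsg.Agent.KFacts.PSpFourThree.PE.z := by
    change f (m * t₀ * m⁻¹) = _
    rw [hm]
    exact f.apply_symm_apply _
  have e1 : ↥(Subgroup.centralizer ({t₀} : Set (Cfsg.PSp 2 F))) ≃*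
      ↥(Subgroup.centralizer ({Cfsg.Agent.KFacts.PSpFourThree.PE.z} : Set _)) := by
    have h1 : (Subgroup.centralizer ({t₀} : Set (Cfsg.PSp 2 F))).map α.toMonoidHom =
        Subgroup.centralizer ({Cfsg.Agent.KFacts.PSpFourThree.PE.z} : Set _) := by
      rw [← hα]
      ext x
      rw [Subgroup.mem_centralizer_singleton_iff]
      constructor
      · rintro ⟨y, hy, rfl⟩
        change α y * α t₀ = α t₀ * α y
        rw [← map_mul, ← map_mul, Subgroup.mem_centralizer_singleton_iff.1 hy]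
      · intro hx
        refine ⟨α.symm x, Subgroup.mem_centralizer_singleton_iff.2 ?_, α.apply_symm_apply x⟩
        apply α.injective
        rw [map_mul, map_mul, α.apply_symm_apply]
        exact hx
    exact (α.subgroupMap _).trans (MulEquiv.subgroupCongr h1)
  have ht1 : t ≠ 1 := by
    rintro rfl
    rw [orderOf_one] at ht
    norm_num at ht
  obtain ⟨Q', i', j', k', l', x₁', x₂', s', h⟩ := CentTransfer.case9a_of_cent hcase ht1 (e.trans e1)
  exact PSp43Main.main h hG hF

end Cfsg.Agent.S3221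
end
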