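import Mathlib
import Cfsg.Agent.Classification.TransferSign
import Cfsg.Agent.Lib.Cores
import Cfsg.Agent.Classification.DihStructure
import Cfsg.Agent.LFourA.AltPsiAut
import Cfsg.Agent.Classification.BSW.Four
import Cfsg.Agent.S0494
import Cfsg.Agent.S0848
import Cfsg.Agent.S0497
import Cfsg.Agent.Lib.ProductSet
import Cfsg.Statements.S3222
import Cfsg.Agent.S0205
import Cfsg.Agent.BpAlt.Row
import Cfsg.Agent.FastGrp
import Cfsg.Agent.Prune
set_option linter.all false
prune_inst 0x7fb0fefb8df8addeffff7e7ffefddffff9fcffffffdff9fbffedffffefdf6b67efe5fb8fffef1affbef6e2b6b0f87bd3fdffefffef6bdc7ffffd5ff45ffbff9fedffbfad51dfb8be1ffe7ffffbffffae7f3fffffffffffffffffffffffffffffffffffffffff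
open scoped Cfsg.Agent.FastGrp

-- part: H314/S6Model
section
/-!
# The group `Z₂ × S₄`: finite checks (helper314)
-/

set_option autoImplicit false

namespace Cfsg.Agent.H314.S6Model

open Equiv Equiv.Perm

/-- `Z₂ × S₄` -/
abbrev Q : Type := Multiplicative (ZMod 2) × Perm (Fin 4)

/-- the central involution -/
def τ : Q := (Multiplicative.ofAdd 1, 1)
/-- `(01)(23)` -/
def ζ : Q := (1, swap (0 : Fin 4) 1 * swap (2 : Fin 4) 3)
/-- `(02)(13)` -/
def ζ₁ : Q := (1, swap (0 : Fin 4) 2 * swap (1 : Fin 4) 3)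
/-- `(03)(12)` -/
def ζ₂ : Q := (1, swap (0 : Fin 4) 3 * swap (1 : Fin 4) 2)
/-- `(01)` -/
def α : Q := (1, swap (0 : Fin 4) 1)
/-- `(23)` -/
def α' : Q := (1, swap (2 : Fin 4) 3)
/-- an element of order three -/
def ρ : Q := (1, swap (0 : Fin 4) 1 * swap (1 : Fin 4) 2)

theorem central_cases : ∀ q : Q, q * (1, swap (0 : Fin 4) 1 * swap (1 : Fin 4) 2 * swap (2 : Fin 4) 3) = (1, swap (0 : Fin 4) 1 * swap (1 : Fin 4) 2 * swap (2 : Fin 4) 3) * q →
    q * α = α * q → q = 1 ∨ q = τ := by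
  decide +kernel

theorem τ_comm : ∀ q : Q, q * τ = τ * q := by decide +kernel
theorem τ_sq : τ * τ = 1 := by decide
theorem ζ_sq : ζ * ζ = 1 := by decide
theorem τ_ne : τ ≠ 1 := by decide
theorem ζ_ne : ζ ≠ 1 := by decide
theorem ρ_cube : ρ * ρ * ρ = 1 := by decide
theorem ρ_ne : ρ ≠ 1 := by decide

/-- centralizers as decidable conditions -/
theorem E_le_T : ∀ q : Q, q * α = α * q → q * ζ = ζ * q := by decide +kernel

theorem E_cases : ∀ q : Q, q * α = α * q → q = 1 ∨ q = τ ∨ q = ζ ∨ q = τ * ζ ∨ q = α ∨ q = α' ∨ q = τ * α ∨ q = τ * α' := by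
  decide +kernel

theorem T_sq_cases : ∀ q : Q, q * ζ = ζ * q → q * q = 1 → q * α = α * q ∨ q * ζ₁ = ζ₁ * q := by decide +kernel

theorem T_comm : ∀ p : Q, p * ζ = ζ * p → ∀ q : Q, q * ζ = ζ * q → p * q = q * p ∨ p * q = q * p * ζ := by decide +kernel

theorem T_comm' : α * ζ₁ = ζ₁ * α * ζ := by decide

theorem E_sq : ∀ q : Q, q * α = α * q → q * q = 1 := by decide +kernel

theorem W_cases : ∀ q : Q, q * ζ = ζ * q → q * ζ₁ = ζ₁ * q → q = 1 ∨ q = τ ∨ q = ζ ∨ q = ζ₁ ∨ q = ζ₂ ∨ q = τ * ζ ∨ q = τ * ζ₁ ∨ q = τ * ζ₂ := by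
  decide +kernel

theorem conj_ζ₁ : ∃ c : Q, c * ζ = ζ₁ * c := by decide
theorem conj_ζ₂ : ∃ c : Q, c * ζ = ζ₂ * c := by decide +kernel
theorem conj_α' : ζ₁ * α = α' * ζ₁ := by decide

theorem not_conj_α : ∀ c : Q, c * ζ * c⁻¹ ≠ α ∧ c * ζ * c⁻¹ ≠ τ * α := by decide +kernel
/-- a sign -/
def ε : Multiplicative (ZMod 2) →* ℤˣ where
  toFun x := if x = Multiplicative.ofAdd 0 then 1 else -1
  map_one' := by decide
  map_mul' := by decide

/-- first sign character -/
def χ₁ : Q →* ℤˣ := ε.comp (MonoidHom.fst _ _)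
/-- second sign character -/
def χ₂ : Q →* ℤˣ := χ₁ * (Perm.sign.comp (MonoidHom.snd _ _))

theorem α_conj_not_W : ∀ c : Q, (c * α * c⁻¹) * ζ = ζ * (c * α * c⁻¹) → (c * α * c⁻¹) * ζ₁ = ζ₁ * (c * α * c⁻¹) → False := by
  decide +kernel

theorem conj_τα' : ζ₁ * (τ * α) = (τ * α') * ζ₁ := by decide

/-- the involutions of the four-group -/
def isV (x : Q) : Bool := decide (x = ζ) || decide (x = ζ₁) || decide (x = ζ₂)

theorem isV_iff {x : Q} (hx : isV x = true) : x = ζ ∨ x = ζ₁ ∨ x = ζ₂ := by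
  unfold isV at hx
  simp only [Bool.or_eq_true, decide_eq_true_eq] at hx
  tauto

theorem comm_V_aux : ∀ q : Q, q = 1 ∨ q = τ ∨ isV (q * ζ * q⁻¹ * ζ⁻¹) = true ∨ isV (q * ζ₁ * q⁻¹ * ζ₁⁻¹) = true ∨
    isV (q * ρ * q⁻¹ * ρ⁻¹) = true := by
  decide +kernel

/-- a nontrivial normal subgroup avoiding `τ` contains the four-group -/
theorem comm_V (q : Q) (h1 : q ≠ 1) (h2 : q ≠ τ) : ∃ c : Q, q * c * q⁻¹ * c⁻¹ = ζ ∨ q * c * q⁻¹ * c⁻¹ = ζ₁ ∨ q * c * q⁻¹ * c⁻¹ = ζ₂ := by
  rcases comm_V_aux q with h | h | h | h | h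
  · exact absurd h h1
  · exact absurd h h2
  · exact ⟨_, isV_iff h⟩
  · exact ⟨_, isV_iff h⟩
  · exact ⟨_, isV_iff h⟩

/-- the elements `τ` and the conjugates of `τ α` -/
def listA : List Q := [τ, τ * α, τ * α', (Multiplicative.ofAdd 1, swap (0 : Fin 4) 2), (Multiplicative.ofAdd 1, swap (1 : Fin 4) 3),
  (Multiplicative.ofAdd 1, swap (0 : Fin 4) 3), (Multiplicative.ofAdd 1, swap (1 : Fin 4) 2)]
/-- the elements `τ` and the conjugates of `α` -/
def listB : List Q := [τ, α, α', (1, swap (0 : Fin 4) 2), (1, swap (1 : Fin 4) 3), (1, swap (0 : Fin 4) 3), (1, swap (1 : Fin 4) 2)]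

theorem listA_nodup : listA.Nodup := by decide
theorem listB_nodup : listB.Nodup := by decide
theorem listA_conj : ∀ q ∈ listA, q = τ ∨ ∃ c : Q, c * q = (τ * α) * c := by decide +kernel
theorem listB_conj : ∀ q ∈ listB, q = τ ∨ ∃ c : Q, c * q = α * c := by decide +kernel

theorem ζ₁_sq : ζ₁ * ζ₁ = 1 := by decide
theorem ζ₁_ne : ζ₁ ≠ 1 := by decide
theorem ζ₁_ne_ζ : ζ₁ ≠ ζ := by decide
theorem ζ₂_eq : ζ₂ = ζ * ζ₁ := by decide
theorem ζζ₁ : ζ * ζ₁ = ζ₁ * ζ := by decide

theorem card_Q : Nat.card Q = 48 := by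
  rw [Nat.card_eq_fintype_card]; decide

theorem card_T : Nat.card (Subgroup.centralizer ({ζ} : Set Q)) = 16 := by
  have h : Fintype.card {q : Q // q * ζ = ζ * q} = 16 := by decide +kernel
  rw [← h, ← Nat.card_eq_fintype_card]
  apply Nat.card_congr
  exact Equiv.subtypeEquivRight fun q => Subgroup.mem_centralizer_singleton_iff

theorem card_E : Nat.card (Subgroup.centralizer ({α} : Set Q)) = 8 := by
  have h : Fintype.card {q : Q // q * α = α * q} = 8 := by decide +kernel
  rw [← h, ← Nat.card_eq_fintype_card]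
  apply Nat.card_congr
  exact Equiv.subtypeEquivRight fun q => Subgroup.mem_centralizer_singleton_iff

theorem card_W : Nat.card (Subgroup.centralizer ({ζ, ζ₁} : Set Q)) = 8 := by
  have h : Fintype.card {q : Q // q * ζ = ζ * q ∧ q * ζ₁ = ζ₁ * q} = 8 := by decide +kernel
  rw [← h, ← Nat.card_eq_fintype_card]
  apply Nat.card_congr
  refine Equiv.subtypeEquivRight fun q => ?_
  rw [Subgroup.mem_centralizer_iff]
  constructor
  · intro hq
    exact ⟨(hq ζ (by simp)).symm, (hq ζ₁ (by simp)).symm⟩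
  · rintro ⟨h1, h2⟩ y hy
    rcases hy with rfl | hy
    · exact h1.symm
    · rw [Set.mem_singleton_iff] at hy; rw [hy]; exact h2.symm

theorem card_M₁ : Nat.card (Subgroup.centralizer ({ζ} : Set Q) ⊓ χ₁.ker : Subgroup Q) = 8 := by
  have h : Fintype.card {q : Q // q * ζ = ζ * q ∧ χ₁ q = 1} = 8 := by decide +kernel
  rw [← h, ← Nat.card_eq_fintype_card]
  apply Nat.card_congr
  refine Equiv.subtypeEquivRight fun q => ?_
  rw [Subgroup.mem_inf, Subgroup.mem_centralizer_singleton_iff, MonoidHom.mem_ker]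

theorem card_M₂ : Nat.card (Subgroup.centralizer ({ζ} : Set Q) ⊓ χ₂.ker : Subgroup Q) = 8 := by
  have h : Fintype.card {q : Q // q * ζ = ζ * q ∧ χ₂ q = 1} = 8 := by decide +kernel
  rw [← h, ← Nat.card_eq_fintype_card]
  apply Nat.card_congr
  refine Equiv.subtypeEquivRight fun q => ?_
  rw [Subgroup.mem_inf, Subgroup.mem_centralizer_singleton_iff, MonoidHom.mem_ker]

set_option synthInstance.maxSize 2000 in
set_option synthInstance.maxHeartbeats 200000 in
theorem M₁_cases : ∀ q : Q, q * ζ = ζ * q → χ₁ q = 1 → q * q = 1 → q = 1 ∨ q = ζ ∨ q = ζ₁ ∨ q = ζ₂ ∨ q = α ∨ q = α' := by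
  decide +kernel

set_option synthInstance.maxSize 2000 in
set_option synthInstance.maxHeartbeats 200000 in
theorem M₂_cases : ∀ q : Q, q * ζ = ζ * q → χ₂ q = 1 → q * q = 1 → q = 1 ∨ q = ζ ∨ q = ζ₁ ∨ q = ζ₂ ∨ q = τ * α ∨ q = τ * α' := by
  decide +kernel

theorem V_cases : ∀ q : Q, q * ζ = ζ * q → q * ζ₁ = ζ₁ * q → χ₁ q = 1 → q = 1 ∨ q = ζ ∨ q = ζ₁ ∨ q = ζ₂ := by decide +kernel

theorem mem_W {q : Q} : q ∈ Subgroup.centralizer ({ζ, ζ₁} : Set Q) ↔ q * ζ = ζ * q ∧ q * ζ₁ = ζ₁ * q := by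
  rw [Subgroup.mem_centralizer_iff]
  constructor
  · intro hq
    exact ⟨(hq ζ (by simp)).symm, (hq ζ₁ (by simp)).symm⟩
  · rintro ⟨h1, h2⟩ y hy
    rcases hy with rfl | hy
    · exact h1.symm
    · rw [Set.mem_singleton_iff] at hy; rw [hy]; exact h2.symm

theorem card_V : Nat.card (Subgroup.centralizer ({ζ, ζ₁} : Set Q) ⊓ χ₁.ker : Subgroup Q) = 4 := by
  have h : Fintype.card {q : Q // (q * ζ = ζ * q ∧ q * ζ₁ = ζ₁ * q) ∧ χ₁ q = 1} = 4 := by decide +kernel
  refine Eq.trans ?_ h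
  rw [← Nat.card_eq_fintype_card]
  apply Nat.card_congr
  refine Equiv.subtypeEquivRight fun q => ?_
  rw [Subgroup.mem_inf, mem_W, MonoidHom.mem_ker]

theorem τατα : (τ * α) * (τ * α) = 1 := by decide
theorem αα : α * α = 1 := by decide
theorem ατ : τ * (τ * α) = α := by decide
theorem α_ne : α ≠ 1 := by decide
theorem τα_ne : τ * α ≠ 1 := by decide
theorem τα_noncomm : (τ * α) * ζ₁ = ζ₁ * (τ * α) * ζ := by decide

end Cfsg.Agent.H314.S6Model
end

-- part: H314/S6Fus
section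
/-!
# Fusion in a group with an involution centralizer `Z₂ × S₄` (helper314)
-/

set_option autoImplicit false

namespace Cfsg.Agent.H314.S6Fus

open Subgroup Cfsg.Agent.H314.S6Model

variable {G : Type*} [Group G]

/-- The situation: `C(t) = φ(Z₂ × S₄)`, `C(z) = φ(Z₂ × D₈)` a Sylow 2-subgroup. -/
structure Hyp (φ : Q →* G) : Prop where
  inj : Function.Injective φ
  cent_t : ∀ g, g * φ τ = φ τ * g → ∃ q, φ q = g
  cent_z : ∀ g, g * φ ζ = φ ζ * g → ∃ q, φ q = g
  syl : ∃ P : Sylow 2 G, (P : Subgroup G) = centralizer ({φ ζ} : Set G)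

namespace Hyp

variable {φ : Q →* G} (h : Hyp φ)
include h

theorem comm_iff (p q : Q) : φ p * φ q = φ q * φ p ↔ p * q = q * p := by
  rw [← map_mul, ← map_mul]
  exact ⟨fun e => h.inj e, fun e => congrArg φ e⟩

theorem mem_T {g : G} : g ∈ centralizer ({φ ζ} : Set G) ↔ ∃ q, q * ζ = ζ * q ∧ φ q = g := by
  rw [mem_centralizer_singleton_iff]
  constructor
  · intro hg
    obtain ⟨q, rfl⟩ := h.cent_z g hg
    exact ⟨q, (h.comm_iff _ _).1 hg, rfl⟩
  · rintro ⟨q, hq, rfl⟩
    exact (h.comm_iff _ _).2 hq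

theorem mem_C {g : G} : g ∈ centralizer ({φ τ} : Set G) ↔ ∃ q, φ q = g := by
  rw [mem_centralizer_singleton_iff]
  constructor
  · exact h.cent_t g
  · rintro ⟨q, rfl⟩
    exact (h.comm_iff _ _).2 (τ_comm q)

/-- `N(T) = T` -/
theorem norm_T {n : G} (hn : n ∈ normalizer ((centralizer ({φ ζ} : Set G) : Subgroup G) : Set G)) :
    n ∈ centralizer ({φ ζ} : Set G) := by
  rw [mem_centralizer_singleton_iff]
  have hα : α * ζ = ζ * α := E_le_T α rfl
  have hζ₁ : ζ₁ * ζ = ζ * ζ₁ := by decide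
  have h1 := (mem_normalizer_iff.1 hn (φ α)).1 (h.mem_T.2 ⟨α, hα, rfl⟩)
  have h2 := (mem_normalizer_iff.1 hn (φ ζ₁)).1 (h.mem_T.2 ⟨ζ₁, hζ₁, rfl⟩)
  obtain ⟨a, ha, ha'⟩ := h.mem_T.1 h1
  obtain ⟨b, hb, hb'⟩ := h.mem_T.1 h2
  have h3 : φ α * φ ζ₁ = φ ζ₁ * φ α * φ ζ := by
    rw [← map_mul, ← map_mul, ← map_mul, T_comm']
  have h4 : φ a * φ b = φ b * φ a * (n * φ ζ * n⁻¹) := by
    rw [ha', hb']
    calc n * φ α * n⁻¹ * (n * φ ζ₁ * n⁻¹) = n * (φ α * φ ζ₁) * n⁻¹ := by group
      _ = n * (φ ζ₁ * φ α * φ ζ) * n⁻¹ := by rw [h3]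
      _ = n * φ ζ₁ * n⁻¹ * (n * φ α * n⁻¹) * (n * φ ζ * n⁻¹) := by group
  rcases T_comm a ha b hb with h5 | h5
  · exfalso
    have h6 : φ a * φ b = φ b * φ a := by rw [← map_mul, ← map_mul, h5]
    rw [h6] at h4
    have h7 : n * φ ζ * n⁻¹ = 1 := by
      have := h4.symm
      rwa [mul_eq_left] at this
    have h8 : φ ζ = 1 := by
      have := mul_inv_eq_one.1 h7
      rwa [mul_eq_left] at this
    exact ζ_ne (h.inj (by rw [h8, map_one]))
  · have h6 : φ a * φ b = φ b * φ a * φ ζ := by rw [← map_mul, ← map_mul, ← map_mul, h5]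
    rw [h6] at h4
    have h7 : φ ζ = n * φ ζ * n⁻¹ := mul_left_cancel h4
    calc n * φ ζ = (n * φ ζ * n⁻¹) * n := by group
      _ = φ ζ * n := by rw [← h7]

/-- Burnside fusion -/
theorem burnside {x y : Q} (hx : ∀ q, q * ζ = ζ * q → q * x = x * q) (hy : ∀ q, q * ζ = ζ * q → q * y = y * q)
    {g : G} (hg : g * φ x * g⁻¹ = φ y) [Finite G] : x = y := by
  obtain ⟨P, hP⟩ := h.syl
  have e1 : φ x ∈ centralizer ((P : Subgroup G) : Set G) := by
    rw [hP, mem_centralizer_iff]
    intro u hu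
    obtain ⟨q, hq, rfl⟩ := h.mem_T.1 hu
    exact (h.comm_iff _ _).2 (hx q hq)
  have e2 : φ y ∈ centralizer ((P : Subgroup G) : Set G) := by
    rw [hP, mem_centralizer_iff]
    intro u hu
    obtain ⟨q, hq, rfl⟩ := h.mem_T.1 hu
    exact (h.comm_iff _ _).2 (hy q hq)
  have e3 : (g⁻¹)⁻¹ * φ x * g⁻¹ ∈ centralizer ((P : Subgroup G) : Set G) := by
    rw [inv_inv, hg]; exact e2
  obtain ⟨n, hn, hn'⟩ := Sylow.conj_eq_normalizer_conj_of_mem_centralizer P (φ x) g⁻¹ e1 e3
  rw [inv_inv, hg] at hn'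
  have hn2 : n ∈ centralizer ({φ ζ} : Set G) := by
    apply h.norm_T
    rw [← hP]; exact hn
  obtain ⟨q, hq, rfl⟩ := h.mem_T.1 hn2
  have e4 : φ x * φ q = φ q * φ x := (h.comm_iff _ _).2 (hx q hq).symm
  apply h.inj
  rw [hn']
  calc φ x = (φ q)⁻¹ * (φ q * φ x) := by group
    _ = (φ q)⁻¹ * φ x * φ q := by rw [← e4]; group

theorem τζ_ne [Finite G] : ∀ g : G, g * φ τ * g⁻¹ ≠ φ ζ := fun g hg =>
  absurd (h.burnside (fun q _ => τ_comm q) (fun q hq => hq) hg) (by decide)

omit [Group G] h in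
theorem comm_τζ : ∀ q : Q, q * ζ = ζ * q → q * (τ * ζ) = (τ * ζ) * q := by decide +kernel

theorem τ_τζ_ne [Finite G] : ∀ g : G, g * φ τ * g⁻¹ ≠ φ (τ * ζ) := fun g hg =>
  absurd (h.burnside (fun q _ => τ_comm q) (fun q hq => comm_τζ q hq) hg) (by decide)

theorem ζ_τζ_ne [Finite G] : ∀ g : G, g * φ ζ * g⁻¹ ≠ φ (τ * ζ) := fun g hg =>
  absurd (h.burnside (fun q hq => hq) (fun q hq => comm_τζ q hq) hg) (by decide)

omit h in
/-- the elementary abelian group `E` -/
theorem mem_E {g : G} : g ∈ (centralizer ({α} : Set Q)).map φ ↔ ∃ q, q * α = α * q ∧ φ q = g := by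
  rw [mem_map]
  constructor
  · rintro ⟨q, hq, rfl⟩
    exact ⟨q, mem_centralizer_singleton_iff.1 hq, rfl⟩
  · rintro ⟨q, hq, rfl⟩
    exact ⟨q, mem_centralizer_singleton_iff.2 hq, rfl⟩

omit h in
theorem mem_W {g : G} : g ∈ (centralizer ({ζ, ζ₁} : Set Q)).map φ ↔ ∃ q, (q * ζ = ζ * q ∧ q * ζ₁ = ζ₁ * q) ∧ φ q = g := by
  rw [mem_map]
  constructor
  · rintro ⟨q, hq, rfl⟩
    exact ⟨q, S6Model.mem_W.1 hq, rfl⟩
  · rintro ⟨q, hq, rfl⟩
    exact ⟨q, S6Model.mem_W.2 hq, rfl⟩

theorem card_E [Finite G] : Nat.card ((centralizer ({α} : Set Q)).map φ : Subgroup G) = 8 := by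
  rw [← S6Model.card_E]
  exact (Nat.card_congr (Subgroup.equivMapOfInjective _ φ h.inj).toEquiv).symm

theorem card_W [Finite G] : Nat.card ((centralizer ({ζ, ζ₁} : Set Q)).map φ : Subgroup G) = 8 := by
  rw [← S6Model.card_W]
  exact (Nat.card_congr (Subgroup.equivMapOfInjective _ φ h.inj).toEquiv).symm

/-- the elementary abelian subgroups of order 8 of `T` -/
theorem eq_E_or_W [Finite G] {A : Subgroup G} (hA : A ≤ centralizer ({φ ζ} : Set G)) (hsq : ∀ x ∈ A, x * x = 1)
    (hcard : Nat.card A = 8) : A = (centralizer ({α} : Set Q)).map φ ∨ A = (centralizer ({ζ, ζ₁} : Set Q)).map φ := by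
  have key : ∀ x ∈ A, x ∈ (centralizer ({α} : Set Q)).map φ ∨ x ∈ (centralizer ({ζ, ζ₁} : Set Q)).map φ := by
    intro x hx
    obtain ⟨q, hq, rfl⟩ := h.mem_T.1 (hA hx)
    have h1 : q * q = 1 := h.inj (by rw [map_mul, hsq _ hx, map_one])
    rcases T_sq_cases q hq h1 with h2 | h2
    · exact Or.inl (mem_E.2 ⟨q, h2, rfl⟩)
    · exact Or.inr (Hyp.mem_W.2 ⟨q, ⟨hq, h2⟩, rfl⟩)
  by_cases h1 : A ≤ (centralizer ({α} : Set Q)).map φ
  · left
    exact Subgroup.eq_of_le_of_card_ge h1 (by rw [h.card_E, hcard])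
  by_cases h2 : A ≤ (centralizer ({ζ, ζ₁} : Set Q)).map φ
  · right
    exact Subgroup.eq_of_le_of_card_ge h2 (by rw [h.card_W, hcard])
  exfalso
  rw [SetLike.not_le_iff_exists] at h1 h2
  obtain ⟨x, hx, hx1⟩ := h1
  obtain ⟨y, hy, hy1⟩ := h2
  have hx2 := (key x hx).resolve_left hx1
  have hy2 := (key y hy).resolve_right hy1
  rcases key _ (mul_mem hx hy) with h3 | h3
  · apply hx1
    have := mul_mem h3 (inv_mem hy2)
    rwa [mul_inv_cancel_right] at this
  · apply hy1
    have := mul_mem (inv_mem hx2) h3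
    rwa [inv_mul_cancel_left] at this

/-- `W ∩ t^G = {t}` -/
theorem W_conj [Finite G] {g : G} (hg : g * φ τ * g⁻¹ ∈ (centralizer ({ζ, ζ₁} : Set Q)).map φ) : g * φ τ * g⁻¹ = φ τ := by
  obtain ⟨q, ⟨hq1, hq2⟩, hq⟩ := Hyp.mem_W.1 hg
  have conj : ∀ {w v c : Q}, c * w = v * c → φ v = g * φ τ * g⁻¹ → ((φ c)⁻¹ * g) * φ τ * ((φ c)⁻¹ * g)⁻¹ = φ w := by
    intro w v c hc he
    have : φ c * φ w = φ v * φ c := by rw [← map_mul, hc, map_mul]
    calc ((φ c)⁻¹ * g) * φ τ * ((φ c)⁻¹ * g)⁻¹ = (φ c)⁻¹ * (g * φ τ * g⁻¹) * φ c := by group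
      _ = (φ c)⁻¹ * (φ v * φ c) := by rw [← he]; group
      _ = φ w := by rw [← this]; group
  rcases W_cases q hq1 hq2 with rfl | rfl | rfl | rfl | rfl | rfl | rfl | rfl
  · exfalso
    rw [map_one] at hq
    have h1 : φ τ = 1 := by
      have := mul_inv_eq_one.1 hq.symm
      rwa [mul_eq_left] at this
    exact τ_ne (h.inj (by rw [h1, map_one]))
  · exact hq.symm
  · exact absurd hq.symm (h.τζ_ne g)
  · obtain ⟨c, hc⟩ := conj_ζ₁
    exact absurd (conj hc hq) (h.τζ_ne _)
  · obtain ⟨c, hc⟩ := conj_ζ₂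
    exact absurd (conj hc hq) (h.τζ_ne _)
  · exact absurd hq.symm (h.τ_τζ_ne g)
  · obtain ⟨c, hc⟩ := conj_ζ₁
    have hc' : c * (τ * ζ) = (τ * ζ₁) * c := by
      rw [← mul_assoc, τ_comm c, mul_assoc, hc, mul_assoc]
    exact absurd (conj hc' hq) (h.τ_τζ_ne _)
  · obtain ⟨c, hc⟩ := conj_ζ₂
    have hc' : c * (τ * ζ) = (τ * ζ₂) * c := by
      rw [← mul_assoc, τ_comm c, mul_assoc, hc, mul_assoc]
    exact absurd (conj hc' hq) (h.τ_τζ_ne _)

/-- Sylow's theorem in `C(t)` -/
theorem exists_conj_le [Finite G] {A : Subgroup G} (hA : A ≤ centralizer ({φ τ} : Set G)) (hp : IsPGroup 2 A) :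
    ∃ c, c * φ τ = φ τ * c ∧ ∀ a ∈ A, c * a * c⁻¹ ∈ centralizer ({φ ζ} : Set G) := by
  have : Fact (Nat.Prime 2) := ⟨Nat.prime_two⟩
  -- `A` in `Q`
  have hp' : IsPGroup 2 (A.comap φ) := hp.comap_of_injective φ h.inj
  obtain ⟨R, hR⟩ := hp'.exists_le_sylow
  have hT : IsPGroup 2 (centralizer ({ζ} : Set Q)) := IsPGroup.of_card (n := 4) (by rw [S6Model.card_T]; norm_num)
  obtain ⟨S, hS⟩ := hT.exists_le_sylow
  have hS' : (S : Subgroup Q) = centralizer ({ζ} : Set Q) := by
    symm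
    apply Subgroup.eq_of_le_of_card_ge hS
    rw [S6Model.card_T, S.card_eq_multiplicity, card_Q]
    have : Nat.factorization 48 2 = 4 := by
      rw [show 48 = 2 ^ 4 * 3 by norm_num]
      rw [Nat.factorization_mul (by norm_num) (by norm_num), Nat.factorization_pow]
      simp [Nat.prime_two.factorization, Nat.prime_three.factorization]
    rw [this]; norm_num
  obtain ⟨c, hc⟩ := MulAction.exists_smul_eq Q R S
  refine ⟨φ c, (h.comm_iff _ _).2 (τ_comm c), fun a ha => ?_⟩
  obtain ⟨q, rfl⟩ := h.mem_C.1 (hA ha)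
  have h1 : q ∈ (R : Subgroup Q) := hR (mem_comap.2 ha)
  have h2 : c * q * c⁻¹ ∈ (S : Subgroup Q) := by
    rw [← hc, Sylow.coe_subgroup_smul]
    exact Subgroup.smul_mem_pointwise_smul q (MulAut.conj c) _ h1
  rw [hS', mem_centralizer_singleton_iff] at h2
  exact h.mem_T.2 ⟨c * q * c⁻¹, h2, by rw [map_mul, map_mul, map_inv]⟩

omit h in
theorem mem_conj_map {E : Subgroup G} {k x : G} : k * x * k⁻¹ ∈ E.map (MulAut.conj k).toMonoidHom ↔ x ∈ E := by
  rw [mem_map]
  constructor
  · rintro ⟨y, hy, he⟩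
    have : k * y * k⁻¹ = k * x * k⁻¹ := he
    have h1 : y = x := by
      have := mul_right_cancel this
      exact mul_left_cancel this
    rw [← h1]; exact hy
  · intro hx
    exact ⟨x, hx, rfl⟩

omit h in
theorem E_comm {x y : G} (hx : x ∈ (centralizer ({α} : Set Q)).map φ) (hy : y ∈ (centralizer ({α} : Set Q)).map φ) :
    x * y = y * x := by
  obtain ⟨p, hp, rfl⟩ := mem_E.1 hx
  obtain ⟨q, hq, rfl⟩ := mem_E.1 hy
  have e1 : (p * q) * α = α * (p * q) := by rw [mul_assoc, hq, ← mul_assoc, hp, mul_assoc]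
  have e2 := E_sq _ e1
  have e3 := E_sq _ hp
  have e4 := E_sq _ hq
  rw [← map_mul, ← map_mul]
  congr 1
  calc p * q = p * (p * q * (p * q)) * q := by rw [e2]; group
    _ = (p * p) * q * p * (q * q) := by group
    _ = q * p := by rw [e3, e4]; group

omit h in
theorem t_mem_E : φ τ ∈ (centralizer ({α} : Set Q)).map φ := mem_E.2 ⟨τ, by decide, rfl⟩
omit h in
theorem z_mem_E : φ ζ ∈ (centralizer ({α} : Set Q)).map φ := mem_E.2 ⟨ζ, by decide, rfl⟩

/-- conjugates of `E` inside `T` -/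
theorem conj_E [Finite G] {k : G} (hk : ∀ x ∈ (centralizer ({α} : Set Q)).map φ, k * x * k⁻¹ ∈ centralizer ({φ ζ} : Set G)) :
    k ∈ normalizer (((centralizer ({α} : Set Q)).map φ : Subgroup G) : Set G) ∨
      (∀ x, x ∈ (centralizer ({α} : Set Q)).map φ ↔ k * x * k⁻¹ ∈ (centralizer ({ζ, ζ₁} : Set Q)).map φ) := by
  set E := (centralizer ({α} : Set Q)).map φ with hE
  set B := E.map (MulAut.conj k).toMonoidHom with hB
  have hBT : B ≤ centralizer ({φ ζ} : Set G) := by
    rintro _ ⟨x, hx, rfl⟩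
    exact hk x hx
  have hBs : ∀ x ∈ B, x * x = 1 := by
    rintro _ ⟨x, hx, rfl⟩
    obtain ⟨q, hq, rfl⟩ := mem_E.1 hx
    show k * φ q * k⁻¹ * (k * φ q * k⁻¹) = 1
    calc k * φ q * k⁻¹ * (k * φ q * k⁻¹) = k * (φ q * φ q) * k⁻¹ := by group
      _ = 1 := by rw [← map_mul, E_sq q hq, map_one]; group
  have hBc : Nat.card B = 8 := by
    rw [← h.card_E, ← hE]
    exact (Nat.card_congr (Subgroup.equivMapOfInjective E _ (MulAut.conj k).injective).toEquiv).symm
  rcases h.eq_E_or_W hBT hBs hBc with h1 | h1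
  · left
    rw [mem_normalizer_iff]
    intro x
    rw [← hE] at h1
    constructor
    · intro hx
      rw [← h1, hB, mem_conj_map]; exact hx
    · intro hx
      rw [← mem_conj_map (k := k), ← hB, h1]; exact hx
  · right
    intro x
    rw [← h1, hB, mem_conj_map]

/-- fusion of `t` in `E` is controlled by `N(E)` -/
theorem exists_norm_t [Finite G] {g : G} (hg : g * φ τ * g⁻¹ ∈ (centralizer ({α} : Set Q)).map φ)
    (hne : g * φ τ * g⁻¹ ≠ φ τ) :
    ∃ n ∈ normalizer (((centralizer ({α} : Set Q)).map φ : Subgroup G) : Set G), n * φ τ * n⁻¹ = g * φ τ * g⁻¹ := by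
  set E := (centralizer ({α} : Set Q)).map φ with hE
  set A := E.map (MulAut.conj g⁻¹).toMonoidHom with hA
  have hAC : A ≤ centralizer ({φ τ} : Set G) := by
    rintro _ ⟨x, hx, rfl⟩
    rw [mem_centralizer_singleton_iff]
    show g⁻¹ * x * (g⁻¹)⁻¹ * φ τ = φ τ * (g⁻¹ * x * (g⁻¹)⁻¹)
    have h1 := E_comm hx hg
    calc g⁻¹ * x * (g⁻¹)⁻¹ * φ τ = g⁻¹ * (x * (g * φ τ * g⁻¹)) * g := by group
      _ = g⁻¹ * ((g * φ τ * g⁻¹) * x) * g := by rw [h1]
      _ = φ τ * (g⁻¹ * x * (g⁻¹)⁻¹) := by group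
  have hAp : IsPGroup 2 A := by
    have : Nat.card A = 2 ^ 3 := by
      rw [show (2 : ℕ) ^ 3 = 8 by norm_num, ← h.card_E, ← hE]
      exact (Nat.card_congr (Subgroup.equivMapOfInjective E _ (MulAut.conj g⁻¹).injective).toEquiv).symm
    exact IsPGroup.of_card this
  obtain ⟨c, hc, hcA⟩ := h.exists_conj_le hAC hAp
  have hct : c⁻¹ * φ τ * c = φ τ := by
    calc c⁻¹ * φ τ * c = c⁻¹ * (φ τ * c) := by group
      _ = φ τ := by rw [← hc]; group
  have hk : ∀ x ∈ E, (c * g⁻¹) * x * (c * g⁻¹)⁻¹ ∈ centralizer ({φ ζ} : Set G) := by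
    intro x hx
    have h1 := hcA (g⁻¹ * x * (g⁻¹)⁻¹) ⟨x, hx, rfl⟩
    have h2 : (c * g⁻¹) * x * (c * g⁻¹)⁻¹ = c * (g⁻¹ * x * (g⁻¹)⁻¹) * c⁻¹ := by group
    rw [h2]; exact h1
  rcases h.conj_E hk with h1 | h1
  · refine ⟨(c * g⁻¹)⁻¹, inv_mem h1, ?_⟩
    calc (c * g⁻¹)⁻¹ * φ τ * ((c * g⁻¹)⁻¹)⁻¹ = g * (c⁻¹ * φ τ * c) * g⁻¹ := by group
      _ = g * φ τ * g⁻¹ := by rw [hct]
  · exfalso
    have h2 := (h1 (φ τ)).1 t_mem_E
    have h3 := h.W_conj h2
    apply hne
    have h4 : g⁻¹ * φ τ * g = φ τ := by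
      calc g⁻¹ * φ τ * g = c⁻¹ * ((c * g⁻¹) * φ τ * (c * g⁻¹)⁻¹) * c := by group
        _ = c⁻¹ * φ τ * c := by rw [h3]
        _ = φ τ := hct
    calc g * φ τ * g⁻¹ = g * (g⁻¹ * φ τ * g) * g⁻¹ := by rw [h4]
      _ = φ τ := by group

/-- fusion of `z` in `E` is controlled by `N(E)` -/
theorem mem_norm_z [Finite G] {g : G} (hg : g * φ ζ * g⁻¹ ∈ (centralizer ({α} : Set Q)).map φ) :
    g ∈ normalizer (((centralizer ({α} : Set Q)).map φ : Subgroup G) : Set G) := by
  set E := (centralizer ({α} : Set Q)).map φ with hE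
  have hk : ∀ x ∈ E, g⁻¹ * x * (g⁻¹)⁻¹ ∈ centralizer ({φ ζ} : Set G) := by
    intro x hx
    rw [mem_centralizer_singleton_iff]
    have h1 := E_comm hx hg
    calc g⁻¹ * x * (g⁻¹)⁻¹ * φ ζ = g⁻¹ * (x * (g * φ ζ * g⁻¹)) * g := by group
      _ = g⁻¹ * ((g * φ ζ * g⁻¹) * x) * g := by rw [h1]
      _ = φ ζ * (g⁻¹ * x * (g⁻¹)⁻¹) := by group
  rcases h.conj_E hk with h1 | h1
  · have := inv_mem h1
    rwa [inv_inv] at this
  · exfalso
    have h2 := (h1 (φ τ)).1 t_mem_E
    have h3 := h.W_conj h2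
    -- `g` commutes with `t`
    have h4 : g⁻¹ * φ τ = φ τ * g⁻¹ := by
      calc g⁻¹ * φ τ = (g⁻¹ * φ τ * (g⁻¹)⁻¹) * g⁻¹ := by group
        _ = φ τ * g⁻¹ := by rw [h3]
    obtain ⟨c, hc⟩ := h.cent_t _ h4
    -- `α ∈ E` goes into `W`
    have h5 := (h1 (φ α)).1 (mem_E.2 ⟨α, rfl, rfl⟩)
    rw [← hc] at h5
    obtain ⟨w, ⟨hw1, hw2⟩, hw⟩ := Hyp.mem_W.1 h5
    have h6 : w = c * α * c⁻¹ := h.inj (by rw [hw, map_mul, map_mul, map_inv])
    rw [h6] at hw1 hw2
    exact α_conj_not_W c hw1 hw2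

omit h in
/-- every element of `E` -/
theorem E_elts {g : G} (hg : g ∈ (centralizer ({α} : Set Q)).map φ) : g = 1 ∨ g = φ τ ∨ g = φ ζ ∨ g = φ (τ * ζ) ∨
    g = φ α ∨ g = φ α' ∨ g = φ (τ * α) ∨ g = φ (τ * α') := by
  obtain ⟨q, hq, rfl⟩ := mem_E.1 hg
  rcases E_cases q hq with rfl | rfl | rfl | rfl | rfl | rfl | rfl | rfl
  · left; exact map_one φ
  all_goals simp

omit h in
/-- transport of non-conjugacy -/
theorem trans_conj {a b : Q} {c : Q} (hc : c * a = b * c) {x : G} (hx : ∃ g : G, g * x * g⁻¹ = φ b) :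
    ∃ g : G, g * x * g⁻¹ = φ a := by
  obtain ⟨g, hg⟩ := hx
  refine ⟨(φ c)⁻¹ * g, ?_⟩
  have : φ c * φ a = φ b * φ c := by rw [← map_mul, hc, map_mul]
  calc (φ c)⁻¹ * g * x * ((φ c)⁻¹ * g)⁻¹ = (φ c)⁻¹ * (g * x * g⁻¹) * φ c := by group
    _ = (φ c)⁻¹ * (φ b * φ c) := by rw [hg]; group
    _ = φ a := by rw [← this]; group

/-- `t` is not conjugate to both `a` and `t a` -/
theorem not_both [Finite G] (h1 : ∃ g : G, g * φ τ * g⁻¹ = φ α) (h2 : ∃ g : G, g * φ τ * g⁻¹ = φ (τ * α)) : False := by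
  obtain ⟨g, hg⟩ := h1
  have hne : g * φ τ * g⁻¹ ≠ φ τ := by
    rw [hg]
    intro he
    exact absurd (h.inj he) (by decide)
  obtain ⟨n, hn, hn'⟩ := h.exists_norm_t (g := g) (by rw [hg]; exact mem_E.2 ⟨α, rfl, rfl⟩) hne
  -- the elements of `E` not conjugate to `t`
  have key : ∀ x ∈ (centralizer ({α} : Set Q)).map φ, x ≠ 1 → (¬ ∃ g : G, g * φ τ * g⁻¹ = x) → x = φ ζ ∨ x = φ (τ * ζ) := by
    intro x hx hx1 hx2
    rcases E_elts hx with rfl | rfl | rfl | rfl | rfl | rfl | rfl | rfl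
    · exact absurd rfl hx1
    · exact absurd ⟨1, by group⟩ hx2
    · exact Or.inl rfl
    · exact Or.inr rfl
    · exact absurd ⟨g, hg⟩ hx2
    · exfalso
      apply hx2
      refine ⟨φ ζ₁ * g, ?_⟩
      have : φ ζ₁ * φ α = φ α' * φ ζ₁ := by rw [← map_mul, conj_α', map_mul]
      calc φ ζ₁ * g * φ τ * (φ ζ₁ * g)⁻¹ = φ ζ₁ * (g * φ τ * g⁻¹) * (φ ζ₁)⁻¹ := by group
        _ = φ α' := by rw [hg, this]; group
    · exact absurd h2 hx2
    · exfalso
      apply hx2
      obtain ⟨g', hg'⟩ := h2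
      refine ⟨φ ζ₁ * g', ?_⟩
      have : φ ζ₁ * φ (τ * α) = φ (τ * α') * φ ζ₁ := by rw [← map_mul, conj_τα', map_mul]
      calc φ ζ₁ * g' * φ τ * (φ ζ₁ * g')⁻¹ = φ ζ₁ * (g' * φ τ * g'⁻¹) * (φ ζ₁)⁻¹ := by group
        _ = φ (τ * α') := by rw [hg', this]; group
  have hτζ : φ (τ * ζ) ∈ (centralizer ({α} : Set Q)).map φ := mem_E.2 ⟨τ * ζ, by decide, rfl⟩
  have hnorm : ∀ x, x ∈ (centralizer ({α} : Set Q)).map φ → n * x * n⁻¹ ∈ (centralizer ({α} : Set Q)).map φ := fun x hx =>
    (mem_normalizer_iff.1 hn x).1 hx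
  have conj_ne : ∀ {x : G}, x ≠ 1 → n * x * n⁻¹ ≠ 1 := by
    intro x hx he
    apply hx
    have := mul_inv_eq_one.1 he
    rwa [mul_eq_left] at this
  have notc : ∀ {x : G}, (¬ ∃ g : G, g * φ τ * g⁻¹ = x) → ¬ ∃ g : G, g * φ τ * g⁻¹ = n * x * n⁻¹ := by
    rintro x hx ⟨g', hg'⟩
    apply hx
    refine ⟨n⁻¹ * g', ?_⟩
    calc n⁻¹ * g' * φ τ * (n⁻¹ * g')⁻¹ = n⁻¹ * (g' * φ τ * g'⁻¹) * n := by group
      _ = x := by rw [hg']; group
  have hz1 : φ ζ ≠ 1 := fun he => ζ_ne (h.inj (by rw [he, map_one]))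
  have hτζ1 : φ (τ * ζ) ≠ 1 := fun he => absurd (h.inj (he.trans (map_one φ).symm)) (by decide)
  have e1 := key _ (hnorm _ z_mem_E) (conj_ne hz1) (notc (fun ⟨g', hg'⟩ => h.τζ_ne g' hg'))
  have e2 := key _ (hnorm _ hτζ) (conj_ne hτζ1) (notc (fun ⟨g', hg'⟩ => h.τ_τζ_ne g' hg'))
  have e1' : n * φ ζ * n⁻¹ = φ ζ := e1.resolve_right (h.ζ_τζ_ne n)
  have e2' : n * φ (τ * ζ) * n⁻¹ = φ (τ * ζ) := by
    rcases e2 with e2 | e2
    · exfalso
      have : n * φ (τ * ζ) * n⁻¹ = n * φ ζ * n⁻¹ := by rw [e2, e1']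
      have h3 := mul_left_cancel (mul_right_cancel this)
      exact absurd (h.inj h3) (by decide)
    · exact e2
  apply hne
  rw [← hn']
  have e3 : φ τ = φ (τ * ζ) * (φ ζ)⁻¹ := by rw [map_mul]; group
  calc n * φ τ * n⁻¹ = (n * φ (τ * ζ) * n⁻¹) * (n * φ ζ * n⁻¹)⁻¹ := by rw [e3]; group
    _ = φ τ := by rw [e2', e1', ← e3]

/-- if `b ∈ {a, t a}` is conjugate to `z`, then `t b` is conjugate to `t` -/
theorem conj_tb [Finite G] {b : Q} (hb : b = α ∨ b = τ * α) (h1 : ∃ g : G, g * φ ζ * g⁻¹ = φ b) :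
    ∃ g : G, g * φ τ * g⁻¹ = φ (τ * b) := by
  by_contra hcon
  obtain ⟨g, hg⟩ := h1
  have hbE : φ b ∈ (centralizer ({α} : Set Q)).map φ := by
    rcases hb with rfl | rfl
    · exact mem_E.2 ⟨_, rfl, rfl⟩
    · exact mem_E.2 ⟨_, by decide, rfl⟩
  have hn := h.mem_norm_z (g := g) (by rw [hg]; exact hbE)
  -- `t` is the only conjugate of `t` in `E`
  have h2 : g * φ τ * g⁻¹ ∈ (centralizer ({α} : Set Q)).map φ := (mem_normalizer_iff.1 hn _).1 t_mem_E
  have hb' : ∀ b' : Q, ζ₁ * b = b' * ζ₁ → (¬ ∃ g : G, g * φ τ * g⁻¹ = φ b') := by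
    rintro b' hb' hg'
    obtain ⟨g₁, hg₁⟩ := trans_conj hb' hg'
    have : (g⁻¹ * g₁) * φ τ * (g⁻¹ * g₁)⁻¹ = φ ζ := by
      calc (g⁻¹ * g₁) * φ τ * (g⁻¹ * g₁)⁻¹ = g⁻¹ * (g₁ * φ τ * g₁⁻¹) * g := by group
        _ = φ ζ := by rw [hg₁, ← hg]; group
    exact h.τζ_ne _ this
  have hb'' : ∀ b' : Q, ζ₁ * (τ * b) = b' * ζ₁ → (¬ ∃ g : G, g * φ τ * g⁻¹ = φ b') := by
    rintro b' hb' hg'
    exact hcon (trans_conj hb' hg')
  have hb0 : ¬ ∃ g : G, g * φ τ * g⁻¹ = φ b := by
    rintro ⟨g₁, hg₁⟩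
    have : (g⁻¹ * g₁) * φ τ * (g⁻¹ * g₁)⁻¹ = φ ζ := by
      calc (g⁻¹ * g₁) * φ τ * (g⁻¹ * g₁)⁻¹ = g⁻¹ * (g₁ * φ τ * g₁⁻¹) * g := by group
        _ = φ ζ := by rw [hg₁, ← hg]; group
    exact h.τζ_ne _ this
  have ht1 : g * φ τ * g⁻¹ ≠ 1 := by
    intro he
    have := mul_inv_eq_one.1 he
    rw [mul_eq_left] at this
    exact τ_ne (h.inj (by rw [this, map_one]))
  have h3 : g * φ τ * g⁻¹ = φ τ := by
    rcases E_elts h2 with h4 | h4 | h4 | h4 | h4 | h4 | h4 | h4
    · exact absurd h4 ht1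
    · exact h4
    · exact absurd h4 (h.τζ_ne g)
    · exact absurd h4 (h.τ_τζ_ne g)
    · exfalso
      rcases hb with rfl | rfl
      · exact hb0 ⟨g, h4⟩
      · exact hcon ⟨g, by rw [h4]; rfl⟩
    · exfalso
      rcases hb with rfl | rfl
      · exact hb' _ (by decide) ⟨g, h4⟩
      · exact hb'' _ (by decide) ⟨g, h4⟩
    · exfalso
      rcases hb with rfl | rfl
      · exact hcon ⟨g, h4⟩
      · exact hb0 ⟨g, h4⟩
    · exfalso
      rcases hb with rfl | rfl
      · exact hb'' _ (by decide) ⟨g, h4⟩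
      · exact hb' _ (by decide) ⟨g, h4⟩
  have h4 : g * φ τ = φ τ * g := by
    calc g * φ τ = (g * φ τ * g⁻¹) * g := by group
      _ = φ τ * g := by rw [h3]
  obtain ⟨c, rfl⟩ := h.cent_t g h4
  have h5 : c * ζ * c⁻¹ = b := h.inj (by rw [map_mul, map_mul, map_inv]; exact hg)
  rcases hb with rfl | rfl
  · exact (not_conj_α c).1 h5
  · exact (not_conj_α c).2 h5

end Hyp

end Cfsg.Agent.H314.S6Fus
end

-- part: H314/S6Trans
section
/-!
# Transfer and the odd core (helper314)
-/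

set_option autoImplicit false

namespace Cfsg.Agent.H314.S6Fus

open Subgroup Cfsg.Agent.H314.S6Model

variable {G : Type*} [Group G]

namespace Hyp

variable {φ : Q →* G} (h : Hyp φ)
include h

theorem card_T [Finite G] : Nat.card (centralizer ({φ ζ} : Set G)) = 16 := by
  have h1 : centralizer ({φ ζ} : Set G) = (centralizer ({ζ} : Set Q)).map φ := by
    ext g
    rw [h.mem_T, mem_map]
    constructor
    · rintro ⟨q, hq, rfl⟩
      exact ⟨q, mem_centralizer_singleton_iff.2 hq, rfl⟩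
    · rintro ⟨q, hq, rfl⟩
      exact ⟨q, mem_centralizer_singleton_iff.1 hq, rfl⟩
  rw [h1, ← S6Model.card_T]
  exact (Nat.card_congr (Subgroup.equivMapOfInjective _ φ h.inj).toEquiv).symm

theorem card_C [Finite G] : Nat.card (centralizer ({φ τ} : Set G)) = 48 := by
  have h1 : centralizer ({φ τ} : Set G) = φ.range := by
    ext g
    rw [h.mem_C, MonoidHom.mem_range]
  rw [h1, ← card_Q]
  exact (Nat.card_congr (MonoidHom.ofInjective h.inj).toEquiv).symm

theorem order_t : orderOf (φ τ) = 2 := by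
  rw [orderOf_injective φ h.inj]
  exact orderOf_eq_prime (by rw [pow_two]; exact τ_sq) τ_ne

theorem order_z : orderOf (φ ζ) = 2 := by
  rw [orderOf_injective φ h.inj]
  exact orderOf_eq_prime (by rw [pow_two]; exact ζ_sq) ζ_ne

theorem sign_aux [Finite G] (χ : Q →* ℤˣ) (hc : Nat.card (centralizer ({ζ} : Set Q) ⊓ χ.ker : Subgroup Q) = 8)
    (hno : ∀ q : Q, q * ζ = ζ * q → χ q = 1 → q * q = 1 → ∀ g : G, g * φ τ * g⁻¹ ≠ φ q) :
    ∃ f : G →* ℤˣ, f (φ τ) = -1 := by
  obtain ⟨P, hP⟩ := h.syl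
  refine Cfsg.Agent.Classification.TransferSign.exists_hom_neg_one P
    ((centralizer ({ζ} : Set Q) ⊓ χ.ker : Subgroup Q).map φ) ?_ ?_ _ h.order_t ?_
  · rintro _ ⟨q, hq, rfl⟩
    rw [hP]
    exact h.mem_T.2 ⟨q, mem_centralizer_singleton_iff.1 hq.1, rfl⟩
  · have hle : (centralizer ({ζ} : Set Q) ⊓ χ.ker : Subgroup Q).map φ ≤ (P : Subgroup G) := by
      rintro _ ⟨q, hq, rfl⟩
      rw [hP]
      exact h.mem_T.2 ⟨q, mem_centralizer_singleton_iff.1 hq.1, rfl⟩
    have h1 : Nat.card (((centralizer ({ζ} : Set Q) ⊓ χ.ker : Subgroup Q).map φ).subgroupOf (P : Subgroup G)) = 8 := by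
      rw [Nat.card_congr (Subgroup.subgroupOfEquivOfLe hle).toEquiv, ← hc]
      exact (Nat.card_congr (Subgroup.equivMapOfInjective _ φ h.inj).toEquiv).symm
    have h2 := Subgroup.index_mul_card (((centralizer ({ζ} : Set Q) ⊓ χ.ker : Subgroup Q).map φ).subgroupOf (P : Subgroup G))
    have h3 : Nat.card (P : Subgroup G) = 16 := by rw [hP, h.card_T]
    rw [h1, h3] at h2
    show (((centralizer ({ζ} : Set Q) ⊓ χ.ker : Subgroup Q).map φ).subgroupOf (P : Subgroup G)).index = 2
    omega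
  · rintro g ⟨q, hq, hg⟩
    have hq1 : q * ζ = ζ * q := mem_centralizer_singleton_iff.1 hq.1
    have hq2 : χ q = 1 := hq.2
    refine hno q hq1 hq2 ?_ g hg.symm
    apply h.inj
    rw [map_mul, hg, map_one]
    calc g * φ τ * g⁻¹ * (g * φ τ * g⁻¹) = g * (φ τ * φ τ) * g⁻¹ := by group
      _ = 1 := by rw [← map_mul, τ_sq, map_one]; group

theorem one_aux {g : G} (hg : g * φ τ * g⁻¹ = φ 1) : False := by
  rw [map_one] at hg
  have := mul_inv_eq_one.1 hg
  rw [mul_eq_left] at this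
  exact τ_ne (h.inj (by rw [this, map_one]))

/-- there is a homomorphism onto `±1` not killing `t` -/
theorem exists_sign [Finite G] : ∃ f : G →* ℤˣ, f (φ τ) = -1 := by
  have hζ : ∀ g : G, g * φ τ * g⁻¹ ≠ φ ζ₁ ∧ g * φ τ * g⁻¹ ≠ φ ζ₂ := by
    intro g
    constructor
    · intro hg
      obtain ⟨c, hc⟩ := conj_ζ₁
      obtain ⟨g', hg'⟩ := trans_conj hc ⟨g, hg⟩
      exact h.τζ_ne _ hg'
    · intro hg
      obtain ⟨c, hc⟩ := conj_ζ₂
      obtain ⟨g', hg'⟩ := trans_conj hc ⟨g, hg⟩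
      exact h.τζ_ne _ hg'
  by_cases h1 : ∃ g : G, g * φ τ * g⁻¹ = φ α
  · have h2 : ¬ ∃ g : G, g * φ τ * g⁻¹ = φ (τ * α) := fun h2 => h.not_both h1 h2
    refine h.sign_aux χ₂ card_M₂ fun q hq hχ hqq g hg => ?_
    rcases M₂_cases q hq hχ hqq with rfl | rfl | rfl | rfl | rfl | rfl
    · exact h.one_aux hg
    · exact h.τζ_ne g hg
    · exact (hζ g).1 hg
    · exact (hζ g).2 hg
    · exact h2 ⟨g, hg⟩
    · exact h2 (trans_conj conj_τα' ⟨g, hg⟩)
  · refine h.sign_aux χ₁ card_M₁ fun q hq hχ hqq g hg => ?_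
    rcases M₁_cases q hq hχ hqq with rfl | rfl | rfl | rfl | rfl | rfl
    · exact h.one_aux hg
    · exact h.τζ_ne g hg
    · exact (hζ g).1 hg
    · exact (hζ g).2 hg
    · exact h1 ⟨g, hg⟩
    · exact h1 (trans_conj conj_α' ⟨g, hg⟩)

/-- normal subgroups of odd order are trivial -/
theorem odd_normal_eq_bot [Finite G] {W : Subgroup G} (hW : W.Normal) (hodd : Odd (Nat.card W)) : W = ⊥ := by
  have two : ∀ w ∈ W, w * w = 1 → w = 1 := by
    intro w hw hww
    have h1 : orderOf (⟨w, hw⟩ : W) ∣ 2 := orderOf_dvd_of_pow_eq_one (Subtype.ext (by simpa only [pow_two, _root_.MulMemClass.mk_mul_mk, _root_.OneMemClass.coe_one] using hww))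
    have h2 : orderOf (⟨w, hw⟩ : W) ∣ Nat.card W := orderOf_dvd_natCard _
    have h3 : orderOf (⟨w, hw⟩ : W) ∣ 1 := by
      have := Nat.dvd_gcd h1 h2
      rwa [Nat.Coprime.gcd_eq_one (Nat.coprime_two_left.2 hodd)] at this
    have h4 : (⟨w, hw⟩ : W) = 1 := by
      rw [← orderOf_eq_one_iff]; exact Nat.dvd_one.1 h3
    exact congrArg Subtype.val h4
  have hzz : φ ζ * φ ζ = 1 := by rw [← map_mul, ζ_sq, map_one]
  -- `C_W(z) = 1`
  have hCW : W ⊓ centralizer {φ ζ} = ⊥ := by
    have h1 : Nat.card (W ⊓ centralizer {φ ζ} : Subgroup G) ∣ 16 := by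
      rw [← h.card_T]; exact Subgroup.card_dvd_of_le inf_le_right
    have h2 : Nat.card (W ⊓ centralizer {φ ζ} : Subgroup G) ∣ Nat.card W := Subgroup.card_dvd_of_le inf_le_left
    have h3 : Nat.Coprime 16 (Nat.card W) := by
      rw [show 16 = 2 ^ 4 by norm_num]
      exact Nat.Coprime.pow_left 4 (Nat.coprime_two_left.2 hodd)
    have h4 := Nat.dvd_gcd h1 h2
    rw [h3.gcd_eq_one] at h4
    exact Subgroup.eq_bot_of_card_eq _ (Nat.dvd_one.1 h4)
  -- `z` inverts `W`
  have hinv : ∀ w ∈ W, φ ζ * w * (φ ζ)⁻¹ = w⁻¹ := by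
    let ψ : W →* W := (MulAut.conjNormal (φ ζ) : MulAut W).toMonoidHom
    have hφ : ∀ w : W, ((ψ w : W) : G) = φ ζ * w * (φ ζ)⁻¹ := fun w => MulAut.conjNormal_apply (φ ζ) w
    have hfix : MonoidHom.FixedPointFree ψ := by
      intro w hw
      have h1 : φ ζ * w * (φ ζ)⁻¹ = w := by rw [← hφ, hw]
      have h2 : (w : G) ∈ W ⊓ centralizer {φ ζ} := Subgroup.mem_inf.2 ⟨w.2, mem_centralizer_singleton_iff.2 <| by
        calc (w : G) * φ ζ = (φ ζ * w * (φ ζ)⁻¹) * φ ζ := by rw [h1]
          _ = φ ζ * w := by group⟩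
      rw [hCW, Subgroup.mem_bot] at h2
      exact Subtype.ext h2
    have hinvol : Function.Involutive ψ := by
      intro w
      apply Subtype.ext
      rw [hφ, hφ]
      calc φ ζ * (φ ζ * (w : G) * (φ ζ)⁻¹) * (φ ζ)⁻¹ = (φ ζ * φ ζ) * w * (φ ζ * φ ζ)⁻¹ := by group
        _ = w := by rw [hzz]; group
    have h3 := hfix.coe_eq_inv_of_involutive hinvol
    intro w hw
    have h4 := congrFun h3 ⟨w, hw⟩
    have h5 := congrArg (Subtype.val) h4
    rw [hφ] at h5
    exact h5
  -- conjugates of `z` invert `W` as well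
  have hinv' : ∀ (c v : Q), c * ζ = v * c → ∀ w ∈ W, φ v * w * (φ v)⁻¹ = w⁻¹ := by
    intro c v hc w hw
    have h1 : (φ c)⁻¹ * w * φ c ∈ W := by
      have := hW.conj_mem w hw (φ c)⁻¹
      rwa [inv_inv] at this
    have h2 := hinv _ h1
    have h3 : φ c * φ ζ = φ v * φ c := by rw [← map_mul, hc, map_mul]
    have h4 : φ v = φ c * φ ζ * (φ c)⁻¹ := by rw [h3]; group
    calc φ v * w * (φ v)⁻¹ = φ c * (φ ζ * ((φ c)⁻¹ * w * φ c) * (φ ζ)⁻¹) * (φ c)⁻¹ := by rw [h4]; group
      _ = w⁻¹ := by rw [h2]; group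
  rw [Subgroup.eq_bot_iff_forall]
  intro w hw
  apply two w hw
  obtain ⟨c₁, hc₁⟩ := conj_ζ₁
  obtain ⟨c₂, hc₂⟩ := conj_ζ₂
  have e0 := hinv w⁻¹ (inv_mem hw)
  have e1 := hinv' c₁ ζ₁ hc₁ w hw
  have e2 := hinv' c₂ ζ₂ hc₂ w hw
  have e3 : φ ζ₂ = φ ζ * φ ζ₁ := by rw [← map_mul]; exact congrArg φ (by decide)
  have e4 : φ ζ₂ * w * (φ ζ₂)⁻¹ = w := by
    calc φ ζ₂ * w * (φ ζ₂)⁻¹ = φ ζ * (φ ζ₁ * w * (φ ζ₁)⁻¹) * (φ ζ)⁻¹ := by rw [e3]; group
      _ = w := by rw [e1, e0, inv_inv]
  rw [e4] at e2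
  calc w * w = w * w⁻¹ := by rw [← e2]
    _ = 1 := mul_inv_cancel w

end Hyp

end Cfsg.Agent.H314.S6Fus
end

-- part: H314/S6Index
section
/-!
# The subgroup of index two (helper314)
-/

set_option autoImplicit false

namespace Cfsg.Agent.H314.S6Fus

open Subgroup Cfsg.Agent.H314.S6Model
open Cfsg.Agent.Classification.DihedralCentral

variable {G : Type*} [Group G]

section model

open Equiv

/-- the dihedral group of order 8 in `S₄` -/
def dihFun : DihedralGroup 4 → Perm (Fin 4)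
  | .r i => (swap (0 : Fin 4) 2 * swap (2 : Fin 4) 1 * swap (1 : Fin 4) 3 : Perm (Fin 4)) ^ i.val
  | .sr i => swap (0 : Fin 4) 1 * (swap (0 : Fin 4) 2 * swap (2 : Fin 4) 1 * swap (1 : Fin 4) 3 : Perm (Fin 4)) ^ i.val

theorem dihFun_mul : ∀ a b, dihFun (a * b) = dihFun a * dihFun b := by decide +kernel

theorem dihFun_inj : ∀ a, dihFun a = 1 → a = 1 := by decide

theorem dihFun_comm : ∀ a, dihFun a * (swap (0 : Fin 4) 1 * swap (2 : Fin 4) 3) = (swap (0 : Fin 4) 1 * swap (2 : Fin 4) 3) * dihFun a := by decide +kernel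

/-- the dihedral group of order 8 in `S₄` -/
def dih : DihedralGroup 4 →* Perm (Fin 4) where
  toFun := dihFun
  map_one' := by decide
  map_mul' := dihFun_mul

theorem dih_inj : Function.Injective dih := by
  rw [injective_iff_map_eq_one]
  exact dihFun_inj

theorem card_D : Nat.card (centralizer ({swap (0 : Fin 4) 1 * swap (2 : Fin 4) 3} : Set (Perm (Fin 4)))) = 8 := by
  have h : Fintype.card {q : Perm (Fin 4) // q * (swap (0 : Fin 4) 1 * swap (2 : Fin 4) 3) = (swap (0 : Fin 4) 1 * swap (2 : Fin 4) 3) * q} = 8 := by decide +kernel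
  rw [← h, ← Nat.card_eq_fintype_card]
  apply Nat.card_congr
  exact Equiv.subtypeEquivRight fun q => Subgroup.mem_centralizer_singleton_iff

theorem dih_range : dih.range = centralizer ({swap (0 : Fin 4) 1 * swap (2 : Fin 4) 3} : Set (Perm (Fin 4))) := by
  apply Subgroup.eq_of_le_of_card_ge
  · rintro _ ⟨a, rfl⟩
    exact mem_centralizer_singleton_iff.2 (dihFun_comm a)
  · rw [card_D, ← Nat.card_congr (MonoidHom.ofInjective dih_inj).toEquiv, Nat.card_eq_fintype_card]
    decide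

theorem snd_one : ∀ q : Q, q.2 = 1 → q = 1 ∨ q = τ := by decide +kernel

end model

namespace Hyp

variable {φ : Q →* G} (h : Hyp φ)
include h

/-- an order 8 subgroup of `T` avoiding `t` is dihedral -/
theorem dihedral [Finite G] {A : Subgroup G} (hA : A ≤ centralizer ({φ ζ} : Set G)) (ht : φ τ ∉ A)
    (h8 : Nat.card A = 8) : Nonempty (A ≃* DihedralGroup 4) := by
  have hAr : A ≤ φ.range := fun x hx => by
    obtain ⟨q, -, hq⟩ := h.mem_T.1 (hA hx)
    exact ⟨q, hq⟩
  let p : A →* Equiv.Perm (Fin 4) :=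
    ((MonoidHom.snd _ _).comp (MonoidHom.ofInjective h.inj).symm.toMonoidHom).comp (Subgroup.inclusion hAr)
  have hp : ∀ (x : A) (q : Q), φ q = x → p x = q.2 := by
    intro x q hq
    show ((MonoidHom.ofInjective h.inj).symm (Subgroup.inclusion hAr x)).2 = q.2
    have : (MonoidHom.ofInjective h.inj).symm (Subgroup.inclusion hAr x) = q := by
      rw [MulEquiv.symm_apply_eq]
      apply Subtype.ext
      rw [MonoidHom.ofInjective_apply]
      exact hq.symm
    rw [this]
  have hpi : Function.Injective p := by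
    rw [injective_iff_map_eq_one]
    intro x hx
    obtain ⟨q, -, hq⟩ := h.mem_T.1 (hA x.2)
    rw [hp x q hq] at hx
    rcases snd_one q hx with rfl | rfl
    · rw [map_one] at hq
      exact Subtype.ext hq.symm
    · exact absurd (hq ▸ x.2) ht
  have hpr : p.range = dih.range := by
    rw [dih_range]
    apply Subgroup.eq_of_le_of_card_ge
    · rintro _ ⟨x, rfl⟩
      obtain ⟨q, hqz, hq⟩ := h.mem_T.1 (hA x.2)
      rw [hp x q hq, mem_centralizer_singleton_iff]
      exact congrArg Prod.snd hqz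
    · rw [card_D, ← Nat.card_congr (MonoidHom.ofInjective hpi).toEquiv, h8]
  exact ⟨(MonoidHom.ofInjective hpi).trans ((MulEquiv.subgroupCongr hpr).trans (MonoidHom.ofInjective dih_inj).symm)⟩

theorem card_G [Finite G] : ∃ m, Odd m ∧ Nat.card G = 16 * m := by
  obtain ⟨P, hP⟩ := h.syl
  refine ⟨(P : Subgroup G).index, ?_, ?_⟩
  · rw [← Nat.not_even_iff_odd, even_iff_two_dvd]
    exact P.not_dvd_index
  · have h1 := Subgroup.card_mul_index (P : Subgroup G)
    have h2 : Nat.card (P : Subgroup G) = 16 := by rw [hP, h.card_T]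
    rw [h2] at h1
    exact h1.symm

/-- the index two subgroup meets `T` in a group of order 8 -/
theorem card_ker [Finite G] {f : G →* ℤˣ} (hf : f (φ τ) = -1) :
    Nat.card (centralizer ({φ ζ} : Set G) ⊓ f.ker : Subgroup G) = 8 := by
  set g : centralizer ({φ ζ} : Set G) →* ℤˣ := f.comp (centralizer ({φ ζ} : Set G)).subtype with hg
  have htT : φ τ ∈ centralizer ({φ ζ} : Set G) := h.mem_T.2 ⟨τ, by decide, rfl⟩
  have hsurj : Function.Surjective g := by
    intro u
    rcases Int.units_eq_one_or u with rfl | rfl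
    · exact ⟨1, map_one _⟩
    · exact ⟨⟨φ τ, htT⟩, hf⟩
  have h1 : g.ker.index = 2 := by
    rw [Subgroup.index_ker, MonoidHom.range_eq_top.2 hsurj]
    rw [Nat.card_congr Subgroup.topEquiv.toEquiv, Nat.card_eq_fintype_card]
    rfl
  have h2 := Subgroup.index_mul_card g.ker
  rw [h1, h.card_T] at h2
  have h3 : g.ker = f.ker.subgroupOf (centralizer ({φ ζ} : Set G)) := by
    ext x
    rw [MonoidHom.mem_ker, mem_subgroupOf, MonoidHom.mem_ker]
    rfl
  have h4 : Nat.card (f.ker.subgroupOf (centralizer ({φ ζ} : Set G))) = 8 := by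
    rw [← h3]; omega
  rw [← h4, ← card_map_of_injective (centralizer ({φ ζ} : Set G)).subtype_injective, subgroupOf_map_subtype, inf_comm]

theorem card_ker' [Finite G] {f : G →* ℤˣ} (hf : f (φ τ) = -1) : ∃ m, Odd m ∧ Nat.card f.ker = 8 * m := by
  obtain ⟨m, hm, hG⟩ := h.card_G
  refine ⟨m, hm, ?_⟩
  have hsurj : Function.Surjective f := by
    intro u
    rcases Int.units_eq_one_or u with rfl | rfl
    · exact ⟨1, map_one _⟩
    · exact ⟨_, hf⟩
  have h1 : f.ker.index = 2 := by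
    rw [Subgroup.index_ker, MonoidHom.range_eq_top.2 hsurj]
    rw [Nat.card_congr Subgroup.topEquiv.toEquiv, Nat.card_eq_fintype_card]
    rfl
  have h2 := Subgroup.index_mul_card f.ker
  rw [h1, hG] at h2
  omega

theorem subDihedral [Finite G] {f : G →* ℤˣ} (hf : f (φ τ) = -1) : SubDihedral f.ker := by
  have : Fact (Nat.Prime 2) := ⟨Nat.prime_two⟩
  set D := (centralizer ({φ ζ} : Set G) ⊓ f.ker).subgroupOf f.ker with hD
  have hDc : Nat.card D = 8 := by
    rw [← h.card_ker hf, ← card_map_of_injective f.ker.subtype_injective, hD, subgroupOf_map_subtype, inf_assoc, inf_idem]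
  obtain ⟨m, hm, hK⟩ := h.card_ker' hf
  have h8 : Nat.card D = 2 ^ (Nat.card f.ker).factorization 2 := by
    rw [hDc, hK]
    have h2 : (8 * m).factorization 2 = 3 := by
      have hm0 : m ≠ 0 := by rintro rfl; exact absurd hm (by decide)
      rw [show 8 * m = 2 ^ 3 * m by norm_num, Nat.factorization_mul (by norm_num) hm0, Nat.factorization_pow]
      have h3 : m.factorization 2 = 0 := Nat.factorization_eq_zero_of_not_dvd (fun hd => by
        rw [← even_iff_two_dvd] at hd
        exact (Nat.not_even_iff_odd.2 hm) hd)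
      simp [Nat.prime_two.factorization, h3]
    rw [h2]; norm_num
  let P : Sylow 2 f.ker := Sylow.ofCard D h8
  have hP : (P : Subgroup f.ker) = D := rfl
  have hle : D.map f.ker.subtype ≤ centralizer ({φ ζ} : Set G) := by
    rw [hD, subgroupOf_map_subtype]
    exact inf_le_left.trans inf_le_left
  have hc8 : Nat.card (D.map f.ker.subtype) = 8 := by rw [card_map_of_injective f.ker.subtype_injective, hDc]
  have htm : φ τ ∉ D.map f.ker.subtype := by
    rintro ⟨x, -, hx⟩
    have hx' : (x : G) = φ τ := hx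
    have := x.2
    rw [MonoidHom.mem_ker, hx', hf] at this
    exact absurd this (by decide)
  obtain ⟨e⟩ := h.dihedral hle htm hc8
  refine subDihedral_of_sylow P 4 ?_
  exact ((Subgroup.equivMapOfInjective D _ f.ker.subtype_injective).trans e)

theorem oddCore_eq_bot [Finite G] : Cfsg.oddCore G = ⊥ := by
  apply h.odd_normal_eq_bot (pPrimeCore_normal 2 G)
  have := Cfsg.Agent.Lib.Cores.pPrimeCore_coprime (G := G) 2
  exact Nat.coprime_two_right.1 this

theorem oddCore_ker [Finite G] (f : G →* ℤˣ) : Cfsg.oddCore f.ker = ⊥ := by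
  have h1 := Cfsg.Agent.Lib.Cores.map_subtype_pPrimeCore (G := G) 2 (N := f.ker) inferInstance
  have h2 : Cfsg.pPrimeCore 2 G = ⊥ := h.oddCore_eq_bot
  rw [h2, inf_bot_eq] at h1
  exact (Subgroup.map_eq_bot_iff_of_injective _ f.ker.subtype_injective).1 h1

end Hyp

end Cfsg.Agent.H314.S6Fus
end

-- part: H314/S6Simple
section
/-!
# The simple normal subgroup (helper314)
-/

set_option autoImplicit false
set_option linter.style.haveILetI false

namespace Cfsg.Agent.H314.S6Fus

open Subgroup Cfsg.Agent.H314.S6Model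
open Cfsg.Agent.Classification.DihedralCentral Cfsg.Agent.Classification.DihReduction
open Cfsg.Agent.Classification.DihStructure

universe u

variable {G : Type u} [Group G]

/-- the conclusion: a simple normal subgroup with trivial centralizer -/
structure Simp (φ : Q →* G) (M : Subgroup G) : Prop where
  normal : M.Normal
  simple : IsSimpleGroup M
  cent : centralizer (M : Set G) = ⊥
  t_not : φ τ ∉ M
  four : 4 ∣ Nat.card M
  le : ∀ m, Odd m → Nat.card G = 16 * m → Nat.card M ∣ 8 * m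

/-- A normal simple subgroup with trivial centralizer is invariant under automorphisms. -/
theorem map_eq_of_simple {K : Type u} [Group K] [Finite K] {L : Subgroup K} (hn : L.Normal) (hs : IsSimpleGroup L)
    (hc : centralizer (L : Set K) = ⊥) (c : MulAut K) : L.map c.toMonoidHom = L := by
  have hn' : (L.map c.toMonoidHom).Normal := hn.map _ c.surjective
  have hcard : Nat.card (L.map c.toMonoidHom) = Nat.card L := card_map_of_injective c.injective
  have hne : L ≠ ⊥ := by
    intro he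
    have := hs.toNontrivial
    rw [he] at this
    exact not_nontrivial_iff_subsingleton.2 (inferInstance : Subsingleton (⊥ : Subgroup K)) this
  have h1 : ((L.map c.toMonoidHom).subgroupOf L).Normal := hn'.subgroupOf L
  rcases hs.eq_bot_or_eq_top_of_normal _ h1 with h2 | h2
  · exfalso
    have h3 : L.map c.toMonoidHom ⊓ L = ⊥ := by
      rw [← subgroupOf_map_subtype, h2, Subgroup.map_bot]
    have h4 : L.map c.toMonoidHom ≤ centralizer (L : Set K) := by
      intro x hx
      rw [mem_centralizer_iff]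
      intro y hy
      have h5 : x * y * x⁻¹ * y⁻¹ ∈ L.map c.toMonoidHom ⊓ L := by
        refine mem_inf.2 ⟨?_, ?_⟩
        · have : x * y * x⁻¹ * y⁻¹ = x * (y * x⁻¹ * y⁻¹) := by group
          rw [this]
          exact mul_mem hx (hn'.conj_mem _ (inv_mem hx) y)
        · exact mul_mem (hn.conj_mem _ hy x) (inv_mem hy)
      rw [h3, mem_bot] at h5
      calc y * x = (x * y * x⁻¹ * y⁻¹)⁻¹ * x * y := by group
        _ = x * y := by rw [h5]; group
    rw [hc, le_bot_iff] at h4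
    rw [h4] at hcard
    rw [Subgroup.card_bot] at hcard
    exact hne (Subgroup.eq_bot_of_card_eq _ hcard.symm)
  · rw [subgroupOf_eq_top] at h2
    exact (Subgroup.eq_of_le_of_card_ge h2 hcard.le).symm

theorem trans_normal {K : Subgroup G} [hK : K.Normal] {L : Subgroup K} [Finite G] (hn : L.Normal) (hs : IsSimpleGroup L)
    (hc : centralizer (L : Set K) = ⊥) : (L.map K.subtype).Normal := by
  refine ⟨fun x hx g => ?_⟩
  obtain ⟨y, hy, rfl⟩ := hx
  have h1 := map_eq_of_simple hn hs hc (MulAut.conjNormal g)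
  have h2 : (MulAut.conjNormal g : MulAut K) y ∈ L := by
    rw [← h1]; exact ⟨y, hy, rfl⟩
  exact ⟨_, h2, MulAut.conjNormal_apply g y⟩

namespace Hyp

variable {φ : Q →* G} (h : Hyp φ)
include h

omit h in
theorem f_ρ (f : G →* ℤˣ) : f (φ ρ) = 1 := by
  have h1 : f (φ ρ) * f (φ ρ) * f (φ ρ) = 1 := by
    rw [← map_mul, ← map_mul, ← map_mul, ← map_mul, ρ_cube, map_one, map_one]
  rcases Int.units_eq_one_or (f (φ ρ)) with h2 | h2
  · exact h2
  · rw [h2] at h1
    exact absurd h1 (by decide)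

/-- **structure** -/
theorem structure_G [Finite G] (hFT : OddOrder.{u}) : (∀ g, g * φ τ = φ τ * g) ∨ ∃ M : Subgroup G, Simp φ M := by
  obtain ⟨f, hf⟩ := h.exists_sign
  obtain ⟨m, hm, hG⟩ := h.card_G
  have hsurj : Function.Surjective f := by
    intro u
    rcases Int.units_eq_one_or u with rfl | rfl
    · exact ⟨1, map_one _⟩
    · exact ⟨_, hf⟩
  have hidx : f.ker.index = 2 := by
    rw [Subgroup.index_ker, MonoidHom.range_eq_top.2 hsurj]
    rw [Nat.card_congr Subgroup.topEquiv.toEquiv, Nat.card_eq_fintype_card]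
    rfl
  have hK : Nat.card f.ker = 8 * m := by
    have h2 := Subgroup.index_mul_card f.ker
    rw [hidx, hG] at h2
    omega
  -- if `|G| = 48`
  have h48 : Nat.card G = 48 → ∀ g, g * φ τ = φ τ * g := by
    intro hc g
    have h1 : centralizer ({φ τ} : Set G) = ⊤ := Subgroup.eq_top_of_card_eq _ (by rw [h.card_C, hc])
    have h2 : g ∈ centralizer ({φ τ} : Set G) := by rw [h1]; trivial
    exact mem_centralizer_singleton_iff.1 h2
  rcases structure_of_core_free hFT (h.subDihedral hf) (h.oddCore_ker f) with h1 | ⟨V, hV, hVk, -, hVi⟩ | ⟨L, hLn, hLs, hLc, hLi, -⟩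
  · exfalso
    obtain ⟨k, hk⟩ := h1 ⟨φ ρ, f_ρ f⟩
    have h2 : φ ρ ^ 2 ^ k = 1 := congrArg Subtype.val hk
    have h3 : orderOf (φ ρ) ∣ 2 ^ k := orderOf_dvd_of_pow_eq_one h2
    have h4 : orderOf (φ ρ) ∣ 3 := by
      apply orderOf_dvd_of_pow_eq_one
      rw [← map_pow, show ρ ^ 3 = ρ * ρ * ρ by rw [pow_succ, pow_two], ρ_cube, map_one]
    have h5 : orderOf (φ ρ) ∣ 1 := by
      have := Nat.dvd_gcd h3 h4
      rwa [Nat.Coprime.gcd_eq_one (Nat.Coprime.pow_left k (by norm_num))] at this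
    have h6 := orderOf_eq_one_iff.1 (Nat.dvd_one.1 h5)
    exact ρ_ne (h.inj (by rw [h6, map_one]))
  · left
    apply h48
    have h2 := Subgroup.index_mul_card V
    have h3 : Nat.card V = 4 := hVk.card_four
    rw [h3, hK] at h2
    rcases hVi with h4 | h4
    · rw [h4] at h2; omega
    · rw [h4] at h2; omega
  · -- the simple case
    set M : Subgroup G := L.map f.ker.subtype with hM
    have hMn : M.Normal := trans_normal hLn hLs hLc
    have hMK : M ≤ f.ker := map_subtype_le _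
    by_cases hC : centralizer (M : Set G) = ⊥
    · right
      refine ⟨M, hMn, ?_, hC, ?_, ?_, ?_⟩
      · let e : L ≃* M := Subgroup.equivMapOfInjective L _ f.ker.subtype_injective
        exact MulEquiv.isSimpleGroup e.symm
      · intro ht
        have := hMK ht
        rw [MonoidHom.mem_ker, hf] at this
        exact absurd this (by decide)
      · have h1 : Nat.card M = Nat.card L := card_map_of_injective f.ker.subtype_injective
        rw [h1]
        have h2 := Subgroup.index_mul_card L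
        rw [hK] at h2
        by_contra h4
        have h5 : 4 ∣ L.index * Nat.card L := by rw [h2]; omega
        -- `8 ∣ index * card`
        have h6 : 8 ∣ L.index * Nat.card L := by rw [h2]; exact dvd_mul_right 8 m
        have e1 : (2 : ℕ) ^ 3 ∣ L.index * Nat.card L := by norm_num only []; exact h6
        have hp : Nat.Prime 2 := Nat.prime_two
        obtain ⟨a, b, ha, hb, hab⟩ : ∃ a b, a ∣ L.index ∧ b ∣ Nat.card L ∧ a * b = 8 := by
          obtain ⟨a, b, ha, hb, hab⟩ := (Nat.dvd_mul).1 h6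
          exact ⟨a, b, ha, hb, hab⟩
        have ha8 : a ∣ 8 := ⟨b, hab.symm⟩
        have : a ≤ 8 := Nat.le_of_dvd (by norm_num) ha8
        interval_cases a
        · omega
        · have : b = 8 := by omega
          subst this
          exact h4 (dvd_trans (by norm_num) hb)
        · have : b = 4 := by omega
          subst this
          exact h4 hb
        · omega
        · exact hLi ha
        · omega
        · omega
        · omega
        · exact hLi (dvd_trans (by norm_num) ha)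
      · intro m' hm' hG'
        have : m' = m := by omega
        rw [this, ← hK]
        exact Subgroup.card_dvd_of_le hMK
    · left
      -- `C(M)` meets `K` trivially
      have hCK : centralizer (M : Set G) ⊓ f.ker = ⊥ := by
        rw [Subgroup.eq_bot_iff_forall]
        rintro x hx
        have hxK := (mem_inf.1 hx).2
        have h1 : (⟨x, hxK⟩ : f.ker) ∈ centralizer (L : Set f.ker) := by
          rw [mem_centralizer_iff]
          intro y hy
          apply Subtype.ext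
          exact mem_centralizer_iff.1 (mem_inf.1 hx).1 y ⟨y, hy, rfl⟩
        rw [hLc, mem_bot] at h1
        exact congrArg Subtype.val h1
      have hCn : (centralizer (M : Set G)).Normal := by
        haveI := hMn
        exact Subgroup.normal_centralizer
      obtain ⟨u, hu, hu1⟩ : ∃ u ∈ centralizer (M : Set G), u ≠ 1 := by
        by_contra hcon
        push Not at hcon
        exact hC ((Subgroup.eq_bot_iff_forall _).2 hcon)
      have hcent : ∀ g, g * u = u * g := by
        intro g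
        have h1 : g * u * g⁻¹ * u⁻¹ ∈ centralizer (M : Set G) ⊓ f.ker := by
          refine mem_inf.2 ⟨mul_mem (hCn.conj_mem _ hu g) (inv_mem hu), ?_⟩
          rw [MonoidHom.mem_ker, map_mul, map_mul, map_mul, map_inv, map_inv, mul_comm (f g), mul_assoc (f u), mul_inv_cancel,
            mul_one, mul_inv_cancel]
        rw [hCK, mem_bot] at h1
        calc g * u = (g * u * g⁻¹ * u⁻¹) * u * g := by group
          _ = u * g := by rw [h1, one_mul]
      obtain ⟨q, rfl⟩ := h.cent_t u (hcent _).symm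
      have h1 : q = 1 ∨ q = τ := by
        apply central_cases
        · exact (h.comm_iff _ _).1 (hcent _).symm
        · exact (h.comm_iff _ _).1 (hcent _).symm
      rcases h1 with rfl | rfl
      · exact absurd (map_one φ) hu1
      · exact hcent

end Hyp

end Cfsg.Agent.H314.S6Fus
end

-- part: H314/S6Aut
section
/-!
# Groups with a normal subgroup `A₅` or `A₆` (helper314)
-/

set_option autoImplicit false

namespace Cfsg.Agent.H314.S6Aut

open Equiv Equiv.Perm Subgroup
open Cfsg.Agent.Lib.AltCarmichael Cfsg.Agent.SporadicRecognition.AltCover Cfsg.Agent.StandardComponent.AltAut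
open Cfsg.Agent.LFourA.AltPsiAut

/-- the action on a normal subgroup transported through an isomorphism -/
def act {G X : Type*} [Group G] [Group X] (M : Subgroup G) [M.Normal] (e : M ≃* X) : G →* MulAut X :=
  (MulAut.congr e).toMonoidHom.comp MulAut.conjNormal

theorem act_apply {G X : Type*} [Group G] [Group X] (M : Subgroup G) [M.Normal] (e : M ≃* X) (g : G) (x : X) :
    (act M e g) x = e ((MulAut.conjNormal g : MulAut M) (e.symm x)) := rfl

theorem act_inj {G X : Type*} [Group G] [Group X] (M : Subgroup G) [M.Normal] (e : M ≃* X)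
    (hc : centralizer (M : Set G) = ⊥) : Function.Injective (act M e) := by
  rw [injective_iff_map_eq_one]
  intro g hg
  have h1 : g ∈ centralizer (M : Set G) := by
    rw [mem_centralizer_iff]
    intro m hm
    have h2 := act_apply M e g (e ⟨m, hm⟩)
    rw [hg, MulAut.one_apply, e.symm_apply_apply] at h2
    have h3 := congrArg Subtype.val (e.injective h2)
    rw [MulAut.conjNormal_apply] at h3
    have h4 : m = g * m * g⁻¹ := h3
    calc m * g = (g * m * g⁻¹) * g := by rw [← h4]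
      _ = g * m := by group
  rwa [hc, mem_bot] at h1

theorem three_of_order {x : Perm (Fin 5)} (hx : orderOf x = 3) : x.IsThreeCycle := by
  obtain ⟨j, hj⟩ := cycleType_prime_order (σ := x) (by rw [hx]; exact Nat.prime_three)
  rw [hx] at hj
  have hsum : 3 * (j + 1) ≤ 5 := by
    have h := x.sum_cycleType
    rw [hj, Multiset.sum_replicate, smul_eq_mul] at h
    have h2 := Finset.card_le_univ x.support
    rw [Fintype.card_fin] at h2
    omega
  have : j = 0 := by omega
  rw [IsThreeCycle, hj, this]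
  rfl

/-- a group with a normal `A₅` and trivial centralizer has at most 120 elements -/
theorem card_le_of_five {G : Type*} [Group G] [Finite G] (M : Subgroup G) [M.Normal]
    (hc : centralizer (M : Set G) = ⊥) (e : M ≃* alternatingGroup (Fin 5)) : Nat.card G ≤ 120 := by
  classical
  have key : ∀ g : G, ∃ σ : Perm (Fin 5), ∀ x : alternatingGroup (Fin 5), (act M e g x : Perm (Fin 5)) = σ * x * σ⁻¹ := by
    intro g
    refine exists_conj_of_three (m := 3) (by norm_num) (act M e g) ?_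
    intro i hi
    apply three_of_order
    rw [Subgroup.orderOf_coe, MulEquiv.orderOf_eq, ← Subgroup.orderOf_coe]
    exact (isThreeCycle_cyc hi).orderOf
  choose σ hσ using key
  have hinj : Function.Injective σ := by
    intro g g' hgg
    apply act_inj M e hc
    apply MulEquiv.ext
    intro x
    apply Subtype.ext
    rw [hσ, hσ, hgg]
  have h1 := Nat.card_le_card_of_injective σ hinj
  have h2 : Nat.card (Perm (Fin 5)) = 120 := by
    rw [Nat.card_eq_fintype_card, Fintype.card_perm, Fintype.card_fin]; rfl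
  rwa [h2] at h1

theorem conj_mem_NE (x : A6) : MulAut.conj x ∈ NE := by
  rw [mem_NE]
  intro y hy
  rw [MulAut.conj_apply]
  exact isThreeCycle_conj.2 hy

/-- an automorphism fixing an element of order three -/
theorem mem_NE_of_three {α : MulAut A6} {x : A6} (hx : orderOf x = 3) (h : α x = x) : α ∈ NE := by
  rcases three_or hx with h1 | h1
  · rw [mem_NE_iff]
    rw [← all_of_one α u3_three x h1, h]
    exact h1
  · by_contra hα
    have hα' : α⁻¹ ∉ NE := fun h2 => hα (by have := inv_mem h2; rwa [inv_inv] at this)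
    obtain ⟨g, hg⟩ := exists_conj_33 (type_of_not_mem hα' u3_three) h1
    have h2 : α x = α g * u3 * (α g)⁻¹ := by
      rw [← hg, map_mul, map_mul, map_inv, MulAut.apply_inv_self]
    rw [h2] at h
    have h3 : (x : Perm (Fin 6)).IsThreeCycle := by
      rw [← h]
      exact isThreeCycle_conj.2 u3_three
    rw [IsThreeCycle, h1] at h3
    exact absurd h3 (by decide)

/-- recognition of `S₆` -/
theorem iso_six {G : Type*} [Group G] [Finite G] (M : Subgroup G) [M.Normal]
    (hc : centralizer (M : Set G) = ⊥) (e : M ≃* A6) (hNE : ∀ g, act M e g ∈ NE) (hG : Nat.card G = 720) :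
    Nonempty (G ≃* Perm (Fin 6)) := by
  classical
  have key : ∀ g : G, ∃ σ : Perm (Fin 6), ∀ x : A6, (act M e g x : Perm (Fin 6)) = σ * x * σ⁻¹ := fun g =>
    exists_perm (hNE g)
  choose σ hσ using key
  have hmul : ∀ g g', σ (g * g') = σ g * σ g' := by
    intro g g'
    apply conj_unique (m := 4) (by norm_num)
    intro x
    rw [← hσ, map_mul, MulAut.mul_apply, hσ, hσ]
    group
  let ψ : G →* Perm (Fin 6) := MonoidHom.mk' σ hmul
  have hinj : Function.Injective ψ := by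
    intro g g' hgg
    have hgg' : σ g = σ g' := hgg
    apply act_inj M e hc
    apply MulEquiv.ext
    intro x
    apply Subtype.ext
    rw [hσ, hσ, hgg']
  have hb : Function.Bijective ψ := by
    rw [Nat.bijective_iff_injective_and_card]
    refine ⟨hinj, ?_⟩
    rw [hG, Nat.card_eq_fintype_card, Fintype.card_perm, Fintype.card_fin]; rfl
  exact ⟨MulEquiv.ofBijective ψ hb⟩

end Cfsg.Agent.H314.S6Aut
end

-- part: H314/S6Four
section
/-!
# The order of the Sylow 2-subgroup of the simple normal subgroup (helper314)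
-/

set_option autoImplicit false
set_option linter.style.haveILetI false

namespace Cfsg.Agent.H314.S6Fus

open Subgroup Cfsg.Agent.H314.S6Model
open Cfsg.Agent.Classification.BSW.Setup

universe u

variable {G : Type u} [Group G]

/-- no homomorphisms to `±1` from a simple group of composite order -/
theorem no_sign {X : Type*} [Group X] [Finite X] [hs : IsSimpleGroup X] (hna : ¬ ∀ a b : X, a * b = b * a) (f : X →* ℤˣ) (x : X) :
    f x = 1 := by
  rcases hs.eq_bot_or_eq_top_of_normal f.ker inferInstance with h | h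
  · exfalso
    apply hna
    intro a b
    have h1 : f (a * b) = f (b * a) := by rw [map_mul, map_mul, mul_comm]
    exact (MonoidHom.ker_eq_bot_iff f).1 h h1
  · have : x ∈ f.ker := by rw [h]; trivial
    exact this

namespace Simp

variable {φ : Q →* G} (h : Hyp φ) {M : Subgroup G} (S : Simp φ M)
include h S

theorem nonabelian : ¬ ∀ a b : M, a * b = b * a := by
  intro hab
  have h1 : M ≤ centralizer (M : Set G) := by
    intro x hx
    rw [mem_centralizer_iff]
    intro y hy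
    exact congrArg Subtype.val (hab ⟨y, hy⟩ ⟨x, hx⟩)
  rw [S.cent, le_bot_iff] at h1
  have := S.simple.toNontrivial
  rw [h1] at this
  exact not_nontrivial_iff_subsingleton.2 (inferInstance : Subsingleton (⊥ : Subgroup G)) this

theorem not_solvable [Finite G] : ¬ Group.IsSolvable G := by
  intro hG
  have hM : Group.IsSolvable M := inferInstance
  haveI := S.simple
  apply S.nonabelian h
  intro a b
  exact IsSimpleGroup.comm_iff_isSolvable.2 hM a b

/-- a Sylow 2-subgroup of `M` -/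
theorem card_inf [Finite G] : Nat.card (centralizer ({φ ζ} : Set G) ⊓ M : Subgroup G) = 2 ^ (Nat.card M).factorization 2 := by
  have : Fact (Nat.Prime 2) := ⟨Nat.prime_two⟩
  haveI := S.normal
  obtain ⟨P, hP⟩ := h.syl
  obtain ⟨R⟩ : Nonempty (Sylow 2 M) := inferInstance
  have hR : Nat.card (R : Subgroup M) = 2 ^ (Nat.card M).factorization 2 := R.card_eq_multiplicity
  have hRp : IsPGroup 2 ((R : Subgroup M).map M.subtype) := R.isPGroup'.map _
  obtain ⟨P', hP'⟩ := hRp.exists_le_sylow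
  obtain ⟨g, hg⟩ := MulAction.exists_smul_eq G P' P
  have hle : ((R : Subgroup M).map M.subtype).map (MulAut.conj g).toMonoidHom ≤ centralizer ({φ ζ} : Set G) ⊓ M := by
    rintro _ ⟨x, hx, rfl⟩
    refine mem_inf.2 ⟨?_, S.normal.conj_mem x (map_subtype_le _ hx) g⟩
    rw [← hP, ← hg, Sylow.coe_subgroup_smul]
    exact Subgroup.smul_mem_pointwise_smul x (MulAut.conj g) _ (hP' hx)
  apply le_antisymm
  · -- `T ∩ M` is a 2-subgroup of `M`
    have hp : IsPGroup 2 ((centralizer ({φ ζ} : Set G)).subgroupOf M) := by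
      have h1 : IsPGroup 2 (centralizer ({φ ζ} : Set G)) := by rw [← hP]; exact P.isPGroup'
      exact h1.comap_of_injective M.subtype M.subtype_injective
    obtain ⟨R', hR'⟩ := hp.exists_le_sylow
    have h2 : Nat.card ((centralizer ({φ ζ} : Set G)).subgroupOf M) ≤ 2 ^ (Nat.card M).factorization 2 := by
      rw [← R'.card_eq_multiplicity]
      exact Subgroup.card_le_of_le hR'
    rwa [← card_map_of_injective M.subtype_injective, subgroupOf_map_subtype] at h2
  · rw [← hR]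
    have h1 := Subgroup.card_le_of_le hle
    rw [card_map_of_injective (MulAut.conj g).injective, card_map_of_injective M.subtype_injective] at h1
    exact h1

theorem factorization [Finite G] : (Nat.card M).factorization 2 = 2 ∨ (Nat.card M).factorization 2 = 3 := by
  obtain ⟨m, hm, hG⟩ := h.card_G
  have hM0 : Nat.card M ≠ 0 := Nat.card_pos.ne'
  have h1 := S.le m hm hG
  have hm0 : m ≠ 0 := by rintro rfl; exact absurd hm (by decide)
  have h2 : (8 * m).factorization 2 = 3 := by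
    rw [show 8 * m = 2 ^ 3 * m by norm_num, Nat.factorization_mul (by norm_num) hm0, Nat.factorization_pow]
    have h3 : m.factorization 2 = 0 := Nat.factorization_eq_zero_of_not_dvd (fun hd => by
      rw [← even_iff_two_dvd] at hd
      exact (Nat.not_even_iff_odd.2 hm) hd)
    simp [Nat.prime_two.factorization, h3]
  have h3 : (Nat.card M).factorization 2 ≤ 3 := by
    rw [← h2]
    exact (Nat.factorization_le_iff_dvd hM0 (by omega)).2 h1 2
  have h4 : 2 ≤ (Nat.card M).factorization 2 := by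
    rw [← Nat.prime_two.pow_dvd_iff_le_factorization hM0]
    exact S.four
  omega

theorem V_le [Finite G] : φ ζ ∈ M ∧ φ ζ₁ ∈ M ∧ φ ζ₂ ∈ M := by
  have hc : 4 ≤ Nat.card (centralizer ({φ ζ} : Set G) ⊓ M : Subgroup G) := by
    rw [S.card_inf h]
    rcases S.factorization h with h1 | h1 <;> rw [h1] <;> norm_num
  have hne : centralizer ({φ ζ} : Set G) ⊓ M ≠ ⊥ := by
    intro he
    rw [he, Subgroup.card_bot] at hc
    omega
  obtain ⟨x, hx, hx1⟩ : ∃ x ∈ centralizer ({φ ζ} : Set G) ⊓ M, x ≠ 1 := by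
    by_contra hcon
    push Not at hcon
    exact hne ((Subgroup.eq_bot_iff_forall _).2 hcon)
  obtain ⟨q, -, rfl⟩ := h.mem_T.1 (mem_inf.1 hx).1
  have hxM := (mem_inf.1 hx).2
  have hq1 : q ≠ 1 := by rintro rfl; exact hx1 (map_one φ)
  have hqτ : q ≠ τ := by rintro rfl; exact S.t_not hxM
  obtain ⟨c, hc⟩ := comm_V q hq1 hqτ
  have h1 : φ (q * c * q⁻¹ * c⁻¹) ∈ M := by
    have : φ (q * c * q⁻¹ * c⁻¹) = φ q * (φ c * (φ q)⁻¹ * (φ c)⁻¹) := by
      rw [map_mul, map_mul, map_mul, map_inv, map_inv]; group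
    rw [this]
    exact mul_mem hxM (S.normal.conj_mem _ (inv_mem hxM) _)
  have conj : ∀ {a b c : Q}, c * a = b * c → φ a ∈ M → φ b ∈ M := by
    intro a b c hc ha
    have h2 : φ b = φ c * φ a * (φ c)⁻¹ := by
      rw [← map_mul, hc, map_mul]; group
    rw [h2]
    exact S.normal.conj_mem _ ha _
  have conj' : ∀ {a b c : Q}, c * a = b * c → φ b ∈ M → φ a ∈ M := by
    intro a b c hc ha
    have h2 : φ a = (φ c)⁻¹ * φ b * ((φ c)⁻¹)⁻¹ := by
      have : φ c * φ a = φ b * φ c := by rw [← map_mul, hc, map_mul]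
      rw [inv_inv, mul_assoc, ← this]; group
    rw [h2]
    exact S.normal.conj_mem _ ha _
  obtain ⟨c₁, hc₁⟩ := conj_ζ₁
  obtain ⟨c₂, hc₂⟩ := conj_ζ₂
  have h2 : φ ζ ∈ M := by
    rcases hc with hc | hc | hc
    · rwa [hc] at h1
    · rw [hc] at h1
      exact conj' hc₁ h1
    · rw [hc] at h1
      exact conj' hc₂ h1
  exact ⟨h2, conj hc₁ h2, conj hc₂ h2⟩

/-- `|M|₂ = 4` is impossible -/
theorem not_four [Finite G] : (Nat.card M).factorization 2 ≠ 2 := by
  intro hf
  haveI := S.normal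
  haveI := S.simple
  have : Fact (Nat.Prime 2) := ⟨Nat.prime_two⟩
  have hc : Nat.card (centralizer ({φ ζ} : Set G) ⊓ M : Subgroup G) = 4 := by
    rw [S.card_inf h, hf]; norm_num
  obtain ⟨hz, hz1, hz2⟩ := S.V_le h
  have hne : ∀ {a b : Q}, a ≠ b → φ a ≠ φ b := fun hab he => hab (h.inj he)
  -- the elements of `T ∩ M`
  have key : ∀ x ∈ centralizer ({φ ζ} : Set G) ⊓ M, x = 1 ∨ x = φ ζ ∨ x = φ ζ₁ ∨ x = φ ζ₂ := by
    intro x hx
    by_contra hcon
    push Not at hcon
    obtain ⟨e1, e2, e3, e4⟩ := hcon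
    have hsub : ({1, φ ζ, φ ζ₁, φ ζ₂, x} : Set G) ⊆ (centralizer ({φ ζ} : Set G) ⊓ M : Subgroup G) := by
      intro y hy
      simp only [Set.mem_insert_iff, Set.mem_singleton_iff] at hy
      rcases hy with rfl | rfl | rfl | rfl | rfl
      · exact one_mem _
      · exact mem_inf.2 ⟨h.mem_T.2 ⟨ζ, rfl, rfl⟩, hz⟩
      · exact mem_inf.2 ⟨h.mem_T.2 ⟨ζ₁, by decide, rfl⟩, hz1⟩
      · exact mem_inf.2 ⟨h.mem_T.2 ⟨ζ₂, by decide, rfl⟩, hz2⟩
      · exact hx
    have h5 : ({1, φ ζ, φ ζ₁, φ ζ₂, x} : Set G).ncard = 5 := by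
      have a1 : (1 : G) ≠ φ ζ := by rw [← map_one φ]; exact hne (by decide)
      have a2 : (1 : G) ≠ φ ζ₁ := by rw [← map_one φ]; exact hne (by decide)
      have a3 : (1 : G) ≠ φ ζ₂ := by rw [← map_one φ]; exact hne (by decide)
      have a4 : φ ζ ≠ φ ζ₁ := hne (by decide)
      have a5 : φ ζ ≠ φ ζ₂ := hne (by decide)
      have a6 : φ ζ₁ ≠ φ ζ₂ := hne (by decide)
      rw [Set.ncard_insert_of_notMem, Set.ncard_insert_of_notMem, Set.ncard_insert_of_notMem, Set.ncard_insert_of_notMem,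
        Set.ncard_singleton]
      · simp only [Set.mem_singleton_iff]; exact Ne.symm e4
      · simp only [Set.mem_insert_iff, Set.mem_singleton_iff, not_or]; exact ⟨a6, Ne.symm e3⟩
      · simp only [Set.mem_insert_iff, Set.mem_singleton_iff, not_or]; exact ⟨a4, a5, Ne.symm e2⟩
      · simp only [Set.mem_insert_iff, Set.mem_singleton_iff, not_or]; exact ⟨a1, a2, a3, Ne.symm e1⟩
    have h6 := Set.ncard_le_ncard hsub (Set.toFinite _)
    rw [h5] at h6
    have h7 : ((centralizer ({φ ζ} : Set G) ⊓ M : Subgroup G) : Set G).ncard = 4 := hc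
    rw [h7] at h6
    omega
  let _ : Fintype M := Fintype.ofFinite _
  set z' : M := ⟨φ ζ, hz⟩ with hz'
  set s' : M := ⟨φ ζ₁, hz1⟩ with hs'
  have hzz : z' * z' = 1 := Subtype.ext (by
    show φ ζ * φ ζ = 1
    rw [← map_mul, ζ_sq, map_one])
  have hss : s' * s' = 1 := Subtype.ext (by
    show φ ζ₁ * φ ζ₁ = 1
    rw [← map_mul, ζ₁_sq, map_one])
  have hz'1 : z' ≠ 1 := fun he => hne ζ_ne ((congrArg Subtype.val he).trans (map_one φ).symm)
  have hord : orderOf z' = 2 := orderOf_eq_prime (by rw [pow_two]; exact hzz) hz'1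
  have hmemz : ∀ x ∈ Subgroup.zpowers z', x = 1 ∨ x = z' := by
    intro x hx
    rw [Subgroup.mem_zpowers_iff] at hx
    obtain ⟨k, rfl⟩ := hx
    rcases Int.even_or_odd k with ⟨j, rfl⟩ | ⟨j, rfl⟩
    · left
      rw [← two_mul, zpow_mul, show (z' ^ (2 : ℤ)) = z' * z' by rw [zpow_two], hzz, one_zpow]
    · right
      rw [zpow_add, zpow_mul, zpow_one, show (z' ^ (2 : ℤ)) = z' * z' by rw [zpow_two], hzz, one_zpow, one_mul]
  have hcentM : ∀ g : M, g * z' = z' * g → g = 1 ∨ g = z' ∨ g = s' ∨ g = z' * s' := by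
    intro g hg
    have hg' : (g : G) ∈ centralizer ({φ ζ} : Set G) ⊓ M :=
      mem_inf.2 ⟨mem_centralizer_singleton_iff.2 (congrArg Subtype.val hg), g.2⟩
    rcases key _ hg' with h1 | h1 | h1 | h1
    · exact Or.inl (Subtype.ext h1)
    · exact Or.inr (Or.inl (Subtype.ext h1))
    · exact Or.inr (Or.inr (Or.inl (Subtype.ext h1)))
    · refine Or.inr (Or.inr (Or.inr (Subtype.ext ?_)))
      show (g : G) = φ ζ * φ ζ₁
      rw [h1, ← map_mul]
      exact congrArg φ ζ₂_eq
  have hzs : z' * s' = s' * z' := Subtype.ext (by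
    show φ ζ * φ ζ₁ = φ ζ₁ * φ ζ
    rw [← map_mul, ← map_mul]; exact congrArg φ ζζ₁)
  have hcent2 : ∀ g : M, g * z' = z' * g → g ∈ Subgroup.zpowers z' ∨ s' * g ∈ Subgroup.zpowers z' := by
    intro g hg
    rcases hcentM g hg with rfl | rfl | rfl | rfl
    · exact Or.inl (one_mem _)
    · exact Or.inl (Subgroup.mem_zpowers _)
    · right; rw [hss]; exact one_mem _
    · right
      rw [← mul_assoc, ← hzs, mul_assoc, hss, mul_one]; exact Subgroup.mem_zpowers _
  have hs_not : s' ∉ Subgroup.zpowers z' := by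
    intro hs
    rcases hmemz _ hs with h1 | h1
    · exact hne ζ₁_ne ((congrArg Subtype.val h1).trans (map_one φ).symm)
    · exact hne ζ₁_ne_ζ (congrArg Subtype.val h1)
  -- the Sylow subgroup
  set D : Subgroup M := (centralizer ({φ ζ} : Set G)).subgroupOf M with hD
  have hDc : Nat.card D = 2 ^ (Nat.card M).factorization 2 := by
    rw [← S.card_inf h, ← card_map_of_injective M.subtype_injective, hD, subgroupOf_map_subtype]
  let P : Sylow 2 M := Sylow.ofCard D hDc
  have hPD : (P : Subgroup M) = D := rfl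
  have hDcent : ∀ x : M, x ∈ D ↔ x * z' = z' * x := by
    intro x
    rw [hD, mem_subgroupOf, mem_centralizer_singleton_iff]
    exact ⟨fun h1 => Subtype.ext h1, fun h1 => congrArg Subtype.val h1⟩
  have hzle : Subgroup.zpowers z' ≤ D := by
    rw [Subgroup.zpowers_le, hDcent]
  have hzidx : (Subgroup.zpowers z').relIndex (P : Subgroup M) = 2 := by
    rw [hPD]
    have h1 : Nat.card ((Subgroup.zpowers z').subgroupOf D) = 2 := by
      rw [Nat.card_congr (Subgroup.subgroupOfEquivOfLe hzle).toEquiv, Nat.card_zpowers, hord]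
    have h2 := Subgroup.index_mul_card ((Subgroup.zpowers z').subgroupOf D)
    rw [h1, hDc, hf] at h2
    show ((Subgroup.zpowers z').subgroupOf D).index = 2
    omega
  have hdata : BSWData (Subgroup.zpowers z') z' s' := by
    refine ⟨?_, Subgroup.mem_zpowers _, hz'1, hzz, hss, hs_not, ?_, hcent2, ?_, ?_⟩
    · intro a ha b hb
      rcases hmemz a ha with rfl | rfl <;> rcases hmemz b hb with rfl | rfl <;> simp only [_root_.mul_one, _root_.one_mul]
    · intro a ha
      rcases hmemz a ha with rfl | rfl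
      · simp
      · have h1 : z'⁻¹ = z' := inv_eq_of_mul_eq_one_right hzz
        rw [h1, ← hzs]; group
    · intro g x hx hx1 hgx
      rcases hmemz x hx with rfl | rfl
      · exact absurd rfl hx1
      · rcases hmemz _ hgx with h1 | h1
        · exfalso
          apply hx1
          have := mul_inv_eq_one.1 h1
          rwa [mul_eq_left] at this
        · apply hcent2
          calc g * z' = (g * z' * g⁻¹) * g := by group
            _ = z' * g := by rw [h1]
    · intro u hu1 huu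
      by_contra hcon
      push Not at hcon
      obtain ⟨f, hf'⟩ := Cfsg.Agent.Classification.TransferSign.exists_hom_neg_one P (Subgroup.zpowers z') hzle hzidx u
        (orderOf_eq_prime (by rw [pow_two]; exact huu) hu1) (by
          intro g hg
          rcases hmemz _ hg with h1 | h1
          · apply hu1
            have := mul_inv_eq_one.1 h1
            rwa [mul_eq_left] at this
          · exact hcon g h1)
      rw [no_sign (S.nonabelian h) f u] at hf'
      exact absurd hf' (by decide)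
  have h60 : Nat.card M = 60 := by
    apply Cfsg.Agent.Classification.BSW.Four.card_sixty hdata
    rw [Nat.card_zpowers, hord]
  obtain ⟨e⟩ := Cfsg.Agent.S0494.result (G := M) h60
  have h120 := Cfsg.Agent.H314.S6Aut.card_le_of_five M S.cent e
  -- `240 ∣ |G|`
  obtain ⟨m, hm, hG⟩ := h.card_G
  have h1 : 60 ∣ Nat.card G := by rw [← h60]; exact Subgroup.card_subgroup_dvd_card M
  have h2 : 16 ∣ Nat.card G := by rw [hG]; exact dvd_mul_right 16 m
  have h3 : 240 ∣ Nat.card G := by (clear * - hG h1; omega)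
  have h4 : 0 < Nat.card G := Nat.card_pos
  have := Nat.le_of_dvd h4 h3
  omega

end Simp

end Cfsg.Agent.H314.S6Fus
end

-- part: H314/S6Eight
section
/-!
# The case of a simple normal subgroup with dihedral Sylow 2-subgroups of order 8 (helper314)
-/

set_option autoImplicit false
set_option linter.style.haveILetI false

namespace Cfsg.Agent.H314.S6Fus

open Subgroup Cfsg.Agent.H314.S6Model
open scoped commutatorElement

universe u

variable {G : Type u} [Group G]

theorem card_conj_mul [Finite G] (g : G) :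
    Nat.card (conjugatesOf g) * Nat.card (Subgroup.centralizer ({g} : Set G)) = Nat.card G := by
  have e1 : conjugatesOf g = MulAction.orbit (ConjAct G) g := by
    rw [ConjAct.orbit_eq_carrier_conjClasses]
    rfl
  have e2 : Nat.card (Subgroup.centralizer ({g} : Set G)) = Nat.card (MulAction.stabilizer (ConjAct G) g) := by
    rw [ConjAct.stabilizer_eq_centralizer]
    rfl
  rw [e1, e2, ← Nat.card_prod]
  exact Nat.card_congr (MulAction.orbitProdStabilizerEquivGroup (ConjAct G) g)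

namespace Simp

variable {φ : Q →* G} (h : Hyp φ) {M : Subgroup G} (S : Simp φ M)
include h S

theorem fac_three [Finite G] : (Nat.card M).factorization 2 = 3 :=
  (S.factorization h).resolve_left (S.not_four h)

theorem card_D [Finite G] : Nat.card (centralizer ({φ ζ} : Set G) ⊓ M : Subgroup G) = 8 := by
  rw [S.card_inf h, S.fac_three h]; norm_num

theorem perfect [Finite G] : commutator M = ⊤ := by
  haveI := S.simple
  rcases S.simple.eq_bot_or_eq_top_of_normal (commutator M) inferInstance with h1 | h1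
  · exfalso
    apply S.nonabelian h
    intro a b
    have h2 : ⁅a, b⁆ ∈ commutator M := Subgroup.commutator_mem_commutator (mem_top a) (mem_top b)
    rw [h1, mem_bot, commutatorElement_eq_one_iff_mul_comm] at h2
    exact h2
  · exact h1

theorem card_M [Finite G] : Nat.card M = 168 ∨ Nat.card M = 360 := by
  obtain ⟨hz, -, -⟩ := S.V_le h
  have hord : orderOf (⟨φ ζ, hz⟩ : M) = 2 := by
    rw [← Subgroup.orderOf_coe]; exact h.order_z
  obtain ⟨e⟩ := h.dihedral (A := centralizer ({φ ζ} : Set G) ⊓ M) inf_le_left (fun ht => S.t_not (mem_inf.1 ht).2) (S.card_D h)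
  have hmap : (centralizer ({(⟨φ ζ, hz⟩ : M)} : Set M)).map M.subtype = centralizer ({φ ζ} : Set G) ⊓ M := by
    ext x
    constructor
    · rintro ⟨y, hy, rfl⟩
      exact mem_inf.2 ⟨mem_centralizer_singleton_iff.2 (congrArg Subtype.val (mem_centralizer_singleton_iff.1 hy)), y.2⟩
    · intro hx
      refine ⟨⟨x, (mem_inf.1 hx).2⟩, mem_centralizer_singleton_iff.2 (Subtype.ext ?_), rfl⟩
      exact mem_centralizer_singleton_iff.1 (mem_inf.1 hx).1
  exact Cfsg.Agent.S0848.result (G := M) (S.perfect h) _ hord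
    ((Subgroup.equivMapOfInjective _ _ M.subtype_injective).trans ((MulEquiv.subgroupCongr hmap).trans e))

/-- one of `a`, `t a` lies in `M` -/
theorem exists_b [Finite G] : ∃ b : Q, (b = α ∨ b = τ * α) ∧ φ b ∈ M := by
  have htT : φ τ ∈ centralizer ({φ ζ} : Set G) := h.mem_T.2 ⟨τ, by decide, rfl⟩
  have hαT : φ α ∈ centralizer ({φ ζ} : Set G) := h.mem_T.2 ⟨α, by decide, rfl⟩
  by_cases h1 : φ α ∈ M
  · exact ⟨α, Or.inl rfl, h1⟩
  · refine ⟨τ * α, Or.inr rfl, ?_⟩
    set T := centralizer ({φ ζ} : Set G) with hT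
    have hidx : (M.subgroupOf T).index = 2 := by
      have h2 := Subgroup.index_mul_card (M.subgroupOf T)
      have h3 : Nat.card (M.subgroupOf T) = 8 := by
        rw [← card_map_of_injective T.subtype_injective, subgroupOf_map_subtype, inf_comm, hT, S.card_D h]
      rw [h3, h.card_T] at h2
      omega
    have h4 := Subgroup.mul_mem_iff_of_index_two hidx (a := (⟨φ τ, htT⟩ : T)) (b := ⟨φ α, hαT⟩)
    have h5 : (⟨φ τ, htT⟩ : T) * ⟨φ α, hαT⟩ ∈ M.subgroupOf T := by
      rw [h4, mem_subgroupOf, mem_subgroupOf]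
      exact ⟨fun hx => absurd hx S.t_not, fun hx => absurd hx h1⟩
    rw [map_mul]
    exact h5

/-- `|G| = 2 |M|` -/
theorem card_G_eq [Finite G] : Nat.card G = 2 * Nat.card M := by
  have : Fact (Nat.Prime 2) := ⟨Nat.prime_two⟩
  haveI := S.normal
  set T := centralizer ({φ ζ} : Set G) with hT
  set D : Subgroup M := T.subgroupOf M with hD
  have hDc : Nat.card D = 2 ^ (Nat.card M).factorization 2 := by
    rw [← S.card_inf h, ← card_map_of_injective M.subtype_injective, hD, subgroupOf_map_subtype]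
  let P : Sylow 2 M := Sylow.ofCard D hDc
  have hF := Sylow.normalizer_sup_eq_top (N := M) P
  have hPD : (P : Subgroup M).map M.subtype = T ⊓ M := by
    show D.map M.subtype = T ⊓ M
    rw [hD, subgroupOf_map_subtype]
  -- the normalizer of `T ∩ M` is contained in `T`
  have hN : normalizer ((T ⊓ M : Subgroup G) : Set G) ≤ T := by
    intro n hn
    obtain ⟨b, hb, hbM⟩ := S.exists_b h
    obtain ⟨-, hz1, -⟩ := S.V_le h
    have hbT : φ b ∈ T := h.mem_T.2 ⟨b, by rcases hb with rfl | rfl <;> decide, rfl⟩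
    have hζ₁T : φ ζ₁ ∈ T := h.mem_T.2 ⟨ζ₁, by decide, rfl⟩
    have hbc : b * ζ₁ = ζ₁ * b * ζ := by
      rcases hb with rfl | rfl
      · exact T_comm'
      · exact τα_noncomm
    have e1 := (mem_normalizer_iff.1 hn (φ b)).1 (mem_inf.2 ⟨hbT, hbM⟩)
    have e2 := (mem_normalizer_iff.1 hn (φ ζ₁)).1 (mem_inf.2 ⟨hζ₁T, hz1⟩)
    obtain ⟨x, hx, hx'⟩ := h.mem_T.1 (mem_inf.1 e1).1
    obtain ⟨y, hy, hy'⟩ := h.mem_T.1 (mem_inf.1 e2).1
    have h3 : φ b * φ ζ₁ = φ ζ₁ * φ b * φ ζ := by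
      rw [← map_mul, ← map_mul, ← map_mul, hbc]
    have h4 : φ x * φ y = φ y * φ x * (n * φ ζ * n⁻¹) := by
      rw [hx', hy']
      calc n * φ b * n⁻¹ * (n * φ ζ₁ * n⁻¹) = n * (φ b * φ ζ₁) * n⁻¹ := by group
        _ = n * (φ ζ₁ * φ b * φ ζ) * n⁻¹ := by rw [h3]
        _ = n * φ ζ₁ * n⁻¹ * (n * φ b * n⁻¹) * (n * φ ζ * n⁻¹) := by group
    rw [hT, mem_centralizer_singleton_iff]
    rcases T_comm x hx y hy with h5 | h5
    · exfalso
      have h6 : φ x * φ y = φ y * φ x := by rw [← map_mul, ← map_mul, h5]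
      rw [h6] at h4
      have h7 : n * φ ζ * n⁻¹ = 1 := by
        have := h4.symm
        rwa [mul_eq_left] at this
      have h8 : φ ζ = 1 := by
        have := mul_inv_eq_one.1 h7
        rwa [mul_eq_left] at this
      exact ζ_ne (h.inj (by rw [h8, map_one]))
    · have h6 : φ x * φ y = φ y * φ x * φ ζ := by rw [← map_mul, ← map_mul, ← map_mul, h5]
      rw [h6] at h4
      have h7 : φ ζ = n * φ ζ * n⁻¹ := mul_left_cancel h4
      calc n * φ ζ = (n * φ ζ * n⁻¹) * n := by group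
        _ = φ ζ * n := by rw [← h7]
  have htop : T ⊔ M = ⊤ := by
    rw [eq_top_iff, ← hF]
    apply sup_le_sup _ le_rfl
    rw [hPD]
    exact hN
  have h1 := Cfsg.Agent.Lib.ProductSet.card_mul_card_inf T M
  have h2 : Nat.card ↥(T ⊔ M) * Nat.card ↥(T ⊓ M) = Nat.card T * Nat.card M := by
    rw [← h1]
    congr 1
    exact Nat.card_congr (Equiv.setCongr (Subgroup.mul_normal T M))
  rw [htop, S.card_D h, h.card_T, Nat.card_congr Subgroup.topEquiv.toEquiv] at h2
  omega

/-- `b` is conjugate to `z` -/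
theorem b_conj [Finite G] {b : Q} (hb : b = α ∨ b = τ * α) (hbM : φ b ∈ M) : ∃ g : G, g * φ ζ * g⁻¹ = φ b := by
  have : Fact (Nat.Prime 2) := ⟨Nat.prime_two⟩
  haveI := S.normal
  haveI := S.simple
  set T := centralizer ({φ ζ} : Set G) with hT
  set D : Subgroup M := T.subgroupOf M with hD
  have hDc : Nat.card D = 2 ^ (Nat.card M).factorization 2 := by
    rw [← S.card_inf h, ← card_map_of_injective M.subtype_injective, hD, subgroupOf_map_subtype]
  let P : Sylow 2 M := Sylow.ofCard D hDc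
  obtain ⟨hz, hz1, hz2⟩ := S.V_le h
  set V : Subgroup G := (centralizer ({ζ, ζ₁} : Set Q) ⊓ χ₁.ker : Subgroup Q).map φ with hV
  have hVel : ∀ x ∈ V, x = 1 ∨ x = φ ζ ∨ x = φ ζ₁ ∨ x = φ ζ₂ := by
    rintro _ ⟨q, hq, rfl⟩
    have h1 := S6Model.mem_W.1 (mem_inf.1 hq).1
    rcases V_cases q h1.1 h1.2 (mem_inf.1 hq).2 with rfl | rfl | rfl | rfl
    · exact Or.inl (map_one φ)
    · exact Or.inr (Or.inl rfl)
    · exact Or.inr (Or.inr (Or.inl rfl))
    · exact Or.inr (Or.inr (Or.inr rfl))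
  have hVM : V ≤ M := by
    intro x hx
    rcases hVel x hx with rfl | rfl | rfl | rfl
    · exact one_mem _
    · exact hz
    · exact hz1
    · exact hz2
  have hVT : V ≤ T := by
    rintro _ ⟨q, hq, rfl⟩
    exact h.mem_T.2 ⟨q, (S6Model.mem_W.1 (mem_inf.1 hq).1).1, rfl⟩
  have hVD : V.subgroupOf M ≤ D := by
    intro x hx
    exact hVT hx
  have hidx : (V.subgroupOf M).relIndex (P : Subgroup M) = 2 := by
    have h1 : Nat.card ((V.subgroupOf M).subgroupOf D) = 4 := by
      rw [Nat.card_congr (Subgroup.subgroupOfEquivOfLe hVD).toEquiv, Nat.card_congr (Subgroup.subgroupOfEquivOfLe hVM).toEquiv]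
      exact (card_map_of_injective h.inj).trans S6Model.card_V
    have h2 := Subgroup.index_mul_card ((V.subgroupOf M).subgroupOf D)
    rw [h1, hDc, S.fac_three h] at h2
    show ((V.subgroupOf M).subgroupOf D).index = 2
    omega
  have hb1 : b ≠ 1 := by
    rcases hb with rfl | rfl
    · exact α_ne
    · exact τα_ne
  have hbb : b * b = 1 := by
    rcases hb with rfl | rfl
    · exact αα
    · exact τατα
  have hbord : orderOf (⟨φ b, hbM⟩ : M) = 2 := by
    rw [← Subgroup.orderOf_coe]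
    show orderOf (φ b) = 2
    rw [orderOf_injective φ h.inj]
    exact orderOf_eq_prime (by rw [pow_two]; exact hbb) hb1
  by_contra hcon
  push Not at hcon
  obtain ⟨f, hf⟩ := Cfsg.Agent.Classification.TransferSign.exists_hom_neg_one P (V.subgroupOf M) hVD hidx _ hbord (by
    intro g hg
    have h1 : (g : G) * φ b * (g : G)⁻¹ ∈ V := hg
    obtain ⟨c₁, hc₁⟩ := conj_ζ₁
    obtain ⟨c₂, hc₂⟩ := conj_ζ₂
    have key : ∀ v c : Q, c * ζ = v * c → (g : G) * φ b * (g : G)⁻¹ = φ v → False := by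
      intro v c hc he
      apply hcon ((g : G)⁻¹ * φ c)
      have : φ c * φ ζ = φ v * φ c := by rw [← map_mul, hc, map_mul]
      calc (g : G)⁻¹ * φ c * φ ζ * ((g : G)⁻¹ * φ c)⁻¹ = (g : G)⁻¹ * (φ c * φ ζ) * (φ c)⁻¹ * g := by group
        _ = (g : G)⁻¹ * φ v * g := by rw [this]; group
        _ = φ b := by rw [← he]; group
    rcases hVel _ h1 with h2 | h2 | h2 | h2
    · have h3 : φ b = 1 := by
        have := mul_inv_eq_one.1 h2
        rwa [mul_eq_left] at this
      exact hb1 (h.inj (by rw [h3, map_one]))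
    · exact key ζ 1 (by simp) h2
    · exact key ζ₁ c₁ hc₁ h2
    · exact key ζ₂ c₂ hc₂ h2)
  rw [no_sign (S.nonabelian h) f] at hf
  exact absurd hf (by decide)

/-- the order 168 is impossible -/
theorem card_360 [Finite G] : Nat.card M = 360 := by
  refine (S.card_M h).resolve_left fun h168 => ?_
  haveI := S.normal
  have hG := S.card_G_eq h
  rw [h168] at hG
  have hcc := card_conj_mul (φ τ)
  rw [h.card_C, hG] at hcc
  have h7 : Nat.card (conjugatesOf (φ τ)) = 7 := by omega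
  -- the conjugates of `t` all commute with `t`
  have hall : ∀ g : G, (g * φ τ * g⁻¹) * φ τ = φ τ * (g * φ τ * g⁻¹) := by
    obtain ⟨b, hb, hbM⟩ := S.exists_b h
    obtain ⟨g₀, hg₀⟩ := h.conj_tb hb (S.b_conj h hb hbM)
    obtain ⟨l, hl, hll⟩ : ∃ l : List Q, l.Nodup ∧ l.length = 7 ∧ ∀ q ∈ l, ∃ g : G, g * φ τ * g⁻¹ = φ q := by
      rcases hb with rfl | rfl
      · refine ⟨listA, listA_nodup, rfl, fun q hq => ?_⟩
        rcases listA_conj q hq with rfl | ⟨c, hc⟩
        · exact ⟨1, by group⟩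
        · exact Hyp.trans_conj hc ⟨g₀, hg₀⟩
      · refine ⟨listB, listB_nodup, rfl, fun q hq => ?_⟩
        rcases listB_conj q hq with rfl | ⟨c, hc⟩
        · exact ⟨1, by group⟩
        · refine Hyp.trans_conj hc ⟨g₀, ?_⟩
          rw [hg₀]; exact congrArg φ ατ
    obtain ⟨hl7, hlc⟩ := hll
    classical
    have hsub : ((l.map φ).toFinset : Set G) ⊆ conjugatesOf (φ τ) := by
      intro x hx
      rw [Finset.mem_coe, List.mem_toFinset, List.mem_map] at hx
      obtain ⟨q, hq, rfl⟩ := hx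
      obtain ⟨g, hg⟩ := hlc q hq
      rw [conjugatesOf, Set.mem_ofPred_eq, isConj_iff]
      exact ⟨g, hg⟩
    have hcard : ((l.map φ).toFinset : Set G).ncard = 7 := by
      rw [Set.ncard_coe_finset, List.toFinset_card_of_nodup (hl.map h.inj), List.length_map, hl7]
    have heq : ((l.map φ).toFinset : Set G) = conjugatesOf (φ τ) := by
      apply Set.eq_of_subset_of_ncard_le hsub _ (Set.toFinite _)
      rw [hcard]
      exact h7.le
    intro g
    have h1 : g * φ τ * g⁻¹ ∈ conjugatesOf (φ τ) := by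
      rw [conjugatesOf, Set.mem_ofPred_eq, isConj_iff]; exact ⟨g, rfl⟩
    rw [← heq, Finset.mem_coe, List.mem_toFinset, List.mem_map] at h1
    obtain ⟨q, -, hq⟩ := h1
    rw [← hq]
    exact (h.comm_iff _ _).2 (τ_comm q)
  -- so `t` commutes with `M`
  have hcomm : ∀ g k : G, (g * φ τ * g⁻¹) * (k * φ τ * k⁻¹) = (k * φ τ * k⁻¹) * (g * φ τ * g⁻¹) := by
    intro g k
    have h1 := hall (k⁻¹ * g)
    calc (g * φ τ * g⁻¹) * (k * φ τ * k⁻¹) = k * (((k⁻¹ * g) * φ τ * (k⁻¹ * g)⁻¹) * φ τ) * k⁻¹ := by group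
      _ = k * (φ τ * ((k⁻¹ * g) * φ τ * (k⁻¹ * g)⁻¹)) * k⁻¹ := by rw [h1]
      _ = (k * φ τ * k⁻¹) * (g * φ τ * g⁻¹) := by group
  set N := Subgroup.normalClosure ({φ τ} : Set G) with hN
  have hNab : ∀ x ∈ N, ∀ y ∈ N, x * y = y * x := by
    intro x hx y hy
    have hk : ∀ x ∈ Group.conjugatesOfSet ({φ τ} : Set G), ∀ y ∈ Group.conjugatesOfSet ({φ τ} : Set G), x * y = y * x := by
      intro x hx y hy
      rw [Group.mem_conjugatesOfSet_iff] at hx hy
      obtain ⟨a, ha, hx⟩ := hx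
      obtain ⟨b, hb, hy⟩ := hy
      rw [Set.mem_singleton_iff] at ha hb
      rw [ha, isConj_iff] at hx
      rw [hb, isConj_iff] at hy
      obtain ⟨g, rfl⟩ := hx
      obtain ⟨k, rfl⟩ := hy
      exact hcomm g k
    have := (Subgroup.isMulCommutative_closure hk).is_comm.comm ⟨x, hx⟩ ⟨y, hy⟩
    exact congrArg Subtype.val this
  have hNn : N.Normal := Subgroup.normalClosure_normal
  have htN : φ τ ∈ N := Subgroup.subset_normalClosure (Set.mem_singleton _)
  haveI := S.simple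
  rcases S.simple.eq_bot_or_eq_top_of_normal (N.subgroupOf M) (hNn.subgroupOf M) with h1 | h1
  · have h2 : N ⊓ M = ⊥ := by rw [← subgroupOf_map_subtype, h1, Subgroup.map_bot]
    have h3 : N ≤ centralizer (M : Set G) := by
      intro x hx
      rw [mem_centralizer_iff]
      intro y hy
      have h5 : x * y * x⁻¹ * y⁻¹ ∈ N ⊓ M := by
        refine mem_inf.2 ⟨?_, ?_⟩
        · have : x * y * x⁻¹ * y⁻¹ = x * (y * x⁻¹ * y⁻¹) := by group
          rw [this]
          exact mul_mem hx (hNn.conj_mem _ (inv_mem hx) y)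
        · exact mul_mem (S.normal.conj_mem _ hy x) (inv_mem hy)
      rw [h2, mem_bot] at h5
      calc y * x = (x * y * x⁻¹ * y⁻¹)⁻¹ * x * y := by group
        _ = x * y := by rw [h5]; group
    have h4 := h3 htN
    rw [S.cent, mem_bot] at h4
    exact τ_ne (h.inj (by rw [h4, map_one]))
  · rw [subgroupOf_eq_top] at h1
    apply S.nonabelian h
    intro a b
    exact Subtype.ext (hNab a (h1 a.2) b (h1 b.2))

open Cfsg.Agent.LFourA.AltPsiAut Cfsg.Agent.H314.S6Aut in
/-- the symmetric group -/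
theorem iso [Finite G] : Nonempty (G ≃* Equiv.Perm (Fin 6)) := by
  haveI := S.normal
  haveI := S.simple
  have h360 := S.card_360 h
  have hG : Nat.card G = 720 := by rw [S.card_G_eq h, h360]
  obtain ⟨e⟩ := Cfsg.Agent.S0497.result (G := M) h360
  refine iso_six M S.cent e (fun g => ?_) hG
  -- elements of `M`
  have hM : ∀ m ∈ M, act M e m ∈ NE := by
    intro m hm
    have : act M e m = MulAut.conj (e ⟨m, hm⟩) := by
      apply MulEquiv.ext
      intro x
      rw [act_apply, MulAut.conj_apply]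
      have h1 : (MulAut.conjNormal m : MulAut M) (e.symm x) = ⟨m, hm⟩ * e.symm x * ⟨m, hm⟩⁻¹ := by
        apply Subtype.ext
        rw [MulAut.conjNormal_apply]
        rfl
      rw [h1, map_mul, map_mul, map_inv, e.apply_symm_apply]
    rw [this]
    exact conj_mem_NE _
  -- the involution `t`
  have ht : act M e (φ τ) ∈ NE := by
    -- an element of order three
    have hρM : φ ρ ∈ M := by
      have hidx : M.index = 2 := by
        have := Subgroup.index_mul_card M
        rw [S.card_G_eq h] at this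
        exact Nat.eq_of_mul_eq_mul_right Nat.card_pos this
      have h2 : φ ρ * φ ρ ∈ M := Subgroup.mul_self_mem_of_index_two hidx _
      have h3 : (φ ρ * φ ρ) * (φ ρ * φ ρ) ∈ M := mul_mem h2 h2
      have h4 : (φ ρ * φ ρ) * (φ ρ * φ ρ) = φ ρ := by
        rw [← map_mul, ← map_mul]
        congr 1
        calc ρ * ρ * (ρ * ρ) = ρ * ρ * ρ * ρ := by group
          _ = ρ := by rw [ρ_cube, one_mul]
      rwa [h4] at h3
    have hord : orderOf (e ⟨φ ρ, hρM⟩) = 3 := by
      rw [MulEquiv.orderOf_eq, ← Subgroup.orderOf_coe]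
      show orderOf (φ ρ) = 3
      rw [orderOf_injective φ h.inj]
      exact orderOf_eq_prime (by rw [pow_succ, pow_two, ρ_cube]) ρ_ne
    refine mem_NE_of_three hord ?_
    rw [act_apply, e.symm_apply_apply]
    congr 1
    apply Subtype.ext
    rw [MulAut.conjNormal_apply]
    show φ τ * φ ρ * (φ τ)⁻¹ = φ ρ
    rw [(h.comm_iff _ _).2 (τ_comm ρ).symm]; group
  -- every element
  by_cases hg : g ∈ M
  · exact hM g hg
  · have hidx : M.index = 2 := by
      have := Subgroup.index_mul_card M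
      rw [S.card_G_eq h] at this
      exact Nat.eq_of_mul_eq_mul_right Nat.card_pos this
    have h1 : φ τ * g ∈ M := by
      rw [Subgroup.mul_mem_iff_of_index_two hidx]
      exact ⟨fun hx => absurd hx S.t_not, fun hx => absurd hx hg⟩
    have h2 := hM _ h1
    rw [map_mul] at h2
    exact (Subgroup.mul_mem_cancel_left _ ht).1 h2

end Simp

end Cfsg.Agent.H314.S6Fus
end

-- part: S3222
section
set_option autoImplicit false
set_option linter.style.haveILetI false
open Cfsg

namespace Cfsg.Agent.S3222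

open Subgroup Cfsg.Agent.H314.S6Model Cfsg.Agent.H314.S6Fus
open scoped commutatorElement Pointwise

/-- the concrete data -/
theorem exists_hyp {G : Type*} [Group G] [Finite G]
    (t : G) (ht : orderOf t = 2) (T : Sylow 2 G) (htc : ∀ s ∈ (T : Subgroup G), s * t = t * s)
    (e : ↥(Subgroup.centralizer ({t} : Set G)) ≃* (Multiplicative (ZMod 2) × Equiv.Perm (Fin 4)))
    (h2 : ∀ S : Sylow 2 G, Subgroup.centralizer ((⁅(S : Subgroup G), (S : Subgroup G)⁆ : Subgroup G) : Set G) = (S : Subgroup G)) :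
    ∃ φ : Q →* G, φ τ = t ∧ Hyp φ := by
  let φ₀ : Q →* G := (Subgroup.centralizer ({t} : Set G)).subtype.comp e.symm.toMonoidHom
  have hinj : Function.Injective φ₀ := (Subgroup.subtype_injective _).comp e.symm.injective
  have hrange : ∀ g : G, g * t = t * g → ∃ q, φ₀ q = g := by
    intro g hg
    refine ⟨e ⟨g, mem_centralizer_singleton_iff.2 hg⟩, ?_⟩
    show ((e.symm (e ⟨g, _⟩) : Subgroup.centralizer ({t} : Set G)) : G) = g
    rw [e.symm_apply_apply]
  have hφt : ∀ q, φ₀ q * t = t * φ₀ q := fun q => mem_centralizer_singleton_iff.1 (e.symm q).2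
  have hτ : φ₀ τ = t := by
    obtain ⟨q, hq⟩ := hrange t rfl
    have h1 : ∀ p, q * p = p * q := by
      intro p
      apply hinj
      rw [map_mul, map_mul, hq]
      exact (hφt p).symm
    rcases central_cases q (h1 _) (h1 _) with rfl | rfl
    · rw [map_one] at hq
      rw [← hq, orderOf_one] at ht
      exact absurd ht (by norm_num)
    · exact hq
  -- the Sylow subgroup
  obtain ⟨c, hc⟩ : ∃ c : Q, ∀ q, φ₀ q ∈ (T : Subgroup G) ↔ (c * q * c⁻¹) * ζ = ζ * (c * q * c⁻¹) := by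
    have hp : Fact (Nat.Prime 2) := ⟨Nat.prime_two⟩
    have hT0 : IsPGroup 2 (Subgroup.centralizer ({ζ} : Set Q)) := IsPGroup.of_card (n := 4) (by rw [card_T]; norm_num)
    obtain ⟨S₀, hS₀⟩ := hT0.exists_le_sylow
    have hfac : Nat.factorization 48 2 = 4 := by
      rw [show 48 = 2 ^ 4 * 3 by norm_num]
      rw [Nat.factorization_mul (by norm_num) (by norm_num), Nat.factorization_pow]
      simp [Nat.prime_two.factorization, Nat.prime_three.factorization]
    have hS₀c : (S₀ : Subgroup Q) = Subgroup.centralizer ({ζ} : Set Q) := by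
      symm
      apply Subgroup.eq_of_le_of_card_ge hS₀
      rw [card_T, S₀.card_eq_multiplicity, card_Q, hfac]; norm_num
    -- `|T| ≥ 16`
    have hT16 : 16 ≤ Nat.card (T : Subgroup G) := by
      have h1 : IsPGroup 2 ((S₀ : Subgroup Q).map φ₀) := S₀.isPGroup'.map _
      obtain ⟨P, hP⟩ := h1.exists_le_sylow
      have h3 : Nat.card (P : Subgroup G) = Nat.card (T : Subgroup G) := by
        rw [P.card_eq_multiplicity, T.card_eq_multiplicity]
      have h4 := Subgroup.card_le_of_le hP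
      rw [h3, card_map_of_injective hinj, hS₀c, card_T] at h4
      exact h4
    have hTQ : Nat.card ((T : Subgroup G).comap φ₀) = Nat.card (T : Subgroup G) := by
      have h1 : ((T : Subgroup G).comap φ₀).map φ₀ = (T : Subgroup G) := by
        apply Subgroup.map_comap_eq_self
        intro x hx
        obtain ⟨q, hq⟩ := hrange x (htc x hx)
        exact ⟨q, hq⟩
      rw [← card_map_of_injective hinj, h1]
    have hTp : IsPGroup 2 ((T : Subgroup G).comap φ₀) := T.isPGroup'.comap_of_injective φ₀ hinj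
    obtain ⟨S₁, hS₁⟩ := hTp.exists_le_sylow
    have hS₁c : (T : Subgroup G).comap φ₀ = S₁ := by
      apply Subgroup.eq_of_le_of_card_ge hS₁
      rw [S₁.card_eq_multiplicity, card_Q, hfac, hTQ]
      norm_num only []
      exact hT16
    obtain ⟨c, hc⟩ := MulAction.exists_smul_eq Q S₁ S₀
    refine ⟨c, fun q => ?_⟩
    rw [← mem_comap, hS₁c, ← mem_centralizer_singleton_iff, ← hS₀c, ← hc, Sylow.coe_subgroup_smul]
    constructor
    · intro hq
      exact Subgroup.smul_mem_pointwise_smul q (MulAut.conj c) _ hq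
    · intro hq
      exact Subgroup.smul_mem_pointwise_smul_iff.1 hq
  let φ : Q →* G := φ₀.comp (MulAut.conj c⁻¹).toMonoidHom
  have hφ : ∀ q, φ q = φ₀ (c⁻¹ * q * c) := by
    intro q
    show φ₀ (c⁻¹ * q * (c⁻¹)⁻¹) = _
    rw [inv_inv]
  have hφi : Function.Injective φ := hinj.comp (MulAut.conj c⁻¹).injective
  have hφT : ∀ q, φ q ∈ (T : Subgroup G) ↔ q * ζ = ζ * q := by
    intro q
    rw [hφ, hc]
    have : c * (c⁻¹ * q * c) * c⁻¹ = q := by group
    rw [this]
  have hφr : ∀ g : G, g * t = t * g → ∃ q, φ q = g := by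
    intro g hg
    obtain ⟨q, hq⟩ := hrange g hg
    refine ⟨c * q * c⁻¹, ?_⟩
    rw [hφ, ← hq]
    congr 1
    group
  have hφτ : φ τ = t := by
    rw [hφ, τ_comm, mul_assoc, inv_mul_cancel, mul_one, hτ]
  have hTel : ∀ x ∈ (T : Subgroup G), ∃ q, q * ζ = ζ * q ∧ φ q = x := by
    intro x hx
    obtain ⟨q, rfl⟩ := hφr x (htc x hx)
    exact ⟨q, (hφT q).1 hx, rfl⟩
  have hcz : ∀ g, g * φ ζ = φ ζ * g → g ∈ (T : Subgroup G) := by
    intro g hg
    rw [← h2 T, mem_centralizer_iff]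
    have h3 : (⁅(T : Subgroup G), (T : Subgroup G)⁆ : Subgroup G) ≤ centralizer ({g} : Set G) := by
      rw [Subgroup.commutator_le]
      intro x hx y hy
      obtain ⟨p, hp, rfl⟩ := hTel x hx
      obtain ⟨q, hq, rfl⟩ := hTel y hy
      rw [mem_centralizer_singleton_iff, commutatorElement_def]
      rcases T_comm p hp q hq with h4 | h4
      · have : φ p * φ q * (φ p)⁻¹ * (φ q)⁻¹ = 1 := by
          rw [← map_mul, h4, map_mul]; group
        rw [this]; simp
      · have h5 : φ p * φ q = φ ζ * (φ q * φ p) := by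
          have hqp : (q * p) * ζ = ζ * (q * p) := by rw [mul_assoc, hp, ← mul_assoc, hq, mul_assoc]
          rw [← map_mul, h4, hqp, map_mul, map_mul]
        have : φ p * φ q * (φ p)⁻¹ * (φ q)⁻¹ = φ ζ := by
          rw [h5]; group
        rw [this]; exact hg.symm
    intro x hx
    exact mem_centralizer_singleton_iff.1 (h3 hx)
  refine ⟨φ, hφτ, ⟨hφi, ?_, ?_, T, ?_⟩⟩
  · intro g hg
    rw [hφτ] at hg
    exact hφr g hg
  · intro g hg
    obtain ⟨q, -, hq⟩ := hTel g (hcz g hg)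
    exact ⟨q, hq⟩
  · ext g
    rw [mem_centralizer_singleton_iff]
    constructor
    · intro hg
      obtain ⟨q, hq, rfl⟩ := hTel g hg
      rw [← map_mul, hq, map_mul]
    · exact hcz g

/-- Let G be a finite group of even order such that (1) some involution t lying in the centre of a Sylow 2-subgroup of G has C_G(t) ≅ Z₂ × S₄, and (2) every Sylow 2-subgroup S of G satisfies C_G(S′) = S, where S′ is the derived subgroup of S. Then G = C_G(t) if G is solvable, and G ≅ S₆ otherwise. -/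
theorem result {G : Type*} [Group G] [Finite G] (hev : Even (Nat.card G))
    (t : G) (ht : orderOf t = 2) (T : Sylow 2 G) (htT : t ∈ (T : Subgroup G)) (htc : ∀ s ∈ (T : Subgroup G), s * t = t * s)
    (e : ↥(Subgroup.centralizer ({t} : Set G)) ≃* (Multiplicative (ZMod 2) × Equiv.Perm (Fin 4)))
    (h2 : ∀ S : Sylow 2 G, Subgroup.centralizer ((⁅(S : Subgroup G), (S : Subgroup G)⁆ : Subgroup G) : Set G) = (S : Subgroup G)) :
    (Group.IsSolvable G → Subgroup.centralizer ({t} : Set G) = ⊤) ∧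
      (¬ Group.IsSolvable G → Nonempty (G ≃* Equiv.Perm (Fin 6))) := by
  obtain ⟨φ, rfl, h⟩ := exists_hyp t ht T htc e h2
  rcases h.structure_G (fun H _ _ hodd => Cfsg.Agent.S0205.result hodd) with h1 | ⟨M, S⟩
  · have htop : Subgroup.centralizer ({φ τ} : Set G) = ⊤ := by
      rw [eq_top_iff]
      intro g _
      exact mem_centralizer_singleton_iff.2 (h1 g)
    refine ⟨fun _ => htop, fun hs => absurd ?_ hs⟩
    have h48 : Nat.card G = 48 := by
      have := h.card_C
      rw [htop, Nat.card_congr Subgroup.topEquiv.toEquiv] at this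
      exact this
    exact Cfsg.Agent.BpAlt.solvable_of_lt 48 G h48 (by norm_num)
  · exact ⟨fun hs => absurd hs (S.not_solvable h), fun _ => S.iso h⟩

end Cfsg.Agent.S3222
end
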