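import Cfsg.Statements.S3279
import Cfsg.Agent.H993.FewInv
set_option linter.all false

set_option autoImplicit false
open Cfsg

namespace Cfsg.Agent.S3279

/-- A nontrivial finite `p`-group has a central element of order `p`. -/
theorem exists_central {P : Type*} [Group P] [Finite P] (p : ℕ) [hp : Fact p.Prime] (hP : IsPGroup p P)
    [Nontrivial P] : ∃ z : P, orderOf z = p ∧ ∀ g : P, g * z = z * g := by
  have := hP.center_nontrivial
  have h1 : IsPGroup p (Subgroup.center P) := hP.to_subgroup _
  obtain ⟨n, hn, hn'⟩ := h1.nontrivial_iff_card.mp this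
  obtain ⟨z, hz⟩ := exists_prime_orderOf_dvd_card' (G := Subgroup.center P) p
    (by rw [hn']; exact dvd_pow_self p hn.ne')
  refine ⟨(z : P), ?_, fun g => ?_⟩
  · rw [Subgroup.orderOf_coe]; exact hz
  · exact (Subgroup.mem_center_iff.mp z.2 g)

/-- Let G be a finite simple group and x an involution of G whose centralizer contains at most three involutions. Then C_G(x) contains a Sylow 2-subgroup of G, and all involutions of G are conjugate. -/
theorem result {G : Type*} [Group G] [Finite G] [IsSimpleGroup G] (x : G) (hx : orderOf x = 2)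
    (h3 : Nat.card {u : ↥(Subgroup.centralizer ({x} : Set G)) // orderOf u = 2} ≤ 3) :
    (∃ S : Sylow 2 G, (S : Subgroup G) ≤ Subgroup.centralizer ({x} : Set G)) ∧
      ∀ u v : G, orderOf u = 2 → orderOf v = 2 → IsConj u v := by
  have hone : ∀ u : G, orderOf u = 2 → IsConj x u := by
    by_cases hnc : ∃ a b : G, a * b ≠ b * a
    · exact fun u hu => Cfsg.Agent.H993.FewInv.one_class hnc x hx h3 u hu
    · -- abelian simple groups
      push Not at hnc
      intro u hu
      have hz : (Subgroup.zpowers x).Normal := by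
        constructor
        intro n hn g
        rw [hnc g n, mul_inv_cancel_right]
        exact hn
      have htop : Subgroup.zpowers x = ⊤ := by
        rcases IsSimpleGroup.eq_bot_or_eq_top_of_normal _ hz with h | h
        · rw [Subgroup.zpowers_eq_bot] at h
          rw [h, orderOf_one] at hx
          omega
        · exact h
      have hu' : u ∈ Subgroup.zpowers x := by rw [htop]; trivial
      have x2 : x * x = 1 := by rw [← pow_two, ← hx, pow_orderOf_eq_one]
      have u2 : u * u = 1 := by rw [← pow_two, ← hu, pow_orderOf_eq_one]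
      have x1 : x ≠ 1 := by rintro rfl; rw [orderOf_one] at hx; omega
      have u1 : u ≠ 1 := by rintro rfl; rw [orderOf_one] at hu; omega
      have := Cfsg.Agent.Classification.TransferSign.eq_of_isCyclic (Subgroup.zpowers x)
        inferInstance (Subgroup.mem_zpowers x) hu' x2 u2 x1 u1
      rw [this]
  refine ⟨?_, fun u v hu hv => (hone u hu).symm.trans (hone v hv)⟩
  have : Fact (Nat.Prime 2) := ⟨Nat.prime_two⟩
  obtain ⟨S⟩ : Nonempty (Sylow 2 G) := inferInstance
  have hdvd : 2 ∣ Nat.card G := by rw [← hx]; exact orderOf_dvd_natCard x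
  have hS : Nontrivial (S : Subgroup G) := by
    rw [Subgroup.nontrivial_iff_ne_bot]
    exact S.ne_bot_of_dvd_card hdvd
  obtain ⟨z, hz, hzc⟩ := exists_central 2 S.isPGroup'
  obtain ⟨c, hc⟩ := isConj_iff.mp (hone (z : G) (by rw [Subgroup.orderOf_coe]; exact hz))
  refine ⟨c⁻¹ • S, ?_⟩
  intro w hw
  rw [Sylow.smul_def, Sylow.pointwise_smul_def, Subgroup.mem_pointwise_smul_iff_inv_smul_mem] at hw
  rw [Subgroup.mem_centralizer_singleton_iff]
  rw [← map_inv, inv_inv, MulAut.smul_def, MulAut.conj_apply] at hw
  have h := congrArg Subtype.val (hzc ⟨_, hw⟩)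
  simp only [Subgroup.coe_mul] at h
  rw [← hc] at h
  calc w * x = c⁻¹ * ((c * w * c⁻¹) * (c * x * c⁻¹)) * c := by group
    _ = c⁻¹ * ((c * x * c⁻¹) * (c * w * c⁻¹)) * c := by rw [h]
    _ = x * w := by group

end Cfsg.Agent.S3279
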