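import Cfsg.Statements.S3245
import Cfsg.Agent.H320.OneClass
import Cfsg.Agent.S0205
import Cfsg.Agent.StrongEmb.Strong
import Cfsg.Agent.FastGrp
import Cfsg.Agent.Prune
set_option linter.all false
open scoped Cfsg.Agent.FastGrp

set_option autoImplicit false
open Cfsg

namespace Cfsg.Agent.S3245

/-- The subgroup containing the normalizer of a Sylow 2-subgroup is strongly embedded. -/
theorem exists_stronglyEmbedded {G : Type*} [Group G] [Finite G] [IsSimpleGroup G]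
    (hG : ¬ IsMulCommutative G)
    (h1 : ∀ M M' : Subgroup G, Cfsg.IsMaximalTwoLocal M → Cfsg.IsMaximalTwoLocal M' →
      ∃ g : G, M' = M.map (MulAut.conj g).toMonoidHom) :
    ∃ M : Subgroup G, Cfsg.IsStronglyEmbedded M := by
  have hF : Fact (Nat.Prime 2) := ⟨Nat.prime_two⟩
  have hns : ¬ Group.IsSolvable G := fun h => hG
    ⟨⟨IsSimpleGroup.comm_iff_isSolvable.mpr h⟩⟩
  have hodd : ¬ Odd (Nat.card G) := fun h => hns (S0205.result h)
  obtain ⟨S⟩ : Nonempty (Sylow 2 G) := inferInstance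
  have hS : (S : Subgroup G) ≠ ⊥ := by
    intro h
    apply hodd
    have h2 : 2 ∣ Nat.card G → False := by
      intro h2
      have := (S : Sylow 2 G).dvd_card_of_dvd_card h2
      rw [h, Subgroup.card_bot] at this
      omega
    rw [← Nat.not_even_iff_odd, even_iff_two_dvd]
    exact h2
  -- every 2-local subgroup is in a maximal one
  have hmax : ∀ T : Subgroup G, IsPGroup 2 T → T ≠ ⊥ →
      ∃ M : Subgroup G, Cfsg.IsMaximalTwoLocal M ∧ Subgroup.normalizer (T : Set G) ≤ M := by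
    intro T hT hT1
    obtain ⟨M, hM, hmax⟩ := Set.Finite.exists_le_maximal
      (s := {M : Subgroup G | Cfsg.IsTwoLocal M}) (Set.toFinite _)
      (a := Subgroup.normalizer (T : Set G)) ⟨T, hT, hT1, rfl⟩
    exact ⟨M, ⟨hmax.prop, fun N hN hMN => le_antisymm (hmax.le_of_ge hN hMN) hMN⟩, hM⟩
  obtain ⟨M, hM, hNS⟩ := hmax S S.isPGroup' hS
  have hMt : M ≠ ⊤ := by
    rintro rfl
    obtain ⟨T, hT, hT1, hTM⟩ := hM.1
    have hTn : T.Normal := Subgroup.normalizer_eq_top_iff.mp hTM.symm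
    rcases hTn.eq_bot_or_eq_top with h | h
    · exact hT1 h
    · subst h
      apply hns
      have : IsPGroup 2 G := hT.of_equiv Subgroup.topEquiv
      have hn : Group.IsNilpotent G := this.isNilpotent
      infer_instance
  refine ⟨M, H320.OneClass.isStronglyEmbedded hMt S hS hNS ?_⟩
  intro T hT hT1
  obtain ⟨M', hM', hTM'⟩ := hmax T hT hT1
  obtain ⟨g, rfl⟩ := h1 M M' hM hM'
  refine ⟨((g : G) : G ⧸ M), fun x hx => ?_⟩
  obtain ⟨m, hm, hmx⟩ := hTM' hx
  have hmx' : g * m * g⁻¹ = x := hmx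
  change ((x * g : G) : G ⧸ M) = (g : G ⧸ M)
  rw [eq_comm, QuotientGroup.eq, ← hmx']
  have e : g⁻¹ * (g * m * g⁻¹ * g) = m := by group
  rwa [e]

/-- A finite non-abelian simple group in which all maximal 2-local subgroups are conjugate is isomorphic to L₂(2ⁿ), Sz(2ⁿ) or U₃(2ⁿ) for some n ≥ 2. -/
theorem result {G : Type*} [Group G] [Finite G] [IsSimpleGroup G] (hG : ¬ IsMulCommutative G)
    (h1 : ∀ M M' : Subgroup G, Cfsg.IsMaximalTwoLocal M → Cfsg.IsMaximalTwoLocal M' → ∃ g : G, M' = M.map (MulAut.conj g).toMonoidHom) :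
    (∃ (F : Type) (_ : Field F) (_ : Fintype F) (n : ℕ), 2 ≤ n ∧ Fintype.card F = 2 ^ n ∧
        Nonempty (G ≃* Matrix.ProjectiveSpecialLinearGroup (Fin 2) F)) ∨
      Cfsg.Lie.IsoSuzuki G ∨
      (∃ (F : Type) (_ : Field F) (_ : Fintype F) (n : ℕ), 2 ≤ n ∧ Fintype.card F = (2 ^ n) ^ 2 ∧ Nonempty (G ≃* Cfsg.PSU 3 F (2 ^ n))) := by
  obtain ⟨M, hM⟩ := exists_stronglyEmbedded hG h1
  have hna : ∃ a b : G, a * b ≠ b * a := by
    by_contra hcon
    push Not at hcon
    exact hG ⟨⟨hcon⟩⟩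
  rcases StrongEmb.Strong.result hna M hM with ⟨F, i1, i2, ⟨n, hn, hF⟩, e⟩ | h | h
  · exact Or.inl ⟨F, i1, i2, n, hn, hF, e⟩
  · exact Or.inr (Or.inl h)
  · exact Or.inr (Or.inr h)

end Cfsg.Agent.S3245
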