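import Mathlib
import Cfsg.Prelude.Def_Classical
import Cfsg.Prelude.Def_Exceptional
import Cfsg.Agent.HKS.EndOrd
import Cfsg.Agent.SmallSimple.PSLTwoPart
import Cfsg.Agent.WeakTI.PslTwo
import Cfsg.Statements.S4706
import Cfsg.Agent.S0222
import Cfsg.Agent.S1013
import Cfsg.Agent.S0675
import Cfsg.Agent.S0157
import Cfsg.Agent.H656.DihedralSimple
import Cfsg.Agent.H656.PermSetup
import Cfsg.Agent.Prune
set_option linter.all false
prune_inst 0x7f00000000000000000000000000000000000000000000000000000000000000000000000000000000000000000000000000000000000000000000000000000000000000000000000000000000000000003fffffffffffffffffffffffffffbeffbdffffffff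
open scoped Cfsg.Agent.FastGrp

-- part: H656/BenderArith
section
/-!
# Groups with a strongly embedded subgroup and a prime divisor `p` of the order with `|G|₂ = (p - 1)₂`
-/

set_option autoImplicit false

namespace Cfsg.Agent.H656.BenderArith

theorem pow_dvd_of_factorization {n m k : ℕ} (hn : n.factorization 2 = m.factorization 2)
    (h : 2 ^ k ∣ n) (hn0 : n ≠ 0) : 2 ^ k ∣ m := by
  have h1 : k ≤ n.factorization 2 := (Nat.prime_two.pow_dvd_iff_le_factorization hn0).mp h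
  rw [hn] at h1
  exact (pow_dvd_pow 2 h1).trans (Nat.ordProj_dvd m 2)

theorem psl_arith {p n : ℕ} (hp : p.Prime) (hp5 : 5 ≤ p) (hn : 1 ≤ n)
    (h2 : (2 ^ n * ((2 ^ n) ^ 2 - 1)).factorization 2 = (p - 1).factorization 2)
    (hdvd : p ∣ 2 ^ n * ((2 ^ n) ^ 2 - 1)) : p = 2 ^ n + 1 := by
  have hq : 2 ≤ 2 ^ n := by
    calc 2 = 2 ^ 1 := by norm_num
      _ ≤ 2 ^ n := Nat.pow_le_pow_right (by norm_num) hn
  have hq2 : 1 < (2 ^ n) ^ 2 := by nlinarith only [hq]
  have h3 : 2 ^ n ∣ p - 1 := pow_dvd_of_factorization h2 (Dvd.intro _ rfl) (by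
    apply mul_ne_zero <;> omega)
  have h4 : 2 ^ n ≤ p - 1 := Nat.le_of_dvd (by omega) h3
  have h5 : ¬ p ∣ 2 ^ n := by
    intro h
    have := Nat.le_of_dvd (by positivity) h
    omega
  have h6 : p ∣ (2 ^ n) ^ 2 - 1 := (hp.dvd_mul.mp hdvd).resolve_left h5
  have h7 : (2 ^ n) ^ 2 - 1 = (2 ^ n + 1) * (2 ^ n - 1) := by
    have := Nat.sq_sub_sq (2 ^ n) 1
    rwa [one_pow] at this
  rw [h7] at h6
  rcases hp.dvd_mul.mp h6 with h | h
  · have := Nat.le_of_dvd (by omega) h
    omega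
  · have := Nat.le_of_dvd (by omega) h
    omega

theorem suzuki_arith {p m : ℕ} (hp : p.Prime) (hp5 : 5 ≤ p) (hm : 1 ≤ m) {N : ℕ}
    (hN : N = (2 ^ (2 * m + 1)) ^ 2 * ((2 ^ (2 * m + 1)) ^ 2 + 1) * (2 ^ (2 * m + 1) - 1))
    (h2 : N.factorization 2 = (p - 1).factorization 2) (hdvd : p ∣ N) : False := by
  set q : ℕ := 2 ^ (2 * m + 1) with hq
  have hq8 : 8 ≤ q := by
    calc 8 = 2 ^ 3 := by norm_num
      _ ≤ 2 ^ (2 * m + 1) := Nat.pow_le_pow_right (by norm_num) (by omega)
  have hN0 : N ≠ 0 := by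
    rw [hN]
    apply mul_ne_zero
    · positivity
    · omega
  have h3 : 2 ^ (2 * (2 * m + 1)) ∣ p - 1 := by
    apply pow_dvd_of_factorization h2 _ hN0
    rw [hN, mul_comm 2, pow_mul, ← hq, mul_assoc]
    exact Dvd.intro _ rfl
  rw [mul_comm 2, pow_mul, ← hq] at h3
  have h4 : q ^ 2 ≤ p - 1 := Nat.le_of_dvd (by omega) h3
  have h5 : q < q ^ 2 := by nlinarith only [hq8]
  rw [hN] at hdvd
  have h6 : p ∣ q ^ 2 + 1 := by
    rcases hp.dvd_mul.mp hdvd with h | h
    · rcases hp.dvd_mul.mp h with h' | h'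
      · have := Nat.le_of_dvd (by positivity) (hp.dvd_of_dvd_pow h')
        omega
      · exact h'
    · have := Nat.le_of_dvd (by omega) h
      omega
  have h7 : p = q ^ 2 + 1 := by
    have := Nat.le_of_dvd (by omega) h6
    omega
  have h8 : 5 ∣ q ^ 2 + 1 := by
    have h9 : q ^ 2 % 5 = 4 := by
      rw [hq, ← pow_mul, mul_comm, pow_mul]
      have : (2 ^ 2) ^ (2 * m + 1) % 5 = 4 := by
        rw [pow_succ, pow_mul]
        rw [Nat.mul_mod, Nat.pow_mod]
        norm_num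
      exact this
    omega
  rw [← h7] at h8
  have h9 := (Nat.prime_dvd_prime_iff_eq (by norm_num) hp).mp h8
  linarith only [hq8, h5, h7, h9]

theorem psu_arith {p n : ℕ} (hp : p.Prime) (hp5 : 5 ≤ p) (hn : 2 ≤ n) {N : ℕ}
    (hN : Nat.gcd 3 (2 ^ n + 1) * N =
      (2 ^ n) ^ 3 * ((2 ^ n - 1) * ((2 ^ n + 1) ^ 2 * ((2 ^ n - 1) ^ 2 + (2 ^ n - 1) + 1))))
    (h2 : N.factorization 2 = (p - 1).factorization 2) (hdvd : p ∣ N) : False := by
  have hq4 : 4 ≤ 2 ^ n := by
    calc 4 = 2 ^ 2 := by norm_num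
      _ ≤ 2 ^ n := Nat.pow_le_pow_right (by norm_num) hn
  have hN0 : N ≠ 0 := by
    rintro rfl
    rw [mul_zero] at hN
    have : 0 < (2 ^ n) ^ 3 * ((2 ^ n - 1) * ((2 ^ n + 1) ^ 2 * ((2 ^ n - 1) ^ 2 + (2 ^ n - 1) + 1))) := by
      have : 0 < 2 ^ n - 1 := by omega
      (clear * - this; positivity)
    omega
  have h3 : 2 ^ (n * 3) ∣ N := by
    have h4 : 2 ^ (n * 3) ∣ Nat.gcd 3 (2 ^ n + 1) * N := by
      rw [hN, pow_mul]
      exact Dvd.intro _ rfl
    refine (Nat.Coprime.dvd_of_dvd_mul_left ?_ h4)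
    apply Nat.Coprime.pow_left
    apply Nat.Coprime.coprime_dvd_right (Nat.gcd_dvd_left 3 (2 ^ n + 1))
    norm_num
  have h4 := pow_dvd_of_factorization h2 h3 hN0
  rw [pow_mul] at h4
  have h5 : (2 ^ n) ^ 3 ≤ p - 1 := Nat.le_of_dvd (by omega) h4
  have h6 : p ∣ (2 ^ n) ^ 3 * ((2 ^ n - 1) * ((2 ^ n + 1) ^ 2 * ((2 ^ n - 1) ^ 2 + (2 ^ n - 1) + 1))) := by
    rw [← hN]
    exact Dvd.dvd.mul_left hdvd _
  generalize 2 ^ n = q at *
  obtain ⟨t, rfl⟩ : ∃ t, q = t + 4 := ⟨q - 4, by omega⟩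
  have e1 : t + 4 - 1 = t + 3 := by omega
  rw [e1] at h6
  have h7 : (t + 4) ^ 3 < p := by omega
  rcases hp.dvd_mul.mp h6 with h | h
  · have := Nat.le_of_dvd (by positivity) (hp.dvd_of_dvd_pow h)
    nlinarith only [h7, this, _root_.sq_nonneg (↑t + 4 + 1 : ℤ), _root_.Nat.cast_nonneg (α := ℤ) (t)]
  rcases hp.dvd_mul.mp h with h | h
  · have := Nat.le_of_dvd (by positivity) h
    nlinarith only [h7, this, _root_.sq_nonneg (↑t + 4 + 1 : ℤ), _root_.Nat.cast_nonneg (α := ℤ) (t)]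
  rcases hp.dvd_mul.mp h with h | h
  · have := Nat.le_of_dvd (by positivity) (hp.dvd_of_dvd_pow h)
    nlinarith only [h7, this, _root_.sq_nonneg (↑t + 4 + 1 : ℤ), _root_.Nat.cast_nonneg (α := ℤ) (t)]
  · have := Nat.le_of_dvd (by (clear * -; positivity)) h
    nlinarith only [h7, this]

/-- The three kinds of simple groups with a strongly embedded subgroup. -/
theorem conclusion {G : Type*} [Group G] [Finite G] {p : ℕ} (hp : p.Prime) (hp5 : 5 ≤ p)
    (h2 : (Nat.card G).factorization 2 = (p - 1).factorization 2) (hdvd : p ∣ Nat.card G)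
    (h : (∃ (F : Type) (_ : Field F) (_ : Fintype F), CharP F 2 ∧ 4 ≤ Fintype.card F ∧
        Nonempty (G ≃* Matrix.ProjectiveSpecialLinearGroup (Fin 2) F)) ∨ Cfsg.IsSuzuki G ∨
      (∃ (F : Type) (_ : Field F) (_ : Fintype F) (q : ℕ), Fintype.card F = q ^ 2 ∧ Even q ∧ 4 ≤ q ∧
        Nonempty (G ≃* Cfsg.PSU 3 F q))) :
    ∃ (a : ℕ) (F : Type) (_ : Field F) (_ : Fintype F), p = 2 ^ a + 1 ∧ Fintype.card F = 2 ^ a ∧
      Nonempty (G ≃* Matrix.SpecialLinearGroup (Fin 2) F) := by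
  rcases h with ⟨F, _, _, hchar, h4, ⟨e⟩⟩ | ⟨-, m, hm, hcard⟩ | ⟨F, _, _, q, hF, hq, h4, ⟨e⟩⟩
  · obtain ⟨n, -, hn⟩ := FiniteField.card F 2
    have heven : Even (Fintype.card F) := by
      rw [hn]
      exact (Nat.even_pow.mpr ⟨even_two, n.pos.ne'⟩)
    have hcard := Cfsg.Agent.SmallSimple.PSLTwoPart.card_psl_two_even heven
    rw [← Nat.card_congr e.toEquiv, hn] at hcard
    rw [hcard] at h2 hdvd
    obtain ⟨e'⟩ := Cfsg.Agent.WeakTI.PslTwo.nonempty_equiv (F := F)
    exact ⟨n, F, inferInstance, inferInstance, psl_arith hp hp5 n.pos h2 hdvd, hn, ⟨e.trans e'.symm⟩⟩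
  · exact absurd trivial (fun _ => suzuki_arith hp hp5 hm hcard h2 hdvd)
  · exfalso
    have hF2 : Fintype.card F ≠ 0 := Fintype.card_ne_zero
    obtain ⟨r, hr⟩ := CharP.exists F
    obtain ⟨n, hrp, hn⟩ := FiniteField.card F r
    have hr2 : r = 2 := by
      have h5 : 2 ∣ r ^ (n : ℕ) := by
        rw [← hn, hF]
        exact (even_iff_two_dvd.mp hq).trans (dvd_pow_self q two_ne_zero)
      exact ((Nat.prime_dvd_prime_iff_eq Nat.prime_two hrp).mp (Nat.prime_two.dvd_of_dvd_pow h5)).symm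
    have h5 : ∃ k, q = 2 ^ k := by
      have h6 : q ∣ 2 ^ (n : ℕ) := by
        rw [← hr2, ← hn, hF]
        exact dvd_pow_self q two_ne_zero
      obtain ⟨k, -, hk⟩ := (Nat.dvd_prime_pow Nat.prime_two).mp h6
      exact ⟨k, hk⟩
    obtain ⟨k, rfl⟩ := h5
    have hk2 : 2 ≤ k := by
      by_contra hcon
      have : 2 ^ k ≤ 2 ^ 1 := Nat.pow_le_pow_right (by norm_num) (by omega)
      omega
    obtain ⟨t, ht⟩ : ∃ t, 2 ^ k = t + 1 := ⟨2 ^ k - 1, by omega⟩
    have hcard := Cfsg.Agent.HKS.EndOrd.card_psu_three (F := F) (t := t) (by rw [hF, ht])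
    rw [← ht, ← Nat.card_congr e.toEquiv] at hcard
    refine psu_arith hp hp5 hk2 (N := Nat.card G) ?_ h2 hdvd
    have e1 : 2 ^ k - 1 = t := by omega
    have e2 : t + 2 = 2 ^ k + 1 := by omega
    rw [e2] at hcard
    rw [e1]
    exact hcard

end Cfsg.Agent.H656.BenderArith
end

-- part: S4706
section
set_option autoImplicit false
open Cfsg

namespace Cfsg.Agent.S4706

open Cfsg.Agent.H656.DihedralP Cfsg.Agent.H656.DihedralSimple Cfsg.Agent.H656.PermSetup

/-- Let p > 2 be a prime and G a permutation group on p letters whose Sylow p-subgroup P has normalizer of order 2p. Then either P is normal in G, or p − 1 = 2^a for some a and G is isomorphic to SL(2, 2^a). -/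
theorem result {α : Type*} [Fintype α] [DecidableEq α] {p : ℕ} [Fact p.Prime] (hp : 2 < p) (hα : Fintype.card α = p) (G : Subgroup (Equiv.Perm α)) (P : Sylow p G) (hN : Nat.card (Subgroup.normalizer ((P : Subgroup G) : Set G)) = 2 * p) : (P : Subgroup G).Normal ∨ ∃ (a : ℕ) (F : Type) (_ : Field F) (_ : Fintype F), p = 2 ^ a + 1 ∧ Fintype.card F = 2 ^ a ∧ Nonempty (G ≃* Matrix.SpecialLinearGroup (Fin 2) F) := by
  by_cases hnn : (P : Subgroup G).Normal
  · exact Or.inl hnn
  right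
  have hpp : p.Prime := Fact.out
  have hP : Nat.card P = p := card_sylow hp P hN hnn
  have hP' : Nat.card (P : Subgroup G) = p := hP
  have hordP : ∀ y ∈ (P : Subgroup G), y ≠ 1 → orderOf (y : Equiv.Perm α) = p := by
    intro y hy hy1
    rw [Subgroup.orderOf_coe]
    exact orderOf_eq hP' hy hy1
  obtain ⟨y₀, hy₀, hy₀1⟩ := exists_mem hP'
  obtain ⟨hcyc, hmove⟩ := cycle hα (hordP y₀ hy₀ hy₀1)
  -- transitivity
  have htrans : MulAction.IsPretransitive G α := by
    constructor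
    intro a b
    obtain ⟨k, hk⟩ := hcyc.sameCycle (hmove a) (hmove b)
    refine ⟨y₀ ^ k, ?_⟩
    rw [Subgroup.smul_def, Subgroup.coe_zpow]
    exact hk
  -- `p ≥ 5`
  have hp5 : 5 ≤ p := by
    by_contra hcon
    have h3 : p = 3 := by
      have : p ≠ 4 := by rintro rfl; exact absurd hpp (by norm_num)
      omega
    apply hnn
    have h4 : Nat.card G ∣ 6 := by
      have h5 := Subgroup.card_subgroup_dvd_card G
      rw [Nat.card_perm, Nat.card_eq_fintype_card (α := α), hα, h3] at h5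
      exact h5
    have h5 : Nat.card G ≤ 6 := Nat.le_of_dvd (by norm_num) h4
    have h6 : Subgroup.normalizer ((P : Subgroup G) : Set G) = ⊤ := by
      apply Subgroup.eq_top_of_le_card
      rw [hN, h3]
      exact h5
    exact Subgroup.normalizer_eq_top_iff.mp h6
  -- simplicity
  have hsyl : 1 < Nat.card (Sylow p G) := by
    rw [Finite.one_lt_card_iff_nontrivial]
    by_contra hcon
    rw [not_nontrivial_iff_subsingleton] at hcon
    exact hnn P.normal_of_subsingleton
  have hidx : ((P : Subgroup G).subgroupOf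
      (Subgroup.normalizer ((P : Subgroup G) : Set G))).index = 2 := by
    have h1 := Subgroup.relIndex_mul_relIndex (⊥ : Subgroup G) (P : Subgroup G)
      (Subgroup.normalizer ((P : Subgroup G) : Set G)) bot_le Subgroup.le_normalizer
    rw [Subgroup.relIndex_bot_left, Subgroup.relIndex_bot_left, hP', hN, mul_comm 2 p] at h1
    exact Nat.eq_of_mul_eq_mul_left hpp.pos h1
  have hsimple : IsSimpleGroup G :=
    Cfsg.Agent.S1013.result hα G P hsyl (by rw [hidx]; exact Nat.prime_two)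
  have hnc : ∃ a b : G, a * b ≠ b * a := by
    by_contra hcon
    push Not at hcon
    apply hnn
    constructor
    intro n hn g
    rw [hcon g n, mul_inv_cancel_right]
    exact hn
  have hH : Hyp P := ⟨hP, centralizer_eq P hP hN hnn, hN, hp5⟩
  -- double transitivity
  have h2t : MulAction.IsMultiplyPretransitive G α 2 := by
    rcases Cfsg.Agent.S0675.result (by rw [hα]; exact hpp) G with h | h
    · exfalso
      obtain ⟨a, b, hab⟩ := hnc
      exact hab (IsSimpleGroup.comm_iff_isSolvable.mpr h a b)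
    · exact h
  have hρ := (Cfsg.Agent.S0157.result (G := G) α (by
    rw [Nat.card_eq_fintype_card, hα]; omega)).mpr h2t
  set ρ : G → ℂ := fun g => (Nat.card (MulAction.fixedBy α g) : ℂ) - 1 with hρdef
  have hρ1 : ρ 1 = (p : ℂ) - 1 := by
    rw [hρdef]
    simp only
    rw [card_fixedBy_one, hα]
  have hρP : ∀ y ∈ (P : Subgroup G), y ≠ 1 → ρ y = -1 := by
    intro y hy hy1
    have h1 := (cycle hα (hordP y hy hy1)).2
    have h2 : MulAction.fixedBy α y = ∅ := by
      ext x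
      simp only [MulAction.mem_fixedBy, Set.mem_empty_iff_false, iff_false]
      exact h1 x
    rw [hρdef]
    simp only
    rw [h2]
    simp
  have hker : ∀ b : G, orderOf b = 2 → ρ b ≠ ρ 1 := by
    intro b hb h
    rw [hρdef] at h
    simp only at h
    rw [sub_left_inj, Nat.cast_inj, card_fixedBy_one] at h
    rw [eq_one_of_card_fixedBy h, orderOf_one] at hb
    norm_num at hb
  obtain ⟨x, hx, hxP⟩ := hH.exists_not_mem
  have hx2 := hH.orderOf_eq_two hx hxP
  have hfix : ∀ b : G, orderOf b = 2 → Nat.card (MulAction.fixedBy α b) = 1 := by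
    intro b hb
    have h1 := hH.isConj_of_involution hρ hρ1 hρP hx hxP hb (hker b hb)
    have h2 := hH.apply_eq_zero hρ hρ1 hρP hx hxP
    have h3 : ρ b = ρ x := (Cfsg.Agent.Characters.Core.classFunction_apply_eq
      (Cfsg.Agent.Characters.Core.isCharacter_isClassFunction
        (Cfsg.Agent.Characters.Core.isIrr_isCharacter hρ)) h1).symm
    rw [h2, hρdef] at h3
    simp only at h3
    have h4 : (Nat.card (MulAction.fixedBy α b) : ℂ) = 1 := by
      linear_combination h3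
    exact_mod_cast h4
  have hf2 := hH.factorization_two hρ hρ1 hρP hker
  obtain ⟨a₀⟩ : Nonempty α := by
    rw [← Fintype.card_pos_iff, hα]
    exact hpp.pos
  have hse := isStronglyEmbedded (G := G) a₀ (by rw [hα]; omega) hx2 hfix
  have hdvd : p ∣ Nat.card G := by
    rw [← hP']
    exact Subgroup.card_subgroup_dvd_card _
  exact Cfsg.Agent.H656.BenderArith.conclusion hpp hp5 hf2 hdvd
    (Cfsg.Agent.S0222.result hnc _ hse)

end Cfsg.Agent.S4706
end
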