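import Cfsg.Agent.H742.SigmaRoot
import Cfsg.Agent.H742.CoreOf
import Mathlib
import Cfsg.Agent.Solvable.Glauberman
import Cfsg.Agent.S0205
import Cfsg.Agent.S0022
import Cfsg.Agent.PLocal.StableOfNotInvolves
import Cfsg.Agent.PLocal.PConstrained
import Cfsg.Agent.Lib.ElemAbGL
import Cfsg.Prelude.Def_Local
import Cfsg.Agent.Lib.Cores
import Cfsg.Agent.PLocal.ZJReduction
import Cfsg.Agent.PLocal.ThompsonJA
import Cfsg.Agent.S0653
import Cfsg.Agent.S0667
import Cfsg.Statements.S3260
import Cfsg.Agent.LieClassical.FieldTransfer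
import Cfsg.Agent.FastGrp
import Cfsg.Agent.Prune
set_option linter.all false
prune_inst 0x7f00000000000000000000000000000000000000000000000000000000000000000000000000000000000000000000000000000000000000000000000000000000000000000000000000000000000000003fffffffffffffffffffffffffffbeffbdffffffff
open scoped Cfsg.Agent.FastGrp

-- part: H220/ZjBase
section
/-!
Quadratic elements of a linear group and elements normalizing the group (S3260): conjugation, the diagonal torus
`tau c` of an inverse pair, the group of elements stabilizing the flag `range s ≤ ker s`.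
-/

set_option autoImplicit false

namespace Cfsg.Agent.H220.Zj

open Cfsg Cfsg.Agent.H740 Cfsg.Agent.H742 Cfsg.Agent.H731

variable {k : Type*} [Field k] {M : Type*} [AddCommGroup M] [Module k M]
variable {G : Subgroup (LinearMap.GeneralLinearGroup k M)}

/-! ### Conjugation -/

theorem conjL_mul_mul (g : LinearMap.GeneralLinearGroup k M) (x y : M →ₗ[k] M) :
    conjL g (x * y) = conjL g x * conjL g y := by
  simp only [conjL_apply]
  have h : ((g⁻¹ : LinearMap.GeneralLinearGroup k M) : M →ₗ[k] M) * (g : M →ₗ[k] M) = 1 := Units.inv_mul g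
  calc (g : M →ₗ[k] M) * (x * y) * ((g⁻¹ : LinearMap.GeneralLinearGroup k M) : M →ₗ[k] M)
      = (g : M →ₗ[k] M) * x * 1 * y * ((g⁻¹ : LinearMap.GeneralLinearGroup k M) : M →ₗ[k] M) := by
        simp only [mul_assoc, one_mul]
    _ = _ := by rw [← h]; simp only [mul_assoc]

theorem conjL_one (g : LinearMap.GeneralLinearGroup k M) : conjL g (1 : M →ₗ[k] M) = 1 := by
  rw [conjL_apply, mul_one, Units.mul_inv]

theorem conjL_one_left (x : M →ₗ[k] M) : conjL (1 : LinearMap.GeneralLinearGroup k M) x = x := by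
  rw [conjL_apply, inv_one, Units.val_one, one_mul, mul_one]

theorem conjL_conjL_inv (g : LinearMap.GeneralLinearGroup k M) (y : M →ₗ[k] M) : conjL g (conjL g⁻¹ y) = y := by
  rw [← conjL_mul, mul_inv_cancel, conjL_one_left]

/-- a linear map commutes with `g` iff it is fixed -/
theorem conjL_eq_iff (g : LinearMap.GeneralLinearGroup k M) (x y : M →ₗ[k] M) :
    conjL g x = y ↔ (g : M →ₗ[k] M) * x = y * g := by
  rw [conjL_apply]
  constructor
  · rintro rfl
    rw [mul_assoc, Units.inv_mul, mul_one]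
  · intro h
    rw [h, mul_assoc, Units.mul_inv, mul_one]

theorem conjL_ne_zero {g : LinearMap.GeneralLinearGroup k M} {x : M →ₗ[k] M} (hx : x ≠ 0) : conjL g x ≠ 0 := by
  intro h
  apply hx
  rw [← conjL_inv_conjL g x, h, map_zero]

theorem Inv_conj {s t : M →ₗ[k] M} (h : _root_.Cfsg.Agent.H742.Inv s t) (g : LinearMap.GeneralLinearGroup k M) :
    _root_.Cfsg.Agent.H742.Inv (conjL g s) (conjL g t) where
  ss := by rw [← conjL_mul_mul, h.ss, map_zero]
  tt := by rw [← conjL_mul_mul, h.tt, map_zero]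
  sts := by rw [← conjL_mul_mul, ← conjL_mul_mul, h.sts]
  tst := by rw [← conjL_mul_mul, ← conjL_mul_mul, h.tst]

theorem Same_conj {s t : M →ₗ[k] M} (h : Same s t) (g : LinearMap.GeneralLinearGroup k M) :
    Same (conjL g s) (conjL g t) := by
  refine ⟨?_, ?_⟩
  · rw [conjL_apply, conjL_apply, ker_conj, ker_conj, h.1]
  · rw [conjL_apply, conjL_apply, range_conj, range_conj, h.2]

theorem ker_conjL (g : LinearMap.GeneralLinearGroup k M) (x : M →ₗ[k] M) :
    LinearMap.ker (conjL g x) = (LinearMap.ker x).map (g : M →ₗ[k] M) := by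
  rw [conjL_apply, ker_conj]

theorem range_conjL (g : LinearMap.GeneralLinearGroup k M) (x : M →ₗ[k] M) :
    LinearMap.range (conjL g x) = (LinearMap.range x).map (g : M →ₗ[k] M) := by
  rw [conjL_apply, range_conj]

theorem QIn_conj {s : M →ₗ[k] M} (h : QIn G s) {g : LinearMap.GeneralLinearGroup k M}
    (hg : ∀ x ∈ G, g * x * g⁻¹ ∈ G) : QIn G (conjL g s) := by
  rw [conjL_apply]; exact h.conj_of_normalizes hg

/-- the inverse of an element is unique in a class -/
theorem Inv.unique {s t t' : M →ₗ[k] M} (h : _root_.Cfsg.Agent.H742.Inv s t) (h' : _root_.Cfsg.Agent.H742.Inv s t') (hs : Same t t') : t = t' := by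
  -- `s t` and `s t'` are the projection onto `range s` along `ker t`
  have h1 : t * s = t' * s := by
    ext m
    -- `t s m - t' s m ∈ range t ∩ ker s`
    have hm : t (s m) - t' (s m) ∈ LinearMap.range t ⊓ LinearMap.ker s := by
      refine ⟨Submodule.sub_mem _ ⟨_, rfl⟩ (by rw [hs.2]; exact ⟨_, rfl⟩), ?_⟩
      change s (t (s m) - t' (s m)) = 0
      rw [map_sub]
      have e1 := congrArg (fun f : M →ₗ[k] M => f m) h.sts
      have e2 := congrArg (fun f : M →ₗ[k] M => f m) h'.sts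
      change s (t (s m)) = s m at e1
      change s (t' (s m)) = s m at e2
      rw [e1, e2, sub_self]
    rw [h.symm.inf_eq_bot, Submodule.mem_bot, sub_eq_zero] at hm
    exact hm
  have h2 : t' * s * t = t' := by
    rw [mul_assoc]
    exact h.mul_st hs.1.le
  rw [← h.tst, h1, h2]

section fd
variable [FiniteDimensional k M]

theorem IsMin_conj {s : M →ₗ[k] M} (h : IsMin G s) {g : LinearMap.GeneralLinearGroup k M}
    (hg : ∀ x ∈ G, g * x * g⁻¹ ∈ G) : IsMin G (conjL g s) := by
  refine h.of_finrank_le (QIn_conj h.1 hg) (conjL_ne_zero h.ne_zero) ?_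
  rw [range_conjL]
  exact Submodule.finrank_map_le _ _

end fd

/-! ### The torus of an inverse pair -/

/-- diagonal matrix -/
def dg (c : k) (hc : c ≠ 0) : Matrix.SpecialLinearGroup (Fin 2) k :=
  ⟨!![c, 0; 0, c⁻¹], by rw [Matrix.det_fin_two_of, mul_inv_cancel₀ hc]; ring⟩

theorem dg_mul (c d : k) (hc : c ≠ 0) (hd : d ≠ 0) : dg c hc * dg d hd = dg (c * d) (mul_ne_zero hc hd) := by
  apply Subtype.ext
  rw [Matrix.SpecialLinearGroup.coe_mul]
  change !![c, 0; 0, c⁻¹] * !![d, 0; 0, d⁻¹] = !![c * d, 0; 0, (c * d)⁻¹]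
  rw [Matrix.mul_fin_two, mul_inv]
  congr 1
  simp

theorem dg_one : dg (1 : k) one_ne_zero = 1 := by
  apply Subtype.ext
  change !![(1 : k), 0; 0, (1 : k)⁻¹] = 1
  rw [inv_one, Matrix.one_fin_two]

theorem dg_congr {c d : k} (hc : c ≠ 0) (hd : d ≠ 0) (h : c = d) : dg c hc = dg d hd := by subst h; rfl

theorem dg_pow (c : k) (hc : c ≠ 0) (n : ℕ) : (dg c hc) ^ n = dg (c ^ n) (pow_ne_zero n hc) := by
  induction n with
  | zero => rw [pow_zero, dg_congr (pow_ne_zero 0 hc) one_ne_zero (pow_zero c), dg_one]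
  | succ n ih =>
    rw [pow_succ, ih, dg_mul]
    exact dg_congr _ _ (pow_succ c n).symm

theorem dg_inv (c : k) (hc : c ≠ 0) : (dg c hc)⁻¹ = dg c⁻¹ (inv_ne_zero hc) := by
  rw [inv_eq_iff_mul_eq_one, dg_mul, dg_congr _ one_ne_zero (mul_inv_cancel₀ hc), dg_one]

/-- the torus element of an inverse pair: `c` on `range s`, `c⁻¹` on `range t`, `1` on `ker s ⊓ ker t` -/
noncomputable def tau {s t : M →ₗ[k] M} (h : _root_.Cfsg.Agent.H742.Inv s t) (c : k) (hc : c ≠ 0) : LinearMap.GeneralLinearGroup k M :=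
  h.slHom (dg c hc)

theorem coe_tau {s t : M →ₗ[k] M} (h : _root_.Cfsg.Agent.H742.Inv s t) (c : k) (hc : c ≠ 0) :
    (tau h c hc : M →ₗ[k] M) = 1 + (c - 1) • (s * t) + (c⁻¹ - 1) • (t * s) := by
  unfold tau
  rw [h.coe_slHom, slMap]
  have h00 : (dg c hc : Matrix (Fin 2) (Fin 2) k) 0 0 = c := rfl
  have h01 : (dg c hc : Matrix (Fin 2) (Fin 2) k) 0 1 = 0 := rfl
  have h10 : (dg c hc : Matrix (Fin 2) (Fin 2) k) 1 0 = 0 := rfl
  have h11 : (dg c hc : Matrix (Fin 2) (Fin 2) k) 1 1 = c⁻¹ := rfl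
  rw [h00, h01, h10, h11]
  module

theorem tau_inv {s t : M →ₗ[k] M} (h : _root_.Cfsg.Agent.H742.Inv s t) (c : k) (hc : c ≠ 0) :
    (tau h c hc)⁻¹ = tau h c⁻¹ (inv_ne_zero hc) := by
  unfold tau
  rw [← map_inv, dg_inv]

theorem tau_pow {s t : M →ₗ[k] M} (h : _root_.Cfsg.Agent.H742.Inv s t) (c : k) (hc : c ≠ 0) (n : ℕ) (hn : c ^ n = 1) :
    (tau h c hc) ^ n = 1 := by
  unfold tau
  rw [← map_pow, dg_pow, dg_congr _ one_ne_zero hn, dg_one, map_one]

/-- the image of `SL₂(k)` lies in `G` -/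
theorem slHom_mem {s t : M →ₗ[k] M} (h : _root_.Cfsg.Agent.H742.Inv s t) (hs : QIn G s) (ht : QIn G t)
    (g : Matrix.SpecialLinearGroup (Fin 2) k) : h.slHom g ∈ G := by
  have h1 : (⊤ : Subgroup (Matrix.SpecialLinearGroup (Fin 2) k)) ≤ G.comap h.slHom := by
    rw [← lower_sup_upper, sup_le_iff]
    constructor
    · intro x hx
      obtain ⟨c, rfl⟩ := mem_lower_iff.1 hx
      exact ht.mem_of_coe (h.slHom_lo c)
    · intro x hx
      obtain ⟨c, rfl⟩ := mem_upper_iff.1 hx
      exact hs.mem_of_coe (h.slHom_up c)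
  exact h1 (Subgroup.mem_top g)

theorem tau_mem {s t : M →ₗ[k] M} (h : _root_.Cfsg.Agent.H742.Inv s t) (hs : QIn G s) (ht : QIn G t) (c : k) (hc : c ≠ 0) :
    tau h c hc ∈ G := slHom_mem h hs ht _

theorem s_mul_tau {s t : M →ₗ[k] M} (h : _root_.Cfsg.Agent.H742.Inv s t) (c : k) (hc : c ≠ 0) :
    s * (tau h c hc : M →ₗ[k] M) = c⁻¹ • s := by
  rw [coe_tau, mul_add, mul_add, mul_one, mul_smul_comm, mul_smul_comm, ← mul_assoc, ← mul_assoc, h.ss, zero_mul,
    smul_zero, add_zero, h.sts]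
  module

theorem tau_mul_s {s t : M →ₗ[k] M} (h : _root_.Cfsg.Agent.H742.Inv s t) (c : k) (hc : c ≠ 0) :
    (tau h c hc : M →ₗ[k] M) * s = c • s := by
  rw [coe_tau, add_mul, add_mul, one_mul, smul_mul_assoc, smul_mul_assoc, h.sts, mul_assoc t s s, h.ss, mul_zero,
    smul_zero, add_zero]
  module

/-- conjugation of the torus -/
theorem conj_tau {s t : M →ₗ[k] M} (h : _root_.Cfsg.Agent.H742.Inv s t) (g : LinearMap.GeneralLinearGroup k M) (c : k) (hc : c ≠ 0) :
    g * tau h c hc * g⁻¹ = tau (Inv_conj h g) c hc := by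
  apply Units.ext
  rw [coe_tau, ← conjL_mul_mul, ← conjL_mul_mul, ← map_smul, ← map_smul]
  nth_rewrite 1 [← conjL_one g]
  rw [← map_add, ← map_add, ← coe_tau h c hc, conjL_apply]
  rfl

/-- an inverse pair is determined by the torus element -/
theorem eq_of_tau_eq {s t t' : M →ₗ[k] M} (h : _root_.Cfsg.Agent.H742.Inv s t) (h' : _root_.Cfsg.Agent.H742.Inv s t') (c : k) (hc : c ≠ 0) (hc1 : c ≠ 1)
    (hc2 : c * c ≠ 1) (he : tau h c hc = tau h' c hc) : t = t' := by
  have key : ∀ {t : M →ₗ[k] M} (h : _root_.Cfsg.Agent.H742.Inv s t), ((tau h c hc : M →ₗ[k] M) - 1) * ((tau h c hc : M →ₗ[k] M) - c • 1) =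
      ((c⁻¹ - 1) * (c⁻¹ - c)) • (t * s) := by
    intro t h
    rw [coe_tau]
    have e1 : (s * t) * (s * t) = s * t := by rw [← mul_assoc, h.sts]
    have e2 : (t * s) * (t * s) = t * s := by rw [← mul_assoc, h.tst]
    have e3 : (s * t) * (t * s) = 0 := by rw [mul_assoc, ← mul_assoc t t s, h.tt, zero_mul, mul_zero]
    have e4 : (t * s) * (s * t) = 0 := by rw [mul_assoc, ← mul_assoc s s t, h.ss, zero_mul, mul_zero]
    generalize s * t = P at *
    generalize t * s = Q at *
    have e5 : (1 + (c - 1) • P + (c⁻¹ - 1) • Q - 1) * (1 + (c - 1) • P + (c⁻¹ - 1) • Q - c • 1) =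
        (c - 1) • P + (c⁻¹ - 1) • Q + ((c - 1) * (c - 1)) • (P * P) + ((c - 1) * (c⁻¹ - 1)) • (P * Q) +
          ((c⁻¹ - 1) * (c - 1)) • (Q * P) + ((c⁻¹ - 1) * (c⁻¹ - 1)) • (Q * Q) -
          (c * (c - 1)) • P - (c * (c⁻¹ - 1)) • Q := by
      simp only [add_mul, mul_add, sub_mul, mul_sub, one_mul, mul_one, smul_mul_assoc, mul_smul_comm, smul_smul,
        smul_add, smul_sub]
      module
    rw [e5, e1, e2, e3, e4]
    module
  have h1 := key h
  rw [he, key h'] at h1
  have hne : (c⁻¹ - 1) * (c⁻¹ - c) ≠ 0 := by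
    refine mul_ne_zero ?_ ?_
    · intro h2
      apply hc1
      have h3 : c⁻¹ = 1 := sub_eq_zero.1 h2
      rw [inv_eq_one] at h3
      exact h3
    · intro h2
      apply hc2
      have h3 : c⁻¹ = c := sub_eq_zero.1 h2
      nth_rewrite 1 [← h3]
      exact inv_mul_cancel₀ hc
  have h2 : t' * s = t * s := smul_right_injective _ hne h1
  -- `s t = s t'` as well
  have h4 : s * t = s * t' := by
    have h5 := congrArg Units.val he
    rw [coe_tau, coe_tau, h2] at h5
    have h6 : (c - 1) • (s * t) = (c - 1) • (s * t') := by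
      have := add_right_cancel h5
      exact add_left_cancel this
    exact smul_right_injective _ (sub_ne_zero.2 hc1) h6
  calc t = t * s * t := h.tst.symm
    _ = t' * s * t := by rw [h2]
    _ = t' * (s * t) := by rw [mul_assoc]
    _ = t' * s * t' := by rw [h4, mul_assoc]
    _ = t' := h'.tst

/-! ### The flag group -/

/-- elements of `G` stabilizing the flag `range s ≤ ker s` -/
def UG (G : Subgroup (LinearMap.GeneralLinearGroup k M)) (s : M →ₗ[k] M) (hs : s * s = 0) :
    Subgroup (LinearMap.GeneralLinearGroup k M) := G ⊓ flagStab (range_le_ker_of_mul hs)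

theorem conjL_of_mem_UG {s : M →ₗ[k] M} {hs : s * s = 0} {u : LinearMap.GeneralLinearGroup k M} (hu : u ∈ UG G s hs) :
    conjL u s = s := by
  rw [conjL_eq_iff]
  obtain ⟨h1, h2, h3⟩ := hu.2
  ext m
  rw [Module.End.mul_apply, Module.End.mul_apply, h3 _ ⟨m, rfl⟩]
  have h4 := h1 m
  rw [LinearMap.mem_ker, map_sub, sub_eq_zero] at h4
  exact h4.symm

/-- elements preserving the kernel and the range of `s` normalize the flag group -/
theorem conj_mem_UG {s : M →ₗ[k] M} {hs : s * s = 0} {g : LinearMap.GeneralLinearGroup k M}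
    (hg : ∀ x ∈ G, g * x * g⁻¹ ∈ G) (hS : Same (conjL g s) s) {u : LinearMap.GeneralLinearGroup k M}
    (hu : u ∈ UG G s hs) : g * u * g⁻¹ ∈ UG G s hs := by
  refine ⟨hg u hu.1, ?_⟩
  obtain ⟨h1, h2, h3⟩ := hu.2
  have hk : (LinearMap.ker s).map (g : M →ₗ[k] M) = LinearMap.ker s := by rw [← ker_conjL]; exact hS.1
  have hr : (LinearMap.range s).map (g : M →ₗ[k] M) = LinearMap.range s := by rw [← range_conjL]; exact hS.2
  have hinv : ∀ m : M, (g : M →ₗ[k] M) (((g⁻¹ : LinearMap.GeneralLinearGroup k M) : M →ₗ[k] M) m) = m := by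
    intro m
    rw [← Module.End.mul_apply, Units.mul_inv, Module.End.one_apply]
  have hinv' : ∀ m : M, ((g⁻¹ : LinearMap.GeneralLinearGroup k M) : M →ₗ[k] M) ((g : M →ₗ[k] M) m) = m := by
    intro m
    rw [← Module.End.mul_apply, Units.inv_mul, Module.End.one_apply]
  have hk' : ∀ m ∈ LinearMap.ker s, ((g⁻¹ : LinearMap.GeneralLinearGroup k M) : M →ₗ[k] M) m ∈ LinearMap.ker s := by
    intro m hm
    rw [← hk] at hm
    obtain ⟨n, hn, rfl⟩ := hm
    rw [hinv']; exact hn
  have hr' : ∀ m ∈ LinearMap.range s, ((g⁻¹ : LinearMap.GeneralLinearGroup k M) : M →ₗ[k] M) m ∈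
      LinearMap.range s := by
    intro m hm
    rw [← hr] at hm
    obtain ⟨n, hn, rfl⟩ := hm
    rw [hinv']; exact hn
  have key : ∀ m : M, ((g * u * g⁻¹ : LinearMap.GeneralLinearGroup k M) : M →ₗ[k] M) m - m =
      (g : M →ₗ[k] M) ((u : M →ₗ[k] M) (((g⁻¹ : LinearMap.GeneralLinearGroup k M) : M →ₗ[k] M) m) -
        ((g⁻¹ : LinearMap.GeneralLinearGroup k M) : M →ₗ[k] M) m) := by
    intro m
    rw [map_sub, hinv]
    rfl
  refine ⟨fun m => ?_, fun m hm => ?_, fun m hm => ?_⟩
  · rw [key, ← hk]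
    exact ⟨_, h1 _, rfl⟩
  · rw [key, ← hr]
    exact ⟨_, h2 _ (hk' m hm), rfl⟩
  · rw [← sub_eq_zero, key, h3 _ (hr' m hm), sub_self, map_zero]

/-- the quotient of two torus elements -/
theorem tau_mul_inv_mem {s t t' : M →ₗ[k] M} (h : _root_.Cfsg.Agent.H742.Inv s t) (h' : _root_.Cfsg.Agent.H742.Inv s t') (hs : QIn G s) (ht : QIn G t)
    (ht' : QIn G t') (c : k) (hc : c ≠ 0) : tau h' c hc * (tau h c hc)⁻¹ ∈ UG G s h.ss := by
  refine ⟨G.mul_mem (tau_mem h' hs ht' c hc) (G.inv_mem (tau_mem h hs ht c hc)), ?_⟩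
  have hker : ∀ {t : M →ₗ[k] M} (h : _root_.Cfsg.Agent.H742.Inv s t) (c : k) (hc : c ≠ 0) (m : M), m ∈ LinearMap.ker s →
      (tau h c hc : M →ₗ[k] M) m - m ∈ LinearMap.range s := by
    intro t h c hc m hm
    rw [LinearMap.mem_ker] at hm
    rw [coe_tau]
    refine ⟨(c - 1) • t m, ?_⟩
    simp only [LinearMap.add_apply, LinearMap.smul_apply, Module.End.mul_apply, Module.End.one_apply, hm, map_zero,
      smul_zero, map_smul]
    abel
  have hle : LinearMap.range s ≤ LinearMap.ker s := range_le_ker_of_mul h.ss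
  rw [tau_inv]
  refine ⟨fun m => ?_, fun m hm => ?_, ?_⟩
  · rw [LinearMap.mem_ker, map_sub, sub_eq_zero]
    have h1 : s * ((tau h' c hc * tau h c⁻¹ (inv_ne_zero hc) : LinearMap.GeneralLinearGroup k M) : M →ₗ[k] M) = s := by
      rw [Units.val_mul, ← mul_assoc, s_mul_tau, smul_mul_assoc, s_mul_tau, smul_smul, inv_inv, inv_mul_cancel₀ hc,
        one_smul]
    exact congrArg (fun f : M →ₗ[k] M => f m) h1
  · have h1 := hker h c⁻¹ (inv_ne_zero hc) m hm
    have h2 : (tau h c⁻¹ (inv_ne_zero hc) : M →ₗ[k] M) m ∈ LinearMap.ker s := by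
      have := Submodule.add_mem _ (hle h1) hm
      rwa [sub_add_cancel] at this
    have h3 := hker h' c hc _ h2
    have e : ((tau h' c hc * tau h c⁻¹ (inv_ne_zero hc) : LinearMap.GeneralLinearGroup k M) : M →ₗ[k] M) m - m =
        ((tau h' c hc : M →ₗ[k] M) ((tau h c⁻¹ (inv_ne_zero hc) : M →ₗ[k] M) m) -
          (tau h c⁻¹ (inv_ne_zero hc) : M →ₗ[k] M) m) + ((tau h c⁻¹ (inv_ne_zero hc) : M →ₗ[k] M) m - m) := by
      rw [Units.val_mul, Module.End.mul_apply]
      abel
    rw [e]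
    exact Submodule.add_mem _ h3 h1
  · rintro _ ⟨m, rfl⟩
    have h1 : ((tau h' c hc * tau h c⁻¹ (inv_ne_zero hc) : LinearMap.GeneralLinearGroup k M) : M →ₗ[k] M) * s = s := by
      rw [Units.val_mul, mul_assoc, tau_mul_s, mul_smul_comm, tau_mul_s, smul_smul, inv_mul_cancel₀ hc, one_smul]
    exact congrArg (fun f : M →ₗ[k] M => f m) h1

/-- the torus element preserves kernel and range -/
theorem same_conj_tau {s t : M →ₗ[k] M} (h : _root_.Cfsg.Agent.H742.Inv s t) (c : k) (hc : c ≠ 0) :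
    Same (conjL (tau h c hc) s) s := by
  have e : conjL (tau h c hc) s = (c * c) • s := by
    rw [conjL_apply, tau_mul_s, smul_mul_assoc, tau_inv, s_mul_tau, smul_smul, inv_inv]
  rw [e]
  exact ⟨LinearMap.ker_smul _ _ (mul_ne_zero hc hc), LinearMap.range_smul _ _ (mul_ne_zero hc hc)⟩

/-- the flag group has exponent dividing the characteristic -/
theorem pow_of_mem_UG {p : ℕ} [Fact p.Prime] [CharP k p] (hp : 3 ≤ p) {s : M →ₗ[k] M} {hs : s * s = 0}
    {u : LinearMap.GeneralLinearGroup k M} (hu : u ∈ UG G s hs) : u ^ p = 1 := by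
  obtain ⟨h1, h2, h3⟩ := hu.2
  have h4 : ((u : M →ₗ[k] M) - 1) ^ 3 = 0 := by
    ext m
    have e : ((u : M →ₗ[k] M) - 1) ^ 3 = ((u : M →ₗ[k] M) - 1) * (((u : M →ₗ[k] M) - 1) * ((u : M →ₗ[k] M) - 1)) := by
      rw [pow_succ', pow_two]
    rw [e]
    change ((u : M →ₗ[k] M) - 1) (((u : M →ₗ[k] M) - 1) (((u : M →ₗ[k] M) - 1) m)) = 0
    simp only [LinearMap.sub_apply, Module.End.one_apply]
    have h5 := h2 _ (h1 m)
    rw [h3 _ h5, sub_self]
  have h5 : ((u : M →ₗ[k] M) - 1) ^ p = 0 := pow_eq_zero_of_le hp h4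
  apply Units.ext
  rw [Units.val_pow_eq_pow_val, Units.val_one]
  by_cases hM : Nontrivial M
  · have hcp : CharP (M →ₗ[k] M) p := by
      have : CharP (Module.End k M) p := charP_of_injective_algebraMap (algebraMap k (Module.End k M)).injective p
      exact this
    have h6 : ((u : Module.End k M) - 1) ^ p = (u : Module.End k M) ^ p - 1 ^ p :=
      sub_pow_char_of_commute (p := p) (Commute.one_right _)
    rw [one_pow] at h6
    have h7 : (u : Module.End k M) ^ p - 1 = 0 := by rw [← h6]; exact h5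
    exact sub_eq_zero.1 h7
  · rw [not_nontrivial_iff_subsingleton] at hM
    ext m
    exact Subsingleton.elim _ _

end Cfsg.Agent.H220.Zj
end

-- part: H220/ZjSq
section
/-!
Squares in a finite special Jordan division algebra of characteristic not two (S3260).

`Φ` is a finite additive subgroup of a ring, contains `1`, is closed under `x y x`, and its nonzero elements are units
of the ring: then at least a quarter of the nonzero elements of `Φ` are squares of elements of `Φ`.
-/

set_option autoImplicit false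

namespace Cfsg.Agent.H220.ZjSq

open Polynomial

/-! ### Commutative part -/

section comm

variable {S : Type*} [CommRing S] [IsDomain S] [Finite S]

/-- inverses in a subring of a finite domain -/
theorem exists_inv (L : Subring S) {b : S} (hb : b ∈ L) (hb0 : b ≠ 0) : ∃ c ∈ L, b * c = 1 := by
  have hf : IsField L := Finite.isField_of_domain L
  obtain ⟨c, hc⟩ := hf.mul_inv_cancel (a := ⟨b, hb⟩) (fun h => hb0 (congrArg Subtype.val h))
  exact ⟨c, c.2, congrArg Subtype.val hc⟩

theorem pow_card_mem (L : Subring S) {b : S} (hb : b ∈ L) : b ^ Nat.card L = b := by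
  have hf : IsField L := Finite.isField_of_domain L
  let _ := hf.toField
  let _ : Fintype L := Fintype.ofFinite L
  have h := FiniteField.pow_card (⟨b, hb⟩ : L)
  rw [← Nat.card_eq_fintype_card] at h
  exact congrArg Subtype.val h

theorem one_lt_card (L : Subring S) : 1 < Nat.card L := Finite.one_lt_card

omit [Finite S] in
/-- the fixed elements of a power map -/
theorem fixed_subset {q : ℕ} (hq : 1 < q) :
    ∃ F : Finset S, F.card ≤ q ∧ ∀ z : S, z ∈ F ↔ z ^ q = z := by
  classical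
  have hne : (X ^ q - X : S[X]) ≠ 0 := by
    intro h
    have := congrArg (fun f : S[X] => f.coeff q) h
    simp [coeff_X, hq.ne] at this
  refine ⟨(X ^ q - X : S[X]).roots.toFinset, ?_, ?_⟩
  · have h1 : Multiset.card (X ^ q - X : S[X]).roots ≤ (X ^ q - X : S[X]).natDegree := card_roots' _
    have h2 : (X ^ q - X : S[X]).natDegree ≤ q := by
      refine (natDegree_sub_le _ _).trans (max_le ?_ ?_)
      · rw [natDegree_X_pow]
      · rw [natDegree_X]; exact hq.le
    have h3 : (X ^ q - X : S[X]).roots.toFinset.card ≤ Multiset.card (X ^ q - X : S[X]).roots :=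
      Multiset.toFinset_card_le _
    omega
  · intro z
    rw [Multiset.mem_toFinset, mem_roots hne, IsRoot.def, eval_sub, eval_pow, eval_X, sub_eq_zero]

/-- a subring is the set of fixed points of a power map -/
theorem mem_iff_pow (L : Subring S) (z : S) : z ∈ L ↔ z ^ Nat.card L = z := by
  classical
  obtain ⟨F, hF, hm⟩ := fixed_subset (S := S) (one_lt_card L)
  constructor
  · exact fun hz => pow_card_mem L hz
  · intro hz
    have hLF : (Set.toFinite (L : Set S)).toFinset ⊆ F := by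
      intro w hw
      rw [Set.Finite.mem_toFinset] at hw
      exact (hm w).2 (pow_card_mem L hw)
    have hc : (Set.toFinite (L : Set S)).toFinset.card = Nat.card L := by
      rw [← Set.ncard_eq_toFinset_card, ← Nat.card_coe_set_eq]
      rfl
    have he := Finset.eq_of_subset_of_card_le hLF (by rw [hc]; exact hF)
    have h1 := (hm z).2 hz
    rw [← he, Set.Finite.mem_toFinset] at h1
    exact h1

/-- subrings of the same order agree -/
theorem eq_of_card_eq (L₀ L₁ : Subring S) (h : Nat.card L₀ = Nat.card L₁) : L₀ = L₁ := by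
  ext z
  rw [mem_iff_pow L₀, mem_iff_pow L₁, h]

/-- `S = L + L x` when `x² ∈ L`, `S` generated by `L` and `x` -/
theorem card_eq_sq {x : S} (hx : Subring.closure {x} = ⊤) (L : Subring S) (hxx : x * x ∈ L) (hxL : x ∉ L) :
    Nat.card S = Nat.card L * Nat.card L := by
  have hsurj : ∀ y : S, ∃ a ∈ L, ∃ b ∈ L, a + b * x = y := by
    intro y
    have hy : y ∈ Subring.closure {x} := by rw [hx]; exact Subring.mem_top y
    induction hy using Subring.closure_induction with
    | mem z hz =>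
      rw [Set.mem_singleton_iff] at hz
      exact ⟨0, L.zero_mem, 1, L.one_mem, by rw [hz]; ring⟩
    | zero => exact ⟨0, L.zero_mem, 0, L.zero_mem, by ring⟩
    | one => exact ⟨1, L.one_mem, 0, L.zero_mem, by ring⟩
    | add u v _ _ hu hv =>
      obtain ⟨a, ha, b, hb, rfl⟩ := hu
      obtain ⟨c, hc, d, hd, rfl⟩ := hv
      exact ⟨a + c, L.add_mem ha hc, b + d, L.add_mem hb hd, by ring⟩
    | neg u _ hu =>
      obtain ⟨a, ha, b, hb, rfl⟩ := hu
      exact ⟨-a, L.neg_mem ha, -b, L.neg_mem hb, by ring⟩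
    | mul u v _ _ hu hv =>
      obtain ⟨a, ha, b, hb, rfl⟩ := hu
      obtain ⟨c, hc, d, hd, rfl⟩ := hv
      exact ⟨a * c + b * d * (x * x), L.add_mem (L.mul_mem ha hc) (L.mul_mem (L.mul_mem hb hd) hxx),
        a * d + b * c, L.add_mem (L.mul_mem ha hd) (L.mul_mem hb hc), by ring⟩
  have hbij : Function.Bijective (fun z : L × L => (z.1 : S) + (z.2 : S) * x) := by
    constructor
    · rintro ⟨⟨a, ha⟩, ⟨b, hb⟩⟩ ⟨⟨c, hc⟩, ⟨d, hd⟩⟩ h
      simp only at h
      by_cases hbd : b - d = 0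
      · have e1 : b = d := sub_eq_zero.1 hbd
        subst e1
        have e2 : a = c := by linear_combination h
        subst e2
        rfl
      · exfalso
        obtain ⟨e, he, hbe⟩ := exists_inv L (L.sub_mem hb hd) hbd
        apply hxL
        have h1 : x = (c - a) * e := by linear_combination e * h - x * hbe
        rw [h1]
        exact L.mul_mem (L.sub_mem hc ha) he
    · intro y
      obtain ⟨a, ha, b, hb, hab⟩ := hsurj y
      exact ⟨(⟨a, ha⟩, ⟨b, hb⟩), hab⟩
  rw [← Nat.card_prod]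
  exact (Nat.card_eq_of_bijective _ hbij).symm

/-- the two elements `x` and `1 + x` are not both outside the subring generated by their squares -/
theorem not_both (h2 : (2 : S) ≠ 0) {x : S} (hx : Subring.closure {x} = ⊤)
    (h₀ : x ∉ Subring.closure {x * x}) (h₁ : 1 + x ∉ Subring.closure {(1 + x) * (1 + x)}) : False := by
  have hx1 : Subring.closure {1 + x} = ⊤ := by
    rw [eq_top_iff, ← hx, Subring.closure_le, Set.singleton_subset_iff, SetLike.mem_coe]
    have h := Subring.sub_mem _ (Subring.subset_closure (Set.mem_singleton (1 + x)))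
      (Subring.one_mem (Subring.closure {1 + x}))
    rwa [add_sub_cancel_left] at h
  have e0 : x * x ∈ Subring.closure {x * x} := Subring.subset_closure (Set.mem_singleton _)
  have e1 : (1 + x) * (1 + x) ∈ Subring.closure {(1 + x) * (1 + x)} := Subring.subset_closure (Set.mem_singleton _)
  have c0 := card_eq_sq hx _ e0 h₀
  have c1 := card_eq_sq hx1 _ e1 h₁
  have hc : Nat.card (Subring.closure {x * x}) = Nat.card (Subring.closure {(1 + x) * (1 + x)}) := by
    rw [c0] at c1
    exact Nat.mul_self_inj.1 c1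
  have hL := eq_of_card_eq _ _ hc
  have h3 : (1 + x) * (1 + x) ∈ Subring.closure {x * x} := by
    rw [hL]; exact e1
  obtain ⟨c, hc, h2c⟩ := exists_inv (Subring.closure {x * x})
    (Subring.add_mem _ (Subring.one_mem _) (Subring.one_mem _) : (1 : S) + 1 ∈ Subring.closure {x * x})
    (by rw [one_add_one_eq_two]; exact h2)
  apply h₀
  have h4 : x = ((1 + x) * (1 + x) - 1 - x * x) * c := by linear_combination (-x) * h2c
  have h5 : ((1 + x) * (1 + x) - 1 - x * x) * c ∈ Subring.closure {x * x} :=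
    Subring.mul_mem _ (Subring.sub_mem _ (Subring.sub_mem _ h3 (Subring.one_mem _)) e0) hc
  rwa [← h4] at h5

end comm

theorem not_both' {S : Type*} [Ring S] [IsDomain S] [Finite S] (hcomm : ∀ a b : S, a * b = b * a)
    (h2 : (2 : S) ≠ 0) {x : S} (hx : Subring.closure {x} = ⊤)
    (h₀ : x ∉ Subring.closure {x * x}) (h₁ : 1 + x ∉ Subring.closure {(1 + x) * (1 + x)}) : False := by
  let _ : CommRing S := { (inferInstance : Ring S) with mul_comm := hcomm }
  exact not_both h2 hx h₀ h₁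

/-! ### The Jordan algebra -/

variable {R : Type*} [Ring R]

/-- A special Jordan division algebra. -/
structure JD (Φ : AddSubgroup R) : Prop where
  one : (1 : R) ∈ Φ
  quad : ∀ x ∈ Φ, ∀ y ∈ Φ, x * y * x ∈ Φ
  unit : ∀ x ∈ Φ, x ≠ 0 → IsUnit x
  two : (2 : R) ≠ 0

variable {Φ : AddSubgroup R}

theorem JD.pow_mem (h : JD Φ) {x : R} (hx : x ∈ Φ) (n : ℕ) : x ^ n ∈ Φ := by
  induction n using Nat.strong_induction_on with
  | _ n ih =>
    match n with
    | 0 => rw [pow_zero]; exact h.one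
    | 1 => rwa [pow_one]
    | n + 2 =>
      have e : x ^ (n + 2) = x * x ^ n * x := by
        rw [pow_add, pow_two, ← mul_assoc, ← pow_succ, pow_succ']
      rw [e]
      exact h.quad x hx _ (ih n (by omega))

theorem JD.closure_le (h : JD Φ) {x : R} (hx : x ∈ Φ) {y : R} (hy : y ∈ Subring.closure {x}) : y ∈ Φ := by
  rw [Subring.mem_closure_iff] at hy
  have h1 : AddSubgroup.closure ((Submonoid.closure {x} : Submonoid R) : Set R) ≤ Φ := by
    rw [AddSubgroup.closure_le]
    intro z hz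
    obtain ⟨n, rfl⟩ := Submonoid.mem_closure_singleton.1 hz
    exact h.pow_mem hx n
  exact h1 hy

theorem JD.ne_zero_one (h : JD Φ) : (1 : R) ≠ 0 := by
  intro h1
  apply h.two
  rw [← one_add_one_eq_two, h1, add_zero]

/-- the closure of one element is a commutative domain -/
theorem JD.not_both (h : JD Φ) [Finite Φ] {x : R} (hx : x ∈ Φ)
    (h₀ : x ∉ Subring.closure {x * x}) (h₁ : 1 + x ∉ Subring.closure {(1 + x) * (1 + x)}) : False := by
  let T := Subring.closure {x}
  have hcomm : ∀ a b : T, a * b = b * a := by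
    have h1 := Subring.isMulCommutative_closure (s := {x}) (by
      rintro a ha b hb
      rw [Set.mem_singleton_iff] at ha hb
      rw [ha, hb])
    exact h1.is_comm.comm
  have hfin : Finite T := by
    refine Finite.of_injective (fun t : T => (⟨t.1, h.closure_le hx t.2⟩ : Φ)) ?_
    intro a b hab
    exact Subtype.ext (congrArg (fun z : Φ => (z : R)) hab)
  have hnt : Nontrivial T := ⟨⟨1, 0, fun h1 => h.ne_zero_one (congrArg Subtype.val h1)⟩⟩
  have hnz : NoZeroDivisors T := by
    refine ⟨fun {a b} hab => ?_⟩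
    by_contra hcon
    push Not at hcon
    obtain ⟨ha, hb⟩ := hcon
    have ha' : (a : R) ≠ 0 := fun h1 => ha (Subtype.ext h1)
    have hu := h.unit _ (h.closure_le hx a.2) ha'
    apply hb
    apply Subtype.ext
    have h1 : (a : R) * (b : R) = 0 := congrArg Subtype.val hab
    exact (hu.mul_right_eq_zero).1 h1
  have hdom : IsDomain T := NoZeroDivisors.to_isDomain T
  have hxT : x ∈ T := Subring.subset_closure (Set.mem_singleton x)
  set x' : T := ⟨x, hxT⟩ with hx'
  have hcl : Subring.closure {x'} = ⊤ := by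
    have e : (Subring.closure {x'}).map T.subtype = T := by
      rw [RingHom.map_closure, Set.image_singleton]
      rfl
    rw [eq_top_iff]
    rintro ⟨y, hy⟩ -
    rw [← e] at hy
    obtain ⟨w, hw, rfl⟩ := hy
    exact hw
  have hmap : ∀ y : T, ∀ z : T, z ∈ Subring.closure {y} ↔ (z : R) ∈ Subring.closure {(y : R)} := by
    intro y z
    have e : (Subring.closure {y}).map T.subtype = Subring.closure {(y : R)} := by
      rw [RingHom.map_closure, Set.image_singleton]
      rfl
    rw [← e]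
    constructor
    · intro hz
      exact ⟨z, hz, rfl⟩
    · rintro ⟨w, hw, hwz⟩
      have : w = z := Subtype.ext hwz
      rwa [← this]
  refine ZjSq.not_both' (x := x') hcomm ?_ hcl ?_ ?_
  · intro h2
    apply h.two
    have := congrArg Subtype.val h2
    exact this
  · intro hc
    have h3 := (hmap (x' * x') x').1 hc
    rw [Subring.coe_mul] at h3
    exact h₀ h3
  · intro hc
    have h3 := (hmap ((1 + x') * (1 + x')) (1 + x')).1 hc
    rw [Subring.coe_mul, Subring.coe_add, Subring.coe_one] at h3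
    exact h₁ h3

/-- elements with the same square as a good element -/
theorem JD.eq_or_eq_neg (h : JD Φ) {x y : R} (hx : x ∈ Φ) (hy : y ∈ Φ) (hxx : x ∈ Subring.closure {x * x})
    (he : y * y = x * x) : y = x ∨ y = -x := by
  have hcomm : y * x = x * y := by
    have h1 : x * x ∈ Subring.centralizer {y} := by
      rw [Subring.mem_centralizer_iff]
      intro z hz
      rw [Set.mem_singleton_iff.1 hz, ← he, mul_assoc]
    have h2 : Subring.closure {x * x} ≤ Subring.centralizer {y} := by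
      rw [Subring.closure_le, Set.singleton_subset_iff]
      exact h1
    have h3 := h2 hxx
    rw [Subring.mem_centralizer_iff] at h3
    exact h3 y (Set.mem_singleton y)
  have h4 : (y - x) * (y + x) = 0 := by
    rw [sub_mul, mul_add, mul_add, he, hcomm]
    abel
  by_cases h5 : y - x = 0
  · exact Or.inl (sub_eq_zero.1 h5)
  · have hu := h.unit _ (Φ.sub_mem hy hx) h5
    exact Or.inr (eq_neg_of_add_eq_zero_left (hu.mul_right_eq_zero.1 h4))

/-- **at least a quarter of the nonzero elements are squares** -/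
theorem JD.card_le (h : JD Φ) [Finite Φ] :
    {x : R | x ∈ Φ ∧ x ≠ 0}.ncard ≤ 4 * {y : R | ∃ x ∈ Φ, x ≠ 0 ∧ x * x = y}.ncard := by
  classical
  have hfin : {x : R | x ∈ Φ ∧ x ≠ 0}.Finite := (Set.toFinite (Φ : Set R)).subset fun x hx => hx.1
  set F := hfin.toFinset with hF
  have hmem : ∀ x, x ∈ F ↔ x ∈ Φ ∧ x ≠ 0 := fun x => by rw [hF, Set.Finite.mem_toFinset]; rfl
  have h1 : {x : R | x ∈ Φ ∧ x ≠ 0}.ncard = F.card := by
    rw [Set.ncard_eq_toFinset_card _ hfin]
  have h2 : {y : R | ∃ x ∈ Φ, x ≠ 0 ∧ x * x = y} = ((F.image fun x => x * x : Finset R) : Set R) := by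
    ext y
    rw [Finset.mem_coe, Finset.mem_image]
    constructor
    · rintro ⟨x, hx, hx0, he⟩
      exact ⟨x, (hmem x).2 ⟨hx, hx0⟩, he⟩
    · rintro ⟨x, hx, he⟩
      exact ⟨x, ((hmem x).1 hx).1, ((hmem x).1 hx).2, he⟩
  rw [h1, h2, Set.ncard_coe_finset]
  set Gd := F.filter (fun x => x ∈ Subring.closure {x * x}) with hGd
  set Bd := F.filter (fun x => ¬ x ∈ Subring.closure {x * x}) with hBd
  have h3 : Gd.card + Bd.card = F.card := Finset.card_filter_add_card_filter_not _
  have h4 : Bd.card ≤ Gd.card := by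
    refine Finset.card_le_card_of_injOn (fun x => 1 + x) ?_ ?_
    · intro x hx
      rw [Finset.mem_coe, hBd, Finset.mem_filter, hmem] at hx
      obtain ⟨⟨hxΦ, hx0⟩, hxb⟩ := hx
      rw [Finset.mem_coe, hGd, Finset.mem_filter, hmem]
      refine ⟨⟨Φ.add_mem h.one hxΦ, ?_⟩, ?_⟩
      · intro h0
        apply hxb
        have e : x = -1 := by
          rw [eq_neg_iff_add_eq_zero, add_comm]; exact h0
        rw [e]
        exact Subring.neg_mem _ (Subring.one_mem _)
      · by_contra hcon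
        exact h.not_both hxΦ hxb hcon
    · intro x _ y _ hxy
      exact add_left_cancel hxy
  have h5 : Gd.card ≤ 2 * (Gd.image fun x => x * x).card := by
    refine Finset.card_le_mul_card_image _ 2 ?_
    intro b hb
    obtain ⟨x, hx, rfl⟩ := Finset.mem_image.1 hb
    rw [hGd, Finset.mem_filter, hmem] at hx
    refine (Finset.card_le_card (t := {x, -x}) ?_).trans (Finset.card_le_two)
    intro y hy
    rw [Finset.mem_filter, hGd, Finset.mem_filter, hmem] at hy
    rw [Finset.mem_insert, Finset.mem_singleton]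
    exact h.eq_or_eq_neg hx.1.1 hy.1.1.1 hx.2 hy.2
  have h6 : (Gd.image fun x => x * x).card ≤ (F.image fun x => x * x).card :=
    Finset.card_le_card (Finset.image_subset_image (Finset.filter_subset _ _))
  omega

/-! ### The corner version -/

/-- the inclusion of a corner ring -/
def cornerVal {e : R} (he : IsIdempotentElem e) : he.Corner →+ R where
  toFun := Subtype.val
  map_zero' := rfl
  map_add' _ _ := rfl

theorem cornerVal_injective {e : R} (he : IsIdempotentElem e) : Function.Injective (cornerVal he) :=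
  Subtype.val_injective

theorem cornerVal_mul {e : R} (he : IsIdempotentElem e) (x y : he.Corner) :
    cornerVal he (x * y) = cornerVal he x * cornerVal he y := rfl

theorem cornerVal_one {e : R} (he : IsIdempotentElem e) : cornerVal he 1 = e := rfl

/-- the statement for a Jordan division algebra with unit an idempotent `e` of the ring -/
theorem card_le_corner [Finite Φ] {e : R} (he : e ∈ Φ) (hl : ∀ x ∈ Φ, e * x = x) (hr : ∀ x ∈ Φ, x * e = x)
    (quad : ∀ x ∈ Φ, ∀ y ∈ Φ, x * y * x ∈ Φ)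
    (inv : ∀ x ∈ Φ, x ≠ 0 → ∃ y, e * y = y ∧ y * e = y ∧ x * y = e ∧ y * x = e) (h2 : e + e ≠ 0) :
    {x : R | x ∈ Φ ∧ x ≠ 0}.ncard ≤ 4 * {y : R | ∃ x ∈ Φ, x ≠ 0 ∧ x * x = y}.ncard := by
  have hid : IsIdempotentElem e := hl e he
  set ι := cornerVal hid with hι
  have hinj : Function.Injective ι := cornerVal_injective hid
  have hmul : ∀ x y, ι (x * y) = ι x * ι y := cornerVal_mul hid
  have hone : ι 1 = e := cornerVal_one hid
  have hsur : ∀ y : R, e * y = y → y * e = y → ∃ x, ι x = y := by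
    intro y h1 h2
    exact ⟨⟨y, (Subsemigroup.mem_corner_iff hid).2 ⟨h1, h2⟩⟩, rfl⟩
  have hfin : Finite (Φ.comap ι) := by
    refine Finite.of_injective (fun t : Φ.comap ι => (⟨ι t.1, t.2⟩ : Φ)) ?_
    intro a b hab
    exact Subtype.ext (hinj (congrArg (fun z : Φ => (z : R)) hab))
  have hJ : JD (Φ.comap ι) := by
    refine ⟨?_, ?_, ?_, ?_⟩
    · rw [AddSubgroup.mem_comap, hone]; exact he
    · intro x hx y hy
      rw [AddSubgroup.mem_comap, hmul, hmul]
      exact quad _ hx _ hy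
    · intro x hx hx0
      obtain ⟨y, h1, h2, h3, h4⟩ := inv (ι x) hx (fun h => hx0 (hinj (by rw [h, map_zero])))
      obtain ⟨z, rfl⟩ := hsur y h1 h2
      refine ⟨⟨x, z, ?_, ?_⟩, rfl⟩
      · apply hinj; rw [hmul, h3, hone]
      · apply hinj; rw [hmul, h4, hone]
    · intro h
      apply h2
      have h3 := congrArg ι h
      rw [← one_add_one_eq_two, map_add, map_zero, hone] at h3
      exact h3
  have h := hJ.card_le
  have e1 : {x : R | x ∈ Φ ∧ x ≠ 0} = ι '' {x | x ∈ Φ.comap ι ∧ x ≠ 0} := by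
    ext x
    constructor
    · rintro ⟨hx, hx0⟩
      obtain ⟨z, rfl⟩ := hsur x (hl x hx) (hr x hx)
      exact ⟨z, ⟨hx, fun h => hx0 (by rw [h, map_zero])⟩, rfl⟩
    · rintro ⟨z, ⟨hz, hz0⟩, rfl⟩
      exact ⟨hz, fun h => hz0 (hinj (by rw [h, map_zero]))⟩
  have e2 : {y : R | ∃ x ∈ Φ, x ≠ 0 ∧ x * x = y} = ι '' {y | ∃ x ∈ Φ.comap ι, x ≠ 0 ∧ x * x = y} := by
    ext y
    constructor
    · rintro ⟨x, hx, hx0, rfl⟩
      obtain ⟨z, rfl⟩ := hsur x (hl x hx) (hr x hx)
      exact ⟨z * z, ⟨z, hx, fun h => hx0 (by rw [h, map_zero]), rfl⟩, hmul z z⟩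
    · rintro ⟨_, ⟨z, hz, hz0, rfl⟩, rfl⟩
      exact ⟨ι z, hz, fun h => hz0 (hinj (by rw [h, map_zero])), (hmul z z).symm⟩
  rw [e1, e2, Set.ncard_image_of_injective _ hinj, Set.ncard_image_of_injective _ hinj]
  exact h

end Cfsg.Agent.H220.ZjSq
end

-- part: H220/ZjFix
section
/-!
Coprime operators on a linear group with quadratic elements (S3260): operators fixing a root group fix an opposite
root group (`exists_fixed_opposite`), and operators of order prime to `6` fixing a root group and an opposite one fix a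
nontrivial element of the root group (`exists_fixed_vector`).
-/

set_option autoImplicit false

namespace Cfsg.Agent.H220.Zj

open Cfsg Cfsg.Agent.H740 Cfsg.Agent.H742 Cfsg.Agent.H731

variable {k : Type*} [Field k] {M : Type*} [AddCommGroup M] [Module k M]
variable {G : Subgroup (LinearMap.GeneralLinearGroup k M)}

/-! ### Conjugacy of opposites -/

theorem tau_congr' {s s' t t' : M →ₗ[k] M} (h : _root_.Cfsg.Agent.H742.Inv s t) (h' : _root_.Cfsg.Agent.H742.Inv s' t') (hs : s = s') (ht : t = t') (c : k)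
    (hc : c ≠ 0) : tau h c hc = tau h' c hc := by subst hs; subst ht; rfl

theorem tau_pow_mul {s t : M →ₗ[k] M} (h : _root_.Cfsg.Agent.H742.Inv s t) (c : k) (hc : c ≠ 0) (n : ℕ) :
    (((tau h c hc) ^ n : LinearMap.GeneralLinearGroup k M) : M →ₗ[k] M) * s = (c ^ n) • s := by
  induction n with
  | zero => rw [pow_zero, pow_zero, Units.val_one, one_mul, one_smul]
  | succ n ih => rw [pow_succ, Units.val_mul, mul_assoc, tau_mul_s, mul_smul_comm, ih, smul_smul, pow_succ, mul_comm c]

theorem tau_pow_eq_one_iff {s t : M →ₗ[k] M} (h : _root_.Cfsg.Agent.H742.Inv s t) (hs : s ≠ 0) (c : k) (hc : c ≠ 0) (n : ℕ) :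
    (tau h c hc) ^ n = 1 ↔ c ^ n = 1 := by
  constructor
  · intro h1
    have h2 := tau_pow_mul h c hc n
    rw [h1, Units.val_one, one_mul] at h2
    have h3 : (c ^ n - 1) • s = 0 := by rw [sub_smul, one_smul, ← h2, sub_self]
    exact sub_eq_zero.1 ((smul_eq_zero.1 h3).resolve_right hs)
  · exact tau_pow h c hc n

theorem mem_normalizer_of_conj {H : Type*} [Group H] {K : Subgroup H} {g : H} (h1 : ∀ x ∈ K, g * x * g⁻¹ ∈ K)
    (h2 : ∀ x ∈ K, g⁻¹ * x * g ∈ K) : g ∈ Subgroup.normalizer (K : Set H) := by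
  rw [Subgroup.mem_normalizer_iff]
  intro x
  refine ⟨h1 x, fun hx => ?_⟩
  have h3 := h2 _ hx
  have e : g⁻¹ * (g * x * g⁻¹) * g = x := by group
  rwa [e] at h3

theorem Same_conj_inv {s : M →ₗ[k] M} {g : LinearMap.GeneralLinearGroup k M} (h : Same (conjL g s) s) :
    Same (conjL g⁻¹ s) s := by
  have h1 := Same_conj h g⁻¹
  rw [conjL_inv_conjL] at h1
  exact h1.symm

theorem mem_normalizer_UG {s : M →ₗ[k] M} {hs : s * s = 0} {g : LinearMap.GeneralLinearGroup k M}
    (hg : g ∈ Subgroup.normalizer (G : Set (LinearMap.GeneralLinearGroup k M))) (hS : Same (conjL g s) s) :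
    g ∈ Subgroup.normalizer (UG G s hs : Set (LinearMap.GeneralLinearGroup k M)) := by
  refine mem_normalizer_of_conj ?_ ?_
  · intro x hx
    exact conj_mem_UG (fun y hy => (Subgroup.mem_normalizer_iff.1 hg y).1 hy) hS hx
  · intro x hx
    have h1 := conj_mem_UG (g := g⁻¹) (fun y hy => (Subgroup.mem_normalizer_iff.1 (Subgroup.inv_mem _ hg) y).1 hy)
      (Same_conj_inv hS) hx
    rwa [inv_inv] at h1

section conj

variable {p : ℕ} [Fact p.Prime] [CharP k p]

theorem isPGroup_UG (hp : 3 ≤ p) {s : M →ₗ[k] M} {hs : s * s = 0} : IsPGroup p (UG G s hs) := by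
  rintro ⟨u, hu⟩
  refine ⟨1, Subtype.ext ?_⟩
  rw [pow_one, SubgroupClass.coe_pow]
  exact pow_of_mem_UG hp hu

theorem exists_conj_UG [Finite (LinearMap.GeneralLinearGroup k M)] [Finite k] (hp : 5 ≤ p) {s t t' : M →ₗ[k] M}
    (h : _root_.Cfsg.Agent.H742.Inv s t) (h' : _root_.Cfsg.Agent.H742.Inv s t') (hs0 : s ≠ 0) (hs : QIn G s) (ht : QIn G t) (ht' : QIn G t') :
    ∃ u ∈ UG G s h.ss, conjL u t = t' := by
  classical
  have hp3 : 3 ≤ p := by omega
  -- the scalar
  obtain ⟨c, hc, hc2⟩ : ∃ c : k, c ≠ 0 ∧ c ^ 2 ≠ 1 := by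
    refine exists_sq_ne_one ?_ ?_
    · rw [ringChar.eq k p]
      omega
    · intro h3
      let _ : Fintype k := Fintype.ofFinite k
      obtain ⟨n, hpp, hn⟩ := FiniteField.card k p
      rw [← Nat.card_eq_fintype_card, h3] at hn
      have h4 : p ∣ 3 := by rw [hn]; exact dvd_pow_self p n.ne_zero
      have := Nat.le_of_dvd (by norm_num) h4
      omega
  have hc1 : c ≠ 1 := fun h1 => hc2 (by rw [h1, one_pow])
  have hc2' : c * c ≠ 1 := by rwa [pow_two] at hc2
  have hcard : (orderOf c).Coprime p := by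
    let _ : Fintype k := Fintype.ofFinite k
    have h1 : c ^ (Fintype.card k - 1) = 1 := FiniteField.pow_card_sub_one_eq_one c hc
    have h2 := orderOf_dvd_of_pow_eq_one h1
    refine Nat.Coprime.coprime_dvd_left h2 ?_
    obtain ⟨n, hpp, hn⟩ := FiniteField.card k p
    rw [Nat.coprime_comm, Nat.Prime.coprime_iff_not_dvd Fact.out]
    intro h3
    have h4 : p ∣ Fintype.card k := by rw [hn]; exact dvd_pow_self p n.ne_zero
    have h5 : 1 ≤ Fintype.card k := Fintype.card_pos
    have h6 : p ∣ 1 := by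
      have := (Nat.dvd_sub h4 h3)
      rwa [Nat.sub_sub_self h5] at this
    exact (Fact.out : p.Prime).one_lt.ne' (Nat.dvd_one.1 h6)
  set τ := tau h c hc with hτ
  set τ' := tau h' c hc with hτ'
  have hord : orderOf τ = orderOf c := by
    rw [orderOf_eq_orderOf_iff]
    exact tau_pow_eq_one_iff h hs0 c hc
  have hord' : orderOf τ' = orderOf c := by
    rw [orderOf_eq_orderOf_iff]
    exact tau_pow_eq_one_iff h' hs0 c hc
  have hU : IsPGroup p (UG G s h.ss) := isPGroup_UG hp3
  obtain ⟨m, hm⟩ := IsPGroup.iff_card.1 hU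
  have hτG : τ ∈ G := tau_mem h hs ht c hc
  have hnorm : Subgroup.zpowers τ ≤ Subgroup.normalizer (UG G s h.ss : Set (LinearMap.GeneralLinearGroup k M)) := by
    rw [Subgroup.zpowers_le]
    exact mem_normalizer_UG (Subgroup.le_normalizer hτG) (same_conj_tau h c hc)
  have hcop : (Nat.card (Subgroup.zpowers τ)).Coprime (Nat.card (UG G s h.ss)) := by
    rw [Nat.card_zpowers, hord, hm]
    exact Nat.Coprime.pow_right m hcard
  have hq : τ' * τ⁻¹ ∈ UG G s h.ss := tau_mul_inv_mem h h' hs ht ht' c hc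
  have hB : Subgroup.zpowers τ' ≤ Subgroup.zpowers τ ⊔ UG G s h.ss := by
    rw [Subgroup.zpowers_le]
    have e : τ' = (τ' * τ⁻¹) * τ := by group
    rw [e]
    exact Subgroup.mul_mem _ (Subgroup.mem_sup_right hq) (Subgroup.mem_sup_left (Subgroup.mem_zpowers τ))
  have hUn := hU.isNilpotent
  obtain ⟨u, hu, hconj⟩ := Solvable.Glauberman.exists_conj_of_le_sup (Subgroup.zpowers τ) (UG G s h.ss) hnorm hcop
    (Or.inr inferInstance) (Subgroup.zpowers τ') hB (by rw [Nat.card_zpowers, Nat.card_zpowers, hord, hord'])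
  have h1 : u * τ * u⁻¹ ∈ Subgroup.zpowers τ' := by
    rw [← hconj]
    exact Subgroup.smul_mem_pointwise_smul _ (MulAut.conj u) _ (Subgroup.mem_zpowers τ)
  have h2 : u * τ * u⁻¹ * τ'⁻¹ ∈ UG G s h.ss := by
    have e : u * τ * u⁻¹ * τ'⁻¹ = u * (τ * u⁻¹ * τ⁻¹) * (τ' * τ⁻¹)⁻¹ := by group
    rw [e]
    refine Subgroup.mul_mem _ (Subgroup.mul_mem _ hu ?_) (Subgroup.inv_mem _ hq)
    exact (Subgroup.mem_normalizer_iff.1 (hnorm (Subgroup.mem_zpowers τ)) _).1 (Subgroup.inv_mem _ hu)
  have h3 : u * τ * u⁻¹ * τ'⁻¹ ∈ Subgroup.zpowers τ' :=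
    Subgroup.mul_mem _ h1 (Subgroup.inv_mem _ (Subgroup.mem_zpowers τ'))
  have h4 : u * τ * u⁻¹ * τ'⁻¹ = 1 := by
    rw [← orderOf_eq_one_iff]
    have h5 : orderOf (u * τ * u⁻¹ * τ'⁻¹) ∣ orderOf c := by
      rw [← hord', ← Nat.card_zpowers τ']
      exact Subgroup.orderOf_dvd_natCard _ h3
    have h6 : orderOf (u * τ * u⁻¹ * τ'⁻¹) ∣ p := orderOf_dvd_of_pow_eq_one (pow_of_mem_UG hp3 h2)
    exact Nat.eq_one_of_dvd_coprimes hcard h5 h6
  have h5 : u * τ * u⁻¹ = τ' := mul_inv_eq_one.1 h4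
  refine ⟨u, hu, ?_⟩
  have h6 : _root_.Cfsg.Agent.H742.Inv s (conjL u t) := by
    have := Inv_conj h u
    rwa [conjL_of_mem_UG hu] at this
  refine eq_of_tau_eq h6 h' c hc hc1 hc2' ?_
  rw [← hτ', ← h5, hτ, conj_tau]
  exact tau_congr' _ _ (conjL_of_mem_UG hu).symm rfl c hc

/-- the action on pairs of subspaces -/
@[reducible] def pairAct : MulAction (LinearMap.GeneralLinearGroup k M) (Submodule k M × Submodule k M) where
  smul g x := (x.1.map (g : M →ₗ[k] M), x.2.map (g : M →ₗ[k] M))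
  one_smul x := by
    refine Prod.ext ?_ ?_
    · exact Submodule.map_id x.1
    · exact Submodule.map_id x.2
  mul_smul g h x := by
    refine Prod.ext ?_ ?_
    · exact Submodule.map_comp _ _ x.1
    · exact Submodule.map_comp _ _ x.2

theorem exists_fixed_opposite [FiniteDimensional k M] [Finite (LinearMap.GeneralLinearGroup k M)] [Finite k]
    (hp : 5 ≤ p) (hC : Core G) {s r : M →ₗ[k] M} (hs : IsMin G s) (hr : IsMin G r) (hn : ¬ IsNilpotent (s * r))
    (B : Subgroup (LinearMap.GeneralLinearGroup k M))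
    (hBG : B ≤ Subgroup.normalizer (G : Set (LinearMap.GeneralLinearGroup k M)))
    (hcop : (Nat.card B).Coprime (Nat.card G)) (hsB : ∀ b ∈ B, Same (conjL b s) s) :
    ∃ t, IsMin G t ∧ _root_.Cfsg.Agent.H742.Inv s t ∧ ∀ b ∈ B, Same (conjL b t) t := by
  obtain ⟨t, ht, -, h⟩ := hC.inv hs hr hn
  let _ := pairAct (k := k) (M := M)
  have hU : IsPGroup p (UG G s h.ss) := isPGroup_UG (by omega)
  have hUn := hU.isNilpotent
  have hnorm : B ≤ Subgroup.normalizer (UG G s h.ss : Set (LinearMap.GeneralLinearGroup k M)) :=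
    fun b hb => mem_normalizer_UG (hBG hb) (hsB b hb)
  have hcop' : (Nat.card B).Coprime (Nat.card (UG G s h.ss)) :=
    Nat.Coprime.coprime_dvd_right (Subgroup.card_dvd_of_le inf_le_left) hcop
  have hsmul : ∀ (g : LinearMap.GeneralLinearGroup k M) (x : M →ₗ[k] M),
      g • ((LinearMap.ker x, LinearMap.range x) : Submodule k M × Submodule k M) =
        (LinearMap.ker (conjL g x), LinearMap.range (conjL g x)) := by
    intro g x
    rw [ker_conjL, range_conjL]
    rfl
  obtain ⟨u, hu, hfix⟩ := Solvable.Glauberman.exists_smul_fixed B (UG G s h.ss) hnorm hcop' (Or.inr inferInstance)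
    (X := Submodule k M × Submodule k M) (LinearMap.ker t, LinearMap.range t) (by
    intro b hb
    have hbG : ∀ x ∈ G, b * x * b⁻¹ ∈ G := fun x hx => (Subgroup.mem_normalizer_iff.1 (hBG hb) x).1 hx
    have htb := IsMin_conj ht hbG
    have hsb := IsMin_conj hs hbG
    have hn' : ¬ IsNilpotent (s * conjL b t) := by
      rw [hC.not_isNilpotent_congr hs htb hsb htb (hsB b hb).symm (Same.refl _)]
      exact (Inv_conj h b).not_isNilpotent hsb.ne_zero
    obtain ⟨t', ht', hsame, h'⟩ := hC.inv hs htb hn'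
    obtain ⟨u, hu, hut⟩ := exists_conj_UG hp h h' hs.ne_zero hs.1 ht.1 ht'.1
    refine ⟨u, hu, ?_⟩
    rw [hsmul, hsmul, hut, hsame.1, hsame.2])
  refine ⟨conjL u t, IsMin_conj ht (fun x hx => G.mul_mem (G.mul_mem hu.1 hx) (G.inv_mem hu.1)), ?_, ?_⟩
  · have := Inv_conj h u
    rwa [conjL_of_mem_UG hu] at this
  · intro b hb
    have h1 := hfix b hb
    rw [hsmul, hsmul, Prod.mk.injEq] at h1
    exact ⟨h1.1, h1.2⟩

end conj

end Cfsg.Agent.H220.Zj
end

-- part: H220/ZjVec
section
/-!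
Operators fixing a root group and an opposite one fix a nontrivial element of the root group (S3260).
-/

set_option autoImplicit false

namespace Cfsg.Agent.H220.Zj

open Cfsg Cfsg.Agent.H740 Cfsg.Agent.H742 Cfsg.Agent.H731

/-! ### Large orbits of a normal subgroup of index prime to 6 -/

theorem relIndex_eq_ncard {Γ : Type*} [Group Γ] {X : Type*} [MulAction Γ X] (T : Subgroup Γ) (x : X) :
    (MulAction.stabilizer Γ x).relIndex T = {z | ∃ h ∈ T, h • x = z}.ncard := by
  have h3 : (MulAction.stabilizer T x).index = (MulAction.orbit T x).ncard := MulAction.index_stabilizer T x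
  have h4 : MulAction.stabilizer T x = (MulAction.stabilizer Γ x).subgroupOf T := by
    ext y
    rfl
  have h5 : MulAction.orbit T x = {z | ∃ h ∈ T, h • x = z} := by
    ext z
    constructor
    · rintro ⟨⟨h, hh⟩, rfl⟩
      exact ⟨h, hh, rfl⟩
    · rintro ⟨h, hh, rfl⟩
      exact ⟨⟨h, hh⟩, rfl⟩
  rw [h4, h5] at h3
  exact h3

theorem orbit_eq_of_index {Γ : Type*} [Group Γ] [Finite Γ] {X : Type*} [MulAction Γ X] (H : Subgroup Γ) [H.Normal]
    (hind : H.index.Coprime 6) (x : X) (Y : Set X) (hY : Y.Finite) (hYx : ∀ g : Γ, g • x ∈ Y)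
    (hcard : Y.ncard ≤ 4 * {z | ∃ h ∈ H, h • x = z}.ncard) (g : Γ) : ∃ h ∈ H, g • x = h • x := by
  classical
  set S := MulAction.stabilizer Γ x with hS
  set O := {z | ∃ h ∈ H, h • x = z} with hO
  have hsup : ∀ g : Γ, g ∈ H ⊔ S → ∃ h ∈ H, g • x = h • x := by
    intro g hg
    rw [← SetLike.mem_coe, Subgroup.normal_mul] at hg
    obtain ⟨h, hh, s, hs, rfl⟩ := Set.mem_mul.1 hg
    exact ⟨h, hh, by rw [mul_smul, MulAction.mem_stabilizer_iff.1 hs]⟩
  apply hsup
  -- the orbits of cosets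
  have hOfin : O.Finite := hY.subset (by rintro z ⟨h, -, rfl⟩; exact hYx h)
  have hOne : O.Nonempty := ⟨x, 1, H.one_mem, one_smul _ _⟩
  have hOpos : 0 < O.ncard := (Set.ncard_pos hOfin).2 hOne
  have h1 : S.index = (MulAction.orbit Γ x).ncard := MulAction.index_stabilizer Γ x
  have h2 : S.relIndex (H ⊔ S) = O.ncard := by
    rw [relIndex_eq_ncard]
    congr 1
    ext z
    constructor
    · rintro ⟨g, hg, rfl⟩
      obtain ⟨h, hh, he⟩ := hsup g hg
      exact ⟨h, hh, he.symm⟩
    · rintro ⟨h, hh, rfl⟩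
      exact ⟨h, Subgroup.mem_sup_left hh, rfl⟩
  have h3 : (MulAction.orbit Γ x).ncard ≤ Y.ncard := by
    refine Set.ncard_le_ncard ?_ hY
    rintro _ ⟨g, rfl⟩
    exact hYx g
  have h4 : S.relIndex (H ⊔ S) * (H ⊔ S).index = S.index := Subgroup.relIndex_mul_index le_sup_right
  rw [h2, h1] at h4
  have h5 : (H ⊔ S).index ≤ 4 := by
    have h6 : O.ncard * (H ⊔ S).index ≤ O.ncard * 4 := by rw [h4, mul_comm _ 4]; omega
    exact Nat.le_of_mul_le_mul_left h6 hOpos
  have h6 : (H ⊔ S).index ∣ H.index := Subgroup.index_dvd_of_le le_sup_left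
  have h7 : (H ⊔ S).index.Coprime 6 := Nat.Coprime.coprime_dvd_left h6 hind
  have h8 : (H ⊔ S).index ≠ 0 := Subgroup.index_ne_zero_of_finite
  have h9 : (H ⊔ S).index = 1 := by
    interval_cases h : (H ⊔ S).index
    · exact absurd rfl h8
    · rfl
    · exact absurd h7 (by decide)
    · exact absurd h7 (by decide)
    · exact absurd h7 (by decide)
  rw [Subgroup.index_eq_one.1 h9]
  exact Subgroup.mem_top g

/-- the version inside an ambient group -/
theorem orbit_eq_of_normalizes {Γ : Type*} [Group Γ] [Finite Γ] {X : Type*} [MulAction Γ X] (B H : Subgroup Γ)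
    (hB : B ≤ Subgroup.normalizer (H : Set Γ)) (h6 : (Nat.card B).Coprime 6) (x : X) (Y : Set X) (hY : Y.Finite)
    (hYx : ∀ g ∈ B ⊔ H, g • x ∈ Y) (hcard : Y.ncard ≤ 4 * {z | ∃ h ∈ H, h • x = z}.ncard) {b : Γ} (hb : b ∈ B) :
    ∃ h ∈ H, b • x = h • x := by
  set K := B ⊔ H with hK
  have hn : (H.subgroupOf K).Normal :=
    Subgroup.normal_subgroupOf_of_le_normalizer (sup_le hB Subgroup.le_normalizer)
  have hind : (H.subgroupOf K).index.Coprime 6 := by
    have e0 : H ⊔ B = K := sup_comm H B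
    have e1 : H.subgroupOf K ⊔ B.subgroupOf K = ⊤ := by
      rw [← Subgroup.subgroupOf_sup le_sup_right le_sup_left, e0, Subgroup.subgroupOf_self]
    have e2 : (H.subgroupOf K).relIndex (H.subgroupOf K ⊔ B.subgroupOf K) = (H.subgroupOf K).relIndex (B.subgroupOf K) :=
      Subgroup.relIndex_sup_left _ _
    rw [e1, Subgroup.relIndex_top_right] at e2
    rw [e2]
    refine Nat.Coprime.coprime_dvd_left (Subgroup.relIndex_dvd_card _ _) ?_
    rwa [Nat.card_congr (Subgroup.subgroupOfEquivOfLe (le_sup_left : B ≤ K)).toEquiv]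
  have h1 : {z | ∃ h ∈ H.subgroupOf K, h • x = z} = {z | ∃ h ∈ H, h • x = z} := by
    ext z
    constructor
    · rintro ⟨⟨h, hhK⟩, hh, rfl⟩
      exact ⟨h, hh, rfl⟩
    · rintro ⟨h, hh, rfl⟩
      exact ⟨⟨h, Subgroup.mem_sup_right hh⟩, hh, rfl⟩
  obtain ⟨⟨h, hhK⟩, hh, he⟩ := orbit_eq_of_index (H.subgroupOf K) hind x Y hY (fun g => hYx g g.2)
    (by rw [h1]; exact hcard) ⟨b, Subgroup.mem_sup_left hb⟩
  exact ⟨h, hh, he⟩

/-! ### Weyl elements -/

variable {k : Type*} [Field k] {M : Type*} [AddCommGroup M] [Module k M]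
variable {G : Subgroup (LinearMap.GeneralLinearGroup k M)}

theorem w_mem {s t : M →ₗ[k] M} (h : _root_.Cfsg.Agent.H742.Inv s t) (hs : QIn G s) (ht : QIn G t) : h.w ∈ G :=
  G.mul_mem (G.mul_mem hs.mem_one (G.inv_mem ht.mem_one)) hs.mem_one

theorem conj_w_right {y y' z : M →ₗ[k] M} (h : _root_.Cfsg.Agent.H742.Inv y y') (hk : LinearMap.ker y' ≤ LinearMap.ker z)
    (hr : LinearMap.range z ≤ LinearMap.range y') : conjL h.w z = -(y * z * y) := by
  have h1 : y' * z = 0 := mul_of_range_le_ker (hr.trans (range_le_ker_of_mul h.tt))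
  have h2 : y' * y * z = z := h.symm.st_mul hr
  have h3 : z * (y * y') = z := h.mul_st hk
  rw [conjL_eq_iff, h.coe_w]
  have e1 : (1 - (y * y' + y' * y) + y - y') * z = z - y * (y' * z) - y' * y * z + y * z - y' * z := by noncomm_ring
  have e2 : -(y * z * y) * (1 - (y * y' + y' * y) + y - y') =
      -(y * z * y) + y * z * (y * y) * y' + y * z * (y * y' * y) - y * z * (y * y) + y * (z * (y * y')) := by
    noncomm_ring
  rw [e1, e2, h1, h2, h3, h.ss, h.sts]
  simp

theorem conj_w_left {y y' z : M →ₗ[k] M} (h : _root_.Cfsg.Agent.H742.Inv y y') (hk : LinearMap.ker y ≤ LinearMap.ker z)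
    (hr : LinearMap.range z ≤ LinearMap.range y) : conjL h.w z = -(y' * z * y') := by
  have h1 : y * z = 0 := mul_of_range_le_ker (hr.trans (range_le_ker_of_mul h.ss))
  have h2 : y * y' * z = z := h.st_mul hr
  have h3 : z * (y' * y) = z := h.symm.mul_st hk
  rw [conjL_eq_iff, h.coe_w]
  have e1 : (1 - (y * y' + y' * y) + y - y') * z = z - y * y' * z - y' * (y * z) + y * z - y' * z := by noncomm_ring
  have e2 : -(y' * z * y') * (1 - (y * y' + y' * y) + y - y') =
      -(y' * z * y') + y' * z * (y' * y * y') + y' * z * (y' * y') * y - y' * (z * (y' * y)) + y' * z * (y' * y') := by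
    noncomm_ring
  rw [e1, e2, h1, h2, h3, h.tt, h.tst]
  simp

/-- the elements preserving kernel and range of `s` -/
def NS (s : M →ₗ[k] M) : Subgroup (LinearMap.GeneralLinearGroup k M) where
  carrier := {g | Same (conjL g s) s}
  one_mem' := by
    change Same (conjL 1 s) s
    rw [conjL_one_left]; exact Same.refl s
  mul_mem' := by
    intro a b ha hb
    change Same (conjL (a * b) s) s
    rw [conjL_mul]
    exact (Same_conj hb a).trans ha
  inv_mem' := fun ha => Same_conj_inv ha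

/-- linear maps with the conjugation action -/
def EX (k : Type*) [Field k] (M : Type*) [AddCommGroup M] [Module k M] := M →ₗ[k] M

/-- the conjugation action on linear maps -/
instance conjActEX : MulAction (LinearMap.GeneralLinearGroup k M) (EX k M) where
  smul g x := (conjL g (show M →ₗ[k] M from x) : M →ₗ[k] M)
  one_smul x := conjL_one_left (show M →ₗ[k] M from x)
  mul_smul g h x := conjL_mul g h (show M →ₗ[k] M from x)

theorem mem_cl_of_same {s x : M →ₗ[k] M} (hx : QIn G x) (h : Same x s) : x ∈ cl G s :=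
  ⟨hx, h.1.ge, h.2.le⟩

variable [FiniteDimensional k M]

/-- partners -/
theorem exists_inv_mem (hC : Core G) {s t : M →ₗ[k] M} (hs : IsMin G s) (ht : IsMin G t) (h : _root_.Cfsg.Agent.H742.Inv s t)
    {a : M →ₗ[k] M} (ha : a ∈ cl G s) (ha0 : a ≠ 0) : ∃ a' ∈ cl G t, a' ≠ 0 ∧ _root_.Cfsg.Agent.H742.Inv a a' := by
  have hamin := isMin_of_mem_cl hs ha ha0
  have hn : ¬ IsNilpotent (a * t) := by
    rw [hC.not_isNilpotent_congr hamin ht hs ht (same_of_mem_cl hs ha ha0) (Same.refl t)]
    exact h.not_isNilpotent hs.ne_zero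
  obtain ⟨a', ha', hsame, hi⟩ := hC.inv hamin ht hn
  exact ⟨a', mem_cl_of_same ha'.1 hsame, ha'.ne_zero, hi⟩

omit [FiniteDimensional k M] in
theorem sandwich_mem {s t : M →ₗ[k] M} {a a' : M →ₗ[k] M}
    (ha : a ∈ cl G s) (ha' : a' ∈ cl G t) (hi : _root_.Cfsg.Agent.H742.Inv a a') {z : M →ₗ[k] M} (hz : z ∈ cl G t)
    (hk : LinearMap.ker a' ≤ LinearMap.ker t) (hr : LinearMap.range t ≤ LinearMap.range a') : a * z * a ∈ cl G s := by
  have h1 := conj_w_right hi (hk.trans hz.2.1) (hz.2.2.trans hr)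
  have h2 : QIn G (a * z * a) := by
    have h3 := hz.1.conj (w_mem hi ha.1 ha'.1)
    rw [← conjL_apply, h1] at h3
    have := h3.neg
    rwa [neg_neg] at this
  refine ⟨h2, ?_, ?_⟩
  · intro m hm
    have h3 := ha.2.1 hm
    rw [LinearMap.mem_ker] at h3 ⊢
    rw [Module.End.mul_apply, h3, map_zero]
  · rintro _ ⟨m, rfl⟩
    exact ha.2.2 ⟨z (a m), rfl⟩

theorem exists_fixed_vector [Finite M] [Finite (LinearMap.GeneralLinearGroup k M)] (hC : Core G) (h2k : (2 : k) ≠ 0)
    {s t : M →ₗ[k] M} (hs : IsMin G s) (ht : IsMin G t) (h : _root_.Cfsg.Agent.H742.Inv s t)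
    (B : Subgroup (LinearMap.GeneralLinearGroup k M))
    (hBG : B ≤ Subgroup.normalizer (G : Set (LinearMap.GeneralLinearGroup k M)))
    (hcop : (Nat.card B).Coprime (Nat.card G)) (h6 : (Nat.card B).Coprime 6) (hsol : Group.IsSolvable B)
    (hsB : ∀ b ∈ B, Same (conjL b s) s) (htB : ∀ b ∈ B, Same (conjL b t) t) :
    ∃ s₀, s₀ ≠ 0 ∧ s₀ ∈ cl G s ∧ ∀ b ∈ B, conjL b s₀ = s₀ := by
  classical
  have hfinE : Finite (M →ₗ[k] M) := Finite.of_injective _ DFunLike.coe_injective
  set H : Subgroup (LinearMap.GeneralLinearGroup k M) := G ⊓ NS s ⊓ NS t with hH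
  have hBH : B ≤ Subgroup.normalizer (H : Set (LinearMap.GeneralLinearGroup k M)) := by
    intro b hb
    have key : ∀ b ∈ B, ∀ x ∈ H, b * x * b⁻¹ ∈ H := by
      intro b hb x hx
      refine ⟨⟨(Subgroup.mem_normalizer_iff.1 (hBG hb) x).1 hx.1.1, ?_⟩, ?_⟩
      · exact (NS s).mul_mem ((NS s).mul_mem (hsB b hb) hx.1.2) ((NS s).inv_mem (hsB b hb))
      · exact (NS t).mul_mem ((NS t).mul_mem (htB b hb) hx.2) ((NS t).inv_mem (htB b hb))
    refine mem_normalizer_of_conj (key b hb) ?_
    intro x hx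
    have := key b⁻¹ (B.inv_mem hb) x hx
    rwa [inv_inv] at this
  -- the Jordan algebra
  set f : (M →ₗ[k] M) →+ (M →ₗ[k] M) := AddMonoidHom.mulRight t with hf
  set Φ : AddSubgroup (M →ₗ[k] M) := (clS G s hs.sq).toAddSubgroup.map f with hΦ
  have hΦm : ∀ x, x ∈ Φ ↔ ∃ a ∈ cl G s, a * t = x := fun x => Iff.rfl
  have hat : ∀ a ∈ cl G s, a * (t * s) = a := fun a ha => h.symm.mul_st ha.2.1
  have hsta : ∀ a ∈ cl G s, s * t * a = a := fun a ha => h.st_mul ha.2.2
  have hquad : ∀ a ∈ cl G s, ∀ b ∈ cl G s, a * (t * b * t) * a ∈ cl G s := by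
    intro a ha b hb
    by_cases ha0 : a = 0
    · rw [ha0, zero_mul, zero_mul]
      exact (clS G s hs.sq).zero_mem
    obtain ⟨a', ha', ha'0, hi⟩ := exists_inv_mem hC hs ht h ha ha0
    have hsame := same_of_mem_cl ht ha' ha'0
    have hz : t * b * t ∈ cl G t :=
      sandwich_mem (self_mem_cl ht.1) (self_mem_cl hs.1) h.symm hb le_rfl le_rfl
    exact sandwich_mem ha ha' hi hz hsame.1.le hsame.2.ge
  have hcount : {x : M →ₗ[k] M | x ∈ Φ ∧ x ≠ 0}.ncard ≤
      4 * {y : M →ₗ[k] M | ∃ x ∈ Φ, x ≠ 0 ∧ x * x = y}.ncard := by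
    refine ZjSq.card_le_corner (e := s * t) ⟨s, self_mem_cl hs.1, rfl⟩ ?_ ?_ ?_ ?_ ?_
    · rintro _ ⟨a, ha, rfl⟩
      change s * t * (a * t) = a * t
      rw [← mul_assoc, hsta a ha]
    · rintro _ ⟨a, ha, rfl⟩
      change a * t * (s * t) = a * t
      rw [mul_assoc, ← mul_assoc t s t, h.tst]
    · rintro _ ⟨a, ha, rfl⟩ _ ⟨b, hb, rfl⟩
      refine ⟨_, hquad a ha b hb, ?_⟩
      change a * (t * b * t) * a * t = a * t * (b * t) * (a * t)
      simp only [mul_assoc]
    · rintro _ ⟨a, ha, rfl⟩ hne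
      have ha0 : a ≠ 0 := by
        rintro rfl
        exact hne (map_zero f)
      obtain ⟨a', ha', ha'0, hi⟩ := exists_inv_mem hC hs ht h ha ha0
      have hsa := same_of_mem_cl hs ha ha0
      have hsa' := same_of_mem_cl ht ha' ha'0
      have e1 : a' * (s * t) = a' := h.mul_st ha'.2.1
      have e2 : s * t * (a * a') = a * a' := by rw [← mul_assoc, hsta a ha]
      have e3 : t * (a * a') = t := hi.mul_st hsa'.1.le
      have e4 : a * a' = s * t := by rw [← e2, mul_assoc, e3]
      have e5 : s * (a' * a) = s := hi.symm.mul_st hsa.1.le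
      refine ⟨s * a', ?_, ?_, ?_, ?_⟩
      · rw [← mul_assoc, h.sts]
      · rw [mul_assoc, e1]
      · change a * t * (s * a') = s * t
        rw [mul_assoc, ← mul_assoc t s a', ← mul_assoc a, hat a ha, e4]
      · change s * a' * (a * t) = s * t
        rw [mul_assoc, ← mul_assoc a' a t, ← mul_assoc s, e5]
    · intro h0
      have h1 : (s * t + s * t) * s = s + s := by rw [add_mul, h.sts]
      rw [h0, zero_mul] at h1
      have h3 : (2 : k) • s = 0 := by rw [two_smul]; exact h1.symm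
      exact hs.ne_zero ((smul_eq_zero.1 h3).resolve_left h2k)
  set Y : Set (M →ₗ[k] M) := {a | a ∈ cl G s ∧ a ≠ 0} with hY
  have hinj : Set.InjOn (fun a => a * t) (cl G s) := by
    intro a ha b hb hab
    have h1 : a * t * s = b * t * s := by
      change a * t = b * t at hab
      rw [hab]
    rw [mul_assoc, mul_assoc, hat a ha, hat b hb] at h1
    exact h1
  have hc1 : {x : M →ₗ[k] M | x ∈ Φ ∧ x ≠ 0}.ncard = Y.ncard := by
    have e : {x : M →ₗ[k] M | x ∈ Φ ∧ x ≠ 0} = (fun a => a * t) '' Y := by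
      ext x
      constructor
      · rintro ⟨⟨a, ha, rfl⟩, hne⟩
        refine ⟨a, ⟨ha, ?_⟩, rfl⟩
        rintro rfl
        exact hne (map_zero f)
      · rintro ⟨a, ⟨ha, ha0⟩, rfl⟩
        refine ⟨⟨a, ha, rfl⟩, ?_⟩
        intro h1
        apply ha0
        have h3 := hat a ha
        change a * t = 0 at h1
        rw [← mul_assoc, h1, zero_mul] at h3
        exact h3.symm
    rw [e]
    exact Set.InjOn.ncard_image (hinj.mono fun a ha => ha.1)
  set O : Set (M →ₗ[k] M) := {z | ∃ g ∈ H, conjL g s = z} with hO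
  have hc2 : {y : M →ₗ[k] M | ∃ x ∈ Φ, x ≠ 0 ∧ x * x = y}.ncard ≤ O.ncard := by
    have e : {y : M →ₗ[k] M | ∃ x ∈ Φ, x ≠ 0 ∧ x * x = y} ⊆ (fun a => a * t) '' O := by
      rintro _ ⟨_, ⟨a, ha, rfl⟩, hne, rfl⟩
      have ha0 : a ≠ 0 := by
        rintro rfl
        exact hne (map_zero f)
      obtain ⟨a', ha', ha'0, hi⟩ := exists_inv_mem hC hs ht h ha ha0
      have hsa := same_of_mem_cl hs ha ha0
      have hsa' := same_of_mem_cl ht ha' ha'0
      have hwa : hi.w ∈ G := w_mem hi ha.1 ha'.1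
      have hws : h.w ∈ G := w_mem h hs.1 ht.1
      -- the Weyl elements swap the two classes
      have swap : ∀ {b b' : M →ₗ[k] M} (hi : _root_.Cfsg.Agent.H742.Inv b b'), Same b s → Same b' t → hi.w ∈ G →
          Same (conjL hi.w s) t ∧ Same (conjL hi.w t) s := by
        intro b b' hi hb hb' hw
        have hwc : ∀ x ∈ G, hi.w * x * hi.w⁻¹ ∈ G := fun x hx => G.mul_mem (G.mul_mem hw hx) (G.inv_mem hw)
        have m1 := IsMin_conj hs hwc
        have m2 := IsMin_conj ht hwc
        have c1 := conj_w_left hi (z := s) hb.1.le hb.2.ge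
        have c2 := conj_w_right hi (z := t) hb'.1.le hb'.2.ge
        refine ⟨?_, ?_⟩
        · refine same_of_mem_cl ht ⟨m1.1, ?_, ?_⟩ m1.ne_zero
          · intro m hm
            rw [← hb'.1, LinearMap.mem_ker] at hm
            rw [c1, LinearMap.mem_ker, LinearMap.neg_apply, Module.End.mul_apply, hm, map_zero, neg_zero]
          · rintro _ ⟨m, rfl⟩
            rw [c1, ← hb'.2, LinearMap.neg_apply]
            exact Submodule.neg_mem _ ⟨s (b' m), rfl⟩
        · refine same_of_mem_cl hs ⟨m2.1, ?_, ?_⟩ m2.ne_zero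
          · intro m hm
            rw [← hb.1, LinearMap.mem_ker] at hm
            rw [c2, LinearMap.mem_ker, LinearMap.neg_apply, Module.End.mul_apply, hm, map_zero, neg_zero]
          · rintro _ ⟨m, rfl⟩
            rw [c2, ← hb.2, LinearMap.neg_apply]
            exact Submodule.neg_mem _ ⟨t (b m), rfl⟩
      obtain ⟨s1, s2⟩ := swap h (Same.refl s) (Same.refl t) hws
      obtain ⟨a1, a2⟩ := swap hi hsa hsa' hwa
      refine ⟨a * t * a, ⟨hi.w * h.w, ⟨⟨G.mul_mem hwa hws, ?_⟩, ?_⟩, ?_⟩, ?_⟩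
      · change Same (conjL _ s) s
        rw [conjL_mul]
        exact (Same_conj s1 _).trans a2
      · change Same (conjL _ t) t
        rw [conjL_mul]
        exact (Same_conj s2 _).trans a1
      · change conjL (hi.w * h.w) s = a * t * a
        rw [conjL_mul, conj_w_left h le_rfl le_rfl, h.tst, map_neg, conj_w_right hi hsa'.1.le hsa'.2.ge, neg_neg]
      · change a * t * a * t = a * t * (a * t)
        simp only [mul_assoc]
    refine (Set.ncard_le_ncard e (Set.toFinite _)).trans ?_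
    exact Set.ncard_image_le (Set.toFinite _)
  have hYO : Y.ncard ≤ 4 * O.ncard := by
    rw [← hc1]
    exact hcount.trans (Nat.mul_le_mul_left 4 hc2)
  have hstab : ∀ g ∈ B ⊔ H, conjL g s ∈ Y := by
    have hle : B ⊔ H ≤ Subgroup.normalizer (G : Set (LinearMap.GeneralLinearGroup k M)) ⊓ NS s := by
      refine sup_le (fun b hb => ⟨hBG hb, hsB b hb⟩) (fun x hx => ⟨Subgroup.le_normalizer hx.1.1, hx.1.2⟩)
    intro g hg
    obtain ⟨h1, h3⟩ := hle hg
    have hm := IsMin_conj hs (g := g) (fun x hx => (Subgroup.mem_normalizer_iff.1 h1 x).1 hx)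
    exact ⟨mem_cl_of_same hm.1 h3, hm.ne_zero⟩
  have hcopH : (Nat.card B).Coprime (Nat.card H) :=
    Nat.Coprime.coprime_dvd_right (Subgroup.card_dvd_of_le (inf_le_left.trans inf_le_left)) hcop
  obtain ⟨g, hg, hfix⟩ := Solvable.Glauberman.exists_smul_fixed B H hBH hcopH (Or.inl hsol) (X := EX k M) s
    (fun b hb => orbit_eq_of_normalizes (X := EX k M) B H hBH h6 s Y (Set.toFinite Y) hstab hYO hb)
  have hgY := hstab g (Subgroup.mem_sup_right hg)
  exact ⟨conjL g s, hgY.2, hgY.1, hfix⟩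

end Cfsg.Agent.H220.Zj
end

-- part: H220/ZjDiag
section
/-!
Diagonal subgroups, adapted from `H290.Diag`: `J` a subgroup, `P` a finite group such that each element of `P`
centralises `J` or maps `J` to a subgroup commuting with `J`. Then a central quotient of `J` is centralised by `P`.
-/

set_option autoImplicit false

open Subgroup

namespace Cfsg.Agent.H220.ZjDiag

variable {H : Type*} [Group H] {J P : Subgroup H}

theorem exists_diag [Finite P]
    (hd : ∀ g ∈ P, (∀ x ∈ J, g * x * g⁻¹ = x) ∨ (∀ x ∈ J, ∀ y ∈ J, Commute (g * x * g⁻¹) y))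
    (L : Subgroup H) (hL : ∀ g ∈ P, ∀ x ∈ J, g * x * g⁻¹ ∈ L) :
    ∃ d : J →* H, (∀ x, d x = 1 → ∀ y : J, x * y = y * x) ∧ (∀ x, d x ∈ L) ∧
      ∀ g ∈ P, ∀ y, g * d y * g⁻¹ = d y := by
  classical
  let N : Subgroup P :=
    { carrier := {g | ∀ x ∈ J, (g : H) * x * (g : H)⁻¹ = x}
      one_mem' := fun x _ => by simp
      mul_mem' := fun {a b} ha hb x hx => by
        have h1 := hb x hx
        have h2 := ha x hx
        calc ((a * b : P) : H) * x * ((a * b : P) : H)⁻¹ = a * (b * x * (b : H)⁻¹) * (a : H)⁻¹ := by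
              push_cast; group
          _ = x := by rw [h1, h2]
      inv_mem' := fun {a} ha x hx => by
        have h1 := ha x hx
        calc ((a⁻¹ : P) : H) * x * ((a⁻¹ : P) : H)⁻¹ = (a : H)⁻¹ * x * a := by push_cast; group
          _ = (a : H)⁻¹ * (a * x * (a : H)⁻¹) * a := by rw [h1]
          _ = x := by group }
  have hNm : ∀ g : P, g ∈ N ↔ ∀ x ∈ J, (g : H) * x * (g : H)⁻¹ = x := fun g => Iff.rfl
  have hfin : Finite (P ⧸ N) := inferInstance
  have : Fintype (P ⧸ N) := Fintype.ofFinite _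
  let φ : (P ⧸ N) → (J →* H) := fun i => (MulAut.conj ((i.out : P) : H)).toMonoidHom.comp J.subtype
  have hφ : ∀ (g : P) (y : J), φ (QuotientGroup.mk g) y = g * y * (g : H)⁻¹ := by
    intro g y
    obtain ⟨n, hn⟩ := QuotientGroup.mk_out_eq_mul N g
    change ((QuotientGroup.mk g : P ⧸ N).out : H) * y * ((QuotientGroup.mk g : P ⧸ N).out : H)⁻¹ = _
    rw [hn]
    have h1 := (hNm n).1 n.2 y y.2
    calc ((g * (n : P) : P) : H) * y * ((g * (n : P) : P) : H)⁻¹
        = g * (((n : P) : H) * y * ((n : P) : H)⁻¹) * (g : H)⁻¹ := by push_cast; group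
      _ = g * y * (g : H)⁻¹ := by rw [h1]
  have hcomm : Pairwise fun i j => ∀ x y, Commute (φ i x) (φ j y) := by
    intro i j hij x y
    obtain ⟨g, rfl⟩ := QuotientGroup.mk_surjective i
    obtain ⟨h, rfl⟩ := QuotientGroup.mk_surjective j
    rw [hφ, hφ]
    have h1 : h⁻¹ * g ∉ N := by
      intro h2
      apply hij
      exact (QuotientGroup.eq.2 h2).symm
    rcases hd ((h⁻¹ * g : P) : H) (h⁻¹ * g).2 with h2 | h2
    · exact absurd ((hNm _).2 h2) h1
    · have h3 := h2 x x.2 y y.2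
      have h4 := h3.map (MulAut.conj (h : H)).toMonoidHom
      have e1 : (MulAut.conj (h : H)).toMonoidHom (((h⁻¹ * g : P) : H) * x * ((h⁻¹ * g : P) : H)⁻¹) =
          g * x * (g : H)⁻¹ := by
        change (h : H) * (((h⁻¹ * g : P) : H) * x * ((h⁻¹ * g : P) : H)⁻¹) * (h : H)⁻¹ = _
        push_cast
        group
      rw [e1] at h4
      exact h4
  let Φ : ((P ⧸ N) → J) →* H := MonoidHom.noncommPiCoprod φ hcomm
  have hΦ : ∀ i (y : J), Φ (Pi.mulSingle i y) = φ i y := fun i y =>
    MonoidHom.noncommPiCoprod_mulSingle φ i y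
  let δ : J →* ((P ⧸ N) → J) := Pi.constMonoidHom (P ⧸ N) J
  refine ⟨Φ.comp δ, ?_, ?_, ?_⟩
  · intro y hy v
    -- `Φ f` acts on `J` as `f 1`
    have key : ∀ f : (P ⧸ N) → J, ∀ w ∈ J, Φ f * w * (Φ f)⁻¹ =
        (f (QuotientGroup.mk 1) : H) * w * (f (QuotientGroup.mk 1) : H)⁻¹ := by
      let K : Subgroup ((P ⧸ N) → J) :=
        { carrier := {f | ∀ w ∈ J, Φ f * w * (Φ f)⁻¹ =
            (f (QuotientGroup.mk 1) : H) * w * (f (QuotientGroup.mk 1) : H)⁻¹}
          one_mem' := fun w _ => by simp only [_root_.map_one, _root_.one_mul, _root_.inv_one, _root_.mul_one, _root_.Pi.one_apply, _root_.OneMemClass.coe_one]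
          mul_mem' := fun {a b} ha hb w hw => by
            have h1 := hb w hw
            have h2 := ha _ (J.mul_mem (J.mul_mem (b (QuotientGroup.mk 1)).2 hw)
              (J.inv_mem (b (QuotientGroup.mk 1)).2))
            calc Φ (a * b) * w * (Φ (a * b))⁻¹ = Φ a * (Φ b * w * (Φ b)⁻¹) * (Φ a)⁻¹ := by
                  rw [map_mul]; group
              _ = _ := by rw [h1, h2, Pi.mul_apply]; push_cast; group
          inv_mem' := fun {a} ha w hw => by
            have h2 := ha _ (J.mul_mem (J.mul_mem (J.inv_mem (a (QuotientGroup.mk 1)).2) hw)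
              ((a (QuotientGroup.mk 1)).2))
            have h3 : (a (QuotientGroup.mk 1) : H) *
                ((a (QuotientGroup.mk 1) : H)⁻¹ * w * (a (QuotientGroup.mk 1) : H)) *
                (a (QuotientGroup.mk 1) : H)⁻¹ = w := by group
            rw [h3] at h2
            have h4 : (Φ a)⁻¹ * w * Φ a =
                (a (QuotientGroup.mk 1) : H)⁻¹ * w * (a (QuotientGroup.mk 1) : H) := by
              conv_lhs => rw [← h2]
              group
            rw [map_inv, inv_inv, Pi.inv_apply]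
            push_cast
            rw [inv_inv]
            exact h4 }
      intro f
      have hf : f ∈ K := by
        refine Subgroup.pi_mem_of_mulSingle_mem f fun i w hw => ?_
        change Φ (Pi.mulSingle i (f i)) * w * (Φ (Pi.mulSingle i (f i)))⁻¹ = _
        rw [hΦ]
        by_cases hi : i = QuotientGroup.mk 1
        · subst hi
          rw [hφ, Pi.mulSingle_eq_same]
          simp only [_root_.OneMemClass.coe_one, _root_.one_mul, _root_.inv_one, _root_.mul_one]
        · rw [Pi.mulSingle_eq_of_ne (Ne.symm hi)]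
          have h1 := hcomm hi (f i) ⟨w, hw⟩
          rw [hφ 1] at h1
          simp only [OneMemClass.coe_one, one_mul, inv_one, mul_one] at h1 ⊢
          rw [h1.eq, mul_inv_cancel_right]
      exact hf
    apply Subtype.ext
    have h2 := key (δ y) v v.2
    have h3 : Φ (δ y) = 1 := hy
    rw [h3] at h2
    have h4 : (δ y (QuotientGroup.mk 1) : H) = y := rfl
    rw [h4] at h2
    simp only [one_mul, inv_one, mul_one] at h2
    change (y : H) * v = v * y
    rw [eq_mul_inv_iff_mul_eq] at h2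
    exact h2.symm
  · intro y
    have h1 : ∀ f : (P ⧸ N) → J, Φ f ∈ L := by
      intro f
      have hf : f ∈ L.comap Φ := by
        refine Subgroup.pi_mem_of_mulSingle_mem f fun i => ?_
        change Φ (Pi.mulSingle i (f i)) ∈ L
        rw [hΦ]
        obtain ⟨g, rfl⟩ := QuotientGroup.mk_surjective i
        rw [hφ]
        exact hL g g.2 _ (f (QuotientGroup.mk g)).2
      exact hf
    exact h1 _
  · intro g hg y
    -- reindexing
    have key : ∀ f : (P ⧸ N) → J, g * Φ f * g⁻¹ = Φ fun i => f ((⟨g, hg⟩ : P)⁻¹ • i) := by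
      let K : Subgroup ((P ⧸ N) → J) :=
        { carrier := {f | g * Φ f * g⁻¹ = Φ fun i => f ((⟨g, hg⟩ : P)⁻¹ • i)}
          one_mem' := by
            change g * Φ 1 * g⁻¹ = Φ (fun i => 1)
            have : (fun i => 1 : (P ⧸ N) → J) = 1 := rfl
            rw [this, map_one, mul_one, mul_inv_cancel]
          mul_mem' := fun {a b} (ha : g * Φ a * g⁻¹ = Φ fun i => a ((⟨g, hg⟩ : P)⁻¹ • i))
              (hb : g * Φ b * g⁻¹ = Φ fun i => b ((⟨g, hg⟩ : P)⁻¹ • i)) => by
            change g * Φ (a * b) * g⁻¹ = Φ fun i => (a * b) ((⟨g, hg⟩ : P)⁻¹ • i)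
            have h1 : (fun i => (a * b) ((⟨g, hg⟩ : P)⁻¹ • i)) =
                (fun i => a ((⟨g, hg⟩ : P)⁻¹ • i)) * fun i => b ((⟨g, hg⟩ : P)⁻¹ • i) := rfl
            rw [h1, map_mul, map_mul, ← ha, ← hb]
            group
          inv_mem' := fun {a} (ha : g * Φ a * g⁻¹ = Φ fun i => a ((⟨g, hg⟩ : P)⁻¹ • i)) => by
            change g * Φ a⁻¹ * g⁻¹ = Φ fun i => a⁻¹ ((⟨g, hg⟩ : P)⁻¹ • i)
            have h1 : (fun i => a⁻¹ ((⟨g, hg⟩ : P)⁻¹ • i)) =
                (fun i => a ((⟨g, hg⟩ : P)⁻¹ • i))⁻¹ := rfl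
            rw [h1, map_inv, map_inv, ← ha]
            group }
      intro f
      have hf : f ∈ K := by
        refine Subgroup.pi_mem_of_mulSingle_mem f fun i => ?_
        change g * Φ (Pi.mulSingle i (f i)) * g⁻¹ =
          Φ fun j => (Pi.mulSingle i (f i) : (P ⧸ N) → J) ((⟨g, hg⟩ : P)⁻¹ • j)
        have h1 : (fun j => (Pi.mulSingle i (f i) : (P ⧸ N) → J) ((⟨g, hg⟩ : P)⁻¹ • j)) =
            Pi.mulSingle ((⟨g, hg⟩ : P) • i) (f i) := by
          funext j
          by_cases hj : j = (⟨g, hg⟩ : P) • i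
          · rw [hj, Pi.mulSingle_eq_same, inv_smul_smul, Pi.mulSingle_eq_same]
          · rw [Pi.mulSingle_eq_of_ne hj, Pi.mulSingle_eq_of_ne]
            intro h
            exact hj (by rw [← h, smul_inv_smul])
        rw [h1, hΦ, hΦ]
        obtain ⟨h, rfl⟩ := QuotientGroup.mk_surjective i
        have h2 : (⟨g, hg⟩ : P) • (QuotientGroup.mk h : P ⧸ N) = QuotientGroup.mk (⟨g, hg⟩ * h) := rfl
        rw [h2, hφ, hφ]
        push_cast
        group
      exact hf
    change g * Φ (δ y) * g⁻¹ = Φ (δ y)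
    rw [key]
    rfl

end Cfsg.Agent.H220.ZjDiag
end

-- part: H220/ZjLin
section
/-!
Linear groups with quadratic elements and coprime operators (S3260): the operators centralise a subgroup `SL₂(k)` or
`PSL₂(k)` of the group.
-/

set_option autoImplicit false

namespace Cfsg.Agent.H220.Zj

open Cfsg Cfsg.Agent.H740 Cfsg.Agent.H742 Cfsg.Agent.H731

/-- subgroups with the conjugation action -/
def SG (H : Type*) [Group H] := Subgroup H

/-- the conjugation action on subgroups -/
instance conjActSG {H : Type*} [Group H] : MulAction H (SG H) where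
  smul g A := (conjBy (show Subgroup H from A) g : Subgroup H)
  one_smul A := conjBy_one (show Subgroup H from A)
  mul_smul g h A := (conjBy_conjBy (show Subgroup H from A) g h).symm

section roots

variable {k : Type*} [Field k] {M : Type*} [AddCommGroup M] [Module k M]
variable {G : Subgroup (LinearMap.GeneralLinearGroup k M)}

theorem conjL_mem_cl {s x : M →ₗ[k] M} (hx : x ∈ cl G s) {g : LinearMap.GeneralLinearGroup k M}
    (hg : ∀ x ∈ G, g * x * g⁻¹ ∈ G) : conjL g x ∈ cl G (conjL g s) := by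
  refine ⟨QIn_conj hx.1 hg, ?_, ?_⟩
  · rw [ker_conjL, ker_conjL]; exact Submodule.map_mono hx.2.1
  · rw [range_conjL, range_conjL]; exact Submodule.map_mono hx.2.2

variable [FiniteDimensional k M]

theorem conjBy_E {σ : LinearMap.GeneralLinearGroup k M} (hσ : σ ∈ minimalQuadraticElements G)
    {g : LinearMap.GeneralLinearGroup k M} (hg : ∀ x ∈ G, g * x * g⁻¹ ∈ G) (hg' : ∀ x ∈ G, g⁻¹ * x * g ∈ G) :
    g * σ * g⁻¹ ∈ minimalQuadraticElements G ∧
      conjBy (sameActionSubgroup G σ) g = sameActionSubgroup G (g * σ * g⁻¹) := by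
  have h1 : g * σ * g⁻¹ ∈ minimalQuadraticElements G := by
    rw [H740.mem_minimalQuadraticElements_iff, coe_conj_sub_one]
    exact IsMin_conj (H740.mem_minimalQuadraticElements_iff.1 hσ) hg
  refine ⟨h1, ?_⟩
  have e0 : ∀ (g x : LinearMap.GeneralLinearGroup k M),
      ((g * x * g⁻¹ : LinearMap.GeneralLinearGroup k M) : M →ₗ[k] M) - 1 = conjL g ((x : M →ₗ[k] M) - 1) :=
    fun g x => coe_conj_sub_one g x
  have e1 : ∀ x : LinearMap.GeneralLinearGroup k M,
      ((g⁻¹ * x * g : LinearMap.GeneralLinearGroup k M) : M →ₗ[k] M) - 1 = conjL g⁻¹ ((x : M →ₗ[k] M) - 1) := by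
    intro x
    have := e0 g⁻¹ x
    rwa [inv_inv] at this
  ext x
  rw [mem_conjBy, mem_E_iff hσ, mem_E_iff h1, e0, e1]
  constructor
  · intro h
    have := conjL_mem_cl h hg
    rwa [conjL_conjL_inv] at this
  · intro h
    have := conjL_mem_cl h (g := g⁻¹) (by intro x hx; rw [inv_inv]; exact hg' x hx)
    rwa [conjL_inv_conjL] at this

theorem conjBy_mem_sigma {A : Subgroup (LinearMap.GeneralLinearGroup k M)} (hA : A ∈ quadraticRootSubgroups G)
    {g : LinearMap.GeneralLinearGroup k M} (hg : ∀ x ∈ G, g * x * g⁻¹ ∈ G) (hg' : ∀ x ∈ G, g⁻¹ * x * g ∈ G) :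
    conjBy A g ∈ quadraticRootSubgroups G := by
  obtain ⟨σ, hσ, rfl⟩ := hA
  obtain ⟨h1, h2⟩ := conjBy_E hσ hg hg'
  exact ⟨_, h1, h2⟩

theorem reach_conj {A B : Subgroup (LinearMap.GeneralLinearGroup k M)}
    (h : Relation.ReflTransGen (FAdj (quadraticRootSubgroups G)) A B)
    {g : LinearMap.GeneralLinearGroup k M} (hg : ∀ x ∈ G, g * x * g⁻¹ ∈ G) (hg' : ∀ x ∈ G, g⁻¹ * x * g ∈ G) :
    Relation.ReflTransGen (FAdj (quadraticRootSubgroups G)) (conjBy A g) (conjBy B g) :=
  Relation.ReflTransGen.lift (r := FAdj (quadraticRootSubgroups G)) (p := FAdj (quadraticRootSubgroups G))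
    (fun A => conjBy A g)
    (fun _ _ h => ⟨conjBy_mem_sigma h.1 hg hg', conjBy_mem_sigma h.2.1 hg hg', IsRankOnePair_conj h.2.2 g⟩) _ _ h

omit [FiniteDimensional k M] in
/-- the members of a component are conjugate in the group they generate -/
theorem exists_conj_of_reach {T : Set (Subgroup (LinearMap.GeneralLinearGroup k M))}
    {A B : Subgroup (LinearMap.GeneralLinearGroup k M)}
    (h : Relation.ReflTransGen (FAdj T) A B) :
    ∃ g ∈ ⨆ X ∈ componentOf (FAdj T) T A, X, conjBy A g = B := by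
  induction h with
  | refl => exact ⟨1, Subgroup.one_mem _, conjBy_one A⟩
  | @tail B C h1 h2 ih =>
    obtain ⟨g, hg, hgB⟩ := ih
    have hBD : B ∈ componentOf (FAdj T) T A := ⟨h2.1, h1⟩
    have hCD : C ∈ componentOf (FAdj T) T A := ⟨h2.2.1, h1.tail h2⟩
    obtain ⟨a, ha, ha1⟩ := rankOne_exists_left h2.2.2
    obtain ⟨b, hb, hb1, hab⟩ := h2.2.2.cond_left a ha ha1
    refine ⟨a * b⁻¹ * g, Subgroup.mul_mem _ (Subgroup.mul_mem _ (le_gen hBD ha) (Subgroup.inv_mem _ (le_gen hCD hb))) hg,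
      ?_⟩
    rw [← conjBy_conjBy, hgB, ← conjBy_conjBy, hab, conjBy_conjBy, mul_inv_cancel, conjBy_one]

/-- A root group fixed by the operators stabilising its component. -/
theorem exists_fixed_root [Finite (LinearMap.GeneralLinearGroup k M)] (hC : Core G) (hO : HasOpp G)
    (P : Subgroup (LinearMap.GeneralLinearGroup k M))
    (hPG : ∀ a ∈ P, ∀ x ∈ G, a * x * a⁻¹ ∈ G) (hcop : (Nat.card P).Coprime (Nat.card G))
    (hsol : Group.IsSolvable P) {E₀ : Subgroup (LinearMap.GeneralLinearGroup k M)}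
    (hE₀ : E₀ ∈ quadraticRootSubgroups G) :
    ∃ E ∈ quadraticRootSubgroups G, ∀ a ∈ P, conjBy E a = E ∨
      ∀ A ∈ componentOf (FAdj (quadraticRootSubgroups G)) (quadraticRootSubgroups G) E,
        ∀ B ∈ componentOf (FAdj (quadraticRootSubgroups G)) (quadraticRootSubgroups G) E, ⁅conjBy A a, B⁆ = ⊥ := by
  set T := quadraticRootSubgroups G with hT
  have hF : Fam T := sigma_fam hC hO
  have hP := sigma_partner hC hO
  have hPG' : ∀ a ∈ P, ∀ x ∈ G, a⁻¹ * x * a ∈ G := by
    intro a ha x hx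
    have := hPG a⁻¹ (P.inv_mem ha) x hx
    rwa [inv_inv] at this
  -- the stabiliser of the component
  let B : Subgroup (LinearMap.GeneralLinearGroup k M) :=
    { carrier := {a | a ∈ P ∧ Relation.ReflTransGen (FAdj T) E₀ (conjBy E₀ a)}
      one_mem' := ⟨P.one_mem, by rw [conjBy_one]⟩
      mul_mem' := by
        rintro a b ⟨ha, ha'⟩ ⟨hb, hb'⟩
        refine ⟨P.mul_mem ha hb, ?_⟩
        rw [← conjBy_conjBy]
        exact ha'.trans (reach_conj hb' (hPG a ha) (hPG' a ha))
      inv_mem' := by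
        rintro a ⟨ha, ha'⟩
        refine ⟨P.inv_mem ha, ?_⟩
        have h1 := reach_conj (g := a⁻¹) ha' (hPG a⁻¹ (P.inv_mem ha)) (by rw [inv_inv]; exact hPG a ha)
        rw [conjBy_conjBy, inv_mul_cancel, conjBy_one] at h1
        exact H733.reach_symm h1 }
  have hBP : B ≤ P := fun b hb => hb.1
  set D := componentOf (FAdj T) T E₀ with hD
  set K := ⨆ X ∈ D, X with hK
  have hKT : K ≤ ⨆ X ∈ T, X := gen_componentOf_le
  have hKG : K ≤ G := hKT.trans gen_sigma_le
  have hDB : ∀ b ∈ B, ∀ X ∈ D, conjBy X b ∈ D := by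
    intro b hb X hX
    refine ⟨conjBy_mem_sigma hX.1 (hPG b hb.1) (hPG' b hb.1), ?_⟩
    exact hb.2.trans (reach_conj hX.2 (hPG b hb.1) (hPG' b hb.1))
  have hKB : ∀ b ∈ B, ∀ x ∈ K, b * x * b⁻¹ ∈ K := by
    intro b hb x hx
    have h1 : conjBy K b ≤ K := by
      rw [hK, conjBy_iSup]
      refine iSup_le fun X => ?_
      rw [conjBy_iSup]
      exact iSup_le fun hX => le_gen (hDB b hb X hX)
    exact h1 (conj_mem_conjBy hx b)
  have hBK : B ≤ Subgroup.normalizer (K : Set (LinearMap.GeneralLinearGroup k M)) := by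
    intro b hb
    refine mem_normalizer_of_conj (hKB b hb) ?_
    intro x hx
    have := hKB b⁻¹ (B.inv_mem hb) x hx
    rwa [inv_inv] at this
  have hsolB : Group.IsSolvable B := by
    have := hsol
    exact Group.isSolvable_of_isSolvable_injective (Subgroup.inclusion_injective hBP)
  obtain ⟨g, hg, hfix⟩ := Solvable.Glauberman.exists_smul_fixed B K hBK
    (Nat.Coprime.coprime_dvd_left (Subgroup.card_dvd_of_le hBP)
      (Nat.Coprime.coprime_dvd_right (Subgroup.card_dvd_of_le hKG) hcop)) (Or.inl hsolB)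
    (X := SG (LinearMap.GeneralLinearGroup k M)) E₀ (by
      intro b hb
      obtain ⟨g, hg, h⟩ := exists_conj_of_reach (T := T) hb.2
      exact ⟨g, hg, h.symm⟩)
  set E := conjBy E₀ g with hE
  have hED : E ∈ D := ⟨hF.conj E₀ hE₀ g (hKT hg), hF.reach_conjBy hP hE₀ (hKT hg)⟩
  refine ⟨E, hED.1, ?_⟩
  rw [componentOf_eq hED]
  intro a ha
  by_cases hab : a ∈ B
  · exact Or.inl (hfix a hab)
  · right
    intro X hX Y hY
    rcases hF.reach_or_commute hP (conjBy_mem_sigma hX.1 (hPG a ha) (hPG' a ha)) hY.1 with h1 | h1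
    · refine absurd ⟨ha, ?_⟩ hab
      exact (hY.2.trans (H733.reach_symm h1)).trans (H733.reach_symm (reach_conj hX.2 (hPG a ha) (hPG' a ha)))
    · exact h1

omit [FiniteDimensional k M] in
theorem two_dvd_card [Finite (LinearMap.GeneralLinearGroup k M)] (h2k : (2 : k) ≠ 0) {s t : M →ₗ[k] M}
    (h : _root_.Cfsg.Agent.H742.Inv s t) (hs0 : s ≠ 0) (hs : QIn G s) (ht : QIn G t) : 2 ∣ Nat.card G := by
  have hinj : Function.Injective h.slHom := (MonoidHom.ker_eq_bot_iff _).1 (h.slHom_ker hs0)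
  have hne : (-1 : Matrix.SpecialLinearGroup (Fin 2) k) ≠ 1 := by
    intro h1
    have h2 := congrArg (fun g : Matrix.SpecialLinearGroup (Fin 2) k => (g : Matrix (Fin 2) (Fin 2) k) 0 0) h1
    simp at h2
    have h3 : (2 : k) = 0 := by linear_combination (-1 : k) * h2
    exact h2k h3
  have h3 : orderOf (⟨h.slHom (-1), slHom_mem h hs ht _⟩ : G) = 2 := by
    have : Fact (Nat.Prime 2) := ⟨Nat.prime_two⟩
    refine orderOf_eq_prime ?_ ?_
    · apply Subtype.ext
      rw [SubgroupClass.coe_pow, ← map_pow]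
      simp only [_root_.even_two, _root_.Even.neg_pow, _root_.one_pow, _root_.map_one, _root_.OneMemClass.coe_one]
    · intro h4
      apply hne
      apply hinj
      rw [map_one]
      exact congrArg Subtype.val h4
  rw [← h3]
  exact orderOf_dvd_natCard _

/-- an element of order three -/
def three (k : Type*) [Field k] : Matrix.SpecialLinearGroup (Fin 2) k :=
  ⟨!![0, -1; 1, -1], by simp [Matrix.det_fin_two_of]⟩

theorem three_pow (k : Type*) [Field k] : (three k) ^ 3 = 1 := by
  apply Subtype.ext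
  rw [pow_three, Matrix.SpecialLinearGroup.coe_mul, Matrix.SpecialLinearGroup.coe_mul, three]
  ext i j
  (revert i j; simp only [Matrix.mul_apply, Fin.sum_univ_two, _root_.Fin.forall_fin_succ, _root_.Matrix.cons_mul, _root_.Nat.succ_eq_add_one, Nat.reduceAdd, _root_.Matrix.vecMul_cons, _root_.Matrix.head_cons, _root_.zero_smul, _root_.Matrix.tail_cons, _root_.neg_smul, _root_.one_smul, _root_.Matrix.neg_cons, _root_.neg_neg, _root_.Matrix.neg_empty, _root_.Matrix.empty_vecMul, _root_.add_zero, _root_.zero_add, _root_.Matrix.add_cons, _root_.neg_add_cancel, _root_.Matrix.empty_add_empty, _root_.Matrix.empty_mul, _root_.Equiv.symm_apply_apply, _root_.Matrix.of_apply, _root_.Matrix.cons_val', _root_.Matrix.cons_val_fin_one, Fin.isValue, _root_.Matrix.cons_val_zero, _root_.Matrix.cons_val_one, _root_.Matrix.SpecialLinearGroup.coe_one, _root_.mul_neg, _root_.mul_one, _root_.Matrix.cons_val_succ, _root_.MulZeroClass.mul_zero, _root_.IsEmpty.forall_iff, _root_.and_true,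 _root_.neg_zero, _root_.Matrix.one_apply_eq, _root_.Fin.succ_zero_eq_one, _root_.ne_eq, _root_.zero_ne_one, _root_.not_false_eq_true, _root_.Matrix.one_apply_ne, _root_.and_self, _root_.Fin.succ_ne_zero, _root_.true_and])

omit [FiniteDimensional k M] in
theorem three_dvd_card [Finite (LinearMap.GeneralLinearGroup k M)] {s t : M →ₗ[k] M}
    (h : _root_.Cfsg.Agent.H742.Inv s t) (hs0 : s ≠ 0) (hs : QIn G s) (ht : QIn G t) : 3 ∣ Nat.card G := by
  have hinj : Function.Injective h.slHom := (MonoidHom.ker_eq_bot_iff _).1 (h.slHom_ker hs0)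
  have hne : three k ≠ 1 := by
    intro h1
    have h2 := congrArg (fun g : Matrix.SpecialLinearGroup (Fin 2) k => (g : Matrix (Fin 2) (Fin 2) k) 0 0) h1
    simp [three] at h2
  have h3 : orderOf (⟨h.slHom (three k), slHom_mem h hs ht _⟩ : G) = 3 := by
    have : Fact (Nat.Prime 3) := ⟨Nat.prime_three⟩
    refine orderOf_eq_prime ?_ ?_
    · apply Subtype.ext
      rw [SubgroupClass.coe_pow, ← map_pow, three_pow, map_one]
      rfl
    · intro h4
      apply hne
      apply hinj
      rw [map_one]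
      exact congrArg Subtype.val h4
  rw [← h3]
  exact orderOf_dvd_natCard _

/-- **The linear theorem.** -/
theorem exists_sl2 [Finite M] [Finite (LinearMap.GeneralLinearGroup k M)] [Finite k] {p : ℕ} [Fact p.Prime] [CharP k p]
    (hp : 5 ≤ p) (hC : Core G) (hO : HasOpp G) (P : Subgroup (LinearMap.GeneralLinearGroup k M))
    (hPG : ∀ a ∈ P, ∀ x ∈ G, a * x * a⁻¹ ∈ G) (hcop : (Nat.card P).Coprime (Nat.card G))
    {s' : M →ₗ[k] M} (hs' : IsMin G s') :
    ∃ φ : Matrix.SpecialLinearGroup (Fin 2) k →* LinearMap.GeneralLinearGroup k M,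
      (∀ g, φ g = 1 → ∀ h, g * h = h * g) ∧ (∀ g, φ g ∈ G) ∧ ∀ a ∈ P, ∀ g, a * φ g * a⁻¹ = φ g := by
  have h2k : (2 : k) ≠ 0 := by
    intro h
    have h1 : ((2 : ℕ) : k) = 0 := by exact_mod_cast h
    rw [CharP.cast_eq_zero_iff k p] at h1
    have := Nat.le_of_dvd (by norm_num) h1
    omega
  -- the orders
  obtain ⟨g', hg', hn'⟩ := hO _ hs'
  obtain ⟨t', ht', -, hi'⟩ := hC.inv hs' (hs'.conj hg') hn'
  have hd2 := two_dvd_card h2k hi' hs'.ne_zero hs'.1 ht'.1
  have hd3 := three_dvd_card hi' hs'.ne_zero hs'.1 ht'.1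
  have h6 : (Nat.card P).Coprime 6 := by
    refine Nat.Coprime.coprime_dvd_right ?_ hcop
    exact Nat.Coprime.mul_dvd_of_dvd_of_dvd (by norm_num) hd2 hd3
  have hsol : Group.IsSolvable P := by
    refine S0205.result ?_
    rw [← Nat.coprime_two_right]
    exact Nat.Coprime.coprime_dvd_right (by norm_num) h6
  have hPG' : ∀ a ∈ P, ∀ x ∈ G, a⁻¹ * x * a ∈ G := by
    intro a ha x hx
    have := hPG a⁻¹ (P.inv_mem ha) x hx
    rwa [inv_inv] at this
  obtain ⟨E, hET, hE⟩ := exists_fixed_root hC hO P hPG hcop hsol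
    (E₀ := sameActionSubgroup G (oneAdd s' hs'.sq)) ⟨_, oneAdd_mem_minimal hs', rfl⟩
  obtain ⟨σ, hσ, rfl⟩ := id hET
  set T := quadraticRootSubgroups G with hT
  set E := sameActionSubgroup G σ with hEdef
  set s := (σ : M →ₗ[k] M) - 1 with hs
  have hsm : IsMin G s := H740.mem_minimalQuadraticElements_iff.1 hσ
  -- the stabiliser of the root group
  let B : Subgroup (LinearMap.GeneralLinearGroup k M) :=
    { carrier := {a | a ∈ P ∧ conjBy E a = E}
      one_mem' := ⟨P.one_mem, conjBy_one E⟩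
      mul_mem' := by
        rintro a b ⟨ha, ha'⟩ ⟨hb, hb'⟩
        refine ⟨P.mul_mem ha hb, ?_⟩
        rw [← conjBy_conjBy, hb', ha']
      inv_mem' := by
        rintro a ⟨ha, ha'⟩
        refine ⟨P.inv_mem ha, ?_⟩
        rw [conjBy_inv_eq_iff, ha'] }
  have hBP : B ≤ P := fun b hb => hb.1
  have hBG : B ≤ Subgroup.normalizer (G : Set (LinearMap.GeneralLinearGroup k M)) :=
    fun b hb => mem_normalizer_of_conj (hPG b hb.1) (hPG' b hb.1)
  have hcopB : (Nat.card B).Coprime (Nat.card G) :=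
    Nat.Coprime.coprime_dvd_left (Subgroup.card_dvd_of_le hBP) hcop
  have hsolB : Group.IsSolvable B := by
    have := hsol
    exact Group.isSolvable_of_isSolvable_injective (Subgroup.inclusion_injective hBP)
  have h6B : (Nat.card B).Coprime 6 := Nat.Coprime.coprime_dvd_left (Subgroup.card_dvd_of_le hBP) h6
  have hsB : ∀ b ∈ B, Same (conjL b s) s := by
    intro b hb
    have h1 : b * σ * b⁻¹ ∈ E := by
      have := conj_mem_conjBy (self_mem_sameActionSubgroup hσ) b
      rwa [hb.2] at this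
    have h2 : conjL b s ∈ cl G s := by
      have h3 := (mem_E_iff hσ).1 h1
      rw [coe_conj_sub_one] at h3
      exact h3
    exact same_of_mem_cl hsm h2 (conjL_ne_zero hsm.ne_zero)
  -- the opposite root
  obtain ⟨g, hg, hn⟩ := hO _ hsm
  obtain ⟨t, ht, hi, htB⟩ := exists_fixed_opposite hp hC hsm (hsm.conj hg) hn B hBG hcopB hsB
  -- the fixed vector
  obtain ⟨s₀, hs₀, hs₀m, hs₀B⟩ := exists_fixed_vector hC h2k hsm ht hi B hBG hcopB h6B hsolB hsB htB
  obtain ⟨t₀, ht₀m, ht₀, hi₀⟩ := exists_inv_mem hC hsm ht hi hs₀m hs₀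
  have ht₀B : ∀ b ∈ B, conjL b t₀ = t₀ := by
    intro b hb
    have h1 := Inv_conj hi₀ b
    rw [hs₀B b hb] at h1
    have h2 : Same t₀ t := same_of_mem_cl ht ht₀m ht₀
    exact Inv.unique h1 hi₀ (((Same_conj h2 b).trans (htB b hb)).trans h2.symm)
  -- the subgroup
  set D := componentOf (FAdj T) T E with hD
  set K := ⨆ X ∈ D, X with hK
  have hED : E ∈ D := self_mem_componentOf hET
  set F := sameActionSubgroup G (oneAdd t ht.sq) with hF
  have hFT : F ∈ T := ⟨_, oneAdd_mem_minimal ht, rfl⟩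
  have hFD : F ∈ D := by
    refine ⟨hFT, Relation.ReflTransGen.single ⟨hET, hFT, ?_⟩⟩
    refine (rankOnePair_of_not_nilpotent hC hσ (oneAdd_mem_minimal ht) ?_).1
    rw [coe_oneAdd, add_sub_cancel_left]
    exact hi.not_isNilpotent hsm.ne_zero
  have hsK : QIn K s₀ := by
    refine qIn_of_mem hs₀m.1.1 fun c => ?_
    refine le_gen hED ?_
    rw [mem_E_iff hσ, coe_oneAdd, add_sub_cancel_left]
    exact (clS G s hsm.sq).smul_mem c hs₀m
  have htK : QIn K t₀ := by
    refine qIn_of_mem ht₀m.1.1 fun c => ?_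
    refine le_gen hFD ?_
    rw [E_oneAdd_eq ht, coe_oneAdd, add_sub_cancel_left]
    exact (clS G t ht.sq).smul_mem c ht₀m
  set ψ := hi₀.slHom with hψ
  have hψK : ∀ g, ψ g ∈ K := fun g => slHom_mem hi₀ hsK htK g
  have hKG : K ≤ G := gen_componentOf_le.trans gen_sigma_le
  have hψB : ∀ b ∈ B, ∀ g, b * ψ g * b⁻¹ = ψ g := by
    intro b hb g
    have h0 : ∀ {x : M →ₗ[k] M} (_ : x * x = 0), conjL b x = x → QIn (Subgroup.centralizer {b}) x := by
      intro x hx hxb
      refine qIn_of_mem hx fun c => ?_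
      rw [Subgroup.mem_centralizer_singleton_iff]
      apply Units.ext
      rw [Units.val_mul, Units.val_mul, coe_oneAdd]
      have h1 : (b : M →ₗ[k] M) * x = x * (b : M →ₗ[k] M) := by
        have h2 := (conjL_eq_iff b x x).1 hxb
        exact h2
      rw [mul_add, add_mul, mul_one, one_mul, mul_smul_comm, smul_mul_assoc, h1]
    have h3 := slHom_mem hi₀ (h0 hs₀m.1.1 (hs₀B b hb)) (h0 ht₀m.1.1 (ht₀B b hb)) g
    rw [Subgroup.mem_centralizer_singleton_iff] at h3
    rw [← hψ] at h3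
    rw [mul_inv_eq_iff_eq_mul]
    exact h3.symm
  have hcomm : ∀ a ∈ P, a ∉ B → ∀ x ∈ K, ∀ y ∈ K, Commute (a * x * a⁻¹) y := by
    intro a ha haB x hx y hy
    have h1 := (hE a ha).resolve_left (fun h => haB ⟨ha, h⟩)
    have h2 : conjBy K a ≤ Subgroup.centralizer (K : Set (LinearMap.GeneralLinearGroup k M)) := by
      rw [hK, conjBy_iSup]
      refine iSup_le fun X => ?_
      rw [conjBy_iSup]
      refine iSup_le fun hX => ?_
      rw [Subgroup.le_centralizer_iff]
      refine iSup₂_le fun Y hY => ?_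
      rw [← Subgroup.commutator_eq_bot_iff_le_centralizer, Subgroup.commutator_comm]
      exact h1 X hX Y hY
    exact (Subgroup.mem_centralizer_iff.1 (h2 (conj_mem_conjBy hx a)) y hy).symm
  obtain ⟨d, hd1, hd2, hd3⟩ := ZjDiag.exists_diag (J := ψ.range) (P := P) (by
      intro a ha
      by_cases haB : a ∈ B
      · left
        rintro _ ⟨g, rfl⟩
        exact hψB a haB g
      · right
        rintro _ ⟨g, rfl⟩ _ ⟨h, rfl⟩
        exact hcomm a ha haB _ (hψK g) _ (hψK h)) G (by
      rintro a ha _ ⟨g, rfl⟩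
      exact hPG a ha _ (hKG (hψK g)))
  have hinj : Function.Injective ψ := (MonoidHom.ker_eq_bot_iff _).1 (hi₀.slHom_ker hs₀)
  refine ⟨d.comp ψ.rangeRestrict, ?_, ?_, ?_⟩
  · intro g hg h
    have h1 := hd1 _ hg (ψ.rangeRestrict h)
    rw [← map_mul, ← map_mul] at h1
    exact hinj (congrArg Subtype.val h1)
  · intro g
    exact hd2 _
  · intro a ha g
    exact hd3 a ha _

end roots

end Cfsg.Agent.H220.Zj
end

-- part: H220/ZjRed
section
/-!
Coprime operators, quadratic elements and sections `PSL₂(p)` of the fixed points (S3260).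
-/

set_option autoImplicit false

namespace Cfsg.Agent.H220.ZjRed

open Cfsg Subgroup
open Cfsg.Agent.PLocal.StableOfNotInvolves (Inv)
open scoped commutatorElement

theorem le_normalizer_of_normal {G : Type*} [Group G] (A K : Subgroup G) [K.Normal] :
    A ≤ normalizer (K : Set G) := by
  rw [normalizer_eq_top]
  exact le_top

/-- two coprime orders: one of the groups is solvable -/
theorem solvable_or {G : Type*} [Group G] [Finite G] (A K : Subgroup G) (hcop : (Nat.card A).Coprime (Nat.card K)) :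
    Group.IsSolvable A ∨ Group.IsSolvable K := by
  by_cases h : Odd (Nat.card A)
  · exact Or.inl (S0205.result h)
  · right
    refine S0205.result ?_
    rw [Nat.not_odd_iff_even, even_iff_two_dvd] at h
    rw [← Nat.coprime_two_left]
    exact Nat.Coprime.coprime_dvd_left h hcop

/-- lifting sections of the fixed points -/
theorem lift_inv {Γ Δ L S : Type*} [Group Γ] [Finite Γ] [Group Δ] [Group L] [Group S] (N A : Subgroup Γ) [N.Normal]
    (hcop : (Nat.card A).Coprime (Nat.card N)) (ρ : Γ →* Δ) (φ : L →* Δ) (hφN : ∀ g, φ g ∈ N.map ρ)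
    (hφA : ∀ a ∈ A, ∀ g, ρ a * φ g * (ρ a)⁻¹ = φ g) (q : L →* S) (hq : Function.Surjective q)
    (hker : φ.ker ≤ q.ker) : _root_.Cfsg.Agent.PLocal.StableOfNotInvolves.Inv ↥(N ⊓ centralizer (A : Set Γ)) S := by
  set F : Subgroup Γ := N ⊓ centralizer (A : Set Γ) with hF
  -- fixed points lift
  have hlift : ∀ g, ∃ x ∈ F, ρ x = φ g := by
    intro g
    obtain ⟨n, hn, hng⟩ := hφN g
    obtain ⟨c, hc, hnc⟩ := S0022.result A N (le_normalizer_of_normal _ _) hcop (solvable_or A N hcop) (N ⊓ ρ.ker) inf_le_left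
      (le_normalizer_of_normal _ _) (le_normalizer_of_normal _ _) n hn (by
        intro a ha
        refine ⟨N.mul_mem (Normal.conj_mem inferInstance n hn a) (N.inv_mem hn), ?_⟩
        change _ ∈ ρ.ker
        rw [MonoidHom.mem_ker, map_mul, map_mul, map_mul, map_inv, map_inv, hng, hφA a ha g, mul_inv_cancel])
    refine ⟨c, hc, ?_⟩
    have h1 : n⁻¹ * c ∈ ρ.ker := hnc.2
    rw [MonoidHom.mem_ker, map_mul, map_inv, inv_mul_eq_one] at h1
    rw [← h1, hng]
  let K : Subgroup ↥F := φ.range.comap (ρ.comp F.subtype)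
  let f₁ : K →* φ.range := (ρ.comp F.subtype).subgroupComap φ.range
  have hf₁ : Function.Surjective f₁ := by
    rintro ⟨_, g, rfl⟩
    obtain ⟨x, hx, hxg⟩ := hlift g
    exact ⟨⟨⟨x, hx⟩, ⟨g, hxg.symm⟩⟩, Subtype.ext hxg⟩
  have hk : φ.rangeRestrict.ker ≤ q.ker := by
    rw [MonoidHom.ker_rangeRestrict]; exact hker
  let f₂ : φ.range →* S := φ.rangeRestrict.liftOfRightInverse _
    (Function.rightInverse_surjInv φ.rangeRestrict_surjective) ⟨q, hk⟩
  have hf₂ : Function.Surjective f₂ := by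
    intro s
    obtain ⟨g, rfl⟩ := hq s
    refine ⟨φ.rangeRestrict g, ?_⟩
    exact MonoidHom.liftOfRightInverse_comp_apply _ _ _ ⟨q, hk⟩ g
  exact ⟨K, f₂.comp f₁, hf₂.comp hf₁⟩

section lin

open Cfsg.Agent.H740 Cfsg.Agent.H742 Cfsg.Agent.H220.Zj

variable {p : ℕ} [Fact p.Prime]

theorem one_add_pow {M : Type*} [AddCommGroup M] [Module (ZMod p) M] {s : M →ₗ[ZMod p] M} (hs : s * s = 0) (n : ℕ) :
    (1 + s) ^ n = 1 + (n : ZMod p) • s := by
  induction n with
  | zero => rw [pow_zero, Nat.cast_zero, zero_smul, add_zero]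
  | succ n ih =>
    rw [pow_succ, ih, Nat.cast_succ, add_smul, one_smul]
    have : (1 + (n : ZMod p) • s) * (1 + s) = 1 + s + (n : ZMod p) • s + (n : ZMod p) • (s * s) := by
      rw [add_mul, one_mul, mul_add, mul_one, smul_mul_assoc]
      abel
    rw [this, hs, smul_zero, add_zero]
    abel

/-- a unipotent element has `p`-power order -/
theorem exists_pow_eq_one {M : Type*} [AddCommGroup M] [Module (ZMod p) M]
    {g : LinearMap.GeneralLinearGroup (ZMod p) M} {n : ℕ} (hg : ((g : M →ₗ[ZMod p] M) - 1) ^ n = 0) :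
    ∃ k : ℕ, g ^ p ^ k = 1 := by
  refine ⟨n, Units.ext ?_⟩
  rw [Units.val_pow_eq_pow_val, Units.val_one]
  have hp : p.Prime := Fact.out
  have h0 : ((p : ℕ) : M →ₗ[ZMod p] M) = 0 := by
    ext m
    rw [Module.End.natCast_apply, LinearMap.zero_apply, ← Nat.cast_smul_eq_nsmul (ZMod p), CharP.cast_eq_zero, zero_smul]
  obtain ⟨r, hr⟩ := Commute.exists_add_pow_prime_pow_eq hp (Commute.one_right ((g : M →ₗ[ZMod p] M) - 1)) n
  rw [h0, zero_mul, zero_mul, zero_mul, add_zero, one_pow, sub_add_cancel] at hr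
  rw [hr]
  have h1 : n ≤ p ^ n := (Nat.lt_pow_self hp.one_lt).le
  rw [pow_eq_zero_of_le h1 hg, zero_add]

/-- **No quadratic elements**, linear form. -/
theorem no_quadratic_lin {Γ : Type*} [Group Γ] [Finite Γ] (hp : 5 ≤ p) (N A : Subgroup Γ) [N.Normal]
    (hcop : (Nat.card A).Coprime (Nat.card N)) (hpA : (Nat.card A).Coprime p) (hNA : N ⊔ A = ⊤)
    (hinv : ¬ _root_.Cfsg.Agent.PLocal.StableOfNotInvolves.Inv ↥(N ⊓ centralizer (A : Set Γ)) (Matrix.ProjectiveSpecialLinearGroup (Fin 2) (ZMod p)))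
    {M : Type*} [AddCommGroup M] [Module (ZMod p) M] [Finite M] (ρ : Γ →* LinearMap.GeneralLinearGroup (ZMod p) M)
    (hO : ∀ U : Subgroup Γ, U.Normal → (∀ g ∈ U, ∃ k, ρ g ^ p ^ k = 1) → ∀ g ∈ U, ρ g = 1)
    (a : Γ) (ha : ((ρ a : M →ₗ[ZMod p] M) - 1) * ((ρ a : M →ₗ[ZMod p] M) - 1) = 0) : ρ a = 1 := by
  by_contra hne
  have hfinE : Finite (M →ₗ[ZMod p] M) := Finite.of_injective _ DFunLike.coe_injective
  have hfinG : Finite (LinearMap.GeneralLinearGroup (ZMod p) M) := Finite.of_injective _ Units.val_injective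
  have hfd : Module.Finite (ZMod p) M := Module.Finite.of_finite
  have hpp : p.Prime := Fact.out
  set s : M →ₗ[ZMod p] M := (ρ a : M →ₗ[ZMod p] M) - 1 with hs
  have hs0 : s ≠ 0 := sub_one_ne_zero.2 hne
  have hρs : (ρ a : M →ₗ[ZMod p] M) = 1 + s := by rw [hs]; abel
  set G₀ : Subgroup (LinearMap.GeneralLinearGroup (ZMod p) M) := N.map ρ with hG₀
  set P₀ : Subgroup (LinearMap.GeneralLinearGroup (ZMod p) M) := A.map ρ with hP₀
  have hpow : ∀ n : ℕ, ((ρ a ^ n : LinearMap.GeneralLinearGroup (ZMod p) M) : M →ₗ[ZMod p] M) = 1 + (n : ZMod p) • s := by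
    intro n
    rw [Units.val_pow_eq_pow_val, hρs, one_add_pow ha]
  -- `ρ a ∈ G₀`
  have haG : ρ a ∈ G₀ := by
    have h1 : a ^ N.index ∈ N := N.pow_index_mem a
    have h2 : N.index.Coprime p := by
      have h3 : N.index ∣ Nat.card A := by
        rw [← relIndex_top_right, ← hNA, relIndex_sup_left]
        exact relIndex_dvd_card _ _
      exact Nat.Coprime.coprime_dvd_left h3 hpA
    have h3 : ρ a ^ p = 1 := by
      apply Units.ext
      rw [hpow, CharP.cast_eq_zero, zero_smul, add_zero, Units.val_one]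
    obtain ⟨m, hm⟩ := Nat.exists_mul_mod_eq_one_of_coprime h2 hpp.one_lt
    have h4 : ρ a = ρ ((a ^ N.index) ^ m) := by
      rw [map_pow, map_pow, ← pow_mul]
      conv_lhs => rw [← pow_one (ρ a)]
      rw [pow_eq_pow_iff_modEq]
      refine Nat.ModEq.of_dvd (orderOf_dvd_of_pow_eq_one h3) ?_
      unfold Nat.ModEq
      rw [hm.2, Nat.mod_eq_of_lt hpp.one_lt]
    rw [h4]
    exact ⟨_, N.pow_mem h1 m, rfl⟩
  have hQ : QIn G₀ s := by
    refine ⟨ha, fun c => ⟨ρ a ^ c.val, G₀.pow_mem haG _, ?_⟩⟩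
    rw [hpow, ZMod.natCast_val, ZMod.cast_id]
  -- no unipotent normal subgroups
  have hNU : NoUnip G₀ := by
    intro U hU hUn hUu
    obtain ⟨n, hn⟩ := isUnipotentOn_def.1 hUu
    have hUp : ∀ u ∈ U, ∃ k : ℕ, u ^ p ^ k = 1 := by
      intro u hu
      refine exists_pow_eq_one (n := n) ?_
      have h1 := hn (List.replicate n u) (fun g hg => by rw [List.eq_of_mem_replicate hg]; exact hu)
        (List.length_replicate)
      rwa [List.map_replicate, List.prod_replicate] at h1
    set Γ₁ := ρ.range with hΓ₁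
    set N₁ : Subgroup Γ₁ := N.map ρ.rangeRestrict with hN₁
    have hN₁n : N₁.Normal := Normal.map inferInstance _ ρ.rangeRestrict_surjective
    have hcore : pCore p Γ₁ = ⊥ := by
      have h1 := Cfsg.Agent.Lib.Cores.pCore_normal (G := Γ₁) p
      have h2 := hO ((pCore p Γ₁).comap ρ.rangeRestrict) (h1.comap _) (by
        intro g hg
        obtain ⟨k, hk⟩ := Cfsg.Agent.Lib.Cores.pCore_isPGroup (G := Γ₁) p ⟨_, hg⟩
        refine ⟨k, ?_⟩
        have := congrArg (fun t : ↥(pCore p Γ₁) => ((t : Γ₁) : LinearMap.GeneralLinearGroup (ZMod p) M)) hk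
        simpa only [_root_.SubmonoidClass.coe_pow, _root_.MonoidHom.coe_rangeRestrict, _root_.OneMemClass.coe_one] using this)
      rw [eq_bot_iff]
      intro y hy
      obtain ⟨g, rfl⟩ := ρ.rangeRestrict_surjective y
      exact Subtype.ext (h2 g hy)
    have hcoreN : pCore p N₁ = ⊥ := by
      have h1 := Cfsg.Agent.Lib.Cores.map_subtype_pCore p hN₁n
      rw [hcore, inf_bot_eq] at h1
      exact (Subgroup.map_eq_bot_iff_of_injective _ N₁.subtype_injective).1 h1
    let U₁ : Subgroup N₁ := (U.comap Γ₁.subtype).comap N₁.subtype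
    have hU₁n : U₁.Normal := by
      refine ⟨?_⟩
      rintro ⟨⟨x, hxΓ⟩, hxN⟩ hx ⟨⟨g, hgΓ⟩, hgN⟩
      have hgG : g ∈ G₀ := by
        obtain ⟨m, hm, hmg⟩ := hgN
        exact ⟨m, hm, congrArg Subtype.val hmg⟩
      change g * x * g⁻¹ ∈ U
      have h2 : x ∈ U := hx
      have h3 := H731.conj_mem_conjBy h2 g
      rwa [hUn g hgG] at h3
    have hU₁p : IsPGroup p U₁ := by
      rintro ⟨⟨⟨x, hxΓ⟩, hxN⟩, hx⟩
      obtain ⟨k, hk⟩ := hUp x hx
      refine ⟨k, Subtype.ext (Subtype.ext (Subtype.ext ?_))⟩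
      simpa only [_root_.SubmonoidClass.mk_pow, _root_.OneMemClass.coe_one] using hk
    have hU₁ : U₁ = ⊥ := by
      rw [eq_bot_iff, ← hcoreN]
      exact Cfsg.Agent.Lib.Cores.le_pCore hU₁n hU₁p
    rw [eq_bot_iff]
    intro u hu
    obtain ⟨m, hm, hmu⟩ := hU hu
    have h1 : (⟨ρ.rangeRestrict m, m, hm, rfl⟩ : N₁) ∈ U₁ := by
      change ρ m ∈ U
      rw [hmu]; exact hu
    rw [hU₁, mem_bot] at h1
    rw [mem_bot, ← hmu]
    exact congrArg (fun t : N₁ => ((t : Γ₁) : LinearMap.GeneralLinearGroup (ZMod p) M)) h1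
  -- the core
  have hk2 : ringChar (ZMod p) ≠ 2 := by
    rw [ZMod.ringChar_zmod_n]; omega
  have hk3 : Nat.card (ZMod p) ≠ 3 := by
    rw [Nat.card_zmod]; omega
  have hC : Core G₀ := H742.core hk2 hk3
  have hOp := H742.hasOpp_of_noUnip hC hNU
  -- a minimal vector
  obtain ⟨s', hs'⟩ : ∃ s', IsMin G₀ s' := by
    classical
    have hex : ∃ n : ℕ, ∃ s', QIn G₀ s' ∧ s' ≠ 0 ∧ Module.finrank (ZMod p) (LinearMap.range s') = n :=
      ⟨_, s, hQ, hs0, rfl⟩
    obtain ⟨s', h1, h2, h3⟩ := Nat.find_spec hex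
    refine ⟨s', h1, h2, fun N' hN' hN0 => ?_⟩
    rw [h3]
    exact Nat.find_min' hex ⟨N', hN', hN0, rfl⟩
  obtain ⟨φ, hφ1, hφ2, hφ3⟩ := exists_sl2 hp hC hOp P₀ (by
      rintro _ ⟨b, hb, rfl⟩ _ ⟨x, hx, rfl⟩
      rw [← map_inv, ← map_mul, ← map_mul]
      exact ⟨_, Normal.conj_mem inferInstance x hx b, rfl⟩)
    (Nat.Coprime.coprime_dvd_left (PLocal.PConstrained.card_map_dvd ρ A)
      (Nat.Coprime.coprime_dvd_right (PLocal.PConstrained.card_map_dvd ρ N) hcop)) hs'
  refine hinv (lift_inv N A hcop ρ φ hφ2 (fun b hb g => hφ3 _ ⟨b, hb, rfl⟩ g)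
    (QuotientGroup.mk' (center (Matrix.SpecialLinearGroup (Fin 2) (ZMod p)))) (QuotientGroup.mk'_surjective _) ?_)
  rw [QuotientGroup.ker_mk']
  intro g hg
  rw [mem_center_iff]
  intro h
  exact (hφ1 g hg h).symm

/-- auxiliary form of `no_quadratic` with the module structure given -/
theorem no_quadratic_module {Γ : Type*} [Group Γ] [Finite Γ] (hp : 5 ≤ p) (N A : Subgroup Γ) [N.Normal]
    (hcop : (Nat.card A).Coprime (Nat.card N)) (hpA : (Nat.card A).Coprime p) (hNA : N ⊔ A = ⊤)
    (hinv : ¬ _root_.Cfsg.Agent.PLocal.StableOfNotInvolves.Inv ↥(N ⊓ centralizer (A : Set Γ)) (Matrix.ProjectiveSpecialLinearGroup (Fin 2) (ZMod p)))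
    {V : Type*} [CommGroup V] [Finite V] [Module (ZMod p) (Additive V)] (φ : Γ →* MulAut V)
    (hO : ∀ U : Subgroup Γ, U.Normal → (∀ g ∈ U, ∃ k, φ g ^ p ^ k = 1) → ∀ g ∈ U, φ g = 1)
    (a : Γ) (ha : ∀ v, φ a (φ a v * v⁻¹) = φ a v * v⁻¹) : φ a = 1 := by
  have : Finite (Additive V) := inferInstanceAs (Finite V)
  let e1 := Cfsg.Agent.Lib.ElemAbGL.mulAutEquivLinear (V := V) (p := p)
  let e2 := (LinearMap.GeneralLinearGroup.generalLinearEquiv (ZMod p) (Additive V)).symm
  let e : MulAut V ≃* LinearMap.GeneralLinearGroup (ZMod p) (Additive V) := e1.trans e2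
  have he : ∀ (f : MulAut V) (x : Additive V), (e f : Additive V →ₗ[ZMod p] Additive V) x = Additive.ofMul (f x.toMul) :=
    fun f x => rfl
  have key := no_quadratic_lin hp N A hcop hpA hNA hinv (e.toMonoidHom.comp φ) (by
    intro U hU h g hg
    have h1 := hO U hU (by
      intro g hg
      obtain ⟨k, hk⟩ := h g hg
      refine ⟨k, e.injective ?_⟩
      rw [map_pow, map_one]
      exact hk) g hg
    change e (φ g) = 1
    rw [h1, map_one]) a (by
    refine LinearMap.ext fun x => ?_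
    rw [Module.End.mul_apply, LinearMap.sub_apply, LinearMap.sub_apply, Module.End.one_apply, Module.End.one_apply,
      LinearMap.zero_apply, map_sub]
    change (e (φ a) : Additive V →ₗ[ZMod p] Additive V) ((e (φ a) : Additive V →ₗ[ZMod p] Additive V) x) -
      (e (φ a) : Additive V →ₗ[ZMod p] Additive V) x - ((e (φ a) : Additive V →ₗ[ZMod p] Additive V) x - x) = 0
    rw [he, he]
    have h1 := ha x.toMul
    rw [map_mul, map_inv] at h1
    rw [sub_eq_zero]
    exact congrArg Additive.ofMul (by simpa only [div_eq_mul_inv, _root_.toMul_ofMul] using h1))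
  apply e.injective
  rw [map_one]
  exact key

/-- **No quadratic elements**, for automorphisms of an elementary abelian group. -/
theorem no_quadratic {Γ : Type*} [Group Γ] [Finite Γ] (hp : 5 ≤ p) (N A : Subgroup Γ) [N.Normal]
    (hcop : (Nat.card A).Coprime (Nat.card N)) (hpA : (Nat.card A).Coprime p) (hNA : N ⊔ A = ⊤)
    (hinv : ¬ _root_.Cfsg.Agent.PLocal.StableOfNotInvolves.Inv ↥(N ⊓ centralizer (A : Set Γ)) (Matrix.ProjectiveSpecialLinearGroup (Fin 2) (ZMod p)))
    {V : Type*} [Group V] [Finite V] (hVc : ∀ v w : V, v * w = w * v) (hV : ∀ v : V, v ^ p = 1) (φ : Γ →* MulAut V)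
    (hO : ∀ U : Subgroup Γ, U.Normal → (∀ g ∈ U, ∃ k, φ g ^ p ^ k = 1) → ∀ g ∈ U, φ g = 1)
    (a : Γ) (ha : ∀ v, φ a (φ a v * v⁻¹) = φ a v * v⁻¹) : φ a = 1 := by
  let _ : CommGroup V := { (inferInstance : Group V) with mul_comm := hVc }
  have h : ∀ x : Additive V, p • x = 0 := fun x => congrArg Additive.ofMul (hV x.toMul)
  exact @no_quadratic_module p _ Γ _ _ hp N A _ hcop hpA hNA hinv V _ _ (AddCommGroup.zmodModule h) φ hO a ha

end lin

/-- **Stability** from the fixed points of coprime operators. -/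
theorem isPStableOn_of_action {Γ Δ : Type*} [Group Γ] [Finite Γ] [Group Δ] [Finite Δ] {p : ℕ} [Fact p.Prime]
    (hp : 5 ≤ p) (N A : Subgroup Γ) [N.Normal]
    (hcop : (Nat.card A).Coprime (Nat.card N)) (hpA : (Nat.card A).Coprime p) (hNA : N ⊔ A = ⊤)
    (hinv : ¬ Inv ↥(N ⊓ centralizer (A : Set Γ)) (Matrix.ProjectiveSpecialLinearGroup (Fin 2) (ZMod p)))
    (f : Γ →* Δ) (hf : Function.Surjective f) (P : Subgroup Δ) [P.Normal] (hP : IsPGroup p P) :
    IsPStableOn p P := by
  intro a ha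
  by_contra hcon
  obtain ⟨A₁, B, hA₁, hB, hBA, hAP, hchief, hx⟩ :=
    PLocal.ChiefReduction.exists_chief_of_notMem_pCore P hP a hcon
  apply hx
  -- pass to `Δ / B`, `V = A₁ / B`
  let π : Δ →* Δ ⧸ B := QuotientGroup.mk' B
  have hπ : Function.Surjective π := QuotientGroup.mk'_surjective B
  let V : Subgroup (Δ ⧸ B) := A₁.map π
  have hVn : V.Normal := hA₁.map π hπ
  have hVp : IsPGroup p V := (hP.to_le hAP).map π
  have hmin : ∀ N : Subgroup (Δ ⧸ B), N.Normal → N ≤ V → N = ⊥ ∨ N = V := by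
    intro N hN hNV
    have h1 : B ≤ N.comap π := by
      intro b hb
      rw [Subgroup.mem_comap]
      have : π b = 1 := (QuotientGroup.eq_one_iff b).mpr hb
      rw [this]; exact N.one_mem
    have h2 : N.comap π ≤ A₁ := by
      have := Subgroup.comap_mono (f := π) hNV
      rwa [Subgroup.comap_map_eq_self] at this
      rw [QuotientGroup.ker_mk']; exact hBA.le
    have h3 : (N.comap π).map π = N := Subgroup.map_comap_eq_self_of_surjective hπ N
    rcases hchief (N.comap π) (hN.comap π) h1 h2 with h | h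
    · left
      rw [← h3, h, eq_bot_iff]
      rintro _ ⟨b, hb, rfl⟩
      exact (QuotientGroup.eq_one_iff b).mpr hb
    · right
      rw [← h3, h]
  have hVe := PLocal.ChiefReduction.isElementaryAbelian_of_minimal hVn hVp hmin
  let φ : (Δ ⧸ B) →* MulAut V := MulAut.conjNormal
  have hφ : ∀ (g : Δ ⧸ B) (v : V), ((φ g v : V) : Δ ⧸ B) = g * v * g⁻¹ := fun g v =>
    MulAut.conjNormal_apply g v
  have hker : ∀ g : Δ ⧸ B, φ g = 1 ↔ g ∈ Subgroup.centralizer (V : Set (Δ ⧸ B)) := by
    intro g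
    rw [Subgroup.mem_centralizer_iff]
    constructor
    · intro h v hv
      have h1 := hφ g ⟨v, hv⟩
      rw [h] at h1
      have h2 : v = g * v * g⁻¹ := h1
      calc v * g = (g * v * g⁻¹) * g := by rw [← h2]
        _ = g * v := by group
    · intro h
      ext v
      rw [hφ]
      have := h v v.2
      change g * v * g⁻¹ = v
      rw [← this, mul_inv_cancel_right]
  obtain ⟨a', rfl⟩ := hf a
  let ψ : Γ →* MulAut V := φ.comp (π.comp f)
  have hsurj : Function.Surjective (π.comp f) := hπ.comp hf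
  have h1 : ψ a' = 1 := by
    refine no_quadratic hp N A hcop hpA hNA hinv
      (fun x y => Subtype.ext (congrArg Subtype.val (hVe.1.is_comm.comm x y)))
      (fun x => Subtype.ext (by simpa only [_root_.SubmonoidClass.coe_pow, _root_.OneMemClass.coe_one] using hVe.2 x x.2)) ψ ?_ a' ?_
    · intro U hU h g hg
      have h2 := PLocal.ChiefReduction.le_centralizer_of_minimal hVn hVp hmin (R := U.map (π.comp f))
        (hU.map _ hsurj) (by
          rintro _ ⟨g, hg, rfl⟩
          obtain ⟨k, hk⟩ := h g hg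
          refine ⟨k, (hker _).1 ?_⟩
          rw [map_pow]
          exact hk)
      exact (hker _).2 (h2 ⟨g, hg, rfl⟩)
    · rintro ⟨v, x, hxA, rfl⟩
      apply Subtype.ext
      have h1 := PLocal.ActionStable.commute_of_commutator_eq_bot ha x (hAP hxA)
      have h2 : (((φ (π (f a')) ⟨π x, x, hxA, rfl⟩) * (⟨π x, x, hxA, rfl⟩ : V)⁻¹ : V) : Δ ⧸ B) =
          π (⁅x, f a'⁆⁻¹) := by
        rw [commutatorElement_def]
        push_cast
        rw [hφ]
        simp only [map_mul, map_inv]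
        group
      change ((φ (π (f a')) ((φ (π (f a')) ⟨π x, x, hxA, rfl⟩) * (⟨π x, x, hxA, rfl⟩ : V)⁻¹) : V) : Δ ⧸ B)
        = (((φ (π (f a')) ⟨π x, x, hxA, rfl⟩) * (⟨π x, x, hxA, rfl⟩ : V)⁻¹ : V) : Δ ⧸ B)
      have h3 : f a' * ⁅x, f a'⁆⁻¹ * (f a')⁻¹ = ⁅x, f a'⁆⁻¹ := by
        rw [mul_inv_eq_iff_eq_mul]
        have h4 : Commute (f a') ⁅x, f a'⁆ := h1
        exact h4.inv_right.eq
      rw [hφ, h2, ← map_mul, ← map_inv, ← map_mul, h3]
  exact (hker _).mp h1

end Cfsg.Agent.H220.ZjRed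
end

-- part: H220/ZjCon
section
/-!
A finite group with a `p`-constrained normal subgroup of index prime to `p` is `p`-constrained.
-/

set_option autoImplicit false

namespace Cfsg.Agent.H220.ZjCon

open Cfsg Subgroup
open Cfsg.Agent.Lib.Cores

/-- a normal subgroup of index prime to `p` contains all `p`-subgroups -/
theorem le_of_isPGroup {G : Type*} [Group G] [Finite G] {p : ℕ} [Fact p.Prime] {N Q : Subgroup G} [N.Normal]
    (hN : N.index.Coprime p) (hQ : IsPGroup p Q) : Q ≤ N := by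
  intro x hx
  obtain ⟨k, hk⟩ := hQ ⟨x, hx⟩
  have h1 : x ^ p ^ k = 1 := by simpa only [_root_.SubmonoidClass.mk_pow, _root_.OneMemClass.coe_one] using congrArg Subtype.val hk
  have h2 : (QuotientGroup.mk' N x) ^ p ^ k = 1 := by rw [← map_pow, h1, map_one]
  have h3 : (QuotientGroup.mk' N x) ^ N.index = 1 := by
    rw [← map_pow]
    exact (QuotientGroup.eq_one_iff _).2 (N.pow_index_mem x)
  have h4 : orderOf (QuotientGroup.mk' N x) ∣ 1 := by
    have h5 : (p ^ k).Coprime N.index := Nat.Coprime.pow_left _ hN.symm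
    rw [← Nat.Coprime.gcd_eq_one h5]
    exact Nat.dvd_gcd (orderOf_dvd_of_pow_eq_one h2) (orderOf_dvd_of_pow_eq_one h3)
  rw [Nat.dvd_one, orderOf_eq_one_iff] at h4
  exact (QuotientGroup.eq_one_iff x).1 h4

/-- a group with trivial `O_{p'}` and a central subgroup of order a power of `p` and index prime to `p` -/
theorem eq_top_of_central {C : Type*} [Group C] [Finite C] {p : ℕ} [Fact p.Prime] {Z : Subgroup C}
    (hZ : Z ≤ center C) (hZp : IsPGroup p Z) (hidx : Z.index.Coprime p) (hcore : pPrimeCore p C = ⊥) : Z = ⊤ := by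
  have hZn : Z.Normal := ⟨fun z hz g => by
    rw [(mem_center_iff.1 (hZ hz) g), mul_inv_cancel_right]; exact hz⟩
  have hcop : (Nat.card Z).Coprime Z.index := by
    obtain ⟨n, hn⟩ := IsPGroup.iff_card.1 hZp
    rw [hn]
    exact Nat.Coprime.pow_left _ hidx.symm
  obtain ⟨H, hH⟩ := Subgroup.exists_right_complement'_of_coprime hcop
  have hHn : H.Normal := by
    refine ⟨fun x hx g => ?_⟩
    obtain ⟨⟨⟨z, hz⟩, ⟨h, hh⟩⟩, hg⟩ := hH.2 g
    change z * h = g at hg
    have h1 : g * x * g⁻¹ = h * x * h⁻¹ := by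
      have h2 := mem_center_iff.1 (hZ hz) (h * x * h⁻¹)
      rw [← hg, mul_inv_rev]
      calc z * h * x * (h⁻¹ * z⁻¹) = z * (h * x * h⁻¹) * z⁻¹ := by group
        _ = (h * x * h⁻¹) * z * z⁻¹ := by rw [h2]
        _ = h * x * h⁻¹ := by group
    rw [h1]
    exact H.mul_mem (H.mul_mem hh hx) (H.inv_mem hh)
  have hHc : (Nat.card H).Coprime p := by
    rw [← hH.symm.index_eq_card]
    exact hidx
  have hHb : H = ⊥ := by
    rw [eq_bot_iff, ← hcore]
    exact le_pPrimeCore hHn hHc
  rw [hHb] at hH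
  exact isComplement'_bot_right.1 hH

theorem isPConstrained_of_normal {Γ : Type*} [Group Γ] [Finite Γ] {p : ℕ} [Fact p.Prime] (N : Subgroup Γ) [N.Normal]
    (hidx : N.index.Coprime p) (hN : IsPConstrained p N) : IsPConstrained p Γ := by
  set X := pPrimeCore p Γ with hX
  have hXn : X.Normal := Cfsg.Agent.Lib.Cores.pPrimeCore_normal p
  have hXc : (Nat.card X).Coprime p := pPrimeCore_coprime p
  set f : Γ →* Γ ⧸ X := QuotientGroup.mk' X with hf
  have hfs : Function.Surjective f := QuotientGroup.mk'_surjective X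
  rw [PLocal.PConstrained.isPConstrained_iff_of_surjective f hfs (by rw [hf, QuotientGroup.ker_mk']; exact hXc)]
  have hbot : pPrimeCore p (Γ ⧸ X) = ⊥ := pPrimeCore_quotient_pPrimeCore p
  rw [PLocal.PConstrained.isPConstrained_iff_of_pPrimeCore_eq_bot hbot]
  -- the image of `N`
  set N' : Subgroup (Γ ⧸ X) := N.map f with hN'
  have hN'n : N'.Normal := Normal.map inferInstance f hfs
  have hidx' : N'.index.Coprime p := Nat.Coprime.coprime_dvd_left (index_map_dvd N hfs) hidx
  have hcon : IsPConstrained p N' := by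
    refine (PLocal.PConstrained.isPConstrained_iff_of_surjective (f.subgroupMap N)
      (f.subgroupMap_surjective N) ?_).1 hN
    refine Nat.Coprime.coprime_dvd_left ?_ hXc
    have h1 : ((f.subgroupMap N).ker).map N.subtype ≤ X := by
      rintro _ ⟨x, hx, rfl⟩
      have h2 : f x = 1 := congrArg Subtype.val hx
      exact (QuotientGroup.eq_one_iff _).1 h2
    have h2 := card_dvd_of_le h1
    rwa [card_map_of_injective N.subtype_injective] at h2
  have hcore : pPrimeCore p N' = ⊥ := by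
    have h1 := map_subtype_pPrimeCore p hN'n
    rw [hbot, inf_bot_eq] at h1
    exact (Subgroup.map_eq_bot_iff_of_injective _ N'.subtype_injective).1 h1
  rw [PLocal.PConstrained.isPConstrained_iff_of_pPrimeCore_eq_bot hcore] at hcon
  set Q := pCore p (Γ ⧸ X) with hQ
  have hQn : Q.Normal := Cfsg.Agent.Lib.Cores.pCore_normal p
  have hQp : IsPGroup p Q := pCore_isPGroup p
  have hQN : Q ≤ N' := le_of_isPGroup hidx' hQp
  have hQ' : (pCore p N').map N'.subtype = Q := by
    rw [map_subtype_pCore p hN'n]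
    exact inf_of_le_right hQN
  set C := centralizer (Q : Set (Γ ⧸ X)) with hC
  have hCn : C.Normal := normal_centralizer
  have hCN : C ⊓ N' ≤ Q := by
    rintro x ⟨hxC, hxN⟩
    have h1 : (⟨x, hxN⟩ : N') ∈ centralizer (pCore p N' : Set N') := by
      rw [mem_centralizer_iff]
      intro y hy
      apply Subtype.ext
      refine mem_centralizer_iff.1 hxC y ?_
      rw [SetLike.mem_coe, ← hQ']
      exact ⟨y, hy, rfl⟩
    rw [← hQ']
    exact ⟨_, hcon h1, rfl⟩
  -- the central Sylow subgroup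
  set Z : Subgroup C := N'.subgroupOf C with hZ
  have hZtop : Z = ⊤ := by
    refine eq_top_of_central (p := p) ?_ ?_ ?_ ?_
    · intro z hz
      rw [mem_center_iff]
      intro g
      apply Subtype.ext
      have h1 : (z : Γ ⧸ X) ∈ Q := hCN ⟨z.2, hz⟩
      exact (mem_centralizer_iff.1 g.2 z h1).symm
    · have h1 : Z.map C.subtype ≤ Q := by
        rintro _ ⟨z, hz, rfl⟩
        exact hCN ⟨z.2, hz⟩
      have h2 := hQp.to_le h1
      exact h2.of_equiv (Z.equivMapOfInjective _ C.subtype_injective).symm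
    · refine Nat.Coprime.coprime_dvd_left ?_ hidx'
      exact relIndex_dvd_index_of_normal N' C
    · have h1 := map_subtype_pPrimeCore p hCn
      rw [hbot, inf_bot_eq] at h1
      exact (Subgroup.map_eq_bot_iff_of_injective _ C.subtype_injective).1 h1
  intro x hx
  have h1 : (⟨x, hx⟩ : C) ∈ Z := by rw [hZtop]; exact mem_top _
  exact hCN ⟨hx, h1⟩

end Cfsg.Agent.H220.ZjCon
end

-- part: H220/ZjAsm
section
/-!
`G = O_{p'}(G) N_G(Z(J(S)))` for `p`-constrained groups with coprime operators whose fixed points have no section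
`PSL₂(p)` (S3260).
-/

set_option autoImplicit false

namespace Cfsg.Agent.H220.ZjAsm

open Cfsg Subgroup
open Cfsg.Agent.PLocal.StableOfNotInvolves (Inv)

theorem sup_normalizer_eq_top {G : Type*} [Group G] [Finite G] {p : ℕ} [Fact p.Prime] (hp : 5 ≤ p)
    (hG : IsPConstrained p G) (S : Sylow p G) (A : Subgroup (MulAut G)) (hA : (Nat.card A).Coprime (Nat.card G))
    (C : Subgroup G) (hC : ∀ g : G, g ∈ C ↔ ∀ a ∈ A, a g = g)
    (hfix : ¬ _root_.Cfsg.Agent.PLocal.StableOfNotInvolves.Inv C (Matrix.ProjectiveSpecialLinearGroup (Fin 2) (ZMod p))) :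
    pPrimeCore p G ⊔ normalizer (centerThompsonAOf (S : Subgroup G) : Set G) = ⊤ := by
  by_cases hpG : p ∣ Nat.card G
  swap
  · have h1 : pPrimeCore p G = ⊤ := by
      rw [Lib.Cores.pPrimeCore_eq_top_iff, Nat.coprime_comm, Nat.Prime.coprime_iff_not_dvd Fact.out]
      exact hpG
    rw [h1, top_sup_eq]
  have hpA : (Nat.card A).Coprime p := Nat.Coprime.coprime_dvd_right hpG hA
  let Γ := G ⋊[A.subtype] A
  have hfinΓ : Finite Γ := Finite.of_equiv (G × A) SemidirectProduct.equivProd.symm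
  let iG : G →* Γ := SemidirectProduct.inl
  let iA : A →* Γ := SemidirectProduct.inr
  have hiG : Function.Injective iG := SemidirectProduct.inl_injective
  have hiA : Function.Injective iA := SemidirectProduct.inr_injective
  set N : Subgroup Γ := iG.range with hN
  set A' : Subgroup Γ := iA.range with hA'
  have hNn : N.Normal := by
    change (SemidirectProduct.inl : G →* Γ).range.Normal
    rw [SemidirectProduct.range_inl_eq_ker_rightHom]
    infer_instance
  have hcardN : Nat.card N = Nat.card G := Nat.card_congr (MonoidHom.ofInjective hiG).toEquiv.symm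
  have hcardA : Nat.card A' = Nat.card A := Nat.card_congr (MonoidHom.ofInjective hiA).toEquiv.symm
  have hcop : (Nat.card A').Coprime (Nat.card N) := by rw [hcardN, hcardA]; exact hA
  have hpA' : (Nat.card A').Coprime p := by rw [hcardA]; exact hpA
  have hsup : N ⊔ A' = ⊤ := by
    rw [eq_top_iff]
    intro x _
    rw [← SemidirectProduct.inl_left_mul_inr_right x]
    exact mul_mem (mem_sup_left ⟨_, rfl⟩) (mem_sup_right ⟨_, rfl⟩)
  have hidx : N.index.Coprime p := by
    refine Nat.Coprime.coprime_dvd_left ?_ hpA'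
    rw [← relIndex_top_right, ← hsup, relIndex_sup_left]
    exact relIndex_dvd_card _ _
  have hconj : ∀ (a : A) (g : G), iA a * iG g * (iA a)⁻¹ = iG ((a : MulAut G) g) := by
    intro a g
    have := SemidirectProduct.inl_aut (φ := A.subtype) a g
    change iG ((a : MulAut G) g) = iA a * iG g * iA a⁻¹ at this
    rw [this, map_inv]
  have hinv : ¬ _root_.Cfsg.Agent.PLocal.StableOfNotInvolves.Inv ↥(N ⊓ centralizer (A' : Set Γ)) (Matrix.ProjectiveSpecialLinearGroup (Fin 2) (ZMod p)) := by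
    intro h
    apply hfix
    refine h.of_surjective ((iG.comp C.subtype).codRestrict (N ⊓ centralizer (A' : Set Γ)) ?_) ?_
    · rintro ⟨c, hc⟩
      refine ⟨⟨c, rfl⟩, ?_⟩
      change iG c ∈ centralizer (A' : Set Γ)
      rw [mem_centralizer_iff]
      rintro _ ⟨a, rfl⟩
      have h1 := hconj a c
      rw [(hC c).1 hc a a.2, mul_inv_eq_iff_eq_mul] at h1
      exact h1
    · rintro ⟨x, ⟨g, rfl⟩, hx⟩
      refine ⟨⟨g, (hC g).2 fun a ha => ?_⟩, rfl⟩
      have h1 := hconj ⟨a, ha⟩ g
      have h2 := mem_centralizer_iff.1 hx (iA ⟨a, ha⟩) ⟨_, rfl⟩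
      rw [h2, mul_inv_cancel_right] at h1
      exact (hiG h1).symm
  have hconN : IsPConstrained p N :=
    (PLocal.PConstrained.isPConstrained_congr (MonoidHom.ofInjective hiG)).1 hG
  have hconΓ : IsPConstrained p Γ := ZjCon.isPConstrained_of_normal N hidx hconN
  -- the Sylow subgroup
  obtain ⟨S', hS'⟩ := (S.isPGroup'.map iG).exists_le_sylow
  have hS'N : (S' : Subgroup Γ) ≤ N := ZjCon.le_of_isPGroup hidx S'.isPGroup'
  have hSS' : (S : Subgroup G).map iG = S' := by
    have h1 : (S' : Subgroup Γ).comap iG = S := by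
      refine S.3 (S'.isPGroup'.comap_of_injective iG hiG) ?_
      rw [← map_le_iff_le_comap]
      exact hS'
    rw [← h1, map_comap_eq]
    exact inf_of_le_right hS'N
  set Z := centerThompsonAOf (S : Subgroup G) with hZ
  have hZS' : centerThompsonAOf (S' : Subgroup Γ) = Z.map iG := by
    rw [hZ, PLocal.ThompsonJA.map_centerThompsonAOf iG hiG, hSS']
  set X := pPrimeCore p Γ with hX
  have hXn : X.Normal := Cfsg.Agent.Lib.Cores.pPrimeCore_normal p
  have hXc : (Nat.card X).Coprime p := Lib.Cores.pPrimeCore_coprime p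
  have hchar := S0653.result (p := p) (by omega) (PLocal.ZJReduction.centralizer_pCore_quotient_le hconΓ)
    (fun P hP hPp => ZjRed.isPStableOn_of_action hp N A' hcop hpA' hsup hinv (QuotientGroup.mk' X)
      (QuotientGroup.mk'_surjective X) P hPp)
    (S'.mapSurjective (QuotientGroup.mk'_surjective X))
  have hnorm := @Subgroup.normal_of_characteristic _ _ _ hchar
  rw [Sylow.coe_mapSurjective, ← S0667.map_centerThompsonAOf_of_inf_ker] at hnorm
  swap
  · rw [QuotientGroup.ker_mk']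
    exact PLocal.ZJReduction.inf_eq_bot hXc S'.isPGroup'
  have h1 := hnorm.comap (QuotientGroup.mk' X)
  rw [comap_map_eq, QuotientGroup.ker_mk', sup_comm, hZS'] at h1
  have h2 := h1.comap iG
  set K := X.comap iG with hK
  have hKZ : (X ⊔ Z.map iG).comap iG = K ⊔ Z := by
    apply le_antisymm
    · intro g hg
      rw [mem_comap] at hg
      obtain ⟨x, hx, y, ⟨z, hz, rfl⟩, hxy⟩ := mem_sup_of_normal_left.1 hg
      have h3 : g * z⁻¹ ∈ K := by
        rw [hK, mem_comap, map_mul, map_inv, ← hxy, mul_inv_cancel_right]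
        exact hx
      have h4 : g = g * z⁻¹ * z := by group
      rw [h4]
      exact mul_mem (mem_sup_left h3) (mem_sup_right hz)
    · refine sup_le (comap_mono le_sup_left) ?_
      rw [← map_le_iff_le_comap]
      exact le_sup_right
  rw [hKZ] at h2
  have hKn : K.Normal := hXn.comap iG
  have hKc : (Nat.card K).Coprime p := by
    refine Nat.Coprime.coprime_dvd_left ?_ hXc
    rw [← card_map_of_injective hiG]
    exact card_dvd_of_le (map_comap_le _ _)
  have hZp : IsPGroup p Z := by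
    refine S.isPGroup'.to_le ?_
    refine inf_le_left.trans ?_
    exact map_subtype_le _
  have h5 := PLocal.ZJReduction.sup_normalizer_eq_top hKn hKc hZp h2
  rw [eq_top_iff, ← h5]
  exact sup_le_sup_right (Lib.Cores.le_pPrimeCore hKn hKc) _

end Cfsg.Agent.H220.ZjAsm
end

-- part: S3260
section
set_option autoImplicit false
open Cfsg

namespace Cfsg.Agent.S3260

/-- Let p ≥ 5 be a prime, G a finite p-constrained group with Sylow p-subgroup S, and A a group of automorphisms of G of order coprime to |G| whose fixed-point subgroup has no section isomorphic to PSL₂(p). Then G = O_{p'}(G) · N_G(Z(J(S))), where J(S) is the subgroup generated by the abelian subgroups of S of largest order. -/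
theorem result {G : Type*} [Group G] [Finite G] (p : ℕ) [hp : Fact p.Prime] (hp5 : 5 ≤ p)
    (hG : Cfsg.IsPConstrained p G) (S : Sylow p G) (A : Subgroup (MulAut G)) (hA : (Nat.card ↥A).Coprime (Nat.card G))
    (C : Subgroup G) (hC : ∀ g : G, g ∈ C ↔ ∀ a ∈ A, a g = g)
    {F : Type*} [Field F] [Fintype F] (hF : Fintype.card F = p)
    (hfix : ¬ Cfsg.Involves (Matrix.ProjectiveSpecialLinearGroup (Fin 2) F) ↥C) :
    Cfsg.pPrimeCore p G ⊔ Subgroup.normalizer (Cfsg.centerThompsonAOf (S : Subgroup G) : Set G) = ⊤ := by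
  refine H220.ZjAsm.sup_normalizer_eq_top hp5 hG S A hA C hC ?_
  intro h
  apply hfix
  obtain ⟨K, L, hn, -, ⟨e⟩⟩ := h.exists_section
  exact ⟨K, L, hn, ⟨e.trans (LieClassical.FieldTransfer.pslCongr (FiniteField.ringEquivOfCardEq ((ZMod.card p).trans hF.symm)))⟩⟩

end Cfsg.Agent.S3260
end

private theorem dce_48fd0e731a08 : _root_.True := by
  try have : _root_.True := by simp only [_root_.Cfsg.Agent.H220.Zj.three.eq_1]
  try have : _root_.True := by simp only [_root_.Cfsg.Agent.H742.Inv.slHom.congr_simp]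
  exact _root_.True.intro
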