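import Cfsg.Agent.H722.DihP
import Cfsg.Agent.ClassicalGeometry.PSL2Basic
import Cfsg.Prelude.Def_Classification2
import Mathlib
import Cfsg.Prelude.Def_CaseTheorems
import Cfsg.Prelude.Def_Classical
import Cfsg.Agent.LieRecognition.PSUThreeSylow
import Cfsg.Agent.H424.SmallIso
import Cfsg.Agent.S2366
import Cfsg.Agent.S1396
import Cfsg.Agent.H661.SporTable
import Cfsg.Agent.H603.SporElim
import Cfsg.Agent.H720.RowsExc
import Cfsg.Agent.H720.RowsSix
import Cfsg.Agent.S1059
import Cfsg.Agent.S1062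
import Cfsg.Agent.S1063
import Cfsg.Agent.S1065
import Cfsg.Agent.S1066
import Cfsg.Agent.S1067
import Cfsg.Agent.H318.SixTwF
import Cfsg.Agent.OddRank.SzTits
import Cfsg.Agent.LieRecognition.ReeFinal
import Cfsg.Agent.LieRecognition.ReeSplit
import Cfsg.Agent.H153.SixOmega_m3
import Cfsg.Agent.OddTab.GpThree
import Cfsg.Agent.S2678
import Cfsg.Agent.Sigma.Symp
import Cfsg.Agent.Phan.Ext
import Cfsg.Agent.S0281
import Cfsg.Agent.S0283
import Cfsg.Agent.SporadicStructure.U43Herm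
import Cfsg.Agent.H283.SporLie_m3
import Cfsg.Agent.S0255
import Cfsg.Statements.S3275
import Cfsg.Agent.S0000
import Cfsg.Agent.FastGrp
import Cfsg.Agent.Prune
set_option linter.all false

section
prune_inst 0x7ffebcfbaff83ffedfff7e7ffedddffdf9f97fffbfdffbcbffe8e1ff0fdf4b0ef9c56bad1fe850ff0ed6e29c30f87b13fffefeffee6bfc7ffffdfff41ffbff8ffdf6b588719488340fbc0ff703f07f8e7f3fffffffffffffffffffffffffffbeffffffffffff

-- part: H327/D5/Cyc_mg
section
prune_inst 0x14000100180010000000001200002020000000000000000040e0020002010022090028003800040010002000400800000000000000000000000004000000000010800000b108a000000080000000000000000000000000000000000000000000000000000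
set_option linter.all false
open scoped Cfsg.Agent.FastGrp

-- part: H327/D5/Base
section
/-!
# Real elements of prime order at least five

`R5 G`: some element of prime order `p ≥ 5` is inverted by a 2-element.
-/

set_option autoImplicit false

namespace Cfsg.Agent.H327.D5

open Subgroup Cfsg.Agent.H722.RealP

variable {G H : Type*} [Group G] [Group H]

/-- some element of prime order `p ≥ 5` is inverted by a 2-element -/
def R5 (G : Type*) [Group G] : Prop := ∃ p : ℕ, p.Prime ∧ 5 ≤ p ∧ HasReal p G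

theorem inv_ne_self {p : ℕ} (hp : p.Prime) (h5 : 5 ≤ p) {x : G} (hx : orderOf x = p) : x⁻¹ ≠ x := by
  intro h
  have h1 : x ^ 2 = 1 := by
    rw [pow_two]
    nth_rewrite 1 [← h]
    exact inv_mul_cancel x
  have h2 := orderOf_dvd_of_pow_eq_one h1
  rw [hx] at h2
  have := Nat.le_of_dvd (by norm_num) h2
  omega

theorem hasReal_map {p : ℕ} (hp : p.Prime) (h5 : 5 ≤ p) (f : G →* H) (hf : f.ker ≤ center G) (h : HasReal p G) :
    HasReal p H := by
  obtain ⟨x, t, hx, ⟨k, hk⟩, htx⟩ := h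
  have h1 : f x ≠ 1 := by
    intro h1
    have h2 := mem_center_iff.1 (hf h1) t
    apply inv_ne_self hp h5 hx
    rw [← htx, h2]
    group
  refine ⟨f x, f t, ?_, ?_, ?_⟩
  · have : Fact p.Prime := ⟨hp⟩
    exact orderOf_eq_prime (by rw [← map_pow, ← hx, pow_orderOf_eq_one, map_one]) h1
  · have h2 : orderOf (f t) ∣ 2 ^ k := hk ▸ orderOf_map_dvd f t
    obtain ⟨j, -, hj⟩ := (Nat.dvd_prime_pow Nat.prime_two).1 h2
    exact ⟨j, hj⟩
  · rw [← map_inv, ← map_mul, ← map_mul, htx, map_inv]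

theorem R5.map (f : G →* H) (hf : f.ker ≤ center G) (h : R5 G) : R5 H := by
  obtain ⟨p, hp, h5, h⟩ := h
  exact ⟨p, hp, h5, hasReal_map hp h5 f hf h⟩

theorem R5.of_injective (f : G →* H) (hf : Function.Injective f) (h : R5 G) : R5 H :=
  h.map f (by rw [(MonoidHom.ker_eq_bot_iff f).2 hf]; exact bot_le)

theorem R5.congr (e : G ≃* H) (h : R5 G) : R5 H := h.of_injective e.toMonoidHom e.injective

theorem R5.quotient (N : Subgroup G) [N.Normal] (hN : N ≤ center G) (h : R5 G) : R5 (G ⧸ N) :=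
  h.map (QuotientGroup.mk' N) (by rw [QuotientGroup.ker_mk']; exact hN)

theorem R5.of_involves [Finite G] (h : Lib.Involves.Involves G H) (hH : R5 H) : R5 G := by
  obtain ⟨p, hp, h5, hH⟩ := hH
  have : Fact p.Prime := ⟨hp⟩
  exact ⟨p, hp, h5, hH.of_involves (by omega) h⟩

theorem R5.of_surjective [Finite G] (f : G →* H) (hf : Function.Surjective f) (hH : R5 H) : R5 G :=
  hH.of_involves (Lib.Involves.of_surjective f hf)

theorem R5.of_quotient [Finite G] {N : Subgroup G} [N.Normal] (h : R5 (G ⧸ N)) : R5 G :=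
  h.of_surjective (QuotientGroup.mk' N) (QuotientGroup.mk'_surjective N)

/-- real elements -/
theorem R5.of_real [Finite G] {p : ℕ} (hp : p.Prime) (h5 : 5 ≤ p) {x g : G} (hx : x ^ p = 1) (hx1 : x ≠ 1)
    (h : g * x * g⁻¹ = x⁻¹) : R5 G := by
  have : Fact p.Prime := ⟨hp⟩
  exact ⟨p, hp, h5, hasReal_of_isConj (orderOf_eq_prime hx hx1) (isConj_iff.2 ⟨g, h⟩)⟩

/-- real elements, in the form `g x = x⁻¹ g` -/
theorem R5.of_real' [Finite G] {p : ℕ} (hp : p.Prime) (h5 : 5 ≤ p) {x g : G} (hx : x ^ p = 1) (hx1 : x ≠ 1)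
    (h : x * g * x = g) : R5 G := by
  refine R5.of_real hp h5 hx hx1 (g := g) ?_
  have h1 : g * x = x⁻¹ * g := by
    rw [eq_inv_mul_iff_mul_eq, ← mul_assoc]
    exact h
  rw [h1, mul_inv_cancel_right]

/-- the dihedral section -/
theorem R5.exists_dihedral (h : R5 G) : ∃ p : ℕ, p.Prime ∧ 5 ≤ p ∧ Lib.Involves.Involves G (DihedralGroup p) := by
  obtain ⟨p, hp, h5, h⟩ := h
  have : Fact p.Prime := ⟨hp⟩
  exact ⟨p, hp, h5, involves_dihedral (by omega) h⟩

/-- the form of the statement -/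
theorem R5.false_of (h : R5 G) (hD : ∀ p : ℕ, p.Prime → 3 < p → ∀ (H : Subgroup G) (N : Subgroup ↥H) [N.Normal],
    IsEmpty (↥H ⧸ N ≃* DihedralGroup p)) : False := by
  obtain ⟨p, hp, h5, H, f, hf⟩ := h.exists_dihedral
  exact (hD p hp (by omega) H f.ker).false (QuotientGroup.quotientKerEquivOfSurjective f hf)

end Cfsg.Agent.H327.D5
end

-- part: H327/D5/Cyc
section
/-!
# Simple groups with cyclic Sylow `p`-subgroups, `p` a Fermat prime
-/

set_option autoImplicit false

namespace Cfsg.Agent.H327.D5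

open Subgroup Cfsg.Agent.H722.RealP

/-- cyclic Sylow `p`-subgroups of a simple group, `p` a Fermat prime -/
theorem hasReal_of_cyclic {G : Type*} [Group G] [Finite G] (hs : IsSimpleGroup G) (hna : ¬ IsMulCommutative G) {p k : ℕ}
    (hp : p.Prime) (hk : p = 2 ^ k + 1) (hpG : p ∣ Nat.card G) (P : Sylow p G) (hP : IsCyclic P) : HasReal p G := by
  have : Fact p.Prime := ⟨hp⟩
  -- the normalizer does not centralize
  obtain ⟨g, hgN, hgC⟩ : ∃ g ∈ normalizer ((P : Subgroup G) : Set G), g ∉ centralizer ((P : Subgroup G) : Set G) := by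
    by_contra hno
    push Not at hno
    have hle : normalizer ((P : Subgroup G) : Set G) ≤ centralizer ((P : Subgroup G) : Set G) := hno
    have hcomp := MonoidHom.ker_transferSylow_isComplement' P hle
    have hcard := hcomp.card_mul_card
    have hnd := MonoidHom.not_dvd_card_ker_transferSylow P hle
    rcases (MonoidHom.normal_ker (MonoidHom.transferSylow P hle)).eq_bot_or_eq_top with h | h
    · rw [h, card_bot, one_mul] at hcard
      apply hna
      have h1 : (P : Subgroup G) = ⊤ := Subgroup.eq_top_of_card_eq _ hcard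
      have h2 : IsCyclic (⊤ : Subgroup G) := by rw [← h1]; exact hP
      have h3 : IsCyclic G := isCyclic_of_surjective (Subgroup.topEquiv (G := G)) (Subgroup.topEquiv (G := G)).surjective
      exact ⟨⟨fun a b => (IsCyclic.commGroup (α := G)).mul_comm a b⟩⟩
    · rw [h, card_top] at hnd
      exact hnd hpG
  let N : Subgroup G := normalizer ((P : Subgroup G) : Set G)
  let f : N →* MulAut (P : Subgroup G) := normalizerMonoidHom (P : Subgroup G)
  have hf : ∀ (x : N) (y : (P : Subgroup G)), ((f x y : (P : Subgroup G)) : G) = x * (y : G) * (x : G)⁻¹ :=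
    fun x y => rfl
  -- the order of the range
  have hcop : ¬ p ∣ Nat.card f.range := by
    intro h
    have hPN : (P : Subgroup G).subgroupOf N ≤ f.ker := by
      intro x hx
      rw [MonoidHom.mem_ker]
      ext y
      rw [hf, MulAut.one_apply]
      have hx' : (x : G) ∈ (P : Subgroup G) := hx
      have hc := (IsCyclic.commGroup (α := (P : Subgroup G))).mul_comm ⟨x, hx'⟩ y
      have hc' : (x : G) * y = y * x := congrArg Subtype.val hc
      rw [hc', mul_inv_cancel_right]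
    have h1 : p ∣ f.ker.index := by
      rw [Subgroup.index_ker]
      exact h
    have h2 : f.ker.index ∣ ((P : Subgroup G).subgroupOf N).index := Subgroup.index_dvd_of_le hPN
    have h3 : ((P : Subgroup G).subgroupOf N).index ∣ (P : Subgroup G).index := by
      rw [← Subgroup.relIndex]
      exact Subgroup.relIndex_dvd_index_of_le le_normalizer
    exact P.not_dvd_index (h1.trans (h2.trans h3))
  have hcardP : ∃ n, Nat.card P = p ^ n := (IsPGroup.iff_card (p := p)).1 P.isPGroup'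
  obtain ⟨n, hn⟩ := hcardP
  have hrange : Nat.card f.range ∣ 2 ^ k := by
    have h1 : Nat.card f.range ∣ Nat.card (MulAut (P : Subgroup G)) := Subgroup.card_subgroup_dvd_card _
    have h2 : Nat.card (MulAut (P : Subgroup G)) = (p ^ n).totient := by
      rw [IsCyclic.card_mulAut, hn]
    rw [h2] at h1
    have h3 : (p ^ n).totient ∣ p ^ n * 2 ^ k := by
      rcases n with _ | n
      · simp
      · rw [Nat.totient_prime_pow_succ hp, hk, Nat.add_sub_cancel, ← hk]
        exact mul_dvd_mul (pow_dvd_pow p (Nat.le_succ n)) dvd_rfl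
    exact (Nat.Coprime.pow_right n ((Nat.Prime.coprime_iff_not_dvd hp).2 hcop).symm).dvd_of_dvd_mul_left (h1.trans h3)
  let φ : f.range := ⟨f ⟨g, hgN⟩, ⟨_, rfl⟩⟩
  have hφ1 : φ ≠ 1 := by
    intro h
    apply hgC
    rw [mem_centralizer_iff]
    intro y hy
    have h1 : f ⟨g, hgN⟩ = 1 := congrArg Subtype.val h
    have h2 := hf ⟨g, hgN⟩ ⟨y, hy⟩
    rw [h1, MulAut.one_apply] at h2
    exact (eq_mul_inv_iff_mul_eq.1 h2)
  obtain ⟨j, m, hm, hjm⟩ := Nat.exists_eq_two_pow_mul_odd (orderOf_pos g).ne'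
  refine hasReal_of_act (R := (P : Subgroup G)) (t := g ^ m) P.isPGroup' ⟨j, ?_⟩ ?_ ?_
  · rw [orderOf_pow_of_dvd (by rintro rfl; simp at hm) (by rw [hjm]; exact Dvd.intro_left _ rfl), hjm]
    exact Nat.mul_div_cancel _ hm.pos
  · intro y hy
    exact (mem_normalizer_iff.1 (pow_mem hgN m) y).1 hy
  · by_contra hno
    push Not at hno
    have hm1 : φ ^ m = 1 := by
      apply Subtype.ext
      show f ⟨g, hgN⟩ ^ m = 1
      rw [← map_pow]
      ext y
      rw [hf, MulAut.one_apply]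
      exact hno _ y.2
    have h2k : φ ^ 2 ^ k = 1 := by
      apply orderOf_dvd_iff_pow_eq_one.1
      exact (_root_.orderOf_dvd_natCard φ).trans hrange
    have hco : Nat.Coprime (2 ^ k) m := Nat.Coprime.pow_left _ (Nat.coprime_two_left.2 hm)
    have h1 : φ = 1 := by
      have := pow_gcd_eq_one.2 ⟨h2k, hm1⟩
      rwa [hco.gcd_eq_one, pow_one] at this
    exact hφ1 h1

/-- cyclic Sylow 5-subgroups -/
theorem R5.of_cyclic {G : Type*} [Group G] [Finite G] (hs : IsSimpleGroup G) (hna : ¬ IsMulCommutative G)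
    (h5 : 5 ∣ Nat.card G) (h : ∀ P : Sylow 5 G, IsCyclic P) : R5 G := by
  obtain ⟨P⟩ : Nonempty (Sylow 5 G) := inferInstance
  exact ⟨5, by norm_num, le_rfl, hasReal_of_cyclic hs hna (k := 2) (by norm_num) (by norm_num) h5 P (h P)⟩

/-- a cyclic Sylow 5-subgroup, from an element -/
theorem R5.of_orderOf {G : Type*} [Group G] [Finite G] (hs : IsSimpleGroup G) (hna : ¬ IsMulCommutative G)
    (h5 : 5 ∣ Nat.card G) {x : G} (hx : orderOf x = 5 ^ (Nat.card G).factorization 5) : R5 G := by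
  have : Fact (Nat.Prime 5) := ⟨by norm_num⟩
  have hcard : Nat.card ↥(Subgroup.zpowers x) = 5 ^ (Nat.card G).factorization 5 := by rw [Nat.card_zpowers, hx]
  exact ⟨5, by norm_num, le_rfl, hasReal_of_cyclic hs hna (k := 2) (by norm_num) (by norm_num) h5
    (Sylow.ofCard (Subgroup.zpowers x) hcard) (inferInstanceAs (IsCyclic ↥(Subgroup.zpowers x)))⟩

end Cfsg.Agent.H327.D5
end

-- part: H327/D5/SL2
section
/-!
# Real elements of `SL₂(F)`
-/

set_option autoImplicit false

namespace Cfsg.Agent.H327.D5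

open Matrix

variable {F : Type*} [Field F]

/-- entries -/
def en (g : _root_.Matrix.SpecialLinearGroup (Fin 2) F) (i j : Fin 2) : F := (g : Matrix (Fin 2) (Fin 2) F) i j

theorem ext_two {g h : _root_.Matrix.SpecialLinearGroup (Fin 2) F} (h00 : en g 0 0 = en h 0 0) (h01 : en g 0 1 = en h 0 1)
    (h10 : en g 1 0 = en h 1 0) (h11 : en g 1 1 = en h 1 1) : g = h := by
  apply Subtype.ext
  ext i j
  fin_cases i <;> fin_cases j
  · exact h00
  · exact h01
  · exact h10
  · exact h11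

theorem mul00 (g h : _root_.Matrix.SpecialLinearGroup (Fin 2) F) : en (g * h) 0 0 = en g 0 0 * en h 0 0 + en g 0 1 * en h 1 0 := by
  rw [en, Matrix.SpecialLinearGroup.coe_mul, Matrix.mul_apply, Fin.sum_univ_two]; rfl
theorem mul01 (g h : _root_.Matrix.SpecialLinearGroup (Fin 2) F) : en (g * h) 0 1 = en g 0 0 * en h 0 1 + en g 0 1 * en h 1 1 := by
  rw [en, Matrix.SpecialLinearGroup.coe_mul, Matrix.mul_apply, Fin.sum_univ_two]; rfl
theorem mul10 (g h : _root_.Matrix.SpecialLinearGroup (Fin 2) F) : en (g * h) 1 0 = en g 1 0 * en h 0 0 + en g 1 1 * en h 1 0 := by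
  rw [en, Matrix.SpecialLinearGroup.coe_mul, Matrix.mul_apply, Fin.sum_univ_two]; rfl
theorem mul11 (g h : _root_.Matrix.SpecialLinearGroup (Fin 2) F) : en (g * h) 1 1 = en g 1 0 * en h 0 1 + en g 1 1 * en h 1 1 := by
  rw [en, Matrix.SpecialLinearGroup.coe_mul, Matrix.mul_apply, Fin.sum_univ_two]; rfl

theorem det_eq (g : _root_.Matrix.SpecialLinearGroup (Fin 2) F) : en g 0 0 * en g 1 1 - en g 0 1 * en g 1 0 = 1 := by
  have := g.det_coe
  rwa [Matrix.det_fin_two] at this

/-- traceless matrices inverting `g` -/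
theorem exists_of_abc {g : _root_.Matrix.SpecialLinearGroup (Fin 2) F} {a b c : F}
    (hE : a * (en g 0 0 - en g 1 1) + b * en g 1 0 + c * en g 0 1 = 0) (hD : -a ^ 2 - b * c = 1) :
    ∃ h : _root_.Matrix.SpecialLinearGroup (Fin 2) F, g * h * g = h := by
  have hd := det_eq g
  let h : _root_.Matrix.SpecialLinearGroup (Fin 2) F := ⟨!![a, b; c, -a], by rw [Matrix.det_fin_two_of, ← hD]; ring⟩
  have e00 : en h 0 0 = a := rfl
  have e01 : en h 0 1 = b := rfl
  have e10 : en h 1 0 = c := rfl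
  have e11 : en h 1 1 = -a := rfl
  refine ⟨h, ext_two ?_ ?_ ?_ ?_⟩
  · rw [mul00, mul00, mul01, e00, e01, e10, e11]
    linear_combination en g 0 0 * hE + a * hd
  · rw [mul01, mul00, mul01, e00, e01, e10, e11]
    linear_combination en g 0 1 * hE + b * hd
  · rw [mul10, mul10, mul11, e00, e01, e10, e11]
    linear_combination en g 1 0 * hE + c * hd
  · rw [mul11, mul10, mul11, e00, e01, e10, e11]
    linear_combination en g 1 1 * hE - a * hd

/-- powers of an element with double eigenvalue -/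
theorem pow_entry {g : _root_.Matrix.SpecialLinearGroup (Fin 2) F} {ε : F} (hε : ε ^ 2 = 1) (ht : en g 0 0 + en g 1 1 = 2 * ε) (n : ℕ) :
    (en (g ^ (n + 1)) 1 0 = (n + 1) * ε ^ n * en g 1 0) ∧ (en (g ^ (n + 1)) 0 1 = (n + 1) * ε ^ n * en g 0 1) ∧
      (en (g ^ (n + 1)) 0 0 = (n + 1) * ε ^ n * en g 0 0 - n * ε ^ (n + 1)) ∧
      (en (g ^ (n + 1)) 1 1 = (n + 1) * ε ^ n * en g 1 1 - n * ε ^ (n + 1)) := by
  have hd := det_eq g
  induction n with
  | zero => simp only [_root_.zero_add, _root_.pow_one, _root_.Fin.isValue, _root_.Nat.cast_zero, _root_.pow_zero, _root_.mul_one, _root_.one_mul, _root_.MulZeroClass.zero_mul, _root_.sub_zero, _root_.and_self]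
  | succ n ih =>
    obtain ⟨h1, h2, h3, h4⟩ := ih
    rw [pow_succ g (n + 1)]
    refine ⟨?_, ?_, ?_, ?_⟩
    · rw [mul10, h1, h4]
      push_cast
      linear_combination (↑n + 1) * ε ^ n * en g 1 0 * ht
    · rw [mul01, h2, h3]
      push_cast
      linear_combination (↑n + 1) * ε ^ n * en g 0 1 * ht
    · rw [mul00, h2, h3]
      push_cast
      linear_combination (↑n + 1) * ε ^ n * en g 0 0 * ht - (↑n + 1) * ε ^ n * hd + (n + 1) * ε ^ n * hε
    · rw [mul11, h1, h4]
      push_cast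
      linear_combination (↑n + 1) * ε ^ n * en g 1 1 * ht - (↑n + 1) * ε ^ n * hd + (n + 1) * ε ^ n * hε

theorem en_one00 : en (1 : _root_.Matrix.SpecialLinearGroup (Fin 2) F) 0 0 = 1 := rfl
theorem en_one01 : en (1 : _root_.Matrix.SpecialLinearGroup (Fin 2) F) 0 1 = 0 := rfl
theorem en_one10 : en (1 : _root_.Matrix.SpecialLinearGroup (Fin 2) F) 1 0 = 0 := rfl
theorem en_one11 : en (1 : _root_.Matrix.SpecialLinearGroup (Fin 2) F) 1 1 = 1 := rfl

/-- an element of order prime to the characteristic has no double eigenvalue -/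
theorem no_double {p : ℕ} (hp : p.Prime) (h5 : 5 ≤ p) (hpF : (p : F) ≠ 0) {g : _root_.Matrix.SpecialLinearGroup (Fin 2) F}
    (hg : g ^ p = 1) (hg1 : g ≠ 1) {ε : F} (hε : ε ^ 2 = 1) (ht : en g 0 0 + en g 1 1 = 2 * ε) : False := by
  obtain ⟨n, rfl⟩ : ∃ n, p = n + 1 := ⟨p - 1, by omega⟩
  obtain ⟨h1, h2, h3, h4⟩ := pow_entry hε ht n
  rw [hg] at h1 h2 h3 h4
  rw [en_one10] at h1
  rw [en_one01] at h2
  rw [en_one00] at h3
  have hε0 : ε ≠ 0 := by
    rintro rfl
    norm_num at hε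
  have hn : ((n : F) + 1) ≠ 0 := by
    have : ((n + 1 : ℕ) : F) ≠ 0 := hpF
    simpa only [_root_.ne_eq, _root_.Nat.cast_add, _root_.Nat.cast_one] using this
  have hc : (↑n + 1) * ε ^ n ≠ 0 := mul_ne_zero hn (pow_ne_zero _ hε0)
  have hγ : en g 1 0 = 0 := (mul_eq_zero.1 h1.symm).resolve_left hc
  have hβ : en g 0 1 = 0 := (mul_eq_zero.1 h2.symm).resolve_left hc
  have hd := det_eq g
  rw [hγ, hβ] at hd
  have hα : en g 0 0 = ε := by
    have h5 : (en g 0 0 - ε) ^ 2 = 0 := by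
      linear_combination en g 0 0 * ht + hε - hd
    exact sub_eq_zero.1 (pow_eq_zero_iff two_ne_zero |>.1 h5)
  have hδ : en g 1 1 = ε := by linear_combination ht - hα
  have hodd : ε ^ (n + 1) = ε := by
    have h6 : Odd (n + 1) := hp.odd_of_ne_two (by omega)
    obtain ⟨k, hk⟩ := h6
    rw [hk, pow_succ, pow_mul, hε, one_pow, one_mul]
  have h7 : ε = 1 := by
    rw [hα] at h3
    have h8 : (1 : F) = ε ^ (n + 1) := by
      rw [h3]; ring
    rw [← hodd]; exact h8.symm
  apply hg1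
  apply ext_two
  · rw [hα, h7, en_one00]
  · rw [hβ, en_one01]
  · rw [hγ, en_one10]
  · rw [hδ, h7, en_one11]

/-- elements of prime order `≥ 5` prime to the characteristic are real -/
theorem exists_inverting [Fintype F] {p : ℕ} (hp : p.Prime) (h5 : 5 ≤ p) (hpF : (p : F) ≠ 0)
    {g : _root_.Matrix.SpecialLinearGroup (Fin 2) F} (hg : g ^ p = 1) (hg1 : g ≠ 1) :
    ∃ h : _root_.Matrix.SpecialLinearGroup (Fin 2) F, g * h * g = h := by
  have hd := det_eq g
  by_cases hγ : en g 1 0 = 0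
  · have hne : en g 0 0 - en g 1 1 ≠ 0 := by
      intro h
      rw [hγ] at hd
      refine no_double hp h5 hpF hg hg1 (ε := en g 0 0) ?_ ?_
      · linear_combination hd + en g 0 0 * h
      · linear_combination - h
    refine exists_of_abc (a := - en g 0 1 / (en g 0 0 - en g 1 1))
      (b := -(1 + (- en g 0 1 / (en g 0 0 - en g 1 1)) ^ 2)) (c := 1) ?_ ?_
    · rw [div_mul_cancel₀ _ hne, hγ]; ring
    · ring
  · by_cases h2 : (2 : F) = 0
    · refine exists_of_abc (a := 1) (b := -(en g 0 0 - en g 1 1) / en g 1 0) (c := 0) ?_ ?_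
      · rw [div_mul_cancel₀ _ hγ]; ring
      · linear_combination - h2
    · have hD : (en g 0 0 - en g 1 1) ^ 2 + 4 * en g 0 1 * en g 1 0 ≠ 0 := by
        intro h
        refine no_double hp h5 hpF hg hg1 (ε := (en g 0 0 + en g 1 1) / 2) ?_ ?_
        · field_simp
          linear_combination h + 4 * hd
        · field_simp
      have hcard : Fintype.card F % 2 = 1 := FiniteField.odd_card_of_char_ne_two (fun h => h2 (by
        have := ringChar.spec F 2
        have h3 : ringChar F ∣ 2 := by rw [h]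
        have h4 := (ringChar.spec F 2).2 h3
        exact_mod_cast h4))
      obtain ⟨x, y, hxy⟩ := FiniteField.exists_root_sum_quadratic (R := F)
        (f := Polynomial.C (-1) * Polynomial.X ^ 2 + Polynomial.C (-1))
        (g := Polynomial.C ((en g 0 0 - en g 1 1) ^ 2 + 4 * en g 0 1 * en g 1 0) * Polynomial.X ^ 2)
        (by compute_degree! ) (by compute_degree!) hcard
      simp only [Polynomial.eval_add, Polynomial.eval_mul, Polynomial.eval_C, Polynomial.eval_pow, Polynomial.eval_X] at hxy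
      refine exists_of_abc (a := x + (en g 0 0 - en g 1 1) * y)
        (b := -((x + (en g 0 0 - en g 1 1) * y) * (en g 0 0 - en g 1 1) + 2 * en g 1 0 * y * en g 0 1) / en g 1 0)
        (c := 2 * en g 1 0 * y) ?_ ?_
      · rw [div_mul_cancel₀ _ hγ]; ring
      · field_simp
        linear_combination hxy

/-- primes dividing `q² - 1` -/
theorem r5_sl2_of_dvd [Fintype F] {p : ℕ} (hp : p.Prime) (h5 : 5 ≤ p) (hd : p ∣ Fintype.card F ^ 2 - 1) :
    R5 (_root_.Matrix.SpecialLinearGroup (Fin 2) F) := by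
  have : Fact p.Prime := ⟨hp⟩
  have hpF : (p : F) ≠ 0 := by
    intro h
    have h1 : ringChar F ∣ p := (ringChar.spec F p).1 h
    obtain ⟨k, hk, hq⟩ := FiniteField.card F (ringChar F)
    have h2 : ringChar F = p := ((Nat.prime_dvd_prime_iff_eq hk hp).1 h1)
    have h3 : p ∣ Fintype.card F ^ 2 := by
      rw [hq, h2]
      exact dvd_pow (dvd_pow_self p (PNat.ne_zero _)) two_ne_zero
    have h4 : 1 ≤ Fintype.card F ^ 2 := Nat.one_le_pow _ _ Fintype.card_pos
    have h6 := (Nat.dvd_sub h3 hd)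
    rw [Nat.sub_sub_self h4] at h6
    exact hp.one_lt.ne' (Nat.dvd_one.1 h6)
  have h1 : p ∣ Nat.card (_root_.Matrix.SpecialLinearGroup (Fin 2) F) := by
    rw [ClassicalGeometry.PSL2Basic.card_SL2]
    exact hd.mul_left _
  obtain ⟨g, hg⟩ := exists_prime_orderOf_dvd_card' p h1
  have hg1 : g ^ p = 1 := by rw [← hg, pow_orderOf_eq_one]
  have hg2 : g ≠ 1 := by
    rintro rfl
    rw [orderOf_one] at hg
    omega
  obtain ⟨h, hh⟩ := exists_inverting hp h5 hpF hg1 hg2
  exact R5.of_real' hp h5 hg1 hg2 hh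

/-! ### Arithmetic -/

theorem smooth {n : ℕ} (hn : n ≠ 0) (h : ∀ p : ℕ, p.Prime → 5 ≤ p → ¬ p ∣ n) : ∃ a b : ℕ, n = 2 ^ a * 3 ^ b := by
  induction n using Nat.strong_induction_on with
  | _ n ih =>
    by_cases h1 : n = 1
    · exact ⟨0, 0, by rw [h1]; norm_num⟩
    · have hp := Nat.minFac_prime h1
      have hd := Nat.minFac_dvd n
      obtain ⟨m, hm⟩ := hd
      have hm0 : m ≠ 0 := by
        rintro rfl
        rw [mul_zero] at hm
        exact hn hm
      have hlt : m < n := by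
        have h2 := hp.two_le
        have h3 : 2 * m ≤ n := by
          calc 2 * m ≤ n.minFac * m := Nat.mul_le_mul_right m h2
            _ = n := hm.symm
        omega
      obtain ⟨a, b, hab⟩ := ih m hlt hm0 (fun p hp' h5 hd => h p hp' h5 (hm ▸ hd.mul_left _))
      have h2 : n.minFac = 2 ∨ n.minFac = 3 := by
        have h5 : ¬ 5 ≤ n.minFac := fun h5 => h _ hp h5 (Nat.minFac_dvd n)
        have h3 := hp.two_le
        have h4 : n.minFac ≠ 4 := fun h4 => by rw [h4] at hp; exact absurd hp (by norm_num)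
        omega
      rcases h2 with h2 | h2
      · exact ⟨a + 1, b, by rw [hm, h2, hab]; ring⟩
      · exact ⟨a, b + 1, by rw [hm, h2, hab]; ring⟩

theorem two_three {a d : ℕ} (h : 2 ^ a + 1 = 3 ^ d) : a = 1 ∨ a = 3 := by
  have h3 : 3 ^ d % 80 = 1 ∨ 3 ^ d % 80 = 3 ∨ 3 ^ d % 80 = 9 ∨ 3 ^ d % 80 = 27 := by
    clear h
    induction d with
    | zero => left; norm_num
    | succ d ih => rw [pow_succ]; (solve | lia | omega)
  rcases Nat.lt_or_ge a 4 with ha | ha
  · interval_cases a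
    · exfalso; norm_num at h; omega
    · left; rfl
    · exfalso; norm_num at h; omega
    · right; rfl
  · exfalso
    obtain ⟨b, rfl⟩ := Nat.exists_eq_add_of_le ha
    have h5 : 2 ^ (4 + b) % 5 ≠ 0 := by
      intro h6
      have := (Nat.Prime.dvd_of_dvd_pow (by norm_num : Nat.Prime 5) (Nat.dvd_of_mod_eq_zero h6))
      revert this; norm_num
    rw [pow_add] at h h5
    omega

theorem three_two {b c : ℕ} (h : 3 ^ b + 1 = 2 ^ c) : b ≤ 1 := by
  have h3 : 3 ^ b % 8 = 1 ∨ 3 ^ b % 8 = 3 := by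
    clear h
    induction b with
    | zero => left; norm_num
    | succ d ih => rw [pow_succ]; (clear * - ih; solve | lia | omega)
  have hc : c ≤ 2 := by
    by_contra hc
    obtain ⟨k, rfl⟩ := Nat.exists_eq_add_of_le (show 3 ≤ c by omega)
    rw [pow_add] at h
    omega
  have h4 : 2 ^ c ≤ 2 ^ 2 := Nat.pow_le_pow_right (by norm_num) hc
  by_contra hb
  have h5 : 3 ^ 2 ≤ 3 ^ b := Nat.pow_le_pow_right (by norm_num) (by omega)
  omega

/-- consecutive numbers without prime factors `≥ 5` -/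
theorem smooth_pair {k : ℕ} (hk : 2 ≤ k) (h : ∀ p : ℕ, p.Prime → 5 ≤ p → ¬ p ∣ k * (k + 1)) :
    k = 2 ∨ k = 3 ∨ k = 8 := by
  obtain ⟨a, b, hab⟩ := smooth (n := k) (by omega) (fun p hp h5 hd => h p hp h5 (hd.mul_right _))
  obtain ⟨c, d, hcd⟩ := smooth (n := k + 1) (by omega) (fun p hp h5 hd => h p hp h5 (hd.mul_left _))
  have h2 : a = 0 ∨ c = 0 := by
    by_contra hc
    push Not at hc
    have h3 : 2 ∣ k := by rw [hab]; exact (dvd_pow_self 2 hc.1).mul_right _
    have h4 : 2 ∣ k + 1 := by rw [hcd]; exact (dvd_pow_self 2 hc.2).mul_right _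
    omega
  have h3 : b = 0 ∨ d = 0 := by
    by_contra hc
    push Not at hc
    have h3 : 3 ∣ k := by rw [hab]; exact (dvd_pow_self 3 hc.1).mul_left _
    have h4 : 3 ∣ k + 1 := by rw [hcd]; exact (dvd_pow_self 3 hc.2).mul_left _
    omega
  rcases h2 with rfl | rfl <;> rcases h3 with rfl | rfl
  · norm_num at hab; omega
  · -- k = 3 ^ b
    norm_num at hab hcd
    rw [hab] at hcd
    have := three_two hcd
    interval_cases b
    · norm_num at hab; omega
    · right; left; omega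
  · norm_num at hab hcd
    rw [hab] at hcd
    rcases two_three hcd with rfl | rfl
    · left; omega
    · right; right; omega
  · norm_num at hcd
    omega

theorem exists_prime_or {q : ℕ} (hq : IsPrimePow q) (h4 : 4 ≤ q) :
    (∃ p : ℕ, p.Prime ∧ 5 ≤ p ∧ p ∣ q ^ 2 - 1) ∨ q = 5 ∨ q = 7 ∨ q = 17 := by
  by_contra hcon
  push Not at hcon
  obtain ⟨hp, h5, h7, h17⟩ := hcon
  have h1 : q ^ 2 - 1 = (q - 1) * (q + 1) := by
    obtain ⟨r, rfl⟩ : ∃ r, q = r + 1 := ⟨q - 1, by omega⟩
    have : (r + 1) ^ 2 = r * (r + 2) + 1 := by ring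
    rw [this, Nat.add_sub_cancel, Nat.add_sub_cancel]
  rcases Nat.even_or_odd q with he | ho
  · obtain ⟨p, n, hpp, hn, rfl⟩ := (isPrimePow_nat_iff _).1 hq
    have hp2 : p = 2 := by
      have := (Nat.even_pow.1 he).1
      exact (hpp.even_iff).1 this
    subst hp2
    obtain ⟨a, b, hab⟩ := smooth (n := (2 ^ n) ^ 2 - 1) (by
      have : 4 ^ 2 ≤ (2 ^ n) ^ 2 := Nat.pow_le_pow_left h4 2
      omega) (fun p hp' h5' hd => hp p hp' h5' hd)
    have h16 : 4 ^ 2 ≤ (2 ^ n) ^ 2 := Nat.pow_le_pow_left h4 2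
    have ha : a = 0 := by
      by_contra ha
      have h2 : 2 ∣ (2 ^ n) ^ 2 - 1 := by rw [hab]; exact (dvd_pow_self 2 ha).mul_right _
      have h3 : 2 ∣ (2 ^ n) ^ 2 := dvd_pow (dvd_pow_self 2 hn.ne') two_ne_zero
      omega
    subst ha
    rw [pow_zero, one_mul] at hab
    have h6 : 3 ^ b + 1 = 2 ^ (n * 2) := by rw [pow_mul]; omega
    have h7 := three_two h6
    rw [pow_mul] at h6
    have h8 : 3 ^ b ≤ 3 ^ 1 := Nat.pow_le_pow_right (by norm_num) h7
    omega
  · obtain ⟨k, rfl⟩ := ho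
    rcases smooth_pair (k := k) (by omega) (fun p hp' h5' hd => hp p hp' h5' (by
      rw [h1]
      have h2 : (2 * k + 1 - 1) * (2 * k + 1 + 1) = 4 * (k * (k + 1)) := by
        rw [Nat.add_sub_cancel]; ring
      rw [h2]
      exact hd.mul_left _)) with h | h | h <;> (clear * - h5 h7 h17 h; omega)

/-- unipotent elements, `q ≡ 1 mod 4` -/
theorem r5_sl2_uni [Fintype F] (hp : (Fintype.card F).Prime) (h5 : 5 ≤ Fintype.card F)
    (h4 : Fintype.card F % 4 = 1) : R5 (_root_.Matrix.SpecialLinearGroup (Fin 2) F) := by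
  obtain ⟨i, hi⟩ := (FiniteField.isSquare_neg_one_iff (F := F)).2 (by omega)
  have hi0 : i ≠ 0 := by
    rintro rfl
    norm_num at hi
  have hii : i * i⁻¹ = 1 := mul_inv_cancel₀ hi0
  let u : _root_.Matrix.SpecialLinearGroup (Fin 2) F := ⟨!![1, 1; 0, 1], by rw [Matrix.det_fin_two_of]; ring⟩
  let h : _root_.Matrix.SpecialLinearGroup (Fin 2) F := ⟨!![i, 0; 0, i⁻¹], by rw [Matrix.det_fin_two_of, hii]; ring⟩
  have u00 : en u 0 0 = 1 := rfl
  have u01 : en u 0 1 = 1 := rfl
  have u10 : en u 1 0 = 0 := rfl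
  have u11 : en u 1 1 = 1 := rfl
  have h00 : en h 0 0 = i := rfl
  have h01 : en h 0 1 = 0 := rfl
  have h10 : en h 1 0 = 0 := rfl
  have h11 : en h 1 1 = i⁻¹ := rfl
  have hinv : i⁻¹ = - i := by
    rw [inv_eq_iff_eq_inv, ← mul_left_cancel₀ hi0 (b := i) (c := (-i)⁻¹)]
    rw [← mul_right_inj' hi0]
    rw [← hi]
    field_simp
  refine R5.of_real' hp h5 (x := u) (g := h) ?_ ?_ ?_
  · obtain ⟨n, hn⟩ : ∃ n, Fintype.card F = n + 1 := ⟨Fintype.card F - 1, by omega⟩
    have hc : ((n : F) + 1) = 0 := by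
      have h1 : ((Fintype.card F : ℕ) : F) = 0 := FiniteField.cast_card_eq_zero F
      rw [hn] at h1
      simpa only [_root_.Nat.cast_add, _root_.Nat.cast_one] using h1
    obtain ⟨h1, h2, h3, h4⟩ := pow_entry (g := u) (ε := 1) (by ring) (by rw [u00, u11]; ring) n
    rw [hn]
    apply ext_two
    · rw [h3, u00, hc, en_one00]
      linear_combination - hc
    · rw [h2, u01, hc, en_one01]; ring
    · rw [h1, u10, en_one10]; ring
    · rw [h4, u11, hc, en_one11]
      linear_combination - hc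
  · intro h1
    have h2 := congrArg (fun g => en g 0 1) h1
    simp only [u01, en_one01] at h2
    exact one_ne_zero h2
  · apply ext_two
    · rw [mul00, mul00, mul01, u00, u01, u10, h00, h01, h10, h11]; ring
    · rw [mul01, mul00, mul01, u00, u01, u11, h00, h01, h10, h11, hinv]; ring
    · rw [mul10, mul10, mul11, u00, u10, u11, h00, h01, h10, h11]; ring
    · rw [mul11, mul10, mul11, u01, u10, u11, h00, h01, h10, h11]; ring

/-- **`SL₂(q)`**, `q ≥ 4`, `q ≠ 7` -/
theorem r5_sl2 [Fintype F] (h4 : 4 ≤ Fintype.card F) (h7 : Fintype.card F ≠ 7) :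
    R5 (_root_.Matrix.SpecialLinearGroup (Fin 2) F) := by
  rcases exists_prime_or (FiniteField.isPrimePow_card F) h4 with ⟨p, hp, h5, hd⟩ | h | h | h
  · exact r5_sl2_of_dvd hp h5 hd
  · exact r5_sl2_uni (by rw [h]; norm_num) (by omega) (by rw [h])
  · exact absurd h h7
  · exact r5_sl2_uni (by rw [h]; norm_num) (by omega) (by rw [h])

end Cfsg.Agent.H327.D5
end

-- part: H327/D5/PSL
section
/-!
# Real elements of `PSL_n(F)`
-/

set_option autoImplicit false

namespace Cfsg.Agent.H327.D5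

open Matrix

section

variable {F : Type*} [Field F]

/-- the index equivalence -/
def eqn {k n : ℕ} (h : k ≤ n) : Fin k ⊕ Fin (n - k) ≃ Fin n :=
  finSumFinEquiv.trans (finCongr (by omega))

/-- block embedding -/
def emb {k n : ℕ} (h : k ≤ n) : Matrix.SpecialLinearGroup (Fin k) F →* Matrix.SpecialLinearGroup (Fin n) F where
  toFun g := ⟨(fromBlocks (g : Matrix (Fin k) (Fin k) F) 0 0
      (1 : Matrix (Fin (n - k)) (Fin (n - k)) F)).submatrix (eqn h).symm (eqn h).symm, by
    rw [det_submatrix_equiv_self, det_fromBlocks_zero₂₁, det_one, mul_one]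
    exact g.det_coe⟩
  map_one' := by
    apply Subtype.ext
    change (fromBlocks (1 : Matrix (Fin k) (Fin k) F) 0 0 1).submatrix (eqn h).symm (eqn h).symm = 1
    rw [fromBlocks_one, submatrix_one_equiv]
  map_mul' g g' := by
    apply Subtype.ext
    change (fromBlocks ((g : Matrix (Fin k) (Fin k) F) * (g' : Matrix (Fin k) (Fin k) F)) 0 0 1).submatrix
        (eqn h).symm (eqn h).symm =
      (fromBlocks (g : Matrix (Fin k) (Fin k) F) 0 0 1).submatrix (eqn h).symm (eqn h).symm *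
        (fromBlocks (g' : Matrix (Fin k) (Fin k) F) 0 0 1).submatrix (eqn h).symm (eqn h).symm
    rw [submatrix_mul_equiv, fromBlocks_multiply]
    simp only [_root_.Matrix.mul_zero, _root_.add_zero, _root_.Matrix.mul_one, _root_.Matrix.zero_mul, _root_.mul_one, _root_.zero_add]

theorem emb_apply {k n : ℕ} (h : k ≤ n) (g : Matrix.SpecialLinearGroup (Fin k) F) (i j : Fin k) :
    (emb h g : Matrix (Fin n) (Fin n) F) (eqn h (Sum.inl i)) (eqn h (Sum.inl j)) =
      (g : Matrix (Fin k) (Fin k) F) i j := by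
  change (fromBlocks (g : Matrix (Fin k) (Fin k) F) 0 0 1).submatrix (eqn h).symm (eqn h).symm _ _ = _
  rw [submatrix_apply, Equiv.symm_apply_apply, Equiv.symm_apply_apply, fromBlocks_apply₁₁]

theorem emb_injective {k n : ℕ} (h : k ≤ n) : Function.Injective (emb (F := F) h) := by
  intro g g' hg
  apply Subtype.ext
  ext i j
  have h1 := emb_apply h g i j
  rw [hg, emb_apply h g' i j] at h1
  exact h1.symm

/-- from `SL_k` to `PSL_n` -/
theorem r5_psl_of {k n : ℕ} (h : k ≤ n) (h5 : R5 (Matrix.SpecialLinearGroup (Fin k) F)) :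
    R5 (ProjectiveSpecialLinearGroup (Fin n) F) :=
  (h5.of_injective (emb h) (emb_injective h)).quotient _ le_rfl

/-- the element of order five -/
def c4 : Matrix.SpecialLinearGroup (Fin 4) ℤ :=
  ⟨!![0, 0, 0, -1; 1, 0, 0, -1; 0, 1, 0, -1; 0, 0, 1, -1], by decide +kernel⟩

/-- the inverting element -/
def t4 : Matrix.SpecialLinearGroup (Fin 4) ℤ :=
  ⟨!![1, -1, 0, 0; 0, -1, 0, 0; 0, -1, 0, 1; 0, -1, 1, 0], by decide +kernel⟩

theorem c4_pow : c4 ^ 5 = 1 := by
  apply Subtype.ext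
  decide +kernel

theorem c4_t4 : c4 * t4 * c4 = t4 := by
  apply Subtype.ext
  decide +kernel

theorem r5_sl4 [Finite F] : R5 (Matrix.SpecialLinearGroup (Fin 4) F) := by
  refine R5.of_real' (p := 5) (by norm_num) le_rfl (x := Matrix.SpecialLinearGroup.map (Int.castRingHom F) c4)
    (g := Matrix.SpecialLinearGroup.map (Int.castRingHom F) t4) ?_ ?_ ?_
  · rw [← map_pow, c4_pow, map_one]
  · intro h
    have h1 := congrArg (fun g : Matrix.SpecialLinearGroup (Fin 4) F => (g : Matrix (Fin 4) (Fin 4) F) 1 0) h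
    change ((1 : ℤ) : F) = (1 : Matrix (Fin 4) (Fin 4) F) 1 0 at h1
    rw [Matrix.one_apply_ne (by decide), Int.cast_one] at h1
    exact one_ne_zero h1
  · rw [← map_mul, ← map_mul, c4_t4]

theorem u_pow (n : ℕ) : (!![1, 1, 0; 0, 1, 0; 0, 0, 1] : Matrix (Fin 3) (Fin 3) F) ^ n =
    !![1, (n : F), 0; 0, 1, 0; 0, 0, 1] := by
  induction n with
  | zero =>
    rw [pow_zero, Nat.cast_zero]
    ext i j; fin_cases i <;> fin_cases j <;> rfl
  | succ n ih =>
    rw [pow_succ, ih]
    ext i j; (revert i j; simp only [Matrix.mul_apply, Fin.sum_univ_three, _root_.Fin.forall_fin_succ, _root_.Matrix.of_apply, _root_.Matrix.cons_val', _root_.Matrix.cons_val_fin_one, Fin.isValue, _root_.Matrix.cons_val_zero, _root_.Matrix.cons_val_one, _root_.Matrix.cons_val, _root_.Nat.cast_add, _root_.Nat.cast_one, _root_.mul_one, _root_.MulZeroClass.mul_zero, _root_.add_zero, _root_.Matrix.cons_val_succ, _root_.zero_add, _root_.implies_true, _root_.and_true, _root_.true_and,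 _root_.add_eq_right, _root_.and_self]) <;> (repeat' with_reducible apply And.intro) <;> ring

/-- unipotent elements of `SL₃(F)` -/
theorem r5_sl3_uni [Fintype F] (hp : (Fintype.card F).Prime) (h5 : 5 ≤ Fintype.card F) :
    R5 (Matrix.SpecialLinearGroup (Fin 3) F) := by
  let u : Matrix.SpecialLinearGroup (Fin 3) F := ⟨!![1, 1, 0; 0, 1, 0; 0, 0, 1], by
    simp [Matrix.det_fin_three]⟩
  let h : Matrix.SpecialLinearGroup (Fin 3) F := ⟨!![-1, 0, 0; 0, 1, 0; 0, 0, -1], by
    simp [Matrix.det_fin_three]⟩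
  refine R5.of_real' hp h5 (x := u) (g := h) ?_ ?_ ?_
  · apply Subtype.ext
    change (!![1, 1, 0; 0, 1, 0; 0, 0, 1] : Matrix (Fin 3) (Fin 3) F) ^ (Fintype.card F) = 1
    rw [u_pow, FiniteField.cast_card_eq_zero]
    ext i j; fin_cases i <;> fin_cases j <;> rfl
  · intro h1
    have h2 := congrArg (fun g : Matrix.SpecialLinearGroup (Fin 3) F => (g : Matrix (Fin 3) (Fin 3) F) 0 1) h1
    change (1 : F) = (1 : Matrix (Fin 3) (Fin 3) F) 0 1 at h2
    rw [Matrix.one_apply_ne (by decide)] at h2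
    exact one_ne_zero h2
  · apply Subtype.ext
    change !![(1 : F), 1, 0; 0, 1, 0; 0, 0, 1] * !![-1, 0, 0; 0, 1, 0; 0, 0, -1] * !![1, 1, 0; 0, 1, 0; 0, 0, 1] =
      !![-1, 0, 0; 0, 1, 0; 0, 0, -1]
    ext i j; (revert i j; simp only [Matrix.mul_apply, Fin.sum_univ_three, _root_.Fin.forall_fin_succ, _root_.Matrix.cons_mul, _root_.Nat.succ_eq_add_one, Nat.reduceAdd, _root_.Matrix.vecMul_cons, _root_.Matrix.head_cons, _root_.one_smul, _root_.Matrix.tail_cons, _root_.zero_smul, _root_.Matrix.empty_vecMul, _root_.add_zero, _root_.Matrix.add_cons, _root_.zero_add, _root_.Matrix.empty_add_empty, _root_.Matrix.empty_mul, _root_.Equiv.symm_apply_apply, _root_.Matrix.of_apply, _root_.Matrix.cons_val', _root_.Matrix.cons_val_fin_one, Fin.isValue, _root_.Matrix.cons_val_zero, _root_.Matrix.cons_val_one, _root_.Matrix.cons_val, _root_.mul_one, _root_.MulZeroClass.mul_zero, _root_.Matrix.cons_val_succ, _root_.implies_true, _root_.and_true, _root_.true_and, _root_.neg_add_cancel,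 _root_.add_eq_right, _root_.and_self])

/-- **`PSL_n(q)`** -/
theorem r5_psl [Fintype F] {n : ℕ} (hn : 2 ≤ n) (h2 : n = 2 → 4 ≤ Fintype.card F ∧ Fintype.card F ≠ 7)
    (h3 : n = 3 → 4 ≤ Fintype.card F) : R5 (ProjectiveSpecialLinearGroup (Fin n) F) := by
  rcases Nat.lt_or_ge n 4 with h | h
  · by_cases h7 : Fintype.card F = 7
    · have hn3 : n = 3 := by
        have : n ≠ 2 := fun h => (h2 h).2 h7
        omega
      exact r5_psl_of (k := 3) (by omega) (r5_sl3_uni (by rw [h7]; norm_num) (by omega))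
    · refine r5_psl_of hn (r5_sl2 ?_ h7)
      have h4 : n = 2 ∨ n = 3 := by omega
      rcases h4 with h4 | h4
      · exact (h2 h4).1
      · exact h3 h4
  · exact r5_psl_of h r5_sl4

end

/-! ### The alternating groups -/

theorem exists_five : ∃ g t : Equiv.Perm (Fin 5), g ^ 5 = 1 ∧ g ≠ 1 ∧ g * t * g = t ∧ Equiv.Perm.sign g = 1 ∧
    Equiv.Perm.sign t = 1 :=
  ⟨Equiv.swap (0 : Fin 5) 1 * Equiv.swap (1 : Fin 5) 2 * Equiv.swap (2 : Fin 5) 3 * Equiv.swap (3 : Fin 5) 4, Equiv.swap (1 : Fin 5) 4 * Equiv.swap (2 : Fin 5) 3, by decide,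
    by decide, by decide, by decide, by decide⟩

theorem r5_alt {n : ℕ} (hn : 5 ≤ n) : R5 (alternatingGroup (Fin n)) := by
  let ι : Fin 5 ↪ Fin n := Fin.castLEEmb hn
  let f := Equiv.Perm.viaEmbeddingHom ι
  have hf : Function.Injective f := Equiv.Perm.viaEmbeddingHom_injective ι
  have hs : ∀ σ : Equiv.Perm (Fin 5), Equiv.Perm.sign (f σ) = Equiv.Perm.sign σ := by
    intro σ
    let _inst : DecidablePred (fun b => b ∈ Set.range ι.1) := fun _ => Classical.propDecidable _
    exact Equiv.Perm.sign_extendDomain _ _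
  obtain ⟨g, t, h1, h2, h3, h4, h5⟩ := exists_five
  have hg : f g ∈ alternatingGroup (Fin n) := by rw [Equiv.Perm.mem_alternatingGroup, hs, h4]
  have ht : f t ∈ alternatingGroup (Fin n) := by rw [Equiv.Perm.mem_alternatingGroup, hs, h5]
  refine R5.of_real' (p := 5) (by norm_num) le_rfl (x := ⟨f g, hg⟩) (g := ⟨f t, ht⟩) (Subtype.ext ?_) ?_
    (Subtype.ext ?_)
  · change f g ^ 5 = 1
    rw [← map_pow, h1, map_one]
  · intro h
    have h' : f g = 1 := congrArg Subtype.val h
    exact h2 (hf (by rw [h', map_one]))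
  · change f g * f t * f g = f t
    rw [← map_mul, ← map_mul, h3]

end Cfsg.Agent.H327.D5
end

private theorem dce_53317bda6145 : _root_.True := by
  try have : _root_.True := by simp only [_root_.Cfsg.Agent.H327.D5.eqn.congr_simp]
  try have : _root_.True := by simp only [_root_.Cfsg.Agent.H327.D5.en.eq_1]
  exact _root_.True.intro
end

-- part: S3275
section
prune_inst 0x1004000000020000000000000000000000040000000000000000000000000000000000002000020000000000040000100000004000000000000000000500000000000000000000060008000000000000000000000000000000000000000000000000000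
set_option linter.all false
open scoped Cfsg.Agent.FastGrp

-- part: H327/D5/Three
section
/-!
# The 3-rank of `L₃(3)` and `U₃(3)`
-/

set_option autoImplicit false
set_option linter.unusedSectionVars false

namespace Cfsg.Agent.H327.D5.Three

open Matrix Subgroup

/-! ### groups with nonabelian Sylow 3-subgroup of order 27 -/

theorem pRankLE_two {G : Type*} [Group G] [Finite G] {m : ℕ} (hm : ¬ 3 ∣ m) (hG : Nat.card G = 27 * m)
    (U : Subgroup G) (hU : IsPGroup 3 U) {x y : G} (hx : x ∈ U) (hy : y ∈ U) (hxy : x * y ≠ y * x) :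
    Cfsg.PRankLE 3 2 G := by
  intro A hA h3
  have : Fact (Nat.Prime 3) := ⟨Nat.prime_three⟩
  have hAp : IsPGroup 3 A := fun a => ⟨1, by rw [pow_one]; exact Subtype.ext (h3 a a.2)⟩
  obtain ⟨k, hk⟩ := hAp.exists_card_eq
  rw [hk]
  refine Nat.pow_le_pow_right (by norm_num) ?_
  by_contra hlt
  have hk3 : k ≤ 3 := by
    have h1 : 3 ^ k ∣ 3 ^ 3 * m := by
      rw [← hk, show (3 : ℕ) ^ 3 = 27 from rfl, ← hG]
      exact Subgroup.card_subgroup_dvd_card A
    have h2 : Nat.Coprime (3 ^ k) m := Nat.Coprime.pow_left _ ((Nat.Prime.coprime_iff_not_dvd Nat.prime_three).2 hm)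
    exact (Nat.pow_dvd_pow_iff_le_right (by norm_num)).1 (h2.dvd_of_dvd_mul_right h1)
  have hk' : k = 3 := by omega
  subst hk'
  obtain ⟨P, hP⟩ := hAp.exists_le_sylow
  obtain ⟨Q, hQ⟩ := hU.exists_le_sylow
  have hPc : Nat.card P = 27 := by
    obtain ⟨n, hn⟩ := P.isPGroup'.exists_card_eq
    have h1 : Nat.card P ∣ 27 * m := hG ▸ Subgroup.card_subgroup_dvd_card (P : Subgroup G)
    have h2 : Nat.card A ≤ Nat.card P := Subgroup.card_le_of_le hP
    have h3 : Nat.Coprime (3 ^ n) m := Nat.Coprime.pow_left _ ((Nat.Prime.coprime_iff_not_dvd Nat.prime_three).2 hm)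
    rw [hn] at h1
    have h4 := h3.dvd_of_dvd_mul_right h1
    rw [hn] at h2 ⊢
    have h5 := Nat.le_of_dvd (by norm_num) h4
    rw [hk] at h2
    omega
  have hPA : A = P := Subgroup.eq_of_le_of_card_ge hP (by rw [hPc, hk]; norm_num)
  obtain ⟨g, hg⟩ := MulAction.exists_smul_eq G P Q
  have hmem : ∀ z ∈ U, g⁻¹ * z * g ∈ A := by
    intro z hz
    have h1 : z ∈ (Q : Subgroup G) := hQ hz
    rw [← hg, Sylow.coe_subgroup_smul, Subgroup.mem_pointwise_smul_iff_inv_smul_mem, ← hPA] at h1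
    have h2 : (MulAut.conj g)⁻¹ z = g⁻¹ * z * g := by simp
    rw [← h2]
    exact h1
  apply hxy
  have h1 : (g⁻¹ * x * g) * (g⁻¹ * y * g) = (g⁻¹ * y * g) * (g⁻¹ * x * g) := by
    have := hA.is_comm.comm (⟨_, hmem x hx⟩ : A) ⟨_, hmem y hy⟩
    exact congrArg Subtype.val this
  calc x * y = g * ((g⁻¹ * x * g) * (g⁻¹ * y * g)) * g⁻¹ := by group
    _ = g * ((g⁻¹ * y * g) * (g⁻¹ * x * g)) * g⁻¹ := by rw [h1]
    _ = y * x := by group

/-- the quotient by the centre -/
theorem pRankLE_quot {S : Type*} [Group S] [Finite S] {m : ℕ} (hm : ¬ 3 ∣ m)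
    (hG : Nat.card (S ⧸ center S) = 27 * m) (U : Subgroup S) (hU : IsPGroup 3 U) {x y z d : S} (hx : x ∈ U)
    (hy : y ∈ U) (hz : z * (y * x) = x * y) (hd : z * d ≠ d * z) : Cfsg.PRankLE 3 2 (S ⧸ center S) := by
  refine pRankLE_two hm hG (U.map (QuotientGroup.mk' (center S))) (hU.map _) (mem_map_of_mem _ hx)
    (mem_map_of_mem _ hy) ?_
  rw [← map_mul, ← map_mul]
  intro h
  have h1 : (y * x)⁻¹ * (x * y) ∈ center S := by
    rw [← QuotientGroup.eq]
    exact h.symm
  have h2 : z ∈ center S := by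
    have h3 : z = (y * x) * ((y * x)⁻¹ * (x * y)) * (y * x)⁻¹ := by rw [← hz]; group
    rw [h3]
    exact (inferInstance : (center S).Normal).conj_mem _ h1 _
  exact hd ((mem_center_iff.1 h2) d).symm

/-! ### unitriangular matrices -/

variable {F : Type*} [Field F]

/-- upper unitriangular matrices -/
def UT (F : Type*) [Field F] : Subgroup (_root_.Matrix.SpecialLinearGroup (Fin 3) F) where
  carrier := {g | g.1 0 0 = 1 ∧ g.1 1 1 = 1 ∧ g.1 2 2 = 1 ∧ g.1 1 0 = 0 ∧ g.1 2 0 = 0 ∧ g.1 2 1 = 0}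
  one_mem' := by simp only [_root_.Fin.isValue, _root_.Set.mem_ofPred_eq, _root_.Matrix.SpecialLinearGroup.coe_one, _root_.Matrix.one_apply_eq, _root_.ne_eq, _root_.one_ne_zero, _root_.not_false_eq_true, _root_.Matrix.one_apply_ne, _root_.Fin.reduceEq, _root_.and_self]
  mul_mem' := by
    rintro a b ⟨a1, a2, a3, a4, a5, a6⟩ ⟨b1, b2, b3, b4, b5, b6⟩
    refine ⟨?_, ?_, ?_, ?_, ?_, ?_⟩ <;>
      simp only [Matrix.mul_apply, Fin.sum_univ_three, a1, a2, a3, a4, a5, a6, b1, b2, b3, b4, b5, b6, _root_.Fin.isValue, _root_.Matrix.SpecialLinearGroup.coe_mul, _root_.mul_one, _root_.MulZeroClass.mul_zero, _root_.add_zero, _root_.MulZeroClass.zero_mul, _root_.zero_add]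
  inv_mem' := by
    rintro a ⟨a1, a2, a3, a4, a5, a6⟩
    refine ⟨?_, ?_, ?_, ?_, ?_, ?_⟩ <;>
      simp [Matrix.SpecialLinearGroup.coe_inv, Matrix.adjugate_fin_three, a1, a2, a3, a4, a5, a6]

theorem mem_UT {g : _root_.Matrix.SpecialLinearGroup (Fin 3) F} : g ∈ UT F ↔ (g.1 0 0 = 1 ∧ g.1 1 1 = 1 ∧ g.1 2 2 = 1 ∧
    g.1 1 0 = 0 ∧ g.1 2 0 = 0 ∧ g.1 2 1 = 0) := Iff.rfl

theorem ext_mat {g h : _root_.Matrix.SpecialLinearGroup (Fin 3) F} (H : ∀ i j, g.1 i j = h.1 i j) : g = h :=
  Subtype.ext (Matrix.ext H)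

theorem mul_entry (g h : _root_.Matrix.SpecialLinearGroup (Fin 3) F) (i j : Fin 3) :
    (g * h).1 i j = g.1 i 0 * h.1 0 j + g.1 i 1 * h.1 1 j + g.1 i 2 * h.1 2 j := by
  rw [Matrix.SpecialLinearGroup.coe_mul, Matrix.mul_apply, Fin.sum_univ_three]

attribute [-instance] instNoNatZeroDivisorsOfIsAddTorsionFree instIsCharPOfIsLeftCancelAddOfCharP in
theorem UT_cube (h3 : (3 : F) = 0) {g : _root_.Matrix.SpecialLinearGroup (Fin 3) F} (hg : g ∈ UT F) : g ^ 3 = 1 := by
  obtain ⟨a1, a2, a3, a4, a5, a6⟩ := hg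
  apply Subtype.ext
  rw [pow_succ, pow_two]
  ext i j
  (revert i j; simp only [Matrix.mul_apply, Fin.sum_univ_three, a1, a2, a3, a4, a5, a6, _root_.Fin.forall_fin_succ, _root_.Matrix.SpecialLinearGroup.coe_mul, Fin.isValue, _root_.mul_one, _root_.MulZeroClass.mul_zero, _root_.add_zero, _root_.Matrix.SpecialLinearGroup.coe_one, _root_.Fin.succ_zero_eq_one, _root_.Fin.succ_one_eq_two, _root_.IsEmpty.forall_iff, _root_.and_true, _root_.Matrix.one_apply_eq, _root_.one_mul, Nat.reduceAdd, _root_.ne_eq, _root_.zero_ne_one, _root_.not_false_eq_true, _root_.Matrix.one_apply_ne, Fin.reduceEq, _root_.true_and, _root_.Fin.succ_ne_zero, _root_.MulZeroClass.zero_mul, _root_.zero_add, _root_.and_self]) <;> grind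

/-- conjugates of unitriangular matrices -/
def UTc (T : _root_.Matrix.SpecialLinearGroup (Fin 3) F) : Subgroup (_root_.Matrix.SpecialLinearGroup (Fin 3) F) :=
  (UT F).comap (MulAut.conj T⁻¹).toMonoidHom

theorem UTc_cube (h3 : (3 : F) = 0) (T : _root_.Matrix.SpecialLinearGroup (Fin 3) F) {g : _root_.Matrix.SpecialLinearGroup (Fin 3) F}
    (hg : g ∈ UTc T) : g ^ 3 = 1 := by
  have h1 := UT_cube h3 (Subgroup.mem_comap.1 hg)
  have h2 : (MulAut.conj T⁻¹).toMonoidHom (g ^ 3) = 1 := by rw [map_pow]; exact h1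
  exact (map_eq_one_iff _ (MulAut.conj T⁻¹).injective).1 h2

theorem mem_UTc {T g u : _root_.Matrix.SpecialLinearGroup (Fin 3) F} (hu : u ∈ UT F) (h : g * T = T * u) : g ∈ UTc T := by
  rw [UTc, Subgroup.mem_comap]
  have : (MulAut.conj T⁻¹).toMonoidHom g = u := by
    show T⁻¹ * g * T⁻¹⁻¹ = u
    rw [inv_inv, mul_assoc, h, inv_mul_cancel_left]
  rw [this]
  exact hu

theorem isPGroup_sub (h3 : (3 : F) = 0) (T : _root_.Matrix.SpecialLinearGroup (Fin 3) F)
    (S : Subgroup (_root_.Matrix.SpecialLinearGroup (Fin 3) F)) : IsPGroup 3 ((UTc T).subgroupOf S) := by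
  rintro ⟨g, hg⟩
  refine ⟨1, Subtype.ext (Subtype.ext ?_)⟩
  rw [pow_one]
  exact UTc_cube h3 T hg

/-! ### `PSL₃(3)` -/

/-- `1 + E₀₁` -/
def xL : _root_.Matrix.SpecialLinearGroup (Fin 3) F := ⟨!![1, 1, 0; 0, 1, 0; 0, 0, 1], by simp [Matrix.det_fin_three]⟩

/-- `1 + E₁₂` -/
def yL : _root_.Matrix.SpecialLinearGroup (Fin 3) F := ⟨!![1, 0, 0; 0, 1, 1; 0, 0, 1], by simp [Matrix.det_fin_three]⟩

/-- `1 + E₀₂` -/
def zL : _root_.Matrix.SpecialLinearGroup (Fin 3) F := ⟨!![1, 0, 1; 0, 1, 0; 0, 0, 1], by simp [Matrix.det_fin_three]⟩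

/-- `diag(-1,-1,1)` -/
def dL : _root_.Matrix.SpecialLinearGroup (Fin 3) F := ⟨!![-1, 0, 0; 0, -1, 0; 0, 0, 1], by simp [Matrix.det_fin_three]⟩

theorem pRankLE_psl [Fintype F] (h3 : (3 : F) = 0) {m : ℕ} (hm : ¬ 3 ∣ m)
    (hG : Nat.card (ProjectiveSpecialLinearGroup (Fin 3) F) = 27 * m) :
    Cfsg.PRankLE 3 2 (ProjectiveSpecialLinearGroup (Fin 3) F) := by
  refine pRankLE_quot (S := _root_.Matrix.SpecialLinearGroup (Fin 3) F) hm hG (UTc 1) (fun g => ?_) (x := xL) (y := yL) (z := zL)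
    (d := dL) ?_ ?_ ?_ ?_
  · exact ⟨1, Subtype.ext (by rw [pow_one]; exact UTc_cube h3 1 g.2)⟩
  · refine mem_UTc (u := xL) ?_ (by rw [mul_one, one_mul])
    rw [mem_UT]
    simp [xL]
  · refine mem_UTc (u := yL) ?_ (by rw [mul_one, one_mul])
    rw [mem_UT]
    simp [yL]
  · refine ext_mat fun i j => ?_
    simp only [mul_entry]
    (revert i j; simp only [xL, yL, zL, _root_.Fin.forall_fin_succ, Fin.isValue, _root_.Matrix.of_apply, _root_.Matrix.cons_val', _root_.Matrix.cons_val_zero, _root_.Matrix.cons_val_fin_one, _root_.one_mul, _root_.Matrix.cons_val_one, _root_.MulZeroClass.zero_mul, _root_.add_zero, _root_.Matrix.cons_val, _root_.zero_add, _root_.mul_one, _root_.MulZeroClass.mul_zero, _root_.Matrix.cons_val_succ, _root_.forall_const, _root_.true_and, _root_.and_self, _root_.add_eq_right, _root_.and_true, _root_.implies_true])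
  · intro h
    have h1 : (zL * dL : _root_.Matrix.SpecialLinearGroup (Fin 3) F).1 0 2 = (dL * zL).1 0 2 := by rw [h]
    simp only [mul_entry] at h1
    simp only [zL, dL, _root_.Fin.isValue, _root_.Matrix.of_apply, _root_.Matrix.cons_val', _root_.Matrix.cons_val_zero, _root_.Matrix.cons_val_fin_one, _root_.Matrix.cons_val, _root_.MulZeroClass.mul_zero, _root_.Matrix.cons_val_one, _root_.add_zero, _root_.mul_one, _root_.zero_add] at h1
    have h2 : (1 : F) = 0 := by linear_combination h3 - h1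
    exact one_ne_zero h2

/-! ### `PSU₃(3)` -/

/-- the base change -/
def TU : _root_.Matrix.SpecialLinearGroup (Fin 3) F := ⟨!![1, 1, 1; 1, -1, 0; 1, 0, 0], by simp [Matrix.det_fin_three]⟩

/-- the permutation matrix -/
def xU : _root_.Matrix.SpecialLinearGroup (Fin 3) F := ⟨!![0, 1, 0; 0, 0, 1; 1, 0, 0], by simp [Matrix.det_fin_three]⟩

/-- the permutation matrix after the base change -/
def xU' : _root_.Matrix.SpecialLinearGroup (Fin 3) F := ⟨!![1, 1, 1; 0, 1, 1; 0, 0, 1], by simp [Matrix.det_fin_three]⟩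

/-- a second unipotent element -/
def yU (h3 : (3 : F) = 0) (e : F) (he : e * e = -1) : _root_.Matrix.SpecialLinearGroup (Fin 3) F :=
  ⟨!![-e, -1, e - 1; -1, e, -e - 1; e - 1, -e - 1, 0], by
    simp only [Matrix.det_fin_three, _root_.Fin.isValue, _root_.Matrix.of_apply, _root_.Matrix.cons_val', _root_.Matrix.cons_val_zero, _root_.Matrix.cons_val_fin_one, _root_.Matrix.cons_val_one, _root_.neg_mul, _root_.Matrix.cons_val, _root_.MulZeroClass.mul_zero, _root_.sub_neg_eq_add, _root_.zero_add, _root_.mul_neg, _root_.mul_one, _root_.neg_neg, _root_.sub_zero, _root_.one_mul, _root_.neg_sub]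
    grobner⟩

/-- the second unipotent element after the base change -/
def yU' (e : F) : _root_.Matrix.SpecialLinearGroup (Fin 3) F := ⟨!![1, -e, e - 1; 0, 1, e; 0, 0, 1], by simp [Matrix.det_fin_three]⟩

/-- the commutator -/
def zU (h3 : (3 : F) = 0) (e : F) : _root_.Matrix.SpecialLinearGroup (Fin 3) F :=
  ⟨!![1 - e, -e, -e; -e, 1 - e, -e; -e, -e, 1 - e], by
    simp only [Matrix.det_fin_three, _root_.Fin.isValue, _root_.Matrix.of_apply, _root_.Matrix.cons_val', _root_.Matrix.cons_val_zero, _root_.Matrix.cons_val_fin_one, _root_.Matrix.cons_val_one, _root_.Matrix.cons_val, _root_.mul_neg, _root_.neg_mul, _root_.neg_neg]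
    grobner⟩

theorem pRankLE_psu [Fintype F] (h3 : (3 : F) = 0) {e : F} (he : e * e = -1) {m : ℕ} (hm : ¬ 3 ∣ m)
    (hG : Nat.card (Cfsg.PSU 3 F 3) = 27 * m) : Cfsg.PRankLE 3 2 (Cfsg.PSU 3 F 3) := by
  have : Fact (Nat.Prime 3) := ⟨Nat.prime_three⟩
  have hc : CharP F 3 := by
    obtain ⟨r, hr⟩ := CharP.exists F
    have hrp : r.Prime := (CharP.char_is_prime_or_zero F r).resolve_right (CharP.char_ne_zero_of_finite F r)
    have h1 : r ∣ 3 := (CharP.cast_eq_zero_iff F r 3).1 (by exact_mod_cast h3)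
    rwa [(Nat.prime_dvd_prime_iff_eq hrp Nat.prime_three).1 h1] at hr
  have hs : ∀ x : F, frobenius F 3 x = x ^ 3 := fun x => rfl
  have he3 : e ^ 3 = -e := by rw [pow_succ, pow_two, he]; ring
  have hmem : ∀ g : _root_.Matrix.SpecialLinearGroup (Fin 3) F, (g : Matrix (Fin 3) (Fin 3) F)ᵀ *
      (g : Matrix (Fin 3) (Fin 3) F).map (frobenius F 3) = 1 → g ∈ Cfsg.SU 3 F 3 :=
    fun g hg => (LieRecognition.PSUThreeSylow.mem_SU_iff hs g).2 hg
  have hx : (xU : _root_.Matrix.SpecialLinearGroup (Fin 3) F) ∈ Cfsg.SU 3 F 3 := by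
    refine hmem _ ?_
    ext i j
    (revert i j; simp only [xU, Matrix.mul_apply, Fin.sum_univ_three, _root_.Fin.forall_fin_succ, _root_.Matrix.transpose_apply, _root_.Matrix.of_apply, _root_.Matrix.cons_val', _root_.Matrix.cons_val_fin_one, _root_.Matrix.map_apply, Fin.isValue, _root_.Matrix.cons_val_zero, _root_.Matrix.cons_val_one, _root_.Matrix.cons_val, _root_.map_zero, _root_.MulZeroClass.mul_zero, _root_.add_zero, _root_.map_one, _root_.mul_one, _root_.zero_add, _root_.Matrix.cons_val_succ, _root_.IsEmpty.forall_iff, _root_.and_true, _root_.Matrix.one_apply_eq, Nat.reduceAdd, _root_.Fin.succ_zero_eq_one, _root_.ne_eq, _root_.zero_ne_one, _root_.not_false_eq_true, _root_.Matrix.one_apply_ne, _root_.Fin.succ_one_eq_two, Fin.reduceEq, _root_.and_self, _root_.Fin.succ_ne_zero, _root_.true_and])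
  have hd : (dL : _root_.Matrix.SpecialLinearGroup (Fin 3) F) ∈ Cfsg.SU 3 F 3 := by
    refine hmem _ ?_
    ext i j
    (revert i j; simp only [dL, Matrix.mul_apply, Fin.sum_univ_three, _root_.Fin.forall_fin_succ, _root_.Matrix.transpose_apply, _root_.Matrix.of_apply, _root_.Matrix.cons_val', _root_.Matrix.cons_val_fin_one, _root_.Matrix.map_apply, Fin.isValue, _root_.Matrix.cons_val_zero, _root_.Matrix.cons_val_one, _root_.Matrix.cons_val, _root_.map_neg, _root_.map_one, _root_.mul_neg, _root_.mul_one, _root_.map_zero, _root_.MulZeroClass.mul_zero, _root_.add_zero, _root_.Matrix.cons_val_succ, _root_.zero_add, _root_.IsEmpty.forall_iff, _root_.and_true, _root_.neg_neg, _root_.Matrix.one_apply_eq, _root_.neg_zero, Nat.reduceAdd, _root_.Fin.succ_zero_eq_one, _root_.ne_eq, _root_.zero_ne_one, _root_.not_false_eq_true, _root_.Matrix.one_apply_ne, _root_.Fin.succ_one_eq_two, Fin.reduceEq, _root_.and_self, _root_.Fin.succ_ne_zero, _root_.neg_eq_zero, _root_.true_and])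
  have hf : frobenius F 3 e = -e := he3
  have hf1 : frobenius F 3 1 = 1 := map_one _
  have hy : yU h3 e he ∈ Cfsg.SU 3 F 3 := by
    refine hmem _ ?_
    ext i j
    (revert i j; simp only [yU, Matrix.mul_apply, Fin.sum_univ_three, hf, _root_.Fin.forall_fin_succ, _root_.Matrix.transpose_apply, _root_.Matrix.of_apply, _root_.Matrix.cons_val', _root_.Matrix.cons_val_fin_one, _root_.Matrix.map_apply, Fin.isValue, _root_.Matrix.cons_val_zero, _root_.Matrix.cons_val_one, _root_.Matrix.cons_val, _root_.map_neg, _root_.neg_neg, _root_.map_one, _root_.mul_neg, _root_.mul_one, _root_.map_sub, _root_.Matrix.cons_val_succ, _root_.map_zero, _root_.MulZeroClass.mul_zero, _root_.add_zero, _root_.IsEmpty.forall_iff, _root_.and_true, _root_.neg_mul, _root_.Matrix.one_apply_eq, _root_.one_mul, Nat.reduceAdd, _root_.Fin.succ_zero_eq_one, _root_.ne_eq, _root_.zero_ne_one, _root_.not_false_eq_true, _root_.Matrix.one_apply_ne, _root_.neg_sub, _root_.Fin.succ_one_eq_two,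 Fin.reduceEq, _root_.Fin.succ_ne_zero, _root_.sub_neg_eq_add, _root_.MulZeroClass.zero_mul]) <;> (clear * - h3 he hc; grind)
  have hzyx : zU h3 e * (yU h3 e he * xU) = xU * yU h3 e he := by
    refine ext_mat fun i j => ?_
    simp only [mul_entry]
    (revert i j; simp only [xU, yU, zU, _root_.Fin.forall_fin_succ, Fin.isValue, _root_.Matrix.of_apply, _root_.Matrix.cons_val', _root_.Matrix.cons_val_zero, _root_.Matrix.cons_val_fin_one, _root_.neg_mul, _root_.Matrix.cons_val_one, _root_.one_mul, _root_.Matrix.cons_val, _root_.MulZeroClass.zero_mul, _root_.add_zero, _root_.MulZeroClass.mul_zero, _root_.neg_zero, _root_.mul_one, _root_.zero_add, _root_.mul_neg, _root_.Matrix.cons_val_succ, _root_.forall_const, _root_.neg_neg, _root_.neg_sub]) <;> (clear * - h3 he hc he3; grind)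
  have hz : zU h3 e ∈ Cfsg.SU 3 F 3 := by
    have h1 : zU h3 e = xU * yU h3 e he * (yU h3 e he * xU)⁻¹ := by rw [← hzyx]; group
    rw [h1]
    exact mul_mem (mul_mem hx hy) (inv_mem (mul_mem hy hx))
  refine pRankLE_quot (S := Cfsg.SU 3 F 3) hm hG ((UTc TU).subgroupOf _) (isPGroup_sub h3 TU _)
    (x := ⟨xU, hx⟩) (y := ⟨yU h3 e he, hy⟩) (z := ⟨zU h3 e, hz⟩) (d := ⟨dL, hd⟩) ?_ ?_ ?_ ?_
  · refine mem_UTc (u := xU') (by rw [mem_UT]; simp [xU']) (ext_mat fun i j => ?_)
    simp only [mul_entry]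
    (revert i j; simp only [xU, xU', TU, _root_.Fin.forall_fin_succ, _root_.Subgroup.subtype_apply, Fin.isValue, _root_.Matrix.of_apply, _root_.Matrix.cons_val', _root_.Matrix.cons_val_zero, _root_.Matrix.cons_val_fin_one, _root_.Matrix.cons_val_one, _root_.Matrix.cons_val, _root_.mul_one, _root_.MulZeroClass.mul_zero, _root_.add_zero, _root_.Matrix.cons_val_succ, _root_.mul_neg, _root_.forall_const, _root_.zero_add, _root_.true_and, _root_.neg_zero, _root_.add_neg_cancel, _root_.and_self, _root_.implies_true, _root_.and_true]) <;> grobner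
  · refine mem_UTc (u := yU' e) (by rw [mem_UT]; simp [yU']) (ext_mat fun i j => ?_)
    simp only [mul_entry]
    (revert i j; simp only [yU, yU', TU, _root_.Fin.forall_fin_succ, _root_.Subgroup.subtype_apply, Fin.isValue, _root_.Matrix.of_apply, _root_.Matrix.cons_val', _root_.Matrix.cons_val_zero, _root_.Matrix.cons_val_fin_one, _root_.Matrix.cons_val_one, _root_.Matrix.cons_val, _root_.mul_one, _root_.MulZeroClass.mul_zero, _root_.add_zero, _root_.Matrix.cons_val_succ, _root_.mul_neg, _root_.forall_const, _root_.neg_neg, _root_.one_mul, _root_.true_and, _root_.neg_mul, _root_.neg_sub, _root_.sub_neg_eq_add, _root_.MulZeroClass.zero_mul, _root_.and_true]) <;> grind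
  · exact Subtype.ext hzyx
  · intro h
    have h1 : (zU h3 e * dL : _root_.Matrix.SpecialLinearGroup (Fin 3) F).1 0 2 = (dL * zU h3 e).1 0 2 :=
      congrArg (fun g : Cfsg.SU 3 F 3 => g.1.1 0 2) h
    simp only [mul_entry] at h1
    simp only [zU, dL, _root_.Fin.isValue, _root_.Matrix.of_apply, _root_.Matrix.cons_val', _root_.Matrix.cons_val_zero, _root_.Matrix.cons_val_fin_one, _root_.Matrix.cons_val, _root_.MulZeroClass.mul_zero, _root_.Matrix.cons_val_one, _root_.add_zero, _root_.mul_one, _root_.zero_add, _root_.mul_neg, _root_.neg_mul, _root_.one_mul, _root_.neg_neg, _root_.MulZeroClass.zero_mul, _root_.neg_zero] at h1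
    have h2 : (1 : F) = 0 := by (clear * - h3 he h1; grobner)
    exact one_ne_zero h2

end Cfsg.Agent.H327.D5.Three
end

-- part: H327/D5/Small
section
/-!
# The groups of order 168, `L₃(3)` and `U₃(3)`: 2-local subgroups
-/

set_option autoImplicit false
set_option linter.unusedSectionVars false

namespace Cfsg.Agent.H327.D5.Small

open Subgroup

universe u

/-- groups without nonabelian simple sections are solvable -/
theorem solvable_of {n : ℕ}
    (h : ∀ (S : Type u) [Group S] [Finite S], IsSimpleGroup S → ¬ IsMulCommutative S → Nat.card S ∣ n → False)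
    (k : ℕ) : ∀ (H : Type u) [Group H] [Finite H], Nat.card H = k → Nat.card H ∣ n → Group.IsSolvable H := by
  induction k using Nat.strong_induction_on with
  | _ k ih =>
    intro H _ _ hk hn
    by_cases hc : IsMulCommutative H
    · exact Group.isSolvable_of_comm fun a b => hc.is_comm.comm a b
    have hnt : Nontrivial H := by
      by_contra hnt
      rw [not_nontrivial_iff_subsingleton] at hnt
      exact hc ⟨⟨fun a b => Subsingleton.elim _ _⟩⟩
    by_cases hs : IsSimpleGroup H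
    · exact (h H hs hc hn).elim
    obtain ⟨N, hN, hN1, hN2⟩ : ∃ N : Subgroup H, N.Normal ∧ N ≠ ⊥ ∧ N ≠ ⊤ := by
      by_contra hno
      push Not at hno
      exact hs ⟨fun N hN => or_iff_not_imp_left.2 (hno N hN)⟩
    have hcard := Subgroup.card_eq_card_quotient_mul_card_subgroup N
    have h1 : Nat.card N < Nat.card H := by
      refine lt_of_le_of_ne (Subgroup.card_le_card_group N) ?_
      intro he
      exact hN2 (Subgroup.eq_top_of_card_eq N he)
    have h2 : Nat.card (H ⧸ N) < Nat.card H := by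
      have h3 : 1 < Nat.card N := Subgroup.one_lt_card_iff_ne_bot N |>.2 hN1
      have h4 : 0 < Nat.card (H ⧸ N) := Nat.card_pos
      rw [hcard]
      exact lt_mul_of_one_lt_right h4 h3
    have h3 : Nat.card N ∣ Nat.card H := Dvd.intro_left _ hcard.symm
    have h4 : Nat.card (H ⧸ N) ∣ Nat.card H := Dvd.intro _ hcard.symm
    rw [Group.isSolvable_iff_subgroup_quotient N]
    exact ⟨ih _ (hk ▸ h1) N rfl (h3.trans hn), ih _ (hk ▸ h2) (H ⧸ N) rfl (h4.trans hn)⟩

/-- divisors of small numbers are not orders of simple groups -/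
theorem no_simple {n : ℕ} (hn0 : 0 < n) (hn : n < 4000) (hd : ∀ d ∈ [60, 168, 360, 504, 660, 1092, 2448, 2520, 3420], ¬ d ∣ n)
    (S : Type u) [Group S] [Finite S] (hs : IsSimpleGroup S) (hna : ¬ IsMulCommutative S) (h : Nat.card S ∣ n) :
    False := by
  have hle := Nat.le_of_dvd hn0 h
  have h1 := H424.SmallIso.orders (G := S) hna (by omega)
  simp only [List.mem_cons, List.not_mem_nil, or_false, forall_eq_or_imp, forall_eq] at hd
  obtain ⟨d1, d2, d3, d4, d5, d6, d7, d8, d9⟩ := hd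
  rcases h1 with h1 | h1 | h1 | h1 | h1 | h1 | h1 | h1 | h1 | h1 | h1
  · rw [h1] at h; exact d1 h
  · rw [h1] at h; exact d2 h
  · rw [h1] at h; exact d3 h
  · rw [h1] at h; exact d4 h
  · rw [h1] at h; exact d5 h
  · rw [h1] at h; exact d6 h
  · rw [h1] at h; exact d7 h
  · rw [h1] at h; exact d8 h
  · rw [h1] at h; exact d9 h
  · omega
  · omega

variable {G : Type u} [Group G] [Finite G]

theorem solvable_of_normalizer {T : Subgroup G} (hT : IsPGroup 2 T)
    (hq : Group.IsSolvable (normalizer (T : Set G) ⧸ T.subgroupOf (normalizer (T : Set G)))) :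
    Group.IsSolvable (normalizer (T : Set G)) := by
  have : Fact (Nat.Prime 2) := ⟨Nat.prime_two⟩
  rw [Group.isSolvable_iff_subgroup_quotient (T.subgroupOf (normalizer (T : Set G)))]
  refine ⟨?_, hq⟩
  have h2 : IsPGroup 2 (T.subgroupOf (normalizer (T : Set G))) := hT.comap_of_injective _ (Subgroup.subtype_injective _)
  have := h2.isNilpotent
  infer_instance

theorem card_quot {T : Subgroup G} : Nat.card (normalizer (T : Set G) ⧸ T.subgroupOf (normalizer (T : Set G))) *
    Nat.card T = Nat.card (normalizer (T : Set G)) := by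
  rw [Subgroup.card_eq_card_quotient_mul_card_subgroup (T.subgroupOf (normalizer (T : Set G)))]
  congr 1
  exact (Nat.card_congr (Subgroup.subgroupOfEquivOfLe le_normalizer).toEquiv).symm

/-- 2-local subgroups, by order -/
theorem solvable_of_dvd {j m : ℕ} {T : Subgroup G} (hT : IsPGroup 2 T) (hj : 2 ^ j ∣ Nat.card T)
    (hG : Nat.card G = 2 ^ j * m)
    (h : ∀ (S : Type u) [Group S] [Finite S], IsSimpleGroup S → ¬ IsMulCommutative S → Nat.card S ∣ m → False) :
    Group.IsSolvable (normalizer (T : Set G)) := by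
  refine solvable_of_normalizer hT (solvable_of h _ _ rfl ?_)
  have h1 := card_quot (T := T)
  have h2 : Nat.card (normalizer (T : Set G)) ∣ 2 ^ j * m := hG ▸ Subgroup.card_subgroup_dvd_card _
  rw [← h1] at h2
  have h3 := (mul_dvd_mul_left (Nat.card (normalizer (T : Set G) ⧸ T.subgroupOf (normalizer (T : Set G)))) hj).trans h2
  rw [mul_comm] at h3
  exact Nat.dvd_of_mul_dvd_mul_left (by positivity) h3

theorem two_dvd {T : Subgroup G} (hT : IsPGroup 2 T) (hT1 : T ≠ ⊥) : 2 ^ 1 ∣ Nat.card T := by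
  have : Fact (Nat.Prime 2) := ⟨Nat.prime_two⟩
  obtain ⟨n, hn⟩ := hT.exists_card_eq
  rw [hn]
  refine pow_dvd_pow 2 (Nat.one_le_iff_ne_zero.2 ?_)
  rintro rfl
  rw [pow_zero] at hn
  exact hT1 (Subgroup.card_eq_one.1 hn)

/-- an element of order seven centralizes small normalized subgroups -/
theorem commute_of_small {T : Subgroup G} {x : G} (hx : x ∈ normalizer (T : Set G)) (hx7 : x ^ 7 = 1)
    (hT : Nat.card T ≤ 4) {t : G} (ht : t ∈ T) : x * t = t * x := by
  classical
  let φ : MulAut T := normalizerMonoidHom T ⟨x, hx⟩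
  have hφ : ∀ y : T, ((φ y : T) : G) = x * y * x⁻¹ := fun y => rfl
  have h7 : φ ^ 7 = 1 := by
    show normalizerMonoidHom T ⟨x, hx⟩ ^ 7 = 1
    rw [← map_pow]
    have : (⟨x, hx⟩ : normalizer (T : Set G)) ^ 7 = 1 := Subtype.ext hx7
    rw [this, map_one]
  have hperm : (MulAut.toPerm T φ) ^ (Nat.card T).factorial = 1 := by
    have := Fintype.ofFinite T
    have h1 : Nat.card (Equiv.Perm T) = (Nat.card T).factorial := by
      rw [Nat.card_eq_fintype_card, Fintype.card_perm, Nat.card_eq_fintype_card]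
    rw [← h1]
    exact pow_card_eq_one'
  have h7' : (MulAut.toPerm T φ) ^ 7 = 1 := by rw [← map_pow, h7, map_one]
  have hco : Nat.Coprime 7 (Nat.card T).factorial := by
    rw [Nat.Prime.coprime_iff_not_dvd (by norm_num), (by norm_num : Nat.Prime 7).dvd_factorial]
    omega
  have h1 : MulAut.toPerm T φ = 1 := by
    have := pow_gcd_eq_one.2 ⟨h7', hperm⟩
    rwa [hco.gcd_eq_one, pow_one] at this
  have h2 := hφ ⟨t, ht⟩
  have h3 : φ ⟨t, ht⟩ = ⟨t, ht⟩ := congrArg (fun σ : Equiv.Perm T => σ ⟨t, ht⟩) h1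
  rw [h3] at h2
  exact (mul_inv_eq_iff_eq_mul.1 h2.symm)

/-- order 168 -/
theorem solvable_168 (hG : Nat.card G = 168) (H : Subgroup G) (hH : Cfsg.IsTwoLocal H) : Group.IsSolvable H := by
  obtain ⟨T, hT, hT1, rfl⟩ := hH
  exact solvable_of_dvd hT (two_dvd hT hT1) (m := 84) (by rw [hG]; norm_num)
    (no_simple (by norm_num) (by norm_num) (by decide))

/-- order 5616 -/
theorem solvable_5616 (hG : Nat.card G = 5616) (H : Subgroup G) (hH : Cfsg.IsTwoLocal H) : Group.IsSolvable H := by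
  obtain ⟨T, hT, hT1, rfl⟩ := hH
  exact solvable_of_dvd hT (two_dvd hT hT1) (m := 2808) (by rw [hG]; norm_num)
    (no_simple (by norm_num) (by norm_num) (by decide))

/-- order 6048, no elements of order 14 -/
theorem solvable_6048 (hG : Nat.card G = 6048) (h14 : ∀ g : G, orderOf g ≠ 14) (H : Subgroup G)
    (hH : Cfsg.IsTwoLocal H) : Group.IsSolvable H := by
  have : Fact (Nat.Prime 2) := ⟨Nat.prime_two⟩
  have : Fact (Nat.Prime 7) := ⟨by norm_num⟩
  obtain ⟨T, hT, hT1, rfl⟩ := hH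
  by_cases h8 : 2 ^ 3 ∣ Nat.card T
  · exact solvable_of_dvd hT h8 (m := 756) (by rw [hG]; norm_num)
      (no_simple (by norm_num) (by norm_num) (by decide))
  have h4 : Nat.card T ≤ 4 := by
    obtain ⟨n, hn⟩ := hT.exists_card_eq
    have h2 : n ≤ 2 := by
      by_contra hc
      exact h8 (hn ▸ pow_dvd_pow 2 (by omega))
    rw [hn]
    calc 2 ^ n ≤ 2 ^ 2 := Nat.pow_le_pow_right (by norm_num) h2
      _ = 4 := by norm_num
  by_cases h7 : 7 ∣ Nat.card (normalizer (T : Set G))
  · exfalso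
    obtain ⟨x, hx⟩ := exists_prime_orderOf_dvd_card' 7 h7
    have h2 : 2 ∣ Nat.card T := by
      have := two_dvd hT hT1
      rwa [pow_one] at this
    obtain ⟨t, ht⟩ := exists_prime_orderOf_dvd_card' 2 h2
    have hx7 : (x : G) ^ 7 = 1 := by
      have := pow_orderOf_eq_one x
      rw [hx] at this
      exact congrArg Subtype.val this
    have hc : Commute (x : G) (t : G) := commute_of_small x.2 hx7 h4 t.2
    rw [← Subgroup.orderOf_coe] at hx ht
    have h := hc.orderOf_mul_eq_mul_orderOf_of_coprime (by rw [hx, ht]; norm_num)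
    rw [hx, ht] at h
    exact h14 _ h
  · have h1 : Nat.card (normalizer (T : Set G)) ∣ 864 := by
      have h2 : Nat.card (normalizer (T : Set G)) ∣ 7 * 864 := by
        have := Subgroup.card_subgroup_dvd_card (normalizer (T : Set G))
        rwa [hG] at this
      exact (Nat.Coprime.symm ((Nat.Prime.coprime_iff_not_dvd (by norm_num)).2 h7)).dvd_of_dvd_mul_left h2
    exact solvable_of (no_simple (n := 864) (by norm_num) (by norm_num) (by decide)) _ _ rfl h1

/-- the 3-rank of a group of order 168 -/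
theorem pRankLE_168 (hG : Nat.card G = 168) : Cfsg.PRankLE 3 2 G := by
  intro A hA h3
  have : Fact (Nat.Prime 3) := ⟨Nat.prime_three⟩
  have hAp : IsPGroup 3 A := fun a => ⟨1, by rw [pow_one]; exact Subtype.ext (h3 a a.2)⟩
  obtain ⟨k, hk⟩ := hAp.exists_card_eq
  have h1 : Nat.card A ∣ 3 * 56 := by
    have := Subgroup.card_subgroup_dvd_card A
    rwa [hG] at this
  rw [hk] at h1 ⊢
  have h2 : 3 ^ k ∣ 3 := (Nat.Coprime.pow_left k (by norm_num : Nat.Coprime 3 56)).dvd_of_dvd_mul_right h1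
  exact (Nat.le_of_dvd (by norm_num) h2).trans (by norm_num)

/-- no elements of order 14 in `U₃(3)` -/
theorem orderOf_ne_14 {F : Type*} [Field F] [Fintype F] (hF : Fintype.card F = 3 ^ 2) (g : Cfsg.PSU 3 F 3) :
    orderOf g ≠ 14 := by
  have : Fact (Nat.Prime 3) := ⟨Nat.prime_three⟩
  have hc : CharP F 3 := charP_of_card_eq_prime_pow hF
  intro hg
  have h := S2366.result (F := F) 3 (by norm_num) 3 hF
  have h1 : orderOf g ∈ Set.range (orderOf : Cfsg.PSU 3 F 3 → ℕ) := ⟨g, rfl⟩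
  rw [h, hg] at h1
  simp only [Set.mem_union, Set.mem_setOf_eq] at h1
  revert h1
  decide

end Cfsg.Agent.H327.D5.Small
end

-- part: H327/D5/Spor
section
/-!
# Real elements of prime order at least five in the sporadic groups and the Tits group
-/

set_option autoImplicit false
set_option linter.unusedSectionVars false

namespace Cfsg.Agent.H327.D5

open Cfsg Cfsg.Agent.H722.RealP Cfsg.Agent.H661.Spor Cfsg.Agent.H661.Spor.McL

variable {S : Type*} [Group S] [Finite S]

theorem R5.mk5 (h : HasReal 5 S) : R5 S := ⟨5, by norm_num, le_rfl, h⟩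

theorem r5_of_p1 {n : ℕ} (hn : Nat.card S = n) (h9 : 3 ^ 2 ∣ n) (h : P1 S) : R5 S := by
  obtain ⟨r, hr, hr2, hrn, x, hx, hc⟩ := h
  refine ⟨r, hr, ?_, hasReal_of_isConj hx hc⟩
  have h3 : r ≠ 3 := by
    rintro rfl
    rw [hn] at hrn
    exact hrn h9
  have h4 : r ≠ 4 := by
    rintro rfl
    revert hr
    decide
  have := hr.two_le
  omega

theorem r5_mcl (h : Cfsg.Spor.IsoMcL S) : R5 S := by
  obtain ⟨e⟩ := h
  have : Finite Cfsg.Spor.McL := Finite.of_equiv _ e.toEquiv
  refine R5.congr e.symm ?_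
  refine R5.of_real' (p := 5) (by norm_num) le_rfl (x := mx) (g := mi) mx_pow mx_ne ?_
  have h1 := mi_mx
  have h2 := mi_sq
  have h3 : mx * mi * mx = mi⁻¹ * (mi * mx * (mi * mx)) := by group
  rw [h3, h1, mul_one]
  exact inv_eq_of_mul_eq_one_left h2

theorem r5_tits (h : Cfsg.Lie.IsoTits S) : R5 S := ⟨13, by norm_num, by norm_num, hasReal_tits h⟩

theorem r5_sporadic [IsSimpleGroup S] (h : IsSporadicGroup S) : R5 S := by
  rcases h with h | h | h | h | h | h | h | h | h | h | h | h | h | h | h | h | h | h | h | h | h | h | h | h | h | h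
  · exact r5_of_p1 (NotCT.Orders.m11 h) (by norm_num) (H661.Spor.m11 h)
  · exact r5_of_p1 (NotCT.Orders.m12 h) (by norm_num) (H661.Spor.m12 h)
  · exact r5_of_p1 (NotCT.Orders.m22 h) (by norm_num) (H661.Spor.m22 h)
  · exact r5_of_p1 (NotCT.Orders.m23 h) (by norm_num) (H661.Spor.m23 h)
  · exact r5_of_p1 (NotCT.Orders.m24 h) (by norm_num) (H661.Spor.m24 h)
  · refine R5.mk5 (hasReal_fermat (r := 5) (k := 2) (by norm_num) (by norm_num) ?_ ?_ ?_)
    all_goals rw [NotCT.Orders.j1 h]; norm_num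
  · exact r5_of_p1 (NotCT.Orders.j2 h) (by norm_num) (H661.Spor.j2 h)
  · exact r5_of_p1 (NotCT.Orders.j3 h) (by norm_num) (H661.Spor.j3 h)
  · exact r5_of_p1 (NotCT.Orders.j4 h) (by norm_num) (H661.Spor.j4 h)
  · exact r5_of_p1 (NotCT.Orders.co1 h) (by norm_num) (H661.Spor.co1 h)
  · exact r5_of_p1 (NotCT.Orders.co2 h) (by norm_num) (H661.Spor.co2 h)
  · exact r5_of_p1 (NotCT.Orders.co3 h) (by norm_num) (H661.Spor.co3 h)
  · exact r5_mcl h
  · exact r5_of_p1 (NotCT.Orders.hs h) (by norm_num) (H661.Spor.hs h)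
  · exact r5_of_p1 (NotCT.Orders.suz h) (by norm_num) (H661.Spor.suz h)
  · exact r5_of_p1 (NotCT.Orders.he h) (by norm_num) (H661.Spor.he h)
  · exact r5_of_p1 (NotCT.Orders.ru h) (by norm_num) (H661.Spor.ru h)
  · exact r5_of_p1 (NotCT.Orders.on h) (by norm_num) (H661.Spor.on h)
  · exact r5_of_p1 (NotCT.Orders.ly h) (by norm_num) (H661.Spor.ly h)
  · exact r5_of_p1 (NotCT.Orders.fi22 h) (by norm_num) (H661.Spor.fi22 h)
  · exact r5_of_p1 (NotCT.Orders.fi23 h) (by norm_num) (H661.Spor.fi23 h)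
  · exact r5_of_p1 (NotCT.Orders.fi24 h) (by norm_num) (H661.Spor.fi24 h)
  · exact r5_of_p1 (NotCT.Orders.hn h) (by norm_num) (H661.Spor.hn h)
  · exact r5_of_p1 (NotCT.Orders.th h) (by norm_num) (H661.Spor.th h)
  · exact r5_of_p1 (NotCT.Orders.b h) (by norm_num) (H661.Spor.b h)
  · exact r5_of_p1 (NotCT.Orders.m h) (by norm_num) (H661.Spor.m h)

end Cfsg.Agent.H327.D5
end

-- part: H327/D5/Exc
section
/-!
# Real elements of prime order at least five in the exceptional groups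
-/

set_option autoImplicit false
set_option linter.unusedSectionVars false

namespace Cfsg.Agent.H327.D5

open Cfsg Cfsg.Lie Cfsg.Agent.H722.RealP Cfsg.Agent.H720

universe u

/-- Fermat's little theorem -/
theorem dvd_pow_sub_one {p q : ℕ} (hp : p.Prime) (h : ¬ p ∣ q) {k : ℕ} (hk : p - 1 ∣ k) : p ∣ q ^ k - 1 := by
  obtain ⟨m, rfl⟩ := hk
  have hco : q.Coprime p := ((Nat.Prime.coprime_iff_not_dvd hp).2 h).symm
  have h1 : q ^ ((p - 1) * m) ≡ 1 [MOD p] := by
    rw [pow_mul]
    have := Nat.ModEq.pow_totient hco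
    rw [Nat.totient_prime hp] at this
    calc (q ^ (p - 1)) ^ m ≡ 1 ^ m [MOD p] := this.pow m
      _ = 1 := one_pow m
  have h2 : 0 < q := Nat.pos_of_ne_zero (by rintro rfl; exact h (dvd_zero _))
  exact (Nat.modEq_iff_dvd' (Nat.one_le_pow _ _ h2)).1 h1.symm

/-- a prime dividing the order of a finite field is the characteristic -/
theorem charP_of_dvd {F : Type u} [Field F] [Fintype F] {p : ℕ} (hp : p.Prime) (h : p ∣ Fintype.card F) : CharP F p := by
  obtain ⟨r, hr⟩ := CharP.exists F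
  have hrp : r.Prime := (CharP.char_is_prime_or_zero F r).resolve_right (CharP.char_ne_zero_of_finite F r)
  have : Fact r.Prime := ⟨hrp⟩
  obtain ⟨n, -, hn⟩ := FiniteField.card F r
  rw [hn] at h
  have := (Nat.prime_dvd_prime_iff_eq hp hrp).1 (hp.dvd_of_dvd_pow h)
  rw [this]
  exact hr

theorem R5.of_hasReal {G : Type*} [Group G] {p : ℕ} (hp : p.Prime) (h5 : 5 ≤ p) (h : HasReal p G) : R5 G :=
  ⟨p, hp, h5, h⟩

variable {F : Type u} [Field F] [Fintype F]

theorem r5_G2 : R5 (chevG2.group F) := by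
  have : Fact (Nat.Prime 7) := ⟨by norm_num⟩
  refine R5.of_hasReal (p := 7) (by norm_num) (by norm_num) ?_
  by_cases h : 7 ∣ Fintype.card F
  · have := charP_of_dvd (by norm_num) h
    exact DefChar.G2
  · refine RowsNeg.G2 rfl (by norm_num) h ?_
    rw [S1059.result rfl]
    exact (dvd_pow_sub_one (by norm_num) h (by norm_num)).mul_left _

theorem r5_F4 : R5 (chevF4.group F) := by
  have : Fact (Nat.Prime 5) := ⟨by norm_num⟩
  refine R5.of_hasReal (p := 5) (by norm_num) (by norm_num) ?_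
  by_cases h : 5 ∣ Fintype.card F
  · have := charP_of_dvd (by norm_num) h
    exact DefChar.F4
  · refine RowsNeg.F4 rfl (by norm_num) h ?_
    rw [S1062.result rfl]
    exact (dvd_pow_sub_one (by norm_num) h (by norm_num)).mul_left _

theorem r5_E8 : R5 (chevE8.group F) := by
  have : Fact (Nat.Prime 5) := ⟨by norm_num⟩
  refine R5.of_hasReal (p := 5) (by norm_num) (by norm_num) ?_
  by_cases h : 5 ∣ Fintype.card F
  · have := charP_of_dvd (by norm_num) h
    exact DefChar.E8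
  · refine RowsNeg.E8 rfl (by norm_num) h ?_
    rw [S1065.result rfl]
    exact ((dvd_pow_sub_one (by norm_num) h (by norm_num : 5 - 1 ∣ 24)).mul_left _).mul_right _

theorem r5_E6 : R5 (chevE6.group F) := by
  have : Fact (Nat.Prime 5) := ⟨by norm_num⟩
  refine R5.of_hasReal (p := 5) (by norm_num) (by norm_num) ?_
  by_cases h : 5 ∣ Fintype.card F
  · have := charP_of_dvd (by norm_num) h
    exact DefChar.E6
  · have h1 : 5 ∣ Nat.card ↥(chevE6.group F) := by
      have h2 : 5 ∣ Nat.gcd 3 (Fintype.card F - 1) * Nat.card ↥(chevE6.group F) := by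
        rw [S1063.result rfl]
        exact (dvd_pow_sub_one (by norm_num) h (by norm_num)).mul_left _
      refine (Nat.Coprime.dvd_mul_left ?_).1 h2
      exact Nat.Coprime.coprime_dvd_right (Nat.gcd_dvd_left _ _) (by norm_num)
    rcases RowsSix.E6' rfl (by norm_num) (by norm_num) h h1 with h2 | ⟨h2, -⟩
    · exact h2
    · exfalso
      have h3 : orderOf ((Fintype.card F : ℕ) : ZMod 5) ∣ 4 := by
        refine orderOf_dvd_of_pow_eq_one ?_
        refine ZMod.pow_card_sub_one_eq_one ?_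
        intro h0
        exact h ((ZMod.natCast_eq_zero_iff _ _).1 h0)
      have h4 := Nat.le_of_dvd (by norm_num) h3
      omega

theorem r5_E7 [Finite ↥(chevE7.group F)] : R5 (chevE7.group F) := r5_E6.of_involves (RowSeven.involves67 F)

/-- the `q`-power map on `K`, `|K| = q ^ m` -/
theorem exists_frob {K : Type u} [Field K] [Fintype K] {q m : ℕ} (hq : IsPrimePow q) (hm : 0 < m)
    (hK : Fintype.card K = q ^ m) : ∃ φ : K →+* K, ∀ x, φ x = x ^ q := by
  obtain ⟨φ, hφ⟩ := ChevalleyStructure.TwistedE6Sigma.exists_frob (K := K) (m := m) hq (by omega) hK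
  exact ⟨φ, hφ⟩

theorem r5_TwD4 {K : Type u} [Field K] [Fintype K] {q : ℕ} (hq : IsPrimePow q) (hK : Fintype.card K = q ^ 3) :
    R5 ↥(twistedD4 K q) := by
  have : Fact (Nat.Prime 7) := ⟨by norm_num⟩
  refine R5.of_hasReal (p := 7) (by norm_num) (by norm_num) ?_
  by_cases h : 7 ∣ q
  · have := charP_of_dvd (F := K) (p := 7) (by norm_num) (by rw [hK]; exact h.trans (dvd_pow_self q (by norm_num)))
    obtain ⟨φ, hφ⟩ := exists_frob hq (by norm_num) hK
    exact DefChar.TwD4 hφ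
  · refine RowTriD4.row hq hK (by norm_num) h ?_
    rw [S1067.result hq hK]
    exact ((dvd_pow_sub_one (by norm_num) h (by norm_num)).mul_left _).mul_right _

theorem r5_TwE6 {K : Type u} [Field K] [Fintype K] {q : ℕ} (hq : IsPrimePow q) (hK : Fintype.card K = q ^ 2)
    [Finite ↥(twistedE6 K q)]
    (hs : IsSimpleGroup ↥(twistedE6 K q)) (hna : ¬ IsMulCommutative ↥(twistedE6 K q)) :
    R5 ↥(twistedE6 K q) := by
  have : Fact (Nat.Prime 5) := ⟨by norm_num⟩
  by_cases h : 5 ∣ q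
  · refine R5.of_hasReal (p := 5) (by norm_num) (by norm_num) ?_
    have := charP_of_dvd (F := K) (p := 5) (by norm_num) (by rw [hK]; exact h.trans (dvd_pow_self q (by norm_num)))
    obtain ⟨φ, hφ⟩ := exists_frob hq (by norm_num) hK
    exact DefChar.TwE6 hφ
  · have h1 : 5 ∣ Nat.card ↥(twistedE6 K q) := by
      have h2 : 5 ∣ Nat.gcd 3 (q + 1) * Nat.card ↥(twistedE6 K q) := by
        rw [S1066.result hq hK]
        exact (dvd_pow_sub_one (by norm_num) h (by norm_num)).mul_left _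
      refine (Nat.Coprime.dvd_mul_left ?_).1 h2
      exact Nat.Coprime.coprime_dvd_right (Nat.gcd_dvd_left _ _) (by norm_num)
    rcases RowsSix.TwE6 hq hK (by norm_num) (by norm_num) h h1 with h2 | ⟨x, hx⟩
    · exact R5.of_hasReal (p := 5) (by norm_num) (by norm_num) h2
    · exact R5.of_orderOf hs hna h1 hx

end Cfsg.Agent.H327.D5
end

-- part: H327/D5/Tw
section
/-!
# Real elements of prime order at least five in the groups `Sz(q)`, `²G₂(q)`, `²F₄(q)`
-/

set_option autoImplicit false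
set_option linter.unusedSectionVars false

namespace Cfsg.Agent.H327.D5

open Cfsg Cfsg.Lie Cfsg.Agent.KFacts.TwF4

/-! ### `²F₄(q)` -/

namespace TwF

theorem word {G : Type*} [Group G] {x n : G} (hx : x ^ 4 = 1) (hn : n * n = 1)
    (h : n * x ^ 2 * n * x⁻¹ * (n * x * n) = n) : (x ^ 2 * n) ^ 5 = 1 := by
  have hn' : n⁻¹ = n := inv_eq_of_mul_eq_one_left hn
  have ha : x ^ 2 * x ^ 2 = 1 := by rw [← pow_add]; exact hx
  have ha' : (x ^ 2)⁻¹ = x ^ 2 := inv_eq_of_mul_eq_one_left ha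
  have h0 : x ^ 2 * n * (x⁻¹ * n * x) = n := by
    have h3 : n * (n * x ^ 2 * n * x⁻¹ * (n * x * n)) * n = n * n * n := by rw [h]
    calc x ^ 2 * n * (x⁻¹ * n * x) = 1 * x ^ 2 * n * (x⁻¹ * n * x) * 1 := by group
      _ = (n * n) * x ^ 2 * n * (x⁻¹ * n * x) * (n * n) := by rw [hn]
      _ = n * (n * x ^ 2 * n * x⁻¹ * (n * x * n)) * n := by group
      _ = n * n * n := h3
      _ = n := by rw [hn, one_mul]
  -- `x⁻¹ n x = n x² n`
  have h1 : x⁻¹ * n * x = n * x ^ 2 * n := by
    calc x⁻¹ * n * x = n⁻¹ * (x ^ 2)⁻¹ * (x ^ 2 * n * (x⁻¹ * n * x)) := by group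
      _ = n * x ^ 2 * n := by rw [h0, hn', ha']
  have h2 : x ^ 2 * n * x ^ 2 = n * x ^ 2 * n * x ^ 2 * n * x ^ 2 * n := by
    calc x ^ 2 * n * x ^ 2 = (x ^ 2)⁻¹ * n * x ^ 2 := by rw [ha']
      _ = x⁻¹ * (x⁻¹ * n * x) * x := by simp only [pow_two, mul_inv_rev, mul_assoc]
      _ = x⁻¹ * (n * x ^ 2 * n) * x := by rw [h1]
      _ = (x⁻¹ * n * x) * x ^ 2 * (x⁻¹ * n * x) := by group
      _ = (n * x ^ 2 * n) * x ^ 2 * (n * x ^ 2 * n) := by rw [h1]
      _ = _ := by group
  generalize x ^ 2 = a at *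
  calc (a * n) ^ 5 = (a * n * a) * (n * a * n * a * n * a * n) := by
        simp only [pow_succ, pow_zero, one_mul, mul_assoc]
    _ = (a * n * a) * (a * n * a) := by rw [← h2]
    _ = a * n * (a * a) * n * a := by group
    _ = a * (n * n) * a := by rw [ha]; group
    _ = 1 := by rw [hn, mul_one, ha]

variable {F : Type*} [Field F] {σ : F →+* F} {G : Type*} [Group G] (S : Full σ G)

include S in
theorem r5 [Finite G] : R5 G := by
  have hn2 := S.n2_sq
  have hn' : S.n2⁻¹ = S.n2 := inv_eq_of_mul_eq_one_left hn2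
  have two : (1 : F) + 1 = 0 := by rw [← S.two]; norm_num
  have hx2 : S.e 0 1 0 ^ 2 = S.e 0 0 1 := by
    rw [pow_two, S.e_mul, two, map_one]
    congr 1
    ring
  have hx3 : S.e 0 1 0 ^ 3 = S.e 0 1 1 := by
    rw [pow_succ, hx2, S.e_mul]
    congr 1 <;> ring
  have hx4 : S.e 0 1 0 ^ 4 = 1 := by
    rw [show (4 : ℕ) = 2 + 2 from rfl, pow_add, hx2, S.e_mul, add_zero, zero_mul, add_zero, two]
    exact H318.TwF.e_zero S 0
  have hxi : (S.e 0 1 0)⁻¹ = S.e 0 1 1 := by
    rw [← hx3]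
    exact inv_eq_of_mul_eq_one_left (by rw [← pow_succ]; exact hx4)
  have e4 : (4 : ZMod 8) - 0 = 4 := by decide
  have hy : S.n2 * S.e 0 1 0 * S.n2 = S.e 4 1 0 := by
    have := S.n2_e 0 1 0
    rw [hn', e4] at this
    exact this
  have hz : S.n2 * S.e 0 0 1 * S.n2 = S.e 4 0 1 := by
    have := S.n2_e 0 0 1
    rw [hn', e4] at this
    exact this
  have hw := word hx4 hn2 (by
    rw [hx2, hxi, hy, hz]
    exact S.n2_word.symm)
  refine R5.of_real' (p := 5) (by norm_num) le_rfl (x := S.e 0 1 0 ^ 2 * S.n2) (g := S.n2) hw ?_ ?_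
  · rw [hx2]
    intro h
    -- `n₂ = e₀(0,1)`
    have h0 : S.e 0 0 1 = S.n2 := by
      have := eq_inv_of_mul_eq_one_left h
      rw [this, hn']
    -- conjugating `o₀(1)`
    have h1 := S.n2_o 0 1
    have e3 : (3 : ZMod 8) - 0 = 3 := by decide
    rw [e3, ← h0, S.e_o0 0 0 1 1, mul_assoc, mul_inv_cancel, mul_one] at h1
    have h2 := S.o_o3 0 1 1
    have e3' : (0 : ZMod 8) + 3 = 3 := by decide
    have e1 : (0 : ZMod 8) + 1 = 1 := by decide
    have e2 : (0 : ZMod 8) + 2 = 2 := by decide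
    rw [e3', e1, e2, ← h1] at h2
    have h3 := H318.TwF.o_sq S 0
    have h4 := H318.TwF.o_ne_succ S 1
    have e12 : (1 : ZMod 8) + 1 = 2 := by decide
    rw [e12] at h4
    have h5 := H318.TwF.o_sq S 1
    apply h4
    simp only [map_one, mul_one] at h2
    have h6 : S.o 1 1 * S.o 2 1 = 1 := by
      rw [mul_assoc (S.o 0 1 * S.o 0 1)] at h2
      exact (mul_eq_left (a := S.o 0 1 * S.o 0 1)).1 h2.symm
    exact (mul_left_cancel (h5.trans h6.symm)).symm
  · rw [hx2]
    have h3 : S.e 0 0 1 * S.e 0 0 1 = 1 := by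
      rw [← hx2, ← pow_add]
      exact hx4
    calc S.e 0 0 1 * S.n2 * S.n2 * (S.e 0 0 1 * S.n2) = S.e 0 0 1 * (S.n2 * S.n2) * S.e 0 0 1 * S.n2 := by group
      _ = S.e 0 0 1 * S.e 0 0 1 * S.n2 := by rw [hn2, mul_one]
      _ = S.n2 := by rw [h3, one_mul]

end TwF

open Cfsg.Agent.ChevalleyStructure.TwF4.TwistedFix in
/-- `²F₄(q)` -/
theorem r5_twF4 {G : Type*} [Group G] [Finite G] (h : Iso2F4 G) : R5 G := by
  obtain ⟨K, _, _, m, -, hK, ⟨e⟩⟩ := h
  have := H318.charTwo_of_card hK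
  have : Finite ↥(twistedF4 K (2 ^ m)) := Finite.of_equiv _ e.toEquiv
  obtain ⟨φ, hφ⟩ := exists_rln hK
  exact (TwF.r5 (Inst.full hK hφ)).congr e.symm

/-! ### `²G₂(q)` -/

/-- a prime `≥ 5` -/
theorem exists_prime_ge_five {n : ℕ} (h1 : 2 < n) (h2 : n % 4 = 2) (h3 : n % 3 ≠ 0) : ∃ p, p.Prime ∧ 5 ≤ p ∧ p ∣ n := by
  obtain ⟨m, rfl⟩ : ∃ m, n = 2 * m := ⟨n / 2, by omega⟩
  have hm : m ≠ 1 := by omega
  obtain ⟨p, hp, hpm⟩ := Nat.exists_prime_and_dvd hm
  refine ⟨p, hp, ?_, hpm.mul_left 2⟩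
  have hp2 : p ≠ 2 := by rintro rfl; omega
  have hp3 : p ≠ 3 := by rintro rfl; (clear * - h1 h3 hpm; omega)
  have hp4 : p ≠ 4 := by rintro rfl; revert hp; decide
  have := hp.two_le
  omega

theorem three_pow_odd_mod (m : ℕ) : 3 ^ (2 * m + 1) % 4 = 3 := by
  rw [pow_succ, pow_mul, Nat.mul_mod, Nat.pow_mod]
  norm_num

open Cfsg.Agent.LieRecognition in
/-- `²G₂(q)` -/
theorem r5_ree {G : Type*} [Group G] [Finite G] (h : IsoRee G) : R5 G := by
  obtain ⟨K, _, _, m, hm, hK, ⟨e⟩⟩ := h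
  have : Finite ↥(twistedG2 K (3 ^ m)) := Finite.of_equiv _ e.toEquiv
  refine R5.congr e.symm ?_
  have D := ReeFinal.data hK
  have h1 := three_pow_odd_mod m
  have h27 : 27 ≤ 3 ^ (2 * m + 1) := by
    calc 27 = 3 ^ 3 := by norm_num
      _ ≤ _ := Nat.pow_le_pow_right (by norm_num) (by omega)
  have h3 : 3 ^ (2 * m + 1) % 3 = 0 := by rw [pow_succ, Nat.mul_mod_left]
  obtain ⟨p, hp, h5, hpd⟩ := exists_prime_ge_five (n := 3 ^ (2 * m + 1) - 1) (by omega) (by omega) (by omega)
  have : Fact p.Prime := ⟨hp⟩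
  have hpK : p ∣ Nat.card Kˣ := by
    rw [Nat.card_units, Nat.card_eq_fintype_card, hK]
    exact hpd
  obtain ⟨a, ha⟩ := exists_prime_orderOf_dvd_card' p hpK
  have hh : ∀ k : ℕ, ReeData.h hK a ^ k = ReeData.h hK (a ^ k) := fun k => (ReeSplit.h_pow D a k).symm
  have hone : ReeData.h hK (1 : Kˣ) = 1 := by
    have := D.h_mul 1 1
    rw [mul_one] at this
    exact (mul_eq_left.1 this.symm)
  refine R5.of_real' hp h5 (x := ReeData.h hK a) (g := ReeData.n hK) ?_ ?_ ?_
  · rw [hh, ← ha, pow_orderOf_eq_one, hone]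
  · intro h
    have h6 : a = 1 := (ReeSplit.h_eq_iff D).1 (h.trans hone.symm)
    rw [h6, orderOf_one] at ha
    omega
  · rw [mul_assoc, D.n_h, ← mul_assoc, ← D.h_mul, mul_inv_cancel, hone, one_mul]

/-! ### `Sz(q)` -/

/-- `Sz(q)` -/
theorem r5_suzuki {G : Type*} [Group G] [Finite G] (hs : IsSimpleGroup G) (hna : ¬ IsMulCommutative G)
    (h : IsoSuzuki G) : R5 G := by
  have h' := h
  obtain ⟨F, _, _, m, hm, hF, ⟨e⟩⟩ := h'
  have hcard : Nat.card G = (2 ^ (2 * m + 1)) ^ 2 * (2 ^ (2 * m + 1) - 1) * ((2 ^ (2 * m + 1)) ^ 2 + 1) := by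
    rw [Nat.card_congr e.toEquiv]
    exact (Cfsg.Agent.S1163.result hm hF).1
  have : Fact (Nat.Prime 5) := ⟨by norm_num⟩
  refine R5.of_cyclic hs hna ?_ (fun P => OddRank.SzTits.isCyclic_of_isPGroup h (p := 5) (by norm_num) P P.isPGroup')
  rw [hcard]
  refine Dvd.dvd.mul_left ?_ _
  have h1 : ((2 ^ (2 * m + 1)) ^ 2 + 1) % 5 = 0 := by
    have : (2 ^ (2 * m + 1)) ^ 2 = 16 ^ m * 4 := by
      rw [← pow_mul, show (2 * m + 1) * 2 = 4 * m + 2 from by ring, pow_add, pow_mul]
      norm_num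
    rw [this, Nat.add_mod, Nat.mul_mod, Nat.pow_mod]
    norm_num
  exact Nat.dvd_of_mod_eq_zero h1

end Cfsg.Agent.H327.D5
end

-- part: H327/D5/Orth
section
/-!
# Real elements of the orthogonal groups of Witt index at least three
-/

set_option autoImplicit false

namespace Cfsg.Agent.H327.D5.Orth

open Matrix Cfsg Cfsg.Agent.H153.SixOmega
open scoped commutatorElement

def gM : Matrix (Fin 3 ⊕ Fin 3) (Fin 3 ⊕ Fin 3) ℤ :=
  fromBlocks !![0, 0, 1; 0, 0, 0; 0, 0, 0]
    !![0, 0, 0; 0, -1, 0; 1, 0, 0]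
    !![0, 0, 0; 0, -1, -1; 1, 0, -1]
    !![1, -1, 1; 1, 0, 0; 0, 1, 0]
def gI : Matrix (Fin 3 ⊕ Fin 3) (Fin 3 ⊕ Fin 3) ℤ :=
  fromBlocks !![1, 1, 0; -1, 0, 1; 1, 0, 0]
    !![0, 0, 1; 0, -1, 0; 0, 0, 0]
    !![0, 0, 1; 0, -1, 0; 0, -1, -1]
    !![0, 0, 0; 0, 0, 0; 1, 0, 0]
def gL : Matrix (Fin 3 ⊕ Fin 3) (Fin 3 ⊕ Fin 3) ℤ :=
  fromBlocks !![0, 0, 0; 0, 0, 0; 0, 0, 0]
    !![-1, 0, 0; 0, -1, 0; 1, -1, 0]
    !![0, 0, 0; 0, 0, 0; 0, 0, 0]
    !![0, 1, 0; 0, 0, 0; 0, 0, 0]
def aM : Matrix (Fin 3 ⊕ Fin 3) (Fin 3 ⊕ Fin 3) ℤ :=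
  fromBlocks !![1, 0, -1; 0, 0, 1; 0, -1, -1]
    !![0, 1, 0; 0, 0, 0; 1, 0, 0]
    !![0, 0, 0; 0, 0, 0; 0, 0, 0]
    !![1, 0, 0; 1, -1, 1; 0, -1, 0]
def aI : Matrix (Fin 3 ⊕ Fin 3) (Fin 3 ⊕ Fin 3) ℤ :=
  fromBlocks !![1, 1, 0; 0, -1, -1; 0, 1, 0]
    !![0, 0, 1; 1, 0, 0; 0, 0, 0]
    !![0, 0, 0; 0, 0, 0; 0, 0, 0]
    !![1, 0, 0; 0, 0, -1; -1, 1, -1]
def aL : Matrix (Fin 3 ⊕ Fin 3) (Fin 3 ⊕ Fin 3) ℤ :=
  fromBlocks !![0, 0, 0; 0, 0, 0; 0, 0, 0]
    !![0, 0, 0; 0, 0, 0; 0, 0, 0]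
    !![0, 0, 0; 0, 0, 0; 0, 0, 0]
    !![0, -1, 0; 0, 0, 0; 0, 0, 0]
def bM : Matrix (Fin 3 ⊕ Fin 3) (Fin 3 ⊕ Fin 3) ℤ :=
  fromBlocks !![0, 0, 1; -1, 0, 0; 0, -1, 0]
    !![0, 0, 0; 0, 0, 0; 0, 0, 0]
    !![0, 0, 0; 0, 0, 0; 0, 0, 0]
    !![0, 0, 1; -1, 0, 0; 0, -1, 0]
def bI : Matrix (Fin 3 ⊕ Fin 3) (Fin 3 ⊕ Fin 3) ℤ :=
  fromBlocks !![0, -1, 0; 0, 0, -1; 1, 0, 0]
    !![0, 0, 0; 0, 0, 0; 0, 0, 0]
    !![0, 0, 0; 0, 0, 0; 0, 0, 0]
    !![0, -1, 0; 0, 0, -1; 1, 0, 0]
def bL : Matrix (Fin 3 ⊕ Fin 3) (Fin 3 ⊕ Fin 3) ℤ :=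
  fromBlocks !![0, 0, 0; 0, 0, 0; 0, 0, 0]
    !![0, 0, 0; 0, 0, 0; 0, 0, 0]
    !![0, 0, 0; 0, 0, 0; 0, 0, 0]
    !![0, 0, 0; 0, 0, 0; 0, 0, 0]

/-- the Gram matrix -/
def K6 (R : Type*) [CommRing R] : Matrix (Fin 3 ⊕ Fin 3) (Fin 3 ⊕ Fin 3) R := fromBlocks 0 1 0 0

section

variable (F : Type*) [Field F]

theorem quad_eq (v : Fin 3 ⊕ Fin 3 → F) : quadFormPlus 3 F v = v ⬝ᵥ (K6 F *ᵥ v) := by
  rw [quadFormPlus_eq, K6, fromBlocks_mulVec, dotProduct_block]
  simp

theorem quad_map {M L : Matrix (Fin 3 ⊕ Fin 3) (Fin 3 ⊕ Fin 3) ℤ} (h : Mᵀ * K6 ℤ * M = K6 ℤ + (L - Lᵀ))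
    (v : Fin 3 ⊕ Fin 3 → F) :
    quadFormPlus 3 F ((Int.castRingHom F).mapMatrix M *ᵥ v) = quadFormPlus 3 F v := by
  have h1 := congrArg (Int.castRingHom F).mapMatrix h
  have hK : (Int.castRingHom F).mapMatrix (K6 ℤ) = K6 F := by
    rw [K6, K6, RingHom.mapMatrix_apply, fromBlocks_map]
    simp
  have ht : ∀ N : Matrix (Fin 3 ⊕ Fin 3) (Fin 3 ⊕ Fin 3) ℤ, (Int.castRingHom F).mapMatrix Nᵀ =
      ((Int.castRingHom F).mapMatrix N)ᵀ := fun N => rfl
  rw [map_mul, map_mul, map_add, map_sub, hK, ht, ht] at h1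
  rw [quad_eq, quad_eq]
  have h2 : ((Int.castRingHom F).mapMatrix M *ᵥ v) ⬝ᵥ (K6 F *ᵥ ((Int.castRingHom F).mapMatrix M *ᵥ v)) =
      v ⬝ᵥ ((((Int.castRingHom F).mapMatrix M)ᵀ * K6 F * (Int.castRingHom F).mapMatrix M) *ᵥ v) := by
    rw [Matrix.mulVec_mulVec, Matrix.dotProduct_mulVec, ← Matrix.mulVec_transpose, Matrix.mulVec_mulVec,
      dotProduct_comm, Matrix.transpose_mul, Matrix.dotProduct_mulVec, ← Matrix.mulVec_transpose]
    rw [Matrix.transpose_mul, Matrix.transpose_mul, Matrix.transpose_transpose, Matrix.transpose_transpose,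
      Matrix.mul_assoc, dotProduct_comm]
  rw [h2, h1, Matrix.add_mulVec, Matrix.sub_mulVec, dotProduct_add, dotProduct_sub, Matrix.mulVec_transpose,
    dotProduct_comm v (v ᵥ* _), ← Matrix.dotProduct_mulVec, sub_self, add_zero]

end

/-- the isometries over `ℤ` as units -/
def uu (M N : Matrix (Fin 3 ⊕ Fin 3) (Fin 3 ⊕ Fin 3) ℤ) (h1 : M * N = 1) (h2 : N * M = 1) :
    (Matrix (Fin 3 ⊕ Fin 3) (Fin 3 ⊕ Fin 3) ℤ)ˣ := ⟨M, N, h1, h2⟩

theorem hg1 : gM * gI = 1 := by decide +kernel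
theorem hg2 : gI * gM = 1 := by decide +kernel
theorem ha1 : aM * aI = 1 := by decide +kernel
theorem ha2 : aI * aM = 1 := by decide +kernel
theorem hb1 : bM * bI = 1 := by decide +kernel
theorem hb2 : bI * bM = 1 := by decide +kernel
theorem hgL : gMᵀ * K6 ℤ * gM = K6 ℤ + (gL - gLᵀ) := by unfold K6; decide +kernel
theorem haL : aMᵀ * K6 ℤ * aM = K6 ℤ + (aL - aLᵀ) := by unfold K6; decide +kernel
theorem hbL : bMᵀ * K6 ℤ * bM = K6 ℤ + (bL - bLᵀ) := by unfold K6; decide +kernel

theorem g_pow : (uu gM gI hg1 hg2) ^ 5 = 1 := by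
  apply Units.ext
  change gM ^ 5 = 1
  decide +kernel

theorem g_t : uu gM gI hg1 hg2 * ⁅uu aM aI ha1 ha2, uu bM bI hb1 hb2⁆ * uu gM gI hg1 hg2 =
    ⁅uu aM aI ha1 ha2, uu bM bI hb1 hb2⁆ := by
  apply Units.ext
  change gM * (aM * bM * aI * bI) * gM = aM * bM * aI * bI
  decide +kernel

/-- to the isometry group over a field -/
def iso (F : Type*) [Field F] (u : (Matrix (Fin 3 ⊕ Fin 3) (Fin 3 ⊕ Fin 3) ℤ)ˣ)
    {L : Matrix (Fin 3 ⊕ Fin 3) (Fin 3 ⊕ Fin 3) ℤ}
    (h : (u : Matrix (Fin 3 ⊕ Fin 3) (Fin 3 ⊕ Fin 3) ℤ)ᵀ * K6 ℤ * u = K6 ℤ + (L - Lᵀ)) : H6 F :=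
  ⟨Units.map (Int.castRingHom F).mapMatrix.toMonoidHom u, by
    intro v _
    exact quad_map F h v⟩

theorem r5_comm (F : Type*) [Field F] [Finite F] : R5 (commutator (H6 F)) := by
  let g : H6 F := iso F (uu gM gI hg1 hg2) hgL
  let a : H6 F := iso F (uu aM aI ha1 ha2) haL
  let b : H6 F := iso F (uu bM bI hb1 hb2) hbL
  let φ := Units.map (Int.castRingHom F).mapMatrix.toMonoidHom (M := Matrix (Fin 3 ⊕ Fin 3) (Fin 3 ⊕ Fin 3) ℤ)
  have h5 : g ^ 5 = 1 := by
    apply Subtype.ext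
    change φ (uu gM gI hg1 hg2) ^ 5 = 1
    rw [← map_pow, g_pow, map_one]
  have ht : g * ⁅a, b⁆ * g = ⁅a, b⁆ := by
    apply Subtype.ext
    change φ (uu gM gI hg1 hg2) * ⁅φ (uu aM aI ha1 ha2), φ (uu bM bI hb1 hb2)⁆ * φ (uu gM gI hg1 hg2) =
      ⁅φ (uu aM aI ha1 ha2), φ (uu bM bI hb1 hb2)⁆
    rw [← map_commutatorElement, ← map_mul, ← map_mul, g_t]
  have hne : g ≠ 1 := by
    intro h
    have h1 : ((g : GeneralLinearGroup (Fin 3 ⊕ Fin 3) F) : Matrix (Fin 3 ⊕ Fin 3) (Fin 3 ⊕ Fin 3) F) = 1 := by rw [h]; rfl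
    have h2 := congrFun (congrFun h1 (Sum.inl 0)) (Sum.inl 0)
    change ((0 : ℤ) : F) = (1 : Matrix (Fin 3 ⊕ Fin 3) (Fin 3 ⊕ Fin 3) F) (Sum.inl 0) (Sum.inl 0) at h2
    rw [Matrix.one_apply_eq, Int.cast_zero] at h2
    exact zero_ne_one h2
  have htc : ⁅a, b⁆ ∈ commutator (H6 F) :=
    Subgroup.commutator_mem_commutator (Subgroup.mem_top _) (Subgroup.mem_top _)
  have hgc : g ∈ commutator (H6 F) := by
    have h1 : ⁅⁅a, b⁆, g⁆ ∈ commutator (H6 F) :=
      Subgroup.commutator_mem_commutator (Subgroup.mem_top _) (Subgroup.mem_top _)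
    have h2 : ⁅⁅a, b⁆, g⁆ = g⁻¹ * g⁻¹ := by
      rw [commutatorElement_def]
      have h3 : ⁅a, b⁆ * g = g⁻¹ * ⁅a, b⁆ := by rw [eq_inv_mul_iff_mul_eq, ← mul_assoc]; exact ht
      rw [h3]
      group
    rw [h2] at h1
    have h3 : g = (g⁻¹ * g⁻¹) ^ 2 := by
      have : g = g ^ 5 * (g⁻¹ * g⁻¹) ^ 2 := by group
      rw [h5, one_mul] at this
      exact this
    rw [h3]
    exact pow_mem h1 2
  refine R5.of_real' (p := 5) (by norm_num) le_rfl (x := ⟨g, hgc⟩) (g := ⟨⁅a, b⁆, htc⟩) (Subtype.ext h5) ?_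
    (Subtype.ext ht)
  intro h
  exact hne (congrArg Subtype.val h)

theorem r5_of_embedding {F : Type*} [Field F] [Finite F] {G : Type*} [Group G] (f : H6 F →* G)
    (hf : Function.Injective f) : R5 (commutator G ⧸ Subgroup.center (commutator G)) := by
  have h1 : ∀ x : commutator (H6 F), f x ∈ commutator G := fun x => hom_mem_commutator f x.2
  let f' : commutator (H6 F) →* commutator G := (f.comp (commutator (H6 F)).subtype).codRestrict _ h1
  have h2 : R5 (commutator G) := (r5_comm F).of_injective f' (fun x y h => by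
    have h3 : f x = f y := congrArg Subtype.val h
    exact Subtype.ext (hf h3))
  exact h2.quotient _ le_rfl

theorem r5_plus {F : Type*} [Field F] [Finite F] {m : ℕ} (hm : 3 ≤ m) : R5 (POmega F (quadFormPlus m F)) := by
  refine r5_of_embedding (extIso (plusSplit hm) (quadFormPlus 3 F) (quadFormPlus m F)
    (quadFormPlus (m - 3) F) ?_) (extIso_injective _ _ _ _ _)
  intro v
  exact sum_finSplit hm (fun i => v (Sum.inl i) * v (Sum.inr i))

theorem r5_minus {F : Type*} [Field F] [Finite F] {m : ℕ} (hm : 3 ≤ m) (a b : F) :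
    R5 (POmega F (quadFormMinus m F a b)) := by
  refine r5_of_embedding (extIso (minusSplit hm) (quadFormPlus 3 F) (quadFormMinus m F a b)
    (quadFormMinus (m - 3) F a b) ?_) (extIso_injective _ _ _ _ _)
  intro v
  have h1 := sum_finSplit hm (fun i => v (Sum.inl (Sum.inl i)) * v (Sum.inl (Sum.inr i)))
  unfold quadFormMinus quadFormPlus
  rw [h1, add_assoc]
  rfl

/-- splitting off three hyperbolic planes -/
def oddSplit {m : ℕ} (hm : 3 ≤ m) :
    (Fin 3 ⊕ Fin 3) ⊕ (Unit ⊕ (Fin (m - 3) ⊕ Fin (m - 3))) ≃ Unit ⊕ (Fin m ⊕ Fin m) :=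
  ((Equiv.sumAssoc _ _ _).symm.trans ((Equiv.sumCongr (Equiv.sumComm _ _) (Equiv.refl _)).trans
    (Equiv.sumAssoc _ _ _))).trans (Equiv.sumCongr (Equiv.refl _) (plusSplit hm))

theorem r5_odd {F : Type*} [Field F] [Finite F] {m : ℕ} (hm : 3 ≤ m) : R5 (POmega F (quadFormOdd m F)) := by
  refine r5_of_embedding (extIso (oddSplit hm) (quadFormPlus 3 F) (quadFormOdd m F)
    (quadFormOdd (m - 3) F) ?_) (extIso_injective _ _ _ _ _)
  intro v
  have h1 := sum_finSplit hm (fun i => v (Sum.inr (Sum.inl i)) * v (Sum.inr (Sum.inr i)))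
  unfold quadFormOdd quadFormPlus
  rw [h1, ← add_assoc, add_comm (v (Sum.inl ()) ^ 2), add_assoc]
  rfl

end Cfsg.Agent.H327.D5.Orth
end

-- part: H327/D5/PSp
section
/-!
# Real elements of `PSp_{2m}(F)`
-/

set_option autoImplicit false

namespace Cfsg.Agent.H327.D5

open Matrix

theorem exists_quadratic_ext (F : Type) [Field F] [Fintype F] : ∃ (K : Type) (_ : Field K) (_ : Fintype K),
    Fintype.card K = Fintype.card F ^ 2 := by
  obtain ⟨p, n, hp, hn, hq⟩ := (isPrimePow_nat_iff _).1 (FiniteField.isPrimePow_card F)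
  have : Fact p.Prime := ⟨hp⟩
  have h2 : 2 * n ≠ 0 := by omega
  have hfin : Fintype (GaloisField p (2 * n)) := Fintype.ofFinite _
  refine ⟨GaloisField p (2 * n), inferInstance, hfin, ?_⟩
  have h3 := GaloisField.card p (2 * n) h2
  rw [← Nat.card_eq_fintype_card, h3, ← hq, ← pow_mul, mul_comm]

theorem sq_ne_seven (q : ℕ) : q ^ 2 ≠ 7 := by
  intro h
  have h1 : q ≤ 2 := by
    by_contra hc
    have : 3 ^ 2 ≤ q ^ 2 := Nat.pow_le_pow_left (by omega) 2
    omega
  interval_cases q <;> omega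

theorem r5_sl2_sq {K : Type*} [Field K] [Fintype K] {q : ℕ} (hq : 2 ≤ q) (hK : Fintype.card K = q ^ 2) :
    R5 (Matrix.SpecialLinearGroup (Fin 2) K) := by
  refine r5_sl2 ?_ ?_
  · rw [hK]
    exact Nat.pow_le_pow_left hq 2
  · rw [hK]
    exact sq_ne_seven q

theorem spEmb_injective {F : Type} [Field F] (k l : ℕ) : Function.Injective (OddTab.BlockSp.emb k l F) := by
  intro A B h
  have h1 := OddTab.BlockSp.emb_coe (l := l) A
  rw [h, OddTab.BlockSp.emb_coe, fromBlocks_inj] at h1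
  exact Subtype.ext h1.1.symm

/-- **`PSp_{2m}(q)`** -/
theorem r5_psp {F : Type} [Field F] [Fintype F] {m : ℕ} (hm : 2 ≤ m) : R5 (Cfsg.PSp m F) := by
  obtain ⟨K, _, _, hK⟩ := exists_quadratic_ext F
  obtain ⟨φ, hφ⟩ := S2678.result (K := K) (F := F) hK rfl 1
  obtain ⟨l, rfl⟩ := Nat.exists_eq_add_of_le hm
  have h1 : R5 (Matrix.SpecialLinearGroup (Fin 2) K) := r5_sl2_sq Fintype.one_lt_card hK
  let c : Matrix.SpecialLinearGroup (Fin 2) K →* (Fin 1 → Matrix.SpecialLinearGroup (Fin 2) K) :=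
    MonoidHom.pi (fun _ => MonoidHom.id _)
  have hc : Function.Injective c := fun a b h => congrFun h 0
  have h2 : R5 (symplecticGroup (Fin (2 + l)) F) := by
    refine h1.of_injective ((OddTab.BlockSp.emb 2 l F).comp (φ.comp ((Sigma.Symp.emb 1 K).comp c))) ?_
    exact (spEmb_injective 2 l).comp (hφ.comp ((Sigma.Symp.emb_injective 1).comp hc))
  exact h2.quotient _ le_rfl

end Cfsg.Agent.H327.D5
end

-- part: H327/D5/Sylow
section
/-!
# Simple groups with a Sylow subgroup of Fermat prime order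
-/

set_option autoImplicit false

namespace Cfsg.Agent.H327.D5

open Subgroup

/-- a simple group whose order is exactly divisible by a Fermat prime `p ≥ 5` -/
theorem r5_of_card {G : Type*} [Group G] [Finite G] (hs : IsSimpleGroup G) {p k : ℕ}
    (hp : p.Prime) (hpk : p = 2 ^ k + 1) (h5 : 5 ≤ p) (hne : Nat.card G ≠ p) (h1 : p ∣ Nat.card G)
    (h2 : ¬ p ^ 2 ∣ Nat.card G) : R5 G := by
  have : Fact p.Prime := ⟨hp⟩
  obtain ⟨P⟩ : Nonempty (Sylow p G) := inferInstance
  have hP : Nat.card P = p := by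
    obtain ⟨n, hn⟩ := P.isPGroup'.exists_card_eq
    have h3 : n ≠ 0 := by
      rintro rfl
      rw [pow_zero] at hn
      have h4 := P.dvd_card_of_dvd_card h1
      rw [hn] at h4
      exact hp.one_lt.ne' (Nat.dvd_one.1 h4)
    have h4 : n < 2 := by
      by_contra hc
      apply h2
      have h5 : p ^ 2 ∣ Nat.card P := by
        rw [hn]
        exact pow_dvd_pow p (by omega)
      exact h5.trans (Subgroup.card_subgroup_dvd_card _)
    have h5 : n = 1 := by omega
    rw [hn, h5, pow_one]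
  have hcyc : IsCyclic P := isCyclic_of_prime_card hP
  -- the normalizer does not centralize
  have hN : ¬ normalizer ((P : Subgroup G) : Set G) ≤ centralizer ((P : Subgroup G) : Set G) := by
    intro hle
    have hc := MonoidHom.ker_transferSylow_isComplement' P hle
    have hn : (MonoidHom.transferSylow P hle).ker.Normal := MonoidHom.normal_ker _
    rcases hs.eq_bot_or_eq_top_of_normal _ hn with h | h
    · apply hne
      have h3 := hc.card_mul_card
      rw [h, card_bot, one_mul] at h3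
      rw [← h3]; exact hP
    · have h3 := hc.card_mul_card
      rw [h, card_top] at h3
      have h4 : 0 < Nat.card G := Nat.card_pos
      have h5 : Nat.card G * p = Nat.card G * 1 := by rw [mul_one]; rw [← hP]; exact h3
      have h6 := Nat.eq_of_mul_eq_mul_left h4 h5
      omega
  obtain ⟨g, hg, hgc⟩ := Set.not_subset.1 hN
  -- the 2-part of `g`
  obtain ⟨a, m, hm, ham⟩ := Nat.exists_eq_two_pow_mul_odd (orderOf_pos g).ne'
  have ht : orderOf (g ^ m) = 2 ^ a := by
    rw [orderOf_pow_of_dvd (by rintro rfl; simp at hm) (by rw [ham]; exact Dvd.intro_left _ rfl), ham]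
    exact Nat.mul_div_cancel _ hm.pos
  let φ : normalizer ((P : Subgroup G) : Set G) →* MulAut (P : Subgroup G) := (P : Subgroup G).normalizerMonoidHom
  have hφ : ∀ (x : normalizer ((P : Subgroup G) : Set G)) (r : (P : Subgroup G)),
      ((φ x r : (P : Subgroup G)) : G) = x * r * (x : G)⁻¹ := fun x r => rfl
  have hcard : Nat.card (MulAut (P : Subgroup G)) = 2 ^ k := by
    rw [IsCyclic.card_mulAut]
    have h3 : Nat.card (P : Subgroup G) = p := hP
    rw [h3, Nat.totient_prime hp, hpk, Nat.add_sub_cancel]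
  refine ⟨p, hp, h5, H722.RealP.hasReal_of_act P.isPGroup' (t := g ^ m) ⟨a, ht⟩ ?_ ?_⟩
  · intro r hr
    exact (mem_normalizer_iff.1 (pow_mem hg m) r).1 hr
  · by_contra hcon
    push Not at hcon
    apply hgc
    have h3 : φ (⟨g, hg⟩ ^ m) = 1 := by
      apply MulEquiv.ext
      intro r
      apply Subtype.ext
      rw [hφ]
      exact hcon r r.2
    have h4 : φ ⟨g, hg⟩ ^ m = 1 := by rw [← map_pow]; exact h3
    have h5 : φ ⟨g, hg⟩ ^ (2 ^ k) = 1 := by
      rw [← hcard]
      exact pow_card_eq_one'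
    have h6 : φ ⟨g, hg⟩ = 1 := by
      have hcop : Nat.Coprime m (2 ^ k) := Nat.Coprime.pow_right k (Nat.coprime_two_right.2 hm)
      have h7 : orderOf (φ ⟨g, hg⟩) ∣ Nat.gcd m (2 ^ k) :=
        Nat.dvd_gcd (orderOf_dvd_of_pow_eq_one h4) (orderOf_dvd_of_pow_eq_one h5)
      rw [hcop] at h7
      exact orderOf_eq_one_iff.1 (Nat.dvd_one.1 h7)
    rw [SetLike.mem_coe, mem_centralizer_iff]
    intro r hr
    have h7 := congrArg (fun f : MulAut (P : Subgroup G) => ((f ⟨r, hr⟩ : (P : Subgroup G)) : G)) h6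
    simp only [hφ, MulAut.one_apply] at h7
    rw [mul_inv_eq_iff_eq_mul] at h7
    exact h7.symm

/-- the same with a given order -/
theorem r5_of_card_eq {G : Type*} [Group G] [Finite G] (hs : IsSimpleGroup G) {p k N : ℕ} (hN : Nat.card G = N)
    (hp : p.Prime) (hpk : p = 2 ^ k + 1) (h5 : 5 ≤ p) (hne : N ≠ p) (h1 : p ∣ N) (h2 : ¬ p ^ 2 ∣ N) : R5 G :=
  r5_of_card hs hp hpk h5 (hN ▸ hne) (hN ▸ h1) (hN ▸ h2)

end Cfsg.Agent.H327.D5
end

-- part: H327/D5/PSU
section
/-!
# Real elements of `PSU_n(q)`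
-/

set_option autoImplicit false

namespace Cfsg.Agent.H327.D5

open Matrix Cfsg

theorem r5_su_mono {F : Type} [Field F] [Fintype F] {q m n : ℕ} (hF : Fintype.card F = q ^ 2) (h : m ≤ n)
    (h5 : R5 (SU m F q)) : R5 (SU n F q) :=
  h5.of_injective (Phan.emb hF 0 (by omega)) (Phan.emb_injective hF 0 (by omega))

theorem exists_field_card {q m : ℕ} (hm : m ≠ 0) (h : IsPrimePow (q ^ m)) : ∃ (K : Type) (_ : Field K) (_ : Fintype K),
    Fintype.card K = q := by
  have hq : IsPrimePow q := by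
    obtain ⟨p, n, hp, hn, hq⟩ := (isPrimePow_nat_iff _).1 h
    have h1 : q ∣ p ^ n := by rw [hq]; exact dvd_pow_self q hm
    obtain ⟨k, -, hk⟩ := (Nat.dvd_prime_pow hp).1 h1
    have hk0 : k ≠ 0 := by
      rintro rfl
      rw [pow_zero] at hk
      rw [hk, one_pow] at hq
      have := (Nat.pow_eq_one.1 hq).resolve_right (by omega)
      exact hp.one_lt.ne' this
    exact (isPrimePow_nat_iff _).2 ⟨p, k, hp, Nat.pos_of_ne_zero hk0, hk.symm⟩
  obtain ⟨p, n, hp, hn, hq⟩ := (isPrimePow_nat_iff _).1 hq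
  have : Fact p.Prime := ⟨hp⟩
  have hfin : Fintype (GaloisField p n) := Fintype.ofFinite _
  refine ⟨GaloisField p n, inferInstance, hfin, ?_⟩
  rw [← Nat.card_eq_fintype_card, GaloisField.card p n (by omega), hq]

theorem r5_su_two {F : Type} [Field F] [Fintype F] {q : ℕ} (hF : Fintype.card F = q ^ 2) (h4 : 4 ≤ q) (h7 : q ≠ 7) :
    R5 (SU 2 F q) := by
  obtain ⟨K, _, _, hK⟩ := exists_field_card two_ne_zero (hF ▸ FiniteField.isPrimePow_card F)
  obtain ⟨e⟩ := S0281.result (F := F) (K := K) hF hK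
  exact (r5_sl2 (by omega) (by omega)).congr e.symm

theorem r5_su_four_small {F : Type} [Field F] [Fintype F] {q : ℕ} (hF : Fintype.card F = q ^ 2) (hq : q = 2 ∨ q = 3) :
    R5 (SU 4 F q) := by
  have hs : IsSimpleGroup (PSU 4 F q) := S0283.result hF 4 (by norm_num) (by omega)
  have h5 : R5 (PSU 4 F q) := by
    rcases hq with rfl | rfl
    · have h1 : NotCT.HasOrd (.U 4) 2 (PSU 4 F 2) := NotCT.card_eq (p := 2) (k := 1) Nat.prime_two (t := .U 4)
        (by decide) ⟨F, _, _, hF, ⟨MulEquiv.refl _⟩⟩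
      have h2 : Nat.card (PSU 4 F 2) = 25920 := by
        simp only [NotCT.HasOrd, NotCT.Typ.D, NotCT.Typ.N, NotCT.Typ.P, NotCT.pU] at h1
        norm_num at h1
        omega
      exact r5_of_card_eq hs h2 (p := 5) (k := 2) (by norm_num) (by norm_num) le_rfl (by norm_num) (by norm_num)
        (by norm_num)
    · have h1 : NotCT.HasOrd (.U 4) 3 (PSU 4 F 3) := NotCT.card_eq (p := 3) (k := 1) Nat.prime_three (t := .U 4)
        (by decide) ⟨F, _, _, hF, ⟨MulEquiv.refl _⟩⟩
      have h2 : Nat.card (PSU 4 F 3) = 3265920 := by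
        simp only [NotCT.HasOrd, NotCT.Typ.D, NotCT.Typ.N, NotCT.Typ.P, NotCT.pU] at h1
        norm_num only [_root_.ite_true, _root_.one_mul, _root_.ite_false] at h1
        omega
      exact r5_of_card_eq hs h2 (p := 5) (k := 2) (by norm_num) (by norm_num) le_rfl (by norm_num) (by norm_num)
        (by norm_num)
  exact h5.of_quotient

/-! ### `SU₃(7)` -/

section Seven

variable {F : Type} [Field F]

/-- a unitary transvection -/
def xm (a : F) : Matrix (Fin 3) (Fin 3) F := !![1 + a ^ 4, a ^ 11, 0; a ^ 5, 1 - a ^ 4, 0; 0, 0, 1]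

/-- the inverting element -/
def um (a : F) : Matrix (Fin 3) (Fin 3) F := !![0, 1, 0; a ^ 2, 0, 0; 0, 0, a ^ 6]

theorem xm_pow {a : F} (ha : a ^ 8 = -1) (n : ℕ) :
    xm a ^ n = !![1 + n * a ^ 4, n * a ^ 11, 0; n * a ^ 5, 1 - n * a ^ 4, 0; 0, 0, 1] := by
  induction n with
  | zero =>
    ext i j; (revert i j; simp only [_root_.Fin.forall_fin_succ, _root_.pow_zero, _root_.Nat.cast_zero, _root_.MulZeroClass.zero_mul, _root_.add_zero, _root_.sub_zero, _root_.Matrix.of_apply, _root_.Matrix.cons_val', _root_.Matrix.cons_val_fin_one, Fin.isValue, _root_.Matrix.cons_val_zero, _root_.Matrix.cons_val_succ, _root_.IsEmpty.forall_iff, _root_.and_true, _root_.Matrix.one_apply_eq, Nat.reduceAdd, _root_.Fin.succ_zero_eq_one, _root_.ne_eq, _root_.zero_ne_one, _root_.not_false_eq_true, _root_.Matrix.one_apply_ne, _root_.Fin.succ_one_eq_two, Fin.reduceEq, _root_.and_self, _root_.Fin.succ_ne_zero, _root_.true_and])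
  | succ n ih =>
    rw [pow_succ, ih, xm]
    ext i j; (revert i j; simp only [Matrix.mul_apply, Fin.sum_univ_three, _root_.Fin.forall_fin_succ, _root_.Matrix.of_apply, _root_.Matrix.cons_val', _root_.Matrix.cons_val_fin_one, Fin.isValue, _root_.Matrix.cons_val_zero, _root_.Matrix.cons_val_one, _root_.Matrix.cons_val, _root_.Nat.cast_add, _root_.Nat.cast_one, _root_.MulZeroClass.mul_zero, _root_.add_zero, _root_.Matrix.cons_val_succ, _root_.mul_one, _root_.zero_add, _root_.implies_true, _root_.MulZeroClass.zero_mul, _root_.and_true, _root_.true_and]) <;> (repeat' with_reducible apply And.intro)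
    · linear_combination (n : F) * (a ^ 8 + 1 - 1) * ha
    · linear_combination (0 : F) * ha
    · linear_combination (0 : F) * ha
    · linear_combination (n : F) * (a ^ 8) * ha

theorem xm_um {a : F} (ha : a ^ 8 = -1) : xm a * um a * xm a = um a := by
  rw [xm, um]
  ext i j; (revert i j; simp only [Matrix.mul_apply, Fin.sum_univ_three, _root_.Fin.forall_fin_succ, _root_.Matrix.cons_mul, _root_.Nat.succ_eq_add_one, Nat.reduceAdd, _root_.Matrix.vecMul_cons, _root_.Matrix.head_cons, _root_.Matrix.smul_cons, _root_.smul_eq_mul, _root_.MulZeroClass.mul_zero, _root_.mul_one, _root_.Matrix.smul_empty, _root_.Matrix.tail_cons, _root_.zero_smul, _root_.Matrix.empty_vecMul, _root_.add_zero, _root_.Matrix.add_cons, _root_.zero_add, _root_.Matrix.empty_add_empty, _root_.one_smul, _root_.Matrix.empty_mul, _root_.Equiv.symm_apply_apply, _root_.Matrix.of_apply, _root_.Matrix.cons_val', _root_.Matrix.cons_val_fin_one, Fin.isValue, _root_.Matrix.cons_val_zero, _root_.Matrix.cons_val_one,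 _root_.Matrix.cons_val, _root_.Matrix.cons_val_succ, _root_.implies_true, _root_.MulZeroClass.zero_mul, _root_.and_true, _root_.true_and]) <;> (repeat' with_reducible apply And.intro)
  · linear_combination (a ^ 5 + a ^ 9) * ha
  · linear_combination (a ^ 16 - a ^ 8) * ha
  · ring
  · linear_combination (a ^ 5 - a ^ 9) * ha

theorem xm_det (a : F) (ha : a ^ 8 = -1) : (xm a).det = 1 := by
  rw [xm, Matrix.det_fin_three]
  simp
  linear_combination (-a ^ 8) * ha

theorem um_det (a : F) (ha : a ^ 8 = -1) : (um a).det = 1 := by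
  rw [um, Matrix.det_fin_three]
  simp
  linear_combination - ha

theorem r5_su3_seven {F : Type} [Field F] [Fintype F] (hF : Fintype.card F = 7 ^ 2) : R5 (SU 3 F 7) := by
  have hchar : ((7 : ℕ) : F) = 0 := by
    have h1 : ((Fintype.card F : ℕ) : F) = 0 := FiniteField.cast_card_eq_zero F
    rw [hF] at h1
    rw [Nat.cast_pow] at h1
    exact pow_eq_zero_iff two_ne_zero |>.1 h1
  -- an element of order 16
  obtain ⟨a, ha⟩ : ∃ a : F, a ^ 8 = -1 := by
    classical
    have hu : Fintype.card Fˣ = 48 := by rw [Fintype.card_units, hF]; norm_num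
    obtain ⟨g, hg⟩ := IsCyclic.exists_generator (α := Fˣ)
    have hog : orderOf g = 48 := by
      rw [orderOf_eq_card_of_forall_mem_zpowers hg, Nat.card_eq_fintype_card, hu]
    refine ⟨((g ^ 3 : Fˣ) : F), ?_⟩
    have h1 : ((g ^ 24 : Fˣ) : F) ^ 2 = 1 := by
      rw [← Units.val_pow_eq_pow_val, ← pow_mul, show 24 * 2 = 48 by norm_num, ← hog, pow_orderOf_eq_one, Units.val_one]
    have h2 : ((g ^ 24 : Fˣ) : F) ≠ 1 := by
      intro h
      have h3 : g ^ 24 = 1 := Units.ext h
      have h4 := orderOf_dvd_of_pow_eq_one h3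
      rw [hog] at h4
      omega
    rw [pow_two, mul_self_eq_one_iff] at h1
    have h3 := h1.resolve_left h2
    rw [← Units.val_pow_eq_pow_val, ← pow_mul]
    exact h3
  have ha0 : a ≠ 0 := by
    rintro rfl
    norm_num at ha
  have pk : ∀ k : ℕ, a ^ (8 * k) = (-1) ^ k := fun k => by rw [pow_mul, ha]
  have p16 : a ^ 16 = 1 := by rw [show 16 = 8 * 2 by norm_num, pk]; norm_num
  have p40 : a ^ 40 = -1 := by rw [show 40 = 8 * 5 by norm_num, pk]; norm_num
  have p48 : a ^ 48 = 1 := by rw [show 48 = 8 * 6 by norm_num, pk]; norm_num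
  have p88 : a ^ 88 = -1 := by rw [show 88 = 8 * 11 by norm_num, pk]; norm_num
  have p77 : a ^ 77 = - a ^ 5 := by rw [show 77 = 8 * 9 + 5 by norm_num, pow_add, pk]; ring
  have p35 : a ^ 35 = - a ^ 11 := by rw [show 35 = 8 * 3 + 11 by norm_num, pow_add, pk]; ring
  have hfrob : ∀ x y : F, (x + y) ^ 7 = x ^ 7 + y ^ 7 := by
    intro x y
    have h7 : (7 : F) = 0 := hchar
    linear_combination (x ^ 6 * y + 3 * x ^ 5 * y ^ 2 + 5 * x ^ 4 * y ^ 3 + 5 * x ^ 3 * y ^ 4 + 3 * x ^ 2 * y ^ 5 + x * y ^ 6) * h7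
  let x : Matrix.SpecialLinearGroup (Fin 3) F := ⟨xm a, xm_det a ha⟩
  let u : Matrix.SpecialLinearGroup (Fin 3) F := ⟨um a, um_det a ha⟩
  have hx : x ∈ SU 3 F 7 := by
    have h7 : (a ^ 4) ^ 7 = - a ^ 4 := by linear_combination (a ^ 20 - a ^ 12 + a ^ 4) * ha
    have e1 : (1 + a ^ 4) ^ 7 = 1 - a ^ 4 := by rw [hfrob, one_pow, h7]; ring
    have e2 : (1 - a ^ 4) ^ 7 = 1 + a ^ 4 := by rw [sub_eq_add_neg, hfrob, one_pow, Odd.neg_pow (by decide), h7]; ring
    apply SporadicStructure.U43Herm.mem_SU_of_cols hF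
    intro j k
    change ∑ i, xm a i j * (xm a i k) ^ 7 = _
    rw [Fin.sum_univ_three, xm]
    fin_cases j <;> fin_cases k <;> simp only [e1, e2, _root_.Fin.isValue, _root_.Fin.zero_eta, _root_.Matrix.of_apply, _root_.Matrix.cons_val', _root_.Matrix.cons_val_zero, _root_.Matrix.cons_val_fin_one, _root_.Matrix.cons_val_one, _root_.Matrix.cons_val, _root_.ne_eq, _root_.OfNat.ofNat_ne_zero, _root_.not_false_eq_true, _root_.zero_pow, _root_.MulZeroClass.mul_zero, _root_.add_zero, ↓ _root_.reduceIte, _root_.Fin.mk_one, _root_.zero_ne_one, _root_.Fin.reduceFinMk, _root_.one_pow, _root_.mul_one, _root_.Fin.reduceEq, _root_.one_ne_zero, _root_.MulZeroClass.zero_mul, _root_.zero_add]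
    · linear_combination - ha + p40
    · linear_combination (1 + a ^ 4) * p77
    · linear_combination (1 - a ^ 4) * p35
    · linear_combination - ha + p88
  have hu : u ∈ SU 3 F 7 := by
    apply SporadicStructure.U43Herm.mem_SU_of_cols hF
    intro j k
    change ∑ i, um a i j * (um a i k) ^ 7 = _
    rw [Fin.sum_univ_three, um]
    fin_cases j <;> fin_cases k <;> simp
    · linear_combination p16
    · linear_combination p48
  refine R5.of_real' (p := 7) (by norm_num) (by norm_num) (x := ⟨x, hx⟩) (g := ⟨u, hu⟩) ?_ ?_ ?_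
  · apply Subtype.ext
    apply Subtype.ext
    change xm a ^ 7 = 1
    rw [xm_pow ha, hchar]
    ext i j; (revert i j; simp only [_root_.Fin.forall_fin_succ, _root_.MulZeroClass.zero_mul, _root_.add_zero, _root_.sub_zero, _root_.Matrix.of_apply, _root_.Matrix.cons_val', _root_.Matrix.cons_val_fin_one, Fin.isValue, _root_.Matrix.cons_val_zero, _root_.Matrix.cons_val_succ, _root_.IsEmpty.forall_iff, _root_.and_true, _root_.Matrix.one_apply_eq, Nat.reduceAdd, _root_.Fin.succ_zero_eq_one, _root_.ne_eq, _root_.zero_ne_one, _root_.not_false_eq_true, _root_.Matrix.one_apply_ne, _root_.Fin.succ_one_eq_two, Fin.reduceEq, _root_.and_self, _root_.Fin.succ_ne_zero, _root_.true_and])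
  · intro h
    have h1 : xm a = 1 := congrArg (fun g : SU 3 F 7 => ((g : Matrix.SpecialLinearGroup (Fin 3) F) : Matrix (Fin 3) (Fin 3) F)) h
    have h2 := congrFun (congrFun h1 1) 0
    rw [xm, Matrix.one_apply_ne (by decide)] at h2
    exact pow_ne_zero 5 ha0 h2
  · apply Subtype.ext
    apply Subtype.ext
    exact xm_um ha

end Seven

/-- **`PSU_n(q)`** -/
theorem r5_psu {F : Type} [Field F] [Fintype F] {q n : ℕ} (hF : Fintype.card F = q ^ 2) (hn : 3 ≤ n)
    (h2 : n = 3 → 4 ≤ q) : R5 (PSU n F q) := by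
  have hq : 2 ≤ q := by
    have h1 := Fintype.one_lt_card (α := F)
    rw [hF] at h1
    by_contra hc
    have h3 : q ≤ 1 := by omega
    have h4 : q ^ 2 ≤ 1 ^ 2 := Nat.pow_le_pow_left h3 2
    omega
  have key : R5 (SU n F q) := by
    by_cases h7 : q = 7
    · subst h7
      exact r5_su_mono hF hn (r5_su3_seven hF)
    · rcases Nat.lt_or_ge q 4 with h4 | h4
      · have h3 : 4 ≤ n := by
          by_contra hc
          have := h2 (by omega)
          omega
        exact r5_su_mono hF h3 (r5_su_four_small hF (by omega))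
      · exact r5_su_mono hF (by omega) (r5_su_two hF h4 h7)
  exact key.quotient _ le_rfl

end Cfsg.Agent.H327.D5
end

-- part: H327/D5/Table
section
/-!
# Known simple groups without dihedral sections of order `2p`, `p > 3`
-/

set_option autoImplicit false
set_option linter.unusedSectionVars false

namespace Cfsg.Agent.H327.D5

open Cfsg Cfsg.Lie

/-- the exceptions -/
def Exceptional (G : Type*) [Group G] : Prop :=
  Nat.card G = 168 ∨
    (∃ (F : Type) (_ : Field F) (_ : Fintype F), Fintype.card F = 3 ∧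
      Nonempty (G ≃* Matrix.ProjectiveSpecialLinearGroup (Fin 3) F)) ∨
    (∃ (F : Type) (_ : Field F) (_ : Fintype F), Fintype.card F = 3 ^ 2 ∧ Nonempty (G ≃* PSU 3 F 3))

variable {G : Type*} [Group G] [Finite G]

/-- **Real elements of prime order at least five in the known simple groups** -/
theorem r5_or (hs : IsSimpleGroup G) (hG : ¬ IsMulCommutative G) (hk : IsKnownSimple' G) : R5 G ∨ Exceptional G := by
  rcases hk with h | h | h | h | h | h | h | h | h | h
  · exfalso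
    have h' : (Nat.card G).Prime := h
    have : Fact (Nat.card G).Prime := ⟨h'⟩
    have hc : IsCyclic G := isCyclic_of_prime_card (p := Nat.card G) rfl
    exact hG ⟨⟨fun a b => hc.commGroup.mul_comm a b⟩⟩
  · obtain ⟨n, hn, ⟨e⟩⟩ := h
    exact Or.inl ((r5_alt hn).congr e.symm)
  · obtain ⟨F, _, _, n, hn, h2, ⟨e⟩⟩ := h
    by_cases h7 : n = 2 ∧ Fintype.card F = 7
    · obtain ⟨rfl, h7⟩ := h7
      right; left
      rw [Nat.card_congr e.toEquiv]
      exact SmallSimple.PSLFacts.card_psl_two_seven h7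
    by_cases h3 : n = 3 ∧ Fintype.card F < 4
    · obtain ⟨rfl, h3⟩ := h3
      have h1 := Fintype.one_lt_card (α := F)
      obtain h3 | h3 : Fintype.card F = 2 ∨ Fintype.card F = 3 := by omega
      · right; left
        have : Fact (Nat.Prime 7) := ⟨by norm_num⟩
        obtain ⟨f⟩ := S0255.result (F := ZMod 7) (ZMod.card 7) h3
        rw [Nat.card_congr (e.trans f.symm).toEquiv]
        exact SmallSimple.PSLFacts.card_psl_two_seven (ZMod.card 7)
      · right; right; left
        exact ⟨F, inferInstance, inferInstance, h3, ⟨e⟩⟩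
    · left
      refine (r5_psl hn (fun h => ⟨h2 h, fun h' => h7 ⟨h, h'⟩⟩) fun h => ?_).congr e.symm
      by_contra hc
      exact h3 ⟨h, by omega⟩
  · obtain ⟨F, _, _, m, hm, -, ⟨e⟩⟩ := h
    exact Or.inl ((r5_psp hm).congr e.symm)
  · obtain ⟨F, _, _, n, q, hF, hn, h32, ⟨e⟩⟩ := h
    by_cases h3 : n = 3 ∧ q = 3
    · obtain ⟨rfl, rfl⟩ := h3
      right; right; right
      exact ⟨F, inferInstance, inferInstance, hF, ⟨e⟩⟩
    · left
      refine (r5_psu hF hn fun h => ?_).congr e.symm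
      have h1 := Fintype.one_lt_card (α := F)
      rw [hF] at h1
      have h4 : q ≠ 0 := by rintro rfl; norm_num at h1
      have h5 : q ≠ 1 := by rintro rfl; norm_num at h1
      have h6 : q ≠ 2 := fun h' => h32 ⟨h, h'⟩
      have h7 : q ≠ 3 := fun h' => h3 ⟨h, h'⟩
      omega
  · obtain ⟨F, _, _, m, hm, -, ⟨e⟩⟩ := h
    exact Or.inl ((Orth.r5_odd hm).congr e.symm)
  · obtain ⟨F, _, _, m, hm, ⟨e⟩⟩ := h
    exact Or.inl ((Orth.r5_plus (by omega)).congr e.symm)
  · obtain ⟨F, _, _, m, a, b, hm, -, ⟨e⟩⟩ := h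
    exact Or.inl ((Orth.r5_minus (by omega) a b).congr e.symm)
  · left
    rcases h with h | h | h | h | h | h | h | h | h | h | h
    · obtain ⟨F, _, _, -, ⟨e⟩⟩ := h
      exact r5_G2.congr e.symm
    · obtain ⟨F, _, _, ⟨e⟩⟩ := h
      exact r5_F4.congr e.symm
    · obtain ⟨F, _, _, ⟨e⟩⟩ := h
      exact r5_E6.congr e.symm
    · obtain ⟨F, _, _, ⟨e⟩⟩ := h
      have : Finite ↥(chevE7.group F) := Finite.of_equiv _ e.toEquiv
      exact r5_E7.congr e.symm
    · obtain ⟨F, _, _, ⟨e⟩⟩ := h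
      exact r5_E8.congr e.symm
    · obtain ⟨K, _, _, q, hq, hK, ⟨e⟩⟩ := h
      have : Finite ↥(twistedE6 K q) := Finite.of_equiv _ e.toEquiv
      refine (r5_TwE6 hq hK (e.symm.isSimpleGroup) ?_).congr e.symm
      intro hc
      exact hG ⟨⟨fun a b => e.injective (by rw [map_mul, map_mul]; exact hc.is_comm.comm _ _)⟩⟩
    · obtain ⟨K, _, _, q, hq, hK, ⟨e⟩⟩ := h
      exact (r5_TwD4 hq hK).congr e.symm
    · exact r5_suzuki hs hG h
    · exact r5_ree h
    · exact r5_twF4 h
    · exact r5_tits h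
  · exact Or.inl (r5_sporadic h)

end Cfsg.Agent.H327.D5
end

-- part: S3275
section
set_option autoImplicit false
open Cfsg

namespace Cfsg.Agent.S3275

theorem rank_congr {X Y : Type*} [Group X] [Group Y] (e : X ≃* Y) {p k : ℕ} (h : Cfsg.PRankLE p k Y) :
    Cfsg.PRankLE p k X := by
  intro A hA h3
  have h1 := h (A.map e.toMonoidHom) ⟨⟨?_⟩⟩ ?_
  · rwa [Nat.card_congr (A.equivMapOfInjective e.toMonoidHom e.injective).toEquiv]
  · rintro ⟨_, a, ha, rfl⟩ ⟨_, b, hb, rfl⟩
    apply Subtype.ext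
    change e.toMonoidHom a * e.toMonoidHom b = e.toMonoidHom b * e.toMonoidHom a
    rw [← map_mul, ← map_mul]
    exact congrArg _ (congrArg Subtype.val (hA.is_comm.comm ⟨a, ha⟩ ⟨b, hb⟩))
  · rintro _ ⟨a, ha, rfl⟩
    rw [← map_pow, h3 a ha, map_one]

theorem rank_sub {X : Type*} [Group X] {p k : ℕ} (h : Cfsg.PRankLE p k X) (H : Subgroup X) : Cfsg.PRankLE p k H := by
  intro A hA h3
  have h1 := h (A.map H.subtype) ⟨⟨?_⟩⟩ ?_
  · rwa [Nat.card_congr (A.equivMapOfInjective H.subtype H.subtype_injective).toEquiv]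
  · rintro ⟨_, a, ha, rfl⟩ ⟨_, b, hb, rfl⟩
    apply Subtype.ext
    change H.subtype a * H.subtype b = H.subtype b * H.subtype a
    rw [← map_mul, ← map_mul]
    exact congrArg _ (congrArg Subtype.val (hA.is_comm.comm ⟨a, ha⟩ ⟨b, hb⟩))
  · rintro _ ⟨a, ha, rfl⟩
    rw [← map_pow, h3 a ha, map_one]

/-- Let G be a non-abelian finite simple group all of whose proper subgroups are K-groups, and suppose that no section of G is dihedral of order 2p for any prime p > 3. Then every 2-local subgroup of G is 2-constrained and has 3-rank at most 2; and if moreover every 2-local subgroup of G has 3-rank at most 1, then G is one of the known finite simple groups. -/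
theorem result {G : Type*} [Group G] [Finite G] [IsSimpleGroup G] (hG : ¬ IsMulCommutative G)
    (hK : Cfsg.IsKProper G)
    (hD : ∀ p : ℕ, p.Prime → 3 < p → ∀ (H : Subgroup G) (N : Subgroup ↥H) [N.Normal], IsEmpty (↥H ⧸ N ≃* DihedralGroup p)) :
    (∀ H : Subgroup G, Cfsg.IsTwoLocal H → Cfsg.IsPConstrained 2 ↥H) ∧ Cfsg.TwoLocalPRankLE 3 2 G ∧
      (Cfsg.TwoLocalPRankLE 3 1 G → Cfsg.IsKnownSimple' G) := by
  have hs : IsSimpleGroup G := inferInstance
  have hk : Cfsg.IsKnownSimple' G := S0000.result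
  have key : (∀ H : Subgroup G, Cfsg.IsTwoLocal H → Group.IsSolvable H) ∧ Cfsg.PRankLE 3 2 G := by
    rcases H327.D5.r5_or hs hG hk with h | h | ⟨F, _, _, hF, ⟨e⟩⟩ | ⟨F, _, _, hF, ⟨e⟩⟩
    · exact (h.false_of hD).elim
    · exact ⟨H327.D5.Small.solvable_168 h, H327.D5.Small.pRankLE_168 h⟩
    · have hc := SmallSimple.PSLFacts.card_psl_three_three hF
      have h3 : (3 : F) = 0 := by
        have : Fact (Nat.Prime 3) := ⟨Nat.prime_three⟩
        have : CharP F 3 := charP_of_card_eq_prime_pow (f := 1) (by rw [hF, pow_one])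
        exact_mod_cast CharP.cast_eq_zero F 3
      have : Finite (Matrix.ProjectiveSpecialLinearGroup (Fin 3) F) := Finite.of_equiv _ e.toEquiv
      exact ⟨H327.D5.Small.solvable_5616 (by rw [Nat.card_congr e.toEquiv, hc]),
        rank_congr e (H327.D5.Three.pRankLE_psl h3 (m := 208) (by norm_num) (by rw [hc]))⟩
    · have hc := SmallSimple.PSLFacts.card_psu_three_three (F := F) hF
      have : Fact (Nat.Prime 3) := ⟨Nat.prime_three⟩
      have hch : CharP F 3 := charP_of_card_eq_prime_pow hF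
      have h3 : (3 : F) = 0 := by exact_mod_cast CharP.cast_eq_zero F 3
      obtain ⟨a, ha⟩ : ∃ a : F, a * a = -1 := by
        have h1 : IsSquare (-1 : F) := by
          rw [FiniteField.isSquare_neg_one_iff, hF]
          norm_num
        obtain ⟨a, ha⟩ := h1
        exact ⟨a, ha.symm⟩
      have : Finite (Cfsg.PSU 3 F 3) := Finite.of_equiv _ e.toEquiv
      exact ⟨H327.D5.Small.solvable_6048 (by rw [Nat.card_congr e.toEquiv, hc]) (fun g => by
          rw [← MulEquiv.orderOf_eq e g]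
          exact H327.D5.Small.orderOf_ne_14 hF (e g)),
        rank_congr e (H327.D5.Three.pRankLE_psu h3 ha (m := 224) (by norm_num) (by rw [hc]))⟩
  refine ⟨fun H hH => ?_, fun H _ => rank_sub key.2 H, fun _ => hk⟩
  have := key.1 H hH
  exact S1396.isPConstrained_of_solvable 2

end Cfsg.Agent.S3275
end

private theorem dce_9d138f0de6c7 : _root_.True := by
  try have : _root_.True := by simp only [_root_.Cfsg.Agent.H327.D5.Three.yL.eq_1]
  try have : _root_.True := by simp only [_root_.Cfsg.Agent.H327.D5.Three.xU.eq_1]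
  try have : _root_.True := by simp only [_root_.Cfsg.Agent.H327.D5.Three.TU.eq_1]
  try have : _root_.True := by simp only [_root_.Cfsg.Agent.H327.D5.Three.xL.eq_1]
  try have : _root_.True := by simp only [_root_.Cfsg.Agent.H327.D5.Three.yU.congr_simp]
  try have : _root_.True := by simp only [_root_.Cfsg.Agent.H327.D5.Orth.K6.eq_1]
  try have : _root_.True := by simp only [_root_.Cfsg.Agent.H327.D5.Three.zU.congr_simp]
  try have : _root_.True := by simp only [_root_.Cfsg.Agent.H327.D5.Three.zL.eq_1]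
  try have : _root_.True := by simp only [_root_.Cfsg.Agent.H327.D5.xm.eq_1]
  try have : _root_.True := by simp only [_root_.Cfsg.Agent.NotCT.HasOrd.eq_1]
  try have : _root_.True := by simp only [_root_.Cfsg.Agent.H327.D5.um.eq_1]
  try have : _root_.True := by simp only [_root_.Cfsg.Agent.H327.D5.Three.xU'.eq_1]
  try have : _root_.True := by simp only [_root_.Cfsg.Agent.H327.D5.Three.dL.eq_1]
  try have : _root_.True := by simp only [_root_.Cfsg.Agent.H327.D5.Three.zU.eq_1]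
  try have : _root_.True := by simp only [_root_.Cfsg.Agent.H327.D5.Three.yU.eq_1]
  try have : _root_.True := by simp only [_root_.Cfsg.Agent.H327.D5.Three.yU'.eq_1]
  try have : _root_.True := by simp only [_root_.Cfsg.Agent.H327.D5.Three.UTc.eq_1]
  exact _root_.True.intro
end
end
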