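import Cfsg.Agent.SmallSimple.PSLTwoPart
import Cfsg.Agent.LieRecognition.PSLTwoLocal
import Mathlib
import Cfsg.Prelude.Def_CaseTheorems
import Cfsg.Agent.S0206
import Cfsg.Agent.S0205
import Cfsg.Agent.S0483
import Cfsg.Statements.S3282
import Cfsg.Agent.FastGrp
import Cfsg.Agent.Prune
set_option linter.all false
prune_inst 0x7ff0fcfaaff9afdfdfff7e7ffffddffc39d5dfffffdffb43fff4e9ffcfdf030a3be5fb8f9de058ff0ef7e2b630b87853f97ece7fef6bdc7ffffd5ff45ffbee1fa5e7bd8851d698340fbc2fff63f07fce7f3fffffffffffffffffffffffffffbefffdffffffff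
open scoped Cfsg.Agent.FastGrp

-- part: H329/PSLTwo
section
/-!
# The conclusion of the Brauer-Suzuki-Wall theorem holds in `PSL₂(q)`, `q` odd (helper329, for S3282)
-/

set_option autoImplicit false

namespace Cfsg.Agent.H329.PSLTwo

open Matrix
open Cfsg.Agent.ClassicalGeometry.SLTwoFour (w ext2 det2 mul00 mul01 mul10 mul11 w00 w01 w10 w11 w_mul_self
  neg_ij two_ne_zero_of_odd one00 one01 one10 one11 w_inv)
open Cfsg.Agent.ClassicalGeometry.PSL2Klein (mk mk_eq_mk mk_eq_one mk_neg one_ne_neg_one)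

/-- The conclusion of S3282. -/
def Concl (G : Type*) [Group G] : Prop :=
    ∃ Q D : Subgroup G, 2 * Nat.card G = Nat.card ↥Q * (Nat.card ↥Q + 1) * (Nat.card ↥Q - 1) ∧
      (∀ x ∈ Q, x ≠ 1 → Subgroup.centralizer ({x} : Set G) = Q) ∧
      IsMulCommutative ↥D ∧ 2 * Nat.card ↥D + 1 = Nat.card ↥Q ∧ Q ⊓ D = ⊥ ∧
      Subgroup.normalizer (Q : Set G) = Q ⊔ D ∧
      ∀ X : Subgroup G, X ≤ D → X ≠ ⊥ →
        Subgroup.normalizer (X : Set G) = Subgroup.normalizer (D : Set G) ∧
        ∃ u : G, orderOf u = 2 ∧ u ∉ D ∧ (∀ d ∈ D, u * d * u⁻¹ = d⁻¹) ∧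
          Subgroup.normalizer (D : Set G) = D ⊔ Subgroup.zpowers u

theorem Concl.transport {G H : Type*} [Group G] [Group H] (e : G ≃* H) (h : Concl G) : Concl H := by
  obtain ⟨Q, D, h1, h2, h3, h4, h5, h6, h7⟩ := h
  have hinj : Function.Injective e.toMonoidHom := e.injective
  have cQ : Nat.card ↥(Q.map e.toMonoidHom) = Nat.card ↥Q := Subgroup.card_map_of_injective hinj
  have cD : Nat.card ↥(D.map e.toMonoidHom) = Nat.card ↥D := Subgroup.card_map_of_injective hinj
  have cG : Nat.card H = Nat.card G := (Nat.card_congr e.toEquiv).symm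
  refine ⟨Q.map e.toMonoidHom, D.map e.toMonoidHom, ?_, ?_, ?_, ?_, ?_, ?_, ?_⟩
  · rw [cQ, cG]; exact h1
  · rintro x ⟨y, hy, rfl⟩ hx
    have hy1 : y ≠ 1 := by
      rintro rfl
      exact hx (map_one _)
    rw [← h2 y hy hy1]
    ext z
    rw [Subgroup.mem_map]
    constructor
    · intro hz
      refine ⟨e.symm z, ?_, e.apply_symm_apply z⟩
      rw [Subgroup.mem_centralizer_singleton_iff] at hz ⊢
      apply e.injective
      rw [map_mul, map_mul, e.apply_symm_apply]
      exact hz
    · rintro ⟨z, hz, rfl⟩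
      rw [Subgroup.mem_centralizer_singleton_iff] at hz ⊢
      rw [← map_mul, ← map_mul, hz]
  · constructor; constructor
    rintro ⟨_, a, ha, rfl⟩ ⟨_, b, hb, rfl⟩
    apply Subtype.ext
    have hab : a * b = b * a := congrArg Subtype.val (h3.is_comm.comm (⟨a, ha⟩ : D) ⟨b, hb⟩)
    show e.toMonoidHom a * e.toMonoidHom b = e.toMonoidHom b * e.toMonoidHom a
    rw [← map_mul, ← map_mul, hab]
  · rw [cQ, cD]; exact h4
  · rw [← Subgroup.map_inf _ _ _ hinj, h5, Subgroup.map_bot]
  · rw [← Subgroup.map_equiv_normalizer_eq, h6, Subgroup.map_sup]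
  · intro X hX hX1
    have hXe : X = (X.comap e.toMonoidHom).map e.toMonoidHom :=
      (Subgroup.map_comap_eq_self_of_surjective e.surjective X).symm
    have hX' : X.comap e.toMonoidHom ≤ D := by
      intro x hx
      obtain ⟨y, hy, hyx⟩ := hX hx
      rw [← e.injective hyx]
      exact hy
    have hX1' : X.comap e.toMonoidHom ≠ ⊥ := by
      intro h
      rw [h, Subgroup.map_bot] at hXe
      exact hX1 hXe
    obtain ⟨h8, u, hu1, hu2, hu3, hu4⟩ := h7 _ hX' hX1'
    refine ⟨?_, e u, ?_, ?_, ?_, ?_⟩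
    · rw [hXe, ← Subgroup.map_equiv_normalizer_eq, h8, Subgroup.map_equiv_normalizer_eq]
    · rw [MulEquiv.orderOf_eq]; exact hu1
    · rintro ⟨y, hy, hyu⟩
      rw [← e.injective hyu] at hu2
      exact hu2 hy
    · rintro _ ⟨d, hd, rfl⟩
      show e u * e d * (e u)⁻¹ = (e d)⁻¹
      rw [← map_inv, ← map_mul, ← map_mul, hu3 d hd, map_inv]
    · rw [← Subgroup.map_equiv_normalizer_eq, hu4, Subgroup.map_sup, MonoidHom.map_zpowers]
      rfl

variable {F : Type*} [Field F]

local notation "SL2" => Matrix.SpecialLinearGroup (Fin 2)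
local notation "PSL2" => Matrix.ProjectiveSpecialLinearGroup (Fin 2)

/-- unitriangular -/
def um (x : F) : SL2 F := ⟨!![1, x; 0, 1], by simp [Matrix.det_fin_two]⟩

/-- diagonal -/
def dm (a : Fˣ) : SL2 F := ⟨!![(a : F), 0; 0, ((a⁻¹ : Fˣ) : F)], by simp [Matrix.det_fin_two]⟩

theorem um00 (x : F) : (um x : SL2 F) 0 0 = 1 := rfl
theorem um01 (x : F) : (um x : SL2 F) 0 1 = x := rfl
theorem um10 (x : F) : (um x : SL2 F) 1 0 = 0 := rfl
theorem um11 (x : F) : (um x : SL2 F) 1 1 = 1 := rfl
theorem dm00 (a : Fˣ) : (dm a : SL2 F) 0 0 = a := rfl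
theorem dm01 (a : Fˣ) : (dm a : SL2 F) 0 1 = 0 := rfl
theorem dm10 (a : Fˣ) : (dm a : SL2 F) 1 0 = 0 := rfl
theorem dm11 (a : Fˣ) : (dm a : SL2 F) 1 1 = ((a⁻¹ : Fˣ) : F) := rfl

/-- the unipotent homomorphism -/
def uHom (F : Type*) [Field F] : Multiplicative F →* PSL2 F where
  toFun x := mk (um (Multiplicative.toAdd x))
  map_one' := by
    rw [mk_eq_one]; left
    apply ext2 <;> simp only [um00, um01, um10, um11, _root_.toAdd_one, _root_.Fin.isValue, _root_.Matrix.SpecialLinearGroup.coe_one, _root_.Matrix.one_apply_eq, _root_.ne_eq, _root_.zero_ne_one, _root_.not_false_eq_true, _root_.Matrix.one_apply_ne, _root_.one_ne_zero]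
  map_mul' x y := by
    rw [mk, mk, mk, ← QuotientGroup.mk_mul]
    congr 1
    apply ext2 <;> simp only [mul00, mul01, mul10, mul11, um00, um01, um10, um11, toAdd_mul] <;> ring

/-- the diagonal homomorphism -/
def dHom (F : Type*) [Field F] : Fˣ →* PSL2 F where
  toFun x := mk (dm x)
  map_one' := by
    rw [mk_eq_one]; left
    apply ext2 <;> simp [dm00, dm01, dm10, dm11]
  map_mul' x y := by
    rw [mk, mk, mk, ← QuotientGroup.mk_mul]
    congr 1
    apply ext2 <;> simp only [mul00, mul01, mul10, mul11, dm00, dm01, dm10, dm11, mul_inv, Units.val_mul] <;> ring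

/-- `Q` -/
def uQ (F : Type*) [Field F] : Subgroup (PSL2 F) := (uHom F).range
/-- `D` -/
def dD (F : Type*) [Field F] : Subgroup (PSL2 F) := (dHom F).range

theorem mk_surj (x : PSL2 F) : ∃ A : SL2 F, mk A = x := QuotientGroup.mk_surjective x

theorem mem_uQ {x : PSL2 F} : x ∈ uQ F ↔ ∃ b : F, mk (um b) = x :=
  ⟨fun ⟨b, hb⟩ => ⟨Multiplicative.toAdd b, hb⟩, fun ⟨b, hb⟩ => ⟨Multiplicative.ofAdd b, hb⟩⟩

theorem mem_dD {x : PSL2 F} : x ∈ dD F ↔ ∃ a : Fˣ, mk (dm a) = x := Iff.rfl

/-- entries of equal classes -/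
theorem entries_of_mk_eq {A B : SL2 F} (h : mk A = mk B) :
    (∀ i j, A i j = B i j) ∨ (∀ i j, A i j = - B i j) := by
  rcases mk_eq_mk.1 h with h | h
  · left; intro i j; rw [h]
  · right; intro i j; rw [h, neg_ij]

theorem uHom_inj (h2 : (2 : F) ≠ 0) : Function.Injective (uHom F) := by
  intro x y h
  have h' : mk (um (Multiplicative.toAdd x)) = mk (um (Multiplicative.toAdd y)) := h
  rcases entries_of_mk_eq h' with h3 | h3
  · exact Multiplicative.toAdd.injective (h3 0 1)
  · have h4 := h3 0 0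
    rw [um00, um00] at h4
    exact absurd (by linear_combination h4) h2

theorem card_uQ [Fintype F] (h2 : (2 : F) ≠ 0) : Nat.card (uQ F) = Fintype.card F := by
  rw [uQ, ← Nat.card_congr (MonoidHom.ofInjective (uHom_inj h2)).toEquiv, ← Nat.card_eq_fintype_card]
  exact Nat.card_congr Multiplicative.toAdd

theorem mem_ker_dHom {a : Fˣ} : a ∈ (dHom F).ker ↔ a = 1 ∨ a = -1 := by
  rw [MonoidHom.mem_ker]
  constructor
  · intro h
    have h' : mk (dm a) = mk 1 := h
    rcases entries_of_mk_eq h' with h3 | h3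
    · left
      have := h3 0 0
      rw [dm00, one00] at this
      exact Units.ext this
    · right
      have := h3 0 0
      rw [dm00, one00] at this
      exact Units.ext this
  · rintro (rfl | rfl)
    · exact map_one _
    · show mk (dm (-1)) = 1
      rw [mk_eq_one]; right
      apply ext2 <;> rw [neg_ij] <;> simp [dm00, dm01, dm10, dm11]

theorem card_dD [Fintype F] (h2 : (2 : F) ≠ 0) : 2 * Nat.card (dD F) + 1 = Fintype.card F := by
  classical
  have h := (dHom F).ker.card_mul_index
  rw [Subgroup.index_ker] at h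
  have hk : Nat.card (dHom F).ker = 2 := by
    have : ((dHom F).ker : Set Fˣ) = {1, -1} := by
      ext a
      simp only [SetLike.mem_coe, mem_ker_dHom, Set.mem_insert_iff, Set.mem_singleton_iff]
    rw [← SetLike.coe_sort_coe, this, Nat.card_coe_set_eq, Set.ncard_pair]
    intro h
    have h1 := congrArg Units.val h
    rw [Units.val_neg, Units.val_one] at h1
    exact h2 (by linear_combination h1)
  rw [hk, Nat.card_eq_fintype_card (α := Fˣ), Fintype.card_units] at h
  have hq : 1 < Fintype.card F := Fintype.one_lt_card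
  show 2 * Nat.card (dHom F).range + 1 = _
  omega

theorem centralizer_um (h2 : (2 : F) ≠ 0) {b : F} (hb : b ≠ 0) :
    Subgroup.centralizer ({mk (um b)} : Set (PSL2 F)) = uQ F := by
  ext x
  obtain ⟨A, rfl⟩ := mk_surj x
  rw [Subgroup.mem_centralizer_singleton_iff, mem_uQ]
  constructor
  · intro h
    have h' : mk (A * um b) = mk (um b * A) := h
    have hd := det2 A
    rcases entries_of_mk_eq h' with h3 | h3
    · have e00 := h3 0 0
      have e01 := h3 0 1
      simp only [mul00, mul01, um00, um01, um10, um11] at e00 e01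
      have hc : A 1 0 = 0 := by
        have : b * A 1 0 = 0 := by linear_combination (-1) * e00
        exact (mul_eq_zero.1 this).resolve_left hb
      have had : A 0 0 = A 1 1 := by
        have : b * (A 0 0 - A 1 1) = 0 := by linear_combination e01
        have := (mul_eq_zero.1 this).resolve_left hb
        linear_combination this
      have hs : (A 0 0 - 1) * (A 0 0 + 1) = 0 := by
        rw [hc, ← had] at hd
        linear_combination hd
      rcases mul_eq_zero.1 hs with h5 | h5
      · refine ⟨A 0 1, ?_⟩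
        rw [mk_eq_mk]; left
        apply ext2
        · rw [um00]; linear_combination -h5
        · rw [um01]
        · rw [um10, hc]
        · rw [um11, ← had]; linear_combination -h5
      · refine ⟨- A 0 1, ?_⟩
        rw [mk_eq_mk]; right
        apply ext2
        · rw [um00, neg_ij]; linear_combination h5
        · rw [um01, neg_ij]
        · rw [um10, neg_ij, hc, neg_zero]
        · rw [um11, neg_ij, ← had]; linear_combination h5
    · exfalso
      have e00 := h3 0 0
      have e01 := h3 0 1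
      have e10 := h3 1 0
      have e11 := h3 1 1
      simp only [mul00, mul01, mul10, mul11, um00, um01, um10, um11] at e00 e01 e10 e11
      have hc : A 1 0 = 0 := by
        have : 2 * A 1 0 = 0 := by linear_combination e10
        exact (mul_eq_zero.1 this).resolve_left h2
      have ha : A 0 0 = 0 := by
        have : 2 * A 0 0 = 0 := by rw [hc] at e00; linear_combination e00
        exact (mul_eq_zero.1 this).resolve_left h2
      rw [ha, hc] at hd
      simp at hd
  · rintro ⟨c, hc⟩
    rw [← hc]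
    show uHom F (Multiplicative.ofAdd c) * uHom F (Multiplicative.ofAdd b) = uHom F (Multiplicative.ofAdd b) * uHom F (Multiplicative.ofAdd c)
    rw [← (uHom F).map_mul, ← (uHom F).map_mul, mul_comm]

theorem isMulCommutative_dD : IsMulCommutative (dD F) := by
  constructor; constructor
  rintro ⟨_, a, rfl⟩ ⟨_, b, rfl⟩
  apply Subtype.ext
  show dHom F a * dHom F b = dHom F b * dHom F a
  rw [← map_mul, ← map_mul, mul_comm]

theorem inf_eq_bot : uQ F ⊓ dD F = ⊥ := by
  rw [eq_bot_iff]
  rintro x ⟨h1, h2⟩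
  obtain ⟨b, rfl⟩ := mem_uQ.1 h1
  obtain ⟨a, ha⟩ := mem_dD.1 h2
  have hb : b = 0 := by
    rcases entries_of_mk_eq ha with h | h
    · have := h 0 1
      rw [dm01, um01] at this
      exact this.symm
    · have := h 0 1
      rw [dm01, um01] at this
      linear_combination this
  rw [Subgroup.mem_bot, hb, mk_eq_one]
  left
  apply ext2 <;> simp [um00, um01, um10, um11]

/-- Bruhat: upper triangular -/
theorem mem_sup {A : SL2 F} (h : A 1 0 = 0) : mk A ∈ uQ F ⊔ dD F := by
  have hd := det2 A
  rw [h, mul_zero, sub_zero] at hd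
  have ha : A 0 0 ≠ 0 := by
    intro h; rw [h, zero_mul] at hd; exact zero_ne_one hd
  have h1 : mk A = mk (um (A 0 1 * A 0 0)) * mk (dm (Units.mk0 _ ha)) := by
    show mk A = mk (um (A 0 1 * A 0 0) * dm (Units.mk0 _ ha))
    congr 1
    have hinv : (((Units.mk0 _ ha)⁻¹ : Fˣ) : F) = A 1 1 := by
      rw [Units.val_inv_eq_inv_val, Units.val_mk0]
      field_simp
      linear_combination -hd
    apply ext2
    · rw [mul00, um00, dm00, um01, dm10, Units.val_mk0]; ring
    · rw [mul01, um00, um01, dm01, dm11, hinv]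
      linear_combination (- A 0 1) * hd
    · rw [mul10, um10, um11, dm00, dm10, h]; ring
    · rw [mul11, um10, um11, dm01, dm11, hinv]; ring
  rw [h1]
  exact Subgroup.mul_mem_sup (mem_uQ.2 ⟨_, rfl⟩) (mem_dD.2 ⟨_, rfl⟩)

theorem normalizer_uQ (h2 : (2 : F) ≠ 0) : Subgroup.normalizer (uQ F : Set (PSL2 F)) = uQ F ⊔ dD F := by
  apply le_antisymm
  · intro x hx
    obtain ⟨A, rfl⟩ := mk_surj x
    apply mem_sup
    have h := (Subgroup.mem_normalizer_iff.1 hx (mk (um 1))).1 (mem_uQ.2 ⟨1, rfl⟩)
    obtain ⟨c, hc⟩ := mem_uQ.1 h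
    have h' : mk (um c * A) = mk (A * um 1) := by
      show mk (um c) * mk A = mk A * mk (um 1)
      rw [hc]; group
    rcases entries_of_mk_eq h' with h3 | h3
    · have e11 := h3 1 1
      simp only [mul00, mul01, mul10, mul11, um00, um01, um10, um11] at e11
      linear_combination -e11
    · have e10 := h3 1 0
      simp only [mul00, mul01, mul10, mul11, um00, um01, um10, um11] at e10
      have : 2 * A 1 0 = 0 := by linear_combination e10
      exact (mul_eq_zero.1 this).resolve_left h2
  · apply sup_le Subgroup.le_normalizer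
    rintro x hx
    obtain ⟨a, rfl⟩ := mem_dD.1 hx
    have key : ∀ a : Fˣ, ∀ y ∈ uQ F, mk (dm a) * y * (mk (dm a))⁻¹ ∈ uQ F := by
      rintro a y hy
      obtain ⟨b, rfl⟩ := mem_uQ.1 hy
      refine mem_uQ.2 ⟨a * a * b, ?_⟩
      rw [eq_mul_inv_iff_mul_eq]
      show mk (um (a * a * b) * dm a) = mk (dm a * um b)
      congr 1
      apply ext2 <;> simp only [mul00, mul01, mul10, mul11, um00, um01, um10, um11, dm00, dm01, dm10, dm11]
      · ring
      · have : (a : F) * ((a⁻¹ : Fˣ) : F) = 1 := by simp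
        linear_combination (a : F) * b * this
      · ring
      · ring
    rw [Subgroup.mem_normalizer_iff]
    intro y
    constructor
    · exact key a y
    · intro h
      have h1 := key a⁻¹ _ h
      have h2 : mk (dm a⁻¹) = (mk (dm a))⁻¹ := map_inv (dHom F) a
      rw [h2] at h1
      have h3 : (mk (dm a))⁻¹ * (mk (dm a) * y * (mk (dm a))⁻¹) * ((mk (dm a))⁻¹)⁻¹ = y := by group
      rwa [h3] at h1

theorem w_conj (a : Fˣ) : mk (w : SL2 F) * mk (dm a) * (mk w)⁻¹ = (mk (dm a))⁻¹ := by
  have h2 : mk (dm a⁻¹) = (mk (dm a))⁻¹ := map_inv (dHom F) a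
  rw [mul_inv_eq_iff_eq_mul, ← h2]
  show mk (w * dm a) = mk (dm a⁻¹ * w)
  congr 1
  apply ext2 <;> simp only [mul00, mul01, mul10, mul11, w00, w01, w10, w11, dm00, dm01, dm10, dm11] <;> simp

/-- monomial elements -/
theorem mem_mono {A : SL2 F} (h : (A 1 0 = 0 ∧ A 0 1 = 0) ∨ (A 0 0 = 0 ∧ A 1 1 = 0)) :
    mk A ∈ dD F ⊔ Subgroup.zpowers (mk (w : SL2 F)) := by
  have hd := det2 A
  rcases h with ⟨h1, h2⟩ | ⟨h1, h2⟩
  · rw [h1, mul_zero, sub_zero] at hd
    have ha : A 0 0 ≠ 0 := by
      intro h; rw [h, zero_mul] at hd; exact zero_ne_one hd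
    apply Subgroup.mem_sup_left
    refine mem_dD.2 ⟨Units.mk0 _ ha, ?_⟩
    congr 1
    have hinv : (((Units.mk0 _ ha)⁻¹ : Fˣ) : F) = A 1 1 := by
      rw [Units.val_inv_eq_inv_val, Units.val_mk0]
      field_simp
      linear_combination -hd
    apply ext2
    · rw [dm00, Units.val_mk0]
    · rw [dm01, h2]
    · rw [dm10, h1]
    · rw [dm11, hinv]
  · rw [h1, zero_mul, zero_sub] at hd
    have ha : A 0 1 ≠ 0 := by
      intro h; rw [h, zero_mul, neg_zero] at hd; exact zero_ne_one hd
    have hinv : (((Units.mk0 _ ha)⁻¹ : Fˣ) : F) = - A 1 0 := by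
      rw [Units.val_inv_eq_inv_val, Units.val_mk0]
      field_simp
      linear_combination -hd
    have h3 : mk A = mk (dm (Units.mk0 _ ha)) * mk w := by
      show mk A = mk (dm (Units.mk0 _ ha) * w)
      congr 1
      apply ext2
      · rw [mul00, w00, dm01, h1]; ring
      · rw [mul01, w01, dm01, dm00, Units.val_mk0]; ring
      · rw [mul10, w10, w00, dm11, hinv]; ring
      · rw [mul11, w01, w11, dm10, h2]; ring
    rw [h3]
    exact Subgroup.mul_mem_sup (mem_dD.2 ⟨_, rfl⟩) (Subgroup.mem_zpowers _)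

theorem normalizer_le (h2 : (2 : F) ≠ 0) {X : Subgroup (PSL2 F)} (hX : X ≤ dD F) (hX1 : X ≠ ⊥) :
    Subgroup.normalizer (X : Set (PSL2 F)) ≤ dD F ⊔ Subgroup.zpowers (mk (w : SL2 F)) := by
  obtain ⟨x, hx, hx1⟩ := X.ne_bot_iff_exists_ne_one.1 hX1 |>.elim fun x h => (⟨x.1, x.2, fun h' => h (Subtype.ext h')⟩ : ∃ x ∈ X, x ≠ 1)
  intro g hg
  obtain ⟨A, rfl⟩ := mk_surj g
  apply mem_mono
  obtain ⟨a, ha⟩ := mem_dD.1 (hX hx)
  obtain ⟨b, hb⟩ := mem_dD.1 (hX ((Subgroup.mem_normalizer_iff.1 hg x).1 hx))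
  rw [← ha] at hb
  have h' : mk (dm b * A) = mk (A * dm a) := by
    show mk (dm b) * mk A = mk A * mk (dm a)
    rw [hb]; group
  have haa : (a : F) * ((a⁻¹ : Fˣ) : F) = 1 := by simp
  have hbb : (b : F) * ((b⁻¹ : Fˣ) : F) = 1 := by simp
  have hne : (a : F) ≠ ((a⁻¹ : Fˣ) : F) := by
    intro h
    apply hx1
    rw [← ha]
    have : (a - 1 : F) * (a + 1) = 0 := by rw [← h] at haa; linear_combination haa
    have : a ∈ (dHom F).ker := by
      rw [mem_ker_dHom]
      rcases mul_eq_zero.1 this with h3 | h3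
      · left; apply Units.ext; rw [Units.val_one]; linear_combination h3
      · right; apply Units.ext; rw [Units.val_neg, Units.val_one]; linear_combination h3
    exact this
  have key : ∀ s : F, s = 1 ∨ s = -1 → (∀ i j, (dm b * A) i j = s * (A * dm a) i j) →
      (A 1 0 = 0 ∧ A 0 1 = 0) ∨ (A 0 0 = 0 ∧ A 1 1 = 0) := by
    intro s hs h3
    have hss : s * s = 1 := by rcases hs with rfl | rfl <;> ring
    have e00 := h3 0 0
    have e01 := h3 0 1
    have e10 := h3 1 0
    have e11 := h3 1 1
    simp only [mul00, mul01, mul10, mul11, dm00, dm01, dm10, dm11] at e00 e01 e10 e11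
    have f00 : A 0 0 * ((b : F) - s * a) = 0 := by linear_combination e00
    have f01 : A 0 1 * ((b : F) - s * ((a⁻¹ : Fˣ) : F)) = 0 := by linear_combination e01
    have f10 : A 1 0 * (((b⁻¹ : Fˣ) : F) - s * a) = 0 := by linear_combination e10
    have f11 : A 1 1 * (((b⁻¹ : Fˣ) : F) - s * ((a⁻¹ : Fˣ) : F)) = 0 := by linear_combination e11
    by_cases hA : A 0 0 = 0
    · right
      refine ⟨hA, ?_⟩
      have hd := det2 A
      rw [hA, zero_mul, zero_sub] at hd
      have h01 : A 0 1 ≠ 0 := by intro h; rw [h, zero_mul, neg_zero] at hd; exact zero_ne_one hd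
      have g01 := (mul_eq_zero.1 f01).resolve_left h01
      by_contra h11
      have g11 := (mul_eq_zero.1 f11).resolve_left h11
      -- b = s a⁻¹, b⁻¹ = s a⁻¹ so b = b⁻¹... and a⁻² = 1
      apply hne
      have : ((a⁻¹ : Fˣ) : F) * ((a⁻¹ : Fˣ) : F) = 1 := by
        have h5 : (b : F) = s * ((a⁻¹ : Fˣ) : F) := by linear_combination g01
        have h6 : ((b⁻¹ : Fˣ) : F) = s * ((a⁻¹ : Fˣ) : F) := by linear_combination g11
        rw [h5, h6] at hbb
        linear_combination hbb - ((a⁻¹ : Fˣ) : F) * ((a⁻¹ : Fˣ) : F) * hss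
      linear_combination (a : F) * (-this) + ((a⁻¹ : Fˣ) : F) * haa
    · left
      have g00 := (mul_eq_zero.1 f00).resolve_left hA
      constructor
      · by_contra h10
        have g10 := (mul_eq_zero.1 f10).resolve_left h10
        apply hne
        have h5 : (b : F) = s * a := by linear_combination g00
        have h6 : ((b⁻¹ : Fˣ) : F) = s * a := by linear_combination g10
        rw [h5, h6] at hbb
        have : (a : F) * a = 1 := by linear_combination hbb - (a : F) * a * hss
        linear_combination ((a⁻¹ : Fˣ) : F) * this - (a : F) * haa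
      · by_contra h01
        have g01 := (mul_eq_zero.1 f01).resolve_left h01
        apply hne
        have h5 : s * (a : F) = s * ((a⁻¹ : Fˣ) : F) := by linear_combination g01 - g00
        linear_combination s * h5 + (((a⁻¹ : Fˣ) : F) - a) * hss
  rcases entries_of_mk_eq h' with h3 | h3
  · exact key 1 (Or.inl rfl) fun i j => by rw [one_mul]; exact h3 i j
  · exact key (-1) (Or.inr rfl) fun i j => by rw [neg_one_mul]; exact h3 i j

theorem le_normalizer {X : Subgroup (PSL2 F)} (hX : X ≤ dD F) :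
    dD F ⊔ Subgroup.zpowers (mk (w : SL2 F)) ≤ Subgroup.normalizer (X : Set (PSL2 F)) := by
  apply sup_le
  · intro x hx
    rw [Subgroup.mem_normalizer_iff]
    intro y
    have hcomm : ∀ y ∈ dD F, x * y * x⁻¹ = y := by
      intro y hy
      have hab : x * y = y * x :=
        congrArg Subtype.val ((isMulCommutative_dD (F := F)).is_comm.comm (⟨x, hx⟩ : dD F) ⟨y, hy⟩)
      rw [hab]; group
    constructor
    · intro hy
      rw [hcomm y (hX hy)]; exact hy
    · intro hy
      have h1 : x⁻¹ * (x * y * x⁻¹) * x = y := by group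
      have h2 : y ∈ dD F := by
        rw [← h1]
        exact (dD F).mul_mem ((dD F).mul_mem ((dD F).inv_mem hx) (hX hy)) hx
      rwa [hcomm y h2] at hy
  · rw [Subgroup.zpowers_le, Subgroup.mem_normalizer_iff]
    have hc : ∀ y ∈ dD F, mk (w : SL2 F) * y * (mk (w : SL2 F))⁻¹ = y⁻¹ := by
      rintro y hy
      obtain ⟨a, rfl⟩ := mem_dD.1 hy
      exact w_conj a
    have hww : mk (w : SL2 F) * mk w = 1 := by
      show mk (w * w) = 1
      rw [w_mul_self, mk_eq_one]; right; rfl
    have hwinv : (mk (w : SL2 F))⁻¹ = mk w := inv_eq_of_mul_eq_one_left hww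
    intro y
    constructor
    · intro hy
      rw [hc y (hX hy)]; exact X.inv_mem hy
    · intro hy
      have h1 := hc _ (hX hy)
      have h2 : mk (w : SL2 F) * (mk w * y * (mk w)⁻¹) * (mk w)⁻¹ = y := by
        rw [hwinv]
        calc mk (w : SL2 F) * (mk w * y * mk w) * mk w = (mk w * mk w) * y * (mk w * mk w) := by group
          _ = y := by rw [hww]; group
      rw [h2] at h1
      rw [h1]
      exact X.inv_mem hy

theorem normalizer_eq (h2 : (2 : F) ≠ 0) {X : Subgroup (PSL2 F)} (hX : X ≤ dD F) (hX1 : X ≠ ⊥) :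
    Subgroup.normalizer (X : Set (PSL2 F)) = dD F ⊔ Subgroup.zpowers (mk (w : SL2 F)) :=
  le_antisymm (normalizer_le h2 hX hX1) (le_normalizer hX)

theorem orderOf_w : orderOf (mk (w : SL2 F)) = 2 := by
  have hww : mk (w : SL2 F) * mk w = 1 := by
    show mk (w * w) = 1
    rw [w_mul_self, mk_eq_one]; right; rfl
  apply orderOf_eq_prime
  · rw [pow_two]; exact hww
  · intro h
    rw [mk_eq_one] at h
    rcases h with h | h
    · have := congrArg (fun x : SL2 F => x 0 1) h
      simp [w01] at this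
    · have := congrArg (fun x : SL2 F => x 0 1) h
      simp [w01] at this

theorem w_not_mem : mk (w : SL2 F) ∉ dD F := by
  intro h
  obtain ⟨a, ha⟩ := mem_dD.1 h
  rcases entries_of_mk_eq ha with h | h
  · have := h 0 1
    rw [dm01, w01] at this
    exact zero_ne_one this
  · have := h 0 1
    rw [dm01, w01] at this
    exact zero_ne_one (by linear_combination -this : (0 : F) = 1)

/-- **S3282 in `PSL₂(q)`.** -/
theorem concl (F : Type*) [Field F] [Fintype F] (hodd : Odd (Fintype.card F)) : Concl (PSL2 F) := by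
  have h2 : (2 : F) ≠ 0 := two_ne_zero_of_odd hodd
  refine ⟨uQ F, dD F, ?_, ?_, isMulCommutative_dD, ?_, inf_eq_bot, normalizer_uQ h2, ?_⟩
  · rw [card_uQ h2, Cfsg.Agent.SmallSimple.PSLTwoPart.card_psl_two_odd hodd]
    obtain ⟨k, hk⟩ : ∃ k, Fintype.card F = k + 1 := ⟨Fintype.card F - 1, by
      have := Fintype.card_pos (α := F); omega⟩
    rw [hk, Nat.add_sub_cancel, mul_assoc]
    congr 1
    rw [Nat.sub_eq_iff_eq_add (by nlinarith)]
    ring
  · intro x hx hx1
    obtain ⟨b, rfl⟩ := mem_uQ.1 hx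
    apply centralizer_um h2
    rintro rfl
    exact hx1 (map_one (uHom F))
  · rw [card_uQ h2]; exact card_dD h2
  · intro X hX hX1
    have hD1 : dD F ≠ ⊥ := by
      rintro h
      rw [h, le_bot_iff] at hX
      exact hX1 hX
    refine ⟨?_, mk w, orderOf_w, w_not_mem, ?_, normalizer_eq h2 le_rfl hD1⟩
    · rw [normalizer_eq h2 hX hX1, normalizer_eq h2 le_rfl hD1]
    · intro d hd
      obtain ⟨a, rfl⟩ := mem_dD.1 hd
      exact w_conj a

end Cfsg.Agent.H329.PSLTwo
end

-- part: H329/BSW
section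
/-!
# The Brauer-Suzuki-Wall configuration (helper329, for S3282)
-/

set_option autoImplicit false

namespace Cfsg.Agent.H329.BSW

open Subgroup Cfsg.Agent.H329.PSLTwo

/-- The hypotheses of S3282, elementwise. -/
structure Hyp {G : Type*} [Group G] (t s : G) (K : Subgroup G) : Prop where
  ht : orderOf t = 2
  ab : ∀ x ∈ K, ∀ y ∈ K, x * y = y * x
  tK : t ∈ K
  hs : orderOf s = 2
  st : s * t = t * s
  sK : s ∉ K
  gen : ∀ g, g * t = t * g → g ∈ K ∨ g * s ∈ K
  CK : ∀ x ∈ K, x * s = s * x → x = 1 ∨ x = t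
  inv : ∀ x ∈ K, s * x * s⁻¹ = x⁻¹
  TI : ∀ g x, x ∈ K → g * x * g⁻¹ ∈ K → x ≠ 1 → g * t = t * g
  conj : ∀ x y : G, orderOf x = 2 → orderOf y = 2 → IsConj x y

theorem mul_self_of_order {G : Type*} [Group G] {x : G} (h : orderOf x = 2) : x * x = 1 := by
  rw [← pow_two, ← h]; exact pow_orderOf_eq_one x

theorem inv_of_order {G : Type*} [Group G] {x : G} (h : orderOf x = 2) : x⁻¹ = x :=
  inv_eq_of_mul_eq_one_left (mul_self_of_order h)

theorem ne_one_of_order {G : Type*} [Group G] {x : G} (h : orderOf x = 2) : x ≠ 1 := by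
  rintro rfl; simp at h

theorem order_of_mul_self {G : Type*} [Group G] {x : G} (h : x * x = 1) (h1 : x ≠ 1) : orderOf x = 2 :=
  orderOf_eq_prime (by rw [pow_two, h]) h1

theorem hyp_of {G : Type*} [Group G] (t : G) (ht : orderOf t = 2)
    (K : Subgroup G) (hKab : IsMulCommutative ↥K) (hKH : K ≤ Subgroup.centralizer ({t} : Set G)) (htK : t ∈ K)
    (s : G) (hs : orderOf s = 2) (hsH : s ∈ Subgroup.centralizer ({t} : Set G)) (hsK : s ∉ K)
    (hH : K ⊔ Subgroup.zpowers s = Subgroup.centralizer ({t} : Set G)) (hCK : K ⊓ Subgroup.centralizer ({s} : Set G) = Subgroup.zpowers t)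
    (hinv : ∀ x ∈ K, s * x * s⁻¹ = x⁻¹)
    (hTI : ∀ g : G, g ∉ Subgroup.centralizer ({t} : Set G) → K ⊓ K.map (MulAut.conj g).toMonoidHom = ⊥)
    (hconj : ∀ x y : G, orderOf x = 2 → orderOf y = 2 → IsConj x y) : Hyp t s K where
  ht := ht
  ab x hx y hy := congrArg Subtype.val (hKab.is_comm.comm (⟨x, hx⟩ : K) ⟨y, hy⟩)
  tK := htK
  hs := hs
  st := mem_centralizer_singleton_iff.1 hsH
  sK := hsK
  gen g hg := by
    have hss := mul_self_of_order hs
    have hsi := inv_of_order hs
    have hinv' : ∀ x ∈ K, s * x * s ∈ K := by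
      intro x hx
      have := hinv x hx
      rw [hsi] at this
      rw [this]; exact K.inv_mem hx
    let M : Subgroup G :=
      { carrier := {g | g ∈ K ∨ g * s ∈ K}
        one_mem' := Or.inl K.one_mem
        mul_mem' := by
          rintro a b (ha | ha) (hb | hb)
          · exact Or.inl (K.mul_mem ha hb)
          · right; rw [mul_assoc]; exact K.mul_mem ha hb
          · right
            have : a * b * s = (a * s) * (s * b * s) := by
              calc a * b * s = a * 1 * b * s := by group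
                _ = a * (s * s) * b * s := by rw [hss]
                _ = (a * s) * (s * b * s) := by group
            rw [this]; exact K.mul_mem ha (hinv' b hb)
          · left
            have : a * b = (a * s) * (s * (b * s) * s) := by
              calc a * b = a * 1 * b * 1 := by group
                _ = a * (s * s) * b * (s * s) := by rw [hss]
                _ = (a * s) * (s * (b * s) * s) := by group
            rw [this]; exact K.mul_mem ha (hinv' _ hb)
        inv_mem' := by
          rintro a (ha | ha)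
          · exact Or.inl (K.inv_mem ha)
          · right
            have : a⁻¹ * s = s * (a * s)⁻¹ * s := by
              rw [mul_inv_rev, hsi, ← mul_assoc, hss, one_mul]
            rw [this]; exact hinv' _ (K.inv_mem ha) }
    have hle : K ⊔ zpowers s ≤ M := by
      apply sup_le
      · intro x hx; exact Or.inl hx
      · rw [zpowers_le]
        right
        rw [hss]; exact K.one_mem
    have : g ∈ K ⊔ zpowers s := by
      rw [hH, mem_centralizer_singleton_iff]; exact hg
    exact hle this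
  CK x hx hxs := by
    have h1 : x ∈ K ⊓ Subgroup.centralizer ({s} : Set G) := ⟨hx, mem_centralizer_singleton_iff.2 hxs⟩
    rw [hCK, mem_zpowers_iff] at h1
    obtain ⟨k, hk⟩ := h1
    have ht2 : t ^ (2 : ℤ) = 1 := by
      have := mul_self_of_order ht
      rw [show (2 : ℤ) = 1 + 1 from rfl, zpow_add, zpow_one, this]
    rcases Int.even_or_odd' k with ⟨m, rfl | rfl⟩
    · left
      rw [← hk, zpow_mul, ht2, one_zpow]
    · right
      rw [← hk, zpow_add, zpow_mul, ht2, one_zpow, one_mul, zpow_one]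
  inv := hinv
  TI g x hx hgx hx1 := by
    by_contra hg
    have h1 := hTI g (fun h => hg (mem_centralizer_singleton_iff.1 h))
    have h2 : g * x * g⁻¹ ∈ K ⊓ K.map (MulAut.conj g).toMonoidHom := ⟨hgx, x, hx, rfl⟩
    rw [h1, mem_bot] at h2
    apply hx1
    have : x = g⁻¹ * (g * x * g⁻¹) * g := by group
    rw [this, h2]; group
  conj := hconj

section

variable {G : Type*} [Group G] {t s : G} {K : Subgroup G} (h : Hyp t s K)
include h

theorem Hyp.tt : t * t = 1 := mul_self_of_order h.ht
theorem Hyp.ss : s * s = 1 := mul_self_of_order h.hs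
theorem Hyp.si : s⁻¹ = s := inv_of_order h.hs
theorem Hyp.t1 : t ≠ 1 := ne_one_of_order h.ht
theorem Hyp.sxs {x : G} (hx : x ∈ K) : s * x * s = x⁻¹ := by
  have := h.inv x hx
  rwa [h.si] at this

theorem Hyp.Kt {x : G} (hx : x ∈ K) : x * t = t * x := h.ab x hx t h.tK

/-- `g ∈ H ∖ K` is an involution. -/
theorem Hyp.sq {g : G} (hg : g * t = t * g) (hgK : g ∉ K) : g * g = 1 := by
  have h1 := (h.gen g hg).resolve_left hgK
  have h2 : g = (g * s) * s := by rw [mul_assoc, h.ss, mul_one]
  have h3 := h.sxs h1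
  calc g * g = (g * s) * s * ((g * s) * s) := by rw [← h2]
    _ = (g * s) * (s * (g * s) * s) := by group
    _ = 1 := by rw [h3, mul_inv_cancel]

theorem Hyp.odd_mem {g : G} (hg : g * t = t * g) (ho : Odd (orderOf g)) : g ∈ K := by
  by_contra hgK
  have h1 := h.sq hg hgK
  have h2 : g = 1 := by
    rw [← orderOf_eq_one_iff]
    have : orderOf g ∣ 2 := orderOf_dvd_of_pow_eq_one (by rw [pow_two, h1])
    rcases (Nat.dvd_prime Nat.prime_two).1 this with h3 | h3
    · exact h3
    · rw [h3] at ho; exact absurd ho (by decide)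
  rw [h2] at hgK
  exact hgK K.one_mem

theorem Hyp.cent {x g : G} (hx : x ∈ K) (hx1 : x ≠ 1) (hg : g * x = x * g) : g * t = t * g := by
  apply h.TI g x hx _ hx1
  rw [hg, mul_assoc, mul_inv_cancel, mul_one]; exact hx

theorem Hyp.exists_conj {v : G} (hv : orderOf v = 2) : ∃ g, v = g * t * g⁻¹ := by
  obtain ⟨g, hg⟩ := isConj_iff.1 (h.conj t v h.ht hv)
  exact ⟨g, hg.symm⟩

/-- an abelian normal subgroup of odd order is trivial -/
theorem Hyp.abelian_normal [Finite G] {A : Subgroup G} [hA : A.Normal]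
    (hab : ∀ x ∈ A, ∀ y ∈ A, x * y = y * x) (hodd : Odd (Nat.card A)) : A = ⊥ := by
  have hord : ∀ x ∈ A, Odd (orderOf x) := by
    intro x hx
    have h1 : orderOf x ∣ Nat.card A := by
      have := _root_.orderOf_dvd_natCard (⟨x, hx⟩ : A)
      rwa [Subgroup.orderOf_mk] at this
    exact Odd.of_dvd_nat hodd h1
  have hsq : ∀ x ∈ A, x * x = 1 → x = 1 := by
    intro x hx h1
    by_contra h2
    have h3 := hord x hx
    rw [order_of_mul_self h1 h2] at h3
    exact absurd h3 (by decide)
  rw [Subgroup.eq_bot_iff_forall]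
  by_cases hc : ∃ a ∈ A, a ≠ 1 ∧ a * t = t * a
  · obtain ⟨a, ha, ha1, hat⟩ := hc
    have haK := h.odd_mem hat (hord a ha)
    have hAt : ∀ x ∈ A, x * t = t * x := fun x hx => h.cent haK ha1 (hab x hx a ha)
    obtain ⟨g, hg⟩ := h.exists_conj h.hs
    intro x hx
    have h1 : g⁻¹ * x * g ∈ A := by
      have := hA.conj_mem x hx g⁻¹
      rwa [inv_inv] at this
    have h2 := hAt _ h1
    have h3 : x * s = s * x := by
      rw [hg]
      calc x * (g * t * g⁻¹) = g * (g⁻¹ * x * g * t) * g⁻¹ := by group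
        _ = g * (t * (g⁻¹ * x * g)) * g⁻¹ := by rw [h2]
        _ = g * t * g⁻¹ * x := by group
    have h4 := h.sxs (h.odd_mem (hAt x hx) (hord x hx))
    apply hsq x hx
    have h5 : s * x * s = x := by rw [← h3, mul_assoc, h.ss, mul_one]
    rw [h5] at h4
    nth_rw 1 [h4]
    exact inv_mul_cancel x
  · push Not at hc
    have hfix : ∀ v : G, orderOf v = 2 → ∀ a ∈ A, a * v = v * a → a = 1 := by
      intro v hv a ha hav
      obtain ⟨g, hg⟩ := h.exists_conj hv
      by_contra ha1
      have h1 : g⁻¹ * a * g ∈ A := by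
        have := hA.conj_mem a ha g⁻¹
        rwa [inv_inv] at this
      apply hc _ h1
      · intro h2
        apply ha1
        calc a = g * (g⁻¹ * a * g) * g⁻¹ := by group
          _ = 1 := by rw [h2]; group
      · rw [hg] at hav
        calc g⁻¹ * a * g * t = g⁻¹ * (a * (g * t * g⁻¹)) * g := by group
          _ = g⁻¹ * (g * t * g⁻¹ * a) * g := by rw [hav]
          _ = t * (g⁻¹ * a * g) := by group
    have hinv : ∀ v : G, orderOf v = 2 → ∀ a ∈ A, v * a * v⁻¹ = a⁻¹ := by
      intro v hv a ha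
      have hvv := mul_self_of_order hv
      have hvi := inv_of_order hv
      have h1 : v * a * v⁻¹ ∈ A := hA.conj_mem a ha v
      have h2 : a * (v * a * v⁻¹) = 1 := by
        apply hfix v hv _ (A.mul_mem ha h1)
        have h3 := hab a ha _ h1
        rw [hvi] at h3 ⊢
        calc a * (v * a * v) * v = a * v * a * (v * v) := by group
          _ = a * v * a := by rw [hvv, mul_one]
          _ = v * (v * a * v * a) := by
              calc a * v * a = 1 * a * v * a := by group
                _ = v * v * a * v * a := by rw [hvv]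
                _ = v * (v * a * v * a) := by group
          _ = v * (a * (v * a * v)) := by rw [h3]
      exact eq_inv_of_mul_eq_one_right h2
    intro x hx
    have h1 := hinv s h.hs x hx
    have h2 := hinv t h.ht x⁻¹ (A.inv_mem hx)
    have hne : t * s ≠ 1 := by
      intro h3
      apply h.sK
      have : s = t := by
        calc s = t * t * s := by rw [h.tt, one_mul]
          _ = t * (t * s) := by group
          _ = t := by rw [h3, mul_one]
      rw [this]; exact h.tK
    have hts : orderOf (t * s) = 2 := by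
      apply order_of_mul_self _ hne
      calc t * s * (t * s) = t * (s * t) * s := by group
        _ = t * (t * s) * s := by rw [h.st]
        _ = (t * t) * (s * s) := by group
        _ = 1 := by rw [h.tt, h.ss, mul_one]
    apply hfix (t * s) hts x hx
    have h3 : t * s * x * (t * s)⁻¹ = x := by
      calc t * s * x * (t * s)⁻¹ = t * (s * x * s⁻¹) * t⁻¹ := by group
        _ = x := by rw [h1, h2, inv_inv]
    calc x * (t * s) = (t * s * x * (t * s)⁻¹) * (t * s) := by rw [h3]
      _ = t * s * x := by group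

/-- a normal subgroup of odd order is trivial -/
theorem Hyp.odd_normal [Finite G] {N : Subgroup G} [hN : N.Normal] (hodd : Odd (Nat.card N)) :
    N = ⊥ := by
  classical
  by_contra hne
  have hsol : Group.IsSolvable N := Cfsg.Agent.S0205.result hodd
  obtain ⟨n, hn⟩ := hsol.solvable
  have hex : ∃ n, derivedSeries N n = ⊥ := ⟨n, hn⟩
  have hmin := Nat.find_spec hex
  have hpos : Nat.find hex ≠ 0 := by
    intro h0
    rw [h0, derivedSeries_zero] at hmin
    apply hne
    rw [Subgroup.eq_bot_iff_forall]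
    intro x hx
    have : (⟨x, hx⟩ : N) ∈ (⊤ : Subgroup N) := mem_top _
    rw [hmin, mem_bot] at this
    exact congrArg Subtype.val this
  obtain ⟨m, hm⟩ := Nat.exists_eq_succ_of_ne_zero hpos
  have hm1 : derivedSeries N m ≠ ⊥ := Nat.find_min hex (by omega)
  have hm2 : derivedSeries N (m + 1) = ⊥ := by rw [hm] at hmin; exact hmin
  rw [derivedSeries_succ, commutator_eq_bot_iff_le_centralizer] at hm2
  have hchar : (derivedSeries N m).Characteristic := inferInstance
  have hnorm : ((derivedSeries N m).map N.subtype).Normal := inferInstance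
  have hcard : Nat.card ((derivedSeries N m).map N.subtype) = Nat.card (derivedSeries N m) :=
    Subgroup.card_map_of_injective (Subgroup.subtype_injective _)
  have h1 := h.abelian_normal (A := (derivedSeries N m).map N.subtype) (by
    rintro _ ⟨x, hx, rfl⟩ _ ⟨y, hy, rfl⟩
    have := (mem_centralizer_iff.1 (hm2 hx)) y hy
    exact (congrArg Subtype.val this).symm) (by
    rw [hcard]
    exact Odd.of_dvd_nat hodd (Subgroup.card_subgroup_dvd_card _))
  apply hm1
  rw [Subgroup.map_eq_bot_iff_of_injective _ (Subgroup.subtype_injective _)] at h1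
  exact h1

/-- a nontrivial normal subgroup contains all involutions -/
theorem Hyp.invol_mem [Finite G] {N : Subgroup G} [hN : N.Normal] (hne : N ≠ ⊥) {v : G}
    (hv : orderOf v = 2) : v ∈ N := by
  have heven : ¬ Odd (Nat.card N) := fun ho => hne (h.odd_normal ho)
  rw [Nat.not_odd_iff_even, even_iff_two_dvd] at heven
  have : Fact (Nat.Prime 2) := ⟨Nat.prime_two⟩
  obtain ⟨x, hx⟩ := exists_prime_orderOf_dvd_card' (G := N) 2 heven
  have hx' : orderOf (x : G) = 2 := by rw [Subgroup.orderOf_coe]; exact hx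
  obtain ⟨g, hg⟩ := isConj_iff.1 (h.conj _ _ hx' hv)
  rw [← hg]
  exact hN.conj_mem _ x.2 g

theorem Hyp.le_of_normal [Finite G] {N : Subgroup G} [hN : N.Normal] (hne : N ≠ ⊥) {g : G}
    (hg : g * t = t * g) : g ∈ N := by
  have hsN := h.invol_mem hne h.hs
  have key : ∀ k ∈ K, k ∈ N := by
    intro k hk
    have h1 : orderOf (k * s) = 2 := by
      apply order_of_mul_self
      · calc k * s * (k * s) = k * (s * k * s) := by group
          _ = 1 := by rw [h.sxs hk, mul_inv_cancel]
      · intro h2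
        apply h.sK
        have : s = k⁻¹ := eq_inv_of_mul_eq_one_right h2
        rw [this]; exact K.inv_mem hk
    have h2 := h.invol_mem hne h1
    have h3 : k = k * s * s⁻¹ := by group
    rw [h3]
    exact N.mul_mem h2 (N.inv_mem hsN)
  rcases h.gen g hg with h1 | h1
  · exact key g h1
  · have h3 : g = g * s * s⁻¹ := by group
    rw [h3]
    exact N.mul_mem (key _ h1) (N.inv_mem hsN)

end

end Cfsg.Agent.H329.BSW
end

-- part: H329/BSWSyl
section
/-!
# The Brauer-Suzuki-Wall configuration: the Sylow 2-subgroup is dihedral (helper329, for S3282)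
-/

set_option autoImplicit false

namespace Cfsg.Agent.H329.BSW

open Subgroup Cfsg.Agent.H329.PSLTwo

/-- `L⟨s⟩` -/
def ext {G : Type*} [Group G] (L : Subgroup G) (s : G) (hss : s * s = 1)
    (hL : ∀ x ∈ L, s * x * s ∈ L) : Subgroup G where
  carrier := {g | g ∈ L ∨ g * s ∈ L}
  one_mem' := Or.inl L.one_mem
  mul_mem' := by
    rintro a b (ha | ha) (hb | hb)
    · exact Or.inl (L.mul_mem ha hb)
    · right; rw [mul_assoc]; exact L.mul_mem ha hb
    · right
      have : a * b * s = (a * s) * (s * b * s) := by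
        calc a * b * s = a * 1 * b * s := by group
          _ = a * (s * s) * b * s := by rw [hss]
          _ = (a * s) * (s * b * s) := by group
      rw [this]; exact L.mul_mem ha (hL b hb)
    · left
      have : a * b = (a * s) * (s * (b * s) * s) := by
        calc a * b = a * 1 * b * 1 := by group
          _ = a * (s * s) * b * (s * s) := by rw [hss]
          _ = (a * s) * (s * (b * s) * s) := by group
      rw [this]; exact L.mul_mem ha (hL _ hb)
  inv_mem' := by
    rintro a (ha | ha)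
    · exact Or.inl (L.inv_mem ha)
    · right
      have hsi : s⁻¹ = s := inv_eq_of_mul_eq_one_left hss
      have : a⁻¹ * s = s * (a * s)⁻¹ * s := by
        rw [mul_inv_rev, hsi, ← mul_assoc, hss, one_mul]
      rw [this]; exact hL _ (L.inv_mem ha)

theorem mem_ext {G : Type*} [Group G] {L : Subgroup G} {s : G} {hss : s * s = 1}
    {hL : ∀ x ∈ L, s * x * s ∈ L} {g : G} : g ∈ ext L s hss hL ↔ g ∈ L ∨ g * s ∈ L := Iff.rfl

theorem card_ext {G : Type*} [Group G] [Finite G] {L : Subgroup G} {s : G} {hss : s * s = 1}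
    {hL : ∀ x ∈ L, s * x * s ∈ L} (hs : s ∉ L) : Nat.card (ext L s hss hL) = 2 * Nat.card L := by
  have h1 : (ext L s hss hL : Set G) = (L : Set G) ∪ (fun x => x * s) '' (L : Set G) := by
    ext g
    rw [SetLike.mem_coe, mem_ext, Set.mem_union, Set.mem_image, SetLike.mem_coe]
    constructor
    · rintro (h | h)
      · exact Or.inl h
      · right
        exact ⟨g * s, h, by rw [mul_assoc, hss, mul_one]⟩
    · rintro (h | ⟨x, hx, rfl⟩)
      · exact Or.inl h
      · right
        rw [mul_assoc, hss, mul_one]; exact hx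
  have h2 : Disjoint (L : Set G) ((fun x => x * s) '' (L : Set G)) := by
    rw [Set.disjoint_left]
    rintro _ hg ⟨x, hx, rfl⟩
    apply hs
    have : s = x⁻¹ * (x * s) := by group
    rw [this]
    exact L.mul_mem (L.inv_mem hx) hg
  have h3 : Nat.card (ext L s hss hL) = (ext L s hss hL : Set G).ncard := (Nat.card_coe_set_eq _)
  have h4 : Nat.card L = (L : Set G).ncard := (Nat.card_coe_set_eq _)
  rw [h3, h1, Set.ncard_union_eq h2 (Set.toFinite _) (Set.toFinite _), h4,
    Set.ncard_image_of_injective _ (mul_left_injective s)]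
  ring

section

variable {G : Type*} [Group G] {t s : G} {K : Subgroup G} (h : Hyp t s K)
include h

theorem Hyp.uniq {x : G} (hx : x ∈ K) (hxx : x * x = 1) : x = 1 ∨ x = t := by
  apply h.CK x hx
  have h1 := h.sxs hx
  have h2 : x⁻¹ = x := inv_eq_of_mul_eq_one_left hxx
  rw [h2] at h1
  calc x * s = (s * x * s) * s := by rw [h1]
    _ = s * x * (s * s) := by group
    _ = s * x := by rw [h.ss, mul_one]

theorem Hyp.exists_gen [Finite G] : ∃ c ∈ K, t ∈ zpowers c ∧ (∃ m, orderOf c = 2 ^ (m + 1)) ∧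
    ∀ n, ∀ x ∈ K, x ^ (2 ^ n) = 1 → x ∈ zpowers c := by
  classical
  have hne : ({x : G | x ∈ K ∧ ∃ n, x ^ (2 ^ n) = 1} : Set G).Nonempty :=
    ⟨t, h.tK, 1, by rw [pow_one, pow_two, h.tt]⟩
  obtain ⟨c, ⟨hcK, n₀, hc⟩, hmax⟩ := Set.exists_max_image _ (fun x => orderOf x) (Set.toFinite _) hne
  have hc2 : 2 ≤ orderOf c := by
    have := hmax t ⟨h.tK, 1, by rw [pow_one, pow_two, h.tt]⟩
    rwa [h.ht] at this
  obtain ⟨m', hm', hcm⟩ := (Nat.dvd_prime_pow Nat.prime_two).1 (orderOf_dvd_of_pow_eq_one hc)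
  obtain ⟨m, rfl⟩ : ∃ m, m' = m + 1 := ⟨m' - 1, by
    have : m' ≠ 0 := by rintro rfl; rw [hcm] at hc2; norm_num at hc2
    omega⟩
  have htc : t ∈ zpowers c := by
    have h1 : c ^ (2 ^ m) * c ^ (2 ^ m) = 1 := by
      rw [← pow_add, ← two_mul, mul_comm, ← pow_succ, ← hcm, pow_orderOf_eq_one]
    have h2 : c ^ (2 ^ m) ≠ 1 := by
      intro h3
      have h4 := orderOf_dvd_of_pow_eq_one h3
      rw [hcm] at h4
      have := Nat.le_of_dvd (by positivity) h4
      rw [pow_succ] at this
      have : 0 < 2 ^ m := by positivity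
      omega
    rcases h.uniq (K.pow_mem hcK _) h1 with h3 | h3
    · exact absurd h3 h2
    · rw [← h3]; exact npow_mem_zpowers c _
  refine ⟨c, hcK, htc, ⟨m, hcm⟩, ?_⟩
  intro n
  induction n with
  | zero => intro x _ hx; rw [pow_zero, pow_one] at hx; rw [hx]; exact one_mem _
  | succ n ih =>
    intro x hx hxn
    have h1 : x ^ 2 ∈ zpowers c := by
      apply ih _ (K.pow_mem hx 2)
      rw [← pow_mul, mul_comm, ← pow_succ]; exact hxn
    obtain ⟨i, hi⟩ := mem_zpowers_iff.1 h1
    rcases Int.even_or_odd' i with ⟨j, rfl | rfl⟩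
    · have hcomm : x * (c ^ j) = c ^ j * x := h.ab x hx _ (K.zpow_mem hcK j)
      have h2 : (x * (c ^ j)⁻¹) * (x * (c ^ j)⁻¹) = 1 := by
        have h3 : (c ^ j)⁻¹ * x = x * (c ^ j)⁻¹ := by
          rw [inv_mul_eq_iff_eq_mul, ← mul_assoc, ← hcomm, mul_assoc, mul_inv_cancel, mul_one]
        calc (x * (c ^ j)⁻¹) * (x * (c ^ j)⁻¹) = x * ((c ^ j)⁻¹ * x) * (c ^ j)⁻¹ := by group
          _ = x * (x * (c ^ j)⁻¹) * (c ^ j)⁻¹ := by rw [h3]
          _ = x ^ 2 * (c ^ (2 * j))⁻¹ := by rw [pow_two, two_mul, zpow_add]; group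
          _ = 1 := by rw [hi, mul_inv_cancel]
      have h3 : x = (x * (c ^ j)⁻¹) * c ^ j := by group
      rcases h.uniq (K.mul_mem hx (K.inv_mem (K.zpow_mem hcK j))) h2 with h4 | h4
      · rw [h3, h4, one_mul]; exact zpow_mem_zpowers c j
      · rw [h3, h4]; exact mul_mem htc (zpow_mem_zpowers c j)
    · exfalso
      have h2 : orderOf (x ^ 2) = orderOf c := by
        have hco : IsCoprime ((2 : ℤ) ^ (m + 1)) (2 * j + 1) := by
          apply IsCoprime.pow_left
          exact ⟨-j, 1, by ring⟩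
        obtain ⟨a, b, hab⟩ := hco
        have hc1 : c ^ ((2 : ℤ) ^ (m + 1)) = 1 := by
          have : ((2 : ℤ) ^ (m + 1)) = ((2 ^ (m + 1) : ℕ) : ℤ) := by push_cast; rfl
          rw [this, zpow_natCast, ← hcm, pow_orderOf_eq_one]
        have hcx : c ∈ zpowers (x ^ 2) := by
          refine mem_zpowers_iff.2 ⟨b, ?_⟩
          rw [← hi, ← zpow_mul]
          have e1 : (2 * j + 1) * b = 1 - a * (2 : ℤ) ^ (m + 1) := by linear_combination hab
          rw [e1, zpow_sub, zpow_one, mul_comm a, zpow_mul, hc1, one_zpow, inv_one, mul_one]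
        have h5 : zpowers (x ^ 2) = zpowers c :=
          le_antisymm (zpowers_le.2 h1) (zpowers_le.2 hcx)
        rw [← Nat.card_zpowers, h5, Nat.card_zpowers]
      obtain ⟨k, hk, hxk⟩ := (Nat.dvd_prime_pow Nat.prime_two).1 (orderOf_dvd_of_pow_eq_one hxn)
      have hk0 : k ≠ 0 := by
        rintro rfl
        rw [pow_zero, orderOf_eq_one_iff] at hxk
        rw [hxk, one_pow, orderOf_one] at h2
        omega
      obtain ⟨k', rfl⟩ := Nat.exists_eq_succ_of_ne_zero hk0
      have h3 : orderOf (x ^ 2) = 2 ^ k' := by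
        rw [orderOf_pow' x two_ne_zero, hxk, Nat.succ_eq_add_one, pow_succ]
        simp
      have h4 := hmax x ⟨hx, n + 1, hxn⟩
      rw [hxk, ← h2, h3, Nat.succ_eq_add_one, pow_succ] at h4
      have : 0 < 2 ^ k' := by positivity
      omega

theorem Hyp.szs {c : G} (hc : c ∈ K) : ∀ x ∈ zpowers c, s * x * s ∈ zpowers c := by
  intro x hx
  rw [h.sxs (zpowers_le.2 hc hx)]
  exact inv_mem hx

/-- The Sylow 2-subgroup. -/
theorem Hyp.exists_sylow [Finite G] : ∃ c ∈ K, t ∈ zpowers c ∧ (∃ m, orderOf c = 2 ^ (m + 1)) ∧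
    (∀ n, ∀ x ∈ K, x ^ (2 ^ n) = 1 → x ∈ zpowers c) ∧
    ∃ S : Sylow 2 G, Nat.card S = 2 * orderOf c ∧ (∀ x, x ∈ S ↔ x ∈ zpowers c ∨ x * s ∈ zpowers c) ∧
      Nonempty ((S : Subgroup G) ≃* DihedralGroup (orderOf c)) := by
  classical
  obtain ⟨c, hcK, htc, ⟨m, hcm⟩, hmax⟩ := h.exists_gen
  refine ⟨c, hcK, htc, ⟨m, hcm⟩, hmax, ?_⟩
  have hsc : s ∉ zpowers c := fun h1 => h.sK (zpowers_le.2 hcK h1)
  have hT : Nat.card (ext (zpowers c) s h.ss (h.szs hcK)) = 2 * orderOf c := by
    rw [card_ext hsc, Nat.card_zpowers]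
  have hTp : IsPGroup 2 (ext (zpowers c) s h.ss (h.szs hcK)) := by
    rw [IsPGroup.iff_card]
    exact ⟨m + 2, by rw [hT, hcm]; ring⟩
  obtain ⟨S, hS⟩ := hTp.exists_le_sylow
  have hprime : Fact (Nat.Prime 2) := ⟨Nat.prime_two⟩
  -- central involution of S
  have hSnt : Nontrivial S := by
    have : (1 : G) ≠ t := h.t1.symm
    refine ⟨⟨⟨1, one_mem _⟩, ⟨t, hS (Or.inl htc)⟩, fun h1 => this (congrArg Subtype.val h1)⟩⟩
  have hcn : Nontrivial (center S) := S.isPGroup'.center_nontrivial
  have hcp : IsPGroup 2 (center S) := S.isPGroup'.to_subgroup _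
  obtain ⟨z, hz⟩ : ∃ z : center S, orderOf z = 2 := by
    apply exists_prime_orderOf_dvd_card'
    obtain ⟨k, hk⟩ := (IsPGroup.iff_card).1 hcp
    rw [hk]
    have : k ≠ 0 := by
      rintro rfl
      rw [pow_zero] at hk
      have := Finite.one_lt_card (α := center S)
      omega
    exact dvd_pow_self 2 this
  have hz' : orderOf ((z : S) : G) = 2 := by
    rw [Subgroup.orderOf_coe, Subgroup.orderOf_coe]; exact hz
  obtain ⟨g, hg⟩ := h.exists_conj hz'
  have hφ : ∀ x ∈ S, g⁻¹ * x * g * t = t * (g⁻¹ * x * g) := by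
    intro x hx
    have h1 : x * ((z : S) : G) = ((z : S) : G) * x := by
      have := (mem_center_iff.1 z.2) ⟨x, hx⟩
      exact congrArg Subtype.val this
    rw [hg] at h1
    calc g⁻¹ * x * g * t = g⁻¹ * (x * (g * t * g⁻¹)) * g := by group
      _ = g⁻¹ * (g * t * g⁻¹ * x) * g := by rw [h1]
      _ = t * (g⁻¹ * x * g) := by group
  have hφp : ∀ x ∈ S, ∃ n, (g⁻¹ * x * g) ^ (2 ^ n) = 1 := by
    intro x hx
    obtain ⟨n, hn⟩ := S.isPGroup' ⟨x, hx⟩
    refine ⟨n, ?_⟩
    have h1 : x ^ (2 ^ n) = 1 := congrArg Subtype.val hn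
    have h2 : g⁻¹ * x * g = g⁻¹ * x * (g⁻¹)⁻¹ := by rw [inv_inv]
    rw [h2, conj_pow, h1]; group
  have hcz : (zpowers c : Set G).ncard = orderOf c := by
    have : Nat.card (zpowers c) = (zpowers c : Set G).ncard := Nat.card_coe_set_eq _
    rw [← this, Nat.card_zpowers]
  have hcardS : Nat.card S ≤ 2 * orderOf c := by
    have e1 : Nat.card S = ((S : Subgroup G) : Set G).ncard := Nat.card_coe_set_eq _
    have hsplit : ((S : Subgroup G) : Set G) =
        {x | x ∈ S ∧ g⁻¹ * x * g ∈ K} ∪ {x | x ∈ S ∧ g⁻¹ * x * g ∉ K} := by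
      ext x
      simp only [SetLike.mem_coe, Set.mem_union, Set.mem_setOf_eq]
      constructor
      · intro hx
        by_cases h1 : g⁻¹ * x * g ∈ K
        · exact Or.inl ⟨hx, h1⟩
        · exact Or.inr ⟨hx, h1⟩
      · rintro (h1 | h1)
        · exact h1.1
        · exact h1.1
    have hb1 : ({x | x ∈ S ∧ g⁻¹ * x * g ∈ K} : Set G).ncard ≤ orderOf c := by
      rw [← hcz]
      apply Set.ncard_le_ncard_of_injOn (fun x => g⁻¹ * x * g)
      · rintro x ⟨hx, hxK⟩
        obtain ⟨n, hn⟩ := hφp x hx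
        exact hmax n _ hxK hn
      · intro x _ y _ hxy
        simpa only [_root_.mul_left_inj, _root_.mul_right_inj] using hxy
    have hb2 : ({x | x ∈ S ∧ g⁻¹ * x * g ∉ K} : Set G).ncard ≤ orderOf c := by
      by_cases hex : ∃ r, r ∈ S ∧ g⁻¹ * r * g ∉ K
      · obtain ⟨r, hr, hrK⟩ := hex
        rw [← hcz]
        apply Set.ncard_le_ncard_of_injOn (fun x => g⁻¹ * (r⁻¹ * x) * g)
        · rintro x ⟨hx, hxK⟩
          obtain ⟨n, hn⟩ := hφp (r⁻¹ * x) (S.mul_mem (S.inv_mem hr) hx)
          apply hmax n _ _ hn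
          have h1 := (h.gen _ (hφ r hr)).resolve_left hrK
          have h2 := (h.gen _ (hφ x hx)).resolve_left hxK
          have h3 : g⁻¹ * (r⁻¹ * x) * g = s * ((g⁻¹ * r * g * s)⁻¹ * (g⁻¹ * x * g * s)) * s := by
            rw [mul_inv_rev, h.si]
            calc g⁻¹ * (r⁻¹ * x) * g = 1 * ((g⁻¹ * r * g)⁻¹ * (g⁻¹ * x * g)) * 1 := by group
              _ = (s * s) * ((g⁻¹ * r * g)⁻¹ * (g⁻¹ * x * g)) * (s * s) := by rw [h.ss]
              _ = s * (s * (g⁻¹ * r * g)⁻¹ * (g⁻¹ * x * g * s)) * s := by group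
          rw [h3, h.sxs (K.mul_mem (K.inv_mem h1) h2)]
          exact K.inv_mem (K.mul_mem (K.inv_mem h1) h2)
        · intro x _ y _ hxy
          simpa only [_root_.mul_left_inj, _root_.mul_right_inj] using hxy
      · have : ({x | x ∈ S ∧ g⁻¹ * x * g ∉ K} : Set G) = ∅ := by
          rw [Set.eq_empty_iff_forall_notMem]
          intro x hx
          exact hex ⟨x, hx⟩
        rw [this, Set.ncard_empty]; exact Nat.zero_le _
    rw [e1, hsplit]
    calc _ ≤ _ := Set.ncard_union_le _ _
      _ ≤ orderOf c + orderOf c := Nat.add_le_add hb1 hb2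
      _ = 2 * orderOf c := by ring
  have hST : ext (zpowers c) s h.ss (h.szs hcK) = (S : Subgroup G) := by
    apply Subgroup.eq_of_le_of_card_ge hS
    rw [hT]; exact hcardS
  have hmem : ∀ x, x ∈ S ↔ x ∈ zpowers c ∨ x * s ∈ zpowers c := by
    intro x
    show x ∈ (S : Subgroup G) ↔ _
    rw [← hST]; rfl
  refine ⟨S, ?_, hmem, ?_⟩
  · have : Nat.card S = Nat.card (S : Subgroup G) := rfl
    rw [this, ← hST, hT]
  · have hcs : orderOf (c * s) = 2 := by
      apply order_of_mul_self
      · calc c * s * (c * s) = c * (s * c * s) := by group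
          _ = 1 := by rw [h.sxs hcK, mul_inv_cancel]
      · intro h2
        apply h.sK
        have : s = c⁻¹ := eq_inv_of_mul_eq_one_right h2
        rw [this]; exact K.inv_mem hcK
    have hne : c * s ≠ s := by
      intro h1
      have : c = 1 := by simpa using h1
      rw [this, orderOf_one] at hcm
      have : 2 ≤ 2 ^ (m + 1) := by rw [pow_succ]; have : 0 < 2 ^ m := by positivity
                                   omega
      omega
    have hcl : Subgroup.closure ({c * s, s} : Set G) = (S : Subgroup G) := by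
      apply le_antisymm
      · rw [closure_le]
        rintro x (h1 | h1)
        · rw [h1]
          show c * s ∈ S
          rw [hmem]; right
          rw [mul_assoc, h.ss, mul_one]; exact mem_zpowers c
        · rw [Set.mem_singleton_iff.1 h1]
          show s ∈ S
          rw [hmem]; right
          rw [h.ss]; exact one_mem _
      · have hs' : s ∈ Subgroup.closure ({c * s, s} : Set G) := _root_.Subgroup.subset_closure (by simp)
        have hc' : c ∈ Subgroup.closure ({c * s, s} : Set G) := by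
          have h1 : c * s ∈ Subgroup.closure ({c * s, s} : Set G) := _root_.Subgroup.subset_closure (by simp)
          have h2 : c = c * s * s := by rw [mul_assoc, h.ss, mul_one]
          have h3 := mul_mem h1 hs'
          rwa [← h2] at h3
        intro x hx
        rcases (hmem x).1 hx with h1 | h1
        · exact (zpowers_le.2 hc') h1
        · have h2 : x = x * s * s := by rw [mul_assoc, h.ss, mul_one]
          rw [h2]; exact mul_mem ((zpowers_le.2 hc') h1) hs'
    obtain ⟨e⟩ := Cfsg.Agent.S0206.result (c * s) s hcs h.hs hne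
    rw [show c * s * s = c by rw [mul_assoc, h.ss, mul_one]] at e
    exact ⟨(MulEquiv.subgroupCongr hcl.symm).trans e⟩

end

end Cfsg.Agent.H329.BSW
end

-- part: H329/BSWMain
section
/-!
# The Brauer-Suzuki-Wall configuration: the end (helper329, for S3282)
-/

set_option autoImplicit false

namespace Cfsg.Agent.H329.BSW

open Subgroup Cfsg.Agent.H329.PSLTwo
open scoped commutatorElement

theorem order_conj {G : Type*} [Group G] (g x : G) : orderOf (g * x * g⁻¹) = orderOf x := by
  have := MulEquiv.orderOf_eq (MulAut.conj g) x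
  rwa [MulAut.conj_apply] at this

theorem alt_seven : ∃ v x y : alternatingGroup (Fin 7), v * v = 1 ∧ v ≠ 1 ∧ x * v = v * x ∧
    x * x * x = 1 ∧ x ≠ 1 ∧ x * y = y * x ∧ y * v ≠ v * y := by
  refine ⟨⟨Equiv.swap 0 1 * Equiv.swap 2 3, Equiv.Perm.mem_alternatingGroup.2 (by decide +kernel)⟩,
    ⟨Equiv.swap 4 5 * Equiv.swap 5 6, Equiv.Perm.mem_alternatingGroup.2 (by decide +kernel)⟩,
    ⟨Equiv.swap 0 1 * Equiv.swap 1 2, Equiv.Perm.mem_alternatingGroup.2 (by decide +kernel)⟩, ?_⟩
  decide +kernel

/-- The Sylow data. -/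
structure Syl {G : Type*} [Group G] (t s : G) (K : Subgroup G) (c : G) (S : Sylow 2 G) : Prop
    extends Hyp t s K where
  cK : c ∈ K
  tc : t ∈ zpowers c
  oc : ∃ m, orderOf c = 2 ^ (m + 1)
  max : ∀ n, ∀ x ∈ K, x ^ (2 ^ n) = 1 → x ∈ zpowers c
  cS : Nat.card S = 2 * orderOf c
  mem : ∀ x, x ∈ S ↔ x ∈ zpowers c ∨ x * s ∈ zpowers c
  dih : Nonempty ((S : Subgroup G) ≃* DihedralGroup (orderOf c))

section

variable {G : Type*} [Group G] [Finite G] {t s c : G} {K : Subgroup G} {S : Sylow 2 G}
  (h : Syl t s K c S)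
include h

theorem Syl.tS : t ∈ S := (h.mem t).2 (Or.inl h.tc)
theorem Syl.sS : s ∈ S := (h.mem s).2 (Or.inr (by rw [h.toHyp.ss]; exact one_mem _))

/-- if `|S| > 4` then the normaliser of `S` centralises `t` -/
theorem Syl.norm_big (h4 : 4 ≤ orderOf c) {g : G} (hg : g ∈ normalizer ((S : Subgroup G) : Set G)) :
    g * t = t * g := by
  have hyp := h.toHyp
  -- characterisation of `t`
  have key : ∀ z ∈ S, z ≠ 1 → (∀ x ∈ S, z * x = x * z) → z = t := by
    intro z hz hz1 hzx
    have hzs := hzx s h.sS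
    rcases (h.mem z).1 hz with h1 | h1
    · exact (hyp.CK z (zpowers_le.2 h.cK h1) hzs).resolve_left hz1
    · exfalso
      -- c commutes with z and z*s, so with s
      have hzc := hzx c ((h.mem c).2 (Or.inl (mem_zpowers c)))
      have h2 := hyp.ab c h.cK (z * s) (zpowers_le.2 h.cK h1)
      have h3 : c * s = s * c := by
        have : s = z⁻¹ * (z * s) := by group
        have hzc' : c * z⁻¹ = z⁻¹ * c := by
          calc c * z⁻¹ = z⁻¹ * (z * c) * z⁻¹ := by group
            _ = z⁻¹ * (c * z) * z⁻¹ := by rw [hzc]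
            _ = z⁻¹ * c := by group
        calc c * s = c * (z⁻¹ * (z * s)) := by rw [← this]
          _ = c * z⁻¹ * (z * s) := by group
          _ = z⁻¹ * c * (z * s) := by rw [hzc']
          _ = z⁻¹ * (c * (z * s)) := by group
          _ = z⁻¹ * (z * s * c) := by rw [h2]
          _ = s * c := by group
      rcases hyp.CK c h.cK h3 with h5 | h5
      · rw [h5, orderOf_one] at h4; omega
      · rw [h5, hyp.ht] at h4; omega
  have h1 : g * t * g⁻¹ = t := by
    have hgS := (mem_normalizer_iff.1 hg)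
    apply key
    · exact (hgS t).1 h.tS
    · intro h2
      apply hyp.t1
      calc t = g⁻¹ * (g * t * g⁻¹) * g := by group
        _ = 1 := by rw [h2]; group
    · intro x hx
      have hx' : g⁻¹ * x * g ∈ S := by
        have : g * (g⁻¹ * x * g) * g⁻¹ ∈ S := by
          have : g * (g⁻¹ * x * g) * g⁻¹ = x := by group
          rw [this]; exact hx
        exact (hgS _).2 this
      have h3 : (g⁻¹ * x * g) * t = t * (g⁻¹ * x * g) := by
        -- elements of S commute with t
        rcases (h.mem _).1 hx' with h5 | h5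
        · exact hyp.Kt (zpowers_le.2 h.cK h5)
        · have h6 := hyp.Kt (zpowers_le.2 h.cK h5)
          have h7 : g⁻¹ * x * g = (g⁻¹ * x * g * s) * s := by rw [mul_assoc _ s s, hyp.ss, mul_one]
          rw [h7]
          calc (g⁻¹ * x * g * s) * s * t = (g⁻¹ * x * g * s) * (s * t) := by group
            _ = (g⁻¹ * x * g * s) * (t * s) := by rw [hyp.st]
            _ = ((g⁻¹ * x * g * s) * t) * s := by group
            _ = t * ((g⁻¹ * x * g * s) * s) := by rw [h6]; group
      calc g * t * g⁻¹ * x = g * (t * (g⁻¹ * x * g)) * g⁻¹ := by group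
        _ = g * ((g⁻¹ * x * g) * t) * g⁻¹ := by rw [h3]
        _ = x * (g * t * g⁻¹) := by group
  calc g * t = (g * t * g⁻¹) * g := by group
    _ = t * g := by rw [h1]

theorem Syl.le_of_normal {N : Subgroup G} [N.Normal] (hne : N ≠ ⊥) : (S : Subgroup G) ≤ N := by
  intro x hx
  have hyp := h.toHyp
  have hs := hyp.le_of_normal hne hyp.st
  rcases (h.mem x).1 hx with h1 | h1
  · exact hyp.le_of_normal hne (hyp.Kt (zpowers_le.2 h.cK h1))
  · have h2 := hyp.le_of_normal hne (hyp.Kt (zpowers_le.2 h.cK h1))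
    have h3 : x = x * s * s⁻¹ := by group
    rw [h3]
    exact N.mul_mem h2 (N.inv_mem hs)

/-- the small case: `S` is a four-group -/
theorem Syl.stab (h2 : orderOf c = 2) {g : G} (hg : g ∈ normalizer ((S : Subgroup G) : Set G))
    (hgt : g * t = t * g) : g ∈ S := by
  have hyp := h.toHyp
  have hc : ∀ x ∈ zpowers c, x = 1 ∨ x = t := by
    intro x hx
    apply hyp.uniq (zpowers_le.2 h.cK hx)
    have := orderOf_dvd_of_mem_zpowers hx
    rw [h2] at this
    rw [← pow_two]; exact orderOf_dvd_iff_pow_eq_one.1 this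
  have key : ∀ k ∈ K, k ∈ normalizer ((S : Subgroup G) : Set G) → k ∈ S := by
    intro k hk hkn
    have h3 := ((mem_normalizer_iff.1 hkn) s).1 h.sS
    have h4 : k * s * k⁻¹ = k * k * s := by
      have h5 := hyp.sxs hk
      calc k * s * k⁻¹ = k * s * (s * k * s) := by rw [h5]
        _ = k * (s * s) * k * s := by group
        _ = k * k * s := by rw [hyp.ss]; group
    rw [h4] at h3
    have h5 : k * k ∈ zpowers c := by
      rcases (h.mem _).1 h3 with h6 | h6
      · exfalso
        apply hyp.sK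
        have : s = (k * k)⁻¹ * (k * k * s) := by group
        rw [this]
        exact K.mul_mem (K.inv_mem (K.mul_mem hk hk)) (zpowers_le.2 h.cK h6)
      · rwa [mul_assoc, hyp.ss, mul_one] at h6
    have h6 : k ^ (2 ^ 2) = 1 := by
      have h7 : (k * k) * (k * k) = 1 := by
        rcases hc _ h5 with h8 | h8
        · rw [h8, mul_one]
        · rw [h8, hyp.tt]
      calc k ^ (2 ^ 2) = (k * k) * (k * k) := by
            rw [show (2 ^ 2 : ℕ) = 2 + 2 from rfl, pow_add, pow_two]
        _ = 1 := h7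
    exact (h.mem k).2 (Or.inl (h.max 2 k hk h6))
  rcases hyp.gen g hgt with h3 | h3
  · exact key g h3 hg
  · have h4 := key (g * s) h3 (mul_mem hg (_root_.Subgroup.le_normalizer h.sS))
    have h5 : g = g * s * s⁻¹ := by group
    rw [h5]
    exact S.mul_mem h4 (S.inv_mem h.sS)

theorem Syl.elems (h2 : orderOf c = 2) {x : G} (hx : x ∈ S) : x = 1 ∨ x = t ∨ x = s ∨ x = t * s := by
  have hyp := h.toHyp
  have hc : ∀ x ∈ zpowers c, x = 1 ∨ x = t := by
    intro x hx
    apply hyp.uniq (zpowers_le.2 h.cK hx)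
    have := orderOf_dvd_of_mem_zpowers hx
    rw [h2] at this
    rw [← pow_two]; exact orderOf_dvd_iff_pow_eq_one.1 this
  rcases (h.mem x).1 hx with h1 | h1
  · rcases hc x h1 with h3 | h3
    · exact Or.inl h3
    · exact Or.inr (Or.inl h3)
  · have h4 : x = x * s * s := by rw [mul_assoc, hyp.ss, mul_one]
    rcases hc _ h1 with h3 | h3
    · right; right; left
      rw [h4, h3, one_mul]
    · right; right; right
      rw [h4, h3]

/-- the index of `S` in its normaliser is at most 3 in the small case -/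
theorem Syl.relIndex_le (h2 : orderOf c = 2) :
    (S : Subgroup G).relIndex (normalizer ((S : Subgroup G) : Set G)) ≤ 3 := by
  classical
  have hyp := h.toHyp
  have hfin : Finite (↥(normalizer ((S : Subgroup G) : Set G)) ⧸
    (S : Subgroup G).subgroupOf (normalizer ((S : Subgroup G) : Set G))) := inferInstance
  let f : (↥(normalizer ((S : Subgroup G) : Set G)) ⧸
    (S : Subgroup G).subgroupOf (normalizer ((S : Subgroup G) : Set G))) → G :=
    fun q => (q.out : G) * t * (q.out : G)⁻¹
  have hf : Function.Injective f := by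
    intro a b hab
    rw [← a.out_eq', ← b.out_eq', Quotient.eq'', QuotientGroup.leftRel_apply, mem_subgroupOf]
    have h3 : (a.out : G) * t * (a.out : G)⁻¹ = (b.out : G) * t * (b.out : G)⁻¹ := hab
    apply h.stab h2
    · exact mul_mem (inv_mem a.out.2) b.out.2
    · show (a.out : G)⁻¹ * (b.out : G) * t = t * ((a.out : G)⁻¹ * (b.out : G))
      calc (a.out : G)⁻¹ * (b.out : G) * t
          = (a.out : G)⁻¹ * ((b.out : G) * t * (b.out : G)⁻¹) * (b.out : G) := by group
        _ = (a.out : G)⁻¹ * ((a.out : G) * t * (a.out : G)⁻¹) * (b.out : G) := by rw [h3]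
        _ = t * ((a.out : G)⁻¹ * (b.out : G)) := by group
  have hr : Set.range f ⊆ ({t, s, t * s} : Finset G) := by
    rintro _ ⟨q, rfl⟩
    have h3 : f q ∈ S := ((mem_normalizer_iff.1 q.out.2) t).1 h.tS
    have h4 : f q ≠ 1 := by
      intro h5
      apply hyp.t1
      calc t = (q.out : G)⁻¹ * ((q.out : G) * t * (q.out : G)⁻¹) * (q.out : G) := by group
        _ = 1 := by rw [show (q.out : G) * t * (q.out : G)⁻¹ = 1 from h5]; group
    rcases h.elems h2 h3 with h5 | h5 | h5 | h5
    · exact absurd h5 h4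
    · simp [h5]
    · simp [h5]
    · simp [h5]
  calc (S : Subgroup G).relIndex (normalizer ((S : Subgroup G) : Set G))
      = Nat.card (↥(normalizer ((S : Subgroup G) : Set G)) ⧸
    (S : Subgroup G).subgroupOf (normalizer ((S : Subgroup G) : Set G))) := rfl
    _ = (Set.range f).ncard := by
        rw [← Nat.card_coe_set_eq]; exact Nat.card_congr (Equiv.ofInjective f hf)
    _ ≤ (({t, s, t * s} : Finset G) : Set G).ncard := Set.ncard_le_ncard hr (Set.toFinite _)
    _ = ({t, s, t * s} : Finset G).card := Set.ncard_coe_finset _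
    _ ≤ 3 := Finset.card_le_three

theorem Syl.comm (h2 : orderOf c = 2) {x y : G} (hx : x ∈ S) (hy : y ∈ S) : x * y = y * x := by
  have hyp := h.toHyp
  have e1 : s * t = t * s := hyp.st
  have e2 : s * (t * s) = (t * s) * s := by rw [← mul_assoc, hyp.st]
  have e3 : t * (t * s) = (t * s) * t := by rw [mul_assoc, hyp.st]
  rcases h.elems h2 hx with rfl | rfl | rfl | rfl <;> rcases h.elems h2 hy with rfl | rfl | rfl | rfl <;>
    first
    | rfl
    | rw [mul_one, one_mul]
    | rw [e1]
    | rw [e2]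
    | rw [e3]

theorem Syl.c_cases : 4 ≤ orderOf c ∨ orderOf c = 2 := by
  obtain ⟨m, hm⟩ := h.oc
  rcases m with _ | m
  · right; rw [hm]; rfl
  · left
    rw [hm, pow_succ, pow_succ]
    have : 0 < 2 ^ m := by positivity
    omega

/-- the `A₄` case -/
theorem Syl.concl_of_normal (h2 : orderOf c = 2) (hn : (S : Subgroup G).Normal)
    (h12 : Nat.card G = 12) : Concl G := by
  classical
  have hyp := h.toHyp
  have hS4 : Nat.card S = 4 := by rw [h.cS, h2]
  have hnt : normalizer ((S : Subgroup G) : Set G) = ⊤ := normalizer_eq_top_iff.2 hn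
  -- an element of order 3 centralises no involution of S
  have hfix : ∀ y : G, orderOf y = 3 → ∀ v ∈ S, v ≠ 1 → y * v ≠ v * y := by
    intro y hy v hv hv1 hyv
    have hv2 : orderOf v = 2 := by
      apply order_of_mul_self _ hv1
      rcases h.elems h2 hv with rfl | rfl | rfl | rfl
      · rw [mul_one]
      · exact hyp.tt
      · exact hyp.ss
      · calc t * s * (t * s) = t * (s * t) * s := by group
          _ = (t * t) * (s * s) := by rw [hyp.st]; group
          _ = 1 := by rw [hyp.tt, hyp.ss, mul_one]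
    obtain ⟨g, hg⟩ := hyp.exists_conj hv2
    have h3 : g⁻¹ * y * g * t = t * (g⁻¹ * y * g) := by
      rw [hg] at hyv
      calc g⁻¹ * y * g * t = g⁻¹ * (y * (g * t * g⁻¹)) * g := by group
        _ = g⁻¹ * (g * t * g⁻¹ * y) * g := by rw [hyv]
        _ = t * (g⁻¹ * y * g) := by group
    have h4 : g⁻¹ * y * g ∈ S := h.stab h2 (by rw [hnt]; exact mem_top _) h3
    have h5 : orderOf (g⁻¹ * y * g) ∣ Nat.card S := by
      have := _root_.orderOf_dvd_natCard (⟨_, h4⟩ : S)
      rwa [Subgroup.orderOf_mk] at this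
    have h6 : orderOf (g⁻¹ * y * g) = orderOf y := by
      have := order_conj g⁻¹ y
      rwa [inv_inv] at this
    rw [h6, hy, hS4] at h5
    omega
  have hsub : ∀ C : Subgroup G, C ⊓ (S : Subgroup G) = ⊥ → Nat.card C ≤ 3 := by
    intro C hC
    have hinj : Function.Injective (fun x : C => (QuotientGroup.mk (x : G) : G ⧸ (S : Subgroup G))) := by
      intro x y hxy
      rw [QuotientGroup.eq] at hxy
      have h3 : (x : G)⁻¹ * (y : G) ∈ C ⊓ (S : Subgroup G) := ⟨C.mul_mem (C.inv_mem x.2) y.2, hxy⟩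
      rw [hC, mem_bot, inv_mul_eq_one] at h3
      exact Subtype.ext h3
    have h3 := Nat.card_le_card_of_injective _ hinj
    have h4 := (S : Subgroup G).card_mul_index
    rw [h12, show Nat.card (S : Subgroup G) = 4 from hS4] at h4
    have h5 : Nat.card (G ⧸ (S : Subgroup G)) = (S : Subgroup G).index := rfl
    omega
  have : Fact (Nat.Prime 3) := ⟨Nat.prime_three⟩
  obtain ⟨x, hx⟩ := exists_prime_orderOf_dvd_card' (G := G) 3 (by rw [h12]; norm_num)
  have hQ : Nat.card (zpowers x) = 3 := by rw [Nat.card_zpowers, hx]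
  have hinf : ∀ y : G, orderOf y = 3 → Subgroup.centralizer ({y} : Set G) ⊓ (S : Subgroup G) = ⊥ := by
    intro y hy
    rw [Subgroup.eq_bot_iff_forall]
    rintro v ⟨hv1, hv2⟩
    by_contra hv
    apply hfix y hy v hv2 hv
    exact (mem_centralizer_singleton_iff.1 hv1).symm
  refine ⟨zpowers x, ⊥, ?_, ?_, ?_, ?_, inf_bot_eq _, ?_, ?_⟩
  · rw [hQ, h12]
  · intro y hy hy1
    have hy3 : orderOf y = 3 := by
      have h3 : orderOf y ∣ 3 := by
        rw [← hx]; exact orderOf_dvd_of_mem_zpowers hy
      rcases (Nat.dvd_prime Nat.prime_three).1 h3 with h4 | h4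
      · rw [orderOf_eq_one_iff] at h4; exact absurd h4 hy1
      · exact h4
    symm
    apply Subgroup.eq_of_le_of_card_ge
    · intro w hw
      rw [mem_centralizer_singleton_iff]
      obtain ⟨i, rfl⟩ := mem_zpowers_iff.1 hw
      obtain ⟨j, rfl⟩ := mem_zpowers_iff.1 hy
      rw [← zpow_add, ← zpow_add, add_comm]
    · rw [hQ]
      exact hsub _ (hinf y hy3)
  · constructor; constructor
    rintro ⟨a, ha⟩ ⟨b, hb⟩
    rw [mem_bot] at ha hb
    subst ha; subst hb; rfl
  · rw [hQ, Subgroup.card_bot]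
  · rw [sup_bot_eq]
    symm
    apply Subgroup.eq_of_le_of_card_ge le_normalizer
    rw [hQ]
    apply hsub
    rw [Subgroup.eq_bot_iff_forall]
    rintro v ⟨hv1, hv2⟩
    have h3 : v * x * v⁻¹ ∈ zpowers x := ((mem_normalizer_iff.1 hv1) x).1 (mem_zpowers x)
    have h4 : v * x * v⁻¹ * x⁻¹ ∈ zpowers x := mul_mem h3 (inv_mem (mem_zpowers x))
    have h5 : v * x * v⁻¹ * x⁻¹ ∈ (S : Subgroup G) := by
      have : v * x * v⁻¹ * x⁻¹ = v * (x * v⁻¹ * x⁻¹) := by group
      rw [this]
      exact mul_mem hv2 (hn.conj_mem _ (inv_mem hv2) x)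
    have h6 : v * x * v⁻¹ * x⁻¹ = 1 := by
      rw [← orderOf_eq_one_iff]
      have e1 : orderOf (v * x * v⁻¹ * x⁻¹) ∣ 3 := by
        rw [← hx]; exact orderOf_dvd_of_mem_zpowers h4
      have e2 : orderOf (v * x * v⁻¹ * x⁻¹) ∣ 4 := by
        have := _root_.orderOf_dvd_natCard (⟨_, h5⟩ : (S : Subgroup G))
        rwa [Subgroup.orderOf_mk, show Nat.card (S : Subgroup G) = 4 from hS4] at this
      have := Nat.dvd_gcd e1 e2
      norm_num only [_root_.Nat.dvd_one, _root_.orderOf_eq_one_iff] at this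
      exact orderOf_eq_one_iff.2 this
    by_contra hv
    apply hfix x hx v hv2 hv
    calc x * v = (v * x * v⁻¹ * x⁻¹)⁻¹ * (v * x) := by group
      _ = v * x := by rw [h6]; group
  · intro X hX hX1
    rw [le_bot_iff] at hX
    exact absurd hX hX1

/-- the dichotomy -/
theorem Syl.top_or {N : Subgroup G} [hN : N.Normal] (hne : N ≠ ⊥) : N = ⊤ ∨ Concl G := by
  classical
  have hyp := h.toHyp
  have hSN := h.le_of_normal hne
  have hprime : Fact (Nat.Prime 2) := ⟨Nat.prime_two⟩
  have hfr : normalizer ((S : Subgroup G) : Set G) ⊔ N = ⊤ := Sylow.normalizer_sup_eq_top' S hSN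
  rcases h.c_cases with h4 | h2
  · left
    rw [← hfr, eq_comm, sup_eq_right]
    intro g hg
    exact hyp.le_of_normal hne (h.norm_big h4 hg)
  · by_cases hT : N = ⊤
    · exact Or.inl hT
    right
    have hS4 : Nat.card S = 4 := by rw [h.cS, h2]
    have hr := h.relIndex_le h2
    have hodd : ¬ 2 ∣ (S : Subgroup G).relIndex (normalizer ((S : Subgroup G) : Set G)) := by
      intro h3
      exact S.not_dvd_index (h3.trans (relIndex_dvd_index_of_le _root_.Subgroup.le_normalizer))
    have hle1 : (S : Subgroup G) ≤ N ⊓ normalizer ((S : Subgroup G) : Set G) := le_inf hSN _root_.Subgroup.le_normalizer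
    have hmul := relIndex_mul_relIndex _ _ _ hle1 (inf_le_right : N ⊓ normalizer ((S : Subgroup G) : Set G) ≤ _)
    have hne1 : (N ⊓ normalizer ((S : Subgroup G) : Set G)).relIndex (normalizer ((S : Subgroup G) : Set G)) ≠ 1 := by
      intro h3
      rw [relIndex_eq_one] at h3
      apply hT
      rw [← hfr, eq_comm, sup_eq_right]
      exact h3.trans inf_le_left
    set r := (S : Subgroup G).relIndex (normalizer ((S : Subgroup G) : Set G)) with hrdef
    set a := (S : Subgroup G).relIndex (N ⊓ normalizer ((S : Subgroup G) : Set G)) with hadef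
    set b := (N ⊓ normalizer ((S : Subgroup G) : Set G)).relIndex (normalizer ((S : Subgroup G) : Set G)) with hbdef
    have hr0 : r ≠ 0 := index_ne_zero_of_finite
    have hr3 : r = 3 ∧ a = 1 := by
      have hr' : r = 1 ∨ r = 3 := by
        have : r ≠ 2 := by rintro h3; rw [h3] at hodd; exact hodd (dvd_refl 2)
        omega
      have hb : b ∣ r := ⟨a, by rw [← hmul, mul_comm]⟩
      rcases hr' with h3 | h3
      · rw [h3, Nat.dvd_one] at hb; exact absurd hb hne1
      · refine ⟨h3, ?_⟩
        rw [h3] at hb hmul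
        rcases (Nat.dvd_prime Nat.prime_three).1 hb with h5 | h5
        · exact absurd h5 hne1
        · rw [h5] at hmul; omega
    have hNS : N ⊓ normalizer ((S : Subgroup G) : Set G) ≤ (S : Subgroup G) := by
      have := hr3.2
      rw [hadef, relIndex_eq_one] at this
      exact this
    -- Burnside
    let P : Sylow 2 N := S.subtype hSN
    have hP : normalizer ((P : Subgroup N) : Set N) ≤ Subgroup.centralizer ((P : Subgroup N) : Set N) := by
      intro x hx
      have hxS : (x : G) ∈ (S : Subgroup G) := by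
        apply hNS
        refine ⟨x.2, ?_⟩
        show (x : G) ∈ normalizer ((S : Subgroup G) : Set G)
        rw [mem_normalizer_iff] at hx ⊢
        intro y
        constructor
        · intro hy
          exact (hx ⟨y, hSN hy⟩).1 hy
        · intro hy
          have hyN : y ∈ N := by
            have h3 := hN.conj_mem _ (hSN hy) (x : G)⁻¹
            have h5 : (x : G)⁻¹ * ((x : G) * y * (x : G)⁻¹) * ((x : G)⁻¹)⁻¹ = y := by group
            rwa [h5] at h3
          exact (hx ⟨y, hyN⟩).2 hy
      rw [mem_centralizer_iff]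
      intro y hy
      apply Subtype.ext
      exact h.comm h2 (show (y : G) ∈ S from hy) hxS
    have hcompl := MonoidHom.ker_transferSylow_isComplement' P hP
    have hnd := MonoidHom.not_dvd_card_ker_transferSylow P hP
    set Mk := (MonoidHom.transferSylow P hP).ker with hMk
    have hMkodd : Odd (Nat.card Mk) := by
      rw [← Nat.not_even_iff_odd, even_iff_two_dvd]; exact hnd
    have hmemMk : ∀ x : N, Odd (orderOf x) → x ∈ Mk := by
      intro x hx
      rw [hMk, MonoidHom.mem_ker, ← orderOf_eq_one_iff]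
      have e1 : orderOf (MonoidHom.transferSylow P hP x) ∣ orderOf x := orderOf_map_dvd _ _
      obtain ⟨n, hn⟩ := P.isPGroup' (MonoidHom.transferSylow P hP x)
      obtain ⟨k, -, hk⟩ := (Nat.dvd_prime_pow Nat.prime_two).1 (orderOf_dvd_of_pow_eq_one hn)
      have hodd' := Odd.of_dvd_nat hx e1
      rw [hk] at hodd' ⊢
      rcases k with _ | k
      · rfl
      · exfalso
        rw [pow_succ] at hodd'
        exact absurd hodd' (by simp only [_root_.Nat.not_odd_iff_even, _root_.even_two, _root_.Even.mul_left])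
    have hMn : (Mk.map N.subtype).Normal := by
      constructor
      rintro _ ⟨x, hx, rfl⟩ g
      refine ⟨⟨g * x * g⁻¹, hN.conj_mem _ x.2 g⟩, ?_, rfl⟩
      apply hmemMk
      have e1 : orderOf (⟨g * x * g⁻¹, hN.conj_mem _ x.2 g⟩ : N) = orderOf x := by
        rw [Subgroup.orderOf_mk, order_conj, Subgroup.orderOf_coe]
      rw [e1]
      have e2 : orderOf x ∣ Nat.card Mk := by
        have := _root_.orderOf_dvd_natCard (⟨x, hx⟩ : Mk)
        rwa [Subgroup.orderOf_mk] at this
      exact Odd.of_dvd_nat hMkodd e2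
    have hMbot := hyp.odd_normal (N := Mk.map N.subtype) (by
      rw [Subgroup.card_map_of_injective (Subgroup.subtype_injective _)]; exact hMkodd)
    rw [Subgroup.map_eq_bot_iff_of_injective _ (Subgroup.subtype_injective _)] at hMbot
    have hcard := hcompl.card_mul
    rw [hMbot, Subgroup.card_bot, one_mul] at hcard
    have hPc : Nat.card P = Nat.card S := by
      have : Nat.card P = Nat.card ((S : Subgroup G).subgroupOf N) := rfl
      rw [this]
      exact Nat.card_congr (Subgroup.subgroupOfEquivOfLe hSN).toEquiv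
    have hSeq : (S : Subgroup G) = N := by
      apply Subgroup.eq_of_le_of_card_ge hSN
      rw [← hcard]
      exact hPc.le
    have hSn : (S : Subgroup G).Normal := by rw [hSeq]; exact hN
    apply h.concl_of_normal h2 hSn
    have h5 := hr3.1
    rw [hrdef, normalizer_eq_top_iff.2 hSn, relIndex_top_right] at h5
    rw [← (S : Subgroup G).card_mul_index, h5, show Nat.card (S : Subgroup G) = 4 from hS4]

/-- the simple case -/
theorem Syl.concl_of_simple (hs : ∀ N : Subgroup G, N.Normal → N ≠ ⊥ → N = ⊤) : Concl G := by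
  classical
  have hyp := h.toHyp
  have hperf : Group.IsPerfect G := by
    rw [Group.isPerfect_def]
    by_cases hb : commutator G = ⊥
    · exfalso
      have hab : ∀ x y : G, x * y = y * x := by
        intro x y
        have h1 : ⁅x, y⁆ ∈ commutator G := Subgroup.commutator_mem_commutator (mem_top x) (mem_top y)
        rw [hb, mem_bot, commutatorElement_eq_one_iff_mul_comm] at h1
        exact h1
      have hKn : K.Normal := ⟨fun n hn g => by
        rw [hab g n, mul_assoc, mul_inv_cancel, mul_one]; exact hn⟩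
      have hKne : K ≠ ⊥ := by
        intro h1
        have := hyp.tK
        rw [h1, mem_bot] at this
        exact hyp.t1 this
      have := hs K hKn hKne
      exact hyp.sK (by rw [this]; exact mem_top _)
    · exact hs _ inferInstance hb
  have hcore : Cfsg.oddCore G = ⊥ := by
    show sSup _ = ⊥
    rw [sSup_eq_bot]
    rintro N ⟨hN, hco⟩
    have := hN
    apply hyp.odd_normal
    rwa [← Nat.coprime_two_right]
  have e0 : G ⧸ Cfsg.oddCore G ≃* G := by
    refine (QuotientGroup.quotientMulEquivOfEq hcore).trans QuotientGroup.quotientBot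
  have h2c : 2 ≤ orderOf c := by
    rcases h.c_cases with h1 | h1 <;> omega
  rcases Cfsg.Agent.S0483.result S (orderOf c) h2c h.dih with ⟨F, iF, iFt, hodd, -, ⟨e⟩⟩ | he
  · exact (concl F hodd).transport (e.symm.trans e0)
  · exfalso
    obtain ⟨e⟩ := he
    let f : alternatingGroup (Fin 7) ≃* G := e.symm.trans e0
    obtain ⟨v, x, y, hv, hv1, hxv, hx3, hx1, hxy, hyv⟩ := alt_seven
    have hfv : orderOf (f v) = 2 := by
      rw [MulEquiv.orderOf_eq]; exact order_of_mul_self hv hv1
    obtain ⟨g, hg⟩ := hyp.exists_conj hfv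
    have h3 : g⁻¹ * f x * g * t = t * (g⁻¹ * f x * g) := by
      have h4 : f x * f v = f v * f x := by rw [← map_mul, hxv, map_mul]
      rw [hg] at h4
      calc g⁻¹ * f x * g * t = g⁻¹ * (f x * (g * t * g⁻¹)) * g := by group
        _ = g⁻¹ * (g * t * g⁻¹ * f x) * g := by rw [h4]
        _ = t * (g⁻¹ * f x * g) := by group
    have hne : g⁻¹ * f x * g ≠ 1 := by
      intro h4
      apply hx1
      apply f.injective
      rw [map_one]
      calc f x = g * (g⁻¹ * f x * g) * g⁻¹ := by group
        _ = 1 := by rw [h4]; group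
    have hord : Odd (orderOf (g⁻¹ * f x * g)) := by
      have h4 : (g⁻¹ * f x * g) ^ 3 = 1 := by
        have h5 : f x * f x * f x = 1 := by rw [← map_mul, ← map_mul, hx3, map_one]
        calc (g⁻¹ * f x * g) ^ 3 = g⁻¹ * (f x * f x * f x) * g := by
              rw [pow_succ, pow_two]; group
          _ = 1 := by rw [h5]; group
      exact Odd.of_dvd_nat (by decide) (orderOf_dvd_of_pow_eq_one h4)
    have hxK := hyp.odd_mem h3 hord
    have h5 : g⁻¹ * f y * g * (g⁻¹ * f x * g) = (g⁻¹ * f x * g) * (g⁻¹ * f y * g) := by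
      have h6 : f x * f y = f y * f x := by rw [← map_mul, hxy, map_mul]
      calc g⁻¹ * f y * g * (g⁻¹ * f x * g) = g⁻¹ * (f y * f x) * g := by group
        _ = g⁻¹ * (f x * f y) * g := by rw [h6]
        _ = (g⁻¹ * f x * g) * (g⁻¹ * f y * g) := by group
    have h7 := hyp.cent hxK hne h5
    apply hyv
    apply f.injective
    rw [map_mul, map_mul, hg]
    calc f y * (g * t * g⁻¹) = g * (g⁻¹ * f y * g * t) * g⁻¹ := by group
      _ = g * (t * (g⁻¹ * f y * g)) * g⁻¹ := by rw [h7]
      _ = g * t * g⁻¹ * f y := by group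

end

theorem concl_of_hyp {G : Type*} [Group G] [Finite G] {t s : G} {K : Subgroup G} (h : Hyp t s K) :
    Concl G := by
  obtain ⟨c, h1, h2, h3, h4, S, h5, h6, h7⟩ := h.exists_sylow
  have hS : Syl t s K c S := ⟨h, h1, h2, h3, h4, h5, h6, h7⟩
  by_cases hs : ∀ N : Subgroup G, N.Normal → N ≠ ⊥ → N = ⊤
  · exact hS.concl_of_simple hs
  · push Not at hs
    obtain ⟨N, hN, hne, hT⟩ := hs
    exact (hS.top_or hne).resolve_left hT

end Cfsg.Agent.H329.BSW
end

-- part: S3282
section
set_option autoImplicit false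
open Cfsg

namespace Cfsg.Agent.S3282

/-- The abstract form of the Brauer–Suzuki–Wall Theorem. Let G be a finite group with an involution t and an abelian subgroup K of H = C_G(t) containing t, such that H = K⟨s⟩ for an involution s ∉ K with C_K(s) = ⟨t⟩ and s inverting every element of K, K ∩ K^g = 1 for every g outside H, and all involutions of G conjugate. Then G has a subgroup Q, of order q say, with |G| = q(q+1)(q−1)/2, C_G(x) = Q for every non-identity x ∈ Q, N_G(Q) = QD for an abelian subgroup D of order (q−1)/2 meeting Q trivially, and for every nontrivial subgroup X of D, N_G(X) = N_G(D) = D⟨u⟩ for some involution u ∉ D inverting D. -/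
theorem result {G : Type*} [Group G] [Finite G] (t : G) (ht : orderOf t = 2)
    (K : Subgroup G) (hKab : IsMulCommutative ↥K) (hKH : K ≤ Subgroup.centralizer ({t} : Set G)) (htK : t ∈ K)
    (s : G) (hs : orderOf s = 2) (hsH : s ∈ Subgroup.centralizer ({t} : Set G)) (hsK : s ∉ K)
    (hH : K ⊔ Subgroup.zpowers s = Subgroup.centralizer ({t} : Set G)) (hCK : K ⊓ Subgroup.centralizer ({s} : Set G) = Subgroup.zpowers t)
    (hinv : ∀ x ∈ K, s * x * s⁻¹ = x⁻¹)
    (hTI : ∀ g : G, g ∉ Subgroup.centralizer ({t} : Set G) → K ⊓ K.map (MulAut.conj g).toMonoidHom = ⊥)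
    (hconj : ∀ x y : G, orderOf x = 2 → orderOf y = 2 → IsConj x y) :
    ∃ Q D : Subgroup G, 2 * Nat.card G = Nat.card ↥Q * (Nat.card ↥Q + 1) * (Nat.card ↥Q - 1) ∧
      (∀ x ∈ Q, x ≠ 1 → Subgroup.centralizer ({x} : Set G) = Q) ∧
      IsMulCommutative ↥D ∧ 2 * Nat.card ↥D + 1 = Nat.card ↥Q ∧ Q ⊓ D = ⊥ ∧
      Subgroup.normalizer (Q : Set G) = Q ⊔ D ∧
      ∀ X : Subgroup G, X ≤ D → X ≠ ⊥ →
        Subgroup.normalizer (X : Set G) = Subgroup.normalizer (D : Set G) ∧
        ∃ u : G, orderOf u = 2 ∧ u ∉ D ∧ (∀ d ∈ D, u * d * u⁻¹ = d⁻¹) ∧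
          Subgroup.normalizer (D : Set G) = D ⊔ Subgroup.zpowers u := by
  exact Cfsg.Agent.H329.BSW.concl_of_hyp
    (Cfsg.Agent.H329.BSW.hyp_of t ht K hKab hKH htK s hs hsH hsK hH hCK hinv hTI hconj)

end Cfsg.Agent.S3282
end

private theorem dce_5bfa4de75200 : _root_.True := by
  try have : _root_.True := by simp only [_root_.Cfsg.Agent.H329.PSLTwo.uQ.eq_1]
  exact _root_.True.intro
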