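import Cfsg.Statements.S3287
import Cfsg.Agent.S0483
import Cfsg.Agent.S0111
import Cfsg.Agent.S0253
import Cfsg.Agent.S0255
import Cfsg.Agent.S1313
import Cfsg.Agent.LFourB.KSL
import Cfsg.Agent.Lib.Cores
import Cfsg.Agent.FastGrp
import Cfsg.Agent.Prune
set_option linter.all false
open scoped Cfsg.Agent.FastGrp

set_option autoImplicit false
open Cfsg

namespace Cfsg.Agent.S3287

theorem fitting_eq_bot {X : Type*} [Group X] [IsSimpleGroup X] (hna : ¬ IsMulCommutative X) :
    fittingSubgroup X = ⊥ := by
  rw [fittingSubgroup, sSup_eq_bot]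
  rintro N ⟨hN, hnil⟩
  rcases hN.eq_bot_or_eq_top with h | h
  · exact h
  · exfalso
    have h1 : Group.IsNilpotent X := by
      rw [h] at hnil
      exact Group.nilpotent_of_surjective (Subgroup.topEquiv (G := X)).toMonoidHom Subgroup.topEquiv.surjective
    have h2 : Group.IsSolvable X := inferInstance
    have h3 := (IsSimpleGroup.comm_iff_isSolvable (G := X)).mpr h2
    exact hna ⟨⟨h3⟩⟩

theorem false_of_top {G : Type*} [Group G] [Finite G] [IsSimpleGroup G] (hna : ¬ IsMulCommutative G)
    (K : Subgroup G) (hK : Cfsg.generalizedFittingSubgroup ↥K = Cfsg.fittingSubgroup ↥K) (htop : K = ⊤) :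
    False := by
  subst htop
  have e : ↥(⊤ : Subgroup G) ≃* G := Subgroup.topEquiv
  have hs : IsSimpleGroup ↥(⊤ : Subgroup G) := by
    have : Nontrivial ↥(⊤ : Subgroup G) := e.symm.injective.nontrivial
    exact MulEquiv.isSimpleGroup e
  have hna' : ¬ IsMulCommutative ↥(⊤ : Subgroup G) := by
    intro h
    apply hna
    refine ⟨⟨fun a b => ?_⟩⟩
    apply e.symm.injective
    rw [map_mul, map_mul]
    exact h.is_comm.comm _ _
  rw [fitting_eq_bot hna'] at hK
  have h1 := S1313.centralizer_le ↥(⊤ : Subgroup G)
  rw [hK] at h1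
  apply hna'
  refine ⟨⟨fun a b => ?_⟩⟩
  have h2 : ∀ x : ↥(⊤ : Subgroup G), x = 1 := by
    intro x
    have : x ∈ (⊥ : Subgroup ↥(⊤ : Subgroup G)) := by
      apply h1
      rw [Subgroup.mem_centralizer_iff]
      intro y hy
      have hy1 : y = 1 := hy
      rw [hy1, one_mul, mul_one]
    exact this
  rw [h2 a, h2 b]

/-- Let G be a finite simple group whose Sylow 2-subgroups are dihedral, and suppose the centralizer of some involution of G is properly contained in a subgroup whose generalized Fitting subgroup equals its Fitting subgroup (a subgroup without components). Then G is isomorphic to the alternating group of degree 5 or 7, to PSL(3, 2), or to PSL(2, 9). -/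
theorem result {G : Type*} [Group G] [Finite G] [IsSimpleGroup G] (S : Sylow 2 G) (m : ℕ) (eS : ↥(S : Subgroup G) ≃* DihedralGroup m)
    (t : G) (ht : orderOf t = 2) (K : Subgroup G) (hlt : Subgroup.centralizer ({t} : Set G) < K)
    (hK : Cfsg.generalizedFittingSubgroup ↥K = Cfsg.fittingSubgroup ↥K) :
    Nonempty (G ≃* ↥(alternatingGroup (Fin 5))) ∨ Nonempty (G ≃* ↥(alternatingGroup (Fin 7))) ∨
      (∃ (F : Type) (_ : Field F) (_ : Fintype F), Fintype.card F = 2 ∧ Nonempty (G ≃* Matrix.ProjectiveSpecialLinearGroup (Fin 3) F)) ∨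
      (∃ (F : Type) (_ : Field F) (_ : Fintype F), Fintype.card F = 9 ∧ Nonempty (G ≃* Matrix.ProjectiveSpecialLinearGroup (Fin 2) F)) := by
  classical
  have hfact : Fact (Nat.Prime 2) := ⟨Nat.prime_two⟩
  have ht1 : t ≠ 1 := by
    intro h
    rw [h, orderOf_one] at ht
    exact absurd ht (by norm_num)
  have htt : t * t = 1 := by rw [← pow_two, ← ht, pow_orderOf_eq_one]
  -- `G` is not commutative
  have hna : ¬ IsMulCommutative G := by
    intro h
    apply lt_irrefl (Subgroup.centralizer ({t} : Set G))
    have htop : Subgroup.centralizer ({t} : Set G) = ⊤ := by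
      rw [Subgroup.eq_top_iff']
      intro x
      rw [Subgroup.mem_centralizer_singleton_iff]
      exact h.is_comm.comm _ _
    rw [htop] at hlt
    exact absurd hlt not_top_lt
  have hdvd : 2 ∣ Nat.card G := by rw [← ht]; exact orderOf_dvd_natCard t
  -- `m ≥ 2`
  have hm : 2 ≤ m := by
    by_contra hlt'
    have hcS : Nat.card S = 2 * m := by
      rw [Nat.card_congr eS.toEquiv, DihedralGroup.nat_card]
    have hm1 : m = 1 := by
      have h0 : m ≠ 0 := by
        rintro rfl
        have : Nat.card S ≠ 0 := Nat.card_pos.ne'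
        omega
      omega
    subst hm1
    obtain ⟨u, hu⟩ := exists_prime_orderOf_dvd_card' (G := S) 2 (by rw [hcS])
    have hu' : orderOf (u : G) = 2 := by rw [Subgroup.orderOf_coe, hu]
    have hu1 : (u : G) ≠ 1 := by
      intro h
      rw [h, orderOf_one] at hu'
      exact absurd hu' (by norm_num)
    have hrel : (⊥ : Subgroup G).relIndex (S : Subgroup G) = 2 := by
      rw [Subgroup.relIndex_bot_left, hcS]
    rcases S0111.result S ⊥ bot_le hrel (u : G) hu' u.2 (by rw [Subgroup.mem_bot]; exact hu1) with h | h
    · obtain ⟨M, hM, hi, -⟩ := h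
      rcases hM.eq_bot_or_eq_top with h | h
      · rw [h, Subgroup.index_bot] at hi
        apply hna
        have hcyc : IsCyclic G := isCyclic_of_prime_card hi
        exact IsCyclic.isMulCommutative
      · rw [h, Subgroup.index_top] at hi
        exact absurd hi (by norm_num)
    · obtain ⟨g, hg⟩ := h
      rw [Subgroup.mem_bot, conj_eq_one_iff] at hg
      exact hu1 hg
  have hperf : Group.IsPerfect G := by
    have h1 : (commutator G).Normal := inferInstance
    rcases h1.eq_bot_or_eq_top with h | h
    · exfalso
      apply hna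
      refine ⟨⟨fun a b => ?_⟩⟩
      have h2 : a * b * a⁻¹ * b⁻¹ ∈ commutator G := by
        rw [commutator_def]
        exact Subgroup.commutator_mem_commutator (Subgroup.mem_top a) (Subgroup.mem_top b)
      rw [h, Subgroup.mem_bot] at h2
      calc a * b = (a * b * a⁻¹ * b⁻¹) * (b * a) := by group
        _ = b * a := by rw [h2, one_mul]
    · exact ⟨h⟩
  have hcore : oddCore G = ⊥ := by
    have h1 : (oddCore G).Normal := by infer_instance
    rcases h1.eq_bot_or_eq_top with h | h
    · exact h
    · exfalso
      have h2 := (Lib.Cores.pPrimeCore_eq_top_iff (G := G) 2).mp h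
      rw [Nat.coprime_comm, Nat.Prime.coprime_iff_not_dvd Nat.prime_two] at h2
      exact h2 hdvd
  let q : G ⧸ oddCore G ≃* G := (QuotientGroup.quotientMulEquivOfEq hcore).trans QuotientGroup.quotientBot
  rcases S0483.result S m hm ⟨eS⟩ with ⟨F, _, _, hodd, h3, ⟨e⟩⟩ | he
  · have e' : G ≃* Matrix.ProjectiveSpecialLinearGroup (Fin 2) F := q.symm.trans e
    by_cases h11 : 11 ≤ Fintype.card F
    · exfalso
      have h2 : (2 : F) ≠ 0 := ClassicalGeometry.PSL2Basic.two_ne_zero_iff_odd F |>.2 hodd
      have hc := LFourB.KSL.isCoatom_centralizer (F := F) h2 h11 (t := e' t)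
        (fun h => ht1 (e'.injective (by rw [h, map_one]))) (by rw [← map_mul, htt, map_one])
      have hc' : IsCoatom (Subgroup.centralizer ({t} : Set G)) := by
        have h4 := (OrderIso.isCoatom_iff (MulEquiv.mapSubgroup e') (Subgroup.centralizer ({t} : Set G)))
        apply h4.mp
        have h5 : (MulEquiv.mapSubgroup e') (Subgroup.centralizer ({t} : Set G)) =
            Subgroup.centralizer ({e' t} : Set (Matrix.ProjectiveSpecialLinearGroup (Fin 2) F)) := by
          ext x
          rw [MulEquiv.coe_mapSubgroup, Subgroup.mem_map]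
          constructor
          · rintro ⟨y, hy, rfl⟩
            rw [Subgroup.mem_centralizer_singleton_iff] at hy ⊢
            show e' y * e' t = e' t * e' y
            rw [← map_mul, hy, map_mul]
          · intro hx
            rw [Subgroup.mem_centralizer_singleton_iff] at hx
            refine ⟨e'.symm x, ?_, e'.apply_symm_apply x⟩
            rw [Subgroup.mem_centralizer_singleton_iff]
            apply e'.injective
            rw [map_mul, map_mul, e'.apply_symm_apply, hx]
        rw [h5]
        exact hc
      exact false_of_top hna K hK (hc'.2 K hlt)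
    · have hp : IsPrimePow (Fintype.card F) := FiniteField.isPrimePow_card F
      have h5 : Fintype.card F = 5 ∨ Fintype.card F = 7 ∨ Fintype.card F = 9 := by
        have hlt : Fintype.card F < 11 := by omega
        rw [Nat.odd_iff] at hodd
        omega
      rcases h5 with h5 | h5 | h5
      · left
        obtain ⟨e5⟩ := S0253.result h5
        exact ⟨e'.trans e5⟩
      · right; right; left
        refine ⟨ZMod 2, inferInstance, inferInstance, by rw [ZMod.card], ?_⟩
        obtain ⟨e7⟩ := S0255.result (K := ZMod 2) h5 (ZMod.card 2)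
        exact ⟨e'.trans e7⟩
      · right; right; right
        exact ⟨F, inferInstance, inferInstance, h5, ⟨e'⟩⟩
  · obtain ⟨e⟩ := he
    right; left
    exact ⟨q.symm.trans e⟩

end Cfsg.Agent.S3287
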