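import Mathlib
import Cfsg.Agent.LargeExtra.TransferPow
import Cfsg.Agent.LargeExtra.Transfer
import Cfsg.Agent.Lib.ListFast
import Cfsg.Agent.MTwelveType.SylowModel
import Cfsg.Statements.S3296
import Cfsg.Agent.S1741
import Cfsg.Agent.FastGrp
import Cfsg.Agent.Prune
set_option linter.all false

section
prune_inst 0x7f00000000000000000000000000000000000000000000000000000000000000000000000000000000000000000000000000000000000000000000000000000000000000000000000000000000000000003fffffffffffffffffffffffffffbeffbdffffffff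

-- part: H333/Elim64
section
set_option linter.all false
open scoped Cfsg.Agent.FastGrp

-- part: H333/Mod64
section
/-!
# The groups of order 64 with a normal `M₁₆` and `P / ⟨f²⟩ = Aut M₁₆` (helper333)

`Rel f b x y s t i`: relations; `nf p = f ^ a * b ^ c * x ^ d * y ^ e` for the code `p = a + 8 c + 16 d + 32 e`;
`mulN s t i` is the multiplication of codes.
-/

set_option autoImplicit false

namespace Cfsg.Agent.H333.Mod64

/-- multiplication of codes `a + 8 c + 16 d + 32 e` -/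
def mulN (s t i p q : ℕ) : ℕ :=
  (p % 8 + (q % 8 + (p / 32 % 2) * (2 * (q % 8) - 2 * (q % 2))) * (1 + 6 * (p / 16 % 2)) * (1 + 4 * (p / 8 % 2))
    + 2 * i * (p / 32 % 2) * (q / 16 % 2) * (1 + 6 * (p / 16 % 2)) * (1 + 4 * (p / 8 % 2 + (p / 32 % 2) * (q % 2) + q / 8 % 2))
    + 4 * s * (p / 16 % 2) * (q / 16 % 2) + 4 * t * (p / 32 % 2) * (q / 32 % 2)) % 8
  + 8 * ((p / 8 % 2 + (p / 32 % 2) * (q % 2) + q / 8 % 2 + (p / 32 % 2) * (q / 16 % 2)) % 2)
  + 16 * ((p / 16 % 2 + q / 16 % 2) % 2)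
  + 32 * ((p / 32 % 2 + q / 32 % 2) % 2)

variable {G : Type*} [Group G]

/-- the relations -/
structure Rel (f b x y : G) (s t i : ℕ) : Prop where
  f8 : f ^ 8 = 1
  bb : b * b = 1
  bf : b * f = f ^ 5 * b
  xf : x * f = f ^ 7 * x
  xb : x * b = b * x
  yf : y * f = f * b * y
  yb : y * b = b * y
  xx : x * x = f ^ (4 * s)
  yy : y * y = f ^ (4 * t)
  yx : y * x = f ^ (2 * i) * b * x * y

/-- the element with the given code -/
def nf (f b x y : G) (p : ℕ) : G := f ^ (p % 8) * b ^ (p / 8 % 2) * x ^ (p / 16 % 2) * y ^ (p / 32 % 2)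

section
variable {f b x y : G} {s t i : ℕ} (h : Rel f b x y s t i)
include h

theorem fmod (n : ℕ) : f ^ n = f ^ (n % 8) := pow_eq_pow_mod n h.f8

theorem bmod (n : ℕ) : b ^ n = b ^ (n % 2) := pow_eq_pow_mod n (by rw [pow_two]; exact h.bb)

theorem b_pow (n : ℕ) : b * f ^ n = f ^ (5 * n) * b := by
  induction n with
  | zero => simp
  | succ n ih => rw [pow_succ, ← mul_assoc, ih, mul_assoc, h.bf, ← mul_assoc, ← pow_add]; congr 2

theorem x_pow (n : ℕ) : x * f ^ n = f ^ (7 * n) * x := by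
  induction n with
  | zero => simp
  | succ n ih => rw [pow_succ, ← mul_assoc, ih, mul_assoc, h.xf, ← mul_assoc, ← pow_add]; congr 2

theorem y_pow_two (n : ℕ) : y * f ^ (2 * n) = f ^ (6 * n) * y := by
  induction n with
  | zero => simp
  | succ n ih =>
    have e : y * (f * f) = f ^ 6 * y := by
      calc y * (f * f) = (y * f) * f := by rw [mul_assoc]
        _ = f * b * y * f := by rw [h.yf]
        _ = f * b * (y * f) := by simp only [mul_assoc]
        _ = f * b * (f * b * y) := by rw [h.yf]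
        _ = f * (b * f) * b * y := by simp only [mul_assoc]
        _ = f * (f ^ 5 * b) * b * y := by rw [h.bf]
        _ = f ^ 6 * (b * b) * y := by rw [pow_succ' f 5]; simp only [mul_assoc]
        _ = _ := by rw [h.bb, mul_one]
    calc y * f ^ (2 * (n + 1)) = (y * f ^ (2 * n)) * (f * f) := by rw [mul_add, pow_add]; group
      _ = f ^ (6 * n) * (y * (f * f)) := by rw [ih]; group
      _ = f ^ (6 * (n + 1)) * y := by rw [e, mul_add, pow_add]; group

/-- `y ^ e * (f ^ n * b ^ m)` -/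
theorem ly (e n m : ℕ) (he : e = 0 ∨ e = 1) :
    y ^ e * (f ^ n * b ^ m) = f ^ (n + e * (2 * n - 2 * (n % 2))) * b ^ (e * (n % 2) + m) * y ^ e := by
  have hyb : ∀ m : ℕ, y * b ^ m = b ^ m * y := fun m => by
    have : Commute y b := h.yb
    exact (this.pow_right m)
  rcases he with rfl | rfl
  · simp only [_root_.pow_zero, _root_.one_mul, _root_.MulZeroClass.zero_mul, _root_.add_zero, _root_.zero_add, _root_.mul_one]
  · simp only [pow_one, one_mul]
    rcases Nat.even_or_odd' n with ⟨k, rfl | rfl⟩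
    · have e1 : 2 * k % 2 = 0 := by omega
      rw [e1]
      have e2 : 2 * k + (2 * (2 * k) - 2 * 0) = 6 * k := by omega
      rw [e2, zero_add, ← mul_assoc, y_pow_two h, mul_assoc, hyb, ← mul_assoc]
    · have e1 : (2 * k + 1) % 2 = 1 := by omega
      rw [e1]
      have e2 : 2 * k + 1 + (2 * (2 * k + 1) - 2 * 1) = 6 * k + 1 := by omega
      rw [e2, pow_succ, pow_succ]
      calc y * (f ^ (2 * k) * f * b ^ m) = (y * f ^ (2 * k)) * f * b ^ m := by group
        _ = f ^ (6 * k) * (y * f) * b ^ m := by rw [y_pow_two h]; group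
        _ = f ^ (6 * k) * f * b * (y * b ^ m) := by rw [h.yf]; group
        _ = _ := by rw [hyb, pow_add, pow_one]; group

theorem lx (d n m : ℕ) (hd : d = 0 ∨ d = 1) :
    x ^ d * (f ^ n * b ^ m) = f ^ (n * (1 + 6 * d)) * b ^ m * x ^ d := by
  have hxb : ∀ m : ℕ, x * b ^ m = b ^ m * x := fun m => by
    have : Commute x b := h.xb
    exact (this.pow_right m)
  rcases hd with rfl | rfl
  · simp
  · rw [pow_one, ← mul_assoc, x_pow h, mul_assoc, hxb, ← mul_assoc]
    congr 3
    ring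

theorem lb (a c n m : ℕ) (hc : c % 2 = 0 ∨ c % 2 = 1) :
    f ^ a * b ^ c * (f ^ n * b ^ m) = f ^ (a + n * (1 + 4 * (c % 2))) * b ^ (c + m) := by
  have hb1 : b ^ c * f ^ n = f ^ (n * (1 + 4 * (c % 2))) * b ^ c := by
    rw [bmod h c]
    rcases hc with hc | hc
    · rw [hc]; simp
    · rw [hc, pow_one, b_pow h]
      congr 2
      ring
  calc f ^ a * b ^ c * (f ^ n * b ^ m) = f ^ a * (b ^ c * f ^ n) * b ^ m := by group
    _ = _ := by rw [hb1, pow_add, pow_add]; group

theorem lyx (e d : ℕ) (he : e = 0 ∨ e = 1) (hd : d = 0 ∨ d = 1) :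
    y ^ e * x ^ d = f ^ (2 * i * e * d) * b ^ (e * d) * x ^ d * y ^ e := by
  rcases he with rfl | rfl <;> rcases hd with rfl | rfl <;> simp [h.yx]

theorem lxx (d d' : ℕ) (hd : d = 0 ∨ d = 1) (hd' : d' = 0 ∨ d' = 1) :
    x ^ d * x ^ d' = f ^ (4 * s * d * d') * x ^ ((d + d') % 2) := by
  rcases hd with rfl | rfl <;> rcases hd' with rfl | rfl <;> simp [h.xx]

theorem lyy (e e' : ℕ) (he : e = 0 ∨ e = 1) (he' : e' = 0 ∨ e' = 1) :
    y ^ e * y ^ e' = f ^ (4 * t * e * e') * y ^ ((e + e') % 2) := by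
  rcases he with rfl | rfl <;> rcases he' with rfl | rfl <;> simp [h.yy]

/-- `f ^ 4` is central -/
theorem x_four (d n : ℕ) : x ^ d * f ^ (4 * n) = f ^ (4 * n) * x ^ d := by
  have h1 : Commute x (f ^ (4 * n)) := by
    show x * f ^ (4 * n) = f ^ (4 * n) * x
    rw [x_pow h, fmod h, fmod h (4 * n)]
    congr 2
    (solve | lia | omega)
  exact h1.pow_left d

theorem b_four (d n : ℕ) : b ^ d * f ^ (4 * n) = f ^ (4 * n) * b ^ d := by
  have h1 : Commute b (f ^ (4 * n)) := by
    show b * f ^ (4 * n) = f ^ (4 * n) * b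
    rw [b_pow h, fmod h, fmod h (4 * n)]
    congr 2
    (solve | lia | omega)
  exact h1.pow_left d

/-- the product of two normal forms, generic form -/
theorem core {a c d e a' c' d' e' A1 A2 c3 : ℕ} (hcb : c = 0 ∨ c = 1) (hdb : d = 0 ∨ d = 1) (heb : e = 0 ∨ e = 1)
    (hdb' : d' = 0 ∨ d' = 1) (heb' : e' = 0 ∨ e' = 1)
    (hA1 : A1 = a' + e * (2 * a' - 2 * (a' % 2))) (hA2 : A2 = A1 * (1 + 6 * d))
    (hc3 : c3 = c + (e * (a' % 2) + c')) :
    f ^ a * b ^ c * x ^ d * y ^ e * (f ^ a' * b ^ c' * x ^ d' * y ^ e') =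
      f ^ (a + A2 * (1 + 4 * c) + 2 * i * e * d' * (1 + 6 * d) * (1 + 4 * c3) + 4 * s * d * d' + 4 * t * e * e') *
        b ^ (c3 + e * d') * x ^ ((d + d') % 2) * y ^ ((e + e') % 2) := by
  have hcm : c % 2 = c := by (clear * - hcb; omega)
  have s1 : f ^ a * b ^ c * x ^ d * y ^ e * (f ^ a' * b ^ c' * x ^ d' * y ^ e') =
      f ^ (a + A2 * (1 + 4 * c)) * b ^ c3 * x ^ d * (y ^ e * x ^ d') * y ^ e' := by
    have t1 := ly h e a' c' heb
    rw [← hA1] at t1
    have t2 := lx h d A1 (e * (a' % 2) + c') hdb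
    rw [← hA2] at t2
    have t3 := lb h a c A2 (e * (a' % 2) + c') (by omega)
    rw [hcm, ← hc3] at t3
    calc f ^ a * b ^ c * x ^ d * y ^ e * (f ^ a' * b ^ c' * x ^ d' * y ^ e')
        = f ^ a * b ^ c * x ^ d * (y ^ e * (f ^ a' * b ^ c')) * x ^ d' * y ^ e' := by simp only [mul_assoc]
      _ = f ^ a * b ^ c * (x ^ d * (f ^ A1 * b ^ (e * (a' % 2) + c'))) * y ^ e * x ^ d' * y ^ e' := by
          rw [t1]; simp only [mul_assoc]
      _ = (f ^ a * b ^ c * (f ^ A2 * b ^ (e * (a' % 2) + c'))) * x ^ d * y ^ e * x ^ d' * y ^ e' := by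
          rw [t2]; simp only [mul_assoc]
      _ = _ := by
          rw [t3]; simp only [mul_assoc]
  rw [s1]
  have s2 : f ^ (a + A2 * (1 + 4 * c)) * b ^ c3 * x ^ d * (y ^ e * x ^ d') * y ^ e' =
      f ^ (a + A2 * (1 + 4 * c) + 2 * i * e * d' * (1 + 6 * d) * (1 + 4 * c3)) * b ^ (c3 + e * d') *
        (x ^ d * x ^ d') * (y ^ e * y ^ e') := by
    have hmod : f ^ (a + A2 * (1 + 4 * c) + 2 * i * e * d' * (1 + 6 * d) * (1 + 4 * c3)) =
        f ^ (a + A2 * (1 + 4 * c) + 2 * i * e * d' * (1 + 6 * d) * (1 + 4 * (c3 % 2))) := by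
      rw [fmod h, fmod h (a + A2 * (1 + 4 * c) + 2 * i * e * d' * (1 + 6 * d) * (1 + 4 * (c3 % 2)))]
      congr 1
      have e1 : 2 * i * e * d' * (1 + 6 * d) * (1 + 4 * c3) = 2 * i * e * d' * (1 + 6 * d) + 8 * (i * e * d' * (1 + 6 * d) * c3) := by ring
      have e2 : 2 * i * e * d' * (1 + 6 * d) * (1 + 4 * (c3 % 2)) = 2 * i * e * d' * (1 + 6 * d) + 8 * (i * e * d' * (1 + 6 * d) * (c3 % 2)) := by ring
      rw [e1, e2]
      (clear * -; omega)
    rw [hmod]
    have t1 := lyx h e d' heb hdb'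
    have t2 := lx h d (2 * i * e * d') (e * d') hdb
    have t3 := lb h (a + A2 * (1 + 4 * c)) c3 (2 * i * e * d' * (1 + 6 * d)) (e * d') (by omega)
    calc f ^ (a + A2 * (1 + 4 * c)) * b ^ c3 * x ^ d * (y ^ e * x ^ d') * y ^ e'
        = f ^ (a + A2 * (1 + 4 * c)) * b ^ c3 * (x ^ d * (f ^ (2 * i * e * d') * b ^ (e * d'))) * x ^ d' * (y ^ e * y ^ e') := by
          rw [t1]; simp only [mul_assoc]
      _ = (f ^ (a + A2 * (1 + 4 * c)) * b ^ c3 * (f ^ (2 * i * e * d' * (1 + 6 * d)) * b ^ (e * d'))) * x ^ d * x ^ d' * (y ^ e * y ^ e') := by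
          rw [t2]; simp only [mul_assoc]
      _ = _ := by
          rw [t3]; simp only [mul_assoc]
  rw [s2, lxx h d d' hdb hdb', lyy h e e' heb heb']
  have hx4 := x_four h ((d + d') % 2) (t * e * e')
  have hb4 := b_four h (c3 + e * d') (s * d * d')
  have hb4' := b_four h (c3 + e * d') (t * e * e')
  have r1 : 4 * (t * e * e') = 4 * t * e * e' := by ring
  have r2 : 4 * (s * d * d') = 4 * s * d * d' := by ring
  rw [r1] at hx4 hb4'
  rw [r2] at hb4
  generalize a + A2 * (1 + 4 * c) + 2 * i * e * d' * (1 + 6 * d) * (1 + 4 * c3) = F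
  calc f ^ F * b ^ (c3 + e * d') * (f ^ (4 * s * d * d') * x ^ ((d + d') % 2)) *
        (f ^ (4 * t * e * e') * y ^ ((e + e') % 2))
      = f ^ F * (b ^ (c3 + e * d') * f ^ (4 * s * d * d')) * (x ^ ((d + d') % 2) * f ^ (4 * t * e * e')) *
        y ^ ((e + e') % 2) := by simp only [mul_assoc]
    _ = f ^ F * f ^ (4 * s * d * d') * (b ^ (c3 + e * d') * f ^ (4 * t * e * e')) * x ^ ((d + d') % 2) *
        y ^ ((e + e') % 2) := by rw [hx4, hb4]; simp only [mul_assoc]
    _ = _ := by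
        rw [hb4', pow_add f (F + 4 * s * d * d'), pow_add f F]; simp only [mul_assoc]

theorem nf_mul (p q : ℕ) : nf f b x y p * nf f b x y q = nf f b x y (mulN s t i p q) := by
  have dec1 : mulN s t i p q % 8 = (p % 8 + (q % 8 + (p / 32 % 2) * (2 * (q % 8) - 2 * (q % 2))) * (1 + 6 * (p / 16 % 2)) * (1 + 4 * (p / 8 % 2))
    + 2 * i * (p / 32 % 2) * (q / 16 % 2) * (1 + 6 * (p / 16 % 2)) * (1 + 4 * (p / 8 % 2 + (p / 32 % 2) * (q % 2) + q / 8 % 2))
    + 4 * s * (p / 16 % 2) * (q / 16 % 2) + 4 * t * (p / 32 % 2) * (q / 32 % 2)) % 8 := by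
    unfold mulN; omega
  have dec2 : mulN s t i p q / 8 % 2 = (p / 8 % 2 + (p / 32 % 2) * (q % 2) + q / 8 % 2 + (p / 32 % 2) * (q / 16 % 2)) % 2 := by
    unfold mulN; (solve | lia | omega)
  have dec3 : mulN s t i p q / 16 % 2 = (p / 16 % 2 + q / 16 % 2) % 2 := by
    unfold mulN; (solve | lia | omega)
  have dec4 : mulN s t i p q / 32 % 2 = (p / 32 % 2 + q / 32 % 2) % 2 := by
    unfold mulN; (solve | lia | omega)
  have hq2 : q % 8 % 2 = q % 2 := by (clear * -; omega)
  have hc := core h (a := p % 8) (c := p / 8 % 2) (d := p / 16 % 2) (e := p / 32 % 2) (a' := q % 8)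
    (c' := q / 8 % 2) (d' := q / 16 % 2) (e' := q / 32 % 2) (by (clear * -; omega)) (by (clear * -; omega)) (by (clear * -; omega)) (by (clear * -; omega)) (by (clear * -; omega))
    rfl rfl rfl
  unfold nf
  rw [dec1, dec2, dec3, dec4, hc, ← pow_eq_pow_mod _ h.f8, ← pow_eq_pow_mod _ (by rw [pow_two]; exact h.bb : b ^ 2 = 1),
    hq2, ← add_assoc]

end

end Cfsg.Agent.H333.Mod64
end

-- part: H333/Chk64
section
/-!
# Kernel computations in the groups of order 64 of `Mod64` (helper333)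
-/

set_option autoImplicit false
set_option maxRecDepth 100000

namespace Cfsg.Agent.H333.Chk64

open Cfsg.Agent.H333.Mod64

/-- `n` centralises or inverts `m` -/
def ciN (s t i m n : ℕ) : Bool :=
  Nat.beq (mulN s t i n m) (mulN s t i m n) || Nat.beq (mulN s t i (mulN s t i m n) m) n

/-- number of elements centralising or inverting `m` -/
def cnt (s t i m : ℕ) : ℕ := ((List.range 64).filter (fun n => ciN s t i m n)).length

/-- square -/
def sq (s t i m : ℕ) : ℕ := mulN s t i m m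

/-- the parity with kernel `C₀`: `i = 1`: the exponent of `y`; `i = 0`: `a + d` -/
def par (i m : ℕ) : Bool := cond (Nat.beq i 1) (Nat.beq (m / 32 % 2) 1) (Nat.beq ((m + m / 16) % 2) 1)

/-- the parity is a homomorphism -/
def chkPar (s t i : ℕ) : Bool := (List.range 64).all fun m => (List.range 64).all fun n =>
  cond (par i (mulN s t i m n)) (xor (par i m) (par i n)) (!(xor (par i m) (par i n)))

/-- conditions on the element of order 8 and on the elements of orders 8, 4, 2 -/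
def chkA (s t i u : ℕ) : Bool :=
  (!(Nat.beq (sq s t i (sq s t i u)) 0)) && Nat.beq (sq s t i (sq s t i (sq s t i u))) 0 &&
  ((List.range 64).all fun n => ciN s t i (sq s t i u) n && ciN s t i (sq s t i (sq s t i u)) n) &&
  ((List.range 64).all fun m =>
    (par i m || Nat.beq (sq s t i (sq s t i m)) 0 || Nat.blt (cnt s t i m) (cnt s t i u)) &&
    (!(par i m) || Nat.beq (sq s t i m) 0 || !(Nat.beq (sq s t i (sq s t i m)) 0) ||
      Nat.ble (cnt s t i m) 16) &&
    (!(par i m) || !(Nat.beq (sq s t i m) 0) || Nat.ble (cnt s t i m) 8))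

private noncomputable def _root_.Cfsg.Agent.LsF.f57cc9f_0 : {f // @Cfsg.Agent.H333.Chk64.par = f} := ⟨_, by first | (delta Cfsg.Agent.H333.Chk64.par; rewrite [Cfsg.Agent.LsF.nadd_pat, Cfsg.Agent.LsF.ndiv_pat, Cfsg.Agent.LsF.nmod_pat, Cfsg.Agent.LsF.cond_eq]; exact rfl) | exact rfl⟩
private noncomputable def _root_.Cfsg.Agent.LsF.f57cc9f_1 : {f // @Cfsg.Agent.H333.Mod64.mulN = f} := ⟨_, by first | (delta Cfsg.Agent.H333.Mod64.mulN; rewrite [Cfsg.Agent.LsF.nadd_pat, Cfsg.Agent.LsF.nmul_pat, Cfsg.Agent.LsF.nsub_pat, Cfsg.Agent.LsF.ndiv_pat, Cfsg.Agent.LsF.nmod_pat]; exact rfl) | exact rfl⟩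
private noncomputable def _root_.Cfsg.Agent.LsF.f57cc9f_2 : {f // @Cfsg.Agent.H333.Chk64.chkPar = f} := ⟨_, by first | (delta Cfsg.Agent.H333.Chk64.chkPar; rewrite [Cfsg.Agent.LsF.f57cc9f_0.2, Cfsg.Agent.LsF.f57cc9f_1.2, Cfsg.Agent.LsF.not_eq, Cfsg.Agent.LsF.cond_eq, Cfsg.Agent.LsF.all_eq, Cfsg.Agent.LsF.range_eq, Cfsg.Agent.LsF.bxor_eq]; exact rfl) | exact rfl⟩
theorem par_001 : chkPar 0 0 1 = true := by ((try (rewrite [Cfsg.Agent.LsF.f57cc9f_2.2])); decide +kernel)
theorem par_011 : chkPar 0 1 1 = true := by ((try (rewrite [Cfsg.Agent.LsF.f57cc9f_2.2])); decide +kernel)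
theorem par_101 : chkPar 1 0 1 = true := by ((try (rewrite [Cfsg.Agent.LsF.f57cc9f_2.2])); decide +kernel)
theorem par_111 : chkPar 1 1 1 = true := by ((try (rewrite [Cfsg.Agent.LsF.f57cc9f_2.2])); decide +kernel)
theorem par_010 : chkPar 0 1 0 = true := by ((try (rewrite [Cfsg.Agent.LsF.f57cc9f_2.2])); decide +kernel)
theorem par_100 : chkPar 1 0 0 = true := by ((try (rewrite [Cfsg.Agent.LsF.f57cc9f_2.2])); decide +kernel)
theorem par_110 : chkPar 1 1 0 = true := by ((try (rewrite [Cfsg.Agent.LsF.f57cc9f_2.2])); decide +kernel)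

private noncomputable def _root_.Cfsg.Agent.LsF.f57cc9f_3 : {f // @Cfsg.Agent.H333.Chk64.sq = f} := ⟨_, by first | (delta Cfsg.Agent.H333.Chk64.sq; rewrite [Cfsg.Agent.LsF.f57cc9f_1.2]; exact rfl) | exact rfl⟩
private noncomputable def _root_.Cfsg.Agent.LsF.f57cc9f_4 : {f // @Cfsg.Agent.H333.Chk64.ciN = f} := ⟨_, by first | (delta Cfsg.Agent.H333.Chk64.ciN; rewrite [Cfsg.Agent.LsF.f57cc9f_1.2, Cfsg.Agent.LsF.or_eq]; exact rfl) | exact rfl⟩
private noncomputable def _root_.Cfsg.Agent.LsF.f57cc9f_5 : {f // @Cfsg.Agent.H333.Chk64.cnt = f} := ⟨_, by first | (delta Cfsg.Agent.H333.Chk64.cnt; rewrite [Cfsg.Agent.LsF.f57cc9f_4.2, Cfsg.Agent.LsF.filter_eq, Cfsg.Agent.LsF.range_eq, Cfsg.Agent.LsF.length_eq]; exact rfl) | exact rfl⟩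
private noncomputable def _root_.Cfsg.Agent.LsF.f57cc9f_6 : {f // @Cfsg.Agent.H333.Chk64.chkA = f} := ⟨_, by first | (delta Cfsg.Agent.H333.Chk64.chkA; rewrite [Cfsg.Agent.LsF.f57cc9f_3.2, Cfsg.Agent.LsF.f57cc9f_4.2, Cfsg.Agent.LsF.f57cc9f_0.2, Cfsg.Agent.LsF.f57cc9f_5.2, Cfsg.Agent.LsF.and_eq, Cfsg.Agent.LsF.or_eq, Cfsg.Agent.LsF.not_eq, Cfsg.Agent.LsF.all_eq, Cfsg.Agent.LsF.range_eq]; exact rfl) | exact rfl⟩
theorem chkA_001 : chkA 0 0 1 56 = true := by ((try (rewrite [Cfsg.Agent.LsF.f57cc9f_6.2])); decide +kernel)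
theorem chkA_011 : chkA 0 1 1 56 = true := by ((try (rewrite [Cfsg.Agent.LsF.f57cc9f_6.2])); decide +kernel)
theorem chkA_101 : chkA 1 0 1 56 = true := by ((try (rewrite [Cfsg.Agent.LsF.f57cc9f_6.2])); decide +kernel)
theorem chkA_111 : chkA 1 1 1 56 = true := by ((try (rewrite [Cfsg.Agent.LsF.f57cc9f_6.2])); decide +kernel)
theorem chkA_010 : chkA 0 1 0 1 = true := by ((try (rewrite [Cfsg.Agent.LsF.f57cc9f_6.2])); decide +kernel)
theorem chkA_100 : chkA 1 0 0 1 = true := by ((try (rewrite [Cfsg.Agent.LsF.f57cc9f_6.2])); decide +kernel)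

/-- the check for `s = t = 1`, `i = 0` -/
def chkB : Bool :=
  ((List.range 64).all fun m => !(par 0 m) || !(Nat.beq (sq 1 1 0 m) 0)) &&
  ((List.range 64).all fun p => par 0 p || Nat.beq (sq 1 1 0 p) 0 || !(Nat.beq (sq 1 1 0 (sq 1 1 0 p)) 0) ||
    ((List.range 64).all fun q => Nat.beq (sq 1 1 0 q) 0 || !(Nat.beq (sq 1 1 0 (sq 1 1 0 q)) 0) ||
      !(Nat.beq (mulN 1 1 0 p q) (mulN 1 1 0 q p)) || Nat.beq (sq 1 1 0 p) (sq 1 1 0 q) ||
      ((List.range 64).all fun v => !(Nat.beq (mulN 1 1 0 (mulN 1 1 0 p v) p) v) ||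
        !(Nat.beq (mulN 1 1 0 (mulN 1 1 0 q v) q) v) || !(Nat.beq (sq 1 1 0 v) (sq 1 1 0 q)))))

private noncomputable def _root_.Cfsg.Agent.LsF.f57cc9f_7 : {f // @Cfsg.Agent.H333.Chk64.chkB = f} := ⟨_, by first | (delta Cfsg.Agent.H333.Chk64.chkB; rewrite [Cfsg.Agent.LsF.f57cc9f_0.2, Cfsg.Agent.LsF.f57cc9f_3.2, Cfsg.Agent.LsF.f57cc9f_1.2, Cfsg.Agent.LsF.and_eq, Cfsg.Agent.LsF.or_eq, Cfsg.Agent.LsF.not_eq, Cfsg.Agent.LsF.all_eq, Cfsg.Agent.LsF.range_eq]; exact rfl) | exact rfl⟩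
theorem chkB_true : chkB = true := by ((try (rewrite [Cfsg.Agent.LsF.f57cc9f_7.2])); decide +kernel)

/-! ### type `(0, 0, 0)` -/

/-- powers of codes, type `(0, 0, 0)` -/
def powN (m : ℕ) : ℕ → ℕ
  | 0 => 0
  | k + 1 => mulN 0 0 0 (powN m k) m

/-- the code of `A ^ i * B ^ j * (C ^ e * D ^ d)` -/
def tau (i j e d : ℕ) : ℕ :=
  mulN 0 0 0 (mulN 0 0 0 (powN 48 i) (powN 50 j)) (mulN 0 0 0 (powN 32 e) (powN 17 d))

theorem tau_ne : ∀ i j : Fin 4, ∀ e d : Fin 2, tau i j e d = 0 → i = 0 ∧ j = 0 ∧ e = 0 ∧ d = 0 := by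
  decide +kernel

theorem rel_T : powN 48 4 = 0 ∧ powN 50 4 = 0 ∧ mulN 0 0 0 48 50 = mulN 0 0 0 50 48 ∧ mulN 0 0 0 32 32 = 0 ∧
    mulN 0 0 0 17 17 = 0 ∧ mulN 0 0 0 32 17 = mulN 0 0 0 17 32 ∧
    mulN 0 0 0 (mulN 0 0 0 48 32) 48 = 32 ∧ mulN 0 0 0 (mulN 0 0 0 50 32) 50 = 32 ∧
    mulN 0 0 0 17 48 = mulN 0 0 0 50 17 ∧ mulN 0 0 0 17 50 = mulN 0 0 0 48 17 := by
  decide +kernel

end Cfsg.Agent.H333.Chk64
end

-- part: H333/TrEight
section
/-!
# The transfer into `C / C₀` for elements of order dividing 8, with all orbit lengths (helper333)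

`G` a finite group without subgroups of index two, `C₀ ≤ C` of relative index two, `u ^ 8 = 1`. For `v ∈ G` let
`O(v)` be the set of cosets `gC` with `g⁻¹ v g ∈ C ∖ C₀`. Then `|O(u²)| = 2 c₂`, `|O(u⁴)| = 4 c₄` and
`|O(u)| + c₂ + c₄` is even.
-/

set_option autoImplicit false
set_option linter.style.haveILetI false

namespace Cfsg.Agent.H333.TrEight

open Cfsg.Agent.LargeExtra.Transfer Cfsg.Agent.LargeExtra.TransferPow

variable {G : Type*} [Group G] {C C₀ : Subgroup G}

/-- Counting the points of period `n` in a `u`-invariant set through the orbits of `u`. -/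
theorem card_period {X : Type*} [MulAction G X] [Finite X] (u : G) (F : X → Prop)
    (hF : ∀ x, F x → F (u • x)) (n : ℕ) :
    Nat.card {x : X // F x ∧ Function.minimalPeriod (u • ·) x = n} =
      n * Nat.card {q : Quotient (MulAction.orbitRel (Subgroup.zpowers u) X) //
        F q.out ∧ Function.minimalPeriod (u • ·) q.out = n} := by
  classical
  have hfX : Fintype X := Fintype.ofFinite _
  have hfQ : Fintype (Quotient (MulAction.orbitRel (Subgroup.zpowers u) X)) := Fintype.ofFinite _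
  -- invariance of `F` under powers
  have hpow : ∀ (k : ℕ) (x : X), F x → F (u ^ k • x) := by
    intro k
    induction k with
    | zero => intro x hx; rw [pow_zero, one_smul]; exact hx
    | succ k ih => intro x hx; rw [pow_succ', mul_smul]; exact hF _ (ih x hx)
  have hper : ∀ x : X, 0 < Function.minimalPeriod (u • ·) x := by
    intro x
    have hinj : Function.Injective (u • · : X → X) := MulAction.injective u
    exact Function.minimalPeriod_pos_of_mem_periodicPts
      (Function.Injective.mem_periodicPts hinj x)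
  have hrel : ∀ x y : X, (MulAction.orbitRel (Subgroup.zpowers u) X) y x →
      ∃ k : ℕ, y = u ^ k • x := by
    rintro x y ⟨⟨v, hv⟩, hvy⟩
    obtain ⟨m, rfl⟩ := Subgroup.mem_zpowers_iff.1 hv
    have h5 : u ^ m • x = y := hvy
    have hp := hper x
    refine ⟨(m % (Function.minimalPeriod (u • ·) x : ℤ)).toNat, ?_⟩
    rw [← h5]
    have h6 : u ^ (m % (Function.minimalPeriod (u • ·) x : ℤ)) • x = u ^ m • x :=
      MulAction.zpow_smul_mod_minimalPeriod u x m
    rw [← h6, ← zpow_natCast, Int.toNat_of_nonneg (Int.emod_nonneg _ (by exact_mod_cast hp.ne'))]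
  have hFrel : ∀ x y : X, (MulAction.orbitRel (Subgroup.zpowers u) X) y x → F x → F y := by
    intro x y h hx
    obtain ⟨k, rfl⟩ := hrel x y h
    exact hpow k x hx
  have hprel : ∀ x y : X, (MulAction.orbitRel (Subgroup.zpowers u) X) y x →
      Function.minimalPeriod (u • ·) y = Function.minimalPeriod (u • ·) x := by
    intro x y h
    obtain ⟨k, rfl⟩ := hrel x y h
    have e : u ^ k • x = (u • ·)^[k] x := by rw [smul_iterate]
    rw [e]
    exact Function.minimalPeriod_apply_iterate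
      (Function.Injective.mem_periodicPts (MulAction.injective u) x) k
  set A := {x : X // F x ∧ Function.minimalPeriod (u • ·) x = n} with hA
  set B := {q : Quotient (MulAction.orbitRel (Subgroup.zpowers u) X) //
        F q.out ∧ Function.minimalPeriod (u • ·) q.out = n} with hB
  have hout : ∀ x : X, (MulAction.orbitRel (Subgroup.zpowers u) X)
      (Quotient.mk (MulAction.orbitRel (Subgroup.zpowers u) X) x).out x := fun x =>
    Quotient.mk_out (s := MulAction.orbitRel (Subgroup.zpowers u) X) x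
  let φ : A → B := fun x => ⟨Quotient.mk _ x.1, hFrel _ _ (hout x.1) x.2.1, by
    rw [hprel _ _ (hout x.1)]; exact x.2.2⟩
  have hfib : ∀ q : B, Nat.card {x : A // φ x = q} = n := by
    intro q
    have h1 : Nat.card {x : A // φ x = q} = Nat.card (MulAction.orbit (Subgroup.zpowers u) q.1.out) := by
      apply Nat.card_congr
      refine
        { toFun := fun x => ⟨x.1.1, ?_⟩
          invFun := fun x => ⟨⟨x.1, ?_, ?_⟩, ?_⟩
          left_inv := fun x => ?_
          right_inv := fun x => ?_ }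
      · have h2 : Quotient.mk (MulAction.orbitRel (Subgroup.zpowers u) X) x.1.1 = q.1 :=
          congrArg Subtype.val x.2
        rw [← MulAction.orbitRel_apply]
        have h3 := hout x.1.1
        rw [h2] at h3
        exact (MulAction.orbitRel (Subgroup.zpowers u) X).symm h3
      · have h2 : (MulAction.orbitRel (Subgroup.zpowers u) X) x.1 q.1.out := by
          rw [MulAction.orbitRel_apply]; exact x.2
        exact hFrel _ _ h2 q.2.1
      · have h2 : (MulAction.orbitRel (Subgroup.zpowers u) X) x.1 q.1.out := by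
          rw [MulAction.orbitRel_apply]; exact x.2
        rw [hprel _ _ h2]; exact q.2.2
      · apply Subtype.ext
        show Quotient.mk _ x.1 = q.1
        have h2 : (MulAction.orbitRel (Subgroup.zpowers u) X) x.1 q.1.out := by
          rw [MulAction.orbitRel_apply]; exact x.2
        have e : Quotient.mk (MulAction.orbitRel (Subgroup.zpowers u) X) x.1 =
            Quotient.mk (MulAction.orbitRel (Subgroup.zpowers u) X) q.1.out := Quotient.sound h2
        exact e.trans (Quotient.out_eq q.1)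
      · rfl
      · rfl
    have hf2 : Fintype (MulAction.orbit (Subgroup.zpowers u) q.1.out) := Fintype.ofFinite _
    rw [h1, Nat.card_eq_fintype_card, ← MulAction.minimalPeriod_eq_card]
    exact q.2.2
  have hcard : Nat.card A = Nat.card (Σ q : B, {x : A // φ x = q}) :=
    Nat.card_congr (Equiv.sigmaFiberEquiv φ).symm
  have hfB : Fintype B := Fintype.ofFinite _
  rw [hcard, Nat.card_sigma]
  rw [Finset.sum_congr rfl (fun q _ => hfib q), Finset.sum_const, smul_eq_mul, mul_comm]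
  rw [Nat.card_eq_fintype_card, Finset.card_univ]

/-- **Transfer with all orbit lengths**, `u ^ 8 = 1`. -/
theorem exists_counts [Finite G] (hG : ∀ H : Subgroup G, H.index ≠ 2)
    (hle : C₀ ≤ C) (h2 : C₀.relIndex C = 2) (u : G) (hu : u ^ 8 = 1) :
    ∃ c2 c4 : ℕ, Nat.card {x : G ⧸ C // Odd1 C C₀ (u ^ 2) x} = 2 * c2 ∧
      Nat.card {x : G ⧸ C // Odd1 C C₀ (u ^ 4) x} = 4 * c4 ∧
      Even (Nat.card {x : G ⧸ C // Odd1 C C₀ u x} + c2 + c4) := by
  classical
  have : Fintype (G ⧸ C) := Fintype.ofFinite _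
  have : Fintype (Quotient (MulAction.orbitRel (Subgroup.zpowers u) (G ⧸ C))) := Fintype.ofFinite _
  set! f : G →* ℤˣ := MonoidHom.transfer (sgn h2) with hf
  have hf1 : f u = 1 := by
    by_contra hne
    have h3 : f u = -1 := (Int.units_eq_one_or (f u)).resolve_left hne
    apply hG f.ker
    rw [Subgroup.index_ker]
    have : f.range = ⊤ := by
      rw [eq_top_iff]
      intro x _
      rcases Int.units_eq_one_or x with rfl | rfl
      · exact f.range.one_mem
      · exact ⟨u, h3⟩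
    rw [this, Subgroup.card_top, Nat.card_eq_fintype_card]
    rfl
  rw [hf, MonoidHom.transfer_eq_prod_quotient_orbitRel_zpowers_quot] at hf1
  set P : Quotient (MulAction.orbitRel (Subgroup.zpowers u) (G ⧸ C)) → ℤˣ := fun q =>
    sgn h2 ⟨q.out.out⁻¹ * u ^ Function.minimalPeriod (u • ·) q.out * q.out.out,
      QuotientGroup.out_conj_pow_minimalPeriod_mem C u q.out⟩ with hP
  have hprod : ∏ q, P q = 1 := hf1
  have heven : Even (Finset.univ.filter (fun q => P q = -1)).card := by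
    have h3 : ∏ q, P q = ∏ q ∈ Finset.univ.filter (fun q => P q = -1), (-1 : ℤˣ) := by
      rw [Finset.prod_filter]
      apply Finset.prod_congr rfl
      intro q _
      by_cases hq : P q = -1
      · rw [if_pos hq, hq]
      · rw [if_neg hq]
        exact (Int.units_eq_one_or (P q)).resolve_right hq
    rw [h3, Finset.prod_const] at hprod
    by_contra hodd
    rw [Nat.not_even_iff_odd] at hodd
    rw [hodd.neg_one_pow] at hprod
    exact absurd hprod (by decide)
  have hP_iff : ∀ q, P q = -1 ↔ q.out.out⁻¹ * u ^ Function.minimalPeriod (u • ·) q.out * q.out.out ∉ C₀ := by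
    intro q
    rw [← sgn_eq_one_iff h2 ⟨_, QuotientGroup.out_conj_pow_minimalPeriod_mem C u q.out⟩]
    constructor
    · intro h3 h4
      have h5 : P q = 1 := h4
      rw [h5] at h3
      exact absurd h3 (by decide)
    · intro h3
      exact (Int.units_eq_one_or (P q)).resolve_left h3
  -- the points of odd type with period `n`
  let F : G ⧸ C → Prop := fun x => x.out⁻¹ * u ^ Function.minimalPeriod (u • ·) x * x.out ∉ C₀
  have hmem : ∀ x : G ⧸ C, x.out⁻¹ * u ^ Function.minimalPeriod (u • ·) x * x.out ∈ C := fun x =>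
    QuotientGroup.out_conj_pow_minimalPeriod_mem C u x
  have hFodd : ∀ x : G ⧸ C, F x ↔ Odd1 C C₀ (u ^ Function.minimalPeriod (u • ·) x) x := fun x =>
    ⟨fun h => ⟨hmem x, h⟩, fun h => h.2⟩
  have hinv : ∀ (v : G) (x : G ⧸ C), u * v = v * u → Odd1 C C₀ v x → Odd1 C C₀ v (u • x) := by
    intro v x huv hx
    obtain ⟨g, rfl⟩ := QuotientGroup.mk_surjective x
    rw [odd1_iff hle h2] at hx
    show Odd1 C C₀ v ((u * g : G) : G ⧸ C)
    rw [odd1_iff hle h2]
    have e : (u * g)⁻¹ * v * (u * g) = g⁻¹ * v * g := by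
      have : u⁻¹ * v * u = v := by
        rw [mul_assoc, ← huv, ← mul_assoc, inv_mul_cancel, one_mul]
      calc (u * g)⁻¹ * v * (u * g) = g⁻¹ * (u⁻¹ * v * u) * g := by group
        _ = _ := by rw [this]
    rw [e]; exact hx
  have hFinv : ∀ x, F x → F (u • x) := by
    intro x hx
    rw [hFodd] at hx ⊢
    have h3 : Function.minimalPeriod (u • ·) (u • x) = Function.minimalPeriod (u • ·) x :=
      Function.minimalPeriod_apply
        (Function.Injective.mem_periodicPts (MulAction.injective u) x)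
    rw [h3]
    exact hinv _ _ (by rw [← pow_succ', ← pow_succ]) hx
  -- points: `Odd1 (u ^ n) x`, `n = 1, 2, 4`
  have hpoint : ∀ (k : ℕ) (x : G ⧸ C), Odd1 C C₀ (u ^ 2 ^ k) x ↔
      (F x ∧ Function.minimalPeriod (u • ·) x = 2 ^ k) := by
    intro k x
    constructor
    · intro hx
      have h3 : u ^ 2 ^ k • x = x := by
        have := (smul_eq_iff C (u ^ 2 ^ k) x.out).2 hx.1
        rwa [QuotientGroup.out_eq'] at this
      have hdvd : Function.minimalPeriod (u • ·) x ∣ 2 ^ k := by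
        apply Function.IsPeriodicPt.minimalPeriod_dvd
        show (u • ·)^[2 ^ k] x = x
        rw [smul_iterate]
        exact h3
      obtain ⟨j, hj1, hj⟩ := (Nat.dvd_prime_pow Nat.prime_two).1 hdvd
      have hjk : j = k := by
        by_contra hne
        have hlt : j + 1 ≤ k := by omega
        apply hx.2
        obtain ⟨m, rfl⟩ := Nat.exists_eq_add_of_le hlt
        have h4 := hmem x
        rw [hj] at h4
        have h5 : x.out⁻¹ * u ^ 2 ^ (j + 1 + m) * x.out = (x.out⁻¹ * u ^ 2 ^ j * x.out) ^ (2 ^ (m + 1)) := by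
          have e1 : x.out⁻¹ * u ^ 2 ^ j * x.out = x.out⁻¹ * u ^ 2 ^ j * x.out⁻¹⁻¹ := by rw [inv_inv]
          rw [e1, conj_pow, inv_inv, ← pow_mul, ← pow_add]
          congr 3
          congr 1
          omega
        rw [h5]
        have h6 : (sgn h2 ⟨_, h4⟩) ^ (2 ^ (m + 1)) = 1 := by
          rw [pow_succ' 2 m, pow_mul, Int.units_sq, one_pow]
        rw [← map_pow, sgn_eq_one_iff] at h6
        exact h6
      subst hjk
      refine ⟨?_, hj⟩
      show x.out⁻¹ * u ^ Function.minimalPeriod (u • ·) x * x.out ∉ C₀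
      rw [hj]
      exact hx.2
    · rintro ⟨h3, h4⟩
      rw [hFodd, h4] at h3
      exact h3
  have key : ∀ k : ℕ, Nat.card {x : G ⧸ C // Odd1 C C₀ (u ^ 2 ^ k) x} =
      2 ^ k * Nat.card {q : Quotient (MulAction.orbitRel (Subgroup.zpowers u) (G ⧸ C)) //
        F q.out ∧ Function.minimalPeriod (u • ·) q.out = 2 ^ k} := by
    intro k
    exact (Nat.card_congr (Equiv.subtypeEquivRight (hpoint k))).trans (card_period u F hFinv (2 ^ k))
  have k0 := key 0
  have k1 := key 1
  have k2 := key 2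
  have e2 : (2 : ℕ) ^ 1 = 2 := rfl
  have e4 : (2 : ℕ) ^ 2 = 4 := rfl
  rw [pow_zero, pow_one, one_mul] at k0
  rw [e2] at k1
  rw [e4] at k2
  refine ⟨_, _, k1, k2, ?_⟩
  rw [k0]
  have hcard : (Finset.univ.filter (fun q => P q = -1)).card =
      Nat.card {q : Quotient (MulAction.orbitRel (Subgroup.zpowers u) (G ⧸ C)) //
        F q.out ∧ Function.minimalPeriod (u • ·) q.out = 1} +
      Nat.card {q : Quotient (MulAction.orbitRel (Subgroup.zpowers u) (G ⧸ C)) //
        F q.out ∧ Function.minimalPeriod (u • ·) q.out = 2} +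
      Nat.card {q : Quotient (MulAction.orbitRel (Subgroup.zpowers u) (G ⧸ C)) //
        F q.out ∧ Function.minimalPeriod (u • ·) q.out = 4} := by
    rw [Nat.card_eq_fintype_card, Nat.card_eq_fintype_card, Nat.card_eq_fintype_card,
      Fintype.card_subtype, Fintype.card_subtype, Fintype.card_subtype,
      ← Finset.card_union_of_disjoint, ← Finset.card_union_of_disjoint]
    · congr 1
      ext q
      simp only [Finset.mem_union, Finset.mem_filter, Finset.mem_univ, true_and]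
      rw [hP_iff]
      have hF' : F q.out ↔ q.out.out⁻¹ * u ^ Function.minimalPeriod (u • ·) q.out * q.out.out ∉ C₀ := Iff.rfl
      constructor
      · intro hq
        have hdvd : Function.minimalPeriod (u • ·) q.out ∣ 2 ^ 3 := by
          apply Function.IsPeriodicPt.minimalPeriod_dvd
          show (u • ·)^[2 ^ 3] q.out = q.out
          rw [smul_iterate]
          norm_num
          rw [hu]
          exact one_smul _ _
        obtain ⟨j, hj1, hj⟩ := (Nat.dvd_prime_pow Nat.prime_two).1 hdvd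
        have hj3 : j ≠ 3 := by
          rintro rfl
          apply hq
          rw [hj]
          norm_num
          rw [hu, mul_one, inv_mul_cancel]
          exact C₀.one_mem
        have hj' : j = 0 ∨ j = 1 ∨ j = 2 := by omega
        rcases hj' with rfl | rfl | rfl
        · exact Or.inl (Or.inl ⟨hq, by rw [hj]; rfl⟩)
        · exact Or.inl (Or.inr ⟨hq, by rw [hj]; rfl⟩)
        · exact Or.inr ⟨hq, by rw [hj]; rfl⟩
      · rintro ((h | h) | h) <;> exact h.1
    · rw [Finset.disjoint_left]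
      intro q hq1 hq2
      simp only [Finset.mem_union, Finset.mem_filter, Finset.mem_univ, true_and] at hq1 hq2
      rcases hq1 with hq1 | hq1 <;> omega
    · rw [Finset.disjoint_left]
      intro q hq1 hq2
      simp only [Finset.mem_filter, Finset.mem_univ, true_and] at hq1 hq2
      omega
  rw [← hcard]
  exact heven

end Cfsg.Agent.H333.TrEight
end

-- part: H333/TrDiv
section
/-!
# Divisibility of numbers of cosets by orbit lengths of a 2-group (helper333)
-/

set_option autoImplicit false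
set_option linter.style.haveILetI false

namespace Cfsg.Agent.H333.TrDiv

open Cfsg.Agent.LargeExtra.Transfer

variable {G : Type*} [Group G]

/-- the cosets `gP` with `S (g⁻¹ v g)` -/
def Pt (P : Subgroup G) (S : G → Prop) (v : G) (x : G ⧸ P) : Prop := S (x.out⁻¹ * v * x.out)

theorem pt_iff {P : Subgroup G} {S : G → Prop} (hS : ∀ c ∈ P, ∀ w, S w → S (c⁻¹ * w * c)) (v g : G) :
    Pt P S v (g : G ⧸ P) ↔ S (g⁻¹ * v * g) := by
  set k := (g : G ⧸ P).out with hk
  have h1 : k⁻¹ * g ∈ P := by rw [← QuotientGroup.eq, hk, QuotientGroup.out_eq']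
  have e : (k⁻¹ * g)⁻¹ * (k⁻¹ * v * k) * (k⁻¹ * g) = g⁻¹ * v * g := by group
  unfold Pt
  rw [← hk]
  constructor
  · intro h
    have h2 := hS _ h1 _ h
    rwa [e] at h2
  · intro h
    have h2 := hS _ (P.inv_mem h1) _ h
    rw [← e] at h2
    have e2 : (k⁻¹ * g)⁻¹⁻¹ * ((k⁻¹ * g)⁻¹ * (k⁻¹ * v * k) * (k⁻¹ * g)) * (k⁻¹ * g)⁻¹ = k⁻¹ * v * k := by
      group
    rwa [e2] at h2

/-- `c` centralises or inverts `w` -/
def CI (w c : G) : Prop := c * w = w * c ∨ w * c * w = c

theorem ci_iff (w c : G) : CI w c ↔ (c⁻¹ * w * c = w ∨ c⁻¹ * w * c = w⁻¹) := by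
  unfold CI
  constructor
  · rintro (h | h)
    · left; rw [mul_assoc, ← h, inv_mul_cancel_left]
    · right
      have : w * c = c * w⁻¹ := by rw [eq_mul_inv_iff_mul_eq]; exact h
      rw [mul_assoc, this, inv_mul_cancel_left]
  · rintro (h | h)
    · left; rw [mul_assoc, inv_mul_eq_iff_eq_mul] at h; exact h.symm
    · right
      rw [mul_assoc, inv_mul_eq_iff_eq_mul, eq_mul_inv_iff_mul_eq] at h; exact h

theorem ci_conj {w c : G} (g : G) (h : CI w c) : CI (g⁻¹ * w * g) (g⁻¹ * c * g) := by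
  rcases h with h | h
  · left
    calc g⁻¹ * c * g * (g⁻¹ * w * g) = g⁻¹ * (c * w) * g := by group
      _ = g⁻¹ * (w * c) * g := by rw [h]
      _ = _ := by group
  · right
    calc g⁻¹ * w * g * (g⁻¹ * c * g) * (g⁻¹ * w * g) = g⁻¹ * (w * c * w) * g := by group
      _ = _ := by rw [h]

/-- the action of `D` on the cosets -/
theorem pt_smul {P : Subgroup G} {S : G → Prop} (hS : ∀ c ∈ P, ∀ w, S w → S (c⁻¹ * w * c))
    (hSi : ∀ w, S w → S w⁻¹) {v d : G} (hd : CI v d) (x : G ⧸ P) (hx : Pt P S v x) :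
    Pt P S v (d • x) := by
  obtain ⟨g, rfl⟩ := QuotientGroup.mk_surjective x
  rw [pt_iff hS] at hx
  show Pt P S v ((d * g : G) : G ⧸ P)
  rw [pt_iff hS]
  have e : (d * g)⁻¹ * v * (d * g) = g⁻¹ * (d⁻¹ * v * d) * g := by group
  rw [e]
  rcases (ci_iff _ _).1 hd with h | h
  · rw [h]; exact hx
  · rw [h]
    have e2 : g⁻¹ * v⁻¹ * g = (g⁻¹ * v * g)⁻¹ := by group
    rw [e2]
    exact hSi _ hx

/-- the action of `D` on the set of cosets `gP` with `S (g⁻¹ v g)` -/
@[reducible] def act {P : Subgroup G} {S : G → Prop} (hS : ∀ c ∈ P, ∀ w, S w → S (c⁻¹ * w * c))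
    (hSi : ∀ w, S w → S w⁻¹) {v : G} {D : Subgroup G} (hDv : ∀ d ∈ D, CI v d) :
    MulAction D {x : G ⧸ P // Pt P S v x} where
  smul d x := ⟨(d : G) • x.1, pt_smul hS hSi (hDv d d.2) x.1 x.2⟩
  one_smul x := Subtype.ext (one_smul G x.1)
  mul_smul p q x := Subtype.ext (mul_smul (p : G) (q : G) x.1)

/-- **Orbit lengths**: if `D` (of order `2 ^ a`) centralises or inverts `v` and every `w = g⁻¹ v g` with `S w`
is centralised or inverted by at most `2 ^ b` elements of `P`, then `2 ^ (a - b)` divides the number of cosets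
`gP` with `S (g⁻¹ v g)`. -/
theorem dvd_card [Finite G] {P : Subgroup G} {S : G → Prop} (hS : ∀ c ∈ P, ∀ w, S w → S (c⁻¹ * w * c))
    (hSi : ∀ w, S w → S w⁻¹) {v : G} {D : Subgroup G} (hDv : ∀ d ∈ D, CI v d) {a b : ℕ}
    (hD : Nat.card D = 2 ^ a)
    (hb : ∀ g : G, S (g⁻¹ * v * g) → Nat.card {c : G // c ∈ P ∧ CI (g⁻¹ * v * g) c} ≤ 2 ^ b) :
    2 ^ (a - b) ∣ Nat.card {x : G ⧸ P // Pt P S v x} := by
  classical
  letI : MulAction D {x : G ⧸ P // Pt P S v x} := act hS hSi hDv
  have : Fintype D := Fintype.ofFinite _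
  have : Fintype {x : G ⧸ P // Pt P S v x} := Fintype.ofFinite _
  have : Fintype (Quotient (MulAction.orbitRel D {x : G ⧸ P // Pt P S v x})) := Fintype.ofFinite _
  have hst : ∀ x : {x : G ⧸ P // Pt P S v x}, 2 ^ (a - b) ∣ Nat.card (MulAction.orbit D x) := by
    intro x
    have h1 : Nat.card (MulAction.orbit D x) * Nat.card (MulAction.stabilizer D x) = Nat.card D := by
      rw [Nat.card_congr (MulAction.orbitEquivQuotientStabilizer D x), ← Subgroup.index_eq_card, mul_comm]
      exact (MulAction.stabilizer D x).card_mul_index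
    have h2 : Nat.card (MulAction.stabilizer D x) ≤ 2 ^ b := by
      refine le_trans ?_ (hb x.1.out ?_)
      · refine Nat.card_le_card_of_injective
          (fun d => (⟨x.1.out⁻¹ * ((d : D) : G) * x.1.out, ?_, ?_⟩ :
            {c : G // c ∈ P ∧ CI (x.1.out⁻¹ * v * x.1.out) c})) ?_
        · rw [← smul_eq_iff P _ x.1.out, QuotientGroup.out_eq']
          exact congrArg Subtype.val d.2
        · exact ci_conj _ (hDv _ d.1.2)
        · intro d e hde
          have h3 : x.1.out⁻¹ * ((d : D) : G) * x.1.out = x.1.out⁻¹ * ((e : D) : G) * x.1.out :=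
            congrArg Subtype.val hde
          apply Subtype.ext
          apply Subtype.ext
          exact mul_left_cancel (mul_right_cancel h3)
      · exact x.2
    have h3 : Nat.card (MulAction.stabilizer D x) ∣ 2 ^ a := ⟨_, by rw [← hD, ← h1, mul_comm]⟩
    obtain ⟨j, hj, hj2⟩ := (Nat.dvd_prime_pow Nat.prime_two).1 h3
    rw [hj2] at h2 h1
    have h4 : j ≤ b := (Nat.pow_le_pow_iff_right (by norm_num)).1 h2
    have h5 : Nat.card (MulAction.orbit D x) = 2 ^ (a - j) := by
      have h6 : (2 : ℕ) ^ a = 2 ^ (a - j) * 2 ^ j := by rw [← pow_add, Nat.sub_add_cancel hj]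
      rw [hD, h6] at h1
      exact Nat.eq_of_mul_eq_mul_right (by positivity) h1
    rw [h5]
    exact pow_dvd_pow 2 (by omega)
  have h6 : Nat.card {x : G ⧸ P // Pt P S v x} =
      ∑ q : Quotient (MulAction.orbitRel D {x : G ⧸ P // Pt P S v x}), Nat.card (MulAction.orbit D q.out) := by
    rw [Nat.card_congr (MulAction.selfEquivSigmaOrbits D {x : G ⧸ P // Pt P S v x}), Nat.card_sigma]
  rw [h6]
  exact Finset.dvd_sum fun q _ => hst _

/-- A 2-group `D` centralising or inverting `v` fixes one of the cosets, if their number is odd. -/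
theorem exists_fixed [Finite G] {P : Subgroup G} {S : G → Prop}
    (hS : ∀ c ∈ P, ∀ w, S w → S (c⁻¹ * w * c))
    (hSi : ∀ w, S w → S w⁻¹) {v : G} {D : Subgroup G} (hDv : ∀ d ∈ D, CI v d) (hD : IsPGroup 2 D)
    (hodd : Odd (Nat.card {x : G ⧸ P // Pt P S v x})) :
    ∃ g : G, S (g⁻¹ * v * g) ∧ ∀ d ∈ D, g⁻¹ * d * g ∈ P := by
  classical
  letI : MulAction D {x : G ⧸ P // Pt P S v x} := act hS hSi hDv
  have : Fact (Nat.Prime 2) := ⟨Nat.prime_two⟩
  have h3 := hD.card_modEq_card_fixedPoints {x : G ⧸ P // Pt P S v x}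
  have h4 : Nat.card (MulAction.fixedPoints D {x : G ⧸ P // Pt P S v x}) ≠ 0 := by
    intro h0
    rw [h0] at h3
    have h5 := Nat.odd_iff.1 hodd
    have h6 : Nat.card {x : G ⧸ P // Pt P S v x} % 2 = 0 % 2 := h3
    omega
  have h5 : Nonempty (MulAction.fixedPoints D {x : G ⧸ P // Pt P S v x}) :=
    (Nat.card_pos_iff.1 (Nat.pos_of_ne_zero h4)).1
  obtain ⟨x, hx⟩ := h5
  refine ⟨x.1.out, x.2, fun d hd => ?_⟩
  rw [← smul_eq_iff P _ x.1.out, QuotientGroup.out_eq']
  exact congrArg Subtype.val (hx ⟨d, hd⟩)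

/-- The number of cosets fixed by an element of a 2-group is odd, if the index is odd. -/
theorem odd_card_fix [Finite G] {P : Subgroup G} (hodd : Odd P.index) {v : G} {k : ℕ} (hv : v ^ 2 ^ k = 1) :
    Odd (Nat.card {x : G ⧸ P // Pt P (fun w => w ∈ P) v x}) := by
  have hp : IsPGroup 2 (Subgroup.zpowers v) := by
    rw [IsPGroup.iff_card]
    obtain ⟨j, -, hj⟩ := (Nat.dvd_prime_pow Nat.prime_two).1 (orderOf_dvd_of_pow_eq_one hv)
    exact ⟨j, by rw [Nat.card_zpowers, hj]⟩
  have : Fact (Nat.Prime 2) := ⟨Nat.prime_two⟩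
  have h3 := hp.card_modEq_card_fixedPoints (G ⧸ P)
  have h4 : Nat.card (MulAction.fixedPoints (Subgroup.zpowers v) (G ⧸ P)) =
      Nat.card {x : G ⧸ P // Pt P (fun w => w ∈ P) v x} := by
    apply Nat.card_congr
    refine Equiv.subtypeEquivRight fun x => ?_
    show _ ↔ x.out⁻¹ * v * x.out ∈ P
    rw [← smul_eq_iff P _ x.out, QuotientGroup.out_eq', MulAction.mem_fixedPoints]
    constructor
    · intro h
      exact h ⟨v, Subgroup.mem_zpowers v⟩
    · rintro h ⟨w, hw⟩
      obtain ⟨k, rfl⟩ := Subgroup.mem_zpowers_iff.1 hw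
      show v ^ k • x = x
      have hx : v ∈ MulAction.stabilizer G x := h
      exact (MulAction.stabilizer G x).zpow_mem hx k
  rw [h4, ← Subgroup.index_eq_card] at h3
  have h5 : P.index % 2 = Nat.card {x : G ⧸ P // Pt P (fun w => w ∈ P) v x} % 2 := h3
  rw [Nat.odd_iff] at hodd ⊢
  omega

end Cfsg.Agent.H333.TrDiv
end

-- part: H333/Elim64
section
/-!
# Elimination of the Sylow 2-subgroups of order 64 of `Mod64` other than the one of `M₁₂` (helper333)
-/

set_option autoImplicit false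

namespace Cfsg.Agent.H333.Elim64

open Cfsg.Agent.H333.Mod64 Cfsg.Agent.H333.Chk64 Cfsg.Agent.H333.TrDiv
open Cfsg.Agent.LargeExtra.Transfer

variable {G : Type*} [Group G]

/-- a coding of the elements of the subgroup `P` of order 64 -/
structure Cod (P : Subgroup G) (s t i : ℕ) (φ : ℕ → G) : Prop where
  mem : ∀ n, φ n ∈ P
  one : φ 0 = 1
  mul : ∀ p q, φ p * φ q = φ (mulN s t i p q)
  inj : ∀ m < 64, ∀ n < 64, φ m = φ n → m = n
  surj : ∀ p ∈ P, ∃ n < 64, p = φ n

theorem mulN_lt (s t i p q : ℕ) : mulN s t i p q < 64 := by unfold mulN; omega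

theorem sq_lt (s t i m : ℕ) : sq s t i m < 64 := mulN_lt _ _ _ _ _

section
variable {P : Subgroup G} {s t i : ℕ} {φ : ℕ → G} (h : Cod P s t i φ)
include h

theorem sq_eq (m : ℕ) : φ m ^ 2 = φ (sq s t i m) := by rw [pow_two, h.mul]; rfl

theorem four_eq (m : ℕ) : φ m ^ 4 = φ (sq s t i (sq s t i m)) := by
  rw [← sq_eq h, ← sq_eq h, ← pow_mul]

theorem eight_eq (m : ℕ) : φ m ^ 8 = φ (sq s t i (sq s t i (sq s t i m))) := by
  rw [← sq_eq h, ← sq_eq h, ← sq_eq h, ← pow_mul, ← pow_mul]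

theorem eq_one_iff {m : ℕ} (hm : m < 64) : φ m = 1 ↔ m = 0 := by
  constructor
  · intro h1; exact h.inj m hm 0 (by norm_num) (h1.trans h.one.symm)
  · rintro rfl; exact h.one

theorem ci_iff_ciN {m n : ℕ} (hn : n < 64) : CI (φ m) (φ n) ↔ ciN s t i m n = true := by
  unfold CI ciN
  rw [h.mul, h.mul, h.mul, Bool.or_eq_true, Nat.beq_eq, Nat.beq_eq]
  constructor
  · rintro (h1 | h1)
    · left; exact h.inj _ (mulN_lt _ _ _ _ _) _ (mulN_lt _ _ _ _ _) h1
    · right; exact h.inj _ (mulN_lt _ _ _ _ _) _ hn h1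
  · rintro (h1 | h1)
    · left; rw [h1]
    · right; rw [h1]

theorem card_ci [Finite G] (m : ℕ) : Nat.card {c : G // c ∈ P ∧ CI (φ m) c} = cnt s t i m := by
  classical
  have h1 : cnt s t i m = Nat.card {n : ℕ // n ∈ (List.range 64).filter (fun n => ciN s t i m n)} := by
    unfold cnt
    rw [Nat.card_eq_fintype_card, Fintype.card_of_subtype (((List.range 64).filter (fun n => ciN s t i m n)).toFinset)]
    · rw [List.toFinset_card_of_nodup]
      exact List.nodup_range.filter _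
    · intro x; rw [List.mem_toFinset]
  rw [h1]
  symm
  refine Nat.card_eq_of_bijective
    (fun n => (⟨φ n.1, h.mem _, ?_⟩ : {c : G // c ∈ P ∧ CI (φ m) c})) ⟨?_, ?_⟩
  · have h2 := List.mem_filter.1 n.2
    exact (ci_iff_ciN h (List.mem_range.1 h2.1)).2 h2.2
  · rintro ⟨a, ha⟩ ⟨b, hb⟩ hab
    have h2 := List.mem_filter.1 ha
    have h3 := List.mem_filter.1 hb
    have h4 : φ a = φ b := congrArg Subtype.val hab
    exact Subtype.ext (h.inj a (List.mem_range.1 h2.1) b (List.mem_range.1 h3.1) h4)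
  · rintro ⟨c, hc, hci⟩
    obtain ⟨n, hn, rfl⟩ := h.surj c hc
    exact ⟨⟨n, List.mem_filter.2 ⟨List.mem_range.2 hn, (ci_iff_ciN h hn).1 hci⟩⟩, rfl⟩

theorem card_P [Finite G] : Nat.card P = 64 := by
  have : Nat.card (Fin 64) = Nat.card P :=
    Nat.card_eq_of_bijective (fun n : Fin 64 => (⟨φ n, h.mem _⟩ : P))
      ⟨fun a b hab => Fin.ext (h.inj a a.2 b b.2 (congrArg Subtype.val hab)), fun p => by
        obtain ⟨n, hn, hn2⟩ := h.surj p.1 p.2
        exact ⟨⟨n, hn⟩, Subtype.ext hn2.symm⟩⟩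
  rw [← this, Nat.card_eq_fintype_card, Fintype.card_fin]

variable (hp : chkPar s t i = true)
include hp

omit h in
theorem par_mul {m n : ℕ} (hm : m < 64) (hn : n < 64) :
    par i (mulN s t i m n) = xor (par i m) (par i n) := by
  have h1 := (List.all_eq_true.1 (List.all_eq_true.1 hp m (List.mem_range.2 hm))) n (List.mem_range.2 hn)
  revert h1
  cases par i (mulN s t i m n) <;> cases par i m <;> cases par i n <;> simp

/-- the subgroup of index two -/
def M0 : Subgroup G where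
  carrier := {g | ∃ n < 64, par i n = false ∧ g = φ n}
  mul_mem' := by
    rintro _ _ ⟨m, hm, hm2, rfl⟩ ⟨n, hn, hn2, rfl⟩
    exact ⟨_, mulN_lt _ _ _ _ _, by rw [par_mul hp hm hn, hm2, hn2]; rfl, h.mul m n⟩
  one_mem' := ⟨0, by norm_num, by cases i <;> [rfl; skip]; (rename_i i; cases i <;> rfl), h.one.symm⟩
  inv_mem' := by
    rintro _ ⟨m, hm, hm2, rfl⟩
    obtain ⟨n, hn, hn2⟩ := h.surj _ (P.inv_mem (h.mem m))
    refine ⟨n, hn, ?_, hn2⟩
    have h1 : φ (mulN s t i m n) = 1 := by rw [← h.mul, ← hn2, mul_inv_cancel]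
    have h2 := (eq_one_iff h (mulN_lt _ _ _ _ _)).1 h1
    have h3 := par_mul hp hm hn
    have h4 : par i 0 = false := by
      cases i
      · rfl
      · rename_i i; cases i <;> rfl
    rw [h2, h4, hm2] at h3
    simpa using h3.symm

theorem mem_M0 {n : ℕ} (hn : n < 64) : φ n ∈ M0 h hp ↔ par i n = false := by
  constructor
  · rintro ⟨m, hm, hm2, hm3⟩
    rw [h.inj n hn m hm hm3]; exact hm2
  · intro h1; exact ⟨n, hn, h1, rfl⟩

theorem M0_le : M0 h hp ≤ P := by
  rintro _ ⟨m, hm, hm2, rfl⟩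
  exact h.mem m

theorem relIndex_M0 {u : ℕ} (hu : u < 64) (hu2 : par i u = true) : (M0 h hp).relIndex P = 2 := by
  rw [Subgroup.relIndex, Subgroup.index_eq_two_iff]
  refine ⟨⟨φ u, h.mem u⟩, ?_⟩
  rintro ⟨b, hb⟩
  obtain ⟨n, hn, rfl⟩ := h.surj b hb
  rw [Subgroup.mem_subgroupOf, Subgroup.mem_subgroupOf]
  show Xor (φ n * φ u ∈ M0 h hp) (φ n ∈ M0 h hp)
  rw [h.mul, mem_M0 h hp (mulN_lt _ _ _ _ _), mem_M0 h hp hn, par_mul hp hn hu, hu2]
  cases par i n
  · right; simp
  · left; simp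

end

/-- the subgroup of the elements centralising or inverting `v` -/
def ciSub (v : G) : Subgroup G where
  carrier := {c | CI v c}
  mul_mem' := by
    intro a b ha hb
    have ha' := (ci_iff v a).1 ha
    have hb' := (ci_iff v b).1 hb
    refine (ci_iff v (a * b)).2 ?_
    have e : (a * b)⁻¹ * v * (a * b) = b⁻¹ * (a⁻¹ * v * a) * b := by simp only [mul_inv_rev, mul_assoc]
    have e2 : b⁻¹ * v⁻¹ * b = (b⁻¹ * v * b)⁻¹ := by simp only [mul_inv_rev, mul_assoc, inv_inv]
    rcases ha' with h1 | h1 <;> rcases hb' with h2 | h2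
    · left; rw [e, h1, h2]
    · right; rw [e, h1, h2]
    · right; rw [e, h1, e2, h2]
    · left; rw [e, h1, e2, h2, inv_inv]
  one_mem' := Or.inl (by rw [one_mul, mul_one])
  inv_mem' := by
    intro a ha
    refine (ci_iff v a⁻¹).2 ?_
    rcases (ci_iff v a).1 ha with h1 | h1
    · left
      rw [inv_inv]
      have : v = a * v * a⁻¹ := by
        conv_rhs => rw [← h1]
        simp [mul_assoc]
      exact this.symm
    · right
      rw [inv_inv]
      have : v⁻¹ = a * v * a⁻¹ := by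
        have h2 : a⁻¹ * v⁻¹ * a = v := by
          have := congrArg (·⁻¹) h1
          simpa only [mul_assoc, _root_.mul_inv_rev, _root_.inv_inv] using this
        have h3 : v⁻¹ = a * (a⁻¹ * v⁻¹ * a) * a⁻¹ := by simp [mul_assoc]
        rw [h3, h2]
      exact this.symm

section
variable [Finite G] {P : Subgroup G} {s t i : ℕ} {φ : ℕ → G} (h : Cod P s t i φ) (hp : chkPar s t i = true)
include h hp

/-- the number of cosets whose conjugate of `φ u` is outside `M0` -/
theorem odd_outside (hodd : Odd P.index) {u : ℕ} (hu8 : φ u ^ 8 = 1)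
    (hin : ∀ m < 64, par i m = false → φ m ^ 4 ≠ 1 → cnt s t i m < cnt s t i u) (hu4 : φ u ^ 4 ≠ 1)
    {v : ℕ} (hv : v < 64) (hv2 : par i v = true) :
    Odd (Nat.card {x : G ⧸ P // Odd1 P (M0 h hp) (φ u) x}) := by
  classical
  have hrel := relIndex_M0 h hp hv hv2
  have hle := M0_le h hp
  have h1 := odd_card_fix hodd (v := φ u) (k := 3) hu8
  have h2 : Nat.card {x : G ⧸ P // Pt P (fun w => w ∈ P) (φ u) x} =
      Nat.card {x : G ⧸ P // Pt P (fun w => w ∈ M0 h hp) (φ u) x} +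
        Nat.card {x : G ⧸ P // Odd1 P (M0 h hp) (φ u) x} := by
    rw [← Nat.card_sum]
    apply Nat.card_congr
    have h4 : ∀ x : G ⧸ P, Pt P (fun w => w ∈ P) (φ u) x ↔
        (Pt P (fun w => w ∈ M0 h hp) (φ u) x ∨ Odd1 P (M0 h hp) (φ u) x) := by
      intro x
      constructor
      · intro h6
        by_cases h7 : x.out⁻¹ * φ u * x.out ∈ M0 h hp
        · exact Or.inl h7
        · exact Or.inr ⟨h6, h7⟩
      · rintro (h6 | h6)
        · exact hle h6
        · exact h6.1
    refine (Equiv.subtypeEquivRight h4).trans ?_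
    apply subtypeOrEquiv
    rw [disjoint_iff_inf_le]
    rintro x ⟨h5, h6⟩
    exact h6.2 h5
  have h3 : Even (Nat.card {x : G ⧸ P // Pt P (fun w => w ∈ M0 h hp) (φ u) x}) := by
    by_contra hne
    rw [Nat.not_even_iff_odd] at hne
    have hD : IsPGroup 2 (P ⊓ ciSub (φ u) : Subgroup G) := by
      have h6 : IsPGroup 2 P := IsPGroup.of_card (n := 6) (by rw [card_P h]; norm_num)
      exact h6.to_le inf_le_left
    obtain ⟨g, hg1, hg2⟩ := exists_fixed (P := P) (S := fun w => w ∈ M0 h hp) (v := φ u)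
      (D := P ⊓ ciSub (φ u))
      (fun c hc w hw => (normal_of_relIndex hle hrel hc).2 hw) (fun w hw => (M0 h hp).inv_mem hw)
      (fun d hd => (Subgroup.mem_inf.1 hd).2) hD hne
    obtain ⟨m, hm, hm2, hm3⟩ := hg1
    have h5 := hin m hm hm2 (by
      rw [← hm3]
      intro h6
      apply hu4
      have e : g⁻¹ * φ u * g = g⁻¹ * φ u * g⁻¹⁻¹ := by rw [inv_inv]
      rw [e, conj_pow, inv_inv] at h6
      have := congrArg (fun z => g * z * g⁻¹) h6
      simpa only [mul_assoc, _root_.mul_inv_cancel_left, _root_.mul_inv_cancel, _root_.mul_one] using this)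
    rw [← card_ci h m, ← card_ci h u] at h5
    apply absurd h5
    rw [not_lt]
    refine Nat.card_le_card_of_injective
      (fun c => (⟨g⁻¹ * c.1 * g, hg2 _ (Subgroup.mem_inf.2 ⟨c.2.1, c.2.2⟩), ?_⟩ :
        {c : G // c ∈ P ∧ CI (φ m) c})) ?_
    · rw [← hm3]
      exact ci_conj g c.2.2
    · rintro ⟨a, ha⟩ ⟨b, hb⟩ hab
      have h7 : g⁻¹ * a * g = g⁻¹ * b * g := congrArg Subtype.val hab
      exact Subtype.ext (mul_left_cancel (mul_right_cancel h7))
  rw [h2] at h1
  rw [Nat.odd_iff] at h1 ⊢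
  rw [Nat.even_iff] at h3
  omega

/-- divisibility of the number of cosets whose conjugate of `w` is outside `M0` -/
theorem dvd_outside {w : G} {b : ℕ} {v : ℕ} (hv : v < 64) (hv2 : par i v = true)
    (hw : ∀ d ∈ P, CI w d)
    (hb : ∀ (g : G), ∀ m < 64, par i m = true → g⁻¹ * w * g = φ m → cnt s t i m ≤ 2 ^ b) :
    2 ^ (6 - b) ∣ Nat.card {x : G ⧸ P // Odd1 P (M0 h hp) w x} := by
  have hrel := relIndex_M0 h hp hv hv2
  have hle := M0_le h hp
  refine dvd_card (P := P) (S := fun w => w ∈ P ∧ w ∉ M0 h hp) (v := w) (D := P) (a := 6) (b := b)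
    ?_ ?_ hw (by rw [card_P h]; norm_num) ?_
  · intro c hc z hz
    refine ⟨P.mul_mem (P.mul_mem (P.inv_mem hc) hz.1) hc, fun h1 => hz.2 ?_⟩
    exact (normal_of_relIndex hle hrel hc).1 h1
  · intro z hz
    exact ⟨P.inv_mem hz.1, fun h1 => hz.2 (by simpa using (M0 h hp).inv_mem h1)⟩
  · rintro g ⟨hg1, hg2⟩
    obtain ⟨m, hm, hm2⟩ := h.surj _ hg1
    have h3 : par i m = true := by
      rw [hm2, mem_M0 h hp hm] at hg2
      simpa using hg2
    rw [hm2, card_ci h m]
    exact hb g m hm h3 hm2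

/-- **Elimination A**. -/
theorem false_A (hG : ∀ H : Subgroup G, H.index ≠ 2) (hodd : Odd P.index) {u : ℕ}
    (hc : chkA s t i u = true) {v : ℕ} (hv : v < 64) (hv2 : par i v = true) : False := by
  unfold chkA at hc
  rw [Bool.and_eq_true, Bool.and_eq_true, Bool.and_eq_true, Bool.not_eq_true', Nat.beq_eq] at hc
  obtain ⟨⟨⟨hc1, hc2⟩, hc3⟩, hc4⟩ := hc
  have hu8 : φ u ^ 8 = 1 := by rw [eight_eq h, hc2, h.one]
  have hu4 : φ u ^ 4 ≠ 1 := by
    rw [four_eq h]
    intro h1
    rw [eq_one_iff h (sq_lt _ _ _ _)] at h1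
    rw [h1] at hc1
    simp at hc1
  have hconj : ∀ (g w : G) (n : ℕ), (g⁻¹ * w * g) ^ n = g⁻¹ * w ^ n * g := by
    intro g w n
    have e : g⁻¹ * w * g = g⁻¹ * w * g⁻¹⁻¹ := by rw [inv_inv]
    rw [e, conj_pow, inv_inv]
  have h4m : ∀ m < 64, (par i m = false → φ m ^ 4 ≠ 1 → cnt s t i m < cnt s t i u) ∧
      (par i m = true → φ m ^ 2 ≠ 1 → φ m ^ 4 = 1 → cnt s t i m ≤ 16) ∧
      (par i m = true → φ m ^ 2 = 1 → cnt s t i m ≤ 8) := by
    intro m hm
    have h5 := List.all_eq_true.1 hc4 m (List.mem_range.2 hm)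
    rw [Bool.and_eq_true, Bool.and_eq_true] at h5
    obtain ⟨⟨h6, h7⟩, h8⟩ := h5
    rw [four_eq h, sq_eq h, Ne, Ne, eq_one_iff h (sq_lt _ _ _ _), eq_one_iff h (sq_lt _ _ _ _)]
    simp only [Bool.or_eq_true, Nat.beq_eq, Nat.ble_eq, Nat.blt_eq] at h6 h7 h8
    refine ⟨fun h9 h10 => ?_, fun h9 h10 h11 => ?_, fun h9 h10 => ?_⟩
    · rcases h6 with (h6 | h6) | h6
      · rw [h9] at h6; simp at h6
      · exact absurd h6 h10
      · exact h6
    · rcases h7 with ((h7 | h7) | h7) | h7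
      · rw [h9] at h7; simp at h7
      · exact absurd h7 h10
      · rw [h11] at h7; exact absurd h7 (by decide)
      · exact h7
    · rcases h8 with (h8 | h8) | h8
      · rw [h9] at h8; simp at h8
      · rw [h10] at h8; exact absurd h8 (by decide)
      · exact h8
  obtain ⟨c2, c4, k2, k4, hev⟩ := TrEight.exists_counts hG (M0_le h hp) (relIndex_M0 h hp hv hv2) (φ u) hu8
  have o1 := odd_outside h hp hodd hu8 (fun m hm => (h4m m hm).1) hu4 hv hv2
  have hci : ∀ d ∈ P, CI (φ u ^ 2) d ∧ CI (φ u ^ 4) d := by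
    intro d hd
    obtain ⟨n, hn, rfl⟩ := h.surj d hd
    have h5 := List.all_eq_true.1 hc3 n (List.mem_range.2 hn)
    rw [Bool.and_eq_true] at h5
    rw [sq_eq h, four_eq h, ci_iff_ciN h hn, ci_iff_ciN h hn]
    exact h5
  have d4 := dvd_outside h hp (w := φ u ^ 4) (b := 3) hv hv2 (fun d hd => (hci d hd).2) (by
    intro g m hm hm2 hm3
    apply (h4m m hm).2.2 hm2
    rw [← hm3, hconj, ← pow_mul, hu8]
    simp)
  have d2 := dvd_outside h hp (w := φ u ^ 2) (b := 4) hv hv2 (fun d hd => (hci d hd).1) (by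
    intro g m hm hm2 hm3
    apply (h4m m hm).2.1 hm2
    · rw [← hm3, hconj, ← pow_mul]
      intro h5
      apply hu4
      have := congrArg (fun z => g * z * g⁻¹) h5
      simpa only [mul_assoc, _root_.Nat.reduceMul, _root_.mul_inv_cancel_left, _root_.mul_inv_cancel, _root_.mul_one] using this
    · rw [← hm3, hconj, ← pow_mul, hu8]
      simp)
  rw [k4] at d4
  rw [k2] at d2
  norm_num at d4 d2
  rw [Nat.odd_iff] at o1
  rw [Nat.even_iff] at hev
  omega

end

/-- **Elimination B**: type `(1, 1, 0)`. -/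
theorem false_B [Finite G] {P : Subgroup G} {φ : ℕ → G} (h : Cod P 1 1 0 φ)
    (hG : ∀ H : Subgroup G, H.index ≠ 2) (hodd : Odd P.index) : False := by
  classical
  have hp := par_110
  have hc := chkB_true
  unfold chkB at hc
  rw [Bool.and_eq_true] at hc
  obtain ⟨hc1, hc2⟩ := hc
  have hrel := relIndex_M0 h hp (u := 48) (by norm_num) (by decide)
  have hle := M0_le h hp
  have hconj : ∀ (g w : G) (n : ℕ), (g⁻¹ * w * g) ^ n = g⁻¹ * w ^ n * g := by
    intro g w n
    have e : g⁻¹ * w * g = g⁻¹ * w * g⁻¹⁻¹ := by rw [inv_inv]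
    rw [e, conj_pow, inv_inv]
  have hconjm : ∀ (g a b : G), (g⁻¹ * a * g) * (g⁻¹ * b * g) = g⁻¹ * (a * b) * g := by
    intro g a b; simp only [mul_assoc, _root_.mul_inv_cancel_left]
  have hu4 : φ 48 ^ 4 = 1 := by
    rw [four_eq h]
    exact (eq_one_iff h (sq_lt _ _ _ _)).2 (by decide)
  have hev := Cfsg.Agent.LargeExtra.TransferPow.even_card_odd1 hG hle hrel (φ 48) (k := 2) hu4 (by
    intro m g hm hg
    obtain ⟨n, hn, hn2⟩ := h.surj _ hg
    rw [hn2, mem_M0 h hp hn]
    by_contra hne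
    have h1 : par 0 n = true := by simpa using hne
    have h2 := List.all_eq_true.1 hc1 n (List.mem_range.2 hn)
    rw [h1] at h2
    have h3 : sq 1 1 0 n = 0 := by
      rw [← eq_one_iff h (sq_lt _ _ _ _), ← sq_eq h, ← hn2, hconj, ← pow_mul]
      obtain ⟨k, rfl⟩ := hm
      rw [show 2 * k * 2 = 4 * k by ring, pow_mul, hu4]
      simp
    rw [h3] at h2
    exact absurd h2 (by decide))
  have h1 := odd_card_fix hodd (v := φ 48) (k := 2) hu4
  have h2 : Nat.card {x : G ⧸ P // Pt P (fun w => w ∈ P) (φ 48) x} =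
      Nat.card {x : G ⧸ P // Pt P (fun w => w ∈ M0 h hp) (φ 48) x} +
        Nat.card {x : G ⧸ P // Odd1 P (M0 h hp) (φ 48) x} := by
    rw [← Nat.card_sum]
    apply Nat.card_congr
    have h4 : ∀ x : G ⧸ P, Pt P (fun w => w ∈ P) (φ 48) x ↔
        (Pt P (fun w => w ∈ M0 h hp) (φ 48) x ∨ Odd1 P (M0 h hp) (φ 48) x) := by
      intro x
      constructor
      · intro h6
        by_cases h7 : x.out⁻¹ * φ 48 * x.out ∈ M0 h hp
        · exact Or.inl h7
        · exact Or.inr ⟨h6, h7⟩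
      · rintro (h6 | h6)
        · exact hle h6
        · exact h6.1
    refine (Equiv.subtypeEquivRight h4).trans ?_
    apply subtypeOrEquiv
    rw [disjoint_iff_inf_le]
    rintro x ⟨h5, h6⟩
    exact h6.2 h5
  have h3 : Odd (Nat.card {x : G ⧸ P // Pt P (fun w => w ∈ M0 h hp) (φ 48) x}) := by
    rw [h2] at h1
    rw [Nat.odd_iff] at h1 ⊢
    rw [Nat.even_iff] at hev
    omega
  have hD : IsPGroup 2 (P ⊓ ciSub (φ 48) : Subgroup G) := by
    have h6 : IsPGroup 2 P := IsPGroup.of_card (n := 6) (by rw [card_P h]; norm_num)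
    exact h6.to_le inf_le_left
  obtain ⟨g, hg1, hg2⟩ := exists_fixed (P := P) (S := fun w => w ∈ M0 h hp) (v := φ 48)
    (D := P ⊓ ciSub (φ 48))
    (fun c hc w hw => (normal_of_relIndex hle hrel hc).2 hw) (fun w hw => (M0 h hp).inv_mem hw)
    (fun d hd => (Subgroup.mem_inf.1 hd).2) hD h3
  obtain ⟨p, hpl, hpp, hpe⟩ := hg1
  obtain ⟨q, hq, hqe⟩ := h.surj _ (hg2 (φ 2) (Subgroup.mem_inf.2 ⟨h.mem 2,
    (ci_iff_ciN h (by norm_num)).2 (by decide)⟩))
  obtain ⟨v, hv, hve⟩ := h.surj _ (hg2 (φ 16) (Subgroup.mem_inf.2 ⟨h.mem 16,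
    (ci_iff_ciN h (by norm_num)).2 (by decide)⟩))
  have hinj : ∀ a b : G, g⁻¹ * a * g = g⁻¹ * b * g → a = b := fun a b hab =>
    mul_left_cancel (mul_right_cancel hab)
  -- the relations
  have r1 : sq 1 1 0 p ≠ 0 := by
    rw [Ne, ← eq_one_iff h (sq_lt _ _ _ _), ← sq_eq h, ← hpe, hconj]
    intro h5
    have h6 : φ 48 ^ 2 = 1 := hinj _ _ (by rw [h5]; simp)
    rw [sq_eq h, eq_one_iff h (sq_lt _ _ _ _)] at h6
    exact absurd h6 (by decide)
  have r2 : sq 1 1 0 (sq 1 1 0 p) = 0 := by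
    rw [← eq_one_iff h (sq_lt _ _ _ _), ← four_eq h, ← hpe, hconj, hu4]
    simp
  have r3 : sq 1 1 0 q ≠ 0 := by
    rw [Ne, ← eq_one_iff h (sq_lt _ _ _ _), ← sq_eq h, ← hqe, hconj]
    intro h5
    have h6 : φ 2 ^ 2 = 1 := hinj _ _ (by rw [h5]; simp)
    rw [sq_eq h, eq_one_iff h (sq_lt _ _ _ _)] at h6
    exact absurd h6 (by decide)
  have r4 : sq 1 1 0 (sq 1 1 0 q) = 0 := by
    rw [← eq_one_iff h (sq_lt _ _ _ _), ← four_eq h, ← hqe, hconj, four_eq h]
    rw [(eq_one_iff h (sq_lt _ _ _ _)).2 (by decide)]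
    simp
  have r5 : mulN 1 1 0 p q = mulN 1 1 0 q p := by
    apply h.inj _ (mulN_lt _ _ _ _ _) _ (mulN_lt _ _ _ _ _)
    rw [← h.mul, ← h.mul, ← hpe, ← hqe, hconjm, hconjm, h.mul, h.mul]
    rfl
  have r6 : sq 1 1 0 p ≠ sq 1 1 0 q := by
    intro h5
    have h6 : φ 48 ^ 2 = φ 2 ^ 2 := by
      apply hinj
      rw [← hconj, ← hconj, hpe, hqe, sq_eq h, sq_eq h, h5]
    rw [sq_eq h, sq_eq h] at h6
    have h7 := h.inj _ (sq_lt _ _ _ _) _ (sq_lt _ _ _ _) h6
    exact absurd h7 (by decide)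
  have r7 : mulN 1 1 0 (mulN 1 1 0 p v) p = v := by
    apply h.inj _ (mulN_lt _ _ _ _ _) _ hv
    rw [← h.mul, ← h.mul, ← hpe, ← hve, hconjm, hconjm, h.mul, h.mul]
    rfl
  have r8 : mulN 1 1 0 (mulN 1 1 0 q v) q = v := by
    apply h.inj _ (mulN_lt _ _ _ _ _) _ hv
    rw [← h.mul, ← h.mul, ← hqe, ← hve, hconjm, hconjm, h.mul, h.mul]
    rfl
  have r9 : sq 1 1 0 v = sq 1 1 0 q := by
    apply h.inj _ (sq_lt _ _ _ _) _ (sq_lt _ _ _ _)
    rw [← sq_eq h, ← sq_eq h, ← hqe, ← hve, hconj, hconj, sq_eq h, sq_eq h]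
    rfl
  have h5 := List.all_eq_true.1 hc2 p (List.mem_range.2 hpl)
  rw [hpp, r2] at h5
  simp only [Bool.or_eq_true, Nat.beq_eq] at h5
  rcases h5 with ((h5 | h5) | h5) | h5
  · exact absurd h5 (by decide)
  · exact r1 h5
  · exact absurd h5 (by decide)
  · have h6 := List.all_eq_true.1 h5 q (List.mem_range.2 hq)
    rw [r4, r5] at h6
    simp only [Bool.or_eq_true, Nat.beq_eq] at h6
    rcases h6 with (((h6 | h6) | h6) | h6) | h6
    · exact r3 h6
    · exact absurd h6 (by decide)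
    · rw [Bool.not_eq_true'] at h6
      have : Nat.beq (mulN 1 1 0 q p) (mulN 1 1 0 q p) = true := by rw [Nat.beq_eq]
      rw [this] at h6
      exact absurd h6 (by decide)
    · exact r6 h6
    · have h7 := List.all_eq_true.1 h6 v (List.mem_range.2 hv)
      rw [r7, r8, r9] at h7
      have e1 : Nat.beq v v = true := by rw [Nat.beq_eq]
      have e2 : Nat.beq (sq 1 1 0 q) (sq 1 1 0 q) = true := by rw [Nat.beq_eq]
      rw [e1, e2] at h7
      exact absurd h7 (by decide)

end Cfsg.Agent.H333.Elim64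
end

private theorem dce_90a867486e05 : _root_.True := by
  try have : _root_.True := by simp only [_root_.Cfsg.Agent.H333.Elim64.M0.congr_simp]
  exact _root_.True.intro
end

-- part: S3296
section
set_option linter.all false
open scoped Cfsg.Agent.FastGrp

-- part: H333/Ex64
section
/-!
# Groups of order 64 with a self-centralizing element of order 8 conjugate to its odd powers (helper333)
-/

set_option autoImplicit false

namespace Cfsg.Agent.H333.Ex64

open Cfsg.Agent.H333.Mod64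

variable {H : Type*} [Group H]

section
variable {f : H} (hf : orderOf f = 8)
include hf

theorem exists_pow {z : H} (h : z ∈ Subgroup.zpowers f) : ∃ r < 8, z = f ^ r := by
  obtain ⟨k, rfl⟩ := Subgroup.mem_zpowers_iff.1 h
  refine ⟨(k % 8).toNat, by omega, ?_⟩
  rw [← zpow_natCast, Int.toNat_of_nonneg (by omega)]
  have := zpow_mod_orderOf f k
  rw [hf] at this
  exact this.symm

theorem pow_inj {m n : ℕ} (h : f ^ m = f ^ n) : m % 8 = n % 8 := by
  have := pow_inj_mod.1 h
  rwa [hf] at this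

theorem f8 : f ^ 8 = 1 := by rw [← hf]; exact pow_orderOf_eq_one f

end

theorem mem_normalizer_zpowers [Finite H] {f n : H} (h : n * f * n⁻¹ ∈ Subgroup.zpowers f) :
    n ∈ Subgroup.normalizer (Subgroup.zpowers f : Set H) := by
  have hle : (Subgroup.zpowers f).map (MulAut.conj n).toMonoidHom ≤ Subgroup.zpowers f := by
    rw [MonoidHom.map_zpowers, Subgroup.zpowers_le]
    exact h
  have heq : (Subgroup.zpowers f).map (MulAut.conj n).toMonoidHom = Subgroup.zpowers f := by
    apply Subgroup.eq_of_le_of_card_ge hle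
    rw [Subgroup.card_map_of_injective (MulAut.conj n).injective]
  rw [Subgroup.mem_normalizer_iff]
  intro z
  constructor
  · intro hz
    have : (MulAut.conj n).toMonoidHom z ∈ (Subgroup.zpowers f).map (MulAut.conj n).toMonoidHom :=
      Subgroup.mem_map_of_mem _ hz
    rw [heq] at this
    exact this
  · intro hz
    rw [← heq] at hz
    obtain ⟨w, hw, hwz⟩ := hz
    have : w = z := (MulAut.conj n).injective hwz
    rw [← this]; exact hw

/-- The normalizer of `⟨f⟩` has order 32. -/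
theorem card_normalizer [Finite H] {f : H} (hf : orderOf f = 8)
    (hself : ∀ x, x * f = f * x → x ∈ Subgroup.zpowers f)
    (hodd : ∀ k ∈ ({3, 5, 7} : Set ℕ), ∃ x, x * f * x⁻¹ = f ^ k) :
    Nat.card (Subgroup.normalizer (Subgroup.zpowers f : Set H)) = 32 := by
  obtain ⟨x3, h3⟩ := hodd 3 (by simp)
  obtain ⟨x5, h5⟩ := hodd 5 (by simp)
  obtain ⟨x7, h7⟩ := hodd 7 (by simp)
  let X : Fin 4 → H := ![1, x3, x5, x7]
  let K : Fin 4 → ℕ := ![1, 3, 5, 7]
  have hX : ∀ j, X j * f * (X j)⁻¹ = f ^ K j := by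
    intro j
    fin_cases j
    · show (1 : H) * f * 1⁻¹ = f ^ 1
      simp
    · exact h3
    · exact h5
    · exact h7
  have hconj : ∀ (j : Fin 4) (r : ℕ), (X j * f ^ r) * f * (X j * f ^ r)⁻¹ = f ^ K j := by
    intro j r
    have e : (X j * f ^ r) * f * (X j * f ^ r)⁻¹ = X j * (f ^ r * f * (f ^ r)⁻¹) * (X j)⁻¹ := by
      simp only [mul_assoc, mul_inv_rev]
    have e2 : f ^ r * f * (f ^ r)⁻¹ = f := by
      rw [← pow_succ, pow_succ', mul_assoc, mul_inv_cancel, mul_one]
    rw [e, e2, hX]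
  let F : Fin 4 × Fin 8 → Subgroup.normalizer (Subgroup.zpowers f : Set H) := fun a =>
    ⟨X a.1 * f ^ (a.2 : ℕ), mem_normalizer_zpowers (by
      rw [hconj]; exact Subgroup.npow_mem_zpowers f _)⟩
  have hF : Function.Bijective F := by
    constructor
    · rintro ⟨j, r⟩ ⟨j', r'⟩ h
      have h1 : X j * f ^ (r : ℕ) = X j' * f ^ (r' : ℕ) := congrArg Subtype.val h
      have h2 : f ^ K j = f ^ K j' := by rw [← hconj j r, ← hconj j' r', h1]
      have h4 := pow_inj hf h2
      have h6 : j = j' := by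
        revert h4
        fin_cases j <;> fin_cases j' <;> simp [K]
      subst h6
      have h7 := pow_inj hf (mul_left_cancel h1)
      have h8 : r = r' := by
        apply Fin.ext
        have := r.2
        have := r'.2
        omega
      rw [h8]
    · rintro ⟨n, hn⟩
      have h1 : n * f * n⁻¹ ∈ Subgroup.zpowers f :=
        (Subgroup.mem_normalizer_iff.1 hn f).1 (Subgroup.mem_zpowers f)
      obtain ⟨k, hk, hkn⟩ := exists_pow hf h1
      -- `k` is odd
      have hko : k % 2 = 1 := by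
        by_contra hne
        have h2 : (n * f * n⁻¹) ^ 4 = 1 := by
          rw [hkn, ← pow_mul]
          have : k * 4 = 8 * (k / 2) := by omega
          rw [this, pow_mul, f8 hf, one_pow]
        rw [conj_pow] at h2
        have h4 : f ^ 4 = 1 := by
          have := congrArg (fun z => n⁻¹ * z * n) h2
          simpa only [mul_assoc, _root_.inv_mul_cancel_left, _root_.inv_mul_cancel, _root_.mul_one] using this
        have h6 : f ^ 4 = f ^ 0 := by rw [h4, pow_zero]
        have := pow_inj hf h6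
        omega
      obtain ⟨j, hj⟩ : ∃ j : Fin 4, K j = k := by
        have : k = 1 ∨ k = 3 ∨ k = 5 ∨ k = 7 := by omega
        rcases this with rfl | rfl | rfl | rfl
        · exact ⟨0, rfl⟩
        · exact ⟨1, rfl⟩
        · exact ⟨2, rfl⟩
        · exact ⟨3, rfl⟩
      have h2 : (X j)⁻¹ * n * f = f * ((X j)⁻¹ * n) := by
        have h4 : n * f * n⁻¹ = X j * f * (X j)⁻¹ := by rw [hX, hj, hkn]
        have h6 : n * f = X j * f * (X j)⁻¹ * n := by rw [← h4]; simp [mul_assoc]
        rw [mul_assoc, h6]; simp [mul_assoc]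
      obtain ⟨r, hr, hrn⟩ := exists_pow hf (hself _ h2)
      refine ⟨(j, ⟨r, hr⟩), ?_⟩
      apply Subtype.ext
      show X j * f ^ r = n
      rw [← hrn, mul_inv_cancel_left]
  rw [← Nat.card_eq_of_bijective F hF]
  simp

theorem fred {f : H} (hf : orderOf f = 8) (n : ℕ) : f ^ n = f ^ (n % 8) := pow_eq_pow_mod n (f8 hf)

/-- an element `b` of the coset of an element acting as `f ↦ f ^ 5` on `⟨f⟩`, for a conjugate `f'` of `f` -/
theorem exists_b [Finite H] (hH : Nat.card H = 64) {f : H} (hf : orderOf f = 8)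
    (hself : ∀ x, x * f = f * x → x ∈ Subgroup.zpowers f)
    (hodd : ∀ k ∈ ({3, 5, 7} : Set ℕ), ∃ x, x * f * x⁻¹ = f ^ k) :
    ∃ b g : H, b * b = 1 ∧ b * f = f ^ 5 * b ∧ b ∉ Subgroup.zpowers f ∧ g * f * g⁻¹ = f * b := by
  have hN := card_normalizer hf hself hodd
  set N := Subgroup.normalizer (Subgroup.zpowers f : Set H) with hNdef
  have hidx : N.index = 2 := by
    have := N.card_mul_index
    rw [hN, hH] at this
    omega
  have hnorm : N.Normal := Subgroup.normal_of_index_eq_two hidx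
  obtain ⟨g, hg⟩ : ∃ g, g ∉ N := by
    by_contra hcon
    push Not at hcon
    have : N = ⊤ := eq_top_iff.2 fun z _ => hcon z
    rw [this, Subgroup.index_top] at hidx
    omega
  have hfN : f ∈ N := Subgroup.le_normalizer (Subgroup.mem_zpowers f)
  obtain ⟨f', hf'⟩ : ∃ f', f' = g * f * g⁻¹ := ⟨_, rfl⟩
  have hf'N : f' ∈ N := by rw [hf']; exact hnorm.conj_mem f hfN g
  have hf'n : f' ∉ Subgroup.zpowers f := fun h => hg (mem_normalizer_zpowers (by rw [← hf']; exact h))
  -- `f' f f'⁻¹ = f ^ k`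
  obtain ⟨k, hk, hkn⟩ := exists_pow hf ((Subgroup.mem_normalizer_iff.1 hf'N f).1 (Subgroup.mem_zpowers f))
  have hkn' : f' * f = f ^ k * f' := by rw [← hkn]; simp [mul_assoc]
  have hpow : ∀ n : ℕ, f' * f ^ n = f ^ (k * n) * f' := by
    intro n
    induction n with
    | zero => simp
    | succ n ih =>
      rw [pow_succ, ← mul_assoc, ih, mul_assoc, hkn', ← mul_assoc, ← pow_add]
      congr 2
  have hord : orderOf f' = 8 := by
    rw [hf', ← hf]
    exact orderOf_injective (MulAut.conj g).toMonoidHom (MulAut.conj g).injective f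
  have hfsq : f' * f' * f = f ^ (k * k) * (f' * f') := by
    rw [mul_assoc, hkn', ← mul_assoc, hpow, mul_assoc]
  -- `k` odd
  have hko : k % 2 = 1 := by
    by_contra hne
    have h2 : f' * f ^ 4 = f' := by
      rw [hpow]
      have : k * 4 = 8 * (k / 2) := by omega
      rw [this, pow_mul, f8 hf, one_pow, one_mul]
    have h3 : f ^ 4 = f ^ 0 := by rw [pow_zero]; exact mul_eq_left.1 h2
    have := pow_inj hf h3
    omega
  have hkk : f ^ (k * k) = f := by
    have hk4 : k = 1 ∨ k = 3 ∨ k = 5 ∨ k = 7 := by omega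
    rcases hk4 with rfl | rfl | rfl | rfl <;> rw [fred hf] <;> norm_num
  rw [hkk] at hfsq
  obtain ⟨m, hm, hm2⟩ := exists_pow hf (hself _ hfsq)
  -- `m` is `2` or `6`
  have hf'8 := f8 hord
  have hm4 : m = 2 ∨ m = 6 := by
    have h1 : f ^ (m * 4) = f ^ 0 := by
      rw [pow_mul, ← hm2, pow_zero, ← pow_two, ← pow_mul]
      exact hf'8
    have h2 := pow_inj hf h1
    have h3 : ¬ (m * 2 % 8 = 0) := by
      intro h
      have h4 : f ^ (m * 2) = 1 := by rw [fred hf, h, pow_zero]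
      have h5 : f' ^ 4 = f' ^ 0 := by
        rw [pow_mul, ← hm2, ← pow_two, ← pow_mul] at h4
        rw [pow_zero]; exact h4
      have := pow_inj hord h5
      omega
    omega
  -- `k = 5`
  have hk5 : k = 5 := by
    have h1 : f' * f ^ m = f ^ m * f' := by rw [← hm2]; simp only [mul_assoc]
    rw [hpow] at h1
    have h2 := pow_inj hf (mul_right_cancel h1)
    have hk4 : k = 1 ∨ k = 3 ∨ k = 5 ∨ k = 7 := by omega
    rcases hk4 with rfl | rfl | rfl | rfl
    · exfalso
      apply hf'n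
      apply hself
      rw [hkn', pow_one]
    · rcases hm4 with rfl | rfl <;> omega
    · rfl
    · rcases hm4 with rfl | rfl <;> omega
  subst hk5
  obtain ⟨x7, h7⟩ := hodd 7 (by simp)
  have hfb : ∀ j, f ^ j * f' = f' * f ^ (5 * j) := by
    intro j
    rw [hpow, fred hf (5 * (5 * j)), fred hf j]
    congr 2
    omega
  rcases hm4 with rfl | rfl
  · -- `b = f' f`
    refine ⟨f' * f, g * x7, ?_, ?_, ?_, ?_⟩
    · have h1 : f' * f * (f' * f) = f' * (f ^ 1 * f') * f := by rw [pow_one]; simp only [mul_assoc]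
      rw [h1, hfb]
      have h2 : f' * (f' * f ^ (5 * 1)) * f = (f' * f') * (f ^ (5 * 1) * f) := by simp only [mul_assoc]
      rw [h2, hm2, ← pow_succ, ← pow_add]
      exact f8 hf
    · rw [hkn']; simp only [mul_assoc]; rw [hkn']
    · intro h
      apply hf'n
      exact (Subgroup.mul_mem_cancel_right _ (Subgroup.mem_zpowers f)).1 h
    · have h1 : g * x7 * f * (g * x7)⁻¹ = f' ^ 7 := by
        have : g * x7 * f * (g * x7)⁻¹ = g * (x7 * f * x7⁻¹) * g⁻¹ := by simp only [mul_assoc, _root_.mul_inv_rev]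
        rw [this, h7, hf', conj_pow]
      rw [h1]
      have h3 : f' ^ 7 = (f' * f') * (f' * f') * (f' * f') * f' := by
        rw [show 7 = 2 + 2 + 2 + 1 from rfl, pow_add, pow_add, pow_add, pow_one, pow_two]
      rw [h3, hm2, ← pow_add, ← pow_add, hkn', ← mul_assoc, ← pow_succ']
  · -- `b = f' f ^ 3`
    refine ⟨f' * f ^ 3, g, ?_, ?_, ?_, ?_⟩
    · have h1 : f' * f ^ 3 * (f' * f ^ 3) = f' * (f ^ 3 * f') * f ^ 3 := by simp only [mul_assoc]
      rw [h1, hfb]
      have h2 : f' * (f' * f ^ (5 * 3)) * f ^ 3 = (f' * f') * (f ^ (5 * 3) * f ^ 3) := by simp only [mul_assoc]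
      rw [h2, hm2, ← pow_add, ← pow_add, fred hf]
      norm_num
    · calc f' * f ^ 3 * f = (f' * f) * f ^ 3 := by
            rw [mul_assoc, mul_assoc, ← pow_succ, ← pow_succ']
        _ = f ^ 5 * (f' * f ^ 3) := by rw [hkn', mul_assoc]
    · intro h
      apply hf'n
      exact (Subgroup.mul_mem_cancel_right _ (Subgroup.npow_mem_zpowers f 3)).1 h
    · rw [← hf', hpow, ← mul_assoc, ← pow_succ', fred hf]
      norm_num

/-- an element normalising `⟨f⟩` and `⟨f⟩b` maps `b` to `b` or `f ^ 4 * b` -/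
theorem conj_b {f b n : H} (hf : orderOf f = 8) (hself : ∀ x, x * f = f * x → x ∈ Subgroup.zpowers f)
    (hbb : b * b = 1) (hbf : b * f = f ^ 5 * b) {k : ℕ} (hn : n * f * n⁻¹ = f ^ k) :
    n * b * n⁻¹ = b ∨ n * b * n⁻¹ = f ^ 4 * b := by
  have hbpow : ∀ j : ℕ, b * f ^ j = f ^ (5 * j) * b := by
    intro j
    induction j with
    | zero => simp
    | succ j ih => rw [pow_succ, ← mul_assoc, ih, mul_assoc, hbf, ← mul_assoc, ← pow_add]; congr 2
  obtain ⟨b1, hb1⟩ : ∃ b1, b1 = n * b * n⁻¹ := ⟨_, rfl⟩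
  rw [← hb1]
  have hb11 : b1 * b1 = 1 := by
    have : n * b * n⁻¹ * (n * b * n⁻¹) = n * (b * b) * n⁻¹ := by simp [mul_assoc]
    rw [hb1, this, hbb]; simp
  -- the action of `b1` on `f ^ k`
  have h1 : b1 * f ^ k = f ^ (5 * k) * b1 := by
    have e : n * f * n⁻¹ = f ^ k := hn
    calc b1 * f ^ k = n * b * n⁻¹ * (n * f * n⁻¹) := by rw [hb1, hn]
      _ = n * (b * f) * n⁻¹ := by simp only [mul_assoc, _root_.inv_mul_cancel_left]
      _ = n * (f ^ 5 * b) * n⁻¹ := by rw [hbf]
      _ = (n * f ^ 5 * n⁻¹) * (n * b * n⁻¹) := by simp only [mul_assoc, _root_.inv_mul_cancel_left]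
      _ = f ^ (5 * k) * b1 := by rw [← conj_pow, hn, ← pow_mul, mul_comm k 5, hb1]
  -- `k` is odd
  have hko : k % 2 = 1 := by
    by_contra hne
    have h2 : (n * f * n⁻¹) ^ 4 = 1 := by
      rw [hn, ← pow_mul]
      have : k * 4 = 8 * (k / 2) := by omega
      rw [this, pow_mul, f8 hf, one_pow]
    rw [conj_pow] at h2
    have h4 : f ^ 4 = 1 := by
      have := congrArg (fun z => n⁻¹ * z * n) h2
      simpa only [mul_assoc, _root_.inv_mul_cancel_left, _root_.inv_mul_cancel, _root_.mul_one] using this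
    have h6 : f ^ 4 = f ^ 0 := by rw [h4, pow_zero]
    have := pow_inj hf h6
    omega
  -- so `b1` acts on `f` as `b`
  have h2 : ∀ j : ℕ, b1 * f ^ (k * j) = f ^ (5 * (k * j)) * b1 := by
    intro j
    induction j with
    | zero => simp
    | succ j ih =>
      rw [mul_add, mul_one, pow_add, ← mul_assoc, ih, mul_assoc, h1, ← mul_assoc, ← pow_add]
      congr 2
      ring
  have h3 : b1 * f = f ^ 5 * b1 := by
    have h4 := h2 k
    rw [fred hf (k * k), fred hf (5 * (k * k))] at h4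
    have h5 : k * k % 8 = 1 := by
      have : k % 8 = 1 ∨ k % 8 = 3 ∨ k % 8 = 5 ∨ k % 8 = 7 := by omega
      rcases this with h | h | h | h <;> rw [Nat.mul_mod, h]
    have h6 : 5 * (k * k) % 8 = 5 := by omega
    rw [h5, h6, pow_one] at h4
    exact h4
  -- `b1 b` centralises `f`
  have h4 : b1 * b * f = f * (b1 * b) := by
    have h5 : ∀ j : ℕ, b1 * f ^ j = f ^ (5 * j) * b1 := by
      intro j
      induction j with
      | zero => simp
      | succ j ih => rw [pow_succ, ← mul_assoc, ih, mul_assoc, h3, ← mul_assoc, ← pow_add]; congr 2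
    rw [mul_assoc, hbf, ← mul_assoc, h5, fred hf]
    norm_num only [_root_.pow_one]
    rw [mul_assoc]
  obtain ⟨r, hr, hr2⟩ := exists_pow hf (hself _ h4)
  have h5 : b1 = f ^ r * b := by rw [← hr2, mul_assoc, hbb, mul_one]
  have h6 : f ^ (r * 6) = f ^ 0 := by
    rw [h5] at hb11
    have : f ^ r * b * (f ^ r * b) = f ^ r * (b * f ^ r) * b := by simp only [mul_assoc]
    rw [this, hbpow] at hb11
    have : f ^ r * (f ^ (5 * r) * b) * b = f ^ r * f ^ (5 * r) * (b * b) := by simp only [mul_assoc]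
    rw [this, hbb, mul_one, ← pow_add] at hb11
    rw [pow_zero, ← hb11]
    congr 1
    ring
  have h7 := pow_inj hf h6
  have h8 : r = 0 ∨ r = 4 := by omega
  rcases h8 with rfl | rfl
  · left; rw [h5, pow_zero, one_mul]
  · right; exact h5


/-- two involutions acting as `f ↦ f ^ 5` -/
theorem two_b {f b b1 : H} (hf : orderOf f = 8) (hself : ∀ x, x * f = f * x → x ∈ Subgroup.zpowers f)
    (hbb : b * b = 1) (hbf : b * f = f ^ 5 * b) (hb11 : b1 * b1 = 1) (h3 : b1 * f = f ^ 5 * b1) :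
    b1 = b ∨ b1 = f ^ 4 * b := by
  have hbpow : ∀ j : ℕ, b * f ^ j = f ^ (5 * j) * b := by
    intro j
    induction j with
    | zero => simp
    | succ j ih => rw [pow_succ, ← mul_assoc, ih, mul_assoc, hbf, ← mul_assoc, ← pow_add]; congr 2
  have h4 : b1 * b * f = f * (b1 * b) := by
    have h5 : ∀ j : ℕ, b1 * f ^ j = f ^ (5 * j) * b1 := by
      intro j
      induction j with
      | zero => simp
      | succ j ih => rw [pow_succ, ← mul_assoc, ih, mul_assoc, h3, ← mul_assoc, ← pow_add]; congr 2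
    rw [mul_assoc, hbf, ← mul_assoc, h5, fred hf]
    norm_num only [_root_.pow_one]
    rw [mul_assoc]
  obtain ⟨r, hr, hr2⟩ := exists_pow hf (hself _ h4)
  have h5 : b1 = f ^ r * b := by rw [← hr2, mul_assoc, hbb, mul_one]
  have h6 : f ^ (r * 6) = f ^ 0 := by
    rw [h5] at hb11
    have : f ^ r * b * (f ^ r * b) = f ^ r * (b * f ^ r) * b := by simp only [mul_assoc]
    rw [this, hbpow] at hb11
    have : f ^ r * (f ^ (5 * r) * b) * b = f ^ r * f ^ (5 * r) * (b * b) := by simp only [mul_assoc]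
    rw [this, hbb, mul_one, ← pow_add] at hb11
    rw [pow_zero, ← hb11]
    congr 1
    ring
  have h7 := pow_inj hf h6
  have h8 : r = 0 ∨ r = 4 := by omega
  rcases h8 with rfl | rfl
  · left; rw [h5, pow_zero, one_mul]
  · right; exact h5

theorem exists_rel [Finite H] (hH : Nat.card H = 64) {f : H} (hf : orderOf f = 8)
    (hself : ∀ x, x * f = f * x → x ∈ Subgroup.zpowers f)
    (hodd : ∀ k ∈ ({3, 5, 7} : Set ℕ), ∃ x, x * f * x⁻¹ = f ^ k) :
    ∃ (b x y : H) (s t i : ℕ), s < 2 ∧ t < 2 ∧ i < 2 ∧ _root_.Cfsg.Agent.H333.Mod64.Rel f b x y s t i ∧ b ∉ Subgroup.zpowers f := by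
  obtain ⟨b, g, hbb, hbf, hbn, hg⟩ := exists_b hH hf hself hodd
  have hbpow : ∀ j : ℕ, b * f ^ j = f ^ (5 * j) * b := by
    intro j
    induction j with
    | zero => simp
    | succ j ih => rw [pow_succ, ← mul_assoc, ih, mul_assoc, hbf, ← mul_assoc, ← pow_add]; congr 2
  have hfb4 : f * b * f⁻¹ = f ^ 4 * b := by
    rw [mul_inv_eq_iff_eq_mul, mul_assoc, hbf, ← mul_assoc, ← pow_add, fred hf (4 + 5)]
    norm_num
  -- `x`
  obtain ⟨x, hx, hxb⟩ : ∃ x, x * f = f ^ 7 * x ∧ x * b = b * x := by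
    obtain ⟨x7, h7⟩ := hodd 7 (by simp)
    rcases conj_b hf hself hbb hbf h7 with h | h
    · exact ⟨x7, by rw [← h7]; simp, mul_inv_eq_iff_eq_mul.1 h⟩
    · refine ⟨x7 * f, ?_, ?_⟩
      · have : x7 * f = f ^ 7 * x7 := by rw [← h7]; simp
        calc x7 * f * f = f ^ 7 * x7 * f := by rw [this]
          _ = _ := by rw [mul_assoc]
      · have e : x7 * f * b * (x7 * f)⁻¹ = b := by
          calc x7 * f * b * (x7 * f)⁻¹ = x7 * (f * b * f⁻¹) * x7⁻¹ := by simp only [mul_assoc, _root_.mul_inv_rev]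
            _ = (x7 * f * x7⁻¹) ^ 4 * (x7 * b * x7⁻¹) := by rw [hfb4, conj_pow]; simp only [mul_assoc, _root_.inv_mul_cancel_left]
            _ = f ^ (7 * 4) * (f ^ 4 * b) := by rw [h7, h, ← pow_mul]
            _ = b := by
                rw [← mul_assoc, ← pow_add, fred hf]
                norm_num
        exact mul_inv_eq_iff_eq_mul.1 e
  have hxpow : ∀ j : ℕ, x * f ^ j = f ^ (7 * j) * x := by
    intro j
    induction j with
    | zero => simp
    | succ j ih => rw [pow_succ, ← mul_assoc, ih, mul_assoc, hx, ← mul_assoc, ← pow_add]; congr 2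
  -- powers of `f b`
  have hfb2 : f * b * (f * b) = f ^ 6 := by
    calc f * b * (f * b) = f * (b * f) * b := by simp only [mul_assoc]
      _ = f * f ^ 5 * (b * b) := by rw [hbf]; simp only [mul_assoc]
      _ = _ := by rw [hbb, mul_one, ← pow_succ']
  have hfb4' : (f * b) ^ 4 = f ^ 4 := by
    rw [show 4 = 2 * 2 from rfl, pow_mul, pow_two (f * b), hfb2, ← pow_mul, fred hf]
  have hfb5 : (f * b) ^ 5 = f ^ 5 * b := by
    rw [show 5 = 4 + 1 from rfl, pow_succ, hfb4', ← mul_assoc, ← pow_succ]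
  have hbfb : b * (f * b) = (f * b) ^ 5 * b := by
    rw [hfb5, ← mul_assoc, hbf]
  -- `y`
  obtain ⟨y0, hy0, hy0b⟩ : ∃ y, y * f = f * b * y ∧ y * b = b * y := by
    have hord : orderOf (f * b) = 8 := by
      rw [← hg, ← hf]
      exact orderOf_injective (MulAut.conj g).toMonoidHom (MulAut.conj g).injective f
    have hself' : ∀ z, z * (f * b) = f * b * z → z ∈ Subgroup.zpowers (f * b) := by
      intro z hz
      have h1 : g⁻¹ * z * g * f = f * (g⁻¹ * z * g) := by
        rw [← hg] at hz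
        have := congrArg (fun w => g⁻¹ * w * g) hz
        simpa only [mul_assoc, _root_.inv_mul_cancel, _root_.mul_one, _root_.inv_mul_cancel_left] using this
      obtain ⟨r, hr⟩ := Subgroup.mem_zpowers_iff.1 (hself _ h1)
      rw [Subgroup.mem_zpowers_iff]
      refine ⟨r, ?_⟩
      rw [← hg, conj_zpow, hr]
      simp [mul_assoc]
    have hgb : g * b * g⁻¹ = b ∨ g * b * g⁻¹ = (f * b) ^ 4 * b := by
      apply two_b hord hself' hbb hbfb
      · have : g * b * g⁻¹ * (g * b * g⁻¹) = g * (b * b) * g⁻¹ := by simp [mul_assoc]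
        rw [this, hbb]; simp
      · calc g * b * g⁻¹ * (f * b) = g * b * g⁻¹ * (g * f * g⁻¹) := by rw [hg]
          _ = g * (b * f) * g⁻¹ := by simp only [mul_assoc, _root_.inv_mul_cancel_left]
          _ = (g * f * g⁻¹) ^ 5 * (g * b * g⁻¹) := by rw [hbf, conj_pow]; simp only [mul_assoc, _root_.inv_mul_cancel_left]
          _ = _ := by rw [hg]
    rcases hgb with h | h
    · exact ⟨g, by rw [← hg]; simp, mul_inv_eq_iff_eq_mul.1 h⟩
    · refine ⟨g * f, ?_, ?_⟩
      · have : g * f = f * b * g := by rw [← hg]; simp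
        calc g * f * f = f * b * g * f := by rw [this]
          _ = _ := by simp only [mul_assoc]
      · have e : g * f * b * (g * f)⁻¹ = b := by
          calc g * f * b * (g * f)⁻¹ = g * (f * b * f⁻¹) * g⁻¹ := by simp only [mul_assoc, _root_.mul_inv_rev]
            _ = (g * f * g⁻¹) ^ 4 * (g * b * g⁻¹) := by rw [hfb4, conj_pow]; simp only [mul_assoc, _root_.inv_mul_cancel_left]
            _ = (f * b) ^ 4 * ((f * b) ^ 4 * b) := by rw [hg, h]
            _ = b := by
                rw [hfb4', ← mul_assoc, ← pow_add, fred hf]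
                norm_num
        exact mul_inv_eq_iff_eq_mul.1 e
  -- squares
  have hcent : ∀ z, z * f = f * z → z * b = b * z → ∃ r < 4, z = f ^ (2 * r) := by
    intro z h1 h2
    obtain ⟨r, hr, rfl⟩ := exists_pow hf (hself _ h1)
    have h3 : f ^ r * b = f ^ (5 * r) * b := by rw [h2, hbpow]
    have h4 := pow_inj hf (mul_right_cancel h3)
    refine ⟨r / 2, by omega, ?_⟩
    congr 1
    omega
  obtain ⟨s, hs, hxx⟩ : ∃ s < 2, x * x = f ^ (4 * s) := by
    obtain ⟨r, hr, hr2⟩ := hcent (x * x) (by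
      rw [mul_assoc, hx, ← mul_assoc, hxpow, fred hf (7 * 7), mul_assoc]
      norm_num) (by rw [mul_assoc, hxb, ← mul_assoc, hxb, mul_assoc])
    have h1 : x * f ^ (2 * r) = f ^ (2 * r) * x := by rw [← hr2, mul_assoc]
    rw [hxpow] at h1
    have h2 := pow_inj hf (mul_right_cancel h1)
    refine ⟨r / 2, by (clear * - hr; omega), ?_⟩
    rw [hr2]
    congr 1
    omega
  have hyf2 : ∀ y : H, y * f = f * b * y → ∀ n : ℕ, y * f ^ (2 * n) = f ^ (6 * n) * y := by
    intro y hy n
    induction n with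
    | zero => simp
    | succ n ih =>
      have e : y * (f * f) = f ^ 6 * y := by
        calc y * (f * f) = (y * f) * f := by rw [mul_assoc]
          _ = f * b * y * f := by rw [hy]
          _ = f * b * (y * f) := by simp only [mul_assoc]
          _ = f * b * (f * b * y) := by rw [hy]
          _ = f * b * (f * b) * y := by simp only [mul_assoc]
          _ = _ := by rw [hfb2]
      calc y * f ^ (2 * (n + 1)) = (y * f ^ (2 * n)) * (f * f) := by
            rw [mul_add, pow_add, ← mul_assoc, mul_one, pow_two]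
        _ = f ^ (6 * n) * (y * (f * f)) := by rw [ih]; simp only [mul_assoc]
        _ = f ^ (6 * (n + 1)) * y := by rw [e, mul_add, pow_add, mul_one]; simp only [mul_assoc]
  obtain ⟨t, ht, hyy⟩ : ∃ t < 2, y0 * y0 = f ^ (4 * t) := by
    obtain ⟨r, hr, hr2⟩ := hcent (y0 * y0) (by
      calc y0 * y0 * f = y0 * (y0 * f) := by rw [mul_assoc]
        _ = y0 * (f * b * y0) := by rw [hy0]
        _ = (y0 * f) * (b * y0) := by simp only [mul_assoc]
        _ = f * b * y0 * (b * y0) := by rw [hy0]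
        _ = f * b * (y0 * b) * y0 := by simp only [mul_assoc]
        _ = f * (b * b) * (y0 * y0) := by rw [hy0b]; simp only [mul_assoc]
        _ = _ := by rw [hbb, mul_one]) (by rw [mul_assoc, hy0b, ← mul_assoc, hy0b, mul_assoc])
    have h1 : y0 * f ^ (2 * r) = f ^ (2 * r) * y0 := by rw [← hr2, mul_assoc]
    rw [hyf2 y0 hy0] at h1
    have h2 := pow_inj hf (mul_right_cancel h1)
    refine ⟨r / 2, by (clear * - hr; omega), ?_⟩
    rw [hr2]
    congr 1
    omega
  -- `y x`
  obtain ⟨r, hr, hyx⟩ : ∃ r < 4, y0 * x = f ^ (2 * r) * b * x * y0 := by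
    obtain ⟨p, hp⟩ : ∃ p, p = y0 * x := ⟨_, rfl⟩
    obtain ⟨q, hq⟩ : ∃ q, q = b * x * y0 := ⟨_, rfl⟩
    have hpf : p * f = f ^ 3 * b * p := by
      have h1 : y0 * f ^ 7 = f ^ 3 * b * y0 := by
        have h2 : f ^ 7 = f ^ (2 * 3) * f := by rw [← pow_succ]
        rw [h2, ← mul_assoc, hyf2 y0 hy0 3, mul_assoc, hy0, ← mul_assoc, ← mul_assoc, ← pow_succ, fred hf]
      rw [hp, mul_assoc, hx, ← mul_assoc, h1]
      simp only [mul_assoc]
    have hqf : q * f = f ^ 3 * b * q := by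
      calc q * f = b * x * (y0 * f) := by rw [hq, mul_assoc]
        _ = b * (x * f) * b * y0 := by rw [hy0]; simp only [mul_assoc]
        _ = (b * f ^ 7) * (x * b) * y0 := by rw [hx]; simp only [mul_assoc]
        _ = f ^ 3 * b * (b * x) * y0 := by rw [hbpow, hxb, fred hf (5 * 7)]
        _ = _ := by rw [hq]; simp only [mul_assoc]
    have hpb : p * b = b * p := by rw [hp, mul_assoc, hxb, ← mul_assoc, hy0b, mul_assoc]
    have hqb : q * b = b * q := by
      rw [hq, mul_assoc, hy0b, mul_assoc, ← mul_assoc x, hxb]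
    have hcomm : ∀ w u : H, p * u = w * p → q * u = w * q → p * q⁻¹ * w = w * (p * q⁻¹) := by
      intro w u h1 h2
      have h3 : q⁻¹ * w = u * q⁻¹ := by
        rw [inv_mul_eq_iff_eq_mul, ← mul_assoc, eq_mul_inv_iff_mul_eq, h2]
      rw [mul_assoc, h3, ← mul_assoc, h1, mul_assoc]
    have c1 := hcomm _ _ hpf hqf
    have c2 := hcomm _ _ hpb hqb
    obtain ⟨r, hr, hr2⟩ := hcent (p * q⁻¹) (by
      have c3 : Commute (p * q⁻¹) (f ^ 3 * b) := c1
      have c4 : Commute (p * q⁻¹) b := c2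
      have c5 : Commute (p * q⁻¹) ((f ^ 3 * b * b) ^ 3) := (c3.mul_right c4).pow_right 3
      rw [mul_assoc, hbb, mul_one, ← pow_mul, fred hf] at c5
      norm_num at c5
      exact c5) c2
    refine ⟨r, hr, ?_⟩
    have h1 : p = f ^ (2 * r) * q := by rw [← hr2]; simp
    rw [← hp, h1, hq]
    simp only [mul_assoc]
  by_cases hr2 : r < 2
  · exact ⟨b, x, y0, s, t, r, hs, ht, hr2, ⟨f8 hf, hbb, hbf, hx, hxb, hy0, hy0b, hxx, hyy, hyx⟩, hbn⟩
  · -- replace `y` by `y f²`
    have hbf2 : b * f ^ 2 = f ^ 2 * b := by rw [hbpow, fred hf (5 * 2)]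
    have hyf : y0 * f ^ 2 = f ^ 6 * y0 := hyf2 y0 hy0 1
    refine ⟨b, x, y0 * f ^ 2, s, t, r - 2, hs, ht, by omega,
      ⟨f8 hf, hbb, hbf, hx, hxb, ?_, ?_, hxx, ?_, ?_⟩, hbn⟩
    · calc y0 * f ^ 2 * f = (y0 * f) * f ^ 2 := by
            rw [mul_assoc, mul_assoc, ← pow_succ, ← pow_succ']
        _ = _ := by rw [hy0]; simp only [mul_assoc]
    · rw [mul_assoc, ← hbf2, ← mul_assoc, hy0b, mul_assoc]
    · calc y0 * f ^ 2 * (y0 * f ^ 2) = y0 * (f ^ 2 * (f ^ 6 * y0)) := by rw [← hyf]; simp only [mul_assoc]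
        _ = y0 * (f ^ (2 + 6) * y0) := by rw [pow_add]; simp only [mul_assoc]
        _ = _ := by
          rw [fred hf]
          norm_num
          exact hyy
    · have h1 : f ^ 2 * x = x * f ^ 6 := by rw [hxpow, fred hf (7 * 6)]
      calc y0 * f ^ 2 * x = y0 * x * f ^ 6 := by rw [mul_assoc, h1, mul_assoc]
        _ = f ^ (2 * r) * b * x * (y0 * f ^ 2 * f ^ 4) := by
            rw [hyx, mul_assoc _ (f ^ 2), ← pow_add]; simp only [mul_assoc]
        _ = f ^ (2 * r) * b * x * (f ^ 4 * (y0 * f ^ 2)) := by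
            rw [hyf, mul_assoc (f ^ 6), show f ^ 4 = f ^ (2 * 2) from rfl, hyf2 y0 hy0 2, ← mul_assoc (f ^ 6),
              ← mul_assoc (f ^ (2 * 2)), ← pow_add, ← pow_add, fred hf (6 + 6 * 2), fred hf (2 * 2 + 6)]
        _ = f ^ (2 * (r - 2)) * b * x * (y0 * f ^ 2) := by
            have h2 : x * f ^ 4 = f ^ 4 * x := by rw [hxpow, fred hf (7 * 4)]
            have h3 : b * f ^ 4 = f ^ 4 * b := by rw [hbpow, fred hf (5 * 4)]
            calc f ^ (2 * r) * b * x * (f ^ 4 * (y0 * f ^ 2))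
                = f ^ (2 * r) * b * (x * f ^ 4) * (y0 * f ^ 2) := by simp only [mul_assoc]
              _ = f ^ (2 * r) * (b * f ^ 4) * x * (y0 * f ^ 2) := by rw [h2]; simp only [mul_assoc]
              _ = f ^ (2 * r + 4) * b * x * (y0 * f ^ 2) := by rw [h3, pow_add]; simp only [mul_assoc]
              _ = _ := by
                rw [fred hf (2 * r + 4), fred hf (2 * (r - 2))]
                congr 4
                (clear * - hr2; omega)


theorem mulN_lt (s t i p q : ℕ) : mulN s t i p q < 64 := by unfold mulN; omega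

/-- every element is a normal form -/
theorem exists_nf [Finite H] (hH : Nat.card H = 64) {f b x y : H} {s t i : ℕ} (hf : orderOf f = 8)
    (hself : ∀ x, x * f = f * x → x ∈ Subgroup.zpowers f)
    (hodd : ∀ k ∈ ({3, 5, 7} : Set ℕ), ∃ x, x * f * x⁻¹ = f ^ k)
    (h : _root_.Cfsg.Agent.H333.Mod64.Rel f b x y s t i) (hbn : b ∉ Subgroup.zpowers f) (p : H) :
    ∃ n < 64, p = nf f b x y n := by
  have hN := card_normalizer hf hself hodd
  set N := Subgroup.normalizer (Subgroup.zpowers f : Set H) with hNdef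
  have hidx : N.index = 2 := by
    have := N.card_mul_index
    rw [hN, hH] at this
    omega
  have hyN : y ∉ N := by
    intro hy
    have h1 := (Subgroup.mem_normalizer_iff.1 hy f).1 (Subgroup.mem_zpowers f)
    rw [h.yf] at h1
    have h2 : f * b ∈ Subgroup.zpowers f := by simpa [mul_assoc] using h1
    exact hbn ((Subgroup.mul_mem_cancel_left _ (Subgroup.mem_zpowers f)).1 h2)
  -- elements of `N`
  have hNmem : ∀ n ∈ N, ∃ m, n = nf f b x y m := by
    intro n hn
    have h1 : n * f * n⁻¹ ∈ Subgroup.zpowers f :=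
      (Subgroup.mem_normalizer_iff.1 hn f).1 (Subgroup.mem_zpowers f)
    obtain ⟨k, hk, hkn⟩ := exists_pow hf h1
    have hko : k % 2 = 1 := by
      by_contra hne
      have h2 : (n * f * n⁻¹) ^ 4 = 1 := by
        rw [hkn, ← pow_mul]
        have : k * 4 = 8 * (k / 2) := by omega
        rw [this, pow_mul, f8 hf, one_pow]
      rw [conj_pow] at h2
      have h4 : f ^ 4 = 1 := by
        have := congrArg (fun z => n⁻¹ * z * n) h2
        simpa only [mul_assoc, _root_.inv_mul_cancel_left, _root_.inv_mul_cancel, _root_.mul_one] using this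
      have h6 : f ^ 4 = f ^ 0 := by rw [h4, pow_zero]
      have := pow_inj hf h6
      omega
    obtain ⟨c, d, hcd, hc2⟩ : ∃ c d : ℕ, c ≤ 1 ∧ d ≤ 1 ∧ (b ^ c * x ^ d) * f = f ^ k * (b ^ c * x ^ d) := by
      have hb7 := b_pow h 7
      have : k = 1 ∨ k = 3 ∨ k = 5 ∨ k = 7 := by omega
      rcases this with rfl | rfl | rfl | rfl
      · exact ⟨0, 0, by norm_num, by norm_num, by simp⟩
      · refine ⟨1, 1, by norm_num, by norm_num, ?_⟩
        rw [pow_one, pow_one, mul_assoc, h.xf, ← mul_assoc, hb7, fred hf (5 * 7)]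
        simp only [mul_assoc]
      · exact ⟨1, 0, by norm_num, by norm_num, by rw [pow_one, pow_zero, mul_one]; exact h.bf⟩
      · exact ⟨0, 1, by norm_num, by norm_num, by rw [pow_one, pow_zero, one_mul]; exact h.xf⟩
    obtain ⟨hd, hc2⟩ := hc2
    obtain ⟨w, hw⟩ : ∃ w, w = b ^ c * x ^ d := ⟨_, rfl⟩
    rw [← hw] at hc2
    have h2 : w⁻¹ * n * f = f * (w⁻¹ * n) := by
      have h3 : n * f = f ^ k * n := by rw [← hkn]; simp
      rw [mul_assoc, h3, ← mul_assoc, ← mul_assoc]
      congr 1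
      rw [inv_mul_eq_iff_eq_mul, ← mul_assoc, hc2]
      simp
    obtain ⟨r, hr, hr2⟩ := exists_pow hf (hself _ h2)
    have h3 : n = w * f ^ r := by rw [← hr2]; simp
    have h4 : w = nf f b x y (8 * c + 16 * d) := by
      rw [hw]
      unfold nf
      have e1 : (8 * c + 16 * d) % 8 = 0 := by omega
      have e2 : (8 * c + 16 * d) / 8 % 2 = c := by omega
      have e3 : (8 * c + 16 * d) / 16 % 2 = d := by omega
      have e4 : (8 * c + 16 * d) / 32 % 2 = 0 := by (clear * - e2 e3; omega)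
      rw [e1, e2, e3, e4]
      simp
    have h5 : f ^ r = nf f b x y r := by
      unfold nf
      have e1 : r % 8 = r := by omega
      have e2 : r / 8 % 2 = 0 := by omega
      have e3 : r / 16 % 2 = 0 := by omega
      have e4 : r / 32 % 2 = 0 := by omega
      rw [e1, e2, e3, e4]
      simp
    exact ⟨_, by rw [h3, h4, h5, nf_mul h]⟩
  have hall : ∃ m, p = nf f b x y m := by
    by_cases hp : p ∈ N
    · exact hNmem p hp
    · have h1 : y⁻¹ * p ∈ N := by
        rw [Subgroup.mul_mem_iff_of_index_two hidx]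
        exact ⟨fun h2 => absurd (N.inv_mem_iff.1 h2) hyN, fun h2 => absurd h2 hp⟩
      obtain ⟨m, hm⟩ := hNmem _ h1
      have h5 : y = nf f b x y 32 := by unfold nf; simp
      refine ⟨mulN s t i 32 m, ?_⟩
      rw [← nf_mul h, ← h5, ← hm]
      simp
  obtain ⟨m, hm⟩ := hall
  refine ⟨mulN s t i m 0, mulN_lt _ _ _ _ _, ?_⟩
  rw [← nf_mul h, ← hm]
  unfold nf
  simp

end Cfsg.Agent.H333.Ex64
end

-- part: H333/MTw
section
/-!
# A Sylow 2-subgroup of order 64 of a simple group with a self-centralizing element of order 8 conjugate to its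
odd powers is of type `M₁₂` (helper333)
-/

set_option autoImplicit false

namespace Cfsg.Agent.H333.MTw

open Cfsg.Agent.H333.Mod64 Cfsg.Agent.H333.Chk64 Cfsg.Agent.H333.Elim64
open Cfsg.Agent.ClassificationK.GTwoModel Cfsg.Agent.MTwelveType.SylowModel

variable {G : Type*} [Group G]

theorem pow_eq {P : Subgroup G} {φ : ℕ → G} (h : Cod P 0 0 0 φ) (m k : ℕ) : φ m ^ k = φ (powN m k) := by
  induction k with
  | zero => rw [pow_zero]; exact h.one.symm
  | succ k ih => rw [pow_succ, ih, h.mul]; rfl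

/-- the code of `bp` -/
theorem bp_eq {P : Subgroup G} {φ : ℕ → G} (h : Cod P 0 0 0 φ) (m : ℕ) (e : Bool) :
    bp (φ m) e = φ (powN m (cond e 1 0)) := by
  rw [← pow_eq h]
  cases e <;> simp [bp]

theorem exists_equiv [Finite G] {P : Subgroup G} {φ : ℕ → G} (h : Cod P 0 0 0 φ) :
    Nonempty (T (2 * 2) ≃* P) := by
  obtain ⟨r1, r2, r3, r4, r5, r6, r7, r8, r9, r10⟩ := rel_T
  have hmul := liftFun_mul (G := G) (m := 2 * 2) (A := φ 48) (B := φ 50) (C := φ 32) (D := φ 17)
    (by show φ 48 ^ 4 = 1; rw [pow_eq h, r1, h.one]) (by show φ 50 ^ 4 = 1; rw [pow_eq h, r2, h.one])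
    (by rw [h.mul, h.mul, r3]) (by rw [h.mul, r4, h.one]) (by rw [h.mul, r5, h.one])
    (by rw [h.mul, h.mul, r6])
    (by rw [eq_inv_mul_iff_mul_eq, ← mul_assoc, h.mul, h.mul, r7])
    (by rw [eq_inv_mul_iff_mul_eq, ← mul_assoc, h.mul, h.mul, r8])
    (by rw [h.mul, h.mul, r9]) (by rw [h.mul, h.mul, r10])
  let F : T (2 * 2) →* P := MonoidHom.mk' (fun x => ⟨liftFun (φ 48) (φ 50) (φ 32) (φ 17) x, by
    unfold liftFun
    rw [bp_eq h, bp_eq h]
    exact P.mul_mem (P.mul_mem (P.pow_mem (h.mem _) _) (P.pow_mem (h.mem _) _)) (P.mul_mem (h.mem _) (h.mem _))⟩)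
    (fun x y => Subtype.ext (hmul x y))
  have hinj : Function.Injective F := by
    rw [injective_iff_map_eq_one]
    rintro ⟨i, j, e, d⟩ hx
    have h1 : liftFun (φ 48) (φ 50) (φ 32) (φ 17) (⟨i, j, e, d⟩ : T (2 * 2)) = 1 := congrArg Subtype.val hx
    unfold liftFun at h1
    simp only at h1
    rw [bp_eq h, bp_eq h, pow_eq h, pow_eq h, h.mul, h.mul, h.mul] at h1
    have h2 : tau i.val j.val (cond e 1 0) (cond d 1 0) = 0 := (eq_one_iff h (mulN_lt _ _ _ _ _)).1 h1
    have hi : i.val < 4 := ZMod.val_lt i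
    have hj : j.val < 4 := ZMod.val_lt j
    have he : (cond e 1 0 : ℕ) < 2 := by cases e <;> simp
    have hd : (cond d 1 0 : ℕ) < 2 := by cases d <;> simp
    have h3 := tau_ne ⟨i.val, hi⟩ ⟨j.val, hj⟩ ⟨_, he⟩ ⟨_, hd⟩ h2
    obtain ⟨h4, h5, h6, h7⟩ := h3
    have h4' : i.val = 0 := congrArg Fin.val h4
    have h5' : j.val = 0 := congrArg Fin.val h5
    have h6' : (cond e 1 0 : ℕ) = 0 := congrArg Fin.val h6
    have h7' : (cond d 1 0 : ℕ) = 0 := congrArg Fin.val h7
    rw [T.one_def]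
    ext
    · exact (ZMod.val_eq_zero i).1 h4'
    · exact (ZMod.val_eq_zero j).1 h5'
    · cases e
      · rfl
      · simp at h6'
    · cases d
      · rfl
      · simp at h7'
  have hcard : Nat.card (T (2 * 2)) = Nat.card P := by
    rw [T.card_T, card_P h]
    norm_num
  have hbij : Function.Bijective F := (Nat.bijective_iff_injective_and_card F).2 ⟨hinj, hcard⟩
  exact ⟨MulEquiv.ofBijective F hbij⟩

/-- **The Sylow 2-subgroup is of type `M₁₂`.** -/
theorem main [Finite G] (hG : ∀ H : Subgroup G, H.index ≠ 2)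
    (P : Sylow 2 G) (hP : Nat.card (P : Subgroup G) = 64)
    (f : G) (hfP : f ∈ (P : Subgroup G)) (hf : orderOf f = 8)
    (hself : ∀ x ∈ (P : Subgroup G), x * f = f * x → x ∈ Subgroup.zpowers f)
    (hodd : ∀ k ∈ ({3, 5, 7} : Set ℕ), ∃ x ∈ (P : Subgroup G), x * f * x⁻¹ = f ^ k) :
    Nonempty (T (2 * 2) ≃* (P : Subgroup G)) := by
  let f₀ : (P : Subgroup G) := ⟨f, hfP⟩
  have hf₀ : orderOf f₀ = 8 := by rw [← hf]; exact Subgroup.orderOf_mk f hfP
  have hself₀ : ∀ x : (P : Subgroup G), x * f₀ = f₀ * x → x ∈ Subgroup.zpowers f₀ := by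
    rintro ⟨x, hx⟩ h1
    obtain ⟨k, hk⟩ := Subgroup.mem_zpowers_iff.1 (hself x hx (congrArg Subtype.val h1))
    exact Subgroup.mem_zpowers_iff.2 ⟨k, Subtype.ext hk⟩
  have hodd₀ : ∀ k ∈ ({3, 5, 7} : Set ℕ), ∃ x : (P : Subgroup G), x * f₀ * x⁻¹ = f₀ ^ k := by
    intro k hk
    obtain ⟨x, hx, h1⟩ := hodd k hk
    exact ⟨⟨x, hx⟩, Subtype.ext h1⟩
  obtain ⟨b, x, y, s, t, i, hs, ht, hi, hrel, hbn⟩ := Ex64.exists_rel hP hf₀ hself₀ hodd₀
  have hsurj := Ex64.exists_nf hP hf₀ hself₀ hodd₀ hrel hbn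
  have hfin : Function.Bijective (fun n : Fin 64 => nf f₀ b x y n) := by
    rw [Nat.bijective_iff_surjective_and_card]
    refine ⟨fun p => ?_, ?_⟩
    · obtain ⟨n, hn, h1⟩ := hsurj p
      exact ⟨⟨n, hn⟩, h1.symm⟩
    · rw [hP, Nat.card_eq_fintype_card, Fintype.card_fin]
  have hc : Cod (P : Subgroup G) s t i (fun n => ((nf f₀ b x y n : (P : Subgroup G)) : G)) := by
    refine ⟨fun n => (nf f₀ b x y n).2, ?_, fun p q => ?_, fun m hm n hn h1 => ?_, fun p hp => ?_⟩
    · show ((nf f₀ b x y 0 : (P : Subgroup G)) : G) = 1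
      unfold nf
      simp only [_root_.Nat.zero_mod, _root_.pow_zero, _root_.Nat.zero_div, _root_.mul_one, _root_.OneMemClass.coe_one]
    · show ((nf f₀ b x y p : (P : Subgroup G)) : G) * ((nf f₀ b x y q : (P : Subgroup G)) : G) = _
      rw [← nf_mul hrel]
      rfl
    · have h2 : (⟨m, hm⟩ : Fin 64) = ⟨n, hn⟩ := hfin.1 (Subtype.ext h1)
      exact congrArg Fin.val h2
    · obtain ⟨n, hn, h1⟩ := hsurj ⟨p, hp⟩
      exact ⟨n, hn, congrArg Subtype.val h1⟩
  have hodd1 : Odd (P : Subgroup G).index := by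
    rw [← Nat.not_even_iff_odd, even_iff_two_dvd]
    exact P.not_dvd_index
  have hs' : s = 0 ∨ s = 1 := by omega
  have ht' : t = 0 ∨ t = 1 := by omega
  have hi' : i = 0 ∨ i = 1 := by omega
  rcases hs' with rfl | rfl <;> rcases ht' with rfl | rfl <;> rcases hi' with rfl | rfl
  · exact exists_equiv hc
  · exact (false_A hc par_001 hG hodd1 chkA_001 (v := 32) (by norm_num) (by decide)).elim
  · exact (false_A hc par_010 hG hodd1 chkA_010 (v := 1) (by norm_num) (by decide)).elim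
  · exact (false_A hc par_011 hG hodd1 chkA_011 (v := 32) (by norm_num) (by decide)).elim
  · exact (false_A hc par_100 hG hodd1 chkA_100 (v := 1) (by norm_num) (by decide)).elim
  · exact (false_A hc par_101 hG hodd1 chkA_101 (v := 32) (by norm_num) (by decide)).elim
  · exact (false_B hc hG hodd1).elim
  · exact (false_A hc par_111 hG hodd1 chkA_111 (v := 32) (by norm_num) (by decide)).elim

/-- a noncommutative simple group has no subgroup of index two -/
theorem index_ne_two [Finite G] [IsSimpleGroup G] (hna : ¬ IsMulCommutative G) (H : Subgroup G) : H.index ≠ 2 := by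
  intro hH
  have hn : H.Normal := Subgroup.normal_of_index_eq_two hH
  rcases hn.eq_bot_or_eq_top with h | h
  · rw [h, Subgroup.index_bot] at hH
    apply hna
    have : IsCyclic G := isCyclic_of_prime_card (p := 2) (hp := ⟨Nat.prime_two⟩) hH
    exact IsCyclic.isMulCommutative
  · rw [h, Subgroup.index_top] at hH
    exact absurd hH (by norm_num)

end Cfsg.Agent.H333.MTw
end

-- part: S3296
section
set_option autoImplicit false
open Cfsg

namespace Cfsg.Agent.S3296

/-- Let G be a finite non-abelian simple group whose Sylow 2-subgroups have order 64, with a Sylow 2-subgroup P containing an element f of order 8 whose centralizer in P is the cyclic group it generates and which is conjugate in P to each of its odd powers. If G has at least two conjugacy classes of involutions, then G is isomorphic to the Mathieu group M₁₂. -/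
theorem result {G : Type*} [Group G] [Finite G] [IsSimpleGroup G]
    (hna : ¬ IsMulCommutative G) (P : Sylow 2 G) (hP : Nat.card (P : Subgroup G) = 64)
    (f : G) (hfP : f ∈ (P : Subgroup G)) (hf : orderOf f = 8)
    (hself : ∀ x ∈ (P : Subgroup G), x * f = f * x → x ∈ Subgroup.zpowers f)
    (hodd : ∀ k ∈ ({3, 5, 7} : Set ℕ), ∃ x ∈ (P : Subgroup G), x * f * x⁻¹ = f ^ k)
    (htwo : ∃ s t : G, orderOf s = 2 ∧ orderOf t = 2 ∧ ¬ IsConj s t) :
    Nonempty (G ≃* Cfsg.Spor.M12) := by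
  obtain ⟨e⟩ := Cfsg.Agent.H333.MTw.main (Cfsg.Agent.H333.MTw.index_ne_two hna) P hP f hfP hf hself hodd
  obtain ⟨Q⟩ : Nonempty (Sylow 2 ↥Cfsg.Spor.M12) := inferInstance
  obtain ⟨e'⟩ := Cfsg.Agent.MTwelveType.SylowModel.exists_equiv Q
  exact Cfsg.Agent.S1741.result P Q ⟨e.symm.trans e'⟩ htwo

end Cfsg.Agent.S3296
end
end
end
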