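import Cfsg.Agent.H298.UThree.FourB
import Cfsg.Agent.H337.UThreeFinTwo
import Cfsg.Prelude.Def_TwoFusion
import Cfsg.Prelude.Def_Transfer
import Cfsg.Statements.S3314
import Cfsg.Agent.FastGrp
import Cfsg.Agent.Prune
set_option linter.all false
open scoped Cfsg.Agent.FastGrp

-- part: H337/UThreeFour
section
/-!
# S3314 for `|E| ≥ 4`

The argument for a simple layer follows `Cfsg.Agent.H298.UThree.Hyp.false_of_layer`; the case `|E ∩ L| ≥ 4`
is done with the strongly closed subgroup `E ∩ L` (Goldschmidt, Bender), so that `Z(K) = 1` is not needed.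
-/

set_option autoImplicit false

namespace Cfsg.Agent.H337.UThreeFour

open Cfsg.Agent.SignalizersComponents
open Subgroup Cfsg.Agent.LieRecognition Cfsg.Agent.LieRecognition.HermHeis Cfsg.Agent.OddHalf.D4.Basic
open Cfsg.Agent.OddHalf.D4.CommConj (cj mem_cj cj_mul card_cj cj_eq_of_mem_normalizer mem_normalizer_of_cj_eq
  mem_cj_mul)
open Cfsg.Agent.OddHalf.D4.U3.ParDefs
open Cfsg.Agent.H298.UThree Cfsg.Agent.H298.UThree.Act

universe u v w

variable {G : Type u} [Group G] [Finite G] {E K : Subgroup G} {F : Type v} [Field F] [Fintype F] {n : ℕ}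

theorem three_dvd (h : Hyp E K F n) : 3 ∣ Nat.card ↥K := by
  obtain ⟨e⟩ := h.iso
  have h1 := Cfsg.Agent.StdU3.FinalRed.three_dvd_psu h.hF
  rw [← Nat.card_congr e.toEquiv] at h1
  exact h1.trans (Subgroup.card_quotient_dvd_card _)

/-- no involution of `PSU₃(q)` centralises `K` -/
theorem false_of_psu (h : Hyp E K F n) {L : Subgroup G} {F' : Type w} [Field F'] [Fintype F'] [CharP F' 2]
    {σ : F' →+* F'} [hσ : Fact (∀ x, σ (σ x) = x)] {m : ℕ} (p : Par L σ m) (a : Amb L) (hKL : K ≤ L) {e : G}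
    (he : e ∈ E) (heL : e ∈ L) (he1 : e ≠ 1) : False := by
  have hee := h.c.sq e he
  obtain ⟨k, hk, hle⟩ := p.exists_cj_le (T := zpowers e) (zpowers_two (Two.of_sq hee)) (by rwa [zpowers_le])
  have hz : k * e * k⁻¹ ∈ p.S := hle (mem_cj_mul (mem_zpowers e))
  have hzZ : k * e * k⁻¹ ∈ p.Z := p.mem_Z_of_sq hz (by
    have e1 : k * e * k⁻¹ * (k * e * k⁻¹) = k * (e * e) * k⁻¹ := by group
    rw [e1, hee]; group)
  have hz1 : k * e * k⁻¹ ≠ 1 := fun h1 => he1 (conj_eq_one_iff.mp h1)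
  have key : ∀ y ∈ K, Two y → k * y * k⁻¹ ∈ p.S := by
    intro y hy h2
    refine a.two_mem p hzZ hz1 (mul_mem (mul_mem hk (hKL hy)) (inv_mem hk)) ?_ (h2.conj k)
    have h3 := h.c.Kc e he y hy
    calc k * y * k⁻¹ * (k * e * k⁻¹) = k * (y * e) * k⁻¹ := by group
      _ = k * (e * y) * k⁻¹ := by rw [h3]
      _ = k * e * k⁻¹ * (k * y * k⁻¹) := by group
  let Q : Subgroup ↥K := (cj k⁻¹ p.S).subgroupOf K
  have hQ : ∀ y : ↥K, y ∈ Q ↔ k * (y : G) * k⁻¹ ∈ p.S := by
    intro y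
    show (y : G) ∈ cj k⁻¹ p.S ↔ _
    rw [mem_cj, inv_inv]
  have hQ2 : IsPGroup 2 ↥Q := (p.S_two.map (MulAut.conj k⁻¹).toMonoidHom).comap_subtype
  have hQn : Q.Normal := by
    refine ⟨fun y hy g => ?_⟩
    rw [hQ]
    apply key _ (g * y * g⁻¹).2
    have h3 : Two (y : G) := by
      obtain ⟨j, hj⟩ := hQ2 ⟨y, hy⟩
      exact ⟨j, congrArg (fun z : ↥Q => ((z : ↥K) : G)) hj⟩
    exact h3.conj (g : G)
  rcases Cfsg.Agent.Lib.ComponentSolvable.quasisimple_normal_cases h.c.qs hQn with h1 | h1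
  · have h2 : IsPGroup 2 ↥K := by
      intro y
      have h3 : y ∈ Q := by rw [h1]; trivial
      obtain ⟨j, hj⟩ := hQ2 ⟨y, h3⟩
      exact ⟨j, congrArg Subtype.val hj⟩
    haveI : Fact (Nat.Prime 2) := ⟨Nat.prime_two⟩
    obtain ⟨j, hj⟩ := h2.exists_card_eq
    have h3 := three_dvd h
    rw [hj] at h3
    have h4 := Nat.prime_three.dvd_of_dvd_pow h3
    omega
  · obtain ⟨P, hP, -⟩ := exists_isSyl (M := K) (Q := ⊥) (IsPGroup.of_bot) bot_le
    obtain ⟨x, hx, y, hy, hxy⟩ := h.not_comm hP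
    apply hxy
    have h2 : (⟨x, hP.le hx⟩ : ↥K) ∈ center ↥K := by
      apply h1
      rw [hQ]
      exact key x (hP.le hx) (Two.of_mem hP.two hx)
    exact (congrArg Subtype.val (Subgroup.mem_center_iff.mp h2 ⟨y, hP.le hy⟩)).symm

/-- **the case of a simple group** -/
theorem false_of_simple (h : Hyp E K F n) (h4 : ∃ e ∈ E, ∃ f ∈ E, e ≠ 1 ∧ f ≠ 1 ∧ e ≠ f) [hs : IsSimpleGroup G] :
    False := by
  obtain ⟨S, hS⟩ := h.strongly_closed_of_four h4
  haveI : Fact (Nat.Prime 2) := ⟨Nat.prime_two⟩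
  obtain ⟨e, he, he1⟩ := h.c.ne
  obtain ⟨P, hP, -⟩ := exists_isSyl (M := K) (Q := ⊥) (IsPGroup.of_bot) bot_le
  obtain ⟨x, hx, y, hy, hxy⟩ := h.not_comm hP
  have hncS : ∀ S : Sylow 2 G, ¬ IsMulCommutative (S : Subgroup G) := by
    intro S hc
    obtain ⟨T, hT⟩ := hP.two.exists_le_sylow
    have e1 : ↥(T : Subgroup G) ≃* ↥(S : Subgroup G) := Sylow.equiv T S
    have h1 := hc.is_comm.comm (e1 ⟨x, hT hx⟩) (e1 ⟨y, hT hy⟩)
    rw [← map_mul, ← map_mul] at h1
    exact hxy (congrArg Subtype.val (e1.injective h1))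
  rcases Cfsg.Agent.S1169.result S E (by
      rintro rfl
      exact he1 (mem_bot.mp he)) ⟨⟨fun a b => Subtype.ext (h.c.E_comm a.2 b.2)⟩⟩ hS with h1 | ⟨H, hH⟩
  · exact hncS S h1
  · rcases Cfsg.Agent.S0222.result ⟨x, y, hxy⟩ H hH with ⟨F', _, _, hc, h4', ⟨f⟩⟩ | h1 | ⟨F', _, _, q, hq, hev, hq4, ⟨f⟩⟩
    · exact hncS S (Cfsg.Agent.Classification.PSLTwoEvenSylow.sylow_comm f S)
    · have h2 := (three_dvd h).trans (Subgroup.card_subgroup_dvd_card K)
      exact Cfsg.Agent.StdU3.EndLie.not_three_dvd_suzuki h1 h2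
    · have f' : ↥(⊤ : Subgroup G) ≃* Cfsg.PSU 3 F' q := Subgroup.topEquiv.trans f
      obtain ⟨m, _, σ, _, -, -, ⟨p⟩⟩ := exists_par_of_psu hq hev hq4 ⟨f'⟩
      refine false_of_psu h p ⟨fun _ _ _ => mem_top _, fun z hx => ?_⟩ le_top he (mem_top e) he1
      have h5 : z ∈ center G := by
        rw [Subgroup.mem_center_iff]
        exact fun g => (hx g (mem_top g)).symm
      rcases hs.eq_bot_or_eq_top_of_normal (center G) inferInstance with h6 | h6
      · rwa [h6, mem_bot] at h5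
      · exfalso
        have h7 : y ∈ center G := by rw [h6]; trivial
        exact hxy (Subgroup.mem_center_iff.mp h7 x)

/-- **the case of a simple layer, `|E| ≥ 4`** -/
theorem false_of_layer (h : Hyp E K F n) (h4 : ∃ e ∈ E, ∃ f ∈ E, e ≠ 1 ∧ f ≠ 1 ∧ e ≠ f)
    {L : Subgroup G} (hLn : L.Normal)
    (hLs : IsSimpleGroup ↥L) (hna : ¬ IsMulCommutative ↥L) (hC : centralizer (L : Set G) = ⊥) (hKL : K ≤ L) :
    False := by
  by_cases hA : ∃ e ∈ E, e ∈ L ∧ e ≠ 1
  · obtain ⟨e, he, heL, he1⟩ := hA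
    have h' := h.sub hKL ⟨e, he, heL, he1⟩
    by_cases hB : ∃ f ∈ E, f ∈ L ∧ f ≠ 1 ∧ f ≠ e
    · obtain ⟨f, hf, hfL, hf1, hfe⟩ := hB
      refine false_of_simple h' ⟨⟨e, heL⟩, mem_subgroupOf.mpr he, ⟨f, hfL⟩, mem_subgroupOf.mpr hf, ?_, ?_, ?_⟩
      · exact fun h1 => he1 (congrArg Subtype.val h1)
      · exact fun h1 => hf1 (congrArg Subtype.val h1)
      · exact fun h1 => hfe (congrArg Subtype.val h1).symm
    · push Not at hB
      have h1 : zpowers e ≤ L := by rwa [zpowers_le]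
      refine (h.local_analysis hLn hLs hna hC hKL he he1 ?_).1 heL
      intro f hf hfL
      rw [sup_eq_left.mpr h1] at hfL
      by_cases hf1 : f = 1
      · exact Or.inl hf1
      · exact Or.inr (hB f hf hfL hf1)
  · push Not at hA
    obtain ⟨e, he, f, hf, he1, hf1, hef⟩ := h4
    have hee := h.c.sq e he
    have hff := h.c.sq f hf
    have hcomm := h.c.E_comm he hf
    have hef1 : e * f ≠ 1 := by
      intro h2
      apply hef
      rw [← hff] at h2
      exact mul_right_cancel h2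
    obtain ⟨-, hk⟩ := h.local_analysis hLn hLs hna hC hKL he he1 (by
      intro g hg hgL
      rcases mem_sup_zpowers hLn hee hgL with h1 | h1
      · exact Or.inl (hA g hg h1)
      · right
        have h2 := hA _ (mul_mem hg he) h1
        rw [← hee] at h2
        exact mul_right_cancel h2)
    rcases hk with ⟨F', _, _, q, hq, heven, hq4, hpsu⟩ | hk
    · obtain ⟨m, _, σ, _, -, -, ⟨p⟩⟩ := exists_par_of_psu hq heven hq4 hpsu
      have a : Act.Amb L := ⟨fun a i hi => hLn.conj_mem i hi a, fun x hx => by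
        have h1 : x ∈ centralizer (L : Set G) := by
          rw [mem_centralizer_iff]
          exact fun y hy => (hx y hy).symm
        rwa [hC, mem_bot] at h1⟩
      rcases a.inner_three' p hee hff hcomm with h1 | h1 | h1
      · exact he1 (hA e he h1)
      · exact hf1 (hA f hf h1)
      · exact hef1 (hA _ (mul_mem he hf) h1)
    · obtain ⟨P, S, hP, hS, hES, hPS, hT⟩ := h.exists_T hLn
      obtain ⟨A, B, hAB⟩ := exists_ab hk hT
      have key : ∀ g ∈ E, g ≠ 1 → cj g A = B := fun g hg hg1 =>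
        h.swap hA hP inf_le_right (le_inf hPS (hP.le.trans hKL)) hAB hg hg1 (cj_inf_of_mem hLn (hES hg))
      have k1 := key e he he1
      have k2 := key f hf hf1
      have k3 := key (e * f) (mul_mem he hf) hef1
      rw [cj_mul, k2] at k3
      have k4 : cj e (cj e A) = A := by
        rw [← cj_mul, hee]
        exact Cfsg.Agent.OddHalf.D4.RkEnd.Tools.cj_one A
      rw [k1, k3] at k4
      obtain ⟨x, hx, hxB⟩ := hAB.neA
      rw [← k4] at hx
      exact hxB hx

/-- `K` is normal in `G` if `|E| ≥ 4` and `O(G) = 1`. -/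
theorem normal (h : Hyp E K F n) (h4 : ∃ e ∈ E, ∃ f ∈ E, e ≠ 1 ∧ f ≠ 1 ∧ e ≠ f)
    (hO : Cfsg.oddCore G = ⊥) : K.Normal := by
  obtain ⟨t, ht, ht1⟩ := h.c.ne
  have hord : orderOf t = 2 := orderOf_eq_prime (by rw [pow_two]; exact h.c.sq t ht) ht1
  have htC := h.c.E_le ht
  by_contra hnn
  have h2 : Cfsg.pCore 2 G = ⊥ := by
    by_contra h0
    exact hnn (StandardTrichotomy.normal_of_pCore_ne_bot h.isStandard hord htC h0)
  have hC := StandardTrichotomy.centralizer_layer_eq_bot hO h2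
  rcases Cfsg.Agent.S1347.result K h.isStandard hO t hord htC with h1 | h1 | h1
  · exact hnn h1
  · obtain ⟨X, -, -, -, -, -, -, h8⟩ := h1
    have hE : ∀ e ∈ E, e ≠ 1 → e = t := by
      intro e he he1
      have h9 : e ∈ zpowers t := by rw [← h8]; exact h.c.E_le he
      rcases mem_sup_zpowers (L := ⊥) inferInstance (h.c.sq t ht) (mem_sup_right h9) with h10 | h10
      · exact absurd (mem_bot.mp h10) he1
      · rw [mem_bot, ← h.c.sq t ht] at h10
        exact mul_right_cancel h10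
    obtain ⟨e, he, f, hf, he1, hf1, hef⟩ := h4
    exact hef ((hE e he he1).trans (hE f hf hf1).symm)
  · obtain ⟨hKL, hLs, hna⟩ := h1
    exact false_of_layer h h4 (Components.layer_normal G) hLs hna hC hKL

end Cfsg.Agent.H337.UThreeFour
end

-- part: H337/UThreeHyp
section
/-!
# The hypotheses of S3314 and S3151 imply `Cfg E U₀` and `t ∈ E`
-/

set_option autoImplicit false

namespace Cfsg.Agent.H337.UThreeHyp

open Subgroup Cfsg.Agent.OddHalf.D4.Basic
open Cfsg.Agent.H298.UThree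

universe u v

variable {G : Type u} [Group G] [Finite G]

theorem cfg_of_hyp (t : G) (ht : orderOf t = 2) (E U U₀ : Subgroup G)
    (hEU : Cfsg.IsInternalDirectProduct E U (Subgroup.centralizer ({t} : Set G)))
    (hE : Cfsg.IsElementaryAbelian 2 E) (hE1 : E ≠ ⊥)
    (hU₀ : U₀ ≤ U) (hU₀n : (U₀.subgroupOf U).Normal) (hq : Cfsg.IsQuasisimple ↥U₀)
    {F : Type v} [Field F] [Fintype F] (n : ℕ) (hn : 2 ≤ n) (hF : Fintype.card F = 4 ^ n)
    (hUX : Nonempty ((↥U₀ ⧸ Subgroup.center ↥U₀) ≃* Cfsg.PSU 3 F (2 ^ n)))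
    (hCU : U ⊓ Subgroup.centralizer (U₀ : Set G) = (Subgroup.center ↥U₀).map U₀.subtype)
    (hC : ∀ e ∈ E, orderOf e = 2 → Subgroup.centralizer ({e} : Set G) = Subgroup.centralizer ({t} : Set G)) :
    Cfg E U₀ ∧ t ∈ E := by
  obtain ⟨hE2, hU2, hcomm, hinf, hsup⟩ := hEU
  have hsq : ∀ e ∈ E, e * e = 1 := by
    intro e he
    rw [← pow_two]
    exact hE.2 e he
  have hord : ∀ e ∈ E, e ≠ 1 → orderOf e = 2 := fun e he he1 =>
    orderOf_eq_prime (by rw [pow_two]; exact hsq e he) he1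
  have hCC : ∀ e ∈ E, e ≠ 1 → ∀ x : G, x * e = e * x → x ∈ centralizer ({t} : Set G) := by
    intro e he he1 x hx
    rw [← hC e he (hord e he he1), mem_centralizer_iff]
    intro y hy
    rw [Set.mem_singleton_iff.mp hy]
    exact hx.symm
  -- elements of `C(t)`
  have hEc : ∀ e ∈ E, ∀ f ∈ E, e * f = f * e := fun e he f hf =>
    congrArg Subtype.val (hE.1.is_comm.comm (⟨e, he⟩ : ↥E) ⟨f, hf⟩)
  have hdec : ∀ x ∈ centralizer ({t} : Set G), ∃ f ∈ E, ∃ u ∈ U, x = f * u := by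
    intro x hx
    rw [← hsup] at hx
    have h1 : ∀ f ∈ E, ∀ u ∈ U, f * u = u * f := hcomm
    let S : Subgroup G :=
      { carrier := {x | ∃ f ∈ E, ∃ u ∈ U, x = f * u}
        one_mem' := ⟨1, one_mem _, 1, one_mem _, (mul_one 1).symm⟩
        mul_mem' := by
          rintro _ _ ⟨f, hf, u, hu, rfl⟩ ⟨f', hf', u', hu', rfl⟩
          refine ⟨f * f', mul_mem hf hf', u * u', mul_mem hu hu', ?_⟩
          calc f * u * (f' * u') = f * (u * f') * u' := by group
            _ = f * (f' * u) * u' := by rw [h1 f' hf' u hu]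
            _ = f * f' * (u * u') := by group
        inv_mem' := by
          rintro _ ⟨f, hf, u, hu, rfl⟩
          refine ⟨f⁻¹, inv_mem hf, u⁻¹, inv_mem hu, ?_⟩
          rw [mul_inv_rev]
          exact (h1 f⁻¹ (inv_mem hf) u⁻¹ (inv_mem hu)).symm }
    have h2 : E ⊔ U ≤ S := sup_le (fun f hf => ⟨f, hf, 1, one_mem _, (mul_one f).symm⟩)
      (fun u hu => ⟨1, one_mem _, u, hu, (one_mul u).symm⟩)
    exact h2 hx
  have hfc : ∀ f ∈ E, ∀ x ∈ centralizer ({t} : Set G), x * f = f * x := by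
    intro f hf x hx
    obtain ⟨f', hf', u, hu, rfl⟩ := hdec x hx
    calc f' * u * f = f' * (u * f) := by group
      _ = f' * (f * u) := by rw [hcomm f hf u hu]
      _ = (f' * f) * u := by group
      _ = f * (f' * u) := by rw [hEc f' hf' f hf]; group
  have hn' : ∀ x ∈ centralizer ({t} : Set G), ∀ k ∈ U₀, x * k * x⁻¹ ∈ U₀ := by
    intro x hx k hk
    obtain ⟨f, hf, u, hu, rfl⟩ := hdec x hx
    have h1 : u * k * u⁻¹ ∈ U₀ := mem_subgroupOf.mp (hU₀n.conj_mem ⟨k, hU₀ hk⟩ (mem_subgroupOf.mpr hk) ⟨u, hu⟩)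
    have h2 := hcomm f hf _ (hU₀ h1)
    have h3 : f * u * k * (f * u)⁻¹ = u * k * u⁻¹ := by
      calc f * u * k * (f * u)⁻¹ = (f * (u * k * u⁻¹)) * f⁻¹ := by group
        _ = (u * k * u⁻¹ * f) * f⁻¹ := by rw [h2]
        _ = _ := by group
    rw [h3]
    exact h1
  have hcK : ∀ x ∈ centralizer ({t} : Set G), x ∈ centralizer (U₀ : Set G) →
      ∃ f ∈ E, ∃ w ∈ U₀, w ∈ centralizer (U₀ : Set G) ∧ x = f * w := by
    intro x hx hxK
    obtain ⟨f, hf, u, hu, rfl⟩ := hdec x hx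
    have h1 : u ∈ centralizer (U₀ : Set G) := by
      rw [mem_centralizer_iff]
      intro k hk
      have h2 := mem_centralizer_iff.mp hxK k hk
      have h3 := hcomm f hf k (hU₀ hk)
      calc k * u = f⁻¹ * (f * k) * u := by group
        _ = f⁻¹ * (k * f) * u := by rw [h3]
        _ = f⁻¹ * (k * (f * u)) := by group
        _ = f⁻¹ * (f * u * k) := by rw [h2]
        _ = u * k := by group
    have h2 : u ∈ (Subgroup.center ↥U₀).map U₀.subtype := by
      rw [← hCU]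
      exact mem_inf.mpr ⟨hu, h1⟩
    obtain ⟨w, -, rfl⟩ := h2
    exact ⟨f, hf, w, w.2, h1, rfl⟩
  have hodd := UThreeQuot.odd_center hq hn hF hUX
  have c : Cfg E U₀ := by
    refine ⟨?_, hsq, ?_, fun e he k hk => hcomm e he k (hU₀ hk), ?_, ?_, hq, hodd⟩
    · by_contra hcon
      push Not at hcon
      exact hE1 ((eq_bot_iff_forall E).mpr hcon)
    · intro e he he1 f hf x hx
      exact hfc f hf x (hCC e he he1 x hx)
    · intro e he he1 x hx k hk
      exact hn' x (hCC e he he1 x hx) k hk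
    · intro e he he1 x hx hxK
      exact hcK x (hCC e he he1 x hx) hxK
  refine ⟨c, ?_⟩
  -- `t ∈ E`
  have htC : t ∈ centralizer ({t} : Set G) := by
    rw [mem_centralizer_iff]
    intro y hy
    rw [Set.mem_singleton_iff.mp hy]
  have htt : t * t = 1 := by rw [← pow_two, ← ht, pow_orderOf_eq_one]
  have htK : t ∈ centralizer (U₀ : Set G) := by
    rw [mem_centralizer_iff]
    intro k hk
    exact (mem_centralizer_iff.mp (hU2 (hU₀ hk)) t rfl).symm
  obtain ⟨e, he, he1⟩ := c.ne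
  exact c.mem_E he he1 (hfc e he t htC) htK (Two.of_sq htt)

end Cfsg.Agent.H337.UThreeHyp
end

-- part: S3314
section
set_option autoImplicit false
open Cfsg

namespace Cfsg.Agent.S3314

open Subgroup Cfsg.Agent.H298.UThree

universe u v

theorem four_quot {G : Type u} [Group G] [Finite G] {E K N : Subgroup G} [N.Normal] (c : Cfg E K)
    (hN : Odd (Nat.card ↥N)) (h4 : ∃ e ∈ E, ∃ f ∈ E, e ≠ 1 ∧ f ≠ 1 ∧ e ≠ f) :
    ∃ e ∈ E.map (QuotientGroup.mk' N), ∃ f ∈ E.map (QuotientGroup.mk' N), e ≠ 1 ∧ f ≠ 1 ∧ e ≠ f := by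
  obtain ⟨e, he, f, hf, he1, hf1, hef⟩ := h4
  have key : ∀ x ∈ E, x ≠ 1 → QuotientGroup.mk' N x ≠ 1 := by
    intro x hx hx1 h
    have h1 : x ∈ N := (QuotientGroup.eq_one_iff x).mp h
    have h2 : orderOf x ∣ Nat.card ↥N := Subgroup.orderOf_dvd_natCard N h1
    rw [orderOf_eq_prime (by rw [pow_two]; exact c.sq x hx) hx1] at h2
    rw [Nat.odd_iff] at hN
    omega
  refine ⟨_, ⟨e, he, rfl⟩, _, ⟨f, hf, rfl⟩, key e he he1, key f hf hf1, ?_⟩
  intro h
  have h1 : e * f ≠ 1 := by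
    intro h2
    apply hef
    rw [← c.sq f hf] at h2
    exact mul_right_cancel h2
  apply key _ (mul_mem he hf) h1
  have h2 : QuotientGroup.mk' N e = QuotientGroup.mk' N f := h
  rw [map_mul, h2, ← map_mul, c.sq f hf, map_one]

/-- the case `|E| ≥ 4` -/
theorem four {G : Type u} [Group G] [Finite G] {E K : Subgroup G} {F : Type v} [Field F] [Fintype F] {n : ℕ}
    (h : Hyp E K F n) (h4 : ∃ e ∈ E, ∃ f ∈ E, e ≠ 1 ∧ f ≠ 1 ∧ e ≠ f) :
    Cfsg.Agent.H337.UThreeFinTwo.Concl (G ⧸ Cfsg.oddCore G) F n ∧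
      Cfsg.oddCore G = (Subgroup.center ↥K).map K.subtype := by
  have hodd := Cfsg.Agent.H337.UThreeFinTwo.odd_oddCore G
  have hn : (Cfsg.oddCore G).Normal := Cfsg.Agent.Lib.Cores.pPrimeCore_normal 2
  have h' := h.quot (N := Cfsg.oddCore G) hodd
  have hO := Cfsg.Agent.LFourA.Quot.oddCore_quot (X := G)
  have hnor := Cfsg.Agent.H337.UThreeFour.normal h' (four_quot h.c hodd h4) hO
  refine ⟨Cfsg.Agent.H337.UThreeFinTwo.concl_of_normal hO h'.c h'.iso hnor, ?_⟩
  have hbot := Cfsg.Agent.H337.UThreeFinTwo.center_bot hO hnor h'.c.odd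
  apply le_antisymm
  · obtain ⟨t, ht, ht1⟩ := h.c.ne
    have h1 := h.c.odd_comm h4 hodd (fun e _ x hx => hn.conj_mem x hx e)
    obtain ⟨h2, h3⟩ := h.le_of_odd hodd ht ht1 (fun x hx => (mem_centralizer_iff.mp (h1 hx) t ht).symm) (by
      rw [normalizer_eq_top_iff.mpr hn]; exact le_top)
    intro x hx
    refine ⟨⟨x, h2 hx⟩, ?_, rfl⟩
    show (⟨x, h2 hx⟩ : ↥K) ∈ Subgroup.center ↥K
    rw [Subgroup.mem_center_iff]
    intro y
    exact Subtype.ext (mem_centralizer_iff.mp (h3 hx) y y.2)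
  · rintro _ ⟨x, hx, rfl⟩
    have hx' : x ∈ Subgroup.center ↥K := hx
    have h1 : (⟨QuotientGroup.mk' (Cfsg.oddCore G) (x : G), ⟨x, x.2, rfl⟩⟩ :
        ↥(K.map (QuotientGroup.mk' (Cfsg.oddCore G)))) ∈
          Subgroup.center ↥(K.map (QuotientGroup.mk' (Cfsg.oddCore G))) := by
      rw [Subgroup.mem_center_iff]
      rintro ⟨_, y, hy, rfl⟩
      apply Subtype.ext
      show QuotientGroup.mk' (Cfsg.oddCore G) y * QuotientGroup.mk' (Cfsg.oddCore G) (x : G)
        = QuotientGroup.mk' (Cfsg.oddCore G) (x : G) * QuotientGroup.mk' (Cfsg.oddCore G) y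
      rw [← map_mul, ← map_mul]
      congr 1
      exact congrArg Subtype.val (Subgroup.mem_center_iff.mp hx' ⟨y, hy⟩)
    rw [hbot, mem_bot] at h1
    exact (QuotientGroup.eq_one_iff (x : G)).mp (congrArg Subtype.val h1)

/-- Let G be a finite group and t an involution of G whose centralizer C is the internal direct product of a nontrivial elementary abelian 2-subgroup E and a subgroup U, where U has a normal quasisimple subgroup U₀ with U₀ modulo its centre isomorphic to PSU₃(2ⁿ) (realised over the field with 4ⁿ elements, n ≥ 2) and with C_U(U₀) = Z(U₀); suppose moreover that C is the centralizer of every involution of E. Then, writing O(G) for the largest normal subgroup of G of odd order, G/O(G) has a normal subgroup isomorphic to PSU₃(2ⁿ), to PSU₃(2ⁿ) × PSU₃(2ⁿ), or to PSL₃(4ⁿ). Furthermore, if E has more than 2 elements then O(G) equals the centre of U₀ (in particular it is abelian). -/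
theorem result {G : Type*} [Group G] [Finite G] (t : G) (ht : orderOf t = 2) (E U U₀ : Subgroup G)
    (hEU : Cfsg.IsInternalDirectProduct E U (Subgroup.centralizer ({t} : Set G)))
    (hE : Cfsg.IsElementaryAbelian 2 E) (hE1 : E ≠ ⊥)
    (hU₀ : U₀ ≤ U) (hU₀n : (U₀.subgroupOf U).Normal) (hq : Cfsg.IsQuasisimple ↥U₀)
    {F : Type*} [Field F] [Fintype F] (n : ℕ) (hn : 2 ≤ n) (hF : Fintype.card F = 4 ^ n)
    (hUX : Nonempty ((↥U₀ ⧸ Subgroup.center ↥U₀) ≃* Cfsg.PSU 3 F (2 ^ n)))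
    (hCU : U ⊓ Subgroup.centralizer (U₀ : Set G) = (Subgroup.center ↥U₀).map U₀.subtype)
    (hC : ∀ e ∈ E, orderOf e = 2 → Subgroup.centralizer ({e} : Set G) = Subgroup.centralizer ({t} : Set G)) :
    (∃ N : Subgroup (G ⧸ Cfsg.oddCore G), N.Normal ∧
      (Nonempty (↥N ≃* Cfsg.PSU 3 F (2 ^ n)) ∨ Nonempty (↥N ≃* Cfsg.PSU 3 F (2 ^ n) × Cfsg.PSU 3 F (2 ^ n)) ∨
        Nonempty (↥N ≃* Matrix.ProjectiveSpecialLinearGroup (Fin 3) F))) ∧
    (2 < Nat.card ↥E → Cfsg.oddCore G = (Subgroup.center ↥U₀).map U₀.subtype) := by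
  obtain ⟨c, htE⟩ := Cfsg.Agent.H337.UThreeHyp.cfg_of_hyp t ht E U U₀ hEU hE hE1 hU₀ hU₀n hq n hn hF hUX hCU hC
  have ht1 : t ≠ 1 := by
    rintro rfl
    rw [orderOf_one] at ht
    omega
  by_cases h4 : ∃ e ∈ E, ∃ f ∈ E, e ≠ 1 ∧ f ≠ 1 ∧ e ≠ f
  · obtain ⟨h1, h2⟩ := four (⟨c, hn, hF, hUX⟩ : Hyp E U₀ F n) h4
    exact ⟨h1, fun _ => h2⟩
  · push Not at h4
    have E2 : ∀ e ∈ E, e = 1 ∨ e = t := by
      intro e he
      by_cases he1 : e = 1
      · exact Or.inl he1
      · exact Or.inr (h4 e he t htE he1 ht1)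
    refine ⟨Cfsg.Agent.H337.UThreeFinTwo.final c htE ht1 E2 hn hF hUX, ?_⟩
    intro h2
    exfalso
    have h5 : E ≤ zpowers t := by
      intro x hx
      rcases E2 x hx with rfl | rfl
      · exact one_mem _
      · exact mem_zpowers _
    have h6 : Nat.card ↥E ≤ Nat.card ↥(zpowers t) :=
      Nat.le_of_dvd Nat.card_pos (Subgroup.card_dvd_of_le h5)
    rw [Nat.card_zpowers, ht] at h6
    omega

end Cfsg.Agent.S3314
end
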