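import Mathlib
import Cfsg.Agent.LargeExtra.Tri.CaseTwo
import Cfsg.Agent.LargeExtra.KillNine.Final
import Cfsg.Agent.LargeExtra.Nine.UCoord
import Cfsg.Agent.LargeExtra.Enum9.TenConf
import Cfsg.Agent.LargeExtra.WG6
import Cfsg.Agent.LargeExtra.Cards
import Cfsg.Agent.LargeExtra.Nine.ToCent
import Cfsg.Agent.TypeO8Plus.Main
import Cfsg.Agent.StdL2.G23Coset
import Cfsg.Agent.GH.C2GrowL3Base
import Cfsg.Agent.S0215
import Cfsg.Agent.Lib.Cores
import Cfsg.Statements.S3345
set_option linter.all false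

-- part: H345/OPA
section
/-!
# S3345, part A: modules of `S₃ × S₃ × S₃` in characteristic two on which every factor `3` acts fixed point freely
-/

set_option autoImplicit false

namespace Cfsg.Agent.H345.OPA

variable {V : Type*} [AddCommGroup V] [Module (ZMod 2) V]

/-- `⟨r i, s i⟩ ≅ S₃`, `i = 0, 1, 2`, commuting -/
structure Tri3 (r s : Fin 3 → (V ≃ₗ[ZMod 2] V)) : Prop where
  r3 : ∀ i, r i * r i * r i = 1
  rr : ∀ i j, r i * r j = r j * r i
  s2 : ∀ i, s i * s i = 1
  sr : ∀ i j, i ≠ j → s i * r j = r j * s i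
  srs : ∀ i, r i * s i = s i * (r i * r i)

theorem add_self' (v : V) : v + v = 0 := by
  have : (2 : ZMod 2) • v = v + v := two_smul _ v
  rw [← this, show (2 : ZMod 2) = 0 from rfl, zero_smul]

theorem eq_of_add {v w : V} (h : v + w = 0) : v = w := by
  have h1 : v = -w := eq_neg_of_add_eq_zero_left h
  have h2 : -w = w := (eq_neg_of_add_eq_zero_left (add_self' w)).symm
  rw [h1, h2]

variable {r s : Fin 3 → (V ≃ₗ[ZMod 2] V)}

namespace Tri3

variable (T : Tri3 r s)
include T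

theorem r3' (i : Fin 3) (v : V) : r i (r i (r i v)) = v := by
  have := congrArg (fun f : V ≃ₗ[ZMod 2] V => f v) (T.r3 i)
  exact this

theorem rr' (i j : Fin 3) (v : V) : r i (r j v) = r j (r i v) :=
  congrArg (fun f : V ≃ₗ[ZMod 2] V => f v) (T.rr i j)

theorem s2' (i : Fin 3) (v : V) : s i (s i v) = v :=
  congrArg (fun f : V ≃ₗ[ZMod 2] V => f v) (T.s2 i)

theorem sr' {i j : Fin 3} (h : i ≠ j) (v : V) : s i (r j v) = r j (s i v) :=
  congrArg (fun f : V ≃ₗ[ZMod 2] V => f v) (T.sr i j h)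

theorem srs' (i : Fin 3) (v : V) : r i (s i v) = s i (r i (r i v)) :=
  congrArg (fun f : V ≃ₗ[ZMod 2] V => f v) (T.srs i)

/-- the common eigenspace -/
def S (_T : Tri3 r s) (R : Submodule (ZMod 2) V) : Submodule (ZMod 2) V where
  carrier := {v | v ∈ R ∧ r 1 v = r 0 v ∧ r 2 v = r 0 v}
  zero_mem' := ⟨R.zero_mem, by simp, by simp⟩
  add_mem' := by
    rintro v w ⟨h1, h2, h3⟩ ⟨h4, h5, h6⟩
    exact ⟨R.add_mem h1 h4, by rw [map_add, map_add, h2, h5], by rw [map_add, map_add, h3, h6]⟩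
  smul_mem' := by
    rintro c v ⟨h1, h2, h3⟩
    exact ⟨R.smul_mem c h1, by rw [map_smul, map_smul, h2], by rw [map_smul, map_smul, h3]⟩

theorem card_ge [Finite V] {R : Submodule (ZMod 2) V} (hr : ∀ i, ∀ v ∈ R, r i v ∈ R)
    (hs : ∀ i, ∀ v ∈ R, s i v ∈ R) (hfix : ∀ i, ∀ v ∈ R, r i v = v → v = 0) (hne : R ≠ ⊥) :
    256 ≤ Nat.card R := by
  have hsum : ∀ i, ∀ v ∈ R, v + r i v + r i (r i v) = 0 := by
    intro i v hv
    apply hfix i _ (R.add_mem (R.add_mem hv (hr i v hv)) (hr i _ (hr i v hv)))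
    rw [map_add, map_add, T.r3']
    abel
  -- `r i v = r j (r j v)` and `r i v = r j v` imply `v = 0`
  have hz : ∀ i, ∀ v ∈ R, r i v = r i (r i v) → v = 0 := by
    intro i v hv e
    apply hfix i v hv
    have h1 := congrArg (r i) e
    rw [T.r3'] at h1
    -- `r (r v) = v`
    have h2 := congrArg (r i) h1
    rw [T.r3'] at h2
    exact h2.symm
  -- a nonzero vector of `S`
  obtain ⟨v, hv, hv0⟩ := (Submodule.ne_bot_iff _).1 hne
  have h1 : ∃ w ∈ R, w ≠ 0 ∧ r 1 w = r 0 w := by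
    by_cases h : r 1 v + r 0 (r 0 v) = 0
    · refine ⟨s 1 v, hs 1 v hv, fun e => hv0 ?_, ?_⟩
      · have := congrArg (s 1) e
        rwa [T.s2', map_zero] at this
      · have h2 : r 1 v = r 0 (r 0 v) := eq_of_add h
        rw [T.srs', h2, T.rr' 1 0, T.rr' 1 0, h2, T.r3', T.sr' (by decide)]
    · refine ⟨_, R.add_mem (hr 1 v hv) (hr 0 _ (hr 0 v hv)), h, ?_⟩
      have e1 := hsum 1 v hv
      have e0 := hsum 0 v hv
      rw [map_add, map_add, T.rr' 1 0, T.rr' 1 0 v, T.r3']
      apply eq_of_add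
      have e3 : r 1 (r 1 v) = v + r 1 v := by
        apply Eq.symm
        exact eq_of_add e1
      have e4 : r 0 (r 0 v) = v + r 0 v := (eq_of_add e0).symm
      rw [e3, T.rr' 0 1, T.rr' 0 1, e4, map_add, T.rr' 1 0]
      have a1 := add_self' v
      have a2 := add_self' (r 1 v)
      have a3 := add_self' (r 0 (r 1 v))
      calc v + r 1 v + (r 1 v + r 0 (r 1 v)) + (r 0 (r 1 v) + v) =
          (v + v) + (r 1 v + r 1 v) + (r 0 (r 1 v) + r 0 (r 1 v)) := by abel
        _ = 0 := by rw [a1, a2, a3]; simp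
  obtain ⟨w, hw, hw0, hw1⟩ := h1
  have h2 : ∃ u ∈ R, u ≠ 0 ∧ r 1 u = r 0 u ∧ r 2 u = r 0 u := by
    by_cases h : r 2 w + r 0 (r 0 w) = 0
    · refine ⟨s 2 w, hs 2 w hw, fun e => hw0 ?_, ?_, ?_⟩
      · have := congrArg (s 2) e
        rwa [T.s2', map_zero] at this
      · rw [← T.sr' (by decide), ← T.sr' (by decide), hw1]
      · have h2 : r 2 w = r 0 (r 0 w) := eq_of_add h
        rw [T.srs', h2, T.rr' 2 0, T.rr' 2 0, h2, T.r3', T.sr' (by decide)]
    · refine ⟨_, R.add_mem (hr 2 w hw) (hr 0 _ (hr 0 w hw)), h, ?_, ?_⟩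
      · rw [map_add, map_add, T.rr' 1 2, T.rr' 1 0, T.rr' 1 0 w, hw1, T.rr' 2 0]
      · have e1 := hsum 2 w hw
        have e0 := hsum 0 w hw
        rw [map_add, map_add, T.rr' 2 0, T.rr' 2 0 w, T.r3']
        apply eq_of_add
        have e3 : r 2 (r 2 w) = w + r 2 w := (eq_of_add e1).symm
        have e4 : r 0 (r 0 w) = w + r 0 w := (eq_of_add e0).symm
        rw [e3, T.rr' 0 2, T.rr' 0 2, e4, map_add, T.rr' 2 0]
        have a1 := add_self' w
        have a2 := add_self' (r 2 w)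
        have a3 := add_self' (r 0 (r 2 w))
        calc w + r 2 w + (r 2 w + r 0 (r 2 w)) + (r 0 (r 2 w) + w) =
            (w + w) + (r 2 w + r 2 w) + (r 0 (r 2 w) + r 0 (r 2 w)) := by abel
          _ = 0 := by rw [a1, a2, a3]; simp
  obtain ⟨u, hu, hu0, hu1, hu2⟩ := h2
  -- four elements of `S`
  have hS4 : 4 ≤ Nat.card (T.S R) := by
    have hu3 : r 0 u ≠ 0 := fun e => hu0 ((r 0).map_eq_zero_iff.1 e)
    have hu4 : r 0 (r 0 u) ≠ 0 := fun e => hu3 ((r 0).map_eq_zero_iff.1 e)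
    have hu5 : r 0 u ≠ u := fun e => hu0 (hfix 0 u hu e)
    have hu6 : r 0 (r 0 u) ≠ r 0 u := fun e => hu3 (hfix 0 _ (hr 0 u hu) e)
    have hu7 : r 0 (r 0 u) ≠ u := by
      intro e
      apply hu5
      have := congrArg (r 0) e
      rw [T.r3'] at this
      exact this.symm
    have m1 : r 0 u ∈ T.S R := ⟨hr 0 u hu, by rw [T.rr' 1 0, hu1], by rw [T.rr' 2 0, hu2]⟩
    have m2 : r 0 (r 0 u) ∈ T.S R := ⟨hr 0 _ (hr 0 u hu), by rw [T.rr' 1 0, T.rr' 1 0, hu1],
      by rw [T.rr' 2 0, T.rr' 2 0, hu2]⟩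
    let g : Fin 4 → T.S R := ![0, ⟨u, hu, hu1, hu2⟩, ⟨r 0 u, m1⟩, ⟨r 0 (r 0 u), m2⟩]
    have hg : Function.Injective g := by
      intro i j hij
      have hij' : ((g i : T.S R) : V) = g j := congrArg Subtype.val hij
      fin_cases i <;> fin_cases j <;> simp [g] at hij' ⊢
      all_goals first
        | exact hu0 hij'
        | exact hu0 hij'.symm
        | exact hu3 hij'
        | exact hu3 hij'.symm
        | exact hu4 hij'
        | exact hu4 hij'.symm
        | exact hu5 hij'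
        | exact hu5 hij'.symm
        | exact hu6 hij'
        | exact hu6 hij'.symm
        | exact hu7 hij'
        | exact hu7 hij'.symm
    simpa using Nat.card_le_card_of_injective g hg
  -- the injection `S⁴ → R`
  let f : (T.S R × T.S R) × (T.S R × T.S R) → R := fun p =>
    ⟨p.1.1 + s 1 p.1.2 + (s 2 p.2.1 + s 1 (s 2 p.2.2)), by
      refine R.add_mem (R.add_mem p.1.1.2.1 (hs 1 _ p.1.2.2.1)) (R.add_mem (hs 2 _ p.2.1.2.1)
        (hs 1 _ (hs 2 _ p.2.2.2.1)))⟩
  have hf : Function.Injective f := by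
    -- additivity
    have key : ∀ a b c d : V, a ∈ T.S R → b ∈ T.S R → c ∈ T.S R → d ∈ T.S R →
        a + s 1 b + (s 2 c + s 1 (s 2 d)) = 0 → a = 0 ∧ b = 0 ∧ c = 0 ∧ d = 0 := by
      rintro a b c d ⟨a0, a1, a2⟩ ⟨b0, b1, b2⟩ ⟨c0, c1, c2⟩ ⟨d0, d1, d2⟩ h
      have hR1 : a + s 2 c ∈ R := R.add_mem a0 (hs 2 c c0)
      have hR2 : b + s 2 d ∈ R := R.add_mem b0 (hs 2 d d0)
      have k1 : r 1 (a + s 2 c) = r 0 (a + s 2 c) := by
        rw [map_add, map_add, a1, ← T.sr' (by decide), ← T.sr' (by decide), c1]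
      have k2 : r 1 (b + s 2 d) = r 0 (b + s 2 d) := by
        rw [map_add, map_add, b1, ← T.sr' (by decide), ← T.sr' (by decide), d1]
      have k3 : r 1 (s 1 (b + s 2 d)) = r 0 (r 0 (s 1 (b + s 2 d))) := by
        rw [T.srs', k2, T.rr' 1 0, k2, T.sr' (by decide), T.sr' (by decide)]
      have k4 : a + s 2 c = s 1 (b + s 2 d) := by
        apply eq_of_add
        rw [map_add, ← h]
        abel
      have k5 : a + s 2 c = 0 := by
        apply hz 0 _ hR1
        rw [← k4, k1] at k3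
        exact k3
      have k6 : b + s 2 d = 0 := by
        rw [k5] at k4
        have := congrArg (s 1) k4
        rw [T.s2', map_zero] at this
        exact this.symm
      have k7 : ∀ a c : V, a ∈ R → c ∈ R → r 2 a = r 0 a → r 2 c = r 0 c → a + s 2 c = 0 → a = 0 ∧ c = 0 := by
        intro a c a0 c0 a2 c2 e
        have e1 : a = s 2 c := eq_of_add e
        have e2 : r 2 (s 2 c) = r 0 (r 0 (s 2 c)) := by
          rw [T.srs', c2, T.rr' 2 0, c2, T.sr' (by decide), T.sr' (by decide)]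
        have e3 : a = 0 := by
          apply hz 0 _ a0
          rw [← e1, a2] at e2
          exact e2
        refine ⟨e3, ?_⟩
        rw [e3] at e1
        have := congrArg (s 2) e1
        rw [T.s2', map_zero] at this
        exact this.symm
      obtain ⟨h5, h6⟩ := k7 a c a0 c0 a2 c2 k5
      obtain ⟨h7, h8⟩ := k7 b d b0 d0 b2 d2 k6
      exact ⟨h5, h7, h6, h8⟩
    rintro ⟨⟨a, b⟩, ⟨c, d⟩⟩ ⟨⟨a', b'⟩, ⟨c', d'⟩⟩ h
    have h' : (a : V) + s 1 b + (s 2 c + s 1 (s 2 d)) = a' + s 1 b' + (s 2 c' + s 1 (s 2 d')) :=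
      congrArg Subtype.val h
    have h'' := key (a - a') (b - b') (c - c') (d - d') ((T.S R).sub_mem a.2 a'.2)
      ((T.S R).sub_mem b.2 b'.2) ((T.S R).sub_mem c.2 c'.2) ((T.S R).sub_mem d.2 d'.2) (by
        rw [map_sub, map_sub, map_sub, map_sub]
        have : (a : V) - a' + (s 1 b - s 1 b') + (s 2 c - s 2 c' + (s 1 (s 2 d) - s 1 (s 2 d'))) =
          (a + s 1 b + (s 2 c + s 1 (s 2 d))) - (a' + s 1 b' + (s 2 c' + s 1 (s 2 d'))) := by abel
        rw [this, h', sub_self])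
    obtain ⟨h1, h2, h3, h4⟩ := h''
    rw [sub_eq_zero] at h1 h2 h3 h4
    rw [Subtype.ext h1, Subtype.ext h2, Subtype.ext h3, Subtype.ext h4]
  have h5 := Nat.card_le_card_of_injective f hf
  rw [Nat.card_prod, Nat.card_prod] at h5
  have h6 : 4 * 4 ≤ Nat.card (T.S R) * Nat.card (T.S R) := Nat.mul_le_mul hS4 hS4
  have h7 : (4 * 4) * (4 * 4) ≤ (Nat.card (T.S R) * Nat.card (T.S R)) * (Nat.card (T.S R) * Nat.card (T.S R)) :=
    Nat.mul_le_mul h6 h6
  omega

end Tri3

end Cfsg.Agent.H345.OPA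
end

-- part: H345/OPB
section
/-!
# S3345, part B: `C / Q ≅ S₃ × S₃ × S₃` acts irreducibly on `Q / ⟨z⟩`
-/

set_option autoImplicit false

namespace Cfsg.Agent.H345.OPB

open Cfsg.Agent.Co2Type.Quad Cfsg.Agent.LargeExtra Cfsg.Agent.LargeExtra.Base
open Cfsg.Agent.LargeExtra.SiegFam.Inst Cfsg.Agent.H345.OPA

variable {G : Type*} [Group G] {Q A : Subgroup G} {z a : G}

theorem b_H (p : Pair Q z A a) {f : p.lz.V ≃ₗ[ZMod 2] p.lz.V} (hf : f ∈ p.H) (v w : p.lz.V) :
    p.lz.b (f v) (f w) = p.lz.b v w := by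
  obtain ⟨c, rfl⟩ := hf
  exact p.lz.b_act c v w

theorem zmod2 (c : ZMod 2) : c = 0 ∨ c = 1 := by
  revert c; decide

/-- the projection onto the fixed points of `r` -/
def P {V : Type*} [AddCommGroup V] [Module (ZMod 2) V] (r : V ≃ₗ[ZMod 2] V) : V →ₗ[ZMod 2] V :=
  LinearMap.id + r.toLinearMap + (r * r).toLinearMap

theorem P_apply {V : Type*} [AddCommGroup V] [Module (ZMod 2) V] (r : V ≃ₗ[ZMod 2] V) (v : V) :
    P r v = v + r v + r (r v) := rfl

/-- separating functional -/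
theorem exists_phi (h : Large Q z) {u d : h.V} (h0 : d ≠ 0) (h1 : d ≠ u) :
    ∃ φ : h.V →ₗ[ZMod 2] ZMod 2, φ u = 0 ∧ φ d = 1 := by
  by_contra hno
  push Not at hno
  rcases TwoCentral.eq_of_perp h (a := u) (d := d) (fun v hv => by
    have h2 := hno (h.b v) (by rw [h.b_comm]; exact hv)
    rw [h.b_comm]
    rcases zmod2 (h.b v d) with e | e
    · exact e
    · exact absurd e h2) with e | e
  · exact h0 e
  · exact h1 e

section
variable [Finite G] (p : Pair Q z A a) (hV : Nat.card p.lz.V = 256) (hD : Nat.card p.D = 16)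
include hV hD

theorem D_perp {v : p.lz.V} (hv : ∀ d ∈ p.D, p.lz.b d v = 0) : v ∈ p.D := by
  have h1 := Perp.card_perp p.lz p.D
  rw [hV, hD] at h1
  have h2 : Nat.card (p.lz.b.orthogonal p.D) = 16 := by omega
  have h3 : p.D ≤ p.lz.b.orthogonal p.D := by
    intro d hd
    rw [Perp.mem_perp]
    intro w hw
    exact p.b_D hw hd
  have h4 : v ∈ p.lz.b.orthogonal p.D := (Perp.mem_perp p.lz p.D).2 hv
  have h5 : (p.D : Set p.lz.V) = (p.lz.b.orthogonal p.D : Set p.lz.V) := by
    apply Set.eq_of_subset_of_ncard_le h3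
    · rw [← Nat.card_coe_set_eq, ← Nat.card_coe_set_eq]
      exact le_of_eq (h2.trans hD.symm)
  have h6 : v ∈ (p.lz.b.orthogonal p.D : Set p.lz.V) := h4
  rw [← h5] at h6
  exact h6

end

section
variable [Finite G] (p : Pair Q z A a)

/-- an `X`-invariant subspace meeting `D` contains `va` -/
theorem va_mem_of {U : Submodule (ZMod 2) p.lz.V} (hU : ∀ f ∈ p.X, ∀ v ∈ U, f v ∈ U) {d : p.lz.V}
    (hd : d ∈ p.D) (hdU : d ∈ U) (h0 : d ≠ 0) : p.va ∈ U := by
  by_cases h1 : d = p.va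
  · rw [← h1]; exact hdU
  obtain ⟨φ, e1, e2⟩ := exists_phi p.lz h0 h1
  obtain ⟨f, hf, hfd⟩ := p.exists_X φ e1
  have h2 := hfd d hd
  rw [e2, one_smul] at h2
  have h3 := U.sub_mem (hU f hf d hdU) hdU
  rwa [h2, add_sub_cancel_left] at h3

variable (hV : Nat.card p.lz.V = 256) (hD : Nat.card p.D = 16)

include hV hD in
/-- the main step: `V = W ⊥ W'`, `W = ker P`, `W' = range P` -/
theorem dich {r : p.lz.V ≃ₗ[ZMod 2] p.lz.V} (hr : r ∈ p.H) (r3 : r * r * r = 1)
    (hn : ∀ f ∈ p.X, f * r * f⁻¹ = r ∨ f * r * f⁻¹ = r * r) :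
    (P r p.va = 0 ∧ ∀ f ∈ p.X, ∀ w, r w = w → f w = w) ∨
    (r p.va = p.va ∧ ∀ f ∈ p.X, ∀ w, P r w = 0 → f w = w) := by
  have r3' : ∀ v, r (r (r v)) = v := fun v =>
    congrArg (fun f : p.lz.V ≃ₗ[ZMod 2] p.lz.V => f v) r3
  have hPr : ∀ v, r (P r v) = P r v := by
    intro v
    rw [P_apply, map_add, map_add, r3']
    abel
  have hPfix : ∀ v, r v = v → P r v = v := by
    intro v hv
    rw [P_apply, hv, hv, add_self', zero_add]
  have hPP : ∀ v, P r (P r v) = P r v := fun v => hPfix _ (hPr v)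
  -- orthogonality
  have hperp : ∀ w w', P r w = 0 → r w' = w' → p.lz.b w w' = 0 := by
    intro w w' hw hw'
    have h1 : p.lz.b (r w) w' = p.lz.b w w' := by
      conv_lhs => rw [← hw']
      exact b_H p hr w w'
    have h2 : p.lz.b (r (r w)) w' = p.lz.b w w' := by
      conv_lhs => rw [← hw']
      rw [b_H p hr]
      exact h1
    have h3 : p.lz.b (P r w) w' = 0 := by rw [hw, map_zero, LinearMap.zero_apply]
    rw [P_apply, map_add, map_add, LinearMap.add_apply, LinearMap.add_apply, h1, h2] at h3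
    rcases zmod2 (p.lz.b w w') with e | e
    · exact e
    · rw [e] at h3; exact absurd h3 (by decide)
  -- `X` commutes with `P`
  have hfP : ∀ f ∈ p.X, ∀ v, f (P r v) = P r (f v) := by
    intro f hf v
    have h1 : ∀ w, f (r w) = r (f w) ∨ f (r w) = r (r (f w)) := by
      intro w
      rcases hn f hf with e | e
      · left
        have := congrArg (fun g : p.lz.V ≃ₗ[ZMod 2] p.lz.V => g (f w)) e
        have h2 : f (r (f⁻¹ (f w))) = r (f w) := this
        rwa [show f⁻¹ (f w) = w from f.symm_apply_apply w] at h2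
      · right
        have := congrArg (fun g : p.lz.V ≃ₗ[ZMod 2] p.lz.V => g (f w)) e
        have h2 : f (r (f⁻¹ (f w))) = r (r (f w)) := this
        rwa [show f⁻¹ (f w) = w from f.symm_apply_apply w] at h2
    have h2 : (∀ w, f (r w) = r (f w)) ∨ (∀ w, f (r w) = r (r (f w))) := by
      rcases hn f hf with e | e
      · left
        intro w
        have := congrArg (fun g : p.lz.V ≃ₗ[ZMod 2] p.lz.V => g (f w)) e
        have h2 : f (r (f⁻¹ (f w))) = r (f w) := this
        rwa [show f⁻¹ (f w) = w from f.symm_apply_apply w] at h2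
      · right
        intro w
        have := congrArg (fun g : p.lz.V ≃ₗ[ZMod 2] p.lz.V => g (f w)) e
        have h2 : f (r (f⁻¹ (f w))) = r (r (f w)) := this
        rwa [show f⁻¹ (f w) = w from f.symm_apply_apply w] at h2
    rw [P_apply, P_apply, map_add, map_add]
    rcases h2 with h2 | h2
    · rw [h2, h2, h2]
    · rw [h2, h2, h2, r3']
      abel
  -- the subspaces
  let W : Submodule (ZMod 2) p.lz.V := LinearMap.ker (P r)
  let W' : Submodule (ZMod 2) p.lz.V := LinearMap.ker (r.toLinearMap - LinearMap.id)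
  have mW : ∀ v, v ∈ W ↔ P r v = 0 := fun v => LinearMap.mem_ker
  have mW' : ∀ v, v ∈ W' ↔ r v = v := by
    intro v
    show v ∈ LinearMap.ker (r.toLinearMap - LinearMap.id) ↔ _
    rw [LinearMap.mem_ker, LinearMap.sub_apply, LinearMap.id_apply, sub_eq_zero]
    exact Iff.rfl
  have hXW : ∀ f ∈ p.X, ∀ v ∈ W, f v ∈ W := by
    intro f hf v hv
    rw [mW] at hv ⊢
    rw [← hfP f hf, hv, map_zero]
  have hXW' : ∀ f ∈ p.X, ∀ v ∈ W', f v ∈ W' := by
    intro f hf v hv
    rw [mW'] at hv ⊢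
    have h1 := hfP f hf v
    rw [hPfix v hv] at h1
    rw [h1]
    exact hPr _
  by_cases h1 : p.va ∈ W
  · left
    refine ⟨(mW _).1 h1, fun f hf w hw => ?_⟩
    -- `f w + w ∈ D ∩ W'`
    have h2 : p.lz.b p.va w = 0 := hperp _ _ ((mW _).1 h1) hw
    have h3 := p.X_perp hf h2
    have h4 : f w + w ∈ W' := W'.add_mem (hXW' f hf w ((mW' w).2 hw)) ((mW' w).2 hw)
    by_contra hne
    have h5 : f w + w ≠ 0 := fun e => hne (eq_of_add e)
    have h6 := va_mem_of p hXW' h3 h4 h5
    -- `va ∈ W ∩ W'`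
    have h7 := hPfix _ ((mW' _).1 h6)
    rw [(mW _).1 h1] at h7
    exact p.va_ne h7.symm
  by_cases h2 : p.va ∈ W'
  · right
    refine ⟨(mW' _).1 h2, fun f hf w hw => ?_⟩
    have h3 : p.lz.b p.va w = 0 := by
      rw [p.lz.b_comm]; exact hperp _ _ hw ((mW' _).1 h2)
    have h4 := p.X_perp hf h3
    have h5 : f w + w ∈ W := W.add_mem (hXW f hf w ((mW w).2 hw)) ((mW w).2 hw)
    by_contra hne
    have h6 : f w + w ≠ 0 := fun e => hne (eq_of_add e)
    exact h1 (va_mem_of p hXW h4 h5 h6)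
  exfalso
  -- `π v = v + P v`
  have hπ : ∀ v, P r (v + P r v) = 0 := by
    intro v
    rw [map_add, hPP, add_self']
  have hbπ : ∀ v w, p.lz.b (v + P r v) w = p.lz.b (v + P r v) (w + P r w) := by
    intro v w
    rw [(p.lz.b (v + P r v)).map_add w (P r w), hperp _ _ (hπ v) (hPr w), add_zero]
  have hbπ2 : ∀ v w, p.lz.b (v + P r v) (P r w) = 0 := fun v w => hperp _ _ (hπ v) (hPr w)
  have h3 : p.va + P r p.va ∉ p.D := by
    intro hd
    have h4 : p.va + P r p.va ∈ W := (mW _).2 (hπ _)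
    have h5 : p.va + P r p.va ≠ 0 := by
      intro e
      apply h2
      rw [mW']
      have := eq_of_add e
      rw [this]
      exact hPr _
    exact h1 (va_mem_of p hXW hd h4 h5)
  obtain ⟨d2, hd2, hd2'⟩ : ∃ d ∈ p.D, p.lz.b d (p.va + P r p.va) = 1 := by
    by_contra hno
    push Not at hno
    apply h3
    apply D_perp p hV hD
    intro d hd
    rcases zmod2 (p.lz.b d (p.va + P r p.va)) with e | e
    · exact e
    · exact absurd e (hno d hd)
  rw [p.lz.b_comm] at hd2'
  -- `d1`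
  obtain ⟨d1, hd1, hd10, hd1a, hd1'⟩ : ∃ d ∈ p.D, d ≠ 0 ∧ d ≠ p.va ∧ p.lz.b (p.va + P r p.va) d = 0 := by
    by_contra hno
    push Not at hno
    have h4 : ∀ d ∈ p.D, d = 0 ∨ d = p.va ∨ d = d2 ∨ d = p.va + d2 := by
      intro d hd
      rcases zmod2 (p.lz.b (p.va + P r p.va) d) with e | e
      · by_cases e0 : d = 0
        · exact Or.inl e0
        · by_cases e1 : d = p.va
          · exact Or.inr (Or.inl e1)
          · exact absurd e (hno d hd e0 e1)
      · have h5 : p.lz.b (p.va + P r p.va) (d + d2) = 0 := by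
          rw [map_add, e, hd2']; decide
        by_cases e0 : d + d2 = 0
        · exact Or.inr (Or.inr (Or.inl (eq_of_add e0)))
        · by_cases e1 : d + d2 = p.va
          · right; right; right
            rw [← e1, add_assoc, add_self', add_zero]
          · exact absurd h5 (hno _ (p.D.add_mem hd hd2) e0 e1)
    classical
    have h5 : Nat.card p.D ≤ 4 := by
      let g : Fin 4 → p.D := ![0, ⟨p.va, p.va_mem_D⟩, ⟨d2, hd2⟩, ⟨p.va + d2, p.D.add_mem p.va_mem_D hd2⟩]
      have hg : Function.Surjective g := by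
        rintro ⟨d, hd⟩
        rcases h4 d hd with e | e | e | e
        · exact ⟨0, Subtype.ext e.symm⟩
        · exact ⟨1, Subtype.ext e.symm⟩
        · exact ⟨2, Subtype.ext e.symm⟩
        · exact ⟨3, Subtype.ext e.symm⟩
      simpa using Nat.card_le_card_of_surjective g hg
    omega
  -- the functional
  obtain ⟨φ0, e1, e2⟩ := exists_phi p.lz hd10 hd1a
  obtain ⟨φ, f1, f2, f3⟩ : ∃ φ : p.lz.V →ₗ[ZMod 2] ZMod 2, φ p.va = 0 ∧ φ d1 = 1 ∧ φ d2 = 0 := by
    rcases zmod2 (φ0 d2) with e | e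
    · exact ⟨φ0, e1, e2, e⟩
    · refine ⟨φ0 + p.lz.b (p.va + P r p.va), ?_, ?_, ?_⟩
      · rw [LinearMap.add_apply, e1, hbπ, p.lz.b_self, add_zero]
      · rw [LinearMap.add_apply, e2, hd1', add_zero]
      · rw [LinearMap.add_apply, e, hd2']; decide
  obtain ⟨f, hf, hfD⟩ := p.exists_X φ f1
  have g1 := hfD d1 hd1
  have g2 := hfD d2 hd2
  rw [f2, one_smul] at g1
  rw [f3, zero_smul, add_zero] at g2
  have g3 : p.lz.b (f (d1 + P r d1)) (f (d2 + P r d2)) = p.lz.b (d1 + P r d1) (d2 + P r d2) :=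
    b_H p (p.X_le_H hf) _ _
  rw [map_add f, map_add f, hfP f hf, hfP f hf, g1, g2] at g3
  have g4 : d1 + p.va + P r (d1 + p.va) = (d1 + P r d1) + (p.va + P r p.va) := by
    rw [map_add]; abel
  rw [g4, Tri.Basic.b_add_left, ← hbπ p.va d2, hd2'] at g3
  have g5 : (1 : ZMod 2) = 0 := by
    have := congrArg (fun t => t - p.lz.b (d1 + P r d1) (d2 + P r d2)) g3
    simp at this
  exact absurd g5 (by decide)

end

/-- `Irr p` for `C / Q ≅ S₃ × S₃ × S₃` -/
theorem irr_of [Finite G] (p : Pair Q z A a) (hV : Nat.card p.lz.V = 256) (hD : Nat.card p.D = 16)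
    {r s : Fin 3 → (p.lz.V ≃ₗ[ZMod 2] p.lz.V)} (T : Tri3 r s) (hr : ∀ i, r i ∈ p.H) (hs : ∀ i, s i ∈ p.H)
    (hne : ∀ i, r i ≠ 1) (hn : ∀ f ∈ p.H, ∀ i, f * r i * f⁻¹ = r i ∨ f * r i * f⁻¹ = r i * r i)
    (hconj : ∀ i, ∃ g ∈ p.H, g * s i * g⁻¹ ∈ p.X) : Irr p := by
  have hfinV : Finite p.lz.V := Nat.finite_of_card_ne_zero (by omega)
  have hfP : ∀ i, ∀ f ∈ p.H, ∀ v, f (P (r i) v) = P (r i) (f v) := by
    intro i f hf v
    have h2 : (∀ w, f (r i w) = r i (f w)) ∨ (∀ w, f (r i w) = r i (r i (f w))) := by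
      rcases hn f hf i with e | e
      · left
        intro w
        have := congrArg (fun g : p.lz.V ≃ₗ[ZMod 2] p.lz.V => g (f w)) e
        have h2 : f (r i (f⁻¹ (f w))) = r i (f w) := this
        rwa [show f⁻¹ (f w) = w from f.symm_apply_apply w] at h2
      · right
        intro w
        have := congrArg (fun g : p.lz.V ≃ₗ[ZMod 2] p.lz.V => g (f w)) e
        have h2 : f (r i (f⁻¹ (f w))) = r i (r i (f w)) := this
        rwa [show f⁻¹ (f w) = w from f.symm_apply_apply w] at h2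
    rw [P_apply, P_apply, map_add, map_add]
    rcases h2 with h2 | h2
    · rw [h2, h2, h2]
    · rw [h2, h2, h2, T.r3']
      abel
  have hPr : ∀ i v, r i (P (r i) v) = P (r i) v := by
    intro i v
    rw [P_apply, map_add, map_add, T.r3']
    abel
  have hPfix : ∀ i v, r i v = v → P (r i) v = v := by
    intro i v hv
    rw [P_apply, hv, hv, add_self', zero_add]
  -- `s j` acts trivially on an invariant subspace on which `X` acts trivially
  have hsU : ∀ U : Submodule (ZMod 2) p.lz.V, (∀ f ∈ p.H, ∀ v ∈ U, f v ∈ U) →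
      (∀ f ∈ p.X, ∀ v ∈ U, f v = v) → ∀ j, ∀ v ∈ U, r j v = v := by
    intro U hU hX j v hv
    have h1 : ∀ w ∈ U, s j w = w := by
      intro w hw
      obtain ⟨g, hg, hgs⟩ := hconj j
      have h2 := hX _ hgs (g w) (hU g hg w hw)
      have h3 : g (s j (g⁻¹ (g w))) = g w := h2
      rw [show g⁻¹ (g w) = w from g.symm_apply_apply w] at h3
      exact g.injective h3
    have h2 := T.srs' j v
    rw [h1 v hv, h1 _ (hU _ (hr j) _ (hU _ (hr j) v hv))] at h2
    have h3 := congrArg (r j) h2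
    rw [T.r3'] at h3
    have h4 := congrArg (r j) h3
    rw [T.r3'] at h4
    exact h4.symm
  have hd := fun i => dich p hV hD (hr i) (T.r3 i) (fun f hf => hn f (p.X_le_H hf) i)
  -- second alternative impossible, first gives trivial action on the fixed points
  have h1 : ∀ i, P (r i) p.va = 0 ∧ ∀ j, ∀ w, r i w = w → r j w = w := by
    intro i
    rcases hd i with ⟨e1, e2⟩ | ⟨e1, e2⟩
    · refine ⟨e1, fun j w hw => ?_⟩
      let U : Submodule (ZMod 2) p.lz.V := LinearMap.ker ((r i).toLinearMap - LinearMap.id)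
      have mU : ∀ v, v ∈ U ↔ r i v = v := by
        intro v
        show v ∈ LinearMap.ker ((r i).toLinearMap - LinearMap.id) ↔ _
        rw [LinearMap.mem_ker, LinearMap.sub_apply, LinearMap.id_apply, sub_eq_zero]
        exact Iff.rfl
      refine hsU U ?_ ?_ j w ((mU w).2 hw)
      · intro f hf v hv
        rw [mU] at hv ⊢
        have h1 := hfP i f hf v
        rw [hPfix i v hv] at h1
        rw [h1]
        exact hPr i _
      · intro f hf v hv
        exact e2 f hf v ((mU v).1 hv)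
    · exfalso
      apply hne i
      have h2 : ∀ v, P (r i) v = 0 → r i v = v := by
        let U : Submodule (ZMod 2) p.lz.V := LinearMap.ker (P (r i))
        intro v hv
        refine hsU U ?_ ?_ i v (LinearMap.mem_ker.2 hv)
        · intro f hf w hw
          rw [LinearMap.mem_ker] at hw ⊢
          rw [← hfP i f hf, hw, map_zero]
        · intro f hf w hw
          exact e2 f hf w (LinearMap.mem_ker.1 hw)
      ext v
      show r i v = v
      have h3 : P (r i) (v + P (r i) v) = 0 := by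
        rw [map_add, hPfix i _ (hPr i v), add_self']
      have h4 := h2 _ h3
      rw [map_add, hPr] at h4
      exact add_right_cancel h4
  -- no fixed points
  have h2 : ∀ i, ∀ v, r i v = v → v = 0 := by
    -- `W = ker P (r 0)` is everything
    have hker : ∀ i v, P (r i) v = 0 ↔ P (r 0) v = 0 := by
      have key : ∀ i j v, P (r i) v = 0 → P (r j) v = 0 := by
        intro i j v hv
        -- `P (r j) v` is fixed by `r j`, hence by `r i`
        have k1 := (h1 j).2 i _ (hPr j v)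
        have k2 := hPfix i _ k1
        have k3 : P (r i) (P (r j) v) = P (r j) (P (r i) v) := by
          rw [P_apply (r i), P_apply (r i), hfP j _ (hr i), hfP j _ (hr i), map_add, map_add]
        rw [k3, hv, map_zero] at k2
        exact k2.symm
      exact fun i v => ⟨key i 0 v, key 0 i v⟩
    let R : Submodule (ZMod 2) p.lz.V := LinearMap.ker (P (r 0))
    have mR : ∀ v, v ∈ R ↔ P (r 0) v = 0 := fun v => LinearMap.mem_ker
    have hRH : ∀ f ∈ p.H, ∀ v ∈ R, f v ∈ R := by
      intro f hf v hv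
      rw [mR] at hv ⊢
      rw [← hfP 0 f hf, hv, map_zero]
    have hRne : R ≠ ⊥ := by
      intro e
      apply hne 0
      ext v
      show r 0 v = v
      have h3 : P (r 0) (v + P (r 0) v) = 0 := by
        rw [map_add, hPfix 0 _ (hPr 0 v), add_self']
      have h4 : v + P (r 0) v ∈ R := (mR _).2 h3
      rw [e, Submodule.mem_bot] at h4
      have h5 := eq_of_add h4
      rw [h5]
      exact hPr 0 v
    have h3 := T.card_ge (R := R) (fun i => hRH _ (hr i)) (fun i => hRH _ (hs i)) (by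
      intro i v hv e
      rw [mR, ← hker i, hPfix i v e] at hv
      exact hv) hRne
    have h4 : R = ⊤ := by
      rw [eq_top_iff]
      have h5 : (R : Set p.lz.V) = Set.univ := by
        apply (Set.eq_univ_iff_ncard _).2
        rw [← Nat.card_coe_set_eq]
        have h6 : Nat.card R ≤ Nat.card p.lz.V := Nat.card_le_card_of_injective _ Subtype.val_injective
        rw [hV] at h6 ⊢
        exact le_antisymm h6 h3
      intro v _
      have : v ∈ (R : Set p.lz.V) := by rw [h5]; trivial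
      exact this
    intro i v e
    have h5 : v ∈ R := by rw [h4]; trivial
    rw [mR, ← hker i, hPfix i v e] at h5
    exact h5
  intro R hq hR
  by_contra hne
  have h3 := T.card_ge (R := R) (fun i => hR _ (hr i)) (fun i => hR _ (hs i)) (fun i v _ e => h2 i v e) hne
  have h4 : ∀ v, v ∈ R := by
    have h5 : (R : Set p.lz.V) = Set.univ := by
      apply (Set.eq_univ_iff_ncard _).2
      rw [← Nat.card_coe_set_eq]
      have h6 : Nat.card R ≤ Nat.card p.lz.V := Nat.card_le_card_of_injective _ Subtype.val_injective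
      rw [hV] at h6 ⊢
      exact le_antisymm h6 h3
    intro v
    have : v ∈ (R : Set p.lz.V) := by rw [h5]; trivial
    exact this
  apply p.va_ne
  apply p.lz.b_nondeg
  intro w
  have h5 := p.lz.q_add' p.va w
  rw [hq _ (h4 _), hq _ (h4 _), hq _ (h4 _), zero_add, zero_add] at h5
  exact h5.symm

end Cfsg.Agent.H345.OPB
end

-- part: H345/OPC
section
/-!
# S3345, part C: excluding the configurations other than `Ω₈⁺(2)` by the order of `C / Q`
-/

set_option autoImplicit false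

namespace Cfsg.Agent.H345.OPC

open Cfsg.Agent.Co2Type.Quad Cfsg.Agent.LargeExtra Cfsg.Agent.LargeExtra.Base Cfsg.Agent.LargeExtra.Nine
open Cfsg.Agent.LargeExtra.KillNine.Codes

variable {G : Type*} [Group G] {Q A : Subgroup G} {z a : G}

/-- powers of a code matrix -/
def powL (L : List ℕ) : ℕ → List ℕ
  | 0 => idL
  | n + 1 => mulL (powL L n) L

theorem acts_pow {h : Large Q z} {φ : Coord h} {L : List ℕ} {f : h.V ≃ₗ[ZMod 2] h.V} (hf : Acts φ L f) (n : ℕ) :
    Acts φ (powL L n) (f ^ n) := by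
  induction n with
  | zero => exact Acts.one
  | succ n ih => rw [pow_succ']; exact Acts.mul ih hf

theorem dvd_card {h : Large Q z} {φ : Coord h} (S : Subgroup (h.V ≃ₗ[ZMod 2] h.V)) {L : List ℕ}
    (hL : In φ S L) {n : ℕ} (hn : n.Prime) (h1 : powL L n = idL) (h2 : ap L 1 < 256) (h3 : ap L 1 ≠ 1) :
    n ∣ Nat.card S := by
  obtain ⟨f, hf, hfL⟩ := hL
  have h4 : f ^ n = 1 := by
    have h5 := acts_pow hfL n
    rw [h1] at h5
    exact Acts.ext h5 Acts.one
  have h5 : f ≠ 1 := by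
    rintro rfl
    apply h3
    have h6 := hfL (φ.e.symm (vec 1))
    have h7 : φ.e ((1 : h.V ≃ₗ[ZMod 2] h.V) (φ.e.symm (vec 1))) = vec 1 := φ.e.apply_symm_apply _
    rw [h7, φ.e.apply_symm_apply, lin_vec] at h6
    exact (vec_inj 1 (by norm_num) _ h2 h6).symm
  have : Fact n.Prime := ⟨hn⟩
  have h6 := orderOf_eq_prime h4 h5
  rw [← h6]
  exact Subgroup.orderOf_dvd_natCard S hf

theorem orbit_bound [Finite G] (p : Pair Q z A a) {n : ℕ} (f : Fin n → (p.lz.V ≃ₗ[ZMod 2] p.lz.V))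
    (hf : ∀ i, f i ∈ p.H) (hinj : ∀ i j, f i p.va = f j p.va → i = j) :
    n * Nat.card p.X ≤ Nat.card p.H := by
  have hfin : Finite (p.lz.V ≃ₗ[ZMod 2] p.lz.V) := KillNine.Pts.finite_aut p.lz
  let g : Fin n × p.X → p.H := fun x => ⟨f x.1 * x.2, p.H.mul_mem (hf _) (p.X_le_H x.2.2)⟩
  have hg : Function.Injective g := by
    rintro ⟨i, x⟩ ⟨j, y⟩ hxy
    have h1 : f i * (x : p.lz.V ≃ₗ[ZMod 2] p.lz.V) = f j * y := congrArg Subtype.val hxy
    have h2 : f i ((x : p.lz.V ≃ₗ[ZMod 2] p.lz.V) p.va) = f j ((y : p.lz.V ≃ₗ[ZMod 2] p.lz.V) p.va) :=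
      congrArg (fun k : p.lz.V ≃ₗ[ZMod 2] p.lz.V => k p.va) h1
    rw [p.X_va x.2, p.X_va y.2] at h2
    have h3 := hinj i j h2
    subst h3
    have h4 : x = y := Subtype.ext (mul_left_cancel h1)
    rw [h4]
  have h1 := Nat.card_le_card_of_injective g hg
  rw [Nat.card_prod] at h1
  simpa using h1

section
variable [Finite G] (p : Pair Q z A a) {φ : Coord p.lz}

omit [Finite G] in
theorem in_of_conf {c : Conf} (hc : IsConf p φ c) {L : List ℕ} (hL : L ∈ c.X ++ c.N) : In φ p.H L := by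
  rcases List.mem_append.1 hL with h | h
  · obtain ⟨f, hf, hfL⟩ := hc.X L h
    exact ⟨f, p.X_le_H hf, hfL⟩
  · exact hc.N L h

/-- the word `X₀ N₂` has order `n` -/
theorem not_conf {c : Conf} (hc : IsConf p φ c) {L M : List ℕ} (hL : L ∈ c.X ++ c.N) (hM : M ∈ c.X ++ c.N)
    {n : ℕ} (hn : n.Prime) (h1 : powL (mulL L M) n = idL) (h2 : ap (mulL L M) 1 < 256)
    (h3 : ap (mulL L M) 1 ≠ 1) : n ∣ Nat.card p.H :=
  dvd_card p.H ((in_of_conf p hc hL).mul (in_of_conf p hc hM)) hn h1 h2 h3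

theorem not_ominus (hc : IsConf p φ confOminus) : 5 ∣ Nat.card p.H :=
  not_conf p hc (L := [1,2,4,9,144,36,66,128]) (M := [225,210,56,52,16,32,128,64]) (by decide) (by decide)
    (by norm_num) (by decide +kernel) (by decide +kernel) (by decide +kernel)

theorem not_d4 (hc : IsConf p φ confD4) : 7 ∣ Nat.card p.H :=
  not_conf p hc (L := [1,2,4,9,153,36,66,129]) (M := [245,208,190,112,16,72,80,66]) (by decide) (by decide)
    (by norm_num) (by decide +kernel) (by decide +kernel) (by decide +kernel)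

theorem not_hn (hc : IsConf p φ confHN) : 5 ∣ Nat.card p.H :=
  not_conf p hc (L := [1,2,4,9,144,36,66,128]) (M := [73,10,20,8,16,32,64,176]) (by decide) (by decide)
    (by norm_num) (by decide +kernel) (by decide +kernel) (by decide +kernel)

theorem not_th (hc : IsConf p φ confTh) : 7 ∣ Nat.card p.H :=
  not_conf p hc (L := [1,2,4,9,153,36,66,129]) (M := [245,208,190,112,16,72,80,66]) (by decide) (by decide)
    (by norm_num) (by decide +kernel) (by decide +kernel) (by decide +kernel)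

/-- generators of `confPO83` -/
def gP : List (List ℕ) := [[1,2,4,9,144,36,66,128], [1,2,5,8,80,40,64,130], [1,3,4,8,48,32,72,132],
  [65,8,30,2,16,192,64,96], [33,30,8,4,16,32,160,96], [165,24,14,18,16,204,90,102]]

/-- words -/
def wP : Fin 28 → List ℕ := ![[], [3], [4], [5], [3, 0], [3, 2], [3, 4], [3, 5], [4, 0], [4, 1], [4, 5], [5, 0],
  [5, 1], [3, 0, 2], [3, 0, 3], [3, 0, 4], [3, 0, 5], [3, 2, 3], [3, 2, 4], [3, 2, 5], [3, 4, 1], [3, 4, 5],
  [3, 5, 0], [3, 5, 1], [3, 5, 2], [4, 0, 1], [4, 0, 5], [4, 1, 4]]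

def cP (i : Fin 28) : List ℕ := prodL ((wP i).map fun k => gP.getD k [])

theorem cP_lt : ∀ i, ap (cP i) 1 < 256 := by decide +kernel

theorem cP_inj : ∀ i j, ap (cP i) 1 = ap (cP j) 1 → i = j := by decide +kernel

theorem wP_lt : ∀ i, ∀ k ∈ wP i, k < 6 := by decide +kernel

theorem gP_mem : ∀ k < 6, gP.getD k [] ∈ confPO83.X ++ confPO83.N := by decide +kernel

theorem not_po83 (hc : IsConf p φ confPO83) : 28 * Nat.card p.X ≤ Nat.card p.H := by
  have h1 : ∀ i, In φ p.H (cP i) := by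
    intro i
    apply In.prod
    intro L hL
    obtain ⟨k, hk, rfl⟩ := List.mem_map.1 hL
    exact in_of_conf p hc (gP_mem k (wP_lt i k hk))
  choose f hf hfL using h1
  refine orbit_bound p f hf (fun i j hij => ?_)
  apply cP_inj
  have e1 := hfL i p.va
  have e2 := hfL j p.va
  rw [hc.va, lin_vec] at e1 e2
  rw [hij, e2] at e1
  exact vec_inj _ (cP_lt i) _ (cP_lt j) e1.symm

end

/-- case I: `5 ∣ |H|` -/
theorem case_one {h : Large Q z} {φ : Coord h} {Qf : G → Subgroup G} {t : G}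
    (B : UCoord.BaseData φ Qf t) : 5 ∣ Nat.card h.act.range := by
  have h1 : ∀ L ∈ UTree.genN, In φ h.act.range L := fun L hL => B.gen L hL
  have m0 : [33, 18, 4, 8, 16, 32, 64, 128] ∈ UTree.genN := by decide +kernel
  have m1 : [1, 2, 4, 8, 20, 40, 65, 130] ∈ UTree.genN := by decide +kernel
  have m2 : [1, 2, 7, 10, 80, 224, 64, 128] ∈ UTree.genN := by decide +kernel
  exact dvd_card h.act.range ((((h1 _ m0).mul (h1 _ m1)).mul (h1 _ m0)).mul (h1 _ m2)) (by norm_num)
    (by decide +kernel) (by decide +kernel) (by decide +kernel)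

end Cfsg.Agent.H345.OPC
end

-- part: H345/OPD
section
/-!
# S3345, part D: assembly
-/

set_option autoImplicit false

namespace Cfsg.Agent.H345.OPD

open Cfsg.Agent.Co2Type.Quad Cfsg.Agent.LargeExtra Cfsg.Agent.LargeExtra.Base Cfsg.Agent.LargeExtra.Nine
open Cfsg.Agent.LargeExtra.SiegelOrbit Cfsg.Agent.H345.OPA
open Equiv

/-- `S₃ × S₃ × S₃` -/
abbrev P3 : Type := Perm (Fin 3) × Perm (Fin 3) × Perm (Fin 3)

def cyc : Perm (Fin 3) := swap 0 1 * swap 1 2
def inv2 : Perm (Fin 3) := swap 0 1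

def rho : Fin 3 → P3 := ![(cyc, 1, 1), (1, cyc, 1), (1, 1, cyc)]
def sig : Fin 3 → P3 := ![(inv2, 1, 1), (1, inv2, 1), (1, 1, inv2)]

theorem rho3 : ∀ i, rho i * rho i * rho i = 1 := by decide +kernel
theorem rho_comm : ∀ i j, rho i * rho j = rho j * rho i := by decide +kernel
theorem sig2 : ∀ i, sig i * sig i = 1 := by decide +kernel
theorem sig_rho : ∀ i j, i ≠ j → sig i * rho j = rho j * sig i := by decide +kernel
theorem rho_sig : ∀ i, rho i * sig i = sig i * (rho i * rho i) := by decide +kernel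
theorem rho_ne : ∀ i, rho i ≠ 1 := by decide +kernel
theorem cyc_conj : ∀ g : Perm (Fin 3), g * cyc * g⁻¹ = cyc ∨ g * cyc * g⁻¹ = cyc * cyc := by decide +kernel

theorem rho_conj (f : P3) (i : Fin 3) : f * rho i * f⁻¹ = rho i ∨ f * rho i * f⁻¹ = rho i * rho i := by
  obtain ⟨a, b, c⟩ := f
  fin_cases i
  · rcases cyc_conj a with e | e
    · left
      show (a * cyc * a⁻¹, b * 1 * b⁻¹, c * 1 * c⁻¹) = (cyc, 1, 1)
      rw [e]; simp
    · right
      show (a * cyc * a⁻¹, b * 1 * b⁻¹, c * 1 * c⁻¹) = (cyc * cyc, 1 * 1, 1 * 1)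
      rw [e]; simp
  · rcases cyc_conj b with e | e
    · left
      show (a * 1 * a⁻¹, b * cyc * b⁻¹, c * 1 * c⁻¹) = (1, cyc, 1)
      rw [e]; simp
    · right
      show (a * 1 * a⁻¹, b * cyc * b⁻¹, c * 1 * c⁻¹) = (1 * 1, cyc * cyc, 1 * 1)
      rw [e]; simp
  · rcases cyc_conj c with e | e
    · left
      show (a * 1 * a⁻¹, b * 1 * b⁻¹, c * cyc * c⁻¹) = (1, 1, cyc)
      rw [e]; simp
    · right
      show (a * 1 * a⁻¹, b * 1 * b⁻¹, c * cyc * c⁻¹) = (1 * 1, 1 * 1, cyc * cyc)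
      rw [e]; simp

variable {G : Type*} [Group G] {Q A : Subgroup G} {z a : G}

theorem card_P3 : Nat.card P3 = 216 := by
  rw [Nat.card_prod, Nat.card_prod, Nat.card_perm]
  simp [Nat.factorial]

/-- case II -/
theorem case_two [Finite G] (hG : ∀ H : Subgroup G, H.index ≠ 2) (p : Pair Q z A a)
    (h9 : Nat.card Q = 2 ^ 9) (e : p.H ≃* P3) :
    ∃ φ : Coord p.lz, IsConf p φ confOplus := by
  have hfin : Finite (p.lz.V ≃ₗ[ZMod 2] p.lz.V) := KillNine.Pts.finite_aut p.lz
  have hH : Nat.card p.H = 216 := by rw [Nat.card_congr e.toEquiv, card_P3]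
  have hV : Nat.card p.lz.V = 256 := Tri.CaseTwo.card_V p.lz h9
  have hX1 := p.card_X
  rw [hV] at hX1
  have hXD : Nat.card p.X * Nat.card p.D = 128 := by omega
  have hX2 : Nat.card p.X ∣ 216 := by rw [← hH]; exact Subgroup.card_dvd_of_le p.X_le_H
  have hD1 : Nat.card p.D * Nat.card p.D ≤ 256 := by
    rw [← hV]
    exact Perp.card_sq_le p.lz p.D fun v hv w hw => p.b_D hv hw
  have hX3 : Nat.card p.X ∣ 2 ^ 7 := Dvd.intro _ hXD
  have hXD' : Nat.card p.X = 8 ∧ Nat.card p.D = 16 := by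
    obtain ⟨k, hk, hk'⟩ := (Nat.dvd_prime_pow Nat.prime_two).1 hX3
    rw [hk'] at hX2 hXD
    have hk3 : k ≤ 3 := by
      by_contra hcon
      have h1 : 2 ^ 4 ∣ 2 ^ k := pow_dvd_pow 2 (by omega)
      have := h1.trans hX2
      norm_num at this
    have h2 : Nat.card p.D ≤ 16 := by
      by_contra hcon
      have : 17 * 17 ≤ Nat.card p.D * Nat.card p.D := Nat.mul_le_mul (by omega) (by omega)
      omega
    rw [hk']
    interval_cases k
    · norm_num at hXD; omega
    · norm_num at hXD; omega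
    · norm_num at hXD; omega
    · norm_num at hXD ⊢; omega
  obtain ⟨hX, hD⟩ := hXD'
  -- the action
  let r : Fin 3 → (p.lz.V ≃ₗ[ZMod 2] p.lz.V) := fun i => (e.symm (rho i) : p.H)
  let s : Fin 3 → (p.lz.V ≃ₗ[ZMod 2] p.lz.V) := fun i => (e.symm (sig i) : p.H)
  have hr : ∀ i, r i ∈ p.H := fun i => (e.symm (rho i)).2
  have hs : ∀ i, s i ∈ p.H := fun i => (e.symm (sig i)).2
  have T : Tri3 r s := by
    refine ⟨?_, ?_, ?_, ?_, ?_⟩
    · intro i
      have := congrArg (fun f => ((e.symm f : p.H) : p.lz.V ≃ₗ[ZMod 2] p.lz.V)) (rho3 i)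
      simpa using this
    · intro i j
      have := congrArg (fun f => ((e.symm f : p.H) : p.lz.V ≃ₗ[ZMod 2] p.lz.V)) (rho_comm i j)
      simpa using this
    · intro i
      have := congrArg (fun f => ((e.symm f : p.H) : p.lz.V ≃ₗ[ZMod 2] p.lz.V)) (sig2 i)
      simpa using this
    · intro i j hij
      have := congrArg (fun f => ((e.symm f : p.H) : p.lz.V ≃ₗ[ZMod 2] p.lz.V)) (sig_rho i j hij)
      simpa using this
    · intro i
      have := congrArg (fun f => ((e.symm f : p.H) : p.lz.V ≃ₗ[ZMod 2] p.lz.V)) (rho_sig i)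
      simpa using this
  have hne : ∀ i, r i ≠ 1 := by
    intro i h1
    apply rho_ne i
    have h2 : e.symm (rho i) = 1 := Subtype.ext h1
    rwa [EmbeddingLike.map_eq_one_iff] at h2
  have hn : ∀ f ∈ p.H, ∀ i, f * r i * f⁻¹ = r i ∨ f * r i * f⁻¹ = r i * r i := by
    intro f hf i
    have h1 : f = (e.symm (e ⟨f, hf⟩) : p.H) := by rw [e.symm_apply_apply]
    rcases rho_conj (e ⟨f, hf⟩) i with h2 | h2
    · left
      have := congrArg (fun f => ((e.symm f : p.H) : p.lz.V ≃ₗ[ZMod 2] p.lz.V)) h2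
      simpa using this
    · right
      have := congrArg (fun f => ((e.symm f : p.H) : p.lz.V ≃ₗ[ZMod 2] p.lz.V)) h2
      simpa using this
  have hconj : ∀ i, ∃ g ∈ p.H, g * s i * g⁻¹ ∈ p.X := by
    intro i
    have h1 := Cfsg.Agent.GH.C2GrowL3Base.card_mul_relIndex p.X_le_H
    rw [hX, hH] at h1
    obtain ⟨g, hg, hg'⟩ := StdL2.G23Coset.exists_conj_mem (B := p.H) (S := p.X)
      (IsPGroup.of_card (n := 3) (by rw [hX]; norm_num)) p.X_le_H (by
        intro h2
        have : p.X.relIndex p.H = 27 := by omega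
        rw [this] at h2
        norm_num at h2) (R := Subgroup.zpowers (s i)) (by
        have h3 : s i * s i = 1 := T.s2 i
        by_cases h4 : s i = 1
        · rw [h4, Subgroup.zpowers_one_eq_bot]
          exact IsPGroup.of_bot
        · have h5 : orderOf (s i) = 2 := orderOf_eq_prime (by rw [pow_two, h3]) h4
          exact IsPGroup.of_card (n := 1) (by rw [Nat.card_zpowers, h5]; norm_num))
        (by rw [Subgroup.zpowers_le]; exact hs i)
    exact ⟨g, hg, hg' _ (Subgroup.mem_zpowers _)⟩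
  have hirr := OPB.irr_of p hV hD T hr hs hne hn hconj
  rcases Tri.CaseTwo.case_two hG p h9 hirr with h1 | ⟨-, x, hx⟩
  · rw [hD] at h1; norm_num at h1
  · obtain ⟨φ, h⟩ := Enum9.TenConf.exists_conf p h9 hirr hx
    refine ⟨φ, ?_⟩
    rcases h with h | h | h | h | h | h | h | h | h | h
    · have := OPC.not_po83 p h
      rw [hX, hH] at this
      norm_num at this
    · exact h
    · have := OPC.not_ominus p h
      rw [hH] at this
      norm_num at this
    · have := OPC.not_d4 p h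
      rw [hH] at this
      norm_num at this
    · have := OPC.not_hn p h
      rw [hH] at this
      norm_num at this
    · have := OPC.not_th p h
      rw [hH] at this
      norm_num at this
    · exact (KillNine.Final.killK2 p φ h).elim
    · exact (KillNine.Final.killK3 p φ h).elim
    · exact (KillNine.Final.killK4 p φ h).elim
    · exact (KillNine.Final.killK5 p φ h).elim

open TypeO8Plus in
/-- the identification -/
theorem recognize [Finite G] (p : Pair Q z A a) (h9 : Nat.card Q = 2 ^ 9)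
    (hcc : Nat.card (Subgroup.centralizer ({z} : Set G)) = 2 ^ 9 * 216)
    (φ : Coord p.lz) (hc : IsConf p φ confOplus) :
    Nonempty (G ≃* Cfsg.Omega (ZMod 2) (Cfsg.quadFormPlus 4 (ZMod 2))) := by
  obtain ⟨E, F⟩ := LocalE.exists_frame p φ hc
  have H := EFam.hyp (Main.facts F hc h9) hc.va
  have hsub := H.subset
  have hM : MM Q E = ⊤ := by
    rw [Subgroup.eq_top_iff']
    intro g
    have h1 : z ∈ {t | IsConj z t} := IsConj.refl z
    refine H.ctrl z h1 (hsub h1) g (hsub ?_)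
    exact isConj_iff.2 ⟨g, rfl⟩
  have hC0 : C0 Q E ≤ Subgroup.centralizer ({z} : Set G) := by
    rw [C0]
    refine sup_le (fun q hq => Subgroup.mem_centralizer_singleton_iff.2 (p.lz.comm_z q hq)) ?_
    rw [Subgroup.closure_le]
    rintro _ (⟨i, rfl⟩ | ⟨i, rfl⟩)
    · have h1 := F.X_rel.z i
      rw [mul_inv_eq_iff_eq_mul, F.z] at h1
      exact Subgroup.mem_centralizer_singleton_iff.2 h1
    · have h1 := F.W_rel.z i
      rw [mul_inv_eq_iff_eq_mul, F.z] at h1
      exact Subgroup.mem_centralizer_singleton_iff.2 h1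
  have hC : C0 Q E = Subgroup.centralizer ({z} : Set G) := by
    apply Subgroup.eq_of_le_of_card_ge hC0
    rw [hcc, CNorm.card_C0 F hc.va, h9]
  have hG0 : G0 Q E = ⊤ := by
    rw [← hM, MM, F.z, ← hC]
    exact (sup_eq_left.2 (CNorm.C0_le_G0 Q E)).symm
  obtain ⟨f⟩ := Ident.exists_equiv F hc.va
  have hcard := Ident.card_G0 F hc.va
  rw [Nat.card_congr f.toEquiv] at hcard
  -- the centre is trivial
  have hO := Cards.card_omega_plus_eight
  have h1 := Subgroup.card_eq_card_quotient_mul_card_subgroup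
    (Subgroup.center (Cfsg.Omega (ZMod 2) (Cfsg.quadFormPlus 4 (ZMod 2))))
  rw [hO] at h1
  have h2 : Nat.card (Subgroup.center (Cfsg.Omega (ZMod 2) (Cfsg.quadFormPlus 4 (ZMod 2)))) = 1 := by
    have h3 : Nat.card (↥(Cfsg.Omega (ZMod 2) (Cfsg.quadFormPlus 4 (ZMod 2))) ⧸
      Subgroup.center ↥(Cfsg.Omega (ZMod 2) (Cfsg.quadFormPlus 4 (ZMod 2)))) = 174182400 := hcard
    rw [h3] at h1
    omega
  have h3 : Subgroup.center (Cfsg.Omega (ZMod 2) (Cfsg.quadFormPlus 4 (ZMod 2))) = ⊥ :=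
    Subgroup.card_eq_one.1 h2
  exact ⟨(((Subgroup.topEquiv.symm.trans (MulEquiv.subgroupCongr hG0.symm)).trans f).trans
    (QuotientGroup.quotientMulEquivOfEq h3)).trans QuotientGroup.quotientBot⟩

end Cfsg.Agent.H345.OPD
end

-- part: H345/OPE
section
/-!
# S3345, part E: the case distinction
-/

set_option autoImplicit false

namespace Cfsg.Agent.H345.OPE

open Cfsg.Agent.Co2Type.Quad Cfsg.Agent.LargeExtra Cfsg.Agent.LargeExtra.Base Cfsg.Agent.LargeExtra.Nine
open Cfsg.Agent.LargeExtra.SiegelOrbit Cfsg.Agent.H345.OPD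
open Equiv

variable {G : Type*} [Group G] {Q : Subgroup G} {z : G}

/-- no subgroup of index 2 when `O²(G) = G` -/
theorem index_ne_two [Finite G] (hG : Cfsg.pResidual 2 G = ⊤) (H : Subgroup G) : H.index ≠ 2 := by
  intro hH
  have hn : H.Normal := Subgroup.normal_of_index_eq_two hH
  have h1 : Cfsg.pResidual 2 G ≤ H := by
    rw [Cfsg.pResidual, Subgroup.closure_le]
    intro g hg
    have hg' : Nat.Coprime (orderOf g) 2 := hg
    have h2 : (QuotientGroup.mk g : G ⧸ H) = 1 := by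
      rw [← orderOf_eq_one_iff]
      have h3 : orderOf (QuotientGroup.mk g : G ⧸ H) ∣ orderOf g :=
        orderOf_map_dvd (QuotientGroup.mk' H) g
      have h4 : orderOf (QuotientGroup.mk g : G ⧸ H) ∣ 2 := by
        have h5 := orderOf_dvd_natCard (QuotientGroup.mk g : G ⧸ H)
        rwa [show Nat.card (G ⧸ H) = 2 from hH] at h5
      exact Nat.eq_one_of_dvd_coprimes hg' h3 h4
    exact (QuotientGroup.eq_one_iff g).1 h2
  rw [hG, top_le_iff] at h1
  rw [h1, Subgroup.index_top] at hH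
  norm_num at hH

/-- the isolated case -/
theorem isolated [Finite G] (h : Large Q z) (hz : orderOf z = 2)
    (hiso : ∀ g : G, g * z * g⁻¹ * z = z * (g * z * g⁻¹) → g * z * g⁻¹ = z) (g : G) :
    g * z * g⁻¹ * z⁻¹ ∈ Cfsg.oddCore G := by
  have : Fact (Nat.Prime 2) := ⟨Nat.prime_two⟩
  obtain ⟨T, hT⟩ := (Base.isPGroup h).exists_le_sylow
  have h1 := TwoCentral.le_centralizer_of_two h T.2 hT
  obtain ⟨N, hN, hodd, hc⟩ := S0215.result T z hz (hT h.z_mem) (fun g hg => by
    apply hiso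
    exact (Subgroup.mem_centralizer_singleton_iff.1 (h1 hg)))
  have h2 : N ≤ Cfsg.oddCore G := Lib.Cores.le_pPrimeCore hN hodd.coprime_two_right
  have h3 := (Cfsg.oddCore G).inv_mem (h2 (hc g))
  have h4 : (z * g * z⁻¹ * g⁻¹)⁻¹ = g * z * g⁻¹ * z⁻¹ := by group
  rwa [h4] at h3

/-- **S3345.** -/
theorem main [Finite G] (hG : ∀ H : Subgroup G, H.index ≠ 2) (h : Large Q z) (hz : orderOf z = 2)
    (hO : O2 h) (h9 : Nat.card Q = 2 ^ 9) (e : h.act.range ≃* P3)
    (hcc : Nat.card (Subgroup.centralizer ({z} : Set G)) = 2 ^ 9 * 216) :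
    (∀ g : G, g * z * g⁻¹ * z⁻¹ ∈ Cfsg.oddCore G) ∨
      Nonempty (G ≃* Cfsg.Omega (ZMod 2) (Cfsg.quadFormPlus 4 (ZMod 2))) := by
  by_cases hiso : ∀ g : G, g * z * g⁻¹ * z = z * (g * z * g⁻¹) → g * z * g⁻¹ = z
  · exact Or.inl (isolated h hz hiso)
  push Not at hiso
  obtain ⟨g₀, hg₀, hg₀'⟩ := hiso
  right
  by_cases hwc : ∀ g : G, g * z * g⁻¹ ∈ Q → g * z * g⁻¹ = z
  · exfalso
    have hR := WCIrr.noRefl_of_index h (by rw [h9]; norm_num) hG
    have I := WCIrr.uinput h (by rw [h9]; norm_num) hR hwc hO ⟨g₀, hg₀', hg₀⟩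
    have hcV : Nat.card h.V = 256 := by
      have h1 := h.card_eq
      rw [h9] at h1
      omega
    obtain ⟨φ, t, B, -⟩ := UCoord.exists_coord hcV I
    have h5 := OPC.case_one B
    rw [Nat.card_congr e.toEquiv, card_P3] at h5
    norm_num at h5
  · push Not at hwc
    obtain ⟨g, hin, hne⟩ := hwc
    have p := pair_of_conj h hin hne
    obtain ⟨φ, hφ⟩ := case_two hG p h9 e
    exact recognize p h9 hcc φ hφ

end Cfsg.Agent.H345.OPE

namespace Cfsg.Agent.H345.OPE

open Cfsg.Agent.Co2Type.Quad Cfsg.Agent.LargeExtra Cfsg.Agent.LargeExtra.Base Cfsg.Agent.LargeExtra.Nine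
open Cfsg.Agent.LargeExtra.SiegelOrbit Cfsg.Agent.H345.OPD
open Equiv

/-- **S3345**, from the hypotheses of the statement. -/
theorem final {G : Type*} [Group G] [Finite G]
    (hG : Cfsg.pResidual 2 G = ⊤) (t : G) (ht : orderOf t = 2)
    (hF : Cfsg.IsExtraspecial 2 (Cfsg.generalizedFittingSubgroup (Subgroup.centralizer ({t} : Set G))))
    (hFcard : Nat.card (Cfsg.generalizedFittingSubgroup (Subgroup.centralizer ({t} : Set G))) = 2 ^ 9)
    (hn : (Cfsg.pCore 2 (Subgroup.centralizer ({t} : Set G))).Normal)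
    (e : Subgroup.centralizer ({t} : Set G) ⧸ Cfsg.pCore 2 (Subgroup.centralizer ({t} : Set G)) ≃* P3) :
    (∀ g : G, g * t * g⁻¹ * t⁻¹ ∈ Cfsg.oddCore G) ∨
      Nonempty (G ≃* Cfsg.Omega (ZMod 2) (Cfsg.quadFormPlus 4 (ZMod 2))) := by
  have : Fact (Nat.Prime 2) := ⟨Nat.prime_two⟩
  have hFp : IsPGroup 2 (Cfsg.generalizedFittingSubgroup (Subgroup.centralizer ({t} : Set G))) :=
    IsPGroup.of_card hFcard
  have hFn := Cfsg.Agent.S1755.gfs_normal (Subgroup.centralizer ({t} : Set G))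
  have hFO : Cfsg.pCore 2 (Subgroup.centralizer ({t} : Set G)) =
      Cfsg.generalizedFittingSubgroup (Subgroup.centralizer ({t} : Set G)) :=
    le_antisymm (TwoCentral.le_of_normal_two (Lib.Cores.pCore_normal 2) (Lib.Cores.pCore_isPGroup 2))
      (Lib.Cores.le_pCore hFn hFp)
  have hcc : Nat.card (Subgroup.centralizer ({t} : Set G)) = 2 ^ 9 * 216 := by
    have h1 := Subgroup.card_eq_card_quotient_mul_card_subgroup
      (Cfsg.pCore 2 (Subgroup.centralizer ({t} : Set G)))
    rw [Nat.card_congr e.toEquiv, card_P3, hFO, hFcard] at h1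
    omega
  have key : ∀ (Q : Subgroup G), (Cfsg.generalizedFittingSubgroup
      (Subgroup.centralizer ({t} : Set G))).map (Subgroup.centralizer ({t} : Set G)).subtype = Q →
      ∀ h : Large Q t, O2 h → (∀ g : G, g * t * g⁻¹ * t⁻¹ ∈ Cfsg.oddCore G) ∨
      Nonempty (G ≃* Cfsg.Omega (ZMod 2) (Cfsg.quadFormPlus 4 (ZMod 2))) := by
    intro Q hQ h hO
    have h9 : Nat.card Q = 2 ^ 9 := by
      rw [← hQ, ← hFcard]
      exact Subgroup.card_map_of_injective (Subgroup.subtype_injective _)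
    have hQF : Q.subgroupOf (Subgroup.centralizer ({t} : Set G)) =
        Cfsg.pCore 2 (Subgroup.centralizer ({t} : Set G)) := by
      rw [← hQ, hFO]
      exact Subgroup.comap_map_eq_self_of_injective (Subgroup.subtype_injective _) _
    have hQn := ToCent.normal h
    obtain ⟨f⟩ := ToCent.nonempty_quot h
    have e' : h.act.range ≃* P3 := (f.symm.trans (QuotientGroup.quotientMulEquivOfEq hQF)).trans e
    exact main (index_ne_two hG) h ht hO h9 e' hcc
  have h := large_of_genFitting t ht hF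
  exact key _ rfl h (o2_of_genFitting h rfl)

end Cfsg.Agent.H345.OPE
end

-- part: S3345
section
set_option autoImplicit false
open Cfsg

namespace Cfsg.Agent.S3345

/-- Let G be a finite group with O^2(G) = G and an involution t with centralizer C such that F*(C) is extraspecial of order 2^9, C/O₂(C) is isomorphic to Sym(3) × Sym(3) × Sym(3), and C_G(O₂(C)) ≤ O₂(C). Then either the image of t is central in G/O_{2'}(G), or G is isomorphic to Ω⁺(8,2), the commutator subgroup of the isometry group of the hyperbolic quadratic form in dimension 8 over the field with 2 elements. -/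
theorem result {G : Type*} [Group G] [Finite G]
    (hG : Cfsg.pResidual 2 G = ⊤) (t : G) (ht : orderOf t = 2)
    (C : Subgroup G) (hC : C = Subgroup.centralizer ({t} : Set G))
    (hF : Cfsg.IsExtraspecial 2 (Cfsg.generalizedFittingSubgroup C))
    (hFcard : Nat.card (Cfsg.generalizedFittingSubgroup C) = 2 ^ 9)
    (e : C ⧸ Cfsg.pCore 2 C ≃* Equiv.Perm (Fin 3) × Equiv.Perm (Fin 3) × Equiv.Perm (Fin 3))
    (hcc : Subgroup.centralizer (((Cfsg.pCore 2 C).map C.subtype : Subgroup G) : Set G) ≤ (Cfsg.pCore 2 C).map C.subtype) :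
    (∀ g : G, g * t * g⁻¹ * t⁻¹ ∈ Cfsg.oddCore G) ∨
      Nonempty (G ≃* Cfsg.Omega (ZMod 2) (Cfsg.quadFormPlus 4 (ZMod 2))) := by
  subst hC
  exact H345.OPE.final hG t ht hF hFcard inferInstance e

end Cfsg.Agent.S3345
end
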