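import Cfsg.Agent.H136.EE.Comp_m3
import Mathlib
import Cfsg.Prelude.Def_Classical
import Cfsg.Agent.Lib.FinFast
import Mathlib.Tactic
import Cfsg.Agent.ChevalleyStructure.OrthHyp
import Cfsg.Agent.H857.OE8.Om
import Cfsg.Agent.S1054
import Cfsg.Agent.S1065
import Cfsg.Agent.SignalizersComponents.Components
import Cfsg.Agent.SignalizersComponents.IntrinsicDiag
import Cfsg.Agent.Lib.GenFitting
import Cfsg.Agent.S0293
import Cfsg.Agent.S0296
import Cfsg.Agent.LieClassical.OrthCenter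
import Cfsg.Agent.H795.SetTor_m3
import Cfsg.Agent.H405.UE.GD
import Cfsg.Agent.ChevalleyStructure.StTheta
import Cfsg.Agent.S1077
import Cfsg.Agent.S1097
import Cfsg.Agent.UGT.U2.Rec.Congr
import Cfsg.Statements.S3384
import Cfsg.Agent.FastGrp
import Cfsg.Agent.Prune
set_option linter.all false

section
prune_inst 0xb0ecf88bb8a9deffff7e7ffed8dffc19901fffe6dff9437fe061ff0b9f03000be5ab8f0de010fe0ed6401410387803fb7eee7fe86bdc7ffffd5ff41ffbee0fe5f7350851949c340fbc0fff83f0778a7f3fffffffffffffffffffffffffffbeffbfffffffff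

-- part: H136/EE/Stab_mg
section
prune_inst 0x7f4d1304740556210000000001030000224380000000040080078e00506094ed2408542080048a00c121a2e0c980805000000180020400000000a0004000005012088824006b2000104260007803082400000000000000000000000000000041004000000000
set_option linter.all false
open scoped Cfsg.Agent.FastGrp

-- part: H136/EE/Conj
section
/-!
# The classification of the `D₄`-systems of `w₈` (helper136, S3384, piece C1)

`exists_conj` : every `Quad b` is conjugate under `CW` to a permutation of `q1` or of `q2`.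
-/

set_option autoImplicit false
set_option linter.unusedSectionVars false

namespace Cfsg.Agent.H136.EE

open CoxeterSystem Subgroup Cfsg Cfsg.Lie Cfsg.Lie.ChevalleyDatum
open Cfsg.Agent.ChevalleyStructure Cfsg.Agent.ChevalleyStructure.Elts Cfsg.Agent.ChevalleyStructure.CoxeterGeom
  Cfsg.Agent.ChevalleyStructure.CoxeterGeomTypes Cfsg.Agent.ChevalleyStructure.NPerm
open Cfsg.Agent.Tits.Roots Cfsg.Agent.Tits.Core Cfsg.Agent.Nodes Cfsg.Agent.Nodes.SubComb Cfsg.Agent.Nodes.Reps Cfsg.Agent.Nodes.BNOf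
  Cfsg.Agent.Nodes.RGDChev Cfsg.Agent.Nodes.Bruhat Cfsg.Agent.Nodes.Coroot
open Cfsg.Agent.H865.EE

/-- the roots `q1 0`, `q1 1` as lists -/
abbrev c0L : List ℤ := [-2, -3, -4, -6, -4, -3, -2, -1]

/-- the root `q1 1` as a list -/
abbrev a0L : List ℤ := [0, 0, 0, 1, 0, 0, 0, 0]

/-- the first system as lists -/
abbrev q1L : List (List ℤ) := [c0L, a0L, [0, 0, 0, -1, -1, -1, -1, -1], [0, 1, 1, 1, 1, 1, 1, 1]]

/-- the second system as lists -/
abbrev q2L : List (List ℤ) := [c0L, a0L, [0, 0, 0, -1, -1, -1, -1, -1], [1, 1, 2, 2, 2, 1, 1, 1]]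

/-- the first `D₄`-system -/
def q1 : Fin 4 → Fin 8 → ℤ := fun i => ofL (q1L.getD i [])

/-- the second `D₄`-system -/
def q2 : Fin 4 → Fin 8 → ℤ := fun i => ofL (q2L.getD i [])

/-- the permutations of the three ends -/
def pm : Fin 6 → Fin 4 → Fin 4 := ![![0, 1, 2, 3], ![0, 1, 3, 2], ![2, 1, 0, 3], ![2, 1, 3, 0], ![3, 1, 0, 2], ![3, 1, 2, 0]]

theorem pm_bij (t : Fin 6) : Function.Bijective (pm t) := by revert t; decide +kernel

theorem pm_one (t : Fin 6) : pm t 1 = 1 := by revert t; decide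

/-- words of reflections moving the roots to `q1 1` -/
def tA : List (List ℕ) := [
  [216], [235, 236], [217, 221], [231, 238], [157, 235], [235], [135, 235], [158, 235], [148, 235], [231], [133, 231],
  [196, 208], [152, 235], [195], [216, 238], [133, 196, 238], [202, 238], [218, 235], [171, 235], [196, 238],
  [195, 238], [216, 236], [157, 217], [188, 231, 238], [216, 219], [151, 216, 238], [217], [199, 235], [215],
  [217, 238], [217, 227], [214, 235], [200, 235], [191, 235], [192, 235], [182, 238], [199, 236], [171, 231],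
  [225, 231], [195, 236], [199, 219], [157, 202, 238], [208, 224], [213, 216], [211, 231, 238], [195, 225], [199],
  [215, 235], [202], [196], [208, 235], [221], [216, 227], [202, 227], [224, 235], [213, 235], [188, 231], [214, 231],
  [208, 236], [215, 229], [192, 231], [219, 231], [199, 219, 235], [208, 225], [157, 217, 238], [192, 221], [208, 229],
  [208], [221, 235], [182], [195, 227], [216, 229], [211, 231], [224, 231], [221, 229], [208, 225, 235], [199, 229],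
  [195, 229], [199, 238], [143, 238], [133, 238], [196, 236], [216, 224], [152, 236], [210, 235], [211, 216, 238],
  [157, 238], [230, 231, 238], [155], [235, 238], [238], [215, 225], [154], [191, 217], [188, 235], [214], [215, 234],
  [192, 238], [142], [199, 225], [211, 235], [224], [221, 234], [171, 238], [161], [216, 234], [148, 235, 238],
  [148, 238], [213, 216, 236], [157], [143], [217, 218], [236], [231, 236], [188, 236], [133], [133, 236], [155, 229],
  [227, 231], [191, 238], [208, 238], [152, 238], [151, 238], [229, 235], [152], [182, 236], [157, 235, 238],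
  [227, 236], [196, 223, 238], [223, 235], [], [211, 218], [227], [230, 238], [139], [192, 236], [135], [208, 234],
  [192], [219, 235], [208, 219], [171, 236], [158], [199, 234], [171], [225, 235], [211, 221], [148], [199, 223, 236],
  [229, 238], [152, 235, 238], [195, 234], [234, 236], [229], [213, 225], [151], [229, 230], [223, 224], [211, 236],
  [227, 234], [139, 229], [213, 238], [224, 230], [157, 219, 238], [225, 234], [188, 238], [210, 227], [215, 230],
  [214, 230], [224, 234], [133, 225], [221, 234, 235], [157, 225], [157, 225, 238], [218], [213, 229], [225],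
  [219, 234], [199, 230], [210, 238], [211, 238], [225, 227], [223, 227], [221, 230], [217, 234], [210, 229],
  [191, 236], [214, 234], [188, 221], [143, 223, 238], [217, 223], [192, 225], [215, 234, 235], [215, 223], [188],
  [219, 238], [200], [191], [191, 229], [219], [192, 230], [208, 230], [223, 238], [219, 227], [218, 229], [210, 236],
  [202, 234], [196, 234], [223, 229], [213, 236], [196, 234, 238], [199, 223], [152, 211, 238], [196, 223], [188, 234],
  [211], [225, 238], [213], [171, 230], [192, 234], [200, 229], [223, 236], [182, 234], [182, 234, 238], [211, 234],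
  [171, 234], [210], [133, 230], [200, 225], [152, 234], [154, 234], [230], [142, 234], [161, 234], [234, 235], [234],
  [234, 238], [188, 213], [230, 236], [223]]

/-- words of reflections moving the neighbours to `q1 0` -/
def tB : List (List ℕ) := [
  [], [], [], [], [], [], [], [], [147], [], [], [], [], [], [], [], [], [], [], [], [], [], [184], [], [184, 226], [],
  [], [], [], [], [], [], [], [], [], [], [], [], [], [], [207, 226], [], [206], [207], [], [206, 239], [], [], [], [],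
  [], [], [], [], [], [], [], [], [], [], [], [], [], [222, 239], [], [222], [], [], [], [], [], [], [], [], [], [],
  [], [], [], [], [], [], [], [], [226], [], [233, 239], [], [], [], [], [], [], [], [], [], [], [232], [], [], [], [],
  [], [233], [], [204], [], [184, 233], [], [], [], [], [], [], [], [], [], [], [], [], [], [], [], [], [], [], [],
  [232, 239], [], [239], [], [], [], [], [], [147, 232], [], [], [], [], [], [147, 233], [], [], [], [], [], [], [],
  [222, 233], [], [220], [], [], [], [], [], [], [], [], [], [], [], [], [], [], [], [], [], [], [206, 226], [],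
  [206, 237], [], [], [], [], [], [], [], [], [], [], [], [], [], [], [], [222, 237], [], [184, 239], [222, 226], [],
  [184, 237], [], [], [], [], [], [], [], [], [], [], [], [], [], [], [], [], [], [207, 237], [], [207, 239], [], [],
  [], [], [], [], [], [], [], [], [], [], [], [], [], [], [237], [], [], [], [204, 239], [], [], [], [], []]

/-- the completions of the pair `q1 0`, `q1 1`: the two roots, the class, the permutation, the word -/
def tC : List (List ℤ × List ℤ × Bool × Fin 6 × List ℕ) := [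
  ([0, 0, 0, -1, -1, -1, -1, -1], [0, 1, 1, 1, 1, 1, 1, 1], false, 0, []),
  ([0, 0, 0, -1, -1, -1, -1, -1], [1, 1, 2, 2, 2, 1, 1, 1], true, 0, []),
  ([0, 0, 0, -1, -1, -1, -1, -1], [1, 2, 2, 3, 3, 3, 2, 1], true, 0, [181]),
  ([0, 0, 0, -1, -1, -1, -1, -1], [2, 2, 3, 4, 4, 3, 2, 1], false, 0, [181]),
  ([0, 0, 1, 0, 0, 0, 0, 0], [0, 1, 0, 0, 0, 0, 0, 0], true, 4, [184, 232, 239]),
  ([0, 0, 1, 0, 0, 0, 0, 0], [2, 2, 3, 4, 4, 3, 2, 1], true, 1, [203]),
  ([0, 1, 0, 0, 0, 0, 0, 0], [0, 0, 1, 0, 0, 0, 0, 0], true, 5, [184, 232, 239]),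
  ([0, 1, 0, 0, 0, 0, 0, 0], [2, 2, 3, 4, 4, 3, 2, 1], true, 1, [146, 203]),
  ([0, 1, 1, 1, 1, 1, 1, 1], [0, 0, 0, -1, -1, -1, -1, -1], false, 1, []),
  ([0, 1, 1, 1, 1, 1, 1, 1], [1, 1, 1, 1, 1, 0, 0, 0], true, 0, [146]),
  ([0, 1, 1, 1, 1, 1, 1, 1], [1, 1, 2, 2, 2, 2, 1, 0], true, 0, [181, 203]),
  ([0, 1, 1, 1, 1, 1, 1, 1], [2, 2, 3, 4, 4, 3, 2, 1], false, 1, [203]),
  ([1, 1, 1, 1, 1, 0, 0, 0], [0, 1, 1, 1, 1, 1, 1, 1], true, 1, [146]),
  ([1, 1, 1, 1, 1, 0, 0, 0], [1, 1, 2, 2, 2, 2, 1, 0], true, 4, [184, 206, 239]),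
  ([1, 1, 2, 2, 2, 1, 1, 1], [0, 0, 0, -1, -1, -1, -1, -1], true, 1, []),
  ([1, 1, 2, 2, 2, 1, 1, 1], [1, 2, 2, 3, 3, 3, 2, 1], true, 4, [184, 239]),
  ([1, 1, 2, 2, 2, 2, 1, 0], [0, 1, 1, 1, 1, 1, 1, 1], true, 1, [181, 203]),
  ([1, 1, 2, 2, 2, 2, 1, 0], [1, 1, 1, 1, 1, 0, 0, 0], true, 5, [184, 206, 239]),
  ([1, 2, 2, 3, 3, 3, 2, 1], [0, 0, 0, -1, -1, -1, -1, -1], true, 1, [181]),
  ([1, 2, 2, 3, 3, 3, 2, 1], [1, 1, 2, 2, 2, 1, 1, 1], true, 5, [184, 239]),
  ([2, 2, 3, 4, 4, 3, 2, 1], [0, 0, 0, -1, -1, -1, -1, -1], false, 1, [181]),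
  ([2, 2, 3, 4, 4, 3, 2, 1], [0, 0, 1, 0, 0, 0, 0, 0], true, 0, [203]),
  ([2, 2, 3, 4, 4, 3, 2, 1], [0, 1, 0, 0, 0, 0, 0, 0], true, 0, [146, 203]),
  ([2, 2, 3, 4, 4, 3, 2, 1], [0, 1, 1, 1, 1, 1, 1, 1], false, 0, [203])]

/-- the roots adjacent to `q1 1` and strongly orthogonal to `q1 0` -/
def NL : List (List ℤ) := [
  [0, 0, 0, -1, -1, -1, -1, -1],
  [0, 0, 1, 0, 0, 0, 0, 0],
  [0, 1, 0, 0, 0, 0, 0, 0],
  [0, 1, 1, 1, 1, 1, 1, 1],
  [1, 1, 1, 1, 1, 0, 0, 0],
  [1, 1, 2, 2, 2, 1, 1, 1],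
  [1, 1, 2, 2, 2, 2, 1, 0],
  [1, 2, 2, 3, 3, 3, 2, 1],
  [2, 2, 3, 4, 4, 3, 2, 1]]

/-- the test of the first table -/
def PA (x : List ℤ) (w : List ℕ) : Bool := (w.all fun d => decide (d < 240)) && decide (apR w x = a0L)

/-- the test of the second table -/
def PB (x : List ℤ) (w : List ℕ) : Bool :=
  decide (bL x a0L ≠ -1) || decide (bL x (JL a0L) ≠ 0) ||
    ((w.all fun d => decide (d < 240)) && (decide (apR w a0L = a0L) && decide (apR w x = c0L)))

/-- the test of the third table -/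
def PC (r : List ℤ × List ℤ × Bool × Fin 6 × List ℕ) : Bool :=
  (r.2.2.2.2.all fun d => decide (d < 240)) &&
    decide ([c0L, a0L, r.1, r.2.1].map (apR r.2.2.2.2) =
      (List.finRange 4).map fun i => (if r.2.2.1 then q2L else q1L).getD (pm r.2.2.2.1 i) [])

private noncomputable def _root_.Cfsg.Agent.LsF.fd050c0_0 : {f // @Cfsg.Agent.H136.EE.lin = f} := ⟨_, by first | (delta Cfsg.Agent.H136.EE.lin List.brecOn List.brecOn.go Cfsg.Agent.H136.EE.lin._f; rewrite [Cfsg.Agent.LsF.imul_pat, Cfsg.Agent.LsF.isub_pat]; (try delta Cfsg.Agent.H136.EE.lin.match_1); (try delta Cfsg.Agent.H136.EE.bL._sparseCasesOn_1); first | dsimp -zeta only | exact rfl) | exact rfl⟩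
private noncomputable def _root_.Cfsg.Agent.LsF.fd050c0_1 : {f // @Cfsg.Agent.H136.EE.bL = f} := ⟨_, by first | (delta Cfsg.Agent.H136.EE.bL; rewrite [Cfsg.Agent.LsF.iadd_pat, Cfsg.Agent.LsF.imul_pat, Cfsg.Agent.LsF.isub_pat]; (try delta Cfsg.Agent.H136.EE.bL.match_1); (try delta Cfsg.Agent.H136.EE.bL._sparseCasesOn_1); (try delta Cfsg.Agent.H136.EE.bL._sparseCasesOn_2); exact rfl) | exact rfl⟩
private noncomputable def _root_.Cfsg.Agent.LsF.fd050c0_2 : {f // @Cfsg.Agent.H136.EE.JL = f} := ⟨_, by first | (delta Cfsg.Agent.H136.EE.JL; rewrite [Cfsg.Agent.LsF.iadd_pat, Cfsg.Agent.LsF.imul_pat, Cfsg.Agent.LsF.isub_pat]; (try delta Cfsg.Agent.H136.EE.JL.match_1); (try delta Cfsg.Agent.H136.EE.bL._sparseCasesOn_1); (try delta Cfsg.Agent.H136.EE.bL._sparseCasesOn_2); exact rfl) | exact rfl⟩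
private noncomputable def _root_.Cfsg.Agent.LsF.fd050c0_3 : {f // @Cfsg.Agent.H136.EE.rL = f} := ⟨_, by first | (delta Cfsg.Agent.H136.EE.rL; rewrite [Cfsg.Agent.LsF.fd050c0_0.2, Cfsg.Agent.LsF.fd050c0_1.2, Cfsg.Agent.LsF.fd050c0_2.2]; exact rfl) | exact rfl⟩
private noncomputable def _root_.Cfsg.Agent.LsF.fd050c0_4 : {f // @Cfsg.Agent.H136.EE.apR = f} := ⟨_, by first | (delta Cfsg.Agent.H136.EE.apR; rewrite [Cfsg.Agent.LsF.fd050c0_3.2, Cfsg.Agent.LsF.foldl_eq, Cfsg.Agent.LsF.getD_eq]; exact rfl) | exact rfl⟩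
private noncomputable def _root_.Cfsg.Agent.LsF.fd050c0_5 : {f // @Cfsg.Agent.H136.EE.PA = f} := ⟨_, by first | (delta Cfsg.Agent.H136.EE.PA; rewrite [Cfsg.Agent.LsF.fd050c0_4.2, Cfsg.Agent.LsF.and_eq, Cfsg.Agent.LsF.decLt_eq, Cfsg.Agent.LsF.all_eq, Cfsg.Agent.LsF.instIDecEq_eq, Cfsg.Agent.LsF.dListEq_eq, Cfsg.Agent.LsF.decide_eq]; exact rfl) | exact rfl⟩
theorem chkA : (RL.zipIdx.all fun p => PA p.1 (tA.getD p.2 [])) = true := by ((try (rewrite [Cfsg.Agent.LsF.fd050c0_5.2, Cfsg.Agent.LsF.all_eq, Cfsg.Agent.LsF.getD_eq, Cfsg.Agent.LsF.zipIdx_eq])); decide +kernel)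

theorem chkB : (RL.zipIdx.all fun p => PB p.1 (tB.getD p.2 [])) = true := by decide +kernel

theorem chkN : (RL.filter fun x => decide (bL x a0L = -1) && (decide (bL x (JL a0L) = 0) && (decide (bL x c0L = 0) &&
    decide (bL x (JL c0L) = 0)))) = NL := by decide +kernel

private noncomputable def _root_.Cfsg.Agent.LsF.fd050c0_7 : {f // @Cfsg.Agent.H136.EE.pm = f} := ⟨_, by first | (delta Cfsg.Agent.H136.EE.pm; rewrite [Cfsg.Agent.LsF.vecCons_eq]; exact rfl) | exact rfl⟩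
private noncomputable def _root_.Cfsg.Agent.LsF.fd050c0_8 : {f // @Cfsg.Agent.H136.EE.PC = f} := ⟨_, by first | (delta Cfsg.Agent.H136.EE.PC; rewrite [Cfsg.Agent.LsF.fd050c0_4.2, Cfsg.Agent.LsF.fd050c0_7.2, Cfsg.Agent.LsF.and_eq, Cfsg.Agent.LsF.decLt_eq, Cfsg.Agent.LsF.all_eq, Cfsg.Agent.LsF.map_eq, Cfsg.Agent.LsF.getD_eq, Cfsg.Agent.LsF.instIDecEq_eq, Cfsg.Agent.LsF.dBoolEq_eq, Cfsg.Agent.LsF.dListEq_eq, Cfsg.Agent.LsF.finRange_eq, Cfsg.Agent.LsF.ite_eq, Cfsg.Agent.LsF.decide_eq]; exact rfl) | exact rfl⟩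
theorem chkC : (tC.all PC) = true := by ((try (rewrite [Cfsg.Agent.LsF.fd050c0_8.2, Cfsg.Agent.LsF.all_eq])); decide +kernel)

theorem chkD : (NL.all fun d => NL.all fun e => decide (bL d e ≠ 0) || (decide (bL d (JL e) ≠ 0) ||
    tC.any fun r => decide (r.1 = d) && decide (r.2.1 = e))) = true := by decide +kernel

/-! ### The three steps -/

theorem toL_q1 : ∀ i, toL (q1 i) = q1L.getD i [] := by decide

theorem toL_q2 : ∀ i, toL (q2 i) = q2L.getD i [] := by decide

theorem bL_a0 (x : Fin 8 → ℤ) : bL (toL x) a0L = bf x (q1 1) := by rw [bf_eq, toL_q1]; rfl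

theorem bL_c0 (x : Fin 8 → ℤ) : bL (toL x) c0L = bf x (q1 0) := by rw [bf_eq, toL_q1]; rfl

theorem bL_Ja0 (x : Fin 8 → ℤ) : bL (toL x) (JL a0L) = bf x (act w8 (q1 1)) := by rw [bf_eq, toL_w8, toL_q1]; rfl

theorem bL_Jc0 (x : Fin 8 → ℤ) : bL (toL x) (JL c0L) = bf x (act w8 (q1 0)) := by rw [bf_eq, toL_w8, toL_q1]; rfl

theorem stepA {a : Fin 8 → ℤ} (ha : Rt a) : ∃ v ∈ RR, act v a = q1 1 := by
  obtain ⟨w, hw⟩ := tab_all chkA (toL a) ((rt_iff a).1 ha)
  unfold PA at hw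
  rw [Bool.and_eq_true, decide_eq_true_eq] at hw
  obtain ⟨v, hv, h⟩ := exists_word hw.1
  refine ⟨v, hv, toL_inj ?_⟩
  rw [h, hw.2, toL_q1]
  rfl

theorem stepB {c : Fin 8 → ℤ} (hc : Rt c) (h1 : bf c (q1 1) = -1) (h2 : bf c (act w8 (q1 1)) = 0) :
    ∃ v ∈ RR, act v (q1 1) = q1 1 ∧ act v c = q1 0 := by
  obtain ⟨w, hw⟩ := tab_all chkB (toL c) ((rt_iff c).1 hc)
  unfold PB at hw
  rw [bL_a0, bL_Ja0, Bool.or_eq_true, Bool.or_eq_true, decide_eq_true_eq, decide_eq_true_eq, Bool.and_eq_true,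
    Bool.and_eq_true, decide_eq_true_eq, decide_eq_true_eq] at hw
  rcases hw with (hw | hw) | hw
  · exact absurd h1 hw
  · exact absurd h2 hw
  obtain ⟨v, hv, h⟩ := exists_word hw.1
  refine ⟨v, hv, toL_inj ?_, toL_inj ?_⟩
  · rw [h, toL_q1]
    exact hw.2.1
  · rw [h, hw.2.2, toL_q1]
    rfl

theorem mem_NL {x : Fin 8 → ℤ} (hx : Rt x) (h1 : bf x (q1 1) = -1) (h2 : bf x (act w8 (q1 1)) = 0)
    (h3 : bf x (q1 0) = 0) (h4 : bf x (act w8 (q1 0)) = 0) : toL x ∈ NL := by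
  rw [← chkN, List.mem_filter]
  refine ⟨(rt_iff x).1 hx, ?_⟩
  rw [bL_a0, bL_Ja0, bL_c0, bL_Jc0]
  simp [h1, h2, h3, h4]

/-- the system of the class `k` -/
def qq : Bool → Fin 4 → Fin 8 → ℤ
  | false => q1
  | true => q2

theorem toL_qq (k : Bool) (i : Fin 4) : toL (qq k i) = (if k then q2L else q1L).getD i [] := by
  cases k
  · exact toL_q1 i
  · exact toL_q2 i

theorem stepC {d e : Fin 8 → ℤ} (hd : toL d ∈ NL) (he : toL e ∈ NL) (h1 : bf d e = 0) (h2 : bf d (act w8 e) = 0) :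
    ∃ v ∈ RR, ∃ (k : Bool) (t : Fin 6), act v (q1 0) = qq k (pm t 0) ∧ act v (q1 1) = qq k (pm t 1) ∧
      act v d = qq k (pm t 2) ∧ act v e = qq k (pm t 3) := by
  have h := List.all_eq_true.1 (List.all_eq_true.1 chkD _ hd) _ he
  rw [← toL_w8, ← bf_eq, ← bf_eq, Bool.or_eq_true, Bool.or_eq_true, decide_eq_true_eq, decide_eq_true_eq] at h
  rcases h with h | h | h
  · exact absurd h1 h
  · exact absurd h2 h
  obtain ⟨r, hr, h⟩ := List.any_eq_true.1 h
  rw [Bool.and_eq_true, decide_eq_true_eq, decide_eq_true_eq] at h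
  have hP := List.all_eq_true.1 chkC r hr
  unfold PC at hP
  rw [Bool.and_eq_true, decide_eq_true_eq, h.1, h.2] at hP
  obtain ⟨v, hv, hw⟩ := exists_word hP.1
  have hm := hP.2
  have hm0 := congrArg (fun l => l.getD 0 []) hm
  have hm1 := congrArg (fun l => l.getD 1 []) hm
  have hm2 := congrArg (fun l => l.getD 2 []) hm
  have hm3 := congrArg (fun l => l.getD 3 []) hm
  refine ⟨v, hv, r.2.2.1, r.2.2.2.1, toL_inj ?_, toL_inj ?_, toL_inj ?_, toL_inj ?_⟩
  · rw [hw, toL_qq, toL_q1]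
    exact hm0
  · rw [hw, toL_qq, toL_q1]
    exact hm1
  · rw [hw, toL_qq]
    exact hm2
  · rw [hw, toL_qq]
    exact hm3

theorem Quad.act {b : Fin 4 → Fin 8 → ℤ} (hb : Quad b) {v : W8} (hv : v ∈ CW) : Quad fun i => act v (b i) where
  root i := rt_act v (hb.root i)
  ad i j hij := by rw [bf_act]; exact hb.ad i j hij
  orth i j := by rw [← mem_CW.1 hv, bf_act]; exact hb.orth i j

/-- **C1, on quadruples**: every `Quad` is conjugate to `q1` or to `q2` up to a permutation of the ends. -/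
theorem exists_conj {b : Fin 4 → Fin 8 → ℤ} (hb : Quad b) :
    ∃ v ∈ RR, ∃ (k : Bool) (t : Fin 6), ∀ i, Cfsg.Agent.H865.EE.act v (b i) = qq k (pm t i) := by
  obtain ⟨v1, hv1, e1⟩ := stepA (hb.root 1)
  have hb1 := Quad.act hb (RR_le hv1)
  have a1 := hb1.ad 0 1 (by decide)
  have o1 := hb1.orth 0 1
  simp only [e1] at a1 o1
  rw [if_pos (by decide)] at a1
  obtain ⟨v2, hv2, e2, e2'⟩ := stepB (hb1.root 0) a1 o1
  have hb2 := Quad.act hb1 (RR_le hv2)
  have f1 : Cfsg.Agent.H865.EE.act v2 (Cfsg.Agent.H865.EE.act v1 (b 1)) = q1 1 := by rw [e1, e2]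
  have key : ∀ i, i = 2 ∨ i = 3 → toL (Cfsg.Agent.H865.EE.act v2 (Cfsg.Agent.H865.EE.act v1 (b i))) ∈ NL := by
    intro i hi
    have h10 := hb2.ad i 1 (by rcases hi with rfl | rfl <;> decide)
    have h00 := hb2.ad i 0 (by rcases hi with rfl | rfl <;> decide)
    have h11 := hb2.orth i 1
    have h01 := hb2.orth i 0
    rw [if_pos (by rcases hi with rfl | rfl <;> decide)] at h10
    rw [if_neg (by rcases hi with rfl | rfl <;> decide)] at h00
    simp only [f1, e2'] at h10 h00 h11 h01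
    exact mem_NL (hb2.root i) h10 h11 h00 h01
  have h23 := hb2.ad 2 3 (by decide)
  rw [if_neg (by decide)] at h23
  obtain ⟨v3, hv3, k, t, g0, g1, g2, g3⟩ := stepC (key 2 (Or.inl rfl)) (key 3 (Or.inr rfl)) h23 (hb2.orth 2 3)
  refine ⟨v3 * v2 * v1, mul_mem (mul_mem hv3 hv2) hv1, k, t, fun i => ?_⟩
  rw [act_mul, act_mul]
  match i with
  | 0 => rw [e2', g0]
  | 1 => rw [f1, g1]
  | 2 => exact g2
  | 3 => exact g3

/-! ### The sets `SS b` -/

theorem mem_Ph_perm {b c : Fin 4 → Fin 8 → ℤ} {f : Fin 4 → Fin 4} (hf : Function.Bijective f) (h : ∀ i, b i = c (f i)) :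
    Ph b = Ph c := by
  let π := Equiv.ofBijective f hf
  ext a
  constructor
  · rintro ⟨ha, x, hx⟩
    refine ⟨ha, fun i => x (π.symm i), ?_⟩
    rw [hx]
    refine Eq.trans ?_ (Equiv.sum_comp π _)
    refine Finset.sum_congr rfl fun i _ => ?_
    show x i • b i = x (π.symm (π i)) • c (π i)
    rw [Equiv.symm_apply_apply, h]
    rfl
  · rintro ⟨ha, x, hx⟩
    refine ⟨ha, fun i => x (π i), ?_⟩
    rw [hx]
    refine (Equiv.sum_comp π _).symm.trans ?_
    refine Finset.sum_congr rfl fun i _ => ?_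
    rw [h]
    rfl

theorem SS_perm {b c : Fin 4 → Fin 8 → ℤ} {f : Fin 4 → Fin 4} (hf : Function.Bijective f) (h : ∀ i, b i = c (f i)) :
    SS b = SS c := by
  unfold SS
  rw [mem_Ph_perm hf h]

theorem mem_Ph_act {b : Fin 4 → Fin 8 → ℤ} (v : W8) (a : Fin 8 → ℤ) :
    Cfsg.Agent.H865.EE.act v a ∈ Ph (fun i => Cfsg.Agent.H865.EE.act v (b i)) ↔ a ∈ Ph b := by
  have hinj : ∀ x y : Fin 8 → ℤ, Cfsg.Agent.H865.EE.act v x = Cfsg.Agent.H865.EE.act v y → x = y := fun x y h => by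
    have := congrArg (Cfsg.Agent.H865.EE.act v⁻¹) h
    rwa [← act_mul, ← act_mul, inv_mul_cancel, act_one, act_one] at this
  constructor
  · rintro ⟨ha, x, hx⟩
    refine ⟨?_, x, hinj _ _ ?_⟩
    · have := rt_act v⁻¹ ha
      rwa [← act_mul, inv_mul_cancel, act_one] at this
    · rw [hx, map_sum]
      exact Finset.sum_congr rfl fun i _ => (map_smul _ _ _).symm
  · rintro ⟨ha, x, hx⟩
    refine ⟨rt_act v ha, x, ?_⟩
    rw [hx, map_sum]
    exact Finset.sum_congr rfl fun i _ => map_smul _ _ _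

theorem act_inv_act (v : W8) (x : Fin 8 → ℤ) : Cfsg.Agent.H865.EE.act v (Cfsg.Agent.H865.EE.act v⁻¹ x) = x := by
  rw [← act_mul, mul_inv_cancel, act_one]

theorem mem_SS {b : Fin 4 → Fin 8 → ℤ} {a : Fin 8 → ℤ} :
    a ∈ SS b ↔ a ∈ Ph b ∨ ∃ a' ∈ Ph b, a = Cfsg.Agent.H865.EE.act w8 a' := Iff.rfl

theorem image_SS {b : Fin 4 → Fin 8 → ℤ} {v : W8} (hv : v ∈ CW) :
    Cfsg.Agent.H865.EE.act v '' SS b = SS fun i => Cfsg.Agent.H865.EE.act v (b i) := by
  ext a
  rw [mem_SS]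
  constructor
  · rintro ⟨x, hx, rfl⟩
    rw [mem_SS] at hx
    rcases hx with hx | ⟨y, hy, hxy⟩
    · exact Or.inl ((mem_Ph_act v x).2 hx)
    · exact Or.inr ⟨Cfsg.Agent.H865.EE.act v y, (mem_Ph_act v y).2 hy, by rw [hxy]; exact mem_CW.1 hv y⟩
  · rintro (h | ⟨y, hy, hay⟩)
    · refine ⟨Cfsg.Agent.H865.EE.act v⁻¹ a, mem_SS.2 (Or.inl ?_), act_inv_act v a⟩
      rw [← mem_Ph_act v, act_inv_act]
      exact h
    · refine ⟨Cfsg.Agent.H865.EE.act w8 (Cfsg.Agent.H865.EE.act v⁻¹ y), mem_SS.2 (Or.inr ⟨_, ?_, rfl⟩), ?_⟩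
      · rw [← mem_Ph_act v, act_inv_act]
        exact hy
      · rw [mem_CW.1 hv, act_inv_act, hay]

/-- **C1.** -/
theorem exists_conj_SS {b : Fin 4 → Fin 8 → ℤ} (hb : Quad b) :
    ∃ v ∈ RR, Cfsg.Agent.H865.EE.act v '' SS b = SS q1 ∨ Cfsg.Agent.H865.EE.act v '' SS b = SS q2 := by
  obtain ⟨v, hv, k, t, h⟩ := exists_conj hb
  refine ⟨v, hv, ?_⟩
  rw [image_SS (RR_le hv), SS_perm (pm_bij t) h]
  cases k
  · exact Or.inl rfl
  · exact Or.inr rfl

end Cfsg.Agent.H136.EE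
end

-- part: H136/EE/Two
section
/-!
# The two classes of `D₄`-systems are not conjugate (helper136, S3384, piece C2)

For `q1` all `x + w8 x` lie in the lattice spanned by `SS q1`; for `q2` this is false.
-/

set_option autoImplicit false
set_option linter.unusedSectionVars false

namespace Cfsg.Agent.H136.EE

open CoxeterSystem Subgroup Cfsg Cfsg.Lie Cfsg.Lie.ChevalleyDatum
open Cfsg.Agent.ChevalleyStructure Cfsg.Agent.ChevalleyStructure.Elts Cfsg.Agent.ChevalleyStructure.CoxeterGeom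
  Cfsg.Agent.ChevalleyStructure.CoxeterGeomTypes Cfsg.Agent.ChevalleyStructure.NPerm
open Cfsg.Agent.Tits.Roots Cfsg.Agent.Tits.Core Cfsg.Agent.Nodes Cfsg.Agent.Nodes.SubComb Cfsg.Agent.Nodes.Reps Cfsg.Agent.Nodes.BNOf
  Cfsg.Agent.Nodes.RGDChev Cfsg.Agent.Nodes.Bruhat Cfsg.Agent.Nodes.Coroot
open Cfsg.Agent.H865.EE

/-- the lists of the system `k` -/
abbrev qL (k : Bool) : List (List ℤ) := if k then q2L else q1L

/-- `c 0 q 0 + … + c 3 q 3 + d 0 w8 (q 0) + … + d 3 w8 (q 3)` for the system `k`, coordinate `m`, indices moved by `t` -/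
def cmb (k : Bool) (t : Fin 6) (c d : Fin 4 → ℤ) (m : Fin 8) : ℤ :=
  c 0 * ((qL k).getD (pm t 0) []).getD m 0 + c 1 * ((qL k).getD (pm t 1) []).getD m 0 +
    c 2 * ((qL k).getD (pm t 2) []).getD m 0 + c 3 * ((qL k).getD (pm t 3) []).getD m 0 +
    (d 0 * (JL ((qL k).getD (pm t 0) [])).getD m 0 + d 1 * (JL ((qL k).getD (pm t 1) [])).getD m 0 +
    d 2 * (JL ((qL k).getD (pm t 2) [])).getD m 0 + d 3 * (JL ((qL k).getD (pm t 3) [])).getD m 0)

theorem qq_apply (k : Bool) (i : Fin 4) (m : Fin 8) : qq k i m = ((qL k).getD i []).getD m 0 := by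
  rw [← toL_qq, getD_toL]

theorem w8_qq_apply (k : Bool) (i : Fin 4) (m : Fin 8) : act w8 (qq k i) m = (JL ((qL k).getD i [])).getD m 0 := by
  rw [← toL_qq, ← toL_w8, getD_toL]

theorem cmb_eq (k : Bool) (t : Fin 6) (c d : Fin 4 → ℤ) :
    ∑ i, c i • qq k (pm t i) + ∑ i, d i • act w8 (qq k (pm t i)) = cmb k t c d := by
  funext m
  simp only [Fin.sum_univ_four, Pi.add_apply, Pi.smul_apply, smul_eq_mul, qq_apply, w8_qq_apply, cmb]

/-- the vectors of the basis -/
theorem sr_apply (j m : Fin 8) : (sr j : Fin 8 → ℤ) m = if m = j then 1 else 0 := by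
  by_cases h : m = j
  · rw [h, sr_self, if_pos rfl]
  · rw [sr_ne h, if_neg h]

theorem eq_sum_sr (x : Fin 8 → ℤ) : x = ∑ j, x j • (sr j : Fin 8 → ℤ) := by
  funext i
  rw [Finset.sum_apply, Finset.sum_eq_single i (fun j _ hj => by
    rw [Pi.smul_apply, sr_ne hj.symm, smul_zero]) (fun h => absurd (Finset.mem_univ i) h), Pi.smul_apply, sr_self,
    smul_eq_mul, mul_one]

/-- the coefficients of `x + w8 x` for the basis vectors, for `q1` -/
def U1 : Fin 8 → Fin 4 → ℤ := ![![-1, -2, -1, -1], ![0, 0, 0, 1], ![0, 0, 1, 0], ![0, 1, 0, 0], ![0, -1, -1, -1],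
  ![1, 1, 1, 1], ![-1, 0, 0, 0], ![0, -1, -1, 0]]

/-- the coefficients of `x + w8 x` for the basis vectors, for `q1`, second part -/
def U2 : Fin 8 → Fin 4 → ℤ := ![![0, 0, 0, -1], ![0, 0, 1, 0], ![0, 0, 0, 1], ![0, 1, 0, 0], ![0, -1, 0, 0],
  ![-1, -1, -1, -1], ![1, 0, 0, 0], ![0, 1, 0, 1]]

theorem chkU : ∀ j m : Fin 8, (if m = j then (1 : ℤ) else 0) + WM m j = cmb false 0 (U1 j) (U2 j) m := by decide +kernel

theorem sr_add_w8 (j : Fin 8) : (sr j : Fin 8 → ℤ) + act w8 (sr j) =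
    ∑ i, U1 j i • q1 i + ∑ i, U2 j i • act w8 (q1 i) := by
  have h := cmb_eq false 0 (U1 j) (U2 j)
  have e : ∀ i, qq false (pm 0 i) = q1 i := by decide
  simp only [e] at h
  rw [h]
  funext m
  rw [Pi.add_apply, sr_apply, act_w8_sr]
  exact chkU j m

theorem mem_Ph_self {b : Fin 4 → Fin 8 → ℤ} (hb : ∀ i, Rt (b i)) (i : Fin 4) : b i ∈ Ph b := by
  refine ⟨hb i, fun j => if j = i then 1 else 0, ?_⟩
  simp

theorem qq_mem_RL (k : Bool) (i : Fin 4) : toL (qq k i) ∈ RL := by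
  rw [toL_qq]
  revert k i
  decide +kernel

theorem rt_qq (k : Bool) (i : Fin 4) : Rt (qq k i) := (rt_iff _).2 (qq_mem_RL k i)

theorem rt_q1 (i : Fin 4) : Rt (q1 i) := rt_qq false i

/-- the lattice spanned by the roots of `SS b` -/
def Mb (b : Fin 4 → Fin 8 → ℤ) : Submodule ℤ (Fin 8 → ℤ) := Submodule.span ℤ (SS b)

theorem mem_Mb {b : Fin 4 → Fin 8 → ℤ} (hb : ∀ i, Rt (b i)) (i : Fin 4) : b i ∈ Mb b :=
  Submodule.subset_span (mem_SS.2 (Or.inl (mem_Ph_self hb i)))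

theorem w8_mem_Mb {b : Fin 4 → Fin 8 → ℤ} (hb : ∀ i, Rt (b i)) (i : Fin 4) : act w8 (b i) ∈ Mb b :=
  Submodule.subset_span (mem_SS.2 (Or.inr ⟨b i, mem_Ph_self hb i, rfl⟩))

theorem add_mem_M1 (x : Fin 8 → ℤ) : x + act w8 x ∈ Mb q1 := by
  have h : x + act w8 x = ∑ j, x j • ((sr j : Fin 8 → ℤ) + act w8 (sr j)) := by
    conv_lhs => rw [eq_sum_sr x]
    rw [map_sum, ← Finset.sum_add_distrib]
    refine Finset.sum_congr rfl fun j _ => ?_
    rw [map_smul, smul_add]
  rw [h]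
  refine Submodule.sum_mem _ fun j _ => Submodule.smul_mem _ _ ?_
  rw [sr_add_w8]
  exact Submodule.add_mem _ (Submodule.sum_mem _ fun i _ => Submodule.smul_mem _ _ (mem_Mb rt_q1 i))
    (Submodule.sum_mem _ fun i _ => Submodule.smul_mem _ _ (w8_mem_Mb rt_q1 i))

/-- the linear form given by a vector -/
def lf (f : Fin 8 → ℤ) : (Fin 8 → ℤ) →ₗ[ℤ] ℤ where
  toFun x := ∑ m, f m * x m
  map_add' x y := by simp only [Pi.add_apply, mul_add, Finset.sum_add_distrib]
  map_smul' c x := by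
    simp only [Pi.smul_apply, smul_eq_mul, Finset.mul_sum, RingHom.id_apply]
    exact Finset.sum_congr rfl fun m _ => by ring

theorem lf_apply (f x : Fin 8 → ℤ) : lf f x = ∑ m, f m * x m := rfl

theorem lf_even {b : Fin 4 → Fin 8 → ℤ} {f : Fin 8 → ℤ} (h1 : ∀ i, 2 ∣ lf f (b i)) (h2 : ∀ i, 2 ∣ lf f (act w8 (b i)))
    {x : Fin 8 → ℤ} (hx : x ∈ Mb b) : 2 ∣ lf f x := by
  have hle : Mb b ≤ (Submodule.comap (lf f) (Ideal.span {(2 : ℤ)} : Ideal ℤ)) := by
    rw [Mb, Submodule.span_le]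
    intro a ha
    rw [SetLike.mem_coe, Submodule.mem_comap, Ideal.mem_span_singleton]
    rcases mem_SS.1 ha with ⟨-, c, hc⟩ | ⟨y, ⟨-, c, hc⟩, hy⟩
    · rw [hc, map_sum]
      refine Finset.dvd_sum fun i _ => ?_
      rw [map_smul, smul_eq_mul]
      exact (h1 i).mul_left _
    · rw [hy, hc, map_sum, map_sum]
      refine Finset.dvd_sum fun i _ => ?_
      rw [map_smul, map_smul, smul_eq_mul]
      exact (h2 i).mul_left _
  exact Ideal.mem_span_singleton.1 (hle hx)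

/-- two linear forms which are even on the lattice of the system `k` -/
def ff : Bool → Fin 2 → Fin 8 → ℤ
  | false => ![![0, 1, 1, 0, 1, 0, 0, 1], ![1, 0, 0, 0, 0, 0, 0, 0]]
  | true => ![![0, 0, 1, 0, 0, 1, 0, 1], ![0, 1, 0, 0, 1, 1, 0, 0]]

theorem chkF : ∀ (k : Bool) (a : Fin 2) (i : Fin 4), (∑ m, ff k a m * ((qL k).getD i []).getD m 0) % 2 = 0 ∧
    (∑ m, ff k a m * (JL ((qL k).getD i [])).getD m 0) % 2 = 0 := by decide +kernel

theorem ff_even (k : Bool) (a : Fin 2) {x : Fin 8 → ℤ} (hx : x ∈ Mb (qq k)) : 2 ∣ lf (ff k a) x := by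
  refine lf_even (fun i => ?_) (fun i => ?_) hx
  · rw [lf_apply]
    simp only [qq_apply]
    exact Int.dvd_of_emod_eq_zero (chkF k a i).1
  · rw [lf_apply]
    simp only [w8_qq_apply]
    exact Int.dvd_of_emod_eq_zero (chkF k a i).2

theorem not_mem_M2 : (sr 1 : Fin 8 → ℤ) + act w8 (sr 1) ∉ Mb q2 := by
  intro h
  have h1 := ff_even true 0 h
  have h2 : lf (ff true 0) ((sr 1 : Fin 8 → ℤ) + act w8 (sr 1)) =
      ∑ m, ff true 0 m * ((if m = 1 then (1 : ℤ) else 0) + WM m 1) := by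
    rw [lf_apply]
    refine Finset.sum_congr rfl fun m _ => ?_
    rw [Pi.add_apply, sr_apply, act_w8_sr]
  rw [h2] at h1
  revert h1
  decide +kernel

theorem map_Mb {b c : Fin 4 → Fin 8 → ℤ} {v : W8} (h : act v '' SS b = SS c) {x : Fin 8 → ℤ} (hx : x ∈ Mb b) :
    act v x ∈ Mb c := by
  have h1 : (Mb b).map (act v) = Mb c := by rw [Mb, Submodule.map_span, h, Mb]
  rw [← h1]
  exact Submodule.mem_map_of_mem hx

/-- **C2.** -/
theorem not_conj : ¬ ∃ v ∈ CW, act v '' SS q1 = SS q2 := by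
  rintro ⟨v, hv, h⟩
  refine not_mem_M2 ?_
  have h1 := map_Mb h (add_mem_M1 (act v⁻¹ (sr 1)))
  rwa [map_add, mem_CW.1 hv, act_inv_act] at h1

end Cfsg.Agent.H136.EE
end

-- part: H136/EE/Stab
section
/-!
# The stabiliser of a `D₄`-system (helper136, S3384)

`exists_rb` : four roots of `Ph b` with the products of `b` are conjugate under `RB b` to a permutation of `b`.
-/

set_option autoImplicit false
set_option linter.unusedSectionVars false

namespace Cfsg.Agent.H136.EE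

open CoxeterSystem Subgroup Cfsg Cfsg.Lie Cfsg.Lie.ChevalleyDatum
open Cfsg.Agent.ChevalleyStructure Cfsg.Agent.ChevalleyStructure.Elts Cfsg.Agent.ChevalleyStructure.CoxeterGeom
  Cfsg.Agent.ChevalleyStructure.CoxeterGeomTypes Cfsg.Agent.ChevalleyStructure.NPerm
open Cfsg.Agent.Tits.Roots Cfsg.Agent.Tits.Core Cfsg.Agent.Nodes Cfsg.Agent.Nodes.SubComb Cfsg.Agent.Nodes.Reps Cfsg.Agent.Nodes.BNOf
  Cfsg.Agent.Nodes.RGDChev Cfsg.Agent.Nodes.Bruhat Cfsg.Agent.Nodes.Coroot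
open Cfsg.Agent.H865.EE

/-- the form of `D₄` in coordinates -/
def d4 : List ℤ → List ℤ → ℤ
  | [x0, x1, x2, x3], [y0, y1, y2, y3] =>
    x0 * (2 * y0 - y1) + x1 * (2 * y1 - y0 - y2 - y3) + x2 * (2 * y2 - y1) + x3 * (2 * y3 - y1)
  | _, _ => 0

/-- the simple reflections of `D₄` in coordinates -/
def s4 (i : Fin 4) : List ℤ → List ℤ
  | [x0, x1, x2, x3] =>
    match i with
    | 0 => [x1 - x0, x1, x2, x3]
    | 1 => [x0, x0 + x2 + x3 - x1, x2, x3]
    | 2 => [x0, x1, x1 - x2, x3]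
    | 3 => [x0, x1, x2, x1 - x3]
  | _ => []

/-- a word of simple reflections, first letter first -/
def ap4 (w : List (Fin 4)) (x : List ℤ) : List ℤ := w.foldl (fun x i => s4 i x) x

/-- the roots of `D₄` in coordinates and words of simple reflections moving them to the root 1 -/
def t1 : List (List ℤ × List (Fin 4)) := [
  ([-1, -2, -1, -1], [1, 3, 2, 0, 1]), ([-1, -1, -1, -1], [3, 2, 0, 1]), ([-1, -1, -1, 0], [2, 0, 1]),
  ([-1, -1, 0, -1], [3, 0, 1]), ([-1, -1, 0, 0], [0, 1]), ([-1, 0, 0, 0], [0, 1, 0]), ([0, -1, -1, -1], [3, 2, 1]),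
  ([0, -1, -1, 0], [2, 1]), ([0, -1, 0, -1], [3, 1]), ([0, -1, 0, 0], [1]), ([0, 0, -1, 0], [1, 2, 1]),
  ([0, 0, 0, -1], [1, 3, 1]), ([0, 0, 0, 1], [1, 3]), ([0, 0, 1, 0], [1, 2]), ([0, 1, 0, 0], []),
  ([0, 1, 0, 1], [3]), ([0, 1, 1, 0], [2]), ([0, 1, 1, 1], [3, 2]), ([1, 0, 0, 0], [1, 0]), ([1, 1, 0, 0], [0]),
  ([1, 1, 0, 1], [3, 0]), ([1, 1, 1, 0], [2, 0]), ([1, 1, 1, 1], [3, 2, 0]), ([1, 2, 1, 1], [1, 3, 2, 0])]

/-- the roots with product -1 with the root 1, and words fixing the root 1 and moving them to the root 0 -/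
def t2 : List (List ℤ × List (Fin 4)) := [
  ([-1, -2, -1, -1], [0, 1, 3, 2, 1, 0]), ([-1, -1, 0, 0], [3, 1, 2, 0, 1, 3, 0, 1, 2, 1, 0]),
  ([0, -1, -1, 0], [0, 1, 2, 1, 0]), ([0, -1, 0, -1], [0, 1, 3, 1, 0]), ([0, 0, 0, 1], [2, 1, 3, 0, 1, 2]),
  ([0, 0, 1, 0], [3, 1, 2, 0, 1, 3]), ([1, 0, 0, 0], []), ([1, 1, 1, 1], [2, 1, 3, 1, 2])]

/-- the completions of the roots 0 and 1 -/
def t3 : List (List ℤ × List ℤ × Fin 6 × List (Fin 4)) := [
  ([-1, -2, -1, -1], [0, 0, 0, 1], 5, [2, 1, 3, 0, 1, 2]), ([-1, -2, -1, -1], [0, 0, 1, 0], 3, [3, 1, 2, 0, 1, 3]),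
  ([0, 0, 0, 1], [-1, -2, -1, -1], 4, [2, 1, 3, 0, 1, 2]), ([0, 0, 0, 1], [0, 0, 1, 0], 1, []),
  ([0, 0, 1, 0], [-1, -2, -1, -1], 2, [3, 1, 2, 0, 1, 3]), ([0, 0, 1, 0], [0, 0, 0, 1], 0, [])]

/-- the Gram matrix of `D₄` -/
def GM : Fin 4 → Fin 4 → ℤ := ![![2, -1, 0, 0], ![-1, 2, -1, -1], ![0, -1, 2, 0], ![0, -1, 0, 2]]

/-- the unit vectors -/
def e4 (i : Fin 4) : List ℤ := (List.finRange 4).map fun j => if j = i then 1 else 0

theorem box1 : ∀ a b c d : Fin 5, d4 [(a.val : ℤ) - 2, (b.val : ℤ) - 2, (c.val : ℤ) - 2, (d.val : ℤ) - 2]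
    [(a.val : ℤ) - 2, (b.val : ℤ) - 2, (c.val : ℤ) - 2, (d.val : ℤ) - 2] = 2 →
    (t1.any fun r => decide (r.1 = [(a.val : ℤ) - 2, (b.val : ℤ) - 2, (c.val : ℤ) - 2, (d.val : ℤ) - 2])) = true := by
  decide +kernel

theorem chk1 : (t1.all fun r => decide (ap4 r.2 r.1 = e4 1)) = true := by decide +kernel

theorem chk2a : (t1.all fun r => decide (d4 r.1 (e4 1) ≠ -1) || t2.any fun s => decide (s.1 = r.1)) = true := by
  decide +kernel

theorem chk2 : (t2.all fun s => decide (ap4 s.2 (e4 1) = e4 1) && decide (ap4 s.2 s.1 = e4 0)) = true := by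
  decide +kernel

theorem chk3a : (t1.all fun r => decide (d4 r.1 (e4 1) ≠ -1) || (decide (d4 r.1 (e4 0) ≠ 0) ||
    t1.all fun r' => decide (d4 r'.1 (e4 1) ≠ -1) || (decide (d4 r'.1 (e4 0) ≠ 0) || (decide (d4 r.1 r'.1 ≠ 0) ||
      t3.any fun s => decide (s.1 = r.1) && decide (s.2.1 = r'.1))))) = true := by decide +kernel

theorem chk3 : (t3.all fun s => decide ([e4 0, e4 1, s.1, s.2.1].map (ap4 s.2.2.2) =
    (List.finRange 4).map fun i => e4 (pm s.2.2.1 i))) = true := by decide +kernel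

theorem four_of_length {x : List ℤ} (h : x.length = 4) : ∃ a b c d, x = [a, b, c, d] := by
  match x, h with
  | [a, b, c, d], _ => exact ⟨a, b, c, d, rfl⟩

theorem mem_t1 {x : List ℤ} (hl : x.length = 4) (hx : d4 x x = 2) : ∃ r ∈ t1, r.1 = x := by
  obtain ⟨a, b, c, d, rfl⟩ := four_of_length hl
  have h : (2 * a - b) ^ 2 + (2 * c - b) ^ 2 + (2 * d - b) ^ 2 + b ^ 2 = 4 := by
    have h1 : d4 [a, b, c, d] [a, b, c, d] = a * (2 * a - b) + b * (2 * b - a - c - d) + c * (2 * c - b) +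
      d * (2 * d - b) := rfl
    rw [h1] at hx
    linear_combination 2 * hx
  have sq : ∀ z : ℤ, z ^ 2 ≤ 4 → -2 ≤ z ∧ z ≤ 2 := fun z hz => ⟨by nlinarith only [hz], by nlinarith only [hz]⟩
  have n1 := sq_nonneg (2 * a - b)
  have n2 := sq_nonneg (2 * c - b)
  have n3 := sq_nonneg (2 * d - b)
  have n4 := sq_nonneg b
  have hb := sq b (by linarith)
  have ha := sq (2 * a - b) (by linarith only [h, n2, n3, n4])
  have hc := sq (2 * c - b) (by linarith only [h, n1, n3, n4])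
  have hd := sq (2 * d - b) (by linarith only [h, n1, n2, n4])
  have key : ∀ z : ℤ, -2 ≤ z → z ≤ 2 → ∃ n : Fin 5, ((n.val : ℤ) - 2) = z := fun z h1 h2 =>
    ⟨⟨(z + 2).toNat, by omega⟩, by simp only []; omega⟩
  obtain ⟨a', rfl⟩ := key a (by omega) (by omega)
  obtain ⟨b', rfl⟩ := key b (by omega) (by omega)
  obtain ⟨c', rfl⟩ := key c (by omega) (by omega)
  obtain ⟨d', rfl⟩ := key d (by omega) (by omega)
  obtain ⟨r, hr, h⟩ := List.any_eq_true.1 (box1 a' b' c' d' hx)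
  exact ⟨r, hr, of_decide_eq_true h⟩

/-! ### Coordinates -/

/-- the vector with coordinates `x` -/
def lc (b : Fin 4 → Fin 8 → ℤ) (x : List ℤ) : Fin 8 → ℤ :=
  x.getD 0 0 • b 0 + x.getD 1 0 • b 1 + x.getD 2 0 • b 2 + x.getD 3 0 • b 3

theorem lc_cons (b : Fin 4 → Fin 8 → ℤ) (x0 x1 x2 x3 : ℤ) :
    lc b [x0, x1, x2, x3] = x0 • b 0 + x1 • b 1 + x2 • b 2 + x3 • b 3 := rfl

theorem lc_e4 (b : Fin 4 → Fin 8 → ℤ) (i : Fin 4) : lc b (e4 i) = b i := by
  (revert i; simp only [lc, e4, List.finRange_succ, _root_.Fin.forall_fin_succ, Nat.reduceAdd, Fin.isValue, _root_.List.finRange_zero, _root_.List.map_nil, _root_.List.map_cons, _root_.Fin.succ_zero_eq_one, _root_.Fin.succ_one_eq_two, Fin.reduceSucc, _root_.List.getD_eq_getElem?_getD, _root_.List.length_cons, _root_.List.length_nil, _root_.zero_add, _root_.Nat.ofNat_pos, _root_.getElem?_pos, _root_.List.getElem_cons_zero, _root_.Option.getD_some, _root_.ite_smul, _root_.one_smul, _root_.zero_smul,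 _root_.Nat.one_lt_ofNat, _root_.List.getElem_cons_succ, Nat.reduceLT, _root_.Nat.lt_add_one, ↓reduceIte, _root_.one_ne_zero, _root_.add_zero, Fin.reduceEq, _root_.zero_ne_one, _root_.IsEmpty.forall_iff, _root_.and_self])

section
variable {b : Fin 4 → Fin 8 → ℤ} (hb : Quad b)
include hb

theorem gram (i j : Fin 4) : bf (b i) (b j) = GM i j := by
  have h : bf (b i) (b j) = if i = j then 2 else if _root_.Cfsg.Agent.H865.EE.Adj i j then -1 else 0 := by
    by_cases h : i = j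
    · rw [h, if_pos rfl, bf_self (hb.root j)]
    · rw [if_neg h, hb.ad i j h]
  have e : ∀ i j : Fin 4, (if i = j then (2 : ℤ) else if _root_.Cfsg.Agent.H865.EE.Adj i j then -1 else 0) = GM i j := by decide
  rw [h, e]

theorem bf_lc {x y : List ℤ} (hx : x.length = 4) (hy : y.length = 4) : bf (lc b x) (lc b y) = d4 x y := by
  obtain ⟨x0, x1, x2, x3, rfl⟩ := four_of_length hx
  obtain ⟨y0, y1, y2, y3, rfl⟩ := four_of_length hy
  simp only [lc_cons, bf_add_left, bf_add_right, bf_smul_left, bf_smul_right, gram hb, d4, GM, Matrix.cons_val_zero,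
    Matrix.cons_val_one, Matrix.cons_val]
  ring

theorem bf_lc_w8 {x : List ℤ} (hx : x.length = 4) (i : Fin 4) : bf (lc b x) (act w8 (b i)) = 0 := by
  obtain ⟨x0, x1, x2, x3, rfl⟩ := four_of_length hx
  simp only [lc_cons, bf_add_left, bf_smul_left, hb.orth, mul_zero, add_zero]

theorem act_rr_lc (i : Fin 4) {x : List ℤ} (hx : x.length = 4) : act (rr (b i)) (lc b x) = lc b (s4 i x) := by
  have h := bf_lc hb hx (y := e4 i) (by simp [e4])
  rw [lc_e4] at h
  rw [act_rr (hb.root i), bf_lc_w8 hb hx, zero_smul, sub_zero, h]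
  obtain ⟨x0, x1, x2, x3, rfl⟩ := four_of_length hx
  have e0 : e4 0 = [1, 0, 0, 0] := by decide
  have e1 : e4 1 = [0, 1, 0, 0] := by decide
  have e2 : e4 2 = [0, 0, 1, 0] := by decide
  have e3 : e4 3 = [0, 0, 0, 1] := by decide
  match i with
  | 0 =>
    rw [e0, lc_cons]
    show _ = lc b [x1 - x0, x1, x2, x3]
    rw [lc_cons, d4]
    module
  | 1 =>
    rw [e1, lc_cons]
    show _ = lc b [x0, x0 + x2 + x3 - x1, x2, x3]
    rw [lc_cons, d4]
    module
  | 2 =>
    rw [e2, lc_cons]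
    show _ = lc b [x0, x1, x1 - x2, x3]
    rw [lc_cons, d4]
    module
  | 3 =>
    rw [e3, lc_cons]
    show _ = lc b [x0, x1, x2, x1 - x3]
    rw [lc_cons, d4]
    module

end

theorem length_s4 (i : Fin 4) {x : List ℤ} (hx : x.length = 4) : (s4 i x).length = 4 := by
  obtain ⟨x0, x1, x2, x3, rfl⟩ := four_of_length hx
  fin_cases i <;> rfl

theorem length_ap4 (w : List (Fin 4)) {x : List ℤ} (hx : x.length = 4) : (ap4 w x).length = 4 := by
  induction w generalizing x with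
  | nil => exact hx
  | cons i w ih => exact ih (length_s4 i hx)

/-- the group generated by the `rr (b i)` -/
noncomputable def RB (b : Fin 4 → Fin 8 → ℤ) : Subgroup W8 := Subgroup.closure (Set.range fun i => rr (b i))

theorem RB_le {b : Fin 4 → Fin 8 → ℤ} (hb : Quad b) : RB b ≤ CW := by
  rw [RB, Subgroup.closure_le]
  rintro _ ⟨i, rfl⟩
  exact rr_mem_CW (hb.root i)

theorem exists_word4 {b : Fin 4 → Fin 8 → ℤ} (hb : Quad b) (w : List (Fin 4)) :
    ∃ u ∈ RB b, ∀ x : List ℤ, x.length = 4 → act u (lc b x) = lc b (ap4 w x) := by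
  induction w with
  | nil => exact ⟨1, one_mem _, fun x _ => act_one _⟩
  | cons i w ih =>
    obtain ⟨u, hu, h⟩ := ih
    refine ⟨u * rr (b i), mul_mem hu (Subgroup.subset_closure ⟨i, rfl⟩), fun x hx => ?_⟩
    rw [act_mul, act_rr_lc hb i hx, h _ (length_s4 i hx)]
    rfl

/-- coordinates of the elements of `Ph b` -/
theorem exists_coord {b : Fin 4 → Fin 8 → ℤ} {a : Fin 8 → ℤ} (ha : a ∈ Ph b) :
    ∃ x : List ℤ, x.length = 4 ∧ a = lc b x := by
  obtain ⟨-, c, hc⟩ := ha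
  refine ⟨[c 0, c 1, c 2, c 3], rfl, ?_⟩
  rw [hc, Fin.sum_univ_four, lc_cons]

/-- **The Weyl group of `D₄` on its bases.** -/
theorem exists_rb {b : Fin 4 → Fin 8 → ℤ} (hb : Quad b) {c : Fin 4 → Fin 8 → ℤ} (hc : ∀ i, c i ∈ Ph b)
    (hg : ∀ i j, bf (c i) (c j) = GM i j) : ∃ u ∈ RB b, ∃ t : Fin 6, ∀ i, act u (c i) = b (pm t i) := by
  choose x hx hcx using fun i => exists_coord (hc i)
  have hd : ∀ i j, d4 (x i) (x j) = GM i j := fun i j => by rw [← bf_lc hb (hx i) (hx j), ← hcx, ← hcx, hg]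
  -- the first step
  obtain ⟨r, hr, hr1⟩ := mem_t1 (hx 1) (by rw [hd]; rfl)
  have h1 := of_decide_eq_true (List.all_eq_true.1 chk1 r hr)
  rw [hr1] at h1
  obtain ⟨u1, hu1, hw1⟩ := exists_word4 hb r.2
  -- the new coordinates
  have tr : ∀ (w : List (Fin 4)) (y : Fin 4 → List ℤ), (∀ i, (y i).length = 4) → (∀ i j, d4 (y i) (y j) = GM i j) →
      ∀ i j, d4 (ap4 w (y i)) (ap4 w (y j)) = GM i j := by
    intro w y hy hyy i j
    obtain ⟨u, -, hw⟩ := exists_word4 hb w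
    rw [← bf_lc hb (length_ap4 w (hy i)) (length_ap4 w (hy j)), ← hw _ (hy i), ← hw _ (hy j), bf_act,
      bf_lc hb (hy i) (hy j), hyy]
  have hd1 := tr r.2 x hx hd
  have hx1 : ∀ i, (ap4 r.2 (x i)).length = 4 := fun i => length_ap4 _ (hx i)
  generalize hyx : (fun i => ap4 r.2 (x i)) = y at *
  have hy : ∀ i, ap4 r.2 (x i) = y i := fun i => congrFun hyx i
  simp only [hy] at hd1 hx1 h1
  -- the second step
  obtain ⟨r', hr', hr1'⟩ := mem_t1 (hx1 0) (by rw [hd1]; rfl)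
  have h2 := List.all_eq_true.1 chk2a r' hr'
  rw [Bool.or_eq_true, decide_eq_true_eq, hr1', ← h1, hd1] at h2
  obtain ⟨s, hs, hs1⟩ := List.any_eq_true.1 (h2.resolve_left (fun h => h (by rfl)))
  have h3 := List.all_eq_true.1 chk2 s hs
  rw [of_decide_eq_true hs1, Bool.and_eq_true, decide_eq_true_eq, decide_eq_true_eq, ← h1] at h3
  obtain ⟨u2, hu2, hw2⟩ := exists_word4 hb s.2
  have hd2 := tr s.2 y hx1 hd1
  have hx2 : ∀ i, (ap4 s.2 (y i)).length = 4 := fun i => length_ap4 _ (hx1 i)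
  generalize hzy : (fun i => ap4 s.2 (y i)) = z at *
  have hz : ∀ i, ap4 s.2 (y i) = z i := fun i => congrFun hzy i
  simp only [hz] at hd2 hx2 h3
  have z1 : z 1 = e4 1 := h3.1.trans h1
  have z0 : z 0 = e4 0 := h3.2
  -- the third step
  obtain ⟨p, hp, hp1⟩ := mem_t1 (hx2 2) (by rw [hd2]; rfl)
  obtain ⟨p', hp', hp1'⟩ := mem_t1 (hx2 3) (by rw [hd2]; rfl)
  have h4 := List.all_eq_true.1 chk3a p hp
  rw [Bool.or_eq_true, decide_eq_true_eq, Bool.or_eq_true, decide_eq_true_eq, hp1, ← z1, ← z0, hd2, hd2] at h4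
  have h5 := List.all_eq_true.1 ((h4.resolve_left (fun h => h (by rfl))).resolve_left (fun h => h (by rfl))) p' hp'
  rw [Bool.or_eq_true, decide_eq_true_eq, Bool.or_eq_true, decide_eq_true_eq, Bool.or_eq_true, decide_eq_true_eq,
    hp1', hd2, hd2, hd2] at h5
  obtain ⟨m, hm, hm1⟩ := List.any_eq_true.1 (((h5.resolve_left (fun h => h (by rfl))).resolve_left
    (fun h => h (by rfl))).resolve_left (fun h => h (by rfl)))
  rw [Bool.and_eq_true, decide_eq_true_eq, decide_eq_true_eq] at hm1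
  have h6 := of_decide_eq_true (List.all_eq_true.1 chk3 m hm)
  rw [hm1.1, hm1.2, ← z0, ← z1] at h6
  obtain ⟨u3, hu3, hw3⟩ := exists_word4 hb m.2.2.2
  refine ⟨u3 * u2 * u1, mul_mem (mul_mem hu3 hu2) hu1, m.2.2.1, fun i => ?_⟩
  rw [act_mul, act_mul, hcx, hw1 _ (hx i), hy, hw2 _ (hx1 i), hz, hw3 _ (hx2 i), ← lc_e4 b (pm m.2.2.1 i)]
  congr 1
  match i with
  | 0 => exact congrArg (fun l => l.getD 0 []) h6
  | 1 => exact congrArg (fun l => l.getD 1 []) h6
  | 2 => exact congrArg (fun l => l.getD 2 []) h6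
  | 3 => exact congrArg (fun l => l.getD 3 []) h6

end Cfsg.Agent.H136.EE
end

-- part: H865/EE/OData
section
/-!
# Explicit elements of `Ω₈⁺(4)` (helper865, S3384)

`ω ∈ F`, `ω² = ω + 1`. Matrices with entries `0, 1, ω, ω + 1` (codes 0, 1, 2, 3) on the basis
`x_1, .., x_4 (inl), y_1, .., y_4 (inr)` of the form `∑ x_i y_i`.
-/

set_option autoImplicit false

namespace Cfsg.Agent.H865.EE.OD

/-- the element with a given code -/
def val {F : Type*} [Field F] (ω : F) : ℕ → F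
  | 0 => 0
  | 1 => 1
  | 2 => ω
  | _ => ω + 1

/-- the position of an index -/
def ix : Fin 4 ⊕ Fin 4 → ℕ
  | .inl i => i
  | .inr i => 4 + i

/-- the matrix with a given (row-major) list of 64 codes -/
def mat {F : Type*} [Field F] (ω : F) (c : List ℕ) : Matrix (Fin 4 ⊕ Fin 4) (Fin 4 ⊕ Fin 4) F :=
  Matrix.of fun i j => val ω (c.getD (8 * ix i + ix j) 0)

/-- codes of the involutions `a_i` -/
def cA : Fin 4 → List ℕ := ![
  [1, 0, 0, 0, 0, 0, 0, 0, 1, 1, 0, 0, 0, 0, 0, 0, 0, 0, 1, 0, 0, 0, 0, 0, 0, 0, 0, 1, 0, 0, 0, 0, 0, 0, 0, 0, 1, 1, 0, 0, 0, 0, 0, 0, 0, 1, 0, 0, 0, 0, 0, 0, 0, 0, 1, 0, 0, 0, 0, 0, 0, 0, 0, 1],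
  [1, 2, 3, 1, 0, 2, 3, 1, 3, 2, 3, 3, 2, 0, 1, 3, 1, 0, 2, 2, 3, 1, 0, 2, 2, 1, 3, 1, 1, 3, 2, 0, 0, 3, 1, 2, 1, 3, 1, 2, 3, 0, 2, 1, 2, 2, 0, 1, 1, 2, 0, 3, 3, 3, 2, 3, 2, 1, 3, 0, 1, 3, 2, 1],
  [1, 0, 0, 0, 0, 0, 0, 0, 0, 1, 0, 0, 0, 0, 0, 0, 0, 0, 1, 0, 0, 0, 0, 0, 0, 0, 1, 1, 0, 0, 0, 0, 0, 0, 0, 0, 1, 0, 0, 0, 0, 0, 0, 0, 0, 1, 0, 0, 0, 0, 0, 0, 0, 0, 1, 1, 0, 0, 0, 0, 0, 0, 0, 1],
  [1, 0, 0, 0, 0, 0, 0, 0, 0, 1, 0, 0, 0, 0, 0, 0, 0, 0, 1, 0, 0, 0, 0, 0, 0, 0, 0, 1, 0, 0, 0, 0, 0, 0, 0, 0, 1, 0, 0, 0, 0, 0, 0, 0, 0, 1, 0, 0, 0, 0, 0, 1, 0, 0, 1, 0, 0, 0, 1, 0, 0, 0, 0, 1]]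

/-- codes of the elements `b_i` of order 3 -/
def cB : Fin 4 → List ℕ := ![
  [0, 2, 0, 0, 0, 0, 0, 0, 3, 1, 0, 0, 0, 0, 0, 0, 0, 0, 1, 0, 0, 0, 0, 0, 0, 0, 0, 1, 0, 0, 0, 0, 0, 0, 0, 0, 1, 3, 0, 0, 0, 0, 0, 0, 2, 0, 0, 0, 0, 0, 0, 0, 0, 0, 1, 0, 0, 0, 0, 0, 0, 0, 0, 1],
  [2, 3, 1, 1, 2, 0, 2, 1, 1, 3, 0, 1, 3, 3, 1, 1, 3, 2, 2, 0, 2, 1, 2, 0, 2, 3, 0, 2, 1, 1, 3, 3, 1, 1, 2, 2, 2, 0, 3, 2, 0, 3, 2, 3, 0, 2, 2, 3, 2, 2, 1, 1, 1, 0, 3, 1, 2, 3, 0, 3, 1, 1, 3, 2],
  [1, 0, 0, 0, 0, 0, 0, 0, 0, 1, 0, 0, 0, 0, 0, 0, 0, 0, 0, 2, 0, 0, 0, 0, 0, 0, 3, 1, 0, 0, 0, 0, 0, 0, 0, 0, 1, 0, 0, 0, 0, 0, 0, 0, 0, 1, 0, 0, 0, 0, 0, 0, 0, 0, 1, 3, 0, 0, 0, 0, 0, 0, 2, 0],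
  [1, 0, 0, 0, 0, 0, 0, 0, 0, 1, 0, 0, 0, 0, 0, 0, 0, 0, 0, 0, 0, 0, 0, 2, 0, 0, 0, 0, 0, 0, 2, 0, 0, 0, 0, 0, 1, 0, 0, 0, 0, 0, 0, 0, 0, 1, 0, 0, 0, 0, 0, 3, 0, 0, 1, 0, 0, 0, 3, 0, 0, 0, 0, 1]]

end Cfsg.Agent.H865.EE.OD
end

-- part: H986/EqD/OdVal
section
/-! one shared copy of an on-demand lemma (helper986) -/

set_option autoImplicit false

namespace Cfsg.Agent.H986.EqD.OdVal

end Cfsg.Agent.H986.EqD.OdVal
end

private theorem dce_0eb09a40fb66 : _root_.True := by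
  try have : _root_.True := by simp only [_root_.Cfsg.Agent.H865.EE.OD.val.eq_3]
  try have : _root_.True := by simp only [_root_.Cfsg.Agent.H136.EE.e4.eq_1]
  try have : _root_.True := by simp only [_root_.Cfsg.Agent.H136.EE.d4._sparseCasesOn_2.else_eq]
  try have : _root_.True := by simp only [_root_.Cfsg.Agent.H865.EE.OD.val.eq_4]
  try have : _root_.True := by simp only [_root_.Cfsg.Agent.H136.EE.Mb.eq_1]
  try have : _root_.True := by simp only [_root_.Cfsg.Agent.H136.EE.lc.eq_1]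
  try have : _root_.True := by simp only [_root_.Cfsg.Agent.H865.EE.OD.val.eq_2]
  try have : _root_.True := by simp only [_root_.Cfsg.Agent.H136.EE.d4._sparseCasesOn_1.else_eq]
  try have : _root_.True := by simp only [_root_.Cfsg.Agent.H136.EE.GM.eq_1]
  try have : _root_.True := by simp only [_root_.Cfsg.Agent.H136.EE.RB.eq_1]
  try have : _root_.True := by simp only [_root_.Cfsg.Agent.H865.EE.OD.val.eq_1]
  try have : _root_.True := by simp only [_root_.Cfsg.Agent.H136.EE.cmb.eq_1]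
  try have : _root_.True := by simp only [_root_.Cfsg.Agent.H136.EE.d4.eq_2]
  try have : _root_.True := by simp only [_root_.Cfsg.Agent.H136.EE.d4.eq_1]
  exact _root_.True.intro
end

-- part: H136/EE/Idx_mg
section
prune_inst 0x7f411100540544010000000001070000606120000000000000008a0010205c84e00050200200c0000000a0a800c0031004000180020400000000a0004000118008088804000a2080000260007000080400000000000000000000000000000000004000000000
set_option linter.all false
open scoped Cfsg.Agent.FastGrp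

namespace Cfsg.Agent.H90F

private noncomputable def frc {α : Type} (x : ℕ) (f : ℕ → α) : α := Nat.rec (f 0) (fun k _ => f (Nat.succ k)) x

private theorem frc_eq {α : Type} (x : ℕ) (f : ℕ → α) : frc x f = f x := by cases x <;> rfl

private noncomputable def nth {α : Type} (d : α) (l : List α) : ℕ → α :=
  List.rec (fun _ => d) (fun a _ ih n => Nat.rec a (fun k _ => ih k) n) l

private theorem nth_eq {α : Type} (d : α) (l : List α) (n : ℕ) : nth d l n = l.getD n d := by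
  induction l generalizing n with
  | nil => rfl
  | cons a l ih => cases n with
    | zero => rfl
    | succ k => exact ih k

private noncomputable def fld {α : Type} (l : List α) (n : ℕ) (d : α) : α := frc n (nth d l)

private theorem ld_eq {α : Type} (l : List α) (n : ℕ) (d : α) : l.getD n d = fld l n d := by
  rw [fld, frc_eq, nth_eq]

private theorem ld_fun : @List.getD.{0} = @fld := by
  funext α a n d; exact ld_eq a n d

private noncomputable def fal {α : Type} (l : List α) (p : α → Bool) : Bool :=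
  List.rec true (fun a _ ih => Bool.rec false ih (p a)) l

private theorem al_fun : @List.all.{0} = @fal := by
  funext α l p
  induction l with
  | nil => rfl
  | cons a l ih => rw [List.all_cons, ih]; show _ = (Bool.rec false (fal l p) (p a) : Bool); cases p a <;> rfl

private theorem a1_fun : @HAdd.hAdd ℕ ℕ ℕ _ = Nat.add := rfl

private theorem a2_fun : @HMul.hMul ℕ ℕ ℕ _ = Nat.mul := rfl

private theorem a4_fun : @HDiv.hDiv ℕ ℕ ℕ _ = Nat.div := rfl

private theorem a5_fun : @HMod.hMod ℕ ℕ ℕ _ = Nat.mod := rfl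

private theorem a6_fun : @HPow.hPow ℕ ℕ ℕ _ = Nat.pow := rfl

private theorem b2_fun : @HXor.hXor ℕ ℕ ℕ _ = Nat.xor := rfl

end Cfsg.Agent.H90F

-- part: H136/EE/Idx
section
/-!
# The index of `RB q` in the stabiliser of `SS q` (helper136, S3384, piece C3)
-/

set_option autoImplicit false
set_option linter.unusedSectionVars false

namespace Cfsg.Agent.H136.EE

open CoxeterSystem Subgroup Cfsg Cfsg.Lie Cfsg.Lie.ChevalleyDatum
open Cfsg.Agent.ChevalleyStructure Cfsg.Agent.ChevalleyStructure.Elts Cfsg.Agent.ChevalleyStructure.CoxeterGeom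
  Cfsg.Agent.ChevalleyStructure.CoxeterGeomTypes Cfsg.Agent.ChevalleyStructure.NPerm
open Cfsg.Agent.Tits.Roots Cfsg.Agent.Tits.Core Cfsg.Agent.Nodes Cfsg.Agent.Nodes.SubComb Cfsg.Agent.Nodes.Reps Cfsg.Agent.Nodes.BNOf
  Cfsg.Agent.Nodes.RGDChev Cfsg.Agent.Nodes.Bruhat Cfsg.Agent.Nodes.Coroot
open Cfsg.Agent.H865.EE

/-- the stabiliser of `SS b` -/
noncomputable def SB (b : Fin 4 → Fin 8 → ℤ) : Subgroup W8 where
  carrier := {v | v ∈ CW ∧ ∀ x, x ∈ SS b ↔ act v x ∈ SS b}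
  one_mem' := ⟨one_mem _, fun x => by rw [act_one]⟩
  mul_mem' := fun {u v} hu hv => ⟨mul_mem hu.1 hv.1, fun x => by rw [act_mul, ← hu.2, ← hv.2]⟩
  inv_mem' := fun {v} hv => ⟨inv_mem hv.1, fun x => by
    rw [hv.2 (act v⁻¹ x), show act v (act v⁻¹ x) = x from rep_apply_inv _ _ _ _]⟩

theorem w8_mem_CW : w8 ∈ CW := mem_CW.2 fun _ => rfl

theorem CW_comm {v : W8} (hv : v ∈ CW) : v * w8 = w8 * v := Subgroup.mem_centralizer_singleton_iff.1 hv

theorem rr_rr {d : Fin 8 → ℤ} (hd : Rt d) (x : Fin 8 → ℤ) : act (rr d) (act (rr d) x) = x := by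
  have e1 : bf (act w8 d) d = 0 := by rw [bf_comm, bf_w8_self]
  rw [act_rr hd (act (rr d) x), act_rr hd x, bf_sub_left, bf_sub_left, bf_smul_left, bf_smul_left, bf_sub_left,
    bf_sub_left, bf_smul_left, bf_smul_left, bf_self hd, e1, bf_w8_self, bf_self (rt_act w8 hd)]
  module

section
variable {b : Fin 4 → Fin 8 → ℤ} (hb : Quad b)
include hb

theorem rr_Ph (i : Fin 4) {a : Fin 8 → ℤ} (ha : a ∈ Ph b) : act (rr (b i)) a ∈ Ph b := by
  obtain ⟨x, hx, rfl⟩ := exists_coord ha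
  refine ⟨rt_act _ ha.1, ?_⟩
  rw [act_rr_lc hb i hx]
  have hl := length_s4 i hx
  generalize s4 i x = y at hl
  obtain ⟨y0, y1, y2, y3, rfl⟩ := four_of_length hl
  refine ⟨![y0, y1, y2, y3], ?_⟩
  rw [lc_cons, Fin.sum_univ_four]
  rfl

theorem rb_Ph {u : W8} (hu : u ∈ RB b) (a : Fin 8 → ℤ) : act u a ∈ Ph b ↔ a ∈ Ph b := by
  rw [RB] at hu
  induction hu using Subgroup.closure_induction generalizing a with
  | mem u hu =>
    obtain ⟨i, rfl⟩ := hu
    refine ⟨fun h => ?_, rr_Ph hb i⟩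
    have := rr_Ph hb i h
    rwa [rr_rr (hb.root i)] at this
  | one => rw [act_one]
  | mul u v _ _ hu hv => rw [act_mul, hu, hv]
  | inv u _ hu => rw [← hu (act u⁻¹ a), act_inv_act]

theorem bf_Ph_w8 {a a' : Fin 8 → ℤ} (ha : a ∈ Ph b) (ha' : a' ∈ Ph b) : bf a (act w8 a') = 0 := by
  obtain ⟨x, hx, rfl⟩ := exists_coord ha
  obtain ⟨y, hy, rfl⟩ := exists_coord ha'
  obtain ⟨y0, y1, y2, y3, rfl⟩ := four_of_length hy
  rw [lc_cons, map_add, map_add, map_add, map_smul, map_smul, map_smul, map_smul, bf_add_right, bf_add_right,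
    bf_add_right, bf_smul_right, bf_smul_right, bf_smul_right, bf_smul_right, bf_lc_w8 hb hx, bf_lc_w8 hb hx,
    bf_lc_w8 hb hx, bf_lc_w8 hb hx]
  simp

theorem w8_mem_SB : w8 ∈ SB b := by
  have key : ∀ x, x ∈ SS b → act w8 x ∈ SS b := by
    intro x hx
    rcases mem_SS.1 hx with h | ⟨y, hy, h⟩
    · exact mem_SS.2 (Or.inr ⟨x, h, rfl⟩)
    · refine mem_SS.2 (Or.inl ?_)
      rw [h, w8_sq]
      obtain ⟨hy1, c, hc⟩ := hy
      refine ⟨?_, fun i => - c i, ?_⟩
      · have := rt_act w8 (rt_act w8 hy1)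
        rwa [w8_sq] at this
      · rw [hc, ← Finset.sum_neg_distrib]
        exact Finset.sum_congr rfl fun i _ => (neg_smul _ _).symm
  refine ⟨w8_mem_CW, fun x => ⟨key x, fun h => ?_⟩⟩
  have h1 := key _ (key _ (key _ h))
  rwa [w8_sq, w8_sq, neg_neg] at h1

/-- an element of `SB b` is, up to `w8`, in `RB b` times a permutation of the ends -/
theorem exists_dec {v : W8} (hv : v ∈ SB b) : ∃ (e : Bool) (u : W8) (t : Fin 6), u ∈ RB b ∧
    ∀ i, act (u * ((if e then w8 else 1) * v)) (b i) = b (pm t i) := by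
  -- a first version
  have key : ∀ v ∈ SB b, act v (b 1) ∈ Ph b → ∃ (u : W8) (t : Fin 6), u ∈ RB b ∧ ∀ i, act (u * v) (b i) = b (pm t i) := by
    intro v hv h1
    have hall : ∀ i, act v (b i) ∈ Ph b := by
      intro i
      have h2 : act v (b i) ∈ SS b := (hv.2 _).1 (mem_SS.2 (Or.inl (mem_Ph_self hb.root i)))
      rcases mem_SS.1 h2 with h | ⟨y, hy, h⟩
      · exact h
      · exfalso
        have h3 := bf_Ph_w8 hb h1 hy
        rw [← h, bf_act] at h3
        rw [gram hb] at h3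
        have h4 : ∀ i : Fin 4, GM 1 i ≠ 0 := by decide
        exact h4 i h3
    obtain ⟨u, hu, t, ht⟩ := exists_rb hb hall fun i j => by rw [bf_act, gram hb]
    exact ⟨u, t, hu, fun i => by rw [act_mul, ht]⟩
  have h2 : act v (b 1) ∈ SS b := (hv.2 _).1 (mem_SS.2 (Or.inl (mem_Ph_self hb.root 1)))
  rcases mem_SS.1 h2 with h | ⟨y, hy, h⟩
  · obtain ⟨u, t, hu, ht⟩ := key v hv h
    exact ⟨false, u, t, hu, fun i => by rw [← ht i]; simp⟩
  · obtain ⟨u, t, hu, ht⟩ := key (w8 * v) (mul_mem (w8_mem_SB hb) hv) (by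
      rw [act_mul, h, w8_sq]
      obtain ⟨hy1, c, hc⟩ := hy
      refine ⟨?_, fun i => - c i, ?_⟩
      · have := rt_act w8 (rt_act w8 hy1)
        rwa [w8_sq] at this
      · rw [hc, ← Finset.sum_neg_distrib]
        exact Finset.sum_congr rfl fun i _ => (neg_smul _ _).symm)
    exact ⟨true, u, t, hu, fun i => by rw [← ht i]; simp only [↓ _root_.reduceIte, _root_.map_mul, _root_.Module.End.mul_apply]⟩

end

/-! ### Elements of `CW` are determined by the images of `qq k` -/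

/-- `2 e_j` in terms of `qq k i` -/
def T1 : Bool → Fin 8 → Fin 4 → ℤ
  | false => ![![-1, -2, -1, -2], ![0, 0, 1, 1], ![0, 0, 1, 1], ![0, 2, 0, 0], ![0, -2, -1, -1], ![0, 0, 0, 0],
    ![0, 0, 0, 0], ![0, 0, -1, 1]]
  | true => ![![0, 0, 0, 0], ![-1, -2, 0, -1], ![0, 0, 1, 1], ![0, 2, 0, 0], ![1, 0, 0, 1], ![-1, -2, -1, -2],
    ![0, 0, 0, 0], ![0, 0, -1, 1]]

/-- `2 e_j` in terms of `w8 (qq k i)` -/
def T2 : Bool → Fin 8 → Fin 4 → ℤ
  | false => ![![1, 2, 1, 0], ![0, 0, 1, -1], ![0, 0, -1, 1], ![0, 0, 0, 0], ![0, 0, 1, 1], ![-2, -2, -2, -2],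
    ![2, 0, 0, 0], ![0, 2, 1, 1]]
  | true => ![![2, 4, 2, 2], ![0, 0, 1, -1], ![-1, -2, -2, -1], ![0, 0, 0, 0], ![0, 0, 1, 1], ![-1, 0, -1, 0],
    ![2, 0, 0, 0], ![-1, 0, 0, -1]]

theorem chkT : ∀ (k : Bool) (j m : Fin 8), (if m = j then (2 : ℤ) else 0) = cmb k 0 (T1 k j) (T2 k j) m := by
  decide +kernel

theorem pm_zero (i : Fin 4) : pm 0 i = i := by revert i; decide

theorem two_sr (k : Bool) (j : Fin 8) : (2 : ℤ) • (sr j : Fin 8 → ℤ) =
    ∑ i, T1 k j i • qq k i + ∑ i, T2 k j i • act w8 (qq k i) := by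
  have h := cmb_eq k 0 (T1 k j) (T2 k j)
  simp only [pm_zero] at h
  rw [h]
  funext m
  rw [← chkT, Pi.smul_apply, sr_apply, smul_eq_mul]
  split_ifs <;> rfl

theorem two_act_sr (k : Bool) (j : Fin 8) {t : Fin 6} {g : W8} (hg : g ∈ CW) (h : ∀ i, act g (qq k i) = qq k (pm t i)) :
    (2 : ℤ) • act g (sr j) = cmb k t (T1 k j) (T2 k j) := by
  rw [← map_smul, two_sr k j, map_add, map_sum, map_sum, ← cmb_eq]
  simp only [map_smul, mem_CW.1 hg, h]

theorem cw_ext {k : Bool} {g h : W8} (hg : g ∈ CW) (hh : h ∈ CW) (e : ∀ i, act g (qq k i) = act h (qq k i)) :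
    g = h := by
  refine act_ext fun x => ?_
  rw [eq_sum_sr x, map_sum, map_sum]
  refine Finset.sum_congr rfl fun j _ => ?_
  rw [map_smul, map_smul]
  congr 1
  have h2 : (2 : ℤ) • act g (sr j) = (2 : ℤ) • act h (sr j) := by
    rw [← map_smul, ← map_smul, two_sr k j, map_add, map_sum, map_sum, map_add, map_sum, map_sum]
    simp only [map_smul, mem_CW.1 hg, mem_CW.1 hh, e]
  funext m
  have h3 := congrFun h2 m
  simp only [Pi.smul_apply, smul_eq_mul] at h3
  omega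

/-! ### The allowed permutations -/

/-- the permutations of the ends which extend -/
def al : Bool → Fin 6 → Bool
  | false, _ => true
  | true, t => decide (t = 0) || decide (t = 2)

/-- words for the permutations of the ends -/
def sw : Bool → Fin 6 → List ℕ
  | false => ![[], [146], [204], [220, 146], [220, 204], [220]]
  | true => ![[], [], [204], [], [], []]

theorem chkS : ∀ (k : Bool) (t : Fin 6), al k t = true → (((sw k t).all fun d => decide (d < 240)) = true ∧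
    ∀ i : Fin 4, apR (sw k t) ((qL k).getD i []) = (qL k).getD (pm t i) []) := by decide +kernel

theorem exists_s {k : Bool} {t : Fin 6} (h : al k t = true) : ∃ v ∈ RR, ∀ i, act v (qq k i) = qq k (pm t i) := by
  obtain ⟨h1, h2⟩ := chkS k t h
  obtain ⟨v, hv, hw⟩ := exists_word h1
  exact ⟨v, hv, fun i => toL_inj (by rw [hw, toL_qq, toL_qq, h2])⟩

theorem chkP : ∀ t : Fin 6, al true t = false → ∃ j m : Fin 8, cmb true t (T1 true j) (T2 true j) m % 2 = 1 := by
  decide +kernel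

theorem al_of {k : Bool} {t : Fin 6} {g : W8} (hg : g ∈ CW) (h : ∀ i, act g (qq k i) = qq k (pm t i)) :
    al k t = true := by
  cases k
  · rfl
  · by_contra hc
    obtain ⟨j, m, hm⟩ := chkP t (by simpa using hc)
    rw [← two_act_sr true j hg h, Pi.smul_apply, smul_eq_mul] at hm
    omega

/-! ### `qq k` is a system -/

theorem chkQ : ∀ (k : Bool) (i j : Fin 4), (i ≠ j → bL ((qL k).getD i []) ((qL k).getD j []) = if _root_.Cfsg.Agent.H865.EE.Adj i j then -1 else 0) ∧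
    bL ((qL k).getD i []) (JL ((qL k).getD j [])) = 0 := by decide +kernel

theorem quad_qq (k : Bool) : Quad (qq k) where
  root := rt_qq k
  ad i j h := by rw [bf_eq, toL_qq, toL_qq]; exact (chkQ k i j).1 h
  orth i j := by rw [bf_eq, toL_w8, toL_qq, toL_qq]; exact (chkQ k i j).2

theorem quad_q1 : Quad q1 := quad_qq false

theorem quad_q2 : Quad q2 := quad_qq true

/-! ### The cosets -/

theorem act_inj {v : W8} {x y : Fin 8 → ℤ} (h : act v x = act v y) : x = y := by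
  have h1 := congrArg (act v⁻¹) h
  rwa [← act_mul, ← act_mul, inv_mul_cancel, act_one, act_one] at h1

theorem mem_SB_of {b : Fin 4 → Fin 8 → ℤ} {v : W8} (hv : v ∈ CW) {t : Fin 6} (h : ∀ i, act v (b i) = b (pm t i)) :
    v ∈ SB b := by
  have h1 : act v '' SS b = SS b := by rw [image_SS hv, SS_perm (pm_bij t) h]
  refine ⟨hv, fun x => ⟨fun hx => h1 ▸ ⟨x, hx, rfl⟩, fun hx => ?_⟩⟩
  rw [← h1] at hx
  obtain ⟨y, hy, hxy⟩ := hx
  rwa [← act_inj hxy]

/-- the index set -/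
abbrev Ix (k : Bool) : Type := {p : Bool × Fin 6 // al k p.2 = true}

theorem card_Ix_false : Nat.card (Ix false) = 12 := by
  rw [Nat.card_eq_fintype_card]
  decide

theorem card_Ix_true : Nat.card (Ix true) = 4 := by
  rw [Nat.card_eq_fintype_card]
  decide

/-- `w8` or `1` -/
noncomputable def ee (e : Bool) : W8 := if e then w8 else 1

theorem ee_true : ee true = w8 := if_pos rfl

theorem ee_false : ee false = 1 := if_neg Bool.false_ne_true

theorem ee_mem (e : Bool) : ee e ∈ CW := by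
  cases e
  · rw [ee_false]
    exact one_mem _
  · rw [ee_true]
    exact w8_mem_CW

theorem ee_comm {v : W8} (hv : v ∈ CW) (e : Bool) : v * ee e = ee e * v := by
  cases e
  · rw [ee_false, mul_one, one_mul]
  · rw [ee_true]
    exact CW_comm hv

theorem ee_mem_SB (k : Bool) (e : Bool) : ee e ∈ SB (qq k) := by
  cases e
  · rw [ee_false]
    exact one_mem _
  · rw [ee_true]
    exact w8_mem_SB (quad_qq k)

/-- the elements realising the permutations of the ends -/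
noncomputable def ss (k : Bool) (t : {t : Fin 6 // al k t = true}) : W8 := (exists_s t.2).choose

theorem ss_mem (k : Bool) (t : {t : Fin 6 // al k t = true}) : ss k t ∈ CW := RR_le (exists_s t.2).choose_spec.1

theorem act_ss (k : Bool) (t : {t : Fin 6 // al k t = true}) (i : Fin 4) : act (ss k t) (qq k i) = qq k (pm t.1 i) :=
  (exists_s t.2).choose_spec.2 i

/-- the representatives -/
noncomputable def rep8 (k : Bool) (p : Ix k) : W8 := (ss k ⟨p.1.2, p.2⟩)⁻¹ * ee p.1.1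

theorem rep8_mem (k : Bool) (p : Ix k) : rep8 k p ∈ SB (qq k) :=
  mul_mem (inv_mem (mem_SB_of (ss_mem k _) (act_ss k _))) (ee_mem_SB k _)

theorem exists_rep8 (k : Bool) {v : W8} (hv : v ∈ SB (qq k)) : ∃ p : Ix k, (rep8 k p)⁻¹ * v ∈ RB (qq k) := by
  obtain ⟨e, u, t, hu, ht⟩ := exists_dec (quad_qq k) (inv_mem hv)
  have hu' := RB_le (quad_qq k) hu
  have hg : u * (ee e * v⁻¹) ∈ CW := mul_mem hu' (mul_mem (ee_mem e) (inv_mem hv.1))
  have ha : al k t = true := al_of hg ht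
  have h1 : u * (ee e * v⁻¹) = ss k ⟨t, ha⟩ := cw_ext (k := k) hg (ss_mem k _) fun i => by rw [act_ss]; exact ht i
  refine ⟨⟨(e, t), ha⟩, ?_⟩
  have h2 : (rep8 k ⟨(e, t), ha⟩)⁻¹ * v = u := by
    show ((ss k ⟨t, ha⟩)⁻¹ * ee e)⁻¹ * v = u
    rw [← h1, mul_inv_rev, inv_inv]
    have h3 := ee_comm hu' e
    calc (ee e)⁻¹ * (u * (ee e * v⁻¹)) * v = (ee e)⁻¹ * (u * ee e) := by group
      _ = u := by rw [h3]; group
  rwa [h2]

/-- elements of `RB` act trivially modulo the lattice of the system -/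
theorem rb_even (k : Bool) (a : Fin 2) {u : W8} (hu : u ∈ RB (qq k)) (x : Fin 8 → ℤ) :
    2 ∣ lf (ff k a) (act u x) - lf (ff k a) x := by
  rw [RB] at hu
  induction hu using Subgroup.closure_induction generalizing x with
  | mem u hu =>
    obtain ⟨i, rfl⟩ := hu
    have h1 := ff_even k a (mem_Mb (rt_qq k) i)
    have h2 := ff_even k a (w8_mem_Mb (rt_qq k) i)
    rw [act_rr (rt_qq k i), map_sub, map_sub, map_smul, map_smul, smul_eq_mul, smul_eq_mul]
    have h3 := h1.mul_left (bf x (qq k i))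
    have h4 := h2.mul_left (bf x (act w8 (qq k i)))
    omega
  | one => rw [act_one, sub_self]; exact dvd_zero _
  | mul u v _ _ hu hv =>
    rw [act_mul]
    have h1 := hu (act v x)
    have h2 := hv x
    omega
  | inv u _ hu =>
    have h1 := hu (act u⁻¹ x)
    rw [act_inv_act] at h1
    omega

theorem chkR : ∀ (k : Bool) (t t' : Fin 6), al k t = true → al k t' = true → t ≠ t' → ∃ (a : Fin 2) (j : Fin 8),
    (∑ m, ff k a m * cmb k t (T1 k j) (T2 k j) m - ∑ m, ff k a m * cmb k t' (T1 k j) (T2 k j) m) % 4 ≠ 0 := by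
  decide +kernel

theorem rep8_inj (k : Bool) {p p' : Ix k} (h : (rep8 k p)⁻¹ * rep8 k p' ∈ RB (qq k)) : p = p' := by
  obtain ⟨⟨e, t⟩, ht⟩ := p
  obtain ⟨⟨e', t'⟩, ht'⟩ := p'
  simp only at ht ht'
  set s := ss k ⟨t, ht⟩ with hs
  set s' := ss k ⟨t', ht'⟩ with hs'
  have hsm : s ∈ CW := ss_mem k _
  have hsm' : s' ∈ CW := ss_mem k _
  have hss : s * s'⁻¹ ∈ CW := mul_mem hsm (inv_mem hsm')
  have h0 : (rep8 k ⟨(e, t), ht⟩)⁻¹ * rep8 k ⟨(e', t'), ht'⟩ = (ee e)⁻¹ * ((s * s'⁻¹) * ee e') := by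
    show ((s⁻¹ * ee e)⁻¹) * (s'⁻¹ * ee e') = _
    group
  rw [h0] at h
  have hact : ∀ i, act (s * s'⁻¹) (qq k (pm t' i)) = qq k (pm t i) := by
    intro i
    rw [act_mul, ← act_ss k ⟨t', ht'⟩ i, ← hs', ← act_mul s'⁻¹ s', inv_mul_cancel, act_one, hs, act_ss]
  have hmem : ∀ v : W8, v ∈ RB (qq k) → act v (qq k 1) ∈ Ph (qq k) := fun v hv =>
    (rb_Ph (quad_qq k) hv _).2 (mem_Ph_self (rt_qq k) 1)
  have h1 : act (s * s'⁻¹) (qq k 1) = qq k 1 := by
    have := hact 1
    rwa [pm_one, pm_one] at this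
  have hee : e = e' := by
    by_contra hne
    have h2 := hmem _ h
    rw [ee_comm hss, act_mul, act_mul, h1] at h2
    have h3 : ∃ x : Fin 8 → ℤ, (act w8 x = qq k 1 ∨ x = act w8 (qq k 1)) ∧ x ∈ Ph (qq k) := by
      refine ⟨_, ?_, h2⟩
      cases e <;> cases e'
      · exact absurd rfl hne
      · right
        rw [ee_false, ee_true, inv_one, act_one]
      · left
        rw [ee_false, ee_true, act_inv_act, act_one]
      · exact absurd rfl hne
    obtain ⟨x, hx, hxP⟩ := h3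
    have hq : qq k 1 ∈ Ph (qq k) := mem_Ph_self (rt_qq k) 1
    rcases hx with hx | hx
    · have h4 := bf_Ph_w8 (quad_qq k) hq hxP
      rw [hx, bf_self (rt_qq k 1)] at h4
      omega
    · have h4 := bf_Ph_w8 (quad_qq k) hxP hq
      rw [hx, bf_act, bf_self (rt_qq k 1)] at h4
      omega
  subst hee
  rw [ee_comm hss, inv_mul_cancel_left] at h
  have htt : t = t' := by
    by_contra hne
    obtain ⟨a, j, haj⟩ := chkR k t t' ht ht' hne
    apply haj
    have e1 := two_act_sr k j hsm (act_ss k ⟨t, ht⟩)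
    have e2 := two_act_sr k j hsm' (act_ss k ⟨t', ht'⟩)
    rw [← lf_apply, ← lf_apply, ← e1, ← e2, map_smul, map_smul, smul_eq_mul, smul_eq_mul]
    have h5 := rb_even k a h (act s' (sr j))
    rw [← act_mul, inv_mul_cancel_right] at h5
    (clear * - ht' h5; omega)
  subst htt
  rfl

/-- **C3.** -/
theorem relIndex_eq (k : Bool) : (RB (qq k)).relIndex (SB (qq k)) = Nat.card (Ix k) := by
  let f : Ix k → ↥(SB (qq k)) ⧸ (RB (qq k)).subgroupOf (SB (qq k)) := fun p =>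
    QuotientGroup.mk ⟨rep8 k p, rep8_mem k p⟩
  have hf : Function.Bijective f := by
    constructor
    · intro p p' h
      have h1 := QuotientGroup.eq.1 h
      rw [Subgroup.mem_subgroupOf] at h1
      exact rep8_inj k h1
    · intro x
      induction x using QuotientGroup.induction_on with
      | H v =>
        obtain ⟨p, hp⟩ := exists_rep8 k v.2
        refine ⟨p, QuotientGroup.eq.2 ?_⟩
        rw [Subgroup.mem_subgroupOf]
        exact hp
  rw [Subgroup.relIndex, Subgroup.index, Nat.card_eq_of_bijective f hf]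

theorem combi3a : (Subgroup.closure (Set.range fun i => rr (q1 i))).relIndex (SB q1) = 12 :=
  (relIndex_eq false).trans card_Ix_false

theorem combi3b : (Subgroup.closure (Set.range fun i => rr (q2 i))).relIndex (SB q2) = 4 :=
  (relIndex_eq true).trans card_Ix_true

/-! ### The forms of the plan -/

theorem combi {b : Fin 4 → Fin 8 → ℤ} (hb : Quad b) : ∃ v ∈ CW,
    (∀ x, x ∈ SS b ↔ act v x ∈ SS q1) ∨ (∀ x, x ∈ SS b ↔ act v x ∈ SS q2) := by
  obtain ⟨v, hv, h⟩ := exists_conj_SS hb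
  have key : ∀ S : Set (Fin 8 → ℤ), act v '' SS b = S → ∀ x, x ∈ SS b ↔ act v x ∈ S := by
    rintro _ rfl x
    refine ⟨fun hx => ⟨x, hx, rfl⟩, ?_⟩
    rintro ⟨y, hy, hxy⟩
    rwa [← act_inj hxy]
  exact ⟨v, RR_le hv, h.imp (key _) (key _)⟩

theorem combi2 : ¬ ∃ v ∈ CW, ∀ x, x ∈ SS q1 ↔ act v x ∈ SS q2 := by
  rintro ⟨v, hv, h⟩
  refine not_conj ⟨v, hv, ?_⟩
  ext x
  constructor
  · rintro ⟨y, hy, rfl⟩
    exact (h y).1 hy
  · intro hx
    exact ⟨act v⁻¹ x, (h _).2 (by rwa [act_inv_act]), act_inv_act v x⟩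

end Cfsg.Agent.H136.EE
end

-- part: H342/EE/GenArith
section
/-!
# Arithmetic of `8 × 8` matrices over the field of 4 elements, packed into natural numbers (helper342, S3384)
-/

set_option autoImplicit false

namespace Cfsg.Agent.H342.EE

open Cfsg.Agent.H865.EE

/-- the entry at position `k` -/
def ent (N k : ℕ) : ℕ := N / 4 ^ k % 4

/-- the product of two codes -/
def mul4 (a b : ℕ) : ℕ := 2625168384 / 4 ^ (4 * a + b) % 4

/-- the entry `i j` of the product -/
def dot (A B i j : ℕ) : ℕ :=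
  (((mul4 (ent A (8 * i)) (ent B j) ^^^ mul4 (ent A (8 * i + 1)) (ent B (8 + j))) ^^^
    (mul4 (ent A (8 * i + 2)) (ent B (16 + j)) ^^^ mul4 (ent A (8 * i + 3)) (ent B (24 + j)))) ^^^
  ((mul4 (ent A (8 * i + 4)) (ent B (32 + j)) ^^^ mul4 (ent A (8 * i + 5)) (ent B (40 + j))) ^^^
    (mul4 (ent A (8 * i + 6)) (ent B (48 + j)) ^^^ mul4 (ent A (8 * i + 7)) (ent B (56 + j)))))

/-- the check that `C` is the product of `A` and `B` -/
def chk (A B C : ℕ) : Bool :=
  (List.range 64).all fun k => Nat.beq (dot A B (k / 8) (k % 8)) (ent C k)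

/-- the matrix with a given number -/
def matN {F : Type*} [Field F] (ω : F) (N : ℕ) : Matrix (Fin 4 ⊕ Fin 4) (Fin 4 ⊕ Fin 4) F :=
  Matrix.of fun i j => OD.val ω (ent N (8 * OD.ix i + OD.ix j))

theorem mul4_tab : ∀ a < 4, ∀ b < 4, mul4 a b = if a = 0 ∨ b = 0 then 0 else (a + b - 2) % 3 + 1 := by
  decide +kernel

theorem ent_lt (N k : ℕ) : ent N k < 4 := Nat.mod_lt _ (by norm_num)

theorem mul4_lt (a b : ℕ) : mul4 a b < 4 := Nat.mod_lt _ (by norm_num)

theorem xor_lt' {a b : ℕ} (ha : a < 4) (hb : b < 4) : a ^^^ b < 4 :=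
  Nat.xor_lt_two_pow (n := 2) ha hb

section

variable {F : Type*} [Field F] {ω : F} (h : ω ^ 2 = ω + 1) (h2 : (2 : F) = 0)

include h2 in
theorem val_xor {a b : ℕ} (ha : a < 4) (hb : b < 4) : OD.val ω (a ^^^ b) = OD.val ω a + OD.val ω b := by
  interval_cases a <;> interval_cases b <;> simp only [Nat.zero_xor, Nat.xor_zero, Nat.xor_self,
    show (1 : ℕ) ^^^ 2 = 3 from rfl, show (1 : ℕ) ^^^ 3 = 2 from rfl, show (2 : ℕ) ^^^ 1 = 3 from rfl,
    show (2 : ℕ) ^^^ 3 = 1 from rfl, show (3 : ℕ) ^^^ 1 = 2 from rfl, show (3 : ℕ) ^^^ 2 = 1 from rfl,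
    OD.val] <;>
  [(
  ((ring1)));
   (
  ((ring1)));
   (
  ((ring1)));
   (
  ((ring1)));
   (
  ((ring1)));
   (
  ((linear_combination (-1 : F) * h2)));
   (
  ((ring1)));
   (
  ((linear_combination (-1 : F) * h2)));
   (
  ((ring1)));
   (
  ((linear_combination (-ω) * h2)));
   (
  ((linear_combination (-ω) * h2)));
   (
  ((ring1)));
   (
  ((linear_combination (-1 : F) * h2)));
   (
  ((linear_combination (-ω) * h2)));
   (
  ((linear_combination (-ω - 1) * h2)))]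

include h h2 in
theorem val_mul {a b : ℕ} (ha : a < 4) (hb : b < 4) : OD.val ω (mul4 a b) = OD.val ω a * OD.val ω b := by
  rw [mul4_tab a ha b hb]
  interval_cases a <;> interval_cases b <;> simp [OD.val] <;>
  [(
  ((linear_combination (-1 : F) * h)));
   (
  ((linear_combination (-1 : F) * h - ω * h2)));
   (
  ((linear_combination (-1 : F) * h - ω * h2)));
   (
  ((linear_combination (-1 : F) * h - (ω + 1) * h2)))]

include h h2 in
theorem val_dot (A B i j : ℕ) : OD.val ω (dot A B i j) =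
    (OD.val ω (ent A (8 * i)) * OD.val ω (ent B j) + OD.val ω (ent A (8 * i + 1)) * OD.val ω (ent B (8 + j)) +
      (OD.val ω (ent A (8 * i + 2)) * OD.val ω (ent B (16 + j)) +
        OD.val ω (ent A (8 * i + 3)) * OD.val ω (ent B (24 + j)))) +
    (OD.val ω (ent A (8 * i + 4)) * OD.val ω (ent B (32 + j)) +
      OD.val ω (ent A (8 * i + 5)) * OD.val ω (ent B (40 + j)) +
      (OD.val ω (ent A (8 * i + 6)) * OD.val ω (ent B (48 + j)) +
        OD.val ω (ent A (8 * i + 7)) * OD.val ω (ent B (56 + j)))) := by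
  have m := mul4_lt
  have x := @xor_lt'
  unfold dot
  rw [val_xor h2 (x (x (m _ _) (m _ _)) (x (m _ _) (m _ _))) (x (x (m _ _) (m _ _)) (x (m _ _) (m _ _))),
    val_xor h2 (x (m _ _) (m _ _)) (x (m _ _) (m _ _)), val_xor h2 (x (m _ _) (m _ _)) (x (m _ _) (m _ _)),
    val_xor h2 (m _ _) (m _ _), val_xor h2 (m _ _) (m _ _), val_xor h2 (m _ _) (m _ _),
    val_xor h2 (m _ _) (m _ _)]
  simp only [val_mul h h2 (ent_lt _ _) (ent_lt _ _)]

include h h2 in
theorem matN_mul {A B C : ℕ} (hc : chk A B C = true) : matN ω A * matN ω B = matN ω C := by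
  ext i j
  have hi : OD.ix i < 8 := by rcases i with i | i <;> simp only [OD.ix] <;> omega
  have hj : OD.ix j < 8 := by rcases j with j | j <;> simp only [OD.ix] <;> omega
  have hk := List.all_eq_true.1 hc (8 * OD.ix i + OD.ix j) (List.mem_range.2 (by omega))
  have hk' := Nat.eq_of_beq_eq_true hk
  rw [show (8 * OD.ix i + OD.ix j) / 8 = OD.ix i by omega,
    show (8 * OD.ix i + OD.ix j) % 8 = OD.ix j by omega] at hk'
  show _ = OD.val ω (ent C (8 * OD.ix i + OD.ix j))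
  rw [← hk', val_dot h h2, Matrix.mul_apply, Fintype.sum_sum_type, Fin.sum_univ_four, Fin.sum_univ_four]
  simp only [matN, Matrix.of_apply, OD.ix, Fin.val_zero, Fin.val_one, Fin.val_two,
    show ((3 : Fin 4) : ℕ) = 3 from rfl]
  norm_num only [_root_.add_zero, _root_.zero_add]
  ring1

end

/-! ### Straight-line programs -/

/-- the number of the identity matrix -/
def one : ℕ := 85070916250026219054240312625736187905

/-- verification of a straight-line program; `vals` = the numbers obtained so far -/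
def run : List ℕ → List (ℕ × ℕ × ℕ) → Bool
  | _, [] => true
  | vals, (i, j, N) :: r =>
    chk (vals.getD i one) (vals.getD j one) N && run (N :: vals) r

theorem run_sound (P : ℕ → Prop) (h0 : P one)
    (hmul : ∀ A B C, P A → P B → chk A B C = true → P C) :
    ∀ (ins : List (ℕ × ℕ × ℕ)) (vals : List ℕ), (∀ N ∈ vals, P N) → run vals ins = true →
      ∀ x ∈ ins, P x.2.2 := by
  intro ins
  induction ins with
  | nil => intro _ _ _ x hx; simp at hx
  | cons a r ih =>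
    obtain ⟨i, j, N⟩ := a
    intro vals hv hr x hx
    simp only [run, Bool.and_eq_true] at hr
    have hget : ∀ k, P (vals.getD k one) := by
      intro k
      by_cases hk : k < vals.length
      · rw [List.getD_eq_getElem _ _ hk]
        exact hv _ (List.getElem_mem hk)
      · rw [List.getD_eq_default _ _ (by omega)]
        exact h0
    have hN : P N := hmul _ _ _ (hget i) (hget j) hr.1
    rcases List.mem_cons.1 hx with rfl | hx
    · exact hN
    · refine ih (N :: vals) ?_ hr.2 x hx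
      intro M hM
      rcases List.mem_cons.1 hM with rfl | hM
      · exact hN
      · exact hv M hM

end Cfsg.Agent.H342.EE
end

-- part: H342/EE/GenData
section
/-!
# The straight-line program of the generation of `Ω₈⁺(4)` (helper342, S3384)
-/

set_option autoImplicit false

namespace Cfsg.Agent.H342.EE

/-- the numbers of the `b_r`, `a_r` and of the identity -/
def base : List ℕ := [85320161711043093521450563689450307585, 42539514607552812242053395848930525185, 241662179504834458824236602954926088798, 85070916249407305702995416924029386760, 85153998070365177209214406553816530945, 85072214324240852761151948849445863425, 145171099014694967630246020382702925945, 85070916250026237943706244104317108225, 85070916250026219054240312625736187905]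

/-- the straight-line program -/
def prog : List (ℕ × ℕ × ℕ) := [
  (3, 3, 85070916250645241019914314329283035145),
  (0, 8, 85070916253121121098485074879081283595),
  (0, 5, 85070916250954674083704347831910531085),
  (10, 0, 85070916250954697695536762180136927245),
  (0, 11, 85070916252192675513754005412197892110),
  (0, 3, 85070916253430610830672902817451540495),
  (0, 5, 85070916250335704064061657694460968965),
  (4, 1, 85070916250026275722638107061478948865),
  (15, 0, 85070916250026256833172175582898028545),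
  (12, 1, 85070916250645189073883002763185750025),
  (11, 11, 127609781819233769681152250221061996545),
  (0, 16, 297750965279703001412839554074385055745),
  (0, 13, 148873860047702180953623052343826448385),
  (18, 0, 148875482640470473087279486122066182145),
  (0, 19, 233948670519134356366946410496147062785),
  (0, 3, 319018937730815313806045264868278534145),
  (0, 5, 106338564182584873020701225865099608065),
  (4, 1, 85074810472670120174975221296865214465),
  (23, 0, 85073512398455486468063585073155538945),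
  (20, 1, 127606212115143526987162139104463028225),
  (20, 20, 249245462254819228898143142716637185),
  (0, 25, 249245462254819228934172077174554625),
  (0, 22, 85070916250026219057699288245789261825),
  (27, 0, 170224914319153451505243817187832233985),
  (0, 28, 170391077959831367815210019511221878785),
  (0, 3, 85320161711043093522657598964488208385),
  (0, 5, 85070916250026219055393304499087212545),
  (4, 1, 85320161711043093519162594409977217025),
  (32, 0, 85237079890704135364188500481896873985),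
  (29, 1, 85070916250026219056546296372438237185),
  (32, 32, 177940684795691983927152766615154093650),
  (38, 37, 145171099014695243353729690118691911801),
  (0, 39, 139859136095479334653493574398363465851),
  (39, 0, 162291998656924120562165873583374048412),
  (0, 40, 162291998656923519327436279169645124764),
  (36, 0, 178810544149235888952618667808134634652),
  (0, 25, 242033569503331160299493982535917337740),
  (6, 0, 72773011523485651146372510628715589202),
  (0, 40, 239265663631912850033494108534329442305),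
  (39, 0, 240028939113705558615654839997393403905),
  (0, 19, 239281240760172568697648848994433368065),
  (10, 0, 182844334866612336664158365168323776000),
  (0, 44, 9626330912840983151341320076423866603),
  (42, 0, 9626330898188340292693664714383063883),
  (0, 47, 12248400803992623899675414049471559757),
  (51, 0, 226110137477495343084458268352370285745),
  (0, 52, 226109423941861114023383180681428966577),
  (48, 0, 55195464037578625652702419936836426929),
  (0, 37, 97149867878694936300482502950562397281),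
  (18, 0, 177941725695291096332020070594681073234),
  (0, 52, 85071078509303048267603704203748573185),
  (54, 18, 139859136108768140971756719888669144003),
  (0, 51, 137185204238814904961212148419785914567),
  (42, 0, 36553083798318346981187822407332919495),
  (0, 55, 291432240138319126926498259539959458023),
  (61, 0, 36034598234641605585277824288228912356),
  (0, 62, 59855724327429205075221683349364125816),
  (61, 0, 51215786722598259889375989842154074232),
  (0, 62, 50551168921754001268235881821896945816),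
  (28, 0, 68076875507447948895314694853947341004),
  (0, 62, 22638738858132791330814004893403320388),
  (68, 0, 22638738858132590667131971081173209156),
  (0, 69, 27966035433751364848359183341418713157),
  (68, 0, 27965813119527349827624076693708214341),
  (0, 69, 113036404869608296996850909071220428885),
  (34, 0, 192514443589969285897065565219337223686),
  (0, 68, 166418302269937180639362896681364310141),
  (73, 0, 145171099011225350527952137296719607929),
  (0, 74, 85070916259929739368523354859288920065),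
  (62, 76, 85070916249097782914242208898142765060),
  (0, 63, 85070916249097778191875726028497289220),
  (74, 61, 85070916249407300980628934054383910920),
  (1, 0, 85070916252502103855177556045179912195),
  (1, 2, 85070916251264168538258658639926263810),
  (1, 23, 85071078511778933068540947623193346051),
  (0, 1, 85071159638941462874285399992754765825),
  (25, 0, 85070997379664633660922008414742380545),
  (4, 8, 85070916257453864012319077179136147459),
  (0, 4, 85070916254977979211381833742512553985),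
  (10, 0, 85070916264881499525664875976065286145),
  (73, 3, 85070997379974118670743353483467161621),
  (0, 0, 85070936532435822705910736572987473937),
  (72, 5, 85070997380283603680564698552191942697),
  (0, 0, 85070956814845426357581160520238759969),
  (2, 0, 85070977097255030009251584467490046001),
  (6, 90, 85072214348999653546859554364608217089),
  (0, 0, 85070916269833259682807522924029018113),
  (18, 92, 85072214373758454332567159879770570753),
  (0, 0, 85070916289640300311374733222321848321),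
  (2, 0, 85070916309447340939941943520614678529),
  (11, 94, 85153998075394308618811263937774092289),
  (0, 0, 85091685437537729617209770878234263553),
  (23, 96, 85153998080423440028408121321731653633),
  (0, 0, 85112454625049240180179229130732339201),
  (2, 0, 85133223812560750743148687383230414849),
  (16, 102, 85070916254977998100847765225388441601),
  (0, 0, 85070916250026294612104038544354574337),
  (28, 104, 85070916259929758257989286346459774977),
  (0, 0, 85070916250026370169967764462972960769),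
  (2, 0, 85070916250026445727831490381591347201),
  (23, 83, 106338645312223287627382921654109995009),
  (0, 0, 90387828233165882545855540866861760513),
  (51, 85, 106338726441861702234064617443120381953),
  (0, 0, 95704740216305546037470769107987333121),
  (2, 0, 101021652199445209529085997349112905729),
  (28, 78, 85070997379664633662075000289167147009),
  (0, 0, 85070916250026219054528543002961641473),
  (56, 80, 85071078509303048268756696079247081473),
  (0, 0, 85070916250026219054816773380187095041),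
  (2, 0, 85070916250026219055105003757412548609),
  (93, 3, 106338564182584873020989460640371572737),
  (0, 0, 85070916250026219054240317024051134465),
  (92, 5, 127606212115143526987450378277781504001),
  (0, 0, 85070916250026219054240321422366081025),
  (2, 0, 85070916250026219054240325820681027585),
  (98, 33, 107667812460779392545275456872631238673),
  (0, 0, 86400144245811134927144119686016532545),
  (97, 35, 130264688389122962384640177172275003409),
  (0, 0, 87729372241596050800047926746296877185),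
  (2, 0, 89058600237380966672951733806577221825),
  (125, 23, 85072214324240928319015956243040960513),
  (0, 0, 85070916250026521285695497758006575105),
  (103, 25, 85073512398455562025927873941727346689),
  (0, 0, 85070916250026823517150682890276962305),
  (2, 0, 85070916250027125748605868022547349505),
  (130, 33, 85092983828665013381178757476119740417),
  (0, 0, 85070916566958211924411497066707288065),
  (108, 35, 85094282219792297145147744074005217281),
  (0, 0, 85070916883890204794582681507678388225),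
  (2, 0, 85070917200822197664753865948649488385),
  (103, 13, 86400144245811134928297112658879184961),
  (0, 0, 85070916250026219054240313725247819777),
  (102, 15, 86400144245811134929450105631741837377),
  (0, 0, 85070916250026219054240314824759451649),
  (2, 0, 85070916250026219054240315924271083521),
  (108, 53, 85070936532435822707135786040376426513),
  (0, 0, 85070916250026219054312370219774132225),
  (107, 55, 85070936532435822708360835507765379089),
  (0, 0, 85070916250026219054384427813812076545),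
  (2, 0, 85070916250026219054456485407850020865),
  (144, 43, 85159190367223787594706662968764137473),
  (0, 0, 85076108546884755062460463839476711425),
  (113, 45, 85247464484421280577309287393173700609),
  (0, 0, 85081300843743291070680615053217234945),
  (2, 0, 85086493140601827078900766266957758465),
  (149, 23, 85153998149593641954933929279630868481),
  (0, 0, 85070916329254381863652555398632964097),
  (118, 25, 85237080049160762624172360801255161857),
  (0, 0, 85070916408482544673064798171529740289),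
  (2, 0, 85070916487710707482477040944426516481),
  (63, 8, 85076108566693004616847288766944247809),
  (0, 0, 85070916250027428053846903549749100545),
  (63, 10, 85076108586501254171234113694411784193),
  (0, 0, 85070916250028637053453494473762013185),
  (2, 0, 85070916250029846053060085397774925825),
  (43, 73, 85070936532435822705910740971319197713),
  (0, 0, 85070916250026219054240312625752966145),
  (43, 75, 85070936532435822705910745369650921489),
  (0, 0, 85070916250026219054240312625769744385),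
  (2, 0, 85070916250026219054240312625786522625)]

theorem run_prog : run base prog = true := by (delta Cfsg.Agent.H342.EE.run Cfsg.Agent.H342.EE.dot Cfsg.Agent.H342.EE.ent Cfsg.Agent.H342.EE.mul4 Cfsg.Agent.H342.EE.chk Cfsg.Agent.H342.EE.run._f; rewrite [H90F.ld_fun, H90F.al_fun, H90F.a1_fun, H90F.a2_fun, H90F.a4_fun, H90F.a5_fun, H90F.a6_fun, H90F.b2_fun]; decide +kernel)

end Cfsg.Agent.H342.EE
end

-- part: H342/EE/Gen
section
/-!
# The elements `a_r`, `b_r` generate `Ω₈⁺(4)` (helper342, S3384 T4b)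
-/

set_option autoImplicit false

namespace Cfsg.Agent.H342.EE

open Cfsg Cfsg.Agent.H865.EE Cfsg.Agent.ChevalleyStructure.OrthHyp

/-- the other index of a hyperbolic pair -/
def br : Fin 4 ⊕ Fin 4 → Fin 4 ⊕ Fin 4 := Sum.elim Sum.inr Sum.inl

/-- the number of a root element -/
def sgN (i j : Fin 4 ⊕ Fin 4) (c : ℕ) : ℕ :=
  one + c * (4 ^ (8 * OD.ix j + OD.ix (br i)) + 4 ^ (8 * OD.ix i + OD.ix (br j)))

/-- the numbers of the elements `a_r` -/
def nA : Fin 4 → ℕ := fun r => base.getD (7 - r) 0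

/-- the numbers of the elements `b_r` -/
def nB : Fin 4 → ℕ := fun r => base.getD (3 - r) 0

private noncomputable def _root_.Cfsg.Agent.KO1d3c0f1.k0 : type_of% @Decidable.decide := @(fun x0 x1 => @Decidable.rec.{1} _ @(fun x2 => @Bool) @(fun x2 => @Bool.false) @(fun x2 => @Bool.true) @x1)
private theorem _root_.Cfsg.Agent.KO1d3c0f1.e0 : @Decidable.decide = @_root_.Cfsg.Agent.KO1d3c0f1.k0 := by delta _root_.Cfsg.Agent.KO1d3c0f1.k0; rfl'
private noncomputable def _root_.Cfsg.Agent.KO1d3c0f1.k2l (n : Nat) (P : ∀ k, k < n → Prop) (H : ∀ k h, Decidable (P k h)) (m : Nat) : m ≤ n → Bool := @Nat.rec (fun m => m ≤ n → Bool) (fun _ => true) (fun k ih h => @Decidable.rec (P k h) (fun _ => Bool) (fun _ => false) (fun _ => ih (Nat.le_of_succ_le h)) (H k h)) m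
private theorem _root_.Cfsg.Agent.KO1d3c0f1.k2ls (n : Nat) (P : ∀ k, k < n → Prop) (H : ∀ k h, Decidable (P k h)) (m : Nat) : ∀ h : m ≤ n, _root_.Cfsg.Agent.KO1d3c0f1.k2l n P H m h = true ↔ ∀ k (g : k < m), P k (Nat.lt_of_lt_of_le g h) := by induction m with | zero => exact fun _ => ⟨fun _ _ g => absurd g (Nat.not_lt_zero _), fun _ => rfl⟩ | succ m ih => intro h; show @Decidable.rec (P m h) (fun _ => Bool) (fun _ => false) (fun _ => _root_.Cfsg.Agent.KO1d3c0f1.k2l n P H m (Nat.le_of_succ_le h)) (H m h) = true ↔ _; cases H m h with | isFalse q => exact ⟨fun g => absurd g Bool.false_ne_true, fun g => absurd (g m (Nat.lt_succ_self m)) q⟩ | isTrue q => exact ⟨fun g k hk => (Nat.lt_succ_iff_lt_or_eq.1 hk).elim ((ih _).1 g k) fun e => by subst e; exact q, fun g => (ih _).2 fun k hk => g k (Nat.lt_succ_of_lt hk)⟩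
private noncomputable def _root_.Cfsg.Agent.KO1d3c0f1.k2 (n : Nat) (P : ∀ k, k < n → Prop) (H : ∀ k h, Decidable (P k h)) : Decidable (∀ k h, P k h) := @Bool.rec (fun b => _root_.Cfsg.Agent.KO1d3c0f1.k2l n P H n (Nat.le_refl n) = b → Decidable (∀ k h, P k h)) (fun g => isFalse fun q => Bool.false_ne_true (g.symm.trans ((_root_.Cfsg.Agent.KO1d3c0f1.k2ls n P H n _).2 fun k h => q k h))) (fun g => isTrue fun k h => (_root_.Cfsg.Agent.KO1d3c0f1.k2ls n P H n _).1 g k h) (_root_.Cfsg.Agent.KO1d3c0f1.k2l n P H n (Nat.le_refl n)) rfl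
private theorem _root_.Cfsg.Agent.KO1d3c0f1.e2 : @Nat.decidableBallLT = @_root_.Cfsg.Agent.KO1d3c0f1.k2 := funext fun _ => funext fun _ => funext fun _ => Subsingleton.elim _ _
private noncomputable def _root_.Cfsg.Agent.KO1d3c0f1.k3 : type_of% @Nat.decidableForallFin := @(fun x0 x1 x2 => @Decidable.rec.{1} _ @(fun x3 => @Decidable ((x4 : @Fin @x0) → @x1 @x4)) @(fun x3 => @Decidable.isFalse _ (@decidable_of_decidable_of_iff._proof_1 _ _ (@Nat.decidableForallFin._proof_1 _ @x1) @x3)) @(fun x3 => @Decidable.isTrue _ (@Iff.mp _ _ (@Nat.decidableForallFin._proof_1 _ @x1) @x3)) (@Cfsg.Agent.KO1d3c0f1.k2 @x0 @(fun x3 x4 => @x1 (@Fin.mk _ @x3 @x4)) @(fun x3 x4 => @x2 (@Fin.mk _ @x3 @x4))))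
private theorem _root_.Cfsg.Agent.KO1d3c0f1.e3 : @Nat.decidableForallFin = @_root_.Cfsg.Agent.KO1d3c0f1.k3 := by delta _root_.Cfsg.Agent.KO1d3c0f1.k3; rewrite [← Cfsg.Agent.KO1d3c0f1.e2]; rfl'
private noncomputable def _root_.Cfsg.Agent.KO1d3c0f1.k4 : type_of% @Nat.decEq := @(fun x0 x1 => @Bool.rec.{1} @(fun x2 => (@Eq.{1} _ (@Nat.beq @x0 @x1) @x2) → @Decidable (@Eq.{1} _ @x0 @x1)) @(fun x2 => @Decidable.isFalse _ (@Nat.ne_of_beq_eq_false _ _ @x2)) @(fun x2 => @Decidable.isTrue _ (@Nat.eq_of_beq_eq_true _ _ @x2)) (@Nat.beq @x0 @x1) (@Eq.refl.{1} _ (@Nat.beq @x0 @x1)))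
private theorem _root_.Cfsg.Agent.KO1d3c0f1.e4 : @Nat.decEq = @_root_.Cfsg.Agent.KO1d3c0f1.k4 := by delta _root_.Cfsg.Agent.KO1d3c0f1.k4; rfl'
private theorem _root_.Cfsg.Agent.KO1d3c0f1.e11.{ku, kv} {α : Type kv} {M : List α → Sort ku} (φ : ∀ l, M l) {z : M List.nil} {s : ∀ a l, M l → M (List.cons a l)} (h0 : φ List.nil = z) (hs : ∀ a l, φ (List.cons a l) = s a l (φ l)) (l : List α) : φ l = @List.rec α M z s l := List.rec h0 (fun a l ih => (hs a l).trans (congrArg (s a l) ih)) l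
private noncomputable def _root_.Cfsg.Agent.KO1d3c0f1.k13.{ku0} : type_of% @List.get?Internal.{ku0} := @(fun x0 x1 x2 => @List.rec.{(ku0+1), ku0} @x0 @(fun x3 => ℕ → @Option.{ku0} @x0) @(fun x3 => @Option.none.{ku0} _) @(fun x3 x4 x5 x6 => @Nat.rec.{(ku0+1)} @(fun x7 => @Option.{ku0} @x0) (@Option.some.{ku0} _ @x3) @(fun x7 x8 => @x5 @x7) @x6) @x1 @x2)
private theorem _root_.Cfsg.Agent.KO1d3c0f1.e13.{ku0} : @List.get?Internal.{ku0} = @_root_.Cfsg.Agent.KO1d3c0f1.k13.{ku0} := by delta _root_.Cfsg.Agent.KO1d3c0f1.k13; funext a0 a1 a2; refine (congrFun (_root_.Cfsg.Agent.KO1d3c0f1.e11 (fun a1 a2 => @List.get?Internal.{ku0} a0 a1 a2) ?_ (fun c0 c1 => ?_) a1) a2 :) <;> [(funext b0; (rfl')); (funext b0; (cases b0 with | @zero  => (rfl') | @succ b0_0 => (rfl')))]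
private noncomputable def _root_.Cfsg.Agent.KO1d3c0f1.k40.{ku0} : type_of% @List.getD.{ku0} := @(fun x0 x1 x2 x3 => @Option.rec.{(ku0+1), ku0} @x0 @(fun x4 => @x0) @x3 @(fun x4 => @x4) (@Cfsg.Agent.KO1d3c0f1.k13.{ku0} _ @x1 @x2))
private theorem _root_.Cfsg.Agent.KO1d3c0f1.e40.{ku0} : @List.getD.{ku0} = @_root_.Cfsg.Agent.KO1d3c0f1.k40.{ku0} := by delta _root_.Cfsg.Agent.KO1d3c0f1.k40; rewrite [← Cfsg.Agent.KO1d3c0f1.e13.{ku0}]; rfl'
private noncomputable def _root_.Cfsg.Agent.KO1d3c0f1.k56 : type_of% @instDecidableEqNat := @Cfsg.Agent.KO1d3c0f1.k4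
private theorem _root_.Cfsg.Agent.KO1d3c0f1.e56 : @instDecidableEqNat = @_root_.Cfsg.Agent.KO1d3c0f1.k56 := by delta _root_.Cfsg.Agent.KO1d3c0f1.k56; rewrite [← Cfsg.Agent.KO1d3c0f1.e4]; rfl'
private noncomputable def _root_.Cfsg.Agent.KO1d3c0f1.k57 : (by first | exact type_of% @Cfsg.Agent.H342.EE.ent | exact Unit : Sort _) := by first | (refine @Subtype.val _ (fun g => @Cfsg.Agent.H342.EE.ent = @g) (@Subtype.mk _ _ (@(fun x0 x1 => @Nat.mod (@Nat.div @x0 (@Nat.pow (nat_lit 4) @x1)) (nat_lit 4))) ?_); rfl') | exact @Cfsg.Agent.H342.EE.ent | exact ()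
private theorem _root_.Cfsg.Agent.KO1d3c0f1.e57 : (by first | exact @Cfsg.Agent.H342.EE.ent = @_root_.Cfsg.Agent.KO1d3c0f1.k57 | exact True : Prop) := by first | (delta _root_.Cfsg.Agent.KO1d3c0f1.k57; exact @Subtype.property _ (fun g => @Cfsg.Agent.H342.EE.ent = @g) _) | rfl | trivial
private noncomputable def _root_.Cfsg.Agent.KO1d3c0f1.k58 : (by first | exact type_of% @Cfsg.Agent.H342.EE.nA | exact Unit : Sort _) := by first | (refine @Subtype.val _ (fun g => @Cfsg.Agent.H342.EE.nA = @g) (@Subtype.mk _ _ (@(fun x0 => @Option.rec.{1, 0} ℕ @(fun x1 => ℕ) (nat_lit 0) @(fun x1 => @x1) (@Cfsg.Agent.KO1d3c0f1.k13.{0} _ @Cfsg.Agent.H342.EE.base (@Nat.sub (nat_lit 7) (@Fin.val _ @x0))))) ?_); rewrite [← Cfsg.Agent.KO1d3c0f1.e13.{0}]; (try delta Cfsg.Agent.H342.EE.nA); (try generalize @Cfsg.Agent.H342.EE.base = g0); rfl') | exact @Cfsg.Agent.H342.EE.nA | exact ()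
private theorem _root_.Cfsg.Agent.KO1d3c0f1.e58 : (by first | exact @Cfsg.Agent.H342.EE.nA = @_root_.Cfsg.Agent.KO1d3c0f1.k58 | exact True : Prop) := by first | (delta _root_.Cfsg.Agent.KO1d3c0f1.k58; exact @Subtype.property _ (fun g => @Cfsg.Agent.H342.EE.nA = @g) _) | rfl | trivial

theorem nA_spec : ∀ r : Fin 4, ∀ k < 64, ent (nA r) k = (OD.cA r).getD k 0 := by (first | (refine of_decide_eq_true ?_; rewrite [Cfsg.Agent.KO1d3c0f1.e0, Cfsg.Agent.KO1d3c0f1.e3, Cfsg.Agent.KO1d3c0f1.e2, Cfsg.Agent.KO1d3c0f1.e56, Cfsg.Agent.KO1d3c0f1.e57, Cfsg.Agent.KO1d3c0f1.e58, Cfsg.Agent.KO1d3c0f1.e40.{0}]; decide +kernel) | decide +kernel)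

private noncomputable def _root_.Cfsg.Agent.KO1d3c0f1.k59 : (by first | exact type_of% @Cfsg.Agent.H342.EE.nB | exact Unit : Sort _) := by first | (refine @Subtype.val _ (fun g => @Cfsg.Agent.H342.EE.nB = @g) (@Subtype.mk _ _ (@(fun x0 => @Option.rec.{1, 0} ℕ @(fun x1 => ℕ) (nat_lit 0) @(fun x1 => @x1) (@Cfsg.Agent.KO1d3c0f1.k13.{0} _ @Cfsg.Agent.H342.EE.base (@Nat.sub (nat_lit 3) (@Fin.val _ @x0))))) ?_); rewrite [← Cfsg.Agent.KO1d3c0f1.e13.{0}]; (try delta Cfsg.Agent.H342.EE.nB); (try generalize @Cfsg.Agent.H342.EE.base = g0); rfl') | exact @Cfsg.Agent.H342.EE.nB | exact ()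
private theorem _root_.Cfsg.Agent.KO1d3c0f1.e59 : (by first | exact @Cfsg.Agent.H342.EE.nB = @_root_.Cfsg.Agent.KO1d3c0f1.k59 | exact True : Prop) := by first | (delta _root_.Cfsg.Agent.KO1d3c0f1.k59; exact @Subtype.property _ (fun g => @Cfsg.Agent.H342.EE.nB = @g) _) | rfl | trivial

theorem nB_spec : ∀ r : Fin 4, ∀ k < 64, ent (nB r) k = (OD.cB r).getD k 0 := by (first | (refine of_decide_eq_true ?_; rewrite [Cfsg.Agent.KO1d3c0f1.e0, Cfsg.Agent.KO1d3c0f1.e3, Cfsg.Agent.KO1d3c0f1.e2, Cfsg.Agent.KO1d3c0f1.e56, Cfsg.Agent.KO1d3c0f1.e57, Cfsg.Agent.KO1d3c0f1.e59, Cfsg.Agent.KO1d3c0f1.e40.{0}]; decide +kernel) | decide +kernel)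

theorem base_spec : ∀ N ∈ base, N = one ∨ (∃ r, N = nA r) ∨ ∃ r, N = nB r := by decide +kernel

theorem one_spec : ∀ a b : Fin 4 ⊕ Fin 4, ent one (8 * OD.ix a + OD.ix b) = if a = b then 1 else 0 := by
  decide +kernel

theorem sgN_mem : ∀ i j : Fin 4 ⊕ Fin 4, j ≠ i → j ≠ br i → ∀ c < 4,
    sgN i j c ∈ base ∨ sgN i j c ∈ prog.map fun x => x.2.2 := by decide +kernel

private noncomputable def _root_.Cfsg.Agent.KO1d3c0f1.k7.{ku0} : type_of% @ite.{ku0} := @(fun x0 x1 x2 x3 x4 => @Decidable.rec.{ku0} _ @(fun x5 => @x0) @(fun x5 => @x4) @(fun x5 => @x3) @x2)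
private theorem _root_.Cfsg.Agent.KO1d3c0f1.e7.{ku0} : @ite.{ku0} = @_root_.Cfsg.Agent.KO1d3c0f1.k7.{ku0} := by delta _root_.Cfsg.Agent.KO1d3c0f1.k7; rfl'
private noncomputable def _root_.Cfsg.Agent.KO1d3c0f1.k8 : type_of% @instDecidableEqFin := @(fun x0 x1 x2 => @Decidable.rec.{1} _ @(fun x3 => @Decidable (@Eq.{1} _ @x1 @x2)) @(fun x3 => @Decidable.isFalse _ (@instDecidableEqFin._proof_1 @x0 @x1 @x2 @x3)) @(fun x3 => @Decidable.isTrue _ (@Fin.eq_of_val_eq _ _ _ @x3)) (@Cfsg.Agent.KO1d3c0f1.k4 (@Fin.val _ @x1) (@Fin.val _ @x2)))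
private theorem _root_.Cfsg.Agent.KO1d3c0f1.e8 : @instDecidableEqFin = @_root_.Cfsg.Agent.KO1d3c0f1.k8 := by delta _root_.Cfsg.Agent.KO1d3c0f1.k8; rewrite [← Cfsg.Agent.KO1d3c0f1.e4]; rfl'
private noncomputable def _root_.Cfsg.Agent.KO1d3c0f1.k17 : type_of% @forall_prop_decidable := @(fun x0 x1 x2 x3 => @Decidable.rec.{1} _ @(fun x4 => @Decidable ((x5 : @x0) → @x1 @x5)) @(fun x4 => @Decidable.isTrue _ (@forall_prop_decidable._proof_2 _ @x1 @x4)) @(fun x4 => @Decidable.rec.{1} _ @(fun x5 => @Decidable ((x6 : @x0) → @x1 @x6)) @(fun x5 => @Decidable.isFalse _ (@decidable_of_decidable_of_iff._proof_1 _ _ (@forall_prop_decidable._proof_1 _ @x1 @x4) @x5)) @(fun x5 => @Decidable.isTrue _ (@Iff.mp _ _ (@forall_prop_decidable._proof_1 _ @x1 @x4) @x5)) (@x3 @x4)) @x2)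
private theorem _root_.Cfsg.Agent.KO1d3c0f1.e17 : @forall_prop_decidable = @_root_.Cfsg.Agent.KO1d3c0f1.k17 := by delta _root_.Cfsg.Agent.KO1d3c0f1.k17; rfl'
private noncomputable def _root_.Cfsg.Agent.KO1d3c0f1.k20 : type_of% @instDecidableAnd := @(fun x0 x1 x2 x3 => @Decidable.rec.{1} _ @(fun x4 => @Decidable (@And @x0 @x1)) @(fun x4 => @Decidable.isFalse _ (@instDecidableAnd._proof_2 _ _ @x4)) @(fun x4 => @Decidable.rec.{1} _ @(fun x5 => @Decidable (@And @x0 @x1)) @(fun x5 => @Decidable.isFalse _ (@instDecidableAnd._proof_1 _ _ @x5)) @(fun x5 => @Decidable.isTrue _ (@And.intro _ _ @x4 @x5)) @x3) @x2)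
private theorem _root_.Cfsg.Agent.KO1d3c0f1.e20 : @instDecidableAnd = @_root_.Cfsg.Agent.KO1d3c0f1.k20 := by delta _root_.Cfsg.Agent.KO1d3c0f1.k20; rfl'
private noncomputable def _root_.Cfsg.Agent.KO1d3c0f1.k41 : type_of% @instDecidableOr := @(fun x0 x1 x2 x3 => @Decidable.rec.{1} _ @(fun x4 => @Decidable (@Or @x0 @x1)) @(fun x4 => @Decidable.rec.{1} _ @(fun x5 => @Decidable (@Or @x0 @x1)) @(fun x5 => @Decidable.isFalse _ (@instDecidableOr._proof_1 _ _ @x4 @x5)) @(fun x5 => @Decidable.isTrue _ (@Or.inr _ _ @x5)) @x3) @(fun x4 => @Decidable.isTrue _ (@Or.inl _ _ @x4)) @x2)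
private theorem _root_.Cfsg.Agent.KO1d3c0f1.e41 : @instDecidableOr = @_root_.Cfsg.Agent.KO1d3c0f1.k41 := by delta _root_.Cfsg.Agent.KO1d3c0f1.k41; rfl'
private noncomputable def _root_.Cfsg.Agent.KO1d3c0f1.k44 : type_of% @instDecidableNot := @(fun x0 x1 => @Decidable.rec.{1} _ @(fun x2 => @Decidable (¬ @x0)) @(fun x2 => @Decidable.isTrue _ @x2) @(fun x2 => @Decidable.isFalse _ (@absurd.{0} _ _ @x2)) @x1)
private theorem _root_.Cfsg.Agent.KO1d3c0f1.e44 : @instDecidableNot = @_root_.Cfsg.Agent.KO1d3c0f1.k44 := by delta _root_.Cfsg.Agent.KO1d3c0f1.k44; rfl'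
private noncomputable def _root_.Cfsg.Agent.KO1d3c0f1.k60.{ku0, ku1} : type_of% @Quot.rec.{ku0, ku1} := @(fun x0 x1 x2 x3 x4 x5 => @Eq.rec.{ku1, ku0} (@Quot.{ku0} _ @x1) (@PSigma.fst.{ku0, ku1} _ _ (@Quot.lift.{ku0, (max (max 1 ku1) ku0)} _ _ _ (@Quot.indep.{ku0, ku1} _ _ _ @x3) (@Quot.indepCoherent.{ku0, ku1} _ _ _ @x3 @x4) @x5)) @(fun x6 x7 => @x2 @x6) (@PSigma.snd.{ku0, ku1} _ _ (@Quot.lift.{ku0, (max (max 1 ku1) ku0)} _ _ _ (@Quot.indep.{ku0, ku1} _ _ _ @x3) (@Quot.indepCoherent.{ku0, ku1} _ _ _ @x3 @x4) @x5)) @x5 (@Quot.liftIndepPr1.{ku0, ku1} _ _ _ @x3 @x4 @x5))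
private theorem _root_.Cfsg.Agent.KO1d3c0f1.e60.{ku0, ku1} : @Quot.rec.{ku0, ku1} = @_root_.Cfsg.Agent.KO1d3c0f1.k60.{ku0, ku1} := by delta _root_.Cfsg.Agent.KO1d3c0f1.k60; rfl'
private noncomputable def _root_.Cfsg.Agent.KO1d3c0f1.k61.{ku0, ku1} : type_of% @Quot.recOnSubsingleton.{ku0, ku1} := @(fun x0 x1 x2 x3 x4 x5 => @Cfsg.Agent.KO1d3c0f1.k60.{ku0, ku1} _ _ @(fun x6 => @x2 @x6) @(fun x6 => @x5 @x6) (@Quot.recOnSubsingleton._proof_1.{ku1, ku0} _ _ _ _ @x5) @x4)
private theorem _root_.Cfsg.Agent.KO1d3c0f1.e61.{ku0, ku1} : @Quot.recOnSubsingleton.{ku0, ku1} = @_root_.Cfsg.Agent.KO1d3c0f1.k61.{ku0, ku1} := by delta _root_.Cfsg.Agent.KO1d3c0f1.k61; rewrite [← Cfsg.Agent.KO1d3c0f1.e60.{ku0, ku1}]; rfl'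
private noncomputable def _root_.Cfsg.Agent.KO1d3c0f1.k62.{ku0} : type_of% @List.decidableBAll.{ku0} := @(fun x0 x1 x2 x3 => @List.rec.{1, ku0} @x0 @(fun x4 => @Decidable ((x5 : @x0) → (@Membership.mem.{ku0, ku0} _ _ _ @x4 @x5) → @x1 @x5)) (@Decidable.isTrue _ (@List.decidableBAll._proof_1.{ku0} _ @x1)) @(fun x4 x5 x6 => @Decidable.rec.{1} _ @(fun x7 => @Decidable ((x8 : @x0) → (@Membership.mem.{ku0, ku0} _ _ _ (@x4 :: @x5) @x8) → @x1 @x8)) @(fun x7 => @Decidable.isFalse _ (@List.decidableBAll._proof_4.{ku0} _ @x1 @x4 @x5 @x7)) @(fun x7 => @Decidable.rec.{1} _ @(fun x8 => @Decidable ((x9 : @x0) → (@Membership.mem.{ku0, ku0} _ _ _ (@x4 :: @x5) @x9) → @x1 @x9)) @(fun x8 => @Decidable.isFalse _ (@List.decidableBAll._proof_3.{ku0} _ @x1 @x4 @x5 @x8)) @(fun x8 => @Decidable.isTrue _ (@List.decidableBAll._proof_2.{ku0} _ @x1 @x4 @x5 @x7 @x8)) @x6) (@x2 @x4)) @x3)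
private theorem _root_.Cfsg.Agent.KO1d3c0f1.e62.{ku0} : @List.decidableBAll.{ku0} = @_root_.Cfsg.Agent.KO1d3c0f1.k62.{ku0} := by delta _root_.Cfsg.Agent.KO1d3c0f1.k62; funext a0 a1 a2 a3; refine (_root_.Cfsg.Agent.KO1d3c0f1.e11 (fun a3 => @List.decidableBAll.{ku0} a0 a1 a2 a3) ?_ (fun c0 c1 => ?_) a3 :) <;> (rfl')
private noncomputable def _root_.Cfsg.Agent.KO1d3c0f1.k63.{ku0} : type_of% @Multiset.decidableForallMultiset.{ku0} := @(fun (x0 : Sort (ku0+1)) (x1 : @Multiset.{ku0} @x0) (x2 : (x0 → Prop)) (x3 : ((x3 : x0) → @Decidable (@x2 @x3))) => @Cfsg.Agent.KO1d3c0f1.k61.{(ku0+1), 1} (@List.{ku0} @x0) (@Setoid.r.{(ku0+1)} (@List.{ku0} @x0) (@List.isSetoid.{ku0} @x0)) @(fun (x4 : @Quotient.{(ku0+1)} (@List.{ku0} @x0) (@List.isSetoid.{ku0} @x0)) => @Decidable ((x5 : x0) → ((@Membership.mem.{ku0, ku0} @x0 (@Multiset.{ku0} @x0) (@Multiset.instMembership.{ku0} @x0) @x4 @x5) → @x2 @x5))) (@Multiset.decidableForallMultiset._proof_2.{ku0}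 @x0 @x2) @x1 @(fun (x4 : @List.{ku0} @x0) => @Decidable.rec.{1} ((x5 : x0) → ((@Membership.mem.{ku0, ku0} @x0 (@List.{ku0} @x0) (@List.instMembership.{ku0} @x0) @x4 @x5) → @x2 @x5)) @(fun (x5 : @Decidable ((x5 : x0) → ((@Membership.mem.{ku0, ku0} @x0 (@List.{ku0} @x0) (@List.instMembership.{ku0} @x0) @x4 @x5) → @x2 @x5))) => @Decidable ((x6 : x0) → ((@Membership.mem.{ku0, ku0} @x0 (@Multiset.{ku0} @x0) (@Multiset.instMembership.{ku0} @x0) (@Quotient.mk.{(ku0+1)} (@List.{ku0} @x0) (@List.isSetoid.{ku0} @x0) @x4) @x6) → @x2 @x6))) @(fun (x5 : @Not ((x5 : x0) → ((@Membership.mem.{ku0, ku0} @x0 (@List.{ku0} @x0) (@List.instMembership.{ku0} @x0) @x4 @x5) → @x2 @x5))) => @Decidable.isFalse ((x6 : x0) → ((@Membership.mem.{ku0, ku0} @x0 (@Multiset.{ku0} @x0) (@Multiset.instMembership.{ku0} @x0) (@Quotient.mk.{(ku0+1)} (@List.{ku0} @x0) (@List.isSetoid.{ku0} @x0) @x4) @x6) → @x2 @x6)) (@decidable_of_decidable_of_iff._proof_1 ((x6 : x0) →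 ((@Membership.mem.{ku0, ku0} @x0 (@List.{ku0} @x0) (@List.instMembership.{ku0} @x0) @x4 @x6) → @x2 @x6)) ((x6 : x0) → ((@Membership.mem.{ku0, ku0} @x0 (@Multiset.{ku0} @x0) (@Multiset.instMembership.{ku0} @x0) (@Quotient.mk.{(ku0+1)} (@List.{ku0} @x0) (@List.isSetoid.{ku0} @x0) @x4) @x6) → @x2 @x6)) (@Multiset.decidableForallMultiset._proof_1.{ku0} @x0 @x2 @x4) @x5)) @(fun (x5 : ((x5 : x0) → ((@Membership.mem.{ku0, ku0} @x0 (@List.{ku0} @x0) (@List.instMembership.{ku0} @x0) @x4 @x5) → @x2 @x5))) => @Decidable.isTrue ((x6 : x0) → ((@Membership.mem.{ku0, ku0} @x0 (@Multiset.{ku0} @x0) (@Multiset.instMembership.{ku0} @x0) (@Quotient.mk.{(ku0+1)} (@List.{ku0} @x0) (@List.isSetoid.{ku0} @x0) @x4) @x6) → @x2 @x6)) (@Iff.mp ((x6 : x0) → ((@Membership.mem.{ku0, ku0} @x0 (@List.{ku0} @x0) (@List.instMembership.{ku0} @x0) @x4 @x6) → @x2 @x6)) ((x6 : x0) → ((@Membership.mem.{ku0, ku0} @x0 (@Multiset.{ku0} @x0) (@Multiset.instMembership.{ku0}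 @x0) (@Quotient.mk.{(ku0+1)} (@List.{ku0} @x0) (@List.isSetoid.{ku0} @x0) @x4) @x6) → @x2 @x6)) (@Multiset.decidableForallMultiset._proof_1.{ku0} @x0 @x2 @x4) @x5)) (@Cfsg.Agent.KO1d3c0f1.k62.{ku0} @x0 @x2 @x3 @x4)))
private theorem _root_.Cfsg.Agent.KO1d3c0f1.e63.{ku0} : @Multiset.decidableForallMultiset.{ku0} = @_root_.Cfsg.Agent.KO1d3c0f1.k63.{ku0} := by delta _root_.Cfsg.Agent.KO1d3c0f1.k63; rewrite [← Cfsg.Agent.KO1d3c0f1.e62.{ku0}, ← Cfsg.Agent.KO1d3c0f1.e61.{(ku0+1), 1}]; rfl'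
private noncomputable def _root_.Cfsg.Agent.KO1d3c0f1.k67.{ku0} : type_of% @Multiset.decidableDforallMultiset.{ku0} := @(fun x0 x1 x2 x3 => @Decidable.rec.{1} _ @(fun x4 => @Decidable ((x5 : @x0) → (x6 : @Membership.mem.{ku0, ku0} _ _ _ @x1 @x5) → @x2 @x5 @x6)) @(fun x4 => @Decidable.isFalse _ (@decidable_of_decidable_of_iff._proof_1 _ _ (@Multiset.decidableDforallMultiset._proof_2.{ku0} _ _ _) @x4)) @(fun x4 => @Decidable.isTrue _ (@Iff.mp _ _ (@Multiset.decidableDforallMultiset._proof_2.{ku0} _ _ _) @x4)) (@Cfsg.Agent.KO1d3c0f1.k63.{ku0} _ _ @(fun x4 => @x2 (@Subtype.val.{(ku0+1)} _ @(fun x5 => @Membership.mem.{ku0, ku0} _ _ _ @x1 @x5) @x4) (@Multiset.decidableDforallMultiset._proof_1.{ku0} _ _ @x4)) @(fun x4 => @x3 (@Subtype.val.{(ku0+1)} _ @(fun x5 => @Membership.mem.{ku0, ku0} _ _ _ @x1 @x5) @x4) (@Multiset.decidableDforallMultiset._proof_1.{ku0} _ _ @x4))))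
private theorem _root_.Cfsg.Agent.KO1d3c0f1.e67.{ku0} : @Multiset.decidableDforallMultiset.{ku0} = @_root_.Cfsg.Agent.KO1d3c0f1.k67.{ku0} := by delta _root_.Cfsg.Agent.KO1d3c0f1.k67; rewrite [← Cfsg.Agent.KO1d3c0f1.e63.{ku0}]; rfl'
private noncomputable def _root_.Cfsg.Agent.KO1d3c0f1.k68.{ku0} : type_of% @Finset.decidableDforallFinset.{ku0} := @(fun x0 x1 x2 x3 => @Cfsg.Agent.KO1d3c0f1.k67.{ku0} _ _ _ @x3)
private theorem _root_.Cfsg.Agent.KO1d3c0f1.e68.{ku0} : @Finset.decidableDforallFinset.{ku0} = @_root_.Cfsg.Agent.KO1d3c0f1.k68.{ku0} := by delta _root_.Cfsg.Agent.KO1d3c0f1.k68; rewrite [← Cfsg.Agent.KO1d3c0f1.e67.{ku0}]; rfl'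
private noncomputable def _root_.Cfsg.Agent.KO1d3c0f1.k69.{ku0} : type_of% @Fintype.decidableForallFintype.{ku0} := @(fun x0 x1 x2 x3 => @Decidable.rec.{1} _ @(fun x4 => @Decidable ((x5 : @x0) → @x1 @x5)) @(fun x4 => @Decidable.isFalse _ (@decidable_of_decidable_of_iff._proof_1 _ _ (@Fintype.decidableForallFintype._proof_1.{ku0} _ _ _) @x4)) @(fun x4 => @Decidable.isTrue _ (@Iff.mp _ _ (@Fintype.decidableForallFintype._proof_1.{ku0} _ _ _) @x4)) (@Cfsg.Agent.KO1d3c0f1.k68.{ku0} _ _ @(fun x4 x5 => @x1 @x4) @(fun x4 x5 => @x2 @x4)))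
private theorem _root_.Cfsg.Agent.KO1d3c0f1.e69.{ku0} : @Fintype.decidableForallFintype.{ku0} = @_root_.Cfsg.Agent.KO1d3c0f1.k69.{ku0} := by delta _root_.Cfsg.Agent.KO1d3c0f1.k69; rewrite [← Cfsg.Agent.KO1d3c0f1.e68.{ku0}]; rfl'
private noncomputable def _root_.Cfsg.Agent.KO1d3c0f1.k70.{ku0, ku1} : type_of% @instDecidableEqSum.decEq.{ku0, ku1} := @(fun x0 x1 x2 x3 x4 x5 => @Sum.rec.{1, ku0, ku1} @x0 @x1 @(fun x6 => @Decidable (@Eq.{(max (ku1+1) (ku0+1))} _ @x6 @x5)) @(fun x6 => @Sum.rec.{1, ku0, ku1} @x0 @x1 @(fun x7 => @Decidable (@Eq.{(max (ku1+1) (ku0+1))} _ (@Sum.inl.{ku0, ku1} _ _ @x6) @x7)) @(fun x7 => @Decidable.rec.{1} _ @(fun x8 => @Decidable (@Eq.{(max (ku1+1) (ku0+1))} _ (@Sum.inl.{ku0, ku1} _ _ @x6) (@Sum.inl.{ku0, ku1} _ _ @x7))) @(fun x8 => @Decidable.isFalse _ (@instDecidableEqSum.decEq._proof_3.{ku1, ku0} _ _ @x6 @x7 @x8)) @(fun x8 => @Eq.rec.{1, (ku0+1)} @x0 @x6 @(fun x9 x10 => @Decidable (@Eq.{(max (ku1+1) (ku0+1))}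 _ (@Sum.inl.{ku0, ku1} _ _ @x6) (@Sum.inl.{ku0, ku1} _ _ @x9))) (@Decidable.isTrue _ (@instDecidableEqSum.decEq._proof_1.{ku1, ku0} _ _ @x6)) @x7 @x8) (@x2 @x6 @x7)) @(fun x7 => @Decidable.isFalse _ (@instDecidableEqSum.decEq._proof_4.{ku1, ku0} _ _ @x6 @x7)) @x5) @(fun x6 => @Sum.rec.{1, ku0, ku1} @x0 @x1 @(fun x7 => @Decidable (@Eq.{(max (ku1+1) (ku0+1))} _ (@Sum.inr.{ku0, ku1} _ _ @x6) @x7)) @(fun x7 => @Decidable.isFalse _ (@instDecidableEqSum.decEq._proof_5.{ku1, ku0} _ _ @x6 @x7)) @(fun x7 => @Decidable.rec.{1} _ @(fun x8 => @Decidable (@Eq.{(max (ku1+1) (ku0+1))} _ (@Sum.inr.{ku0, ku1} _ _ @x6) (@Sum.inr.{ku0, ku1} _ _ @x7))) @(fun x8 => @Decidable.isFalse _ (@instDecidableEqSum.decEq._proof_6.{ku1, ku0} _ _ @x6 @x7 @x8)) @(fun x8 => @Eq.rec.{1, (ku1+1)} @x1 @x6 @(fun x9 x10 => @Decidable (@Eq.{(max (ku1+1) (ku0+1))} _ (@Sum.inr.{ku0, ku1} _ _ @x6) (@Sum.inr.{ku0, ku1} _ _ @x9))) (@Decidable.isTrue _ (@instDecidableEqSum.decEq._proof_2.{ku1,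 ku0} _ _ @x6)) @x7 @x8) (@x3 @x6 @x7)) @x5) @x4)
private theorem _root_.Cfsg.Agent.KO1d3c0f1.e70.{ku0, ku1} : @instDecidableEqSum.decEq.{ku0, ku1} = @_root_.Cfsg.Agent.KO1d3c0f1.k70.{ku0, ku1} := by delta _root_.Cfsg.Agent.KO1d3c0f1.k70; rfl'
private noncomputable def _root_.Cfsg.Agent.KO1d3c0f1.k71.{ku0, ku1} : type_of% @instDecidableEqSum.{ku0, ku1} := @(fun x0 x1 x2 x3 => @Cfsg.Agent.KO1d3c0f1.k70.{ku0, ku1} _ _ @x2 @x3)
private theorem _root_.Cfsg.Agent.KO1d3c0f1.e71.{ku0, ku1} : @instDecidableEqSum.{ku0, ku1} = @_root_.Cfsg.Agent.KO1d3c0f1.k71.{ku0, ku1} := by delta _root_.Cfsg.Agent.KO1d3c0f1.k71; rewrite [← Cfsg.Agent.KO1d3c0f1.e70.{ku0, ku1}]; rfl'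
private noncomputable def _root_.Cfsg.Agent.KO1d3c0f1.k72.{ku0, ku1, ku2} : type_of% @Sum.elim.{ku0, ku1, ku2} := @(fun x0 x1 x2 x3 x4 x5 => @Sum.rec.{ku2, ku0, ku1} @x0 @x1 @(fun x6 => @x2) @(fun x6 => @x3 @x6) @(fun x6 => @x4 @x6) @x5)
private theorem _root_.Cfsg.Agent.KO1d3c0f1.e72.{ku0, ku1, ku2} : @Sum.elim.{ku0, ku1, ku2} = @_root_.Cfsg.Agent.KO1d3c0f1.k72.{ku0, ku1, ku2} := by delta _root_.Cfsg.Agent.KO1d3c0f1.k72; rfl'
private noncomputable def _root_.Cfsg.Agent.KO1d3c0f1.k73 : (by first | exact type_of% @Cfsg.Agent.H342.EE.br | exact Unit : Sort _) := by first | (refine @Subtype.val _ (fun g => @Cfsg.Agent.H342.EE.br = @g) (@Subtype.mk _ _ (@Cfsg.Agent.KO1d3c0f1.k72.{0, 0, 1} _ _ _ (@Sum.inr.{0, 0} _ _) (@Sum.inl.{0, 0} _ _)) ?_); rewrite [← Cfsg.Agent.KO1d3c0f1.e72.{0, 0, 1}]; rfl') | exact @Cfsg.Agent.H342.EE.br | exact ()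
private theorem _root_.Cfsg.Agent.KO1d3c0f1.e73 : (by first | exact @Cfsg.Agent.H342.EE.br = @_root_.Cfsg.Agent.KO1d3c0f1.k73 | exact True : Prop) := by first | (delta _root_.Cfsg.Agent.KO1d3c0f1.k73; exact @Subtype.property _ (fun g => @Cfsg.Agent.H342.EE.br = @g) _) | rfl | trivial
private noncomputable def _root_.Cfsg.Agent.KO1d3c0f1.k76 : (by first | exact type_of% @Cfsg.Agent.H865.EE.OD.ix | exact Unit : Sort _) := by first | (refine @Subtype.val _ (fun g => @Cfsg.Agent.H865.EE.OD.ix = @g) (@Subtype.mk _ _ (@(fun x0 => @Sum.rec.{1, 0, 0} (@Fin ((4 : ℕ))) (@Fin ((4 : ℕ))) @(fun x1 => ℕ) @(fun x1 => @Fin.val _ @x1) @(fun x1 => @Nat.add (nat_lit 4) (@Fin.val _ @x1)) @x0)) ?_); rfl') | exact @Cfsg.Agent.H865.EE.OD.ix | exact ()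
private theorem _root_.Cfsg.Agent.KO1d3c0f1.e76 : (by first | exact @Cfsg.Agent.H865.EE.OD.ix = @_root_.Cfsg.Agent.KO1d3c0f1.k76 | exact True : Prop) := by first | (delta _root_.Cfsg.Agent.KO1d3c0f1.k76; exact @Subtype.property _ (fun g => @Cfsg.Agent.H865.EE.OD.ix = @g) _) | rfl | trivial
private noncomputable def _root_.Cfsg.Agent.KO1d3c0f1.k77 : (by first | exact type_of% @Cfsg.Agent.H342.EE.sgN | exact Unit : Sort _) := by first | (refine @Subtype.val _ (fun g => @Cfsg.Agent.H342.EE.sgN = @g) (@Subtype.mk _ _ (@(fun x0 x1 x2 => @Nat.add @Cfsg.Agent.H342.EE.one (@Nat.mul @x2 (@Nat.add (@Nat.pow (nat_lit 4) (@Nat.add (@Nat.mul (nat_lit 8) (@Cfsg.Agent.KO1d3c0f1.k76 @x1)) (@Cfsg.Agent.KO1d3c0f1.k76 (@Cfsg.Agent.KO1d3c0f1.k73 @x0)))) (@Nat.pow (nat_lit 4) (@Nat.add (@Nat.mul (nat_lit 8) (@Cfsg.Agent.KO1d3c0f1.k76 @x0)) (@Cfsg.Agent.KO1d3c0f1.k76 (@Cfsg.Agent.KO1d3c0f1.k73 @x1)))))))) ?_); rewrite [← Cfsg.Agent.KO1d3c0f1.e73, ← Cfsg.Agent.KO1d3c0f1.e76];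 (try delta Cfsg.Agent.H342.EE.sgN); (try generalize @Cfsg.Agent.H342.EE.one = g0); (try generalize @Cfsg.Agent.H865.EE.OD.ix = g1); (try generalize @Cfsg.Agent.H342.EE.br = g2); rfl') | exact @Cfsg.Agent.H342.EE.sgN | exact ()
private theorem _root_.Cfsg.Agent.KO1d3c0f1.e77 : (by first | exact @Cfsg.Agent.H342.EE.sgN = @_root_.Cfsg.Agent.KO1d3c0f1.k77 | exact True : Prop) := by first | (delta _root_.Cfsg.Agent.KO1d3c0f1.k77; exact @Subtype.property _ (fun g => @Cfsg.Agent.H342.EE.sgN = @g) _) | rfl | trivial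

theorem sgN_ent : ∀ i j : Fin 4 ⊕ Fin 4, j ≠ i → j ≠ br i → ∀ c < 4, ∀ a b : Fin 4 ⊕ Fin 4,
    ent (sgN i j c) (8 * OD.ix a + OD.ix b) =
      if a = b then 1 else if (a = j ∧ b = br i) ∨ (a = i ∧ b = br j) then c else 0 := by
  (first | (refine of_decide_eq_true ?_; rewrite [Cfsg.Agent.KO1d3c0f1.e0, Cfsg.Agent.KO1d3c0f1.e69.{0}, Cfsg.Agent.KO1d3c0f1.e17, Cfsg.Agent.KO1d3c0f1.e44, Cfsg.Agent.KO1d3c0f1.e71.{0, 0}, Cfsg.Agent.KO1d3c0f1.e8, Cfsg.Agent.KO1d3c0f1.e73, Cfsg.Agent.KO1d3c0f1.e2, Cfsg.Agent.KO1d3c0f1.e56, Cfsg.Agent.KO1d3c0f1.e57, Cfsg.Agent.KO1d3c0f1.e77, Cfsg.Agent.KO1d3c0f1.e76, Cfsg.Agent.KO1d3c0f1.e7.{1}, Cfsg.Agent.KO1d3c0f1.e41, Cfsg.Agent.KO1d3c0f1.e20]; decide +kernel) | decide +kernel)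

theorem two_eq_zero {F : Type*} [Field F] {ω : F} (h : ω ^ 2 = ω + 1)
    (hF : ∀ x : F, x = 0 ∨ x = 1 ∨ x = ω ∨ x = ω + 1) : (2 : F) = 0 := by
  rcases hF 2 with h2 | h2 | h2 | h2
  · exact h2
  · exact absurd (show (1 : F) = 0 by linear_combination h2) one_ne_zero
  · rw [← h2] at h
    exact absurd (show (1 : F) = 0 by linear_combination h) one_ne_zero
  · have h1 : ω = 1 := by linear_combination -h2
    rw [h1] at h
    exact absurd (show (1 : F) = 0 by linear_combination -h) one_ne_zero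

theorem mat_eq {F : Type*} [Field F] (ω : F) {c : List ℕ} {N : ℕ} (hN : ∀ k < 64, ent N k = c.getD k 0) :
    OD.mat ω c = matN ω N := by
  ext i j
  have hi : OD.ix i < 8 := by rcases i with i | i <;> simp only [OD.ix] <;> omega
  have hj : OD.ix j < 8 := by rcases j with j | j <;> simp only [OD.ix] <;> omega
  show OD.val ω _ = OD.val ω _
  rw [hN _ (by omega)]

theorem matN_one {F : Type*} [Field F] (ω : F) : matN ω one = 1 := by
  ext i j
  show OD.val ω _ = _
  rw [one_spec, Matrix.one_apply]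
  split_ifs <;> rfl

/-- the elements `a_r`, `b_r` generate `Ω₈⁺(4)` -/
theorem gen {F : Type*} [Field F] {ω : F} (h : ω ^ 2 = ω + 1)
    (hF : ∀ x : F, x = 0 ∨ x = 1 ∨ x = ω ∨ x = ω + 1)
    (K : Subgroup (isometryGroup F (quadFormPlus 4 F)))
    (hA : ∀ i, ∃ g ∈ K, ((g : Matrix.GeneralLinearGroup (Fin 4 ⊕ Fin 4) F) :
      Matrix (Fin 4 ⊕ Fin 4) (Fin 4 ⊕ Fin 4) F) = OD.mat ω (OD.cA i))
    (hB : ∀ i, ∃ g ∈ K, ((g : Matrix.GeneralLinearGroup (Fin 4 ⊕ Fin 4) F) :
      Matrix (Fin 4 ⊕ Fin 4) (Fin 4 ⊕ Fin 4) F) = OD.mat ω (OD.cB i)) :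
    Omega F (quadFormPlus 4 F) ≤ K := by
  have h2 := two_eq_zero h hF
  -- the numbers of elements of `K`
  let P : ℕ → Prop := fun N => ∃ g ∈ K, ((g : Matrix.GeneralLinearGroup (Fin 4 ⊕ Fin 4) F) :
      Matrix (Fin 4 ⊕ Fin 4) (Fin 4 ⊕ Fin 4) F) = matN ω N
  have P1 : P one := ⟨1, K.one_mem, by rw [matN_one]; rfl⟩
  have Pmul : ∀ A B C, P A → P B → chk A B C = true → P C := by
    rintro A B C ⟨g, hg, hgA⟩ ⟨g', hg', hgB⟩ hc
    refine ⟨g * g', K.mul_mem hg hg', ?_⟩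
    rw [← matN_mul h h2 hc, ← hgA, ← hgB]
    rfl
  have Pb : ∀ N ∈ base, P N := by
    intro N hN
    rcases base_spec N hN with rfl | ⟨r, rfl⟩ | ⟨r, rfl⟩
    · exact P1
    · obtain ⟨g, hg, hgA⟩ := hA r
      exact ⟨g, hg, by rw [hgA, mat_eq ω (nA_spec r)]⟩
    · obtain ⟨g, hg, hgB⟩ := hB r
      exact ⟨g, hg, by rw [hgB, mat_eq ω (nB_spec r)]⟩
  have Pp := run_sound P P1 Pmul prog base Pb run_prog
  -- all root elements lie in `K`
  have key : ∀ x ∈ (plusForm 4 F).gens ∅, x ∈ K.map (isometryGroup F (quadFormPlus 4 F)).subtype := by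
    rintro x ⟨i, -, -, j, -, hji, hjb, t, hx⟩
    obtain ⟨c, hc, rfl⟩ : ∃ c < 4, OD.val ω c = t := by
      rcases hF t with rfl | rfl | rfl | rfl
      · exact ⟨0, by norm_num, rfl⟩
      · exact ⟨1, by norm_num, rfl⟩
      · exact ⟨2, by norm_num, rfl⟩
      · exact ⟨3, by norm_num, rfl⟩
    have hjb' : j ≠ br i := hjb
    have hPN : P (sgN i j c) := by
      rcases sgN_mem i j hji hjb' c hc with hm | hm
      · exact Pb _ hm
      · obtain ⟨y, hy, hy'⟩ := List.mem_map.1 hm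
        rw [← hy']
        exact Pp y hy
    obtain ⟨g, hg, hgN⟩ := hPN
    refine ⟨g, hg, ?_⟩
    apply ext_single
    intro b
    rw [hx]
    show ((g : Matrix.GeneralLinearGroup (Fin 4 ⊕ Fin 4) F) :
      Matrix (Fin 4 ⊕ Fin 4) (Fin 4 ⊕ Fin 4) F).mulVec _ = _
    rw [hgN, Matrix.mulVec_single_one]
    ext a
    rw [HypForm.sgl_def]
    have e1 : (plusForm 4 F).B (Pi.single i 1) (Pi.single b 1) = if b = br i then 1 else 0 := by
      rw [HypForm.B_single _ i (Set.mem_univ _)]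
      show (Pi.single b 1 : Fin 4 ⊕ Fin 4 → F) (br i) = _
      rw [Pi.single_apply]
      simp only [eq_comm]
    have e2 : (plusForm 4 F).B (OD.val ω c • Pi.single j 1) (Pi.single b 1) =
        if b = br j then OD.val ω c else 0 := by
      rw [HypForm.B_smul, HypForm.B_single _ j (Set.mem_univ _)]
      show OD.val ω c * (Pi.single b 1 : Fin 4 ⊕ Fin 4 → F) (br j) = _
      rw [Pi.single_apply]
      simp only [eq_comm, mul_ite, mul_one, mul_zero]
    have e3 : (plusForm 4 F).Q (OD.val ω c • Pi.single j 1) = 0 := by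
      rw [HypForm.Q_smul, HypForm.Q_single _ j (Set.mem_univ _), mul_zero]
    rw [e1, e2, e3, zero_mul, zero_smul, sub_zero]
    simp only [Pi.add_apply, Pi.sub_apply, Pi.smul_apply, smul_eq_mul, Matrix.col_apply, matN,
      Matrix.of_apply, sgN_ent i j hji hjb' c hc, Pi.single_apply]
    have hib : i ≠ br j := by
      intro hh
      apply hjb'
      rw [hh]
      rcases j with j | j <;> rfl
    by_cases hab : a = b
    · subst hab
      have n1 : ¬ (a = br i ∧ a = j) := fun hh => hjb' (hh.2.symm.trans hh.1)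
      have n2 : ¬ (a = br j ∧ a = i) := fun hh => hib (hh.2.symm.trans hh.1)
      have z1 : (if a = br i then (1 : F) else 0) * (OD.val ω c * if a = j then 1 else 0) = 0 := by
        by_cases h1 : a = br i
        · rw [if_neg (fun hh => n1 ⟨h1, hh⟩), mul_zero, mul_zero]
        · rw [if_neg h1, zero_mul]
      have z2 : (if a = br j then OD.val ω c else 0) * (if a = i then (1 : F) else 0) = 0 := by
        by_cases h1 : a = br j
        · rw [if_neg (fun hh => n2 ⟨h1, hh⟩), mul_zero]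
        · rw [if_neg h1, zero_mul]
      rw [z1, z2, if_pos rfl, if_pos rfl]
      simp [OD.val]
    · rw [if_neg hab, if_neg hab]
      by_cases h1 : a = j ∧ b = br i
      · rw [if_pos (Or.inl h1), if_pos h1.1, if_pos h1.2, if_neg (fun hh => hji (h1.1.symm.trans hh))]
        simp
      · by_cases h3 : a = i ∧ b = br j
        · have n1 : ¬ (a = j) := fun hh => hji (hh.symm.trans h3.1)
          rw [if_pos (Or.inr h3), if_pos h3.1, if_pos h3.2, if_neg n1]
          linear_combination OD.val ω c * h2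
        · rw [if_neg (fun hh => hh.elim h1 h3)]
          have z1 : (if b = br i then (1 : F) else 0) * (OD.val ω c * if a = j then 1 else 0) = 0 := by
            by_cases h4 : b = br i
            · rw [if_neg (fun hh => h1 ⟨hh, h4⟩), mul_zero, mul_zero]
            · rw [if_neg h4, zero_mul]
          have z2 : (if b = br j then OD.val ω c else 0) * (if a = i then (1 : F) else 0) = 0 := by
            by_cases h4 : b = br j
            · rw [if_neg (fun hh => h3 ⟨hh, h4⟩), mul_zero]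
            · rw [if_neg h4, zero_mul]
          rw [z1, z2]
          simp [OD.val]
  rw [omega_plus 4 (by norm_num)]
  intro x hx
  have hx' : (x : Matrix.GeneralLinearGroup (Fin 4 ⊕ Fin 4) F) ∈
      K.map (isometryGroup F (quadFormPlus 4 F)).subtype :=
    (Subgroup.closure_le _).2 key hx
  obtain ⟨y, hy, hyx⟩ := hx'
  rwa [← Subtype.ext hyx]

end Cfsg.Agent.H342.EE
end

-- part: H893/EE/F4Code
section
/-!
# Arithmetic of `8 × 8` matrices over the field with four elements, evaluated by the kernel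

A row of eight elements of `F = {0, 1, ω, ω + 1}` is a natural number below `4 ^ 8` (the digit `j` in base 4 is the code
of the entry `j`); a matrix is a list of eight rows. `bm ω rs` is the matrix; `bm_mul` : products are `mulB`
(evaluated by `decide +kernel`), `mat_eq` : `mat ω c = bm ω rs` by the check `chk c rs`, `bm_ne` : inequality.
-/

set_option autoImplicit false

namespace Cfsg.Agent.H893.EE

open Cfsg.Agent.H865.EE Cfsg.Agent.H865.EE.OD Matrix

section
variable {F : Type*} [Field F]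

/-- the entry `j` of a row code -/
def bv (ω : F) (r j : ℕ) : F := (if r.testBit (2 * j) then 1 else 0) + (if r.testBit (2 * j + 1) then ω else 0)

/-- the matrix of a list of row codes -/
def bm (ω : F) (rs : List ℕ) : Matrix (Fin 4 ⊕ Fin 4) (Fin 4 ⊕ Fin 4) F :=
  Matrix.of fun i j => bv ω (rs.getD (ix i) 0) (ix j)

/-- multiplication of a row by `ω` -/
def mw (r : ℕ) : ℕ := ((r &&& 43690) >>> 1) ^^^ ((r &&& 43690) ^^^ ((r &&& 21845) <<< 1))

/-- row times matrix -/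
def vm : ℕ → List ℕ → ℕ
  | _, [] => 0
  | r, s :: ss => (cond (r.testBit 0) s 0) ^^^ ((cond (r.testBit 1) (mw s) 0) ^^^ vm (r >>> 2) ss)

/-- the product of two matrices -/
def mulB (rs ss : List ℕ) : List ℕ := rs.map fun r => vm r ss

/-- the identity matrix -/
def oneB : List ℕ := [1, 4, 16, 64, 256, 1024, 4096, 16384]

theorem ix_lt (i : Fin 4 ⊕ Fin 4) : ix i < 8 := by
  rcases i with i | i <;> simp only [ix] <;> omega

theorem ix_inj {i j : Fin 4 ⊕ Fin 4} (h : ix i = ix j) : i = j := by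
  rcases i with i | i <;> rcases j with j | j <;> simp only [ix] at h
  · rw [Fin.ext h]
  · omega
  · omega
  · rw [Fin.ext (by omega : (i : ℕ) = j)]

theorem exists_ix {k : ℕ} (hk : k < 8) : ∃ i : Fin 4 ⊕ Fin 4, ix i = k := by
  by_cases h : k < 4
  · exact ⟨.inl ⟨k, h⟩, rfl⟩
  · exact ⟨.inr ⟨k - 4, by omega⟩, by simp only [ix]; omega⟩

theorem bv_zero (ω : F) (j : ℕ) : bv ω 0 j = 0 := by simp [bv]

theorem ite_xor (h2 : ∀ x : F, x + x = 0) (a b : Bool) (x : F) :
    (if (a ^^ b) = true then x else 0) = (if a = true then x else 0) + (if b = true then x else 0) := by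
  cases a <;> cases b <;> simp [h2]

theorem bv_xor (h2 : ∀ x : F, x + x = 0) (ω : F) (r s j : ℕ) : bv ω (r ^^^ s) j = bv ω r j + bv ω s j := by
  unfold bv
  rw [Nat.testBit_xor, Nat.testBit_xor, ite_xor h2, ite_xor h2]
  ring

theorem mask_a (i : ℕ) : (43690 : ℕ).testBit i = (decide (i < 16) && decide (i % 2 = 1)) := by
  by_cases h : i < 16
  · interval_cases i <;> decide
  · rw [Nat.testBit_lt_two_pow (lt_of_lt_of_le (by norm_num : (43690 : ℕ) < 2 ^ 16) (Nat.pow_le_pow_right (by norm_num) (by omega)))]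
    simp [h]

theorem mask_b (i : ℕ) : (21845 : ℕ).testBit i = (decide (i < 16) && decide (i % 2 = 0)) := by
  by_cases h : i < 16
  · interval_cases i <;> decide
  · rw [Nat.testBit_lt_two_pow (lt_of_lt_of_le (by norm_num : (21845 : ℕ) < 2 ^ 16) (Nat.pow_le_pow_right (by norm_num) (by omega)))]
    simp [h]

theorem mw_even (r : ℕ) {j : ℕ} (hj : j < 8) : (mw r).testBit (2 * j) = r.testBit (2 * j + 1) := by
  unfold mw
  rw [Nat.testBit_xor, Nat.testBit_xor, Nat.testBit_shiftRight, Nat.testBit_and, Nat.testBit_and,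
    Nat.testBit_shiftLeft, Nat.testBit_and, mask_a, mask_a, mask_b]
  have e1 : decide (1 + 2 * j < 16) = true := by simp; omega
  have e2 : decide ((1 + 2 * j) % 2 = 1) = true := by simp
  have e3 : decide (2 * j % 2 = 1) = false := by simp
  rw [e1, e2, e3]
  by_cases h0 : j = 0
  · subst h0
    simp only [_root_.MulZeroClass.mul_zero, _root_.add_zero, _root_.Bool.and_self, _root_.Bool.and_true, _root_.Nat.testBit_zero, _root_.Nat.ofNat_pos, _root_.decide_true, _root_.Bool.and_false, _root_.ge_iff_le, _root_.nonpos_iff_eq_zero, _root_.one_ne_zero, _root_.decide_false, _root_.zero_tsub, _root_.Nat.zero_mod, _root_.Bool.false_and, _root_.bne_self_eq_false, _root_.Bool.bne_false, _root_.zero_add]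
  · have e4 : decide ((2 * j - 1) % 2 = 0) = false := by simp; omega
    rw [e4]
    simp only [Nat.add_comm, _root_.Bool.and_self, _root_.Bool.and_true, _root_.Bool.and_false, _root_.ge_iff_le, _root_.bne_self_eq_false, _root_.Bool.bne_false]

theorem mw_odd (r : ℕ) {j : ℕ} (hj : j < 8) :
    (mw r).testBit (2 * j + 1) = (r.testBit (2 * j + 1) ^^ r.testBit (2 * j)) := by
  unfold mw
  rw [Nat.testBit_xor, Nat.testBit_xor, Nat.testBit_shiftRight, Nat.testBit_and, Nat.testBit_and,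
    Nat.testBit_shiftLeft, Nat.testBit_and, mask_a, mask_a, mask_b]
  have e1 : decide (2 * j + 1 < 16) = true := by simp; omega
  have e2 : decide ((1 + (2 * j + 1)) % 2 = 1) = false := by simp; omega
  have e3 : decide ((2 * j + 1) % 2 = 1) = true := by simp
  have e4 : decide ((2 * j + 1 - 1) % 2 = 0) = true := by simp
  have e5 : decide (2 * j + 1 - 1 < 16) = true := by simp; omega
  have e6 : decide (2 * j + 1 ≥ 1) = true := by simp
  rw [e1, e2, e3, e4, e5, e6]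
  simp

/-- `mw` is multiplication by `ω` -/
theorem bv_mw (h2 : ∀ x : F, x + x = 0) {ω : F} (hω : ω * ω = ω + 1) (r : ℕ) {j : ℕ} (hj : j < 8) :
    bv ω (mw r) j = ω * bv ω r j := by
  unfold bv
  rw [mw_even r hj, mw_odd r hj, ite_xor h2]
  cases r.testBit (2 * j) <;> cases r.testBit (2 * j + 1) <;> simp only [hω, mul_add, _root_.Bool.false_eq_true, ↓ _root_.reduceIte, _root_.add_zero, _root_.MulZeroClass.mul_zero, _root_.zero_add, _root_.mul_one]
  · ring
  · ring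

theorem bv_cond (ω : F) (b : Bool) (r j : ℕ) : bv ω (cond b r 0) j = (if b = true then 1 else 0) * bv ω r j := by
  cases b
  · simp [bv_zero]
  · simp

theorem bv_vm (h2 : ∀ x : F, x + x = 0) {ω : F} (hω : ω * ω = ω + 1) (ss : List ℕ) :
    ∀ (r : ℕ) {j : ℕ}, j < 8 →
      bv ω (vm r ss) j = ∑ l ∈ Finset.range ss.length, bv ω r l * bv ω (ss.getD l 0) j := by
  induction ss with
  | nil => intro r j _; simp [vm, bv_zero]
  | cons s ss ih =>
    intro r j hj
    rw [vm, bv_xor h2, bv_xor h2, bv_cond, bv_cond, bv_mw h2 hω _ hj, ih _ hj, List.length_cons, Finset.sum_range_succ']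
    have e : ∀ l, bv ω (r >>> 2) l = bv ω r (l + 1) := by
      intro l
      unfold bv
      rw [Nat.testBit_shiftRight, Nat.testBit_shiftRight, show 2 + 2 * l = 2 * (l + 1) by ring,
        show 2 + (2 * l + 1) = 2 * (l + 1) + 1 by ring]
    have e' : bv ω r 0 = (if r.testBit 0 = true then 1 else 0) + (if r.testBit 1 = true then 1 else 0) * ω := by
      unfold bv
      cases r.testBit (2 * 0 + 1) <;> simp_all only [_root_.List.getD_eq_getElem?_getD, _root_.MulZeroClass.mul_zero, _root_.Nat.testBit_zero, _root_.decide_eq_true_eq, _root_.Bool.false_eq_true, ↓ _root_.reduceIte, _root_.add_zero, _root_.MulZeroClass.zero_mul, _root_.one_mul]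
    simp only [e, List.getD_cons_succ, List.getD_cons_zero, e']
    ring

theorem vm_zero (ss : List ℕ) : vm 0 ss = 0 := by
  induction ss with
  | nil => rfl
  | cons s ss ih => simp [vm, ih]

theorem sum_ix {M : Type*} [AddCommMonoid M] (f : ℕ → M) : ∑ l ∈ Finset.range 8, f l = ∑ i : Fin 4 ⊕ Fin 4, f (ix i) := by
  rw [Fintype.sum_sum_type, Fin.sum_univ_four, Fin.sum_univ_four]
  simp only [Finset.sum_range_succ, Finset.sum_range_zero, zero_add, ix, add_assoc]
  rfl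

/-- products of matrices of codes -/
theorem bm_mul (h2 : ∀ x : F, x + x = 0) {ω : F} (hω : ω * ω = ω + 1) (rs ss : List ℕ) (hs : ss.length = 8) :
    bm ω rs * bm ω ss = bm ω (mulB rs ss) := by
  ext i j
  rw [Matrix.mul_apply]
  show ∑ l, bv ω (rs.getD (ix i) 0) (ix l) * bv ω (ss.getD (ix l) 0) (ix j) = bv ω ((mulB rs ss).getD (ix i) 0) (ix j)
  have : (mulB rs ss).getD (ix i) 0 = vm (rs.getD (ix i) 0) ss := by
    unfold mulB
    have h := List.getD_map (l := rs) (n := ix i) (d := 0) (fun r => vm r ss)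
    simp only [vm_zero] at h
    exact h
  rw [this, bv_vm h2 hω ss _ (ix_lt j), hs, sum_ix fun l => bv ω (rs.getD (ix i) 0) l * bv ω (ss.getD l 0) (ix j)]

theorem bm_one (ω : F) : bm ω oneB = 1 := by
  ext i j
  show bv ω (oneB.getD (ix i) 0) (ix j) = _
  have key : ∀ k < 8, ∀ l < 8, (oneB.getD k 0).testBit (2 * l) = decide (k = l) ∧
      (oneB.getD k 0).testBit (2 * l + 1) = false := by decide +kernel
  obtain ⟨h1, h2⟩ := key _ (ix_lt i) _ (ix_lt j)
  unfold bv
  rw [h1, h2, Matrix.one_apply]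
  by_cases h : i = j
  · subst h; simp
  · have : ix i ≠ ix j := fun h' => h (ix_inj h')
    simp [h, this]

/-- the check that the code list `c` has the rows `rs` -/
def chk (c rs : List ℕ) : Bool :=
  (List.range 8).all fun i => (List.range 8).all fun j => decide (c.getD (8 * i + j) 0 = ((rs.getD i 0) >>> (2 * j)) % 4)

theorem val_eq (ω : F) (r j : ℕ) : val ω ((r >>> (2 * j)) % 4) = bv ω r j := by
  have e1 : r.testBit (2 * j) = ((r >>> (2 * j)) % 4).testBit 0 := by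
    rw [show (4 : ℕ) = 2 ^ 2 by norm_num, Nat.testBit_mod_two_pow, Nat.testBit_shiftRight]
    simp
  have e2 : r.testBit (2 * j + 1) = ((r >>> (2 * j)) % 4).testBit 1 := by
    rw [show (4 : ℕ) = 2 ^ 2 by norm_num, Nat.testBit_mod_two_pow, Nat.testBit_shiftRight]
    simp
  unfold bv
  rw [e1, e2]
  have h4 : (r >>> (2 * j)) % 4 < 4 := Nat.mod_lt _ (by norm_num)
  generalize (r >>> (2 * j)) % 4 = k at h4
  have a10 : (1 : ℕ).testBit 0 = true := by decide
  have a11 : (1 : ℕ).testBit 1 = false := by decide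
  have a20 : (2 : ℕ).testBit 0 = false := by decide
  have a21 : (2 : ℕ).testBit 1 = true := by decide
  have a30 : (3 : ℕ).testBit 0 = true := by decide
  have a31 : (3 : ℕ).testBit 1 = true := by decide
  interval_cases k
  · simp [val]
  · rw [a10, a11]; simp [val]
  · rw [a20, a21]; simp [val]
  · rw [a30, a31]; simp [val, add_comm]

/-- from the list of 64 codes to the list of rows -/
theorem mat_eq (ω : F) {c rs : List ℕ} (h : chk c rs = true) : mat ω c = bm ω rs := by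
  unfold chk at h
  rw [List.all_eq_true] at h
  ext i j
  have h1 := h (ix i) (List.mem_range.2 (ix_lt i))
  rw [List.all_eq_true] at h1
  have h2 := h1 (ix j) (List.mem_range.2 (ix_lt j))
  rw [decide_eq_true_eq] at h2
  show val ω (c.getD (8 * ix i + ix j) 0) = bv ω (rs.getD (ix i) 0) (ix j)
  rw [h2, val_eq]

theorem bv_inj_aux {ω : F} (h0 : ω ≠ 0) (h1 : ω ≠ 1) (h11 : ω + 1 ≠ 0) (a b c d : Bool)
    (h : ((if a = true then 1 else 0) + (if b = true then ω else 0) : F) =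
      (if c = true then 1 else 0) + (if d = true then ω else 0)) : a = c ∧ b = d := by
  have h3 : (1 : F) + ω ≠ 0 := by rwa [add_comm]
  revert h
  cases a <;> cases b <;> cases c <;> cases d <;> simp [h0, h1, h3, h0.symm, h1.symm, h3.symm]

/-- the entries determine the bits -/
theorem bv_inj {ω : F} (h0 : ω ≠ 0) (h1 : ω ≠ 1) (h11 : ω + 1 ≠ 0) {r s i j : ℕ} (h : bv ω r i = bv ω s j) :
    r.testBit (2 * i) = s.testBit (2 * j) ∧ r.testBit (2 * i + 1) = s.testBit (2 * j + 1) :=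
  bv_inj_aux h0 h1 h11 _ _ _ _ h

/-- matrices of codes are equal only if the (reduced) codes are -/
theorem bm_inj {ω : F} (h0 : ω ≠ 0) (h1 : ω ≠ 1) (h11 : ω + 1 ≠ 0) {rs ss : List ℕ} (h : bm ω rs = bm ω ss)
    (hr : rs.length = 8) (hs : ss.length = 8) (hr' : ∀ r ∈ rs, r < 65536) (hs' : ∀ r ∈ ss, r < 65536) : rs = ss := by
  apply List.ext_getElem (by rw [hr, hs])
  intro k hk hk'
  obtain ⟨i, hi⟩ := exists_ix (k := k) (by omega)
  apply Nat.eq_of_testBit_eq
  intro l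
  by_cases hl : l < 16
  · obtain ⟨j, hj⟩ := exists_ix (k := l / 2) (by omega)
    have h2 := congrFun (congrFun h i) j
    have h3 : bv ω (rs.getD (ix i) 0) (ix j) = bv ω (ss.getD (ix i) 0) (ix j) := h2
    obtain ⟨h4, h5⟩ := bv_inj h0 h1 h11 h3
    rw [hi, hj, List.getD_eq_getElem _ _ hk, List.getD_eq_getElem _ _ hk'] at h4 h5
    rcases Nat.mod_two_eq_zero_or_one l with hm | hm
    · rwa [show 2 * (l / 2) = l by omega] at h4
    · rwa [show 2 * (l / 2) + 1 = l by omega] at h5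
  · have h16 : (65536 : ℕ) = 2 ^ 16 := by norm_num
    have e : ∀ x < 65536, Nat.testBit x l = false := fun x hx =>
      Nat.testBit_lt_two_pow (hx.trans_le (h16.le.trans (Nat.pow_le_pow_right (by norm_num) (by omega))))
    rw [e _ (hr' _ (List.getElem_mem hk)), e _ (hs' _ (List.getElem_mem hk'))]

/-- the check for `bm_inj` -/
def okB (rs : List ℕ) : Bool := decide (rs.length = 8) && rs.all fun r => decide (r < 65536)

theorem bm_ne {ω : F} (h0 : ω ≠ 0) (h1 : ω ≠ 1) (h11 : ω + 1 ≠ 0) {rs ss : List ℕ}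
    (h : (okB rs && okB ss && decide (rs ≠ ss)) = true) : bm ω rs ≠ bm ω ss := by
  unfold okB at h
  simp only [Bool.and_eq_true, decide_eq_true_eq, List.all_eq_true] at h
  obtain ⟨⟨⟨h2, h3⟩, h4, h5⟩, h6⟩ := h
  exact fun he => h6 (bm_inj h0 h1 h11 he h2 h4 h3 h5)

/-- the check that `ts` is the transpose of `rs` -/
def isTr (rs ts : List ℕ) : Bool :=
  (List.range 8).all fun i => (List.range 8).all fun j =>
    decide (((ts.getD j 0) >>> (2 * i)) % 4 = ((rs.getD i 0) >>> (2 * j)) % 4)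

theorem bm_tr (ω : F) {rs ts : List ℕ} (h : isTr rs ts = true) : (bm ω rs)ᵀ = bm ω ts := by
  unfold isTr at h
  rw [List.all_eq_true] at h
  ext j i
  have h1 := h (ix i) (List.mem_range.2 (ix_lt i))
  rw [List.all_eq_true] at h1
  have h2 := h1 (ix j) (List.mem_range.2 (ix_lt j))
  rw [decide_eq_true_eq] at h2
  show bv ω (rs.getD (ix i) 0) (ix j) = bv ω (ts.getD (ix j) 0) (ix i)
  rw [← val_eq, ← val_eq, h2]

/-- sums of matrices of codes -/
def addB (rs ss : List ℕ) : List ℕ := List.zipWith (fun r s => r ^^^ s) rs ss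

theorem bm_add (h2 : ∀ x : F, x + x = 0) (ω : F) {rs ss : List ℕ} (hr : rs.length = 8) (hs : ss.length = 8) :
    bm ω rs + bm ω ss = bm ω (addB rs ss) := by
  ext i j
  show bv ω (rs.getD (ix i) 0) (ix j) + bv ω (ss.getD (ix i) 0) (ix j) = bv ω ((addB rs ss).getD (ix i) 0) (ix j)
  rw [← bv_xor h2]
  congr 1
  have hi := ix_lt i
  have h3 : ix i < (addB rs ss).length := by
    unfold addB
    rw [List.length_zipWith]; omega
  rw [List.getD_eq_getElem _ _ (by omega), List.getD_eq_getElem _ _ (by omega), List.getD_eq_getElem _ _ h3]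
  exact (List.getElem_zipWith (h := h3)).symm

/-! ### the quadratic form `∑ x_i y_i` -/

/-- the matrix `P` with `Q(v) = v ⬝ᵥ P *ᵥ v` -/
def pB : List ℕ := [256, 1024, 4096, 16384, 0, 0, 0, 0]

theorem quad_eq (ω : F) (v : Fin 4 ⊕ Fin 4 → F) : Cfsg.quadFormPlus 4 F v = v ⬝ᵥ (bm ω pB *ᵥ v) := by
  have key : ∀ k < 8, ∀ l < 8, (pB.getD k 0).testBit (2 * l) = decide (k + 4 = l) ∧
      (pB.getD k 0).testBit (2 * l + 1) = false := by decide +kernel
  have e : ∀ i j, bm ω pB i j = if ix i + 4 = ix j then 1 else 0 := by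
    intro i j
    show bv ω (pB.getD (ix i) 0) (ix j) = _
    obtain ⟨h1, h2⟩ := key _ (ix_lt i) _ (ix_lt j)
    unfold bv
    rw [h1, h2]
    simp
  unfold Cfsg.quadFormPlus
  simp only [dotProduct, mulVec, e, ite_mul, one_mul, zero_mul]
  rw [Fintype.sum_sum_type]
  have e2 : ∀ i : Fin 4, v (Sum.inr i) * ∑ j, (if ix (Sum.inr i) + 4 = ix j then v j else 0) = 0 := by
    intro i
    rw [Finset.sum_eq_zero, mul_zero]
    intro j _
    rw [if_neg]
    have := ix_lt j
    show ¬ (4 + (i : ℕ) + 4 = ix j)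
    omega
  rw [Finset.sum_eq_zero (fun i _ => e2 i), add_zero]
  refine Finset.sum_congr rfl fun i _ => ?_
  congr 1
  rw [Finset.sum_eq_single (Sum.inr i)]
  · simp [ix, add_comm]
  · intro j _ hj
    rw [if_neg]
    intro h
    apply hj
    rcases j with j | j
    · simp only [ix] at h; omega
    · simp only [ix] at h
      rw [Fin.ext (by omega : (i : ℕ) = j)]
  · simp

/-- alternating matrices -/
theorem alt_zero (h2 : ∀ x : F, x + x = 0) {A : Matrix (Fin 4 ⊕ Fin 4) (Fin 4 ⊕ Fin 4) F} (hA : Aᵀ = A)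
    (hd : ∀ i, A i i = 0) (v : Fin 4 ⊕ Fin 4 → F) : v ⬝ᵥ (A *ᵥ v) = 0 := by
  simp only [dotProduct, mulVec, Finset.mul_sum]
  rw [← Finset.sum_product']
  apply Finset.sum_involution (fun x _ => (x.2, x.1))
  · intro x _
    have : A x.2 x.1 = A x.1 x.2 := by
      conv_rhs => rw [← hA]
      rfl
    simp only [this]
    rw [show v x.2 * (A x.1 x.2 * v x.1) = v x.1 * (A x.1 x.2 * v x.2) by ring]
    exact h2 _
  · intro x _ hx hx'
    apply hx
    have : x.2 = x.1 := congrArg Prod.fst hx'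
    rw [this, hd, zero_mul, mul_zero]
  · intro x _; exact Finset.mem_univ _
  · intro x _; rfl

/-- the check that `rs` (with transpose `ts`) preserves the quadratic form -/
def isoB (rs ts : List ℕ) : Bool :=
  let A := addB (mulB ts (mulB pB rs)) pB
  isTr rs ts && isTr A A && (List.range 8).all fun i => decide (((A.getD i 0) >>> (2 * i)) % 4 = 0)

theorem iso_of (h2 : ∀ x : F, x + x = 0) {ω : F} (hω : ω * ω = ω + 1) {rs ts : List ℕ} (hr : rs.length = 8)
    (ht : ts.length = 8) (h : isoB rs ts = true) (v : Fin 4 ⊕ Fin 4 → F) :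
    Cfsg.quadFormPlus 4 F (bm ω rs *ᵥ v) = Cfsg.quadFormPlus 4 F v := by
  unfold isoB at h
  simp only [Bool.and_eq_true, List.all_eq_true, decide_eq_true_eq] at h
  obtain ⟨⟨h3, h4⟩, h5⟩ := h
  set A := addB (mulB ts (mulB pB rs)) pB with hA
  have e0 : (mulB pB rs).length = 8 := by simp [mulB, pB]
  have e1 : (mulB ts (mulB pB rs)).length = 8 := by simp [mulB, ht]
  have e2 : bm ω (mulB ts (mulB pB rs)) + bm ω pB = bm ω A := bm_add h2 ω e1 rfl
  have e3 : bm ω (mulB ts (mulB pB rs)) = bm ω A + bm ω pB := by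
    rw [← e2, add_assoc]
    have : bm ω pB + bm ω pB = 0 := by
      ext i j; exact h2 _
    rw [this, add_zero]
  rw [← bm_mul h2 hω _ _ e0, ← bm_mul h2 hω _ _ hr, ← bm_tr ω h3] at e3
  rw [quad_eq ω, quad_eq ω]
  have e4 : (bm ω rs *ᵥ v) ⬝ᵥ (bm ω pB *ᵥ (bm ω rs *ᵥ v)) = v ⬝ᵥ (((bm ω rs)ᵀ * (bm ω pB * bm ω rs)) *ᵥ v) := by
    rw [← Matrix.mulVec_mulVec, ← Matrix.mulVec_mulVec, dotProduct_comm (bm ω rs *ᵥ v), Matrix.dotProduct_mulVec,
      dotProduct_comm v, Matrix.mulVec_transpose]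
  rw [e4, e3, Matrix.add_mulVec, dotProduct_add, alt_zero h2 (bm_tr ω h4), zero_add]
  intro i
  show bv ω (A.getD (ix i) 0) (ix i) = 0
  rw [← val_eq, h5 _ (List.mem_range.2 (ix_lt i))]
  rfl

/-- the check that `rs` (inverse `rs'`, transpose `ts`) is an isometry -/
def okE (rs rs' ts : List ℕ) : Bool :=
  decide (rs.length = 8) && decide (rs'.length = 8) && decide (ts.length = 8) && decide (mulB rs rs' = oneB) &&
    decide (mulB rs' rs = oneB) && isoB rs ts

/-- the isometry with a given matrix of codes -/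
def isoE (h2 : ∀ x : F, x + x = 0) {ω : F} (hω : ω * ω = ω + 1) {rs rs' ts : List ℕ} (h : okE rs rs' ts = true) :
    ↥(Cfsg.isometryGroup F (Cfsg.quadFormPlus 4 F)) :=
  ⟨⟨bm ω rs, bm ω rs', by
      unfold okE at h
      simp only [Bool.and_eq_true, decide_eq_true_eq] at h
      obtain ⟨⟨⟨⟨⟨h3, h4⟩, h5⟩, h6⟩, h7⟩, h8⟩ := h
      rw [bm_mul h2 hω _ _ h4, h6, bm_one], by
      unfold okE at h
      simp only [Bool.and_eq_true, decide_eq_true_eq] at h
      obtain ⟨⟨⟨⟨⟨h3, h4⟩, h5⟩, h6⟩, h7⟩, h8⟩ := h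
      rw [bm_mul h2 hω _ _ h3, h7, bm_one]⟩, by
    unfold okE at h
    simp only [Bool.and_eq_true, decide_eq_true_eq] at h
    obtain ⟨⟨⟨⟨⟨h3, h4⟩, h5⟩, h6⟩, h7⟩, h8⟩ := h
    intro u _
    exact iso_of h2 hω h3 h5 h8 u⟩

theorem iso_ext {x y : ↥(Cfsg.isometryGroup F (Cfsg.quadFormPlus 4 F))}
    (h : ((x : Matrix.GeneralLinearGroup (Fin 4 ⊕ Fin 4) F) : Matrix (Fin 4 ⊕ Fin 4) (Fin 4 ⊕ Fin 4) F) =
      ((y : Matrix.GeneralLinearGroup (Fin 4 ⊕ Fin 4) F) : Matrix (Fin 4 ⊕ Fin 4) (Fin 4 ⊕ Fin 4) F)) : x = y :=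
  Subtype.ext (Units.ext h)

end

/-! ### the field with four elements -/

theorem exists_omega {F : Type*} [Field F] [Fintype F] (hF : Fintype.card F = 4) :
    (∀ x : F, x + x = 0) ∧ ∃ ω : F, ω * ω = ω + 1 ∧ ω ≠ 0 ∧ ω ≠ 1 ∧ ω + 1 ≠ 0 := by
  have h2 : ∀ x : F, x + x = 0 := by
    have h4 : (4 : F) = 0 := by
      have := FiniteField.cast_card_eq_zero F
      rw [hF] at this
      exact_mod_cast this
    have h5 : (2 : F) * 2 = 0 := by linear_combination h4
    have h6 : (2 : F) = 0 := by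
      rcases mul_eq_zero.1 h5 with h | h <;> exact h
    intro x
    linear_combination x * h6
  refine ⟨h2, ?_⟩
  have h3 : ∃ ω : F, ω ≠ 0 ∧ ω ≠ 1 := by
    classical
    by_contra hcon
    push Not at hcon
    have hsub : (Finset.univ : Finset F) ⊆ {0, 1} := by
      intro x _
      by_cases h : x = 0
      · simp only [h, _root_.Finset.mem_insert, _root_.Finset.mem_singleton, _root_.zero_ne_one, _root_.or_false]
      · simp only [hcon x h, _root_.Finset.mem_insert, _root_.one_ne_zero, _root_.Finset.mem_singleton, _root_.or_true]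
    have := Finset.card_le_card hsub
    rw [Finset.card_univ, hF] at this
    have h7 : ({0, 1} : Finset F).card ≤ 2 := Finset.card_le_two
    omega
  obtain ⟨ω, h0, h1⟩ := h3
  have h11 : ω + 1 ≠ 0 := by
    intro h
    apply h1
    linear_combination h - h2 1
  refine ⟨ω, ?_, h0, h1, h11⟩
  have h8 : ω ^ 3 = 1 := by
    have := FiniteField.pow_card_sub_one_eq_one ω h0
    rwa [hF] at this
  have h9 : (ω - 1) * (ω * ω + ω + 1) = 0 := by linear_combination h8
  rcases mul_eq_zero.1 h9 with h | h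
  · exact absurd (sub_eq_zero.1 h) h1
  · linear_combination h - h2 (ω + 1)

end Cfsg.Agent.H893.EE
end

-- part: H893/EE/Elts
section
/-!
# The elements `a_i, b_i, e_i, n_i` of `Ω₈⁺(4)` (S3384, task T4a)

`rA, rB, rE, rN` : the row codes of the matrices of `H865/EE/OData.lean`. `Om F` : an element `ω` with `ω² = ω + 1` of a
field of characteristic 2; `elA, elB, elE, elN` : the isometries; they lie in `Ω` (`omA, omB, omE, omN`).
-/

set_option autoImplicit false

namespace Cfsg.Agent.H893.EE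

open Cfsg.Agent.H865.EE Cfsg.Agent.H865.EE.OD Matrix

/-- rows of `a_i` -/
def rA : Fin 4 → List ℕ := ![
  [1, 5, 16, 64, 1280, 1024, 4096, 16384],
  [30841, 54011, 34721, 11638, 40348, 19043, 61385, 27958],
  [1, 4, 16, 80, 256, 1024, 20480, 16384],
  [1, 4, 16, 64, 256, 1024, 4160, 16400]]

/-- rows of the transpose of `a_i` -/
def tA : Fin 4 → List ℕ := ![
  [5, 4, 16, 64, 256, 1280, 4096, 16384],
  [40093, 25418, 51695, 13933, 31096, 64466, 41351, 30253],
  [1, 4, 80, 64, 256, 1024, 4096, 20480],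
  [1, 4, 16400, 4160, 256, 1024, 4096, 16384]]

/-- rows of `b_i` -/
def rB : Fin 4 → List ℕ := ![
  [8, 7, 16, 64, 3328, 512, 4096, 16384],
  [25182, 24397, 9771, 62862, 45733, 59628, 29018, 46542],
  [1, 4, 128, 112, 256, 1024, 53248, 8192],
  [1, 4, 32768, 8192, 256, 1024, 4288, 16432]]

/-- rows of the transpose of `b_i` -/
def tB : Fin 4 → List ℕ := ![
  [12, 6, 16, 64, 2304, 768, 4096, 16384],
  [41398, 60911, 6689, 56965, 21102, 18524, 64486, 40645],
  [1, 4, 192, 96, 256, 1024, 36864, 12288],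
  [1, 4, 49152, 12288, 256, 1024, 4224, 16416]]

/-- rows of the inverse of `b_i` -/
def iB : Fin 4 → List ℕ := ![
  [9, 3, 16, 64, 3072, 1536, 4096, 16384],
  [28242, 23624, 59131, 50590, 46753, 61421, 8474, 34270],
  [1, 4, 144, 48, 256, 1024, 49152, 24576],
  [1, 4, 32784, 8256, 256, 1024, 192, 48]]

/-- rows of `e_i` -/
def rE : Fin 4 → List ℕ := ![
  [3342, 2317, 16, 64, 2315, 3337, 4096, 16384],
  [1295, 2825, 16, 64, 2823, 1290, 4096, 16384],
  [1, 4, 53472, 37072, 256, 1024, 37040, 53392],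
  [1, 4, 20720, 45200, 256, 1024, 45168, 20640]]

/-- rows of the transpose of `e_i` -/
def tE : Fin 4 → List ℕ := ![
  [1798, 2575, 16, 64, 1285, 3595, 4096, 16384],
  [2823, 2315, 16, 64, 1805, 1545, 4096, 16384],
  [1, 4, 28768, 41200, 256, 1024, 20560, 57520],
  [1, 4, 45168, 37040, 256, 1024, 28880, 24720]]

/-- rows of the inverse of `e_i` -/
def iE : Fin 4 → List ℕ := ![
  [1285, 2830, 16, 64, 1543, 3850, 4096, 16384],
  [3335, 2310, 16, 64, 1803, 2825, 4096, 16384],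
  [1, 4, 20560, 45280, 256, 1024, 24688, 61600],
  [1, 4, 53360, 36960, 256, 1024, 28848, 45200]]

/-- rows of `n_i` -/
def rN : Fin 4 → List ℕ := ![
  [5, 4, 16, 64, 256, 1280, 4096, 16384],
  [64717, 13073, 53193, 13141, 21828, 25425, 17476, 29461],
  [1, 4, 80, 64, 256, 1024, 4096, 20480],
  [1, 4, 16400, 4160, 256, 1024, 4096, 16384]]


private noncomputable def _root_.Cfsg.Agent.KO1d3c0f1.k18 : type_of% @Bool.decEq := @(fun x0 x1 => @Bool.rec.{1} @(fun x2 => @Decidable (@Eq.{1} _ @x2 @x1)) (@Bool.rec.{1} @(fun x2 => @Decidable (@Eq.{1} _ @Bool.false @x2)) (@Decidable.isTrue _ (@rfl.{1} _ _)) (@Decidable.isFalse _ @(fun x2 => @Bool.noConfusion.{0} _ _ _ @x2)) @x1) (@Bool.rec.{1} @(fun x2 => @Decidable (@Eq.{1} _ @Bool.true @x2)) (@Decidable.isFalse _ @(fun x2 => @Bool.noConfusion.{0} _ _ _ @x2)) (@Decidable.isTrue _ (@rfl.{1} _ _)) @x1) @x0)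
private theorem _root_.Cfsg.Agent.KO1d3c0f1.e18 : @Bool.decEq = @_root_.Cfsg.Agent.KO1d3c0f1.k18 := by delta _root_.Cfsg.Agent.KO1d3c0f1.k18; rfl'
private noncomputable def _root_.Cfsg.Agent.KO1d3c0f1.k19 : type_of% @instDecidableEqBool := @Cfsg.Agent.KO1d3c0f1.k18
private theorem _root_.Cfsg.Agent.KO1d3c0f1.e19 : @instDecidableEqBool = @_root_.Cfsg.Agent.KO1d3c0f1.k19 := by delta _root_.Cfsg.Agent.KO1d3c0f1.k19; rewrite [← Cfsg.Agent.KO1d3c0f1.e18]; rfl'
private noncomputable def _root_.Cfsg.Agent.KO1d3c0f1.k21.{ku0} : type_of% @List.all.{ku0} := @(fun x0 x1 x2 => @List.rec.{(ku0+1), ku0} @x0 @(fun x3 => (@x0 → @Bool) → @Bool) @(fun x3 => @Bool.true) @(fun x3 x4 x5 x6 => @Bool.rec.{1} @(fun x7 => @Bool) @Bool.false (@x5 @x6) (@x6 @x3)) @x1 @x2)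
private theorem _root_.Cfsg.Agent.KO1d3c0f1.e21.{ku0} : @List.all.{ku0} = @_root_.Cfsg.Agent.KO1d3c0f1.k21.{ku0} := by delta _root_.Cfsg.Agent.KO1d3c0f1.k21; funext a0 a1 a2; refine (congrFun (_root_.Cfsg.Agent.KO1d3c0f1.e11 (fun a1 a2 => @List.all.{ku0} a0 a1 a2) ?_ (fun c0 c1 => ?_) a1) a2 :) <;> (rfl')
private theorem _root_.Cfsg.Agent.KO1d3c0f1.e22.{ku} {M : Nat → Sort ku} (φ : ∀ n, M n) {z : M Nat.zero} {s : ∀ n, M n → M (Nat.succ n)} (h0 : φ Nat.zero = z) (hs : ∀ n, φ (Nat.succ n) = s n (φ n)) (n : Nat) : φ n = @Nat.rec M z s n := Nat.rec h0 (fun n ih => (hs n).trans (congrArg (s n) ih)) n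
private noncomputable def _root_.Cfsg.Agent.KO1d3c0f1.k23.{ku0} : type_of% @Fin.induction.go.{ku0} := @(fun x0 x1 x2 x3 x4 x5 => @Nat.rec.{ku0} @(fun x6 => (x7 : @LT.lt.{0} _ _ @x6 (@HAdd.hAdd.{0, 0, 0} _ _ _ _ @x0 ((1 : ℕ)))) → @x1 (@Fin.mk _ @x6 @x7)) @(fun x6 => @Eq.rec.{ku0, (ku0+1)} (Sort ku0) (@x1 (@OfNat.ofNat.{0} _ (nat_lit 0) _)) @(fun x7 x8 => @x7) @x2 (@x1 (@Fin.mk _ ((0 : ℕ)) @x6)) (@Eq.symm.{(ku0+1)} _ _ _ (@Fin.induction.go._proof_1.{ku0} _ _ @x6))) @(fun x6 x7 x8 => @x3 (@Fin.mk _ @x6 (@Nat.lt_of_succ_lt_succ _ _ @x8)) (@x7 (@Fin.induction.go._proof_2 _ @x6 @x8))) @x4 @x5)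
private theorem _root_.Cfsg.Agent.KO1d3c0f1.e23.{ku0} : @Fin.induction.go.{ku0} = @_root_.Cfsg.Agent.KO1d3c0f1.k23.{ku0} := by delta _root_.Cfsg.Agent.KO1d3c0f1.k23; funext a0 a1 a2 a3 a4 a5; refine (congrFun (_root_.Cfsg.Agent.KO1d3c0f1.e22 (fun a4 a5 => @Fin.induction.go.{ku0} a0 a1 a2 a3 a4 a5) ?_ (fun c0 => ?_) a4) a5 :) <;> (rfl')
private noncomputable def _root_.Cfsg.Agent.KO1d3c0f1.k24.{ku0} : type_of% @Fin.induction.{ku0} := @(fun x0 x1 x2 x3 x4 => @Fin.rec.{ku0} (@Nat.add @x0 (nat_lit 1)) @(fun x5 => @x1 @x5) @(fun x5 x6 => @Cfsg.Agent.KO1d3c0f1.k23.{ku0} _ _ @x2 @x3 @x5 @x6) @x4)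
private theorem _root_.Cfsg.Agent.KO1d3c0f1.e24.{ku0} : @Fin.induction.{ku0} = @_root_.Cfsg.Agent.KO1d3c0f1.k24.{ku0} := by delta _root_.Cfsg.Agent.KO1d3c0f1.k24; rewrite [← Cfsg.Agent.KO1d3c0f1.e23.{ku0}]; rfl'
private noncomputable def _root_.Cfsg.Agent.KO1d3c0f1.k25.{ku0} : type_of% @Fin.cases.{ku0} := @(fun x0 x1 x2 x3 x4 => @Cfsg.Agent.KO1d3c0f1.k24.{ku0} _ @(fun x5 => @x1 @x5) @x2 @(fun x5 x6 => @x3 @x5) @x4)
private theorem _root_.Cfsg.Agent.KO1d3c0f1.e25.{ku0} : @Fin.cases.{ku0} = @_root_.Cfsg.Agent.KO1d3c0f1.k25.{ku0} := by delta _root_.Cfsg.Agent.KO1d3c0f1.k25; rewrite [← Cfsg.Agent.KO1d3c0f1.e24.{ku0}]; rfl'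
private noncomputable def _root_.Cfsg.Agent.KO1d3c0f1.k26.{ku0} : type_of% @Fin.cons.{ku0} := @(fun x0 x1 x2 x3 x4 => @Cfsg.Agent.KO1d3c0f1.k25.{ku0} _ @(fun x5 => @x1 @x5) @x2 @x3 @x4)
private theorem _root_.Cfsg.Agent.KO1d3c0f1.e26.{ku0} : @Fin.cons.{ku0} = @_root_.Cfsg.Agent.KO1d3c0f1.k26.{ku0} := by delta _root_.Cfsg.Agent.KO1d3c0f1.k26; rewrite [← Cfsg.Agent.KO1d3c0f1.e25.{ku0}]; rfl'
private noncomputable def _root_.Cfsg.Agent.KO1d3c0f1.k27.{ku0} : type_of% @Fin.elim0.{ku0} := @(fun x0 x1 => @Fin.rec.{ku0} (nat_lit 0) @(fun x2 => @x0) @(fun x2 x3 => @False.rec.{ku0} @(fun x4 => @x0) (@Nat.not_lt_zero @x2 @x3)) @x1)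
private theorem _root_.Cfsg.Agent.KO1d3c0f1.e27.{ku0} : @Fin.elim0.{ku0} = @_root_.Cfsg.Agent.KO1d3c0f1.k27.{ku0} := by delta _root_.Cfsg.Agent.KO1d3c0f1.k27; rfl'
private noncomputable def _root_.Cfsg.Agent.KO1d3c0f1.k52 : type_of% @List.range.loop := @(fun x0 x1 => @Nat.rec.{1} @(fun x2 => (@List.{0} ℕ) → @List.{0} ℕ) @(fun x2 => @x2) @(fun x2 x3 x4 => @x3 (@x2 :: @x4)) @x0 @x1)
private theorem _root_.Cfsg.Agent.KO1d3c0f1.e52 : @List.range.loop = @_root_.Cfsg.Agent.KO1d3c0f1.k52 := by delta _root_.Cfsg.Agent.KO1d3c0f1.k52; funext a0 a1; refine (congrFun (_root_.Cfsg.Agent.KO1d3c0f1.e22 (fun a0 a1 => @List.range.loop a0 a1) ?_ (fun c0 => ?_) a0) a1 :) <;> (rfl')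
private noncomputable def _root_.Cfsg.Agent.KO1d3c0f1.oEq.{ku} (α : Sort ku) (a b : Nat) (f t : α) : α := @Decidable.rec (a = b) (fun _ => α) (fun _ => f) (fun _ => t) (Nat.decEq a b)
private noncomputable def _root_.Cfsg.Agent.KO1d3c0f1.k78.{ku} (α : Sort ku) (a b : Nat) (f t : α) : α := @Bool.rec (fun _ => α) f t (Nat.beq a b)
private theorem _root_.Cfsg.Agent.KO1d3c0f1.e78.{ku} : @_root_.Cfsg.Agent.KO1d3c0f1.oEq.{ku} = @_root_.Cfsg.Agent.KO1d3c0f1.k78.{ku} := funext fun α => funext fun a => funext fun b => funext fun f => funext fun t => by delta _root_.Cfsg.Agent.KO1d3c0f1.oEq _root_.Cfsg.Agent.KO1d3c0f1.k78; cases h : Nat.beq a b <;> cases Nat.decEq a b <;> rename_i g <;> first | rfl | exact absurd g (Nat.ne_of_beq_eq_false h) | exact absurd (Nat.eq_of_beq_eq_true h) g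
private noncomputable def _root_.Cfsg.Agent.KO1d3c0f1.k79 : (by first | exact type_of% @Cfsg.Agent.H893.EE.chk | exact Unit : Sort _) := by first | (refine @Subtype.val _ (fun g => @Cfsg.Agent.H893.EE.chk = @g) (@Subtype.mk _ _ (@(fun x0 x1 => @Cfsg.Agent.KO1d3c0f1.k21.{0} _ (@Cfsg.Agent.KO1d3c0f1.k52 (nat_lit 8) []) @(fun x2 => @Cfsg.Agent.KO1d3c0f1.k21.{0} _ (@Cfsg.Agent.KO1d3c0f1.k52 (nat_lit 8) []) @(fun x3 => @Cfsg.Agent.KO1d3c0f1.k78.{1} @Bool (@Option.rec.{1, 0} ℕ @(fun x4 => ℕ) (nat_lit 0) @(fun x4 => @x4) (@Cfsg.Agent.KO1d3c0f1.k13.{0} _ @x0 (@Nat.add (@Nat.mul (nat_lit 8) @x2) @x3))) (@Nat.mod (@Nat.shiftRight (@Option.rec.{1, 0} ℕ @(fun x4 => ℕ) (nat_lit 0) @(fun x4 => @x4) (@Cfsg.Agent.KO1d3c0f1.k13.{0} _ @x1 @x2)) (@Nat.mul (nat_lit 2) @x3)) (nat_lit 4)) @Bool.false @Bool.true)))) ?_); rewrite [← Cfsg.Agent.KO1d3c0f1.e13.{0}, ← Cfsg.Agent.KO1d3c0f1.e78.{1}, ← Cfsg.Agent.KO1d3c0f1.e52, ← Cfsg.Agent.KO1d3c0f1.e21.{0}];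 rfl') | exact @Cfsg.Agent.H893.EE.chk | exact ()
private theorem _root_.Cfsg.Agent.KO1d3c0f1.e79 : (by first | exact @Cfsg.Agent.H893.EE.chk = @_root_.Cfsg.Agent.KO1d3c0f1.k79 | exact True : Prop) := by first | (delta _root_.Cfsg.Agent.KO1d3c0f1.k79; exact @Subtype.property _ (fun g => @Cfsg.Agent.H893.EE.chk = @g) _) | rfl | trivial
private noncomputable def _root_.Cfsg.Agent.KO1d3c0f1.k80 : (by first | exact type_of% @Cfsg.Agent.H893.EE.rA | exact Unit : Sort _) := by first | (refine @Subtype.val _ (fun g => @Cfsg.Agent.H893.EE.rA = @g) (@Subtype.mk _ _ (@Cfsg.Agent.KO1d3c0f1.k26.{1} _ @(fun x0 => @List.{0} ℕ) ((nat_lit 1) :: ((nat_lit 5) :: ((nat_lit 16) :: ((nat_lit 64) :: ((nat_lit 1280) :: ((nat_lit 1024) :: ((nat_lit 4096) :: ((nat_lit 16384) :: [])))))))) (@Cfsg.Agent.KO1d3c0f1.k26.{1} _ @(fun x0 => @List.{0} ℕ) ((nat_lit 30841) :: ((nat_lit 54011) :: ((nat_lit 34721) :: ((nat_lit 11638) :: ((nat_lit 40348) :: ((nat_lit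 19043) :: ((nat_lit 61385) :: ((nat_lit 27958) :: [])))))))) (@Cfsg.Agent.KO1d3c0f1.k26.{1} _ @(fun x0 => @List.{0} ℕ) ((nat_lit 1) :: ((nat_lit 4) :: ((nat_lit 16) :: ((nat_lit 80) :: ((nat_lit 256) :: ((nat_lit 1024) :: ((nat_lit 20480) :: ((nat_lit 16384) :: [])))))))) (@Cfsg.Agent.KO1d3c0f1.k26.{1} _ @(fun x0 => @List.{0} ℕ) ((nat_lit 1) :: ((nat_lit 4) :: ((nat_lit 16) :: ((nat_lit 64) :: ((nat_lit 256) :: ((nat_lit 1024) :: ((nat_lit 4160) :: ((nat_lit 16400) :: [])))))))) (@Cfsg.Agent.KO1d3c0f1.k27.{1} _))))) ?_); rewrite [← Cfsg.Agent.KO1d3c0f1.e27.{1}, ← Cfsg.Agent.KO1d3c0f1.e26.{1}]; rfl') | exact @Cfsg.Agent.H893.EE.rA | exact ()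
private theorem _root_.Cfsg.Agent.KO1d3c0f1.e80 : (by first | exact @Cfsg.Agent.H893.EE.rA = @_root_.Cfsg.Agent.KO1d3c0f1.k80 | exact True : Prop) := by first | (delta _root_.Cfsg.Agent.KO1d3c0f1.k80; exact @Subtype.property _ (fun g => @Cfsg.Agent.H893.EE.rA = @g) _) | rfl | trivial

theorem chkA (i : Fin 4) : chk (cA i) (rA i) = true := by revert i; (first | (refine of_decide_eq_true ?_; rewrite [Cfsg.Agent.KO1d3c0f1.e0, Cfsg.Agent.KO1d3c0f1.e3, Cfsg.Agent.KO1d3c0f1.e19, Cfsg.Agent.KO1d3c0f1.e79, Cfsg.Agent.KO1d3c0f1.e80]; decide +kernel) | decide +kernel)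
private noncomputable def _root_.Cfsg.Agent.KO1d3c0f1.k81 : (by first | exact type_of% @Cfsg.Agent.H893.EE.rB | exact Unit : Sort _) := by first | (refine @Subtype.val _ (fun g => @Cfsg.Agent.H893.EE.rB = @g) (@Subtype.mk _ _ (@Cfsg.Agent.KO1d3c0f1.k26.{1} _ @(fun x0 => @List.{0} ℕ) ((nat_lit 8) :: ((nat_lit 7) :: ((nat_lit 16) :: ((nat_lit 64) :: ((nat_lit 3328) :: ((nat_lit 512) :: ((nat_lit 4096) :: ((nat_lit 16384) :: [])))))))) (@Cfsg.Agent.KO1d3c0f1.k26.{1} _ @(fun x0 => @List.{0} ℕ) ((nat_lit 25182) :: ((nat_lit 24397) :: ((nat_lit 9771) :: ((nat_lit 62862) :: ((nat_lit 45733) :: ((nat_lit 59628) :: ((nat_lit 29018) :: ((nat_lit 46542) :: [])))))))) (@Cfsg.Agent.KO1d3c0f1.k26.{1} _ @(fun x0 => @List.{0} ℕ) ((nat_lit 1) :: ((nat_lit 4) :: ((nat_lit 128) :: ((nat_lit 112) :: ((nat_lit 256) :: ((nat_lit 1024) :: ((nat_lit 53248) :: ((nat_lit 8192) :: [])))))))) (@Cfsg.Agent.KO1d3c0f1.k26.{1} _ @(fun x0 => @List.{0} ℕ) ((nat_lit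 1) :: ((nat_lit 4) :: ((nat_lit 32768) :: ((nat_lit 8192) :: ((nat_lit 256) :: ((nat_lit 1024) :: ((nat_lit 4288) :: ((nat_lit 16432) :: [])))))))) (@Cfsg.Agent.KO1d3c0f1.k27.{1} _))))) ?_); rewrite [← Cfsg.Agent.KO1d3c0f1.e27.{1}, ← Cfsg.Agent.KO1d3c0f1.e26.{1}]; rfl') | exact @Cfsg.Agent.H893.EE.rB | exact ()
private theorem _root_.Cfsg.Agent.KO1d3c0f1.e81 : (by first | exact @Cfsg.Agent.H893.EE.rB = @_root_.Cfsg.Agent.KO1d3c0f1.k81 | exact True : Prop) := by first | (delta _root_.Cfsg.Agent.KO1d3c0f1.k81; exact @Subtype.property _ (fun g => @Cfsg.Agent.H893.EE.rB = @g) _) | rfl | trivial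

theorem chkB (i : Fin 4) : chk (cB i) (rB i) = true := by revert i; (first | (refine of_decide_eq_true ?_; rewrite [Cfsg.Agent.KO1d3c0f1.e0, Cfsg.Agent.KO1d3c0f1.e3, Cfsg.Agent.KO1d3c0f1.e19, Cfsg.Agent.KO1d3c0f1.e79, Cfsg.Agent.KO1d3c0f1.e81]; decide +kernel) | decide +kernel)
theorem okA (i : Fin 4) : okE (rA i) (rA i) (tA i) = true := by revert i; decide +kernel
theorem okB' (i : Fin 4) : okE (rB i) (iB i) (tB i) = true := by revert i; decide +kernel
theorem okE' (i : Fin 4) : okE (rE i) (iE i) (tE i) = true := by revert i; decide +kernel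

/-- an element `ω` with `ω² = ω + 1` -/
structure Om (F : Type*) [Field F] where
  /-- the element -/
  ω : F
  two : ∀ x : F, x + x = 0
  sq : ω * ω = ω + 1
  ne0 : ω ≠ 0
  ne1 : ω ≠ 1
  ne11 : ω + 1 ≠ 0

theorem exists_Om {F : Type*} [Field F] [Fintype F] (hF : Fintype.card F = 4) : Nonempty (Om F) := by
  obtain ⟨h2, ω, h3, h4, h5, h6⟩ := exists_omega hF
  exact ⟨⟨ω, h2, h3, h4, h5, h6⟩⟩

section
variable {F : Type*} [Field F]

/-- the orthogonal group -/
abbrev Iso (F : Type*) [Field F] : Type _ := ↥(Cfsg.isometryGroup F (Cfsg.quadFormPlus 4 F))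

/-- the matrix of an isometry -/
def co (x : Iso F) : Matrix (Fin 4 ⊕ Fin 4) (Fin 4 ⊕ Fin 4) F :=
  ((x : Matrix.GeneralLinearGroup (Fin 4 ⊕ Fin 4) F) : Matrix (Fin 4 ⊕ Fin 4) (Fin 4 ⊕ Fin 4) F)

theorem co_mul (x y : Iso F) : co (x * y) = co x * co y := rfl

theorem co_one : co (1 : Iso F) = 1 := rfl

theorem co_inj {x y : Iso F} (h : co x = co y) : x = y := iso_ext h

/-- `x` has the matrix with codes `r` -/
def HasC (O : Om F) (x : Iso F) (r : List ℕ) : Prop := co x = bm O.ω r ∧ r.length = 8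

theorem HasC.mul {O : Om F} {x y : Iso F} {r s : List ℕ} (hx : HasC O x r) (hy : HasC O y s) :
    HasC O (x * y) (mulB r s) :=
  ⟨by rw [co_mul, hx.1, hy.1, bm_mul O.two O.sq _ _ hy.2], by unfold mulB; rw [List.length_map]; exact hx.2⟩

theorem HasC.one (O : Om F) : HasC O (1 : Iso F) oneB := ⟨by rw [co_one, bm_one], rfl⟩

theorem HasC.eq {O : Om F} {x y : Iso F} {r s : List ℕ} (hx : HasC O x r) (hy : HasC O y s) (h : r = s) : x = y :=
  co_inj (by rw [hx.1, hy.1, h])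

/-- powers -/
def powB (r : List ℕ) : ℕ → List ℕ
  | 0 => oneB
  | n + 1 => mulB (powB r n) r

theorem HasC.pow {O : Om F} {x : Iso F} {r : List ℕ} (hx : HasC O x r) (n : ℕ) : HasC O (x ^ n) (powB r n) := by
  induction n with
  | zero => exact HasC.one O
  | succ n ih => rw [pow_succ]; exact ih.mul hx

/-- bounded lists of codes -/
theorem HasC.ne {O : Om F} {x y : Iso F} {r s : List ℕ} (hx : HasC O x r) (hy : HasC O y s)
    (h : (okB r && okB s && decide (r ≠ s)) = true) : x ≠ y := fun he =>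
  bm_ne O.ne0 O.ne1 O.ne11 h (by rw [← hx.1, ← hy.1, he])

variable (O : Om F)

/-- `a_i` -/
def elA (i : Fin 4) : Iso F := isoE O.two O.sq (okA i)

/-- `b_i` -/
def elB (i : Fin 4) : Iso F := isoE O.two O.sq (okB' i)

/-- `e_i` -/
def elE (i : Fin 4) : Iso F := isoE O.two O.sq (okE' i)

theorem lenA (i : Fin 4) : (rA i).length = 8 := by revert i; decide
theorem lenB (i : Fin 4) : (rB i).length = 8 := by revert i; decide
theorem lenE (i : Fin 4) : (rE i).length = 8 := by revert i; decide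

theorem hasA (i : Fin 4) : HasC O (elA O i) (rA i) := ⟨rfl, lenA i⟩
theorem hasB (i : Fin 4) : HasC O (elB O i) (rB i) := ⟨rfl, lenB i⟩
theorem hasE (i : Fin 4) : HasC O (elE O i) (rE i) := ⟨rfl, lenE i⟩

theorem coA (i : Fin 4) : co (elA O i) = mat O.ω (cA i) := by rw [mat_eq O.ω (chkA i)]; rfl
theorem coB (i : Fin 4) : co (elB O i) = mat O.ω (cB i) := by rw [mat_eq O.ω (chkB i)]; rfl
/-- `n_i` -/
def elN (i : Fin 4) : Iso F :=
  elB O i * elA O i * elB O i * elA O i * elB O i * elB O i * elA O i * elB O i * elA O i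

theorem wordN (i : Fin 4) : mulB (mulB (mulB (mulB (mulB (mulB (mulB (mulB (rB i) (rA i)) (rB i)) (rA i)) (rB i))
    (rB i)) (rA i)) (rB i)) (rA i) = rN i := by revert i; decide +kernel

theorem hasN (i : Fin 4) : HasC O (elN O i) (rN i) := by
  rw [← wordN i]
  exact ((((((((hasB O i).mul (hasA O i)).mul (hasB O i)).mul (hasA O i)).mul (hasB O i)).mul (hasB O i)).mul
    (hasA O i)).mul (hasB O i)).mul (hasA O i)

/-! ### the relations -/

theorem A_sq (i : Fin 4) : elA O i ^ 2 = 1 :=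
  ((hasA O i).pow 2).eq (HasC.one O) (by revert i; decide +kernel)

theorem B_cube (i : Fin 4) : elB O i ^ 3 = 1 :=
  ((hasB O i).pow 3).eq (HasC.one O) (by revert i; decide +kernel)

theorem AB_five (i : Fin 4) : (elA O i * elB O i) ^ 5 = 1 :=
  (((hasA O i).mul (hasB O i)).pow 5).eq (HasC.one O) (by revert i; decide +kernel)

theorem A_ne (i : Fin 4) : elA O i ≠ 1 := (hasA O i).ne (HasC.one O) (by revert i; decide +kernel)

theorem N_sq (i : Fin 4) : elN O i ^ 2 = 1 :=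
  ((hasN O i).pow 2).eq (HasC.one O) (by revert i; decide +kernel)

theorem E_five (i : Fin 4) : elE O i ^ 5 = 1 :=
  ((hasE O i).pow 5).eq (HasC.one O) (by revert i; decide +kernel)

theorem E_comm (i j : Fin 4) : elE O i * elE O j = elE O j * elE O i :=
  ((hasE O i).mul (hasE O j)).eq ((hasE O j).mul (hasE O i)) (by revert i j; decide +kernel)

/-- in an arbitrary group: `a² = b³ = (ab)⁵ = 1` implies `a, b ∈ G'` -/
theorem mem_commutator {G : Type*} [Group G] {a b : G} (ha : a ^ 2 = 1) (hb : b ^ 3 = 1) (hab : (a * b) ^ 5 = 1) :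
    a ∈ commutator G ∧ b ∈ commutator G := by
  rw [← Abelianization.ker_of, MonoidHom.mem_ker, MonoidHom.mem_ker]
  have h1 : (Abelianization.of a) ^ 2 = 1 := by rw [← map_pow, ha, map_one]
  have h2 : (Abelianization.of b) ^ 3 = 1 := by rw [← map_pow, hb, map_one]
  have h3 : (Abelianization.of a * Abelianization.of b) ^ 5 = 1 := by rw [← map_mul, ← map_pow, hab, map_one]
  generalize Abelianization.of a = x at *
  generalize Abelianization.of b = y at *
  have h4 : x ^ 5 = x := by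
    rw [show (5 : ℕ) = 2 + 2 + 1 from rfl, pow_add, pow_add, h1]; simp
  have h5 : y ^ 5 = y ^ 2 := by
    rw [show (5 : ℕ) = 3 + 2 from rfl, pow_add, h2]; simp
  rw [mul_pow, h4, h5] at h3
  have h6 : x = y := by
    have : x * y ^ 2 * y = y := by rw [h3, one_mul]
    rw [mul_assoc, ← pow_succ, h2, mul_one] at this
    exact this
  subst h6
  have h7 : x = 1 := by
    have := h2
    rw [pow_succ, h1, one_mul] at this
    exact this
  exact ⟨h7, h7⟩

theorem memA (i : Fin 4) : elA O i ∈ Cfsg.Omega F (Cfsg.quadFormPlus 4 F) :=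
  (mem_commutator (A_sq O i) (B_cube O i) (AB_five O i)).1

theorem memB (i : Fin 4) : elB O i ∈ Cfsg.Omega F (Cfsg.quadFormPlus 4 F) :=
  (mem_commutator (A_sq O i) (B_cube O i) (AB_five O i)).2

theorem memN (i : Fin 4) : elN O i ∈ Cfsg.Omega F (Cfsg.quadFormPlus 4 F) := by
  have ha := memA O i
  have hb := memB O i
  exact mul_mem (mul_mem (mul_mem (mul_mem (mul_mem (mul_mem (mul_mem (mul_mem hb ha) hb) ha) hb) hb) ha) hb) ha

theorem E2_eq : elE O 2 = (elA O 2 * elB O 2 * (elA O 3 * elB O 3)) ^ 3 :=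
  (hasE O 2).eq ((((hasA O 2).mul (hasB O 2)).mul ((hasA O 3).mul (hasB O 3))).pow 3) (by decide +kernel)

theorem AB0 : elA O 0 * elB O 0 * elE O 1 = elE O 0 :=
  (((hasA O 0).mul (hasB O 0)).mul (hasE O 1)).eq (hasE O 0) (by decide +kernel)

theorem AB1 : elA O 1 * elB O 1 * elE O 2 = elE O 1 :=
  (((hasA O 1).mul (hasB O 1)).mul (hasE O 2)).eq (hasE O 1) (by decide +kernel)

theorem AB2 : elA O 2 * elB O 2 * elE O 3 = elE O 2 :=
  (((hasA O 2).mul (hasB O 2)).mul (hasE O 3)).eq (hasE O 2) (by decide +kernel)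

theorem AB3 : elA O 3 * elB O 3 = elE O 2 * elE O 3 :=
  ((hasA O 3).mul (hasB O 3)).eq ((hasE O 2).mul (hasE O 3)) (by decide +kernel)

theorem memE (i : Fin 4) : elE O i ∈ Cfsg.Omega F (Cfsg.quadFormPlus 4 F) := by
  have h2 : elE O 2 ∈ Cfsg.Omega F (Cfsg.quadFormPlus 4 F) := by
    rw [E2_eq]
    exact pow_mem (mul_mem (mul_mem (memA O 2) (memB O 2)) (mul_mem (memA O 3) (memB O 3))) 3
  have h3 : elE O 3 ∈ Cfsg.Omega F (Cfsg.quadFormPlus 4 F) := by
    have := AB2 O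
    rw [← eq_inv_mul_iff_mul_eq] at this
    rw [this]
    exact mul_mem (inv_mem (mul_mem (memA O 2) (memB O 2))) h2
  have h1 : elE O 1 ∈ Cfsg.Omega F (Cfsg.quadFormPlus 4 F) := by
    rw [← AB1]
    exact mul_mem (mul_mem (memA O 1) (memB O 1)) h2
  have h0 : elE O 0 ∈ Cfsg.Omega F (Cfsg.quadFormPlus 4 F) := by
    rw [← AB0]
    exact mul_mem (mul_mem (memA O 0) (memB O 0)) h1
  fin_cases i
  · exact h0
  · exact h1
  · exact h2
  · exact h3

end

end Cfsg.Agent.H893.EE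
end

-- part: H893/EE/D4Abs
section
/-!
# The `D₄`-relations from relations between generators (S3384, task T4a)

`D4Pre X L` : all conditions of `D4Sys X`, with the given subgroups `L i`, except `⨆ i, L i = ⊤`.
-/

set_option autoImplicit false

namespace Cfsg.Agent.H893.EE

open Cfsg.Agent.H865.EE

/-- the conditions of `D4Sys X` for given `L i`, without `⨆ i, L i = ⊤` -/
def D4Pre (X : Type*) [Group X] (L : Fin 4 → Subgroup X) : Prop :=
  ∃ (E : Subgroup X) (H : Fin 4 → Subgroup X) (n : Fin 4 → X),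
    Nat.card E = 625 ∧ (∀ a ∈ E, ∀ b ∈ E, a * b = b * a) ∧
    (∀ i, H i ≤ E) ∧ (∀ i, Nat.card (H i) = 125) ∧
    (∀ i, ⁅L i, L i⁆ = L i) ∧ (∀ i, L i ≠ ⊥) ∧ (∀ i, ∀ x ∈ L i, ∀ h ∈ H i, x * h = h * x) ∧
    (∀ i, n i ∈ L i) ∧ (∀ i, ∀ e ∈ E, n i * e * (n i)⁻¹ ∈ E) ∧
    (∀ i, ∀ e ∈ E, n i ^ 2 * e = e * n i ^ 2) ∧ (∀ i, ∃ e ∈ E, n i * e ≠ e * n i) ∧
    (∀ i j, i ≠ j → ∃ e ∈ E, (n i * n j) * e ≠ e * (n i * n j)) ∧
    (∀ i j, Adj i j → ∀ e ∈ E, (n i * n j) ^ 3 * e = e * (n i * n j) ^ 3) ∧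
    (∀ i j, i ≠ j → ¬ Adj i j → ∀ e ∈ E, (n i * n j) ^ 2 * e = e * (n i * n j) ^ 2)

theorem D4Pre.sys {X : Type*} [Group X] {L : Fin 4 → Subgroup X} (h : D4Pre X L) (hL : ⨆ i, L i = ⊤) : D4Sys X := by
  obtain ⟨E, H, n, h1, h2, h3, h4, h5, h6, h7, h8, h9, h10, h11, h12, h13, h14⟩ := h
  exact ⟨E, H, L, n, h1, h2, h3, h4, h5, h6, h7, h8, h9, h10, h11, h12, h13, h14, hL⟩

/-- the group `(ℤ/5)⁴` -/
abbrev V4 : Type := Fin 4 → ZMod 5

/-- the roots -/
def rt : Fin 4 → V4 := ![![1, -1, 0, 0], ![0, 1, -1, 0], ![0, 0, 1, -1], ![0, 0, 1, 1]]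

/-- the coroot functionals -/
def lam (i : Fin 4) : V4 →+ ZMod 5 where
  toFun v := rt i 0 * v 0 + rt i 1 * v 1 + rt i 2 * v 2 + rt i 3 * v 3
  map_zero' := by simp
  map_add' u v := by simp only [Pi.add_apply]; ring

theorem lam_apply (i : Fin 4) (v : V4) : lam i v = rt i 0 * v 0 + rt i 1 * v 1 + rt i 2 * v 2 + rt i 3 * v 3 := rfl

theorem lam_smul (i : Fin 4) (t : ZMod 5) (v : V4) : lam i (t • v) = t * lam i v := by
  rw [lam_apply, lam_apply]
  simp only [Pi.smul_apply, smul_eq_mul]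
  ring

theorem lam_rt (i : Fin 4) : lam i (rt i) = 2 := by
  revert i; decide +kernel

/-- the reflections -/
def sR (i : Fin 4) (v : V4) : V4 := v - lam i v • rt i

theorem sR0 (v : V4) : sR 0 v = ![v 1, v 0, v 2, v 3] := by
  unfold sR
  rw [lam_apply]
  ext k
  (revert k; simp only [rt, _root_.Fin.forall_fin_succ, Fin.isValue, _root_.Matrix.cons_val', _root_.Matrix.cons_val_zero, _root_.Matrix.cons_val_fin_one, _root_.one_mul, _root_.Matrix.cons_val_one, _root_.neg_mul, _root_.Matrix.cons_val, _root_.MulZeroClass.zero_mul, _root_.add_zero, _root_.Matrix.smul_cons, _root_.smul_eq_mul, _root_.mul_one, _root_.mul_neg, _root_.neg_add_rev, _root_.neg_neg, _root_.MulZeroClass.mul_zero, _root_.Matrix.smul_empty, _root_.Pi.sub_apply, _root_.Nat.succ_eq_add_one, Nat.reduceAdd, _root_.sub_add_cancel_left, _root_.Matrix.cons_val_succ, _root_.Fin.succ_zero_eq_one, _root_.Fin.succ_one_eq_two, _root_.sub_zero, Fin.reduceSucc, _root_.IsEmpty.forall_iff,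 _root_.and_self])

theorem sR1 (v : V4) : sR 1 v = ![v 0, v 2, v 1, v 3] := by
  unfold sR
  rw [lam_apply]
  ext k
  (revert k; simp only [rt, _root_.Fin.forall_fin_succ, Fin.isValue, _root_.Matrix.cons_val', _root_.Matrix.cons_val_zero, _root_.Matrix.cons_val_fin_one, _root_.Matrix.cons_val_one, _root_.MulZeroClass.zero_mul, _root_.one_mul, _root_.zero_add, _root_.Matrix.cons_val, _root_.neg_mul, _root_.add_zero, _root_.Matrix.smul_cons, _root_.smul_eq_mul, _root_.MulZeroClass.mul_zero, _root_.mul_one, _root_.mul_neg, _root_.neg_add_rev, _root_.neg_neg, _root_.Matrix.smul_empty, _root_.Pi.sub_apply, _root_.Nat.succ_eq_add_one, Nat.reduceAdd, _root_.sub_zero, _root_.Matrix.cons_val_succ, _root_.Fin.succ_zero_eq_one, _root_.sub_add_cancel_left, _root_.Fin.succ_one_eq_two, Fin.reduceSucc, _root_.IsEmpty.forall_iff, _root_.and_self])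

theorem sR2 (v : V4) : sR 2 v = ![v 0, v 1, v 3, v 2] := by
  unfold sR
  rw [lam_apply]
  ext k
  (revert k; simp only [rt, _root_.Fin.forall_fin_succ, Fin.isValue, _root_.Matrix.cons_val', _root_.Matrix.cons_val_zero, _root_.Matrix.cons_val_fin_one, _root_.Matrix.cons_val, _root_.Matrix.cons_val_one, _root_.MulZeroClass.zero_mul, _root_.add_zero, _root_.one_mul, _root_.zero_add, _root_.neg_mul, _root_.Matrix.smul_cons, _root_.smul_eq_mul, _root_.MulZeroClass.mul_zero, _root_.mul_one, _root_.mul_neg, _root_.neg_add_rev, _root_.neg_neg, _root_.Matrix.smul_empty, _root_.Pi.sub_apply, _root_.Nat.succ_eq_add_one, Nat.reduceAdd, _root_.sub_zero, _root_.Matrix.cons_val_succ, _root_.Fin.succ_zero_eq_one, _root_.Fin.succ_one_eq_two, _root_.sub_add_cancel_left, Fin.reduceSucc, _root_.IsEmpty.forall_iff, _root_.and_self])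

theorem sR3 (v : V4) : sR 3 v = ![v 0, v 1, -v 3, -v 2] := by
  unfold sR
  rw [lam_apply]
  ext k
  (revert k; simp only [rt, _root_.Fin.forall_fin_succ, Fin.isValue, _root_.Matrix.cons_val', _root_.Matrix.cons_val_zero, _root_.Matrix.cons_val_fin_one, _root_.Matrix.cons_val, _root_.Matrix.cons_val_one, _root_.MulZeroClass.zero_mul, _root_.add_zero, _root_.one_mul, _root_.zero_add, _root_.Matrix.smul_cons, _root_.smul_eq_mul, _root_.MulZeroClass.mul_zero, _root_.mul_one, _root_.Matrix.smul_empty, _root_.Pi.sub_apply, _root_.Nat.succ_eq_add_one, Nat.reduceAdd, _root_.sub_zero, _root_.Matrix.cons_val_succ, _root_.Fin.succ_zero_eq_one, _root_.Fin.succ_one_eq_two, _root_.sub_add_cancel_left, Fin.reduceSucc, _root_.sub_add_cancel_right, _root_.IsEmpty.forall_iff, _root_.and_self])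

theorem sR_sq (i : Fin 4) (v : V4) : sR i (sR i v) = v := by
  fin_cases i
  · show sR 0 (sR 0 v) = v
    rw [sR0, sR0]; ext k; fin_cases k <;> simp
  · show sR 1 (sR 1 v) = v
    rw [sR1, sR1]; ext k; fin_cases k <;> simp
  · show sR 2 (sR 2 v) = v
    rw [sR2, sR2]; ext k; fin_cases k <;> simp
  · show sR 3 (sR 3 v) = v
    rw [sR3, sR3]; ext k; fin_cases k <;> simp

theorem sR_adj (i j : Fin 4) (h : Adj i j) (v : V4) : sR i (sR j (sR i (sR j (sR i (sR j v))))) = v := by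
  have h' : (i = 1 ∧ (j = 0 ∨ j = 2 ∨ j = 3)) ∨ (j = 1 ∧ (i = 0 ∨ i = 2 ∨ i = 3)) := by
    revert i j; decide
  rcases h' with ⟨rfl, rfl | rfl | rfl⟩ | ⟨rfl, rfl | rfl | rfl⟩
  · simp only [sR0, sR1]; ext k; (revert k; simp only [_root_.Fin.forall_fin_succ, _root_.Nat.succ_eq_add_one, Nat.reduceAdd, Fin.isValue, _root_.Matrix.cons_val_zero, _root_.Matrix.cons_val, _root_.Matrix.cons_val_one, _root_.Matrix.cons_val_succ, _root_.Fin.succ_zero_eq_one, _root_.Fin.succ_one_eq_two, _root_.Matrix.cons_val_fin_one, Fin.reduceSucc, _root_.IsEmpty.forall_iff, _root_.and_self])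
  · simp only [sR2, sR1]; ext k; (revert k; simp only [_root_.Fin.forall_fin_succ, _root_.Nat.succ_eq_add_one, Nat.reduceAdd, Fin.isValue, _root_.Matrix.cons_val_zero, _root_.Matrix.cons_val, _root_.Matrix.cons_val_one, _root_.Matrix.cons_val_succ, _root_.Fin.succ_zero_eq_one, _root_.Fin.succ_one_eq_two, _root_.Matrix.cons_val_fin_one, Fin.reduceSucc, _root_.IsEmpty.forall_iff, _root_.and_self])
  · simp only [sR3, sR1]; ext k; (revert k; simp only [_root_.Fin.forall_fin_succ, _root_.Nat.succ_eq_add_one, Nat.reduceAdd, Fin.isValue, _root_.Matrix.cons_val_zero, _root_.Matrix.cons_val, _root_.Matrix.cons_val_one, _root_.neg_neg, _root_.Matrix.cons_val_succ, _root_.Fin.succ_zero_eq_one, _root_.Fin.succ_one_eq_two, _root_.Matrix.cons_val_fin_one, Fin.reduceSucc, _root_.IsEmpty.forall_iff, _root_.and_self])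
  · simp only [sR0, sR1]; ext k; (revert k; simp only [_root_.Fin.forall_fin_succ, _root_.Nat.succ_eq_add_one, Nat.reduceAdd, Fin.isValue, _root_.Matrix.cons_val_one, _root_.Matrix.cons_val_zero, _root_.Matrix.cons_val, _root_.Matrix.cons_val_succ, _root_.Fin.succ_zero_eq_one, _root_.Fin.succ_one_eq_two, _root_.Matrix.cons_val_fin_one, Fin.reduceSucc, _root_.IsEmpty.forall_iff, _root_.and_self])
  · simp only [sR2, sR1]; ext k; (revert k; simp only [_root_.Fin.forall_fin_succ, _root_.Nat.succ_eq_add_one, Nat.reduceAdd, Fin.isValue, _root_.Matrix.cons_val_zero, _root_.Matrix.cons_val_one, _root_.Matrix.cons_val, _root_.Matrix.cons_val_succ, _root_.Fin.succ_zero_eq_one, _root_.Fin.succ_one_eq_two, _root_.Matrix.cons_val_fin_one, Fin.reduceSucc, _root_.IsEmpty.forall_iff, _root_.and_self])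
  · simp only [sR3, sR1]; ext k; (revert k; simp only [_root_.Fin.forall_fin_succ, _root_.Nat.succ_eq_add_one, Nat.reduceAdd, Fin.isValue, _root_.Matrix.cons_val_zero, _root_.Matrix.cons_val_one, _root_.Matrix.cons_val, _root_.neg_neg, _root_.Matrix.cons_val_succ, _root_.Fin.succ_zero_eq_one, _root_.Fin.succ_one_eq_two, _root_.Matrix.cons_val_fin_one, Fin.reduceSucc, _root_.IsEmpty.forall_iff, _root_.and_self])

theorem sR_nadj (i j : Fin 4) (hij : i ≠ j) (h : ¬ Adj i j) (v : V4) : sR i (sR j (sR i (sR j v))) = v := by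
  have h' : (i = 0 ∧ j = 2) ∨ (i = 0 ∧ j = 3) ∨ (i = 2 ∧ j = 3) ∨ (j = 0 ∧ i = 2) ∨ (j = 0 ∧ i = 3) ∨ (j = 2 ∧ i = 3) := by
    revert i j; decide
  rcases h' with ⟨rfl, rfl⟩ | ⟨rfl, rfl⟩ | ⟨rfl, rfl⟩ | ⟨rfl, rfl⟩ | ⟨rfl, rfl⟩ | ⟨rfl, rfl⟩
  · simp only [sR0, sR2]; ext k; fin_cases k <;> simp
  · simp only [sR0, sR3]; ext k; (revert k; simp only [_root_.Fin.forall_fin_succ, _root_.Nat.succ_eq_add_one, Nat.reduceAdd, Fin.isValue, _root_.Matrix.cons_val_one, _root_.Matrix.cons_val_zero, _root_.Matrix.cons_val, _root_.neg_neg, _root_.Matrix.cons_val_succ, _root_.Fin.succ_zero_eq_one, _root_.Fin.succ_one_eq_two, _root_.Matrix.cons_val_fin_one, Fin.reduceSucc, _root_.IsEmpty.forall_iff, _root_.and_self])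
  · simp only [sR2, sR3]; ext k; (revert k; simp only [_root_.Fin.forall_fin_succ, _root_.Nat.succ_eq_add_one, Nat.reduceAdd, Fin.isValue, _root_.Matrix.cons_val_zero, _root_.Matrix.cons_val_one, _root_.Matrix.cons_val, _root_.neg_neg, _root_.Matrix.cons_val_succ, _root_.Fin.succ_zero_eq_one, _root_.Fin.succ_one_eq_two, _root_.Matrix.cons_val_fin_one, Fin.reduceSucc, _root_.IsEmpty.forall_iff, _root_.and_self])
  · simp only [sR0, sR2]; ext k; fin_cases k <;> simp
  · simp only [sR0, sR3]; ext k; (revert k; simp only [_root_.Fin.forall_fin_succ, _root_.Nat.succ_eq_add_one, Nat.reduceAdd, Fin.isValue, _root_.Matrix.cons_val_zero, _root_.Matrix.cons_val_one, _root_.Matrix.cons_val, _root_.neg_neg, _root_.Matrix.cons_val_succ, _root_.Fin.succ_zero_eq_one, _root_.Fin.succ_one_eq_two, _root_.Matrix.cons_val_fin_one, Fin.reduceSucc, _root_.IsEmpty.forall_iff, _root_.and_self])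
  · simp only [sR2, sR3]; ext k; (revert k; simp only [_root_.Fin.forall_fin_succ, _root_.Nat.succ_eq_add_one, Nat.reduceAdd, Fin.isValue, _root_.Matrix.cons_val_zero, _root_.Matrix.cons_val_one, _root_.Matrix.cons_val, _root_.neg_neg, _root_.Matrix.cons_val_succ, _root_.Fin.succ_zero_eq_one, _root_.Fin.succ_one_eq_two, _root_.Matrix.cons_val_fin_one, Fin.reduceSucc, _root_.IsEmpty.forall_iff, _root_.and_self])

theorem sR_ne (i : Fin 4) : sR i ![0, 1, 2, 4] ≠ ![0, 1, 2, 4] := by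
  revert i; decide +kernel

theorem sR_ne2 (i j : Fin 4) (hij : i ≠ j) : sR i (sR j ![0, 1, 2, 4]) ≠ ![0, 1, 2, 4] := by
  intro h
  have h2 : sR j ![0, 1, 2, 4] = sR i ![0, 1, 2, 4] := by
    have := congrArg (sR i) h
    rwa [sR_sq] at this
  revert h2
  revert i j
  decide +kernel

theorem card_ker (i : Fin 4) : Nat.card ↥(lam i).ker = 125 := by
  have hrt : ∀ i, rt i 2 ≠ 0 ∨ rt i 1 ≠ 0 := by decide
  have : Fact (Nat.Prime 5) := ⟨by norm_num⟩
  have hs : Function.Surjective (lam i) := by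
    intro x
    have h1 : rt i 2 ≠ 0 ∨ rt i 1 ≠ 0 := hrt i
    rcases h1 with h1 | h1
    · refine ⟨Pi.single 2 ((rt i 2)⁻¹ * x), ?_⟩
      rw [lam_apply]
      simp only [Pi.single_apply]
      simp [mul_inv_cancel_left₀ h1]
    · refine ⟨Pi.single 1 ((rt i 1)⁻¹ * x), ?_⟩
      rw [lam_apply]
      simp only [Pi.single_apply]
      simp [mul_inv_cancel_left₀ h1]
  have h1 : Nat.card ↥(lam i).ker * (lam i).ker.index = Nat.card V4 := AddSubgroup.card_mul_index _
  have h2 : (lam i).ker.index = 5 := by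
    rw [AddSubgroup.index_ker, AddMonoidHom.range_eq_top.2 hs]
    simp only [_root_.AddSubgroup.mem_top, _root_.Nat.card_eq_fintype_card, _root_.Fintype.card_subtype_true, _root_.ZMod.card]
  rw [h2] at h1
  have h3 : Nat.card V4 = 625 := by
    rw [Nat.card_eq_fintype_card, Fintype.card_fun, ZMod.card, Fintype.card_fin]
    norm_num
  omega

section
variable {X : Type*} [Group X] (e : Fin 4 → X)

/-- the homomorphism `(ℤ/5)⁴ → X` -/
def fE (v : V4) : X := e 0 ^ (v 0).val * e 1 ^ (v 1).val * (e 2 ^ (v 2).val * e 3 ^ (v 3).val)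

theorem pow_val_add {x : X} (hx : x ^ 5 = 1) (s t : ZMod 5) : x ^ (s + t).val = x ^ s.val * x ^ t.val := by
  rw [← pow_add, ZMod.val_add]
  conv_rhs => rw [← Nat.div_add_mod (s.val + t.val) 5, pow_add, pow_mul, hx, one_pow, one_mul]

theorem fE_zero : fE e 0 = 1 := by simp [fE]

variable {e}

theorem fE_add (h5 : ∀ i, e i ^ 5 = 1) (hc : ∀ i j, e i * e j = e j * e i) (u v : V4) :
    fE e (u + v) = fE e u * fE e v := by
  have hp : ∀ (i j : Fin 4) (m k : ℕ), Commute (e i ^ m) (e j ^ k) := fun i j m k =>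
    (show Commute (e i) (e j) from hc i j).pow_pow m k
  unfold fE
  simp only [Pi.add_apply]
  rw [pow_val_add (h5 0), pow_val_add (h5 1), pow_val_add (h5 2), pow_val_add (h5 3),
    (hp 0 1 _ _).mul_mul_mul_comm, (hp 2 3 _ _).mul_mul_mul_comm]
  exact Commute.mul_mul_mul_comm (((hp 0 2 _ _).mul_right (hp 0 3 _ _)).mul_left ((hp 1 2 _ _).mul_right (hp 1 3 _ _))) _ _

theorem fE_neg (h5 : ∀ i, e i ^ 5 = 1) (hc : ∀ i j, e i * e j = e j * e i) (v : V4) : fE e (-v) = (fE e v)⁻¹ := by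
  rw [eq_inv_iff_mul_eq_one, ← fE_add h5 hc, neg_add_cancel, fE_zero]

theorem fE_nsmul (h5 : ∀ i, e i ^ 5 = 1) (hc : ∀ i j, e i * e j = e j * e i) (n : ℕ) (v : V4) :
    fE e (n • v) = fE e v ^ n := by
  induction n with
  | zero => rw [zero_smul, fE_zero, pow_zero]
  | succ n ih => rw [succ_nsmul, fE_add h5 hc, ih, pow_succ]

theorem smul_val (s : ZMod 5) (v : V4) : s • v = s.val • v := by
  ext k
  simp [Pi.smul_apply]

/-- the homomorphism `(ℤ/5)⁴ → X` -/
def hE (h5 : ∀ i, e i ^ 5 = 1) (hc : ∀ i j, e i * e j = e j * e i) : Multiplicative V4 →* X where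
  toFun v := fE e v.toAdd
  map_one' := fE_zero e
  map_mul' _ _ := fE_add h5 hc _ _

/-- In a group: `L = ⟨a, b⟩` with `a² = b³ = (ab)⁵ = 1` is perfect. -/
theorem perfect_of {a b : X} (ha : a ^ 2 = 1) (hb : b ^ 3 = 1) (hab : (a * b) ^ 5 = 1) :
    ⁅Subgroup.closure {a, b}, Subgroup.closure {a, b}⁆ = Subgroup.closure {a, b} := by
  set L := Subgroup.closure {a, b} with hL
  have haL : a ∈ L := Subgroup.subset_closure (by simp)
  have hbL : b ∈ L := Subgroup.subset_closure (by simp)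
  set a' : L := ⟨a, haL⟩
  set b' : L := ⟨b, hbL⟩
  have ha' : a' ^ 2 = 1 := Subtype.ext ha
  have hb' : b' ^ 3 = 1 := Subtype.ext hb
  have hab' : (a' * b') ^ 5 = 1 := Subtype.ext hab
  have key : a' ∈ commutator L ∧ b' ∈ commutator L := by
    rw [← Abelianization.ker_of, MonoidHom.mem_ker, MonoidHom.mem_ker]
    have h1 : (Abelianization.of a') ^ 2 = 1 := by rw [← map_pow, ha', map_one]
    have h2 : (Abelianization.of b') ^ 3 = 1 := by rw [← map_pow, hb', map_one]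
    have h3 : (Abelianization.of a' * Abelianization.of b') ^ 5 = 1 := by rw [← map_mul, ← map_pow, hab', map_one]
    generalize Abelianization.of a' = x at *
    generalize Abelianization.of b' = y at *
    have h4 : x ^ 5 = x := by
      rw [show (5 : ℕ) = 2 + 2 + 1 from rfl, pow_add, pow_add, h1]; simp
    have h5 : y ^ 5 = y ^ 2 := by
      rw [show (5 : ℕ) = 3 + 2 from rfl, pow_add, h2]; simp
    rw [mul_pow, h4, h5] at h3
    have h6 : x = y := by
      have : x * y ^ 2 * y = y := by rw [h3, one_mul]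
      rw [mul_assoc, ← pow_succ, h2, mul_one] at this
      exact this
    subst h6
    have h7 : x = 1 := by
      have := h2
      rw [pow_succ, h1, one_mul] at this
      exact this
    exact ⟨h7, h7⟩
  have hmap : (commutator L).map L.subtype = ⁅L, L⁆ := by
    rw [commutator_def, Subgroup.map_commutator, ← MonoidHom.range_eq_map, Subgroup.range_subtype]
  apply le_antisymm
  · rw [← hmap]
    rintro _ ⟨x, _, rfl⟩
    exact x.2
  · conv_lhs => rw [hL]
    rw [Subgroup.closure_le]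
    rintro x (rfl | rfl)
    · rw [← hmap]
      exact ⟨a', key.1, rfl⟩
    · rw [← hmap]
      exact ⟨b', key.2, rfl⟩

/-- the `D₄`-relations from relations between generators -/
theorem d4_abs (a b n : Fin 4 → X) (ha : ∀ i, a i ^ 2 = 1) (hb : ∀ i, b i ^ 3 = 1) (hab : ∀ i, (a i * b i) ^ 5 = 1)
    (ha1 : ∀ i, a i ≠ 1) (hn : ∀ i, n i = b i * a i * b i * a i * b i * b i * a i * b i * a i)
    (hn2 : ∀ i, n i ^ 2 = 1) (h5 : ∀ i, e i ^ 5 = 1) (hc : ∀ i j, e i * e j = e j * e i)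
    (hinj : ∀ v, fE e v = 1 → v = 0) (hroot : ∀ i, fE e (rt i) = a i * b i)
    (hnr : ∀ i, n i * (a i * b i) * n i = (a i * b i)⁻¹)
    (hcomm : ∀ i, ∀ v, lam i v = 0 → a i * fE e v = fE e v * a i ∧ b i * fE e v = fE e v * b i) :
    D4Pre X fun i => Subgroup.closure {a i, b i} := by
  set f := hE h5 hc with hf
  have hfi : Function.Injective f := by
    rw [injective_iff_map_eq_one]
    intro v hv
    exact hinj _ hv
  have hfE : ∀ v : V4, f (Multiplicative.ofAdd v) = fE e v := fun v => rfl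
  have haL : ∀ i, a i ∈ Subgroup.closure {a i, b i} := fun i => Subgroup.subset_closure (by simp)
  have hbL : ∀ i, b i ∈ Subgroup.closure {a i, b i} := fun i => Subgroup.subset_closure (by simp)
  have hnL : ∀ i, n i ∈ Subgroup.closure {a i, b i} := by
    intro i
    rw [hn i]
    have h1 := haL i
    have h2 := hbL i
    exact mul_mem (mul_mem (mul_mem (mul_mem (mul_mem (mul_mem (mul_mem (mul_mem h2 h1) h2) h1) h2) h2) h1) h2) h1
  have hni : ∀ i, (n i)⁻¹ = n i := fun i => by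
    rw [inv_eq_iff_mul_eq_one, ← sq, hn2]
  -- `L i` centralises the kernel of `lam i`
  have hLc : ∀ i, ∀ x ∈ Subgroup.closure {a i, b i}, ∀ v, lam i v = 0 → x * fE e v = fE e v * x := by
    intro i x hx v hv
    have : Subgroup.closure {a i, b i} ≤ Subgroup.centralizer {fE e v} := by
      rw [Subgroup.closure_le]
      rintro y (rfl | rfl)
      · exact Subgroup.mem_centralizer_singleton_iff.2 (hcomm i v hv).1
      · exact Subgroup.mem_centralizer_singleton_iff.2 (hcomm i v hv).2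
    exact Subgroup.mem_centralizer_singleton_iff.1 (this hx)
  -- the action of `n i`
  have hact : ∀ i v, n i * fE e v = fE e (sR i v) * n i := by
    intro i v
    set t : ZMod 5 := 3 * lam i v with ht
    set w : V4 := v - t • rt i with hw
    have hrr : lam i (rt i) = 2 := lam_rt i
    have h5z : (5 : ZMod 5) = 0 := by decide
    have hlt : lam i (t • rt i) = 2 * t := by rw [lam_smul, hrr]; ring
    have hw0 : lam i w = 0 := by
      rw [hw, map_sub, hlt, ht]
      linear_combination (-lam i v) * h5z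
    have hv : v = t • rt i + w := by rw [hw]; abel
    have hs : sR i v = -(t • rt i) + w := by
      have : lam i v • rt i = t • rt i + t • rt i := by
        rw [← add_smul]
        congr 1
        rw [ht]
        linear_combination (-lam i v) * h5z
      unfold sR
      rw [this, hw]
      abel
    have hpw : n i * fE e (t • rt i) * n i = (fE e (t • rt i))⁻¹ := by
      rw [smul_val, fE_nsmul h5 hc, hroot]
      have h1 := hnr i
      have h2 : n i * (a i * b i) ^ t.val * (n i)⁻¹ = ((a i * b i)⁻¹) ^ t.val := by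
        rw [← conj_pow, hni, h1]
      rw [hni] at h2
      rw [h2, inv_pow]
    rw [hs, fE_add h5 hc, fE_neg h5 hc, ← hpw]
    conv_lhs => rw [hv, fE_add h5 hc]
    rw [mul_assoc _ (fE e w), ← hLc i _ (hnL i) w hw0, mul_assoc _ (n i) (n i * _), ← mul_assoc (n i) (n i) (fE e w),
      ← sq, hn2, one_mul, mul_assoc]
  have hact' : ∀ i j v, (n i * n j) * fE e v = fE e (sR i (sR j v)) * (n i * n j) := by
    intro i j v
    rw [mul_assoc, hact, ← mul_assoc, hact, mul_assoc]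
  have hpow : ∀ (k : ℕ) (i j : Fin 4) (v : V4),
      (n i * n j) ^ k * fE e v = fE e ((fun u => sR i (sR j u))^[k] v) * (n i * n j) ^ k := by
    intro k
    induction k with
    | zero => intro i j v; simp
    | succ k ih =>
      intro i j v
      rw [pow_succ, mul_assoc, hact', ← mul_assoc, ih, mul_assoc, Function.iterate_succ_apply]
  have hne : ∀ u v : V4, u ≠ v → fE e u ≠ fE e v := fun u v h h' => h (hfi h')
  refine ⟨f.range, fun i => ((lam i).ker.toSubgroup).map f, n, ?_, ?_, ?_, ?_, ?_, ?_, ?_, ?_, ?_, ?_, ?_, ?_, ?_, ?_⟩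
  · rw [← Nat.card_congr (MonoidHom.ofInjective hfi).toEquiv]
    show Nat.card V4 = 625
    rw [Nat.card_eq_fintype_card, Fintype.card_fun, ZMod.card, Fintype.card_fin]
    norm_num
  · rintro _ ⟨u, rfl⟩ _ ⟨v, rfl⟩
    rw [← map_mul, ← map_mul, mul_comm]
  · rintro i _ ⟨u, _, rfl⟩
    exact ⟨u, rfl⟩
  · intro i
    rw [Subgroup.card_map_of_injective hfi]
    exact card_ker i
  · exact fun i => perfect_of (ha i) (hb i) (hab i)
  · intro i h
    have := haL i
    rw [show Subgroup.closure {a i, b i} = ⊥ from h, Subgroup.mem_bot] at this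
    exact ha1 i this
  · rintro i x hx _ ⟨v, hv, rfl⟩
    exact hLc i x hx v.toAdd hv
  · exact hnL
  · rintro i _ ⟨v, rfl⟩
    refine ⟨Multiplicative.ofAdd (sR i v.toAdd), ?_⟩
    show fE e (sR i v.toAdd) = n i * fE e v.toAdd * (n i)⁻¹
    rw [hact, mul_inv_cancel_right]
  · intro i x _
    rw [hn2, one_mul, mul_one]
  · intro i
    refine ⟨fE e ![0, 1, 2, 4], ⟨_, rfl⟩, fun h => ?_⟩
    rw [hact] at h
    exact hne _ _ (sR_ne i) (mul_right_cancel h)
  · intro i j hij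
    refine ⟨fE e ![0, 1, 2, 4], ⟨_, rfl⟩, fun h => ?_⟩
    rw [hact'] at h
    exact hne _ _ (sR_ne2 i j hij) (mul_right_cancel h)
  · rintro i j hij _ ⟨v, rfl⟩
    show (n i * n j) ^ 3 * fE e v.toAdd = fE e v.toAdd * (n i * n j) ^ 3
    rw [hpow 3 i j]
    exact congrArg (fun u => fE e u * (n i * n j) ^ 3) (sR_adj i j hij v.toAdd)
  · rintro i j hij hij' _ ⟨v, rfl⟩
    show (n i * n j) ^ 2 * fE e v.toAdd = fE e v.toAdd * (n i * n j) ^ 2
    rw [hpow 2 i j]
    exact congrArg (fun u => fE e u * (n i * n j) ^ 2) (sR_nadj i j hij hij' v.toAdd)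

end

end Cfsg.Agent.H893.EE
end

-- part: H893/EE/D4Struct
section
/-!
# The structure half of `d4sys` (S3384, task T4a)

`d4_pre O : D4Pre ↥(Ω₈⁺(4)) (fun i => closure {omA O i, omB O i})`; `d4sys_of` : with `⨆ i, L i = ⊤` this is `D4Sys`.
-/

set_option autoImplicit false

namespace Cfsg.Agent.H893.EE

open Cfsg.Agent.H865.EE Cfsg.Agent.H865.EE.OD Matrix

/-- `e_0 ^ a e_1 ^ b` -/
def P01 (a b : ℕ) : List ℕ := mulB (powB (rE 0) a) (powB (rE 1) b)

/-- `e_2 ^ a e_3 ^ b` -/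
def P23 (a b : ℕ) : List ℕ := mulB (powB (rE 2) a) (powB (rE 3) b)

theorem ok0123 : ((List.range 5).all fun a => (List.range 5).all fun b => okB (P01 a b) && okB (P23 a b)) = true := by
  decide +kernel

set_option maxRecDepth 10000 in
theorem eq0123 : ((List.range 5).all fun a => (List.range 5).all fun b => (List.range 5).all fun c =>
    (List.range 5).all fun d => !(decide (P01 a b = P23 c d)) || decide (a = 0 ∧ b = 0 ∧ c = 0 ∧ d = 0)) = true := by
  decide +kernel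

section
variable {F : Type*} [Field F] (O : Om F)

theorem E_inj {a b c d : ℕ} (ha : a < 5) (hb : b < 5) (hc : c < 5) (hd : d < 5)
    (h : elE O 0 ^ a * elE O 1 ^ b = elE O 2 ^ c * elE O 3 ^ d) : a = 0 ∧ b = 0 ∧ c = 0 ∧ d = 0 := by
  have h1 : HasC O (elE O 0 ^ a * elE O 1 ^ b) (P01 a b) := ((hasE O 0).pow a).mul ((hasE O 1).pow b)
  have h2 : HasC O (elE O 2 ^ c * elE O 3 ^ d) (P23 c d) := ((hasE O 2).pow c).mul ((hasE O 3).pow d)
  have hok := ok0123
  simp only [List.all_eq_true, List.mem_range, Bool.and_eq_true] at hok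
  have h3 : P01 a b = P23 c d := by
    by_contra hne
    exact h1.ne h2 (by rw [(hok a ha b hb).1, (hok c hc d hd).2, decide_eq_true hne]; rfl) h
  have heq := eq0123
  simp only [List.all_eq_true, List.mem_range] at heq
  have h4 := heq a ha b hb c hc d hd
  rw [decide_eq_true h3] at h4
  exact of_decide_eq_true (by simpa using h4)

/-- `Ω₈⁺(F)` -/
abbrev Om8 (F : Type*) [Field F] : Type _ := ↥(Cfsg.Omega F (Cfsg.quadFormPlus 4 F))

/-- `a_i ∈ Ω` -/
def omA (i : Fin 4) : Om8 F := ⟨elA O i, memA O i⟩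
/-- `b_i ∈ Ω` -/
def omB (i : Fin 4) : Om8 F := ⟨elB O i, memB O i⟩
/-- `e_i ∈ Ω` -/
def omE (i : Fin 4) : Om8 F := ⟨elE O i, memE O i⟩
/-- `n_i ∈ Ω` -/
def omN (i : Fin 4) : Om8 F := ⟨elN O i, memN O i⟩

theorem NAB (i : Fin 4) : elN O i * (elA O i * elB O i) * elN O i * (elA O i * elB O i) = 1 :=
  ((((hasN O i).mul ((hasA O i).mul (hasB O i))).mul (hasN O i)).mul ((hasA O i).mul (hasB O i))).eq (HasC.one O)
    (by revert i; decide +kernel)

theorem cAE (i j : Fin 4) (h : (i = 0 ∧ (j = 2 ∨ j = 3)) ∨ (i = 1 ∧ (j = 0 ∨ j = 3)) ∨ ((i = 2 ∨ i = 3) ∧ (j = 0 ∨ j = 1))) :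
    elA O i * elE O j = elE O j * elA O i :=
  ((hasA O i).mul (hasE O j)).eq ((hasE O j).mul (hasA O i)) (by revert i j; decide +kernel)

theorem cBE (i j : Fin 4) (h : (i = 0 ∧ (j = 2 ∨ j = 3)) ∨ (i = 1 ∧ (j = 0 ∨ j = 3)) ∨ ((i = 2 ∨ i = 3) ∧ (j = 0 ∨ j = 1))) :
    elB O i * elE O j = elE O j * elB O i :=
  ((hasB O i).mul (hasE O j)).eq ((hasE O j).mul (hasB O i)) (by revert i j; decide +kernel)

theorem cAEE (i j k : Fin 4) (h : (i = 0 ∧ j = 0 ∧ k = 1) ∨ (i = 1 ∧ j = 1 ∧ k = 2) ∨ (i = 2 ∧ j = 2 ∧ k = 3)) :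
    elA O i * (elE O j * elE O k) = elE O j * elE O k * elA O i :=
  ((hasA O i).mul ((hasE O j).mul (hasE O k))).eq (((hasE O j).mul (hasE O k)).mul (hasA O i))
    (by revert i j k; decide +kernel)

theorem cBEE (i j k : Fin 4) (h : (i = 0 ∧ j = 0 ∧ k = 1) ∨ (i = 1 ∧ j = 1 ∧ k = 2) ∨ (i = 2 ∧ j = 2 ∧ k = 3)) :
    elB O i * (elE O j * elE O k) = elE O j * elE O k * elB O i :=
  ((hasB O i).mul ((hasE O j).mul (hasE O k))).eq (((hasE O j).mul (hasE O k)).mul (hasB O i))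
    (by revert i j k; decide +kernel)

theorem cAE3 : elA O 3 * (elE O 2 * elE O 3 ^ 4) = elE O 2 * elE O 3 ^ 4 * elA O 3 :=
  ((hasA O 3).mul ((hasE O 2).mul ((hasE O 3).pow 4))).eq (((hasE O 2).mul ((hasE O 3).pow 4)).mul (hasA O 3))
    (by decide +kernel)

theorem cBE3 : elB O 3 * (elE O 2 * elE O 3 ^ 4) = elE O 2 * elE O 3 ^ 4 * elB O 3 :=
  ((hasB O 3).mul ((hasE O 2).mul ((hasE O 3).pow 4))).eq (((hasE O 2).mul ((hasE O 3).pow 4)).mul (hasB O 3))
    (by decide +kernel)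

theorem fE_inj (v : V4) (h : fE (elE O) v = 1) : v = 0 := by
  have h5 : ∀ i, elE O i ^ 5 = 1 := E_five O
  have hc : ∀ i j, elE O i * elE O j = elE O j * elE O i := E_comm O
  have hval : ∀ x : ZMod 5, x.val = 0 → x = 0 := fun x hx => (ZMod.val_eq_zero x).1 hx
  have hneg : fE (elE O) ![0, 0, v 2, v 3] * fE (elE O) ![0, 0, -v 2, -v 3] = 1 := by
    rw [← fE_add h5 hc, ← fE_zero (elE O)]
    congr 1
    ext k
    fin_cases k <;> simp
  have h1 : elE O 0 ^ (v 0).val * elE O 1 ^ (v 1).val = elE O 2 ^ (-v 2).val * elE O 3 ^ (-v 3).val := by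
    have e1 : fE (elE O) ![0, 0, v 2, v 3] = elE O 2 ^ (v 2).val * elE O 3 ^ (v 3).val := by
      simp [fE]
    have e2 : fE (elE O) ![0, 0, -v 2, -v 3] = elE O 2 ^ (-v 2).val * elE O 3 ^ (-v 3).val := by
      simp only [fE, _root_.Fin.isValue, _root_.Matrix.cons_val_zero, _root_.ZMod.val_zero, _root_.pow_zero, _root_.Matrix.cons_val_one, _root_.mul_one, _root_.Matrix.cons_val, _root_.one_mul]
    rw [e1, e2] at hneg
    have h' : elE O 0 ^ (v 0).val * elE O 1 ^ (v 1).val * (elE O 2 ^ (v 2).val * elE O 3 ^ (v 3).val) = 1 := h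
    rw [mul_eq_one_iff_inv_eq] at hneg
    rw [← hneg]
    exact eq_inv_of_mul_eq_one_left h'
  obtain ⟨g0, g1, g2, g3⟩ := E_inj O (ZMod.val_lt _) (ZMod.val_lt _) (ZMod.val_lt _) (ZMod.val_lt _) h1
  funext k
  fin_cases k
  · exact hval _ g0
  · exact hval _ g1
  · exact neg_eq_zero.1 (hval _ g2)
  · exact neg_eq_zero.1 (hval _ g3)

/-- a commuting criterion: `v` is a combination of three vectors -/
theorem comm_of {X : Type*} [Group X] {e : Fin 4 → X} (h5 : ∀ i, e i ^ 5 = 1) (hc : ∀ i j, e i * e j = e j * e i)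
    (x : X) (u₁ u₂ u₃ v : V4) (s₁ s₂ s₃ : ZMod 5) (hv : v = s₁ • u₁ + s₂ • u₂ + s₃ • u₃) (h₁ : Commute x (fE e u₁))
    (h₂ : Commute x (fE e u₂)) (h₃ : Commute x (fE e u₃)) : x * fE e v = fE e v * x := by
  rw [hv, fE_add h5 hc, fE_add h5 hc, smul_val, smul_val, smul_val, fE_nsmul h5 hc, fE_nsmul h5 hc, fE_nsmul h5 hc]
  exact ((h₁.pow_right _).mul_right (h₂.pow_right _)).mul_right (h₃.pow_right _)

theorem val_one5 : (1 : ZMod 5).val = 1 := rfl

theorem fE_s0 {X : Type*} [Group X] (e : Fin 4 → X) : fE e ![1, 0, 0, 0] = e 0 := by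
  simp [fE, val_one5]
theorem fE_s1 {X : Type*} [Group X] (e : Fin 4 → X) : fE e ![0, 1, 0, 0] = e 1 := by
  simp [fE, val_one5]
theorem fE_s2 {X : Type*} [Group X] (e : Fin 4 → X) : fE e ![0, 0, 1, 0] = e 2 := by
  simp [fE, val_one5]
theorem fE_s3 {X : Type*} [Group X] (e : Fin 4 → X) : fE e ![0, 0, 0, 1] = e 3 := by
  simp [fE, val_one5]
theorem fE_s01 {X : Type*} [Group X] (e : Fin 4 → X) : fE e ![1, 1, 0, 0] = e 0 * e 1 := by
  simp [fE, val_one5]
theorem fE_s12 {X : Type*} [Group X] (e : Fin 4 → X) : fE e ![0, 1, 1, 0] = e 1 * e 2 := by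
  simp [fE, val_one5]
theorem fE_s23 {X : Type*} [Group X] (e : Fin 4 → X) : fE e ![0, 0, 1, 1] = e 2 * e 3 := by
  simp [fE, val_one5]
theorem fE_s23' {X : Type*} [Group X] (e : Fin 4 → X) : fE e ![0, 0, 1, -1] = e 2 * e 3 ^ 4 := by
  simp [fE, val_one5]

theorem comm_lam (i : Fin 4) (x : Iso F) (v : V4) (hv : lam i v = 0)
    (h : (i = 0 ∧ Commute x (elE O 2) ∧ Commute x (elE O 3) ∧ Commute x (elE O 0 * elE O 1)) ∨
      (i = 1 ∧ Commute x (elE O 0) ∧ Commute x (elE O 3) ∧ Commute x (elE O 1 * elE O 2)) ∨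
      (i = 2 ∧ Commute x (elE O 0) ∧ Commute x (elE O 1) ∧ Commute x (elE O 2 * elE O 3)) ∨
      (i = 3 ∧ Commute x (elE O 0) ∧ Commute x (elE O 1) ∧ Commute x (elE O 2 * elE O 3 ^ 4))) :
    x * fE (elE O) v = fE (elE O) v * x := by
  rw [lam_apply] at hv
  rcases h with ⟨rfl, h1, h2, h3⟩ | ⟨rfl, h1, h2, h3⟩ | ⟨rfl, h1, h2, h3⟩ | ⟨rfl, h1, h2, h3⟩
  · simp only [rt] at hv
    refine comm_of (E_five O) (E_comm O) x ![0, 0, 1, 0] ![0, 0, 0, 1] ![1, 1, 0, 0] v (v 2) (v 3) (v 0) ?_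
      (by rwa [fE_s2]) (by rwa [fE_s3]) (by rwa [fE_s01])
    have : v 1 = v 0 := by
      simp only [_root_.Fin.isValue, _root_.Matrix.cons_val', _root_.Matrix.cons_val_zero, _root_.Matrix.cons_val_fin_one, _root_.one_mul, _root_.Matrix.cons_val_one, _root_.neg_mul, _root_.Matrix.cons_val, _root_.MulZeroClass.zero_mul, _root_.add_zero] at hv
      linear_combination -hv
    funext k
    (revert k; simp only [this, _root_.Fin.forall_fin_succ, Fin.isValue, _root_.Matrix.smul_cons, _root_.smul_eq_mul, _root_.MulZeroClass.mul_zero, _root_.mul_one, _root_.Matrix.smul_empty, _root_.Matrix.add_cons, _root_.Matrix.head_cons, _root_.add_zero, _root_.Matrix.tail_cons, _root_.zero_add, _root_.Matrix.empty_add_empty, _root_.Pi.add_apply, _root_.Matrix.cons_val_zero, _root_.Matrix.cons_val_succ, _root_.Fin.succ_zero_eq_one, _root_.Fin.succ_one_eq_two, _root_.Matrix.cons_val_fin_one, Fin.reduceSucc, _root_.IsEmpty.forall_iff, _root_.and_self])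
  · simp only [rt] at hv
    refine comm_of (E_five O) (E_comm O) x ![1, 0, 0, 0] ![0, 0, 0, 1] ![0, 1, 1, 0] v (v 0) (v 3) (v 1) ?_
      (by rwa [fE_s0]) (by rwa [fE_s3]) (by rwa [fE_s12])
    have : v 2 = v 1 := by
      simp only [_root_.Fin.isValue, _root_.Matrix.cons_val', _root_.Matrix.cons_val_zero, _root_.Matrix.cons_val_fin_one, _root_.Matrix.cons_val_one, _root_.MulZeroClass.zero_mul, _root_.one_mul, _root_.zero_add, _root_.Matrix.cons_val, _root_.neg_mul, _root_.add_zero] at hv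
      linear_combination -hv
    funext k
    (revert k; simp only [this, _root_.Fin.forall_fin_succ, Fin.isValue, _root_.Matrix.smul_cons, _root_.smul_eq_mul, _root_.mul_one, _root_.MulZeroClass.mul_zero, _root_.Matrix.smul_empty, _root_.Matrix.add_cons, _root_.Matrix.head_cons, _root_.add_zero, _root_.Matrix.tail_cons, _root_.zero_add, _root_.Matrix.empty_add_empty, _root_.Pi.add_apply, _root_.Matrix.cons_val_zero, _root_.Matrix.cons_val_succ, _root_.Fin.succ_zero_eq_one, _root_.Fin.succ_one_eq_two, _root_.Matrix.cons_val_fin_one, Fin.reduceSucc, _root_.IsEmpty.forall_iff, _root_.and_self])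
  · simp only [rt] at hv
    refine comm_of (E_five O) (E_comm O) x ![1, 0, 0, 0] ![0, 1, 0, 0] ![0, 0, 1, 1] v (v 0) (v 1) (v 2) ?_
      (by rwa [fE_s0]) (by rwa [fE_s1]) (by rwa [fE_s23])
    have : v 3 = v 2 := by
      simp only [_root_.Fin.isValue, _root_.Matrix.cons_val', _root_.Matrix.cons_val_zero, _root_.Matrix.cons_val_fin_one, _root_.Matrix.cons_val, _root_.Matrix.cons_val_one, _root_.MulZeroClass.zero_mul, _root_.add_zero, _root_.one_mul, _root_.zero_add, _root_.neg_mul] at hv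
      linear_combination -hv
    funext k
    (revert k; simp only [this, _root_.Fin.forall_fin_succ, Fin.isValue, _root_.Matrix.smul_cons, _root_.smul_eq_mul, _root_.mul_one, _root_.MulZeroClass.mul_zero, _root_.Matrix.smul_empty, _root_.Matrix.add_cons, _root_.Matrix.head_cons, _root_.add_zero, _root_.Matrix.tail_cons, _root_.zero_add, _root_.Matrix.empty_add_empty, _root_.Pi.add_apply, _root_.Matrix.cons_val_zero, _root_.Matrix.cons_val_succ, _root_.Fin.succ_zero_eq_one, _root_.Fin.succ_one_eq_two, _root_.Matrix.cons_val_fin_one, Fin.reduceSucc, _root_.IsEmpty.forall_iff, _root_.and_self])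
  · simp only [rt] at hv
    refine comm_of (E_five O) (E_comm O) x ![1, 0, 0, 0] ![0, 1, 0, 0] ![0, 0, 1, -1] v (v 0) (v 1) (v 2) ?_
      (by rwa [fE_s0]) (by rwa [fE_s1]) (by rwa [fE_s23'])
    have : v 3 = - v 2 := by
      simp only [_root_.Fin.isValue, _root_.Matrix.cons_val', _root_.Matrix.cons_val_zero, _root_.Matrix.cons_val_fin_one, _root_.Matrix.cons_val, _root_.Matrix.cons_val_one, _root_.MulZeroClass.zero_mul, _root_.add_zero, _root_.one_mul, _root_.zero_add] at hv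
      linear_combination hv
    funext k
    (revert k; simp only [this, _root_.Fin.forall_fin_succ, Fin.isValue, _root_.Matrix.smul_cons, _root_.smul_eq_mul, _root_.mul_one, _root_.MulZeroClass.mul_zero, _root_.Matrix.smul_empty, _root_.Matrix.add_cons, _root_.Matrix.head_cons, _root_.add_zero, _root_.Matrix.tail_cons, _root_.zero_add, _root_.Matrix.empty_add_empty, _root_.mul_neg, _root_.Pi.add_apply, _root_.Matrix.cons_val_zero, _root_.Matrix.cons_val_succ, _root_.Fin.succ_zero_eq_one, _root_.Fin.succ_one_eq_two, _root_.Matrix.cons_val_fin_one, Fin.reduceSucc, _root_.IsEmpty.forall_iff, _root_.and_self])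

/-- **The structure half.** -/
theorem d4_pre : D4Pre (Om8 F) fun i => Subgroup.closure {omA O i, omB O i} := by
  refine d4_abs (e := omE O) (omA O) (omB O) (omN O) (fun i => Subtype.ext (A_sq O i)) (fun i => Subtype.ext (B_cube O i))
    (fun i => Subtype.ext (AB_five O i)) (fun i h => A_ne O i (congrArg Subtype.val h)) (fun i => rfl)
    (fun i => Subtype.ext (N_sq O i)) (fun i => Subtype.ext (E_five O i)) (fun i j => Subtype.ext (E_comm O i j))
    (fun v h => fE_inj O v (congrArg Subtype.val h)) ?_ ?_ ?_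
  · intro i
    apply Subtype.ext
    show fE (elE O) (rt i) = elA O i * elB O i
    have e1 : fE (elE O) (rt 0) = elE O 0 * elE O 1 ^ 4 := by simp [fE, rt, val_one5]
    have e2 : fE (elE O) (rt 1) = elE O 1 * elE O 2 ^ 4 := by simp only [fE, rt, val_one5, _root_.Fin.isValue, _root_.Matrix.cons_val', _root_.Matrix.cons_val_zero, _root_.Matrix.cons_val_fin_one, _root_.Matrix.cons_val_one, _root_.ZMod.val_zero, _root_.pow_zero, _root_.pow_one, _root_.one_mul, _root_.Matrix.cons_val, _root_.ZMod.val_neg_one, _root_.mul_one]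
    have e3 : fE (elE O) (rt 2) = elE O 2 * elE O 3 ^ 4 := by simp [fE, rt, val_one5]
    have e4 : fE (elE O) (rt 3) = elE O 2 * elE O 3 := by simp [fE, rt, val_one5]
    fin_cases i
    · exact e1.trans (((hasE O 0).mul ((hasE O 1).pow 4)).eq ((hasA O 0).mul (hasB O 0)) (by decide +kernel))
    · exact e2.trans (((hasE O 1).mul ((hasE O 2).pow 4)).eq ((hasA O 1).mul (hasB O 1)) (by decide +kernel))
    · exact e3.trans (((hasE O 2).mul ((hasE O 3).pow 4)).eq ((hasA O 2).mul (hasB O 2)) (by decide +kernel))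
    · exact e4.trans (AB3 O).symm
  · intro i
    exact Subtype.ext (eq_inv_of_mul_eq_one_left (NAB O i))
  · intro i v hv
    refine ⟨Subtype.ext (comm_lam O i (elA O i) v hv ?_), Subtype.ext (comm_lam O i (elB O i) v hv ?_)⟩
    · fin_cases i
      · exact Or.inl ⟨rfl, cAE O 0 2 (by decide), cAE O 0 3 (by decide), cAEE O 0 0 1 (by decide)⟩
      · exact Or.inr (Or.inl ⟨rfl, cAE O 1 0 (by decide), cAE O 1 3 (by decide), cAEE O 1 1 2 (by decide)⟩)
      · exact Or.inr (Or.inr (Or.inl ⟨rfl, cAE O 2 0 (by decide), cAE O 2 1 (by decide), cAEE O 2 2 3 (by decide)⟩))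
      · exact Or.inr (Or.inr (Or.inr ⟨rfl, cAE O 3 0 (by decide), cAE O 3 1 (by decide), cAE3 O⟩))
    · fin_cases i
      · exact Or.inl ⟨rfl, cBE O 0 2 (by decide), cBE O 0 3 (by decide), cBEE O 0 0 1 (by decide)⟩
      · exact Or.inr (Or.inl ⟨rfl, cBE O 1 0 (by decide), cBE O 1 3 (by decide), cBEE O 1 1 2 (by decide)⟩)
      · exact Or.inr (Or.inr (Or.inl ⟨rfl, cBE O 2 0 (by decide), cBE O 2 1 (by decide), cBEE O 2 2 3 (by decide)⟩))
      · exact Or.inr (Or.inr (Or.inr ⟨rfl, cBE O 3 0 (by decide), cBE O 3 1 (by decide), cBE3 O⟩))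

/-- with the generation half this is `d4sys` -/
theorem d4sys_of (h : ⨆ i, Subgroup.closure {omA O i, omB O i} = (⊤ : Subgroup (Om8 F))) : D4Sys (Om8 F) :=
  (d4_pre O).sys h

end

end Cfsg.Agent.H893.EE
end

-- part: H342/EE/D4sys
section
/-!
# `Ω₈⁺(4)` has a `D₄`-system (helper342, S3384 T4)
-/

set_option autoImplicit false

namespace Cfsg.Agent.H342.EE

open Cfsg Cfsg.Agent.H865.EE Cfsg.Agent.H893.EE

universe u

theorem mem_four {F : Type*} [Field F] [Fintype F] (hF : Fintype.card F = 4) (O : Om F) (x : F) :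
    x = 0 ∨ x = 1 ∨ x = O.ω ∨ x = O.ω + 1 := by
  classical
  have h1 : ({0, 1, O.ω, O.ω + 1} : Finset F) = Finset.univ := by
    apply Finset.eq_univ_of_card
    rw [hF]
    have h3 : O.ω ≠ O.ω + 1 := fun hh => one_ne_zero (α := F) (by linear_combination -hh)
    have h4 : (1 : F) ≠ O.ω + 1 := fun hh => O.ne0 (by linear_combination -hh)
    rw [Finset.card_insert_of_notMem, Finset.card_insert_of_notMem, Finset.card_insert_of_notMem,
      Finset.card_singleton]
    · rw [Finset.mem_singleton]; exact h3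
    · simp only [Finset.mem_insert, Finset.mem_singleton, not_or]
      exact ⟨O.ne1.symm, h4⟩
    · simp only [Finset.mem_insert, Finset.mem_singleton, not_or]
      exact ⟨zero_ne_one, O.ne0.symm, O.ne11.symm⟩
  have h2 := Finset.mem_univ x
  rw [← h1] at h2
  simpa only [_root_.Finset.mem_insert, _root_.Finset.mem_singleton] using h2

theorem iSup_closure {F : Type*} [Field F] [Fintype F] (hF : Fintype.card F = 4) (O : Om F) :
    ⨆ i, Subgroup.closure {omA O i, omB O i} = (⊤ : Subgroup (Om8 F)) := by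
  set S : Subgroup (Om8 F) := ⨆ i, Subgroup.closure {omA O i, omB O i} with hS
  have hle : ∀ i, Subgroup.closure {omA O i, omB O i} ≤ S := fun i =>
    le_iSup (fun i => Subgroup.closure {omA O i, omB O i}) i
  have hK := gen (ω := O.ω) (by rw [pow_two]; exact O.sq) (mem_four hF O)
    (S.map (Omega F (quadFormPlus 4 F)).subtype)
    (fun i => ⟨elA O i, ⟨omA O i, hle i (Subgroup.subset_closure (by simp)), rfl⟩, coA O i⟩)
    (fun i => ⟨elB O i, ⟨omB O i, hle i (Subgroup.subset_closure (by simp)), rfl⟩, coB O i⟩)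
  rw [eq_top_iff]
  intro x _
  obtain ⟨y, hy, hyx⟩ := hK x.2
  rwa [← Subtype.ext hyx]

/-- `Ω₈⁺(4)` has a `D₄`-system -/
theorem d4sys (F : Type u) [Field F] [Fintype F] (hF : Fintype.card F = 4) :
    D4Sys ↥(Cfsg.Omega F (Cfsg.quadFormPlus 4 F)) := by
  obtain ⟨O⟩ := exists_Om hF
  exact d4sys_of O (iSup_closure hF O)

end Cfsg.Agent.H342.EE
end

private theorem dce_aaa77d84b5c1 : _root_.True := by
  try have : _root_.True := by simp only [_root_.Cfsg.Agent.H342.EE.run.eq_2]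
  try have : _root_.True := by simp only [_root_.Cfsg.Agent.H893.EE.vm.eq_2]
  try have : _root_.True := by simp only [_root_.Cfsg.Agent.H893.EE.vm.eq_def]
  try have : _root_.True := by simp only [_root_.Cfsg.Agent.H342.EE.run.eq_def]
  try have : _root_.True := by simp only [_root_.Cfsg.Agent.H893.EE.rt.eq_1]
  try have : _root_.True := by simp only [_root_.Cfsg.Agent.H342.EE.run.eq_1]
  try have : _root_.True := by simp only [_root_.Cfsg.Agent.H893.EE.vm.eq_1]
  try have : _root_.True := by simp only [_root_.Cfsg.Agent.H893.EE.bv.eq_1]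
  try have : _root_.True := by simp only [_root_.Cfsg.Agent.H893.EE.fE.eq_1]
  try have : _root_.True := by simp only [_root_.Cfsg.Agent.H893.EE.mulB.eq_1]
  try have : _root_.True := by simp only [_root_.Cfsg.Agent.H342.EE.matN.eq_1]
  try have : _root_.True := by simp only [_root_.Cfsg.Agent.H865.EE.OD.ix.eq_2]
  try have : _root_.True := by simp only [_root_.Cfsg.Agent.H893.EE.pB.eq_1]
  try have : _root_.True := by simp only [_root_.Cfsg.Agent.H865.EE.OD.ix.eq_1]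
  exact _root_.True.intro
end

-- part: H857/OE8/PsiC
section
prune_inst 0x7f4c1104640014010000018000220000204180000000040000008200100014042400502080100201100082a80080004000000180000400000000a000000000401000008520682080104040000000080400000000000000000000000000000000004000000000
set_option linter.all false
open scoped Cfsg.Agent.FastGrp

-- part: H857/OE8/GrpA
section
/-!
# Root elements of `D.group k` in characteristic two (helper857, S3384)

* `xc_root_eq` : a nontrivial element is in one root group only;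
* `nc_eq`, `hc_eq` : the elements `n_i` and `h_i(c)` as products of root elements;
* `gen_top` : the root elements generate;
* `nu_inj_TT` : `nu v ∈ T` only for `v = 1`;
* `exists_rep` : an element normalising the torus permutes the root groups as an element of the Weyl group.
-/

set_option autoImplicit false
set_option linter.unusedSectionVars false

namespace Cfsg.Agent.H857.OE8

open CoxeterSystem Subgroup Cfsg Cfsg.Lie Cfsg.Lie.ChevalleyDatum
open Cfsg.Agent.ChevalleyStructure Cfsg.Agent.ChevalleyStructure.Elts Cfsg.Agent.ChevalleyStructure.CoxeterGeom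
  Cfsg.Agent.ChevalleyStructure.CoxeterGeomTypes Cfsg.Agent.ChevalleyStructure.NPerm
open Cfsg.Agent.Tits.Roots Cfsg.Agent.Tits.Core Cfsg.Agent.Nodes Cfsg.Agent.Nodes.Reps Cfsg.Agent.Nodes.BNOf
  Cfsg.Agent.Nodes.RGDChev Cfsg.Agent.Nodes.Bruhat
open Cfsg.Agent.KFacts.RgdField Cfsg.Agent.KFacts.RgdChevCoord Cfsg.Agent.BpExc.TorCent Cfsg.Agent.BpExc.TorChev
open Cfsg.Agent.BpExc.Tow Cfsg.Agent.BpExc.TowChev Cfsg.Agent.BpExc.Fr
  Cfsg.Agent.BpExc.LangFr Cfsg.Agent.BpExc.FamField Cfsg.Agent.BpExc.FamInst Cfsg.Agent.H129.TorusChar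
  Cfsg.Agent.H795.LangT Cfsg.Agent.H378.TorDual Cfsg.Agent.H378.TorChar
  Cfsg.Agent.H378.TorFin Cfsg.Agent.H865.EE

variable {D : ChevalleyDatum} {l : ℕ} {M : CoxeterMatrix (Fin l)} (hp : IsType D l M) {k : Type} [Field k]

/-- the roots -/
abbrev IR (hp : IsType D l M) (a : Fin l → ℤ) : Prop := IsRoot M.toCoxeterSystem hp.isCartan a

theorem gen_top {K : Subgroup ↥(D.group k)} (h : ∀ a, IR hp a → ∀ c : k, xc hp a c ∈ K) : K = ⊤ := by
  have h1 : D.group k ≤ K.map (D.group k).subtype := by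
    rw [group_le_iff hp.inList]
    intro r hr t
    exact ⟨_, h (vec D l r) (isRoot_vec hp _ hr) t, coe_xc hp hr t⟩
  rw [eq_top_iff]
  rintro ⟨g, hg⟩ -
  obtain ⟨g', hg', e⟩ := h1 hg
  have h2 : g' = ⟨g, hg⟩ := Subtype.ext e
  rw [← h2]
  exact hg'

theorem hom_ext {Z : Type*} [Group Z] {f g : ↥(D.group k) →* Z} (h : ∀ a, IR hp a → ∀ c : k, f (xc hp a c) = g (xc hp a c)) :
    f = g := by
  have h1 : f.eqLocus g = ⊤ := gen_top hp h
  ext y
  have h2 : y ∈ f.eqLocus g := by rw [h1]; exact Subgroup.mem_top y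
  exact h2

variable [CharP k 2]

theorem xc_inj' (hk : LocFin k) {a : Fin l → ℤ} (ha : IR hp a) {c d : k} (h : xc hp a c = xc hp a d) : c = d :=
  ((coordsL hp M.toCoxeterSystem hk 2).coord a ha).inj h

theorem xc_mem' (hk : LocFin k) {a : Fin l → ℤ} (ha : IR hp a) (c : k) : xc hp a c ∈ XX D l k a :=
  (((coordsL hp M.toCoxeterSystem hk 2).coord a ha).mem _).2 ⟨c, rfl⟩

/-- the torus acts by the characters -/
theorem tor_act (hk : LocFin k) {t : ↥(D.group k)} (ht : t ∈ TT D k) {a : Fin l → ℤ} (ha : IR hp a) (c : k) :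
    t * xc hp a c * t⁻¹ = xc hp a (cX hp t a * c) := by
  rw [cX_root hp M.toCoxeterSystem ht ha]
  exact ((coordsL hp M.toCoxeterSystem hk 2).coord a ha).act t ht c

/-- **Different root groups intersect trivially.** -/
theorem xc_root_eq (hk : LocFin k) {a b : Fin l → ℤ} (ha : IR hp a) (hb : IR hp b) {c d : k}
    (h : xc hp a c = xc hp b d) (hc : c ≠ 0) : a = b := by
  by_contra hab
  have H := tow hp M.toCoxeterSystem hk 2
  have hW := finite_W hp M.toCoxeterSystem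
  have h1 := xc_mem' hp hk ha c
  have h2 := xc_mem' hp hk hb d
  rw [← h] at h2
  rw [← XL_eq hp hk] at h1 h2
  obtain ⟨j1, hj1⟩ := H.mem_XL.1 h1
  obtain ⟨j2, hj2⟩ := H.mem_XL.1 h2
  obtain ⟨j, h3, h4⟩ := H.dir j1 j2
  have h5 := OppDec.X_inf_X (H.rgd j) ha hb hab
  have h6 : xc hp a c = 1 := by
    rw [Subgroup.eq_bot_iff_forall] at h5
    exact h5 _ ⟨H.monoX a h3 hj1, H.monoX b h4 hj2⟩
  exact ((coordsL hp M.toCoxeterSystem hk 2).coord a ha).ne_one hc h6

theorem sr_root (i : Fin l) : IR hp (sr i) := isRoot_sr _ _ i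

theorem coe_xc_sr (i : Fin l) (c : k) : ((xc hp (sr i) c : ↥(D.group k)) : GL D.Idx k) = xG hp.inList (D.simple i) c := by
  rw [← vec_simple hp i]
  exact coe_xc hp (simple_lt hp.inList (lt_rank hp i)) c

theorem coe_xc_neg_sr (i : Fin l) (c : k) :
    ((xc hp (-sr i) c : ↥(D.group k)) : GL D.Idx k) = xG hp.inList (D.neg (D.simple i)) c := by
  have h := simple_lt hp.inList (lt_rank hp i)
  rw [← vec_simple hp i, ← vec_neg hp h]
  exact coe_xc hp (neg_lt hp.inList h) c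

/-- `n_a` -/
noncomputable def na (hp : IsType D l M) (k : Type) [Field k] (a : Fin l → ℤ) : ↥(D.group k) :=
  xc hp a 1 * (xc hp (-a) 1 * xc hp a 1)

/-- `h_a(c)` -/
noncomputable def ha' (hp : IsType D l M) (k : Type) [Field k] (a : Fin l → ℤ) (c : k) : ↥(D.group k) :=
  xc hp a c * (xc hp (-a) c⁻¹ * xc hp a c) * na hp k a

theorem nc_eq (i : Fin l) : nc hp k i = na hp k (sr i) := by
  apply Subtype.ext
  show nG hp.inList (D.simple i) 1 = _
  rw [na, nG_def, Subgroup.coe_mul, Subgroup.coe_mul, coe_xc_sr, coe_xc_neg_sr, inv_one, CharTwo.neg_eq]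

theorem hc_eq (i : Fin l) (c : k) : hc hp i c = ha' hp k (sr i) c := by
  apply Subtype.ext
  show hG hp.inList (D.simple i) c = _
  rw [ha', na, hG_def, nG_def, nG_def]
  simp only [Subgroup.coe_mul, coe_xc_sr, coe_xc_neg_sr, inv_one, CharTwo.neg_eq]

theorem nu_na (hk : LocFin k) (v : M.Group) {a : Fin l → ℤ} (ha : IR hp a) :
    nu hp k v * na hp k a * (nu hp k v)⁻¹ = na hp k (rep M.toCoxeterSystem hp.isCartan v a) := by
  have e : nu hp k v * na hp k a * (nu hp k v)⁻¹ = (nu hp k v * xc hp a 1 * (nu hp k v)⁻¹) *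
      ((nu hp k v * xc hp (-a) 1 * (nu hp k v)⁻¹) * (nu hp k v * xc hp a 1 * (nu hp k v)⁻¹)) := by
    rw [na]; group
  rw [e, nu_conj hp hk v ha, nu_conj hp hk v ha.neg, map_neg, na]

theorem nu_ha (hk : LocFin k) (v : M.Group) {a : Fin l → ℤ} (ha : IR hp a) (c : k) :
    nu hp k v * ha' hp k a c * (nu hp k v)⁻¹ = ha' hp k (rep M.toCoxeterSystem hp.isCartan v a) c := by
  have e : nu hp k v * ha' hp k a c * (nu hp k v)⁻¹ = (nu hp k v * xc hp a c * (nu hp k v)⁻¹) *
      ((nu hp k v * xc hp (-a) c⁻¹ * (nu hp k v)⁻¹) * (nu hp k v * xc hp a c * (nu hp k v)⁻¹)) *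
      (nu hp k v * na hp k a * (nu hp k v)⁻¹) := by
    rw [ha']; group
  rw [e, nu_conj hp hk v ha, nu_conj hp hk v ha.neg, map_neg, nu_na hp hk v ha, ha']

/-- the elements `nu v` normalise the torus -/
theorem nu_tor (hk : LocFin k) (v : M.Group) {t : ↥(D.group k)} (ht : t ∈ TT D k) :
    nu hp k v * t * (nu hp k v)⁻¹ ∈ TT D k :=
  (Subgroup.mem_normalizer_iff.1 (nu_rp hp hk v).mem_normalizer t).1 ht

/-- the elements `h_a(c)` are in the torus -/
theorem ha_mem (hk : LocFin k) {a : Fin l → ℤ} (ha : IR hp a) {c : k} (hc0 : c ≠ 0) : ha' hp k a c ∈ TT D k := by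
  obtain ⟨w, i, rfl⟩ := ha
  rw [← nu_ha hp hk w (sr_root hp i), ← hc_eq]
  exact nu_tor hp hk w (hc_mem hp i hc0)

/-- the torus is generated by the `h_i(c)` -/
theorem tor_gen {K : Subgroup ↥(D.group k)} (h : ∀ (i : Fin l) (c : k), c ≠ 0 → ha' hp k (sr i) c ∈ K) :
    TT D k ≤ K := by
  refine (TT_le hp).trans ?_
  rw [Subgroup.closure_le]
  rintro _ ⟨j, c, hc0, rfl⟩
  rw [hc_eq]
  exact h j c hc0

section

variable [IsAlgClosed k]

/-- `nu v ∈ T` only for `v = 1`. -/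
theorem nu_inj_TT (hk : LocFin k) {d : ℕ} {B : Fin l → Fin l → ℤ} (hB : H129.TorusChar.InvC D l d B) (hd : d ≠ 0)
    {v : M.Group} (h : nu hp k v ∈ TT D k) : v = 1 := by
  apply rep_injective M.toCoxeterSystem hp.isCartan
  apply LinearMap.ext
  intro x
  rw [map_one, Module.End.one_apply]
  refine cX_sep hp (k := k) hB hd fun t ht => ?_
  have h1 := cX_rp hp M.toCoxeterSystem hk 2 (nu_rp hp hk v) ht x
  have h2 : nu hp k v * t * (nu hp k v)⁻¹ = t := by
    rw [TT_comm hp _ h _ ht]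
    group
  rwa [h2] at h1

/-- An element normalising the torus permutes the root groups as an element of the Weyl group. -/
theorem exists_rep (hk : LocFin k) {x : ↥(D.group k)} (hx : ∀ t ∈ TT D k, x * t * x⁻¹ ∈ TT D k) :
    ∃ u : M.Group, ∀ a, IR hp a → ∃ c : k, c ≠ 0 ∧
      x * xc hp a 1 * x⁻¹ = xc hp (rep M.toCoxeterSystem hp.isCartan u a) c := by
  obtain ⟨u, hu⟩ := exists_rp_of_normalizes hp hk (r := 2) hx
  refine ⟨u, fun a ha => ?_⟩
  have H := tow hp M.toCoxeterSystem hk 2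
  have h1 := H.conj_rp hu ha
  have h2 : x * xc hp a 1 * x⁻¹ ∈ XL (Xj hp (k := k)) (rep M.toCoxeterSystem hp.isCartan u a) := by
    rw [← h1, mem_cj]
    have e : x⁻¹ * (x * xc hp a 1 * x⁻¹) * x = xc hp a (1 : k) := by group
    rw [e, XL_eq hp hk]
    exact xc_mem' hp hk ha 1
  rw [XL_eq hp hk, ((coordsL hp M.toCoxeterSystem hk 2).coord _ (ha.act u)).mem] at h2
  obtain ⟨c, hc⟩ := h2
  refine ⟨c, ?_, hc.symm⟩
  rintro rfl
  have h0 : xc hp (rep M.toCoxeterSystem hp.isCartan u a) (0 : k) = 1 :=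
    ((coordsL hp M.toCoxeterSystem hk 2).coord _ (ha.act u)).zero
  rw [h0] at hc
  have h3 : xc hp a (1 : k) = 1 := by
    have e : xc hp a (1 : k) = x⁻¹ * (x * xc hp a 1 * x⁻¹) * x := by group
    rw [e, ← hc]
    group
  exact ((coordsL hp M.toCoxeterSystem hk 2).coord a ha).ne_one one_ne_zero h3

end

end Cfsg.Agent.H857.OE8
end

-- part: H857/OE8/Lat
section
/-!
# The lattices spanned by a quadruple of type `D₄` (helper857, S3384)

* `sp b c` : `∑ c i • b i`; `mm b x`, `two_smul_eq` : `2 x = sp b (mm b x) + w₈ (sp b (mm' b x))`;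
* `eq_sp_of_orth` : a root orthogonal to `w₈ b` is in the span of `b`;
* `sp_refl` : the reflections in the `b i`.
-/

set_option autoImplicit false
set_option linter.unusedSectionVars false

namespace Cfsg.Agent.H857.OE8

open CoxeterSystem Cfsg Cfsg.Lie
open Cfsg.Agent.ChevalleyStructure.CoxeterGeom Cfsg.Agent.ChevalleyStructure.CoxeterGeomTypes
open Cfsg.Agent.Tits.Roots Cfsg.Agent.Nodes.RGDChev Cfsg.Agent.H865.EE

/-- the combination of the `b i` -/
def sp (b : Fin 4 → Fin 8 → ℤ) (c : Fin 4 → ℤ) : Fin 8 → ℤ := ∑ i, c i • b i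

theorem sp_add (b : Fin 4 → Fin 8 → ℤ) (c c' : Fin 4 → ℤ) : sp b (c + c') = sp b c + sp b c' := by
  unfold sp
  rw [← Finset.sum_add_distrib]
  exact Finset.sum_congr rfl fun i _ => by rw [Pi.add_apply, add_smul]

theorem sp_smul (b : Fin 4 → Fin 8 → ℤ) (n : ℤ) (c : Fin 4 → ℤ) : sp b (n • c) = n • sp b c := by
  unfold sp
  rw [Finset.smul_sum]
  exact Finset.sum_congr rfl fun i _ => by rw [Pi.smul_apply, smul_assoc]

theorem sp_neg (b : Fin 4 → Fin 8 → ℤ) (c : Fin 4 → ℤ) : sp b (-c) = -sp b c := by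
  have := sp_smul b (-1) c
  rwa [neg_one_smul, neg_one_smul] at this

theorem sp_sub (b : Fin 4 → Fin 8 → ℤ) (c c' : Fin 4 → ℤ) : sp b (c - c') = sp b c - sp b c' := by
  rw [sub_eq_add_neg, sp_add, sp_neg, sub_eq_add_neg]

theorem sp_sr (b : Fin 4 → Fin 8 → ℤ) (i : Fin 4) : sp b (sr i) = b i := by
  unfold sp
  rw [Finset.sum_eq_single i (fun j _ hj => by rw [sr_ne hj, zero_smul]) (fun h => absurd (Finset.mem_univ i) h),
    sr_self, one_smul]

/-- the Cartan matrix of type `D₄` -/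
def C4 : Fin 4 → Fin 4 → ℤ := ![![2, -1, 0, 0], ![-1, 2, -1, -1], ![0, -1, 2, 0], ![0, -1, 0, 2]]

/-- twice its inverse -/
def B4 : Fin 4 → Fin 4 → ℤ := ![![2, 2, 1, 1], ![2, 4, 2, 2], ![1, 2, 2, 1], ![1, 2, 1, 2]]

theorem hC4 : ∀ i j, C4 i j = cartanOf chevD4 4 i j := by decide +kernel

theorem gram {b : Fin 4 → Fin 8 → ℤ} (hb : Quad b) (i j : Fin 4) : bf (b i) (b j) = C4 i j := by
  by_cases h : i = j
  · subst h
    rw [bf_self (hb.root i)]
    revert i; decide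
  · rw [hb.ad i j h]
    revert h; revert i j; decide

theorem gram_w {b : Fin 4 → Fin 8 → ℤ} (hb : Quad b) (i j : Fin 4) :
    bf (act w8 (b i)) (act w8 (b j)) = C4 i j := by rw [bf_act, gram hb]

theorem bf_sp_left (b : Fin 4 → Fin 8 → ℤ) (c : Fin 4 → ℤ) (y : Fin 8 → ℤ) :
    bf (sp b c) y = ∑ i, c i * bf (b i) y := by
  unfold sp
  rw [bf_sum_left]
  exact Finset.sum_congr rfl fun i _ => bf_smul_left _ _ _

theorem bf_sp_right (b : Fin 4 → Fin 8 → ℤ) (c : Fin 4 → ℤ) (y : Fin 8 → ℤ) :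
    bf y (sp b c) = ∑ i, c i * bf y (b i) := by
  rw [bf_comm, bf_sp_left]
  exact Finset.sum_congr rfl fun i _ => by rw [bf_comm]

theorem orth_sp {b : Fin 4 → Fin 8 → ℤ} (hb : Quad b) (c c' : Fin 4 → ℤ) : bf (sp b c) (act w8 (sp b c')) = 0 := by
  rw [bf_sp_left]
  refine Finset.sum_eq_zero fun i _ => ?_
  have h1 : act w8 (sp b c') = sp (fun j => act w8 (b j)) c' := by
    unfold sp
    rw [map_sum]
    exact Finset.sum_congr rfl fun j _ => map_smul _ _ _
  rw [h1, bf_sp_right, Finset.sum_eq_zero fun j _ => by rw [hb.orth, mul_zero], mul_zero]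

theorem norm_sp {b : Fin 4 → Fin 8 → ℤ} (hb : Quad b) (c : Fin 4 → ℤ) :
    bf (sp b c) (sp b c) = c 0 ^ 2 + (c 1 - c 0) ^ 2 + (c 2 + c 3 - c 1) ^ 2 + (c 3 - c 2) ^ 2 := by
  rw [bf_sp_left]
  simp only [bf_sp_right, gram hb, Fin.sum_univ_four]
  simp only [C4, _root_.Fin.isValue, _root_.Int.reduceNeg, _root_.Matrix.cons_val', _root_.Matrix.cons_val_zero, _root_.Matrix.cons_val_fin_one, _root_.Matrix.cons_val_one, _root_.mul_neg, _root_.mul_one, _root_.Matrix.cons_val, _root_.MulZeroClass.mul_zero, _root_.add_zero, _root_.zero_add]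
  ring

theorem norm_even (x : Fin 8 → ℤ) : 2 ∣ bf x x := by
  unfold bf
  simp only [Fin.sum_univ_eight]
  simp only [C8, _root_.Fin.isValue, _root_.Int.reduceNeg, _root_.Matrix.cons_val', _root_.Matrix.cons_val_zero, _root_.Matrix.cons_val_fin_one, _root_.Matrix.cons_val_one, _root_.MulZeroClass.mul_zero, _root_.MulZeroClass.zero_mul, _root_.add_zero, _root_.Matrix.cons_val, _root_.mul_neg, _root_.mul_one, _root_.neg_mul, _root_.zero_add]
  refine ⟨x 0 ^ 2 + x 1 ^ 2 + x 2 ^ 2 + x 3 ^ 2 + x 4 ^ 2 + x 5 ^ 2 + x 6 ^ 2 + x 7 ^ 2 - x 0 * x 2 - x 1 * x 3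
    - x 2 * x 3 - x 3 * x 4 - x 4 * x 5 - x 5 * x 6 - x 6 * x 7, ?_⟩
  ring

/-! ### completeness -/

/-- the eight roots -/
noncomputable def vv (b : Fin 4 → Fin 8 → ℤ) : Fin 4 ⊕ Fin 4 → Fin 8 → ℤ := Sum.elim b fun j => act w8 (b j)

/-- the coordinates of `2 x` -/
def mc (x : Fin 8 → ℤ) (b : Fin 4 → Fin 8 → ℤ) : Fin 4 → ℤ := fun i => ∑ j, B4 i j * bf x (b j)

theorem B4_C4 : ∀ i j : Fin 4, ∑ m, B4 i m * C4 m j = if i = j then 2 else 0 := by decide

/-- **Completeness.** -/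
theorem two_smul_eq {b : Fin 4 → Fin 8 → ℤ} (hb : Quad b) (x : Fin 8 → ℤ) :
    (2 : ℤ) • x = sp b (mc x b) + act w8 (sp b (mc x fun j => act w8 (b j))) := by
  -- the matrices over `ℚ`
  let P : Matrix (Fin 4 ⊕ Fin 4) (Fin 8) ℚ := Matrix.of fun i m => (vv b i m : ℚ)
  let X : Matrix (Fin 4 ⊕ Fin 4) (Fin 8) ℚ := Matrix.of fun i m =>
    Sum.elim (fun i' => (1 / 2 : ℚ) * ∑ j, (B4 i' j : ℚ) * (∑ n, (b j n : ℚ) * C8 n m))
      (fun i' => (1 / 2 : ℚ) * ∑ j, (B4 i' j : ℚ) * (∑ n, (act w8 (b j) n : ℚ) * C8 n m)) i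
  have hbf : ∀ u v : Fin 8 → ℤ, ∑ m, (∑ n, (u n : ℚ) * C8 n m) * (v m : ℚ) = (bf u v : ℚ) := by
    intro u v
    unfold bf
    push_cast
    simp only [Finset.sum_mul]
    rw [Finset.sum_comm]
  have hXv : ∀ (i : Fin 4 ⊕ Fin 4) (v : Fin 8 → ℤ), ∑ m, X i m * (v m : ℚ) =
      Sum.elim (fun i' => (1 / 2 : ℚ) * ∑ j, (B4 i' j : ℚ) * (bf (b j) v : ℚ))
        (fun i' => (1 / 2 : ℚ) * ∑ j, (B4 i' j : ℚ) * (bf (act w8 (b j)) v : ℚ)) i := by
    intro i v
    rcases i with i | i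
    · show ∑ m, ((1 / 2 : ℚ) * ∑ j, (B4 i j : ℚ) * (∑ n, (b j n : ℚ) * C8 n m)) * (v m : ℚ) = _
      simp only [Sum.elim_inl, ← hbf, Finset.mul_sum, Finset.sum_mul]
      rw [Finset.sum_comm]
      refine Finset.sum_congr rfl fun j _ => Finset.sum_congr rfl fun m _ => Finset.sum_congr rfl fun n _ => by ring
    · show ∑ m, ((1 / 2 : ℚ) * ∑ j, (B4 i j : ℚ) * (∑ n, (act w8 (b j) n : ℚ) * C8 n m)) * (v m : ℚ) = _
      simp only [Sum.elim_inr, ← hbf, Finset.mul_sum, Finset.sum_mul]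
      rw [Finset.sum_comm]
      refine Finset.sum_congr rfl fun j _ => Finset.sum_congr rfl fun m _ => Finset.sum_congr rfl fun n _ => by ring
  have hG : ∀ i j : Fin 4, (1 / 2 : ℚ) * ∑ m, (B4 i m : ℚ) * (C4 m j : ℚ) = if i = j then 1 else 0 := by
    intro i j
    have h := congrArg (Int.cast : ℤ → ℚ) (B4_C4 i j)
    push_cast at h
    rw [h]
    split_ifs <;> norm_num
  have hXP : X * P.transpose = 1 := by
    ext i j
    rw [Matrix.mul_apply]
    have h1 : ∑ m, X i m * P.transpose m j = ∑ m, X i m * (vv b j m : ℚ) := rfl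
    rw [h1, hXv]
    rcases i with i | i <;> rcases j with j | j
    · show (1 / 2 : ℚ) * ∑ m, (B4 i m : ℚ) * (bf (b m) (b j) : ℚ) = _
      simp only [gram hb, hG]
      simp [Matrix.one_apply]
    · show (1 / 2 : ℚ) * ∑ m, (B4 i m : ℚ) * (bf (b m) (act w8 (b j)) : ℚ) = _
      simp only [hb.orth]
      simp
    · show (1 / 2 : ℚ) * ∑ m, (B4 i m : ℚ) * (bf (act w8 (b m)) (b j) : ℚ) = _
      simp only [bf_comm (act w8 _), hb.orth]
      simp
    · show (1 / 2 : ℚ) * ∑ m, (B4 i m : ℚ) * (bf (act w8 (b m)) (act w8 (b j)) : ℚ) = _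
      simp only [gram_w hb, hG]
      simp [Matrix.one_apply]
  have hPX : P.transpose * X = 1 := (Matrix.mul_eq_one_comm_of_equiv finSumFinEquiv).1 hXP
  funext n
  have h1 : ∑ m, (P.transpose * X) n m * (x m : ℚ) = (x n : ℚ) := by
    rw [hPX]
    simp [Matrix.one_apply]
  have h2 : ∑ m, (P.transpose * X) n m * (x m : ℚ) = ∑ i, (vv b i n : ℚ) * ∑ m, X i m * (x m : ℚ) := by
    simp only [Matrix.mul_apply, Finset.sum_mul, Finset.mul_sum]
    rw [Finset.sum_comm]
    refine Finset.sum_congr rfl fun i _ => Finset.sum_congr rfl fun m _ => ?_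
    show (vv b i n : ℚ) * X i m * (x m : ℚ) = _
    ring
  rw [h1, Fintype.sum_sum_type] at h2
  simp only [hXv, Sum.elim_inl, Sum.elim_inr] at h2
  have h3 : (act w8 (sp b (mc x fun j => act w8 (b j)))) n =
      ∑ i, (mc x fun j => act w8 (b j)) i * act w8 (b i) n := by
    unfold sp
    rw [map_sum, Finset.sum_apply]
    exact Finset.sum_congr rfl fun i _ => by rw [map_smul]; rfl
  rw [Pi.add_apply, h3]
  have h4 : sp b (mc x b) n = ∑ i, mc x b i * b i n := by
    unfold sp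
    rw [Finset.sum_apply]
    exact Finset.sum_congr rfl fun i _ => rfl
  rw [h4]
  have h5 : ((2 : ℤ) • x) n = 2 * x n := rfl
  rw [h5]
  have h6 : (2 : ℚ) * (x n : ℚ) = ∑ i, (mc x b i : ℚ) * (b i n : ℚ) +
      ∑ i, ((mc x fun j => act w8 (b j)) i : ℚ) * (act w8 (b i) n : ℚ) := by
    rw [h2, mul_add, Finset.mul_sum, Finset.mul_sum]
    refine congrArg₂ (· + ·) ?_ ?_
    · refine Finset.sum_congr rfl fun i _ => ?_
      unfold mc
      push_cast
      simp only [bf_comm x]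
      show 2 * ((b i n : ℚ) * ((1 / 2 : ℚ) * _)) = _
      ring
    · refine Finset.sum_congr rfl fun i _ => ?_
      unfold mc
      push_cast
      simp only [bf_comm x]
      show 2 * ((act w8 (b i) n : ℚ) * ((1 / 2 : ℚ) * _)) = _
      ring
  exact_mod_cast h6

end Cfsg.Agent.H857.OE8
end

-- part: H857/OE8/DFour
section
/-!
# The twisted Frobenius map of `D₄(k)` (helper857, S3384)

`k` algebraically closed, locally finite, of characteristic two.

* `w4` : the longest element of the Weyl group of type `D₄`, `rep_w4` : it is `-1`;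
* `cc k` : conjugation by `nu w4` after the 4-power map; `cc_xc` : `x_a(c) ↦ x_{-a}(c^4)`;
* `fix_cc` : its fixed points are `Ω₈⁺(4)`.
-/

set_option autoImplicit false
set_option linter.unusedSectionVars false

namespace Cfsg.Agent.H857.OE8

open CoxeterSystem Subgroup Cfsg Cfsg.Lie Cfsg.Lie.ChevalleyDatum
open Cfsg.Agent.ChevalleyStructure Cfsg.Agent.ChevalleyStructure.Elts Cfsg.Agent.ChevalleyStructure.CoxeterGeom
  Cfsg.Agent.ChevalleyStructure.CoxeterGeomTypes Cfsg.Agent.ChevalleyStructure.NPerm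
open Cfsg.Agent.Tits.Roots Cfsg.Agent.Tits.Core Cfsg.Agent.Nodes Cfsg.Agent.Nodes.Reps Cfsg.Agent.Nodes.BNOf
  Cfsg.Agent.Nodes.RGDChev Cfsg.Agent.Nodes.Bruhat
open Cfsg.Agent.KFacts.RgdField Cfsg.Agent.KFacts.RgdChevCoord Cfsg.Agent.BpExc.TorCent Cfsg.Agent.BpExc.TorChev
open Cfsg.Agent.BpExc.Tow Cfsg.Agent.BpExc.TowChev Cfsg.Agent.BpExc.Fr
  Cfsg.Agent.BpExc.LangFr Cfsg.Agent.BpExc.FamField Cfsg.Agent.BpExc.FamInst Cfsg.Agent.H129.TorusChar
  Cfsg.Agent.H795.LangT Cfsg.Agent.BpExc.FamExt Cfsg.Agent.BpExc.FamUntw Cfsg.Agent.H378.TorDual Cfsg.Agent.H378.TorChar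
  Cfsg.Agent.H378.TorFin Cfsg.Agent.H378.RankOne Cfsg.Agent.H378.RootTor Cfsg.Agent.H865.EE
open Cfsg.Agent.GpExc.Field (glMap emb coe_emb glMap_xG emb_injective coe_glMap)

theorem d4T : IsType chevD4 4 coxeterD4 := by simp [IsType, typeList]

/-- the fixed points of an endomorphism -/
def Fx {Y : Type*} [Group Y] (f : Y →* Y) : Subgroup Y := f.eqLocus (MonoidHom.id Y)

theorem mem_Fx {Y : Type*} [Group Y] {f : Y →* Y} {y : Y} : y ∈ Fx f ↔ f y = y := Iff.rfl

section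

variable {D : ChevalleyDatum} {l : ℕ} {M : CoxeterMatrix (Fin l)} (hp : IsType D l M) {k : Type} [Field k]
  [IsAlgClosed k] (r : ℕ) [Fact r.Prime] [CharP k r] {F : Type} [Field F] [Finite F] (f : F →+* k) {n : ℕ}
  (hn0 : 0 < n) (hn : Nat.card F = r ^ n) {d : ℕ} {B : Fin l → Fin l → ℤ} (hB : Cfsg.Agent.BpExc.FamExt.InvC D l d B) (hd : d ≠ 0)

include hp f hn0 hn hB hd in
/-- the fixed points of `y ↦ g σ(y) g⁻¹` -/
theorem fix_equiv (hg : Nat.gcd d (Nat.card F - 1) = 1) (g : ↥(D.group k)) :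
    Nonempty (↥(D.group F) ≃* ↥(Fx (tau D k r n g))) := by
  obtain ⟨z, hz⟩ := lang' hp r hn0 g
  have hz1 : phi D k r n z = z * g := by rw [← hz]; group
  have key : ∀ x : ↥(D.group F), z⁻¹ * emb hp.inList f x * z ∈ Fx (tau D k r n g) := by
    intro x
    rw [mem_Fx, tau_apply, map_mul, map_mul, map_inv, phi_emb' hp f r hn, hz1]
    group
  let θ : ↥(D.group F) →* ↥(Fx (tau D k r n g)) :=
    MonoidHom.mk' (fun x => ⟨z⁻¹ * emb hp.inList f x * z, key x⟩) (fun a b => Subtype.ext (by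
      show z⁻¹ * emb hp.inList f (a * b) * z = z⁻¹ * emb hp.inList f a * z * (z⁻¹ * emb hp.inList f b * z)
      rw [map_mul]
      group))
  refine ⟨MulEquiv.ofBijective θ ⟨?_, ?_⟩⟩
  · intro a b hab
    have h1 : z⁻¹ * emb hp.inList f a * z = z⁻¹ * emb hp.inList f b * z := congrArg Subtype.val hab
    exact emb_injective hp.inList f (mul_left_cancel (mul_right_cancel h1))
  · rintro ⟨y, hy⟩
    have h1 := fix_of_tau r hz (mem_Fx.1 hy)
    have h2 := fix_pow_mem' hp f r hn hB hd h1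
    rw [hg, pow_one] at h2
    obtain ⟨x, hx⟩ := h2
    refine ⟨x, Subtype.ext ?_⟩
    show z⁻¹ * emb hp.inList f x * z = y
    rw [hx]
    group

end

/-! ### the longest element -/

/-- a reduced word of the longest element -/
def wL : List (Fin 4) := [0, 1, 2, 3, 0, 1, 2, 3, 0, 1, 2, 3]

/-- the longest element of the Weyl group of type `D₄` -/
noncomputable def w4 : coxeterD4.Group := coxeterD4.toCoxeterSystem.wordProd wL

/-- the Cartan matrix -/
def A4 : Fin 4 → Fin 4 → ℤ := ![![2, -1, 0, 0], ![-1, 2, -1, -1], ![0, -1, 2, 0], ![0, -1, 0, 2]]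

theorem hA4 : ∀ i j, A4 i j = cartanOf chevD4 4 i j := by decide +kernel

/-- a simple reflection -/
def rf (i : Fin 4) (x : Fin 4 → ℤ) : Fin 4 → ℤ := fun j => x j - if j = i then ∑ m, A4 i m * x m else 0

theorem rep_rf (i : Fin 4) (x : Fin 4 → ℤ) :
    rep coxeterD4.toCoxeterSystem d4T.isCartan (coxeterD4.toCoxeterSystem.simple i) x = rf i x := by
  rw [rep_simple_eq]
  funext j
  unfold rf pairing
  rw [Pi.sub_apply, Pi.smul_apply, smul_eq_mul]
  by_cases hj : j = i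
  · subst hj
    rw [sr_self, if_pos rfl, mul_one]
    simp only [hA4]
  · rw [sr_ne hj, if_neg hj, mul_zero]

theorem rep_word (ω : List (Fin 4)) (x : Fin 4 → ℤ) :
    rep coxeterD4.toCoxeterSystem d4T.isCartan (coxeterD4.toCoxeterSystem.wordProd ω) x = ω.foldr rf x := by
  induction ω with
  | nil => rw [coxeterD4.toCoxeterSystem.wordProd_nil, map_one]; rfl
  | cons i ω ih => rw [coxeterD4.toCoxeterSystem.wordProd_cons, rep_mul_apply, ih, rep_rf]; rfl

theorem w4_sr : ∀ i j : Fin 4, wL.foldr rf (fun m => if m = i then 1 else 0) j = if j = i then -1 else 0 := by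
  decide +kernel

theorem rep_w4 (x : Fin 4 → ℤ) : rep coxeterD4.toCoxeterSystem d4T.isCartan w4 x = -x := by
  have h1 : ∀ i, rep coxeterD4.toCoxeterSystem d4T.isCartan w4 (sr i) = -sr i := by
    intro i
    have h2 : (sr i : Fin 4 → ℤ) = fun m => if m = i then 1 else 0 := by
      funext m
      by_cases hm : m = i
      · subst hm; rw [sr_self, if_pos rfl]
      · rw [sr_ne hm, if_neg hm]
    unfold w4
    rw [rep_word, h2]
    funext j
    rw [w4_sr, Pi.neg_apply]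
    by_cases hj : j = i
    · rw [if_pos hj, if_pos hj]
    · rw [if_neg hj, if_neg hj, neg_zero]
  have h2 := IsMC.eq_sum_sr x
  rw [h2, map_sum, ← Finset.sum_neg_distrib]
  exact Finset.sum_congr rfl fun i _ => by rw [map_zsmul, h1, smul_neg]

/-! ### the twisted Frobenius map -/

section

variable (k : Type) [Field k] [IsAlgClosed k] [CharP k 2] [Fact (Nat.Prime 2)]

/-- conjugation by `nu w4` after the 4-power map -/
noncomputable def cc : ↥(chevD4.group k) →* ↥(chevD4.group k) := tau chevD4 k 2 2 (nu d4T k w4)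

variable {k}

theorem cc_xc (hk : LocFin k) {a : Fin 4 → ℤ} (ha : IsRoot coxeterD4.toCoxeterSystem d4T.isCartan a) (c : k) :
    cc k (xc d4T a c) = xc d4T (-a) (c ^ 4) := by
  have h1 : phi chevD4 k 2 2 (xc d4T a c) = xc d4T a (c ^ 4) := by
    obtain ⟨j, hj, rfl⟩ := (isRoot_iff d4T _ a).1 ha
    exact phi_xc d4T 2 hj c
  rw [cc, tau_apply, h1, nu_conj d4T hk w4 ha, rep_w4]

/-- **The fixed points of `cc` are `Ω₈⁺(4)`.** -/
theorem fix_cc (hk : LocFin k) {F : Type} [Field F] [Fintype F] (hF : Fintype.card F = 4) :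
    Nonempty (↥(Fx (cc k)) ≃* ↥(Omega F (quadFormPlus 4 F))) := by
  have hF2 : Fintype.card F = 2 ^ 2 := hF
  have hF' : Nat.card F = 2 ^ 2 := by rw [Nat.card_eq_fintype_card, hF2]
  have hc : CharP F 2 := charP_of_card_eq_prime_pow hF2
  let _ : Algebra (ZMod 2) F := ZMod.algebra F 2
  let _ : Algebra (ZMod 2) k := ZMod.algebra k 2
  have : Algebra.IsAlgebraic (ZMod 2) F := Algebra.IsAlgebraic.of_finite (ZMod 2) F
  let f : F →+* k := ((IsAlgClosed.lift : F →ₐ[ZMod 2] k) : F →+* k)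
  obtain ⟨e⟩ := fix_equiv d4T (k := k) 2 f (n := 2) two_pos hF' Cfsg.Agent.H378.TorFin.inv_D4 two_ne_zero
    (by rw [hF']; decide) (nu d4T k w4)
  obtain ⟨e'⟩ := d4_omega (F := F) (CharTwo.two_eq_zero)
  exact ⟨e.symm.trans e'⟩

end

end Cfsg.Agent.H857.OE8
end

-- part: H857/OE8/LatB
section
/-!
# Roots in the span of a quadruple of type `D₄` (helper857, S3384)

* `rep_sp` : `sp b (w c) = (product of the r_{b i}) (sp b c)`; `rt_sp` : `sp b c` is a root iff `c` is;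
* `eq_sp_of_orth` : a root orthogonal to `w₈ b` is in the span of `b`;
* `mem_SS_of` : the root `a` is in `SS b` if `rr a` acts on `sp b` as an element of `W(D₄)`.
-/

set_option autoImplicit false
set_option linter.unusedSectionVars false

namespace Cfsg.Agent.H857.OE8

open CoxeterSystem Cfsg Cfsg.Lie
open Cfsg.Agent.ChevalleyStructure.CoxeterGeom Cfsg.Agent.ChevalleyStructure.CoxeterGeomTypes
open Cfsg.Agent.Tits.Roots Cfsg.Agent.Nodes.RGDChev Cfsg.Agent.H865.EE

/-- the Weyl group of type `D₄` -/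
abbrev W4 := coxeterD4.Group

/-- the Coxeter system -/
abbrev cs4 : CoxeterSystem coxeterD4 W4 := coxeterD4.toCoxeterSystem

/-- the action on the root lattice -/
noncomputable abbrev act4 (v : W4) : Module.End ℤ (Fin 4 → ℤ) := rep cs4 d4T.isCartan v

/-- the roots of type `D₄` -/
abbrev Rt4 (a : Fin 4 → ℤ) : Prop := IsRoot cs4 d4T.isCartan a

/-- the product of the reflections in the `b i` -/
noncomputable def wb (b : Fin 4 → Fin 8 → ℤ) (ω : List (Fin 4)) : W8 := (ω.map fun i => H865.EE.rf (b i)).prod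

theorem C4_symm : ∀ i j, C4 i j = C4 j i := by decide

theorem act_sp_simple {b : Fin 4 → Fin 8 → ℤ} (hb : Quad b) (i : Fin 4) (c : Fin 4 → ℤ) :
    act (H865.EE.rf (b i)) (sp b c) = sp b (act4 (cs4.simple i) c) := by
  rw [act_rf (hb.root i), bf_sp_left]
  have h1 : act4 (cs4.simple i) c = c - (∑ j, C4 i j * c j) • sr i := by
    show rep _ _ _ c = _
    rw [rep_simple_eq]
    unfold pairing
    simp only [hC4]
  rw [h1, sp_sub, sp_smul, sp_sr]
  congr 2
  refine Finset.sum_congr rfl fun j _ => ?_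
  rw [gram hb, mul_comm, C4_symm]

theorem act_wb {b : Fin 4 → Fin 8 → ℤ} (hb : Quad b) (ω : List (Fin 4)) (c : Fin 4 → ℤ) :
    act (wb b ω) (sp b c) = sp b (act4 (cs4.wordProd ω) c) := by
  induction ω with
  | nil =>
    rw [wordProd_nil, wb, List.map_nil, List.prod_nil, act_one]
    show sp b c = sp b (rep _ _ 1 c)
    rw [map_one, Module.End.one_apply]
  | cons i ω ih =>
    have h1 : wb b (i :: ω) = H865.EE.rf (b i) * wb b ω := rfl
    rw [wordProd_cons, h1, act_mul, ih, act_sp_simple hb]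
    show _ = sp b (rep _ _ _ c)
    rw [rep_mul_apply]

theorem rt_sp_of {b : Fin 4 → Fin 8 → ℤ} (hb : Quad b) {c : Fin 4 → ℤ} (hc : Rt4 c) : Rt (sp b c) := by
  obtain ⟨w, i, rfl⟩ := hc
  obtain ⟨ω, rfl⟩ := cs4.wordProd_surjective w
  rw [← act_wb hb, sp_sr]
  exact (hb.root i).act _

/-- the 24 roots, as a test -/
theorem tab4 : ∀ x0 ∈ [(-1 : ℤ), 0, 1], ∀ x1 ∈ [(-2 : ℤ), -1, 0, 1, 2], ∀ x2 ∈ [(-2 : ℤ), -1, 0, 1, 2],
    ∀ x3 ∈ [(-2 : ℤ), -1, 0, 1, 2], x0 ^ 2 + (x1 - x0) ^ 2 + (x2 + x3 - x1) ^ 2 + (x3 - x2) ^ 2 = 2 →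
      ∃ r < 24, ∀ i : Fin 4, vec chevD4 4 r i = ![x0, x1, x2, x3] i := by
  unfold vec
  decide +kernel

theorem nroots4 : chevD4.nroots = 24 := by decide +kernel

theorem rt4_of_norm {c : Fin 4 → ℤ}
    (h : c 0 ^ 2 + (c 1 - c 0) ^ 2 + (c 2 + c 3 - c 1) ^ 2 + (c 3 - c 2) ^ 2 = 2) : Rt4 c := by
  have key : ∀ a b c d : ℤ, a ^ 2 + b ^ 2 + c ^ 2 + d ^ 2 = 2 → (a = -1 ∨ a = 0 ∨ a = 1) := by
    intro a b c d h
    have h1 : a ^ 2 ≤ 2 := by linarith only [h, sq_nonneg b, sq_nonneg c, sq_nonneg d]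
    have h2 : a ≤ 1 := by nlinarith only [h]
    have h3 : -1 ≤ a := by nlinarith only [h]
    omega
  have k0 := key _ _ _ _ h
  have k1 := key (c 1 - c 0) (c 0) (c 2 + c 3 - c 1) (c 3 - c 2) (by linear_combination h)
  have k2 := key (c 2 + c 3 - c 1) (c 0) (c 1 - c 0) (c 3 - c 2) (by linear_combination h)
  have k3 := key (c 3 - c 2) (c 0) (c 1 - c 0) (c 2 + c 3 - c 1) (by linear_combination h)
  obtain ⟨r, hr, h1⟩ := tab4 (c 0) (by simp; omega) (c 1) (by simp; (clear * - k0 k1; omega)) (c 2) (by simp; omega) (c 3)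
    (by simp; omega) h
  refine (isRoot_iff d4T cs4 c).2 ⟨r, by rw [nroots4]; exact hr, ?_⟩
  funext i
  rw [h1 i]
  fin_cases i <;> rfl

theorem rt4_iff {b : Fin 4 → Fin 8 → ℤ} (hb : Quad b) {c : Fin 4 → ℤ} : Rt (sp b c) ↔ Rt4 c :=
  ⟨fun h => rt4_of_norm (by rw [← norm_sp hb, bf_self h]), rt_sp_of hb⟩

/-- the roots in the span of `b` -/
theorem mem_Ph {b : Fin 4 → Fin 8 → ℤ} (hb : Quad b) {a : Fin 8 → ℤ} : a ∈ Ph b ↔ ∃ c, Rt4 c ∧ a = sp b c := by
  constructor
  · rintro ⟨h1, c, rfl⟩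
    exact ⟨c, (rt4_iff hb).1 h1, rfl⟩
  · rintro ⟨c, hc, rfl⟩
    exact ⟨rt_sp_of hb hc, c, rfl⟩

end Cfsg.Agent.H857.OE8
end

-- part: H857/OE8/LatC
section
/-!
# The span of a quadruple and of its image (helper857, S3384)

* `eq_sp_of_orth` : a root orthogonal to `w₈ b` is in the span of `b`;
* `L12 b` : the sum of the spans of `b` and `w₈ b`; `two_mem`, `mem_SS_of_L12`;
* `sub_mem_L12` : `v x - x ∈ L12 b` if `v` commutes with `w₈` and acts on the span of `b` as an element of `W(D₄)`;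
* `mem_SS_of_rr` : so `a ∈ SS b` if `v = rr a` has this property.
-/

set_option autoImplicit false
set_option linter.unusedSectionVars false

namespace Cfsg.Agent.H857.OE8

open CoxeterSystem Cfsg Cfsg.Lie
open Cfsg.Agent.ChevalleyStructure.CoxeterGeom Cfsg.Agent.ChevalleyStructure.CoxeterGeomTypes
open Cfsg.Agent.Tits.Roots Cfsg.Agent.Nodes.RGDChev Cfsg.Agent.H865.EE

theorem smul_left_cancel_two {x y : Fin 8 → ℤ} (h : (2 : ℤ) • x = (2 : ℤ) • y) : x = y := by
  funext i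
  have h1 := congrFun h i
  have h2 : 2 * x i = 2 * y i := h1
  omega

/-- the sum of the spans of `b` and of `w₈ b` -/
def L12 (b : Fin 4 → Fin 8 → ℤ) : AddSubgroup (Fin 8 → ℤ) where
  carrier := {x | ∃ c c', x = sp b c + act w8 (sp b c')}
  add_mem' := by
    rintro _ _ ⟨c, c', rfl⟩ ⟨d, d', rfl⟩
    exact ⟨c + d, c' + d', by rw [sp_add, sp_add, map_add]; abel⟩
  zero_mem' := ⟨0, 0, by
    have h0 : sp b 0 = 0 := by
      unfold sp
      exact Finset.sum_eq_zero fun j _ => by rw [Pi.zero_apply, zero_smul]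
    rw [h0, map_zero, add_zero]⟩
  neg_mem' := by
    rintro _ ⟨c, c', rfl⟩
    exact ⟨-c, -c', by rw [sp_neg, sp_neg, map_neg]; abel⟩

theorem two_mem {b : Fin 4 → Fin 8 → ℤ} (hb : Quad b) (x : Fin 8 → ℤ) : (2 : ℤ) • x ∈ L12 b :=
  ⟨_, _, two_smul_eq hb x⟩

theorem norm_nonneg {b : Fin 4 → Fin 8 → ℤ} (hb : Quad b) (c : Fin 4 → ℤ) : 0 ≤ bf (sp b c) (sp b c) := by
  rw [norm_sp hb]
  positivity

theorem sp_zero_of_norm {b : Fin 4 → Fin 8 → ℤ} (hb : Quad b) {c : Fin 4 → ℤ} (h : bf (sp b c) (sp b c) = 0) :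
    c = 0 := by
  rw [norm_sp hb] at h
  have k0 : c 0 = 0 := by nlinarith [sq_nonneg (c 0), sq_nonneg (c 1 - c 0), sq_nonneg (c 2 + c 3 - c 1), sq_nonneg (c 3 - c 2)]
  have k1 : c 1 - c 0 = 0 := by nlinarith only [h, sq_nonneg (c 0), sq_nonneg (c 2 + c 3 - c 1), sq_nonneg (c 3 - c 2)]
  have k2 : c 2 + c 3 - c 1 = 0 := by nlinarith only [h, sq_nonneg (c 0), sq_nonneg (c 1 - c 0), sq_nonneg (c 3 - c 2)]
  have k3 : c 3 - c 2 = 0 := by nlinarith only [h, sq_nonneg (c 0), sq_nonneg (c 1 - c 0), sq_nonneg (c 2 + c 3 - c 1)]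
  funext i
  fin_cases i
  · exact k0
  · show c 1 = 0; omega
  · show c 2 = 0; omega
  · show c 3 = 0; omega

theorem sp_zero (b : Fin 4 → Fin 8 → ℤ) : sp b 0 = 0 := by
  unfold sp
  exact Finset.sum_eq_zero fun j _ => by rw [Pi.zero_apply, zero_smul]

/-- a root in `L12 b` is in `SS b` -/
theorem mem_SS_of_L12 {b : Fin 4 → Fin 8 → ℤ} (hb : Quad b) {a : Fin 8 → ℤ} (ha : Rt a) (h : a ∈ L12 b) :
    a ∈ SS b := by
  obtain ⟨c, c', rfl⟩ := h
  have h1 := bf_self ha
  rw [bf_add_left, bf_add_right, bf_add_right, orth_sp hb, bf_comm (act w8 _), orth_sp hb, bf_act, add_zero,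
    zero_add] at h1
  obtain ⟨p, hp⟩ := norm_even (sp b c)
  obtain ⟨q, hq⟩ := norm_even (sp b c')
  have hp0 := norm_nonneg hb c
  have hq0 := norm_nonneg hb c'
  rcases (by omega : p = 0 ∨ q = 0) with h2 | h2
  · have h3 : c = 0 := sp_zero_of_norm hb (by rw [hp, h2, mul_zero])
    right
    refine ⟨sp b c', (mem_Ph hb).2 ⟨c', ?_, rfl⟩, by rw [h3, sp_zero, zero_add]⟩
    apply rt4_of_norm
    rw [← norm_sp hb]
    omega
  · have h3 : c' = 0 := sp_zero_of_norm hb (by rw [hq, h2, mul_zero])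
    left
    refine (mem_Ph hb).2 ⟨c, ?_, by rw [h3, sp_zero, map_zero, add_zero]⟩
    apply rt4_of_norm
    rw [← norm_sp hb]
    omega

/-! ### the action on `L12 b` -/

theorem B4_even (n : Fin 4 → ℤ) (ω : List (Fin 4)) :
    ∃ p : Fin 4 → ℤ, act4 (cs4.wordProd ω) (fun i => ∑ j, B4 i j * n j) - (fun i => ∑ j, B4 i j * n j) = (2 : ℤ) • p := by
  induction ω with
  | nil =>
    refine ⟨0, ?_⟩
    rw [wordProd_nil]
    show rep _ _ 1 _ - _ = _
    rw [map_one, Module.End.one_apply, sub_self, smul_zero]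
  | cons i ω ih =>
    obtain ⟨p, hp⟩ := ih
    obtain ⟨m, hm⟩ : ∃ m : Fin 4 → ℤ, m = fun i => ∑ j, B4 i j * n j := ⟨_, rfl⟩
    rw [← hm] at hp ⊢
    have h1 : act4 (cs4.wordProd ω) m = m + (2 : ℤ) • p := by rw [← hp]; abel
    have h2 : act4 (cs4.simple i) m = m - (2 * n i) • sr i := by
      show rep _ _ _ m = _
      rw [rep_simple_eq]
      congr 2
      unfold pairing
      simp only [← hC4]
      have key : ∀ i j : Fin 4, ∑ q, C4 i q * B4 q j = if i = j then 2 else 0 := by decide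
      rw [hm]
      simp only [Finset.mul_sum]
      rw [Finset.sum_comm]
      have h3 : ∀ j, ∑ q, C4 i q * (B4 q j * n j) = (if i = j then 2 else 0) * n j := by
        intro j
        rw [← key, Finset.sum_mul]
        exact Finset.sum_congr rfl fun q _ => by ring
      rw [Finset.sum_congr rfl fun j _ => h3 j, Finset.sum_eq_single i
        (fun j _ hj => by rw [if_neg (Ne.symm hj), zero_mul]) (fun h => absurd (Finset.mem_univ i) h), if_pos rfl]
    refine ⟨act4 (cs4.simple i) p - n i • sr i, ?_⟩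
    rw [wordProd_cons]
    show rep _ _ _ m - m = _
    rw [rep_mul_apply]
    show act4 (cs4.simple i) (act4 (cs4.wordProd ω) m) - m = _
    rw [h1, map_add, h2, map_smul, smul_sub, smul_smul]
    abel

theorem sub_mem_L12 {b : Fin 4 → Fin 8 → ℤ} (hb : Quad b) {v : W8} (hv : v ∈ CW) {ω : List (Fin 4)}
    (h : ∀ c, act v (sp b c) = sp b (act4 (cs4.wordProd ω) c)) (x : Fin 8 → ℤ) : act v x - x ∈ L12 b := by
  obtain ⟨p, hp⟩ := B4_even (fun j => bf x (b j)) ω
  obtain ⟨q, hq⟩ := B4_even (fun j => bf x (act w8 (b j))) ω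
  refine ⟨p, q, smul_left_cancel_two ?_⟩
  have h1 := two_smul_eq hb x
  have hp' : act4 (cs4.wordProd ω) (mc x b) - mc x b = (2 : ℤ) • p := hp
  have hq' : act4 (cs4.wordProd ω) (mc x fun j => act w8 (b j)) - (mc x fun j => act w8 (b j)) = (2 : ℤ) • q := hq
  generalize mc x b = m at h1 hp'
  generalize (mc x fun j => act w8 (b j)) = m' at h1 hq'
  have h2 : act w8 ((2 : ℤ) • sp b q) = (2 : ℤ) • act w8 (sp b q) := map_smul _ _ _
  rw [smul_sub, ← map_smul, h1, map_add, h, mem_CW.1 hv, h, smul_add, ← h2, ← sp_smul, ← sp_smul, ← hp', ← hq',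
    sp_sub, sp_sub, map_sub]
  abel

/-! ### roots `a` and `w₈ a` -/

theorem orth_w8 (x : Fin 8 → ℤ) : bf x (act w8 x) = 0 := by
  have h1 := bf_act w8 x (act w8 x)
  rw [w8_sq, bf_neg_right, bf_comm] at h1
  omega

theorem rr_apply {a : Fin 8 → ℤ} (ha : Rt a) (x : Fin 8 → ℤ) :
    act (rr a) x = x - (bf x a • a + bf x (act w8 a) • act w8 a) := by
  rw [rr, act_mul, act_rf (ha.act w8), act_rf ha, bf_sub_left, bf_smul_left, bf_comm (act w8 a) a, orth_w8, mul_zero,
    sub_zero]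
  abel

theorem rr_mem_CW {a : Fin 8 → ℤ} (ha : Rt a) : rr a ∈ CW := by
  rw [mem_CW]
  intro x
  have h1 : bf (act w8 x) a = -bf x (act w8 a) := by
    have := bf_act w8 (act w8 x) a
    rw [w8_sq, bf_neg_left] at this
    omega
  rw [rr_apply ha, rr_apply ha, map_sub, map_add, map_smul, map_smul, w8_sq, bf_act, h1]
  simp only [neg_smul, smul_neg]
  abel

/-- the inverse of the Cartan matrix of type `E₈` -/
theorem invE : ∀ m i : Fin 8, ∑ j, (![![4, 5, 7, 10, 8, 6, 4, 2], ![5, 8, 10, 15, 12, 9, 6, 3],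
    ![7, 10, 14, 20, 16, 12, 8, 4], ![10, 15, 20, 30, 24, 18, 12, 6], ![8, 12, 16, 24, 20, 15, 10, 5],
    ![6, 9, 12, 18, 15, 12, 8, 4], ![4, 6, 8, 12, 10, 8, 6, 3], ![2, 3, 4, 6, 5, 4, 3, 2]] : Fin 8 → Fin 8 → ℤ) m j *
    C8 j i = if m = i then 1 else 0 := by decide +kernel

/-- the dual basis -/
theorem exists_dual (m : Fin 8) : ∃ x : Fin 8 → ℤ, ∀ y, bf x y = y m := by
  refine ⟨(![![4, 5, 7, 10, 8, 6, 4, 2], ![5, 8, 10, 15, 12, 9, 6, 3],
    ![7, 10, 14, 20, 16, 12, 8, 4], ![10, 15, 20, 30, 24, 18, 12, 6], ![8, 12, 16, 24, 20, 15, 10, 5],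
    ![6, 9, 12, 18, 15, 12, 8, 4], ![4, 6, 8, 12, 10, 8, 6, 3], ![2, 3, 4, 6, 5, 4, 3, 2]] : Fin 8 → Fin 8 → ℤ) m,
    fun y => ?_⟩
  unfold bf
  rw [Finset.sum_comm]
  have h1 : ∀ j, ∑ i, (![![4, 5, 7, 10, 8, 6, 4, 2], ![5, 8, 10, 15, 12, 9, 6, 3],
    ![7, 10, 14, 20, 16, 12, 8, 4], ![10, 15, 20, 30, 24, 18, 12, 6], ![8, 12, 16, 24, 20, 15, 10, 5],
    ![6, 9, 12, 18, 15, 12, 8, 4], ![4, 6, 8, 12, 10, 8, 6, 3], ![2, 3, 4, 6, 5, 4, 3, 2]] : Fin 8 → Fin 8 → ℤ) m i *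
    C8 i j * y j = (if m = j then 1 else 0) * y j := by
    intro j
    rw [← Finset.sum_mul, invE]
  rw [Finset.sum_congr rfl fun j _ => h1 j, Finset.sum_eq_single m
    (fun j _ hj => by rw [if_neg (Ne.symm hj), zero_mul]) (fun h => absurd (Finset.mem_univ m) h), if_pos rfl, one_mul]

/-- `x` has odd product with `a` and even product with `w₈ a` -/
theorem exists_odd {a : Fin 8 → ℤ} (ha : Rt a) : ∃ x : Fin 8 → ℤ, ¬ 2 ∣ bf x a ∧ 2 ∣ bf x (act w8 a) := by
  by_contra hcon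
  push Not at hcon
  have two : ∀ y : Fin 8 → ℤ, (∀ x, 2 ∣ bf x y) → ∃ z, y = (2 : ℤ) • z := by
    intro y hy
    have : ∀ m, 2 ∣ y m := fun m => by
      obtain ⟨x, hx⟩ := exists_dual m
      rw [← hx y]
      exact hy x
    choose z hz using this
    exact ⟨z, funext hz⟩
  have hodd : ∃ x, ¬ 2 ∣ bf x a := by
    by_contra h1
    push Not at h1
    obtain ⟨z, hz⟩ := two a h1
    have h2 := bf_self ha
    rw [hz, bf_smul_left, bf_smul_right] at h2
    omega
  obtain ⟨x0, hx0⟩ := hodd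
  have hx1 := hcon x0 hx0
  obtain ⟨z, hz⟩ := two (a + act w8 a) fun x => by
    rw [bf_add_right]
    by_cases hx : 2 ∣ bf x a
    · have h1 : ¬ 2 ∣ bf (x + x0) a := by rw [bf_add_left]; omega
      have h2 := hcon _ h1
      rw [bf_add_left] at h2
      omega
    · have h2 := hcon _ hx
      omega
  have h3 : bf (a + act w8 a) (a + act w8 a) = 4 := by
    rw [bf_add_left, bf_add_right, bf_add_right, bf_act, bf_self ha, bf_comm (act w8 a) a, orth_w8]
    norm_num
  obtain ⟨n, hn⟩ := norm_even z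
  rw [hz, bf_smul_left, bf_smul_right, hn] at h3
  omega

/-- **A root `a` is in `SS b` if `rr a` acts on the span of `b` as an element of `W(D₄)`.** -/
theorem mem_SS_of_rr {b : Fin 4 → Fin 8 → ℤ} (hb : Quad b) {a : Fin 8 → ℤ} (ha : Rt a) {ω : List (Fin 4)}
    (h : ∀ c, act (rr a) (sp b c) = sp b (act4 (cs4.wordProd ω) c)) : a ∈ SS b := by
  obtain ⟨x, hx1, y, hy⟩ := exists_odd ha
  have h1 := sub_mem_L12 hb (rr_mem_CW ha) h x
  rw [rr_apply ha, hy] at h1
  obtain ⟨n, hn⟩ : ∃ n, bf x a = 2 * n + 1 := by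
    refine ⟨(bf x a - 1) / 2, ?_⟩
    omega
  rw [hn] at h1
  refine mem_SS_of_L12 hb ha ?_
  have h2 : a = -(x - ((2 * n + 1) • a + (2 * y) • act w8 a) - x) - (2 : ℤ) • (n • a) - (2 : ℤ) • (y • act w8 a) := by
    rw [add_smul, one_smul, smul_smul, smul_smul]
    abel
  rw [h2]
  exact sub_mem (sub_mem (neg_mem h1) (two_mem hb _)) (two_mem hb _)

end Cfsg.Agent.H857.OE8
end

-- part: H857/OE8/PsiA
section
/-!
# `D₄(k)` in `E₈(k)` and its image under `ta` (helper857, S3384)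

`psi : D₄(k) → E₈(k)` with `x_a(c) ↦ x_{sp b a}(c)` (`IsPsi b psi`).

* `psi_comm` : `psi x` commutes with `ta (psi y)`; `ta_ta_psi` : `ta (ta (psi x)) = psi (cc x)`;
* `psi_inj`; `dd psi x = psi x * ta (psi x)` is an injective homomorphism;
* `KK_eq` : the subgroup generated by the root groups of `SS b` is `psi(D₄(k)) · ta (psi(D₄(k)))`;
* `XB_eq` : `XB k b` is the image of `Fx (cc k)` under `dd psi`.
-/

set_option autoImplicit false
set_option linter.unusedSectionVars false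

namespace Cfsg.Agent.H857.OE8

open CoxeterSystem Subgroup Cfsg Cfsg.Lie Cfsg.Lie.ChevalleyDatum
open Cfsg.Agent.ChevalleyStructure Cfsg.Agent.ChevalleyStructure.Elts Cfsg.Agent.ChevalleyStructure.CoxeterGeom
  Cfsg.Agent.ChevalleyStructure.CoxeterGeomTypes Cfsg.Agent.ChevalleyStructure.NPerm
open Cfsg.Agent.Tits.Roots Cfsg.Agent.Tits.Core Cfsg.Agent.Nodes Cfsg.Agent.Nodes.Reps Cfsg.Agent.Nodes.BNOf
  Cfsg.Agent.Nodes.RGDChev Cfsg.Agent.Nodes.Bruhat
open Cfsg.Agent.KFacts.RgdChevCoord hiding act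
open Cfsg.Agent.KFacts.RgdField Cfsg.Agent.BpExc.TorCent Cfsg.Agent.BpExc.TorChev
open Cfsg.Agent.BpExc.Tow Cfsg.Agent.BpExc.TowChev Cfsg.Agent.BpExc.Fr
  Cfsg.Agent.BpExc.LangFr Cfsg.Agent.BpExc.FamField Cfsg.Agent.BpExc.FamInst Cfsg.Agent.H129.TorusChar
  Cfsg.Agent.H795.LangT Cfsg.Agent.BpExc.FamExt Cfsg.Agent.BpExc.FamUntw Cfsg.Agent.H378.TorDual
  Cfsg.Agent.H378.TorChar Cfsg.Agent.H378.TorFin Cfsg.Agent.H378.RootTor Cfsg.Agent.H865.EE

section

variable {k : Type} [Field k] [CharP k 2]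

theorem mem_SS {b : Fin 4 → Fin 8 → ℤ} {a : Fin 8 → ℤ} : a ∈ SS b ↔ a ∈ Ph b ∨ ∃ a' ∈ Ph b, a = act w8 a' := Iff.rfl

theorem rt_act {a : Fin 8 → ℤ} (ha : Rt a) (v : W8) : Rt (act v a) := ha.act v

theorem nu_rf (hk : LocFin k) {a : Fin 8 → ℤ} (ha : Rt a) : nu tp8 k (H865.EE.rf a) = na tp8 k a := by
  obtain ⟨w, i, h⟩ := id ha
  have h1 : H865.EE.rf (sr i : Fin 8 → ℤ) = cs8.simple i := by
    refine act_ext fun x => ?_
    rw [act_rf (isRoot_sr _ _ i), bf_sr]
    show _ = rep _ _ _ x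
    rw [rep_simple_eq]
  have h2 : H865.EE.rf a = w * cs8.simple i * w⁻¹ := by
    rw [← h1, conj_rf w (isRoot_sr _ _ i)]
    exact congrArg _ h
  rw [h2, map_mul, map_mul, map_inv, nu_simple, nc_eq, nu_na tp8 hk w (isRoot_sr _ _ i)]
  exact congrArg _ h.symm

/-- **Root elements of orthogonal roots commute.** -/
theorem comm_orth {a b : Fin 8 → ℤ} (ha : Rt a) (hb : Rt b) (h : bf a b = 0) (c d : k) (hk : LocFin k) :
    xc tp8 a c * xc tp8 b d = xc tp8 b d * xc tp8 a c := by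
  have hab : a ≠ b := by
    rintro rfl
    rw [bf_self ha] at h
    norm_num at h
  have hab' : a ≠ -b := by
    rintro rfl
    rw [bf_neg_left, bf_self hb] at h
    norm_num at h
  have h1 := Cfsg.Agent.BpExc.CommZ.comm_mem_Z tp8 cs8 ha hb hab hab' (xc_mem' tp8 hk ha c) (xc_mem' tp8 hk hb d)
  have h2 : RGD.Sup (XX chevE8 8 k) (Cfsg.Agent.BpExc.CommZ.combZ cs8 tp8 a b) ≤ ⊥ := by
    refine RGD.Sup_le fun z hz => ?_
    exfalso
    obtain ⟨hz1, i, j, hi, hj, rfl⟩ := hz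
    have h3 := bf_self hz1
    have e1 : (i • a + j • b : Fin 8 → ℤ) = (i : ℤ) • a + (j : ℤ) • b := by
      rw [natCast_zsmul, natCast_zsmul]
    rw [e1, bf_add_left, bf_add_right, bf_add_right, bf_smul_left, bf_smul_right, bf_smul_left, bf_smul_right,
      bf_smul_left, bf_smul_right, bf_smul_left, bf_smul_right, bf_self ha, bf_self hb, h, bf_comm b a, h] at h3
    have hi' : (1 : ℤ) ≤ i := by exact_mod_cast hi
    have hj' : (1 : ℤ) ≤ j := by exact_mod_cast hj
    nlinarith only [hi, hj, h3]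
  have h3 := h2 h1
  rw [Subgroup.mem_bot, commutatorElement_eq_one_iff_mul_comm] at h3
  exact h3

variable [IsAlgClosed k] [PerfectRing k 2]

theorem ta_xc (hk : LocFin k) {a : Fin 8 → ℤ} (ha : Rt a) (c : k) :
    ta k (xc tp8 a c) = xc tp8 (act w8 a) (c ^ 2) := by
  have h1 : phi chevE8 k 2 1 (xc tp8 a c) = xc tp8 a (c ^ 2) := by
    obtain ⟨j, hj, rfl⟩ := (isRoot_iff tp8 _ a).1 ha
    exact phi_xc tp8 2 hj c
  rw [ta, tau_apply, h1, nu_conj tp8 hk w8 ha]

theorem ta_nu (v : W8) : ta k (nu tp8 k v) = nu tp8 k (w8 * v * w8⁻¹) := by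
  rw [ta, tau_apply, phi_nu, map_mul, map_mul, map_inv]

theorem ta_inj : Function.Injective (ta k) := by
  intro x y h
  rw [ta, tau_apply, tau_apply] at h
  exact (phi chevE8 k 2 1).injective (mul_left_cancel (mul_right_cancel h))

theorem mem_GG {y : ↥(chevE8.group k)} : y ∈ _root_.Cfsg.Agent.H865.EE.GG k ↔ ta k y = y := Iff.rfl

/-- `psi` is the homomorphism `x_a(c) ↦ x_{sp b a}(c)` -/
def IsPsi (b : Fin 4 → Fin 8 → ℤ) (psi : ↥(chevD4.group k) →* ↥(chevE8.group k)) : Prop :=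
  ∀ a, Rt4 a → ∀ c, psi (xc d4T a c) = xc tp8 (sp b a) c

section Psi

variable {b : Fin 4 → Fin 8 → ℤ} (hb : Quad b) {psi : ↥(chevD4.group k) →* ↥(chevE8.group k)} (hpsi : IsPsi b psi)
  (hk : LocFin k)

include hb hpsi hk

theorem psi_comm (x y : ↥(chevD4.group k)) : psi x * ta k (psi y) = ta k (psi y) * psi x := by
  have h1 : ∀ a, Rt4 a → ∀ c : k, ∀ y, psi (xc d4T a c) * ta k (psi y) = ta k (psi y) * psi (xc d4T a c) := by
    intro a ha c
    have h2 : (Subgroup.centralizer {psi (xc d4T a c)}).comap ((ta k).comp psi) = ⊤ := by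
      refine gen_top d4T fun a' ha' c' => ?_
      rw [Subgroup.mem_comap, Subgroup.mem_centralizer_singleton_iff, MonoidHom.comp_apply, hpsi a ha, hpsi a' ha',
        ta_xc hk (rt_sp_of hb ha')]
      have h3 := comm_orth (rt_sp_of hb ha) (rt_act (rt_sp_of hb ha') w8) (orth_sp hb a a') c (c' ^ 2) hk
      exact h3.symm
    intro y
    have h3 : y ∈ (Subgroup.centralizer {psi (xc d4T a c)}).comap ((ta k).comp psi) := by
      rw [h2]; exact Subgroup.mem_top y
    rw [Subgroup.mem_comap, Subgroup.mem_centralizer_singleton_iff, MonoidHom.comp_apply] at h3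
    exact h3.symm
  have h2 : (Subgroup.centralizer {ta k (psi y)}).comap psi = ⊤ := by
    refine gen_top d4T fun a ha c => ?_
    rw [Subgroup.mem_comap, Subgroup.mem_centralizer_singleton_iff]
    exact h1 a ha c y
  have h3 : x ∈ (Subgroup.centralizer {ta k (psi y)}).comap psi := by
    rw [h2]; exact Subgroup.mem_top x
  rw [Subgroup.mem_comap, Subgroup.mem_centralizer_singleton_iff] at h3
  exact h3

theorem ta_ta_psi (x : ↥(chevD4.group k)) : ta k (ta k (psi x)) = psi (cc k x) := by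
  have h1 : ((ta k).comp (ta k)).comp psi = psi.comp (cc k) := by
    refine hom_ext d4T fun a ha c => ?_
    show ta k (ta k (psi (xc d4T a c))) = psi (cc k (xc d4T a c))
    rw [hpsi a ha, ta_xc hk (rt_sp_of hb ha), ta_xc hk ((rt_sp_of hb ha).act w8), w8_sq, cc_xc hk ha,
      hpsi (-a) ha.neg, sp_neg, ← pow_mul]
  exact DFunLike.congr_fun h1 x

theorem psi_inj : Function.Injective psi := by
  have hS := (Cfsg.Agent.S1054.result (F := k) chevD4 (by simp)).1
  rw [← MonoidHom.ker_eq_bot_iff]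
  rcases (inferInstance : psi.ker.Normal).eq_bot_or_eq_top with h | h
  · exact h
  · exfalso
    have h0 : Rt4 (sr 0) := isRoot_sr _ _ 0
    have h1 : xc d4T (sr 0) (1 : k) ∈ psi.ker := by rw [h]; exact Subgroup.mem_top _
    rw [MonoidHom.mem_ker, hpsi _ h0, sp_sr] at h1
    exact ((coordsL tp8 cs8 hk 2).coord _ (hb.root 0)).ne_one one_ne_zero h1

omit hb hpsi hk [CharP k 2] [IsAlgClosed k] [PerfectRing k 2] in
theorem center4 : Subgroup.center ↥(chevD4.group k) = ⊥ := by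
  obtain ⟨hS, hc⟩ := Cfsg.Agent.S1054.result (F := k) chevD4 (by simp)
  rcases (inferInstance : (Subgroup.center ↥(chevD4.group k)).Normal).eq_bot_or_eq_top with h | h
  · exact h
  · exfalso
    apply hc
    constructor
    constructor
    intro x y
    have h1 : y ∈ Subgroup.center ↥(chevD4.group k) := by rw [h]; exact Subgroup.mem_top y
    exact (Subgroup.mem_center_iff.1 h1 x)

omit hb hpsi hk [CharP k 2] [IsAlgClosed k] [PerfectRing k 2] in
theorem eq_one_of_central {x : ↥(chevD4.group k)} (h : ∀ y, x * y = y * x) : x = 1 := by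
  have h1 : x ∈ Subgroup.center ↥(chevD4.group k) := Subgroup.mem_center_iff.2 fun y => (h y).symm
  rw [center4] at h1
  exact Subgroup.mem_bot.1 h1

/-- **The fixed points**: `psi x * ta (psi x')` is fixed by `ta` only for `x = x'` fixed by `cc`. -/
theorem fixed_form {x x' : ↥(chevD4.group k)} (h : ta k (psi x * ta k (psi x')) = psi x * ta k (psi x')) :
    x' = x ∧ cc k x = x := by
  rw [map_mul, ta_ta_psi hb hpsi hk] at h
  have hc := psi_comm hb hpsi hk
  -- `psi ((cc x')⁻¹ x) = ta (psi (x x'⁻¹))`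
  have h1 : psi ((cc k x')⁻¹ * x) = ta k (psi (x * x'⁻¹)) := by
    have h2 : psi (cc k x') * ta k (psi x) = psi x * ta k (psi x') := by rw [hc]; exact h
    have h3 : ta k (psi x) = (psi (cc k x'))⁻¹ * psi x * ta k (psi x') := by
      rw [mul_assoc, ← h2]; group
    rw [map_mul, map_inv, map_mul, map_inv, map_mul, map_inv, h3]
    group
  have h2 : (cc k x')⁻¹ * x = 1 := by
    refine eq_one_of_central fun y => psi_inj hb hpsi hk ?_
    have e1 : psi ((cc k x')⁻¹ * x * y) = psi ((cc k x')⁻¹ * x) * psi y := map_mul _ _ _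
    have e2 : psi (y * ((cc k x')⁻¹ * x)) = psi y * psi ((cc k x')⁻¹ * x) := map_mul _ _ _
    rw [e1, e2, h1]
    exact (hc y _).symm
  have h3 : x * x'⁻¹ = 1 := by
    rw [h2, map_one] at h1
    have h4 : psi (x * x'⁻¹) = 1 := ta_inj (by rw [← h1, map_one])
    exact psi_inj hb hpsi hk (by rw [h4, map_one])
  have h4 : x = x' := by
    have := mul_inv_eq_one.1 h3
    exact this
  subst h4
  exact ⟨rfl, inv_mul_eq_one.1 h2⟩

/-- the diagonal homomorphism -/
noncomputable def dd : ↥(chevD4.group k) →* ↥(chevE8.group k) :=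
  MonoidHom.mk' (fun x => psi x * ta k (psi x)) fun x y => by
    have h := psi_comm hb hpsi hk y x
    rw [map_mul, map_mul]
    calc psi x * psi y * (ta k (psi x) * ta k (psi y)) = psi x * (psi y * ta k (psi x)) * ta k (psi y) := by group
      _ = psi x * (ta k (psi x) * psi y) * ta k (psi y) := by rw [h]
      _ = _ := by group

omit hb hpsi hk in
theorem dd_apply (hb : Quad b) (hpsi : IsPsi b psi) (hk : LocFin k) (x : ↥(chevD4.group k)) :
    dd hb hpsi hk x = psi x * ta k (psi x) := rfl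

theorem dd_inj : Function.Injective (dd hb hpsi hk) := by
  rw [← MonoidHom.ker_eq_bot_iff, Subgroup.eq_bot_iff_forall]
  intro x hx
  rw [MonoidHom.mem_ker, dd_apply] at hx
  refine eq_one_of_central fun y => psi_inj hb hpsi hk ?_
  have h1 : psi x = (ta k (psi x))⁻¹ := eq_inv_of_mul_eq_one_left hx
  have h2 := psi_comm hb hpsi hk y x
  rw [map_mul, map_mul, h1]
  have h3 : (ta k (psi x))⁻¹ * psi y = psi y * (ta k (psi x))⁻¹ := by
    rw [inv_mul_eq_iff_eq_mul, ← mul_assoc, ← h2]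
    group
  exact h3

/-- the subgroup generated by the root groups of `SS b` -/
theorem mem_KK {y : ↥(chevE8.group k)} : y ∈ KK k (SS b) ↔ ∃ x x', y = psi x * ta k (psi x') := by
  have hc := psi_comm hb hpsi hk
  constructor
  · intro hy
    let P : Subgroup ↥(chevE8.group k) :=
      { carrier := {y | ∃ x x', y = psi x * ta k (psi x')}
        mul_mem' := by
          rintro _ _ ⟨x, x', rfl⟩ ⟨z, z', rfl⟩
          refine ⟨x * z, x' * z', ?_⟩
          rw [map_mul, map_mul, map_mul]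
          calc psi x * ta k (psi x') * (psi z * ta k (psi z')) = psi x * (ta k (psi x') * psi z) * ta k (psi z') := by
                group
            _ = psi x * (psi z * ta k (psi x')) * ta k (psi z') := by rw [hc z x']
            _ = _ := by group
        one_mem' := ⟨1, 1, by rw [map_one, map_one, mul_one]⟩
        inv_mem' := by
          rintro _ ⟨x, x', rfl⟩
          refine ⟨x⁻¹, x'⁻¹, ?_⟩
          rw [mul_inv_rev, map_inv, map_inv, map_inv]
          have h1 := hc x⁻¹ x'⁻¹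
          rw [map_inv, map_inv, map_inv] at h1
          exact h1.symm }
    have h1 : KK k (SS b) ≤ P := by
      refine (Subgroup.closure_le _).2 ?_
      rintro g ⟨a, ha, c, rfl⟩
      rcases mem_SS.1 ha with ha1 | ⟨a', ha1, ha2⟩
      · obtain ⟨d, hd, h5⟩ := (mem_Ph hb).1 ha1
        refine ⟨xc d4T d c, 1, ?_⟩
        rw [hpsi d hd, map_one, map_one, mul_one, h5]
      · obtain ⟨d, hd, h5⟩ := (mem_Ph hb).1 ha1
        obtain ⟨e, he⟩ := IsAlgClosed.exists_pow_nat_eq c (n := 2) two_pos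
        have e3 := ta_xc hk (rt_sp_of hb hd) e
        rw [he] at e3
        refine ⟨1, xc d4T d e, ?_⟩
        rw [map_one, one_mul, hpsi d hd, ha2, h5]
        exact e3.symm
    exact h1 hy
  · rintro ⟨x, x', rfl⟩
    have h1 : (KK k (SS b)).comap psi = ⊤ := by
      refine gen_top d4T fun a ha c => ?_
      rw [Subgroup.mem_comap, hpsi a ha]
      exact Subgroup.subset_closure ⟨_, Or.inl ((mem_Ph hb).2 ⟨a, ha, rfl⟩), c, rfl⟩
    have h2 : (KK k (SS b)).comap ((ta k).comp psi) = ⊤ := by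
      refine gen_top d4T fun a ha c => ?_
      rw [Subgroup.mem_comap, MonoidHom.comp_apply, hpsi a ha, ta_xc hk (rt_sp_of hb ha)]
      exact Subgroup.subset_closure ⟨_, Or.inr ⟨_, (mem_Ph hb).2 ⟨a, ha, rfl⟩, rfl⟩, _, rfl⟩
    refine mul_mem ?_ ?_
    · have h3 : x ∈ (KK k (SS b)).comap psi := by rw [h1]; exact Subgroup.mem_top x
      exact h3
    · have h3 : x' ∈ (KK k (SS b)).comap ((ta k).comp psi) := by rw [h2]; exact Subgroup.mem_top x'
      exact h3

/-- **`XB k b` is the image of the fixed points of `cc`.** -/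
theorem mem_XB {y : ↥(chevE8.group k)} : y ∈ XB k b ↔ ∃ x, cc k x = x ∧ y = psi x * ta k (psi x) := by
  constructor
  · rintro ⟨h1, h2⟩
    obtain ⟨x, x', rfl⟩ := (mem_KK hb hpsi hk).1 h1
    obtain ⟨h3, h4⟩ := fixed_form hb hpsi hk (mem_GG.1 h2)
    subst h3
    exact ⟨x', h4, rfl⟩
  · rintro ⟨x, hx, rfl⟩
    refine ⟨(mem_KK hb hpsi hk).2 ⟨x, x, rfl⟩, mem_GG.2 ?_⟩
    rw [map_mul, ta_ta_psi hb hpsi hk, hx]
    exact (psi_comm hb hpsi hk x x).symm

/-- **`XB k b` is `Ω₈⁺(4)`.** -/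
theorem xb_omega {F : Type} [Field F] [Fintype F] (hF : Fintype.card F = 4) :
    Nonempty (↥(XB k b) ≃* ↥(Omega F (quadFormPlus 4 F))) := by
  obtain ⟨e⟩ := fix_cc hk hF
  let θ : ↥(Fx (cc k)) →* ↥(XB k b) :=
    ((dd hb hpsi hk).comp (Fx (cc k)).subtype).codRestrict (XB k b) fun x =>
      (mem_XB hb hpsi hk).2 ⟨x.1, mem_Fx.1 x.2, rfl⟩
  have hθ : Function.Bijective θ := by
    constructor
    · intro x y hxy
      exact Subtype.ext (dd_inj hb hpsi hk (congrArg Subtype.val hxy))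
    · rintro ⟨y, hy⟩
      obtain ⟨x, hx, rfl⟩ := (mem_XB hb hpsi hk).1 hy
      exact ⟨⟨x, hx⟩, rfl⟩
  exact ⟨(MulEquiv.ofBijective θ hθ).symm.trans e⟩

end Psi

end

end Cfsg.Agent.H857.OE8
end

-- part: H857/OE8/PsiB
section
/-!
# The torus and the Weyl group of `XB k b` (helper857, S3384)

`psi : D₄(k) → E₈(k)` as in `PsiA`.

* `e5_le` : `E5 k ≤ XB k b`;
* `norm_form` : if `nu v * t ∈ XB k b`, `t` in the torus, then `v` commutes with `w8` and acts on the span of `b` as an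
  element of `W(D₄)`; `eq_prod_rr` : such a `v` is a product of the `rr (b i)`;
* `nu_rr_mem` : `nu (rr a) ∈ XB k b` for `a ∈ Ph b`; `ss_le` : so `XB k b' ≤ XB k b` implies `SS b' ⊆ SS b`.
-/

set_option autoImplicit false
set_option linter.unusedSectionVars false

namespace Cfsg.Agent.H857.OE8

open CoxeterSystem Subgroup Cfsg Cfsg.Lie Cfsg.Lie.ChevalleyDatum
open Cfsg.Agent.ChevalleyStructure Cfsg.Agent.ChevalleyStructure.Elts Cfsg.Agent.ChevalleyStructure.CoxeterGeom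
  Cfsg.Agent.ChevalleyStructure.CoxeterGeomTypes Cfsg.Agent.ChevalleyStructure.NPerm
open Cfsg.Agent.Tits.Roots Cfsg.Agent.Tits.Core Cfsg.Agent.Nodes Cfsg.Agent.Nodes.Reps Cfsg.Agent.Nodes.BNOf
  Cfsg.Agent.Nodes.RGDChev Cfsg.Agent.Nodes.Bruhat
open Cfsg.Agent.KFacts.RgdChevCoord hiding act
open Cfsg.Agent.KFacts.RgdField Cfsg.Agent.BpExc.TorCent Cfsg.Agent.BpExc.TorChev
open Cfsg.Agent.BpExc.Tow Cfsg.Agent.BpExc.TowChev Cfsg.Agent.BpExc.Fr
  Cfsg.Agent.BpExc.LangFr Cfsg.Agent.BpExc.FamField Cfsg.Agent.BpExc.FamInst Cfsg.Agent.H129.TorusChar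
  Cfsg.Agent.H795.LangT Cfsg.Agent.BpExc.FamExt Cfsg.Agent.BpExc.FamUntw Cfsg.Agent.H378.TorDual
  Cfsg.Agent.H378.TorChar Cfsg.Agent.H378.TorFin Cfsg.Agent.H378.RootTor Cfsg.Agent.H865.EE

variable {k : Type} [Field k] [CharP k 2] [IsAlgClosed k] [PerfectRing k 2]

theorem phi_tor {t : ↥(chevE8.group k)} (ht : t ∈ TT chevE8 k) (n : ℕ) : phi chevE8 k 2 n t ∈ TT chevE8 k :=
  phi_mem tp8 2 ht

theorem ta_tor (hk : LocFin k) {t : ↥(chevE8.group k)} (ht : t ∈ TT chevE8 k) : ta k t ∈ TT chevE8 k := by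
  rw [ta, tau_apply]
  exact nu_tor tp8 hk w8 (phi_tor ht 1)

theorem cX_ta (hk : LocFin k) {t : ↥(chevE8.group k)} (ht : t ∈ TT chevE8 k) (x : Fin 8 → ℤ) :
    cX tp8 (ta k t) (act w8 x) = cX tp8 t x ^ 2 := by
  have h2 := cX_rp (hN := nsysL tp8 cs8 hk 2) tp8 cs8 hk 2 (w := w8) (nu_rp tp8 hk w8) (phi_tor ht 1) x
  have h3 : ta k t = nu tp8 k w8 * phi chevE8 k 2 1 t * (nu tp8 k w8)⁻¹ := by
    rw [ta, tau_apply]
  have h1 : cX tp8 (ta k t) (act w8 x) = cX tp8 (phi chevE8 k 2 1 t) x := by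
    rw [h3, h2]
  rw [h1]
  refine (isMC_cX tp8 (phi_tor ht 1)).ext ((isMC_cX tp8 ht).pow 2) (fun i => ?_) x
  show cX tp8 (phi chevE8 k 2 1 t) (sr i) = cX tp8 t (sr i) ^ 2
  rw [cX_sr, cX_sr, ← vec_simple tp8 i, ch_phi tp8 2 (simple_lt tp8.inList (lt_rank tp8 i)) ht, pow_one]

theorem sq_inj {x y : k} (h : x ^ 2 = y ^ 2) : x = y := by
  have h1 : frobenius k 2 x = frobenius k 2 y := by rw [frobenius_def, frobenius_def, h]
  exact frobenius_inj k 2 h1

/-- the restriction of a character to the span of `b` -/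
theorem mc_sp (b : Fin 4 → Fin 8 → ℤ) {t : ↥(chevE8.group k)} (ht : t ∈ TT chevE8 k) :
    IsMC fun c : Fin 4 → ℤ => cX tp8 t (sp b c) where
  zero := by
    show cX tp8 t (sp b 0) = 1
    rw [sp_zero]
    exact (isMC_cX tp8 ht).zero
  add c c' := by
    show cX tp8 t (sp b (c + c')) = cX tp8 t (sp b c) * cX tp8 t (sp b c')
    rw [sp_add]
    exact (isMC_cX tp8 ht).add _ _

theorem mc_spw (b : Fin 4 → Fin 8 → ℤ) {t : ↥(chevE8.group k)} (ht : t ∈ TT chevE8 k) :
    IsMC fun c : Fin 4 → ℤ => cX tp8 t (act w8 (sp b c)) where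
  zero := by
    show cX tp8 t (act w8 (sp b 0)) = 1
    rw [sp_zero, map_zero]
    exact (isMC_cX tp8 ht).zero
  add c c' := by
    show cX tp8 t (act w8 (sp b (c + c'))) = cX tp8 t (act w8 (sp b c)) * cX tp8 t (act w8 (sp b c'))
    rw [sp_add, map_add]
    exact (isMC_cX tp8 ht).add _ _

theorem mc_one : IsMC fun _ : Fin 4 → ℤ => (1 : k) where
  zero := rfl
  add _ _ := (mul_one 1).symm

variable {b : Fin 4 → Fin 8 → ℤ} (hb : Quad b) {psi : ↥(chevD4.group k) →* ↥(chevE8.group k)} (hpsi : IsPsi b psi)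
  (hk : LocFin k)

section

include hpsi

theorem psi_na {a : Fin 4 → ℤ} (ha : Rt4 a) : psi (na d4T k a) = na tp8 k (sp b a) := by
  rw [na, na, map_mul, map_mul, hpsi a ha, hpsi (-a) ha.neg, sp_neg]

theorem psi_ha {a : Fin 4 → ℤ} (ha : Rt4 a) (c : k) : psi (ha' d4T k a c) = ha' tp8 k (sp b a) c := by
  rw [ha', ha', map_mul, map_mul, map_mul, psi_na hpsi ha, hpsi a ha, hpsi (-a) ha.neg, sp_neg]

end

include hb hpsi hk

theorem psi_tor {t : ↥(chevD4.group k)} (ht : t ∈ TT chevD4 k) : psi t ∈ TT chevE8 k := by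
  have h1 : TT chevD4 k ≤ (TT chevE8 k).comap psi := by
    refine tor_gen d4T fun i c hc => ?_
    rw [Subgroup.mem_comap, psi_ha hpsi (sr_root d4T i), sp_sr]
    exact ha_mem tp8 hk (hb.root i) hc
  exact h1 ht

theorem cX_psi {t : ↥(chevD4.group k)} (ht : t ∈ TT chevD4 k) (c : Fin 4 → ℤ) :
    cX tp8 (psi t) (sp b c) = cX d4T t c := by
  have ht8 := psi_tor hb hpsi hk ht
  refine (mc_sp b ht8).ext (isMC_cX d4T ht) (fun i => ?_) c
  show cX tp8 (psi t) (sp b (sr i)) = cX d4T t (sr i)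
  have h1 := congrArg psi (tor_act d4T hk ht (sr_root d4T i) 1)
  rw [map_mul, map_mul, map_inv, hpsi _ (sr_root d4T i), hpsi _ (sr_root d4T i),
    tor_act tp8 hk ht8 (rt_sp_of hb (sr_root d4T i))] at h1
  have h2 := xc_inj' tp8 hk (rt_sp_of hb (sr_root d4T i)) h1
  rwa [mul_one, mul_one] at h2

theorem cX_psi_w {t : ↥(chevD4.group k)} (ht : t ∈ TT chevD4 k) (c : Fin 4 → ℤ) :
    cX tp8 (psi t) (act w8 (sp b c)) = 1 := by
  have ht8 := psi_tor hb hpsi hk ht
  refine (mc_spw b ht8).ext mc_one (fun i => ?_) c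
  show cX tp8 (psi t) (act w8 (sp b (sr i))) = 1
  have hr := rt_sp_of hb (sr_root d4T i)
  have h1 := psi_comm hb hpsi hk t (xc d4T (sr i) 1)
  rw [hpsi _ (sr_root d4T i), ta_xc hk hr, one_pow] at h1
  have h2 := tor_act tp8 hk ht8 (rt_act hr w8) 1
  have h3 : psi t * xc tp8 (act w8 (sp b (sr i))) 1 * (psi t)⁻¹ = xc tp8 (act w8 (sp b (sr i))) 1 := by
    rw [h1]; group
  have h4 := xc_inj' tp8 hk (rt_act hr w8) (h3.symm.trans h2)
  rw [mul_one] at h4
  exact h4.symm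

/-- **The torus of order 625 is in `XB k b`.** -/
theorem e5_le : E5 k ≤ XB k b := by
  rintro t ⟨ht, htG⟩
  have htG' : ta k t = t := htG
  obtain ⟨t1, ht1, hc1⟩ := exists_cX d4T H129.TorusChar.invC_D4 two_ne_zero (mc_sp b ht)
    (fun i => IsAlgClosed.exists_pow_nat_eq _ two_pos)
  have hp1 := psi_tor hb hpsi hk ht1
  have hp2 := ta_tor hk hp1
  have hT : ∀ x, cX tp8 t (act w8 x) = cX tp8 t x ^ 2 := fun x => by
    have h1 := cX_ta hk ht x
    rwa [htG'] at h1
  have key : t = psi t1 * ta k (psi t1) := by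
    refine cX_inj tp8 ht (mul_mem hp1 hp2) fun i => sq_inj ?_
    have h2 : ∀ s ∈ TT chevE8 k, cX tp8 s (sr i) ^ 2 = cX tp8 s (sp b (mc (sr i) b)) *
        cX tp8 s (act w8 (sp b (mc (sr i) fun j => act w8 (b j)))) := by
      intro s hs
      have h3 := (isMC_cX tp8 hs).zsmul 2 (sr i)
      rw [two_smul_eq hb (sr i), (isMC_cX tp8 hs).add] at h3
      rw [h3]
      exact (zpow_natCast _ 2).symm
    generalize mc (sr i) b = m at h2
    generalize (mc (sr i) fun j => act w8 (b j)) = m' at h2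
    have e1 : cX tp8 (ta k (psi t1)) (sp b m) = 1 := by
      have h3 := cX_ta hk hp1 (act w8 (sp b (-m)))
      rw [w8_sq, sp_neg, neg_neg, ← sp_neg, cX_psi_w hb hpsi hk ht1, one_pow] at h3
      exact h3
    rw [h2 t ht, h2 _ (mul_mem hp1 hp2), cX_mul tp8 hp1 hp2, cX_mul tp8 hp1 hp2, e1, cX_psi_w hb hpsi hk ht1,
      cX_ta hk hp1, cX_psi hb hpsi hk ht1, cX_psi hb hpsi hk ht1, hc1, hc1, hT, mul_one, one_mul]
  refine ⟨?_, htG⟩
  rw [key]
  exact (mem_KK hb hpsi hk).2 ⟨t1, t1, rfl⟩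

theorem tor_of_psi {s : ↥(chevD4.group k)} (hs : psi s ∈ TT chevE8 k) : s ∈ TT chevD4 k := by
  obtain ⟨t1, ht1, hc1⟩ := exists_cX d4T H129.TorusChar.invC_D4 two_ne_zero (mc_sp b hs)
    (fun i => IsAlgClosed.exists_pow_nat_eq _ two_pos)
  have h1 : ∀ a, Rt4 a → ∀ c : k, s * xc d4T a c * s⁻¹ = t1 * xc d4T a c * t1⁻¹ := by
    intro a ha c
    refine psi_inj hb hpsi hk ?_
    rw [tor_act d4T hk ht1 ha, map_mul, map_mul, map_inv, hpsi a ha, hpsi a ha, tor_act tp8 hk hs (rt_sp_of hb ha), hc1]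
  have h2 : (Subgroup.centralizer {t1⁻¹ * s}) = ⊤ := by
    refine gen_top d4T fun a ha c => ?_
    rw [Subgroup.mem_centralizer_singleton_iff]
    have h3 := h1 a ha c
    have h4 : s * xc d4T a c = t1 * xc d4T a c * t1⁻¹ * s := by rw [← h3]; group
    have h5 : t1⁻¹ * s * xc d4T a c = xc d4T a c * (t1⁻¹ * s) := by
      rw [mul_assoc, h4]; group
    exact h5.symm
  have h3 : t1⁻¹ * s = 1 := by
    refine eq_one_of_central fun y => ?_
    have h4 : y ∈ Subgroup.centralizer {t1⁻¹ * s} := by rw [h2]; exact Subgroup.mem_top y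
    rw [Subgroup.mem_centralizer_singleton_iff] at h4
    first | exact h4 | exact h4.symm
  rw [inv_mul_eq_one] at h3
  rw [← h3]
  exact ht1

/-- **The elements of the Weyl group of `E₈` with a representative in `XB k b`.** -/
theorem norm_form {v : W8} {t : ↥(chevE8.group k)} (ht : t ∈ TT chevE8 k) (h : nu tp8 k v * t ∈ XB k b) :
    v ∈ CW ∧ ∃ ω : List (Fin 4), ∀ c, act v (sp b c) = sp b (act4 (cs4.wordProd ω) c) := by
  obtain ⟨x, hx, hy⟩ := (mem_XB hb hpsi hk).1 h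
  have hyG : ta k (nu tp8 k v * t) = nu tp8 k v * t := h.2
  constructor
  · -- `v` commutes with `w8`
    rw [map_mul, ta_nu] at hyG
    have h1 : nu tp8 k (v⁻¹ * (w8 * v * w8⁻¹)) ∈ TT chevE8 k := by
      have h2 : nu tp8 k (v⁻¹ * (w8 * v * w8⁻¹)) = t * (ta k t)⁻¹ := by
        rw [map_mul, map_inv]
        have h3 : nu tp8 k (w8 * v * w8⁻¹) = nu tp8 k v * t * (ta k t)⁻¹ := by rw [← hyG]; group
        rw [h3]
        group
      rw [h2]
      exact mul_mem ht (inv_mem (ta_tor hk ht))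
    have h2 := nu_inj_TT tp8 hk H129.TorusChar.invC_E8 one_ne_zero h1
    have h3 : w8 * v * w8⁻¹ = v := (inv_mul_eq_one.1 h2).symm
    have h4 : w8 * v = v * w8 := mul_inv_eq_iff_eq_mul.1 h3
    rw [mem_CW]
    intro z
    rw [← act_mul, ← act_mul, h4]
  · -- conjugation by `y`
    have hconj : ∀ z, (nu tp8 k v * t) * psi z * (nu tp8 k v * t)⁻¹ = psi (x * z * x⁻¹) := by
      intro z
      have h1 := psi_comm hb hpsi hk z x
      rw [hy, map_mul, map_mul, map_inv]
      calc psi x * ta k (psi x) * psi z * (psi x * ta k (psi x))⁻¹ =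
          psi x * (ta k (psi x) * psi z) * (ta k (psi x))⁻¹ * (psi x)⁻¹ := by group
        _ = psi x * (psi z * ta k (psi x)) * (ta k (psi x))⁻¹ * (psi x)⁻¹ := by rw [h1]
        _ = _ := by group
    have hnorm : ∀ s ∈ TT chevD4 k, x * s * x⁻¹ ∈ TT chevD4 k := by
      intro s hs
      refine tor_of_psi hb hpsi hk ?_
      rw [← hconj]
      have h1 : nu tp8 k v * t * psi s * (nu tp8 k v * t)⁻¹ = nu tp8 k v * (t * psi s * t⁻¹) * (nu tp8 k v)⁻¹ := by group
      rw [h1]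
      exact nu_tor tp8 hk v (mul_mem (mul_mem ht (psi_tor hb hpsi hk hs)) (inv_mem ht))
    obtain ⟨u, hu⟩ := exists_rep d4T hk hnorm
    have hroot : ∀ a, Rt4 a → act v (sp b a) = sp b (act4 u a) := by
      intro a ha
      obtain ⟨c, hc, e⟩ := hu a ha
      have hr := rt_sp_of hb ha
      have h1 := hconj (xc d4T a 1)
      rw [e, hpsi a ha, hpsi _ (ha.act u)] at h1
      have h2 : nu tp8 k v * t * xc tp8 (sp b a) 1 * (nu tp8 k v * t)⁻¹ =
          nu tp8 k v * (t * xc tp8 (sp b a) 1 * t⁻¹) * (nu tp8 k v)⁻¹ := by group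
      rw [h2, tor_act tp8 hk ht hr, nu_conj tp8 hk v hr] at h1
      refine xc_root_eq tp8 hk (rt_act hr v) (rt_sp_of hb (ha.act u)) h1 ?_
      rw [mul_one]
      exact (isMC_cX tp8 ht).ne_zero _
    obtain ⟨ω, hω⟩ := cs4.wordProd_surjective u
    refine ⟨ω, fun c => ?_⟩
    rw [hω]
    have h1 : ∀ c : Fin 4 → ℤ, act v (sp b c) = ∑ i, c i • act v (sp b (sr i)) := by
      intro c
      rw [sp, map_sum]
      exact Finset.sum_congr rfl fun i _ => by rw [map_smul, sp_sr]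
    have h2 : ∀ c : Fin 4 → ℤ, sp b (act4 u c) = ∑ i, c i • sp b (act4 u (sr i)) := by
      intro c
      let f : (Fin 4 → ℤ) →+ (Fin 8 → ℤ) :=
        { toFun := sp b, map_zero' := sp_zero b, map_add' := sp_add b }
      conv_lhs => rw [IsMC.eq_sum_sr c]
      rw [map_sum]
      show f (∑ i, act4 u (c i • sr i)) = _
      rw [map_sum]
      refine Finset.sum_congr rfl fun i _ => ?_
      show sp b (act4 u (c i • sr i)) = _
      rw [map_smul, sp_smul]
    rw [h1, h2]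
    exact Finset.sum_congr rfl fun i _ => by rw [hroot _ (sr_root d4T i)]

end Cfsg.Agent.H857.OE8
end

-- part: H857/OE8/PsiC
section
/-!
# `XB k b` determines `SS b` (helper857, S3384)

* `eq_prod_rr` : an element of the Weyl group with a representative in `XB k b` is a product of the `rr (b i)`;
* `nu_rr_mem` : `nu (rr a) ∈ XB k b` for `a ∈ Ph b`; `nu_mem_XB` : so for the products of the `rr (b i)`;
* `ss_le` : `XB k b' ≤ XB k b` implies `SS b' ⊆ SS b`.
-/

set_option autoImplicit false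
set_option linter.unusedSectionVars false

namespace Cfsg.Agent.H857.OE8

open CoxeterSystem Subgroup Cfsg Cfsg.Lie Cfsg.Lie.ChevalleyDatum
open Cfsg.Agent.ChevalleyStructure Cfsg.Agent.ChevalleyStructure.Elts Cfsg.Agent.ChevalleyStructure.CoxeterGeom
  Cfsg.Agent.ChevalleyStructure.CoxeterGeomTypes Cfsg.Agent.ChevalleyStructure.NPerm
open Cfsg.Agent.Tits.Roots Cfsg.Agent.Tits.Core Cfsg.Agent.Nodes Cfsg.Agent.Nodes.Reps Cfsg.Agent.Nodes.BNOf
  Cfsg.Agent.Nodes.RGDChev Cfsg.Agent.Nodes.Bruhat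
open Cfsg.Agent.KFacts.RgdChevCoord hiding act
open Cfsg.Agent.BpExc.TowChev Cfsg.Agent.H865.EE

/-- `rr (b i)` acts on the span of `b` as the simple reflection -/
theorem act_rr_simple {b : Fin 4 → Fin 8 → ℤ} (hb : Quad b) (i : Fin 4) (c : Fin 4 → ℤ) :
    act (rr (b i)) (sp b c) = sp b (act4 (cs4.simple i) c) := by
  have h1 : bf (sp b c) (act w8 (b i)) = 0 := by
    have := orth_sp hb c (sr i)
    rwa [sp_sr] at this
  rw [← act_sp_simple hb, rr_apply (hb.root i), act_rf (hb.root i), h1, zero_smul, add_zero]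

/-- the product of the `rr (b i)` -/
noncomputable def wr (b : Fin 4 → Fin 8 → ℤ) (ω : List (Fin 4)) : W8 := (ω.map fun i => rr (b i)).prod

theorem wr_mem {b : Fin 4 → Fin 8 → ℤ} (hb : Quad b) (ω : List (Fin 4)) : wr b ω ∈ CW := by
  refine Subgroup.list_prod_mem _ fun x hx => ?_
  obtain ⟨i, -, rfl⟩ := List.mem_map.1 hx
  exact rr_mem_CW (hb.root i)

theorem act_wr {b : Fin 4 → Fin 8 → ℤ} (hb : Quad b) (ω : List (Fin 4)) (c : Fin 4 → ℤ) :
    act (wr b ω) (sp b c) = sp b (act4 (cs4.wordProd ω) c) := by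
  induction ω with
  | nil =>
    rw [wordProd_nil, wr, List.map_nil, List.prod_nil, act_one]
    show sp b c = sp b (rep _ _ 1 c)
    rw [map_one, Module.End.one_apply]
  | cons i ω ih =>
    have h1 : wr b (i :: ω) = rr (b i) * wr b ω := rfl
    rw [wordProd_cons, h1, act_mul, ih, act_rr_simple hb]
    show _ = sp b (rep _ _ _ c)
    rw [rep_mul_apply]

/-- elements of `CW` are determined on the span of `b` -/
theorem ext_sp {b : Fin 4 → Fin 8 → ℤ} (hb : Quad b) {u v : W8} (hu : u ∈ CW) (hv : v ∈ CW)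
    (h : ∀ c, act u (sp b c) = act v (sp b c)) : u = v := by
  refine act_ext fun x => smul_left_cancel_two ?_
  have h1 := two_smul_eq hb x
  rw [← map_smul, ← map_smul, h1, map_add, map_add, h, mem_CW.1 hu, mem_CW.1 hv, h]

variable {k : Type} [Field k] [CharP k 2] [IsAlgClosed k] [PerfectRing k 2]

variable {b : Fin 4 → Fin 8 → ℤ} (hb : Quad b) {psi : ↥(chevD4.group k) →* ↥(chevE8.group k)} (hpsi : IsPsi b psi)
  (hk : LocFin k)

theorem neg_mem_Ph {a : Fin 8 → ℤ} (ha : a ∈ Ph b) : -a ∈ Ph b := by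
  obtain ⟨h1, c, hc⟩ := ha
  refine ⟨h1.neg, -c, ?_⟩
  rw [hc]
  exact (sp_neg b c).symm

include hb hpsi hk in
/-- **An element of the Weyl group with a representative in `XB k b` is a product of the `rr (b i)`.** -/
theorem eq_prod_rr {v : W8} {t : ↥(chevE8.group k)} (ht : t ∈ TT chevE8 k) (h : nu tp8 k v * t ∈ XB k b) :
    ∃ ω : List (Fin 4), v = (ω.map fun i => rr (b i)).prod := by
  obtain ⟨h1, ω, h2⟩ := norm_form hb hpsi hk ht h
  refine ⟨ω, ext_sp hb h1 (wr_mem hb ω) fun c => ?_⟩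
  rw [h2]
  exact (act_wr hb ω c).symm

theorem nu_mem_GG {v : W8} (hv : v ∈ CW) : nu tp8 k v ∈ _root_.Cfsg.Agent.H865.EE.GG k := by
  rw [mem_GG, ta_nu]
  have h1 : w8 * v = v * w8 := act_ext fun x => by rw [act_mul, act_mul, mem_CW.1 hv]
  rw [h1, mul_inv_cancel_right]

include hk in
/-- `nu (rr a) ∈ XB k b` for the roots `a` in the span of `b` -/
theorem nu_rr_mem {a : Fin 8 → ℤ} (ha : a ∈ Ph b) : nu tp8 k (rr a) ∈ XB k b := by
  have hr : Rt a := ha.1
  have hn : -a ∈ Ph b := neg_mem_Ph ha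
  refine ⟨?_, nu_mem_GG (rr_mem_CW hr)⟩
  rw [rr, map_mul, nu_rf hk hr, nu_rf hk (rt_act hr w8)]
  have k1 : ∀ c : k, xc tp8 a c ∈ KK k (SS b) := fun c => Subgroup.subset_closure ⟨a, Or.inl ha, c, rfl⟩
  have k2 : ∀ c : k, xc tp8 (-a) c ∈ KK k (SS b) := fun c => Subgroup.subset_closure ⟨-a, Or.inl hn, c, rfl⟩
  have k3 : ∀ c : k, xc tp8 (act w8 a) c ∈ KK k (SS b) := fun c =>
    Subgroup.subset_closure ⟨act w8 a, Or.inr ⟨a, ha, rfl⟩, c, rfl⟩
  have k4 : ∀ c : k, xc tp8 (-act w8 a) c ∈ KK k (SS b) := fun c =>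
    Subgroup.subset_closure ⟨-act w8 a, mem_SS.2 (Or.inr ⟨-a, hn, by rw [map_neg]⟩), c, rfl⟩
  exact mul_mem (mul_mem (k1 1) (mul_mem (k2 1) (k1 1))) (mul_mem (k3 1) (mul_mem (k4 1) (k3 1)))

theorem w8_mem_SS {a : Fin 8 → ℤ} (ha : a ∈ SS b) : act w8 a ∈ SS b := by
  rcases mem_SS.1 ha with h | ⟨a', h, h1⟩
  · exact mem_SS.2 (Or.inr ⟨a, h, rfl⟩)
  · refine mem_SS.2 (Or.inl ?_)
    rw [h1, w8_sq]
    exact neg_mem_Ph h

include hb hpsi hk in
/-- **`XB k b' ≤ XB k b` implies `SS b' ⊆ SS b`.** -/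
theorem ss_le {b' : Fin 4 → Fin 8 → ℤ} (h : XB k b' ≤ XB k b) : SS b' ⊆ SS b := by
  have key : ∀ a ∈ Ph b', a ∈ SS b := by
    intro a ha
    have h1 := h (nu_rr_mem hk ha)
    have h2 : nu tp8 k (rr a) * 1 ∈ XB k b := by rw [mul_one]; exact h1
    obtain ⟨-, ω, h3⟩ := norm_form hb hpsi hk (one_mem _) h2
    exact mem_SS_of_rr hb ha.1 h3
  intro a ha
  rcases mem_SS.1 ha with h1 | ⟨a', h1, h2⟩
  · exact key a h1
  · rw [h2]
    exact w8_mem_SS (key a' h1)

end Cfsg.Agent.H857.OE8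
end

private theorem dce_c4031021f9de : _root_.True := by
  try have : _root_.True := by simp only [_root_.Cfsg.Agent.H857.OE8.wr.eq_1]
  try have : _root_.True := by simp only [_root_.Cfsg.Agent.H857.OE8.cc.eq_1]
  try have : _root_.True := by simp only [_root_.Cfsg.Agent.H865.EE.ta.eq_1]
  try have : _root_.True := by simp only [_root_.Cfsg.Agent.H857.OE8.sp.eq_1]
  try have : _root_.True := by simp only [_root_.Cfsg.Agent.H865.EE.C8.eq_1]
  try have : _root_.True := by simp only [_root_.Cfsg.Agent.H857.OE8.wb.eq_1]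
  try have : _root_.True := by simp only [_root_.Cfsg.Agent.H857.OE8.na.congr_simp]
  try have : _root_.True := by simp only [_root_.Cfsg.Agent.H857.OE8.B4.eq_1]
  try have : _root_.True := by simp only [_root_.Cfsg.Agent.H865.EE.rr.eq_1]
  try have : _root_.True := by simp only [_root_.Cfsg.Agent.H857.OE8.C4.eq_1]
  try have : _root_.True := by simp only [_root_.Cfsg.Agent.H857.OE8.ha'.eq_1]
  try have : _root_.True := by simp only [_root_.Cfsg.Agent.H857.OE8.na.eq_1]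
  try have : _root_.True := by simp only [_root_.Cfsg.Agent.H865.EE.nu.congr_simp]
  try have : _root_.True := by simp only [_root_.Cfsg.Agent.H865.EE.ta.congr_simp]
  try have : _root_.True := by simp only [_root_.Cfsg.Agent.H857.OE8.cc.congr_simp]
  exact _root_.True.intro
end

-- part: H865/EE/Asm
section
prune_inst 0x7f4103035040522100000000000300002003000000200008000006001040002104005020800080009000a28800800050000001800204000000000000000000501000800120490080104060000000000000000000000000000000000000000041004000000000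
set_option linter.all false
open scoped Cfsg.Agent.FastGrp

-- part: H865/EE/Tor
section
/-!
# The torus `E5 k`: order, hyperplanes (helper865, S3384)

* `card_E5 : Nat.card (E5 k) = 625`;
* `exists_hyp` : a subgroup `H ≤ E5 k` of order 125 is `{t | cX t x₀ = 1}` for some `x₀` with `PP x₀ ≠ 0`;
* `PP_line'` : characters trivial on `H` are the multiples of `PP x₀`.
-/

set_option autoImplicit false
set_option linter.unusedSectionVars false

namespace Cfsg.Agent.H865.EE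

open CoxeterSystem Subgroup Cfsg Cfsg.Lie Cfsg.Lie.ChevalleyDatum
open Cfsg.Agent.ChevalleyStructure Cfsg.Agent.ChevalleyStructure.Elts Cfsg.Agent.ChevalleyStructure.CoxeterGeom
  Cfsg.Agent.ChevalleyStructure.CoxeterGeomTypes Cfsg.Agent.ChevalleyStructure.NPerm
open Cfsg.Agent.Tits.Roots Cfsg.Agent.Tits.Core Cfsg.Agent.Nodes Cfsg.Agent.Nodes.SubComb Cfsg.Agent.Nodes.Reps
  Cfsg.Agent.Nodes.BNOf Cfsg.Agent.Nodes.RGDChev Cfsg.Agent.Nodes.Bruhat Cfsg.Agent.Nodes.Coroot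
open Cfsg.Agent.KFacts.RgdField Cfsg.Agent.KFacts.RgdChevCoord Cfsg.Agent.BpExc.TorCent Cfsg.Agent.BpExc.TorChev
open Cfsg.Agent.GpExc.Field Cfsg.Agent.BpExc.Tow Cfsg.Agent.BpExc.TowChev Cfsg.Agent.BpExc.Fr
  Cfsg.Agent.BpExc.LangFr Cfsg.Agent.BpExc.FamField Cfsg.Agent.BpExc.FamInst Cfsg.Agent.H129.TorusChar
  Cfsg.Agent.H795.LangT Cfsg.Agent.BpExc.FamExt Cfsg.Agent.BpExc.FamUntw Cfsg.Agent.H378.TorDual Cfsg.Agent.H378.TorChar
  Cfsg.Agent.H378.TorFin Cfsg.Agent.H378.RankOne Cfsg.Agent.H378.RootTor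

attribute [local irreducible] w8

/-- the characters of `E5 k` as a vector space -/
abbrev V4 := Fin 4 → ZMod 5

instance : Fact (Nat.Prime 5) := ⟨by norm_num⟩

variable {k : Type} [Field k] [CharP k 2] [PerfectRing k 2] [IsAlgClosed k] (hk : LocFin k)

theorem zval_add {ζ : k} (hζ : IsPrimitiveRoot ζ 5) (a b : ZMod 5) : ζ ^ (a + b).val = ζ ^ a.val * ζ ^ b.val := by
  rw [← pow_add]
  exact pow_eq_pow_of_modEq (by rw [ZMod.val_add]; exact Nat.mod_modEq _ _) hζ.pow_eq_one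

theorem zval_inj {ζ : k} (hζ : IsPrimitiveRoot ζ 5) {a b : ZMod 5} (h : ζ ^ a.val = ζ ^ b.val) : a = b :=
  ZMod.val_injective 5 (hζ.pow_inj (ZMod.val_lt a) (ZMod.val_lt b) h)

include hk in
/-- the isomorphism of the dual space with `E5 k` -/
theorem exists_iso {ζ : k} (hζ : IsPrimitiveRoot ζ 5) :
    ∃ e : Multiplicative (Module.Dual (ZMod 5) V4) ≃* ↥(E5 k), ∀ φ x,
      cX tp8 (e (Multiplicative.ofAdd φ)).1 x = ζ ^ (φ (PP x)).val := by
  have h1 : ∀ φ : Module.Dual (ZMod 5) V4, ∃ t ∈ E5 k, ∀ x, cX tp8 t x = ζ ^ (φ (PP x)).val := fun φ =>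
    exists_E5 hk hζ φ.toAddMonoidHom
  choose f hf hc using h1
  have hinj : ∀ {s t : ↥(chevE8.group k)}, s ∈ E5 k → t ∈ E5 k → (∀ x, cX tp8 s x = cX tp8 t x) → s = t :=
    fun hs ht h => cX_inj tp8 hs.1 ht.1 fun i => h _
  let F : Multiplicative (Module.Dual (ZMod 5) V4) →* ↥(E5 k) :=
    MonoidHom.mk' (fun φ => ⟨f φ.toAdd, hf _⟩) (fun φ ψ => by
      apply Subtype.ext
      show f (φ.toAdd + ψ.toAdd) = f φ.toAdd * f ψ.toAdd
      refine hinj (hf _) (mul_mem (hf _) (hf _)) fun x => ?_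
      rw [cX_mul tp8 (hf _).1 (hf _).1, hc, hc, hc, LinearMap.add_apply, zval_add hζ])
  have hFi : Function.Injective F := by
    intro φ ψ h
    have h1 : f φ.toAdd = f ψ.toAdd := congrArg Subtype.val h
    have h2 : ∀ c, φ.toAdd c = ψ.toAdd c := fun c => by
      obtain ⟨x, rfl⟩ := PP_surj c
      apply zval_inj hζ
      rw [← hc, ← hc, h1]
    exact LinearMap.ext h2
  have hFs : Function.Surjective F := by
    intro t
    have h1 : ∀ x, ∃ a : ZMod 5, cX tp8 t.1 x = ζ ^ a.val := fun x => by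
      obtain ⟨i, hi, h⟩ := hζ.eq_pow_of_pow_eq_one (cX_E5_pow hk t.2 x)
      refine ⟨(i : ZMod 5), ?_⟩
      rw [ZMod.val_natCast, Nat.mod_eq_of_lt hi, h]
    choose g hg using h1
    have hgP : ∀ x y, PP x = PP y → g x = g y := fun x y h => by
      apply zval_inj hζ
      rw [← hg, ← hg, cX_eq_of_PP hk t.2 h]
    have hm := isMC_cX tp8 t.2.1
    have hga : ∀ x y, g (x + y) = g x + g y := fun x y => by
      apply zval_inj hζ
      rw [← hg, hm.add, hg, hg, zval_add hζ]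
    choose s hs using PP_surj
    let φ0 : V4 →+ ZMod 5 := AddMonoidHom.mk' (fun c => g (s c)) (fun a b => by
      rw [← hga]
      exact hgP _ _ (by rw [hs, map_add, hs, hs]))
    have hφ : ∀ x, φ0 (PP x) = g x := fun x => hgP _ _ (hs _)
    refine ⟨Multiplicative.ofAdd (φ0.toZModLinearMap 5), Subtype.ext (hinj (hf _) t.2 fun x => ?_)⟩
    show cX tp8 (f (φ0.toZModLinearMap 5)) x = _
    rw [hc, AddMonoidHom.coe_toZModLinearMap, hφ, hg]
  refine ⟨MulEquiv.ofBijective F ⟨hFi, hFs⟩, fun φ x => ?_⟩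
  exact hc φ x

include hk in
theorem card_E5 : Nat.card ↥(E5 k) = 625 := by
  obtain ⟨ζ, hζ⟩ := exists_zeta k
  obtain ⟨e, -⟩ := exists_iso hk hζ
  rw [← Nat.card_congr e.toEquiv, Nat.card_congr Multiplicative.toAdd, Module.natCard_eq_pow_finrank (K := ZMod 5),
    Subspace.dual_finrank_eq, Module.finrank_fin_fun, Nat.card_eq_fintype_card, ZMod.card]
  norm_num

include hk in
/-- **Hyperplanes.** -/
theorem exists_hyp {H : Subgroup ↥(chevE8.group k)} (hH : H ≤ E5 k) (hc : Nat.card ↥H = 125) :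
    ∃ x₀ : Fin 8 → ℤ, PP x₀ ≠ 0 ∧ (∀ t, t ∈ H ↔ t ∈ E5 k ∧ cX tp8 t x₀ = 1) ∧
      ∀ x, (∀ t ∈ H, cX tp8 t x = 1) → ∃ c : ZMod 5, PP x = c • PP x₀ := by
  obtain ⟨ζ, hζ⟩ := exists_zeta k
  obtain ⟨e, he⟩ := exists_iso hk hζ
  -- the subspace
  let K0 : AddSubgroup (Module.Dual (ZMod 5) V4) :=
    { carrier := {φ | (e (Multiplicative.ofAdd φ)).1 ∈ H}
      zero_mem' := by
        show (e 1).1 ∈ H
        rw [map_one]; exact one_mem _
      add_mem' := fun {a b} ha hb => by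
        show (e (Multiplicative.ofAdd a * Multiplicative.ofAdd b)).1 ∈ H
        rw [map_mul]; exact mul_mem ha hb
      neg_mem' := fun {a} ha => by
        show (e (Multiplicative.ofAdd a)⁻¹).1 ∈ H
        rw [map_inv]; exact inv_mem ha }
  let K : Submodule (ZMod 5) (Module.Dual (ZMod 5) V4) := AddSubgroup.toZModSubmodule 5 K0
  have hK : ∀ φ, φ ∈ K ↔ (e (Multiplicative.ofAdd φ)).1 ∈ H := fun φ => by
    rw [AddSubgroup.mem_toZModSubmodule]; rfl
  have hcK : Nat.card ↥K = 125 := by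
    rw [← hc]
    refine Nat.card_congr ⟨fun φ => ⟨_, (hK φ.1).1 φ.2⟩, fun t => ⟨(e.symm ⟨t.1, hH t.2⟩).toAdd, (hK _).2 ?_⟩, ?_, ?_⟩
    · show (e (e.symm ⟨t.1, hH t.2⟩)).1 ∈ H
      rw [MulEquiv.apply_symm_apply]; exact t.2
    · intro φ
      apply Subtype.ext
      show (e.symm ⟨(e (Multiplicative.ofAdd φ.1)).1, _⟩).toAdd = φ.1
      have : (⟨(e (Multiplicative.ofAdd φ.1)).1, hH ((hK φ.1).1 φ.2)⟩ : ↥(E5 k)) = e (Multiplicative.ofAdd φ.1) := rfl
      rw [this, MulEquiv.symm_apply_apply]; rfl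
    · intro t
      apply Subtype.ext
      show (e (e.symm ⟨t.1, hH t.2⟩)).1 = t.1
      rw [MulEquiv.apply_symm_apply]
  have hrK : Module.finrank (ZMod 5) ↥K = 3 := by
    have h1 : Nat.card ↥K = 5 ^ Module.finrank (ZMod 5) ↥K := by
      rw [Module.natCard_eq_pow_finrank (K := ZMod 5), Nat.card_eq_fintype_card, ZMod.card]
    rw [hcK] at h1
    exact (Nat.pow_right_injective (le_refl 2 |>.trans (by norm_num)) (h1.symm.trans (by norm_num : 125 = 5 ^ 3))).symm ▸ rfl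
  let J : Submodule (ZMod 5) V4 := K.dualCoannihilator
  have hrJ : Module.finrank (ZMod 5) ↥J = 1 := by
    have h1 := Subspace.finrank_add_finrank_dualCoannihilator_eq K
    rw [hrK, Module.finrank_fin_fun] at h1
    show Module.finrank (ZMod 5) ↥K.dualCoannihilator = 1
    omega
  obtain ⟨c0, hc0, hspan⟩ := finrank_eq_one_iff'.1 hrJ
  obtain ⟨x₀, hx⟩ := PP_surj c0.1
  have hJ : ∀ c, c ∈ J ↔ ∀ φ ∈ K, φ c = 0 := fun c => Submodule.mem_dualCoannihilator _
  have hone : ∀ φ x, cX tp8 (e (Multiplicative.ofAdd φ)).1 x = 1 ↔ φ (PP x) = 0 := fun φ x => by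
    rw [he]
    constructor
    · intro h
      apply zval_inj hζ
      rw [h, ZMod.val_zero, pow_zero]
    · intro h
      rw [h, ZMod.val_zero, pow_zero]
  have hKK : ∀ φ, φ ∈ K ↔ φ c0.1 = 0 := by
    intro φ
    constructor
    · exact fun h => (hJ _).1 c0.2 φ h
    · intro h
      have h1 : K.dualCoannihilator.dualAnnihilator = K := Subspace.dualCoannihilator_dualAnnihilator_eq
      rw [← h1, Submodule.mem_dualAnnihilator]
      intro w hw
      obtain ⟨m, hm⟩ := hspan ⟨w, hw⟩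
      have h2 : w = m • c0.1 := (congrArg Subtype.val hm).symm
      rw [h2, map_smul, h, smul_zero]
  refine ⟨x₀, ?_, ?_, ?_⟩
  · rw [hx]
    exact fun h => hc0 (Subtype.ext h)
  · intro t
    constructor
    · intro ht
      refine ⟨hH ht, ?_⟩
      have h1 : (e (Multiplicative.ofAdd (e.symm ⟨t, hH ht⟩).toAdd)).1 = t := by
        show (e (e.symm ⟨t, hH ht⟩)).1 = t
        rw [MulEquiv.apply_symm_apply]
      have h2 : (e.symm ⟨t, hH ht⟩).toAdd ∈ K := (hK _).2 (by rw [h1]; exact ht)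
      rw [← h1, hone, hx]
      exact (hKK _).1 h2
    · rintro ⟨ht, h⟩
      have h1 : (e (Multiplicative.ofAdd (e.symm ⟨t, ht⟩).toAdd)).1 = t := by
        show (e (e.symm ⟨t, ht⟩)).1 = t
        rw [MulEquiv.apply_symm_apply]
      rw [← h1, hone, hx] at h
      have h2 := (hK _).1 ((hKK _).2 h)
      rwa [h1] at h2
  · intro x h
    have h1 : PP x ∈ J := (hJ _).2 fun φ hφ => (hone φ x).1 (h _ ((hK φ).1 hφ))
    obtain ⟨m, hm⟩ := hspan ⟨PP x, h1⟩
    exact ⟨m, by rw [hx]; exact (congrArg Subtype.val hm).symm⟩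

end Cfsg.Agent.H865.EE
end

-- part: H129/EE/LangE
section
/-!
# `GG k` is `E₈(2)` (helper129, S3384, piece L)
-/

set_option autoImplicit false
set_option linter.unusedSectionVars false

namespace Cfsg.Agent.H129.EE

open CoxeterSystem Subgroup Cfsg Cfsg.Lie Cfsg.Lie.ChevalleyDatum
open Cfsg.Agent.ChevalleyStructure Cfsg.Agent.ChevalleyStructure.Elts Cfsg.Agent.ChevalleyStructure.CoxeterGeom
  Cfsg.Agent.ChevalleyStructure.CoxeterGeomTypes Cfsg.Agent.ChevalleyStructure.NPerm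
open Cfsg.Agent.Tits.Roots Cfsg.Agent.Tits.Core Cfsg.Agent.Nodes Cfsg.Agent.Nodes.SubComb Cfsg.Agent.Nodes.Reps
  Cfsg.Agent.Nodes.BNOf Cfsg.Agent.Nodes.RGDChev Cfsg.Agent.Nodes.Bruhat Cfsg.Agent.Nodes.Coroot
open Cfsg.Agent.KFacts.RgdField Cfsg.Agent.KFacts.RgdChevCoord Cfsg.Agent.BpExc.TorCent Cfsg.Agent.BpExc.TorChev
open Cfsg.Agent.GpExc.Field Cfsg.Agent.BpExc.Tow Cfsg.Agent.BpExc.TowChev Cfsg.Agent.BpExc.Fr
  Cfsg.Agent.BpExc.LangFr Cfsg.Agent.BpExc.FamField Cfsg.Agent.BpExc.FamInst Cfsg.Agent.H129.TorusChar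
  Cfsg.Agent.H795.LangT Cfsg.Agent.BpExc.FamExt Cfsg.Agent.BpExc.FamUntw Cfsg.Agent.H378.TorDual Cfsg.Agent.H378.TorChar
  Cfsg.Agent.H378.TorFin Cfsg.Agent.H378.RankOne Cfsg.Agent.H378.RootTor Cfsg.Agent.H865.EE Cfsg.Agent.H123.ExcZ

attribute [local irreducible] w8

section

variable {k : Type} [Field k] [CharP k 2] [PerfectRing k 2] [IsAlgClosed k]

/-- **`GG k ≃ E₈(2)`** -/
theorem exists_GG_equiv : Nonempty (↥(H865.EE.GG k) ≃* ↥(chevE8.group (ZMod 2))) := by
  obtain ⟨z, hz⟩ := lang' tp8 2 one_pos (nu tp8 k w8)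
  have hz' : phi chevE8 k 2 1 z = z * nu tp8 k w8 := by rw [← hz]; group
  have hcard : Nat.card (ZMod 2) = 2 ^ 1 := by simp
  let e := emb tp8.inList (f2 k)
  have he : Function.Injective e := emb_injective tp8.inList (f2 k)
  have h1 : (H865.EE.GG k).map (MulAut.conj z).toMonoidHom = e.range := by
    apply le_antisymm
    · rintro _ ⟨y, hy, rfl⟩
      exact fix_mem tp8 (f2 k) 2 hcard invC_E8 (fix_of_tau 2 hz hy)
    · rintro _ ⟨x, rfl⟩
      refine ⟨z⁻¹ * e x * z, ?_, ?_⟩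
      · show ta k (z⁻¹ * e x * z) = z⁻¹ * e x * z
        have h2 : phi chevE8 k 2 1 (e x) = e x := phi_emb' tp8 (f2 k) 2 hcard x
        rw [ta_apply, map_mul, map_mul, map_inv, hz', h2]
        group
      · show z * (z⁻¹ * e x * z) * z⁻¹ = e x
        group
  have e1 := (H865.EE.GG k).equivMapOfInjective (MulAut.conj z).toMonoidHom (MulAut.conj z).injective
  have e2 := MulEquiv.subgroupCongr h1
  have e3 := (MonoidHom.ofInjective he).symm
  exact ⟨(e1.trans e2).trans e3⟩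

theorem finite_GG : Finite ↥(H865.EE.GG k) := by
  obtain ⟨e⟩ := exists_GG_equiv (k := k)
  exact Finite.of_equiv _ e.symm.toEquiv

theorem card_GG : Nat.card ↥(H865.EE.GG k) = Nat.card ↥(chevE8.group (ZMod 2)) := by
  obtain ⟨e⟩ := exists_GG_equiv (k := k)
  exact Nat.card_congr e.toEquiv

theorem not_dvd_card : ¬ 5 ^ 6 ∣ Nat.card ↥(H865.EE.GG k) := by
  have h := Cfsg.Agent.S1065.result (F := ZMod 2) (ZMod.card 2)
  rw [card_GG, h]
  norm_num

end

end Cfsg.Agent.H129.EE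
end

-- part: H299/EE/Conj
section
/-!
# The abelian subgroups of order `5^4` (S3384, piece S)
-/

set_option autoImplicit false

namespace Cfsg.Agent.H299.EE

universe u

theorem card_rel {G : Type u} [Group G] (H K : Subgroup G) (h : H ≤ K) : H.relIndex K * Nat.card H = Nat.card K := by
  have h1 := (H.subgroupOf K).index_mul_card
  rwa [Nat.card_congr (Subgroup.subgroupOfEquivOfLe h).toEquiv] at h1

/-- S : Sylow argument -/
theorem conj_of {G : Type u} [Group G] [Finite G] (E : Subgroup G) (hE : Nat.card E = 625)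
    (_hab : ∀ a ∈ E, ∀ b ∈ E, a * b = b * a) (hG : ¬ 5 ^ 6 ∣ Nat.card G)
    (key : ∀ x : G, (∃ n : ℕ, x ^ 5 ^ n = 1) → (∀ e ∈ E, x * e * x⁻¹ ∈ E) →
      (∃ H : Subgroup G, H ≤ E ∧ Nat.card H = 125 ∧ ∀ h ∈ H, x * h = h * x) → x ∈ E)
    (A : Subgroup G) (hA : Nat.card A = 625) (hA2 : ∀ a ∈ A, ∀ b ∈ A, a * b = b * a) :
    ∃ g : G, A.map (MulAut.conj g).toMonoidHom = E := by
  have hp : Fact (Nat.Prime 5) := ⟨by norm_num⟩
  have hEp : IsPGroup 5 E := IsPGroup.of_card (n := 4) (by rw [hE]; norm_num)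
  have hAp : IsPGroup 5 A := IsPGroup.of_card (n := 4) (by rw [hA]; norm_num)
  obtain ⟨P, hEP⟩ := hEp.exists_le_sylow
  obtain ⟨Q, hAQ⟩ := hAp.exists_le_sylow
  obtain ⟨g, hg⟩ := MulAction.exists_smul_eq G Q P
  refine ⟨g, ?_⟩
  set B := A.map (MulAut.conj g).toMonoidHom with hB
  have hBP : B ≤ (P : Subgroup G) := by
    rw [← hg]
    rintro x ⟨a, ha, rfl⟩
    exact Subgroup.smul_mem_pointwise_smul a (MulAut.conj g) _ (hAQ ha)
  have hBc : Nat.card B = 625 := by
    rw [← hA]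
    exact Nat.card_congr (A.equivMapOfInjective _ (MulAut.conj g).injective).toEquiv.symm
  have hB2 : ∀ a ∈ B, ∀ b ∈ B, a * b = b * a := by
    rintro a ⟨a, ha, rfl⟩ b ⟨b, hb, rfl⟩
    rw [← map_mul, ← map_mul, hA2 a ha b hb]
  -- it is enough that `B ≤ E`
  have fin : B ≤ E → B = E := by
    intro h
    have : Finite E := inferInstance
    exact Subgroup.eq_of_le_of_card_ge h (by rw [hE, hBc])
  apply fin
  obtain ⟨n, hn⟩ := IsPGroup.iff_card.1 P.isPGroup'
  have hn6 : n < 6 := by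
    by_contra h
    push Not at h
    apply hG
    exact ((pow_dvd_pow 5 h).trans (hn ▸ dvd_refl _)).trans (Subgroup.card_subgroup_dvd_card (P : Subgroup G))
  have hd4 : 5 ^ 4 ∣ 5 ^ n := by
    rw [← hn, show (5 : ℕ) ^ 4 = Nat.card E by rw [hE]; norm_num]
    exact Subgroup.card_dvd_of_le hEP
  have hn4 : 4 ≤ n := (Nat.pow_dvd_pow_iff_le_right (by norm_num)).1 hd4
  have hcases : n = 4 ∨ n = 5 := by omega
  rcases hcases with rfl | rfl
  · have h1 : E = (P : Subgroup G) := Subgroup.eq_of_le_of_card_ge hEP (by rw [hE, hn]; norm_num)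
    rw [h1]
    exact hBP
  have hidx : E.relIndex P = 5 := by
    have h1 := card_rel E P hEP
    rw [hE, hn] at h1
    omega
  have hnorm : (E.subgroupOf P).Normal := by
    apply Subgroup.normal_of_index_eq_minFac_card
    show E.relIndex P = _
    rw [hidx, hn, Nat.Prime.pow_minFac (by norm_num) (by norm_num)]
  intro x hx
  by_contra hxE
  apply hxE
  have hB5 : E.relIndex B ≤ 5 := by
    rw [← hidx]
    exact Subgroup.relIndex_le_of_le_right hBP (by rw [hidx]; norm_num)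
  have hm : E.relIndex B * Nat.card ↥(E ⊓ B) = 625 := by
    have h1 := card_rel (E ⊓ B) B inf_le_right
    rwa [Subgroup.inf_relIndex_right, hBc] at h1
  have hne : E.relIndex B ≠ 1 := by
    intro h
    exact hxE (Subgroup.relIndex_eq_one.1 h hx)
  have h125 : Nat.card ↥(E ⊓ B) = 125 := by
    generalize E.relIndex B = r at hB5 hm hne
    generalize Nat.card ↥(E ⊓ B) = m at hm
    interval_cases r
    · omega
    · omega
    · omega
    · omega
    · omega
    · omega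
  refine key x ?_ ?_ ⟨E ⊓ B, inf_le_left, h125, ?_⟩
  · obtain ⟨k, hk⟩ := P.isPGroup' ⟨x, hBP hx⟩
    exact ⟨k, congrArg Subtype.val hk⟩
  · intro e he
    have h1 := hnorm.conj_mem ⟨e, hEP he⟩ (Subgroup.mem_subgroupOf.2 he) ⟨x, hBP hx⟩
    exact Subgroup.mem_subgroupOf.1 h1
  · intro h hh
    exact hB2 x hx h hh.2

end Cfsg.Agent.H299.EE
end

-- part: H799/EE/Rescale
section
/-!
# S3384, piece R: rescaling four roots by powers of `w8` (helper799)
-/

set_option autoImplicit false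

namespace Cfsg.Agent.H799.EE

open Cfsg.Agent.H865.EE

theorem root_act {a : Fin 8 → ℤ} (ha : Rt a) (v : W8) : Rt (act v a) := ha.act v

theorem w8_root {a : Fin 8 → ℤ} (ha : Rt a) : Rt (act w8 a) := root_act ha w8

/-- `w8` is skew for the form -/
theorem bf_w8_left (x y : Fin 8 → ℤ) : bf (act w8 x) y = -bf x (act w8 y) := by
  have h := bf_act w8 x (act w8 y)
  rw [w8_sq, bf_neg_right] at h
  omega

theorem bf_w8_w8 (x y : Fin 8 → ℤ) : bf (act w8 x) (act w8 y) = bf x y := bf_act w8 x y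

theorem bf_self_w8 (x : Fin 8 → ℤ) : bf x (act w8 x) = 0 := by
  have h := bf_w8_left x x
  rw [bf_comm] at h
  omega

theorem act_rr {a : Fin 8 → ℤ} (ha : Rt a) (x : Fin 8 → ℤ) :
    act (rr a) x = x - bf x a • a - bf x (act w8 a) • act w8 a := by
  rw [rr, act_mul, act_rf (w8_root ha), act_rf ha, bf_sub_left, bf_smul_left, bf_w8_left, bf_self_w8, neg_zero, mul_zero,
    sub_zero]
  abel

/-- for roots, `H(a,b)` of absolute value 2 means that `a` and `b` are proportional -/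
theorem four_smul {a b : Fin 8 → ℤ} (h : 2 • a = bf a b • b + bf a (act w8 b) • act w8 b)
    (hN : bf a b ^ 2 + bf a (act w8 b) ^ 2 = 4) :
    a = b ∨ a = -b ∨ a = act w8 b ∨ a = -act w8 b := by
  generalize hp : bf a b = p at *
  generalize hq : bf a (act w8 b) = q at *
  have h1 : p ≤ 2 := by nlinarith only [hN]
  have h2 : -2 ≤ p := by nlinarith only [hN]
  have h3 : q ≤ 2 := by nlinarith only [hN]
  have h4 : -2 ≤ q := by nlinarith only [hN]
  have two : ∀ x y : Fin 8 → ℤ, 2 • x = 2 • y → x = y := by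
    intro x y hxy
    funext i
    have := congrFun hxy i
    simp only [Pi.smul_apply, nsmul_eq_mul, Nat.cast_ofNat] at this
    omega
  have hc : (p = 2 ∧ q = 0) ∨ (p = -2 ∧ q = 0) ∨ (p = 0 ∧ q = 2) ∨ (p = 0 ∧ q = -2) := by
    clear hp hq h
    interval_cases p <;> interval_cases q <;> simp_all only [_root_.nsmul_eq_mul, _root_.Nat.cast_ofNat, _root_.Int.reduceNeg, _root_.Std.le_refl, _root_.neg_le_self_iff, _root_.Nat.ofNat_nonneg, _root_.even_two, _root_.Even.neg_pow, _root_.Int.reducePow, _root_.Int.reduceAdd, _root_.OfNat.ofNat_eq_ofNat, _root_.Nat.reduceEqDiff, _root_.Int.neg_ofNat_le_ofNat, _root_.neg_le_neg_iff, _root_.Nat.one_le_ofNat, _root_.one_pow, _root_.Nat.succ_ne_self, _root_.Left.neg_nonpos_iff, _root_.ne_eq, _root_.OfNat.ofNat_ne_zero, _root_.not_false_eq_true, _root_.zero_pow, _root_.add_zero, _root_.reduceCtorEq, _root_.and_true, _root_.and_self, _root_.neg_eq_zero, _root_.OfNat.zero_ne_ofNat, _root_.zero_eq_neg,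 _root_.or_self, _root_.or_false, _root_.or_true, _root_.OfNat.one_ne_ofNat, _root_.zero_add, _root_.and_false]
  rcases hc with ⟨rfl, rfl⟩ | ⟨rfl, rfl⟩ | ⟨rfl, rfl⟩ | ⟨rfl, rfl⟩
  · left
    apply two
    rw [h, zero_smul, add_zero]
    rfl
  · right; left
    apply two
    rw [h, zero_smul, add_zero, smul_neg, neg_smul]
    rfl
  · right; right; left
    apply two
    rw [h, zero_smul, zero_add]
    rfl
  · right; right; right
    apply two
    rw [h, zero_smul, zero_add, smul_neg, neg_smul]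
    rfl

theorem rr_neg {a : Fin 8 → ℤ} (ha : Rt a) (hn : Rt (-a)) : rr (-a) = rr a := by
  refine act_ext fun x => ?_
  rw [act_rr ha, act_rr hn, map_neg, bf_neg_right, bf_neg_right, neg_smul, neg_smul, smul_neg, smul_neg, neg_neg, neg_neg]

theorem rr_w8 {a : Fin 8 → ℤ} (ha : Rt a) : rr (act w8 a) = rr a := by
  refine act_ext fun x => ?_
  rw [act_rr ha, act_rr (w8_root ha), w8_sq, bf_neg_right, neg_smul, smul_neg, neg_neg]
  abel

theorem neg_root {a : Fin 8 → ℤ} (ha : Rt a) : Rt (-a) := ha.neg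

theorem rr_of_mem {a b : Fin 8 → ℤ} (hb : Rt b) (h : a = b ∨ a = -b ∨ a = act w8 b ∨ a = -act w8 b) : rr a = rr b := by
  rcases h with h | h | h | h <;> rw [h]
  · exact rr_neg hb (neg_root hb)
  · exact rr_w8 hb
  · rw [rr_neg (w8_root hb) (neg_root (w8_root hb)), rr_w8 hb]

theorem rr_sq {a : Fin 8 → ℤ} (ha : Rt a) : rr a * rr a = 1 := by
  refine act_ext fun x => ?_
  rw [act_mul, act_one, act_rr ha, act_rr ha]
  simp only [bf_sub_left, bf_smul_left, bf_self ha, bf_self_w8, bf_w8_left, w8_sq, bf_neg_right]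
  module

theorem act_rr_self {a : Fin 8 → ℤ} (ha : Rt a) : act (rr a) a = -a := by
  rw [act_rr ha, bf_self ha, bf_self_w8]
  module

theorem act_rr_w8 {a : Fin 8 → ℤ} (ha : Rt a) : act (rr a) (act w8 a) = -act w8 a := by
  rw [act_rr ha, bf_w8_w8, bf_self ha, bf_w8_left, bf_self_w8]
  module

/-- `r_b a` -/
theorem act_rr_left {a b : Fin 8 → ℤ} (hb : Rt b) :
    act (rr b) a = a - (bf a b • b + bf a (act w8 b) • act w8 b) := by
  rw [act_rr hb]
  module

/-- `r_a r_b a` -/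
theorem act_rr_rr {a b : Fin 8 → ℤ} (ha : Rt a) (hb : Rt b) :
    act (rr a) (act (rr b) a) =
      (bf a b ^ 2 + bf a (act w8 b) ^ 2 - 1) • a - (bf a b • b + bf a (act w8 b) • act w8 b) := by
  rw [act_rr_left hb, act_rr ha]
  have h1 : bf (a - (bf a b • b + bf a (act w8 b) • act w8 b)) a = 2 - (bf a b ^ 2 + bf a (act w8 b) ^ 2) := by
    rw [bf_sub_left, bf_add_left, bf_smul_left, bf_smul_left, bf_self ha, bf_comm b a, bf_comm (act w8 b) a]
    ring
  have h2 : bf (a - (bf a b • b + bf a (act w8 b) • act w8 b)) (act w8 a) = 0 := by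
    rw [bf_sub_left, bf_add_left, bf_smul_left, bf_smul_left, bf_self_w8, bf_w8_w8, bf_comm b (act w8 a), bf_w8_left,
      bf_comm b a]
    ring
  rw [h1, h2]
  module

/-- orthogonality from commuting reflections -/
theorem orth_of_comm {a b : Fin 8 → ℤ} (ha : Rt a) (hb : Rt b) (h1 : rr a * rr b ≠ 1) (h2 : (rr a * rr b) ^ 2 = 1) :
    bf a b = 0 ∧ bf a (act w8 b) = 0 := by
  have hc : rr a * rr b = rr b * rr a := by
    have h3 : (rr a * rr b) * (rr a * rr b) = 1 := by rw [← pow_two]; exact h2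
    calc rr a * rr b = (rr a * rr b) * (rr a * rr b) * (rr b * rr a) * (rr a * rr a) * (rr b * rr b)⁻¹ := by
          rw [rr_sq ha, rr_sq hb, mul_one, inv_one, mul_one]
          rw [mul_assoc (rr a * rr b) (rr a * rr b), mul_assoc (rr a) (rr b) (rr b * rr a), ← mul_assoc (rr b) (rr b),
            rr_sq hb, one_mul, rr_sq ha, mul_one]
      _ = rr b * rr a := by rw [h3, one_mul, rr_sq ha, rr_sq hb, mul_one, inv_one, mul_one]
  have h4 : act (rr a) (act (rr b) a) = act (rr b) (act (rr a) a) := by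
    rw [← act_mul, ← act_mul, hc]
  rw [act_rr_rr ha hb, act_rr_self ha, map_neg, act_rr_left hb] at h4
  set p := bf a b with hp
  set q := bf a (act w8 b) with hq
  have h5 : (p ^ 2 + q ^ 2) • a = (2 : ℤ) • (p • b + q • act w8 b) := by
    have := sub_eq_zero.2 h4
    rw [← sub_eq_zero, ← this]
    module
  have h6 : (p ^ 2 + q ^ 2) * p = 2 * (p * 2) := by
    have := congrArg (fun x => bf x b) h5
    simp only [bf_smul_left, bf_add_left, bf_self hb, bf_w8_left, bf_self_w8] at this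
    rw [← hp] at this
    linarith
  have h7 : (p ^ 2 + q ^ 2) * q = 2 * (q * 2) := by
    have := congrArg (fun x => bf x (act w8 b)) h5
    simp only [bf_smul_left, bf_add_left, bf_w8_w8, bf_self hb, bf_self_w8] at this
    rw [← hq] at this
    linarith
  by_contra hne
  have h8 : p ^ 2 + q ^ 2 = 4 := by
    by_cases hp0 : p = 0
    · have hq0 : q ≠ 0 := fun h => hne ⟨hp0, h⟩
      have : (p ^ 2 + q ^ 2 - 4) * q = 0 := by linarith
      rcases mul_eq_zero.1 this with h | h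
      · linarith
      · exact absurd h hq0
    · have : (p ^ 2 + q ^ 2 - 4) * p = 0 := by linarith
      rcases mul_eq_zero.1 this with h | h
      · linarith
      · exact absurd h hp0
  have h9 : 2 • a = p • b + q • act w8 b := by
    rw [h8] at h5
    funext i
    have := congrFun h5 i
    simp only [Pi.smul_apply, Pi.add_apply, smul_eq_mul, nsmul_eq_mul, Nat.cast_ofNat] at this ⊢
    linarith
  apply h1
  rw [rr_of_mem hb (four_smul h9 h8), rr_sq hb]

/-- the braid relation gives `|H(a,b)| = 1` -/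
theorem norm_of_braid {a b : Fin 8 → ℤ} (ha : Rt a) (hb : Rt b) (h1 : rr a * rr b ≠ 1) (h3 : (rr a * rr b) ^ 3 = 1) :
    bf a b ^ 2 + bf a (act w8 b) ^ 2 = 1 := by
  have hc : rr a * rr b * rr a = rr b * rr a * rr b := by
    have h4 : (rr a * rr b * rr a) * (rr b * rr a * rr b) = 1 := by
      rw [← h3, pow_three]
      simp only [mul_assoc]
    have h5 : (rr b * rr a * rr b) * (rr b * rr a * rr b) = 1 := by
      calc (rr b * rr a * rr b) * (rr b * rr a * rr b) = rr b * (rr a * (rr b * rr b) * rr a) * rr b := by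
            simp only [mul_assoc]
        _ = 1 := by rw [rr_sq hb, mul_one, rr_sq ha, mul_one, rr_sq hb]
    calc rr a * rr b * rr a = (rr a * rr b * rr a) * ((rr b * rr a * rr b) * (rr b * rr a * rr b)) := by rw [h5, mul_one]
      _ = rr b * rr a * rr b := by rw [← mul_assoc, h4, one_mul]
  have h4 : act (rr a) (act (rr b) (act (rr a) a)) = act (rr b) (act (rr a) (act (rr b) a)) := by
    rw [← act_mul, ← act_mul, ← act_mul, ← act_mul, hc]
  rw [act_rr_self ha, map_neg, map_neg, act_rr_rr ha hb, map_sub, map_smul, act_rr_left hb, map_add, map_smul, map_smul,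
    act_rr_self hb, act_rr_w8 hb] at h4
  set p := bf a b with hp
  set q := bf a (act w8 b) with hq
  have h5 : (p ^ 2 + q ^ 2 - 1) • ((2 : ℤ) • a - (p • b + q • act w8 b)) = 0 := by
    have := sub_eq_zero.2 h4.symm
    rw [← this]
    module
  by_contra hne
  have h6 : (2 : ℤ) • a - (p • b + q • act w8 b) = 0 := by
    rcases smul_eq_zero.1 h5 with h | h
    · exact absurd (by linarith) hne
    · exact h
  have h7 : (2 : ℤ) • a = p • b + q • act w8 b := sub_eq_zero.1 h6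
  have h8 : p ^ 2 + q ^ 2 = 4 := by
    have := congrArg (fun x => bf x a) h7
    simp only [bf_smul_left, bf_add_left, bf_self ha, bf_comm b a, bf_comm (act w8 b) a] at this
    rw [← hp, ← hq] at this
    linarith
  have h9 : 2 • a = p • b + q • act w8 b := by
    rw [← h7]
    rfl
  apply h1
  rw [rr_of_mem hb (four_smul h9 h8), rr_sq hb]

/-- one rescaling -/
theorem exists_unit {a b : Fin 8 → ℤ} (h : bf a b ^ 2 + bf a (act w8 b) ^ 2 = 1) :
    ∃ b', (b' = b ∨ b' = -b ∨ b' = act w8 b ∨ b' = -act w8 b) ∧ bf a b' = -1 ∧ bf a (act w8 b') = 0 := by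
  have h1 : bf a b ≤ 1 := by nlinarith only [h]
  have h2 : -1 ≤ bf a b := by nlinarith only [h]
  have h3 : bf a (act w8 b) ≤ 1 := by nlinarith only [h]
  have h4 : -1 ≤ bf a (act w8 b) := by nlinarith only [h]
  have hc : (bf a b = 1 ∧ bf a (act w8 b) = 0) ∨ (bf a b = -1 ∧ bf a (act w8 b) = 0) ∨
      (bf a b = 0 ∧ bf a (act w8 b) = 1) ∨ (bf a b = 0 ∧ bf a (act w8 b) = -1) := by
    generalize bf a b = p at *
    generalize bf a (act w8 b) = q at *
    interval_cases p <;> interval_cases q <;> simp_all only [_root_.Int.reduceNeg, _root_.Std.le_refl, _root_.neg_le_self_iff, _root_.zero_le_one, _root_.even_two, _root_.Even.neg_pow, _root_.one_pow, _root_.Int.reduceAdd, _root_.OfNat.ofNat_ne_one, _root_.Left.neg_nonpos_iff, _root_.ne_eq, _root_.OfNat.ofNat_ne_zero, _root_.not_false_eq_true, _root_.zero_pow, _root_.add_zero, _root_.reduceCtorEq, _root_.and_true, _root_.and_self, _root_.neg_eq_zero, _root_.one_ne_zero, _root_.zero_ne_one,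 _root_.zero_eq_neg, _root_.or_self, _root_.or_false, _root_.or_true, _root_.zero_add, _root_.and_false]
  rcases hc with ⟨h5, h6⟩ | ⟨h5, h6⟩ | ⟨h5, h6⟩ | ⟨h5, h6⟩
  · exact ⟨-b, Or.inr (Or.inl rfl), by rw [bf_neg_right, h5], by rw [map_neg, bf_neg_right, h6, neg_zero]⟩
  · exact ⟨b, Or.inl rfl, h5, h6⟩
  · exact ⟨-act w8 b, Or.inr (Or.inr (Or.inr rfl)), by rw [bf_neg_right, h6], by rw [map_neg, w8_sq, neg_neg, h5]⟩
  · exact ⟨act w8 b, Or.inr (Or.inr (Or.inl rfl)), h6, by rw [w8_sq, bf_neg_right, h5, neg_zero]⟩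

/-- orthogonality is kept by rescaling -/
theorem orth_unit {a b a' b' : Fin 8 → ℤ} (ha : a' = a ∨ a' = -a ∨ a' = act w8 a ∨ a' = -act w8 a)
    (hb : b' = b ∨ b' = -b ∨ b' = act w8 b ∨ b' = -act w8 b) (h1 : bf a b = 0) (h2 : bf a (act w8 b) = 0) :
    bf a' b' = 0 ∧ bf a' (act w8 b') = 0 := by
  rcases ha with h | h | h | h <;> rw [h] <;> rcases hb with h' | h' | h' | h' <;> rw [h'] <;>
    simp only [bf_neg_left, bf_neg_right, bf_w8_left, w8_sq, h1, h2, map_neg, neg_zero, neg_neg, and_self]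

/-- **Piece R.** -/
theorem rescale (a : Fin 4 → Fin 8 → ℤ) (ha : ∀ i, Rt (a i)) (h1 : ∀ i j, i ≠ j → rr (a i) * rr (a j) ≠ 1)
    (h3 : ∀ i j, Adj i j → (rr (a i) * rr (a j)) ^ 3 = 1)
    (h2 : ∀ i j, i ≠ j → ¬ Adj i j → (rr (a i) * rr (a j)) ^ 2 = 1) :
    ∃ b : Fin 4 → Fin 8 → ℤ, (∀ i, b i = a i ∨ b i = -a i ∨ b i = act w8 (a i) ∨ b i = -act w8 (a i)) ∧
      (∀ i, rr (b i) = rr (a i)) ∧ Quad b := by
  have hch : ∀ i, ∃ b', (b' = a i ∨ b' = -a i ∨ b' = act w8 (a i) ∨ b' = -act w8 (a i)) ∧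
      (i = 1 → b' = a 1) ∧ (i ≠ 1 → bf (a 1) b' = -1 ∧ bf (a 1) (act w8 b') = 0) := by
    intro i
    by_cases hi : i = 1
    · subst hi
      exact ⟨a 1, Or.inl rfl, fun _ => rfl, fun h => absurd rfl h⟩
    · obtain ⟨b', h4, h5, h6⟩ := exists_unit (norm_of_braid (ha 1) (ha i) (h1 1 i (Ne.symm hi))
        (h3 1 i ⟨Ne.symm hi, Or.inl rfl⟩))
      exact ⟨b', h4, fun h => absurd h hi, fun _ => ⟨h5, h6⟩⟩
  choose b hb hb1 hb2 using hch
  have hb1' : b 1 = a 1 := hb1 1 rfl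
  have hroot : ∀ i, Rt (b i) := by
    intro i
    rcases hb i with h | h | h | h <;> rw [h]
    · exact ha i
    · exact neg_root (ha i)
    · exact w8_root (ha i)
    · exact neg_root (w8_root (ha i))
  have hna : ∀ i j, i ≠ j → ¬ Adj i j → bf (b i) (b j) = 0 ∧ bf (b i) (act w8 (b j)) = 0 := by
    intro i j hij hadj
    obtain ⟨h4, h5⟩ := orth_of_comm (ha i) (ha j) (h1 i j hij) (h2 i j hij hadj)
    exact orth_unit (hb i) (hb j) h4 h5
  have had : ∀ i j, Adj i j → bf (b i) (b j) = -1 ∧ bf (b i) (act w8 (b j)) = 0 := by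
    rintro i j ⟨hij, hi | hj⟩
    · subst hi
      rw [hb1']
      exact hb2 j (Ne.symm hij)
    · subst hj
      obtain ⟨h4, h5⟩ := hb2 i hij
      rw [hb1']
      refine ⟨by rw [bf_comm]; exact h4, ?_⟩
      rw [bf_comm, bf_w8_left, h5, neg_zero]
  refine ⟨b, hb, fun i => rr_of_mem (ha i) (hb i), hroot, fun i j hij => ?_, fun i j => ?_⟩
  · by_cases h : Adj i j
    · rw [if_pos h]
      exact (had i j h).1
    · rw [if_neg h]
      exact (hna i j hij h).1
  · by_cases hij : i = j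
    · subst hij
      exact bf_self_w8 _
    · by_cases h : Adj i j
      · exact (had i j h).2
      · exact (hna i j hij h).2

end Cfsg.Agent.H799.EE
end

-- part: H865/EE/Facts
section
/-!
# The pieces of S3384, first part (helper865; authors: helper111, helper129, helper299, helper799)
-/

set_option autoImplicit false
set_option linter.unusedSectionVars false

namespace Cfsg.Agent.H865.EE
open CoxeterSystem Subgroup Cfsg Cfsg.Lie Cfsg.Lie.ChevalleyDatum
open Cfsg.Agent.Nodes.RGDChev Cfsg.Agent.BpExc.LangFr Cfsg.Agent.GpExc.Field Cfsg.Agent.BpExc.TorCent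
  Cfsg.Agent.BpExc.TowChev Cfsg.Agent.KFacts.RgdChevCoord

universe u

theorem k1 {v : W8} (hv : v ∈ CW) (h5 : v ^ 5 = 1) (c : Fin 4 → ZMod 5)
    (h : ∀ x, ∃ m : ZMod 5, PP (act v x) = PP x + m • c) : v = 1 := H111.EE.k1 hv h5 c h

variable {k : Type} [Field k] [CharP k 2] [PerfectRing k 2] [IsAlgClosed k] (hk : LocFin k)

include hk in
theorem cent_E5 {y : ↥(chevE8.group k)} (h : ∀ t ∈ E5 k, y * t = t * y) : y ∈ TT chevE8 k := H129.EE.cent_E5 hk h

include hk in
theorem norm_E5 {y : ↥(chevE8.group k)} (hy : y ∈ GG k) (h : ∀ t ∈ E5 k, y * t * y⁻¹ ∈ E5 k) :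
    ∃ v ∈ CW, ∃ t ∈ E5 k, y = nu tp8 k v * t := H129.EE.norm_E5 hk hy h

include hk in
theorem nu_mem_GG {v : W8} (hv : v ∈ CW) : nu tp8 k v ∈ GG k := H129.EE.nu_mem_GG hv

include hk in
theorem conj_XB {v : W8} (hv : v ∈ CW) (b : Fin 4 → Fin 8 → ℤ) :
    (XB k b).map (MulAut.conj (nu tp8 k v)).toMonoidHom = XB k (fun i => act v (b i)) := H129.EE.conj_XB hk hv b

include hk in
theorem finite_GG : Finite ↥(GG k) := H129.EE.finite_GG

include hk in
theorem not_dvd_GG : ¬ 5 ^ 6 ∣ Nat.card ↥(GG k) := H129.EE.not_dvd_card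

include hk in
theorem exists_GG_equiv : Nonempty (↥(GG k) ≃* ↥(chevE8.group (ZMod 2))) := H129.EE.exists_GG_equiv

theorem conj_of {G : Type u} [Group G] [Finite G] (E : Subgroup G) (hE : Nat.card E = 625)
    (hab : ∀ a ∈ E, ∀ b ∈ E, a * b = b * a) (hG : ¬ 5 ^ 6 ∣ Nat.card G)
    (key : ∀ x : G, (∃ n : ℕ, x ^ 5 ^ n = 1) → (∀ e ∈ E, x * e * x⁻¹ ∈ E) →
      (∃ H : Subgroup G, H ≤ E ∧ Nat.card H = 125 ∧ ∀ h ∈ H, x * h = h * x) → x ∈ E)
    (A : Subgroup G) (hA : Nat.card A = 625) (hA2 : ∀ a ∈ A, ∀ b ∈ A, a * b = b * a) :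
    ∃ g : G, A.map (MulAut.conj g).toMonoidHom = E := H299.EE.conj_of E hE hab hG key A hA hA2

theorem exists_quad (a : Fin 4 → Fin 8 → ℤ) (ha : ∀ i, Rt (a i)) (h1 : ∀ i j, i ≠ j → rr (a i) * rr (a j) ≠ 1)
    (h3 : ∀ i j, Adj i j → (rr (a i) * rr (a j)) ^ 3 = 1) (h2 : ∀ i j, i ≠ j → ¬ Adj i j → (rr (a i) * rr (a j)) ^ 2 = 1) :
    ∃ b : Fin 4 → Fin 8 → ℤ, Quad b ∧ ∀ i, b i = a i ∨ b i = -a i ∨ b i = act w8 (a i) ∨ b i = -act w8 (a i) := by
  obtain ⟨b, hb, -, hq⟩ := H799.EE.rescale a ha h1 h3 h2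
  exact ⟨b, hq, hb⟩

end Cfsg.Agent.H865.EE
end

-- part: H865/EE/Asm
section
/-!
# Reflections on `E5 k` (helper865, S3384)

* `RepE k y v` : `y = nu v * t` with `v ∈ CW`, `t ∈ E5 k`; `RepE.mul`, `RepE.pow`, `RepE.eq_one`;
* `no_transv`; `refl_of` : an element acting on `E5 k` as a reflection with hyperplane `ker a` represents `rr a`.
-/

set_option autoImplicit false
set_option linter.unusedSectionVars false

namespace Cfsg.Agent.H865.EE

open CoxeterSystem Subgroup Cfsg Cfsg.Lie Cfsg.Lie.ChevalleyDatum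
open Cfsg.Agent.ChevalleyStructure Cfsg.Agent.ChevalleyStructure.Elts Cfsg.Agent.ChevalleyStructure.CoxeterGeom
  Cfsg.Agent.ChevalleyStructure.CoxeterGeomTypes Cfsg.Agent.ChevalleyStructure.NPerm
open Cfsg.Agent.Tits.Roots Cfsg.Agent.Tits.Core Cfsg.Agent.Nodes Cfsg.Agent.Nodes.SubComb Cfsg.Agent.Nodes.Reps
  Cfsg.Agent.Nodes.BNOf Cfsg.Agent.Nodes.RGDChev Cfsg.Agent.Nodes.Bruhat Cfsg.Agent.Nodes.Coroot
open Cfsg.Agent.KFacts.RgdField Cfsg.Agent.KFacts.RgdChevCoord Cfsg.Agent.BpExc.TorCent Cfsg.Agent.BpExc.TorChev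
open Cfsg.Agent.GpExc.Field Cfsg.Agent.BpExc.Tow Cfsg.Agent.BpExc.TowChev Cfsg.Agent.BpExc.Fr
  Cfsg.Agent.BpExc.LangFr Cfsg.Agent.BpExc.FamField Cfsg.Agent.BpExc.FamInst Cfsg.Agent.H129.TorusChar
  Cfsg.Agent.H795.LangT Cfsg.Agent.BpExc.FamExt Cfsg.Agent.BpExc.FamUntw Cfsg.Agent.H378.TorDual Cfsg.Agent.H378.TorChar
  Cfsg.Agent.H378.TorFin Cfsg.Agent.H378.RankOne Cfsg.Agent.H378.RootTor

attribute [local irreducible] w8

/-! ### Lattice lemmas -/

theorem act_w8_ne (a : Fin 8 → ℤ) : bf a (act w8 a) = 0 := by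
  have h1 := bf_act w8 a (act w8 a)
  rw [w8_sq, bf_neg_right, bf_comm (act w8 a) a] at h1
  omega

/-- elements of `W8` are determined by their action on the roots. -/
theorem eq_one_of_roots {v : W8} (h : ∀ a, Rt a → act v a = a) : v = 1 := by
  refine act_ext fun x => ?_
  rw [act_one, IsMC.eq_sum_sr x, map_sum]
  refine Finset.sum_congr rfl fun i _ => ?_
  rw [map_zsmul, h _ (isRoot_sr _ _ i)]

theorem eq_one_of_PP {v : W8} (h : ∀ x, PP (act v x) = PP x) : v = 1 :=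
  eq_one_of_roots fun a ha => PP_inj (rt_act ha v) ha (h a)

theorem PP_act_congr {v : W8} (hv : v ∈ CW) {x y : Fin 8 → ℤ} (h : PP x = PP y) : PP (act v x) = PP (act v y) := by
  rw [PP_eq_iff] at h ⊢
  obtain ⟨z, hz⟩ := h
  refine ⟨act v z, ?_⟩
  rw [← map_sub, hz, map_sub, map_nsmul, mem_CW.1 hv]

theorem act_rr {a : Fin 8 → ℤ} (ha : Rt a) (x : Fin 8 → ℤ) :
    act (rr a) x = x - bf x a • a - bf x (act w8 a) • act w8 a := by
  rw [rr, act_mul, act_rf (rt_act ha w8), act_rf ha, bf_sub_left, bf_smul_left, bf_comm (act w8 a) a, act_w8_ne a,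
    mul_zero, sub_zero]
  module

theorem rr_mem_CW {a : Fin 8 → ℤ} (ha : Rt a) : rr a ∈ CW := by
  rw [mem_CW]
  intro x
  rw [act_rr ha, act_rr ha, map_sub, map_sub, map_smul, map_smul, w8_sq]
  have h1 : bf (act w8 x) (act w8 a) = bf x a := bf_act _ _ _
  have h2 : bf (act w8 x) a = -bf x (act w8 a) := by
    have := bf_act w8 x (act w8 a)
    rw [w8_sq, bf_neg_right] at this
    omega
  rw [h1, h2]
  module

theorem rr_sq {a : Fin 8 → ℤ} (ha : Rt a) : rr a * rr a = 1 := by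
  refine act_ext fun x => ?_
  rw [act_mul, act_one, act_rr ha, act_rr ha]
  have h0 := act_w8_ne a
  have h2 := bf_self ha
  have h3 := bf_self (rt_act ha w8)
  rw [bf_sub_left, bf_sub_left, bf_smul_left, bf_smul_left, bf_sub_left, bf_sub_left, bf_smul_left, bf_smul_left,
    bf_comm (act w8 a) a, h0, h2, h3]
  module

theorem PP_rr {a : Fin 8 → ℤ} (ha : Rt a) (x : Fin 8 → ℤ) :
    PP (act (rr a) x) = PP x - ((bf x a + 2 * bf x (act w8 a) : ℤ) : ZMod 5) • PP a := by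
  rw [act_rr ha, map_sub, map_sub, map_zsmul, map_zsmul, PP_w8]
  have e1 : ∀ (m : ℤ) (v : V4), m • v = (m : ZMod 5) • v := fun m v => (Int.cast_smul_eq_zsmul (ZMod 5) m v).symm
  have e2 : (2 : ℕ) • PP a = (2 : ZMod 5) • PP a := by
    rw [← Nat.cast_smul_eq_nsmul (ZMod 5)]; rfl
  rw [e1, e1, e2, smul_smul, sub_sub, ← add_smul]
  congr 2
  push_cast
  ring

variable {k : Type} [Field k] [CharP k 2] [PerfectRing k 2] [IsAlgClosed k] (hk : LocFin k)

/-! ### Representatives -/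

/-- `y` represents `v ∈ CW`. -/
def RepE (k : Type) [Field k] [CharP k 2] [PerfectRing k 2] [IsAlgClosed k] (y : ↥(chevE8.group k)) (v : W8) : Prop :=
  v ∈ CW ∧ ∃ t ∈ E5 k, y = nu tp8 k v * t

theorem E5_comm {s t : ↥(chevE8.group k)} (hs : s ∈ E5 k) (ht : t ∈ E5 k) : s * t = t * s :=
  TT_comm tp8 (K := k) s hs.1 t ht.1

include hk in
theorem nu_conj_E5 {v : W8} (hv : v ∈ CW) {t : ↥(chevE8.group k)} (ht : t ∈ E5 k) :
    nu tp8 k v * t * (nu tp8 k v)⁻¹ ∈ E5 k :=
  Subgroup.mem_inf.2 ⟨nu_conj_TT hk v ht.1,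
    mul_mem (mul_mem (nu_mem_GG hk hv) (Subgroup.mem_inf.1 ht).2) (inv_mem (nu_mem_GG hk hv))⟩

include hk in
theorem RepE.conj {y : ↥(chevE8.group k)} {v : W8} (h : RepE k y v) {s : ↥(chevE8.group k)} (hs : s ∈ E5 k) :
    y * s * y⁻¹ = nu tp8 k v * s * (nu tp8 k v)⁻¹ := by
  obtain ⟨hv, t, ht, rfl⟩ := h
  rw [mul_inv_rev]
  have h1 := E5_comm ht hs
  calc nu tp8 k v * t * s * (t⁻¹ * (nu tp8 k v)⁻¹) = nu tp8 k v * (t * s) * t⁻¹ * (nu tp8 k v)⁻¹ := by group
    _ = nu tp8 k v * (s * t) * t⁻¹ * (nu tp8 k v)⁻¹ := by rw [h1]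
    _ = _ := by group

include hk in
theorem RepE.mul {y y' : ↥(chevE8.group k)} {v v' : W8} (h : RepE k y v) (h' : RepE k y' v') :
    RepE k (y * y') (v * v') := by
  obtain ⟨hv, t, ht, rfl⟩ := h
  obtain ⟨hv', t', ht', rfl⟩ := h'
  have h1 : (nu tp8 k v')⁻¹ * t * nu tp8 k v' ∈ E5 k := by
    have := nu_conj_E5 hk (inv_mem hv') ht
    rwa [map_inv, inv_inv] at this
  refine ⟨mul_mem hv hv', _, mul_mem h1 ht', ?_⟩
  rw [map_mul]
  group

include hk in
theorem RepE.pow {y : ↥(chevE8.group k)} {v : W8} (h : RepE k y v) (n : ℕ) : RepE k (y ^ n) (v ^ n) := by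
  induction n with
  | zero =>
    rw [pow_zero, pow_zero]
    exact ⟨one_mem _, 1, one_mem _, by rw [map_one, mul_one]⟩
  | succ n ih => rw [pow_succ, pow_succ]; exact ih.mul hk h

include hk in
/-- If all characters of `E5 k` agree on `x`, then `PP x = 0`. -/
theorem PP_eq_zero {x : Fin 8 → ℤ} (h : ∀ t ∈ E5 k, cX tp8 t x = 1) : PP x = 0 := by
  obtain ⟨ζ, hζ⟩ := exists_zeta k
  funext i
  obtain ⟨t, ht, h1⟩ := exists_E5 hk hζ (Pi.evalAddMonoidHom (fun _ : Fin 4 => ZMod 5) i)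
  have h2 := h t ht
  rw [h1] at h2
  apply zval_inj hζ
  rw [Pi.zero_apply, ZMod.val_zero, pow_zero]
  exact h2

theorem cX_div {t : ↥(chevE8.group k)} (ht : t ∈ TT chevE8 k) {x y : Fin 8 → ℤ} :
    cX tp8 t (x - y) = 1 ↔ cX tp8 t x = cX tp8 t y := by
  have hm := isMC_cX tp8 ht
  rw [sub_eq_add_neg, hm.add, hm.neg]
  exact mul_inv_eq_one₀ (hm.ne_zero y)

include hk in
/-- an element centralising `E5 k` represents 1. -/
theorem RepE.eq_one {y : ↥(chevE8.group k)} {v : W8} (h : RepE k y v) (hc : ∀ t ∈ E5 k, y * t = t * y) : v = 1 := by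
  refine eq_one_of_PP fun x => ?_
  rw [← sub_eq_zero, ← map_sub]
  refine PP_eq_zero hk fun t ht => ?_
  rw [cX_div ht.1]
  have h1 := cX_nu hk v ht.1 x
  rw [← h.conj hk ht, hc t ht, mul_inv_cancel_right] at h1
  exact h1

theorem RepE.mem {y : ↥(chevE8.group k)} (h : RepE k y 1) : y ∈ E5 k := by
  obtain ⟨-, t, ht, rfl⟩ := h
  rwa [map_one, one_mul]

include hk in
theorem RepE.of_norm {y : ↥(chevE8.group k)} (hy : y ∈ GG k) (h : ∀ t ∈ E5 k, y * t * y⁻¹ ∈ E5 k) :
    ∃ v, RepE k y v := by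
  obtain ⟨v, hv, t, ht, e⟩ := norm_E5 hk hy h
  exact ⟨v, hv, t, ht, e⟩

include hk in
/-- the effect on `PP` of an element centralising a hyperplane -/
theorem RepE.hyp {y : ↥(chevE8.group k)} {v : W8} (h : RepE k y v) {H : Subgroup ↥(chevE8.group k)} (hH : H ≤ E5 k)
    (hc : Nat.card ↥H = 125) (hyH : ∀ t ∈ H, y * t = t * y) :
    ∃ c : V4, c ≠ 0 ∧ (∀ x, ∃ m : ZMod 5, PP (act v x) = PP x + m • c) ∧
      ∀ x, (∀ t ∈ H, cX tp8 t x = 1) → ∃ m : ZMod 5, PP x = m • c := by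
  obtain ⟨x₀, h0, h1, h2⟩ := exists_hyp hk hH hc
  refine ⟨PP x₀, h0, fun x => ?_, h2⟩
  obtain ⟨m, hm⟩ := h2 (act v x - x) fun t ht => by
    rw [cX_div (hH ht).1]
    have h3 := cX_nu hk v (hH ht).1 x
    rw [← h.conj hk (hH ht), hyH t ht, mul_inv_cancel_right] at h3
    exact h3
  refine ⟨m, ?_⟩
  rw [← hm, ← map_add]
  congr 1
  abel

/-- powers of a transvection -/
theorem PP_pow {v : W8} {c : V4} {f : (Fin 8 → ℤ) → ZMod 5} (hf : ∀ x, PP (act v x) = PP x + f x • c)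
    (hfv : ∀ x, f (act v x) = f x) (n : ℕ) (x : Fin 8 → ℤ) : PP (act (v ^ n) x) = PP x + ((n : ZMod 5) * f x) • c := by
  induction n generalizing x with
  | zero => rw [pow_zero, act_one, Nat.cast_zero, zero_mul, zero_smul, add_zero]
  | succ n ih =>
    rw [pow_succ, act_mul, ih, hf, hfv]
    push_cast
    module

/-- **No transvections.** -/
theorem no_transv {v : W8} (hv : v ∈ CW) (h5 : ∃ n : ℕ, v ^ 5 ^ n = 1) (c : V4) (hc : c ≠ 0)
    (h : ∀ x, ∃ m : ZMod 5, PP (act v x) = PP x + m • c) : v = 1 := by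
  choose f hf using h
  have hcc : ∀ {a b : ZMod 5}, a • c = b • c → a = b := fun {a b} e => smul_left_injective _ hc e
  have hadd : ∀ x y, f (x + y) = f x + f y := fun x y => hcc (by
    have h1 := hf (x + y)
    rw [map_add, map_add, map_add, hf, hf] at h1
    have h2 : (f (x + y)) • c = PP x + f x • c + (PP y + f y • c) - (PP x + PP y) := by rw [h1]; abel
    rw [h2]; module)
  have hPP : ∀ x y, PP x = PP y → f x = f y := fun x y e => hcc (by
    have h1 := PP_act_congr hv e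
    rw [hf, hf, e] at h1
    exact add_left_cancel h1)
  obtain ⟨x₁, hx₁⟩ := PP_surj c
  -- `v` multiplies `c` by `1 + f x₁`
  have hfv : ∀ x, f (act v x) = (1 + f x₁) * f x := fun x => by
    choose s hs using PP_surj
    have e1 : PP (act v x) = PP (x + ((f x).val : ℤ) • x₁) := by
      rw [hf, map_add, map_zsmul, hx₁]
      congr 1
      rw [← Int.cast_smul_eq_zsmul (ZMod 5), Int.cast_natCast, ZMod.natCast_zmod_val]
    rw [hPP _ _ e1, hadd]
    have e2 : ∀ n : ℕ, f ((n : ℤ) • x₁) = (n : ZMod 5) * f x₁ := fun n => by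
      induction n with
      | zero =>
        rw [Nat.cast_zero, zero_smul, Nat.cast_zero, zero_mul]
        have := hadd 0 0
        rw [add_zero] at this
        exact left_eq_add.1 this
      | succ n ih => rw [Nat.cast_succ, add_smul, one_smul, hadd, ih, Nat.cast_succ]; ring
    rw [e2, ZMod.natCast_zmod_val]
    ring
  set q := 1 + f x₁ with hq
  have hfn : ∀ (n : ℕ) x, f (act (v ^ n) x) = q ^ n * f x := fun n => by
    induction n with
    | zero => intro x; rw [pow_zero, act_one, pow_zero, one_mul]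
    | succ n ih => intro x; rw [pow_succ, act_mul, ih, hfv, pow_succ]; ring
  obtain ⟨n, hn⟩ := h5
  by_cases h0 : ∀ x, f x = 0
  · exact eq_one_of_PP fun x => by rw [hf, h0, zero_smul, add_zero]
  · push Not at h0
    obtain ⟨x, hx⟩ := h0
    have h1 := hfn (5 ^ n) x
    rw [hn, act_one] at h1
    have h2 : q ^ 5 ^ n = 1 := by
      have := mul_right_cancel₀ hx (h1.symm.trans (one_mul _).symm)
      exact this
    have h3 : q = 1 := by
      have h4 : ∀ m : ℕ, q ^ 5 ^ m = q := fun m => by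
        induction m with
        | zero => rw [pow_zero, pow_one]
        | succ m ih => rw [pow_succ, pow_mul, ih, ZMod.pow_card]
      rw [← h4 n, h2]
    have h5 : v ^ 5 = 1 := eq_one_of_PP fun x => by
      rw [PP_pow hf (fun x => by rw [hfv, h3, one_mul]) 5 x]
      have : ((5 : ℕ) : ZMod 5) = 0 := by decide
      rw [this, zero_mul, zero_smul, add_zero]
    exact k1 hv h5 c fun x => ⟨f x, hf x⟩

/-- **Reflections.** -/
theorem refl_of {v : W8} (hv : v ∈ CW) (h2 : v ^ 2 = 1) (h1 : v ≠ 1) {a : Fin 8 → ℤ} (ha : Rt a)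
    (h : ∀ x, ∃ m : ZMod 5, PP (act v x) = PP x + m • PP a) : v = rr a := by
  choose f hf using h
  have hc := PP_ne_zero ha
  have hcc : ∀ {m n : ZMod 5}, m • PP a = n • PP a → m = n := fun {m n} e => smul_left_injective _ hc e
  have hadd : ∀ x y, f (x + y) = f x + f y := fun x y => hcc (by
    have h1 := hf (x + y)
    rw [map_add, map_add, map_add, hf, hf] at h1
    have h2 : (f (x + y)) • PP a = PP x + f x • PP a + (PP y + f y • PP a) - (PP x + PP y) := by rw [h1]; abel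
    rw [h2]; module)
  have hPP : ∀ x y, PP x = PP y → f x = f y := fun x y e => hcc (by
    have h1 := PP_act_congr hv e
    rw [hf, hf, e] at h1
    exact add_left_cancel h1)
  have hmul : ∀ (m : ℤ) x, f (m • x) = (m : ZMod 5) * f x := fun m x => hcc (by
    have h1 := hf (m • x)
    rw [map_smul, map_zsmul, map_zsmul, hf] at h1
    have h2 : f (m • x) • PP a = m • (PP x + f x • PP a) - m • PP x := by rw [h1]; abel
    rw [h2, ← Int.cast_smul_eq_zsmul (ZMod 5), ← Int.cast_smul_eq_zsmul (ZMod 5)]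
    module)
  have hfv : ∀ x, f (act v x) = (1 + f a) * f x := fun x => by
    have e1 : PP (act v x) = PP (x + ((f x).val : ℤ) • a) := by
      rw [hf, map_add, map_zsmul]
      congr 1
      rw [← Int.cast_smul_eq_zsmul (ZMod 5), Int.cast_natCast, ZMod.natCast_zmod_val]
    rw [hPP _ _ e1, hadd, hmul, Int.cast_natCast, ZMod.natCast_zmod_val]
    ring
  -- `f a = -2`
  obtain ⟨x, hx⟩ : ∃ x, f x ≠ 0 := by
    by_contra h0
    push Not at h0
    exact h1 (eq_one_of_PP fun x => by rw [hf, h0, zero_smul, add_zero])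
  have h3 : f a = -2 := by
    have e1 := hf (act v x)
    rw [← act_mul, ← sq, h2, act_one, hf x, hfv, add_assoc, ← add_smul] at e1
    have e2 : (0 : ZMod 5) • PP a = (f x + (1 + f a) * f x) • PP a := by
      rw [zero_smul]; exact (left_eq_add.1 e1).symm
    have e3 := hcc e2
    have e4 : (2 + f a) * f x = 0 := by rw [e3]; ring
    rcases mul_eq_zero.1 e4 with e5 | e5
    · exact eq_neg_of_add_eq_zero_right e5
    · exact absurd e5 hx
  -- `u = v * rr a`
  have hu : v * rr a = 1 := by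
    let g : (Fin 8 → ℤ) → ZMod 5 := fun x => ((bf x a + 2 * bf x (act w8 a) : ℤ) : ZMod 5)
    have hg : ∀ x, PP (act (v * rr a) x) = PP x + (f x + g x) • PP a := fun x => by
      rw [act_mul, hf]
      have e1 : PP (act (rr a) x) = PP (x + (-(bf x a + 2 * bf x (act w8 a))) • a) := by
        rw [PP_rr ha, map_add, map_zsmul, ← Int.cast_smul_eq_zsmul (ZMod 5), Int.cast_neg]
        module
      rw [hPP _ _ e1, hadd, hmul, PP_rr ha, h3]
      show PP x - g x • PP a + (f x + ((-(bf x a + 2 * bf x (act w8 a)) : ℤ) : ZMod 5) * -2) • PP a = _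
      have e2 : ((-(bf x a + 2 * bf x (act w8 a)) : ℤ) : ZMod 5) = - g x := by
        show _ = - ((bf x a + 2 * bf x (act w8 a) : ℤ) : ZMod 5)
        rw [Int.cast_neg]
      rw [e2]
      module
    have hcom : v * rr a ∈ CW := mul_mem hv (rr_mem_CW ha)
    have hga : f a + g a = 0 := by
      show f a + ((bf a a + 2 * bf a (act w8 a) : ℤ) : ZMod 5) = 0
      rw [h3, bf_self ha, act_w8_ne a]
      decide
    -- additivity of `f + g`
    have hgadd : ∀ x y, g (x + y) = g x + g y := fun x y => by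
      show ((bf (x + y) a + 2 * bf (x + y) (act w8 a) : ℤ) : ZMod 5) =
        ((bf x a + 2 * bf x (act w8 a) : ℤ) : ZMod 5) + ((bf y a + 2 * bf y (act w8 a) : ℤ) : ZMod 5)
      rw [bf_add_left, bf_add_left]
      push_cast
      ring
    have hPP' : ∀ x y, PP x = PP y → f x + g x = f y + g y := fun x y e => hcc (by
      have h1 := PP_act_congr hcom e
      rw [hg, hg, e] at h1
      exact add_left_cancel h1)
    have hmul' : ∀ m : ℕ, f ((m : ℤ) • a) + g ((m : ℤ) • a) = 0 := fun m => by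
      have e1 : g ((m : ℤ) • a) = (m : ZMod 5) * g a := by
        show ((bf ((m : ℤ) • a) a + 2 * bf ((m : ℤ) • a) (act w8 a) : ℤ) : ZMod 5) = _ * ((_ : ℤ) : ZMod 5)
        rw [bf_smul_left, bf_smul_left]
        push_cast
        ring
      rw [hmul, e1, Int.cast_natCast, ← mul_add, hga, mul_zero]
    have hh : ∀ x, f (act (v * rr a) x) + g (act (v * rr a) x) = f x + g x := fun x => by
      have e1 : PP (act (v * rr a) x) = PP (x + ((f x + g x).val : ℤ) • a) := by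
        rw [hg, map_add, map_zsmul, ← Int.cast_smul_eq_zsmul (ZMod 5) ((f x + g x).val : ℤ), Int.cast_natCast,
          ZMod.natCast_zmod_val]
      rw [hPP' _ _ e1, hadd, hgadd]
      have e2 := hmul' (f x + g x).val
      linear_combination e2
    have h5 : (v * rr a) ^ 5 = 1 := eq_one_of_PP fun x => by
      rw [PP_pow hg hh 5 x]
      have : ((5 : ℕ) : ZMod 5) = 0 := by decide
      rw [this, zero_mul, zero_smul, add_zero]
    exact k1 hcom h5 (PP a) fun x => ⟨_, hg x⟩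
  calc v = v * (rr a * rr a) := by rw [rr_sq ha, mul_one]
    _ = rr a := by rw [← mul_assoc, hu, one_mul]

end Cfsg.Agent.H865.EE
end

private theorem dce_c3558b9c311a : _root_.True := by
  try have : _root_.True := by simp only [_root_.Cfsg.Agent.H865.EE.rr.eq_1]
  exact _root_.True.intro
end

-- part: H865/EE/Main1
section
prune_inst 0x7f091003344044000000000000250001c0284000000004880008800020002808c4000000020000001000200000000010040000000200000000000000000000000000800000600000000000000000080400000000000000000000000000000000000000000000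
set_option linter.all false
open scoped Cfsg.Agent.FastGrp

-- part: H96/EE/Classes
section
/-!
# S3384, piece J: classes of subgroups with `F*(H) = Ω`

`G` finite, `Ω` simple, two classes of subgroups isomorphic to `Ω`, with `|N(X₁) : X₁| = 12`, `|N(X₂) : X₂| = 4` and
trivial centralisers: the numbers of classes of the subgroups `H` with `F*(H) ≅ Ω` of index 3, 4, 12.
-/

set_option autoImplicit false
set_option linter.unusedSectionVars false

namespace Cfsg.Agent.H96.EE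

open Subgroup Cfsg Cfsg.Agent.SignalizersComponents

universe u v

theorem genFit_eq {A : Type*} [Group A] [Finite A] {N : Subgroup A} (hN : N.Normal) (hs : IsSimpleGroup N)
    (hna : ¬ IsMulCommutative N) (hc : centralizer (N : Set A) = ⊥) : generalizedFittingSubgroup A = N := by
  have hNc : IsComponent N := ⟨hN.isSubnormal, IntrinsicDiag.quasisimple_of_simple hs hna⟩
  have hNl : N ≤ layer A := Components.component_le_layer hNc
  have hl : layer A ≤ N := by
    rw [Components.layer_le_iff]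
    intro L hL
    by_contra hne
    have hLN : L ≠ N := fun h => hne (h ▸ le_rfl)
    have h1 := Components.component_le_centralizer_of_ne hL hNc hLN
    rw [hc, le_bot_iff] at h1
    exact Components.component_ne_bot hL h1
  have hf : fittingSubgroup A ≤ N := by
    have h1 : fittingSubgroup A ≤ centralizer (N : Set A) := by
      rw [le_centralizer_iff]
      exact hNl.trans Components.layer_le_centralizer_fitting
    rw [hc, le_bot_iff] at h1
    rw [h1]; exact bot_le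
  exact le_antisymm (sup_le hl hf) (hNl.trans le_sup_left)

variable {G : Type u} [Group G]

/-- conjugate subgroups -/
abbrev cj (g : G) (H : Subgroup G) : Subgroup G := H.map (MulAut.conj g).toMonoidHom

theorem cj_cj (g h : G) (H : Subgroup G) : cj g (cj h H) = cj (g * h) H := by
  unfold cj
  rw [map_map, map_mul]
  rfl

theorem cj_one (H : Subgroup G) : cj 1 H = H := by
  unfold cj
  rw [map_one]
  exact map_id H

theorem cj_inv_cj (g : G) (H : Subgroup G) : cj g⁻¹ (cj g H) = H := by rw [cj_cj, inv_mul_cancel, cj_one]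

theorem mem_cj {g : G} {H : Subgroup G} {x : G} : x ∈ cj g H ↔ g⁻¹ * x * g ∈ H := by
  constructor
  · rintro ⟨y, hy, rfl⟩
    have e : g⁻¹ * (MulAut.conj g).toMonoidHom y * g = y := by
      show g⁻¹ * (g * y * g⁻¹) * g = y
      group
    rw [e]; exact hy
  · intro h
    refine ⟨_, h, ?_⟩
    show g * (g⁻¹ * x * g) * g⁻¹ = x
    group

theorem cj_mono {g : G} {H K : Subgroup G} (h : H ≤ K) : cj g H ≤ cj g K := Subgroup.map_mono h

theorem cj_normalizer (g : G) (X : Subgroup G) : cj g (normalizer (X : Set G)) ≤ normalizer (cj g X : Set G) := by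
  intro x hx
  rw [mem_cj] at hx
  rw [mem_normalizer_iff]
  intro y
  have h1 := (mem_normalizer_iff.1 hx) (g⁻¹ * y * g)
  change y ∈ cj g X ↔ x * y * x⁻¹ ∈ cj g X
  rw [mem_cj, mem_cj]
  have e : g⁻¹ * (x * y * x⁻¹) * g = g⁻¹ * x * g * (g⁻¹ * y * g) * (g⁻¹ * x * g)⁻¹ := by group
  rw [e]
  exact h1

/-- `X ≤ H ≤ N(X)` and `|H : X| = m` -/
structure Sit (m : ℕ) (X H : Subgroup G) : Prop where
  le : X ≤ H
  nor : H ≤ normalizer (X : Set G)
  idx : X.relIndex H = m

theorem Sit.cj {m : ℕ} {X H : Subgroup G} (h : Sit m X H) (g : G) : Sit m (cj g X) (cj g H) where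
  le := cj_mono h.le
  nor := (cj_mono h.nor).trans (cj_normalizer g X)
  idx := by
    rw [← h.idx]
    exact relIndex_map_map_of_injective X H (MulAut.conj g).injective

/-! ### Sylow subgroups of the quotient -/

theorem ex_conj {Q : Type*} [Group Q] [Finite Q] {p k n : ℕ} (hp : p.Prime) (hn : Nat.card Q = n)
    (h : n.factorization p = k) : (∃ K : Subgroup Q, Nat.card K = p ^ k) ∧
      ∀ K K' : Subgroup Q, Nat.card K = p ^ k → Nat.card K' = p ^ k →
        ∃ q : Q, K.map (MulAut.conj q).toMonoidHom = K' := by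
  have := Fact.mk hp
  have hk : (Nat.card Q).factorization p = k := by rw [hn, h]
  constructor
  · obtain ⟨P⟩ : Nonempty (Sylow p Q) := inferInstance
    exact ⟨P, by rw [P.card_eq_multiplicity, hk]⟩
  · intro K K' hK hK'
    obtain ⟨q, hq⟩ := MulAction.exists_smul_eq Q (Sylow.ofCard K (by rw [hK, hk])) (Sylow.ofCard K' (by rw [hK', hk]))
    exact ⟨q, congrArg (fun P : Sylow p Q => (P : Subgroup Q)) hq⟩

theorem ex_conj_top {Q : Type*} [Group Q] [Finite Q] {n : ℕ} (hn : Nat.card Q = n) :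
    (∃ K : Subgroup Q, Nat.card K = n) ∧
      ∀ K K' : Subgroup Q, Nat.card K = n → Nat.card K' = n →
        ∃ q : Q, K.map (MulAut.conj q).toMonoidHom = K' := by
  refine ⟨⟨⊤, by rw [card_top, hn]⟩, fun K K' hK hK' => ⟨1, ?_⟩⟩
  rw [card_eq_iff_eq_top K |>.1 (hK.trans hn.symm), card_eq_iff_eq_top K' |>.1 (hK'.trans hn.symm), map_one]
  exact map_id _

section

variable [Finite G] (X : Subgroup G)

/-- the quotient `N(X) / X` -/
abbrev NQ : Type u := ↥(normalizer (X : Set G)) ⧸ X.subgroupOf (normalizer (X : Set G))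

instance : (X.subgroupOf (normalizer (X : Set G))).Normal := normal_in_normalizer

theorem card_NQ {n : ℕ} (hn : Nat.card ↥(normalizer (X : Set G)) = n * Nat.card X) : Nat.card (NQ X) = n := by
  have h1 := (X.subgroupOf (normalizer (X : Set G))).card_mul_index
  have h2 : Nat.card ↥(X.subgroupOf (normalizer (X : Set G))) = Nat.card X :=
    Nat.card_congr (subgroupOfEquivOfLe le_normalizer).toEquiv
  rw [h2, hn, index_eq_card, mul_comm n] at h1
  exact Nat.eq_of_mul_eq_mul_left Nat.card_pos h1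

variable {X}

theorem relIndex_sub {L : Subgroup ↥(normalizer (X : Set G))} :
    X.relIndex (L.map (normalizer (X : Set G)).subtype) = (X.subgroupOf (normalizer (X : Set G))).relIndex L := by
  have h := relIndex_map_map_of_injective (X.subgroupOf (normalizer (X : Set G))) L
    (normalizer (X : Set G)).subtype_injective
  have hX : (X.subgroupOf (normalizer (X : Set G))).map (normalizer (X : Set G)).subtype = X := by
    rw [subgroupOf_map_subtype, inf_eq_left.2 le_normalizer]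
  rwa [hX] at h

theorem card_map_mk {L : Subgroup ↥(normalizer (X : Set G))} :
    Nat.card ↥(L.map (QuotientGroup.mk' (X.subgroupOf (normalizer (X : Set G))))) =
      (X.subgroupOf (normalizer (X : Set G))).relIndex L := by
  have h := relIndex_comap (⊥ : Subgroup (NQ X)) (QuotientGroup.mk' (X.subgroupOf (normalizer (X : Set G)))) L
  rw [MonoidHom.comap_bot, QuotientGroup.ker_mk', relIndex_bot_left] at h
  exact h.symm

theorem exists_sit (K : Subgroup (NQ X)) : ∃ H : Subgroup G, Sit (Nat.card K) X H := by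
  let N := normalizer (X : Set G)
  let π := QuotientGroup.mk' (X.subgroupOf N)
  have hk : X.subgroupOf N ≤ K.comap π := by
    intro y hy
    rw [mem_comap, show π y = 1 from (QuotientGroup.eq_one_iff y).2 hy]
    exact one_mem _
  refine ⟨(K.comap π).map N.subtype, ?_, map_subtype_le _, ?_⟩
  · have h1 : (X.subgroupOf N).map N.subtype = X := by
      rw [subgroupOf_map_subtype, inf_eq_left.2 le_normalizer]
    exact h1.symm.le.trans (Subgroup.map_mono hk)
  · rw [relIndex_sub, ← card_map_mk]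
    rw [map_comap_eq_self_of_surjective (QuotientGroup.mk'_surjective _)]

theorem Sit.conj {m : ℕ} {H H' : Subgroup G} (h : Sit m X H) (h' : Sit m X H')
    (hc : ∀ K K' : Subgroup (NQ X), Nat.card K = m → Nat.card K' = m →
        ∃ q, K.map (MulAut.conj q).toMonoidHom = K') : ∃ g : G, EE.cj g H = H' := by
  let N := normalizer (X : Set G)
  let π := QuotientGroup.mk' (X.subgroupOf N)
  have key : ∀ {H : Subgroup G}, Sit m X H → Nat.card ↥((H.subgroupOf N).map π) = m := by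
    intro H h
    rw [card_map_mk, ← relIndex_sub, subgroupOf_map_subtype, inf_eq_left.2 h.nor, h.idx]
  have mem : ∀ {H : Subgroup G}, Sit m X H → ∀ y : N, π y ∈ (H.subgroupOf N).map π ↔ (y : G) ∈ H := by
    intro H h y
    constructor
    · rintro ⟨z, hz, he⟩
      have h1 : z⁻¹ * y ∈ X.subgroupOf N := QuotientGroup.eq.1 he
      have h2 : (z : G)⁻¹ * y ∈ H := h.le h1
      have h3 : (z : G) ∈ H := hz
      have := mul_mem h3 h2
      rwa [mul_inv_cancel_left] at this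
    · intro hy
      exact ⟨y, hy, rfl⟩
  obtain ⟨q, hq⟩ := hc _ _ (key h) (key h')
  obtain ⟨n, rfl⟩ := QuotientGroup.mk'_surjective _ q
  refine ⟨n, ?_⟩
  have hle : EE.cj (n : G) H ≤ N := by
    intro x hx
    rw [mem_cj] at hx
    have h1 := h.nor hx
    have h2 : x = (n : G) * ((n : G)⁻¹ * x * n) * (n : G)⁻¹ := by group
    rw [h2]
    exact mul_mem (mul_mem n.2 h1) (inv_mem n.2)
  have step : ∀ x : N, (x : G) ∈ EE.cj (n : G) H ↔ (x : G) ∈ H' := by
    intro x
    rw [← mem h' x, ← hq, mem_cj]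
    have h1 := mem h (n⁻¹ * x * n)
    rw [show ((n⁻¹ * x * n : N) : G) = (n : G)⁻¹ * x * n from rfl] at h1
    rw [← h1]
    constructor
    · intro h2
      refine ⟨_, h2, ?_⟩
      show π n * π (n⁻¹ * x * n) * (π n)⁻¹ = π x
      rw [map_mul, map_mul, map_inv]
      group
    · rintro ⟨y, hy, he⟩
      have he' : π n * y * (π n)⁻¹ = π x := he
      have h3 : π (n⁻¹ * x * n) = y := by
        rw [map_mul, map_mul, map_inv, ← he']
        group
      rw [h3]
      exact hy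
  ext x
  constructor
  · intro hx
    exact (step ⟨x, hle hx⟩).1 hx
  · intro hx
    exact (step ⟨x, h'.nor hx⟩).2 hx

end

/-! ### The generalized Fitting subgroup -/

theorem Sit.fstar [Finite G] {m : ℕ} {X H : Subgroup G} (h : Sit m X H) (hs : IsSimpleGroup X)
    (hna : ¬ IsMulCommutative X) (hc : centralizer (X : Set G) = ⊥) :
    generalizedFittingSubgroup H = X.subgroupOf H := by
  have e : X.subgroupOf H ≃* X := subgroupOfEquivOfLe h.le
  have hs' : IsSimpleGroup (X.subgroupOf H) := e.isSimpleGroup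
  apply genFit_eq
  · refine ⟨fun n hn g => ?_⟩
    exact (mem_normalizer_iff.1 (h.nor g.2) n).1 hn
  · exact hs'
  · intro hcomm
    apply hna
    refine ⟨⟨fun a b => ?_⟩⟩
    apply e.symm.injective
    rw [map_mul, map_mul]
    exact hcomm.1.1 _ _
  · rw [eq_bot_iff]
    intro y hy
    have h1 : (y : G) ∈ centralizer (X : Set G) := by
      rw [mem_centralizer_iff]
      intro x hx
      have h2 := (mem_centralizer_iff.1 hy) ⟨x, h.le hx⟩ (mem_subgroupOf.2 hx)
      exact congrArg Subtype.val h2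
    rw [hc, mem_bot] at h1
    exact mem_bot.2 (Subtype.ext h1)

theorem sit_of_fstar [Finite G] (H : Subgroup G) :
    Sit (generalizedFittingSubgroup H).index ((generalizedFittingSubgroup H).map H.subtype) H where
  le := map_subtype_le _
  nor := by
    have hn : (generalizedFittingSubgroup H).Normal := Cfsg.Agent.Lib.GenFitting.genFitting_normal
    intro g hg
    rw [mem_normalizer_iff]
    have key : ∀ g ∈ H, ∀ x ∈ (generalizedFittingSubgroup H).map H.subtype,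
        g * x * g⁻¹ ∈ (generalizedFittingSubgroup H).map H.subtype := by
      rintro g hg x ⟨y, hy, rfl⟩
      exact ⟨(⟨g, hg⟩ * y * ⟨g, hg⟩⁻¹ :), hn.conj_mem _ hy _, rfl⟩
    intro x
    constructor
    · exact key g hg x
    · intro hx
      have := key g⁻¹ (inv_mem hg) _ hx
      have e : g⁻¹ * (g * x * g⁻¹) * g⁻¹⁻¹ = x := by group
      rwa [e] at this
  idx := by
    rw [← relIndex_top_right]
    have := relIndex_map_map_of_injective (generalizedFittingSubgroup H) ⊤ H.subtype_injective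
    rwa [← MonoidHom.range_eq_map, range_subtype] at this

/-! ### The main theorem -/

section

variable [Finite G] {Ω : Type v} [Group Ω]

/-- the hypotheses on a representative -/
structure Rep (Ω : Type v) [Group Ω] (n : ℕ) (X : Subgroup G) : Prop where
  iso : Nonempty (X ≃* Ω)
  cen : centralizer (X : Set G) = ⊥
  nor : Nat.card ↥(normalizer (X : Set G)) = n * Nat.card X

theorem cen_cj {X : Subgroup G} {g : G} (h : centralizer (cj g X : Set G) = ⊥) : centralizer (X : Set G) = ⊥ := by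
  rw [eq_bot_iff]
  intro y hy
  have h1 : g * y * g⁻¹ ∈ centralizer (cj g X : Set G) := by
    rw [mem_centralizer_iff]
    rintro x ⟨z, hz, rfl⟩
    have h2 := (mem_centralizer_iff.1 hy) z hz
    show g * z * g⁻¹ * (g * y * g⁻¹) = g * y * g⁻¹ * (g * z * g⁻¹)
    calc g * z * g⁻¹ * (g * y * g⁻¹) = g * (z * y) * g⁻¹ := by group
      _ = g * (y * z) * g⁻¹ := by rw [h2]
      _ = _ := by group
  rw [h, mem_bot] at h1
  rw [mem_bot]
  have h3 : y = g⁻¹ * (g * y * g⁻¹) * g := by group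
  rw [h3, h1]
  group

/-- the data of the two classes -/
structure Two (Ω : Type v) [Group Ω] (X₁ X₂ : Subgroup G) : Prop where
  simple : IsSimpleGroup Ω
  na : ∃ a b : Ω, a * b ≠ b * a
  r1 : Rep Ω 12 X₁
  r2 : Rep Ω 4 X₂
  all : ∀ X : Subgroup G, Nonempty (X ≃* Ω) → (∃ g : G, cj g X = X₁) ∨ ∃ g : G, cj g X = X₂
  ne : ∀ g : G, cj g X₁ ≠ X₂

namespace Two

variable {X₁ X₂ : Subgroup G} (t : Two Ω X₁ X₂)
include t

theorem cen {X : Subgroup G} (e : Nonempty (X ≃* Ω)) : centralizer (X : Set G) = ⊥ := by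
  rcases t.all X e with ⟨g, hg⟩ | ⟨g, hg⟩
  · exact cen_cj (g := g) (by rw [hg]; exact t.r1.cen)
  · exact cen_cj (g := g) (by rw [hg]; exact t.r2.cen)

theorem fstar {m : ℕ} {X H : Subgroup G} (e : Nonempty (X ≃* Ω)) (h : Sit m X H) :
    generalizedFittingSubgroup H = X.subgroupOf H := by
  obtain ⟨f⟩ := e
  have := t.simple
  have hs : IsSimpleGroup X := f.isSimpleGroup
  refine h.fstar hs ?_ (t.cen ⟨f⟩)
  intro hcomm
  obtain ⟨a, b, hab⟩ := t.na
  apply hab
  have h1 := hcomm.1.1 (f.symm a) (f.symm b)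
  have h2 := congrArg f h1
  simpa only [_root_.map_mul, _root_.MulEquiv.apply_symm_apply] using h2

/-- the predicate -/
theorem pred_iff {m : ℕ} {H : Subgroup G} : (Nonempty (generalizedFittingSubgroup H ≃* Ω) ∧
    (generalizedFittingSubgroup H).index = m) ↔ ∃ X : Subgroup G, Nonempty (X ≃* Ω) ∧ Sit m X H := by
  constructor
  · rintro ⟨⟨e⟩, rfl⟩
    exact ⟨_, ⟨((generalizedFittingSubgroup H).equivMapOfInjective H.subtype H.subtype_injective).symm.trans e⟩,
      sit_of_fstar H⟩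
  · rintro ⟨X, ⟨e⟩, h⟩
    have h1 := t.fstar ⟨e⟩ h
    rw [h1]
    exact ⟨⟨(subgroupOfEquivOfLe h.le).trans e⟩, h.idx⟩

theorem eq_of_sit {m : ℕ} {X Y H : Subgroup G} (eX : Nonempty (X ≃* Ω)) (eY : Nonempty (Y ≃* Ω)) (hX : Sit m X H)
    (hY : Sit m Y H) : X = Y := by
  have h1 := (t.fstar eX hX).symm.trans (t.fstar eY hY)
  have h2 := congrArg (Subgroup.map H.subtype) h1
  rwa [subgroupOf_map_subtype, subgroupOf_map_subtype, inf_eq_left.2 hX.le, inf_eq_left.2 hY.le] at h2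

/-- the case where only `X₁` counts -/
theorem one {m : ℕ} (h4 : ¬ m ∣ 4) (hex : ∃ K : Subgroup (NQ X₁), Nat.card K = m)
    (hc : ∀ K K' : Subgroup (NQ X₁), Nat.card K = m → Nat.card K' = m →
        ∃ q, K.map (MulAut.conj q).toMonoidHom = K') :
    ∃ H₁ : Subgroup G, (Nonempty (generalizedFittingSubgroup H₁ ≃* Ω) ∧
      (generalizedFittingSubgroup H₁).index = m) ∧ ∀ H : Subgroup G, (Nonempty (generalizedFittingSubgroup H ≃* Ω) ∧
      (generalizedFittingSubgroup H).index = m) → ∃ g : G, cj g H = H₁ := by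
  obtain ⟨K, hK⟩ := hex
  obtain ⟨H₁, h1⟩ := exists_sit K
  rw [hK] at h1
  refine ⟨H₁, t.pred_iff.2 ⟨X₁, t.r1.iso, h1⟩, fun H hH => ?_⟩
  obtain ⟨X, e, hX⟩ := t.pred_iff.1 hH
  rcases t.all X e with ⟨g, hg⟩ | ⟨g, hg⟩
  · have h2 := hX.cj g
    rw [hg] at h2
    obtain ⟨n, hn⟩ := h2.conj h1 hc
    exact ⟨n * g, by rw [← cj_cj, hn]⟩
  · exfalso
    have h2 := hX.cj g
    rw [hg] at h2
    apply h4
    have h3 : m ∣ Nat.card (NQ X₂) := by
      rw [← h2.idx]
      have h5 : X₂.relIndex (cj g H) ∣ X₂.relIndex (normalizer (X₂ : Set G)) := by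
        rw [← relIndex_mul_relIndex X₂ (cj g H) (normalizer (X₂ : Set G)) h2.le h2.nor]
        exact dvd_mul_right _ _
      have h6 : Nat.card (NQ X₂) = X₂.relIndex (normalizer (X₂ : Set G)) := by
        rw [relIndex, index_eq_card]
      rw [h6]; exact h5
    rwa [card_NQ X₂ t.r2.nor] at h3

/-- the case where both count -/
theorem two {m : ℕ} (hex : ∃ K : Subgroup (NQ X₁), Nat.card K = m)
    (hc : ∀ K K' : Subgroup (NQ X₁), Nat.card K = m → Nat.card K' = m →
        ∃ q, K.map (MulAut.conj q).toMonoidHom = K') (hex' : ∃ K : Subgroup (NQ X₂), Nat.card K = m)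
    (hc' : ∀ K K' : Subgroup (NQ X₂), Nat.card K = m → Nat.card K' = m →
        ∃ q, K.map (MulAut.conj q).toMonoidHom = K') :
    ∃ H₁ H₂ : Subgroup G, (Nonempty (generalizedFittingSubgroup H₁ ≃* Ω) ∧
      (generalizedFittingSubgroup H₁).index = m) ∧ (Nonempty (generalizedFittingSubgroup H₂ ≃* Ω) ∧
      (generalizedFittingSubgroup H₂).index = m) ∧ (∀ g, cj g H₁ ≠ H₂) ∧
      ∀ H : Subgroup G, (Nonempty (generalizedFittingSubgroup H ≃* Ω) ∧
      (generalizedFittingSubgroup H).index = m) → (∃ g : G, cj g H = H₁) ∨ ∃ g : G, cj g H = H₂ := by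
  obtain ⟨K, hK⟩ := hex
  obtain ⟨H₁, h1⟩ := exists_sit K
  rw [hK] at h1
  obtain ⟨K', hK'⟩ := hex'
  obtain ⟨H₂, h2⟩ := exists_sit K'
  rw [hK'] at h2
  refine ⟨H₁, H₂, t.pred_iff.2 ⟨X₁, t.r1.iso, h1⟩, t.pred_iff.2 ⟨X₂, t.r2.iso, h2⟩, ?_, fun H hH => ?_⟩
  · intro g hg
    have h3 := h1.cj g
    rw [hg] at h3
    obtain ⟨e⟩ := t.r1.iso
    have e' : Nonempty (cj g X₁ ≃* Ω) := ⟨(X₁.equivMapOfInjective _ (MulAut.conj g).injective).symm.trans e⟩
    exact t.ne g (t.eq_of_sit e' t.r2.iso h3 h2)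
  · obtain ⟨X, e, hX⟩ := t.pred_iff.1 hH
    rcases t.all X e with ⟨g, hg⟩ | ⟨g, hg⟩
    · have h3 := hX.cj g
      rw [hg] at h3
      obtain ⟨n, hn⟩ := h3.conj h1 hc
      exact Or.inl ⟨n * g, by rw [← cj_cj, hn]⟩
    · have h3 := hX.cj g
      rw [hg] at h3
      obtain ⟨n, hn⟩ := h3.conj h2 hc'
      exact Or.inr ⟨n * g, by rw [← cj_cj, hn]⟩

end Two

end

theorem fact_eq {p k n : ℕ} (hp : p.Prime) (hn : n ≠ 0) (h : p ^ k ∣ n) (h' : ¬ p ^ (k + 1) ∣ n) :
    n.factorization p = k := by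
  have h1 := (hp.pow_dvd_iff_le_factorization hn).1 h
  have h2 := mt (hp.pow_dvd_iff_le_factorization hn).2 h'
  omega

/-- **Piece J of S3384.** -/
theorem classes_of {G : Type u} [Group G] [Finite G] {Ω : Type v} [Group Ω] (hs : IsSimpleGroup Ω)
    (hn : ∃ a b : Ω, a * b ≠ b * a) (X₁ X₂ : Subgroup G) (h1 : Nonempty (X₁ ≃* Ω)) (h2 : Nonempty (X₂ ≃* Ω))
    (hcl : ∀ X : Subgroup G, Nonempty (X ≃* Ω) → (∃ g : G, X.map (MulAut.conj g).toMonoidHom = X₁) ∨
      ∃ g : G, X.map (MulAut.conj g).toMonoidHom = X₂)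
    (hne : ∀ g : G, X₁.map (MulAut.conj g).toMonoidHom ≠ X₂)
    (hc1 : Subgroup.centralizer (X₁ : Set G) = ⊥) (hc2 : Subgroup.centralizer (X₂ : Set G) = ⊥)
    (hn1 : Nat.card ↥(Subgroup.normalizer (X₁ : Set G)) = 12 * Nat.card X₁)
    (hn2 : Nat.card ↥(Subgroup.normalizer (X₂ : Set G)) = 4 * Nat.card X₂)
    (classes : (Subgroup G → Prop) → ℕ → Prop)
    (hclasses : ∀ (P : Subgroup G → Prop) (k : ℕ), classes P k ↔
      ∃ f : Fin k → Subgroup G, (∀ i, P (f i)) ∧
        (∀ i j, (∃ g : G, (f i).map (MulAut.conj g).toMonoidHom = f j) → i = j) ∧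
        (∀ H, P H → ∃ (i : Fin k) (g : G), H.map (MulAut.conj g).toMonoidHom = f i)) :
    classes (fun H => Nonempty (H ≃* Ω)) 2 ∧
    classes (fun H => Nonempty (Cfsg.generalizedFittingSubgroup H ≃* Ω) ∧
      (Cfsg.generalizedFittingSubgroup H).index = 3) 1 ∧
    classes (fun H => Nonempty (Cfsg.generalizedFittingSubgroup H ≃* Ω) ∧
      (Cfsg.generalizedFittingSubgroup H).index = 4) 2 ∧
    classes (fun H => Nonempty (Cfsg.generalizedFittingSubgroup H ≃* Ω) ∧
      (Cfsg.generalizedFittingSubgroup H).index = 12) 1 := by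
  have t : Two Ω X₁ X₂ := ⟨hs, hn, ⟨h1, hc1, hn1⟩, ⟨h2, hc2, hn2⟩, hcl, hne⟩
  have two_of : ∀ (P : Subgroup G → Prop) (A B : Subgroup G), P A → P B → (∀ g, cj g A ≠ B) →
      (∀ H, P H → (∃ g, cj g H = A) ∨ ∃ g, cj g H = B) → classes P 2 := by
    intro P A B hA hB hAB hall
    rw [hclasses]
    refine ⟨![A, B], ?_, ?_, ?_⟩
    · intro i; fin_cases i
      · exact hA
      · exact hB
    · intro i j
      fin_cases i <;> fin_cases j
      · intro _; rfl
      · rintro ⟨g, hg⟩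
        exact absurd hg (hAB g)
      · rintro ⟨g, hg⟩
        exfalso
        apply hAB g⁻¹
        have hg' : cj g B = A := hg
        rw [← hg', cj_inv_cj]
      · intro _; rfl
    · intro H hH
      rcases hall H hH with ⟨g, hg⟩ | ⟨g, hg⟩
      · exact ⟨0, g, hg⟩
      · exact ⟨1, g, hg⟩
  have one_of : ∀ (P : Subgroup G → Prop) (A : Subgroup G), P A → (∀ H, P H → ∃ g, cj g H = A) → classes P 1 := by
    intro P A hA hall
    rw [hclasses]
    refine ⟨fun _ => A, fun _ => hA, fun i j _ => Subsingleton.elim _ _, fun H hH => ?_⟩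
    obtain ⟨g, hg⟩ := hall H hH
    exact ⟨0, g, hg⟩
  have c1 := card_NQ X₁ hn1
  have c2 := card_NQ X₂ hn2
  refine ⟨two_of _ X₁ X₂ h1 h2 hne hcl, ?_, ?_, ?_⟩
  · obtain ⟨a, b⟩ := ex_conj (p := 3) (k := 1) Nat.prime_three c1 (fact_eq Nat.prime_three (by norm_num)
      (by norm_num) (by norm_num))
    obtain ⟨H, hH, hall⟩ := t.one (m := 3) (by norm_num) a b
    exact one_of _ H hH hall
  · obtain ⟨a, b⟩ := ex_conj (p := 2) (k := 2) Nat.prime_two c1 (fact_eq Nat.prime_two (by norm_num)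
      (by norm_num) (by norm_num))
    obtain ⟨a', b'⟩ := ex_conj_top c2
    obtain ⟨A, B, hA, hB, hAB, hall⟩ := t.two (m := 4) a b a' b'
    exact two_of _ A B hA hB hAB hall
  · obtain ⟨a, b⟩ := ex_conj_top c1
    obtain ⟨H, hH, hall⟩ := t.one (m := 12) (by norm_num) a b
    exact one_of _ H hH hall

end Cfsg.Agent.H96.EE
end

-- part: H865/EE/Fin
section
/-!
# Abstract pieces of S3384 : transport of the class count, Sylow, Frattini (helper865)
-/

set_option autoImplicit false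

namespace Cfsg.Agent.H865.EE

open Subgroup

universe u v

theorem conj_syl {X : Type u} [Group X] [Finite X] (h5 : ¬ 5 ^ 5 ∣ Nat.card X) {E A : Subgroup X}
    (hE : Nat.card E = 625) (hA : Nat.card A = 625) : ∃ g : X, A.map (MulAut.conj g).toMonoidHom = E := by
  have : Fact (Nat.Prime 5) := ⟨by norm_num⟩
  have hf : (Nat.card X).factorization 5 = 4 := by
    have h0 : Nat.card X ≠ 0 := Nat.card_pos.ne'
    have h1 : 5 ^ 4 ∣ Nat.card X := by
      have := Subgroup.card_subgroup_dvd_card E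
      rw [hE] at this
      simpa using this
    exact Cfsg.Agent.H96.EE.fact_eq (by norm_num) h0 h1 h5
  have e1 : Nat.card E = 5 ^ (Nat.card X).factorization 5 := by rw [hE, hf]; norm_num
  have e2 : Nat.card A = 5 ^ (Nat.card X).factorization 5 := by rw [hA, hf]; norm_num
  obtain ⟨g, hg⟩ := MulAction.exists_smul_eq X (Sylow.ofCard A e2) (Sylow.ofCard E e1)
  refine ⟨g, ?_⟩
  have := congrArg (fun P : Sylow 5 X => (P : Subgroup X)) hg
  rw [Sylow.smul_def, Sylow.pointwise_smul_def] at this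
  exact this

theorem frattini {G : Type u} [Group G] [Finite G] {X E : Subgroup G} (hE : E ≤ X)
    (hc : ∀ A ≤ X, Nat.card A = Nat.card E → ∃ g ∈ X, A.map (MulAut.conj g).toMonoidHom = E) :
    Nat.card ↥(normalizer (X : Set G)) * Nat.card ↥(X ⊓ normalizer (E : Set G)) =
      Nat.card ↥X * Nat.card ↥(normalizer (X : Set G) ⊓ normalizer (E : Set G)) := by
  set N : Subgroup G := normalizer (X : Set G) with hN
  set M : Subgroup G := N ⊓ normalizer (E : Set G) with hM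
  have hXN : X ≤ N := Subgroup.le_normalizer
  have hnorm : (X.subgroupOf N).Normal := by
    rw [hN]; infer_instance
  have hsup : X.subgroupOf N ⊔ M.subgroupOf N = ⊤ := by
    rw [eq_top_iff]
    rintro ⟨n, hn⟩ -
    have hA : E.map (MulAut.conj n).toMonoidHom ≤ X := by
      rintro _ ⟨x, hx, rfl⟩
      exact (mem_normalizer_iff.1 hn x).1 (hE hx)
    obtain ⟨g, hg, hgE⟩ := hc _ hA (Subgroup.card_map_of_injective (MulAut.conj n).injective)
    have hgn : g * n ∈ normalizer (E : Set G) := by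
      rw [mem_normalizer_iff]
      intro x
      have h1 : E.map (MulAut.conj (g * n)).toMonoidHom = E := by
        rw [show (MulAut.conj (g * n)).toMonoidHom =
          (MulAut.conj g).toMonoidHom.comp (MulAut.conj n).toMonoidHom from by ext y; simp [mul_assoc]]
        rw [← Subgroup.map_map, hgE]
      constructor
      · intro hx
        have : (MulAut.conj (g * n)).toMonoidHom x ∈ E.map (MulAut.conj (g * n)).toMonoidHom :=
          Subgroup.mem_map_of_mem _ hx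
        rw [h1] at this
        exact this
      · intro hx
        have : (MulAut.conj (g * n)).toMonoidHom x ∈ E.map (MulAut.conj (g * n)).toMonoidHom := by
          rw [h1]; exact hx
        obtain ⟨y, hy, hyx⟩ := this
        have := (MulAut.conj (g * n)).injective hyx
        rw [← this]; exact hy
    have hm : g * n ∈ M := ⟨mul_mem (hXN hg) hn, hgn⟩
    have : (⟨n, hn⟩ : ↥N) = ⟨g⁻¹, inv_mem (hXN hg)⟩ * ⟨g * n, hm.1⟩ := by
      apply Subtype.ext; simp
    rw [this]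
    exact mul_mem (mem_sup_left (Subgroup.mem_subgroupOf.2 (inv_mem hg)))
      (mem_sup_right (Subgroup.mem_subgroupOf.2 hm))
  have h1 : (X.subgroupOf N).index = (X.subgroupOf N).relIndex (M.subgroupOf N) := by
    rw [← Subgroup.relIndex_top_right, ← hsup, Subgroup.relIndex_sup_left]
  have h2 : Nat.card ↥(X.subgroupOf N) * (X.subgroupOf N).index = Nat.card ↥N := Subgroup.card_mul_index _
  have h3 : Nat.card ↥(X.subgroupOf N ⊓ M.subgroupOf N : Subgroup ↥N) *
      (X.subgroupOf N).relIndex (M.subgroupOf N) = Nat.card ↥(M.subgroupOf N) := by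
    have := Subgroup.relIndex_mul_relIndex ⊥ (X.subgroupOf N ⊓ M.subgroupOf N) (M.subgroupOf N) bot_le inf_le_right
    rwa [Subgroup.relIndex_bot_left, Subgroup.relIndex_bot_left, Subgroup.inf_relIndex_right] at this
  have c1 : Nat.card ↥(X.subgroupOf N) = Nat.card ↥X := Nat.card_congr (Subgroup.subgroupOfEquivOfLe hXN).toEquiv
  have c2 : Nat.card ↥(M.subgroupOf N) = Nat.card ↥M :=
    Nat.card_congr (Subgroup.subgroupOfEquivOfLe inf_le_left).toEquiv
  have c3 : Nat.card ↥(X.subgroupOf N ⊓ M.subgroupOf N : Subgroup ↥N) = Nat.card ↥(X ⊓ normalizer (E : Set G)) := by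
    have : (X.subgroupOf N ⊓ M.subgroupOf N : Subgroup ↥N) = (X ⊓ normalizer (E : Set G)).subgroupOf N := by
      ext x
      simp only [Subgroup.mem_inf, Subgroup.mem_subgroupOf, hM]
      constructor
      · rintro ⟨a, b, c⟩; exact ⟨a, c⟩
      · rintro ⟨a, c⟩; exact ⟨a, x.2, c⟩
    rw [this]
    exact Nat.card_congr (Subgroup.subgroupOfEquivOfLe (inf_le_left.trans hXN)).toEquiv
  rw [c1] at h2
  rw [c2, c3] at h3
  rw [← h1] at h3
  rw [← h2, ← h3]
  ring

theorem final_of {G : Type u} {G' : Type u} [Group G] [Group G'] [Finite G] (e : G ≃* G') {Ω : Type v} [Group Ω]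
    (hs : IsSimpleGroup Ω)
    (hn : ∃ a b : Ω, a * b ≠ b * a) (X₁ X₂ : Subgroup G) (h1 : Nonempty (X₁ ≃* Ω)) (h2 : Nonempty (X₂ ≃* Ω))
    (hcl : ∀ X : Subgroup G, Nonempty (X ≃* Ω) → (∃ g : G, X.map (MulAut.conj g).toMonoidHom = X₁) ∨
      ∃ g : G, X.map (MulAut.conj g).toMonoidHom = X₂)
    (hne : ∀ g : G, X₁.map (MulAut.conj g).toMonoidHom ≠ X₂)
    (hc1 : Subgroup.centralizer (X₁ : Set G) = ⊥) (hc2 : Subgroup.centralizer (X₂ : Set G) = ⊥)
    (hn1 : Nat.card ↥(Subgroup.normalizer (X₁ : Set G)) = 12 * Nat.card X₁)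
    (hn2 : Nat.card ↥(Subgroup.normalizer (X₂ : Set G)) = 4 * Nat.card X₂)
    (classes : (Subgroup G' → Prop) → ℕ → Prop)
    (hclasses : ∀ (P : Subgroup G' → Prop) (k : ℕ), classes P k ↔
      ∃ f : Fin k → Subgroup G', (∀ i, P (f i)) ∧
        (∀ i j, (∃ g : G', (f i).map (MulAut.conj g).toMonoidHom = f j) → i = j) ∧
        (∀ H, P H → ∃ (i : Fin k) (g : G'), H.map (MulAut.conj g).toMonoidHom = f i)) :
    classes (fun H => Nonempty (H ≃* Ω)) 2 ∧
    classes (fun H => Nonempty (Cfsg.generalizedFittingSubgroup H ≃* Ω) ∧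
      (Cfsg.generalizedFittingSubgroup H).index = 3) 1 ∧
    classes (fun H => Nonempty (Cfsg.generalizedFittingSubgroup H ≃* Ω) ∧
      (Cfsg.generalizedFittingSubgroup H).index = 4) 2 ∧
    classes (fun H => Nonempty (Cfsg.generalizedFittingSubgroup H ≃* Ω) ∧
      (Cfsg.generalizedFittingSubgroup H).index = 12) 1 := by
  have : Finite G' := Finite.of_equiv G e.toEquiv
  let m : Subgroup G → Subgroup G' := fun X => X.map e.toMonoidHom
  have hm_iso : ∀ X : Subgroup G, Nonempty (↥X ≃* ↥(m X)) := fun X =>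
    ⟨X.equivMapOfInjective e.toMonoidHom e.injective⟩
  have hm_conj : ∀ (X : Subgroup G) (g : G), (m X).map (MulAut.conj (e g)).toMonoidHom =
      m (X.map (MulAut.conj g).toMonoidHom) := by
    intro X g
    show (X.map e.toMonoidHom).map _ = (X.map _).map e.toMonoidHom
    rw [Subgroup.map_map, Subgroup.map_map]
    congr 1
    ext y
    simp only [_root_.MulEquiv.toMonoidHom_eq_coe, _root_.MonoidHom.coe_comp, _root_.MonoidHom.coe_coe, _root_.Function.comp_apply, _root_.MulAut.conj_apply, _root_.map_mul, _root_.map_inv]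
  have hm_symm : ∀ Y : Subgroup G', m (Y.map e.symm.toMonoidHom) = Y := by
    intro Y
    show (Y.map e.symm.toMonoidHom).map e.toMonoidHom = Y
    rw [Subgroup.map_map]
    conv_rhs => rw [← Subgroup.map_id Y]
    congr 1
    ext y
    simp
  have hm_inj : Function.Injective m := Subgroup.map_injective e.injective
  have hmem : ∀ (X : Subgroup G) (y : G'), y ∈ m X ↔ e.symm y ∈ X := by
    intro X y
    constructor
    · rintro ⟨x, hx, rfl⟩
      simpa using hx
    · intro h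
      exact ⟨e.symm y, h, by simp⟩
  have hm_cen : ∀ X : Subgroup G, centralizer (X : Set G) = ⊥ → centralizer (m X : Set G') = ⊥ := by
    intro X hX
    rw [eq_bot_iff]
    intro y hy
    rw [Subgroup.mem_bot]
    have : e.symm y ∈ centralizer (X : Set G) := by
      rw [Subgroup.mem_centralizer_iff]
      intro x hx
      have := Subgroup.mem_centralizer_iff.1 hy (e x) ((hmem X (e x)).2 (by simpa using hx))
      have h := congrArg e.symm this
      simpa only [_root_.map_mul, _root_.MulEquiv.symm_apply_apply] using h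
    rw [hX, Subgroup.mem_bot] at this
    exact (MulEquiv.map_eq_one_iff e.symm).1 this
  have hm_norm : ∀ X : Subgroup G, normalizer (m X : Set G') = m (normalizer (X : Set G)) := by
    intro X
    ext y
    rw [hmem]
    constructor
    · intro h
      refine mem_normalizer_iff.2 fun x => ?_
      have := mem_normalizer_iff.1 h (e x)
      rw [hmem, hmem] at this
      simpa only [_root_.MulEquiv.symm_apply_apply, _root_.map_mul, _root_.map_inv] using this
    · intro h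
      refine mem_normalizer_iff.2 fun x => ?_
      have := mem_normalizer_iff.1 h (e.symm x)
      rw [hmem, hmem]
      simpa only [_root_.map_mul, _root_.map_inv] using this
  have hm_card : ∀ X : Subgroup G, Nat.card ↥(m X) = Nat.card ↥X := fun X =>
    Subgroup.card_map_of_injective e.injective
  refine Cfsg.Agent.H96.EE.classes_of hs hn (m X₁) (m X₂) ?_ ?_ ?_ ?_ (hm_cen _ hc1) (hm_cen _ hc2) ?_ ?_
    classes hclasses
  · obtain ⟨f⟩ := h1
    obtain ⟨f'⟩ := hm_iso X₁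
    exact ⟨f'.symm.trans f⟩
  · obtain ⟨f⟩ := h2
    obtain ⟨f'⟩ := hm_iso X₂
    exact ⟨f'.symm.trans f⟩
  · intro Y hY
    obtain ⟨f⟩ := hY
    obtain ⟨f'⟩ := hm_iso (Y.map e.symm.toMonoidHom)
    rw [hm_symm] at f'
    rcases hcl (Y.map e.symm.toMonoidHom) ⟨f'.trans f⟩ with ⟨g, hg⟩ | ⟨g, hg⟩
    · left
      refine ⟨e g, ?_⟩
      conv_lhs => rw [← hm_symm Y]
      rw [hm_conj, hg]
    · right
      refine ⟨e g, ?_⟩
      conv_lhs => rw [← hm_symm Y]
      rw [hm_conj, hg]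
  · intro g hg
    apply hne (e.symm g)
    apply hm_inj
    rw [← hm_conj]
    simpa using hg
  · rw [hm_norm, hm_card, hm_card, hn1]
  · rw [hm_norm, hm_card, hm_card, hn2]

end Cfsg.Agent.H865.EE
end

-- part: H865/EE/OmF
section
/-!
# Facts on `Ω₈⁺(4)` (helper865, S3384)
-/

set_option autoImplicit false

namespace Cfsg.Agent.H865.EE

open Cfsg Cfsg.Agent.LieClassical Cfsg.Agent.LieClassical.OrthForms

universe u

variable (F : Type u) [Field F] [Fintype F]

theorem om_fin (_hF : Fintype.card F = 4) : Finite ↥(Cfsg.Omega F (Cfsg.quadFormPlus 4 F)) := by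
  have : Finite ↥(Cfsg.isometryGroup F (Cfsg.quadFormPlus 4 F)) := by infer_instance
  infer_instance

theorem charTwo_of (hF : Fintype.card F = 4) : CharP F 2 := by
  obtain ⟨p, hp⟩ := CharP.exists F
  obtain ⟨n, hp1, hn⟩ := FiniteField.card F p
  rw [hF] at hn
  have h1 : p ∣ 2 ^ 2 := by
    have : p ∣ 4 := by rw [hn]; exact dvd_pow_self p n.ne_zero
    simpa using this
  have h2 : p = 2 := (Nat.prime_dvd_prime_iff_eq hp1 Nat.prime_two).1 (hp1.dvd_of_dvd_pow h1)
  rwa [h2] at hp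

theorem om_center (hF : Fintype.card F = 4) : Subgroup.center (Omega F (quadFormPlus 4 F)) = ⊥ := by
  have := charTwo_of F hF
  have hnd := nondeg_plusForm 4 F
  have h1 : Subgroup.center (Omega F ⇑(plusForm 4 F)) = ⊥ := by
    refine Cfsg.Agent.LieClassical.OrthCenter.center_omega_eq_bot_char_two CharTwo.two_eq_zero ?_ ?_ ?_
    · refine ⟨fun x hx => hnd x fun y => hx y, fun x hx => hnd x fun y => ?_⟩
      rw [QuadraticMap.polar_comm]
      exact hx y
    · simp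
    · refine ⟨Pi.single (Sum.inl 0) 1, ?_, ?_⟩
      · intro h0
        have := congrFun h0 (Sum.inl 0)
        simp at this
      · rw [coe_plusForm, quadFormPlus_apply]
        rw [Finset.sum_eq_zero fun i _ => by simp]
  rwa [coe_plusForm] at h1

theorem om_equiv (hF : Fintype.card F = 4) :
    Nonempty (POmega F (quadFormPlus 4 F) ≃* ↥(Omega F (quadFormPlus 4 F))) :=
  ⟨(QuotientGroup.quotientMulEquivOfEq (om_center F hF)).trans QuotientGroup.quotientBot⟩

theorem om_simple (hF : Fintype.card F = 4) : IsSimpleGroup ↥(Cfsg.Omega F (Cfsg.quadFormPlus 4 F)) := by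
  obtain ⟨e⟩ := om_equiv F hF
  have : IsSimpleGroup (POmega F (quadFormPlus 4 F)) := Cfsg.Agent.S0296.result 4 le_rfl
  exact e.isSimpleGroup_congr.1 this

theorem om_nc (hF : Fintype.card F = 4) : ∃ a b : ↥(Cfsg.Omega F (Cfsg.quadFormPlus 4 F)), a * b ≠ b * a := by
  by_contra hcon
  push Not at hcon
  have h1 : Subgroup.center (Omega F (quadFormPlus 4 F)) = ⊤ := by
    rw [eq_top_iff]
    intro x _
    rw [Subgroup.mem_center_iff]
    intro y
    exact hcon y x
  have := om_simple F hF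
  rw [om_center F hF] at h1
  exact absurd h1 bot_ne_top

theorem om_card (hF : Fintype.card F = 4) : ¬ 5 ^ 5 ∣ Nat.card ↥(Cfsg.Omega F (Cfsg.quadFormPlus 4 F)) := by
  obtain ⟨e⟩ := om_equiv F hF
  rw [← Nat.card_congr e.toEquiv]
  have := Cfsg.Agent.S0293.result (F := F) hF 4 le_rfl
  have h2 : ∏ i ∈ Finset.range (4 - 1), (4 ^ (2 * (i + 1)) - 1) = 15 * 255 * 4095 := by decide
  rw [h2] at this
  intro h
  have h3 : 5 ^ 5 ∣ Nat.gcd 4 (4 ^ 4 - 1) * Nat.card (Cfsg.POmega F (Cfsg.quadFormPlus 4 F)) := h.mul_left _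
  rw [this] at h3
  revert h3
  norm_num

end Cfsg.Agent.H865.EE
end

-- part: H185/EE/Lat
section
/-!
# The lattice of `E₈` modulo `w8 - 2` (helper185, S3384)

`fE = w8 - 2`, `det_fE : |det fE| = 625`, `eq_of_sub_eq` : distinct roots are not congruent modulo `w8 - 2`,
`root_ne_fE` : roots are not in the image.
-/

set_option autoImplicit false
set_option linter.unusedSectionVars false

namespace Cfsg.Agent.H185.EE

set_option backward.isDefEq.respectTransparency false in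
theorem e8_ne : ∀ i j : Fin 8, CoxeterMatrix.E₈ i j ≠ 4 ∧ CoxeterMatrix.E₈ i j ≠ 6 := by decide +kernel

open CoxeterSystem Subgroup Cfsg Cfsg.Lie Cfsg.Lie.ChevalleyDatum
open Cfsg.Agent.ChevalleyStructure Cfsg.Agent.ChevalleyStructure.Elts Cfsg.Agent.ChevalleyStructure.CoxeterGeom
  Cfsg.Agent.ChevalleyStructure.CoxeterGeomTypes Cfsg.Agent.ChevalleyStructure.NPerm
open Cfsg.Agent.Tits.Roots Cfsg.Agent.Tits.Core Cfsg.Agent.Nodes Cfsg.Agent.Nodes.SubComb Cfsg.Agent.Nodes.Reps Cfsg.Agent.Nodes.BNOf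
  Cfsg.Agent.Nodes.RGDChev Cfsg.Agent.Nodes.Bruhat Cfsg.Agent.Nodes.Coroot
open Cfsg.Agent.KFacts.RgdField Cfsg.Agent.KFacts.RgdChevCoord Cfsg.Agent.BpExc.TorCent Cfsg.Agent.BpExc.TorChev
open Cfsg.Agent.GpExc.Field Cfsg.Agent.BpExc.Tow Cfsg.Agent.BpExc.TowChev Cfsg.Agent.BpExc.Fr
  Cfsg.Agent.BpExc.LangFr Cfsg.Agent.BpExc.FamField Cfsg.Agent.BpExc.FamInst Cfsg.Agent.H129.TorusChar
  Cfsg.Agent.H795.LangT Cfsg.Agent.BpExc.FamExt Cfsg.Agent.BpExc.FamUntw Cfsg.Agent.H378.TorDual Cfsg.Agent.H378.TorChar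
  Cfsg.Agent.H378.TorFin Cfsg.Agent.H378.RankOne Cfsg.Agent.H378.RootTor
open Cfsg.Agent.H865.EE

/-! ### the lattice -/

/-- `v - 2` -/
noncomputable def fV (v : W8) : Module.End ℤ (Fin 8 → ℤ) :=
  rep cs8 tp8.isCartan v - ((2 ^ 1 : ℕ) : ℤ) • (1 : Module.End ℤ (Fin 8 → ℤ))

theorem fV_apply (v : W8) (x : Fin 8 → ℤ) : fV v x = _root_.Cfsg.Agent.H865.EE.act v x - (2 : ℤ) • x := by
  unfold fV
  rw [LinearMap.sub_apply, LinearMap.smul_apply, Module.End.one_apply]
  norm_num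

theorem rt_act {a : Fin 8 → ℤ} (ha : Rt a) (v : W8) : Rt (_root_.Cfsg.Agent.H865.EE.act v a) := ha.act v

/-- `w8 - 2` -/
noncomputable def fE : Module.End ℤ (Fin 8 → ℤ) := fV w8

theorem fE_apply (x : Fin 8 → ℤ) : fE x = _root_.Cfsg.Agent.H865.EE.act w8 x - (2 : ℤ) • x := fV_apply w8 x

theorem bf_w8_self (y : Fin 8 → ℤ) : bf (_root_.Cfsg.Agent.H865.EE.act w8 y) y = 0 := by
  have h1 := bf_act w8 (_root_.Cfsg.Agent.H865.EE.act w8 y) y
  rw [w8_sq, bf_neg_left, bf_comm y] at h1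
  omega

theorem bf_fE (y : Fin 8 → ℤ) : bf (fE y) (fE y) = 5 * bf y y := by
  have h1 := bf_w8_self y
  have h2 : bf y (_root_.Cfsg.Agent.H865.EE.act w8 y) = 0 := by rw [bf_comm, h1]
  rw [fE_apply, bf_sub_left, bf_sub_right, bf_sub_right, bf_act, bf_smul_left, bf_smul_right, bf_smul_right,
    bf_smul_left, h1, h2]
  ring

theorem bf_even (y : Fin 8 → ℤ) : ∃ m, bf y y = 2 * m := by
  refine ⟨y 0 * y 0 + y 1 * y 1 + y 2 * y 2 + y 3 * y 3 + y 4 * y 4 + y 5 * y 5 + y 6 * y 6 + y 7 * y 7 - y 0 * y 2 -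
    y 1 * y 3 - y 2 * y 3 - y 3 * y 4 - y 4 * y 5 - y 5 * y 6 - y 6 * y 7, ?_⟩
  unfold bf C8
  simp only [Fin.sum_univ_eight, _root_.Int.reduceNeg, _root_.Matrix.cons_val', _root_.Matrix.cons_val_fin_one, _root_.Fin.sum_univ_eight, _root_.Fin.isValue, _root_.Matrix.cons_val_zero, _root_.Matrix.cons_val_one, _root_.Matrix.cons_val, _root_.MulZeroClass.mul_zero, _root_.MulZeroClass.zero_mul, _root_.add_zero, _root_.mul_neg, _root_.mul_one, _root_.neg_mul, _root_.zero_add]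
  ring

/-- the matrix of `w8 - 2` -/
def FM : Matrix (Fin 8) (Fin 8) ℤ := Matrix.of fun i j => WM i j - if i = j then 2 else 0

theorem toMatrix_fE : LinearMap.toMatrix' fE = FM := by
  ext i j
  rw [LinearMap.toMatrix'_apply, fE_apply]
  have h1 : (Pi.single j 1 : Fin 8 → ℤ) = sr j := by
    funext j'
    by_cases h : j' = j
    · rw [h, sr_self, Pi.single_eq_same]
    · rw [sr_ne h, Pi.single_eq_of_ne h]
  rw [h1, Pi.sub_apply, act_w8_sr, Pi.smul_apply, smul_eq_mul]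
  show _ = WM i j - if i = j then 2 else 0
  by_cases h : i = j
  · rw [if_pos h, h, sr_self, mul_one]
  · rw [if_neg h, sr_ne h, mul_zero]

def PM : Matrix (Fin 8) (Fin 8) ℤ := !![1, 0, 0, 0, 0, 0, 0, 0; 2, 1, 0, 0, 0, 0, 0, 0; 4, 1, 1, 0, 0, 0, 0, 0; -5, -1, -3, 1, 0, 0, 0, 0; 6, 1, 2, -1, 0, 1, 0, 0; -1, 0, 0, 0, 0, -1, 1, 0; 2, 1, -1, -1, 1, -2, 4, 0; -3, -2, 0, 0, -1, 5, -6, 1]
def PMi : Matrix (Fin 8) (Fin 8) ℤ := !![1, 0, 0, 0, 0, 0, 0, 0; -2, 1, 0, 0, 0, 0, 0, 0; -2, -1, 1, 0, 0, 0, 0, 0; -3, -2, 3, 1, 0, 0, 0, 0; -3, -2, 2, -1, -2, -4, 1, 0; -3, -1, 1, 1, 1, 0, 0, 0; -2, -1, 1, 1, 1, 1, 0, 0; -1, -1, 3, 0, -1, 2, 1, 1]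
def QM : Matrix (Fin 8) (Fin 8) ℤ := !![1, 0, 0, 0, 0, -2, 0, 0; 0, 1, -1, 0, 2, -1, -1, 1; 0, 0, 0, 0, 1, -4, 0, 0; 0, 0, 0, 0, 0, 0, 0, 1; 0, 0, 0, 1, -6, 8, 3, 0; 0, 0, 0, 0, 0, 1, 1, 0; 0, 0, 0, 0, 0, 0, 1, 0; 0, 0, 1, 0, -2, -5, 2, -2]
def QMi : Matrix (Fin 8) (Fin 8) ℤ := !![1, 0, 0, 0, 0, 2, -2, 0; 0, 1, 0, 1, 0, 6, -7, 1; 0, 0, 2, 2, 0, 13, -15, 1; 0, 0, 6, 0, 1, 16, -19, 0; 0, 0, 1, 0, 0, 4, -4, 0; 0, 0, 0, 0, 0, 1, -1, 0; 0, 0, 0, 0, 0, 0, 1, 0; 0, 0, 0, 1, 0, 0, 0, 0]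
def dM : Fin 8 → ℤ := ![-1, -1, -1, 1, -5, 5, -5, 5]

theorem natAbs_det_of {n : ℕ} {A P P' Q Q' : Matrix (Fin n) (Fin n) ℤ} {d : Fin n → ℤ}
    (h1 : P * A * Q = Matrix.diagonal d) (h2 : P * P' = 1) (h3 : Q * Q' = 1) :
    A.det.natAbs = (∏ i, d i).natAbs := by
  have h4 := congrArg Matrix.det h1
  rw [Matrix.det_mul, Matrix.det_mul, Matrix.det_diagonal] at h4
  have h5 := congrArg Matrix.det h2
  rw [Matrix.det_mul, Matrix.det_one] at h5
  have h6 := congrArg Matrix.det h3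
  rw [Matrix.det_mul, Matrix.det_one] at h6
  have h8 := congrArg Int.natAbs h4
  rw [Int.natAbs_mul, Int.natAbs_mul] at h8
  have h9 := congrArg Int.natAbs h5
  rw [Int.natAbs_mul, Int.natAbs_one] at h9
  have h10 := congrArg Int.natAbs h6
  rw [Int.natAbs_mul, Int.natAbs_one] at h10
  have h11 : P.det.natAbs = 1 := Nat.eq_one_of_mul_eq_one_right h9
  have h12 : Q.det.natAbs = 1 := Nat.eq_one_of_mul_eq_one_right h10
  rw [h11, h12, one_mul, mul_one] at h8
  exact h8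

theorem det_FM : (FM.det).natAbs = 625 := by
  have h1 : PM * FM * QM = Matrix.diagonal dM := by
    ext i j
    rw [Matrix.mul_apply, Matrix.diagonal_apply]
    simp only [Matrix.mul_apply]
    revert i j
    decide +kernel
  have h2 : PM * PMi = 1 := by
    ext i j
    rw [Matrix.mul_apply, Matrix.one_apply]
    revert i j
    decide +kernel
  have h3 : QM * QMi = 1 := by
    ext i j
    rw [Matrix.mul_apply, Matrix.one_apply]
    revert i j
    decide +kernel
  have h7 : (∏ i, dM i).natAbs = 625 := by decide +kernel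
  rw [natAbs_det_of h1 h2 h3, h7]

theorem det_fE : (LinearMap.det fE).natAbs = 625 := by
  rw [← LinearMap.det_toMatrix', toMatrix_fE, det_FM]

/-- distinct roots are not congruent modulo `w8 - 2` -/
theorem eq_of_sub_eq {b c y : Fin 8 → ℤ} (hb : Rt b) (hc : Rt c) (h : b - c = fE y) : b = c := by
  by_contra hne
  obtain ⟨m, hm⟩ := bf_even y
  have h1 : bf (b - c) (b - c) = 10 * m := by rw [h, bf_fE, hm]; ring
  have h2 : bf (b - c) (b - c) = 4 - 2 * bf b c := by
    rw [bf_sub_left, bf_sub_right, bf_sub_right, bf_self hb, bf_self hc, bf_comm c b]; ring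
  by_cases h3 : b = -c
  · have h4 : bf b c = -2 := by rw [h3, bf_neg_left, bf_self hc]
    omega
  · have h4 := Cfsg.Agent.Nodes.SimplyLaced.abs_cpr_le_one cs8 tp8.isCartan (fun i j => (e8_ne i j).1) (fun i j => (e8_ne i j).2) hb hc
      hne h3
    rw [cpr_eq b hc, abs_le] at h4
    omega

/-- roots are not in the image of `w8 - 2` -/
theorem root_ne_fE {b y : Fin 8 → ℤ} (hb : Rt b) (h : b = fE y) : False := by
  have h1 := bf_fE y
  rw [← h, bf_self hb] at h1
  omega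

end Cfsg.Agent.H185.EE
end

-- part: H185/EE/CentHyp
section
/-!
# Hyperplanes of the 5-torus of `E₈(2)` and the perfect groups centralising them (helper185, S3384 piece G5)

* `card_E5` : `|E5| = 625`; `cX_w8`, `cX_pow5`, `pow5` : `E5` is elementary abelian and `w8` acts as 2 on the characters;
* `range_of_trivial` : a lattice vector trivial on `E5` lies in `(w8 - 2) ℤ⁸`; roots are not;
* `cent_hyp` : `H ≤ E5` of order 125, `1 ≠ L` perfect, centralising `H`: `H` is the kernel of a root `a` and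
  `L ≤ ⟨X_{±a}, X_{± w8 a}⟩`.
-/

set_option autoImplicit false
set_option linter.unusedSectionVars false

namespace Cfsg.Agent.H185.EE

open CoxeterSystem Subgroup Cfsg Cfsg.Lie Cfsg.Lie.ChevalleyDatum
open Cfsg.Agent.ChevalleyStructure Cfsg.Agent.ChevalleyStructure.Elts Cfsg.Agent.ChevalleyStructure.CoxeterGeom
  Cfsg.Agent.ChevalleyStructure.CoxeterGeomTypes Cfsg.Agent.ChevalleyStructure.NPerm
open Cfsg.Agent.Tits.Roots Cfsg.Agent.Tits.Core Cfsg.Agent.Nodes Cfsg.Agent.Nodes.SubComb Cfsg.Agent.Nodes.Reps Cfsg.Agent.Nodes.BNOf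
  Cfsg.Agent.Nodes.RGDChev Cfsg.Agent.Nodes.Bruhat Cfsg.Agent.Nodes.Coroot
open Cfsg.Agent.KFacts.RgdField Cfsg.Agent.KFacts.RgdChevCoord Cfsg.Agent.BpExc.TorCent Cfsg.Agent.BpExc.TorChev
open Cfsg.Agent.GpExc.Field Cfsg.Agent.BpExc.Tow Cfsg.Agent.BpExc.TowChev Cfsg.Agent.BpExc.Fr
  Cfsg.Agent.BpExc.LangFr Cfsg.Agent.BpExc.FamField Cfsg.Agent.BpExc.FamInst Cfsg.Agent.H129.TorusChar
  Cfsg.Agent.H795.LangT Cfsg.Agent.BpExc.FamExt Cfsg.Agent.BpExc.FamUntw Cfsg.Agent.H378.TorDual Cfsg.Agent.H378.TorChar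
  Cfsg.Agent.H378.TorFin Cfsg.Agent.H378.RankOne Cfsg.Agent.H378.RootTor
open Cfsg.Agent.H865.EE

/-! ### the torus -/

section Tor

variable {k : Type} [Field k] [CharP k 2] [IsAlgClosed k] [PerfectRing k 2] (hk : LocFin k)

theorem coe_tchar {t : ↥(chevE8.group k)} (ht : t ∈ TT chevE8 k) (x : Fin 8 → ℤ) :
    ((tchar tp8 ⟨t, ht⟩ (Multiplicative.ofAdd x) : kˣ) : k) = cX tp8 t x := by
  show ((lat (fun i => uch tp8 i ⟨t, ht⟩) (Multiplicative.ofAdd x) : kˣ) : k) = _
  rw [lat_apply, Units.coe_prod]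
  unfold cX
  refine Finset.prod_congr rfl fun i _ => ?_
  rw [Units.val_zpow_eq_zpow_val, coe_uch]

theorem mem_E5 {t : ↥(chevE8.group k)} : t ∈ E5 k ↔ t ∈ TwT chevE8 k 2 1 (nu tp8 k w8) := Iff.rfl

theorem E5_eq : E5 k = TwT chevE8 k 2 1 (nu tp8 k w8) := Subgroup.ext fun _ => mem_E5

include hk in
theorem mem_TwV_iff (v : W8) {t : ↥(chevE8.group k)} (ht : t ∈ TT chevE8 k) :
    t ∈ TwT chevE8 k 2 1 (nu tp8 k v) ↔ tchar tp8 ⟨t, ht⟩ ∈ KerOf k (fV v) :=
  mem_TwT_iff tp8 cs8 2 hk (nu_rp tp8 hk v) ht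

include hk in
theorem twEquivV (v : W8) : ∃ e : ↥(TwT chevE8 k 2 1 (nu tp8 k v)) ≃* ↥(KerOf k (fV v)),
    ∀ t, (e t).1 = tchar tp8 ⟨t.1, t.2.1⟩ :=
  twEquiv tp8 cs8 2 hk inv_E8 one_ne_zero (nu_rp tp8 hk v) (m := 1)

include hk in
theorem mem_E5_iff0 (v : W8) (hv : w8 = v) {t : ↥(chevE8.group k)} (ht : t ∈ TT chevE8 k) :
    t ∈ E5 k ↔ tchar tp8 ⟨t, ht⟩ ∈ KerOf k (fV v) := by
  rw [mem_E5, hv]
  exact mem_TwV_iff hk v ht

include hk in
theorem mem_E5_iff {t : ↥(chevE8.group k)} (ht : t ∈ TT chevE8 k) :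
    t ∈ E5 k ↔ tchar tp8 ⟨t, ht⟩ ∈ KerOf k (fV w8) := mem_E5_iff0 hk w8 rfl ht

include hk in
theorem cX_fE {t : ↥(chevE8.group k)} (ht : t ∈ E5 k) (x : Fin 8 → ℤ) : cX tp8 t (fE x) = 1 := by
  have h1 := (mem_E5_iff hk ht.1).1 ht
  have h2 := (mem_kerOf k).1 h1 x
  exact (coe_tchar ht.1 (fV w8 x)).symm.trans (congrArg (fun u : kˣ => (u : k)) h2)

include hk in
theorem cX_w8 {t : ↥(chevE8.group k)} (ht : t ∈ E5 k) (x : Fin 8 → ℤ) :
    cX tp8 t (_root_.Cfsg.Agent.H865.EE.act w8 x) = cX tp8 t x ^ 2 := by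
  have h1 := cX_fE hk ht x
  have h3 := isMC_cX tp8 ht.1
  rw [fE_apply, h3.sub, div_eq_one_iff_eq (h3.ne_zero _), h3.zsmul] at h1
  rw [h1]
  norm_cast

include hk in
theorem cX_pow5 {t : ↥(chevE8.group k)} (ht : t ∈ E5 k) (x : Fin 8 → ℤ) : cX tp8 t x ^ 5 = 1 := by
  have h1 := cX_w8 hk ht (_root_.Cfsg.Agent.H865.EE.act w8 x)
  rw [w8_sq, cX_w8 hk ht x, (isMC_cX tp8 ht.1).neg] at h1
  have h2 := (isMC_cX tp8 ht.1).ne_zero x
  calc cX tp8 t x ^ 5 = (cX tp8 t x ^ 2) ^ 2 * cX tp8 t x := by ring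
    _ = 1 := by rw [← h1, inv_mul_cancel₀ h2]

include hk in
theorem pow5 {t : ↥(chevE8.group k)} (ht : t ∈ E5 k) : t ^ 5 = 1 := by
  refine cX_inj tp8 (pow_mem ht.1 5) (one_mem _) fun i => ?_
  rw [cX_pow tp8 ht.1, cX_one, cX_pow5 hk ht]

theorem det_ne (k : Type) [Field k] [CharP k 2] : ((LinearMap.det fE : ℤ) : k) ≠ 0 := by
  intro h
  rw [CharP.intCast_eq_zero_iff k 2] at h
  have h1 := det_fE
  omega

include hk in
/-- **`|E5| = 625`.** -/
theorem card_E5 : Nat.card ↥(E5 k) = 625 := by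
  obtain ⟨e, -⟩ := twEquivV hk w8
  rw [E5_eq, Nat.card_congr e.toEquiv]
  exact (card_kerOf k (det_ne k)).trans det_fE

include hk in
/-- the lattice vectors trivial on `E5` -/
theorem range_of_trivial {x : Fin 8 → ℤ} (h : ∀ t ∈ E5 k, cX tp8 t x = 1) : ∃ y, fE y = x := by
  rw [← eq_one_on_iff k (det_ne k)]
  intro φ hφ
  obtain ⟨e, he⟩ := twEquivV hk w8
  obtain ⟨t, ht⟩ := e.surjective ⟨φ, hφ⟩
  have h1 := he t
  rw [ht] at h1
  apply Units.ext
  have h2 : ((φ (Multiplicative.ofAdd x) : kˣ) : k) = cX tp8 t.1 x := by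
    rw [← coe_tchar t.2.1]
    exact congrArg (fun ψ : Ch 8 k => ((ψ (Multiplicative.ofAdd x) : kˣ) : k)) h1
  rw [h2, h t.1 t.2]
  rfl

/-- the kernel of a lattice vector in `E5` -/
def KX (k : Type) [Field k] [CharP k 2] [IsAlgClosed k] [PerfectRing k 2] (x : Fin 8 → ℤ) :
    Subgroup ↥(chevE8.group k) where
  carrier := {t | t ∈ E5 k ∧ cX tp8 t x = 1}
  one_mem' := ⟨one_mem _, cX_one tp8 x⟩
  mul_mem' := by
    rintro s t ⟨h1, h2⟩ ⟨h3, h4⟩
    exact ⟨mul_mem h1 h3, by rw [cX_mul tp8 h1.1 h3.1, h2, h4, one_mul]⟩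
  inv_mem' := by
    rintro s ⟨h1, h2⟩
    refine ⟨inv_mem h1, ?_⟩
    have h3 := cX_mul tp8 h1.1 (inv_mem h1.1) x
    rw [mul_inv_cancel, cX_one, h2, one_mul] at h3
    exact h3.symm

include hk in
theorem KX_root_ne {a : Fin 8 → ℤ} (ha : Rt a) : KX k a ≠ E5 k := by
  intro h
  obtain ⟨y, hy⟩ := range_of_trivial hk (x := a) fun t ht => by
    rw [← h] at ht
    exact ht.2
  exact root_ne_fE ha hy.symm

include hk in
/-- a subgroup of order 125 contained in the kernel of `x` is the kernel, or `x` is trivial -/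
theorem KX_dich {H : Subgroup ↥(chevE8.group k)} (hH1 : Nat.card H = 125) {K : Subgroup ↥(chevE8.group k)}
    (hHK : H ≤ K) (hK : K ≤ E5 k) : H = K ∨ K = E5 k := by
  have h625 := card_E5 hk
  have hfE : Finite ↥(E5 k) := Nat.finite_of_card_ne_zero (by rw [h625]; norm_num)
  have hfK : Finite ↥K := Finite.of_injective (Subgroup.inclusion hK) (Subgroup.inclusion_injective hK)
  have h1 : Nat.card K ∣ 625 := by
    rw [← h625]
    exact Subgroup.card_dvd_of_le hK
  have h2 : 125 ∣ Nat.card K := by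
    rw [← hH1]
    exact Subgroup.card_dvd_of_le hHK
  obtain ⟨m, hm⟩ := h2
  rw [hm] at h1
  have h3 : m ∣ 5 := by
    have : 125 * m ∣ 125 * 5 := by simpa only [_root_.Nat.reduceMul] using h1
    exact Nat.dvd_of_mul_dvd_mul_left (by norm_num) this
  rcases (Nat.dvd_prime (by norm_num : Nat.Prime 5)).1 h3 with h4 | h4
  · left
    exact Subgroup.eq_of_le_of_card_ge hHK (by rw [hm, h4, hH1])
  · right
    exact Subgroup.eq_of_le_of_card_ge hK (by rw [hm, h4, h625])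

include hk in
/-- the kernel of a root containing `H` is `H` -/
theorem eq_KX {H : Subgroup ↥(chevE8.group k)} (hH : H ≤ E5 k) (hH1 : Nat.card H = 125) {a : Fin 8 → ℤ} (ha : Rt a)
    (h : ∀ t ∈ H, cX tp8 t a = 1) : H = KX k a := by
  rcases KX_dich hk hH1 (K := KX k a) (fun t ht => ⟨hH ht, h t ht⟩) (fun t ht => ht.1) with h1 | h1
  · exact h1
  · exact absurd h1 (KX_root_ne hk ha)

include hk in
/-- **The roots trivial on a subgroup of order 125.** -/
theorem roots_unique {H : Subgroup ↥(chevE8.group k)} (hH : H ≤ E5 k) (hH1 : Nat.card H = 125) {a b : Fin 8 → ℤ}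
    (ha : Rt a) (h : ∀ t ∈ H, cX tp8 t a = 1) (hb : Rt b) (h' : ∀ t ∈ H, cX tp8 t b = 1) :
    b ∈ ({a, -a, _root_.Cfsg.Agent.H865.EE.act w8 a, -_root_.Cfsg.Agent.H865.EE.act w8 a} : Set (Fin 8 → ℤ)) := by
  have hKa := eq_KX hk hH hH1 ha h
  have hKb := eq_KX hk hH hH1 hb h'
  obtain ⟨e, heE, heH⟩ : ∃ e ∈ E5 k, e ∉ H := by
    by_contra hcon
    push Not at hcon
    refine KX_root_ne hk ha ?_
    rw [← hKa]
    exact le_antisymm hH hcon
  have hζ1 : cX tp8 e a ≠ 1 := fun h1 => heH (by rw [hKa]; exact ⟨heE, h1⟩)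
  have hη1 : cX tp8 e b ≠ 1 := fun h1 => heH (by rw [hKb]; exact ⟨heE, h1⟩)
  have hmc := isMC_cX tp8 heE.1
  have hζ5 := cX_pow5 hk heE a
  have hη5 := cX_pow5 hk heE b
  have hprim : IsPrimitiveRoot (cX tp8 e a) 5 := by
    have : Fact (Nat.Prime 5) := ⟨by norm_num⟩
    rw [← orderOf_eq_prime hζ5 hζ1]
    exact IsPrimitiveRoot.orderOf _
  obtain ⟨i, hi, hie⟩ := hprim.eq_pow_of_pow_eq_one hη5
  -- a root of the list with the same value at `e`
  have key : ∀ c : Fin 8 → ℤ, Rt c → (∀ t ∈ E5 k, t ∈ H → cX tp8 t c = 1) → cX tp8 e c = cX tp8 e b → b = c := by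
    intro c hc hcH hce
    have h1 : H ≤ KX k (b - c) := by
      intro t ht
      refine ⟨hH ht, ?_⟩
      rw [(isMC_cX tp8 (hH ht).1).sub, h' t ht, hcH t (hH ht) ht, div_one]
    have h2 : e ∈ KX k (b - c) := by
      refine ⟨heE, ?_⟩
      rw [hmc.sub, hce, div_self (hmc.ne_zero b)]
    rcases KX_dich hk hH1 h1 (fun t ht => ht.1) with h3 | h3
    · rw [← h3] at h2
      exact absurd h2 heH
    · obtain ⟨y, hy⟩ := range_of_trivial hk (x := b - c) fun t ht => by
        rw [← h3] at ht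
        exact ht.2
      exact eq_of_sub_eq hb hc hy.symm
  have hw : Rt (_root_.Cfsg.Agent.H865.EE.act w8 a) := rt_act ha w8
  have hz0 := hmc.ne_zero a
  have t1 : ∀ t ∈ E5 k, t ∈ H → cX tp8 t (-a) = 1 := fun t ht htH => by
    rw [(isMC_cX tp8 ht.1).neg, h t htH, inv_one]
  have t2 : ∀ t ∈ E5 k, t ∈ H → cX tp8 t (_root_.Cfsg.Agent.H865.EE.act w8 a) = 1 := fun t ht htH => by
    rw [cX_w8 hk ht, h t htH, one_pow]
  have t3 : ∀ t ∈ E5 k, t ∈ H → cX tp8 t (-_root_.Cfsg.Agent.H865.EE.act w8 a) = 1 := fun t ht htH => by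
    rw [(isMC_cX tp8 ht.1).neg, t2 t ht htH, inv_one]
  have e4 : cX tp8 e (-a) = cX tp8 e a ^ 4 := by
    rw [hmc.neg]
    exact inv_eq_of_mul_eq_one_right (by rw [← pow_succ']; exact hζ5)
  have e3 : cX tp8 e (-_root_.Cfsg.Agent.H865.EE.act w8 a) = cX tp8 e a ^ 3 := by
    rw [hmc.neg, cX_w8 hk heE]
    exact inv_eq_of_mul_eq_one_right (by rw [← pow_add]; exact hζ5)
  simp only [Set.mem_insert_iff, Set.mem_singleton_iff]
  have hi' : i = 0 ∨ i = 1 ∨ i = 2 ∨ i = 3 ∨ i = 4 := by omega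
  rcases hi' with rfl | rfl | rfl | rfl | rfl
  · rw [pow_zero] at hie
    exact absurd hie.symm hη1
  · rw [pow_one] at hie
    exact Or.inl (key a ha (fun t _ ht => h t ht) hie)
  · exact Or.inr (Or.inr (Or.inl (key _ hw t2 (by rw [cX_w8 hk heE, hie]))))
  · exact Or.inr (Or.inr (Or.inr (key _ hw.neg t3 (by rw [e3, hie]))))
  · exact Or.inr (Or.inl (key _ ha.neg t1 (by rw [e4, hie])))

include hk in
/-- **Perfect subgroups of the centraliser of a subgroup of `E5`.** -/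
theorem perfect_le {H L : Subgroup ↥(chevE8.group k)} (hH : H ≤ E5 k) (hL : ⁅L, L⁆ = L)
    (hLH : ∀ x ∈ L, ∀ h ∈ H, x * h = h * x) {S : Set (Fin 8 → ℤ)}
    (hS : ∀ a, Rt a → (∀ t ∈ H, cX tp8 t a = 1) → a ∈ S) : L ≤ KK k S := by
  have Hh := tow tp8 cs8 hk 2
  have hC : Coords cs8 tp8.isCartan (TL (Tj tp8 (k := k))) (nc tp8 k) (XL (Xj tp8)) (xc tp8) (ch tp8) := by
    rw [TL_eq tp8 hk, XL_eq tp8 hk]
    exact coordsL tp8 cs8 hk 2
  have hTL := TL_eq (k := k) tp8 hk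
  have h625 := card_E5 hk
  have hfE : Finite ↥(E5 k) := Nat.finite_of_card_ne_zero (by rw [h625]; norm_num)
  have hfin : (H : Set ↥(chevE8.group k)).Finite :=
    Set.Finite.subset (Set.toFinite (E5 k : Set ↥(chevE8.group k))) hH
  have h1 := perfect_leZ Hh hC (GG_eq_top tp8 cs8 hk) (by rw [hTL]; exact TT_comm tp8)
    (by rw [hTL]; exact chAddL tp8 cs8 hk 2) hfin (by rw [hTL]; exact fun t ht => (hH ht).1)
    (by norm_num : Nat.Prime 5) (fun t ht => ⟨1, by rw [pow_one]; exact pow5 hk (hH ht)⟩) hL hLH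
  refine h1.trans ?_
  refine RGD.Sup_le fun a ha => ?_
  intro y hy
  obtain ⟨c, rfl⟩ := ((hC.coord a ha.1).mem y).1 hy
  exact Subgroup.subset_closure ⟨a, hS a ha.1 fun t ht => by
    rw [cX_root tp8 cs8 (hH ht).1 ha.1]
    exact ha.2 t ht, c, rfl⟩

end Tor

variable (k : Type) [Field k] [CharP k 2] [IsAlgClosed k] [PerfectRing k 2]

/-- **G5.** -/
theorem cent_hyp (hk : LocFin k) {H L : Subgroup ↥(chevE8.group k)} (hH : H ≤ E5 k) (hH1 : Nat.card H = 125)
    (hL : L ≤ H865.EE.GG k) (hL1 : ⁅L, L⁆ = L) (hL2 : L ≠ ⊥) (hLH : ∀ x ∈ L, ∀ h ∈ H, x * h = h * x) :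
    ∃ a, Rt a ∧ (∀ t ∈ E5 k, t ∈ H ↔ cX tp8 t a = 1) ∧ L ≤ KK k {a, -a, _root_.Cfsg.Agent.H865.EE.act w8 a, -_root_.Cfsg.Agent.H865.EE.act w8 a} := by
  obtain ⟨a, ha, hat⟩ : ∃ a, Rt a ∧ ∀ t ∈ H, cX tp8 t a = 1 := by
    by_contra hcon
    push Not at hcon
    apply hL2
    have h1 : L ≤ KK k ∅ := perfect_le hk hH hL1 hLH fun a ha h => by
      obtain ⟨t, ht, hne⟩ := hcon a ha
      exact absurd (h t ht) hne
    rw [eq_bot_iff]
    refine h1.trans ?_
    unfold KK
    rw [Subgroup.closure_le]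
    rintro _ ⟨a, ha, -⟩
    exact absurd ha (Set.notMem_empty a)
  refine ⟨a, ha, fun t ht => ?_, perfect_le hk hH hL1 hLH fun b hb h => roots_unique hk hH hH1 ha hat hb h⟩
  have h1 := eq_KX hk hH hH1 ha hat
  constructor
  · exact fun h => hat t h
  · intro h
    rw [h1]
    exact ⟨ht, h⟩

end Cfsg.Agent.H185.EE
end

-- part: H405/EE/Comm
section
/-!
# S3384, piece P: commutators in `chevE8.group k`, `k` of characteristic 2 (helper405)
-/

set_option autoImplicit false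
set_option linter.unusedSectionVars false

open CoxeterSystem Subgroup Cfsg Cfsg.Lie Cfsg.Lie.ChevalleyDatum
open Cfsg.Agent.ChevalleyStructure Cfsg.Agent.ChevalleyStructure.Elts Cfsg.Agent.ChevalleyStructure.CoxeterGeom
  Cfsg.Agent.ChevalleyStructure.CoxeterGeomTypes Cfsg.Agent.ChevalleyStructure.NPerm
  Cfsg.Agent.ChevalleyStructure.RootVec
open Cfsg.Agent.Tits.Roots Cfsg.Agent.Tits.Core Cfsg.Agent.Nodes Cfsg.Agent.Nodes.Reps Cfsg.Agent.Nodes.BNOf
  Cfsg.Agent.Nodes.RGDChev Cfsg.Agent.Nodes.Bruhat Cfsg.Agent.Nodes.Coroot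
open Cfsg.Agent.KFacts.RgdField Cfsg.Agent.KFacts.RgdChevCoord
open Cfsg.Agent.BpExc.TowChev Cfsg.Agent.H129.TorusChar Cfsg.Agent.H865.EE

namespace Cfsg.Agent.H405.EE

/-! ### simply laced tables -/

/-- every chain has one entry, with coefficient `±1` -/
def slOK (D : ChevalleyDatum) : Bool :=
  D.chain.toList.all fun row => row.toList.all fun e =>
    match e.2.toList with
    | [q] => q.2 == 1 || q.2 == -1
    | _ => false

theorem slOK_D4 : slOK chevD4 = true := by decide +kernel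
theorem slOK_E8 : slOK chevE8 = true := by decide +kernel

variable {D : ChevalleyDatum}

theorem chainEntry_sl (h : slOK D = true) (r s : ℕ) :
    D.chainEntry r s = [] ∨ ∃ u c, D.chainEntry r s = [(u, c)] ∧ (c = 1 ∨ c = -1) := by
  by_cases h0 : D.chainEntry r s = []
  · exact Or.inl h0
  right
  obtain ⟨e, he, -, h1⟩ := chainEntry_eq_some (D := D) r s h0
  have h2 : D.chain.getD r #[] ∈ D.chain.toList := by
    by_cases hr : r < D.chain.toList.length
    · rw [getD_toList D.chain #[] hr]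
      exact List.getElem_mem hr
    · exfalso
      have : D.chain.getD r #[] = #[] := by
        rw [Array.getD_eq_getD_getElem?, Array.getElem?_eq_none (by rw [Array.length_toList] at hr; omega)]
        rfl
      rw [row_def, this] at he
      simp at he
  have h3 := List.all_eq_true.1 (List.all_eq_true.1 h _ h2) e he
  rw [h1]
  rcases hE : e.2.toList with _ | ⟨⟨u, c⟩, _ | ⟨q, L⟩⟩
  · rw [hE] at h3; simp at h3
  · rw [hE] at h3
    refine ⟨u, c, rfl, ?_⟩
    simpa using h3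
  · rw [hE] at h3; simp at h3

theorem commTerms_sl (h : slOK D = true) (r s : ℕ) :
    (D.chainEntry r s = [] ∧ D.commTerms r s = []) ∨
      ∃ u c, D.chainEntry r s = [(u, c)] ∧ D.commTerms r s = [(u, c, 1, 1)] ∧ (c = 1 ∨ c = -1) := by
  have hlen : ∀ r s, (D.chainEntry r s).length ≤ 1 := by
    intro r s
    rcases chainEntry_sl h r s with h1 | ⟨u, c, h1, -⟩ <;> rw [h1] <;> simp
  have hroot : ∀ r s k, 2 ≤ k → D.chainRoot r s k = none := by
    intro r s k hk
    have := hlen r s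
    show ((D.chainEntry r s)[k - 1]?).map Prod.fst = none
    rw [List.getElem?_eq_none (by omega)]
    rfl
  have hdef : D.commTerms r s = ([ (D.chainRoot r s 1, D.chainM r s 1, 1, 1),
      (D.chainRoot r s 2, D.chainM r s 2, 2, 1),
      (D.chainRoot s r 2, D.chainM s r 2, 1, 2),
      (D.chainRoot r s 3, D.chainM r s 3, 3, 1),
      (D.chainRoot s r 3, - D.chainM s r 3, 1, 3),
      ((D.chainRoot r s 3).bind fun k => D.chainRoot k s 1, ((D.chainRoot r s 1).map fun k => D.chainM k r 2 / 3).getD 0, 3, 2),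
      ((D.chainRoot s r 3).bind fun k => D.chainRoot k r 1, ((D.chainRoot r s 1).map fun k => -2 * D.chainM k s 2 / 3).getD 0, 2, 3) ] :
      List (Option ℕ × ℤ × ℕ × ℕ)).filterMap fun c => c.1.map fun k => (k, c.2) := rfl
  rw [hroot r s 2 le_rfl, hroot s r 2 le_rfl, hroot r s 3 (by norm_num), hroot s r 3 (by norm_num)] at hdef
  have hM : D.chainM r s 1 = (((D.chainEntry r s)[0]?).map Prod.snd).getD 0 := rfl
  have hR : D.chainRoot r s 1 = ((D.chainEntry r s)[0]?).map Prod.fst := rfl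
  rcases chainEntry_sl h r s with h1 | ⟨u, c, h1, hc⟩
  · left
    refine ⟨h1, ?_⟩
    rw [h1] at hR
    rw [hdef, hR]
    simp only [_root_.List.length_nil, _root_.lt_self_iff_false, _root_.not_false_eq_true, _root_.getElem?_neg, _root_.Option.map_none, _root_.Option.bind_none, _root_.Option.getD_none, _root_.Int.reduceNeg, _root_.neg_mul, _root_.List.filterMap_cons_none, _root_.List.filterMap_nil]
  · right
    refine ⟨u, c, h1, ?_, hc⟩
    rw [h1] at hR hM
    rw [hdef, hR, hM]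
    simp only [_root_.List.length_cons, _root_.List.length_nil, _root_.zero_add, _root_.Order.lt_one_iff, _root_.getElem?_pos, _root_.List.getElem_cons_zero, _root_.Option.map_some, _root_.Option.getD_some, _root_.Option.bind_none, _root_.Int.reduceNeg, _root_.neg_mul, _root_.Option.some.injEq, _root_.List.filterMap_cons_some, _root_.Option.map_none, _root_.List.filterMap_cons_none, _root_.List.filterMap_nil]

/-! ### commutators in `chevE8.group k` -/

variable {k : Type} [Field k] [CharP k 2]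

theorem neg_one_eq : (-1 : k) = 1 := by
  have h : (2 : k) = 0 := CharTwo.two_eq_zero
  linear_combination (-1 : k) * h

theorem cast_pm {c : ℤ} (hc : c = 1 ∨ c = -1) : (c : k) = 1 := by
  rcases hc with rfl | rfl
  · simp
  · push_cast; exact neg_one_eq

/-- commutators with a simple root -/
theorem comm_simple (i : Fin 8) {b : Fin 8 → ℤ} (hb : Rt b) (h1 : b ≠ sr i) (h2 : b ≠ -sr i) (t u : k) :
    (bf (sr i) b = -1 → Rt (sr i + b) ∧
      (xc tp8 b u)⁻¹ * (xc tp8 (sr i) t)⁻¹ * xc tp8 b u * xc tp8 (sr i) t = xc tp8 (sr i + b) (t * u)) ∧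
    (bf (sr i) b ≠ -1 →
      (xc tp8 b u)⁻¹ * (xc tp8 (sr i) t)⁻¹ * xc tp8 b u * xc tp8 (sr i) t = 1) := by
  obtain ⟨s, hs, rfl⟩ := (RGDChev.isRoot_iff tp8 cs8 b).1 hb
  have hck := tp8.checked
  have hi := NPerm.simple_lt tp8.inList (lt_rank tp8 i)
  have hsr : s ≠ chevE8.simple i := by
    intro h; apply h1; rw [h, vec_simple tp8 i]
  have hsn : s ≠ chevE8.neg (chevE8.simple i) := by
    intro h; apply h2; rw [h, vec_neg tp8 hi, vec_simple tp8 i]
  have hbf : bf (sr i) (vec chevE8 8 s) = chevE8.cartan i s := by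
    rw [bf_comm, bf_sr, pairing_vec tp8 i hs]
  have hcomm : ((xc tp8 (vec chevE8 8 s) u)⁻¹ * (xc tp8 (sr i) t)⁻¹ * xc tp8 (vec chevE8 8 s) u * xc tp8 (sr i) t :
      ↥(chevE8.group k)).1 = wordG tp8.inList (chevE8.commWord k (chevE8.simple i) s t u) := by
    rw [Subgroup.coe_mul, Subgroup.coe_mul, Subgroup.coe_mul, Subgroup.coe_inv, Subgroup.coe_inv, coe_xc tp8 hs,
      ← vec_simple tp8 i, coe_xc tp8 hi, ← comm_xG tp8 hi hs hsr hsn t u, commutatorElement_def, inv_inv, inv_inv]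
  rcases commTerms_sl slOK_E8 (chevE8.simple i) s with ⟨e1, e2⟩ | ⟨v, c, e1, e2, hc⟩
  · have hw : chevE8.commWord k (chevE8.simple i) s t u = [] := by
      unfold ChevalleyDatum.commWord
      rw [e2, List.map_nil]
    rw [hw, wordG_nil] at hcomm
    refine ⟨fun h => ?_, fun _ => Subtype.ext hcomm⟩
    exfalso
    rw [hbf] at h
    obtain ⟨v, hv⟩ := refl_neg hck (lt_rank tp8 i) hs hsr hsn (by rw [h]; norm_num)
    have hR : chevE8.chainRoot (chevE8.simple i) s (-chevE8.cartan i s).toNat =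
      ((chevE8.chainEntry (chevE8.simple i) s)[(-chevE8.cartan i s).toNat - 1]?).map Prod.fst := rfl
    rw [hR, e1] at hv
    simp at hv
  · have hmem : (v, c, 1, 1) ∈ chevE8.commTerms (chevE8.simple i) s := by rw [e2]; exact List.mem_cons_self
    obtain ⟨hv, -, -, -, -, hvec⟩ := commTerms_rt hck hmem
    have hvec' : vec chevE8 8 v = sr i + vec chevE8 8 s := by
      rw [← vec_simple tp8 i]
      funext j
      rw [vec_apply, hvec, Pi.add_apply, vec_apply, vec_apply]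
      push_cast
      ring
    have hRv : Rt (sr i + vec chevE8 8 s) := by
      rw [← hvec']
      exact (RGDChev.isRoot_iff tp8 cs8 _).2 ⟨v, hv, rfl⟩
    have hw : chevE8.commWord k (chevE8.simple i) s t u = [(v, (c : k) * (-t) ^ 1 * u ^ 1)] := by
      unfold ChevalleyDatum.commWord
      rw [e2, List.map_cons, List.map_nil]
    have hval : (c : k) * (-t) ^ 1 * u ^ 1 = t * u := by
      rw [cast_pm hc, pow_one, pow_one, one_mul]
      have := neg_one_eq (k := k)
      linear_combination (t * u) * this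
    refine ⟨fun _ => ⟨hRv, Subtype.ext ?_⟩, fun h => ?_⟩
    · rw [hcomm, hw, wordG_cons, wordG_nil, mul_one, hval, ← hvec', coe_xc tp8 hv]
    · exfalso
      have n1 := bf_self hRv
      rw [bf_add_left, bf_add_right, bf_add_right, bf_sr_sr, bf_self hb, bf_comm (vec chevE8 8 s)] at n1
      apply h
      omega

/-- **commutators of root elements** -/
theorem comm_root (hk : LocFin k) {a b : Fin 8 → ℤ} (ha : Rt a) (hb : Rt b) (h1 : b ≠ a) (h2 : b ≠ -a) (t u : k) :
    (bf a b = -1 → Rt (a + b) ∧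
      (xc tp8 b u)⁻¹ * (xc tp8 a t)⁻¹ * xc tp8 b u * xc tp8 a t = xc tp8 (a + b) (t * u)) ∧
    (bf a b ≠ -1 → (xc tp8 b u)⁻¹ * (xc tp8 a t)⁻¹ * xc tp8 b u * xc tp8 a t = 1) := by
  obtain ⟨v, i, rfl⟩ := ha
  have hb' : Rt (_root_.Cfsg.Agent.H865.EE.act v⁻¹ b) := hb.act v⁻¹
  have hvb : _root_.Cfsg.Agent.H865.EE.act v (_root_.Cfsg.Agent.H865.EE.act v⁻¹ b) = b := rep_apply_inv _ _ _ _
  have hvs : ∀ x, _root_.Cfsg.Agent.H865.EE.act v⁻¹ (_root_.Cfsg.Agent.H865.EE.act v x) = x := fun x => by rw [← act_mul, inv_mul_cancel, act_one]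
  have h1' : _root_.Cfsg.Agent.H865.EE.act v⁻¹ b ≠ sr i := fun h => h1 (by rw [← hvb, h])
  have h2' : _root_.Cfsg.Agent.H865.EE.act v⁻¹ b ≠ -sr i := fun h => h2 (by rw [← hvb, h, map_neg])
  have hbf : bf (sr i) (_root_.Cfsg.Agent.H865.EE.act v⁻¹ b) = bf (_root_.Cfsg.Agent.H865.EE.act v (sr i)) b := by
    rw [← bf_act v, hvb]
  obtain ⟨g1, g2⟩ := comm_simple (k := k) i hb' h1' h2' t u
  have c1 := nu_conj tp8 (k := k) hk v (isRoot_sr cs8 tp8.isCartan i) t
  have c2 := nu_conj tp8 (k := k) hk v hb' u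
  have hvb' : rep cs8 tp8.isCartan v (_root_.Cfsg.Agent.H865.EE.act v⁻¹ b) = b := hvb
  rw [hvb'] at c2
  have key : (xc tp8 b u)⁻¹ * (xc tp8 (_root_.Cfsg.Agent.H865.EE.act v (sr i)) t)⁻¹ * xc tp8 b u * xc tp8 (_root_.Cfsg.Agent.H865.EE.act v (sr i)) t =
      nu tp8 k v * ((xc tp8 (_root_.Cfsg.Agent.H865.EE.act v⁻¹ b) u)⁻¹ * (xc tp8 (sr i) t)⁻¹ * xc tp8 (_root_.Cfsg.Agent.H865.EE.act v⁻¹ b) u * xc tp8 (sr i) t) *
        (nu tp8 k v)⁻¹ := by
    have c1' : xc tp8 (_root_.Cfsg.Agent.H865.EE.act v (sr i)) t = nu tp8 k v * xc tp8 (sr i) t * (nu tp8 k v)⁻¹ := c1.symm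
    rw [c1', ← c2]
    group
  rw [key]
  refine ⟨fun h => ?_, fun h => ?_⟩
  · rw [← hbf] at h
    obtain ⟨g3, g4⟩ := g1 h
    have e : _root_.Cfsg.Agent.H865.EE.act v (sr i) + b = _root_.Cfsg.Agent.H865.EE.act v (sr i + _root_.Cfsg.Agent.H865.EE.act v⁻¹ b) := by rw [map_add, hvb]
    refine ⟨by rw [e]; exact g3.act v, ?_⟩
    rw [g4, e]
    exact nu_conj tp8 (k := k) hk v g3 _
  · rw [← hbf] at h
    rw [g2 h, mul_one, mul_inv_cancel]

end Cfsg.Agent.H405.EE
end

-- part: H405/EE/Psi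
section
/-!
# S3384, piece P: the embedding of `chevD4.group k` into `chevE8.group k` in characteristic 2 (helper405)

`exists_psi` : four roots of `E₈` of type `D₄` give an injective homomorphism `x_a(c) ↦ x_(Σ a_i b_i)(c)`.
-/

set_option autoImplicit false
set_option linter.unusedSectionVars false

open CoxeterSystem Subgroup Cfsg Cfsg.Lie Cfsg.Lie.ChevalleyDatum
open Cfsg.Agent.ChevalleyStructure Cfsg.Agent.ChevalleyStructure.Elts Cfsg.Agent.ChevalleyStructure.CoxeterGeom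
  Cfsg.Agent.ChevalleyStructure.CoxeterGeomTypes Cfsg.Agent.ChevalleyStructure.NPerm
  Cfsg.Agent.ChevalleyStructure.RootVec
open Cfsg.Agent.Tits.Roots Cfsg.Agent.Tits.Core Cfsg.Agent.Nodes Cfsg.Agent.Nodes.Reps Cfsg.Agent.Nodes.BNOf
  Cfsg.Agent.Nodes.RGDChev Cfsg.Agent.Nodes.Bruhat Cfsg.Agent.Nodes.Coroot
open Cfsg.Agent.KFacts.RgdField Cfsg.Agent.KFacts.RgdChevCoord
open Cfsg.Agent.BpExc.TowChev Cfsg.Agent.H129.TorusChar Cfsg.Agent.H865.EE Cfsg.Agent.H405.UE

namespace Cfsg.Agent.H405.EE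

/-! ### the lattice map -/

/-- `Σ a_i b_i` -/
def Em (b : Fin 4 → Fin 8 → ℤ) (a : Fin 4 → ℤ) : Fin 8 → ℤ := ∑ i, a i • b i

theorem Em_add (b : Fin 4 → Fin 8 → ℤ) (a a' : Fin 4 → ℤ) : Em b (a + a') = Em b a + Em b a' := by
  unfold Em
  rw [← Finset.sum_add_distrib]
  exact Finset.sum_congr rfl fun i _ => by rw [Pi.add_apply, add_smul]

theorem Em_smul (b : Fin 4 → Fin 8 → ℤ) (m : ℤ) (a : Fin 4 → ℤ) : Em b (m • a) = m • Em b a := by
  unfold Em
  rw [Finset.smul_sum]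
  exact Finset.sum_congr rfl fun i _ => by rw [Pi.smul_apply, smul_eq_mul, mul_smul]

theorem Em_neg (b : Fin 4 → Fin 8 → ℤ) (a : Fin 4 → ℤ) : Em b (-a) = -Em b a := by
  have := Em_smul b (-1) a
  rwa [neg_one_smul, neg_one_smul] at this

theorem Em_sr (b : Fin 4 → Fin 8 → ℤ) (i : Fin 4) : Em b (sr i) = b i := by
  unfold Em
  rw [Finset.sum_eq_single i (fun j _ hj => by rw [sr_ne hj, zero_smul]) (fun h => absurd (Finset.mem_univ i) h),
    sr_self, one_smul]

theorem cartan4 (i j : Fin 4) : cartanOf chevD4 4 i j = if i = j then 2 else if _root_.Cfsg.Agent.H865.EE.Adj j i then -1 else 0 := by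
  revert i j; decide +kernel

theorem chk4 : ∀ r < 24, ∀ s < 24, chevD4.chainEntry r s = [] →
    ∑ i : Fin 4, vec chevD4 4 s i * chevD4.cartan i r ≠ -1 := by decide +kernel

theorem nr4 : chevD4.nroots = 24 := by decide +kernel

abbrev cs4 : CoxeterSystem coxeterD4 coxeterD4.Group := coxeterD4.toCoxeterSystem

section

variable {b : Fin 4 → Fin 8 → ℤ} (hb : ∀ i, Rt (b i))
  (hG : ∀ i j, i ≠ j → bf (b i) (b j) = if _root_.Cfsg.Agent.H865.EE.Adj i j then -1 else 0)

include hb hG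

theorem bf_bb (i j : Fin 4) : bf (b j) (b i) = cartanOf chevD4 4 i j := by
  rw [cartan4]
  by_cases hij : i = j
  · subst hij; rw [if_pos rfl, bf_self (hb i)]
  · rw [if_neg hij, hG j i (Ne.symm hij)]

theorem bf_Em (a : Fin 4 → ℤ) (i : Fin 4) : bf (Em b a) (b i) = pairing (cartanOf chevD4 4) i a := by
  unfold Em pairing
  rw [bf_sum_left]
  refine Finset.sum_congr rfl fun j _ => ?_
  rw [bf_smul_left, bf_bb hb hG, mul_comm]

theorem bf_Em_Em (a a' : Fin 4 → ℤ) :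
    bf (Em b a) (Em b a') = ∑ i, a' i * pairing (cartanOf chevD4 4) i a := by
  rw [bf_comm]
  conv_lhs => unfold Em
  rw [bf_sum_left]
  refine Finset.sum_congr rfl fun j _ => ?_
  rw [bf_smul_left, bf_comm, show (∑ i, a i • b i) = Em b a from rfl, bf_Em hb hG]

theorem Em_inj {a a' : Fin 4 → ℤ} (h : Em b a = Em b a') : a = a' := by
  have h1 : ∀ i, pairing (cartanOf chevD4 4) i a = pairing (cartanOf chevD4 4) i a' := fun i => by
    rw [← bf_Em hb hG, ← bf_Em hb hG, h]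
  have h2 := invC_D4
  have key : ∀ (x : Fin 4 → ℤ) (B : Fin 4 → Fin 4 → ℤ), InvC chevD4 4 2 B → ∀ m,
      ∑ j, B m j * pairing (cartanOf chevD4 4) j x = 2 * x m := by
    intro x B hB m
    unfold pairing
    simp only [Finset.mul_sum]
    rw [Finset.sum_comm]
    have : ∀ i ∈ Finset.univ, ∑ j, B m j * (cartanOf chevD4 4 j i * x i) = (if m = i then 2 else 0) * x i := by
      intro i _
      have h3 := hB m i
      push_cast at h3
      rw [← h3, Finset.sum_mul]
      exact Finset.sum_congr rfl fun j _ => by ring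
    rw [Finset.sum_congr rfl this, Finset.sum_eq_single m]
    · rw [if_pos rfl]
    · intro i _ hi; rw [if_neg (Ne.symm hi), zero_mul]
    · intro h; exact absurd (Finset.mem_univ m) h
  funext m
  have e1 := key a _ h2 m
  have e2 := key a' _ h2 m
  have e3 : 2 * a m = 2 * a' m := by
    rw [← e1, ← e2]
    exact Finset.sum_congr rfl fun j _ => by rw [h1 j]
  omega

theorem Em_root {a : Fin 4 → ℤ} (ha : IsRoot cs4 tp4.isCartan a) : Rt (Em b a) := by
  obtain ⟨w, i, rfl⟩ := ha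
  obtain ⟨ω, rfl⟩ := cs4.wordProd_surjective w
  induction ω with
  | nil =>
    rw [wordProd_nil, map_one, Module.End.one_apply, Em_sr]
    exact hb i
  | cons j ω ih =>
    rw [wordProd_cons, rep_mul_apply, rep_simple_eq]
    generalize rep cs4 tp4.isCartan (cs4.wordProd ω) (sr i) = a at ih ⊢
    have e : Em b (a - pairing (cartanOf chevD4 4) j a • sr j) = _root_.Cfsg.Agent.H865.EE.act (rf (b j)) (Em b a) := by
      rw [act_rf (hb j), bf_Em hb hG, sub_eq_add_neg, Em_add, Em_neg, Em_smul, Em_sr, ← sub_eq_add_neg]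
    rw [e]
    exact ih.act _

theorem Em_vec {r : ℕ} (hr : r < chevD4.nroots) : Rt (Em b (vec chevD4 4 r)) :=
  Em_root hb hG ((RGDChev.isRoot_iff tp4 cs4 _).2 ⟨r, hr, rfl⟩)

end

/-! ### the homomorphism on the presented group -/

variable (k : Type) [Field k]

/-- root elements -/
noncomputable def gn (b : Fin 4 → Fin 8 → ℤ) : Fin chevD4.nroots × k → ↥(chevE8.group k) :=
  fun p => xc tp8 (Em b (vec chevD4 4 p.1)) p.2

variable {k}

theorem xc_add (v : Fin 8 → ℤ) (s t : k) : xc tp8 v s * xc tp8 v t = xc tp8 v (s + t) :=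
  Subtype.ext (xG_add tp8.inList _ s t)

theorem xc_zero (v : Fin 8 → ℤ) : xc tp8 v (0 : k) = 1 := Subtype.ext (xG_zero tp8.inList _)

theorem lift_stX (b : Fin 4 → Fin 8 → ℤ) {r : ℕ} (hr : r < chevD4.nroots) (t : k) :
    FreeGroup.lift (gn k b) (chevD4.stX r t) = xc tp8 (Em b (vec chevD4 4 r)) t := by
  rw [St.Rels.stX_of_lt hr, FreeGroup.lift_apply_of]
  rfl

theorem lift_nil (b : Fin 4 → Fin 8 → ℤ) : FreeGroup.lift (gn k b) (chevD4.stWord ([] : List (ℕ × k))) = 1 := by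
  show FreeGroup.lift (gn k b) (List.prod []) = 1
  rw [List.prod_nil, map_one]

theorem lift_cons (b : Fin 4 → Fin 8 → ℤ) {p : ℕ × k} (hp : p.1 < chevD4.nroots) (w : List (ℕ × k)) :
    FreeGroup.lift (gn k b) (chevD4.stWord (p :: w)) =
      xc tp8 (Em b (vec chevD4 4 p.1)) p.2 * FreeGroup.lift (gn k b) (chevD4.stWord w) := by
  show FreeGroup.lift (gn k b) (List.prod (List.map _ (p :: w))) = _
  rw [List.map_cons, List.prod_cons, map_mul, lift_stX b hp]
  rfl

section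

variable {b : Fin 4 → Fin 8 → ℤ} (hb : ∀ i, Rt (b i))
  (hG : ∀ i j, i ≠ j → bf (b i) (b j) = if _root_.Cfsg.Agent.H865.EE.Adj i j then -1 else 0)

theorem hrt_xc {r : ℕ} (hr : r < chevE8.nroots) (t : k) : hrt tp8 r t =
    xc tp8 (vec chevE8 8 r) t * (xc tp8 (-vec chevE8 8 r) (-t⁻¹) * xc tp8 (vec chevE8 8 r) t) *
    (xc tp8 (vec chevE8 8 r) (-1) * (xc tp8 (-vec chevE8 8 r) (-(-1 : k)⁻¹) * xc tp8 (vec chevE8 8 r) (-1))) := by
  apply Subtype.ext
  have hn := RootVec.neg_lt tp8.checked hr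
  rw [← vec_neg tp8 hr]
  simp only [Subgroup.coe_mul, coe_xc tp8 hr, coe_xc tp8 hn]
  show hG tp8.inList r t = _
  rw [hG_def, nG_def, nG_def]

theorem hrt_mul {r : ℕ} (hr : r < chevE8.nroots) {s t : k} (hs : s ≠ 0) (ht : t ≠ 0) :
    hrt tp8 r s * hrt tp8 r t = hrt tp8 r (s * t) := by
  obtain ⟨φ, -, -, h3⟩ := exists_sl2 tp8 k hr
  have h := h3 (Units.mk0 s hs)
  have h' := h3 (Units.mk0 t ht)
  have h'' := h3 (Units.mk0 s hs * Units.mk0 t ht)
  rw [Units.val_mk0] at h h'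
  rw [Units.val_mul, Units.val_mk0, Units.val_mk0] at h''
  rw [← h, ← h', ← h'', ← map_mul]
  congr 1
  apply Subtype.ext
  show !![s, 0; 0, s⁻¹] * !![t, 0; 0, t⁻¹] = !![s * t, 0; 0, (s * t)⁻¹]
  ext i j
  (revert i j; simp [mul_comm, _root_.Fin.forall_fin_succ])

include hb hG

/-- the image of `h_r(t)` -/
theorem lift_stH {r : ℕ} (hr : r < chevD4.nroots) {r' : ℕ} (hr' : r' < chevE8.nroots)
    (e : vec chevE8 8 r' = Em b (vec chevD4 4 r)) (t : k) :
    FreeGroup.lift (gn k b) (chevD4.stH r t) = hrt tp8 r' t := by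
  have hn := RootVec.neg_lt tp4.checked hr
  rw [hrt_xc hr', e, ← Em_neg, ← vec_neg tp4 hr]
  show FreeGroup.lift (gn k b) (chevD4.stWord ((r, t) :: (chevD4.neg r, -t⁻¹) :: (r, t) :: (r, -1) ::
    (chevD4.neg r, -(-1)⁻¹) :: (r, -1) :: [])) = _
  rw [lift_cons b hr, lift_cons b hn, lift_cons b hr, lift_cons b hr, lift_cons b hn, lift_cons b hr, lift_nil]
  simp only [mul_assoc, mul_one]

variable [CharP k 2]

theorem lift_rel (hk : LocFin k) : ∀ r ∈ chevD4.steinbergRels k, FreeGroup.lift (gn k b) r = 1 := by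
  rintro g ((⟨r, t₁, t₂, hr, rfl⟩ | ⟨r, s, t, u, hr, hs, hsr, hsn, rfl⟩) | ⟨r, t₁, t₂, hr, h₁, h₂, rfl⟩)
  · rw [map_mul, map_mul, map_inv, lift_stX b hr, lift_stX b hr, lift_stX b hr, xc_add, mul_inv_cancel]
  · rw [map_mul, map_mul, map_mul, map_mul, map_inv, map_inv, map_inv, lift_stX b hs, lift_stX b hr]
    have hRr := Em_vec hb hG hr
    have hRs := Em_vec hb hG hs
    have hne : Em b (vec chevD4 4 s) ≠ Em b (vec chevD4 4 r) := fun h =>
      hsr (vec_inj tp4 hs hr (Em_inj hb hG h))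
    have hne' : Em b (vec chevD4 4 s) ≠ -Em b (vec chevD4 4 r) := fun h => by
      rw [← Em_neg, ← vec_neg tp4 hr] at h
      exact hsn (vec_inj tp4 hs (RootVec.neg_lt tp4.checked hr) (Em_inj hb hG h))
    obtain ⟨c1, c2⟩ := comm_root (k := k) hk hRr hRs hne hne' t u
    have hbf : bf (Em b (vec chevD4 4 r)) (Em b (vec chevD4 4 s)) =
        ∑ i : Fin 4, vec chevD4 4 s i * chevD4.cartan i r := by
      rw [bf_Em_Em hb hG]
      exact Finset.sum_congr rfl fun i _ => by rw [pairing_vec tp4 i hr]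
    rcases commTerms_sl slOK_D4 r s with ⟨e1, e2⟩ | ⟨v, c, e1, e2, hc⟩
    · have hw : chevD4.commWord k r s t u = [] := by
        unfold ChevalleyDatum.commWord
        rw [e2, List.map_nil]
      rw [hw, lift_nil, inv_one, mul_one]
      apply c2
      rw [hbf]
      exact chk4 r (nr4 ▸ hr) s (nr4 ▸ hs) e1
    · have hmem : (v, c, 1, 1) ∈ chevD4.commTerms r s := by rw [e2]; exact List.mem_cons_self
      obtain ⟨hv, -, -, -, -, hvec⟩ := commTerms_rt tp4.checked hmem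
      have hvec' : vec chevD4 4 v = vec chevD4 4 r + vec chevD4 4 s := by
        funext j
        rw [vec_apply, hvec, Pi.add_apply, vec_apply, vec_apply]
        push_cast
        ring
      have hw : chevD4.commWord k r s t u = [(v, (c : k) * (-t) ^ 1 * u ^ 1)] := by
        unfold ChevalleyDatum.commWord
        rw [e2, List.map_cons, List.map_nil]
      have hval : (c : k) * (-t) ^ 1 * u ^ 1 = t * u := by
        rw [cast_pm hc, pow_one, pow_one, one_mul]
        have := neg_one_eq (k := k)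
        linear_combination (t * u) * this
      have hRv := Em_vec hb hG hv
      have hbf2 : bf (Em b (vec chevD4 4 r)) (Em b (vec chevD4 4 s)) = -1 := by
        have n1 := bf_self hRv
        rw [hvec', Em_add, bf_add_left, bf_add_right, bf_add_right, bf_self hRr, bf_self hRs,
          bf_comm (Em b (vec chevD4 4 s))] at n1
        omega
      rw [hw, lift_cons b hv, lift_nil, mul_one, hval, (c1 hbf2).2, hvec', Em_add, mul_inv_cancel]
  · obtain ⟨r', hr', e⟩ := (RGDChev.isRoot_iff tp8 cs8 _).1 (Em_vec hb hG hr)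
    rw [map_mul, map_mul, map_inv, lift_stH hb hG hr hr' e, lift_stH hb hG hr hr' e, lift_stH hb hG hr hr' e,
      hrt_mul hr' h₁ h₂, mul_inv_cancel]

end

end Cfsg.Agent.H405.EE
end

-- part: H405/EE/Psi2
section
/-!
# S3384, piece P: the embedding of `chevD4.group k` into `chevE8.group k` in characteristic 2, end (helper405)

`exists_psi` : four roots of `E₈` of type `D₄` give an injective homomorphism `x_a(c) ↦ x_(Σ a_i b_i)(c)`.
-/

set_option autoImplicit false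
set_option linter.unusedSectionVars false

open CoxeterSystem Subgroup Cfsg Cfsg.Lie Cfsg.Lie.ChevalleyDatum
open Cfsg.Agent.ChevalleyStructure Cfsg.Agent.ChevalleyStructure.Elts Cfsg.Agent.ChevalleyStructure.CoxeterGeom
  Cfsg.Agent.ChevalleyStructure.CoxeterGeomTypes Cfsg.Agent.ChevalleyStructure.NPerm
  Cfsg.Agent.ChevalleyStructure.RootVec Cfsg.Agent.ChevalleyStructure.StTheta
open Cfsg.Agent.Tits.Roots Cfsg.Agent.Tits.Core Cfsg.Agent.Nodes Cfsg.Agent.Nodes.Reps Cfsg.Agent.Nodes.BNOf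
  Cfsg.Agent.Nodes.RGDChev Cfsg.Agent.Nodes.Bruhat Cfsg.Agent.Nodes.Coroot
open Cfsg.Agent.KFacts.RgdField Cfsg.Agent.KFacts.RgdChevCoord
open Cfsg.Agent.BpExc.TowChev Cfsg.Agent.H129.TorusChar Cfsg.Agent.H865.EE Cfsg.Agent.H405.UE

namespace Cfsg.Agent.H405.EE

variable {k : Type} [Field k] [CharP k 2]

theorem neg_isRt {a : Fin 8 → ℤ} (ha : Rt a) : Rt (-a) := IsRoot.neg ha

/-- characters of root torus elements -/
theorem cX_hrt (hk : LocFin k) {r : ℕ} (hr : r < chevE8.nroots) (c : kˣ) (v : Fin 8 → ℤ) :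
    cX tp8 (hrt tp8 r (c : k)) v = ((c ^ bf v (vec chevE8 8 r) : kˣ) : k) := by
  obtain ⟨w, i, hw⟩ : Rt (vec chevE8 8 r) := (RGDChev.isRoot_iff tp8 cs8 _).2 ⟨r, hr, rfl⟩
  have hi := NPerm.simple_lt tp8.inList (lt_rank tp8 i)
  have e : hrt tp8 r (c : k) = nu tp8 k w * hc tp8 i (c : k) * (nu tp8 k w)⁻¹ := by
    have c1 := fun t : k => nu_conj tp8 (k := k) hk w (isRoot_sr cs8 tp8.isCartan i) t
    have c2 := fun t : k => nu_conj tp8 (k := k) hk w (neg_isRt (isRoot_sr cs8 tp8.isCartan i)) t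
    rw [← hw] at c1
    rw [map_neg, ← hw] at c2
    rw [hc_eq_hrt, hrt_xc hr, hrt_xc hi, vec_simple tp8 i]
    simp only [← c1, ← c2]
    group
  have h3 := cX_rp tp8 cs8 hk 2 (nu_rp tp8 hk w) (hc_mem tp8 i c.ne_zero) (_root_.Cfsg.Agent.H865.EE.act w⁻¹ v)
  have h4 : rep cs8 tp8.isCartan w (_root_.Cfsg.Agent.H865.EE.act w⁻¹ v) = v := rep_apply_inv _ _ _ _
  rw [h4] at h3
  rw [e, h3, cX_hc, ← bf_sr, ← bf_act w, show _root_.Cfsg.Agent.H865.EE.act w (_root_.Cfsg.Agent.H865.EE.act w⁻¹ v) = v from h4, ← hw]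

section

variable {b : Fin 4 → Fin 8 → ℤ} (hb : ∀ i, Rt (b i))
  (hG : ∀ i j, i ≠ j → bf (b i) (b j) = if _root_.Cfsg.Agent.H865.EE.Adj i j then -1 else 0) (hk : LocFin k)

/-- the homomorphism on the presented group -/
noncomputable def psi0 : chevD4.SteinbergGroup k →* ↥(chevE8.group k) :=
  PresentedGroup.toGroup (f := gn k b) (lift_rel hb hG hk)

theorem psi0_mk (w : FreeGroup (Fin chevD4.nroots × k)) :
    psi0 hb hG hk (PresentedGroup.mk (chevD4.steinbergRels k) w) = FreeGroup.lift (gn k b) w := rfl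

theorem psi0_stGen {r : ℕ} (hr : r < chevD4.nroots) (t : k) :
    psi0 hb hG hk (chevD4.stGen k r t) = xc tp8 (Em b (vec chevD4 4 r)) t := lift_stX b hr t

/-- the subgroup generated by the `h_i(t)` -/
abbrev Hb (k : Type) [Field k] : Subgroup (chevD4.SteinbergGroup k) :=
  Subgroup.closure {h | ∃ (i : ℕ) (t : k), i < chevD4.rank ∧ t ≠ 0 ∧
    h = PresentedGroup.mk (chevD4.steinbergRels k) (chevD4.stH (chevD4.simple i) t)}

theorem Hb_char {z : chevD4.SteinbergGroup k} (hz : z ∈ Hb k) :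
    psi0 hb hG hk z ∈ TT chevE8 k ∧ ∃ t : Fin 4 → kˣ, ∀ v : Fin 8 → ℤ,
      cX tp8 (psi0 hb hG hk z) v = ((∏ j, t j ^ bf v (b j) : kˣ) : k) := by
  induction hz using Subgroup.closure_induction with
  | one =>
    rw [map_one]
    refine ⟨one_mem _, fun _ => 1, fun v => ?_⟩
    rw [cX_one]
    simp
  | mem x hx =>
    obtain ⟨i, c, hi, hc0, rfl⟩ := hx
    have hi4 : i < 4 := hi
    have hil := lt_rank tp4 (⟨i, hi4⟩ : Fin 4)
    have hs := NPerm.simple_lt tp4.inList hil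
    have hvs : vec chevD4 4 (chevD4.simple i) = sr (⟨i, hi4⟩ : Fin 4) := vec_simple tp4 (⟨i, hi4⟩ : Fin 4)
    obtain ⟨r', hr', e⟩ := (RGDChev.isRoot_iff tp8 cs8 _).1 (hb ⟨i, hi4⟩)
    have e2 : vec chevE8 8 r' = Em b (vec chevD4 4 (chevD4.simple i)) := by
      rw [hvs, Em_sr]; exact e
    rw [psi0_mk, lift_stH hb hG hs hr' e2]
    have h1 := hrt_mem tp8 hr' (Units.mk0 c hc0)
    rw [Units.val_mk0] at h1
    refine ⟨h1, fun j => if j = ⟨i, hi4⟩ then Units.mk0 c hc0 else 1, fun v => ?_⟩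
    have h2 := cX_hrt hk hr' (Units.mk0 c hc0) v
    rw [Units.val_mk0] at h2
    rw [h2, Finset.prod_eq_single (⟨i, hi4⟩ : Fin 4)]
    · show _ = ((((if (⟨i, hi4⟩ : Fin 4) = ⟨i, hi4⟩ then Units.mk0 c hc0 else 1) : kˣ) ^ bf v (b ⟨i, hi4⟩) : kˣ) : k)
      rw [if_pos rfl, e]
    · intro j _ hj
      show (if j = (⟨i, hi4⟩ : Fin 4) then Units.mk0 c hc0 else 1) ^ bf v (b j) = 1
      rw [if_neg hj, one_zpow]
    · intro h; exact absurd (Finset.mem_univ _) h
  | mul x y _ _ ihx ihy =>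
    obtain ⟨hx, t, ht⟩ := ihx
    obtain ⟨hy, u, hu⟩ := ihy
    rw [map_mul]
    refine ⟨mul_mem hx hy, fun j => t j * u j, fun v => ?_⟩
    rw [cX_mul tp8 hx hy, ht, hu, ← Units.val_mul, ← Finset.prod_mul_distrib]
    congr 1
    exact Finset.prod_congr rfl fun j _ => (mul_zpow _ _ _).symm
  | inv x _ ih =>
    obtain ⟨hx, t, ht⟩ := ih
    rw [map_inv]
    refine ⟨inv_mem hx, fun j => (t j)⁻¹, fun v => ?_⟩
    have h1 : cX tp8 ((psi0 hb hG hk x)⁻¹) v * cX tp8 (psi0 hb hG hk x) v = 1 := by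
      rw [← cX_mul tp8 (inv_mem hx) hx, inv_mul_cancel, cX_one]
    rw [ht] at h1
    have h2 := eq_inv_of_mul_eq_one_left h1
    rw [h2, ← Units.val_inv_eq_inv_val, ← Finset.prod_inv_distrib]
    congr 1
    exact Finset.prod_congr rfl fun j _ => (inv_zpow _ _).symm

/-- torus elements commuting with a root subgroup -/
theorem cX_of_comm {t : ↥(chevE8.group k)} (ht : t ∈ TT chevE8 k) {a : Fin 8 → ℤ} (ha : Rt a)
    (h : t * xc tp8 a 1 = xc tp8 a 1 * t) : cX tp8 t a = 1 := by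
  obtain ⟨r, hr, rfl⟩ := (RGDChev.isRoot_iff tp8 cs8 _).1 ha
  have h1 := TT_zz tp8 ht hr 1
  rw [← zz_vec tp8 hr, ← zz_vec tp8 hr, h, mul_one] at h1
  exact (xc_inj tp8 hr (mul_right_cancel h1)).symm

theorem psi0_center {z : chevD4.SteinbergGroup k} (hz : z ∈ Hb k)
    (hc : z ∈ Subgroup.center (chevD4.SteinbergGroup k)) : psi0 hb hG hk z = 1 := by
  obtain ⟨hT, t, ht⟩ := Hb_char hb hG hk hz
  have h1 : ∀ i, ∏ j, t j ^ cartanOf chevD4 4 j i = 1 := by
    intro i
    have hs := NPerm.simple_lt tp4.inList (lt_rank tp4 i)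
    have h2 : cX tp8 (psi0 hb hG hk z) (b i) = 1 := by
      apply cX_of_comm hT (hb i)
      have h3 := psi0_stGen hb hG hk hs 1
      rw [vec_simple tp4 i, Em_sr] at h3
      rw [← h3, ← map_mul, ← map_mul, Subgroup.mem_center_iff.1 hc]
    rw [ht] at h2
    have h4 : (∏ j, t j ^ bf (b i) (b j) : kˣ) = 1 := Units.ext h2
    rw [← h4]
    refine Finset.prod_congr rfl fun j _ => ?_
    rw [bf_bb hb hG]
  have hsymm : ∀ i j, cartanOf chevD4 4 i j = cartanOf chevD4 4 j i := by decide +kernel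
  have key : ∀ (B : Fin 4 → Fin 4 → ℤ), InvC chevD4 4 2 B → ∀ m, t m ^ (2 : ℤ) = 1 := by
    intro B hB m
    have h5 : ∏ i, (∏ j, t j ^ cartanOf chevD4 4 j i) ^ B m i = 1 :=
      Finset.prod_eq_one fun i _ => by rw [h1, one_zpow]
    have h6 : ∏ i, (∏ j, t j ^ cartanOf chevD4 4 j i) ^ B m i = ∏ j, t j ^ (∑ i, B m i * cartanOf chevD4 4 i j) := by
      simp only [← Finset.prod_zpow]
      rw [Finset.prod_comm]
      refine Finset.prod_congr rfl fun j _ => ?_
      rw [← prod_zpow_sum]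
      refine Finset.prod_congr rfl fun i _ => ?_
      rw [← zpow_mul, hsymm i j, mul_comm]
    rw [h6, Finset.prod_eq_single m] at h5
    · have h7 := hB m m
      rw [if_pos rfl] at h7
      push_cast at h7
      rw [h7] at h5
      exact h5
    · intro j _ hj
      have h7 := hB m j
      rw [if_neg (Ne.symm hj)] at h7
      rw [h7, zpow_zero]
    · intro h; exact absurd (Finset.mem_univ m) h
  have ht1 : ∀ m, t m = 1 := by
    intro m
    have h8 := key _ invC_D4 m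
    have h9 : ((t m : kˣ) : k) ^ 2 = 1 := by
      have := congrArg (fun u : kˣ => (u : k)) h8
      simpa only [zpow_ofNat, _root_.sq_eq_one_iff, _root_.Units.val_eq_one, _root_.Units.val_eq_neg_one, _root_.Units.val_pow_eq_pow_val, _root_.Units.val_one] using this
    have h10 : ((t m : k) - 1) ^ 2 = 0 := by
      have h2 : (2 : k) = 0 := CharTwo.two_eq_zero
      linear_combination h9 + (1 - (t m : k)) * h2
    have h11 := pow_eq_zero_iff (two_ne_zero) |>.1 h10
    exact Units.ext (by rw [Units.val_one]; exact sub_eq_zero.1 h11)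
  refine cX_inj tp8 hT (one_mem _) fun i => ?_
  rw [ht, cX_one]
  simp [ht1]

theorem hth (r : ℕ) (t : k) (_ : r < chevD4.nroots) :
    ((theta tp4.inList k (chevD4.stGen k r t) : GL chevD4.Idx k) : Matrix chevD4.Idx chevD4.Idx k) =
      chevD4.x k r t := theta_stGen tp4.inList r t

theorem ker_le : (theta (D := chevD4) tp4.inList k).ker ≤ (psi0 hb hG hk).ker := by
  intro z hz
  rw [MonoidHom.mem_ker]
  have h1 : z ∈ Hb k := Cfsg.Agent.S1097.result chevD4 tp4.inList (theta tp4.inList k) hth hz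
  apply psi0_center hb hG hk h1
  have hgH := h1
  have hg1 : thetaGL tp4.inList k z = 1 := by
    rw [← coe_theta, MonoidHom.mem_ker.1 hz]; rfl
  rw [Subgroup.mem_center_iff]
  have hcent : ∀ x : chevD4.SteinbergGroup k, x ∈ Subgroup.centralizer {z} := by
    apply St.Rels.mem_of_gens
    intro s hs t
    obtain ⟨a, -, ha⟩ := Cfsg.Agent.S1077.exists_scalar tp4.inList hgH hs
    have h1 := congrArg (thetaGL tp4.inList k) (ha t)
    rw [map_mul, map_mul, map_inv, hg1, one_mul, inv_one, mul_one, thetaGL_stGen, thetaGL_stGen] at h1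
    have h2 : t = a * t := xG_injective tp4.inList hs h1
    have h3 := ha t
    rw [← h2] at h3
    rw [Subgroup.mem_centralizer_singleton_iff]
    rw [mul_inv_eq_iff_eq_mul] at h3
    exact h3.symm
  intro x
  exact Subgroup.mem_centralizer_singleton_iff.1 (hcent x)

/-- the homomorphism on the Chevalley group -/
noncomputable def psi : ↥(chevD4.group k) →* ↥(chevE8.group k) :=
  MonoidHom.liftOfSurjective (theta (D := chevD4) tp4.inList k) (theta_surjective tp4.inList)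
    ⟨psi0 hb hG hk, ker_le hb hG hk⟩

theorem psi_theta (x : chevD4.SteinbergGroup k) : psi hb hG hk (theta tp4.inList k x) = psi0 hb hG hk x :=
  MonoidHom.liftOfRightInverse_comp_apply _ _ _ ⟨psi0 hb hG hk, ker_le hb hG hk⟩ x

theorem psi_xc {a : Fin 4 → ℤ} (ha : IsRoot cs4 tp4.isCartan a) (c : k) :
    psi hb hG hk (xc tp4 a c) = xc tp8 (Em b a) c := by
  obtain ⟨r, hr, rfl⟩ := (RGDChev.isRoot_iff tp4 cs4 _).1 ha
  rw [← psi0_stGen hb hG hk hr c, ← psi_theta]
  congr 1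
  apply Subtype.ext
  rw [coe_xc tp4 hr, coe_theta, thetaGL_stGen]

theorem psi_injective : Function.Injective (psi hb hG hk) := by
  rw [injective_iff_map_eq_one]
  have hsim := (Cfsg.Agent.S1054.result (F := k) chevD4 (by simp)).1
  have hn : (psi hb hG hk).ker.Normal := inferInstance
  rcases hn.eq_bot_or_eq_top with h | h
  · intro a ha
    have : a ∈ (psi hb hG hk).ker := ha
    rw [h] at this
    exact this
  · exfalso
    have h1 : psi hb hG hk (xc tp4 (sr 0) 1) = 1 := by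
      have : (xc tp4 (sr 0) 1 : ↥(chevD4.group k)) ∈ (psi hb hG hk).ker := by rw [h]; trivial
      exact this
    rw [psi_xc hb hG hk (isRoot_sr cs4 tp4.isCartan 0), Em_sr] at h1
    obtain ⟨r, hr, e⟩ := (RGDChev.isRoot_iff tp8 cs8 _).1 (hb 0)
    rw [← e, ← xc_zero (k := k) (vec chevE8 8 r)] at h1
    exact one_ne_zero (xc_inj tp8 hr h1)

end

/-- **Piece P.** -/
theorem exists_psi (k : Type) [Field k] [CharP k 2] [IsAlgClosed k] (hk : LocFin k) (b : Fin 4 → Fin 8 → ℤ)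
    (hb : ∀ i, Rt (b i)) (hG : ∀ i j, i ≠ j → bf (b i) (b j) = if _root_.Cfsg.Agent.H865.EE.Adj i j then -1 else 0) :
    ∃ ψ : ↥(chevD4.group k) →* ↥(chevE8.group k), Function.Injective ψ ∧
      ∀ a : Fin 4 → ℤ, IsRoot coxeterD4.toCoxeterSystem tp4.isCartan a →
        Rt (∑ i, a i • b i) ∧ ∀ c : k, ψ (xc tp4 a c) = xc tp8 (∑ i, a i • b i) c :=
  ⟨psi hb hG hk, psi_injective hb hG hk, fun _ ha => ⟨Em_root hb hG ha, fun c => psi_xc hb hG hk ha c⟩⟩

end Cfsg.Agent.H405.EE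
end

-- part: H857/OE8/Main
section
/-!
# Piece X of S3384 : the subgroups `XB k b` (helper857)
-/

set_option autoImplicit false
set_option linter.unusedSectionVars false

namespace Cfsg.Agent.H857.OX

open Cfsg Cfsg.Lie Cfsg.Agent.H865.EE Cfsg.Agent.H857.OE8
open Cfsg.Agent.KFacts.RgdChevCoord hiding act
open Cfsg.Agent.BpExc.TowChev

universe u

/-- `Ω₈⁺(F)` depends on the number of elements of `F` only. -/
theorem omega_congr {F F' : Type*} [Field F] [Field F'] (σ : F ≃+* F') :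
    Nonempty (↥(Omega F (quadFormPlus 4 F)) ≃* ↥(Omega F' (quadFormPlus 4 F'))) := by
  have h : ∀ v : Fin 4 ⊕ Fin 4 → F, quadFormPlus 4 F' (σ ∘ v) = σ (quadFormPlus 4 F v) := fun v => by
    simp [quadFormPlus, map_sum, map_mul]
  exact Cfsg.Agent.UGT.U2.Rec.Congr.commutator_equiv
    (((Cfsg.Agent.UGT.U2.Rec.Congr.glEquiv σ).subgroupMap (isometryGroup F (quadFormPlus 4 F))).trans
      (MulEquiv.subgroupCongr (Cfsg.Agent.UGT.U2.Rec.Congr.map_isometryGroup σ h)))

variable {k : Type} [Field k] [CharP k 2] [PerfectRing k 2] [IsAlgClosed k]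

theorem exists_isPsi (hk : LocFin k) {b : Fin 4 → Fin 8 → ℤ} (hb : Quad b) :
    ∃ psi : ↥(chevD4.group k) →* ↥(chevE8.group k), IsPsi b psi := by
  obtain ⟨psi, -, h⟩ := Cfsg.Agent.H405.EE.exists_psi k hk b hb.root hb.ad
  exact ⟨psi, fun a ha c => (h a ha).2 c⟩

theorem xb_iso (hk : LocFin k) {b : Fin 4 → Fin 8 → ℤ} (hb : Quad b) (F : Type u) [Field F] [Fintype F]
    (hF : Fintype.card F = 4) : Nonempty (↥(XB k b) ≃* ↥(Cfsg.Omega F (Cfsg.quadFormPlus 4 F))) := by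
  obtain ⟨psi, hpsi⟩ := exists_isPsi hk hb
  let _ : Fintype (GaloisField 2 2) := Fintype.ofFinite _
  have h4 : Fintype.card (GaloisField 2 2) = 4 := by
    rw [← Nat.card_eq_fintype_card, GaloisField.card 2 2 (by norm_num)]
    norm_num
  obtain ⟨e⟩ := xb_omega hb hpsi hk (F := GaloisField 2 2) h4
  obtain ⟨e'⟩ := omega_congr (FiniteField.ringEquivOfCardEq (K := GaloisField 2 2) (K' := F) (h4.trans hF.symm))
  exact ⟨e.trans e'⟩

theorem e5_le (hk : LocFin k) {b : Fin 4 → Fin 8 → ℤ} (hb : Quad b) : E5 k ≤ XB k b := by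
  obtain ⟨psi, hpsi⟩ := exists_isPsi hk hb
  exact OE8.e5_le hb hpsi hk

theorem mem_of_nu_mem (hk : LocFin k) {b : Fin 4 → Fin 8 → ℤ} (hb : Quad b) {v : W8} {t : ↥(chevE8.group k)}
    (ht : t ∈ TT chevE8 k) (h : nu tp8 k v * t ∈ XB k b) : v ∈ Subgroup.closure (Set.range fun i => rr (b i)) := by
  obtain ⟨psi, hpsi⟩ := exists_isPsi hk hb
  obtain ⟨ω, rfl⟩ := eq_prod_rr hb hpsi hk ht h
  refine Subgroup.list_prod_mem _ fun x hx => ?_
  obtain ⟨i, -, rfl⟩ := List.mem_map.1 hx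
  exact Subgroup.subset_closure ⟨i, rfl⟩

theorem nu_mem (hk : LocFin k) {b : Fin 4 → Fin 8 → ℤ} (hb : Quad b) {v : W8}
    (h : v ∈ Subgroup.closure (Set.range fun i => rr (b i))) : nu tp8 k v ∈ XB k b := by
  have h1 : Subgroup.closure (Set.range fun i => rr (b i)) ≤ (XB k b).comap (nu tp8 k) := by
    rw [Subgroup.closure_le]
    rintro _ ⟨i, rfl⟩
    refine nu_rr_mem hk ⟨hb.root i, Cfsg.Agent.Tits.Roots.sr i, ?_⟩
    exact (sp_sr b i).symm
  exact h1 h

theorem ss_of_xb (hk : LocFin k) {b b' : Fin 4 → Fin 8 → ℤ} (hb : Quad b) (hb' : Quad b') (h : XB k b = XB k b') :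
    SS b = SS b' := by
  obtain ⟨psi, hpsi⟩ := exists_isPsi hk hb
  obtain ⟨psi', hpsi'⟩ := exists_isPsi hk hb'
  exact Set.Subset.antisymm (ss_le hb' hpsi' hk h.le) (ss_le hb hpsi hk h.ge)

end Cfsg.Agent.H857.OX
end

-- part: H865/EE/Facts2
section
/-!
# The pieces of S3384, collected (helper865)

X: helper857; G5: helper185; C1: helper136; T4: helper342, helper893; J: helper96.
-/

set_option autoImplicit false
namespace Cfsg.Agent.H865.EE
open CoxeterSystem Subgroup Cfsg Cfsg.Lie Cfsg.Lie.ChevalleyDatum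
open Cfsg.Agent.ChevalleyStructure Cfsg.Agent.ChevalleyStructure.Elts Cfsg.Agent.ChevalleyStructure.CoxeterGeom
  Cfsg.Agent.ChevalleyStructure.CoxeterGeomTypes Cfsg.Agent.ChevalleyStructure.NPerm
open Cfsg.Agent.Tits.Roots Cfsg.Agent.Tits.Core Cfsg.Agent.Nodes Cfsg.Agent.Nodes.SubComb Cfsg.Agent.Nodes.Reps
  Cfsg.Agent.Nodes.BNOf Cfsg.Agent.Nodes.RGDChev Cfsg.Agent.Nodes.Bruhat Cfsg.Agent.Nodes.Coroot
open Cfsg.Agent.KFacts.RgdField Cfsg.Agent.KFacts.RgdChevCoord Cfsg.Agent.BpExc.TorCent Cfsg.Agent.BpExc.TorChev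
open Cfsg.Agent.GpExc.Field Cfsg.Agent.BpExc.Tow Cfsg.Agent.BpExc.TowChev Cfsg.Agent.BpExc.Fr
  Cfsg.Agent.BpExc.LangFr Cfsg.Agent.BpExc.FamField Cfsg.Agent.BpExc.FamInst Cfsg.Agent.H129.TorusChar
  Cfsg.Agent.H795.LangT Cfsg.Agent.BpExc.FamExt Cfsg.Agent.BpExc.FamUntw Cfsg.Agent.H378.TorDual Cfsg.Agent.H378.TorChar
  Cfsg.Agent.H378.TorFin Cfsg.Agent.H378.RankOne Cfsg.Agent.H378.RootTor

universe u v

variable {k : Type} [Field k] [CharP k 2] [PerfectRing k 2] [IsAlgClosed k] (hk : LocFin k)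

/-- X : helper857 -/
theorem xb_iso (hk : LocFin k) {b : Fin 4 → Fin 8 → ℤ} (hb : Quad b) (F : Type u) [Field F] [Fintype F]
    (hF : Fintype.card F = 4) : Nonempty (↥(XB k b) ≃* ↥(Cfsg.Omega F (Cfsg.quadFormPlus 4 F))) :=
  Cfsg.Agent.H857.OX.xb_iso hk hb F hF

theorem e5_le (hk : LocFin k) {b : Fin 4 → Fin 8 → ℤ} (hb : Quad b) : E5 k ≤ XB k b :=
  Cfsg.Agent.H857.OX.e5_le hk hb

theorem mem_of_nu_mem (hk : LocFin k) {b : Fin 4 → Fin 8 → ℤ} (hb : Quad b) {v : W8} {t : ↥(chevE8.group k)}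
    (ht : t ∈ TT chevE8 k) (h : nu tp8 k v * t ∈ XB k b) : v ∈ Subgroup.closure (Set.range fun i => rr (b i)) :=
  Cfsg.Agent.H857.OX.mem_of_nu_mem hk hb ht h

theorem nu_mem (hk : LocFin k) {b : Fin 4 → Fin 8 → ℤ} (hb : Quad b) {v : W8}
    (h : v ∈ Subgroup.closure (Set.range fun i => rr (b i))) : nu tp8 k v ∈ XB k b :=
  Cfsg.Agent.H857.OX.nu_mem hk hb h

theorem ss_of_xb (hk : LocFin k) {b b' : Fin 4 → Fin 8 → ℤ} (hb : Quad b) (hb' : Quad b') (h : XB k b = XB k b') :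
    SS b = SS b' := Cfsg.Agent.H857.OX.ss_of_xb hk hb hb' h

/-- G5 : helper185 -/
theorem cent_hyp (hk : LocFin k) {H L : Subgroup ↥(chevE8.group k)} (hH : H ≤ E5 k) (hH1 : Nat.card H = 125)
    (hL : L ≤ GG k) (hL1 : ⁅L, L⁆ = L) (hL2 : L ≠ ⊥) (hLH : ∀ x ∈ L, ∀ h ∈ H, x * h = h * x) :
    ∃ a, Rt a ∧ (∀ t ∈ E5 k, t ∈ H ↔ cX tp8 t a = 1) ∧ L ≤ KK k {a, -a, act w8 a, -act w8 a} :=
  Cfsg.Agent.H185.EE.cent_hyp k hk hH hH1 hL hL1 hL2 hLH

/-- C1 : helper136 -/
abbrev q1 : Fin 4 → Fin 8 → ℤ := Cfsg.Agent.H136.EE.q1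
abbrev q2 : Fin 4 → Fin 8 → ℤ := Cfsg.Agent.H136.EE.q2
noncomputable abbrev SB (b : Fin 4 → Fin 8 → ℤ) : Subgroup W8 := Cfsg.Agent.H136.EE.SB b

theorem quad_q1 : Quad q1 := Cfsg.Agent.H136.EE.quad_q1
theorem quad_q2 : Quad q2 := Cfsg.Agent.H136.EE.quad_q2
theorem combi {b : Fin 4 → Fin 8 → ℤ} (hb : Quad b) : ∃ v ∈ CW,
    (∀ x, x ∈ SS b ↔ act v x ∈ SS q1) ∨ (∀ x, x ∈ SS b ↔ act v x ∈ SS q2) := Cfsg.Agent.H136.EE.combi hb

theorem combi2 : ¬ ∃ v ∈ CW, ∀ x, x ∈ SS q1 ↔ act v x ∈ SS q2 := Cfsg.Agent.H136.EE.combi2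

theorem combi3a : (Subgroup.closure (Set.range fun i => rr (q1 i))).relIndex (SB q1) = 12 :=
  Cfsg.Agent.H136.EE.combi3a
theorem combi3b : (Subgroup.closure (Set.range fun i => rr (q2 i))).relIndex (SB q2) = 4 :=
  Cfsg.Agent.H136.EE.combi3b

/-- T4 : helper342, helper893 -/
theorem d4sys (F : Type u) [Field F] [Fintype F] (hF : Fintype.card F = 4) :
    D4Sys ↥(Cfsg.Omega F (Cfsg.quadFormPlus 4 F)) := Cfsg.Agent.H342.EE.d4sys F hF

end Cfsg.Agent.H865.EE
end

-- part: H865/EE/Main1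
section
/-!
# Subgroups `Ω₈⁺(4)` of `GG k` are conjugate to `XB k b` (helper865, S3384)
-/

set_option autoImplicit false
set_option linter.unusedSectionVars false

namespace Cfsg.Agent.H865.EE

open CoxeterSystem Subgroup Cfsg Cfsg.Lie Cfsg.Lie.ChevalleyDatum
open Cfsg.Agent.ChevalleyStructure Cfsg.Agent.ChevalleyStructure.Elts Cfsg.Agent.ChevalleyStructure.CoxeterGeom
  Cfsg.Agent.ChevalleyStructure.CoxeterGeomTypes Cfsg.Agent.ChevalleyStructure.NPerm
open Cfsg.Agent.Tits.Roots Cfsg.Agent.Tits.Core Cfsg.Agent.Nodes Cfsg.Agent.Nodes.SubComb Cfsg.Agent.Nodes.Reps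
  Cfsg.Agent.Nodes.BNOf Cfsg.Agent.Nodes.RGDChev Cfsg.Agent.Nodes.Bruhat Cfsg.Agent.Nodes.Coroot
open Cfsg.Agent.KFacts.RgdField Cfsg.Agent.KFacts.RgdChevCoord Cfsg.Agent.BpExc.TorCent Cfsg.Agent.BpExc.TorChev
open Cfsg.Agent.GpExc.Field Cfsg.Agent.BpExc.Tow Cfsg.Agent.BpExc.TowChev Cfsg.Agent.BpExc.Fr
  Cfsg.Agent.BpExc.LangFr Cfsg.Agent.BpExc.FamField Cfsg.Agent.BpExc.FamInst Cfsg.Agent.H129.TorusChar
  Cfsg.Agent.H795.LangT Cfsg.Agent.BpExc.FamExt Cfsg.Agent.BpExc.FamUntw Cfsg.Agent.H378.TorDual Cfsg.Agent.H378.TorChar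
  Cfsg.Agent.H378.TorFin Cfsg.Agent.H378.RankOne Cfsg.Agent.H378.RootTor

attribute [local irreducible] w8

universe u

variable {k : Type} [Field k] [CharP k 2] [PerfectRing k 2] [IsAlgClosed k] (hk : LocFin k)

/-! ### Conjugation in `GG k` -/

theorem map_conj_le {X : Subgroup ↥(chevE8.group k)} (hX : X ≤ GG k) {g : ↥(chevE8.group k)} (hg : g ∈ GG k) :
    X.map (MulAut.conj g).toMonoidHom ≤ GG k := by
  rintro _ ⟨x, hx, rfl⟩
  show g * x * g⁻¹ ∈ GG k
  exact mul_mem (mul_mem hg (hX hx)) (inv_mem hg)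

include hk in
/-- an abelian subgroup of order 625 of `GG k` is conjugate to `E5 k`. -/
theorem conj_E5 {A : Subgroup ↥(chevE8.group k)} (hA : A ≤ GG k) (hc : Nat.card ↥A = 625)
    (hab : ∀ a ∈ A, ∀ b ∈ A, a * b = b * a) : ∃ g ∈ GG k, A.map (MulAut.conj g).toMonoidHom = E5 k := by
  have : Finite ↥(GG k) := finite_GG hk
  have hE : E5 k ≤ GG k := inf_le_right
  have hcard : ∀ {B : Subgroup ↥(chevE8.group k)}, B ≤ GG k → Nat.card ↥(B.subgroupOf (GG k)) = Nat.card ↥B :=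
    fun {B} h => Nat.card_congr (Subgroup.subgroupOfEquivOfLe h).toEquiv
  have key : ∀ x : ↥(GG k), (∃ n : ℕ, x ^ 5 ^ n = 1) →
      (∀ e ∈ (E5 k).subgroupOf (GG k), x * e * x⁻¹ ∈ (E5 k).subgroupOf (GG k)) →
      (∃ H : Subgroup ↥(GG k), H ≤ (E5 k).subgroupOf (GG k) ∧ Nat.card H = 125 ∧ ∀ h ∈ H, x * h = h * x) →
      x ∈ (E5 k).subgroupOf (GG k) := by
    rintro x ⟨n, hn⟩ hx ⟨H, hH, hH1, hH2⟩
    have h1 : ∀ t ∈ E5 k, x.1 * t * x.1⁻¹ ∈ E5 k := fun t ht =>
      Subgroup.mem_subgroupOf.1 (hx ⟨t, hE ht⟩ (Subgroup.mem_subgroupOf.2 ht))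
    obtain ⟨v, hv⟩ := RepE.of_norm hk x.2 h1
    have h2 : v ^ 5 ^ n = 1 := (hv.pow hk (5 ^ n)).eq_one hk (fun t ht => by
      rw [← Subgroup.coe_pow, hn, Subgroup.coe_one, one_mul, mul_one])
    let H1 : Subgroup ↥(chevE8.group k) := H.map (GG k).subtype
    have hH1' : H1 ≤ E5 k := by
      rintro _ ⟨h, hh, rfl⟩
      exact Subgroup.mem_subgroupOf.1 (hH hh)
    obtain ⟨c, hc0, h3, -⟩ := hv.hyp hk hH1' (by
      rw [Subgroup.card_map_of_injective (GG k).subtype_injective, hH1]) (by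
      rintro _ ⟨h, hh, rfl⟩
      exact congrArg Subtype.val (hH2 h hh))
    have h4 : v = 1 := no_transv hv.1 ⟨n, h2⟩ c hc0 h3
    rw [h4] at hv
    exact Subgroup.mem_subgroupOf.2 hv.mem
  obtain ⟨g, hg⟩ := conj_of ((E5 k).subgroupOf (GG k)) (by rw [hcard hE, card_E5 hk])
    (fun a ha b hb => Subtype.ext (E5_comm (Subgroup.mem_subgroupOf.1 ha) (Subgroup.mem_subgroupOf.1 hb)))
    (not_dvd_GG hk) key (A.subgroupOf (GG k)) (by rw [hcard hA, hc])
    (fun a ha b hb => Subtype.ext (hab _ (Subgroup.mem_subgroupOf.1 ha) _ (Subgroup.mem_subgroupOf.1 hb)))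
  refine ⟨g.1, g.2, ?_⟩
  ext y
  constructor
  · rintro ⟨a, ha, rfl⟩
    have h1 : (⟨a, hA ha⟩ : ↥(GG k)) ∈ A.subgroupOf (GG k) := Subgroup.mem_subgroupOf.2 ha
    have h2 : g * ⟨a, hA ha⟩ * g⁻¹ ∈ (E5 k).subgroupOf (GG k) := by
      rw [← hg]; exact ⟨_, h1, rfl⟩
    exact Subgroup.mem_subgroupOf.1 h2
  · intro hy
    have h1 : (⟨y, hE hy⟩ : ↥(GG k)) ∈ (E5 k).subgroupOf (GG k) := Subgroup.mem_subgroupOf.2 hy
    rw [← hg] at h1
    obtain ⟨a, ha, h2⟩ := h1
    exact ⟨a.1, Subgroup.mem_subgroupOf.1 ha, congrArg Subtype.val h2⟩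

/-! ### The root subgroups -/

theorem KK_mono {S T : Set (Fin 8 → ℤ)} (h : S ⊆ T) : KK k S ≤ KK k T := by
  refine Subgroup.closure_mono ?_
  rintro g ⟨a, ha, c, rfl⟩
  exact ⟨a, h ha, c, rfl⟩

theorem Ph_neg {b : Fin 4 → Fin 8 → ℤ} {a : Fin 8 → ℤ} (h : a ∈ Ph b) : -a ∈ Ph b := by
  obtain ⟨h1, c, hc⟩ := h
  refine ⟨rt_neg h1, -c, ?_⟩
  rw [hc, ← Finset.sum_neg_distrib]
  exact Finset.sum_congr rfl fun i _ => by rw [Pi.neg_apply, neg_smul]

theorem Ph_self {b : Fin 4 → Fin 8 → ℤ} (hb : Quad b) (i : Fin 4) : b i ∈ Ph b := by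
  refine ⟨hb.root i, Pi.single i 1, ?_⟩
  rw [Finset.sum_eq_single i (fun j _ hj => by rw [Pi.single_eq_of_ne hj, zero_smul])
    (fun h => absurd (Finset.mem_univ i) h), Pi.single_eq_same, one_smul]

theorem SS_neg {b : Fin 4 → Fin 8 → ℤ} {a : Fin 8 → ℤ} (h : a ∈ SS b) : -a ∈ SS b := by
  rcases h with h | ⟨a', h, rfl⟩
  · exact Or.inl (Ph_neg h)
  · exact Or.inr ⟨-a', Ph_neg h, by rw [map_neg]⟩

theorem SS_w8 {b : Fin 4 → Fin 8 → ℤ} {a : Fin 8 → ℤ} (h : a ∈ SS b) : act w8 a ∈ SS b := by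
  rcases h with h | ⟨a', h, rfl⟩
  · exact Or.inr ⟨a, h, rfl⟩
  · rw [w8_sq]
    exact Or.inl (Ph_neg h)

/-- **A subgroup of `GG k` with a `D₄`-system is conjugate to a subgroup of some `XB k b`.** -/
theorem exists_conj_le (hk : LocFin k) {X : Subgroup ↥(chevE8.group k)} (hX : X ≤ GG k) (hD : D4Sys ↥X) :
    ∃ g ∈ GG k, ∃ b, Quad b ∧ X.map (MulAut.conj g).toMonoidHom ≤ XB k b := by
  obtain ⟨E', H', L', n', d1, d2, d3, d4, d5, d6, d7, d8, d9, d10, d11, d12, d13, d14, d15⟩ := hD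
  have hle : ∀ K : Subgroup ↥X, K.map X.subtype ≤ GG k := fun K => by
    rintro _ ⟨x, -, rfl⟩
    exact hX x.2
  obtain ⟨g, hg, hgE⟩ := conj_E5 hk (hle E') (by rw [Subgroup.card_map_of_injective X.subtype_injective, d1]) (by
    rintro _ ⟨a, ha, rfl⟩ _ ⟨b, hb, rfl⟩
    rw [← map_mul, ← map_mul, d2 a ha b hb])
  refine ⟨g, hg, ?_⟩
  let f : ↥X →* ↥(chevE8.group k) := (MulAut.conj g).toMonoidHom.comp X.subtype
  have hf : Function.Injective f := (MulAut.conj g).injective.comp X.subtype_injective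
  have hfG : ∀ x, f x ∈ GG k := fun x => mul_mem (mul_mem hg (hX x.2)) (inv_mem hg)
  have hfE : E'.map f = E5 k := by rw [← hgE, Subgroup.map_map]
  have hE1 : ∀ e ∈ E', f e ∈ E5 k := fun e he => hfE ▸ ⟨e, he, rfl⟩
  have hE2 : ∀ t ∈ E5 k, ∃ e ∈ E', f e = t := fun t ht => by
    rw [← hfE] at ht
    exact ht
  have hfX : X.map (MulAut.conj g).toMonoidHom = (⊤ : Subgroup ↥X).map f := by
    rw [← Subgroup.map_map]
    congr 1
    rw [← MonoidHom.range_eq_map, Subgroup.range_subtype]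
  -- the hyperplanes
  have hH : ∀ i, (H' i).map f ≤ E5 k := fun i => by rw [← hfE]; exact Subgroup.map_mono (d3 i)
  have hHc : ∀ i, Nat.card ↥((H' i).map f) = 125 := fun i => by rw [Subgroup.card_map_of_injective hf, d4]
  have hroot : ∀ i, ∃ a, Rt a ∧ (∀ t ∈ E5 k, t ∈ (H' i).map f ↔ cX tp8 t a = 1) ∧
      (L' i).map f ≤ KK k {a, -a, act w8 a, -act w8 a} := fun i => by
    refine cent_hyp hk (hH i) (hHc i) ?_ ?_ ?_ ?_
    · rintro _ ⟨x, -, rfl⟩
      exact hfG x
    · rw [← Subgroup.map_commutator, d5]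
    · intro h
      exact d6 i ((Subgroup.map_eq_bot_iff_of_injective _ hf).1 h)
    · rintro _ ⟨x, hx, rfl⟩ _ ⟨h, hh, rfl⟩
      rw [← map_mul, ← map_mul, d7 i x hx h hh]
  choose a ha haH haL using hroot
  -- the reflections
  have hn : ∀ i, RepE k (f (n' i)) (rr (a i)) := fun i => by
    obtain ⟨v, hv⟩ := RepE.of_norm hk (hfG (n' i)) (fun t ht => by
      obtain ⟨e, he, rfl⟩ := hE2 t ht
      rw [← map_mul, ← map_inv, ← map_mul]
      exact hE1 _ (d9 i e he))
    have h2 : v ^ 2 = 1 := (hv.pow hk 2).eq_one hk fun t ht => by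
      obtain ⟨e, he, rfl⟩ := hE2 t ht
      rw [← map_pow, ← map_mul, ← map_mul, d10 i e he]
    have h1 : v ≠ 1 := by
      rintro rfl
      obtain ⟨e, he, hne⟩ := d11 i
      refine hne (hf ?_)
      rw [map_mul, map_mul]
      exact E5_comm hv.mem (hE1 e he)
    obtain ⟨c, hc, h3, h4⟩ := hv.hyp hk (hH i) (hHc i) (by
      rintro _ ⟨h, hh, rfl⟩
      rw [← map_mul, ← map_mul, d7 i _ (d8 i) h hh])
    obtain ⟨m, hm⟩ := h4 (a i) fun t ht => (haH i t (hH i ht)).1 ht
    have hm0 : m ≠ 0 := by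
      rintro rfl
      rw [zero_smul] at hm
      exact PP_ne_zero (ha i) hm
    have h5 : v = rr (a i) := refl_of hv.1 h2 h1 (ha i) fun x => by
      obtain ⟨m', hm'⟩ := h3 x
      refine ⟨m' * m⁻¹, ?_⟩
      rw [hm', hm, smul_smul, mul_assoc, inv_mul_cancel₀ hm0, mul_one]
    rwa [h5] at hv
  obtain ⟨b, hb, hab⟩ := exists_quad a ha
    (fun i j hij h => by
      obtain ⟨e, he, hne⟩ := d12 i j hij
      have h1 := (hn i).mul hk (hn j)
      rw [h] at h1
      refine hne (hf ?_)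
      rw [map_mul, map_mul, map_mul f e]
      exact E5_comm h1.mem (hE1 e he) |>.trans (by rw [map_mul]))
    (fun i j hij => (((hn i).mul hk (hn j)).pow hk 3).eq_one hk fun t ht => by
      obtain ⟨e, he, rfl⟩ := hE2 t ht
      rw [← map_mul, ← map_pow, ← map_mul, ← map_mul, d13 i j hij e he])
    (fun i j hij hij' => (((hn i).mul hk (hn j)).pow hk 2).eq_one hk fun t ht => by
      obtain ⟨e, he, rfl⟩ := hE2 t ht
      rw [← map_mul, ← map_pow, ← map_mul, ← map_mul, d14 i j hij hij' e he])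
  refine ⟨b, hb, le_inf ?_ (map_conj_le hX hg)⟩
  rw [hfX, ← d15, Subgroup.map_iSup]
  refine iSup_le fun i => (haL i).trans (KK_mono ?_)
  have h1 : a i ∈ SS b := by
    have h0 : b i ∈ SS b := Or.inl (Ph_self hb i)
    rcases hab i with h | h | h | h
    · rwa [h] at h0
    · have := SS_neg h0
      rwa [h, neg_neg] at this
    · have := SS_neg (SS_w8 h0)
      rwa [h, w8_sq, neg_neg] at this
    · have := SS_w8 h0
      rwa [h, map_neg, w8_sq, neg_neg] at this
  rintro x (rfl | rfl | rfl | rfl)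
  · exact h1
  · exact SS_neg h1
  · exact SS_w8 h1
  · exact SS_neg (SS_w8 h1)

end Cfsg.Agent.H865.EE
end

private theorem dce_2b30796779cd : _root_.True := by
  try have : _root_.True := by simp only [_root_.Cfsg.Agent.H405.UE.hrt.congr_simp]
  try have : _root_.True := by simp only [_root_.Cfsg.Agent.H865.EE.E5.congr_simp]
  exact _root_.True.intro
end

-- part: S3384
section
prune_inst 0x4c1207644016210000000000270003e46ca000002006b8800c9600b040680ed4105020f203ca013120b2aa82c003d0048101800794018000020000e00411901a088aa5206b208a104260001808886400000000000000000000000000000000004000000000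
set_option linter.all false
open scoped Cfsg.Agent.FastGrp

-- part: H865/EE/Main2
section
/-!
# The two classes (helper865, S3384)
-/

set_option autoImplicit false
set_option linter.unusedSectionVars false

namespace Cfsg.Agent.H865.EE

open CoxeterSystem Subgroup Cfsg Cfsg.Lie Cfsg.Lie.ChevalleyDatum
open Cfsg.Agent.ChevalleyStructure Cfsg.Agent.ChevalleyStructure.Elts Cfsg.Agent.ChevalleyStructure.CoxeterGeom
  Cfsg.Agent.ChevalleyStructure.CoxeterGeomTypes Cfsg.Agent.ChevalleyStructure.NPerm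
open Cfsg.Agent.Tits.Roots Cfsg.Agent.Tits.Core Cfsg.Agent.Nodes Cfsg.Agent.Nodes.SubComb Cfsg.Agent.Nodes.Reps
  Cfsg.Agent.Nodes.BNOf Cfsg.Agent.Nodes.RGDChev Cfsg.Agent.Nodes.Bruhat Cfsg.Agent.Nodes.Coroot
open Cfsg.Agent.KFacts.RgdField Cfsg.Agent.KFacts.RgdChevCoord Cfsg.Agent.BpExc.TorCent Cfsg.Agent.BpExc.TorChev
open Cfsg.Agent.GpExc.Field Cfsg.Agent.BpExc.Tow Cfsg.Agent.BpExc.TowChev Cfsg.Agent.BpExc.Fr
  Cfsg.Agent.BpExc.LangFr Cfsg.Agent.BpExc.FamField Cfsg.Agent.BpExc.FamInst Cfsg.Agent.H129.TorusChar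
  Cfsg.Agent.H795.LangT Cfsg.Agent.BpExc.FamExt Cfsg.Agent.BpExc.FamUntw Cfsg.Agent.H378.TorDual Cfsg.Agent.H378.TorChar
  Cfsg.Agent.H378.TorFin Cfsg.Agent.H378.RankOne Cfsg.Agent.H378.RootTor

attribute [local irreducible] w8

universe u

/-! ### The sets `SS b` -/

theorem Quad.act_ {b : Fin 4 → Fin 8 → ℤ} (hb : Quad b) {v : W8} (hv : v ∈ CW) : Quad fun i => act v (b i) where
  root i := rt_act (hb.root i) v
  ad i j hij := by rw [bf_act, hb.ad i j hij]
  orth i j := by rw [← mem_CW.1 hv, bf_act, hb.orth i j]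

theorem mem_Ph_act {b : Fin 4 → Fin 8 → ℤ} {v : W8} {x : Fin 8 → ℤ} : act v x ∈ Ph (fun i => act v (b i)) ↔ x ∈ Ph b := by
  constructor
  · rintro ⟨h, c, hc⟩
    have h1 : act v⁻¹ (act v x) = x := rep_inv_apply _ _ _ _
    refine ⟨?_, c, ?_⟩
    · rw [← h1]; exact rt_act h _
    · rw [← h1, hc, map_sum]
      refine Finset.sum_congr rfl fun i _ => ?_
      rw [map_smul]
      congr 1
      exact rep_inv_apply _ _ _ _
  · rintro ⟨h, c, hc⟩
    refine ⟨rt_act h v, c, ?_⟩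
    rw [hc, map_sum]
    exact Finset.sum_congr rfl fun i _ => by rw [map_smul]

theorem mem_SS_act {b : Fin 4 → Fin 8 → ℤ} {v : W8} (hv : v ∈ CW) {x : Fin 8 → ℤ} :
    act v x ∈ SS (fun i => act v (b i)) ↔ x ∈ SS b := by
  have h1 : ∀ y, act v⁻¹ (act v y) = y := fun y => rep_inv_apply _ _ _ _
  constructor
  · rintro (h | ⟨a', h, e⟩)
    · exact Or.inl (mem_Ph_act.1 h)
    · refine Or.inr ⟨act v⁻¹ a', ?_, ?_⟩
      · rw [← mem_Ph_act (v := v), show act v (act v⁻¹ a') = a' from rep_apply_inv _ _ _ _]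
        exact h
      · rw [← h1 x, e, mem_CW.1 (inv_mem hv)]
  · rintro (h | ⟨a', h, rfl⟩)
    · exact Or.inl (mem_Ph_act.2 h)
    · exact Or.inr ⟨act v a', mem_Ph_act.2 h, mem_CW.1 hv a'⟩

variable {k : Type} [Field k] [CharP k 2] [PerfectRing k 2] [IsAlgClosed k] (hk : LocFin k)

theorem XB_congr {b b' : Fin 4 → Fin 8 → ℤ} (h : SS b = SS b') : XB k b = XB k b' := by
  rw [XB, XB, h]

include hk in
/-- conjugation by `nu v` and the sets `SS b` -/
theorem conj_XB' {v : W8} (hv : v ∈ CW) {b q : Fin 4 → Fin 8 → ℤ} (h : ∀ x, x ∈ SS b ↔ act v x ∈ SS q) :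
    (XB k b).map (MulAut.conj (nu tp8 k v)).toMonoidHom = XB k q := by
  rw [conj_XB hk hv]
  apply XB_congr
  ext y
  have h1 : act v (act v⁻¹ y) = y := rep_apply_inv _ _ _ _
  rw [← h1, mem_SS_act hv, h]

theorem XB_le (b : Fin 4 → Fin 8 → ℤ) : XB k b ≤ GG k := inf_le_right

theorem map_conj_map {G : Type*} [Group G] (X : Subgroup G) (g h : G) :
    (X.map (MulAut.conj g).toMonoidHom).map (MulAut.conj h).toMonoidHom = X.map (MulAut.conj (h * g)).toMonoidHom := by
  rw [Subgroup.map_map]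
  congr 1
  ext x
  show h * (g * x * g⁻¹) * h⁻¹ = h * g * x * (h * g)⁻¹
  group

theorem map_conj_mem {G : Type*} [Group G] {X : Subgroup G} {g : G} (hg : g ∈ X) :
    X.map (MulAut.conj g).toMonoidHom = X := by
  ext x
  constructor
  · rintro ⟨y, hy, rfl⟩
    exact mul_mem (mul_mem hg hy) (inv_mem hg)
  · intro hx
    refine ⟨g⁻¹ * x * g, mul_mem (mul_mem (inv_mem hg) hx) hg, ?_⟩
    show g * (g⁻¹ * x * g) * g⁻¹ = x
    group

variable (F : Type u) [Field F] [Fintype F] (hF : Fintype.card F = 4)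

include hk hF in
theorem finite_XB {b : Fin 4 → Fin 8 → ℤ} (hb : Quad b) : Finite ↥(XB k b) := by
  obtain ⟨e⟩ := xb_iso hk hb F hF
  have := om_fin F hF
  exact Finite.of_equiv _ e.symm.toEquiv

include hk hF in
/-- **(i)** classification up to conjugacy -/
theorem exists_conj {X : Subgroup ↥(chevE8.group k)} (hX : X ≤ GG k)
    (hiso : Nonempty (↥X ≃* ↥(Cfsg.Omega F (Cfsg.quadFormPlus 4 F)))) :
    ∃ g ∈ GG k, X.map (MulAut.conj g).toMonoidHom = XB k q1 ∨ X.map (MulAut.conj g).toMonoidHom = XB k q2 := by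
  obtain ⟨e⟩ := hiso
  obtain ⟨g, hg, b, hb, hle⟩ := exists_conj_le hk hX ((d4sys F hF).congr e.symm)
  have h1 : X.map (MulAut.conj g).toMonoidHom = XB k b := by
    have := finite_XB hk F hF hb
    obtain ⟨e'⟩ := xb_iso hk hb F hF
    refine Subgroup.eq_of_le_of_card_ge hle ?_
    rw [Subgroup.card_map_of_injective (MulAut.conj g).injective, Nat.card_congr e.toEquiv, Nat.card_congr e'.toEquiv]
  obtain ⟨v, hv, h⟩ := combi hb
  refine ⟨nu tp8 k v * g, mul_mem (nu_mem_GG hk hv) hg, ?_⟩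
  rcases h with h | h
  · exact Or.inl (by rw [← map_conj_map, h1, conj_XB' hk hv h])
  · exact Or.inr (by rw [← map_conj_map, h1, conj_XB' hk hv h])

include hk hF in
/-- Sylow in `XB k b` -/
theorem syl_XB {b : Fin 4 → Fin 8 → ℤ} (hb : Quad b) {A : Subgroup ↥(chevE8.group k)} (hA : A ≤ XB k b)
    (hc : Nat.card ↥A = 625) : ∃ g ∈ XB k b, A.map (MulAut.conj g).toMonoidHom = E5 k := by
  have := finite_XB hk F hF hb
  have hE : E5 k ≤ XB k b := e5_le hk hb
  have hcard : ∀ {B : Subgroup ↥(chevE8.group k)}, B ≤ XB k b → Nat.card ↥(B.subgroupOf (XB k b)) = Nat.card ↥B :=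
    fun {B} h => Nat.card_congr (Subgroup.subgroupOfEquivOfLe h).toEquiv
  have h5 : ¬ 5 ^ 5 ∣ Nat.card ↥(XB k b) := by
    obtain ⟨e'⟩ := xb_iso hk hb F hF
    rw [Nat.card_congr e'.toEquiv]
    exact om_card F hF
  obtain ⟨g, hg⟩ := conj_syl h5 (E := (E5 k).subgroupOf (XB k b)) (A := A.subgroupOf (XB k b))
    (by rw [hcard hE, card_E5 hk]) (by rw [hcard hA, hc])
  refine ⟨g.1, g.2, ?_⟩
  ext y
  constructor
  · rintro ⟨a, ha, rfl⟩
    have h1 : (⟨a, hA ha⟩ : ↥(XB k b)) ∈ A.subgroupOf (XB k b) := Subgroup.mem_subgroupOf.2 ha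
    have h2 : g * ⟨a, hA ha⟩ * g⁻¹ ∈ (E5 k).subgroupOf (XB k b) := by
      rw [← hg]; exact ⟨_, h1, rfl⟩
    exact Subgroup.mem_subgroupOf.1 h2
  · intro hy
    have h1 : (⟨y, hE hy⟩ : ↥(XB k b)) ∈ (E5 k).subgroupOf (XB k b) := Subgroup.mem_subgroupOf.2 hy
    rw [← hg] at h1
    obtain ⟨a, ha, h2⟩ := h1
    exact ⟨a.1, Subgroup.mem_subgroupOf.1 ha, congrArg Subtype.val h2⟩

include hk in
/-- elements of `GG k` conjugating `XB k b` to `XB k b'` and normalising `E5 k` -/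
theorem of_conj_norm {b b' : Fin 4 → Fin 8 → ℤ} (hb : Quad b) (hb' : Quad b') {y : ↥(chevE8.group k)} (hy : y ∈ GG k)
    (hE : ∀ t ∈ E5 k, y * t * y⁻¹ ∈ E5 k) (h : (XB k b).map (MulAut.conj y).toMonoidHom = XB k b') :
    ∃ v, RepE k y v ∧ ∀ x, x ∈ SS b ↔ act v x ∈ SS b' := by
  obtain ⟨v, hv⟩ := RepE.of_norm hk hy hE
  refine ⟨v, hv, fun x => ?_⟩
  obtain ⟨hvC, t, ht, rfl⟩ := id hv
  have h1 : XB k (fun i => act v (b i)) = XB k b' := by
    rw [← conj_XB hk hvC, ← h, ← map_conj_map, map_conj_mem (e5_le hk hb ht)]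
  rw [← ss_of_xb hk (hb.act_ hvC) hb' h1, mem_SS_act hvC]

include hk hF in
/-- **(ii)** `XB k q1` and `XB k q2` are not conjugate. -/
theorem not_conj {g : ↥(chevE8.group k)} (hg : g ∈ GG k) : (XB k q1).map (MulAut.conj g).toMonoidHom ≠ XB k q2 := by
  intro h
  have hle : (E5 k).map (MulAut.conj g).toMonoidHom ≤ XB k q2 := by
    rw [← h]; exact Subgroup.map_mono (e5_le hk quad_q1)
  obtain ⟨x, hx, hxE⟩ := syl_XB hk F hF quad_q2 hle (by
    rw [Subgroup.card_map_of_injective (MulAut.conj g).injective, card_E5 hk])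
  rw [map_conj_map] at hxE
  obtain ⟨v, hv, hS⟩ := of_conj_norm hk quad_q1 quad_q2 (y := x * g) (mul_mem (XB_le _ hx) hg) (fun t ht => by
    rw [← hxE]; exact ⟨t, ht, rfl⟩) (by rw [← map_conj_map, h, map_conj_mem hx])
  exact combi2 ⟨v, hv.1, hS⟩

include hk hF in
/-- **(iii)** the centraliser of `XB k b` is trivial. -/
theorem cent_XB {b : Fin 4 → Fin 8 → ℤ} (hb : Quad b) {y : ↥(chevE8.group k)} (hy : y ∈ GG k)
    (h : ∀ x ∈ XB k b, x * y = y * x) : y = 1 := by
  have h1 : y ∈ TT chevE8 k := cent_E5 hk fun t ht => (h t (e5_le hk hb ht)).symm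
  have h2 : y ∈ XB k b := e5_le hk hb ⟨h1, hy⟩
  obtain ⟨e⟩ := xb_iso hk hb F hF
  have hs := om_simple F hF
  have h3 : e ⟨y, h2⟩ ∈ Subgroup.center ↥(Cfsg.Omega F (Cfsg.quadFormPlus 4 F)) := by
    rw [Subgroup.mem_center_iff]
    intro z
    obtain ⟨x, rfl⟩ := e.surjective z
    rw [← map_mul, ← map_mul]
    congr 1
    exact Subtype.ext (h x.1 x.2)
  have h4 : Subgroup.center ↥(Cfsg.Omega F (Cfsg.quadFormPlus 4 F)) = ⊥ := by
    rcases hs.eq_bot_or_eq_top_of_normal _ (inferInstance : (Subgroup.center _).Normal) with h | h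
    · exact h
    · obtain ⟨a, b', hab⟩ := om_nc F hF
      have : a ∈ Subgroup.center ↥(Cfsg.Omega F (Cfsg.quadFormPlus 4 F)) := by rw [h]; exact Subgroup.mem_top _
      exact absurd ((Subgroup.mem_center_iff.1 this) b').symm hab
  rw [h4, Subgroup.mem_bot] at h3
  have h5 : (⟨y, h2⟩ : ↥(XB k b)) = 1 := e.injective (by rw [h3, map_one])
  exact congrArg Subtype.val h5

include hk in
theorem RepE.inv {y : ↥(chevE8.group k)} {v : W8} (h : RepE k y v) : RepE k y⁻¹ v⁻¹ := by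
  obtain ⟨hv, t, ht, rfl⟩ := h
  refine ⟨inv_mem hv, _, nu_conj_E5 hk hv (inv_mem ht), ?_⟩
  rw [mul_inv_rev, map_inv]
  group

include hk in
theorem RepE.mem_GG {y : ↥(chevE8.group k)} {v : W8} (h : RepE k y v) : y ∈ GG k := by
  obtain ⟨hv, t, ht, rfl⟩ := h
  exact mul_mem (nu_mem_GG hk hv) (Subgroup.mem_inf.1 ht).2

include hk in
/-- the number of elements representing elements of a subgroup of `CW` -/
theorem card_RepE {S : Subgroup W8} (hS : S ≤ CW) :
    Nat.card {y : ↥(chevE8.group k) // ∃ v ∈ S, RepE k y v} = Nat.card ↥S * 625 := by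
  have hkey : ∀ (v v' : W8) (t t' : ↥(chevE8.group k)), v ∈ S → v' ∈ S → t ∈ E5 k → t' ∈ E5 k →
      nu tp8 k v * t = nu tp8 k v' * t' → v = v' ∧ t = t' := by
    intro v v' t t' hv hv' ht ht' h
    have h1 : RepE k (t' * t⁻¹) (v'⁻¹ * v) := by
      refine ⟨mul_mem (inv_mem (hS hv')) (hS hv), 1, one_mem _, ?_⟩
      rw [mul_one, map_mul, map_inv, eq_inv_mul_iff_mul_eq, ← mul_assoc, ← h]
      group
    have h2 : v'⁻¹ * v = 1 := h1.eq_one hk fun s hs => E5_comm (mul_mem ht' (inv_mem ht)) hs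
    have h3 : v = v' := by rw [← mul_one v', ← h2, mul_inv_cancel_left]
    subst h3
    exact ⟨rfl, mul_left_cancel h⟩
  have e : (↥S × ↥(E5 k)) ≃ {y : ↥(chevE8.group k) // ∃ v ∈ S, RepE k y v} :=
    Equiv.ofBijective (fun p => ⟨nu tp8 k p.1.1 * p.2.1, p.1.1, p.1.2, hS p.1.2, p.2.1, p.2.2, rfl⟩) (by
      constructor
      · rintro ⟨v, t⟩ ⟨v', t'⟩ h
        obtain ⟨h1, h2⟩ := hkey v.1 v'.1 t.1 t'.1 v.2 v'.2 t.2 t'.2 (congrArg Subtype.val h)
        exact Prod.ext (Subtype.ext h1) (Subtype.ext h2)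
      · rintro ⟨y, v, hv, hvC, t, ht, rfl⟩
        exact ⟨⟨⟨v, hv⟩, ⟨t, ht⟩⟩, rfl⟩)
  rw [← Nat.card_congr e, Nat.card_prod, card_E5 hk]

/-- the subgroup generated by the reflections -/
noncomputable def RB (b : Fin 4 → Fin 8 → ℤ) : Subgroup W8 := Subgroup.closure (Set.range fun i => rr (b i))

include hk hF in
/-- **(iv)** the order of the normaliser -/
theorem card_norm {b : Fin 4 → Fin 8 → ℤ} (hb : Quad b) {m : ℕ} (hm : (RB b).relIndex (SB b) = m) :
    Nat.card ↥(normalizer ((XB k b).subgroupOf (GG k) : Set ↥(GG k))) = m * Nat.card ↥(XB k b) := by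
  have := finite_GG hk
  have := finite_XB hk F hF hb
  have hXG := XB_le (k := k) b
  have hEX := e5_le hk hb
  have hEG : E5 k ≤ GG k := inf_le_right
  have hcard : ∀ {B : Subgroup ↥(chevE8.group k)}, B ≤ GG k → Nat.card ↥(B.subgroupOf (GG k)) = Nat.card ↥B :=
    fun {B} h => Nat.card_congr (Subgroup.subgroupOfEquivOfLe h).toEquiv
  have hfr := frattini (G := ↥(GG k)) (X := (XB k b).subgroupOf (GG k)) (E := (E5 k).subgroupOf (GG k))
    (Subgroup.comap_mono hEX) (fun A hA hAc => by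
      obtain ⟨g, hg, h⟩ := syl_XB hk F hF hb (A := A.map (GG k).subtype) (by
        rintro _ ⟨x, hx, rfl⟩
        exact Subgroup.mem_subgroupOf.1 (hA hx)) (by
        rw [Subgroup.card_map_of_injective (GG k).subtype_injective, hAc, hcard hEG, card_E5 hk])
      refine ⟨⟨g, hXG hg⟩, Subgroup.mem_subgroupOf.2 hg, ?_⟩
      ext y
      rw [Subgroup.mem_subgroupOf, ← h]
      constructor
      · rintro ⟨x, hx, rfl⟩
        exact ⟨x.1, ⟨x, hx, rfl⟩, rfl⟩
      · rintro ⟨_, ⟨x, hx, rfl⟩, e⟩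
        exact ⟨x, hx, Subtype.ext e⟩)
  have hRS : RB b ≤ SB b := by
    refine (Subgroup.closure_le _).2 ?_
    rintro _ ⟨i, rfl⟩
    have h1 : rr (b i) ∈ CW := rr_mem_CW (hb.root i)
    refine ⟨h1, fun x => ?_⟩
    have h2 : nu tp8 k (rr (b i)) ∈ XB k b := nu_mem hk hb (Subgroup.subset_closure ⟨i, rfl⟩)
    have h3 := conj_XB hk h1 b
    rw [map_conj_mem h2] at h3
    have h4 := ss_of_xb hk hb (hb.act_ h1) h3
    exact (mem_SS_act h1 (b := b)).symm.trans (by rw [← h4])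
  have hnE : ∀ {y : ↥(GG k)} {v : W8}, RepE k y.1 v → y ∈ normalizer ((E5 k).subgroupOf (GG k) : Set ↥(GG k)) := by
    intro y v hy
    rw [Subgroup.mem_normalizer_iff]
    intro t
    have h1 : ∀ {z : ↥(chevE8.group k)} {w : W8}, RepE k z w → ∀ t ∈ E5 k, z * t * z⁻¹ ∈ E5 k := fun {z w} hz t ht => by
      rw [hz.conj hk ht]; exact nu_conj_E5 hk hz.1 ht
    constructor
    · intro ht
      exact Subgroup.mem_subgroupOf.2 (h1 hy _ (Subgroup.mem_subgroupOf.1 ht))
    · intro ht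
      have h2 := h1 (hy.inv hk) _ (Subgroup.mem_subgroupOf.1 ht)
      have h3 : y.1⁻¹ * ((y * t * y⁻¹ : ↥(GG k)) : ↥(chevE8.group k)) * (y.1⁻¹)⁻¹ = t.1 := by
        show y.1⁻¹ * (y.1 * t.1 * y.1⁻¹) * (y.1⁻¹)⁻¹ = t.1
        group
      rw [h3] at h2
      exact Subgroup.mem_subgroupOf.2 h2
  have hnE' : ∀ {y : ↥(GG k)}, y ∈ normalizer ((E5 k).subgroupOf (GG k) : Set ↥(GG k)) →
      ∀ t ∈ E5 k, y.1 * t * y.1⁻¹ ∈ E5 k := by
    intro y hy t ht
    exact Subgroup.mem_subgroupOf.1 ((Subgroup.mem_normalizer_iff.1 hy ⟨t, hEG ht⟩).1 (Subgroup.mem_subgroupOf.2 ht))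
  -- count of `X ⊓ N(E)`
  have hA1 : Nat.card ↥((XB k b).subgroupOf (GG k) ⊓ normalizer ((E5 k).subgroupOf (GG k) : Set ↥(GG k))) =
      Nat.card ↥(RB b) * 625 := by
    rw [← card_RepE hk (hRS.trans fun v hv => hv.1)]
    refine Nat.card_congr ⟨fun y => ⟨y.1.1, ?_⟩, fun y => ⟨⟨y.1, ?_⟩, ?_⟩, fun y => rfl, fun y => rfl⟩
    · obtain ⟨v, hv⟩ := RepE.of_norm hk y.1.2 (hnE' y.2.2)
      refine ⟨v, ?_, hv⟩
      obtain ⟨hvC, t, ht, e⟩ := hv
      exact mem_of_nu_mem hk hb ht.1 (e ▸ Subgroup.mem_subgroupOf.1 y.2.1)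
    · obtain ⟨v, -, hv⟩ := y.2
      exact hv.mem_GG hk
    · obtain ⟨v, hvR, hv⟩ := y.2
      refine Subgroup.mem_inf.2 ⟨Subgroup.mem_subgroupOf.2 ?_, hnE hv⟩
      obtain ⟨hvC, t, ht, e⟩ := hv
      show y.1 ∈ XB k b
      rw [e]
      exact mul_mem (nu_mem hk hb hvR) (hEX ht)
  have hA2 : Nat.card ↥(normalizer ((XB k b).subgroupOf (GG k) : Set ↥(GG k)) ⊓
      normalizer ((E5 k).subgroupOf (GG k) : Set ↥(GG k))) = Nat.card ↥(SB b) * 625 := by
    rw [← card_RepE hk (S := SB b) (fun v hv => hv.1)]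
    refine Nat.card_congr ⟨fun y => ⟨y.1.1, ?_⟩, fun y => ⟨⟨y.1, ?_⟩, ?_⟩, fun y => rfl, fun y => rfl⟩
    · have h1 : (XB k b).map (MulAut.conj y.1.1).toMonoidHom = XB k b := by
        ext z
        constructor
        · rintro ⟨x, hx, rfl⟩
          exact Subgroup.mem_subgroupOf.1 ((Subgroup.mem_normalizer_iff.1 y.2.1 ⟨x, hXG hx⟩).1
            (Subgroup.mem_subgroupOf.2 hx))
        · intro hz
          have h2 := (Subgroup.mem_normalizer_iff.1 y.2.1 (y.1⁻¹ * ⟨z, hXG hz⟩ * y.1)).2 (Subgroup.mem_subgroupOf.2 (by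
            have : y.1 * (y.1⁻¹ * ⟨z, hXG hz⟩ * y.1) * y.1⁻¹ = (⟨z, hXG hz⟩ : ↥(GG k)) := by group
            rw [this]; exact hz))
          refine ⟨_, Subgroup.mem_subgroupOf.1 h2, ?_⟩
          show y.1.1 * (y.1.1⁻¹ * z * y.1.1) * y.1.1⁻¹ = z
          group
      obtain ⟨v, hv, hS⟩ := of_conj_norm hk hb hb y.1.2 (hnE' y.2.2) h1
      exact ⟨v, ⟨hv.1, hS⟩, hv⟩
    · obtain ⟨v, -, hv⟩ := y.2
      exact hv.mem_GG hk
    · obtain ⟨v, hvS, hv⟩ := y.2
      refine Subgroup.mem_inf.2 ⟨?_, hnE hv⟩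
      have h1 : (XB k b).map (MulAut.conj y.1).toMonoidHom = XB k b := by
        obtain ⟨hvC, t, ht, e⟩ := hv
        rw [e, ← map_conj_map, map_conj_mem (hEX ht), conj_XB' hk hvC hvS.2]
      rw [Subgroup.mem_normalizer_iff]
      intro x
      rw [Subgroup.mem_subgroupOf, Subgroup.mem_subgroupOf]
      constructor
      · intro hx
        rw [← h1]
        exact ⟨x.1, hx, rfl⟩
      · intro hx
        rw [← h1] at hx
        obtain ⟨x', hx', e⟩ := hx
        have e2 : x' = x.1 := mul_left_cancel (mul_right_cancel (e : y.1 * x' * y.1⁻¹ = y.1 * x.1 * y.1⁻¹))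
        rwa [← e2]
  rw [hA1, hA2, hcard hXG] at hfr
  have hSR : Nat.card ↥(SB b) = Nat.card ↥(RB b) * m := by
    rw [← hm, Subgroup.relIndex, ← Nat.card_congr (Subgroup.subgroupOfEquivOfLe hRS).toEquiv, Subgroup.card_mul_index]
  rw [hSR] at hfr
  have hpos : 0 < Nat.card ↥(RB b) * 625 := Nat.mul_pos Nat.card_pos (by norm_num)
  refine Nat.eq_of_mul_eq_mul_right hpos (hfr.trans ?_)
  ring

end Cfsg.Agent.H865.EE
end

-- part: H865/EE/Main3
section
/-!
# S3384 (helper865)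
-/

set_option autoImplicit false
set_option linter.unusedSectionVars false

namespace Cfsg.Agent.H865.EE

open CoxeterSystem Subgroup Cfsg Cfsg.Lie Cfsg.Lie.ChevalleyDatum
open Cfsg.Agent.ChevalleyStructure Cfsg.Agent.ChevalleyStructure.Elts Cfsg.Agent.ChevalleyStructure.CoxeterGeom
  Cfsg.Agent.ChevalleyStructure.CoxeterGeomTypes Cfsg.Agent.ChevalleyStructure.NPerm
open Cfsg.Agent.Tits.Roots Cfsg.Agent.Tits.Core Cfsg.Agent.Nodes Cfsg.Agent.Nodes.SubComb Cfsg.Agent.Nodes.Reps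
  Cfsg.Agent.Nodes.BNOf Cfsg.Agent.Nodes.RGDChev Cfsg.Agent.Nodes.Bruhat Cfsg.Agent.Nodes.Coroot
open Cfsg.Agent.KFacts.RgdField Cfsg.Agent.KFacts.RgdChevCoord Cfsg.Agent.BpExc.TorCent Cfsg.Agent.BpExc.TorChev
open Cfsg.Agent.GpExc.Field Cfsg.Agent.BpExc.Tow Cfsg.Agent.BpExc.TowChev Cfsg.Agent.BpExc.Fr
  Cfsg.Agent.BpExc.LangFr Cfsg.Agent.BpExc.FamField Cfsg.Agent.BpExc.FamInst Cfsg.Agent.H129.TorusChar
  Cfsg.Agent.H795.LangT Cfsg.Agent.BpExc.FamExt Cfsg.Agent.BpExc.FamUntw Cfsg.Agent.H378.TorDual Cfsg.Agent.H378.TorChar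
  Cfsg.Agent.H378.TorFin Cfsg.Agent.H378.RankOne Cfsg.Agent.H378.RootTor

attribute [local irreducible] w8

universe u

theorem main_aux {k : Type} [Field k] [CharP k 2] [PerfectRing k 2] [IsAlgClosed k] (hk : LocFin k) (F₄ : Type u) [Field F₄] [Fintype F₄] (hF₄ : Fintype.card F₄ = 4)
    (classes : (Subgroup ↥(Cfsg.Lie.chevE8.group (ZMod 2)) → Prop) → ℕ → Prop)
    (hclasses : ∀ (P : Subgroup ↥(Cfsg.Lie.chevE8.group (ZMod 2)) → Prop) (k : ℕ), classes P k ↔
      ∃ f : Fin k → Subgroup ↥(Cfsg.Lie.chevE8.group (ZMod 2)), (∀ i, P (f i)) ∧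
        (∀ i j, (∃ g : ↥(Cfsg.Lie.chevE8.group (ZMod 2)), (f i).map (MulAut.conj g).toMonoidHom = f j) → i = j) ∧
        (∀ H, P H → ∃ (i : Fin k) (g : ↥(Cfsg.Lie.chevE8.group (ZMod 2))), H.map (MulAut.conj g).toMonoidHom = f i)) :
    classes (fun H => Nonempty (H ≃* Cfsg.Omega F₄ (Cfsg.quadFormPlus 4 F₄))) 2 ∧
    classes (fun H => Nonempty (Cfsg.generalizedFittingSubgroup H ≃* Cfsg.Omega F₄ (Cfsg.quadFormPlus 4 F₄)) ∧
      (Cfsg.generalizedFittingSubgroup H).index = 3) 1 ∧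
    classes (fun H => Nonempty (Cfsg.generalizedFittingSubgroup H ≃* Cfsg.Omega F₄ (Cfsg.quadFormPlus 4 F₄)) ∧
      (Cfsg.generalizedFittingSubgroup H).index = 4) 2 ∧
    classes (fun H => Nonempty (Cfsg.generalizedFittingSubgroup H ≃* Cfsg.Omega F₄ (Cfsg.quadFormPlus 4 F₄)) ∧
      (Cfsg.generalizedFittingSubgroup H).index = 12) 1 := by
  obtain ⟨e⟩ := exists_GG_equiv (k := k) hk
  have := finite_GG (k := k) hk
  have hcard : ∀ {B : Subgroup ↥(chevE8.group k)}, B ≤ GG k → Nat.card ↥(B.subgroupOf (GG k)) = Nat.card ↥B :=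
    fun {B} h => Nat.card_congr (Subgroup.subgroupOfEquivOfLe h).toEquiv
  have hiso : ∀ {b : Fin 4 → Fin 8 → ℤ}, Quad b →
      Nonempty (↥((XB k b).subgroupOf (GG k)) ≃* ↥(Cfsg.Omega F₄ (Cfsg.quadFormPlus 4 F₄))) := fun {b} hb => by
    obtain ⟨f⟩ := xb_iso hk hb F₄ hF₄
    exact ⟨(Subgroup.subgroupOfEquivOfLe (XB_le b)).trans f⟩
  have hconj : ∀ (X : Subgroup ↥(GG k)) (b : Fin 4 → Fin 8 → ℤ) (g : ↥(GG k)),
      X.map (MulAut.conj g).toMonoidHom = (XB k b).subgroupOf (GG k) ↔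
        (X.map (GG k).subtype).map (MulAut.conj g.1).toMonoidHom = XB k b := by
    intro X b g
    have h1 : (X.map (GG k).subtype).map (MulAut.conj g.1).toMonoidHom =
        (X.map (MulAut.conj g).toMonoidHom).map (GG k).subtype := by
      rw [Subgroup.map_map, Subgroup.map_map]
      rfl
    have h2 : ((XB k b).subgroupOf (GG k)).map (GG k).subtype = XB k b := by
      rw [Subgroup.subgroupOf_map_subtype, inf_eq_left]
      exact XB_le b
    rw [h1]
    constructor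
    · intro h; rw [h, h2]
    · intro h
      rw [← h2] at h
      exact Subgroup.map_injective (GG k).subtype_injective h
  have hcent : ∀ {b : Fin 4 → Fin 8 → ℤ}, Quad b → Subgroup.centralizer ((XB k b).subgroupOf (GG k) : Set ↥(GG k)) = ⊥ :=
    fun {b} hb => by
    rw [eq_bot_iff]
    intro y hy
    rw [Subgroup.mem_bot]
    refine Subtype.ext (cent_XB hk F₄ hF₄ hb y.2 fun x hx => ?_)
    exact congrArg Subtype.val (Subgroup.mem_centralizer_iff.1 hy ⟨x, XB_le b hx⟩ (Subgroup.mem_subgroupOf.2 hx))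
  have hfin := @final_of ↥(GG k) ↥(chevE8.group (ZMod 2)) inferInstance inferInstance inferInstance
  refine hfin e (om_simple F₄ hF₄) (om_nc F₄ hF₄) ((XB k q1).subgroupOf (GG k)) ((XB k q2).subgroupOf (GG k))
    (hiso quad_q1) (hiso quad_q2) ?_ ?_ (hcent quad_q1) (hcent quad_q2) ?_ ?_ classes hclasses
  · rintro X ⟨f⟩
    have hX : X.map (GG k).subtype ≤ GG k := by
      rintro _ ⟨x, -, rfl⟩
      exact x.2
    obtain ⟨g, hg, h⟩ := exists_conj hk F₄ hF₄ hX
      ⟨(Subgroup.equivMapOfInjective X (GG k).subtype (GG k).subtype_injective).symm.trans f⟩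
    rcases h with h | h
    · exact Or.inl ⟨⟨g, hg⟩, (hconj X q1 ⟨g, hg⟩).2 h⟩
    · exact Or.inr ⟨⟨g, hg⟩, (hconj X q2 ⟨g, hg⟩).2 h⟩
  · intro g h
    have h1 := (hconj _ q2 g).1 h
    have h2 : ((XB k q1).subgroupOf (GG k)).map (GG k).subtype = XB k q1 := by
      rw [Subgroup.subgroupOf_map_subtype, inf_eq_left]
      exact XB_le q1
    rw [h2] at h1
    exact not_conj hk F₄ hF₄ g.2 h1
  · rw [card_norm hk F₄ hF₄ quad_q1 combi3a, hcard (XB_le q1)]
  · rw [card_norm hk F₄ hF₄ quad_q2 combi3b, hcard (XB_le q2)]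

theorem main (F₄ : Type u) [Field F₄] [Fintype F₄] (hF₄ : Fintype.card F₄ = 4)
    (classes : (Subgroup ↥(Cfsg.Lie.chevE8.group (ZMod 2)) → Prop) → ℕ → Prop)
    (hclasses : ∀ (P : Subgroup ↥(Cfsg.Lie.chevE8.group (ZMod 2)) → Prop) (k : ℕ), classes P k ↔
      ∃ f : Fin k → Subgroup ↥(Cfsg.Lie.chevE8.group (ZMod 2)), (∀ i, P (f i)) ∧
        (∀ i j, (∃ g : ↥(Cfsg.Lie.chevE8.group (ZMod 2)), (f i).map (MulAut.conj g).toMonoidHom = f j) → i = j) ∧
        (∀ H, P H → ∃ (i : Fin k) (g : ↥(Cfsg.Lie.chevE8.group (ZMod 2))), H.map (MulAut.conj g).toMonoidHom = f i)) :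
    classes (fun H => Nonempty (H ≃* Cfsg.Omega F₄ (Cfsg.quadFormPlus 4 F₄))) 2 ∧
    classes (fun H => Nonempty (Cfsg.generalizedFittingSubgroup H ≃* Cfsg.Omega F₄ (Cfsg.quadFormPlus 4 F₄)) ∧
      (Cfsg.generalizedFittingSubgroup H).index = 3) 1 ∧
    classes (fun H => Nonempty (Cfsg.generalizedFittingSubgroup H ≃* Cfsg.Omega F₄ (Cfsg.quadFormPlus 4 F₄)) ∧
      (Cfsg.generalizedFittingSubgroup H).index = 4) 2 ∧
    classes (fun H => Nonempty (Cfsg.generalizedFittingSubgroup H ≃* Cfsg.Omega F₄ (Cfsg.quadFormPlus 4 F₄)) ∧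
      (Cfsg.generalizedFittingSubgroup H).index = 12) 1 := by
  have hc : CharP (AlgebraicClosure (ZMod 2)) 2 :=
    charP_of_injective_algebraMap (algebraMap (ZMod 2) (AlgebraicClosure (ZMod 2))).injective 2
  have hk : LocFin (AlgebraicClosure (ZMod 2)) := locFin_of_isAlgebraic 2 _
  exact main_aux (k := AlgebraicClosure (ZMod 2)) hk F₄ hF₄ classes hclasses

end Cfsg.Agent.H865.EE
end

-- part: S3384
section
set_option autoImplicit false
open Cfsg

namespace Cfsg.Agent.S3384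

/-- Conjugacy classes of Ω⁺₈(4)-type subgroups of E₈(2) (realised by its root elements in the adjoint representation over the field with 2 elements), with 'exactly k classes of subgroups with a property' meaning k pairwise non-conjugate subgroups with the property to one of which every such subgroup is conjugate: E₈(2) has exactly 2 classes of subgroups isomorphic to Ω⁺₈(4), and exactly 1, 2 and 1 classes of subgroups H with F*(H) ≅ Ω⁺₈(4) of index 3, 4 and 12 in H respectively (the extensions Ω⁺₈(4):3, Ω⁺₈(4):2² and the full automorphism group Ω⁺₈(4):Dih(12)). -/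
theorem result
    (F₄ : Type*) [Field F₄] [Fintype F₄] (hF₄ : Fintype.card F₄ = 4)
    (classes : (Subgroup ↥(Cfsg.Lie.chevE8.group (ZMod 2)) → Prop) → ℕ → Prop)
    (hclasses : ∀ (P : Subgroup ↥(Cfsg.Lie.chevE8.group (ZMod 2)) → Prop) (k : ℕ), classes P k ↔
      ∃ f : Fin k → Subgroup ↥(Cfsg.Lie.chevE8.group (ZMod 2)), (∀ i, P (f i)) ∧
        (∀ i j, (∃ g : ↥(Cfsg.Lie.chevE8.group (ZMod 2)), (f i).map (MulAut.conj g).toMonoidHom = f j) → i = j) ∧
        (∀ H, P H → ∃ (i : Fin k) (g : ↥(Cfsg.Lie.chevE8.group (ZMod 2))), H.map (MulAut.conj g).toMonoidHom = f i)) :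
    classes (fun H => Nonempty (H ≃* Cfsg.Omega F₄ (Cfsg.quadFormPlus 4 F₄))) 2 ∧
    classes (fun H => Nonempty (Cfsg.generalizedFittingSubgroup H ≃* Cfsg.Omega F₄ (Cfsg.quadFormPlus 4 F₄)) ∧
      (Cfsg.generalizedFittingSubgroup H).index = 3) 1 ∧
    classes (fun H => Nonempty (Cfsg.generalizedFittingSubgroup H ≃* Cfsg.Omega F₄ (Cfsg.quadFormPlus 4 F₄)) ∧
      (Cfsg.generalizedFittingSubgroup H).index = 4) 2 ∧
    classes (fun H => Nonempty (Cfsg.generalizedFittingSubgroup H ≃* Cfsg.Omega F₄ (Cfsg.quadFormPlus 4 F₄)) ∧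
      (Cfsg.generalizedFittingSubgroup H).index = 12) 1 := by
  exact Cfsg.Agent.H865.EE.main F₄ hF₄ classes hclasses

end Cfsg.Agent.S3384
end

private theorem dce_dce41366c3b3 : _root_.True := by
  try have : _root_.True := by simp only [_root_.Cfsg.Agent.H865.EE.XB.eq_1]
  exact _root_.True.intro
end
end
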