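import Cfsg.Agent.H43.Eleven.FFour
import Cfsg.Agent.ClassicalGeometry.SympInvolutions
import Cfsg.Agent.LieClassical.OrthCenter
import Cfsg.Prelude.Def_Classical
import Cfsg.Agent.H820.ElTool
import Cfsg.Agent.KFacts.FiTT.Final
import Cfsg.Agent.KFacts.FiTTh.Has
import Cfsg.Agent.CTwoTab.HN
import Cfsg.Agent.S1701
import Cfsg.Agent.TypeM.FactsLy
import Cfsg.Agent.KFacts.MulFi24.Double
import Cfsg.Agent.SporadicB.ON45Sub
import Cfsg.Agent.S1699
import Cfsg.Agent.H820.ElFi24
import Cfsg.Agent.H820.ElB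
import Cfsg.Agent.H181.FormNondeg
import Cfsg.Agent.LieClassical.HermGen
import Cfsg.Agent.ClassicalGeometry.PSUAutBasic
import Cfsg.Agent.H807.El.Mathieu
import Cfsg.Agent.OddHalf.MM.Main_m3
import Cfsg.Agent.H43.Eleven.Local
import Cfsg.Agent.H546.MElevenB_m3
import Cfsg.Agent.H334.Star.Own
import Cfsg.Agent.ClassicalGeometry.PSUAutSemi
import Cfsg.Agent.LieClassical.FieldTransfer
import Cfsg.Agent.H892.ElReg
import Cfsg.Agent.H316.U6Norm_m3
import Cfsg.Agent.H469.RowTwF
import Cfsg.Agent.H807.El.Conway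
import Cfsg.Agent.H633.ElJ4
import Cfsg.Agent.H603.SporElim
import Cfsg.Agent.OddRank.SzTits
import Cfsg.Agent.PreUniq.Cases
import Cfsg.Agent.H363.PslCard
import Cfsg.Agent.S0000
import Cfsg.Statements.S3403
import Cfsg.Agent.FastGrp
import Cfsg.Agent.Prune
set_option linter.all false

section
prune_inst 0x7ff5b8fbbbfc7ddedfff7e7faebddffdffbb7fffefdff9cbffe063ff0fdf4b808fc5fbaf8fe110fe1ed6e21410f87b13f9ffceffe06bd87ffffd1ff45ffbff8ffdf7bd0851969c340fbc0fff63f0778e7f3fffffffffffffffffffffffffffbeffbfffffffff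

-- part: H43/Eleven/ClassA_mg
section
prune_inst 0xa4504440302212000000051422000000000000020043000020c001020101c40080000600aa30101090008800700c0060030001a0424800000e000000000500208000020090080000260009000080000000000000000000000000000000000000000000000
set_option linter.all false
open scoped Cfsg.Agent.FastGrp

-- part: H43/Eleven/ClassA
section
/-!
# S3403: the rows `PSL(n, q)` (`n ≥ 6`), `PSp(2m, q)`, `PΩ(Q)` in characteristic `≠ 11`
-/

set_option autoImplicit false

namespace Cfsg.Agent.H43.Eleven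

open Subgroup Module Matrix Cfsg

universe u v

/-! ### `PSL` -/

theorem row_psl_six {F : Type} [Field F] [Fintype F] (h11 : (11 : F) ≠ 0) {n : ℕ} (hn : 6 ≤ n)
    [IsSimpleGroup (ProjectiveSpecialLinearGroup (Fin n) F)] : Row (ProjectiveSpecialLinearGroup (Fin n) F) := by
  let f : Matrix.SpecialLinearGroup (Fin n) F →* ProjectiveSpecialLinearGroup (Fin n) F := QuotientGroup.mk' _
  have hf : Function.Surjective f := QuotientGroup.mk'_surjective _
  let ψ : Matrix.SpecialLinearGroup (Fin n) F →* Matrix (Fin n) (Fin n) F :=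
    { toFun := fun A => A.1, map_one' := rfl, map_mul' := fun _ _ => rfl }
  have hker : ∀ h, f h = 1 ↔ ∃ c : F, ψ h = c • 1 := by
    intro h
    have h1 : f h = 1 ↔ h ∈ center (Matrix.SpecialLinearGroup (Fin n) F) := QuotientGroup.eq_one_iff h
    rw [h1, Matrix.SpecialLinearGroup.mem_center_iff]
    constructor
    · rintro ⟨r, -, hr⟩
      exact ⟨r, by rw [Matrix.smul_one_eq_diagonal]; exact hr.symm⟩
    · rintro ⟨c, hc⟩
      have hc' : h.1 = c • 1 := hc
      refine ⟨c, ?_, ?_⟩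
      · have := h.2
        rw [hc', Matrix.det_smul, Matrix.det_one, mul_one] at this
        exact this
      · rw [hc', Matrix.smul_one_eq_diagonal]; rfl
  have i0 : Fin n := ⟨0, by omega⟩
  let i : Fin n := ⟨0, by omega⟩
  let j : Fin n := ⟨1, by omega⟩
  have hij : i ≠ j := by
    intro h
    have := congrArg Fin.val h
    simp [i, j] at this
  let h0 : Matrix.SpecialLinearGroup (Fin n) F := Matrix.SpecialLinearGroup.transvection hij 1
  have h0ab : ψ h0 = 1 + Matrix.vecMulVec (Pi.single i 1) (Pi.single j 1) := by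
    show Matrix.transvection i j (1 : F) = _
    rw [Matrix.transvection, Matrix.single_eq_single_vecMulVec_single]
  refine row_five h11 hf ψ hker (by rw [Fintype.card_fin]; exact hn) (h0 := h0) ?_ h0ab
  rw [Ne, hker]
  rintro ⟨c, hc⟩
  have h1 := congrFun (congrFun hc i) j
  rw [h0ab] at h1
  simp [Matrix.vecMulVec_apply, hij] at h1

/-! ### `PSp` -/

theorem row_psp {F : Type} [Field F] [Fintype F] (h11 : (11 : F) ≠ 0) {m : ℕ} (hm : 1 ≤ m)
    [IsSimpleGroup (PSp m F)] : Row (PSp m F) := by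
  let f : symplecticGroup (Fin m) F →* PSp m F := QuotientGroup.mk' _
  have hf : Function.Surjective f := QuotientGroup.mk'_surjective _
  let ψ : symplecticGroup (Fin m) F →* Matrix (Fin m ⊕ Fin m) (Fin m ⊕ Fin m) F :=
    { toFun := fun A => A.1, map_one' := rfl, map_mul' := fun _ _ => rfl }
  have hker : ∀ h, f h = 1 ↔ ∃ c : F, ψ h = c • 1 := by
    intro h
    have h1 : f h = 1 ↔ h ∈ center (symplecticGroup (Fin m) F) := QuotientGroup.eq_one_iff h
    rw [h1]
    constructor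
    · intro h2
      rcases ClassicalGeometry.SympInvolutions.center_eq h2 with h3 | h3
      · exact ⟨1, by rw [one_smul]; exact h3⟩
      · exact ⟨-1, by rw [neg_smul, one_smul]; exact h3⟩
    · rintro ⟨c, hc⟩
      rw [mem_center_iff]
      intro g
      apply Subtype.ext
      show g.1 * h.1 = h.1 * g.1
      have hc' : h.1 = c • 1 := hc
      rw [hc', Matrix.mul_smul, mul_one, Matrix.smul_mul, one_mul]
  have hJu : IsUnit (Matrix.J (Fin m) F) := by
    rw [Matrix.isUnit_iff_isUnit_det]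
    exact Matrix.isUnit_det_J (Fin m) F
  have hJψ : ∀ h, (ψ h).transpose * Matrix.J (Fin m) F * ψ h = Matrix.J (Fin m) F := fun h =>
    _root_.SymplecticGroup.mem_iff'.1 h.2
  let i : Fin m := ⟨0, by omega⟩
  let h0 : symplecticGroup (Fin m) F := ⟨Matrix.fromBlocks 1 (Matrix.single i i 1) 0 1, by
    rw [_root_.SymplecticGroup.mem_iff, Matrix.J, Matrix.fromBlocks_transpose, Matrix.fromBlocks_multiply,
      Matrix.fromBlocks_multiply]
    simp⟩
  have h0ab : ψ h0 = 1 + Matrix.vecMulVec (Pi.single (Sum.inl i) 1) (Pi.single (Sum.inr i) 1) +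
      Matrix.vecMulVec 0 0 := by
    show Matrix.fromBlocks 1 (Matrix.single i i 1) 0 1 = _
    rw [← Matrix.single_eq_single_vecMulVec_single, Matrix.zero_vecMulVec, add_zero, ← Matrix.fromBlocks_one]
    ext a b
    rcases a with a | a <;> rcases b with b | b <;>
      simp [Matrix.single_apply, Matrix.one_apply]
  refine row_nine h11 hf ψ hker hJu hJψ (h0 := h0) ?_ h0ab
  rw [Ne, hker]
  rintro ⟨c, hc⟩
  have h1 := congrFun (congrFun hc (Sum.inl i)) (Sum.inr i)
  rw [h0ab] at h1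
  simp [Matrix.vecMulVec_apply] at h1

/-! ### `PΩ` -/

open QuadraticMap LieClassical.OrthCenter in
theorem row_omega {F : Type} [Field F] [Fintype F] (h11 : (11 : F) ≠ 0) {ι : Type} [Fintype ι] [DecidableEq ι]
    (Q : QuadraticForm F (ι → F)) (hQ : (polarBilin Q).Nondegenerate) (hn : 3 ≤ Fintype.card ι)
    (hs : ∃ u : ι → F, u ≠ 0 ∧ Q u = 0) [IsSimpleGroup (POmega F ⇑Q)] : Row (POmega F ⇑Q) := by
  let f : Omega F ⇑Q →* POmega F ⇑Q := QuotientGroup.mk' _
  have hf : Function.Surjective f := QuotientGroup.mk'_surjective _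
  let ψ : Omega F ⇑Q →* Matrix ι ι F :=
    { toFun := fun A => ((A : isometryGroup F ⇑Q) : GeneralLinearGroup ι F).1, map_one' := rfl, map_mul' := fun _ _ => rfl }
  have hψ : ∀ (h : Omega F ⇑Q) (x : ι → F), (ψ h) *ᵥ x = act Q h.1 x := fun h x => rfl
  have hne : Nonempty ι := Fintype.card_pos_iff.1 (by omega)
  have hker : ∀ h, f h = 1 ↔ ∃ c : F, ψ h = c • 1 := by
    intro h
    have h1 : f h = 1 ↔ h ∈ center (Omega F ⇑Q) := QuotientGroup.eq_one_iff h
    rw [h1]
    constructor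
    · intro h2
      rcases (mem_center_omega_iff hQ hn hs h).1 h2 with h3 | h3
      · exact ⟨1, by rw [one_smul]; exact h3⟩
      · exact ⟨-1, by rw [neg_smul, one_smul]; exact h3⟩
    · rintro ⟨c, hc⟩
      rw [mem_center_iff]
      intro g
      apply Subtype.ext
      apply Subtype.ext
      apply Units.ext
      show ψ g * ψ h = ψ h * ψ g
      rw [hc, Matrix.mul_smul, mul_one, Matrix.smul_mul, one_mul]
  -- the matrix of the polar form
  let J : Matrix ι ι F := LinearMap.BilinForm.toMatrix' (polarBilin Q)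
  have hJ : ∀ x y : ι → F, x ⬝ᵥ (J *ᵥ y) = polar Q x y := by
    intro x y
    rw [← Matrix.toBilin'_apply', Matrix.toBilin'_toMatrix']
    rfl
  have hJu : IsUnit J := by
    rw [Matrix.isUnit_iff_isUnit_det, isUnit_iff_ne_zero, ← Matrix.nondegenerate_iff_det_ne_zero]
    exact LinearMap.BilinForm.Nondegenerate.toMatrix' hQ
  have hJψ : ∀ h, (ψ h).transpose * J * ψ h = J := by
    intro h
    apply Matrix.toBilin'.injective
    ext x y
    have h1 : ∀ x y : ι → F, x ⬝ᵥ ((ψ h).transpose * J * ψ h) *ᵥ y = x ⬝ᵥ (J *ᵥ y) := by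
      intro x y
      rw [← Matrix.mulVec_mulVec, ← Matrix.mulVec_mulVec, Matrix.dotProduct_mulVec, Matrix.vecMul_transpose, hψ, hψ, hJ,
        polar_act, hJ]
    simp only [LinearMap.coe_comp, Function.comp_apply, LinearMap.coe_single]
    rw [Matrix.toBilin'_apply', Matrix.toBilin'_apply', h1]
  obtain ⟨u, hu0, hu⟩ := hs
  obtain ⟨v, hv, huv⟩ := exists_partner hQ hu hu0
  obtain ⟨a, hua, -, ha⟩ := exists_nonsing_perp hQ hn hu hv huv
  have hua' : polar Q u ((1 : F) • a) = 0 := by rw [one_smul]; exact hua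
  let h0 : Omega F ⇑Q := ⟨siegelIso Q u ((1 : F) • a) hu hua', siegelIso_smul_mem_omega hQ hu hu0 ha hua 1 hua'⟩
  have h0act : ∀ x, (ψ h0) *ᵥ x = x + polar Q u x • a - polar Q a x • u - (Q a * polar Q u x) • u := by
    intro x
    rw [hψ]
    show act Q (siegelIso Q u ((1 : F) • a) hu hua') x = _
    rw [act_siegelIso, one_smul]
  have h0ab : ψ h0 = 1 + Matrix.vecMulVec a (u ᵥ* J) + Matrix.vecMulVec u (-(a ᵥ* J) - Q a • (u ᵥ* J)) := by
    apply Matrix.mulVec_injective
    funext x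
    rw [h0act, Matrix.add_mulVec, Matrix.add_mulVec, Matrix.one_mulVec, Matrix.vecMulVec_mulVec,
      Matrix.vecMulVec_mulVec, sub_dotProduct, neg_dotProduct, smul_dotProduct, ← Matrix.dotProduct_mulVec,
      ← Matrix.dotProduct_mulVec, hJ, hJ]
    ext i
    simp
    ring
  refine row_nine h11 hf ψ hker hJu hJψ (h0 := h0) ?_ h0ab
  rw [Ne, hker]
  rintro ⟨c, hc⟩
  have h1 := h0act v
  have h2 := h0act u
  rw [hc, Matrix.smul_mulVec, one_mulVec] at h1 h2
  have huu : polar Q u u = 0 := by rw [LieClassical.OrthCore.polar_self_of_sing hu]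
  have hau : polar Q a u = 0 := by rw [polar_comm]; exact hua
  rw [huu, hau, zero_smul, zero_smul, mul_zero, zero_smul, add_zero, sub_zero, sub_zero] at h2
  have hc1 : c = 1 := by
    have h3 : (c - 1) • u = 0 := by rw [sub_smul, one_smul, h2, sub_self]
    rcases smul_eq_zero.1 h3 with h4 | h4
    · exact sub_eq_zero.1 h4
    · exact absurd h4 hu0
  rw [hc1, one_smul, huv, one_smul, mul_one] at h1
  have h3 : a = (polar Q a v + Q a) • u := by
    rw [add_smul]
    have h4 : v + (a - (polar Q a v • u + Q a • u)) = v + 0 := by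
      calc v + (a - (polar Q a v • u + Q a • u)) = v + a - polar Q a v • u - Q a • u := by abel
        _ = v + 0 := by rw [← h1, add_zero]
    exact sub_eq_zero.1 (add_left_cancel h4)
  apply ha
  rw [h3, QuadraticMap.map_smul, hu, smul_zero]

end Cfsg.Agent.H43.Eleven
end

-- part: H820/ElFi22
section
/-!
# S3403: the row `Fi22`

`2.U6(2)` is a proper quasisimple subgroup.
-/

set_option autoImplicit false

namespace Cfsg.Agent.H820.ElFi22

open Subgroup Cfsg Cfsg.Agent.H43.Eleven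

universe u v

theorem row_Fi22 {X : Type u} [Group X] (hX : Spor.IsoFi22 X) : Row X := by
  intro _ P hP hl
  exfalso
  obtain ⟨T, d, π, lift, B⟩ := KFacts.FiTT.exists_base hX
  have hc := B.card
  have hfin : Finite X := Nat.finite_of_card_ne_zero (by rw [hc]; norm_num)
  have hi := B.index_C
  have hm := (centralizer ({d} : Set X)).card_mul_index
  rw [hi, hc] at hm
  have hC : Nat.card ↥(centralizer ({d} : Set X)) = 18393661440 := by omega
  have hF := B.facts
  refine ElTool.false_of_quasi hP hl (by rw [hc]; norm_num) (M := centralizer ({d} : Set X)) hF.quasi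
    (by rw [hC]; norm_num) ?_ (by rw [hC, hc]; norm_num) (by rw [hC]; norm_num)
  refine ElTool.not_dvd_center fun x hx => ?_
  rcases hF.cc x.1 (fun y hy =>
    (congrArg Subtype.val (mem_center_iff.1 hx ⟨y, mem_centralizer_singleton_iff.2 hy⟩)).symm) with h | h
  · exact Subtype.ext (by show x.1 * x.1 = 1; rw [h, mul_one])
  · exact Subtype.ext (by show x.1 * x.1 = 1; rw [h]; exact hF.dd)

end Cfsg.Agent.H820.ElFi22
end

-- part: H820/ElFi23
section
/-!
# S3403: the row `Fi23`

`2.Fi22` is a proper quasisimple subgroup.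
-/

set_option autoImplicit false

namespace Cfsg.Agent.H820.ElFi23

open Subgroup Cfsg Cfsg.Agent.H43.Eleven

universe u v

theorem row : Row Spor.Fi23 := by
  intro _ P hP hl
  exfalso
  have hc : Nat.card Spor.Fi23 = 4089470473293004800 := Fischer.Fi23Simple.card_Fi23
  have hfin : Finite Spor.Fi23 := Nat.finite_of_card_ne_zero (by rw [hc]; norm_num)
  obtain ⟨hz, ⟨e⟩, -⟩ := KFacts.FiTTh.Quasi.cover
  have h22 : Nat.card Spor.Fi22 = 64561751654400 := S1696.result.2
  have hK : Nat.card ↥(Fischer.Fi23Class.K) = 129123503308800 := by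
    rw [card_eq_card_quotient_mul_card_subgroup (center ↥(Fischer.Fi23Class.K)), hz, Nat.card_congr e.toEquiv, h22]
  exact ElTool.false_of_quasi hP hl (by rw [hc]; norm_num) (M := Fischer.Fi23Class.K) KFacts.FiTTh.Quasi.qs_K
    (by rw [hK]; norm_num) (by rw [hz]; norm_num) (by rw [hK, hc]; norm_num) (by rw [hK]; norm_num)

theorem row_Fi23 {X : Type u} [Group X] (hX : Spor.IsoFi23 X) : Row X := by
  obtain ⟨e⟩ := hX
  exact row_congr e row

end Cfsg.Agent.H820.ElFi23
end

-- part: H820/ElHN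
section
/-!
# S3403: the row `HN`

`2.HS` is a proper quasisimple subgroup.
-/

set_option autoImplicit false

namespace Cfsg.Agent.H820.ElHN

open Subgroup Cfsg Cfsg.Agent.H43.Eleven

universe u v

theorem row : Row Spor.HN := by
  intro _ P hP hl
  exfalso
  have hc : Nat.card Spor.HN = 273030912000000 := S1701.result.2
  have hfin : Finite Spor.HN := Nat.finite_of_card_ne_zero (by rw [hc]; norm_num)
  have hM : Nat.card ↥CTwoTab.HN.N = 88704000 := by
    rw [← CTwoTab.HN.card_K]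
    exact (Nat.card_congr CTwoTab.HN.eN.toEquiv).symm
  have hz : Nat.card ↥(center ↥CTwoTab.HN.N) = 2 := by
    rw [← Nat.card_congr (centerCongr CTwoTab.HN.eN).toEquiv]
    exact CTwoTab.HN.dbl.1
  exact ElTool.false_of_quasi hP hl (by rw [hc]; norm_num) CTwoTab.HN.qs_N (by rw [hM]; norm_num) (by rw [hz]; norm_num)
    (by rw [hM, hc]; norm_num) (by rw [hM]; norm_num)

theorem row_HN {X : Type u} [Group X] (hX : Spor.IsoHN X) : Row X := by
  obtain ⟨e⟩ := hX
  exact row_congr e row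

end Cfsg.Agent.H820.ElHN
end

-- part: H820/ElLy
section
/-!
# S3403: the row `Ly`

`2.A11` is a proper quasisimple subgroup.
-/

set_option autoImplicit false

namespace Cfsg.Agent.H820.ElLy

open Subgroup Cfsg Cfsg.Agent.H43.Eleven

universe u v

theorem row : Row Spor.Ly := by
  intro _ P hP hl
  exfalso
  obtain ⟨hfin, -, hc, -⟩ := TypeM.FactsLy.facts (M := Spor.Ly) ⟨MulEquiv.refl _⟩
  have hd := TypeM.FactsLy.isNonsplit_ly
  have hs : IsSimpleGroup ↥(alternatingGroup (Fin 11)) := alternatingGroup.isSimpleGroup (by norm_num)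
  have hA : Nat.card ↥(alternatingGroup (Fin 11)) = 19958400 := by
    have h2 := two_mul_nat_card_alternatingGroup (α := Fin 11)
    rw [Nat.card_perm, Nat.card_fin] at h2
    have h3 : Nat.factorial 11 = 39916800 := by decide
    omega
  obtain ⟨hz, ⟨e⟩, -⟩ := hd
  have hM := card_eq_card_quotient_mul_card_subgroup (center ↥(centralizer ({Ly.Pres.gens 0 ^ 4} : Set Spor.Ly)))
  rw [hz, Nat.card_congr e.toEquiv, hA] at hM
  have hp : commutator ↥(alternatingGroup (Fin 11)) = ⊤ := ElTool.perfect_of hs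
    (ElTool.ncomm hs (ElTool.not_prime_of_two (by rw [hA]; norm_num) (by rw [hA]; norm_num)))
  have hq : IsQuasisimple ↥(centralizer ({Ly.Pres.gens 0 ^ 4} : Set Spor.Ly)) :=
    ⟨⟨KFacts.MulFi24.Double.perfect_of_double TypeM.FactsLy.isNonsplit_ly hp⟩,
      MulEquiv.isSimpleGroup e⟩
  exact ElTool.false_of_quasi hP hl (by rw [hc]; norm_num) hq (by rw [hM]; norm_num) (by rw [hz]; norm_num)
    (by rw [hM, hc]; norm_num) (by rw [hM]; norm_num)

theorem row_Ly {X : Type u} [Group X] (hX : Spor.IsoLy X) : Row X := by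
  obtain ⟨e⟩ := hX
  exact row_congr e row

end Cfsg.Agent.H820.ElLy
end

-- part: H820/ElON
section
/-!
# S3403: the row `ON`

`M11` is a proper simple subgroup.
-/

set_option autoImplicit false

namespace Cfsg.Agent.H820.ElON

open Subgroup Cfsg Cfsg.Agent.H43.Eleven

universe u v

theorem row : Row Spor.ON := by
  intro _ P hP hl
  exfalso
  have hc : Nat.card Spor.ON = 460815505920 := S1699.result.2
  have hfin : Finite Spor.ON := Nat.finite_of_card_ne_zero (by rw [hc]; norm_num)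
  obtain ⟨hs, h11⟩ := SporadicB.ON45Sub.isM11 S1699.result.1
  exact ElTool.false_of_sub hP hl (by rw [hc]; norm_num) hs (by rw [h11]; norm_num) (by rw [h11]; norm_num)
    (by rw [h11, hc]; norm_num) (by rw [h11]; norm_num)

theorem row_ON {X : Type u} [Group X] (hX : Spor.IsoON X) : Row X := by
  obtain ⟨e⟩ := hX
  exact row_congr e row

end Cfsg.Agent.H820.ElON
end

-- part: H820/ElSeven
section
/-!
# S3403: the rows `Fi22, Fi23, Fi24', HN, Ly, ON, B`
-/

set_option autoImplicit false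

namespace Cfsg.Agent.H820.ElSeven

open Cfsg Cfsg.Agent.H43.Eleven

universe u

variable {X : Type u} [Group X]

theorem row_Fi22 (h : Spor.IsoFi22 X) : Row X := ElFi22.row_Fi22 h
theorem row_Fi23 (h : Spor.IsoFi23 X) : Row X := ElFi23.row_Fi23 h
theorem row_Fi24' (h : Spor.IsoFi24' X) : Row X := ElFi24.row_Fi24' h
theorem row_HN (h : Spor.IsoHN X) : Row X := ElHN.row_HN h
theorem row_Ly (h : Spor.IsoLy X) : Row X := ElLy.row_Ly h
theorem row_ON (h : Spor.IsoON X) : Row X := ElON.row_ON h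
theorem row_B (h : Spor.IsoB X) : Row X := ElB.row_B h

end Cfsg.Agent.H820.ElSeven
end
end

-- part: S3403
section
prune_inst 0x4000000000
set_option linter.all false
open scoped Cfsg.Agent.FastGrp

-- part: H43/Eleven/ClassB
section
/-!
# S3403: the orthogonal families in characteristic `≠ 11`
-/

set_option autoImplicit false

namespace Cfsg.Agent.H43.Eleven

open Subgroup Module Matrix Cfsg LieClassical.OrthForms

universe u v

theorem row_pomegaOdd {F : Type} [Field F] [Fintype F] (h11 : (11 : F) ≠ 0) {m : ℕ} (hm : 3 ≤ m)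
    (hodd : Odd (Fintype.card F)) [IsSimpleGroup (POmega F (quadFormOdd m F))] : Row (POmega F (quadFormOdd m F)) := by
  have h2 : (2 : F) ≠ 0 := by
    intro h0
    have h3 := FiniteField.odd_card_of_char_ne_two (F := F)
    have h4 : ringChar F = 2 := by
      have : ringChar F ∣ 2 := ringChar.dvd (by exact_mod_cast h0)
      rcases (Nat.dvd_prime Nat.prime_two).1 this with h5 | h5
      · have : (1 : F) = 0 := by
          have := ringChar.spec F 1
          rw [h5] at this
          exact_mod_cast this.2 dvd_rfl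
        exact absurd this one_ne_zero
      · exact h5
    have h5 := FiniteField.even_card_of_char_two h4
    rw [Nat.odd_iff] at hodd
    omega
  let i : Fin m := ⟨0, by omega⟩
  haveI : IsSimpleGroup (POmega F ⇑(oddForm m F)) := by rw [coe_oddForm]; infer_instance
  have := row_omega h11 (oddForm m F) (H181.FormNondeg.odd_nondegenerate m F h2)
    (by simp only [_root_.Fintype.card_sum, _root_.Fintype.card_unique, _root_.Fintype.card_fin]; omega)
    ⟨Pi.single (Sum.inr (Sum.inl i)) 1, by simp, (H181.FormNondeg.hypCoord_odd m F).Qa i⟩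
  rw [coe_oddForm] at this
  exact this

theorem row_pomegaPlus {F : Type} [Field F] [Fintype F] (h11 : (11 : F) ≠ 0) {m : ℕ} (hm : 4 ≤ m)
    [IsSimpleGroup (POmega F (quadFormPlus m F))] : Row (POmega F (quadFormPlus m F)) := by
  let i : Fin m := ⟨0, by omega⟩
  haveI : IsSimpleGroup (POmega F ⇑(plusForm m F)) := by rw [coe_plusForm]; infer_instance
  have := row_omega h11 (plusForm m F) (H181.FormNondeg.plus_nondegenerate m F)
    (by simp only [_root_.Fintype.card_sum, _root_.Fintype.card_fin]; omega)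
    ⟨Pi.single (Sum.inl i) 1, by simp, (H181.FormNondeg.hypCoord_plus m F).Qa i⟩
  rw [coe_plusForm] at this
  exact this

theorem row_pomegaMinus {F : Type} [Field F] [Fintype F] (h11 : (11 : F) ≠ 0) {m : ℕ} (hm : 3 ≤ m) (a b : F)
    (hab : ∀ z₁ z₂ : F, z₁ ^ 2 + a * z₁ * z₂ + b * z₂ ^ 2 = 0 → z₁ = 0 ∧ z₂ = 0)
    [IsSimpleGroup (POmega F (quadFormMinus m F a b))] : Row (POmega F (quadFormMinus m F a b)) := by
  let i : Fin m := ⟨0, by omega⟩
  haveI : IsSimpleGroup (POmega F ⇑(minusForm m F a b)) := by rw [coe_minusForm]; infer_instance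
  have := row_omega h11 (minusForm m F a b) (H181.FormNondeg.minus_nondegenerate m F a b hab)
    (by simp only [_root_.Fintype.card_sum, _root_.Fintype.card_fin, _root_.Nat.reduceLeDiff]; omega)
    ⟨Pi.single (Sum.inl (Sum.inl i)) 1, by simp, (H181.FormNondeg.hypCoord_minus m F a b).Qa i⟩
  rw [coe_minusForm] at this
  exact this

end Cfsg.Agent.H43.Eleven
end

-- part: H43/Eleven/ClassC
section
/-!
# S3403: the groups `PSL(n, q)`, `n ≤ 5`, in characteristic `≠ 11`
-/

set_option autoImplicit false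
set_option linter.style.haveILetI false

namespace Cfsg.Agent.H43.Eleven

open Subgroup Module Matrix Cfsg

universe u v w

section generic

variable {F : Type v} [Field F] {ι : Type w} [Fintype ι] [DecidableEq ι] {H : Type*} [Group H] {X : Type u} [Group X]
  [Finite X] [IsSimpleGroup X]

/-- dimension 5, transvections: some generator of `P` has an eigenvector over `F` -/
theorem Cfg.exists_eigvec {f : H →* X} (hf : Function.Surjective f) (ψ : H →* Matrix ι ι F)
    (h5 : Fintype.card ι = 5) (hc : ∃ a b : X, a * b ≠ b * a) {P : Subgroup X} (hP : Cfg P) {h0 : H} (h01 : f h0 ≠ 1)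
    {a b : ι → F} (h0ab : ψ h0 = 1 + Matrix.vecMulVec a b) :
    ∃ (x : X) (h : H) (c : F) (v : ι → F), x ∈ P ∧ orderOf x = 11 ∧ f h = x ∧ v ≠ 0 ∧ ψ h *ᵥ v = c • v := by
  obtain ⟨x, hxP, hx, hρ⟩ := hP.trick_simple hc (rho f ψ) (rho_mul f ψ hf) (rho_conj f ψ hf) (rho_inv f ψ hf)
    (rho_pow f ψ hf) h01
  have h1 : rho f ψ (f h0) ≤ 1 := by
    refine (rho_le f ψ rfl 1).trans ?_
    rw [h0ab, one_smul, add_sub_cancel_left]
    exact Matrix.rank_vecMulVec_le _ _
  obtain ⟨h, c, hh, hr⟩ := exists_rho f ψ hf x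
  have hdet : (ψ h - c • (1 : Matrix ι ι F)).det = 0 := by
    by_contra hd
    have h2 : IsUnit (ψ h - c • (1 : Matrix ι ι F)) := by
      rw [Matrix.isUnit_iff_isUnit_det]
      exact isUnit_iff_ne_zero.2 hd
    have h3 := Matrix.rank_of_isUnit _ h2
    omega
  obtain ⟨v, hv, hv'⟩ := Matrix.exists_mulVec_eq_zero_iff.2 hdet
  refine ⟨x, h, c, v, hxP, hx, hh, hv, ?_⟩
  rw [Matrix.sub_mulVec, Matrix.smul_mulVec, Matrix.one_mulVec, sub_eq_zero] at hv'
  exact hv'

omit [Finite X] [IsSimpleGroup X] in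
theorem eigval_ne_zero (ψ : H →* Matrix ι ι F) {h : H} {v : ι → F} {c : F} (hv : v ≠ 0) (hA : ψ h *ᵥ v = c • v) :
    c ≠ 0 := by
  rintro rfl
  apply hv
  have : ψ h⁻¹ *ᵥ (ψ h *ᵥ v) = v := by rw [Matrix.mulVec_mulVec, psi_inv', Matrix.one_mulVec]
  rw [← this, hA, zero_smul, Matrix.mulVec_zero]

/-- the elements `1 + v ⊗ φ`, `φ v = 0` -/
def cent (ψ : H →* Matrix ι ι F) (v : ι → F) : Subgroup H where
  carrier := {g | ∃ φ : ι → F, φ ⬝ᵥ v = 0 ∧ ψ g = 1 + Matrix.vecMulVec v φ}
  one_mem' := ⟨0, by simp only [_root_.zero_dotProduct], by simp⟩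
  mul_mem' := by
    rintro g g' ⟨φ, h1, h2⟩ ⟨φ', h3, h4⟩
    refine ⟨φ + φ', by rw [add_dotProduct, h1, h3, add_zero], ?_⟩
    rw [map_mul, h2, h4, add_mul, one_mul, mul_add, mul_one, Matrix.vecMulVec_mul_vecMulVec, h1, Matrix.vecMulVec_add]
    simp
    abel
  inv_mem' := by
    rintro g ⟨φ, h1, h2⟩
    refine ⟨-φ, by rw [neg_dotProduct, h1, neg_zero], ?_⟩
    have h3 : (1 + Matrix.vecMulVec v (-φ)) * ψ g = 1 := by
      rw [h2, add_mul, one_mul, mul_add, mul_one, Matrix.vecMulVec_mul_vecMulVec, neg_dotProduct, h1, Matrix.vecMulVec_neg]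
      simp
    calc ψ g⁻¹ = ((1 + Matrix.vecMulVec v (-φ)) * ψ g) * ψ g⁻¹ := by rw [h3, one_mul]
      _ = 1 + Matrix.vecMulVec v (-φ) := by rw [mul_assoc, psi_inv, mul_one]

theorem cent_conj {ψ : H →* Matrix ι ι F} {v : ι → F} {h : H} {c : F} (hA : ψ h *ᵥ v = c • v) {k : H}
    (hk : k ∈ cent ψ v) : h * k * h⁻¹ ∈ cent ψ v := by
  by_cases hv : v = 0
  · subst hv
    obtain ⟨φ, -, h2⟩ := hk
    refine ⟨0, by simp only [_root_.dotProduct_zero], ?_⟩
    rw [Matrix.zero_vecMulVec, add_zero] at h2 ⊢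
    rw [map_mul, map_mul, h2, mul_one, psi_inv]
  have hc := eigval_ne_zero ψ hv hA
  obtain ⟨φ, h1, h2⟩ := hk
  have hA' : ψ h⁻¹ *ᵥ v = c⁻¹ • v := by
    have h3 : ψ h⁻¹ *ᵥ (ψ h *ᵥ v) = v := by rw [Matrix.mulVec_mulVec, psi_inv', Matrix.one_mulVec]
    rw [hA, Matrix.mulVec_smul] at h3
    rw [← h3, smul_smul, inv_mul_cancel₀ hc, one_smul, h3]
  refine ⟨c • (φ ᵥ* ψ h⁻¹), ?_, ?_⟩
  · rw [smul_dotProduct, ← Matrix.dotProduct_mulVec, hA', dotProduct_smul, h1, smul_zero, smul_zero]
  · rw [map_mul, map_mul, h2, mul_add, mul_one, add_mul, psi_inv, Matrix.mul_vecMulVec, Matrix.vecMulVec_mul, hA,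
      Matrix.smul_vecMulVec, Matrix.vecMulVec_smul]

/-- **the elements `1 + v ⊗ φ` commute with the lift** if `v` is an eigenvector -/
theorem Cfg.eig_comm (h11 : (11 : F) ≠ 0) {f : H →* X} (hf : Function.Surjective f) (ψ : H →* Matrix ι ι F)
    (hker : ∀ h, f h = 1 ↔ ∃ c : F, ψ h = c • 1) (hc : ∃ a b : X, a * b ≠ b * a) {P : Subgroup X} (hP : Cfg P) {x : X}
    (hxP : x ∈ P) (hx : orderOf x = 11) {h : H} (hh : f h = x) {v : ι → F} (hv : v ≠ 0) {c : F}
    (hA : ψ h *ᵥ v = c • v) {k : H} {φ : ι → F} (hφ : φ ⬝ᵥ v = 0) (hk : ψ k = 1 + Matrix.vecMulVec v φ) :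
    φ ᵥ* ψ h = c • φ := by
  rcases hP.lift_alt hxP hx f (cent ψ v) hh (fun k hk => cent_conj hA hk) with ⟨g, ⟨φ', -, hg⟩, hgx⟩ | hcom
  · exfalso
    have h4 := (hP.rank_ge h11 hf ψ hker hc hxP hx hgx 1).2
    rw [hg, one_smul, add_sub_cancel_left] at h4
    have := Matrix.rank_vecMulVec_le v φ'
    omega
  · have h3 : 3 ≤ Fintype.card ι := by
      have := (hP.rank_ge h11 hf ψ hker hc hxP hx hh 1).1
      omega
    have h4 := comm_rank_one h3 (f := f) ψ hker (h := h) (k := k) (by rw [hh]; exact hcom k ⟨φ, hφ, hk⟩) hk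
    rw [hA] at h4
    obtain ⟨i, hi⟩ := Function.ne_iff.1 hv
    funext j
    have h5 := congrFun (congrFun h4 i) j
    rw [Matrix.vecMulVec_apply, Matrix.vecMulVec_apply, Pi.smul_apply, smul_eq_mul] at h5
    have h6 : v i * ((φ ᵥ* ψ h) j - c * φ j) = 0 := by linear_combination -h5
    rcases mul_eq_zero.1 h6 with h7 | h7
    · exact absurd h7 hi
    · rw [Pi.smul_apply, smul_eq_mul]
      exact sub_eq_zero.1 h7

end generic

/-! ### `PSL` -/

/-- the matrices of `SL` -/
def slRep (n : ℕ) (F : Type) [Field F] : Matrix.SpecialLinearGroup (Fin n) F →* Matrix (Fin n) (Fin n) F where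
  toFun := fun A => A.1
  map_one' := rfl
  map_mul' := fun _ _ => rfl

theorem sl_ker {F : Type} [Field F] {n : ℕ} (h : Matrix.SpecialLinearGroup (Fin n) F) :
    (QuotientGroup.mk' _ h : ProjectiveSpecialLinearGroup (Fin n) F) = 1 ↔ ∃ c : F, slRep n F h = c • 1 := by
  have h1 : (QuotientGroup.mk' _ h : ProjectiveSpecialLinearGroup (Fin n) F) = 1 ↔
    h ∈ center (Matrix.SpecialLinearGroup (Fin n) F) := QuotientGroup.eq_one_iff h
  rw [h1, Matrix.SpecialLinearGroup.mem_center_iff]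
  constructor
  · rintro ⟨r, -, hr⟩
    exact ⟨r, by rw [Matrix.smul_one_eq_diagonal]; exact hr.symm⟩
  · rintro ⟨c, hc⟩
    have hc' : h.1 = c • 1 := hc
    refine ⟨c, ?_, ?_⟩
    · have := h.2
      rw [hc', Matrix.det_smul, Matrix.det_one, mul_one] at this
      exact this
    · rw [hc', Matrix.smul_one_eq_diagonal]; rfl

theorem row_psl_small {F : Type} [Field F] [Fintype F] (h11 : (11 : F) ≠ 0) {n : ℕ} (hn : n ≤ 4)
    [IsSimpleGroup (ProjectiveSpecialLinearGroup (Fin n) F)] : Row (ProjectiveSpecialLinearGroup (Fin n) F) :=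
  row_small h11 (QuotientGroup.mk'_surjective _) (slRep n F) sl_ker (by rw [Fintype.card_fin]; exact hn)

theorem row_psl_five {F : Type} [Field F] [Fintype F] (h11 : (11 : F) ≠ 0)
    [IsSimpleGroup (ProjectiveSpecialLinearGroup (Fin 5) F)] : Row (ProjectiveSpecialLinearGroup (Fin 5) F) := by
  intro hc P hP _
  exfalso
  let f : Matrix.SpecialLinearGroup (Fin 5) F →* ProjectiveSpecialLinearGroup (Fin 5) F := QuotientGroup.mk' _
  have hf : Function.Surjective f := QuotientGroup.mk'_surjective _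
  let ψ := slRep 5 F
  have hker : ∀ h, f h = 1 ↔ ∃ c : F, ψ h = c • 1 := sl_ker
  let h0 : Matrix.SpecialLinearGroup (Fin 5) F := Matrix.SpecialLinearGroup.transvection (show (0 : Fin 5) ≠ 1 by decide) 1
  have h0ab : ψ h0 = 1 + Matrix.vecMulVec (Pi.single 0 1) (Pi.single 1 1) := by
    show Matrix.transvection 0 1 (1 : F) = _
    rw [Matrix.transvection, Matrix.single_eq_single_vecMulVec_single]
  have h01 : f h0 ≠ 1 := by
    rw [Ne, hker]
    rintro ⟨c, hc⟩
    have h1 := congrFun (congrFun hc 0) 1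
    rw [h0ab] at h1
    simp [Matrix.vecMulVec_apply] at h1
  obtain ⟨x, h, c, v, hxP, hx, hh, hv, hA⟩ := hP.exists_eigvec hf ψ (by simp) hc h01 h0ab
  -- `φ (A - c) = 0` for all `φ` with `φ v = 0`
  have key : ∀ φ : Fin 5 → F, φ ⬝ᵥ v = 0 → φ ᵥ* ψ h = c • φ := by
    intro φ hφ
    let k : Matrix.SpecialLinearGroup (Fin 5) F := ⟨1 + Matrix.vecMulVec v φ, by
      rw [Matrix.vecMulVec_eq Unit, Matrix.det_one_add_replicateCol_mul_replicateRow, hφ, add_zero]⟩
    exact hP.eig_comm h11 hf ψ hker hc hxP hx hh hv hA (k := k) hφ rfl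
  obtain ⟨i, hi⟩ := Function.ne_iff.1 hv
  have hi' : v i ≠ 0 := hi
  have h4 := (hP.rank_ge h11 hf ψ hker hc hxP hx hh c).2
  have h5 : ψ h - c • (1 : Matrix (Fin 5) (Fin 5) F) =
      Matrix.vecMulVec ((v i)⁻¹ • v) ((ψ h - c • (1 : Matrix (Fin 5) (Fin 5) F)) i) := by
    ext j l
    have h6 : (v i • Pi.single j 1 - v j • Pi.single i 1 : Fin 5 → F) ⬝ᵥ v = 0 := by
      rw [sub_dotProduct, smul_dotProduct, smul_dotProduct, single_one_dotProduct, single_one_dotProduct, smul_eq_mul,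
        smul_eq_mul]
      ring
    have h7 := congrFun (key _ h6) l
    rw [Matrix.sub_vecMul, Matrix.smul_vecMul, Matrix.smul_vecMul, Matrix.single_one_vecMul, Matrix.single_one_vecMul] at h7
    simp only [Pi.sub_apply, Pi.smul_apply, smul_eq_mul, Matrix.row] at h7
    rw [Matrix.vecMulVec_apply]
    simp only [Matrix.sub_apply, Matrix.smul_apply, smul_eq_mul, Pi.smul_apply]
    field_simp
    simp only [Pi.single_apply, Matrix.one_apply, eq_comm] at h7 ⊢
    linear_combination h7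
  rw [h5] at h4
  have := Matrix.rank_vecMulVec_le ((v i)⁻¹ • v) ((ψ h - c • (1 : Matrix (Fin 5) (Fin 5) F)) i)
  omega

/-- **`PSL(n, q)`, characteristic `≠ 11`** -/
theorem row_psl {F : Type} [Field F] [Fintype F] (h11 : (11 : F) ≠ 0) {n : ℕ}
    [IsSimpleGroup (ProjectiveSpecialLinearGroup (Fin n) F)] : Row (ProjectiveSpecialLinearGroup (Fin n) F) := by
  rcases lt_trichotomy n 5 with h | rfl | h
  · exact row_psl_small h11 (by omega)
  · exact row_psl_five h11
  · exact row_psl_six h11 (by omega)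

end Cfsg.Agent.H43.Eleven
end

-- part: H43/Eleven/ClassU
section
/-!
# S3403: the groups `PSU(n, q)` in characteristic `≠ 11`
-/

set_option autoImplicit false
set_option linter.style.haveILetI false

namespace Cfsg.Agent.H43.Eleven

open Subgroup Module Matrix Cfsg LieClassical.HermBasic LieClassical.HermSiegel

universe u v w

/-- the matrices of `SU` -/
def suRep (n : ℕ) (F : Type) [Field F] (q : ℕ) : SU n F q →* Matrix (Fin n) (Fin n) F where
  toFun := mat
  map_one' := mat_one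
  map_mul' := mat_mul

theorem suRep_mulVec {n : ℕ} {F : Type} [Field F] {q : ℕ} (g : SU n F q) (v : Fin n → F) : suRep n F q g *ᵥ v = act g v :=
  rfl

variable {F : Type} [Field F] [Fintype F] {q : ℕ}

theorem su_ker (hF : Fintype.card F = q ^ 2) {n : ℕ} (hn : 3 ≤ n) (h : SU n F q) :
    (QuotientGroup.mk' _ h : PSU n F q) = 1 ↔ ∃ c : F, suRep n F q h = c • 1 := by
  have h1 : (QuotientGroup.mk' _ h : PSU n F q) = 1 ↔ h ∈ center (SU n F q) := QuotientGroup.eq_one_iff h
  rw [h1]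
  constructor
  · intro h2
    obtain ⟨c, -, -, h3⟩ := ClassicalGeometry.PSUAutBasic.exists_scalar_of_mem_center hF hn h2
    refine ⟨c, ?_⟩
    apply Matrix.mulVec_injective
    funext x
    rw [suRep_mulVec, h3, Matrix.smul_mulVec, Matrix.one_mulVec]
  · rintro ⟨c, hc⟩
    refine ClassicalGeometry.PSUAutBasic.mem_center_of_act (c := c) fun v => ?_
    rw [← suRep_mulVec, hc, Matrix.smul_mulVec, Matrix.one_mulVec]

omit [Fintype F] in
theorem isSiegel_zero {n : ℕ} {u : Fin n → F} {κ : F} (hu : hermForm n F q u u = 0) (hκ : κ + κ ^ q = 0) :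
    IsSiegel q u 0 κ :=
  ⟨hu, herm_zero_left _, by rw [herm_zero_left, add_zero, hκ]⟩

theorem suRep_siegel (hF : Fintype.card F = q ^ 2) {n : ℕ} {u : Fin n → F} {κ : F} (hs : IsSiegel q u 0 κ) :
    suRep n F q (siegel hF u 0 κ hs) = 1 + Matrix.vecMulVec u (fun j => κ * u j ^ q) := by
  show siegelMat q u 0 κ = _
  rw [siegelMat, Matrix.zero_vecMulVec, zero_add]
  congr 2
  funext j
  rw [Pi.zero_apply, zero_pow_q hF, sub_zero]

theorem not_scalar_of_rank_one {k : Type*} [Field k] {ι : Type*} [Fintype ι] [DecidableEq ι] (hN : 2 ≤ Fintype.card ι)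
    {a b : ι → k} (ha : a ≠ 0) (hb : b ≠ 0) (c : k) : 1 + Matrix.vecMulVec a b ≠ c • (1 : Matrix ι ι k) := by
  intro h
  have h1 : (c - 1) • (1 : Matrix ι ι k) = Matrix.vecMulVec a b := by
    rw [sub_smul, one_smul, ← h, add_sub_cancel_left]
  by_cases hc : c = 1
  · rw [hc, sub_self, zero_smul] at h1
    obtain ⟨i, hi⟩ := Function.ne_iff.1 ha
    obtain ⟨j, hj⟩ := Function.ne_iff.1 hb
    have h2 := congrFun (congrFun h1 i) j
    rw [Matrix.zero_apply, Matrix.vecMulVec_apply] at h2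
    exact mul_ne_zero hi hj h2.symm
  · have h2 : ((c - 1) • (1 : Matrix ι ι k)).rank ≤ 1 := by
      rw [h1]
      exact Matrix.rank_vecMulVec_le _ _
    rw [Lin.rank_smul_ne (sub_ne_zero.2 hc), Matrix.rank_one] at h2
    omega

theorem exists_trans (hF : Fintype.card F = q ^ 2) {n : ℕ} (hn : 3 ≤ n) :
    ∃ (h0 : SU n F q) (a b : Fin n → F), suRep n F q h0 = 1 + Matrix.vecMulVec a b ∧
      (QuotientGroup.mk' _ h0 : PSU n F q) ≠ 1 := by
  have hij : (⟨0, by omega⟩ : Fin n) ≠ ⟨1, by omega⟩ := by simp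
  obtain ⟨p, p', a, b, ha, hp, hp', hpp, hp'p', hpp'⟩ := LieClassical.HermGen.exists_hyp_pair (q := q) hF hij
  obtain ⟨κ, hκ0, hκ⟩ := exists_trace_zero_ne hF
  have hs := isSiegel_zero (n := n) hpp hκ
  refine ⟨siegel hF p 0 κ hs, p, _, suRep_siegel hF hs, ?_⟩
  rw [Ne, su_ker hF hn]
  rintro ⟨c, hc⟩
  rw [suRep_siegel hF hs] at hc
  have hp0 : p ≠ 0 := by
    rintro rfl
    rw [herm_zero_left] at hpp'
    exact zero_ne_one hpp'
  refine not_scalar_of_rank_one (by rw [Fintype.card_fin]; omega) hp0 ?_ c hc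
  intro h0
  obtain ⟨i, hi⟩ := Function.ne_iff.1 hp0
  have h1 := congrFun h0 i
  rw [Pi.zero_apply] at h1
  rcases mul_eq_zero.1 h1 with h2 | h2
  · exact hκ0 h2
  · exact hi ((pow_q_eq_zero hF).1 h2)

theorem row_psu_small (h11 : (11 : F) ≠ 0) (hF : Fintype.card F = q ^ 2) {n : ℕ} (hn3 : 3 ≤ n) (hn : n ≤ 4)
    [IsSimpleGroup (PSU n F q)] : Row (PSU n F q) :=
  row_small h11 (QuotientGroup.mk'_surjective _) (suRep n F q) (su_ker hF hn3) (by rw [Fintype.card_fin]; exact hn)

theorem row_psu_six (h11 : (11 : F) ≠ 0) (hF : Fintype.card F = q ^ 2) {n : ℕ} (hn : 6 ≤ n)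
    [IsSimpleGroup (PSU n F q)] : Row (PSU n F q) := by
  obtain ⟨h0, a, b, h0ab, h01⟩ := exists_trans hF (n := n) (by omega)
  exact row_five h11 (QuotientGroup.mk'_surjective _) (suRep n F q) (su_ker hF (by omega))
    (by rw [Fintype.card_fin]; exact hn) h01 h0ab

omit [Fintype F] in
/-- the left vectors `h(-, u)` -/
theorem dot_pow {n : ℕ} (κ : F) (u w : Fin n → F) : (fun j => κ * u j ^ q) ⬝ᵥ w = κ * hermForm n F q w u := by
  rw [herm_def, dotProduct, Finset.mul_sum]
  exact Finset.sum_congr rfl fun i _ => by ring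

omit [Fintype F] in
theorem exists_herm_ne {n : ℕ} {v : Fin n → F} (hv : v ≠ 0) : ∃ w : Fin n → F, hermForm n F q w v ≠ 0 := by
  obtain ⟨i, hi⟩ := Function.ne_iff.1 hv
  refine ⟨Pi.single i 1, ?_⟩
  rw [herm_single_left, one_mul]
  exact pow_ne_zero _ hi

/-- eigenvectors of the lift are anisotropic with eigenvalue of norm 1 -/
theorem psu_five_eig (h11 : (11 : F) ≠ 0) (hF : Fintype.card F = q ^ 2) [IsSimpleGroup (PSU 5 F q)]
    (hc : ∃ a b : PSU 5 F q, a * b ≠ b * a) {P : Subgroup (PSU 5 F q)} (hP : Cfg P) {x : PSU 5 F q} (hxP : x ∈ P)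
    (hx : orderOf x = 11) {h : SU 5 F q} (hh : (QuotientGroup.mk' _ h : PSU 5 F q) = x) {v : Fin 5 → F} (hv : v ≠ 0)
    {c : F} (hA : act h v = c • v) : c * c ^ q = 1 ∧ hermForm 5 F q v v ≠ 0 := by
  have hf : Function.Surjective (QuotientGroup.mk' _ : SU 5 F q →* PSU 5 F q) := QuotientGroup.mk'_surjective _
  have hker := su_ker hF (n := 5) (by norm_num)
  have hc0 : c ≠ 0 := eigval_ne_zero (suRep 5 F q) hv hA
  have h1 : ∀ w, c ^ q * hermForm 5 F q (act h w) v = hermForm 5 F q w v := by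
    intro w
    rw [← herm_smul_right, ← hA, herm_act]
  by_cases hvv : hermForm 5 F q v v = 0
  · exfalso
    obtain ⟨κ, hκ0, hκ⟩ := exists_trace_zero_ne hF
    have hs := isSiegel_zero (n := 5) hvv hκ
    have h2 := hP.eig_comm h11 hf (suRep 5 F q) hker hc hxP hx hh hv hA (k := siegel hF v 0 κ hs)
      (φ := fun j => κ * v j ^ q) (by rw [dot_pow, hvv, mul_zero]) (suRep_siegel hF hs)
    have h3 : ∀ w, hermForm 5 F q (act h w) v = c * hermForm 5 F q w v := by
      intro w
      have h4 : ((fun j => κ * v j ^ q) ᵥ* suRep 5 F q h) ⬝ᵥ w = (c • fun j => κ * v j ^ q) ⬝ᵥ w := by rw [h2]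
      rw [← Matrix.dotProduct_mulVec, suRep_mulVec, smul_dotProduct, dot_pow, dot_pow, smul_eq_mul] at h4
      have h5 : κ * (hermForm 5 F q (act h w) v - c * hermForm 5 F q w v) = 0 := by linear_combination h4
      rcases mul_eq_zero.1 h5 with h6 | h6
      · exact absurd h6 hκ0
      · exact sub_eq_zero.1 h6
    -- the range of `A - c`
    let L : (Fin 5 → F) →ₗ[F] F :=
      { toFun := fun w => hermForm 5 F q w v
        map_add' := fun a b => herm_add_left a b v
        map_smul' := fun a b => herm_smul_left a b v }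
    have hL : L ≠ 0 := by
      obtain ⟨w, hw⟩ := exists_herm_ne (q := q) hv
      intro h0
      exact hw (congrArg (fun L => L w) h0)
    have hdim : finrank F (LinearMap.ker L) = 4 := by
      have h5 := LinearMap.finrank_range_add_finrank_ker L
      rw [LinearMap.range_eq_top.2 (LinearMap.surjective hL), finrank_top, finrank_self, finrank_fintype_fun_eq_card,
        Fintype.card_fin] at h5
      omega
    have hle : LinearMap.range (suRep 5 F q h - c • 1).mulVecLin ≤ LinearMap.ker L := by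
      rintro _ ⟨w, rfl⟩
      rw [LinearMap.mem_ker, Matrix.mulVecLin_apply, Matrix.sub_mulVec, Matrix.smul_mulVec, Matrix.one_mulVec,
        suRep_mulVec]
      show hermForm 5 F q (act h w - c • w) v = 0
      rw [herm_sub_left, h3, herm_smul_left, sub_self]
    have hrk := (hP.rank_ge h11 hf (suRep 5 F q) hker hc hxP hx hh c).2
    have heq : LinearMap.range (suRep 5 F q h - c • 1).mulVecLin = LinearMap.ker L := by
      apply Submodule.eq_of_le_of_finrank_le hle
      rw [hdim]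
      exact hrk
    obtain ⟨w, hw⟩ : v ∈ LinearMap.range (suRep 5 F q h - c • 1).mulVecLin := by
      rw [heq, LinearMap.mem_ker]
      exact hvv
    rw [Matrix.mulVecLin_apply, Matrix.sub_mulVec, Matrix.smul_mulVec, Matrix.one_mulVec, sub_eq_iff_eq_add] at hw
    have hpv : ∀ n : ℕ, (suRep 5 F q h) ^ n *ᵥ v = c ^ n • v := by
      intro n
      induction n with
      | zero => simp
      | succ n ih =>
        rw [pow_succ, ← Matrix.mulVec_mulVec, suRep_mulVec, hA, Matrix.mulVec_smul, ih, smul_smul, pow_succ, mul_comm]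
    have hpw : ∀ n : ℕ, (suRep 5 F q h) ^ n *ᵥ w = c ^ n • w + ((n : F) * c ^ (n - 1)) • v := by
      intro n
      induction n with
      | zero => simp only [_root_.pow_zero, _root_.Matrix.one_mulVec, _root_.one_smul, _root_.Nat.cast_zero, _root_.zero_tsub, _root_.mul_one, _root_.zero_smul, _root_.add_zero]
      | succ n ih =>
        rw [pow_succ, ← Matrix.mulVec_mulVec, hw, Matrix.mulVec_add, Matrix.mulVec_smul, ih, hpv]
        rcases n with _ | n
        · simp only [add_comm, _root_.pow_zero, _root_.one_smul, _root_.Nat.cast_zero, _root_.zero_tsub, _root_.mul_one, _root_.zero_smul, _root_.add_zero, _root_.zero_add, _root_.pow_one, _root_.Nat.cast_one, _root_.tsub_self]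
        · simp only [Nat.add_sub_cancel, smul_add, smul_smul]
          rw [add_comm (c ^ (n + 1) • v), add_assoc, ← add_smul]
          congr 1
          · rw [pow_succ c (n + 1), mul_comm]
          · congr 1
            push_cast
            ring
    obtain ⟨μ, hμ⟩ := (hker (h ^ 11)).1 (by rw [map_pow, hh, ← hx, pow_orderOf_eq_one])
    rw [map_pow] at hμ
    have e1 := hpv 11
    have e2 := hpw 11
    rw [hμ, Matrix.smul_mulVec, Matrix.one_mulVec] at e1 e2
    have e3 : μ = c ^ 11 := by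
      have h5 : (μ - c ^ 11) • v = 0 := by rw [sub_smul, e1, sub_self]
      rcases smul_eq_zero.1 h5 with h6 | h6
      · exact sub_eq_zero.1 h6
      · exact absurd h6 hv
    rw [e3] at e2
    have e4 : (((11 : ℕ) : F) * c ^ (11 - 1)) • v = 0 := by
      have := e2
      rw [left_eq_add] at this
      exact this
    rcases smul_eq_zero.1 e4 with h6 | h6
    · rcases mul_eq_zero.1 h6 with h7 | h7
      · exact h11 (by exact_mod_cast h7)
      · exact pow_ne_zero _ hc0 h7
    · exact hv h6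
  · refine ⟨?_, hvv⟩
    have h2 := h1 v
    rw [hA, herm_smul_left] at h2
    have h3 : (c * c ^ q - 1) * hermForm 5 F q v v = 0 := by linear_combination h2
    rcases mul_eq_zero.1 h3 with h4 | h4
    · exact sub_eq_zero.1 h4
    · exact absurd h4 hvv

theorem row_psu_five (h11 : (11 : F) ≠ 0) (hF : Fintype.card F = q ^ 2) [IsSimpleGroup (PSU 5 F q)] :
    Row (PSU 5 F q) := by
  intro hc P hP _
  exfalso
  let f : SU 5 F q →* PSU 5 F q := QuotientGroup.mk' _
  have hf : Function.Surjective f := QuotientGroup.mk'_surjective _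
  have hker : ∀ h, f h = 1 ↔ ∃ c : F, suRep 5 F q h = c • 1 := su_ker hF (n := 5) (by norm_num)
  obtain ⟨h0, a, b, h0ab, h01⟩ := exists_trans hF (n := 5) (by norm_num)
  obtain ⟨x, h, c, v, hxP, hx, hh, hv, hA⟩ := hP.exists_eigvec hf (suRep 5 F q) (by simp) hc h01 h0ab
  obtain ⟨g, d, hdc, hA1⟩ := hP.second h11 hf (suRep 5 F q) hker (by simp) hc hxP hx hh hv hA
  rw [suRep_mulVec] at hA
  simp only [suRep_mulVec] at hA1
  obtain ⟨v1, hv1def⟩ : ∃ v1, v1 = act g v := ⟨_, rfl⟩
  rw [← hv1def] at hA1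
  have hv1 : v1 ≠ 0 := by
    rw [hv1def]
    exact fun h0 => hv ((act_eq_zero g).1 h0)
  obtain ⟨hcn, hvv⟩ := psu_five_eig h11 hF hc hP hxP hx hh hv hA
  obtain ⟨hdn, hvv1⟩ := psu_five_eig h11 hF hc hP hxP hx hh hv1 hA1
  -- orthogonality
  have hor : hermForm 5 F q v v1 = 0 := by
    have h1 := herm_act h v v1
    rw [hA, hA1, herm_smul_left, herm_smul_right] at h1
    have h2 : (c - d) * hermForm 5 F q v v1 = 0 := by
      have h3 : (c * d ^ q - 1) * hermForm 5 F q v v1 = 0 := by linear_combination h1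
      have h4 : (c - d) * hermForm 5 F q v v1 = d * ((c * d ^ q - 1) * hermForm 5 F q v v1) +
        (1 - d * d ^ q) * (c * hermForm 5 F q v v1) := by ring
      rw [h4, h3, hdn]
      ring
    rcases mul_eq_zero.1 h2 with h3 | h3
    · exact absurd (sub_eq_zero.1 h3).symm hdc
    · exact h3
  have hor' : hermForm 5 F q v1 v = 0 := herm_eq_zero_swap hF hor
  -- an isotropic vector in the plane
  have hfix : (-(hermForm 5 F q v v) / hermForm 5 F q v1 v1) ^ q = -(hermForm 5 F q v v) / hermForm 5 F q v1 v1 := by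
    rw [div_pow, neg_pow_q hF, herm_self_pow hF, herm_self_pow hF]
  obtain ⟨l, hl0, hl⟩ := exists_norm_eq_ne hF hfix (div_ne_zero (neg_ne_zero.2 hvv) hvv1)
  obtain ⟨u, hu⟩ : ∃ u, u = v + l • v1 := ⟨_, rfl⟩
  have huu : hermForm 5 F q u u = 0 := by
    rw [hu, herm_add_left, herm_add_right hF, herm_add_right hF, herm_smul_left, herm_smul_left, herm_smul_right,
      herm_smul_right, hor, hor']
    have h3 : l * l ^ q * hermForm 5 F q v1 v1 = -(hermForm 5 F q v v) := by
      rw [hl, div_mul_cancel₀ _ hvv1]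
    linear_combination h3
  have hu0 : u ≠ 0 := by
    intro h0
    have h1 : hermForm 5 F q u v = 0 := by rw [h0, herm_zero_left]
    rw [hu, herm_add_left, herm_smul_left, hor', mul_zero, add_zero] at h1
    exact hvv h1
  obtain ⟨κ, hκ0, hκ⟩ := exists_trace_zero_ne hF
  have hs := isSiegel_zero (n := 5) huu hκ
  -- the subgroup
  let K0 : Subgroup (SU 5 F q) :=
    { carrier := {k | ∀ w, hermForm 5 F q w v = 0 → hermForm 5 F q w v1 = 0 → act k w = w}
      one_mem' := fun w _ _ => act_one w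
      mul_mem' := fun {a b} ha hb w h1 h2 => by rw [act_mul, hb w h1 h2, ha w h1 h2]
      inv_mem' := fun {a} ha w h1 h2 => by
        conv_lhs => rw [← ha w h1 h2]
        rw [act_inv_act] }
  have hn : ∀ k ∈ K0, h * k * h⁻¹ ∈ K0 := by
    intro k hk w h1 h2
    rw [act_mul, act_mul]
    have e1 : hermForm 5 F q (act h⁻¹ w) v = 0 := by
      rw [herm_act_left, inv_inv, hA, herm_smul_right, h1, mul_zero]
    have e2 : hermForm 5 F q (act h⁻¹ w) v1 = 0 := by
      rw [herm_act_left, inv_inv, hA1, herm_smul_right, h2, mul_zero]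
    rw [hk _ e1 e2, act_act_inv]
  rcases hP.lift_alt hxP hx f K0 hh hn with ⟨k, hk, hkx⟩ | hcom
  · have h4 := (hP.rank_ge h11 hf (suRep 5 F q) hker hc hxP hx hkx 1).2
    rw [one_smul] at h4
    let L : (Fin 5 → F) →ₗ[F] F × F :=
      { toFun := fun w => (hermForm 5 F q w v, hermForm 5 F q w v1)
        map_add' := fun a b => Prod.ext (herm_add_left a b v) (herm_add_left a b v1)
        map_smul' := fun a b => Prod.ext (herm_smul_left a b v) (herm_smul_left a b v1) }
    have hle : LinearMap.ker L ≤ LinearMap.ker (suRep 5 F q k - 1).mulVecLin := by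
      intro w hw
      rw [LinearMap.mem_ker] at hw ⊢
      rw [Matrix.mulVecLin_apply, Matrix.sub_mulVec, Matrix.one_mulVec, suRep_mulVec,
        hk w (congrArg Prod.fst hw) (congrArg Prod.snd hw), sub_self]
    have h5 := LinearMap.finrank_range_add_finrank_ker L
    have h6 := LinearMap.finrank_range_add_finrank_ker (suRep 5 F q k - 1).mulVecLin
    have h7 := Submodule.finrank_mono hle
    have h8 : finrank F (LinearMap.range L) ≤ 2 := by
      refine (Submodule.finrank_le _).trans ?_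
      rw [finrank_prod, finrank_self]
    rw [finrank_fintype_fun_eq_card, Fintype.card_fin] at h5 h6
    have h9 : (suRep 5 F q k - 1).rank = finrank F (LinearMap.range (suRep 5 F q k - 1).mulVecLin) := rfl
    omega
  · have h1 : siegel hF u 0 κ hs ∈ K0 := by
      intro w h1 h2
      refine act_siegel_of_orth hF hs ?_ (herm_zero_right hF w)
      rw [hu, herm_add_right hF, herm_smul_right, h1, h2, mul_zero, add_zero]
    have h2 := comm_rank_one (by simp) (f := f) (suRep 5 F q) hker (h := h) (k := siegel hF u 0 κ hs)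
      (by rw [hh]; exact hcom _ h1) (suRep_siegel hF hs)
    obtain ⟨j, hj⟩ := Function.ne_iff.1 hu0
    have hj' : κ * u j ^ q ≠ 0 := mul_ne_zero hκ0 (pow_ne_zero _ hj)
    obtain ⟨s, hs'⟩ : ∃ s : F, act h u = s • u := by
      refine ⟨(Matrix.vecMul (fun j => κ * u j ^ q) (suRep 5 F q h)) j / (κ * u j ^ q), ?_⟩
      funext i
      have h3 := congrFun (congrFun h2 i) j
      rw [Matrix.vecMulVec_apply, Matrix.vecMulVec_apply, suRep_mulVec] at h3
      rw [Pi.smul_apply, smul_eq_mul, div_mul_eq_mul_div, eq_div_iff hj', h3, mul_comm]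
    rw [hu, act_add, act_smul, hA, hA1] at hs'
    have e1 : c = s := by
      have h3 := congrArg (fun w => hermForm 5 F q w v) hs'
      simp only [herm_add_left, herm_smul_left, hor', mul_zero, add_zero] at h3
      exact mul_right_cancel₀ hvv h3
    have e2 : d = s := by
      have h3 := congrArg (fun w => hermForm 5 F q w v1) hs'
      simp only [herm_add_left, herm_smul_left, hor, mul_zero, zero_add] at h3
      have h4 : (l * hermForm 5 F q v1 v1) * d = (l * hermForm 5 F q v1 v1) * s := by linear_combination h3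
      exact mul_left_cancel₀ (mul_ne_zero hl0 hvv1) h4
    exact hdc (e2.trans e1.symm)

/-- **`PSU(n, q)`, characteristic `≠ 11`** -/
theorem row_psu (h11 : (11 : F) ≠ 0) (hF : Fintype.card F = q ^ 2) {n : ℕ} (hn3 : 3 ≤ n)
    [IsSimpleGroup (PSU n F q)] : Row (PSU n F q) := by
  rcases lt_trichotomy n 5 with h | rfl | h
  · exact row_psu_small h11 hF hn3 (by omega)
  · exact row_psu_five h11 hF
  · exact row_psu_six h11 hF (by omega)

end Cfsg.Agent.H43.Eleven
end

-- part: H43/Eleven/Alt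
section
/-!
# S3403: the alternating groups
-/

set_option autoImplicit false
set_option linter.unusedSimpArgs false
set_option linter.style.haveILetI false

namespace Cfsg.Agent.H43.Eleven

open Subgroup Module Matrix

universe u v

/-- the permutation representation over `ℚ` -/
def permRep (n : ℕ) : Equiv.Perm (Fin n) →* Matrix (Fin n) (Fin n) ℚ where
  toFun σ := Matrix.of fun i j => if i = σ j then 1 else 0
  map_one' := by
    ext i j
    rw [Matrix.one_apply]
    rfl
  map_mul' σ τ := by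
    ext i j
    rw [Matrix.mul_apply]
    show (if i = σ (τ j) then (1 : ℚ) else 0) = ∑ k, (if i = σ k then (1 : ℚ) else 0) * (if k = τ j then 1 else 0)
    rw [Finset.sum_eq_single (τ j)]
    · rw [if_pos rfl, mul_one]
    · intro b _ hb
      rw [if_neg hb, mul_zero]
    · intro hb
      exact absurd (Finset.mem_univ _) hb

theorem row_alt {n : ℕ} (hn : 5 ≤ n) : Row (alternatingGroup (Fin n)) := by
  haveI : IsSimpleGroup (alternatingGroup (Fin n)) := by
    apply alternatingGroup.isSimpleGroup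
    rw [Nat.card_eq_fintype_card, Fintype.card_fin]
    exact hn
  let f : alternatingGroup (Fin n) →* alternatingGroup (Fin n) := MonoidHom.id _
  let ψ : alternatingGroup (Fin n) →* Matrix (Fin n) (Fin n) ℚ := (permRep n).comp (alternatingGroup (Fin n)).subtype
  have hψ : ∀ (h : alternatingGroup (Fin n)) (i j : Fin n), ψ h i j = if i = h.1 j then 1 else 0 := fun _ _ _ => rfl
  have hker : ∀ h, f h = 1 ↔ ∃ c : ℚ, ψ h = c • 1 := by
    intro h
    constructor
    · intro h1
      refine ⟨1, ?_⟩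
      have : h = 1 := h1
      rw [this, map_one, one_smul]
    · rintro ⟨c, hc⟩
      apply Subtype.ext
      apply Equiv.ext
      intro j
      show h.1 j = j
      by_contra hj
      have h1 := congrFun (congrFun hc (h.1 j)) j
      rw [hψ, if_pos rfl, Matrix.smul_apply, Matrix.one_apply_ne hj, smul_zero] at h1
      exact one_ne_zero h1
  have hJψ : ∀ h, (ψ h).transpose * (1 : Matrix (Fin n) (Fin n) ℚ) * ψ h = 1 := by
    intro h
    ext i j
    rw [mul_one, Matrix.mul_apply]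
    simp only [Matrix.transpose_apply, hψ]
    simp only [Matrix.one_apply, eq_comm, _root_.mul_ite, _root_.mul_one, _root_.MulZeroClass.mul_zero, _root_.Finset.sum_ite_eq', _root_.Finset.mem_univ, ↓ _root_.reduceIte, _root_.EmbeddingLike.apply_eq_iff_eq]
  let a : Fin n := ⟨0, by omega⟩
  let b : Fin n := ⟨1, by omega⟩
  let c : Fin n := ⟨2, by omega⟩
  have hab : a ≠ b := by simp [a, b, Fin.ext_iff]
  have hac : a ≠ c := by simp [a, c, Fin.ext_iff]
  have hbc : b ≠ c := by simp [b, c, Fin.ext_iff]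
  let σ : Equiv.Perm (Fin n) := Equiv.swap a b * Equiv.swap b c
  have hσ : σ ∈ alternatingGroup (Fin n) := by
    rw [Equiv.Perm.mem_alternatingGroup, map_mul, Equiv.Perm.sign_swap hab, Equiv.Perm.sign_swap hbc]
    norm_num
  have hσa : σ a = b := by
    show Equiv.swap a b (Equiv.swap b c a) = b
    rw [Equiv.swap_apply_of_ne_of_ne hab hac, Equiv.swap_apply_left]
  have hσb : σ b = c := by
    show Equiv.swap a b (Equiv.swap b c b) = c
    rw [Equiv.swap_apply_left, Equiv.swap_apply_of_ne_of_ne hac.symm hbc.symm]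
  have hσc : σ c = a := by
    show Equiv.swap a b (Equiv.swap b c c) = a
    rw [Equiv.swap_apply_right, Equiv.swap_apply_right]
  have hσo : ∀ j, j ≠ a → j ≠ b → j ≠ c → σ j = j := by
    intro j h1 h2 h3
    show Equiv.swap a b (Equiv.swap b c j) = j
    rw [Equiv.swap_apply_of_ne_of_ne h2 h3, Equiv.swap_apply_of_ne_of_ne h1 h2]
  let h0 : alternatingGroup (Fin n) := ⟨σ, hσ⟩
  have h0ab : ψ h0 = 1 + Matrix.vecMulVec (Pi.single b 1 - Pi.single a 1) (Pi.single a 1 - Pi.single c 1) +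
      Matrix.vecMulVec (Pi.single c 1 - Pi.single b 1) (Pi.single b 1 - Pi.single c 1) := by
    ext i j
    rw [hψ]
    show (if i = σ j then (1 : ℚ) else 0) = _
    simp only [Matrix.add_apply, Matrix.vecMulVec_apply, Pi.sub_apply, Matrix.one_apply]
    by_cases hja : j = a
    · subst hja
      rw [hσa]
      by_cases h1 : i = a
      · subst h1; simp [hab, hac, hab.symm, hac.symm]
      · by_cases h2 : i = b
        · subst h2; simp [hab, hac, hbc, hab.symm, hac.symm, hbc.symm]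
        · simp [hab, hac, hbc, hab.symm, hac.symm, hbc.symm, h1, h2]
    · by_cases hjb : j = b
      · subst hjb
        rw [hσb]
        by_cases h1 : i = a
        · subst h1; simp [hab, hac, hbc, hab.symm, hac.symm, hbc.symm]
        · by_cases h2 : i = b
          · subst h2; simp [hab, hac, hbc, hab.symm, hac.symm, hbc.symm]
          · by_cases h3 : i = c
            · subst h3; simp [hab, hac, hbc, hab.symm, hac.symm, hbc.symm]
            · simp [hab, hac, hbc, hab.symm, hac.symm, hbc.symm, h1, h2, h3]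
      · by_cases hjc : j = c
        · subst hjc
          rw [hσc]
          by_cases h1 : i = a
          · subst h1; simp [hab, hac, hbc, hab.symm, hac.symm, hbc.symm]
          · by_cases h2 : i = b
            · subst h2; simp [hab, hac, hbc, hab.symm, hac.symm, hbc.symm]
            · by_cases h3 : i = c
              · subst h3; simp [hab, hac, hbc, hab.symm, hac.symm, hbc.symm]
              · simp [hab, hac, hbc, hab.symm, hac.symm, hbc.symm, h1, h2, h3]
        · rw [hσo j hja hjb hjc]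
          simp [hja, hjb, hjc]
  refine row_nine (by norm_num : (11 : ℚ) ≠ 0) (f := f) (fun x => ⟨x, rfl⟩) ψ hker (J := 1) isUnit_one hJψ (h0 := h0) ?_ h0ab
  intro h1
  have h2 : σ = 1 := congrArg Subtype.val (show h0 = 1 from h1)
  rw [h2] at hσa
  exact hab hσa

end Cfsg.Agent.H43.Eleven
end

-- part: H807/El/Suz
section
/-!
# S3403, part B: the Suzuki group
-/

set_option autoImplicit false
set_option maxRecDepth 100000

namespace Cfsg.Agent.H807.El

open Cfsg Cfsg.Agent.H43.Eleven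
open Cfsg.Agent.OddHalf.Table.SuzRep

universe u

theorem card_Suz : Nat.card Spor.Suz = 448345497600 := Cfsg.Agent.SporadicRecognition.SuzOrder.card_Suz

theorem Suz_word : Wd [0, 5, 0, 5] = x * (w * x * w) := by
  rw [Wd_cons, Wd_cons, Wd_cons, Wd_one, mul_assoc]
  rfl

theorem row_Suz' : Row Spor.Suz := by
  intro _ P hP _
  exfalso
  have hw : w⁻¹ = w := by
    rw [inv_eq_iff_mul_eq_one]
    exact w2
  have hc : w * x * w = w * x * w⁻¹ := by rw [hw]
  refine Cfg.false_of_pair_pow hP (by rw [card_Suz]; norm_num) (a := x) (b := w * x * w) (k := 12) (d := 6)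
    (by norm_num) x11 x_ne ?_ ?_ ?_ ?_
  · rw [hc, conj_pow, x11, mul_one, mul_inv_cancel]
  · rw [hc, Ne, conj_eq_one_iff]
    exact x_ne
  · have h := eqw (u := rep 12 [0, 5, 0, 5]) (v := []) (by decide +kernel)
    rwa [Wd_rep, Suz_word] at h
  · have h := ne_of_ev (u := rep 6 [0, 5, 0, 5]) (v := []) (p := 0) (by decide +kernel)
    rwa [Wd_rep, Suz_word] at h

theorem row_Suz {X : Type u} [Group X] (h : Spor.IsoSuz X) : Row X := by
  obtain ⟨e⟩ := h
  exact row_congr e row_Suz'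

end Cfsg.Agent.H807.El
end

-- part: H820/ElM
section
/-!
# S3403: the row `M`

`z` an involution with `C(z) = 2^{1+24}.Co1`, `r ∈ C(z)` of order 11. A conjugate `P'` of `P` centralises `r`.
If `P' = ⟨r⟩`, then `|C(z) : C(z) ∩ C(P')|` divides 15960, but `|C(z) ∩ C(r)| ≤ 4224`. Otherwise `|⟨r⟩ P'| = 11²`,
no involution centralises it, so `|C(r) ∩ C(P')|` is odd and 16 does not divide `|C(r)|`; but 32 divides `|C(r)|`
(fixed points of `r` on `O_2(C(z))`, of order `2^25`).
-/

set_option autoImplicit false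

namespace Cfsg.Agent.H820.ElM

open Subgroup Cfsg Cfsg.Agent.H43.Eleven
open Cfsg.Agent.BpSpor.MBigModel

universe u v

/-- fixed points of an element of order 11 on a normal subgroup of order `2^25` -/
theorem dvd_inf {C : Type u} [Group C] [Finite C] {N : Subgroup C} [hN : N.Normal] (hc : Nat.card ↥N = 2 ^ 25) {r : C}
    (hr : orderOf r = 11) : 32 ∣ Nat.card ↥(N ⊓ centralizer ({r} : Set C)) := by
  have : Fact (Nat.Prime 11) := ⟨by norm_num⟩
  let f : ↥(zpowers r) →* MulAut ↥N := MulAut.conjNormal.comp (zpowers r).subtype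
  let _ : MulAction ↥(zpowers r) ↥N := MulAction.compHom ↥N f
  have hp : IsPGroup 11 ↥(zpowers r) := IsPGroup.of_card (n := 1) (by rw [Nat.card_zpowers, hr, pow_one])
  have h1 := hp.card_modEq_card_fixedPoints ↥N
  have h2 : Nat.card ↑(MulAction.fixedPoints ↥(zpowers r) ↥N) = Nat.card ↥(N ⊓ centralizer ({r} : Set C)) := by
    refine Nat.card_congr
      { toFun := fun x => ⟨x.1.1, x.1.2, ?_⟩
        invFun := fun x => ⟨⟨x.1, x.2.1⟩, ?_⟩
        left_inv := fun _ => rfl
        right_inv := fun _ => rfl }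
    · refine mem_centralizer_singleton_iff.2 ?_
      have h3 := congrArg Subtype.val (x.2 ⟨r, mem_zpowers r⟩)
      have h4 : r * x.1.1 * r⁻¹ = x.1.1 := h3
      calc x.1.1 * r = r * x.1.1 * r⁻¹ * r := by rw [h4]
        _ = r * x.1.1 := by group
    · rintro ⟨s, hs⟩
      apply Subtype.ext
      show s * x.1 * s⁻¹ = x.1
      have h3 : x.1 * r = r * x.1 := mem_centralizer_singleton_iff.1 x.2.2
      obtain ⟨k, rfl⟩ := hs
      have h4 : Commute x.1 (r ^ k) := (show Commute x.1 r from h3).zpow_right k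
      show r ^ k * x.1 * (r ^ k)⁻¹ = x.1
      rw [← h4.eq, mul_inv_cancel_right]
  rw [h2, hc] at h1
  have h3 : IsPGroup 2 ↥(N ⊓ centralizer ({r} : Set C)) :=
    (IsPGroup.of_card (p := 2) hc).to_le inf_le_left
  obtain ⟨k, hk⟩ := IsPGroup.iff_card.1 h3
  rw [hk] at h1 ⊢
  by_cases h5 : 5 ≤ k
  · exact pow_dvd_pow 2 h5
  · exfalso
    push Not at h5
    revert h1
    interval_cases k <;> decide

/-- disjoint commuting subgroups -/
theorem card_sup {C : Type u} [Group C] {A B : Subgroup C} (hd : Disjoint A B)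
    (hc : ∀ (a : ↥A) (b : ↥B), Commute (A.subtype a) (B.subtype b)) :
    Nat.card ↥(A ⊔ B : Subgroup C) = Nat.card ↥A * Nat.card ↥B := by
  have hF : Function.Injective (MonoidHom.noncommCoprod A.subtype B.subtype hc) := by
    rw [MonoidHom.noncommCoprod_injective]
    refine ⟨subtype_injective _, subtype_injective _, ?_⟩
    rw [range_subtype, range_subtype]
    exact hd
  have h9 : (MonoidHom.noncommCoprod A.subtype B.subtype hc).range = A ⊔ B := by
    rw [MonoidHom.noncommCoprod_range, range_subtype, range_subtype]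
  rw [← h9, ← Nat.card_congr (MonoidHom.ofInjective hF).toEquiv, Nat.card_prod]

theorem row_model : Row MG := by
  intro hc P hP hl
  exfalso
  have hfin := finite
  have hs := simple
  have h11 : Fact (Nat.Prime 11) := ⟨by norm_num⟩
  have h2' : Fact (Nat.Prime 2) := ⟨Nat.prime_two⟩
  -- an element of order 11 in `C(z)`
  obtain ⟨x, hx⟩ := exists_prime_orderOf_dvd_card' (G := ↥(centralizer ({zz} : Set MG))) 11
    (by rw [card_cent_z]; norm_num)
  have hxo : orderOf (x : MG) = 11 := by rw [Subgroup.orderOf_coe, hx]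
  have hcomm : ∃ a b : MG, a * b ≠ b * a := hc
  obtain ⟨g, hg⟩ := hP.conj_le_cent hxo
  have hP' := hP.conj g
  have hl' := hl.conj g
  -- proper subgroups
  have hne : ∀ y : MG, y ≠ 1 → centralizer ({y} : Set MG) ≠ ⊤ := by
    intro y hy ht
    apply hy
    have h1 : y ∈ center MG := by
      rw [mem_center_iff]
      intro w
      exact mem_centralizer_singleton_iff.1 (ht ▸ mem_top w : w ∈ centralizer ({y} : Set MG))
    rwa [center_model, mem_bot] at h1
  have hfac : ∀ (A B : Subgroup MG), Nat.card ↥A = Nat.card ↥(A ⊓ B) * B.relIndex A := by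
    intro A B
    rw [← inf_relIndex_left]
    have := card_mul_index ((A ⊓ B).subgroupOf A)
    rw [Nat.card_congr (subgroupOfEquivOfLe inf_le_left).toEquiv] at this
    rw [← this]
    rfl
  by_cases heq : cj g P = zpowers (x : MG)
  · -- `P' = ⟨x⟩ ≤ C(z)`
    have hle : cj g P ≤ centralizer ({zz} : Set MG) := by
      rw [heq, zpowers_le]; exact x.2
    have h1 := hP'.relIndex_dvd hl' (hne zz zz_ne) hle
    have h2 := hfac (centralizer ({zz} : Set MG)) (centralizer (cj g P : Set MG))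
    have h3 : Nat.card ↥(centralizer ({zz} : Set MG) ⊓ centralizer (cj g P : Set MG)) ≤ 4224 := by
      refine le_trans (card_le_of_le (inf_le_inf_left _ ?_)) (Cfsg.Agent.BpSpor.MBigEleven.card_inf hx)
      refine centralizer_le ?_
      rw [Set.singleton_subset_iff, heq]
      exact mem_zpowers _
    have h4 : (centralizer (cj g P : Set MG)).relIndex (centralizer ({zz} : Set MG)) ≤ 15960 :=
      Nat.le_of_dvd (by norm_num) h1
    have h5 := Nat.mul_le_mul h3 h4
    rw [← h2, card_cent_z] at h5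
    norm_num at h5
  · -- `|⟨x⟩ P'| = 11²`
    have h1 := hP'.relIndex_dvd hl' (hne x.1 (fun h => by rw [h, orderOf_one] at hxo; omega)) hg
    have h2 := hfac (centralizer ({(x : MG)} : Set MG)) (centralizer (cj g P : Set MG))
    have h3 : ¬ 2 ∣ Nat.card ↥(centralizer ({(x : MG)} : Set MG) ⊓ centralizer (cj g P : Set MG)) := by
      intro hd
      obtain ⟨t, ht⟩ := exists_prime_orderOf_dvd_card' 2 hd
      have hto : orderOf (t : MG) = 2 := by rw [Subgroup.orderOf_coe, ht]
      apply not_sq (Or.inl rfl) hto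
      have h4 : cj g P ⊔ zpowers (x : MG) ≤ centralizer ({(t : MG)} : Set MG) := by
        refine sup_le ?_ ?_
        · intro p hp
          rw [mem_centralizer_singleton_iff]
          exact mem_centralizer_iff.1 t.2.2 p hp
        · rw [zpowers_le, mem_centralizer_singleton_iff]
          exact (mem_centralizer_singleton_iff.1 t.2.1).symm
      refine dvd_trans ?_ (card_dvd_of_le h4)
      have h5 : Nat.card ↥(zpowers (x : MG)) = 11 := by rw [Nat.card_zpowers, hxo]
      have h6 : Disjoint (cj g P) (zpowers (x : MG)) := by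
        rw [disjoint_iff]
        apply inf_eq_bot_of_not_le hP'.card
        intro hcon
        apply heq
        have : Finite ↥(zpowers (x : MG)) := inferInstance
        exact eq_of_le_of_card_ge hcon (by rw [h5, hP'.card])
      have h7 : ∀ (a : ↥(cj g P)) (b : ↥(zpowers (x : MG))),
          Commute ((cj g P).subtype a) ((zpowers (x : MG)).subtype b) := by
        rintro ⟨a, ha⟩ ⟨b, k, rfl⟩
        exact (show Commute a (x : MG) from mem_centralizer_singleton_iff.1 (hg ha)).zpow_right k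
      have h8 : Nat.card ↥(cj g P ⊔ zpowers (x : MG) : Subgroup MG) = 11 ^ 2 := by
        rw [card_sup h6 h7, hP'.card, h5, pow_two]
      rw [h8]
    have h4 : 32 ∣ Nat.card ↥(centralizer ({(x : MG)} : Set MG)) := by
      have hk : Nat.card ↥pi.ker = 2 ^ 25 := by
        have h5 := card_mul_index pi.ker
        rw [index_ker, MonoidHom.range_eq_top.2 chart.pi_surj, card_top, card_cent_z, Cfsg.Agent.BpSpor.MBigCo.card_co1] at h5
        exact Nat.eq_of_mul_eq_mul_right (by norm_num) h5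
      have h5 := dvd_inf hk hx
      refine h5.trans ?_
      have h6 : (pi.ker ⊓ centralizer ({x} : Set ↥(centralizer ({zz} : Set MG)))).map
          (centralizer ({zz} : Set MG)).subtype ≤ centralizer ({(x : MG)} : Set MG) := by
        rintro _ ⟨y, hy, rfl⟩
        rw [mem_centralizer_singleton_iff]
        exact congrArg Subtype.val (mem_centralizer_singleton_iff.1 hy.2)
      have h7 := card_dvd_of_le h6
      rwa [card_map_of_injective (subtype_injective _)] at h7
    rw [h2] at h4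
    have h5 : Nat.Coprime 32 (Nat.card ↥(centralizer ({(x : MG)} : Set MG) ⊓ centralizer (cj g P : Set MG))) := by
      have := (Nat.coprime_primes Nat.prime_two Nat.prime_two)
      have h6 : Nat.Coprime 2 (Nat.card ↥(centralizer ({(x : MG)} : Set MG) ⊓ centralizer (cj g P : Set MG))) :=
        (Nat.Prime.coprime_iff_not_dvd Nat.prime_two).2 h3
      exact Nat.Coprime.pow_left 5 h6
    have h6 := (h5.dvd_of_dvd_mul_left h4).trans h1
    revert h6
    decide

theorem row_M {X : Type u} [Group X] (hX : Spor.IsoM X) : Row X := by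
  obtain ⟨e⟩ := hX
  obtain ⟨e'⟩ := MonsterP.Equiv.equiv
  exact row_congr (e.trans e') row_model

end Cfsg.Agent.H820.ElM
end

-- part: H216/ElDef
section
/-!
# S3403: groups of Lie type in characteristic 11 (helper216)

`row_char11 : IsLieTypeChar 11 X → Row X`.
-/

set_option autoImplicit false
set_option linter.unusedSectionVars false

namespace Cfsg.Agent.H216.ElDef

open Cfsg Subgroup Cfsg.Agent.H43.Eleven Cfsg.Agent.H794 Cfsg.Agent.H794.DefRank

universe u

section full

variable {G : Type u} [Group G] [Finite G] {P : Subgroup G}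

/-- `P` is strongly closed in every `11`-subgroup containing it -/
theorem closed (h : Cfg P) {S : Subgroup G} (hS : IsPGroup 11 ↥S) (hPS : P ≤ S) : IsStronglyClosed P S := by
  refine ⟨hPS, fun x hx g hg => ?_⟩
  by_cases hx1 : x = 1
  · subst hx1; simp
  have : Fact (Nat.Prime 11) := ⟨by norm_num⟩
  have h1 : zpowers x = P := by
    have h2 : Nat.card (zpowers x) ∣ 11 := h.card ▸ card_dvd_of_le (zpowers_le.2 hx)
    rcases (Nat.dvd_prime (by norm_num)).1 h2 with h3 | h3
    · exfalso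
      rw [Nat.card_zpowers, orderOf_eq_one_iff] at h3
      exact hx1 h3
    · exact eq_of_le_of_card_ge (zpowers_le.2 hx) (by rw [h.card, h3])
  have h2 : cj g P ≤ S := by
    rw [← h1]
    show (zpowers x).map (MulAut.conj g).toMonoidHom ≤ S
    rw [MonoidHom.map_zpowers, zpowers_le]
    exact hg
  have h3 := h.eq_of_mem_pgroup hS hPS h2
  rw [← h3]
  exact conj_mem_cj hx

theorem card_of_full (hf : Full 11 G) (h : Cfg P) (S : Sylow 11 G) : Nat.card (S : Subgroup G) = 11 := by
  have : Fact (Nat.Prime 11) := ⟨by norm_num⟩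
  obtain ⟨g, hg, -⟩ := h.exists_conj_sylow S
  rcases hf S (cj g P) (closed (h.conj g) S.isPGroup' hg) with h1 | h1
  · exact absurd h1 (h.conj g).ne_bot
  · rw [← h1, card_cj, h.card]

end full

section rank

open CoxeterSystem Cfsg.Agent.ChevalleyStructure.CoxeterGeom Cfsg.Agent.Tits.Roots
  Cfsg.Agent.Nodes.Reps Cfsg.Agent.Nodes.BNOf

variable {I W Y : Type*} [Fintype I] [DecidableEq I] [Group W] [Group Y] {M : CoxeterMatrix I}
  {cs : CoxeterSystem M W} {A : I → I → ℤ} {h : IsCartan M A} {p : ℕ} {T : Subgroup Y} {n : I → Y}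
  {X : (I → ℤ) → Subgroup Y}

theorem ne_bot_sr (R : RGD cs h p T n X) (i : I) : X (sr i) ≠ ⊥ := by
  intro h0
  apply R.notp i
  have h1 := R.conj i (sr i) (isRoot_sr cs h i)
  rw [rep_simple_sr, h0] at h1
  have h2 : X (-sr i) = ⊥ := by
    rw [← h1]
    exact Subgroup.map_bot _
  rw [h0, h2, sup_idem]
  exact IsPGroup.of_bot

/-- in rank at least two the positive unipotent group has order `≠ p` -/
theorem card_ne [Finite W] [Finite Y] [Nontrivial I] [hp : Fact p.Prime] (R : RGD cs h p T n X) {S : Subgroup Y}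
    (hS : ∀ x, IsRoot cs h x → 0 ≤ x → X x ≤ S) : Nat.card S ≠ p := by
  intro hc
  obtain ⟨i, j, hij⟩ := exists_pair_ne I
  have key : ∀ x, IsRoot cs h x → 0 ≤ x → X x ≠ ⊥ → X x = S := by
    intro x hx h0 hne
    refine eq_of_le_of_card_ge (hS x hx h0) ?_
    have h1 := card_dvd_of_le (hS x hx h0)
    rw [hc, Nat.dvd_prime hp.out] at h1
    rcases h1 with h1 | h1
    · exact absurd (card_eq_one.1 h1) hne
    · rw [hc, h1]
  have hi := key (sr i) (isRoot_sr cs h i) (sr_nonneg i) (ne_bot_sr R i)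
  have hj := key (sr j) (isRoot_sr cs h j) (sr_nonneg j) (ne_bot_sr R j)
  have hji : sr j ≠ (sr i : I → ℤ) := by
    intro he
    have h1 := congrFun he i
    rw [sr_ne hij, sr_self] at h1
    exact absurd h1 (by norm_num)
  have h1 := R.conj i (sr j) (isRoot_sr cs h j)
  have h2 : X (rep cs h (cs.simple i) (sr j)) = S := by
    refine key _ ((isRoot_sr cs h j).act _) ((isRoot_sr cs h j).simple_nonneg (sr_nonneg j) i hji) ?_
    rw [← h1]
    intro h3
    exact ne_bot_sr R j ((Subgroup.map_eq_bot_iff_of_injective _ (MulAut.conj (n i)).injective).1 h3)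
  have h3 := R.conj i (sr i) (isRoot_sr cs h i)
  rw [rep_simple_sr] at h3
  rw [h2, hj] at h1
  rw [hi, h1] at h3
  apply R.notp i
  rw [← h3, hi, sup_idem]
  exact hi ▸ R.pgrp i

end rank

theorem false_of_rk2 {G : Type u} [Group G] [Finite G] [IsSimpleGroup G] (hc : ∃ a b : G, a * b ≠ b * a)
    (hG : HasRk2 11 G) {P : Subgroup G} (h : Cfg P) : False := by
  have : Fact (Nat.Prime 11) := ⟨by norm_num⟩
  have hf := full_of_rk2 hc hG
  obtain ⟨l, M, A, hA, T, n, X, R, hl, hW, hX⟩ := hG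
  have : Nontrivial (Fin l) := Fin.nontrivial_iff_two_le.2 hl
  obtain ⟨S', hS'⟩ := R.isPGroup_Upos.exists_le_sylow
  refine card_ne R (S := (S' : Subgroup G)) (fun x hx h0 => le_trans ?_ hS') (card_of_full hf h S')
  exact Cfsg.Agent.Nodes.BNOf.RGD.le_Sup (show x ∈ Cfsg.Agent.Nodes.BNOf.RGD.Pos _ _ from ⟨hx, h0⟩)

/-! ### `PSL₂` -/

section psl

open Matrix Cfsg.Agent.Classification.PSLTwoEvenSylow Cfsg.Agent.H794.PslTwo

theorem good_psl {F : Type*} [Field F] [Fintype F] [CharP F 11] {P : Subgroup (ProjectiveSpecialLinearGroup (Fin 2) F)}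
    (h : Cfg P) : Good (ProjectiveSpecialLinearGroup (Fin 2) F) := by
  have : Fact (Nat.Prime 11) := ⟨by norm_num⟩
  have : Finite (ProjectiveSpecialLinearGroup (Fin 2) F) := Quotient.finite _
  obtain ⟨n, hp1, hn⟩ := FiniteField.card F 11
  have hcardU : Nat.card (uniP (F := F)).range = 11 ^ (n : ℕ) := by
    rw [← Nat.card_congr (MonoidHom.ofInjective uniP_injective).toEquiv, ← hn, ← Nat.card_eq_fintype_card]
    exact Nat.card_congr Multiplicative.toAdd
  have hU : IsPGroup 11 (uniP (F := F)).range := IsPGroup.of_card hcardU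
  obtain ⟨Q, hQ⟩ := hU.exists_le_sylow
  have hEq := eq_of_isPGroup Q.isPGroup' hQ
  have h1 := card_of_full full_psl h Q
  rw [← hEq, hcardU] at h1
  have hF : Fintype.card F = 11 := by rw [hn, h1]
  exact Or.inl ⟨LieClassical.FieldTransfer.pslCongr (ZMod.ringEquivOfPrime F (by norm_num) hF).symm⟩

end psl

/-! ### `PSUₙ` -/

section psu

open Cfsg.Agent.ClassicalGeometry.PSUAutBasic Cfsg.Agent.ClassicalGeometry.PSUAutSylow
  Cfsg.Agent.ClassicalGeometry.PSUAutPhi
  Cfsg.Agent.LieClassical.HermSiegel Cfsg.Agent.LieClassical.HermBasic Cfsg.Agent.LieClassical.HermGen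

variable {F : Type*} [Field F] [Fintype F] {q n : ℕ}

/-- two transvections generating a group with an element of order 4 -/
theorem orderOf_four [CharP F 11] (hF : Fintype.card F = q ^ 2) (hn : 3 ≤ n) {u f : Fin n → F}
    (hu : hermForm n F q u u = 0) (hf : hermForm n F q f f = 0) (huf : hermForm n F q u f = 1)
    (hfu : hermForm n F q f u = 1) {μ c : F} (hμ : μ + μ ^ q = 0) (hc : c * c ^ q * μ ^ 2 = -1)
    (hcf : hermForm n F q (c • f) (c • f) = 0) :
    orderOf (pr n F q (transv hF u hu μ hμ) * pr n F q (transv hF (c • f) hcf μ hμ) *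
      pr n F q (transv hF u hu μ hμ)) = 4 := by
  have hμ0 : μ ≠ 0 := by
    rintro rfl
    norm_num at hc
  set ν : F := c * c ^ q * μ with hν
  have hνμ : ν * μ = -1 := by rw [hν, ← hc]; ring
  have hy : ∀ v, act (transv hF (c • f) hcf μ hμ) v = v + (ν * hermForm n F q v f) • f := by
    intro v
    rw [act_transv, herm_smul_right, smul_smul, hν]
    congr 2
    ring
  set w : SU n F q := transv hF u hu μ hμ * transv hF (c • f) hcf μ hμ * transv hF u hu μ hμ with hw
  have hwv : ∀ v, act w v = v - hermForm n F q v f • u - hermForm n F q v u • f +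
      (ν * hermForm n F q v f) • f + (μ * hermForm n F q v u) • u := by
    intro v
    rw [hw, act_mul, act_mul, act_transv, hy, act_transv]
    simp only [herm_add_left, herm_smul_left, hu, huf, hfu]
    funext i
    simp only [Pi.add_apply, Pi.sub_apply, Pi.smul_apply, smul_eq_mul]
    linear_combination (hermForm n F q v f * u i + hermForm n F q v u * f i +
      μ * hermForm n F q v u * u i) * hνμ
  have hww : ∀ v, act (w * w) v = v - (2 * hermForm n F q v f) • u - (2 * hermForm n F q v u) • f := by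
    intro v
    rw [act_mul, hwv (act w v), hwv v]
    simp only [herm_add_left, herm_sub_left, herm_smul_left, hu, hf, huf, hfu]
    funext i
    simp only [Pi.add_apply, Pi.sub_apply, Pi.smul_apply, smul_eq_mul]
    linear_combination (hermForm n F q v f * u i + hermForm n F q v u * f i) * hνμ
  have h4 : w * w * (w * w) = 1 := by
    apply ext_act
    intro v
    rw [act_mul, hww (act (w * w) v), hww v, act_one]
    simp only [herm_sub_left, herm_smul_left, hu, hf, huf, hfu]
    funext i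
    simp only [Pi.sub_apply, Pi.smul_apply, smul_eq_mul]
    ring
  have h2 : (2 : F) ≠ 0 := by
    intro h2
    have h3 : CharP F 2 := CharTwo.of_one_ne_zero_of_two_eq_zero one_ne_zero h2
    have := CharP.eq F ‹CharP F 11› h3
    omega
  have hu0 : u ≠ 0 := by
    rintro rfl
    rw [herm_zero_left] at huf
    exact zero_ne_one huf
  have hmul : pr n F q (transv hF u hu μ hμ) * pr n F q (transv hF (c • f) hcf μ hμ) *
      pr n F q (transv hF u hu μ hμ) = pr n F q w := by
    rw [hw, map_mul, map_mul]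
  rw [hmul]
  have : Fact (Nat.Prime 2) := ⟨Nat.prime_two⟩
  refine orderOf_eq_prime_pow (p := 2) (n := 1) ?_ ?_
  · rw [pow_one, pow_two, ← map_mul, pr_eq_one_iff]
    intro hz
    obtain ⟨d, -, -, hd⟩ := exists_scalar_of_mem_center hF hn hz
    obtain ⟨x, -, hx0, hxu, hxf⟩ := exists_ne_zero_perp hF hn le_rfl u f
    have e1 := hd u
    rw [hww, hu, huf, mul_zero, zero_smul, sub_zero, mul_one] at e1
    have e2 := hd x
    rw [hww, hxu, hxf, mul_zero, zero_smul, zero_smul, sub_zero, sub_zero] at e2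
    have e3 : d = 1 := by
      have : (d - 1) • x = 0 := by rw [sub_smul, ← e2, one_smul, sub_self]
      rcases smul_eq_zero.1 this with h | h
      · exact sub_eq_zero.1 h
      · exact absurd h hx0
    rw [e3, one_smul, sub_eq_self, smul_eq_zero] at e1
    exact e1.elim h2 hu0
  · have e : pr n F q w ^ 2 ^ (1 + 1) = pr n F q (w * w * (w * w)) := by
      rw [map_mul (pr n F q) (w * w) (w * w), map_mul (pr n F q) w w, ← pow_two, ← pow_two, ← pow_mul]
      norm_num
    rw [e, h4, map_one]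

theorem false_psu [CharP F 11] (hF : Fintype.card F = q ^ 2) (hn : 3 ≤ n) {P : Subgroup (PSU n F q)} (h : Cfg P) :
    False := by
  have : Fact (Nat.Prime 11) := ⟨by norm_num⟩
  have : Finite (PSU n F q) := Quotient.finite _
  obtain ⟨T⟩ : Nonempty (Sylow 11 (PSU n F q)) := inferInstance
  obtain ⟨g, hg, hg'⟩ := h.exists_conj_sylow T
  obtain ⟨S, hS⟩ := exists_sylow_lift 11 T
  obtain ⟨u, hu0, hu, hfix⟩ := exists_fixed 11 hF (by omega) S.isPGroup'
  have hle : cj g P ≤ (transvG hF u hu).map (pr n F q) := by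
    rw [← cent_sylow 11 hF hn S hu0 hu hfix, hS]
    refine le_inf hg ?_
    exact le_centralizer_iff.1 hg'
  obtain ⟨x, hx, hxo, hxP⟩ := exists_gen (h.conj g).card
  obtain ⟨_, ⟨μ, hμ, rfl⟩, rfl⟩ := hle hx
  have hμ0 : μ ≠ 0 := by
    rintro rfl
    rw [transv_zero, map_one, orderOf_one] at hxo
    omega
  obtain ⟨f, hf, huf, hfu⟩ := exists_partner hF hu0 hu
  obtain ⟨c, hc0, hc⟩ := exists_norm_eq_ne hF (c := -(μ ^ 2)⁻¹) (by
    rw [neg_pow_q hF, inv_pow, ← pow_mul, mul_comm 2 q, pow_mul]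
    have : μ ^ q = -μ := by linear_combination hμ
    rw [this]
    ring) (neg_ne_zero.2 (inv_ne_zero (pow_ne_zero 2 hμ0)))
  have hcf : hermForm n F q (c • f) (c • f) = 0 := by rw [herm_smul_left, herm_smul_right, hf]; ring
  have hf0 : f ≠ 0 := by
    rintro rfl
    rw [herm_zero_left] at hfu
    exact zero_ne_one hfu
  obtain ⟨k, -, hk⟩ := exists_map_iso hF hn le_rfl (mem_coordSub_top u) (mem_coordSub_top (c • f)) hu0
    (smul_ne_zero hc0 hf0) hu hcf
  have h4 := orderOf_four hF hn hu hf huf hfu hμ (c := c) (by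
    rw [hc, neg_mul, inv_mul_cancel₀ (pow_ne_zero 2 hμ0)]) hcf
  have hy : pr n F q (transv hF (c • f) hcf μ hμ) =
      pr n F q k * pr n F q (transv hF u hu μ hμ) * (pr n F q k)⁻¹ := by
    rw [← map_mul, ← map_inv, ← map_mul, transv, transv, conj_siegel]
    congr 1
    exact siegel_congr hF _ _ hk.symm (act_zero k).symm rfl
  refine h.false_of_pair' (a := pr n F q (transv hF u hu μ hμ)) (b := pr n F q (transv hF (c • f) hcf μ hμ))
    (g := g) (g' := pr n F q k * g) hxP.symm ?_ ?_ (w := pr n F q (transv hF u hu μ hμ) *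
      pr n F q (transv hF (c • f) hcf μ hμ) * pr n F q (transv hF u hu μ hμ)) ?_
  · rw [cj_mul, hxP]
    show _ = (zpowers _).map (MulAut.conj _).toMonoidHom
    rw [MonoidHom.map_zpowers, hy]
    rfl
  · have ha : pr n F q (transv hF u hu μ hμ) ∈ _root_.Subgroup.closure ({pr n F q (transv hF u hu μ hμ),
      pr n F q (transv hF (c • f) hcf μ hμ)} : Set (PSU n F q)) := _root_.Subgroup.subset_closure (Or.inl rfl)
    have hb : pr n F q (transv hF (c • f) hcf μ hμ) ∈ _root_.Subgroup.closure ({pr n F q (transv hF u hu μ hμ),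
      pr n F q (transv hF (c • f) hcf μ hμ)} : Set (PSU n F q)) := _root_.Subgroup.subset_closure (Or.inr rfl)
    exact mul_mem (mul_mem ha hb) ha
  · rw [h4]; norm_num

end psu

/-- **Simple groups of Lie type in characteristic 11.** -/
theorem row_char11 {X : Type u} [Group X] [Finite X] [IsSimpleGroup X] (hX : IsLieTypeChar 11 X) : Row X := by
  intro hc P h _
  rcases rk2_or (by norm_num) hX with h1 | ⟨F, _, _, _, -, ⟨e⟩⟩ | ⟨F, _, _, _, q, hF, -, ⟨e⟩⟩ | ⟨h1, -⟩
  · exact (false_of_rk2 hc h1 h).elim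
  · exact (good_psl (h.map_equiv e)).congr e.symm
  · exact (false_psu hF le_rfl (h.map_equiv e)).elim
  · norm_num at h1

end Cfsg.Agent.H216.ElDef
end

-- part: H892/ElE8
section
/-!
# Torus elements of order 11 of `E₈` are not regular

`sx_E8`. The root system of `E₈` contains `A₈`: `v 0, …, v 8` with differences roots and `v i + v j + v k - u` roots, where
`3 u = Σ v i`. In `ZMod 11` nine different elements with sum `0` contain three with sum `0`.
-/

set_option autoImplicit false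
set_option linter.unusedSectionVars false

namespace Cfsg.Agent.H892.El

open CoxeterSystem Cfsg Cfsg.Lie Cfsg.Lie.ChevalleyDatum
open Cfsg.Agent.ChevalleyStructure Cfsg.Agent.ChevalleyStructure.Elts Cfsg.Agent.ChevalleyStructure.CoxeterGeom
  Cfsg.Agent.ChevalleyStructure.CoxeterGeomTypes Cfsg.Agent.ChevalleyStructure.NPerm
open Cfsg.Agent.Tits.Roots Cfsg.Agent.Tits.Core Cfsg.Agent.Nodes Cfsg.Agent.Nodes.Reps Cfsg.Agent.Nodes.BNOf
  Cfsg.Agent.Nodes.RGDChev Cfsg.Agent.Nodes.Bruhat Cfsg.Agent.Nodes.NormalForm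
open Cfsg.Agent.KFacts.RgdField Cfsg.Agent.KFacts.RgdChevCoord
open Cfsg.Agent.BpExc Cfsg.Agent.BpExc.TorCent Cfsg.Agent.BpExc.TorChev Cfsg.Agent.BpExc.Tow
  Cfsg.Agent.BpExc.TowChev Cfsg.Agent.BpExc.Fr Cfsg.Agent.BpExc.Pair Cfsg.Agent.BpExc.LangFr Cfsg.Agent.GpExc.Field
open Cfsg.Agent.H469.Exc

universe u v

theorem chk_sum : ∑ x : ZMod 11, x = 0 := by decide +kernel

theorem chk_sets : ∀ a : ZMod 11, a ≠ -a → ∃ x y z : ZMod 11, (x ≠ a ∧ x ≠ -a) ∧ (y ≠ a ∧ y ≠ -a) ∧ (z ≠ a ∧ z ≠ -a) ∧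
    x ≠ y ∧ x ≠ z ∧ y ≠ z ∧ x + y + z = 0 := by decide +kernel

theorem exists_three {X : Fin 9 → ZMod 11} (hX : Function.Injective X) (hs : ∑ i, X i = 0) :
    ∃ i j m, i ≠ j ∧ i ≠ m ∧ j ≠ m ∧ X i + X j + X m = 0 := by
  let T : Finset (ZMod 11) := Finset.univ.map ⟨X, hX⟩
  have hT : T.card = 9 := by rw [Finset.card_map, Finset.card_univ, Fintype.card_fin]
  have hTs : ∑ x ∈ T, x = 0 := by rw [Finset.sum_map]; exact hs
  have hc : Tᶜ.card = 2 := by rw [Finset.card_compl, hT, ZMod.card]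
  obtain ⟨a, b, hab, e⟩ := Finset.card_eq_two.1 hc
  have h1 : a + b = 0 := by
    have h2 := Finset.sum_add_sum_compl T (fun x : ZMod 11 => x)
    rw [chk_sum, hTs, zero_add, e, Finset.sum_pair hab] at h2
    exact h2
  have hb : b = -a := (neg_eq_of_add_eq_zero_right h1).symm
  rw [hb] at hab e
  have hmem : ∀ x : ZMod 11, x ≠ a ∧ x ≠ -a → ∃ i, X i = x := by
    rintro x ⟨h2, h3⟩
    have h4 : x ∈ T := by
      by_contra hx
      have h5 : x ∈ Tᶜ := Finset.mem_compl.2 hx
      rw [e, Finset.mem_insert, Finset.mem_singleton] at h5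
      exact h5.elim h2 h3
    obtain ⟨i, -, hi⟩ := Finset.mem_map.1 h4
    exact ⟨i, hi⟩
  obtain ⟨x, y, z, hx, hy, hz, hxy, hxz, hyz, h0⟩ := chk_sets a hab
  obtain ⟨i, rfl⟩ := hmem x hx
  obtain ⟨j, rfl⟩ := hmem y hy
  obtain ⟨m, rfl⟩ := hmem z hz
  exact ⟨i, j, m, fun h => hxy (by rw [h]), fun h => hxz (by rw [h]), fun h => hyz (by rw [h]), h0⟩

/-- the arithmetic -/
theorem arith {A : Fin 9 → ZMod 11} {B : ZMod 11} (hA : Function.Injective A) (h3 : 3 * B = ∑ i, A i)
    (h : ∀ i j m, i ≠ j → i ≠ m → j ≠ m → A i + A j + A m ≠ B) : False := by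
  have e33 : (33 : ZMod 11) = 0 := by decide
  obtain ⟨i, j, m, h1, h2, h4, h5⟩ := exists_three (X := fun i => A i + 7 * B) (fun i j hij => hA (add_right_cancel hij)) (by
    rw [Finset.sum_add_distrib, ← h3, Finset.sum_const, Finset.card_univ, Fintype.card_fin, nsmul_eq_mul]
    have : (3 : ZMod 11) * B + ((9 : ℕ) : ZMod 11) * (7 * B) = 33 * (2 * B) := by push_cast; ring
    rw [this, e33, zero_mul])
  apply h i j m h1 h2 h4
  have h6 : A i + A j + A m = B - 22 * B := by linear_combination h5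
  have e22 : (22 : ZMod 11) = 0 := by decide
  rw [h6, e22, zero_mul, sub_zero]

/-- partial sums of a chain of type `A₈`, the last root the lowest root -/
def v8 : Fin 9 → (Fin 8 → ℤ) :=
  ![![0, 0, 0, 0, 0, 0, 0, 0], ![1, 0, 0, 0, 0, 0, 0, 0], ![1, 0, 1, 0, 0, 0, 0, 0], ![1, 0, 1, 1, 0, 0, 0, 0],
    ![1, 0, 1, 1, 1, 0, 0, 0], ![1, 0, 1, 1, 1, 1, 0, 0], ![1, 0, 1, 1, 1, 1, 1, 0], ![1, 0, 1, 1, 1, 1, 1, 1],
    ![-1, -3, -3, -5, -4, -3, -2, -1]]

def u8 : Fin 8 → ℤ := ![2, -1, 1, 0, 0, 0, 0, 0]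

/-- the indices of the roots `v j - v i` -/
def iA : List (List ℕ) := [[0, 162, 163, 164, 165, 166, 167, 168, 14], [77, 0, 135, 136, 137, 138, 139, 140, 6],
  [76, 104, 0, 130, 131, 132, 133, 134, 5], [75, 103, 109, 0, 126, 127, 128, 129, 4], [74, 102, 108, 113, 0, 123,
  124, 125, 3], [73, 101, 107, 112, 116, 0, 121, 122, 2], [72, 100, 106, 111, 115, 118, 0, 120, 1], [71, 99, 105,
  110, 114, 117, 119, 0, 0], [225, 233, 234, 235, 236, 237, 238, 239, 0]]

/-- the indices of the roots `v i + v j + v m - u` -/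
def iB : List (List (List ℕ)) := [[[0, 0, 0, 0, 0, 0, 0, 0, 0], [0, 0, 141, 142, 143, 144, 145, 146, 7], [0, 0, 0,
  147, 148, 149, 150, 151, 8], [0, 0, 0, 0, 152, 153, 154, 155, 9], [0, 0, 0, 0, 0, 156, 157, 158, 10], [0, 0, 0, 0,
  0, 0, 159, 160, 11], [0, 0, 0, 0, 0, 0, 0, 161, 12], [0, 0, 0, 0, 0, 0, 0, 0, 13], [0, 0, 0, 0, 0, 0, 0, 0, 0]],
  [[0, 0, 0, 0, 0, 0, 0, 0, 0], [0, 0, 0, 0, 0, 0, 0, 0, 0], [0, 0, 0, 169, 170, 171, 172, 173, 15], [0, 0, 0, 0,
  174, 175, 176, 177, 16], [0, 0, 0, 0, 0, 178, 179, 180, 17], [0, 0, 0, 0, 0, 0, 181, 182, 18], [0, 0, 0, 0, 0, 0,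
  0, 183, 19], [0, 0, 0, 0, 0, 0, 0, 0, 20], [0, 0, 0, 0, 0, 0, 0, 0, 0]], [[0, 0, 0, 0, 0, 0, 0, 0, 0], [0, 0, 0,
  0, 0, 0, 0, 0, 0], [0, 0, 0, 0, 0, 0, 0, 0, 0], [0, 0, 0, 0, 184, 185, 186, 187, 21], [0, 0, 0, 0, 0, 188, 189,
  190, 22], [0, 0, 0, 0, 0, 0, 191, 192, 23], [0, 0, 0, 0, 0, 0, 0, 193, 24], [0, 0, 0, 0, 0, 0, 0, 0, 25], [0, 0,
  0, 0, 0, 0, 0, 0, 0]], [[0, 0, 0, 0, 0, 0, 0, 0, 0], [0, 0, 0, 0, 0, 0, 0, 0, 0], [0, 0, 0, 0, 0, 0, 0, 0, 0], [0,
  0, 0, 0, 0, 0, 0, 0, 0], [0, 0, 0, 0, 0, 194, 195, 196, 26], [0, 0, 0, 0, 0, 0, 197, 198, 27], [0, 0, 0, 0, 0, 0,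
  0, 199, 28], [0, 0, 0, 0, 0, 0, 0, 0, 29], [0, 0, 0, 0, 0, 0, 0, 0, 0]], [[0, 0, 0, 0, 0, 0, 0, 0, 0], [0, 0, 0,
  0, 0, 0, 0, 0, 0], [0, 0, 0, 0, 0, 0, 0, 0, 0], [0, 0, 0, 0, 0, 0, 0, 0, 0], [0, 0, 0, 0, 0, 0, 0, 0, 0], [0, 0,
  0, 0, 0, 0, 200, 201, 30], [0, 0, 0, 0, 0, 0, 0, 202, 31], [0, 0, 0, 0, 0, 0, 0, 0, 32], [0, 0, 0, 0, 0, 0, 0, 0,
  0]], [[0, 0, 0, 0, 0, 0, 0, 0, 0], [0, 0, 0, 0, 0, 0, 0, 0, 0], [0, 0, 0, 0, 0, 0, 0, 0, 0], [0, 0, 0, 0, 0, 0, 0,
  0, 0], [0, 0, 0, 0, 0, 0, 0, 0, 0], [0, 0, 0, 0, 0, 0, 0, 0, 0], [0, 0, 0, 0, 0, 0, 0, 203, 33], [0, 0, 0, 0, 0,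
  0, 0, 0, 34], [0, 0, 0, 0, 0, 0, 0, 0, 0]], [[0, 0, 0, 0, 0, 0, 0, 0, 0], [0, 0, 0, 0, 0, 0, 0, 0, 0], [0, 0, 0,
  0, 0, 0, 0, 0, 0], [0, 0, 0, 0, 0, 0, 0, 0, 0], [0, 0, 0, 0, 0, 0, 0, 0, 0], [0, 0, 0, 0, 0, 0, 0, 0, 0], [0, 0,
  0, 0, 0, 0, 0, 0, 0], [0, 0, 0, 0, 0, 0, 0, 0, 35], [0, 0, 0, 0, 0, 0, 0, 0, 0]], [[0, 0, 0, 0, 0, 0, 0, 0, 0],
  [0, 0, 0, 0, 0, 0, 0, 0, 0], [0, 0, 0, 0, 0, 0, 0, 0, 0], [0, 0, 0, 0, 0, 0, 0, 0, 0], [0, 0, 0, 0, 0, 0, 0, 0,
  0], [0, 0, 0, 0, 0, 0, 0, 0, 0], [0, 0, 0, 0, 0, 0, 0, 0, 0], [0, 0, 0, 0, 0, 0, 0, 0, 0], [0, 0, 0, 0, 0, 0, 0,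
  0, 0]], [[0, 0, 0, 0, 0, 0, 0, 0, 0], [0, 0, 0, 0, 0, 0, 0, 0, 0], [0, 0, 0, 0, 0, 0, 0, 0, 0], [0, 0, 0, 0, 0, 0,
  0, 0, 0], [0, 0, 0, 0, 0, 0, 0, 0, 0], [0, 0, 0, 0, 0, 0, 0, 0, 0], [0, 0, 0, 0, 0, 0, 0, 0, 0], [0, 0, 0, 0, 0,
  0, 0, 0, 0], [0, 0, 0, 0, 0, 0, 0, 0, 0]]]

theorem chkA0 : ∀ i j : Fin 9, i ≠ j → (iA.getD i []).getD j 0 < chevE8.nroots ∧
    vec chevE8 8 ((iA.getD i []).getD j 0) = v8 j - v8 i := by decide +kernel

theorem chkA (i j : Fin 9) (h : i ≠ j) : ∃ s < chevE8.nroots, vec chevE8 8 s = v8 j - v8 i :=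
  ⟨_, (chkA0 i j h).1, (chkA0 i j h).2⟩

theorem chkB0 : ∀ i j m : Fin 9, i < j → j < m → ((iB.getD i []).getD j []).getD m 0 < chevE8.nroots ∧
    vec chevE8 8 (((iB.getD i []).getD j []).getD m 0) = v8 i + v8 j + v8 m - u8 := by decide +kernel

theorem chkB (i j m : Fin 9) (h : i < j) (h' : j < m) : ∃ s < chevE8.nroots, vec chevE8 8 s = v8 i + v8 j + v8 m - u8 :=
  ⟨_, (chkB0 i j m h h').1, (chkB0 i j m h h').2⟩

theorem chkB' (i j m : Fin 9) (h1 : i ≠ j) (h2 : i ≠ m) (h3 : j ≠ m) :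
    ∃ s < chevE8.nroots, vec chevE8 8 s = v8 i + v8 j + v8 m - u8 := by
  rcases lt_or_gt_of_ne h1 with h1 | h1 <;> rcases lt_or_gt_of_ne h2 with h2 | h2 <;>
    rcases lt_or_gt_of_ne h3 with h3 | h3
  · exact chkB i j m h1 h3
  · obtain ⟨s, hs, e⟩ := chkB i m j h2 h3
    exact ⟨s, hs, by rw [e]; abel⟩
  · exact absurd (h1.trans h3) (not_lt.2 h2.le)
  · obtain ⟨s, hs, e⟩ := chkB m i j h2 h1
    exact ⟨s, hs, by rw [e]; abel⟩
  · obtain ⟨s, hs, e⟩ := chkB j i m h1 h2
    exact ⟨s, hs, by rw [e]; abel⟩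
  · exact absurd (h1.trans h2) (not_lt.2 h3.le)
  · obtain ⟨s, hs, e⟩ := chkB j m i h3 h2
    exact ⟨s, hs, by rw [e]; abel⟩
  · obtain ⟨s, hs, e⟩ := chkB m j i h3 h1
    exact ⟨s, hs, by rw [e]; abel⟩

theorem chkS : (3 : ℤ) • u8 = ∑ i, v8 i := by decide +kernel

/-- **Torus elements of order 11 of `E₈` are not regular.** -/
theorem sx_E8 (hp : IsType chevE8 8 CoxeterMatrix.E₈) {k : Type u} [Field k] {W : Type v} [Group W]
    (cs : CoxeterSystem CoxeterMatrix.E₈ W) {r : ℕ} [Fact r.Prime] [CharP k r] (hk : LocFin k)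
    {t : ↥(chevE8.group k)} (ht : t ∈ TT chevE8 k) (ht11 : t ^ 11 = 1) :
    (Sx cs hp.isCartan (ch hp) t).Nonempty := by
  obtain ⟨φ, h0, hadd, hφ⟩ := chAddL (k := k) hp cs hk r t ht
  by_contra hcon
  have hroot : ∀ v : Fin 8 → ℤ, (∃ s < chevE8.nroots, vec chevE8 8 s = v) → φ v ^ 11 = 1 ∧ φ v ≠ 1 := by
    intro v hv
    have ha := (isRoot_iff hp cs v).2 hv
    constructor
    · rw [← hφ v ha, ← ch_pow hp cs hk (r := r) ha ht, ht11]
      have := ch_pow hp cs hk (r := r) ha (one_mem (TT chevE8 k)) 0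
      rwa [pow_zero, pow_zero] at this
    · intro h1
      exact hcon ⟨v, ha, by rw [hφ v ha]; exact h1⟩
  have hmul : ∀ a b c : Fin 8 → ℤ, a - b = c → φ a = φ c * φ b := by
    rintro a b c rfl
    rw [← hadd, sub_add_cancel]
  have e0 : v8 0 = 0 := by decide +kernel
  have hv11 : ∀ i, φ (v8 i) ^ 11 = 1 := by
    intro i
    rcases eq_or_ne i 0 with rfl | hi
    · rw [e0, h0, one_pow]
    · have := (hroot _ (chkA 0 i (Ne.symm hi))).1
      rwa [e0, sub_zero] at this
  have hne0 : ∀ {x : k}, x ^ 11 = 1 → x ≠ 0 := by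
    rintro x hx rfl
    rw [zero_pow (by norm_num)] at hx
    exact zero_ne_one hx
  have hu11 : φ u8 ^ 11 = 1 := by
    have h1 := (hroot _ (chkB' 0 1 2 (by decide) (by decide) (by decide)))
    have h2 : φ (v8 0 + v8 1 + v8 2) = φ (v8 0 + v8 1 + v8 2 - u8) * φ u8 := by rw [← hadd, sub_add_cancel]
    rw [hadd, hadd] at h2
    have h3 : (φ (v8 0) * φ (v8 1) * φ (v8 2)) ^ 11 = 1 := by
      rw [mul_pow, mul_pow, hv11, hv11, hv11, mul_one, mul_one]
    rw [h2, mul_pow, h1.1, one_mul] at h3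
    exact h3
  -- a primitive root of unity
  have hζ1 := hroot _ (chkA 0 1 (by decide))
  have hp11 : Fact (Nat.Prime 11) := ⟨by norm_num⟩
  have hζ : IsPrimitiveRoot (φ (v8 1 - v8 0)) 11 := by
    rw [← orderOf_eq_prime hζ1.1 hζ1.2]
    exact IsPrimitiveRoot.orderOf _
  generalize φ (v8 1 - v8 0) = ζ at hζ
  have hlog : ∀ x : k, x ^ 11 = 1 → ∃ j : ℕ, x = ζ ^ j := by
    intro x hx
    obtain ⟨j, -, hj⟩ := hζ.eq_pow_of_pow_eq_one hx
    exact ⟨j, hj.symm⟩
  have heq : ∀ a b : ℕ, ζ ^ a = ζ ^ b ↔ (a : ZMod 11) = b := by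
    intro a b
    rw [ZMod.natCast_eq_natCast_iff, pow_eq_pow_mod a hζ.pow_eq_one, pow_eq_pow_mod b hζ.pow_eq_one]
    constructor
    · intro h
      exact hζ.pow_inj (Nat.mod_lt _ (by norm_num)) (Nat.mod_lt _ (by norm_num)) h
    · intro h
      have h' : a % 11 = b % 11 := h
      rw [h']
  choose a ha using fun i => hlog _ (hv11 i)
  obtain ⟨b, hb⟩ := hlog _ hu11
  refine arith (A := fun i => (a i : ZMod 11)) (B := (b : ZMod 11)) ?_ ?_ ?_
  · intro i j hij
    by_contra hne
    have h1 : φ (v8 j) = φ (v8 j - v8 i) * φ (v8 i) := by rw [← hadd, sub_add_cancel]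
    have h2 : φ (v8 i) = φ (v8 j) := by
      rw [ha i, ha j]
      exact (heq _ _).2 hij
    rw [h2] at h1
    exact (hroot _ (chkA i j hne)).2 ((mul_eq_right₀ (hne0 (hv11 j))).1 h1.symm)
  · have h1 : φ ((3 : ℤ) • u8) = φ u8 ^ 3 := by
      have : (3 : ℤ) • u8 = u8 + u8 + u8 := by
        rw [show (3 : ℤ) = 1 + 1 + 1 by norm_num, add_smul, add_smul, one_smul]
      rw [this, hadd, hadd]
      ring
    have h2 : ∀ s : Finset (Fin 9), φ (∑ i ∈ s, v8 i) = ζ ^ ∑ i ∈ s, a i := by
      intro s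
      induction s using Finset.induction_on with
      | empty => rw [Finset.sum_empty, Finset.sum_empty, h0, pow_zero]
      | insert i s hi ih => rw [Finset.sum_insert hi, Finset.sum_insert hi, hadd, ih, ha i, pow_add]
    rw [chkS, h2, hb, ← pow_mul] at h1
    have h3 := (heq _ _).1 h1.symm
    push_cast at h3
    rw [mul_comm]
    exact h3
  · intro i j m hij him hjm hc
    have h1 := (hroot _ (chkB' i j m hij him hjm)).2
    have h2 : φ (v8 i + v8 j + v8 m) = φ (v8 i + v8 j + v8 m - u8) * φ u8 := by rw [← hadd, sub_add_cancel]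
    rw [hadd, hadd] at h2
    have h3 : φ (v8 i) * φ (v8 j) * φ (v8 m) = φ u8 := by
      rw [ha i, ha j, ha m, hb, ← pow_add, ← pow_add]
      refine (heq _ _).2 ?_
      push_cast
      exact hc
    rw [h3] at h2
    exact h1 ((mul_eq_right₀ (hne0 hu11)).1 h2.symm)

end Cfsg.Agent.H892.El
end

-- part: H892/ElRow
section
/-!
# S3403: the exceptional groups in characteristic different from 11

`row_chev`, `row_tw` : `Row X` for `IsExceptionalChevChar s X`, `IsTwistedE6D4Char s X`, `s ≠ 11`.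
-/

set_option autoImplicit false
set_option linter.unusedSectionVars false

namespace Cfsg.Agent.H892.El

open Subgroup Cfsg Cfsg.Lie Cfsg.Agent.KFacts Cfsg.Agent.KFacts.RgdFilt Cfsg.Agent.H43.Eleven
open Cfsg.Agent.Nodes.RGDChev Cfsg.Agent.BpTab Cfsg.Agent.BpExc
open Cfsg.Agent.BpExc.TorCent Cfsg.Agent.BpExc.TorChev Cfsg.Agent.BpExc.Tow
  Cfsg.Agent.BpExc.TowChev Cfsg.Agent.BpExc.Fr Cfsg.Agent.BpExc.Pair Cfsg.Agent.BpExc.LangFr Cfsg.Agent.GpExc.Field
open Cfsg.Agent.KFacts.RgdField Cfsg.Agent.KFacts.RgdChevCoord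
open Cfsg.Agent.H469.Exc

universe u v

/-- **No generator of `P` commutes with a nontrivial `s`-element.** -/
theorem no_local {G : Type*} [Group G] [Finite G] [IsSimpleGroup G] (hna : ∃ a b : G, a * b ≠ b * a)
    {P : Subgroup G} (h : Cfg P) {s : ℕ} [hs : Fact s.Prime] (hs11 : s ≠ 11) (hF : HasFilt s G) {x u : G}
    (hPx : P = zpowers x) (hu1 : u ≠ 1) {j : ℕ} (hu : u ^ s ^ j = 1) (hxu : x * u = u * x) : False := by
  have hK : IsPGroup s (zpowers u) := by
    rintro ⟨_, i, rfl⟩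
    refine ⟨j, Subtype.ext ?_⟩
    change (u ^ i) ^ s ^ j = 1
    rw [← zpow_natCast, ← zpow_mul, mul_comm, zpow_mul, zpow_natCast, hu, one_zpow]
  have hK1 : zpowers u ≠ ⊥ := by rwa [Ne, zpowers_eq_bot]
  obtain ⟨V, Q, hV, -, hN, hQ, -, hC⟩ := hF.exists_par hna hK hK1
  have hxN : x ∈ normalizer ((zpowers u : Subgroup G) : Set G) := by
    have hc : Commute x u := hxu
    rw [mem_normalizer_iff]
    intro g
    constructor
    · rintro ⟨i, rfl⟩
      refine ⟨i, ?_⟩
      change u ^ i = x * u ^ i * x⁻¹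
      rw [(hc.zpow_right i).eq, mul_inv_cancel_right]
    · rintro ⟨i, hi⟩
      refine ⟨i, ?_⟩
      change u ^ i = x * g * x⁻¹ at hi
      change u ^ i = g
      have h1 : g = x⁻¹ * u ^ i * x := by rw [hi]; group
      have h2 : x⁻¹ * u ^ i = u ^ i * x⁻¹ := ((hc.inv_left).zpow_right i).eq
      rw [h1, h2, inv_mul_cancel_right]
  have hxV : x ∈ normalizer (V : Set G) := by rw [← hQ]; exact hN hxN
  have hPV : ¬ P ≤ V := by
    refine not_le_of_coprime h ?_
    obtain ⟨n, hn⟩ := IsPGroup.iff_card.1 hV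
    rw [hn]
    intro hd
    have h1 : (11 : ℕ).Prime := by norm_num
    exact hs11 ((Nat.prime_dvd_prime_iff_eq h1 hs.out).1 (h1.dvd_of_dvd_pow hd)).symm
  exact h.not_cent_self hPV hC (by rw [hPx, zpowers_le]; exact hxV)

variable {D : ChevalleyDatum} {l : ℕ} {M : CoxeterMatrix (Fin l)}

/-- elements of order 11 of `TT` conjugate to their cube are not regular -/
def Irr (hp : IsType D l M) : Prop :=
  ∀ (k : Type) [Field k] (r : ℕ) [Fact r.Prime] [CharP k r], LocFin k → ∀ t ∈ TT D k, ∀ g : ↥(D.group k),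
    t ^ 11 = 1 → g * t * g⁻¹ = t ^ 3 → (Sx M.toCoxeterSystem hp.isCartan (ch hp) t).Nonempty

theorem irr_of_five (hp : IsType D l M) (h : ¬ 5 ∣ D.nroots) : Irr hp :=
  fun _ _ _ _ _ hk _ ht _ ht11 hg => sx_of_conj hp M.toCoxeterSystem hk h ht ht11 hg

theorem irr_E8 (hp : IsType chevE8 8 CoxeterMatrix.E₈) : Irr hp :=
  fun _ _ _ _ _ hk _ ht _ ht11 _ => sx_E8 hp CoxeterMatrix.E₈.toCoxeterSystem hk ht ht11

/-- **The row.** -/
theorem row_of_model {hp : IsType D l M} {s : ℕ} [hs : Fact s.Prime] {X : Type u} [Group X] [Finite X]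
    [IsSimpleGroup X] (h : Model hp s X) (hs11 : s ≠ 11) (hF : HasFilt s X) (hI : Irr hp) : _root_.Cfsg.Agent.H43.Eleven.Row X := by
  intro hna P hP _
  exfalso
  obtain ⟨x, hxP, hx, hPx⟩ := exists_gen hP.card
  obtain ⟨y, hy⟩ := hP.aut3 (hP.normalizer_ne_top hna) hxP hx
  obtain ⟨σ, g, e, ι, he, hσ, Fσ, hfin, hι, hfix, hidx⟩ := h
  have hk := locFin s
  have key : ∀ (c : X) (z : ↥(D.group (KK s))), z * ι c * z⁻¹ ∈ TT D (KK s) →
      (Sx M.toCoxeterSystem hp.isCartan (ch hp) (z * ι c * z⁻¹)).Nonempty →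
      ∃ u : X, u ≠ 1 ∧ (∃ j, u ^ s ^ j = 1) ∧ c * u = u * c := by
    intro c z hz hne
    obtain ⟨u, hu1, ⟨j, hj⟩, hσu, huc⟩ := exists_unip_fix hp M.toCoxeterSystem hk he hσ Fσ (hfix c) hz hne
    obtain ⟨m, hm, hmr⟩ := hidx u hσu
    obtain ⟨u', rfl⟩ := mem_of_pow hj hm hmr
    refine ⟨u', fun h1 => hu1 (by rw [h1, map_one]), ⟨j, hι (by rw [map_pow, hj, map_one])⟩, hι ?_⟩
    rw [map_mul, map_mul]
    exact huc.symm
  have hx11 : x ^ 11 = 1 := by rw [← hx]; exact pow_orderOf_eq_one x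
  obtain ⟨z, hz⟩ := TorAll.exists_toral' hp s (by norm_num : (11 : ℕ).Prime) (Ne.symm hs11) (y := ι x)
    (by rw [← map_pow, hx11, map_one])
  have hz' : z⁻¹ * ι x * z⁻¹⁻¹ ∈ TT D (KK s) := by rwa [inv_inv]
  have ht11 : (z⁻¹ * ι x * z⁻¹⁻¹) ^ 11 = 1 := by
    rw [conj_pow, ← map_pow, hx11, map_one, mul_one, mul_inv_cancel]
  have hg : (z⁻¹ * ι y * z) * (z⁻¹ * ι x * z⁻¹⁻¹) * (z⁻¹ * ι y * z)⁻¹ = (z⁻¹ * ι x * z⁻¹⁻¹) ^ 3 := by
    rw [conj_pow, ← map_pow, ← hy, map_mul, map_mul, map_inv]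
    group
  obtain ⟨u, hu1, ⟨j, hj⟩, hxu⟩ := key x _ hz' (hI (KK s) s hk _ hz' _ ht11 hg)
  exact no_local hna hP hs11 hF hPx hu1 hj hxu

variable {s : ℕ} [hs : Fact s.Prime] {X : Type u} [Group X] [Finite X] [IsSimpleGroup X]

/-- **`G₂(q)`, `F₄(q)`, `E₆(q)`, `E₇(q)`, `E₈(q)`.** -/
theorem row_chev (hs11 : s ≠ 11) (h : IsExceptionalChevChar s X) : _root_.Cfsg.Agent.H43.Eleven.Row X := by
  have hF := RgdFiltChev.hasFilt_of_exceptional h
  obtain ⟨F, _, _, _, h⟩ := h
  rcases h with ⟨-, ⟨e⟩⟩ | ⟨⟨e⟩⟩ | ⟨⟨e⟩⟩ | ⟨⟨e⟩⟩ | ⟨⟨e⟩⟩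
  · exact row_of_model ((model_untw (r := s) RowsUntw.g2T F).congr e) hs11 hF (irr_of_five _ (by decide +kernel))
  · exact row_of_model ((model_untw (r := s) RowsUntw.f4T F).congr e) hs11 hF (irr_of_five _ (by decide +kernel))
  · exact row_of_model ((model_untw (r := s) RowsUntw.e6T F).congr e) hs11 hF (irr_of_five _ (by decide +kernel))
  · exact row_of_model ((model_untw (r := s) RowsUntw.e7T F).congr e) hs11 hF (irr_of_five _ (by decide +kernel))
  · exact row_of_model ((model_untw (r := s) RowsUntw.e8T F).congr e) hs11 hF (irr_E8 _)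

/-- **`²E₆(q)`, `³D₄(q)`.** -/
theorem row_tw (hs11 : s ≠ 11) (h : IsTwistedE6D4Char s X) : _root_.Cfsg.Agent.H43.Eleven.Row X := by
  have hF := RgdFiltTwAll.hasFilt_of_twisted h
  obtain ⟨K, _, _, _, q, hq, h⟩ := h
  rcases h with ⟨hK, ⟨e⟩⟩ | ⟨hK, ⟨e⟩⟩
  · exact row_of_model ((model_twE6 (r := s) hq hK).congr e) hs11 hF (irr_of_five _ (by decide +kernel))
  · exact row_of_model ((model_twD4 (r := s) hq hK).congr e) hs11 hF (irr_of_five _ (by decide +kernel))

end Cfsg.Agent.H892.El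
end

-- part: H43/Eleven/All
section
/-!
# S3403: all rows, and the theorem
-/

set_option autoImplicit false
set_option linter.style.haveILetI false

namespace Cfsg.Agent.H43.Eleven

open Subgroup Cfsg

universe u v w

theorem simple_of_equiv {X : Type u} [Group X] [IsSimpleGroup X] {Y : Type v} [Group Y] (e : X ≃* Y) :
    IsSimpleGroup Y := by
  haveI : Nontrivial Y := e.symm.toEquiv.nontrivial
  exact IsSimpleGroup.isSimpleGroup_of_surjective e.toMonoidHom e.surjective

section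

variable {X : Type u} [Group X] [Finite X] [IsSimpleGroup X]

theorem row_lie {p : ℕ} (hp : p.Prime) (hp11 : p ≠ 11) (h : IsLieTypeChar p X) : Row X := by
  have hF11 : ∀ (F : Type) [Field F] [CharP F p], (11 : F) ≠ 0 := by
    intro F _ _ h0
    have h1 := (CharP.cast_eq_zero_iff F p 11).1 (by exact_mod_cast h0)
    rcases (Nat.dvd_prime (by norm_num)).1 h1 with h2 | h2
    · exact hp.one_lt.ne' h2
    · exact hp11 h2
  have : Fact p.Prime := ⟨hp⟩
  rcases h with h | h | h | h | h | h | h | h | ⟨-, h⟩ | ⟨-, h⟩ | ⟨-, h⟩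
  · obtain ⟨F, _, _, _, n, -, -, ⟨e⟩⟩ := h
    haveI := simple_of_equiv e
    exact row_congr e (row_psl (hF11 F))
  · obtain ⟨F, _, _, _, m, hm, -, ⟨e⟩⟩ := h
    haveI := simple_of_equiv e
    exact row_congr e (row_psp (hF11 F) (by omega))
  · obtain ⟨F, _, _, _, n, q, hF, hn, -, ⟨e⟩⟩ := h
    haveI := simple_of_equiv e
    exact row_congr e (row_psu (hF11 F) hF hn)
  · obtain ⟨F, _, _, _, m, hm, hodd, ⟨e⟩⟩ := h
    haveI := simple_of_equiv e
    exact row_congr e (row_pomegaOdd (hF11 F) hm hodd)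
  · obtain ⟨F, _, _, _, m, hm, ⟨e⟩⟩ := h
    haveI := simple_of_equiv e
    exact row_congr e (row_pomegaPlus (hF11 F) hm)
  · obtain ⟨F, _, _, _, m, a, b, hm, hab, ⟨e⟩⟩ := h
    haveI := simple_of_equiv e
    exact row_congr e (row_pomegaMinus (hF11 F) (by omega) a b hab)
  · exact H892.El.row_chev hp11 h
  · exact H892.El.row_tw hp11 h
  · exact row_sz h
  · exact FFour.row_2F4 h
  · exact row_ree h

omit [IsSimpleGroup X] in
theorem row_spor (h : IsSporadicGroup X) : Row X := by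
  have key : ∀ n : ℕ, Nat.card X = n → ¬ 11 ∣ n → Row X := fun n h1 h2 => row_of_coprime (by rw [h1]; exact h2)
  rcases h with h | h | h | h | h | h | h | h | h | h | h | h | h | h | h | h | h | h | h | h | h | h | h | h | h | h
  · exact H807.El.row_M11 h
  · exact H807.El.row_M12 h
  · exact H807.El.row_M22 h
  · exact H807.El.row_M23 h
  · exact H807.El.row_M24 h
  · exact fun _ _ _ _ => Or.inr h
  · exact key _ (NotCT.Orders.j2 h) (by norm_num)
  · exact key _ (NotCT.Orders.j3 h) (by norm_num)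
  · exact H633.ElJ4.row_J4 h
  · exact H807.El.row_Co1 h
  · exact H807.El.row_Co2 h
  · exact H807.El.row_Co3 h
  · exact H807.El.row_McL h
  · exact H807.El.row_HS h
  · exact H807.El.row_Suz h
  · exact key _ (NotCT.Orders.he h) (by norm_num)
  · exact key _ (NotCT.Orders.ru h) (by norm_num)
  · exact H820.ElSeven.row_ON h
  · exact H820.ElSeven.row_Ly h
  · exact H820.ElSeven.row_Fi22 h
  · exact H820.ElSeven.row_Fi23 h
  · exact H820.ElSeven.row_Fi24' h
  · exact H820.ElSeven.row_HN h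
  · exact key _ (NotCT.Orders.th h) (by norm_num)
  · exact H820.ElSeven.row_B h
  · exact H820.ElM.row_M h

/-- **All rows.** -/
theorem row_all : Row X := by
  rcases PreUniq.known_cases (G := X) S0000.result with h | ⟨n, hn, ⟨e⟩⟩ | ⟨r, hr, h⟩ | h | h
  · rintro ⟨a, b, hab⟩
    have : Fact (Nat.card X).Prime := ⟨h⟩
    have hcyc : IsCyclic X := isCyclic_of_prime_card rfl
    exact absurd (hcyc.commGroup.mul_comm a b) hab
  · exact row_congr e (row_alt hn)
  · by_cases h11 : r = 11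
    · subst h11
      exact H216.ElDef.row_char11 h
    · exact row_lie hr h11 h
  · exact row_of_coprime (by rw [OddRank.SzTits.tits_card h]; norm_num)
  · exact row_spor h

end

/-- **Groups generated by a class of subgroups of order 11 with small pairs.** -/
theorem main {G : Type u} [Group G] [Finite G] {F : Type v} [Field F] [Fintype F] (hF : Fintype.card F = 11)
    (P : Subgroup G) (hP : Nat.card ↥P = 11) (hPn : ¬ P.Normal) (hgen : Subgroup.normalClosure (P : Set G) = ⊤)
    (hpair : ∀ g : G, P.map (MulAut.conj g).toMonoidHom ≠ P →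
      Nonempty (↥(P ⊔ P.map (MulAut.conj g).toMonoidHom) ≃* Matrix.ProjectiveSpecialLinearGroup (Fin 2) F) ∨
        Cfsg.Spor.IsoJ1 ↥(P ⊔ P.map (MulAut.conj g).toMonoidHom)) :
    Nonempty (G ≃* Matrix.ProjectiveSpecialLinearGroup (Fin 2) F) ∨ Cfsg.Spor.IsoJ1 G := by
  have : Fact (Nat.Prime 11) := ⟨by norm_num⟩
  obtain ⟨e⟩ := H363.PslCard.psl_of_card (n := Fin 2) (F := F) (F' := ZMod 11) (by rw [hF, ZMod.card])
  have hcfg : Cfg P := by
    refine ⟨hP, fun g hg => ?_⟩
    rcases hpair g hg with ⟨⟨f⟩⟩ | h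
    · exact Or.inl ⟨f.trans e⟩
    · exact Or.inr h
  have hne : ∃ g, cj g P ≠ P := by
    by_contra hcon
    push Not at hcon
    apply hPn
    rw [← normalizer_eq_top_iff]
    exact eq_top_iff.2 fun g _ => cj_eq_iff.1 (hcon g)
  rcases good_of_rows (fun X _ _ _ => row_all) _ G rfl P hcfg hne hgen with ⟨⟨f⟩⟩ | h
  · exact Or.inl ⟨f.trans e.symm⟩
  · exact Or.inr h

end Cfsg.Agent.H43.Eleven
end

-- part: S3403
section
set_option autoImplicit false
open Cfsg

namespace Cfsg.Agent.S3403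

/-- Let G be a finite group and P a non-normal subgroup of order 11 whose conjugates generate G, such that any two distinct conjugates of P generate a subgroup isomorphic to PSL(2, 11) or to the first Janko group. Then G itself is isomorphic to PSL(2, 11) or to the first Janko group. -/
theorem result {G : Type*} [Group G] [Finite G] {F : Type*} [Field F] [Fintype F] (hF : Fintype.card F = 11)
    (P : Subgroup G) (hP : Nat.card ↥P = 11) (hPn : ¬ P.Normal) (hgen : Subgroup.normalClosure (P : Set G) = ⊤)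
    (hpair : ∀ g : G, P.map (MulAut.conj g).toMonoidHom ≠ P →
      Nonempty (↥(P ⊔ P.map (MulAut.conj g).toMonoidHom) ≃* Matrix.ProjectiveSpecialLinearGroup (Fin 2) F) ∨
        Cfsg.Spor.IsoJ1 ↥(P ⊔ P.map (MulAut.conj g).toMonoidHom)) :
    Nonempty (G ≃* Matrix.ProjectiveSpecialLinearGroup (Fin 2) F) ∨ Cfsg.Spor.IsoJ1 G := by
  exact Cfsg.Agent.H43.Eleven.main hF P hP hPn hgen hpair

end Cfsg.Agent.S3403
end
end
end
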