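import Mathlib
import Cfsg.Agent.H380.AltSpecTen
import Cfsg.Statements.S3489
import Cfsg.Agent.S3444
set_option linter.all false

-- part: H380/TwoS5
section
/-! The double cover `2·S₅` with quaternion Sylow subgroups, as a group of `4 × 4` matrices over the field
with seven elements, through the basic spin representation. -/

set_option autoImplicit false

namespace Cfsg.Agent.H380.TwoS5

open Matrix

abbrev M4 := Matrix (Fin 4) (Fin 4) (ZMod 7)

/-- Lifts of the transpositions `(i, i+1)`. -/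
def t : Fin 4 → M4 :=
  ![!![0, 0, 0, 1; 0, 0, 1, 0; 0, 6, 0, 0; 6, 0, 0, 0],
    !![0, 0, 1, 3; 0, 0, 3, 1; 1, 4, 0, 0; 4, 1, 0, 0],
    !![2, 0, 4, 0; 0, 2, 0, 4; 4, 0, 5, 0; 0, 4, 0, 5],
    !![2, 0, 0, 3; 0, 2, 4, 0; 0, 4, 5, 0; 3, 0, 0, 5]]

/-- The five vectors permuted up to sign. -/
def f : Fin 5 → M4 :=
  ![!![4, 0, 5, 6; 0, 4, 2, 5; 5, 1, 3, 0; 5, 5, 0, 3],
    !![4, 0, 5, 5; 0, 4, 1, 5; 5, 2, 3, 0; 6, 5, 0, 3],
    !![4, 0, 4, 2; 0, 4, 5, 4; 4, 5, 3, 0; 2, 4, 0, 3],
    !![2, 0, 0, 2; 0, 2, 5, 0; 0, 5, 5, 0; 2, 0, 0, 5],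
    !![0, 0, 0, 6; 0, 0, 1, 0; 0, 1, 0, 0; 6, 0, 0, 0]]

theorem t_f : ∀ (j : Fin 4) (i : Fin 5), t j * f i = -(f (Equiv.swap j.castSucc j.succ i) * t j) := by
  decide +kernel

theorem t_sq : ∀ j : Fin 4, t j * t j = -1 := by decide +kernel

theorem det_t : ∀ j : Fin 4, (t j).det = 1 := by decide +kernel

theorem t_eq : ∀ j : Fin 4, t j = f j.castSucc - f j.succ := by decide +kernel

/-- `A` normalizes the configuration, inducing `σ`. -/
def S (σ : Equiv.Perm (Fin 5)) (A : M4) : Prop :=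
  ∀ i, A * f i = ((Equiv.Perm.sign σ : ℤ) : ZMod 7) • (f (σ i) * A)

theorem S_one : S 1 1 := by
  intro i
  simp

theorem S_mul {σ τ : Equiv.Perm (Fin 5)} {A B : M4} (hA : S σ A) (hB : S τ B) : S (σ * τ) (A * B) := by
  intro i
  rw [mul_assoc, hB i, mul_smul_comm, ← mul_assoc, hA (τ i), smul_mul_assoc, smul_smul, mul_assoc,
    Equiv.Perm.sign_mul, Equiv.Perm.mul_apply, Units.val_mul, Int.cast_mul, mul_comm (((Equiv.Perm.sign σ : ℤ) : ZMod 7))]

theorem S_pow {σ : Equiv.Perm (Fin 5)} {A : M4} (hA : S σ A) (n : ℕ) : S (σ ^ n) (A ^ n) := by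
  induction n with
  | zero => rw [pow_zero, pow_zero]; exact S_one
  | succ n ih => rw [pow_succ, pow_succ]; exact S_mul ih hA

theorem S_t (j : Fin 4) : S (Equiv.swap j.castSucc j.succ) (t j) := by
  intro i
  have hne : j.castSucc ≠ j.succ := by
    intro h
    have := congrArg Fin.val h
    simp at this
  rw [t_f j i, Equiv.Perm.sign_swap hne]
  simp

theorem comm_t {A : M4} (hA : S 1 A) (j : Fin 4) : A * t j = t j * A := by
  have h : ∀ i, A * f i = f i * A := by
    intro i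
    have := hA i
    simpa using this
  rw [t_eq, mul_sub, sub_mul, h, h]

theorem scalar_of_comm {A : M4} (hA : ∀ j, A * t j = t j * A) : A = A 0 0 • (1 : M4) := by
  have ha : A * !![0, 0, 0, 1; 0, 0, 1, 0; 0, 6, 0, 0; 6, 0, 0, 0] =
      !![0, 0, 0, 1; 0, 0, 1, 0; 0, 6, 0, 0; 6, 0, 0, 0] * A := hA 0
  have hb : A * !![0, 0, 1, 0; 0, 0, 0, 1; 1, 0, 0, 0; 0, 1, 0, 0] =
      !![0, 0, 1, 0; 0, 0, 0, 1; 1, 0, 0, 0; 0, 1, 0, 0] * A := by
    have e : (!![0, 0, 1, 0; 0, 0, 0, 1; 1, 0, 0, 0; 0, 1, 0, 0] : M4) = t 1 - (3 : ZMod 7) • t 0 := by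
      decide +kernel
    rw [e, mul_sub, sub_mul, mul_smul_comm, smul_mul_assoc, hA, hA]
  have hc : A * !![1, 0, 0, 0; 0, 1, 0, 0; 0, 0, 6, 0; 0, 0, 0, 6] =
      !![1, 0, 0, 0; 0, 1, 0, 0; 0, 0, 6, 0; 0, 0, 0, 6] * A := by
    have e : (!![1, 0, 0, 0; 0, 1, 0, 0; 0, 0, 6, 0; 0, 0, 0, 6] : M4) =
      (4 : ZMod 7) • t 2 - (2 : ZMod 7) • (t 1 - (3 : ZMod 7) • t 0) := by
      decide +kernel
    rw [e, mul_sub, sub_mul, mul_smul_comm, smul_mul_assoc, mul_smul_comm, smul_mul_assoc, hA,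
      mul_sub, sub_mul, mul_smul_comm, smul_mul_assoc, hA, hA]
  have hd : A * !![0, 0, 0, 1; 0, 0, 6, 0; 0, 6, 0, 0; 1, 0, 0, 0] =
      !![0, 0, 0, 1; 0, 0, 6, 0; 0, 6, 0, 0; 1, 0, 0, 0] * A := by
    have e : (!![0, 0, 0, 1; 0, 0, 6, 0; 0, 6, 0, 0; 1, 0, 0, 0] : M4) =
      (5 : ZMod 7) • t 3 - (3 : ZMod 7) • (!![1, 0, 0, 0; 0, 1, 0, 0; 0, 0, 6, 0; 0, 0, 0, 6] : M4) := by
      decide +kernel
    rw [e, mul_sub, sub_mul, mul_smul_comm, smul_mul_assoc, mul_smul_comm, smul_mul_assoc, hA, hc]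
  have key : ∀ x : ZMod 7, x * 6 = x → x = 0 := by decide
  have key' : ∀ x : ZMod 7, x = 6 * x → x = 0 := by decide
  have c01 := congrFun (congrFun hc 0) 2
  have c02 := congrFun (congrFun hc 0) 3
  have c03 := congrFun (congrFun hc 1) 2
  have c04 := congrFun (congrFun hc 1) 3
  have c05 := congrFun (congrFun hc 2) 0
  have c06 := congrFun (congrFun hc 2) 1
  have c07 := congrFun (congrFun hc 3) 0
  have c08 := congrFun (congrFun hc 3) 1
  have b1 := congrFun (congrFun hb 0) 2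
  have b2 := congrFun (congrFun hb 0) 3
  have b3 := congrFun (congrFun hb 1) 2
  have b4 := congrFun (congrFun hb 1) 3
  have a1 := congrFun (congrFun ha 0) 3
  have a2 := congrFun (congrFun ha 0) 2
  have a3 := congrFun (congrFun ha 1) 3
  have a4 := congrFun (congrFun ha 1) 2
  have d1 := congrFun (congrFun hd 0) 3
  have d2 := congrFun (congrFun hd 0) 2
  have d3 := congrFun (congrFun hd 1) 3
  have d4 := congrFun (congrFun hd 1) 2
  simp [Matrix.mul_apply, Fin.sum_univ_four] at c01 c02 c03 c04 c05 c06 c07 c08 b1 b2 b3 b4 a1 a2 a3 a4 d1 d2 d3 d4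
  have e01 : A 0 1 = 0 := key _ (d2.trans a2.symm)
  have e32 : A 3 2 = 0 := a2.symm.trans e01
  have e10 : A 1 0 = 0 := b3.trans e32
  have e23 : A 2 3 = 0 := b2.symm.trans e01
  have e22 : A 2 2 = A 0 0 := b1.symm
  have e11 : A 1 1 = A 0 0 := a4.trans e22
  have e33 : A 3 3 = A 0 0 := a1.symm
  ext i j
  fin_cases i <;> fin_cases j <;>
    simp [e01, e32, e10, e23, e22, e11, e33, key _ c01, key _ c02, key _ c03, key _ c04, key' _ c05,
      key' _ c06, key' _ c07, key' _ c08]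

/-- A determinant one matrix inducing the identity is `±1`. -/
theorem eq_one_or_neg {A : M4} (hA : S 1 A) (hd : A.det = 1) : A = 1 ∨ A = -1 := by
  have h := scalar_of_comm (comm_t hA)
  have hd' : (A 0 0) ^ 4 = 1 := by
    rw [h, Matrix.det_smul, Matrix.det_one, mul_one, Fintype.card_fin] at hd
    exact hd
  have : ∀ x : ZMod 7, x ^ 4 = 1 → x = 1 ∨ x = -1 := by decide
  rcases this _ hd' with h1 | h1
  · left; rw [h, h1, one_smul]
  · right; rw [h, h1, neg_smul, one_smul]

/-- The group `2·S₅`. -/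
def K : Subgroup (SpecialLinearGroup (Fin 4) (ZMod 7)) where
  carrier := {A | ∃ σ, S σ A.1}
  one_mem' := ⟨1, S_one⟩
  mul_mem' := by
    rintro a b ⟨σ, hσ⟩ ⟨τ, hτ⟩
    exact ⟨σ * τ, S_mul hσ hτ⟩
  inv_mem' := by
    rintro a ⟨σ, hσ⟩
    have h : a⁻¹ = a ^ (orderOf a - 1) := by
      rw [inv_eq_iff_mul_eq_one, ← pow_succ', Nat.sub_add_cancel (orderOf_pos a), pow_orderOf_eq_one]
    exact ⟨σ ^ (orderOf a - 1), by rw [h]; exact S_pow hσ _⟩

/-- The underlying matrix, as a homomorphism. -/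
def v : SpecialLinearGroup (Fin 4) (ZMod 7) →* M4 where
  toFun := fun M => M.1
  map_one' := rfl
  map_mul' := fun _ _ => rfl

/-- Every permutation of five letters is induced. -/
theorem exists_S (σ : Equiv.Perm (Fin 5)) : ∃ x : SpecialLinearGroup (Fin 4) (ZMod 7), S σ (v x) := by
  have h : σ ∈ Submonoid.closure (Set.range fun i : Fin 4 => Equiv.swap i.castSucc i.succ) := by
    rw [Equiv.Perm.mclosure_swap_castSucc_succ]; trivial
  induction h using Submonoid.closure_induction with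
  | mem x hx =>
    obtain ⟨j, rfl⟩ := hx
    exact ⟨⟨t j, det_t j⟩, S_t j⟩
  | one => exact ⟨1, S_one⟩
  | mul x y _ _ hx hy =>
    obtain ⟨a, ha⟩ := hx
    obtain ⟨b, hb⟩ := hy
    exact ⟨a * b, S_mul ha hb⟩

/-- The polynomial identities satisfied by the elements of `2·S₅`. -/
def P (A : M4) : Prop :=
  A = 1 ∨ A ^ 2 + A + 1 = 0 ∨ A ^ 4 + A ^ 3 + A ^ 2 + A + 1 = 0 ∨ A ^ 1 = -1 ∨ A ^ 2 = -1 ∨ A ^ 3 = -1 ∨
    A ^ 4 = -1 ∨ A ^ 5 = -1 ∨ A ^ 6 = -1

instance (A : M4) : Decidable (P A) := by unfold P; infer_instance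

theorem P_conj (x y : SpecialLinearGroup (Fin 4) (ZMod 7)) (h : P (v y)) : P (v (x * y * x⁻¹)) := by
  have e : ∀ n : ℕ, (v (x * y * x⁻¹)) ^ n = v x * (v y) ^ n * v x⁻¹ := by
    intro n
    rw [← map_pow, conj_pow, map_mul, map_mul, map_pow]
  have hx : v x * v x⁻¹ = 1 := by rw [← map_mul, mul_inv_cancel, map_one]
  have e1 : v (x * y * x⁻¹) = v x * v y * v x⁻¹ := by rw [map_mul, map_mul]
  have neg : ∀ n : ℕ, (v y) ^ n = -1 → (v (x * y * x⁻¹)) ^ n = -1 := by
    intro n hn
    rw [e, hn, mul_neg, mul_one, neg_mul, hx]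
  unfold P at h ⊢
  rcases h with h | h | h | h | h | h | h | h | h
  · left; rw [e1, h, mul_one, hx]
  · right; left
    have : (v (x * y * x⁻¹)) ^ 2 + v (x * y * x⁻¹) + 1 = v x * ((v y) ^ 2 + v y + 1) * v x⁻¹ := by
      rw [e, e1, mul_add, mul_add, add_mul, add_mul, mul_one, hx]
    rw [this, h, mul_zero, zero_mul]
  · right; right; left
    have : (v (x * y * x⁻¹)) ^ 4 + (v (x * y * x⁻¹)) ^ 3 + (v (x * y * x⁻¹)) ^ 2 + v (x * y * x⁻¹) + 1 =
        v x * ((v y) ^ 4 + (v y) ^ 3 + (v y) ^ 2 + v y + 1) * v x⁻¹ := by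
      rw [e, e, e, e1]
      simp only [mul_add, add_mul, mul_one, hx]
    rw [this, h, mul_zero, zero_mul]
  · exact Or.inr (Or.inr (Or.inr (Or.inl (neg 1 h))))
  · exact Or.inr (Or.inr (Or.inr (Or.inr (Or.inl (neg 2 h)))))
  · exact Or.inr (Or.inr (Or.inr (Or.inr (Or.inr (Or.inl (neg 3 h))))))
  · exact Or.inr (Or.inr (Or.inr (Or.inr (Or.inr (Or.inr (Or.inl (neg 4 h)))))))
  · exact Or.inr (Or.inr (Or.inr (Or.inr (Or.inr (Or.inr (Or.inr (Or.inl (neg 5 h))))))))
  · exact Or.inr (Or.inr (Or.inr (Or.inr (Or.inr (Or.inr (Or.inr (Or.inr (neg 6 h))))))))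

/-- All multisets of numbers `≥ 2` with sum at most `n`. -/
def parts : ℕ → ℕ → List (Multiset ℕ)
  | 0, _ => [0]
  | fuel + 1, n => 0 :: (List.range (n + 1)).flatMap fun a =>
      if 2 ≤ a then (parts fuel (n - a)).map fun s => a ::ₘ s else []

theorem mem_parts (fuel : ℕ) : ∀ (n : ℕ) (s : Multiset ℕ), n ≤ fuel → (∀ a ∈ s, 2 ≤ a) → s.sum ≤ n →
    s ∈ parts fuel n := by
  induction fuel with
  | zero =>
    intro n s hn h2 hs
    have hs0 : s = 0 := by
      apply Multiset.eq_zero_of_forall_notMem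
      intro a ha
      have h1 := h2 a ha
      have h3 := Multiset.le_sum_of_mem ha
      omega
    subst hs0
    simp [parts]
  | succ fuel ih =>
    intro n s hn h2 hs
    induction s using Multiset.induction_on with
    | empty => simp [parts]
    | cons a s _ =>
      have ha : 2 ≤ a := h2 a (Multiset.mem_cons_self a s)
      rw [Multiset.sum_cons] at hs
      have hrec := ih (n - a) s (by omega) (fun b hb => h2 b (Multiset.mem_cons_of_mem hb)) (by omega)
      rw [parts, List.mem_cons]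
      right
      rw [List.mem_flatMap]
      refine ⟨a, ?_, ?_⟩
      · rw [List.mem_range]; omega
      · rw [if_pos ha]
        exact List.mem_map_of_mem hrec

theorem cycleType_cases (σ : Equiv.Perm (Fin 5)) :
    σ.cycleType ∈ ([0, {2}, {3}, {4}, {5}, {2, 2}, {3, 2}] : List (Multiset ℕ)) := by
  have h := mem_parts 5 5 σ.cycleType le_rfl (fun a ha => Equiv.Perm.two_le_of_mem_cycleType ha)
    (by
      rw [Equiv.Perm.sum_cycleType]
      calc _ ≤ Fintype.card (Fin 5) := Finset.card_le_univ _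
        _ = 5 := Fintype.card_fin 5)
  have hall : ∀ s ∈ parts 5 5, s ∈ ([0, {2}, {3}, {4}, {5}, {2, 2}, {3, 2}] : List (Multiset ℕ)) := by decide
  exact hall _ h

/-- The lifts as elements of the special linear group. -/
def T (j : Fin 4) : SpecialLinearGroup (Fin 4) (ZMod 7) := ⟨t j, det_t j⟩

theorem v_T (j : Fin 4) : v (T j) = t j := rfl

/-- The word of lifts of adjacent transpositions. -/
def word (l : List (Fin 4)) : SpecialLinearGroup (Fin 4) (ZMod 7) := (l.map T).prod

/-- The induced permutation of a word. -/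
def wordPerm (l : List (Fin 4)) : Equiv.Perm (Fin 5) := (l.map fun j => Equiv.swap j.castSucc j.succ).prod

theorem S_word (l : List (Fin 4)) : S (wordPerm l) (v (word l)) := by
  induction l with
  | nil => exact S_one
  | cons j l ih =>
    have h1 : wordPerm (j :: l) = Equiv.swap j.castSucc j.succ * wordPerm l := by
      rw [wordPerm, List.map_cons, List.prod_cons]; rfl
    have h2 : word (j :: l) = T j * word l := by
      rw [word, List.map_cons, List.prod_cons]; rfl
    rw [h1, h2, map_mul, v_T]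
    exact S_mul (S_t j) ih

theorem v_word (l : List (Fin 4)) : v (word l) = (l.map t).prod := by
  rw [word, map_list_prod, List.map_map]
  rfl

theorem P_word : ∀ l ∈ ([[], [0], [0, 1], [0, 1, 2], [0, 1, 2, 3], [0, 2], [0, 1, 3]] : List (List (Fin 4))),
    P (l.map t).prod ∧ P (-(l.map t).prod) := by
  decide +kernel

theorem cycleType_word : ∀ m ∈ ([0, {2}, {3}, {4}, {5}, {2, 2}, {3, 2}] : List (Multiset ℕ)),
    ∃ l ∈ ([[], [0], [0, 1], [0, 1, 2], [0, 1, 2, 3], [0, 2], [0, 1, 3]] : List (List (Fin 4))),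
      (wordPerm l).cycleType = m := by
  decide +kernel

/-- Each element of `2·S₅` satisfies one of the polynomial identities. -/
theorem P_of_S {x : SpecialLinearGroup (Fin 4) (ZMod 7)} {σ : Equiv.Perm (Fin 5)} (hx : S σ (v x)) :
    P (v x) := by
  obtain ⟨l, hl, hlc⟩ := cycleType_word _ (cycleType_cases σ)
  obtain ⟨g, hg⟩ := isConj_iff.1 ((Equiv.Perm.isConj_iff_cycleType_eq).2 hlc)
  obtain ⟨G, hG⟩ := exists_S g
  have hinv : ∀ (y : SpecialLinearGroup (Fin 4) (ZMod 7)) (τ : Equiv.Perm (Fin 5)), S τ (v y) →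
      S τ⁻¹ (v y⁻¹) := by
    intro y τ hy i
    have h := hy (τ⁻¹ i)
    rw [show τ (τ⁻¹ i) = i by simp] at h
    have h1 : v y⁻¹ * v y = 1 := by rw [← map_mul, inv_mul_cancel, map_one]
    have h2 : v y * v y⁻¹ = 1 := by rw [← map_mul, mul_inv_cancel, map_one]
    have hs : (((Equiv.Perm.sign τ : ℤ) : ZMod 7)) * (((Equiv.Perm.sign τ : ℤ) : ZMod 7)) = 1 := by
      rcases Int.units_eq_one_or (Equiv.Perm.sign τ) with h | h <;> rw [h] <;> decide
    calc v y⁻¹ * f i = v y⁻¹ * (f i * v y) * v y⁻¹ := by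
          rw [mul_assoc, mul_assoc, h2, mul_one]
      _ = v y⁻¹ * ((((Equiv.Perm.sign τ : ℤ) : ZMod 7)) • (v y * f (τ⁻¹ i))) * v y⁻¹ := by
          rw [h, smul_smul, hs, one_smul]
      _ = (((Equiv.Perm.sign τ : ℤ) : ZMod 7)) • (f (τ⁻¹ i) * v y⁻¹) := by
          rw [mul_smul_comm, ← mul_assoc, h1, one_mul, smul_mul_assoc]
      _ = _ := by rw [Equiv.Perm.sign_inv]
  -- the element `G⁻¹ x G` induces the representative
  have h1 : S (wordPerm l) (v (G⁻¹ * x * G)) := by
    have h := S_mul (S_mul (hinv G g hG) hx) hG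
    rw [map_mul, map_mul]
    have e : g⁻¹ * σ * g = wordPerm l := by rw [← hg]; group
    rwa [e] at h
  have h2 : S 1 (v (G⁻¹ * x * G * (word l)⁻¹)) := by
    have h := S_mul h1 (hinv _ _ (S_word l))
    rw [mul_inv_cancel] at h
    rw [map_mul]
    exact h
  have h3 : v (G⁻¹ * x * G * (word l)⁻¹) = 1 ∨ v (G⁻¹ * x * G * (word l)⁻¹) = -1 :=
    eq_one_or_neg h2 (G⁻¹ * x * G * (word l)⁻¹).2
  have h4 : P (v (G⁻¹ * x * G)) := by
    have e : v (G⁻¹ * x * G) = v (G⁻¹ * x * G * (word l)⁻¹) * v (word l) := by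
      rw [← map_mul, inv_mul_cancel_right]
    obtain ⟨p1, p2⟩ := P_word l hl
    rcases h3 with h3 | h3
    · rw [e, h3, one_mul, v_word]; exact p1
    · rw [e, h3, neg_mul, one_mul, v_word]; exact p2
  have h5 := P_conj G _ h4
  have e : G * (G⁻¹ * x * G) * G⁻¹ = x := by group
  rwa [e] at h5

end Cfsg.Agent.H380.TwoS5
end

-- part: H380/SDP
section
/-! Semidirect products of an additive group by a group acting through a homomorphism to the
endomorphism monoid. -/

set_option autoImplicit false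

namespace Cfsg.Agent.H380

/-- The semidirect product of `M` by `K`, acting through `ρ`. -/
@[ext]
structure SDP {K M : Type*} [Group K] [AddCommGroup M] (ρ : K →* AddMonoid.End M) where
  /-- The module part. -/
  l : M
  /-- The group part. -/
  r : K

namespace SDP

variable {K M : Type*} [Group K] [AddCommGroup M] {ρ : K →* AddMonoid.End M}

instance instMulSDP : Mul (SDP ρ) := ⟨fun a b => ⟨a.l + ρ a.r b.l, a.r * b.r⟩⟩
instance instOneSDP : One (SDP ρ) := ⟨⟨0, 1⟩⟩
instance instInvSDP : Inv (SDP ρ) := ⟨fun a => ⟨-(ρ a.r⁻¹ a.l), a.r⁻¹⟩⟩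

theorem mul_l (a b : SDP ρ) : (a * b).l = a.l + ρ a.r b.l := rfl
theorem mul_r (a b : SDP ρ) : (a * b).r = a.r * b.r := rfl
theorem one_l : (1 : SDP ρ).l = 0 := rfl
theorem one_r : (1 : SDP ρ).r = 1 := rfl
theorem inv_l (a : SDP ρ) : (a⁻¹).l = -(ρ a.r⁻¹ a.l) := rfl
theorem inv_r (a : SDP ρ) : (a⁻¹).r = a.r⁻¹ := rfl

instance instGroupSDP : Group (SDP ρ) where
  mul_assoc a b c := by
    ext
    · simp only [mul_l, mul_r, map_mul, map_add, add_assoc]; rfl
    · simp only [mul_r, mul_assoc]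
  one_mul a := by
    ext
    · simp [mul_l, one_l, one_r]
    · simp [mul_r, one_r]
  mul_one a := by
    ext
    · simp [mul_l, one_l]
    · simp [mul_r, one_r]
  inv_mul_cancel a := by
    ext
    · simp [mul_l, inv_l, inv_r, one_l]
    · simp [mul_r, inv_r, one_r]

theorem pow_r (a : SDP ρ) (n : ℕ) : (a ^ n).r = a.r ^ n := by
  induction n with
  | zero => simp [one_r]
  | succ n ih => rw [pow_succ, mul_r, ih, pow_succ]

theorem pow_l (a : SDP ρ) (n : ℕ) : (a ^ n).l = ∑ i ∈ Finset.range n, ρ (a.r ^ i) a.l := by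
  induction n with
  | zero => simp [one_l]
  | succ n ih => rw [pow_succ, mul_l, ih, pow_r, Finset.sum_range_succ]

instance instFiniteSDP [Finite K] [Finite M] : Finite (SDP ρ) :=
  Finite.of_injective (fun a : SDP ρ => (a.l, a.r)) (by
    intro a b h
    simp only [Prod.mk.injEq] at h
    exact SDP.ext h.1 h.2)

/-- The projection to the group part. -/
def proj (ρ : K →* AddMonoid.End M) : SDP ρ →* K where
  toFun := SDP.r
  map_one' := rfl
  map_mul' _ _ := rfl

theorem mem_ker_proj {a : SDP ρ} : a ∈ (proj ρ).ker ↔ a.r = 1 := MonoidHom.mem_ker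

theorem ker_comm (a b : (proj ρ).ker) : a * b = b * a := by
  have ha : a.1.r = 1 := mem_ker_proj.1 a.2
  have hb : b.1.r = 1 := mem_ker_proj.1 b.2
  apply Subtype.ext
  change a.1 * b.1 = b.1 * a.1
  ext
  · simp [mul_l, ha, hb, add_comm]
  · simp [mul_r, ha, hb]

theorem ker_solvable : Group.IsSolvable (proj ρ).ker := Group.isSolvable_of_comm ker_comm

theorem ker_ne_bot [Nontrivial M] : (proj ρ).ker ≠ ⊥ := by
  obtain ⟨m, hm⟩ := exists_ne (0 : M)
  intro h
  have h1 : (⟨m, 1⟩ : SDP ρ) ∈ (proj ρ).ker := mem_ker_proj.2 rfl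
  rw [h, Subgroup.mem_bot] at h1
  exact hm (congrArg SDP.l h1)

/-- A power whose group part is trivial. -/
theorem pow_mul_eq_one {a : SDP ρ} {n m : ℕ} (hr : a.r ^ n = 1) (hm : m • (a ^ n).l = 0) :
    a ^ (n * m) = 1 := by
  rw [pow_mul]
  have h1 : (a ^ n).r = 1 := by rw [pow_r, hr]
  ext
  · rw [pow_l, h1, one_l]
    simpa using hm
  · rw [pow_r, h1, one_pow, one_r]

/-- If some power of the group part acts as `-1` and is an involution, then the corresponding double power
is trivial. -/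
theorem pow_two_mul_eq_one {a : SDP ρ} {n : ℕ} {z : K} (hz : z * z = 1) (hρ : ∀ m, ρ z m = -m)
    (hn : a.r ^ n = z) : a ^ (n * 2) = 1 := by
  rw [pow_mul, pow_two]
  have h1 : (a ^ n).r = z := by rw [pow_r, hn]
  ext
  · rw [mul_l, h1, hρ, add_neg_cancel, one_l]
  · rw [mul_r, h1, hz, one_r]

end SDP

end Cfsg.Agent.H380
end

-- part: H380/IsoTen
section
/-! A group with a normal abelian subgroup and the element orders of `A₁₀`. -/

set_option autoImplicit false

namespace Cfsg.Agent.H380.IsoTen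

open Cfsg.Agent.H380 Cfsg.Agent.H380.TwoS5 Matrix

theorem v_injective : Function.Injective v := fun _ _ h => Subtype.ext h

/-- The matrix of an element of `K`, as a homomorphism. -/
def vK : K →* M4 := v.comp K.subtype

theorem vK_injective : Function.Injective vK := v_injective.comp K.subtype_injective

theorem P_vK (k : K) : P (vK k) := by
  obtain ⟨σ, hσ⟩ := k.2
  exact P_of_S hσ

/-- Words as elements of `K`. -/
def wd (l : List (Fin 4)) : K := ⟨word l, wordPerm l, S_word l⟩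

theorem vK_wd (l : List (Fin 4)) : vK (wd l) = (l.map t).prod := v_word l

/-- The central involution. -/
def z : K := wd [0, 0]

theorem vK_z : vK z = -1 := by
  rw [z, vK_wd]; decide +kernel

theorem z_mul_z : z * z = 1 := by
  apply vK_injective
  rw [map_mul, vK_z, map_one]; simp

theorem z_comm (k : K) : k * z = z * k := by
  apply vK_injective
  rw [map_mul, map_mul, vK_z]; simp

theorem z_mul_eq_one {k : K} : z * k = 1 ↔ k = z := by
  constructor
  · intro h
    have := congrArg (fun x => z * x) h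
    simpa [← mul_assoc, z_mul_z] using this
  · rintro rfl; exact z_mul_z

theorem z_mul_eq_z {k : K} : z * k = z ↔ k = 1 := by simp

theorem z_ne_one : z ≠ 1 := by
  intro h
  have h1 := vK_z
  rw [h, map_one] at h1
  exact absurd h1 (by decide +kernel)

/-- The module in characteristic three. -/
def W : AddSubgroup (K → ZMod 3) where
  carrier := {g | ∀ k, g (z * k) = -(g k)}
  zero_mem' := by intro k; simp
  add_mem' := by
    intro a b ha hb k
    rw [Pi.add_apply, Pi.add_apply, ha, hb, neg_add]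
  neg_mem' := by
    intro a ha k
    rw [Pi.neg_apply, Pi.neg_apply, ha]

/-- The whole module. -/
abbrev Mod := (Fin 4 → ZMod 7) × W

/-- The action on `W`. -/
def actW (k : K) : W →+ W where
  toFun g := ⟨fun x => g.1 (x * k), fun x => by
    change g.1 (z * x * k) = -(g.1 (x * k))
    rw [mul_assoc]; exact g.2 (x * k)⟩
  map_zero' := by apply Subtype.ext; rfl
  map_add' a b := by apply Subtype.ext; rfl

/-- The action on the module. -/
def ρ : K →* AddMonoid.End Mod where
  toFun k := AddMonoidHom.prodMap ((Matrix.mulVecLin (vK k)).toAddMonoidHom) (actW k)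
  map_one' := by
    ext x
    · rename_i i
      change (Matrix.mulVecLin (vK 1)) x.1 i = x.1 i
      rw [map_one]
      simp
    · rename_i i
      change x.2.1 (i * 1) = x.2.1 i
      rw [mul_one]
  map_mul' a b := by
    ext x
    · rename_i i
      change (Matrix.mulVecLin (vK (a * b))) x.1 i = (Matrix.mulVecLin (vK a)) ((Matrix.mulVecLin (vK b)) x.1) i
      rw [map_mul]
      simp
    · rename_i i
      change x.2.1 (i * (a * b)) = x.2.1 ((i * a) * b)
      rw [mul_assoc]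

theorem ρ_fst (k : K) (m : Mod) : (ρ k m).1 = (vK k) *ᵥ m.1 := rfl
theorem ρ_snd (k : K) (m : Mod) (x : K) : (ρ k m).2.1 x = m.2.1 (x * k) := rfl

theorem ρ_z (m : Mod) : ρ z m = -m := by
  apply Prod.ext
  · rw [ρ_fst, vK_z, Matrix.neg_mulVec, Matrix.one_mulVec]; rfl
  · apply Subtype.ext
    funext x
    rw [ρ_snd, z_comm]
    exact m.2.2 x

/-- The group isospectral with `A₁₀`. -/
abbrev H := SDP ρ

theorem pow_fst (a : H) (n : ℕ) : (a ^ n).l.1 = (∑ i ∈ Finset.range n, (vK a.r) ^ i) *ᵥ a.l.1 := by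
  have e : ∀ i, (ρ (a.r ^ i) a.l).1 = (vK a.r) ^ i *ᵥ a.l.1 := by
    intro i; rw [ρ_fst, map_pow]
  rw [SDP.pow_l, Prod.fst_sum, Matrix.sum_mulVec]
  exact Finset.sum_congr rfl fun i _ => e i

theorem pow_snd (a : H) (n : ℕ) (x : K) : (a ^ n).l.2.1 x = ∑ i ∈ Finset.range n, a.l.2.1 (x * a.r ^ i) := by
  rw [SDP.pow_l, Prod.snd_sum, AddSubgroup.val_finsetSum, Finset.sum_apply]
  exact Finset.sum_congr rfl fun i _ => ρ_snd _ _ _

theorem three_W (w : W) : (3 : ℕ) • w = 0 := by
  apply Subtype.ext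
  funext x
  change (3 : ℕ) • (w.1 x) = 0
  rw [nsmul_eq_mul]
  have : ((3 : ℕ) : ZMod 3) = 0 := by decide
  rw [this, zero_mul]

theorem seven_V (u : Fin 4 → ZMod 7) : (7 : ℕ) • u = 0 := by
  funext x
  change (7 : ℕ) • (u x) = 0
  rw [nsmul_eq_mul]
  have : ((7 : ℕ) : ZMod 7) = 0 := by decide
  rw [this, zero_mul]

theorem twentyone_Mod (m : Mod) : (21 : ℕ) • m = 0 := by
  apply Prod.ext
  · change (21 : ℕ) • m.1 = 0
    rw [show 21 = 3 * 7 by rfl, mul_nsmul', seven_V, smul_zero]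
  · change (21 : ℕ) • m.2 = 0
    rw [show 21 = 7 * 3 by rfl, mul_nsmul', three_W, smul_zero]

theorem orderOf_mem (a : H) : orderOf a ∈ [1, 2, 3, 4, 5, 6, 7, 8, 9, 10, 12, 15, 21] := by
  have hdiv : ∀ n ∈ [21, 9, 15, 2, 4, 6, 8, 10, 12], a ^ n = 1 →
      orderOf a ∈ [1, 2, 3, 4, 5, 6, 7, 8, 9, 10, 12, 15, 21] := by
    intro n hn h
    have h1 : orderOf a ∈ Nat.divisors n := by
      rw [Nat.mem_divisors]
      refine ⟨orderOf_dvd_of_pow_eq_one h, ?_⟩
      rintro rfl
      revert hn; decide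
    have h2 : ∀ n ∈ [21, 9, 15, 2, 4, 6, 8, 10, 12], ∀ d ∈ Nat.divisors n,
        d ∈ [1, 2, 3, 4, 5, 6, 7, 8, 9, 10, 12, 15, 21] := by decide
    exact h2 n hn _ h1
  have hneg : ∀ n, n * 2 ∈ [21, 9, 15, 2, 4, 6, 8, 10, 12] → (vK a.r) ^ n = -1 →
      orderOf a ∈ [1, 2, 3, 4, 5, 6, 7, 8, 9, 10, 12, 15, 21] := by
    intro n hn h
    apply hdiv (n * 2) hn
    apply SDP.pow_two_mul_eq_one z_mul_z ρ_z
    apply vK_injective
    rw [map_pow, h, vK_z]
  rcases P_vK a.r with h | h | h | h | h | h | h | h | h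
  · -- trivial group part
    apply hdiv (1 * 21) (by decide)
    apply SDP.pow_mul_eq_one
    · rw [pow_one]; apply vK_injective; rw [h, map_one]
    · rw [pow_one]
      exact twentyone_Mod a.l
  · apply hdiv (3 * 3) (by decide)
    apply SDP.pow_mul_eq_one
    · apply vK_injective
      rw [map_pow, map_one]
      have : vK a.r ^ 3 - 1 = (vK a.r - 1) * (vK a.r ^ 2 + vK a.r + 1) := by noncomm_ring
      rw [h, mul_zero, sub_eq_zero] at this
      exact this
    · apply Prod.ext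
      · change 3 • (a ^ 3).l.1 = 0
        rw [pow_fst]
        simp only [Finset.sum_range_succ, Finset.sum_range_zero, zero_add, pow_zero, pow_one]
        rw [show 1 + vK a.r + vK a.r ^ 2 = vK a.r ^ 2 + vK a.r + 1 by abel, h]
        simp
      · change 3 • (a ^ 3).l.2 = 0
        exact three_W _
  · apply hdiv (5 * 3) (by decide)
    apply SDP.pow_mul_eq_one
    · apply vK_injective
      rw [map_pow, map_one]
      have : vK a.r ^ 5 - 1 = (vK a.r - 1) * (vK a.r ^ 4 + vK a.r ^ 3 + vK a.r ^ 2 + vK a.r + 1) := by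
        noncomm_ring
      rw [h, mul_zero, sub_eq_zero] at this
      exact this
    · apply Prod.ext
      · change 3 • (a ^ 5).l.1 = 0
        rw [pow_fst]
        simp only [Finset.sum_range_succ, Finset.sum_range_zero, zero_add, pow_zero, pow_one]
        rw [show 1 + vK a.r + vK a.r ^ 2 + vK a.r ^ 3 + vK a.r ^ 4 =
          vK a.r ^ 4 + vK a.r ^ 3 + vK a.r ^ 2 + vK a.r + 1 by abel, h]
        simp
      · change 3 • (a ^ 5).l.2 = 0
        exact three_W _
  · exact hneg 1 (by decide) h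
  · exact hneg 2 (by decide) h
  · exact hneg 3 (by decide) h
  · exact hneg 4 (by decide) h
  · exact hneg 5 (by decide) h
  · exact hneg 6 (by decide) h

open Classical in
/-- The basic odd function. -/
noncomputable def w0 : W := ⟨fun x => if x = 1 then 1 else if x = z then -1 else 0, by
  intro k
  change (if z * k = 1 then (1 : ZMod 3) else if z * k = z then -1 else 0) =
    -(if k = 1 then (1 : ZMod 3) else if k = z then -1 else 0)
  by_cases h1 : k = 1
  · subst h1
    rw [mul_one, if_pos rfl, if_neg z_ne_one, if_pos rfl]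
  · by_cases h2 : k = z
    · subst h2
      rw [z_mul_z, if_pos rfl, if_neg z_ne_one, if_pos rfl, neg_neg]
    · rw [if_neg (fun h => h2 (z_mul_eq_one.1 h)), if_neg (fun h => h1 (z_mul_eq_z.1 h)), if_neg h1, if_neg h2,
        neg_zero]⟩

theorem w0_one : w0.1 1 = 1 := by
  change (if (1 : K) = 1 then (1 : ZMod 3) else if (1 : K) = z then -1 else 0) = 1
  rw [if_pos rfl]

theorem w0_of_ne {k : K} (h1 : k ≠ 1) (h2 : k ≠ z) : w0.1 k = 0 := by
  change (if k = 1 then (1 : ZMod 3) else if k = z then -1 else 0) = 0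
  rw [if_neg h1, if_neg h2]

/-- Elements with group part of odd order `n` lifting to elements of order `3 n`. -/
theorem pow_ne_one {k : K} {n : ℕ} (hn : 0 < n) (hk : ∀ i, 0 < i → i < n → k ^ i ≠ 1 ∧ k ^ i ≠ z) :
    (⟨(0, w0), k⟩ : H) ^ n ≠ 1 := by
  intro h
  have h1 : ((⟨(0, w0), k⟩ : H) ^ n).l.2.1 1 = 0 := by rw [h]; rfl
  rw [pow_snd] at h1
  have h2 : ∑ i ∈ Finset.range n, w0.1 (1 * k ^ i) = w0.1 (1 * k ^ 0) := by
    apply Finset.sum_eq_single 0
    · intro i hi hi0
      rw [one_mul]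
      have := hk i (Nat.pos_of_ne_zero hi0) (Finset.mem_range.1 hi)
      exact w0_of_ne this.1 this.2
    · intro h; exact absurd (Finset.mem_range.2 hn) h
  change ∑ i ∈ Finset.range n, w0.1 (1 * k ^ i) = 0 at h1
  rw [h2, pow_zero, one_mul, w0_one] at h1
  exact absurd h1 (by decide)

theorem vK_pow_wd (l : List (Fin 4)) (i : ℕ) : vK (wd l ^ i) = (l.map t).prod ^ i := by
  rw [map_pow, vK_wd]

theorem ne_one_of (l : List (Fin 4)) (i : ℕ) (h : (l.map t).prod ^ i ≠ 1) : wd l ^ i ≠ 1 := by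
  intro h'
  apply h
  rw [← vK_pow_wd, h', map_one]

theorem ne_z_of (l : List (Fin 4)) (i : ℕ) (h : (l.map t).prod ^ i ≠ -1) : wd l ^ i ≠ z := by
  intro h'
  apply h
  rw [← vK_pow_wd, h', vK_z]

theorem r_ne {a : H} {n : ℕ} (h : a.r ^ n ≠ 1) : a ^ n ≠ 1 := by
  intro h'
  apply h
  rw [← SDP.pow_r, h', SDP.one_r]

theorem exists_eight : ∃ a : H, orderOf a = 8 := by
  refine ⟨⟨0, wd [0, 1, 2]⟩, ?_⟩
  apply orderOf_eq_prime_pow (p := 2) (n := 2)
  · exact r_ne (ne_one_of _ 4 (by decide +kernel))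
  · apply SDP.pow_two_mul_eq_one (n := 4) z_mul_z ρ_z
    apply vK_injective
    rw [vK_pow_wd, vK_z]
    decide +kernel

theorem exists_ten : ∃ a : H, orderOf a = 10 := by
  refine ⟨⟨0, wd [0, 1, 2, 3]⟩, ?_⟩
  apply orderOf_eq_of_pow_and_pow_div_prime (by norm_num)
  · apply SDP.pow_two_mul_eq_one (n := 5) z_mul_z ρ_z
    apply vK_injective
    rw [vK_pow_wd, vK_z]
    decide +kernel
  · intro p hp hd
    have hp' : p = 2 ∨ p = 5 := by
      have := (Nat.Prime.dvd_mul hp).1 (show p ∣ 2 * 5 from hd)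
      rcases this with h | h
      · exact Or.inl ((Nat.prime_dvd_prime_iff_eq hp Nat.prime_two).1 h)
      · exact Or.inr ((Nat.prime_dvd_prime_iff_eq hp (by norm_num)).1 h)
    rcases hp' with rfl | rfl
    · exact r_ne (ne_one_of _ 5 (by decide +kernel))
    · exact r_ne (ne_one_of _ 2 (by decide +kernel))

theorem exists_twelve : ∃ a : H, orderOf a = 12 := by
  refine ⟨⟨0, wd [0, 1, 3]⟩, ?_⟩
  apply orderOf_eq_of_pow_and_pow_div_prime (by norm_num)
  · apply SDP.pow_two_mul_eq_one (n := 6) z_mul_z ρ_z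
    apply vK_injective
    rw [vK_pow_wd, vK_z]
    decide +kernel
  · intro p hp hd
    have hp' : p = 2 ∨ p = 3 := by
      have := (Nat.Prime.dvd_mul hp).1 (show p ∣ 4 * 3 from hd)
      rcases this with h | h
      · exact Or.inl ((Nat.prime_dvd_prime_iff_eq hp Nat.prime_two).1
          (hp.dvd_of_dvd_pow (n := 2) (by simpa using h)))
      · exact Or.inr ((Nat.prime_dvd_prime_iff_eq hp (by norm_num)).1 h)
    rcases hp' with rfl | rfl
    · exact r_ne (ne_one_of _ 6 (by decide +kernel))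
    · exact r_ne (ne_one_of _ 4 (by decide +kernel))

theorem exists_nine : ∃ a : H, orderOf a = 9 := by
  refine ⟨⟨(0, w0), wd [0, 1, 0, 1]⟩, ?_⟩
  have : Fact (Nat.Prime 3) := ⟨by norm_num⟩
  apply orderOf_eq_prime_pow (p := 3) (n := 1)
  · apply pow_ne_one (by norm_num)
    intro i h1 h2
    have h3 : i = 1 ∨ i = 2 := by omega
    rcases h3 with rfl | rfl
    · exact ⟨ne_one_of _ 1 (by decide +kernel), ne_z_of _ 1 (by decide +kernel)⟩
    · exact ⟨ne_one_of _ 2 (by decide +kernel), ne_z_of _ 2 (by decide +kernel)⟩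
  · apply SDP.pow_mul_eq_one (n := 3) (m := 3)
    · apply vK_injective
      rw [vK_pow_wd, map_one]
      decide +kernel
    · apply Prod.ext
      · change 3 • (_ ^ 3 : H).l.1 = 0
        rw [pow_fst]
        change 3 • (_ *ᵥ (0 : Fin 4 → ZMod 7)) = 0
        rw [Matrix.mulVec_zero, smul_zero]
      · exact three_W _

theorem exists_fifteen : ∃ a : H, orderOf a = 15 := by
  refine ⟨⟨(0, w0), wd [0, 1, 2, 3, 0, 1, 2, 3]⟩, ?_⟩
  apply orderOf_eq_of_pow_and_pow_div_prime (by norm_num)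
  · apply SDP.pow_mul_eq_one (n := 5) (m := 3)
    · apply vK_injective
      rw [vK_pow_wd, map_one]
      decide +kernel
    · apply Prod.ext
      · change 3 • (_ ^ 5 : H).l.1 = 0
        rw [pow_fst]
        change 3 • (_ *ᵥ (0 : Fin 4 → ZMod 7)) = 0
        rw [Matrix.mulVec_zero, smul_zero]
      · exact three_W _
  · intro p hp hd
    have hp' : p = 3 ∨ p = 5 := by
      have := (Nat.Prime.dvd_mul hp).1 (show p ∣ 3 * 5 from hd)
      rcases this with h | h
      · exact Or.inl ((Nat.prime_dvd_prime_iff_eq hp (by norm_num)).1 h)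
      · exact Or.inr ((Nat.prime_dvd_prime_iff_eq hp (by norm_num)).1 h)
    rcases hp' with rfl | rfl
    · apply pow_ne_one (by norm_num)
      intro i h1 h2
      have h3 : i = 1 ∨ i = 2 ∨ i = 3 ∨ i = 4 := by omega
      rcases h3 with rfl | rfl | rfl | rfl
      · exact ⟨ne_one_of _ 1 (by decide +kernel), ne_z_of _ 1 (by decide +kernel)⟩
      · exact ⟨ne_one_of _ 2 (by decide +kernel), ne_z_of _ 2 (by decide +kernel)⟩
      · exact ⟨ne_one_of _ 3 (by decide +kernel), ne_z_of _ 3 (by decide +kernel)⟩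
      · exact ⟨ne_one_of _ 4 (by decide +kernel), ne_z_of _ 4 (by decide +kernel)⟩
    · exact r_ne (ne_one_of _ 3 (by decide +kernel))

/-- The element of order 21. -/
noncomputable def e21 : H := ⟨((fun _ => 1), w0), 1⟩

theorem e21_pow (n : ℕ) : (e21 ^ n).l = n • e21.l := by
  rw [SDP.pow_l]
  have : ∀ i ∈ Finset.range n, ρ (e21.r ^ i) e21.l = e21.l := by
    intro i _
    have h1 : e21.r = 1 := rfl
    rw [h1, one_pow, map_one]; rfl
  rw [Finset.sum_congr rfl this, Finset.sum_const, Finset.card_range]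

theorem e21_ne (n : ℕ) (h : e21 ^ n = 1) : ((n : ℕ) : ZMod 7) = 0 ∧ ((n : ℕ) : ZMod 3) = 0 := by
  have h1 := congrArg SDP.l h
  rw [e21_pow, SDP.one_l] at h1
  constructor
  · have h2 : n • e21.l.1 = 0 := congrArg Prod.fst h1
    have h3 : n • (e21.l.1 0) = 0 := congrFun h2 0
    have h4 : e21.l.1 0 = 1 := rfl
    rw [h4, nsmul_eq_mul, mul_one] at h3
    exact h3
  · have h2 : n • e21.l.2 = 0 := congrArg Prod.snd h1
    have h3 : n • (e21.l.2.1 1) = 0 := congrArg (fun w : W => w.1 1) h2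
    have h4 : e21.l.2.1 1 = 1 := w0_one
    rw [h4, nsmul_eq_mul, mul_one] at h3
    exact h3

theorem exists_twentyone : ∃ a : H, orderOf a = 21 := by
  refine ⟨e21, ?_⟩
  apply orderOf_eq_of_pow_and_pow_div_prime (by norm_num)
  · apply SDP.ext
    · exact (e21_pow 21).trans (twentyone_Mod e21.l)
    · rw [SDP.pow_r]
      exact one_pow _
  · intro p hp' hd
    have hp'' : p = 3 ∨ p = 7 := by
      have := (Nat.Prime.dvd_mul hp').1 (show p ∣ 3 * 7 from hd)
      rcases this with h | h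
      · exact Or.inl ((Nat.prime_dvd_prime_iff_eq hp' (by norm_num)).1 h)
      · exact Or.inr ((Nat.prime_dvd_prime_iff_eq hp' (by norm_num)).1 h)
    rcases hp'' with rfl | rfl
    · intro h
      exact absurd (e21_ne _ h).2 (by decide)
    · intro h
      exact absurd (e21_ne _ h).1 (by decide)

theorem range_H : Set.range (orderOf : H → ℕ) = {n | n ∈ [1, 2, 3, 4, 5, 6, 7, 8, 9, 10, 12, 15, 21]} := by
  have hdvd : ∀ N n : ℕ, (∃ a : H, orderOf a = N) → n ∣ N → N ≠ 0 → n ∈ Set.range (orderOf : H → ℕ) := by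
    rintro N n ⟨a, ha⟩ ⟨m, hm⟩ hN
    refine ⟨a ^ m, ?_⟩
    have hm0 : m ≠ 0 := by rintro rfl; exact hN (by rw [hm, mul_zero])
    rw [orderOf_pow_of_dvd hm0 (by rw [ha, hm]; exact dvd_mul_left m n), ha, hm,
      Nat.mul_div_cancel _ (Nat.pos_of_ne_zero hm0)]
  ext n
  constructor
  · rintro ⟨a, rfl⟩
    exact orderOf_mem a
  · intro hn
    change n ∈ [1, 2, 3, 4, 5, 6, 7, 8, 9, 10, 12, 15, 21] at hn
    simp only [List.mem_cons, List.not_mem_nil, or_false] at hn
    rcases hn with rfl | rfl | rfl | rfl | rfl | rfl | rfl | rfl | rfl | rfl | rfl | rfl | rfl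
    · exact hdvd 8 _ exists_eight (by norm_num) (by norm_num)
    · exact hdvd 8 _ exists_eight (by norm_num) (by norm_num)
    · exact hdvd 9 _ exists_nine (by norm_num) (by norm_num)
    · exact hdvd 8 _ exists_eight (by norm_num) (by norm_num)
    · exact hdvd 10 _ exists_ten (by norm_num) (by norm_num)
    · exact hdvd 12 _ exists_twelve (by norm_num) (by norm_num)
    · exact hdvd 21 _ exists_twentyone (by norm_num) (by norm_num)
    · exact hdvd 8 _ exists_eight (by norm_num) (by norm_num)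
    · exact hdvd 9 _ exists_nine (by norm_num) (by norm_num)
    · exact hdvd 10 _ exists_ten (by norm_num) (by norm_num)
    · exact hdvd 12 _ exists_twelve (by norm_num) (by norm_num)
    · exact hdvd 15 _ exists_fifteen (by norm_num) (by norm_num)
    · exact hdvd 21 _ exists_twentyone (by norm_num) (by norm_num)

end Cfsg.Agent.H380.IsoTen
end

-- part: S3489
section
set_option autoImplicit false
open Cfsg

namespace Cfsg.Agent.S3489

/-- The alternating group of degree 10 is not determined by its set of element orders, not even up to finitely many groups: for every bound N there is a finite group of order greater than N with exactly the same set of element orders as the alternating group of degree 10. -/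
theorem result (N : ℕ) : ∃ (H : Type) (_ : Group H) (_ : Fintype H), N < Fintype.card H ∧ Set.range (orderOf : H → ℕ) = Set.range (orderOf : alternatingGroup (Fin 10) → ℕ) := by
  rw [Cfsg.Agent.H380.AltSpec.range_ten, ← Cfsg.Agent.H380.IsoTen.range_H]
  have hfinK : Finite Cfsg.Agent.H380.TwoS5.K := inferInstance
  have hfinM : Finite Cfsg.Agent.H380.IsoTen.Mod := inferInstance
  have hfin : Finite Cfsg.Agent.H380.IsoTen.H := inferInstance
  have : Nontrivial Cfsg.Agent.H380.IsoTen.Mod := by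
    refine ⟨⟨((fun _ => 1), 0), 0, ?_⟩⟩
    intro h
    have h1 : (1 : ZMod 7) = 0 := congrFun (congrArg Prod.fst h) 0
    exact absurd h1 (by decide)
  exact Cfsg.Agent.S3444.result (Cfsg.Agent.H380.SDP.proj Cfsg.Agent.H380.IsoTen.ρ).ker
    Cfsg.Agent.H380.SDP.ker_ne_bot Cfsg.Agent.H380.SDP.ker_solvable N

end Cfsg.Agent.S3489
end
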