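import Cfsg.Agent.H386.Factor
import Cfsg.Agent.H386.PrimTools
import Cfsg.Agent.H395.Jordan
import Cfsg.Agent.SolvableStructure.HallConverse
import Cfsg.Statements.S3520
set_option linter.all false

-- part: H386/TwoDer
section
/-!
Primitive groups which are not almost simple with exactly two classes of derangements.
-/

set_option autoImplicit false

namespace Cfsg.Agent.H386.TwoDer

open MulAction
open scoped Pointwise commutatorElement
open Cfsg.Agent.H386.Factor Cfsg.Agent.H386.PrimTools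

universe u v

variable {G : Type u} [Group G]

/-- A simple factor is not solvable. -/
theorem not_solvable_of_factor {N T : Subgroup G} (hT : IsFactor N T) :
    ¬ Group.IsSolvable T := by
  intro hsol
  have hne : commutator T ≠ ⊤ := by
    have hnt : Nontrivial T := (Subgroup.nontrivial_iff_ne_bot _).2 hT.ne_bot
    exact (Group.IsSolvable.commutator_lt_top_of_nontrivial (G := T)).ne
  rcases hT.simple ((commutator T).map T.subtype) (by
    rintro _ ⟨x, _, rfl⟩
    exact x.2) (by
    rintro t ht _ ⟨x, hx, rfl⟩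
    exact ⟨⟨t, ht⟩ * x * ⟨t, ht⟩⁻¹, (inferInstance : (commutator T).Normal).conj_mem x hx _,
      rfl⟩) with h | h
  · apply hT.ne_bot
    rw [Subgroup.eq_bot_iff_forall]
    intro z hz
    apply hT.centerless z hz
    intro t ht
    have h1 : ⁅(⟨z, hz⟩ : T), ⟨t, ht⟩⁆ ∈ commutator T :=
      Subgroup.commutator_mem_commutator (Subgroup.mem_top _) (Subgroup.mem_top _)
    have h2 : (⁅(⟨z, hz⟩ : T), ⟨t, ht⟩⁆ : T).1 ∈ (commutator T).map T.subtype := ⟨_, h1, rfl⟩
    rw [h, Subgroup.mem_bot] at h2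
    have h3 : ⁅z, t⁆ = 1 := h2
    exact commutatorElement_eq_one_iff_mul_comm.1 h3
  · apply hne
    rw [Subgroup.eq_top_iff']
    intro x
    have h1 : x.1 ∈ (commutator T).map T.subtype := by rw [h]; exact x.2
    obtain ⟨y, hy, hyx⟩ := h1
    have h2 : y = x := Subtype.ext hyx
    rw [← h2]
    exact hy

/-- A simple factor contains elements of three distinct prime orders. -/
theorem exists_three_primes [Finite G] {N T : Subgroup G} (hT : IsFactor N T) :
    ∃ x ∈ T, ∃ y ∈ T, ∃ z ∈ T, (orderOf x).Prime ∧ (orderOf y).Prime ∧ (orderOf z).Prime ∧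
      orderOf x ≠ orderOf y ∧ orderOf y ≠ orderOf z ∧ orderOf x ≠ orderOf z := by
  have h1 : 2 < (Nat.card T).primeFactors.card := by
    by_contra hcon
    exact not_solvable_of_factor hT
      (Cfsg.Agent.SolvableStructure.HallConverse.isSolvable_of_no_three_primes (by omega))
  obtain ⟨p, q, r, hp, hq, hr, hpq, hpr, hqr⟩ := Finset.two_lt_card_iff.1 h1
  have key : ∀ p ∈ (Nat.card T).primeFactors, ∃ x ∈ T, orderOf x = p := by
    intro p hp
    have : Fact p.Prime := ⟨Nat.prime_of_mem_primeFactors hp⟩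
    obtain ⟨x, hx⟩ := exists_prime_orderOf_dvd_card' (G := T) p (Nat.dvd_of_mem_primeFactors hp)
    exact ⟨x.1, x.2, by rw [Subgroup.orderOf_coe]; exact hx⟩
  obtain ⟨x, hx, hxp⟩ := key p hp
  obtain ⟨y, hy, hyq⟩ := key q hq
  obtain ⟨z, hz, hzr⟩ := key r hr
  refine ⟨x, hx, y, hy, z, hz, ?_, ?_, ?_, ?_, ?_, ?_⟩
  · rw [hxp]; exact Nat.prime_of_mem_primeFactors hp
  · rw [hyq]; exact Nat.prime_of_mem_primeFactors hq
  · rw [hzr]; exact Nat.prime_of_mem_primeFactors hr
  · rw [hxp, hyq]; exact hpq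
  · rw [hyq, hzr]; exact hqr
  · rw [hxp, hzr]; exact hpr

theorem orderOf_eq_of_isConj {x y : G} (h : IsConj x y) : orderOf x = orderOf y := by
  obtain ⟨c, hc⟩ := isConj_iff.1 h
  rw [← hc]
  exact (orderOf_injective (MulAut.conj c).toMonoidHom (MulAut.conj c).injective x).symm

/-- Pigeonhole for classes. -/
theorem isConj_of_card_two {P : G → Prop}
    (hκ : Nat.card {c : ConjClasses G // ∃ g : G, ConjClasses.mk g = c ∧ P g} = 2)
    {x y z : G} (hx : P x) (hy : P y) (hz : P z) : IsConj x y ∨ IsConj y z ∨ IsConj x z := by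
  classical
  have hfin : Finite {c : ConjClasses G // ∃ g : G, ConjClasses.mk g = c ∧ P g} :=
    Nat.finite_of_card_ne_zero (by rw [hκ]; omega)
  by_contra hcon
  push Not at hcon
  obtain ⟨h1, h2, h3⟩ := hcon
  let f : Fin 3 → {c : ConjClasses G // ∃ g : G, ConjClasses.mk g = c ∧ P g} :=
    ![⟨ConjClasses.mk x, x, rfl, hx⟩, ⟨ConjClasses.mk y, y, rfl, hy⟩, ⟨ConjClasses.mk z, z, rfl, hz⟩]
  have hinj : Function.Injective f := by
    have e1 : ConjClasses.mk x ≠ ConjClasses.mk y := fun h => h1 (ConjClasses.mk_eq_mk_iff_isConj.1 h)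
    have e2 : ConjClasses.mk y ≠ ConjClasses.mk z := fun h => h2 (ConjClasses.mk_eq_mk_iff_isConj.1 h)
    have e3 : ConjClasses.mk x ≠ ConjClasses.mk z := fun h => h3 (ConjClasses.mk_eq_mk_iff_isConj.1 h)
    intro i j hij
    have hij' := congrArg Subtype.val hij
    fin_cases i <;> fin_cases j
    · rfl
    · exact absurd hij' e1
    · exact absurd hij' e3
    · exact absurd hij'.symm e1
    · rfl
    · exact absurd hij' e2
    · exact absurd hij'.symm e3
    · exact absurd hij'.symm e2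
    · rfl
  have h4 := Nat.card_le_card_of_injective f hinj
  rw [hκ, Nat.card_fin] at h4
  omega

section Main

variable {Ω : Type v} [MulAction G Ω] [Finite G] [Finite Ω] [FaithfulSMul G Ω]
  [IsPreprimitive G Ω] [Nontrivial Ω]

omit [Finite Ω] [Nontrivial Ω] in
/-- A primitive group with a non-abelian minimal normal subgroup which is not almost simple has
at least three classes of derangements. -/
theorem false_of_nonabelian
    (hnas : ¬ ∃ T : Subgroup G, T.Normal ∧ IsSimpleGroup T ∧ ¬ IsMulCommutative T ∧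
      Subgroup.centralizer (T : Set G) = ⊥)
    (hκ : Nat.card {c : ConjClasses G // ∃ g : G, ConjClasses.mk g = c ∧ ∀ ω : Ω, g • ω ≠ ω} = 2)
    (N : Subgroup G) [hN : N.Normal] (hN0 : N ≠ ⊥)
    (hmin : ∀ M : Subgroup G, M.Normal → M ≤ N → M = ⊥ ∨ M = N)
    (hna : ¬ ∀ x ∈ N, ∀ y ∈ N, Commute x y) : False := by
  classical
  obtain ⟨T, hT⟩ := exists_factor N hmin hna
  have htr : ∀ α ω : Ω, ∃ n ∈ N, n • α = ω := fun α ω => exists_smul_eq_of_normal N hN0 α ω
  -- `T` is not semiregular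
  by_cases hsr : ∀ t ∈ T, t ≠ 1 → ∀ ω : Ω, t • ω ≠ ω
  · obtain ⟨x, hx, y, hy, z, hz, hxp, hyp, hzp, hxy, hyz, hxz⟩ := exists_three_primes hT
    have hne : ∀ w : G, (orderOf w).Prime → w ≠ 1 := by
      rintro w hw rfl
      rw [orderOf_one] at hw
      exact Nat.not_prime_one hw
    rcases isConj_of_card_two (P := fun g : G => ∀ ω : Ω, g • ω ≠ ω) hκ
      (hsr x hx (hne x hxp)) (hsr y hy (hne y hyp)) (hsr z hz (hne z hzp)) with h | h | h
    · exact hxy (orderOf_eq_of_isConj h)
    · exact hyz (orderOf_eq_of_isConj h)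
    · exact hxz (orderOf_eq_of_isConj h)
  push Not at hsr
  obtain ⟨t₀, ht₀, ht₀1, α, ht₀α⟩ := hsr
  have hfixinv : ∀ g ∈ stabilizer G α, g⁻¹ • α = α := fun g hg => by
    rw [inv_smul_eq_iff]; exact (mem_stabilizer_iff.1 hg).symm
  -- `T` is not normal
  have hTn : ¬ T.Normal := by
    intro hTn
    have hTN : T = N := (hmin T hTn hT.le).resolve_left hT.ne_bot
    subst hTN
    apply hnas
    refine ⟨T, hTn, ?_, ?_, ?_⟩
    · have hTnt : Nontrivial T := (Subgroup.nontrivial_iff_ne_bot _).2 hT.ne_bot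
      refine { eq_bot_or_eq_top_of_normal := fun K hK => ?_ }
      rcases hT.simple (K.map T.subtype) (by
        rintro _ ⟨x, _, rfl⟩
        exact x.2) (by
        rintro t ht _ ⟨x, hx, rfl⟩
        exact ⟨⟨t, ht⟩ * x * ⟨t, ht⟩⁻¹, hK.conj_mem x hx _, rfl⟩) with h | h
      · left
        rwa [Subgroup.map_eq_bot_iff_of_injective _ T.subtype_injective] at h
      · right
        rw [Subgroup.eq_top_iff']
        intro x
        have h1 : x.1 ∈ K.map T.subtype := by rw [h]; exact x.2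
        obtain ⟨y, hy, hyx⟩ := h1
        have h2 : y = x := Subtype.ext hyx
        rw [← h2]
        exact hy
    · intro hc
      apply hna
      intro x hx y hy
      exact congrArg Subtype.val (hc.is_comm.comm (⟨x, hx⟩ : T) ⟨y, hy⟩)
    · by_contra hC
      have hCn : (Subgroup.centralizer (T : Set G)).Normal := Subgroup.normal_centralizer
      apply ht₀1
      apply eq_one_of_commute (Subgroup.centralizer (T : Set G))
        (α := α) (fun ω => exists_smul_eq_of_normal _ hC α ω) _ ht₀α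
      intro m hm
      exact Subgroup.mem_centralizer_iff.1 hm t₀ ht₀
  obtain ⟨g₀, hg₀T⟩ : ∃ g : G, ¬ ∀ t ∈ T, g * t * g⁻¹ ∈ T := by
    by_contra hcon
    push Not at hcon
    exact hTn ⟨fun t ht g => hcon g t ht⟩
  have hg₀c := (hT.conj g₀).resolve_left hg₀T
  -- `T` does not fix `α`
  have hTα : ¬ T ≤ stabilizer G α := by
    intro h
    -- an element of `T` fixing `α` fixes everything
    obtain ⟨t, ht, ht1⟩ : ∃ t ∈ T, t ≠ 1 := ⟨t₀, ht₀, ht₀1⟩
    apply ht1
    apply FaithfulSMul.eq_of_smul_eq_smul (α := Ω)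
    intro ω
    obtain ⟨n, hn, rfl⟩ := htr α ω
    have h1 := h (hT.norm n⁻¹ (N.inv_mem hn) t ht)
    rw [inv_inv, mem_stabilizer_iff, mul_smul, mul_smul, inv_smul_eq_iff] at h1
    rw [h1, one_smul]
  -- the projection of the stabilizer
  let P : Subgroup T :=
    { carrier := {x | ∃ c ∈ N, (∀ t ∈ T, c * t = t * c) ∧ (x.1 * c) • α = α}
      one_mem' := ⟨1, N.one_mem, fun t _ => by simp, by simp⟩
      mul_mem' := by
        rintro x y ⟨c, hc, hcT, hxc⟩ ⟨d, hd, hdT, hyd⟩
        refine ⟨c * d, N.mul_mem hc hd, fun t ht => ?_, ?_⟩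
        · rw [mul_assoc, hdT t ht, ← mul_assoc, hcT t ht, mul_assoc]
        · have h1 : (x * y).1 * (c * d) = (x.1 * c) * (y.1 * d) := by
            have h2 := hcT y.1 y.2
            rw [mul_assoc x.1 c, ← mul_assoc c y.1, h2, Subgroup.coe_mul]
            group
          rw [h1, mul_smul, hyd, hxc]
      inv_mem' := by
        rintro x ⟨c, hc, hcT, hxc⟩
        refine ⟨c⁻¹, N.inv_mem hc, fun t ht => ?_, ?_⟩
        · have h2 := hcT t ht
          rw [inv_mul_eq_iff_eq_mul, ← mul_assoc, h2, mul_inv_cancel_right]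
        · have h1 : (x⁻¹).1 * c⁻¹ = (x.1 * c)⁻¹ := by
            rw [mul_inv_rev, Subgroup.coe_inv]
            have h2 : Commute c x.1⁻¹ := hcT x.1⁻¹ (T.inv_mem x.2)
            exact h2.inv_left.eq.symm
          rw [h1, inv_smul_eq_iff, hxc] }
  have hPdef : ∀ x : T, x ∈ P ↔ ∃ c ∈ N, (∀ t ∈ T, c * t = t * c) ∧ (x.1 * c) • α = α :=
    fun x => Iff.rfl
  -- it is a proper subgroup
  have hPtop : P ≠ ⊤ := by
    intro hP
    rcases hT.simple (T ⊓ stabilizer G α) inf_le_left (by
      rintro x hx s hs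
      obtain ⟨hs1, hs2⟩ := Subgroup.mem_inf.1 hs
      have hxP : (⟨x, hx⟩ : T) ∈ P := hP ▸ Subgroup.mem_top _
      obtain ⟨c, hc, hcT, hxc⟩ := (hPdef _).1 hxP
      refine Subgroup.mem_inf.2 ⟨T.mul_mem (T.mul_mem hx hs1) (T.inv_mem hx), ?_⟩
      have h1 : x * s * x⁻¹ = (x * c) * s * (x * c)⁻¹ := by
        have h2 : x * c * s * (x * c)⁻¹ = x * (c * s) * c⁻¹ * x⁻¹ := by group
        rw [h2, hcT s hs1]
        group
      rw [h1]
      exact (stabilizer G α).mul_mem ((stabilizer G α).mul_mem hxc hs2)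
        ((stabilizer G α).inv_mem hxc)) with h | h
    · apply ht₀1
      have h1 : t₀ ∈ T ⊓ stabilizer G α := Subgroup.mem_inf.2 ⟨ht₀, ht₀α⟩
      rwa [h, Subgroup.mem_bot] at h1
    · apply hTα
      rw [← h]
      exact inf_le_right
  obtain ⟨⟨t, ht⟩, htP⟩ := Cfsg.Agent.H395.Jordan.exists_not_conj_mem hPtop
  -- the products `t c` are derangements
  have hder : ∀ c ∈ N, (∀ u ∈ T, c * u = u * c) → ∀ ω : Ω, (t * c) • ω ≠ ω := by
    intro c hc hcT ω h
    obtain ⟨n, hn, rfl⟩ := htr α ω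
    obtain ⟨x, hx, d, hd, hdT, rfl⟩ := hT.split n hn
    apply htP ⟨x, hx⟩
    refine ⟨d⁻¹ * c * d, N.mul_mem (N.mul_mem (N.inv_mem hd) hc) hd, fun u hu => ?_, ?_⟩
    · have e1 : Commute d u := hdT u hu
      have e2 : Commute c u := hcT u hu
      exact ((e1.inv_left.mul_left e2).mul_left e1).eq
    · have h1 : (x * d)⁻¹ • (t * c) • (x * d) • α = α := by
        rw [h, inv_smul_smul]
      rw [← mul_smul, ← mul_smul] at h1
      have e1 : Commute d⁻¹ (x⁻¹ * t * x) := by
        have e3 : Commute d (x⁻¹ * t * x) := hdT _ (T.mul_mem (T.mul_mem (T.inv_mem hx) ht) hx)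
        exact e3.inv_left
      have e2 : c * x = x * c := hcT x hx
      have h2 : (x * d)⁻¹ * (t * c) * (x * d) = x⁻¹ * t * x * (d⁻¹ * c * d) := by
        have h3 : (x * d)⁻¹ * (t * c) * (x * d) = d⁻¹ * (x⁻¹ * t * (c * x)) * d := by group
        rw [h3, e2]
        have h4 : d⁻¹ * (x⁻¹ * t * (x * c)) * d = (d⁻¹ * (x⁻¹ * t * x)) * (c * d) := by group
        rw [h4, e1.eq]
        group
      have h5 : ((⟨x, hx⟩ : T)⁻¹ * ⟨t, ht⟩ * ⟨x, hx⟩ : T).1 = x⁻¹ * t * x := rfl
      rw [h5, ← h2]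
      exact h1
  have ht1 : t ≠ 1 := by
    rintro rfl
    have h1 := hder 1 N.one_mem (fun u _ => by simp) α
    simp at h1
  -- elements of the other factor of distinct prime orders
  obtain ⟨x, hx, y, hy, -, -, hxp, hyp, -, hxy, -, -⟩ := exists_three_primes hT
  have hcent : ∀ z ∈ T, ∀ u ∈ T, g₀ * z * g₀⁻¹ * u = u * (g₀ * z * g₀⁻¹) := fun z hz u hu =>
    (hg₀c u hu z hz).symm
  have hcN : ∀ z ∈ T, g₀ * z * g₀⁻¹ ∈ N := fun z hz => hN.conj_mem z (hT.le hz) g₀
  have hordc : ∀ z : G, orderOf (g₀ * z * g₀⁻¹) = orderOf z := fun z =>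
    orderOf_injective (MulAut.conj g₀).toMonoidHom (MulAut.conj g₀).injective z
  have hne1 : ∀ z : G, (orderOf z).Prime → z ≠ 1 := by
    rintro w hw rfl
    rw [orderOf_one] at hw
    exact Nat.not_prime_one hw
  -- uniqueness of the decomposition
  have huniq : ∀ a ∈ T, ∀ b ∈ T, ∀ c d : G, (∀ u ∈ T, c * u = u * c) → (∀ u ∈ T, d * u = u * d) →
      a * c = b * d → a = b ∧ c = d := by
    intro a ha b hb c d hc hd h
    have h1 : b⁻¹ * a = d * c⁻¹ := by
      rw [inv_mul_eq_iff_eq_mul, ← mul_assoc, ← h, mul_inv_cancel_right]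
    have h2 : b⁻¹ * a = 1 := by
      apply hT.centerless _ (T.mul_mem (T.inv_mem hb) ha)
      intro u hu
      rw [h1]
      have e1 : Commute d u := hd u hu
      have e2 : Commute c u := hc u hu
      exact (e1.mul_left e2.inv_left).eq
    have h3 : a = b := (inv_mul_eq_one.1 h2).symm
    refine ⟨h3, ?_⟩
    rw [h3] at h
    exact mul_left_cancel h
  -- conjugates of `t` are not conjugates of `t c`
  have hnc : ∀ z ∈ T, z ≠ 1 → ¬ IsConj t (t * (g₀ * z * g₀⁻¹)) := by
    intro z hz hz1 h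
    obtain ⟨k, hk⟩ := isConj_iff.1 h
    rcases hT.conj k with h1 | h1
    · obtain ⟨-, h2⟩ := huniq _ (h1 t ht) t ht 1 (g₀ * z * g₀⁻¹) (fun u _ => by simp)
        (hcent z hz) (by rw [mul_one]; exact hk)
      apply hz1
      have h3 : z = g₀⁻¹ * (g₀ * z * g₀⁻¹) * g₀ := by group
      rw [h3, ← h2]
      group
    · obtain ⟨h2, -⟩ := huniq 1 T.one_mem t ht (k * t * k⁻¹) (g₀ * z * g₀⁻¹)
        (fun u hu => (h1 u hu t ht).symm) (hcent z hz) (by rw [one_mul]; exact hk)
      exact ht1 h2.symm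
  have hconj : IsConj (t * (g₀ * x * g₀⁻¹)) (t * (g₀ * y * g₀⁻¹)) := by
    rcases isConj_of_card_two (P := fun g : G => ∀ ω : Ω, g • ω ≠ ω) hκ
      (x := t) (y := t * (g₀ * x * g₀⁻¹)) (z := t * (g₀ * y * g₀⁻¹))
      (by
        have := hder 1 N.one_mem (fun u _ => by simp)
        simpa using this) (hder _ (hcN x hx) (hcent x hx)) (hder _ (hcN y hy) (hcent y hy))
      with h | h | h
    · exact absurd h (hnc x hx (hne1 x hxp))
    · exact h
    · exact absurd h (hnc y hy (hne1 y hyp))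
  obtain ⟨k, hk⟩ := isConj_iff.1 hconj
  have hk' : (k * t * k⁻¹) * (k * (g₀ * x * g₀⁻¹) * k⁻¹) = t * (g₀ * y * g₀⁻¹) := by
    rw [← hk]; group
  have hordk : ∀ z : G, orderOf (k * z * k⁻¹) = orderOf z := fun z =>
    orderOf_injective (MulAut.conj k).toMonoidHom (MulAut.conj k).injective z
  have hkg : k * (g₀ * x * g₀⁻¹) * k⁻¹ = (k * g₀) * x * (k * g₀)⁻¹ := by group
  rcases hT.conj k with h1 | h1
  · -- `k` normalizes `T`
    have h2 : ∀ u ∈ T, k * (g₀ * x * g₀⁻¹) * k⁻¹ * u = u * (k * (g₀ * x * g₀⁻¹) * k⁻¹) := by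
      rw [hkg]
      rcases hT.conj (k * g₀) with h3 | h3
      · exfalso
        -- then `g₀` normalizes `T`
        apply hg₀T
        have hle : T.map (MulAut.conj k).toMonoidHom ≤ T := by
          rintro _ ⟨y, hy, rfl⟩
          exact h1 y hy
        have hEq : T.map (MulAut.conj k).toMonoidHom = T := by
          apply Subgroup.eq_of_le_of_card_ge hle
          rw [Subgroup.card_map_of_injective (MulAut.conj k).injective]
        intro u hu
        have h4 := h3 u hu
        rw [← hEq] at h4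
        obtain ⟨v, hv, hvu⟩ := h4
        have h5 : k * v * k⁻¹ = k * g₀ * u * (k * g₀)⁻¹ := hvu
        have h6 : g₀ * u * g₀⁻¹ = v := by
          have : g₀ * u * g₀⁻¹ = k⁻¹ * (k * g₀ * u * (k * g₀)⁻¹) * k := by group
          rw [this, ← h5]
          group
        rw [h6]
        exact hv
      · intro u hu
        exact (h3 u hu x hx).symm
    obtain ⟨-, h3⟩ := huniq _ (h1 t ht) t ht _ _ h2 (hcent y hy) hk'
    apply hxy
    have h4 := congrArg orderOf h3
    rw [hordk, hordc, hordc] at h4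
    exact h4
  · -- `k` moves `T`
    rcases hT.conj (k * g₀) with h3 | h3
    · have hkt : ∀ u ∈ T, k * t * k⁻¹ * u = u * (k * t * k⁻¹) := fun u hu => (h1 u hu t ht).symm
      have hkx : k * (g₀ * x * g₀⁻¹) * k⁻¹ ∈ T := by rw [hkg]; exact h3 x hx
      obtain ⟨h4, h5⟩ := huniq _ hkx t ht _ _ hkt (hcent y hy) (by
        rw [← hk', hkt _ hkx])
      apply hxy
      have h6 := congrArg orderOf h4
      have h7 := congrArg orderOf h5
      rw [hordk, hordc] at h6
      rw [hordk, hordc] at h7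
      rw [h6, h7]
    · have hkt : ∀ u ∈ T, k * t * k⁻¹ * u = u * (k * t * k⁻¹) := fun u hu => (h1 u hu t ht).symm
      have hkx : ∀ u ∈ T, k * (g₀ * x * g₀⁻¹) * k⁻¹ * u = u * (k * (g₀ * x * g₀⁻¹) * k⁻¹) := by
        intro u hu
        rw [hkg]
        exact (h3 u hu x hx).symm
      obtain ⟨h4, -⟩ := huniq 1 T.one_mem t ht
        ((k * t * k⁻¹) * (k * (g₀ * x * g₀⁻¹) * k⁻¹)) (g₀ * y * g₀⁻¹)
        (fun u hu => by
          have e1 : Commute (k * t * k⁻¹) u := hkt u hu
          have e2 : Commute (k * (g₀ * x * g₀⁻¹) * k⁻¹) u := hkx u hu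
          exact (e1.mul_left e2).eq) (hcent y hy) (by rw [one_mul]; exact hk')
      exact ht1 h4.symm

omit [Finite G] [FaithfulSMul G Ω] [IsPreprimitive G Ω] in
/-- In a transitive group with regular normal subgroup `N` the elements outside `N` have one
fixed point on average. -/
theorem sum_fixed_outside [Fintype G] (N : Subgroup G) [DecidablePred (· ∈ N)]
    (htr : ∀ α ω : Ω, ∃ n ∈ N, n • α = ω)
    (hreg : ∀ (n : G), n ∈ N → ∀ ω : Ω, n • ω = ω → n = 1) :
    ∑ g ∈ (Finset.univ : Finset G).filter (fun g => ¬ g ∈ N), Nat.card (fixedBy Ω g) =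
      ((Finset.univ : Finset G).filter (fun g => ¬ g ∈ N)).card := by
  classical
  have : Fintype Ω := Fintype.ofFinite Ω
  have hne : Nonempty Ω := inferInstance
  have horb : Fintype.card (orbitRel.Quotient G Ω) = 1 := by
    have hsub : Subsingleton (orbitRel.Quotient G Ω) := by
      refine ⟨fun a b => ?_⟩
      induction a using Quotient.inductionOn'
      induction b using Quotient.inductionOn'
      rename_i a b
      refine Quotient.sound' ?_
      obtain ⟨g, -, hg⟩ := htr b a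
      exact ⟨g, hg⟩
    have hnon : Nonempty (orbitRel.Quotient G Ω) := by
      obtain ⟨x⟩ := hne
      exact ⟨Quotient.mk'' x⟩
    exact Fintype.card_eq_one_iff_nonempty_unique.mpr
      ⟨⟨⟨hnon.some⟩, fun _ => Subsingleton.elim _ _⟩⟩
  have hb := sum_card_fixedBy_eq_card_orbits_mul_card_group G Ω
  rw [horb, one_mul] at hb
  have hb' : ∑ g : G, Nat.card (fixedBy Ω g) = Fintype.card G := by
    rw [← hb]
    refine Finset.sum_congr rfl fun g _ => ?_
    rw [Nat.card_eq_fintype_card]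
  obtain ⟨α⟩ := hne
  have hcardN : Nat.card N = Nat.card Ω := by
    apply Nat.card_congr
    refine Equiv.ofBijective (fun n : N => n.1 • α) ⟨fun x y h => ?_, fun ω => ?_⟩
    · have h' : x.1 • α = y.1 • α := h
      have h1 := hreg (y.1⁻¹ * x.1) (N.mul_mem (N.inv_mem y.2) x.2) α (by
        rw [mul_smul, h', inv_smul_smul])
      exact Subtype.ext (inv_mul_eq_one.1 h1).symm
    · obtain ⟨n, hn, h⟩ := htr α ω
      exact ⟨⟨n, hn⟩, h⟩
  have hN : ∑ g ∈ (Finset.univ : Finset G).filter (fun g => g ∈ N), Nat.card (fixedBy Ω g) =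
      Nat.card Ω := by
    rw [Finset.sum_eq_single 1]
    · apply Nat.card_congr
      exact ⟨fun x => x.1, fun x => ⟨x, one_smul G x⟩, fun _ => rfl, fun _ => rfl⟩
    · intro g hg hg1
      rw [Finset.mem_filter] at hg
      rw [Nat.card_eq_zero]
      left
      exact ⟨fun x => hg1 (hreg g hg.2 x.1 x.2)⟩
    · intro h
      exact absurd (Finset.mem_filter.2 ⟨Finset.mem_univ _, N.one_mem⟩) h
  have hNc : ((Finset.univ : Finset G).filter (fun g => g ∈ N)).card = Nat.card Ω := by
    rw [← hcardN, Nat.card_eq_fintype_card, Fintype.card_subtype]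
  have h1 := Finset.sum_filter_add_sum_filter_not (Finset.univ : Finset G) (fun g => g ∈ N)
    (fun g => Nat.card (fixedBy Ω g))
  have h2 := Finset.card_filter_add_card_filter_not (s := (Finset.univ : Finset G))
    (fun g => g ∈ N)
  rw [hb', hN] at h1
  rw [hNc, Finset.card_univ] at h2
  omega

/-- The affine case. -/
theorem affine_case
    (hκ : Nat.card {c : ConjClasses G // ∃ g : G, ConjClasses.mk g = c ∧ ∀ ω : Ω, g • ω ≠ ω} = 2)
    (N : Subgroup G) [hN : N.Normal] (hN0 : N ≠ ⊥)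
    (hab : ∀ x ∈ N, ∀ y ∈ N, Commute x y) (α : Ω) :
    ((∀ g : G, g ≠ 1 → Nat.card (fixedBy Ω g) ≤ 1) ∧ ¬ 2 ∣ Nat.card Ω ∧
      2 * Nat.card (stabilizer G α) = Nat.card Ω - 1) ∨
    (IsMultiplyPretransitive G Ω 2 ∧ ∃ g : G, g ≠ 1 ∧ 2 ≤ Nat.card (fixedBy Ω g)) := by
  classical
  have htr : ∀ α ω : Ω, ∃ n ∈ N, n • α = ω := fun α ω => exists_smul_eq_of_normal N hN0 α ω
  have hreg : ∀ (n : G), n ∈ N → ∀ ω : Ω, n • ω = ω → n = 1 := fun n hn ω h =>
    eq_one_of_commute N (α := ω) (htr ω) (fun m hm => (hab n hn m hm).eq) h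
  have hder : ∀ n ∈ N, n ≠ 1 → ∀ ω : Ω, n • ω ≠ ω := fun n hn hn1 ω h => hn1 (hreg n hn ω h)
  have huniq : ∀ ω : Ω, ∀ x ∈ N, ∀ y ∈ N, x • ω = y • ω → x = y := by
    intro ω x hx y hy h
    have h1 := hreg (y⁻¹ * x) (N.mul_mem (N.inv_mem hy) hx) ω (by
      rw [mul_smul, h, inv_smul_smul])
    exact (inv_mul_eq_one.1 h1).symm
  have hfixinv : ∀ g ∈ stabilizer G α, g⁻¹ • α = α := fun g hg => by
    rw [inv_smul_eq_iff]; exact (mem_stabilizer_iff.1 hg).symm
  have hact : ∀ g ∈ stabilizer G α, ∀ n : G, g • n • α = (g * n * g⁻¹) • α := by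
    intro g hg n
    rw [mul_smul, mul_smul, hfixinv g hg]
  -- conjugation in `N` is induced by the stabilizer
  have hconjst : ∀ x ∈ N, ∀ y ∈ N, IsConj x y → ∃ h ∈ stabilizer G α, h * x * h⁻¹ = y := by
    intro x hx y hy h
    obtain ⟨g, hg⟩ := isConj_iff.1 h
    obtain ⟨n, hn, hng⟩ := htr α (g • α)
    have h1 : n⁻¹ * g ∈ stabilizer G α := by
      rw [mem_stabilizer_iff, mul_smul, ← hng, inv_smul_smul]
    refine ⟨n⁻¹ * g, h1, ?_⟩
    have h2 : n⁻¹ * g * x * (n⁻¹ * g)⁻¹ = n⁻¹ * (g * x * g⁻¹) * n := by group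
    rw [h2, hg]
    have h3 := (hab n hn y hy).eq
    rw [mul_assoc, ← h3]
    group
  have : Fintype G := Fintype.ofFinite G
  have hsum := sum_fixed_outside (Ω := Ω) N htr hreg
  have hsum' : ∑ g ∈ (Finset.univ : Finset G).filter (fun g => ¬ g ∈ N), Nat.card (fixedBy Ω g) =
      ∑ g ∈ (Finset.univ : Finset G).filter (fun g => ¬ g ∈ N), 1 := by
    rw [hsum]; simp
  by_cases hone : ∀ x ∈ N, x ≠ 1 → ∀ y ∈ N, y ≠ 1 → IsConj x y
  · right
    have hst2 : ∀ x y : Ω, x ≠ α → y ≠ α → ∃ h ∈ stabilizer G α, h • x = y := by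
      intro x y hx hy
      obtain ⟨n, hn, rfl⟩ := htr α x
      obtain ⟨m, hm, rfl⟩ := htr α y
      have hn1 : n ≠ 1 := by rintro rfl; exact hx (one_smul _ _)
      have hm1 : m ≠ 1 := by rintro rfl; exact hy (one_smul _ _)
      obtain ⟨h, hh, hhn⟩ := hconjst n hn m hm (hone n hn hn1 m hm hm1)
      exact ⟨h, hh, by rw [hact h hh, hhn]⟩
    refine ⟨?_, ?_⟩
    · rw [is_two_pretransitive_iff]
      intro a b c d hab' hcd
      obtain ⟨k, -, hk⟩ := htr a α
      obtain ⟨l, -, hl⟩ := htr c α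
      obtain ⟨h, hh, hhb⟩ := hst2 (k • b) (l • d)
        (fun e => hab' (MulAction.injective k (hk.trans e.symm)))
        (fun e => hcd (MulAction.injective l (hl.trans e.symm)))
      refine ⟨l⁻¹ * h * k, ?_, ?_⟩
      · rw [mul_smul, mul_smul, hk, mem_stabilizer_iff.1 hh, ← hl, inv_smul_smul]
      · rw [mul_smul, mul_smul, hhb, inv_smul_smul]
    · by_contra hcon
      push Not at hcon
      -- all derangements lie in `N`
      have hall := (Finset.sum_eq_sum_iff_of_le (fun g hg => by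
        rw [Finset.mem_filter] at hg
        have h1 : g ≠ 1 := by rintro rfl; exact hg.2 N.one_mem
        have := hcon g h1
        omega)).1 hsum'
      have hDN : ∀ g : G, (∀ ω : Ω, g • ω ≠ ω) → g ∈ N := by
        intro g hg
        by_contra hgN
        have h1 := hall g (Finset.mem_filter.2 ⟨Finset.mem_univ _, hgN⟩)
        have h2 : Nat.card (fixedBy Ω g) = 0 := by
          rw [Nat.card_eq_zero]
          left
          exact ⟨fun x => hg x.1 x.2⟩
        omega
      have hsub : Subsingleton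
          {c : ConjClasses G // ∃ g : G, ConjClasses.mk g = c ∧ ∀ ω : Ω, g • ω ≠ ω} := by
        refine ⟨?_⟩
        rintro ⟨_, g, rfl, hg⟩ ⟨_, h, rfl, hh⟩
        apply Subtype.ext
        apply ConjClasses.mk_eq_mk_iff_isConj.2
        apply hone g (hDN g hg) _ h (hDN h hh)
        · rintro rfl; exact hh α (one_smul _ _)
        · rintro rfl; exact hg α (one_smul _ _)
      have h1 := Finite.card_le_one_iff_subsingleton.2 hsub
      omega
  · left
    push Not at hone
    obtain ⟨x, hx, hx1, y, hy, hy1, hxy⟩ := hone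
    have hDxy : ∀ g : G, (∀ ω : Ω, g • ω ≠ ω) → IsConj g x ∨ IsConj g y := by
      intro g hg
      rcases isConj_of_card_two (P := fun g : G => ∀ ω : Ω, g • ω ≠ ω) hκ
        hg (hder x hx hx1) (hder y hy hy1) with h | h | h
      · exact Or.inl h
      · exact absurd h hxy
      · exact Or.inr h
    have hDN : ∀ g : G, (∀ ω : Ω, g • ω ≠ ω) → g ∈ N := by
      intro g hg
      rcases hDxy g hg with h | h
      · obtain ⟨c, hc⟩ := isConj_iff.1 h.symm
        rw [← hc]
        exact hN.conj_mem x hx c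
      · obtain ⟨c, hc⟩ := isConj_iff.1 h.symm
        rw [← hc]
        exact hN.conj_mem y hy c
    have hall := (Finset.sum_eq_sum_iff_of_le (fun g hg => by
        rw [Finset.mem_filter] at hg
        by_contra hcon
        push Not at hcon
        have h0 : Nat.card (fixedBy Ω g) = 0 := by omega
        rw [Nat.card_eq_zero] at h0
        rcases h0 with h0 | h0
        · exact hg.2 (hDN g (fun ω hω => h0.false ⟨ω, hω⟩))
        · exact h0.not_finite inferInstance)).1 hsum'.symm
    have hle : ∀ g : G, g ≠ 1 → Nat.card (fixedBy Ω g) ≤ 1 := by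
      intro g hg1
      by_cases hgN : g ∈ N
      · have h2 : Nat.card (fixedBy Ω g) = 0 := by
          rw [Nat.card_eq_zero]
          left
          exact ⟨fun x => hder g hgN hg1 x.1 x.2⟩
        omega
      · exact (hall g (Finset.mem_filter.2 ⟨Finset.mem_univ _, hgN⟩)).symm.le
    refine ⟨hle, ?_⟩
    -- the stabilizer acts semiregularly
    have hsemi : ∀ h ∈ stabilizer G α, ∀ n ∈ N, n ≠ 1 → h * n * h⁻¹ = n → h = 1 := by
      intro h hh n hn hn1 hc
      by_contra hh1
      have h1 := hle h hh1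
      have h2 : h • n • α = n • α := by rw [hact h hh, hc]
      have h3 : (⟨n • α, h2⟩ : fixedBy Ω h) = ⟨α, hh⟩ :=
        (Finite.card_le_one_iff_subsingleton.1 h1).elim _ _
      exact hder n hn hn1 α (congrArg Subtype.val h3)
    let A : G → Finset G := fun x => (Finset.univ : Finset (stabilizer G α)).image
      (fun h => h.1 * x * h.1⁻¹)
    have hA : ∀ x ∈ N, x ≠ 1 → (A x).card = Nat.card (stabilizer G α) := by
      intro x hx hx1
      rw [Nat.card_eq_fintype_card, ← Finset.card_univ]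
      apply Finset.card_image_of_injective
      intro h k hhk
      have hhk' : h.1 * x * h.1⁻¹ = k.1 * x * k.1⁻¹ := hhk
      have h1 := hsemi (k.1⁻¹ * h.1) ((stabilizer G α).mul_mem ((stabilizer G α).inv_mem k.2) h.2)
        x hx hx1 (by
          have : k.1⁻¹ * h.1 * x * (k.1⁻¹ * h.1)⁻¹ = k.1⁻¹ * (h.1 * x * h.1⁻¹) * k.1 := by group
          rw [this, hhk']
          group)
      exact Subtype.ext (inv_mul_eq_one.1 h1).symm
    have hAmem : ∀ x z : G, z ∈ A x ↔ ∃ h ∈ stabilizer G α, h * x * h⁻¹ = z := by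
      intro x z
      simp only [A, Finset.mem_image, Finset.mem_univ, true_and]
      constructor
      · rintro ⟨h, rfl⟩
        exact ⟨h.1, h.2, rfl⟩
      · rintro ⟨h, hh, rfl⟩
        exact ⟨⟨h, hh⟩, rfl⟩
    have hdisj : Disjoint (A x) (A y) := by
      rw [Finset.disjoint_left]
      intro z hz1 hz2
      obtain ⟨h, -, h1⟩ := (hAmem x z).1 hz1
      obtain ⟨k, -, h2⟩ := (hAmem y z).1 hz2
      exact hxy ((isConj_iff.2 ⟨h, h1⟩).trans (isConj_iff.2 ⟨k, h2⟩).symm)
    have hunion : A x ∪ A y = ((Finset.univ : Finset G).filter (fun g => g ∈ N)).erase 1 := by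
      ext z
      rw [Finset.mem_union, hAmem, hAmem, Finset.mem_erase, Finset.mem_filter]
      constructor
      · rintro (⟨h, -, rfl⟩ | ⟨h, -, rfl⟩)
        · refine ⟨fun e => hx1 ?_, Finset.mem_univ _, hN.conj_mem x hx h⟩
          rwa [conj_eq_one_iff] at e
        · refine ⟨fun e => hy1 ?_, Finset.mem_univ _, hN.conj_mem y hy h⟩
          rwa [conj_eq_one_iff] at e
      · rintro ⟨hz1, -, hz⟩
        rcases hDxy z (hder z hz hz1) with h | h
        · exact Or.inl (hconjst x hx z hz h.symm)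
        · exact Or.inr (hconjst y hy z hz h.symm)
    have hcardN : Nat.card N = Nat.card Ω := by
      apply Nat.card_congr
      refine Equiv.ofBijective (fun n : N => n.1 • α) ⟨fun x y h => ?_, fun ω => ?_⟩
      · exact Subtype.ext (huniq α _ x.2 _ y.2 h)
      · obtain ⟨n, hn, h⟩ := htr α ω
        exact ⟨⟨n, hn⟩, h⟩
    have hNc : ((Finset.univ : Finset G).filter (fun g => g ∈ N)).card = Nat.card Ω := by
      rw [← hcardN, Nat.card_eq_fintype_card, Fintype.card_subtype]
    have hcard := congrArg Finset.card hunion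
    rw [Finset.card_union_of_disjoint hdisj, hA x hx hx1, hA y hy hy1,
      Finset.card_erase_of_mem (Finset.mem_filter.2 ⟨Finset.mem_univ _, N.one_mem⟩), hNc] at hcard
    have hpos : 1 ≤ Nat.card (stabilizer G α) := Nat.card_pos
    constructor
    · intro h2
      omega
    · omega

end Main

end Cfsg.Agent.H386.TwoDer
end

-- part: S3520
section
set_option autoImplicit false
open Cfsg

namespace Cfsg.Agent.S3520

/-- Let a finite group G act faithfully and primitively on a finite set Ω with at least two points, suppose G is not almost simple (no non-abelian simple normal subgroup with trivial centralizer), and suppose the derangements of G form exactly two conjugacy classes. Then either Ω has 3 points and G has order 3; or G has a non-trivial abelian normal subgroup N acting regularly, every non-identity element of G fixes at most one point (so, when n > 3, G is a Frobenius group with kernel N), the number n of points is odd and a point stabilizer has order (n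 − 1)/2; or G is 2-transitive with a non-trivial abelian regular normal subgroup and some non-identity element fixes at least two points (a non-Frobenius 2-transitive affine group). -/
theorem result {G : Type*} [Group G] [Finite G] {Ω : Type*} [Fintype Ω] [MulAction G Ω] [FaithfulSMul G Ω] (hΩ : 2 ≤ Fintype.card Ω) (hprim : MulAction.IsPreprimitive G Ω) (hnas : ¬ ∃ T : Subgroup G, T.Normal ∧ IsSimpleGroup T ∧ ¬ IsMulCommutative T ∧ Subgroup.centralizer (T : Set G) = ⊥)
    (hκ : Nat.card {c : ConjClasses G // ∃ g : G, ConjClasses.mk g = c ∧ ∀ ω : Ω, g • ω ≠ ω} = 2) (α : Ω) :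
    (Fintype.card Ω = 3 ∧ Nat.card G = 3) ∨
    ((∃ N : Subgroup G, N.Normal ∧ N ≠ ⊥ ∧ IsMulCommutative N ∧ ∀ ω : Ω, MulAction.stabilizer N ω = ⊥) ∧ (∀ g : G, g ≠ 1 → Nat.card (MulAction.fixedBy Ω g) ≤ 1) ∧ ¬ 2 ∣ Fintype.card Ω ∧
        2 * Nat.card (MulAction.stabilizer G α) = Fintype.card Ω - 1) ∨
    ((∃ N : Subgroup G, N.Normal ∧ N ≠ ⊥ ∧ IsMulCommutative N ∧ ∀ ω : Ω, MulAction.stabilizer N ω = ⊥) ∧ MulAction.IsMultiplyPretransitive G Ω 2 ∧ ∃ g : G, g ≠ 1 ∧ 2 ≤ Nat.card (MulAction.fixedBy Ω g)) := by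
  classical
  have := hprim
  have hnt : Nontrivial Ω := Fintype.one_lt_card_iff_nontrivial.1 (by omega)
  obtain ⟨a, b, hab⟩ := hnt.exists_pair_ne
  have hGnt : Nontrivial G := by
    obtain ⟨g, hg⟩ := MulAction.exists_smul_eq G a b
    refine ⟨⟨g, 1, fun h => hab ?_⟩⟩
    rw [← hg, h, one_smul]
  obtain ⟨N, hN, hN0, hmin⟩ := Cfsg.Agent.H386.Factor.exists_min_normal (G := G)
  by_cases hc : ∀ x ∈ N, ∀ y ∈ N, Commute x y
  · right
    have hNN : ∃ N : Subgroup G, N.Normal ∧ N ≠ ⊥ ∧ IsMulCommutative N ∧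
        ∀ ω : Ω, MulAction.stabilizer N ω = ⊥ := by
      refine ⟨N, hN, hN0, ⟨⟨fun x y => Subtype.ext (hc x x.2 y y.2)⟩⟩, fun ω => ?_⟩
      rw [Subgroup.eq_bot_iff_forall]
      intro n hn
      apply Subtype.ext
      exact Cfsg.Agent.H386.PrimTools.eq_one_of_commute N (α := ω)
        (fun a => Cfsg.Agent.H386.PrimTools.exists_smul_eq_of_normal N hN0 ω a)
        (fun m hm => (hc n n.2 m hm).eq) hn
    rcases Cfsg.Agent.H386.TwoDer.affine_case hκ N hN0 hc α with ⟨h1, h2, h3⟩ | ⟨h1, h2⟩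
    · left
      rw [Nat.card_eq_fintype_card (α := Ω)] at h2 h3
      exact ⟨hNN, h1, h2, h3⟩
    · right
      exact ⟨hNN, h1, h2⟩
  · exact (Cfsg.Agent.H386.TwoDer.false_of_nonabelian hnas hκ N hN0 hmin hc).elim

end Cfsg.Agent.S3520
end
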