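import Cfsg.Agent.H456.FourF
import Cfsg.Statements.S3814
set_option linter.all false

-- part: H456/FourF2
section
set_option autoImplicit false
set_option linter.unusedSectionVars false

/-!
S3814: the configuration of a `p'`-group acting irreducibly, case of cyclic abelian normal
subgroups.
-/

namespace Cfsg.Agent.H456

open Cfsg.Agent
open scoped commutatorElement

/-- the automorphism group of a finite cyclic group is commutative -/
theorem mulAut_comm_of_isCyclic {F : Type*} [Group F] [Finite F] (hF : IsCyclic F)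
    (a b : MulAut F) : a * b = b * a := by
  apply (IsCyclic.mulAutMulEquiv F).injective
  rw [map_mul, map_mul, mul_comm]

namespace CfgB

variable {H V : Type*} [Group H] [Finite H] [CommGroup V] [Finite V]
  {φ : H →* MulAut V} {P : Finset ℕ}

theorem cyclic_of_abelian (h : CfgB φ P) (A : Subgroup H) (hAn : A.Normal)
    (hA : ∀ a ∈ A, ∀ b ∈ A, a * b = b * a) : IsCyclic A := by
  by_contra hAc
  obtain ⟨t, ht, B, hBn, hBA, hB⟩ := exists_EAb_of_not_cyclic hAn hA hAc
  have hB1 : ∃ b ∈ B, b ≠ 1 := by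
    by_contra hcon
    push Not at hcon
    apply hB.nc
    have : Subsingleton B := ⟨fun a b => Subtype.ext (by rw [hcon a a.2, hcon b b.2])⟩
    infer_instance
  obtain ⟨b, hb, hb1⟩ := hB1
  have h1 : orderOf b = t := orderOf_eq_of_pow ht hb1 (hB.exp b hb)
  have h2 : t ∣ Nat.card H := by rw [← h1]; exact orderOf_dvd_natCard b
  exact h.case1 (h.hH t ht h2) hBn hB

/-- there is no normal subgroup of order two -/
theorem ne_two (h : CfgB φ P) {q : ℕ} (hq : q ∈ P) {z : H} (hz1 : z ≠ 1)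
    (hzq : z ^ q = 1) (hzn : (Subgroup.zpowers z).Normal) : q ≠ 2 := by
  rintro rfl
  obtain ⟨r, s, hr, hs, hrs, hrq, hsq, hP⟩ := h.others hq
  have hzc : ∀ g : H, g * z = z * g := by
    intro g
    have h1 := hzn.conj_mem z (Subgroup.mem_zpowers z) g
    obtain ⟨i, hi⟩ := Subgroup.mem_zpowers_iff.1 h1
    have h2 : z ^ i = 1 ∨ z ^ i = z := by
      rcases Int.even_or_odd' i with ⟨k, rfl | rfl⟩
      · left
        rw [zpow_mul, zpow_ofNat, hzq, one_zpow]
      · right
        rw [zpow_add, zpow_mul, zpow_ofNat, hzq, one_zpow, one_mul, zpow_one]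
    rcases h2 with h2 | h2
    · exfalso
      apply hz1
      rw [h2] at hi
      have : z = g⁻¹ * (g * z * g⁻¹) * g := by group
      rw [this, ← hi]; group
    · rw [h2] at hi
      exact (mul_inv_eq_iff_eq_mul.1 hi.symm)
  obtain ⟨a, b, ha1, hb1, har, hbs, hab⟩ := h.joined r hr s hs hrs
  exact h.T3 r hr s hs 2 hq hrs hrq hsq a b z ha1 hb1 hz1 har hbs hzq hab (hzc a) (hzc b)

/-- a normal subgroup of prime order acts freely -/
theorem free_of_normal (h : CfgB φ P) {z : H} (hz1 : z ≠ 1)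
    (hzn : (Subgroup.zpowers z).Normal) : ∀ v, φ z v = v → v = 1 := by
  have hinv : ∀ g, ∀ u ∈ fixG φ z, φ g u ∈ fixG φ z := by
    intro g u hu
    rw [mem_fixG] at hu ⊢
    have h1 : g⁻¹ * z * g ∈ Subgroup.zpowers z := by
      have := hzn.conj_mem z (Subgroup.mem_zpowers z) g⁻¹
      rwa [inv_inv] at this
    have h2 : z * g = g * (g⁻¹ * z * g) := by group
    rw [← MulAut.mul_apply, ← map_mul, h2, map_mul, MulAut.mul_apply, fix_zpow hu h1]
  rcases h.irr _ hinv with h1 | h1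
  · intro v hv
    have : v ∈ fixG φ z := hv
    rwa [h1, Subgroup.mem_bot] at this
  · exfalso
    apply hz1
    apply h.faithful
    intro v
    have : v ∈ fixG φ z := by rw [h1]; trivial
    exact this

/-- the property of `t`-subgroups of the centralizer of `z` -/
def PF (φ : H →* MulAut V) (z : H) (t u : ℕ) : Prop :=
  ∀ N : Subgroup H, (∀ x ∈ N, x * z = z * x) → IsPGroup t N → ∀ b : H, b * z = z * b → b ≠ 1 →
    b ^ u = 1 → (∀ n ∈ N, b * n * b⁻¹ ∈ N) → (∀ n ∈ N, b * n = n * b → n = 1) →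
    (∃ v, v ≠ 1 ∧ φ b v = v) → ∀ A : Subgroup H, A ≤ N → ¬ EAb t A

/-- the case of a self-centralizing cyclic normal subgroup -/
theorem PF_alpha (z : H) (t u : ℕ) {F : Subgroup H}
    (hFn : F.Normal) (hFc : IsCyclic F) (hself : ∀ g : H, (∀ f ∈ F, g * f = f * g) → g ∈ F) :
    PF φ z t u := by
  intro N _ _ b _ _ _ hbN hfree _ A hAN hA
  -- every element of `N` is of the form `k⁻¹ b k b⁻¹`
  let f : N → N := fun k => ⟨(k : H)⁻¹ * (b * k * b⁻¹), N.mul_mem (N.inv_mem k.2) (hbN k k.2)⟩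
  have hinj : Function.Injective f := by
    intro k m hkm
    have h1 : (k : H)⁻¹ * (b * k * b⁻¹) = (m : H)⁻¹ * (b * m * b⁻¹) := congrArg Subtype.val hkm
    have h2 : (m : H) * (k : H)⁻¹ = 1 := by
      apply hfree _ (N.mul_mem m.2 (N.inv_mem k.2))
      have h3 : (m : H) * (k : H)⁻¹ = b * (m * (k : H)⁻¹) * b⁻¹ := by
        calc (m : H) * (k : H)⁻¹ = m * ((k : H)⁻¹ * (b * k * b⁻¹)) * (b * k * b⁻¹)⁻¹ := by group
          _ = m * ((m : H)⁻¹ * (b * m * b⁻¹)) * (b * k * b⁻¹)⁻¹ := by rw [h1]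
          _ = b * (m * (k : H)⁻¹) * b⁻¹ := by group
      calc b * (m * (k : H)⁻¹) = (b * (m * (k : H)⁻¹) * b⁻¹) * b := by group
        _ = (m * (k : H)⁻¹) * b := by rw [← h3]
    exact Subtype.ext (mul_inv_eq_one.1 h2).symm
  have hsurj := Finite.injective_iff_surjective.1 hinj
  have hNF : N ≤ F := by
    intro x hx
    obtain ⟨k, hk⟩ := hsurj ⟨x, hx⟩
    have hk' : (k : H)⁻¹ * (b * k * b⁻¹) = x := congrArg Subtype.val hk
    apply hself
    intro y hy
    let χ : H →* MulAut F := MulAut.conjNormal (H := F)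
    have h1 : χ x = 1 := by
      rw [← hk', map_mul, map_mul, map_mul, map_inv, map_inv,
        mulAut_comm_of_isCyclic hFc (χ b) (χ k), mul_inv_cancel_right, inv_mul_cancel]
    have h2 : x * y * x⁻¹ = y := by
      have h3 : ((χ x ⟨y, hy⟩ : F) : H) = x * y * x⁻¹ := rfl
      rw [← h3, h1]; rfl
    exact mul_inv_eq_iff_eq_mul.1 h2
  apply hA.nc
  exact isCyclic_of_injective (Subgroup.inclusion (hAN.trans hNF)) (Subgroup.inclusion_injective _)

/-- the extraspecial case -/
theorem PF_beta (h : CfgB φ P) {q t u : ℕ} (hq : q ∈ P) (ht : t ∈ P) (hu : u ∈ P)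
    (htq : t ≠ q) (huq : u ≠ q) {E : Subgroup H} (hEn : E.Normal)
    {z : H} (hzE : z ∈ E) (hz1 : z ≠ 1) (hzq : z ^ q = 1) (hzn : (Subgroup.zpowers z).Normal)
    (hEz : ∀ e ∈ E, e * z = z * e) (hEc : ∀ a ∈ E, ∀ b ∈ E, ⁅a, b⁆ ∈ Subgroup.zpowers z)
    (hEnc : ∃ a ∈ E, ∃ b ∈ E, a * b ≠ b * a) (hEq : ∀ a ∈ E, a ^ q = 1) : PF φ z t u := by
  intro N hNz hNt b hbz hb1 hbu hbN hfree hfix A hAN hA
  have hq' := h.hP q hq
  have ht' := h.hP t ht
  have hu' := h.hP u hu
  have := Fact.mk hu'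
  have := Fact.mk hq'
  have := Fact.mk ht'
  -- an element of `E` outside `⟨z⟩`
  obtain ⟨e0, he0, he0z⟩ : ∃ e ∈ E, e ∉ Subgroup.zpowers z := by
    obtain ⟨a, ha, b, hb, hab⟩ := hEnc
    refine ⟨a, ha, fun hc => hab ?_⟩
    obtain ⟨i, rfl⟩ := Subgroup.mem_zpowers_iff.1 hc
    exact ((show Commute b z from hEz b hb).zpow_right i).symm.eq
  -- a fixed point argument
  have hkey : ∀ (w : ℕ), w ∈ P → w ≠ q → ∀ x : H, x ≠ 1 → x ^ w = 1 → x * z = z * x →
      ∀ e ∈ E, e ∉ Subgroup.zpowers z → x * e = e * x → ∀ v, φ x v = v → v = 1 := by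
    intro w hw hwq x hx1 hxw hxz e he hez hxe v hv
    by_contra hv1
    have hD := EAb_of_pair hq' hz1 hzq (hEq e he) hez (hEz e he)
    have hDx : ∀ d ∈ (Subgroup.zpowers e ⊔ Subgroup.zpowers z : Subgroup H), x * d = d * x := by
      have hle : (Subgroup.zpowers e ⊔ Subgroup.zpowers z : Subgroup H) ≤
          Subgroup.centralizer {x} := by
        apply sup_le
        · rw [Subgroup.zpowers_le, Subgroup.mem_centralizer_singleton_iff]; exact hxe.symm
        · rw [Subgroup.zpowers_le, Subgroup.mem_centralizer_singleton_iff]; exact hxz.symm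
      intro d hd
      exact (Subgroup.mem_centralizer_singleton_iff.1 (hle hd)).symm
    obtain ⟨d, hd, hd1, y, hy, hy1, hdy⟩ := exists_fixed_of_not_cyclic φ (fixG φ x)
      (fun a _ b _ => mul_comm a b) (by
        intro hbot
        apply hv1
        have : v ∈ fixG φ x := hv
        rwa [hbot, Subgroup.mem_bot] at this) _ hD.comm hD.nc
      (fun a ha => fixG_invariant (hDx a ha))
    exact h.TV w hw q hq hwq x d hx1 hd1 hxw (hD.exp d hd) (hDx d hd) y hy1 hy hdy
  -- the action on the quotient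
  let π : H →* H ⧸ Subgroup.zpowers z := QuotientGroup.mk' _
  let χ : H →* MulAut (H ⧸ Subgroup.zpowers z) := MulAut.conj.comp π
  have hcE : (Nat.card N).Coprime (Nat.card E) := by
    rw [Nat.coprime_iff_gcd_eq_one]
    by_contra hc
    obtain ⟨l, hl, hd⟩ := Nat.exists_prime_and_dvd hc
    have h1 : l = q := (Nat.prime_dvd_prime_iff_eq hl hq').1
      (dvd_of_exp hEq hl (hd.trans (Nat.gcd_dvd_right _ _)))
    obtain ⟨n, hn⟩ := IsPGroup.iff_card.1 hNt
    have h2 : l ∣ t ^ n := by rw [← hn]; exact hd.trans (Nat.gcd_dvd_left _ _)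
    have h3 : l = t := (Nat.prime_dvd_prime_iff_eq hl ht').1 (hl.dvd_of_dvd_pow h2)
    exact htq (h3.symm.trans h1)
  rcases frob_prime χ (E.map π) (by
      rintro _ ⟨a, ha, rfl⟩ _ ⟨b, hb, rfl⟩
      have h1 : π ⁅a, b⁆ = 1 := (QuotientGroup.eq_one_iff _).2 (hEc a ha b hb)
      rw [map_commutatorElement] at h1
      exact commutatorElement_eq_one_iff_mul_comm.1 h1) N b (by
      rintro k hk _ ⟨e, he, rfl⟩
      exact ⟨k * e * k⁻¹, hEn.conj_mem e he k, by
        change π (k * e * k⁻¹) = π k * π e * (π k)⁻¹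
        rw [map_mul, map_mul, map_inv]⟩) (by
      rintro _ ⟨e, he, rfl⟩
      exact ⟨b * e * b⁻¹, hEn.conj_mem e he b, by
        change π (b * e * b⁻¹) = π b * π e * (π b)⁻¹
        rw [map_mul, map_mul, map_inv]⟩) hbN hu' hbu hfree
    (hcE.coprime_dvd_right (Subgroup.card_map_dvd E π)) with h1 | ⟨_, ⟨e, he, rfl⟩, he1, hbe⟩
  · -- `N` centralizes `E`
    have hNE : ∀ k ∈ N, ∀ e ∈ E, k * e = e * k := by
      intro k hk e he
      have h2 := h1 k hk (π e) ⟨e, he, rfl⟩
      have h3 : π (k * e * k⁻¹ * e⁻¹) = 1 := by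
        have h4 : π k * π e * (π k)⁻¹ = π e := h2
        rw [map_mul, map_mul, map_mul, map_inv, map_inv, h4, mul_inv_cancel]
      have h5 : k * e * k⁻¹ * e⁻¹ ∈ Subgroup.zpowers z := (QuotientGroup.eq_one_iff _).1 h3
      set ζ := k * e * k⁻¹ * e⁻¹ with hζ
      obtain ⟨i, hi⟩ := Subgroup.mem_zpowers_iff.1 h5
      have hkζ : k * ζ = ζ * k := by
        rw [← hi]; exact ((show Commute k z from hNz k hk).zpow_right i).eq
      obtain ⟨n, hn⟩ := hNt ⟨k, hk⟩
      have hn' : k ^ t ^ n = 1 := congrArg Subtype.val hn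
      have h6 : ζ ^ t ^ n = 1 := pow_eq_one_of_conj (y := k) (a := e) hn' (by rw [hζ]; group) hkζ
      have h7 : ζ ^ q = 1 := by
        rw [← hi, ← zpow_natCast, ← zpow_mul, mul_comm, zpow_mul, zpow_natCast, hzq, one_zpow]
      have h8 : (t ^ n).Coprime q := Nat.Coprime.pow_left n ((Nat.coprime_primes ht' hq').2 htq)
      have h9 : ζ = 1 := by
        rw [← orderOf_eq_one_iff]
        apply Nat.dvd_one.1
        rw [← h8]
        exact Nat.dvd_gcd (orderOf_dvd_of_pow_eq_one h6) (orderOf_dvd_of_pow_eq_one h7)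
      rw [hζ, mul_inv_eq_one, mul_inv_eq_iff_eq_mul] at h9
      exact h9
    obtain ⟨a, ha, ha1, v, hv1, hav⟩ := fix_top φ h.ntV hA
    exact hv1 (hkey t ht htq a ha1 (hA.exp a ha) (hNz a (hAN ha)) e0 he0 he0z
      (hNE a (hAN ha) e0 he0) v hav)
  · -- `b` centralizes an element of `E`
    have h2 : π b * π e * (π b)⁻¹ = π e := hbe
    have hez : e ∉ Subgroup.zpowers z := fun hc => he1 ((QuotientGroup.eq_one_iff _).2 hc)
    obtain ⟨d, hd, hbd⟩ := SignalizersComponents.CoprimeBasic.exists_fixed_in_coset_of_pow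
      (p := u) b 1 (by rw [pow_one, hbu]) (Subgroup.zpowers z) (by
        rw [Nat.card_zpowers, orderOf_eq_of_pow hq' hz1 hzq]
        intro hd
        exact huq ((Nat.prime_dvd_prime_iff_eq hu' hq').1 hd))
      (fun d hd => hzn.conj_mem d hd b) e (by
        have h3 : π (e⁻¹ * (b * e * b⁻¹)) = 1 := by
          rw [map_mul, map_mul, map_mul, map_inv, map_inv, h2, inv_mul_cancel]
        exact (QuotientGroup.eq_one_iff _).1 h3)
    obtain ⟨v, hv1, hv⟩ := hfix
    have hdE : d ∈ E := by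
      have : Subgroup.zpowers z ≤ E := by rw [Subgroup.zpowers_le]; exact hzE
      exact this hd
    refine hv1 (hkey u hu huq b hb1 hbu hbz (e * d) (E.mul_mem he hdE) ?_ hbd v hv)
    intro hc
    apply hez
    have : e = e * d * d⁻¹ := by group
    rw [this]
    exact Subgroup.mul_mem _ hc (Subgroup.inv_mem _ hd)

/-- the second case -/
theorem case2 (h : CfgB φ P) {q : ℕ} (hq : q ∈ P) {z : H} (hz1 : z ≠ 1)
    (hzq : z ^ q = 1) (hzn : (Subgroup.zpowers z).Normal)
    (hPF : ∀ t ∈ P, ∀ u ∈ P, t ≠ q → u ≠ q → t ≠ u → PF φ z t u) : False := by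
  obtain ⟨r, s, hr, hs, hrs, hrq, hsq, hP⟩ := h.others hq
  have hr' := h.hP r hr
  have hs' := h.hP s hs
  have hq' := h.hP q hq
  have := h.solv
  have hzfree := h.free_of_normal hz1 hzn
  obtain ⟨L, hL, hLc⟩ := exists_hall (G := H) (fun t => t = r ∨ t = s)
  have hCn : (Subgroup.centralizer ((Subgroup.zpowers z : Subgroup H) : Set H)).Normal := by
    infer_instance
  let L1 : Subgroup L :=
    (Subgroup.centralizer ((Subgroup.zpowers z : Subgroup H) : Set H)).comap L.subtype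
  have hL1 : ∀ x : L, x ∈ L1 ↔ (x : H) * z = z * x := by
    intro x
    constructor
    · intro hx
      exact (Subgroup.mem_centralizer_iff.1 hx z (Subgroup.mem_zpowers z)).symm
    · intro hx
      refine Subgroup.mem_centralizer_iff.2 ?_
      intro y hy
      obtain ⟨i, rfl⟩ := Subgroup.mem_zpowers_iff.1 hy
      exact ((show Commute (x : H) z from hx).zpow_right i).symm.eq
  have hPi : ∀ t ∈ P, ∀ u ∈ P, t ≠ q → u ≠ q → t ≠ u → PropI (φ.comp L.subtype) L1 t u := by
    intro t ht u hu htq huq htu a ha b hb ha1 hat hbu hab v hv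
    by_contra hv1
    have ha1' : (a : H) ≠ 1 := fun h => ha1 (Subtype.ext h)
    have hb1' : (b : H) ≠ 1 := by
      intro h1
      apply hb
      rw [hL1, h1]; simp
    have hbz : ∀ k ∈ Subgroup.zpowers z, (b : H) * k = k * b → k = 1 := by
      intro k hk hbk
      by_contra hk1
      exact hb ((hL1 b).2 (commute_of_zpowers hq' hzq hk hk1 hbk))
    have haz := (hL1 a).1 ha
    rcases frob_prime φ (fixG φ (a : H)) (fun a _ b _ => mul_comm a b) (Subgroup.zpowers z)
      (b : H) (by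
        intro k hk
        obtain ⟨i, rfl⟩ := Subgroup.mem_zpowers_iff.1 hk
        exact fixG_invariant ((show Commute (a : H) z from haz).zpow_right i).eq)
      (fixG_invariant (congrArg Subtype.val hab)) (fun k hk => hzn.conj_mem k hk b)
      (h.hP u hu) (congrArg Subtype.val hbu) hbz (by
        have h1 : (Nat.card (Subgroup.zpowers z)).Coprime (Nat.card V) :=
          h.cV.coprime_dvd_left (Subgroup.card_subgroup_dvd_card _)
        exact h1.coprime_dvd_right (Subgroup.card_subgroup_dvd_card _)) with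
      h1 | ⟨w, hw, hw1, hbw⟩
    · exact hv1 (hzfree v (h1 z (Subgroup.mem_zpowers z) v hv))
    · exact h.TV t ht u hu htu a b ha1' hb1' (congrArg Subtype.val hat)
        (congrArg Subtype.val hbu) (congrArg Subtype.val hab) w hw1 hw hbw
  have hPc : ∀ t : ℕ, ∀ A : Subgroup L, EAb t A → ∃ a ∈ A, a ≠ 1 ∧ a ∈ L1 := by
    intro t A hA
    obtain ⟨_, ⟨a, ha, rfl⟩, ha1, haz⟩ := exists_commute_of_EAb hq' hz1 hzq hzn
      (hA.map L.subtype L.subtype_injective)
    exact ⟨a, ha, fun h => ha1 (congrArg Subtype.val h), (hL1 a).2 haz⟩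
  have hPf : ∀ t ∈ P, ∀ u ∈ P, t ≠ q → u ≠ q → t ≠ u → PropF (φ.comp L.subtype) L1 t u := by
    intro t ht u hu htq huq htu N hN hNt b hb hb1 hbu hbN hfree hfix A hAN hA
    refine hPF t ht u hu htq huq htu (N.map L.subtype) ?_ (hNt.map _) (b : H) ((hL1 b).1 hb)
      (fun h => hb1 (Subtype.ext h)) (congrArg Subtype.val hbu) ?_ ?_ hfix
      (A.map L.subtype) (Subgroup.map_mono hAN) (hA.map _ L.subtype_injective)
    · rintro _ ⟨x, hx, rfl⟩
      exact (hL1 x).1 (hN hx)
    · rintro _ ⟨x, hx, rfl⟩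
      exact ⟨b * x * b⁻¹, hbN x hx, rfl⟩
    · rintro _ ⟨x, hx, rfl⟩ hbx
      have h1 : b * x = x * b := Subtype.ext hbx
      rw [hfree x hx h1, map_one]
  have hB : CfgB2 (φ.comp L.subtype) L1 r s := by
    refine
      { hr := hr'
        hs := hs'
        hrs := hrs
        solv := inferInstance
        hL := hL
        cV := h.cV.coprime_dvd_left (Subgroup.card_subgroup_dvd_card L)
        thr := EAb_hall hLc hr' (Or.inl rfl) (h.thick r hr)
        ths := EAb_hall hLc hs' (Or.inr rfl) (h.thick s hs)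
        ntV := h.ntV
        nL1 := hCn.comap _
        Pa := ?_
        Pi := hPi r hr s hs hrq hsq hrs
        Pi' := hPi s hs r hr hsq hrq hrs.symm
        Pc := hPc r
        Pc' := hPc s
        Pf := hPf r hr s hs hrq hsq hrs
        Pf' := hPf s hs r hr hsq hrq hrs.symm }
    intro a ha b hb ha1 hb1 har hbs hab
    exact h.T3 r hr s hs q hq hrs hrq hsq a b z (fun h => ha1 (Subtype.ext h))
      (fun h => hb1 (Subtype.ext h)) hz1 (congrArg Subtype.val har) (congrArg Subtype.val hbs)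
      hzq (congrArg Subtype.val hab) ((hL1 a).1 ha) ((hL1 b).1 hb)
  exact hB.false

theorem false (h : CfgB φ P) : False := by
  have := h.solv
  rcases cyclic_dichotomy (H := H) (fun A hAn hA => h.cyclic_of_abelian A hAn hA) with
    ⟨F, hFn, hFab, hFc, hself⟩ | ⟨q, hq', E, hEn, z, hzE, hz1, hzq, hzn, hEz, hEc, hEnc, hEq⟩
  · -- `F` is not trivial
    obtain ⟨t, ht⟩ : P.Nonempty := by
      rw [← Finset.card_pos, h.hP3]; norm_num
    have hFb : ∃ f ∈ F, f ≠ 1 := by
      by_contra hcon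
      push Not at hcon
      obtain ⟨A, hA⟩ := h.thick t ht
      apply hA.nc
      have hA1 : ∀ a : H, a = 1 := fun a => hcon a (hself a (fun f hf => by
        rw [hcon f hf, mul_one, one_mul]))
      have : Subsingleton A := ⟨fun a b => Subtype.ext (by rw [hA1 a, hA1 b])⟩
      infer_instance
    obtain ⟨f, hf, hf1⟩ := hFb
    have hord : orderOf f ≠ 1 := fun h => hf1 (orderOf_eq_one_iff.1 h)
    obtain ⟨q, hq', m, hm⟩ := Nat.exists_prime_and_dvd hord
    have hpos := orderOf_pos f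
    have hm0 : m ≠ 0 := by rintro rfl; omega
    have hz1 : f ^ m ≠ 1 := by
      intro hc
      have h2 := Nat.le_of_dvd (Nat.pos_of_ne_zero hm0) (orderOf_dvd_of_pow_eq_one hc)
      rw [hm] at h2
      have := hq'.two_le
      have := Nat.pos_of_ne_zero hm0
      nlinarith
    have hzq : (f ^ m) ^ q = 1 := by
      rw [← pow_mul, mul_comm m q, ← hm, pow_orderOf_eq_one]
    have hq : q ∈ P := h.hH q hq' ((Dvd.intro m hm.symm).trans (orderOf_dvd_natCard f))
    have hzF : f ^ m ∈ F := F.pow_mem hf m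
    refine h.case2 hq hz1 hzq ?_ (fun t _ u _ _ _ _ => PF_alpha _ t u hFn hFc hself)
    constructor
    intro w hw g
    obtain ⟨i, rfl⟩ := Subgroup.mem_zpowers_iff.1 hw
    rw [← conj_zpow]
    apply Subgroup.zpow_mem
    apply mem_of_isCyclic hFc hq' hzF (hFn.conj_mem _ hzF g) hz1 hzq
    rw [conj_pow, hzq, mul_one, mul_inv_cancel]
  · have hq : q ∈ P := by
      apply h.hH q hq'
      rw [← orderOf_eq_of_pow hq' hz1 hzq]
      exact orderOf_dvd_natCard z
    have hq2 := h.ne_two hq hz1 hzq hzn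
    exact h.case2 hq hz1 hzq hzn (fun t ht u hu htq huq _ =>
      h.PF_beta hq ht hu htq huq hEn hzE hz1 hzq hzn hEz hEc hEnc (hEq hq2))

end CfgB

end Cfsg.Agent.H456
end

-- part: H456/FourG
section
set_option autoImplicit false
set_option linter.unusedSectionVars false

/-!
S3814: a solvable group whose order is divisible by four primes.
-/

namespace Cfsg.Agent.H456

open Cfsg.Agent
open scoped commutatorElement Pointwise

theorem coprime_of_primes {m n : ℕ} (h : ∀ t : ℕ, t.Prime → t ∣ m → t ∣ n → False) :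
    m.Coprime n := by
  rw [Nat.coprime_iff_gcd_eq_one]
  by_contra hc
  obtain ⟨t, ht, hd⟩ := Nat.exists_prime_and_dvd hc
  exact h t ht (hd.trans (Nat.gcd_dvd_left _ _)) (hd.trans (Nat.gcd_dvd_right _ _))

/-- a power of prime order, general version -/
theorem exists_pow_prime' {L : Type*} [Group L] [Finite L] {x : L} (hx1 : x ≠ 1) :
    ∃ t : ℕ, t.Prime ∧ t ∣ Nat.card L ∧ ∃ m : ℕ, x ^ m ≠ 1 ∧ (x ^ m) ^ t = 1 := by
  have hord : orderOf x ≠ 1 := fun h => hx1 (orderOf_eq_one_iff.1 h)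
  obtain ⟨t, ht, m, hm⟩ := Nat.exists_prime_and_dvd hord
  have hpos := orderOf_pos x
  have hm0 : m ≠ 0 := by rintro rfl; omega
  have h1 : x ^ m ≠ 1 := by
    intro hc
    have h2 := Nat.le_of_dvd (Nat.pos_of_ne_zero hm0) (orderOf_dvd_of_pow_eq_one hc)
    rw [hm] at h2
    have := ht.two_le
    have := Nat.pos_of_ne_zero hm0
    nlinarith
  have h2 : (x ^ m) ^ t = 1 := by
    rw [← pow_mul, mul_comm m t, ← hm, pow_orderOf_eq_one]
  exact ⟨t, ht, (Dvd.intro m hm.symm).trans (orderOf_dvd_natCard x), m, h1, h2⟩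

/-- a normal subgroup of a solvable group contains a nontrivial abelian normal subgroup of prime
exponent -/
theorem exists_elem_abelian {G : Type*} [Group G] [Finite G] [Group.IsSolvable G]
    {N : Subgroup G} (hN : N.Normal) (hNb : N ≠ ⊥) :
    ∃ t : ℕ, t.Prime ∧ t ∣ Nat.card G ∧ ∃ M : Subgroup G, M.Normal ∧ M ≤ N ∧ M ≠ ⊥ ∧
      (∀ a ∈ M, ∀ b ∈ M, a * b = b * a) ∧ ∀ a ∈ M, a ^ t = 1 := by
  obtain ⟨M, hMn, hMle, hMbot, hMab⟩ := exists_abelian_normal_le hN hNb
  obtain ⟨⟨m, hm⟩, hm1'⟩ := Subgroup.ne_bot_iff_exists_ne_one.1 hMbot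
  have hm1 : m ≠ 1 := fun h => hm1' (Subtype.ext h)
  obtain ⟨t, ht, htd, n, hn1, hn⟩ := exists_pow_prime' hm1
  let M' : Subgroup G :=
    { carrier := {x | x ∈ M ∧ x ^ t = 1}
      one_mem' := ⟨M.one_mem, one_pow _⟩
      mul_mem' := by
        rintro a b ⟨ha, hat⟩ ⟨hb, hbt⟩
        refine ⟨M.mul_mem ha hb, ?_⟩
        rw [(show Commute a b from hMab a ha b hb).mul_pow, hat, hbt, one_mul]
      inv_mem' := by
        rintro a ⟨ha, hat⟩
        exact ⟨M.inv_mem ha, by rw [inv_pow, hat, inv_one]⟩ }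
  refine ⟨t, ht, htd, M', ⟨?_⟩, fun x hx => hMle hx.1, ?_,
    fun a ha b hb => hMab a ha.1 b hb.1, fun a ha => ha.2⟩
  · rintro x ⟨hx, hxt⟩ g
    exact ⟨hMn.conj_mem x hx g, by rw [conj_pow, hxt, mul_one, mul_inv_cancel]⟩
  · intro hb
    apply hn1
    have : m ^ n ∈ M' := ⟨M.pow_mem hm n, hn⟩
    rwa [hb, Subgroup.mem_bot] at this

/-- a prime dividing the order of a group divides the order of a Hall subgroup -/
theorem dvd_card_hall {G : Type*} [Group G] [Finite G] {P : ℕ → Prop} {L : Subgroup G}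
    (hL : ∀ K : Subgroup G, (∀ t : ℕ, t.Prime → t ∣ Nat.card K → P t) →
        ∃ g : G, ∀ k ∈ K, g * k * g⁻¹ ∈ L) {t : ℕ} (ht : t.Prime) (hPt : P t)
    (hd : t ∣ Nat.card G) : ∃ x : L, x ≠ 1 ∧ x ^ t = 1 := by
  have := Fact.mk ht
  obtain ⟨x, hx⟩ := exists_prime_orderOf_dvd_card' t hd
  have hxt : x ^ t = 1 := by rw [← hx, pow_orderOf_eq_one]
  have hx1 : x ≠ 1 := by
    rintro rfl
    rw [orderOf_one] at hx
    exact ht.one_lt.ne hx
  obtain ⟨g, hg⟩ := hL (Subgroup.zpowers x) (fun u hu hd => by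
    rw [Nat.card_zpowers, hx] at hd
    rw [(Nat.prime_dvd_prime_iff_eq hu ht).1 hd]; exact hPt)
  refine ⟨⟨_, hg x (Subgroup.mem_zpowers x)⟩, ?_, ?_⟩
  · intro h
    apply hx1
    have h1 : g * x * g⁻¹ = 1 := congrArg Subtype.val h
    rw [mul_inv_eq_one] at h1
    exact mul_eq_left.1 h1
  · apply Subtype.ext
    change (g * x * g⁻¹) ^ t = 1
    rw [conj_pow, hxt]; group

/-- A solvable group whose order is divisible by three primes has commuting elements of distinct
prime orders. -/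
theorem lucido {G : Type*} [Group G] [Finite G] [Group.IsSolvable G] {P : Finset ℕ}
    (hP : ∀ t ∈ P, t.Prime) (hP3 : P.card = 3) (hG : ∀ t : ℕ, t.Prime → t ∣ Nat.card G → t ∈ P)
    (hPG : ∀ t ∈ P, t ∣ Nat.card G) :
    ∃ t ∈ P, ∃ u ∈ P, t ≠ u ∧ ∃ x y : G, x ≠ 1 ∧ y ≠ 1 ∧ x ^ t = 1 ∧ y ^ u = 1 ∧
      x * y = y * x := by
  by_contra hcon
  push Not at hcon
  have hno : ∀ t ∈ P, ∀ u ∈ P, t ≠ u → ∀ x y : G, x ≠ 1 → y ≠ 1 → x ^ t = 1 → y ^ u = 1 →
      x * y = y * x → False := fun t ht u hu htu x y hx hy hxt hyu h =>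
    hcon t ht u hu htu x y hx hy hxt hyu h
  have htop : (⊤ : Subgroup G) ≠ ⊥ := by
    intro h
    obtain ⟨t, ht⟩ : P.Nonempty := by rw [← Finset.card_pos, hP3]; norm_num
    have h1 := hPG t ht
    rw [← Subgroup.card_top, h, Subgroup.card_bot] at h1
    exact (hP t ht).one_lt.ne' (Nat.dvd_one.1 h1)
  obtain ⟨a, ha', had, M, hMn, -, hMb, hMab, hMa⟩ :=
    exists_elem_abelian (N := (⊤ : Subgroup G)) inferInstance htop
  have ha := hG a ha' had
  obtain ⟨b, c, hbc, hPe⟩ := Finset.card_eq_two.1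
    (show (P.erase a).card = 2 by rw [Finset.card_erase_of_mem ha, hP3])
  have hb0 : b ∈ P.erase a := by rw [hPe]; simp
  have hc0 : c ∈ P.erase a := by rw [hPe]; simp
  have hb := (Finset.mem_erase.1 hb0).2
  have hc := (Finset.mem_erase.1 hc0).2
  have hba := (Finset.mem_erase.1 hb0).1
  have hca := (Finset.mem_erase.1 hc0).1
  have hb' := hP b hb
  have hc' := hP c hc
  obtain ⟨L, hL, hLc⟩ := exists_hall (G := G) (fun t => t = b ∨ t = c)
  -- the action on `M` is free
  have hfree : ∀ x : G, ∀ t : ℕ, t ∈ P → t ≠ a → x ≠ 1 → x ^ t = 1 → ∀ m ∈ M, m ≠ 1 →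
      x * m = m * x → False := fun x t ht hta hx1 hxt m hm hm1 h =>
    hno t ht a ha hta x m hx1 hm1 hxt (hMa m hm) h
  obtain ⟨x0, hx01, -⟩ := dvd_card_hall hLc hb' (Or.inl rfl) (hPG b hb)
  have hLb : (⊤ : Subgroup L) ≠ ⊥ := by
    intro h
    apply hx01
    have : x0 ∈ (⊤ : Subgroup L) := trivial
    rwa [h, Subgroup.mem_bot] at this
  obtain ⟨l, hl', hld, A, hAn, -, hAb, hAab, hAl⟩ :=
    exists_elem_abelian (N := (⊤ : Subgroup L)) inferInstance hLb
  have hlbc := hL l hl' hld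
  obtain ⟨l', hl'P, hll', hlP, hla, hl'a, hl'bc⟩ : ∃ l' ∈ P, l ≠ l' ∧ l ∈ P ∧ l ≠ a ∧ l' ≠ a ∧
      (l' = b ∨ l' = c) := by
    rcases hlbc with rfl | rfl
    · exact ⟨c, hc, hbc, hb, hba, hca, Or.inr rfl⟩
    · exact ⟨b, hb, hbc.symm, hc, hca, hba, Or.inl rfl⟩
  -- `A` is cyclic
  let A' : Subgroup G := A.map L.subtype
  have hA'c : IsCyclic A' := by
    by_contra hc
    obtain ⟨_, ⟨x, hx, rfl⟩, hx1, m, hm, hm1, hxm⟩ := exists_fixed_of_not_cyclic
      (MulAut.conj : G →* MulAut G) M hMab hMb A' (by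
        rintro _ ⟨x, hx, rfl⟩ _ ⟨y, hy, rfl⟩
        exact congrArg Subtype.val (hAab x hx y hy)) hc (fun b _ u hu => hMn.conj_mem u hu b)
    rw [MulAut.conj_apply] at hxm
    exact hfree x l hlP hla hx1 (congrArg Subtype.val (hAl x hx)) m hm hm1
      (mul_inv_eq_iff_eq_mul.1 hxm)
  obtain ⟨⟨z, hz⟩, hz1'⟩ := Subgroup.ne_bot_iff_exists_ne_one.1 hAb
  have hz1 : z ≠ 1 := fun h => hz1' (Subtype.ext h)
  have hz1G : (z : G) ≠ 1 := fun h => hz1 (Subtype.ext h)
  have hzl : (z : G) ^ l = 1 := congrArg Subtype.val (hAl z hz)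
  obtain ⟨y, hy1, hyl⟩ := dvd_card_hall hLc (hP l' hl'P) hl'bc (hPG l' hl'P)
  have hy1G : (y : G) ≠ 1 := fun h => hy1 (Subtype.ext h)
  have hyl' : (y : G) ^ l' = 1 := congrArg Subtype.val hyl
  rcases frob_prime (MulAut.conj : G →* MulAut G) M hMab (Subgroup.zpowers (z : G)) (y : G)
    (fun b _ u hu => hMn.conj_mem u hu b) (fun u hu => hMn.conj_mem u hu _) (by
      intro k hk
      obtain ⟨i, rfl⟩ := Subgroup.mem_zpowers_iff.1 hk
      rw [← conj_zpow]
      apply Subgroup.zpow_mem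
      refine mem_of_isCyclic hA'c hl' ⟨z, hz, rfl⟩ ⟨y * z * y⁻¹, hAn.conj_mem z hz y, rfl⟩
        hz1G hzl ?_
      change ((y : G) * z * (y : G)⁻¹) ^ l = 1
      rw [conj_pow, hzl, mul_one, mul_inv_cancel]) (hP l' hl'P) hyl' (by
      intro k hk hyk
      by_contra hk1
      have h1 := commute_of_zpowers hl' hzl hk hk1 hyk
      exact hno l' hl'P l hlP hll'.symm y z hy1G hz1G hyl' hzl h1) (by
      apply coprime_of_primes
      intro t ht h1 h2
      rw [Nat.card_zpowers, orderOf_eq_of_pow hl' hz1G hzl] at h1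
      have h3 := (Nat.prime_dvd_prime_iff_eq ht hl').1 h1
      have h4 := (Nat.prime_dvd_prime_iff_eq ht ha').1 (dvd_of_exp hMa ht h2)
      exact hla (h3.symm.trans h4)) with h1 | ⟨m, hm, hm1, hym⟩
  · obtain ⟨⟨m, hm⟩, hm1'⟩ := Subgroup.ne_bot_iff_exists_ne_one.1 hMb
    have hm1 : m ≠ 1 := fun h => hm1' (Subtype.ext h)
    have h2 := h1 z (Subgroup.mem_zpowers _) m hm
    rw [MulAut.conj_apply] at h2
    exact hfree z l hlP hla hz1G hzl m hm hm1 (mul_inv_eq_iff_eq_mul.1 h2)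
  · rw [MulAut.conj_apply] at hym
    exact hfree y l' hl'P hl'a hy1G hyl' m hm hm1 (mul_inv_eq_iff_eq_mul.1 hym)

/-- a solvable group whose order is divisible by four primes -/
structure CfgG (G : Type*) [Group G] (P : Finset ℕ) : Prop where
  hP : ∀ t ∈ P, t.Prime
  hP4 : P.card = 4
  solv : Group.IsSolvable G
  hG : ∀ t : ℕ, t.Prime → t ∣ Nat.card G → t ∈ P
  T3 : ∀ t ∈ P, ∀ u ∈ P, ∀ w ∈ P, t ≠ u → t ≠ w → u ≠ w → ∀ a b c : G, a ≠ 1 → b ≠ 1 → c ≠ 1 →
    a ^ t = 1 → b ^ u = 1 → c ^ w = 1 → a * b = b * a → a * c = c * a → b * c = c * b → False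
  joined : ∀ t ∈ P, ∀ u ∈ P, t ≠ u → ∃ a b : G, a ≠ 1 ∧ b ≠ 1 ∧ a ^ t = 1 ∧ b ^ u = 1 ∧
    a * b = b * a

namespace CfgG

variable {G : Type*} [Group G] [Finite G] {P : Finset ℕ}

theorem thick (h : CfgG G P) {t : ℕ} (ht : t ∈ P) : ∃ A : Subgroup G, EAb t A := by
  by_contra hcon
  push Not at hcon
  have := h.solv
  have ht' := h.hP t ht
  have := Fact.mk ht'
  -- a Sylow subgroup
  obtain ⟨T⟩ : Nonempty (Sylow t G) := inferInstance
  -- elements of order `t`
  have hP3 : (P.erase t).card = 3 := by rw [Finset.card_erase_of_mem ht, h.hP4]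
  have hel : ∀ y : G, y ^ t = 1 → ∃ g : G, g * y * g⁻¹ ∈ (T : Subgroup G) := by
    intro y hyt
    have hyp : IsPGroup t (Subgroup.zpowers y) := by
      rintro ⟨_, ⟨i, rfl⟩⟩
      refine ⟨1, Subtype.ext ?_⟩
      change (y ^ i) ^ t ^ 1 = 1
      rw [pow_one, ← zpow_natCast, ← zpow_mul, mul_comm, zpow_mul, zpow_natCast, hyt, one_zpow]
    obtain ⟨T', hT'⟩ := hyp.exists_le_sylow
    obtain ⟨g, hg⟩ := MulAction.exists_smul_eq G T' T
    refine ⟨g, ?_⟩
    have h1 : MulAut.conj g • (T' : Subgroup G) = T := by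
      rw [← hg]; rfl
    rw [← h1]
    have h2 := Subgroup.smul_mem_pointwise_smul y (MulAut.conj g) (T' : Subgroup G)
      (hT' (Subgroup.mem_zpowers y))
    simpa using h2
  obtain ⟨u0, hu0⟩ : (P.erase t).Nonempty := by rw [← Finset.card_pos, hP3]; norm_num
  obtain ⟨x, -, hx1, -, hxt, -, -⟩ := h.joined t ht u0 (Finset.mem_erase.1 hu0).2
    (Finset.mem_erase.1 hu0).1.symm
  obtain ⟨g0, hg0⟩ := hel x hxt
  have hTnt : Nontrivial T := by
    refine ⟨⟨⟨_, hg0⟩, 1, ?_⟩⟩
    intro h1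
    apply hx1
    have h2 : g0 * x * g0⁻¹ = 1 := congrArg Subtype.val h1
    rw [mul_inv_eq_one] at h2
    exact mul_eq_left.1 h2
  have hZnt : Nontrivial (Subgroup.center T) := T.isPGroup'.center_nontrivial
  obtain ⟨⟨c, hcZ⟩, hc1⟩ := exists_ne (1 : Subgroup.center T)
  have hc1' : (c : G) ≠ 1 := fun h => hc1 (Subtype.ext (Subtype.ext h))
  obtain ⟨z, hz1, hzt, hzT, hzc⟩ : ∃ z : G, z ≠ 1 ∧ z ^ t = 1 ∧ z ∈ (T : Subgroup G) ∧
      ∀ y ∈ (T : Subgroup G), y * z = z * y := by
    obtain ⟨k, hk⟩ := T.isPGroup' c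
    have hk' : (c : G) ^ t ^ k = 1 := congrArg Subtype.val hk
    classical
    have hex : ∃ k : ℕ, (c : G) ^ t ^ k = 1 := ⟨k, hk'⟩
    set n := Nat.find hex with hn
    have hn0 : n ≠ 0 := by
      intro h0
      have h1 := Nat.find_spec hex
      rw [← hn, h0, pow_zero, pow_one] at h1
      exact hc1' h1
    obtain ⟨n', hn'⟩ := Nat.exists_eq_succ_of_ne_zero hn0
    refine ⟨(c : G) ^ t ^ n', ?_, ?_, (T : Subgroup G).pow_mem c.2 _, ?_⟩
    · exact Nat.find_min hex (m := n') (by omega)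
    · rw [← pow_mul, ← pow_succ]
      have h1 := Nat.find_spec hex
      rw [← hn, hn'] at h1
      exact h1
    · intro y hy
      have h1 : (⟨y, hy⟩ : T) * c = c * ⟨y, hy⟩ := Subgroup.mem_center_iff.1 hcZ ⟨y, hy⟩
      have h2 : Commute y (c : G) := congrArg Subtype.val h1
      exact (h2.pow_right _).eq
  have hTz : ∀ y ∈ (T : Subgroup G), y ^ t = 1 → y ∈ Subgroup.zpowers z := by
    intro y hy hyt
    by_contra hc
    exact hcon _ (EAb_of_pair ht' hz1 hzt hyt hc (hzc y hy))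
  -- the centralizer of `z`
  let C : Subgroup G := Subgroup.centralizer {z}
  have hC : ∀ u ∈ P.erase t, u ∣ Nat.card C := by
    intro u hu
    obtain ⟨hut, huP⟩ := Finset.mem_erase.1 hu
    obtain ⟨y, b, hy1, hb1, hyt, hbu, hyb⟩ := h.joined t ht u huP hut.symm
    obtain ⟨g, hg⟩ := hel y hyt
    have h1 := hTz _ hg (by rw [conj_pow, hyt, mul_one, mul_inv_cancel])
    have h2 : g * y * g⁻¹ ≠ 1 := by
      intro h
      apply hy1
      rw [mul_inv_eq_one] at h
      exact mul_eq_left.1 h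
    have h3 : (g * b * g⁻¹) * z = z * (g * b * g⁻¹) := by
      apply commute_of_zpowers ht' hzt h1 h2
      calc g * b * g⁻¹ * (g * y * g⁻¹) = g * (b * y) * g⁻¹ := by group
        _ = g * (y * b) * g⁻¹ := by rw [hyb]
        _ = _ := by group
    have h4 : g * b * g⁻¹ ∈ C := Subgroup.mem_centralizer_singleton_iff.2 h3
    have h5 : orderOf (⟨_, h4⟩ : C) = u := by
      apply orderOf_eq_of_pow (h.hP u huP)
      · intro h6
        apply hb1
        have h7 : g * b * g⁻¹ = 1 := congrArg Subtype.val h6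
        rw [mul_inv_eq_one] at h7
        exact mul_eq_left.1 h7
      · apply Subtype.ext
        change (g * b * g⁻¹) ^ u = 1
        rw [conj_pow, hbu, mul_one, mul_inv_cancel]
    rw [← h5]
    exact orderOf_dvd_natCard _
  obtain ⟨K, hK, hKc⟩ := exists_hall (G := C) (fun u => u ∈ P.erase t)
  obtain ⟨u, hu, w, hw, huw, a, b, ha1, hb1, hau, hbw, hab⟩ := lucido (G := K) (P := P.erase t)
    (fun u hu => h.hP u (Finset.mem_erase.1 hu).2) hP3 hK (by
      intro u hu
      obtain ⟨x, hx1, hxu⟩ := dvd_card_hall hKc (h.hP u (Finset.mem_erase.1 hu).2) hu (hC u hu)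
      rw [← orderOf_eq_of_pow (h.hP u (Finset.mem_erase.1 hu).2) hx1 hxu]
      exact orderOf_dvd_natCard x)
  refine h.T3 u (Finset.mem_erase.1 hu).2 w (Finset.mem_erase.1 hw).2 t ht huw
    (Finset.mem_erase.1 hu).1 (Finset.mem_erase.1 hw).1 (a : C) (b : C) z
    (fun h => ha1 (Subtype.ext (Subtype.ext h))) (fun h => hb1 (Subtype.ext (Subtype.ext h))) hz1
    (congrArg (fun x : K => ((x : C) : G)) hau) (congrArg (fun x : K => ((x : C) : G)) hbw) hzt
    (congrArg (fun x : K => ((x : C) : G)) hab) ?_ ?_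
  · exact Subgroup.mem_centralizer_singleton_iff.1 (a : C).2
  · exact Subgroup.mem_centralizer_singleton_iff.1 (b : C).2

end CfgG

end Cfsg.Agent.H456
end

-- part: H456/FourH
section
set_option autoImplicit false
set_option linter.unusedSectionVars false

/-!
S3814: the end of the proof.
-/

namespace Cfsg.Agent.H456

open Cfsg.Agent
open scoped commutatorElement Pointwise

namespace CfgG

variable {G : Type*} [Group G] [Finite G] {P : Finset ℕ}

theorem false (h : CfgG G P) : False := by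
  have := h.solv
  have htop : (⊤ : Subgroup G) ≠ ⊥ := by
    intro hbot
    obtain ⟨t, ht⟩ : P.Nonempty := by rw [← Finset.card_pos, h.hP4]; norm_num
    obtain ⟨A, hA⟩ := h.thick ht
    apply hA.nc
    have h1 : ∀ g : G, g = 1 := by
      intro g
      have : g ∈ (⊤ : Subgroup G) := trivial
      rwa [hbot, Subgroup.mem_bot] at this
    have : Subsingleton A := ⟨fun a b => Subtype.ext (by rw [h1 a, h1 b])⟩
    infer_instance
  obtain ⟨p, hp', hpd, V0, hV0n, -, hV0b, hV0ab, hV0p⟩ :=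
    exists_elem_abelian (N := (⊤ : Subgroup G)) inferInstance htop
  have hp := h.hG p hp' hpd
  have hPc : (P.erase p).card = 3 := by rw [Finset.card_erase_of_mem hp, h.hP4]
  obtain ⟨H, hH, hHc⟩ := exists_hall (G := G) (fun t => t ∈ P.erase p)
  -- a minimal invariant subgroup
  obtain ⟨V, ⟨hVV0, hVb, hVinv⟩, hVmin⟩ : ∃ V : Subgroup G, (V ≤ V0 ∧ V ≠ ⊥ ∧
      ∀ g ∈ H, ∀ v ∈ V, g * v * g⁻¹ ∈ V) ∧ ∀ U : Subgroup G, (U ≤ V0 ∧ U ≠ ⊥ ∧
      ∀ g ∈ H, ∀ v ∈ U, g * v * g⁻¹ ∈ U) → U ≤ V → V ≤ U := by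
    have hne : ({V : Subgroup G | V ≤ V0 ∧ V ≠ ⊥ ∧ ∀ g ∈ H, ∀ v ∈ V, g * v * g⁻¹ ∈ V}).Nonempty :=
      ⟨V0, le_rfl, hV0b, fun g _ v hv => hV0n.conj_mem v hv g⟩
    obtain ⟨V, hV⟩ := Set.Finite.exists_minimal (Set.toFinite _) hne
    exact ⟨V, hV.1, fun U hU hUV => hV.2 hU hUV⟩
  have hVab : ∀ a ∈ V, ∀ b ∈ V, a * b = b * a := fun a ha b hb =>
    hV0ab a (hVV0 ha) b (hVV0 hb)
  have hVp : ∀ a ∈ V, a ^ p = 1 := fun a ha => hV0p a (hVV0 ha)
  let _ : CommGroup V := { (inferInstance : Group V) with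
    mul_comm := fun a b => Subtype.ext (hVab a a.2 b b.2) }
  have hHs : H ≤ stabU (MulAut.conj : G →* MulAut G) V := fun g hg =>
    mem_stabU_of_finite _ V (fun v hv => hVinv g hg v hv)
  let φ : H →* MulAut V := (resU (MulAut.conj : G →* MulAut G) V).comp (Subgroup.inclusion hHs)
  have hφ : ∀ (x : H) (v : V), ((φ x v : V) : G) = x * v * (x : G)⁻¹ := fun x v => rfl
  have hφc : ∀ (x : H) (v : V), φ x v = v ↔ (x : G) * v = v * x := by
    intro x v
    rw [Subtype.ext_iff, hφ, mul_inv_eq_iff_eq_mul]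
  have hVnt : ∃ v : V, v ≠ 1 := Subgroup.ne_bot_iff_exists_ne_one.1 hVb
  have hcV : (Nat.card H).Coprime (Nat.card V) := by
    apply coprime_of_primes
    intro t ht h1 h2
    have h3 := hH t ht h1
    have h4 := (Nat.prime_dvd_prime_iff_eq ht hp').1 (dvd_of_exp hVp ht h2)
    exact (Finset.mem_erase.1 h3).1 h4
  have hthick : ∀ t ∈ P.erase p, ∃ A : Subgroup H, EAb t A := fun t ht =>
    EAb_hall hHc (h.hP t (Finset.mem_erase.1 ht).2) ht (h.thick (Finset.mem_erase.1 ht).2)
  have hjoined : ∀ t ∈ P.erase p, ∀ u ∈ P.erase p, t ≠ u → ∃ a b : H, a ≠ 1 ∧ b ≠ 1 ∧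
      a ^ t = 1 ∧ b ^ u = 1 ∧ a * b = b * a := fun t ht u hu htu =>
    joined_hall hHc (h.hP t (Finset.mem_erase.1 ht).2) ht (h.hP u (Finset.mem_erase.1 hu).2) hu
      htu (h.joined t (Finset.mem_erase.1 ht).2 u (Finset.mem_erase.1 hu).2 htu)
  have hTV : ∀ t ∈ P.erase p, ∀ u ∈ P.erase p, t ≠ u → ∀ a b : H, a ≠ 1 → b ≠ 1 →
      a ^ t = 1 → b ^ u = 1 → a * b = b * a → ∀ v : V, v ≠ 1 → φ a v = v → φ b v = v → False := by
    intro t ht u hu htu a b ha1 hb1 hat hbu hab v hv1 hav hbv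
    exact h.T3 t (Finset.mem_erase.1 ht).2 u (Finset.mem_erase.1 hu).2 p hp htu
      (Finset.mem_erase.1 ht).1 (Finset.mem_erase.1 hu).1 a b v (fun h => ha1 (Subtype.ext h))
      (fun h => hb1 (Subtype.ext h)) (fun h => hv1 (Subtype.ext h)) (congrArg Subtype.val hat)
      (congrArg Subtype.val hbu) (hVp v v.2) (congrArg Subtype.val hab) ((hφc a v).1 hav)
      ((hφc b v).1 hbv)
  by_cases hker : φ.ker = ⊥
  · have hinj : Function.Injective φ := (MonoidHom.ker_eq_bot_iff φ).1 hker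
    have hB : CfgB φ (P.erase p) := by
      refine
        { hP := fun t ht => h.hP t (Finset.mem_erase.1 ht).2
          hP3 := hPc
          solv := inferInstance
          hH := hH
          cV := hcV
          thick := hthick
          faithful := fun g hg => hinj (by rw [map_one]; exact MulEquiv.ext hg)
          irr := ?_
          ntV := hVnt
          TV := hTV
          T3 := ?_
          joined := hjoined }
      · intro U hU
        by_cases hUb : U = ⊥
        · exact Or.inl hUb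
        right
        have h1 : V ≤ U.map V.subtype := by
          apply hVmin
          · refine ⟨?_, ?_, ?_⟩
            · rintro _ ⟨v, -, rfl⟩
              exact hVV0 v.2
            · intro hb
              apply hUb
              rw [Subgroup.map_eq_bot_iff_of_injective U V.subtype_injective] at hb
              exact hb
            · rintro g hg _ ⟨v, hv, rfl⟩
              exact ⟨φ ⟨g, hg⟩ v, hU ⟨g, hg⟩ v hv, rfl⟩
          · rintro _ ⟨v, -, rfl⟩
            exact v.2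
        rw [eq_top_iff]
        intro v _
        obtain ⟨u, hu, huv⟩ := h1 v.2
        rw [← Subtype.ext huv]
        exact hu
      · intro t ht u hu w hw htu htw huw a b c ha1 hb1 hc1 hat hbu hcw hab hac hbc
        exact h.T3 t (Finset.mem_erase.1 ht).2 u (Finset.mem_erase.1 hu).2 w
          (Finset.mem_erase.1 hw).2 htu htw huw a b c (fun h => ha1 (Subtype.ext h))
          (fun h => hb1 (Subtype.ext h)) (fun h => hc1 (Subtype.ext h))
          (congrArg Subtype.val hat) (congrArg Subtype.val hbu) (congrArg Subtype.val hcw)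
          (congrArg Subtype.val hab) (congrArg Subtype.val hac) (congrArg Subtype.val hbc)
    exact hB.false
  · -- the kernel is not trivial
    obtain ⟨q, hq', hqd, Q0, hQn, hQk, hQb, hQab, hQq⟩ :=
      exists_elem_abelian (N := φ.ker) inferInstance hker
    have hq := hH q hq' hqd
    obtain ⟨r, s, hrs, hPe⟩ := Finset.card_eq_two.1
      (show ((P.erase p).erase q).card = 2 by rw [Finset.card_erase_of_mem hq, hPc])
    have hr0 : r ∈ (P.erase p).erase q := by rw [hPe]; simp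
    have hs0 : s ∈ (P.erase p).erase q := by rw [hPe]; simp
    obtain ⟨hrq, hr⟩ := Finset.mem_erase.1 hr0
    obtain ⟨hsq, hs⟩ := Finset.mem_erase.1 hs0
    have hr' := h.hP r (Finset.mem_erase.1 hr).2
    have hs' := h.hP s (Finset.mem_erase.1 hs).2
    obtain ⟨L, hL, hLc⟩ := exists_hall (G := H) (fun t => t = r ∨ t = s)
    let _ : CommGroup Q0 := { (inferInstance : Group Q0) with
      mul_comm := fun a b => Subtype.ext (hQab a a.2 b b.2) }
    let ψ : L →* MulAut Q0 := (MulAut.conjNormal (H := Q0)).comp L.subtype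
    have hψ : ∀ (x : L) (w : Q0), ((ψ x w : Q0) : H) = x * w * (x : H)⁻¹ := fun x w => rfl
    have hψc : ∀ (x : L) (w : Q0), ψ x w = w ↔ (x : H) * w = w * x := by
      intro x w
      rw [Subtype.ext_iff, hψ, mul_inv_eq_iff_eq_mul]
    have hQV : ∀ w ∈ Q0, ∀ v : V, (w : G) * v = v * w := by
      intro w hw v
      have h1 : φ w = 1 := hQk hw
      exact (hφc w v).1 (by rw [h1]; rfl)
    have hA : CfgA (φ.comp L.subtype) ψ r s := by
      refine
        { hr := hr'
          hs := hs'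
          hrs := hrs
          hL := hL
          cV := hcV.coprime_dvd_left (Subgroup.card_subgroup_dvd_card L)
          cQ := ?_
          thr := EAb_hall hLc hr' (Or.inl rfl) (hthick r hr)
          ths := EAb_hall hLc hs' (Or.inr rfl) (hthick s hs)
          T1 := ?_
          TV := ?_
          TQ := ?_
          ntV := hVnt
          ntQ := Subgroup.ne_bot_iff_exists_ne_one.1 hQb }
      · apply coprime_of_primes
        intro t ht h1 h2
        have h3 := hL t ht h1
        have h4 := (Nat.prime_dvd_prime_iff_eq ht hq').1 (dvd_of_exp hQq ht h2)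
        rcases h3 with h3 | h3
        · exact hrq (h3.symm.trans h4)
        · exact hsq (h3.symm.trans h4)
      · rintro x hx1 hx ⟨v, hv1, hv⟩ ⟨w, hw1, hw⟩
        obtain ⟨t, ht, htq, hxt⟩ : ∃ t ∈ P.erase p, t ≠ q ∧ x ^ t = 1 := by
          rcases hx with hx | hx
          · exact ⟨r, hr, hrq, hx⟩
          · exact ⟨s, hs, hsq, hx⟩
        refine h.T3 t (Finset.mem_erase.1 ht).2 q (Finset.mem_erase.1 hq).2 p hp htq
          (Finset.mem_erase.1 ht).1 (Finset.mem_erase.1 hq).1 ((x : H) : G) ((w : H) : G) v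
          (fun h => hx1 (Subtype.ext (Subtype.ext h)))
          (fun h => hw1 (Subtype.ext (Subtype.ext h))) (fun h => hv1 (Subtype.ext h))
          (congrArg (fun x : L => ((x : H) : G)) hxt) ?_ (hVp v v.2) ?_ ((hφc x v).1 hv)
          (hQV w w.2 v)
        · exact congrArg Subtype.val (hQq w w.2)
        · exact congrArg Subtype.val ((hψc x w).1 hw)
      · intro a b ha1 hb1 har hbs hab v hv1 hav hbv
        exact hTV r hr s hs hrs a b (fun h => ha1 (Subtype.ext h))
          (fun h => hb1 (Subtype.ext h)) (congrArg Subtype.val har) (congrArg Subtype.val hbs)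
          (congrArg Subtype.val hab) v hv1 hav hbv
      · intro a b ha1 hb1 har hbs hab w hw1 haw hbw
        refine h.T3 r (Finset.mem_erase.1 hr).2 s (Finset.mem_erase.1 hs).2 q
          (Finset.mem_erase.1 hq).2 hrs hrq hsq ((a : H) : G) ((b : H) : G) ((w : H) : G)
          (fun h => ha1 (Subtype.ext (Subtype.ext h)))
          (fun h => hb1 (Subtype.ext (Subtype.ext h)))
          (fun h => hw1 (Subtype.ext (Subtype.ext h)))
          (congrArg (fun x : L => ((x : H) : G)) har) (congrArg (fun x : L => ((x : H) : G)) hbs)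
          (congrArg Subtype.val (hQq w w.2)) (congrArg (fun x : L => ((x : H) : G)) hab) ?_ ?_
        · exact congrArg Subtype.val ((hψc a w).1 haw)
        · exact congrArg Subtype.val ((hψc b w).1 hbw)
    exact hA.false

end CfgG

/-- commuting elements of coprime orders -/
theorem exists_pair_of_orderOf {G : Type*} [Group G] {p q : ℕ} (hp : p.Prime) (hq : q.Prime)
    {g : G} (hg : orderOf g = p * q) : ∃ a b : G, a ≠ 1 ∧ b ≠ 1 ∧ a ^ p = 1 ∧ b ^ q = 1 ∧
      a * b = b * a := by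
  refine ⟨g ^ q, g ^ p, ?_, ?_, ?_, ?_, ?_⟩
  · intro h
    have h1 := Nat.le_of_dvd hq.pos (orderOf_dvd_of_pow_eq_one h)
    rw [hg] at h1
    have := hp.two_le
    have := hq.pos
    nlinarith
  · intro h
    have h1 := Nat.le_of_dvd hp.pos (orderOf_dvd_of_pow_eq_one h)
    rw [hg] at h1
    have := hq.two_le
    have := hp.pos
    nlinarith
  · rw [← pow_mul, mul_comm, ← hg, pow_orderOf_eq_one]
  · rw [← pow_mul, ← hg, pow_orderOf_eq_one]
  · rw [← pow_add, ← pow_add, add_comm]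

theorem orderOf_triple {G : Type*} [Group G] {p q r : ℕ} (hp : p.Prime) (hq : q.Prime)
    (hr : r.Prime) (hpq : p ≠ q) (hpr : p ≠ r) (hqr : q ≠ r) {a b c : G} (ha1 : a ≠ 1)
    (hb1 : b ≠ 1) (hc1 : c ≠ 1) (hap : a ^ p = 1) (hbq : b ^ q = 1) (hcr : c ^ r = 1)
    (hab : a * b = b * a) (hac : a * c = c * a) (hbc : b * c = c * b) :
    orderOf (a * b * c) = p * q * r := by
  have ha := orderOf_eq_of_pow hp ha1 hap
  have hb := orderOf_eq_of_pow hq hb1 hbq
  have hc := orderOf_eq_of_pow hr hc1 hcr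
  have h1 : orderOf (a * b) = p * q := by
    rw [(show Commute a b from hab).orderOf_mul_eq_mul_orderOf_of_coprime (by
      rw [ha, hb]; exact (Nat.coprime_primes hp hq).2 hpq), ha, hb]
  have h2 : Commute (a * b) c := (show Commute a c from hac).mul_left hbc
  rw [h2.orderOf_mul_eq_mul_orderOf_of_coprime (by
    rw [h1, hc]
    exact Nat.Coprime.mul_left ((Nat.coprime_primes hp hr).2 hpr)
      ((Nat.coprime_primes hq hr).2 hqr)), h1, hc]

end Cfsg.Agent.H456
end

-- part: S3814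
section
set_option autoImplicit false
open Cfsg

namespace Cfsg.Agent.S3814

open Cfsg.Agent.H456 in
/-- A criterion for nonsolvability from element orders: let G be a finite group and σ a set of at least four primes such that for all distinct p, q ∈ σ the product pq is the order of some element of G, while for all pairwise distinct p, q, r ∈ σ no element of G has order pqr. Then G is not solvable. -/
theorem result {G : Type*} [Group G] [Finite G]
    (σ : Finset ℕ) (hσ : 4 ≤ σ.card) (hprime : ∀ p ∈ σ, p.Prime)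
    (h2 : ∀ p ∈ σ, ∀ q ∈ σ, p ≠ q → ∃ g : G, orderOf g = p * q)
    (h3 : ∀ p ∈ σ, ∀ q ∈ σ, ∀ r ∈ σ, p ≠ q → q ≠ r → p ≠ r → ∀ g : G, orderOf g ≠ p * q * r) :
    ¬ Group.IsSolvable G := by
  intro hsolv
  obtain ⟨P, hPσ, hP4⟩ := Finset.exists_subset_card_eq hσ
  obtain ⟨L, hL, hLc⟩ := exists_hall (G := G) (fun t => t ∈ P)
  have hC : CfgG L P := by
    refine
      { hP := fun t ht => hprime t (hPσ ht)
        hP4 := hP4
        solv := inferInstance
        hG := hL
        T3 := ?_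
        joined := ?_ }
    · intro t ht u hu w hw htu htw huw a b c ha1 hb1 hc1 hat hbu hcw hab hac hbc
      apply h3 t (hPσ ht) u (hPσ hu) w (hPσ hw) htu huw htw ((a * b * c : L) : G)
      rw [Subgroup.orderOf_coe]
      exact orderOf_triple (hprime t (hPσ ht)) (hprime u (hPσ hu)) (hprime w (hPσ hw)) htu htw
        huw ha1 hb1 hc1 hat hbu hcw hab hac hbc
    · intro t ht u hu htu
      apply joined_hall hLc (hprime t (hPσ ht)) ht (hprime u (hPσ hu)) hu htu
      obtain ⟨g, hg⟩ := h2 t (hPσ ht) u (hPσ hu) htu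
      exact exists_pair_of_orderOf (hprime t (hPσ ht)) (hprime u (hPσ hu)) hg
  exact hC.false

end Cfsg.Agent.S3814
end
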