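import Cfsg.Agent.H381.SzMain_mg
import Cfsg.Agent.Solvable.UniqueOrderP
import Cfsg.Agent.Lib.CoprimeHyperplane
import Cfsg.Statements.S3533
import Cfsg.Agent.S3814
import Cfsg.Agent.FastGrp
import Cfsg.Agent.Prune
set_option linter.all false
prune_inst 0x7ff0feffcdf88ddfffff7e7ffefddffffcfdffffffdffbfbbffcbbefafdfeb0af9e5fb8dffebdbfe0ec26ebe28fc7bd3ffffeabfef6fdc7ffffd5ff45ffbff9fffffbd1d71f7ad3ecfbd6fff93f877ce7f3fffffffffffffffffffffffffffbeffffffffffff
open scoped Cfsg.Agent.FastGrp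

-- part: H381/SzGen
section
/-!
# Extensions by Suzuki groups over subfields
-/

set_option autoImplicit false
set_option linter.unusedSectionVars false

namespace Cfsg.Agent.H381.SzGen

open Subgroup
open scoped commutatorElement
open Cfsg (piCoreOf fittingOf IsPiHallOf)
open Cfsg.Agent.H381.Tools
open Cfsg.Agent.H381.Lucido
open Cfsg.Agent.H381.Cover
open Cfsg.Agent.H381.SzCore
open Cfsg.Agent.H381.SzOne
open Cfsg.Agent.H381.Criterion (commutator_zpowers_le normalizer_le_normalizer_centralizer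
  orderOf_prime_pow orderOf_conj exists_unique_of_fpf mem_normalizer_unique mem_centralizer_bot
  le_normalizer_inf)
open Cfsg.Agent.OddOrderLocal.PiCoreOf (piCoreOf_le le_normalizer_piCoreOf)
open Cfsg.Agent.OddOrderLocal.FitCores (isPGroup_piCoreOf core_le_centralizer_core)
open Cfsg.Agent.SignalizersComponents.LocalGlobal (NoFixed)

universe u v w

variable {ty v : ℕ → ℕ} {E : Type u} [Group E] [Finite E] {T : Type v} [Group T] {L : Type w}
  [Group L]

/-- hypotheses on a Suzuki group, possibly over a smaller field -/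
structure KHyp (ty : ℕ → ℕ) (L : Type w) [Group L] : Prop extends LHyp0 ty L where
  frob : ∃ p : ℕ, p.Prime ∧ ty p = 1 ∧ ∃ (A : Subgroup L) (w a : L), IsPGroup 2 A ∧
    w ∈ normalizer (A : Set L) ∧ orderOf w = p ∧ a ∈ A ∧ ¬ Commute w a
  el8 : ∃ A : Subgroup L, Nat.card A = 8 ∧ ∀ x ∈ A, x * x = 1

/-- a nontrivial `O_a(H)` gives a Hall `b`-subgroup with a unique subgroup of order `b` -/
theorem uniq_of_core {f : E →* T} (hS : Group.IsSolvable f.ker) {π : Set ℕ} {H : Subgroup E}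
    (hH : IsPiHallOf π H f.ker) {a b : ℕ} (ha : a.Prime) (hb : b.Prime) (hab : a ≠ b) (hbπ : b ∈ π)
    (hbK : b ∣ Nat.card f.ker) (he : ¬ Edge f.ker a b) (hcore : piCoreOf {a} H ≠ ⊥) :
    ∃ R, IsPiHallOf {b} R f.ker ∧ Uniq b R := by
  have hHK : H ≤ f.ker := hH.1
  have hHs : Group.IsSolvable H :=
    Group.isSolvable_of_isSolvable_injective (f := Subgroup.inclusion hHK)
      (Subgroup.inclusion_injective _)
  obtain ⟨B, hB, hBb⟩ := exists_hall hHs hb
  have hBH : B ≤ H := hB.1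
  have hBHall : IsPiHallOf {b} B f.ker := hall_trans hH hbπ hB
  have hAa := isPGroup_piCoreOf ha H
  refine ⟨B, hBHall, exists_unique_of_fpf hb hBb ?_ (not_dvd_card ha hb hab.symm hAa) hcore
    (hBH.trans (le_normalizer_piCoreOf _ _)) ?_⟩
  · rintro rfl
    have := Cfsg.Agent.OddOrderLocal.HallPi.prime_dvd_card hBHall hb (Set.mem_singleton b) hbK
    rw [card_bot, Nat.dvd_one] at this
    exact hb.one_lt.ne' this
  · intro x hx hxb
    exact fpf_of_not_edge ha he hAa ((piCoreOf_le _ _).trans hHK) (hHK (hBH hx)) hxb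

/-- no edge: one of the two Hall subgroups has a unique subgroup of prime order -/
theorem uniq_or {f : E →* T} (hS : Group.IsSolvable f.ker) {a b : ℕ} (ha : a.Prime) (hb : b.Prime)
    (hab : a ≠ b) (haK : a ∣ Nat.card f.ker) (hbK : b ∣ Nat.card f.ker) (he : ¬ Edge f.ker a b) :
    (∃ R, IsPiHallOf {a} R f.ker ∧ Uniq a R) ∨ (∃ R, IsPiHallOf {b} R f.ker ∧ Uniq b R) := by
  obtain ⟨H, hH⟩ := Cfsg.Agent.OddOrderLocal.HallPi.exists_isPiHallOf hS ({a, b} : Set ℕ)
  have hHK : H ≤ f.ker := hH.1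
  have hHs : Group.IsSolvable H :=
    Group.isSolvable_of_isSolvable_injective (f := Subgroup.inclusion hHK)
      (Subgroup.inclusion_injective _)
  have hHpi : ∀ t : ℕ, t.Prime → t ∣ Nat.card H → t = a ∨ t = b := by
    intro t ht htd
    have := hH.2.1 t ht htd
    simpa using this
  by_cases h1 : piCoreOf {a} H = ⊥
  · by_cases h2 : piCoreOf {b} H = ⊥
    · exfalso
      have haH : a ∣ Nat.card H :=
        Cfsg.Agent.OddOrderLocal.HallPi.prime_dvd_card hH ha (by simp) haK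
      obtain ⟨h, hh, hha⟩ := exists_mem_of_dvd ha haH
      have h3 : h ∈ fittingOf H := by
        apply mem_fitting' hHs hh
        intro t ht htd
        rcases hHpi t ht htd with rfl | rfl
        · rw [h1]; exact mem_centralizer_bot h
        · rw [h2]; exact mem_centralizer_bot h
      have h4 : fittingOf H ≤ ⊥ := by
        apply fitting_le
        intro t ht htd
        rcases hHpi t ht htd with rfl | rfl
        · rw [h1]
        · rw [h2]
      have h5 := h4 h3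
      rw [mem_bot] at h5
      rw [h5, orderOf_one] at hha
      exact ha.one_lt.ne hha
    · exact Or.inl (uniq_of_core hS hH hb ha hab.symm (by simp) haK (fun h => he h.symm) h2)
  · exact Or.inr (uniq_of_core hS hH ha hb hab (by simp) hbK he h1)

/-- **A central involution**: the odd primes of the kernel have type `1`. -/
theorem type_of_central (hty : TyHyp ty) (W : WHyp ty v E) (hL : KHyp ty L) {f : E →* T}
    {ι : L →* T} (hι : Function.Injective ι) (hS : Group.IsSolvable f.ker) (hE : Cov f ι ⊤) {z : E}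
    (hz : orderOf z = 2) (hzc : ∀ g : E, Commute z g) {r : ℕ} (hr : r.Prime) (hr2 : r ≠ 2)
    (hrd : r ∣ Nat.card f.ker) : ty r = 1 := by
  by_contra hr1
  have hr0 : ty r ≠ 0 := fun h => hr2 (hty.eq_two r hr h)
  have := hL.simple
  -- elements of odd order in the kernel are not central
  have step1 : ∀ t : ℕ, t.Prime → ty t ≠ 0 → ∀ x : E, orderOf x = t →
      ¬ Cov f ι (centralizer {x}) := by
    intro t ht ht0 x hx
    exact W.not_cov hL.toLHyp0 hι Nat.prime_two ht (by rw [hty.two]; exact ht0.symm) hz hx (hzc x)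
      (fun g _ => mem_cent_iff.mpr (hzc g)) le_rfl
  have nouniq : ∀ t : ℕ, t.Prime → ty t ≠ 0 → t ∣ Nat.card f.ker → ∀ R, IsPiHallOf {t} R f.ker →
      ¬ Uniq t R := by
    intro t ht ht0 htd R hR hu
    obtain ⟨x, hx, hxt⟩ := exists_mem_of_dvd ht htd
    exact step1 t ht ht0 x hxt (cov_of_uniq hL.toLHyp0 hS hE ht hR hu hx hxt)
  obtain ⟨p, hp, hp1, A, w, a, hA, hw, hwp, ha, hwa⟩ := hL.frob
  have hp2 : p ≠ 2 := by rintro rfl; rw [hty.two] at hp1; omega
  have hpr : p ≠ r := by rintro rfl; exact hr1 hp1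
  have hpK : ¬ p ∣ Nat.card f.ker := by
    intro hpd
    have he : ¬ Edge f.ker p r := by
      rintro ⟨x, hx, y, hy, hxy, hxp, hyr⟩
      exact W.no3 Nat.prime_two hp hr (by rw [hty.two, hp1]; norm_num) (by rw [hp1]; exact Ne.symm hr1)
        (by rw [hty.two]; exact hr0.symm) hz hxp hyr (hzc x) (hzc y) hxy
    rcases uniq_or hS hp hr hpr hpd hrd he with ⟨R, hR, hu⟩ | ⟨R, hR, hu⟩
    · exact nouniq p hp (by rw [hp1]; norm_num) hpd R hR hu
    · exact nouniq r hr hr0 hrd R hR hu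
  obtain ⟨R, hR, hRr⟩ := exists_hall hS hr
  have hM : Cov f ι (⊤ ⊓ normalizer (R : Set E)) := hE.frattini hS le_top
    (by rw [normalizer_eq_top]) le_rfl hR
  rw [top_inf_eq] at hM
  obtain ⟨y, hy, hyr⟩ := exists_mem_of_dvd hr
    (Cfsg.Agent.OddOrderLocal.HallPi.prime_dvd_card hR hr (Set.mem_singleton r) hrd)
  have hnc : ¬ Cov f ι (normalizer (R : Set E) ⊓ centralizer (R : Set E)) := by
    intro hc
    exact step1 r hr hr0 y hyr (hc.mono (inf_le_right.trans (centralizer_le (by simpa using hy))))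
  obtain ⟨Y, hYM, g, hg, hY2, hYA, hgY, hgw, m, hm⟩ := hM.lift_pair hS Nat.prime_two hp hA hw
    (k := 1) (by rw [hwp, pow_one])
  have hgp : orderOf g = p := by
    have h1 : g ^ p ∈ f.ker := by
      rw [MonoidHom.mem_ker, map_pow, hgw, ← map_pow, ← hwp, pow_orderOf_eq_one, map_one]
    have h2 : orderOf (g ^ p) ∣ Nat.card f.ker := Subgroup.orderOf_dvd_natCard _ h1
    have h3 : orderOf (g ^ p) ∣ p ^ m := hm ▸ orderOf_pow_dvd p
    have h4 : (p ^ m).Coprime (Nat.card f.ker) := Nat.Coprime.pow_left m ((hp.coprime_iff_not_dvd).mpr hpK)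
    have h5 : orderOf (g ^ p) = 1 := Nat.eq_one_of_dvd_coprimes h4 h3 h2
    rw [orderOf_eq_one_iff] at h5
    have hpf : Fact p.Prime := ⟨hp⟩
    refine orderOf_eq_prime h5 ?_
    rintro rfl
    rw [map_one] at hgw
    have h6 : w = 1 := hι (by rw [← hgw, map_one])
    rw [h6, orderOf_one] at hwp
    exact hp.one_lt.ne hwp
  apply hnc
  have hfix : R ⊓ centralizer {g} = ⊥ := by
    by_contra hne
    obtain ⟨y', hy', hyr'⟩ := exists_mem_of_ne_bot hr (hRr.to_le inf_le_left) hne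
    rw [mem_fix] at hy'
    exact W.no3 Nat.prime_two hp hr (by rw [hty.two, hp1]; norm_num) (by rw [hp1]; exact Ne.symm hr1)
      (by rw [hty.two]; exact hr0.symm) hz hgp hyr' (hzc g) (hzc y') hy'.2
  have hNF : NoFixed.{u} p {2} := by
    apply Cfsg.Agent.SignalizersComponents.NoFixedGen.noFixed hp
    intro _ m hm
    have := hty.fermat p hp hp1 1 m le_rfl (Nat.one_le_iff_ne_zero.mpr hm)
    rw [pow_one] at this
    have := hp.two_le
    omega
  have h1 := tool hp Nat.prime_two hr hp2 hr2 hpr.symm hNF hRr hY2 hgp hg hgY hYM hfix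
  exact hM.centralizer_of_commutator le_rfl hYM hYA hg hgw ha hwa h1

section restrict

variable {f : E →* T} {ι : L →* T}

theorem whyp_subgroup (W : WHyp ty v E) (C : Subgroup E) : WHyp ty v C where
  pi g := by rw [← Subgroup.orderOf_coe]; exact W.pi g
  triple g := by rw [← Subgroup.orderOf_coe]; exact W.triple g
  eight g := by rw [← Subgroup.orderOf_coe]; exact W.eight g
  bexp g := by rw [← Subgroup.orderOf_coe]; exact W.bexp g

theorem cov_restrict {C : Subgroup E} (h : Cov f ι C) : Cov (f.comp C.subtype) ι ⊤ := by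
  rw [Cov, ← Subgroup.map_map, ← MonoidHom.range_eq_map, Subgroup.range_subtype]
  exact h

theorem card_ker_restrict (f : E →* T) (C : Subgroup E) :
    Nat.card (f.comp C.subtype).ker = Nat.card (C ⊓ f.ker : Subgroup E) := by
  have h1 : (f.comp C.subtype).ker.map C.subtype = C ⊓ f.ker := by
    ext x
    rw [mem_inf]
    constructor
    · rintro ⟨y, hy, rfl⟩
      exact ⟨y.2, hy⟩
    · rintro ⟨hx, hx'⟩
      exact ⟨⟨x, hx⟩, hx', rfl⟩
  rw [← h1]
  exact (Subgroup.card_map_of_injective C.subtype_injective).symm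

theorem solvable_restrict (hS : Group.IsSolvable f.ker) (C : Subgroup E) :
    Group.IsSolvable (f.comp C.subtype).ker := by
  let j : (f.comp C.subtype).ker →* f.ker :=
    { toFun := fun x => ⟨((x : C) : E), x.2⟩
      map_one' := rfl
      map_mul' := fun a b => rfl }
  exact Group.isSolvable_of_isSolvable_injective (f := j) (fun a b hab => by
    apply Subtype.ext; apply Subtype.ext
    exact congrArg (fun z : f.ker => (z : E)) hab)

/-- **Centralisers of involutions**: the odd primes of the kernel have type `1`. -/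
theorem type_of_centralizer (hty : TyHyp ty) (W : WHyp ty v E) (hL : KHyp ty L)
    (hι : Function.Injective ι) (hS : Group.IsSolvable f.ker) {z : E} (hz : orderOf z = 2)
    (hE : Cov f ι (centralizer {z})) {r : ℕ} (hr : r.Prime) (hr2 : r ≠ 2)
    (hrd : r ∣ Nat.card (centralizer {z} ⊓ f.ker : Subgroup E)) : ty r = 1 := by
  have hzC : z ∈ centralizer ({z} : Set E) := mem_cent_iff.mpr (Commute.refl z)
  refine type_of_central (E := centralizer ({z} : Set E)) hty (whyp_subgroup W _) hL hι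
    (solvable_restrict hS _) (cov_restrict hE) (z := ⟨z, hzC⟩) ?_ ?_ hr hr2 ?_
  · rw [Subgroup.orderOf_mk, hz]
  · intro g
    exact Subtype.ext (mem_cent_iff.mp g.2).eq
  · rw [card_ker_restrict]; exact hrd

/-- **Central elements** -/
theorem isolated_gen (hty : TyHyp ty) (W : WHyp ty v E) (hL : KHyp ty L)
    (hι : Function.Injective ι) (hS : Group.IsSolvable f.ker) {p r : ℕ} (hp : p.Prime)
    (hr : r.Prime) {z : E} (hz : orderOf z = p) (hcov : Cov f ι (centralizer {z}))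
    (hrd : r ∣ Nat.card (centralizer {z} ⊓ f.ker : Subgroup E)) (hpr : ty p = 0 → ty r ≠ 1) :
    ty r = ty p := by
  by_contra hne
  by_cases hp0 : ty p = 0
  · have hp2 := hty.eq_two p hp hp0
    subst hp2
    have hr2 : r ≠ 2 := by rintro rfl; exact hne rfl
    exact hpr hp0 (type_of_centralizer hty W hL hι hS hz hcov hr hr2 hrd)
  set N : Subgroup E := centralizer {z} ⊓ f.ker with hN
  have hNs : Group.IsSolvable N :=
    Group.isSolvable_of_isSolvable_injective (f := Subgroup.inclusion (inf_le_right : N ≤ f.ker))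
      (Subgroup.inclusion_injective _)
  have hnorm : centralizer {z} ≤ normalizer (N : Set E) := by
    apply le_normalizer_inf le_normalizer
    rw [normalizer_eq_top]; exact le_top
  obtain ⟨R, hR, hRr⟩ := exists_hall hNs hr
  have hRN : R ≤ N := hR.1
  set! M : Subgroup E := centralizer {z} ⊓ normalizer (R : Set E) with hM
  have hMcov : Cov f ι M := hcov.frattini hNs inf_le_left hnorm inf_le_right hR
  have hMR : M ≤ normalizer (R : Set E) := inf_le_right
  have hMz : M ≤ centralizer {z} := inf_le_left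
  obtain ⟨y, hy, hyr⟩ := exists_mem_of_dvd hr
    (Cfsg.Agent.OddOrderLocal.HallPi.prime_dvd_card hR hr (Set.mem_singleton r) hrd)
  have hzy : Commute z y := mem_cent_iff.mp (mem_inf.mp (hRN hy)).1
  have hnc : ¬ Cov f ι (M ⊓ centralizer (R : Set E)) := by
    apply W.not_cov hL.toLHyp0 hι hp hr (Ne.symm hne) hz hyr hzy (inf_le_left.trans hMz)
    exact inf_le_right.trans (centralizer_le (by simpa using hy))
  have hr2 : r ≠ 2 := by
    rintro rfl
    exact hnc (two_central W hL.toLHyp0 hS hMcov hMR hRr)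
  have hr0 : ty r ≠ 0 := fun h => hr2 (hty.eq_two r hr h)
  obtain ⟨i, hi, hi2, x, hx, hix⟩ := exists_involution W hL.toLHyp0 hι hMcov
  have hiR := fix_involution hL.toLHyp0 hMcov hMR hnc hι hi hi2 hx hix
  obtain ⟨y', hy', hyr'⟩ := exists_mem_of_ne_bot hr (hRr.to_le inf_le_left) hiR
  rw [mem_fix] at hy'
  exact W.no3 hp hr Nat.prime_two (Ne.symm hne) (by rw [hty.two]; exact hr0)
    (by rw [hty.two]; exact hp0) hz hyr' hi2 (mem_cent_iff.mp (mem_inf.mp (hRN hy'.1)).1)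
    (mem_cent_iff.mp (hMz hi)) hy'.2.symm

/-- no edge from central elements -/
theorem no_edge (hty : TyHyp ty) (W : WHyp ty v E) (hL : KHyp ty L)
    (hι : Function.Injective ι) (hS : Group.IsSolvable f.ker) {p r : ℕ} (hp : p.Prime)
    (hr : r.Prime) (hne : ty r ≠ ty p) (hpr : ty p = 0 → ty r ≠ 1)
    (hc : ∀ z ∈ f.ker, orderOf z = p → Cov f ι (centralizer {z})) : ¬ Edge f.ker p r := by
  rintro ⟨z, hz, w, hw, hzw, hzp, hwr⟩
  exact hne (isolated_gen hty W hL hι hS hp hr hzp (hc z hz hzp)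
    (dvd_card_of_mem (mem_inf.mpr ⟨mem_cent_iff.mpr hzw, hw⟩) hwr) hpr)

/-- involutions of the kernel are central -/
theorem central_two (W : WHyp ty v E) (hL : KHyp ty L) (hS : Group.IsSolvable f.ker)
    (hE : Cov f ι ⊤) {z : E} (hz : z ∈ f.ker) (hz2 : orderOf z = 2) : Cov f ι (centralizer {z}) := by
  obtain ⟨P, hP, hPp⟩ := exists_hall hS Nat.prime_two
  apply cov_of_hall hS Nat.prime_two hP _ hz hz2
  intro w hw hwp
  have hM : Cov f ι (⊤ ⊓ normalizer (P : Set E)) := hE.frattini hS le_top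
    (by rw [normalizer_eq_top]) le_rfl hP
  rw [top_inf_eq] at hM
  have h1 := two_central W hL.toLHyp0 hS hM le_rfl hPp
  exact h1.mono (inf_le_right.trans (centralizer_le (by simpa using hw)))

/-- a Hall subgroup with a unique subgroup of prime order gives no edges -/
theorem no_edge_of_uniq (hty : TyHyp ty) (W : WHyp ty v E) (hL : KHyp ty L)
    (hι : Function.Injective ι) (hS : Group.IsSolvable f.ker) (hE : Cov f ι ⊤) {p r : ℕ}
    (hp : p.Prime) (hr : r.Prime) (hne : ty r ≠ ty p) (hp0 : ty p ≠ 0) {R : Subgroup E}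
    (hR : IsPiHallOf {p} R f.ker) (hu : Uniq p R) : ¬ Edge f.ker p r :=
  no_edge hty W hL hι hS hp hr hne (fun h => absurd h hp0)
    (fun _ hz hzp => cov_of_uniq hL.toLHyp0 hS hE hp hR hu hz hzp)

/-- **Odd kernel**: `2`, `x`, `y` of types `0`, `2`, `3` cannot all divide the order of the kernel. -/
theorem not_all (hty : TyHyp ty) (W : WHyp ty v E) (hL : KHyp ty L) (hι : Function.Injective ι)
    (hS : Group.IsSolvable f.ker) (hE : Cov f ι ⊤) {x y : ℕ} (hx : x.Prime) (hy : y.Prime)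
    (hx0 : ty x ≠ 0) (hy0 : ty y ≠ 0) (hx1 : ty x ≠ 1) (hy1 : ty y ≠ 1) (hxy : ty x ≠ ty y)
    (h2 : 2 ∣ Nat.card f.ker) (hxK : x ∣ Nat.card f.ker) (hyK : y ∣ Nat.card f.ker) : False := by
  have t2 := hty.two
  have n2x : (2 : ℕ) ≠ x := fun h => hx0 (by rw [← h, t2])
  have n2y : (2 : ℕ) ≠ y := fun h => hy0 (by rw [← h, t2])
  have nxy : x ≠ y := fun h => hxy (by rw [h])
  have epx : ¬ Edge f.ker 2 x := no_edge hty W hL hι hS Nat.prime_two hx (by rw [t2]; exact hx0)
    (fun _ => hx1) (fun z hz hz2 => central_two W hL hS hE hz hz2)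
  have epy : ¬ Edge f.ker 2 y := no_edge hty W hL hι hS Nat.prime_two hy (by rw [t2]; exact hy0)
    (fun _ => hy1) (fun z hz hz2 => central_two W hL hS hE hz hz2)
  have exy : Edge f.ker x y := by
    rcases lucido hS Nat.prime_two hx hy n2x n2y nxy h2 hxK hyK with h | h | h
    exacts [absurd h epx, absurd h epy, h]
  have C : Core ty v f ι 2 x y := by
    refine ⟨hty, W, hL.toLHyp0, hι, hS, hE, Nat.prime_two, hx, hy, by rw [t2]; exact hx0.symm,
      by rw [t2]; exact hy0.symm, hxy, hx0, hy0, h2, hxK, hyK, epx, epy, ?_, ?_, ?_, ?_⟩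
    · intro R hR hu
      exact no_edge_of_uniq hty W hL hι hS hE hx hy hxy.symm hx0 hR hu exy
    · intro R hR hu
      exact no_edge_of_uniq hty W hL hι hS hE hy hx hxy hy0 hR hu exy.symm
    · intro z hz hzx hc hd
      exact hxy (isolated_gen hty W hL hι hS hx hy hzx hc hd (fun h => absurd h hx0)).symm
    · intro z hz hzx hc hd
      exact hxy (isolated_gen hty W hL hι hS hy hx hzx hc hd (fun h => absurd h hy0))
  exact C.false

end restrict

end Cfsg.Agent.H381.SzGen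
end

-- part: H381/SzEight
section
/-!
# Elementary abelian groups of order 8 acting on `b`-groups with cyclic fixed points
-/

set_option autoImplicit false
set_option linter.unusedSectionVars false

namespace Cfsg.Agent.H381.SzEight

open Subgroup
open scoped commutatorElement
open Cfsg (piCoreOf fittingOf IsPiHallOf)
open Cfsg.Agent.H381.Tools
open Cfsg.Agent.H381.Lucido
open Cfsg.Agent.H381.Cover
open Cfsg.Agent.H381.SzCore
open Cfsg.Agent.H381.SzOne
open Cfsg.Agent.H381.SzGen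
open Cfsg.Agent.H381.Criterion (commutator_zpowers_le normalizer_le_normalizer_centralizer
  orderOf_prime_pow orderOf_conj exists_unique_of_fpf mem_normalizer_unique mem_centralizer_bot
  le_normalizer_inf)
open Cfsg.Agent.OddOrderLocal.PiCoreOf (piCoreOf_le le_normalizer_piCoreOf)
open Cfsg.Agent.OddOrderLocal.FitCores (isPGroup_piCoreOf core_le_centralizer_core)

universe u v w

variable {ty v : ℕ → ℕ} {E : Type u} [Group E] [Finite E] {T : Type v} [Group T] {L : Type w}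
  [Group L]

/-- two hyperplanes of a group of order 8 meet -/
theorem exists_common {Y B B' : Subgroup E} (hY : Nat.card Y = 8) (hB : B ≤ Y)
    (hBi : B.relIndex Y = 2) (hBi' : B'.relIndex Y = 2) : ∃ e ∈ B, e ∈ B' ∧ e ≠ 1 := by
  have h1 : (B ⊓ B').relIndex Y ≤ 4 := by
    have := Subgroup.relIndex_inf_le (H := B) (K := B') (L := Y)
    rw [hBi, hBi'] at this
    exact this
  have h2 : Nat.card (B ⊓ B' : Subgroup E) * (B ⊓ B').relIndex Y = 8 := by
    have := Subgroup.relIndex_mul_relIndex ⊥ (B ⊓ B') Y bot_le (inf_le_left.trans hB)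
    rwa [Subgroup.relIndex_bot_left, Subgroup.relIndex_bot_left, hY] at this
  have h4 : B ⊓ B' ≠ ⊥ := by
    intro h
    rw [h, card_bot, one_mul] at h2
    rw [h] at h1
    omega
  by_contra hcon
  push Not at hcon
  apply h4
  rw [eq_bot_iff]
  intro e he
  exact mem_bot.mpr (hcon e (mem_inf.mp he).1 (mem_inf.mp he).2)

theorem uniq_of_el8 {b : ℕ} (hb : b.Prime) (hb2 : b ≠ 2) {P Y : Subgroup E} (hP : IsPGroup b P)
    (hP1 : P ≠ ⊥) (hY : Nat.card Y = 8) (hYY : ∀ y ∈ Y, y * y = 1)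
    (hYP : Y ≤ normalizer (P : Set E))
    (h : ∀ e ∈ Y, e ≠ 1 → ∀ x ∈ P ⊓ centralizer {e}, ∀ y ∈ P ⊓ centralizer {e}, orderOf x = b →
      orderOf y = b → y ∈ zpowers x) : Uniq b P := by
  have hbf : Fact b.Prime := ⟨hb⟩
  have h2f : Fact (Nat.Prime 2) := ⟨Nat.prime_two⟩
  have hYel : Cfsg.IsElementaryAbelian 2 Y := by
    refine ⟨⟨⟨fun x y => ?_⟩⟩, fun a ha => by rw [pow_two]; exact hYY a ha⟩
    apply Subtype.ext
    show (x : E) * y = y * x
    have h1 := hYY _ (mul_mem x.2 y.2)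
    have h2 := inv_eq_of_mul_eq_one_left h1
    have h3 := inv_eq_of_mul_eq_one_left (hYY _ x.2)
    have h4 := inv_eq_of_mul_eq_one_left (hYY _ y.2)
    rw [mul_inv_rev, h3, h4] at h2
    exact h2.symm
  have hY1 : Y ≠ ⊥ := by rintro rfl; rw [card_bot] at hY; omega
  -- fixed points of involutions are cyclic
  have hcyc : ∀ e ∈ Y, e ≠ 1 → IsCyclic (P ⊓ centralizer {e} : Subgroup E) := by
    intro e he he1
    apply Cfsg.Agent.Solvable.UniqueOrderP.isCyclic_of_uniqueP hb2 (hP.to_le inf_le_left)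
    intro x y hx hxb hyb
    by_cases hy : y = 1
    · rw [hy]; exact one_mem _
    have h1 : orderOf x = b := orderOf_eq_prime hxb hx
    have h2 : orderOf y = b := orderOf_eq_prime hyb hy
    obtain ⟨n, hn⟩ := mem_zpowers_iff.mp (h e he he1 x x.2 y y.2 (by rw [Subgroup.orderOf_coe, h1])
      (by rw [Subgroup.orderOf_coe, h2]))
    exact mem_zpowers_iff.mpr ⟨n, Subtype.ext hn⟩
  have hle : ∀ (B : Subgroup E) (e : E) (Q : Subgroup E), e ∈ B →
      Q ⊓ centralizer (B : Set E) ≤ Q ⊓ centralizer {e} := by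
    intro B e Q he
    exact inf_le_inf_left _ (centralizer_le (by simpa using he))
  have hcop : ∀ Q : Subgroup E, Q ≤ P → (Nat.card Q).Coprime 2 := by
    intro Q hQ
    exact (coprime_pow_card hb (hP.to_le hQ) (n := 2) (by
      intro hd
      exact hb2 ((Nat.prime_dvd_prime_iff_eq hb Nat.prime_two).mp hd)))
  have gen : ∀ Q : Subgroup E, Q ≤ P → Y ≤ normalizer (Q : Set E) →
      Q = ⨆ B : {B : Subgroup E // B ≤ Y ∧ B.relIndex Y = 2}, Q ⊓ centralizer ((B : Subgroup E) : Set E) :=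
    fun Q hQ hQn => Cfsg.Agent.Lib.CoprimeHyperplane.le_iSup_hyperplane Y Q hYel hY1 (hcop Q hQ) hQn
  -- `P` is abelian
  have hab : ∀ x ∈ P, ∀ y ∈ P, Commute x y := by
    have step : ∀ x ∈ P, (∃ B : Subgroup E, (B ≤ Y ∧ B.relIndex Y = 2) ∧ x ∈ centralizer (B : Set E)) →
        P ≤ centralizer {x} := by
      rintro x hx ⟨B, hB, hxB⟩
      rw [gen P le_rfl hYP]
      apply iSup_le
      rintro ⟨B', hB'⟩ y hy
      obtain ⟨e, he, he', he1⟩ := exists_common hY hB.1 hB.2 hB'.2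
      have hc := hcyc e (hB.1 he) he1
      let _ : CommGroup (P ⊓ centralizer {e} : Subgroup E) := IsCyclic.commGroup
      have hx' := hle B e P he (mem_inf.mpr ⟨hx, hxB⟩)
      have hy' := hle B' e P he' hy
      have h5 := mul_comm (⟨x, hx'⟩ : (P ⊓ centralizer {e} : Subgroup E)) ⟨y, hy'⟩
      exact mem_cent_iff.mpr (congrArg Subtype.val h5)
    have h6 : ∀ y ∈ P, P ≤ centralizer {y} := by
      intro y hy
      rw [gen P le_rfl hYP]
      apply iSup_le
      rintro ⟨B', hB'⟩ x hx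
      have h7 := step x (mem_inf.mp hx).1 ⟨B', hB', (mem_inf.mp hx).2⟩ hy
      exact mem_cent_iff.mpr (mem_cent_iff.mp h7).symm
    intro x hx y hy
    exact mem_cent_iff.mp (h6 x hx hy)
  -- the elements of order dividing `b`
  let Ω : Subgroup E :=
    { carrier := {x | x ∈ P ∧ x ^ b = 1}
      one_mem' := ⟨one_mem _, one_pow b⟩
      mul_mem' := by
        rintro x y ⟨hx, hxb⟩ ⟨hy, hyb⟩
        exact ⟨mul_mem hx hy, by rw [(hab x hx y hy).mul_pow, hxb, hyb, one_mul]⟩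
      inv_mem' := by
        rintro x ⟨hx, hxb⟩
        exact ⟨inv_mem hx, by rw [inv_pow, hxb, inv_one]⟩ }
  have hΩ : ∀ x, x ∈ Ω ↔ x ∈ P ∧ x ^ b = 1 := fun x => Iff.rfl
  have hΩP : Ω ≤ P := fun x hx => hx.1
  have hΩn : Y ≤ normalizer (Ω : Set E) := by
    intro y hy
    rw [mem_normalizer_iff]
    intro x
    rw [hΩ, hΩ, ← mem_normalizer_iff.mp (hYP hy) x, conj_pow]
    constructor
    · rintro ⟨h1, h2⟩
      exact ⟨h1, by rw [h2, mul_one, mul_inv_cancel]⟩
    · rintro ⟨h1, h2⟩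
      refine ⟨h1, ?_⟩
      rw [mul_inv_eq_one] at h2
      exact mul_eq_left.mp h2
  have hord : ∀ x ∈ Ω, x ≠ 1 → orderOf x = b := fun x hx hx1 => orderOf_eq_prime hx.2 hx1
  have hΩ1 : Ω ≠ ⊥ := by
    obtain ⟨x, hx, hxb⟩ := exists_mem_of_ne_bot hb hP hP1
    intro h1
    have h2 : x ∈ Ω := ⟨hx, by rw [← hxb]; exact pow_orderOf_eq_one x⟩
    rw [h1, mem_bot] at h2
    rw [h2, orderOf_one] at hxb
    exact hb.one_lt.ne hxb
  obtain ⟨B₀, hB₀, x₀, hx₀, hx₀1⟩ : ∃ B : Subgroup E, (B ≤ Y ∧ B.relIndex Y = 2) ∧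
      ∃ x ∈ Ω ⊓ centralizer (B : Set E), x ≠ 1 := by
    by_contra hcon
    push Not at hcon
    apply hΩ1
    rw [gen Ω hΩP hΩn, eq_bot_iff]
    apply iSup_le
    rintro ⟨B, hB⟩ x hx
    exact mem_bot.mpr (hcon B hB x hx)
  have hmain : Ω ≤ zpowers x₀ := by
    rw [gen Ω hΩP hΩn]
    apply iSup_le
    rintro ⟨B, hB⟩ x hx
    by_cases hx1 : x = 1
    · rw [hx1]; exact one_mem _
    obtain ⟨e, he, he', he1⟩ := exists_common hY hB.1 hB.2 hB₀.2
    have h8 := hle B e Ω he hx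
    have h9 := hle B₀ e Ω he' hx₀
    exact h e (hB.1 he) he1 x₀ (mem_inf.mpr ⟨hΩP (mem_inf.mp h9).1, (mem_inf.mp h9).2⟩) x
      (mem_inf.mpr ⟨hΩP (mem_inf.mp h8).1, (mem_inf.mp h8).2⟩) (hord _ (mem_inf.mp h9).1 hx₀1)
      (hord _ (mem_inf.mp h8).1 hx1)
  refine ⟨x₀, hΩP (mem_inf.mp hx₀).1, hord _ (mem_inf.mp hx₀).1 hx₀1, ?_⟩
  intro y hy hyb
  exact hmain ⟨hy, by rw [← hyb]; exact pow_orderOf_eq_one y⟩

section edges

variable {f : E →* T} {ι : L →* T}

/-- lifting the elementary abelian subgroup of order `8` when the kernel is odd -/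
theorem exists_lift_el8 (hL : KHyp ty L) (hι : Function.Injective ι) (hS : Group.IsSolvable f.ker)
    (h2 : ¬ 2 ∣ Nat.card f.ker) {M : Subgroup E} (hM : Cov f ι M) :
    ∃ Y ≤ M, Nat.card Y = 8 ∧ (∀ y ∈ Y, y * y = 1) ∧
      ∀ e ∈ Y, e ≠ 1 → orderOf e = 2 ∧ ∃ x : L, x ≠ 1 ∧ f e = ι x := by
  have h2f : Fact (Nat.Prime 2) := ⟨Nat.prime_two⟩
  obtain ⟨A, hA, hAA⟩ := hL.el8
  have hAp : IsPGroup 2 A := IsPGroup.of_card (n := 3) (by rw [hA]; norm_num)
  obtain ⟨Y, hYM, g, hg, hY2, hYA, -⟩ := hM.lift_pair hS Nat.prime_two Nat.prime_two hAp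
    (w := 1) (one_mem _) (k := 0) (by simp)
  have hker : ∀ y ∈ Y, f y = 1 → y = 1 := by
    intro y hy hfy
    obtain ⟨k, hk⟩ := orderOf_prime_pow Nat.prime_two hY2 hy
    have h3 : orderOf y ∣ Nat.card f.ker := Subgroup.orderOf_dvd_natCard _ hfy
    have h4 : (2 ^ k).Coprime (Nat.card f.ker) :=
      Nat.Coprime.pow_left k ((Nat.prime_two.coprime_iff_not_dvd).mpr h2)
    have h5 := Nat.eq_one_of_dvd_coprimes h4 (hk ▸ dvd_rfl) h3
    rwa [orderOf_eq_one_iff] at h5
  have him : ∀ y ∈ Y, ∃ x ∈ A, f y = ι x := by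
    intro y hy
    have : f y ∈ A.map ι := by rw [← hYA]; exact ⟨y, hy, rfl⟩
    obtain ⟨x, hx, hxy⟩ := this
    exact ⟨x, hx, hxy.symm⟩
  have hYY : ∀ y ∈ Y, y * y = 1 := by
    intro y hy
    obtain ⟨x, hx, hxy⟩ := him y hy
    apply hker _ (mul_mem hy hy)
    rw [map_mul, hxy, ← map_mul, hAA x hx, map_one]
  refine ⟨Y, hYM, ?_, hYY, ?_⟩
  · have h6 : Function.Bijective (f.subgroupMap Y) := by
      refine ⟨?_, f.subgroupMap_surjective Y⟩
      rw [injective_iff_map_eq_one]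
      intro y hy
      exact Subtype.ext (hker y y.2 (congrArg Subtype.val hy))
    rw [Nat.card_congr (Equiv.ofBijective _ h6), hYA, Subgroup.card_map_of_injective hι, hA]
  · intro e he he1
    refine ⟨orderOf_eq_prime (by rw [pow_two]; exact hYY e he) he1, ?_⟩
    obtain ⟨x, hx, hxe⟩ := him e he
    refine ⟨x, ?_, hxe⟩
    rintro rfl
    exact he1 (hker e he (by rw [hxe, map_one]))

theorem no_odd_edge_aux (hty : TyHyp ty) (W : WHyp ty v E) (hL : KHyp ty L)
    (hι : Function.Injective ι) (hS : Group.IsSolvable f.ker) (hE : Cov f ι ⊤)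
    (h2 : ¬ 2 ∣ Nat.card f.ker) {a b : ℕ} (ha : a.Prime) (hb : b.Prime) (hab : ty a ≠ ty b)
    (ha0 : ty a ≠ 0) (hb0 : ty b ≠ 0) {H : Subgroup E} (hH : IsPiHallOf {a, b} H f.ker)
    (hbK : b ∣ Nat.card f.ker) (hcore : piCoreOf {a} H ≠ ⊥) (he : Edge f.ker b a) : False := by
  have hne : a ≠ b := fun h => hab (by rw [h])
  have hHK : H ≤ f.ker := hH.1
  have hHs : Group.IsSolvable H :=
    Group.isSolvable_of_isSolvable_injective (f := Subgroup.inclusion hHK)
      (Subgroup.inclusion_injective _)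
  have hM₀ : Cov f ι (⊤ ⊓ normalizer (H : Set E)) := hE.frattini hS le_top
    (by rw [normalizer_eq_top]) le_rfl hH
  rw [top_inf_eq] at hM₀
  obtain ⟨P, hP, hPb⟩ := exists_hall hHs hb
  have hPH : P ≤ H := hP.1
  have hPHall : IsPiHallOf {b} P f.ker := hall_trans hH (by simp) hP
  have hM : Cov f ι (normalizer (H : Set E) ⊓ normalizer (P : Set E)) :=
    hM₀.frattini hHs le_normalizer le_rfl hHK hP
  set M : Subgroup E := normalizer (H : Set E) ⊓ normalizer (P : Set E) with hMdef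
  set A := piCoreOf {a} H with hA
  have hAa : IsPGroup a A := isPGroup_piCoreOf ha H
  have hAH : A ≤ H := piCoreOf_le _ _
  have hHA : H ≤ normalizer (A : Set E) := le_normalizer_piCoreOf _ _
  have hMA : M ≤ normalizer (A : Set E) := inf_le_left.trans
    (Cfsg.Agent.OddOrderLocal.PiCoreOf.normalizer_le_normalizer_piCoreOf _ _)
  have hP1 : P ≠ ⊥ := by
    rintro rfl
    have := Cfsg.Agent.OddOrderLocal.HallPi.prime_dvd_card hPHall hb (Set.mem_singleton b) hbK
    rw [card_bot, Nat.dvd_one] at this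
    exact hb.one_lt.ne' this
  suffices hu : Uniq b P from
    no_edge_of_uniq hty W hL hι hS hE hb ha hab hb0 hPHall hu he
  by_cases hc : Cov f ι (M ⊓ centralizer (A : Set E))
  · refine exists_unique_of_fpf hb hPb hP1 (not_dvd_card ha hb hne.symm hAa) hcore
      (hPH.trans hHA) ?_
    intro x hx hxb
    by_contra hcon
    obtain ⟨z, hz, hza⟩ := exists_mem_of_ne_bot ha (hAa.to_le inf_le_left) hcon
    rw [mem_fix] at hz
    have hcz : Cov f ι (centralizer {z}) :=
      hc.mono (inf_le_right.trans (centralizer_le (by simpa using hz.1)))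
    exact hab (isolated_gen hty W hL hι hS ha hb hza hcz
      (dvd_card_of_mem (mem_inf.mpr ⟨mem_cent_iff.mpr hz.2.symm, hHK (hPH hx)⟩) hxb)
      (fun h => absurd h ha0)).symm
  · obtain ⟨Y, hYM, hY8, hYY, hYe⟩ := exists_lift_el8 hL hι hS h2 hM
    have hb2 : b ≠ 2 := by rintro rfl; exact hb0 hty.two
    refine uniq_of_el8 hb hb2 hPb hP1 hY8 hYY (hYM.trans inf_le_right) ?_
    intro e he' he1 x hx y hy hxb hyb
    obtain ⟨he2, l, hl, hel⟩ := hYe e he' he1
    have hfix := fix_involution hL.toLHyp0 hM hMA hc hι (hYM he') he2 hl hel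
    have hX1 : P ⊓ centralizer {e} ≠ ⊥ := by
      intro h
      rw [h, mem_bot] at hx
      rw [hx, orderOf_one] at hxb
      exact hb.one_lt.ne hxb
    obtain ⟨z, hz, hzb, hzu⟩ := exists_unique_of_fpf hb (hPb.to_le inf_le_left) hX1
      (V := A ⊓ centralizer {e}) (not_dvd_card ha hb hne.symm (hAa.to_le inf_le_left)) hfix
      (le_normalizer_inf ((inf_le_left.trans hPH).trans hHA) (inf_le_right.trans le_normalizer)) (by
        intro c hc hcb
        by_contra hcon
        obtain ⟨d, hd, hda⟩ := exists_mem_of_ne_bot ha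
          ((hAa.to_le inf_le_left).to_le inf_le_left) hcon
        rw [mem_fix, mem_fix] at hd
        rw [mem_fix] at hc
        exact W.no3 Nat.prime_two hb ha (by rw [hty.two]; exact hb0.symm) hab.symm
          (by rw [hty.two]; exact ha0.symm) he2 hcb hda hc.2 hd.1.2 hd.2)
    have e1 := hzu x hx hxb
    have e2 := hzu y hy hyb
    have e3 : zpowers z ≤ zpowers x := by
      rw [zpowers_le]; exact zpowers_eq_of_mem hzb hxb e1
    exact e3 e2

/-- **Odd kernel**: there are no edges between different odd types. -/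
theorem no_odd_edge (hty : TyHyp ty) (W : WHyp ty v E) (hL : KHyp ty L)
    (hι : Function.Injective ι) (hS : Group.IsSolvable f.ker) (hE : Cov f ι ⊤)
    (h2 : ¬ 2 ∣ Nat.card f.ker) {a b : ℕ} (ha : a.Prime) (hb : b.Prime) (hab : ty a ≠ ty b)
    (ha0 : ty a ≠ 0) (hb0 : ty b ≠ 0) : ¬ Edge f.ker a b := by
  intro he
  have hne : a ≠ b := fun h => hab (by rw [h])
  have haK : a ∣ Nat.card f.ker := by
    obtain ⟨x, hx, y, hy, -, hxa, -⟩ := he
    exact dvd_card_of_mem hx hxa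
  have hbK : b ∣ Nat.card f.ker := by
    obtain ⟨x, hx, y, hy, -, -, hyb⟩ := he
    exact dvd_card_of_mem hy hyb
  obtain ⟨H, hH⟩ := Cfsg.Agent.OddOrderLocal.HallPi.exists_isPiHallOf hS ({a, b} : Set ℕ)
  have hHK : H ≤ f.ker := hH.1
  have hHs : Group.IsSolvable H :=
    Group.isSolvable_of_isSolvable_injective (f := Subgroup.inclusion hHK)
      (Subgroup.inclusion_injective _)
  have hHpi : ∀ t : ℕ, t.Prime → t ∣ Nat.card H → t = a ∨ t = b := by
    intro t ht htd
    have := hH.2.1 t ht htd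
    simpa using this
  by_cases h1 : piCoreOf {a} H = ⊥
  · by_cases h3 : piCoreOf {b} H = ⊥
    · have haH : a ∣ Nat.card H :=
        Cfsg.Agent.OddOrderLocal.HallPi.prime_dvd_card hH ha (by simp) haK
      obtain ⟨h, hh, hha⟩ := exists_mem_of_dvd ha haH
      have h3 : h ∈ fittingOf H := by
        apply mem_fitting' hHs hh
        intro t ht htd
        rcases hHpi t ht htd with rfl | rfl
        · rw [h1]; exact mem_centralizer_bot h
        · rw [h3]; exact mem_centralizer_bot h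
      have h4 : fittingOf H ≤ ⊥ := by
        apply fitting_le
        intro t ht htd
        rcases hHpi t ht htd with rfl | rfl
        · rw [h1]
        · rw [h3]
      have h5 := h4 h3
      rw [mem_bot] at h5
      rw [h5, orderOf_one] at hha
      exact ha.one_lt.ne hha
    · exact no_odd_edge_aux hty W hL hι hS hE h2 hb ha hab.symm hb0 ha0
        (by rw [show ({b, a} : Set ℕ) = {a, b} from Set.pair_comm b a]; exact hH) haK h3 he
  · exact no_odd_edge_aux hty W hL hι hS hE h2 ha hb hab ha0 hb0 hH hbK h1 he.symm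

end edges

end Cfsg.Agent.H381.SzEight
end

-- part: H381/SzSmall
section
/-!
# One component over a smaller field
-/

set_option autoImplicit false
set_option linter.unusedSectionVars false

namespace Cfsg.Agent.H381.SzSmall

open Subgroup
open Cfsg (IsComponent layer fittingSubgroup generalizedFittingSubgroup Out Inn)
open Cfsg.Agent.SignalizersComponents
open Cfsg.Agent.H98.SzPartition (torusOrders mem_torusOrders_iff odd_of_mem one_lt_of_mem eq_of_prime_dvd
  sylow_or_torus)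
open Cfsg.Agent.LieRecognition.SzMatrix (good)
open Cfsg.Agent.ThreePrime.SzRel (ofGood)
open Cfsg.Agent.H381.SzSpec
open Cfsg.Agent.H381.SzComp
open Cfsg.Agent.H381.SzCore
open Cfsg.Agent.H381.SzRed
open Cfsg.Agent.H381.SzMain
open Cfsg.Agent.H381.SzGen
open Cfsg.Agent.H381.SzEight
open Cfsg.Agent.H381.Cover
open Cfsg.Agent.H381.Tools
open Cfsg.Agent.H381.Lucido

variable {F : Type*} [Field F] [Fintype F] {m : ℕ}

/-- an elementary abelian subgroup of order `8` -/
theorem exists_el8 {J : Type*} [Group J] {F' : Type*} [Field F'] [Fintype F'] {m' : ℕ} (hm' : 1 ≤ m')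
    (hF' : Fintype.card F' = 2 ^ (2 * m' + 1)) (R : Cfsg.Agent.ThreePrime.SzRel.Rel J F') :
    ∃ A : Subgroup J, Nat.card A = 8 ∧ ∀ x ∈ A, x * x = 1 := by
  have h2f : Fact (Nat.Prime 2) := ⟨Nat.prime_two⟩
  let φ : Multiplicative F' →* J :=
    { toFun := fun b => R.u 0 b.toAdd
      map_one' := R.u_zero
      map_mul' := fun a b => by
        rw [R.u_mul, toAdd_mul, zero_add, zero_mul, add_zero] }
  have hφ : Function.Injective φ := by
    intro a b h
    exact Multiplicative.toAdd.injective (R.u_inj h).2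
  have hcard : Nat.card φ.range = 2 ^ (2 * m' + 1) := by
    rw [← Nat.card_congr (MonoidHom.ofInjective hφ).toEquiv, Nat.card_congr Multiplicative.toAdd,
      Nat.card_eq_fintype_card, hF']
  have : Finite φ.range := Nat.finite_of_card_ne_zero (by rw [hcard]; positivity)
  obtain ⟨A, hA⟩ := Sylow.exists_subgroup_card_pow_prime (G := φ.range) 2 (n := 3)
    (by rw [hcard]; exact pow_dvd_pow 2 (by omega))
  refine ⟨A.map φ.range.subtype, ?_, ?_⟩
  · rw [Subgroup.card_map_of_injective φ.range.subtype_injective, hA]; norm_num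
  · rintro _ ⟨⟨_, ⟨b, rfl⟩⟩, -, rfl⟩
    show φ b * φ b = 1
    show R.u 0 _ * R.u 0 _ = 1
    rw [R.u_mul_self, zero_mul, R.u_zero]

/-- the type hypotheses for a Suzuki group over a subfield -/
theorem khyp (hm : 1 ≤ m) {F' : Type*} [Field F'] [Fintype F'] {m' : ℕ} (hm' : 1 ≤ m')
    (hF' : Fintype.card F' = 2 ^ (2 * m' + 1)) (hd : (2 * m' + 1) ∣ (2 * m + 1)) :
    KHyp (ty m) (LS F' m') where
  simple := (lhyp hm' hF').simple
  four := (lhyp hm' hF').four
  third i j := by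
    have hfin : Finite (LS F' m') := inferInstance
    obtain ⟨y, s, hy, hs, -⟩ := exists_five (F := F') (m := m') hF'
    obtain ⟨g, hg⟩ := exists_torus (F := F') hm' hF' (mem_one m')
    obtain ⟨p, hp, hpd⟩ := Nat.exists_prime_and_dvd (one_lt_of_mem hm' (mem_one m')).ne'
    have h2 : 2 ∣ Nat.card (LS F' m') := by
      have := _root_.orderOf_dvd_natCard s
      rw [hs] at this
      exact dvd_trans (by norm_num) this
    have h5 : 5 ∣ Nat.card (LS F' m') := hy ▸ _root_.orderOf_dvd_natCard y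
    have hpL : p ∣ Nat.card (LS F' m') := hpd.trans (hg ▸ _root_.orderOf_dvd_natCard g)
    have hp1 : ty m p = 1 := by
      apply ty_one
      obtain ⟨l, hl⟩ := hd
      rw [hl, pow_mul]
      have := Nat.sub_dvd_pow_sub_pow (2 ^ (2 * m' + 1)) 1 l
      rw [one_pow] at this
      exact hpd.trans this
    have t2 := ty_two m
    by_cases h0 : i ≠ 0 ∧ j ≠ 0
    · exact ⟨2, Nat.prime_two, h2, by omega, by omega⟩
    by_cases h1 : i ≠ 1 ∧ j ≠ 1
    · exact ⟨p, hp, hpL, by omega, by omega⟩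
    refine ⟨5, by norm_num, h5, ?_, ?_⟩ <;> rcases ty_five hm with h | h <;> (clear * - h0 h1 h; omega)
  frob := by
    obtain ⟨p, hp, hpd⟩ := Nat.exists_prime_and_dvd (one_lt_of_mem hm' (mem_one m')).ne'
    have hp1 : ty m p = 1 := by
      apply ty_one
      obtain ⟨l, hl⟩ := hd
      rw [hl, pow_mul]
      have := Nat.sub_dvd_pow_sub_pow (2 ^ (2 * m' + 1)) 1 l
      rw [one_pow] at this
      exact hpd.trans this
    let R := ofGood (good hF')
    have hcard : Nat.card F'ˣ = 2 ^ (2 * m' + 1) - 1 := by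
      rw [Nat.card_units, Nat.card_eq_fintype_card, hF']
    have hpf : Fact p.Prime := ⟨hp⟩
    obtain ⟨k, hk⟩ := exists_prime_orderOf_dvd_card' (G := F'ˣ) p (by rw [hcard]; exact hpd)
    refine ⟨p, hp, hp1, R.T, R.d k, R.u 0 1, R.isPGroup, R.D_le (R.d_mem k), ?_, R.u_mem 0 1, ?_⟩
    · have : R.d k = dHom R k := rfl
      rw [this, orderOf_injective (dHom R) (dHom_injective R), hk]
    · intro hc
      have h3 : R.d k * R.u 0 1 * (R.d k)⁻¹ = R.u 0 1 := by
        rw [hc.eq, mul_inv_cancel_right]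
      rcases R.fpf h3 with h4 | h4
      · rw [h4, orderOf_one] at hk
        exact hp.one_lt.ne hk
      · exact one_ne_zero h4.2
  el8 := exists_el8 hm' hF' (ofGood (good hF'))

/-- bound for the element orders -/
theorem orderOf_le {F' : Type*} [Field F'] [Fintype F'] {m' : ℕ} (hm' : 1 ≤ m')
    (hF' : Fintype.card F' = 2 ^ (2 * m' + 1)) (x : LS F' m') :
    orderOf x ≤ 2 ^ (2 * m' + 2) := by
  have h1 : 2 ^ (m' + 1) + 1 ≤ 2 ^ (2 * m' + 1) := by
    have e1 : 2 ^ (2 * m' + 1) = 2 ^ (m' + 1) * 2 ^ m' := by rw [← pow_add]; congr 1; omega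
    have e2 : 2 ^ 1 ≤ 2 ^ m' := Nat.pow_le_pow_right (by norm_num) hm'
    have e3 : 2 ^ (m' + 1) * 2 ≤ 2 ^ (m' + 1) * 2 ^ m' := Nat.mul_le_mul_left _ (by simpa using e2)
    have e4 := Nat.one_le_two_pow (n := m' + 1)
    omega
  have h2 : 2 ^ (2 * m' + 2) = 2 * 2 ^ (2 * m' + 1) := by rw [pow_succ]; ring
  have h3 := Nat.one_le_two_pow (n := m' + 1)
  rcases spec hm' hF' x with h | ⟨n, hn, h⟩
  · have h4 := Nat.le_of_dvd (by norm_num) h
    have h5 : 2 ^ 3 ≤ 2 ^ (2 * m' + 1) := Nat.pow_le_pow_right (by norm_num) (by omega)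
    omega
  · have h4 := Nat.le_of_dvd (zero_lt_one.trans (one_lt_of_mem hm' hn)) h
    rcases (mem_torusOrders_iff m' n).1 hn with rfl | rfl | rfl <;> omega

/-- the size estimate -/
theorem bound_lt {m' : ℕ} (hm' : 1 ≤ m') (hd : (2 * m' + 1) ∣ (2 * m + 1)) (hne : m' ≠ m) {i : ℕ}
    (hi : i ≠ 0) : (2 * m' + 1) * 2 ^ (2 * m' + 2) < N m i := by
  obtain ⟨l, hl⟩ := hd
  have hl3 : 3 ≤ l := by
    by_contra hlt
    have : l = 0 ∨ l = 1 ∨ l = 2 := by omega
    rcases this with rfl | rfl | rfl <;> (solve | lia | omega)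
  have h1 : 3 * (2 * m' + 1) ≤ 2 * m + 1 := by
    rw [hl, mul_comm]
    exact Nat.mul_le_mul_left _ hl3
  have h2 : 2 * m' + 1 ≤ 2 ^ (2 * m') := by
    have : 2 * m' < 2 ^ (2 * m') := Nat.lt_two_pow_self
    omega
  have h3 : (2 * m' + 1) * 2 ^ (2 * m' + 2) ≤ 2 ^ (2 * m') * 2 ^ (2 * m' + 2) :=
    Nat.mul_le_mul_right _ h2
  rw [← pow_add] at h3
  have h4 : 2 ^ (2 * m' + (2 * m' + 2)) < 2 ^ (2 * m) := Nat.pow_lt_pow_right (by norm_num) (by omega)
  have h5 : 2 ^ (2 * m + 1) = 2 * 2 ^ (2 * m) := by rw [pow_succ]; ring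
  have h6 : 2 ^ (m + 1) ≤ 2 ^ (2 * m) := Nat.pow_le_pow_right (by norm_num) (by omega)
  have h7 := h3.trans_lt h4
  unfold N
  rw [if_neg hi, h5]
  clear h3 h4 h5
  generalize 2 ^ (m + 1) = r at h6 ⊢
  generalize 2 ^ (2 * m) = q at h6 h7 ⊢
  generalize (2 * m' + 1) * 2 ^ (2 * m' + 2) = z at h7 ⊢
  split_ifs <;> (clear * - h7 h6; omega)

section edge

variable {G : Type*} [Group G] [Finite G] {Q : Type*} [Group Q]

/-- small element orders modulo the kernel give edges -/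
theorem edge_of_bound (hm : 1 ≤ m) (hF : Fintype.card F = 2 ^ (2 * m + 1))
    (hG' : ∀ x : LS F m × LS F m, ∃ g : G, orderOf g = orderOf x) {f : G →* Q} {i j : ℕ} (hi : i < 4)
    (hj : j < 4) (hij : i ≠ j)
    (hb : ∀ g : G, ∃ M : ℕ, g ^ M ∈ f.ker ∧ ¬ N m i ∣ M ∧ ¬ N m j ∣ M) :
    ∃ p r : ℕ, p.Prime ∧ r.Prime ∧ ty m p = i ∧ ty m r = j ∧ Edge f.ker p r := by
  obtain ⟨a, ha⟩ := exists_N (F := F) hm hF i
  obtain ⟨b, hb'⟩ := exists_N (F := F) hm hF j
  obtain ⟨g, hg⟩ := hG' (a, b)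
  have hcop := coprime_N hm hi hj hij
  rw [Prod.orderOf_mk, ha, hb', hcop.lcm_eq_mul] at hg
  obtain ⟨M, hM, hMi, hMj⟩ := hb g
  have key : ∀ k k' : ℕ, orderOf g = k * k' → k' ≠ 0 → ¬ k ∣ M → ∃ p : ℕ, p.Prime ∧ p ∣ k ∧
      ∃ x ∈ f.ker, x ∈ zpowers g ∧ orderOf x = p := by
    intro k k' hgk hk' hkM
    have h1 : orderOf (g ^ k') = k := by
      rw [orderOf_pow' _ hk', hgk, Nat.gcd_mul_left_left, Nat.mul_div_cancel _ (Nat.pos_of_ne_zero hk')]
    have h2 : (g ^ k') ^ M ≠ 1 := by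
      intro h
      apply hkM
      rw [← h1]
      exact orderOf_dvd_of_pow_eq_one h
    have h3 : (g ^ k') ^ M ∈ f.ker := by
      rw [← pow_mul, mul_comm, pow_mul]
      exact _root_.pow_mem hM _
    have h4 : orderOf ((g ^ k') ^ M) ≠ 1 := fun h => h2 (orderOf_eq_one_iff.mp h)
    obtain ⟨p, hp, hpd⟩ := Nat.exists_prime_and_dvd h4
    refine ⟨p, hp, hpd.trans (h1 ▸ orderOf_pow_dvd M), _, _root_.pow_mem h3 (orderOf ((g ^ k') ^ M) / p), ?_,
      orderOf_pow_orderOf_div (orderOf_pos _).ne' hpd⟩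
    exact _root_.pow_mem (_root_.pow_mem (_root_.pow_mem (mem_zpowers g) _) _) _
  obtain ⟨p, hp, hpi, x, hx, hxg, hxp⟩ := key (N m i) (N m j) hg (N_ne_zero hm j) hMi
  obtain ⟨r, hr, hrj, y, hy, hyg, hyr⟩ := key (N m j) (N m i) (by rw [hg, mul_comm]) (N_ne_zero hm i) hMj
  refine ⟨p, r, hp, hr, ty_N hm hi hp hpi, ty_N hm hj hr hrj, x, hx, y, hy, ?_, hxp, hyr⟩
  obtain ⟨c, rfl⟩ := mem_zpowers_iff.mp hxg
  obtain ⟨d, rfl⟩ := mem_zpowers_iff.mp hyg
  exact (Commute.refl g).zpow_zpow c d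

/-- **One component over a smaller field is impossible.** -/
theorem one_small_false (hm : 1 ≤ m) (hF : Fintype.card F = 2 ^ (2 * m + 1)) (hG : OrdLe F m G)
    (hG' : ∀ x : LS F m × LS F m, ∃ g : G, orderOf g = orderOf x) {f : G →* Q}
    (hf : Function.Surjective f) (hS : Group.IsSolvable f.ker) {K : Subgroup Q} {F' : Type*} [Field F']
    [Fintype F'] {m' : ℕ} (hm' : 1 ≤ m') (hF' : Fintype.card F' = 2 ^ (2 * m' + 1))
    (hd : (2 * m' + 1) ∣ (2 * m + 1)) (hne : m' ≠ m) (e : K ≃* LS F' m')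
    (hK : ∀ x : Q, x ^ (2 * m' + 1) ∈ K) : False := by
  have hb : ∀ i j : ℕ, i ≠ 0 → j ≠ 0 → ∀ g : G, ∃ M : ℕ, g ^ M ∈ f.ker ∧ ¬ N m i ∣ M ∧ ¬ N m j ∣ M := by
    intro i j hi hj g
    have h1 := hK (f g)
    set! t := orderOf (e ⟨_, h1⟩) with ht
    have h2 : t ≤ 2 ^ (2 * m' + 2) := orderOf_le hm' hF' _
    have h0 : 0 < t := orderOf_pos _
    have h3 : (f g) ^ ((2 * m' + 1) * t) = 1 := by
      rw [pow_mul]
      have h4 : orderOf (⟨_, h1⟩ : K) = t := by rw [ht, MulEquiv.orderOf_eq]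
      have h5 : (⟨_, h1⟩ : K) ^ t = 1 := by rw [← h4]; exact pow_orderOf_eq_one _
      exact congrArg Subtype.val h5
    have h6 : (2 * m' + 1) * t ≤ (2 * m' + 1) * 2 ^ (2 * m' + 2) := Nat.mul_le_mul_left _ h2
    have h7 : 0 < (2 * m' + 1) * t := Nat.mul_pos (by omega) h0
    refine ⟨(2 * m' + 1) * t, by rw [MonoidHom.mem_ker, map_pow]; exact h3, ?_, ?_⟩
    · exact Nat.not_dvd_of_pos_of_lt h7 (h6.trans_lt (bound_lt hm' hd hne hi))
    · exact Nat.not_dvd_of_pos_of_lt h7 (h6.trans_lt (bound_lt hm' hd hne hj))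
  set! ι : LS F' m' →* Q := K.subtype.comp e.symm.toMonoidHom with hι
  have hιi : Function.Injective ι := K.subtype_injective.comp e.symm.injective
  have htop : Cov f ι ⊤ := by
    rw [Cov, ← MonoidHom.range_eq_map, MonoidHom.range_eq_top.mpr hf]
    exact le_top
  have W := hG.whyp hm hF
  have hL := khyp hm hm' hF' hd
  obtain ⟨x, y, hx, hy, hx2, hy3, he⟩ := edge_of_bound hm hF hG' (f := f) (i := 2) (j := 3)
    (by norm_num) (by norm_num) (by norm_num) (hb 2 3 (by norm_num) (by norm_num))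
  by_cases h2 : 2 ∣ Nat.card f.ker
  · obtain ⟨a, ha, b, hb', -, hax, hby⟩ := he
    exact not_all (tyHyp m) W hL hιi hS htop hx hy (by omega) (by omega) (by omega) (by omega)
      (by omega) h2 (dvd_card_of_mem ha hax) (dvd_card_of_mem hb' hby)
  · exact no_odd_edge (tyHyp m) W hL hιi hS htop h2 hx hy (by omega) (by omega) (by omega) he

end edge

end Cfsg.Agent.H381.SzSmall
end

-- part: H381/SzTwoGen
section
/-!
# Two components, possibly over smaller fields
-/

set_option autoImplicit false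
set_option linter.unusedSectionVars false

namespace Cfsg.Agent.H381.SzTwoGen

open Subgroup
open Cfsg (IsComponent layer fittingSubgroup generalizedFittingSubgroup Out Inn piCoreOf fittingOf IsPiHallOf)
open Cfsg.Agent.SignalizersComponents
open Cfsg.Agent.H98.SzPartition (torusOrders mem_torusOrders_iff odd_of_mem one_lt_of_mem eq_of_prime_dvd
  sylow_or_torus)
open Cfsg.Agent.H381.SzSpec
open Cfsg.Agent.H381.SzComp
open Cfsg.Agent.H381.SzCore
open Cfsg.Agent.H381.SzRed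
open Cfsg.Agent.H381.SzPair
open Cfsg.Agent.H381.SzMain
open Cfsg.Agent.H381.SzOne
open Cfsg.Agent.H381.SzTwo
open Cfsg.Agent.H381.SzGen
open Cfsg.Agent.H381.SzEight
open Cfsg.Agent.H381.SzSmall
open Cfsg.Agent.H381.Cover
open Cfsg.Agent.H381.Tools
open Cfsg.Agent.H381.Lucido

section abstract

universe u v w

variable {ty v : ℕ → ℕ} {E : Type u} [Group E] [Finite E] {T : Type v} [Group T] {L₁ L₂ : Type w}
  [Group L₁] [Group L₂]

/-- **Two factors**: the primes of the kernel have type `1`. -/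
theorem ker_type_one (hty : TyHyp ty) (W : WHyp ty v E) (hL₁ : KHyp ty L₁) (hL₂ : KHyp ty L₂)
    {f : E →* T} {ι₁ : L₁ →* T} {ι₂ : L₂ →* T} (h₁ : Function.Injective ι₁)
    (h₂ : Function.Injective ι₂) (hcomm : ∀ a b, Commute (ι₁ a) (ι₂ b)) (hS : Group.IsSolvable f.ker)
    (hc₁ : Cov f ι₁ ⊤) (hc₂ : Cov f ι₂ ⊤) {r : ℕ} (hr : r.Prime) (hrd : r ∣ Nat.card f.ker) :
    ty r = 1 := by
  have norm : ∀ {r : ℕ} {R : Subgroup E}, IsPiHallOf {r} R f.ker →
      Cov f ι₁ (normalizer (R : Set E)) ∧ Cov f ι₂ (normalizer (R : Set E)) := by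
    intro r R hR
    have h3 := hc₁.frattini hS le_top (by rw [normalizer_eq_top]) le_rfl hR
    have h4 := hc₂.frattini hS le_top (by rw [normalizer_eq_top]) le_rfl hR
    rw [top_inf_eq] at h3 h4
    exact ⟨h3, h4⟩
  -- the kernel has odd order
  have hodd : ¬ 2 ∣ Nat.card f.ker := by
    intro h2
    obtain ⟨R, hR, hRr⟩ := exists_hall hS Nat.prime_two
    obtain ⟨n1, n2⟩ := norm hR
    obtain ⟨z, hz, hzr⟩ := exists_mem_of_dvd Nat.prime_two
      (Cfsg.Agent.OddOrderLocal.HallPi.prime_dvd_card hR Nat.prime_two (Set.mem_singleton 2) h2)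
    exact not_cov2 W hL₁.toLHyp0 hL₂.toLHyp0 h₁ h₂ hcomm Nat.prime_two hzr
      (inf_le_right.trans (centralizer_le (by simpa using hz)))
      (two_central W hL₁.toLHyp0 hS n1 le_rfl hRr) (two_central W hL₂.toLHyp0 hS n2 le_rfl hRr)
  have hr2 : r ≠ 2 := by rintro rfl; exact hodd hrd
  obtain ⟨R, hR, hRr⟩ := exists_hall hS hr
  obtain ⟨n1, n2⟩ := norm hR
  have hrR := Cfsg.Agent.OddOrderLocal.HallPi.prime_dvd_card hR hr (Set.mem_singleton r) hrd
  obtain ⟨i, hi2, x, hix, hid⟩ : ∃ i : E, orderOf i = 2 ∧ ∃ x : L₁, f i = ι₁ x ∧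
      r ∣ Nat.card (centralizer {i} ⊓ f.ker : Subgroup E) := by
    by_cases hc : Cov f ι₁ (normalizer (R : Set E) ⊓ centralizer (R : Set E))
    · obtain ⟨i, hi, hi2, x, -, hix⟩ := exists_involution W hL₁.toLHyp0 h₁ hc
      refine ⟨i, hi2, x, hix, ?_⟩
      obtain ⟨z, hz, hzr⟩ := exists_mem_of_dvd hr hrR
      refine dvd_card_of_mem (mem_inf.mpr ⟨mem_cent_iff.mpr ?_, hR.1 hz⟩) hzr
      exact (mem_centralizer_iff.mp (mem_inf.mp hi).2 z hz).symm
    · obtain ⟨i, hi, hi2, x, hx, hix⟩ := exists_involution W hL₁.toLHyp0 h₁ n1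
      refine ⟨i, hi2, x, hix, ?_⟩
      have hfix := fix_involution hL₁.toLHyp0 n1 le_rfl hc h₁ hi hi2 hx hix
      obtain ⟨z, hz, hzr⟩ := exists_mem_of_ne_bot hr (hRr.to_le inf_le_left) hfix
      rw [mem_fix] at hz
      exact dvd_card_of_mem (mem_inf.mpr ⟨mem_cent_iff.mpr hz.2, hR.1 hz.1⟩) hzr
  have hci : Cov f ι₂ (centralizer {i}) :=
    cov_centralizer Nat.prime_two hodd hc₂ (k := 1) (by rw [hi2, pow_one])
      (fun y => by rw [hix]; exact hcomm x y)
  exact type_of_centralizer hty W hL₂ h₂ hS hi2 hci hr hr2 hid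

end abstract

variable {F : Type*} [Field F] [Fintype F] {m : ℕ}

/-- the size estimate -/
theorem bound_le {m' : ℕ} (hd : (2 * m' + 1) ∣ (2 * m + 1)) (hm' : 1 ≤ m') (hne : m' ≠ m) :
    (2 * m + 1) * 2 ^ (2 * m' + 2) ≤ 2 ^ (2 * m) := by
  obtain ⟨l, hl⟩ := hd
  have hl3 : 3 ≤ l := by
    by_contra hlt
    have : l = 0 ∨ l = 1 ∨ l = 2 := by omega
    rcases this with rfl | rfl | rfl <;> (solve | lia | omega)
  have h1 : 3 * (2 * m' + 1) ≤ 2 * m + 1 := by
    rw [hl, mul_comm]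
    exact Nat.mul_le_mul_left _ hl3
  obtain ⟨k, hk⟩ : ∃ k, 2 * m = (k + 2) + (2 * m' + 2) := ⟨2 * m - 2 * m' - 4, by omega⟩
  have h2 : k < 2 ^ k := Nat.lt_two_pow_self
  have h3 : 2 ^ (k + 2) = 4 * 2 ^ k := by rw [pow_add]; ring
  have h4 : 2 * m + 1 ≤ 2 ^ (k + 2) := by omega
  calc (2 * m + 1) * 2 ^ (2 * m' + 2) ≤ 2 ^ (k + 2) * 2 ^ (2 * m' + 2) := Nat.mul_le_mul_right _ h4
    _ = 2 ^ (2 * m) := by rw [hk, pow_add 2 (k + 2)]

section main

variable {G : Type*} [Group G] [Finite G] {Q : Type*} [Group Q]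

/-- **Two components: the fields are full.** -/
theorem full_field [Finite Q] (hm : 1 ≤ m) (hF : Fintype.card F = 2 ^ (2 * m + 1)) (hG : OrdLe F m G)
    (hG' : ∀ x : LS F m × LS F m, ∃ g : G, orderOf g = orderOf x) {f : G →* Q}
    (hf : Function.Surjective f) (hS : Group.IsSolvable f.ker) {K₁ K₂ : Subgroup Q}
    (hP : Pair K₁ K₂) {F₁ : Type} [Field F₁] [Fintype F₁] {m₁ : ℕ} (hm₁ : 1 ≤ m₁)
    (hF₁ : Fintype.card F₁ = 2 ^ (2 * m₁ + 1)) (hd₁ : (2 * m₁ + 1) ∣ (2 * m + 1)) (e₁ : K₁ ≃* LS F₁ m₁)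
    {F₂ : Type} [Field F₂] [Fintype F₂] {m₂ : ℕ} (hm₂ : 1 ≤ m₂)
    (hF₂ : Fintype.card F₂ = 2 ^ (2 * m₂ + 1)) (hd₂ : (2 * m₂ + 1) ∣ (2 * m + 1)) (e₂ : K₂ ≃* LS F₂ m₂) :
    m₁ = m := by
  by_contra hne
  set! ι₁ : LS F₁ m₁ →* Q := K₁.subtype.comp e₁.symm.toMonoidHom with hι₁
  set! ι₂ : LS F₂ m₂ →* Q := K₂.subtype.comp e₂.symm.toMonoidHom with hι₂
  have h₁ : Function.Injective ι₁ := K₁.subtype_injective.comp e₁.symm.injective
  have h₂ : Function.Injective ι₂ := K₂.subtype_injective.comp e₂.symm.injective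
  have hm1 : ∀ x, ι₁ x ∈ K₁ := fun x => (e₁.symm x).2
  have hm2 : ∀ x, ι₂ x ∈ K₂ := fun x => (e₂.symm x).2
  have hcomm : ∀ a b, Commute (ι₁ a) (ι₂ b) := fun a b => hP.comm _ (hm1 a) _ (hm2 b)
  have htop₁ : Cov f ι₁ ⊤ := by
    rw [Cov, ← MonoidHom.range_eq_map, MonoidHom.range_eq_top.mpr hf]
    exact le_top
  have htop₂ : Cov f ι₂ ⊤ := by
    rw [Cov, ← MonoidHom.range_eq_map, MonoidHom.range_eq_top.mpr hf]
    exact le_top
  have W := hG.whyp hm hF
  have hker : ∀ r : ℕ, r.Prime → r ∣ Nat.card f.ker → ty m r = 1 := fun r hr hrd =>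
    ker_type_one (tyHyp m) W (khyp hm hm₁ hF₁ hd₁) (khyp hm hm₂ hF₂ hd₂) h₁ h₂ hcomm hS htop₁
      htop₂ hr hrd
  -- an element of order `q² + 1`
  obtain ⟨a, ha⟩ := exists_N (F := F) hm hF 2
  obtain ⟨b, hb'⟩ := exists_N (F := F) hm hF 3
  obtain ⟨g, hg⟩ := hG' (a, b)
  have hcop := coprime_N hm (i := 2) (j := 3) (by norm_num) (by norm_num) (by norm_num)
  rw [Prod.orderOf_mk, ha, hb', hcop.lcm_eq_mul] at hg
  have hc : (N m 2 * N m 3).Coprime (Nat.card f.ker) := by
    rw [Nat.coprime_iff_gcd_eq_one]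
    by_contra hne
    obtain ⟨p, hp, hpd⟩ := Nat.exists_prime_and_dvd hne
    have h1 := hker p hp (hpd.trans (Nat.gcd_dvd_right _ _))
    rcases (Nat.Prime.dvd_mul hp).mp (hpd.trans (Nat.gcd_dvd_left _ _)) with h2 | h2
    · rw [ty_N hm (by norm_num) hp h2] at h1; omega
    · rw [ty_N hm (by norm_num) hp h2] at h1; omega
  have hfg := card_ker_coprime hg hc
  have hN : N m 2 * N m 3 = 2 ^ (2 * (2 * m + 1)) + 1 := by
    rw [← mul_eq m, mul_comm]; rfl
  rw [hN] at hfg
  -- the square of `f g` normalises both components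
  have hsq : ∀ y : Q, y ^ 2 ∈ normalizer (K₁ : Set Q) ∧ y ^ 2 ∈ normalizer (K₂ : Set Q) := by
    intro y
    rcases hP.perm y with h | h
    · exact ⟨pow_mem h.1 2, pow_mem h.2 2⟩
    · constructor
      · rw [mem_normalizer_iff]
        intro z
        rw [(h z).1, (h _).2, pow_two]
        simp only [mul_assoc, mul_inv_rev]
      · rw [mem_normalizer_iff]
        intro z
        rw [(h z).2, (h _).1, pow_two]
        simp only [mul_assoc, mul_inv_rev]
  have hpow : ∀ {K : Subgroup Q} {F' : Type} [Field F'] [Fintype F'] {m' : ℕ}, 1 ≤ m' →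
      Fintype.card F' = 2 ^ (2 * m' + 1) → (2 * m' + 1) ∣ (2 * m + 1) → (K ≃* LS F' m') → ∀ y : Q,
      y ∈ normalizer (K : Set Q) → ∃ k ∈ K, k⁻¹ * y ^ (2 * m + 1) ∈ centralizer (K : Set Q) := by
    intro K F' _ _ m' hm' hF' hd e y hy
    obtain ⟨k, hk, hkc⟩ := _root_.Cfsg.Agent.H381.SzRed.pow_mem hm' hF' e hy
    obtain ⟨l, hl⟩ := hd
    refine ⟨k ^ l, _root_.pow_mem hk l, ?_⟩
    have h1 : Commute k (k⁻¹ * y ^ (2 * m' + 1)) := (mem_centralizer_iff.mp hkc k hk)
    have h2 : y ^ (2 * m + 1) = k ^ l * (k⁻¹ * y ^ (2 * m' + 1)) ^ l := by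
      rw [← h1.mul_pow, mul_inv_cancel_left, hl, pow_mul]
    rw [h2, inv_mul_cancel_left]
    exact _root_.pow_mem hkc l
  obtain ⟨hn1, hn2⟩ := hsq (f g)
  obtain ⟨c, hc1, d, hd2, hcd⟩ := hP.mul_eq (hpow hm₁ hF₁ hd₁ e₁ _ hn1) (hpow hm₂ hF₂ hd₂ e₂ _ hn2)
  -- orders of `c` and `d`
  have hoc : orderOf c ≤ 2 ^ (2 * m₁ + 2) := by
    have h3 := orderOf_le hm₁ hF₁ (e₁ ⟨c, hc1⟩)
    rwa [MulEquiv.orderOf_eq, Subgroup.orderOf_mk] at h3
  have hod : orderOf d ≤ 2 ^ (2 * m₂ + 2) := by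
    have h3 := orderOf_le hm₂ hF₂ (e₂ ⟨d, hd2⟩)
    rwa [MulEquiv.orderOf_eq, Subgroup.orderOf_mk] at h3
  have h4 : (f g) ^ (2 * ((2 * m + 1) * (orderOf c * orderOf d))) = 1 := by
    have k1 : c ^ (orderOf c * orderOf d) = 1 := by rw [pow_mul, pow_orderOf_eq_one, one_pow]
    have k2 : d ^ (orderOf c * orderOf d) = 1 := by
      rw [mul_comm, pow_mul, pow_orderOf_eq_one, one_pow]
    rw [pow_mul, pow_mul, hcd, (hP.comm c hc1 d hd2).mul_pow, k1, k2, one_mul]
  have h5 : 2 ^ (2 * (2 * m + 1)) + 1 ∣ 2 * ((2 * m + 1) * (orderOf c * orderOf d)) := by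
    rw [← hfg]; exact orderOf_dvd_of_pow_eq_one h4
  have h6 : (2 ^ (2 * (2 * m + 1)) + 1).Coprime 2 := by
    rw [Nat.coprime_two_right]
    exact Even.add_one ((Nat.even_pow.mpr ⟨even_two, by omega⟩))
  have h7 := h6.dvd_of_dvd_mul_left h5
  have h8 : 0 < (2 * m + 1) * (orderOf c * orderOf d) :=
    Nat.mul_pos (by omega) (Nat.mul_pos (orderOf_pos c) (orderOf_pos d))
  have h9 := Nat.le_of_dvd h8 h7
  have h10 : (2 * m + 1) * (orderOf c * orderOf d) ≤ 2 ^ (2 * (2 * m + 1)) := by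
    have hm2 : 2 * m₂ + 1 ≤ 2 * m + 1 := Nat.le_of_dvd (by omega) hd₂
    calc (2 * m + 1) * (orderOf c * orderOf d)
        ≤ (2 * m + 1) * (2 ^ (2 * m₁ + 2) * 2 ^ (2 * m₂ + 2)) :=
          Nat.mul_le_mul_left _ (Nat.mul_le_mul hoc hod)
      _ = ((2 * m + 1) * 2 ^ (2 * m₁ + 2)) * 2 ^ (2 * m₂ + 2) := by ring
      _ ≤ 2 ^ (2 * m) * 2 ^ (2 * m₂ + 2) := Nat.mul_le_mul_right _ (bound_le hd₁ hm₁ hne)
      _ = 2 ^ (2 * m + (2 * m₂ + 2)) := (pow_add 2 (2 * m) (2 * m₂ + 2)).symm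
      _ ≤ 2 ^ (2 * (2 * m + 1)) := Nat.pow_le_pow_right (by norm_num) (by omega)
  omega

end main

end Cfsg.Agent.H381.SzTwoGen
end

-- part: H381/SzOuter
section
/-!
# Outer automorphisms
-/

set_option autoImplicit false
set_option linter.unusedSectionVars false

namespace Cfsg.Agent.H381.SzOuter

open Subgroup
open Cfsg (IsComponent layer fittingSubgroup generalizedFittingSubgroup Out Inn)
open Cfsg.Agent.H98.SzPartition (torusOrders mem_torusOrders_iff odd_of_mem one_lt_of_mem eq_of_prime_dvd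
  sylow_or_torus)
open Cfsg.Agent.LieRecognition.SzMatrix (good)
open Cfsg.Agent.ThreePrime.SzRel (ofGood)
open Cfsg.Agent.H70.SzOut (fieldAut fieldAut_u fieldAut_d fieldAut_w exists_fix eq_of_fix exists_sylow)
open Cfsg.Agent.H381.SzSpec
open Cfsg.Agent.H381.SzComp
open Cfsg.Agent.H381.SzCore
open Cfsg.Agent.H381.SzRed
open Cfsg.Agent.H381.SzPair
open Cfsg.Agent.H381.SzMain
open Cfsg.Agent.H381.Tools

variable {F : Type*} [Field F] [Fintype F] {m : ℕ}

/-- every automorphism is inner times field -/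
theorem field_form (hm : 1 ≤ m) (hF : Fintype.card F = 2 ^ (2 * m + 1)) (ψ : MulAut (LS F m)) :
    ∃ g : LS F m, ∃ σ : F ≃+* F, MulAut.conj g * ψ = fieldAut (good hF) σ := by
  have h8 : 8 ≤ Nat.card F := by
    rw [Nat.card_eq_fintype_card, hF]
    exact Cfsg.Agent.ThreePrime.SzRel.Rel.eight_le hm
  obtain ⟨S, hS⟩ := exists_sylow hm hF
  obtain ⟨g, hg⟩ := exists_fix (ofGood (good hF)) S hS ψ
  obtain ⟨σ, k, hσ⟩ := eq_of_fix h8 (good hF) hg
  refine ⟨((good hF).d k)⁻¹ * g, σ, ?_⟩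
  rw [map_mul, mul_assoc, hσ, map_inv, inv_mul_cancel_left]

theorem card_aut (hm : 1 ≤ m) (hF : Fintype.card F = 2 ^ (2 * m + 1)) :
    Nat.card (F ≃+* F) = 2 * m + 1 := by
  have : Fact (Nat.Prime 2) := ⟨Nat.prime_two⟩
  exact Cfsg.Agent.Lib.FieldAutCard.card_ringAut (by omega) hF

/-- fixed elements of a field automorphism -/
theorem exists_fixed_unit (hm : 1 ≤ m) (hF : Fintype.card F = 2 ^ (2 * m + 1)) {τ : F ≃+* F} {f : ℕ}
    (hf : f.Prime) (hτ : τ ^ f = 1) (hn : 2 * m + 1 ≠ f) : ∃ k : Fˣ, k ≠ 1 ∧ τ (k : F) = k := by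
  by_contra hcon
  push Not at hcon
  have hfin : Finite (F ≃+* F) := Nat.finite_of_card_ne_zero (by rw [card_aut hm hF]; omega)
  have : Fintype (zpowers τ) := Fintype.ofFinite _
  let S := FixedPoints.subfield (zpowers τ) F
  have hS : ∀ x : F, x ∈ S → x = 0 ∨ x = 1 := by
    intro x hx
    by_cases h0 : x = 0
    · exact Or.inl h0
    right
    by_contra h1
    apply hcon (Units.mk0 x h0) (fun h => h1 (congrArg Units.val h))
    exact hx ⟨τ, mem_zpowers τ⟩
  have h1 : Module.finrank S F = Fintype.card (zpowers τ) := FixedPoints.finrank_eq_card (zpowers τ) F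
  have h2 : Nat.card F = Nat.card S ^ Module.finrank S F := Module.natCard_eq_pow_finrank
  have h3 : Nat.card S = 2 := by
    have : Finite S := inferInstance
    rw [Nat.card_eq_two_iff]
    refine ⟨0, 1, zero_ne_one, ?_⟩
    ext x
    simp only [Set.mem_insert_iff, Set.mem_singleton_iff, Set.mem_univ, iff_true]
    rcases hS x x.2 with h | h
    · exact Or.inl (Subtype.ext h)
    · exact Or.inr (Subtype.ext h)
  rw [h3, h1, Nat.card_eq_fintype_card, hF] at h2
  have h4 := Nat.pow_right_injective (le_refl 2) h2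
  have h5 : Fintype.card (zpowers τ) = orderOf τ := by
    rw [← Nat.card_eq_fintype_card, Nat.card_zpowers]
  have h6 : orderOf τ ∣ f := orderOf_dvd_of_pow_eq_one hτ
  rcases (Nat.dvd_prime hf).mp h6 with h | h
  · rw [h5, h] at h4; omega
  · rw [h5, h] at h4; exact hn h4

/-- a prime exponent different from `5` does not divide the order of `Sz(q)` -/
theorem ty_prime (hm : 1 ≤ m) (hm2 : m ≠ 2) (hp : (2 * m + 1).Prime) : 4 ≤ ty m (2 * m + 1) := by
  have hpf : Fact (2 * m + 1).Prime := ⟨hp⟩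
  have e1 : (2 : ZMod (2 * m + 1)) ^ (2 * m + 1) = 2 := ZMod.pow_card 2
  have h1 : ¬ (2 * m + 1) ∣ 2 ^ (2 * m + 1) - 1 := by
    intro h
    have h3 : 1 ≤ 2 ^ (2 * m + 1) := Nat.one_le_two_pow
    have : ((2 ^ (2 * m + 1) - 1 : ℕ) : ZMod (2 * m + 1)) = 0 := (ZMod.natCast_eq_zero_iff _ _).mpr h
    rw [Nat.cast_sub h3, Nat.cast_pow, Nat.cast_ofNat, e1] at this
    have h4 : (1 : ZMod (2 * m + 1)) = 0 := by
      rw [← this]; push_cast; ring
    exact one_ne_zero h4
  have h2 : ¬ (2 * m + 1) ∣ 2 ^ (2 * (2 * m + 1)) + 1 := by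
    intro h
    have : ((2 ^ (2 * (2 * m + 1)) + 1 : ℕ) : ZMod (2 * m + 1)) = 0 :=
      (ZMod.natCast_eq_zero_iff _ _).mpr h
    rw [mul_comm 2 (2 * m + 1), pow_mul, Nat.cast_add, Nat.cast_pow, Nat.cast_pow, Nat.cast_ofNat,
      e1] at this
    have h4 : ((5 : ℕ) : ZMod (2 * m + 1)) = 0 := by
      rw [← this]; push_cast; ring
    rw [ZMod.natCast_eq_zero_iff] at h4
    have h5 := (Nat.prime_dvd_prime_iff_eq hp (by norm_num : Nat.Prime 5)).mp h4
    omega
  rw [← mul_eq m] at h2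
  unfold ty
  rw [if_neg (by omega), if_neg h1, if_neg (fun h => h2 (h.mul_left _)),
    if_neg (fun h => h2 (h.mul_right _))]

section act

variable {Q : Type*} [Group Q] {K : Subgroup Q}

/-- `x` acts on `K` as the field automorphism `σ` -/
def Act (hF : Fintype.card F = 2 ^ (2 * m + 1)) (e : K ≃* LS F m) (x : Q) (σ : F ≃+* F) : Prop :=
  ∀ y : LS F m, x * e.symm y * x⁻¹ = e.symm (fieldAut (good hF) σ y)

variable {hF : Fintype.card F = 2 ^ (2 * m + 1)} {e : K ≃* LS F m}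

theorem Act.mul {x x' : Q} {σ σ' : F ≃+* F} (h : Act hF e x σ) (h' : Act hF e x' σ') :
    Act hF e (x * x') (σ * σ') := by
  intro y
  rw [map_mul, MulAut.mul_apply, ← h, ← h', mul_inv_rev]
  simp only [mul_assoc]

theorem Act.pow {x : Q} {σ : F ≃+* F} (h : Act hF e x σ) (n : ℕ) : Act hF e (x ^ n) (σ ^ n) := by
  induction n with
  | zero =>
    intro y
    rw [pow_zero, pow_zero, map_one, one_mul, inv_one, mul_one]
    rfl
  | succ n ih =>
    rw [pow_succ, pow_succ]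
    exact ih.mul h

theorem act_one {x : Q} (h : x ∈ centralizer (K : Set Q)) : Act hF e x 1 := by
  intro y
  rw [map_one, ← mem_centralizer_iff.mp h _ (e.symm y).2, mul_inv_cancel_right]
  rfl

theorem Act.mem_centralizer {x : Q} (h : Act hF e x 1) : x ∈ centralizer (K : Set Q) := by
  rw [mem_centralizer_iff]
  intro y hy
  have h1 := h (e ⟨y, hy⟩)
  rw [map_one] at h1
  have h2 : x * y * x⁻¹ = y := by
    have h3 : ((e.symm (e ⟨y, hy⟩) : K) : Q) = y := by rw [e.symm_apply_apply]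
    have h4 : ((e.symm ((1 : MulAut (LS F m)) (e ⟨y, hy⟩)) : K) : Q) = y := h3
    rw [h3, h4] at h1
    exact h1
  rw [mul_inv_eq_iff_eq_mul] at h2
  exact h2.symm

theorem Act.eq_one {x : Q} {σ : F ≃+* F} (h : Act hF e x σ) (hx : x ∈ centralizer (K : Set Q)) :
    σ = 1 := by
  apply Cfsg.Agent.H70.SzOut.eq_one_of_conj (good hF) (g := 1)
  ext1 y
  rw [map_one]
  have h1 := h y
  rw [← mem_centralizer_iff.mp hx _ (e.symm y).2, mul_inv_cancel_right] at h1
  have h2 := e.symm.injective (Subtype.ext h1)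
  exact h2.symm

theorem exists_act (hm : 1 ≤ m) (hF : Fintype.card F = 2 ^ (2 * m + 1)) (e : K ≃* LS F m) {x : Q}
    (hx : x ∈ normalizer (K : Set Q)) : ∃ k ∈ K, ∃ σ : F ≃+* F, Act hF e (k * x) σ := by
  obtain ⟨g, σ, hg⟩ := field_form hm hF (MulAut.congr e (K.normalizerMonoidHom ⟨x, hx⟩))
  refine ⟨e.symm g, (e.symm g).2, σ, ?_⟩
  intro y
  rw [← hg, MulAut.mul_apply, MulAut.conj_apply, map_mul, map_mul, map_inv]
  have h1 : e.symm (MulAut.congr e (K.normalizerMonoidHom ⟨x, hx⟩) y) =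
      K.normalizerMonoidHom ⟨x, hx⟩ (e.symm y) := by
    show e.symm (e (K.normalizerMonoidHom ⟨x, hx⟩ (e.symm y))) = _
    rw [e.symm_apply_apply]
  rw [h1]
  show (e.symm g : Q) * x * e.symm y * ((e.symm g : Q) * x)⁻¹ =
    (e.symm g : Q) * (x * e.symm y * x⁻¹) * (e.symm g : Q)⁻¹
  group

/-- fixed elements commute -/
theorem Act.commute {x : Q} {σ : F ≃+* F} (h : Act hF e x σ) {y : LS F m}
    (hy : fieldAut (good hF) σ y = y) : Commute x (e.symm y : Q) := by
  have h1 := h y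
  rw [hy, mul_inv_eq_iff_eq_mul] at h1
  exact h1

end act

section pair

variable {Q : Type*} [Group Q] [Finite Q] {K₁ K₂ : Subgroup Q}

/-- **No outer automorphisms** -/
theorem no_outer (hm : 1 ≤ m) (hm2 : m ≠ 2) (hF : Fintype.card F = 2 ^ (2 * m + 1)) (hQ : OrdLe F m Q)
    (hP : Pair K₁ K₂) (e₁ : K₁ ≃* LS F m) (e₂ : K₂ ≃* LS F m) {x : Q}
    (hx₁ : x ∈ normalizer (K₁ : Set Q)) (hx₂ : x ∈ normalizer (K₂ : Set Q)) :
    ∃ a ∈ K₁, ∃ b ∈ K₂, x = a * b := by
  obtain ⟨k₁, hk₁, σ₁, h₁⟩ := exists_act hm hF e₁ hx₁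
  obtain ⟨k₂, hk₂, σ₂, h₂⟩ := exists_act hm hF e₂ hx₂
  have a₁ : Act hF e₁ (k₂ * (k₁ * x)) σ₁ := by
    have := (act_one (hF := hF) (e := e₁) (hP.symm.mem_cent hk₂)).mul h₁
    rwa [one_mul] at this
  have a₂ : Act hF e₂ (k₂ * (k₁ * x)) σ₂ := by
    have := (act_one (hF := hF) (e := e₂) (hP.mem_cent hk₁)).mul h₂
    rw [one_mul] at this
    rwa [← mul_assoc, ← (hP.comm k₁ hk₁ k₂ hk₂).eq, mul_assoc]
  set x' := k₂ * (k₁ * x) with hx'
  by_cases hσ : (σ₁, σ₂) = (1 : (F ≃+* F) × (F ≃+* F))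
  · have e1 : σ₁ = 1 := congrArg Prod.fst hσ
    have e2 : σ₂ = 1 := congrArg Prod.snd hσ
    rw [e1] at a₁
    rw [e2] at a₂
    have h3 := hP.cent _ a₁.mem_centralizer a₂.mem_centralizer
    refine ⟨k₁⁻¹, inv_mem hk₁, k₂⁻¹, inv_mem hk₂, ?_⟩
    rw [hx', ← mul_assoc] at h3
    rw [← mul_inv_rev]
    exact (inv_eq_of_mul_eq_one_right h3).symm
  exfalso
  have hfin : Finite (F ≃+* F) := Nat.finite_of_card_ne_zero (by rw [card_aut hm hF]; omega)
  set! s := orderOf (σ₁, σ₂) with hs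
  have hs1 : s ≠ 1 := fun h => hσ (orderOf_eq_one_iff.mp h)
  obtain ⟨f, hf, hfs⟩ := Nat.exists_prime_and_dvd hs1
  have hτ : orderOf ((σ₁, σ₂) ^ (s / f)) = f := orderOf_pow_orderOf_div (orderOf_pos _).ne' hfs
  set! y := x' ^ (s / f) with hy
  set! τ₁ := σ₁ ^ (s / f) with hτ₁
  set! τ₂ := σ₂ ^ (s / f) with hτ₂
  have b₁ : Act hF e₁ y τ₁ := a₁.pow _
  have b₂ : Act hF e₂ y τ₂ := a₂.pow _
  have hpair : (σ₁, σ₂) ^ (s / f) = (τ₁, τ₂) := rfl
  rw [hpair] at hτ
  have hτf : (τ₁, τ₂) ^ f = 1 := by rw [← hτ]; exact pow_orderOf_eq_one _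
  have hτf₁ : τ₁ ^ f = 1 := congrArg Prod.fst hτf
  have hτf₂ : τ₂ ^ f = 1 := congrArg Prod.snd hτf
  have hyf : orderOf y = f := by
    have hff : Fact f.Prime := ⟨hf⟩
    apply orderOf_eq_prime
    · have c₁ := b₁.pow f
      have c₂ := b₂.pow f
      rw [hτf₁] at c₁
      rw [hτf₂] at c₂
      exact hP.cent _ c₁.mem_centralizer c₂.mem_centralizer
    · intro h
      rw [h] at b₁ b₂
      have d₁ := b₁.eq_one (one_mem _)
      have d₂ := b₂.eq_one (one_mem _)
      rw [d₁, d₂] at hτ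
      have : orderOf ((1, 1) : (F ≃+* F) × (F ≃+* F)) = 1 := orderOf_one
      rw [this] at hτ
      exact hf.one_lt.ne hτ
  have hfn : f ∣ 2 * m + 1 := by
    rw [← hτ]
    apply orderOf_dvd_of_pow_eq_one
    have g₁ : τ₁ ^ (2 * m + 1) = 1 := by rw [← card_aut hm hF]; exact pow_card_eq_one'
    have g₂ : τ₂ ^ (2 * m + 1) = 1 := by rw [← card_aut hm hF]; exact pow_card_eq_one'
    exact Prod.ext g₁ g₂
  have W := hQ.whyp hm hF
  have t4 : ty m f < 4 := W.pi y f hf (by rw [hyf])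
  have hf2 : f ≠ 2 := by rintro rfl; omega
  have t0 : ty m f ≠ 0 := fun h => hf2 ((tyHyp m).eq_two f hf h)
  have hne : 2 * m + 1 ≠ f := by
    intro h
    have := ty_prime hm hm2 (h ▸ hf)
    rw [h] at this
    omega
  -- an involution of the first factor
  have hinv : orderOf (e₁.symm ((good hF).u 0 1) : Q) = 2 := by
    have h2f : Fact (Nat.Prime 2) := ⟨Nat.prime_two⟩
    rw [Subgroup.orderOf_coe, MulEquiv.orderOf_eq]
    apply orderOf_eq_prime
    · rw [pow_two]
      have := (ofGood (good hF)).u_mul_self 0 1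
      rw [zero_mul, (ofGood (good hF)).u_zero] at this
      exact this
    · exact (ofGood (good hF)).u_ne_one one_ne_zero
  have cinv : Commute y (e₁.symm ((good hF).u 0 1) : Q) := by
    apply b₁.commute
    rw [fieldAut_u, map_zero, map_one]
  by_cases t1 : ty m f = 1
  · -- an element of order five of the second factor
    obtain ⟨h6, h7⟩ := Cfsg.Agent.OddCyclic.T1SzFacts.exists_five_good (good hF)
    set! g := (good hF).u 1 0 * (good hF).u 1 0 * (good hF).w with hg; rewrite [← hg] at h7 h6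
    have h8 : orderOf g = 5 := by
      have h5f : Fact (Nat.Prime 5) := ⟨by norm_num⟩
      apply orderOf_eq_prime
      · rw [← h7]
        simp only [pow_succ, pow_zero, one_mul]
      · intro h
        have h3 : (good hF).w = ((good hF).u 1 0 * (good hF).u 1 0)⁻¹ :=
          (inv_eq_of_mul_eq_one_right h).symm
        have h4 : (good hF).w ∈ (ofGood (good hF)).T := by
          rw [h3]
          exact inv_mem (mul_mem ((ofGood (good hF)).u_mem 1 0) ((ofGood (good hF)).u_mem 1 0))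
        exact (ofGood (good hF)).w_not_mem_normalizer (Subgroup.le_normalizer h4)
    have h9 : orderOf (e₂.symm g : Q) = 5 := by
      rw [Subgroup.orderOf_coe, MulEquiv.orderOf_eq, h8]
    have h10 : Commute y (e₂.symm g : Q) := by
      apply b₂.commute
      rw [hg, map_mul, map_mul, fieldAut_u, fieldAut_w, map_zero, map_one]
    have h5 : ty m 5 ≠ 0 ∧ ty m 5 ≠ 1 := by
      rcases ty_five hm with h | h <;> rw [h] <;> norm_num
    exact W.no3 hf Nat.prime_two (by norm_num : Nat.Prime 5) (by rw [ty_two]; exact t0)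
      (by rw [ty_two]; exact h5.1.symm) (by rw [t1]; exact h5.2.symm) hyf hinv h9 cinv h10
      (hP.comm _ (e₁.symm _).2 _ (e₂.symm g).2)
  · -- a torus element of the second factor
    obtain ⟨k, hk, hkf⟩ := exists_fixed_unit hm hF hf hτf₂ hne
    have hk1 : orderOf k ≠ 1 := fun h => hk (orderOf_eq_one_iff.mp h)
    obtain ⟨p, hp, hpk⟩ := Nat.exists_prime_and_dvd hk1
    have hcard : Nat.card Fˣ = 2 ^ (2 * m + 1) - 1 := by
      rw [Nat.card_units, Nat.card_eq_fintype_card, hF]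
    have hp1 : ty m p = 1 := ty_one (by rw [← hcard]; exact hpk.trans (_root_.orderOf_dvd_natCard k))
    set! l := k ^ (orderOf k / p) with hl
    have hlo : orderOf l = p := orderOf_pow_orderOf_div (orderOf_pos k).ne' hpk
    have hlf : Units.map (τ₂ : F →* F) l = l := by
      have h1 : Units.map (τ₂ : F →* F) k = k := Units.ext hkf
      rw [hl, map_pow, h1]
    have h9 : orderOf (e₂.symm ((good hF).d l) : Q) = p := by
      rw [Subgroup.orderOf_coe, MulEquiv.orderOf_eq]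
      have : (good hF).d l = dHom (ofGood (good hF)) l := rfl
      rw [this, orderOf_injective (dHom (ofGood (good hF))) (dHom_injective _), hlo]
    have h10 : Commute y (e₂.symm ((good hF).d l) : Q) := by
      apply b₂.commute
      rw [fieldAut_d, hlf]
    exact W.no3 hf Nat.prime_two hp (by rw [ty_two]; exact t0)
      (by rw [ty_two, hp1]; norm_num) (by rw [hp1]; exact t1) hyf hinv h9 cinv h10
      (hP.comm _ (e₁.symm _).2 _ (e₂.symm _).2)

end pair

end Cfsg.Agent.H381.SzOuter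
end

-- part: H381/SzFinal
section
/-!
# Recognition of `Sz(q) × Sz(q)` by its element orders
-/

set_option autoImplicit false
set_option linter.unusedSectionVars false

namespace Cfsg.Agent.H381.SzFinal

open Subgroup
open Cfsg (IsComponent layer fittingSubgroup generalizedFittingSubgroup Out Inn)
open Cfsg.Agent.SignalizersComponents
open Cfsg.Agent.H381.SzSpec
open Cfsg.Agent.H381.SzComp
open Cfsg.Agent.H381.SzCore
open Cfsg.Agent.H381.SzRed
open Cfsg.Agent.H381.SzPair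
open Cfsg.Agent.H381.SzMain
open Cfsg.Agent.H381.SzSmall
open Cfsg.Agent.H381.SzTwoGen
open Cfsg.Agent.H381.SzOuter

variable {F : Type*} [Field F] [Fintype F] {m : ℕ}

/-- **Recognition of `Sz(q) × Sz(q)`** among nonsolvable groups. -/
theorem main (hm : 1 ≤ m) (hm2 : m ≠ 2) (hF : Fintype.card F = 2 ^ (2 * m + 1)) {G : Type*} [Group G]
    [Finite G] (hG : OrdLe F m G) (hG' : ∀ x : LS F m × LS F m, ∃ g : G, orderOf g = orderOf x)
    (hns : ¬ Group.IsSolvable G) : Nonempty (G ≃* LS F m × LS F m) := by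
  obtain ⟨S, hSc, hS, hmax⟩ := ComponentExists.exists_solvableRadical G
  have hSn : S.Normal := inferInstance
  have hfit := fitting_quot hS hmax
  have hnt : Nontrivial (G ⧸ S) := by
    rw [QuotientGroup.nontrivial_iff]
    rintro rfl
    exact hns (Group.isSolvable_of_isSolvable_injective (f := (Subgroup.topEquiv (G := G)).symm.toMonoidHom)
      (Subgroup.topEquiv (G := G)).symm.injective)
  have hf := QuotientGroup.mk'_surjective S
  have hQ : OrdLe F m (G ⧸ S) := hG.map hf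
  have hker : Group.IsSolvable (QuotientGroup.mk' S).ker := by
    rw [QuotientGroup.ker_mk']; exact hS
  rcases structure_of hm hF hQ hfit with ⟨K, hK, hKn, hKc⟩ | ⟨K₁, K₂, h₁, h₂, hP⟩
  · exfalso
    obtain ⟨F', hf', hff, m', hm', hF', hdvd, ⟨e⟩⟩ := component hm hF hQ hfit hK
    have hpow : ∀ x : G ⧸ S, x ^ (2 * m' + 1) ∈ K := by
      intro x
      obtain ⟨k, hk, hkx⟩ := _root_.Cfsg.Agent.H381.SzRed.pow_mem hm' hF' e (x := x) (by rw [normalizer_eq_top]; exact mem_top x)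
      rw [hKc, mem_bot, inv_mul_eq_one] at hkx
      rwa [← hkx]
    by_cases hmm : m' = m
    · subst hmm
      obtain ⟨e'⟩ := iso_of_card_eq (m := m') hF hF'
      exact one_component_false hm hF hG hG' hf hker (e.trans e') hpow
    · exact one_small_false hm hF hG hG' hf hker hm' hF' hdvd hmm e hpow
  · obtain ⟨F₁, hf₁, hff₁, m₁, hm₁, hF₁, hd₁, ⟨e₁⟩⟩ := component hm hF hQ hfit h₁
    obtain ⟨F₂, hf₂, hff₂, m₂, hm₂', hF₂, hd₂, ⟨e₂⟩⟩ := component hm hF hQ hfit h₂
    have E₁ := full_field hm hF hG hG' hf hker hP hm₁ hF₁ hd₁ e₁ hm₂' hF₂ hd₂ e₂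
    have E₂ := full_field hm hF hG hG' hf hker hP.symm hm₂' hF₂ hd₂ e₂ hm₁ hF₁ hd₁ e₁
    subst E₁
    subst E₂
    obtain ⟨e₁'⟩ := iso_of_card_eq (m := m₂) hF hF₁
    obtain ⟨e₂'⟩ := iso_of_card_eq (m := m₂) hF hF₂
    have hno : ∀ x : G ⧸ S, x ∈ normalizer (K₁ : Set (G ⧸ S)) → x ∈ normalizer (K₂ : Set (G ⧸ S)) →
        ∃ a ∈ K₁, ∃ b ∈ K₂, x = a * b := fun x hx₁ hx₂ =>
      no_outer hm hm2 hF hQ hP (e₁.trans e₁') (e₂.trans e₂') hx₁ hx₂
    refine two_components hm hF hG hf hker (e₁.trans e₁') (e₂.trans e₂') hP ?_ ?_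
    · intro x hx₁ hx₂
      obtain ⟨a, ha, b, hb, rfl⟩ := hno x hx₁ hx₂
      exact ⟨a, ha, by rw [inv_mul_cancel_left]; exact hP.symm.mem_cent hb⟩
    · intro x hx₁ hx₂
      obtain ⟨a, ha, b, hb, rfl⟩ := hno x hx₁ hx₂
      refine ⟨b, hb, ?_⟩
      rw [(hP.comm a ha b hb).eq, inv_mul_cancel_left]
      exact hP.mem_cent ha

end Cfsg.Agent.H381.SzFinal
end

-- part: S3533
section
set_option autoImplicit false
open Cfsg

namespace Cfsg.Agent.S3533

open Cfsg.Agent.H381.SzSpec Cfsg.Agent.H381.SzComp Cfsg.Agent.H381.SzRed in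
/-- a group with the element orders of `Sz(q) × Sz(q)` is not solvable -/
theorem not_solvable {F : Type*} [Field F] [Fintype F] {m : ℕ} (hm : 1 ≤ m)
    (hF : Fintype.card F = 2 ^ (2 * m + 1)) {G : Type*} [Group G] [Finite G] (hG : OrdLe F m G)
    (hG' : ∀ x : LS F m × LS F m, ∃ g : G, orderOf g = orderOf x) : ¬ Group.IsSolvable G := by
  classical
  have hp : ∀ i : Fin 4, ∃ p : ℕ, p.Prime ∧ p ∣ N m i := fun i =>
    Nat.exists_prime_and_dvd (N_ne_one hm i)
  choose P hP hPN using hp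
  have hty : ∀ i : Fin 4, ty m (P i) = i := fun i => ty_N hm i.2 (hP i) (hPN i)
  have hinj : Function.Injective P := by
    intro i j hij
    apply Fin.ext
    rw [← hty i, ← hty j, hij]
  have hel : ∀ i : Fin 4, ∃ g : LS F m, orderOf g = P i := by
    intro i
    obtain ⟨g, hg⟩ := exists_N (F := F) hm hF i
    exact ⟨_, orderOf_pow_orderOf_div (orderOf_pos g).ne' (by rw [hg]; exact hPN i)⟩
  refine Cfsg.Agent.S3814.result (G := G) (Finset.univ.image P) ?_ ?_ ?_ ?_
  · rw [Finset.card_image_of_injective _ hinj]; simp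
  · intro p hp
    obtain ⟨i, -, rfl⟩ := Finset.mem_image.mp hp
    exact hP i
  · intro p hp r hr hpr
    obtain ⟨i, -, rfl⟩ := Finset.mem_image.mp hp
    obtain ⟨j, -, rfl⟩ := Finset.mem_image.mp hr
    obtain ⟨g, hg⟩ := hel i
    obtain ⟨g', hg'⟩ := hel j
    obtain ⟨k, hk⟩ := hG' (g, g')
    refine ⟨k, ?_⟩
    rw [hk, Prod.orderOf_mk, hg, hg']
    exact ((Nat.coprime_primes (hP i) (hP j)).mpr hpr).lcm_eq_mul
  · intro p hp r hr s hs hpr hrs hps g hg
    obtain ⟨i, -, rfl⟩ := Finset.mem_image.mp hp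
    obtain ⟨j, -, rfl⟩ := Finset.mem_image.mp hr
    obtain ⟨k, -, rfl⟩ := Finset.mem_image.mp hs
    have hne : ∀ a b : Fin 4, P a ≠ P b → ty m (P a) ≠ ty m (P b) := by
      intro a b hab h
      rw [hty, hty] at h
      exact hab (by rw [Fin.ext h])
    rcases (hG.whyp hm hF).triple g (P i) (P j) (P k) (hP i) (hP j) (hP k)
      (by rw [hg, mul_assoc]; exact dvd_mul_right _ _)
      (by rw [hg]; exact (dvd_mul_left (P j) (P i)).mul_right (P k))
      (by rw [hg]; exact dvd_mul_left _ _) with h | h | h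
    exacts [hne _ _ hpr h, hne _ _ hrs h, hne _ _ hps h]

/-- Let S be the Suzuki group over the field with q = 2^(2m+1) elements, where m ≥ 1 and m ≠ 2 (so q ≥ 8 and q ≠ 32). A finite group with the same set of element orders as S × S is isomorphic to S × S. -/
theorem result {F : Type*} [Field F] [Fintype F] {m : ℕ} (hm : 1 ≤ m) (hm2 : m ≠ 2) (hF : Fintype.card F = 2 ^ (2 * m + 1))
    {G : Type*} [Group G] [Finite G]
    (h : Set.range (orderOf : G → ℕ) = Set.range (orderOf : ↥(Cfsg.Lie.Sz F (2 ^ (m + 1))) × ↥(Cfsg.Lie.Sz F (2 ^ (m + 1))) → ℕ)) :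
    Nonempty (G ≃* ↥(Cfsg.Lie.Sz F (2 ^ (m + 1))) × ↥(Cfsg.Lie.Sz F (2 ^ (m + 1)))) := by
  have hG : Cfsg.Agent.H381.SzComp.OrdLe F m G := by
    intro g
    have h1 : orderOf g ∈ Set.range (orderOf : G → ℕ) := ⟨g, rfl⟩
    rw [h] at h1
    obtain ⟨x, hx⟩ := h1
    exact ⟨x, hx.symm⟩
  have hG' : ∀ x : Cfsg.Agent.H381.SzSpec.LS F m × Cfsg.Agent.H381.SzSpec.LS F m, ∃ g : G,
      orderOf g = orderOf x := by
    intro x
    have h1 : orderOf x ∈ Set.range (orderOf : ↥(Cfsg.Lie.Sz F (2 ^ (m + 1))) ×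
        ↥(Cfsg.Lie.Sz F (2 ^ (m + 1))) → ℕ) := ⟨x, rfl⟩
    rw [← h] at h1
    exact h1
  exact Cfsg.Agent.H381.SzFinal.main hm hm2 hF hG hG' (not_solvable hm hF hG hG')

end Cfsg.Agent.S3533
end
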