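import Mathlib
import Cfsg.Statements.S3555
import Cfsg.Agent.Solvable.FrobeniusTheorem
set_option linter.all false

-- part: H395/DerangeCount
section
/-!
The Cameron-Cohen inequality for derangements, and its consequence for transitive groups all of
whose derangements are involutions: in such a group a nontrivial element fixes at most one point.

The counting: if `R` is the number of triples `(g, a, b)` with `g a = a`, `g b = b`, then
`R - |G| ≤ n |D|` (Cameron-Cohen), with equality only if the non-derangements different from `1`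
fix exactly one point; when the derangements are involutions, `n |D| ≤ R - |G|` holds as well,
because the derangements mapping `a` to `b` also map `b` to `a` and so lie in one coset of the
stabiliser of `a` and `b`.
-/

set_option autoImplicit false

namespace Cfsg.Agent.H395.DerangeCount

open MulAction Finset

section

variable {G X : Type*} [Group G] [Fintype G] [MulAction G X] [Fintype X] [DecidableEq X]

/-- The number of fixed points. -/
def fixn (X : Type*) [MulAction G X] [Fintype X] [DecidableEq X] (g : G) : ℕ :=
  (univ.filter fun a : X => g • a = a).card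

/-- The number of elements fixing two points. -/
def stab2 [DecidableEq G] (a b : X) : ℕ := (univ.filter fun g : G => g • a = a ∧ g • b = b).card

theorem sum_fixn (ht : IsPretransitive G X) [Nonempty X] :
    ∑ g : G, fixn X g = Fintype.card G := by
  classical
  have horb : Fintype.card (orbitRel.Quotient G X) = 1 := by
    have hsub : Subsingleton (orbitRel.Quotient G X) := by
      refine ⟨fun a b => ?_⟩
      induction a using Quotient.inductionOn'
      induction b using Quotient.inductionOn'
      rename_i a b
      refine Quotient.sound' ?_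
      obtain ⟨g, hg⟩ := ht.exists_smul_eq b a
      exact ⟨g, hg⟩
    have hnon : Nonempty (orbitRel.Quotient G X) :=
      ⟨Quotient.mk'' (Classical.arbitrary X)⟩
    exact Fintype.card_eq_one_iff_nonempty_unique.mpr
      ⟨⟨⟨hnon.some⟩, fun _ => Subsingleton.elim _ _⟩⟩
  have hb := sum_card_fixedBy_eq_card_orbits_mul_card_group G X
  rw [horb, one_mul] at hb
  rw [← hb]
  refine Finset.sum_congr rfl fun g _ => ?_
  rw [fixn, ← Fintype.card_subtype]
  exact Fintype.card_congr (Equiv.refl _)

/-- The set of derangements. -/
def der (G X : Type*) [Group G] [Fintype G] [MulAction G X] [Fintype X] [DecidableEq X] :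
    Finset G := univ.filter fun g : G => ∀ a : X, g • a ≠ a

theorem mem_der {g : G} : g ∈ der G X ↔ ∀ a : X, g • a ≠ a := by
  simp [der]

theorem fixn_eq_zero {g : G} (hg : g ∈ der G X) : fixn X g = 0 := by
  rw [fixn, Finset.card_eq_zero, Finset.filter_eq_empty_iff]
  intro a _
  exact mem_der.mp hg a

theorem fixn_pos {g : G} (hg : g ∉ der G X) : 1 ≤ fixn X g := by
  rw [mem_der] at hg
  push Not at hg
  obtain ⟨a, ha⟩ := hg
  exact Finset.card_pos.mpr ⟨a, Finset.mem_filter.mpr ⟨Finset.mem_univ _, ha⟩⟩

omit [Fintype G] in
theorem fixn_le (g : G) : fixn X g ≤ Fintype.card X := Finset.card_le_univ _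

theorem sum_sq [DecidableEq G] :
    ∑ g : G, fixn X g * fixn X g = ∑ a : X, ∑ b : X, stab2 (G := G) a b := by
  have h1 : ∀ g : G, fixn X g * fixn X g =
      ∑ a : X, ∑ b : X, if g • a = a ∧ g • b = b then 1 else 0 := by
    intro g
    rw [fixn, Finset.card_filter, Finset.sum_mul_sum]
    refine Finset.sum_congr rfl fun a _ => Finset.sum_congr rfl fun b _ => ?_
    by_cases ha : g • a = a <;> by_cases hb : g • b = b <;> simp [ha, hb]
  simp_rw [h1]
  rw [Finset.sum_comm]
  refine Finset.sum_congr rfl fun a _ => ?_
  rw [Finset.sum_comm]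
  refine Finset.sum_congr rfl fun b _ => ?_
  rw [stab2, Finset.card_filter]

theorem sum_diag [DecidableEq G] :
    ∑ a : X, stab2 (G := G) a a = ∑ g : G, fixn X g := by
  have h1 : ∀ g : G, fixn X g = ∑ a : X, if g • a = a then 1 else 0 := fun g => by
    rw [fixn, Finset.card_filter]
  simp_rw [h1]
  rw [Finset.sum_comm]
  refine Finset.sum_congr rfl fun a _ => ?_
  rw [stab2, Finset.card_filter]
  refine Finset.sum_congr rfl fun g _ => ?_
  by_cases h : g • a = a <;> simp [h]

/-- **Cameron-Cohen**, with the defect: the derangement count times the degree is the number of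
triples `(g,a,b)`, `a ≠ b`, plus a sum over the other elements. -/
theorem cameron_cohen (ht : IsPretransitive G X) [Nonempty X] [DecidableEq G] :
    ((Fintype.card X : ℤ) * (der G X).card) =
      (∑ a : X, ∑ b : X, (stab2 (G := G) a b : ℤ)) - Fintype.card G +
      ∑ g ∈ univ.filter (fun g : G => g ∉ der G X),
        ((fixn X g : ℤ) - 1) * ((Fintype.card X : ℤ) - fixn X g) := by
  have h1 : (∑ g : G, (fixn X g : ℤ)) = Fintype.card G := by
    exact_mod_cast sum_fixn ht
  have h2 : (∑ g : G, (fixn X g : ℤ) * fixn X g) = ∑ a : X, ∑ b : X, (stab2 (G := G) a b : ℤ) := by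
    exact_mod_cast sum_sq (G := G) (X := X)
  have h3 : ∑ g : G, ((fixn X g : ℤ) - 1) * ((Fintype.card X : ℤ) - fixn X g) =
      Fintype.card G - ∑ a : X, ∑ b : X, (stab2 (G := G) a b : ℤ) := by
    rw [← h2]
    have h4 : ∀ g : G, ((fixn X g : ℤ) - 1) * ((Fintype.card X : ℤ) - fixn X g) =
        (Fintype.card X : ℤ) * fixn X g - fixn X g * fixn X g - Fintype.card X + fixn X g := by
      intro g; ring
    simp_rw [h4]
    rw [Finset.sum_add_distrib, Finset.sum_sub_distrib, Finset.sum_sub_distrib, ← Finset.mul_sum,
      h1, Finset.sum_const, Finset.card_univ, nsmul_eq_mul]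
    ring
  have h5 : ∑ g ∈ univ.filter (fun g : G => g ∈ der G X),
        ((fixn X g : ℤ) - 1) * ((Fintype.card X : ℤ) - fixn X g) =
      - ((Fintype.card X : ℤ) * (der G X).card) := by
    have h6 : univ.filter (fun g : G => g ∈ der G X) = der G X := by
      ext g; simp
    rw [h6]
    have h7 : ∀ g ∈ der G X, ((fixn X g : ℤ) - 1) * ((Fintype.card X : ℤ) - fixn X g) =
        - (Fintype.card X : ℤ) := by
      intro g hg
      rw [fixn_eq_zero hg]
      push_cast
      ring
    rw [Finset.sum_congr rfl h7, Finset.sum_const, nsmul_eq_mul]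
    ring
  have h8 := Finset.sum_filter_add_sum_filter_not (univ : Finset G) (fun g => g ∈ der G X)
    (fun g => ((fixn X g : ℤ) - 1) * ((Fintype.card X : ℤ) - fixn X g))
  rw [h3, h5] at h8
  linarith

/-- The upper bound when the derangements are involutions. -/
theorem involution_bound [DecidableEq G] (hinv : ∀ g ∈ der G X, g * g = 1) :
    (Fintype.card X) * (der G X).card + ∑ a : X, stab2 (G := G) a a ≤
      ∑ a : X, ∑ b : X, stab2 (G := G) a b := by
  have h1 : ∀ a : X, (der G X).card = ∑ b : X, ((der G X).filter fun g => g • a = b).card := by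
    intro a
    exact Finset.card_eq_sum_card_fiberwise (f := fun g : G => g • a) (t := univ)
      (fun g _ => Finset.mem_coe.mpr (Finset.mem_univ _))
  have h2 : ∀ a b : X, ((der G X).filter fun g => g • a = b).card +
      (if b = a then stab2 (G := G) a a else 0) ≤ stab2 (G := G) a b := by
    intro a b
    by_cases hab : b = a
    · subst hab
      have h3 : (der G X).filter (fun g => g • b = b) = ∅ := by
        rw [Finset.filter_eq_empty_iff]
        intro g hg
        exact mem_der.mp hg b
      rw [h3, if_pos rfl, Finset.card_empty, zero_add]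
    · rw [if_neg hab, add_zero]
      by_cases hne : ((der G X).filter fun g => g • a = b).Nonempty
      · obtain ⟨t, ht⟩ := hne
        rw [Finset.mem_filter] at ht
        obtain ⟨htD, hta⟩ := ht
        have htb : t • b = a := by
          rw [← hta, smul_smul, hinv t htD, one_smul]
        rw [stab2]
        refine Finset.card_le_card_of_injOn (fun g => t * g) ?_ ?_
        · intro g hg
          rw [Finset.mem_coe, Finset.mem_filter] at hg
          obtain ⟨hgD, hga⟩ := hg
          have hgb : g • b = a := by
            rw [← hga, smul_smul, hinv g hgD, one_smul]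
          rw [Finset.mem_coe, Finset.mem_filter]
          exact ⟨Finset.mem_univ _, by rw [mul_smul, hga, htb], by rw [mul_smul, hgb, hta]⟩
        · intro g _ g' _ h
          exact mul_left_cancel h
      · rw [Finset.not_nonempty_iff_eq_empty] at hne
        rw [hne, Finset.card_empty]
        exact Nat.zero_le _
  calc (Fintype.card X) * (der G X).card + ∑ a : X, stab2 (G := G) a a
      = ∑ a : X, ((der G X).card + stab2 (G := G) a a) := by
        rw [Finset.sum_add_distrib, Finset.sum_const, Finset.card_univ, smul_eq_mul]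
    _ = ∑ a : X, ∑ b : X, (((der G X).filter fun g => g • a = b).card +
          (if b = a then stab2 (G := G) a a else 0)) := by
        refine Finset.sum_congr rfl fun a _ => ?_
        rw [Finset.sum_add_distrib, ← h1 a, Finset.sum_ite_eq' univ a, if_pos (Finset.mem_univ _)]
    _ ≤ ∑ a : X, ∑ b : X, stab2 (G := G) a b :=
        Finset.sum_le_sum fun a _ => Finset.sum_le_sum fun b _ => h2 a b

end

/-- **In a finite transitive permutation group whose derangements are involutions, a nontrivial
element fixes at most one point.** -/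
theorem fixes_at_most_one {G X : Type*} [Group G] [Finite G] [MulAction G X] [FaithfulSMul G X]
    [Finite X] (ht : IsPretransitive G X)
    (hinv : ∀ g : G, (∀ a : X, g • a ≠ a) → orderOf g = 2) {g : G} (hg : g ≠ 1) {a b : X}
    (ha : g • a = a) (hb : g • b = b) : a = b := by
  classical
  have : Fintype G := Fintype.ofFinite G
  have : Fintype X := Fintype.ofFinite X
  have : Nonempty X := ⟨a⟩
  have h1 := cameron_cohen (G := G) (X := X) ht
  have h2 := involution_bound (G := G) (X := X) (fun g hg => by
    have := hinv g (mem_der.mp hg)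
    rw [← sq, ← this, pow_orderOf_eq_one])
  rw [sum_diag, sum_fixn ht] at h2
  have h2' : ((Fintype.card X : ℤ) * (der G X).card) + Fintype.card G ≤
      ∑ a : X, ∑ b : X, (stab2 (G := G) a b : ℤ) := by exact_mod_cast h2
  have h3 : ∑ g ∈ univ.filter (fun g : G => g ∉ der G X),
        ((fixn X g : ℤ) - 1) * ((Fintype.card X : ℤ) - fixn X g) ≤ 0 := by linarith
  have h4 : ∀ g ∈ univ.filter (fun g : G => g ∉ der G X),
      0 ≤ ((fixn X g : ℤ) - 1) * ((Fintype.card X : ℤ) - fixn X g) := by
    intro g hg
    rw [Finset.mem_filter] at hg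
    have h5 := fixn_pos hg.2
    have h6 := fixn_le (X := X) g
    apply mul_nonneg
    · have : (1 : ℤ) ≤ fixn X g := by exact_mod_cast h5
      linarith
    · have : (fixn X g : ℤ) ≤ Fintype.card X := by exact_mod_cast h6
      linarith
  have h5 := (Finset.sum_eq_zero_iff_of_nonneg h4).mp
    (le_antisymm h3 (Finset.sum_nonneg h4))
  have hgD : g ∉ der G X := fun h => mem_der.mp h a ha
  have h6 := h5 g (Finset.mem_filter.mpr ⟨Finset.mem_univ _, hgD⟩)
  rcases mul_eq_zero.mp h6 with h7 | h7
  · have h8 : fixn X g = 1 := by
      have : (fixn X g : ℤ) = 1 := by linarith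
      exact_mod_cast this
    rw [fixn, Finset.card_eq_one] at h8
    obtain ⟨c, hc⟩ := h8
    have ha' : a ∈ univ.filter (fun a : X => g • a = a) :=
      Finset.mem_filter.mpr ⟨Finset.mem_univ _, ha⟩
    have hb' : b ∈ univ.filter (fun a : X => g • a = a) :=
      Finset.mem_filter.mpr ⟨Finset.mem_univ _, hb⟩
    rw [hc, Finset.mem_singleton] at ha' hb'
    rw [ha', hb']
  · exfalso
    apply hg
    have h8 : fixn X g = Fintype.card X := by
      have : (fixn X g : ℤ) = Fintype.card X := by linarith
      exact_mod_cast this
    have h9 : univ.filter (fun a : X => g • a = a) = univ :=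
      Finset.eq_univ_of_card _ h8
    refine FaithfulSMul.eq_of_smul_eq_smul (α := X) fun c => ?_
    have : c ∈ univ.filter (fun a : X => g • a = a) := by rw [h9]; exact Finset.mem_univ _
    rw [one_smul]
    exact (Finset.mem_filter.mp this).2

end Cfsg.Agent.H395.DerangeCount
end

-- part: S3555
section
set_option autoImplicit false
open Cfsg

namespace Cfsg.Agent.S3555

open MulAction Subgroup
open scoped Pointwise

/-- Let G act faithfully and transitively on a finite set and suppose every element of G fixing no point is an involution. Then either G is an elementary abelian 2-group, or G is a Frobenius group whose Frobenius kernel is an elementary abelian 2-group: G has a Frobenius complement H, and the elements lying in no conjugate of H, together with the identity, pairwise commute and square to the identity. -/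
theorem result {G Ω : Type*} [Group G] [Finite G] [MulAction G Ω] [FaithfulSMul G Ω] [Finite Ω]
    (htrans : MulAction.IsPretransitive G Ω) (hinv : ∀ g : G, (∀ ω : Ω, g • ω ≠ ω) → orderOf g = 2) :
    (IsMulCommutative G ∧ ∀ g : G, g ^ 2 = 1) ∨
    (∃ H : Subgroup G, Cfsg.IsFrobeniusComplement H ∧
      (∀ x ∈ Cfsg.frobeniusKernel H, x ^ 2 = 1) ∧
      ∀ x ∈ Cfsg.frobeniusKernel H, ∀ y ∈ Cfsg.frobeniusKernel H, x * y = y * x) := by
  classical
  have hne : Nonempty Ω := by
    by_contra h
    have h1 := hinv 1 (fun ω => absurd ⟨ω⟩ h)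
    rw [orderOf_one] at h1
    omega
  obtain ⟨ω₀⟩ := hne
  have hone : ∀ {g : G}, g ≠ 1 → ∀ {a b : Ω}, g • a = a → g • b = b → a = b :=
    fun hg _ _ ha hb => H395.DerangeCount.fixes_at_most_one htrans hinv hg ha hb
  have hsq : ∀ g : G, (∀ ω : Ω, g • ω ≠ ω) → g ^ 2 = 1 := by
    intro g hg
    rw [← hinv g hg, pow_orderOf_eq_one]
  by_cases hH : stabilizer G ω₀ = ⊥
  · left
    have hall : ∀ g : G, g ^ 2 = 1 := by
      intro g
      by_cases hg : g = 1
      · rw [hg, one_pow]
      · apply hsq
        intro ω hω
        obtain ⟨k, rfl⟩ := htrans.exists_smul_eq ω₀ ω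
        have h1 : k⁻¹ * g * k ∈ stabilizer G ω₀ := by
          rw [mem_stabilizer_iff, mul_smul, mul_smul, hω, inv_smul_smul]
        rw [hH, mem_bot] at h1
        apply hg
        have h2 := congrArg (fun x => k * x * k⁻¹) h1
        simpa [mul_assoc] using h2
    refine ⟨⟨⟨fun x y => ?_⟩⟩, hall⟩
    have hx := hall x
    have hy := hall y
    have hxy := hall (x * y)
    rw [sq] at hx hy hxy
    have h1 : x⁻¹ = x := inv_eq_of_mul_eq_one_left hx
    have h2 : y⁻¹ = y := inv_eq_of_mul_eq_one_left hy
    have h3 : (x * y)⁻¹ = x * y := inv_eq_of_mul_eq_one_left hxy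
    rw [mul_inv_rev, h1, h2] at h3
    exact h3.symm
  · right
    have hcomp : Cfsg.IsFrobeniusComplement (stabilizer G ω₀) := by
      refine ⟨hH, ?_, fun g hg => ?_⟩
      · intro htop
        apply hH
        rw [eq_bot_iff]
        intro x _
        rw [mem_bot]
        refine FaithfulSMul.eq_of_smul_eq_smul (α := Ω) fun ω => ?_
        obtain ⟨k, rfl⟩ := htrans.exists_smul_eq ω₀ ω
        have h1 : k ∈ stabilizer G ω₀ := by rw [htop]; exact mem_top k
        have h2 : x ∈ stabilizer G ω₀ := by rw [htop]; exact mem_top x
        rw [mem_stabilizer_iff] at h1 h2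
        rw [h1, h2, one_smul]
      · rw [eq_bot_iff]
        rintro x ⟨hx1, hx2⟩
        rw [mem_bot]
        by_contra hx
        obtain ⟨y, hy, hyx⟩ := hx2
        change g * y * g⁻¹ = x at hyx
        have h1 : x • ω₀ = ω₀ := hx1
        have hy' : y • ω₀ = ω₀ := hy
        have h2 : x • (g • ω₀) = g • ω₀ := by
          rw [← hyx, smul_smul, inv_mul_cancel_right, mul_smul, hy']
        apply hg
        rw [mem_stabilizer_iff]
        exact (hone hx h1 h2).symm
    have hker : ∀ x ∈ Cfsg.frobeniusKernel (stabilizer G ω₀), x ^ 2 = 1 := by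
      intro x hx
      rcases hx with rfl | hx
      · rw [one_pow]
      · apply hsq
        intro ω hω
        obtain ⟨k, rfl⟩ := htrans.exists_smul_eq ω₀ ω
        apply hx k
        refine ⟨k⁻¹ * x * k, ?_, ?_⟩
        · change k⁻¹ * x * k ∈ stabilizer G ω₀
          rw [mem_stabilizer_iff, mul_smul, mul_smul, hω, inv_smul_smul]
        · change k * (k⁻¹ * x * k) * k⁻¹ = x
          group
    refine ⟨stabilizer G ω₀, hcomp, hker, fun x hx y hy => ?_⟩
    obtain ⟨N, hN, -, -⟩ := Cfsg.Agent.Solvable.FrobeniusTheorem.frobenius hcomp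
    have hx' : x ∈ N := by rw [← SetLike.mem_coe, hN]; exact hx
    have hy' : y ∈ N := by rw [← SetLike.mem_coe, hN]; exact hy
    have hxy' : x * y ∈ Cfsg.frobeniusKernel (stabilizer G ω₀) := by
      rw [← hN]; exact N.mul_mem hx' hy'
    have h1 := hker x hx
    have h2 := hker y hy
    have h3 := hker _ hxy'
    rw [sq] at h1 h2 h3
    have h4 : x⁻¹ = x := inv_eq_of_mul_eq_one_left h1
    have h5 : y⁻¹ = y := inv_eq_of_mul_eq_one_left h2
    have h6 : (x * y)⁻¹ = x * y := inv_eq_of_mul_eq_one_left h3
    rw [mul_inv_rev, h4, h5] at h6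
    exact h6.symm

end Cfsg.Agent.S3555
end
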