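import Cfsg.Agent.PermutationGroups.OnanScott
import Cfsg.Agent.PermutationGroups.JordanNormal
import Cfsg.Agent.H395.Jordan
import Cfsg.Statements.S3556
set_option linter.all false

-- part: H395/PrimNonab
section
/-!
Primitive groups in which the derangements are `p`-elements: a non-abelian minimal normal subgroup
is simple with trivial centraliser.
-/

set_option autoImplicit false

namespace Cfsg.Agent.H395.PrimNonab

open MulAction Subgroup

/-- A finite group that is not commutative and simple has, for each prime `p`, an element of prime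
order different from `p`. -/
theorem exists_prime_ne {T : Type*} [Group T] [Finite T] [IsSimpleGroup T]
    (hna : ∃ a b : T, a * b ≠ b * a) (p : ℕ) (hp : p.Prime) :
    ∃ (q : ℕ) (t : T), q.Prime ∧ q ≠ p ∧ orderOf t = q := by
  by_contra hcon
  push Not at hcon
  have : Fact p.Prime := ⟨hp⟩
  have hP : IsPGroup p T := by
    rw [IsPGroup.iff_card]
    have h1 : ∀ q : ℕ, q.Prime → q ∣ Nat.card T → q = p := by
      intro q hq hqd
      by_contra hqp
      have : Fact q.Prime := ⟨hq⟩
      obtain ⟨t, ht⟩ := exists_prime_orderOf_dvd_card' (G := T) q hqd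
      exact hcon q t hq hqp ht
    exact ⟨_, Nat.eq_prime_pow_of_unique_prime_dvd Nat.card_pos.ne' (fun {q} hq hqd => h1 q hq hqd)⟩
  have hnt : Nontrivial T := inferInstance
  have hc := hP.center_nontrivial
  rcases (inferInstance : (center T).Normal).eq_bot_or_eq_top with h | h
  · rw [h] at hc
    exact absurd hc (by
      intro h'
      exact (Subgroup.nontrivial_iff_ne_bot _).mp h' rfl)
  · obtain ⟨a, b, hab⟩ := hna
    apply hab
    have : b ∈ center T := by rw [h]; exact mem_top b
    exact mem_center_iff.mp this a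

variable {G Ω : Type*} [Group G] [Finite G] [MulAction G Ω] [FaithfulSMul G Ω] [Finite Ω]

/-- The main reduction. -/
theorem nonabelian_minimal (hprim : IsPreprimitive G Ω) (p : ℕ) (hp : p.Prime)
    (hder : ∀ g : G, (∀ ω : Ω, g • ω ≠ ω) → ∃ k : ℕ, orderOf g = p ^ k)
    (N : Subgroup G) [N.Normal]
    (hmin : ∀ M : Subgroup G, M.Normal → M ≤ N → M = ⊥ ∨ M = N)
    (hna : ¬ ∀ x ∈ N, ∀ y ∈ N, Commute x y) :
    IsSimpleGroup N ∧ ¬ IsMulCommutative N ∧ centralizer (N : Set G) = ⊥ := by
  classical
  obtain ⟨m, T, e, hm, hsimple, hTna, hTinj, hTle, hTn, -, -, hsingle, hcoord⟩ :=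
    PermutationGroups.OnanScott.exists_coordinates N hmin hna
  -- a nontrivial element moves a point
  have hmove : ∀ g : G, g ≠ 1 → ∃ ω : Ω, g • ω ≠ ω := by
    intro g hg
    by_contra hcon
    push Not at hcon
    exact hg (FaithfulSMul.eq_of_smul_eq_smul (α := Ω) fun ω => by rw [hcon ω, one_smul])
  have hNbot : ∃ n ∈ N, n ≠ 1 := by
    by_contra hcon
    push Not at hcon
    exact hna fun x hx y hy => by rw [hcon x hx, hcon y hy]
  have htransN : IsPretransitive N Ω := by
    obtain ⟨n, hn, hn1⟩ := hNbot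
    obtain ⟨ω, hω⟩ := hmove n hn1
    exact PermutationGroups.JordanNormal.normal_transitive_of_primitive hprim N ⟨n, hn, ω, hω⟩
  have hne : Nonempty Ω := by
    obtain ⟨n, hn, hn1⟩ := hNbot
    obtain ⟨ω, hω⟩ := hmove n hn1
    exact ⟨ω⟩
  obtain ⟨ω₀⟩ := hne
  -- derangements of `N` have `p`-power order
  have hderN : ∀ n : N, (∀ ω : Ω, n • ω ≠ ω) → ∃ k : ℕ, orderOf n = p ^ k := by
    intro n hn
    obtain ⟨k, hk⟩ := hder n hn
    exact ⟨k, by rw [← hk, Subgroup.orderOf_coe]⟩
  -- an element of `N` one of whose coordinates has order divisible by `q ≠ p` fixes a point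
  have hfix : ∀ (n : N) (i : Fin m) (q : ℕ), q.Prime → q ≠ p → q ∣ orderOf (e n i) →
      ∃ k : N, (k⁻¹ * n * k) • ω₀ = ω₀ := by
    intro n i q hq hqp hqd
    by_contra hcon
    push Not at hcon
    obtain ⟨k, hk⟩ := hderN n (fun ω hω => by
      obtain ⟨k, rfl⟩ := htransN.exists_smul_eq ω₀ ω
      apply hcon k
      rw [mul_assoc, mul_smul, mul_smul, hω, inv_smul_smul])
    have h1 : orderOf (e n i) ∣ orderOf n := by
      have h2 : orderOf (e n i) ∣ orderOf (e n) := orderOf_map_dvd (Pi.evalMonoidHom _ i) (e n)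
      rwa [MulEquiv.orderOf_eq] at h2
    rw [hk] at h1
    exact hqp ((Nat.prime_dvd_prime_iff_eq hq hp).mp (hq.dvd_of_dvd_pow (hqd.trans h1)))
  -- projection of the stabiliser
  let P : ∀ i, Subgroup (T i) := fun i =>
    (stabilizer N ω₀).map ((Pi.evalMonoidHom (fun i => T i) i).comp e.toMonoidHom)
  have hP : ∀ i (t : T i), t ∈ P i ↔ ∃ n : N, n • ω₀ = ω₀ ∧ e n i = t := by
    intro i t
    constructor
    · rintro ⟨n, hn, rfl⟩
      exact ⟨n, hn, rfl⟩
    · rintro ⟨n, hn, rfl⟩
      exact ⟨n, hn, rfl⟩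
  -- the projection is never onto
  have hPtop : ∀ i, P i ≠ ⊤ := by
    intro i hi
    have := hsimple i
    obtain ⟨q, t, hq, hqp, ht⟩ := exists_prime_ne (hTna i) p hp
    -- the elements of `T i` fixing `ω₀`
    let S : Subgroup (T i) := (stabilizer N ω₀).comap (e.symm.toMonoidHom.comp
      (MonoidHom.mulSingle (fun i => T i) i))
    have hS : ∀ s : T i, s ∈ S ↔ (e.symm (Pi.mulSingle i s)) • ω₀ = ω₀ := fun s => Iff.rfl
    have hSn : S.Normal := by
      refine ⟨fun s hs t => ?_⟩
      obtain ⟨n, hn, hnt⟩ := (hP i t).mp (by rw [hi]; exact mem_top t)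
      rw [hS] at hs ⊢
      have h1 : e.symm (Pi.mulSingle i (t * s * t⁻¹)) = n * e.symm (Pi.mulSingle i s) * n⁻¹ := by
        apply e.injective
        rw [map_mul, map_mul, map_inv, MulEquiv.apply_symm_apply, MulEquiv.apply_symm_apply]
        funext j
        by_cases hj : j = i
        · subst hj
          rw [Pi.mul_apply, Pi.mul_apply, Pi.inv_apply, Pi.mulSingle_eq_same,
            Pi.mulSingle_eq_same, hnt]
        · rw [Pi.mul_apply, Pi.mul_apply, Pi.inv_apply, Pi.mulSingle_eq_of_ne hj,
            Pi.mulSingle_eq_of_ne hj, mul_one, mul_inv_cancel]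
      have hn' : n⁻¹ • ω₀ = ω₀ := by rw [inv_smul_eq_iff, hn]
      rw [h1, mul_smul, mul_smul, hn', hs, hn]
    have hSbot : S ≠ ⊥ := by
      intro hbot
      obtain ⟨k, hk⟩ := hfix (e.symm (Pi.mulSingle i t)) i q hq hqp (by
        rw [MulEquiv.apply_symm_apply, Pi.mulSingle_eq_same, ht])
      have h1 : (e k i)⁻¹ * t * e k i ∈ S := by
        rw [hS]
        have h2 : e.symm (Pi.mulSingle i ((e k i)⁻¹ * t * e k i)) =
            k⁻¹ * e.symm (Pi.mulSingle i t) * k := by
          apply e.injective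
          rw [map_mul, map_mul, map_inv, MulEquiv.apply_symm_apply, MulEquiv.apply_symm_apply]
          funext j
          by_cases hj : j = i
          · subst hj
            rw [Pi.mul_apply, Pi.mul_apply, Pi.inv_apply, Pi.mulSingle_eq_same,
              Pi.mulSingle_eq_same]
          · rw [Pi.mul_apply, Pi.mul_apply, Pi.inv_apply, Pi.mulSingle_eq_of_ne hj,
              Pi.mulSingle_eq_of_ne hj, mul_one, inv_mul_cancel]
        rw [h2]
        exact hk
      rw [hbot, mem_bot] at h1
      have h3 : t = 1 := by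
        have := congrArg (fun x => e k i * x * (e k i)⁻¹) h1
        simpa [mul_assoc] using this
      rw [h3, orderOf_one] at ht
      exact hq.one_lt.ne ht
    have hStop : S = ⊤ := by
      rcases hSn.eq_bot_or_eq_top with h | h
      · exact absurd h hSbot
      · exact h
    -- so `T i` fixes all points
    have hall : ∀ (s : T i) (ω : Ω), (s : G) • ω = ω := by
      intro s ω
      obtain ⟨k, rfl⟩ := htransN.exists_smul_eq ω₀ ω
      have h1 : (k : G)⁻¹ * s * k ∈ T i := by
        have h2 := hTn i (N.inv_mem k.2)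
        have := (mem_normalizer_iff.mp h2 s).mp s.2
        simpa using this
      have h2 : (⟨(k : G)⁻¹ * s * k, h1⟩ : T i) ∈ S := by rw [hStop]; exact mem_top _
      rw [hS] at h2
      have h3 : ((e.symm (Pi.mulSingle i (⟨(k : G)⁻¹ * s * k, h1⟩ : T i)) : N) : G) =
          (k : G)⁻¹ * s * k := hsingle i _
      have h4 : ((k : G)⁻¹ * s * k) • ω₀ = ω₀ := by
        rw [← h3]
        exact h2
      change (s : G) • (k : G) • ω₀ = (k : G) • ω₀
      calc (s : G) • (k : G) • ω₀ = (k : G) • ((k : G)⁻¹ * s * k) • ω₀ := by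
            rw [smul_smul, smul_smul]; congr 1; group
        _ = (k : G) • ω₀ := by rw [h4]
    obtain ⟨s, hs⟩ := exists_ne (1 : T i)
    apply hs
    apply Subtype.ext
    exact FaithfulSMul.eq_of_smul_eq_smul (α := Ω) fun ω => by
      rw [hall s ω, OneMemClass.coe_one, one_smul]
  -- hence there is only one factor
  have hone : ∀ i j : Fin m, i = j := by
    intro i j
    by_contra hij
    obtain ⟨x, hx⟩ := Jordan.exists_not_conj_mem (hPtop i)
    have := hsimple j
    obtain ⟨q, t, hq, hqp, ht⟩ := exists_prime_ne (hTna j) p hp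
    obtain ⟨f, hfi, hfj⟩ : ∃ f : ∀ i, T i, f i = x ∧ f j = t := by
      refine ⟨Pi.mulSingle i x * Pi.mulSingle j t, ?_, ?_⟩
      · rw [Pi.mul_apply, Pi.mulSingle_eq_same, Pi.mulSingle_eq_of_ne hij, mul_one]
      · rw [Pi.mul_apply, Pi.mulSingle_eq_same, Pi.mulSingle_eq_of_ne (Ne.symm hij), one_mul]
    obtain ⟨k, hk⟩ := hfix (e.symm f) j q hq hqp (by rw [MulEquiv.apply_symm_apply, hfj, ht])
    apply hx (e k i)
    rw [hP]
    refine ⟨k⁻¹ * e.symm f * k, hk, ?_⟩
    rw [map_mul, map_mul, map_inv, MulEquiv.apply_symm_apply, Pi.mul_apply, Pi.mul_apply,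
      Pi.inv_apply, hfi]
  -- so `N` is the unique factor
  let i₀ : Fin m := ⟨0, hm⟩
  have hNT : T i₀ = N := by
    apply le_antisymm (hTle i₀)
    intro n hn
    have h1 : e ⟨n, hn⟩ = Pi.mulSingle i₀ (e ⟨n, hn⟩ i₀) := by
      funext j
      rw [hone j i₀, Pi.mulSingle_eq_same]
    have h2 := hsingle i₀ (e ⟨n, hn⟩ i₀)
    rw [← h1, MulEquiv.symm_apply_apply] at h2
    change n = _ at h2
    rw [h2]
    exact (e ⟨n, hn⟩ i₀).2
  have hNs : IsSimpleGroup N := by rw [← hNT]; exact hsimple i₀
  refine ⟨hNs, fun h => hna fun x hx y hy => ?_, ?_⟩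
  · exact congrArg Subtype.val (h.is_comm.comm ⟨x, hx⟩ ⟨y, hy⟩)
  · by_contra hC
    have hCn : (centralizer (N : Set G)).Normal := inferInstance
    have htransC : IsPretransitive (centralizer (N : Set G)) Ω := by
      obtain ⟨c, hc⟩ := Subgroup.ne_bot_iff_exists_ne_one.mp hC
      obtain ⟨ω, hω⟩ := hmove (c : G) (fun h => hc (Subtype.ext h))
      exact PermutationGroups.JordanNormal.normal_transitive_of_primitive hprim _ ⟨c, c.2, ω, hω⟩
    -- `N` is semiregular
    have hsemi : ∀ n : N, n • ω₀ = ω₀ → n = 1 := by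
      intro n hn
      apply Subtype.ext
      refine FaithfulSMul.eq_of_smul_eq_smul (α := Ω) fun ω => ?_
      obtain ⟨c, rfl⟩ := htransC.exists_smul_eq ω₀ ω
      have h1 : (n : G) * c = c * n := mem_centralizer_iff.mp c.2 n n.2
      rw [OneMemClass.coe_one, one_smul]
      change (n : G) • (c : G) • ω₀ = (c : G) • ω₀
      have hn' : (n : G) • ω₀ = ω₀ := hn
      rw [smul_smul, h1, mul_smul, hn']
    have := hsimple i₀
    obtain ⟨q, t, hq, hqp, ht⟩ := exists_prime_ne (hTna i₀) p hp
    obtain ⟨k, hk⟩ := hfix (e.symm (Pi.mulSingle i₀ t)) i₀ q hq hqp (by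
      rw [MulEquiv.apply_symm_apply, Pi.mulSingle_eq_same, ht])
    have h1 := hsemi _ hk
    have h2 : e.symm (Pi.mulSingle i₀ t) = 1 := by
      have := congrArg (fun x => k * x * k⁻¹) h1
      simpa [mul_assoc] using this
    have h3 : (Pi.mulSingle i₀ t : ∀ i, T i) = 1 := by
      have := congrArg e h2
      rwa [MulEquiv.apply_symm_apply, map_one] at this
    have h4 : t = 1 := by
      have := congrFun h3 i₀
      rwa [Pi.mulSingle_eq_same] at this
    rw [h4, orderOf_one] at ht
    exact hq.one_lt.ne ht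

end Cfsg.Agent.H395.PrimNonab
end

-- part: S3556
section
set_option autoImplicit false
open Cfsg

namespace Cfsg.Agent.S3556

open MulAction Subgroup

/-- Let G act faithfully and primitively on a finite set with at least two points, and suppose that for some fixed prime p every element of G fixing no point has order a power of p. Then G is of affine type (it has a regular normal subgroup that is an elementary abelian r-group for some prime r) or almost simple (it has a non-abelian simple normal subgroup with trivial centralizer). -/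
theorem result {G Ω : Type*} [Group G] [Finite G] [MulAction G Ω] [FaithfulSMul G Ω] [Finite Ω]
    (hprim : MulAction.IsPreprimitive G Ω) (hΩ : 2 ≤ Nat.card Ω) (p : ℕ) (hp : p.Prime)
    (hder : ∀ g : G, (∀ ω : Ω, g • ω ≠ ω) → ∃ k : ℕ, orderOf g = p ^ k) :
    (∃ (N : Subgroup G) (r : ℕ), r.Prime ∧ N.Normal ∧ Cfsg.IsElementaryAbelian r N ∧
      MulAction.IsPretransitive N Ω ∧ ∀ a : Ω, MulAction.stabilizer N a = ⊥) ∨
    (∃ T : Subgroup G, T.Normal ∧ IsSimpleGroup ↥T ∧ ¬ IsMulCommutative ↥T ∧
      Subgroup.centralizer (T : Set G) = ⊥) := by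
  classical
  -- a minimal normal subgroup
  obtain ⟨d, hd⟩ := H395.Jordan.exists_derangement (G := G) (X := Ω) inferInstance hΩ
  have hne : Nonempty Ω := by
    rw [← not_isEmpty_iff]
    intro h
    rw [Nat.card_of_isEmpty] at hΩ
    omega
  have htop : (⊤ : Subgroup G) ≠ ⊥ := by
    intro h
    have h1 : d ∈ (⊥ : Subgroup G) := by rw [← h]; exact mem_top d
    rw [mem_bot] at h1
    obtain ⟨ω⟩ := hne
    exact hd ω (by rw [h1, one_smul])
  obtain ⟨N, -, hN0, hNn, hNmin⟩ := Lib.MinNormal.exists_minimal_normal_le (⊤ : Subgroup G) htop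
  have hNn' : N.Normal := by
    rw [← normalizer_eq_top_iff, eq_top_iff]
    exact hNn
  have hmin : ∀ M : Subgroup G, M.Normal → M ≤ N → M = ⊥ ∨ M = N := by
    intro M hM hMN
    refine hNmin M hMN ?_
    rw [normalizer_eq_top_iff.mpr hM]
  by_cases hab : ∀ x ∈ N, ∀ y ∈ N, Commute x y
  · left
    obtain ⟨r, hr, -, hrN⟩ := Lib.MinNormalNonabelian.abelian_structure N hN0 hmin hab
    have htransN : IsPretransitive N Ω := by
      obtain ⟨n, hn⟩ := Subgroup.ne_bot_iff_exists_ne_one.mp hN0
      have : ∃ ω : Ω, (n : G) • ω ≠ ω := by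
        by_contra hcon
        push Not at hcon
        apply hn
        apply Subtype.ext
        exact FaithfulSMul.eq_of_smul_eq_smul (α := Ω) fun ω => by
          rw [hcon ω, OneMemClass.coe_one, one_smul]
      obtain ⟨ω, hω⟩ := this
      exact PermutationGroups.JordanNormal.normal_transitive_of_primitive hprim _ ⟨n, n.2, ω, hω⟩
    refine ⟨N, r, hr, hNn', ⟨⟨⟨fun x y => Subtype.ext (hab x x.2 y y.2).eq⟩⟩, hrN⟩, htransN,
      fun a => ?_⟩
    rw [eq_bot_iff]
    intro n hn
    rw [mem_bot]
    apply Subtype.ext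
    refine FaithfulSMul.eq_of_smul_eq_smul (α := Ω) fun ω => ?_
    obtain ⟨c, rfl⟩ := htransN.exists_smul_eq a ω
    rw [OneMemClass.coe_one, one_smul]
    change (n : G) • (c : G) • a = (c : G) • a
    have hn' : (n : G) • a = a := hn
    rw [smul_smul, (hab n n.2 c c.2).eq, mul_smul, hn']
  · right
    exact ⟨N, hNn', H395.PrimNonab.nonabelian_minimal hprim p hp hder N hmin hab⟩

end Cfsg.Agent.S3556
end
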