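import Cfsg.Statements.S3557
import Cfsg.Agent.Lib.NormalAbelian
set_option linter.all false

set_option autoImplicit false
open Cfsg

namespace Cfsg.Agent.S3557

open MulAction Subgroup

/-- The orbits of a Sylow `p`-subgroup have size divisible by the `p`-part of the degree. -/
theorem dvd_orbit {G Ω : Type*} [Group G] [Finite G] [MulAction G Ω] [Finite Ω]
    (htrans : IsPretransitive G Ω) {p : ℕ} [Fact p.Prime] (P : Sylow p G) {k : ℕ}
    (hk : p ^ k ∣ Nat.card Ω) (a : Ω) : p ^ k ∣ (orbit P a).ncard := by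
  classical
  have h1 : (MulAction.stabilizer G a).index = Nat.card Ω :=
    MulAction.index_stabilizer_of_transitive G a
  have h2 : (MulAction.stabilizer G a).relIndex P = (MulAction.orbit P a).ncard := by
    rw [← MulAction.index_stabilizer]
    rfl
  have h3 : (MulAction.stabilizer G a).relIndex P * (P : Subgroup G).index
      = (P : Subgroup G).relIndex (MulAction.stabilizer G a) *
        (MulAction.stabilizer G a).index := by
    rw [← Subgroup.inf_relIndex_right, Subgroup.relIndex_mul_index inf_le_right,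
      ← Subgroup.inf_relIndex_left, Subgroup.relIndex_mul_index inf_le_left]
  have h4 : Nat.Coprime (p ^ k) (P : Subgroup G).index := by
    refine Nat.Coprime.pow_left k ?_
    exact (Nat.Prime.coprime_iff_not_dvd (Fact.out)).2 P.not_dvd_index
  rw [← h2]
  refine h4.dvd_of_dvd_mul_right ?_
  rw [h3, h1]
  exact hk.trans (dvd_mul_left _ _)

/-- The core of the argument, for the Sylow subgroup `P`: either a central element of order `p` is a
derangement or there is a permutation in the 2-closure. -/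
theorem main {P Ω : Type*} [Group P] [Finite P] [MulAction P Ω] [Finite Ω]
    {p : ℕ} [hp : Fact p.Prime] (hP : IsPGroup p P) (hcard : Nat.card Ω = 2 * p ^ 2)
    (horb : ∀ a : Ω, p ^ 2 ∣ (orbit P a).ncard) (z : P) (hz : orderOf z = p)
    (hzc : z ∈ center P) {a₀ b₀ : Ω} (ha₀ : z • a₀ = a₀) (hb₀ : z • b₀ ≠ b₀) :
    ∃ σ : Equiv.Perm Ω, (∀ a b : Ω, ∃ g : P, σ a = g • a ∧ σ b = g • b) ∧
      (∀ a : Ω, σ a ≠ a) ∧ σ ^ p = 1 := by
  classical
  have hzc' : ∀ g : P, g * z = z * g := fun g => mem_center_iff.mp hzc g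
  have hzcz : ∀ (j : ℤ) (g : P), g * z ^ j = z ^ j * g := fun j g => by
    have h : Commute g z := hzc' g
    exact (h.zpow_right j).eq
  -- `z` is trivial on the orbit of `a₀`
  have hzA : ∀ a ∈ orbit P a₀, z • a = a := by
    rintro _ ⟨g, rfl⟩
    change z • g • a₀ = g • a₀
    rw [smul_smul, ← hzc', mul_smul, ha₀]
  have hzB : ∀ b ∈ orbit P b₀, z • b ≠ b := by
    rintro _ ⟨g, rfl⟩ h
    apply hb₀
    change z • g • b₀ = g • b₀ at h
    rw [smul_smul, ← hzc', mul_smul] at h
    exact smul_left_cancel g h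
  have hdisj : Disjoint (orbit P a₀) (orbit P b₀) := by
    rw [Set.disjoint_left]
    intro x hx hx'
    exact hzB x hx' (hzA x hx)
  -- sizes
  have hpos : 0 < p := hp.out.pos
  have hpA : p ^ 2 ≤ (orbit P a₀).ncard := Nat.le_of_dvd
    ((Set.ncard_pos (Set.toFinite _)).2 ⟨a₀, mem_orbit_self a₀⟩) (horb a₀)
  have hpB : p ^ 2 ≤ (orbit P b₀).ncard := Nat.le_of_dvd
    ((Set.ncard_pos (Set.toFinite _)).2 ⟨b₀, mem_orbit_self b₀⟩) (horb b₀)
  have hunion : (orbit P a₀ ∪ orbit P b₀).ncard = (orbit P a₀).ncard + (orbit P b₀).ncard :=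
    Set.ncard_union_eq hdisj (Set.toFinite _) (Set.toFinite _)
  have hle : (orbit P a₀ ∪ orbit P b₀).ncard ≤ 2 * p ^ 2 := by
    rw [← hcard, ← Set.ncard_univ]
    exact Set.ncard_le_ncard (Set.subset_univ _) (Set.toFinite _)
  have hA : (orbit P a₀).ncard = p ^ 2 := by omega
  have hB : (orbit P b₀).ncard = p ^ 2 := by omega
  have huniv : orbit P a₀ ∪ orbit P b₀ = Set.univ := by
    apply Set.eq_of_subset_of_ncard_le (Set.subset_univ _)
    rw [Set.ncard_univ, hcard, hunion, hA, hB]
    omega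
  have hcases : ∀ x : Ω, x ∉ orbit P a₀ → x ∈ orbit P b₀ := by
    intro x hx
    have : x ∈ orbit P a₀ ∪ orbit P b₀ := by rw [huniv]; trivial
    exact this.resolve_left hx
  -- the block stabiliser
  let L : Subgroup P :=
    { carrier := {g | ∃ j : ℤ, g • b₀ = z ^ j • b₀}
      one_mem' := ⟨0, by rw [zpow_zero]⟩
      mul_mem' := by
        rintro g h ⟨i, hi⟩ ⟨j, hj⟩
        refine ⟨i + j, ?_⟩
        rw [mul_smul, hj, smul_smul, hzcz, mul_smul, hi, smul_smul, ← zpow_add, add_comm]
      inv_mem' := by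
        rintro g ⟨i, hi⟩
        refine ⟨-i, ?_⟩
        rw [inv_smul_eq_iff, smul_smul, hzcz, mul_smul, hi, smul_smul, ← zpow_add,
          neg_add_cancel, zpow_zero, one_smul] }
  have hL : ∀ g : P, g ∈ L ↔ ∃ j : ℤ, g • b₀ = z ^ j • b₀ := fun g => Iff.rfl
  have hSL : stabilizer P b₀ ≤ L := by
    intro g hg
    exact ⟨0, by rw [zpow_zero, one_smul]; exact hg⟩
  -- the index of `L` is `p`
  have hLorb : (orbit L b₀).ncard = p := by
    have h1 : orbit L b₀ = orbit (zpowers z) b₀ := by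
      apply Set.Subset.antisymm
      · rintro _ ⟨⟨g, hg⟩, rfl⟩
        obtain ⟨j, hj⟩ := (hL g).mp hg
        refine ⟨⟨z ^ j, ⟨j, rfl⟩⟩, ?_⟩
        exact hj.symm
      · rintro _ ⟨⟨g, hg⟩, rfl⟩
        obtain ⟨j, rfl⟩ := hg
        exact ⟨⟨z ^ j, ⟨j, rfl⟩⟩, rfl⟩
    have h2 : (stabilizer (zpowers z) b₀).index = (orbit (zpowers z) b₀).ncard :=
      index_stabilizer _ _
    have h3 : Nat.card (zpowers z) = p := by rw [Nat.card_zpowers, hz]
    have h4 : stabilizer (zpowers z) b₀ = ⊥ := by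
      have : Fact (Nat.card (zpowers z)).Prime := ⟨by rw [h3]; exact hp.out⟩
      rcases (stabilizer (zpowers z) b₀).eq_bot_or_eq_top_of_prime_card with h | h
      · exact h
      · exfalso
        apply hb₀
        have : (⟨z, mem_zpowers z⟩ : zpowers z) ∈ stabilizer (zpowers z) b₀ := by
          rw [h]; exact mem_top _
        exact this
    rw [h1, ← h2, h4, Subgroup.index_bot, h3]
  have hLindex : L.index = p := by
    have h1 : (stabilizer P b₀).index = p ^ 2 := by rw [index_stabilizer, hB]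
    have h2 : (stabilizer P b₀).relIndex L * L.index = (stabilizer P b₀).index :=
      Subgroup.relIndex_mul_index hSL
    have h3 : (stabilizer P b₀).relIndex L = (orbit L b₀).ncard := by
      rw [← index_stabilizer]
      rfl
    rw [h1, h3, hLorb, sq] at h2
    exact Nat.eq_of_mul_eq_mul_left hpos h2
  have hLn : L.Normal := by
    apply normal_of_index_eq_minFac_card
    obtain ⟨n, hn⟩ := (IsPGroup.iff_card).mp hP
    rw [hLindex, hn]
    have hn0 : n ≠ 0 := by
      rintro rfl
      rw [pow_zero] at hn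
      have := orderOf_dvd_natCard z
      rw [hn, hz] at this
      exact hp.out.one_lt.ne' (Nat.dvd_one.mp this)
    exact (hp.out.pow_minFac hn0).symm
  -- the kernel on the orbit of `a₀`
  let K : Subgroup P :=
    { carrier := {g | ∀ a ∈ orbit P a₀, g • a = a}
      one_mem' := fun a _ => one_smul P a
      mul_mem' := by
        intro g h hg hh a ha
        rw [mul_smul, hh a ha, hg a ha]
      inv_mem' := by
        intro g hg a ha
        rw [inv_smul_eq_iff, hg a ha] }
  have hK : ∀ g : P, g ∈ K ↔ ∀ a ∈ orbit P a₀, g • a = a := fun g => Iff.rfl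
  have hAsmul : ∀ (g : P) (a : Ω), g • a ∈ orbit P a₀ ↔ a ∈ orbit P a₀ := by
    intro g a
    constructor
    · rintro ⟨h, hh⟩
      refine ⟨g⁻¹ * h, ?_⟩
      change (g⁻¹ * h) • a₀ = a
      change h • a₀ = g • a at hh
      rw [mul_smul, hh, inv_smul_smul]
    · rintro ⟨h, rfl⟩
      exact ⟨g * h, mul_smul _ _ _⟩
  have hKn : K.Normal := by
    refine ⟨fun k hk g => ?_⟩
    rw [hK] at hk ⊢
    intro a ha
    rw [mul_smul, mul_smul, hk _ ((hAsmul g⁻¹ a).mpr ha), smul_inv_smul]
  have hLK : ¬ L ≤ K := by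
    intro h
    have h1 : L.index ∣ p := by rw [hLindex]
    have h2 : K.index ∣ p := by
      have := Subgroup.index_dvd_of_le h
      exact this.trans h1
    have h3 : K ≤ stabilizer P a₀ := fun g hg => hg a₀ (mem_orbit_self a₀)
    have h4 := Subgroup.index_dvd_of_le h3
    rw [index_stabilizer, hA] at h4
    have h5 := Nat.le_of_dvd hpos (h4.trans h2)
    have h6 := hp.out.one_lt
    nlinarith
  have hnil : Group.IsNilpotent P := hP.isNilpotent
  obtain ⟨y, hyL, hyK, hyc⟩ := Lib.NormalAbelian.exists_mem_not_mem_central_mod hKn hLn hLK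
  -- adjust the order modulo `K`
  have hex : ∃ n : ℕ, y ^ p ^ n ∈ K := by
    obtain ⟨n, hn⟩ := hP y
    exact ⟨n, by rw [hn]; exact K.one_mem⟩
  obtain ⟨x, hxL, hxK, hxc, hxp⟩ : ∃ x ∈ L, x ∉ K ∧ (∀ g : P, x * g * x⁻¹ * g⁻¹ ∈ K) ∧
      x ^ p ∈ K := by
    have hn := Nat.find_spec hex
    have hmin := fun m (hm : m < Nat.find hex) => Nat.find_min hex hm
    have hn0 : Nat.find hex ≠ 0 := by
      intro h
      rw [h, pow_zero, pow_one] at hn
      exact hyK hn
    obtain ⟨m, hm⟩ := Nat.exists_eq_succ_of_ne_zero hn0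
    refine ⟨y ^ p ^ m, L.pow_mem hyL _, hmin m (by omega), fun g => ?_, ?_⟩
    · have h1 : ((y : P) : P ⧸ K) ∈ center (P ⧸ K) := by
        rw [mem_center_iff]
        intro g'
        obtain ⟨g, rfl⟩ := QuotientGroup.mk_surjective g'
        have h2 := hyc g
        rw [← QuotientGroup.eq_one_iff] at h2
        have h3 : ((y : P) : P ⧸ K) * (g : P ⧸ K) * ((y : P) : P ⧸ K)⁻¹ * (g : P ⧸ K)⁻¹ = 1 := h2
        rw [mul_inv_eq_one, mul_inv_eq_iff_eq_mul] at h3
        exact h3.symm
      have h2 := (center (P ⧸ K)).pow_mem h1 (p ^ m)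
      rw [mem_center_iff] at h2
      have h3 := h2 (g : P ⧸ K)
      rw [← QuotientGroup.eq_one_iff]
      change ((y : P) : P ⧸ K) ^ p ^ m * (g : P ⧸ K) * (((y : P) : P ⧸ K) ^ p ^ m)⁻¹ *
        (g : P ⧸ K)⁻¹ = 1
      rw [mul_inv_eq_one, mul_inv_eq_iff_eq_mul]
      exact h3.symm
    · rw [← pow_mul, ← pow_succ]
      have : m + 1 = Nat.find hex := by omega
      rw [this]
      exact hn
  -- `x` has no fixed point in the orbit of `a₀`
  have hxA : ∀ a ∈ orbit P a₀, x • a ≠ a := by
    intro a ha hxa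
    apply hxK
    rw [hK]
    intro a' ha'
    obtain ⟨g, rfl⟩ : ∃ g : P, g • a = a' := by
      obtain ⟨h, rfl⟩ := ha
      obtain ⟨h', rfl⟩ := ha'
      refine ⟨h' * h⁻¹, ?_⟩
      change (h' * h⁻¹) • h • a₀ = h' • a₀
      rw [smul_smul, inv_mul_cancel_right]
    have h1 := (hK _).mp (hxc g) (g • a) ha'
    rw [mul_smul, mul_smul, inv_smul_smul, mul_smul] at h1
    have h2 : x⁻¹ • a = a := by rw [inv_smul_eq_iff, hxa]
    rw [h2] at h1
    exact h1
  -- `x` moves the points outside along `z`-cycles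
  have hxB : ∀ b ∈ orbit P b₀, ∃ j : ℤ, x • b = z ^ j • b := by
    rintro _ ⟨g, rfl⟩
    have h1 := hLn.conj_mem x hxL g⁻¹
    rw [inv_inv] at h1
    obtain ⟨j, hj⟩ := (hL _).mp h1
    refine ⟨j, ?_⟩
    change x • g • b₀ = z ^ j • g • b₀
    rw [mul_smul, mul_smul, inv_smul_eq_iff, smul_smul, smul_smul] at hj
    rw [smul_smul, smul_smul, hj, hzcz]
  -- the permutation
  have hzAj : ∀ (j : ℤ), ∀ a ∈ orbit P a₀, z ^ j • a = a := by
    intro j a ha
    have h1 : z ∈ K := hzA
    exact (K.zpow_mem h1 j) a ha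
  let σ : Equiv.Perm Ω :=
    { toFun := fun w => if w ∈ orbit P a₀ then x • w else z • w
      invFun := fun w => if w ∈ orbit P a₀ then x⁻¹ • w else z⁻¹ • w
      left_inv := by
        intro w
        by_cases hw : w ∈ orbit P a₀
        · have h1 := (hAsmul x w).mpr hw
          simp only [hw, if_true, h1, inv_smul_smul]
        · have h1 : ¬ z • w ∈ orbit P a₀ := fun h => hw ((hAsmul z w).mp h)
          simp only [hw, if_false, h1, inv_smul_smul]
      right_inv := by
        intro w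
        by_cases hw : w ∈ orbit P a₀
        · have h1 := (hAsmul x⁻¹ w).mpr hw
          simp only [hw, if_true, h1, smul_inv_smul]
        · have h1 : ¬ z⁻¹ • w ∈ orbit P a₀ := fun h => hw ((hAsmul z⁻¹ w).mp h)
          simp only [hw, if_false, h1, smul_inv_smul] }
  have hσA : ∀ w ∈ orbit P a₀, σ w = x • w := fun w hw => if_pos hw
  have hσB : ∀ w ∉ orbit P a₀, σ w = z • w := fun w hw => if_neg hw
  have hmix : ∀ a ∈ orbit P a₀, ∀ b ∉ orbit P a₀, ∃ g : P, σ a = g • a ∧ σ b = g • b := by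
    intro a ha b hb
    obtain ⟨j, hj⟩ := hxB b (hcases b hb)
    refine ⟨z ^ (1 - j) * x, ?_, ?_⟩
    · rw [hσA a ha, mul_smul, hzAj _ _ ((hAsmul x a).mpr ha)]
    · rw [hσB b hb, mul_smul, hj, smul_smul, ← zpow_add, sub_add_cancel, zpow_one]
  refine ⟨σ, fun a b => ?_, fun a => ?_, ?_⟩
  · by_cases ha : a ∈ orbit P a₀
    · by_cases hb : b ∈ orbit P a₀
      · exact ⟨x, hσA a ha, hσA b hb⟩
      · exact hmix a ha b hb
    · by_cases hb : b ∈ orbit P a₀
      · obtain ⟨g, h1, h2⟩ := hmix b hb a ha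
        exact ⟨g, h2, h1⟩
      · exact ⟨z, hσB a ha, hσB b hb⟩
  · by_cases ha : a ∈ orbit P a₀
    · rw [hσA a ha]
      exact hxA a ha
    · rw [hσB a ha]
      exact hzB a (hcases a ha)
  · have hpA' : ∀ (n : ℕ), ∀ w ∈ orbit P a₀, (σ ^ n) w = x ^ n • w := by
      intro n
      induction n with
      | zero => intro w _; rw [pow_zero, pow_zero, one_smul]; rfl
      | succ n ih =>
        intro w hw
        rw [pow_succ', Equiv.Perm.mul_apply, ih w hw, hσA _ ((hAsmul _ w).mpr hw), smul_smul,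
          ← pow_succ']
    have hpB' : ∀ (n : ℕ), ∀ w ∉ orbit P a₀, (σ ^ n) w = z ^ n • w := by
      intro n
      induction n with
      | zero => intro w _; rw [pow_zero, pow_zero, one_smul]; rfl
      | succ n ih =>
        intro w hw
        rw [pow_succ', Equiv.Perm.mul_apply, ih w hw,
          hσB _ (fun h => hw ((hAsmul _ w).mp h)), smul_smul, ← pow_succ']
    ext w
    rw [Equiv.Perm.one_apply]
    by_cases hw : w ∈ orbit P a₀
    · rw [hpA' p w hw]
      exact hxp w hw
    · rw [hpB' p w hw, ← hz, pow_orderOf_eq_one, one_smul]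

/-- Let G act faithfully and transitively on a finite set with 2p² points, p a prime, and suppose G is 2-closed: every permutation of the set which, on each ordered pair of points, agrees with some element of G, is itself induced by an element of G. Then some element of G of prime order fixes no point. -/
theorem result {G Ω : Type*} [Group G] [Finite G] [MulAction G Ω] [FaithfulSMul G Ω] [Finite Ω]
    (htrans : MulAction.IsPretransitive G Ω) (p : ℕ) (hp : p.Prime) (hcard : Nat.card Ω = 2 * p ^ 2)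
    (hcl : ∀ σ : Equiv.Perm Ω, (∀ a b : Ω, ∃ g : G, σ a = g • a ∧ σ b = g • b) → ∃ g : G, ∀ a : Ω, σ a = g • a) :
    ∃ g : G, (orderOf g).Prime ∧ ∀ ω : Ω, g • ω ≠ ω := by
  classical
  have hpf : Fact p.Prime := ⟨hp⟩
  have hne : Nonempty Ω := by
    rw [← not_isEmpty_iff]
    intro h
    rw [Nat.card_of_isEmpty] at hcard
    have := hp.pos
    have : 0 < 2 * p ^ 2 := by positivity
    omega
  obtain ⟨ω₀⟩ := hne
  let P : Sylow p G := default
  have horb : ∀ a : Ω, p ^ 2 ∣ (orbit P a).ncard :=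
    dvd_orbit htrans P (by rw [hcard]; exact dvd_mul_left _ _)
  have hPp : IsPGroup p P := P.isPGroup'
  -- `P` is nontrivial
  have hPnt : Nontrivial P := by
    by_contra h
    rw [not_nontrivial_iff_subsingleton] at h
    have h1 := horb ω₀
    have h2 : orbit P ω₀ = {ω₀} := by
      ext w
      constructor
      · rintro ⟨g, rfl⟩
        rw [Subsingleton.elim g 1]
        exact one_smul _ _
      · rintro rfl
        exact mem_orbit_self _
    rw [h2, Set.ncard_singleton, Nat.dvd_one] at h1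
    have h3 : 1 < p ^ 2 := Nat.one_lt_pow two_ne_zero hp.one_lt
    omega
  have hcn : Nontrivial (center P) := hPp.center_nontrivial
  obtain ⟨⟨z, hzc⟩, hz⟩ : ∃ z : center P, orderOf z = p := by
    have h1 : p ∣ Nat.card (center P) := by
      obtain ⟨n, hn⟩ := (IsPGroup.iff_card).mp (hPp.to_subgroup (center P))
      have hn0 : n ≠ 0 := by
        rintro rfl
        rw [pow_zero] at hn
        exact absurd hn Finite.one_lt_card.ne'
      rw [hn]
      exact dvd_pow_self p hn0
    exact exists_prime_orderOf_dvd_card' p h1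
  have hz' : orderOf z = p := (Subgroup.orderOf_coe (⟨z, hzc⟩ : center P)).trans hz
  by_cases hder : ∀ ω : Ω, (z : G) • ω ≠ ω
  · exact ⟨z, by rw [Subgroup.orderOf_coe, hz']; exact hp, hder⟩
  push Not at hder
  obtain ⟨a₀, ha₀⟩ := hder
  obtain ⟨b₀, hb₀⟩ : ∃ b₀ : Ω, z • b₀ ≠ b₀ := by
    by_contra hcon
    push Not at hcon
    have h1 : (z : G) = 1 := FaithfulSMul.eq_of_smul_eq_smul (α := Ω) fun ω => by
      rw [one_smul]; exact hcon ω
    have h2 : z = 1 := Subtype.ext h1
    rw [h2, orderOf_one] at hz'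
    exact hp.one_lt.ne hz'
  obtain ⟨σ, h1, h2, h3⟩ := main hPp hcard horb z hz' hzc (a₀ := a₀) ha₀ hb₀
  obtain ⟨g, hg⟩ := hcl σ (fun a b => by
    obtain ⟨g, hga, hgb⟩ := h1 a b
    exact ⟨g, hga, hgb⟩)
  have hgn : ∀ (n : ℕ) (w : Ω), (σ ^ n) w = g ^ n • w := by
    intro n
    induction n with
    | zero => intro w; rw [pow_zero, pow_zero, one_smul]; rfl
    | succ n ih =>
      intro w
      rw [pow_succ', Equiv.Perm.mul_apply, ih w, hg, smul_smul, ← pow_succ']
  have hgp : g ^ p = 1 := FaithfulSMul.eq_of_smul_eq_smul (α := Ω) fun ω => by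
    rw [← hgn, h3, one_smul]; rfl
  have hg1 : g ≠ 1 := by
    rintro rfl
    exact h2 ω₀ (by rw [hg, one_smul])
  refine ⟨g, ?_, fun ω => ?_⟩
  · rw [orderOf_eq_prime hgp hg1]
    exact hp
  · rw [← hg]
    exact h2 ω

end Cfsg.Agent.S3557
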