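import Cfsg.Agent.H402.CsMain
import Cfsg.Agent.TwoFusion.SLTwoFacts
import Cfsg.Statements.S3583
set_option linter.all false

-- part: H402/CsSplit
section
/-!
# Groups with the class sizes of `PSL(2, F)`: splitting off the centre
-/

set_option autoImplicit false
set_option linter.unusedSectionVars false

namespace Cfsg.Agent.H402

open Subgroup PSL2Cls
open scoped commutatorElement

/-! ### A group with an abelian subgroup of index at most two -/

section abs

variable {P : Type*} [Group P]

/-- If `A` is an abelian subgroup of index at most two and `s ∉ A` then the commutator subgroup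
consists of the commutators `⁅c, s⁆`, `c ∈ A`. -/
theorem commutator_le_of_index_two (A : Subgroup P) (hA : ∀ x ∈ A, ∀ y ∈ A, x * y = y * x)
    (hind : ∀ x y : P, x ∉ A → y ∉ A → x * y ∈ A) {s : P} (hs : s ∉ A) :
    ∀ z ∈ commutator P, ∃ c ∈ A, z = ⁅c, s⁆ := by
  have hnorm : ∀ x : P, ∀ c ∈ A, x * c * x⁻¹ ∈ A := by
    intro x c hc
    by_cases hx : x ∈ A
    · exact mul_mem (mul_mem hx hc) (inv_mem hx)
    · have h1 : x * c ∉ A := fun h => hx (by
        have := mul_mem h (inv_mem hc)
        rwa [mul_inv_cancel_right] at this)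
      exact hind _ _ h1 (fun h => hx (by simpa using inv_mem h))
  have hcs : ∀ c ∈ A, ⁅c, s⁆ ∈ A := by
    intro c hc
    rw [commutatorElement_def]
    have h1 := hnorm s c⁻¹ (inv_mem hc)
    have : c * s * c⁻¹ * s⁻¹ = c * (s * c⁻¹ * s⁻¹) := by group
    rw [this]
    exact mul_mem hc h1
  let K : Subgroup P :=
    { carrier := {z | ∃ c ∈ A, z = ⁅c, s⁆}
      mul_mem' := by
        rintro _ _ ⟨c, hc, rfl⟩ ⟨e, he, rfl⟩
        refine ⟨c * e, mul_mem hc he, ?_⟩
        have h1 := hA c hc _ (hnorm s e⁻¹ (inv_mem he))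
        have h2 := hA _ (hnorm s c⁻¹ (inv_mem hc)) e he
        rw [commutatorElement_def, commutatorElement_def, commutatorElement_def]
        calc c * s * c⁻¹ * s⁻¹ * (e * s * e⁻¹ * s⁻¹)
            = c * ((s * c⁻¹ * s⁻¹) * e) * (s * e⁻¹ * s⁻¹) := by group
          _ = c * (e * (s * c⁻¹ * s⁻¹)) * (s * e⁻¹ * s⁻¹) := by rw [h2]
          _ = c * e * (s * (c⁻¹ * e⁻¹) * s⁻¹) := by group
          _ = c * e * (s * (e⁻¹ * c⁻¹) * s⁻¹) := by
              rw [hA c⁻¹ (inv_mem hc) e⁻¹ (inv_mem he)]
          _ = c * e * s * (c * e)⁻¹ * s⁻¹ := by group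
      one_mem' := ⟨1, one_mem A, by rw [commutatorElement_one_left]⟩
      inv_mem' := by
        rintro _ ⟨c, hc, rfl⟩
        refine ⟨c⁻¹, inv_mem hc, ?_⟩
        have h2 := hA _ (hnorm s c (hc)) c⁻¹ (inv_mem hc)
        rw [commutatorElement_def, commutatorElement_def]
        calc (c * s * c⁻¹ * s⁻¹)⁻¹ = (s * c * s⁻¹) * c⁻¹ := by group
          _ = c⁻¹ * (s * c * s⁻¹) := h2
          _ = c⁻¹ * s * c⁻¹⁻¹ * s⁻¹ := by group }
  have hK : ∀ z, z ∈ K ↔ ∃ c ∈ A, z = ⁅c, s⁆ := fun z => Iff.rfl
  have hKA : K ≤ A := by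
    rintro z ⟨c, hc, rfl⟩
    exact hcs c hc
  -- every element is in A or of the form a * s
  have hform : ∀ x : P, x ∈ A ∨ ∃ a ∈ A, x = a * s := by
    intro x
    by_cases hx : x ∈ A
    · exact Or.inl hx
    · right
      exact ⟨x * s⁻¹, hind _ _ hx (fun h => hs (by simpa using inv_mem h)), by group⟩
  have hsK : ∀ z ∈ K, s * z * s⁻¹ ∈ K := by
    rintro z ⟨c, hc, rfl⟩
    refine ⟨s * c * s⁻¹, hnorm s c hc, ?_⟩
    rw [commutatorElement_def, commutatorElement_def]
    group
  have hKn : K.Normal := by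
    refine ⟨fun z hz x => ?_⟩
    rcases hform x with hx | ⟨a, ha, rfl⟩
    · rw [hA x hx z (hKA hz), mul_inv_cancel_right]
      exact hz
    · have h1 := hsK z hz
      have : a * s * z * (a * s)⁻¹ = a * (s * z * s⁻¹) * a⁻¹ := by group
      rw [this, hA a ha _ (hKA h1), mul_inv_cancel_right]
      exact h1
  have hle : commutator P ≤ K := by
    rw [commutator_def, Subgroup.commutator_le]
    intro x _ y _
    -- work in the quotient by K
    have hcomm : ∀ x y : P, (QuotientGroup.mk x : P ⧸ K) * QuotientGroup.mk y =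
        QuotientGroup.mk y * QuotientGroup.mk x := by
      have hAs : ∀ a ∈ A, (QuotientGroup.mk a : P ⧸ K) * QuotientGroup.mk s =
          QuotientGroup.mk s * QuotientGroup.mk a := by
        intro a ha
        show (QuotientGroup.mk (a * s) : P ⧸ K) = QuotientGroup.mk (s * a)
        rw [QuotientGroup.eq]
        refine ⟨s⁻¹ * a⁻¹ * s, ?_, ?_⟩
        · have := hnorm s⁻¹ a⁻¹ (inv_mem ha)
          simpa using this
        · rw [commutatorElement_def]
          group
      have hAA : ∀ a ∈ A, ∀ c ∈ A, (QuotientGroup.mk a : P ⧸ K) * QuotientGroup.mk c =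
          QuotientGroup.mk c * QuotientGroup.mk a := by
        intro a ha c hc
        show (QuotientGroup.mk (a * c) : P ⧸ K) = QuotientGroup.mk (c * a)
        rw [hA a ha c hc]
      intro x y
      rcases hform x with hx | ⟨a, ha, rfl⟩
      · rcases hform y with hy | ⟨c, hc, rfl⟩
        · exact hAA x hx y hy
        · show (QuotientGroup.mk x : P ⧸ K) * (QuotientGroup.mk c * QuotientGroup.mk s) =
            (QuotientGroup.mk c * QuotientGroup.mk s) * QuotientGroup.mk x
          rw [← mul_assoc, hAA x hx c hc, mul_assoc, hAs x hx, mul_assoc]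
      · rcases hform y with hy | ⟨c, hc, rfl⟩
        · show (QuotientGroup.mk a * QuotientGroup.mk s : P ⧸ K) * QuotientGroup.mk y =
            QuotientGroup.mk y * (QuotientGroup.mk a * QuotientGroup.mk s)
          rw [mul_assoc, ← hAs y hy, ← mul_assoc, hAA a ha y hy, mul_assoc]
        · show (QuotientGroup.mk a * QuotientGroup.mk s : P ⧸ K) *
            (QuotientGroup.mk c * QuotientGroup.mk s) =
            (QuotientGroup.mk c * QuotientGroup.mk s) * (QuotientGroup.mk a * QuotientGroup.mk s)
          have h1 := hAs a ha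
          have h2 := hAs c hc
          have h3 := hAA a ha c hc
          calc (QuotientGroup.mk a * QuotientGroup.mk s : P ⧸ K) *
              (QuotientGroup.mk c * QuotientGroup.mk s) =
              QuotientGroup.mk a * (QuotientGroup.mk s * QuotientGroup.mk c) *
                QuotientGroup.mk s := by group
            _ = (QuotientGroup.mk a * QuotientGroup.mk c) * QuotientGroup.mk s *
                QuotientGroup.mk s := by rw [← h2]; group
            _ = QuotientGroup.mk c * (QuotientGroup.mk a * QuotientGroup.mk s) *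
                QuotientGroup.mk s := by rw [h3]; group
            _ = QuotientGroup.mk c * (QuotientGroup.mk s * QuotientGroup.mk a) *
                QuotientGroup.mk s := by rw [h1]
            _ = _ := by group
    have h1 : (QuotientGroup.mk ⁅x, y⁆ : P ⧸ K) = 1 := by
      have : (QuotientGroup.mk ⁅x, y⁆ : P ⧸ K) = QuotientGroup.mk x * QuotientGroup.mk y *
        (QuotientGroup.mk x)⁻¹ * (QuotientGroup.mk y)⁻¹ := rfl
      rw [this, hcomm x y]
      group
    exact (QuotientGroup.eq_one_iff _).1 h1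
  intro z hz
  exact hle hz

/-- If moreover commutators in the subgroup `Z` are trivial, then `P' ∩ Z = 1`. -/
theorem commutator_inf_eq_bot (A : Subgroup P) (hA : ∀ x ∈ A, ∀ y ∈ A, x * y = y * x)
    (hind : ∀ x y : P, x ∉ A → y ∉ A → x * y ∈ A) (Z : Set P)
    (hZ : ∀ x y : P, ⁅x, y⁆ ∈ Z → ⁅x, y⁆ = 1) : ∀ z ∈ commutator P, z ∈ Z → z = 1 := by
  intro z hz hzZ
  by_cases htop : ∀ x : P, x ∈ A
  · have : commutator P = ⊥ := by
      rw [commutator_def, Subgroup.commutator_eq_bot_iff_le_centralizer]
      intro x _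
      rw [mem_centralizer_iff]
      intro y _
      exact hA y (htop y) x (htop x)
    rw [this, mem_bot] at hz
    exact hz
  · push Not at htop
    obtain ⟨s, hs⟩ := htop
    obtain ⟨c, hc, rfl⟩ := commutator_le_of_index_two A hA hind hs z hz
    exact hZ _ _ hzZ

end abs

/-! ### Transfer -/

theorem mem_commutator_sylow {G : Type*} [Group G] [Finite G] {p : ℕ} [hp : Fact p.Prime]
    (P : Sylow p G) {z : G} (hzP : z ∈ (P : Subgroup G)) (hzc : z ∈ center G)
    (hz : z ∈ commutator G) : (⟨z, hzP⟩ : (P : Subgroup G)) ∈ commutator (P : Subgroup G) := by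
  set ϕ : (P : Subgroup G) →* Abelianization (P : Subgroup G) := Abelianization.of with hϕ
  have hkey : ∀ (k : ℕ) (g₀ : G), g₀⁻¹ * z ^ k * g₀ ∈ (P : Subgroup G) →
      g₀⁻¹ * z ^ k * g₀ = z ^ k := by
    intro k g₀ _
    have h1 := mem_center_iff.1 (pow_mem hzc k) g₀
    rw [mul_assoc, ← h1, inv_mul_cancel_left]
  have h1 : MonoidHom.transfer ϕ z = 1 := by
    have h2 : commutator G ≤ (MonoidHom.transfer ϕ).ker := Abelianization.commutator_subset_ker _
    exact h2 hz
  rw [MonoidHom.transfer_eq_pow ϕ z hkey] at h1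
  have h2 : (⟨z, hzP⟩ : (P : Subgroup G)) ^ (P : Subgroup G).index ∈
      commutator (P : Subgroup G) := by
    rw [← Abelianization.ker_of]
    rw [MonoidHom.mem_ker]
    rw [← h1]
    rfl
  obtain ⟨k, hk⟩ := (IsPGroup.iff_orderOf.1 P.2) ⟨z, hzP⟩
  have h3 : (⟨z, hzP⟩ : (P : Subgroup G)) ^ (p ^ k) ∈ commutator (P : Subgroup G) := by
    rw [← hk, pow_orderOf_eq_one]
    exact one_mem _
  apply mem_of_pow_mem_of_coprime _ h2 h3
  exact (Nat.Coprime.pow_left k ((Nat.Prime.coprime_iff_not_dvd hp.out).2 P.not_dvd_index)).symm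

/-! ### The centraliser of an element of `PSL(2, F)` -/

section psl

variable {F : Type*} [Field F]

theorem commute_of_commute {w g k : Matrix.SpecialLinearGroup (Fin 2) F} (hw : pj w ≠ 1)
    (hg : g * w = w * g) (hk : k * w = w * k) : g * k = k * g := by
  have hdet := det_eq w
  -- w is not scalar
  have hns : w.1 0 1 ≠ 0 ∨ w.1 1 0 ≠ 0 ∨ w.1 0 0 - w.1 1 1 ≠ 0 := by
    by_contra hcon
    push Not at hcon
    obtain ⟨h1, h2, h3⟩ := hcon
    have h3' := sub_eq_zero.1 h3
    rw [h1, h2, ← h3'] at hdet
    have h4 : (w.1 0 0 - 1) * (w.1 0 0 + 1) = 0 := by linear_combination hdet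
    apply hw
    rw [← pj_one, eq_comm, pj_eq]
    rcases mul_eq_zero.1 h4 with h5 | h5
    · left
      have h6 := sub_eq_zero.1 h5
      apply ext4
      · rw [h6]; rfl
      · rw [h1]; rfl
      · rw [h2]; rfl
      · rw [← h3', h6]; rfl
    · right
      have h6 : w.1 0 0 = -1 := eq_neg_of_add_eq_zero_left h5
      apply ext4 <;> rw [neg_apply']
      · rw [h6]; rfl
      · rw [h1]; exact neg_zero.symm
      · rw [h2]; exact neg_zero.symm
      · rw [← h3', h6]; rfl
  have hent : ∀ g : Matrix.SpecialLinearGroup (Fin 2) F, g * w = w * g →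
      g.1 0 1 * w.1 1 0 = w.1 0 1 * g.1 1 0 ∧
      w.1 0 1 * (g.1 0 0 - g.1 1 1) = g.1 0 1 * (w.1 0 0 - w.1 1 1) ∧
      w.1 1 0 * (g.1 0 0 - g.1 1 1) = g.1 1 0 * (w.1 0 0 - w.1 1 1) := by
    intro g hg
    have e00 := congrArg (fun M : Matrix.SpecialLinearGroup (Fin 2) F => M.1 0 0) hg
    have e01 := congrArg (fun M : Matrix.SpecialLinearGroup (Fin 2) F => M.1 0 1) hg
    have e10 := congrArg (fun M : Matrix.SpecialLinearGroup (Fin 2) F => M.1 1 0) hg
    simp only [mul00, mul01, mul10] at e00 e01 e10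
    refine ⟨by linear_combination e00, by linear_combination e01, by linear_combination -e10⟩
  obtain ⟨g1, g2, g3⟩ := hent g hg
  obtain ⟨k1, k2, k3⟩ := hent k hk
  -- the three minors vanish
  have m1 : g.1 0 1 * k.1 1 0 = k.1 0 1 * g.1 1 0 := by
    rcases hns with h | h | h
    · apply mul_left_cancel₀ h
      linear_combination (-(g.1 0 1)) * k1 + k.1 0 1 * g1
    · apply mul_left_cancel₀ h
      linear_combination (k.1 1 0) * g1 - (g.1 1 0) * k1
    · apply mul_left_cancel₀ h
      linear_combination (-(k.1 1 0)) * g2 - (g.1 0 0 - g.1 1 1) * k1 + k.1 0 1 * g3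
  have m2 : g.1 0 1 * (k.1 0 0 - k.1 1 1) = k.1 0 1 * (g.1 0 0 - g.1 1 1) := by
    rcases hns with h | h | h
    · apply mul_left_cancel₀ h
      linear_combination (g.1 0 1) * k2 - (k.1 0 1) * g2
    · apply mul_left_cancel₀ h
      linear_combination (g.1 0 1) * k3 - (k.1 0 1) * g3 + (w.1 0 0 - w.1 1 1) * m1
    · apply mul_left_cancel₀ h
      linear_combination (-(k.1 0 0 - k.1 1 1)) * g2 + (g.1 0 0 - g.1 1 1) * k2
  have m3 : g.1 1 0 * (k.1 0 0 - k.1 1 1) = k.1 1 0 * (g.1 0 0 - g.1 1 1) := by
    rcases hns with h | h | h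
    · apply mul_left_cancel₀ h
      linear_combination (g.1 1 0) * k2 - (k.1 1 0) * g2 - (w.1 0 0 - w.1 1 1) * m1
    · apply mul_left_cancel₀ h
      linear_combination (g.1 1 0) * k3 - (k.1 1 0) * g3
    · apply mul_left_cancel₀ h
      linear_combination (-(k.1 0 0 - k.1 1 1)) * g3 + (g.1 0 0 - g.1 1 1) * k3
  apply ext4
  · rw [mul00, mul00]; linear_combination m1
  · rw [mul01, mul01]; linear_combination (-1) * m2
  · rw [mul10, mul10]; linear_combination m3
  · rw [mul11, mul11]; linear_combination (-1) * m1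

/-- The centraliser of a nontrivial element of `PSL(2, F)` has an abelian subgroup of index at most
two. -/
theorem exists_abelian_psl {x : PSL F} (hx : x ≠ 1) : ∃ A : Subgroup (PSL F),
    (∀ u ∈ A, ∀ v ∈ A, u * v = v * u) ∧
    ∀ u v : PSL F, u * x = x * u → v * x = x * v → u ∉ A → v ∉ A → u * v ∈ A := by
  obtain ⟨w, rfl⟩ := pj_surj x
  refine ⟨(Subgroup.centralizer ({w} : Set (Matrix.SpecialLinearGroup (Fin 2) F))).map
    (QuotientGroup.mk' (center (Matrix.SpecialLinearGroup (Fin 2) F))), ?_, ?_⟩
  · rintro _ ⟨g, hg, rfl⟩ _ ⟨k, hk, rfl⟩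
    show pj (g * k) = pj (k * g)
    rw [commute_of_commute hx (mem_C.1 hg) (mem_C.1 hk)]
  · intro u v hu hv huA hvA
    obtain ⟨g, rfl⟩ := pj_surj u
    obtain ⟨k, rfl⟩ := pj_surj v
    rw [← pj_mul, ← pj_mul] at hu hv
    have h1 : w * g = -(g * w) := by
      rcases pj_eq.1 hu with h | h
      · exact absurd ⟨g, mem_C.2 h.symm, rfl⟩ huA
      · exact h
    have h2 : w * k = -(k * w) := by
      rcases pj_eq.1 hv with h | h
      · exact absurd ⟨k, mem_C.2 h.symm, rfl⟩ hvA
      · exact h
    refine ⟨g * k, mem_C.2 ?_, rfl⟩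
    calc g * k * w = g * (k * w) := by rw [mul_assoc]
      _ = g * (-(w * k)) := by rw [h2, neg_neg]
      _ = -(g * w) * k := by rw [mul_neg, neg_mul, mul_assoc]
      _ = w * g * k := by rw [h1]
      _ = w * (g * k) := by rw [mul_assoc]

end psl

end Cfsg.Agent.H402
end

-- part: H402/CsFinal
section
/-!
# Groups with the class sizes of `PSL(2, F)`: the direct decomposition
-/

set_option autoImplicit false
set_option linter.unusedSectionVars false

namespace Cfsg.Agent.H402

open Subgroup PSL2Cls
open scoped commutatorElement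

section general

variable {G : Type*} [Group G]

/-- The preimage of the centraliser of the image of `u` in `G / Z(G)`. -/
def NN (u : G) : Subgroup G :=
  (Subgroup.centralizer ({(QuotientGroup.mk u : G ⧸ center G)} : Set (G ⧸ center G))).comap
    (QuotientGroup.mk' (center G))

theorem index_NN (u : G) : (NN u).index = ix (QuotientGroup.mk u : G ⧸ center G) :=
  Subgroup.index_comap_of_surjective _ (QuotientGroup.mk'_surjective _)

theorem mem_NN {g u : G} : g ∈ NN u ↔
    Commute (QuotientGroup.mk g : G ⧸ center G) (QuotientGroup.mk u) := by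
  rw [NN, mem_comap, mem_C]
  rfl

theorem C_le_NN (u : G) : Subgroup.centralizer ({u} : Set G) ≤ NN u := by
  intro g hg
  rw [mem_NN]
  show (QuotientGroup.mk (g * u) : G ⧸ center G) = QuotientGroup.mk (u * g)
  rw [mem_C.1 hg]

theorem ix_mk_dvd (u : G) : ix (QuotientGroup.mk u : G ⧸ center G) ∣ ix u := by
  rw [← index_NN]
  exact Subgroup.index_dvd_of_le (C_le_NN u)

theorem ix_mulEquiv {H : Type*} [Group H] (e : G ≃* H) (x : G) : ix (e x) = ix x := by
  have h1 : Subgroup.centralizer ({x} : Set G) =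
      (Subgroup.centralizer ({e x} : Set H)).comap e.toMonoidHom := by
    ext g
    rw [mem_comap, mem_C, mem_C]
    show _ ↔ e g * e x = e x * e g
    rw [← map_mul, ← map_mul]
    exact e.injective.eq_iff.symm
  rw [ix, ix, h1]
  exact (Subgroup.index_comap_of_surjective _ e.surjective).symm

end general

variable {F : Type*} [Field F] [Fintype F] {G : Type*} [Group G] [Finite G]

theorem commute_of_commute_mk {d a b r : ℕ} (D : Data F d a b r)
    (h : Set.range (fun g : G => ix g) = Set.range (fun g : PSL F => ix g))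
    (e : (G ⧸ center G) ≃* PSL F) {g u : G}
    (hc : Commute (QuotientGroup.mk g : G ⧸ center G) (QuotientGroup.mk u)) : Commute g u := by
  have H := hyp_of_data D h
  have hq1 := D.ar.q_gt
  have hb := D.ar.hb
  by_cases hu : u ∈ center G
  · exact mem_center_iff.1 hu g
  have hsz : ∀ v : G, v ∉ center G → IsSz (Fintype.card F) d a b
      (ix (QuotientGroup.mk v : G ⧸ center G)) := by
    intro v hv
    rw [← ix_mulEquiv e]
    apply D.sz
    intro h1
    rw [MulEquiv.map_eq_one_iff] at h1
    exact hv ((QuotientGroup.eq_one_iff v).1 h1)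
  have hszG : ∀ v : G, v ∉ center G → IsSz (Fintype.card F) d a b (ix v) := fun v hv => H.sz v hv
  have hkey : ix u = ix (QuotientGroup.mk u : G ⧸ center G) := by
    rcases (D.ar.dvd_cases (hsz u hu) (hszG u hu) (ix_mk_dvd u)).2 with h1 | ⟨-, h2, h3, h4⟩
    · exact h1
    · exfalso
      obtain ⟨y, hy⟩ := H.exists_ix (n := Fintype.card F * b) (Or.inr (Or.inr rfl))
      have hyc : y ∉ center G := H.not_center (Or.inr (Or.inr rfl)) hy
      have hne : Fintype.card F * b ≠ Fintype.card F * d * b := by
        rw [h4]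
        have h5 : Fintype.card F * 2 * b = 2 * (Fintype.card F * b) := by ring
        have h6 : 0 < Fintype.card F * b := Nat.mul_pos (by omega) (by omega)
        omega
      have hyq : ix (QuotientGroup.mk y : G ⧸ center G) = Fintype.card F * b := by
        rcases (D.ar.dvd_cases (hsz y hyc) (hszG y hyc) (ix_mk_dvd y)).2 with h1 | ⟨-, -, h5, -⟩
        · rw [← h1, hy]
        · exact absurd (hy.symm.trans h5) hne
      have hconj := D.uniq h4 (e (QuotientGroup.mk y)) (e (QuotientGroup.mk u))
        (by rw [ix_mulEquiv, hyq]) (by rw [ix_mulEquiv, h2])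
      obtain ⟨c, hc'⟩ := isConj_iff.1 hconj
      obtain ⟨c', rfl⟩ := e.surjective c
      obtain ⟨k, rfl⟩ := QuotientGroup.mk_surjective c'
      rw [← map_inv, ← map_mul, ← map_mul] at hc'
      have h6 : (QuotientGroup.mk (k * y * k⁻¹) : G ⧸ center G) = QuotientGroup.mk u :=
        e.injective hc'
      rw [QuotientGroup.eq] at h6
      have h7 : ix u = ix y := by
        have h8 := ix_mul_center (x := k * y * k⁻¹) h6
        rw [mul_inv_cancel_left] at h8
        rw [h8, ix_conj]
      rw [hy, h3] at h7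
      exact hne h7.symm
  have h1 : Subgroup.centralizer ({u} : Set G) = NN u := by
    apply le_antisymm (C_le_NN u)
    rw [← Subgroup.relIndex_eq_one]
    have h3 := Subgroup.relIndex_mul_index (C_le_NN u)
    rw [index_NN] at h3
    have h4 : (Subgroup.centralizer ({u} : Set G)).index =
      ix (QuotientGroup.mk u : G ⧸ center G) := hkey
    rw [h4] at h3
    have h5 : ix (QuotientGroup.mk u : G ⧸ center G) ≠ 0 := ix_ne_zero _
    exact Nat.eq_of_mul_eq_mul_right (Nat.pos_of_ne_zero h5) (h3.trans (one_mul _).symm)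
  have h2 : g ∈ NN u := mem_NN.2 hc
  rw [← h1, mem_C] at h2
  exact h2

omit [Finite G] in
theorem commutator_eq_one_of_mem_center
    (hcomm : ∀ g u : G, Commute (QuotientGroup.mk g : G ⧸ center G) (QuotientGroup.mk u) →
      Commute g u) {x y : G} (hz : ⁅x, y⁆ ∈ center G) : ⁅x, y⁆ = 1 := by
  rw [commutatorElement_eq_one_iff_mul_comm]
  apply hcomm x y
  rw [← commutatorElement_eq_one_iff_commute]
  exact (QuotientGroup.eq_one_iff _).2 hz

theorem sylow_inf (e : (G ⧸ center G) ≃* PSL F)
    (hcomm : ∀ g u : G, Commute (QuotientGroup.mk g : G ⧸ center G) (QuotientGroup.mk u) →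
      Commute g u) {p : ℕ} [hp : Fact p.Prime] (P : Sylow p G)
    (z : (P : Subgroup G)) (hz : z ∈ commutator (P : Subgroup G)) (hzc : (z : G) ∈ center G) :
    z = 1 := by
  set φ : (P : Subgroup G) →* PSL F :=
    (e.toMonoidHom.comp (QuotientGroup.mk' (center G))).comp (P : Subgroup G).subtype with hφ
  have hφa : ∀ x : (P : Subgroup G), φ x = e (QuotientGroup.mk (x : G)) := fun x => rfl
  have hφc : ∀ x y : (P : Subgroup G), φ x * φ y = φ y * φ x → x * y = y * x := by
    intro x y hxy
    rw [hφa, hφa, ← map_mul, ← map_mul] at hxy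
    apply Subtype.ext
    exact hcomm _ _ (e.injective hxy)
  have hZ : ∀ x y : (P : Subgroup G), ⁅x, y⁆ ∈ {z : (P : Subgroup G) | (z : G) ∈ center G} →
      ⁅x, y⁆ = 1 := by
    intro x y hxy
    apply Subtype.ext
    exact commutator_eq_one_of_mem_center hcomm (x := (x : G)) (y := (y : G)) hxy
  by_cases hbot : φ.range = ⊥
  · refine commutator_inf_eq_bot (⊤ : Subgroup (P : Subgroup G)) ?_ ?_
      {z : (P : Subgroup G) | (z : G) ∈ center G} hZ z hz hzc
    · intro x _ y _
      apply hφc
      have h1 : ∀ x, φ x = 1 := by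
        intro x
        have : φ x ∈ φ.range := ⟨x, rfl⟩
        rwa [hbot, mem_bot] at this
      rw [h1 x, h1 y]
    · intro x y _ _
      exact mem_top _
  · have hnt : Nontrivial φ.range := (Subgroup.nontrivial_iff_ne_bot _).2 hbot
    have hpg : IsPGroup p φ.range := by
      have := P.2
      exact IsPGroup.of_surjective this φ.rangeRestrict φ.rangeRestrict_surjective
    have hfin : Finite φ.range := Finite.of_surjective _ φ.rangeRestrict_surjective
    have hcn := hpg.center_nontrivial
    obtain ⟨⟨x, hx⟩, hx1⟩ := exists_ne (1 : center φ.range)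
    have hx1' : (x : PSL F) ≠ 1 := by
      intro h1
      apply hx1
      apply Subtype.ext
      apply Subtype.ext
      exact h1
    obtain ⟨A, hA1, hA2⟩ := exists_abelian_psl hx1'
    have hcx : ∀ u : (P : Subgroup G), φ u * x = x * φ u := by
      intro u
      have := mem_center_iff.1 hx ⟨φ u, ⟨u, rfl⟩⟩
      exact congrArg Subtype.val this
    refine commutator_inf_eq_bot (A.comap φ) ?_ ?_
      {z : (P : Subgroup G) | (z : G) ∈ center G} hZ z hz hzc
    · intro u hu v hv
      exact hφc _ _ (hA1 _ hu _ hv)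
    · intro u v hu hv
      rw [mem_comap, map_mul]
      exact hA2 _ _ (hcx u) (hcx v) hu hv

theorem commutator_inf_center (e : (G ⧸ center G) ≃* PSL F)
    (hcomm : ∀ g u : G, Commute (QuotientGroup.mk g : G ⧸ center G) (QuotientGroup.mk u) →
      Commute g u) : commutator G ⊓ center G = ⊥ := by
  rw [eq_bot_iff]
  rintro z ⟨hz1, hz2⟩
  rw [mem_bot]
  by_contra hz
  have ho : orderOf z ≠ 1 := fun h => hz (orderOf_eq_one_iff.1 h)
  obtain ⟨p, hp, hpz⟩ := Nat.exists_prime_and_dvd ho
  have : Fact p.Prime := ⟨hp⟩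
  have ho0 : 0 < orderOf z := orderOf_pos z
  have how : orderOf (z ^ (orderOf z / p)) = p := orderOf_pow_orderOf_div ho0.ne' hpz
  set w := z ^ (orderOf z / p) with hw
  have hw1 : w ∈ commutator G := pow_mem hz1 _
  have hw2 : w ∈ center G := pow_mem hz2 _
  have hpw : IsPGroup p (zpowers w) := by
    apply IsPGroup.of_card (n := 1)
    rw [Nat.card_zpowers, how, pow_one]
  obtain ⟨P, hP⟩ := hpw.exists_le_sylow
  have hwP : w ∈ (P : Subgroup G) := hP (mem_zpowers w)
  have h1 := mem_commutator_sylow P hwP hw2 hw1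
  have h2 := sylow_inf e hcomm P _ h1 hw2
  have h3 : w = 1 := congrArg Subtype.val h2
  rw [h3, orderOf_one] at how
  exact hp.one_lt.ne how

theorem commutator_psl_eq_top (hq : 3 < Fintype.card F) : commutator (PSL F) = ⊤ := by
  have h1 := Cfsg.Agent.TwoFusion.SLTwoFacts.commutator_eq_top hq
  have h2 : (commutator (Matrix.SpecialLinearGroup (Fin 2) F)).map
      (QuotientGroup.mk' (center (Matrix.SpecialLinearGroup (Fin 2) F))) = commutator (PSL F) := by
    rw [commutator_def, commutator_def, Subgroup.map_commutator]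
    have : (⊤ : Subgroup (Matrix.SpecialLinearGroup (Fin 2) F)).map
      (QuotientGroup.mk' (center (Matrix.SpecialLinearGroup (Fin 2) F))) = ⊤ :=
      Subgroup.map_top_of_surjective _ (QuotientGroup.mk'_surjective _)
    rw [this]
  rw [← h2, h1]
  exact Subgroup.map_top_of_surjective _ (QuotientGroup.mk'_surjective _)

theorem exists_decomposition (hq : (2 ∣ Fintype.card F ∧ 2 < Fintype.card F) ∨
    (¬ 2 ∣ Fintype.card F ∧ 7 ≤ Fintype.card F))
    (h : Set.range (fun g : G => ix g) = Set.range (fun g : PSL F => ix g)) :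
    ∃ N A : Subgroup G, N.Normal ∧ A ≤ Subgroup.center G ∧ N ⊓ A = ⊥ ∧ N ⊔ A = ⊤ ∧
      Nonempty (N ≃* Matrix.ProjectiveSpecialLinearGroup (Fin 2) F) := by
  obtain ⟨e⟩ := quot_iso_psl hq h
  obtain ⟨d, a, b, r, D⟩ := exists_data hq
  have hcomm : ∀ g u : G, Commute (QuotientGroup.mk g : G ⧸ center G) (QuotientGroup.mk u) →
      Commute g u := fun g u hgu => commute_of_commute_mk D h e hgu
  have hinf := commutator_inf_center e hcomm
  have hq3 : 3 < Fintype.card F := by
    rcases hq with ⟨⟨k, hk⟩, h2⟩ | ⟨h1, h2⟩ <;> omega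
  have hpsl := commutator_psl_eq_top hq3
  have hmap : (commutator G).map (QuotientGroup.mk' (center G)) = ⊤ := by
    have h1 : (commutator G).map (QuotientGroup.mk' (center G)) = commutator (G ⧸ center G) := by
      rw [commutator_def, commutator_def, Subgroup.map_commutator]
      have : (⊤ : Subgroup G).map (QuotientGroup.mk' (center G)) = ⊤ :=
        Subgroup.map_top_of_surjective _ (QuotientGroup.mk'_surjective _)
      rw [this]
    rw [h1]
    have h2 : (commutator (PSL F)).map e.symm.toMonoidHom = commutator (G ⧸ center G) := by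
      rw [commutator_def, commutator_def, Subgroup.map_commutator]
      have : (⊤ : Subgroup (PSL F)).map e.symm.toMonoidHom = ⊤ :=
        Subgroup.map_top_of_surjective _ e.symm.surjective
      rw [this]
    rw [← h2, hpsl]
    exact Subgroup.map_top_of_surjective _ e.symm.surjective
  refine ⟨commutator G, center G, inferInstance, le_rfl, hinf, ?_, ?_⟩
  · have h1 := Subgroup.comap_map_eq (QuotientGroup.mk' (center G)) (commutator G)
    rw [hmap, Subgroup.comap_top, QuotientGroup.ker_mk'] at h1
    exact h1.symm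
  · set φ : commutator G →* G ⧸ center G :=
      (QuotientGroup.mk' (center G)).comp (commutator G).subtype with hφ
    have hbij : Function.Bijective φ := by
      constructor
      · rw [injective_iff_map_eq_one]
        intro x hx
        have h1 : (x : G) ∈ center G := (QuotientGroup.eq_one_iff _).1 hx
        have h2 : (x : G) ∈ commutator G ⊓ center G := ⟨x.2, h1⟩
        rw [hinf, mem_bot] at h2
        exact Subtype.ext h2
      · intro y
        have : y ∈ (commutator G).map (QuotientGroup.mk' (center G)) := by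
          rw [hmap]; exact mem_top _
        obtain ⟨x, hx, rfl⟩ := this
        exact ⟨⟨x, hx⟩, rfl⟩
    exact ⟨(MulEquiv.ofBijective φ hbij).trans e⟩

end Cfsg.Agent.H402
end

-- part: S3583
section
set_option autoImplicit false
open Cfsg

namespace Cfsg.Agent.S3583

/-- Let F be a finite field with q elements, where either q is even and q > 2, or q is odd and q ≥ 7, and let G be a finite group whose set of conjugacy class sizes equals that of PSL(2,F). Then G is the direct product of a normal subgroup isomorphic to PSL(2,F) and a central (hence abelian) subgroup: there are subgroups N and A of G with N normal and isomorphic to PSL(2,F), A contained in the centre, N ∩ A = 1 and NA = G. -/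
theorem result {F : Type*} [Field F] [Fintype F]
    (hq : (2 ∣ Fintype.card F ∧ 2 < Fintype.card F) ∨ (¬ 2 ∣ Fintype.card F ∧ 7 ≤ Fintype.card F))
    {G : Type*} [Group G] [Finite G]
    (h : Set.range (fun g : G => (Subgroup.centralizer ({g} : Set G)).index) = Set.range (fun g : (Matrix.ProjectiveSpecialLinearGroup (Fin 2) F) => (Subgroup.centralizer ({g} : Set (Matrix.ProjectiveSpecialLinearGroup (Fin 2) F))).index)) :
    ∃ N A : Subgroup G, N.Normal ∧ A ≤ Subgroup.center G ∧ N ⊓ A = ⊥ ∧ N ⊔ A = ⊤ ∧
      Nonempty (N ≃* Matrix.ProjectiveSpecialLinearGroup (Fin 2) F) :=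
  Cfsg.Agent.H402.exists_decomposition hq h

end Cfsg.Agent.S3583
end
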