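import Cfsg.Statements.S3589
import Cfsg.Agent.H403.SpEvenFinal
import Cfsg.Agent.H403.TLSmall
set_option linter.all false

set_option autoImplicit false
open Cfsg

namespace Cfsg.Agent.S3589

open Cfsg.Agent.H403

theorem elt_four {F : Type*} [Field F] [Fintype F] [CharP F 2] {L : ℕ} (h : TL (Nat.card F) 4 L) :
    Elt F 4 (-1) L := by
  have hev := even_natCard (F := F)
  have hq : 1 < Nat.card F := Finite.one_lt_card
  rcases h.four with h | h | h | h
  · exact elt_tor_minus (by norm_num) h
  · have h1 := (elt_tor_minus (F := F) (k := 2) (by norm_num) dvd_rfl).prod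
      (elt_tor_plus (F := F) (k := 2) (by norm_num) dvd_rfl)
    have h2 : Nat.Coprime (Nat.card F ^ 2 + 1) (Nat.card F ^ 2 - 1) := by
      have h3 : 1 ≤ Nat.card F ^ 2 := Nat.one_le_pow _ _ (by omega)
      have h4 : Nat.card F ^ 2 + 1 = (Nat.card F ^ 2 - 1) + 2 := by omega
      rw [h4, Nat.coprime_self_add_left, Nat.coprime_two_left]
      obtain ⟨r, hr⟩ := (Nat.even_pow.2 ⟨hev, two_ne_zero⟩ : Even (Nat.card F ^ 2))
      exact ⟨r - 1, by omega⟩
    rw [h2.lcm_eq_mul, ← four_eq] at h1
    exact h1.dvd h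
  · have h1 := (elt_tor_plus (F := F) (k := 3) (by norm_num) dvd_rfl).prod
      (elt_tor_minus (F := F) (k := 1) (by norm_num) dvd_rfl)
    rw [pow_one] at h1
    exact h1.dvd h
  · have h1 := (elt_tor_minus (F := F) (k := 3) (by norm_num) dvd_rfl).prod
      (elt_tor_plus (F := F) (k := 1) (by norm_num) dvd_rfl)
    rw [pow_one] at h1
    exact h1.dvd h

/-- Let F be a finite field of characteristic 2 and let a, b ∈ F make the binary form z₁² + a z₁z₂ + b z₂² anisotropic. Then the symplectic group PSp(8,F) (= Sp(8,F)) and the full isometry group of the non-singular quadratic form x₁y₁ + x₂y₂ + x₃y₃ + (z₁² + a z₁z₂ + b z₂²) of minus type in dimension 8 have the same set of element orders. -/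
theorem result {F : Type*} [Field F] [Fintype F]
    [CharP F 2] (a b : F) (han : ∀ z₁ z₂ : F, z₁ ^ 2 + a * z₁ * z₂ + b * z₂ ^ 2 = 0 → z₁ = 0 ∧ z₂ = 0) :
    Set.range (orderOf : Cfsg.PSp 4 F → ℕ) = Set.range (orderOf : ↥(Cfsg.isometryGroup F (Cfsg.quadFormMinus 3 F a b)) → ℕ) := by
  ext N
  rw [mem_range_PSp (by norm_num)]
  constructor
  · rintro ⟨M, rfl⟩
    obtain ⟨c, L, hc, hL, hM⟩ := exists_pow_eq_one_of_symplectic M.2
    have hN : orderOf M ∣ L * 2 ^ c := by
      rw [← orderOf_injective (Matrix.symplecticGroup (Fin 4) F).subtype Subtype.coe_injective]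
      exact orderOf_dvd_of_pow_eq_one hM
    rw [← Nat.card_eq_fintype_card] at hL
    refine Elt.mem_isometryGroup (m := 3) ?_ han
    rcases Nat.eq_zero_or_pos c with rfl | hc0
    · rw [pow_zero, mul_one] at hN
      exact (elt_four hL).dvd hN
    · exact elt_of_TL hc0 hc hL hN (Or.inr rfl)
  · exact mem_symplectic_of_isometryGroup han

end Cfsg.Agent.S3589
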