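import Cfsg.Agent.H404.Siegel
import Mathlib
import Cfsg.Statements.S3590
import Cfsg.Agent.S3589
import Cfsg.Agent.LieClassical.OrthForms
set_option linter.all false

-- part: H404/Parts
section
/-!
# The 2-part and the odd part of an isometry, in characteristic two

For an isometry `g` with `g ^ (2 ^ a * m) = 1`, `m` odd, `U` is the fixed space of `s = g ^ 2 ^ a`
and `pr z = ∑ i < m, s ^ i z` the projection onto it.
-/

set_option autoImplicit false
set_option linter.unusedSectionVars false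

namespace Cfsg.Agent.H404.Parts

open Cfsg QuadraticMap
open Cfsg.Agent.ClassicalGeometry.OrthCharTwo Cfsg.Agent.ClassicalGeometry.OrthDickson
open Cfsg.Agent.ClassicalGeometry.Reflection
open Cfsg.Agent.H404.Siegel

variable {F : Type*} [Field F] {ι : Type} [Fintype ι] [DecidableEq ι]
variable {Q : QuadraticForm F (ι → F)}

/-- the linear map of an isometry -/
def L (g : Cfsg.isometryGroup F (⇑Q)) : Module.End F (ι → F) where
  toFun := act g
  map_add' := act_add g
  map_smul' := act_smul g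

theorem L_apply (g : Cfsg.isometryGroup F (⇑Q)) (z : ι → F) : L g z = act g z := rfl

theorem L_mul (g h : Cfsg.isometryGroup F (⇑Q)) : L (g * h) = L g * L h :=
  LinearMap.ext fun z => act_mul g h z

theorem L_one : L (1 : Cfsg.isometryGroup F (⇑Q)) = 1 := LinearMap.ext fun z => act_one z

theorem L_pow (g : Cfsg.isometryGroup F (⇑Q)) (n : ℕ) : L (g ^ n) = L g ^ n := by
  induction n with
  | zero => rw [pow_zero, pow_zero, L_one]
  | succ n ih => rw [pow_succ, pow_succ, L_mul, ih]

theorem L_inj {g h : Cfsg.isometryGroup F (⇑Q)} (H : L g = L h) : g = h :=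
  act_ext fun x => LinearMap.congr_fun H x

/-- an isometry from a linear map and an inverse of it -/
theorem exists_iso (f f' : Module.End F (ι → F)) (h1 : f * f' = 1) (h2 : f' * f = 1)
    (h : ∀ z, Q (f z) = Q z) : ∃ g : Cfsg.isometryGroup F (⇑Q), L g = f := by
  let M : Matrix.GeneralLinearGroup ι F :=
    ⟨LinearMap.toMatrix' f, LinearMap.toMatrix' f', by
      rw [← LinearMap.toMatrix'_mul, h1, LinearMap.toMatrix'_one], by
      rw [← LinearMap.toMatrix'_mul, h2, LinearMap.toMatrix'_one]⟩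
  have hM : ∀ z, (M : Matrix ι ι F).mulVec z = f z := fun z => by
    change (LinearMap.toMatrix' f).mulVec z = f z
    rw [LinearMap.toMatrix'_mulVec]
  refine ⟨⟨M, ?_⟩, ?_⟩
  · rw [mem_isometryGroup_iff]
    intro x
    rw [hM, h]
  · exact LinearMap.ext fun z => hM z

/-! ### Linear algebra -/

section nil

variable {V : Type*} [AddCommGroup V] [Module F V]

/-- `∑ i < 2 ^ a, T ^ i = (1 + T) ^ (2 ^ a - 1)` in characteristic two -/
theorem geom_sum_two (h2 : (2 : F) = 0) (T : Module.End F V) (a : ℕ) :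
    (1 + T) ^ 2 ^ a = 1 + T ^ 2 ^ a ∧
      ∑ i ∈ Finset.range (2 ^ a), T ^ i = (1 + T) ^ (2 ^ a - 1) := by
  have h2' : ∀ S : Module.End F V, S + S = 0 := by
    intro S
    rw [← two_smul F S, h2, zero_smul]
  induction a with
  | zero => simp
  | succ a ih =>
    obtain ⟨h3, h4⟩ := ih
    have h5 : (1 + T) ^ 2 ^ (a + 1) = 1 + T ^ 2 ^ (a + 1) := by
      rw [pow_succ, pow_mul, h3, pow_mul, pow_two, mul_add, mul_one, add_mul, one_mul, ← pow_two]
      have h6 := h2' (T ^ 2 ^ a)
      calc 1 + T ^ 2 ^ a + (T ^ 2 ^ a + (T ^ 2 ^ a) ^ 2)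
          = 1 + (T ^ 2 ^ a + T ^ 2 ^ a) + (T ^ 2 ^ a) ^ 2 := by abel
        _ = _ := by rw [h6, add_zero]
    refine ⟨h5, ?_⟩
    have h6 : 2 ^ (a + 1) = 2 ^ a + 2 ^ a := by rw [pow_succ]; omega
    have h7 : (1 : ℕ) ≤ 2 ^ a := Nat.one_le_two_pow
    rw [h6, Finset.sum_range_add]
    have h8 : ∑ x ∈ Finset.range (2 ^ a), T ^ (2 ^ a + x)
        = T ^ 2 ^ a * ∑ i ∈ Finset.range (2 ^ a), T ^ i := by
      rw [Finset.mul_sum]
      exact Finset.sum_congr rfl fun x _ => by rw [pow_add]
    rw [h8, h4]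
    have h9 : (1 + T) ^ (2 ^ a - 1) + T ^ 2 ^ a * (1 + T) ^ (2 ^ a - 1)
        = (1 + T ^ 2 ^ a) * (1 + T) ^ (2 ^ a - 1) := by rw [add_mul, one_mul]
    rw [h9, ← h3, ← pow_add]
    congr 1
    omega

/-- Dimension bound: a nilpotent operator `N` on `U` with `N ^ k ≠ 0` and a kernel of dimension at least
`d ≥ 1`. -/
theorem finrank_ge [FiniteDimensional F V] (N : Module.End F V) (U K : Submodule F V)
    (hU : ∀ z ∈ U, N z ∈ U) (hK : ∀ z, z ∈ K ↔ z ∈ U ∧ N z = 0) (d : ℕ) (h2 : d ≤ Module.finrank F K)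
    (k n : ℕ) (hn : ∀ z ∈ U, (N ^ n) z = 0) {v : V} (hv : v ∈ U) (hk : (N ^ k) v ≠ 0) :
    k + d ≤ Module.finrank F U := by
  let R : ℕ → Submodule F V := fun j => U.map (N ^ j)
  have hR : ∀ j, R (j + 1) = (R j).map N := by
    intro j
    change U.map (N ^ (j + 1)) = (U.map (N ^ j)).map N
    rw [pow_succ', ← Submodule.map_comp]
    rfl
  have hle : ∀ j, R (j + 1) ≤ R j := by
    intro j
    rintro _ ⟨z, hz, rfl⟩
    refine ⟨N z, hU z hz, ?_⟩
    rw [pow_succ]
    rfl
  have hRn : ∀ j, n ≤ j → R j = ⊥ := by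
    intro j hj
    rw [eq_bot_iff]
    rintro _ ⟨z, hz, rfl⟩
    obtain ⟨i, rfl⟩ := Nat.exists_eq_add_of_le hj
    rw [Submodule.mem_bot, add_comm, pow_add]
    change (N ^ i) ((N ^ n) z) = 0
    rw [hn z hz, map_zero]
  have hstrict : ∀ j, R j ≠ ⊥ → Module.finrank F (R (j + 1)) < Module.finrank F (R j) := by
    intro j hj
    apply Submodule.finrank_lt_finrank_of_lt
    refine lt_of_le_of_ne (hle j) ?_
    intro heq
    have h3 : ∀ i, R (j + i) = R j := by
      intro i
      induction i with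
      | zero => rfl
      | succ i ih => rw [← add_assoc, hR, ih, ← hR, heq]
    exact hj (by rw [← h3 n]; exact hRn _ (by omega))
  have hRk : R k ≠ ⊥ := by
    intro h
    apply hk
    have : (N ^ k) v ∈ R k := ⟨v, hv, rfl⟩
    rwa [h, Submodule.mem_bot] at this
  have hbot : ∀ j ≤ k, R j ≠ ⊥ := by
    intro j hj h
    apply hRk
    obtain ⟨i, rfl⟩ := Nat.exists_eq_add_of_le hj
    rw [eq_bot_iff, ← h]
    clear hk hRk hj h
    induction i with
    | zero => exact le_refl _
    | succ i ih => exact (hle _).trans ih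
  have hR0 : R 0 = U := by
    change U.map (N ^ 0) = U
    rw [pow_zero]
    exact Submodule.map_id U
  -- the first step
  have h1 : Module.finrank F (R 1) + Module.finrank F K = Module.finrank F U := by
    let φ : U →ₗ[F] V := N.comp U.subtype
    have h3 := LinearMap.finrank_range_add_finrank_ker φ
    have h4 : LinearMap.range φ = R 1 := by
      rw [LinearMap.range_comp, Submodule.range_subtype]
      change U.map N = U.map (N ^ 1)
      rw [pow_one]
    have h5 : (LinearMap.ker φ).map U.subtype = K := by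
      ext z
      rw [hK, Submodule.mem_map]
      constructor
      · rintro ⟨⟨y, hy⟩, hy', rfl⟩
        exact ⟨hy, hy'⟩
      · rintro ⟨hz, hz'⟩
        exact ⟨⟨z, hz⟩, hz', rfl⟩
    rw [← h5, Submodule.finrank_map_subtype_eq, ← h4]
    exact h3
  rcases Nat.eq_zero_or_pos k with rfl | hk0
  · omega
  have h6 : ∀ j, j < k → Module.finrank F (R (j + 1)) + d + j ≤ Module.finrank F U := by
    intro j
    induction j with
    | zero => intro _; rw [zero_add]; omega
    | succ j ih =>
      intro hj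
      have h7 := ih (by omega)
      have h8 := hstrict (j + 1) (hbot (j + 1) (by omega))
      omega
  have h7 := h6 (k - 1) (by omega)
  have h8 : k - 1 + 1 = k := by omega
  rw [h8] at h7
  have h9 : 0 < Module.finrank F (R k) := by
    rw [Nat.pos_iff_ne_zero]
    intro h
    exact hRk (Submodule.finrank_eq_zero.1 h)
  omega

end nil

/-! ### The projection onto the fixed space of an isometry of odd order -/

section odd

variable (s : Cfsg.isometryGroup F (⇑Q)) (m : ℕ)

/-- `∑ i < m, s ^ i` -/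
def pr (z : ι → F) : ι → F := ∑ i ∈ Finset.range m, act (s ^ i) z

variable {s m}

theorem act_sum {κ : Type*} (g : Cfsg.isometryGroup F (⇑Q)) (t : Finset κ) (f : κ → ι → F) :
    act g (∑ i ∈ t, f i) = ∑ i ∈ t, act g (f i) := by
  exact map_sum (L g) f t

theorem pr_eq (z : ι → F) : pr s m z = (∑ i ∈ Finset.range m, L s ^ i) z := by
  rw [LinearMap.sum_apply]
  exact Finset.sum_congr rfl fun i _ => by rw [← L_pow]; rfl

theorem act_pr (hs : s ^ m = 1) (z : ι → F) : act s (pr s m z) = pr s m z := by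
  rw [pr, act_sum]
  have h1 : ∀ i, act s (act (s ^ i) z) = act (s ^ (i + 1)) z := fun i => by
    rw [← act_mul, ← pow_succ']
  simp_rw [h1]
  have h2 := Finset.sum_range_succ' (fun i => act (s ^ i) z) m
  have h3 := Finset.sum_range_succ (fun i => act (s ^ i) z) m
  rw [h3, hs, pow_zero] at h2
  exact (add_right_cancel h2).symm

theorem pr_of_fixed (h2 : (2 : F) = 0) (hm : Odd m) {z : ι → F} (hz : act s z = z) :
    pr s m z = z := by
  have h1 : ∀ i, act (s ^ i) z = z := by
    intro i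
    induction i with
    | zero => rw [pow_zero, act_one]
    | succ i ih => rw [pow_succ, act_mul, hz, ih]
  rw [pr, Finset.sum_congr rfl fun i _ => h1 i, Finset.sum_const, Finset.card_range]
  obtain ⟨k, rfl⟩ := hm
  rw [add_smul, one_smul, mul_comm, mul_smul, two_smul, add_self_vec h2]
  simp

theorem pr_pr (h2 : (2 : F) = 0) (hs : s ^ m = 1) (hm : Odd m) (z : ι → F) :
    pr s m (pr s m z) = pr s m z := pr_of_fixed h2 hm (act_pr hs z)

theorem pr_add (y z : ι → F) : pr s m (y + z) = pr s m y + pr s m z := by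
  rw [pr_eq, pr_eq, pr_eq, map_add]

theorem pr_sub (y z : ι → F) : pr s m (y - z) = pr s m y - pr s m z := by
  rw [pr_eq, pr_eq, pr_eq, map_sub]

theorem polar_sum_left {κ : Type*} (t : Finset κ) (f : κ → ι → F) (y : ι → F) :
    polar Q (∑ i ∈ t, f i) y = ∑ i ∈ t, polar Q (f i) y := by
  have := map_sum (polarBilin Q).flip f t
  classical
  induction t using Finset.induction_on with
  | empty => simp
  | insert a t ha ih =>
    rw [Finset.sum_insert ha, Finset.sum_insert ha, polar_add_left, ih]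
    exact map_sum (polarBilin Q).flip f t

/-- the projection is self-adjoint -/
theorem polar_pr (hs : s ^ m = 1) (y z : ι → F) : polar Q (pr s m y) z = polar Q y (pr s m z) := by
  rw [polar_comm (⇑Q) y, pr, pr, polar_sum_left, polar_sum_left]
  have h1 : ∀ i ∈ Finset.range m, polar Q (act (s ^ i) y) z = polar Q (act (s ^ (m - i)) z) y := by
    intro i hi
    rw [Finset.mem_range] at hi
    rw [polar_comm, ← polar_act (s ^ i) (act (s ^ (m - i)) z) y, ← act_mul, ← pow_add,
      Nat.add_sub_cancel' hi.le, hs, act_one]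
  rw [Finset.sum_congr rfl h1]
  rcases Nat.eq_zero_or_pos m with rfl | hm
  · simp
  obtain ⟨k, rfl⟩ : ∃ k, m = k + 1 := ⟨m - 1, by omega⟩
  rw [Finset.sum_range_succ']
  have h3 : ∑ i ∈ Finset.range k, polar Q (act (s ^ (k + 1 - (i + 1))) z) y
      = ∑ i ∈ Finset.range k, polar Q (act (s ^ (i + 1)) z) y := by
    rw [← Finset.sum_range_reflect]
    refine Finset.sum_congr rfl fun i hi => ?_
    rw [Finset.mem_range] at hi
    congr 3
    omega
  rw [h3, Finset.sum_range_succ' (fun i => polar Q (act (s ^ i) z) y), Nat.sub_zero, hs, pow_zero]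

/-- the fixed space is perpendicular to the kernel of the projection -/
theorem polar_fixed (hs : s ^ m = 1) {y z : ι → F} (hz : pr s m z = 0) :
    polar Q (pr s m y) z = 0 := by
  rw [polar_pr hs, hz, polar_zero_right]

theorem pr_act (g : Cfsg.isometryGroup F (⇑Q)) (hg : Commute g s) (z : ι → F) :
    pr s m (act g z) = act g (pr s m z) := by
  rw [pr, pr, act_sum]
  refine Finset.sum_congr rfl fun i _ => ?_
  rw [← act_mul, ← act_mul, (hg.pow_right i).eq]

end odd

/-! ### Replacing the part on the fixed space -/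

/-- the orders and the projection of `g` -/
structure Split (g : Cfsg.isometryGroup F (⇑Q)) (a m : ℕ) : Prop where
  pow : g ^ (2 ^ a * m) = 1
  odd : Odd m

section split

variable {g : Cfsg.isometryGroup F (⇑Q)} {a m : ℕ} (hs : Split g a m) (h2 : (2 : F) = 0)
include hs h2

omit h2 in
theorem pow_eq : (g ^ 2 ^ a) ^ m = 1 := by rw [← pow_mul]; exact hs.pow

omit hs in
theorem mem_U {z : ι → F} : z ∈ fixSp (g ^ 2 ^ a) ↔ act (g ^ 2 ^ a) z = z := Iff.rfl

theorem pr_U {z : ι → F} (hz : z ∈ fixSp (g ^ 2 ^ a)) : pr (g ^ 2 ^ a) m z = z :=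
  pr_of_fixed h2 hs.odd hz

theorem pr_mem (z : ι → F) : pr (g ^ 2 ^ a) m z ∈ fixSp (g ^ 2 ^ a) := act_pr (pow_eq hs) z

theorem pr_sub_pr (z : ι → F) : pr (g ^ 2 ^ a) m (z - pr (g ^ 2 ^ a) m z) = 0 := by
  rw [pr_sub, pr_U hs h2 (pr_mem hs h2 z), sub_self]

theorem polar_U_W {y z : ι → F} (hy : y ∈ fixSp (g ^ 2 ^ a)) (hz : pr (g ^ 2 ^ a) m z = 0) :
    polar Q y z = 0 := by
  rw [← pr_U hs h2 hy]
  exact polar_fixed (pow_eq hs) hz

/-- the fixed space of `g ^ 2 ^ a` is non-degenerate -/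
theorem nd_U (hQ : (polarBilin Q).Nondegenerate) : Nd Q (fixSp (g ^ 2 ^ a)) := by
  intro x hx h
  refine nondeg_left Q hQ x fun y => ?_
  have h3 : y = pr (g ^ 2 ^ a) m y + (y - pr (g ^ 2 ^ a) m y) := by abel
  rw [h3, polar_add_right, h _ (pr_mem hs h2 y), polar_U_W hs h2 hx (pr_sub_pr hs h2 y), add_zero]

/-- the isometry which is trivial on the fixed space of `g ^ 2 ^ a` and `g` on its perpendicular space -/
theorem exists_cut : ∃ x : Cfsg.isometryGroup F (⇑Q), (∀ z ∈ fixSp (g ^ 2 ^ a), act x z = z) ∧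
    (∀ z, pr (g ^ 2 ^ a) m z = 0 → act x z = act g z) := by
  let P : Module.End F (ι → F) := ∑ i ∈ Finset.range m, L (g ^ 2 ^ a) ^ i
  have hP : ∀ z, P z = pr (g ^ 2 ^ a) m z := fun z => (pr_eq z).symm
  have hPP : P * P = P := LinearMap.ext fun z => by
    rw [Module.End.mul_apply, hP, hP]
    exact pr_U hs h2 (pr_mem hs h2 z)
  have hc : ∀ h : Cfsg.isometryGroup F (⇑Q), Commute h (g ^ 2 ^ a) → P * L h = L h * P := by
    intro h hh
    refine LinearMap.ext fun z => ?_
    rw [Module.End.mul_apply, Module.End.mul_apply, hP, hP]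
    exact pr_act h hh z
  have hg : Commute g (g ^ 2 ^ a) := Commute.self_pow g _
  have h1 : ∀ h h' : Cfsg.isometryGroup F (⇑Q), Commute h (g ^ 2 ^ a) → Commute h' (g ^ 2 ^ a) →
      h * h' = 1 → (P + L h * (1 - P)) * (P + L h' * (1 - P)) = 1 := by
    intro h h' hh hh' h1
    have h3 := hc h hh
    have h4 := hc h' hh'
    have h5 : L h * L h' = 1 := by rw [← L_mul, h1, L_one]
    have h6 : (1 - P) * P = 0 := by rw [sub_mul, one_mul, hPP, sub_self]
    have h7 : P * (1 - P) = 0 := by rw [mul_sub, mul_one, hPP, sub_self]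
    have h8 : (1 - P) * (1 - P) = 1 - P := by rw [mul_sub, mul_one, h6, sub_zero]
    have h9 : (1 - P) * L h' = L h' * (1 - P) := by rw [sub_mul, mul_sub, one_mul, mul_one, h4]
    calc (P + L h * (1 - P)) * (P + L h' * (1 - P))
        = P * P + P * L h' * (1 - P) + L h * ((1 - P) * P) + L h * ((1 - P) * L h') * (1 - P) := by
          noncomm_ring
      _ = P + L h' * (P * (1 - P)) + L h * L h' * ((1 - P) * (1 - P)) := by
          rw [hPP, h4, h6, h9]; noncomm_ring
      _ = 1 := by rw [h7, h5, h8]; noncomm_ring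
  obtain ⟨x, hx⟩ := exists_iso (Q := Q) (P + L g * (1 - P)) (P + L g⁻¹ * (1 - P))
    (h1 g g⁻¹ hg hg.inv_left (mul_inv_cancel g)) (h1 g⁻¹ g hg.inv_left hg (inv_mul_cancel g)) (by
      intro z
      have h3 : (P + L g * (1 - P)) z = pr (g ^ 2 ^ a) m z + act g (z - pr (g ^ 2 ^ a) m z) := by
        rw [LinearMap.add_apply, Module.End.mul_apply, LinearMap.sub_apply, hP, L_apply]
        rfl
      have h4 : pr (g ^ 2 ^ a) m (act g (z - pr (g ^ 2 ^ a) m z)) = 0 := by
        rw [pr_act g hg, pr_sub_pr hs h2, act_zero]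
      have h5 : z = pr (g ^ 2 ^ a) m z + (z - pr (g ^ 2 ^ a) m z) := by abel
      have h6 : Q (act g (z - pr (g ^ 2 ^ a) m z)) = Q (z - pr (g ^ 2 ^ a) m z) := Q_act (Q := ⇑Q) g _
      rw [h3, map_add' Q, polar_fixed (pow_eq hs) h4, h6]
      conv_rhs => rw [h5]
      rw [map_add' Q (pr (g ^ 2 ^ a) m z) (z - pr (g ^ 2 ^ a) m z),
        polar_fixed (pow_eq hs) (pr_sub_pr hs h2 z)])
  have hx' : ∀ z, act x z = pr (g ^ 2 ^ a) m z + act g (z - pr (g ^ 2 ^ a) m z) := by
    intro z
    rw [← L_apply, hx, LinearMap.add_apply, Module.End.mul_apply, LinearMap.sub_apply, hP, L_apply]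
    rfl
  refine ⟨x, fun z hz => ?_, fun z hz => ?_⟩
  · rw [hx', pr_U hs h2 hz, sub_self, act_zero, add_zero]
  · rw [hx', hz, sub_zero, zero_add]

end split

/-- `x` is trivial on the fixed space of `g ^ 2 ^ a` and `g` on its perpendicular space -/
structure IsCut (g : Cfsg.isometryGroup F (⇑Q)) (a m : ℕ) (x : Cfsg.isometryGroup F (⇑Q)) : Prop where
  fix : ∀ z ∈ fixSp (g ^ 2 ^ a), act x z = z
  eq : ∀ z, pr (g ^ 2 ^ a) m z = 0 → act x z = act g z

section cut

variable {g x : Cfsg.isometryGroup F (⇑Q)} {a m : ℕ} (hs : Split g a m) (h2 : (2 : F) = 0)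
  (hx : IsCut g a m x)
include hs h2 hx

theorem cut_pow_W (n : ℕ) {z : ι → F} (hz : pr (g ^ 2 ^ a) m z = 0) : act (x ^ n) z = act (g ^ n) z := by
  induction n generalizing z with
  | zero => rw [pow_zero, pow_zero]
  | succ n ih =>
    rw [pow_succ, pow_succ, act_mul, act_mul, hx.eq z hz]
    exact ih (by rw [pr_act g (Commute.self_pow g _), hz, act_zero])

theorem cut_pow_U (n : ℕ) {z : ι → F} (hz : z ∈ fixSp (g ^ 2 ^ a)) : act (x ^ n) z = z := by
  induction n with
  | zero => rw [pow_zero, act_one]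
  | succ n ih => rw [pow_succ, act_mul, hx.fix z hz, ih]

theorem ext_split {x y : Cfsg.isometryGroup F (⇑Q)} (h1 : ∀ z ∈ fixSp (g ^ 2 ^ a), act x z = act y z)
    (h3 : ∀ z, pr (g ^ 2 ^ a) m z = 0 → act x z = act y z) : x = y := by
  apply act_ext
  intro z
  have h5 : z = pr (g ^ 2 ^ a) m z + (z - pr (g ^ 2 ^ a) m z) := by abel
  rw [h5, act_add, act_add, h1 _ (pr_mem hs h2 z), h3 _ (pr_sub_pr hs h2 z)]

theorem cut_pow_eq_one : x ^ (2 ^ a * m) = 1 := by
  refine ext_split hs h2 hx (fun z hz => ?_) fun z hz => ?_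
  · rw [cut_pow_U hs h2 hx _ hz, act_one]
  · rw [cut_pow_W hs h2 hx _ hz, hs.pow]

theorem dvd_orderOf_cut (hm : orderOf (g ^ 2 ^ a) = m) : m ∣ orderOf x := by
  rw [← hm]
  apply orderOf_dvd_of_pow_eq_one
  refine ext_split hs h2 hx (fun z hz => ?_) fun z hz => ?_
  · have h3 : ∀ n : ℕ, act ((g ^ 2 ^ a) ^ n) z = z := by
      intro n
      induction n with
      | zero => rw [pow_zero, act_one]
      | succ n ih => rw [pow_succ, act_mul, mem_fixSp.1 hz, ih]
    rw [h3, act_one]
  · rw [← pow_mul, mul_comm, pow_mul]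
    have h3 : act (g ^ orderOf x) z = z := by
      rw [← cut_pow_W hs h2 hx _ hz, pow_orderOf_eq_one, act_one]
    have h4 : ∀ n : ℕ, act ((g ^ orderOf x) ^ n) z = z := by
      intro n
      induction n with
      | zero => rw [pow_zero, act_one]
      | succ n ih => rw [pow_succ, act_mul, h3, ih]
    rw [h4, act_one]

/-- the Dickson invariant of the cut is trivial -/
theorem dsign_cut (hQ : (polarBilin Q).Nondegenerate)
    (hι : (∃ θ : F, θ ≠ 0 ∧ θ ≠ 1) ∨ Fintype.card ι ≠ 4) : dsign Q x = 1 := by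
  have h3 : fixSp x = fixSp (g ^ 2 ^ a) := by
    ext z
    constructor
    · intro hz
      have h5 : z = pr (g ^ 2 ^ a) m z + (z - pr (g ^ 2 ^ a) m z) := by abel
      rw [mem_fixSp] at hz
      have h6 : act g (z - pr (g ^ 2 ^ a) m z) = z - pr (g ^ 2 ^ a) m z := by
        rw [← hx.eq _ (pr_sub_pr hs h2 z), act_sub, hz, hx.fix _ (pr_mem hs h2 z)]
      have h7 : ∀ n : ℕ, act (g ^ n) (z - pr (g ^ 2 ^ a) m z) = z - pr (g ^ 2 ^ a) m z := by
        intro n
        induction n with
        | zero => rw [pow_zero, act_one]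
        | succ n ih => rw [pow_succ, act_mul, h6, ih]
      rw [h5]
      exact Submodule.add_mem _ (pr_mem hs h2 z) (mem_fixSp.2 (h7 _))
    · intro hz
      exact mem_fixSp.2 (hx.fix z hz)
  have h4 : dsign Q x = dsign Q (g ^ 2 ^ a) := by rw [dsign_def, dsign_def, h3]
  rw [h4, ← dsignHom_apply Q hQ hι]
  have h5 : (dsignHom Q hQ hι (g ^ 2 ^ a)) ^ m = 1 := by rw [← map_pow, pow_eq hs, map_one]
  rcases Int.units_eq_one_or (dsignHom Q hQ hι (g ^ 2 ^ a)) with h6 | h6
  · exact h6
  · rw [h6, hs.odd.neg_one_pow] at h5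
    exact absurd h5 (by decide)

/-- the order after a change on the fixed space -/
theorem orderOf_mul_cut (hQ : (polarBilin Q).Nondegenerate) {w : Cfsg.isometryGroup F (⇑Q)}
    (hw : Supp (fixSp (g ^ 2 ^ a)) w) : orderOf (w * x) = Nat.lcm (orderOf w) (orderOf x) := by
  have hwW : ∀ z, pr (g ^ 2 ^ a) m z = 0 → act w z = z := by
    intro z hz
    apply act_eq_of_supp hQ hw
    intro u hu
    rw [polar_comm]
    exact polar_U_W hs h2 hu hz
  have hwU : ∀ z ∈ fixSp (g ^ 2 ^ a), act w z ∈ fixSp (g ^ 2 ^ a) := by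
    intro z hz
    have := Submodule.add_mem _ (hw z) hz
    rwa [sub_add_cancel] at this
  have hxW : ∀ z, pr (g ^ 2 ^ a) m z = 0 → pr (g ^ 2 ^ a) m (act x z) = 0 := by
    intro z hz
    rw [hx.eq z hz, pr_act g (Commute.self_pow g _), hz, act_zero]
  have hc : Commute w x := by
    refine ext_split hs h2 hx (fun z hz => ?_) fun z hz => ?_
    · rw [act_mul, act_mul, hx.fix z hz, hx.fix _ (hwU z hz)]
    · rw [act_mul, act_mul, hwW z hz, hwW _ (hxW z hz)]
  have hwnW : ∀ n : ℕ, ∀ z, pr (g ^ 2 ^ a) m z = 0 → act (w ^ n) z = z := by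
    intro n z hz
    induction n with
    | zero => rw [pow_zero, act_one]
    | succ n ih => rw [pow_succ, act_mul, hwW z hz, ih]
  apply Nat.dvd_antisymm hc.orderOf_mul_dvd_lcm
  have h3 := pow_orderOf_eq_one (w * x)
  rw [hc.mul_pow] at h3
  have h4 : w ^ orderOf (w * x) = 1 := by
    refine ext_split hs h2 hx (fun z hz => ?_) fun z hz => ?_
    · rw [← cut_pow_U hs h2 hx (orderOf (w * x)) hz, ← act_mul, h3, act_one, act_one,
        cut_pow_U hs h2 hx (orderOf (w * x)) hz]
    · rw [hwnW _ z hz, act_one]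
  rw [h4, one_mul] at h3
  exact Nat.lcm_dvd (orderOf_dvd_of_pow_eq_one h4) (orderOf_dvd_of_pow_eq_one h3)

end cut

/-! ### Norms -/

theorem sum_range_mul (T : Module.End F (ι → F)) (b m : ℕ) :
    ∑ i ∈ Finset.range (b * m), T ^ i =
      (∑ j ∈ Finset.range m, (T ^ b) ^ j) * ∑ i ∈ Finset.range b, T ^ i := by
  induction m with
  | zero => simp
  | succ m ih =>
    rw [Nat.mul_succ, Finset.sum_range_add, ih, Finset.sum_range_succ, add_mul, Finset.mul_sum _ _ ((T ^ b) ^ m)]
    congr 1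
    exact Finset.sum_congr rfl fun i _ => by rw [pow_add, pow_mul]

theorem sum_act (g : Cfsg.isometryGroup F (⇑Q)) (n : ℕ) (v : ι → F) :
    ∑ i ∈ Finset.range n, act (g ^ i) v = (∑ i ∈ Finset.range n, L g ^ i) v := by
  rw [LinearMap.sum_apply]
  exact Finset.sum_congr rfl fun i _ => by rw [← L_pow]; rfl

section norm

variable {g : Cfsg.isometryGroup F (⇑Q)} {a m : ℕ} (hs : Split g a m) (h2 : (2 : F) = 0)
include hs h2

theorem fix_le (z : ι → F) : z ∈ fixSp g ↔ z ∈ fixSp (g ^ 2 ^ a) ∧ (1 + L g : Module.End F (ι → F)) z = 0 := by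
  have h3 : (1 + L g : Module.End F (ι → F)) z = z + act g z := rfl
  constructor
  · intro hz
    rw [mem_fixSp] at hz
    refine ⟨?_, by rw [h3, hz, add_self_vec h2]⟩
    have h7 : ∀ n : ℕ, act (g ^ n) z = z := by
      intro n
      induction n with
      | zero => rw [pow_zero, act_one]
      | succ n ih => rw [pow_succ, act_mul, hz, ih]
    exact h7 _
  · rintro ⟨-, h4⟩
    rw [h3, ← sub_vec h2] at h4
    rw [mem_fixSp]
    exact (sub_eq_zero.1 h4).symm

theorem nilp {z : ι → F} (hz : z ∈ fixSp (g ^ 2 ^ a)) :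
    ((1 + L g : Module.End F (ι → F)) ^ 2 ^ a) z = 0 := by
  rw [(geom_sum_two h2 (L g) a).1, ← L_pow]
  change z + act (g ^ 2 ^ a) z = 0
  rw [mem_fixSp.1 hz, add_self_vec h2]

theorem stable {z : ι → F} (hz : z ∈ fixSp (g ^ 2 ^ a)) :
    (1 + L g : Module.End F (ι → F)) z ∈ fixSp (g ^ 2 ^ a) := by
  change z + act g z ∈ _
  refine Submodule.add_mem _ hz ?_
  rw [mem_fixSp, ← act_mul, ← pow_succ, pow_succ', act_mul, mem_fixSp.1 hz]

/-- the norm of an isometry -/
theorem norm_eq (v : ι → F) : ∑ i ∈ Finset.range (2 ^ a * m), act (g ^ i) v =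
    ((1 + L g : Module.End F (ι → F)) ^ (2 ^ a - 1)) (pr (g ^ 2 ^ a) m v) := by
  rw [sum_act, sum_range_mul, ← (geom_sum_two h2 (L g) a).2, ← L_pow, pr_eq]
  have hc : Commute (∑ j ∈ Finset.range m, L (g ^ 2 ^ a) ^ j) (∑ i ∈ Finset.range (2 ^ a), L g ^ i) := by
    apply Commute.sum_left
    intro j _
    apply Commute.sum_right
    intro i _
    rw [L_pow]
    exact ((Commute.refl (L g)).pow_left _).pow_left _ |>.pow_right _
  rw [hc.eq]
  rfl

/-- **If the norm of an isometry in the kernel of the Dickson invariant is not zero then the fixed space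
of its odd part is large.** -/
theorem finrank_of_norm (heven : Even (Fintype.card ι)) (hd : dsign Q g = 1) {v : ι → F}
    (hv : ∑ i ∈ Finset.range (2 ^ a * m), act (g ^ i) v ≠ 0) :
    2 ^ a + 1 ≤ Module.finrank F (fixSp (g ^ 2 ^ a)) := by
  rw [norm_eq hs h2] at hv
  have h7 : (1 : ℕ) ≤ 2 ^ a := Nat.one_le_two_pow
  have h3 : Even (Module.finrank F (fixSp g)) := by
    rw [dsign_def] at hd
    have h4 : Even (Module.finrank F (fixSp g) + Fintype.card ι) := by
      by_contra h5
      rw [Nat.not_even_iff_odd] at h5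
      rw [h5.neg_one_pow] at hd
      exact absurd hd (by decide)
    exact (Nat.even_add.1 h4).2 heven
  have h4 : 0 < Module.finrank F (fixSp g) := by
    rw [Nat.pos_iff_ne_zero]
    intro h
    apply hv
    have h5 : ((1 + L g : Module.End F (ι → F)) ^ (2 ^ a - 1)) (pr (g ^ 2 ^ a) m v) ∈ fixSp g := by
      rw [fix_le hs h2]
      constructor
      · have h8 : ∀ n : ℕ, ((1 + L g : Module.End F (ι → F)) ^ n) (pr (g ^ 2 ^ a) m v) ∈ fixSp (g ^ 2 ^ a) := by
          intro n
          induction n with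
          | zero => exact pr_mem hs h2 v
          | succ n ih =>
            rw [pow_succ']
            exact stable hs h2 ih
        exact h8 _
      · rw [← Module.End.mul_apply, ← pow_succ', Nat.sub_add_cancel h7]
        exact nilp hs h2 (pr_mem hs h2 v)
    rw [Submodule.finrank_eq_zero.1 h, Submodule.mem_bot] at h5
    exact h5
  have h5 : 2 ≤ Module.finrank F (fixSp g) := by
    obtain ⟨k, hk⟩ := h3
    omega
  have h6 := finrank_ge (1 + L g : Module.End F (ι → F)) (fixSp (g ^ 2 ^ a)) (fixSp g)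
    (fun z hz => stable hs h2 hz) (fix_le hs h2) 2 h5 (2 ^ a - 1) (2 ^ a) (fun z hz => nilp hs h2 hz)
    (pr_mem hs h2 v) hv
  omega

/-- If `g ^ 2 ^ b` is not trivial on the fixed space of `g ^ 2 ^ a` then this space is large. -/
theorem finrank_of_ne {b : ℕ} {z : ι → F} (hz : z ∈ fixSp (g ^ 2 ^ a)) (hb : act (g ^ 2 ^ b) z ≠ z) :
    2 ^ b + 1 ≤ Module.finrank F (fixSp (g ^ 2 ^ a)) := by
  have h7 : (1 : ℕ) ≤ 2 ^ a := Nat.one_le_two_pow
  have h3 : ((1 + L g : Module.End F (ι → F)) ^ 2 ^ b) z ≠ 0 := by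
    rw [(geom_sum_two h2 (L g) b).1, ← L_pow]
    change z + act (g ^ 2 ^ b) z ≠ 0
    rw [← sub_vec h2]
    intro h
    exact hb (sub_eq_zero.1 h).symm
  have h4 : 0 < Module.finrank F (fixSp g) := by
    rw [Nat.pos_iff_ne_zero]
    intro h
    have h5 : ∀ n : ℕ, ((1 + L g : Module.End F (ι → F)) ^ n) z = 0 → z = 0 := by
      intro n
      induction n with
      | zero => intro h; exact h
      | succ n ih =>
        intro hn
        apply ih
        have h6 : ((1 + L g : Module.End F (ι → F)) ^ n) z ∈ fixSp g := by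
          rw [fix_le hs h2]
          refine ⟨?_, by rw [← Module.End.mul_apply, ← pow_succ']; exact hn⟩
          clear ih hn
          induction n with
          | zero => exact hz
          | succ n ih =>
            rw [pow_succ']
            exact stable hs h2 ih
        rw [Submodule.finrank_eq_zero.1 h, Submodule.mem_bot] at h6
        exact h6
    have h6 := h5 _ (nilp hs h2 hz)
    rw [h6, map_zero] at h3
    exact h3 rfl
  have h6 := finrank_ge (1 + L g : Module.End F (ι → F)) (fixSp (g ^ 2 ^ a)) (fixSp g)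
    (fun z hz => stable hs h2 hz) (fix_le hs h2) 1 h4 (2 ^ b) (2 ^ a) (fun z hz => nilp hs h2 hz)
    hz h3
  exact h6

end norm

end Cfsg.Agent.H404.Parts
end

-- part: H404/Semi
section
/-!
# Orders of elements of a semidirect product with an elementary abelian 2-group

`X` a group acting on an additive group `M` with `m + m = 0`; elements of `M ⋊ X`.
-/

set_option autoImplicit false

namespace Cfsg.Agent.H404.Semi

variable {X M : Type*} [Group X] [AddCommGroup M] [DistribMulAction X M]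

/-- the action of `X` on `M`, multiplicatively -/
def phi (X M : Type*) [Group X] [AddCommGroup M] [DistribMulAction X M] :
    X →* MulAut (Multiplicative M) where
  toFun x := AddEquiv.toMultiplicative (DistribMulAction.toAddEquiv M x)
  map_one' := by
    ext m
    exact congrArg Multiplicative.ofAdd (one_smul X (Multiplicative.toAdd m))
  map_mul' x y := by
    ext m
    exact congrArg Multiplicative.ofAdd (mul_smul x y (Multiplicative.toAdd m))

theorem phi_apply (x : X) (m : M) : phi X M x (Multiplicative.ofAdd m) = Multiplicative.ofAdd (x • m) := rfl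

/-- the group `M ⋊ X` -/
abbrev G (X M : Type*) [Group X] [AddCommGroup M] [DistribMulAction X M] : Type _ :=
  SemidirectProduct (Multiplicative M) X (phi X M)

/-- the element `(v, x)` -/
def el (v : M) (x : X) : G X M := ⟨Multiplicative.ofAdd v, x⟩

theorem exists_el (g : G X M) : ∃ v x, g = el v x := ⟨Multiplicative.toAdd g.left, g.right, rfl⟩

theorem el_mul (v w : M) (x y : X) : el v x * el w y = el (v + x • w) (x * y) := rfl

theorem el_one : el (0 : M) (1 : X) = 1 := rfl

theorem el_inj {v w : M} {x y : X} (h : el v x = el w y) : v = w ∧ x = y :=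
  ⟨congrArg (fun g : G X M => Multiplicative.toAdd g.left) h, congrArg (fun g : G X M => g.right) h⟩

theorem el_pow (v : M) (x : X) (n : ℕ) :
    el v x ^ n = el (∑ i ∈ Finset.range n, x ^ i • v) (x ^ n) := by
  induction n with
  | zero => simp [el_one]
  | succ n ih => rw [pow_succ, ih, el_mul, Finset.sum_range_succ, pow_succ]

theorem orderOf_dvd (v : M) (x : X) : orderOf x ∣ orderOf (el v x) := by
  apply orderOf_dvd_of_pow_eq_one
  have h := pow_orderOf_eq_one (el v x)
  rw [el_pow, ← el_one] at h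
  exact (el_inj h).2

theorem pow_orderOf (v : M) (x : X) :
    el v x ^ orderOf x = el (∑ i ∈ Finset.range (orderOf x), x ^ i • v) 1 := by
  rw [el_pow, pow_orderOf_eq_one]

theorem orderOf_eq_of_eq_zero (v : M) (x : X)
    (h : ∑ i ∈ Finset.range (orderOf x), x ^ i • v = 0) : orderOf (el v x) = orderOf x := by
  apply Nat.dvd_antisymm _ (orderOf_dvd v x)
  apply orderOf_dvd_of_pow_eq_one
  rw [pow_orderOf, h, el_one]

theorem orderOf_eq_of_ne_zero (hM : ∀ m : M, m + m = 0) (v : M) (x : X)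
    (h : ∑ i ∈ Finset.range (orderOf x), x ^ i • v ≠ 0) : orderOf (el v x) = orderOf x * 2 := by
  obtain ⟨k, hk⟩ := orderOf_dvd v x
  have h1 : orderOf (el v x) ∣ orderOf x * 2 := by
    apply orderOf_dvd_of_pow_eq_one
    rw [pow_mul, pow_orderOf, pow_two, el_mul, one_smul, hM, mul_one, el_one]
  by_cases h0 : orderOf x = 0
  · rw [hk, h0]; simp
  have h2 : k ∣ 2 := by
    rw [hk] at h1
    exact Nat.dvd_of_mul_dvd_mul_left (Nat.pos_of_ne_zero h0) h1
  rcases (Nat.dvd_prime Nat.prime_two).1 h2 with rfl | rfl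
  · exfalso
    apply h
    have h3 := pow_orderOf_eq_one (el v x)
    rw [hk, mul_one, pow_orderOf, ← el_one] at h3
    exact (el_inj h3).1
  · exact hk

end Cfsg.Agent.H404.Semi
end

-- part: H404/Spec
section
/-!
# Element orders of `V ^ k ⋊ Ω(V)` in dimension eight, characteristic two

`Q` a quadratic form with non-degenerate polar form on a space `V` of dimension eight over a finite field
of characteristic two, `X` the kernel of the Dickson invariant. For `k ≥ 1` the group `V ^ k ⋊ X` has the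
same element orders as the isometry group of `Q`.
-/

set_option autoImplicit false
set_option linter.unusedSectionVars false

namespace Cfsg.Agent.H404.Spec

open Cfsg QuadraticMap
open Cfsg.Agent.ClassicalGeometry.OrthCharTwo Cfsg.Agent.ClassicalGeometry.OrthDickson
open Cfsg.Agent.ClassicalGeometry.Reflection
open Cfsg.Agent.H404.Siegel Cfsg.Agent.H404.Parts Cfsg.Agent.H404.Semi

variable {F : Type*} [Field F] {ι : Type} [Fintype ι] [DecidableEq ι]
variable {Q : QuadraticForm F (ι → F)}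

/-- `k` copies of the natural module -/
def Mod (ι : Type) (F : Type*) (k : ℕ) : Type _ := Fin k → ι → F

instance instAddCommGroupMod (k : ℕ) : AddCommGroup (Mod ι F k) :=
  inferInstanceAs (AddCommGroup (Fin k → ι → F))

instance instDistribMulActionMod (X : Subgroup (Cfsg.isometryGroup F (⇑Q))) (k : ℕ) :
    DistribMulAction X (Mod ι F k) where
  smul x f := fun j : Fin k => act (x : Cfsg.isometryGroup F (⇑Q)) (f j)
  one_smul f := funext fun j => act_one (f j)
  mul_smul x y f := funext fun j => act_mul (x : Cfsg.isometryGroup F (⇑Q)) y (f j)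
  smul_zero x := funext fun j => act_zero (x : Cfsg.isometryGroup F (⇑Q))
  smul_add x f g := funext fun j => act_add (x : Cfsg.isometryGroup F (⇑Q)) (f j) (g j)

theorem smul_apply (X : Subgroup (Cfsg.isometryGroup F (⇑Q))) (k : ℕ) (x : X) (f : Mod ι F k)
    (j : Fin k) : (x • f) j = act (x : Cfsg.isometryGroup F (⇑Q)) (f j) := rfl

theorem sum_apply (X : Subgroup (Cfsg.isometryGroup F (⇑Q))) (k : ℕ) (x : X) (f : Mod ι F k)
    (n : ℕ) (j : Fin k) : (∑ i ∈ Finset.range n, x ^ i • f) j =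
      ∑ i ∈ Finset.range n, act ((x : Cfsg.isometryGroup F (⇑Q)) ^ i) (f j) := by
  have h := Finset.sum_apply j (Finset.range n) (fun i => ((x ^ i • f : Mod ι F k) : Fin k → ι → F))
  refine h.trans ?_
  exact Finset.sum_congr rfl fun i _ => by
    rw [smul_apply, SubmonoidClass.coe_pow]

/-- the constant family -/
def const (k : ℕ) (v : ι → F) : Mod ι F k := fun _ => v

theorem const_apply (k : ℕ) (v : ι → F) (j : Fin k) : const k v j = v := rfl

theorem exists_split (g : Cfsg.isometryGroup F (⇑Q)) (h0 : 0 < orderOf g) :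
    ∃ a m, orderOf g = 2 ^ a * m ∧ Split g a m ∧ orderOf (g ^ 2 ^ a) = m := by
  obtain ⟨a, m, hm, h⟩ := Nat.exists_eq_two_pow_mul_odd h0.ne'
  refine ⟨a, m, h, ⟨by rw [← h]; exact pow_orderOf_eq_one g, hm⟩, ?_⟩
  have h1 : 0 < 2 ^ a := by positivity
  rw [orderOf_pow' _ h1.ne', h, Nat.gcd_eq_right (Dvd.intro _ rfl), Nat.mul_div_cancel_left _ h1]

theorem lcm_two_pow {a b c m : ℕ} (hc : c ∣ 2 ^ a * m) (hm : m ∣ c) (hodd : Odd m) (hab : a ≤ b) :
    Nat.lcm (2 ^ b) c = 2 ^ b * m := by
  have h1 : Nat.Coprime (2 ^ b) m := (Nat.Coprime.pow_left _ (Nat.coprime_two_left.2 hodd))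
  apply Nat.dvd_antisymm
  · exact Nat.lcm_dvd (Dvd.intro _ rfl) (hc.trans (Nat.mul_dvd_mul_right (Nat.pow_dvd_pow 2 hab) m))
  · exact h1.mul_dvd_of_dvd_of_dvd (Nat.dvd_lcm_left _ _) (hm.trans (Nat.dvd_lcm_right _ _))

theorem norm_scale (h2 : (2 : F) = 0) {b m : ℕ} (hm : Odd m) {w : Cfsg.isometryGroup F (⇑Q)}
    (hw : w ^ b = 1) (v : ι → F) :
    ∑ i ∈ Finset.range (b * m), act (w ^ i) v = ∑ i ∈ Finset.range b, act (w ^ i) v := by
  rw [sum_act, sum_range_mul, sum_act, ← L_pow, hw, L_one]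
  simp only [one_pow, Finset.sum_const, Finset.card_range]
  obtain ⟨k, rfl⟩ := hm
  have h3 : ((2 * k + 1) • (1 : Module.End F (ι → F))) = 1 := by
    rw [add_smul, one_smul, mul_comm, mul_smul, two_smul]
    have h4 : (1 : Module.End F (ι → F)) + 1 = 0 := by
      rw [← two_smul F (1 : Module.End F (ι → F)), h2, zero_smul]
    rw [h4]
    simp
  rw [h3, one_mul]

variable [Finite F] (h2 : (2 : F) = 0) (hι : Fintype.card ι = 8) (hQ : (polarBilin Q).Nondegenerate)

theorem finite_iso : Finite (Cfsg.isometryGroup F (⇑Q)) := by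
  have : Finite (Matrix ι ι F) := by unfold Matrix; infer_instance
  have : Finite (Matrix.GeneralLinearGroup ι F) := Finite.of_injective (fun g => (g : Matrix ι ι F))
    (fun _ _ h => Units.ext h)
  infer_instance

include h2 hι hQ

theorem finrank_le_eight (U : Submodule F (ι → F)) : Module.finrank F U ≤ 8 := by
  refine (Submodule.finrank_le U).trans ?_
  rw [Module.finrank_fintype_fun_eq_card, hι]

omit hι hQ in
theorem act_pow_two_even {w : Cfsg.isometryGroup F (⇑Q)} (v : ι → F) :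
    v + act w v + act (w ^ 2) v + act (w ^ 3) v = ∑ i ∈ Finset.range (2 ^ 2), act (w ^ i) v := by
  have : (2 : ℕ) ^ 2 = 4 := rfl
  rw [this, Finset.sum_range_succ, Finset.sum_range_succ, Finset.sum_range_succ, Finset.sum_range_one,
    pow_zero, pow_one, act_one]

/-- an isometry with prescribed 2-power order on a large enough space -/
theorem exists_order {U : Submodule F (ι → F)} (hU : Nd Q U) (a : ℕ)
    (h : 2 ^ a + 1 ≤ Module.finrank F U) :
    ∃ w : Cfsg.isometryGroup F (⇑Q), Supp U w ∧ orderOf w = 2 ^ (a + 1) := by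
  have hp : Fact (Nat.Prime 2) := ⟨Nat.prime_two⟩
  have h8 := finrank_le_eight h2 hι hQ U
  obtain rfl | rfl | rfl | ha : a = 0 ∨ a = 1 ∨ a = 2 ∨ 3 ≤ a := by omega
  · have h9 : U ≠ ⊥ := by
      rintro rfl
      rw [finrank_bot] at h
      omega
    obtain ⟨w, h1, h3, h4⟩ := exists_ord_two h2 hU h9
    exact ⟨w, h1, orderOf_eq_prime h3 h4⟩
  · obtain ⟨w, h1, h3, h4⟩ := exists_ord_four h2 hU h
    exact ⟨w, h1, orderOf_eq_prime_pow (p := 2) (n := 1) h4 h3⟩
  · obtain ⟨w, h1, h3, h4⟩ := exists_ord_eight h2 hU h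
    exact ⟨w, h1, orderOf_eq_prime_pow (p := 2) (n := 2) h4 h3⟩
  · exfalso
    have h10 : 2 ^ 3 ≤ 2 ^ a := Nat.pow_le_pow_right (by norm_num) ha
    omega

/-- an element of the kernel of the Dickson invariant of order `2 ^ a` and of nonzero norm -/
theorem exists_even {U : Submodule F (ι → F)} (hU : Nd Q U) (a : ℕ)
    (h : 2 ^ a + 1 ≤ Module.finrank F U) :
    ∃ w : Cfsg.isometryGroup F (⇑Q), Supp U w ∧ dsign Q w = 1 ∧ orderOf w = 2 ^ a ∧
      ∃ v ∈ U, ∑ i ∈ Finset.range (2 ^ a), act (w ^ i) v ≠ 0 := by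
  have hp : Fact (Nat.Prime 2) := ⟨Nat.prime_two⟩
  have h8 := finrank_le_eight h2 hι hQ U
  obtain rfl | rfl | rfl | ha : a = 0 ∨ a = 1 ∨ a = 2 ∨ 3 ≤ a := by omega
  · have h9 : U ≠ ⊥ := by
      rintro rfl
      rw [finrank_bot] at h
      omega
    obtain ⟨v, hv, hv0⟩ := (Submodule.ne_bot_iff U).1 h9
    refine ⟨1, supp_one U, dsign_one Q, by rw [orderOf_one, pow_zero], v, hv, ?_⟩
    rw [pow_zero, Finset.sum_range_one, pow_zero, act_one]
    exact hv0
  · obtain ⟨w, h1, h3, h4, v, hv, h5⟩ := exists_even_two h2 hQ hU h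
    have h6 : w ≠ 1 := by
      rintro rfl
      apply h5
      rw [act_one, add_self_vec h2]
    refine ⟨w, h1, h3, by rw [pow_one]; exact orderOf_eq_prime h4 h6, v, hv, ?_⟩
    rw [pow_one, Finset.sum_range_succ, Finset.sum_range_one, pow_zero, pow_one, act_one]
    exact h5
  · obtain ⟨w, h1, h3, h4, v, hv, h5⟩ := exists_even_four h2 hQ hU h
    rw [act_pow_two_even h2] at h5
    refine ⟨w, h1, h3, orderOf_eq_prime_pow (p := 2) (n := 1) ?_ h4, v, hv, h5⟩
    intro h6
    rw [pow_one] at h6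
    apply h5
    rw [← act_pow_two_even h2, show w ^ 3 = w from by rw [pow_succ, h6, one_mul], h6, act_one]
    calc v + act w v + v + act w v = (v + v) + (act w v + act w v) := by abel
      _ = 0 := by rw [add_self_vec h2, add_self_vec h2, add_zero]
  · exfalso
    have h10 : 2 ^ 3 ≤ 2 ^ a := Nat.pow_le_pow_right (by norm_num) ha
    omega

/-- the kernel of the Dickson invariant -/
noncomputable def X (Q : QuadraticForm F (ι → F)) (hι : Fintype.card ι = 8)
    (hQ : (polarBilin Q).Nondegenerate) : Subgroup (Cfsg.isometryGroup F (⇑Q)) :=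
  (dsignHom Q hQ (Or.inr (by rw [hι]; norm_num))).ker

omit [Finite F] h2 in
theorem mem_X {g : Cfsg.isometryGroup F (⇑Q)} : g ∈ X Q hι hQ ↔ dsign Q g = 1 := by
  rw [X, MonoidHom.mem_ker, dsignHom_apply]

omit [Finite F] hι hQ in
theorem mod_two (k : ℕ) (f : Mod ι F k) : f + f = 0 := by
  funext j
  exact add_self_vec h2 (f j)

/-- **Orders of elements of `V ^ k ⋊ X` are orders of isometries.** -/
theorem upper (k : ℕ) (g : G (X Q hι hQ) (Mod ι F k)) :
    ∃ y : Cfsg.isometryGroup F (⇑Q), orderOf y = orderOf g := by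
  have hfin : Finite (Cfsg.isometryGroup F (⇑Q)) := finite_iso
  obtain ⟨v, x, rfl⟩ := exists_el g
  by_cases h : ∑ i ∈ Finset.range (orderOf x), x ^ i • v = 0
  · exact ⟨x, by rw [orderOf_eq_of_eq_zero v x h, Subgroup.orderOf_coe]⟩
  rw [orderOf_eq_of_ne_zero (mod_two h2 k) v x h]
  obtain ⟨j, hj⟩ : ∃ j, (∑ i ∈ Finset.range (orderOf x), x ^ i • v) j ≠ 0 := by
    by_contra hc
    push Not at hc
    exact h (funext hc)
  rw [sum_apply] at hj
  have hx0 : orderOf (x : Cfsg.isometryGroup F (⇑Q)) = orderOf x := Subgroup.orderOf_coe x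
  obtain ⟨a, m, hord, hs, hm⟩ := exists_split (x : Cfsg.isometryGroup F (⇑Q)) (orderOf_pos _)
  rw [← hx0, hord] at hj ⊢
  have hd : dsign Q (x : Cfsg.isometryGroup F (⇑Q)) = 1 := (mem_X hι hQ).1 x.2
  have h3 := finrank_of_norm hs h2 (by rw [hι]; decide) hd hj
  obtain ⟨w, hw, hwo⟩ := exists_order h2 hι hQ (nd_U hs h2 hQ) a h3
  obtain ⟨c, hc1, hc2⟩ := exists_cut hs h2
  have hc : IsCut (x : Cfsg.isometryGroup F (⇑Q)) a m c := ⟨hc1, hc2⟩
  refine ⟨w * c, ?_⟩
  rw [orderOf_mul_cut hs h2 hc hQ hw, hwo,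
    lcm_two_pow (orderOf_dvd_of_pow_eq_one (cut_pow_eq_one hs h2 hc)) (dvd_orderOf_cut hs h2 hc hm)
      hs.odd (Nat.le_succ a), pow_succ]
  ring

/-- **Orders of isometries are orders of elements of `V ^ k ⋊ X`.** -/
theorem lower (k : ℕ) (hk : 0 < k) (y : Cfsg.isometryGroup F (⇑Q)) :
    ∃ g : G (X Q hι hQ) (Mod ι F k), orderOf g = orderOf y := by
  have hfin : Finite (Cfsg.isometryGroup F (⇑Q)) := finite_iso
  have hι' : (∃ θ : F, θ ≠ 0 ∧ θ ≠ 1) ∨ Fintype.card ι ≠ 4 := Or.inr (by rw [hι]; norm_num)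
  obtain ⟨a, m, hord, hs, hm⟩ := exists_split y (orderOf_pos _)
  obtain ⟨c, hc1, hc2⟩ := exists_cut hs h2
  have hc : IsCut y a m c := ⟨hc1, hc2⟩
  have hdc : dsign Q c = 1 := dsign_cut hs h2 hc hQ hι'
  have hcd : orderOf c ∣ 2 ^ a * m := orderOf_dvd_of_pow_eq_one (cut_pow_eq_one hs h2 hc)
  have hmc := dvd_orderOf_cut hs h2 hc hm
  by_cases hco : orderOf c = 2 ^ a * m
  · refine ⟨el 0 ⟨c, (mem_X hι hQ).2 hdc⟩, ?_⟩
    rw [orderOf_eq_of_eq_zero, ← Subgroup.orderOf_coe, hco, hord]
    simp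
  -- now the order of `c` is smaller
  obtain ⟨d, hd⟩ := hmc
  have hmpos : 0 < m := hs.odd.pos
  have hd2 : d ∣ 2 ^ a := by
    rw [hd, mul_comm (2 ^ a)] at hcd
    exact Nat.dvd_of_mul_dvd_mul_left hmpos hcd
  obtain ⟨e, he, rfl⟩ := (Nat.dvd_prime_pow Nat.prime_two).1 hd2
  have hea : e < a := by
    refine lt_of_le_of_ne he ?_
    rintro rfl
    exact hco (by rw [hd, mul_comm])
  obtain ⟨b, rfl⟩ : ∃ b, a = b + 1 := ⟨a - 1, by omega⟩
  -- `y ^ (2 ^ b * m)` is not trivial on `U`
  have hne : y ^ (2 ^ b * m) ≠ 1 := by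
    intro h
    have h3 := orderOf_dvd_of_pow_eq_one h
    rw [hord] at h3
    have h4 := Nat.le_of_dvd (by positivity) h3
    have h5 : 2 ^ (b + 1) * m = 2 * (2 ^ b * m) := by rw [pow_succ]; ring
    have h6 : 0 < 2 ^ b * m := by positivity
    omega
  have h3 : 2 ^ b + 1 ≤ Module.finrank F (fixSp (y ^ 2 ^ (b + 1))) := by
    by_contra hlt
    apply hne
    refine ext_split hs h2 hc (fun z hz => ?_) fun z hz => ?_
    · have h4 : act (y ^ 2 ^ b) z = z := by
        by_contra h5
        exact hlt (finrank_of_ne hs h2 hz h5)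
      have h5 : ∀ n : ℕ, act ((y ^ 2 ^ b) ^ n) z = z := by
        intro n
        induction n with
        | zero => rw [pow_zero, act_one]
        | succ n ih => rw [pow_succ, act_mul, h4, ih]
      rw [pow_mul, h5, act_one]
    · rw [← cut_pow_W hs h2 hc _ hz]
      have h4 : c ^ (2 ^ b * m) = 1 := by
        rw [← orderOf_dvd_iff_pow_eq_one, hd, mul_comm]
        exact Nat.mul_dvd_mul_right (Nat.pow_dvd_pow 2 (by omega)) m
      rw [h4]
  obtain ⟨w, hw, hwd, hwo, v, hv, hvn⟩ := exists_even h2 hι hQ (nd_U hs h2 hQ) b h3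
  have hxo : orderOf (w * c) = 2 ^ b * m := by
    rw [orderOf_mul_cut hs h2 hc hQ hw, hwo]
    exact lcm_two_pow (a := e) (by rw [hd, mul_comm]) (by rw [hd]; exact Dvd.intro _ rfl) hs.odd (by omega)
  have hxd : dsign Q (w * c) = 1 := by rw [dsign_mul_of_gen Q hQ hι', hwd, hdc, one_mul]
  have hact : ∀ n : ℕ, act ((w * c) ^ n) v = act (w ^ n) v ∧ act (w ^ n) v ∈ fixSp (y ^ 2 ^ (b + 1)) := by
    intro n
    induction n with
    | zero => rw [pow_zero, pow_zero, act_one]; exact ⟨rfl, hv⟩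
    | succ n ih =>
      rw [pow_succ', act_mul, ih.1, act_mul, hc.fix _ ih.2, pow_succ', act_mul]
      refine ⟨rfl, ?_⟩
      have := Submodule.add_mem _ (hw (act (w ^ n) v)) ih.2
      rwa [sub_add_cancel] at this
  let x : X Q hι hQ := ⟨w * c, (mem_X hι hQ).2 hxd⟩
  have hx : orderOf x = 2 ^ b * m := by rw [← Subgroup.orderOf_coe]; exact hxo
  refine ⟨el (const k v) x, ?_⟩
  rw [orderOf_eq_of_ne_zero (mod_two h2 k), hx, hord, pow_succ]
  · ring
  · intro h
    have h4 : (∑ i ∈ Finset.range (orderOf x), x ^ i • const k v) ⟨0, hk⟩ = 0 := congrFun h ⟨0, hk⟩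
    rw [sum_apply, hx] at h4
    apply hvn
    rw [← norm_scale h2 hs.odd (by rw [← hwo]; exact pow_orderOf_eq_one w) v]
    refine Eq.trans ?_ h4
    exact Finset.sum_congr rfl fun i _ => (hact i).1.symm

theorem range_eq (k : ℕ) (hk : 0 < k) :
    Set.range (orderOf : G (X Q hι hQ) (Mod ι F k) → ℕ) =
      Set.range (orderOf : Cfsg.isometryGroup F (⇑Q) → ℕ) := by
  ext n
  constructor
  · rintro ⟨g, rfl⟩
    exact upper h2 hι hQ k g
  · rintro ⟨y, rfl⟩
    exact lower h2 hι hQ k hk y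

end Cfsg.Agent.H404.Spec
end

-- part: S3590
section
set_option autoImplicit false
open Cfsg

namespace Cfsg.Agent.S3590

open Cfsg.Agent.H404.Spec Cfsg.Agent.H404.Semi Cfsg.Agent.LieClassical.OrthForms

/-- an anisotropic binary form in characteristic two -/
theorem exists_aniso (F : Type*) [Field F] [Finite F] [CharP F 2] :
    ∃ b : F, ∀ z₁ z₂ : F, z₁ ^ 2 + 1 * z₁ * z₂ + b * z₂ ^ 2 = 0 → z₁ = 0 ∧ z₂ = 0 := by
  have h1 : ¬ Function.Surjective (fun x : F => x ^ 2 + x) := by
    intro h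
    have h2 := Finite.injective_iff_surjective.2 h
    have h3 : (0 : F) = 1 := h2 (by
      change (0 : F) ^ 2 + 0 = 1 ^ 2 + 1
      rw [one_pow, CharTwo.add_self_eq_zero]
      simp)
    exact zero_ne_one h3
  unfold Function.Surjective at h1
  push Not at h1
  obtain ⟨b, hb⟩ := h1
  refine ⟨b, fun z₁ z₂ h => ?_⟩
  by_cases h2 : z₂ = 0
  · subst h2
    refine ⟨?_, rfl⟩
    simpa using h
  · exfalso
    apply hb (z₁ / z₂)
    have h3 : (z₁ / z₂) ^ 2 + z₁ / z₂ + b = 0 := by
      have h4 : (z₁ / z₂) ^ 2 + z₁ / z₂ + b = (z₁ ^ 2 + 1 * z₁ * z₂ + b * z₂ ^ 2) / z₂ ^ 2 := by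
        field_simp
      rw [h4, h, zero_div]
    exact (eq_neg_of_add_eq_zero_left h3).trans (CharTwo.neg_eq b)

theorem nondegenerate {F : Type*} [Field F] {ι : Type} (Q : QuadraticForm F (ι → F))
    (h : ∀ x, (∀ y, QuadraticMap.polar Q x y = 0) → x = 0) :
    LinearMap.BilinForm.Nondegenerate (QuadraticMap.polarBilin Q) := by
  constructor
  · exact fun x hx => h x hx
  · exact fun x hx => h x fun y => by rw [QuadraticMap.polar_comm]; exact hx y

/-- a finite group is isomorphic to one in the lowest universe -/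
theorem exists_type_zero (G₀ : Type*) [Group G₀] [Finite G₀] :
    ∃ (H : Type) (_ : Group H) (_ : Fintype H), Fintype.card H = Nat.card G₀ ∧
      Set.range (orderOf : H → ℕ) = Set.range (orderOf : G₀ → ℕ) := by
  have hsm : Small.{0} G₀ := Countable.toSmall G₀
  have hf : Finite (Shrink.{0} G₀) := Finite.of_equiv G₀ (equivShrink G₀)
  let φ : Shrink.{0} G₀ ≃* G₀ := Shrink.mulEquiv
  let ft : Fintype (Shrink.{0} G₀) := Fintype.ofFinite _
  refine ⟨Shrink.{0} G₀, inferInstance, ft, ?_, ?_⟩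
  · rw [← Nat.card_eq_fintype_card]
    exact Nat.card_congr φ.toEquiv
  · ext n
    constructor
    · rintro ⟨g, rfl⟩
      exact ⟨φ g, MulEquiv.orderOf_eq φ g⟩
    · rintro ⟨g, rfl⟩
      exact ⟨φ.symm g, MulEquiv.orderOf_eq φ.symm g⟩

/-- Let F be a finite field of characteristic 2. Then PSp(8,F) is not determined by its set of element orders, not even up to finitely many groups: for every bound there is a finite group of larger order with exactly the same set of element orders as PSp(8,F). -/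
theorem result {F : Type*} [Field F] [Fintype F]
    [CharP F 2] (M : ℕ) :
    ∃ (H : Type) (_ : Group H) (_ : Fintype H), M < Fintype.card H ∧ Set.range (orderOf : H → ℕ) = Set.range (orderOf : Cfsg.PSp 4 F → ℕ) := by
  classical
  obtain ⟨b, hb⟩ := exists_aniso F
  have hnd := nondegenerate (minusForm 3 F 1 b) (nondeg_minusForm 3 F 1 b hb)
  have h2 : (2 : F) = 0 := CharTwo.two_eq_zero
  have hι : Fintype.card ((Fin 3 ⊕ Fin 3) ⊕ Fin 2) = 8 := by simp
  let k := M + 1
  let G₀ := G (X (minusForm 3 F 1 b) hι hnd) (Mod ((Fin 3 ⊕ Fin 3) ⊕ Fin 2) F k)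
  have hr : Set.range (orderOf : G₀ → ℕ) = Set.range (orderOf : Cfsg.PSp 4 F → ℕ) := by
    rw [Cfsg.Agent.S3589.result 1 b hb, ← coe_minusForm]
    exact range_eq h2 hι hnd k (Nat.succ_pos M)
  have hfX : Finite (X (minusForm 3 F 1 b) hι hnd) :=
    have := finite_iso (Q := minusForm 3 F 1 b)
    inferInstance
  have hfM : Finite (Mod ((Fin 3 ⊕ Fin 3) ⊕ Fin 2) F k) :=
    inferInstanceAs (Finite (Fin k → (Fin 3 ⊕ Fin 3) ⊕ Fin 2 → F))
  have hfM' : Finite (Multiplicative (Mod ((Fin 3 ⊕ Fin 3) ⊕ Fin 2) F k)) := hfM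
  have hfin : Finite G₀ := Finite.of_injective
    (fun g : G₀ => (g.left, g.right)) (fun g h hgh => by
      have h1 := congrArg Prod.fst hgh
      have h2 := congrArg Prod.snd hgh
      exact SemidirectProduct.ext h1 h2)
  -- the order
  have hcard : M < Nat.card G₀ := by
    have h1 : Nat.card (Fin k → F) ≤ Nat.card G₀ := by
      apply Nat.card_le_card_of_injective
        (fun f : Fin k → F => (el (fun j _ => f j : Mod ((Fin 3 ⊕ Fin 3) ⊕ Fin 2) F k) 1 : G₀))
      intro f f' hff
      have h3 := (el_inj hff).1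
      funext j
      exact congrFun (congrFun h3 j) (Sum.inr 0)
    have h3 : M < Nat.card (Fin k → F) := by
      rw [Nat.card_fun, Nat.card_eq_fintype_card, Nat.card_eq_fintype_card, Fintype.card_fin]
      have h4 : 2 ≤ Fintype.card F := Fintype.one_lt_card
      calc M < k := Nat.lt_succ_self M
        _ < 2 ^ k := Nat.lt_two_pow_self
        _ ≤ Fintype.card F ^ k := Nat.pow_le_pow_left h4 k
    exact h3.trans_le h1
  obtain ⟨H, i1, i2, h3, h4⟩ := exists_type_zero G₀
  exact ⟨H, i1, i2, by rw [h3]; exact hcard, h4.trans hr⟩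

end Cfsg.Agent.S3590
end
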