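import Cfsg.Agent.H426.LieEx_m3
import Cfsg.Agent.H414.SpecFrame_m3
import Cfsg.Statements.S3631
import Cfsg.Agent.H437.Win.Frame
import Cfsg.Agent.Prune
set_option linter.all false

section
prune_inst 0x7f00000000000000000000000000000000000000000000000000000000000000000000000000000000000000000000000000000000000000000000000000000000000000000000000000000000000000003fffffffffffffffffffffffffffbeffbdffffffff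

-- part: H510/U/U20_19_mg
section
set_option linter.all false
private noncomputable def lq26d31188c4 {T : Sort _} (f :
    type_of% (@_root_.Prod.mk.{0, 0}) →
    type_of% (@_root_.List.cons.{0}) →
    type_of% (@_root_.List.nil.{0}) →
    type_of% (@_root_.Cfsg.Agent.H414.RelB.RC.mk) →
    type_of% (@_root_.List.cons.{0} (Prod Nat Nat)) →
    type_of% (@_root_.List.cons.{0} (Prod Nat (Prod Nat (List (Prod Nat Nat))))) → T) : T :=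
  f (@_root_.Prod.mk.{0, 0}) (@_root_.List.cons.{0}) (@_root_.List.nil.{0}) (@_root_.Cfsg.Agent.H414.RelB.RC.mk) (@_root_.List.cons.{0} (Prod Nat Nat)) (@_root_.List.cons.{0} (Prod Nat (Prod Nat (List (Prod Nat Nat)))))

-- part: H510/U/U20_19
section
/-!
# Certificate for `PSU(20, 19)` (helper510; generated)
-/

set_option autoImplicit false

namespace Cfsg.Agent.H510.U

open Cfsg.Agent.H510.UCert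

def U20_19 : UD where
  n := 20
  q := 19
  p := 19
  a := 1
  fac := (beta% delta% lq26d31188c4 fun a b c _ e _ =>
 (let f:=(let f:=(let f:=(e (a 1081291 1)<|e (a 16936647121 1)<|e (a 253239693257 1)<|e (a 870542161121 1)<|
 e (a 274019342889240109297 1)<|c);
 (e (a 226871 2)<|e (a 236377 2)<|e (a 291331
 1)<|e (a 563377 1)<|e (a 1049219 1)<|f));
 (let f:=(e (a 15073 1)<|e (a 29989 1)<|e (a 70841 1)<|e (a 108301 1)<|e (a 176021 1)<|f);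
 (e (a 769 1)<|e (a 911 2)<|e (a 2251 4)<|
 e (a 3833 2)<|f)));
 (let f:=(let f:=(e (a 199 2)<|e (a 271 1)<|e (a 313 1)<|e (a 523 1)<|e (a 701 1)<|f);
 (e (a 127 3)<|e (a 131 1)<|e (a 151
 2)<|e (a 181 5)<|e (a 197 2)<|f));
 (let f:=(e (a 11 4)<|e (a 13 2)<|e (a 17 2)<|e (a 23 1)<|e (a 61 1)<|f);
 (b (a 2 58)<|b (a 3 24)<|b (a 5 24)<|b (a 7 18)<|f)))))
  tops := (beta% delta% lq26d31188c4 fun a b c _ _ _ =>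
 (b (a 11 23)<|b (a 12 13)<|b (a 13 131)<|b (a 14 701)<|b (a 15 271)<|b (a 16 15073)<|b (a 17 274019342889240109297)<|b (a 18 523)<|
 b (a 19 108301)<|b (a 20 16936647121)<|c))
  A := (beta% delta% lq26d31188c4 fun a b c _ _ _ =>
 (b (a 61 31)<|b (a 313 157)<|b (a 523 29)<|b (a 2251 563)<|b (a 3833 71)<|b (a 15073 157)<|b (a 29989 2999)<|b (a 70841 11807)<|
 b (a 108301 54151)<|b (a 176021 677)<|b (a 226871 137)<|b (a 236377 67)<|b (a 291331 83)<|b (a 563377 97)<|b (a 1049219 29)<|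
 b (a 1081291 270323)<|b (a 16936647121 7723)<|b (a 253239693257 37)<|b (a 870542161121 263)<|b (a 274019342889240109297
 47)<|c))
  B := (beta% delta% lq26d31188c4 fun a b c d _ _ =>
 (b (a 2<|a (d 274019342889240109297 37 68504835722310027324 36 (b (a 2<|a 2 2)<|b (a 3<|a 2 2)<|c) 2 2) (d 16936647121 37
 846832356 36 (b (a 2<|a 2 2)<|b (a 3<|a 2 2)<|c) 2 2))<|
 b (a 3<|a (d 271 31 30 30 (b (a 2<|a 1 1)<|b (a 3<|a 1 1)<|b (a 5<|a 1 1)<|c) 1 1) (d 16936647121 73 282277452 12 (b (a 2<|a 2 2)<|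
 b (a 3<|a 1 1)<|c) 2 1))<|
 b (a 5<|a (d 23 67 22 22 (b (a 2<|a 1 1)<|b (a 11<|a 1 1)<|c) 1 0) (d 131 71 65 5 (b (a 5<|a 1 1)<|c) 0 0))<|
 b (a 7<|a (d 523 37 261 9 (b (a 3<|a 2 2)<|c) 0 2) (d 271 109 135 27 (b (a 3<|a 3 3)<|c) 0 3))<|
 b (a 11<|a (d 701 29 700 28 (b (a 2<|a 2 2)<|b (a 7<|a 1 1)<|c) 2 0) (d 274019342889240109297 73 7211035339190529192 72
 (b (a 2<|a 3 3)<|b (a 3<|a 2 2)<|c) 3 2))<|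
 b (a 13<|a (d 16936647121 41 940924840 40 (b (a 2<|a 3 3)<|b (a 5<|a 1 1)<|c) 3 0) (d 131 53 65 13 (b (a 13<|a 1 1)<|c) 0 0))<|
 b (a 17<|a (d 274019342889240109297 37 68504835722310027324 36 (b (a 2<|a 2 2)<|b (a 3<|a 2 2)<|c) 2 2) (d 131 71 130 10
 (b (a 2<|a 1 1)<|b (a 5<|a 1 1)<|c) 1 0))<|
 b (a 23<|a (d 131 31 130 10 (b (a 2<|a 1 1)<|b (a 5<|a 1 1)<|c) 1 0) (d 108301 37 108300 12 (b (a 2<|a 2 2)<|b (a 3<|a 1 1)<|c) 2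
 1))<|
 b (a 127<|a (d 131 41 130 10 (b (a 2<|a 1 1)<|b (a 5<|a 1 1)<|c) 1 0) (d 271 163 54 54 (b (a 2<|a 1 1)<|b (a 3<|a 3 3)<|c) 1 3))<|
 b (a 131<|a (d 701 43 350 14 (b (a 2<|a 1 1)<|b (a 7<|a 1 1)<|c) 1 0) (d 23 67 11 11 (b (a 11<|a 1 1)<|c) 0 0))<|
 b (a 151<|a (d 701 29 14 14 (b (a 2<|a 1 1)<|b (a 7<|a 1 1)<|c) 1 0) (d 271 379 135 27 (b (a 3<|a 3 3)<|c) 0 3))<|
 b (a 181<|a (d 271 31 30 6 (b (a 2<|a 1 1)<|b (a 3<|a 1 1)<|c) 1 1) (d 274019342889240109297 31 11417472620385004554 6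
 (b (a 2<|a 1 1)<|b (a 3<|a 1 1)<|c) 1 1))<|
 b (a 197<|a (d 131 53 130 26 (b (a 2<|a 1 1)<|b (a 13<|a 1 1)<|c) 1 0) (d 15073 97 7536 48 (b (a 2<|a 4 4)<|b (a 3<|a 1 1)<|c) 4
 1))<|
 b (a 199<|a (d 131 53 26 26 (b (a 2<|a 1 1)<|b (a 13<|a 1 1)<|c) 1 0) (d 701 71 175 5 (b (a 5<|a 1 2)<|c) 0 0))<|
 b (a 271<|a (d 23 89 11 11 (b (a 11<|a 1 1)<|c) 0 0) (d 701 101 700 20 (b (a 2<|a 2 2)<|b (a 5<|a 1 2)<|c) 2 0))<|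
 b (a 701<|a (d 274019342889240109297 37 68504835722310027324 36 (b (a 2<|a 2 2)<|b (a 3<|a 2 2)<|c) 2 2) (d 523 59 58 58
 (b (a 2<|a 1 1)<|b (a 29<|a 1 1)<|c) 1 0))<|
 b (a 769<|a (d 13 37 12 12 (b (a 2<|a 2 2)<|b (a 3<|a 1 1)<|c) 2 1) (d 23 89 22 22 (b (a 2<|a 1 1)<|b (a 11<|a 1 1)<|c) 1 0))<|
 b (a 911<|a (d 108301 29 36100 4 (b (a 2<|a 2 2)<|c) 2 0) (d 131 53 65 13 (b (a 13<|a 1 1)<|c) 0 0))<|c))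
  ch := (beta% delta% lq26d31188c4 fun a b c _ _ _ =>
 (b (a 7723<|a 3 (b (a 2 1)<|b (a 3 3)<|b (a 11 1)<|b (a 13 1)<|c))<|
 b (a 5903<|a 5 (b (a 2 1)<|b (a 13 1)<|b (a 227 1)<|c))<|
 b (a 11807<|a 5 (b (a 2 1)<|b (a 5903 1)<|c))<|
 b (a 15073<|a 5 (b (a 2 5)<|b (a 3 1)<|b (a 157 1)<|c))<|
 b (a 29989<|a 2 (b (a 2 2)<|b (a 3 2)<|b (a 7 2)<|b (a 17 1)<|c))<|
 b (a 54151<|a 6 (b (a 2 1)<|b (a 3 1)<|b (a 5 2)<|b (a 19 2)<|c))<|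
 b (a 70841<|a 3 (b (a 2 3)<|b (a 5 1)<|b (a 7 1)<|b (a 11 1)<|b (a 23 1)<|c))<|
 b (a 108301<|a 6 (b (a 2 2)<|b (a 3 1)<|b (a 5 2)<|b (a 19 2)<|c))<|
 b (a 176021<|a 2 (b (a 2 2)<|b (a 5 1)<|b (a 13 1)<|b (a 677 1)<|c))<|
 b (a 226871<|a 13 (b (a 2 1)<|b (a 5 1)<|b (a 7 2)<|b (a 463 1)<|c))<|
 b (a 236377<|a 10 (b (a 2 3)<|b (a 3 2)<|b (a 7 2)<|b (a 67 1)<|c))<|
 b (a 270323<|a 2 (b (a 2 1)<|b (a 13 1)<|b (a 37 1)<|b (a 281 1)<|c))<|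
 b (a 291331<|a 12 (b (a 2 1)<|b (a 3 3)<|b (a 5 1)<|b (a 13 1)<|b (a 83 1)<|c))<|
 b (a 563377<|a 15 (b (a 2 4)<|b (a 3 1)<|b (a 11 2)<|b (a 97 1)<|c))<|
 b (a 27611<|a 2 (b (a 2 1)<|b (a 5 1)<|b (a 11 1)<|b (a 251 1)<|c))<|
 b (a 1049219<|a 2 (b (a 2 1)<|b (a 19 1)<|b (a 27611 1)<|c))<|
 b (a 1081291<|a 2 (b (a 2 1)<|b (a 3 1)<|b (a 5 1)<|b (a 7 1)<|b (a 19 1)<|b (a 271 1)<|c))<|
 b (a 16936647121<|a 29 (b (a 2 4)<|b (a 3 2)<|b (a 5 1)<|b (a 17 1)<|b (a 19 2)<|b (a 3833 1)<|c))<|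
 b (a 122347<|a 11 (b (a 2 1)<|b (a 3 2)<|b (a 7 1)<|b (a 971 1)<|c))<|
 b (a 253239693257<|a 3 (b (a 2 3)<|b (a 11 1)<|b (a 43 1)<|b (a 547 1)<|b (a 122347 1)<|c))<|
 b (a 108883<|a 2 (b (a 2 1)<|b (a 3 2)<|b (a 23 1)<|b (a 263 1)<|c))<|
 b (a 1088831<|a 14 (b (a 2 1)<|b (a 5 1)<|b (a 108883 1)<|c))<|
 b (a 870542161121<|a 3 (b (a 2 5)<|b (a 5 1)<|b (a 19 1)<|b (a 263 1)<|b (a 1088831 1)<|c))<|
 b (a 274019342889240109297<|a 7 (b (a 2 4)<|b (a 3 2)<|b (a 17 1)<|b (a 19 1)<|b (a 181 1)<|b (a 3833 1)<|b (a 15073 1)<|b (a 563377 1)<|c))<|c))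

set_option maxRecDepth 100000 in
theorem U20_19_ok : ldU U20_19 = true := by decide +kernel

end Cfsg.Agent.H510.U
end

-- part: H510/U/U24_7
section
/-!
# Certificate for `PSU(24, 7)` (helper510; generated)
-/

set_option autoImplicit false

namespace Cfsg.Agent.H510.U

open Cfsg.Agent.H510.UCert

def U24_7 : UD where
  n := 24
  q := 7
  p := 7
  a := 1
  fac := (beta% delta% lq26d31188c4 fun a b c _ e _ =>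
 (let f:=(let f:=(let f:=(e (a 10746341 2)<|e (a 228511817 1)<|e (a 4058036683 1)<|e (a 29078814248401 1)<|
 e (a 3421093417510114543 1)<|c);
 (e (a 169553 1)<|e (a 293459 1)<|e (a 309079 1)<|
 e (a 351121 1)<|e (a 6568801 1)<|f));
 (let f:=(e (a 2801 2)<|e (a 4021 1)<|e (a 4733 1)<|e (a 51031 1)<|e (a 117307 2)<|f);
 (e (a 911 3)<|e (a 1063 1)<|e (a 1123 1)<|e (a 1201
 3)<|f)));
 (let f:=(let f:=(e (a 181 2)<|e (a 191 4)<|e (a 193 1)<|e (a 281 1)<|e (a 409 1)<|f);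
 (e (a 37 1)<|e (a 43 8)<|e (a 53 1)<|
 e (a 73 1)<|e (a 113 3)<|f));
 (let f:=(e (a 13 2)<|e (a 17 1)<|e (a 19 4)<|e (a 23 2)<|e (a 29 1)<|f);
 (b (a 2 94)<|b (a 3 17)<|b (a 5 13)<|b (a 11 4)<|f)))))
  tops := (beta% delta% lq26d31188c4 fun a b c _ _ _ =>
 (b (a 13 53)<|b (a 14 29)<|b (a 15 6568801)<|b (a 17 29078814248401)<|b (a 18 37)<|b (a 19 351121)<|b (a 20 4021)<|b (a 22 1123)<|
 b (a 23 3421093417510114543)<|b (a 24 73)<|c))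
  A := (beta% delta% lq26d31188c4 fun a b c _ _ _ =>
 (b (a 193 97)<|b (a 281 47)<|b (a 409 41)<|b (a 1063 59)<|b (a 1201 601)<|b (a 2801 467)<|b (a 4021 67)<|b (a 4733 263)<|b (a 51031
 6379)<|b (a 117307 29327)<|b (a 169553 367)<|b (a 293459 67)<|b (a 309079 223)<|b (a 351121 419)<|b (a 6568801 151)<|
 b (a 10746341 83)<|b (a 228511817 367)<|b (a 4058036683 47)<|b (a 29078814248401 71)<|b (a 3421093417510114543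
 670276923493361)<|c))
  B := (beta% delta% lq26d31188c4 fun a b c d _ _ =>
 (b (a 2<|a (d 4021 61 4020 60 (b (a 2<|a 2 2)<|b (a 3<|a 1 1)<|b (a 5<|a 1 1)<|c) 2 1) (d 1123 67 1122 66 (b (a 2<|a 1 1)<|b (a 3<|a 1
 1)<|b (a 11<|a 1 1)<|c) 1 1))<|
 b (a 3<|a (d 29078814248401 31 3634851781050 30 (b (a 2<|a 1 1)<|b (a 3<|a 1 1)<|b (a 5<|a 1 2)<|c) 1 1) (d 6568801 401
 1094800 400 (b (a 2<|a 4 4)<|b (a 5<|a 2 2)<|c) 4 0))<|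
 b (a 5<|a (d 4021 31 1005 3 (b (a 3<|a 1 1)<|c) 0 1) (d 1123 67 374 22 (b (a 2<|a 1 1)<|b (a 11<|a 1 1)<|c) 1 0))<|
 b (a 11<|a (d 29 61 28 4 (b (a 2<|a 2 2)<|c) 2 0) (d 1123 89 374 22 (b (a 2<|a 1 1)<|b (a 11<|a 1 1)<|c) 1 0))<|
 b (a 13<|a (d 3421093417510114543 47 162909210357624502 46 (b (a 2<|a 1 1)<|b (a 23<|a 1 1)<|c) 1 0) (d 6568801 97
 6568800 96 (b (a 2<|a 5 5)<|b (a 3<|a 1 1)<|c) 5 1))<|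
 b (a 17<|a (d 6568801 47 68425 23 (b (a 23<|a 1 1)<|c) 0 0) (d 4021 71 670 10 (b (a 2<|a 1 1)<|b (a 5<|a 1 1)<|c) 1 0))<|
 b (a 19<|a (d 37 109 36 36 (b (a 2<|a 2 2)<|b (a 3<|a 2 2)<|c) 2 2) (d 73 109 36 36 (b (a 2<|a 2 2)<|b (a 3<|a 2 2)<|c) 2 2))<|
 b (a 23<|a (d 3421093417510114543 71 1140364472503371514 14 (b (a 2<|a 1 1)<|b (a 7<|a 1 1)<|c) 1 0) (d 6568801 79 205275
 3 (b (a 3<|a 1 1)<|c) 0 1))<|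
 b (a 29<|a (d 37 61 12 12 (b (a 2<|a 2 2)<|b (a 3<|a 1 1)<|c) 2 1) (d 4021 61 804 12 (b (a 2<|a 2 2)<|b (a 3<|a 1 1)<|c) 2 1))<|
 b (a 37<|a (d 1123 31 1122 6 (b (a 2<|a 1 1)<|b (a 3<|a 1 1)<|c) 1 1) (d 3421093417510114543 31 3421093417510114542 6
 (b (a 2<|a 1 1)<|b (a 3<|a 1 1)<|c) 1 1))<|
 b (a 43<|a (d 4021 61 4020 60 (b (a 2<|a 2 2)<|b (a 3<|a 1 1)<|b (a 5<|a 1 1)<|c) 2 1) (d 73 97 24 24 (b (a 2<|a 3 3)<|b (a 3<|a 1 1)<|c)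
 3 1))<|
 b (a 53<|a (d 3421093417510114543 47 570182236251685757 23 (b (a 23<|a 1 1)<|c) 0 0) (d 29078814248401 97
 29078814248400 48 (b (a 2<|a 4 4)<|b (a 3<|a 1 1)<|c) 4 1))<|
 b (a 73<|a (d 53 41 52 4 (b (a 2<|a 2 2)<|c) 2 0) (d 29 41 28 4 (b (a 2<|a 2 2)<|c) 2 0))<|
 b (a 113<|a (d 4021 97 804 12 (b (a 2<|a 2 2)<|b (a 3<|a 1 1)<|c) 2 1) (d 351121 241 175560 24 (b (a 2<|a 3 3)<|b (a 3<|a 1 1)<|c)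
 3 1))<|
 b (a 181<|a (d 3421093417510114543 71 49581064021885718 14 (b (a 2<|a 1 1)<|b (a 7<|a 1 1)<|c) 1 0) (d 1123 79 561 3
 (b (a 3<|a 1 1)<|c) 0 1))<|
 b (a 191<|a (d 4021 31 1005 3 (b (a 3<|a 1 1)<|c) 0 1) (d 1123 31 561 3 (b (a 3<|a 1 1)<|c) 0 1))<|
 b (a 911<|a (d 29 41 4 4 (b (a 2<|a 2 2)<|c) 2 0) (d 351121 41 29260 4 (b (a 2<|a 2 2)<|c) 2 0))<|
 b (a 1123<|a (d 29 89 28 4 (b (a 2<|a 2 2)<|c) 2 0) (d 4021 89 1340 4 (b (a 2<|a 2 2)<|c) 2 0))<|c))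
  ch := (beta% delta% lq26d31188c4 fun a b c _ _ _ =>
 (b (a 4733<|a 5 (b (a 2 2)<|b (a 7 1)<|b (a 13 2)<|c))<|
 b (a 6379<|a 2 (b (a 2 1)<|b (a 3 1)<|b (a 1063 1)<|c))<|
 b (a 29327<|a 5 (b (a 2 1)<|b (a 11 1)<|b (a 31 1)<|b (a 43 1)<|c))<|
 b (a 51031<|a 3 (b (a 2 1)<|b (a 3 6)<|b (a 5 1)<|b (a 7 1)<|c))<|
 b (a 117307<|a 5 (b (a 2 1)<|b (a 3 2)<|b (a 7 3)<|b (a 19 1)<|c))<|
 b (a 10597<|a 5 (b (a 2 2)<|b (a 3 1)<|b (a 883 1)<|c))<|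
 b (a 169553<|a 3 (b (a 2 4)<|b (a 10597 1)<|c))<|
 b (a 13339<|a 2 (b (a 2 1)<|b (a 3 3)<|b (a 13 1)<|b (a 19 1)<|c))<|
 b (a 293459<|a 2 (b (a 2 1)<|b (a 11 1)<|b (a 13339 1)<|c))<|
 b (a 309079<|a 6 (b (a 2 1)<|b (a 3 2)<|b (a 7 1)<|b (a 11 1)<|b (a 223 1)<|c))<|
 b (a 351121<|a 29 (b (a 2 4)<|b (a 3 1)<|b (a 5 1)<|b (a 7 1)<|b (a 11 1)<|b (a 19 1)<|c))<|
 b (a 6568801<|a 13 (b (a 2 5)<|b (a 3 1)<|b (a 5 2)<|b (a 7 1)<|b (a 17 1)<|b (a 23 1)<|c))<|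
 b (a 48847<|a 3 (b (a 2 1)<|b (a 3 1)<|b (a 7 1)<|b (a 1163 1)<|c))<|
 b (a 10746341<|a 3 (b (a 2 2)<|b (a 5 1)<|b (a 11 1)<|b (a 48847 1)<|c))<|
 b (a 5987<|a 2 (b (a 2 1)<|b (a 41 1)<|b (a 73 1)<|c))<|
 b (a 228511817<|a 5 (b (a 2 3)<|b (a 13 1)<|b (a 367 1)<|b (a 5987 1)<|c))<|
 b (a 4058036683<|a 2 (b (a 2 1)<|b (a 3 1)<|b (a 7 1)<|b (a 19 1)<|b (a 47 1)<|b (a 257 1)<|b (a 421 1)<|c))<|
 b (a 29078814248401<|a 26 (b (a 2 4)<|b (a 3 1)<|b (a 5 2)<|b (a 7 1)<|b (a 17 1)<|b (a 1201 1)<|b (a 169553 1)<|c))<|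
 b (a 25819<|a 3 (b (a 2 1)<|b (a 3 1)<|b (a 13 1)<|b (a 331 1)<|c))<|
 b (a 670276923493361<|a 3 (b (a 2 4)<|b (a 5 1)<|b (a 19 2)<|b (a 29 1)<|b (a 139 1)<|b (a 223 1)<|b (a 25819 1)<|c))<|
 b (a 3421093417510114543<|a 3 (b (a 2 1)<|b (a 3 1)<|b (a 7 1)<|b (a 23 1)<|b (a 1123 1)<|b (a 293459 1)<|b (a 10746341 1)<|c))<|c))

set_option maxRecDepth 100000 in
theorem U24_7_ok : ldU U24_7 = true := by decide +kernel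

end Cfsg.Agent.H510.U
end

-- part: H510/U/U24_11
section
/-!
# Certificate for `PSU(24, 11)` (helper510; generated)
-/

set_option autoImplicit false

namespace Cfsg.Agent.H510.U

open Cfsg.Agent.H510.UCert

def U24_11 : UD where
  n := 24
  q := 11
  p := 11
  a := 1
  fac := (beta% delta% lq26d31188c4 fun a b c _ e _ =>
 (let f:=(let f:=(let f:=(e (a 7537711 1)<|e (a 59583967 1)<|e (a 212601841 1)<|e (a 1390636259 1)<|e (a 3421169496361 1)<|e (a 6493405343627 1)<|c);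
 (e (a 590077 2)<|e (a 1623931 3)<|e (a 1772893 1)<|e (a 1806113 1)<|e (a 2218331 1)<|e (a 6304673 1)<|
 f));
 (let f:=(e (a 45319 1)<|e (a 58367 2)<|e (a 71707 1)<|e (a 83791 1)<|e (a 241363
 1)<|e (a 264793 1)<|f);
 (e (a 7321
 3)<|e (a 10657 1)<|e (a 13421 4)<|e (a 15797 1)<|e (a 20113 1)<|f)));
 (let f:=(let f:=(e (a 199 2)<|e (a 229 1)<|e (a 911 1)<|e (a 1013 1)<|e (a 1117 2)<|e (a 3221 2)<|f);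
 (e (a 47 1)<|
 e (a 53 1)<|e (a 61 6)<|e (a 89 2)<|e (a 191 1)<|f));
 (let f:=(e (a 17 1)<|e (a 19 4)<|e (a 23 2)<|e (a 31 1)<|e (a 37 8)<|e (a 43 1)<|f);
 (b (a 2 70)<|b (a 3 34)<|b (a 5 14)<|b (a 7 4)<|b (a 13 2)<|f)))))
  tops := (beta% delta% lq26d31188c4 fun a b c _ _ _ =>
 (b (a 13 53)<|b (a 14 43)<|b (a 15 31)<|b (a 16 17)<|b (a 17 2218331)<|b (a 18 1772893)<|b (a 19 191)<|b (a 20 212601841)<|b (a 21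
 3421169496361)<|b (a 22 15797)<|b (a 23 1013)<|b (a 24 10657)<|c))
  A := (beta% delta% lq26d31188c4 fun a b c _ _ _ =>
 (b (a 3221 179)<|b (a 7321 523)<|b (a 10657 73)<|b (a 13421 2237)<|b (a 15797 359)<|b (a 20113 113)<|b (a 45319 83)<|b (a 58367 379)<|
 b (a 71707 197)<|b (a 83791 5237)<|b (a 241363 83)<|b (a 264793 59)<|b (a 590077 443)<|b (a 1623931 181)<|b (a 1772893 757)<|
 b (a 1806113 733)<|b (a 2218331 401)<|b (a 6304673 79)<|b (a 7537711 167)<|b (a 59583967 173)<|b (a 212601841 29)<|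
 b (a 1390636259 331)<|b (a 3421169496361 927961)<|b (a 6493405343627 1797731269)<|c))
  B := (beta% delta% lq26d31188c4 fun a b c d _ _ =>
 (b (a 2<|a (d 3421169496361 41 17278633820 20 (b (a 2<|a 2 2)<|b (a 5<|a 1 1)<|c) 2 0) (d 10657 73 333 9 (b (a 3<|a 2 2)<|c) 0
 2))<|
 b (a 3<|a (d 10657 97 1776 48 (b (a 2<|a 4 4)<|b (a 3<|a 1 1)<|c) 4 1) (d 3421169496361 127 855292374090 126 (b (a 2<|a 1 1)<|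
 b (a 3<|a 2 2)<|b (a 7<|a 1 2)<|c) 1 2))<|
 b (a 5<|a (d 2218331 71 1109165 5 (b (a 5<|a 1 1)<|c) 0 0) (d 10657 97 3552 96 (b (a 2<|a 5 5)<|b (a 3<|a 1 1)<|c) 5 1))<|
 b (a 7<|a (d 1772893 181 590964 12 (b (a 2<|a 2 2)<|b (a 3<|a 1 1)<|c) 2 1) (d 15797 661 15796 44 (b (a 2<|a 2 2)<|b (a 11<|a 1
 1)<|c) 2 0))<|
 b (a 13<|a (d 212601841 41 35433640 40 (b (a 2<|a 3 3)<|b (a 5<|a 1 1)<|c) 3 0) (d 3421169496361 73 3421169496360 72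
 (b (a 2<|a 3 3)<|b (a 3<|a 2 2)<|c) 3 2))<|
 b (a 17<|a (d 1013 29 1012 4 (b (a 2<|a 2 2)<|c) 2 0) (d 53 79 26 26 (b (a 2<|a 1 1)<|b (a 13<|a 1 1)<|c) 1 0))<|
 b (a 19<|a (d 31 127 15 3 (b (a 3<|a 1 1)<|c) 0 1) (d 212601841 127 109815 3 (b (a 3<|a 1 1)<|c) 0 1))<|
 b (a 23<|a (d 31 41 10 10 (b (a 2<|a 1 1)<|b (a 5<|a 1 1)<|c) 1 0) (d 1772893 73 1772892 36 (b (a 2<|a 2 2)<|b (a 3<|a 2 2)<|c) 2
 2))<|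
 b (a 31<|a (d 212601841 41 8858410 10 (b (a 2<|a 1 1)<|b (a 5<|a 1 1)<|c) 1 0) (d 2218331 103 443666 34 (b (a 2<|a 1 1)<|b (a 17<|
 a 1 1)<|c) 1 0))<|
 b (a 37<|a (d 2218331 41 1109165 5 (b (a 5<|a 1 1)<|c) 0 0) (d 15797 137 15796 4 (b (a 2<|a 2 2)<|c) 2 0))<|
 b (a 43<|a (d 15797 67 7898 22 (b (a 2<|a 1 1)<|b (a 11<|a 1 1)<|c) 1 0) (d 1013 67 506 22 (b (a 2<|a 1 1)<|b (a 11<|a 1 1)<|c) 1
 0))<|
 b (a 47<|a (d 3421169496361 73 3421169496360 72 (b (a 2<|a 3 3)<|b (a 3<|a 2 2)<|c) 3 2) (d 1772893 397 11979 99 (b (a 3<|a 2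
 2)<|b (a 11<|a 1 3)<|c) 0 2))<|
 b (a 53<|a (d 1013 67 506 22 (b (a 2<|a 1 1)<|b (a 11<|a 1 1)<|c) 1 0) (d 212601841 97 212601840 48 (b (a 2<|a 4 4)<|b (a 3<|a 1
 1)<|c) 4 1))<|
 b (a 61<|a (d 1772893 73 1772892 36 (b (a 2<|a 2 2)<|b (a 3<|a 2 2)<|c) 2 2) (d 3421169496361 73 155507704380 36 (b (a 2<|a 2
 2)<|b (a 3<|a 2 2)<|c) 2 2))<|
 b (a 89<|a (d 1013 67 253 11 (b (a 11<|a 1 1)<|c) 0 0) (d 53 79 13 13 (b (a 13<|a 1 1)<|c) 0 0))<|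
 b (a 191<|a (d 53 29 52 4 (b (a 2<|a 2 2)<|c) 2 0) (d 17 29 4 4 (b (a 2<|a 2 2)<|c) 2 0))<|
 b (a 199<|a (d 191 71 95 5 (b (a 5<|a 1 1)<|c) 0 0) (d 3421169496361 73 488738499480 72 (b (a 2<|a 3 3)<|b (a 3<|a 2 2)<|c) 3
 2))<|
 b (a 229<|a (d 17 73 8 8 (b (a 2<|a 3 3)<|c) 3 0) (d 53 79 26 26 (b (a 2<|a 1 1)<|b (a 13<|a 1 1)<|c) 1 0))<|
 b (a 911<|a (d 1013 29 44 4 (b (a 2<|a 2 2)<|c) 2 0) (d 15797 67 3949 11 (b (a 11<|a 1 1)<|c) 0 0))<|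
 b (a 1013<|a (d 15797 67 7898 22 (b (a 2<|a 1 1)<|b (a 11<|a 1 1)<|c) 1 0) (d 43 73 21 3 (b (a 3<|a 1 1)<|c) 0 1))<|
 b (a 1117<|a (d 191 41 95 5 (b (a 5<|a 1 1)<|c) 0 0) (d 53 131 26 26 (b (a 2<|a 1 1)<|b (a 13<|a 1 1)<|c) 1 0))<|c))
  ch := (beta% delta% lq26d31188c4 fun a b c _ _ g =>
 (let f:=(let f:=(let f:=(g (a 3421169496361<|a 13 (b (a 2 3)<|b (a 3 2)<|b (a 5 1)<|b (a 7 2)<|b (a 11 1)<|b (a 19 1)<|b (a 927961 1)<|c))<|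
 g (a 13037<|a 2 (b (a 2 2)<|b (a 3259 1)<|c))<|
 g (a 1568455397<|a 2 (b (a 2 2)<|b (a 19 1)<|b (a 1583 1)<|b (a 13037 1)<|c))<|
 g (a 141160985731<|a 10 (b (a 2 1)<|b (a 3 2)<|b (a 5 1)<|b (a 1568455397 1)<|c))<|
 g (a 6493405343627<|a 2 (b (a 2 1)<|b (a 23 1)<|b (a 141160985731 1)<|c))<|c);
 (g (a 212601841<|a 34 (b (a 2 4)<|b (a 3 1)<|b (a 5 1)<|b (a 11 2)<|b (a 7321 1)<|c))<|
 g (a 1390636259<|a 2 (b (a 2 1)<|b (a 11 1)<|b (a 19 2)<|b (a 23 2)<|b (a 331 1)<|c))<|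
 g (a 1896341<|a 2 (b (a 2 2)<|b (a 5 1)<|b (a 53 1)<|b (a 1789 1)<|c))<|
 g (a 1797731269<|a 2 (b (a 2 2)<|b (a 3 1)<|b (a 79 1)<|b (a 1896341 1)<|c))<|
 f));
 (let f:=(g (a 251257<|a 7 (b (a 2 3)<|b (a 3 1)<|b (a 19 2)<|b (a 29 1)<|c))<|
 g (a 7537711<|a 15 (b (a 2 1)<|b (a 3 1)<|b (a 5 1)<|b (a 251257 1)<|c))<|
 g (a 4547<|a 2 (b (a 2 1)<|b (a 2273 1)<|c))<|
 g (a 763897<|a 5 (b (a 2 3)<|b (a 3 1)<|b (a 7 1)<|b (a 4547 1)<|c))<|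
 g (a 59583967<|a 3 (b (a 2 1)<|b (a 3 1)<|b (a 13 1)<|b (a 763897 1)<|c))<|
 f);
 (g (a 13049<|a 3 (b (a 2 3)<|b (a 7 1)<|b (a 233 1)<|c))<|
 g (a 2218331<|a 2 (b (a 2 1)<|b (a 5 1)<|b (a 17 1)<|b (a 13049 1)<|c))<|
 g (a 17911<|a 3 (b (a 2 1)<|b (a 3 2)<|b (a 5 1)<|b (a 199 1)<|c))<|
 g (a 6304673<|a 3 (b (a 2 5)<|b (a 11 1)<|b (a 17911 1)<|c))<|
 f)));
 (let f:=(let f:=(g (a 590077<|a 6 (b (a 2 2)<|b (a 3 2)<|b (a 37 1)<|b (a 443 1)<|c))<|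
 g (a 927961<|a 7 (b (a 2 3)<|b (a 3 1)<|b (a 5 1)<|b (a 11 1)<|b (a 19 1)<|b (a 37 1)<|c))<|
 g (a 1623931<|a 17 (b (a 2 1)<|b (a 3 1)<|b (a 5 1)<|b (a 7 1)<|b (a 11 1)<|b (a 19 1)<|b (a 37 1)<|c))<|
 g (a 1772893<|a 17 (b (a 2 2)<|b (a 3 2)<|b (a 11 3)<|b (a 37 1)<|c))<|
 g (a 1806113<|a 3 (b (a 2 5)<|b (a 7 1)<|b (a 11 1)<|b (a 733 1)<|c))<|
 f);
 (g (a 71707<|a 2 (b (a 2 1)<|b (a 3 1)<|b (a 17 1)<|b (a 19 1)<|b (a 37 1)<|c))<|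
 g (a 83791<|a 3 (b (a 2 1)<|b (a 3 2)<|b (a 5 1)<|b (a 7 2)<|b (a 19 1)<|c))<|
 g (a 241363<|a 2 (b (a 2 1)<|b (a 3 2)<|b (a 11 1)<|b (a 23 1)<|b (a 53 1)<|c))<|
 g (a 264793<|a 5 (b (a 2 3)<|b (a 3 1)<|b (a 11 1)<|b (a 17 1)<|b (a 59 1)<|c))<|
 f));
 (let f:=(g (a 15797<|a 2 (b (a 2 2)<|b (a 11 1)<|b (a 359 1)<|c))<|
 g (a 20113<|a 10 (b (a 2 4)<|b (a 3 1)<|b (a 419 1)<|c))<|
 g (a 45319<|a 3 (b (a 2 1)<|b (a 3 1)<|b (a 7 1)<|b (a 13 1)<|b (a 83 1)<|c))<|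
 g (a 58367<|a 7 (b (a 2 1)<|b (a 7 1)<|b (a 11 1)<|b (a 379 1)<|c))<|
 f);
 (b (a 5237<|a 3 (b (a 2 2)<|b (a 7 1)<|b (a 11 1)<|b (a 17 1)<|c))<|
 b (a 7321<|a 7 (b (a 2 3)<|b (a 3 1)<|b (a 5 1)<|b (a 61 1)<|c))<|
 b (a 10657<|a 7 (b (a 2 5)<|b (a 3 2)<|b (a 37 1)<|c))<|
 b (a 13421<|a 10 (b (a 2 2)<|b (a 5 1)<|b (a 11 1)<|b (a 61 1)<|c))<|
 f)))))

set_option maxRecDepth 100000 in
theorem U24_11_ok : ldU U24_11 = true := by decide +kernel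

end Cfsg.Agent.H510.U
end

-- part: H510/U/U24_23
section
/-!
# Certificate for `PSU(24, 23)` (helper510; generated)
-/

set_option autoImplicit false

namespace Cfsg.Agent.H510.U

open Cfsg.Agent.H510.UCert

def U24_23 : UD where
  n := 24
  q := 23
  p := 23
  a := 1
  fac := (beta% delta% lq26d31188c4 fun a b c _ e _ =>
 (let f:=(let f:=(let f:=(e (a 1522029233 1)<|e (a 1970307281599 1)<|e (a 3937230404603 1)<|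
 e (a 39700406579747 2)<|e (a 209209825938101 1)<|e (a 21001515080686141 1)<|e (a 22865554874031409 1)<|c);
 (e (a 3195383 1)<|e (a 5336717 1)<|e (a 7792003
 1)<|e (a 52626071 1)<|e (a 83575993 1)<|e (a 541119751 1)<|f));
 (let f:=(e (a 117539 1)<|e (a 139921
 3)<|e (a 272341 1)<|e (a 292561 2)<|e (a 493811 1)<|e (a 623009 1)<|e (a 1641281 1)<|f);
 (e (a 941 1)<|e (a 1013 1)<|e (a 1117 2)<|e (a 2969 3)<|e (a 3697 1)<|e (a 7549 2)<|f)));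
 (let f:=(let f:=(e (a 151 1)<|e (a 163 2)<|e (a 211 4)<|e (a 239 1)<|e (a 271 2)<|
 e (a 673 3)<|e (a 937 1)<|f);
 (e (a 47 1)<|e (a 53 6)<|e (a 61 1)<|e (a 71 3)<|e (a 79 4)<|e (a 139 1)<|f));
 (let f:=(e (a 17 1)<|e (a 19 1)<|e (a 29 1)<|e (a 31 4)<|e (a 37 2)<|e (a 41 4)<|
 f);
 (b (a 2 94)<|b (a 3 34)<|b (a 5 7)<|b (a 7 4)<|b (a 11 13)<|b (a 13 16)<|f)))))
  tops := (beta% delta% lq26d31188c4 fun a b c _ _ _ =>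
 (b (a 13 21001515080686141)<|b (a 14 29)<|b (a 15 151)<|b (a 16 17)<|b (a 17 239)<|b (a 18 19)<|b (a 19 493811)<|b (a 20 61)<|b (a 21
 22865554874031409)<|b (a 22 3937230404603)<|b (a 23 1013)<|b (a 24 937)<|c))
  A := (beta% delta% lq26d31188c4 fun a b c _ _ _ =>
 (b (a 673 337)<|b (a 937 67)<|b (a 941 157)<|b (a 1117 43)<|b (a 3697 43)<|b (a 117539 653)<|b (a 139921 43)<|b (a 272341 89)<|
 b (a 292561 7699)<|b (a 493811 43)<|b (a 623009 1093)<|b (a 1641281 223)<|b (a 3195383 631)<|b (a 5336717 17327)<|b (a 7792003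
 227)<|b (a 52626071 109)<|b (a 83575993 4523)<|b (a 541119751 547)<|b (a 1522029233 241)<|b (a 1970307281599 131)<|
 b (a 3937230404603 538756213)<|b (a 39700406579747 1151)<|b (a 209209825938101 137)<|b (a 21001515080686141 6758183)<|
 b (a 22865554874031409 1723)<|c))
  B := (beta% delta% lq26d31188c4 fun a b c d _ _ =>
 (b (a 2<|a (d 937 73 117 9 (b (a 3<|a 2 2)<|c) 0 2) (d 22865554874031409 109 635154302056428 36 (b (a 2<|a 2 2)<|b (a 3<|a 2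
 2)<|c) 2 2))<|
 b (a 3<|a (d 21001515080686141 43 56760851569422 42 (b (a 2<|a 1 1)<|b (a 3<|a 1 1)<|b (a 7<|a 1 1)<|c) 1 1) (d 17 193 16 16
 (b (a 2<|a 4 4)<|c) 4 0))<|
 b (a 5<|a (d 3937230404603 67 3937230404602 22 (b (a 2<|a 1 1)<|b (a 11<|a 1 1)<|c) 1 0) (d 937 73 936 72 (b (a 2<|a 3 3)<|
 b (a 3<|a 2 2)<|c) 3 2))<|
 b (a 7<|a (d 151 43 150 6 (b (a 2<|a 1 1)<|b (a 3<|a 1 1)<|c) 1 1) (d 239 113 238 14 (b (a 2<|a 1 1)<|b (a 7<|a 1 1)<|c) 1 0))<|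
 b (a 11<|a (d 239 43 119 7 (b (a 7<|a 1 1)<|c) 0 0) (d 21001515080686141 67 2100151508068614 66 (b (a 2<|a 1 1)<|b (a 3<|a 1
 1)<|b (a 11<|a 1 1)<|c) 1 1))<|
 b (a 13<|a (d 151 157 150 6 (b (a 2<|a 1 1)<|b (a 3<|a 1 1)<|c) 1 1) (d 1013 277 506 46 (b (a 2<|a 1 1)<|b (a 23<|a 1 1)<|c) 1 0))<|
 b (a 17<|a (d 1013 89 1012 44 (b (a 2<|a 2 2)<|b (a 11<|a 1 1)<|c) 2 0) (d 493811 101 493810 10 (b (a 2<|a 1 1)<|b (a 5<|a 1 1)<|c)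
 1 0))<|
 b (a 19<|a (d 937 73 468 36 (b (a 2<|a 2 2)<|b (a 3<|a 2 2)<|c) 2 2) (d 21001515080686141 181 1400101005379076 4 (b (a 2<|a 2
 2)<|c) 2 0))<|
 b (a 29<|a (d 493811 227 246905 113 (b (a 113<|a 1 1)<|c) 0 0) (d 61 313 12 12 (b (a 2<|a 2 2)<|b (a 3<|a 1 1)<|c) 2 1))<|
 b (a 31<|a (d 21001515080686141 277 265841963046660 276 (b (a 2<|a 2 2)<|b (a 3<|a 1 1)<|b (a 23<|a 1 1)<|c) 2 1) (d 151 331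
 75 3 (b (a 3<|a 1 1)<|c) 0 1))<|
 b (a 37<|a (d 151 67 75 3 (b (a 3<|a 1 1)<|c) 0 1) (d 239 103 238 34 (b (a 2<|a 1 1)<|b (a 17<|a 1 1)<|c) 1 0))<|
 b (a 41<|a (d 19 73 18 18 (b (a 2<|a 1 1)<|b (a 3<|a 2 2)<|c) 1 2) (d 21001515080686141 109 21001515080686140 12 (b (a 2<|a 2
 2)<|b (a 3<|a 1 1)<|c) 2 1))<|
 b (a 47<|a (d 937 73 936 72 (b (a 2<|a 3 3)<|b (a 3<|a 2 2)<|c) 3 2) (d 1013 89 1012 44 (b (a 2<|a 2 2)<|b (a 11<|a 1 1)<|c) 2 0))<|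
 b (a 53<|a (d 3937230404603 67 3937230404602 22 (b (a 2<|a 1 1)<|b (a 11<|a 1 1)<|c) 1 0) (d 1013 67 506 22 (b (a 2<|a 1 1)<|
 b (a 11<|a 1 1)<|c) 1 0))<|
 b (a 61<|a (d 937 97 39 3 (b (a 3<|a 1 1)<|c) 0 1) (d 239 103 119 17 (b (a 17<|a 1 1)<|c) 0 0))<|
 b (a 71<|a (d 19 73 18 18 (b (a 2<|a 1 1)<|b (a 3<|a 2 2)<|c) 1 2) (d 17 113 16 16 (b (a 2<|a 4 4)<|c) 4 0))<|
 b (a 79<|a (d 22865554874031409 73 8039927874132 36 (b (a 2<|a 2 2)<|b (a 3<|a 2 2)<|c) 2 2) (d 17 97 16 16 (b (a 2<|a 4 4)<|c)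
 4 0))<|
 b (a 139<|a (d 3937230404603 67 3937230404602 22 (b (a 2<|a 1 1)<|b (a 11<|a 1 1)<|c) 1 0) (d 493811 181 493810 10 (b (a 2<|
 a 1 1)<|b (a 5<|a 1 1)<|c) 1 0))<|
 b (a 151<|a (d 29 43 14 14 (b (a 2<|a 1 1)<|b (a 7<|a 1 1)<|c) 1 0) (d 239 43 238 14 (b (a 2<|a 1 1)<|b (a 7<|a 1 1)<|c) 1 0))<|
 b (a 163<|a (d 19 67 3 3 (b (a 3<|a 1 1)<|c) 0 1) (d 937 73 24 24 (b (a 2<|a 3 3)<|b (a 3<|a 1 1)<|c) 3 1))<|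
 b (a 211<|a (d 29 113 28 4 (b (a 2<|a 2 2)<|c) 2 0) (d 61 113 20 4 (b (a 2<|a 2 2)<|c) 2 0))<|
 b (a 239<|a (d 493811 191 246905 95 (b (a 5<|a 1 1)<|b (a 19<|a 1 1)<|c) 0 0) (d 22865554874031409 193 846872402741904
 48 (b (a 2<|a 4 4)<|b (a 3<|a 1 1)<|c) 4 1))<|
 b (a 271<|a (d 3937230404603 89 1968615202301 11 (b (a 11<|a 1 1)<|c) 0 0) (d 1013 89 253 11 (b (a 11<|a 1 1)<|c) 0 0))<|
 b (a 1013<|a (d 21001515080686141 89 538500386684260 4 (b (a 2<|a 2 2)<|c) 2 0) (d 29 89 28 4 (b (a 2<|a 2 2)<|c) 2 0))<|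
 b (a 2969<|a (d 21001515080686141 157 21740698841290 26 (b (a 2<|a 1 1)<|b (a 13<|a 1 2)<|c) 1 0) (d 19 181 9 9 (b (a 3<|a 2
 2)<|c) 0 2))<|
 b (a 7549<|a (d 3937230404603 67 3937230404602 22 (b (a 2<|a 1 1)<|b (a 11<|a 1 1)<|c) 1 0) (d 239 137 238 34 (b (a 2<|a 1
 1)<|b (a 17<|a 1 1)<|c) 1 0))<|c))
  ch := (beta% delta% lq26d31188c4 fun a b c _ _ g =>
 (let f:=(let f:=(let f:=(g (a 3472673<|a 10 (b (a 2 5)<|b (a 7 1)<|b (a 37 1)<|b (a 419 1)<|c))<|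
 g (a 6945347<|a 2 (b (a 2 1)<|b (a 3472673 1)<|c))<|
 g (a 209209825938101<|a 2 (b (a 2 2)<|b (a 5 2)<|b (a 13 1)<|b (a 17 1)<|b (a 29 1)<|b (a 47 1)<|b (a 6945347 1)<|c))<|
 g (a 21001515080686141<|a 2 (b (a 2 2)<|b (a 3 1)<|b (a 5 1)<|b (a 7 1)<|b (a 11 1)<|b (a 13 2)<|b (a 23 1)<|b (a 37 1)<|b (a 53 1)<|b (a 79
 1)<|b (a 7549 1)<|c))<|
 g (a 73189<|a 2 (b (a 2 2)<|b (a 3 2)<|b (a 19 1)<|b (a 107 1)<|c))<|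
 g (a 22865554874031409<|a 13 (b (a 2 4)<|b (a 3 4)<|b (a 7 1)<|b (a 11 1)<|b (a 23 1)<|b (a 79 1)<|b (a 1723 1)<|b (a 73189 1)<|c))<|c);
 (g (a 1970307281599<|a 3 (b (a 2 1)<|b (a 3 1)<|b (a 19 1)<|b (a 48179 1)<|b (a 358733 1)<|c))<|
 g (a 30187<|a 5 (b (a 2 1)<|b (a 3 3)<|b (a 13 1)<|b (a 43 1)<|c))<|
 g (a 619256119<|a 3 (b (a 2 1)<|b (a 3 1)<|b (a 13 1)<|b (a 263 1)<|b (a 30187 1)<|c))<|
 g (a 3937230404603<|a 5 (b (a 2 1)<|b (a 11 1)<|b (a 17 2)<|b (a 619256119 1)<|c))<|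
 g (a 39700406579747<|a 5 (b (a 2 1)<|b (a 11 1)<|b (a 23 1)<|b (a 31 1)<|b (a 41 1)<|b (a 211 1)<|b (a 292561 1)<|c))<|
 f));
 (let f:=(g (a 541119751<|a 3 (b (a 2 1)<|b (a 3 1)<|b (a 5 3)<|b (a 547 1)<|b (a 1319 1)<|c))<|
 g (a 9871<|a 3 (b (a 2 1)<|b (a 3 1)<|b (a 5 1)<|b (a 7 1)<|b (a 47 1)<|c))<|
 g (a 1522029233<|a 3 (b (a 2 4)<|b (a 23 1)<|b (a 419 1)<|b (a 9871 1)<|c))<|
 g (a 48179<|a 6 (b (a 2 1)<|b (a 13 1)<|b (a 17 1)<|b (a 109 1)<|c))<|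
 g (a 358733<|a 2 (b (a 2 2)<|b (a 11 1)<|b (a 31 1)<|b (a 263 1)<|c))<|
 f);
 (g (a 3482333<|a 2 (b (a 2 2)<|b (a 7 2)<|b (a 109 1)<|b (a 163 1)<|c))<|
 g (a 83575993<|a 5 (b (a 2 3)<|b (a 3 1)<|b (a 3482333 1)<|c))<|
 g (a 10321<|a 7 (b (a 2 4)<|b (a 3 1)<|b (a 5 1)<|b (a 43 1)<|c))<|
 g (a 44896351<|a 3 (b (a 2 1)<|b (a 3 1)<|b (a 5 2)<|b (a 29 1)<|b (a 10321 1)<|c))<|
 g (a 538756213<|a 2 (b (a 2 2)<|b (a 3 1)<|b (a 44896351 1)<|c))<|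
 f)));
 (let f:=(let f:=(g (a 5336717<|a 3 (b (a 2 2)<|b (a 7 1)<|b (a 11 1)<|b (a 17327 1)<|c))<|
 g (a 146917<|a 2 (b (a 2 2)<|b (a 3 2)<|b (a 7 1)<|b (a 11 1)<|b (a 53 1)<|c))<|
 g (a 6758183<|a 5 (b (a 2 1)<|b (a 23 1)<|b (a 146917 1)<|c))<|
 g (a 7792003<|a 2 (b (a 2 1)<|b (a 3 2)<|b (a 227 1)<|b (a 1907 1)<|c))<|
 g (a 32687<|a 5 (b (a 2 1)<|b (a 59 1)<|b (a 277 1)<|c))<|
 g (a 52626071<|a 11 (b (a 2 1)<|b (a 5 1)<|b (a 7 1)<|b (a 23 1)<|b (a 32687 1)<|c))<|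
 f);
 (g (a 19469<|a 2 (b (a 2 2)<|b (a 31 1)<|b (a 157 1)<|c))<|
 g (a 623009<|a 3 (b (a 2 5)<|b (a 19469 1)<|c))<|
 g (a 1641281<|a 6 (b (a 2 6)<|b (a 5 1)<|b (a 23 1)<|b (a 223 1)<|c))<|
 g (a 84089<|a 3 (b (a 2 3)<|b (a 23 1)<|b (a 457 1)<|c))<|
 g (a 3195383<|a 5 (b (a 2 1)<|b (a 19 1)<|b (a 84089 1)<|c))<|
 f));
 (let f:=(g (a 117539<|a 2 (b (a 2 1)<|b (a 17 1)<|b (a 3457 1)<|c))<|
 g (a 139921<|a 7 (b (a 2 4)<|b (a 3 1)<|b (a 5 1)<|b (a 11 1)<|b (a 53 1)<|c))<|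
 g (a 272341<|a 7 (b (a 2 2)<|b (a 3 2)<|b (a 5 1)<|b (a 17 1)<|b (a 89 1)<|c))<|
 g (a 292561<|a 7 (b (a 2 4)<|b (a 3 1)<|b (a 5 1)<|b (a 23 1)<|b (a 53 1)<|c))<|
 g (a 493811<|a 2 (b (a 2 1)<|b (a 5 1)<|b (a 19 1)<|b (a 23 1)<|b (a 113 1)<|c))<|
 f);
 (b (a 4523<|a 5 (b (a 2 1)<|b (a 7 1)<|b (a 17 1)<|b (a 19 1)<|c))<|
 b (a 7549<|a 2 (b (a 2 2)<|b (a 3 1)<|b (a 17 1)<|b (a 37 1)<|c))<|
 b (a 7699<|a 3 (b (a 2 1)<|b (a 3 1)<|b (a 1283 1)<|c))<|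
 b (a 8663<|a 5 (b (a 2 1)<|b (a 61 1)<|b (a 71 1)<|c))<|
 b (a 17327<|a 5 (b (a 2 1)<|b (a 8663 1)<|c))<|
 f)))))

set_option maxRecDepth 100000 in
theorem U24_23_ok : ldU U24_23 = true := by decide +kernel

end Cfsg.Agent.H510.U
end
end

-- part: H510/UPairs
section
set_option linter.all false
open scoped Cfsg.Agent.FastGrp
private noncomputable def lq26e953deed {T : Sort _} (f :
    type_of% (@_root_.Prod.mk.{0, 0}) →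
    type_of% (@_root_.List.cons.{0}) →
    type_of% (@_root_.List.nil.{0}) →
    type_of% (@_root_.Cfsg.Agent.H414.RelB.RC.mk) →
    type_of% (@_root_.List.cons.{0} (Prod Nat Nat)) → T) : T :=
  f (@_root_.Prod.mk.{0, 0}) (@_root_.List.cons.{0}) (@_root_.List.nil.{0}) (@_root_.Cfsg.Agent.H414.RelB.RC.mk) (@_root_.List.cons.{0} (Prod Nat Nat))

-- part: H510/U/U8_3
section
/-!
# Certificate for `PSU(8, 3)` (helper510; generated)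
-/

set_option autoImplicit false

namespace Cfsg.Agent.H510.U

open Cfsg.Agent.H510.UCert

def U8_3 : UD where
  n := 8
  q := 3
  p := 3
  a := 1
  fac := (beta% delta% lq26e953deed fun a b c _ _ =>
 (b (a 2 23)<|b (a 5 2)<|b (a 7 2)<|b (a 13 1)<|b (a 41 1)<|b (a 61 1)<|b (a 547 1)<|c))
  tops := [
    (5, 61), (6, 13), (7, 547), (8, 41)]
  A := [
    (61, 31), (547, 137)]
  B := (beta% delta% lq26e953deed fun a b c d _ =>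
 (b (a 2<|a (d 61 1321 60 60 (b (a 2<|a 2 2)<|b (a 3<|a 1 1)<|b (a 5<|a 1 1)<|c) 2 1) (d 547 5419 546 42 (b (a 2<|a 1 1)<|b (a 3<|a 1 1)<|
 b (a 7<|a 1 1)<|c) 1 1))<|
 b (a 5<|a (d 547 43 546 42 (b (a 2<|a 1 1)<|b (a 3<|a 1 1)<|b (a 7<|a 1 1)<|c) 1 1) (d 61 7621 30 30 (b (a 2<|a 1 1)<|b (a 3<|a 1 1)<|
 b (a 5<|a 1 1)<|c) 1 1))<|
 b (a 7<|a (d 547 43 546 6 (b (a 2<|a 1 1)<|b (a 3<|a 1 1)<|c) 1 1) (d 61 181 60 12 (b (a 2<|a 2 2)<|b (a 3<|a 1 1)<|c) 2 1))<|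
 b (a 13<|a (d 547 43 21 21 (b (a 3<|a 1 1)<|b (a 7<|a 1 1)<|c) 0 1) (d 41 14281 40 8 (b (a 2<|a 3 3)<|c) 3 0))<|
 b (a 41<|a (d 61 11 10 10 (b (a 2<|a 1 1)<|b (a 5<|a 1 1)<|c) 1 0) (d 13 109 12 12 (b (a 2<|a 2 2)<|b (a 3<|a 1 1)<|c) 2 1))<|c))
  ch := (beta% delta% lq26e953deed fun a b c _ _ =>
 (b (a 5419<|a 3 (b (a 2 1)<|b (a 3 2)<|b (a 7 1)<|b (a 43 1)<|c))<|
 b (a 7621<|a 2 (b (a 2 2)<|b (a 3 1)<|b (a 5 1)<|b (a 127 1)<|c))<|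
 b (a 14281<|a 19 (b (a 2 3)<|b (a 3 1)<|b (a 5 1)<|b (a 7 1)<|b (a 17 1)<|c))<|c))

set_option maxRecDepth 100000 in
theorem U8_3_ok : ldU U8_3 = true := by decide +kernel

end Cfsg.Agent.H510.U
end

-- part: H510/U/U8_7
section
/-!
# Certificate for `PSU(8, 7)` (helper510; generated)
-/

set_option autoImplicit false

namespace Cfsg.Agent.H510.U

open Cfsg.Agent.H510.UCert

def U8_7 : UD where
  n := 8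
  q := 7
  p := 7
  a := 1
  fac := (beta% delta% lq26e953deed fun a b c _ _ =>
 (b (a 2 31)<|b (a 3 5)<|b (a 5 4)<|b (a 11 1)<|b (a 19 1)<|b (a 43 2)<|b (a 113 1)<|b (a 191 1)<|b (a 911 1)<|b (a 1201 1)<|c))
  tops := [
    (5, 191), (6, 19), (7, 911), (8, 1201)]
  A := [
    (911, 13), (1201, 601)]
  B := (beta% delta% lq26e953deed fun a b c d _ =>
 (b (a 2<|a (d 1201 13 300 12 (b (a 2<|a 2 2)<|b (a 3<|a 1 1)<|c) 2 1) (d 191 31 95 5 (b (a 5<|a 1 1)<|c) 0 0))<|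
 b (a 3<|a (d 19 37 18 18 (b (a 2<|a 1 1)<|b (a 3<|a 2 2)<|c) 1 2) (d 1201 73 300 12 (b (a 2<|a 2 2)<|b (a 3<|a 1 1)<|c) 2 1))<|
 b (a 5<|a (d 911 71 455 5 (b (a 5<|a 1 1)<|c) 0 0) (d 19 829 9 9 (b (a 3<|a 2 2)<|c) 0 2))<|
 b (a 11<|a (d 911 53 26 26 (b (a 2<|a 1 1)<|b (a 13<|a 1 1)<|c) 1 0) (d 1201 97 1200 48 (b (a 2<|a 4 4)<|b (a 3<|a 1 1)<|c) 4 1))<|
 b (a 19<|a (d 1201 17 200 8 (b (a 2<|a 3 3)<|c) 3 0) (d 911 151 5 5 (b (a 5<|a 1 1)<|c) 0 0))<|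
 b (a 43<|a (d 911 71 455 35 (b (a 5<|a 1 1)<|b (a 7<|a 1 1)<|c) 0 0) (d 1201 73 600 24 (b (a 2<|a 3 3)<|b (a 3<|a 1 1)<|c) 3 1))<|
 b (a 113<|a (d 191 41 190 10 (b (a 2<|a 1 1)<|b (a 5<|a 1 1)<|c) 1 0) (d 911 131 91 13 (b (a 13<|a 1 1)<|c) 0 0))<|
 b (a 191<|a (d 1201 97 1200 48 (b (a 2<|a 4 4)<|b (a 3<|a 1 1)<|c) 4 1) (d 911 281 910 10 (b (a 2<|a 1 1)<|b (a 5<|a 1 1)<|c) 1 0))<|c))
  ch := []

set_option maxRecDepth 100000 in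
theorem U8_7_ok : ldU U8_7 = true := by decide +kernel

end Cfsg.Agent.H510.U
end

-- part: H510/U/U12_5
section
/-!
# Certificate for `PSU(12, 5)` (helper510; generated)
-/

set_option autoImplicit false

namespace Cfsg.Agent.H510.U

open Cfsg.Agent.H510.UCert

def U12_5 : UD where
  n := 12
  q := 5
  p := 5
  a := 1
  fac := (beta% delta% lq26e953deed fun a b c _ _ =>
 (b (a 2 28)<|b (a 3 17)<|b (a 7 4)<|b (a 11 1)<|b (a 13 3)<|b (a 23 1)<|b (a 29 1)<|b (a 31 2)<|b (a 67 1)<|b (a 71 1)<|b (a 313 1)<|b (a 449 1)<|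
 b (a 521 2)<|b (a 601 1)<|b (a 5167 1)<|b (a 5281 1)<|c))
  tops := [
    (7, 449), (8, 313), (9, 5167), (10, 71), (11, 67), (12, 601)]
  A := [
    (67, 17), (313, 157), (601, 43), (5167, 17), (5281, 19)]
  B := (beta% delta% lq26e953deed fun a b c d _ =>
 (b (a 2<|a (d 71 127 35 7 (b (a 7<|a 1 1)<|c) 0 0) (d 5167 337 861 21 (b (a 3<|a 1 1)<|b (a 7<|a 1 1)<|c) 0 1))<|
 b (a 3<|a (d 5167 19 738 18 (b (a 2<|a 1 1)<|b (a 3<|a 2 2)<|c) 1 2) (d 67 661 22 22 (b (a 2<|a 1 1)<|b (a 11<|a 1 1)<|c) 1 0))<|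
 b (a 7<|a (d 449 17 112 16 (b (a 2<|a 4 4)<|c) 4 0) (d 5167 43 1722 6 (b (a 2<|a 1 1)<|b (a 3<|a 1 1)<|c) 1 1))<|
 b (a 11<|a (d 313 37 78 6 (b (a 2<|a 1 1)<|b (a 3<|a 1 1)<|c) 1 1) (d 67 37 66 6 (b (a 2<|a 1 1)<|b (a 3<|a 1 1)<|c) 1 1))<|
 b (a 13<|a (d 601 17 20 4 (b (a 2<|a 2 2)<|c) 2 0) (d 5167 19 5166 18 (b (a 2<|a 1 1)<|b (a 3<|a 2 2)<|c) 1 2))<|
 b (a 23<|a (d 449 17 112 16 (b (a 2<|a 4 4)<|c) 4 0) (d 5167 19 2583 9 (b (a 3<|a 2 2)<|c) 0 2))<|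
 b (a 29<|a (d 313 37 12 12 (b (a 2<|a 2 2)<|b (a 3<|a 1 1)<|c) 2 1) (d 5167 83 287 41 (b (a 41<|a 1 1)<|c) 0 0))<|
 b (a 31<|a (d 67 19 66 6 (b (a 2<|a 1 1)<|b (a 3<|a 1 1)<|c) 1 1) (d 71 41 70 10 (b (a 2<|a 1 1)<|b (a 5<|a 1 1)<|c) 1 0))<|
 b (a 71<|a (d 5167 37 369 9 (b (a 3<|a 2 2)<|c) 0 2) (d 449 193 64 64 (b (a 2<|a 6 6)<|c) 6 0))<|
 b (a 449<|a (d 67 97 33 3 (b (a 3<|a 1 1)<|c) 0 1) (d 5167 127 2583 9 (b (a 3<|a 2 2)<|c) 0 2))<|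
 b (a 521<|a (d 449 17 112 16 (b (a 2<|a 4 4)<|c) 4 0) (d 5167 19 1722 6 (b (a 2<|a 1 1)<|b (a 3<|a 1 1)<|c) 1 1))<|c))
  ch := (beta% delta% lq26e953deed fun a b c _ _ =>
 (b (a 5167<|a 6 (b (a 2 1)<|b (a 3 2)<|b (a 7 1)<|b (a 41 1)<|c))<|
 b (a 5281<|a 7 (b (a 2 5)<|b (a 3 1)<|b (a 5 1)<|b (a 11 1)<|c))<|c))

set_option maxRecDepth 100000 in
theorem U12_5_ok : ldU U12_5 = true := by decide +kernel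

end Cfsg.Agent.H510.U
end

-- part: H510/U/U12_11
section
/-!
# Certificate for `PSU(12, 11)` (helper510; generated)
-/

set_option autoImplicit false

namespace Cfsg.Agent.H510.U

open Cfsg.Agent.H510.UCert

def U12_11 : UD where
  n := 12
  q := 11
  p := 11
  a := 1
  fac := (beta% delta% lq26e953deed fun a b c _ _ =>
 (b (a 2 34)<|b (a 3 17)<|b (a 5 7)<|b (a 7 2)<|b (a 13 1)<|b (a 19 2)<|b (a 23 1)<|b (a 37 4)<|b (a 61 3)<|b (a 89 1)<|b (a 199 1)<|b (a 1117 1)<|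
 b (a 3221 1)<|b (a 7321 1)<|b (a 13421 2)<|b (a 58367 1)<|b (a 590077 1)<|b (a 1623931 1)<|c))
  tops := [
    (7, 1623931), (8, 7321), (9, 590077), (10, 3221), (11, 23)]
  A := (beta% delta% lq26e953deed fun a b c _ _ =>
 (b (a 61 31)<|b (a 1117 31)<|b (a 3221 179)<|b (a 7321 523)<|b (a 13421 2237)<|b (a 58367 379)<|b (a 590077 443)<|b (a 1623931 181)<|c))
  B := (beta% delta% lq26e953deed fun a b c d _ =>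
 (b (a 2<|a (d 3221 29 644 28 (b (a 2<|a 2 2)<|b (a 7<|a 1 1)<|c) 2 0) (d 7321 41 1220 20 (b (a 2<|a 2 2)<|b (a 5<|a 1 1)<|c) 2 0))<|
 b (a 3<|a (d 3221 29 644 28 (b (a 2<|a 2 2)<|b (a 7<|a 1 1)<|c) 2 0) (d 7321 31 1830 30 (b (a 2<|a 1 1)<|b (a 3<|a 1 1)<|b (a 5<|a 1
 1)<|c) 1 1))<|
 b (a 5<|a (d 1623931 31 777 3 (b (a 3<|a 1 1)<|c) 0 1) (d 23 67 22 22 (b (a 2<|a 1 1)<|b (a 11<|a 1 1)<|c) 1 0))<|
 b (a 7<|a (d 7321 73 7320 24 (b (a 2<|a 3 3)<|b (a 3<|a 1 1)<|c) 3 1) (d 590077 181 196692 12 (b (a 2<|a 2 2)<|b (a 3<|a 1 1)<|c) 2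
 1))<|
 b (a 13<|a (d 1623931 43 811965 21 (b (a 3<|a 1 1)<|b (a 7<|a 1 1)<|c) 0 1) (d 23 419 11 11 (b (a 11<|a 1 1)<|c) 0 0))<|
 b (a 19<|a (d 7321 181 1220 4 (b (a 2<|a 2 2)<|c) 2 0) (d 590077 181 65564 4 (b (a 2<|a 2 2)<|c) 2 0))<|
 b (a 23<|a (d 3221 29 805 7 (b (a 7<|a 1 1)<|c) 0 0) (d 1623931 151 1623930 30 (b (a 2<|a 1 1)<|b (a 3<|a 1 1)<|b (a 5<|a 1 1)<|c)
 1 1))<|
 b (a 37<|a (d 590077 31 98346 6 (b (a 2<|a 1 1)<|b (a 3<|a 1 1)<|c) 1 1) (d 1623931 67 811965 3 (b (a 3<|a 1 1)<|c) 0 1))<|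
 b (a 89<|a (d 1623931 31 541310 10 (b (a 2<|a 1 1)<|b (a 5<|a 1 1)<|c) 1 0) (d 3221 131 35 5 (b (a 5<|a 1 1)<|c) 0 0))<|
 b (a 199<|a (d 1623931 43 541310 14 (b (a 2<|a 1 1)<|b (a 7<|a 1 1)<|c) 1 0) (d 7321 71 305 5 (b (a 5<|a 1 1)<|c) 0 0))<|c))
  ch := (beta% delta% lq26e953deed fun a b c _ _ =>
 (b (a 7321<|a 7 (b (a 2 3)<|b (a 3 1)<|b (a 5 1)<|b (a 61 1)<|c))<|
 b (a 13421<|a 10 (b (a 2 2)<|b (a 5 1)<|b (a 11 1)<|b (a 61 1)<|c))<|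
 b (a 58367<|a 7 (b (a 2 1)<|b (a 7 1)<|b (a 11 1)<|b (a 379 1)<|c))<|
 b (a 590077<|a 6 (b (a 2 2)<|b (a 3 2)<|b (a 37 1)<|b (a 443 1)<|c))<|
 b (a 1623931<|a 17 (b (a 2 1)<|b (a 3 1)<|b (a 5 1)<|b (a 7 1)<|b (a 11 1)<|b (a 19 1)<|b (a 37 1)<|c))<|c))

set_option maxRecDepth 100000 in
theorem U12_11_ok : ldU U12_11 = true := by decide +kernel

end Cfsg.Agent.H510.U
end

-- part: H510/U/U14_13
section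
/-!
# Certificate for `PSU(14, 13)` (helper510; generated)
-/

set_option autoImplicit false

namespace Cfsg.Agent.H510.U

open Cfsg.Agent.H510.UCert

def U14_13 : UD where
  n := 14
  q := 13
  p := 13
  a := 1
  fac := (beta% delta% lq26e953deed fun a b c _ _ =>
 (b (a 2 32)<|b (a 3 9)<|b (a 5 3)<|b (a 7 16)<|b (a 11 2)<|b (a 17 3)<|b (a 19 1)<|b (a 29 2)<|b (a 61 2)<|b (a 157 4)<|b (a 271 1)<|b (a 937 1)<|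
 b (a 2411 2)<|b (a 13417 1)<|b (a 14281 1)<|b (a 20333 1)<|b (a 22079 2)<|b (a 28393 1)<|b (a 30941 1)<|b (a 79301 1)<|b (a 5229043 1)<|
 b (a 128011456717 1)<|c))
  tops := [
    (8, 14281), (9, 937), (10, 30941), (11, 128011456717), (13, 20333), (14, 5229043)]
  A := (beta% delta% lq26e953deed fun a b c _ _ =>
 (b (a 61 31)<|b (a 157 79)<|b (a 937 67)<|b (a 2411 67)<|b (a 13417 43)<|b (a 14281 37)<|b (a 20333 23)<|b (a 22079 23)<|b (a 28393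
 14197)<|b (a 30941 191)<|b (a 79301 13217)<|b (a 5229043 1307261)<|b (a 128011456717 64005728359)<|c))
  B := (beta% delta% lq26e953deed fun a b c d _ =>
 (b (a 2<|a (d 14281 41 2380 20 (b (a 2<|a 2 2)<|b (a 5<|a 1 1)<|c) 2 0) (d 30941 41 30940 20 (b (a 2<|a 2 2)<|b (a 5<|a 1 1)<|c) 2
 0))<|
 b (a 3<|a (d 14281 31 3570 30 (b (a 2<|a 1 1)<|b (a 3<|a 1 1)<|b (a 5<|a 1 1)<|c) 1 1) (d 937 37 234 18 (b (a 2<|a 1 1)<|b (a 3<|a 2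
 2)<|c) 1 2))<|
 b (a 5<|a (d 14281 41 340 20 (b (a 2<|a 2 2)<|b (a 5<|a 1 1)<|c) 2 0) (d 20333 53 20332 52 (b (a 2<|a 2 2)<|b (a 13<|a 1 1)<|c) 2
 0))<|
 b (a 7<|a (d 14281 43 3570 6 (b (a 2<|a 1 1)<|b (a 3<|a 1 1)<|c) 1 1) (d 128011456717 43 64005728358 6 (b (a 2<|a 1 1)<|b (a 3<|
 a 1 1)<|c) 1 1))<|
 b (a 11<|a (d 30941 53 15470 26 (b (a 2<|a 1 1)<|b (a 13<|a 1 1)<|c) 1 0) (d 20333 53 10166 26 (b (a 2<|a 1 1)<|b (a 13<|a 1 1)<|c)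
 1 0))<|
 b (a 17<|a (d 937 37 468 36 (b (a 2<|a 2 2)<|b (a 3<|a 2 2)<|c) 2 2) (d 14281 71 1190 10 (b (a 2<|a 1 1)<|b (a 5<|a 1 1)<|c) 1 0))<|
 b (a 19<|a (d 937 37 468 36 (b (a 2<|a 2 2)<|b (a 3<|a 2 2)<|c) 2 2) (d 128011456717 127 32002864179 3 (b (a 3<|a 1 1)<|c) 0
 1))<|
 b (a 29<|a (d 128011456717 37 128011456716 12 (b (a 2<|a 2 2)<|b (a 3<|a 1 1)<|c) 2 1) (d 20333 53 10166 26 (b (a 2<|a 1 1)<|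
 b (a 13<|a 1 1)<|c) 1 0))<|
 b (a 271<|a (d 14281 73 408 24 (b (a 2<|a 3 3)<|b (a 3<|a 1 1)<|c) 3 1) (d 5229043 79 5229042 78 (b (a 2<|a 1 1)<|b (a 3<|a 1 1)<|
 b (a 13<|a 1 1)<|c) 1 1))<|c))
  ch := (beta% delta% lq26e953deed fun a b c _ _ =>
 (b (a 13217<|a 3 (b (a 2 5)<|b (a 7 1)<|b (a 59 1)<|c))<|
 b (a 13417<|a 5 (b (a 2 3)<|b (a 3 1)<|b (a 13 1)<|b (a 43 1)<|c))<|
 b (a 14197<|a 11 (b (a 2 2)<|b (a 3 1)<|b (a 7 1)<|b (a 13 2)<|c))<|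
 b (a 14281<|a 19 (b (a 2 3)<|b (a 3 1)<|b (a 5 1)<|b (a 7 1)<|b (a 17 1)<|c))<|
 b (a 20333<|a 3 (b (a 2 2)<|b (a 13 1)<|b (a 17 1)<|b (a 23 1)<|c))<|
 b (a 22079<|a 7 (b (a 2 1)<|b (a 7 1)<|b (a 19 1)<|b (a 83 1)<|c))<|
 b (a 28393<|a 15 (b (a 2 3)<|b (a 3 1)<|b (a 7 1)<|b (a 13 2)<|c))<|
 b (a 30941<|a 2 (b (a 2 2)<|b (a 5 1)<|b (a 7 1)<|b (a 13 1)<|b (a 17 1)<|c))<|
 b (a 79301<|a 2 (b (a 2 2)<|b (a 5 2)<|b (a 13 1)<|b (a 61 1)<|c))<|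
 b (a 1307261<|a 2 (b (a 2 2)<|b (a 5 1)<|b (a 163 1)<|b (a 401 1)<|c))<|
 b (a 5229043<|a 26 (b (a 2 1)<|b (a 3 1)<|b (a 7 1)<|b (a 13 1)<|b (a 61 1)<|b (a 157 1)<|c))<|
 b (a 64005728359<|a 3 (b (a 2 1)<|b (a 3 1)<|b (a 11 1)<|b (a 13 1)<|b (a 2411 1)<|b (a 30941 1)<|c))<|
 b (a 128011456717<|a 2 (b (a 2 2)<|b (a 3 1)<|b (a 11 1)<|b (a 13 1)<|b (a 2411 1)<|b (a 30941 1)<|c))<|c))

set_option maxRecDepth 100000 in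
theorem U14_13_ok : ldU U14_13 = true := by decide +kernel

end Cfsg.Agent.H510.U
end

-- part: H510/U/U18_5
section
/-!
# Certificate for `PSU(18, 5)` (helper510; generated)
-/

set_option autoImplicit false

namespace Cfsg.Agent.H510.U

open Cfsg.Agent.H510.UCert

def U18_5 : UD where
  n := 18
  q := 5
  p := 5
  a := 1
  fac := (beta% delta% lq26e953deed fun a b c _ _ =>
 (b (a 2 43)<|b (a 3 26)<|b (a 7 6)<|b (a 11 1)<|b (a 13 4)<|b (a 17 1)<|b (a 19 1)<|b (a 23 1)<|b (a 29 2)<|b (a 31 3)<|b (a 61 1)<|b (a 67 1)<|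
 b (a 71 1)<|b (a 313 2)<|b (a 449 2)<|b (a 521 3)<|b (a 601 1)<|b (a 829 1)<|b (a 3061 1)<|b (a 5167 2)<|b (a 5227 1)<|b (a 5281 1)<|
 b (a 7621 1)<|b (a 11489 1)<|b (a 19531 1)<|b (a 38923 1)<|b (a 41540861 1)<|c))
  tops := (beta% delta% lq26e953deed fun a b c _ _ =>
 (b (a 10 71)<|b (a 11 23)<|b (a 12 601)<|b (a 13 38923)<|b (a 14 19531)<|b (a 15 61)<|b (a 16 17)<|b (a 17 3061)<|b (a 18 829)<|c))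
  A := (beta% delta% lq26e953deed fun a b c _ _ =>
 (b (a 313 157)<|b (a 601 43)<|b (a 829 83)<|b (a 3061 1531)<|b (a 5167 41)<|b (a 5227 1307)<|b (a 5281 139)<|b (a 7621 37)<|b (a 11489
 359)<|b (a 19531 257)<|b (a 38923 37)<|b (a 41540861 37)<|c))
  B := (beta% delta% lq26e953deed fun a b c d _ =>
 (b (a 2<|a (d 829 37 828 36 (b (a 2<|a 2 2)<|b (a 3<|a 2 2)<|c) 2 2) (d 23 89 11 11 (b (a 11<|a 1 1)<|c) 0 0))<|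
 b (a 3<|a (d 3061 37 1530 18 (b (a 2<|a 1 1)<|b (a 3<|a 2 2)<|c) 1 2) (d 38923 79 38922 78 (b (a 2<|a 1 1)<|b (a 3<|a 1 1)<|b (a 13<|
 a 1 1)<|c) 1 1))<|
 b (a 7<|a (d 3061 37 765 9 (b (a 3<|a 2 2)<|c) 0 2) (d 601 73 600 24 (b (a 2<|a 3 3)<|b (a 3<|a 1 1)<|c) 3 1))<|
 b (a 11<|a (d 38923 37 2994 6 (b (a 2<|a 1 1)<|b (a 3<|a 1 1)<|c) 1 1) (d 23 89 22 22 (b (a 2<|a 1 1)<|b (a 11<|a 1 1)<|c) 1 0))<|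
 b (a 13<|a (d 3061 37 3060 36 (b (a 2<|a 2 2)<|b (a 3<|a 2 2)<|c) 2 2) (d 38923 79 19461 39 (b (a 3<|a 1 1)<|b (a 13<|a 1 1)<|c) 0
 1))<|
 b (a 17<|a (d 601 73 120 24 (b (a 2<|a 3 3)<|b (a 3<|a 1 1)<|c) 3 1) (d 71 101 10 10 (b (a 2<|a 1 1)<|b (a 5<|a 1 1)<|c) 1 0))<|
 b (a 19<|a (d 829 37 828 36 (b (a 2<|a 2 2)<|b (a 3<|a 2 2)<|c) 2 2) (d 38923 131 12974 26 (b (a 2<|a 1 1)<|b (a 13<|a 1 1)<|c) 1
 0))<|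
 b (a 23<|a (d 601 37 300 12 (b (a 2<|a 2 2)<|b (a 3<|a 1 1)<|c) 2 1) (d 61 53 20 4 (b (a 2<|a 2 2)<|c) 2 0))<|
 b (a 29<|a (d 61 37 12 12 (b (a 2<|a 2 2)<|b (a 3<|a 1 1)<|c) 2 1) (d 601 241 600 120 (b (a 2<|a 3 3)<|b (a 3<|a 1 1)<|b (a 5<|a 1 2)<|c)
 3 1))<|
 b (a 31<|a (d 3061 37 340 4 (b (a 2<|a 2 2)<|c) 2 0) (d 829 37 92 4 (b (a 2<|a 2 2)<|c) 2 0))<|
 b (a 61<|a (d 3061 37 3060 36 (b (a 2<|a 2 2)<|b (a 3<|a 2 2)<|c) 2 2) (d 19531 311 2170 62 (b (a 2<|a 1 1)<|b (a 31<|a 1 1)<|c) 1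
 0))<|
 b (a 67<|a (d 3061 73 3060 36 (b (a 2<|a 2 2)<|b (a 3<|a 2 2)<|c) 2 2) (d 19531 379 1953 63 (b (a 3<|a 2 2)<|b (a 7<|a 1 1)<|c) 0
 2))<|
 b (a 71<|a (d 829 73 414 18 (b (a 2<|a 1 1)<|b (a 3<|a 2 2)<|c) 1 2) (d 17 113 16 16 (b (a 2<|a 4 4)<|c) 4 0))<|
 b (a 449<|a (d 829 37 828 36 (b (a 2<|a 2 2)<|b (a 3<|a 2 2)<|c) 2 2) (d 23 89 11 11 (b (a 11<|a 1 1)<|c) 0 0))<|
 b (a 521<|a (d 3061 37 306 18 (b (a 2<|a 1 1)<|b (a 3<|a 2 2)<|c) 1 2) (d 38923 97 38922 6 (b (a 2<|a 1 1)<|b (a 3<|a 1 1)<|c) 1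
 1))<|c))
  ch := (beta% delta% lq26e953deed fun a b c _ _ =>
 (b (a 5167<|a 6 (b (a 2 1)<|b (a 3 2)<|b (a 7 1)<|b (a 41 1)<|c))<|
 b (a 5227<|a 2 (b (a 2 1)<|b (a 3 1)<|b (a 13 1)<|b (a 67 1)<|c))<|
 b (a 5281<|a 7 (b (a 2 5)<|b (a 3 1)<|b (a 5 1)<|b (a 11 1)<|c))<|
 b (a 7621<|a 2 (b (a 2 2)<|b (a 3 1)<|b (a 5 1)<|b (a 127 1)<|c))<|
 b (a 11489<|a 3 (b (a 2 5)<|b (a 359 1)<|c))<|
 b (a 19531<|a 13 (b (a 2 1)<|b (a 3 2)<|b (a 5 1)<|b (a 7 1)<|b (a 31 1)<|c))<|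
 b (a 38923<|a 2 (b (a 2 1)<|b (a 3 1)<|b (a 13 1)<|b (a 499 1)<|c))<|
 b (a 7187<|a 2 (b (a 2 1)<|b (a 3593 1)<|c))<|
 b (a 41540861<|a 2 (b (a 2 2)<|b (a 5 1)<|b (a 17 2)<|b (a 7187 1)<|c))<|c))

set_option maxRecDepth 100000 in
theorem U18_5_ok : ldU U18_5 = true := by decide +kernel

end Cfsg.Agent.H510.U
end

-- part: H510/U/U18_17
section
/-!
# Certificate for `PSU(18, 17)` (helper510; generated)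
-/

set_option autoImplicit false

namespace Cfsg.Agent.H510.U

open Cfsg.Agent.H510.UCert

def U18_17 : UD where
  n := 18
  q := 17
  p := 17
  a := 1
  fac := (beta% delta% lq26e953deed fun a b c _ _ =>
 (b (a 2 61)<|b (a 3 44)<|b (a 5 4)<|b (a 7 6)<|b (a 11 3)<|b (a 13 6)<|b (a 19 1)<|b (a 23 1)<|b (a 29 4)<|b (a 31 1)<|b (a 53 1)<|b (a 71 3)<|
 b (a 79 1)<|b (a 101 3)<|b (a 307 3)<|b (a 947 1)<|b (a 1423 2)<|b (a 5653 2)<|b (a 18913 1)<|b (a 41761 2)<|b (a 65651 1)<|b (a 83233 1)<|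
 b (a 88741 1)<|b (a 184417 1)<|b (a 1270657 1)<|b (a 2001793 1)<|b (a 22796593 2)<|b (a 25646167 1)<|b (a 87415373 1)<|
 b (a 238212511 1)<|b (a 45957792327018709121 1)<|c))
  tops := (beta% delta% lq26e953deed fun a b c _ _ =>
 (b (a 10 88741)<|b (a 11 23)<|b (a 12 83233)<|b (a 13 79)<|b (a 14 25646167)<|b (a 15 31)<|b (a 16 18913)<|b (a 17
 45957792327018709121)<|b (a 18 19)<|c))
  A := (beta% delta% lq26e953deed fun a b c _ _ =>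
 (b (a 947 43)<|b (a 1423 89)<|b (a 5653 157)<|b (a 18913 193)<|b (a 41761 157)<|b (a 65651 5471)<|b (a 83233 41617)<|b (a 88741
 44371)<|b (a 184417 41)<|b (a 1270657 1103)<|b (a 2001793 83)<|b (a 22796593 367687)<|b (a 25646167 229)<|b (a 87415373
 1986713)<|b (a 238212511 37)<|b (a 45957792327018709121 283690076092708081)<|c))
  B := (beta% delta% lq26e953deed fun a b c d _ =>
 (b (a 2<|a (d 88741 37 88740 36 (b (a 2<|a 2 2)<|b (a 3<|a 2 2)<|c) 2 2) (d 25646167 73 4274361 9 (b (a 3<|a 2 2)<|c) 0 2))<|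
 b (a 3<|a (d 19 37 18 18 (b (a 2<|a 1 1)<|b (a 3<|a 2 2)<|c) 1 2) (d 18913 73 2364 12 (b (a 2<|a 2 2)<|b (a 3<|a 1 1)<|c) 2 1))<|
 b (a 5<|a (d 23 67 22 22 (b (a 2<|a 1 1)<|b (a 11<|a 1 1)<|c) 1 0) (d 25646167 163 25646166 54 (b (a 2<|a 1 1)<|b (a 3<|a 3 3)<|c)
 1 3))<|
 b (a 7<|a (d 79 43 78 6 (b (a 2<|a 1 1)<|b (a 3<|a 1 1)<|c) 1 1) (d 18913 97 18912 96 (b (a 2<|a 5 5)<|b (a 3<|a 1 1)<|c) 5 1))<|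
 b (a 11<|a (d 31 37 30 6 (b (a 2<|a 1 1)<|b (a 3<|a 1 1)<|c) 1 1) (d 23 89 22 22 (b (a 2<|a 1 1)<|b (a 11<|a 1 1)<|c) 1 0))<|
 b (a 13<|a (d 79 61 39 3 (b (a 3<|a 1 1)<|c) 0 1) (d 18913 97 18912 96 (b (a 2<|a 5 5)<|b (a 3<|a 1 1)<|c) 5 1))<|
 b (a 19<|a (d 25646167 43 2849574 42 (b (a 2<|a 1 1)<|b (a 3<|a 1 1)<|b (a 7<|a 1 1)<|c) 1 1) (d 18913 97 6304 32 (b (a 2<|a 5
 5)<|c) 5 0))<|
 b (a 23<|a (d 31 41 10 10 (b (a 2<|a 1 1)<|b (a 5<|a 1 1)<|c) 1 0) (d 88741 73 88740 36 (b (a 2<|a 2 2)<|b (a 3<|a 2 2)<|c) 2 2))<|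
 b (a 29<|a (d 83233 97 27744 96 (b (a 2<|a 5 5)<|b (a 3<|a 1 1)<|c) 5 1) (d 25646167 109 25646166 54 (b (a 2<|a 1 1)<|b (a 3<|a 3
 3)<|c) 1 3))<|
 b (a 31<|a (d 18913 193 18912 96 (b (a 2<|a 5 5)<|b (a 3<|a 1 1)<|c) 5 1) (d 45957792327018709121 257
 45957792327018709120 128 (b (a 2<|a 7 7)<|c) 7 0))<|
 b (a 53<|a (d 23 67 22 22 (b (a 2<|a 1 1)<|b (a 11<|a 1 1)<|c) 1 0) (d 25646167 673 949858 14 (b (a 2<|a 1 1)<|b (a 7<|a 1 1)<|c) 1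
 0))<|
 b (a 71<|a (d 19 73 18 18 (b (a 2<|a 1 1)<|b (a 3<|a 2 2)<|c) 1 2) (d 18913 113 3152 16 (b (a 2<|a 4 4)<|c) 4 0))<|
 b (a 79<|a (d 88741 37 88740 36 (b (a 2<|a 2 2)<|b (a 3<|a 2 2)<|c) 2 2) (d 45957792327018709121 41 2872362020438669320
 8 (b (a 2<|a 3 3)<|c) 3 0))<|
 b (a 101<|a (d 25646167 43 1424787 21 (b (a 3<|a 1 1)<|b (a 7<|a 1 1)<|c) 0 1) (d 88741 61 29580 12 (b (a 2<|a 2 2)<|b (a 3<|a 1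
 1)<|c) 2 1))<|
 b (a 307<|a (d 83233 37 1734 6 (b (a 2<|a 1 1)<|b (a 3<|a 1 1)<|c) 1 1) (d 79 37 78 6 (b (a 2<|a 1 1)<|b (a 3<|a 1 1)<|c) 1 1))<|c))
  ch := (beta% delta% lq26e953deed fun a b c _ _ =>
 (b (a 5471<|a 7 (b (a 2 1)<|b (a 5 1)<|b (a 547 1)<|c))<|
 b (a 5653<|a 5 (b (a 2 2)<|b (a 3 2)<|b (a 157 1)<|c))<|
 b (a 18913<|a 7 (b (a 2 5)<|b (a 3 1)<|b (a 197 1)<|c))<|
 b (a 41617<|a 5 (b (a 2 4)<|b (a 3 2)<|b (a 17 2)<|c))<|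
 b (a 41761<|a 19 (b (a 2 5)<|b (a 3 2)<|b (a 5 1)<|b (a 29 1)<|c))<|
 b (a 44371<|a 2 (b (a 2 1)<|b (a 3 2)<|b (a 5 1)<|b (a 17 1)<|b (a 29 1)<|c))<|
 b (a 65651<|a 2 (b (a 2 1)<|b (a 5 2)<|b (a 13 1)<|b (a 101 1)<|c))<|
 b (a 83233<|a 7 (b (a 2 5)<|b (a 3 2)<|b (a 17 2)<|c))<|
 b (a 88741<|a 2 (b (a 2 2)<|b (a 3 2)<|b (a 5 1)<|b (a 17 1)<|b (a 29 1)<|c))<|
 b (a 184417<|a 10 (b (a 2 5)<|b (a 3 1)<|b (a 17 1)<|b (a 113 1)<|c))<|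
 b (a 367687<|a 3 (b (a 2 1)<|b (a 3 3)<|b (a 11 1)<|b (a 619 1)<|c))<|
 b (a 1270657<|a 5 (b (a 2 7)<|b (a 3 2)<|b (a 1103 1)<|c))<|
 b (a 1986713<|a 3 (b (a 2 3)<|b (a 7 1)<|b (a 13 1)<|b (a 2729 1)<|c))<|
 b (a 2001793<|a 7 (b (a 2 7)<|b (a 3 1)<|b (a 13 1)<|b (a 401 1)<|c))<|
 b (a 22796593<|a 15 (b (a 2 4)<|b (a 3 1)<|b (a 7 1)<|b (a 13 1)<|b (a 17 1)<|b (a 307 1)<|c))<|
 b (a 25646167<|a 3 (b (a 2 1)<|b (a 3 3)<|b (a 7 1)<|b (a 13 1)<|b (a 17 1)<|b (a 307 1)<|c))<|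
 b (a 87415373<|a 2 (b (a 2 2)<|b (a 11 1)<|b (a 1986713 1)<|c))<|
 b (a 5639<|a 7 (b (a 2 1)<|b (a 2819 1)<|c))<|
 b (a 11279<|a 7 (b (a 2 1)<|b (a 5639 1)<|c))<|
 b (a 7940417<|a 3 (b (a 2 6)<|b (a 11 1)<|b (a 11279 1)<|c))<|
 b (a 238212511<|a 3 (b (a 2 1)<|b (a 3 1)<|b (a 5 1)<|b (a 7940417 1)<|c))<|
 b (a 28387<|a 2 (b (a 2 1)<|b (a 3 2)<|b (a 19 1)<|b (a 83 1)<|c))<|
 b (a 53923<|a 5 (b (a 2 1)<|b (a 3 1)<|b (a 11 1)<|b (a 19 1)<|b (a 43 1)<|c))<|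
 b (a 283690076092708081<|a 7 (b (a 2 4)<|b (a 3 1)<|b (a 5 1)<|b (a 19 1)<|b (a 97 1)<|b (a 419 1)<|b (a 28387 1)<|b (a 53923 1)<|c))<|
 b (a 45957792327018709121<|a 6 (b (a 2 7)<|b (a 5 1)<|b (a 17 1)<|b (a 29 1)<|b (a 18913 1)<|b (a 41761 1)<|b (a 184417 1)<|c))<|c))

set_option maxRecDepth 100000 in
theorem U18_17_ok : ldU U18_17 = true := by decide +kernel

end Cfsg.Agent.H510.U
end

-- part: H510/U/U20_9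
section
/-!
# Certificate for `PSU(20, 9)` (helper510; generated)
-/

set_option autoImplicit false

namespace Cfsg.Agent.H510.U

open Cfsg.Agent.H510.UCert

def U20_9 : UD where
  n := 20
  q := 9
  p := 3
  a := 2
  fac := (beta% delta% lq26e953deed fun a b c _ _ =>
 (b (a 2 58)<|b (a 5 24)<|b (a 7 3)<|b (a 11 4)<|b (a 13 3)<|b (a 17 2)<|b (a 19 1)<|b (a 29 2)<|b (a 37 1)<|b (a 41 5)<|b (a 53 1)<|b (a 61 2)<|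
 b (a 73 6)<|b (a 193 2)<|b (a 547 1)<|b (a 757 1)<|b (a 1093 1)<|b (a 1181 4)<|b (a 5501 1)<|b (a 6481 1)<|b (a 16493 2)<|b (a 530713 2)<|
 b (a 570461 1)<|b (a 956353 1)<|b (a 5301533 1)<|b (a 21523361 1)<|b (a 42521761 1)<|b (a 47763361 1)<|b (a 1743831169 1)<|
 b (a 4795973261 1)<|b (a 25480398173 1)<|c))
  tops := (beta% delta% lq26e953deed fun a b c _ _ =>
 (b (a 11 5501)<|b (a 13 53)<|b (a 14 547)<|b (a 15 47763361)<|b (a 16 21523361)<|b (a 17 956353)<|b (a 18 757)<|b (a 19 5301533)<|c))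
  A := (beta% delta% lq26e953deed fun a b c _ _ =>
 (b (a 61 31)<|b (a 193 97)<|b (a 547 137)<|b (a 757 379)<|b (a 1181 59)<|b (a 5501 131)<|b (a 6481 463)<|b (a 16493 31)<|b (a 530713
 443)<|b (a 570461 31)<|b (a 956353 293)<|b (a 5301533 79)<|b (a 21523361 31)<|b (a 42521761 21260881)<|b (a 47763361 67)<|
 b (a 1743831169 267131)<|b (a 4795973261 89)<|b (a 25480398173 7878911)<|c))
  B := (beta% delta% lq26e953deed fun a b c d _ =>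
 (b (a 2<|a (d 21523361 137 2690420 68 (b (a 2<|a 2 2)<|b (a 17<|a 1 1)<|c) 2 0) (d 53 157 52 52 (b (a 2<|a 2 2)<|b (a 13<|a 1 1)<|c)
 2 0))<|
 b (a 5<|a (d 547 43 546 42 (b (a 2<|a 1 1)<|b (a 3<|a 1 1)<|b (a 7<|a 1 1)<|c) 1 1) (d 5301533 317 279028 316 (b (a 2<|a 2 2)<|
 b (a 79<|a 1 1)<|c) 2 0))<|
 b (a 7<|a (d 547 43 546 6 (b (a 2<|a 1 1)<|b (a 3<|a 1 1)<|c) 1 1) (d 757 109 189 27 (b (a 3<|a 3 3)<|c) 0 3))<|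
 b (a 11<|a (d 5501 23 2750 22 (b (a 2<|a 1 1)<|b (a 11<|a 1 1)<|c) 1 0) (d 547 79 39 39 (b (a 3<|a 1 1)<|b (a 13<|a 1 1)<|c) 0 1))<|
 b (a 13<|a (d 547 43 21 21 (b (a 3<|a 1 1)<|b (a 7<|a 1 1)<|c) 0 1) (d 5501 421 500 20 (b (a 2<|a 2 2)<|b (a 5<|a 1 3)<|c) 2 0))<|
 b (a 17<|a (d 53 79 26 26 (b (a 2<|a 1 1)<|b (a 13<|a 1 1)<|c) 1 0) (d 5501 89 5500 44 (b (a 2<|a 2 2)<|b (a 11<|a 1 1)<|c) 2 0))<|
 b (a 19<|a (d 21523361 83 269042 82 (b (a 2<|a 1 1)<|b (a 41<|a 1 1)<|c) 1 0) (d 547 127 273 3 (b (a 3<|a 1 1)<|c) 0 1))<|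
 b (a 29<|a (d 5501 23 1375 11 (b (a 11<|a 1 1)<|c) 0 0) (d 47763361 67 497535 3 (b (a 3<|a 1 1)<|c) 0 1))<|
 b (a 37<|a (d 547 31 546 6 (b (a 2<|a 1 1)<|b (a 3<|a 1 1)<|c) 1 1) (d 757 109 756 108 (b (a 2<|a 2 2)<|b (a 3<|a 3 3)<|c) 2 3))<|
 b (a 41<|a (d 5501 101 1100 20 (b (a 2<|a 2 2)<|b (a 5<|a 1 2)<|c) 2 0) (d 21523361 101 2690420 20 (b (a 2<|a 2 2)<|b (a 5<|a 1
 1)<|c) 2 0))<|
 b (a 53<|a (d 5501 131 1375 5 (b (a 5<|a 1 3)<|c) 0 0) (d 5301533 317 2650766 158 (b (a 2<|a 1 1)<|b (a 79<|a 1 1)<|c) 1 0))<|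
 b (a 73<|a (d 21523361 113 10761680 16 (b (a 2<|a 4 4)<|c) 4 0) (d 956353 257 318784 64 (b (a 2<|a 6 6)<|c) 6 0))<|
 b (a 1093<|a (d 5501 31 275 5 (b (a 5<|a 1 2)<|c) 0 0) (d 757 109 189 27 (b (a 3<|a 3 3)<|c) 0 3))<|c))
  ch := (beta% delta% lq26e953deed fun a b c _ _ =>
 (b (a 5501<|a 2 (b (a 2 2)<|b (a 5 3)<|b (a 11 1)<|c))<|
 b (a 6481<|a 7 (b (a 2 4)<|b (a 3 4)<|b (a 5 1)<|c))<|
 b (a 16493<|a 2 (b (a 2 2)<|b (a 7 1)<|b (a 19 1)<|b (a 31 1)<|c))<|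
 b (a 26713<|a 10 (b (a 2 3)<|b (a 3 2)<|b (a 7 1)<|b (a 53 1)<|c))<|
 b (a 267131<|a 2 (b (a 2 1)<|b (a 5 1)<|b (a 26713 1)<|c))<|
 b (a 530713<|a 5 (b (a 2 3)<|b (a 3 6)<|b (a 7 1)<|b (a 13 1)<|c))<|
 b (a 570461<|a 7 (b (a 2 2)<|b (a 5 1)<|b (a 11 1)<|b (a 2593 1)<|c))<|
 b (a 956353<|a 7 (b (a 2 6)<|b (a 3 1)<|b (a 17 1)<|b (a 293 1)<|c))<|
 b (a 5301533<|a 2 (b (a 2 2)<|b (a 19 1)<|b (a 79 1)<|b (a 883 1)<|c))<|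
 b (a 60607<|a 3 (b (a 2 1)<|b (a 3 2)<|b (a 7 1)<|b (a 13 1)<|b (a 37 1)<|c))<|
 b (a 7878911<|a 17 (b (a 2 1)<|b (a 5 1)<|b (a 13 1)<|b (a 60607 1)<|c))<|
 b (a 21260881<|a 21 (b (a 2 4)<|b (a 3 4)<|b (a 5 1)<|b (a 17 1)<|b (a 193 1)<|c))<|
 b (a 21523361<|a 6 (b (a 2 5)<|b (a 5 1)<|b (a 17 1)<|b (a 41 1)<|b (a 193 1)<|c))<|
 b (a 42521761<|a 11 (b (a 2 5)<|b (a 3 4)<|b (a 5 1)<|b (a 17 1)<|b (a 193 1)<|c))<|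
 b (a 47763361<|a 23 (b (a 2 5)<|b (a 3 2)<|b (a 5 1)<|b (a 41 1)<|b (a 809 1)<|c))<|
 b (a 1743831169<|a 7 (b (a 2 7)<|b (a 3 1)<|b (a 17 1)<|b (a 267131 1)<|c))<|
 b (a 4795973261<|a 2 (b (a 2 2)<|b (a 5 1)<|b (a 13 2)<|b (a 89 1)<|b (a 107 1)<|b (a 149 1)<|c))<|
 b (a 27967<|a 3 (b (a 2 1)<|b (a 3 1)<|b (a 59 1)<|b (a 79 1)<|c))<|
 b (a 335268397<|a 2 (b (a 2 2)<|b (a 3 4)<|b (a 37 1)<|b (a 27967 1)<|c))<|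
 b (a 25480398173<|a 2 (b (a 2 2)<|b (a 19 1)<|b (a 335268397 1)<|c))<|c))

set_option maxRecDepth 100000 in
theorem U20_9_ok : ldU U20_9 = true := by decide +kernel

end Cfsg.Agent.H510.U
end

-- part: H510/U/U24_3
section
/-!
# Certificate for `PSU(24, 3)` (helper510; generated)
-/

set_option autoImplicit false

namespace Cfsg.Agent.H510.U

open Cfsg.Agent.H510.UCert

def U24_3 : UD where
  n := 24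
  q := 3
  p := 3
  a := 1
  fac := (beta% delta% lq26e953deed fun a b c _ _ =>
 (b (a 2 70)<|b (a 5 7)<|b (a 7 9)<|b (a 11 4)<|b (a 13 4)<|b (a 17 1)<|b (a 19 2)<|b (a 23 1)<|b (a 31 1)<|b (a 37 2)<|b (a 41 3)<|b (a 43 1)<|
 b (a 61 4)<|b (a 67 2)<|b (a 73 2)<|b (a 103 1)<|b (a 193 1)<|b (a 271 1)<|b (a 307 1)<|b (a 547 3)<|b (a 661 2)<|b (a 757 1)<|b (a 1021 1)<|
 b (a 1093 1)<|b (a 1181 1)<|b (a 2269 1)<|b (a 2851 1)<|b (a 3851 1)<|b (a 6481 1)<|b (a 101917 1)<|b (a 398581 1)<|b (a 23535794707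
 1)<|c))
  tops := (beta% delta% lq26e953deed fun a b c _ _ =>
 (b (a 13 398581)<|b (a 14 1093)<|b (a 15 31)<|b (a 16 193)<|b (a 17 1021)<|b (a 18 757)<|b (a 19 2851)<|b (a 20 1181)<|b (a 21 43)<|b (a 22
 3851)<|b (a 23 23535794707)<|c))
  A := (beta% delta% lq26e953deed fun a b c _ _ =>
 (b (a 193 97)<|b (a 547 137)<|b (a 661 331)<|b (a 757 379)<|b (a 1181 59)<|b (a 2269 227)<|b (a 3851 107)<|b (a 6481 463)<|b (a 101917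
 131)<|b (a 398581 617)<|b (a 23535794707 79)<|c))
  B := (beta% delta% lq26e953deed fun a b c d _ =>
 (b (a 2<|a (d 1093 29 364 28 (b (a 2<|a 2 2)<|b (a 7<|a 1 1)<|c) 2 0) (d 1021 137 340 68 (b (a 2<|a 2 2)<|b (a 17<|a 1 1)<|c) 2 0))<|
 b (a 5<|a (d 2851 71 95 5 (b (a 5<|a 1 1)<|c) 0 0) (d 3851 71 1925 5 (b (a 5<|a 1 2)<|c) 0 0))<|
 b (a 7<|a (d 398581 79 39858 78 (b (a 2<|a 1 1)<|b (a 3<|a 1 1)<|b (a 13<|a 1 1)<|c) 1 1) (d 757 109 189 27 (b (a 3<|a 3 3)<|c) 0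
 3))<|
 b (a 11<|a (d 3851 89 3850 22 (b (a 2<|a 1 1)<|b (a 11<|a 1 1)<|c) 1 0) (d 23535794707 139 11767897353 69 (b (a 3<|a 1 1)<|
 b (a 23<|a 1 1)<|c) 0 1))<|
 b (a 13<|a (d 1093 79 39 39 (b (a 3<|a 1 1)<|b (a 13<|a 1 1)<|c) 0 1) (d 23535794707 139 11767897353 69 (b (a 3<|a 1 1)<|b (a 23<|
 a 1 1)<|c) 0 1))<|
 b (a 17<|a (d 23535794707 139 23535794706 138 (b (a 2<|a 1 1)<|b (a 3<|a 1 1)<|b (a 23<|a 1 1)<|c) 1 1) (d 757 433 189 27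
 (b (a 3<|a 3 3)<|c) 0 3))<|
 b (a 19<|a (d 31 127 15 3 (b (a 3<|a 1 1)<|c) 0 1) (d 23535794707 139 23535794706 138 (b (a 2<|a 1 1)<|b (a 3<|a 1 1)<|b (a 23<|
 a 1 1)<|c) 1 1))<|
 b (a 23<|a (d 1093 29 91 7 (b (a 7<|a 1 1)<|c) 0 0) (d 3851 29 1925 7 (b (a 7<|a 1 1)<|c) 0 0))<|
 b (a 31<|a (d 398581 71 66430 70 (b (a 2<|a 1 1)<|b (a 5<|a 1 1)<|b (a 7<|a 1 1)<|c) 1 0) (d 1181 181 1180 20 (b (a 2<|a 2 2)<|b (a 5<|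
 a 1 1)<|c) 2 0))<|
 b (a 37<|a (d 3851 71 1925 7 (b (a 7<|a 1 1)<|c) 0 0) (d 757 109 756 108 (b (a 2<|a 2 2)<|b (a 3<|a 3 3)<|c) 2 3))<|
 b (a 41<|a (d 3851 71 154 14 (b (a 2<|a 1 1)<|b (a 7<|a 1 1)<|c) 1 0) (d 1093 109 1092 12 (b (a 2<|a 2 2)<|b (a 3<|a 1 1)<|c) 2 1))<|
 b (a 43<|a (d 23535794707 47 7845264902 46 (b (a 2<|a 1 1)<|b (a 23<|a 1 1)<|c) 1 0) (d 398581 139 199290 6 (b (a 2<|a 1 1)<|
 b (a 3<|a 1 1)<|c) 1 1))<|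
 b (a 61<|a (d 2851 97 1425 3 (b (a 3<|a 1 1)<|c) 0 1) (d 398581 157 398580 156 (b (a 2<|a 2 2)<|b (a 3<|a 1 1)<|b (a 13<|a 1 1)<|c)
 2 1))<|
 b (a 67<|a (d 193 97 32 32 (b (a 2<|a 5 5)<|c) 5 0) (d 757 109 108 108 (b (a 2<|a 2 2)<|b (a 3<|a 3 3)<|c) 2 3))<|
 b (a 73<|a (d 398581 131 66430 10 (b (a 2<|a 1 1)<|b (a 5<|a 1 1)<|c) 1 0) (d 1021 137 85 17 (b (a 17<|a 1 1)<|c) 0 0))<|
 b (a 103<|a (d 1093 79 546 6 (b (a 2<|a 1 1)<|b (a 3<|a 1 1)<|c) 1 1) (d 1021 97 1020 12 (b (a 2<|a 2 2)<|b (a 3<|a 1 1)<|c) 2 1))<|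
 b (a 271<|a (d 1021 101 340 20 (b (a 2<|a 2 2)<|b (a 5<|a 1 1)<|c) 2 0) (d 1181 101 1180 20 (b (a 2<|a 2 2)<|b (a 5<|a 1 1)<|c) 2
 0))<|
 b (a 307<|a (d 3851 71 3850 14 (b (a 2<|a 1 1)<|b (a 7<|a 1 1)<|c) 1 0) (d 398581 97 398580 12 (b (a 2<|a 2 2)<|b (a 3<|a 1 1)<|c)
 2 1))<|
 b (a 1021<|a (d 43 29 14 14 (b (a 2<|a 1 1)<|b (a 7<|a 1 1)<|c) 1 0) (d 757 109 756 108 (b (a 2<|a 2 2)<|b (a 3<|a 3 3)<|c) 2 3))<|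
 b (a 1093<|a (d 3851 29 1925 7 (b (a 7<|a 1 1)<|c) 0 0) (d 193 97 96 96 (b (a 2<|a 5 5)<|b (a 3<|a 1 1)<|c) 5 1))<|
 b (a 2851<|a (d 1093 79 546 78 (b (a 2<|a 1 1)<|b (a 3<|a 1 1)<|b (a 13<|a 1 1)<|c) 1 1) (d 757 127 126 126 (b (a 2<|a 1 1)<|b (a 3<|
 a 2 2)<|b (a 7<|a 1 1)<|c) 1 2))<|c))
  ch := (beta% delta% lq26e953deed fun a b c _ _ =>
 (b (a 6481<|a 7 (b (a 2 4)<|b (a 3 4)<|b (a 5 1)<|c))<|
 b (a 101917<|a 5 (b (a 2 2)<|b (a 3 2)<|b (a 19 1)<|b (a 149 1)<|c))<|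
 b (a 398581<|a 2 (b (a 2 2)<|b (a 3 1)<|b (a 5 1)<|b (a 7 1)<|b (a 13 1)<|b (a 73 1)<|c))<|
 b (a 23535794707<|a 5 (b (a 2 1)<|b (a 3 1)<|b (a 23 1)<|b (a 67 1)<|b (a 661 1)<|b (a 3851 1)<|c))<|c))

set_option maxRecDepth 100000 in
theorem U24_3_ok : ldU U24_3 = true := by decide +kernel

end Cfsg.Agent.H510.U
end

-- part: H510/U/U24_5
section
/-!
# Certificate for `PSU(24, 5)` (helper510; generated)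
-/

set_option autoImplicit false

namespace Cfsg.Agent.H510.U

open Cfsg.Agent.H510.UCert

def U24_5 : UD where
  n := 24
  q := 5
  p := 5
  a := 1
  fac := (beta% delta% lq26e953deed fun a b c _ e =>
 (let f:=(let f:=(let f:=(e (a 213029 1)<|e (a 390001 1)<|e (a 12207031 1)<|e (a 41540861 1)<|e (a 42272797713043 1)<|c);
 (e (a 9161 1)<|e (a 11489 1)<|e (a 19531 1)<|e (a 19609
 1)<|e (a 38923 1)<|f));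
 (let f:=(e (a 5167 2)<|e (a 5227 1)<|e (a 5281 2)<|e (a 7603 1)<|e (a 7621 1)<|f);
 (e (a 521 4)<|e (a 601 2)<|e (a 761 1)<|e (a 829 1)<|
 e (a 3061 1)<|f)));
 (let f:=(let f:=(e (a 67 2)<|e (a 71 2)<|e (a 127 1)<|e (a 313 3)<|e (a 449 3)<|f);
 (e (a 31 4)<|e (a 41 1)<|e (a 43 1)<|
 e (a 47 1)<|e (a 61 1)<|f));
 (let f:=(e (a 13 6)<|e (a 17 1)<|e (a 19 1)<|e (a 23 2)<|e (a 29 3)<|f);
 (b (a 2 58)<|b (a 3 34)<|b (a 7 9)<|b (a 11 2)<|f)))))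
  tops := (beta% delta% lq26e953deed fun a b c _ _ =>
 (b (a 13 5227)<|b (a 14 19531)<|b (a 15 61)<|b (a 17 3061)<|b (a 18 829)<|b (a 19 761)<|b (a 20 41)<|b (a 21 127)<|b (a 22 12207031)<|
 b (a 23 47)<|b (a 24 390001)<|c))
  A := (beta% delta% lq26e953deed fun a b c _ _ =>
 (b (a 313 157)<|b (a 829 83)<|b (a 3061 1531)<|b (a 5227 1307)<|b (a 5281 139)<|b (a 7603 181)<|b (a 7621 37)<|b (a 9161 229)<|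
 b (a 11489 359)<|b (a 19531 257)<|b (a 19609 37)<|b (a 38923 37)<|b (a 213029 263)<|b (a 390001 109)<|b (a 12207031 167)<|
 b (a 41540861 37)<|b (a 42272797713043 373)<|c))
  B := (beta% delta% lq26e953deed fun a b c d _ =>
 (b (a 2<|a (d 829 37 828 36 (b (a 2<|a 2 2)<|b (a 3<|a 2 2)<|c) 2 2) (d 761 229 380 76 (b (a 2<|a 2 2)<|b (a 19<|a 1 1)<|c) 2 0))<|
 b (a 3<|a (d 3061 37 1530 18 (b (a 2<|a 1 1)<|b (a 3<|a 2 2)<|c) 1 2) (d 127 37 126 18 (b (a 2<|a 1 1)<|b (a 3<|a 2 2)<|c) 1 2))<|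
 b (a 7<|a (d 3061 37 765 9 (b (a 3<|a 2 2)<|c) 0 2) (d 61 181 60 12 (b (a 2<|a 2 2)<|b (a 3<|a 1 1)<|c) 2 1))<|
 b (a 11<|a (d 12207031 37 12207030 6 (b (a 2<|a 1 1)<|b (a 3<|a 1 1)<|c) 1 1) (d 390001 97 390000 48 (b (a 2<|a 4 4)<|b (a 3<|a 1
 1)<|c) 4 1))<|
 b (a 13<|a (d 3061 37 3060 36 (b (a 2<|a 2 2)<|b (a 3<|a 2 2)<|c) 2 2) (d 390001 53 8125 13 (b (a 13<|a 1 1)<|c) 0 0))<|
 b (a 17<|a (d 390001 73 195000 24 (b (a 2<|a 3 3)<|b (a 3<|a 1 1)<|c) 3 1) (d 12207031 199 12207030 66 (b (a 2<|a 1 1)<|b (a 3<|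
 a 1 1)<|b (a 11<|a 1 1)<|c) 1 1))<|
 b (a 19<|a (d 829 37 828 36 (b (a 2<|a 2 2)<|b (a 3<|a 2 2)<|c) 2 2) (d 19531 151 1085 5 (b (a 5<|a 1 1)<|c) 0 0))<|
 b (a 23<|a (d 390001 37 97500 12 (b (a 2<|a 2 2)<|b (a 3<|a 1 1)<|c) 2 1) (d 61 53 20 4 (b (a 2<|a 2 2)<|c) 2 0))<|
 b (a 29<|a (d 61 37 12 12 (b (a 2<|a 2 2)<|b (a 3<|a 1 1)<|c) 2 1) (d 19531 271 930 6 (b (a 2<|a 1 1)<|b (a 3<|a 1 1)<|c) 1 1))<|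
 b (a 31<|a (d 3061 37 340 4 (b (a 2<|a 2 2)<|c) 2 0) (d 829 37 92 4 (b (a 2<|a 2 2)<|c) 2 0))<|
 b (a 41<|a (d 19531 37 19530 18 (b (a 2<|a 1 1)<|b (a 3<|a 2 2)<|c) 1 2) (d 761 101 20 20 (b (a 2<|a 2 2)<|b (a 5<|a 1 1)<|c) 2 0))<|
 b (a 43<|a (d 41 37 20 4 (b (a 2<|a 2 2)<|c) 2 0) (d 5227 53 1742 26 (b (a 2<|a 1 1)<|b (a 13<|a 1 1)<|c) 1 0))<|
 b (a 47<|a (d 61 37 3 3 (b (a 3<|a 1 1)<|c) 0 1) (d 127 37 21 3 (b (a 3<|a 1 1)<|c) 0 1))<|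
 b (a 61<|a (d 3061 37 3060 36 (b (a 2<|a 2 2)<|b (a 3<|a 2 2)<|c) 2 2) (d 127 97 21 3 (b (a 3<|a 1 1)<|c) 0 1))<|
 b (a 67<|a (d 127 37 126 18 (b (a 2<|a 1 1)<|b (a 3<|a 2 2)<|c) 1 2) (d 3061 73 3060 36 (b (a 2<|a 2 2)<|b (a 3<|a 2 2)<|c) 2 2))<|
 b (a 71<|a (d 127 37 63 9 (b (a 3<|a 2 2)<|c) 0 2) (d 829 73 414 18 (b (a 2<|a 1 1)<|b (a 3<|a 2 2)<|c) 1 2))<|
 b (a 127<|a (d 3061 37 153 9 (b (a 3<|a 2 2)<|c) 0 2) (d 829 73 828 36 (b (a 2<|a 2 2)<|b (a 3<|a 2 2)<|c) 2 2))<|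
 b (a 449<|a (d 829 37 828 36 (b (a 2<|a 2 2)<|b (a 3<|a 2 2)<|c) 2 2) (d 5227 97 2613 3 (b (a 3<|a 1 1)<|c) 0 1))<|
 b (a 521<|a (d 3061 37 306 18 (b (a 2<|a 1 1)<|b (a 3<|a 2 2)<|c) 1 2) (d 761 73 760 8 (b (a 2<|a 3 3)<|c) 3 0))<|
 b (a 601<|a (d 19531 37 1395 9 (b (a 3<|a 2 2)<|c) 0 2) (d 47 139 23 23 (b (a 23<|a 1 1)<|c) 0 0))<|
 b (a 761<|a (d 19531 37 19530 18 (b (a 2<|a 1 1)<|b (a 3<|a 2 2)<|c) 1 2) (d 3061 37 1530 18 (b (a 2<|a 1 1)<|b (a 3<|a 2 2)<|c) 1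
 2))<|
 b (a 5167<|a (d 19531 73 19530 18 (b (a 2<|a 1 1)<|b (a 3<|a 2 2)<|c) 1 2) (d 3061 103 51 51 (b (a 3<|a 1 1)<|b (a 17<|a 1 1)<|c) 0
 1))<|c))
  ch := (beta% delta% lq26e953deed fun a b c _ _ =>
 (b (a 5167<|a 6 (b (a 2 1)<|b (a 3 2)<|b (a 7 1)<|b (a 41 1)<|c))<|
 b (a 5227<|a 2 (b (a 2 1)<|b (a 3 1)<|b (a 13 1)<|b (a 67 1)<|c))<|
 b (a 5281<|a 7 (b (a 2 5)<|b (a 3 1)<|b (a 5 1)<|b (a 11 1)<|c))<|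
 b (a 7603<|a 2 (b (a 2 1)<|b (a 3 1)<|b (a 7 1)<|b (a 181 1)<|c))<|
 b (a 7621<|a 2 (b (a 2 2)<|b (a 3 1)<|b (a 5 1)<|b (a 127 1)<|c))<|
 b (a 9161<|a 3 (b (a 2 3)<|b (a 5 1)<|b (a 229 1)<|c))<|
 b (a 11489<|a 3 (b (a 2 5)<|b (a 359 1)<|c))<|
 b (a 19531<|a 13 (b (a 2 1)<|b (a 3 2)<|b (a 5 1)<|b (a 7 1)<|b (a 31 1)<|c))<|
 b (a 19609<|a 13 (b (a 2 3)<|b (a 3 1)<|b (a 19 1)<|b (a 43 1)<|c))<|
 b (a 38923<|a 2 (b (a 2 1)<|b (a 3 1)<|b (a 13 1)<|b (a 499 1)<|c))<|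
 b (a 213029<|a 2 (b (a 2 2)<|b (a 19 1)<|b (a 2803 1)<|c))<|
 b (a 390001<|a 7 (b (a 2 4)<|b (a 3 1)<|b (a 5 4)<|b (a 13 1)<|c))<|
 b (a 12207031<|a 6 (b (a 2 1)<|b (a 3 1)<|b (a 5 1)<|b (a 11 1)<|b (a 71 1)<|b (a 521 1)<|c))<|
 b (a 7187<|a 2 (b (a 2 1)<|b (a 3593 1)<|c))<|
 b (a 41540861<|a 2 (b (a 2 2)<|b (a 5 1)<|b (a 17 2)<|b (a 7187 1)<|c))<|
 b (a 4523<|a 5 (b (a 2 1)<|b (a 7 1)<|b (a 17 1)<|b (a 19 1)<|c))<|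
 b (a 6983<|a 5 (b (a 2 1)<|b (a 3491 1)<|c))<|
 b (a 13967<|a 5 (b (a 2 1)<|b (a 6983 1)<|c))<|
 b (a 42272797713043<|a 2 (b (a 2 1)<|b (a 3 1)<|b (a 13 1)<|b (a 23 1)<|b (a 373 1)<|b (a 4523 1)<|b (a 13967 1)<|c))<|c))

set_option maxRecDepth 100000 in
theorem U24_5_ok : ldU U24_5 = true := by decide +kernel

end Cfsg.Agent.H510.U
end

-- part: H510/UPairs
section
/-!
# Groups of Lie type and the 16 groups `PSU(n, q)`, `n` even, of S3631 (helper510)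

`main` : the elimination for the statement S3631, `n ∈ {8, 12, 14, 18, 20, 24}`, `q + 1 ∣ n`; `UEven.lean` : the
statement.
-/

set_option autoImplicit false
open Cfsg

namespace Cfsg.Agent.H510.UPairs

open Cfsg.Agent.H510.UCert Cfsg.Agent.H510.UData Cfsg.Agent.H510.U

theorem prime_eq {p a s t : ℕ} (hp : p.Prime) (hs : s.Prime) (h : t = p ^ a) (hd : s ∣ t) : s = p := by
  rw [h] at hd
  exact (Nat.prime_dvd_prime_iff_eq hs hp).1 (hs.dvd_of_dvd_pow hd)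

/-- the list of the pairs `(n, q)` -/
def pairs : List (ℕ × ℕ) := (beta% delta% lq26e953deed fun a b c _ _ =>
 (b (a 8 3)<|b (a 8 7)<|b (a 12 3)<|b (a 12 5)<|b (a 12 11)<|b (a 14 13)<|b (a 18 5)<|b (a 18 17)<|b (a 20 3)<|b (a 20 9)<|
 b (a 20 19)<|b (a 24 3)<|b (a 24 5)<|b (a 24 7)<|b (a 24 11)<|b (a 24 23)<|c))

theorem list_of {n q : ℕ} (hn : n ∈ ({8, 12, 14, 18, 20, 24} : Finset ℕ)) (ho : Odd q) (hd : q + 1 ∣ n)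
    (h1 : q ≠ 1) : (n, q) ∈ pairs := by
  have h2 : ∀ n ∈ ({8, 12, 14, 18, 20, 24} : Finset ℕ), ∀ q ∈ Finset.range 24,
      (q % 2 = 1 ∧ n % (q + 1) = 0 ∧ q ≠ 1) → (n, q) ∈ pairs := by decide
  have hle : q + 1 ≤ n := by
    have hn0 : 0 < n := by
      rcases Nat.eq_zero_or_pos n with h | h
      · subst h
        exact absurd hn (by decide)
      · exact h
    exact Nat.le_of_dvd hn0 hd
  have hn24 : n ≤ 24 := by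
    have : ∀ n ∈ ({8, 12, 14, 18, 20, 24} : Finset ℕ), n ≤ 24 := by decide
    exact this n hn
  exact h2 n hn q (Finset.mem_range.2 (by omega)) ⟨Nat.odd_iff.1 ho, Nat.mod_eq_zero_of_dvd hd, h1⟩

/-- **The elimination for `n` even.** -/
theorem main {F : Type*} [Field F] [Fintype F] (p a q n : ℕ) (hp : p.Prime) (ha : 1 ≤ a) (hq : q = p ^ a)
    (hodd : Odd q) (hF : Fintype.card F = q ^ 2)
    (hn : n ∈ ({8, 12, 14, 18, 20, 24} : Finset ℕ)) (hdiv : q + 1 ∣ n)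
    {X : Type*} [Group X] [Finite X]
    (h1 : ∀ t : ℕ, t.Prime → t ∣ Nat.card X → t ∣ Nat.card (Cfsg.PSU n F q))
    (h2 : ∀ ρ : Finset ℕ, ((∀ r ∈ ρ, r.Prime ∧ r ∣ Nat.card (Cfsg.PSU n F q)) ∧
      ∀ r ∈ ρ, ∀ s ∈ ρ, r ≠ s → ¬ ∃ x : Cfsg.PSU n F q, orderOf x = r * s) → 3 ≤ ρ.card →
      ∀ r ∈ ρ, ∀ s ∈ ρ, r ≠ s → r ∣ Nat.card X ∨ s ∣ Nat.card X)
    (r : ℕ) (hr : r.Prime) (hrp : r ≠ p) : ¬ Cfsg.IsLieTypeChar r X := by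
  intro hlie
  have hq1 : q ≠ 1 := by
    intro h3
    have h4 := Nat.one_lt_pow (by omega : a ≠ 0) hp.one_lt
    omega
  have hlist := list_of hn hodd hdiv hq1
  have key : ∀ D : UD, ldU D = true → D.n = n → D.q = q → False := by
    intro D hD hDn hDq
    subst hDn
    subst hDq
    have hg := good_of_ldU hD
    have hpp : D.p = p := by
      refine prime_eq hp hg.p hq ?_
      rw [← hg.q]
      exact dvd_pow_self _ hg.a.ne'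
    exact UData.main hD hF h1 h2 r hr (by rw [hpp]; exact hrp) hlie
  unfold pairs at hlist
  simp only [List.mem_cons, List.not_mem_nil, or_false, Prod.mk.injEq] at hlist
  rcases hlist with ⟨hn', hq'⟩ | ⟨hn', hq'⟩ | ⟨hn', hq'⟩ | ⟨hn', hq'⟩ | ⟨hn', hq'⟩ | ⟨hn', hq'⟩ | ⟨hn', hq'⟩ | ⟨hn', hq'⟩ | ⟨hn', hq'⟩ | ⟨hn', hq'⟩ | ⟨hn', hq'⟩ | ⟨hn', hq'⟩ | ⟨hn', hq'⟩ | ⟨hn', hq'⟩ | ⟨hn', hq'⟩ | ⟨hn', hq'⟩
  · exact key U8_3 U8_3_ok hn'.symm hq'.symm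
  · exact key U8_7 U8_7_ok hn'.symm hq'.symm
  · exact key U12_3 U12_3_ok hn'.symm hq'.symm
  · exact key U12_5 U12_5_ok hn'.symm hq'.symm
  · exact key U12_11 U12_11_ok hn'.symm hq'.symm
  · exact key U14_13 U14_13_ok hn'.symm hq'.symm
  · exact key U18_5 U18_5_ok hn'.symm hq'.symm
  · exact key U18_17 U18_17_ok hn'.symm hq'.symm
  · exact key U20_3 U20_3_ok hn'.symm hq'.symm
  · exact key U20_9 U20_9_ok hn'.symm hq'.symm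
  · exact key U20_19 U20_19_ok hn'.symm hq'.symm
  · exact key U24_3 U24_3_ok hn'.symm hq'.symm
  · exact key U24_5 U24_5_ok hn'.symm hq'.symm
  · exact key U24_7 U24_7_ok hn'.symm hq'.symm
  · exact key U24_11 U24_11_ok hn'.symm hq'.symm
  · exact key U24_23 U24_23_ok hn'.symm hq'.symm

end Cfsg.Agent.H510.UPairs
end
end
end

-- part: S3631
section
set_option linter.all false

-- part: H510/UEven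
section
/-!
# Composition factors of groups isospectral to `PSU(n, q)`, `n` even (helper510, for S3631)

`main` : the statement S3631 for `n ∈ {8, 12, 14, 18, 20, 24}`, `q + 1 ∣ n`.
-/

set_option autoImplicit false
open Cfsg

namespace Cfsg.Agent.H510.UEven

/-- **S3631 for `n` even.** -/
theorem main {F : Type*} [Field F] [Fintype F] (p a q n : ℕ) (hp : p.Prime) (ha : 1 ≤ a) (hq : q = p ^ a)
    (hodd : Odd q) (hF : Fintype.card F = q ^ 2)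
    (hn : n ∈ ({8, 12, 14, 18, 20, 24} : Finset ℕ)) (hdiv : q + 1 ∣ n)
    (hdisc : (∃ A : Set ℕ, (∃ r ∈ A, r.Prime ∧ r ∣ Nat.card (Cfsg.PSU n F q)) ∧
      (∃ s ∉ A, s.Prime ∧ s ∣ Nat.card (Cfsg.PSU n F q)) ∧
      ∀ r ∈ A, ∀ s ∉ A, r.Prime → s.Prime → r ∣ Nat.card (Cfsg.PSU n F q) → s ∣ Nat.card (Cfsg.PSU n F q) →
        ¬ ∃ x : (Cfsg.PSU n F q), orderOf x = r * s))
    {G : Type*} [Group G] [Finite G]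
    (h : Set.range (orderOf : G → ℕ) = Set.range (orderOf : Cfsg.PSU n F q → ℕ))
    (H : Subgroup G) (hH : H.IsSubnormal) (N : Subgroup ↥H) [N.Normal]
    (hs : IsSimpleGroup (↥H ⧸ N)) (hna : ¬ IsMulCommutative (↥H ⧸ N)) (r : ℕ) (hr : r.Prime) (hrp : r ≠ p) :
    ¬ Cfsg.IsLieTypeChar r (↥H ⧸ N) := by
  have hfin : Finite (Cfsg.PSU n F q) := inferInstance
  obtain ⟨h1, h2⟩ := Cfsg.Agent.H414.Spec.frame h hdisc H hH N hs hna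
  exact UPairs.main p a q n hp ha hq hodd hF hn hdiv h1 h2 r hr hrp

end Cfsg.Agent.H510.UEven
end

-- part: S3631
section
set_option autoImplicit false
open Cfsg

namespace Cfsg.Agent.S3631

/-- Let q = p^a be odd, F a finite field with q² elements and L = PSU(n, q) realised over F, where either n ∈ {7, 11, 13, 17, 19, 23}, or n ∈ {8, 12, 14, 18, 20, 24} and q + 1 divides n; suppose the prime graph of L is disconnected. Let G be a finite group with the same set of element orders as L. Then no non-abelian composition factor of G (a non-abelian simple quotient H/N of a subnormal subgroup H) is a group of Lie type over a field of characteristic different from p. -/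
theorem result {F : Type*} [Field F] [Fintype F] (p a q n : ℕ) (hp : p.Prime) (ha : 1 ≤ a) (hq : q = p ^ a) (hodd : Odd q) (hF : Fintype.card F = q ^ 2)
    (hn : n ∈ ({7, 11, 13, 17, 19, 23} : Finset ℕ) ∨ (n ∈ ({8, 12, 14, 18, 20, 24} : Finset ℕ) ∧ q + 1 ∣ n))
    (hdisc : (∃ A : Set ℕ, (∃ r ∈ A, r.Prime ∧ r ∣ Nat.card (Cfsg.PSU n F q)) ∧ (∃ s ∉ A, s.Prime ∧ s ∣ Nat.card (Cfsg.PSU n F q)) ∧
      ∀ r ∈ A, ∀ s ∉ A, r.Prime → s.Prime → r ∣ Nat.card (Cfsg.PSU n F q) → s ∣ Nat.card (Cfsg.PSU n F q) → ¬ ∃ x : (Cfsg.PSU n F q), orderOf x = r * s))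
    {G : Type*} [Group G] [Finite G] (h : Set.range (orderOf : G → ℕ) = Set.range (orderOf : Cfsg.PSU n F q → ℕ))
    (H : Subgroup G) (hH : H.IsSubnormal) (N : Subgroup ↥H) [N.Normal]
    (hs : IsSimpleGroup (↥H ⧸ N)) (hna : ¬ IsMulCommutative (↥H ⧸ N)) (r : ℕ) (hr : r.Prime) (hrp : r ≠ p) :
    ¬ Cfsg.IsLieTypeChar r (↥H ⧸ N) := by
  rcases hn with hn | ⟨hn, hdiv⟩
  · exact Cfsg.Agent.H437.Win.main p a q n hp ha hq hodd hF hn h H hH N hs hna r hr hrp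
  · exact Cfsg.Agent.H510.UEven.main p a q n hp ha hq hodd hF hn hdiv hdisc h H hH N hs hna r hr hrp

end Cfsg.Agent.S3631
end
end
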