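import Cfsg.Agent.H184.GraphE6.Dual
import Cfsg.Agent.H585.SuE6
import Cfsg.Agent.H365.ExcSix
import Cfsg.Agent.H92.TorExp
import Cfsg.Agent.H376.ExcTab
import Cfsg.Agent.H414.SpecFrame_m3
import Cfsg.Agent.H977.MnSmall
import Cfsg.Agent.ChevalleyStructure.E6Min.Adjoint
import Cfsg.Agent.H421.Act
import Cfsg.Agent.S1054
import Cfsg.Agent.H689.ExcSix
import Cfsg.Agent.ChevalleyStructure.E6Min.Torus
import Cfsg.Agent.S2123
import Cfsg.Prelude.Def_KGroupFacts
import Cfsg.Agent.H681.ZerosPSL3
import Cfsg.Agent.LieExceptional.SingerCentralizer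
import Cfsg.Agent.H678.CCExact
import Cfsg.Agent.S0135
import Cfsg.Agent.S0249
import Mathlib
import Cfsg.Agent.H657.IBrBlock
import Cfsg.Agent.H597.BrInv
import Cfsg.Agent.S0914
import Cfsg.Agent.Blocks.ExistsModular
import Cfsg.Agent.H184.GraphE6.Elt_m3
import Cfsg.Agent.H425.ChrK_m3
import Cfsg.Agent.H425.ChrEnd
import Cfsg.Agent.ChevalleyStructure.FieldIso
import Cfsg.Agent.H977.E6FW
import Cfsg.Agent.Nodes.OppDec
import Cfsg.Agent.S1033
import Cfsg.Agent.S1034
import Cfsg.Agent.Lib.PackMat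
import Cfsg.Prelude.Def_E6
import Cfsg.Statements.S3650
import Cfsg.Agent.FastGrp
import Cfsg.Agent.Prune
set_option linter.all false

section
prune_inst 0x7fb0acf9aba8a9dfdfff7e3faed8dffc11800fffa4dff94b7fe0619f0b9f030009c56b8589e010fe0e76c21410a87843f97eceffe86bdc7ffffd57b41ffbee0fe5f7b50851948c340e280ff703f0770e6f3ffcffffffffffffffffffffffffbeffbfebfeffff

-- part: H163/E65/TI_mg
section
prune_inst 0x411006545456202000004000250001ee38f0004b0000b080050a600460c8e7c200902a660f0301818020800850031006813100000420000000a840000011901a0800200000100001d460089800088010000300000000000000000000000041004014010000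
set_option linter.all false
open scoped Cfsg.Agent.FastGrp

-- part: H163/E65/TI
section
/-!
# S3650, characteristics 2 and 3: the Singer torus (helper163)
-/

set_option autoImplicit false

namespace Cfsg.Agent.H163.E65

universe u

/-- the properties of the Singer torus of `SL₃(125)` used -/
structure TI (H : Type u) [Group H] (T : Subgroup H) : Prop where
  comm : ∀ x ∈ T, ∀ y ∈ T, x * y = y * x
  card : Nat.card T = 15751
  cent : ∀ x ∈ T, x ≠ 1 → Subgroup.centralizer {x} = T
  norm : Nat.card (Subgroup.normalizer (T : Set H)) = 3 * 15751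
  ord : Nat.card H = 125 ^ 3 * (125 ^ 2 - 1) * (125 ^ 3 - 1)

end Cfsg.Agent.H163.E65
end

-- part: H977/E6FL
section
/-!
# The prime graph of `E₆(5)` (helper977, for S3650)

* `mem_P`, `dvd_of_mem` : the prime divisors of the order;
* `cent_829`, `cent_601` : the orders of the centralisers of the elements of order 829 and 601;
* `nadj` : 71, 313, 601, 829 are pairwise not adjacent; `coq4`.
-/

set_option autoImplicit false

namespace Cfsg.Agent.H977.E6F

open Cfsg Cfsg.Lie Cfsg.Agent.H414.Arith Cfsg.Agent.H376.ExcTab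

universe u v

/-- the prime divisors of the order of `E₆(5)` -/
def P : List ℕ := [2, 3, 5, 7, 11, 13, 19, 31, 71, 313, 601, 829]

def fac : List (ℕ × ℕ) :=
  [(2, 19), (3, 6), (5, 36), (7, 2), (11, 1), (13, 2), (19, 1), (31, 3), (71, 1), (313, 1), (601, 1), (829, 1)]

theorem fac_eq : prodl fac = 5 ^ 36 * (5 ^ 2 - 1) * (5 ^ 5 - 1) * (5 ^ 6 - 1) * (5 ^ 8 - 1) * (5 ^ 9 - 1) *
    (5 ^ 12 - 1) := by decide +kernel

theorem fac_prime : ∀ x ∈ fac, (x.1).Prime := by
  intro x hx
  simp only [fac, List.mem_cons, List.not_mem_nil, or_false] at hx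
  rcases hx with rfl | rfl | rfl | rfl | rfl | rfl | rfl | rfl | rfl | rfl | rfl | rfl <;> norm_num

theorem P_prime : ∀ x ∈ P, x.Prime := by
  intro x hx
  simp only [P, List.mem_cons, List.not_mem_nil, or_false] at hx
  rcases hx with rfl | rfl | rfl | rfl | rfl | rfl | rfl | rfl | rfl | rfl | rfl | rfl <;> norm_num

variable {F : Type v} [Field F] [Fintype F]

theorem card_eq (hF : Fintype.card F = 5) : Nat.card ↥(chevE6.group F) = prodl fac := by
  have h := Cfsg.Agent.S1063.result (F := F) hF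
  rw [show Nat.gcd 3 (5 - 1) = 1 by decide, one_mul] at h
  rw [h, fac_eq]

theorem mem_P (hF : Fintype.card F = 5) {r : ℕ} (hr : r.Prime) (hd : r ∣ Nat.card ↥(chevE6.group F)) : r ∈ P := by
  rw [card_eq hF] at hd
  obtain ⟨x, hx, rfl⟩ := mem_of_dvd_prodl hr fac_prime hd
  simp only [fac, List.mem_cons, List.not_mem_nil, or_false] at hx
  rcases hx with rfl | rfl | rfl | rfl | rfl | rfl | rfl | rfl | rfl | rfl | rfl | rfl <;> decide

theorem dvd_of_mem (hF : Fintype.card F = 5) {r : ℕ} (hr : r ∈ P) : r ∣ Nat.card ↥(chevE6.group F) := by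
  rw [card_eq hF]
  simp only [P, List.mem_cons, List.not_mem_nil, or_false] at hr
  rcases hr with rfl | rfl | rfl | rfl | rfl | rfl | rfl | rfl | rfl | rfl | rfl | rfl <;> decide +kernel

/-! ### centralisers -/

/-- a subgroup containing the centralisers of its elements of order `r`, `r` exactly dividing the order -/
theorem card_cent {G : Type*} [Group G] [Finite G] {r : ℕ} (hr : r.Prime) (h2 : ¬ r ^ 2 ∣ Nat.card G)
    {T : Subgroup G} (hT : r ∣ Nat.card T) (hc : ∀ y ∈ T, orderOf y = r → Subgroup.centralizer {y} ≤ T) {x : G}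
    (hx : orderOf x = r) : Nat.card ↥(Subgroup.centralizer {x}) ∣ Nat.card T := by
  have := Fact.mk hr
  obtain ⟨y, hy⟩ := exists_prime_orderOf_dvd_card' r hT
  have hyo : orderOf (y : G) = r := by rw [Subgroup.orderOf_coe, hy]
  have hr1 : r ∣ Nat.card G := hx ▸ orderOf_dvd_natCard x
  have hf : (Nat.card G).factorization r = 1 := by
    have h0 : Nat.card G ≠ 0 := Nat.card_pos.ne'
    have h3 := (hr.dvd_iff_one_le_factorization h0).1 hr1
    have h4 : ¬ 2 ≤ (Nat.card G).factorization r := fun h => h2 ((hr.pow_dvd_iff_le_factorization h0).2 h)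
    omega
  have hcard : ∀ {z : G}, orderOf z = r → Nat.card ↥(Subgroup.zpowers z) = r ^ (Nat.card G).factorization r :=
    fun h => by rw [Nat.card_zpowers, h, hf, pow_one]
  obtain ⟨g, hg⟩ := MulAction.exists_smul_eq G (Sylow.ofCard (Subgroup.zpowers x) (hcard hx))
    (Sylow.ofCard (Subgroup.zpowers (y : G)) (hcard hyo))
  have h5 : g * x * g⁻¹ ∈ Subgroup.zpowers (y : G) := by
    have h6 : ((Sylow.ofCard (Subgroup.zpowers (y : G)) (hcard hyo)) : Subgroup G) = Subgroup.zpowers (y : G) := rfl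
    rw [← h6, ← hg, Sylow.coe_subgroup_smul]
    exact Subgroup.smul_mem_pointwise_smul x (MulAut.conj g) _ (Subgroup.mem_zpowers x)
  have h7 : g * x * g⁻¹ ∈ T := (Subgroup.zpowers_le.2 y.2) h5
  have h8 : orderOf (g * x * g⁻¹) = r := by
    have := (MulAut.conj g).orderOf_eq x
    rw [MulAut.conj_apply] at this
    rw [this, hx]
  have h9 := hc _ h7 h8
  have h10 : Nat.card ↥(Subgroup.centralizer {x}) = Nat.card ↥(Subgroup.centralizer {g * x * g⁻¹}) := by
    have h11 : (Subgroup.centralizer {x}).map (MulAut.conj g).toMonoidHom = Subgroup.centralizer {g * x * g⁻¹} := by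
      ext z
      rw [Subgroup.mem_map]
      constructor
      · rintro ⟨w, hw, rfl⟩
        rw [Subgroup.mem_centralizer_singleton_iff] at hw ⊢
        change g * w * g⁻¹ * (g * x * g⁻¹) = g * x * g⁻¹ * (g * w * g⁻¹)
        have h12 : g * w * g⁻¹ * (g * x * g⁻¹) = g * (w * x) * g⁻¹ := by group
        rw [h12, hw]
        group
      · intro hz
        refine ⟨g⁻¹ * z * g, ?_, ?_⟩
        · rw [Subgroup.mem_centralizer_singleton_iff] at hz ⊢
          have h12 : g⁻¹ * z * g * x = g⁻¹ * (z * (g * x * g⁻¹)) * g := by group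
          rw [h12, hz]
          group
        · change g * (g⁻¹ * z * g) * g⁻¹ = z
          group
    rw [← h11]
    exact (Nat.card_congr ((Subgroup.equivMapOfInjective _ _ (MulAut.conj g).injective).toEquiv))
  rw [h10]
  exact Subgroup.card_dvd_of_le h9

/-- elements commuting with `x` -/
theorem dvd_of_commute {G : Type*} [Group G] [Finite G] {x : G} {r s N : ℕ}
    (h : Nat.card ↥(Subgroup.centralizer {x ^ s}) ∣ N) (hx : orderOf x = r * s) : s ∣ N := by
  have h1 : x ∈ Subgroup.centralizer {x ^ s} := by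
    rw [Subgroup.mem_centralizer_singleton_iff]
    exact ((Commute.refl x).pow_right s)
  have h2 : orderOf x ∣ Nat.card ↥(Subgroup.centralizer {x ^ s}) := by
    rw [← Subgroup.orderOf_mk x h1]
    exact orderOf_dvd_natCard _
  exact (Dvd.intro_left r hx.symm).trans (h2.trans h)

theorem cent_829 (hF : Fintype.card F = 5) {x : ↥(chevE6.group F)} (hx : orderOf x = 829) :
    Nat.card ↥(Subgroup.centralizer {x}) ∣ 15751 := by
  obtain ⟨T, -, h1, h2, -, h3⟩ := H585.SuE6.torus9 (F := F) (q := 5) (N := 15751) hF (by norm_num) (r := 829) (by norm_num)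
    (by norm_num) (by norm_num)
  rw [one_mul] at h1 h2
  refine (card_cent (by norm_num) ?_ ?_ h3 hx).trans h1
  · rw [card_eq hF]
    decide +kernel
  · have h4 : 829 ∣ 3 * Nat.card ↥T := Dvd.dvd.trans (by norm_num) h2
    exact (Nat.Coprime.dvd_mul_left (by norm_num)).1 h4

theorem cent_601 (hF : Fintype.card F = 5) {x : ↥(chevE6.group F)} (hx : orderOf x = 601) :
    Nat.card ↥(Subgroup.centralizer {x}) ∣ 31 * 601 := by
  obtain ⟨T, -, h1, h2, -, h3⟩ := H585.SuE6.torus12 (F := F) (q := 5) (N := 601) hF (by norm_num) (r := 601) (by norm_num)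
    (by norm_num) (by norm_num)
  refine (card_cent (by norm_num) ?_ ?_ h3 hx).trans ?_
  · rw [card_eq hF]
    decide +kernel
  · have h4 : 601 ∣ 3 * Nat.card ↥T := Dvd.dvd.trans (by norm_num) h2
    exact (Nat.Coprime.dvd_mul_left (by norm_num)).1 h4
  · exact h1.trans (by norm_num)

/-- the elements of order 829 -/
theorem nadj_829 (hF : Fintype.card F = 5) {s : ℕ} (hs : s.Prime) (h1 : s ≠ 19) (h2 : s ≠ 829) :
    ¬ ∃ x : ↥(chevE6.group F), orderOf x = 829 * s := by
  rintro ⟨x, hx⟩
  have h3 : orderOf (x ^ s) = 829 := by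
    rw [orderOf_pow_of_dvd hs.ne_zero ⟨829, by rw [hx, mul_comm]⟩, hx, Nat.mul_div_cancel _ hs.pos]
  have h4 := dvd_of_commute (cent_829 hF h3) hx
  rw [show (15751 : ℕ) = 19 * 829 by norm_num, hs.dvd_mul, Nat.prime_dvd_prime_iff_eq hs (by norm_num),
    Nat.prime_dvd_prime_iff_eq hs (by norm_num)] at h4
  tauto

/-- the elements of order 601 -/
theorem nadj_601 (hF : Fintype.card F = 5) {s : ℕ} (hs : s.Prime) (h1 : s ≠ 31) (h2 : s ≠ 601) :
    ¬ ∃ x : ↥(chevE6.group F), orderOf x = 601 * s := by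
  rintro ⟨x, hx⟩
  have h3 : orderOf (x ^ s) = 601 := by
    rw [orderOf_pow_of_dvd hs.ne_zero ⟨601, by rw [hx, mul_comm]⟩, hx, Nat.mul_div_cancel _ hs.pos]
  have h4 := dvd_of_commute (cent_601 hF h3) hx
  rw [hs.dvd_mul, Nat.prime_dvd_prime_iff_eq hs (by norm_num), Nat.prime_dvd_prime_iff_eq hs (by norm_num)] at h4
  tauto

end Cfsg.Agent.H977.E6F
end

-- part: H977/E6FTab
section
/-!
# Witnesses for `E₆(5)` (helper977, for S3650)

* `ws` : for every prime `p ≠ 5` dividing `|E₆(5)|` a prime `w` (601 or 829) and a number `X`, prime to `|E₆(5)|`, such that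
  `p` has the same order modulo `w` and modulo every prime divisor of `X`; `ws_spec`;
* `ts` : the pairs `(p, s)` from `71, 313, 601, 829` with a prime `y` not dividing `|E₆(5)|`, `p ^ e = 1` modulo `y`,
  `e` the order of `p` modulo `s`; `ts_spec`.
-/

set_option autoImplicit false

namespace Cfsg.Agent.H977.E6F

open Cfsg.Agent.H414.Arith Cfsg.Agent.H436 Cfsg.Agent.H376.ExcTab Cfsg.Agent.H977.MnTab
open Cfsg.Agent.H977.Dp (prim_of_pow)

/-- a witness -/
def wX (p w X : ℕ) (l : List (ℕ × ℕ)) : Bool :=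
  (ordB p w l && Nat.beq (pe X p (prodl l)) 1) &&
    ((l.all fun y => Nat.beq (Nat.gcd (pe X p (prodl l / y.1) + (X - 1)) X) 1) &&
      (P.all (fun r => Nat.beq (Nat.gcd r X) 1) && Nat.ble 2 X))

theorem not_pow_eq {p X x k : ℕ} (hX : 2 ≤ X) (hx : x.Prime) (hd : x ∣ X)
    (h : Nat.beq (Nat.gcd (pe X p k + (X - 1)) X) 1 = true) : ((p : ℕ) : ZMod x) ^ k ≠ 1 := by
  intro h1
  rw [Nat.beq_eq, pe_eq] at h
  have h2 : x ∣ p ^ k % X + (X - 1) := by
    rw [← ZMod.natCast_eq_zero_iff, Nat.cast_add, Nat.cast_sub (by omega), (ZMod.natCast_eq_zero_iff X x).2 hd]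
    have h3 : ((p ^ k % X : ℕ) : ZMod x) = ((p ^ k : ℕ) : ZMod x) :=
      (ZMod.natCast_eq_natCast_iff _ _ _).2 ((Nat.mod_modEq (p ^ k) X).of_dvd hd)
    rw [h3, Nat.cast_pow, h1]
    ring
  have h3 := Nat.dvd_gcd h2 hd
  rw [h] at h3
  exact hx.one_lt.ne' (Nat.dvd_one.1 h3)

theorem wX_spec {p w X : ℕ} {l : List (ℕ × ℕ)} (h : wX p w X l = true) (hp : 1 ≤ p) (hw : w.Prime) :
    ∃ x e, Prim p e w ∧ Prim p e x ∧ 5 ≤ x ∧ x ∉ P := by
  unfold wX at h
  simp only [Bool.and_eq_true] at h
  obtain ⟨⟨h1, h2⟩, h3, h4, h5⟩ := h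
  have hX : 2 ≤ X := Nat.le_of_ble_eq_true h5
  rw [List.all_eq_true] at h3 h4
  have hx : X.minFac.Prime := Nat.minFac_prime (by omega)
  have hd : X.minFac ∣ X := Nat.minFac_dvd X
  have hl : ∀ x ∈ l, (x.1).Prime := by
    unfold ordB facB at h1
    rw [Bool.and_eq_true, Bool.and_eq_true, Bool.and_eq_true, List.all_eq_true] at h1
    exact fun x hx => prime_of_trialPr (h1.2.1 x hx)
  have hP : X.minFac ∉ P := fun hm => by
    have h6 := h4 _ hm
    rw [Nat.beq_eq] at h6
    have h7 := Nat.dvd_gcd (dvd_refl X.minFac) hd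
    rw [h6] at h7
    exact hx.one_lt.ne' (Nat.dvd_one.1 h7)
  have hpow : ((p : ℕ) : ZMod X.minFac) ^ prodl l = 1 := by
    have h6 : X ∣ p ^ prodl l - 1 := dvd_of_pe h2
    have h7 : 1 ≤ p ^ prodl l := Nat.one_le_pow _ _ hp
    have h8 := (ZMod.natCast_eq_zero_iff _ _).2 (hd.trans h6)
    rw [Nat.cast_sub h7, Nat.cast_pow, Nat.cast_one, sub_eq_zero] at h8
    exact h8
  have hpos := prodl_pos hl
  refine ⟨X.minFac, prodl l, prim_of_ordB hp hw h1, prim_of_pow hp hpos hx ?_ hpow ?_, ?_, hP⟩
  · intro h6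
    rw [(ZMod.natCast_eq_zero_iff _ _).2 h6, zero_pow hpos.ne'] at hpow
    have := Fact.mk hx
    exact zero_ne_one hpow
  · intro t ht htd
    obtain ⟨y, hy, rfl⟩ := mem_of_dvd_prodl ht hl htd
    exact not_pow_eq hX hx hd (h3 y hy)
  · have h6 := hx.two_le
    have h7 : X.minFac ≠ 2 := fun h => hP (by rw [h]; decide)
    have h8 : X.minFac ≠ 3 := fun h => hP (by rw [h]; decide)
    have h9 : X.minFac ≠ 4 := fun h => by
      rw [h] at hx
      exact absurd hx (by norm_num)
    omega

/-- the table -/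
def ws : List (ℕ × ℕ × ℕ × List (ℕ × ℕ)) :=
  [(2, 601, 1801, [(5, 2)]),
   (3, 601, 9601, [(3, 1), (5, 2)]),
   (7, 829, 21529, [(2, 2), (3, 1), (23, 1)]),
   (11, 829, 108013298342006920657, [(23, 1)]),
   (13, 601, 421, [(2, 2), (5, 1)]),
   (19, 601, 3001, [(2, 3), (3, 1), (5, 2)]),
   (31, 601, 7137001, [(2, 3), (5, 2)]),
   (71, 601, 289329491726290978680959693245142881553802895900510518121, [(2, 3), (3, 1), (5, 1)]),
   (313, 601, 11038219599061330844625191393301471591354072430122653244538051601723168331873730782767383651571401, [(2, 1), (3, 1), (5, 2)]),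
   (601, 829, 2653741, [(2, 2), (3, 2), (23, 1)]),
   (829, 601, 3001, [(2, 3), (3, 1), (5, 2)])]


theorem ws_ok : (ws.all fun t => wX t.1 t.2.1 t.2.2.1 t.2.2.2) = true := by decide +kernel

theorem ws_spec {p : ℕ} (hp : p ∈ P) (h5 : p ≠ 5) : ∃ w x e, (w = 601 ∨ w = 829) ∧ Prim p e w ∧ Prim p e x ∧ 5 ≤ x ∧
    x ∉ P := by
  have h1 := ws_ok
  rw [List.all_eq_true] at h1
  have key : ∀ t ∈ ws, t.1 = p → ∃ w x e, (w = 601 ∨ w = 829) ∧ Prim p e w ∧ Prim p e x ∧ 5 ≤ x ∧ x ∉ P := by
    intro t ht htp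
    have hw : t.2.1 = 601 ∨ t.2.1 = 829 := by
      have : ∀ t ∈ ws, t.2.1 = 601 ∨ t.2.1 = 829 := by decide +kernel
      exact this t ht
    have hwp : (t.2.1).Prime := by
      rcases hw with h | h <;> rw [h] <;> norm_num
    obtain ⟨x, e, h2, h3, h4, h6⟩ := wX_spec (h1 t ht) (by rw [htp]; exact (P_prime p hp).one_lt.le) hwp
    exact ⟨t.2.1, x, e, hw, htp ▸ h2, htp ▸ h3, h4, h6⟩
  have h2 : ∀ q ∈ P, q ≠ 5 → ∃ t ∈ ws, t.1 = q := by decide +kernel
  obtain ⟨t, ht, htp⟩ := h2 p hp h5
  exact key t ht htp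

/-- a witness for `PSL(2, p ^ f)` -/
def wT (p s y : ℕ) (l : List (ℕ × ℕ)) : Bool :=
  (ordB p s l && Nat.beq (pe y p (prodl l)) 1) && (trialPr y && (Nat.ble 5 y && !(P.any (Nat.beq y))))

/-- the pairs -/
def ts : List (ℕ × ℕ × ℕ × List (ℕ × ℕ)) :=
  [(71, 313, 53, [(2, 2), (13, 1)]),
   (71, 601, 41, [(2, 3), (3, 1), (5, 1)]),
   (71, 829, 37, [(2, 1), (3, 2), (23, 1)]),
   (313, 71, 29, [(5, 1), (7, 1)]),
   (313, 601, 151, [(2, 1), (3, 1), (5, 2)]),
   (313, 829, 37, [(2, 2), (3, 2), (23, 1)]),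
   (601, 71, 43, [(2, 1), (5, 1), (7, 1)]),
   (601, 313, 43, [(2, 2)]),
   (601, 829, 37, [(2, 2), (3, 2), (23, 1)]),
   (829, 71, 23, [(7, 1)]),
   (829, 313, 17, [(2, 3), (3, 1), (13, 1)]),
   (829, 601, 17, [(2, 3), (3, 1), (5, 2)])]


theorem ts_ok : (ts.all fun t => wT t.1 t.2.1 t.2.2.1 t.2.2.2) = true := by decide +kernel

theorem ts_spec {p s : ℕ} (hp : p ∈ [71, 313, 601, 829]) (hs : s ∈ [71, 313, 601, 829]) (hps : s ≠ p) :
    ∃ y e, Prim p e s ∧ y ∣ p ^ e - 1 ∧ y.Prime ∧ 5 ≤ y ∧ y ∉ P := by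
  have h1 := ts_ok
  rw [List.all_eq_true] at h1
  have hsp : s.Prime := by
    simp only [List.mem_cons, List.not_mem_nil, or_false] at hs
    rcases hs with rfl | rfl | rfl | rfl <;> norm_num
  have hp1 : 1 ≤ p := by
    simp only [List.mem_cons, List.not_mem_nil, or_false] at hp
    rcases hp with rfl | rfl | rfl | rfl <;> norm_num
  have h2 : ∀ q ∈ [71, 313, 601, 829], ∀ s ∈ [71, 313, 601, 829], s ≠ q → ∃ t ∈ ts, t.1 = q ∧ t.2.1 = s := by
    decide +kernel
  obtain ⟨t, ht, rfl, rfl⟩ := h2 p hp s hs hps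
  have h3 := h1 t ht
  unfold wT at h3
  simp only [Bool.and_eq_true] at h3
  obtain ⟨⟨h4, h5⟩, h6, h7, h8⟩ := h3
  refine ⟨t.2.2.1, prodl t.2.2.2, prim_of_ordB hp1 hsp h4, dvd_of_pe h5, prime_of_trialPr h6,
    Nat.le_of_ble_eq_true h7, fun hm => ?_⟩
  have h9 : P.any (Nat.beq t.2.2.1) = true := by
    rw [List.any_eq_true]
    exact ⟨_, hm, Nat.beq_refl _⟩
  rw [h9] at h8
  exact absurd h8 (by decide)

end Cfsg.Agent.H977.E6F
end

-- part: H65/E65/Frob
section
/-!
# S3650: Frobenius subgroups of `E₆(5)`, general part (helper65)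

`frob_of`: root indices `r j` with `N_{r i} N_{r j} = 0`, an element `z` of prime order `p` of the group `Zgrp` on the
27-dimensional module acting on the span of the `N_{r j}` without fixed points: a subgroup `5 ^ n` of `E₆(5)` and an
element of order `p` acting on it fixed point freely.
`ofN` : 27 × 27 matrices over `ZMod 5` packed in natural numbers, with checks for products.
-/

set_option autoImplicit false

namespace Cfsg.Agent.H65.E65

open Cfsg.Lie Cfsg.Agent.H163.E65 Cfsg.Agent.ChevalleyStructure.E6Min.Tables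
  Cfsg.Agent.ChevalleyStructure.E6Min.Basic Cfsg.Agent.ChevalleyStructure.E6Min.Adjoint
open scoped Matrix MatrixGroups

/-- an element of prime order commutes with everything one of its nontrivial powers commutes with -/
theorem commute_of_pow {G : Type*} [Group G] {z a : G} {p i : ℕ} (hp : p.Prime) (hord : orderOf z = p)
    (hi0 : 0 < i) (hip : i < p) (h : z ^ i * a = a * z ^ i) : z * a = a * z := by
  have hcop : i.Coprime p := by
    rw [Nat.coprime_comm]
    exact (Nat.Prime.coprime_iff_not_dvd hp).mpr (fun hd => absurd (Nat.le_of_dvd hi0 hd) (by omega))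
  obtain ⟨k, hk⟩ := exists_pow_eq_self_of_coprime (x := z) (n := i) (by rw [hord]; exact hcop)
  have h1 : Commute (z ^ i) a := h
  have h2 := h1.pow_left k
  rw [hk] at h2
  exact h2.eq

/-- the abstract form: a homomorphism with central kernel -/
theorem frob_abs {Z L W : Type*} [Group Z] [Group L] [Group W] (f : Z →* L) (hf : f.ker = Subgroup.center Z)
    (φ : W →* Z) (hφ : Function.Injective φ) {p : ℕ} (hp : p.Prime) (z : Z) (hz : z ^ p = 1) (T : W → W)
    (hT : ∀ w, z * φ w = φ (T w) * z) (hfree : ∀ w, T w = w → w = 1) {w₀ : W} (hw₀ : w₀ ≠ 1) :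
    ∃ (A : Subgroup L) (y : L), Nat.card A = Nat.card W ∧ orderOf y = p ∧ (∀ a ∈ A, y * a * y⁻¹ ∈ A) ∧
      ∀ i, 0 < i → i < p → ∀ a ∈ A, y ^ i * a = a * y ^ i → a = 1 := by
  have hcz : ∀ w, z * φ w = φ w * z → w = 1 := by
    intro w h
    rw [hT] at h
    exact hfree w (hφ (mul_right_cancel h))
  have hadinj : ∀ w, f (φ w) = 1 → w = 1 := by
    intro w h
    have h1 : φ w ∈ Subgroup.center Z := by rw [← hf]; exact h
    exact hcz w (Subgroup.mem_center_iff.mp h1 z)
  have hψ : Function.Injective (f.comp φ) := (injective_iff_map_eq_one (f.comp φ)).mpr hadinj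
  have hconj : ∀ w, f z * (f.comp φ) w * (f z)⁻¹ = (f.comp φ) (T w) := by
    intro w
    rw [mul_inv_eq_iff_eq_mul, MonoidHom.comp_apply, MonoidHom.comp_apply, ← map_mul, hT, map_mul]
  have hord : orderOf (f z) = p := by
    have : Fact p.Prime := ⟨hp⟩
    apply orderOf_eq_prime
    · rw [← map_pow, hz, map_one]
    · intro h
      have h1 : z ∈ Subgroup.center Z := by rw [← hf]; exact h
      exact hw₀ (hcz w₀ (Subgroup.mem_center_iff.mp h1 _).symm)
  refine ⟨(f.comp φ).range, f z, (Nat.card_congr (MonoidHom.ofInjective hψ).toEquiv).symm, hord, ?_, ?_⟩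
  · rintro _ ⟨w, rfl⟩
    rw [hconj]
    exact ⟨_, rfl⟩
  · rintro i hi0 hip _ ⟨w, rfl⟩ h
    have h4 := commute_of_pow hp hord hi0 hip h
    have h5 : (f.comp φ) w = (f.comp φ) (T w) := by
      rw [← hconj w, h4, mul_inv_cancel_right]
    rw [hfree w (hψ h5).symm, map_one]

section general

variable {n : ℕ} (r : Fin n → ℕ)

/-- the combination of the `N_{r j}` -/
def lin (v : Fin n → ZMod 5) : Matrix I27 I27 (ZMod 5) := ∑ j, v j • Nm (ZMod 5) (r j)

theorem lin_add (v w : Fin n → ZMod 5) : lin r (v + w) = lin r v + lin r w := by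
  unfold lin
  rw [← Finset.sum_add_distrib]
  exact Finset.sum_congr rfl fun j _ => by rw [Pi.add_apply, add_smul]

theorem lin_zero : lin r 0 = 0 := by
  unfold lin
  exact Finset.sum_eq_zero fun j _ => by rw [Pi.zero_apply, zero_smul]

theorem lin_single (j : Fin n) (c : ZMod 5) : lin r (Pi.single j c) = c • Nm (ZMod 5) (r j) := by
  unfold lin
  rw [Finset.sum_eq_single j]
  · rw [Pi.single_eq_same]
  · intro i _ hi
    rw [Pi.single_eq_of_ne hi, zero_smul]
  · intro h; exact absurd (Finset.mem_univ _) h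

variable {r}

theorem lin_mul_lin (h0 : ∀ i j, Nm (ZMod 5) (r i) * Nm (ZMod 5) (r j) = 0) (v w : Fin n → ZMod 5) :
    lin r v * lin r w = 0 := by
  unfold lin
  rw [Finset.sum_mul]
  refine Finset.sum_eq_zero fun i _ => ?_
  rw [Finset.mul_sum]
  refine Finset.sum_eq_zero fun j _ => ?_
  rw [smul_mul_assoc, mul_smul_comm, h0, smul_zero, smul_zero]

theorem lin_injective (hr : ∀ j, r j < 72) (hinj : Function.Injective r) : Function.Injective (lin r) := by
  have key : ∀ v j, lin r v (row (r j)) (sr (r j) (row (r j))) = v j * ((sg (r j) (row (r j)) : ℤ) : ZMod 5) := by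
    intro v j
    obtain ⟨-, -, h3⟩ := row_spec (hr j)
    unfold lin
    rw [Matrix.sum_apply, Finset.sum_eq_single j]
    · rw [Matrix.smul_apply, Nm_apply, if_pos rfl, smul_eq_mul]
    · intro i _ hi
      rw [Matrix.smul_apply, Nm_apply]
      rcases h3 (r i) (hr i) (fun e => hi (hinj e)) with h | h
      · rw [h]; simp
      · rw [if_neg (Ne.symm h), smul_zero]
    · intro h; exact absurd (Finset.mem_univ _) h
  intro v w h
  funext j
  have h1 := key v j
  rw [h, key w j] at h1
  have h2 : ((sg (r j) (row (r j)) : ℤ) : ZMod 5) * ((sg (r j) (row (r j)) : ℤ) : ZMod 5) = 1 := by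
    rw [← Int.cast_mul, sg_sq _ _ (row_spec (hr j)).1, Int.cast_one]
  calc v j = v j * ((sg (r j) (row (r j)) : ℤ) : ZMod 5) * ((sg (r j) (row (r j)) : ℤ) : ZMod 5) := by
        rw [mul_assoc, h2, mul_one]
    _ = w j * ((sg (r j) (row (r j)) : ℤ) : ZMod 5) * ((sg (r j) (row (r j)) : ℤ) : ZMod 5) := by rw [h1]
    _ = w j := by rw [mul_assoc, h2, mul_one]

theorem one_add_lin_mul (h0 : ∀ i j, Nm (ZMod 5) (r i) * Nm (ZMod 5) (r j) = 0) (v w : Fin n → ZMod 5) :
    (1 + lin r v) * (1 + lin r w) = 1 + lin r (v + w) := by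
  rw [mul_add, add_mul, add_mul, lin_mul_lin h0, lin_add]
  simp only [one_mul, mul_one]
  abel

/-- the element `1 + ∑ v_j N_{r j}` -/
def phiU (h0 : ∀ i j, Nm (ZMod 5) (r i) * Nm (ZMod 5) (r j) = 0) (v : Fin n → ZMod 5) : GL I27 (ZMod 5) :=
  ⟨1 + lin r v, 1 + lin r (-v), by rw [one_add_lin_mul h0, add_neg_cancel, lin_zero, add_zero], by
    rw [one_add_lin_mul h0, neg_add_cancel, lin_zero, add_zero]⟩

theorem phiU_add (h0 : ∀ i j, Nm (ZMod 5) (r i) * Nm (ZMod 5) (r j) = 0) (v w : Fin n → ZMod 5) :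
    phiU h0 (v + w) = phiU h0 v * phiU h0 w := by
  apply Units.ext
  exact (one_add_lin_mul h0 v w).symm

theorem phiU_zero (h0 : ∀ i j, Nm (ZMod 5) (r i) * Nm (ZMod 5) (r j) = 0) : phiU h0 0 = 1 := by
  apply Units.ext
  show 1 + lin r 0 = 1
  rw [lin_zero, add_zero]

theorem phiU_mem (hr : ∀ j, r j < 72) (h0 : ∀ i j, Nm (ZMod 5) (r i) * Nm (ZMod 5) (r j) = 0)
    (v : Fin n → ZMod 5) : phiU h0 v ∈ Zgrp (ZMod 5) := by
  have h1 : ∀ s : Finset (Fin n), phiU h0 (∑ j ∈ s, Pi.single j (v j)) ∈ Zgrp (ZMod 5) := by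
    classical
    intro s
    induction s using Finset.induction_on with
    | empty => rw [Finset.sum_empty, phiU_zero]; exact one_mem _
    | insert j s hj ih =>
      rw [Finset.sum_insert hj, phiU_add]
      refine mul_mem ?_ ih
      have : phiU h0 (Pi.single j (v j)) = zU (r j) (v j) := by
        apply Units.ext
        rw [coe_zU (hr j), zM_def]
        show 1 + lin r (Pi.single j (v j)) = _
        rw [lin_single]
      rw [this]
      exact zU_mem _ _
  have h2 := h1 Finset.univ
  rwa [Finset.univ_sum_single] at h2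

/-- the homomorphism to `Zgrp` -/
def phi (hr : ∀ j, r j < 72) (h0 : ∀ i j, Nm (ZMod 5) (r i) * Nm (ZMod 5) (r j) = 0) :
    Multiplicative (Fin n → ZMod 5) →* Zgrp (ZMod 5) where
  toFun v := ⟨phiU h0 (Multiplicative.toAdd v), phiU_mem hr h0 _⟩
  map_one' := Subtype.ext (phiU_zero h0)
  map_mul' _ _ := Subtype.ext (phiU_add h0 _ _)

theorem lin_conj {z : Matrix I27 I27 (ZMod 5)} {M : Matrix (Fin n) (Fin n) (ZMod 5)}
    (hM : ∀ j, z * Nm (ZMod 5) (r j) = lin r (fun i => M i j) * z) (v : Fin n → ZMod 5) :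
    z * lin r v = lin r (M *ᵥ v) * z := by
  have h1 : lin r (M *ᵥ v) = ∑ j, v j • lin r (fun i => M i j) := by
    unfold lin
    simp only [Finset.smul_sum]
    rw [Finset.sum_comm]
    refine Finset.sum_congr rfl fun i _ => ?_
    simp only [smul_smul]
    rw [← Finset.sum_smul]
    congr 1
    simp only [Matrix.mulVec, dotProduct]
    exact Finset.sum_congr rfl fun j _ => mul_comm _ _
  rw [h1, Finset.sum_mul]
  conv_lhs => unfold lin
  rw [Finset.mul_sum]
  refine Finset.sum_congr rfl fun j _ => ?_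
  rw [mul_smul_comm, hM, smul_mul_assoc]

/-- **Frobenius subgroups** -/
theorem frob_of {p : ℕ} (hp : p.Prime) (hr : ∀ j, r j < 72) (hinj : Function.Injective r)
    (h0 : ∀ i j, Nm (ZMod 5) (r i) * Nm (ZMod 5) (r j) = 0) (hn : 0 < n) (z : Zgrp (ZMod 5)) (hz : z ^ p = 1)
    (M M' : Matrix (Fin n) (Fin n) (ZMod 5))
    (hM : ∀ j, ((z : GL I27 (ZMod 5)) : Matrix I27 I27 (ZMod 5)) * Nm (ZMod 5) (r j) =
      lin r (fun i => M i j) * ((z : GL I27 (ZMod 5)) : Matrix I27 I27 (ZMod 5)))
    (hM' : M' * (M - 1) = 1) :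
    ∃ (A : Subgroup L5) (z : L5), Nat.card A = 5 ^ n ∧ orderOf z = p ∧ (∀ a ∈ A, z * a * z⁻¹ ∈ A) ∧
      ∀ i, 0 < i → i < p → ∀ a ∈ A, z ^ i * a = a * z ^ i → a = 1 := by
  have hfree : ∀ v, M *ᵥ v = v → v = 0 := by
    intro v hv
    have h1 : (M - 1) *ᵥ v = 0 := by rw [Matrix.sub_mulVec, Matrix.one_mulVec, hv, sub_self]
    calc v = (1 : Matrix (Fin n) (Fin n) (ZMod 5)) *ᵥ v := (Matrix.one_mulVec v).symm
      _ = M' *ᵥ ((M - 1) *ᵥ v) := by rw [Matrix.mulVec_mulVec, hM']
      _ = 0 := by rw [h1, Matrix.mulVec_zero]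
  -- conjugation in `Zgrp`
  have hconj : ∀ v, z * phi hr h0 v = phi hr h0 (Multiplicative.ofAdd (M *ᵥ (Multiplicative.toAdd v))) * z := by
    intro v
    apply Subtype.ext
    apply Units.ext
    show ((z : GL I27 (ZMod 5)) : Matrix I27 I27 (ZMod 5)) * (1 + lin r (Multiplicative.toAdd v)) =
      (1 + lin r (M *ᵥ (Multiplicative.toAdd v))) * ((z : GL I27 (ZMod 5)) : Matrix I27 I27 (ZMod 5))
    rw [mul_add, add_mul, mul_one, one_mul, lin_conj hM]
  have hphi : Function.Injective (phi hr h0) := by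
    intro v w h
    have h1 : 1 + lin r (Multiplicative.toAdd v) = 1 + lin r (Multiplicative.toAdd w) :=
      congrArg (fun g : Zgrp (ZMod 5) => ((g : GL I27 (ZMod 5)) : Matrix I27 I27 (ZMod 5))) h
    exact lin_injective hr hinj (add_left_cancel h1)
  have hw₀ : (Multiplicative.ofAdd (Pi.single ⟨0, hn⟩ 1) : Multiplicative (Fin n → ZMod 5)) ≠ 1 := by
    intro h2
    have h3 : (Pi.single ⟨0, hn⟩ 1 : Fin n → ZMod 5) ⟨0, hn⟩ = 0 := congrFun h2 ⟨0, hn⟩
    rw [Pi.single_eq_same] at h3
    exact absurd h3 (by decide)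
  obtain ⟨A, y, h1, h2⟩ := frob_abs (ad (ZMod 5)) ker_ad (phi hr h0) hphi hp z hz
    (fun v => Multiplicative.ofAdd (M *ᵥ (Multiplicative.toAdd v))) hconj (fun w h => hfree _ h) hw₀
  refine ⟨A, y, ?_, h2⟩
  rw [h1, Nat.card_eq_fintype_card, Fintype.card_multiplicative]
  simp [ZMod.card]

end general

/-! ### packed matrices -/

/-- entry of a packed matrix (3 bits per entry) -/
def eN (A i j : ℕ) : ℕ := (A >>> (3 * (27 * i + j))) &&& 7

/-- dot product of a row and a column -/
def dotN (A B i j : ℕ) : ℕ := Nat.rec 0 (fun k acc => eN A i k * eN B k j + acc) 27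

/-- check of a product -/
def mulCheck (A B C : ℕ) : Bool := allLt 27 fun i => allLt 27 fun j => dotN A B i j % 5 == eN C i j

/-- the matrix -/
def ofN (A : ℕ) : Matrix I27 I27 (ZMod 5) := Matrix.of fun x y => ((eN A (code x) (code y) : ℕ) : ZMod 5)

theorem ofN_apply (A : ℕ) (x y : I27) : ofN A x y = ((eN A (code x) (code y) : ℕ) : ZMod 5) := rfl

/-- the indices -/
def eI : I27 ≃ Fin 27 where
  toFun x := ⟨code x, code_lt x⟩
  invFun k := dec k
  left_inv := dec_code
  right_inv k := Fin.ext (code_dec k.2)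

theorem sum_I27 {R : Type*} [AddCommMonoid R] (f : I27 → R) : ∑ x, f x = ∑ k ∈ Finset.range 27, f (dec k) := by
  rw [Finset.sum_range fun k => f (dec k)]
  exact Fintype.sum_equiv eI _ _ fun x => congrArg f (dec_code x).symm

theorem sum_rec (f : ℕ → ℕ) (n : ℕ) :
    (Nat.rec 0 (fun k acc => f k + acc) n : ℕ) = ∑ k ∈ Finset.range n, f k := by
  induction n with
  | zero => rfl
  | succ n ih =>
    rw [Finset.sum_range_succ, ← ih]
    exact Nat.add_comm _ _

theorem dotN_eq (A B i j : ℕ) : dotN A B i j = ∑ k ∈ Finset.range 27, eN A i k * eN B k j := by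
  unfold dotN
  exact sum_rec (fun k => eN A i k * eN B k j) 27

theorem cast_eq_of_mod {a b : ℕ} (h : a % 5 = b) : (a : ZMod 5) = (b : ZMod 5) := by
  rw [← h, ZMod.natCast_mod]

theorem ofN_mul {A B C : ℕ} (h : mulCheck A B C = true) : ofN A * ofN B = ofN C := by
  ext x y
  have h1 := allLt_spec (allLt_spec h _ (code_lt x)) _ (code_lt y)
  rw [beq_iff_eq] at h1
  rw [Matrix.mul_apply, ofN_apply, ← cast_eq_of_mod h1, dotN_eq, sum_I27, Nat.cast_sum]
  refine Finset.sum_congr rfl fun k hk => ?_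
  rw [ofN_apply, ofN_apply, code_dec (Finset.mem_range.mp hk), Nat.cast_mul]

private noncomputable def eF_h86 (A i j : ℕ) : ℕ := Nat.land (Nat.shiftRight A (Nat.mul 3 (Nat.add (Nat.mul 27 i) j))) 7

/-- the places of a row which are not zero -/
private noncomputable def nz_h86 (A i n : ℕ) : List ℕ :=
  @Nat.rec (fun _ => List ℕ) [] (fun k acc => @Nat.rec (fun _ => List ℕ) acc (fun _ _ => k :: acc) (eF_h86 A i k)) n

private noncomputable def sm_h86 (A B i j : ℕ) (l : List ℕ) : ℕ :=
  @List.rec ℕ (fun _ => ℕ) 0 (fun k _ ih => Nat.add (Nat.mul (eF_h86 A i k) (eF_h86 B k j)) ih) l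

private theorem sm_eq_h86 (A B i j : ℕ) : ∀ n : ℕ,
    (Nat.rec 0 (fun k acc => eN A i k * eN B k j + acc) n : ℕ) = sm_h86 A B i j (nz_h86 A i n)
  | 0 => rfl
  | n + 1 => by
    show eF_h86 A i n * eF_h86 B n j + _ =
      sm_h86 A B i j (@Nat.rec (fun _ => List ℕ) (nz_h86 A i n) (fun _ _ => n :: nz_h86 A i n) (eF_h86 A i n))
    rw [sm_eq_h86 A B i j n]
    cases h : eF_h86 A i n with
    | zero => rw [Nat.zero_mul, Nat.zero_add]; rfl
    | succ m => exact (congrArg (fun x => x * eF_h86 B n j + sm_h86 A B i j (nz_h86 A i n)) h).symm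

private noncomputable def mc_h86 (A B C : ℕ) : Bool :=
  allLt 27 fun i => allLt 27 fun j => Nat.beq (Nat.mod (sm_h86 A B i j (nz_h86 A i 27)) 5) (eF_h86 C i j)

private theorem mc_eq_h86 : mulCheck = mc_h86 := by
  have h : ∀ a b : ℕ, (a == b) = Nat.beq a b := fun a b => by
    cases h : Nat.beq a b
    · exact beq_false_of_ne (Nat.ne_of_beq_eq_false h)
    · exact beq_iff_eq.2 (Nat.eq_of_beq_eq_true h)
  funext A B C
  refine congrArg (allLt 27) (funext fun i => congrArg (allLt 27) (funext fun j => (h _ _).trans ?_))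
  exact congrArg (fun x => Nat.beq (Nat.mod x 5) (eF_h86 C i j)) (sm_eq_h86 A B i j 27)

/-- the value of the entry of `N_r` as a natural number modulo 5 -/
def sgM (r j : ℕ) : ℕ := if ent r j < 32 then 0 else if ent r j < 64 then 1 else 4

theorem cast_sgM (r j : ℕ) : ((sgM r j : ℕ) : ZMod 5) = ((sgN r j : ℤ) : ZMod 5) := by
  unfold sgM sgN
  split_ifs
  · rfl
  · rfl
  · decide

/-- check of `A = z_r(t) B` -/
def rowCheck (r t A B : ℕ) : Bool :=
  allLt 27 fun i => allLt 27 fun j => (eN B i j + t * (sgM r i * eN B (srN r i) j)) % 5 == eN A i j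

theorem ofN_row {r t A B : ℕ} (hr : r < 72) (h : rowCheck r t A B = true) :
    zM r (t : ZMod 5) * ofN B = ofN A := by
  ext x y
  have h1 := allLt_spec (allLt_spec h _ (code_lt x)) _ (code_lt y)
  rw [beq_iff_eq] at h1
  rw [zM_def, add_mul, one_mul, smul_mul_assoc, Matrix.add_apply, Matrix.smul_apply, Nm_mul_apply, ofN_apply,
    ofN_apply, ofN_apply, ← cast_eq_of_mod h1, smul_eq_mul, code_sr hr]
  push_cast
  rw [cast_sgM]
  rfl

/-- check of `N_r` -/
def nmCheck (r A : ℕ) : Bool :=
  allLt 27 fun i => allLt 27 fun j => eN A i j == (if j = srN r i then sgM r i else 0)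

theorem ofN_nm {r A : ℕ} (hr : r < 72) (h : nmCheck r A = true) : Nm (ZMod 5) r = ofN A := by
  ext x y
  have h1 := allLt_spec (allLt_spec h _ (code_lt x)) _ (code_lt y)
  rw [beq_iff_eq] at h1
  have h2 : (y = sr r x) ↔ code y = srN r (code x) := by rw [← code_sr hr, code_eq_iff]
  rw [Nm_apply, ofN_apply, h1]
  by_cases h3 : y = sr r x
  · rw [if_pos h3, if_pos (h2.mp h3), cast_sgM]; rfl
  · rw [if_neg h3, if_neg (fun h => h3 (h2.mpr h))]; simp

/-- check of the identity -/
def oneCheck (A : ℕ) : Bool := allLt 27 fun i => allLt 27 fun j => eN A i j == (if i = j then 1 else 0)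

theorem ofN_one {A : ℕ} (h : oneCheck A = true) : (1 : Matrix I27 I27 (ZMod 5)) = ofN A := by
  ext x y
  have h1 := allLt_spec (allLt_spec h _ (code_lt x)) _ (code_lt y)
  rw [beq_iff_eq] at h1
  rw [ofN_apply, h1, Matrix.one_apply]
  by_cases h3 : x = y
  · rw [if_pos h3, if_pos (congrArg code h3)]; simp
  · rw [if_neg h3, if_neg (fun h => h3 (code_injective h))]; simp

/-- the entry of a combination of the `N_r` -/
def lcN (r : List (ℕ × ℕ)) (i j : ℕ) : ℕ :=
  List.rec 0 (fun a _ acc => (if j = srN a.1 i then a.2 * sgM a.1 i else 0) + acc) r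

theorem lcN_nil (i j : ℕ) : lcN [] i j = 0 := rfl

theorem lcN_cons (a : ℕ × ℕ) (r : List (ℕ × ℕ)) (i j : ℕ) :
    lcN (a :: r) i j = (if j = srN a.1 i then a.2 * sgM a.1 i else 0) + lcN r i j := rfl

/-- check of a combination of the `N_r` -/
def lcCheck (r : List (ℕ × ℕ)) (A : ℕ) : Bool :=
  allLt 27 fun i => allLt 27 fun j => lcN r i j % 5 == eN A i j

theorem ofN_lc {r : List (ℕ × ℕ)} (hr : ∀ a ∈ r, a.1 < 72) {A : ℕ} (h : lcCheck r A = true) :
    (r.map fun a => ((a.2 : ℕ) : ZMod 5) • Nm (ZMod 5) a.1).sum = ofN A := by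
  ext x y
  have h1 := allLt_spec (allLt_spec h _ (code_lt x)) _ (code_lt y)
  rw [beq_iff_eq] at h1
  rw [ofN_apply, ← cast_eq_of_mod h1]
  clear h1 h
  induction r with
  | nil => simp [lcN_nil]
  | cons a r ih =>
    rw [List.map_cons, List.sum_cons, Matrix.add_apply, ih (fun b hb => hr b (List.mem_cons_of_mem _ hb)), lcN_cons,
      Nat.cast_add, Matrix.smul_apply, Nm_apply, smul_eq_mul]
    congr 1
    have h2 : (y = sr a.1 x) ↔ code y = srN a.1 (code x) := by
      rw [← code_sr (hr a List.mem_cons_self), code_eq_iff]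
    by_cases h3 : y = sr a.1 x
    · rw [if_pos h3, if_pos (h2.mp h3), Nat.cast_mul, cast_sgM]; rfl
    · rw [if_neg h3, if_neg (fun h => h3 (h2.mpr h))]; simp

/-- check of `N_r N_s = 0` -/
def zeroCheck (r s : ℕ) : Bool := allLt 27 fun i => sgN r i * sgN s (srN r i) == 0

theorem nm_mul_nm {r s : ℕ} (hr : r < 72) (h : zeroCheck r s = true) :
    Nm (ZMod 5) r * Nm (ZMod 5) s = 0 := by
  ext x y
  have h1 := allLt_spec h _ (code_lt x)
  rw [beq_iff_eq] at h1
  rw [Nm_mul_Nm, sg_sr hr]
  have h2 : sg r x * sgN s (srN r (code x)) = 0 := h1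
  rw [h2]
  simp

theorem pow_of_sq {G : Type*} [Group G] {z : G} {k : ℕ} (h : z ^ (k + 1) = z) : z ^ k = 1 := by
  rw [pow_succ] at h
  exact mul_eq_right.mp h

end Cfsg.Agent.H65.E65
end

-- part: H65/E65/FrobData
section
/-!
# S3650: Frobenius subgroups of `E₆(5)`, data (helper65)
-/

set_option autoImplicit false

namespace Cfsg.Agent.H65.E65

/-! ### order 31 -/

/-- partial product -/
def aw0 : ℕ := 0x1000000000000000000001000000000000000000001000000000000000000001000000000000000000001000000000000000000001000000000000000000001000000000000000000001000000000000000000001000000000000000000001000000000000000000001000000000000000000001000000000000000000001000000000000000000001000000000000000000001000000000000000000001000000000000000000001000000000000000000001000000000000000000001000000000000000000001000000000000000000001000000000000000000001000000000000000000001000000000000000000001000000000000000000001000000000000000000001000000000000000000001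

/-- partial product -/
def aw1 : ℕ := 0x1000000000000000000001000000000000000000001000000000000000000001000003000000000000001000000000000000000001000000000000000000001002000000000000000001000000000000000000001000000000000000000001000000000000000000001000000000000000000001000000000000000000001000003000000000000001000000000000000000001000000000000000000001002000000000000000001000000000000000000001000000000000000000001000000000000000000001000000000000000000001000000600000000000001000000000000000000001000000000000000000001000400000000000000001000000000000000000001000000000000000000001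

/-- partial product -/
def aw2 : ℕ := 0x1000000000000000000002000000000000000018002000000000000010000001000003000000000000001000000000000000000001000000000000000000001002000000000000000001000000000000000000001000000000000000000001000000000000000003002000000000000002000002000000000000000000001000003000000000000001000000000000000000001000000000000000000001002000000000000000001000000000000000000001000000000000000000001000000000000000003002000000000000002000002000000600000000000001000000000000000000001000000000000000000001000400000000000000001000000000000000000001000000000000000000001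

/-- partial product -/
def aw3 : ℕ := 0x1200000000000000004002000000000000000018002000000000000010000001600003000000000000001000000000000000000001000000000000000000001602000000000000000001000000000000000000001000000000000000000001000000000000000003002000000000000002000002000000000000000000001000003000000000000001000000000000000000001000000000000000000001002000000000000000001000000000000000000001000000000000000000001000000000000000003002000000000000002000002000000600000000000401000000000000000200801000000000000800000801000400000000000000001000000000000000000001000000000000000000001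

/-- partial product -/
def aw4 : ℕ := 0x1200000000000000004014000000000000000008002000000000000010000001600003000000000000012000008000000000000001000000000000000000001602000000000000000012020000000000000000001000000000000000000001000000000000000003002000000000000002000002000000000000000000001000003000000000000001000000000000000000001000000000000000000001002000000000000000001000000000000000000001000000004000000000002018000000000000001004018000000000004000004018000600000000000401000000000000000200801000000000000800000801000400000000000000001000000000000000000001000000000000000000001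

/-- power -/
def ap2 : ℕ := 0x3600000000000000004000000000000000000018000000000000004008000003800002000000000000018000000000000000000001000000000000000000003803000000000000000018000000000000000000001000000000000000000001000000000000000004800000000000000001200000000000000000000000003000000020000000000001000000000000000000001000000000000000000003000008000000000000001000000000000000000001000000000000000000000010000000000000003000000000000000002000000000000400000000000203000000000000000200403000000000000800000403004000000000000000003000000000000000000001000000000000000000001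

/-- power -/
def ap4 : ℕ := 0x800000000000000003010000000000000000020002000000000001008000003800001000000000000022000008000000000000001000000000000000000003804000000000000000022020000000000000000001000000000000000000001000000000000000004202000000000000001800002000000000000000000000000003020000000000001000000000000000000001000000000000000000000002008000000000000001000000000000000000001000000004000000000002008000000000000004000018000000000001000000018000200000000000203000000000000000400200000000000000600000200004400000000000000000000000000000000000001000000000000000000001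

/-- power -/
def ap8 : ℕ := 0x20000000000000000100900000000000000000800400000000000000800000180000400000000000000c00001800000000000000100000000000000000000180100000000000000000c010000000000000000001000000000000000000001000000000000000004004000000000000001000004000000000000000000000000004020000000000001000000000000000000001000000000000000000000001008000000000000001000000000000000000001000000002000000000004020000000000000001001020000000000004000001020000800000000000201000000000000000800800000000000000200000800004200000000000000000000000000000000000001000000000000000000001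

/-- power -/
def ap16 : ℕ := 0x400000000000000001003000000000000000010000000000000001000000004000002000000000000018000018000000000000001000000000000000000004003000000000000000018010000000000000000001000000000000000000001000000000000000000200000000000000000800000000000000000000000000000000008000000000001000000000000000000001000000000000000000000000020000000000000001000000000000000000001000000002000000000000010000000000000002003000000000000003000003000000400000000000004000000000000000800600000000000000200000600001000000000000000000000000000000000000001000000000000000000001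

/-- the matrix of the root vector 56 -/
def an0 : ℕ := 0x800000000000000000000000000000000000000000000000000000000000000800000000000000000000000000000000000000000000000000000000000000800000000000000000000000000000000000000000000000000000000000000000000000000000000000000000000000000000000000000000000000000000000000000000000000000000000000000000000000000000000000000000000000000000000000000000000000000000000000000000000000000000000000000000000000000000000000000000000000000000000000000000000000000000000000000000000000000000000000000000200000000000000000000200000000000000000000200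

/-- its image -/
def ab0 : ℕ := 0x800000000000000000006000000000000000000000000000000000000000000800000000000000000006000000000000000000000000000000000000000000800000000000000000006000000000000000000000000000000000000000000000000000000000000000000000000000000000000000000000000000000000000000000000000000000000000000000000000000000000000000000000000000000000000000000000000000000000000000000000000000000000000000000000000000000000000000000000000000000000000000000000000000000000000000000000000000000000000000000000000000000000000000c04000000000000000000c04000000000000000000c0400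

/-- the product -/
def ac0 : ℕ := 0x1000000000000008000002000000000000010000000000000000000000000000800000000000000000006000000000000000000000000000000000000000000800000000000000000006000000000000000000000000000000000000000000000000000000000000000000000000000000000000000000000000000000000000000000000000000000000000000000000000000000000000000000000000000000000000000000000000000000000000000000000000000000000000000000000000000000000000000000000000000000000000000000000000000000000000000000000000000000000000000000000000000c0000000000000200000000000000000000200000000000000000000200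

/-- the matrix of the root vector 57 -/
def an1 : ℕ := 0x40000000000000000000000000000000000000000000000000000000000000040000000000000000000000000000000000000000000000000000000000000040000000000000000000000000000000000000000000000000000000000000000000000000000000000000000000000000000000000000000000000000000000000000000000000000000000000000000000000000000000000000000000000000000000000000000000000000000000000000000000000000000000000000000000000000000000000000000000000000000000000000000000000000000000000000000000000000000000000000000000000000000000000100000000000000000000100000000000000000000100000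

/-- its image -/
def ab1 : ℕ := 0x400000000000006000004000000000004000000000000000000000000000000400000000000000000004000000000000000000000000000000000000000000400000000000000000004000000000000000000000000000000000000000000000000000000000000c00000000000000000800000000000000000000000000000000000000000000000000000000000000000000000000000000000000000000000000000000000000000000000000000000000000000000000000000000000000000000000000000000000000000000000000000000000000000000000000000000000000000000000000000000000000000000000000000001006000000000000000c0100600000000000080000100600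

/-- the product -/
def ac1 : ℕ := 0x400000000000400000004000000000008000000000000000000000000000000400000000000000000004000000000000000000000000000000000000000000400000000000000000004000000000000000000000000000000000000000000000000000000000000c0000000000000000080000000000000000000000000000000000000000000000000000000000000000000000000000000000000000000000000000000000000000000000000000000000000000000000000000000000000000000000000000000000000000000000000000000000000000000000000000000000000000000000000000000000000000000000000000000100000000000000000000100000000000000000000100000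

/-- the matrix of the root vector 58 -/
def an2 : ℕ := 0x200000000000000000800000000000000000000000000000000000000000000000000000000000000000000000000000000000000000000000000000000000000000000000000000000000000000000000000000000000000000000000000000040000000000000000100000000000000000000000000000000000000000000000000000000000000000000000000000000000000000000000000000000000000000000000000000000000000000000000000000000000000000000000000000000000000000000000000000000000000000000000000000000000000000000000000000000000000000000000000000000000000000000000000040000000000000000100000000000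

/-- its image -/
def ab2 : ℕ := 0x800000000000004000008000000000006000000000000000000000000000000800000000000000000008000000000000000000000000000000000000000000800000000000000000008000000000000000000000000000000000000000000000000000000000000800000000000000000c00000000000000000000000000000000000000000000000000000000000000000000000000000000000000000000000000000000000000000000000000000000000000000000000000000000000000000000000000000000000000000000000000000000000000000000000000000000000000000000000000000000000000000000000000000000c02000000000000000800c02000000000000c00000c0200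

/-- the product -/
def ac2 : ℕ := 0x1002000000000000000002020000000000000000000000000000800000000000000000008000000000000000000000000000000000000000000800000000000000000008000000000000000000000000000000000000000000000000000000000000800000000000000000c00000000000000000000000000000000000000000000000000000000000000000000000000000000000000000000000000000000000000000000000000000000000000000000000000000000000000000000000000000000000000000000000000000000000000000000000000000000000000000000000000000000000000000000000000000000c0000000000000000040000000000000000100000000000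

/-! ### order 71 -/

/-- partial product -/
def bw0 : ℕ := 0x1000000000000000000001000000000000000000001000000000000000000001000000000000000000001000000000000000000001000000000000000000001000000000000000000001000000000000000000001000000000000000000001000000000000000000001000000000000000000001000000000000000000001000000000000000000001000000000000000000001000000000000000000001000000000000000000001000000000000000000001000000000000000000001000000000000000000001000000000000000000001000000000000000000001000000000000000000001000000000000000000001000000000000000000001000000000000000000001000000000000000000001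

/-- partial product -/
def bw1 : ℕ := 0x1000000000000000000009000000000000000000001000000000000000000001000000000000000000009000000000000000000001000000000000000000001000000000000000000009000000000000000000001000000000000000000001000000000000000000001000000000000000000001000000000000000000001000000000000000000001000000000000000000001000000000000000000001000000000000000000001000000000000000000001000000000000000000001020000000000000000001020000000000000000001020000000000000000001000000000000000000001000000000000000000001000000000000000000001000000000000000000001000000000000000000001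

/-- partial product -/
def bw2 : ℕ := 0x1000000000000000000009000000000000000008001000000000000020000001000000000000000000009000000000000000000001000000000000000000001000000000000000000009000000000000000000001000000000000000000001000000000000000001001000000000000004000001000000000000000000001000000000000000000001000000000000000000001000000000000000000001000000000000000000001000000000000000000001000000000000000000001020000000000000001001020000000000004000001020000000000000000001000000000000000000001000000000000000000001000000000000000000001000000000000000000001000000000000000000001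

/-- partial product -/
def bw3 : ℕ := 0x1000000000000000000009000000000000000008001000000000000020000003000003000000000000009000000000000000000001000000000000000000003002000000000000000009000000000000000000001000000000000000000001000000000000000001001000000000000004000001000000000000000000003000003010000000000001000000000000000000001000000000000000000003002018000000000000001000000000000000000001000000000000000000001020000000000000001001020000000000004000001020000600000000000003000000000000000000001000000000000000000001002400000000000000003000000000000000000001000000000000000000001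

/-- partial product -/
def bw4 : ℕ := 0x10000000000000000000090000000000000000080010000000000000200000030000030000000000000090000000000000000000010000000000000000000030020000000000000000090000000000000000000010000000000000000000010000000000000000010010000000000000040000010000000000000000000030080230500000000000010100000000000000000010100000000000000000030020180000000000000010000000000000000000010000000000000000000010200000000000000010010200000000000040180190a0000600000000000003000000000000000000001000000000000000000019002400000000000000003000000000000000000001000000000000000000019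

/-- partial product -/
def bw5 : ℕ := 0x22000000000000000010090000000000000000080010000000000000200000042000030000000000000090000000000000000000010000000000000000000042020000000000000000090000000000000000000010000000000000000000010000000000000000010010000000000000040000010000000000000000000030080230500000000000010100000000000000000010100000000000000000030020180000000000000010000000000000000000010000000000000000000010200000000000000010010200000000000040180190a000060000000000080400000000000000080080200000000000020200280a002400000000000000003000000000000000000001000000000000000000019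

/-- partial product -/
def bw6 : ℕ := 0x220000000000000000100900000000000000000800100000000000002000000420000300000000000000900000000000000000000100000000000000000000420200000000000000000900000000000000000000100000000000000000000100000000000000000100100000000000000400000100000000000000000000300802305000000000000101000000000000000000101000000000000000040200341300000000000080400000000000000000080400000000000000000000102000000000000080400420c0000000000040180190a000060000000000080400000000000004020030340000000000020200280a002400000000000000003000000000000000000004200000000000000000019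

/-- partial product -/
def bw7 : ℕ := 0x220000000000000000100900000000000000000800100000000000002000000420000300000000000000900000000000000000000100000000000000000000420200000000000000000900000000000000000000100000000000000000000100000000000000000100100000000000000400000100000000000000000020300802305000000020020101000000000080000020101000000000000000040200341300000000000080400000000000000000080400000000000000004020132420000000000080400420c0000000000040180190a000060000002010090c4c000000000004020030340000000000020200280a002400000000000000003300000000000000000004200000000000000000019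

/-- partial product -/
def bw8 : ℕ := 0x22000000000000000010090000000000000000080010000000000000200000042000030000000000000090000000000000000000010000000000000000000042020000000000000000090000000000000000000010000000000000000000020180401182800000020020080800000000030000020080800000000000002030080230500000002002010100000000008000002010100000000000000004020034130000000000008040000000000000000008040000000000000000402013242000000000006030234530000000000040180190a000060000002010090c4c00020000000804014c980000000000020200280a00240000000000000000331b000000000000000013400000000000000000019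

/-- power -/
def bp2 : ℕ := 0x20000000000000000013040000000000000000018030000000402013034000010000030180400000000020000180000000000000010000000000000000000010020101000000000000020100000000000000000010000000000000004000020001004208000000034040081000000000026000040081000000000800000020180890d80000004400000100000000007000000000100000000200000808010242090000001001000040000000000400001000040000000000000080000008000000100000c04020146130001000008040201221080008000040180806d02400020000101002048628000100000406040242c30006000000000000000006d400000000000000001a320000000000000000052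

/-- power -/
def bp4 : ℕ := 0x260000000000000000401900000000000000001400300000000020241a0000022000040080c000000000b0000180c040000000000100000000000000000000220102008000000000000b0100806000000000000010000000000000000000030001008d14c00000036020000400000000024000020000400000000000008000100cc2980000000808040080000000000c00008040080000000200001000020010910000000980004030000000000d00000004030000000000000200c04002424000200000c02010034840000000008030000a18d00004000000200006120800020000000c020150280000000000080402351a0032000000000000000020520000000000000000214000000000000000000a1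

/-- power -/
def bp8 : ℕ := 0x6000000000000000025180000000000000000230010000180406028094000024000030000800000000140000080402000000000010000000000000000000024020000c00000000000140201008000000000000010000000000000008000030180006a42c00000022030000000000000038000030000000000000c00002040080630d80000003006020100000000008400006020100000000100000c080100a8120000000e00406040000000000880000406040000000010000200c04028012000100001006040230890000000006010080000d00000000010081008200000020000101004044928000100000008030214940004000000000000000006e400000000000000001a700000000000000000099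

/-- power -/
def bp16 : ℕ := 0x34000000000000000012540000000000000000046030000200808018906000012000040181000000000090000101008000000000010000000000000000000012010100400000000000090180402000000000000010000000000000000000020200002832000000022020200000000000038000020200000000000800008030000525180000008800010080000000002c00000010080000000080000000000232540000000480c08020000000001200000c08020000000040000001006022a32000200000006010246e30000800008020200444e000080000402008021c6400010000180c08044cc00001800004060100285800040000000000000000329100000000000000000a85800000000000000011a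

/-- power -/
def bp32 : ℕ := 0x100000000000000000148300000000000000001820300001000080291080000360000101010000000001b00001000000000000000100000000000000000000360401804000000000001b0180000000000000000010000000000000006000000000006da48000000360401008000000000240000401008000000010000080202010131000000030060002000000000084000060002000000000800008020200a7010000000400404000000000001000000404000000000010000080c04015206000100000808040140c10001000002020101112100008000030200802907000010000000806046d120002000000020400a48000320000000000000000380c00000000000000001b688000000000000000124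

/-- power -/
def bp64 : ℕ := 0x20000000000000000304b0000000000000000114040000200406033182000044000030080800000000120000100002000000000010000000000000000000044020200c000000000001201800080000000000000100000000000000060000400810080b6000000046000081000000000014000000081000000000000004010201226e00000007004020100000000004400004020100000000100000006000088040000000e01000010000000000880001000010000000040000200406026c16000180000804020202210001000004040080504e000020000000000081a1000040000000c00020d82000080000c080100a88400140000000000000000212000000000000000001845000000000000000001b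

/-- the matrix of the root vector 56 -/
def bn0 : ℕ := 0x800000000000000000000000000000000000000000000000000000000000000800000000000000000000000000000000000000000000000000000000000000800000000000000000000000000000000000000000000000000000000000000000000000000000000000000000000000000000000000000000000000000000000000000000000000000000000000000000000000000000000000000000000000000000000000000000000000000000000000000000000000000000000000000000000000000000000000000000000000000000000000000000000000000000000000000000000000000000000000000000200000000000000000000200000000000000000000200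

/-- its image -/
def bb0 : ℕ := 0x100000000000000000000800000000000000000000000000000000000000000100000000000000000000800000000000000000000000000000000000000000100000000000000000000800000000000000000000000000000000000000000000000000000000000000000000000000000000000000000000000000000000000000000000000000000000000000000000000000000000000000000000000000000000000000000000000000000000000000000000000000000000000000000000000000000000000000000000000000000000000000000000000000000000000000000000000000000000000000000000000000000000000000040200000000000000000040200000000000000000040200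

/-- the product -/
def bc0 : ℕ := 0x1000000000000002000008000000000000010000000000000000000000000001000000000000000000008000000000000000000000000000000000000000001000000000000000000008000000000000000000000000000000000000000000000000000000000000000000000000000000000000000000000000000000000000000000000000000000000000000000000000000000000000000000000000000000000000000000000000000000000000000000000000000000000000000000000000000000000000000000000000000000000000000000000000000000000000000000000000000000000000000000000000000c0000000000000660000400000000000002680000000000000000003200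

/-- the matrix of the root vector 57 -/
def bn1 : ℕ := 0x40000000000000000000000000000000000000000000000000000000000000040000000000000000000000000000000000000000000000000000000000000040000000000000000000000000000000000000000000000000000000000000000000000000000000000000000000000000000000000000000000000000000000000000000000000000000000000000000000000000000000000000000000000000000000000000000000000000000000000000000000000000000000000000000000000000000000000000000000000000000000000000000000000000000000000000000000000000000000000000000000000000000000000100000000000000000000100000000000000000000100000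

/-- its image -/
def bb1 : ℕ := 0x1000000000000004400002000000000007000000000000000000000000000001000000000000000000002000000000000000000000000000000000000000001000000000000000000002000000000000000000000000000000000000000000000000000000000000800000000000000000c00000000000000000000000000000000000000000080000000000000000200000000000000000000000000000000000000000000000000000000000000000000000000000000000000000000000000000000000000000000000000000000000000000000000000000000000000000000000000000000000000000000000000000000000000000200408000000000000000800408000000000080c0000040800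

/-- the product -/
def bc1 : ℕ := 0x800000000001000000002000000000008000000000000000000000000000001000000000000000000002000000000000000000000000000000000000000001000000000000000000002000000000000000000000000000000000000000000000000000000000000800000000000000000c00000000000000000000000000000000000000000080000000000000000200000000000000000000000000000000000000000000000000000000000000000000000000000000000000000000000000000000000000000000000000000000000000000000000000000000000000000000000000000000000000000000000000000000800000000000a1000000600000000000698000000000000000000500000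

/-- the matrix of the root vector 58 -/
def bn2 : ℕ := 0x200000000000000000800000000000000000000000000000000000000000000000000000000000000000000000000000000000000000000000000000000000000000000000000000000000000000000000000000000000000000000000000000040000000000000000100000000000000000000000000000000000000000000000000000000000000000000000000000000000000000000000000000000000000000000000000000000000000000000000000000000000000000000000000000000000000000000000000000000000000000000000000000000000000000000000000000000000000000000000000000000000000000000000000040000000000000000100000000000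

/-- its image -/
def bb2 : ℕ := 0x800000000000004400000000000000007000000000000000000000000000000800000000000000000000000000000000000000000000000000000000000000800000000000000000000000000000000000000000000000000000000000000000000000000000000800000000000000000c00000000000000000000000000000000000000000080000000000000000200000000000000000000000000000000000000000000000000000000000000000000000000000000000000000000000000000000000000000000000000000000000000000000000000000000000000000000000000000000000000000000000000000000000000000200c00000000000000000800c00000000000080c00000c0000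

/-- the product -/
def bc2 : ℕ := 0x1004000000000000000008010000000000000000000000000000800000000000000000000000000000000000000000000000000000000000000800000000000000000000000000000000000000000000000000000000000000000000000000000000800000000000000000c00000000000000000000000000000000000000000080000000000000000200000000000000000000000000000000000000000000000000000000000000000000000000000000000000000000000000000000000000000000000000000000000000000000000000000000000000000000000000000000000000000000000000000000000000010080c04000000000000180c0403000000000000100600000000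

/-- the matrix of the root vector 59 -/
def bn3 : ℕ := 0x100000000000000000040000000000000000000000000000000000000000000000000000000000000000000000000000000000000000000000000000000000000000000000000000000000000000000000000000000000000000000000000000000000000000000000000000000000000000000000000000000000000000020000000000000000008000000000000000000000000000000000000000000000000000000000000000000000000000000000000000000000000000000000000000000000000000000000000000000000000000000000000000000000000000000000000000000000000000000000000000008000000000000000000000000000000000020000000000000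

/-- its image -/
def bb3 : ℕ := 0x908000000000000000260000000000000000000000000000000000000000000000000000000000000000000000000000000000000000000000000000000000000000000000000000000000000000000000000000000000000000000000000000100000000000000000040000000000000000000000000000000000000000020000000000000000008000000000000000000000000000000000000000001000000000000000004000000000000000000000000000000000000000000000000000000000000000000000000000000000000000000000000000000000000000000000000000000000000000000000000001008000000000000004000100000000000000020040000000000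

/-- the product -/
def bc3 : ℕ := 0x80080c00000000000000400408000000000000000000000000000000000000000000000000000000000000000000000000000000000000000000000000000000000000000000000000000000000000000000000000000000000000000000000000001000000000000000000400000000000000000000000000000000000000000200000000000000000080000000000000000000000000000000000000000010000000000000000040000000000000000000000000000000000000000000000000000000000000000000000000000000000000000000000000000000000000000000000000000000000000000000000002000180100c00000000030000800c0400000000020000000000000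

/-- the matrix of the root vector 60 -/
def bn4 : ℕ := 0x8000000000000000020000000000000000000000000000000000000000000000000000000000000000000000000000000000000000000000000000000000000000000000000000000000000000000000000000000000000000000000000000000000000000000000000000000000000000000000000000000000000000000000000000000000000000000000000000000000000000000000000000001000000000000000004000000000000000000000000000000000000000000000000000000000000000000000000000000000000000000000000000000000000000000000000000000000000000000000000001000000000000000004000000000000000000000000000000000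

/-- its image -/
def bb4 : ℕ := 0x4a00000000000000006c80000000000000000000000000000000000000000000000000000000000000000000000000000000000000000000000000000000000000000000000000000000000000000000000000000000000000000000000000000800000000000000000c00000000000000000000000000000000000000000100000000000000000180000000000000000000000000000000000000000040000000000000000010000000000000000000000000000000000000000000000000000000000000000000000000000000000000000000000000000000000000000000000000000000000000000000000000040180000000000000010000800000000000000100c0000000000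

/-- the product -/
def bc4 : ℕ := 0x10000040100000000000080000200400000000000000000000000000000000000000000000000000000000000000000000000000000000000000000000000000000000000000000000000000000000000000000000000000000000000000000000000000800000000000000000c00000000000000000000000000000000000000000100000000000000000180000000000000000000000000000000000000000040000000000000000010000000000000000000000000000000000000000000000000000000000000000000000000000000000000000000000000000000000000000000000000000000000000000000000008030000030100000000020100000100c0000000010000000000000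

end Cfsg.Agent.H65.E65
end

-- part: H65/E65/FrobMain
section
/-!
# S3650: Frobenius subgroups `5³ : 31` and `5⁵ : 71` of `E₆(5)` (helper65)

`frob31`, `frob71`; `fixes_31`, `fixes_71` : on every nonzero elementary abelian `t`-group, `t ≠ 5`, on which `E₆(5)`
acts, some element of order `31` (`71`) has a fixed point.
-/

set_option autoImplicit false
set_option maxRecDepth 100000

namespace Cfsg.Agent.H65.E65

open Cfsg.Lie Cfsg.Agent.H163.E65 Cfsg.Agent.ChevalleyStructure.E6Min.Tables
  Cfsg.Agent.ChevalleyStructure.E6Min.Basic Cfsg.Agent.ChevalleyStructure.E6Min.Adjoint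
open scoped Matrix MatrixGroups

universe v

/-! ### order 31 -/

/-- the element -/
def az : GL I27 (ZMod 5) := zU 29 ((3 : ℕ) : ZMod 5) * zU 42 ((2 : ℕ) : ZMod 5) * zU 39 ((3 : ℕ) : ZMod 5) * zU 32 ((2 : ℕ) : ZMod 5)

theorem az_mem : az ∈ Zgrp (ZMod 5) :=
  (mul_mem (mul_mem (mul_mem (zU_mem _ _) (zU_mem _ _)) (zU_mem _ _)) (zU_mem _ _))

theorem az_coe : ((az : GL I27 (ZMod 5)) : Matrix I27 I27 (ZMod 5)) = ofN aw4 := by
  have h0 : zM 32 ((2 : ℕ) : ZMod 5) * ofN aw0 = ofN aw1 := ofN_row (by norm_num) (by decide +kernel)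
  have h1 : zM 39 ((3 : ℕ) : ZMod 5) * ofN aw1 = ofN aw2 := ofN_row (by norm_num) (by decide +kernel)
  have h2 : zM 42 ((2 : ℕ) : ZMod 5) * ofN aw2 = ofN aw3 := ofN_row (by norm_num) (by decide +kernel)
  have h3 : zM 29 ((3 : ℕ) : ZMod 5) * ofN aw3 = ofN aw4 := ofN_row (by norm_num) (by decide +kernel)
  have e : (1 : Matrix I27 I27 (ZMod 5)) = ofN aw0 := ofN_one (by decide +kernel)
  unfold az
  simp only [Units.val_mul]
  rw [coe_zU (show 29 < 72 by norm_num), coe_zU (show 42 < 72 by norm_num), coe_zU (show 39 < 72 by norm_num), coe_zU (show 32 < 72 by norm_num)]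
  simp only [mul_assoc]
  rw [← mul_one (zM 32 ((2 : ℕ) : ZMod 5)), e, h0, h1, h2, h3]

theorem az_pow : az ^ 31 = 1 := by
  have h2 : ofN aw4 * ofN aw4 = ofN ap2 := ofN_mul (by rewrite [mc_eq_h86]; decide +kernel)
  have h4 : ofN ap2 * ofN ap2 = ofN ap4 := ofN_mul (by rewrite [mc_eq_h86]; decide +kernel)
  have h8 : ofN ap4 * ofN ap4 = ofN ap8 := ofN_mul (by rewrite [mc_eq_h86]; decide +kernel)
  have h16 : ofN ap8 * ofN ap8 = ofN ap16 := ofN_mul (by rewrite [mc_eq_h86]; decide +kernel)
  have hl : ofN ap16 * ofN ap16 = ofN aw4 := ofN_mul (by rewrite [mc_eq_h86]; decide +kernel)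
  apply pow_of_sq
  apply Units.ext
  rw [Units.val_pow_eq_pow_val, az_coe]
  have g2 : ofN aw4 ^ 2 = ofN ap2 := by rw [pow_two, h2]
  have g4 : ofN aw4 ^ 4 = ofN ap4 := by rw [show 4 = 2 + 2 from rfl, pow_add, g2, h4]
  have g8 : ofN aw4 ^ 8 = ofN ap8 := by rw [show 8 = 4 + 4 from rfl, pow_add, g4, h8]
  have g16 : ofN aw4 ^ 16 = ofN ap16 := by rw [show 16 = 8 + 8 from rfl, pow_add, g8, h16]
  rw [show 31 + 1 = 16 + 16 from rfl, pow_add, g16, hl]

/-- the roots -/
def ar : Fin 3 → ℕ := ![56, 57, 58]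

theorem ah0 : ∀ i j, Nm (ZMod 5) (ar i) * Nm (ZMod 5) (ar j) = 0 := by
  intro i j
  refine nm_mul_nm ?_ ?_
  · revert i; decide
  · revert i j; decide +kernel

theorem ahM : ∀ j, ((az : GL I27 (ZMod 5)) : Matrix I27 I27 (ZMod 5)) * Nm (ZMod 5) (ar j) =
    lin ar (fun i => (!![2, 3, 1; 2, 1, 2; 0, 3, 2] : Matrix (Fin 3) (Fin 3) (ZMod 5)) i j) * ((az : GL I27 (ZMod 5)) : Matrix I27 I27 (ZMod 5)) := by
  intro j
  rw [az_coe]
  fin_cases j
  · have h1 : Nm (ZMod 5) 56 = ofN an0 := ofN_nm (by norm_num) (by decide +kernel)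
    have h2 : (([(56, 2), (57, 2), (58, 0)] : List (ℕ × ℕ)).map fun a => ((a.2 : ℕ) : ZMod 5) • Nm (ZMod 5) a.1).sum = ofN ab0 :=
      ofN_lc (by decide) (by decide +kernel)
    have h3 : ofN aw4 * ofN an0 = ofN ac0 := ofN_mul (by rewrite [mc_eq_h86]; decide +kernel)
    have h4 : ofN ab0 * ofN aw4 = ofN ac0 := ofN_mul (by rewrite [mc_eq_h86]; decide +kernel)
    have h5 : lin ar (fun i => (!![2, 3, 1; 2, 1, 2; 0, 3, 2] : Matrix (Fin 3) (Fin 3) (ZMod 5)) i 0) = ofN ab0 := by
      rw [← h2]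
      simp only [lin, Fin.sum_univ_succ, Fin.sum_univ_zero, List.map_cons, List.map_nil, List.sum_cons, List.sum_nil]
      rfl
    exact (congrArg (ofN aw4 * ·) h1).trans (h3.trans (h4.symm.trans (congrArg (· * ofN aw4) h5.symm)))
  · have h1 : Nm (ZMod 5) 57 = ofN an1 := ofN_nm (by norm_num) (by decide +kernel)
    have h2 : (([(56, 3), (57, 1), (58, 3)] : List (ℕ × ℕ)).map fun a => ((a.2 : ℕ) : ZMod 5) • Nm (ZMod 5) a.1).sum = ofN ab1 :=
      ofN_lc (by decide) (by decide +kernel)
    have h3 : ofN aw4 * ofN an1 = ofN ac1 := ofN_mul (by rewrite [mc_eq_h86]; decide +kernel)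
    have h4 : ofN ab1 * ofN aw4 = ofN ac1 := ofN_mul (by rewrite [mc_eq_h86]; decide +kernel)
    have h5 : lin ar (fun i => (!![2, 3, 1; 2, 1, 2; 0, 3, 2] : Matrix (Fin 3) (Fin 3) (ZMod 5)) i 1) = ofN ab1 := by
      rw [← h2]
      simp only [lin, Fin.sum_univ_succ, Fin.sum_univ_zero, List.map_cons, List.map_nil, List.sum_cons, List.sum_nil]
      rfl
    exact (congrArg (ofN aw4 * ·) h1).trans (h3.trans (h4.symm.trans (congrArg (· * ofN aw4) h5.symm)))
  · have h1 : Nm (ZMod 5) 58 = ofN an2 := ofN_nm (by norm_num) (by decide +kernel)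
    have h2 : (([(56, 1), (57, 2), (58, 2)] : List (ℕ × ℕ)).map fun a => ((a.2 : ℕ) : ZMod 5) • Nm (ZMod 5) a.1).sum = ofN ab2 :=
      ofN_lc (by decide) (by decide +kernel)
    have h3 : ofN aw4 * ofN an2 = ofN ac2 := ofN_mul (by rewrite [mc_eq_h86]; decide +kernel)
    have h4 : ofN ab2 * ofN aw4 = ofN ac2 := ofN_mul (by rewrite [mc_eq_h86]; decide +kernel)
    have h5 : lin ar (fun i => (!![2, 3, 1; 2, 1, 2; 0, 3, 2] : Matrix (Fin 3) (Fin 3) (ZMod 5)) i 2) = ofN ab2 := by
      rw [← h2]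
      simp only [lin, Fin.sum_univ_succ, Fin.sum_univ_zero, List.map_cons, List.map_nil, List.sum_cons, List.sum_nil]
      rfl
    exact (congrArg (ofN aw4 * ·) h1).trans (h3.trans (h4.symm.trans (congrArg (· * ofN aw4) h5.symm)))

theorem frob31 : ∃ (A : Subgroup L5) (z : L5), Nat.card A = 5 ^ 3 ∧ orderOf z = 31 ∧ (∀ a ∈ A, z * a * z⁻¹ ∈ A) ∧
    ∀ i, 0 < i → i < 31 → ∀ a ∈ A, z ^ i * a = a * z ^ i → a = 1 :=
  frob_of (by norm_num) (r := ar) (by decide) (by decide) ah0 (by norm_num) ⟨az, az_mem⟩ (Subtype.ext az_pow)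
    !![2, 3, 1; 2, 1, 2; 0, 3, 2] !![1, 0, 4; 2, 4, 0; 4, 3, 1] ahM (by decide)

/-! ### order 71 -/

/-- the element -/
def bz : GL I27 (ZMod 5) := zU 34 ((4 : ℕ) : ZMod 5) * zU 37 ((4 : ℕ) : ZMod 5) * zU 36 ((1 : ℕ) : ZMod 5) * zU 42 ((4 : ℕ) : ZMod 5) * zU 35 ((3 : ℕ) : ZMod 5) * zU 32 ((2 : ℕ) : ZMod 5) * zU 39 ((1 : ℕ) : ZMod 5) * zU 29 ((4 : ℕ) : ZMod 5)

theorem bz_mem : bz ∈ Zgrp (ZMod 5) :=
  (mul_mem (mul_mem (mul_mem (mul_mem (mul_mem (mul_mem (mul_mem (zU_mem _ _) (zU_mem _ _)) (zU_mem _ _)) (zU_mem _ _)) (zU_mem _ _)) (zU_mem _ _)) (zU_mem _ _)) (zU_mem _ _))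

theorem bz_coe : ((bz : GL I27 (ZMod 5)) : Matrix I27 I27 (ZMod 5)) = ofN bw8 := by
  have h0 : zM 29 ((4 : ℕ) : ZMod 5) * ofN bw0 = ofN bw1 := ofN_row (by norm_num) (by decide +kernel)
  have h1 : zM 39 ((1 : ℕ) : ZMod 5) * ofN bw1 = ofN bw2 := ofN_row (by norm_num) (by decide +kernel)
  have h2 : zM 32 ((2 : ℕ) : ZMod 5) * ofN bw2 = ofN bw3 := ofN_row (by norm_num) (by decide +kernel)
  have h3 : zM 35 ((3 : ℕ) : ZMod 5) * ofN bw3 = ofN bw4 := ofN_row (by norm_num) (by decide +kernel)
  have h4 : zM 42 ((4 : ℕ) : ZMod 5) * ofN bw4 = ofN bw5 := ofN_row (by norm_num) (by decide +kernel)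
  have h5 : zM 36 ((1 : ℕ) : ZMod 5) * ofN bw5 = ofN bw6 := ofN_row (by norm_num) (by decide +kernel)
  have h6 : zM 37 ((4 : ℕ) : ZMod 5) * ofN bw6 = ofN bw7 := ofN_row (by norm_num) (by decide +kernel)
  have h7 : zM 34 ((4 : ℕ) : ZMod 5) * ofN bw7 = ofN bw8 := ofN_row (by norm_num) (by decide +kernel)
  have e : (1 : Matrix I27 I27 (ZMod 5)) = ofN bw0 := ofN_one (by decide +kernel)
  unfold bz
  simp only [Units.val_mul]
  rw [coe_zU (show 34 < 72 by norm_num), coe_zU (show 37 < 72 by norm_num), coe_zU (show 36 < 72 by norm_num), coe_zU (show 42 < 72 by norm_num), coe_zU (show 35 < 72 by norm_num), coe_zU (show 32 < 72 by norm_num), coe_zU (show 39 < 72 by norm_num), coe_zU (show 29 < 72 by norm_num)]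
  simp only [mul_assoc]
  rw [← mul_one (zM 29 ((4 : ℕ) : ZMod 5)), e, h0, h1, h2, h3, h4, h5, h6, h7]

theorem bz_pow : bz ^ 71 = 1 := by
  have h2 : ofN bw8 * ofN bw8 = ofN bp2 := ofN_mul (by rewrite [mc_eq_h86]; decide +kernel)
  have h4 : ofN bp2 * ofN bp2 = ofN bp4 := ofN_mul (by rewrite [mc_eq_h86]; decide +kernel)
  have h8 : ofN bp4 * ofN bp4 = ofN bp8 := ofN_mul (by rewrite [mc_eq_h86]; decide +kernel)
  have h16 : ofN bp8 * ofN bp8 = ofN bp16 := ofN_mul (by rewrite [mc_eq_h86]; decide +kernel)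
  have h32 : ofN bp16 * ofN bp16 = ofN bp32 := ofN_mul (by rewrite [mc_eq_h86]; decide +kernel)
  have h64 : ofN bp32 * ofN bp32 = ofN bp64 := ofN_mul (by rewrite [mc_eq_h86]; decide +kernel)
  have hl : ofN bp64 * ofN bp8 = ofN bw8 := ofN_mul (by rewrite [mc_eq_h86]; decide +kernel)
  apply pow_of_sq
  apply Units.ext
  rw [Units.val_pow_eq_pow_val, bz_coe]
  have g2 : ofN bw8 ^ 2 = ofN bp2 := by rw [pow_two, h2]
  have g4 : ofN bw8 ^ 4 = ofN bp4 := by rw [show 4 = 2 + 2 from rfl, pow_add, g2, h4]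
  have g8 : ofN bw8 ^ 8 = ofN bp8 := by rw [show 8 = 4 + 4 from rfl, pow_add, g4, h8]
  have g16 : ofN bw8 ^ 16 = ofN bp16 := by rw [show 16 = 8 + 8 from rfl, pow_add, g8, h16]
  have g32 : ofN bw8 ^ 32 = ofN bp32 := by rw [show 32 = 16 + 16 from rfl, pow_add, g16, h32]
  have g64 : ofN bw8 ^ 64 = ofN bp64 := by rw [show 64 = 32 + 32 from rfl, pow_add, g32, h64]
  rw [show 71 + 1 = 64 + 8 from rfl, pow_add, g64, g8, hl]

/-- the roots -/
def br : Fin 5 → ℕ := ![56, 57, 58, 59, 60]

theorem bh0 : ∀ i j, Nm (ZMod 5) (br i) * Nm (ZMod 5) (br j) = 0 := by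
  intro i j
  refine nm_mul_nm ?_ ?_
  · revert i; decide
  · revert i j; decide +kernel

theorem bhM : ∀ j, ((bz : GL I27 (ZMod 5)) : Matrix I27 I27 (ZMod 5)) * Nm (ZMod 5) (br j) =
    lin br (fun i => (!![1, 4, 0, 0, 0; 4, 4, 2, 0, 0; 0, 2, 2, 4, 2; 0, 4, 4, 1, 3; 0, 0, 0, 1, 4] : Matrix (Fin 5) (Fin 5) (ZMod 5)) i j) * ((bz : GL I27 (ZMod 5)) : Matrix I27 I27 (ZMod 5)) := by
  intro j
  rw [bz_coe]
  fin_cases j
  · have h1 : Nm (ZMod 5) 56 = ofN bn0 := ofN_nm (by norm_num) (by decide +kernel)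
    have h2 : (([(56, 1), (57, 4), (58, 0), (59, 0), (60, 0)] : List (ℕ × ℕ)).map fun a => ((a.2 : ℕ) : ZMod 5) • Nm (ZMod 5) a.1).sum = ofN bb0 :=
      ofN_lc (by decide) (by decide +kernel)
    have h3 : ofN bw8 * ofN bn0 = ofN bc0 := ofN_mul (by rewrite [mc_eq_h86]; decide +kernel)
    have h4 : ofN bb0 * ofN bw8 = ofN bc0 := ofN_mul (by rewrite [mc_eq_h86]; decide +kernel)
    have h5 : lin br (fun i => (!![1, 4, 0, 0, 0; 4, 4, 2, 0, 0; 0, 2, 2, 4, 2; 0, 4, 4, 1, 3; 0, 0, 0, 1, 4] : Matrix (Fin 5) (Fin 5) (ZMod 5)) i 0) = ofN bb0 := by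
      rw [← h2]
      simp only [lin, Fin.sum_univ_succ, Fin.sum_univ_zero, List.map_cons, List.map_nil, List.sum_cons, List.sum_nil]
      rfl
    exact (congrArg (ofN bw8 * ·) h1).trans (h3.trans (h4.symm.trans (congrArg (· * ofN bw8) h5.symm)))
  · have h1 : Nm (ZMod 5) 57 = ofN bn1 := ofN_nm (by norm_num) (by decide +kernel)
    have h2 : (([(56, 4), (57, 4), (58, 2), (59, 4), (60, 0)] : List (ℕ × ℕ)).map fun a => ((a.2 : ℕ) : ZMod 5) • Nm (ZMod 5) a.1).sum = ofN bb1 :=
      ofN_lc (by decide) (by decide +kernel)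
    have h3 : ofN bw8 * ofN bn1 = ofN bc1 := ofN_mul (by rewrite [mc_eq_h86]; decide +kernel)
    have h4 : ofN bb1 * ofN bw8 = ofN bc1 := ofN_mul (by rewrite [mc_eq_h86]; decide +kernel)
    have h5 : lin br (fun i => (!![1, 4, 0, 0, 0; 4, 4, 2, 0, 0; 0, 2, 2, 4, 2; 0, 4, 4, 1, 3; 0, 0, 0, 1, 4] : Matrix (Fin 5) (Fin 5) (ZMod 5)) i 1) = ofN bb1 := by
      rw [← h2]
      simp only [lin, Fin.sum_univ_succ, Fin.sum_univ_zero, List.map_cons, List.map_nil, List.sum_cons, List.sum_nil]
      rfl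
    exact (congrArg (ofN bw8 * ·) h1).trans (h3.trans (h4.symm.trans (congrArg (· * ofN bw8) h5.symm)))
  · have h1 : Nm (ZMod 5) 58 = ofN bn2 := ofN_nm (by norm_num) (by decide +kernel)
    have h2 : (([(56, 0), (57, 2), (58, 2), (59, 4), (60, 0)] : List (ℕ × ℕ)).map fun a => ((a.2 : ℕ) : ZMod 5) • Nm (ZMod 5) a.1).sum = ofN bb2 :=
      ofN_lc (by decide) (by decide +kernel)
    have h3 : ofN bw8 * ofN bn2 = ofN bc2 := ofN_mul (by rewrite [mc_eq_h86]; decide +kernel)
    have h4 : ofN bb2 * ofN bw8 = ofN bc2 := ofN_mul (by rewrite [mc_eq_h86]; decide +kernel)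
    have h5 : lin br (fun i => (!![1, 4, 0, 0, 0; 4, 4, 2, 0, 0; 0, 2, 2, 4, 2; 0, 4, 4, 1, 3; 0, 0, 0, 1, 4] : Matrix (Fin 5) (Fin 5) (ZMod 5)) i 2) = ofN bb2 := by
      rw [← h2]
      simp only [lin, Fin.sum_univ_succ, Fin.sum_univ_zero, List.map_cons, List.map_nil, List.sum_cons, List.sum_nil]
      rfl
    exact (congrArg (ofN bw8 * ·) h1).trans (h3.trans (h4.symm.trans (congrArg (· * ofN bw8) h5.symm)))
  · have h1 : Nm (ZMod 5) 59 = ofN bn3 := ofN_nm (by norm_num) (by decide +kernel)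
    have h2 : (([(56, 0), (57, 0), (58, 4), (59, 1), (60, 1)] : List (ℕ × ℕ)).map fun a => ((a.2 : ℕ) : ZMod 5) • Nm (ZMod 5) a.1).sum = ofN bb3 :=
      ofN_lc (by decide) (by decide +kernel)
    have h3 : ofN bw8 * ofN bn3 = ofN bc3 := ofN_mul (by rewrite [mc_eq_h86]; decide +kernel)
    have h4 : ofN bb3 * ofN bw8 = ofN bc3 := ofN_mul (by rewrite [mc_eq_h86]; decide +kernel)
    have h5 : lin br (fun i => (!![1, 4, 0, 0, 0; 4, 4, 2, 0, 0; 0, 2, 2, 4, 2; 0, 4, 4, 1, 3; 0, 0, 0, 1, 4] : Matrix (Fin 5) (Fin 5) (ZMod 5)) i 3) = ofN bb3 := by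
      rw [← h2]
      simp only [lin, Fin.sum_univ_succ, Fin.sum_univ_zero, List.map_cons, List.map_nil, List.sum_cons, List.sum_nil]
      rfl
    exact (congrArg (ofN bw8 * ·) h1).trans (h3.trans (h4.symm.trans (congrArg (· * ofN bw8) h5.symm)))
  · have h1 : Nm (ZMod 5) 60 = ofN bn4 := ofN_nm (by norm_num) (by decide +kernel)
    have h2 : (([(56, 0), (57, 0), (58, 2), (59, 3), (60, 4)] : List (ℕ × ℕ)).map fun a => ((a.2 : ℕ) : ZMod 5) • Nm (ZMod 5) a.1).sum = ofN bb4 :=
      ofN_lc (by decide) (by decide +kernel)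
    have h3 : ofN bw8 * ofN bn4 = ofN bc4 := ofN_mul (by rewrite [mc_eq_h86]; decide +kernel)
    have h4 : ofN bb4 * ofN bw8 = ofN bc4 := ofN_mul (by rewrite [mc_eq_h86]; decide +kernel)
    have h5 : lin br (fun i => (!![1, 4, 0, 0, 0; 4, 4, 2, 0, 0; 0, 2, 2, 4, 2; 0, 4, 4, 1, 3; 0, 0, 0, 1, 4] : Matrix (Fin 5) (Fin 5) (ZMod 5)) i 4) = ofN bb4 := by
      rw [← h2]
      simp only [lin, Fin.sum_univ_succ, Fin.sum_univ_zero, List.map_cons, List.map_nil, List.sum_cons, List.sum_nil]
      rfl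
    exact (congrArg (ofN bw8 * ·) h1).trans (h3.trans (h4.symm.trans (congrArg (· * ofN bw8) h5.symm)))

theorem frob71 : ∃ (A : Subgroup L5) (z : L5), Nat.card A = 5 ^ 5 ∧ orderOf z = 71 ∧ (∀ a ∈ A, z * a * z⁻¹ ∈ A) ∧
    ∀ i, 0 < i → i < 71 → ∀ a ∈ A, z ^ i * a = a * z ^ i → a = 1 :=
  frob_of (by norm_num) (r := br) (by decide) (by decide) bh0 (by norm_num) ⟨bz, bz_mem⟩ (Subtype.ext bz_pow)
    !![1, 4, 0, 0, 0; 4, 4, 2, 0, 0; 0, 2, 2, 4, 2; 0, 4, 4, 1, 3; 0, 0, 0, 1, 4] !![1, 4, 2, 0, 2; 4, 0, 0, 0, 0; 2, 0, 1, 0, 1; 4, 0, 4, 4, 0; 2, 0, 2, 2, 2] bhM (by decide)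

/-! ### fixed points -/

theorem simple5 : IsSimpleGroup L5 := (Cfsg.Agent.S1054.result (F := ZMod 5) chevE6 (by simp)).1

theorem fixes_of {n p t : ℕ} (hn : 0 < n) (hp : p.Prime) (h : ∃ (A : Subgroup L5) (z : L5), Nat.card A = 5 ^ n ∧
    orderOf z = p ∧ (∀ a ∈ A, z * a * z⁻¹ ∈ A) ∧ ∀ i, 0 < i → i < p → ∀ a ∈ A, z ^ i * a = a * z ^ i → a = 1)
    (ht : t.Prime) (h5 : t ≠ 5) : Fixes.{0, v} L5 t p := by
  obtain ⟨A, z, hA, hz, hn1, hn2⟩ := h
  intro V _ _ _ ρ hV
  by_contra hcon
  push Not at hcon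
  have hfin : Finite A := Nat.finite_of_card_ne_zero (by rw [hA]; positivity)
  have h1 := H421.Act.frob_trivial ρ A z p hp.pos (by rw [← hz]; exact pow_orderOf_eq_one z) hn1 hn2
    (fun v hv => by
      by_contra h0
      exact hcon z hz v h0 hv)
    (fun v hv => by
      rw [hA] at hv
      have hcop : (5 ^ n).Coprime t := Nat.Coprime.pow_left n ((Nat.coprime_primes (by norm_num) ht).mpr h5.symm)
      have h2 : addOrderOf v ∣ 1 := by
        rw [← hcop]
        exact Nat.dvd_gcd (addOrderOf_dvd_of_nsmul_eq_zero hv) (addOrderOf_dvd_of_nsmul_eq_zero (hV v))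
      exact AddMonoid.addOrderOf_eq_one_iff.mp (Nat.dvd_one.mp h2))
  have hs := simple5
  have hA1 : A ≠ ⊥ := by
    rintro rfl
    rw [Subgroup.card_bot] at hA
    have := Nat.one_lt_pow hn.ne' (by norm_num : 1 < 5)
    omega
  have hker : (MonoidHom.ker ρ) = ⊤ := by
    rcases hs.eq_bot_or_eq_top_of_normal (MonoidHom.ker ρ) inferInstance with h2 | h2
    · exfalso
      apply hA1
      rw [eq_bot_iff, ← h2]
      intro a ha
      rw [MonoidHom.mem_ker]
      exact AddMonoidHom.ext (h1 a ha)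
    · exact h2
  obtain ⟨v, hv⟩ := exists_ne (0 : V)
  refine hcon z hz v hv ?_
  have h3 : z ∈ MonoidHom.ker ρ := by rw [hker]; exact Subgroup.mem_top z
  rw [MonoidHom.mem_ker] at h3
  rw [h3]; rfl

theorem fixes_31 {t : ℕ} (ht : t.Prime) (h5 : t ≠ 5) (_h31 : t ≠ 31) : Fixes.{0, v} L5 t 31 :=
  fixes_of (n := 3) (by norm_num) (by norm_num) frob31 ht h5

theorem fixes_71 {t : ℕ} (ht : t.Prime) (h5 : t ≠ 5) (_h71 : t ≠ 71) : Fixes.{0, v} L5 t 71 :=
  fixes_of (n := 5) (by norm_num) (by norm_num) frob71 ht h5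

end Cfsg.Agent.H65.E65
end

private theorem dce_a15de9594bf7 : _root_.True := by
  try have : _root_.True := by simp only [_root_.Cfsg.Agent.H65.E65.lin.eq_1]
  try have : _root_.True := by simp only [_root_.Cfsg.Agent.H977.E6F.P.eq_1]
  try have : _root_.True := by simp only [_root_.Cfsg.Agent.H977.E6F.fac.eq_1]
  exact _root_.True.intro
end

-- part: H163/E65/Main
section
prune_inst 0x4c4104400000002000000050000000020040000800000080000a00840000120020900000004000000000200000000002002000000400000000a000000000400008000000410000000060088000000000000000000000000000000000000000000000000000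
set_option linter.all false
open scoped Cfsg.Agent.FastGrp

-- part: H163/E65/QL
section
/-!
# S3650: the group of the cubic form over the field with 5 elements is `E₆(5)` (helper163)
-/

set_option autoImplicit false

namespace Cfsg.Agent.H163.E65

open Cfsg.Lie Cfsg.Agent.ChevalleyStructure.E6Min.Basic Cfsg.Agent.ChevalleyStructure.E6Min.Adjoint
  Cfsg.Agent.ChevalleyStructure.E6Min.Tables Cfsg.Agent.ChevalleyStructure.E6Min.Torus
  Cfsg.Agent.ChevalleyStructure.E6Min.Forms Matrix

theorem ad5_injective : Function.Injective (ad (ZMod 5)) := by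
  rw [← MonoidHom.ker_eq_bot_iff, Subgroup.eq_bot_iff_forall]
  intro g hg
  have h0 : ∀ r < 72, ((g : GL I27 (ZMod 5)) : Matrix I27 I27 (ZMod 5)) * Nm (ZMod 5) r =
      Nm (ZMod 5) r * ((g : GL I27 (ZMod 5)) : Matrix I27 I27 (ZMod 5)) := fun r hr =>
    comm_B_of_ker (MonoidHom.mem_ker.1 hg) (Sum.inr ⟨r, hr⟩)
  have h1 := Cfsg.Agent.H689.scalar_of_comm h0
  set c := ((g : GL I27 (ZMod 5)) : Matrix I27 I27 (ZMod 5)) (dec 0) (dec 0) with hc
  have hgE : (g : GL I27 (ZMod 5)) ∈ E6univ (ZMod 5) := by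
    rw [← Zgrp_eq (by rw [ZMod.card]; norm_num)]
    exact g.2
  have h2 : ∀ x, ((g : GL I27 (ZMod 5)) : Matrix I27 I27 (ZMod 5)) *ᵥ e (ZMod 5) x = c • e (ZMod 5) x := by
    intro x
    rw [h1]
    ext y
    rw [Matrix.mulVec_diagonal, Pi.smul_apply, smul_eq_mul]
  obtain ⟨m, k, hmk⟩ : ∃ m k : I27, rel m k = 2 := by decide +kernel
  have h3 := diag_rel hgE h2 hmk
  have h4 : ∀ a : ZMod 5, a * a * a = 1 → a = 1 := by decide
  have h5 := h4 c h3
  apply Subtype.ext
  apply Units.ext
  rw [h1, h5]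
  exact diagonal_one

theorem Q5_equiv : Nonempty (Q5 ≃* L5) := by
  have h1 : Zgrp (ZMod 5) = E6univ (ZMod 5) := Zgrp_eq (by rw [ZMod.card]; norm_num)
  exact ⟨(MulEquiv.subgroupCongr h1.symm).trans (MulEquiv.ofBijective (ad (ZMod 5)) ⟨ad5_injective, ad_surjective⟩)⟩

end Cfsg.Agent.H163.E65
end

-- part: H631/OuterE65
section
/-!
# S3650, task OUTER: a proper extension of `E₆(5)` has an element of order `2 * 601`
-/

set_option autoImplicit false

open Subgroup Cfsg

namespace Cfsg.Agent.H631.OuterE65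

universe u

open Cfsg.Agent.H163.E65

/-- the outer automorphism group of `E₆(5)` has order `2` -/
theorem card_out_L5 : Nat.card (Cfsg.Out L5) = 2 := by
  have h := Cfsg.Agent.S2123.result (F := ZMod 5) 5 1 (by simp [ZMod.card])
  rw [h]; decide

theorem index_inn_L5 : (Inn L5).index = 2 := by
  rw [Subgroup.index_eq_card]
  exact card_out_L5

/-- `|Out|` is invariant under isomorphisms -/
theorem index_inn_congr {S L : Type*} [Group S] [Group L] (e : S ≃* L) :
    (Inn S).index = (Inn L).index := by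
  have hmap : (Inn S).map (MulAut.congr e).toMonoidHom = Inn L := by
    ext a
    constructor
    · rintro ⟨b, ⟨s, rfl⟩, rfl⟩
      refine ⟨e s, ?_⟩
      ext y
      simp only [MulAut.congr, _root_.MulAut.conj_apply, _root_.MulEquiv.toMonoidHom_eq_coe, _root_.MonoidHom.coe_coe, _root_.MulEquiv.coe_mk, _root_.Equiv.coe_fn_mk, _root_.MulEquiv.trans_apply, _root_.map_mul, _root_.MulEquiv.apply_symm_apply, _root_.map_inv]
    · rintro ⟨l, rfl⟩
      refine ⟨MulAut.conj (e.symm l), ⟨e.symm l, rfl⟩, ?_⟩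
      ext y
      simp only [MulAut.congr, _root_.MulEquiv.toMonoidHom_eq_coe, _root_.MonoidHom.coe_coe, _root_.MulEquiv.coe_mk, _root_.Equiv.coe_fn_mk, _root_.MulEquiv.trans_apply, _root_.MulAut.conj_apply, _root_.map_mul, _root_.MulEquiv.apply_symm_apply, _root_.map_inv]
  rw [← hmap]
  exact (Subgroup.index_map_of_bijective (MulAut.congr e).bijective _).symm

/-- the abstract version -/
theorem outer_aux {A : Type*} [Group A] (L : Subgroup A) (hL : (Inn L).index = 2)
    (h : ∃ (x : L) (γ : MulAut L), orderOf x = 601 ∧ orderOf γ = 2 ∧ γ x = x)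
    {X : Type u} [Group X] [Finite X] (S : Subgroup X) [S.Normal] (e : S ≃* L)
    (hC : Subgroup.centralizer (S : Set X) = ⊥) (hne : S ≠ ⊤) : ∃ x : X, orderOf x = 2 * 601 := by
  classical
  obtain ⟨x, γ, hx, hγ, hγx⟩ := h
  -- the conjugation map `X → Aut S`
  set φ : X →* MulAut S := MulAut.conjNormal with hφ
  have hφs : ∀ s : S, φ (s : X) = MulAut.conj s := by
    intro s
    ext t
    simp only [hφ, _root_.MulAut.conjNormal_apply, _root_.MulAut.conj_apply, _root_.Subgroup.coe_mul, _root_.InvMemClass.coe_inv]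
  have hinj : Function.Injective φ := by
    rw [injective_iff_map_eq_one]
    intro y hy
    have h1 : y ∈ Subgroup.centralizer (S : Set X) := by
      rw [Subgroup.mem_centralizer_iff]
      intro s hs
      have h2 : φ y ⟨s, hs⟩ = ⟨s, hs⟩ := by rw [hy]; rfl
      have h3 : y * s * y⁻¹ = s := by
        have := congrArg Subtype.val h2
        simpa only [hφ, MulAut.conjNormal_apply] using this
      calc s * y = (y * s * y⁻¹) * y := by rw [h3]
        _ = y * s := by group
    rw [hC] at h1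
    exact Subgroup.mem_bot.1 h1
  have hidx : (Inn S).index = 2 := (index_inn_congr e).trans hL
  have hle : Inn S ≤ φ.range := by
    rintro a ⟨s, rfl⟩
    exact ⟨s, hφs s⟩
  have hRne : Inn S ≠ φ.range := by
    intro heq
    apply hne
    rw [eq_top_iff]
    intro y _
    have h1 : φ y ∈ Inn S := by rw [heq]; exact ⟨y, rfl⟩
    obtain ⟨s, hs⟩ := h1
    have h2 : φ (s : X) = φ y := by rw [hφs]; exact hs
    rw [← hinj h2]
    exact s.2
  have hR : φ.range = ⊤ := by
    have h1 : (Inn S).relIndex φ.range * φ.range.index = (Inn S).index :=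
      Subgroup.relIndex_mul_index hle
    rw [hidx] at h1
    have h2 : (Inn S).relIndex φ.range ≠ 1 := by
      intro h3
      exact hRne (le_antisymm hle (Subgroup.relIndex_eq_one.1 h3))
    have h3 : φ.range.index ∣ 2 := ⟨_, by rw [← h1, mul_comm]⟩
    rcases (Nat.dvd_prime Nat.prime_two).1 h3 with h4 | h4
    · exact Subgroup.index_eq_one.1 h4
    · rw [h4] at h1
      have h5 : (Inn S).relIndex φ.range = 1 := by
        have h6 : (Inn S).relIndex φ.range * 2 = 1 * 2 := h1
        exact Nat.eq_of_mul_eq_mul_right (by norm_num) h6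
      exact absurd h5 h2
  -- transport
  set x' : S := e.symm x with hx'
  set γ' : MulAut S := MulAut.congr e.symm γ with hγ'
  have hγ'o : orderOf γ' = 2 :=
    (orderOf_injective (MulAut.congr e.symm).toMonoidHom (MulAut.congr e.symm).injective γ).trans hγ
  have hx'o : orderOf (x' : X) = 601 :=
    (Subgroup.orderOf_coe x').trans
      ((orderOf_injective e.symm.toMonoidHom e.symm.injective x).trans hx)
  obtain ⟨g, hg⟩ : γ' ∈ φ.range := by rw [hR]; exact Subgroup.mem_top _
  have hgo : orderOf g = 2 :=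
    ((orderOf_injective φ hinj g).symm.trans (congrArg orderOf hg)).trans hγ'o
  have hfix : γ' x' = x' := by
    simp [hγ', hx', MulAut.congr, hγx]
  have hcomm : Commute g (x' : X) := by
    apply hinj
    rw [map_mul, map_mul, hg, hφs]
    ext t
    simp only [MulAut.mul_apply, MulAut.conj_apply, map_mul, map_inv, hfix]
  have hcop : (orderOf g).Coprime (orderOf (x' : X)) := by
    rw [hgo, hx'o]; norm_num
  refine ⟨g * x', (hcomm.orderOf_mul_eq_mul_orderOf_of_coprime hcop).trans ?_⟩
  rw [hgo, hx'o]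

/-- a proper extension of `E₆(5)` has an element of order `1202` -/
theorem outer (h : ∃ (x : L5) (γ : MulAut L5), orderOf x = 601 ∧ orderOf γ = 2 ∧ γ x = x)
    {X : Type u} [Group X] [Finite X] (S : Subgroup X) [S.Normal] (e : S ≃* L5)
    (hC : Subgroup.centralizer (S : Set X) = ⊥) (hne : S ≠ ⊤) : ∃ x : X, orderOf x = 2 * 601 :=
  outer_aux _ index_inn_L5 h S e hC hne

end Cfsg.Agent.H631.OuterE65
end

-- part: H122/E65/Singer
section
/-!
# The Singer torus of `SL₃(125)` (S3650, task SINGER)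
-/

set_option autoImplicit false
set_option linter.unusedSectionVars false

namespace Cfsg.Agent.H122.E65

open Subgroup Cfsg.Agent.H163.E65
open scoped MatrixGroups

universe u

/-- `SL(3,·)` and isomorphisms of fields -/
def slCongr {K F : Type*} [Field K] [Field F] (e : K ≃+* F) : SL(3, K) ≃* SL(3, F) where
  toFun := Matrix.SpecialLinearGroup.map e.toRingHom
  invFun := Matrix.SpecialLinearGroup.map e.symm.toRingHom
  left_inv g := by
    apply Subtype.ext
    ext i j
    exact e.symm_apply_apply _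
  right_inv g := by
    apply Subtype.ext
    ext i j
    exact e.apply_symm_apply _
  map_mul' g h := map_mul _ g h

theorem center_eq_bot {F : Type*} [Field F] [Fintype F] (hF : Fintype.card F = 125) :
    center SL(3, F) = ⊥ := by
  rw [eq_bot_iff_forall]
  intro A hA
  obtain ⟨r, hr3, hr⟩ := Matrix.SpecialLinearGroup.mem_center_iff.1 hA
  have hr0 : r ≠ 0 := by
    rintro rfl
    simp at hr3
  have h1 : r ^ 124 = 1 := by
    have := FiniteField.pow_card_sub_one_eq_one r hr0
    rwa [hF] at this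
  have h3 : r ^ 3 = 1 := by simpa using hr3
  have hr1 : r = 1 := by
    have h2 : r ^ 124 = (r ^ 3) ^ 41 * r := by ring
    rw [h3, one_pow, one_mul] at h2
    rw [← h2, h1]
  subst hr1
  apply Subtype.ext
  rw [← hr]
  simp

/-- `SL₃(125) = PSL₃(125)` -/
noncomputable def slPsl {F : Type*} [Field F] [Fintype F] (hF : Fintype.card F = 125) :
    SL(3, F) ≃* Matrix.ProjectiveSpecialLinearGroup (Fin 3) F :=
  MulEquiv.ofBijective (QuotientGroup.mk' (center SL(3, F))) ⟨by
    rw [← MonoidHom.ker_eq_bot_iff, QuotientGroup.ker_mk', center_eq_bot hF], QuotientGroup.mk'_surjective _⟩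

theorem exists_type {K : Type u} [Field K] [Fintype K] (hK : Fintype.card K = 125) :
    ∃ (F : Type) (_ : Field F) (_ : Fintype F), Fintype.card F = 125 ∧ Nonempty (K ≃+* F) := by
  let F := GaloisField 5 3
  have : Fact (Nat.Prime 5) := ⟨by norm_num⟩
  have : Finite F := Nat.finite_of_card_ne_zero (by rw [GaloisField.card 5 3 (by norm_num)]; norm_num)
  let _ : Fintype F := Fintype.ofFinite F
  have hF : Fintype.card F = 125 := by
    rw [← Nat.card_eq_fintype_card, GaloisField.card 5 3 (by norm_num)]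
    norm_num
  exact ⟨F, inferInstance, inferInstance, hF, ⟨FiniteField.ringEquivOfCardEq (by rw [hK, hF])⟩⟩

theorem card_sl {K : Type u} [Field K] [Fintype K] (hK : Fintype.card K = 125) :
    Nat.card SL(3, K) = 125 ^ 3 * (125 ^ 2 - 1) * (125 ^ 3 - 1) := by
  obtain ⟨F, _, _, hF, ⟨e⟩⟩ := exists_type hK
  have h := Cfsg.Agent.HKS.EndOrd.card_psl_three (F := F) (t := 124) (by rw [hF])
  rw [← Nat.card_congr (slPsl hF).toEquiv, ← Nat.card_congr (slCongr e).toEquiv] at h
  norm_num only [_root_.one_mul] at h ⊢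
  exact h

/-- the torus and its centralizers -/
theorem exists_cc {K : Type u} [Field K] [Fintype K] (hK : Fintype.card K = 125) :
    ∃ T : Subgroup SL(3, K), Cfsg.Agent.H504.ZeroTI.CC T ∧ Nat.card T = 15751 := by
  obtain ⟨F, _, _, hF, ⟨e⟩⟩ := exists_type hK
  obtain ⟨A, hA, hc⟩ := Cfsg.Agent.H681.ZerosPSL3.exists_cc (F := F) (t := 124) (by rw [hF])
  let f : Matrix.ProjectiveSpecialLinearGroup (Fin 3) F ≃* SL(3, K) := (slPsl hF).symm.trans (slCongr e).symm
  refine ⟨A.map f.toMonoidHom, Cfsg.Agent.H681.ZerosPSL3.cc_map f hA, ?_⟩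
  have h1 : Nat.card (A.map f.toMonoidHom) = Nat.card A :=
    (Nat.card_congr (A.equivMapOfInjective _ f.injective).toEquiv).symm
  rw [h1]
  norm_num only [_root_.mul_one] at hc
  exact hc

theorem not829 : ∀ d, 0 < d → d < 3 → ¬ 829 ∣ 125 ^ d - 1 := by
  intro d h0 h3
  interval_cases d <;> norm_num

instance fact829 : Fact (Nat.Prime 829) := ⟨by norm_num⟩

theorem mem_norm {G : Type*} [Group G] {T : Subgroup G} {z g : G} (hcz : centralizer ({z} : Set G) = T)
    (hc : centralizer ({g * z * g⁻¹} : Set G) = T) : g ∈ normalizer (T : Set G) := by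
  have h1 : ∀ x, x ∈ T ↔ x * z = z * x := fun x => by rw [← hcz, mem_centralizer_singleton_iff]
  have h2 : ∀ x, x ∈ T ↔ x * (g * z * g⁻¹) = g * z * g⁻¹ * x := fun x => by
    rw [← hc, mem_centralizer_singleton_iff]
  rw [mem_normalizer_iff]
  intro x
  rw [h1, h2]
  have e1 : g * x * g⁻¹ * (g * z * g⁻¹) = g * (x * z) * g⁻¹ := by group
  have e2 : g * z * g⁻¹ * (g * x * g⁻¹) = g * (z * x) * g⁻¹ := by group
  rw [e1, e2, mul_left_inj, mul_right_inj]

theorem ti_of {H : Type u} [Group H] [Finite H] {T : Subgroup H} (hT : Cfsg.Agent.H504.ZeroTI.CC T)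
    (hTc : Nat.card T = 15751) (hord : Nat.card H = 125 ^ 3 * (125 ^ 2 - 1) * (125 ^ 3 - 1)) {z : H} (hzT : z ∈ T)
    (hz : orderOf z = 829) (hup : Nat.card (normalizer (T : Set H)) ≤ 3 * 15751) : TI H T := by
  have hz1 : z ≠ 1 := by
    rintro rfl
    rw [orderOf_one] at hz
    norm_num at hz
  have hcz : centralizer ({z} : Set H) = T := hT.cent z hzT hz1
  -- `P = ⟨z⟩` is a Sylow subgroup
  have hPc : Nat.card (zpowers z) = 829 := by rw [Nat.card_zpowers, hz]
  have hPT : zpowers z ≤ T := by rwa [zpowers_le]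
  have hP1 : IsPGroup 829 (zpowers z) := IsPGroup.of_card (n := 1) (by rw [hPc, pow_one])
  have hidx : ¬ 829 ∣ (zpowers z).index := by
    intro h
    have h1 : 829 * 829 ∣ Nat.card H := by
      rw [← (zpowers z).card_mul_index, hPc]
      exact Nat.mul_dvd_mul_left _ h
    rw [hord] at h1
    norm_num at h1
  let P : Sylow 829 H := hP1.toSylow hidx
  have hPcoe : (P : Subgroup H) = zpowers z := rfl
  have h1 : Nat.card (Sylow 829 H) ≡ 1 [MOD 829] := card_sylow_modEq_one 829 _
  rw [P.card_eq_index_normalizer] at h1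
  -- `T ≤ N(P) ≤ N(T)`
  have hTM : T ≤ normalizer ((P : Subgroup H) : Set H) := by
    intro t ht
    have hc : ∀ y ∈ (P : Subgroup H), t * y * t⁻¹ = y := by
      intro y hy
      rw [hT.comm t ht y (hPT hy), mul_inv_cancel_right]
    rw [mem_normalizer_iff]
    intro x
    constructor
    · intro hx
      rw [hc x hx]
      exact hx
    · intro hx
      have h2 := hc _ hx
      have h3 : t * x * t⁻¹ = x := mul_left_cancel (mul_right_cancel h2)
      rwa [h3] at hx
  have hMT : normalizer ((P : Subgroup H) : Set H) ≤ normalizer (T : Set H) := by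
    intro g hg
    have hzP : g * z * g⁻¹ ∈ T := hPT ((mem_normalizer_iff.1 hg z).1 (mem_zpowers z))
    have hne : g * z * g⁻¹ ≠ 1 := by
      intro h
      exact hz1 (conj_eq_one_iff.1 h)
    exact mem_norm hcz (hT.cent _ hzP hne)
  -- the index of `T` in `N(P)`
  obtain ⟨k, hk⟩ : Nat.card T ∣ Nat.card (normalizer ((P : Subgroup H) : Set H)) := card_dvd_of_le hTM
  rw [hTc] at hk
  have hle : Nat.card (normalizer ((P : Subgroup H) : Set H)) ≤ 3 * 15751 := (card_le_of_le hMT).trans hup
  have hk3 : k ≤ 3 := by omega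
  have hMi := (normalizer ((P : Subgroup H) : Set H)).card_mul_index
  rw [hord, hk] at hMi
  have hkey : k * (normalizer ((P : Subgroup H) : Set H)).index = 125 ^ 3 * (125 ^ 2 - 1) * 124 := by
    have h3 : 15751 * (k * (normalizer ((P : Subgroup H) : Set H)).index) =
        15751 * (125 ^ 3 * (125 ^ 2 - 1) * 124) := by
      rw [← mul_assoc, hMi]
      norm_num
    exact Nat.eq_of_mul_eq_mul_left (by norm_num) h3
  have hk' : k = 3 := by
    have h3 : k * (normalizer ((P : Subgroup H) : Set H)).index ≡ k * 1 [MOD 829] := Nat.ModEq.mul_left k h1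
    rw [hkey, mul_one] at h3
    have h4 : (125 ^ 3 * (125 ^ 2 - 1) * 124) % 829 = k % 829 := h3
    norm_num at h4
    omega
  refine ⟨hT.comm, hTc, hT.cent, le_antisymm hup ?_, hord⟩
  calc 3 * 15751 = Nat.card (normalizer ((P : Subgroup H) : Set H)) := by rw [hk, hk']
    _ ≤ _ := card_le_of_le hMT

/-- **the Singer torus** -/
theorem exists_ti {K : Type u} [Field K] [Fintype K] (hK : Fintype.card K = 125) :
    ∃ T : Subgroup SL(3, K), TI SL(3, K) T := by
  obtain ⟨T, hT, hTc⟩ := exists_cc hK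
  have hfin : Finite SL(3, K) := inferInstance
  have hord := card_sl hK
  -- an element of order 829
  obtain ⟨⟨z, hzT⟩, hz⟩ := exists_prime_orderOf_dvd_card' (G := T) 829 (by rw [hTc]; norm_num)
  rw [Subgroup.orderOf_mk] at hz
  have hz1 : z ≠ 1 := by
    rintro rfl
    rw [orderOf_one] at hz
    norm_num at hz
  have hcz : centralizer ({z} : Set SL(3, K)) = T := hT.cent z hzT hz1
  -- the upper bound
  let φ : SL(3, K) →* Module.End K (Fin 3 → K) :=
    { toFun := fun g => Matrix.toLin' g.1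
      map_one' := Matrix.toLin'_one
      map_mul' := fun g h => Matrix.toLin'_mul _ _ }
  have hφ : Function.Injective φ := fun g h hgh => Subtype.ext (Matrix.toLin'.injective hgh)
  have hfr : Module.finrank K (Fin 3 → K) = 3 := Module.finrank_fin_fun K
  have hup := Cfsg.Agent.LieExceptional.SingerCentralizer.card_normalizer_centralizer_le φ hφ fact829.out hz
    (by rw [hfr, Nat.card_eq_fintype_card, hK]; norm_num)
    (by rw [hfr, Nat.card_eq_fintype_card, hK]; exact not829)
  rw [hcz, hfr, hTc] at hup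
  exact ⟨T, ti_of hT hTc hord hzT hz hup⟩

end Cfsg.Agent.H122.E65
end

-- part: H174/E65/Dicho
section
/-!
# S3650, task DICHO: the ordinary characters of a group with the Singer torus of `SL₃(125)` (helper174, for helper163)
-/

set_option autoImplicit false

namespace Cfsg.Agent.H174.E65

open Cfsg Cfsg.Agent.H163.E65 Cfsg.Agent.Characters Cfsg.Agent.Characters.CCBasic Cfsg.Agent.Characters.CCOrbit
  Cfsg.Agent.Characters.CCExceptional Cfsg.Agent.Characters.CCValues Cfsg.Agent.Characters.CCEstimates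
  Cfsg.Agent.H678.CCExact

universe u

theorem charDegree_dvd {G : Type*} [Group G] [Finite G] (χ : IrrCharacter G) :
    charDegree (χ : G → ℂ) ∣ Nat.card G := by
  have : Fintype G := Fintype.ofFinite G
  obtain ⟨χ, n, ρ, hρ, rfl⟩ := χ
  have h1 := Cfsg.Agent.S0135.result ρ
  have h2 : (charDegree ρ.character : ℂ) = ρ.character 1 :=
    H686.CharKit.charDegree_cast (Core.isIrr_isCharacter ⟨n, ρ, hρ, rfl⟩)
  rw [Representation.char_one] at h2
  have h3 : charDegree ρ.character = Module.finrank ℂ (Fin n → ℂ) := by exact_mod_cast h2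
  rw [h3]
  exact h1

/-- the arithmetic -/
theorem div_pos : ∀ b < 215, 15751 * b + 3 ∣ 125 ^ 3 * (125 ^ 2 - 1) * (125 ^ 3 - 1) →
    (15751 * b + 3 = 3 ∨ 15751 * b + 3 = 1937376) := by
  decide +kernel

theorem div_neg : ∀ b < 215, 15751 * (b + 1) - 3 ∣ 125 ^ 3 * (125 ^ 2 - 1) * (125 ^ 3 - 1) → False := by
  decide +kernel

theorem norm_irr {A : Type*} [Group A] [Finite A] (hc : ∀ a b : A, a * b = b * a) {θ : A → ℂ}
    (hθ : IsIrrCharacter A θ) (a : A) : ‖θ a‖ = 1 := by
  obtain ⟨f, rfl⟩ := exists_hom_of_comm hc hθ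
  have h1 : ((f a : ℂˣ) : ℂ) ^ Nat.card A = 1 := by
    rw [← Units.val_pow_eq_pow_val, ← map_pow, pow_card_eq_one', map_one, Units.val_one]
  exact Complex.norm_eq_one_of_pow_eq_one h1 Nat.card_pos.ne'

section

variable {H : Type u} [Group H] [Finite H] {T : Subgroup H}

omit [Finite H] in
theorem isCC (h : TI H T) : IsCC T where
  ne_bot := by
    intro h1
    have h2 := h.card
    rw [h1, Subgroup.card_bot] at h2
    omega
  cent := h.cent

omit [Finite H] in
theorem len_eq (h : TI H T) : len T = 3 := by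
  unfold len
  rw [h.norm, h.card]

open scoped Classical in
theorem dichotomy (h : TI H T) (h3 : ∀ χ : IrrCharacter H, charDegree (χ : H → ℂ) ≠ 3) (χ : IrrCharacter H) :
    (∃ c : ℤ, ∀ x ∈ T, x ≠ 1 → (χ : H → ℂ) x = c) ∨
      (charDegree (χ : H → ℂ) = 1937376 ∧ ∀ x ∈ T, x ≠ 1 → ‖(χ : H → ℂ) x‖ ≤ 3) := by
  have : Fintype H := Fintype.ofFinite H
  have : Fintype T := Fintype.ofFinite T
  have : Finite (IrrCharacter T) := Core.finite_irr
  have : Fintype (IrrCharacter T) := Fintype.ofFinite _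
  have : Finite (IrrCharacter H) := Core.finite_irr
  have : Fintype (IrrCharacter H) := Fintype.ofFinite _
  have : Fintype (NP T) := Fintype.ofFinite _
  have hA := isCC h
  obtain ⟨X⟩ := nonempty_exc hA
  have hlen := len_eq h
  have hcard := h.card
  have hs : (rng X).card = 5250 := by
    have h1 := card_rng_mul_len hA X
    rw [hlen, hcard] at h1
    omega
  obtain ⟨b, c, hb0, h1, hm⟩ := exists_data hA X (by rw [hs]; norm_num)
  -- the nonexceptional characters
  have hne : ∀ ψ : IrrCharacter H, ψ ∉ rng X → ∃ c : ℤ, ∀ a : T, a ≠ 1 → (ψ : H → ℂ) a = c := by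
    intro ψ hψ
    apply apply_eq_of_not_exceptional hA X
    intro l hl
    exact hψ ((mem_rng X ψ).2 ⟨l, hl.symm⟩)
  by_cases hχ : χ ∉ rng X
  · left
    obtain ⟨c, hc⟩ := hne χ hχ
    exact ⟨c, fun x hx hx1 => hc ⟨x, hx⟩ fun h => hx1 (congrArg Subtype.val h)⟩
  push Not at hχ
  right
  -- `c = 0`
  have hc0 : c = 0 := by
    have hf : ∀ ψ : IrrCharacter H, ∃ c : ℤ, ψ ∉ rng X → ∀ a : T, a ≠ 1 → (ψ : H → ℂ) a = c := by
      intro ψ
      by_cases hψ : ψ ∈ rng X
      · exact ⟨0, fun h => absurd hψ h⟩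
      · obtain ⟨c, hc⟩ := hne ψ hψ
        exact ⟨c, fun _ => hc⟩
    choose f hf using hf
    have h2 := sum_sq hA X h1 hm (by rw [hcard]; norm_num) f hf
    have h4 : 0 ≤ ∑ ψ ∈ Finset.univ.filter (fun ψ : IrrCharacter H => ψ ∉ rng X), f ψ ^ 2 :=
      Finset.sum_nonneg fun _ _ => sq_nonneg _
    rw [hs, hlen] at h2
    push_cast at h2
    have h5 : 5250 * c ^ 2 ≤ 3 + 2 * X.ε * c := by linarith only [h2, h4]
    rcases X.hε with he | he
    · rw [he] at h5
      nlinarith only [h5]
    · rw [he] at h5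
      nlinarith only [h5]
  obtain ⟨l, rfl⟩ := (mem_rng X χ).1 hχ
  have hdeg : ∀ l : NP T, (charDegree (X.E l : H → ℂ) : ℤ) = 15751 * b + X.ε * 3 := by
    intro l
    have h2 := degree_eq hA X h1 hm l
    rw [← H686.CharKit.charDegree_irr, hlen, hcard, hc0] at h2
    have h4 : (charDegree (X.E l : H → ℂ) : ℤ) = ((15751 : ℕ) : ℤ) * b + 0 + X.ε * ((3 : ℕ) : ℤ) := by
      exact_mod_cast h2
    push_cast at h4
    linarith only [h4]
  refine ⟨?_, ?_⟩
  · have hord := h.ord
    have h2 := charDegree_dvd (X.E l)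
    rw [hord] at h2
    have h4 : 5250 * charDegree (X.E l : H → ℂ) ^ 2 ≤ 125 ^ 3 * (125 ^ 2 - 1) * (125 ^ 3 - 1) := by
      rw [← hord, ← H686.CharKit.sum_deg_sq]
      calc 5250 * charDegree (X.E l : H → ℂ) ^ 2 = ∑ ψ ∈ rng X, charDegree (ψ : H → ℂ) ^ 2 := by
            rw [Finset.sum_congr rfl (g := fun _ => charDegree (X.E l : H → ℂ) ^ 2), Finset.sum_const, hs, smul_eq_mul]
            intro ψ hψ
            obtain ⟨m, rfl⟩ := (mem_rng X ψ).1 hψ
            have h5 := hdeg l
            have h6 := hdeg m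
            have h7 : charDegree (X.E m : H → ℂ) = charDegree (X.E l : H → ℂ) := by
              rw [← h5] at h6
              exact_mod_cast h6
            rw [h7]
        _ ≤ _ := Finset.sum_le_sum_of_subset (Finset.subset_univ _)
    have h5 : charDegree (X.E l : H → ℂ) ≤ 3369352 := by
      by_contra h6
      push Not at h6
      have h7 : 3369353 ^ 2 ≤ charDegree (X.E l : H → ℂ) ^ 2 := Nat.pow_le_pow_left h6 2
      have h8 := (Nat.mul_le_mul_left 5250 h7).trans h4
      norm_num at h8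
    have h6 := hdeg l
    have hpos := H686.CharKit.charDegree_pos (X.E l)
    have h7 := h3 (X.E l)
    obtain ⟨b, rfl⟩ := Int.eq_ofNat_of_zero_le hb0
    generalize charDegree (X.E l : H → ℂ) = f at *
    rcases X.hε with he | he
    · rw [he] at h6
      have h8 : f = 15751 * b + 3 := by omega
      have h9 := div_pos b (by omega) (h8 ▸ h2)
      rw [← h8] at h9
      exact h9.resolve_left h7
    · rw [he] at h6
      have hb : b ≠ 0 := by rintro rfl; omega
      obtain ⟨b', rfl⟩ := Nat.exists_eq_succ_of_ne_zero hb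
      have h8 : f = 15751 * (b' + 1) - 3 := by omega
      exact (div_neg b' (by omega) (h8 ▸ h2)).elim
  · intro x hx hx1
    have ha : (⟨x, hx⟩ : T) ≠ 1 := fun h => hx1 (congrArg Subtype.val h)
    have h2 := restrict_eq_sum hA (X.E l) ⟨x, hx⟩
    rw [sum_irr_eq, h1 l, hc0] at h2
    have h4 : ∑ m : NP T, (mult (X.E l) m.1 : ℂ) * (m.1 : T → ℂ) ⟨x, hx⟩ =
        (b : ℂ) * ∑ m : NP T, (m.1 : T → ℂ) ⟨x, hx⟩ +
          (X.ε : ℂ) * ∑ m ∈ Finset.univ.filter (fun m : NP T => _root_.Cfsg.Agent.Characters.CCOrbit.Rel T (l.1 : T → ℂ) (m.1 : T → ℂ)),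
            (m.1 : T → ℂ) ⟨x, hx⟩ := by
      rw [Finset.sum_filter, Finset.mul_sum, Finset.mul_sum, ← Finset.sum_add_distrib]
      refine Finset.sum_congr rfl fun m _ => ?_
      rw [hm l m]
      push_cast
      split_ifs <;> ring
    rw [h4, sum_np_apply hA ha, coe_one] at h2
    have h5 : (X.E l : H → ℂ) x = (X.ε : ℂ) *
        ∑ m ∈ Finset.univ.filter (fun m : NP T => _root_.Cfsg.Agent.Characters.CCOrbit.Rel T (l.1 : T → ℂ) (m.1 : T → ℂ)), (m.1 : T → ℂ) ⟨x, hx⟩ := by
      rw [h2]
      simp only [_root_.add_zero, _root_.Pi.one_apply, _root_.mul_one, _root_.mul_neg, _root_.ne_eq, _root_.add_neg_cancel_left]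
    rw [h5, norm_mul]
    have h6 : ‖(X.ε : ℂ)‖ = 1 := by
      rcases X.hε with he | he <;> rw [he] <;> simp
    rw [h6, one_mul]
    refine (norm_sum_le _ _).trans ?_
    calc ∑ m ∈ Finset.univ.filter (fun m : NP T => _root_.Cfsg.Agent.Characters.CCOrbit.Rel T (l.1 : T → ℂ) (m.1 : T → ℂ)), ‖(m.1 : T → ℂ) ⟨x, hx⟩‖
        ≤ ∑ m ∈ Finset.univ.filter (fun m : NP T => _root_.Cfsg.Agent.Characters.CCOrbit.Rel T (l.1 : T → ℂ) (m.1 : T → ℂ)), (1 : ℝ) := by
          refine Finset.sum_le_sum fun m _ => ?_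
          exact (norm_irr (comm_coe hA) m.1.2 _).le
      _ = 3 := by
          rw [Finset.sum_const, card_np_rel hA l, hlen]
          norm_num

end

end Cfsg.Agent.H174.E65
end

-- part: H174/E65/Three
section
/-!
# S3650, task DICHO: `SL₃(125)` has no irreducible character of degree 3 (helper174, for helper163)
-/

set_option autoImplicit false

namespace Cfsg.Agent.H174.E65

open Cfsg Cfsg.Agent.H163.E65 Cfsg.Agent.Characters Cfsg.Agent.H686.CharKit
open scoped MatrixGroups

universe u

/-- commutators of a `p`-subgroup lie in the kernel of every irreducible character of degree less than `p` -/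
theorem comm_mem_chKer {G : Type*} [Group G] [Finite G] {p : ℕ} (hp : p.Prime) (χ : IrrCharacter G)
    (hd : charDegree (χ : G → ℂ) < p) {Q : Subgroup G} (hQ : IsPGroup p Q) {a b : G} (ha : a ∈ Q) (hb : b ∈ Q) :
    a * b * a⁻¹ * b⁻¹ ∈ chKer χ := by
  have : Fact p.Prime := ⟨hp⟩
  have : Finite (IrrCharacter Q) := Core.finite_irr
  have : Fintype (IrrCharacter Q) := Fintype.ofFinite _
  have hχ := Core.isCharacter_comp Q.subtype (Core.isIrr_isCharacter χ.2)
  obtain ⟨m, hm⟩ := Core.exists_nat_comb hχ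
  -- the constituents are linear
  have h1 : ((charDegree (χ : G → ℂ) : ℕ) : ℂ) = ((∑ ψ : IrrCharacter Q, m ψ * charDegree (ψ : Q → ℂ) : ℕ) : ℂ) := by
    rw [charDegree_irr χ]
    have h2 := congrFun hm 1
    have h3 : ((χ : G → ℂ) ∘ Q.subtype) 1 = (χ : G → ℂ) 1 := by simp only [_root_.Subgroup.coe_subtype, _root_.Function.comp_apply, _root_.OneMemClass.coe_one]
    rw [← h3]
    refine h2.trans ?_
    rw [Finset.sum_apply]
    push_cast
    refine Finset.sum_congr rfl fun ψ _ => ?_
    rw [Pi.smul_apply, nsmul_eq_mul, charDegree_irr]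
  have h1' : charDegree (χ : G → ℂ) = ∑ ψ : IrrCharacter Q, m ψ * charDegree (ψ : Q → ℂ) := by exact_mod_cast h1
  have h2 : ∀ ψ : IrrCharacter Q, m ψ ≠ 0 → charDegree (ψ : Q → ℂ) = 1 := by
    intro ψ hψ
    have h3 : charDegree (ψ : Q → ℂ) ≤ charDegree (χ : G → ℂ) := by
      rw [h1']
      calc charDegree (ψ : Q → ℂ) ≤ m ψ * charDegree (ψ : Q → ℂ) :=
            Nat.le_mul_of_pos_left _ (Nat.pos_of_ne_zero hψ)
        _ ≤ _ := Finset.single_le_sum (f := fun ψ : IrrCharacter Q => m ψ * charDegree (ψ : Q → ℂ))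
            (fun _ _ => Nat.zero_le _) (Finset.mem_univ ψ)
    have h4 := charDegree_dvd ψ
    obtain ⟨k, hk⟩ := IsPGroup.iff_card.1 hQ
    rw [hk] at h4
    obtain ⟨j, -, hj⟩ := (Nat.dvd_prime_pow hp).1 h4
    rcases Nat.eq_zero_or_pos j with rfl | hj0
    · rw [hj, pow_zero]
    · exfalso
      have h5 : p ≤ p ^ j := Nat.le_self_pow hj0.ne' p
      omega
  rw [mem_chKer]
  set q : Q := ⟨a, ha⟩ * ⟨b, hb⟩ * ⟨a, ha⟩⁻¹ * ⟨b, hb⟩⁻¹ with hq
  have h3 : ∀ ψ : IrrCharacter Q, m ψ • (ψ : Q → ℂ) q = m ψ • (ψ : Q → ℂ) 1 := by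
    intro ψ
    by_cases hψ : m ψ = 0
    · rw [hψ, zero_smul, zero_smul]
    · have h4 : (ψ : Q → ℂ) 1 = 1 := (charDegree_eq_one_iff ψ).1 (h2 ψ hψ)
      obtain ⟨f, hf⟩ := Linear.exists_hom_of_isIrrCharacter ψ.2 h4
      rw [hf]
      congr 1
      simp only [hq, map_mul, map_inv, map_one]
      rw [mul_comm (f ⟨a, ha⟩) (f ⟨b, hb⟩), mul_assoc (f ⟨b, hb⟩), mul_inv_cancel, mul_one, mul_inv_cancel]
  have h4 : ∀ x : Q, (χ : G → ℂ) x = ∑ ψ : IrrCharacter Q, m ψ • (ψ : Q → ℂ) x := by
    intro x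
    have h5 := congrFun hm x
    rw [Finset.sum_apply] at h5
    exact h5
  have h5 := h4 q
  rw [Finset.sum_congr rfl fun ψ _ => h3 ψ, ← h4 1] at h5
  exact h5

section SL

variable {K : Type u} [Field K]

/-- the unitriangular matrices -/
def u (a b c : K) : SL(3, K) := ⟨!![1, a, c; 0, 1, b; 0, 0, 1], by simp [Matrix.det_fin_three]⟩

theorem u_mul (a b c a' b' c' : K) : u a b c * u a' b' c' = u (a + a') (b + b') (c + c' + a * b') := by
  apply Subtype.ext
  show (!![1, a, c; 0, 1, b; 0, 0, 1] : Matrix (Fin 3) (Fin 3) K) * !![1, a', c'; 0, 1, b'; 0, 0, 1] =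
    !![1, a + a', c + c' + a * b'; 0, 1, b + b'; 0, 0, 1]
  ext i j
  fin_cases i <;> fin_cases j <;> simp [Matrix.mul_apply, Fin.sum_univ_three, add_comm, add_assoc]

theorem u_zero : u (0 : K) 0 0 = 1 := by
  apply Subtype.ext
  ext i j
  (revert i j; simp only [u, _root_.Fin.forall_fin_succ, _root_.Matrix.of_apply, _root_.Matrix.cons_val', _root_.Matrix.cons_val_fin_one, _root_.Matrix.SpecialLinearGroup.coe_one, Fin.isValue, _root_.Matrix.cons_val_zero, _root_.Matrix.cons_val_succ, _root_.IsEmpty.forall_iff, _root_.and_true, _root_.Matrix.one_apply_eq, Nat.reduceAdd, _root_.Fin.succ_zero_eq_one, _root_.ne_eq, _root_.zero_ne_one, _root_.not_false_eq_true, _root_.Matrix.one_apply_ne, _root_.Fin.succ_one_eq_two, Fin.reduceEq, _root_.and_self, _root_.Fin.succ_ne_zero, _root_.true_and])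

/-- the unitriangular group -/
def UU : Subgroup SL(3, K) where
  carrier := {g | ∃ a b c : K, g = u a b c}
  one_mem' := ⟨0, 0, 0, u_zero.symm⟩
  mul_mem' := by
    rintro _ _ ⟨a, b, c, rfl⟩ ⟨a', b', c', rfl⟩
    exact ⟨_, _, _, u_mul _ _ _ _ _ _⟩
  inv_mem' := by
    rintro _ ⟨a, b, c, rfl⟩
    refine ⟨-a, -b, a * b - c, ?_⟩
    rw [inv_eq_iff_mul_eq_one, u_mul, ← u_zero]
    congr 1 <;> ring

theorem u_pow_five (h5 : (5 : K) = 0) (a b c : K) : u a b c ^ 5 = 1 := by
  have e : u a b c ^ 5 = u a b c * u a b c * u a b c * u a b c * u a b c := by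
    rw [pow_succ, pow_succ, pow_succ, pow_succ, pow_one]
  rw [e, u_mul, u_mul, u_mul, u_mul, ← u_zero]
  congr 1
  · linear_combination a * h5
  · linear_combination b * h5
  · linear_combination (c + 2 * a * b) * h5

theorem isPGroup_UU (h5 : (5 : K) = 0) : IsPGroup 5 (UU (K := K)) := by
  rintro ⟨_, a, b, c, rfl⟩
  refine ⟨1, Subtype.ext ?_⟩
  rw [pow_one]
  exact u_pow_five h5 a b c

/-- `SL₃(125)` has no irreducible character of degree 3. -/
theorem three [Fintype K] (hK : Fintype.card K = 125) (χ : IrrCharacter SL(3, K)) :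
    charDegree (χ : SL(3, K) → ℂ) ≠ 3 := by
  intro hd
  have h5 : (5 : K) = 0 := by
    have h1 : ((Fintype.card K : ℕ) : K) = 0 := Nat.cast_card_eq_zero K
    rw [hK] at h1
    have h2 : (5 : K) ^ 3 = 0 := by
      have : ((125 : ℕ) : K) = (5 : K) ^ 3 := by norm_num
      rw [← this, h1]
    exact pow_eq_zero_iff (by norm_num) |>.1 h2
  have hfin : Finite SL(3, K) := inferInstance
  have h1 : (1 : K) ≠ 0 := one_ne_zero
  -- the commutator
  have hcomm := comm_mem_chKer (p := 5) (by norm_num) χ (by omega) (isPGroup_UU h5) (a := u 1 0 0) (b := u 0 1 0)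
    ⟨_, _, _, rfl⟩ ⟨_, _, _, rfl⟩
  have hc : u (1 : K) 0 0 * u 0 1 0 * (u 1 0 0)⁻¹ * (u 0 1 0)⁻¹ = u 0 0 1 := by
    rw [mul_inv_eq_iff_eq_mul, mul_inv_eq_iff_eq_mul, u_mul, u_mul, u_mul]
    congr 1 <;> ring
  rw [hc] at hcomm
  -- it is not central
  have hnc : u (0 : K) 0 1 ∉ Subgroup.center SL(3, K) := by
    intro h2
    rw [Subgroup.mem_center_iff] at h2
    let l : SL(3, K) := ⟨!![1, 0, 0; 0, 1, 0; 1, 0, 1], by simp [Matrix.det_fin_three]⟩
    have h3 := congrArg (fun g : SL(3, K) => (g : Matrix (Fin 3) (Fin 3) K) 0 0) (h2 l)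
    have h4 : ((!![1, 0, 0; 0, 1, 0; 1, 0, 1] : Matrix (Fin 3) (Fin 3) K) *
        (!![1, 0, 1; 0, 1, 0; 0, 0, 1] : Matrix (Fin 3) (Fin 3) K) : Matrix (Fin 3) (Fin 3) K) 0 0 =
      ((!![1, 0, 1; 0, 1, 0; 0, 0, 1] : Matrix (Fin 3) (Fin 3) K) *
        (!![1, 0, 0; 0, 1, 0; 1, 0, 1] : Matrix (Fin 3) (Fin 3) K) : Matrix (Fin 3) (Fin 3) K) 0 0 := h3
    simp [Matrix.mul_apply, Fin.sum_univ_three] at h4
  have hsimple : IsSimpleGroup (Matrix.ProjectiveSpecialLinearGroup (Fin 3) K) := Cfsg.Agent.S0249.result 3 le_rfl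
  let π : SL(3, K) →* Matrix.ProjectiveSpecialLinearGroup (Fin 3) K := QuotientGroup.mk' _
  have hπ : Function.Surjective π := QuotientGroup.mk'_surjective _
  have hker : ∀ g : SL(3, K), π g = 1 ↔ g ∈ Subgroup.center SL(3, K) := fun g => QuotientGroup.eq_one_iff g
  set N := chKer χ with hN
  have hNn : (N.map π).Normal := Subgroup.Normal.map (chKer_normal χ) π hπ
  have htop : N.map π = ⊤ := by
    rcases hsimple.eq_bot_or_eq_top_of_normal _ hNn with h | h
    · exfalso
      apply hnc
      rw [← hker]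
      have h2 : π (u 0 0 1) ∈ N.map π := ⟨_, hcomm, rfl⟩
      rwa [h, Subgroup.mem_bot] at h2
    · exact h
  have hrep : ∀ g : SL(3, K), ∃ n ∈ N, ∃ z ∈ Subgroup.center SL(3, K), g = n * z := by
    intro g
    have h2 : π g ∈ N.map π := by rw [htop]; trivial
    obtain ⟨n, hn, hng⟩ := h2
    refine ⟨n, hn, n⁻¹ * g, ?_, by group⟩
    rw [← hker, map_mul, map_inv, hng, inv_mul_cancel]
  -- the quotient is abelian
  obtain ⟨ψ, hψ⟩ := exists_infl N χ le_rfl
  have hab : ∀ a b : SL(3, K) ⧸ N, a * b = b * a := by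
    intro a b
    obtain ⟨g, rfl⟩ := QuotientGroup.mk_surjective a
    obtain ⟨h, rfl⟩ := QuotientGroup.mk_surjective b
    obtain ⟨n, hn, z, hz, rfl⟩ := hrep g
    have h2 : ((n * z : SL(3, K)) : SL(3, K) ⧸ N) = (z : SL(3, K) ⧸ N) := by
      rw [QuotientGroup.mk_mul, (QuotientGroup.eq_one_iff n).2 hn, one_mul]
    rw [h2, ← QuotientGroup.mk_mul, ← QuotientGroup.mk_mul, Subgroup.mem_center_iff.1 hz h]
  have h2 : (ψ : SL(3, K) ⧸ N → ℂ) 1 = 1 := CCBasic.irr_apply_one_of_comm hab ψ.2
  have h3 : (χ : SL(3, K) → ℂ) 1 = 1 := by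
    rw [← hψ, infl_apply]
    exact h2
  have h4 := (charDegree_eq_one_iff χ).2 h3
  omega

end SL

end Cfsg.Agent.H174.E65
end

-- part: H412/E65Mod
section
/-!
# S3650, characteristics 2 and 3 (helper412)

`modular`: if `T` is a torus as in `TI H T` and every irreducible character of `H` is constant on `T - 1` or has degree
`1937376` and small values on `T - 1` then for `t = 2, 3` elements of order `829` of `H` have fixed points on every nonzero
elementary abelian `t`-group on which `H` acts.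
-/

set_option autoImplicit false

namespace Cfsg.Agent.H412.E65Mod

open Cfsg IsLocalRing Module Cfsg.Agent.H657 Cfsg.Agent.H608.BlockRank Cfsg.Agent.Blocks.Basic
open Cfsg.Agent.H163.E65

attribute [local instance] Above.isAlgClosed

universe u v

section irr

variable {H : Type u} [Group H] [Finite H] {T : Subgroup H}

omit [Finite H] in
/-- the sum of a Brauer character over a subgroup of order prime to `p` -/
theorem sum_bc {M : Ideal AlgInt} {p : ℕ} (hM : IsPModular p M) {V : ValuationSubring ℂ} (hV : Above M V)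
    {n : ℕ} (τ : Representation (ResidueField V) H (Fin n → ResidueField V)) (P : Subgroup H) [Fintype P]
    (hP : (Nat.card P).Coprime p) :
    ∑ g : P, bc p τ (g : H) = (Nat.card P : ℂ) *
      (Module.finrank (ResidueField V) (Representation.invariants (τ.comp P.subtype)) : ℂ) := by
  have h1 := H597.BrInv.C hM hV (P := P) (by rwa [← Nat.card_eq_fintype_card]) (τ.comp P.subtype)
  rw [← Nat.card_eq_fintype_card] at h1
  exact h1

theorem sum_const {P : Type*} [Group P] [Fintype P] {f : P → ℂ} {c : ℂ} (h : ∀ g, g ≠ 1 → f g = c) :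
    ∑ g, f g = f 1 + ((Nat.card P : ℂ) - 1) * c := by
  classical
  have h1 : ∑ g, (f g - c) = f 1 - c := by
    refine Finset.sum_eq_single_of_mem 1 (Finset.mem_univ _) fun g _ hg => ?_
    rw [h g hg, sub_self]
  rw [Finset.sum_sub_distrib, Finset.sum_const, Finset.card_univ, ← Nat.card_eq_fintype_card, nsmul_eq_mul] at h1
  linear_combination h1

omit [Finite H] in
/-- the value of the Brauer character at the identity -/
theorem bc_one {M : Ideal AlgInt} {p : ℕ} (hM : IsPModular p M) {V : ValuationSubring ℂ} (hV : Above M V)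
    {n : ℕ} (τ : Representation (ResidueField V) H (Fin n → ResidueField V)) : bc p τ (1 : H) = n := by
  have h1 := sum_bc hM hV τ (⊥ : Subgroup H) (by simp)
  rw [Fintype.sum_unique] at h1
  have h2 : Representation.invariants (τ.comp (⊥ : Subgroup H).subtype) = ⊤ := by
    rw [eq_top_iff]
    intro w _
    rw [Representation.mem_invariants]
    intro g
    have : g = 1 := Subsingleton.elim _ _
    rw [this, map_one]
    rfl
  rw [h2, finrank_top, Module.finrank_fin_fun, Subgroup.card_bot, Nat.cast_one, one_mul] at h1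
  exact h1

/-- the irreducible Brauer character -/
theorem exists_fix (h : TI H T) (hd : ∀ χ : IrrCharacter H, (∃ c : ℤ, ∀ x ∈ T, x ≠ 1 → (χ : H → ℂ) x = c) ∨
      (charDegree (χ : H → ℂ) = 1937376 ∧ ∀ x ∈ T, x ≠ 1 → ‖(χ : H → ℂ) x‖ ≤ 3)) {t : ℕ} (ht : t = 2 ∨ t = 3)
    {M : Ideal AlgInt} (hM : IsPModular t M) {V : ValuationSubring ℂ} (hV : Above M V)
    {n : ℕ} (τ : Representation (ResidueField V) H (Fin n → ResidueField V)) (hτ : τ.IsIrreducible)
    {x : H} (hx : x ∈ T) (hxo : orderOf x = 829) : ∃ w, w ≠ 0 ∧ τ x w = w := by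
  classical
  have hpt : t.Prime := hM.1
  have hF : Fact t.Prime := ⟨hpt⟩
  have hch : CharP (ResidueField V) t := hV.charP hM
  have hMp := Blocks.Local.isPrime_of_isPModular hM
  have := Fintype.ofFinite H
  have hTc : (Nat.card T).Coprime t := by
    rw [h.card]
    rcases ht with rfl | rfl <;> norm_num
  have hreg : ∀ g ∈ T, IsPRegular t g := by
    intro g hg hdvd
    have h1 : t ∣ Nat.card T := hdvd.trans (by
      rw [← Subgroup.orderOf_mk g hg]
      exact orderOf_dvd_natCard _)
    exact hpt.coprime_iff_not_dvd.1 hTc.symm h1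
  by_contra hcon
  push Not at hcon
  let i : IBr V H := ⟨fun g => LinearMap.trace (ResidueField V) _ (τ g), n, τ, hτ, fun g => rfl⟩
  have hphi : ∀ g, IsPRegular t g → phi t i g = bc t τ g := fun g hg => phi_eq_bc i τ hτ (fun g => rfl) hg
  have hn : n ≠ 0 := by
    rintro rfl
    have := finrank_ne_zero' τ hτ
    rw [Module.finrank_fin_fun] at this
    exact this rfl
  have hphi1 : phi t i 1 = n := by
    rw [hphi 1 (hreg 1 (one_mem _)), bc_one hM hV]
  -- the sum over `⟨x⟩` vanishes
  have hxT : Subgroup.zpowers x ≤ T := by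
    rw [Subgroup.zpowers_le]
    exact hx
  have hA : ∑ g : Subgroup.zpowers x, phi t i (g : H) = 0 := by
    rw [Finset.sum_congr rfl fun (g : Subgroup.zpowers x) _ => hphi (g : H) (hreg _ (hxT g.2)),
      sum_bc hM hV τ _ (by rw [Nat.card_zpowers, hxo]; rcases ht with rfl | rfl <;> norm_num)]
    have h2 : Representation.invariants (τ.comp (Subgroup.zpowers x).subtype) = ⊥ := by
      rw [eq_bot_iff]
      intro w hw
      rw [Representation.mem_invariants] at hw
      have h3 := hw ⟨x, Subgroup.mem_zpowers x⟩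
      by_contra hw0
      exact hcon w hw0 h3
    rw [h2, finrank_bot, Nat.cast_zero, mul_zero]
  have hB : ∃ b : ℕ, ∑ g : T, phi t i (g : H) = 15751 * b := by
    refine ⟨Module.finrank (ResidueField V) (Representation.invariants (τ.comp T.subtype)), ?_⟩
    rw [Finset.sum_congr rfl fun (g : T) _ => hphi (g : H) (hreg _ g.2), sum_bc hM hV τ _ hTc, h.card]
    norm_num
  obtain ⟨b, hb⟩ := hB
  -- the block
  obtain ⟨χ, hχ⟩ := exists_under hM hV i
  have hunion : IsUnion M (blockOf M (χ : H → ℂ)) := fun ψ ψ' h1 h2 => sameBlock_trans h2 h1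
  have hspan : phi t i ∈ (charSpan (blockOf M (χ : H → ℂ))).map (pReg t) := by
    rw [map_pReg_charSpan hM hV hunion]
    exact Submodule.subset_span ⟨i, ⟨χ, mem_blockOf_self χ, hχ⟩, rfl⟩
  obtain ⟨w, hw, hwphi⟩ := hspan
  have hval : ∀ g ∈ T, phi t i g = w g := by
    intro g hg
    rw [← hwphi, pReg_of (hreg g hg)]
  by_cases hall : ∀ ψ ∈ blockOf M (χ : H → ℂ), ∃ c : ℤ, ∀ x ∈ T, x ≠ 1 → (ψ : H → ℂ) x = c
  · -- all characters of the block are constant on `T - 1`
    have hc : ∃ c : ℂ, ∀ x ∈ T, x ≠ 1 → w x = c := by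
      unfold charSpan at hw
      refine Submodule.span_induction (p := fun u _ => ∃ c : ℂ, ∀ x ∈ T, x ≠ 1 → u x = c) ?_ ?_ ?_ ?_ hw
      · rintro _ ⟨ψ, hψ, rfl⟩
        obtain ⟨c, hc⟩ := hall ψ hψ
        exact ⟨c, hc⟩
      · exact ⟨0, fun _ _ _ => rfl⟩
      · rintro a b _ _ ⟨c, hc⟩ ⟨d, hd⟩
        exact ⟨c + d, fun x hx hx1 => by rw [Pi.add_apply, hc x hx hx1, hd x hx hx1]⟩
      · rintro a u _ ⟨c, hc⟩
        exact ⟨a * c, fun x hx hx1 => by rw [Pi.smul_apply, hc x hx hx1, smul_eq_mul]⟩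
    obtain ⟨c, hc⟩ := hc
    have hA' := sum_const (P := Subgroup.zpowers x) (f := fun g => phi t i (g : H)) (c := c) (fun g hg => by
      rw [hval _ (hxT g.2), hc _ (hxT g.2) (fun h0 => hg (Subtype.ext h0))])
    have hB' := sum_const (P := T) (f := fun g => phi t i (g : H)) (c := c) (fun g hg => by
      rw [hval _ g.2, hc _ g.2 (fun h0 => hg (Subtype.ext h0))])
    rw [hA, Nat.card_zpowers, hxo] at hA'
    rw [hb, h.card] at hB'
    simp only [Subgroup.coe_one, hphi1] at hA' hB'
    -- `n + 828 c = 0`, `n + 15750 c = 15751 b`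
    have h3 : (828 * 15751 * b + 14922 * n : ℂ) = 0 := by
      push_cast at hA' hB'
      linear_combination 828 * hB' - 15750 * hA'
    have h4 : 828 * 15751 * b + 14922 * n = 0 := by exact_mod_cast h3
    omega
  · push Not at hall
    obtain ⟨ψ, hψ, hψc⟩ := hall
    have hψd : charDegree (ψ : H → ℂ) = 1937376 ∧ ∀ x ∈ T, x ≠ 1 → ‖(ψ : H → ℂ) x‖ ≤ 3 := by
      rcases hd ψ with ⟨c, hc⟩ | h1
      · exfalso
        obtain ⟨y, hy, hy1, hyc⟩ := hψc c
        exact hyc (hc y hy hy1)
      · exact h1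
    have hz : ¬ t ∣ Nat.card H / charDegree (ψ : H → ℂ) := by
      rw [hψd.1, h.ord]
      rcases ht with rfl | rfl <;> norm_num
    have hbl : blockOf M (χ : H → ℂ) = {ψ} := by
      rw [← (S0914.result t M hM ψ).1 hz]
      exact blockOf_eq_of_sameBlock hψ
    rw [hbl] at hw
    have hw' : ∃ a : ℂ, w = a • (ψ : H → ℂ) := by
      unfold charSpan at hw
      rw [Set.image_singleton] at hw
      obtain ⟨a, ha⟩ := Submodule.mem_span_singleton.1 hw
      exact ⟨a, ha.symm⟩
    obtain ⟨a, rfl⟩ := hw'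
    have ha0 : a ≠ 0 := by
      rintro rfl
      have h5 := hval 1 (one_mem _)
      rw [hphi1, zero_smul, Pi.zero_apply, Nat.cast_eq_zero] at h5
      exact hn h5
    have hsum : ∑ g : Subgroup.zpowers x, (ψ : H → ℂ) (g : H) = 0 := by
      have h5 : ∑ g : Subgroup.zpowers x, phi t i (g : H) = a * ∑ g : Subgroup.zpowers x, (ψ : H → ℂ) (g : H) := by
        rw [Finset.mul_sum]
        exact Finset.sum_congr rfl fun g _ => hval _ (hxT g.2)
      rw [hA] at h5
      exact (mul_eq_zero.1 h5.symm).resolve_left ha0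
    rw [← Finset.add_sum_erase Finset.univ (fun g : Subgroup.zpowers x => (ψ : H → ℂ) (g : H))
      (Finset.mem_univ (1 : Subgroup.zpowers x))] at hsum
    have h6 : ‖∑ g ∈ Finset.univ.erase (1 : Subgroup.zpowers x), (ψ : H → ℂ) (g : H)‖ ≤ 828 * 3 := by
      refine (norm_sum_le_of_le (f := fun g : Subgroup.zpowers x => (ψ : H → ℂ) (g : H)) _
        (n := fun _ => (3 : ℝ)) fun g hg => ?_).trans ?_
      · exact hψd.2 _ (hxT g.2) (fun h0 => (Finset.mem_erase.1 hg).1 (Subtype.ext h0))
      · rw [Finset.sum_const, Finset.card_erase_of_mem (Finset.mem_univ _), Finset.card_univ,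
          ← Nat.card_eq_fintype_card, Nat.card_zpowers, hxo]
        norm_num
    have h7 : ((ψ : H → ℂ) ((1 : Subgroup.zpowers x) : H)) = (1937376 : ℂ) := by
      rw [Subgroup.coe_one, irr_one_eq_charDegree ψ.2, hψd.1]
      norm_num
    rw [h7] at hsum
    have h8 : ∑ g ∈ Finset.univ.erase (1 : Subgroup.zpowers x), (ψ : H → ℂ) (g : H) = -1937376 := by
      linear_combination hsum
    rw [h8, norm_neg] at h6
    norm_num at h6

end irr

section main

open scoped TensorProduct

theorem asAlgebraHom_sub {K : Type*} [Field K] {H : Type*} [Group H] {W : Type*} [AddCommGroup W] [Module K W]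
    (σ : Representation K H W) (x : H) :
    σ.asAlgebraHom (MonoidAlgebra.single x 1 - 1) = σ x - 1 := by
  rw [map_sub, map_one, Representation.asAlgebraHom_single, one_smul]

theorem det_ne_zero_of {K : Type*} [Field K] {W : Type*} [AddCommGroup W] [Module K W] [FiniteDimensional K W]
    (f : Module.End K W) (h : ∀ w, w ≠ 0 → f w ≠ w) : LinearMap.det (f - 1) ≠ 0 := by
  have hker : LinearMap.ker (f - 1) = ⊥ := by
    rw [LinearMap.ker_eq_bot']
    intro w hw
    by_contra hw0
    apply h w hw0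
    rw [LinearMap.sub_apply, Module.End.one_apply, sub_eq_zero] at hw
    exact hw
  have h1 := (LinearMap.isUnit_iff_ker_eq_bot (f - 1)).2 hker
  exact ((LinearMap.isUnit_iff_isUnit_det _).1 h1).ne_zero

theorem det_eq_zero_of {K : Type*} [Field K] {W : Type*} [AddCommGroup W] [Module K W] [FiniteDimensional K W]
    (f : Module.End K W) (h : ∃ w, w ≠ 0 ∧ f w = w) : LinearMap.det (f - 1) = 0 := by
  by_contra h1
  obtain ⟨w, hw, hfw⟩ := h
  have h2 := (LinearMap.isUnit_iff_ker_eq_bot (f - 1)).1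
    ((LinearMap.isUnit_iff_isUnit_det _).2 (isUnit_iff_ne_zero.2 h1))
  rw [LinearMap.ker_eq_bot'] at h2
  apply hw
  apply h2
  rw [LinearMap.sub_apply, Module.End.one_apply, hfw, sub_self]

/-- From the irreducible representations over an extension field to all representations. -/
theorem exists_fix_of_irr {k K : Type*} [Field k] [Field K] [Algebra k K] {H : Type*} [Group H] (x : H)
    (hirr : ∀ (n : ℕ) (τ : Representation K H (Fin n → K)), τ.IsIrreducible → ∃ w, w ≠ 0 ∧ τ x w = w)
    {W : Type*} [AddCommGroup W] [Module k W] [FiniteDimensional k W] [Nontrivial W] (σ : Representation k H W) :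
    ∃ w, w ≠ 0 ∧ σ x w = w := by
  by_contra hcon
  push Not at hcon
  have hdet := det_ne_zero_of (σ x) hcon
  let σK : Representation K H (K ⊗[k] W) :=
    ((Module.End.baseChangeHom (R := k) (A := K) (M := W) : Module.End k W →* Module.End K (K ⊗[k] W))).comp σ
  have h1 : ∀ g, σK g = (σ g).baseChange K := fun _ => rfl
  have h2 : LinearMap.det (σK x - 1) = algebraMap k K (LinearMap.det (σ x - 1)) := by
    rw [← LinearMap.det_baseChange, LinearMap.baseChange_sub, LinearMap.baseChange_one, h1]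
  obtain ⟨m, n, τ, hτ, hd⟩ := H657.Factors.exists_factors σK
  have h3 := hd (MonoidAlgebra.single x 1 - 1)
  rw [asAlgebraHom_sub, h2] at h3
  have hm : 0 < m := by
    rcases Nat.eq_zero_or_pos m with rfl | h4
    · exfalso
      have h5 := hd 0
      rw [map_zero, Fin.prod_univ_zero] at h5
      have h6 : Nontrivial (K ⊗[k] W) := inferInstance
      rw [LinearMap.det_zero, zero_pow (Module.finrank_pos (R := K)).ne'] at h5
      exact zero_ne_one h5
    · exact h4
  have h4 : ∏ i, LinearMap.det ((τ i).asAlgebraHom (MonoidAlgebra.single x 1 - 1)) = 0 := by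
    refine Finset.prod_eq_zero (Finset.mem_univ (⟨0, hm⟩ : Fin m)) ?_
    rw [asAlgebraHom_sub]
    exact det_eq_zero_of _ (hirr _ _ (hτ _))
  rw [h4] at h3
  exact hdet ((map_eq_zero _).1 h3)

/-- an action on an elementary abelian group as a representation -/
def repZ (t : ℕ) {H : Type*} [Group H] {W : Type*} [AddCommGroup W] [Module (ZMod t) W] (ρ : H →* AddMonoid.End W) :
    Representation (ZMod t) H W where
  toFun g :=
    { toFun := fun w => ρ g w
      map_add' := map_add (ρ g)
      map_smul' := ZMod.map_smul (ρ g) }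
  map_one' := by
    refine LinearMap.ext fun w => ?_
    rw [Module.End.one_apply, LinearMap.coe_mk, AddHom.coe_mk, map_one, AddMonoid.End.coe_one, id_eq]
  map_mul' := by
    intro a b
    refine LinearMap.ext fun w => ?_
    rw [Module.End.mul_apply, LinearMap.coe_mk, AddHom.coe_mk, LinearMap.coe_mk, AddHom.coe_mk,
      LinearMap.coe_mk, AddHom.coe_mk, map_mul, AddMonoid.End.coe_mul, Function.comp_apply]

theorem exists_fix_repZ {t : ℕ} [Fact t.Prime] {K : Type*} [Field K] [CharP K t] {H : Type*} [Group H] (x : H)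
    (hirr : ∀ (n : ℕ) (τ : Representation K H (Fin n → K)), τ.IsIrreducible → ∃ w, w ≠ 0 ∧ τ x w = w)
    {W : Type*} [AddCommGroup W] [Nontrivial W] [Finite W] [Module (ZMod t) W] (ρ : H →* AddMonoid.End W) :
    ∃ w, w ≠ 0 ∧ ρ x w = w := by
  let _ : Algebra (ZMod t) K := ZMod.algebra K t
  have hfin : Module.Finite (ZMod t) W := Module.Finite.of_finite
  exact exists_fix_of_irr x hirr (repZ t ρ)

variable {H : Type u} [Group H] [Finite H] {T : Subgroup H}

/-- **Characteristics 2 and 3.** -/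
theorem modular (h : TI H T)
    (hd : ∀ χ : IrrCharacter H, (∃ c : ℤ, ∀ x ∈ T, x ≠ 1 → (χ : H → ℂ) x = c) ∨
      (charDegree (χ : H → ℂ) = 1937376 ∧ ∀ x ∈ T, x ≠ 1 → ‖(χ : H → ℂ) x‖ ≤ 3)) {t : ℕ} (ht : t = 2 ∨ t = 3) :
    Fixes.{u, v} H t 829 := by
  intro W _ _ _ ρ htW
  classical
  have htp : t.Prime := by rcases ht with rfl | rfl <;> norm_num
  have hF : Fact t.Prime := ⟨htp⟩
  have h829 : Nat.Prime 829 := by norm_num
  have hF2 : Fact (Nat.Prime 829) := ⟨h829⟩
  obtain ⟨x, hx⟩ := exists_prime_orderOf_dvd_card' (G := T) 829 (by rw [h.card]; norm_num)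
  have hxo : orderOf (x : H) = 829 := by rw [← hx]; exact orderOf_injective T.subtype T.subtype_injective x
  refine ⟨x, hxo, ?_⟩
  obtain ⟨M, hM⟩ := Blocks.ExistsModular.exists_isPModular htp
  obtain ⟨V, hV⟩ := exists_above hM
  have hch : CharP (ResidueField V) t := hV.charP hM
  let _ : Module (ZMod t) W := AddCommGroup.zmodModule htW
  exact exists_fix_repZ (t := t) (K := ResidueField V) (x : H)
    (fun n τ hτ => exists_fix h hd ht hM hV τ hτ x.2 hxo) ρ

end main

end Cfsg.Agent.H412.E65Mod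
end

-- part: H163/E65/Step
section
/-!
# S3650: steps of the assembly (helper163)

* `top_of_outer`, `bot_of_fixes`, `equiv_of_bot` : the abstract steps;
* `fixes_829` : characteristics 2 and 3, from an embedding of `SL₃(125)`;
* `graph_L5`.
-/

set_option autoImplicit false

namespace Cfsg.Agent.H163.E65

universe u u₁ u₂ v w

open Cfsg Cfsg.Lie
open scoped MatrixGroups

theorem Fixes.of_injective {H : Type u₁} [Group H] {A : Type u₂} [Group A] (L : Subgroup A) (f : H →* L) (hf : Function.Injective f)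
    {t p : ℕ} (h : Fixes.{u₁, v} H t p) : Fixes.{u₂, v} L t p := by
  intro V _ _ _ ρ hV
  obtain ⟨x, hx, w, hw, e⟩ := h V (ρ.comp f) hV
  exact ⟨f x, by rw [orderOf_injective f hf, hx], w, hw, e⟩

theorem transport_graph {A B : Type*} [Group A] [Group B] (e : A ≃* B) {n : ℕ}
    (h : ∃ (x : A) (γ : MulAut A), orderOf x = n ∧ orderOf γ = 2 ∧ γ x = x) :
    ∃ (x : B) (γ : MulAut B), orderOf x = n ∧ orderOf γ = 2 ∧ γ x = x := by
  obtain ⟨x, γ, hx, hγ, hxγ⟩ := h
  refine ⟨e x, MulAut.congr e γ, ?_, ?_, ?_⟩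
  · rw [MulEquiv.orderOf_eq, hx]
  · rw [MulEquiv.orderOf_eq, hγ]
  · show e (γ (e.symm (e x))) = e x
    rw [MulEquiv.symm_apply_apply, hxγ]

theorem transport_graph' {A B : Type*} [Group A] [Group B] (H : Subgroup A) (K : Subgroup B) (e : H ≃* K) {n : ℕ}
    (h : ∃ (x : H) (γ : MulAut H), orderOf x = n ∧ orderOf γ = 2 ∧ γ x = x) :
    ∃ (x : K) (γ : MulAut K), orderOf x = n ∧ orderOf γ = 2 ∧ γ x = x := transport_graph e h

/-- the assembly, abstractly: `S = ⊤` -/
theorem top_of_outer {G : Type u} [Group G] [Finite G] {A : Type v} [Group A] (L : Subgroup A) {K : Subgroup G}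
    [K.Normal] {S : Subgroup (G ⧸ K)} [S.Normal] (e : S ≃* L) (hC : Subgroup.centralizer (S : Set (G ⧸ K)) = ⊥)
    (outer : ∀ {X : Type u} [Group X] [Finite X] (S : Subgroup X) [S.Normal], (S ≃* L) →
      Subgroup.centralizer (S : Set X) = ⊥ → S ≠ ⊤ → ∃ x : X, orderOf x = 2 * 601)
    (h2 : ∀ y : G, orderOf y ≠ 2 * 601) : S = ⊤ := by
  by_contra hne
  obtain ⟨x, hx⟩ := outer S e hC hne
  obtain ⟨g, hg1, -⟩ := Cfsg.Agent.H421.Act.orderOf_lift (QuotientGroup.mk' K) (QuotientGroup.mk'_surjective K) x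
  exact h2 g (hg1.trans hx)

/-- the assembly, abstractly: `K = ⊥` -/
theorem bot_of_fixes {G : Type u} [Group G] [Finite G] {A : Type v} [Group A] (L : Subgroup A) {K : Subgroup G}
    [K.Normal]
    (hK : Group.IsSolvable K) (q : G ⧸ K ≃* L)
    (hf : ∀ t : ℕ, t.Prime → t ∣ Nat.card K → ∃ p : ℕ, p.Prime ∧ p ≠ t ∧ (∀ y : G, orderOf y ≠ p * t) ∧
      Fixes.{v, u} L t p) : K = ⊥ := by
  by_contra hne
  obtain ⟨t, V, _, _, _, ρ, ht, htK, hV, hfix⟩ := Cfsg.Agent.H421.Act.exists_top K hne hK
  obtain ⟨p, hp, hpt, hno, hfx⟩ := hf t ht htK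
  obtain ⟨x, hx, w, hw, e⟩ := hfx V (ρ.comp q.symm.toMonoidHom) hV
  exact hw (hfix p hp hpt hno (q.symm x) (by rw [MulEquiv.orderOf_eq, hx]) w e)

theorem equiv_of_bot {G : Type u} [Group G] {A : Type v} [Group A] (L : Subgroup A) {K : Subgroup G} [K.Normal]
    (hK : K = ⊥) (q : G ⧸ K ≃* L) : Nonempty (G ≃* L) := by
  subst hK
  exact ⟨(QuotientGroup.quotientBot (G := G)).symm.trans q⟩

theorem Fixes.of_sub {H : Type u₁} [Group H] {A B : Type*} [Group A] [Group B] (Q : Subgroup A) (L : Subgroup B)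
    (f : H →* Q) (hf : Function.Injective f) (e : Q ≃* L) {t p : ℕ} (h : Fixes.{u₁, v} H t p) : Fixes.{_, v} L t p :=
  h.of_injective L (e.toMonoidHom.comp f) (e.injective.comp hf)

theorem fixes_829 (sl3 : ∃ f : SL(3, GaloisField 5 3) →* Q5, Function.Injective f) {t : ℕ} (ht : t = 2 ∨ t = 3) :
    Fixes.{0, v} L5 t 829 := by
  obtain ⟨f, hf⟩ := sl3
  obtain ⟨e⟩ := Q5_equiv
  have hft : Fintype (GaloisField 5 3) := Fintype.ofFinite _
  have hK : Fintype.card (GaloisField 5 3) = 125 := by
    rw [← Nat.card_eq_fintype_card, GaloisField.card 5 3 (by norm_num)]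
    norm_num
  obtain ⟨T, hT⟩ := Cfsg.Agent.H122.E65.exists_ti hK
  have h1 : Fixes.{0, v} SL(3, GaloisField 5 3) t 829 :=
    Cfsg.Agent.H412.E65Mod.modular hT (Cfsg.Agent.H174.E65.dichotomy hT (Cfsg.Agent.H174.E65.three hK)) ht
  exact h1.of_sub _ _ f hf e

theorem graph_L5 : ∃ (x : L5) (γ : MulAut L5), orderOf x = 601 ∧ orderOf γ = 2 ∧ γ x = x := by
  obtain ⟨e⟩ := Q5_equiv
  exact transport_graph' _ _ e Cfsg.Agent.H184.GraphE6.exists_graph'

/-- no outer automorphisms -/
theorem top_of_L5 {G : Type u} [Group G] [Finite G] {K : Subgroup G} [K.Normal]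
    {S : Subgroup (G ⧸ K)} [S.Normal] (e : S ≃* L5) (hC : Subgroup.centralizer (S : Set (G ⧸ K)) = ⊥)
    (h2 : ∀ y : G, orderOf y ≠ 2 * 601) : S = ⊤ := by
  refine top_of_outer _ e hC ?_ h2
  intro X _ _ S' _ e' hC' hne
  exact Cfsg.Agent.H631.OuterE65.outer graph_L5 S' e' hC' hne

end Cfsg.Agent.H163.E65
end

-- part: H977/E6FSec
section
/-!
# The simple section of a group with the prime graph of `E₆(5)` (helper977, for S3650)

* `exists_red` : the reduction;
* `section_iso` : the simple section is isomorphic to `E₆(5)`.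
-/

set_option autoImplicit false

namespace Cfsg.Agent.H977.E6F

open Cfsg Cfsg.Lie Cfsg.Agent.H436 Cfsg.Agent.OrdDiv Cfsg.Agent.H72 Cfsg.Agent.H420.QR Cfsg.Agent.H376.Coc
open Cfsg.Agent.H425.Chr
open Cfsg.Agent.H977.Mn (char_dvd dvd_of_same dvd_small coc_of_coq)

universe u v

section

variable {F : Type v} [Field F] [Fintype F]

theorem coq4 (hF : Fintype.card F = 5) (h1 : ¬ ∃ x : ↥(chevE6.group F), orderOf x = 71 * 313) :
    IsCoq ↥(chevE6.group F) {71, 313, 601, 829} := by
  have h2 : ¬ ∃ x : ↥(chevE6.group F), orderOf x = 313 * 71 := by rwa [mul_comm]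
  have k1 := fun {s : ℕ} (hs : s.Prime) (h1 : s ≠ 31) (h2 : s ≠ 601) => nadj_601 hF hs h1 h2
  have k2 := fun {s : ℕ} (hs : s.Prime) (h1 : s ≠ 19) (h2 : s ≠ 829) => nadj_829 hF hs h1 h2
  refine ⟨?_, ?_, ?_⟩
  · intro r hr
    simp only [Finset.mem_insert, Finset.mem_singleton] at hr
    rcases hr with rfl | rfl | rfl | rfl <;> norm_num
  · intro r hr
    refine dvd_of_mem hF ?_
    simp only [Finset.mem_insert, Finset.mem_singleton] at hr
    rcases hr with rfl | rfl | rfl | rfl <;> decide
  · intro r hr s hs hrs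
    simp only [Finset.mem_insert, Finset.mem_singleton] at hr hs
    rcases hr with rfl | rfl | rfl | rfl <;> rcases hs with rfl | rfl | rfl | rfl
    · exact absurd rfl hrs
    · exact h1
    · rw [mul_comm]; exact k1 (by norm_num) (by norm_num) (by norm_num)
    · rw [mul_comm]; exact k2 (by norm_num) (by norm_num) (by norm_num)
    · exact h2
    · exact absurd rfl hrs
    · rw [mul_comm]; exact k1 (by norm_num) (by norm_num) (by norm_num)
    · rw [mul_comm]; exact k2 (by norm_num) (by norm_num) (by norm_num)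
    · exact k1 (by norm_num) (by norm_num) (by norm_num)
    · exact k1 (by norm_num) (by norm_num) (by norm_num)
    · exact absurd rfl hrs
    · exact k1 (by norm_num) (by norm_num) (by norm_num)
    · exact k2 (by norm_num) (by norm_num) (by norm_num)
    · exact k2 (by norm_num) (by norm_num) (by norm_num)
    · exact k2 (by norm_num) (by norm_num) (by norm_num)
    · exact absurd rfl hrs

end

/-! ### characteristic five -/

/-- the classes over the field with five elements -/
def E5 : List ℕ := [3, 4, 5, 6, 8, 9, 12]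

theorem mem_E5 {c : ℕ} (hpi : ∀ r : ℕ, r.Prime → r ∣ c → r ∈ P) {e : ℕ} (h3 : 3 ≤ e) (h : In 5 c e) : e ∈ E5 := by
  obtain ⟨w, hw, hwc⟩ := h
  have hP := hpi w hw.prime hwc
  have key : ∀ k, 0 < k → w ∣ 5 ^ k - 1 → e ∣ k ∧ e ≤ k := fun k hk h => by
    have h1 := (hw.dvd_iff k).1 h
    exact ⟨h1, Nat.le_of_dvd hk h1⟩
  simp only [P, List.mem_cons, List.not_mem_nil, or_false] at hP
  rcases hP with rfl | rfl | rfl | rfl | rfl | rfl | rfl | rfl | rfl | rfl | rfl | rfl
  · obtain ⟨h1, h2⟩ := key 1 (by norm_num) (by norm_num)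
    omega
  · obtain ⟨h1, h2⟩ := key 2 (by norm_num) (by norm_num)
    omega
  · exact absurd (dvd_refl 5) hw.not_dvd
  · obtain ⟨h1, h2⟩ := key 6 (by norm_num) (by norm_num)
    interval_cases e <;> first | decide | (exact absurd h1 (by decide))
  · obtain ⟨h1, h2⟩ := key 5 (by norm_num) (by norm_num)
    interval_cases e <;> first | decide | (exact absurd h1 (by decide))
  · obtain ⟨h1, h2⟩ := key 4 (by norm_num) (by norm_num)
    interval_cases e <;> first | decide | (exact absurd h1 (by decide))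
  · obtain ⟨h1, h2⟩ := key 9 (by norm_num) (by norm_num)
    interval_cases e <;> first | decide | (exact absurd h1 (by decide))
  · obtain ⟨h1, h2⟩ := key 3 (by norm_num) (by norm_num)
    interval_cases e <;> first | decide | (exact absurd h1 (by decide))
  · obtain ⟨h1, h2⟩ := key 5 (by norm_num) (by norm_num)
    interval_cases e <;> first | decide | (exact absurd h1 (by decide))
  · obtain ⟨h1, h2⟩ := key 8 (by norm_num) (by norm_num)
    interval_cases e <;> first | decide | (exact absurd h1 (by decide))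
  · obtain ⟨h1, h2⟩ := key 12 (by norm_num) (by norm_num)
    interval_cases e <;> first | decide | (exact absurd h1 (by decide))
  · obtain ⟨h1, h2⟩ := key 9 (by norm_num) (by norm_num)
    interval_cases e <;> first | decide | (exact absurd h1 (by decide))

theorem prim829 : Prim 5 9 829 := MnTab.prim_of_ordB' [(3, 2)] (by decide +kernel) (by norm_num) (by norm_num)

theorem prim601 : Prim 5 12 601 := MnTab.prim_of_ordB' [(2, 2), (3, 1)] (by decide +kernel) (by norm_num) (by norm_num)

theorem prim71 : Prim 5 5 71 := MnTab.prim_of_ordB' [(5, 1)] (by decide +kernel) (by norm_num) (by norm_num)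

theorem prim313 : Prim 5 8 313 := MnTab.prim_of_ordB' [(2, 3)] (by decide +kernel) (by norm_num) (by norm_num)

/-- a class which always occurs -/
theorem exists_low {f c : ℕ} {g : Grp} (H : Dat 5 f c g) (h2 : ∀ q, g ≠ .psl 2 q) : K g 3 ∨ K g 4 ∨ K g 6 := by
  have hcond := H.cond
  have hq := H.hq
  have h5 : ∀ {m : ℕ}, 5 ^ f ≠ 2 ^ m := fun {m} h => by
    have h1 : 5 ∣ 2 ^ m := h ▸ dvd_pow_self 5 H.hf
    exact absurd (Nat.prime_five.dvd_of_dvd_pow h1) (by norm_num)
  have h5' : ∀ {m : ℕ}, 5 ^ f ≠ 3 ^ m := fun {m} h => by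
    have h1 : 5 ∣ 3 ^ m := h ▸ dvd_pow_self 5 H.hf
    exact absurd (Nat.prime_five.dvd_of_dvd_pow h1) (by norm_num)
  cases g with
  | psl m q =>
    have hm : 2 ≤ m := hcond.1
    have hm2 : m ≠ 2 := fun h => h2 q (by rw [h])
    exact Or.inl (by change 3 ≤ m; omega)
  | psp m q => exact Or.inr (Or.inl ⟨2, by norm_num, hcond.1, by norm_num⟩)
  | psu m q => exact Or.inr (Or.inr ⟨3, by norm_num, hcond.1, Or.inl ⟨by norm_num, by norm_num, by norm_num⟩⟩)
  | oodd m q =>
    have hm : 3 ≤ m := hcond.1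
    exact Or.inr (Or.inl ⟨2, by norm_num, by omega, by norm_num⟩)
  | oplus m q =>
    have hm : 4 ≤ m := hcond.1
    exact Or.inr (Or.inl (Or.inr ⟨2, by norm_num, by omega, by norm_num⟩))
  | ominus m q =>
    have hm : 4 ≤ m := hcond.1
    exact Or.inr (Or.inl (Or.inr ⟨2, by norm_num, by omega, by norm_num⟩))
  | g2 q => exact Or.inl (Or.inr (by norm_num))
  | f4 q => exact Or.inl (Or.inr (Or.inl (by norm_num)))
  | e6 q => exact Or.inl (Or.inr (Or.inr (Or.inl (by norm_num))))
  | e7 q => exact Or.inl (Or.inr (Or.inl (by norm_num)))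
  | e8 q => exact Or.inl (Or.inr (Or.inr (Or.inl (by norm_num))))
  | te6 q => exact Or.inl (Or.inr (Or.inr (Or.inl (by norm_num))))
  | td4 q => exact Or.inl (Or.inr (Or.inl (by norm_num)))
  | sz q =>
    obtain ⟨m, hm, hq'⟩ := hcond
    exact absurd (hq.symm.trans hq') h5
  | ree q =>
    obtain ⟨m, hm, hq'⟩ := hcond
    exact absurd (hq.symm.trans hq') h5'
  | tf4 q =>
    obtain ⟨m, hm, hq'⟩ := hcond
    exact absurd (hq.symm.trans hq') h5
  | _ => exfalso; exact absurd hq (by change 0 ≠ 5 ^ f; positivity)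

/-- **Characteristic five.** -/
theorem five {f c : ℕ} {g : Grp} (H : Dat 5 f c g) (h2 : ∀ q, g ≠ .psl 2 q)
    (hpi : ∀ r : ℕ, r.Prime → r ∣ c → r ∈ P) (h829 : 829 ∣ c) (h601 : 601 ∣ c) :
    g = .e6 5 ∨ (g = .psl 4 (5 ^ 3) ∧ f = 3) := by
  have hf := H.hf
  have mulE : ∀ d, 3 ≤ d → K g d → f * d ∈ E5 := fun d hd h =>
    mem_E5 hpi (by nlinarith [Nat.pos_of_ne_zero hf]) (H.in_mul hd h)
  have h9 : In 5 c 9 := ⟨829, prim829, h829⟩
  have h12 : In 5 c 12 := ⟨601, prim601, h601⟩
  have hle : f ≤ 4 := by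
    have h1 : ∀ x ∈ E5, x ≤ 12 := by decide
    rcases exists_low H h2 with h | h | h
    · have := h1 _ (mulE 3 le_rfl h); omega
    · have := h1 _ (mulE 4 (by norm_num) h); omega
    · have := h1 _ (mulE 6 (by norm_num) h); omega
  have hf13 : f = 1 ∨ f = 3 := by
    have h1 : f = 1 ∨ f = 2 ∨ f = 3 ∨ f = 4 := by omega
    rcases h1 with rfl | rfl | rfl | rfl
    · exact Or.inl rfl
    · exact absurd (mem_E5 hpi (by decide) (H.in_lcm (e := 9) (by decide) h9)) (by decide)
    · exact Or.inr rfl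
    · exact absurd (mem_E5 hpi (by decide) (H.in_lcm (e := 9) (by decide) h9)) (by decide)
  have hq := H.hq
  have hcond := H.cond
  rcases hf13 with rfl | rfl
  · left
    have k9 : K g 9 := (H.in_one (by norm_num)).1 h9
    have k12 : K g 12 := (H.in_one (by norm_num)).1 h12
    have k7 : ¬ K g 7 := fun h => absurd (mem_E5 hpi (by norm_num) ((H.in_one (by norm_num)).2 h)) (by decide)
    have k10 : ¬ K g 10 := fun h => absurd (mem_E5 hpi (by norm_num) ((H.in_one (by norm_num)).2 h)) (by decide)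
    cases g with
    | psl m q => exact absurd (show 7 ≤ m from le_trans (by norm_num) (show 9 ≤ m from k9)) k7
    | psp m q =>
      obtain ⟨k, hk1, hk2, hk3⟩ := k9
      exfalso
      exact k7 ⟨7, by norm_num, by have := Nat.le_of_dvd (by omega) ((Nat.Coprime.dvd_mul_left (by norm_num)).1 hk3); omega,
        by norm_num⟩
    | oodd m q =>
      obtain ⟨k, hk1, hk2, hk3⟩ := k9
      exfalso
      exact k7 ⟨7, by norm_num, by have := Nat.le_of_dvd (by omega) ((Nat.Coprime.dvd_mul_left (by norm_num)).1 hk3); omega,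
        by norm_num⟩
    | psu m q =>
      exfalso
      obtain ⟨k, hk1, hk2, h | h⟩ := k9
      · exact h.2.2 ((Nat.Coprime.dvd_mul_left (by norm_num)).1 h.2.1)
      · refine k10 ⟨5, by norm_num, ?_, Or.inl ⟨by norm_num, by norm_num, by norm_num⟩⟩
        have := Nat.le_of_dvd (by omega) h.2
        omega
    | oplus m q =>
      exfalso
      have hm : 4 ≤ m := hcond.1
      rcases k9 with h | ⟨k, hk1, hk2, hk3⟩
      · have := Nat.le_of_dvd (by omega) h
        exact k7 (Or.inr ⟨7, by norm_num, by omega, by norm_num⟩)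
      · have := Nat.le_of_dvd (by omega) ((Nat.Coprime.dvd_mul_left (m := 2) (by norm_num)).1 hk3)
        exact k7 (Or.inr ⟨7, by norm_num, by omega, by norm_num⟩)
    | ominus m q =>
      exfalso
      have hm : 4 ≤ m := hcond.1
      rcases k9 with h | ⟨k, hk1, hk2, hk3⟩
      · exact h.2 ((Nat.Coprime.dvd_mul_left (by norm_num)).1 h.1)
      · have := Nat.le_of_dvd (by omega) ((Nat.Coprime.dvd_mul_left (m := 2) (by norm_num)).1 hk3)
        exact k7 (Or.inr ⟨7, by norm_num, by omega, by norm_num⟩)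
    | g2 q => exact absurd (show K (.g2 q) 9 from k9) (by change ¬ (9 ∣ 2 ∨ 9 ∣ 6); decide)
    | f4 q => exact absurd (show K (.f4 q) 9 from k9) (by change ¬ (9 ∣ 2 ∨ 9 ∣ 6 ∨ 9 ∣ 8 ∨ 9 ∣ 12); decide)
    | e6 q =>
      obtain rfl : q = 5 ^ 1 := hq
      norm_num
    | e7 q => exact absurd (show K (.e7 q) 7 from Or.inr (Or.inr (Or.inr (Or.inr (Or.inr (Or.inl (by norm_num))))))) k7
    | e8 q => exact absurd (show K (.e8 q) 7 from Or.inr (Or.inr (Or.inr (Or.inl (by norm_num))))) k7
    | te6 q => exact absurd (show K (.te6 q) 9 from k9) (by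
        change ¬ (9 ∣ 2 ∨ (9 ∣ 2 * 5 ∧ ¬ 9 ∣ 5) ∨ 9 ∣ 6 ∨ 9 ∣ 8 ∨ (9 ∣ 2 * 9 ∧ ¬ 9 ∣ 9) ∨ 9 ∣ 12); decide)
    | td4 q => exact absurd (show K (.td4 q) 9 from k9) (by change ¬ (9 ∣ 2 ∨ 9 ∣ 6 ∨ (9 ∣ 12 ∧ ¬ 9 ∣ 4)); decide)
    | sz q => exact absurd (show K (.sz q) 9 from k9) (by change ¬ (9 ∣ 1 ∨ (9 ∣ 2 * 2 ∧ ¬ 9 ∣ 2)); decide)
    | ree q => exact absurd (show K (.ree q) 9 from k9) (by change ¬ (9 ∣ 1 ∨ (9 ∣ 2 * 3 ∧ ¬ 9 ∣ 3)); decide)
    | tf4 q => exact absurd (show K (.tf4 q) 9 from k9) (by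
        change ¬ (9 ∣ 1 ∨ (9 ∣ 2 * 3 ∧ ¬ 9 ∣ 3) ∨ 9 ∣ 4 ∨ (9 ∣ 2 * 6 ∧ ¬ 9 ∣ 6)); decide)
    | _ => exact absurd k9 (fun h => h)
  · right
    have k3 : K g 3 := (H.in_iff (e := 9) (by decide)).1 h9
    have k4 : K g 4 := (H.in_iff (e := 12) (by decide)).1 h12
    have k5 : ¬ K g 5 := fun h => absurd (mulE 5 (by norm_num) h) (by decide)
    have k6 : ¬ K g 6 := fun h => absurd (mulE 6 (by norm_num) h) (by decide)
    cases g with
    | psl m q =>
      obtain rfl : q = 5 ^ 3 := hq
      have h1 : 4 ≤ m := k4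
      have h3 : ¬ 5 ≤ m := k5
      obtain rfl : m = 4 := by omega
      exact ⟨rfl, rfl⟩
    | psp m q =>
      obtain ⟨k, hk1, hk2, hk3⟩ := k3
      exfalso
      exact k6 ⟨3, by norm_num, by have := Nat.le_of_dvd (by omega) ((Nat.Coprime.dvd_mul_left (by norm_num)).1 hk3); omega,
        by norm_num⟩
    | oodd m q =>
      obtain ⟨k, hk1, hk2, hk3⟩ := k3
      exfalso
      exact k6 ⟨3, by norm_num, by have := Nat.le_of_dvd (by omega) ((Nat.Coprime.dvd_mul_left (by norm_num)).1 hk3); omega,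
        by norm_num⟩
    | psu m q =>
      exfalso
      exact k6 ⟨3, by norm_num, hcond.1, Or.inl ⟨by norm_num, by norm_num, by norm_num⟩⟩
    | oplus m q =>
      exfalso
      have hm : 4 ≤ m := hcond.1
      exact k6 (Or.inr ⟨3, by norm_num, by omega, by norm_num⟩)
    | ominus m q =>
      exfalso
      have hm : 4 ≤ m := hcond.1
      exact k6 (Or.inr ⟨3, by norm_num, by omega, by norm_num⟩)
    | g2 q => exact absurd (show K (.g2 q) 6 from Or.inr (by norm_num)) k6
    | f4 q => exact absurd (show K (.f4 q) 6 from Or.inr (Or.inl (by norm_num))) k6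
    | e6 q => exact absurd (show K (.e6 q) 6 from Or.inr (Or.inr (Or.inl (by norm_num)))) k6
    | e7 q => exact absurd (show K (.e7 q) 6 from Or.inr (Or.inl (by norm_num))) k6
    | e8 q => exact absurd (show K (.e8 q) 6 from Or.inr (Or.inr (Or.inl (by norm_num)))) k6
    | te6 q => exact absurd (show K (.te6 q) 6 from Or.inr (Or.inr (Or.inl (by norm_num)))) k6
    | td4 q => exact absurd (show K (.td4 q) 6 from Or.inr (Or.inl (by norm_num))) k6
    | sz q => exact absurd (show K (.sz q) 3 from k3) (by change ¬ (3 ∣ 1 ∨ (3 ∣ 2 * 2 ∧ ¬ 3 ∣ 2)); decide)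
    | ree q => exact absurd (show K (.ree q) 3 from k3) (by change ¬ (3 ∣ 1 ∨ (3 ∣ 2 * 3 ∧ ¬ 3 ∣ 3)); decide)
    | tf4 q => exact absurd (show K (.tf4 q) 3 from k3) (by
        change ¬ (3 ∣ 1 ∨ (3 ∣ 2 * 3 ∧ ¬ 3 ∣ 3) ∨ 3 ∣ 4 ∨ (3 ∣ 2 * 6 ∧ ¬ 3 ∣ 6)); decide)
    | _ => exact absurd k3 (fun h => h)

end Cfsg.Agent.H977.E6F
end

-- part: H977/E6FAdj
section
/-!
# Non-adjacency in `E₆(5)` by the degrees of the cyclotomic polynomials (helper977, for S3650)

`nadj_of_phi` : primes of classes `e₁ ≠ e₂` with `φ(e₁) + φ(e₂) > 6`, `φ(lcm) > 6` are not adjacent.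
-/

set_option autoImplicit false

namespace Cfsg.Agent.H977.E6F

open Cfsg Cfsg.Lie Cfsg.Agent.H436 Cfsg.Agent.Nodes.RGDChev

universe v

theorem dvd_of_phi {e s d : ℕ} (hs : Prim 5 e s) (h : (s : ℤ) ∣ (Polynomial.cyclotomic d ℤ).eval ((5 : ℕ) : ℤ)) :
    e ∣ d := by
  refine (hs.dvd_iff d).1 ?_
  have h2 := Polynomial.eval_dvd (x := ((5 : ℕ) : ℤ)) (Polynomial.cyclotomic.dvd_X_pow_sub_one d ℤ)
  have h3 := h.trans h2
  simp only [Polynomial.eval_sub, Polynomial.eval_pow, Polynomial.eval_X, Polynomial.eval_one] at h3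
  rw [← Int.natCast_dvd_natCast, Nat.cast_sub (Nat.one_le_pow _ _ (by norm_num)), Nat.cast_pow, Nat.cast_one]
  exact h3

theorem nadj_of_phi {F : Type v} [Field F] [Fintype F] (hF : Fintype.card F = 5) {r s e1 e2 : ℕ} (hr : Prim 5 e1 r)
    (hs : Prim 5 e2 s) (hrs : r ≠ s) (h1 : 6 < Nat.totient e1 + Nat.totient e2)
    (h2 : 6 < Nat.totient (Nat.lcm e1 e2)) :
    ¬ ∃ x : ↥(chevE6.group F), orderOf x = r * s := by
  rintro ⟨x, hx⟩
  have h5 : Fact (Nat.Prime 5) := ⟨Nat.prime_five⟩
  have hchar : CharP F 5 := by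
    obtain ⟨p, hp⟩ := CharP.exists F
    obtain ⟨n, hp', hc⟩ := FiniteField.card F p
    rw [hF] at hc
    have h6 : p ∣ 5 := by rw [hc]; exact dvd_pow_self p n.ne_zero
    rw [(Nat.prime_dvd_prime_iff_eq hp' Nat.prime_five).1 h6] at hp
    exact hp
  have hr5 : r ≠ 5 := fun h => by
    have := hr.not_dvd
    rw [h] at this
    exact this dvd_rfl
  have hs5 : s ≠ 5 := fun h => by
    have := hs.not_dvd
    rw [h] at this
    exact this dvd_rfl
  have hcop : (orderOf x).Coprime 5 := by
    rw [hx]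
    exact Nat.Coprime.mul_left ((Nat.coprime_primes hr.prime Nat.prime_five).2 hr5)
      ((Nat.coprime_primes hs.prime Nat.prime_five).2 hs5)
  obtain ⟨m, hm0, hsum, hm⟩ := H473.Ab.Toral.exists_mult_elt (D := chevE6) H585.SuE6.typ
    CoxeterMatrix.E₆.toCoxeterSystem (F := F) (r := 5) (x := x) (by
      rw [hx]; exact Nat.mul_ne_zero hr.prime.ne_zero hs.prime.ne_zero) hcop
  rw [hF] at hm
  obtain ⟨d1, hd1, hr1⟩ := hm r hr.prime (hx ▸ dvd_mul_right r s)
  obtain ⟨d2, hd2, hs1⟩ := hm s hs.prime (hx ▸ dvd_mul_left s r)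
  have hle : ∀ {e d : ℕ}, d ∈ m → e ∣ d → Nat.totient e ≤ Nat.totient d := fun {e d} hd h =>
    Nat.le_of_dvd (Nat.totient_pos.2 (hm0 d hd)) (Nat.totient_dvd_of_dvd h)
  have k1 := dvd_of_phi hr hr1
  have k2 := dvd_of_phi hs hs1
  by_cases hd : d1 = d2
  · subst hd
    have k3 := hle hd1 (Nat.lcm_dvd k1 k2)
    have k4 : Nat.totient d1 ≤ (m.map Nat.totient).sum := Multiset.single_le_sum (fun _ _ => Nat.zero_le _) _
      (Multiset.mem_map_of_mem _ hd1)
    omega
  · have k3 := hle hd1 k1
    have k4 := hle hd2 k2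
    obtain ⟨t, ht⟩ := Multiset.exists_cons_of_mem hd1
    have hd2' : d2 ∈ t := by
      rw [ht, Multiset.mem_cons] at hd2
      exact hd2.resolve_left (Ne.symm hd)
    obtain ⟨t', ht'⟩ := Multiset.exists_cons_of_mem hd2'
    rw [ht, ht', Multiset.map_cons, Multiset.map_cons, Multiset.sum_cons, Multiset.sum_cons] at hsum
    omega

end Cfsg.Agent.H977.E6F
end

-- part: H977/E6FMain
section
/-!
# The simple section of a group with the prime graph of `E₆(5)` (helper977, for S3650)

* `exists_red` : the reduction;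
* `section_iso` : the simple section is isomorphic to `E₆(5)`.
-/

set_option autoImplicit false

namespace Cfsg.Agent.H977.E6F

open Cfsg Cfsg.Lie Cfsg.Agent.H436 Cfsg.Agent.OrdDiv Cfsg.Agent.H72 Cfsg.Agent.H420.QR Cfsg.Agent.H376.Coc
open Cfsg.Agent.H425.Chr
open Cfsg.Agent.H977.Mn (char_dvd dvd_of_same dvd_small coc_of_coq)

universe u v

section

variable {F : Type v} [Field F] [Fintype F]

theorem nadj_71_313 (hF : Fintype.card F = 5) : ¬ ∃ x : ↥(chevE6.group F), orderOf x = 71 * 313 :=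
  nadj_of_phi hF prim71 prim313 (by norm_num) (by decide) (by decide)

theorem two_829 (hF : Fintype.card F = 5) : ¬ ∃ x : ↥(chevE6.group F), orderOf x = 2 * 829 := by
  rw [mul_comm]
  exact nadj_829 hF (by norm_num) (by norm_num) (by norm_num)

theorem two_601 (hF : Fintype.card F = 5) : ¬ ∃ x : ↥(chevE6.group F), orderOf x = 2 * 601 := by
  rw [mul_comm]
  exact nadj_601 hF (by norm_num) (by norm_num) (by norm_num)

/-- **The reduction.** -/
theorem exists_red (hF : Fintype.card F = 5) {G : Type u} [Group G] [Finite G]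
    (h : ((∀ r : ℕ, r.Prime → (r ∣ Nat.card ↥(Cfsg.Lie.chevE6.group F) ↔ r ∣ Nat.card G)) ∧
      (∀ r s : ℕ, r.Prime → s.Prime → r ≠ s → ((∃ x : ↥(Cfsg.Lie.chevE6.group F), orderOf x = r * s) ↔
        (∃ y : G, orderOf y = r * s))))) :
    ∃ (K : Subgroup G) (_ : K.Normal) (S : Subgroup (G ⧸ K)) (_ : S.Normal), Red G K S := by
  obtain ⟨K, hK, S, hS, hR, -⟩ := exists_red_of_same h (coq4 hF (nadj_71_313 hF)) (by decide)
    ⟨829, by norm_num, by norm_num, dvd_of_mem hF (by decide), two_829 hF⟩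
  exact ⟨K, hK, S, hS, hR⟩

variable {S : Type u} [Group S]

theorem pi_S (hF : Fintype.card F = 5) (h : SHyp ↥(chevE6.group F) S) {r : ℕ} (hr : r.Prime)
    (hd : r ∣ Nat.card S) : r ∈ P := mem_P hF hr (h.pi r hr hd)

theorem coc_S (hF : Fintype.card F = 5) (h : SHyp ↥(chevE6.group F) S) :
    ∃ C : Finset ℕ, C ⊆ {71, 313, 601, 829} ∧ IsCoc S C ∧ 3 ≤ C.card := by
  obtain ⟨h1, h2⟩ := h.filter (coq4 hF (nadj_71_313 hF)) (by decide)
  refine ⟨_, Finset.filter_subset _ _, coc_of_coq h1, ?_⟩
  have h3 : ({71, 313, 601, 829} : Finset ℕ).card = 4 := by decide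
  omega

/-- a prime with the same class as 601 or 829 -/
theorem no_char (hF : Fintype.card F = 5) (h : SHyp ↥(chevE6.group F) S) {g : Grp} (hg : IsNamed g S)
    (hsz : ∀ q, g ≠ .sz q) {p f : ℕ} (hp : p.Prime) (hf : f ≠ 0) (hq : qOf g = p ^ f) (h829 : 829 ∣ Nat.card S)
    (h601 : 601 ∣ Nat.card S) : p = 5 := by
  by_contra h5
  obtain ⟨w, x, e, hw, hwp, hxp, hx5, hxP⟩ := ws_spec (pi_S hF h hp (char_dvd hg hp hf hq)) h5
  refine hxP (pi_S hF h hxp.prime (dvd_of_same hg hp hf hq hsz hwp hxp hx5 ?_))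
  rcases hw with rfl | rfl
  · exact h601
  · exact h829

/-- `PSL₂(q)`, `q` odd, and `A₇` -/
theorem not_altL2 (hF : Fintype.card F = 5) (h : SHyp ↥(chevE6.group F) S) : ¬ Cfsg.Agent.H414.Rad.AltL2 S := by
  obtain ⟨C, hC, h1, h3⟩ := coc_S hF h
  have hmem : ∀ x ∈ C, x = 71 ∨ x = 313 ∨ x = 601 ∨ x = 829 := fun x hx => by
    simpa only [Finset.mem_insert, Finset.mem_singleton] using hC hx
  rintro (⟨⟨e⟩⟩ | ⟨F', i1, i2, ho, ⟨e⟩⟩)
  · have hc := Nat.card_congr e.toEquiv
    obtain ⟨x, hx⟩ := Finset.card_pos.1 (show 0 < C.card by omega)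
    have h5 : x ≤ 7 := alt_dvd_le (h1.prime x hx) (hc ▸ h1.dvd x hx)
    have := hmem x hx
    omega
  · obtain ⟨x, hx, hxF⟩ := (Dp.psl2_coc e h1 (fun x hx => by have := hmem x hx; omega)).2 h3
    obtain ⟨p, f, hp, hf, hpf⟩ : IsPrimePow (Fintype.card F') := Fintype.isPrimePow_card_of_field
    have hp' : p.Prime := hp.nat_prime
    have hxp : x = p := (Nat.prime_dvd_prime_iff_eq (h1.prime x hx) hp').1
      ((h1.prime x hx).dvd_of_dvd_pow (hpf ▸ hxF))
    have hg : IsNamed (.psl 2 (Fintype.card F')) S := by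
      refine .mk' ⟨F', i1, i2, rfl, ⟨e⟩⟩ ⟨le_rfl, ?_, Fintype.isPrimePow_card_of_field⟩ ?_
      · rintro ⟨-, h⟩
        have h5 : x ≤ Fintype.card F' := Nat.le_of_dvd Fintype.card_pos hxF
        have := hmem x hx
        omega
      · rw [Nat.card_congr e.toEquiv]
        exact psl_eq le_rfl
    obtain ⟨s, hs, hsx⟩ : ∃ s ∈ C, s ≠ x := by
      by_contra h5
      push Not at h5
      have h6 : C ⊆ {x} := fun y hy => Finset.mem_singleton.2 (h5 y hy)
      have := Finset.card_le_card h6
      rw [Finset.card_singleton] at this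
      omega
    have hl : ∀ y ∈ C, y ∈ [71, 313, 601, 829] := fun y hy => by
      rcases hmem y hy with rfl | rfl | rfl | rfl <;> decide
    obtain ⟨y, e', he, hy, hyp, hy5, hyP⟩ := ts_spec (hl x hx) (hl s hs) hsx
    have hq2 : 2 ≤ Fintype.card F' := Fintype.one_lt_card
    have hsF : s ∣ Fintype.card F' ^ 2 - 1 := by
      have hsub : Fintype.card F' ^ 2 - 1 = (Fintype.card F' + 1) * (Fintype.card F' - 1) := by
        have := Nat.sq_sub_sq (Fintype.card F') 1
        rwa [one_pow] at this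
      rcases Dp.psl2_prime (F := F') (h1.prime s hs) (Nat.card_congr e.toEquiv ▸ h1.dvd s hs) with h5 | h5 | h5
      · exfalso
        have h6 : s = p := (Nat.prime_dvd_prime_iff_eq (h1.prime s hs) hp').1
          ((h1.prime s hs).dvd_of_dvd_pow (hpf ▸ h5))
        exact hsx (h6.trans hxp.symm)
      · rw [hsub]; exact h5.mul_left _
      · rw [hsub]; exact h5.mul_right _
    have hyF : y ∣ Fintype.card F' ^ 2 - 1 := by
      rw [← hpf, ← pow_mul, ← hxp] at hsF ⊢
      have h5 : e' ∣ f * 2 := (he.dvd_iff _).1 hsF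
      obtain ⟨t, ht⟩ := h5
      rw [ht, pow_mul]
      refine hy.trans ?_
      have h7 := Nat.sub_dvd_pow_sub_pow (x ^ e') 1 t
      rwa [one_pow] at h7
    exact hyP (pi_S hF h hyp (dvd_small hg rfl hq2 (fun _ h => by cases h) hyp hy5 hyF))

/-- **The name of the simple section.** -/
theorem name_S (hF : Fintype.card F = 5) [Finite S] (h : SHyp ↥(chevE6.group F) S) {g : Grp} (hg : IsNamed g S) :
    g = .e6 5 := by
  have hA := not_altL2 hF h
  have hbig : ∀ p : ℕ, p.Prime → p ≠ 2 → p ∣ Nat.card ↥(chevE6.group F) →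
      (¬ ∃ x : ↥(chevE6.group F), orderOf x = 2 * p) → p ∣ Nat.card S := h.two.resolve_left hA
  have h829 : 829 ∣ Nat.card S := hbig 829 (by norm_num) (by norm_num) (dvd_of_mem hF (by decide)) (two_829 hF)
  have h601 : 601 ∣ Nat.card S := hbig 601 (by norm_num) (by norm_num) (dvd_of_mem hF (by decide)) (two_601 hF)
  have spr : g ∈ spor.map (fun x => x.1) → False := fun h' => by
    obtain ⟨x, hx, rfl⟩ := List.mem_map.1 h'
    have hd := h829
    rw [hg.ord.trans (spor_ord x hx)] at hd
    have h7 : ∀ x ∈ spor, x.2 ∣ (Nat.factorial 71) ^ 46 := by decide +kernel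
    have h8 : Nat.Prime 829 := by norm_num
    have := (h8.dvd_factorial).1 (h8.dvd_of_dvd_pow (hd.trans (h7 x hx)))
    omega
  have lie : IsPrimePow (qOf g) → (∀ q, g ≠ .sz q) → g = .e6 5 := by
    rintro ⟨p, f, hp, hf, hpf⟩ hsz
    have hp' : p.Prime := hp.nat_prime
    obtain rfl := no_char hF h hg hsz hp' (by omega) hpf.symm h829 h601
    have H : Dat 5 f (Nat.card S) g := dat_of_named hg Nat.prime_five (by norm_num) (by omega) hpf.symm
    have h2 : ∀ q, g ≠ .psl 2 q := by
      rintro q rfl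
      apply hA
      obtain ⟨F', i1, i2, hF', ⟨e⟩⟩ := hg.real
      refine Or.inr ⟨F', i1, i2, ?_, ⟨e⟩⟩
      have hpf' : 5 ^ f = q := hpf
      rw [hF', ← hpf']
      exact Odd.pow (by decide)
    rcases five H h2 (fun r hr hd => pi_S hF h hr hd) h829 h601 with h5 | ⟨h5, rfl⟩
    · exact h5
    · exfalso
      subst h5
      have n1 : ¬ 71 ∣ Nat.card S := fun hd => by
        have h6 := (H.in_iff (e := 5) (by decide)).1 ⟨71, prim71, hd⟩
        exact absurd h6 (by change ¬ (5 / Nat.gcd 5 3 ≤ 4); decide)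
      have n2 : ¬ 313 ∣ Nat.card S := fun hd => by
        have h6 := (H.in_iff (e := 8) (by decide)).1 ⟨313, prim313, hd⟩
        exact absurd h6 (by change ¬ (8 / Nat.gcd 8 3 ≤ 4); decide)
      have := h.coc _ (coq4 hF (nadj_71_313 hF)) (by decide) 71 (by decide) 313 (by decide) n1 n2
      omega
  have hcond := hg.cond
  cases g with
  | alt m =>
    exfalso
    obtain ⟨e1⟩ := hg.real
    have hc := Nat.card_congr e1.toEquiv
    have hsm : 829 ≤ m := alt_dvd_le (by norm_num) (hc ▸ h829)
    obtain ⟨x, hx⟩ := alt_adj (m := m) (r := 3) (s := 601) (by norm_num) (by norm_num) (by norm_num) (by norm_num)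
      (by norm_num) (by omega)
    have h3 := h.adj 3 601 (by norm_num) (by norm_num) (by norm_num) ⟨e1.symm x, by rw [MulEquiv.orderOf_eq, hx]⟩
    rw [mul_comm] at h3
    exact nadj_601 hF Nat.prime_three (by norm_num) (by norm_num) h3
  | psl m q => exact lie hcond.2.2 (fun _ h => by cases h)
  | psp m q => exact lie hcond.2.2 (fun _ h => by cases h)
  | psu m q => exact lie hcond.2.2 (fun _ h => by cases h)
  | oodd m q => exact lie hcond.2.2 (fun _ h => by cases h)
  | oplus m q => exact lie hcond.2 (fun _ h => by cases h)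
  | ominus m q => exact lie hcond.2 (fun _ h => by cases h)
  | g2 q => exact lie hcond.2 (fun _ h => by cases h)
  | f4 q => exact lie hcond (fun _ h => by cases h)
  | e6 q => exact lie hcond (fun _ h => by cases h)
  | e7 q => exact lie hcond (fun _ h => by cases h)
  | e8 q => exact lie hcond (fun _ h => by cases h)
  | te6 q => exact lie hcond (fun _ h => by cases h)
  | td4 q => exact lie hcond (fun _ h => by cases h)
  | sz q =>
    exfalso
    obtain ⟨m, hm, hq⟩ := hcond
    have heq0 : 1 * Nat.card S = q ^ 2 * ((q - 1) * (q ^ 2 + 1)) := hg.eq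
    have heq : Nat.card S = q ^ 2 * ((q ^ 2 + 1) * (q - 1)) := by rw [← one_mul (Nat.card S), heq0, mul_comm (q - 1)]
    have hq2 : q = 2 ^ (2 * m + 1) := hq
    have p601 : Prim 2 25 601 := MnTab.prim_of_ordB' [(5, 2)] (by decide +kernel) (by norm_num) (by norm_num)
    have hq1 : 1 ≤ q := by rw [hq2]; exact Nat.one_le_pow _ _ (by norm_num)
    have h4 : 601 ∣ q ^ 4 - 1 := by
      have hpr : Nat.Prime 601 := by norm_num
      have h5 : 601 ∣ q ^ 2 * ((q ^ 2 + 1) * (q - 1)) := heq ▸ h601
      have h6 : q ^ 4 - 1 = (q ^ 2 + 1) * ((q + 1) * (q - 1)) := by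
        have h7 := Nat.sq_sub_sq (q ^ 2) 1
        have h8 := Nat.sq_sub_sq q 1
        rw [one_pow] at h7 h8
        rw [← h8, ← h7]
        ring_nf
      rcases (hpr.dvd_mul).1 h5 with h7 | h7
      · exfalso
        have h8 := hpr.dvd_of_dvd_pow h7
        rw [hq2] at h8
        exact absurd (hpr.dvd_of_dvd_pow h8) (by norm_num)
      · rw [h6]
        rcases (hpr.dvd_mul).1 h7 with h8 | h8
        · exact h8.mul_right _
        · exact (h8.mul_left _).mul_left _
    have h25 : 25 ∣ 2 * m + 1 := by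
      rw [hq2, ← pow_mul] at h4
      have h5 := (p601.dvd_iff _).1 h4
      exact (Nat.Coprime.dvd_mul_right (by norm_num)).1 h5
    have h1801 : 1801 ∣ q - 1 := by
      obtain ⟨t, ht⟩ := h25
      rw [hq2, ht, pow_mul]
      have h7 := Nat.sub_dvd_pow_sub_pow (2 ^ 25) 1 t
      rw [one_pow] at h7
      exact Dvd.dvd.trans (by norm_num) h7
    have h9 : 1801 ∣ Nat.card S := by
      rw [heq]
      exact (h1801.mul_left _).mul_left _
    exact absurd (pi_S hF h (by norm_num) h9) (by decide)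
  | ree q =>
    obtain ⟨m, hm, hq⟩ := hcond
    exact lie (hq ▸ Nat.prime_three.isPrimePow.pow (by omega)) (fun _ h => by cases h)
  | tf4 q =>
    obtain ⟨m, hm, hq⟩ := hcond
    exact lie (hq ▸ Nat.prime_two.isPrimePow.pow (by omega)) (fun _ h => by cases h)
  | _ => exact (spr (by decide)).elim

/-- **The simple section.** -/
theorem section_iso (hF : Fintype.card F = 5) {G : Type u} [Group G] [Finite G] {K : Subgroup G} [K.Normal]
    {S : Subgroup (G ⧸ K)} [S.Normal] (R : Red G K S)
    (h : ((∀ r : ℕ, r.Prime → (r ∣ Nat.card ↥(Cfsg.Lie.chevE6.group F) ↔ r ∣ Nat.card G)) ∧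
      (∀ r s : ℕ, r.Prime → s.Prime → r ≠ s → ((∃ x : ↥(Cfsg.Lie.chevE6.group F), orderOf x = r * s) ↔
        (∃ y : G, orderOf y = r * s))))) :
    Nonempty (S ≃* ↥(Cfsg.Lie.chevE6.group F)) := by
  obtain ⟨g, hg⟩ := R.named
  obtain rfl := name_S hF (R.sHyp h) hg
  obtain ⟨F', i1, i2, hF', ⟨e⟩⟩ := hg.real
  exact ⟨e.trans (ChevalleyStructure.FieldIso.groupEquiv chevE6
    (FiniteField.ringEquivOfCardEq (hF'.trans hF.symm)))⟩

end

end Cfsg.Agent.H977.E6F
end

-- part: H163/E65/Main
section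
/-!
# S3650: assembly (helper163)

* `exists_prime` : the primes of the `K`-step;
* `main` : the theorem, from an embedding of `SL₃(125)` and the own characteristic step.
-/

set_option autoImplicit false

namespace Cfsg.Agent.H163.E65

universe u v

open Cfsg Cfsg.Lie Cfsg.Agent.H977.E6F
open scoped MatrixGroups

theorem order_5_313 : orderOf ((5 : ℕ) : ZMod 313) = 8 := by
  have h1 := orderOf_eq_prime_pow (x := ((5 : ℕ) : ZMod 313)) (p := 2) (n := 2) (by decide +kernel) (by decide +kernel)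
  simpa using h1

theorem nadj_313_5 {F : Type v} [Field F] [Fintype F] (hF : Fintype.card F = 5) :
    ¬ ∃ x : ↥(chevE6.group F), orderOf x = 313 * 5 := by
  rintro ⟨x, hx⟩
  exact Cfsg.Agent.H365.ExcSix.noEdge_E6 (F := F) (p := 5) (ℓ := 313) (m := 8) (by norm_num)
    (by rw [Nat.card_eq_fintype_card, hF]) (by norm_num) (by rw [Nat.card_eq_fintype_card, hF]; exact order_5_313)
    (Or.inl rfl) x hx

/-- the primes of the `K`-step -/
theorem exists_prime (sl3 : ∃ f : SL(3, GaloisField 5 3) →* Q5, Function.Injective f)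
    (own : Fixes.{0, u} L5 5 313) {F : Type v} [Field F] [Fintype F] (hF : Fintype.card F = 5) {t : ℕ}
    (ht : t ∈ P) : ∃ p : ℕ, p.Prime ∧ p ≠ t ∧ (¬ ∃ x : ↥(chevE6.group F), orderOf x = p * t) ∧
      Fixes.{0, u} L5 t p := by
  have cases : t = 2 ∨ t = 3 ∨ t = 5 ∨ t = 7 ∨ t = 11 ∨ t = 13 ∨ t = 19 ∨ t = 31 ∨ t = 71 ∨ t = 313 ∨ t = 601 ∨
      t = 829 := by
    simpa [P] using ht
  rcases cases with rfl | rfl | rfl | rfl | rfl | rfl | rfl | rfl | rfl | rfl | rfl | rfl
  · exact ⟨829, by norm_num, by norm_num, nadj_829 hF (by norm_num) (by norm_num) (by norm_num),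
      fixes_829 sl3 (Or.inl rfl)⟩
  · exact ⟨829, by norm_num, by norm_num, nadj_829 hF (by norm_num) (by norm_num) (by norm_num),
      fixes_829 sl3 (Or.inr rfl)⟩
  · exact ⟨313, by norm_num, by norm_num, nadj_313_5 hF, own⟩
  · exact ⟨71, by norm_num, by norm_num, nadj_71_7 hF,
      Cfsg.Agent.H65.E65.fixes_71 (by norm_num) (by norm_num) (by norm_num)⟩
  · exact ⟨31, by norm_num, by norm_num, by rw [mul_comm]; exact nadj_11_31 hF,
      Cfsg.Agent.H65.E65.fixes_31 (by norm_num) (by norm_num) (by norm_num)⟩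
  · exact ⟨71, by norm_num, by norm_num, nadj_71_13 hF,
      Cfsg.Agent.H65.E65.fixes_71 (by norm_num) (by norm_num) (by norm_num)⟩
  · exact ⟨71, by norm_num, by norm_num, nadj_71_19 hF,
      Cfsg.Agent.H65.E65.fixes_71 (by norm_num) (by norm_num) (by norm_num)⟩
  · exact ⟨71, by norm_num, by norm_num, nadj_71_31 hF,
      Cfsg.Agent.H65.E65.fixes_71 (by norm_num) (by norm_num) (by norm_num)⟩
  · exact ⟨31, by norm_num, by norm_num, by rw [mul_comm]; exact nadj_71_31 hF,
      Cfsg.Agent.H65.E65.fixes_31 (by norm_num) (by norm_num) (by norm_num)⟩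
  · exact ⟨71, by norm_num, by norm_num, nadj_71_313 hF,
      Cfsg.Agent.H65.E65.fixes_71 (by norm_num) (by norm_num) (by norm_num)⟩
  · exact ⟨71, by norm_num, by norm_num, by rw [mul_comm]; exact nadj_601 hF (by norm_num) (by norm_num) (by norm_num),
      Cfsg.Agent.H65.E65.fixes_71 (by norm_num) (by norm_num) (by norm_num)⟩
  · exact ⟨71, by norm_num, by norm_num, by rw [mul_comm]; exact nadj_829 hF (by norm_num) (by norm_num) (by norm_num),
      Cfsg.Agent.H65.E65.fixes_71 (by norm_num) (by norm_num) (by norm_num)⟩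

/-- **the assembly** -/
theorem main (sl3 : ∃ f : SL(3, GaloisField 5 3) →* Q5, Function.Injective f) (own : Fixes.{0, u} L5 5 313)
    {F : Type v} [Field F] [Fintype F] (hF : Fintype.card F = 5) {G : Type u} [Group G] [Finite G]
    (h : ((∀ r : ℕ, r.Prime → (r ∣ Nat.card ↥(Cfsg.Lie.chevE6.group F) ↔ r ∣ Nat.card G)) ∧
      (∀ r s : ℕ, r.Prime → s.Prime → r ≠ s → ((∃ x : ↥(Cfsg.Lie.chevE6.group F), orderOf x = r * s) ↔
        (∃ y : G, orderOf y = r * s))))) :
    Nonempty (G ≃* ↥(Cfsg.Lie.chevE6.group F)) := by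
  obtain ⟨K, hKn, S, hSn, R⟩ := exists_red hF h
  obtain ⟨e₁⟩ := section_iso hF R h
  have e₂ : ↥(chevE6.group F) ≃* L5 := Cfsg.Agent.ChevalleyStructure.FieldIso.groupEquiv chevE6
    (FiniteField.ringEquivOfCardEq (hF.trans (ZMod.card 5).symm))
  have nadj : ∀ r s : ℕ, r.Prime → s.Prime → r ≠ s → (¬ ∃ x : ↥(chevE6.group F), orderOf x = r * s) →
      ∀ y : G, orderOf y ≠ r * s := fun r s hr hs hrs hno y hy => hno ((h.2 r s hr hs hrs).2 ⟨y, hy⟩)
  have hS : S = ⊤ := top_of_L5 (e₁.trans e₂) R.cent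
    (nadj 2 601 (by norm_num) (by norm_num) (by norm_num) (two_601 hF))
  have q : G ⧸ K ≃* ↥(chevE6.group F) := (Subgroup.topEquiv.symm.trans (MulEquiv.subgroupCongr hS.symm)).trans e₁
  have hK : K = ⊥ := by
    refine bot_of_fixes (chevE6.group (ZMod 5)) R.solv (q.trans e₂) fun t ht htK => ?_
    have htP : t ∈ P := mem_P hF ht ((h.1 t ht).2 (htK.trans (Subgroup.card_subgroup_dvd_card K)))
    obtain ⟨p, hp, hpt, hno, hfx⟩ := exists_prime sl3 own hF htP
    exact ⟨p, hp, hpt, nadj p t hp ht hpt hno, hfx⟩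
  exact equiv_of_bot _ hK q

end Cfsg.Agent.H163.E65
end

private theorem dce_44fe01ce32f5 : _root_.True := by
  try have : _root_.True := by simp only [_root_.Cfsg.Agent.H174.E65.u.eq_1]
  exact _root_.True.intro
end

-- part: H163/E65/Own
section
prune_inst 0xc0100041414002000004000260001e83990004200008000008060a04068808200900a06000000008020a0001003100600210000000000000008404000004000000800006a108001100008e000088010000300000000000000000000000000004014010000
set_option linter.all false
open scoped Cfsg.Agent.FastGrp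

-- part: H163/E65/Ops
section
/-!
# S3650, own characteristic: the operators `T_i` on the `U`-fixed vectors (helper163)

* `SM H F` : the sum of `F` over a subgroup `H`; `RkOne` : parametrised root groups of rank one;
* `Ti ρ i v = ∑ a ∈ X (α_i), ρ (a n_i) v`; `Tw ρ w g v = ∑ u ∈ U_w, ρ (u g) v`, `g` over `w`;
* `ti_tw`, `tw_U`, `tw_T`, `ti_eq`, `ti_sq`;
* `exists_weight` : a common eigenvector.
-/

set_option autoImplicit false
set_option linter.unusedSectionVars false

namespace Cfsg.Agent.H163.E65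

open CoxeterSystem Cfsg.Agent.ChevalleyStructure.CoxeterGeom Cfsg.Agent.Tits.Roots Cfsg.Agent.Tits.Core
  Cfsg.Agent.Tits.RootComb Cfsg.Agent.Nodes.Comb Cfsg.Agent.Nodes.Reps Cfsg.Agent.Nodes.BNOf Cfsg.Agent.Nodes.Bruhat
  Cfsg.Agent.Nodes.OppDec

variable {I W Y : Type*} [Fintype I] [DecidableEq I] [Group W] [Group Y] {M : CoxeterMatrix I}

/-- rank one data -/
structure RkOne (T : Subgroup Y) (n : I → Y) (X : (I → ℤ) → Subgroup Y) (k : Type*) [Field k] where
  x : I → k → Y
  y : I → k → Y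
  hh : I → kˣ →* Y
  x_mem : ∀ i u, u ∈ X (sr i) ↔ ∃ t, x i t = u
  y_mem : ∀ i u, u ∈ X (-sr i) ↔ ∃ t, y i t = u
  x_add : ∀ i s t, x i (s + t) = x i s * x i t
  y_add : ∀ i s t, y i (s + t) = y i s * y i t
  x_inj : ∀ i, Function.Injective (x i)
  h_mem : ∀ i t, hh i t ∈ T
  rel : ∀ i (t : kˣ), x i ((t⁻¹ : kˣ) : k) * n i = y i t * x i (-((t⁻¹ : kˣ) : k)) * (hh i (-t))⁻¹

/-! ### sums over subgroups -/

section SM

variable {V : Type*} [AddCommMonoid V]

open scoped Classical in
/-- the sum over a subgroup -/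
noncomputable def SM [Finite Y] (H : Subgroup Y) (F : Y → V) : V :=
  letI := Fintype.ofFinite Y; ∑ a ∈ Finset.univ.filter (· ∈ H), F a

variable [Finite Y] (H : Subgroup Y)

theorem SM_congr {F G : Y → V} (hF : ∀ a ∈ H, F a = G a) : SM H F = SM H G := by
  classical
  unfold SM
  exact Finset.sum_congr rfl fun a ha => hF a (Finset.mem_filter.1 ha).2

theorem SM_left {g : Y} (hg : g ∈ H) (F : Y → V) : SM H (fun a => F (g * a)) = SM H F := by
  classical
  unfold SM
  letI := Fintype.ofFinite Y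
  refine Finset.sum_nbij' (fun a => g * a) (fun a => g⁻¹ * a) ?_ ?_ ?_ ?_ ?_
  · intro a ha; simp only [Finset.mem_filter, Finset.mem_univ, true_and] at ha ⊢; exact mul_mem hg ha
  · intro a ha; simp only [Finset.mem_filter, Finset.mem_univ, true_and] at ha ⊢; exact mul_mem (inv_mem hg) ha
  · intro a _; group
  · intro a _; group
  · intro a _; rfl

theorem SM_right {g : Y} (hg : g ∈ H) (F : Y → V) : SM H (fun a => F (a * g)) = SM H F := by
  classical
  unfold SM
  letI := Fintype.ofFinite Y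
  refine Finset.sum_nbij' (fun a => a * g) (fun a => a * g⁻¹) ?_ ?_ ?_ ?_ ?_
  · intro a ha; simp only [Finset.mem_filter, Finset.mem_univ, true_and] at ha ⊢; exact mul_mem ha hg
  · intro a ha; simp only [Finset.mem_filter, Finset.mem_univ, true_and] at ha ⊢; exact mul_mem ha (inv_mem hg)
  · intro a _; group
  · intro a _; group
  · intro a _; rfl

theorem SM_conj {g : Y} (hg : g ∈ Subgroup.normalizer (H : Set Y)) (F : Y → V) :
    SM H (fun a => F (g * a * g⁻¹)) = SM H F := by
  classical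
  unfold SM
  letI := Fintype.ofFinite Y
  refine Finset.sum_nbij' (fun a => g * a * g⁻¹) (fun a => g⁻¹ * a * g) ?_ ?_ ?_ ?_ ?_
  · intro a ha; simp only [Finset.mem_filter, Finset.mem_univ, true_and] at ha ⊢
    exact (Subgroup.mem_normalizer_iff.1 hg a).1 ha
  · intro a ha; simp only [Finset.mem_filter, Finset.mem_univ, true_and] at ha ⊢
    rw [Subgroup.mem_normalizer_iff.1 hg]
    have : g * (g⁻¹ * a * g) * g⁻¹ = a := by group
    rwa [this]
  · intro a _; group
  · intro a _; group
  · intro a _; rfl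

theorem SM_mul {H K L : Subgroup Y} {g : Y} (hm : ∀ a ∈ H, ∀ u ∈ K, a * (g * u * g⁻¹) ∈ L)
    (hi : ∀ a ∈ H, ∀ u ∈ K, ∀ a' ∈ H, ∀ u' ∈ K, a * (g * u * g⁻¹) = a' * (g * u' * g⁻¹) → a = a')
    (hs : ∀ b ∈ L, ∃ a ∈ H, ∃ u ∈ K, b = a * (g * u * g⁻¹)) (F : Y → V) :
    SM H (fun a => SM K fun u => F (a * (g * u * g⁻¹))) = SM L F := by
  classical
  unfold SM
  letI := Fintype.ofFinite Y
  rw [← Finset.sum_product']
  refine Finset.sum_bij (fun q _ => q.1 * (g * q.2 * g⁻¹)) ?_ ?_ ?_ ?_
  · rintro ⟨a, u⟩ hq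
    simp only [Finset.mem_product, Finset.mem_filter, Finset.mem_univ, true_and] at hq ⊢
    exact hm a hq.1 u hq.2
  · rintro ⟨a, u⟩ hq ⟨a', u'⟩ hq' e
    simp only [Finset.mem_product, Finset.mem_filter, Finset.mem_univ, true_and] at hq hq' e
    have h1 := hi a hq.1 u hq.2 a' hq'.1 u' hq'.2 e
    subst h1
    have h2 : u = u' := by
      have := mul_left_cancel e
      have := mul_right_cancel this
      exact mul_left_cancel this
    rw [h2]
  · intro b hb
    simp only [Finset.mem_filter, Finset.mem_univ, true_and] at hb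
    obtain ⟨a, ha, u, hu, e⟩ := hs b hb
    refine ⟨(a, u), ?_, e.symm⟩
    simp only [Finset.mem_product, Finset.mem_filter, Finset.mem_univ, true_and]
    exact ⟨ha, hu⟩
  · rintro ⟨a, u⟩ _
    rfl

theorem SM_map {V' : Type*} [AddCommMonoid V'] (φ : V →+ V') (F : Y → V) : φ (SM H F) = SM H fun a => φ (F a) := by
  classical
  unfold SM
  rw [map_sum]

theorem SM_bot (F : Y → V) : SM (⊥ : Subgroup Y) F = F 1 := by
  classical
  unfold SM
  let := Fintype.ofFinite Y
  rw [Finset.sum_eq_single 1]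
  · intro b hb hb1
    simp only [Finset.mem_filter, Finset.mem_univ, true_and, Subgroup.mem_bot] at hb
    exact absurd hb hb1
  · intro h1
    exfalso
    apply h1
    simp

/-- the sum over a parametrised subgroup -/
theorem SM_param {k : Type*} [Fintype k] {x : k → Y} (hx : ∀ u, u ∈ H ↔ ∃ t, x t = u)
    (hi : Function.Injective x) (F : Y → V) : SM H F = ∑ t, F (x t) := by
  classical
  unfold SM
  letI := Fintype.ofFinite Y
  symm
  refine Finset.sum_bij (fun t _ => x t) ?_ ?_ ?_ ?_
  · intro t _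
    simp only [Finset.mem_filter, Finset.mem_univ, true_and]
    exact (hx _).2 ⟨t, rfl⟩
  · intro t _ t' _ e
    exact hi e
  · intro b hb
    simp only [Finset.mem_filter, Finset.mem_univ, true_and] at hb
    obtain ⟨t, ht⟩ := (hx b).1 hb
    exact ⟨t, Finset.mem_univ t, ht⟩
  · intro t _; rfl

end SM

/-! ### the operators -/

section Ops

variable {cs : CoxeterSystem M W} {A : I → I → ℤ} {h : IsCartan M A} {p : ℕ} {T : Subgroup Y} {n : I → Y}
  {X : (I → ℤ) → Subgroup Y} {k : Type*} [Field k] {V : Type*} [AddCommGroup V] [Module k V]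
  (ρ : Y →* Module.End k V)

/-- fixed by a subgroup -/
def Fx (H : Subgroup Y) (v : V) : Prop := ∀ u ∈ H, ρ u v = v

/-- the operator `T_i` -/
noncomputable def Ti [Finite Y] (n : I → Y) (X : (I → ℤ) → Subgroup Y) (i : I) : Module.End k V :=
  SM (X (sr i)) fun a => ρ (a * n i)

/-- the operator of `w` -/
noncomputable def Tw [Finite Y] (cs : CoxeterSystem M W) (h : IsCartan M A) (X : (I → ℤ) → Subgroup Y) (w : W)
    (g : Y) : Module.End k V := SM (RGD.Sup X (RGD.Inv cs h w)) fun u => ρ (u * g)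

variable {ρ}

theorem SM_apply [Finite Y] (H : Subgroup Y) (F : Y → Module.End k V) (v : V) :
    SM H F v = SM H fun a => F a v :=
  SM_map H (⟨⟨fun f : Module.End k V => f v, rfl⟩, fun _ _ => rfl⟩ : Module.End k V →+ V) F

theorem Ti_apply [Finite Y] (i : I) (v : V) : Ti ρ n X i v = SM (X (sr i)) fun a => ρ (a * n i) v := SM_apply _ _ _

theorem Tw_apply [Finite Y] (w : W) (g : Y) (v : V) :
    Tw ρ cs h X w g v = SM (RGD.Sup X (RGD.Inv cs h w)) fun u => ρ (u * g) v := SM_apply _ _ _

theorem mulv (a b : Y) (v : V) : ρ (a * b) v = ρ a (ρ b v) := by rw [map_mul, Module.End.mul_apply]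

/-- the stabiliser -/
def stb (ρ : Y →* Module.End k V) (v : V) : Subgroup Y where
  carrier := {u | ρ u v = v}
  one_mem' := by
    show ρ 1 v = v
    rw [map_one, Module.End.one_apply]
  mul_mem' := by
    intro a b (ha : ρ a v = v) (hb : ρ b v = v)
    show ρ (a * b) v = v
    rw [mulv, hb, ha]
  inv_mem' := by
    intro a (ha : ρ a v = v)
    show ρ a⁻¹ v = v
    conv_lhs => rw [← ha]
    rw [← mulv, inv_mul_cancel, map_one, Module.End.one_apply]

theorem mem_stb {v : V} {u : Y} : u ∈ stb ρ v ↔ ρ u v = v := Iff.rfl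

variable (R : RGD cs h p T n X)

include R

theorem ti_tw [Finite W] [Finite Y] {i : I} {w : W} {g : Y} (hw : 0 ≤ rep cs h w⁻¹ (sr i)) (v : V) :
    Ti ρ n X i (Tw ρ cs h X w g v) = Tw ρ cs h X (cs.simple i * w) (n i * g) v := by
  rw [Ti_apply, Tw_apply, Tw_apply]
  have e : ∀ a ∈ X (sr i), ρ (a * n i) (SM (RGD.Sup X (RGD.Inv cs h w)) fun u => ρ (u * g) v) =
      SM (RGD.Sup X (RGD.Inv cs h w)) fun u => (fun b => ρ (b * (n i * g)) v) (a * (n i * u * (n i)⁻¹)) := by
    intro a _
    rw [← LinearMap.toAddMonoidHom_coe, SM_map]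
    refine SM_congr _ fun u _ => ?_
    rw [LinearMap.toAddMonoidHom_coe, ← mulv]
    congr 2
    group
  rw [SM_congr _ e]
  have hneg : rep cs h (cs.simple i * w)⁻¹ (sr i) ≤ 0 := by
    rw [mul_inv_rev, inv_simple, rep_mul_apply, rep_simple_sr, map_neg]
    exact neg_nonpos.2 hw
  have hsw : cs.simple i * (cs.simple i * w) = w := by rw [← mul_assoc, simple_mul_simple_self, one_mul]
  have hmem : sr i ∈ RGD.Inv cs h (cs.simple i * w) := (RGD.mem_inv_iff hneg).2 (Or.inl rfl)
  have hU : RGD.Sup X (RGD.Inv cs h w) ≤ RGD.B cs h T X :=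
    le_trans (RGD.Sup_mono (S := RGD.Inv cs h w) (S' := RGD.Pos cs h) fun z hz => ⟨hz.1, hz.2.1⟩) RGD.U_le_B
  refine SM_mul ?_ ?_ ?_ (fun b => ρ (b * (n i * g)) v)
  · intro a ha u hu
    refine mul_mem (RGD.le_Sup hmem ha) ?_
    refine conj_mem_Sup R (rp_simple cs R.nsys i) (fun x hx => hx.1) (fun x hx => ?_) hu
    rw [RGD.mem_inv_iff hneg]
    right
    rw [← rep_mul_apply, simple_mul_simple_self, map_one, Module.End.one_apply, hsw]
    exact hx
  · intro a ha u hu a' ha' u' hu' e1
    have h1 : a'⁻¹ * a = n i * (u' * u⁻¹) * (n i)⁻¹ := by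
      have h2 : a'⁻¹ * a = a'⁻¹ * (a * (n i * u * (n i)⁻¹)) * (n i * u⁻¹ * (n i)⁻¹) := by group
      rw [h2, e1]; group
    have h2 : a'⁻¹ * a = 1 := by
      have hk : Rp cs R.nsys (cs.simple i) (n i)⁻¹ := by
        have := (rp_simple cs R.nsys i).inv
        rwa [inv_simple] at this
      refine eq_one_of_conj_mem_B R (mul_mem (inv_mem ha') ha) hk ?_
      rw [h1]
      have h3 : (n i)⁻¹ * (n i * (u' * u⁻¹) * (n i)⁻¹) * (n i)⁻¹⁻¹ = u' * u⁻¹ := by group
      rw [h3]
      exact mul_mem (hU hu') (inv_mem (hU hu))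
    exact (inv_mul_eq_one.1 h2).symm
  · intro b hb
    obtain ⟨r, hr, u, hu, e1⟩ := exists_mul R (S := RGD.Inv cs h (cs.simple i * w)) (i := i)
      (fun x hx => ⟨hx.1, hx.2.1⟩) hmem (fun y hy _ z hz => ⟨hz.1, RGD.nonneg_of_btwn (sr_nonneg i) hy.2.1 hz,
        RGD.nonpos_of_btwn hneg hy.2.2 (hz.act _)⟩) (inv_mem hb)
    refine ⟨u⁻¹, inv_mem hu, (n i)⁻¹ * r⁻¹ * n i, ?_, ?_⟩
    · refine conj_mem_Sup' R (rp_simple cs R.nsys i) (fun x hx => hx.1.1) (fun x hx => ?_) (inv_mem hr)
      rw [inv_simple]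
      have h2 := ((RGD.mem_inv_iff hneg).1 hx.1).resolve_left hx.2
      rwa [hsw] at h2
    · have h2 : b = (r * u)⁻¹ := by rw [← e1, inv_inv]
      rw [h2]; group

theorem ti_U [Finite W] [Finite Y] (i : I) {v : V} (hv : Fx ρ (RGD.Sup X (RGD.Pos cs h)) v) :
    Fx ρ (RGD.Sup X (RGD.Pos cs h)) (Ti ρ n X i v) := by
  have key : RGD.Sup X (RGD.Pos cs h) ≤ stb ρ (Ti ρ n X i v) := by
    rw [R.Upos_eq i]
    refine sup_le ?_ ?_
    · intro b hb
      rw [mem_stb, Ti_apply, ← LinearMap.toAddMonoidHom_coe, SM_map]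
      have e : ∀ a ∈ X (sr i), (ρ b).toAddMonoidHom (ρ (a * n i) v) = (fun c => ρ (c * n i) v) (b * a) := by
        intro a _
        rw [LinearMap.toAddMonoidHom_coe, ← mulv]
        show _ = ρ (b * a * n i) v
        rw [mul_assoc]
      rw [SM_congr _ e, SM_left _ hb (fun c => ρ (c * n i) v)]
    · intro b hb
      rw [mem_stb, Ti_apply, ← LinearMap.toAddMonoidHom_coe, SM_map]
      refine SM_congr _ fun a ha => ?_
      rw [LinearMap.toAddMonoidHom_coe, ← mulv]
      have h1 : a⁻¹ * b * a ∈ RGD.Sup X (RGD.PosNe cs h i) := by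
        have h2 := (Subgroup.mem_normalizer_iff.1 (inv_mem (R.X_le_normalizer_V i ha)) b).1 hb
        rwa [inv_inv] at h2
      have h2 : (n i)⁻¹ * (a⁻¹ * b * a) * n i ∈ RGD.Sup X (RGD.PosNe cs h i) := by
        rw [← R.cj_n_V i, mem_cj] at h1
        exact h1
      have h3 : b * (a * n i) = (a * n i) * ((n i)⁻¹ * (a⁻¹ * b * a) * n i) := by group
      rw [h3, mulv, hv _ (RGD.Sup_mono (S := RGD.PosNe cs h i) (S' := RGD.Pos cs h) (fun z hz => ⟨hz.1, hz.2.1⟩) h2)]
  exact fun u hu => key hu

theorem fx_T {t : Y} (ht : t ∈ T) {v : V} (hv : Fx ρ (RGD.Sup X (RGD.Pos cs h)) v) :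
    Fx ρ (RGD.Sup X (RGD.Pos cs h)) (ρ t v) := by
  intro u hu
  have h1 := (Subgroup.mem_normalizer_iff.1 (inv_mem (R.T_le_normalizer_U ht)) u).1 hu
  rw [← mulv]
  have h2 : u * t = t * (t⁻¹ * u * t⁻¹⁻¹) := by group
  rw [h2, mulv, hv _ h1]

theorem tw_U [Finite W] [Finite Y] {v : V} (hv : Fx ρ (RGD.Sup X (RGD.Pos cs h)) v) : ∀ (w : W) {g : Y},
    Rp cs R.nsys w g → Fx ρ (RGD.Sup X (RGD.Pos cs h)) (Tw ρ cs h X w g v) := by
  intro w
  induction hn : cs.length w using Nat.strong_induction_on generalizing w with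
  | _ N ih =>
  intro g hg
  by_cases hw1 : w = 1
  · subst hw1
    have h1 : Tw ρ cs h X 1 g v = ρ g v := by
      rw [Tw_apply, RGD.inv_one_eq, Sup_empty, SM_bot, one_mul]
    rw [h1]
    exact fx_T R hg.mem_of_one hv
  obtain ⟨i, hi⟩ := cs.exists_leftDescent_of_ne_one hw1
  have hi' : cs.length (cs.simple i * w) < cs.length w := hi
  have hpos : 0 ≤ rep cs h (cs.simple i * w)⁻¹ (sr i) := by
    refine nonneg_of_lt cs h _ i ?_
    rw [mul_inv_rev, inv_simple, mul_assoc, simple_mul_simple_self, mul_one, cs.length_inv]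
    rw [← cs.length_inv, mul_inv_rev, inv_simple] at hi'
    exact hi'
  have h1 := ti_tw (ρ := ρ) (g := (n i)⁻¹ * g) R hpos v
  have hsw : cs.simple i * (cs.simple i * w) = w := by rw [← mul_assoc, simple_mul_simple_self, one_mul]
  rw [hsw, mul_inv_cancel_left] at h1
  rw [← h1]
  refine ti_U R i (ih _ (hn ▸ hi') _ rfl ?_)
  have := (rp_simple cs R.nsys i).inv.mul hg
  rwa [inv_simple] at this

theorem tw_T [Finite W] [Finite Y] {w : W} {g : Y} {v : V} {χ : Y → k}
    (hg : Rp cs R.nsys w g) (hχ : ∀ t ∈ T, ρ t v = χ t • v) : ∀ t ∈ T, ρ t (Tw ρ cs h X w g v) =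
      χ (g⁻¹ * t * g) • Tw ρ cs h X w g v := by
  intro t ht
  have ht' : g⁻¹ * t * g ∈ T := by
    have h1 := mem_normalizer_iff_cj.1 hg.inv.mem_normalizer
    have h2 : g⁻¹ * t * g⁻¹⁻¹ ∈ cj g⁻¹ T := conj_mem_cj.2 ht
    rwa [h1, inv_inv] at h2
  have hn : t ∈ Subgroup.normalizer (RGD.Sup X (RGD.Inv cs h w) : Set Y) :=
    R.T_le_normalizer (fun x hx => hx.1) ht
  rw [Tw_apply, ← LinearMap.toAddMonoidHom_coe, SM_map]
  have e : ∀ u ∈ RGD.Sup X (RGD.Inv cs h w), (ρ t).toAddMonoidHom (ρ (u * g) v) =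
      (fun c => χ (g⁻¹ * t * g) • ρ (c * g) v) (t * u * t⁻¹) := by
    intro u _
    rw [LinearMap.toAddMonoidHom_coe, ← mulv]
    have h1 : t * (u * g) = (t * u * t⁻¹ * g) * (g⁻¹ * t * g) := by group
    rw [h1, mulv, hχ _ ht', map_smul]
  rw [SM_congr _ e, SM_conj _ hn (fun c => χ (g⁻¹ * t * g) • ρ (c * g) v)]
  exact (SM_map _ (DistribSMul.toAddMonoidHom V (χ (g⁻¹ * t * g))) _).symm

end Ops

end Cfsg.Agent.H163.E65
end

-- part: H163/E65/Curtis
section
/-!
# S3650, own characteristic: Curtis' theorem (helper163)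

* `ti_eq`, `ti_sq` : rank one computations;
* `exists_eig` : an eigenvector of the torus;
* `exists_weight` : a common eigenvector;
* `curtis` : the highest weight function of a representation.
-/

set_option autoImplicit false
set_option linter.unusedSectionVars false

namespace Cfsg.Agent.H163.E65

open CoxeterSystem Cfsg.Agent.ChevalleyStructure.CoxeterGeom Cfsg.Agent.Tits.Roots Cfsg.Agent.Tits.Core
  Cfsg.Agent.Tits.RootComb Cfsg.Agent.Nodes.Comb Cfsg.Agent.Nodes.Reps Cfsg.Agent.Nodes.BNOf Cfsg.Agent.Nodes.Bruhat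
  Cfsg.Agent.Nodes.OppDec Cfsg.Agent.Tits.Exchange

variable {I W Y : Type*} [Fintype I] [DecidableEq I] [Group W] [Group Y] {M : CoxeterMatrix I}
  {cs : CoxeterSystem M W} {A : I → I → ℤ} {h : IsCartan M A} {p : ℕ} {T : Subgroup Y} {n : I → Y}
  {X : (I → ℤ) → Subgroup Y} {k : Type*} [Field k] {V : Type*} [AddCommGroup V] [Module k V]
  {ρ : Y →* Module.End k V}

/-- splitting off zero, the rest parametrised by the inverses of the units -/
theorem sum_zero_units [Fintype k] [DecidableEq k] {V' : Type*} [AddCommMonoid V'] (F : k → V') :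
    ∑ t, F t = F 0 + ∑ t : kˣ, F ((t⁻¹ : kˣ) : k) := by
  classical
  rw [← Finset.add_sum_erase _ _ (Finset.mem_univ (0 : k))]
  congr 1
  symm
  refine Finset.sum_bij (fun t _ => ((t⁻¹ : kˣ) : k)) ?_ ?_ ?_ ?_
  · intro t _
    simp
  · intro t _ t' _ e
    have : t⁻¹ = t'⁻¹ := Units.ext e
    exact inv_injective this
  · intro b hb
    have hb0 : b ≠ 0 := (Finset.mem_erase.1 hb).1
    exact ⟨(Units.mk0 b hb0)⁻¹, Finset.mem_univ _, by simp⟩
  · intro t _; rfl

theorem sum_zero_units' [Fintype k] [DecidableEq k] {V' : Type*} [AddCommMonoid V'] (F : k → V') :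
    ∑ t, F t = F 0 + ∑ t : kˣ, F t := by
  rw [sum_zero_units]
  congr 1
  exact Equiv.sum_comp (Equiv.inv kˣ) (fun t : kˣ => F (t : k))

theorem x_zero_of_add {x : k → Y} (hx : ∀ s t, x (s + t) = x s * x t) : x 0 = 1 := by
  have h1 := hx 0 0
  rw [add_zero] at h1
  exact (mul_eq_left.1 h1.symm)

/-- the sum of the values of the character at the `h_i(-t)⁻¹` -/
noncomputable def kap [Fintype k] [DecidableEq k] (Q : RkOne T n X k) (χ : Y → k) (i : I) : k :=
  ∑ t : kˣ, χ ((Q.hh i (-t))⁻¹)

variable (R : RGD cs h p T n X) (Q : RkOne T n X k)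

include R Q

theorem ti_eq [Fintype k] [DecidableEq k] [Finite Y] {v : V} (hv : Fx ρ (RGD.Sup X (RGD.Pos cs h)) v) {χ : Y → k}
    (hχ : ∀ t ∈ T, ρ t v = χ t • v) (i : I) :
    Ti ρ n X i v = ρ (n i) v + ∑ t : kˣ, χ ((Q.hh i (-t))⁻¹) • ρ (Q.y i t) v := by
  rw [Ti_apply, SM_param (X (sr i)) (Q.x_mem i) (Q.x_inj i), sum_zero_units, x_zero_of_add (Q.x_add i), one_mul]
  congr 1
  refine Finset.sum_congr rfl fun t _ => ?_
  rw [Q.rel i t, mulv, hχ _ (inv_mem (Q.h_mem i _)), mulv, map_smul, map_smul,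
    hv _ (RGD.le_Sup (S := RGD.Pos cs h) ⟨isRoot_sr cs h i, sr_nonneg i⟩ ((Q.x_mem i _).2 ⟨_, rfl⟩))]

/-- `n_i X (-α_i) n_i⁻¹ = X α_i` -/
theorem conj_neg (i : I) {u : Y} (hu : u ∈ X (-sr i)) : n i * u * (n i)⁻¹ ∈ X (sr i) := by
  have := R.conj_mem (rp_simple cs R.nsys i) (isRoot_sr cs h i).neg hu
  rwa [map_neg, rep_simple_sr, neg_neg] at this

theorem conj_neg' (i : I) {u : Y} (hu : u ∈ X (-sr i)) : (n i)⁻¹ * u * n i ∈ X (sr i) := by
  have := R.conj_mem' (rp_simple cs R.nsys i) (isRoot_sr cs h i).neg hu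
  rwa [inv_simple, map_neg, rep_simple_sr, neg_neg] at this

theorem ti_y [Finite Y] (i : I) {u : Y} (hu : u ∈ X (-sr i)) (v : V) : Ti ρ n X i (ρ u v) = Ti ρ n X i v := by
  rw [Ti_apply, Ti_apply]
  have e : ∀ a ∈ X (sr i), ρ (a * n i) (ρ u v) = (fun c => ρ (c * n i) v) (a * (n i * u * (n i)⁻¹)) := by
    intro a _
    rw [← mulv]
    show _ = ρ (a * (n i * u * (n i)⁻¹) * n i) v
    congr 2
    group
  rw [SM_congr _ e, SM_right _ (conj_neg R Q i hu) (fun c => ρ (c * n i) v)]

theorem ti_sq [Fintype k] [DecidableEq k] [Finite Y] {v : V} (hv : Fx ρ (RGD.Sup X (RGD.Pos cs h)) v) {χ : Y → k}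
    (hχ : ∀ t ∈ T, ρ t v = χ t • v) (i : I) :
    Ti ρ n X i (Ti ρ n X i v) = kap Q χ i • Ti ρ n X i v := by
  conv_lhs => rw [ti_eq R Q hv hχ i]
  have h1 : Ti ρ n X i (ρ (n i) v) = 0 := by
    rw [Ti_apply]
    have e : ∀ a ∈ X (sr i), ρ (a * n i) (ρ (n i) v) = ρ (n i * n i) v := by
      intro a ha
      rw [← mulv, mul_assoc, mulv]
      exact fx_T R (R.sq_mem_T i) hv a (RGD.le_Sup (S := RGD.Pos cs h) ⟨isRoot_sr cs h i, sr_nonneg i⟩ ha)
    rw [SM_congr _ e, SM_param (X (sr i)) (Q.x_mem i) (Q.x_inj i), Finset.sum_const, Finset.card_univ,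
      ← Nat.cast_smul_eq_nsmul k, Nat.cast_card_eq_zero, zero_smul]
  rw [map_add, h1, zero_add, map_sum, kap, Finset.sum_smul]
  refine Finset.sum_congr rfl fun t _ => ?_
  rw [map_smul, ti_y R Q i ((Q.y_mem i _).2 ⟨_, rfl⟩)]


omit R Q

/-! ### eigenvectors of the torus -/

theorem exists_eig1 [Fintype k] [DecidableEq k] {t : Y} (ht : t ^ (Fintype.card k - 1) = 1) {v : V} (hv : v ≠ 0)
    {N : Submodule k V} (hN : ∀ m ∈ N, ρ t m ∈ N) (hvN : v ∈ N) : ∃ c : k, ∃ m ∈ N, m ≠ 0 ∧ ρ t m = c • m := by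
  set e : kˣ → V := fun c => ∑ j ∈ Finset.range (Fintype.card k - 1), ((c⁻¹ : kˣ) : k) ^ j • ρ (t ^ j) v with he
  have hpow : ∀ j, ∀ m ∈ N, ρ (t ^ j) m ∈ N := by
    intro j
    induction j with
    | zero => intro m hm; rw [pow_zero, map_one, Module.End.one_apply]; exact hm
    | succ j ih => intro m hm; rw [pow_succ', mulv]; exact hN _ (ih m hm)
  have hq : 0 < Fintype.card k - 1 := Nat.sub_pos_of_lt Fintype.one_lt_card
  have hsum : ∑ c : kˣ, e c = -v := by
    rw [he, Finset.sum_comm]
    have h1 : ∀ j ∈ Finset.range (Fintype.card k - 1), ∑ c : kˣ, ((c⁻¹ : kˣ) : k) ^ j • ρ (t ^ j) v =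
        (if j = 0 then -1 else 0 : k) • ρ (t ^ j) v := by
      intro j hj
      rw [← Finset.sum_smul]
      congr 1
      have h2 : ∑ c : kˣ, ((c⁻¹ : kˣ) : k) ^ j = ∑ c : kˣ, (c ^ j : k) :=
        Equiv.sum_comp (Equiv.inv kˣ) (fun c : kˣ => (c : k) ^ j)
      rw [h2]
      have h3 := FiniteField.sum_pow_units k j
      rw [h3]
      have h4 : (Fintype.card k - 1 ∣ j) ↔ j = 0 := by
        constructor
        · intro h5
          exact Nat.eq_zero_of_dvd_of_lt h5 (Finset.mem_range.1 hj)
        · rintro rfl; exact dvd_zero _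
      simp only [h4]
    rw [Finset.sum_congr rfl h1, Finset.sum_eq_single 0]
    · rw [if_pos rfl, pow_zero, map_one, Module.End.one_apply, neg_smul, one_smul]
    · intro j _ hj
      rw [if_neg hj, zero_smul]
    · intro h2
      exact absurd (Finset.mem_range.2 hq) h2
  obtain ⟨c, hc⟩ : ∃ c, e c ≠ 0 := by
    by_contra hcon
    push Not at hcon
    rw [Finset.sum_eq_zero fun c _ => hcon c] at hsum
    exact hv (neg_eq_zero.1 hsum.symm)
  refine ⟨c, e c, Submodule.sum_mem _ fun j _ => N.smul_mem _ (hpow j v hvN), hc, ?_⟩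
  set g : ℕ → V := fun j => ((c⁻¹ : kˣ) : k) ^ j • ρ (t ^ j) v with hg
  have h1 : e c = ∑ j ∈ Finset.range (Fintype.card k - 1), g j := rfl
  have h2 : g (Fintype.card k - 1) = g 0 := by
    rw [hg]
    simp only []
    rw [ht, pow_zero, pow_zero, FiniteField.pow_card_sub_one_eq_one _ (Units.ne_zero _)]
  have h3 : ∑ j ∈ Finset.range (Fintype.card k - 1), g (j + 1) = ∑ j ∈ Finset.range (Fintype.card k - 1), g j := by
    have h4 := Finset.sum_range_succ g (Fintype.card k - 1)
    rw [Finset.sum_range_succ', h2] at h4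
    exact add_right_cancel h4
  rw [h1, map_sum, Finset.smul_sum]
  have h5 : ∀ j, ρ t (g j) = (c : k) • g (j + 1) := by
    intro j
    rw [hg]
    simp only []
    rw [map_smul, ← mulv, ← pow_succ', smul_smul]
    congr 1
    rw [pow_succ', ← mul_assoc, Units.mul_inv, one_mul]
  rw [Finset.sum_congr rfl fun j _ => h5 j, ← Finset.smul_sum, h3, Finset.smul_sum]

theorem exists_eig [Fintype k] [DecidableEq k] [Finite V] (hTc : ∀ s ∈ T, ∀ t ∈ T, s * t = t * s)
    (hTp : ∀ t ∈ T, t ^ (Fintype.card k - 1) = 1) {N₀ : Submodule k V} (hN₀ : ∀ t ∈ T, ∀ m ∈ N₀, ρ t m ∈ N₀)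
    (hne : N₀ ≠ ⊥) : ∃ v ∈ N₀, v ≠ 0 ∧ ∃ χ : Y → k, ∀ t ∈ T, ρ t v = χ t • v := by
  have hfin : Finite (Submodule k V) := Finite.of_injective ((↑) : Submodule k V → Set V) SetLike.coe_injective
  obtain ⟨N, ⟨hN1, hN2, hN3⟩, hmin⟩ := (wellFounded_lt (α := Submodule k V)).has_min
    {N | N ≤ N₀ ∧ N ≠ ⊥ ∧ ∀ t ∈ T, ∀ m ∈ N, ρ t m ∈ N} ⟨N₀, le_refl _, hne, hN₀⟩
  obtain ⟨v, hvN, hv⟩ := (Submodule.ne_bot_iff N).1 hN2
  have key : ∀ t ∈ T, ∃ c : k, ∀ m ∈ N, ρ t m = c • m := by
    intro t ht
    obtain ⟨c, m, hm, hm0, e⟩ := exists_eig1 (hTp t ht) hv (hN3 t ht) hvN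
    refine ⟨c, ?_⟩
    by_contra hcon
    let N' : Submodule k V := N ⊓ LinearMap.ker (ρ t - c • (1 : Module.End k V))
    have hmem : ∀ x, x ∈ N' ↔ x ∈ N ∧ ρ t x = c • x := by
      intro x
      rw [Submodule.mem_inf, LinearMap.mem_ker, LinearMap.sub_apply, LinearMap.smul_apply, Module.End.one_apply,
        sub_eq_zero]
    refine hmin N' ⟨le_trans inf_le_left hN1, ?_, ?_⟩ (lt_of_le_of_ne inf_le_left ?_)
    · rw [Submodule.ne_bot_iff]
      exact ⟨m, (hmem m).2 ⟨hm, e⟩, hm0⟩
    · intro s hs x hx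
      rw [hmem] at hx ⊢
      refine ⟨hN3 s hs x hx.1, ?_⟩
      rw [← mulv, ← hTc s hs t ht, mulv, hx.2, map_smul]
    · intro he
      apply hcon
      intro x hx
      rw [← he, hmem] at hx
      exact hx.2
  choose! c hc using key
  exact ⟨v, hN1 hvN, hv, c, fun t ht => hc t ht v hvN⟩

theorem exists_fx [Fact p.Prime] {G : Type*} [Group G] (hG : IsPGroup p G) {P : Type*} [AddCommGroup P] [Finite P]
    [Nontrivial P] (hp : ∀ v : P, p • v = 0) (σ : G → P → P) (h1 : ∀ v, σ 1 v = v)
    (hmul : ∀ a b v, σ (a * b) v = σ a (σ b v)) (h0 : ∀ a, σ a 0 = 0) : ∃ v : P, v ≠ 0 ∧ ∀ g, σ g v = v := by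
  let act : MulAction G P := { smul := σ, one_smul := h1, mul_smul := hmul }
  obtain ⟨v, hv⟩ := exists_ne (0 : P)
  have h2 : addOrderOf v = p := addOrderOf_eq_prime (hp v) hv
  have h3 : p ∣ Nat.card P := h2 ▸ addOrderOf_dvd_natCard v
  obtain ⟨b, hb, hb0⟩ := hG.exists_fixed_point_of_prime_dvd_card_of_fixed_point P h3 (a := 0) (fun g => h0 g)
  exact ⟨b, hb0.symm, fun g => hb g⟩

include R Q

/-- **a common eigenvector** -/
theorem exists_weight [Finite W] [Finite Y] [Fintype k] [DecidableEq k] [Finite V] [Nontrivial V] [Fact p.Prime]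
    [CharP k p] (hTc : ∀ s ∈ T, ∀ t ∈ T, s * t = t * s) (hTp : ∀ t ∈ T, t ^ (Fintype.card k - 1) = 1)
    (ρ : Y →* Module.End k V) :
    ∃ (v : V) (χ : Y → k) (c : I → k), v ≠ 0 ∧ Fx ρ (RGD.Sup X (RGD.Pos cs h)) v ∧ (∀ t ∈ T, ρ t v = χ t • v) ∧
      ∀ i, Ti ρ n X i v = c i • v ∧ (c i = 0 ∨ c i = kap Q χ i) := by
  -- the fixed vectors of `U`
  let N₀ : Submodule k V :=
    { carrier := {v | Fx ρ (RGD.Sup X (RGD.Pos cs h)) v}
      zero_mem' := fun u _ => map_zero _
      add_mem' := fun {a b} ha hb u hu => by rw [map_add, ha u hu, hb u hu]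
      smul_mem' := fun a v hv u hu => by rw [map_smul, hv u hu] }
  have hN₀ : ∀ v, v ∈ N₀ ↔ Fx ρ (RGD.Sup X (RGD.Pos cs h)) v := fun v => Iff.rfl
  have hne : N₀ ≠ ⊥ := by
    rw [Submodule.ne_bot_iff]
    obtain ⟨v, hv, hf⟩ := exists_fx R.isPGroup_Upos (P := V) (fun v => by
      rw [← Nat.cast_smul_eq_nsmul k, CharP.cast_eq_zero, zero_smul])
      (fun u v => ρ u v) (fun v => by simp) (fun a b v => by simp) (fun a => map_zero _)
    exact ⟨v, (hN₀ v).2 fun u hu => hf ⟨u, hu⟩, hv⟩
  obtain ⟨v₀, hv₀, hv0, χ₀, hχ₀⟩ := exists_eig (ρ := ρ) (T := T) hTc hTp (N₀ := N₀)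
    (fun t ht m hm => (hN₀ _).2 (fx_T R ht ((hN₀ m).1 hm))) hne
  rw [hN₀] at hv₀
  -- the longest `w` with `T_w v ≠ 0`
  let S : Set W := {w | ∃ g, Rp cs R.nsys w g ∧ Tw ρ cs h X w g v₀ ≠ 0}
  have hS : S.Nonempty := by
    refine ⟨1, 1, rp_one, ?_⟩
    rw [Tw_apply, RGD.inv_one_eq, Sup_empty, SM_bot, one_mul, map_one, Module.End.one_apply]
    exact hv0
  obtain ⟨w, ⟨g, hg, hgne⟩, hmax⟩ := Set.exists_max_image S cs.length (Set.toFinite S) hS
  have hχ := tw_T (cs := cs) (h := h) R hg hχ₀
  have hU := tw_U R hv₀ w hg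
  have key : ∀ i, ∃ c : k, Ti ρ n X i (Tw ρ cs h X w g v₀) = c • Tw ρ cs h X w g v₀ := by
    intro i
    rcases (IsRoot.pos_or_neg (cs := cs) (h := h) ((isRoot_sr cs h i).act w⁻¹)) with hpos | hneg
    · refine ⟨0, ?_⟩
      rw [zero_smul, ti_tw R hpos]
      by_contra hcon
      have h1 := hmax (cs.simple i * w) ⟨n i * g, (rp_simple cs R.nsys i).mul hg, hcon⟩
      have h2 := (lt_iff' cs h w⁻¹ i).2 hpos
      rw [cs.length_inv, ← cs.length_inv (w⁻¹ * cs.simple i), mul_inv_rev, inv_inv, inv_simple] at h2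
      omega
    · have hpos' : 0 ≤ rep cs h (cs.simple i * w)⁻¹ (sr i) := by
        rw [mul_inv_rev, inv_simple, rep_mul_apply, rep_simple_sr, map_neg]
        exact neg_nonneg.2 hneg
      have hsw : cs.simple i * (cs.simple i * w) = w := by rw [← mul_assoc, simple_mul_simple_self, one_mul]
      have h1 := ti_tw (ρ := ρ) (g := (n i)⁻¹ * g) R hpos' v₀
      rw [hsw, mul_inv_cancel_left] at h1
      have hg' : Rp cs R.nsys (cs.simple i * w) ((n i)⁻¹ * g) := by
        have := (rp_simple cs R.nsys i).inv.mul hg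
        rwa [inv_simple] at this
      refine ⟨kap Q (fun t => χ₀ (((n i)⁻¹ * g)⁻¹ * t * ((n i)⁻¹ * g))) i, ?_⟩
      rw [← h1]
      exact ti_sq R Q (tw_U R hv₀ _ hg') (tw_T R hg' hχ₀) i
  choose c hc using key
  refine ⟨Tw ρ cs h X w g v₀, fun t => χ₀ (g⁻¹ * t * g), c, hgne, hU, hχ, fun i => ⟨hc i, ?_⟩⟩
  have h1 := ti_sq R Q hU hχ i
  rw [hc i, map_smul, hc i, smul_smul, smul_smul, ← sub_eq_zero, ← sub_smul, smul_eq_zero] at h1
  have h2 := h1.resolve_right hgne
  rw [← sub_mul, mul_eq_zero, sub_eq_zero] at h2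
  rcases h2 with h2 | h2
  · exact Or.inr h2
  · exact Or.inl h2

end Cfsg.Agent.H163.E65
end

-- part: H163/E65/Top
section
/-!
# S3650, own characteristic: the highest weight function of a representation (helper163)

* `birk` : `Y = U⁻ N U`; `kap_cases`; `curtis`.
-/

set_option autoImplicit false
set_option linter.unusedSectionVars false

namespace Cfsg.Agent.H163.E65

open CoxeterSystem Cfsg.Agent.ChevalleyStructure.CoxeterGeom Cfsg.Agent.Tits.Roots Cfsg.Agent.Tits.Core
  Cfsg.Agent.Tits.RootComb Cfsg.Agent.Nodes.Comb Cfsg.Agent.Nodes.Reps Cfsg.Agent.Nodes.BNOf Cfsg.Agent.Nodes.Bruhat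
  Cfsg.Agent.Nodes.OppDec Cfsg.Agent.Tits.Exchange

variable {I W Y : Type*} [Fintype I] [DecidableEq I] [Group W] [Group Y] {M : CoxeterMatrix I}
  {cs : CoxeterSystem M W} {A : I → I → ℤ} {h : IsCartan M A} {p : ℕ} {T : Subgroup Y} {n : I → Y}
  {X : (I → ℤ) → Subgroup Y} {k : Type*} [Field k] {V : Type*} [AddCommGroup V] [Module k V]
  {ρ : Y →* Module.End k V}

variable (R : RGD cs h p T n X) (Q : RkOne T n X k)

theorem kap_cases [Fintype k] [DecidableEq k] {v : V} (hv : v ≠ 0) {χ : Y → k}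
    (hχ : ∀ t ∈ T, ρ t v = χ t • v) (i : I) :
    kap Q χ i = 0 ∨ (kap Q χ i = -1 ∧ ∀ t, χ ((Q.hh i t)⁻¹) = 1) := by
  classical
  have inj : ∀ a b : k, a • v = b • v → a = b := by
    intro a b hab
    rw [← sub_eq_zero, ← sub_smul, smul_eq_zero] at hab
    exact sub_eq_zero.1 (hab.resolve_right hv)
  let m : kˣ →* k :=
    { toFun := fun t => χ (Q.hh i t)
      map_one' := inj _ _ (by
        rw [← hχ _ (Q.h_mem i 1), map_one, map_one, Module.End.one_apply, one_smul])
      map_mul' := fun s t => inj _ _ (by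
        rw [← hχ _ (Q.h_mem i _), map_mul, mulv, hχ _ (Q.h_mem i t), map_smul, hχ _ (Q.h_mem i s), smul_smul,
          mul_comm]) }
  have hm : ∀ t, m t = χ (Q.hh i t) := fun _ => rfl
  have h1 : kap Q χ i = ∑ t : kˣ, m t := by
    unfold kap
    have e : ∀ t : kˣ, χ ((Q.hh i (-t))⁻¹) = m ((Equiv.neg kˣ).trans (Equiv.inv kˣ) t) := by
      intro t
      rw [hm, Equiv.trans_apply, Equiv.neg_apply, Equiv.inv_apply, map_inv]
    rw [Finset.sum_congr rfl fun t _ => e t]
    exact Equiv.sum_comp ((Equiv.neg kˣ).trans (Equiv.inv kˣ)) (fun t => m t)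
  rw [h1, sum_hom_units m]
  by_cases hm1 : m = 1
  · right
    rw [if_pos hm1]
    refine ⟨?_, fun t => ?_⟩
    · rw [Fintype.card_units, Nat.cast_sub Fintype.card_pos, Nat.cast_one, Nat.cast_card_eq_zero, zero_sub]
    · rw [← map_inv, ← hm, hm1, MonoidHom.one_apply]
  · left
    rw [if_neg hm1, Nat.cast_zero]

include R

theorem birk [Finite W] (hG : GG cs h T X = ⊤) (g : Y) : ∃ u ∈ UN cs h X, ∃ w c, Rp cs R.nsys w c ∧
    ∃ b ∈ RGD.Sup X (RGD.Pos cs h), g = u * c * b := by
  obtain ⟨g₀, hg₀⟩ := exists_rp cs R.nsys (w0 cs)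
  obtain ⟨w, b₁, hb₁, c, hc, b₂, hb₂, e⟩ := (mem_GG R (g := g₀ * g)).1 (by rw [hG]; exact Subgroup.mem_top _)
  obtain ⟨t₁, ht₁, u₁, hu₁, e₁⟩ := R.mem_B.1 (inv_mem hb₁)
  obtain ⟨t₂, ht₂, u₂, hu₂, e₂⟩ := R.mem_B.1 hb₂
  have e₁' : b₁ = u₁⁻¹ * t₁⁻¹ := by rw [← inv_inv b₁, e₁, mul_inv_rev]
  refine ⟨g₀⁻¹ * u₁⁻¹ * g₀, ?_, (w0 cs)⁻¹ * (1 * (w * 1)), g₀⁻¹ * (t₁⁻¹ * (c * t₂)),
    hg₀.inv.mul ((rp_of_mem (inv_mem ht₁)).mul (hc.mul (rp_of_mem ht₂))), u₂, hu₂, ?_⟩
  · have h1 : g₀⁻¹ * u₁⁻¹ * g₀⁻¹⁻¹ ∈ cj g₀⁻¹ (RGD.Sup X (RGD.Pos cs h)) := conj_mem_cj.2 (inv_mem hu₁)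
    have h2 : Rp cs R.nsys (w0 cs) g₀⁻¹ := by
      have := hg₀.inv
      rwa [w0_inv] at this
    rw [cj_U R h2, inv_inv] at h1
    exact h1
  · have e3 : g = g₀⁻¹ * (g₀ * g) := by group
    rw [e3, e, e₁', e₂]
    group

theorem isPGroup_UN [Finite W] : IsPGroup p ↥(UN cs h X) := by
  obtain ⟨g₀, hg₀⟩ := exists_rp cs R.nsys (w0 cs)
  rw [← cj_U R hg₀]
  exact R.isPGroup_Upos.map _

include Q

/-- **Curtis' theorem**: a representation in characteristic `p` has a highest weight function. -/
theorem curtis [Finite W] [Finite Y] [Fintype k] [DecidableEq k] [Finite V] [Nontrivial V] [Fact p.Prime]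
    [CharP k p] (hG : GG cs h T X = ⊤) (hTc : ∀ s ∈ T, ∀ t ∈ T, s * t = t * s)
    (hTp : ∀ t ∈ T, t ^ (Fintype.card k - 1) = 1) (ρ : Y →* Module.End k V) :
    ∃ (v : V) (ξ : Module.Dual k V) (χ : Y → k) (J : Set I), v ≠ 0 ∧ HW cs h T n X (fun g => ξ (ρ g v)) χ J ∧
      Fx ρ (RGD.Sup X (RGD.Pos cs h)) v ∧ ∀ i ∈ J, ρ (n i) v = v := by
  obtain ⟨v, χ, c, hv, hU, hχ, hc⟩ := exists_weight R Q hTc hTp ρ
  -- the two kinds of nodes
  set J : Set I := {i | c i = 0 ∧ kap Q χ i = -1} with hJ
  have hX : ∀ i, ∀ u ∈ X (sr i), ρ u v = v := fun i u hu =>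
    hU u (RGD.le_Sup (S := RGD.Pos cs h) ⟨isRoot_sr cs h i, sr_nonneg i⟩ hu)
  have hnJ : ∀ i, i ∉ J → c i = kap Q χ i := by
    intro i hi
    rcases (hc i).2 with h0 | h0
    · rcases kap_cases Q hv hχ i with h1 | h1
      · rw [h0, h1]
      · exact absurd ⟨h0, h1.1⟩ hi
    · exact h0
  have hY : ∀ i ∈ J, ∀ u ∈ X (-sr i), ρ u v = v := by
    rintro i ⟨h0, h1⟩ u hu
    have h2 := ti_eq R Q hU hχ i
    have h3 : ∀ t, χ ((Q.hh i t)⁻¹) = 1 := by
      rcases kap_cases Q hv hχ i with h4 | h4
      · rw [h1] at h4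
        exact absurd h4 (by simp)
      · exact h4.2
    rw [(hc i).1, h0, zero_smul] at h2
    have h4 : ρ (n i) v + ∑ t : k, ρ (Q.y i t) v = v := by
      rw [sum_zero_units', x_zero_of_add (Q.y_add i), map_one, Module.End.one_apply]
      have h5 : ∑ t : kˣ, χ ((Q.hh i (-t))⁻¹) • ρ (Q.y i t) v = ∑ t : kˣ, ρ (Q.y i t) v :=
        Finset.sum_congr rfl fun t _ => by rw [h3, one_smul]
      rw [h5] at h2
      rw [add_left_comm, ← h2, add_zero]
    obtain ⟨s, rfl⟩ := (Q.y_mem i u).1 hu
    have h5 := congrArg (ρ (Q.y i s)) h4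
    rw [map_add, map_sum] at h5
    have h6 : ρ (Q.y i s) (ρ (n i) v) = ρ (n i) v := by
      rw [← mulv]
      have h7 : Q.y i s * n i = n i * ((n i)⁻¹ * Q.y i s * n i) := by group
      rw [h7, mulv, hX i _ (conj_neg' R Q i hu)]
    have h7 : ∑ t : k, ρ (Q.y i s) (ρ (Q.y i t) v) = ∑ t : k, ρ (Q.y i t) v := by
      have h8 : ∀ t, ρ (Q.y i s) (ρ (Q.y i t) v) = (fun t => ρ (Q.y i t) v) (Equiv.addLeft s t) := by
        intro t
        rw [← mulv, ← Q.y_add]; rfl
      rw [Finset.sum_congr rfl fun t _ => h8 t]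
      exact Equiv.sum_comp (Equiv.addLeft s) (fun t => ρ (Q.y i t) v)
    rw [h6, h7, h4] at h5
    exact h5.symm
  have hn : ∀ i ∈ J, ρ (n i) v = v := by
    intro i hi
    have h2 := ti_eq R Q hU hχ i
    have h3 := (kap_cases Q hv hχ i).resolve_left (by rw [hi.2]; simp)
    rw [(hc i).1, hi.1, zero_smul] at h2
    have h5 : ∑ t : kˣ, χ ((Q.hh i (-t))⁻¹) • ρ (Q.y i t) v = ∑ t : kˣ, χ ((Q.hh i (-t))⁻¹) • v :=
      Finset.sum_congr rfl fun t _ => by rw [hY i hi _ ((Q.y_mem i _).2 ⟨_, rfl⟩)]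
    have h6 : ∑ t : kˣ, χ ((Q.hh i (-t))⁻¹) • v = -v := by
      rw [← Finset.sum_smul]
      change kap Q χ i • v = -v
      rw [hi.2, neg_smul, one_smul]
    rw [h5, h6, ← sub_eq_add_neg] at h2
    exact (sub_eq_zero.1 h2.symm)
  -- the relation for the other nodes
  have hjmp : ∀ i, i ∉ J → ∃ c : Y →₀ k, (∀ u ∈ c.support, u ∈ X (-sr i)) ∧ (c.sum fun _ a => a) = 0 ∧
      ∀ ξ : Module.Dual k V, ∀ g, ξ (ρ (g * n i) v) = c.sum fun u a => a * ξ (ρ (g * u) v) := by
    intro i hi
    set d : Y →₀ k := Finsupp.single 1 (c i) - ∑ t : kˣ, Finsupp.single (Q.y i t) (χ ((Q.hh i (-t))⁻¹)) with hd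
    have hlin : ∀ F : Y → k, (d.sum fun u a => a * F u) = c i * F 1 - ∑ t : kˣ, χ ((Q.hh i (-t))⁻¹) * F (Q.y i t) := by
      intro F
      have h1 : (d.sum fun u a => a * F u) = Finsupp.linearCombination k F d := rfl
      rw [h1, hd, map_sub, map_sum, Finsupp.linearCombination_single, smul_eq_mul]
      congr 1
      refine Finset.sum_congr rfl fun t _ => ?_
      rw [Finsupp.linearCombination_single, smul_eq_mul]
    refine ⟨d, ?_, ?_, ?_⟩
    · have h1 : d ∈ Finsupp.supported k k (X (-sr i) : Set Y) := by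
        refine Submodule.sub_mem _ (Finsupp.single_mem_supported k _ (one_mem _)) (Submodule.sum_mem _ fun t _ => ?_)
        exact Finsupp.single_mem_supported k _ ((Q.y_mem i _).2 ⟨_, rfl⟩)
      exact fun u hu => (Finsupp.mem_supported k d).1 h1 hu
    · have h1 := hlin fun _ => 1
      simp only [mul_one] at h1
      rw [h1, hnJ i hi]
      exact sub_self _
    · intro ξ g
      rw [hlin fun u => ξ (ρ (g * u) v)]
      have h2 := ti_eq R Q hU hχ i
      rw [(hc i).1] at h2
      have h3 : ρ (n i) v = c i • v - ∑ t : kˣ, χ ((Q.hh i (-t))⁻¹) • ρ (Q.y i t) v := by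
        rw [h2, add_sub_cancel_right]
      rw [mulv, h3, map_sub, map_smul, map_sub, map_smul, map_sum, map_sum, mul_one, smul_eq_mul]
      congr 1
      refine Finset.sum_congr rfl fun t _ => ?_
      rw [map_smul, map_smul, smul_eq_mul, mulv]
  -- the invariant functional
  let Φ : Module.Dual k V →ₗ[k] (Y → k) :=
    { toFun := fun ξ g => ξ (ρ g v)
      map_add' := fun ξ η => by funext g; rfl
      map_smul' := fun a ξ => by funext g; rfl }
  have hΦ : ∀ ξ g, Φ ξ g = ξ (ρ g v) := fun _ _ => rfl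
  have hnt : Nontrivial ↥(LinearMap.range Φ) := by
    rw [Submodule.nontrivial_iff_ne_bot, Submodule.ne_bot_iff]
    have h1 : ¬ ∀ ξ : Module.Dual k V, ξ v = 0 := by
      rw [Module.forall_dual_apply_eq_zero_iff]
      exact hv
    push Not at h1
    obtain ⟨ξ, hξ⟩ := h1
    refine ⟨Φ ξ, ⟨ξ, rfl⟩, ?_⟩
    intro h2
    apply hξ
    have h3 := congrFun h2 1
    rwa [hΦ, map_one, Module.End.one_apply] at h3
  have hfinP : Finite ↥(LinearMap.range Φ) := inferInstance
  have hstab : ∀ u : Y, ∀ φ ∈ LinearMap.range Φ, (fun g => φ (u⁻¹ * g)) ∈ LinearMap.range Φ := by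
    rintro u _ ⟨ξ, rfl⟩
    refine ⟨ξ ∘ₗ ρ u⁻¹, ?_⟩
    funext g
    rw [hΦ, hΦ, mulv]; rfl
  obtain ⟨⟨φ, ξ, hξ⟩, hφ0, hφ⟩ := exists_fx (isPGroup_UN R) (P := ↥(LinearMap.range Φ))
    (fun v => by rw [← Nat.cast_smul_eq_nsmul k, CharP.cast_eq_zero, zero_smul])
    (fun u φ => ⟨fun g => φ.1 ((u : Y)⁻¹ * g), hstab u φ.1 φ.2⟩)
    (fun φ => Subtype.ext (funext fun g => by simp))
    (fun a b φ => Subtype.ext (funext fun g => by simp [mul_assoc]))
    (fun a => Subtype.ext (funext fun g => by simp))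
  have hleft : ∀ u ∈ UN cs h X, ∀ g, ξ (ρ (u * g) v) = ξ (ρ g v) := by
    intro u hu g
    have h1 := congrFun (congrArg Subtype.val (hφ ⟨u, hu⟩)) (u * g)
    change φ (u⁻¹ * (u * g)) = φ (u * g) at h1
    rw [inv_mul_cancel_left, ← hξ, hΦ, hΦ] at h1
    exact h1.symm
  -- the shortest `w` on which it is not zero
  have hright : ∀ b ∈ RGD.Sup X (RGD.Pos cs h), ∀ g, ξ (ρ (g * b) v) = ξ (ρ g v) := by
    intro b hb g
    rw [mulv, hU b hb]
  let S : Set W := {w | ∃ g, Rp cs R.nsys w g ∧ ξ (ρ g v) ≠ 0}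
  have hS : S.Nonempty := by
    by_contra hcon
    rw [Set.not_nonempty_iff_eq_empty, Set.eq_empty_iff_forall_notMem] at hcon
    apply hφ0
    apply Subtype.ext
    show φ = 0
    funext g
    rw [← hξ, hΦ]
    obtain ⟨u, hu, w, c', hc', b, hb, rfl⟩ := birk R hG g
    rw [hright b hb, hleft u hu]
    by_contra h1
    exact hcon w ⟨c', hc', h1⟩
  obtain ⟨w, ⟨g, hg, hgne⟩, hmin⟩ := Set.exists_min_image S cs.length (Set.toFinite S) hS
  have hw1 : w = 1 := by
    by_contra hw
    obtain ⟨i, hi⟩ := cs.exists_rightDescent_of_ne_one hw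
    have hi' : cs.length (w * cs.simple i) < cs.length w := hi
    have hg' : Rp cs R.nsys (w * cs.simple i) (g * (n i)⁻¹) := by
      have := hg.mul (rp_simple cs R.nsys i).inv
      rwa [inv_simple] at this
    have h0 : ξ (ρ (g * (n i)⁻¹) v) = 0 := by
      by_contra h1
      have h2 := hmin _ ⟨_, hg', h1⟩
      omega
    apply hgne
    have e : g = g * (n i)⁻¹ * n i := by group
    by_cases hiJ : i ∈ J
    · rw [e, mulv, hn i hiJ, h0]
    · obtain ⟨d, hd1, -, hd3⟩ := hjmp i hiJ
      rw [e, hd3 ξ]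
      refine Finset.sum_eq_zero fun u hu => ?_
      have hpos : 0 ≤ rep cs h (w * cs.simple i) (sr i) := by
        refine nonneg_of_lt cs h _ i ?_
        rw [mul_assoc, simple_mul_simple_self, mul_one]
        exact hi'
      have h1 : g * (n i)⁻¹ * u * (g * (n i)⁻¹)⁻¹ ∈ UN cs h X := by
        have h2 := R.conj_mem hg' (isRoot_sr cs h i).neg (hd1 u hu)
        exact X_le_UN ((isRoot_sr cs h i).neg.act _) (by rw [map_neg]; exact neg_nonpos.2 hpos) h2
      have h2 : g * (n i)⁻¹ * u = g * (n i)⁻¹ * u * (g * (n i)⁻¹)⁻¹ * (g * (n i)⁻¹) := by group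
      show d u * ξ (ρ (g * (n i)⁻¹ * u) v) = 0
      rw [h2, hleft _ h1, h0, mul_zero]
  have hξv : ξ v ≠ 0 := by
    subst hw1
    intro h0
    apply hgne
    rw [hχ g hg.mem_of_one, map_smul, h0, smul_zero]
  refine ⟨v, (ξ v)⁻¹ • ξ, χ, J, hv, ⟨?_, ?_, ?_, ?_, ?_, ?_⟩, hU, hn⟩
  · rw [map_one, Module.End.one_apply, LinearMap.smul_apply, smul_eq_mul, inv_mul_cancel₀ hξv]
  · intro x hx h0 u hu g
    simp only [LinearMap.smul_apply, hleft u (X_le_UN hx h0 hu) g]
  · intro x hx h0 u hu g
    simp only [LinearMap.smul_apply, hright u (RGD.le_Sup (S := RGD.Pos cs h) ⟨hx, h0⟩ hu) g]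
  · intro t ht g
    simp only [LinearMap.smul_apply]
    rw [mulv, hχ t ht, map_smul, map_smul, smul_eq_mul, smul_eq_mul, smul_eq_mul]
    ring
  · intro i hi u hu g
    simp only [LinearMap.smul_apply]
    rw [mulv, hY i hi u hu]
  · intro i hi
    obtain ⟨d, hd1, hd2, hd3⟩ := hjmp i hi
    exact ⟨d, hd1, hd2, hd3 _⟩

end Cfsg.Agent.H163.E65
end

-- part: H163/E65/Mono
section
/-!
# S3650, own characteristic: highest weight functions are determined by their weights (helper163)

* `Mono` : the consequences of `HW` used; `HW.mono`; `Mono.prod`;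
* `Mono.eq` : uniqueness.
-/

set_option autoImplicit false
set_option linter.unusedSectionVars false

namespace Cfsg.Agent.H163.E65

open CoxeterSystem Cfsg.Agent.ChevalleyStructure.CoxeterGeom Cfsg.Agent.Tits.Roots Cfsg.Agent.Tits.Core
  Cfsg.Agent.Tits.RootComb Cfsg.Agent.Nodes.Comb Cfsg.Agent.Nodes.Reps Cfsg.Agent.Nodes.BNOf Cfsg.Agent.Nodes.Bruhat
  Cfsg.Agent.Nodes.OppDec Cfsg.Agent.Tits.Exchange

variable {I W Y : Type*} [Fintype I] [DecidableEq I] [Group W] [Group Y] {M : CoxeterMatrix I}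

/-- monomial functions -/
structure Mono (cs : CoxeterSystem M W) {A : I → I → ℤ} (h : IsCartan M A) {T : Subgroup Y} {n : I → Y}
    (hN : NSys M T n) (X : (I → ℤ) → Subgroup Y) {k : Type*} [Field k] (f χ : Y → k) (J : Set I) : Prop where
  one : f 1 = 1
  left : ∀ u ∈ UN cs h X, ∀ g, f (u * g) = f g
  right : ∀ u ∈ RGD.Sup X (RGD.Pos cs h), ∀ g, f (g * u) = f g
  tor : ∀ t ∈ T, ∀ g, f (g * t) = f g * χ t
  stay : ∀ i ∈ J, ∀ w g, Rp cs hN w g → 0 ≤ rep cs h w (sr i) → f (g * n i) = f g
  zero : ∀ i, i ∉ J → ∀ w g, Rp cs hN w g → 0 ≤ rep cs h w (sr i) → f (g * n i) = 0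

variable {cs : CoxeterSystem M W} {A : I → I → ℤ} {h : IsCartan M A} {p : ℕ} {T : Subgroup Y} {n : I → Y}
  {X : (I → ℤ) → Subgroup Y} {k : Type*} [Field k]

/-- the left stabiliser of a function -/
def lst (f : Y → k) : Subgroup Y where
  carrier := {u | ∀ g, f (u * g) = f g}
  one_mem' := fun g => by rw [one_mul]
  mul_mem' := by
    intro a b ha hb g
    rw [mul_assoc, ha, hb]
  inv_mem' := by
    intro a ha g
    have := ha (a⁻¹ * g)
    rw [mul_inv_cancel_left] at this
    exact this.symm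

/-- the right stabiliser of a function -/
def rst (f : Y → k) : Subgroup Y where
  carrier := {u | ∀ g, f (g * u) = f g}
  one_mem' := fun g => by rw [mul_one]
  mul_mem' := by
    intro a b ha hb g
    rw [← mul_assoc, hb, ha]
  inv_mem' := by
    intro a ha g
    have := ha (g * a⁻¹)
    rw [inv_mul_cancel_right] at this
    exact this.symm

theorem HW.left' {f χ : Y → k} {J : Set I} (H : HW cs h T n X f χ J) : ∀ u ∈ UN cs h X, ∀ g, f (u * g) = f g := by
  have : UN cs h X ≤ lst f := RGD.Sup_le fun z hz u hu g => H.left z hz.1 hz.2 u hu g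
  exact fun u hu g => this hu g

theorem HW.right' {f χ : Y → k} {J : Set I} (H : HW cs h T n X f χ J) :
    ∀ u ∈ RGD.Sup X (RGD.Pos cs h), ∀ g, f (g * u) = f g := by
  have : RGD.Sup X (RGD.Pos cs h) ≤ rst f := RGD.Sup_le fun z hz u hu g => H.right z hz.1 hz.2 u hu g
  exact fun u hu g => this hu g

theorem HW.mono (R : RGD cs h p T n X) (Q : RkOne T n X k) {f χ : Y → k} {J : Set I} (H : HW cs h T n X f χ J) :
    Mono cs h R.nsys X f χ J where
  one := H.one
  left := H.left'
  right := H.right'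
  tor := H.tor
  stay := by
    intro i hi w g _ _
    have h1 := Q.rel i (-1)
    rw [neg_neg, map_one, inv_one, mul_one] at h1
    have h2 : n i = (Q.x i (((-1)⁻¹ : kˣ) : k))⁻¹ * (Q.y i ((-1 : kˣ) : k) * Q.x i (-(((-1)⁻¹ : kˣ) : k))) := by
      rw [← h1, inv_mul_cancel_left]
    have hx : ∀ t g, f (g * Q.x i t) = f g := fun t g =>
      H.right (sr i) (isRoot_sr cs h i) (sr_nonneg i) _ ((Q.x_mem i _).2 ⟨t, rfl⟩) g
    have hx' : ∀ t g, f (g * (Q.x i t)⁻¹) = f g := fun t g =>
      H.right (sr i) (isRoot_sr cs h i) (sr_nonneg i) _ (inv_mem ((Q.x_mem i _).2 ⟨t, rfl⟩)) g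
    rw [h2, ← mul_assoc, ← mul_assoc, hx, H.lev i hi _ ((Q.y_mem i _).2 ⟨_, rfl⟩), hx']
  zero := by
    intro i hi w g hg hpos
    obtain ⟨c, hc1, hc2, hc3⟩ := H.jmp i hi
    rw [hc3 g]
    have h1 : (c.sum fun u a => a * f (g * u)) = c.sum fun u a => a * f g := by
      refine Finset.sum_congr rfl fun u hu => ?_
      show c u * f (g * u) = c u * f g
      have h2 : g * u * g⁻¹ ∈ UN cs h X := by
        have h3 := R.conj_mem hg (isRoot_sr cs h i).neg (hc1 u hu)
        exact X_le_UN ((isRoot_sr cs h i).neg.act _) (by rw [map_neg]; exact neg_nonpos.2 hpos) h3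
      have h3 : g * u = g * u * g⁻¹ * g := by group
      rw [h3, H.left' _ h2]
    rw [h1]
    have h2 : (c.sum fun u a => a * f g) = (c.sum fun _ a => a) * f g := by
      unfold Finsupp.sum
      rw [Finset.sum_mul]
    rw [h2, hc2, zero_mul]

/-- `f` is determined by `χ` and `J` -/
theorem Mono.eq [Finite W] (R : RGD cs h p T n X) (hG : GG cs h T X = ⊤) {f f' χ χ' : Y → k} {J : Set I}
    (H : Mono cs h R.nsys X f χ J) (H' : Mono cs h R.nsys X f' χ' J) (hχ : ∀ t ∈ T, χ t = χ' t) : f = f' := by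
  have key : ∀ (w : W) (g : Y), Rp cs R.nsys w g → f g = f' g := by
    intro w
    induction hn : cs.length w using Nat.strong_induction_on generalizing w with
    | _ N ih =>
    intro g hg
    by_cases hw : w = 1
    · subst hw
      have h1 := H.tor g hg.mem_of_one 1
      have h2 := H'.tor g hg.mem_of_one 1
      rw [one_mul, H.one] at h1
      rw [one_mul, H'.one] at h2
      rw [h1, h2, hχ g hg.mem_of_one]
    obtain ⟨i, hi⟩ := cs.exists_rightDescent_of_ne_one hw
    have hi' : cs.length (w * cs.simple i) < cs.length w := hi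
    have hg' : Rp cs R.nsys (w * cs.simple i) (g * (n i)⁻¹) := by
      have := hg.mul (rp_simple cs R.nsys i).inv
      rwa [inv_simple] at this
    have hpos : 0 ≤ rep cs h (w * cs.simple i) (sr i) := by
      refine nonneg_of_lt cs h _ i ?_
      rw [mul_assoc, simple_mul_simple_self, mul_one]
      exact hi'
    have e : g = g * (n i)⁻¹ * n i := by group
    by_cases hiJ : i ∈ J
    · rw [e, H.stay i hiJ _ _ hg' hpos, H'.stay i hiJ _ _ hg' hpos]
      exact ih _ (hn ▸ hi') _ rfl _ hg'
    · rw [e, H.zero i hiJ _ _ hg' hpos, H'.zero i hiJ _ _ hg' hpos]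
  funext g
  obtain ⟨u, hu, w, c, hc, b, hb, rfl⟩ := birk R hG g
  rw [H.right b hb, H.left u hu, H'.right b hb, H'.left u hu, key w c hc]

/-- products of powers of monomial functions -/
theorem Mono.prod (R : RGD cs h p T n X) {φ χ : I → Y → k} (H : ∀ i, Mono cs h R.nsys X (φ i) (χ i) {j | j ≠ i})
    (a : I → ℕ) : Mono cs h R.nsys X (fun g => ∏ i, φ i g ^ a i) (fun g => ∏ i, χ i g ^ a i) {j | a j = 0} where
  one := Finset.prod_eq_one fun i _ => by rw [(H i).one, one_pow]
  left u hu g := Finset.prod_congr rfl fun i _ => by rw [(H i).left u hu]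
  right u hu g := Finset.prod_congr rfl fun i _ => by rw [(H i).right u hu]
  tor t ht g := by
    rw [← Finset.prod_mul_distrib]
    exact Finset.prod_congr rfl fun i _ => by rw [(H i).tor t ht, mul_pow]
  stay := by
    intro i hi w g hg hpos
    refine Finset.prod_congr rfl fun j _ => ?_
    by_cases hij : i = j
    · subst hij
      have : a i = 0 := hi
      rw [this, pow_zero, pow_zero]
    · rw [(H j).stay i hij w g hg hpos]
  zero := by
    intro i hi w g hg hpos
    refine Finset.prod_eq_zero (Finset.mem_univ i) ?_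
    rw [(H i).zero i (fun h0 => h0 rfl) w g hg hpos]
    exact zero_pow hi

end Cfsg.Agent.H163.E65
end

-- part: H163/E65/Rk
section
/-!
# S3650, own characteristic: the rank one data and the torus of `E₆(5)` (helper163)

* `rk5 : RkOne T5 n5 X5 (ZMod 5)`; `GG_top`; `T5_comm`, `T5_pow`; `T5_le` : `T5` is generated by the `h5 i t`.
-/

set_option autoImplicit false

namespace Cfsg.Agent.H163.E65

open CoxeterSystem Cfsg.Lie Cfsg.Lie.ChevalleyDatum Cfsg.Agent.Nodes.RGDChev Cfsg.Agent.ChevalleyStructure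
  Cfsg.Agent.ChevalleyStructure.Elts Cfsg.Agent.ChevalleyStructure.MonomialNormal
  Cfsg.Agent.ChevalleyStructure.CoxeterGeomTypes Cfsg.Agent.Tits.Roots Cfsg.Agent.Tits.RootComb
  Cfsg.Agent.Nodes.BNOf Cfsg.Agent.Nodes.Bruhat Cfsg.Agent.Nodes.Reps Cfsg.Agent.ChevalleyStructure.CoxeterGeom

theorem lt_rank6 (i : Fin 6) : (i : ℕ) < chevE6.rank := lt_rank e6T i

theorem simple_lt6 (i : Fin 6) : chevE6.simple i < chevE6.nroots := Cfsg.Agent.ChevalleyStructure.NPerm.simple_lt e6T.inList (lt_rank6 i)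

theorem hG_mul6 (i : Fin 6) {s t : ZMod 5} (hs : s ≠ 0) (ht : t ≠ 0) :
    hG e6T.inList (chevE6.simple i) s * hG e6T.inList (chevE6.simple i) t = hG e6T.inList (chevE6.simple i) (s * t) := by
  apply Units.ext
  have hD := e6T.inList
  rw [Units.val_mul, coe_hG, coe_hG, coe_hG, Cfsg.Agent.S1033.result chevE6 hD i (lt_rank6 i) s hs,
    Cfsg.Agent.S1033.result chevE6 hD i (lt_rank6 i) t ht,
    Cfsg.Agent.S1033.result chevE6 hD i (lt_rank6 i) (s * t) (mul_ne_zero hs ht), Matrix.diagonal_mul_diagonal]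
  congr 1
  funext x
  rcases x with x | x
  · exact one_mul 1
  · exact (mul_zpow s t _).symm

theorem hG_one6 (i : Fin 6) : hG e6T.inList (chevE6.simple i) (1 : ZMod 5) = 1 := by
  have h1 := hG_mul6 i (one_ne_zero (α := ZMod 5)) one_ne_zero
  rw [mul_one] at h1
  exact mul_eq_left.1 h1

theorem h5_mul (i : Fin 6) {s t : ZMod 5} (hs : s ≠ 0) (ht : t ≠ 0) : h5 i s * h5 i t = h5 i (s * t) :=
  Subtype.ext (hG_mul6 i hs ht)

theorem h5_one (i : Fin 6) : h5 i 1 = 1 := Subtype.ext (hG_one6 i)

theorem h5_mem (i : Fin 6) {t : ZMod 5} (ht : t ≠ 0) : h5 i t ∈ T5 := by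
  rw [Subgroup.mem_subgroupOf]
  exact hG_mem_diagonal e6T.inList (simple_lt6 i) ht

theorem mem_X5_sr (i : Fin 6) (u : L5) :
    u ∈ X5 (sr i) ↔ ∃ t : ZMod 5, (⟨xG e6T.inList (chevE6.simple i) t, xG_mem_group _ _ _⟩ : L5) = u := by
  rw [Subgroup.mem_subgroupOf, XV_sr e6T, mem_rootSubgroup_iff e6T.inList]
  exact ⟨fun ⟨t, ht⟩ => ⟨t, Subtype.ext ht.symm⟩, fun ⟨t, ht⟩ => ⟨t, by rw [← ht]⟩⟩

theorem mem_X5_neg (i : Fin 6) (u : L5) :
    u ∈ X5 (-sr i) ↔ ∃ t : ZMod 5, (⟨xG e6T.inList (chevE6.neg (chevE6.simple i)) t, xG_mem_group _ _ _⟩ : L5) = u := by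
  rw [Subgroup.mem_subgroupOf, XV_neg_sr e6T, mem_rootSubgroup_iff e6T.inList]
  exact ⟨fun ⟨t, ht⟩ => ⟨t, Subtype.ext ht.symm⟩, fun ⟨t, ht⟩ => ⟨t, by rw [← ht]⟩⟩

theorem rel6 (i : Fin 6) (t : (ZMod 5)ˣ) :
    xG e6T.inList (chevE6.simple i) ((t⁻¹ : (ZMod 5)ˣ) : ZMod 5) * nG e6T.inList (chevE6.simple i) (1 : ZMod 5) =
      xG e6T.inList (chevE6.neg (chevE6.simple i)) (t : ZMod 5) *
        xG e6T.inList (chevE6.simple i) (-((t⁻¹ : (ZMod 5)ˣ) : ZMod 5)) *
        (hG e6T.inList (chevE6.simple i) (((-t : (ZMod 5)ˣ)) : ZMod 5))⁻¹ := by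
  have ht : (t : ZMod 5) ≠ 0 := t.ne_zero
  have h1 := xG_neg_eq' e6T (K := ZMod 5) (chevE6.simple i) (t : ZMod 5)
  rw [Units.val_inv_eq_inv_val, h1]
  have hx : xG e6T.inList (chevE6.simple i) (t : ZMod 5)⁻¹ * xG e6T.inList (chevE6.simple i) (-(t : ZMod 5)⁻¹) = 1 := by
    rw [xG_add, add_neg_cancel, xG_zero]
  have h4 : nG e6T.inList (chevE6.simple i) (-(t : ZMod 5)⁻¹) =
      nG e6T.inList (chevE6.simple i) 1 * hG e6T.inList (chevE6.simple i) (-(t : ZMod 5)) := by
    have hn1 : (-1 : ZMod 5) ≠ 0 := neg_ne_zero.2 one_ne_zero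
    have ha : hG e6T.inList (chevE6.simple i) (-1 : ZMod 5) =
        (nG e6T.inList (chevE6.simple i) (1 : ZMod 5))⁻¹ * (nG e6T.inList (chevE6.simple i) 1)⁻¹ := by
      rw [← nG_mul_inv, nG_neg_one]
    have haa := hG_mul6 i hn1 hn1
    rw [neg_mul_neg, one_mul, hG_one6, ha] at haa
    have h5 : hG e6T.inList (chevE6.simple i) (t : ZMod 5)⁻¹ * hG e6T.inList (chevE6.simple i) (t : ZMod 5) = 1 := by
      rw [hG_mul6 i (inv_ne_zero ht) ht, inv_mul_cancel₀ ht, hG_one6]
    have h6 : hG e6T.inList (chevE6.simple i) (-1 : ZMod 5) * hG e6T.inList (chevE6.simple i) (-(t : ZMod 5)) =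
        hG e6T.inList (chevE6.simple i) (t : ZMod 5) := by
      rw [hG_mul6 i hn1 (neg_ne_zero.2 ht), neg_mul_neg, one_mul]
    have h7 : nG e6T.inList (chevE6.simple i) (t : ZMod 5)⁻¹ =
        hG e6T.inList (chevE6.simple i) (t : ZMod 5)⁻¹ * nG e6T.inList (chevE6.simple i) 1 := by
      rw [← nG_mul_inv, inv_mul_cancel_right]
    have h9 : nG e6T.inList (chevE6.simple i) (-(t : ZMod 5)⁻¹) = (nG e6T.inList (chevE6.simple i) (t : ZMod 5)⁻¹)⁻¹ :=
      (nG_inv _ _ _).symm
    rw [h9, h7]
    generalize nG e6T.inList (chevE6.simple i) (1 : ZMod 5) = N at *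
    generalize hG e6T.inList (chevE6.simple i) (t : ZMod 5)⁻¹ = a at *
    generalize hG e6T.inList (chevE6.simple i) (-(t : ZMod 5)) = b at *
    have h10 : a⁻¹ = hG e6T.inList (chevE6.simple i) (t : ZMod 5) := inv_eq_of_mul_eq_one_right h5
    rw [mul_inv_rev, h10, ← h6, ha]
    have h8 : N⁻¹ * N⁻¹ * N⁻¹ * N⁻¹ = 1 := by rw [← haa]; group
    have h11 : N⁻¹ * N⁻¹ * N⁻¹ = N := mul_inv_eq_one.1 h8
    calc N⁻¹ * (N⁻¹ * N⁻¹ * b) = N⁻¹ * N⁻¹ * N⁻¹ * b := by group
      _ = N * b := by rw [h11]
  rw [h4]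
  have e : xG e6T.inList (chevE6.simple i) (t : ZMod 5)⁻¹ *
      (nG e6T.inList (chevE6.simple i) 1 * hG e6T.inList (chevE6.simple i) (-(t : ZMod 5))) *
      xG e6T.inList (chevE6.simple i) (t : ZMod 5)⁻¹ * xG e6T.inList (chevE6.simple i) (-(t : ZMod 5)⁻¹) *
      (hG e6T.inList (chevE6.simple i) (-(t : ZMod 5)))⁻¹ =
      xG e6T.inList (chevE6.simple i) (t : ZMod 5)⁻¹ * nG e6T.inList (chevE6.simple i) 1 := by
    rw [mul_assoc _ (xG e6T.inList (chevE6.simple i) (t : ZMod 5)⁻¹) (xG e6T.inList (chevE6.simple i) (-(t : ZMod 5)⁻¹)), hx]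
    group
  rw [Units.val_neg]
  exact e.symm

/-- **the rank one data** -/
noncomputable def rk5 : RkOne T5 n5 X5 (ZMod 5) where
  x i t := ⟨xG e6T.inList (chevE6.simple i) t, xG_mem_group _ _ _⟩
  y i t := ⟨xG e6T.inList (chevE6.neg (chevE6.simple i)) t, xG_mem_group _ _ _⟩
  hh i :=
    { toFun := fun t => h5 i (t : ZMod 5)
      map_one' := by rw [Units.val_one, h5_one]
      map_mul' := fun s t => by rw [Units.val_mul, h5_mul i s.ne_zero t.ne_zero] }
  x_mem := mem_X5_sr
  y_mem := mem_X5_neg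
  x_add i s t := Subtype.ext (xG_add e6T.inList (chevE6.simple i) s t).symm
  y_add i s t := Subtype.ext (xG_add e6T.inList (chevE6.neg (chevE6.simple i)) s t).symm
  x_inj i s t e := xG_injective e6T.inList (simple_lt6 i) (congrArg Subtype.val e)
  h_mem i t := h5_mem i t.ne_zero
  rel i t := Subtype.ext (rel6 i t)

theorem GG_top {W : Type*} [Group W] (cs : CoxeterSystem CoxeterMatrix.E₆ W) : GG cs e6T.isCartan T5 X5 = ⊤ := by
  rw [eq_top_iff, ← G1_eq_top e6T cs (K := ZMod 5)]
  exact le_sup_right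

/-- `T5` is generated by the `h5 i t` -/
theorem T5_le {H : Subgroup L5} (hH : ∀ i (t : ZMod 5), t ≠ 0 → h5 i t ∈ H) : T5 ≤ H := by
  intro g hg
  rw [Subgroup.mem_subgroupOf] at hg
  obtain ⟨c, hc, e⟩ := Cfsg.Agent.S1034.result chevE6 e6T.inList (g : GL chevE6.Idx (ZMod 5)) hg
  have h1 : ∀ l : List ℕ, (∀ i ∈ l, i < 6) → ∃ g' ∈ H, ((g' : GL chevE6.Idx (ZMod 5)) : Matrix chevE6.Idx chevE6.Idx (ZMod 5)) =
      chevE6.wordMat (ZMod 5) (l.flatMap fun i => chevE6.hWord (chevE6.simple i) (c i)) := by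
    intro l
    induction l with
    | nil => intro _; exact ⟨1, one_mem _, rfl⟩
    | cons i l ih =>
      intro hl
      obtain ⟨g', hg', e'⟩ := ih fun j hj => hl j (List.mem_cons_of_mem _ hj)
      have hi : i < 6 := hl i List.mem_cons_self
      refine ⟨h5 ⟨i, hi⟩ (c i) * g', mul_mem (hH _ _ (hc i ?_)) hg', ?_⟩
      · rw [e6T.rank_eq]; exact hi
      · rw [List.flatMap_cons, wordMat_append, ← e']
        show ((hG e6T.inList (chevE6.simple i) (c i) * g' : GL chevE6.Idx (ZMod 5)) :
          Matrix chevE6.Idx chevE6.Idx (ZMod 5)) = _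
        rw [Units.val_mul, coe_hG]
        rfl
  obtain ⟨g', hg', e'⟩ := h1 (List.range chevE6.rank) (fun i hi => by
    rw [List.mem_range, e6T.rank_eq] at hi; exact hi)
  have h2 : g = g' := Subtype.ext (Units.ext (by rw [e, e']))
  rw [h2]
  exact hg'

end Cfsg.Agent.H163.E65
end

-- part: H163/E65/OwnChar
section
/-!
# S3650, own characteristic (helper163)

* `fixes_own` : from the fundamental functions and the certificate to the fixed vectors of elements of order 313.
-/

set_option autoImplicit false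

namespace Cfsg.Agent.H163.E65

open CoxeterSystem Cfsg.Lie Cfsg.Lie.ChevalleyDatum Cfsg.Agent.Nodes.RGDChev Cfsg.Agent.ChevalleyStructure
  Cfsg.Agent.ChevalleyStructure.Elts Cfsg.Agent.ChevalleyStructure.MonomialNormal
  Cfsg.Agent.ChevalleyStructure.CoxeterGeomTypes Cfsg.Agent.Tits.Roots Cfsg.Agent.Tits.RootComb
  Cfsg.Agent.Nodes.BNOf Cfsg.Agent.Nodes.Bruhat Cfsg.Agent.Nodes.Reps Cfsg.Agent.ChevalleyStructure.CoxeterGeom
open Cfsg.Agent.ChevalleyStructure.E6Min.Basic (Zgrp)
open Cfsg.Agent.ChevalleyStructure.E6Min.Adjoint (ad)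

universe v

section Chars

variable {W : Type*} [Group W] {cs : CoxeterSystem CoxeterMatrix.E₆ W}

/-- the values of the characters -/
theorem pow_of_mul {m : ZMod 5 → ZMod 5} (h1 : m 1 = 1) (hm : ∀ s t, s ≠ 0 → t ≠ 0 → m (s * t) = m s * m t) :
    ∃ a : ℕ, a < 4 ∧ ∀ t, t ≠ 0 → m t = t ^ a := by
  have h2 : (2 : ZMod 5) ≠ 0 := by decide
  have h4 : (4 : ZMod 5) ≠ 0 := by decide
  have h3 : (3 : ZMod 5) ≠ 0 := by decide
  have e4 := hm 2 2 h2 h2
  have e3 := hm 2 4 h2 h4
  have e1 := hm 2 3 h2 h3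
  have f4 : (2 : ZMod 5) * 2 = 4 := by decide
  have f3 : (2 : ZMod 5) * 4 = 3 := by decide
  have f1 : (2 : ZMod 5) * 3 = 1 := by decide
  rw [f4] at e4
  rw [f3, e4] at e3
  rw [f1, e3, h1] at e1
  have key : ∀ c : ZMod 5, 1 = c * (c * (c * c)) → ∃ a : Fin 4, c = 2 ^ (a : ℕ) ∧ c * (c * c) = 3 ^ (a : ℕ) ∧
      c * c = 4 ^ (a : ℕ) := by decide
  obtain ⟨a, ha2, ha3, ha4⟩ := key _ e1
  refine ⟨a, a.2, fun t ht => ?_⟩
  have ht' : t = 1 ∨ t = 2 ∨ t = 3 ∨ t = 4 := by
    revert t; decide
  rcases ht' with rfl | rfl | rfl | rfl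
  · rw [h1, one_pow]
  · exact ha2
  · rw [e3]; exact ha3
  · rw [e4]; exact ha4

theorem HW.chi_mul {f χ : L5 → ZMod 5} {J : Set (Fin 6)} (H : HW cs e6T.isCartan T5 n5 X5 f χ J) {s t : L5}
    (hs : s ∈ T5) (ht : t ∈ T5) : χ (s * t) = χ s * χ t := by
  have h1 := H.tor _ (mul_mem hs ht) 1
  have h2 := H.tor _ ht s
  have h3 := H.tor _ hs 1
  rw [one_mul, H.one, one_mul] at h1 h3
  rw [← h1, h2, h3]

theorem HW.chi_one {f χ : L5 → ZMod 5} {J : Set (Fin 6)} (H : HW cs e6T.isCartan T5 n5 X5 f χ J) : χ 1 = 1 := by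
  have h3 := H.tor _ (one_mem _) 1
  rw [one_mul, H.one, one_mul] at h3
  exact h3.symm

/-- the exponents of a highest weight function -/
theorem HW.exists_exp {f χ : L5 → ZMod 5} {J : Set (Fin 6)} (H : HW cs e6T.isCartan T5 n5 X5 f χ J) :
    ∃ a : Fin 6 → Fin 5, J = {j | ((a j : Fin 5) : ℕ) = 0} ∧ ∀ i (t : ZMod 5), t ≠ 0 → χ (h5 i t) = t ^ (a i : ℕ) := by
  classical
  have hX : ∀ (i : Fin 6) (t : ZMod 5) (g : L5),
      f (g * ⟨xG e6T.inList (chevE6.simple i) t, xG_mem_group _ _ _⟩) = f g := by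
    intro i t g
    exact H.right (sr i) (isRoot_sr cs e6T.isCartan i) (sr_nonneg i) _ ((mem_X5_sr i _).2 ⟨t, rfl⟩) g
  have key : ∀ i, ∃ a : Fin 5, (i ∈ J ↔ (a : ℕ) = 0) ∧ ∀ t : ZMod 5, t ≠ 0 → χ (h5 i t) = t ^ (a : ℕ) := by
    intro i
    by_cases hi : i ∈ J
    · refine ⟨0, ⟨fun _ => rfl, fun _ => hi⟩, fun t ht => ?_⟩
      rw [Fin.val_zero, pow_zero]
      have h1 : ∀ t, (⟨xG e6T.inList (chevE6.simple i) t, xG_mem_group _ _ _⟩ : L5) ∈ rst f := fun t g => hX i t g
      have h2 : ∀ t, (⟨xG e6T.inList (chevE6.neg (chevE6.simple i)) t, xG_mem_group _ _ _⟩ : L5) ∈ rst f :=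
        fun t g => H.lev i hi _ ((mem_X5_neg i _).2 ⟨t, rfl⟩) g
      have h3 : ∀ t, (⟨nG e6T.inList (chevE6.simple i) t, nG_mem_group _ _ _⟩ : L5) ∈ rst f := by
        intro t
        have h4 : (⟨nG e6T.inList (chevE6.simple i) t, nG_mem_group _ _ _⟩ : L5) =
            ⟨xG e6T.inList (chevE6.simple i) t, xG_mem_group _ _ _⟩ *
            (⟨xG e6T.inList (chevE6.neg (chevE6.simple i)) (-t⁻¹), xG_mem_group _ _ _⟩ *
            ⟨xG e6T.inList (chevE6.simple i) t, xG_mem_group _ _ _⟩) := Subtype.ext (nG_def _ _ _)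
        rw [h4]
        exact mul_mem (h1 _) (mul_mem (h2 _) (h1 _))
      have h5' : h5 i t ∈ rst f := by
        have h6 : h5 i t = ⟨nG e6T.inList (chevE6.simple i) t, nG_mem_group _ _ _⟩ *
            (⟨nG e6T.inList (chevE6.simple i) (-1), nG_mem_group _ _ _⟩ : L5) := Subtype.ext (hG_def _ _ _)
        rw [h6]
        exact mul_mem (h3 _) (h3 _)
      have h6 := h5' 1
      rw [H.tor _ (h5_mem i ht), H.one, one_mul] at h6
      exact h6
    · obtain ⟨a, ha, hm⟩ := pow_of_mul (m := fun t => χ (h5 i t)) (by rw [h5_one, H.chi_one])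
        (fun s t hs ht => by rw [← h5_mul i hs ht, H.chi_mul (h5_mem i hs) (h5_mem i ht)])
      by_cases ha0 : a = 0
      · refine ⟨4, ⟨fun h0 => absurd h0 hi, fun h0 => absurd h0 (by decide)⟩, fun t ht => ?_⟩
        rw [hm t ht, ha0, pow_zero]
        revert t; decide
      · refine ⟨⟨a, by omega⟩, ⟨fun h0 => absurd h0 hi, fun h0 => absurd h0 ha0⟩, fun t ht => hm t ht⟩
  choose a ha1 ha2 using key
  exact ⟨a, Set.ext fun i => ha1 i, ha2⟩

/-- **every highest weight function is a product of the fundamental ones** -/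
theorem HW.eq_prod {f χ : L5 → ZMod 5} {J : Set (Fin 6)} (H : HW cs e6T.isCartan T5 n5 X5 f χ J)
    {φ χ' : Fin 6 → L5 → ZMod 5} (Hφ : ∀ i, HW cs e6T.isCartan T5 n5 X5 (φ i) (χ' i) {j | j ≠ i})
    (hχ : ∀ i j (t : ZMod 5), t ≠ 0 → χ' i (h5 j t) = if i = j then t else 1) :
    ∃ a : Fin 6 → Fin 5, J = {j | ((a j : Fin 5) : ℕ) = 0} ∧ f = fun g => ∏ i, φ i g ^ (a i : ℕ) := by
  obtain ⟨a, hJ, ha⟩ := H.exists_exp
  refine ⟨a, hJ, ?_⟩
  have : Finite W := finite_W e6T cs
  have R : RGD cs e6T.isCartan 5 T5 n5 X5 := rgd (K := ZMod 5) e6T cs 5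
  have M1 : Mono cs e6T.isCartan R.nsys X5 f χ J := H.mono R rk5
  have M2 := Mono.prod (cs := cs) (h := e6T.isCartan) R (φ := φ) (χ := χ') (fun i => (Hφ i).mono R rk5)
    (fun i => (a i : ℕ))
  rw [← hJ] at M2
  refine M1.eq R (GG_top cs) M2 ?_
  intro t ht
  -- the subgroup on which the characters agree
  let K : Subgroup L5 :=
    { carrier := {t | t ∈ T5 ∧ χ t = ∏ i, χ' i t ^ (a i : ℕ)}
      one_mem' := ⟨one_mem _, by
        rw [H.chi_one]
        symm
        exact Finset.prod_eq_one fun i _ => by rw [(Hφ i).chi_one, one_pow]⟩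
      mul_mem' := by
        rintro s t ⟨hs, hs'⟩ ⟨ht, ht'⟩
        refine ⟨mul_mem hs ht, ?_⟩
        rw [H.chi_mul hs ht, hs', ht', ← Finset.prod_mul_distrib]
        exact Finset.prod_congr rfl fun i _ => by rw [(Hφ i).chi_mul hs ht, mul_pow]
      inv_mem' := by
        rintro t ⟨ht, ht'⟩
        refine ⟨inv_mem ht, ?_⟩
        have h1 := H.chi_mul (inv_mem ht) ht
        rw [inv_mul_cancel, H.chi_one] at h1
        have h2 : (∏ i, χ' i t⁻¹ ^ (a i : ℕ)) * ∏ i, χ' i t ^ (a i : ℕ) = 1 := by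
          rw [← Finset.prod_mul_distrib]
          refine Finset.prod_eq_one fun i _ => ?_
          rw [← mul_pow, ← (Hφ i).chi_mul (inv_mem ht) ht, inv_mul_cancel, (Hφ i).chi_one, one_pow]
        rw [← ht'] at h2
        have h3 : χ t ≠ 0 := by
          intro h0
          rw [h0, mul_zero] at h2
          exact zero_ne_one h2
        exact mul_right_cancel₀ h3 (h1.symm.trans h2.symm) }
  have h1 : T5 ≤ K := by
    refine T5_le fun j t ht => ⟨h5_mem j ht, ?_⟩
    rw [ha j t ht]
    symm
    rw [Finset.prod_eq_single j]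
    · rw [hχ j j t ht, if_pos rfl]
    · intro i _ hij
      rw [hχ i j t ht, if_neg hij, one_pow]
    · intro h0; exact absurd (Finset.mem_univ j) h0
  exact (h1 ht).2

end Chars

/-- the torus is abelian -/
theorem T5_comm : ∀ s ∈ T5, ∀ t ∈ T5, s * t = t * s := by
  intro s hs t ht
  have h1 : T5 ≤ Subgroup.centralizer {t} := by
    have h2 : ∀ i (a : ZMod 5), a ≠ 0 → ∀ j (b : ZMod 5), b ≠ 0 → h5 i a * h5 j b = h5 j b * h5 i a := by
      intro i a ha j b hb
      apply Subtype.ext
      apply Units.ext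
      show ((hG e6T.inList (chevE6.simple i) a * hG e6T.inList (chevE6.simple j) b : GL chevE6.Idx (ZMod 5)) :
        Matrix chevE6.Idx chevE6.Idx (ZMod 5)) = ((hG e6T.inList (chevE6.simple j) b *
        hG e6T.inList (chevE6.simple i) a : GL chevE6.Idx (ZMod 5)) : Matrix chevE6.Idx chevE6.Idx (ZMod 5))
      rw [Units.val_mul, Units.val_mul, coe_hG, coe_hG, Cfsg.Agent.S1033.result chevE6 e6T.inList i (lt_rank6 i) a ha,
        Cfsg.Agent.S1033.result chevE6 e6T.inList j (lt_rank6 j) b hb, Matrix.diagonal_mul_diagonal,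
        Matrix.diagonal_mul_diagonal]
      congr 1
      funext x
      exact mul_comm _ _
    refine T5_le fun i a ha => ?_
    rw [Subgroup.mem_centralizer_singleton_iff]
    have h3 : T5 ≤ Subgroup.centralizer {h5 i a} := by
      refine T5_le fun j b hb => ?_
      rw [Subgroup.mem_centralizer_singleton_iff]
      exact h2 j b hb i a ha
    have h4 := h3 ht
    rw [Subgroup.mem_centralizer_singleton_iff] at h4
    exact h4.symm
  have h2 := h1 hs
  rwa [Subgroup.mem_centralizer_singleton_iff] at h2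

theorem pow_four {G : Type*} [Group G] {s t : G} (h : s * t = t * s) (hs : s ^ 4 = 1) (ht : t ^ 4 = 1) :
    (s * t) ^ 4 = 1 := by
  rw [(show Commute s t from h).mul_pow, hs, ht, one_mul]

theorem T5_pow : ∀ t ∈ T5, t ^ (Fintype.card (ZMod 5) - 1) = 1 := by
  intro t ht
  rw [ZMod.card]
  let K : Subgroup L5 :=
    { carrier := {t | t ∈ T5 ∧ t ^ 4 = 1}
      one_mem' := ⟨one_mem _, one_pow _⟩
      mul_mem' := fun {s t} hs ht => ⟨mul_mem hs.1 ht.1, pow_four (T5_comm s hs.1 t ht.1) hs.2 ht.2⟩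
      inv_mem' := fun {t} ht => ⟨inv_mem ht.1, by rw [inv_pow, ht.2, inv_one]⟩ }
  have h1 : T5 ≤ K := by
    refine T5_le fun j t ht => ⟨h5_mem j ht, ?_⟩
    have h2 : ∀ m : ℕ, h5 j t ^ m = h5 j (t ^ m) := by
      intro m
      induction m with
      | zero => rw [pow_zero, pow_zero, h5_one]
      | succ m ih => rw [pow_succ, ih, h5_mul j (pow_ne_zero _ ht) ht, pow_succ]
    rw [h2]
    have h3 : t ^ (5 - 1) = 1 := ZMod.pow_card_sub_one_eq_one ht
    rw [show (4 : ℕ) = 5 - 1 from rfl, h3, h5_one]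
  exact (h1 ht).2

/-- **the fixed vectors of elements of order 313 in characteristic 5** -/
theorem fixes_own {φ χ' : Fin 6 → L5 → ZMod 5}
    (hφ : ∀ i (g : Zgrp (ZMod 5)), φ i (ad (ZMod 5) g) = ff g.1.1 (g⁻¹).1.1 i)
    (Hφ : ∀ i, HW (CoxeterMatrix.toCoxeterSystem CoxeterMatrix.E₆) e6T.isCartan T5 n5 X5 (φ i) (χ' i) {j | j ≠ i})
    (hχ : ∀ i j (t : ZMod 5), t ≠ 0 → χ' i (h5 j t) = if i = j then t else 1)
    (cert : ∃ s : Zgrp (ZMod 5), orderOf s = 313 ∧ ∀ a : Fin 6 → Fin 5, a ≠ 0 → ∃ g h : Zgrp (ZMod 5),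
      ∑ j ∈ Finset.range 313, ∏ i, ff (g * s ^ j * h).1.1 ((g * s ^ j * h)⁻¹).1.1 i ^ (a i : ℕ) ≠ 0) :
    Fixes.{0, v} L5 5 313 := by
  classical
  intro V _ _ _ ρ₀ hV
  let m5 : Module (ZMod 5) V := AddCommGroup.zmodModule hV
  let ρ : L5 →* Module.End (ZMod 5) V :=
    { toFun := fun g => (ρ₀ g).toZModLinearMap 5
      map_one' := by
        ext v
        show ρ₀ 1 v = v
        rw [map_one]; rfl
      map_mul' := fun a b => by
        ext v
        show ρ₀ (a * b) v = ρ₀ a (ρ₀ b v)
        rw [map_mul]; rfl }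
  have hρ : ∀ g v, ρ g v = ρ₀ g v := fun _ _ => rfl
  have hfinL : Finite L5 := inferInstance
  have : Finite (CoxeterMatrix.E₆).Group := finite_W e6T (CoxeterMatrix.toCoxeterSystem CoxeterMatrix.E₆)
  have R : RGD (CoxeterMatrix.toCoxeterSystem CoxeterMatrix.E₆) e6T.isCartan 5 T5 n5 X5 :=
    rgd (K := ZMod 5) e6T (CoxeterMatrix.toCoxeterSystem CoxeterMatrix.E₆) 5
  obtain ⟨v, ξ, χ, J, hv, H, hU, hn⟩ := curtis R rk5 (GG_top _) T5_comm T5_pow ρ
  obtain ⟨s, hs, hc⟩ := cert
  have hs1 : orderOf (ad (ZMod 5) s) = 313 := by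
    have : Fact (Nat.Prime 313) := ⟨by norm_num⟩
    refine orderOf_eq_prime (by rw [← map_pow, ← hs, pow_orderOf_eq_one, map_one]) ?_
    intro h1
    have h2 := Cfsg.Agent.H689.pow_eq_one_of_ker (MonoidHom.mem_ker.2 h1)
    have h3 := orderOf_dvd_of_pow_eq_one h2
    rw [hs, ZMod.card] at h3
    exact absurd (Nat.le_of_dvd (by norm_num) h3) (by norm_num)
  refine ⟨ad (ZMod 5) s, hs1, ?_⟩
  obtain ⟨a, hJ, hf⟩ := H.eq_prod Hφ hχ
  by_cases ha : a = 0
  · -- a fixed vector
    refine ⟨v, hv, ?_⟩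
    have hJu : ∀ i, i ∈ J := by
      intro i
      rw [hJ, ha]; rfl
    have hstab : ∀ g : L5, g ∈ stb ρ v := by
      intro g
      have hN : Subgroup.closure (Set.range n5) ≤ stb ρ v := by
        rw [Subgroup.closure_le]
        rintro _ ⟨i, rfl⟩
        exact hn i (hJu i)
      have h1 : Cfsg.Agent.Nodes.RGDLib.G1 (CoxeterMatrix.toCoxeterSystem CoxeterMatrix.E₆) e6T.isCartan X5 ≤ stb ρ v := by
        refine RGD.Sup_le ?_
        rintro _ ⟨w, i, rfl⟩
        obtain ⟨k, hk, hr⟩ := exists_rp_closure (cs := CoxeterMatrix.toCoxeterSystem CoxeterMatrix.E₆) (hN := R.nsys) w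
        rw [← R.conj_rp hr (isRoot_sr _ _ i)]
        intro u hu
        rw [mem_cj] at hu
        have h2 : k⁻¹ * u * k ∈ stb ρ v := hU _ (RGD.le_Sup (S := RGD.Pos _ _) ⟨isRoot_sr _ _ i, sr_nonneg i⟩ hu)
        have h3 : u = k * (k⁻¹ * u * k) * k⁻¹ := by group
        rw [h3]
        exact mul_mem (mul_mem (hN hk) h2) (inv_mem (hN hk))
      rw [G1_eq_top e6T (CoxeterMatrix.toCoxeterSystem CoxeterMatrix.E₆) (K := ZMod 5)] at h1
      exact h1 (Subgroup.mem_top g)
    exact hstab _
  · obtain ⟨g, h, hgh⟩ := hc a ha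
    set z : V := ∑ j ∈ Finset.range 313, ρ (ad (ZMod 5) s ^ j) (ρ (ad (ZMod 5) h) v) with hz
    refine ⟨z, ?_, ?_⟩
    · intro hz0
      apply hgh
      have h1 : ξ (ρ (ad (ZMod 5) g) z) = 0 := by rw [hz0, map_zero, map_zero]
      rw [hz, map_sum, map_sum] at h1
      rw [← h1]
      refine Finset.sum_congr rfl fun j _ => ?_
      rw [← mulv, ← mulv, ← map_pow, ← map_mul, ← map_mul]
      have h2 := congrFun hf (ad (ZMod 5) (g * s ^ j * h))
      rw [h2]
      exact Finset.prod_congr rfl fun i _ => by rw [hφ]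
    · show ρ (ad (ZMod 5) s) z = z
      rw [hz, map_sum]
      set F : ℕ → V := fun j => ρ (ad (ZMod 5) s ^ j) (ρ (ad (ZMod 5) h) v) with hF
      have h1 : ∀ j, ρ (ad (ZMod 5) s) (F j) = F (j + 1) := by
        intro j
        rw [hF]
        show ρ (ad (ZMod 5) s) (ρ (ad (ZMod 5) s ^ j) _) = ρ (ad (ZMod 5) s ^ (j + 1)) _
        rw [← mulv, ← pow_succ']
      have h2 : F 313 = F 0 := by
        rw [hF]
        show ρ (ad (ZMod 5) s ^ 313) _ = ρ (ad (ZMod 5) s ^ 0) _
        rw [← hs1, pow_orderOf_eq_one, pow_zero]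
      have h4 := Finset.sum_range_succ F 313
      rw [Finset.sum_range_succ', h2] at h4
      have h5 := add_right_cancel h4
      rw [← h5]
      exact Finset.sum_congr rfl fun j _ => h1 j

end Cfsg.Agent.H163.E65
end

-- part: H138/E65/Cert
section
/-!
# The certificate for `E₆(5)` in characteristic 5 (task CERT of S3650)

`cert` : an element `s` of order 313 such that for every exponent `a ≠ 0` some `g`, `h` satisfy
`∑_{j < 313} ∏_i f_i (g s^j h)^(a_i) ≠ 0`.
-/

set_option autoImplicit false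

namespace Cfsg.Agent.H138.E65

open Cfsg.Lie Cfsg.Agent.ChevalleyStructure.E6Min.Tables Cfsg.Agent.ChevalleyStructure.E6Min.Basic
open scoped Matrix

/-! ### words as group elements -/

/-- the group element of a word -/
def el (w : List (ℕ × ℕ)) : Zgrp F5 := (w.map fun l => (⟨zU l.1 (l.2 : F5), zU_mem _ _⟩ : Zgrp F5)).prod

/-- the inverse transpose of a word -/
def dual (w : List (ℕ × ℕ)) : List (ℕ × ℕ) := w.map fun l => (71 - l.1, 5 - l.2)

theorem el_cons (l : ℕ × ℕ) (w : List (ℕ × ℕ)) :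
    el (l :: w) = (⟨zU l.1 (l.2 : F5), zU_mem _ _⟩ : Zgrp F5) * el w := by
  rw [el, List.map_cons, List.prod_cons]; rfl

theorem Mw_cons (l : ℕ × ℕ) (w : List (ℕ × ℕ)) : Mw (l :: w) = zM l.1 (l.2 : F5) * Mw w := by
  rw [Mw, List.map_cons, List.prod_cons]; rfl

theorem el_mat {w : List (ℕ × ℕ)} (hw : okw w) : ((el w).1 : Matrix I27 I27 F5) = Mw w := by
  induction w with
  | nil => rfl
  | cons l w ih =>
    rw [el_cons, Mw_cons, ← ih (fun l hl => hw l (List.mem_cons_of_mem _ hl)), Subgroup.coe_mul, Units.val_mul,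
      coe_zU (hw l List.mem_cons_self)]

theorem Nm_transpose {r : ℕ} (hr : r < 72) : (Nm F5 (71 - r))ᵀ = Nm F5 r := by
  have hr' : 71 - r < 72 := by omega
  have hsg : ∀ {r : ℕ} (_ : r < 72) {x : I27}, sg r x ≠ 0 → sg (71 - r) (sr r x) = sg r x := by
    intro r hr x hx
    have h := (row_opp hr hx).2.1
    have h1 : sg r x = 1 ∨ sg r x = -1 := Int.isUnit_iff.1 (IsUnit.of_mul_eq_one _ h)
    rcases h1 with h1 | h1 <;> rw [h1] at h ⊢ <;> omega
  ext x y
  rw [Matrix.transpose_apply, Nm_apply, Nm_apply]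
  by_cases hx : sg r x = 0
  · by_cases hy : sg (71 - r) y = 0
    · rw [hx, hy]; simp
    · have h1 := row_opp hr' hy
      rw [opp_opp hr] at h1
      have hne : ¬ (x = sr (71 - r) y) := by
        rintro rfl
        have := h1.2.1
        rw [hx, mul_zero] at this
        exact absurd this (by norm_num)
      rw [if_neg hne, hx]
      simp
  · have h1 := row_opp hr hx
    by_cases hxy : y = sr r x
    · subst hxy
      rw [h1.1, if_pos rfl, if_pos rfl, hsg hr hx]
    · rw [if_neg hxy]
      by_cases hy : sg (71 - r) y = 0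
      · rw [hy]; simp
      · have h2 := row_opp hr' hy
        rw [opp_opp hr] at h2
        rw [if_neg]
        rintro rfl
        exact hxy h2.1.symm

theorem zM_transpose {r : ℕ} (hr : r < 72) (t : F5) : (zM (71 - r) t)ᵀ = zM r t := by
  rw [zM_def, zM_def, Matrix.transpose_add, Matrix.transpose_smul, Matrix.transpose_one, Nm_transpose hr]

theorem zU_inv {r : ℕ} (hr : r < 72) (t : F5) : (((zU r t)⁻¹ : GL I27 F5) : Matrix I27 I27 F5) = zM r (-t) := by
  unfold zU; rw [dif_pos hr]; rfl

/-- the second components are at most 5 -/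
def okw' (w : List (ℕ × ℕ)) : Prop := ∀ l ∈ w, l.1 < 72 ∧ l.2 ≤ 5

theorem okw'.ok {w : List (ℕ × ℕ)} (h : okw' w) : okw w := fun l hl => (h l hl).1

theorem okw'.dual {w : List (ℕ × ℕ)} (h : okw' w) : okw (dual w) := by
  intro l hl
  obtain ⟨m, hm, rfl⟩ := List.mem_map.1 hl
  have := (h m hm).1
  show 71 - m.1 < 72
  omega

theorem cast_sub5 {n : ℕ} (h : n ≤ 5) : ((5 - n : ℕ) : F5) = -(n : F5) := by
  rw [Nat.cast_sub h]
  have : ((5 : ℕ) : F5) = 0 := by decide
  rw [this, zero_sub]

theorem el_inv {w : List (ℕ × ℕ)} (hw : okw' w) : (((el w)⁻¹).1 : Matrix I27 I27 F5) = (Mw (dual w))ᵀ := by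
  induction w with
  | nil =>
    show ((1 : Zgrp F5)⁻¹.1 : Matrix I27 I27 F5) = (1 : Matrix I27 I27 F5)ᵀ
    rw [inv_one, Matrix.transpose_one]
    rfl
  | cons l w ih =>
    have h1 := hw l List.mem_cons_self
    have h2 : dual (l :: w) = (71 - l.1, 5 - l.2) :: dual w := rfl
    rw [el_cons, h2, Mw_cons, mul_inv_rev, Subgroup.coe_mul, Units.val_mul,
      ih (fun l hl => hw l (List.mem_cons_of_mem _ hl)), Matrix.transpose_mul]
    congr 1
    show (((zU l.1 (l.2 : F5))⁻¹ : GL I27 F5) : Matrix I27 I27 F5) = _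
    rw [zU_inv h1.1]
    show _ = (zM (71 - l.1) ((5 - l.2 : ℕ) : F5))ᵀ
    rw [cast_sub5 h1.2, zM_transpose h1.1]

/-! ### the order of `s` -/

/-- the power 313 of a packed matrix -/
def pow313 (A : ℕ) : ℕ :=
  force (mm A A) fun A2 => force (mm A2 A2) fun A4 => force (mm A4 A4) fun A8 => force (mm A8 A8) fun A16 =>
    force (mm A16 A16) fun A32 => force (mm A32 A32) fun A64 => force (mm A64 A64) fun A128 =>
      force (mm A128 A128) fun A256 => force (mm A8 A) fun x => force (mm A16 x) fun x => force (mm A32 x) fun x =>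
        mm A256 x

theorem mm_pow {M N : ℕ} {A : Matrix I27 I27 F5} {m n k : ℕ} (h1 : RpM 4 M (A ^ m)) (h2 : RpM 4 N (A ^ n))
    (hk : m + n = k) : RpM 4 (mm M N) (A ^ k) := by
  rw [← hk, pow_add]
  exact mm_rp h1 h2

theorem pow313_rp {M : ℕ} {A : Matrix I27 I27 F5} (h : RpM 4 M A) : RpM 4 (pow313 M) (A ^ 313) := by
  simp only [pow313, force_eq]
  have h1 : RpM 4 M (A ^ 1) := by rwa [pow_one]
  have h2 := mm_pow (k := 2) h1 h1 (by norm_num)
  have h4 := mm_pow (k := 4) h2 h2 (by norm_num)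
  have h8 := mm_pow (k := 8) h4 h4 (by norm_num)
  have h16 := mm_pow (k := 16) h8 h8 (by norm_num)
  have h32 := mm_pow (k := 32) h16 h16 (by norm_num)
  have h64 := mm_pow (k := 64) h32 h32 (by norm_num)
  have h128 := mm_pow (k := 128) h64 h64 (by norm_num)
  have h256 := mm_pow (k := 256) h128 h128 (by norm_num)
  exact mm_pow (k := 313) h256 (mm_pow (k := 57) h32 (mm_pow (k := 25) h16 (mm_pow (k := 9) h8 h1 (by norm_num))
    (by norm_num)) (by norm_num)) (by norm_num)

/-- the packed identity -/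
def idM : ℕ := sumN (fun x => Nat.mul (Nat.pow 65536 x) (Nat.pow cC x)) 27

theorem one_rp : RpM 4 idM 1 := by
  intro x hx
  have h1 : ∀ x < 27, Rp 4 (Nat.pow 65536 x) ((1 : Matrix I27 I27 F5) (dec x)) := by
    intro x hx
    refine ⟨fun k => if k = x then 1 else 0, fun k => by dsimp only; split_ifs <;> omega, ?_, ?_⟩
    · simp only [ite_mul, one_mul, zero_mul, Finset.sum_ite_eq', Finset.mem_range, hx, if_true]
      rfl
    · intro k hk
      rw [Matrix.one_apply]
      have h1 : (dec x = dec k) ↔ (k = x) := by rw [dec_eq_iff hx hk]; exact eq_comm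
      simp only [h1]
      split_ifs <;> simp
  have : row idM x = Nat.pow 65536 x :=
    row_sumN (f := fun x => Nat.pow 65536 x) (fun i hi => (h1 i hi).lt (by norm_num)) hx
  rw [this]
  exact h1 x hx

theorem c_s : Nat.beq (pwd sw) sM = true := by decide +kernel
theorem c_s' : Nat.beq (pwd (dual sw)) sM' = true := by decide +kernel
theorem c_h1 : Nat.beq (pwd hw1) hM1 = true := by decide +kernel
theorem c_h1' : Nat.beq (pwd (dual hw1)) hM1' = true := by decide +kernel
theorem c_h2 : Nat.beq (pwd hw2) hM2 = true := by decide +kernel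
theorem c_h2' : Nat.beq (pwd (dual hw2)) hM2' = true := by decide +kernel
theorem c_h3 : Nat.beq (pwd hw3) hM3 = true := by decide +kernel
theorem c_h3' : Nat.beq (pwd (dual hw3)) hM3' = true := by decide +kernel
theorem c_h4 : Nat.beq (pwd hw4) hM4 = true := by decide +kernel
theorem c_h4' : Nat.beq (pwd (dual hw4)) hM4' = true := by decide +kernel
theorem c_h5 : Nat.beq (pwd hw5) hM5 = true := by decide +kernel
theorem c_h5' : Nat.beq (pwd (dual hw5)) hM5' = true := by decide +kernel
theorem c_h6 : Nat.beq (pwd hw6) hM6 = true := by decide +kernel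
theorem c_h6' : Nat.beq (pwd (dual hw6)) hM6' = true := by decide +kernel
theorem c_9 : trajChk t9 sM (nrm (rw' gw (Nat.pow 65536 9))) = true := by decide +kernel
theorem c_12 : trajChk t12 sM (nrm (rw' gw (Nat.pow 65536 12))) = true := by decide +kernel
theorem c_15 : trajChk t15 sM (nrm (rw' gw (Nat.pow 65536 15))) = true := by decide +kernel
theorem c_18 : trajChk t18 sM' (nrm (rw' (dual gw) (Nat.pow 65536 18))) = true := by decide +kernel
theorem c_19 : trajChk t19 sM' (nrm (rw' (dual gw) (Nat.pow 65536 19))) = true := by decide +kernel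
theorem c_10 : trajChk t10 sM' (nrm (rw' (dual gw) (Nat.pow 65536 10))) = true := by decide +kernel
theorem c_pow : Nat.beq (pow313 sM) idM = true := by decide +kernel
theorem c_ne : Nat.beq (fld (row sM 0) 0) 0 = true := by decide +kernel

/-- the whole check -/
def allChk : Bool :=
  force (TT t9 t12 t15 t18 t19 t10 hM1 hM1') fun T1 => force (TT t9 t12 t15 t18 t19 t10 hM2 hM2') fun T2 =>
  force (TT t9 t12 t15 t18 t19 t10 hM3 hM3') fun T3 => force (TT t9 t12 t15 t18 t19 t10 hM4 hM4') fun T4 =>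
  force (TT t9 t12 t15 t18 t19 t10 hM5 hM5') fun T5 => force (TT t9 t12 t15 t18 t19 t10 hM6 hM6') fun T6 =>
  finChk T1 T2 T3 T4 T5 T6

/-! ### semantics of the check -/

/-- the six values at the time `j` -/
def vj (T9 T12 T15 T18 T19 T10 H H' j : ℕ) : Fin 6 → ℕ :=
  val (vm (row T9 j) H) (vm (row T12 j) H) (vm (row T15 j) H) (vm (row T18 j) H') (vm (row T19 j) H')
    (vm (row T10 j) H')

/-- the moments -/
def mom (v : ℕ → Fin 6 → ℕ) (k : ℕ) : ℕ :=
  ∑ j ∈ Finset.range 313, x6 (v j 0) (v j 1) (v j 2) (v j 3) (v j 4) (v j 5) k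

theorem TT_rp (T9 T12 T15 T18 T19 T10 H H' : ℕ) :
    Rp2 15625 (TT T9 T12 T15 T18 T19 T10 H H') (mom (vj T9 T12 T15 T18 T19 T10 H H')) := by
  have h : ∀ j, Rp2 15625 (force (row T9 j) fun a => force (row T12 j) fun b => force (row T15 j) fun c =>
      force (row T18 j) fun d => force (row T19 j) fun e => force (row T10 j) fun g => XX H H' a b c d e g)
      (x6 (vj T9 T12 T15 T18 T19 T10 H H' j 0) (vj T9 T12 T15 T18 T19 T10 H H' j 1)
        (vj T9 T12 T15 T18 T19 T10 H H' j 2) (vj T9 T12 T15 T18 T19 T10 H H' j 3)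
        (vj T9 T12 T15 T18 T19 T10 H H' j 4) (vj T9 T12 T15 T18 T19 T10 H H' j 5)) := by
    intro j
    simp only [XX, force_eq]
    exact ten6_rp _ _ _ _ _ _
  unfold Rp2 at h ⊢
  rw [TT, sumN_eq, Finset.sum_congr rfl fun j _ => h j, Finset.sum_comm]
  exact Finset.sum_congr rfl fun k _ => by rw [mom, Finset.sum_mul]

theorem mom_lt (v : ℕ → Fin 6 → ℕ) (k : ℕ) : mom v k < 2 ^ 24 := by
  have h : mom v k ≤ ∑ j ∈ Finset.range 313, 4096 := Finset.sum_le_sum fun j _ => x6_le _ _ _ _ _ _ k
  rw [Finset.sum_const, Finset.card_range, smul_eq_mul] at h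
  exact lt_of_le_of_lt h (by norm_num)

theorem nz_blk {T : ℕ} {x : ℕ → ℕ} (h : Rp2 15625 T x) (hx : ∀ k, x k < 2 ^ 24) {u l : ℕ} (hu : u < 125) (hl : l < 125)
    (hn : nz (blk T u) l = true) : x (125 * u + l) % 5 ≠ 0 := by
  have e1 : ∀ u, Nat.pow 2 (Nat.mul 3000 u) = ((2 ^ 24) ^ 125) ^ u := by
    intro u
    have h0 : Nat.mul 3000 u = 24 * (125 * u) := by
      show 3000 * u = _
      ring
    rw [Nat.pow_eq, h0, pow_mul, pow_mul]
  have e3 : Nat.pow 2 3000 = (2 ^ 24) ^ 125 := by
    have h0 : (3000 : ℕ) = 24 * 125 := by norm_num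
    rw [Nat.pow_eq, h0, pow_mul]
  have h1 : blk T u = ∑ l ∈ Finset.range 125, x (125 * u + l) * (2 ^ 24) ^ l := by
    have e2 : T = ∑ u ∈ Finset.range 125, (∑ l ∈ Finset.range 125, x (125 * u + l) * (2 ^ 24) ^ l) *
        ((2 ^ 24) ^ 125) ^ u := by
      have h' : T = ∑ k ∈ Finset.range (125 * 125), x k * (2 ^ 24) ^ k := h
      rw [h', sum_range_mul_aux]
      refine Finset.sum_congr rfl fun a _ => ?_
      rw [Finset.sum_mul]
      refine Finset.sum_congr rfl fun k _ => ?_
      rw [pow_add, pow_mul]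
      ring
    have e4 : blk T u = T / ((2 ^ 24) ^ 125) ^ u % (2 ^ 24) ^ 125 := by
      rw [← e1, ← e3, blk]
      have e6 : Nat.shiftRight T (Nat.mul 3000 u) = T / Nat.pow 2 (Nat.mul 3000 u) := Nat.shiftRight_eq_div_pow T _
      rw [e6]
      rfl
    rw [e4]
    nth_rewrite 1 [e2]
    exact dig (b := (2 ^ 24) ^ 125) (by positivity) u 125 _ (fun u => sum_lt _ (fun l => hx _) 125) hu
  have h2 : Nat.mod (Nat.shiftRight (blk T u) (Nat.mul 24 l)) (Nat.pow 2 24) = x (125 * u + l) := by
    have e5 : Nat.mod (Nat.shiftRight (blk T u) (Nat.mul 24 l)) (Nat.pow 2 24) = blk T u / (2 ^ 24) ^ l % 2 ^ 24 := by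
      show (blk T u >>> (24 * l)) % (2 ^ 24) = _
      rw [Nat.shiftRight_eq_div_pow, pow_mul]
    rw [e5, h1]
    exact dig (b := 2 ^ 24) (by norm_num) l 125 (fun l => x (125 * u + l)) (fun l => hx _) hl
  unfold nz at hn
  rw [h2, Bool.not_eq_true', ← Bool.not_eq_true] at hn
  intro h0
  exact hn (Nat.beq_eq ▸ h0)


theorem fin_spec {T1 T2 T3 T4 T5 T6 : ℕ} {x1 x2 x3 x4 x5 x6 : ℕ → ℕ} (h1 : Rp2 15625 T1 x1) (h2 : Rp2 15625 T2 x2)
    (h3 : Rp2 15625 T3 x3) (h4 : Rp2 15625 T4 x4) (h5 : Rp2 15625 T5 x5) (h6 : Rp2 15625 T6 x6)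
    (b1 : ∀ k, x1 k < 2 ^ 24) (b2 : ∀ k, x2 k < 2 ^ 24) (b3 : ∀ k, x3 k < 2 ^ 24) (b4 : ∀ k, x4 k < 2 ^ 24)
    (b5 : ∀ k, x5 k < 2 ^ 24) (b6 : ∀ k, x6 k < 2 ^ 24) (h : finChk T1 T2 T3 T4 T5 T6 = true) {k : ℕ} (hk : k < 15625)
    (hk0 : k ≠ 0) : x1 k % 5 ≠ 0 ∨ x2 k % 5 ≠ 0 ∨ x3 k % 5 ≠ 0 ∨ x4 k % 5 ≠ 0 ∨ x5 k % 5 ≠ 0 ∨ x6 k % 5 ≠ 0 := by
  have hu : k / 125 < 125 := by omega
  have hl : k % 125 < 125 := by omega
  have hk1 : 125 * (k / 125) + k % 125 = k := by omega
  have h0 := allLt_spec h _ hu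
  simp only [force_eq] at h0
  have h0 := allLt_spec h0 _ hl
  simp only [Bool.or_eq_true, Bool.and_eq_true] at h0
  rcases h0 with h0 | h0 | h0 | h0 | h0 | h0 | h0
  · have e1 := Nat.eq_of_beq_eq_true h0.1
    have e2 := Nat.eq_of_beq_eq_true h0.2
    omega
  · have := nz_blk h1 b1 hu hl h0
    rw [hk1] at this; exact Or.inl this
  · have := nz_blk h2 b2 hu hl h0
    rw [hk1] at this; exact Or.inr (Or.inl this)
  · have := nz_blk h3 b3 hu hl h0
    rw [hk1] at this; exact Or.inr (Or.inr (Or.inl this))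
  · have := nz_blk h4 b4 hu hl h0
    rw [hk1] at this; exact Or.inr (Or.inr (Or.inr (Or.inl this)))
  · have := nz_blk h5 b5 hu hl h0
    rw [hk1] at this; exact Or.inr (Or.inr (Or.inr (Or.inr (Or.inl this))))
  · have := nz_blk h6 b6 hu hl h0
    rw [hk1] at this; exact Or.inr (Or.inr (Or.inr (Or.inr (Or.inr this))))

/-! ### the theorem -/

theorem ok_s : okw' sw := by unfold okw'; decide
theorem ok_g : okw' gw := by unfold okw'; decide
theorem ok_1 : okw' hw1 := by unfold okw'; decide
theorem ok_2 : okw' hw2 := by unfold okw'; decide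
theorem ok_3 : okw' hw3 := by unfold okw'; decide
theorem ok_4 : okw' hw4 := by unfold okw'; decide
theorem ok_5 : okw' hw5 := by unfold okw'; decide
theorem ok_6 : okw' hw6 := by unfold okw'; decide

theorem rp_of {w : List (ℕ × ℕ)} (hw : okw w) {M : ℕ} (h : Nat.beq (pwd w) M = true) : RpM 4 M (Mw w) := by
  rw [← Nat.eq_of_beq_eq_true h]
  exact pwd_rp hw

theorem rp_s : RpM 4 sM (Mw sw) := rp_of ok_s.ok c_s
theorem rp_s' : RpM 4 sM' (Mw (dual sw)) := rp_of ok_s.dual c_s'

/-! ### the check, faster (helper21) -/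

/-- all the products `vm (row T j) H` at once -/
private noncomputable def bat (n T H : ℕ) : ℕ :=
  sumN (fun i => Nat.mul (Nat.land (Nat.shiftRight T (Nat.mul 16 i)) (Nat.mul 7 (Lib.PackMat.rep 432 n))) (row H i)) 27

private theorem cC_two : cC = 2 ^ 432 := by decide +kernel

private theorem bat_key (X j : ℕ) {i : ℕ} (hi : i < 27) :
    Lib.PackMat.dg 432 (X >>> (16 * i)) j &&& 7 = fld (row X j) i % 8 := by
  show ((X >>> (16 * i)) / 2 ^ (432 * j) % 2 ^ 432) &&& (2 ^ 3 - 1) = (((X >>> (432 * j)) % cC) >>> (16 * i)) % 2 ^ 16 % 2 ^ 3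
  rw [cC_two, Nat.and_two_pow_sub_one_eq_mod, ← Nat.shiftRight_eq_div_pow]
  refine Nat.eq_of_testBit_eq fun k => ?_
  simp only [Nat.testBit_mod_two_pow, Nat.testBit_shiftRight]
  by_cases h : k < 3
  · rw [decide_eq_true (show k < 432 by omega), decide_eq_true (show k < 16 by omega),
      decide_eq_true (show 16 * i + k < 432 by omega), Nat.add_left_comm]
    rfl
  · rw [decide_eq_false h]
    rfl

/-- a row -/
private noncomputable def rwF (P j : ℕ) : ℕ := Nat.land (Nat.shiftRight P (Nat.mul 432 j)) (Nat.sub (Nat.pow 2 432) 1)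

private theorem bat_row {n T H : ℕ} {φ : ℕ → I27 → F5} {B : Matrix I27 I27 F5} (hT : ∀ j < n, Rp 4 (row T j) (φ j))
    (hH : RpM 4 H B) {j : ℕ} (hj : j < n) : rwF (bat n T H) j = vm (row T j) H := by
  have e : bat n T H = Lib.PackMat.E 432 (fun j => vm (row T j) H) n := by
    rw [bat, sumN_eq, Lib.PackMat.E_def]
    have h1 : ∀ i ∈ Finset.range 27, Nat.mul (Nat.land (Nat.shiftRight T (Nat.mul 16 i))
        (Nat.mul 7 (Lib.PackMat.rep 432 n))) (row H i) =
        ∑ j ∈ Finset.range n, fld (row T j) i % 5 * row H i * 2 ^ (432 * j) := by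
      intro i hi
      have hi := Finset.mem_range.1 hi
      show ((T >>> (16 * i)) &&& (7 * Lib.PackMat.rep 432 n)) * row H i = _
      rw [Lib.PackMat.land_rep (by decide) (by decide +kernel), Lib.PackMat.E_def, Finset.sum_mul]
      refine Finset.sum_congr rfl fun j hj => ?_
      have h2 := ((hT j (Finset.mem_range.1 hj)).fld (by decide) hi).1
      rw [bat_key T j hi, Nat.mod_eq_of_lt (show fld (row T j) i < 8 by omega),
        Nat.mod_eq_of_lt (show fld (row T j) i < 5 by omega), Nat.mul_right_comm]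
    rw [Finset.sum_congr rfl h1, Finset.sum_comm]
    refine Finset.sum_congr rfl fun j _ => ?_
    rw [vm, sumN_eq, Finset.sum_mul]
    rfl
  have e2 : ∀ s P : ℕ, Nat.land (Nat.shiftRight P (Nat.mul s j)) (Nat.sub (Nat.pow 2 s) 1) = Lib.PackMat.dg s P j := fun s P => by
    show (P >>> (s * j)) &&& (2 ^ s - 1) = _
    rw [Nat.and_two_pow_sub_one_eq_mod, Nat.shiftRight_eq_div_pow, Lib.PackMat.dg_def]
  rw [rwF, e2, e]
  refine Lib.PackMat.dg_E (f := fun j => vm (row T j) H) (fun j hj => ?_) hj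
  rw [← cC_two]
  exact ((hT j hj).vm (by decide) hH).lt (by decide)

private noncomputable def tenF (s f X : ℕ) : ℕ :=
  Nat.add X (Nat.shiftLeft (Nat.add (Nat.mul (Nat.mod (Nat.pow f 1) 5) X) (Nat.shiftLeft
    (Nat.add (Nat.mul (Nat.mod (Nat.pow f 2) 5) X) (Nat.shiftLeft (Nat.add (Nat.mul (Nat.mod (Nat.pow f 3) 5) X)
      (Nat.shiftLeft (Nat.mul (Nat.mod (Nat.pow f 4) 5) X) s)) s)) s)) s)

private theorem ten_eq (m f X : ℕ) : ten m f X = tenF (Nat.mul 24 m) f X := by
  rw [ten, sumN_eq]
  simp only [Finset.sum_range_succ, Finset.sum_range_zero]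
  show 0 + 1 * X * (2 ^ 24) ^ (m * 0) + f ^ 1 % 5 * X * (2 ^ 24) ^ (m * 1) + f ^ 2 % 5 * X * (2 ^ 24) ^ (m * 2) +
    f ^ 3 % 5 * X * (2 ^ 24) ^ (m * 3) + f ^ 4 % 5 * X * (2 ^ 24) ^ (m * 4) =
    X + (f ^ 1 % 5 * X + (f ^ 2 % 5 * X + (f ^ 3 % 5 * X + (f ^ 4 % 5 * X) <<< (24 * m)) <<< (24 * m)) <<< (24 * m)) <<< (24 * m)
  simp only [Nat.shiftLeft_eq, pow_mul]
  generalize ((2 : ℕ) ^ 24) ^ m = q
  generalize f ^ 1 % 5 = a
  generalize f ^ 2 % 5 = b
  generalize f ^ 3 % 5 = c
  generalize f ^ 4 % 5 = d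
  ring

private noncomputable def sixF (a d : ℕ) : ℕ :=
  Nat.add (Nat.mul 4 (Nat.add (Nat.add (Nat.mul (fld a 9) (fld d 10)) (Nat.mul (fld a 12) (fld d 13))) (Nat.mul (fld a 15) (fld d 16))))
    (Nat.add (Nat.add (Nat.mul (fld a 21) (fld d 18)) (Nat.mul (fld a 22) (fld d 19))) (Nat.mul (fld a 23) (fld d 20)))

private theorem six_eq (a d : ℕ) :
    sumN (fun x => Nat.mul (s5 71 x) (Nat.mul (fld a x) (fld d (srN 71 x)))) 27 = sixF a d := by
  have h : ∀ x ∈ Finset.range 27, s5 71 x = (if x = 9 ∨ x = 12 ∨ x = 15 then 4 else if x = 21 ∨ x = 22 ∨ x = 23 then 1 else 0) ∧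
      srN 71 x = (if x = 9 ∨ x = 12 ∨ x = 15 then x + 1 else if x = 21 ∨ x = 22 ∨ x = 23 then x - 3 else 0) := by
    decide +kernel
  rw [sumN_eq, Finset.sum_congr rfl fun x hx => by rw [(h x hx).1, (h x hx).2]]
  unfold sixF
  generalize fld a = u
  generalize fld d = v
  simp only [Finset.sum_range_succ, Finset.sum_range_zero, Nat.mul_eq, Nat.add_eq]
  norm_num
  ring

private noncomputable def XF (a9 a12 a15 d18 d19 d10 : ℕ) : ℕ :=
  force (Nat.mod (fld d18 18) 5) fun f0 => force (Nat.mod (Nat.mul (sixF a9 d10) (s5 71 9)) 5) fun f1 =>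
  force (Nat.mod (Nat.add (Nat.mul (fld d18 18) (fld d19 19)) (Nat.mul 4 (Nat.mul (fld d19 18) (fld d18 19)))) 5) fun f2 =>
  force (Nat.mod (Nat.add (Nat.add
    (Nat.mul (fld a9 9) (Nat.add (Nat.mul (fld a12 12) (fld a15 15)) (Nat.mul 4 (Nat.mul (fld a12 15) (fld a15 12)))))
    (Nat.mul 4 (Nat.mul (fld a9 12)
      (Nat.add (Nat.mul (fld a12 9) (fld a15 15)) (Nat.mul 4 (Nat.mul (fld a12 15) (fld a15 9)))))))
    (Nat.mul (fld a9 15) (Nat.add (Nat.mul (fld a12 9) (fld a15 12)) (Nat.mul 4 (Nat.mul (fld a12 12) (fld a15 9)))))) 5) fun f3 =>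
  force (Nat.mod (Nat.add (Nat.mul (fld a9 9) (fld a12 12)) (Nat.mul 4 (Nat.mul (fld a9 12) (fld a12 9)))) 5) fun f4 =>
  force (Nat.mod (fld a9 9) 5) fun f5 =>
  tenF (Nat.mul 24 3125) f5 (tenF (Nat.mul 24 625) f4 (tenF (Nat.mul 24 125) f3 (tenF (Nat.mul 24 25) f2
    (tenF (Nat.mul 24 5) f1 (tenF (Nat.mul 24 1) f0 1)))))

private theorem XF_eq (H H' a b c d e g : ℕ) :
    XX H H' a b c d e g = XF (vm a H) (vm b H) (vm c H) (vm d H') (vm e H') (vm g H') := by
  have v : ∀ {α : Type} (k : ℕ → ℕ → ℕ → ℕ → ℕ → ℕ → α) (x0 x1 x2 x3 x4 x5 : ℕ), (fun u : Fin 6 → ℕ => k (u 0) (u 1) (u 2) (u 3) (u 4) (u 5))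
      ![x0, x1, x2, x3, x4, x5] = k x0 x1 x2 x3 x4 x5 := fun _ _ _ _ _ _ _ => rfl
  simp only [XX, XF, force_eq, ← ten_eq, ← six_eq]
  refine (v ten6 _ _ _ _ _ _).trans ?_
  simp only [ten6, force_eq]

private noncomputable def TF (n T9 T12 T15 T18 T19 T10 H H' : ℕ) : ℕ :=
  force (bat n T9 H) fun P9 => force (bat n T12 H) fun P12 => force (bat n T15 H) fun P15 =>
  force (bat n T18 H') fun P18 => force (bat n T19 H') fun P19 => force (bat n T10 H') fun P10 =>
  sumN (fun j => force (rwF P9 j) fun a => force (rwF P12 j) fun b => force (rwF P15 j) fun c =>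
    force (rwF P18 j) fun d => force (rwF P19 j) fun e => force (rwF P10 j) fun g => XF a b c d e g) n

private theorem TF_eq {T9 T12 T15 T18 T19 T10 H H' : ℕ} {φ1 φ2 φ3 φ4 φ5 φ6 : ℕ → I27 → F5} {B B' : Matrix I27 I27 F5}
    (h1 : ∀ j < 313, Rp 4 (row T9 j) (φ1 j)) (h2 : ∀ j < 313, Rp 4 (row T12 j) (φ2 j))
    (h3 : ∀ j < 313, Rp 4 (row T15 j) (φ3 j)) (h4 : ∀ j < 313, Rp 4 (row T18 j) (φ4 j))
    (h5 : ∀ j < 313, Rp 4 (row T19 j) (φ5 j)) (h6 : ∀ j < 313, Rp 4 (row T10 j) (φ6 j))
    (hH : RpM 4 H B) (hH' : RpM 4 H' B') : TT T9 T12 T15 T18 T19 T10 H H' = TF 313 T9 T12 T15 T18 T19 T10 H H' := by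
  simp only [TT, TF, force_eq]
  rw [sumN_eq, sumN_eq]
  refine Finset.sum_congr rfl fun j hj => ?_
  have hj := Finset.mem_range.1 hj
  rw [bat_row h1 hH hj, bat_row h2 hH hj, bat_row h3 hH hj, bat_row h4 hH' hj, bat_row h5 hH' hj, bat_row h6 hH' hj, XF_eq]

private theorem c_allF :
    (force (TF 313 t9 t12 t15 t18 t19 t10 hM1 hM1') fun T1 => force (TF 313 t9 t12 t15 t18 t19 t10 hM2 hM2') fun T2 =>
    force (TF 313 t9 t12 t15 t18 t19 t10 hM3 hM3') fun T3 => force (TF 313 t9 t12 t15 t18 t19 t10 hM4 hM4') fun T4 =>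
    force (TF 313 t9 t12 t15 t18 t19 t10 hM5 hM5') fun T5 => force (TF 313 t9 t12 t15 t18 t19 t10 hM6 hM6') fun T6 =>
    finChk T1 T2 T3 T4 T5 T6) = true := by decide +kernel

theorem c_all : allChk = true := by
  have h9 := traj (row_rp ok_g.ok (by norm_num)) rp_s c_9
  have h12 := traj (row_rp ok_g.ok (by norm_num)) rp_s c_12
  have h15 := traj (row_rp ok_g.ok (by norm_num)) rp_s c_15
  have h18 := traj (row_rp ok_g.dual (by norm_num)) rp_s' c_18
  have h19 := traj (row_rp ok_g.dual (by norm_num)) rp_s' c_19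
  have h10 := traj (row_rp ok_g.dual (by norm_num)) rp_s' c_10
  rw [allChk, TF_eq h9 h12 h15 h18 h19 h10 (rp_of ok_1.ok c_h1) (rp_of ok_1.dual c_h1'),
    TF_eq h9 h12 h15 h18 h19 h10 (rp_of ok_2.ok c_h2) (rp_of ok_2.dual c_h2'),
    TF_eq h9 h12 h15 h18 h19 h10 (rp_of ok_3.ok c_h3) (rp_of ok_3.dual c_h3'),
    TF_eq h9 h12 h15 h18 h19 h10 (rp_of ok_4.ok c_h4) (rp_of ok_4.dual c_h4'),
    TF_eq h9 h12 h15 h18 h19 h10 (rp_of ok_5.ok c_h5) (rp_of ok_5.dual c_h5'),
    TF_eq h9 h12 h15 h18 h19 h10 (rp_of ok_6.ok c_h6) (rp_of ok_6.dual c_h6')]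
  exact c_allF

theorem s_pow : el sw ^ 313 = 1 := by
  have h1 := pow313_rp rp_s
  rw [Nat.eq_of_beq_eq_true c_pow] at h1
  have h2 := ext_of_rp h1 one_rp
  apply Subtype.ext
  apply Units.ext
  rw [Subgroup.coe_pow, Units.val_pow_eq_pow_val, el_mat ok_s.ok, h2]
  rfl

theorem s_ne : el sw ≠ 1 := by
  intro h
  have h1 : Mw sw = 1 := by rw [← el_mat ok_s.ok, h]; rfl
  have h2 := ((rp_s 0 (by norm_num)).fld (by norm_num) (by norm_num : 0 < 27)).2
  rw [h1, Nat.eq_of_beq_eq_true c_ne, Matrix.one_apply_eq] at h2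
  exact absurd h2 (by decide)

theorem s_order : orderOf (el sw) = 313 := by
  have : Fact (Nat.Prime 313) := ⟨by norm_num⟩
  exact orderOf_eq_prime s_pow s_ne

/-- the matrix of `g s^j h` -/
theorem mat_gsh {h : List (ℕ × ℕ)} (hh : okw' h) (j : ℕ) :
    ((el gw * el sw ^ j * el h).1 : Matrix I27 I27 F5) = Mw gw * Mw sw ^ j * Mw h := by
  rw [Subgroup.coe_mul, Subgroup.coe_mul, Subgroup.coe_pow, Units.val_mul, Units.val_mul, Units.val_pow_eq_pow_val,
    el_mat ok_g.ok, el_mat ok_s.ok, el_mat hh.ok]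

theorem mat_inv {h : List (ℕ × ℕ)} (hh : okw' h) (j : ℕ) :
    (((el gw * el sw ^ j * el h)⁻¹).1 : Matrix I27 I27 F5) = (Mw (dual gw) * Mw (dual sw) ^ j * Mw (dual h))ᵀ := by
  rw [mul_inv_rev, mul_inv_rev, ← inv_pow, Subgroup.coe_mul, Subgroup.coe_mul, Subgroup.coe_pow, Units.val_mul,
    Units.val_mul, Units.val_pow_eq_pow_val, el_inv ok_g, el_inv ok_s, el_inv hh, Matrix.transpose_mul,
    Matrix.transpose_mul, Matrix.transpose_pow]

/-- a row of `g s^j h` -/
theorem row_gsh {T S v0 H : ℕ} {G A B : Matrix I27 I27 F5} {x : I27} (h0 : Rp 4 v0 (G x)) (hS : RpM 4 S A)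
    (hH : RpM 4 H B) (h : trajChk T S v0 = true) {j : ℕ} (hj : j < 313) :
    Rp (108 * 4) (vm (row T j) H) ((G * A ^ j * B) x) := by
  have h1 := (traj h0 hS h j hj).vm (by norm_num) hH
  have e : (G x ᵥ* A ^ j) ᵥ* B = (G * A ^ j * B) x := by
    funext y
    rfl
  rwa [e] at h1

theorem vals_eq {h : List (ℕ × ℕ)} (hh : okw' h) {H H' : ℕ} (h1 : RpM 4 H (Mw h)) (h2 : RpM 4 H' (Mw (dual h)))
    {j : ℕ} (hj : j < 313) (i : Fin 6) :
    ((vj t9 t12 t15 t18 t19 t10 H H' j i : ℕ) : F5) =
      H163.E65.ff ((el gw * el sw ^ j * el h).1 : Matrix I27 I27 F5)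
        (((el gw * el sw ^ j * el h)⁻¹).1 : Matrix I27 I27 F5) i := by
  rw [mat_gsh hh, mat_inv hh]
  exact val_cast (b := 108 * 4) (by norm_num) (row_gsh (row_rp ok_g.ok (by norm_num)) rp_s h1 c_9 hj)
    (row_gsh (row_rp ok_g.ok (by norm_num)) rp_s h1 c_12 hj) (row_gsh (row_rp ok_g.ok (by norm_num)) rp_s h1 c_15 hj)
    (row_gsh (row_rp ok_g.dual (by norm_num)) rp_s' h2 c_18 hj)
    (row_gsh (row_rp ok_g.dual (by norm_num)) rp_s' h2 c_19 hj)
    (row_gsh (row_rp ok_g.dual (by norm_num)) rp_s' h2 c_10 hj) i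

theorem mom_ne {h : List (ℕ × ℕ)} (hh : okw' h) {H H' : ℕ} (h1 : RpM 4 H (Mw h)) (h2 : RpM 4 H' (Mw (dual h)))
    {a : Fin 6 → Fin 5} (hm : mom (vj t9 t12 t15 t18 t19 t10 H H') (idx a) % 5 ≠ 0) :
    ∑ j ∈ Finset.range 313, ∏ i, H163.E65.ff ((el gw * el sw ^ j * el h).1 : Matrix I27 I27 F5)
        (((el gw * el sw ^ j * el h)⁻¹).1 : Matrix I27 I27 F5) i ^ (a i : ℕ) ≠ 0 := by
  have e : ((mom (vj t9 t12 t15 t18 t19 t10 H H') (idx a) : ℕ) : F5) =
      ∑ j ∈ Finset.range 313, ∏ i, H163.E65.ff ((el gw * el sw ^ j * el h).1 : Matrix I27 I27 F5)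
        (((el gw * el sw ^ j * el h)⁻¹).1 : Matrix I27 I27 F5) i ^ (a i : ℕ) := by
    rw [mom, Nat.cast_sum]
    refine Finset.sum_congr rfl fun j hj => ?_
    rw [x6_idx]
    exact Finset.prod_congr rfl fun i _ => by rw [vals_eq hh h1 h2 (Finset.mem_range.1 hj) i]
  rw [← e]
  intro h0
  rw [ZMod.natCast_eq_zero_iff] at h0
  exact hm (Nat.mod_eq_zero_of_dvd h0)

theorem cert_aux (a : Fin 6 → Fin 5) (ha : a ≠ 0) : ∃ g h : Zgrp F5,
    ∑ j ∈ Finset.range 313, ∏ i, H163.E65.ff (g * el sw ^ j * h).1.1 ((g * el sw ^ j * h)⁻¹).1.1 i ^ (a i : ℕ) ≠ 0 := by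
  have hc := c_all
  simp only [allChk, force_eq] at hc
  have h := fin_spec (TT_rp t9 t12 t15 t18 t19 t10 hM1 hM1') (TT_rp t9 t12 t15 t18 t19 t10 hM2 hM2')
    (TT_rp t9 t12 t15 t18 t19 t10 hM3 hM3') (TT_rp t9 t12 t15 t18 t19 t10 hM4 hM4')
    (TT_rp t9 t12 t15 t18 t19 t10 hM5 hM5') (TT_rp t9 t12 t15 t18 t19 t10 hM6 hM6')
    (mom_lt _) (mom_lt _) (mom_lt _) (mom_lt _) (mom_lt _) (mom_lt _) hc (idx_lt a) (idx_ne ha)
  rcases h with h | h | h | h | h | h
  · exact ⟨el gw, el hw1, mom_ne ok_1 (rp_of ok_1.ok c_h1) (rp_of ok_1.dual c_h1') h⟩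
  · exact ⟨el gw, el hw2, mom_ne ok_2 (rp_of ok_2.ok c_h2) (rp_of ok_2.dual c_h2') h⟩
  · exact ⟨el gw, el hw3, mom_ne ok_3 (rp_of ok_3.ok c_h3) (rp_of ok_3.dual c_h3') h⟩
  · exact ⟨el gw, el hw4, mom_ne ok_4 (rp_of ok_4.ok c_h4) (rp_of ok_4.dual c_h4') h⟩
  · exact ⟨el gw, el hw5, mom_ne ok_5 (rp_of ok_5.ok c_h5) (rp_of ok_5.dual c_h5') h⟩
  · exact ⟨el gw, el hw6, mom_ne ok_6 (rp_of ok_6.ok c_h6) (rp_of ok_6.dual c_h6') h⟩

/-- **Task CERT of S3650.** -/
theorem cert : ∃ s : Zgrp (ZMod 5), orderOf s = 313 ∧ ∀ a : Fin 6 → Fin 5, a ≠ 0 → ∃ g h : Zgrp (ZMod 5),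
    ∑ j ∈ Finset.range 313, ∏ i, H163.E65.ff (g * s ^ j * h).1.1 ((g * s ^ j * h)⁻¹).1.1 i ^ (a i : ℕ) ≠ 0 :=
  ⟨el sw, s_order, cert_aux⟩

end Cfsg.Agent.H138.E65
end

-- part: H163/E65/Own
section
/-!
# S3650, own characteristic: elements of order 313 have fixed vectors (helper163)
-/

set_option autoImplicit false

namespace Cfsg.Agent.H163.E65

universe v

/-- **own characteristic** -/
theorem fixes_313 : Fixes.{0, v} L5 5 313 := by
  obtain ⟨φ, χ, h1, h2, h3⟩ := Cfsg.Agent.H890.E65.exists_fund (CoxeterMatrix.toCoxeterSystem CoxeterMatrix.E₆)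
  exact fixes_own h1 h2 h3 Cfsg.Agent.H138.E65.cert

end Cfsg.Agent.H163.E65
end

private theorem dce_bb395a568776 : _root_.True := by
  try have : _root_.True := by simp only [_root_.Cfsg.Agent.H138.E65.el.eq_1]
  try have : _root_.True := by simp only [_root_.Cfsg.Agent.H138.E65.allChk.eq_1]
  try have : _root_.True := by simp only [_root_.Cfsg.Agent.H138.E65.blk.eq_1]
  try have : _root_.True := by simp only [_root_.Cfsg.Agent.H138.E65.mom.eq_1]
  try have : _root_.True := by simp only [_root_.Cfsg.Agent.H138.E65.pow313.eq_1]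
  try have : _root_.True := by simp only [_root_.Cfsg.Agent.H138.E65.TT.eq_1]
  try have : _root_.True := by simp only [_root_.Cfsg.Agent.H138.E65.XX.eq_1]
  try have : _root_.True := by simp only [_root_.Cfsg.Agent.H163.E65.kap.eq_1]
  exact _root_.True.intro
end

-- part: S3650
section
prune_inst 0x4f0106505556000000004001062001ee3bf0000220048080080a601040d89ac4280028060b8300118028208854030004811100000020000000a840c00011d018000800004a0080119420000000008010000300000000000000000000000000000014010000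
set_option linter.all false
open scoped Cfsg.Agent.FastGrp

-- part: H138/E65/Iso
section
/-!
# A family of isometries of the cubic form `T` (task SL3 of S3650)

For `v` in the group ring `K[C₃]` of norm 1 the map `(x, Y) ↦ (v⁻² x, v Y)` on `K[C₃] ⊕ sl₃(K)[C₃]` is an isometry of
`det a + det b + det c - tr (a b c)`.
-/

set_option autoImplicit false

namespace Cfsg.Agent.H138.E65

open Matrix

variable {K : Type*} [Field K]

/-- the cubic form -/
def T3 (a b c : Matrix (Fin 3) (Fin 3) K) : K := a.det + b.det + c.det - (a * b * c).trace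

theorem det_split (x : K) (A : Matrix (Fin 3) (Fin 3) K) (hA : A.trace = 0) :
    6 * (x • 1 + A).det = 6 * x ^ 3 - 3 * x * (A * A).trace + 2 * (A * A * A).trace := by
  have h : A 2 2 = - A 0 0 - A 1 1 := by
    rw [Matrix.trace_fin_three] at hA
    linear_combination hA
  rw [Matrix.det_fin_three, Matrix.trace_fin_three, Matrix.trace_fin_three]
  simp only [Matrix.mul_apply, Fin.sum_univ_three, Matrix.add_apply, Matrix.smul_apply, Matrix.one_apply, smul_eq_mul,
    h]
  simp only [Fin.isValue, if_true, show (0 : Fin 3) ≠ 1 by decide, show (0 : Fin 3) ≠ 2 by decide,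
    show (1 : Fin 3) ≠ 0 by decide, show (1 : Fin 3) ≠ 2 by decide, show (2 : Fin 3) ≠ 0 by decide,
    show (2 : Fin 3) ≠ 1 by decide, if_false, mul_one, mul_zero, zero_add]
  ring

theorem tr_split (x0 x1 x2 : K) (A B C : Matrix (Fin 3) (Fin 3) K) (hA : A.trace = 0) (hB : B.trace = 0)
    (hC : C.trace = 0) : ((x0 • 1 + A) * (x1 • 1 + B) * (x2 • 1 + C)).trace =
      3 * x0 * x1 * x2 + x0 * (B * C).trace + x1 * (A * C).trace + x2 * (A * B).trace + (A * B * C).trace := by
  simp only [add_mul, mul_add, smul_mul_assoc, mul_smul_comm, one_mul, mul_one, Matrix.trace_add, Matrix.trace_smul,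
    smul_eq_mul, hA, hB, hC, Matrix.trace_one, Fintype.card_fin, mul_zero, add_zero, zero_add]
  push_cast
  ring

/-- the cubic form in terms of the traces and the traceless parts -/
theorem T3_split (x0 x1 x2 : K) (A B C : Matrix (Fin 3) (Fin 3) K) (hA : A.trace = 0) (hB : B.trace = 0)
    (hC : C.trace = 0) : 6 * T3 (x0 • 1 + A) (x1 • 1 + B) (x2 • 1 + C) =
      6 * (x0 ^ 3 + x1 ^ 3 + x2 ^ 3 - 3 * x0 * x1 * x2) - 3 * (x0 * ((A * A).trace + 2 * (B * C).trace) +
        x1 * ((B * B).trace + 2 * (A * C).trace) + x2 * ((C * C).trace + 2 * (A * B).trace)) +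
      2 * ((A * A * A).trace + (B * B * B).trace + (C * C * C).trace - 3 * (A * B * C).trace) := by
  have h1 := det_split x0 A hA
  have h2 := det_split x1 B hB
  have h3 := det_split x2 C hC
  have h4 := tr_split x0 x1 x2 A B C hA hB hC
  unfold T3
  linear_combination h1 + h2 + h3 - 6 * h4

theorem cyc (P Q R : Matrix (Fin 3) (Fin 3) K) : (P * Q * R).trace = (R * P * Q).trace := Matrix.trace_mul_cycle P Q R

/-- the quadratic part -/
theorem quad (v0 v1 v2 : K) (A B C : Matrix (Fin 3) (Fin 3) K) :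
    ((v0 • A + v1 • C + v2 • B) * (v0 • A + v1 • C + v2 • B)).trace +
      2 * ((v0 • B + v1 • A + v2 • C) * (v0 • C + v1 • B + v2 • A)).trace =
    (v0 ^ 2 + 2 * v1 * v2) * ((A * A).trace + 2 * (B * C).trace) +
      (2 * v0 * v1 + v2 ^ 2) * ((B * B).trace + 2 * (A * C).trace) +
      (v1 ^ 2 + 2 * v0 * v2) * ((C * C).trace + 2 * (A * B).trace) := by
  simp only [add_mul, mul_add, smul_mul_assoc, mul_smul_comm, Matrix.trace_add, Matrix.trace_smul, smul_eq_mul]
  rw [Matrix.trace_mul_comm B A, Matrix.trace_mul_comm C A, Matrix.trace_mul_comm C B]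
  ring

/-- the cubic part -/
theorem cub (v0 v1 v2 : K) (A B C : Matrix (Fin 3) (Fin 3) K) :
    ((v0 • A + v1 • C + v2 • B) * (v0 • A + v1 • C + v2 • B) * (v0 • A + v1 • C + v2 • B)).trace +
      ((v0 • B + v1 • A + v2 • C) * (v0 • B + v1 • A + v2 • C) * (v0 • B + v1 • A + v2 • C)).trace +
      ((v0 • C + v1 • B + v2 • A) * (v0 • C + v1 • B + v2 • A) * (v0 • C + v1 • B + v2 • A)).trace -
      3 * ((v0 • A + v1 • C + v2 • B) * (v0 • B + v1 • A + v2 • C) * (v0 • C + v1 • B + v2 • A)).trace =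
    (v0 ^ 3 + v1 ^ 3 + v2 ^ 3 - 3 * v0 * v1 * v2) *
      ((A * A * A).trace + (B * B * B).trace + (C * C * C).trace - 3 * (A * B * C).trace) := by
  simp only [add_mul, mul_add, smul_mul_assoc, mul_smul_comm, Matrix.trace_add, Matrix.trace_smul, smul_eq_mul]
  have e1 : (A * B * A).trace = (A * A * B).trace := cyc A B A
  have e2 : (B * A * A).trace = (A * A * B).trace := (cyc B A A).trans (cyc A B A)
  have e3 : (A * C * A).trace = (A * A * C).trace := cyc A C A
  have e4 : (C * A * A).trace = (A * A * C).trace := (cyc C A A).trans (cyc A C A)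
  have e5 : (B * A * B).trace = (A * B * B).trace := (cyc A B B).symm ▸ rfl
  have e6 : (B * B * A).trace = (A * B * B).trace := cyc B B A
  have e7 : (B * C * B).trace = (B * B * C).trace := cyc B C B
  have e8 : (C * B * B).trace = (B * B * C).trace := (cyc C B B).trans (cyc B C B)
  have e9 : (C * A * C).trace = (A * C * C).trace := (cyc A C C).symm ▸ rfl
  have e10 : (C * C * A).trace = (A * C * C).trace := cyc C C A
  have e11 : (C * B * C).trace = (B * C * C).trace := (cyc B C C).symm ▸ rfl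
  have e12 : (C * C * B).trace = (B * C * C).trace := cyc C C B
  have e13 : (B * C * A).trace = (A * B * C).trace := cyc B C A
  have e14 : (C * A * B).trace = (A * B * C).trace := (cyc A B C).symm ▸ rfl
  have e15 : (C * B * A).trace = (A * C * B).trace := cyc C B A
  have e16 : (B * A * C).trace = (A * C * B).trace := (cyc A C B).symm ▸ rfl
  rw [e1, e2, e3, e4, e5, e6, e7, e8, e9, e10, e11, e12, e13, e14, e15, e16]
  ring

/-- **The isometry.** `v` of norm 1, `w = v⁻²` in the group ring of `C₃`: `(x, Y) ↦ (w x, v Y)` preserves the form. -/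
theorem T_rho (v0 v1 v2 w0 w1 w2 x0 x1 x2 : K) (A B C : Matrix (Fin 3) (Fin 3) K) (hA : A.trace = 0)
    (hB : B.trace = 0) (hC : C.trace = 0) (h6 : (6 : K) ≠ 0)
    (hv : v0 ^ 3 + v1 ^ 3 + v2 ^ 3 - 3 * v0 * v1 * v2 = 1) (hw : w0 ^ 3 + w1 ^ 3 + w2 ^ 3 - 3 * w0 * w1 * w2 = 1)
    (h0 : w0 * (v0 ^ 2 + 2 * v1 * v2) + w1 * (v1 ^ 2 + 2 * v0 * v2) + w2 * (2 * v0 * v1 + v2 ^ 2) = 1)
    (h1 : w0 * (2 * v0 * v1 + v2 ^ 2) + w1 * (v0 ^ 2 + 2 * v1 * v2) + w2 * (v1 ^ 2 + 2 * v0 * v2) = 0)
    (h2 : w0 * (v1 ^ 2 + 2 * v0 * v2) + w1 * (2 * v0 * v1 + v2 ^ 2) + w2 * (v0 ^ 2 + 2 * v1 * v2) = 0) :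
    T3 ((w0 * x0 + w1 * x2 + w2 * x1) • 1 + (v0 • A + v1 • C + v2 • B))
      ((w0 * x1 + w1 * x0 + w2 * x2) • 1 + (v0 • B + v1 • A + v2 • C))
      ((w0 * x2 + w1 * x1 + w2 * x0) • 1 + (v0 • C + v1 • B + v2 • A)) = T3 (x0 • 1 + A) (x1 • 1 + B) (x2 • 1 + C) := by
  have tA : (v0 • A + v1 • C + v2 • B).trace = 0 := by
    simp only [Matrix.trace_add, Matrix.trace_smul, hA, hB, hC, smul_zero, add_zero]
  have tB : (v0 • B + v1 • A + v2 • C).trace = 0 := by
    simp only [Matrix.trace_add, Matrix.trace_smul, hA, hB, hC, smul_zero, add_zero]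
  have tC : (v0 • C + v1 • B + v2 • A).trace = 0 := by
    simp only [Matrix.trace_add, Matrix.trace_smul, hA, hB, hC, smul_zero, add_zero]
  have H1 := T3_split (w0 * x0 + w1 * x2 + w2 * x1) (w0 * x1 + w1 * x0 + w2 * x2) (w0 * x2 + w1 * x1 + w2 * x0)
    _ _ _ tA tB tC
  have H2 := T3_split x0 x1 x2 A B C hA hB hC
  have Q0 := quad v0 v1 v2 A B C
  have Q1 := quad v0 v1 v2 B C A
  have Q2 := quad v0 v1 v2 C A B
  have Q3 := cub v0 v1 v2 A B C
  rw [Matrix.trace_mul_comm (v0 • C + v1 • B + v2 • A) (v0 • A + v1 • C + v2 • B), Matrix.trace_mul_comm C A,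
    Matrix.trace_mul_comm B A] at Q1
  rw [Matrix.trace_mul_comm C B] at Q2
  rw [Matrix.trace_mul_comm C A] at Q2
  apply mul_left_cancel₀ h6
  rw [H1, H2]
  linear_combination (-3) * (w0 * x0 + w1 * x2 + w2 * x1) * Q0 + (-3) * (w0 * x1 + w1 * x0 + w2 * x2) * Q1 +
    (-3) * (w0 * x2 + w1 * x1 + w2 * x0) * Q2 + 2 * Q3 +
    6 * (x0 ^ 3 + x1 ^ 3 + x2 ^ 3 - 3 * x0 * x1 * x2) * hw +
    2 * ((A * A * A).trace + (B * B * B).trace + (C * C * C).trace - 3 * (A * B * C).trace) * hv -
    3 * (x0 * ((A * A).trace + 2 * (B * C).trace) + x1 * ((B * B).trace + 2 * (A * C).trace) +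
      x2 * ((C * C).trace + 2 * (A * B).trace)) * h0 -
    3 * (x0 * ((B * B).trace + 2 * (A * C).trace) + x1 * ((C * C).trace + 2 * (A * B).trace) +
      x2 * ((A * A).trace + 2 * (B * C).trace)) * h1 -
    3 * (x0 * ((C * C).trace + 2 * (A * B).trace) + x1 * ((A * A).trace + 2 * (B * C).trace) +
      x2 * ((B * B).trace + 2 * (A * C).trace)) * h2

end Cfsg.Agent.H138.E65
end

-- part: H138/E65/SL3
section
/-!
# `SL₃(125)` in the isometry group of the cubic form over the field with 5 elements (task SL3 of S3650)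

`L (X) = v * (X, σX, σ²X)` (twisted, `v` in `K[C₃]` of norm 1 with `σ v = g v`) has coordinates in `ZMod 5` and
`T (L X) = det X + σ det X + σ² det X - tr (X σX σ²X)`, invariant under `X ↦ A X (σA)⁻¹`.
-/

set_option autoImplicit false

namespace Cfsg.Agent.H138.E65

open Matrix Cfsg.Lie Cfsg.Agent.H163.E65
open scoped MatrixGroups

universe u

/-- the data of the isometry -/
structure Dat (K : Type u) [Field K] where
  s : K →+* K
  cube : ∀ x, s (s (s x)) = x
  v0 : K
  v1 : K
  v2 : K
  hv0 : s v0 = v2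
  hv1 : s v1 = v0
  hv2 : s v2 = v1
  hN : v0 ^ 3 + v1 ^ 3 + v2 ^ 3 - 3 * v0 * v1 * v2 = 1
  h2 : (2 : K) ≠ 0
  h3 : (3 : K) ≠ 0

variable {K : Type u} [Field K]

/-- `1/3` of the trace -/
def tt (X : Matrix (Fin 3) (Fin 3) K) : K := 3⁻¹ * X.trace

/-- the traceless part -/
def yy (X : Matrix (Fin 3) (Fin 3) K) : Matrix (Fin 3) (Fin 3) K := X - tt X • 1

theorem tt_add (X Y : Matrix (Fin 3) (Fin 3) K) : tt (X + Y) = tt X + tt Y := by
  simp only [tt, Matrix.trace_add, mul_add]

theorem yy_add (X Y : Matrix (Fin 3) (Fin 3) K) : yy (X + Y) = yy X + yy Y := by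
  simp only [yy, tt_add, add_smul]
  abel

theorem yy_trace (h3 : (3 : K) ≠ 0) (X : Matrix (Fin 3) (Fin 3) K) : (yy X).trace = 0 := by
  simp only [yy, tt, Matrix.trace_sub, Matrix.trace_smul, Matrix.trace_one, Fintype.card_fin, smul_eq_mul]
  push_cast
  field_simp
  ring

theorem tt_yy (X : Matrix (Fin 3) (Fin 3) K) : tt X • 1 + yy X = X := by
  simp only [yy]
  abel

namespace Dat

variable (D : Dat K)

def u0 : K := D.v0 ^ 2 - D.v1 * D.v2
def u1 : K := D.v2 ^ 2 - D.v0 * D.v1
def u2 : K := D.v1 ^ 2 - D.v0 * D.v2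
def w0 : K := D.u0 ^ 2 + 2 * D.u1 * D.u2
def w1 : K := 2 * D.u0 * D.u1 + D.u2 ^ 2
def w2 : K := D.u1 ^ 2 + 2 * D.u0 * D.u2

theorem su0 : D.s D.u0 = D.u1 := by
  simp only [u0, u1, map_sub, map_mul, map_pow, D.hv0, D.hv1, D.hv2]

theorem su1 : D.s D.u1 = D.u2 := by
  simp only [u1, u2, map_sub, map_mul, map_pow, D.hv0, D.hv1, D.hv2]
  ring

theorem su2 : D.s D.u2 = D.u0 := by
  simp only [u0, u2, map_sub, map_mul, map_pow, D.hv0, D.hv1, D.hv2]
  ring

theorem sw0 : D.s D.w0 = D.w2 := by
  simp only [w0, w2, map_add, map_mul, map_pow, map_ofNat, D.su0, D.su1, D.su2]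
  ring

theorem sw1 : D.s D.w1 = D.w0 := by
  simp only [w0, w1, map_add, map_mul, map_pow, map_ofNat, D.su0, D.su1, D.su2]
  ring

theorem sw2 : D.s D.w2 = D.w1 := by
  simp only [w1, w2, map_add, map_mul, map_pow, map_ofNat, D.su0, D.su1, D.su2]
  ring

theorem H0 : D.w0 * (D.v0 ^ 2 + 2 * D.v1 * D.v2) + D.w1 * (D.v1 ^ 2 + 2 * D.v0 * D.v2) +
    D.w2 * (2 * D.v0 * D.v1 + D.v2 ^ 2) = 1 := by
  have h := D.hN
  have e : D.w0 * (D.v0 ^ 2 + 2 * D.v1 * D.v2) + D.w1 * (D.v1 ^ 2 + 2 * D.v0 * D.v2) +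
      D.w2 * (2 * D.v0 * D.v1 + D.v2 ^ 2) =
      (D.v0 ^ 3 + D.v1 ^ 3 + D.v2 ^ 3 - 3 * D.v0 * D.v1 * D.v2) ^ 2 := by
    simp only [w0, w1, w2, u0, u1, u2]
    ring
  rw [e, h, one_pow]

theorem H1 : D.w0 * (2 * D.v0 * D.v1 + D.v2 ^ 2) + D.w1 * (D.v0 ^ 2 + 2 * D.v1 * D.v2) +
    D.w2 * (D.v1 ^ 2 + 2 * D.v0 * D.v2) = 0 := by
  simp only [w0, w1, w2, u0, u1, u2]
  ring

theorem H2 : D.w0 * (D.v1 ^ 2 + 2 * D.v0 * D.v2) + D.w1 * (2 * D.v0 * D.v1 + D.v2 ^ 2) +
    D.w2 * (D.v0 ^ 2 + 2 * D.v1 * D.v2) = 0 := by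
  simp only [w0, w1, w2, u0, u1, u2]
  ring

theorem Hw : D.w0 ^ 3 + D.w1 ^ 3 + D.w2 ^ 3 - 3 * D.w0 * D.w1 * D.w2 = 1 := by
  have h := D.hN
  have e : D.w0 ^ 3 + D.w1 ^ 3 + D.w2 ^ 3 - 3 * D.w0 * D.w1 * D.w2 =
      (D.u0 ^ 3 + D.u1 ^ 3 + D.u2 ^ 3 - 3 * D.u0 * D.u1 * D.u2) ^ 2 := by
    simp only [w0, w1, w2]
    ring
  have e' : D.u0 ^ 3 + D.u1 ^ 3 + D.u2 ^ 3 - 3 * D.u0 * D.u1 * D.u2 =
      (D.v0 ^ 3 + D.v1 ^ 3 + D.v2 ^ 3 - 3 * D.v0 * D.v1 * D.v2) ^ 2 := by
    simp only [u0, u1, u2]
    ring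
  rw [e, e', h, one_pow, one_pow]

/-- the Frobenius map on matrices -/
abbrev m (X : Matrix (Fin 3) (Fin 3) K) : Matrix (Fin 3) (Fin 3) K := X.map D.s

/-- first matrix -/
def M0 (X : Matrix (Fin 3) (Fin 3) K) : Matrix (Fin 3) (Fin 3) K :=
  (D.w0 * tt X + D.w1 * D.s (D.s (tt X)) + D.w2 * D.s (tt X)) • 1 +
    (D.v0 • yy X + D.v1 • D.m (D.m (yy X)) + D.v2 • D.m (yy X))

/-- second matrix -/
def M1 (X : Matrix (Fin 3) (Fin 3) K) : Matrix (Fin 3) (Fin 3) K :=
  (D.w0 * D.s (tt X) + D.w1 * tt X + D.w2 * D.s (D.s (tt X))) • 1 +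
    (D.v0 • D.m (yy X) + D.v1 • yy X + D.v2 • D.m (D.m (yy X)))

/-- third matrix -/
def M2 (X : Matrix (Fin 3) (Fin 3) K) : Matrix (Fin 3) (Fin 3) K :=
  (D.w0 * D.s (D.s (tt X)) + D.w1 * D.s (tt X) + D.w2 * tt X) • 1 +
    (D.v0 • D.m (D.m (yy X)) + D.v1 • D.m (yy X) + D.v2 • yy X)

theorem m_add (X Y : Matrix (Fin 3) (Fin 3) K) : D.m (X + Y) = D.m X + D.m Y := by
  ext i j
  simp only [m, Matrix.map_apply, Matrix.add_apply, map_add]

theorem m_smul (c : K) (X : Matrix (Fin 3) (Fin 3) K) : D.m (c • X) = D.s c • D.m X := by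
  ext i j
  simp only [m, Matrix.map_apply, Matrix.smul_apply, smul_eq_mul, map_mul]

theorem m_one : D.m (1 : Matrix (Fin 3) (Fin 3) K) = 1 :=
  Matrix.map_one D.s (map_zero _) (map_one _)

theorem m_mul (X Y : Matrix (Fin 3) (Fin 3) K) : D.m (X * Y) = D.m X * D.m Y := Matrix.map_mul

theorem m_cube (X : Matrix (Fin 3) (Fin 3) K) : D.m (D.m (D.m X)) = X := by
  ext i j
  simp only [m, Matrix.map_apply, D.cube]

theorem m_trace (X : Matrix (Fin 3) (Fin 3) K) : (D.m X).trace = D.s X.trace := by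
  simp only [m, Matrix.trace, Matrix.diag_apply, Matrix.map_apply, map_sum]

theorem m_det (X : Matrix (Fin 3) (Fin 3) K) : (D.m X).det = D.s X.det := by
  simp only [m]
  exact (RingHom.map_det D.s X).symm

theorem M0_add (X Y : Matrix (Fin 3) (Fin 3) K) : D.M0 (X + Y) = D.M0 X + D.M0 Y := by
  simp only [M0, tt_add, yy_add, map_add, m_add, smul_add, mul_add, add_smul]
  abel

theorem M1_add (X Y : Matrix (Fin 3) (Fin 3) K) : D.M1 (X + Y) = D.M1 X + D.M1 Y := by
  simp only [M1, tt_add, yy_add, map_add, m_add, smul_add, mul_add, add_smul]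
  abel

theorem M2_add (X Y : Matrix (Fin 3) (Fin 3) K) : D.M2 (X + Y) = D.M2 X + D.M2 Y := by
  simp only [M2, tt_add, yy_add, map_add, m_add, smul_add, mul_add, add_smul]
  abel

theorem m_M0 (X : Matrix (Fin 3) (Fin 3) K) : D.m (D.M0 X) = D.M0 X := by
  simp only [M0, m_add, m_smul, m_one, m_cube, map_add, map_mul, D.cube, D.sw0, D.sw1, D.sw2, D.hv0, D.hv1, D.hv2]
  congr 1
  · congr 1
    ring
  · abel

theorem m_M1 (X : Matrix (Fin 3) (Fin 3) K) : D.m (D.M1 X) = D.M1 X := by
  simp only [M1, m_add, m_smul, m_one, m_cube, map_add, map_mul, D.cube, D.sw0, D.sw1, D.sw2, D.hv0, D.hv1, D.hv2]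
  congr 1
  · congr 1
    ring
  · abel

theorem m_M2 (X : Matrix (Fin 3) (Fin 3) K) : D.m (D.M2 X) = D.M2 X := by
  simp only [M2, m_add, m_smul, m_one, m_cube, map_add, map_mul, D.cube, D.sw0, D.sw1, D.sw2, D.hv0, D.hv1, D.hv2]
  congr 1
  · congr 1
    ring
  · abel

/-- the twisted form -/
def TX (X : Matrix (Fin 3) (Fin 3) K) : K :=
  X.det + D.s X.det + D.s (D.s X.det) - (X * D.m X * D.m (D.m X)).trace

theorem T3_M (X : Matrix (Fin 3) (Fin 3) K) : T3 (D.M0 X) (D.M1 X) (D.M2 X) = D.TX X := by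
  have t0 := yy_trace D.h3 X
  have t1 : (D.m (yy X)).trace = 0 := by rw [m_trace, t0, map_zero]
  have t2 : (D.m (D.m (yy X))).trace = 0 := by rw [m_trace, t1, map_zero]
  have h6 : (6 : K) ≠ 0 := by
    have : (6 : K) = 2 * 3 := by norm_num
    rw [this]
    exact mul_ne_zero D.h2 D.h3
  have h := T_rho D.v0 D.v1 D.v2 D.w0 D.w1 D.w2 (tt X) (D.s (tt X)) (D.s (D.s (tt X))) (yy X) (D.m (yy X))
    (D.m (D.m (yy X))) t0 t1 t2 h6 D.hN D.Hw D.H0 D.H1 D.H2
  have e0 : tt X • 1 + yy X = X := tt_yy X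
  have e1 : D.s (tt X) • 1 + D.m (yy X) = D.m X := by
    rw [← D.m_one, ← D.m_smul, ← D.m_add, e0]
  have e2 : D.s (D.s (tt X)) • 1 + D.m (D.m (yy X)) = D.m (D.m X) := by
    rw [← D.m_one, ← D.m_smul, ← D.m_add, e1]
  rw [e0, e1, e2] at h
  unfold M0 M1 M2
  rw [h, T3, TX, D.m_det, D.m_det, D.m_det]

/-- the twisted form is invariant under `X ↦ A X (σA)⁻¹` -/
theorem TX_act (A B X : Matrix (Fin 3) (Fin 3) K) (hA : A.det = 1) (hAB : A * B = 1) :
    D.TX (A * X * D.m B) = D.TX X := by
  have hBA : B * A = 1 := mul_eq_one_comm.mp hAB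
  have hB : B.det = 1 := by
    have h := congrArg Matrix.det hAB
    rw [Matrix.det_mul, hA, one_mul, Matrix.det_one] at h
    exact h
  have hd : (A * X * D.m B).det = X.det := by
    rw [Matrix.det_mul, Matrix.det_mul, D.m_det, hA, hB, map_one, one_mul, mul_one]
  have h1 : D.m B * D.m A = 1 := by rw [← D.m_mul, hBA, D.m_one]
  have h2 : D.m (D.m B) * D.m (D.m A) = 1 := by rw [← D.m_mul, h1, D.m_one]
  have h4 : A * X * D.m B * D.m (A * X * D.m B) * D.m (D.m (A * X * D.m B)) = A * (X * D.m X * D.m (D.m X)) * B := by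
    simp only [m_mul, m_cube]
    calc A * X * D.m B * (D.m A * D.m X * D.m (D.m B)) * (D.m (D.m A) * D.m (D.m X) * B) =
        A * X * (D.m B * D.m A) * D.m X * (D.m (D.m B) * D.m (D.m A)) * D.m (D.m X) * B := by
          simp only [mul_assoc]
      _ = _ := by
          rw [h1, h2]
          simp only [mul_assoc, mul_one]
  rw [TX, hd, h4, Matrix.trace_mul_comm, ← mul_assoc, hBA, one_mul, TX]

theorem M_inj (X : Matrix (Fin 3) (Fin 3) K) (h0 : D.M0 X = 0) (h1 : D.M1 X = 0) (h2 : D.M2 X = 0) : X = 0 := by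
  have t0 := yy_trace D.h3 X
  have t1 : (D.m (yy X)).trace = 0 := by rw [m_trace, t0, map_zero]
  have t2 : (D.m (D.m (yy X))).trace = 0 := by rw [m_trace, t1, map_zero]
  have key : ∀ c : K, c * 3 = 0 → c = 0 := fun c hc => (mul_eq_zero.mp hc).resolve_right D.h3
  have e0 : D.w0 * tt X + D.w1 * D.s (D.s (tt X)) + D.w2 * D.s (tt X) = 0 := by
    apply key
    have h := congrArg Matrix.trace h0
    rw [M0, Matrix.trace_add, Matrix.trace_add, Matrix.trace_add, Matrix.trace_smul, Matrix.trace_smul,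
      Matrix.trace_smul, Matrix.trace_smul, t0, t1, t2, Matrix.trace_one, Fintype.card_fin, Matrix.trace_zero] at h
    simpa only [_root_.mul_eq_zero, _root_.Nat.cast_ofNat, _root_.smul_eq_mul, _root_.MulZeroClass.mul_zero, _root_.add_zero] using h
  have e1 : D.w0 * D.s (tt X) + D.w1 * tt X + D.w2 * D.s (D.s (tt X)) = 0 := by
    apply key
    have h := congrArg Matrix.trace h1
    rw [M1, Matrix.trace_add, Matrix.trace_add, Matrix.trace_add, Matrix.trace_smul, Matrix.trace_smul,
      Matrix.trace_smul, Matrix.trace_smul, t0, t1, t2, Matrix.trace_one, Fintype.card_fin, Matrix.trace_zero] at h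
    simpa only [_root_.mul_eq_zero, _root_.Nat.cast_ofNat, _root_.smul_eq_mul, _root_.MulZeroClass.mul_zero, _root_.add_zero] using h
  have e2 : D.w0 * D.s (D.s (tt X)) + D.w1 * D.s (tt X) + D.w2 * tt X = 0 := by
    apply key
    have h := congrArg Matrix.trace h2
    rw [M2, Matrix.trace_add, Matrix.trace_add, Matrix.trace_add, Matrix.trace_smul, Matrix.trace_smul,
      Matrix.trace_smul, Matrix.trace_smul, t0, t1, t2, Matrix.trace_one, Fintype.card_fin, Matrix.trace_zero] at h
    simpa only [_root_.mul_eq_zero, _root_.Nat.cast_ofNat, _root_.smul_eq_mul, _root_.MulZeroClass.mul_zero, _root_.add_zero] using h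
  have et : tt X = 0 := by
    linear_combination (D.v0 ^ 2 + 2 * D.v1 * D.v2) * e0 + (D.v1 ^ 2 + 2 * D.v0 * D.v2) * e1 +
      (2 * D.v0 * D.v1 + D.v2 ^ 2) * e2 - tt X * D.H0 - D.s (D.s (tt X)) * D.H1 - D.s (tt X) * D.H2
  have ey : yy X = 0 := by
    ext i j
    have f0 := congrFun (congrFun h0 i) j
    have f1 := congrFun (congrFun h1 i) j
    have f2 := congrFun (congrFun h2 i) j
    simp only [M0, M1, M2, e0, e1, e2, zero_smul, zero_add, Matrix.add_apply, Matrix.smul_apply, smul_eq_mul,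
      Matrix.zero_apply, m, Matrix.map_apply] at f0 f1 f2
    rw [Matrix.zero_apply]
    have hN := D.hN
    linear_combination (D.v0 ^ 2 - D.v1 * D.v2) * f0 + (D.v1 ^ 2 - D.v0 * D.v2) * f1 +
      (D.v2 ^ 2 - D.v0 * D.v1) * f2 - yy X i j * hN
  rw [← tt_yy X, et, ey, zero_smul, add_zero]

/-- the 27 coordinates -/
def LK : Matrix (Fin 3) (Fin 3) K →+ (I27 → K) where
  toFun X p := (![D.M0 X, D.M1 X, D.M2 X] p.1) p.2.1 p.2.2
  map_zero' := by
    have h0 : D.M0 0 = 0 := by
      have h := D.M0_add 0 0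
      rw [add_zero] at h
      exact left_eq_add.mp h
    have h1 : D.M1 0 = 0 := by
      have h := D.M1_add 0 0
      rw [add_zero] at h
      exact left_eq_add.mp h
    have h2 : D.M2 0 = 0 := by
      have h := D.M2_add 0 0
      rw [add_zero] at h
      exact left_eq_add.mp h
    funext ⟨k, i, j⟩
    rw [h0, h1, h2]
    fin_cases k <;> rfl
  map_add' X Y := by
    funext ⟨k, i, j⟩
    rw [D.M0_add, D.M1_add, D.M2_add]
    fin_cases k <;> rfl

theorem LK_fix (X : Matrix (Fin 3) (Fin 3) K) (p : I27) : D.s (D.LK X p) = D.LK X p := by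
  obtain ⟨k, i, j⟩ := p
  fin_cases k
  · exact congrFun (congrFun (D.m_M0 X) i) j
  · exact congrFun (congrFun (D.m_M1 X) i) j
  · exact congrFun (congrFun (D.m_M2 X) i) j

theorem LK_inj (X : Matrix (Fin 3) (Fin 3) K) (h : D.LK X = 0) : X = 0 := by
  apply D.M_inj X
  · ext i j
    exact congrFun h (0, i, j)
  · ext i j
    exact congrFun h (1, i, j)
  · ext i j
    exact congrFun h (2, i, j)

end Dat

theorem T3_map {F : Type*} {K : Type*} [Field F] [Field K] (φ : F →+* K) (a b c : Matrix (Fin 3) (Fin 3) F) :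
    φ (T3 a b c) = T3 (a.map φ) (b.map φ) (c.map φ) := by
  have hd : ∀ x : Matrix (Fin 3) (Fin 3) F, φ x.det = (x.map φ).det := fun x => RingHom.map_det φ x
  have ht : ∀ x : Matrix (Fin 3) (Fin 3) F, φ x.trace = (x.map φ).trace := by
    intro x
    simp only [Matrix.trace, Matrix.diag_apply, Matrix.map_apply, map_sum]
  rw [T3, T3, map_sub, map_add, map_add, hd, hd, hd, ht, Matrix.map_mul, Matrix.map_mul]

section
variable (D : Dat K) [Algebra (ZMod 5) K]

theorem exists_L (hfix : ∀ x : K, D.s x = x → ∃ c : ZMod 5, algebraMap (ZMod 5) K c = x) :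
    ∃ L : Matrix (Fin 3) (Fin 3) K →ₗ[ZMod 5] (I27 → ZMod 5), ∀ X p, algebraMap (ZMod 5) K (L X p) = D.LK X p := by
  obtain ⟨r, hr⟩ := LinearMap.exists_leftInverse_of_injective (Algebra.linearMap (ZMod 5) K)
    (LinearMap.ker_eq_bot.mpr (algebraMap (ZMod 5) K).injective)
  let g : Matrix (Fin 3) (Fin 3) K →+ (I27 → ZMod 5) :=
    { toFun := fun X p => r (D.LK X p)
      map_zero' := by
        funext p
        simp only [map_zero, Pi.zero_apply]
      map_add' := fun X Y => by
        funext p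
        simp only [map_add, Pi.add_apply] }
  refine ⟨g.toZModLinearMap 5, fun X p => ?_⟩
  obtain ⟨c, hc⟩ := hfix _ (D.LK_fix X p)
  have h1 : r (algebraMap (ZMod 5) K c) = c := congrFun (congrArg DFunLike.coe hr) c
  change algebraMap (ZMod 5) K (r (D.LK X p)) = D.LK X p
  rw [← hc, h1]

theorem cubicT_L {L : Matrix (Fin 3) (Fin 3) K →ₗ[ZMod 5] (I27 → ZMod 5)}
    (hL : ∀ X p, algebraMap (ZMod 5) K (L X p) = D.LK X p) (X : Matrix (Fin 3) (Fin 3) K) :
    algebraMap (ZMod 5) K (cubicT (L X)) = D.TX X := by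
  have h0 : (mat3 (L X) 0).map (algebraMap (ZMod 5) K) = D.M0 X := by
    ext i j
    exact hL X (0, i, j)
  have h1 : (mat3 (L X) 1).map (algebraMap (ZMod 5) K) = D.M1 X := by
    ext i j
    exact hL X (1, i, j)
  have h2 : (mat3 (L X) 2).map (algebraMap (ZMod 5) K) = D.M2 X := by
    ext i j
    exact hL X (2, i, j)
  have h := T3_map (algebraMap (ZMod 5) K) (mat3 (L X) 0) (mat3 (L X) 1) (mat3 (L X) 2)
  rw [h0, h1, h2, D.T3_M] at h
  exact h

/-- the action `X ↦ A X (σA)⁻¹` -/
noncomputable def act (A : SL(3, K)) : Matrix (Fin 3) (Fin 3) K →ₗ[ZMod 5] Matrix (Fin 3) (Fin 3) K :=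
  AddMonoidHom.toZModLinearMap 5
    { toFun := fun X => (A : Matrix (Fin 3) (Fin 3) K) * X * D.m ((A⁻¹ : SL(3, K)) : Matrix (Fin 3) (Fin 3) K)
      map_zero' := by simp
      map_add' := fun X Y => by rw [mul_add, add_mul] }

theorem act_apply (A : SL(3, K)) (X : Matrix (Fin 3) (Fin 3) K) :
    act D A X = (A : Matrix (Fin 3) (Fin 3) K) * X * D.m ((A⁻¹ : SL(3, K)) : Matrix (Fin 3) (Fin 3) K) := rfl

theorem act_mul (A B : SL(3, K)) (X : Matrix (Fin 3) (Fin 3) K) : act D (A * B) X = act D A (act D B X) := by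
  rw [act_apply, act_apply, act_apply, _root_.mul_inv_rev, Matrix.SpecialLinearGroup.coe_mul,
    Matrix.SpecialLinearGroup.coe_mul, D.m_mul]
  simp only [mul_assoc]

theorem act_one (X : Matrix (Fin 3) (Fin 3) K) : act D 1 X = X := by
  rw [act_apply, inv_one, Matrix.SpecialLinearGroup.coe_one, D.m_one, one_mul, mul_one]

theorem exists_rep (hfix : ∀ x : K, D.s x = x → ∃ c : ZMod 5, algebraMap (ZMod 5) K c = x)
    (hdim : Module.finrank (ZMod 5) K = 3) (h5 : ∀ x : K, D.s x = x → x ^ 5 = x) :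
    ∃ f : SL(3, K) →* Q5, Function.Injective f := by
  obtain ⟨L0, hL0⟩ := exists_L D hfix
  have : Module.Finite (ZMod 5) K := Module.finite_of_finrank_pos (by rw [hdim]; norm_num)
  have hinj : Function.Injective L0 := by
    rw [injective_iff_map_eq_zero]
    intro X hX
    apply D.LK_inj X
    funext p
    rw [← hL0 X p, hX, Pi.zero_apply, map_zero, Pi.zero_apply]
  have hfr : Module.finrank (ZMod 5) (Matrix (Fin 3) (Fin 3) K) = Module.finrank (ZMod 5) (I27 → ZMod 5) := by
    rw [Module.finrank_matrix, Module.finrank_fintype_fun_eq_card, hdim]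
    simp
  let L := L0.linearEquivOfInjective hinj hfr
  have hL : ∀ X, L X = L0 X := fun X => rfl
  -- the representation
  let ρ : SL(3, K) →* Matrix I27 I27 (ZMod 5) :=
    { toFun := fun A => LinearMap.toMatrix' (L.toLinearMap ∘ₗ act D A ∘ₗ L.symm.toLinearMap)
      map_one' := by
        rw [← LinearMap.toMatrix'_id]
        congr 1
        apply LinearMap.ext
        intro v
        change L (act D 1 (L.symm v)) = v
        rw [act_one, LinearEquiv.apply_symm_apply]
      map_mul' := fun A B => by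
        rw [← LinearMap.toMatrix'_comp]
        congr 1
        apply LinearMap.ext
        intro v
        change L (act D (A * B) (L.symm v)) = L (act D A (L.symm (L (act D B (L.symm v)))))
        rw [LinearEquiv.symm_apply_apply, act_mul] }
  have hρ : ∀ A v, ρ A *ᵥ v = L (act D A (L.symm v)) := fun A v => LinearMap.toMatrix'_mulVec _ v
  have hmem : ∀ A, ρ.toHomUnits A ∈ E6univ (ZMod 5) := by
    intro A v
    change cubicT (ρ A *ᵥ v) = cubicT v
    rw [hρ]
    apply (algebraMap (ZMod 5) K).injective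
    obtain ⟨X, rfl⟩ := L.surjective v
    rw [LinearEquiv.symm_apply_apply, hL, hL, cubicT_L D hL0, cubicT_L D hL0, act_apply]
    apply D.TX_act _ _ _ A.det_coe
    rw [← Matrix.SpecialLinearGroup.coe_mul, mul_inv_cancel, Matrix.SpecialLinearGroup.coe_one]
  refine ⟨ρ.toHomUnits.codRestrict (E6univ (ZMod 5)) hmem, ?_⟩
  rw [injective_iff_map_eq_one]
  intro A hA
  have h1 : ρ A = 1 := congrArg (fun g : Q5 => ((g : GL I27 (ZMod 5)) : Matrix I27 I27 (ZMod 5))) hA
  have h2 : ∀ X, act D A X = X := by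
    intro X
    have h := hρ A (L X)
    rw [h1, Matrix.one_mulVec, LinearEquiv.symm_apply_apply] at h
    exact L.injective h.symm
  have h3 : ∀ X : Matrix (Fin 3) (Fin 3) K, (A : Matrix (Fin 3) (Fin 3) K) * X = X * D.m (A : Matrix (Fin 3) (Fin 3) K) := by
    intro X
    have h := congrArg (fun Z => Z * D.m (A : Matrix (Fin 3) (Fin 3) K)) (h2 X)
    simp only [act_apply] at h
    rw [mul_assoc, ← D.m_mul, ← Matrix.SpecialLinearGroup.coe_mul, inv_mul_cancel,
      Matrix.SpecialLinearGroup.coe_one, D.m_one, mul_one] at h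
    exact h
  have h4 : D.m (A : Matrix (Fin 3) (Fin 3) K) = A := by
    have h := h3 1
    rw [mul_one, one_mul] at h
    exact h.symm
  have hc : A ∈ Subgroup.center SL(3, K) := by
    rw [Subgroup.mem_center_iff]
    intro B
    apply Subtype.ext
    have h := h3 (B : Matrix (Fin 3) (Fin 3) K)
    rw [h4] at h
    rw [Matrix.SpecialLinearGroup.coe_mul, Matrix.SpecialLinearGroup.coe_mul]
    exact h.symm
  obtain ⟨r, hr3, hrA⟩ := Matrix.SpecialLinearGroup.mem_center_iff.mp hc
  rw [Fintype.card_fin] at hr3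
  have hrs : D.s r = r := by
    have h := congrFun (congrFun h4 0) 0
    rw [← hrA] at h
    simpa using h
  have hr5 := h5 r hrs
  have hr0 : r ≠ 0 := by
    rintro rfl
    norm_num at hr3
  have hr1 : r = 1 := by
    have h : r * (r ^ 3 * r - 1) = 0 := by
      linear_combination hr5
    have h' := (mul_eq_zero.mp h).resolve_left hr0
    rw [hr3, one_mul] at h'
    exact sub_eq_zero.mp h'
  apply Subtype.ext
  rw [← hrA, hr1]
  simp

end

theorem exists_v [Fintype K] (hK : Fintype.card K = 125) [CharP K 5] :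
    ∃ v0 v1 v2 : K, v0 ^ 5 = v2 ∧ v1 ^ 5 = v0 ∧ v2 ^ 5 = v1 ∧
      v0 ^ 3 + v1 ^ 3 + v2 ^ 3 - 3 * v0 * v1 * v2 = 1 := by
  have hpow : ∀ x : K, x ^ 125 = x := fun x => by
    rw [← hK]
    exact FiniteField.pow_card x
  obtain ⟨θ, hθ⟩ : ∃ θ : K, θ ^ 3 + θ ^ 15 + θ ^ 75 - 3 * θ ^ 31 ≠ 0 := by
    have hdeg : (Polynomial.X ^ 3 + Polynomial.X ^ 15 + Polynomial.X ^ 75 - 3 * Polynomial.X ^ 31 :
        Polynomial K).natDegree = 75 := by
      compute_degree!
    have hne : (Polynomial.X ^ 3 + Polynomial.X ^ 15 + Polynomial.X ^ 75 - 3 * Polynomial.X ^ 31 :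
        Polynomial K) ≠ 0 := by
      intro h
      rw [h, Polynomial.natDegree_zero] at hdeg
      norm_num at hdeg
    obtain ⟨θ, h⟩ := Polynomial.exists_eval_ne_zero_of_natDegree_lt_card _ hne (by
      rw [hdeg, Cardinal.mk_fintype, hK]
      norm_num)
    refine ⟨θ, ?_⟩
    simpa only [_root_.ne_eq, _root_.Polynomial.eval_sub, _root_.Polynomial.eval_add, _root_.Polynomial.eval_pow, _root_.Polynomial.eval_X, _root_.Polynomial.eval_mul, _root_.Polynomial.eval_ofNat] using h
  have h5 : (5 : K) = 0 := by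
    have := CharP.cast_eq_zero K 5
    exact_mod_cast this
  set n : K := θ ^ 3 + θ ^ 15 + θ ^ 75 - 3 * θ ^ 31 with hn
  have hn5 : n ^ 5 = n := by
    have h1 : n ^ 5 = θ ^ 15 + θ ^ 75 + θ ^ 375 - 3 ^ 5 * θ ^ 155 := by
      rw [hn, sub_pow_char, add_pow_char, add_pow_char, mul_pow]
      ring
    have h2 : θ ^ 375 = θ ^ 3 := by
      rw [show 375 = 125 * 3 from rfl, pow_mul, hpow]
    have h3 : θ ^ 155 = θ ^ 31 := by
      rw [show 155 = 125 + 30 from rfl, pow_add, hpow]
      ring
    rw [h1, h2, h3, hn]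
    linear_combination (-48) * θ ^ 31 * h5
  have hn4 : n ^ 4 = 1 := by
    apply mul_left_cancel₀ hθ
    rw [← pow_succ', hn5, mul_one]
  refine ⟨n * θ, n * θ ^ 25, n * θ ^ 5, ?_, ?_, ?_, ?_⟩
  · rw [mul_pow, hn5]
  · rw [mul_pow, hn5, ← pow_mul, hpow]
  · rw [mul_pow, hn5, ← pow_mul]
  · have : (n * θ) ^ 3 + (n * θ ^ 25) ^ 3 + (n * θ ^ 5) ^ 3 - 3 * (n * θ) * (n * θ ^ 25) * (n * θ ^ 5) =
        n ^ 3 * (θ ^ 3 + θ ^ 15 + θ ^ 75 - 3 * θ ^ 31) := by ring
    rw [this, ← hn, ← pow_succ, hn4]

/-- **Task SL3 of S3650.** -/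
theorem exists_sl3 {K : Type u} [Field K] [Fintype K] (hK : Fintype.card K = 125) :
    ∃ f : SL(3, K) →* Q5, Function.Injective f := by
  have : CharP K 5 := charP_of_card_eq_prime_pow (p := 5) (f := 3) (by rw [hK]; norm_num)
  let _ : Algebra (ZMod 5) K := ZMod.algebra K 5
  obtain ⟨v0, v1, v2, h0, h1, h2, hN⟩ := exists_v hK
  have hpow : ∀ x : K, x ^ 125 = x := fun x => by
    rw [← hK]
    exact FiniteField.pow_card x
  have hne : ∀ m : ℕ, ¬ 5 ∣ m → (m : K) ≠ 0 := fun m hm h => hm ((CharP.cast_eq_zero_iff K 5 m).mp h)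
  let D : Dat K :=
    { s := frobenius K 5
      cube := fun x => by
        rw [frobenius_def, frobenius_def, frobenius_def, ← pow_mul, ← pow_mul]
        exact hpow x
      v0 := v0
      v1 := v1
      v2 := v2
      hv0 := h0
      hv1 := h1
      hv2 := h2
      hN := hN
      h2 := by exact_mod_cast hne 2 (by norm_num)
      h3 := by exact_mod_cast hne 3 (by norm_num) }
  apply exists_rep D
  · intro x hx
    have h : x ^ 5 = x := hx
    rw [← Subfield.mem_bot_iff_pow_eq_self K 5, ← ZMod.fieldRange_castHom_eq_bot 5] at h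
    obtain ⟨c, hc⟩ := h
    exact ⟨c, hc⟩
  · have h := Module.card_eq_pow_finrank (K := ZMod 5) (V := K)
    rw [hK, ZMod.card] at h
    have h' : (5 : ℕ) ^ 3 = 5 ^ Module.finrank (ZMod 5) K := by rw [← h]; norm_num
    exact (Nat.pow_right_injective (le_refl 5 |>.trans' (by norm_num)) h').symm
  · intro x hx
    exact hx

end Cfsg.Agent.H138.E65
end

-- part: S3650
section
set_option autoImplicit false
open Cfsg

namespace Cfsg.Agent.S3650

/-- Let F be the field with 5 elements and E the Chevalley group of type E₆ over F. A finite group with the same prime graph as E (same prime divisors of the order, and for distinct primes r, s an element of order rs in one iff in the other) is isomorphic to E. -/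
theorem result {F : Type*} [Field F] [Fintype F] (hF : Fintype.card F = 5) {G : Type*} [Group G] [Finite G]
    (h : ((∀ r : ℕ, r.Prime → (r ∣ Nat.card ↥(Cfsg.Lie.chevE6.group F) ↔ r ∣ Nat.card G)) ∧
      (∀ r s : ℕ, r.Prime → s.Prime → r ≠ s → ((∃ x : ↥(Cfsg.Lie.chevE6.group F), orderOf x = r * s) ↔ (∃ y : G, orderOf y = r * s))))) : Nonempty (G ≃* ↥(Cfsg.Lie.chevE6.group F)) := by
  have hft : Fintype (GaloisField 5 3) := Fintype.ofFinite _
  have hK : Fintype.card (GaloisField 5 3) = 125 := by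
    rw [← Nat.card_eq_fintype_card, GaloisField.card 5 3 (by norm_num)]
    norm_num
  exact Cfsg.Agent.H163.E65.main (Cfsg.Agent.H138.E65.exists_sl3 hK) Cfsg.Agent.H163.E65.fixes_313 hF h

end Cfsg.Agent.S3650
end

private theorem dce_270e77c8dce5 : _root_.True := by
  try have : _root_.True := by simp only [_root_.Cfsg.Agent.H138.E65.Dat.M2.eq_1]
  try have : _root_.True := by simp only [_root_.Cfsg.Agent.H138.E65.Dat.w0.eq_1]
  try have : _root_.True := by simp only [_root_.Cfsg.Agent.H138.E65.Dat.M1.eq_1]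
  try have : _root_.True := by simp only [_root_.Cfsg.Agent.H138.E65.Dat.u0.eq_1]
  try have : _root_.True := by simp only [_root_.Cfsg.Agent.H138.E65.Dat.TX.eq_1]
  try have : _root_.True := by simp only [_root_.Cfsg.Agent.H138.E65.Dat.u1.eq_1]
  try have : _root_.True := by simp only [_root_.Cfsg.Agent.H138.E65.Dat.M0.eq_1]
  try have : _root_.True := by simp only [_root_.Cfsg.Agent.H138.E65.T3.eq_1]
  try have : _root_.True := by simp only [_root_.Cfsg.Agent.H138.E65.Dat.w1.eq_1]
  try have : _root_.True := by simp only [_root_.Cfsg.Agent.H138.E65.Dat.w2.eq_1]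
  try have : _root_.True := by simp only [_root_.Cfsg.Agent.H138.E65.Dat.u2.eq_1]
  try have : _root_.True := by simp only [_root_.Cfsg.Agent.H138.E65.yy.eq_1]
  try have : _root_.True := by simp only [_root_.Cfsg.Agent.H138.E65.tt.eq_1]
  exact _root_.True.intro
end
end
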