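import Mathlib
import Cfsg.Agent.H421.AutL
import Cfsg.Agent.H421.Rows
import Cfsg.Agent.H421.Six
import Cfsg.Agent.S0243
import Cfsg.Agent.S2468
import Cfsg.Agent.S2470
import Cfsg.Statements.S3659
import Cfsg.Agent.Lib.FinFast
import Cfsg.Agent.Prune
set_option linter.all false
prune_inst 0x7f00000000000000000000000000000000000000000000000000000000000000000000000000000000000000000000000000000000000000000000000000000000000000000000000000000000000000003fffffffffffffffffffffffffffbeffbdffffffff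
open scoped Cfsg.Agent.FastGrp

-- part: H421/Blk
section
/-!
# Affine matrices (helper421)

`blk v B = [[1, 0], [v, B]]`, multiplication and determinant.
-/

set_option autoImplicit false

namespace Cfsg.Agent.H421.Blk

open Matrix

variable {R : Type*} [CommRing R] {n : ℕ}

/-- the matrix `[[1, 0], [v, B]]` -/
def blk (v : Fin n → R) (B : Matrix (Fin n) (Fin n) R) : Matrix (Fin (n + 1)) (Fin (n + 1)) R :=
  Matrix.of fun i j => Fin.cases (motive := fun _ => R) (Fin.cases (motive := fun _ => R) 1 (fun _ => 0) j)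
    (fun i' => Fin.cases (motive := fun _ => R) (v i') (fun j' => B i' j') j) i

@[simp] theorem blk_zero_zero (v : Fin n → R) (B : Matrix (Fin n) (Fin n) R) : blk v B 0 0 = 1 := rfl
@[simp] theorem blk_zero_succ (v : Fin n → R) (B : Matrix (Fin n) (Fin n) R) (j : Fin n) : blk v B 0 j.succ = 0 := rfl
@[simp] theorem blk_succ_zero (v : Fin n → R) (B : Matrix (Fin n) (Fin n) R) (i : Fin n) : blk v B i.succ 0 = v i := rfl
@[simp] theorem blk_succ_succ (v : Fin n → R) (B : Matrix (Fin n) (Fin n) R) (i j : Fin n) :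
    blk v B i.succ j.succ = B i j := rfl

theorem blk_mul (v w : Fin n → R) (B C : Matrix (Fin n) (Fin n) R) :
    blk v B * blk w C = blk (v + B *ᵥ w) (B * C) := by
  ext i j
  refine Fin.cases ?_ (fun i => ?_) i <;> refine Fin.cases ?_ (fun j => ?_) j
  · rw [Matrix.mul_apply, Fin.sum_univ_succ]
    simp only [_root_.Cfsg.Agent.H421.Blk.blk_zero_zero, _root_.mul_one, _root_.Cfsg.Agent.H421.Blk.blk_zero_succ, _root_.Cfsg.Agent.H421.Blk.blk_succ_zero, _root_.MulZeroClass.zero_mul, _root_.Finset.sum_const_zero, _root_.add_zero]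
  · rw [Matrix.mul_apply, Fin.sum_univ_succ]
    simp only [_root_.Cfsg.Agent.H421.Blk.blk_zero_zero, _root_.Cfsg.Agent.H421.Blk.blk_zero_succ, _root_.MulZeroClass.mul_zero, _root_.Cfsg.Agent.H421.Blk.blk_succ_succ, _root_.MulZeroClass.zero_mul, _root_.Finset.sum_const_zero, _root_.add_zero]
  · rw [Matrix.mul_apply, Fin.sum_univ_succ]
    simp only [Matrix.mulVec, dotProduct, _root_.Cfsg.Agent.H421.Blk.blk_succ_zero, _root_.Cfsg.Agent.H421.Blk.blk_zero_zero, _root_.mul_one, _root_.Cfsg.Agent.H421.Blk.blk_succ_succ, _root_.Pi.add_apply]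
  · rw [Matrix.mul_apply, Fin.sum_univ_succ]
    simp only [Matrix.mul_apply, _root_.Cfsg.Agent.H421.Blk.blk_succ_zero, _root_.Cfsg.Agent.H421.Blk.blk_zero_succ, _root_.MulZeroClass.mul_zero, _root_.Cfsg.Agent.H421.Blk.blk_succ_succ, _root_.zero_add]

theorem blk_one : blk (0 : Fin n → R) (1 : Matrix (Fin n) (Fin n) R) = 1 := by
  ext i j
  refine Fin.cases ?_ (fun i => ?_) i <;> refine Fin.cases ?_ (fun j => ?_) j
  · simp
  · rw [blk_zero_succ, Matrix.one_apply_ne]
    exact (Fin.succ_ne_zero j).symm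
  · rw [blk_succ_zero, Matrix.one_apply_ne]
    · rfl
    · exact Fin.succ_ne_zero i
  · rw [blk_succ_succ, Matrix.one_apply, Matrix.one_apply]
    simp

theorem blk_pow (B : Matrix (Fin n) (Fin n) R) (k : ℕ) : blk 0 B ^ k = blk 0 (B ^ k) := by
  induction k with
  | zero => rw [pow_zero, pow_zero, blk_one]
  | succ k ih => rw [pow_succ, ih, blk_mul, pow_succ]; simp

theorem blk_inj {v w : Fin n → R} {B C : Matrix (Fin n) (Fin n) R} (h : blk v B = blk w C) : v = w ∧ B = C := by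
  constructor
  · ext i
    have := congrFun (congrFun h i.succ) 0
    simpa using this
  · ext i j
    have := congrFun (congrFun h i.succ) j.succ
    simpa using this

theorem det_blk (v : Fin n → R) (B : Matrix (Fin n) (Fin n) R) : (blk v B).det = B.det := by
  rw [Matrix.det_succ_row_zero, Fin.sum_univ_succ]
  simp only [blk_zero_zero, blk_zero_succ]
  have h : (blk v B).submatrix Fin.succ (Fin.succAbove 0) = B := by
    ext i j
    rw [Matrix.submatrix_apply, Fin.succAbove_zero, blk_succ_succ]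
  rw [h]
  simp only [_root_.Nat.succ_eq_add_one, _root_.Fin.coe_ofNat_eq_mod, _root_.Nat.zero_mod, _root_.pow_zero, _root_.mul_one, _root_.one_mul, _root_.Fin.val_succ, _root_.MulZeroClass.mul_zero, _root_.MulZeroClass.zero_mul, _root_.Finset.sum_const_zero, _root_.add_zero]

/-- the affine element of `SL` -/
def slBlk (v : Fin n → R) (B : Matrix.SpecialLinearGroup (Fin n) R) : Matrix.SpecialLinearGroup (Fin (n + 1)) R :=
  ⟨blk v B.1, by rw [det_blk, B.2]⟩

theorem slBlk_mul (v w : Fin n → R) (B C : Matrix.SpecialLinearGroup (Fin n) R) :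
    slBlk v B * slBlk w C = slBlk (v + B.1 *ᵥ w) (B * C) :=
  Subtype.ext (by
    rw [Matrix.SpecialLinearGroup.coe_mul]
    exact blk_mul _ _ _ _)

theorem slBlk_one : slBlk (0 : Fin n → R) (1 : Matrix.SpecialLinearGroup (Fin n) R) = 1 :=
  Subtype.ext blk_one

theorem slBlk_pow (B : Matrix.SpecialLinearGroup (Fin n) R) (k : ℕ) : slBlk 0 B ^ k = slBlk 0 (B ^ k) := by
  induction k with
  | zero => rw [pow_zero, pow_zero, slBlk_one]
  | succ k ih => rw [pow_succ, ih, slBlk_mul, pow_succ]; simp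

theorem slBlk_inj {v w : Fin n → R} {B C : Matrix.SpecialLinearGroup (Fin n) R} (h : slBlk v B = slBlk w C) :
    v = w ∧ B = C := by
  obtain ⟨h1, h2⟩ := blk_inj (congrArg Subtype.val h)
  exact ⟨h1, Subtype.ext h2⟩

/-- translations -/
def transl : Multiplicative (Fin n → R) →* Matrix.SpecialLinearGroup (Fin (n + 1)) R where
  toFun v := slBlk v.toAdd 1
  map_one' := slBlk_one
  map_mul' v w := by
    rw [slBlk_mul]
    simp [Matrix.one_mulVec]

theorem transl_injective : Function.Injective (transl (R := R) (n := n)) := fun v w h => by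
  have := (slBlk_inj h).1
  exact this

end Cfsg.Agent.H421.Blk
end

-- part: H421/AutSix
section
/-!
# Groups between `PSL₆(3)` and its automorphism group (helper421)

`Hd d` (`d = ± 1`): the two extensions of `PSL₆(3)` of degree 2 by graph automorphisms.
-/

set_option autoImplicit false

namespace Cfsg.Agent.H421.AutSix

open Matrix
open Cfsg.Agent.ClassicalGeometry.AutPSL
open Cfsg.Agent.ClassicalGeometry.AutPSL.Root (pr pr_surjective)
open Cfsg.Agent.H421.AutL Cfsg.Agent.H421.Blk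

theorem dt_of_c_eq {A B : Gn 6} (h : c A = c B) : dt A = dt B := by
  have h1 : c (A * B⁻¹) = 1 := by rw [map_mul, map_inv, h, mul_inv_cancel]
  obtain ⟨r, hr⟩ := c_eq_one (by norm_num) h1
  have h2 : dt (A * B⁻¹) = r ^ 6 := by
    rw [dt, ← hr, scalar_apply, det_diagonal, Finset.prod_const, Finset.card_univ, Fintype.card_fin]
  have h3 := dt_cases (A * B⁻¹)
  rw [h2] at h3
  have h4 : ∀ r : ZMod 3, (r ^ 6 = 1 ∨ r ^ 6 = -1) → r ^ 6 = 1 := by decide
  have h5 := h4 r h3
  rw [dt_mul, dt_inv, h5] at h2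
  have h6 : ∀ x y : ZMod 3, x * y = 1 → x = y := by decide
  exact h6 _ _ h2

/-- the extension of degree 2 by a graph automorphism -/
def Hd (d : ZMod 3) : Subgroup (MulAut (Ln 6)) where
  carrier := {α | (∃ A : Gn 6, dt A = 1 ∧ α = c A) ∨ (∃ A : Gn 6, dt A = d ∧ α = c A * io)}
  mul_mem' := by
    rintro _ _ (⟨A, hA, rfl⟩ | ⟨A, hA, rfl⟩) (⟨B, hB, rfl⟩ | ⟨B, hB, rfl⟩)
    · exact Or.inl ⟨A * B, by rw [dt_mul, hA, hB, mul_one], by rw [map_mul]⟩
    · exact Or.inr ⟨A * B, by rw [dt_mul, hA, hB, one_mul], by rw [map_mul, mul_assoc]⟩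
    · exact Or.inr ⟨A * tinv B, by rw [dt_mul, dt_tinv, hA, hB, mul_one], mul_mix' A B⟩
    · exact Or.inl ⟨A * tinv B, by rw [dt_mul, dt_tinv, hA, ← hB, dt_sq], mul_mix A B⟩
  one_mem' := Or.inl ⟨1, dt_one, (map_one _).symm⟩
  inv_mem' := by
    rintro _ (⟨A, hA, rfl⟩ | ⟨A, hA, rfl⟩)
    · exact Or.inl ⟨A⁻¹, by rw [dt_inv, hA], by rw [map_inv]⟩
    · exact Or.inr ⟨tinv A⁻¹, by rw [dt_tinv, dt_inv, hA], inv_mix A⟩

theorem conj_mem_Hd (d : ZMod 3) (l : Ln 6) : MulAut.conj l ∈ Hd d := by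
  obtain ⟨x, rfl⟩ := pr_surjective l
  exact Or.inl ⟨_, dt_toGL x, conj_pr x⟩

theorem Hd_normal (d : ZMod 3) {g α : MulAut (Ln 6)} (h : α ∈ Hd d) : g * α * g⁻¹ ∈ Hd d := by
  rcases form (by norm_num) g with ⟨B, rfl⟩ | ⟨B, rfl⟩ <;> rcases h with ⟨A, hA, rfl⟩ | ⟨A, hA, rfl⟩
  · refine Or.inl ⟨B * A * B⁻¹, ?_, by rw [map_mul, map_mul, map_inv]⟩
    rw [dt_mul, dt_mul, dt_inv, hA, mul_one, dt_sq]
  · refine Or.inr ⟨B * A * tinv B⁻¹, ?_, ?_⟩
    · rw [dt_mul, dt_mul, dt_tinv, dt_inv, hA, mul_comm (dt B), mul_assoc, dt_sq, mul_one]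
    · rw [← mul_assoc, ← map_mul, ← map_inv, mul_mix']
  · refine Or.inl ⟨B * tinv A * tinv (tinv B⁻¹), ?_, ?_⟩
    · rw [dt_mul, dt_mul, dt_tinv, dt_tinv, dt_tinv, dt_inv, hA, mul_one, dt_sq]
    · rw [mul_mix', inv_mix, mul_mix]
  · refine Or.inr ⟨B * tinv A * tinv B⁻¹, ?_, ?_⟩
    · rw [dt_mul, dt_mul, dt_tinv, dt_tinv, dt_inv, hA, mul_comm (dt B), mul_assoc, dt_sq, mul_one]
    · rw [mul_mix, inv_mix, ← mul_assoc, ← map_mul]

/-- `-1` times an element of order 11, with a fixed vector -/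
def Am : Matrix (Fin 6) (Fin 6) (ZMod 3) := blk 0 (-Rows.Y5)

theorem Am_pow : Am ^ 22 = 1 := by
  rw [Am, blk_pow, Even.neg_pow (by decide), show 22 = 11 * 2 by norm_num, pow_mul, Rows.Y5_pow, one_pow, blk_one]

theorem det_Am : Am.det = -1 := by
  rw [Am, det_blk, det_neg, Rows.det_Y5, Fintype.card_fin]
  decide

/-- `Am` as an element of `GL` -/
def Ag : Gn 6 := Units.ofPowEqOne Am 22 Am_pow (by norm_num)

theorem dt_Ag : dt Ag = -1 := det_Am

theorem Ag_pow (k : ℕ) (hk : ∀ r : ZMod 3, scalar (Fin 6) r ≠ Am ^ k) : (c Ag : MulAut (Ln 6)) ^ k ≠ 1 := by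
  rw [← map_pow]
  intro h
  obtain ⟨r, hr⟩ := c_eq_one (by norm_num) h
  apply hk r
  rw [hr, Units.val_pow_eq_pow_val]
  rfl

theorem orderOf_cAg : orderOf (c Ag : MulAut (Ln 6)) = 22 := by
  apply orderOf_eq_of_pow_and_pow_div_prime (by norm_num)
  · rw [← map_pow, show Ag ^ 22 = 1 from Units.ext (by rw [Units.val_pow_eq_pow_val]; exact Am_pow), map_one]
  · intro p hp hd
    have h1 : p = 2 ∨ p = 11 := by
      rw [show 22 = 2 * 11 by norm_num, hp.dvd_mul] at hd
      rcases hd with h | h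
      · exact Or.inl ((Nat.prime_dvd_prime_iff_eq hp (by norm_num)).1 h)
      · exact Or.inr ((Nat.prime_dvd_prime_iff_eq hp (by norm_num)).1 h)
    rcases h1 with rfl | rfl
    · apply Ag_pow
      intro r h
      have h1 := congrFun (congrFun h 0) 0
      have h2 := congrFun (congrFun h (Fin.succ 0)) (Fin.succ 0)
      have h3 : (-Rows.Y5) ^ 11 = -1 := by rw [Odd.neg_pow (by decide), Rows.Y5_pow]
      rw [Am, show 22 / 2 = 11 by norm_num, blk_pow, h3] at h1 h2
      rw [blk_zero_zero, scalar_apply, diagonal_apply_eq] at h1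
      rw [blk_succ_succ, scalar_apply, diagonal_apply_eq, Matrix.neg_apply, Matrix.one_apply_eq, h1] at h2
      exact absurd h2 (by decide)
    · apply Ag_pow
      rw [show 22 / 11 = 2 by norm_num]
      decide +kernel

/-- a subgroup between `PSL₆(3)` and its automorphism group without elements of order 22 -/
theorem classify (R : Subgroup (MulAut (Ln 6))) (hI : ∀ l : Ln 6, MulAut.conj l ∈ R)
    (h22 : ∀ x ∈ R, orderOf x ≠ 22) :
    R = (MulAut.conj : Ln 6 →* MulAut (Ln 6)).range ∨ R = Hd 1 ∨ R = Hd (-1) := by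
  have h1 : ∀ A : Gn 6, dt A = 1 → c A ∈ R := by
    intro A hA
    obtain ⟨x, hx⟩ := c_of_det hA
    rw [hx]
    exact hI _
  have h2 : ∀ A : Gn 6, c A ∈ R → dt A = 1 := by
    intro A hA
    refine (dt_cases A).resolve_right fun h => h22 (c Ag) ?_ orderOf_cAg
    have h3 : c (Ag * A⁻¹) ∈ R := h1 _ (by rw [dt_mul, dt_inv, dt_Ag, h]; decide)
    have h4 := R.mul_mem h3 hA
    rwa [← map_mul, inv_mul_cancel_right] at h4
  by_cases h : ∃ A : Gn 6, c A * io ∈ R
  · right
    obtain ⟨A, hA⟩ := h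
    have h3 : R = Hd (dt A) := by
      apply le_antisymm
      · intro α hα
        rcases form (by norm_num) α with ⟨B, rfl⟩ | ⟨B, rfl⟩
        · exact Or.inl ⟨B, h2 B hα, rfl⟩
        · refine Or.inr ⟨B, ?_, rfl⟩
          have h4 := R.mul_mem hα (R.inv_mem hA)
          rw [inv_mix, mul_mix] at h4
          have h5 := h2 _ h4
          rw [dt_mul, dt_tinv, dt_tinv, dt_inv] at h5
          have h6 : ∀ x y : ZMod 3, x * y = 1 → x = y := by decide
          exact h6 _ _ h5
      · rintro α (⟨B, hB, rfl⟩ | ⟨B, hB, rfl⟩)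
        · exact h1 B hB
        · have h4 : c (B * A⁻¹) ∈ R := h1 _ (by rw [dt_mul, dt_inv, hB, dt_sq])
          have h5 := R.mul_mem h4 hA
          rwa [← mul_assoc, ← map_mul, inv_mul_cancel_right] at h5
    rcases dt_cases A with h4 | h4
    · exact Or.inl (by rw [h3, h4])
    · exact Or.inr (by rw [h3, h4])
  · left
    apply le_antisymm
    · intro α hα
      rcases form (by norm_num) α with ⟨B, rfl⟩ | ⟨B, rfl⟩
      · obtain ⟨x, hx⟩ := c_of_det (h2 B hα)
        exact ⟨_, hx.symm⟩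
      · exact absurd ⟨B, hα⟩ h
    · rintro _ ⟨l, rfl⟩
      exact hI l

theorem not_range (A : Gn 6) (l : Ln 6) : c A * io ≠ MulAut.conj l := by
  obtain ⟨x, rfl⟩ := pr_surjective l
  rw [conj_pr]
  exact c_mul_io_ne (by norm_num)

theorem Ag_mem : c Ag * io ∈ Hd (-1) := Or.inr ⟨Ag, dt_Ag, rfl⟩

theorem one_mem : c 1 * io ∈ Hd 1 := Or.inr ⟨1, dt_one, rfl⟩

theorem exists_outer {d : ZMod 3} (hd : d = 1 ∨ d = -1) : ∃ A : Gn 6, dt A = d ∧ c A * io ∈ Hd d := by
  rcases hd with rfl | rfl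
  · exact ⟨1, dt_one, one_mem⟩
  · exact ⟨Ag, dt_Ag, Ag_mem⟩

theorem not_mem_Hd {d : ZMod 3} {A : Gn 6} (h : dt A ≠ d) : c A * io ∉ Hd d := by
  rintro (⟨B, -, hB⟩ | ⟨B, hB, hB'⟩)
  · exact c_mul_io_ne (by norm_num) hB
  · have h1 : c A = c B := mul_right_cancel hB'
    exact h ((dt_of_c_eq h1).trans hB)

theorem mem_conj_of_odd {d : ZMod 3} {α : MulAut (Ln 6)} (hα : α ∈ Hd d) {m : ℕ} (hm : Odd m) (h : α ^ m = 1) :
    ∃ l : Ln 6, α = MulAut.conj l := by
  obtain ⟨A, rfl⟩ := form_of_odd (by norm_num) hm h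
  rcases hα with ⟨B, hB, hB'⟩ | ⟨B, -, hB'⟩
  · rw [hB']
    obtain ⟨x, hx⟩ := c_of_det hB
    exact ⟨_, hx⟩
  · exact absurd hB'.symm (c_mul_io_ne (by norm_num))

theorem inn_injective : Function.Injective (MulAut.conj : Ln 6 →* MulAut (Ln 6)) := by
  rw [injective_iff_map_eq_one]
  intro l hl
  obtain ⟨x, rfl⟩ := pr_surjective l
  rw [conj_pr] at hl
  obtain ⟨r, hr⟩ := c_eq_one (by norm_num) hl
  rw [Root.pr_eq_one_iff, Matrix.SpecialLinearGroup.mem_center_iff]
  refine ⟨r, ?_, hr⟩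
  have h1 : (scalar (Fin 6) r).det = 1 := by rw [hr]; exact x.2
  rw [scalar_apply, det_diagonal, Finset.prod_const, Finset.card_univ] at h1
  exact h1

theorem conj_map (α : MulAut (Ln 6)) (l : Ln 6) : MulAut.conj (α l) = α * MulAut.conj l * α⁻¹ := by
  apply MulEquiv.ext
  intro m
  rw [MulAut.mul_apply, MulAut.mul_apply, MulAut.conj_apply, MulAut.conj_apply, map_mul, map_mul, map_inv,
    MulAut.apply_inv_self]

/-- `PSL₆(3)` is not isomorphic to its extensions -/
theorem Hd_not_L {d : ZMod 3} (hd : d = 1 ∨ d = -1) : ¬ Nonempty (Hd d ≃* Ln 6) := by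
  rintro ⟨f⟩
  let g : Ln 6 → Ln 6 := fun l => f ⟨MulAut.conj l, conj_mem_Hd d l⟩
  have hg : Function.Injective g := by
    intro a b hab
    have h1 := f.injective hab
    exact inn_injective (congrArg Subtype.val h1)
  have hs : Function.Surjective g := Finite.surjective_of_injective hg
  obtain ⟨A, -, hA⟩ := exists_outer hd
  obtain ⟨l, hl⟩ := hs (f ⟨_, hA⟩)
  have h1 := f.injective hl
  exact not_range A l (congrArg Subtype.val h1).symm

/-- the two extensions are not isomorphic -/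
theorem Hd_not_Hd : ¬ Nonempty (Hd 1 ≃* Hd (-1)) := by
  rintro ⟨f⟩
  have hcub : ∀ x : Sn 6, ∃ l : Ln 6, (f ⟨MulAut.conj (pr x), conj_mem_Hd 1 _⟩ : MulAut (Ln 6)) = MulAut.conj l := by
    refine Cfsg.Agent.LieClassical.SLGen.transvection_induction _ ?_ ?_
    · intro i j hij t
      apply mem_conj_of_odd (Subtype.mem _) (m := 3) (by decide)
      have h3 : (Matrix.SpecialLinearGroup.transvection hij t : Sn 6) ^ 3 = 1 := by
        apply Subtype.ext
        rw [Matrix.SpecialLinearGroup.coe_pow]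
        change (1 + single i j t : Matrix (Fin 6) (Fin 6) (ZMod 3)) ^ 3 = 1
        have h4 : (single i j t : Matrix (Fin 6) (Fin 6) (ZMod 3)) * single i j t = 0 :=
          single_mul_single_of_ne _ _ _ _ hij.symm _
        have h5 : (1 + single i j t : Matrix (Fin 6) (Fin 6) (ZMod 3)) ^ 3 = 1 + 3 * single i j t +
            3 * (single i j t * single i j t) + (single i j t * single i j t) * single i j t := by
          noncomm_ring
        rw [h5, h4, Eleven.three_mul, mul_zero, zero_mul, add_zero, add_zero, add_zero]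
      rw [← Subgroup.coe_pow, ← map_pow]
      have h4 : (⟨MulAut.conj (pr (Matrix.SpecialLinearGroup.transvection hij t)), conj_mem_Hd 1 _⟩ : Hd 1) ^ 3 = 1 := by
        apply Subtype.ext
        rw [Subgroup.coe_pow]
        change (MulAut.conj (pr (Matrix.SpecialLinearGroup.transvection hij t))) ^ 3 = 1
        rw [← map_pow, ← map_pow, h3, map_one, map_one]
      rw [h4, map_one]
      rfl
    · rintro x y ⟨l, hl⟩ ⟨m, hm⟩
      refine ⟨l * m, ?_⟩
      have h1 : (⟨MulAut.conj (pr (x * y)), conj_mem_Hd 1 _⟩ : Hd 1) =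
          ⟨MulAut.conj (pr x), conj_mem_Hd 1 _⟩ * ⟨MulAut.conj (pr y), conj_mem_Hd 1 _⟩ := by
        apply Subtype.ext
        rw [Subgroup.coe_mul]
        change MulAut.conj (pr (x * y)) = MulAut.conj (pr x) * MulAut.conj (pr y)
        rw [map_mul, map_mul]
      rw [h1, map_mul, Subgroup.coe_mul, hl, hm, map_mul]
  have hall : ∀ l : Ln 6, ∃ l' : Ln 6, (f ⟨MulAut.conj l, conj_mem_Hd 1 _⟩ : MulAut (Ln 6)) = MulAut.conj l' := by
    intro l
    obtain ⟨x, rfl⟩ := pr_surjective l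
    exact hcub x
  choose φ hφ using hall
  let a : Ln 6 →* Ln 6 := MonoidHom.mk' φ (by
    intro x y
    apply inn_injective
    rw [map_mul, ← hφ, ← hφ, ← hφ, ← Subgroup.coe_mul, ← map_mul]
    congr 2
    apply Subtype.ext
    rw [Subgroup.coe_mul]
    change MulAut.conj (x * y) = MulAut.conj x * MulAut.conj y
    rw [map_mul])
  have ha : Function.Injective a := by
    intro x y hxy
    have h1 : φ x = φ y := hxy
    have h2 : (f ⟨MulAut.conj x, conj_mem_Hd 1 _⟩) = (f ⟨MulAut.conj y, conj_mem_Hd 1 _⟩) := by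
      apply Subtype.ext
      rw [hφ, hφ, h1]
    exact inn_injective (congrArg Subtype.val (f.injective h2))
  let e : MulAut (Ln 6) := MulEquiv.ofBijective a ((Finite.injective_iff_bijective).1 ha)
  have he : ∀ l, e l = φ l := fun l => rfl
  have hkey : ∀ h : Hd 1, (f h : MulAut (Ln 6)) * e = e * h := by
    intro h
    apply MulEquiv.ext
    intro l
    rw [MulAut.mul_apply, MulAut.mul_apply, he, he]
    apply inn_injective
    rw [conj_map, ← hφ, ← hφ]
    have h1 : (⟨MulAut.conj ((h : MulAut (Ln 6)) l), conj_mem_Hd 1 _⟩ : Hd 1) =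
        h * ⟨MulAut.conj l, conj_mem_Hd 1 _⟩ * h⁻¹ := by
      apply Subtype.ext
      rw [Subgroup.coe_mul, Subgroup.coe_mul, Subgroup.coe_inv]
      exact conj_map h l
    rw [h1, map_mul, map_mul, map_inv, Subgroup.coe_mul, Subgroup.coe_mul, Subgroup.coe_inv]
  obtain ⟨h, hh⟩ := f.surjective ⟨_, Ag_mem⟩
  have h1 := hkey h
  rw [hh] at h1
  have h2 : c Ag * io = e * (h : MulAut (Ln 6)) * e⁻¹ := by
    rw [← h1, mul_inv_cancel_right]
  have h3 : c Ag * io ∈ Hd 1 := by
    rw [h2]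
    exact Hd_normal 1 h.2
  refine not_mem_Hd (A := Ag) (d := 1) ?_ h3
  rw [dt_Ag]
  decide

/-! ### element orders -/

theorem dvd_pq {p q r : ℕ} (hp : p.Prime) (hq : q.Prime) (hr : r.Prime) (h : r ∣ p * q) : r = p ∨ r = q :=
  (hr.dvd_mul.1 h).imp (fun h => (Nat.prime_dvd_prime_iff_eq hr hp).1 h) (fun h => (Nat.prime_dvd_prime_iff_eq hr hq).1 h)

theorem orderOf_pq {G : Type*} [Group G] {x : G} {p q : ℕ} (hp : p.Prime) (hq : q.Prime) (h : x ^ (p * q) = 1)
    (h1 : x ^ p ≠ 1) (h2 : x ^ q ≠ 1) : orderOf x = p * q := by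
  refine orderOf_eq_of_pow_and_pow_div_prime (Nat.mul_pos hp.pos hq.pos) h fun r hr hd => ?_
  rcases dvd_pq hp hq hr hd with rfl | rfl
  · rwa [Nat.mul_div_cancel_left _ hp.pos]
  · rwa [Nat.mul_div_cancel _ hq.pos]

theorem pr_eq_one_of {x : Sn 6} (h : (x : Matrix (Fin 6) (Fin 6) (ZMod 3)) = 1 ∨ (x : Matrix (Fin 6) (Fin 6) (ZMod 3)) = -1) :
    (pr x : Ln 6) = 1 := by
  rcases h with h | h
  · rw [show x = 1 from Subtype.ext h, map_one]
  · have h1 := Root.pr_eq_of_smul (x := 1) (y := x) (c := -1) (by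
      rw [h, Matrix.SpecialLinearGroup.coe_one, neg_smul, one_smul])
    rw [← h1, map_one]

theorem order_sq {N : Matrix (Fin 6) (Fin 6) (ZMod 3)} {p q k : ℕ} (hp : p.Prime) (hq : q.Prime) (hk : 0 < k)
    (h : (N * N) ^ (k * (p * q)) = 1 ∨ (N * N) ^ (k * (p * q)) = -1)
    (h1 : (N * N) ^ (k * p) ≠ 1 ∧ (N * N) ^ (k * p) ≠ -1) (h2 : (N * N) ^ (k * q) ≠ 1 ∧ (N * N) ^ (k * q) ≠ -1) :
    ∃ l : Ln 6, orderOf l = p * q := by
  have hd : (N * N).det = 1 := by
    have h0 : N.det ≠ 0 := by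
      intro h0
      have h3 : ((N * N) ^ (k * (p * q))).det = 0 := by
        rw [det_pow, det_mul, h0, mul_zero, zero_pow]
        exact (Nat.mul_pos hk (Nat.mul_pos hp.pos hq.pos)).ne'
      rcases h with h | h
      · rw [h, det_one] at h3; exact one_ne_zero h3
      · rw [h, det_neg, det_one, Fintype.card_fin] at h3
        exact absurd h3 (by decide)
    rw [det_mul]
    have : ∀ x : ZMod 3, x ≠ 0 → x * x = 1 := by decide
    exact this _ h0
  let x : Sn 6 := ⟨N * N, hd⟩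
  have hx : ∀ j, ((x ^ j : Sn 6) : Matrix (Fin 6) (Fin 6) (ZMod 3)) = (N * N) ^ j := fun j => by
    rw [Matrix.SpecialLinearGroup.coe_pow]
  refine ⟨(pr x) ^ k, orderOf_pq hp hq ?_ ?_ ?_⟩
  · rw [← pow_mul, ← map_pow]
    apply pr_eq_one_of
    rw [hx]
    exact h
  · rw [← pow_mul, ← map_pow]
    intro h3
    have h4 := pr_one h3
    rw [hx] at h4
    exact h4.elim h1.1 h1.2
  · rw [← pow_mul, ← map_pow]
    intro h3
    have h4 := pr_one h3
    rw [hx] at h4
    exact h4.elim h2.1 h2.2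

/-- a matrix from its code in base 4 -/
private def ofC (n : ℕ) : Matrix (Fin 6) (Fin 6) (ZMod 3) :=
  fun i j => (((n >>> (2 * (6 * i.val + j.val))) % 4 : ℕ) : ZMod 3)

private def ent (n i j : ℕ) : ℕ := Nat.mod (Nat.shiftRight n (Nat.mul 2 (Nat.add (Nat.mul 6 i) j))) 4

private def dot (a b i j : ℕ) : ℕ :=
  Nat.add (Nat.add (Nat.add (Nat.mul (ent a i 0) (ent b 0 j)) (Nat.mul (ent a i 1) (ent b 1 j)))
    (Nat.add (Nat.mul (ent a i 2) (ent b 2 j)) (Nat.mul (ent a i 3) (ent b 3 j))))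
    (Nat.add (Nat.mul (ent a i 4) (ent b 4 j)) (Nat.mul (ent a i 5) (ent b 5 j)))

private theorem dot_eq (a b : ℕ) (i j : Fin 6) : (ofC a * ofC b) i j = ((dot a b i j : ℕ) : ZMod 3) := by
  rw [Matrix.mul_apply, Fin.sum_univ_six]
  show ((ent a i 0 : ℕ) : ZMod 3) * (ent b 0 j : ℕ) + ((ent a i 1 : ℕ) : ZMod 3) * (ent b 1 j : ℕ) +
    ((ent a i 2 : ℕ) : ZMod 3) * (ent b 2 j : ℕ) + ((ent a i 3 : ℕ) : ZMod 3) * (ent b 3 j : ℕ) +
    ((ent a i 4 : ℕ) : ZMod 3) * (ent b 4 j : ℕ) + ((ent a i 5 : ℕ) : ZMod 3) * (ent b 5 j : ℕ) =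
    ((ent a i 0 * ent b 0 j + ent a i 1 * ent b 1 j + (ent a i 2 * ent b 2 j + ent a i 3 * ent b 3 j) +
      (ent a i 4 * ent b 4 j + ent a i 5 * ent b 5 j) : ℕ) : ZMod 3)
  push_cast
  ring

private def all6 (f : ℕ → Bool) : Bool :=
  Bool.rec false (Bool.rec false (Bool.rec false (Bool.rec false (Bool.rec false (f 5) (f 4)) (f 3)) (f 2)) (f 1)) (f 0)

private theorem all6_spec {f : ℕ → Bool} (h : all6 f = true) (i : Fin 6) : f i = true := by
  have h1 : all6 f = (f 0 && (f 1 && (f 2 && (f 3 && (f 4 && f 5))))) := by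
    delta all6
    cases f 0 <;> cases f 1 <;> cases f 2 <;> cases f 3 <;> cases f 4 <;> rfl
  rw [h1] at h
  simp only [Bool.and_eq_true] at h
  fin_cases i
  exacts [h.1, h.2.1, h.2.2.1, h.2.2.2.1, h.2.2.2.2.1, h.2.2.2.2.2]

/-- `a b = c` -/
private def chk1 (a b c : ℕ) : Bool :=
  all6 fun i => all6 fun j => Nat.beq (Nat.mod (dot a b i j) 3) (Nat.mod (ent c i j) 3)

private theorem chk1_spec {a b c : ℕ} (h : chk1 a b c = true) : ofC a * ofC b = ofC c := by
  ext i j
  rw [dot_eq]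
  exact (ZMod.natCast_eq_natCast_iff' _ _ 3).2 (Nat.eq_of_beq_eq_true (all6_spec (all6_spec h i) j))

/-- `a b = s c d` -/
private def chk2 (a b s c d : ℕ) : Bool :=
  all6 fun i => all6 fun j => Nat.beq (Nat.mod (dot a b i j) 3) (Nat.mod (Nat.mul s (dot c d i j)) 3)

private theorem chk2_spec {a b s c d : ℕ} (h : chk2 a b s c d = true) :
    ofC a * ofC b = ((s : ℕ) : ZMod 3) • (ofC c * ofC d) := by
  ext i j
  rw [Matrix.smul_apply, dot_eq, dot_eq, smul_eq_mul, ← Nat.cast_mul]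
  exact (ZMod.natCast_eq_natCast_iff' _ _ 3).2 (Nat.eq_of_beq_eq_true (all6_spec (all6_spec h i) j))

private theorem pow_step {X : Matrix (Fin 6) (Fin 6) (ZMod 3)} {a b : ℕ} {c m n k : ℕ} (ha : X ^ m = ofC a)
    (hb : X ^ n = ofC b) (hk : m + n = k) (h : chk1 a b c = true) : X ^ k = ofC c := by
  rw [← hk, pow_add, ha, hb, chk1_spec h]

/-- companion matrix of a primitive polynomial of degree 6 -/
def Cm : Matrix (Fin 6) (Fin 6) (ZMod 3) :=
  !![0, 0, 0, 0, 0, 1; 1, 0, 0, 0, 0, 0; 0, 1, 0, 0, 0, 0; 0, 0, 1, 0, 0, 0; 0, 0, 0, 1, 0, 0; 0, 0, 0, 0, 1, 2]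

private theorem Cm0 : Cm = ofC 2656349162112263656448 := by decide +kernel
private theorem pC1 : (Cm * Cm) ^ 1 = ofC 1844678911245481412864 := by
  rw [pow_one, Cm0]
  exact chk1_spec (by decide +kernel)
private theorem pC2 : (Cm * Cm) ^ 2 = ofC 1886179933419183802768 := pow_step pC1 pC1 rfl (by decide +kernel)
private theorem pC3 : (Cm * Cm) ^ 3 = ofC 3069725673602008107417 := pow_step pC2 pC1 rfl (by decide +kernel)
private theorem pC6 : (Cm * Cm) ^ 6 = ofC 613541503108696549458 := pow_step pC3 pC3 rfl (by decide +kernel)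
private theorem pC7 : (Cm * Cm) ^ 7 = ofC 1219009881526837002373 := pow_step pC6 pC1 rfl (by decide +kernel)
private theorem pC13 : (Cm * Cm) ^ 13 = ofC 1560378095241215452454 := pow_step pC7 pC6 rfl (by decide +kernel)
private theorem pC14 : (Cm * Cm) ^ 14 = ofC 2458202398856089735506 := pow_step pC7 pC7 rfl (by decide +kernel)
private theorem pC26 : (Cm * Cm) ^ 26 = ofC 1793988999841402071120 := pow_step pC13 pC13 rfl (by decide +kernel)
private theorem pC39 : (Cm * Cm) ^ 39 = ofC 1666409083342896334486 := pow_step pC26 pC13 rfl (by decide +kernel)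
private theorem pC52 : (Cm * Cm) ^ 52 = ofC 2811409328261034280472 := pow_step pC26 pC26 rfl (by decide +kernel)
private theorem pC91 : (Cm * Cm) ^ 91 = ofC 122805739149285003688 := pow_step pC52 pC39 rfl (by decide +kernel)
private theorem pC182 : (Cm * Cm) ^ 182 = ofC 2361327365419528388610 := pow_step pC91 pC91 rfl (by decide +kernel)

theorem Cm182 : (Cm * Cm) ^ 182 = -1 := by rw [pC182]; decide +kernel
theorem Cm91 : (Cm * Cm) ^ 91 ≠ 1 ∧ (Cm * Cm) ^ 91 ≠ -1 := by rw [pC91]; decide +kernel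
theorem Cm26 : (Cm * Cm) ^ 26 ≠ 1 ∧ (Cm * Cm) ^ 26 ≠ -1 := by rw [pC26]; decide +kernel
theorem Cm14 : (Cm * Cm) ^ 14 ≠ 1 ∧ (Cm * Cm) ^ 14 ≠ -1 := by rw [pC14]; decide +kernel

theorem order14 : ∃ l : Ln 6, orderOf l = 2 * 7 :=
  order_sq (N := Cm) (k := 13) (by norm_num) (by norm_num) (by norm_num) (Or.inr Cm182) Cm26 Cm91

theorem order26 : ∃ l : Ln 6, orderOf l = 2 * 13 :=
  order_sq (N := Cm) (k := 7) (by norm_num) (by norm_num) (by norm_num) (Or.inr Cm182) Cm14 Cm91

/-- a square root of an element of order 10 -/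
def N10 : Matrix (Fin 6) (Fin 6) (ZMod 3) :=
  !![0, 1, 0, 0, 0, 0; 2, 0, 0, 0, 0, 0; 0, 0, 0, 0, 0, 2; 0, 0, 1, 0, 0, 2; 0, 0, 0, 1, 0, 2; 0, 0, 0, 0, 1, 2]

private noncomputable def _root_.Cfsg.Agent.LsF.f68ea40_0 : {f // @Cfsg.Agent.H421.AutSix.N10 = f} := ⟨_, by first | (delta Cfsg.Agent.H421.AutSix.N10; rewrite [Cfsg.Agent.LsF.mof_pat, Cfsg.Agent.LsF.vecCons_eq]; exact rfl) | exact rfl⟩
theorem order10 : ∃ l : Ln 6, orderOf l = 2 * 5 :=
  order_sq (N := N10) (k := 1) (by norm_num) (by norm_num) (by norm_num) (Or.inl (by (refine of_decide_eq_true ?_; (try (rewrite [Cfsg.Agent.LsF.f68ea40_0.2, Cfsg.Agent.LsF.mpow_pat, Cfsg.Agent.LsF.nmul_pat, Cfsg.Agent.LsF.zdecEq_eq, Cfsg.Agent.LsF.finFintype_eq, Cfsg.Agent.LsF.dMat_eq, Cfsg.Agent.LsF.instMHMul_eq, Cfsg.Agent.LsF.instMOne_eq, Cfsg.Agent.LsF.instZMul_pat, Cfsg.Agent.LsF.zACM_pat, Cfsg.Agent.LsF.dFinEq_eq, Cfsg.Agent.LsF.decide_eq])); decide +kernel))) (by decide +kernel)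
    (by (refine of_decide_eq_true ?_; (try (rewrite [Cfsg.Agent.LsF.f68ea40_0.2, Cfsg.Agent.LsF.mpow_pat, Cfsg.Agent.LsF.nmul_pat, Cfsg.Agent.LsF.zdecEq_eq, Cfsg.Agent.LsF.finFintype_eq, Cfsg.Agent.LsF.dMat_eq, Cfsg.Agent.LsF.instMHMul_eq, Cfsg.Agent.LsF.instMOne_eq, Cfsg.Agent.LsF.instZMul_pat, Cfsg.Agent.LsF.instZNeg_pat, Cfsg.Agent.LsF.zACM_pat, Cfsg.Agent.LsF.dAnd_eq, Cfsg.Agent.LsF.dNot_eq, Cfsg.Agent.LsF.dFinEq_eq, Cfsg.Agent.LsF.decide_eq])); decide +kernel))

/-- a square root of an element of order 6 -/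
def N6 : Matrix (Fin 6) (Fin 6) (ZMod 3) :=
  !![0, 1, 0, 0, 0, 0; 2, 0, 0, 0, 0, 0; 0, 0, 1, 1, 0, 0; 0, 0, 0, 1, 0, 0; 0, 0, 0, 0, 1, 0; 0, 0, 0, 0, 0, 1]

private noncomputable def _root_.Cfsg.Agent.LsF.f68ea40_1 : {f // @Cfsg.Agent.H421.AutSix.N6 = f} := ⟨_, by first | (delta Cfsg.Agent.H421.AutSix.N6; rewrite [Cfsg.Agent.LsF.mof_pat, Cfsg.Agent.LsF.vecCons_eq]; exact rfl) | exact rfl⟩
theorem order6 : ∃ l : Ln 6, orderOf l = 2 * 3 :=
  order_sq (N := N6) (k := 1) (by norm_num) (by norm_num) (by norm_num) (Or.inl (by (refine of_decide_eq_true ?_; (try (rewrite [Cfsg.Agent.LsF.f68ea40_1.2, Cfsg.Agent.LsF.mpow_pat, Cfsg.Agent.LsF.nmul_pat, Cfsg.Agent.LsF.zdecEq_eq, Cfsg.Agent.LsF.finFintype_eq, Cfsg.Agent.LsF.dMat_eq, Cfsg.Agent.LsF.instMHMul_eq, Cfsg.Agent.LsF.instMOne_eq, Cfsg.Agent.LsF.instZMul_pat, Cfsg.Agent.LsF.zACM_pat, Cfsg.Agent.LsF.dFinEq_eq, Cfsg.Agent.LsF.decide_eq])); decide +kernel))) (by decide +kernel)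
    (by decide +kernel)

end Cfsg.Agent.H421.AutSix
end

-- part: H421/LThirteen
section
/-!
# The group `L₂(13) < PSL₆(3)` and its modules in characteristic 3 (helper421)

`main` : if `SL₆(3)` acts on an abelian group `V` of exponent 3, with `-1` acting trivially, so that no element of
order 7 has a nonzero fixed vector, then `V = 0`.

Proof: the subgroup `SL₂(13) = ⟨t, s⟩` (Weil representation) has a subgroup `D₁₂ = ⟨a, b, c⟩` modulo `-1`; there is a
common eigenvector `v ≠ 0` of `a`, `b`, fixed by `c` (of order 3).  The `91` vectors `g v` are permuted up to sign by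
`L₂(13)`, and for each of the four characters an explicit combination of sums over orbits of subgroups of order 7
(which are zero) is `v`.
-/

set_option autoImplicit false
set_option maxRecDepth 1000000

namespace Cfsg.Agent.H421.LThirteen

/-- matrices -/
abbrev M := Matrix (Fin 6) (Fin 6) (ZMod 3)
/-- the group -/
abbrev X := Matrix.SpecialLinearGroup (Fin 6) (ZMod 3)

/-- a matrix from its code in base 4 -/
def ofN (n : ℕ) : M := fun i j => (((n >>> (2 * (6 * i.val + j.val))) % 4 : ℕ) : ZMod 3)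

/-- generator of order 13 -/
def tM : M := ofN 2435118978655555032592
/-- generator with square `-1` -/
def sM : M := ofN 1328491107914843423840
/-- element with square `-1`, commuting with `cM` -/
def aM : M := ofN 1338835271527136761252
/-- element with square `-1`, inverting `cM` -/
def bM : M := ofN 2482897833261263312448
/-- element of order 3 -/
def cM : M := ofN 120361385607831093604

/-- codes of the coset representatives -/
def RL : List ℕ :=
  [1180663682709764194305, 2435118978655555032592, 170925144240955916368, 305695336079031878148,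
  597814052758676326949, 593039788038395630609, 296775147899876644993, 171036204876488656017,
  2970376553864280827200, 1512725692021567824520, 306130506302118599016, 2981465242029167575176,
  1518801072594016572804, 2527804225838878332516, 1291998893166855529002, 592648451497038980502,
  758622672778340933898, 407366954351674860905, 3104049260560664379489, 1558917639247447091810,
  766234922596681016645, 411061992474854850818, 2970005036714235872585, 1522293394023745226002,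
  2974561848615986626662, 158627218074959763460, 2808540716644845120025, 1854519293768593971540,
  2981889221599722244162, 1505830772773425942629, 2994756559646563133440, 2527573807505423357526,
  371263359135421393504, 739172878916428784901, 1210965375818087619233, 490569649839406192770,
  689845664646240225413, 1941546943424206760228, 2776906690184512678234, 3104243800041226265157,
  49185545075047306657, 24792775571449922630, 1257340373927770202661, 2510534455105836815488,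
  765634527860467570757, 1589322989200017480072, 3119275434451586394198, 11637767733443560856,
  3072906395861557483153, 1648859131443641206934, 92902972796386811921, 184784491787321753618,
  2808595218358719228482, 373583200546875507713, 747708545544646705256, 1505793264633719638421,
  1569419254036536034985, 3138833463308329451860, 1773848559395582345802, 371630644434109341706,
  3106713954206749846104, 595094001730804091136, 490356794288706226852, 3034507697756835319953,
  1628530425085907001697, 1942142833366107686997, 1257270195230452751017, 176009780014186783749,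
  780818799932802672986, 399319096453823201609, 2851932649554830758278, 1870372673974751617562,
  1808403137844607994145, 2675228995176382944405, 1200774866012331140752, 1781941668134137129493,
  2663543285394541479446, 1643569126521517114454, 92397680103579014154, 9261671954625160784,
  5207403076845183238, 2476576768127190765585, 1798727031476414993738, 176478499209584678146,
  117924861003727651457, 1667135373680908256800, 1964908296462011902309, 2753938824967500619880,
  314893262102143771137, 1192220092407631844773, 1874084709961701165584]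

/-- codes of the elements of `D₁₂` -/
def HL : List ℕ :=
  [1180663682709764194305, 120361385607831093604, 97468742911134423361, 1338835271527136761252,
  2513452375471028544853, 397326989842854291497, 2482897833261263312448, 342535172334055350341,
  387769333758170604938, 1865004100605776136549, 486052196543409297706, 1501719244653257714249]

/-- coset representatives -/
def R (k : ℕ) : M := ofN (RL.getD k 0)
/-- elements of `D₁₂` -/
def H (e : ℕ) : M := ofN (HL.getD e 0)

/-- action of `t` -/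
def TT : List ℕ :=
  [24, 48, 72, 120, 168, 192, 240, 264, 312, 360, 384, 432, 3, 480, 528, 552, 600, 97, 624, 672, 696, 744, 768,
  816, 145, 840, 888, 936, 960, 1008, 1056, 352, 1080, 217, 1128, 1152, 429, 1200, 1248, 474, 582, 289, 1272,
  1320, 1344, 1392, 1416, 1440, 1464, 1488, 1512, 1560, 1126, 988, 1584, 1377, 1632, 505, 1680, 1728, 1776,
  661, 1800, 1848, 1872, 1896, 1046, 721, 1944, 1618, 1303, 1184, 1968, 793, 1992, 2040, 865, 2064, 1760,
  2112, 913, 1243, 2037, 2106, 1722, 1937, 1844, 1553, 2180, 1670, 2156]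

/-- action of `s` -/
def TS : List ℕ :=
  [29, 2, 96, 144, 49, 216, 73, 288, 336, 121, 408, 456, 169, 504, 193, 576, 405, 241, 648, 265, 720, 313, 792,
  574, 361, 864, 912, 433, 984, 1032, 481, 760, 1104, 529, 976, 1176, 601, 1224, 625, 954, 832, 673, 1296,
  697, 1368, 1160, 769, 1284, 1090, 841, 1536, 889, 1477, 1140, 1009, 1608, 1656, 1057, 1704, 1752, 1698,
  1261, 1824, 1529, 1201, 1920, 1598, 1321, 1742, 1345, 1458, 1393, 1646, 1417, 2016, 1918, 1489, 2088, 1963,
  1822, 1561, 1891, 2136, 2160, 1777, 2046, 2115, 1849, 2068, 1969, 1993]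

/-- parent and generator in the tree -/
def P : List ℕ :=
  [0, 0, 2, 4, 5, 6, 7, 8, 10, 11, 12, 14, 15, 16, 17, 18, 20, 21, 22, 23, 26, 27, 28, 30, 31, 32, 36, 37, 38,
  40, 41, 42, 44, 45, 46, 50, 51, 52, 53, 54, 56, 57, 58, 59, 60, 64, 65, 68, 70, 71, 74, 75, 76, 84, 85, 86,
  88, 89, 90, 92, 94, 96, 98, 100, 101, 102, 108, 111, 112, 113, 116, 117, 118, 119, 120, 124, 125, 126, 128,
  130, 131, 136, 144, 148, 149, 150, 154, 155, 158, 165, 167]

/-- the word of the element `s₀` of order 7 -/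
def w0 : ℕ := 17

/-- certificate: coefficient, word, starting point -/
def cert11 : List (ℤ × ℕ × ℕ) :=
  [(1, 1552, 5), (-1, 1, 5), (1, 388, 37), (-1, 401, 18), (1, 784, 1), (1, 24, 8), (-1, 417, 25), (1, 773, 2),
  (-1, 801, 37), (1, 1, 0), (1, 385, 0), (-1, 26, 20), (-1, 2, 1), (1, 400, 2), (-1, 400, 26), (-1, 3109, 18),
  (1, 832, 25), (-1, 3, 8), (-1, 13, 8), (-1, 24, 18), (1, 1664, 18), (1, 3328, 18), (1, 6180, 20), (1, 776,
  37), (-1, 388, 3), (1, 194, 0), (-1, 417, 10), (1, 1600, 0), (1, 386, 10), (1, 401, 25), (1, 48, 1), (-1, 4,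
  7), (-1, 386, 18), (-1, 401, 5), (1, 392, 0), (-1, 48, 20), (1, 98, 5), (1, 50, 0), (-1, 384, 26), (1, 194,
  20), (1, 25, 20), (1, 3109, 25), (1, 3136, 20)]

/-- certificate: coefficient, word, starting point -/
def cert12 : List (ℤ × ℕ × ℕ) :=
  [(-1, 389, 37), (-1, 6180, 5), (-1, 101, 3), (1, 1, 8), (-1, 192, 26), (1, 52, 2), (1, 784, 10), (1, 386, 10),
  (-1, 1553, 3), (-1, 3201, 18), (1, 3077, 5), (-1, 773, 26), (-1, 1538, 1), (-1, 193, 2), (-1, 3333, 2), (1,
  50, 1), (1, 194, 1), (1, 96, 0), (1, 1553, 25), (-1, 200, 3), (-1, 769, 0), (-1, 416, 3), (-1, 1, 20), (1,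
  100, 1), (1, 1554, 26), (-1, 832, 26), (1, 192, 0), (1, 98, 5), (1, 196, 20), (1, 3, 2), (1, 25, 37), (-1,
  2, 5), (-1, 770, 20), (-1, 3076, 2), (1, 104, 18), (1, 3090, 5), (-1, 3333, 5), (1, 773, 2), (1, 3109, 8)]

/-- certificate: coefficient, word, starting point -/
def cert21 : List (ℤ × ℕ × ℕ) :=
  [(-1, 98, 20), (1, 385, 7), (-1, 6153, 5), (-1, 388, 20), (1, 193, 37), (-1, 386, 10), (-1, 1569, 2), (1, 785,
  10), (-1, 1540, 5), (1, 209, 0), (-1, 104, 25), (-1, 96, 0), (-1, 25, 20), (-1, 209, 2), (1, 13, 1), (1,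
  194, 25), (-1, 3, 7), (-1, 389, 25), (1, 193, 10), (1, 6153, 25), (-1, 97, 5), (-1, 1541, 37), (-1, 25, 2),
  (1, 104, 10), (1, 194, 10), (1, 12, 26), (1, 100, 2), (1, 96, 5), (1, 770, 2), (-1, 1669, 8), (-1, 192, 8),
  (1, 1553, 18), (-1, 197, 37), (-1, 196, 37), (-1, 785, 7), (-1, 769, 5), (1, 2, 10), (-1, 25, 37), (-1,
  3076, 10), (-1, 50, 7), (1, 4, 18), (1, 104, 0)]

/-- certificate: coefficient, word, starting point -/
def cert22 : List (ℤ × ℕ × ℕ) :=
  [(1, 48, 20), (1, 1552, 26), (-1, 13, 7), (1, 833, 26), (1, 4, 3), (-1, 773, 1), (1, 209, 5), (-1, 777, 0),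
  (1, 1545, 37), (1, 1, 5), (-1, 3077, 18), (-1, 52, 7), (-1, 1540, 5), (-1, 25, 3), (1, 26, 5), (1, 13, 18),
  (1, 50, 7), (1, 776, 1), (1, 4, 2), (-1, 776, 26), (1, 385, 8), (1, 13, 10), (-1, 3328, 3), (-1, 1552, 0),
  (1, 1540, 2), (1, 1553, 26), (-1, 776, 25), (-1, 1, 26), (-1, 417, 18), (-1, 197, 26), (1, 3328, 37), (1,
  24, 8), (-1, 1666, 18), (1, 772, 37), (-1, 389, 37), (-1, 6153, 10), (-1, 3, 2), (-1, 1553, 25), (1, 196,
  37), (1, 401, 3), (1, 25, 1), (1, 197, 25), (-1, 3, 0), (-1, 48, 0)]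


/-- word from its code -/
def bits : ℕ → ℕ → List Bool
  | 0, _ => []
  | f + 1, n => if n ≤ 1 then [] else (n % 2 == 1) :: bits f (n / 2)

/-- generator -/
def gm (g : Bool) : M := if g then sM else tM

/-- table entry -/
def en (g : Bool) (k : ℕ) : ℕ := if g then TS.getD k 0 else TT.getD k 0

/-- sign change -/
def pm (b : Bool) (A : M) : M := if b then -A else A

private def enF (g : Bool) (k : ℕ) : ℕ :=
  Nat.mod (Nat.shiftRight (Bool.rec 27933555637631256659886106369854446062996213588824365923954395610582433089673956086834582152472941423029937835803918498487150014532936786838238275957266137591131265670263628342806880732002858420053125689425801057677050078043560924958611623030530564196254989193306661595332016103517295120410895387574224206440271323381141801730072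
    25823040842736799291329041319451059149889850086077280774732111062897982398983995297794428625344692281142439090773374217835495820883879209064636438217961546957166532603323979248387683819941739801538614290839995336576617845989386236018980990800389497990918399504441832013715309195173543684504588091545475801107729913927453198262301 g) (Nat.mul 12 k)) 4096

private noncomputable def _root_.Cfsg.Agent.LsF.f68ea40_2 : {f // @Cfsg.Agent.H421.LThirteen.en = f} := ⟨_, by first | (delta Cfsg.Agent.H421.LThirteen.en; rewrite [Cfsg.Agent.LsF.getD_eq, Cfsg.Agent.LsF.dBoolEq_eq, Cfsg.Agent.LsF.ite_eq]; exact rfl) | exact rfl⟩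
private theorem en_eq : en = enF := by
  have h1 : ∀ g : Bool, ∀ k < 91, en g k = enF g k := by (refine of_decide_eq_true ?_; (try (rewrite [Cfsg.Agent.LsF.f68ea40_2.2, Cfsg.Agent.LsF.instDecEq_eq, Cfsg.Agent.LsF.dBallLT_eq, Cfsg.Agent.LsF.decide_eq])); decide +kernel)
  funext g k
  rcases Nat.lt_or_ge k 91 with h | h
  · exact h1 g k h
  · have h2 : ∀ n : ℕ, n < 2 ^ (12 * 91) → Nat.mod (Nat.shiftRight n (Nat.mul 12 k)) 4096 = 0 := fun n hn => by
      show (n >>> (12 * k)) % 4096 = 0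
      rw [Nat.shiftRight_eq_div_pow, Nat.div_eq_of_lt (hn.trans_le (Nat.pow_le_pow_right (by omega) (by omega)))]
    cases g
    · exact (List.getD_eq_default TT 0 h).trans (h2 _ (by decide +kernel)).symm
    · exact (List.getD_eq_default TS 0 h).trans (h2 _ (by decide +kernel)).symm

private theorem tab_chk : ∀ g : Bool, ∀ k < 91,
    AutSix.chk2 (cond g 1328491107914843423840 2435118978655555032592) (RL.getD k 0) (1 + enF g k % 2)
      (RL.getD (enF g k / 24) 0) (HL.getD (enF g k / 2 % 12) 0) = true := by (refine of_decide_eq_true ?_; (try (rewrite [Cfsg.Agent.LsF.nadd_pat, Cfsg.Agent.LsF.ndiv_pat, Cfsg.Agent.LsF.nmod_pat, Cfsg.Agent.LsF.cond_eq, Cfsg.Agent.LsF.getD_eq, Cfsg.Agent.LsF.dBoolEq_eq, Cfsg.Agent.LsF.dBallLT_eq, Cfsg.Agent.LsF.decide_eq])); decide +kernel)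

theorem tab_ok : ∀ g : Bool, ∀ k < 91,
    gm g * R k = pm (en g k % 2 == 1) (R (en g k / 24) * H (en g k / 2 % 12)) := by
  intro g k hk
  have h := AutSix.chk2_spec (tab_chk g k hk)
  have h1 : gm g = AutSix.ofC (cond g 1328491107914843423840 2435118978655555032592) := by cases g <;> rfl
  rw [en_eq, h1]
  refine h.trans ?_
  rcases Nat.mod_two_eq_zero_or_one (enF g k) with h2 | h2 <;> rw [h2]
  · exact one_smul _ _
  · exact neg_one_smul (ZMod 3) _

theorem en_lt : ∀ g : Bool, ∀ k < 91, en g k / 24 < 91 := by rw [en_eq]; decide +kernel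

private noncomputable def _root_.Cfsg.Agent.LsF.f68ea40_3 : {f // @Cfsg.Agent.H421.LThirteen.ofN = f} := ⟨_, by first | (delta Cfsg.Agent.H421.LThirteen.ofN; rewrite [Cfsg.Agent.LsF.nadd_pat, Cfsg.Agent.LsF.nmul_pat, Cfsg.Agent.LsF.nmod_pat, Cfsg.Agent.LsF.nshr_pat, Cfsg.Agent.LsF.zcast_pat]; exact rfl) | exact rfl⟩
private noncomputable def _root_.Cfsg.Agent.LsF.f68ea40_4 : {f // @Cfsg.Agent.H421.LThirteen.H = f} := ⟨_, by first | (delta Cfsg.Agent.H421.LThirteen.H; rewrite [Cfsg.Agent.LsF.f68ea40_3.2, Cfsg.Agent.LsF.getD_eq]; exact rfl) | exact rfl⟩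
private noncomputable def _root_.Cfsg.Agent.LsF.f68ea40_5 : {f // @Cfsg.Agent.H421.LThirteen.cM = f} := ⟨_, by first | (delta Cfsg.Agent.H421.LThirteen.cM; rewrite [Cfsg.Agent.LsF.f68ea40_3.2]; exact rfl) | exact rfl⟩
private noncomputable def _root_.Cfsg.Agent.LsF.f68ea40_6 : {f // @Cfsg.Agent.H421.LThirteen.aM = f} := ⟨_, by first | (delta Cfsg.Agent.H421.LThirteen.aM; rewrite [Cfsg.Agent.LsF.f68ea40_3.2]; exact rfl) | exact rfl⟩
private noncomputable def _root_.Cfsg.Agent.LsF.f68ea40_7 : {f // @Cfsg.Agent.H421.LThirteen.bM = f} := ⟨_, by first | (delta Cfsg.Agent.H421.LThirteen.bM; rewrite [Cfsg.Agent.LsF.f68ea40_3.2]; exact rfl) | exact rfl⟩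
theorem H_ok : ∀ i < 3, ∀ j < 2, ∀ l < 2, H (i + 3 * j + 6 * l) = cM ^ i * aM ^ j * bM ^ l := by (refine of_decide_eq_true ?_; (try (rewrite [Cfsg.Agent.LsF.f68ea40_4.2, Cfsg.Agent.LsF.f68ea40_5.2, Cfsg.Agent.LsF.f68ea40_6.2, Cfsg.Agent.LsF.f68ea40_7.2, Cfsg.Agent.LsF.mpow_pat, Cfsg.Agent.LsF.nadd_pat, Cfsg.Agent.LsF.nmul_pat, Cfsg.Agent.LsF.zdecEq_eq, Cfsg.Agent.LsF.finFintype_eq, Cfsg.Agent.LsF.dMat_eq, Cfsg.Agent.LsF.instMHMul_eq, Cfsg.Agent.LsF.instZMul_pat, Cfsg.Agent.LsF.zACM_pat, Cfsg.Agent.LsF.dFinEq_eq, Cfsg.Agent.LsF.dBallLT_eq, Cfsg.Agent.LsF.decide_eq])); decide +kernel)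

theorem tree_ok : ∀ k < 91, 0 < k → P.getD k 0 / 2 < k ∧ en (P.getD k 0 % 2 == 1) (P.getD k 0 / 2) = 24 * k := by
  (refine of_decide_eq_true ?_; (try (rewrite [Cfsg.Agent.LsF.f68ea40_2.2, Cfsg.Agent.LsF.nmul_pat, Cfsg.Agent.LsF.ndiv_pat, Cfsg.Agent.LsF.nmod_pat, Cfsg.Agent.LsF.nbeq_pat, Cfsg.Agent.LsF.instDecEq_eq, Cfsg.Agent.LsF.decLt_eq, Cfsg.Agent.LsF.getD_eq, Cfsg.Agent.LsF.dAnd_eq, Cfsg.Agent.LsF.dBallLT_eq, Cfsg.Agent.LsF.decide_eq])); decide +kernel)

theorem R_zero : R 0 = 1 := by decide +kernel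

private noncomputable def _root_.Cfsg.Agent.LsF.f68ea40_8 : {f // @Cfsg.Agent.H421.LThirteen.tM = f} := ⟨_, by first | (delta Cfsg.Agent.H421.LThirteen.tM; rewrite [Cfsg.Agent.LsF.f68ea40_3.2]; exact rfl) | exact rfl⟩
theorem t_pow : tM ^ 13 = 1 := by (refine of_decide_eq_true ?_; (try (rewrite [Cfsg.Agent.LsF.f68ea40_8.2, Cfsg.Agent.LsF.mpow_pat, Cfsg.Agent.LsF.zdecEq_eq, Cfsg.Agent.LsF.finFintype_eq, Cfsg.Agent.LsF.dMat_eq, Cfsg.Agent.LsF.instMOne_eq, Cfsg.Agent.LsF.instZMul_pat, Cfsg.Agent.LsF.zACM_pat, Cfsg.Agent.LsF.dFinEq_eq, Cfsg.Agent.LsF.decide_eq])); decide +kernel)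
theorem st_pow : (sM * tM) ^ 3 = 1 := by decide +kernel
theorem at_pow : (aM * tM * tM) ^ 3 = 1 := by (refine of_decide_eq_true ?_; (try (rewrite [Cfsg.Agent.LsF.f68ea40_6.2, Cfsg.Agent.LsF.f68ea40_8.2, Cfsg.Agent.LsF.mpow_pat, Cfsg.Agent.LsF.zdecEq_eq, Cfsg.Agent.LsF.finFintype_eq, Cfsg.Agent.LsF.dMat_eq, Cfsg.Agent.LsF.instMHMul_eq, Cfsg.Agent.LsF.instMOne_eq, Cfsg.Agent.LsF.instZMul_pat, Cfsg.Agent.LsF.zACM_pat, Cfsg.Agent.LsF.dFinEq_eq, Cfsg.Agent.LsF.decide_eq])); decide +kernel)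
theorem bt_pow : (bM * tM * tM) ^ 7 = 1 := by (refine of_decide_eq_true ?_; (try (rewrite [Cfsg.Agent.LsF.f68ea40_7.2, Cfsg.Agent.LsF.f68ea40_8.2, Cfsg.Agent.LsF.mpow_pat, Cfsg.Agent.LsF.zdecEq_eq, Cfsg.Agent.LsF.finFintype_eq, Cfsg.Agent.LsF.dMat_eq, Cfsg.Agent.LsF.instMHMul_eq, Cfsg.Agent.LsF.instMOne_eq, Cfsg.Agent.LsF.instZMul_pat, Cfsg.Agent.LsF.zACM_pat, Cfsg.Agent.LsF.dFinEq_eq, Cfsg.Agent.LsF.decide_eq])); decide +kernel)
theorem c_pow : cM ^ 3 = 1 := by decide +kernel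
theorem a_sq : aM * aM = -1 := by decide +kernel
theorem b_sq : bM * bM = -1 := by decide +kernel
theorem ac : aM * cM = cM * aM := by decide +kernel
theorem cb : cM * bM = bM * (cM * cM) := by decide +kernel
theorem ab : aM * bM = -(bM * aM) := by decide +kernel

/-! ### determinants and the elements -/

theorem det_of_pow {A B : M} (n : ℕ) (hn : ∀ x : ZMod 3, x ^ n = 1 → x = 1) (h : (A * B) ^ n = 1)
    (hB : B.det = 1) : A.det = 1 := by
  apply hn
  have h1 : ((A * B) ^ n).det = 1 := by rw [h, Matrix.det_one]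
  rwa [Matrix.det_pow, Matrix.det_mul, hB, mul_one] at h1

theorem det_t : tM.det = 1 :=
  det_of_pow (B := 1) 13 (by decide) (by rw [mul_one]; exact t_pow) Matrix.det_one

theorem det_s : sM.det = 1 := det_of_pow 3 (by decide) st_pow det_t

theorem det_a : aM.det = 1 :=
  det_of_pow 3 (by decide) (by rw [← mul_assoc]; exact at_pow) (by rw [Matrix.det_mul, det_t, mul_one])

theorem det_b : bM.det = 1 :=
  det_of_pow 7 (by decide) (by rw [← mul_assoc]; exact bt_pow) (by rw [Matrix.det_mul, det_t, mul_one])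

theorem det_c : cM.det = 1 :=
  det_of_pow (B := 1) 3 (by decide) (by rw [mul_one]; exact c_pow) Matrix.det_one

/-- generators -/
def gx (g : Bool) : X := if g then ⟨sM, det_s⟩ else ⟨tM, det_t⟩

theorem gx_coe (g : Bool) : (gx g).1 = gm g := by cases g <;> rfl

/-- the element `a` -/
def aX : X := ⟨aM, det_a⟩
/-- the element `b` -/
def bX : X := ⟨bM, det_b⟩
/-- the element `c` -/
def cX : X := ⟨cM, det_c⟩

theorem exists_r : ∀ k : ℕ, k < 91 → ∃ x : X, x.1 = R k := by
  intro k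
  induction k using Nat.strong_induction_on with
  | _ k ih =>
    intro hk
    rcases Nat.eq_zero_or_pos k with rfl | h0
    · exact ⟨1, by rw [R_zero]; rfl⟩
    · obtain ⟨h1, h2⟩ := tree_ok k hk h0
      obtain ⟨x, hx⟩ := ih _ h1 (h1.trans hk)
      refine ⟨gx (P.getD k 0 % 2 == 1) * x, ?_⟩
      have h3 := tab_ok (P.getD k 0 % 2 == 1) _ (h1.trans hk)
      rw [h2] at h3
      have h4 : (24 * k) / 24 = k := by omega
      have h5 : (24 * k) / 2 % 12 = 0 := by omega
      have h6 : ((24 * k) % 2 == 1) = false := by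
        have : 24 * k % 2 = 0 := by omega
        rw [this]; rfl
      have h7 := H_ok 0 (by norm_num) 0 (by norm_num) 0 (by norm_num)
      rw [h4, h5, h6] at h3
      change (gx _).1 * x.1 = _
      rw [gx_coe, hx, h3]
      change R k * H 0 = R k
      have h8 : H 0 = 1 := by
        have h9 : H (0 + 3 * 0 + 6 * 0) = H 0 := rfl
        rw [← h9, h7]
        simp
      rw [h8, mul_one]

open Classical in
/-- representatives -/
noncomputable def r (k : ℕ) : X := if h : ∃ x : X, x.1 = R k then h.choose else 1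

theorem r_coe {k : ℕ} (hk : k < 91) : (r k).1 = R k := by
  unfold r
  rw [dif_pos (exists_r k hk)]
  exact (exists_r k hk).choose_spec

theorem r_zero : r 0 = 1 := by
  apply Subtype.ext
  rw [r_coe (by norm_num), R_zero]
  rfl

/-- elements of `D₁₂` -/
def hx (e : ℕ) : X := cX ^ (e % 3) * aX ^ (e / 3 % 2) * bX ^ (e / 6)

theorem hx_coe {e : ℕ} (he : e < 12) : (hx e).1 = H e := by
  have h := H_ok (e % 3) (by omega) (e / 3 % 2) (by omega) (e / 6) (by omega)
  have h1 : e % 3 + 3 * (e / 3 % 2) + 6 * (e / 6) = e := by (clear * -; solve | lia | omega)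
  rw [h1] at h
  rw [h]
  unfold hx
  rw [Matrix.SpecialLinearGroup.coe_mul, Matrix.SpecialLinearGroup.coe_mul, Matrix.SpecialLinearGroup.coe_pow,
    Matrix.SpecialLinearGroup.coe_pow, Matrix.SpecialLinearGroup.coe_pow]
  rfl

/-! ### modules -/

section

variable {V : Type*} [AddCommGroup V] (ρ : X →* AddMonoid.End V)

theorem mul_ap (f g : AddMonoid.End V) (u : V) : (f * g) u = f (g u) := rfl

/-- `-1` acts trivially -/
def Even1 : Prop := ∀ x y : X, x.1 = -y.1 → ρ x = ρ y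

variable {ρ}

theorem rho_gen (hρ : Even1 ρ) (g : Bool) {k : ℕ} (hk : k < 91) :
    ρ (gx g * r k) = ρ (r (en g k / 24) * hx (en g k / 2 % 12)) := by
  have h := tab_ok g k hk
  have h1 : (gx g * r k).1 = gm g * R k := by
    rw [Matrix.SpecialLinearGroup.coe_mul]
    change (gx g).1 * (r k).1 = _
    rw [gx_coe, r_coe hk]
  have h2 : (r (en g k / 24) * hx (en g k / 2 % 12)).1 = R (en g k / 24) * H (en g k / 2 % 12) := by
    rw [Matrix.SpecialLinearGroup.coe_mul]
    change (r _).1 * (hx _).1 = _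
    rw [r_coe (en_lt g k hk), hx_coe (Nat.mod_lt _ (by norm_num))]
  cases hb : (en g k % 2 == 1) with
  | false =>
    rw [hb] at h
    rw [show gx g * r k = r (en g k / 24) * hx (en g k / 2 % 12) from
      Subtype.ext (by rw [h1, h2, h]; rfl)]
  | true =>
    rw [hb] at h
    exact hρ _ _ (by rw [h1, h2, h]; rfl)

/-- eigenvector -/
structure Ev (ρ : X →* AddMonoid.End V) (al be : ℤ) (v : V) : Prop where
  c : ρ cX v = v
  a : ρ aX v = al • v
  b : ρ bX v = be • v

theorem pow_smul_eq (x : X) (z : ℤ) {v : V} (h : ρ x v = z • v) (n : ℕ) : ρ (x ^ n) v = z ^ n • v := by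
  induction n with
  | zero => simp
  | succ n ih => rw [pow_succ, map_mul, mul_ap, h, map_zsmul, ih, ← mul_smul, pow_succ, mul_comm]

theorem Ev.hx {al be : ℤ} {v : V} (hv : Ev ρ al be v) (e : ℕ) :
    ρ (hx e) v = (al ^ (e / 3 % 2) * be ^ (e / 6)) • v := by
  have hc : ρ (cX ^ (e % 3)) v = v := by
    have := pow_smul_eq (ρ := ρ) (v := v) cX 1 (by rw [one_smul]; exact hv.c) (e % 3)
    rwa [one_pow, one_smul] at this
  unfold LThirteen.hx
  rw [map_mul, map_mul, mul_ap, mul_ap, pow_smul_eq bX be hv.b, map_zsmul,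
    pow_smul_eq aX al hv.a, map_zsmul, map_zsmul, hc, ← mul_smul, mul_comm]

/-- one step -/
def act1 (al be : ℤ) (g : Bool) (st : ℕ × ℤ) : ℕ × ℤ :=
  (en g st.1 / 24, st.2 * (al ^ (en g st.1 / 2 % 12 / 3 % 2) * be ^ (en g st.1 / 2 % 12 / 6)))

/-- action of a word -/
def actw (al be : ℤ) (w : List Bool) (st : ℕ × ℤ) : ℕ × ℤ := w.foldr (act1 al be) st

/-- the vector of a state -/
noncomputable def vec (ρ : X →* AddMonoid.End V) (v : V) (st : ℕ × ℤ) : V := st.2 • ρ (r st.1) v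

theorem act1_spec (hρ : Even1 ρ) {al be : ℤ} {v : V} (hv : Ev ρ al be v) (g : Bool) {st : ℕ × ℤ} (h : st.1 < 91) :
    ρ (gx g) (vec ρ v st) = vec ρ v (act1 al be g st) ∧ (act1 al be g st).1 < 91 := by
  refine ⟨?_, en_lt g _ h⟩
  unfold vec act1
  rw [map_zsmul, ← mul_ap, ← map_mul, rho_gen hρ g h, map_mul, mul_ap,
    hv.hx, map_zsmul, ← mul_smul]

/-- the element of a word -/
def wordX (w : List Bool) : X := (w.map gx).prod

theorem actw_spec (hρ : Even1 ρ) {al be : ℤ} {v : V} (hv : Ev ρ al be v) (w : List Bool) {st : ℕ × ℤ}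
    (h : st.1 < 91) : ρ (wordX w) (vec ρ v st) = vec ρ v (actw al be w st) ∧ (actw al be w st).1 < 91 := by
  induction w with
  | nil => exact ⟨by simp [wordX, actw], h⟩
  | cons g w ih =>
    obtain ⟨h1, h2⟩ := act1_spec hρ hv g ih.2
    refine ⟨?_, h2⟩
    unfold wordX
    rw [List.map_cons, List.prod_cons, map_mul, mul_ap]
    have h3 : ρ (List.map gx w).prod (vec ρ v st) = vec ρ v (actw al be w st) := ih.1
    rw [h3, h1]
    rfl

/-- the element of order 7 -/
def s0 : X := wordX (bits 20 w0)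

theorem s0_coe : s0.1 = (sM * tM) * (tM * tM) := by
  have h : bits 20 w0 = [true, false, false, false] := by decide +kernel
  unfold s0 wordX
  rw [h]
  simp only [List.map_cons, List.map_nil, List.prod_cons, List.prod_nil, mul_one, Matrix.SpecialLinearGroup.coe_mul]
  rw [← Matrix.mul_assoc]
  rfl

private noncomputable def _root_.Cfsg.Agent.LsF.f68ea40_9 : {f // @Cfsg.Agent.H421.LThirteen.sM = f} := ⟨_, by first | (delta Cfsg.Agent.H421.LThirteen.sM; rewrite [Cfsg.Agent.LsF.f68ea40_3.2]; exact rfl) | exact rfl⟩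
theorem s0_aux : ((sM * tM) * (tM * tM)) ^ 7 = 1 ∧ (sM * tM) * (tM * tM) ≠ 1 := by (refine of_decide_eq_true ?_; (try (rewrite [Cfsg.Agent.LsF.f68ea40_9.2, Cfsg.Agent.LsF.f68ea40_8.2, Cfsg.Agent.LsF.mpow_pat, Cfsg.Agent.LsF.zdecEq_eq, Cfsg.Agent.LsF.finFintype_eq, Cfsg.Agent.LsF.dMat_eq, Cfsg.Agent.LsF.instMHMul_eq, Cfsg.Agent.LsF.instMOne_eq, Cfsg.Agent.LsF.instZMul_pat, Cfsg.Agent.LsF.zACM_pat, Cfsg.Agent.LsF.dAnd_eq, Cfsg.Agent.LsF.dNot_eq, Cfsg.Agent.LsF.dFinEq_eq, Cfsg.Agent.LsF.decide_eq])); decide +kernel)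

theorem s0_pow : s0 ^ 7 = 1 := by
  apply Subtype.ext
  rw [Matrix.SpecialLinearGroup.coe_pow]
  have h : (s0 : M) = (sM * tM) * (tM * tM) := s0_coe
  rw [h]
  exact s0_aux.1

theorem s0_ne : s0 ≠ 1 := by
  intro h
  apply s0_aux.2
  rw [← s0_coe, h]
  rfl

/-- the terms of one relation -/
def rterms (al be : ℤ) (c : ℤ × ℕ × ℕ) : List (ℕ × ℤ) :=
  (List.range 7).map fun i => actw al be (bits 20 c.2.1) ((actw al be (bits 20 w0))^[i] (c.2.2, c.1))

/-- all terms -/
def terms (al be : ℤ) (l : List (ℤ × ℕ × ℕ)) : List (ℕ × ℤ) := l.flatMap (rterms al be)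

theorem iter_spec (hρ : Even1 ρ) {al be : ℤ} {v : V} (hv : Ev ρ al be v) {st : ℕ × ℤ} (h : st.1 < 91) (i : ℕ) :
    ρ (s0 ^ i) (vec ρ v st) = vec ρ v ((actw al be (bits 20 w0))^[i] st) ∧
      ((actw al be (bits 20 w0))^[i] st).1 < 91 := by
  induction i with
  | zero => exact ⟨by simp, h⟩
  | succ i ih =>
    rw [Function.iterate_succ_apply']
    obtain ⟨h1, h2⟩ := actw_spec hρ hv (bits 20 w0) ih.2
    refine ⟨?_, h2⟩
    rw [pow_succ', map_mul, mul_ap, ih.1]
    exact h1

theorem sum_orbit (h7 : ∀ x : X, x ^ 7 = 1 → x ≠ 1 → ∀ v, ρ x v = v → v = 0) (u : V) :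
    ((List.range 7).map fun i => ρ (s0 ^ i) u).sum = 0 := by
  apply h7 s0 s0_pow s0_ne
  have h1 : ρ (s0 ^ 7) u = u := by rw [s0_pow, map_one]; rfl
  rw [map_list_sum]
  simp only [List.range_succ, List.range_zero, List.nil_append, List.cons_append, List.map_cons, List.map_nil,
    List.sum_cons, List.sum_nil]
  simp only [← mul_ap, ← map_mul, ← pow_succ']
  norm_num only at *
  rw [h1]
  simp only [pow_zero, map_one, AddMonoid.End.one_apply]
  abel

theorem rterms_lt {al be : ℤ} {v : V} (hρ : Even1 ρ) (hv : Ev ρ al be v) {c : ℤ × ℕ × ℕ} (hc : c.2.2 < 91)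
    {p : ℕ × ℤ} (hp : p ∈ rterms al be c) : p.1 < 91 := by
  obtain ⟨i, -, rfl⟩ := List.mem_map.1 hp
  exact (actw_spec hρ hv _ (iter_spec hρ hv (st := (c.2.2, c.1)) hc i).2).2

theorem rterms_sum (h7 : ∀ x : X, x ^ 7 = 1 → x ≠ 1 → ∀ v, ρ x v = v → v = 0) {al be : ℤ} {v : V} (hρ : Even1 ρ)
    (hv : Ev ρ al be v) {c : ℤ × ℕ × ℕ} (hc : c.2.2 < 91) : ((rterms al be c).map (vec ρ v)).sum = 0 := by
  have h1 : (rterms al be c).map (vec ρ v) =
      ((List.range 7).map fun i => ρ (s0 ^ i) (vec ρ v (c.2.2, c.1))).map (ρ (wordX (bits 20 c.2.1))) := by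
    unfold rterms
    rw [List.map_map, List.map_map]
    apply List.map_congr_left
    intro i _
    simp only [Function.comp]
    obtain ⟨h2, h3⟩ := iter_spec hρ hv (st := (c.2.2, c.1)) hc i
    rw [h2, (actw_spec hρ hv _ h3).1]
  rw [h1, ← map_list_sum, sum_orbit h7, map_zero]

/-- the coefficient of the `k`-th vector -/
def cs (l : List (ℕ × ℤ)) (k : ℕ) : ℤ := l.foldr (fun p a => if p.1 = k then p.2 + a else a) 0

theorem sum_eq_cs (v : V) {l : List (ℕ × ℤ)} (hl : ∀ p ∈ l, p.1 < 91) :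
    (l.map (vec ρ v)).sum = ∑ k ∈ Finset.range 91, cs l k • ρ (r k) v := by
  induction l with
  | nil => simp [cs]
  | cons p l ih =>
    have h0 : p.1 ∈ Finset.range 91 := Finset.mem_range.2 (hl p List.mem_cons_self)
    have h1 : ∀ k ∈ Finset.range 91, cs (p :: l) k • ρ (r k) v =
        (if p.1 = k then p.2 • ρ (r k) v else 0) + cs l k • ρ (r k) v := by
      intro k _
      have h2 : cs (p :: l) k = if p.1 = k then p.2 + cs l k else cs l k := rfl
      rw [h2]
      split_ifs with h3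
      · rw [add_smul]
      · rw [zero_add]
    rw [List.map_cons, List.sum_cons, ih fun q hq => hl q (List.mem_cons_of_mem _ hq), Finset.sum_congr rfl h1,
      Finset.sum_add_distrib, Finset.sum_ite_eq, if_pos h0]
    rfl

/-- the check of a certificate -/
def ok (al be : ℤ) (l : List (ℤ × ℕ × ℕ)) : Bool :=
  l.all (fun c => decide (c.2.2 < 91)) &&
    (List.range 91).all fun k => cs (terms al be l) k % 3 == if k = 0 then 1 else 0

theorem eq_zero_of_ok (h3 : ∀ v : V, (3 : ℤ) • v = 0) (hρ : Even1 ρ)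
    (h7 : ∀ x : X, x ^ 7 = 1 → x ≠ 1 → ∀ v, ρ x v = v → v = 0) {al be : ℤ} {v : V} (hv : Ev ρ al be v)
    {l : List (ℤ × ℕ × ℕ)} (hl : ok al be l = true) : v = 0 := by
  unfold ok at hl
  rw [Bool.and_eq_true, List.all_eq_true, List.all_eq_true] at hl
  have h0 : ∀ c ∈ l, c.2.2 < 91 := fun c hc => of_decide_eq_true (hl.1 c hc)
  have h1 : ((terms al be l).map (vec ρ v)).sum = 0 := by
    unfold terms
    rw [List.map_flatMap, List.flatMap_def, List.sum_flatten, List.map_map]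
    apply List.sum_eq_zero
    intro x hx
    obtain ⟨c, hc, rfl⟩ := List.mem_map.1 hx
    exact rterms_sum h7 hρ hv (h0 c hc)
  have h2 : ∀ p ∈ terms al be l, p.1 < 91 := by
    intro p hp
    obtain ⟨c, hc, hp'⟩ := List.mem_flatMap.1 hp
    exact rterms_lt hρ hv (h0 c hc) hp'
  rw [sum_eq_cs v h2] at h1
  have h4 : ∀ k ∈ Finset.range 91, cs (terms al be l) k • ρ (r k) v = if 0 = k then v else 0 := by
    intro k hk
    have h5 := hl.2 k (List.mem_range.2 (Finset.mem_range.1 hk))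
    have h6 : cs (terms al be l) k % 3 = if k = 0 then 1 else 0 := by
      simpa using h5
    have h7' : cs (terms al be l) k = 3 * (cs (terms al be l) k / 3) + cs (terms al be l) k % 3 :=
      (Int.mul_ediv_add_emod _ _).symm
    rw [h7', h6, add_smul, mul_comm, mul_smul, h3, smul_zero, zero_add]
    split_ifs with h8 h9 h9
    · subst h8
      rw [r_zero, map_one, one_smul]
      rfl
    · exact absurd h8.symm h9
    · exact absurd h9.symm h8
    · rw [zero_smul]
  rw [Finset.sum_congr rfl h4, Finset.sum_ite_eq, if_pos (Finset.mem_range.2 (by norm_num))] at h1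
  exact h1

end

private noncomputable def act1F (al be : ℤ) (g : Bool) (st : ℕ × ℤ) : ℕ × ℤ :=
  (Nat.div (enF g st.1) 24, Nat.rec st.2 (fun m _ => Nat.rec (Int.mul st.2 al) (fun m _ =>
    Nat.rec (Int.mul st.2 be) (fun _ _ => Int.mul st.2 (Int.mul al be)) m) m) (Nat.mod (Nat.div (enF g st.1) 6) 4))

private theorem act1_eq : act1 = act1F := by
  funext al be g st
  delta act1 act1F
  rewrite [en_eq]
  generalize enF g st.1 = e
  refine congrArg (Prod.mk _) ?_
  have h : e / 6 % 4 = 0 ∨ e / 6 % 4 = 1 ∨ e / 6 % 4 = 2 ∨ e / 6 % 4 = 3 := by omega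
  have h0 : Nat.mod (Nat.div e 6) 4 = e / 6 % 4 := rfl
  rw [h0]
  rcases h with h | h | h | h <;> rw [h]
  · rw [show e / 2 % 12 / 3 % 2 = 0 by (clear * - h; solve | lia | omega), show e / 2 % 12 / 6 = 0 by (clear * - h; solve | lia | omega), pow_zero, pow_zero, mul_one, mul_one]
    rfl
  · rw [show e / 2 % 12 / 3 % 2 = 1 by (clear * - h; solve | lia | omega), show e / 2 % 12 / 6 = 0 by (clear * - h; solve | lia | omega), pow_one, pow_zero, mul_one]
    rfl
  · rw [show e / 2 % 12 / 3 % 2 = 0 by (clear * - h; solve | lia | omega), show e / 2 % 12 / 6 = 1 by (solve | lia | omega), pow_one, pow_zero, one_mul]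
    rfl
  · rw [show e / 2 % 12 / 3 % 2 = 1 by (clear * - h; solve | lia | omega), show e / 2 % 12 / 6 = 1 by (clear * - h; solve | lia | omega), pow_one, pow_one]
    rfl

private noncomputable def csF (l : List (ℕ × ℤ)) (k : ℕ) : ℤ :=
  List.rec 0 (fun p _ a => Bool.rec a (Int.add p.2 a) (Nat.beq p.1 k)) l

private theorem cs_eq : cs = csF := by
  funext l k
  induction l with
  | nil => rfl
  | cons p l ih =>
    show (if p.1 = k then p.2 + cs l k else cs l k) = Bool.rec (csF l k) (p.2 + csF l k) (Nat.beq p.1 k)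
    rw [ih]
    split_ifs with h
    · rw [h, Nat.beq_refl]
    · rw [Bool.eq_false_iff.2 fun e => h (Nat.eq_of_beq_eq_true e)]

private noncomputable def fN (n : ℕ) (K : ℕ → Bool) : Bool := Nat.rec (K 0) (fun m _ => K (Nat.succ m)) n

private theorem fN_eq (n : ℕ) (K : ℕ → Bool) : fN n K = K n := by cases n <;> rfl

/-- the list is evaluated before it is used -/
private noncomputable def force (l : List (ℕ × ℤ)) : (List (ℕ × ℤ) → Bool) → Bool :=
  List.rec (fun K => K []) (fun p _ ih K => fN p.1 fun a => Int.rec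
    (fun n => fN n fun n => ih fun L => K ((a, Int.ofNat n) :: L))
    (fun n => fN n fun n => ih fun L => K ((a, Int.negSucc n) :: L)) p.2) l

private theorem force_eq (l : List (ℕ × ℤ)) : ∀ K, force l K = K l := by
  induction l with
  | nil => intro K; rfl
  | cons p l ih =>
    intro K
    obtain ⟨a, z⟩ := p
    cases z with
    | ofNat n =>
      show (fN a fun a => fN n fun n => force l fun L => K ((a, Int.ofNat n) :: L)) = _
      rw [fN_eq, fN_eq, ih]
    | negSucc n =>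
      show (fN a fun a => fN n fun n => force l fun L => K ((a, Int.negSucc n) :: L)) = _
      rw [fN_eq, fN_eq, ih]

private theorem ok_eq (al be : ℤ) (l : List (ℤ × ℕ × ℕ)) : ok al be l = (l.all (fun c => decide (c.2.2 < 91)) &&
    force (terms al be l) fun L => (List.range 91).all fun k => csF L k % 3 == if k = 0 then 1 else 0) := by
  rw [force_eq, ← cs_eq]
  rfl

private noncomputable def _root_.Cfsg.Agent.LsF.f68ea40_10 : {f // @Cfsg.Agent.H421.LThirteen.act1F = f} := ⟨_, by first | (delta Cfsg.Agent.H421.LThirteen.act1F; rewrite [Cfsg.Agent.LsF.imul_eq]; exact rfl) | exact rfl⟩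
private noncomputable def _root_.Cfsg.Agent.LsF.f68ea40_11 : {f // @Cfsg.Agent.H421.LThirteen.bits = f} := ⟨_, by first | (delta Cfsg.Agent.H421.LThirteen.bits Cfsg.Agent.H421.LThirteen.bits._f Nat.brecOn.go Nat.brecOn; rewrite [Cfsg.Agent.LsF.ndiv_pat, Cfsg.Agent.LsF.nmod_pat, Cfsg.Agent.LsF.nbeq_pat, Cfsg.Agent.LsF.decLe_eq, Cfsg.Agent.LsF.ite_eq]; (try delta Cfsg.Agent.H421.LThirteen.bits.match_1); (try delta Nat.casesOn); first | dsimp -zeta only | exact rfl) | exact rfl⟩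
private noncomputable def _root_.Cfsg.Agent.LsF.f68ea40_12 : {f // @Cfsg.Agent.H421.LThirteen.csF = f} := ⟨_, by first | (delta Cfsg.Agent.H421.LThirteen.csF; rewrite [Cfsg.Agent.LsF.iadd_eq]; exact rfl) | exact rfl⟩
theorem ok11 : ok 1 1 cert11 = true := by
  rewrite [ok_eq]
  delta terms rterms actw
  rewrite [act1_eq]
  ((try (rewrite [Cfsg.Agent.LsF.f68ea40_10.2, Cfsg.Agent.LsF.f68ea40_11.2, Cfsg.Agent.LsF.f68ea40_12.2, Cfsg.Agent.LsF.imod_pat, Cfsg.Agent.LsF.ibeq_pat, Cfsg.Agent.LsF.iterate_eq, Cfsg.Agent.LsF.and_eq, Cfsg.Agent.LsF.instDecEq_eq, Cfsg.Agent.LsF.decLt_eq, Cfsg.Agent.LsF.all_eq, Cfsg.Agent.LsF.map_eq, Cfsg.Agent.LsF.foldr_eq, Cfsg.Agent.LsF.flatMap_eq, Cfsg.Agent.LsF.range_eq, Cfsg.Agent.LsF.ite_eq, Cfsg.Agent.LsF.decide_eq])); decide +kernel)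
theorem ok12 : ok 1 (-1) cert12 = true := by
  rewrite [ok_eq]
  delta terms rterms actw
  rewrite [act1_eq]
  ((try (rewrite [Cfsg.Agent.LsF.f68ea40_10.2, Cfsg.Agent.LsF.f68ea40_11.2, Cfsg.Agent.LsF.f68ea40_12.2, Cfsg.Agent.LsF.imod_pat, Cfsg.Agent.LsF.ineg_pat, Cfsg.Agent.LsF.ibeq_pat, Cfsg.Agent.LsF.iterate_eq, Cfsg.Agent.LsF.and_eq, Cfsg.Agent.LsF.instDecEq_eq, Cfsg.Agent.LsF.decLt_eq, Cfsg.Agent.LsF.all_eq, Cfsg.Agent.LsF.map_eq, Cfsg.Agent.LsF.foldr_eq, Cfsg.Agent.LsF.flatMap_eq, Cfsg.Agent.LsF.range_eq, Cfsg.Agent.LsF.ite_eq, Cfsg.Agent.LsF.decide_eq])); decide +kernel)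
theorem ok21 : ok (-1) 1 cert21 = true := by
  rewrite [ok_eq]
  delta terms rterms actw
  rewrite [act1_eq]
  ((try (rewrite [Cfsg.Agent.LsF.f68ea40_10.2, Cfsg.Agent.LsF.f68ea40_11.2, Cfsg.Agent.LsF.f68ea40_12.2, Cfsg.Agent.LsF.imod_pat, Cfsg.Agent.LsF.ineg_pat, Cfsg.Agent.LsF.ibeq_pat, Cfsg.Agent.LsF.iterate_eq, Cfsg.Agent.LsF.and_eq, Cfsg.Agent.LsF.instDecEq_eq, Cfsg.Agent.LsF.decLt_eq, Cfsg.Agent.LsF.all_eq, Cfsg.Agent.LsF.map_eq, Cfsg.Agent.LsF.foldr_eq, Cfsg.Agent.LsF.flatMap_eq, Cfsg.Agent.LsF.range_eq, Cfsg.Agent.LsF.ite_eq, Cfsg.Agent.LsF.decide_eq])); decide +kernel)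
theorem ok22 : ok (-1) (-1) cert22 = true := by
  rewrite [ok_eq]
  delta terms rterms actw
  rewrite [act1_eq]
  ((try (rewrite [Cfsg.Agent.LsF.f68ea40_10.2, Cfsg.Agent.LsF.f68ea40_11.2, Cfsg.Agent.LsF.f68ea40_12.2, Cfsg.Agent.LsF.imod_pat, Cfsg.Agent.LsF.ineg_pat, Cfsg.Agent.LsF.ibeq_pat, Cfsg.Agent.LsF.iterate_eq, Cfsg.Agent.LsF.and_eq, Cfsg.Agent.LsF.instDecEq_eq, Cfsg.Agent.LsF.decLt_eq, Cfsg.Agent.LsF.all_eq, Cfsg.Agent.LsF.map_eq, Cfsg.Agent.LsF.foldr_eq, Cfsg.Agent.LsF.flatMap_eq, Cfsg.Agent.LsF.range_eq, Cfsg.Agent.LsF.ite_eq, Cfsg.Agent.LsF.decide_eq])); decide +kernel)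

section

variable {V : Type*} [AddCommGroup V] {ρ : X →* AddMonoid.End V}

/-- **No module in characteristic 3 on which the elements of order 7 act fixed-point-freely.** -/
theorem main (h3 : ∀ v : V, (3 : ℤ) • v = 0) (hρ : Even1 ρ)
    (h7 : ∀ x : X, x ^ 7 = 1 → x ≠ 1 → ∀ v, ρ x v = v → v = 0) (v : V) : v = 0 := by
  by_contra hv
  have h3' : ∀ v : V, v + v + v = 0 := by
    intro v
    have := h3 v
    rwa [show (3 : ℤ) = 1 + 1 + 1 by norm_num, add_smul, add_smul, one_smul] at this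
  -- a vector fixed by `c`
  have hc3 : ρ cX * ρ cX * ρ cX = 1 := by
    rw [← map_mul, ← map_mul]
    have : cX * cX * cX = 1 := by
      apply Subtype.ext
      change (cM * cM * cM : M) = 1
      rw [← c_pow, pow_succ, pow_two]
    rw [this, map_one]
  have hc3' : ∀ w, ρ cX (ρ cX (ρ cX w)) = w := fun w => by
    have := DFunLike.congr_fun hc3 w
    simpa only [mul_ap, _root_.AddMonoid.End.coe_one, _root_.id_eq] using this
  obtain ⟨w, hw0, hw⟩ : ∃ w : V, w ≠ 0 ∧ ρ cX w = w := by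
    by_cases h1 : ρ cX v - v = 0
    · exact ⟨v, hv, sub_eq_zero.1 h1⟩
    · by_cases h2 : ρ cX (ρ cX v - v) - (ρ cX v - v) = 0
      · exact ⟨_, h1, sub_eq_zero.1 h2⟩
      · refine ⟨_, h2, ?_⟩
        rw [← sub_eq_zero]
        simp only [map_sub, hc3']
        have h4 := h3' (ρ cX v)
        have h5 := h3' (ρ cX (ρ cX v))
        have h6 : v - ρ cX (ρ cX v) - (ρ cX (ρ cX v) - ρ cX v) - (ρ cX (ρ cX v) - ρ cX v - (ρ cX v - v)) =
            (ρ cX v + ρ cX v + ρ cX v) - (ρ cX (ρ cX v) + ρ cX (ρ cX v) + ρ cX (ρ cX v)) := by abel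
        rw [h6, h4, h5, sub_zero]
  have hsplit : ∀ (x : X), (∀ u, ρ x (ρ x u) = u) → ∀ (p : V → Prop), (∀ u, p u → p (ρ x u)) →
      (∀ u u', p u → p u' → p (u + u')) → (∀ u, p u → p (-u)) → ∀ u, u ≠ 0 → p u →
      ∃ (e : ℤ) (u' : V), (e = 1 ∨ e = -1) ∧ u' ≠ 0 ∧ p u' ∧ ρ x u' = e • u' := by
    intro x hx p hp1 hp2 hp3 u hu hpu
    by_cases h1 : u + ρ x u = 0
    · refine ⟨-1, u, Or.inr rfl, hu, hpu, ?_⟩
      rw [neg_one_smul]
      exact (neg_eq_of_add_eq_zero_right h1).symm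
    · refine ⟨1, u + ρ x u, Or.inl rfl, h1, hp2 _ _ hpu (hp1 _ hpu), ?_⟩
      rw [map_add, hx, one_smul, add_comm]
  have hneg : ∀ x y : X, x.1 = -y.1 → ρ x = ρ y := hρ
  have haa : ∀ u, ρ aX (ρ aX u) = u := by
    intro u
    rw [← mul_ap, ← map_mul, hneg (aX * aX) 1 (by
      change aM * aM = -(1 : M); exact a_sq), map_one]
    rfl
  have hbb : ∀ u, ρ bX (ρ bX u) = u := by
    intro u
    rw [← mul_ap, ← map_mul, hneg (bX * bX) 1 (by
      change bM * bM = -(1 : M); exact b_sq), map_one]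
    rfl
  have hac : ρ aX * ρ cX = ρ cX * ρ aX := by
    rw [← map_mul, ← map_mul, show aX * cX = cX * aX from Subtype.ext ac]
  have hcb : ρ cX * ρ bX = ρ bX * (ρ cX * ρ cX) := by
    rw [← map_mul, ← map_mul, ← map_mul, show cX * bX = bX * (cX * cX) from Subtype.ext cb]
  have hab : ρ aX * ρ bX = ρ bX * ρ aX := by
    rw [← map_mul, ← map_mul]
    exact hneg _ _ ab
  -- `a`
  obtain ⟨al, w1, hal, hw1, hw1c, hw1a⟩ := hsplit aX haa (fun u => ρ cX u = u)
    (fun u hu => by
      have := DFunLike.congr_fun hac u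
      simp only [mul_ap] at this
      rw [← this, hu])
    (fun u u' hu hu' => by rw [map_add, hu, hu']) (fun u hu => by rw [map_neg, hu]) w hw0 hw
  obtain ⟨be, w2, hbe, hw2, ⟨hw2c, hw2a⟩, hw2b⟩ := hsplit bX hbb (fun u => ρ cX u = u ∧ ρ aX u = al • u)
    (fun u hu => by
      have h1 := DFunLike.congr_fun hcb u
      have h2 := DFunLike.congr_fun hab u
      simp only [mul_ap] at h1 h2
      exact ⟨by rw [h1, hu.1, hu.1], by rw [h2, hu.2, map_zsmul]⟩)
    (fun u u' hu hu' => ⟨by rw [map_add, hu.1, hu'.1], by rw [map_add, hu.2, hu'.2, smul_add]⟩)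
    (fun u hu => ⟨by rw [map_neg, hu.1], by rw [map_neg, hu.2, smul_neg]⟩) w1 hw1 ⟨hw1c, hw1a⟩
  apply hw2
  have hE : Ev ρ al be w2 := ⟨hw2c, hw2a, hw2b⟩
  rcases hal with rfl | rfl <;> rcases hbe with rfl | rfl
  · exact eq_zero_of_ok h3 hρ h7 hE ok11
  · exact eq_zero_of_ok h3 hρ h7 hE ok12
  · exact eq_zero_of_ok h3 hρ h7 hE ok21
  · exact eq_zero_of_ok h3 hρ h7 hE ok22

end

end Cfsg.Agent.H421.LThirteen
end

-- part: H421/SixK
section
/-!
# Groups with the prime graph of `PSL₆(3)`: the solvable radical is trivial (helper421)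

`six_K` : in the situation of `six_section`, `K = 1`.
-/

set_option autoImplicit false

namespace Cfsg.Agent.H421.Six

open Cfsg Cfsg.Agent.H421.Act Cfsg.Agent.OrdDiv Cfsg.Agent.H421.Blk Cfsg.Agent.H421.Rows

universe u

/-- the group `SL₆(3)` -/
abbrev X6 := Matrix.SpecialLinearGroup (Fin 6) (ZMod 3)

/-- an element of order 11 -/
def y6 : X6 := slBlk 0 ys

theorem ys_pow : ys ^ 11 = 1 := Subtype.ext (by
  rw [Matrix.SpecialLinearGroup.coe_pow]; exact Y5_pow)

theorem y6_pow : y6 ^ 11 = 1 := by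
  unfold y6
  rw [slBlk_pow, ys_pow, slBlk_one]

private noncomputable def _root_.Cfsg.Agent.LsF.f68ea40_13 : {f // @Cfsg.Agent.H421.Rows.Y5 = f} := ⟨_, by first | (delta Cfsg.Agent.H421.Rows.Y5; rewrite [Cfsg.Agent.LsF.mof_pat, Cfsg.Agent.LsF.vecCons_eq]; exact rfl) | exact rfl⟩
theorem Y5_fix : ∀ v : Fin 5 → ZMod 3, Y5.mulVec v = v → v = 0 := by (refine of_decide_eq_true ?_; (try (rewrite [Cfsg.Agent.LsF.f68ea40_13.2, Cfsg.Agent.LsF.zdecEq_eq, Cfsg.Agent.LsF.finFintype_eq, Cfsg.Agent.LsF.zFintype_eq, Cfsg.Agent.LsF.dForall_eq, Cfsg.Agent.LsF.dPi_eq, Cfsg.Agent.LsF.mulVec_eq, Cfsg.Agent.LsF.dFinEq_eq, Cfsg.Agent.LsF.decide_eq])); decide +kernel)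

theorem Y5_fix_pow {i : ℕ} (h0 : 0 < i) (h1 : i < 11) {v : Fin 5 → ZMod 3} (h : (Y5 ^ i).mulVec v = v) : v = 0 := by
  have hj : ∀ j : ℕ, (Y5 ^ (i * j)).mulVec v = v := by
    intro j
    induction j with
    | zero => simp
    | succ j ih => rw [Nat.mul_succ, pow_add, ← Matrix.mulVec_mulVec, h, ih]
  have h2 : ∃ j : ℕ, i * j % 11 = 1 := by
    interval_cases i
    · exact ⟨1, rfl⟩
    · exact ⟨6, rfl⟩
    · exact ⟨4, rfl⟩
    · exact ⟨3, rfl⟩
    · exact ⟨9, rfl⟩
    · exact ⟨2, rfl⟩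
    · exact ⟨8, rfl⟩
    · exact ⟨7, rfl⟩
    · exact ⟨5, rfl⟩
    · exact ⟨10, rfl⟩
  obtain ⟨j, hj1⟩ := h2
  have h3 := hj j
  rw [← Nat.div_add_mod (i * j) 11, hj1, pow_add, pow_mul, Y5_pow, one_pow, one_mul, pow_one] at h3
  exact Y5_fix v h3

/-- the translation group of order `3⁵` -/
def A6 : Subgroup X6 := (transl (R := ZMod 3) (n := 5)).range

theorem card_A6 : Nat.card A6 = 3 ^ 5 := by
  rw [A6, ← Nat.card_congr (MonoidHom.ofInjective transl_injective).toEquiv]
  change Nat.card (Fin 5 → ZMod 3) = _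
  rw [Nat.card_fun, Nat.card_zmod, Nat.card_fin]

theorem y6_conj : ∀ a ∈ A6, y6 * a * y6⁻¹ ∈ A6 := by
  rintro _ ⟨v, rfl⟩
  refine ⟨Multiplicative.ofAdd (Y5.mulVec v.toAdd), ?_⟩
  rw [eq_mul_inv_iff_mul_eq]
  change slBlk _ 1 * slBlk 0 ys = slBlk 0 ys * slBlk _ 1
  rw [slBlk_mul, slBlk_mul, one_mul, mul_one, Matrix.mulVec_zero, add_zero, zero_add]
  rfl

theorem y6_fix : ∀ i, 0 < i → i < 11 → ∀ a ∈ A6, y6 ^ i * a = a * y6 ^ i → a = 1 := by
  rintro i h0 h1 _ ⟨v, rfl⟩ h
  have h2 : y6 ^ i = slBlk 0 (ys ^ i) := slBlk_pow _ _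
  rw [h2] at h
  change slBlk _ _ * slBlk _ 1 = slBlk _ 1 * slBlk _ _ at h
  rw [slBlk_mul, slBlk_mul, one_mul, mul_one, zero_add, Matrix.mulVec_zero, add_zero] at h
  obtain ⟨h3, -⟩ := slBlk_inj h
  rw [Matrix.SpecialLinearGroup.coe_pow] at h3
  have h4 : v.toAdd = 0 := Y5_fix_pow h0 h1 h3
  change slBlk v.toAdd 1 = 1
  rw [h4, slBlk_one]

theorem A6_comm (a b : A6) : a * b = b * a := by
  obtain ⟨_, v, rfl⟩ := a
  obtain ⟨_, w, rfl⟩ := b
  apply Subtype.ext
  change transl v * transl w = transl w * transl v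
  rw [← map_mul, ← map_mul, mul_comm]

theorem A6_pow (a : A6) : a ^ 3 = 1 := by
  obtain ⟨_, v, rfl⟩ := a
  apply Subtype.ext
  change transl v ^ 3 = 1
  rw [← map_pow]
  have : v ^ 3 = 1 := by
    change Multiplicative.ofAdd (3 • v.toAdd) = 1
    have h : (3 : ℕ) • v.toAdd = 0 := by
      funext i
      change (3 : ℕ) • (v.toAdd i) = 0
      generalize v.toAdd i = x
      revert x
      decide
    rw [h]
    rfl
  rw [this, map_one]

/-- the quotient map to `PSL₆(3)` kills only `± 1` -/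
theorem mk_eq_one {x : X6} (h : (QuotientGroup.mk x : Matrix.ProjectiveSpecialLinearGroup (Fin 6) (ZMod 3)) = 1) :
    x = 1 ∨ x.1 = -1 := by
  have h1 : x ∈ Subgroup.center X6 := (QuotientGroup.eq_one_iff x).1 h
  rw [Matrix.SpecialLinearGroup.mem_center_iff] at h1
  obtain ⟨r, hr, hx⟩ := h1
  have h0 : ∀ r : ZMod 3, r ^ Fintype.card (Fin 6) = 1 → r = 1 ∨ r = -1 := by
    rw [Fintype.card_fin]
    decide
  have h2 : r = 1 ∨ r = -1 := h0 r hr
  rcases h2 with rfl | rfl
  · left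
    apply Subtype.ext
    rw [← hx, map_one]
    rfl
  · right
    rw [← hx, map_neg, map_one]

theorem mk_ne_one {x : X6} {n : ℕ} (hn : Odd n) (hx : x ^ n = 1) (h1 : x ≠ 1) :
    (QuotientGroup.mk x : Matrix.ProjectiveSpecialLinearGroup (Fin 6) (ZMod 3)) ≠ 1 := by
  intro h
  rcases mk_eq_one h with h2 | h2
  · exact h1 h2
  · have h3 := congrArg Subtype.val hx
    rw [Matrix.SpecialLinearGroup.coe_pow] at h3
    have h4 : ((x : X6) : Matrix (Fin 6) (Fin 6) (ZMod 3)) = -1 := h2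
    rw [h4, hn.neg_one_pow] at h3
    have h5 := congrFun (congrFun h3 0) 0
    revert h5
    decide

theorem mk_neg {x y : X6} (h : x.1 = -y.1) :
    (QuotientGroup.mk x : Matrix.ProjectiveSpecialLinearGroup (Fin 6) (ZMod 3)) = QuotientGroup.mk y := by
  rw [QuotientGroup.eq, Matrix.SpecialLinearGroup.mem_center_iff]
  refine ⟨-1, by decide, ?_⟩
  rw [Matrix.SpecialLinearGroup.coe_mul, map_neg, map_one]
  have h1 : y.1 = -x.1 := by rw [h, neg_neg]
  change -1 = (x⁻¹).1 * y.1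
  have h2 : (x⁻¹).1 * x.1 = 1 := by
    have := congrArg Subtype.val (inv_mul_cancel x)
    exact this
  rw [h1, mul_neg, h2]

/-- **The radical is trivial.** -/
theorem six_K {G : Type u} [Group G] [Finite G] (h : GS G) {K : Subgroup G} [K.Normal] {S : Subgroup (G ⧸ K)}
    [S.Normal] (hsec : Sec G K S) (hreal : Real (.psl 6 3) S) : K = ⊥ := by
  by_contra hK
  obtain ⟨F, iF, iF', hF, ⟨e⟩⟩ := hreal
  let e2 : Matrix.ProjectiveSpecialLinearGroup (Fin 6) (ZMod 3) ≃* Matrix.ProjectiveSpecialLinearGroup (Fin 6) F :=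
    Cfsg.Agent.LieClassical.FieldTransfer.pslCongr (FiniteField.ringEquivOfCardEq (K := ZMod 3) (K' := F)
      (by rw [hF, ZMod.card]))
  let e3 : Matrix.ProjectiveSpecialLinearGroup (Fin 6) (ZMod 3) ≃* S := e2.trans e.symm
  let κ : X6 →* G ⧸ K := S.subtype.comp (e3.toMonoidHom.comp (QuotientGroup.mk' _))
  have hκ : ∀ x : X6, κ x = ((e3 (QuotientGroup.mk x) : S) : G ⧸ K) := fun _ => rfl
  have hκo : ∀ x : X6, orderOf (κ x) =
      orderOf (QuotientGroup.mk x : Matrix.ProjectiveSpecialLinearGroup (Fin 6) (ZMod 3)) := by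
    intro x
    rw [hκ, Subgroup.orderOf_coe, MulEquiv.orderOf_eq]
  obtain ⟨t, V, _, _, _, ρ, ht, htK, hexp, hfpf⟩ := exists_top K hK hsec.solv
  let ρ' : X6 →* AddMonoid.End V := ρ.comp κ
  have htG : t ∣ Nat.card G := htK.trans (Subgroup.card_subgroup_dvd_card K)
  have htl := (h.primes t ht).1 htG
  have hf : ∀ r : ℕ, r.Prime → r ≠ 2 → r ≠ t → (∀ g : G, orderOf g ≠ r * t) → ∀ x : X6, x ^ r = 1 → x ≠ 1 →
      ∀ v, ρ' x v = v → v = 0 := by
    intro r hr hr2 hrt hno x hx hx1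
    have hfr : Fact r.Prime := ⟨hr⟩
    refine hfpf r hr hrt hno (κ x) ?_
    rw [hκo]
    apply orderOf_eq_prime
    · rw [← QuotientGroup.mk_pow, hx]; rfl
    · exact mk_ne_one (hr.odd_of_ne_two hr2) hx hx1
  have hy1 : y6 ≠ 1 := by
    intro hy
    have := y6_fix 1 one_pos (by norm_num) (slBlk 1 1) ⟨Multiplicative.ofAdd 1, rfl⟩ (by rw [hy]; simp)
    have h1 := (slBlk_inj (this.trans slBlk_one.symm)).1
    have h2 := congrFun h1 0
    revert h2
    decide
  by_cases h3 : t = 3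
  · -- elements of order 7
    subst h3
    obtain ⟨v, hv⟩ := exists_ne (0 : V)
    apply hv
    refine LThirteen.main (ρ := ρ') ?_ ?_ ?_ v
    · intro v
      have := hexp v
      rw [← natCast_zsmul] at this
      exact this
    · intro x y hxy
      change ρ (κ x) = ρ (κ y)
      rw [hκ, hκ, mk_neg hxy]
    · exact hf 7 (by norm_num) (by norm_num) (by norm_num) (fun g hg => h.n37 g (by rw [hg]))
  by_cases h11 : t = 11
  · subst h11
    have hcyc : IsCyclic A6 := by
      let _ : CommGroup A6 := { (inferInstance : Group A6) with mul_comm := A6_comm }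
      refine Cfsg.Agent.Solvable.FixedPointFree.isCyclic_of_comm (M := V) (ρ'.comp A6.subtype) ?_
      intro a ha m hm
      refine hf 3 (by norm_num) (by norm_num) (by norm_num)
        (fun g hg => h.n11 3 (by norm_num) (by norm_num) g (by rw [hg])) (a : X6) ?_ ?_ m hm
      · exact congrArg Subtype.val (A6_pow a)
      · exact fun hh => ha (Subtype.ext hh)
    obtain ⟨g, hg⟩ := hcyc.exists_generator
    have h1 : orderOf g = Nat.card A6 := orderOf_eq_card_of_forall_mem_zpowers hg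
    have h2 : orderOf g ∣ 3 := orderOf_dvd_of_pow_eq_one (A6_pow g)
    rw [h1, card_A6] at h2
    norm_num at h2
  · -- the translation group acts trivially
    have hz := hf 11 (by norm_num) (by norm_num) (fun hh => h11 hh.symm)
      (fun g hg => h.n11 t ht (fun hh => h11 hh) g hg) y6 y6_pow hy1
    have htriv := frob_trivial ρ' A6 y6 11 (by norm_num) y6_pow y6_conj y6_fix hz (by
      intro v hv
      rw [card_A6] at hv
      have h1 : addOrderOf v ∣ 3 ^ 5 := addOrderOf_dvd_of_nsmul_eq_zero hv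
      have h2 : addOrderOf v ∣ t := addOrderOf_dvd_of_nsmul_eq_zero (hexp v)
      have h4 : Nat.Coprime (3 ^ 5) t := Nat.Coprime.pow_left _ ((Nat.coprime_primes (by norm_num) ht).2 (Ne.symm h3))
      have h5 : addOrderOf v = 1 := Nat.eq_one_of_dvd_coprimes h4 h1 h2
      exact AddMonoid.addOrderOf_eq_one_iff.1 h5)
    -- the kernel on `S`
    let M : Subgroup S := (ρ.comp S.subtype).ker
    have hsimp := hsec.simple
    have hM : M = ⊤ := by
      rcases hsimp.eq_bot_or_eq_top_of_normal M inferInstance with h1 | h1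
      · exfalso
        let a : X6 := slBlk 1 1
        have ha : a ∈ A6 := ⟨Multiplicative.ofAdd 1, rfl⟩
        have ha1 : a ≠ 1 := by
          intro hh
          rw [← slBlk_one] at hh
          have h2 := congrFun (slBlk_inj hh).1 0
          revert h2
          decide
        have ha3 : a ^ 3 = 1 := congrArg Subtype.val (A6_pow ⟨a, ha⟩)
        have h2 : e3 (QuotientGroup.mk a) ∈ M := by
          rw [MonoidHom.mem_ker]
          refine AddMonoidHom.ext fun v => ?_
          exact htriv a ha v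
        rw [h1, Subgroup.mem_bot] at h2
        have h4 : (QuotientGroup.mk a : Matrix.ProjectiveSpecialLinearGroup (Fin 6) (ZMod 3)) = 1 := by
          rw [← e3.map_eq_one_iff]
          exact h2
        exact mk_ne_one (by decide : Odd 3) ha3 ha1 h4
      · exact h1
    obtain ⟨v, hv⟩ := exists_ne (0 : V)
    apply hv
    apply hz
    have h1 : e3 (QuotientGroup.mk y6) ∈ M := by rw [hM]; exact Subgroup.mem_top _
    rw [MonoidHom.mem_ker] at h1
    have h2 := DFunLike.congr_fun h1 v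
    exact h2

end Cfsg.Agent.H421.Six
end

-- part: H421/GraphSix
section
/-!
# The groups with the prime graph of `PSL₆(3)` (helper421)
-/

set_option autoImplicit false

namespace Cfsg.Agent.H421.GraphSix

open Matrix
open Cfsg.Agent.H421.AutL Cfsg.Agent.H421.AutSix Cfsg.Agent.H421.Six Cfsg.Agent.H421.Act

universe u v w

/-- same prime graph -/
def SG (G : Type u) (H : Type v) [Group G] [Group H] : Prop :=
  (∀ p : ℕ, p.Prime → (p ∣ Nat.card G ↔ p ∣ Nat.card H)) ∧
    (∀ p q : ℕ, p.Prime → q.Prime → p ≠ q → ((∃ g : G, orderOf g = p * q) ↔ (∃ g : H, orderOf g = p * q)))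

theorem SG.symm {G : Type u} {H : Type v} [Group G] [Group H] (h : SG G H) : SG H G :=
  ⟨fun p hp => (h.1 p hp).symm, fun p q hp hq hpq => (h.2 p q hp hq hpq).symm⟩

theorem SG.trans {G : Type u} {H : Type v} {K : Type w} [Group G] [Group H] [Group K] (h : SG G H) (h' : SG H K) :
    SG G K :=
  ⟨fun p hp => (h.1 p hp).trans (h'.1 p hp), fun p q hp hq hpq => (h.2 p q hp hq hpq).trans (h'.2 p q hp hq hpq)⟩

theorem SG.of_equiv {G : Type u} {H : Type v} [Group G] [Group H] (e : G ≃* H) : SG G H := by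
  refine ⟨fun p _ => by rw [Nat.card_congr e.toEquiv], fun p q _ _ _ => ⟨?_, ?_⟩⟩
  · rintro ⟨g, hg⟩
    exact ⟨e g, by rw [MulEquiv.orderOf_eq, hg]⟩
  · rintro ⟨g, hg⟩
    exact ⟨e.symm g, by rw [MulEquiv.orderOf_eq, hg]⟩

theorem card_L6 : Nat.card (Ln 6) = 2 ^ 11 * 3 ^ 15 * 5 * 7 * 11 ^ 2 * 13 ^ 2 := by
  have h := Cfsg.Agent.S0243.result (F := ZMod 3) (q := 3) (ZMod.card 3) 6 (by norm_num)
  rw [Fin.prod_univ_six] at h
  change _ = _ at h
  generalize Nat.card (Ln 6) = N at h ⊢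
  norm_num at h
  norm_num
  omega

theorem prime_dvd (p : ℕ) (hp : p.Prime) : p ∣ Nat.card (Ln 6) ↔ p ∈ [2, 3, 5, 7, 11, 13] := by
  rw [card_L6]
  simp only [List.mem_cons, List.not_mem_nil, or_false]
  constructor
  · intro h
    rw [hp.dvd_mul, hp.dvd_mul, hp.dvd_mul, hp.dvd_mul, hp.dvd_mul] at h
    have h1 : ∀ q : ℕ, q.Prime → p ∣ q → p = q := fun q hq h => (Nat.prime_dvd_prime_iff_eq hp hq).1 h
    rcases h with ((((h | h) | h) | h) | h) | h
    · have := h1 2 (by norm_num) (hp.dvd_of_dvd_pow h); omega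
    · have := h1 3 (by norm_num) (hp.dvd_of_dvd_pow h); omega
    · have := h1 5 (by norm_num) h; omega
    · have := h1 7 (by norm_num) h; omega
    · have := h1 11 (by norm_num) (hp.dvd_of_dvd_pow h); omega
    · have := h1 13 (by norm_num) (hp.dvd_of_dvd_pow h); omega
  · rintro (rfl | rfl | rfl | rfl | rfl | rfl) <;> norm_num

theorem ord_mod {r k : ℕ} (hk : 0 < k) (h : (3 : ZMod r) ^ k = 1 ∧ ∀ m, m < k → 0 < m → (3 : ZMod r) ^ m ≠ 1) :
    k = orderOf ((Fintype.card (ZMod 3) : ℕ) : ZMod r) := by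
  rw [ZMod.card]
  exact ((orderOf_eq_iff hk).2 h).symm

theorem odd_pair {r s k l : ℕ} (hr : r.Prime) (hs : s.Prime) (hr2 : r ≠ 2) (hs2 : s ≠ 2) (hr3 : r ≠ 3) (hs3 : s ≠ 3)
    (hrs : r ≠ s) (hrG : r ∈ [2, 3, 5, 7, 11, 13]) (hsG : s ∈ [2, 3, 5, 7, 11, 13])
    (hk : k = orderOf ((Fintype.card (ZMod 3) : ℕ) : ZMod r)) (hl : l = orderOf ((Fintype.card (ZMod 3) : ℕ) : ZMod s))
    (h2k : 2 ≤ k) (hkl : k ≤ l) (h : 6 < k + l ∧ ¬ k ∣ l) (g : Ln 6) : orderOf g ≠ r * s := by
  have : Fact (Nat.Prime 3) := ⟨by norm_num⟩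
  intro hg
  exact (Cfsg.Agent.S2468.result (F := ZMod 3) 3 6 (by norm_num) (by norm_num) r s hr hs hr2 hs2 hr3 hs3 hrs
    ((prime_dvd r hr).2 hrG) ((prime_dvd s hs).2 hsG) k l hk hl h2k hkl).2 h ⟨g, hg⟩

theorem char_pair {r k : ℕ} (hr : r.Prime) (hr2 : r ≠ 2) (hr3 : r ≠ 3) (hrG : r ∈ [2, 3, 5, 7, 11, 13])
    (hk : k = orderOf ((Fintype.card (ZMod 3) : ℕ) : ZMod r)) (h : 6 - 2 < k) (g : Ln 6) : orderOf g ≠ r * 3 := by
  have : Fact (Nat.Prime 3) := ⟨by norm_num⟩
  intro hg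
  exact (Cfsg.Agent.S2470.result (F := ZMod 3) 3 6 (by norm_num) (by norm_num) r hr hr2 hr3
    ((prime_dvd r hr).2 hrG) k hk).2 (Or.inl h) ⟨g, hg⟩

theorem o5 : 4 = orderOf ((Fintype.card (ZMod 3) : ℕ) : ZMod 5) := ord_mod (by norm_num) (by decide)
theorem o7 : 6 = orderOf ((Fintype.card (ZMod 3) : ℕ) : ZMod 7) := ord_mod (by norm_num) (by decide)
theorem o11 : 5 = orderOf ((Fintype.card (ZMod 3) : ℕ) : ZMod 11) := ord_mod (by norm_num) (by decide)
theorem o13 : 3 = orderOf ((Fintype.card (ZMod 3) : ℕ) : ZMod 13) := ord_mod (by norm_num) (by decide)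

theorem gs_L : GS (Ln 6) where
  primes := prime_dvd
  n11 := by
    intro r hr hne g hg
    have h1 : r ∣ Nat.card (Ln 6) := (Dvd.intro_left 11 rfl).trans (hg ▸ orderOf_dvd_natCard g)
    rw [prime_dvd r hr] at h1
    simp only [List.mem_cons, List.not_mem_nil, or_false] at h1
    rcases h1 with rfl | rfl | rfl | rfl | rfl | rfl
    · exact no22_six g hg
    · exact char_pair (r := 11) (by norm_num) (by norm_num) (by norm_num) (by simp) o11 (by norm_num) g hg
    · exact odd_pair (r := 5) (s := 11) (by norm_num) (by norm_num) (by norm_num) (by norm_num) (by norm_num)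
        (by norm_num) (by norm_num) (by simp) (by simp) o5 o11 (by norm_num) (by norm_num) (by norm_num) g
        (by rw [hg])
    · exact odd_pair (r := 11) (s := 7) (by norm_num) (by norm_num) (by norm_num) (by norm_num) (by norm_num)
        (by norm_num) (by norm_num) (by simp) (by simp) o11 o7 (by norm_num) (by norm_num) (by norm_num) g
        (by rw [hg])
    · exact hne rfl
    · exact odd_pair (r := 13) (s := 11) (by norm_num) (by norm_num) (by norm_num) (by norm_num) (by norm_num)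
        (by norm_num) (by norm_num) (by simp) (by simp) o13 o11 (by norm_num) (by norm_num) (by norm_num) g
        (by rw [hg])
  n57 := fun g hg => odd_pair (r := 5) (s := 7) (by norm_num) (by norm_num) (by norm_num) (by norm_num) (by norm_num)
        (by norm_num) (by norm_num) (by simp) (by simp) o5 o7 (by norm_num) (by norm_num) (by norm_num) g
        (by rw [hg])
  n513 := fun g hg => odd_pair (r := 13) (s := 5) (by norm_num) (by norm_num) (by norm_num) (by norm_num) (by norm_num)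
        (by norm_num) (by norm_num) (by simp) (by simp) o13 o5 (by norm_num) (by norm_num) (by norm_num) g
        (by rw [hg])
  n37 := fun g hg => char_pair (r := 7) (by norm_num) (by norm_num) (by norm_num) (by simp) o7 (by norm_num) g
        (by rw [hg])

theorem gs_of_SG {G : Type u} [Group G] (h : SG (Ln 6) G) : GS G where
  primes := fun p hp => (h.1 p hp).symm.trans (prime_dvd p hp)
  n11 := by
    intro r hr hne g hg
    obtain ⟨g', hg'⟩ := (h.2 11 r (by norm_num) hr (Ne.symm hne)).2 ⟨g, hg⟩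
    exact gs_L.n11 r hr hne g' hg'
  n57 := by
    intro g hg
    obtain ⟨g', hg'⟩ := (h.2 5 7 (by norm_num) (by norm_num) (by norm_num)).2 ⟨g, hg⟩
    exact gs_L.n57 g' hg'
  n513 := by
    intro g hg
    obtain ⟨g', hg'⟩ := (h.2 5 13 (by norm_num) (by norm_num) (by norm_num)).2 ⟨g, hg⟩
    exact gs_L.n513 g' hg'
  n37 := by
    intro g hg
    obtain ⟨g', hg'⟩ := (h.2 3 7 (by norm_num) (by norm_num) (by norm_num)).2 ⟨g, hg⟩
    exact gs_L.n37 g' hg'

/-- no element of order 22 in the extensions -/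
theorem no22_Hd {d : ZMod 3} {α : MulAut (Ln 6)} (hα : α ∈ Hd d) : orderOf α ≠ 22 := by
  intro ho
  have h11 : α ^ 2 ≠ 1 := fun h => by
    have := orderOf_dvd_of_pow_eq_one h
    rw [ho] at this
    omega
  have h22 : (α ^ 2) ^ 11 = 1 := by rw [← pow_mul, show 2 * 11 = 22 by norm_num, ← ho, pow_orderOf_eq_one]
  obtain ⟨l, hl⟩ := mem_conj_of_odd ((Hd d).pow_mem hα 2) (m := 11) (by decide) h22
  have hl11 : l ^ 11 = 1 := by
    apply inn_injective
    rw [map_pow, ← hl, h22, map_one]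
  have hl1 : l ≠ 1 := by
    rintro rfl
    rw [map_one] at hl
    exact h11 hl
  rcases hα with ⟨A, hA, rfl⟩ | ⟨A, -, rfl⟩
  · obtain ⟨x, hx⟩ := c_of_det hA
    rw [hx, orderOf_injective _ inn_injective] at ho
    exact no22_six _ ho
  · refine not_fixed (A := A) (by norm_num) hl11 hl1 ?_
    apply inn_injective
    rw [conj_map, ← hl, ← pow_succ', pow_succ, mul_inv_cancel_right]

/-- the extensions have the prime graph of `PSL₆(3)` -/
theorem sg_Hd {d : ZMod 3} : SG (Ln 6) (Hd d) := by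
  have hinj : Function.Injective (fun l : Ln 6 => (⟨MulAut.conj l, conj_mem_Hd d l⟩ : Hd d)) := by
    intro a b hab
    exact inn_injective (congrArg Subtype.val hab)
  let ψ : Ln 6 →* Hd d := (MulAut.conj : Ln 6 →* MulAut (Ln 6)).codRestrict (Hd d) (conj_mem_Hd d)
  have hψ : Function.Injective ψ := hinj
  constructor
  · intro p hp
    constructor
    · intro h
      exact h.trans (Subgroup.card_dvd_of_injective ψ hψ)
    · intro h
      have : Fact p.Prime := ⟨hp⟩
      obtain ⟨x, hx⟩ := exists_prime_orderOf_dvd_card' (G := Hd d) p h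
      by_cases h2 : p = 2
      · rw [h2, prime_dvd 2 (by norm_num)]; simp
      · have hx' : (x : MulAut (Ln 6)) ^ p = 1 := by
          rw [← Subgroup.coe_pow, ← hx, pow_orderOf_eq_one]; rfl
        obtain ⟨l, hl⟩ := mem_conj_of_odd x.2 (hp.odd_of_ne_two h2) hx'
        have h3 : orderOf l = p := by
          rw [← orderOf_injective _ inn_injective l, ← hl, Subgroup.orderOf_coe, hx]
        rw [← h3]
        exact orderOf_dvd_natCard l
  · intro p q hp hq hpq
    constructor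
    · rintro ⟨l, hl⟩
      exact ⟨ψ l, by rw [orderOf_injective ψ hψ, hl]⟩
    · rintro ⟨x, hx⟩
      have hx' : orderOf (x : MulAut (Ln 6)) = p * q := by rw [Subgroup.orderOf_coe, hx]
      -- the case of an even order
      have key : ∀ r : ℕ, r.Prime → r ≠ 2 → ∀ y : Hd d, orderOf y = 2 * r → ∃ l : Ln 6, orderOf l = 2 * r := by
        intro r hr hr2 y hy
        have hy2 : (y ^ 2) ^ r = 1 := by rw [← pow_mul, ← hy, pow_orderOf_eq_one]
        have hy3 : orderOf (y ^ 2) = r := by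
          rw [orderOf_pow' y two_ne_zero, hy, Nat.gcd_comm, Nat.gcd_mul_right_right, Nat.mul_div_cancel_left _ two_pos]
        have hy4 : ((y ^ 2 : Hd d) : MulAut (Ln 6)) ^ r = 1 := by
          rw [← Subgroup.coe_pow, hy2]; rfl
        obtain ⟨l, hl⟩ := mem_conj_of_odd (y ^ 2 : Hd d).2 (hr.odd_of_ne_two hr2) hy4
        have h3 : orderOf l = r := by
          rw [← orderOf_injective _ inn_injective l, ← hl, Subgroup.orderOf_coe, hy3]
        have h4 : r ∣ Nat.card (Ln 6) := h3 ▸ orderOf_dvd_natCard l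
        rw [prime_dvd r hr] at h4
        simp only [List.mem_cons, List.not_mem_nil, or_false] at h4
        rcases h4 with rfl | rfl | rfl | rfl | rfl | rfl
        · exact absurd rfl hr2
        · exact order6
        · exact order10
        · exact order14
        · exfalso
          exact no22_Hd y.2 (by rw [Subgroup.orderOf_coe, hy])
        · exact order26
      by_cases hp2 : p = 2
      · subst hp2
        exact key q hq (Ne.symm hpq) x hx
      by_cases hq2 : q = 2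
      · subst hq2
        rw [mul_comm] at hx ⊢
        exact key p hp hp2 x hx
      · have hodd : Odd (p * q) := (hp.odd_of_ne_two hp2).mul (hq.odd_of_ne_two hq2)
        obtain ⟨l, hl⟩ := mem_conj_of_odd x.2 hodd (by rw [← hx', pow_orderOf_eq_one])
        exact ⟨l, by rw [← orderOf_injective _ inn_injective l, ← hl, hx']⟩

/-- **The groups with the prime graph of `PSL₆(3)`.** -/
theorem groups {G : Type} [Group G] [Finite G] (h : SG (Ln 6) G) :
    Nonempty (G ≃* Ln 6) ∨ Nonempty (G ≃* Hd 1) ∨ Nonempty (G ≃* Hd (-1)) := by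
  have hgs := gs_of_SG h
  obtain ⟨K, hKn, S, hSn, hsec, hreal⟩ := six_section hgs
  have hK := six_K hgs hsec hreal
  subst hK
  obtain ⟨F, iF, iF', hF, ⟨e0⟩⟩ := hreal
  let e2 : Ln 6 ≃* Matrix.ProjectiveSpecialLinearGroup (Fin 6) F :=
    Cfsg.Agent.LieClassical.FieldTransfer.pslCongr (FiniteField.ringEquivOfCardEq (K := ZMod 3) (K' := F)
      (by rw [hF, ZMod.card]))
  let e : S ≃* Ln 6 := e0.trans e2.symm
  let ψ : G ⧸ (⊥ : Subgroup G) →* MulAut (Ln 6) := (MulAut.congr e).toMonoidHom.comp (MulAut.conjNormal (H := S))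
  have hψ : ∀ (x : G ⧸ (⊥ : Subgroup G)) (l : Ln 6), ψ x l = e (MulAut.conjNormal x (e.symm l)) := fun _ _ => rfl
  have hψi : Function.Injective ψ := by
    rw [injective_iff_map_eq_one]
    intro x hx
    have h1 : x ∈ Subgroup.centralizer (S : Set (G ⧸ (⊥ : Subgroup G))) := by
      rw [Subgroup.mem_centralizer_iff]
      intro s hs
      have h2 := DFunLike.congr_fun hx (e ⟨s, hs⟩)
      rw [hψ, e.symm_apply_apply, MulAut.one_apply] at h2
      have h3 := congrArg Subtype.val (e.injective h2)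
      rw [MulAut.conjNormal_apply] at h3
      change x * s * x⁻¹ = s at h3
      rw [mul_inv_eq_iff_eq_mul] at h3
      exact h3.symm
    rw [hsec.cent, Subgroup.mem_bot] at h1
    exact h1
  have hI : ∀ l : Ln 6, MulAut.conj l ∈ ψ.range := by
    intro l
    refine ⟨(e.symm l : S), ?_⟩
    apply MulEquiv.ext
    intro m
    rw [hψ, MulAut.conj_apply]
    have h1 : MulAut.conjNormal ((e.symm l : S) : G ⧸ (⊥ : Subgroup G)) (e.symm m) = e.symm (l * m * l⁻¹) := by
      apply Subtype.ext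
      rw [MulAut.conjNormal_apply, map_mul, map_mul, map_inv, Subgroup.coe_mul, Subgroup.coe_mul, Subgroup.coe_inv]
    rw [h1, e.apply_symm_apply]
  have h22 : ∀ x ∈ ψ.range, orderOf x ≠ 22 := by
    rintro _ ⟨y, rfl⟩ hy
    rw [orderOf_injective ψ hψi] at hy
    obtain ⟨g, hg⟩ := lift_order' (K := (⊥ : Subgroup G)) ⟨y, hy⟩
    exact hgs.n11 2 (by norm_num) (by norm_num) g hg
  let E : G ≃* ψ.range := (QuotientGroup.quotientBot (G := G)).symm.trans (MonoidHom.ofInjective hψi)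
  rcases classify ψ.range hI h22 with h1 | h1 | h1
  · left
    exact ⟨E.trans ((MulEquiv.subgroupCongr h1).trans (MonoidHom.ofInjective inn_injective).symm)⟩
  · right; left
    exact ⟨E.trans (MulEquiv.subgroupCongr h1)⟩
  · right; right
    exact ⟨E.trans (MulEquiv.subgroupCongr h1)⟩

end Cfsg.Agent.H421.GraphSix
end

-- part: S3659
section
set_option autoImplicit false
open Cfsg

namespace Cfsg.Agent.S3659

/-- The prime graph of a finite group has the prime divisors of its order as vertices, two distinct primes p, q being joined when the group has an element of order pq; two groups have the same prime graph when they have the same prime divisors and the same joined pairs. Let F be the field with 3 elements and L = PSL(6,F). Exactly three finite groups, up to isomorphism, have the same prime graph as L: there are finite groups H₁, H₂ with that prime graph such that L, H₁, H₂ are pairwise non-isomorphic, and every finite group with that prime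 graph is isomorphic to L, to H₁ or to H₂. -/
theorem result {F : Type*} [Field F] [Fintype F] (hF : Fintype.card F = 3) :
    ∃ (H₁ : Type) (_ : Group H₁) (_ : Fintype H₁) (H₂ : Type) (_ : Group H₂) (_ : Fintype H₂),
      ((∀ p : ℕ, p.Prime → (p ∣ Nat.card (Matrix.ProjectiveSpecialLinearGroup (Fin 6) F) ↔ p ∣ Nat.card H₁)) ∧
      (∀ p q : ℕ, p.Prime → q.Prime → p ≠ q → ((∃ g : (Matrix.ProjectiveSpecialLinearGroup (Fin 6) F), orderOf g = p * q) ↔ (∃ g : H₁, orderOf g = p * q)))) ∧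
      ((∀ p : ℕ, p.Prime → (p ∣ Nat.card (Matrix.ProjectiveSpecialLinearGroup (Fin 6) F) ↔ p ∣ Nat.card H₂)) ∧
      (∀ p q : ℕ, p.Prime → q.Prime → p ≠ q → ((∃ g : (Matrix.ProjectiveSpecialLinearGroup (Fin 6) F), orderOf g = p * q) ↔ (∃ g : H₂, orderOf g = p * q)))) ∧
      ¬ Nonempty (H₁ ≃* Matrix.ProjectiveSpecialLinearGroup (Fin 6) F) ∧ ¬ Nonempty (H₂ ≃* Matrix.ProjectiveSpecialLinearGroup (Fin 6) F) ∧ ¬ Nonempty (H₁ ≃* H₂) ∧
      ∀ (H : Type) [Group H] [Finite H], ((∀ p : ℕ, p.Prime → (p ∣ Nat.card (Matrix.ProjectiveSpecialLinearGroup (Fin 6) F) ↔ p ∣ Nat.card H)) ∧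
      (∀ p q : ℕ, p.Prime → q.Prime → p ≠ q → ((∃ g : (Matrix.ProjectiveSpecialLinearGroup (Fin 6) F), orderOf g = p * q) ↔ (∃ g : H, orderOf g = p * q)))) →
        Nonempty (H ≃* Matrix.ProjectiveSpecialLinearGroup (Fin 6) F) ∨ Nonempty (H ≃* H₁) ∨ Nonempty (H ≃* H₂) :=
  open Cfsg.Agent.H421.GraphSix Cfsg.Agent.H421.AutL Cfsg.Agent.H421.AutSix in
  by
  classical
  let e : Matrix.ProjectiveSpecialLinearGroup (Fin 6) F ≃* Ln 6 :=
    Cfsg.Agent.LieClassical.FieldTransfer.pslCongr (FiniteField.ringEquivOfCardEq (K := F) (K' := ZMod 3)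
      (by rw [hF, ZMod.card]))
  have he : SG (Matrix.ProjectiveSpecialLinearGroup (Fin 6) F) (Ln 6) := SG.of_equiv e
  have hf : ∀ d : ZMod 3, Finite (Hd d) := fun d => inferInstance
  refine ⟨Hd 1, inferInstance, Fintype.ofFinite _, Hd (-1), inferInstance, Fintype.ofFinite _,
    he.trans sg_Hd, he.trans sg_Hd, ?_, ?_, Hd_not_Hd, ?_⟩
  · rintro ⟨f⟩
    exact Hd_not_L (Or.inl rfl) ⟨f.trans e⟩
  · rintro ⟨f⟩
    exact Hd_not_L (Or.inr rfl) ⟨f.trans e⟩
  · intro H _ _ h
    rcases groups (he.symm.trans h) with h1 | h1 | h1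
    · exact Or.inl (h1.map fun f => f.trans e.symm)
    · exact Or.inr (Or.inl h1)
    · exact Or.inr (Or.inr h1)

end Cfsg.Agent.S3659
end

private theorem dce_c32c82c5f1fc : _root_.True := by
  try have : _root_.True := by simp only [_root_.Cfsg.Agent.H421.LThirteen.cs.eq_1]
  try have : _root_.True := by simp only [_root_.Cfsg.Agent.H421.AutSix.Am.eq_1]
  try have : _root_.True := by simp only [_root_.Cfsg.Agent.H421.LThirteen.wordX.eq_1]
  try have : _root_.True := by simp only [_root_.Cfsg.Agent.H421.Six.A6.eq_1]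
  try have : _root_.True := by simp only [_root_.Cfsg.Agent.H421.LThirteen.actw.eq_1]
  exact _root_.True.intro
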