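import Cfsg.Statements.S4084
import Mathlib.GroupTheory.Perm.Cycle.Type
import Mathlib.GroupTheory.OrderOfElement
import Mathlib.GroupTheory.Subgroup.Centralizer
set_option linter.all false

set_option autoImplicit false
open Cfsg

namespace Cfsg.Agent.S4084

/-- a maximal commuting set is a subgroup -/
theorem key {K : Type*} [Group K] (B : Set K)
    (hB : Maximal (fun S : Set K => ∀ x ∈ S, ∀ y ∈ S, Commute x y) B) :
    ∃ L : Subgroup K, (L : Set K) = B := by
  have hmem : ∀ z : K, (∀ x ∈ B, Commute z x) → z ∈ B := by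
    intro z hz
    have h1 : (fun S : Set K => ∀ x ∈ S, ∀ y ∈ S, Commute x y) (insert z B) := by
      intro x hx y hy
      rcases hx with rfl | hx <;> rcases hy with rfl | hy
      · exact Commute.refl _
      · exact hz _ hy
      · exact (hz _ hx).symm
      · exact hB.prop _ hx _ hy
    exact hB.le_of_ge h1 (Set.subset_insert _ _) (Set.mem_insert _ _)
  refine ⟨{ carrier := B, mul_mem' := ?_, one_mem' := ?_, inv_mem' := ?_ }, rfl⟩
  · intro a b ha hb
    exact hmem _ fun x hx => (hB.prop _ ha _ hx).mul_left (hB.prop _ hb _ hx)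
  · exact hmem _ fun x _ => Commute.one_left x
  · intro a ha
    exact hmem _ fun x hx => (hB.prop _ ha _ hx).inv_left

/-- one direction -/
theorem one_dir {G H : Type*} [Group G] [Finite G] [Group H] [Finite H] (e : G ≃ H)
    (he : ∀ x y : G, Commute x y ↔ Commute (e x) (e y))
    {p q : ℕ} (hp : p.Prime) (hq : q.Prime) (hpq : p ≠ q)
    (h : ∃ g : G, orderOf g = p * q) : (∃ h : H, orderOf h = p * q) := by
  classical
  obtain ⟨g, hg⟩ := h
  -- a maximal commuting set containing `g`
  obtain ⟨A, hgA, hAmax⟩ : ∃ A : Set G, g ∈ A ∧ Maximal (fun S : Set G => ∀ x ∈ S, ∀ y ∈ S, Commute x y) A := by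
    obtain ⟨A, hle, hA⟩ := (Set.toFinite {S : Set G | ∀ x ∈ S, ∀ y ∈ S, Commute x y}).exists_le_maximal
      (a := {g}) (by
        intro x hx y hy
        rw [Set.mem_singleton_iff] at hx hy
        rw [hx, hy])
    exact ⟨A, hle rfl, hA⟩
  have hBmax : Maximal (fun S : Set H => ∀ x ∈ S, ∀ y ∈ S, Commute x y) (e '' A) := by
    constructor
    · rintro _ ⟨x, hx, rfl⟩ _ ⟨y, hy, rfl⟩
      exact (he _ _).mp (hAmax.prop _ hx _ hy)
    · intro B hB hAB
      have h1 : (fun S : Set G => ∀ x ∈ S, ∀ y ∈ S, Commute x y) (e ⁻¹' B) := by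
        intro x hx y hy
        exact (he _ _).mpr (hB _ hx _ hy)
      have h2 : A ⊆ e ⁻¹' B := by
        intro x hx
        exact hAB ⟨x, hx, rfl⟩
      have h3 := hAmax.le_of_ge h1 h2
      intro z hz
      refine ⟨e.symm z, h3 ?_, by simp⟩
      simpa using hz
  obtain ⟨L, hL⟩ := key A hAmax
  obtain ⟨M, hM⟩ := key (e '' A) hBmax
  have hcard : Nat.card L = Nat.card M := by
    have h1 : Nat.card L = Nat.card (L : Set G) := rfl
    have h2 : Nat.card M = Nat.card (M : Set H) := rfl
    rw [h1, h2, hL, hM]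
    exact (Nat.card_image_of_injective e.injective A).symm
  have hgL : g ∈ L := by
    rw [← SetLike.mem_coe, hL]; exact hgA
  have hdvd : p * q ∣ Nat.card M := by
    rw [← hcard, ← hg]
    have : orderOf (⟨g, hgL⟩ : L) ∣ Nat.card L := orderOf_dvd_natCard _
    simpa using this
  haveI := Fact.mk hp
  haveI := Fact.mk hq
  obtain ⟨x, hx⟩ := exists_prime_orderOf_dvd_card' (G := M) p ((dvd_mul_right p q).trans hdvd)
  obtain ⟨y, hy⟩ := exists_prime_orderOf_dvd_card' (G := M) q ((dvd_mul_left q p).trans hdvd)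
  have hxy : Commute x y := by
    have h1 : (x : H) ∈ e '' A := by rw [← hM]; exact x.2
    have h2 : (y : H) ∈ e '' A := by rw [← hM]; exact y.2
    have := hBmax.prop _ h1 _ h2
    exact Subtype.ext this
  refine ⟨((x * y : M) : H), ?_⟩
  rw [Subgroup.orderOf_coe, hxy.orderOf_mul_eq_mul_orderOf_of_coprime, hx, hy]
  rw [hx, hy]
  exact (Nat.coprime_primes hp hq).mpr hpq

/-- Let G and H be finite groups whose commuting graphs are isomorphic: there is a bijection e : G → H with x, y commuting exactly when e(x), e(y) commute. Then G and H have the same prime graph: for distinct primes p, q, G has an element of order pq if and only if H does (and #G = #H, so the prime divisors agree). -/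
theorem result {G H : Type*} [Group G] [Finite G] [Group H] [Finite H] (e : G ≃ H)
    (he : ∀ x y : G, Commute x y ↔ Commute (e x) (e y))
    {p q : ℕ} (hp : p.Prime) (hq : q.Prime) (hpq : p ≠ q) :
    (∃ g : G, orderOf g = p * q) ↔ (∃ h : H, orderOf h = p * q) := by
  constructor
  · exact one_dir e he hp hq hpq
  · refine one_dir e.symm ?_ hp hq hpq
    intro x y
    rw [he]
    simp

end Cfsg.Agent.S4084
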