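import Cfsg.Agent.H434.Orth
import Cfsg.Agent.H433.WeakPhan
import Cfsg.Agent.S0283
import Cfsg.Agent.S0279
import Cfsg.Statements.S3711
set_option linter.all false

-- part: P3711/Step
section
/-!
# The inductive step through the orthogonality graph, with the agreement of lifts as a hypothesis

`exists_extension_of_same` : dimension at least five, every `q ≥ 2`.
-/

set_option autoImplicit false

namespace Cfsg.Agent.P3711

open Matrix Cfsg Cfsg.Agent.Phan Cfsg.Agent.Phan.Cover Cfsg.Agent.H434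
open Cfsg.Agent.LieClassical.HermBasic

section Cover

variable {M H Ω K A : Type*} [Group M] [Group H] [Group K] [Group A] [MulAction M Ω]
variable {C : Ctx M H Ω K A}

theorem same_symm {w u u' : Ω} (h : C.Hyp) (hS : Cover2.Same C w u u')
    (hD' : C.adj u w) : Cover2.Same C w u' u := by
  intro x y y' hx hy hy' ey ey' exy
  obtain ⟨z, hz, hz'⟩ := h.exists_lift y' (v := w) (by rw [hy']; exact hD')
  have h1 := hS z y' y hz hy' hy ey' ey hz'
  obtain ⟨k, hk⟩ := h.lift_uniq h1 exy (by rw [hz, hx])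
  rw [hk]
  have : y'⁻¹ * (z * C.kh k) = (y'⁻¹ * z) * C.kh k := by group
  rw [this]
  exact Ctx.E_right _ hz'

/-- if `w` is a neighbour of the base point, all lifts agree -/
theorem same_of_adj_base (h : C.Hyp)
    (htri : ∀ u v w : Ω, C.adj u v → C.adj u w → C.adj v w → C.Tri u v w) {w u u' : Ω}
    (hpw : C.adj C.p w) (hu : C.adj C.p u) (huw : C.adj u w) (hu' : C.adj C.p u')
    (hu'w : C.adj u' w) : Cover2.Same C w u u' := by
  intro x y y' hx hy hy' ey ey' exy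
  have hp : C.p = (1 : M × H).1 • C.p := by rw [Prod.fst_one, one_smul]
  have e1 : C.E ((1 : M × H)⁻¹ * x) := by
    refine h.close (x := y) ?_ (by rw [mul_one]; exact h.E_inv ey) exy
    rw [← hp, hy, hx]
    exact htri _ _ _ (h.symm hu) huw hpw
  refine h.close (x := 1) ?_ (by rwa [inv_one, one_mul]) e1
  rw [← hp, hy', hx]
  exact htri _ _ _ hu' hpw hu'w

/-- agreement through an intermediate neighbour -/
theorem same_trans' (h : C.Hyp)
    (htri : ∀ u v w : Ω, C.adj u v → C.adj u w → C.adj v w → C.Tri u v w) {w u x u' : Ω}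
    (hu : C.adj C.p u) (huw : C.adj u w) (hx : C.adj C.p x) (hxw : C.adj x w)
    (hu' : C.adj C.p u') (hu'w : C.adj u' w) (hux : C.adj u x) (hxu' : C.adj x u') :
    Cover2.Same C w u u' :=
  Cover2.same_trans h hx (Cover2.same_of_adj h htri hu hx huw hxw hux)
    (Cover2.same_of_adj h htri hx hu' hxw hu'w hxu')

theorem same_smul (_h : C.Hyp) (k : K) {w u u' : Ω} (hS : Cover2.Same C w u u') :
    Cover2.Same C (C.ι k • w) (C.ι k • u) (C.ι k • u') := by
  intro x y y' hx hy hy' ey ey' exy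
  have key : ∀ (z : M × H) (v : Ω), z.1 • C.p = C.ι k • v → (C.kh k⁻¹ * z).1 • C.p = v := by
    intro z v hz
    rw [Prod.fst_mul, mul_smul, hz]
    change C.ι k⁻¹ • C.ι k • v = v
    rw [map_inv, inv_smul_smul]
  have h1 := hS (C.kh k⁻¹ * x) (C.kh k⁻¹ * y) (C.kh k⁻¹ * y') (key _ _ hx) (key _ _ hy)
    (key _ _ hy') (Ctx.E_left _ ey) (Ctx.E_left _ ey') (by
      have : (C.kh k⁻¹ * y)⁻¹ * (C.kh k⁻¹ * x) = y⁻¹ * x := by group
      rwa [this])
  have : (C.kh k⁻¹ * y')⁻¹ * (C.kh k⁻¹ * x) = y'⁻¹ * x := by group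
  rwa [this] at h1

/-- one closed lift of a quadrangle at the base point -/
theorem same_of_quad (h : C.Hyp) {w u u' : Ω} {x y y' : M × H} (hx : x.1 • C.p = w)
    (hy : y.1 • C.p = u) (hy' : y'.1 • C.p = u') (ey : C.E y) (ey' : C.E y')
    (exy : C.E (y⁻¹ * x)) (exy' : C.E (y'⁻¹ * x)) : Cover2.Same C w u u' := by
  intro a b b' ha hb hb' eb eb' eab
  obtain ⟨k, hk⟩ := h.lift_uniq (x := 1) (y := y) (z := b) (by rwa [inv_one, one_mul])
    (by rwa [inv_one, one_mul]) (by rw [hy, hb])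
  obtain ⟨k', hk'⟩ := h.lift_uniq (x := 1) (y := y') (z := b') (by rwa [inv_one, one_mul])
    (by rwa [inv_one, one_mul]) (by rw [hy', hb'])
  have e1 : C.E (b⁻¹ * x) := by
    have : b⁻¹ * x = C.kh k⁻¹ * (y⁻¹ * x) := by rw [hk, Ctx.kh_inv]; group
    rw [this]
    exact Ctx.E_left _ exy
  obtain ⟨l, hl⟩ := h.lift_uniq e1 eab (by rw [hx, ha])
  have : b'⁻¹ * a = C.kh k'⁻¹ * (y'⁻¹ * x) * C.kh l := by
    rw [hk', hl, Ctx.kh_inv]; group
  rw [this]
  exact Ctx.E_right _ (Ctx.E_left _ exy')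

end Cover

variable {F : Type*} [Field F] {q : ℕ} [Fintype F]

/-- The hypotheses of the step. -/
structure StepHyp (hF : Fintype.card F = q ^ 2) (n : ℕ) {H : Type*} [Group H]
    (α : SU (n + 3) F q →* H) (γ : SU 3 F q →* H) : Prop where
  hα : ∀ x : SU 2 F q, γ (emb hF 1 (by omega) x) = α (emb hF 0 (by omega) x)
  hc : ∀ (c : SU (n + 2) F q) (a : SU 2 F q),
      α (emb hF 1 (by omega) c) * γ (emb hF 0 (by omega) a) =
        γ (emb hF 0 (by omega) a) * α (emb hF 1 (by omega) c)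

section

variable {n : ℕ} {H : Type*} [Group H] {α : SU (n + 3) F q →* H} {γ : SU 3 F q →* H}

theorem StepHyp.hyp (hF : Fintype.card F = q ^ 2) (h : StepHyp hF n α γ) :
    (octx hF (n + 1) α (γ.comp (emb hF 0 (by omega)))).Hyp := by
  obtain ⟨hα, hc⟩ := h
  set φ : SU 2 F q →* H := γ.comp (emb hF 0 (by omega)) with hφ
  have hφa : ∀ a, φ a = γ (emb hF 0 (by omega) a) := fun a => rfl
  have r1 : ∀ t : SU 2 F q, emb hF 1 (by omega : 1 + (n + 3) ≤ n + 4)
      (emb hF 0 (by omega : 0 + 2 ≤ n + 3) t) =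
      emb hF 0 (by omega : 0 + 3 ≤ n + 4) (emb hF 1 (by omega : 1 + 2 ≤ 3) t) := by
    intro t
    rw [emb_emb, emb_emb]
  have r2 : ∀ a : SU 2 F q, emb hF 0 (by omega : 0 + 2 ≤ n + 4) a =
      emb hF 0 (by omega : 0 + 3 ≤ n + 4) (emb hF 0 (by omega : 0 + 2 ≤ 3) a) := by
    intro a
    rw [emb_emb]
  have r3 : ∀ (c : SU (n + 2) F q) (a : SU 2 F q),
      emb hF 1 (by omega : 1 + (n + 3) ≤ n + 4) (emb hF 1 (by omega : 1 + (n + 2) ≤ n + 3) c) *
        emb hF 0 (by omega : 0 + 2 ≤ n + 4) a =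
      emb hF 0 (by omega : 0 + 2 ≤ n + 4) a *
        emb hF 1 (by omega : 1 + (n + 3) ≤ n + 4)
          (emb hF 1 (by omega : 1 + (n + 2) ≤ n + 3) c) := by
    intro c a
    rw [emb_emb, emb_comm]
    right
    omega
  refine octx_hyp hF (n + 1) α φ ?_
  intro k a b ha e
  obtain ⟨t, c, hk, e3⟩ := decomp_of_map hF k a b ha e
  have hfix : ((emb hF 0 (by omega : 0 + 2 ≤ 3) b)⁻¹ * (emb hF 1 (by omega : 1 + 2 ≤ 3) t *
      emb hF 0 (by omega : 0 + 2 ≤ 3) a)) • e0 2 F q = e0 2 F q := by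
    rw [mul_smul, mul_smul, e3, inv_smul_smul]
  obtain ⟨d, hd⟩ := exists_emb_of_fix hF _ hfix
  have hd' : emb hF 1 (by omega : 1 + 2 ≤ 3) t * emb hF 0 (by omega : 0 + 2 ≤ 3) a =
      emb hF 0 (by omega : 0 + 2 ≤ 3) b * emb hF 1 (by omega : 1 + 2 ≤ 3) d := by
    rw [hd, mul_inv_cancel_left]
  refine ⟨emb hF 0 (by omega) d * emb hF 1 (by omega) c, ?_, ?_⟩
  · rw [hk, map_mul, map_mul, mul_assoc, r3, ← mul_assoc, ← mul_assoc, r1, r1, r2 a, r2 b,
      ← map_mul, ← map_mul, hd']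
  · rw [hk, map_mul, map_mul, hφa, hφa, mul_assoc, hc, ← mul_assoc, ← mul_assoc, ← hα, ← hα,
      ← map_mul, ← map_mul, hd']

theorem StepHyp.tri (hF : Fintype.card F = q ^ 2) (h : StepHyp hF n α γ) :
    ∀ u v w : Pt (n + 4) F q, orth u v → orth u w → orth v w →
      (octx hF (n + 1) α (γ.comp (emb hF 0 (by omega)))).Tri u v w := by
  have hyp := h.hyp hF
  obtain ⟨hα, hc⟩ := h
  set φ : SU 2 F q →* H := γ.comp (emb hF 0 (by omega)) with hφ
  have hφa : ∀ a, φ a = γ (emb hF 0 (by omega) a) := fun a => rfl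
  have r1 : ∀ t : SU 2 F q, emb hF 1 (by omega : 1 + (n + 3) ≤ n + 4)
      (emb hF 0 (by omega : 0 + 2 ≤ n + 3) t) =
      emb hF 0 (by omega : 0 + 3 ≤ n + 4) (emb hF 1 (by omega : 1 + 2 ≤ 3) t) := by
    intro t
    rw [emb_emb, emb_emb]
  have r2 : ∀ a : SU 2 F q, emb hF 0 (by omega : 0 + 2 ≤ n + 4) a =
      emb hF 0 (by omega : 0 + 3 ≤ n + 4) (emb hF 0 (by omega : 0 + 2 ≤ 3) a) := by
    intro a
    rw [emb_emb]
  -- the third subgroup
  have hB : ∀ b : SU 3 F q, orth (e0 (n + 3) F q)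
      (emb hF 0 (by omega : 0 + 3 ≤ n + 4) b • e0 (n + 3) F q) →
      (octx hF (n + 1) α φ).E (emb hF 0 (by omega : 0 + 3 ≤ n + 4) b, γ b) := by
    intro b hb
    have hb3 := adj_emb_three hF b (adj_of_orth hb)
    obtain ⟨k, a, hka⟩ := exists_of_adj hF (n := 0) _ hb3
    have hfix : ((emb hF 1 (by omega : 1 + 2 ≤ 3) k * emb hF 0 (by omega : 0 + 2 ≤ 3) a)⁻¹ * b) •
        e0 2 F q = e0 2 F q := by
      rw [mul_smul, inv_smul_eq_iff, mul_smul]
      exact hka.symm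
    obtain ⟨l, hl⟩ := exists_emb_of_fix hF _ hfix
    have hbe : b = emb hF 1 (by omega : 1 + 2 ≤ 3) k * emb hF 0 (by omega : 0 + 2 ≤ 3) a *
        emb hF 1 (by omega : 1 + 2 ≤ 3) l := by
      rw [hl, mul_inv_cancel_left]
    have hpos : emb hF 0 (by omega : 0 + 3 ≤ n + 4) b =
        emb hF 1 (by omega : 1 + (n + 3) ≤ n + 4) (emb hF 0 (by omega : 0 + 2 ≤ n + 3) k) *
          emb hF 0 (by omega : 0 + 2 ≤ n + 4) a *
          emb hF 1 (by omega : 1 + (n + 3) ≤ n + 4) (emb hF 0 (by omega : 0 + 2 ≤ n + 3) l) := by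
      rw [r1, r1, r2, ← map_mul, ← map_mul, ← hbe]
    refine ⟨emb hF 0 (by omega) k, a, emb hF 0 (by omega) l, ?_, ?_⟩
    · -- `a e0` is orthogonal to `e0`
      have h5 : emb hF 0 (by omega : 0 + 3 ≤ n + 4) b • e0 (n + 3) F q =
          emb hF 1 (by omega : 1 + (n + 3) ≤ n + 4) (emb hF 0 (by omega : 0 + 2 ≤ n + 3) k) •
            emb hF 0 (by omega : 0 + 2 ≤ n + 4) a • e0 (n + 3) F q := by
        rw [hpos, mul_smul, mul_smul, emb_one_e0]
      rw [h5] at hb
      have h6 := orth_smul (emb hF 1 (by omega : 1 + (n + 3) ≤ n + 4)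
        (emb hF 0 (by omega : 0 + 2 ≤ n + 3) k))⁻¹ hb
      rw [inv_smul_smul, ← map_inv, emb_one_e0] at h6
      exact h6
    · refine Prod.ext hpos ?_
      change γ b = α (emb hF 0 (by omega) k) * φ a * α (emb hF 0 (by omega) l)
      rw [← hα, ← hα, hφa, ← map_mul, ← map_mul, ← hbe]
  -- triangles
  intro v x u hvx hvu hxu
  obtain ⟨g, x₁, x₂, x₃, h1, h2, h3⟩ := exists_frame hF v x u hvx (by
    have e1 : hermForm (n + 4) F q v.val u.val = 0 := hvu
    have e2 : hermForm (n + 4) F q x.val u.val = 0 := hxu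
    rw [e1, e2, mul_zero, mul_zero, add_zero]
    exact zero_ne_one)
  rw [← h1, ← h2, ← h3]
  apply hyp.tri_smul
  refine hyp.tri_of_hom (emb hF 0 (by omega : 0 + 3 ≤ n + 4)) γ hB x₁ x₂ x₃ ?_ ?_ ?_
  · have := orth_smul g⁻¹ hvx
    rw [← h1, ← h2, inv_smul_smul, inv_smul_smul] at this
    exact this
  · have := orth_smul g⁻¹ hvu
    rw [← h1, ← h3, inv_smul_smul, inv_smul_smul] at this
    exact this
  · have := orth_smul g⁻¹ hxu
    rw [← h2, ← h3, inv_smul_smul, inv_smul_smul] at this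
    exact this

end

/-- **The inductive step.** -/
theorem exists_extension_of_same (hF : Fintype.card F = q ^ 2) (n : ℕ) (hn : 1 ≤ n)
    {H : Type*} [Group H] (α : SU (n + 3) F q →* H) (γ : SU 3 F q →* H) (h : StepHyp hF n α γ)
    (hsame : ∀ w u u' : Pt (n + 4) F q, orth (e0 (n + 3) F q) u → orth u w →
      orth (e0 (n + 3) F q) u' → orth u' w →
      Cover2.Same (octx hF (n + 1) α (γ.comp (emb hF 0 (by omega)))) w u u') :
    ∃ Φ : SU (n + 4) F q →* H, (∀ x : SU (n + 3) F q, Φ (emb hF 1 (by omega) x) = α x) ∧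
      ∀ x : SU 2 F q, Φ (emb hF 0 (by omega) x) = γ (emb hF 0 (by omega) x) := by
  have hyp := h.hyp hF
  have htri := h.tri hF
  obtain ⟨hα, hc⟩ := h
  set φ : SU 2 F q →* H := γ.comp (emb hF 0 (by omega)) with hφ
  have hφa : ∀ a, φ a = γ (emb hF 0 (by omega) a) := fun a => rfl
  have r1 : ∀ t : SU 2 F q, emb hF 1 (by omega : 1 + (n + 3) ≤ n + 4)
      (emb hF 0 (by omega : 0 + 2 ≤ n + 3) t) =
      emb hF 0 (by omega : 0 + 3 ≤ n + 4) (emb hF 1 (by omega : 1 + 2 ≤ 3) t) := by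
    intro t
    rw [emb_emb, emb_emb]
  have r2 : ∀ a : SU 2 F q, emb hF 0 (by omega : 0 + 2 ≤ n + 4) a =
      emb hF 0 (by omega : 0 + 3 ≤ n + 4) (emb hF 0 (by omega : 0 + 2 ≤ 3) a) := by
    intro a
    rw [emb_emb]
  obtain ⟨Φ, hΦ1, hΦ2⟩ := Cover2.exists_hom_of_same hyp htri
    (fun w => exists_nbr hF (n := n) (e0 (n + 3) F q) w)
    (fun w w' h => by
      obtain ⟨m, rfl⟩ : ∃ m, n = m + 1 := ⟨n - 1, by omega⟩
      exact exists_nbr_edge hF (n := m) (e0 (m + 1 + 3) F q) w w' h)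
    (fun w u u' h1 h2 h3 h4 => hsame w u u' h1 h2 h3 h4)
  have hΦ1' : ∀ x : SU (n + 3) F q, Φ (emb hF 1 (by omega) x) = α x := hΦ1
  refine ⟨Φ, hΦ1', ?_⟩
  -- the equalizer
  have e1 : ∀ t : SU 2 F q, Φ (emb hF 0 (by omega : 0 + 3 ≤ n + 4)
      (emb hF 1 (by omega : 1 + 2 ≤ 3) t)) = γ (emb hF 1 (by omega : 1 + 2 ≤ 3) t) := by
    intro t
    rw [← r1, hΦ1', hα]
  have e2 : Φ (emb hF 0 (by omega : 0 + 3 ≤ n + 4) (emb hF 0 (by omega : 0 + 2 ≤ 3) (wey hF))) =
      γ (emb hF 0 (by omega : 0 + 2 ≤ 3) (wey hF)) := by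
    rw [← r2]
    exact hΦ2 (wey hF) (wey_orth hF (n := n + 2))
  intro a
  rw [r2]
  set β : SU 3 F q →* H := Φ.comp (emb hF 0 (by omega : 0 + 3 ≤ n + 4)) with hβ
  change β (emb hF 0 (by omega : 0 + 2 ≤ 3) a) = _
  have e1' : ∀ t : SU 2 F q, β (emb hF 1 (by omega : 1 + 2 ≤ 3) t) =
      γ (emb hF 1 (by omega : 1 + 2 ≤ 3) t) := e1
  have e2' : β (emb hF 0 (by omega : 0 + 2 ≤ 3) (wey hF)) =
      γ (emb hF 0 (by omega : 0 + 2 ≤ 3) (wey hF)) := e2
  have h7 := congrArg β (cyc_conj hF a)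
  have h8 := congrArg γ (cyc_conj hF a)
  simp only [map_mul] at h7 h8
  rw [e1', e1', e2', ← h8] at h7
  exact mul_left_cancel h7

end Cfsg.Agent.P3711
end

-- part: P3711/Two
section
/-!
# The field with four elements: dimensions five and six
-/

set_option autoImplicit false

namespace Cfsg.Agent.P3711

open Matrix Cfsg Cfsg.Agent.Phan Cfsg.Agent.Phan.Cover Cfsg.Agent.H434
open Cfsg.Agent.LieClassical.HermBasic

variable {F : Type*} [Field F] [Fintype F]

theorem two_eq_zero (hF : Fintype.card F = 2 ^ 2) : (2 : F) = 0 := by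
  have h1 : ((Fintype.card F : ℕ) : F) = 0 := FiniteField.cast_card_eq_zero F
  rw [hF] at h1
  have h2 : (2 : F) * 2 = 0 := by
    have : ((2 ^ 2 : ℕ) : F) = 2 * 2 := by push_cast; ring
    rw [← this]; exact h1
  exact mul_self_eq_zero.1 h2

theorem one_add_one (hF : Fintype.card F = 2 ^ 2) : (1 : F) + 1 = 0 := by
  have := two_eq_zero hF
  rw [← this]; ring

theorem neg_eq (hF : Fintype.card F = 2 ^ 2) (x : F) : -x = x := by
  have := two_eq_zero hF
  linear_combination -x * this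

theorem eq_of_add (hF : Fintype.card F = 2 ^ 2) {x y : F} (h : x + y = 0) : x = y := by
  rw [← neg_eq hF y]
  exact eq_neg_of_add_eq_zero_left h

theorem norm_two (hF : Fintype.card F = 2 ^ 2) {a : F} (ha : a ≠ 0) : a * a ^ 2 = 1 := by
  have h1 := FiniteField.pow_card_sub_one_eq_one a ha
  rw [hF] at h1
  rw [← pow_succ']
  exact h1

theorem norm_eq_one_iff (hF : Fintype.card F = 2 ^ 2) {a : F} : a * a ^ 2 = 1 ↔ a ≠ 0 := by
  constructor
  · rintro h rfl
    rw [zero_mul] at h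
    exact zero_ne_one h
  · exact norm_two hF

theorem norm_zero_or_one (hF : Fintype.card F = 2 ^ 2) (a : F) :
    (a = 0 ∧ a * a ^ 2 = 0) ∨ (a ≠ 0 ∧ a * a ^ 2 = 1) := by
  by_cases h : a = 0
  · left
    rw [h, zero_mul]
    exact ⟨rfl, rfl⟩
  · exact Or.inr ⟨h, norm_two hF h⟩

/-- the standard isotropic vector -/
def iso0 (n : ℕ) (F : Type*) [Field F] : Fin (n + 3) → F := Fin.cons 1 (Pi.single 0 1)

/-- transitivity on isotropic vectors -/
theorem exists_su_iso (hF : Fintype.card F = 2 ^ 2) {n : ℕ} {r : Fin (n + 3) → F}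
    (hr : hermForm (n + 3) F 2 r r = 0) (h0 : r ≠ 0) :
    ∃ g : SU (n + 3) F 2, mat g *ᵥ (iso0 n F) = r := by
  obtain ⟨y, hy⟩ := exists_unit_of_isotropic hF hr h0 (one_ne_zero (α := F))
  obtain ⟨g₁, hg₁⟩ := exists_su_smul hF (e0 (n + 2) F 2) y
  set r' := mat g₁⁻¹ *ᵥ r with hr'
  have hrr : mat g₁ *ᵥ r' = r := by
    rw [hr', Matrix.mulVec_mulVec, mat_mul_inv, Matrix.one_mulVec]
  have hk : mat g₁ *ᵥ (e0 (n + 2) F 2).val = y.val := congrArg Pt.val hg₁
  have h1 : r' 0 = 1 := by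
    have h1 := hy
    rw [← hk, ← hrr, mat_isom, herm_e0_left] at h1
    have h2 := congrArg (fun z => z ^ 2) h1
    simpa [pow_q_pow_q hF] using h2
  have hn : hermForm (n + 3) F 2 r' r' = 0 := by
    rw [← mat_isom g₁, hrr, hr]
  have hdec := cons_tl r'
  rw [← hdec, herm_cons, h1, one_pow, mul_one] at hn
  have hn' : hermForm (n + 2) F 2 (tl r') (tl r') = 1 := (eq_of_add hF hn).symm
  obtain ⟨g₂, hg₂⟩ := exists_su_map hF (n := n) (u := Pi.single 0 1) (v := tl r') (by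
    rw [herm_single_left, Pi.single_eq_same, one_pow, mul_one, hn']) (by
    rw [herm_single_left, Pi.single_eq_same, one_pow, mul_one]; exact one_ne_zero)
  refine ⟨g₁ * emb hF 1 (by omega : 1 + (n + 2) ≤ n + 3) g₂, ?_⟩
  rw [mat_mul, ← Matrix.mulVec_mulVec, iso0, emb_one_cons, hg₂, ← h1, hdec, hrr]

/-- the orbits of the stabiliser on the non-neighbours -/
theorem nonorth_cases (hF : Fintype.card F = 2 ^ 2) {n : ℕ} (w : Pt (n + 4) F 2)
    (hw : ¬ orth (e0 (n + 3) F 2) w) :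
    (∃ a : F, w.val = Fin.cons a 0) ∨ ∃ (a : F) (g : SU (n + 3) F 2) (w₀ : Pt (n + 4) F 2),
      w₀.val = Fin.cons a (iso0 n F) ∧
        w = emb hF 1 (by omega : 1 + (n + 3) ≤ n + 4) g • w₀ := by
  have ha : w.val 0 ≠ 0 := by
    intro h
    apply hw
    rw [orth, herm_e0_left, h, zero_pow_q hF]
  have hdec := cons_tl w.val
  have hn := w.norm
  rw [← hdec, herm_cons, norm_two hF ha] at hn
  have hn' : hermForm (n + 3) F 2 (tl w.val) (tl w.val) = 0 := by
    have : (1 : F) + hermForm (n + 3) F 2 (tl w.val) (tl w.val) = 1 + 0 := by rw [hn, add_zero]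
    exact add_left_cancel this
  by_cases h0 : tl w.val = 0
  · left
    exact ⟨w.val 0, by rw [← h0, hdec]⟩
  · right
    obtain ⟨g, hg⟩ := exists_su_iso hF hn' h0
    refine ⟨w.val 0, g, (emb hF 1 (by omega : 1 + (n + 3) ≤ n + 4) g)⁻¹ • w, ?_,
      by rw [smul_inv_smul]⟩
    rw [smul_val]
    have h1 : mat (emb hF 1 (by omega : 1 + (n + 3) ≤ n + 4) g) *ᵥ (Fin.cons (w.val 0) (iso0 n F)) =
        w.val := by
      rw [emb_one_cons, hg, hdec]
    conv_lhs => rw [← h1, Matrix.mulVec_mulVec, mat_inv_mul, Matrix.one_mulVec]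

section same

variable {n : ℕ} {H : Type*} [Group H] {α : SU (n + 3) F 2 →* H} {γ : SU 3 F 2 →* H}

/-- reduction of the agreement of lifts to the standard vector -/
theorem same_reduce (hF : Fintype.card F = 2 ^ 2) (h : StepHyp hF n α γ) (hn : 1 ≤ n)
    (hstd : ∀ (a : F) (w₀ : Pt (n + 4) F 2), a ≠ 0 → w₀.val = Fin.cons a (iso0 n F) →
      ∀ u u', orth (e0 (n + 3) F 2) u → orth u w₀ → orth (e0 (n + 3) F 2) u' → orth u' w₀ →
      Cover2.Same (octx hF (n + 1) α (γ.comp (emb hF 0 (by omega)))) w₀ u u') :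
    ∀ w u u' : Pt (n + 4) F 2, orth (e0 (n + 3) F 2) u → orth u w →
      orth (e0 (n + 3) F 2) u' → orth u' w →
      Cover2.Same (octx hF (n + 1) α (γ.comp (emb hF 0 (by omega)))) w u u' := by
  intro w u u' h1 h2 h3 h4
  have hyp := h.hyp hF
  have htri := h.tri hF
  by_cases hpw : orth (e0 (n + 3) F 2) w
  · exact same_of_adj_base hyp htri hpw h1 h2 h3 h4
  rcases nonorth_cases hF w hpw with ⟨a, ha⟩ | ⟨a, g, w₀, hw₀, hw⟩
  · -- `w` is a multiple of the base point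
    obtain ⟨m, rfl⟩ : ∃ m, n = m + 1 := ⟨n - 1, by omega⟩
    obtain ⟨x, x1, x2, x3⟩ := exists_nbr_edge hF (n := m) u' (e0 (m + 1 + 3) F 2) u h1
    have hxw : orth x w := by
      have h5 : orth (e0 (m + 1 + 3) F 2) x := orth_symm hF x2
      rw [orth, herm_e0_left, pow_q_eq_zero hF] at h5
      rw [orth, ha, ← cons_tl x.val, h5, herm_cons, zero_mul, herm_zero_right hF, add_zero]
    exact same_trans' hyp htri h1 h2 (orth_symm hF x2) hxw h3 h4 (orth_symm hF x3)
      (orth_symm hF x1)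
  · have h5 := hstd a w₀ (by
      rintro rfl
      apply hpw
      rw [hw, orth, ← emb_one_e0 hF g, smul_val, smul_val, mat_isom, herm_e0_left, hw₀,
        Fin.cons_zero, zero_pow_q hF]) hw₀
    have e1 : ∀ v : Pt (n + 4) F 2, orth (e0 (n + 3) F 2) v → orth v w →
        orth (e0 (n + 3) F 2) ((emb hF 1 (by omega : 1 + (n + 3) ≤ n + 4) g)⁻¹ • v) ∧
        orth ((emb hF 1 (by omega : 1 + (n + 3) ≤ n + 4) g)⁻¹ • v) w₀ := by
      intro v hv hvw
      constructor
      · have := orth_smul (emb hF 1 (by omega : 1 + (n + 3) ≤ n + 4) g)⁻¹ hv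
        rwa [← map_inv, emb_one_e0, map_inv] at this
      · have := orth_smul (emb hF 1 (by omega : 1 + (n + 3) ≤ n + 4) g)⁻¹ hvw
        rwa [hw, inv_smul_smul] at this
    have h6 := same_smul hyp g (h5 _ _ (e1 u h1 h2).1 (e1 u h1 h2).2 (e1 u' h3 h4).1
      (e1 u' h3 h4).2)
    change Cover2.Same _ (emb hF 1 (by omega : 1 + (n + 3) ≤ n + 4) g • w₀)
      (emb hF 1 (by omega : 1 + (n + 3) ≤ n + 4) g • _)
      (emb hF 1 (by omega : 1 + (n + 3) ≤ n + 4) g • _) at h6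
    rwa [smul_inv_smul, smul_inv_smul, ← hw] at h6

/-- neighbours of the base point and the standard vector -/
theorem nbr_coords (hF : Fintype.card F = 2 ^ 2) {m : ℕ} {a : F} {w₀ u : Pt (m + 4) F 2}
    (hw : w₀.val = Fin.cons a (iso0 m F)) (h1 : orth (e0 (m + 3) F 2) u) (h2 : orth u w₀) :
    ∃ (c : F) (b : Fin (m + 1) → F), u.val = Fin.cons 0 (Fin.cons c (Fin.cons c b)) ∧
      hermForm (m + 1) F 2 b b = 1 := by
  rw [orth, herm_e0_left, pow_q_eq_zero hF] at h1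
  set v := tl u.val with hv
  have e1 : u.val = Fin.cons 0 v := by rw [← h1, hv, cons_tl]
  have e2 : v = Fin.cons (v 0) (tl v) := (cons_tl v).symm
  have e3 : tl v = Fin.cons (tl v 0) (tl (tl v)) := (cons_tl (tl v)).symm
  rw [orth, hw, e1, herm_cons, zero_mul, zero_add, iso0, e2, herm_cons, one_pow, mul_one,
    herm_single_right hF, one_pow, mul_one] at h2
  have e4 : tl v 0 = v 0 := (eq_of_add hF h2).symm
  have hn := u.norm
  rw [e1, e2, e3, herm_cons, herm_cons, herm_cons, zero_mul, zero_add, e4, ← add_assoc] at hn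
  have e5 : v 0 * v 0 ^ 2 + v 0 * v 0 ^ 2 = 0 := by
    have := two_eq_zero hF
    linear_combination (v 0 * v 0 ^ 2) * this
  rw [e5, zero_add] at hn
  refine ⟨v 0, tl (tl v), ?_, hn⟩
  conv_lhs => rw [e1, e2, e3, e4]

end same

/-- **Dimension five.** -/
theorem exists_extension_five (hF : Fintype.card F = 2 ^ 2) {H : Type*} [Group H]
    (α : SU 4 F 2 →* H) (γ : SU 3 F 2 →* H) (h : StepHyp hF 1 α γ) :
    ∃ Φ : SU 5 F 2 →* H, (∀ x : SU 4 F 2, Φ (emb hF 1 (by omega) x) = α x) ∧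
      ∀ x : SU 2 F 2, Φ (emb hF 0 (by omega) x) = γ (emb hF 0 (by omega) x) := by
  refine exists_extension_of_same hF 1 le_rfl α γ h ?_
  refine same_reduce hF h le_rfl ?_
  intro a w₀ _ hw₀ u u' h1 h2 h3 h4
  have hyp := h.hyp hF
  have htri := h.tri hF
  -- the two basis vectors
  have hv : ∀ b : Fin 2 → F, hermForm 2 F 2 b b = 1 →
      hermForm 5 F 2 (Fin.cons 0 (Fin.cons 0 (Fin.cons 0 b)))
        (Fin.cons 0 (Fin.cons 0 (Fin.cons 0 b))) = 1 := by
    intro b hb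
    rw [herm_cons, herm_cons, herm_cons, hb, zero_mul, zero_add, zero_add, zero_add]
  have hvo : ∀ (b : Fin 2 → F) (hb : hermForm 2 F 2 b b = 1),
      orth (e0 4 F 2) ⟨_, hv b hb⟩ ∧ orth ⟨_, hv b hb⟩ w₀ := by
    intro b hb
    constructor
    · rw [orth, herm_e0_left]
      exact zero_pow_q hF
    · rw [orth, hw₀, iso0]
      change hermForm 5 F 2 (Fin.cons 0 (Fin.cons 0 (Fin.cons 0 b))) _ = 0
      rw [herm_cons, herm_cons, zero_mul, zero_mul, zero_add, zero_add, herm_single_right hF,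
        Fin.cons_zero, zero_mul]
  have hs0 : hermForm 2 F 2 (Fin.cons 1 (Fin.cons 0 0)) (Fin.cons 1 (Fin.cons 0 0)) = 1 := by
    rw [herm_cons, herm_cons, herm_zero_left]; simp
  have hs1 : hermForm 2 F 2 (Fin.cons 0 (Fin.cons 1 0)) (Fin.cons 0 (Fin.cons 1 0)) = 1 := by
    rw [herm_cons, herm_cons, herm_zero_left]; simp
  set f0 : Pt 5 F 2 := ⟨_, hv _ hs0⟩ with hf0
  set f1 : Pt 5 F 2 := ⟨_, hv _ hs1⟩ with hf1
  have o0 := hvo _ hs0
  have o1 := hvo _ hs1
  have o01 : orth f0 f1 := by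
    rw [orth, hf0, hf1]
    change hermForm 5 F 2 (Fin.cons 0 (Fin.cons 0 (Fin.cons 0 (Fin.cons 1 (Fin.cons 0 0)))))
      (Fin.cons 0 (Fin.cons 0 (Fin.cons 0 (Fin.cons 0 (Fin.cons 1 0))))) = 0
    simp only [herm_cons, herm_zero_left]
    simp
  -- every neighbour is orthogonal to one of the two
  have key : ∀ v : Pt 5 F 2, orth (e0 4 F 2) v → orth v w₀ → orth v f0 ∨ orth v f1 := by
    intro v hv1 hv2
    obtain ⟨c, b, e, hb⟩ := nbr_coords hF hw₀ hv1 hv2
    have hb' : b = Fin.cons (b 0) (Fin.cons (b 1) 0) := by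
      funext i
      fin_cases i <;> rfl
    rw [hb', herm_cons, herm_cons, herm_zero_left, add_zero] at hb
    have hor : b 0 = 0 ∨ b 1 = 0 := by
      by_contra hcon
      push Not at hcon
      rw [norm_two hF hcon.1, norm_two hF hcon.2, one_add_one hF] at hb
      exact zero_ne_one hb
    rcases hor with h0 | h0
    · left
      rw [orth, e, hf0, hb', h0]
      change hermForm 5 F 2 _
        (Fin.cons 0 (Fin.cons 0 (Fin.cons 0 (Fin.cons 1 (Fin.cons 0 0))))) = 0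
      simp only [herm_cons, herm_zero_left]
      simp
    · right
      rw [orth, e, hf1, hb', h0]
      change hermForm 5 F 2 _
        (Fin.cons 0 (Fin.cons 0 (Fin.cons 0 (Fin.cons 0 (Fin.cons 1 0))))) = 0
      simp only [herm_cons, herm_zero_left]
      simp
  -- all lifts agree with the one through `f0`
  have key2 : ∀ v : Pt 5 F 2, orth (e0 4 F 2) v → orth v w₀ →
      Cover2.Same (octx hF (1 + 1) α (γ.comp (emb hF 0 (by omega)))) w₀ v f0 := by
    intro v hv1 hv2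
    rcases key v hv1 hv2 with h0 | h0
    · exact Cover2.same_of_adj hyp htri hv1 o0.1 hv2 o0.2 h0
    · exact same_trans' hyp htri hv1 hv2 o1.1 o1.2 o0.1 o0.2 h0 (orth_symm hF o01)
  exact Cover2.same_trans hyp o0.1 (key2 u h1 h2) (same_symm hyp (key2 u' h3 h4) h4)

omit [Fintype F] in
theorem e0_eq_pe {n q : ℕ} : e0 n F q = pe (n + 1) F q 0 := rfl

theorem emb_smul_pe_sh {q : ℕ} (hF : Fintype.card F = q ^ 2) {m n : ℕ} (k : ℕ) (h : k + m ≤ n)
    (x : SU m F q) {i j : Fin m} (hx : x • pe m F q i = pe m F q j) :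
    emb hF k h x • pe n F q (sh k h i) = pe n F q (sh k h j) := by
  apply Pt.ext'
  rw [smul_val]
  change mat (emb hF k h x) *ᵥ (Pi.single (sh k h i) 1) = Pi.single (sh k h j) 1
  have hx' : mat x *ᵥ (Pi.single i 1) = Pi.single j 1 := congrArg Pt.val hx
  rw [Matrix.mulVec_single_one] at hx'
  funext y
  rw [Matrix.mulVec_single_one]
  change extM (sh k h) (mat x) y (sh k h i) = _
  by_cases hy : ∃ l, y = sh k h l
  · obtain ⟨l, rfl⟩ := hy
    rw [extM_apply (sh_injective k h), Pi.single_apply]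
    have := congrFun hx' l
    change mat x l i = _ at this
    rw [this, Pi.single_apply]
    by_cases hlj : l = j
    · rw [if_pos hlj, if_pos (by rw [hlj])]
    · rw [if_neg hlj, if_neg (fun e => hlj (sh_injective k h e))]
  · push Not at hy
    rw [extM_apply_left hy, Matrix.one_apply, Pi.single_apply, if_neg (hy i), if_neg (hy j)]

/-- embeddings at position three -/
theorem emb_three_mulVec (hF : Fintype.card F = 2 ^ 2) {m : ℕ} (g : SU m F 2)
    (a b c : F) (v : Fin m → F) :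
    mat (emb hF 3 (by omega : 3 + m ≤ m + 3) g) *ᵥ
      (Fin.cons a (Fin.cons b (Fin.cons c v)) : Fin (m + 3) → F) =
      Fin.cons a (Fin.cons b (Fin.cons c (mat g *ᵥ v))) := by
  have e : emb hF 3 (by omega : 3 + m ≤ m + 3) g =
      emb hF 1 (by omega : 1 + (m + 2) ≤ m + 3) (emb hF 1 (by omega : 1 + (m + 1) ≤ m + 2)
        (emb hF 1 (by omega : 1 + m ≤ m + 1) g)) := by
    rw [emb_emb, emb_emb]
  rw [e, emb_one_cons, emb_one_cons, emb_one_cons]

/-- **Dimension six.** -/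
theorem exists_extension_six (hF : Fintype.card F = 2 ^ 2) {H : Type*} [Group H]
    (α : SU 5 F 2 →* H) (Γ : SU 4 F 2 →* H)
    (h : StepHyp hF 2 α (Γ.comp (emb hF 0 (by omega : 0 + 3 ≤ 4))))
    (hΓ : ∀ x : SU 3 F 2, Γ (emb hF 1 (by omega : 1 + 3 ≤ 4) x) =
      α (emb hF 0 (by omega : 0 + 3 ≤ 5) x))
    (hcc : ∀ b c : SU 3 F 2, Γ (emb hF 0 (by omega : 0 + 3 ≤ 4) b) *
      α (emb hF 2 (by omega : 2 + 3 ≤ 5) c) =
      α (emb hF 2 (by omega : 2 + 3 ≤ 5) c) * Γ (emb hF 0 (by omega : 0 + 3 ≤ 4) b)) :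
    ∃ Φ : SU 6 F 2 →* H, (∀ x : SU 5 F 2, Φ (emb hF 1 (by omega) x) = α x) ∧
      ∀ x : SU 2 F 2, Φ (emb hF 0 (by omega) x) =
        Γ (emb hF 0 (by omega : 0 + 3 ≤ 4) (emb hF 0 (by omega : 0 + 2 ≤ 3) x)) := by
  refine exists_extension_of_same hF 2 (by omega) α (Γ.comp (emb hF 0 (by omega : 0 + 3 ≤ 4))) h ?_
  refine same_reduce hF h (by omega) ?_
  intro a w₀ _ hw₀ u u' h1 h2 h3 h4
  have hyp := h.hyp hF
  have htri := h.tri hF
  obtain ⟨hα, hc⟩ := h
  set γ : SU 3 F 2 →* H := Γ.comp (emb hF 0 (by omega : 0 + 3 ≤ 4)) with hγ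
  set φ : SU 2 F 2 →* H := γ.comp (emb hF 0 (by omega : 0 + 2 ≤ 3)) with hφ
  set C := octx hF (2 + 1) α φ with hC
  -- `E` for elements of the first `SU 4`
  have hE4 : ∀ z : SU 4 F 2, orth (e0 3 F 2) (z • e0 3 F 2) →
      C.E (emb hF 0 (by omega : 0 + 4 ≤ 6) z, Γ z) := by
    intro z hz
    obtain ⟨k, b, hkb⟩ := exists_of_adj hF (n := 1) _ (adj_of_orth hz)
    have hfix : ((emb hF 1 (by omega : 1 + 3 ≤ 4) k * emb hF 0 (by omega : 0 + 2 ≤ 4) b)⁻¹ * z) •
        e0 3 F 2 = e0 3 F 2 := by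
      rw [mul_smul, inv_smul_eq_iff, mul_smul]
      exact hkb.symm
    obtain ⟨l, hl⟩ := exists_emb_of_fix hF _ hfix
    have hze : z = emb hF 1 (by omega : 1 + 3 ≤ 4) k * emb hF 0 (by omega : 0 + 2 ≤ 4) b *
        emb hF 1 (by omega : 1 + 3 ≤ 4) l := by
      rw [hl, mul_inv_cancel_left]
    have r1 : ∀ t : SU 3 F 2, emb hF 1 (by omega : 1 + 5 ≤ 6)
        (emb hF 0 (by omega : 0 + 3 ≤ 5) t) =
        emb hF 0 (by omega : 0 + 4 ≤ 6) (emb hF 1 (by omega : 1 + 3 ≤ 4) t) := by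
      intro t
      rw [emb_emb, emb_emb]
    have r2 : emb hF 0 (by omega : 0 + 2 ≤ 6) b =
        emb hF 0 (by omega : 0 + 4 ≤ 6) (emb hF 0 (by omega : 0 + 2 ≤ 4) b) := by
      rw [emb_emb]
    have r3 : emb hF 0 (by omega : 0 + 2 ≤ 4) b =
        emb hF 0 (by omega : 0 + 3 ≤ 4) (emb hF 0 (by omega : 0 + 2 ≤ 3) b) := by
      rw [emb_emb]
    refine ⟨emb hF 0 (by omega) k, b, emb hF 0 (by omega) l, ?_, ?_⟩
    · -- `b e0` is orthogonal to `e0`
      have h5 : orth (e0 3 F 2) (emb hF 0 (by omega : 0 + 2 ≤ 4) b • e0 3 F 2) := by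
        have h6 := orth_smul (emb hF 1 (by omega : 1 + 3 ≤ 4) k)⁻¹ hz
        rw [← hkb, inv_smul_smul, ← map_inv, emb_one_e0] at h6
        exact h6
      have h6 : mat b 0 0 = 0 := by
        rw [orth, herm_e0_left, emb_zero_e0 (n := 2), Fin.cons_zero, pow_q_eq_zero hF] at h5
        exact h5
      change orth (e0 5 F 2) (emb hF 0 (by omega : 0 + 2 ≤ 6) b • e0 5 F 2)
      rw [orth, herm_e0_left, emb_zero_e0 (n := 4), Fin.cons_zero, h6, zero_pow_q hF]
    · refine Prod.ext ?_ ?_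
      · change emb hF 0 (by omega : 0 + 4 ≤ 6) z =
          emb hF 1 (by omega : 1 + 5 ≤ 6) (emb hF 0 (by omega : 0 + 3 ≤ 5) k) *
            emb hF 0 (by omega : 0 + 2 ≤ 6) b *
            emb hF 1 (by omega : 1 + 5 ≤ 6) (emb hF 0 (by omega : 0 + 3 ≤ 5) l)
        rw [r1, r1, r2, ← map_mul, ← map_mul, ← hze]
      · change Γ z = α (emb hF 0 (by omega) k) * Γ (emb hF 0 (by omega : 0 + 3 ≤ 4)
          (emb hF 0 (by omega : 0 + 2 ≤ 3) b)) * α (emb hF 0 (by omega) l)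
        rw [← hΓ, ← hΓ, ← r3, ← map_mul, ← map_mul, ← hze]
  -- an element moving `e0` to `e3`
  obtain ⟨y₀, hy₀⟩ := exists_su_smul hF (e0 3 F 2) (pe 4 F 2 3)
  have hy₀o : orth (e0 3 F 2) (y₀ • e0 3 F 2) := by
    rw [hy₀, orth, herm_e0_left]
    change (Pi.single 3 1 : Fin 4 → F) 0 ^ 2 = 0
    rw [Pi.single_eq_of_ne (by decide), zero_pow_q hF]
  set y : SU 6 F 2 × H := (emb hF 0 (by omega : 0 + 4 ≤ 6) y₀, Γ y₀) with hy
  have ey : C.E y := hE4 y₀ hy₀o
  have hyp3 : y.1 • e0 5 F 2 = pe 6 F 2 3 := by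
    change emb hF 0 (by omega : 0 + 4 ≤ 6) y₀ • pe 6 F 2 (sh 0 (by omega : 0 + 4 ≤ 6) 0) =
      pe 6 F 2 (sh 0 (by omega : 0 + 4 ≤ 6) 3)
    exact emb_smul_pe_sh hF 0 (by omega : 0 + 4 ≤ 6) y₀ hy₀
  -- an element of the first `SU 3` moving `e0` to `w₀`
  obtain ⟨b, hb⟩ := exists_su3 hF (n := 3) w₀ a 1 1 hw₀
  set x : SU 6 F 2 × H := (emb hF 0 (by omega : 0 + 4 ≤ 6) (emb hF 0 (by omega : 0 + 3 ≤ 4) b),
    Γ (emb hF 0 (by omega : 0 + 3 ≤ 4) b)) with hx
  have hxp : x.1 • C.p = w₀ := by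
    change emb hF 0 (by omega : 0 + 4 ≤ 6) (emb hF 0 (by omega : 0 + 3 ≤ 4) b) • e0 5 F 2 = w₀
    rw [emb_emb]
    exact hb
  have hyx : C.E (y⁻¹ * x) := by
    have hfix : (y₀⁻¹ * emb hF 0 (by omega : 0 + 3 ≤ 4) b * y₀) • e0 3 F 2 = e0 3 F 2 := by
      rw [mul_smul, mul_smul, hy₀, emb_smul_pe hF 0 (by omega : 0 + 3 ≤ 4) b (i := 3)
        (Or.inr (by simp)), inv_smul_eq_iff, hy₀]
    obtain ⟨t, ht⟩ := exists_emb_of_fix hF _ hfix
    have h5 : y⁻¹ * x = C.kh (emb hF 0 (by omega : 0 + 3 ≤ 5) t) * y⁻¹ := by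
      rw [eq_mul_inv_iff_mul_eq]
      refine Prod.ext ?_ ?_
      · change (emb hF 0 (by omega : 0 + 4 ≤ 6) y₀)⁻¹ * emb hF 0 (by omega : 0 + 4 ≤ 6)
          (emb hF 0 (by omega : 0 + 3 ≤ 4) b) * emb hF 0 (by omega : 0 + 4 ≤ 6) y₀ =
          emb hF 1 (by omega : 1 + 5 ≤ 6) (emb hF 0 (by omega : 0 + 3 ≤ 5) t)
        rw [← map_inv, ← map_mul, ← map_mul, ← ht, emb_emb, emb_emb]
      · change (Γ y₀)⁻¹ * Γ (emb hF 0 (by omega : 0 + 3 ≤ 4) b) * Γ y₀ =
          α (emb hF 0 (by omega : 0 + 3 ≤ 5) t)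
        rw [← hΓ, ht, map_mul, map_mul, map_inv]
    rw [h5]
    exact Ctx.E_left _ (hyp.E_inv ey)
  -- the elements of the last `SU 3`
  set B : SU 3 F 2 → SU 6 F 2 × H := fun c => C.kh (emb hF 2 (by omega : 2 + 3 ≤ 5) c) with hB
  have hBx : ∀ c, (B c)⁻¹ * x = x * (B c)⁻¹ := by
    intro c
    have h5 : x * B c = B c * x := by
      refine Prod.ext ?_ ?_
      · change emb hF 0 (by omega : 0 + 4 ≤ 6) (emb hF 0 (by omega : 0 + 3 ≤ 4) b) *
          emb hF 1 (by omega : 1 + 5 ≤ 6) (emb hF 2 (by omega : 2 + 3 ≤ 5) c) =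
          emb hF 1 (by omega : 1 + 5 ≤ 6) (emb hF 2 (by omega : 2 + 3 ≤ 5) c) *
          emb hF 0 (by omega : 0 + 4 ≤ 6) (emb hF 0 (by omega : 0 + 3 ≤ 4) b)
        rw [emb_emb, emb_emb, emb_comm]
        left
        omega
      · exact hcc b c
    rw [inv_mul_eq_iff_eq_mul, ← mul_assoc, ← h5, mul_assoc, mul_inv_cancel, mul_one]
  have hz : ∀ c, C.E (B c * y) ∧ C.E ((B c * y)⁻¹ * x) := by
    intro c
    refine ⟨Ctx.E_left _ ey, ?_⟩
    rw [_root_.mul_inv_rev, mul_assoc, hBx, ← mul_assoc]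
    have : (B c)⁻¹ = C.kh (emb hF 2 (by omega : 2 + 3 ≤ 5) c)⁻¹ := by rw [Ctx.kh_inv]
    rw [this]
    exact Ctx.E_right _ hyx
  have hsame : ∀ c c' : SU 3 F 2, Cover2.Same C w₀ ((B c * y).1 • C.p) ((B c' * y).1 • C.p) :=
    fun c c' => same_of_quad hyp hxp rfl rfl (hz c).1 (hz c').1 (hz c).2 (hz c').2
  have hval : ∀ c, ((B c * y).1 • C.p).val =
      Fin.cons 0 (Fin.cons 0 (Fin.cons 0 (c • e0 2 F 2).val)) := by
    intro c
    rw [Prod.fst_mul, mul_smul]
    change (emb hF 1 (by omega : 1 + 5 ≤ 6) (emb hF 2 (by omega : 2 + 3 ≤ 5) c) •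
      (y.1 • e0 5 F 2)).val = _
    rw [hyp3, emb_emb, smul_val, smul_val]
    have h5 : (pe 6 F 2 3).val = Fin.cons 0 (Fin.cons 0 (Fin.cons 0 (e0 2 F 2).val)) := by
      funext i
      fin_cases i <;> rfl
    rw [h5]
    exact emb_three_mulVec hF c 0 0 0 _
  -- every neighbour is orthogonal to one of them
  have key : ∀ v : Pt 6 F 2, orth (e0 5 F 2) v → orth v w₀ →
      ∃ c, orth v ((B c * y).1 • C.p) ∧ orth (e0 5 F 2) ((B c * y).1 • C.p) ∧
        orth ((B c * y).1 • C.p) w₀ := by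
    intro v hv1 hv2
    obtain ⟨t, b', e, hb'⟩ := nbr_coords hF hw₀ hv1 hv2
    obtain ⟨f, hf⟩ := exists_perp hF 1 3 (fun _ => b') le_rfl
    obtain ⟨c, hcf⟩ := exists_su_smul hF (e0 2 F 2) f
    refine ⟨c, ?_, ?_, ?_⟩
    · rw [orth, hval, e, hcf, herm_cons, herm_cons, herm_cons, zero_pow_q hF,
        herm_eq_zero_swap hF (hf 0)]
      ring
    · rw [orth, hval, herm_e0_left]
      exact zero_pow_q hF
    · rw [orth, hval, hw₀, iso0, herm_cons, herm_cons, herm_single_right hF, Fin.cons_zero]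
      ring
  have key2 : ∀ v : Pt 6 F 2, orth (e0 5 F 2) v → orth v w₀ →
      Cover2.Same C w₀ v ((B 1 * y).1 • C.p) := by
    intro v hv1 hv2
    obtain ⟨c, c1, c2, c3⟩ := key v hv1 hv2
    exact Cover2.same_trans hyp c2 (Cover2.same_of_adj hyp htri hv1 c2 hv2 c3 c1) (hsame c 1)
  obtain ⟨c, c1, c2, c3⟩ := key u h1 h2
  have h7 : orth (e0 5 F 2) ((B 1 * y).1 • C.p) := hyp.E_adj (hz 1).1
  exact Cover2.same_trans hyp h7 (key2 u h1 h2) (same_symm hyp (key2 u' h3 h4) h4)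

end Cfsg.Agent.P3711
end

-- part: P3711/Ind
section
/-!
# Systems of homomorphisms of `SU 4` over the field with four elements

`Sys.exists_hom` : such a system comes from one homomorphism of `SU N`.
-/

set_option autoImplicit false

namespace Cfsg.Agent.P3711

open Matrix Cfsg Cfsg.Agent.Phan Cfsg.Agent.Phan.Cover Cfsg.Agent.H434
open Cfsg.Agent.LieClassical.HermBasic

variable {F : Type*} [Field F] [Fintype F]

/-- `SU (m+3)` is generated by the `SU 3` of consecutive coordinates. -/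
theorem closure_emb_three {q : ℕ} (hF : Fintype.card F = q ^ 2) (m : ℕ) :
    Subgroup.closure {y : SU (m + 3) F q | ∃ (j : ℕ) (h : j + 3 ≤ m + 3) (x : SU 3 F q),
      emb hF j h x = y} = ⊤ := by
  induction m with
  | zero =>
    rw [eq_top_iff]
    intro x _
    exact Subgroup.subset_closure ⟨0, by omega, x, emb_self hF _ x⟩
  | succ m ih =>
    rw [eq_top_iff, ← closure_eq_top_orth hF m, Subgroup.closure_le]
    rintro _ (⟨x, rfl⟩ | ⟨x, rfl⟩)
    · have hx : x ∈ Subgroup.closure {y : SU (m + 3) F q | ∃ (j : ℕ) (h : j + 3 ≤ m + 3)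
          (x : SU 3 F q), emb hF j h x = y} := by rw [ih]; trivial
      have h1 := Subgroup.mem_map_of_mem
        (emb hF 1 (by omega : 1 + (m + 3) ≤ m + 4) : SU (m + 3) F q →* SU (m + 4) F q) hx
      rw [MonoidHom.map_closure] at h1
      refine Subgroup.closure_mono ?_ h1
      rintro _ ⟨_, ⟨j, hj, x, rfl⟩, rfl⟩
      exact ⟨1 + j, by omega, x, (emb_emb hF _ _ _).symm⟩
    · refine Subgroup.subset_closure ⟨0, by omega, emb hF 0 (by omega : 0 + 2 ≤ 3) x, ?_⟩
      rw [emb_emb]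

/-- A system of rank `N - 1`. -/
structure Sys (hF : Fintype.card F = 2 ^ 2) (N : ℕ) {H : Type*} [Group H]
    (φ : ℕ → (SU 2 F 2 →* H)) (g : ℕ → (SU 3 F 2 →* H)) (Γ : ℕ → (SU 4 F 2 →* H)) : Prop where
  gl : ∀ k, k + 3 ≤ N → ∀ a, g k (emb hF 0 (by omega : 0 + 2 ≤ 3) a) = φ k a
  gr : ∀ k, k + 3 ≤ N → ∀ a, g k (emb hF 1 (by omega : 1 + 2 ≤ 3) a) = φ (k + 1) a
  Γl : ∀ k, k + 4 ≤ N → ∀ x, Γ k (emb hF 0 (by omega : 0 + 3 ≤ 4) x) = g k x
  Γr : ∀ k, k + 4 ≤ N → ∀ x, Γ k (emb hF 1 (by omega : 1 + 3 ≤ 4) x) = g (k + 1) x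
  c23 : ∀ i j, i + 2 ≤ j → j + 3 ≤ N → ∀ a x, φ i a * g j x = g j x * φ i a
  c33 : ∀ i j, i + 3 ≤ j → j + 3 ≤ N → ∀ x y, g i x * g j y = g j y * g i x

/-- The step of the induction, all dimensions. -/
theorem exists_extension_all (hF : Fintype.card F = 2 ^ 2) (n : ℕ) {H : Type*} [Group H]
    (α : SU (n + 4) F 2 →* H) (Γ : SU 4 F 2 →* H)
    (h : StepHyp hF (n + 1) α (Γ.comp (emb hF 0 (by omega : 0 + 3 ≤ 4))))
    (hΓ : ∀ x : SU 3 F 2, Γ (emb hF 1 (by omega : 1 + 3 ≤ 4) x) =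
      α (emb hF 0 (by omega : 0 + 3 ≤ n + 4) x))
    (hcc : ∀ (h5 : 2 + 3 ≤ n + 4) (b c : SU 3 F 2), Γ (emb hF 0 (by omega : 0 + 3 ≤ 4) b) *
      α (emb hF 2 h5 c) = α (emb hF 2 h5 c) * Γ (emb hF 0 (by omega : 0 + 3 ≤ 4) b)) :
    ∃ Φ : SU (n + 5) F 2 →* H, (∀ x : SU (n + 4) F 2, Φ (emb hF 1 (by omega) x) = α x) ∧
      ∀ x : SU 2 F 2, Φ (emb hF 0 (by omega) x) =
        Γ (emb hF 0 (by omega : 0 + 3 ≤ 4) (emb hF 0 (by omega : 0 + 2 ≤ 3) x)) := by
  match n, α, h, hΓ, hcc with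
  | 0, α, h, hΓ, hcc => exact exists_extension_five hF α _ h
  | 1, α, h, hΓ, hcc => exact exists_extension_six hF α Γ h hΓ (hcc (by omega))
  | (m + 2), α, h, hΓ, hcc =>
    exact exists_extension_orth hF (m + 3) (Or.inl (by omega)) α
      (Γ.comp (emb hF 0 (by omega : 0 + 3 ≤ 4))) h.hα h.hc

/-- **Systems come from homomorphisms.** -/
theorem Sys.exists_hom (hF : Fintype.card F = 2 ^ 2) (n : ℕ) {H : Type*} [Group H]
    {φ : ℕ → (SU 2 F 2 →* H)} {g : ℕ → (SU 3 F 2 →* H)} {Γ : ℕ → (SU 4 F 2 →* H)}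
    (h : Sys hF (n + 4) φ g Γ) :
    ∃ Φ : SU (n + 4) F 2 →* H, ∀ (k : ℕ) (hk : k + 4 ≤ n + 4) (x : SU 4 F 2),
      Φ (emb hF k hk x) = Γ k x := by
  induction n generalizing φ g Γ with
  | zero =>
    refine ⟨Γ 0, ?_⟩
    intro k hk x
    obtain rfl : k = 0 := by omega
    rw [emb_self]
  | succ n ih =>
    have h' : Sys hF (n + 4) (fun k => φ (k + 1)) (fun k => g (k + 1)) (fun k => Γ (k + 1)) :=
      ⟨fun k hk a => h.gl (k + 1) (by omega) a, fun k hk a => h.gr (k + 1) (by omega) a,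
        fun k hk a => h.Γl (k + 1) (by omega) a, fun k hk a => h.Γr (k + 1) (by omega) a,
        fun i j hij hj a x => h.c23 (i + 1) (j + 1) (by omega) (by omega) a x,
        fun i j hij hj a x => h.c33 (i + 1) (j + 1) (by omega) (by omega) a x⟩
    obtain ⟨α, hα⟩ := ih h'
    have hαg : ∀ (j : ℕ) (hj : j + 3 ≤ n + 4) (x : SU 3 F 2), α (emb hF j hj x) = g (j + 1) x := by
      intro j hj x
      by_cases hj' : j + 4 ≤ n + 4
      · have e : emb hF j hj x = emb hF j hj' (emb hF 0 (by omega : 0 + 3 ≤ 4) x) := by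
          rw [emb_emb]
          exact emb_congr hF _ _ (by omega) x
        rw [e, hα]
        exact h.Γl (j + 1) (by omega) x
      · obtain ⟨i, rfl⟩ : ∃ i, j = i + 1 := ⟨j - 1, by omega⟩
        have e : emb hF (i + 1) hj x =
            emb hF i (by omega : i + 4 ≤ n + 4) (emb hF 1 (by omega : 1 + 3 ≤ 4) x) := by
          rw [emb_emb]
        rw [e, hα]
        exact h.Γr (i + 1) (by omega) x
    have hαφ : ∀ (j : ℕ) (hj : j + 2 ≤ n + 4) (x : SU 2 F 2), α (emb hF j hj x) = φ (j + 1) x := by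
      intro j hj x
      by_cases hj' : j + 3 ≤ n + 4
      · have e : emb hF j hj x = emb hF j hj' (emb hF 0 (by omega : 0 + 2 ≤ 3) x) := by
          rw [emb_emb]
          exact emb_congr hF _ _ (by omega) x
        rw [e, hαg]
        exact h.gl (j + 1) (by omega) x
      · obtain ⟨i, rfl⟩ : ∃ i, j = i + 1 := ⟨j - 1, by omega⟩
        have e : emb hF (i + 1) hj x =
            emb hF i (by omega : i + 3 ≤ n + 4) (emb hF 1 (by omega : 1 + 2 ≤ 3) x) := by
          rw [emb_emb]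
        rw [e, hαg]
        exact h.gr (i + 1) (by omega) x
    have hstep : StepHyp hF (n + 1) α ((Γ 0).comp (emb hF 0 (by omega : 0 + 3 ≤ 4))) := by
      refine ⟨?_, ?_⟩
      · intro x
        change Γ 0 (emb hF 0 (by omega : 0 + 3 ≤ 4) (emb hF 1 (by omega : 1 + 2 ≤ 3) x)) = _
        rw [h.Γl 0 (by omega), h.gr 0 (by omega), hαφ]
      · intro c a
        change _ * Γ 0 (emb hF 0 (by omega : 0 + 3 ≤ 4) (emb hF 0 (by omega : 0 + 2 ≤ 3) a)) =
          Γ 0 (emb hF 0 (by omega : 0 + 3 ≤ 4) (emb hF 0 (by omega : 0 + 2 ≤ 3) a)) * _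
        rw [h.Γl 0 (by omega), h.gl 0 (by omega)]
        have hc : c ∈ Subgroup.closure {y : SU (n + 3) F 2 | ∃ (j : ℕ) (h : j + 3 ≤ n + 3)
            (x : SU 3 F 2), emb hF j h x = y} := by
          rw [closure_emb_three hF n]; trivial
        have key : ∀ c ∈ Subgroup.closure {y : SU (n + 3) F 2 | ∃ (j : ℕ) (h : j + 3 ≤ n + 3)
            (x : SU 3 F 2), emb hF j h x = y},
            Commute (α (emb hF 1 (by omega : 1 + (n + 3) ≤ n + 4) c)) (φ 0 a) := by
          intro c hc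
          induction hc using Subgroup.closure_induction with
          | mem y hy =>
            obtain ⟨j, hj, x, rfl⟩ := hy
            rw [emb_emb, hαg (1 + j) (by omega)]
            exact (h.c23 0 (1 + j + 1) (by omega) (by omega) a x).symm
          | one => rw [map_one, map_one]; exact Commute.one_left _
          | mul x y _ _ hx hy => rw [map_mul, map_mul]; exact hx.mul_left hy
          | inv x _ hx => rw [map_inv, map_inv]; exact hx.inv_left
        exact key c hc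
    obtain ⟨Φ, hΦ1, hΦ2⟩ := exists_extension_all hF n α (Γ 0) hstep (by
      intro x
      rw [h.Γr 0 (by omega), hαg]) (by
      intro h5 b c
      rw [h.Γl 0 (by omega), hαg]
      exact h.c33 0 3 (by omega) (by omega) b c)
    refine ⟨Φ, ?_⟩
    intro k hk x
    by_cases hk0 : k = 0
    · subst hk0
      have hext : Φ.comp (emb hF 0 (by omega : 0 + 4 ≤ n + 5)) = Γ 0 := by
        refine hom_ext_orth hF 0 ?_ ?_
        · intro y
          change Φ (emb hF 0 (by omega : 0 + 4 ≤ n + 5) (emb hF 1 (by omega : 1 + 3 ≤ 4) y)) =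
            Γ 0 (emb hF 1 (by omega : 1 + 3 ≤ 4) y)
          have e : emb hF 0 (by omega : 0 + 4 ≤ n + 5) (emb hF 1 (by omega : 1 + 3 ≤ 4) y) =
              emb hF 1 (by omega : 1 + (n + 4) ≤ n + 5)
                (emb hF 0 (by omega : 0 + 3 ≤ n + 4) y) := by
            rw [emb_emb, emb_emb]
          rw [e, hΦ1, hαg, h.Γr 0 (by omega)]
        · intro a
          change Φ (emb hF 0 (by omega : 0 + 4 ≤ n + 5) (emb hF 0 (by omega : 0 + 2 ≤ 4) a)) =
            Γ 0 (emb hF 0 (by omega : 0 + 2 ≤ 4) a)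
          have e : emb hF 0 (by omega : 0 + 4 ≤ n + 5) (emb hF 0 (by omega : 0 + 2 ≤ 4) a) =
              emb hF 0 (by omega : 0 + 2 ≤ n + 5) a := by
            rw [emb_emb]
          have e' : emb hF 0 (by omega : 0 + 2 ≤ 4) a =
              emb hF 0 (by omega : 0 + 3 ≤ 4) (emb hF 0 (by omega : 0 + 2 ≤ 3) a) := by
            rw [emb_emb]
          rw [e, hΦ2, e']
      rw [← hext]
      rfl
    · obtain ⟨i, rfl⟩ : ∃ i, k = i + 1 := ⟨k - 1, by omega⟩
      have e : emb hF (i + 1) hk x = emb hF 1 (by omega : 1 + (n + 4) ≤ n + 5)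
          (emb hF i (by omega : i + 4 ≤ n + 4) x) := by
        rw [emb_emb]
        exact emb_congr hF _ _ (by omega) x
      rw [e, hΦ1, hα]

end Cfsg.Agent.P3711
end

-- part: P3711/Gen
section
/-!
# Generators of `SU 3` over the field with four elements
-/

set_option autoImplicit false

namespace Cfsg.Agent.P3711

open Matrix Cfsg Cfsg.Agent.Phan Cfsg.Agent.Phan.Cover Cfsg.Agent.H434
open Cfsg.Agent.LieClassical.HermBasic

variable {F : Type*} [Field F] [Fintype F]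

theorem exists_omega (hF : Fintype.card F = 2 ^ 2) : ∃ ω : F, ω * ω + ω + 1 = 0 := by
  classical
  obtain ⟨x, hx⟩ : ∃ x : F, x ∉ ({0, 1} : Finset F) := by
    by_contra hcon
    push Not at hcon
    have h1 : (Finset.univ : Finset F) ⊆ {0, 1} := fun x _ => hcon x
    have h2 := Finset.card_le_card h1
    have h3 := Finset.card_le_two (a := (0 : F)) (b := 1)
    rw [Finset.card_univ, hF] at h2
    omega
  simp only [Finset.mem_insert, Finset.mem_singleton, not_or] at hx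
  have h1 := norm_two hF hx.1
  have h2 : (x - 1) * (x * x + x + 1) = 0 := by linear_combination h1
  exact ⟨x, (mul_eq_zero.1 h2).resolve_left (sub_ne_zero.2 hx.2)⟩

theorem cases_four (hF : Fintype.card F = 2 ^ 2) {ω : F} (hω : ω * ω + ω + 1 = 0) (x : F) :
    x = 0 ∨ x = 1 ∨ x = ω ∨ x = ω * ω := by
  by_cases h0 : x = 0
  · exact Or.inl h0
  right
  have h1 := norm_two hF h0
  have h2 : (x - 1) * ((x - ω) * (x - ω * ω)) = 0 := by
    linear_combination h1 + (1 - ω) * hω + (x - x * x) * hω - (x - x * ω) * hω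
  rcases mul_eq_zero.1 h2 with h | h
  · exact Or.inl (sub_eq_zero.1 h)
  rcases mul_eq_zero.1 h with h | h
  · exact Or.inr (Or.inl (sub_eq_zero.1 h))
  · exact Or.inr (Or.inr (sub_eq_zero.1 h))

theorem mk_isom (hF : Fintype.card F = 2 ^ 2) (A : Matrix (Fin 3) (Fin 3) F)
    (h : Aᵀ * A.map (fun x => x * x) = 1) (u v : Fin 3 → F) :
    hermForm 3 F 2 (A *ᵥ u) (A *ᵥ v) = hermForm 3 F 2 u v := by
  revert u v
  rw [Cfsg.Agent.LieClassical.GUOrder.mul_map_eq_one_iff hF, ← h]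
  congr 1
  ext i j
  rw [Matrix.map_apply, Matrix.map_apply, Cfsg.Agent.LieClassical.GUOrder.frob_apply, pow_two]

theorem pow_four_eq {G : Type*} [Group G] (x : G) : x ^ 4 = (x * x) * (x * x) := by
  rw [← pow_two, ← pow_two, ← pow_mul]

section gens

variable (hF : Fintype.card F = 2 ^ 2) {ω : F} (hω : ω * ω + ω + 1 = 0)

/-- the matrix `diag(a, b, c)` -/
def dg (a b c : F) (h : a * b * c = 1) : SU 3 F 2 :=
  mk !![a, 0, 0; 0, b, 0; 0, 0, c] (by simp [Matrix.det_fin_three, h]) (by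
    have ha : a ≠ 0 := by rintro rfl; simp at h
    have hb : b ≠ 0 := by rintro rfl; simp at h
    have hc : c ≠ 0 := by rintro rfl; simp at h
    have h1 := norm_two hF ha
    have h2 := norm_two hF hb
    have h3 := norm_two hF hc
    rw [pow_two] at h1 h2 h3
    apply mk_isom hF
    ext i j
    fin_cases i <;> fin_cases j <;>
      simp [Matrix.mul_apply, Fin.sum_univ_three, h1, h2, h3])

/-- the cyclic permutation -/
def cyc : SU 3 F 2 :=
  mk !![0, 0, 1; 1, 0, 0; 0, 1, 0] (by simp [Matrix.det_fin_three]) (by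
    apply mk_isom hF
    ext i j
    fin_cases i <;> fin_cases j <;> simp [Matrix.mul_apply, Fin.sum_univ_three])

/-- the swap of the last two coordinates -/
def swp : SU 3 F 2 :=
  mk !![1, 0, 0; 0, 0, 1; 0, 1, 0] (by
      have := neg_eq hF 1
      simp [Matrix.det_fin_three, this]) (by
    apply mk_isom hF
    ext i j
    fin_cases i <;> fin_cases j <;> simp [Matrix.mul_apply, Fin.sum_univ_three])

/-- the Fourier matrix -/
def fou : SU 3 F 2 :=
  mk !![1, 1, 1; 1, ω, ω * ω; 1, ω * ω, ω] (by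
      have h2 := two_eq_zero hF
      simp only [Matrix.det_fin_three, Matrix.of_apply, Matrix.cons_val', Matrix.cons_val_zero, Matrix.cons_val_one, Matrix.cons_val]
      grind) (by
    have h2 := two_eq_zero hF
    apply mk_isom hF
    ext i j
    fin_cases i <;> fin_cases j <;> simp [Matrix.mul_apply, Fin.sum_univ_three] <;> grind)

/-- a conjugate of the Fourier matrix -/
def fou' : SU 3 F 2 :=
  mk !![1, 1, ω * ω; 1, ω, ω; ω, 1, ω] (by
      have h2 := two_eq_zero hF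
      simp only [Matrix.det_fin_three, Matrix.of_apply, Matrix.cons_val', Matrix.cons_val_zero, Matrix.cons_val_one, Matrix.cons_val]
      grind) (by
    have h2 := two_eq_zero hF
    apply mk_isom hF
    ext i j
    fin_cases i <;> fin_cases j <;> simp [Matrix.mul_apply, Fin.sum_univ_three] <;> grind)

theorem mat_dg (a b c : F) (h : a * b * c = 1) :
    mat (dg hF a b c h) = !![a, 0, 0; 0, b, 0; 0, 0, c] := rfl

theorem mat_cyc : mat (cyc hF) = !![0, 0, 1; 1, 0, 0; 0, 1, 0] := rfl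

theorem mat_swp : mat (swp hF) = !![1, 0, 0; 0, 0, 1; 0, 1, 0] := rfl

theorem mat_fou : mat (fou hF hω) = !![1, 1, 1; 1, ω, ω * ω; 1, ω * ω, ω] := rfl

theorem mat_fou' : mat (fou' hF hω) = !![1, 1, ω * ω; 1, ω, ω; ω, 1, ω] := rfl

include hω in
omit [Fintype F] in
theorem om3 : 1 * ω * (ω * ω) = 1 := by linear_combination (ω - 1) * hω

include hω in
omit [Fintype F] in
theorem om3' : ω * ω * ω = 1 := by linear_combination (ω - 1) * hω

/-- the noncentral torus element -/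
abbrev tt : SU 3 F 2 := dg hF 1 ω (ω * ω) (om3 hω)

/-- the central element -/
abbrev zz : SU 3 F 2 := dg hF ω ω ω (om3' hω)

theorem rel_cyc : tt hF hω * cyc hF = cyc hF * (zz hF hω * tt hF hω) := by
  have h2 := two_eq_zero hF
  apply mat_inj
  simp only [mat_mul, mat_dg, mat_cyc]
  ext i j
  fin_cases i <;> fin_cases j <;> simp [Matrix.mul_apply, Fin.sum_univ_three] <;> grind

theorem zz_central (x : SU 3 F 2) : zz hF hω * x = x * zz hF hω := by
  apply mat_inj
  simp only [mat_mul, mat_dg]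
  ext i j
  fin_cases i <;> fin_cases j <;> simp [Matrix.mul_apply, Fin.sum_univ_three] <;> ring

theorem rel_swp1 : swp hF * tt hF hω = (tt hF hω * tt hF hω) * swp hF := by
  have h2 := two_eq_zero hF
  apply mat_inj
  simp only [mat_mul, mat_dg, mat_swp]
  ext i j
  fin_cases i <;> fin_cases j <;> simp [Matrix.mul_apply, Fin.sum_univ_three] <;> grind

theorem rel_swp2 : swp hF * cyc hF = (cyc hF * cyc hF) * swp hF := by
  apply mat_inj
  simp only [mat_mul, mat_cyc, mat_swp]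
  ext i j
  fin_cases i <;> fin_cases j <;> simp [Matrix.mul_apply, Fin.sum_univ_three]

theorem rel_fou1 : fou hF hω * tt hF hω = (cyc hF * cyc hF) * fou hF hω := by
  have h2 := two_eq_zero hF
  apply mat_inj
  simp only [mat_mul, mat_dg, mat_cyc, mat_fou]
  ext i j
  fin_cases i <;> fin_cases j <;> simp [Matrix.mul_apply, Fin.sum_univ_three] <;> grind

theorem rel_fou2 : fou hF hω * cyc hF = tt hF hω * fou hF hω := by
  have h2 := two_eq_zero hF
  apply mat_inj
  simp only [mat_mul, mat_dg, mat_cyc, mat_fou]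
  ext i j
  fin_cases i <;> fin_cases j <;> simp [Matrix.mul_apply, Fin.sum_univ_three] <;> grind

theorem rel_fou1' : fou' hF hω * tt hF hω =
    (cyc hF * tt hF hω * cyc hF * tt hF hω) * fou' hF hω := by
  have h2 := two_eq_zero hF
  apply mat_inj
  simp only [mat_mul, mat_dg, mat_cyc, mat_fou']
  ext i j
  fin_cases i <;> fin_cases j <;> simp [Matrix.mul_apply, Fin.sum_univ_three] <;> grind

theorem rel_fou2' : fou' hF hω * cyc hF = (tt hF hω * cyc hF * tt hF hω) * fou' hF hω := by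
  have h2 := two_eq_zero hF
  apply mat_inj
  simp only [mat_mul, mat_dg, mat_cyc, mat_fou']
  ext i j
  fin_cases i <;> fin_cases j <;> simp [Matrix.mul_apply, Fin.sum_univ_three] <;> grind

theorem swp_four : swp hF ^ 4 = 1 := by
  have h1 : swp hF * swp hF = 1 := by
    apply mat_inj
    simp only [mat_mul, mat_swp, mat_one]
    ext i j
    fin_cases i <;> fin_cases j <;> simp [Matrix.mul_apply, Fin.sum_univ_three]
  rw [pow_four_eq, h1, one_mul]

theorem fou_four : fou hF hω ^ 4 = 1 := by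
  have h2 := two_eq_zero hF
  have h1 : fou hF hω * fou hF hω = swp hF := by
    apply mat_inj
    simp only [mat_mul, mat_swp, mat_fou]
    ext i j
    fin_cases i <;> fin_cases j <;> simp [Matrix.mul_apply, Fin.sum_univ_three] <;> grind
  have h3 : swp hF * swp hF = 1 := by
    apply mat_inj
    simp only [mat_mul, mat_swp, mat_one]
    ext i j
    fin_cases i <;> fin_cases j <;> simp [Matrix.mul_apply, Fin.sum_univ_three]
  rw [pow_four_eq, h1, h3]

theorem fou'_four : fou' hF hω ^ 4 = 1 := by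
  have h2 := two_eq_zero hF
  have h3 : (mat (fou' hF hω) * mat (fou' hF hω)) * (mat (fou' hF hω) * mat (fou' hF hω)) = 1 := by
    have h1 : mat (fou' hF hω) * mat (fou' hF hω) = !![1, 0, 0; 0, 0, ω * ω; 0, ω, 0] := by
      simp only [mat_fou']
      ext i j
      fin_cases i <;> fin_cases j <;> simp [Matrix.mul_apply, Fin.sum_univ_three] <;> grind
    rw [h1]
    ext i j
    fin_cases i <;> fin_cases j <;> simp [Matrix.mul_apply, Fin.sum_univ_three] <;> grind
  apply mat_inj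
  rw [pow_four_eq]
  exact h3

/-- **Generation.** -/
theorem eq_top_of_gens (L : Subgroup (SU 3 F 2)) (h1 : tt hF hω ∈ L) (h2 : cyc hF ∈ L)
    (h3 : swp hF ∈ L) (h4 : fou hF hω ∈ L) (h5 : fou' hF hω ∈ L) : L = ⊤ := by
  have h20 := two_eq_zero hF
  have hω0 : ω ≠ 0 := by
    rintro rfl
    simp at hω
  have hω3 : ω * ω * ω = 1 := om3' hω
  have hz : zz hF hω ∈ L := by
    have h6 : zz hF hω = (cyc hF)⁻¹ * tt hF hω * cyc hF * (tt hF hω)⁻¹ := by
      rw [mul_assoc (cyc hF)⁻¹, rel_cyc hF hω]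
      group
    rw [h6]
    exact L.mul_mem (L.mul_mem (L.mul_mem (L.inv_mem h2) h1) h2) (L.inv_mem h1)
  -- nonzero elements
  have hnz : ∀ x : F, x ≠ 0 → ∃ i : ℕ, x = ω ^ i := by
    intro x hx
    rcases cases_four hF hω x with h | h | h | h
    · exact absurd h hx
    · exact ⟨0, by rw [h, pow_zero]⟩
    · exact ⟨1, by rw [h, pow_one]⟩
    · exact ⟨2, by rw [h, pow_two]⟩
  -- diagonal elements
  have hpow : ∀ (a b c : F) (h : a * b * c = 1) (i : ℕ), mat ((dg hF a b c h) ^ i) =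
      !![a ^ i, 0, 0; 0, b ^ i, 0; 0, 0, c ^ i] := by
    intro a b c h i
    induction i with
    | zero =>
      rw [pow_zero, mat_one]
      ext i j
      fin_cases i <;> fin_cases j <;> simp
    | succ i ih =>
      rw [pow_succ, mat_mul, ih, mat_dg]
      ext i j
      fin_cases i <;> fin_cases j <;> simp [Matrix.mul_apply, Fin.sum_univ_three, pow_succ]
  have hdg : ∀ (a b c : F) (h : a * b * c = 1), dg hF a b c h ∈ L := by
    intro a b c h
    have ha : a ≠ 0 := by rintro rfl; simp at h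
    have hb : b ≠ 0 := by rintro rfl; simp at h
    obtain ⟨i, hi⟩ := hnz a ha
    obtain ⟨j, hj⟩ := hnz (b * a⁻¹) (mul_ne_zero hb (inv_ne_zero ha))
    have hb' : b = ω ^ i * ω ^ j := by rw [← hj, ← hi]; field_simp
    have e : dg hF a b c h = (zz hF hω) ^ i * (tt hF hω) ^ j := by
      have hc : c = ω ^ i * (ω * ω) ^ j := by
        have h6 : a * b ≠ 0 := mul_ne_zero ha hb
        have h7 : a * b * (ω ^ i * (ω * ω) ^ j) = 1 := by
          rw [hb', hi]
          calc ω ^ i * (ω ^ i * ω ^ j) * (ω ^ i * (ω * ω) ^ j)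
              = (ω * ω * ω) ^ i * (ω * ω * ω) ^ j := by ring
            _ = 1 := by rw [hω3, one_pow, one_pow, one_mul]
        exact mul_left_cancel₀ h6 (h.trans h7.symm)
      apply mat_inj
      rw [mat_mul, hpow, hpow, mat_dg]
      ext k l
      fin_cases k <;> fin_cases l <;> simp [Matrix.mul_apply, Fin.sum_univ_three]
      · exact hi
      · exact hb'
      · exact hc
    rw [e]
    exact L.mul_mem (L.pow_mem hz i) (L.pow_mem h1 j)
  -- the images of `e0`
  have horb : ∀ u : Pt 3 F 2, ∃ l ∈ L, l • e0 2 F 2 = u := by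
    intro u
    have hn := u.norm
    have hu3 : u.val = ![u.val 0, u.val 1, u.val 2] := by
      funext i
      fin_cases i <;> rfl
    rw [herm_def, Fin.sum_univ_three] at hn
    have hcol : ∀ (l : SU 3 F 2), mat l 0 0 = u.val 0 → mat l 1 0 = u.val 1 →
        mat l 2 0 = u.val 2 → l • e0 2 F 2 = u := by
      intro l ha hb hc
      apply Pt.ext'
      rw [smul_val, e0_val, Matrix.mulVec_single_one]
      funext i
      fin_cases i
      · exact ha
      · exact hb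
      · exact hc
    have h11 := one_add_one hF
    rcases norm_zero_or_one hF (u.val 0) with ⟨a0, a1⟩ | ⟨a0, a1⟩ <;>
    rcases norm_zero_or_one hF (u.val 1) with ⟨b0, b1⟩ | ⟨b0, b1⟩ <;>
    rcases norm_zero_or_one hF (u.val 2) with ⟨c0, c1⟩ | ⟨c0, c1⟩ <;>
    rw [a1, b1, c1] at hn
    · simp at hn
    · refine ⟨dg hF 1 (u.val 2)⁻¹ (u.val 2) (by field_simp) * (cyc hF * cyc hF),
        L.mul_mem (hdg _ _ _ _) (L.mul_mem h2 h2), hcol _ ?_ ?_ ?_⟩ <;>
        simp [mat_mul, mat_dg, mat_cyc, Matrix.mul_apply, Fin.sum_univ_three, a0, b0]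
    · refine ⟨dg hF 1 (u.val 1) (u.val 1)⁻¹ (by field_simp) * cyc hF,
        L.mul_mem (hdg _ _ _ _) h2, hcol _ ?_ ?_ ?_⟩ <;>
        simp [mat_mul, mat_dg, mat_cyc, Matrix.mul_apply, Fin.sum_univ_three, a0, c0]
    · exfalso
      rw [zero_add, h11] at hn
      exact zero_ne_one hn
    · refine ⟨dg hF (u.val 0) (u.val 0)⁻¹ 1 (by field_simp), hdg _ _ _ _, hcol _ ?_ ?_ ?_⟩ <;>
        simp [mat_dg, b0, c0]
    · exfalso
      rw [add_zero, h11] at hn
      exact zero_ne_one hn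
    · exfalso
      rw [add_zero, h11] at hn
      exact zero_ne_one hn
    · rcases cases_four hF hω (u.val 0 * u.val 1 * u.val 2) with h | h | h | h
      · exact absurd h (mul_ne_zero (mul_ne_zero a0 b0) c0)
      · refine ⟨dg hF (u.val 0) (u.val 1) (u.val 2) h * fou hF hω,
          L.mul_mem (hdg _ _ _ _) h4, hcol _ ?_ ?_ ?_⟩ <;>
          simp [mat_mul, mat_dg, mat_fou, Matrix.mul_apply, Fin.sum_univ_three]
      · refine ⟨dg hF (u.val 0) (u.val 1) (u.val 2 * (ω * ω)) (by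
            rw [← mul_assoc, h]; linear_combination hω3) * fou' hF hω,
          L.mul_mem (hdg _ _ _ _) h5, hcol _ ?_ ?_ ?_⟩ <;>
          simp [mat_mul, mat_dg, mat_fou', Matrix.mul_apply, Fin.sum_univ_three]
        linear_combination (u.val 2) * hω3
      · refine ⟨dg hF (u.val 0 * ω) (u.val 1) (u.val 2) (by
            linear_combination ω * h + hω3) * (fou' hF hω * fou hF hω),
          L.mul_mem (hdg _ _ _ _) (L.mul_mem h5 h4), hcol _ ?_ ?_ ?_⟩ <;>
          simp [mat_mul, mat_dg, mat_fou', mat_fou, Matrix.mul_apply, Fin.sum_univ_three] <;> grind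
  rw [eq_top_iff]
  intro x _
  obtain ⟨l, hl, hlx⟩ := horb (x • e0 2 F 2)
  obtain ⟨k, hk⟩ := exists_emb_of_fix hF (l⁻¹ * x) (by rw [mul_smul, ← hlx, inv_smul_smul])
  have hx : x = l * emb hF 1 (by omega : 1 + 2 ≤ 2 + 1) k := by rw [hk, mul_inv_cancel_left]
  rw [hx]
  refine L.mul_mem hl ?_
  have hm := mat_emb_one_three hF k
  have hdet := mat_det k
  rw [Matrix.det_fin_two] at hdet
  have hc0 : mat k 0 0 * mat k 0 0 ^ 2 + mat k 1 0 * mat k 1 0 ^ 2 = 1 := by
    have h6 := mat_isom k (Pi.single 0 1) (Pi.single 0 1)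
    rw [Matrix.mulVec_single_one, herm_single_left, Pi.single_eq_same, herm_def,
      Fin.sum_univ_two, one_pow, mul_one] at h6
    exact h6
  have hc1 : mat k 0 1 * mat k 0 1 ^ 2 + mat k 1 1 * mat k 1 1 ^ 2 = 1 := by
    have h6 := mat_isom k (Pi.single 1 1) (Pi.single 1 1)
    rw [Matrix.mulVec_single_one, herm_single_left, Pi.single_eq_same, herm_def,
      Fin.sum_univ_two, one_pow, mul_one] at h6
    exact h6
  have h11 := one_add_one hF
  rcases norm_zero_or_one hF (mat k 0 0) with ⟨a0, a1⟩ | ⟨a0, a1⟩ <;>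
  rcases norm_zero_or_one hF (mat k 1 0) with ⟨b0, b1⟩ | ⟨b0, b1⟩ <;>
  rw [a1, b1] at hc0
  · simp at hc0
  · rw [a0, zero_mul, zero_sub] at hdet
    have h7 : mat k 0 1 ≠ 0 := by
      intro h; rw [h, zero_mul, neg_zero] at hdet; exact zero_ne_one hdet
    rw [norm_two hF h7] at hc1
    have h8 : mat k 1 1 = 0 := by
      have h9 : mat k 1 1 * mat k 1 1 ^ 2 = 0 := by linear_combination hc1
      exact (norm_eq_zero hF).1 h9
    rw [neg_eq hF] at hdet
    have e : emb hF 1 (by omega : 1 + 2 ≤ 2 + 1) k =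
        dg hF 1 (mat k 0 1) (mat k 1 0) (by rw [one_mul]; exact hdet) * swp hF := by
      apply mat_inj
      rw [mat_mul, mat_dg, mat_swp]
      refine hm.trans ?_
      ext i j
      fin_cases i <;> fin_cases j <;> simp [Matrix.mul_apply, Fin.sum_univ_three, a0, h8]
    rw [e]
    exact L.mul_mem (hdg _ _ _ _) h3
  · rw [b0, mul_zero, sub_zero] at hdet
    have h7 : mat k 1 1 ≠ 0 := by
      intro h; rw [h, mul_zero] at hdet; exact zero_ne_one hdet
    rw [norm_two hF h7] at hc1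
    have h8 : mat k 0 1 = 0 := by
      have h9 : mat k 0 1 * mat k 0 1 ^ 2 = 0 := by linear_combination hc1
      exact (norm_eq_zero hF).1 h9
    have e : emb hF 1 (by omega : 1 + 2 ≤ 2 + 1) k =
        dg hF 1 (mat k 0 0) (mat k 1 1) (by rw [one_mul]; exact hdet) := by
      apply mat_inj
      rw [mat_dg]
      refine hm.trans ?_
      ext i j
      fin_cases i <;> fin_cases j <;> simp [b0, h8]
    rw [e]
    exact hdg _ _ _ _
  · exfalso
    rw [h11] at hc0
    exact zero_ne_one hc0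

end gens

end Cfsg.Agent.P3711
end

-- part: P3711/Rep
section
/-!
# Homomorphisms `SU 3 → SU 4` over the field with four elements

`exists_frame_rep` : if the centre is not in the kernel then the homomorphism is conjugate to a twist of the
first embedding.
-/

set_option autoImplicit false

namespace Cfsg.Agent.P3711

open Matrix Cfsg Cfsg.Agent.Phan Cfsg.Agent.Phan.Cover Cfsg.Agent.H434
open Cfsg.Agent.LieClassical.HermBasic

variable {F : Type*} [Field F] [Fintype F]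

/-- an eigenvector for a matrix of order three inside an invariant family -/
theorem exists_eig (hF : Fintype.card F = 2 ^ 2) {ω : F} (hω : ω * ω + ω + 1 = 0) {n : ℕ}
    (A : Matrix (Fin n) (Fin n) F) (hA : A * (A * A) = 1) (P : (Fin n → F) → Prop)
    (hPA : ∀ v, P v → P (A *ᵥ v)) (hPs : ∀ u v, P u → P v → P (u - v))
    (hPc : ∀ (c : F) v, P v → P (c • v)) (v : Fin n → F) (hv : v ≠ 0) (hPv : P v) :
    ∃ w : Fin n → F, w ≠ 0 ∧ P w ∧ ∃ μ : F, μ * μ * μ = 1 ∧ A *ᵥ w = μ • w := by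
  have h2 := two_eq_zero hF
  have hA' : ∀ u : Fin n → F, A *ᵥ (A *ᵥ (A *ᵥ u)) = u := by
    intro u
    rw [Matrix.mulVec_mulVec, Matrix.mulVec_mulVec, Matrix.mul_assoc, hA, Matrix.one_mulVec]
  by_cases h0 : A *ᵥ v - v = 0
  · exact ⟨v, hv, hPv, 1, by ring, by rw [one_smul]; exact sub_eq_zero.1 h0⟩
  set y := A *ᵥ v - v with hy
  have hPy : P y := hPs _ _ (hPA _ hPv) hPv
  have hAy : A *ᵥ (A *ᵥ y) = - (A *ᵥ y) - y := by
    rw [hy]
    simp only [Matrix.mulVec_sub]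
    rw [hA']
    abel
  by_cases h1 : A *ᵥ y - ω • y = 0
  · exact ⟨y, h0, hPy, ω, om3' hω, sub_eq_zero.1 h1⟩
  refine ⟨A *ᵥ y - ω • y, h1, hPs _ _ (hPA _ hPy) (hPc _ _ hPy), ω * ω, ?_, ?_⟩
  · have := om3' hω
    linear_combination (ω * ω * ω + 1) * this
  · rw [Matrix.mulVec_sub, Matrix.mulVec_smul, hAy]
    have e1 : ω * ω = - (1 + ω) := by linear_combination hω
    have e2 : ω * ω * ω = 1 := om3' hω
    rw [smul_sub, smul_smul, e2, one_smul, e1, neg_smul, add_smul, one_smul]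
    abel

/-- an element of `SU 4` fixing the first three basis vectors is trivial -/
theorem eq_one_of_fix_three (hF : Fintype.card F = 2 ^ 2) (y : SU 4 F 2)
    (h0 : y • pe 4 F 2 0 = pe 4 F 2 0) (h1 : y • pe 4 F 2 1 = pe 4 F 2 1)
    (h2 : y • pe 4 F 2 2 = pe 4 F 2 2) : y = 1 := by
  have hc : ∀ {m : ℕ} (k : SU m F 2) (i j : Fin m),
      emb hF 1 (by omega : 1 + m ≤ m + 1) k • pe (m + 1) F 2 i.succ = pe (m + 1) F 2 j.succ →
      k • pe m F 2 i = pe m F 2 j := by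
    intro m k i j h
    apply Pt.ext'
    funext l
    have h3 := congrFun (congrArg Pt.val h) l.succ
    rw [smul_val, emb_one_mulVec, Fin.cons_succ] at h3
    have h4 : (fun j : Fin m => (pe (m + 1) F 2 i.succ).val j.succ) = (pe m F 2 i).val := by
      funext j
      change (Pi.single i.succ 1 : Fin (m + 1) → F) j.succ = (Pi.single i 1 : Fin m → F) j
      rw [Pi.single_apply, Pi.single_apply]
      simp
    rw [h4] at h3
    rw [smul_val, h3]
    change (Pi.single j.succ 1 : Fin (m + 1) → F) l.succ = (Pi.single j 1 : Fin m → F) l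
    rw [Pi.single_apply, Pi.single_apply]
    simp
  obtain ⟨k, rfl⟩ := exists_emb_of_fix hF y h0
  have h1' := hc k 0 0 h1
  have h2' := hc k 1 1 h2
  obtain ⟨k', rfl⟩ := exists_emb_of_fix hF k h1'
  have h2'' := hc k' 0 0 h2'
  obtain ⟨k'', rfl⟩ := exists_emb_of_fix hF k' h2''
  have h3 : k'' = 1 := by
    apply mat_inj
    have h4 := mat_det k''
    rw [Matrix.det_fin_one] at h4
    ext i j
    fin_cases i; fin_cases j
    rw [mat_one]
    exact h4
  rw [h3, map_one, map_one, map_one]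

/-- frames from orthonormal triples -/
theorem exists_frame_triple {q : ℕ} (hF : Fintype.card F = q ^ 2) (v0 v1 v2 : Pt 4 F q)
    (h10 : orth v1 v0) (h20 : orth v2 v0) (h21 : orth v2 v1) :
    ∃ g : SU 4 F q, g • pe 4 F q 0 = v0 ∧ g • pe 4 F q 1 = v1 ∧ g • pe 4 F q 2 = v2 := by
  obtain ⟨g1, hg1⟩ := exists_su_smul hF (e0 3 F q) v0
  obtain ⟨x1, hx1⟩ := exists_lift0 hF g1 v1 (by rw [hg1]; exact h10)
  obtain ⟨x2, hx2⟩ := exists_lift0 hF g1 v2 (by rw [hg1]; exact h20)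
  have htl : ∀ x : Pt 3 F q, tl (mat g1⁻¹ *ᵥ (lift0 hF g1 x).val) = x.val := by
    intro x
    change tl (mat g1⁻¹ *ᵥ (mat g1 *ᵥ Fin.cons 0 x.val)) = x.val
    rw [Matrix.mulVec_mulVec, mat_inv_mul, Matrix.one_mulVec, tl_cons]
  have hx21 : orth x2 x1 := by
    rw [orth, ← hx1, ← hx2, herm_lift0, htl] at h21
    exact h21
  obtain ⟨g2, hg2⟩ := exists_su_smul hF (e0 2 F q) x1
  obtain ⟨x3, hx3⟩ := exists_lift0 hF g2 x2 (by rw [hg2]; exact hx21)
  obtain ⟨g3, hg3⟩ := exists_su_smul hF (e0 1 F q) x3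
  have hlift : ∀ {m : ℕ} (g : SU (m + 1) F q) (k : SU m F q) (x : Pt m F q),
      (g * emb hF 1 (by omega : 1 + m ≤ m + 1) k) • lift0 hF 1 x = lift0 hF g (k • x) := by
    intro m g k x
    apply Pt.ext'
    change mat (g * emb hF 1 (by omega : 1 + m ≤ m + 1) k) *ᵥ
      (mat (1 : SU (m + 1) F q) *ᵥ Fin.cons 0 x.val) = mat g *ᵥ Fin.cons 0 (mat k *ᵥ x.val)
    rw [mat_one, Matrix.one_mulVec, mat_mul, ← Matrix.mulVec_mulVec, emb_one_cons]
  have hpe : ∀ {m : ℕ} (i : Fin m), pe (m + 1) F q i.succ = lift0 hF 1 (pe m F q i) := by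
    intro m i
    apply Pt.ext'
    change (Pi.single i.succ 1 : Fin (m + 1) → F) =
      mat (1 : SU (m + 1) F q) *ᵥ Fin.cons 0 (Pi.single i 1)
    rw [mat_one, Matrix.one_mulVec]
    funext l
    refine Fin.cases ?_ (fun l => ?_) l
    · rw [Fin.cons_zero, Pi.single_eq_of_ne (Fin.succ_ne_zero i).symm]
    · rw [Fin.cons_succ, Pi.single_apply, Pi.single_apply]
      simp
  refine ⟨g1 * emb hF 1 (by omega : 1 + 3 ≤ 3 + 1)
    (g2 * emb hF 1 (by omega : 1 + 2 ≤ 2 + 1) g3), ?_, ?_, ?_⟩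
  · rw [← hg1, mul_smul]
    change g1 • emb hF 1 (by omega : 1 + 3 ≤ 3 + 1) _ • e0 3 F q = _
    rw [emb_one_e0]
  · change _ • pe 4 F q (0 : Fin 3).succ = _
    rw [hpe, hlift, ← hx1, ← hg2, mul_smul]
    change lift0 hF g1 (g2 • emb hF 1 (by omega : 1 + 2 ≤ 2 + 1) _ • e0 2 F q) = _
    rw [emb_one_e0]
  · change _ • pe 4 F q (1 : Fin 3).succ = _
    rw [hpe, hlift, ← hx2]
    congr 1
    change _ • pe 3 F q (0 : Fin 2).succ = _
    rw [hpe, hlift, ← hx3, ← hg3]
    rfl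

theorem indep_three (hF : Fintype.card F = 2 ^ 2) {lam : F} (hl : lam * lam + lam + 1 = 0)
    (A : Matrix (Fin 4) (Fin 4) F) (v : Fin 3 → (Fin 4 → F)) (h0 : ∀ i, v i ≠ 0)
    (h : ∀ i, A *ᵥ v i = (![1, lam, lam * lam] : Fin 3 → F) i • v i) :
    LinearIndependent F v := by
  have h2 := two_eq_zero hF
  have hl1 : lam ≠ 1 := by
    rintro rfl
    have : (3 : F) = 1 := by linear_combination h2
    have h3 : (1 : F) * 1 + 1 + 1 = 3 := by ring
    rw [h3, this] at hl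
    exact one_ne_zero hl
  have hl0 : lam ≠ 0 := by
    rintro rfl
    simp at hl
  refine Module.End.eigenvectors_linearIndependent' (Matrix.mulVecLin A)
    (![1, lam, lam * lam] : Fin 3 → F) ?_ v ?_
  · intro i j hij
    fin_cases i <;> fin_cases j <;> simp at hij <;> first | rfl | (exfalso; grind)
  · intro i
    refine ⟨?_, h0 i⟩
    rw [Module.End.mem_eigenspace_iff]
    exact h i

theorem gram_ne_zero (hF : Fintype.card F = 2 ^ 2) {lam : F} (hl : lam * lam + lam + 1 = 0)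
    (A : Matrix (Fin 4) (Fin 4) F) (v : Fin 3 → (Fin 4 → F)) (h0 : ∀ i, v i ≠ 0)
    (h : ∀ i, A *ᵥ v i = (![1, lam, lam * lam] : Fin 3 → F) i • v i) :
    ¬ ∀ i j, hermForm 4 F 2 (v i) (v j) = 0 := by
  intro hg
  set M : Matrix (Fin 3) (Fin 4) F := Matrix.of v with hM
  set N : Matrix (Fin 3) (Fin 4) F := M.map (fun x => x * x) with hN
  have hMN : M * Nᵀ = 0 := by
    ext i j
    rw [Matrix.mul_apply]
    have := hg i j
    rw [herm_def] at this
    rw [Matrix.zero_apply, ← this]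
    refine Finset.sum_congr rfl fun k _ => ?_
    rw [Matrix.transpose_apply, hN, Matrix.map_apply, hM, Matrix.of_apply, Matrix.of_apply, pow_two]
  have hr1 : M.rank = 3 := by
    have := (indep_three hF hl A v h0 h)
    have h3 : LinearIndependent F M.row := this
    simpa using h3.rank_matrix
  have h2 := two_eq_zero hF
  have hr2 : N.rank = 3 := by
    have hl' : (lam * lam) * (lam * lam) + lam * lam + 1 = 0 := by grind
    have h3 : LinearIndependent F N.row := by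
      refine indep_three hF hl' (A.map (fun x => x * x)) (fun i k => v i k * v i k) ?_ ?_
      · intro i hi
        apply h0 i
        funext k
        exact mul_self_eq_zero.1 (congrFun hi k)
      · intro i
        funext k
        have h5 := congrFun (h i) k
        change ∑ l, (A k l * A k l) * (v i l * v i l) = _
        have h6 : ∑ l, (A k l * A k l) * (v i l * v i l) = (∑ l, A k l * v i l) ^ 2 := by
          rw [sum_pow_q hF]
          refine Finset.sum_congr rfl fun l _ => ?_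
          ring
        rw [h6]
        change (A *ᵥ v i) k ^ 2 = _
        rw [h5]
        fin_cases i <;> simp [pow_two] <;> ring
    simpa using h3.rank_matrix
  have := Matrix.rank_add_rank_le_card_of_mul_eq_zero hMN
  rw [Matrix.rank_transpose, hr1, hr2, Fintype.card_fin] at this
  omega

/-- **Eigenvector frames.** -/
theorem exists_eigen_frame (hF : Fintype.card F = 2 ^ 2) {ω : F} (hω : ω * ω + ω + 1 = 0)
    (ρ : SU 3 F 2 →* SU 4 F 2) (hz : ρ (zz hF hω) ≠ 1) :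
    ∃ (lam : F) (v0 v1 v2 : Pt 4 F 2), lam * lam + lam + 1 = 0 ∧ orth v1 v0 ∧ orth v2 v0 ∧
      orth v2 v1 ∧ mat (ρ (zz hF hω)) *ᵥ v0.val = lam • v0.val ∧
      mat (ρ (tt hF hω)) *ᵥ v0.val = v0.val ∧
      ρ (cyc hF) • v0 = v1 ∧ ρ (cyc hF) • v1 = v2 ∧ ρ (cyc hF) • v2 = v0 := by
  have h2 := two_eq_zero hF
  set Z := ρ (zz hF hω) with hZ
  set T := ρ (tt hF hω) with hT
  set C := ρ (cyc hF) with hC
  have hω3 : ω * ω * ω = 1 := om3' hω
  have z3 : zz hF hω * (zz hF hω * zz hF hω) = 1 := by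
    apply mat_inj
    simp only [mat_mul, mat_dg, mat_one]
    ext i j
    fin_cases i <;> fin_cases j <;> simp [Matrix.mul_apply, Fin.sum_univ_three] <;> grind
  have t3 : tt hF hω * (tt hF hω * tt hF hω) = 1 := by
    apply mat_inj
    simp only [mat_mul, mat_dg, mat_one]
    ext i j
    fin_cases i <;> fin_cases j <;> simp [Matrix.mul_apply, Fin.sum_univ_three] <;> grind
  have c3 : cyc hF * (cyc hF * cyc hF) = 1 := by
    apply mat_inj
    simp only [mat_mul, mat_cyc, mat_one]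
    ext i j
    fin_cases i <;> fin_cases j <;> simp [Matrix.mul_apply, Fin.sum_univ_three]
  have Z3 : mat Z * (mat Z * mat Z) = 1 := by
    have := congrArg ρ z3
    rw [map_mul, map_mul, map_one] at this
    exact congrArg mat this
  have T3 : mat T * (mat T * mat T) = 1 := by
    have := congrArg ρ t3
    rw [map_mul, map_mul, map_one] at this
    exact congrArg mat this
  have C3 : C * (C * C) = 1 := by
    have := congrArg ρ c3
    rwa [map_mul, map_mul, map_one] at this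
  have ZT : mat Z * mat T = mat T * mat Z := by
    have := congrArg ρ (zz_central hF hω (tt hF hω))
    rw [map_mul, map_mul] at this
    exact congrArg mat this
  have ZC : mat Z * mat C = mat C * mat Z := by
    have := congrArg ρ (zz_central hF hω (cyc hF))
    rw [map_mul, map_mul] at this
    exact congrArg mat this
  have TC : mat T * mat C = mat C * (mat Z * mat T) := by
    have := congrArg ρ (rel_cyc hF hω)
    rw [map_mul, map_mul, map_mul] at this
    exact congrArg mat this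
  -- an eigenvector of `Z`
  obtain ⟨u, hu⟩ : ∃ u : Fin 4 → F, mat Z *ᵥ u ≠ u := by
    by_contra hcon
    push Not at hcon
    apply hz
    apply mat_inj
    rw [mat_one]
    apply Matrix.ext_of_mulVec_single
    intro j
    rw [hcon, Matrix.one_mulVec]
  have hy0 : mat Z *ᵥ u - u ≠ 0 := sub_ne_zero.2 hu
  obtain ⟨w, hw0, hwP, lam, hlam3, hlam⟩ := exists_eig hF hω (mat Z) Z3
    (fun x => mat Z *ᵥ (mat Z *ᵥ x) + mat Z *ᵥ x + x = 0) (by
      intro v hv
      have := congrArg (fun x => mat Z *ᵥ x) hv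
      simpa only [Matrix.mulVec_add, Matrix.mulVec_zero] using this) (by
      intro u v hu hv
      simp only [Matrix.mulVec_sub]
      rw [← sub_eq_zero] at hu hv
      calc _ = (mat Z *ᵥ (mat Z *ᵥ u) + mat Z *ᵥ u + u) - (mat Z *ᵥ (mat Z *ᵥ v) + mat Z *ᵥ v + v) := by
            abel
        _ = 0 := by rw [sub_zero] at hu hv; rw [hu, hv, sub_zero]) (by
      intro c v hv
      simp only [Matrix.mulVec_smul, ← smul_add]
      rw [hv, smul_zero]) (mat Z *ᵥ u - u) hy0 (by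
      have h3 : mat Z *ᵥ (mat Z *ᵥ (mat Z *ᵥ u)) = u := by
        rw [Matrix.mulVec_mulVec, Matrix.mulVec_mulVec, Matrix.mul_assoc, Z3, Matrix.one_mulVec]
      simp only [Matrix.mulVec_sub]
      rw [h3]
      abel)
  have hl : lam * lam + lam + 1 = 0 := by
    have h3 : (lam * lam + lam + 1) • w = 0 := by
      rw [← hwP]
      simp only [hlam, Matrix.mulVec_smul, smul_smul, add_smul, one_smul]
    exact (smul_eq_zero.1 h3).resolve_right hw0
  -- an eigenvector of `T`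
  obtain ⟨w', hw'0, hw'P, μ, hμ3, hμ⟩ := exists_eig hF hω (mat T) T3
    (fun x => mat Z *ᵥ x = lam • x) (by
      intro v hv
      rw [Matrix.mulVec_mulVec, ZT, ← Matrix.mulVec_mulVec, hv, Matrix.mulVec_smul]) (by
      intro u v hu hv
      rw [Matrix.mulVec_sub, hu, hv, smul_sub]) (by
      intro c v hv
      rw [Matrix.mulVec_smul, hv, smul_comm]) w hw0 hlam
  -- shifting by `C`
  have hshift : ∀ (x : Fin 4 → F) (ν : F), mat Z *ᵥ x = lam • x → mat T *ᵥ x = ν • x →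
      mat Z *ᵥ (mat C *ᵥ x) = lam • (mat C *ᵥ x) ∧
      mat T *ᵥ (mat C *ᵥ x) = (lam * ν) • (mat C *ᵥ x) := by
    intro x ν hx1 hx2
    constructor
    · rw [Matrix.mulVec_mulVec, ZC, ← Matrix.mulVec_mulVec, hx1, Matrix.mulVec_smul]
    · rw [Matrix.mulVec_mulVec, TC, ← Matrix.mulVec_mulVec, ← Matrix.mulVec_mulVec, hx2,
        Matrix.mulVec_smul, Matrix.mulVec_smul, hx1, Matrix.mulVec_smul, smul_smul, mul_comm]
  have hC0 : ∀ x : Fin 4 → F, x ≠ 0 → mat C *ᵥ x ≠ 0 := by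
    intro x hx h
    apply hx
    have := congrArg (fun y => mat C⁻¹ *ᵥ y) h
    simpa only [Matrix.mulVec_mulVec, mat_inv_mul, Matrix.one_mulVec, Matrix.mulVec_zero] using this
  obtain ⟨x0, hx0, hx1, hx2⟩ : ∃ x0 : Fin 4 → F, x0 ≠ 0 ∧ mat Z *ᵥ x0 = lam • x0 ∧
      mat T *ᵥ x0 = x0 := by
    have s1 := hshift w' μ hw'P hμ
    have s2 := hshift _ _ s1.1 s1.2
    rcases cases_four hF hl μ with h | h | h | h
    · exfalso
      rw [h] at hμ3
      simp at hμ3
    · exact ⟨w', hw'0, hw'P, by rw [hμ, h, one_smul]⟩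
    · refine ⟨_, hC0 _ (hC0 _ hw'0), s2.1, ?_⟩
      rw [s2.2, h]
      have : lam * (lam * lam) = 1 := by rw [← mul_assoc]; exact om3' hl
      rw [this, one_smul]
    · refine ⟨_, hC0 _ hw'0, s1.1, ?_⟩
      rw [s1.2, h]
      have : lam * (lam * lam) = 1 := by rw [← mul_assoc]; exact om3' hl
      rw [this, one_smul]
  set x1 := mat C *ᵥ x0 with hx1d
  set x2 := mat C *ᵥ x1 with hx2d
  have hcx2 : mat C *ᵥ x2 = x0 := by
    rw [hx2d, hx1d, Matrix.mulVec_mulVec, Matrix.mulVec_mulVec]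
    have := congrArg mat C3
    rw [mat_mul, mat_mul, mat_one] at this
    rw [Matrix.mul_assoc, this, Matrix.one_mulVec]
  have e0' := hshift x0 1 hx1 (by rw [one_smul]; exact hx2)
  have e1' := hshift _ _ e0'.1 e0'.2
  rw [mul_one] at e0' e1'
  have hne : (1 : F) - lam ^ 2 ≠ 0 := by
    intro h
    have h5 : lam * lam = 1 := by rw [← pow_two]; exact (sub_eq_zero.1 h).symm
    have h6 : lam * lam * lam = 1 := om3' hl
    rw [h5, one_mul] at h6
    rw [h6] at hl
    have : (1 : F) * 1 + 1 + 1 = 1 := by linear_combination h2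
    rw [this] at hl
    exact one_ne_zero hl
  have o01 : hermForm 4 F 2 x0 x1 = 0 := by
    have h5 := mat_isom T x0 x1
    rw [hx2, e0'.2, herm_smul_right] at h5
    have h6 : (1 - lam ^ 2) * hermForm 4 F 2 x0 x1 = 0 := by linear_combination -h5
    exact (mul_eq_zero.1 h6).resolve_left hne
  have o12 : hermForm 4 F 2 x1 x2 = 0 := by
    rw [hx2d, hx1d, mat_isom, ← hx1d]; exact o01
  have o20 : hermForm 4 F 2 x2 x0 = 0 := by
    rw [← hcx2, hx2d, mat_isom, ← hx2d]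
    exact o12
  have n1 : hermForm 4 F 2 x1 x1 = hermForm 4 F 2 x0 x0 := by rw [hx1d, mat_isom]
  have n2 : hermForm 4 F 2 x2 x2 = hermForm 4 F 2 x0 x0 := by rw [hx2d, mat_isom, n1]
  have hη : hermForm 4 F 2 x0 x0 ≠ 0 := by
    intro h0
    refine gram_ne_zero hF hl (mat T) ![x0, x1, x2] ?_ ?_ ?_
    · intro i
      fin_cases i
      · exact hx0
      · exact hC0 _ hx0
      · exact hC0 _ (hC0 _ hx0)
    · intro i
      fin_cases i
      · change mat T *ᵥ x0 = (1 : F) • x0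
        rw [one_smul]; exact hx2
      · exact e0'.2
      · exact e1'.2
    · intro i j
      fin_cases i <;> fin_cases j
      · exact h0
      · exact o01
      · exact herm_eq_zero_swap hF o20
      · exact herm_eq_zero_swap hF o01
      · exact n1.trans h0
      · exact o12
      · exact o20
      · exact herm_eq_zero_swap hF o12
      · exact n2.trans h0
  have hη1 : hermForm 4 F 2 x0 x0 = 1 := by
    have h5 := herm_self_pow hF x0
    rw [pow_two] at h5
    exact mul_left_cancel₀ hη (by rw [h5, mul_one])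
  refine ⟨lam, ⟨x0, hη1⟩, ⟨x1, n1.trans hη1⟩, ⟨x2, n2.trans hη1⟩, hl,
    herm_eq_zero_swap hF o01, o20, herm_eq_zero_swap hF o12, hx1, hx2, ?_, ?_, ?_⟩
  · exact Pt.ext' rfl
  · exact Pt.ext' rfl
  · exact Pt.ext' hcx2

/-- the matrix of the first embedding -/
theorem mat_emb_zero_four {q : ℕ} (hF : Fintype.card F = q ^ 2) (x : SU 3 F q) :
    mat (emb hF 0 (by omega : 0 + 3 ≤ 4) x) =
      !![mat x 0 0, mat x 0 1, mat x 0 2, 0; mat x 1 0, mat x 1 1, mat x 1 2, 0;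
        mat x 2 0, mat x 2 1, mat x 2 2, 0; 0, 0, 0, 1] := by
  have hi := sh_injective 0 (by omega : 0 + 3 ≤ 4)
  have h0 : ∀ i j : Fin 3, mat (emb hF 0 (by omega : 0 + 3 ≤ 4) x)
      (sh 0 (by omega : 0 + 3 ≤ 4) i) (sh 0 (by omega : 0 + 3 ≤ 4) j) = mat x i j :=
    fun i j => extM_apply hi _ i j
  have hn : ∀ i : Fin 3, (3 : Fin 4) ≠ sh 0 (by omega : 0 + 3 ≤ 4) i := by
    intro i hi
    have := congrArg Fin.val hi
    rw [sh_val] at this
    simp at this
    omega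
  have hr : ∀ a : Fin 4, mat (emb hF 0 (by omega : 0 + 3 ≤ 4) x) a 3 =
      (1 : Matrix (Fin 4) (Fin 4) F) a 3 := fun a => extM_apply_right hi hn _ a
  have hl : ∀ a : Fin 4, mat (emb hF 0 (by omega : 0 + 3 ≤ 4) x) 3 a =
      (1 : Matrix (Fin 4) (Fin 4) F) 3 a := fun a => extM_apply_left hn _ a
  ext a b
  fin_cases a <;> fin_cases b
  · exact h0 0 0
  · exact h0 0 1
  · exact h0 0 2
  · exact (hr 0).trans (by simp)
  · exact h0 1 0
  · exact h0 1 1
  · exact h0 1 2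
  · exact (hr 1).trans (by simp)
  · exact h0 2 0
  · exact h0 2 1
  · exact h0 2 2
  · exact (hr 2).trans (by simp)
  · exact (hl 0).trans (by simp)
  · exact (hl 1).trans (by simp)
  · exact (hl 2).trans (by simp)
  · exact (hr 3).trans (by simp)

theorem mat_emb_one_four {q : ℕ} (hF : Fintype.card F = q ^ 2) (x : SU 3 F q) :
    mat (emb hF 1 (by omega : 1 + 3 ≤ 4) x) =
      !![1, 0, 0, 0; 0, mat x 0 0, mat x 0 1, mat x 0 2; 0, mat x 1 0, mat x 1 1, mat x 1 2;
        0, mat x 2 0, mat x 2 1, mat x 2 2] := by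
  have hi := sh_injective 1 (by omega : 1 + 3 ≤ 4)
  have h0 : ∀ i j : Fin 3, mat (emb hF 1 (by omega : 1 + 3 ≤ 4) x)
      (sh 1 (by omega : 1 + 3 ≤ 4) i) (sh 1 (by omega : 1 + 3 ≤ 4) j) = mat x i j :=
    fun i j => extM_apply hi _ i j
  have hn : ∀ i : Fin 3, (0 : Fin 4) ≠ sh 1 (by omega : 1 + 3 ≤ 4) i := by
    intro i hi
    have := congrArg Fin.val hi
    rw [sh_val] at this
    simp at this
    omega
  have hr : ∀ a : Fin 4, mat (emb hF 1 (by omega : 1 + 3 ≤ 4) x) a 0 =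
      (1 : Matrix (Fin 4) (Fin 4) F) a 0 := fun a => extM_apply_right hi hn _ a
  have hl : ∀ a : Fin 4, mat (emb hF 1 (by omega : 1 + 3 ≤ 4) x) 0 a =
      (1 : Matrix (Fin 4) (Fin 4) F) 0 a := fun a => extM_apply_left hn _ a
  ext a b
  fin_cases a <;> fin_cases b
  · exact (hr 0).trans (by simp)
  · exact (hl 1).trans (by simp)
  · exact (hl 2).trans (by simp)
  · exact (hl 3).trans (by simp)
  · exact (hr 1).trans (by simp)
  · exact h0 0 0
  · exact h0 0 1
  · exact h0 0 2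
  · exact (hr 2).trans (by simp)
  · exact h0 1 0
  · exact h0 1 1
  · exact h0 1 2
  · exact (hr 3).trans (by simp)
  · exact h0 2 0
  · exact h0 2 1
  · exact h0 2 2

/-- norm condition for the trivial frame -/
theorem hd_one {n : ℕ} : ∀ i : Fin n, (1 : Fin n → F) i * (1 : Fin n → F) i ^ 2 = 1 := by
  intro i
  simp

/-- a field automorphism with prescribed value at `ω` -/
theorem exists_tau (hF : Fintype.card F = 2 ^ 2) {ω lam : F} (hω : ω * ω + ω + 1 = 0)
    (hl : lam * lam + lam + 1 = 0) : ∃ τ : F ≃+* F, τ ω = lam := by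
  rcases cases_four hF hω lam with h | h | h | h
  · rw [h] at hl; simp at hl
  · exfalso
    rw [h] at hl
    have h2 := two_eq_zero hF
    have : (1 : F) * 1 + 1 + 1 = 1 := by linear_combination h2
    rw [this] at hl
    exact one_ne_zero hl
  · exact ⟨RingEquiv.refl F, h.symm⟩
  · refine ⟨RingEquiv.ofBijective (Cfsg.Agent.LieClassical.HermBasic.conj hF) ⟨(Cfsg.Agent.LieClassical.HermBasic.conj hF).injective,
      Finite.injective_iff_surjective.1 (Cfsg.Agent.LieClassical.HermBasic.conj hF).injective⟩, ?_⟩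
    change ω ^ 2 = lam
    rw [h, pow_two]

/-- the elements of `SU 4` commuting with the extraspecial group -/
theorem centralizer_extraspecial (hF : Fintype.card F = 2 ^ 2) {lam : F}
    (hl : lam * lam + lam + 1 = 0) (Y : SU 4 F 2)
    (h1 : mat Y * !![lam, 0, 0, 0; 0, lam, 0, 0; 0, 0, lam, 0; 0, 0, 0, 1] =
      !![lam, 0, 0, 0; 0, lam, 0, 0; 0, 0, lam, 0; 0, 0, 0, 1] * mat Y)
    (h2 : mat Y * !![1, 0, 0, 0; 0, lam, 0, 0; 0, 0, lam * lam, 0; 0, 0, 0, 1] =
      !![1, 0, 0, 0; 0, lam, 0, 0; 0, 0, lam * lam, 0; 0, 0, 0, 1] * mat Y)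
    (h3 : mat Y * !![0, 0, 1, 0; 1, 0, 0, 0; 0, 1, 0, 0; 0, 0, 0, 1] =
      !![0, 0, 1, 0; 1, 0, 0, 0; 0, 1, 0, 0; 0, 0, 0, 1] * mat Y) :
    ∃ (θ : F) (h : θ * θ * θ = 1), Y = emb hF 0 (by omega : 0 + 3 ≤ 4) (dg hF θ θ θ h) := by
  have h20 := two_eq_zero hF
  have hl1 : lam - 1 ≠ 0 := by
    intro h
    have := sub_eq_zero.1 h
    subst this
    have : (1 : F) * 1 + 1 + 1 = 1 := by linear_combination h20
    rw [this] at hl
    exact one_ne_zero hl
  have hl0 : lam ≠ 0 := by rintro rfl; simp at hl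
  have hlc : lam * lam - 1 ≠ 0 := by
    intro h
    apply hl1
    have : lam * (lam - 1) = 0 := by linear_combination (lam - 1) * hl - (lam - 1) * h - (lam - 1) * h20
    exact (mul_eq_zero.1 this).resolve_left hl0
  have hll : lam * lam - lam ≠ 0 := by
    intro h
    apply hl1
    have : lam * (lam - 1) = 0 := by linear_combination h
    exact (mul_eq_zero.1 this).resolve_left hl0
  have e1 := fun i j => congrFun (congrFun h1 i) j
  have e2 := fun i j => congrFun (congrFun h2 i) j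
  have e3 := fun i j => congrFun (congrFun h3 i) j
  have a03 := e1 0 3
  have a13 := e1 1 3
  have a23 := e1 2 3
  have a30 := e1 3 0
  have a31 := e1 3 1
  have a32 := e1 3 2
  have b01 := e2 0 1
  have b02 := e2 0 2
  have b10 := e2 1 0
  have b12 := e2 1 2
  have b20 := e2 2 0
  have b21 := e2 2 1
  have c10 := e3 1 0
  have c21 := e3 2 1
  simp [Matrix.mul_apply, Fin.sum_univ_four] at a03 a13 a23 a30 a31 a32 b01 b02 b10 b12 b20 b21 c10 c21
  have z03 : mat Y 0 3 = 0 := by grind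
  have z13 : mat Y 1 3 = 0 := by grind
  have z23 : mat Y 2 3 = 0 := by grind
  have z30 : mat Y 3 0 = 0 := by grind
  have z31 : mat Y 3 1 = 0 := by grind
  have z32 : mat Y 3 2 = 0 := by grind
  have z01 : mat Y 0 1 = 0 := by grind
  have z02 : mat Y 0 2 = 0 := by grind
  have z10 : mat Y 1 0 = 0 := by grind
  have z12 : mat Y 1 2 = 0 := by grind
  have z20 : mat Y 2 0 = 0 := by grind
  have z21 : mat Y 2 1 = 0 := by grind
  have d1 : mat Y 1 1 = mat Y 0 0 := by grind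
  have d2 : mat Y 2 2 = mat Y 0 0 := by grind
  have hY : mat Y = !![mat Y 0 0, 0, 0, 0; 0, mat Y 0 0, 0, 0; 0, 0, mat Y 0 0, 0;
      0, 0, 0, mat Y 3 3] := by
    ext i j
    fin_cases i <;> fin_cases j <;>
      simp [z03, z13, z23, z30, z31, z32, z01, z02, z10, z12, z20, z21, d1, d2]
  have hdet := mat_det Y
  rw [hY] at hdet
  simp [Matrix.det_succ_row_zero, Fin.sum_univ_succ] at hdet
  have hθ0 : mat Y 0 0 ≠ 0 := by
    intro h
    rw [h, zero_mul] at hdet
    exact zero_ne_one hdet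
  have hθ := norm_two hF hθ0
  have hθ' : mat Y 0 0 * mat Y 0 0 * mat Y 0 0 = 1 := by rw [← hθ]; ring
  have hκ : mat Y 3 3 = 1 := by
    have : mat Y 0 0 * mat Y 0 0 * mat Y 0 0 * mat Y 3 3 = 1 := by rw [← hdet]; ring
    rwa [hθ', one_mul] at this
  refine ⟨mat Y 0 0, hθ', ?_⟩
  apply mat_inj
  rw [mat_emb_zero_four, mat_dg]
  refine hY.trans ?_
  rw [hκ]
  ext i j
  fin_cases i <;> fin_cases j <;> simp

theorem mat_fr_one (hF : Fintype.card F = 2 ^ 2) {n : ℕ} (τ : F ≃+* F) (x : SU n F 2) :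
    mat (fr hF τ 1 hd_one x) = (mat x).map τ := by
  rw [mat_fr]
  ext i j
  rw [frM_apply, Pi.one_apply, Pi.one_apply, inv_one, mul_one, one_mul, Matrix.map_apply]

/-- the standard twisted embedding -/
def eps (hF : Fintype.card F = 2 ^ 2) (τ : F ≃+* F) : SU 3 F 2 →* SU 4 F 2 :=
  (emb hF 0 (by omega : 0 + 3 ≤ 4)).comp (fr hF τ 1 hd_one)

theorem eps_injective (hF : Fintype.card F = 2 ^ 2) (τ : F ≃+* F) :
    Function.Injective (eps hF τ) := by
  intro x y h
  rw [eps, MonoidHom.comp_apply, MonoidHom.comp_apply] at h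
  have h1 : fr hF τ 1 hd_one x = fr hF τ 1 hd_one y := emb_injective hF _ _ h
  exact fr_injective hF τ 1 hd_one h1

theorem eps_zz (hF : Fintype.card F = 2 ^ 2) {ω lam : F} (hω : ω * ω + ω + 1 = 0)
    {τ : F ≃+* F} (hτ : τ ω = lam) : mat (eps hF τ (zz hF hω)) =
      !![lam, 0, 0, 0; 0, lam, 0, 0; 0, 0, lam, 0; 0, 0, 0, 1] := by
  rw [eps, MonoidHom.comp_apply, mat_emb_zero_four, mat_fr_one, mat_dg]
  ext i j
  fin_cases i <;> fin_cases j <;> simp [hτ]

theorem eps_tt (hF : Fintype.card F = 2 ^ 2) {ω lam : F} (hω : ω * ω + ω + 1 = 0)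
    {τ : F ≃+* F} (hτ : τ ω = lam) : mat (eps hF τ (tt hF hω)) =
      !![1, 0, 0, 0; 0, lam, 0, 0; 0, 0, lam * lam, 0; 0, 0, 0, 1] := by
  rw [eps, MonoidHom.comp_apply, mat_emb_zero_four, mat_fr_one, mat_dg]
  ext i j
  fin_cases i <;> fin_cases j <;> simp [hτ]

theorem eps_cyc (hF : Fintype.card F = 2 ^ 2) {τ : F ≃+* F} : mat (eps hF τ (cyc hF)) =
      !![0, 0, 1, 0; 1, 0, 0, 0; 0, 1, 0, 0; 0, 0, 0, 1] := by
  rw [eps, MonoidHom.comp_apply, mat_emb_zero_four, mat_fr_one, mat_cyc]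
  ext i j
  fin_cases i <;> fin_cases j <;> simp

/-- the basis vectors -/
abbrev bv (i : Fin 4) : Fin 4 → F := Pi.single i 1

/-- two elements of `SU 4` with the same first three columns -/
theorem eq_of_cols (hF : Fintype.card F = 2 ^ 2) (x y : SU 4 F 2)
    (h : ∀ i : Fin 4, i ≠ 3 → mat x *ᵥ bv i = mat y *ᵥ bv i) : x = y := by
  have hc : ∀ i : Fin 4, i ≠ 3 → x • pe 4 F 2 i = y • pe 4 F 2 i := by
    intro i hi
    apply Pt.ext'
    exact h i hi
  have h3 := eq_one_of_fix_three hF (y⁻¹ * x)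
    (by rw [mul_smul, hc 0 (by decide), inv_smul_smul])
    (by rw [mul_smul, hc 1 (by decide), inv_smul_smul])
    (by rw [mul_smul, hc 2 (by decide), inv_smul_smul])
  rw [inv_mul_eq_one] at h3
  exact h3.symm

/-- the data of a homomorphism in standard position -/
structure StdPos (hF : Fintype.card F = 2 ^ 2) {ω : F} (hω : ω * ω + ω + 1 = 0) (lam : F)
    (ρ : SU 3 F 2 →* SU 4 F 2) : Prop where
  z0 : mat (ρ (zz hF hω)) *ᵥ bv 0 = lam • bv 0
  t0 : mat (ρ (tt hF hω)) *ᵥ bv 0 = bv 0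
  c0 : mat (ρ (cyc hF)) *ᵥ bv 0 = bv 1
  c1 : mat (ρ (cyc hF)) *ᵥ bv 1 = bv 2
  c2 : mat (ρ (cyc hF)) *ᵥ bv 2 = bv 0

section std

variable {hF : Fintype.card F = 2 ^ 2} {ω lam : F} {hω : ω * ω + ω + 1 = 0}
  {ρ : SU 3 F 2 →* SU 4 F 2} {τ : F ≃+* F}

theorem StdPos.eq_cyc (h : StdPos hF hω lam ρ) : ρ (cyc hF) = eps hF τ (cyc hF) := by
  apply eq_of_cols hF
  intro i hi
  rw [eps_cyc]
  fin_cases i
  · refine h.c0.trans ?_
    funext j
    rw [Matrix.mulVec_single_one]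
    fin_cases j <;> simp
  · refine h.c1.trans ?_
    funext j
    rw [Matrix.mulVec_single_one]
    fin_cases j <;> simp
  · refine h.c2.trans ?_
    funext j
    rw [Matrix.mulVec_single_one]
    fin_cases j <;> simp
  · exact absurd rfl hi

theorem StdPos.zc (_h : StdPos hF hω lam ρ) (v : Fin 4 → F) :
    mat (ρ (zz hF hω)) *ᵥ (mat (ρ (cyc hF)) *ᵥ v) =
      mat (ρ (cyc hF)) *ᵥ (mat (ρ (zz hF hω)) *ᵥ v) := by
  rw [Matrix.mulVec_mulVec, Matrix.mulVec_mulVec, ← mat_mul, ← mat_mul, ← map_mul, ← map_mul,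
    zz_central]

theorem StdPos.tc (_h : StdPos hF hω lam ρ) (v : Fin 4 → F) :
    mat (ρ (tt hF hω)) *ᵥ (mat (ρ (cyc hF)) *ᵥ v) =
      mat (ρ (cyc hF)) *ᵥ (mat (ρ (zz hF hω)) *ᵥ (mat (ρ (tt hF hω)) *ᵥ v)) := by
  rw [Matrix.mulVec_mulVec, Matrix.mulVec_mulVec, Matrix.mulVec_mulVec, ← mat_mul, ← mat_mul,
    ← mat_mul, ← map_mul, ← map_mul, ← map_mul, rel_cyc, mul_assoc]

theorem StdPos.z1 (h : StdPos hF hω lam ρ) : mat (ρ (zz hF hω)) *ᵥ bv 1 = lam • bv 1 := by
  rw [← h.c0, h.zc, h.z0, Matrix.mulVec_smul]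

theorem StdPos.z2 (h : StdPos hF hω lam ρ) : mat (ρ (zz hF hω)) *ᵥ bv 2 = lam • bv 2 := by
  rw [← h.c1, h.zc, h.z1, Matrix.mulVec_smul]

theorem StdPos.t1 (h : StdPos hF hω lam ρ) : mat (ρ (tt hF hω)) *ᵥ bv 1 = lam • bv 1 := by
  rw [← h.c0, h.tc, h.t0, h.z0, Matrix.mulVec_smul]

theorem StdPos.t2 (h : StdPos hF hω lam ρ) : mat (ρ (tt hF hω)) *ᵥ bv 2 = (lam * lam) • bv 2 := by
  rw [← h.c1, h.tc, h.t1, Matrix.mulVec_smul, h.z1, Matrix.mulVec_smul, Matrix.mulVec_smul,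
    smul_smul]

theorem StdPos.eq_zz (h : StdPos hF hω lam ρ) (hτ : τ ω = lam) :
    ρ (zz hF hω) = eps hF τ (zz hF hω) := by
  apply eq_of_cols hF
  intro i hi
  rw [eps_zz hF hω hτ]
  fin_cases i
  · refine h.z0.trans ?_
    funext j
    rw [Matrix.mulVec_single_one]
    fin_cases j <;> simp
  · refine h.z1.trans ?_
    funext j
    rw [Matrix.mulVec_single_one]
    fin_cases j <;> simp
  · refine h.z2.trans ?_
    funext j
    rw [Matrix.mulVec_single_one]
    fin_cases j <;> simp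
  · exact absurd rfl hi

theorem StdPos.eq_tt (h : StdPos hF hω lam ρ) (hτ : τ ω = lam) :
    ρ (tt hF hω) = eps hF τ (tt hF hω) := by
  apply eq_of_cols hF
  intro i hi
  rw [eps_tt hF hω hτ]
  fin_cases i
  · refine h.t0.trans ?_
    funext j
    rw [Matrix.mulVec_single_one]
    fin_cases j <;> simp
  · refine h.t1.trans ?_
    funext j
    rw [Matrix.mulVec_single_one]
    fin_cases j <;> simp
  · refine h.t2.trans ?_
    funext j
    rw [Matrix.mulVec_single_one]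
    fin_cases j <;> simp
  · exact absurd rfl hi

/-- elements normalizing the extraspecial group, of order dividing four -/
theorem StdPos.eq_of_norm (h : StdPos hF hω lam ρ) (hl : lam * lam + lam + 1 = 0)
    (hτ : τ ω = lam) (x t' c' : SU 3 F 2) (ht' : ρ t' = eps hF τ t') (hc' : ρ c' = eps hF τ c')
    (hxt : x * tt hF hω = t' * x) (hxc : x * cyc hF = c' * x) (hx4 : x ^ 4 = 1) :
    ρ x = eps hF τ x := by
  set Y := (eps hF τ x)⁻¹ * ρ x with hY
  have key : ∀ e e' : SU 3 F 2, ρ e = eps hF τ e → ρ e' = eps hF τ e' → x * e = e' * x →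
      Y * eps hF τ e = eps hF τ e * Y := by
    intro e e' he he' hxe
    have h1 : ρ x * eps hF τ e = eps hF τ e' * ρ x := by
      rw [← he, ← he', ← map_mul, ← map_mul, hxe]
    have h2 : eps hF τ x * eps hF τ e = eps hF τ e' * eps hF τ x := by
      rw [← map_mul, ← map_mul, hxe]
    rw [hY, mul_assoc, h1, ← mul_assoc, ← mul_assoc]
    congr 1
    rw [inv_mul_eq_iff_eq_mul, ← mul_assoc, h2, mul_inv_cancel_right]
  have k1 := congrArg mat (key _ _ (h.eq_zz hτ) (h.eq_zz hτ) (zz_central hF hω x).symm)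
  have k2 := congrArg mat (key _ _ (h.eq_tt hτ) ht' hxt)
  have k3 := congrArg mat (key _ _ h.eq_cyc hc' hxc)
  rw [mat_mul Y, mat_mul _ Y, eps_zz hF hω hτ] at k1
  rw [mat_mul Y, mat_mul _ Y, eps_tt hF hω hτ] at k2
  rw [mat_mul Y, mat_mul _ Y, eps_cyc] at k3
  obtain ⟨θ, hθ, hYθ⟩ := centralizer_extraspecial hF hl Y k1 k2 k3
  -- the central element
  have hθ' : τ.symm θ * τ.symm θ * τ.symm θ = 1 := by
    rw [← map_mul, ← map_mul, hθ, map_one]
  set w := dg hF (τ.symm θ) (τ.symm θ) (τ.symm θ) hθ' with hw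
  have hYw : Y = eps hF τ w := by
    rw [hYθ, eps, MonoidHom.comp_apply]
    congr 1
    apply mat_inj
    rw [mat_fr_one, mat_dg, mat_dg]
    ext i j
    fin_cases i <;> fin_cases j <;> simp
  have hwc : ∀ y : SU 3 F 2, Commute y w := by
    intro y
    apply mat_inj
    simp only [mat_mul, hw, mat_dg]
    ext i j
    fin_cases i <;> fin_cases j <;> simp [Matrix.mul_apply, Fin.sum_univ_three] <;> ring
  have hw3 : w ^ 3 = 1 := by
    have : w ^ 3 = w * w * w := by rw [pow_succ, pow_two]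
    rw [this]
    apply mat_inj
    simp only [mat_mul, hw, mat_dg, mat_one]
    ext i j
    fin_cases i <;> fin_cases j <;> simp [Matrix.mul_apply, Fin.sum_univ_three, hθ']
  have hρx : ρ x = eps hF τ (x * w) := by
    rw [map_mul, ← hYw, hY, mul_inv_cancel_left]
  have h5 : eps hF τ (w ^ 4) = 1 := by
    have h6 : ρ (x ^ 4) = 1 := by rw [hx4, map_one]
    rw [map_pow, hρx, ← map_pow, (hwc x).mul_pow, hx4, one_mul] at h6
    exact h6
  have h6 : w ^ 4 = 1 := eps_injective hF τ (by rw [h5, map_one])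
  have h7 : w = 1 := by
    rw [pow_succ, hw3, one_mul] at h6
    exact h6
  rw [hρx, h7, mul_one]

/-- **Standard position implies standard.** -/
theorem StdPos.eq (h : StdPos hF hω lam ρ) (hl : lam * lam + lam + 1 = 0)
    (hτ : τ ω = lam) : ρ = eps hF τ := by
  have htop := eq_top_of_gens hF hω (MonoidHom.eqLocus ρ (eps hF τ)) (h.eq_tt hτ) h.eq_cyc
    (h.eq_of_norm hl hτ (swp hF) _ _ (by rw [map_mul, map_mul, h.eq_tt hτ])
      (by rw [map_mul, map_mul, h.eq_cyc]) (rel_swp1 hF hω) (rel_swp2 hF) (swp_four hF))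
    (h.eq_of_norm hl hτ (fou hF hω) _ _ (by rw [map_mul, map_mul, h.eq_cyc])
      (h.eq_tt hτ) (rel_fou1 hF hω) (rel_fou2 hF hω) (fou_four hF hω))
    (h.eq_of_norm hl hτ (fou' hF hω) _ _
      (by simp only [map_mul]; rw [h.eq_tt hτ, h.eq_cyc])
      (by simp only [map_mul]; rw [h.eq_tt hτ, h.eq_cyc])
      (rel_fou1' hF hω) (rel_fou2' hF hω) (fou'_four hF hω))
  ext1 x
  have : x ∈ MonoidHom.eqLocus ρ (eps hF τ) := by rw [htop]; trivial
  exact this

end std

/-- **Homomorphisms `SU 3 → SU 4`.** -/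
theorem exists_frame_rep (hF : Fintype.card F = 2 ^ 2) {ω : F} (hω : ω * ω + ω + 1 = 0)
    (ρ : SU 3 F 2 →* SU 4 F 2) (hz : ρ (zz hF hω) ≠ 1) :
    ∃ (g : SU 4 F 2) (τ : F ≃+* F), ∀ x, ρ x = g * eps hF τ x * g⁻¹ := by
  obtain ⟨lam, v0, v1, v2, hl, o10, o20, o21, hzv, htv, c0, c1, c2⟩ :=
    exists_eigen_frame hF hω ρ hz
  obtain ⟨τ, hτ⟩ := exists_tau hF hω hl
  obtain ⟨g, g0, g1, g2⟩ := exists_frame_triple hF v0 v1 v2 o10 o20 o21
  have g0' : mat g *ᵥ bv 0 = v0.val := congrArg Pt.val g0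
  have g1' : mat g *ᵥ bv 1 = v1.val := congrArg Pt.val g1
  have g2' : mat g *ᵥ bv 2 = v2.val := congrArg Pt.val g2
  have c0' : mat (ρ (cyc hF)) *ᵥ v0.val = v1.val := congrArg Pt.val c0
  have c1' : mat (ρ (cyc hF)) *ᵥ v1.val = v2.val := congrArg Pt.val c1
  have c2' : mat (ρ (cyc hF)) *ᵥ v2.val = v0.val := congrArg Pt.val c2
  set ρ' : SU 3 F 2 →* SU 4 F 2 := (MulAut.conj g⁻¹).toMonoidHom.comp ρ with hρ'
  have hρ'a : ∀ x, ρ' x = g⁻¹ * ρ x * g := by
    intro x
    change MulAut.conj g⁻¹ (ρ x) = _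
    rw [MulAut.conj_apply, inv_inv]
  have hρv : ∀ (x : SU 3 F 2) (p r : Fin 4 → F), mat (ρ x) *ᵥ (mat g *ᵥ p) = mat g *ᵥ r →
      mat (ρ' x) *ᵥ p = r := by
    intro x p r h
    rw [hρ'a, mat_mul, mat_mul, ← Matrix.mulVec_mulVec, ← Matrix.mulVec_mulVec, h,
      Matrix.mulVec_mulVec, mat_inv_mul, Matrix.one_mulVec]
  have hstd : StdPos hF hω lam ρ' := by
    refine ⟨hρv _ _ _ ?_, hρv _ _ _ ?_, hρv _ _ _ ?_, hρv _ _ _ ?_, hρv _ _ _ ?_⟩
    · rw [g0', hzv, Matrix.mulVec_smul, g0']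
    · rw [g0', htv]
    · rw [g0', c0', g1']
    · rw [g1', c1', g2']
    · rw [g2', c2', g0']
  refine ⟨g, τ, ?_⟩
  intro x
  rw [← hstd.eq hl hτ, hρ'a]
  group

end Cfsg.Agent.P3711
end

-- part: P3711/Rig
section
/-!
# Pairs of homomorphisms `SU 3 → SU 4` over the field with four elements

`exists_hom_of_pair` : a compatible pair comes from an endomorphism of `SU 4`.
-/

set_option autoImplicit false

namespace Cfsg.Agent.P3711

open Matrix Cfsg Cfsg.Agent.Phan Cfsg.Agent.Phan.Cover Cfsg.Agent.H434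
open Cfsg.Agent.LieClassical.HermBasic

variable {F : Type*} [Field F] [Fintype F]

theorem mk_isom_four (hF : Fintype.card F = 2 ^ 2) (A : Matrix (Fin 4) (Fin 4) F)
    (h : Aᵀ * A.map (fun x => x * x) = 1) (u v : Fin 4 → F) :
    hermForm 4 F 2 (A *ᵥ u) (A *ᵥ v) = hermForm 4 F 2 u v := by
  revert u v
  rw [Cfsg.Agent.LieClassical.GUOrder.mul_map_eq_one_iff hF, ← h]
  congr 1
  ext i j
  rw [Matrix.map_apply, Matrix.map_apply, Cfsg.Agent.LieClassical.GUOrder.frob_apply, pow_two]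

/-- the cyclic permutation in dimension four -/
def cyc4 (hF : Fintype.card F = 2 ^ 2) : SU 4 F 2 :=
  mk !![0, 0, 0, 1; 1, 0, 0, 0; 0, 1, 0, 0; 0, 0, 1, 0] (by
    have := neg_eq hF 1
    simp [Matrix.det_succ_row_zero, Fin.sum_univ_succ, Fin.succAbove, this]) (by
    apply mk_isom_four hF
    ext i j
    fin_cases i <;> fin_cases j <;> simp [Matrix.mul_apply, Fin.sum_univ_four])

theorem mat_cyc4 (hF : Fintype.card F = 2 ^ 2) : mat (cyc4 hF) =
    !![0, 0, 0, 1; 1, 0, 0, 0; 0, 1, 0, 0; 0, 0, 1, 0] := rfl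

theorem cyc4_conj (hF : Fintype.card F = 2 ^ 2) (x : SU 3 F 2) :
    cyc4 hF * emb hF 0 (by omega : 0 + 3 ≤ 4) x = emb hF 1 (by omega : 1 + 3 ≤ 4) x * cyc4 hF := by
  apply mat_inj
  rw [mat_mul, mat_mul, mat_emb_zero_four, mat_emb_one_four, mat_cyc4]
  ext i j
  fin_cases i <;> fin_cases j <;> simp [Matrix.mul_apply, Fin.sum_univ_four]

/-- the torus element of `SU 2` -/
def t2 (hF : Fintype.card F = 2 ^ 2) {ω : F} (hω : ω * ω + ω + 1 = 0) : SU 2 F 2 :=
  tor hF ω (by rw [pow_two, ← mul_assoc]; exact om3' hω)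

theorem mat_t2 (hF : Fintype.card F = 2 ^ 2) {ω : F} (hω : ω * ω + ω + 1 = 0) :
    mat (t2 hF hω) = !![ω, 0; 0, ω * ω] := by
  rw [t2, mat_tor]
  ext i j
  fin_cases i <;> fin_cases j <;> simp [pow_two]

theorem mat_wey' (hF : Fintype.card F = 2 ^ 2) : mat (wey hF) = !![0, 1; 1, 0] := by
  rw [mat_wey]
  have := neg_eq hF 1
  ext i j
  fin_cases i <;> fin_cases j <;> simp [this]

theorem eig_zero {a b x : F} (hab : a ≠ b) (h : a * x = x * b) : x = 0 := by
  have : (a - b) * x = 0 := by linear_combination h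
  rcases mul_eq_zero.1 this with h | h
  · exact absurd (sub_eq_zero.1 h) hab
  · exact h

theorem transition_scalar (hF : Fintype.card F = 2 ^ 2) {l₀ l₁ : F} (h₀ : l₀ * l₀ + l₀ + 1 = 0)
    (h₁ : l₁ * l₁ + l₁ + 1 = 0) (X : Matrix (Fin 4) (Fin 4) F) (c : F)
    (t : ∀ i j, (![1, l₀, l₀ * l₀, 1] : Fin 4 → F) i * X i j =
      X i j * (![1, l₁, l₁ * l₁, 1] : Fin 4 → F) j)
    (s11 : X 2 1 = X 1 2) (s12 : X 2 2 = X 1 1)
    (hcol : ∀ i j, X 0 i * X 0 j ^ 2 + X 1 i * X 1 j ^ 2 +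
      X 2 i * X 2 j ^ 2 + X 3 i * X 3 j ^ 2 = (1 : Matrix (Fin 4) (Fin 4) F) i j)
    (hm : ∀ i, (![l₀, l₀ * l₀, 1, 1] : Fin 4 → F) i * (X i 2 + X i 3) = c * (X i 2 + X i 3)) :
    l₀ = l₁ ∧ ∃ d0 x d3 : F, X = Matrix.diagonal ![d0, x, x, d3] := by
  have h20 := two_eq_zero hF
  have ne1 : ∀ {l : F}, l * l + l + 1 = 0 → l ≠ 1 := by
    rintro l h rfl
    have : (1 : F) * 1 + 1 + 1 = 1 := by linear_combination h20
    rw [this] at h
    exact one_ne_zero h
  have ne2 : ∀ {l : F}, l * l + l + 1 = 0 → l * l ≠ 1 := by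
    intro l h h'
    have : l = 0 := by linear_combination h - h' - h20
    subst this
    simp at h
  have ne3 : ∀ {l : F}, l * l + l + 1 = 0 → l * l ≠ l := by
    intro l h h'
    have : (1 : F) = 0 := by linear_combination h - h' - l * h20
    exact one_ne_zero this
  have t01 := t 0 1
  have t02 := t 0 2
  have t10 := t 1 0
  have t13 := t 1 3
  have t20 := t 2 0
  have t23 := t 2 3
  have t31 := t 3 1
  have t32 := t 3 2
  have t11 := t 1 1
  have t12 := t 1 2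
  have t21 := t 2 1
  have t22 := t 2 2
  simp only [Matrix.cons_val] at t01 t02 t10 t13 t20 t23 t31 t32 t11 t12 t21 t22
  have z01 : X 0 1 = 0 := eig_zero (ne1 h₁).symm t01
  have z02 : X 0 2 = 0 := eig_zero (ne2 h₁).symm t02
  have z10 : X 1 0 = 0 := eig_zero (ne1 h₀) t10
  have z13 : X 1 3 = 0 := eig_zero (ne1 h₀) t13
  have z20 : X 2 0 = 0 := eig_zero (ne2 h₀) t20
  have z23 : X 2 3 = 0 := eig_zero (ne2 h₀) t23
  have z31 : X 3 1 = 0 := eig_zero (ne1 h₁).symm t31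
  have z32 : X 3 2 = 0 := eig_zero (ne2 h₁).symm t32
  have m0 := hm 0
  have m1 := hm 1
  have m2 := hm 2
  have m3 := hm 3
  simp only [Matrix.cons_val, z02, z13, z23, z32, zero_add, add_zero, one_mul] at m0 m1 m2 m3
  have c22 := hcol 2 2
  have c33 := hcol 3 3
  have c03 := hcol 0 3
  rw [Matrix.one_apply_eq, z02, z32] at c22
  rw [Matrix.one_apply_eq, z13, z23] at c33
  rw [Matrix.one_apply_ne (by decide), z10, z20] at c03
  by_cases hll : l₀ = l₁
  · refine ⟨hll, ?_⟩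
    subst hll
    have z12 : X 1 2 = 0 := eig_zero (ne3 h₀).symm t12
    have z21 : X 2 1 = 0 := eig_zero (ne3 h₀) t21
    rw [z12] at c22
    have hx : X 2 2 ≠ 0 := by
      intro h
      rw [h] at c22
      simp at c22
    have hc1 : c = 1 := by
      have : (c - 1) * X 2 2 = 0 := by linear_combination -m2
      rcases mul_eq_zero.1 this with h | h
      · exact sub_eq_zero.1 h
      · exact absurd h hx
    subst hc1
    have z03 : X 0 3 = 0 := eig_zero (ne1 h₀) (by rw [m0]; ring)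
    rw [z03] at c33 c03
    have hx3 : X 3 3 ≠ 0 := by
      intro h
      rw [h] at c33
      simp at c33
    have z30 : X 3 0 = 0 := by
      have : X 3 0 * X 3 3 ^ 2 = 0 := by linear_combination c03
      rcases mul_eq_zero.1 this with h | h
      · exact h
      · exact absurd h (pow_ne_zero 2 hx3)
    refine ⟨X 0 0, X 1 1, X 3 3, ?_⟩
    ext i j
    fin_cases i <;> fin_cases j <;>
      simp [z01, z02, z03, z10, z12, z13, z20, z21, z23, z30, z31, z32, s12]
  · exfalso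
    -- the two roots
    have hl : l₁ = l₀ * l₀ := by
      have : (l₀ - l₁) * (l₀ + l₁ + 1) = 0 := by linear_combination h₀ - h₁
      rcases mul_eq_zero.1 this with h | h
      · exact absurd (sub_eq_zero.1 h) hll
      · linear_combination h - h₀
    have z22 : X 2 2 = 0 := by
      refine eig_zero ?_ t22
      intro h
      apply hll
      linear_combination h₀ - h₁ - h
    rw [z22] at c22
    have hx : X 1 2 ≠ 0 := by
      intro h
      rw [h] at c22
      simp at c22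
    have hc1 : c = l₀ * l₀ := by
      have : (c - l₀ * l₀) * X 1 2 = 0 := by linear_combination -m1
      rcases mul_eq_zero.1 this with h | h
      · exact sub_eq_zero.1 h
      · exact absurd h hx
    subst hc1
    have z03 : X 0 3 = 0 := eig_zero (ne3 h₀).symm (by rw [m0]; ring)
    have z33 : X 3 3 = 0 := eig_zero (ne2 h₀) (by rw [mul_one]; exact m3.symm)
    rw [z03, z33] at c33
    simp at c33

/-- The algebra of the transition matrix. -/
theorem transition (hF : Fintype.card F = 2 ^ 2) {l₀ l₁ : F} (h₀ : l₀ * l₀ + l₀ + 1 = 0)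
    (h₁ : l₁ * l₁ + l₁ + 1 = 0) (X : SU 4 F 2)
    (ht : Matrix.diagonal ![1, l₀, l₀ * l₀, 1] * mat X =
      mat X * Matrix.diagonal ![1, l₁, l₁ * l₁, 1])
    (hs : !![1, 0, 0, 0; 0, 0, 1, 0; 0, 1, 0, 0; 0, 0, 0, 1] * mat X =
      mat X * !![1, 0, 0, 0; 0, 0, 1, 0; 0, 1, 0, 0; 0, 0, 0, 1])
    (hc : Matrix.diagonal ![l₀, l₀ * l₀, 1, 1] *
        (mat X * !![1, 0, 0, 0; 0, 1, 0, 0; 0, 0, 0, 1; 0, 0, 1, 0] * mat X⁻¹) =
      (mat X * !![1, 0, 0, 0; 0, 1, 0, 0; 0, 0, 0, 1; 0, 0, 1, 0] * mat X⁻¹) *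
        Matrix.diagonal ![l₀, l₀ * l₀, 1, 1]) :
    l₀ = l₁ ∧ ∃ d0 x d3 : F, mat X = Matrix.diagonal ![d0, x, x, d3] := by
  have h20 := two_eq_zero hF
  -- the eigenvector
  set m : Fin 4 → F := fun i => mat X i 2 + mat X i 3 with hm
  have hmX : m = mat X *ᵥ (![0, 0, 1, 1] : Fin 4 → F) := by
    funext i
    simp [hm, Matrix.mulVec, dotProduct, Fin.sum_univ_four]
  obtain ⟨c, hcm⟩ : ∃ c : F, Matrix.diagonal ![l₀, l₀ * l₀, 1, 1] *ᵥ m = c • m := by
    set S : Matrix (Fin 4) (Fin 4) F := !![1, 0, 0, 0; 0, 1, 0, 0; 0, 0, 0, 1; 0, 0, 1, 0] with hS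
    set D : Matrix (Fin 4) (Fin 4) F := Matrix.diagonal ![l₀, l₀ * l₀, 1, 1]
      with hD
    -- `N u = X S X⁻¹ u - u` is a multiple of `m`
    have hN : ∀ u : Fin 4 → F, (mat X * S * mat X⁻¹) *ᵥ u - u =
        ((mat X⁻¹ *ᵥ u) 2 + (mat X⁻¹ *ᵥ u) 3) • m := by
      intro u
      set w := mat X⁻¹ *ᵥ u with hw
      have hu : u = mat X *ᵥ w := by
        rw [hw, Matrix.mulVec_mulVec, mat_mul_inv, Matrix.one_mulVec]
      rw [← Matrix.mulVec_mulVec, ← Matrix.mulVec_mulVec, ← hw, hmX]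
      conv_lhs => rw [hu]
      rw [← Matrix.mulVec_sub, ← Matrix.mulVec_smul]
      congr 1
      have hneg := neg_eq hF
      funext i
      fin_cases i
      · simp [hS, Matrix.mulVec, dotProduct, Fin.sum_univ_four]
      · simp [hS, Matrix.mulVec, dotProduct, Fin.sum_univ_four]
      · simp [hS, Matrix.mulVec, dotProduct, Fin.sum_univ_four]
        linear_combination (-w 2) * h20
      · simp [hS, Matrix.mulVec, dotProduct, Fin.sum_univ_four]
        linear_combination (-w 3) * h20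
    -- `m = N (X e₂)`
    have hm2 : (mat X * S * mat X⁻¹) *ᵥ (mat X *ᵥ bv 2) - mat X *ᵥ bv 2 = m := by
      rw [hN, Matrix.mulVec_mulVec, mat_inv_mul, Matrix.one_mulVec]
      simp
    refine ⟨(mat X⁻¹ *ᵥ (D *ᵥ (mat X *ᵥ bv 2))) 2 + (mat X⁻¹ *ᵥ (D *ᵥ (mat X *ᵥ bv 2))) 3, ?_⟩
    rw [← hN]
    conv_lhs => rw [← hm2]
    rw [Matrix.mulVec_sub, Matrix.mulVec_mulVec, hc, ← Matrix.mulVec_mulVec]
  refine transition_scalar hF h₀ h₁ (mat X) c ?_ ?_ ?_ ?_ ?_
  · intro i j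
    have := congrFun (congrFun ht i) j
    rwa [Matrix.diagonal_mul, Matrix.mul_diagonal] at this
  · have := congrFun (congrFun hs 1) 1
    simpa [Matrix.mul_apply, Fin.sum_univ_four] using this
  · have := congrFun (congrFun hs 1) 2
    simpa [Matrix.mul_apply, Fin.sum_univ_four] using this
  · intro i j
    have h6 := mat_isom X (bv i) (bv j)
    rw [Matrix.mulVec_single_one, Matrix.mulVec_single_one, herm_single_left, one_mul, herm_def,
      Fin.sum_univ_four] at h6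
    rw [Matrix.one_apply]
    refine h6.trans ?_
    by_cases h : i = j
    · subst h
      simp
    · rw [if_neg h]
      simp [bv, Pi.single_apply, h]
  · intro i
    have := congrFun hcm i
    rw [Matrix.mulVec_diagonal] at this
    exact this

end Cfsg.Agent.P3711
end

-- part: P3711/Pair
section
/-!
# A compatible pair of homomorphisms `SU 3 → SU 4` comes from `SU 4 → SU 4`
-/

set_option autoImplicit false

namespace Cfsg.Agent.P3711

open Matrix Cfsg Cfsg.Agent.Phan Cfsg.Agent.Phan.Cover Cfsg.Agent.H434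
open Cfsg.Agent.LieClassical.HermBasic Cfsg.Agent.H433

variable {F : Type*} [Field F] [Fintype F]

theorem eps_one_t2 (hF : Fintype.card F = 2 ^ 2) {ω lam : F} (hω : ω * ω + ω + 1 = 0)
    {τ : F ≃+* F} (hτ : τ ω = lam) :
    mat (eps hF τ (emb hF 1 (by omega : 1 + 2 ≤ 3) (t2 hF hω))) =
      Matrix.diagonal ![1, lam, lam * lam, 1] := by
  rw [eps, MonoidHom.comp_apply, mat_emb_zero_four, mat_fr_one, mat_emb_one_three, mat_t2]
  ext i j
  fin_cases i <;> fin_cases j <;> simp [hτ]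

theorem eps_zero_t2 (hF : Fintype.card F = 2 ^ 2) {ω lam : F} (hω : ω * ω + ω + 1 = 0)
    {τ : F ≃+* F} (hτ : τ ω = lam) :
    mat (eps hF τ (emb hF 0 (by omega : 0 + 2 ≤ 3) (t2 hF hω))) =
      Matrix.diagonal ![lam, lam * lam, 1, 1] := by
  rw [eps, MonoidHom.comp_apply, mat_emb_zero_four, mat_fr_one, mat_emb_zero_three, mat_t2]
  ext i j
  fin_cases i <;> fin_cases j <;> simp [hτ]

theorem eps_one_wey (hF : Fintype.card F = 2 ^ 2) {τ : F ≃+* F} :
    mat (eps hF τ (emb hF 1 (by omega : 1 + 2 ≤ 3) (wey hF))) =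
      !![1, 0, 0, 0; 0, 0, 1, 0; 0, 1, 0, 0; 0, 0, 0, 1] := by
  rw [eps, MonoidHom.comp_apply, mat_emb_zero_four, mat_fr_one, mat_emb_one_three, mat_wey']
  ext i j
  fin_cases i <;> fin_cases j <;> simp

/-- the second twisted embedding -/
def eps' (hF : Fintype.card F = 2 ^ 2) (τ : F ≃+* F) : SU 3 F 2 →* SU 4 F 2 :=
  (emb hF 1 (by omega : 1 + 3 ≤ 4)).comp (fr hF τ 1 hd_one)

theorem eps_conj (hF : Fintype.card F = 2 ^ 2) (τ : F ≃+* F) (x : SU 3 F 2) :
    eps hF τ x = (cyc4 hF)⁻¹ * eps' hF τ x * cyc4 hF := by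
  rw [eps, eps', MonoidHom.comp_apply, MonoidHom.comp_apply, mul_assoc, ← cyc4_conj,
    inv_mul_cancel_left]

theorem eps'_zero_t2 (hF : Fintype.card F = 2 ^ 2) {ω lam : F} (hω : ω * ω + ω + 1 = 0)
    {τ : F ≃+* F} (hτ : τ ω = lam) :
    mat (eps' hF τ (emb hF 0 (by omega : 0 + 2 ≤ 3) (t2 hF hω))) =
      Matrix.diagonal ![1, lam, lam * lam, 1] := by
  rw [eps', MonoidHom.comp_apply, mat_emb_one_four, mat_fr_one, mat_emb_zero_three, mat_t2]
  ext i j
  fin_cases i <;> fin_cases j <;> simp [hτ]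

theorem eps'_zero_wey (hF : Fintype.card F = 2 ^ 2) {τ : F ≃+* F} :
    mat (eps' hF τ (emb hF 0 (by omega : 0 + 2 ≤ 3) (wey hF))) =
      !![1, 0, 0, 0; 0, 0, 1, 0; 0, 1, 0, 0; 0, 0, 0, 1] := by
  rw [eps', MonoidHom.comp_apply, mat_emb_one_four, mat_fr_one, mat_emb_zero_three, mat_wey']
  ext i j
  fin_cases i <;> fin_cases j <;> simp

theorem eps'_one_wey (hF : Fintype.card F = 2 ^ 2) {τ : F ≃+* F} :
    mat (eps' hF τ (emb hF 1 (by omega : 1 + 2 ≤ 3) (wey hF))) =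
      !![1, 0, 0, 0; 0, 1, 0, 0; 0, 0, 0, 1; 0, 0, 1, 0] := by
  rw [eps', MonoidHom.comp_apply, mat_emb_one_four, mat_fr_one, mat_emb_one_three, mat_wey']
  ext i j
  fin_cases i <;> fin_cases j <;> simp

/-- a diagonal element has entries of norm one -/
theorem diag_norm (hF : Fintype.card F = 2 ^ 2) {n : ℕ} (X : SU n F 2) (d : Fin n → F)
    (hX : mat X = Matrix.diagonal d) (i : Fin n) : d i * d i ^ 2 = 1 := by
  apply norm_two hF
  intro h
  have hdet := mat_det X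
  rw [hX, Matrix.det_diagonal, Finset.prod_eq_zero (Finset.mem_univ i) h] at hdet
  exact zero_ne_one hdet

/-- field automorphisms agreeing on `ω` -/
theorem tau_ext (hF : Fintype.card F = 2 ^ 2) {ω : F} (hω : ω * ω + ω + 1 = 0)
    {τ₀ τ₁ : F ≃+* F} (h : τ₀ ω = τ₁ ω) : τ₀ = τ₁ := by
  ext x
  rcases cases_four hF hω x with rfl | rfl | rfl | rfl
  · simp
  · simp
  · exact h
  · rw [map_mul, map_mul, h]

/-- **A compatible pair extends.** -/
theorem exists_hom_of_pair (hF : Fintype.card F = 2 ^ 2) {ω : F} (hω : ω * ω + ω + 1 = 0)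
    (ρ₀ ρ₁ : SU 3 F 2 →* SU 4 F 2) (hz₀ : ρ₀ (zz hF hω) ≠ 1) (hz₁ : ρ₁ (zz hF hω) ≠ 1)
    (h23 : ∀ y : SU 2 F 2, ρ₀ (emb hF 1 (by omega : 1 + 2 ≤ 3) y) =
      ρ₁ (emb hF 0 (by omega : 0 + 2 ≤ 3) y))
    (hcomm : ∀ x y : SU 2 F 2, Commute (ρ₀ (emb hF 0 (by omega : 0 + 2 ≤ 3) x))
      (ρ₁ (emb hF 1 (by omega : 1 + 2 ≤ 3) y))) :
    ∃ Γ : SU 4 F 2 →* SU 4 F 2,
      (∀ x, Γ (emb hF 0 (by omega : 0 + 3 ≤ 4) x) = ρ₀ x) ∧
      (∀ x, Γ (emb hF 1 (by omega : 1 + 3 ≤ 4) x) = ρ₁ x) := by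
  obtain ⟨g, τ₀, hg⟩ := exists_frame_rep hF hω ρ₀ hz₀
  obtain ⟨h, τ₁, hh⟩ := exists_frame_rep hF hω ρ₁ hz₁
  obtain ⟨k, hk⟩ : ∃ k, k = h * (cyc4 hF)⁻¹ := ⟨_, rfl⟩
  have hk1 : ∀ x, ρ₁ x = k * eps' hF τ₁ x * k⁻¹ := by
    intro x
    rw [hh, eps_conj, hk]
    group
  obtain ⟨X, hX⟩ : ∃ X, X = g⁻¹ * k := ⟨_, rfl⟩
  have hkX : k = g * X := by rw [hX, mul_inv_cancel_left]
  have hroot : ∀ τ : F ≃+* F, τ ω * τ ω + τ ω + 1 = 0 := by
    intro τ
    rw [← map_mul, ← map_one τ, ← map_add, ← map_add, hω, map_zero]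
  have key : ∀ y : SU 2 F 2, eps hF τ₀ (emb hF 1 (by omega : 1 + 2 ≤ 3) y) * X =
      X * eps' hF τ₁ (emb hF 0 (by omega : 0 + 2 ≤ 3) y) := by
    intro y
    have h1 := h23 y
    rw [hg, hk1, hkX] at h1
    have h2 : g * (eps hF τ₀ (emb hF 1 (by omega : 1 + 2 ≤ 3) y) * X) * (g * X)⁻¹ =
        g * (X * eps' hF τ₁ (emb hF 0 (by omega : 0 + 2 ≤ 3) y)) * (g * X)⁻¹ := by
      rw [← mul_assoc g X, ← h1]
      group
    exact mul_left_cancel (mul_right_cancel h2)
  have keyc : Commute (eps hF τ₀ (emb hF 0 (by omega : 0 + 2 ≤ 3) (t2 hF hω)))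
      (X * eps' hF τ₁ (emb hF 1 (by omega : 1 + 2 ≤ 3) (wey hF)) * X⁻¹) := by
    have h1 := hcomm (t2 hF hω) (wey hF)
    rw [hg, hk1, hkX] at h1
    have h2 : g * X * eps' hF τ₁ (emb hF 1 (by omega : 1 + 2 ≤ 3) (wey hF)) * (g * X)⁻¹ =
        g * (X * eps' hF τ₁ (emb hF 1 (by omega : 1 + 2 ≤ 3) (wey hF)) * X⁻¹) * g⁻¹ := by
      group
    rw [h2] at h1
    exact (SemiconjBy.conj_iff).1 h1
  have kt := congrArg mat (key (t2 hF hω))
  have kw := congrArg mat (key (wey hF))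
  have kc := congrArg mat keyc.eq
  rw [mat_mul, mat_mul, eps_one_t2 hF hω rfl, eps'_zero_t2 hF hω rfl] at kt
  rw [mat_mul, mat_mul, eps_one_wey, eps'_zero_wey] at kw
  rw [mat_mul, mat_mul _ (eps hF τ₀ _), mat_mul, mat_mul, eps_zero_t2 hF hω rfl,
    eps'_one_wey] at kc
  obtain ⟨hττ, d0, x, d3, hXd⟩ := transition hF (hroot τ₀) (hroot τ₁) X kt kw kc
  obtain rfl := tau_ext hF hω hττ
  have hdX := diag_norm hF X _ hXd
  have hd : ∀ i, (![x, x, x, d3] : Fin 4 → F) i * (![x, x, x, d3] : Fin 4 → F) i ^ 2 = 1 := by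
    intro i
    fin_cases i
    · exact hdX 1
    · exact hdX 1
    · exact hdX 1
    · exact hdX 3
  have hx0 : x ≠ 0 := ne_zero_of_norm (hdX 1)
  have hd30 : d3 ≠ 0 := ne_zero_of_norm (hdX 3)
  refine ⟨(MulAut.conj g).toMonoidHom.comp (fr hF τ₀ ![x, x, x, d3] hd), ?_, ?_⟩
  · intro y
    rw [hg]
    change g * _ * g⁻¹ = _
    congr 2
    rw [eps, MonoidHom.comp_apply, fr_emb]
    congr 1
    apply mat_inj
    rw [mat_fr, mat_fr]
    ext i j
    rw [frM_apply, frM_apply]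
    fin_cases i <;> fin_cases j <;> simp [sh] <;> rw [mul_comm x, mul_inv_cancel_right₀ hx0]
  · intro y
    rw [hk1, hkX]
    change g * _ * g⁻¹ = _
    have h2 : g * X * eps' hF τ₀ y * (g * X)⁻¹ = g * (X * eps' hF τ₀ y * X⁻¹) * g⁻¹ := by
      group
    rw [h2]
    congr 2
    rw [conj_eq_fr hF X _ _ hdX hXd, eps', MonoidHom.comp_apply, fr_emb, fr_emb]
    congr 1
    apply mat_inj
    rw [mat_fr, mat_fr, mat_fr]
    ext i j
    rw [frM_apply, frM_apply, frM_apply]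
    fin_cases i <;> fin_cases j <;> simp [sh]

end Cfsg.Agent.P3711
end

-- part: P3711/Four
section
/-!
# Homomorphisms of `SU 4` over the field with four elements from a quotient
-/

set_option autoImplicit false

namespace Cfsg.Agent.P3711

open Matrix Cfsg Cfsg.Agent.Phan Cfsg.Agent.Phan.Cover Cfsg.Agent.H434
open Cfsg.Agent.LieClassical.HermBasic Cfsg.Agent.H433

variable {F : Type*} [Field F] [Fintype F]

theorem isSimpleGroup_four (hF : Fintype.card F = 2 ^ 2) : IsSimpleGroup (SU 4 F 2) := by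
  have h1 : IsSimpleGroup (Cfsg.PSU 4 F 2) :=
    Cfsg.Agent.S0283.result hF 4 (by omega) (by omega)
  have h2 := Cfsg.Agent.S0279.result hF 4 (by omega)
  have h3 : Nat.gcd 4 (2 + 1) = 1 := by decide
  rw [h3] at h2
  have h4 : Subgroup.center (SU 4 F 2) = ⊥ := Subgroup.card_eq_one.1 h2
  have e : SU 4 F 2 ≃* Cfsg.PSU 4 F 2 :=
    MulEquiv.ofBijective (QuotientGroup.mk' (Subgroup.center (SU 4 F 2))) ⟨by
      rw [← MonoidHom.ker_eq_bot_iff, QuotientGroup.ker_mk', h4], QuotientGroup.mk'_surjective _⟩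
  exact (e.isSimpleGroup_congr).2 h1

theorem omega_ne_one (hF : Fintype.card F = 2 ^ 2) {ω : F} (hω : ω * ω + ω + 1 = 0) : ω ≠ 1 := by
  rintro rfl
  have h20 := two_eq_zero hF
  have : (1 : F) * 1 + 1 + 1 = 1 := by linear_combination h20
  rw [this] at hω
  exact one_ne_zero hω

/-- a diagonal element in the center has equal first two entries -/
theorem center_dg (hF : Fintype.card F = 2 ^ 2) {a b c : F} (h : a * b * c = 1)
    (hc : dg hF a b c h ∈ Subgroup.center (SU 3 F 2)) : a = b ∧ b = c := by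
  rw [Subgroup.mem_center_iff] at hc
  have h1 := congrArg mat (hc (cyc hF))
  rw [mat_mul, mat_mul, mat_dg, mat_cyc] at h1
  have h10 := congrFun (congrFun h1 1) 0
  have h21 := congrFun (congrFun h1 2) 1
  simp [Matrix.mul_apply, Fin.sum_univ_three] at h10 h21
  exact ⟨h10, h21⟩

variable (hF : Fintype.card F = 2 ^ 2) {ω : F} (hω : ω * ω + ω + 1 = 0)

theorem zz_eq : zz hF hω * emb hF 1 (by omega : 1 + 2 ≤ 3) (t2 hF hω) =
    emb hF 0 (by omega : 0 + 2 ≤ 3) (t2 hF hω) := by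
  have h3 := om3' hω
  apply mat_inj
  rw [mat_mul, mat_emb_one_three, mat_emb_zero_three, mat_dg, mat_t2]
  ext i j
  fin_cases i <;> fin_cases j <;> simp [Matrix.mul_apply, Fin.sum_univ_three]
  linear_combination h3

theorem not_comm_zero {G : Type*} [Group G] (g : SU 3 F 2 →* G)
    (hk : g.ker ≤ Subgroup.center (SU 3 F 2)) :
    ¬ Commute (g (emb hF 0 (by omega : 0 + 2 ≤ 3) (t2 hF hω)))
      (g (emb hF 1 (by omega : 1 + 2 ≤ 3) (wey hF))) := by
  intro h
  have h3 := om3' hω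
  have h3' : 1 * (ω * ω) * ω = 1 := by linear_combination h3
  have e : emb hF 0 (by omega : 0 + 2 ≤ 3) (t2 hF hω) * emb hF 1 (by omega : 1 + 2 ≤ 3) (wey hF) =
      dg hF 1 (ω * ω) ω h3' * (emb hF 1 (by omega : 1 + 2 ≤ 3) (wey hF) *
        emb hF 0 (by omega : 0 + 2 ≤ 3) (t2 hF hω)) := by
    apply mat_inj
    rw [mat_mul, mat_mul, mat_mul, mat_emb_one_three, mat_emb_zero_three, mat_dg, mat_t2, mat_wey']
    ext i j
    fin_cases i <;> fin_cases j <;> simp [Matrix.mul_apply, Fin.sum_univ_three]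
    linear_combination -h3
  have e2 : g (dg hF 1 (ω * ω) ω h3') = 1 := by
    have h1 := congrArg g e
    rw [map_mul, map_mul, map_mul, h.eq] at h1
    exact right_eq_mul.1 h1
  have h5 := center_dg hF h3' (hk e2)
  have := h5.1.trans h5.2
  exact omega_ne_one hF hω this.symm

theorem not_comm_one {G : Type*} [Group G] (g : SU 3 F 2 →* G)
    (hk : g.ker ≤ Subgroup.center (SU 3 F 2)) :
    ¬ Commute (g (emb hF 1 (by omega : 1 + 2 ≤ 3) (t2 hF hω)))
      (g (emb hF 0 (by omega : 0 + 2 ≤ 3) (wey hF))) := by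
  intro h
  have h3 := om3' hω
  have h3' : (ω * ω) * ω * 1 = 1 := by linear_combination h3
  have e : emb hF 1 (by omega : 1 + 2 ≤ 3) (t2 hF hω) * emb hF 0 (by omega : 0 + 2 ≤ 3) (wey hF) =
      dg hF (ω * ω) ω 1 h3' * (emb hF 0 (by omega : 0 + 2 ≤ 3) (wey hF) *
        emb hF 1 (by omega : 1 + 2 ≤ 3) (t2 hF hω)) := by
    apply mat_inj
    rw [mat_mul, mat_mul, mat_mul, mat_emb_one_three, mat_emb_zero_three, mat_dg, mat_t2, mat_wey']
    ext i j
    fin_cases i <;> fin_cases j <;> simp [Matrix.mul_apply, Fin.sum_univ_three]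
    linear_combination -h3
  have e2 : g (dg hF (ω * ω) ω 1 h3') = 1 := by
    have h1 := congrArg g e
    rw [map_mul, map_mul, map_mul, h.eq] at h1
    exact right_eq_mul.1 h1
  have h5 := center_dg hF h3' (hk e2)
  exact omega_ne_one hF hω h5.2

/-- **From a quotient of `SU 4` to a homomorphism matching the given data.** -/
theorem exists_four {G : Type*} [Group G] (g₀ g₁ : SU 3 F 2 →* G) (K : Subgroup G)
    (hK₀ : ∀ x, g₀ x ∈ K) (hK₁ : ∀ x, g₁ x ∈ K) (gg : SU 4 F 2 →* K)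
    (hgg : Function.Surjective gg)
    (h23 : ∀ y : SU 2 F 2, g₀ (emb hF 1 (by omega : 1 + 2 ≤ 3) y) =
      g₁ (emb hF 0 (by omega : 0 + 2 ≤ 3) y))
    (hcomm : ∀ x y : SU 2 F 2, g₀ (emb hF 0 (by omega : 0 + 2 ≤ 3) x) *
      g₁ (emb hF 1 (by omega : 1 + 2 ≤ 3) y) = g₁ (emb hF 1 (by omega : 1 + 2 ≤ 3) y) *
      g₀ (emb hF 0 (by omega : 0 + 2 ≤ 3) x))
    (hk₀ : g₀.ker ≤ Subgroup.center (SU 3 F 2)) (hk₁ : g₁.ker ≤ Subgroup.center (SU 3 F 2)) :
    ∃ Γ : SU 4 F 2 →* G,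
      (∀ x, Γ (emb hF 0 (by omega : 0 + 3 ≤ 4) x) = g₀ x) ∧
      (∀ x, Γ (emb hF 1 (by omega : 1 + 3 ≤ 4) x) = g₁ x) := by
  obtain ⟨ω, hω⟩ := exists_omega hF
  -- non-triviality
  have hz₀ : g₀ (zz hF hω) ≠ 1 := by
    intro h
    have h1 := congrArg g₀ (zz_eq hF hω)
    rw [map_mul, h, one_mul, h23] at h1
    apply not_comm_zero hF hω g₁ hk₁
    rw [h1]
    exact hcomm _ _
  have hz₁ : g₁ (zz hF hω) ≠ 1 := by
    intro h
    have h1 := congrArg g₁ (zz_eq hF hω)
    rw [map_mul, h, one_mul, ← h23] at h1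
    apply not_comm_one hF hω g₀ hk₀
    rw [← h1]
    exact (hcomm _ _).symm
  -- `gg` is injective
  have hsimple := isSimpleGroup_four hF
  have hinj : Function.Injective gg := by
    rw [← MonoidHom.ker_eq_bot_iff]
    rcases gg.normal_ker.eq_bot_or_eq_top with h | h
    · exact h
    · exfalso
      obtain ⟨y, hy⟩ := hgg ⟨g₀ (zz hF hω), hK₀ _⟩
      have hy' : y ∈ gg.ker := by rw [h]; trivial
      rw [MonoidHom.mem_ker] at hy'
      rw [hy'] at hy
      exact hz₀ (congrArg Subtype.val hy).symm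
  set e : SU 4 F 2 ≃* K := MulEquiv.ofBijective gg ⟨hinj, hgg⟩ with he
  set ρ₀ : SU 3 F 2 →* SU 4 F 2 := e.symm.toMonoidHom.comp (g₀.codRestrict K hK₀) with hρ₀
  set ρ₁ : SU 3 F 2 →* SU 4 F 2 := e.symm.toMonoidHom.comp (g₁.codRestrict K hK₁) with hρ₁
  have e₀ : ∀ x, e (ρ₀ x) = ⟨g₀ x, hK₀ x⟩ := fun x => e.apply_symm_apply _
  have e₁ : ∀ x, e (ρ₁ x) = ⟨g₁ x, hK₁ x⟩ := fun x => e.apply_symm_apply _
  obtain ⟨Γ, hΓ₀, hΓ₁⟩ := exists_hom_of_pair hF hω ρ₀ ρ₁ (by
      intro h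
      have := e₀ (zz hF hω)
      rw [h, map_one] at this
      exact hz₀ (congrArg Subtype.val this).symm) (by
      intro h
      have := e₁ (zz hF hω)
      rw [h, map_one] at this
      exact hz₁ (congrArg Subtype.val this).symm) (by
      intro y
      apply e.injective
      rw [e₀, e₁]
      exact Subtype.ext (h23 y)) (by
      intro x y
      apply e.injective
      rw [map_mul, map_mul, e₀, e₁]
      exact Subtype.ext (hcomm x y))
  refine ⟨K.subtype.comp (e.toMonoidHom.comp Γ), ?_, ?_⟩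
  · intro x
    change (e (Γ _) : G) = _
    rw [hΓ₀, e₀]
  · intro x
    change (e (Γ _) : G) = _
    rw [hΓ₁, e₁]

end Cfsg.Agent.P3711
end

-- part: S3711
section
set_option autoImplicit false
open Cfsg

namespace Cfsg.Agent.S3711

open Cfsg.Agent.Phan Cfsg.Agent.H434 Cfsg.Agent.P3711

/-- Recognition of unitary groups over the field with 4 elements from a weak Phan system. Let F be a field with 4 elements and n ≥ 4. Let G be a group with subgroups U_0, …, U_{n−1}, each isomorphic to SU(2, 4), and, for consecutive indices, subgroups V_{i,i+1} in which U_i and U_{i+1} form a standard pair (via an isomorphism from SU(3, 4) or PSU(3, 4) carrying the block-diagonal subgroups, or their images, onto U_i and U_{i+1}); suppose U_i and U_j commute elementwise whenever the indices differ by at least 2, that G is generated by the U_i and the V_{i,i+1}, that for each i the subgroup generated by V_{i,i+1} and V_{i+1,i+2} is a homomorphic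 image of SU(4, 4), that U_i and V_{j,j+1} commute elementwise whenever i ≤ j − 2 or i ≥ j + 3, and that V_{i,i+1} and V_{k,k+1} commute elementwise whenever k ≥ i + 3. Then G is a homomorphic image of SU(n+1, 4). (G is not assumed finite.) -/
theorem result {G : Type*} [Group G] (n : ℕ) (hn : 4 ≤ n)
    (F : Type*) [Field F] [Fintype F] (hF : Fintype.card F = 4)
    (U : Fin n → Subgroup G) (e : ∀ i, ↥(Cfsg.SU 2 F 2) ≃* ↥(U i))
    (V : Fin n → Fin n → Subgroup G)
    (h1 : ∀ i j : Fin n, (i : ℕ) + 2 ≤ j → ∀ x ∈ U i, ∀ y ∈ U j, x * y = y * x)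
    (h2 : ∀ i j : Fin n, (i : ℕ) + 1 = j → Cfsg.IsStandardUnitaryPair (V i j) (U i) (U j) F 2)
    (hgen : (⨆ i, U i) ⊔ (⨆ (i : Fin n) (j : Fin n) (_ : (i : ℕ) + 1 = j), V i j) = ⊤)
    (h4 : ∀ i j k : Fin n, (i : ℕ) + 1 = j → (j : ℕ) + 1 = k →
      ∃ g : ↥(Cfsg.SU 4 F 2) →* ↥(V i j ⊔ V j k), Function.Surjective g)
    (h5 : ∀ i j k : Fin n, (j : ℕ) + 1 = k → ((i : ℕ) + 2 ≤ j ∨ (k : ℕ) + 2 ≤ i) →
      ∀ x ∈ U i, ∀ y ∈ V j k, x * y = y * x)
    (h6 : ∀ i j k l : Fin n, (i : ℕ) + 1 = j → (k : ℕ) + 1 = l → (j : ℕ) + 2 ≤ k →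
      ∀ x ∈ V i j, ∀ y ∈ V k l, x * y = y * x) :
    ∃ f : ↥(Cfsg.SU (n + 1) F 2) →* G, Function.Surjective f := by
  classical
  have hF4 : Fintype.card F = 2 ^ 2 := by rw [hF]; norm_num
  obtain ⟨m, rfl⟩ : ∃ m, n = m + 4 := ⟨n - 4, by omega⟩
  obtain ⟨φ, g, hs, hg⟩ := exists_weak_system hF4 (m + 4) U V h1 h2
  -- the ranges
  have hgV : ∀ k (hk : k + 1 < m + 4) x, g k x ∈ V ⟨k, by omega⟩ ⟨k + 1, hk⟩ := by
    intro k hk x
    rw [← (hg k hk).1]
    exact ⟨_, rfl⟩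
  have hφU : ∀ k (hk : k < m + 4) a, φ k a ∈ U ⟨k, hk⟩ := by
    intro k hk a
    by_cases h : k + 1 < m + 4
    · rw [← (hg k h).2.2.1, ← hs.left k (by omega)]
      exact ⟨_, rfl⟩
    · obtain ⟨j, rfl⟩ : ∃ j, k = j + 1 := ⟨k - 1, by omega⟩
      rw [← (hg j (by omega)).2.2.2, ← hs.right j (by omega)]
      exact ⟨_, rfl⟩
  have hex : ∀ k, ∃ Γ : Cfsg.SU 4 F 2 →* G, k + 4 ≤ m + 5 →
      (∀ x, Γ (emb hF4 0 (by omega : 0 + 3 ≤ 4) x) = g k x) ∧
      (∀ x, Γ (emb hF4 1 (by omega : 1 + 3 ≤ 4) x) = g (k + 1) x) := by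
    intro k
    by_cases hk : k + 4 ≤ m + 5
    · obtain ⟨gg, hgg⟩ := h4 ⟨k, by omega⟩ ⟨k + 1, by omega⟩ ⟨k + 2, by omega⟩ rfl rfl
      obtain ⟨Γ, h⟩ := exists_four hF4 (g k) (g (k + 1)) _
        (fun x => Subgroup.mem_sup_left (hgV k (by omega) x))
        (fun x => Subgroup.mem_sup_right (hgV (k + 1) (by omega) x)) gg hgg
        (fun y => by rw [hs.right k (by omega), hs.left (k + 1) (by omega)])
        (fun x y => by
          rw [hs.left k (by omega), hs.right (k + 1) (by omega)]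
          exact hs.comm k (k + 2) (by omega) (by omega) x y)
        (hg k (by omega)).2.1 (hg (k + 1) (by omega)).2.1
      exact ⟨Γ, fun _ => h⟩
    · exact ⟨1, fun h => absurd h hk⟩
  choose Γ hΓ using hex
  have hsys : Sys hF4 ((m + 1) + 4) φ g Γ := by
    refine ⟨fun k hk a => hs.left k (by omega) a, fun k hk a => hs.right k (by omega) a,
      fun k hk x => (hΓ k (by omega)).1 x, fun k hk x => (hΓ k (by omega)).2 x, ?_, ?_⟩
    · intro i j hij hj a x
      exact h5 ⟨i, by omega⟩ ⟨j, by omega⟩ ⟨j + 1, by omega⟩ rfl (Or.inl hij) _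
        (hφU i (by omega) a) _ (hgV j (by omega) x)
    · intro i j hij hj x y
      refine h6 ⟨i, by omega⟩ ⟨i + 1, by omega⟩ ⟨j, by omega⟩ ⟨j + 1, by omega⟩ rfl rfl ?_ _
        (hgV i (by omega) x) _ (hgV j (by omega) y)
      change i + 1 + 2 ≤ j
      omega
  obtain ⟨Φ, hΦ'⟩ := Sys.exists_hom hF4 (m + 1) hsys
  have hΦ : ∀ k (hk : k + 3 ≤ m + 5) (x : Cfsg.SU 3 F 2), Φ (emb hF4 k hk x) = g k x := by
    intro k hk x
    by_cases hk' : k + 4 ≤ m + 5
    · have e1 : emb hF4 k hk x = emb hF4 k hk' (emb hF4 0 (by omega : 0 + 3 ≤ 4) x) := by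
        rw [emb_emb]
        exact emb_congr hF4 _ _ (by omega) x
      rw [e1]
      exact (hΦ' k hk' _).trans ((hΓ k hk').1 x)
    · obtain ⟨i, rfl⟩ : ∃ i, k = i + 1 := ⟨k - 1, by omega⟩
      have e1 : emb hF4 (i + 1) hk x =
          emb hF4 i (by omega : i + 4 ≤ m + 5) (emb hF4 1 (by omega : 1 + 3 ≤ 4) x) := by
        rw [emb_emb]
      rw [e1]
      exact (hΦ' i (by omega) _).trans ((hΓ i (by omega)).2 x)
  refine ⟨Φ, ?_⟩
  rw [← MonoidHom.range_eq_top, eq_top_iff, ← hgen, sup_le_iff]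
  constructor
  · rw [iSup_le_iff]
    rintro ⟨i, hi⟩
    by_cases h : i + 1 < m + 4
    · rw [← (hg i h).2.2.1]
      rintro _ ⟨x, rfl⟩
      exact ⟨_, hΦ i (by omega) _⟩
    · obtain ⟨j, rfl⟩ : ∃ j, i = j + 1 := ⟨i - 1, by omega⟩
      rw [← (hg j (by omega)).2.2.2]
      rintro _ ⟨x, rfl⟩
      exact ⟨_, hΦ j (by omega) _⟩
  · rw [iSup_le_iff]
    rintro ⟨i, hi⟩
    rw [iSup_le_iff]
    rintro ⟨j, hj⟩
    rw [iSup_le_iff]
    intro hij
    change i + 1 = j at hij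
    subst hij
    rw [← (hg i hj).1]
    rintro _ ⟨x, rfl⟩
    exact ⟨_, hΦ i (by omega) x⟩

end Cfsg.Agent.S3711
end
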