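import Cfsg.Statements.S3726
import Cfsg.Agent.H438.ConstFixFour
import Cfsg.Agent.S0205
import Cfsg.Agent.S0222
import Cfsg.Agent.S0340
import Cfsg.Agent.S1220
import Cfsg.Agent.S1230
import Cfsg.Agent.H331.SCExc
import Cfsg.Agent.Prune
set_option linter.all false
open scoped Cfsg.Agent.FastGrp
-- import your own Cfsg.Agent.* helpers here

set_option autoImplicit false
open Cfsg

namespace Cfsg.Agent.S3726

open Subgroup MulAction Cfsg.Agent.H438.ConstFix

section

variable {G Ω : Type*} [Group G] [Finite G] [Finite Ω] [MulAction G Ω] [FaithfulSMul G Ω] {i : ℕ} {t : G}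

/-- The conclusion of the theorem. -/
def Concl (G Ω : Type*) [Group G] [MulAction G Ω] : Prop :=
  (∃ (F : Type) (_ : Field F) (_ : Fintype F), Nonempty (G ≃* Matrix.ProjectiveSpecialLinearGroup (Fin 2) F)) ∨
    Cfsg.Lie.IsoSuzuki G ∨ HasReg G Ω

/-- A normal subgroup of odd order is trivial (or there is a regular normal subgroup). -/
theorem even_of_normal (h : Hyp Ω i t) (hR : ¬ HasReg G Ω) {N : Subgroup G} (hN : N.Normal) (hN1 : N ≠ ⊥) :
    2 ∣ Nat.card N := by
  by_contra h2
  apply hR
  apply reg_of_solvable h.two hN hN1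
  apply Cfsg.Agent.S0205.result
  rw [← Nat.not_even_iff_odd, even_iff_two_dvd]
  exact h2

theorem nontriv (h : Hyp Ω i t) : Nontrivial G := ⟨⟨t, 1, h.ne⟩⟩

theorem noncomm (h : Hyp Ω i t) (hR : ¬ HasReg G Ω) : ∃ a b : G, a * b ≠ b * a := by
  by_contra hc
  push Not at hc
  have := nontriv h
  exact hR (reg_of_comm h.two (N := ⊤) inferInstance top_ne_bot fun x _ y _ => hc x y)

theorem three_not_dvd' (m : ℕ) :
    ¬ 3 ∣ (2 ^ (2 * m + 1)) ^ 2 * ((2 ^ (2 * m + 1)) ^ 2 + 1) * (2 ^ (2 * m + 1) - 1) := by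
  have h1 : 2 ^ (2 * m + 1) = 2 * 4 ^ m := by
    rw [pow_succ, pow_mul]; norm_num; ring
  have h2 : 4 ^ m % 3 = 1 := by
    rw [Nat.pow_mod]; norm_num
  rw [h1]
  obtain ⟨k, hk⟩ : ∃ k, 4 ^ m = 3 * k + 1 := ⟨4 ^ m / 3, by omega⟩
  rw [hk]
  have h3 : 2 * (3 * k + 1) - 1 = 6 * k + 1 := by omega
  rw [h3]
  intro h
  rcases (Nat.Prime.dvd_mul Nat.prime_three).1 h with h | h
  · rcases (Nat.Prime.dvd_mul Nat.prime_three).1 h with h | h
    · have := Nat.prime_three.dvd_of_dvd_pow h
      omega
    · have h5 : (2 * (3 * k + 1)) ^ 2 + 1 = 3 * (12 * k ^ 2 + 8 * k + 1) + 2 := by ring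
      omega
  · omega

/-- Suzuki groups by order are Suzuki groups. -/
theorem iso_of_isSuzuki (hna : ∃ a b : G, a * b ≠ b * a) (hS : Cfsg.IsSuzuki G) : Cfsg.Lie.IsoSuzuki G := by
  obtain ⟨hs, m, -, hc⟩ := hS
  apply Cfsg.Agent.ThreePrime.Main.isoSuzuki hna
  rw [hc]
  exact three_not_dvd' m

/-- **The case of trivial three-point stabilisers.** -/
theorem zassenhaus (h : Hyp Ω i t) (hR : ¬ HasReg G Ω)
    (h3 : ∀ g : G, ∀ a b c : Ω, a ≠ b → b ≠ c → a ≠ c → g • a = a → g • b = b → g • c = c → g = 1)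
    {a b : Ω} (hab : a ≠ b) : Concl G Ω := by
  by_cases hst : st2 G a b = ⊥
  · refine (hR (reg_of_sharp h.two hab ?_)).elim
    intro g h1 h2
    have : g ∈ st2 G a b := ⟨h1, h2⟩
    rw [hst, Subgroup.mem_bot] at this
    exact this
  have htop : ∀ N : Subgroup G, N.Normal → N ≠ ⊥ → N = ⊤ := by
    intro N hN hN1
    have h2 := even_of_normal h hR hN hN1
    exact eq_top_of_st2_le h.two h3 hN hN1 hab (fun c hc => h.st2_le hN h2 hc) hst
  have hnt := nontriv h
  have hsimp : IsSimpleGroup G := ⟨fun N hN => by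
    by_cases h1 : N = ⊥
    · exact Or.inl h1
    · exact Or.inr (htop N hN h1)⟩
  have hna := noncomm h hR
  have hZ : Cfsg.IsZassenhausGroup G Ω := by
    refine ⟨inferInstance, ?_, h3, ?_, ?_⟩
    · rw [MulAction.is_two_pretransitive_iff]
      intro a b c d hab hcd
      exact h.two a b c d hab hcd
    · obtain ⟨g, hg⟩ := Subgroup.ne_bot_iff_exists_ne_one.1 hst
      exact ⟨g, fun h' => hg (Subtype.ext h'), a, b, hab, g.2.1, g.2.2⟩
    · intro N hN htr
      by_contra hc
      push Not at hc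
      apply hR
      refine ⟨N, hN, ?_, ?_⟩
      · intro x y
        obtain ⟨r, hr⟩ := htr.exists_smul_eq x y
        exact ⟨r, r.2, hr⟩
      · intro x r hr hrx
        have h5 : (⟨r, hr⟩ : N) ∈ MulAction.stabilizer N x := hrx
        rw [hc x, Subgroup.mem_bot] at h5
        exact congrArg Subtype.val h5
  rcases Cfsg.Agent.S0340.result hZ with h4 | h4
  · exact Or.inl h4
  · exact Or.inr (Or.inl (iso_of_isSuzuki hna h4))

/-- **The case `i = 1`.** -/
theorem one (h : Hyp Ω 1 t) (hR : ¬ HasReg G Ω) {a b : Ω} (hab : a ≠ b) : Concl G Ω := by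
  classical
  by_cases hst : st2 G a b = ⊥
  · refine (hR (reg_of_sharp h.two hab ?_)).elim
    intro g h1 h2
    have : g ∈ st2 G a b := ⟨h1, h2⟩
    rw [hst, Subgroup.mem_bot] at this
    exact this
  have hnt := nontriv h
  have hne : ∀ x : Ω, ∃ y, x ≠ y := by
    intro x
    by_cases hx : x = a
    · exact ⟨b, by rw [hx]; exact hab⟩
    · exact ⟨a, hx⟩
  have htop : ∀ N : Subgroup G, N.Normal → N ≠ ⊥ → N = ⊤ := by
    intro N hN hN1
    have h2 := even_of_normal h hR hN hN1
    have htr : ∀ x y : Ω, ∃ g : N, g • x = y := by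
      intro x y
      obtain ⟨g, hg, hgx⟩ := trans_of_normal h.two hN hN1 x y
      exact ⟨⟨g, hg⟩, hgx⟩
    have hSE : Cfsg.IsStronglyEmbedded (stabilizer N a) := by
      refine se_of_one htr hab ?_ h2
      intro u hu1 hu2
      have hu1' : (u : G) ≠ 1 := fun h' => hu1 (Subtype.ext h')
      have hu2' : (u : G) * u = 1 := congrArg Subtype.val hu2
      exact h.fix_inv hu1' hu2'
    rcases Cfsg.Agent.S1220.result _ hSE with h4 | ⟨-, h4⟩
    · -- `N` is doubly transitive
      have hA : stabilizer G a ≤ N := by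
        intro g hg
        have hga : g • a = a := hg
        have hgb : a ≠ g • b := by
          intro h'
          apply hab
          rw [← hga] at h'
          exact MulAction.injective g h'
        obtain ⟨g₁, h5⟩ := htr a b
        obtain ⟨g₂, h6⟩ := htr a (g • b)
        have h7 : g₁ ∉ stabilizer N a := by
          rw [mem_stabilizer_iff, h5]
          exact hab.symm
        have h8 : g₂ ∉ stabilizer N a := by
          rw [mem_stabilizer_iff, h6]
          exact hgb.symm
        obtain ⟨u, hu, h9⟩ := h4 g₁ g₂ h7 h8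
        have hu1 : (u : G) • a = a := hu
        have hu2 : (u : G) • b = g • b := by
          have h10 : (g₂⁻¹ * (u * g₁)) • a = a := h9
          rw [mul_smul, mul_smul, h5, inv_smul_eq_iff, h6] at h10
          exact h10
        have h11 : (u : G)⁻¹ * g ∈ st2 G a b := by
          constructor
          · show ((u : G)⁻¹ * g) • a = a
            rw [mul_smul, hga, inv_smul_eq_iff, hu1]
          · show ((u : G)⁻¹ * g) • b = b
            rw [mul_smul, inv_smul_eq_iff, hu2]
        have h12 := mul_mem u.2 (h.st2_le hN h2 hab h11)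
        rwa [mul_inv_cancel_left] at h12
      rw [eq_top_iff]
      intro g _
      obtain ⟨r, hr, hra⟩ := trans_of_normal h.two hN hN1 a (g • a)
      have h5 : r⁻¹ * g ∈ stabilizer G a := by
        rw [mem_stabilizer_iff, mul_smul, inv_smul_eq_iff, hra]
      have h6 := mul_mem hr (hA h5)
      rwa [mul_inv_cancel_left] at h6
    · exfalso
      have hchar := Cfsg.Agent.Lib.Cores.pPrimeCore_characteristic (G := N) 2
      have hcop := Cfsg.Agent.Lib.Cores.pPrimeCore_coprime (G := N) 2
      have hbot : Cfsg.oddCore N = ⊥ := by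
        by_contra hb
        have hn : ((Cfsg.oddCore N).map N.subtype).Normal := by
          have : (Cfsg.oddCore N).Characteristic := hchar
          infer_instance
        have hb' : (Cfsg.oddCore N).map N.subtype ≠ ⊥ := by
          intro h'
          apply hb
          rw [Subgroup.map_eq_bot_iff_of_injective _ N.subtype_injective] at h'
          exact h'
        have h5 := even_of_normal h hR hn hb'
        rw [Subgroup.card_map_of_injective N.subtype_injective] at h5
        have h6 : (Nat.card (Cfsg.oddCore N)).Coprime 2 := hcop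
        have h7 := Nat.Coprime.eq_one_of_dvd (Nat.Coprime.symm h6) h5
        omega
      rw [hbot, bot_sup_eq] at h4
      exact hSE.1 h4
  have hsimp : IsSimpleGroup G := ⟨fun N hN => by
    by_cases h1 : N = ⊥
    · exact Or.inl h1
    · exact Or.inr (htop N hN h1)⟩
  have hna := noncomm h hR
  have htr : ∀ x y : Ω, ∃ g : G, g • x = y := by
    intro x y
    by_cases hxy : x = y
    · exact ⟨1, by rw [one_smul, hxy]⟩
    · obtain ⟨g, hg, -⟩ := h.two x y y x hxy (fun h' => hxy h'.symm)
      exact ⟨g, hg⟩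
  have h2 : 2 ∣ Nat.card G := by
    have h5 : t ^ 2 = 1 := by rw [pow_two, h.sq]
    have h6 := orderOf_eq_prime h5 h.ne
    rw [← h6]
    exact orderOf_dvd_natCard t
  have hSE : Cfsg.IsStronglyEmbedded (stabilizer G a) :=
    se_of_one htr hab (fun u hu1 hu2 => h.fix_inv hu1 hu2) h2
  rcases Cfsg.Agent.S0222.result hna _ hSE with ⟨F, i1, i2, -, -, e⟩ | h4 | ⟨F, i1, i2, q, hF, hq, h4, ⟨e⟩⟩
  · exact Or.inl ⟨F, i1, i2, e⟩
  · exact Or.inr (Or.inl (iso_of_isSuzuki hna h4))
  · exact (h.not_psu hF hq h4 e).elim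

/-- **The case `i ≥ 3`.** -/
theorem large (h : Hyp Ω i t) (hi : 3 ≤ i) (hR : ¬ HasReg G Ω) : Concl G Ω := by
  classical
  have : Fact (Nat.Prime 2) := ⟨Nat.prime_two⟩
  have hel := h.elem hi
  have hcomm : ∀ x ∈ centralizer ({t} : Set G), ∀ y ∈ centralizer ({t} : Set G), x * y = y * x := by
    intro x hx y hy
    have h1 := hel _ (mul_mem hx hy)
    have h2 : x⁻¹ = x := inv_eq_of_mul_eq_one_left (hel x hx)
    have h3 : y⁻¹ = y := inv_eq_of_mul_eq_one_left (hel y hy)
    have h4 : (x * y)⁻¹ = x * y := inv_eq_of_mul_eq_one_left h1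
    rw [mul_inv_rev, h2, h3] at h4
    exact h4.symm
  -- the fixed points
  have hfix := h.fix t (Commute.refl t) h.ne
  obtain ⟨⟨a, ha⟩, ⟨b, hb⟩, hab⟩ : ∃ x y : {x : Ω // t • x = x}, x ≠ y := by
    have : 1 < Nat.card {x : Ω // t • x = x} := by omega
    have := Finite.one_lt_card_iff_nontrivial.1 this
    exact exists_pair_ne _
  have hab : a ≠ b := fun h' => hab (Subtype.ext h')
  have hst : ∀ g ∈ st2 G a b, g * g = 1 := by
    intro g hg
    exact hel g ((h.stab_eq (by omega) hab ha hb g).1 hg).1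
  have hstp : IsPGroup 2 (st2 G a b) := by
    intro g
    refine ⟨1, ?_⟩
    apply Subtype.ext
    show (g : G) ^ 2 ^ 1 = 1
    rw [pow_one, pow_two]
    exact hst g g.2
  obtain ⟨T, hT⟩ := hstp.exists_le_sylow
  have hcard := h.card_sq (by omega) hab
  have hTne : (T : Subgroup G) ≠ ⊥ := by
    intro h'
    rw [h', le_bot_iff] at hT
    have : Subsingleton {u : G // u ∈ st2 G a b ∧ u * u = 1} := by
      refine ⟨fun u v => Subtype.ext ?_⟩
      have h1 : (u : G) ∈ (⊥ : Subgroup G) := hT ▸ u.2.1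
      have h2 : (v : G) ∈ (⊥ : Subgroup G) := hT ▸ v.2.1
      rw [Subgroup.mem_bot] at h1 h2
      rw [h1, h2]
    have := Finite.card_le_one_iff_subsingleton.2 this
    omega
  have hnn : ¬ (T : Subgroup G).Normal := by
    intro hn
    apply hR
    apply reg_of_solvable h.two hn hTne
    have : Group.IsNilpotent (T : Subgroup G) := T.2.isNilpotent
    infer_instance
  have hnc : ¬ IsCyclic (T : Subgroup G) := by
    intro hc
    have : Fintype (T : Subgroup G) := Fintype.ofFinite _
    have h1 := IsCyclic.card_pow_eq_one_le (α := (T : Subgroup G)) (n := 2) (by norm_num)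
    have h2 : Nat.card {u : G // u ∈ st2 G a b ∧ u * u = 1} ≤
        (Finset.univ.filter fun u : (T : Subgroup G) => u ^ 2 = 1).card := by
      rw [← Fintype.card_subtype, ← Nat.card_eq_fintype_card]
      refine Nat.card_le_card_of_injective (fun u => ⟨⟨u.1, hT u.2.1⟩, ?_⟩) ?_
      · apply Subtype.ext
        show (u : G) ^ 2 = 1
        rw [pow_two]
        exact u.2.2
      · intro u v huv
        have := congrArg (fun z : {u : (T : Subgroup G) // u ^ 2 = 1} => ((z : (T : Subgroup G)) : G)) huv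
        exact Subtype.ext this
    omega
  have hC : ∀ u : G, orderOf u = 2 → IsMulCommutative (Subgroup.centralizer ({u} : Set G)) ∧
      ∀ c ∈ Subgroup.centralizer ({u} : Set G), c ^ 2 = 1 := by
    intro u hu
    have hu1 : u ≠ 1 := by
      rintro rfl
      rw [orderOf_one] at hu
      norm_num at hu
    have hu2 : u * u = 1 := by rw [← pow_two, ← hu]; exact pow_orderOf_eq_one u
    have hu' := h.of_inv hu1 hu2
    have hel' := hu'.elem hi
    refine ⟨?_, fun c hc => by rw [pow_two]; exact hel' c hc⟩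
    refine ⟨⟨?_⟩⟩
    rintro ⟨x, hx⟩ ⟨y, hy⟩
    apply Subtype.ext
    show x * y = y * x
    have h1 := hel' _ (mul_mem hx hy)
    have h2 : x⁻¹ = x := inv_eq_of_mul_eq_one_left (hel' x hx)
    have h3 : y⁻¹ = y := inv_eq_of_mul_eq_one_left (hel' y hy)
    have h4 : (x * y)⁻¹ = x * y := inv_eq_of_mul_eq_one_left h1
    rw [mul_inv_rev, h2, h3] at h4
    exact h4.symm
  obtain ⟨F, i1, i2, -, e⟩ := Cfsg.Agent.S1230.result T hnc hnn hC
  exact Or.inl ⟨F, i1, i2, e⟩

/-- **The theorem.** -/
theorem main (h : Hyp Ω i t) : Concl G Ω := by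
  by_cases hR : HasReg G Ω
  · exact Or.inr (Or.inr hR)
  obtain ⟨a, ha⟩ : ∃ a : Ω, t • a ≠ a := by
    by_contra hc
    push Not at hc
    apply h.ne
    apply FaithfulSMul.eq_of_smul_eq_smul (α := Ω)
    intro x
    rw [hc x, one_smul]
  rcases Nat.lt_or_ge i 3 with hi | hi
  · interval_cases i
    · exact zassenhaus h hR (fun g a b c hab hbc hac h1 h2 h3 => h.trivial3_zero hab hbc hac h1 h2 h3) ha
    · exact one h hR ha
    · exact zassenhaus h hR (fun g a b c hab hbc hac h1 h2 h3 => h.trivial3_two hab hbc hac h1 h2 h3) ha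
  · exact large h hi hR

end

/-- Let a finite group G act faithfully and 2-transitively on a finite set Ω, and suppose there is an involution t of G, fixing exactly i points, such that every non-identity element of the centralizer of t also fixes exactly i points. Then G is isomorphic to PSL₂(q) for some finite field of order q, or to a Suzuki group Sz(q) (q = 2^(2m+1) ≥ 8), or G has a normal subgroup acting regularly on Ω. -/
theorem result {G Ω : Type*} [Group G] [Finite G] [Fintype Ω] [MulAction G Ω] [FaithfulSMul G Ω]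
    (h2 : MulAction.IsMultiplyPretransitive G Ω 2) (i : ℕ) (t : G) (ht : orderOf t = 2)
    (hti : Nat.card {x : Ω // t • x = x} = i)
    (hC : ∀ g : G, Commute g t → g ≠ 1 → Nat.card {x : Ω // g • x = x} = i) :
    (∃ (F : Type) (_ : Field F) (_ : Fintype F), Nonempty (G ≃* Matrix.ProjectiveSpecialLinearGroup (Fin 2) F)) ∨
    Cfsg.Lie.IsoSuzuki G ∨
    (∃ R : Subgroup G, R.Normal ∧ (∀ x y : Ω, ∃ r ∈ R, r • x = y) ∧ ∀ x : Ω, ∀ r ∈ R, r • x = x → r = 1) := by
  have ht1 : t ≠ 1 := by
    rintro rfl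
    rw [orderOf_one] at ht
    norm_num at ht
  have ht2 : t * t = 1 := by rw [← pow_two, ← ht]; exact pow_orderOf_eq_one t
  have h : Hyp Ω i t := by
    refine ⟨?_, ht1, ht2, hC⟩
    intro a b c d hab hcd
    exact MulAction.is_two_pretransitive_iff.1 h2 hab hcd
  exact main h

end Cfsg.Agent.S3726
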