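import Mathlib
import Cfsg.Prelude.Def_CaseTheorems
import Cfsg.Agent.H444.ZNRankTwo
import Cfsg.Agent.Classification.FlavellB
import Cfsg.Agent.SignalizersComponents.CoprimeGen
import Cfsg.Agent.S0107
import Cfsg.Agent.Transfer.Residual
import Cfsg.Agent.TwoFusion.OneClass
import Cfsg.Agent.SignalizersComponents.SolvableFunctor
import Cfsg.Statements.S3759
import Cfsg.Agent.S1296
import Cfsg.Agent.Lib.ComponentSolvable
import Cfsg.Agent.FastGrp
import Cfsg.Agent.Prune
set_option linter.all false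
prune_inst 0x3fffffffffffffffffffffffffffbeffbdffffffff
open scoped Cfsg.Agent.FastGrp

-- part: H444/ZCChar
section
/-!
# ZC-groups: characteristic 2 type of `H Z`
-/

set_option autoImplicit false
set_option linter.unusedSectionVars false

namespace Cfsg.Agent.H444.ZNSit

open Subgroup Cfsg Cfsg.Agent.StdEven.Syl Cfsg.Agent.TwoFusion.RankTwoBasic
open Cfsg.Agent.H444.RankTwoMain.Hyp (fourGroup mem_fourGroup card_fourGroup)

/-- A group in which the centralizers of involutions are solvable with trivial odd core is of characteristic 2 type. -/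
theorem char_two_of_cent {K : Type*} [Group K] [Finite K] (heven : Even (Nat.card K))
    (hs : ∀ t : K, t * t = 1 → t ≠ 1 → Group.IsSolvable (centralizer ({t} : Set K)))
    (ho : ∀ t : K, t * t = 1 → t ≠ 1 → pPrimeCore 2 (centralizer ({t} : Set K)) = ⊥) : IsCharacteristicTwoType K := by
  have : Fact (Nat.Prime 2) := ⟨Nat.prime_two⟩
  refine ⟨heven, fun T hT hT1 => ?_⟩
  -- an involution of `Z(T)`
  obtain ⟨t, htT, htc, ht2, ht1⟩ : ∃ t : K, t ∈ T ∧ (∀ x ∈ T, x * t = t * x) ∧ t * t = 1 ∧ t ≠ 1 := by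
    obtain ⟨t, -, htc, hto⟩ := Cfsg.Agent.Involutions.NormalFour.exists_mem_center_of_normal (p := 2) hT ⊤ (by
      intro hb
      apply hT1
      rw [eq_bot_iff]
      intro x hx
      have h1 : (⟨x, hx⟩ : T) ∈ (⊤ : Subgroup T) := mem_top _
      rw [hb, mem_bot] at h1
      exact mem_bot.2 (congrArg Subtype.val h1))
    rw [Subgroup.mem_center_iff] at htc
    refine ⟨t, t.2, fun x hx => congrArg Subtype.val (htc ⟨x, hx⟩), ?_, ?_⟩
    · have h1 : t ^ 2 = 1 := by rw [← hto, pow_orderOf_eq_one]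
      rw [pow_two] at h1
      exact congrArg Subtype.val h1
    · intro h1
      have h2 : t = 1 := Subtype.ext h1
      rw [h2, orderOf_one] at hto
      norm_num at hto
  set N : Subgroup K := normalizer (T : Set K) with hN
  set L : Subgroup K := centralizer ({t} : Set K) with hL
  have hLs : Group.IsSolvable L := hs t ht2 ht1
  have hTL : T ≤ L := fun x hx => mem_centralizer_singleton_iff.2 (htc x hx)
  have hTN : T ≤ N := T.le_normalizer
  have hDn : (pPrimeCore 2 N).Normal := Cfsg.Agent.Lib.Cores.pPrimeCore_normal 2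
  have hTn : (T.subgroupOf N).Normal := ⟨fun x hx g => by
    rw [mem_subgroupOf] at hx ⊢
    exact conj_mem_of_mem_normalizer g.2 hx⟩
  -- `O(N) = 1`
  have hON : pPrimeCore 2 N = ⊥ := by
    have hodd : Odd (Nat.card (oc N)) := oc_odd N
    have hcomm : ∀ d ∈ oc N, ∀ x ∈ T, d * x = x * d := by
      intro d hd x hx
      have h1 : d * x * d⁻¹ * x⁻¹ ∈ T := mul_mem (conj_mem_of_mem_normalizer (oc_le N hd) hx) (inv_mem hx)
      have h2 : d * x * d⁻¹ * x⁻¹ ∈ oc N := by
        have h3 : d * x * d⁻¹ * x⁻¹ = d * (x * d⁻¹ * x⁻¹) := by group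
        rw [h3]
        exact mul_mem hd (conj_mem_oc' (hTN hx) (inv_mem hd))
      have h4 := eq_one_of_mem hT hodd h1 h2
      rwa [mul_inv_eq_one, mul_inv_eq_iff_eq_mul] at h4
    have h1 : oc N ≤ Cfsg.Agent.Classification.FlavellB.core 2 L :=
      Cfsg.Agent.Classification.FlavellB.le_core_of_centralizer hLs hT hTL
        (fun d hd => mem_centralizer_singleton_iff.2 (hcomm d hd t htT))
        (fun d hd => mem_centralizer_iff.2 fun x hx => (hcomm d hd x hx).symm)
        (fun g hg => mem_normalizer_of_conj_le fun d hd =>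
          conj_mem_oc' (Subgroup.centralizer_le_normalizer _ (mem_inf.1 hg).2) hd)
        (Nat.coprime_two_right.2 hodd)
    rw [Cfsg.Agent.Classification.FlavellB.core_def, ho t ht2 ht1, Subgroup.map_bot] at h1
    have h2 : (pPrimeCore 2 N).map N.subtype = ⊥ := le_bot_iff.1 h1
    rw [Subgroup.map_eq_bot_iff, Subgroup.ker_subtype] at h2
    exact le_bot_iff.1 h2
  set C : Subgroup N := centralizer (pCore 2 N : Set N) with hC
  have hPn : (pCore 2 N).Normal := Cfsg.Agent.Lib.Cores.pCore_normal 2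
  have hCn : C.Normal := inferInstance
  have hTP : T.subgroupOf N ≤ pCore 2 N := Cfsg.Agent.Lib.Cores.le_pCore hTn hT.comap_subtype
  have hCL : ∀ c : C, ((c : N) : K) ∈ L := by
    intro c
    rw [hL, mem_centralizer_singleton_iff]
    have h1 := mem_centralizer_iff.1 c.2 ⟨t, hTN htT⟩ (hTP (mem_subgroupOf.2 htT))
    exact (congrArg Subtype.val h1).symm
  have hCs : Group.IsSolvable C := by
    let f : C →* L :=
      { toFun := fun c => ⟨((c : N) : K), hCL c⟩
        map_one' := rfl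
        map_mul' := fun _ _ => rfl }
    exact Group.isSolvable_of_isSolvable_injective (f := f) (fun x y hxy => by
      apply Subtype.ext
      apply Subtype.ext
      have h2 : ((f x : L) : K) = f y := by rw [hxy]
      exact h2)
  have hCo : pPrimeCore 2 C = ⊥ := by
    have h1 := Cfsg.Agent.Lib.Cores.map_subtype_pPrimeCore 2 hCn
    rw [hON, inf_bot_eq, Subgroup.map_eq_bot_iff, Subgroup.ker_subtype] at h1
    exact le_bot_iff.1 h1
  have hCc := Cfsg.Agent.Lib.HallHigman.centralizer_pCore_le_of_solvable (G := C) 2 hCo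
  intro x hx
  have hxC : x ∈ C := hx
  have h1 : (⟨x, hxC⟩ : C) ∈ pCore 2 C := by
    apply hCc
    rw [mem_centralizer_iff]
    intro y hy
    have h2 : (y : N) ∈ (pCore 2 C).map C.subtype := ⟨y, hy, rfl⟩
    rw [Cfsg.Agent.Lib.Cores.map_subtype_pCore 2 hCn] at h2
    exact Subtype.ext (mem_centralizer_iff.1 hxC _ (mem_inf.1 h2).2)
  have h2 : x ∈ (pCore 2 C).map C.subtype := ⟨_, h1, rfl⟩
  rw [Cfsg.Agent.Lib.Cores.map_subtype_pCore 2 hCn] at h2
  exact (mem_inf.1 h2).2

variable {G : Type*} [Group G] [Finite G] {S H : Subgroup G}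

theorem four_elem {z y : G} (hf : Four z y) : IsElementaryAbelian 2 (fourGroup hf) := by
  have hsq : ∀ x ∈ fourGroup hf, x * x = 1 := fun x hx => Sit.sq_of_mem_four hf hx
  refine ⟨⟨⟨fun a b => ?_⟩⟩, fun a ha => by rw [pow_two]; exact hsq a ha⟩
  apply Subtype.ext
  show (a : G) * b = b * a
  have h1 := hsq _ (mul_mem a.2 b.2)
  have h2 : (a : G)⁻¹ = a := inv_eq_of_mul_eq_one_right (hsq _ a.2)
  have h3 : (b : G)⁻¹ = b := inv_eq_of_mul_eq_one_right (hsq _ b.2)
  have h4 : ((a : G) * b)⁻¹ = a * b := inv_eq_of_mul_eq_one_right h1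
  rw [mul_inv_rev, h2, h3] at h4
  exact h4.symm

/-- **Balance**: an odd order subgroup `W` of the solvable group `M` centralized by the involution `t` and normalized by
`C_M(t)` lies in `O(M)`. -/
theorem balance {M W : Subgroup G} (hM : Group.IsSolvable M) {t : G} (ht2 : t * t = 1) (htM : t ∈ M) (hWM : W ≤ M)
    (hWt : ∀ w ∈ W, w * t = t * w) (hn : ∀ g ∈ M, g * t = t * g → ∀ w ∈ W, g * w * g⁻¹ ∈ W)
    (hodd : Odd (Nat.card W)) : W ≤ oc M := by
  have : Fact (Nat.Prime 2) := ⟨Nat.prime_two⟩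
  refine Cfsg.Agent.Classification.FlavellB.le_core_of_centralizer (p := 2) (X := Subgroup.zpowers t) hM
    (isPGroup_zpowers ht2) (by rwa [Subgroup.zpowers_le]) hWM ?_ ?_ (Nat.coprime_two_right.2 hodd)
  · intro w hw
    rw [Subgroup.zpowers_eq_closure, Subgroup.centralizer_closure, mem_centralizer_singleton_iff]
    exact hWt w hw
  · intro g hg
    obtain ⟨h1, h2⟩ := mem_inf.1 hg
    rw [Subgroup.zpowers_eq_closure, Subgroup.centralizer_closure, mem_centralizer_singleton_iff] at h2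
    exact mem_normalizer_of_conj_le (hn g h1 h2)

/-- If a four-group acts on a group of odd order and its involutions have no fixed points, the group is trivial. -/
theorem eq_bot_of_four {z y : G} (hf : Four z y) {Y : Subgroup G} (hodd : Odd (Nat.card Y))
    (hn : ∀ a ∈ fourGroup hf, ∀ x ∈ Y, a * x * a⁻¹ ∈ Y)
    (hfix : ∀ a ∈ fourGroup hf, a ≠ 1 → ∀ x ∈ Y, x * a = a * x → x = 1) : Y = ⊥ := by
  have : Fact (Nat.Prime 2) := ⟨Nat.prime_two⟩
  have h1 := Cfsg.Agent.SignalizersComponents.CoprimeGen.le_iSup_centralizer_ne_one (p := 2) (Z := Y) (four_elem hf)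
    (by rw [card_fourGroup hf]; norm_num) (fun h2 => (Nat.not_even_iff_odd.2 hodd) (even_iff_two_dvd.2 h2))
    (fun a ha => mem_normalizer_of_conj_le (hn a ha))
  rw [eq_bot_iff]
  refine h1.trans (iSup_le fun a => ?_)
  intro x hx
  obtain ⟨h2, h3⟩ := mem_inf.1 hx
  exact mem_bot.2 (hfix a a.2.1 a.2.2 x h2 (mem_centralizer_singleton_iff.1 h3))

namespace Sit

/-- Membership in `H Z`. -/
theorem mem_join (h : Sit G S H) (g : G) : g ∈ H ⊔ zSub S ↔ ∃ x ∈ H, ∃ t, InZ S t ∧ x * t = g := by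
  have hn : H.Normal := ⟨fun x hx g => h.Hn g x hx⟩
  rw [← SetLike.mem_coe, Subgroup.normal_mul, Set.mem_mul]
  rfl

theorem join_normal (h : Sit G S H) {g x : G} (hx : x ∈ H ⊔ zSub S) : g * x * g⁻¹ ∈ H ⊔ zSub S := by
  obtain ⟨y, hy, t, ht, rfl⟩ := (h.mem_join x).1 hx
  refine (h.mem_join _).2 ⟨(g * y * g⁻¹) * (g * t * g⁻¹ * t⁻¹), mul_mem (h.Hn g y hy) (h.comm_mem ht.2.2 g), t, ht, ?_⟩
  group

/-- Lemma A. -/
theorem odd_of_char (hch : IsCharacteristicTwoType H) {t : G} (htH : t ∈ H) (ht2 : t * t = 1) (ht1 : t ≠ 1)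
    {Y : Subgroup G} (hYH : Y ≤ H) (hodd : Odd (Nat.card Y)) (hYt : ∀ y ∈ Y, y * t = t * y)
    (hn : ∀ g ∈ H, g * t = t * g → ∀ y ∈ Y, g * y * g⁻¹ ∈ Y) : Y = ⊥ := by
  have : Fact (Nat.Prime 2) := ⟨Nat.prime_two⟩
  set τ : H := ⟨t, htH⟩ with hτ
  have hτ2 : τ * τ = 1 := Subtype.ext ht2
  have hτ1 : τ ≠ 1 := fun h1 => ht1 (congrArg Subtype.val h1)
  set N : Subgroup H := normalizer (Subgroup.zpowers τ : Set H) with hN
  have hchar : IsOfCharacteristicTwo N := hch.2 (Subgroup.zpowers τ) (isPGroup_zpowers hτ2) (by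
    rw [Ne, Subgroup.zpowers_eq_bot]
    exact hτ1)
  have hNt : ∀ g : H, g ∈ N → (g : G) * t = t * g := by
    intro g hg
    have h1 := conj_mem_of_mem_normalizer hg (Subgroup.mem_zpowers τ)
    obtain ⟨i, hi⟩ := h1
    have hi' : τ ^ i = g * τ * g⁻¹ := hi
    have h2 : g * τ * g⁻¹ = τ := by
      rcases Int.even_or_odd' i with ⟨k, rfl | rfl⟩
      · exfalso
        rw [zpow_mul, zpow_ofNat, pow_two, hτ2, one_zpow] at hi'
        exact conj_ne_one g hτ1 hi'.symm
      · rw [zpow_add, zpow_mul, zpow_ofNat, pow_two, hτ2, one_zpow, one_mul, zpow_one] at hi'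
        exact hi'.symm
    exact congrArg Subtype.val (mul_inv_eq_iff_eq_mul.1 h2)
  have hYN : Y.subgroupOf H ≤ N := by
    intro y hy
    apply Subgroup.centralizer_le_normalizer
    rw [Subgroup.zpowers_eq_closure, Subgroup.centralizer_closure, mem_centralizer_singleton_iff]
    exact Subtype.ext (hYt _ (mem_subgroupOf.1 hy))
  have hnorm : ((Y.subgroupOf H).subgroupOf N).Normal := by
    refine ⟨fun y hy g => ?_⟩
    rw [mem_subgroupOf, mem_subgroupOf] at hy ⊢
    exact hn _ (g : H).2 (hNt g g.2) _ hy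
  have hPn : (pCore 2 N).Normal := Cfsg.Agent.Lib.Cores.pCore_normal 2
  have hPp : IsPGroup 2 (pCore 2 N) := Cfsg.Agent.Lib.Cores.pCore_isPGroup 2
  have hodd' : Odd (Nat.card ((Y.subgroupOf H).subgroupOf N)) := by
    rw [Nat.card_congr (subgroupOfEquivOfLe hYN).toEquiv, Nat.card_congr (subgroupOfEquivOfLe hYH).toEquiv]
    exact hodd
  rw [eq_bot_iff]
  intro y hy
  have hyN : (⟨y, hYH hy⟩ : H) ∈ N := hYN (mem_subgroupOf.2 hy)
  have hyY : (⟨⟨y, hYH hy⟩, hyN⟩ : N) ∈ (Y.subgroupOf H).subgroupOf N := by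
    rw [mem_subgroupOf, mem_subgroupOf]
    exact hy
  have h1 : (⟨⟨y, hYH hy⟩, hyN⟩ : N) ∈ pCore 2 N := by
    apply hchar
    rw [mem_centralizer_iff]
    intro x hx
    have h2 : x * ⟨⟨y, hYH hy⟩, hyN⟩ * x⁻¹ * (⟨⟨y, hYH hy⟩, hyN⟩ : N)⁻¹ ∈ (Y.subgroupOf H).subgroupOf N :=
      mul_mem (hnorm.conj_mem _ hyY x) (inv_mem hyY)
    have h3 : x * ⟨⟨y, hYH hy⟩, hyN⟩ * x⁻¹ * (⟨⟨y, hYH hy⟩, hyN⟩ : N)⁻¹ ∈ pCore 2 N := by
      have h4 : x * ⟨⟨y, hYH hy⟩, hyN⟩ * x⁻¹ * (⟨⟨y, hYH hy⟩, hyN⟩ : N)⁻¹ =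
        x * (⟨⟨y, hYH hy⟩, hyN⟩ * x⁻¹ * (⟨⟨y, hYH hy⟩, hyN⟩ : N)⁻¹) := by group
      rw [h4]
      exact mul_mem hx (hPn.conj_mem _ (inv_mem hx) _)
    have h4 := eq_one_of_mem hPp hodd' h3 h2
    rwa [mul_inv_eq_one, mul_inv_eq_iff_eq_mul] at h4
  have h2 := eq_one_of_mem hPp hodd' h1 hyY
  exact mem_bot.2 (congrArg Subtype.val (congrArg Subtype.val h2))

/-- The key claim: odd order subgroups `Y` of `C(t)` normalized by `C_{HZ}(t)` are trivial. -/
theorem key (h : Sit G S H) (hch : IsCharacteristicTwoType H) {z : G} (hz : InZ S z) (hz1 : z ≠ 1) (hzH : z ∈ H)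
    {x : G} (hx : x ∈ S ⊓ H) (hx2 : x * x = 1) (hx1 : x ≠ 1) (hxz : x ≠ z) {t : G} (htG : t ∈ H ⊔ zSub S)
    (ht2 : t * t = 1) (ht1 : t ≠ 1) {Y : Subgroup G} (hodd : Odd (Nat.card Y)) (hYt : ∀ y ∈ Y, y * t = t * y)
    (hn : ∀ g ∈ H ⊔ zSub S, g * t = t * g → ∀ y ∈ Y, g * y * g⁻¹ ∈ Y) : Y = ⊥ := by
  have : Fact (Nat.Prime 2) := ⟨Nat.prime_two⟩
  set K : Subgroup G := H ⊔ zSub S with hK
  have hHK : H ≤ K := le_sup_left
  -- the case `t ∈ H`
  have hA : ∀ {t : G}, t ∈ H → t * t = 1 → t ≠ 1 → ∀ {Y : Subgroup G}, Odd (Nat.card Y) →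
      (∀ y ∈ Y, y * t = t * y) → (∀ g ∈ K, g * t = t * g → ∀ y ∈ Y, g * y * g⁻¹ ∈ Y) → Y = ⊥ :=
    fun htH ht2 ht1 _ hodd hYt hn => odd_of_char hch htH ht2 ht1 (h.le_of_odd hodd) hodd hYt
      (fun g hg => hn g (hHK hg))
  -- fixed points of involutions of `C_H(t)`
  have hB : ∀ {t : G}, t ∈ K → t * t = 1 → ∀ {Y : Subgroup G}, Odd (Nat.card Y) →
      (∀ y ∈ Y, y * t = t * y) → (∀ g ∈ K, g * t = t * g → ∀ y ∈ Y, g * y * g⁻¹ ∈ Y) →
      ∀ a ∈ H, a * a = 1 → a ≠ 1 → a * t = t * a → ∀ y ∈ Y, y * a = a * y → y = 1 := by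
    intro t htK ht2 Y hodd hYt hn a haH ha2 ha1 hat y hy hya
    have hYH : Y ≤ H := h.le_of_odd hodd
    set M : Subgroup G := K ⊓ centralizer ({a} : Set G) with hM
    have hMm : ∀ g, g ∈ M ↔ g ∈ K ∧ g * a = a * g := fun g => by
      rw [hM, mem_inf, mem_centralizer_singleton_iff]
    have hMs : Group.IsSolvable M := isSolvable_of_le inf_le_right (h.solc a ha2 ha1)
    have hMo : oc M = ⊥ := by
      apply hA haH ha2 ha1 (oc_odd M)
      · intro y hy
        exact ((hMm y).1 (oc_le M hy)).2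
      · intro g hg hga y hy
        exact conj_mem_oc' ((hMm g).2 ⟨hg, hga⟩) hy
    have h1 : Y ⊓ centralizer ({a} : Set G) ≤ oc M := by
      apply balance hMs ht2 ((hMm t).2 ⟨htK, hat.symm⟩)
      · intro w hw
        exact mem_inf.2 ⟨hHK (hYH (mem_inf.1 hw).1), (mem_inf.1 hw).2⟩
      · intro w hw
        exact hYt w (mem_inf.1 hw).1
      · intro g hg hgt w hw
        obtain ⟨hg1, hg2⟩ := (hMm g).1 hg
        refine mem_inf.2 ⟨hn g hg1 hgt w (mem_inf.1 hw).1, ?_⟩
        have h2 := (mem_inf.1 hw).2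
        exact mul_mem (mul_mem (mem_centralizer_singleton_iff.2 hg2) h2)
          (inv_mem (mem_centralizer_singleton_iff.2 hg2))
      · exact Odd.of_dvd_nat hodd (Subgroup.card_dvd_of_le inf_le_left)
    rw [hMo] at h1
    exact mem_bot.1 (h1 (mem_inf.2 ⟨hy, mem_centralizer_singleton_iff.2 hya⟩))
  -- no four-groups in `C_H(t)` unless `Y = 1`
  have hC : ∀ {t : G}, t ∈ K → t * t = 1 → ∀ {Y : Subgroup G}, Odd (Nat.card Y) →
      (∀ y ∈ Y, y * t = t * y) → (∀ g ∈ K, g * t = t * g → ∀ y ∈ Y, g * y * g⁻¹ ∈ Y) →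
      ∀ a ∈ H, ∀ b ∈ H, Four a b → a * t = t * a → b * t = t * b → Y = ⊥ := by
    intro t htK ht2 Y hodd hYt hn a haH b hbH hf hat hbt
    have h1 : ∀ c ∈ fourGroup hf, c ∈ H ∧ c * t = t * c := by
      intro c hc
      rcases (mem_fourGroup hf).1 hc with rfl | rfl | rfl | rfl
      · exact ⟨one_mem _, by rw [one_mul, mul_one]⟩
      · exact ⟨haH, hat⟩
      · exact ⟨hbH, hbt⟩
      · exact ⟨mul_mem haH hbH, by rw [mul_assoc, hbt, ← mul_assoc, hat, mul_assoc]⟩
    refine eq_bot_of_four hf hodd (fun c hc y hy => hn c (hHK (h1 c hc).1) (h1 c hc).2 y hy) ?_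
    intro c hc hc1 y hy hyc
    exact hB htK ht2 hodd hYt hn c (h1 c hc).1 (sq_of_mem_four hf hc) hc1 (h1 c hc).2 y hy hyc
  -- the case `t ∈ S`
  have hD : ∀ {t : G}, t ∈ S → t ∈ K → t * t = 1 → t ≠ 1 → ∀ {Y : Subgroup G}, Odd (Nat.card Y) →
      (∀ y ∈ Y, y * t = t * y) → (∀ g ∈ K, g * t = t * g → ∀ y ∈ Y, g * y * g⁻¹ ∈ Y) → Y = ⊥ := by
    intro t htS htK ht2 ht1 Y hodd hYt hn
    by_cases htH : t ∈ H
    · exact hA htH ht2 ht1 hodd hYt hn
    · obtain ⟨r, hrH, ζ, hζ, hrζ⟩ := (h.mem_join t).1 htK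
      have hζi : ζ⁻¹ = ζ := inv_eq_of_mul_eq_one_right hζ.2.1
      have hrt : r = t * ζ := by rw [← hrζ, mul_assoc, hζ.2.1, mul_one]
      have hrS : r ∈ S := by rw [hrt]; exact mul_mem htS hζ.1
      have hr2 : r * r = 1 := by
        rw [hrt]
        calc t * ζ * (t * ζ) = t * (ζ * t) * ζ := by group
          _ = t * (t * ζ) * ζ := by rw [hζ.2.2 t htS]
          _ = (t * t) * (ζ * ζ) := by group
          _ = 1 := by rw [ht2, hζ.2.1, one_mul]
      have hrt' : r * t = t * r := by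
        rw [hrt]
        calc t * ζ * t = t * (ζ * t) := mul_assoc _ _ _
          _ = t * (t * ζ) := by rw [hζ.2.2 t htS]
      by_cases hr : r = 1 ∨ r = z
      · have htZ : InZ S t := by
          rcases hr with hr | hr
          · rw [hr, one_mul] at hrζ
            rw [← hrζ]
            exact hζ
          · rw [hr] at hrζ
            rw [← hrζ]
            exact hz.mul hζ
        exact hC htK ht2 hodd hYt hn z hzH x (mem_inf.1 hx).2
          ⟨hz.2.1, hx2, hz.2.2 x (mem_inf.1 hx).1, hz1, hx1, fun h1 => hxz h1.symm⟩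
          (htZ.2.2 z hz.1) (htZ.2.2 x (mem_inf.1 hx).1)
      · push Not at hr
        exact hC htK ht2 hodd hYt hn z hzH r hrH
          ⟨hz.2.1, hr2, hz.2.2 r hrS, hz1, hr.1, fun h1 => hr.2 h1.symm⟩ (hz.2.2 t htS).symm hrt'
  -- general case
  have hsyl : IsSyl (S ⊓ K) K := h.syl.inf_normal le_top (fun g _ =>
    mem_normalizer_of_conj_le fun y hy => h.join_normal hy)
  obtain ⟨c, hc, hct⟩ := hsyl.exists_conj (isPGroup_zpowers ht2) (by rwa [Subgroup.zpowers_le])
  have h1 := mem_inf.1 (hct t (Subgroup.mem_zpowers t))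
  have h2 : Y.map (MulAut.conj c).toMonoidHom = ⊥ := by
    apply hD h1.1 h1.2 (conj_sq c ht2) (conj_ne_one c ht1)
    · rw [← Nat.card_congr (Y.equivMapOfInjective _ (MulAut.conj c).injective).toEquiv]
      exact hodd
    · rintro _ ⟨y, hy, rfl⟩
      show c * y * c⁻¹ * (c * t * c⁻¹) = c * t * c⁻¹ * (c * y * c⁻¹)
      calc c * y * c⁻¹ * (c * t * c⁻¹) = c * (y * t) * c⁻¹ := by group
        _ = c * (t * y) * c⁻¹ := by rw [hYt y hy]
        _ = _ := by group
    · intro g hg hgt y hy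
      rw [mem_map_conj] at hy ⊢
      have h3 := hn (c⁻¹ * g * c) (mul_mem (mul_mem (inv_mem hc) hg) hc) (by
        calc c⁻¹ * g * c * t = c⁻¹ * (g * (c * t * c⁻¹)) * c := by group
          _ = c⁻¹ * (c * t * c⁻¹ * g) * c := by rw [hgt]
          _ = _ := by group) _ hy
      have h4 : c⁻¹ * g * c * (c⁻¹ * y * c) * (c⁻¹ * g * c)⁻¹ = c⁻¹ * (g * y * g⁻¹) * c := by group
      rwa [h4] at h3
  rw [Subgroup.map_eq_bot_iff_of_injective _ (MulAut.conj c).injective] at h2
  exact h2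

/-- If `H` is of characteristic 2 type and `R` contains two involutions, then `H Z` is of characteristic 2 type. -/
theorem char_join (h : Sit G S H) (hch : IsCharacteristicTwoType H) {z : G} (hz : InZ S z) (hz1 : z ≠ 1) (hzH : z ∈ H)
    {x : G} (hx : x ∈ S ⊓ H) (hx2 : x * x = 1) (hx1 : x ≠ 1) (hxz : x ≠ z) :
    IsCharacteristicTwoType (H ⊔ zSub S : Subgroup G) := by
  set K : Subgroup G := H ⊔ zSub S with hK
  have hHK : H ≤ K := le_sup_left
  have heK : Even (Nat.card K) := by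
    have h1 : orderOf (⟨z, hHK hzH⟩ : K) = 2 := by
      apply orderOf_eq_prime
      · rw [pow_two]
        exact Subtype.ext hz.2.1
      · intro h2
        exact hz1 (congrArg Subtype.val h2)
    rw [even_iff_two_dvd, ← h1]
    exact _root_.orderOf_dvd_natCard _
  apply char_two_of_cent heK
  · intro t ht2 ht1
    have hs := h.solc t (congrArg Subtype.val ht2) (fun h1 => ht1 (Subtype.ext h1))
    let f : centralizer ({t} : Set K) →* centralizer ({(t : G)} : Set G) :=
      { toFun := fun c => ⟨((c : K) : G), by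
          rw [mem_centralizer_singleton_iff]
          exact congrArg Subtype.val (mem_centralizer_singleton_iff.1 c.2)⟩
        map_one' := rfl
        map_mul' := fun _ _ => rfl }
    exact Group.isSolvable_of_isSolvable_injective (f := f) (fun x y hxy => by
      apply Subtype.ext
      apply Subtype.ext
      have h2 : ((f x : centralizer ({(t : G)} : Set G)) : G) = f y := by rw [hxy]
      exact h2)
  · intro t ht2 ht1
    have hn : (pPrimeCore 2 (centralizer ({t} : Set K))).Normal := Cfsg.Agent.Lib.Cores.pPrimeCore_normal 2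
    have h1 : (oc (centralizer ({t} : Set K))).map K.subtype = ⊥ := by
      apply h.key hch hz hz1 hzH hx hx2 hx1 hxz (t := (t : G)) t.2 (congrArg Subtype.val ht2)
        (fun h1 => ht1 (Subtype.ext h1))
      · rw [← Nat.card_congr ((oc (centralizer ({t} : Set K))).equivMapOfInjective _ K.subtype_injective).toEquiv]
        exact oc_odd _
      · rintro _ ⟨y, hy, rfl⟩
        exact congrArg Subtype.val (mem_centralizer_singleton_iff.1 (oc_le _ hy))
      · rintro g hg hgt _ ⟨y, hy, rfl⟩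
        refine ⟨(⟨g, hg⟩ * y * ⟨g, hg⟩⁻¹ :), conj_mem_oc' ?_ hy, rfl⟩
        exact mem_centralizer_singleton_iff.2 (Subtype.ext hgt)
    rw [Subgroup.map_eq_bot_iff_of_injective _ K.subtype_injective] at h1
    have h2 : (pPrimeCore 2 (centralizer ({t} : Set K))).map (centralizer ({t} : Set K)).subtype = ⊥ := h1
    rwa [Subgroup.map_eq_bot_iff_of_injective _ (Subgroup.subtype_injective _)] at h2

end Sit

end Cfsg.Agent.H444.ZNSit
end

-- part: H444/ZCCaseB
section
/-!
# ZC-groups: the last case of 2-rank two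
-/

set_option autoImplicit false
set_option linter.unusedSectionVars false

namespace Cfsg.Agent.H444.ZNSit

open Subgroup Cfsg Cfsg.Agent.StdEven.Syl Cfsg.Agent.TwoFusion.RankTwoBasic
open Cfsg.Agent.H444.RankTwoMain.Hyp (fourGroup mem_fourGroup card_fourGroup)

variable {G : Type*} [Group G] [Finite G] {S H : Subgroup G}

/-! ### the signalizer functor `a ↦ O(C(a))` -/

/-- `O(C(a))` -/
def th (a : G) : Subgroup G := oc (centralizer ({a} : Set G))

theorem th_le {a x : G} (hx : x ∈ th a) : x * a = a * x := mem_centralizer_singleton_iff.1 (oc_le _ hx)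

/-- `O(C(a))` is mapped to `O(C(gag⁻¹))` by conjugation. -/
theorem conj_mem_th {a g x : G} (hx : x ∈ th a) : g * x * g⁻¹ ∈ th (g * a * g⁻¹) := by
  have h1 : (th a).map (MulAut.conj g).toMonoidHom ≤ th (g * a * g⁻¹) := by
    apply le_oc
    · rintro _ ⟨y, hy, rfl⟩
      rw [mem_centralizer_singleton_iff]
      show g * y * g⁻¹ * (g * a * g⁻¹) = g * a * g⁻¹ * (g * y * g⁻¹)
      calc g * y * g⁻¹ * (g * a * g⁻¹) = g * (y * a) * g⁻¹ := by group
        _ = g * (a * y) * g⁻¹ := by rw [th_le hy]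
        _ = _ := by group
    · intro c hc y hy
      rw [mem_centralizer_singleton_iff] at hc
      rw [mem_map_conj] at hy ⊢
      have h2 : g⁻¹ * c * g ∈ centralizer ({a} : Set G) := by
        rw [mem_centralizer_singleton_iff]
        calc g⁻¹ * c * g * a = g⁻¹ * (c * (g * a * g⁻¹)) * g := by group
          _ = g⁻¹ * (g * a * g⁻¹ * c) * g := by rw [hc]
          _ = _ := by group
      have h3 := conj_mem_oc' h2 hy
      have h4 : g⁻¹ * c * g * (g⁻¹ * y * g) * (g⁻¹ * c * g)⁻¹ = g⁻¹ * (c * y * c⁻¹) * g := by group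
      rw [h4] at h3
      exact h3
    · rw [← Nat.card_congr ((th a).equivMapOfInjective _ (MulAut.conj g).injective).toEquiv]
      exact oc_odd _
  exact h1 (conj_mem_map g hx)

theorem sigf (hs : ∀ t : G, t * t = 1 → t ≠ 1 → Group.IsSolvable (centralizer ({t} : Set G))) {A : Subgroup G}
    (hA : IsElementaryAbelian 2 A) : IsSolvableSignalizerFunctor 2 A (th (G := G)) := by
  have hcomm : ∀ a ∈ A, ∀ b ∈ A, a * b = b * a := by
    intro a ha b hb
    exact congrArg Subtype.val (hA.1.is_comm.comm (⟨a, ha⟩ : A) ⟨b, hb⟩)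
  have hsq : ∀ a ∈ A, a * a = 1 := fun a ha => by rw [← pow_two]; exact hA.2 a ha
  refine ⟨⟨fun a _ _ => oc_le _, fun a _ _ h2 => ?_, fun a ha _ b hb x hx => ?_, fun a ha ha1 b hb hb1 => ?_⟩,
    fun a ha ha1 => isSolvable_of_le (oc_le _) (hs a (hsq a ha) ha1)⟩
  · exact (Nat.not_even_iff_odd.2 (oc_odd _)) (even_iff_two_dvd.2 h2)
  · exact conj_mem_oc' (mem_centralizer_singleton_iff.2 (hcomm b hb a ha)) hx
  · apply balance (hs b (hsq b hb) hb1) (hsq a ha) (mem_centralizer_singleton_iff.2 (hcomm a ha b hb)) inf_le_right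
    · intro w hw
      exact th_le (mem_inf.1 hw).1
    · intro g hg hga w hw
      exact mem_inf.2 ⟨conj_mem_oc' (mem_centralizer_singleton_iff.2 hga) (mem_inf.1 hw).1,
        mul_mem (mul_mem hg (mem_inf.1 hw).2) (inv_mem hg)⟩
    · exact Odd.of_dvd_nat (oc_odd _) (Subgroup.card_dvd_of_le inf_le_left)

/-- the closure of the functor on a subset -/
def Th (A : Subgroup G) : Subgroup G := ⨆ a : {a : G // a ∈ A ∧ a ≠ 1}, th (a : G)

theorem th_le_Th {A : Subgroup G} {a : G} (ha : a ∈ A) (ha1 : a ≠ 1) : th a ≤ Th A :=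
  le_iSup (fun a : {a : G // a ∈ A ∧ a ≠ 1} => th (a : G)) ⟨a, ha, ha1⟩

theorem Th_mono {A B : Subgroup G} (h : A ≤ B) : Th A ≤ Th B :=
  iSup_le fun a => th_le_Th (h a.2.1) a.2.2

theorem Th_conj {A : Subgroup G} {g : G} (hg : ∀ a ∈ A, g * a * g⁻¹ ∈ A) {x : G} (hx : x ∈ Th A) :
    g * x * g⁻¹ ∈ Th A := by
  have h1 : Th A ≤ (Th A).comap (MulAut.conj g).toMonoidHom := by
    refine iSup_le fun a x hx => ?_
    exact th_le_Th (hg a a.2.1) (conj_ne_one g a.2.2) (conj_mem_th hx)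
  exact h1 hx

/-- The functor on a subgroup of order at least 8. -/
theorem Th_odd (hs : ∀ t : G, t * t = 1 → t ≠ 1 → Group.IsSolvable (centralizer ({t} : Set G))) {A : Subgroup G}
    (hA : IsElementaryAbelian 2 A) (hA3 : 2 ^ 3 ≤ Nat.card A) :
    Odd (Nat.card (Th A)) ∧ ∀ a ∈ A, a ≠ 1 → Th A ⊓ centralizer {a} = th a := by
  have : Fact (Nat.Prime 2) := ⟨Nat.prime_two⟩
  obtain ⟨h1, h2⟩ := Cfsg.Agent.SignalizersComponents.SolvableFunctor.closure_mem hA hA3 (sigf hs hA)
  refine ⟨?_, h2⟩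
  rw [← Nat.not_even_iff_odd, even_iff_two_dvd]
  exact h1.2.1

theorem Th_eq (hs : ∀ t : G, t * t = 1 → t ≠ 1 → Group.IsSolvable (centralizer ({t} : Set G))) {A : Subgroup G}
    (hA : IsElementaryAbelian 2 A) (hA3 : 2 ^ 3 ≤ Nat.card A) {x y : G} (hf : Four x y) (hle : fourGroup hf ≤ A) :
    Th (fourGroup hf) = Th A := by
  have : Fact (Nat.Prime 2) := ⟨Nat.prime_two⟩
  obtain ⟨hodd, hc⟩ := Th_odd hs hA hA3
  apply le_antisymm (Th_mono hle)
  have h1 := Cfsg.Agent.SignalizersComponents.CoprimeGen.le_iSup_centralizer_ne_one (p := 2) (Z := Th A) (four_elem hf)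
    (by rw [card_fourGroup hf]; norm_num) (fun h2 => (Nat.not_even_iff_odd.2 hodd) (even_iff_two_dvd.2 h2))
    (fun a ha => mem_normalizer_of_conj_le (fun v hv => Th_conj (fun b hb => by
      have h2 : a * b = b * a := congrArg Subtype.val (hA.1.is_comm.comm (⟨a, hle ha⟩ : A) ⟨b, hb⟩)
      rw [h2, mul_inv_cancel_right]
      exact hb) hv))
  refine h1.trans (iSup_le fun a => ?_)
  rw [hc a (hle a.2.1) a.2.2]
  exact th_le_Th a.2.1 a.2.2

namespace Sit

/-- A criterion for strong embedding. -/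
theorem se_of (h : Sit G S H) {M : Subgroup G} (hRM : S ⊓ H ≤ M)
    (hC : ∀ t ∈ S ⊓ H, t * t = 1 → t ≠ 1 → ∀ g ∈ H, g * t = t * g → g ∈ M)
    (hN : ∀ g ∈ H, g ∈ normalizer ((S ⊓ H : Subgroup G) : Set G) → g ∈ M) (hM : ¬ H ≤ M) :
    ∃ M : Subgroup H, IsStronglyEmbedded M := by
  have : Fact (Nat.Prime 2) := ⟨Nat.prime_two⟩
  obtain ⟨z, hz, hzH, hz1⟩ := h.exists_z
  have hzR : z ∈ S ⊓ H := mem_inf.2 ⟨hz.1, hzH⟩
  have hsyl : IsSyl (S ⊓ H) (M ⊓ H) := h.sylH.mono (le_inf hRM inf_le_right) inf_le_right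
  have hCM : ∀ v ∈ M ⊓ H, v * v = 1 → v ≠ 1 → ∃ c ∈ M ⊓ H, c * v * c⁻¹ ∈ S ⊓ H ∧
      ∀ g ∈ H, g * v = v * g → g ∈ M := by
    intro v hv hv2 hv1
    obtain ⟨c, hc, hcv⟩ := hsyl.exists_conj (isPGroup_zpowers hv2) (by rwa [Subgroup.zpowers_le])
    have h1 := hcv v (Subgroup.mem_zpowers v)
    refine ⟨c, hc, h1, fun g hg hgv => ?_⟩
    have h2 := hC _ h1 (conj_sq c hv2) (conj_ne_one c hv1) (c * g * c⁻¹) (h.Hn c g hg) (by
      calc c * g * c⁻¹ * (c * v * c⁻¹) = c * (g * v) * c⁻¹ := by group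
        _ = c * (v * g) * c⁻¹ := by rw [hgv]
        _ = _ := by group)
    have h3 := mul_mem (mul_mem (inv_mem (mem_inf.1 hc).1) h2) (mem_inf.1 hc).1
    have h4 : c⁻¹ * (c * g * c⁻¹) * c = g := by group
    rwa [h4] at h3
  refine ⟨M.subgroupOf H, ?_, ?_, ?_⟩
  · rw [Ne, Subgroup.subgroupOf_eq_top]
    exact hM
  · have h1 : orderOf (⟨⟨z, hzH⟩, mem_subgroupOf.2 (hRM hzR)⟩ : M.subgroupOf H) = 2 := by
      apply orderOf_eq_prime
      · apply Subtype.ext
        apply Subtype.ext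
        rw [pow_two]
        exact hz.2.1
      · intro h2
        exact hz1 (congrArg Subtype.val (congrArg Subtype.val h2))
    rw [even_iff_two_dvd, ← h1]
    exact _root_.orderOf_dvd_natCard _
  · intro g hg
    by_contra hcon
    rw [Nat.not_odd_iff_even, even_iff_two_dvd] at hcon
    obtain ⟨⟨u, hu⟩, hu2⟩ := exists_prime_orderOf_dvd_card' 2 hcon
    rw [Subgroup.orderOf_mk] at hu2
    obtain ⟨huM, huM'⟩ := mem_inf.1 hu
    rw [mem_map_conj] at huM'
    rw [mem_subgroupOf] at huM huM'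
    have huu : u * u = 1 := by rw [← pow_two, ← hu2, pow_orderOf_eq_one]
    have huu' : (u : G) * u = 1 := congrArg Subtype.val huu
    have hu1 : (u : G) ≠ 1 := by
      intro h1
      have h2 : u = 1 := Subtype.ext h1
      rw [h2, orderOf_one] at hu2
      norm_num at hu2
    obtain ⟨c, hc, hcu, -⟩ := hCM u (mem_inf.2 ⟨huM, u.2⟩) huu' hu1
    obtain ⟨hcM, hcH⟩ := mem_inf.1 hc
    -- `v = g⁻¹ u g ∈ M`
    set v : G := (g : G)⁻¹ * u * g with hv
    have hvv : v * v = 1 := by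
      have h1 := conj_sq (g : G)⁻¹ huu'
      rwa [inv_inv] at h1
    have hv1 : v ≠ 1 := by
      have h1 := conj_ne_one (g : G)⁻¹ hu1
      rwa [inv_inv] at h1
    have hvH : v ∈ H := mul_mem (mul_mem (inv_mem g.2) u.2) g.2
    obtain ⟨-, -, -, hvC⟩ := hCM v (mem_inf.2 ⟨huM', hvH⟩) hvv hv1
    -- `z₁ = c⁻¹ z c`
    set z₁ : G := c⁻¹ * z * c with hz₁
    have hz₁H : z₁ ∈ H := mul_mem (mul_mem (inv_mem hcH) hzH) hcH
    have hz₁u : z₁ * u = u * z₁ := by
      have h1 := hz.2.2 _ (mem_inf.1 hcu).1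
      calc z₁ * u = c⁻¹ * (z * (c * u * c⁻¹)) * c := by rw [hz₁]; group
        _ = c⁻¹ * (c * u * c⁻¹ * z) * c := by rw [h1]
        _ = u * z₁ := by rw [hz₁]; group
    -- `w = g⁻¹ z₁ g ∈ M`
    set w : G := (g : G)⁻¹ * z₁ * g with hw
    have hwH : w ∈ H := mul_mem (mul_mem (inv_mem g.2) hz₁H) g.2
    have hwM : w ∈ M := by
      apply hvC w hwH
      calc w * v = (g : G)⁻¹ * (z₁ * u) * g := by rw [hw, hv]; group
        _ = (g : G)⁻¹ * (u * z₁) * g := by rw [hz₁u]
        _ = v * w := by rw [hw, hv]; group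
    have hz₁1 : z₁ ≠ 1 := by
      have h1 := conj_ne_one c⁻¹ hz1
      rwa [inv_inv] at h1
    have hz₁2 : z₁ * z₁ = 1 := by
      have h1 := conj_sq c⁻¹ hz.2.1
      rwa [inv_inv] at h1
    have hw1 : w ≠ 1 := by
      have h1 := conj_ne_one (g : G)⁻¹ hz₁1
      rwa [inv_inv] at h1
    have hw2 : w * w = 1 := by
      have h1 := conj_sq (g : G)⁻¹ hz₁2
      rwa [inv_inv] at h1
    obtain ⟨-, -, -, hwC⟩ := hCM w (mem_inf.2 ⟨hwM, hwH⟩) hw2 hw1
    -- `q = c g`, `q⁻¹ R q ≤ M ∩ H`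
    set q : G := c * g with hq
    have hqR : (S ⊓ H).map (MulAut.conj q⁻¹).toMonoidHom ≤ M ⊓ H := by
      rintro _ ⟨r, hr, rfl⟩
      have hH : q⁻¹ * r * q⁻¹⁻¹ ∈ H := h.Hn _ r (mem_inf.1 hr).2
      refine mem_inf.2 ⟨hwC _ hH ?_, hH⟩
      have h1 := hz.2.2 r (mem_inf.1 hr).1
      calc q⁻¹ * r * q⁻¹⁻¹ * w = q⁻¹ * (r * z) * q := by rw [hw, hz₁, hq]; group
        _ = q⁻¹ * (z * r) * q := by rw [h1]
        _ = w * (q⁻¹ * r * q⁻¹⁻¹) := by rw [hw, hz₁, hq]; group
    obtain ⟨m, hm, hmR⟩ := hsyl.exists_conj (isPGroup_map h.sylH.two _) hqR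
    have h1 : m * q⁻¹ ∈ normalizer ((S ⊓ H : Subgroup G) : Set G) := by
      apply mem_normalizer_of_conj_le
      intro r hr
      have h2 := hmR _ (conj_mem_map q⁻¹ hr)
      have h3 : m * (q⁻¹ * r * q⁻¹⁻¹) * m⁻¹ = m * q⁻¹ * r * (m * q⁻¹)⁻¹ := by group
      rwa [h3] at h2
    have hqH : q ∈ H := mul_mem hcH g.2
    have h2 := hN (m * q⁻¹) (mul_mem (mem_inf.1 hm).2 (inv_mem hqH)) h1
    apply hg
    rw [mem_subgroupOf]
    have h3 : (g : G) = c⁻¹ * ((m * q⁻¹)⁻¹ * m) := by rw [hq]; group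
    rw [h3]
    exact mul_mem (inv_mem hcM) (mul_mem (inv_mem h2) (mem_inf.1 hm).1)

/-- A nontrivial odd order subgroup is not normalized by `H`. -/
theorem not_le_norm (h : Sit G S H) {Y : Subgroup G} (hodd : Odd (Nat.card Y)) (hY : Y ≠ ⊥) :
    ¬ H ≤ normalizer (Y : Set G) := by
  intro hle
  have h1 : Y ≤ oc H := le_oc (h.le_of_odd hodd) (fun c hc y hy => conj_mem_of_mem_normalizer (hle hc) hy) hodd
  have hn : (oc H).Normal := ⟨fun x hx g => conj_mem_oc (mem_normalizer_of_conj_le (h.Hn g)) hx⟩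
  rw [h.O1 _ hn (oc_odd H)] at h1
  exact hY (le_bot_iff.1 h1)

theorem ev_of_invol {x : G} (hx2 : x * x = 1) (hx1 : x ≠ 1) : orderOf x = 2 :=
  orderOf_eq_prime (by rw [pow_two]; exact hx2) hx1

theorem index_ne_two {K : Type*} [Group K] [Finite K] (h : pResidual 2 K = ⊤) (N : Subgroup K) : N.index ≠ 2 := by
  have : Fact (Nat.Prime 2) := ⟨Nat.prime_two⟩
  intro hi
  have hN : N.Normal := Subgroup.normal_of_index_eq_two hi
  have h1 : pResidual 2 K ≤ N := Cfsg.Agent.Transfer.Residual.pResidual_le_of_isPGroup_quotient (by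
    apply IsPGroup.of_card (n := 1)
    rw [pow_one, ← hi]
    rfl)
  rw [h, top_le_iff] at h1
  rw [h1, Subgroup.index_top] at hi
  norm_num at hi

/-- In case B all involutions of `H` are conjugate. -/
theorem one_class (h : Sit G S H) (hr : PRankLE 2 2 H) (hres : pResidual 2 H = ⊤) {z : G} (hz : InZ S z) (hz1 : z ≠ 1)
    (hzH : z ∈ H) (hu : ∀ x, InZ S x → x ∈ H → x = 1 ∨ x = z)
    (huR : ∀ y ∈ S ⊓ H, y * y = 1 → (∀ r ∈ S ⊓ H, r * y = y * r) → y = 1 ∨ y = z) {k : G} (hk : k ∈ H)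
    (hkS : k * z * k⁻¹ ∈ S) (hkz : k * z * k⁻¹ ≠ z) {t : G} (htH : t ∈ H) (ht2 : t * t = 1) (ht1 : t ≠ 1) :
    ∃ g ∈ H, g * z * g⁻¹ = t := by
  have : Fact (Nat.Prime 2) := ⟨Nat.prime_two⟩
  have ho1 : orderOf (⟨z, hzH⟩ : H) = 2 := by
    rw [Subgroup.orderOf_mk]
    exact ev_of_invol hz.2.1 hz1
  have ho2 : orderOf (⟨t, htH⟩ : H) = 2 := by
    rw [Subgroup.orderOf_mk]
    exact ev_of_invol ht2 ht1
  have key : ∃ g : H, g * ⟨z, hzH⟩ * g⁻¹ = ⟨t, htH⟩ := by
    rcases h.case_B hr hres hz hz1 hzH hu huR hk hkS hkz with ⟨m, hm, ⟨e⟩⟩ | hqd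
    · -- dihedral
      have hkR : k * z * k⁻¹ ∈ S ⊓ H := mem_inf.2 ⟨hkS, h.Hn k z hzH⟩
      have hp : IsPGroup 2 (DihedralGroup m) := h.sylH.toSylow.isPGroup'.of_equiv e
      have : NeZero m := ⟨by omega⟩
      have hfin : Finite (DihedralGroup m) := Finite.of_equiv _ e.toEquiv
      obtain ⟨j, hj⟩ := (IsPGroup.iff_card (p := 2)).1 hp
      rw [DihedralGroup.nat_card] at hj
      obtain ⟨i, rfl⟩ : ∃ i, j = i + 1 := Nat.exists_eq_succ_of_ne_zero (by rintro rfl; omega)
      have hmi : m = 2 ^ i := by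
        rw [pow_succ] at hj
        omega
      have hi : 2 ≤ i := by
        by_contra hlt
        have hi2 : i = 1 := by
          interval_cases i
          · omega
          · rfl
        rw [hi2, pow_one] at hmi
        subst hmi
        have hcomm : ∀ a b : DihedralGroup 2, a * b = b * a := by decide
        rcases huR _ hkR (conj_sq k hz.2.1) (fun r hr' => by
          have h1 := hcomm (e ⟨⟨r, (mem_inf.1 hr').2⟩, mem_subgroupOf.2 hr'⟩)
            (e ⟨⟨k * z * k⁻¹, (mem_inf.1 hkR).2⟩, mem_subgroupOf.2 hkR⟩)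
          rw [← map_mul, ← map_mul] at h1
          exact congrArg Subtype.val (congrArg Subtype.val (e.injective h1))) with h1 | h1
        · exact conj_ne_one k hz1 h1
        · exact hkz h1
      exact Cfsg.Agent.S0107.result h.sylH.toSylow i hi ⟨hmi ▸ e⟩ hres _ _ ho1 ho2
    · have h1 := Cfsg.Agent.TwoFusion.OneClass.isConj_of_orderOf_two h.sylH.toSylow (Or.inl hqd)
        (fun N => index_ne_two hres N) _ _ ho1 ho2
      obtain ⟨c, hc⟩ := isConj_iff.1 h1
      exact ⟨c, hc⟩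
  obtain ⟨g, hg⟩ := key
  exact ⟨g, g.2, congrArg Subtype.val hg⟩

/-- The 3-cycles on `{z, t, zt}`. -/
theorem cycle (h : Sit G S H) (hr : PRankLE 2 2 H) (hres : pResidual 2 H = ⊤) {z : G} (hz : InZ S z) (hz1 : z ≠ 1)
    (hzH : z ∈ H) (hu : ∀ x, InZ S x → x ∈ H → x = 1 ∨ x = z)
    (huR : ∀ y ∈ S ⊓ H, y * y = 1 → (∀ r ∈ S ⊓ H, r * y = y * r) → y = 1 ∨ y = z) {k : G} (hk : k ∈ H)
    (hkS : k * z * k⁻¹ ∈ S) (hkz : k * z * k⁻¹ ≠ z) {t : G} (htR : t ∈ S ⊓ H) (ht2 : t * t = 1) (ht1 : t ≠ 1)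
    (htz : t ≠ z) : ∃ n ∈ H, n * z * n⁻¹ = t ∧ n * t * n⁻¹ = z * t := by
  obtain ⟨g, hg, hgt⟩ := h.one_class hr hres hz hz1 hzH hu huR hk hkS hkz (mem_inf.1 htR).2 ht2 ht1
  have hyp := h.hyp_B hr hres hz hz1 hzH hu huR
  obtain ⟨⟨s, hsR, -, hs⟩, s', -, hs'z, hs'w⟩ := hyp.exists_swaps (w := ⟨t, (mem_inf.1 htR).2⟩)
    (mem_subgroupOf.2 htR) (fun h1 => htz (congrArg Subtype.val h1)) ⟨⟨g, hg⟩, Subtype.ext hgt⟩
  have e1 : (s : G) * t * (s : G)⁻¹ = z * t := congrArg Subtype.val hs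
  have e2 : (s' : G) * z * (s' : G)⁻¹ = z * t := congrArg Subtype.val hs'z
  have e3 : (s' : G) * t * (s' : G)⁻¹ = t := congrArg Subtype.val hs'w
  have e4 : (s : G) * z * (s : G)⁻¹ = z := by
    rw [hz.2.2 _ (mem_inf.1 (mem_subgroupOf.1 hsR)).1, mul_inv_cancel_right]
  refine ⟨s * s', mul_mem s.2 s'.2, ?_, ?_⟩
  · rw [conj_conj, e2, Cfsg.Agent.TwoFusion.RankTwoBasic.conj_mul, e4, e1, ← mul_assoc, hz.2.1, one_mul]
  · rw [conj_conj, e3, e1]

/-- The common end of the proof. -/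
theorem se_end (h : Sit G S H) (hr : PRankLE 2 2 H) (hres : pResidual 2 H = ⊤) {z : G} (hz : InZ S z) (hz1 : z ≠ 1)
    (hzH : z ∈ H) (hu : ∀ x, InZ S x → x ∈ H → x = 1 ∨ x = z)
    (huR : ∀ y ∈ S ⊓ H, y * y = 1 → (∀ r ∈ S ⊓ H, r * y = y * r) → y = 1 ∨ y = z) {k : G} (hk : k ∈ H)
    (hkS : k * z * k⁻¹ ∈ S) (hkz : k * z * k⁻¹ ≠ z) {Y : Subgroup G} (hodd : Odd (Nat.card Y)) (hY1 : Y ≠ ⊥)
    (h1 : ∀ g, g * z = z * g → g ∈ normalizer (Y : Set G))
    (h2 : ∀ t ∈ S ⊓ H, t * t = 1 → t ≠ 1 → t ≠ z → ∀ n ∈ H, n * z * n⁻¹ = t → n * t * n⁻¹ = z * t →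
      n ∈ normalizer (Y : Set G)) : ∃ M : Subgroup H, IsStronglyEmbedded M := by
  have hzR : z ∈ S ⊓ H := mem_inf.2 ⟨hz.1, hzH⟩
  refine h.se_of (M := normalizer (Y : Set G)) (fun r hr' => h1 r (hz.2.2 r (mem_inf.1 hr').1)) ?_ ?_
    (h.not_le_norm hodd hY1)
  · intro t htR ht2 ht1 g hg hgt
    by_cases htz : t = z
    · rw [htz] at hgt
      exact h1 g hgt
    · obtain ⟨n, hn, hnz, hnt⟩ := h.cycle hr hres hz hz1 hzH hu huR hk hkS hkz htR ht2 ht1 htz
      have hnN := h2 t htR ht2 ht1 htz n hn hnz hnt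
      have h3 : n⁻¹ * g * n ∈ normalizer (Y : Set G) := by
        apply h1
        calc n⁻¹ * g * n * z = n⁻¹ * (g * (n * z * n⁻¹)) * n := by group
          _ = n⁻¹ * (t * g) * n := by rw [hnz, hgt]
          _ = n⁻¹ * (n * z * n⁻¹ * g) * n := by rw [hnz]
          _ = _ := by group
      have h4 := mul_mem (mul_mem hnN h3) (inv_mem hnN)
      have h5 : n * (n⁻¹ * g * n) * n⁻¹ = g := by group
      rwa [h5] at h4
  · intro g hg hgN
    apply h1
    have h3 : g * z * g⁻¹ = 1 ∨ g * z * g⁻¹ = z := by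
      apply huR _ (conj_mem_of_mem_normalizer hgN hzR) (conj_sq g hz.2.1)
      intro r hr'
      have h4 := hz.2.2 _ (mem_inf.1 (conj_inv_mem_of_mem_normalizer hgN hr')).1
      calc r * (g * z * g⁻¹) = g * (g⁻¹ * r * g * z) * g⁻¹ := by group
        _ = g * (z * (g⁻¹ * r * g)) * g⁻¹ := by rw [h4]
        _ = _ := by group
    rcases h3 with h3 | h3
    · exact absurd h3 (conj_ne_one g hz1)
    · exact mul_inv_eq_iff_eq_mul.1 h3

/-- elements permuting `z ↦ t ↦ zt` normalize the four-group -/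
theorem cycle_norm {z t n : G} (hf : Four z t) (hnz : n * z * n⁻¹ = t) (hnt : n * t * n⁻¹ = z * t) :
    ∀ a ∈ fourGroup hf, n * a * n⁻¹ ∈ fourGroup hf := by
  intro a ha
  rcases (mem_fourGroup hf).1 ha with rfl | rfl | rfl | rfl
  · rw [mul_one, mul_inv_cancel]
    exact one_mem _
  · rw [hnz]
    exact (mem_fourGroup hf).2 (Or.inr (Or.inr (Or.inl rfl)))
  · rw [hnt]
    exact (mem_fourGroup hf).2 (Or.inr (Or.inr (Or.inr rfl)))
  · rw [Cfsg.Agent.TwoFusion.RankTwoBasic.conj_mul, hnz, hnt, hf.tzt]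
    exact (mem_fourGroup hf).2 (Or.inr (Or.inl rfl))

/-- Case B: strongly embedded or `O(C(z)) = 1`. -/
theorem case_B_core (h : Sit G S H) (hr : PRankLE 2 2 H) (hres : pResidual 2 H = ⊤) {z : G} (hz : InZ S z)
    (hz1 : z ≠ 1) (hzH : z ∈ H) (hu : ∀ x, InZ S x → x ∈ H → x = 1 ∨ x = z)
    (huR : ∀ y ∈ S ⊓ H, y * y = 1 → (∀ r ∈ S ⊓ H, r * y = y * r) → y = 1 ∨ y = z) {k : G} (hk : k ∈ H)
    (hkS : k * z * k⁻¹ ∈ S) (hkz : k * z * k⁻¹ ≠ z) :
    (∃ M : Subgroup H, IsStronglyEmbedded M) ∨ th z = ⊥ := by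
  by_cases hX : th z = ⊥
  · exact Or.inr hX
  left
  have hfour : ∀ t ∈ S ⊓ H, t * t = 1 → t ≠ 1 → t ≠ z → Four z t := fun t htR ht2 ht1 htz =>
    ⟨hz.2.1, ht2, hz.2.2 t (mem_inf.1 htR).1, hz1, ht1, fun h => htz h.symm⟩
  by_cases hZH : ∀ ζ, InZ S ζ → ζ ∈ H
  · -- `Z ≤ H`
    have hCN : ∀ c, c * z = z * c → c ∈ normalizer (S : Set G) := by
      intro c hc
      apply h.hZ
      intro t htS ht2 htc
      rcases hu t ⟨htS, ht2, htc⟩ (hZH t ⟨htS, ht2, htc⟩) with rfl | rfl
      · rw [mul_one, one_mul]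
      · exact hc
    have hXS : ∀ x ∈ th z, ∀ s ∈ S, x * s = s * x := by
      intro x hx s hs
      have h1 : x * s * x⁻¹ * s⁻¹ ∈ S :=
        mul_mem (conj_mem_of_mem_normalizer (hCN x (th_le hx)) hs) (inv_mem hs)
      have h2 : x * s * x⁻¹ * s⁻¹ ∈ th z := by
        have h3 : x * s * x⁻¹ * s⁻¹ = x * (s * x⁻¹ * s⁻¹) := by group
        rw [h3]
        exact mul_mem hx (conj_mem_oc' (mem_centralizer_singleton_iff.2 (hz.2.2 s hs)) (inv_mem hx))
      have h4 := eq_one_of_mem h.syl.two (oc_odd _) h1 h2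
      rwa [mul_inv_eq_one, mul_inv_eq_iff_eq_mul] at h4
    apply h.se_end hr hres hz hz1 hzH hu huR hk hkS hkz (Y := th z) (oc_odd _) hX
    · intro g hg
      exact mem_normalizer_of_conj_le fun x hx => conj_mem_oc' (mem_centralizer_singleton_iff.2 hg) hx
    · intro t htR ht2 ht1 htz n hn hnz hnt
      have hf := hfour t htR ht2 ht1 htz
      set C : Subgroup G := centralizer (fourGroup hf : Set G) with hC
      have hCm : ∀ c, c ∈ C ↔ c * z = z * c ∧ c * t = t * c := by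
        intro c
        rw [hC, mem_centralizer_iff]
        constructor
        · intro h1
          exact ⟨(h1 z ((mem_fourGroup hf).2 (Or.inr (Or.inl rfl)))).symm,
            (h1 t ((mem_fourGroup hf).2 (Or.inr (Or.inr (Or.inl rfl))))).symm⟩
        · rintro ⟨h1, h2⟩ a ha
          rcases (mem_fourGroup hf).1 ha with rfl | rfl | rfl | rfl
          · rw [one_mul, mul_one]
          · exact h1.symm
          · exact h2.symm
          · rw [← mul_assoc, h1, mul_assoc, mul_assoc, h2]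
      have hXC : th z = oc C := by
        apply le_antisymm
        · apply le_oc
          · intro x hx
            exact (hCm x).2 ⟨th_le hx, hXS x hx t (mem_inf.1 htR).1⟩
          · intro c hc x hx
            exact conj_mem_oc' (mem_centralizer_singleton_iff.2 ((hCm c).1 hc).1) hx
          · exact oc_odd _
        · apply balance (h.solc z hz.2.1 hz1) ht2 (mem_centralizer_singleton_iff.2 hf.comm)
          · intro x hx
            exact mem_centralizer_singleton_iff.2 ((hCm x).1 (oc_le C hx)).1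
          · intro x hx
            exact ((hCm x).1 (oc_le C hx)).2
          · intro g hg hgt x hx
            exact conj_mem_oc' ((hCm g).2 ⟨mem_centralizer_singleton_iff.1 hg, hgt⟩) hx
          · exact oc_odd _
      have hnV := mem_normalizer_of_conj_le (cycle_norm hf hnz hnt)
      have hnC : n ∈ normalizer (C : Set G) := by
        apply mem_normalizer_of_conj_le
        intro c hc
        rw [hC, mem_centralizer_iff] at hc ⊢
        intro a ha
        have h1 := hc _ (conj_inv_mem_of_mem_normalizer hnV ha)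
        calc a * (n * c * n⁻¹) = n * (n⁻¹ * a * n * c) * n⁻¹ := by group
          _ = n * (c * (n⁻¹ * a * n)) * n⁻¹ := by rw [h1]
          _ = _ := by group
      rw [hXC]
      exact mem_normalizer_of_conj_le fun x hx => conj_mem_oc hnC hx
  · -- the signalizer functor
    push Not at hZH
    obtain ⟨ζ, hζ, hζH⟩ := hZH
    have hζ1 : ζ ≠ 1 := by
      rintro rfl
      exact hζH (one_mem _)
    have hζz : z ≠ ζ := by
      rintro rfl
      exact hζH hzH
    have hf₀ : Four z ζ := ⟨hz.2.1, hζ.2.1, hζ.comm hz, hz1, hζ1, hζz⟩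
    -- the elementary abelian subgroups of order 8
    have hA : ∀ t ∈ S ⊓ H, t * t = 1 → t ≠ 1 → t ≠ z → ∀ hf : Four z t, ∃ A : Subgroup G,
        IsElementaryAbelian 2 A ∧ 2 ^ 3 ≤ Nat.card A ∧ fourGroup hf₀ ≤ A ∧ fourGroup hf ≤ A := by
      intro t htR ht2 ht1 htz hf
      have htS := (mem_inf.1 htR).1
      have hk' : ∀ x ∈ ({z, t, ζ} : Set G), ∀ y ∈ ({z, t, ζ} : Set G), x * y = y * x := by
        have c1 := hf.comm
        have c2 := hf₀.comm
        have c3 := hζ.2.2 t htS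
        rintro x (rfl | rfl | rfl) y (rfl | rfl | rfl) <;> first | rfl | assumption | (symm; assumption)
      have hk2 : ∀ x ∈ ({z, t, ζ} : Set G), x * x = 1 := by
        rintro x (rfl | rfl | rfl)
        · exact hz.2.1
        · exact ht2
        · exact hζ.2.1
      have hm : ∀ x ∈ ({z, t, ζ} : Set G), x ∈ closure ({z, t, ζ} : Set G) := fun x hx => subset_closure hx
      have hV : fourGroup hf ≤ closure ({z, t, ζ} : Set G) := by
        intro a ha
        rcases (mem_fourGroup hf).1 ha with rfl | rfl | rfl | rfl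
        · exact one_mem _
        · exact hm _ (by simp)
        · exact hm _ (by simp)
        · exact mul_mem (hm _ (by simp)) (hm _ (by simp))
      refine ⟨closure {z, t, ζ}, ⟨isMulCommutative_closure hk', closure_sq hk' hk2⟩, ?_, ?_, hV⟩
      · have h1 : Nat.card (fourGroup hf) ∣ Nat.card (closure ({z, t, ζ} : Set G)) := Subgroup.card_dvd_of_le hV
        rw [card_fourGroup hf] at h1
        have h2 : Nat.card (closure ({z, t, ζ} : Set G)) ≠ 4 := by
          intro h3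
          have h4 : fourGroup hf = closure ({z, t, ζ} : Set G) :=
            Subgroup.eq_of_le_of_card_ge hV (by rw [h3, card_fourGroup hf])
          have h5 : ζ ∈ fourGroup hf := by
            rw [h4]
            exact hm _ (by simp)
          apply hζH
          rcases (mem_fourGroup hf).1 h5 with h6 | h6 | h6 | h6
          · rw [h6]; exact one_mem _
          · rw [h6]; exact hzH
          · rw [h6]; exact (mem_inf.1 htR).2
          · rw [h6]; exact mul_mem hzH (mem_inf.1 htR).2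
        have h3 : 0 < Nat.card (closure ({z, t, ζ} : Set G)) := Nat.card_pos
        obtain ⟨c, hc⟩ := h1
        rw [hc] at h2 h3 ⊢
        have h4 : c ≠ 1 := by rintro rfl; exact h2 rfl
        have h5 : c ≠ 0 := by rintro rfl; omega
        norm_num
        omega
      · intro a ha
        rcases (mem_fourGroup hf₀).1 ha with rfl | rfl | rfl | rfl
        · exact one_mem _
        · exact hm _ (by simp)
        · exact hm _ (by simp)
        · exact mul_mem (hm _ (by simp)) (hm _ (by simp))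
    have hkR : k * z * k⁻¹ ∈ S ⊓ H := mem_inf.2 ⟨hkS, h.Hn k z hzH⟩
    have hkf := hfour _ hkR (conj_sq k hz.2.1) (conj_ne_one k hz1) hkz
    obtain ⟨A₀, hA₀, hA₀8, hEA, -⟩ := hA _ hkR (conj_sq k hz.2.1) (conj_ne_one k hz1) hkz hkf
    have hodd : Odd (Nat.card (Th (fourGroup hf₀))) := by
      rw [Th_eq h.solc hA₀ hA₀8 hf₀ hEA]
      exact (Th_odd h.solc hA₀ hA₀8).1
    have hzE : z ∈ fourGroup hf₀ := (mem_fourGroup hf₀).2 (Or.inr (Or.inl rfl))
    have hle : th z ≤ Th (fourGroup hf₀) := th_le_Th hzE hz1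
    apply h.se_end hr hres hz hz1 hzH hu huR hk hkS hkz (Y := Th (fourGroup hf₀)) hodd (fun hb => hX (by
      rw [eq_bot_iff, ← hb]
      exact hle))
    · intro g hg
      obtain ⟨x, hx, -, hxg⟩ := h.Zprime hz hz1 hu hg
      have h1 : x ∈ normalizer (Th (fourGroup hf₀) : Set G) := (Th (fourGroup hf₀)).le_normalizer (hle hx)
      have h2 : x * g ∈ normalizer (Th (fourGroup hf₀) : Set G) := by
        apply mem_normalizer_of_conj_le
        intro y hy
        refine Th_conj (fun a ha => ?_) hy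
        have haZ : InZ S a := by
          rcases (mem_fourGroup hf₀).1 ha with rfl | rfl | rfl | rfl
          · exact InZ.one
          · exact hz
          · exact hζ
          · exact hz.mul hζ
        rw [hxg a haZ, mul_inv_cancel_right]
        exact ha
      have h3 := mul_mem (inv_mem h1) h2
      rwa [inv_mul_cancel_left] at h3
    · intro t htR ht2 ht1 htz n hn hnz hnt
      have hf := hfour t htR ht2 ht1 htz
      obtain ⟨A, hA1, hA8, hEA', hVA⟩ := hA t htR ht2 ht1 htz hf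
      rw [Th_eq h.solc hA1 hA8 hf₀ hEA', ← Th_eq h.solc hA1 hA8 hf hVA]
      exact mem_normalizer_of_conj_le fun y hy => Th_conj (cycle_norm hf hnz hnt) hy

/-- If `O(C(z)) = 1` and all involutions of `H` are conjugate then `H` is of characteristic 2 type. -/
theorem char_of_core (h : Sit G S H) {z : G} (hz : InZ S z) (hz1 : z ≠ 1) (hzH : z ∈ H) (hX : th z = ⊥)
    (hone : ∀ t ∈ H, t * t = 1 → t ≠ 1 → ∃ g ∈ H, g * z * g⁻¹ = t) : IsCharacteristicTwoType H := by
  have heH : Even (Nat.card H) := by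
    have h1 : orderOf (⟨z, hzH⟩ : H) = 2 := by
      rw [Subgroup.orderOf_mk]
      exact ev_of_invol hz.2.1 hz1
    rw [even_iff_two_dvd, ← h1]
    exact _root_.orderOf_dvd_natCard _
  apply char_two_of_cent heH
  · intro t ht2 ht1
    have hs := h.solc t (congrArg Subtype.val ht2) (fun h1 => ht1 (Subtype.ext h1))
    let f : centralizer ({t} : Set H) →* centralizer ({(t : G)} : Set G) :=
      { toFun := fun c => ⟨((c : H) : G), by
          rw [mem_centralizer_singleton_iff]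
          exact congrArg Subtype.val (mem_centralizer_singleton_iff.1 c.2)⟩
        map_one' := rfl
        map_mul' := fun _ _ => rfl }
    exact Group.isSolvable_of_isSolvable_injective (f := f) (fun x y hxy => by
      apply Subtype.ext
      apply Subtype.ext
      have h2 : ((f x : centralizer ({(t : G)} : Set G)) : G) = f y := by rw [hxy]
      exact h2)
  · intro t ht2 ht1
    have ht1' : (t : G) ≠ 1 := fun h1 => ht1 (Subtype.ext h1)
    obtain ⟨g, hg, hgt⟩ := hone t t.2 (congrArg Subtype.val ht2) ht1'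
    have hth : th (t : G) = ⊥ := by
      rw [eq_bot_iff]
      intro x hx
      have h1 : g⁻¹ * x * g⁻¹⁻¹ ∈ th (g⁻¹ * t * g⁻¹⁻¹) := conj_mem_th hx
      have h2 : g⁻¹ * t * g⁻¹⁻¹ = z := by rw [← hgt]; group
      rw [h2, hX, mem_bot, inv_inv] at h1
      rw [mem_bot]
      have h3 : x = g * (g⁻¹ * x * g) * g⁻¹ := by group
      rw [h3, h1]
      group
    set Ct : Subgroup G := H ⊓ centralizer ({(t : G)} : Set G) with hCt
    have h1 : oc Ct ≤ th (t : G) := by
      apply le_oc ((oc_le _).trans inf_le_right) _ (oc_odd _)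
      intro c hc x hx
      apply conj_mem_oc _ hx
      apply mem_normalizer_of_conj_le
      intro y hy
      exact mem_inf.2 ⟨h.Hn c y (mem_inf.1 hy).1, mul_mem (mul_mem hc (mem_inf.1 hy).2) (inv_mem hc)⟩
    rw [hth] at h1
    have h2 : (oc (centralizer ({t} : Set H))).map H.subtype ≤ oc Ct := by
      apply le_oc
      · rintro _ ⟨y, hy, rfl⟩
        exact mem_inf.2 ⟨y.2, mem_centralizer_singleton_iff.2
          (congrArg Subtype.val (mem_centralizer_singleton_iff.1 (oc_le _ hy)))⟩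
      · rintro c hc _ ⟨y, hy, rfl⟩
        obtain ⟨hc1, hc2⟩ := mem_inf.1 hc
        refine ⟨(⟨c, hc1⟩ * y * ⟨c, hc1⟩⁻¹ :), conj_mem_oc' ?_ hy, rfl⟩
        exact mem_centralizer_singleton_iff.2 (Subtype.ext (mem_centralizer_singleton_iff.1 hc2))
      · rw [← Nat.card_congr ((oc (centralizer ({t} : Set H))).equivMapOfInjective _ H.subtype_injective).toEquiv]
        exact oc_odd _
    have h3 : (oc (centralizer ({t} : Set H))).map H.subtype = ⊥ := le_bot_iff.1 (h2.trans h1)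
    rw [Subgroup.map_eq_bot_iff_of_injective _ H.subtype_injective] at h3
    have h4 : (pPrimeCore 2 (centralizer ({t} : Set H))).map (centralizer ({t} : Set H)).subtype = ⊥ := h3
    rwa [Subgroup.map_eq_bot_iff_of_injective _ (Subgroup.subtype_injective _)] at h4

end Sit

end Cfsg.Agent.H444.ZNSit
end

-- part: S3759
section
set_option autoImplicit false
open Cfsg

namespace Cfsg.Agent.S3759

open Subgroup Cfsg.Agent.StdEven.Syl Cfsg.Agent.H444.ZNSit
open Cfsg.Agent.H444.RankTwoMain.Hyp (fourGroup mem_fourGroup card_fourGroup)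
open Cfsg.Agent.TwoFusion.RankTwoBasic (Four)

theorem mem_Z {G : Type*} [Group G] [Finite G] (S : Subgroup G) (x : G) :
    x ∈ omegaOne 2 (S ⊓ centralizer (S : Set G)) ↔ InZ S x := by
  constructor
  · intro hx
    have h1 : omegaOne 2 (S ⊓ centralizer (S : Set G)) ≤ zSub S := by
      unfold omegaOne
      rw [Subgroup.closure_le]
      rintro y ⟨hy, hy2⟩
      obtain ⟨h1, h2⟩ := mem_inf.1 hy
      refine ⟨h1, by rw [← pow_two]; exact hy2, fun s hs => mem_centralizer_iff.1 h2 s hs⟩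
    exact h1 hx
  · intro hx
    exact Subgroup.subset_closure ⟨mem_inf.2 ⟨hx.1, mem_centralizer_iff.2 hx.2.2⟩, by rw [pow_two]; exact hx.2.1⟩

theorem sit_of {G : Type*} [Group G] [Finite G] (heven : Even (Nat.card G))
    (hC : ∀ t : G, orderOf t = 2 → Group.IsSolvable ↥(Subgroup.centralizer ({t} : Set G)))
    (hO' : Cfsg.pPrimeCore 2 G = ⊥) (hO : Cfsg.pCore 2 G = ⊥) (S : Sylow 2 G)
    (hZ : Subgroup.centralizer (Cfsg.omegaOne 2 ((S : Subgroup G) ⊓ Subgroup.centralizer ((S : Subgroup G) : Set G)) : Set G) ≤ Subgroup.normalizer ((S : Subgroup G) : Set G)) :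
    Sit G (S : Subgroup G) (pResidual 2 G) := by
  have : Fact (Nat.Prime 2) := ⟨Nat.prime_two⟩
  have hHn : (pResidual 2 G).Normal := Cfsg.Agent.Transfer.Residual.pResidual_normal 2
  refine
    { even := heven
      syl := isSyl_top_of_sylow S
      Hn := fun g x hx => hHn.conj_mem x hx g
      HS := ?_
      odd := fun g hg => Cfsg.Agent.Transfer.Residual.mem_pResidual_of_coprime (Nat.coprime_two_right.2 hg)
      solc := fun z hz2 hz1 => hC z (Sit.ev_of_invol hz2 hz1)
      hZ := ?_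
      O1 := ?_
      O2 := ?_ }
  · intro g
    have h1 : g ∈ pResidual 2 G ⊔ (S : Subgroup G) := by
      rw [Cfsg.Agent.Transfer.Residual.pResidual_sup_sylow S]
      exact mem_top g
    rw [← SetLike.mem_coe, Subgroup.normal_mul, Set.mem_mul] at h1
    obtain ⟨x, hx, y, hy, hxy⟩ := h1
    exact ⟨x, hx, y, hy, hxy.symm⟩
  · intro g hg
    apply hZ
    rw [mem_centralizer_iff]
    intro x hx
    obtain ⟨h1, h2, h3⟩ := (mem_Z _ _).1 hx
    exact (hg x h1 h2 h3).symm
  · intro N hNn hNo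
    have h1 := Cfsg.Agent.Lib.Cores.le_pPrimeCore (p := 2) hNn (Nat.coprime_two_right.2 hNo)
    rw [hO'] at h1
    exact le_bot_iff.1 h1
  · intro N hNn hNp
    have h1 := Cfsg.Agent.Lib.Cores.le_pCore hNn hNp
    rw [hO] at h1
    exact le_bot_iff.1 h1

theorem residual_top {G : Type*} [Group G] : pResidual 2 (pResidual 2 G) = ⊤ := by
  rw [eq_top_iff]
  intro x _
  have h1 : pResidual 2 G ≤ (pResidual 2 (pResidual 2 G)).map (pResidual 2 G).subtype := by
    conv_lhs => rw [Cfsg.Agent.Transfer.Residual.pResidual_def]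
    rw [Subgroup.closure_le]
    intro g hg
    have hgH : g ∈ pResidual 2 G := Cfsg.Agent.Transfer.Residual.mem_pResidual_of_coprime hg
    refine ⟨⟨g, hgH⟩, Cfsg.Agent.Transfer.Residual.mem_pResidual_of_coprime ?_, rfl⟩
    rw [Subgroup.orderOf_mk]
    exact hg
  obtain ⟨y, hy, hyx⟩ := h1 x.2
  have h2 : y = x := Subtype.ext hyx
  rwa [← h2]

theorem not_isComponentType {G : Type*} [Group G] [Finite G] (H : Subgroup G)
    (hC : ∀ t : G, orderOf t = 2 → Group.IsSolvable ↥(Subgroup.centralizer ({t} : Set G))) :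
    ¬ IsComponentType H := by
  rintro ⟨t, ht, K, -, hK⟩
  have hs : Group.IsSolvable (Subgroup.centralizer ({(t : G)} : Set G)) := hC t (by
    rw [← ht]
    exact Subgroup.orderOf_coe t)
  let f : centralizer ({t} : Set H) →* centralizer ({(t : G)} : Set G) :=
    { toFun := fun c => ⟨((c : H) : G), by
        rw [mem_centralizer_singleton_iff]
        exact congrArg Subtype.val (mem_centralizer_singleton_iff.1 c.2)⟩
      map_one' := rfl
      map_mul' := fun _ _ => rfl }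
  have hs' : Group.IsSolvable (centralizer ({t} : Set H)) :=
    Group.isSolvable_of_isSolvable_injective (f := f) (fun x y hxy => by
      apply Subtype.ext
      apply Subtype.ext
      have h2 : ((f x : centralizer ({(t : G)} : Set G)) : G) = f y := by rw [hxy]
      exact h2)
  have hq : Group.IsSolvable (↥(Subgroup.centralizer ({t} : Set H)) ⧸
      oddCore ↥(Subgroup.centralizer ({t} : Set H))) := inferInstance
  exact Cfsg.Agent.Lib.ComponentSolvable.quasisimple_not_solvable hK inferInstance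


/-- Let G be a finite group of even order in which the centralizer of every involution is solvable and C_G(Ω₁(Z(S))) ≤ N_G(S) for every Sylow 2-subgroup S, with O_{2'}(G) = 1 = O₂(G). Fix a Sylow 2-subgroup S and put Z = Ω₁(Z(S)), H = O²(G), R = S ∩ H. Then H has a strongly embedded subgroup; or Z ∩ R has order 2 and is weakly closed in R with respect to H; or Z has order 4 and equals the subgroup generated by the involutions of R; or the subgroup HZ has local characteristic 2: it has even order and every 2-local subgroup L of HZ satisfies C_L(O₂(L)) ≤ O₂(L). -/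
theorem result {G : Type*} [Group G] [Finite G] (heven : Even (Nat.card G)) (hC : ∀ t : G, orderOf t = 2 → Group.IsSolvable ↥(Subgroup.centralizer ({t} : Set G))) (hZ : ∀ S : Sylow 2 G, Subgroup.centralizer (Cfsg.omegaOne 2 ((S : Subgroup G) ⊓ Subgroup.centralizer ((S : Subgroup G) : Set G)) : Set G) ≤ Subgroup.normalizer ((S : Subgroup G) : Set G)) (hO' : Cfsg.pPrimeCore 2 G = ⊥) (hO : Cfsg.pCore 2 G = ⊥) (S : Sylow 2 G) : (∃ M : Subgroup ↥(Cfsg.pResidual 2 G), Cfsg.IsStronglyEmbedded M) ∨ (Nat.card ↥(Cfsg.omegaOne 2 ((S : Subgroup G) ⊓ Subgroup.centralizer ((S : Subgroup G) : Set G)) ⊓ Cfsg.pResidual 2 G) = 2 ∧ ∀ h ∈ Cfsg.pResidual 2 G, ∀ z ∈ Cfsg.omegaOne 2 ((S : Subgroup G) ⊓ Subgroup.centralizer ((S : Subgroup G) : Set G)) ⊓ Cfsg.pResidual 2 G, h * z * h⁻¹ ∈ (S : Subgroup G) → h * z * h⁻¹ ∈ Cfsg.omegaOne 2 ((S : Subgroup G) ⊓ Subgroup.centralizer ((S : Subgroup G) : Set G))) ∨ (Nat.card ↥(Cfsg.omegaOne 2 ((S : Subgroup G) ⊓ Subgroup.centralizer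 ((S : Subgroup G) : Set G))) = 4 ∧ Cfsg.omegaOne 2 ((S : Subgroup G) ⊓ Cfsg.pResidual 2 G) = Cfsg.omegaOne 2 ((S : Subgroup G) ⊓ Subgroup.centralizer ((S : Subgroup G) : Set G))) ∨ Cfsg.IsCharacteristicTwoType ↥(Cfsg.pResidual 2 G ⊔ Cfsg.omegaOne 2 ((S : Subgroup G) ⊓ Subgroup.centralizer ((S : Subgroup G) : Set G))) := by
  have : Fact (Nat.Prime 2) := ⟨Nat.prime_two⟩
  have h := sit_of heven hC hO' hO S (hZ S)
  set H := pResidual 2 G with hH
  have hHn : H.Normal := Cfsg.Agent.Transfer.Residual.pResidual_normal 2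
  have hres : pResidual 2 H = ⊤ := residual_top
  obtain ⟨z, hz, hzH, hz1⟩ := h.exists_z
  have heH : Even (Nat.card H) := by
    have h1 : orderOf (⟨z, hzH⟩ : H) = 2 := by
      rw [Subgroup.orderOf_mk]
      exact Sit.ev_of_invol hz.2.1 hz1
    rw [even_iff_two_dvd, ← h1]
    exact _root_.orderOf_dvd_natCard _
  have hoddH : oddCore H = ⊥ := by
    have h1 := Cfsg.Agent.Lib.Cores.map_subtype_pPrimeCore 2 hHn
    rw [hO', inf_bot_eq, Subgroup.map_eq_bot_iff, Subgroup.ker_subtype] at h1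
    exact le_bot_iff.1 h1
  have hzS : omegaOne 2 ((S : Subgroup G) ⊓ centralizer ((S : Subgroup G) : Set G)) = zSub (S : Subgroup G) := by
    ext x
    rw [mem_Z, mem_zSub]
  -- the weakly closed case
  have hwc : (∀ x, InZ (S : Subgroup G) x → x ∈ H → x = 1 ∨ x = z) →
      (∀ k ∈ H, k * z * k⁻¹ ∈ (S : Subgroup G) → k * z * k⁻¹ = z) →
      (Nat.card ↥(Cfsg.omegaOne 2 ((S : Subgroup G) ⊓ Subgroup.centralizer ((S : Subgroup G) : Set G)) ⊓ H) = 2 ∧ ∀ h ∈ H, ∀ z ∈ Cfsg.omegaOne 2 ((S : Subgroup G) ⊓ Subgroup.centralizer ((S : Subgroup G) : Set G)) ⊓ H, h * z * h⁻¹ ∈ (S : Subgroup G) → h * z * h⁻¹ ∈ Cfsg.omegaOne 2 ((S : Subgroup G) ⊓ Subgroup.centralizer ((S : Subgroup G) : Set G))) := by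
    intro hu hw
    have hZH : omegaOne 2 ((S : Subgroup G) ⊓ centralizer ((S : Subgroup G) : Set G)) ⊓ H = Subgroup.zpowers z := by
      apply le_antisymm
      · intro x hx
        rw [mem_inf, mem_Z] at hx
        rcases hu x hx.1 hx.2 with h1 | h1
        · rw [h1]; exact one_mem _
        · rw [h1]; exact Subgroup.mem_zpowers z
      · rw [Subgroup.zpowers_le, mem_inf, mem_Z]
        exact ⟨hz, hzH⟩
    refine ⟨?_, ?_⟩
    · rw [hZH, Nat.card_zpowers]
      exact orderOf_eq_prime (by rw [pow_two]; exact hz.2.1) hz1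
    · intro k hk x hx hkx
      rw [mem_inf, mem_Z] at hx
      rw [mem_Z]
      rcases hu x hx.1 hx.2 with h1 | h1
      · rw [h1, mul_one, mul_inv_cancel]
        exact InZ.one
      · rw [h1] at hkx ⊢
        rw [hw k hk hkx]
        exact hz
  rcases Cfsg.Agent.S1296.result heH (fun N _ => Sit.index_ne_two hres N) hoddH with hr | hct | hch
  · -- 2-rank at most two
    by_cases h4 : ∃ y, InZ (S : Subgroup G) y ∧ y ∈ H ∧ y ≠ 1 ∧ y ≠ z
    · obtain ⟨y, hy, hyH, hy1, hyz⟩ := h4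
      have hf : Four z y := ⟨hz.2.1, hy.2.1, hz.2.2 y hy.1, hz1, hy1, fun h => hyz h.symm⟩
      obtain ⟨hT, hle⟩ := h.four_case hr hf hz hy hzH hyH
      have hVZ : ∀ x ∈ fourGroup hf, InZ (S : Subgroup G) x := by
        intro x hx
        rcases (mem_fourGroup hf).1 hx with rfl | rfl | rfl | rfl
        · exact InZ.one
        · exact hz
        · exact hy
        · exact hz.mul hy
      have hVH : ∀ x ∈ fourGroup hf, x ∈ H := by
        intro x hx
        rcases (mem_fourGroup hf).1 hx with rfl | rfl | rfl | rfl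
        · exact one_mem _
        · exact hzH
        · exact hyH
        · exact mul_mem hzH hyH
      have hZ4 : omegaOne 2 ((S : Subgroup G) ⊓ centralizer ((S : Subgroup G) : Set G)) = fourGroup hf := by
        ext x
        rw [mem_Z]
        exact ⟨fun hx => hT x (mem_inf.2 ⟨hx.1, hle x hx⟩) hx.2.1, hVZ x⟩
      have hR4 : omegaOne 2 ((S : Subgroup G) ⊓ H) = fourGroup hf := by
        apply le_antisymm
        · unfold omegaOne
          rw [Subgroup.closure_le]
          rintro x ⟨hx, hx2⟩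
          exact hT x hx (by rw [← pow_two]; exact hx2)
        · intro x hx
          exact Subgroup.subset_closure ⟨mem_inf.2 ⟨(hVZ x hx).1, hVH x hx⟩, by rw [pow_two]; exact (hVZ x hx).2.1⟩
      refine Or.inr (Or.inr (Or.inl ⟨?_, ?_⟩))
      · rw [hZ4]
        exact card_fourGroup hf
      · rw [hR4, hZ4]
    · push Not at h4
      have hu : ∀ x, InZ (S : Subgroup G) x → x ∈ H → x = 1 ∨ x = z := by
        intro x hx hxH
        by_cases hx1 : x = 1
        · exact Or.inl hx1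
        · exact Or.inr (h4 x hx hxH hx1)
      by_cases hw : ∀ k ∈ H, k * z * k⁻¹ ∈ (S : Subgroup G) → k * z * k⁻¹ = z
      · exact Or.inr (Or.inl (hwc hu hw))
      · push Not at hw
        obtain ⟨k, hk, hkS, hkz⟩ := hw
        by_cases huR : ∀ y ∈ (S : Subgroup G) ⊓ H, y * y = 1 → (∀ r ∈ (S : Subgroup G) ⊓ H, r * y = y * r) →
            y = 1 ∨ y = z
        · rcases h.case_B_core hr hres hz hz1 hzH hu huR hk hkS hkz with h1 | h1
          · exact Or.inl h1
          · right; right; right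
            have hch := h.char_of_core hz hz1 hzH h1 (fun t htH ht2 ht1 =>
              h.one_class hr hres hz hz1 hzH hu huR hk hkS hkz htH ht2 ht1)
            rw [hzS]
            exact h.char_join hch hz hz1 hzH (mem_inf.2 ⟨hkS, h.Hn k z hzH⟩) (conj_sq k hz.2.1)
              (conj_ne_one k hz1) hkz
        · push Not at huR
          obtain ⟨y, hy, hy2, hyc, hy1, hyz⟩ := huR
          exact Or.inl (h.case_A hr hz hz1 hzH hu hy hy2 hy1 hyz hyc hkS hkz)
  · exact absurd hct (not_isComponentType H hC)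
  · -- characteristic 2 type
    by_cases hx : ∃ x ∈ (S : Subgroup G) ⊓ H, x * x = 1 ∧ x ≠ 1 ∧ x ≠ z
    · obtain ⟨x, hx, hx2, hx1, hxz⟩ := hx
      right; right; right
      rw [hzS]
      exact h.char_join hch hz hz1 hzH hx hx2 hx1 hxz
    · push Not at hx
      right; left
      apply hwc
      · intro x hxZ hxH
        by_cases hx1 : x = 1
        · exact Or.inl hx1
        · exact Or.inr (hx x (mem_inf.2 ⟨hxZ.1, hxH⟩) hxZ.2.1 hx1)
      · intro k hk hkS
        exact hx _ (mem_inf.2 ⟨hkS, h.Hn k z hzH⟩) (conj_sq k hz.2.1) (conj_ne_one k hz1)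

end Cfsg.Agent.S3759
end
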