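import Cfsg.Statements.S3824
import Mathlib
import Cfsg.Agent.S0564
set_option linter.all false

set_option autoImplicit false
open Cfsg

namespace Cfsg.Agent.S3824

/-- If the index of `A` is a power of `2` and `P` is a Sylow `2`-subgroup then `G = P * A`. -/
theorem exists_mul_eq {G : Type*} [Group G] [Finite G] (A : Subgroup G) (k : ℕ)
    (hk : A.index = 2 ^ k) (P : Sylow 2 G) (g : G) :
    ∃ x ∈ (P : Subgroup G), ∃ a ∈ A, g = x * a := by
  have h1 : (A ⊓ P).relIndex A * A.index = (A ⊓ (P : Subgroup G)).index :=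
    Subgroup.relIndex_mul_index inf_le_left
  have h2 : (A ⊓ P).relIndex (P : Subgroup G) * (P : Subgroup G).index
      = (A ⊓ (P : Subgroup G)).index := Subgroup.relIndex_mul_index inf_le_right
  have hP : Nat.Coprime (2 ^ k) (P : Subgroup G).index :=
    (Nat.Prime.coprime_pow_of_not_dvd Nat.prime_two P.not_dvd_index).symm
  have h3 : 2 ^ k ∣ (A ⊓ P).relIndex (P : Subgroup G) := by
    refine hP.dvd_of_dvd_mul_right ?_
    rw [h2, ← h1, hk]
    exact dvd_mul_left _ _
  have h4 : Nat.card ((P : Subgroup G) ⧸ (A.subgroupOf (P : Subgroup G))) = A.index := by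
    have h5 : A.relIndex (P : Subgroup G) ≤ A.index := by
      have := Subgroup.relIndex_le_of_le_right (H := A) (K := (P : Subgroup G)) (L := ⊤) le_top
        (by rw [Subgroup.relIndex_top_right]; exact Subgroup.index_ne_zero_of_finite)
      rwa [Subgroup.relIndex_top_right] at this
    have h6 : A.relIndex (P : Subgroup G) ≠ 0 := by
      rw [Subgroup.relIndex]; exact Subgroup.index_ne_zero_of_finite
    rw [Subgroup.inf_relIndex_right] at h3
    have h7 := Nat.le_of_dvd (Nat.pos_of_ne_zero h6) h3
    show A.relIndex (P : Subgroup G) = A.index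
    omega
  let f : (P : Subgroup G) ⧸ (A.subgroupOf (P : Subgroup G)) → G ⧸ A :=
    Quotient.map' (fun x => (x : G)) (by
      intro a b hab
      rw [QuotientGroup.leftRel_apply] at hab ⊢
      simpa [Subgroup.mem_subgroupOf] using hab)
  have hf : Function.Injective f := by
    rintro ⟨a⟩ ⟨b⟩ hab
    have : (a : G)⁻¹ * b ∈ A := QuotientGroup.eq.mp hab
    refine QuotientGroup.eq.mpr ?_
    simpa [Subgroup.mem_subgroupOf] using this
  have hcard : Nat.card ((P : Subgroup G) ⧸ (A.subgroupOf (P : Subgroup G)))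
      = Nat.card (G ⧸ A) := h4
  have hb : Function.Bijective f :=
    (Nat.bijective_iff_injective_and_card f).mpr ⟨hf, hcard⟩
  obtain ⟨⟨x⟩, hx⟩ := hb.2 (g : G ⧸ A)
  have : (x : G)⁻¹ * g ∈ A := QuotientGroup.eq.mp hx
  exact ⟨x, x.2, _, this, by group⟩

/-- Every finite group having an abelian subgroup whose index is a power of 2 is solvable. -/
theorem result {G : Type*} [Group G] [Finite G]
    (A : Subgroup G) (hA : IsMulCommutative A) (hidx : ∃ k : ℕ, A.index = 2 ^ k) : Group.IsSolvable G := by
  obtain ⟨k, hk⟩ := hidx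
  obtain ⟨P⟩ : Nonempty (Sylow 2 G) := inferInstance
  have hPn : Group.IsNilpotent (P : Subgroup G) := P.isPGroup'.isNilpotent
  have hAn : Group.IsNilpotent A := by
    letI : CommGroup A := { (inferInstance : Group A) with mul_comm := hA.is_comm.comm }
    exact CommGroup.isNilpotent
  exact Cfsg.Agent.S0564.result (P : Subgroup G) A hPn hAn
    (fun g => by
      obtain ⟨x, hx, a, ha, h⟩ := exists_mul_eq A k hk P g
      exact ⟨x, hx, a, ha, h⟩)

end Cfsg.Agent.S3824
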