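import Cfsg.Statements.S3862
import Cfsg.Agent.Lib.CoprimeCommutator
import Cfsg.Agent.Lib.CoprimeStab
import Cfsg.Agent.S0071
set_option linter.all false

set_option autoImplicit false
open Cfsg
open scoped commutatorElement

namespace Cfsg.Agent.S3862

open Cfsg.Agent.Lib

variable {G : Type*} [Group G]

/-- conjugation form of normalising -/
theorem conj_mem_of_le_normalizer {A Q : Subgroup G} (h : A ≤ Subgroup.normalizer (Q : Set G))
    {a x : G} (ha : a ∈ A) (hx : x ∈ Q) : a * x * a⁻¹ ∈ Q :=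
  (Subgroup.mem_normalizer_iff.mp (h ha) x).mp hx

theorem le_normalizer_of_conj {A Q : Subgroup G} (h : ∀ a ∈ A, ∀ x ∈ Q, a * x * a⁻¹ ∈ Q) :
    A ≤ Subgroup.normalizer (Q : Set G) := by
  intro a ha
  rw [Subgroup.mem_normalizer_iff]
  intro x
  refine ⟨h a ha x, fun hx => ?_⟩
  have h1 := h a⁻¹ (A.inv_mem ha) _ hx
  have h2 : a⁻¹ * (a * x * a⁻¹) * a⁻¹⁻¹ = x := by group
  rwa [h2] at h1

/-- If all the real `2`-elements are central, elements of odd order centralise the `2`-subgroups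
they normalise. -/
theorem le_centralizer [Finite G]
    (h : ∀ x : G, (∃ j : ℕ, orderOf x = 2 ^ j) → IsConj x x⁻¹ → x ∈ Subgroup.center G)
    (n : ℕ) : ∀ (Q A : Subgroup G), Nat.card Q = n → IsPGroup 2 Q → (Nat.card A).Coprime 2 →
      A ≤ Subgroup.normalizer (Q : Set G) → A ≤ Subgroup.centralizer (Q : Set G) := by
  induction n using Nat.strong_induction_on with
  | _ n ih =>
  intro Q A hn hQ hA hAQ
  by_contra hcon
  have hcop : (Nat.card A).Coprime (Nat.card Q) := by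
    obtain ⟨k, hk⟩ := IsPGroup.iff_card.mp hQ
    rw [hk]; exact hA.pow_right k
  have IH : ∀ R : Subgroup G, R ≤ Q → R ≠ Q → (∀ a ∈ A, ∀ x ∈ R, a * x * a⁻¹ ∈ R) →
      ∀ x ∈ R, ∀ a ∈ A, a * x = x * a := by
    intro R hR hne hn' x hx a ha
    have hlt : Nat.card R < n := by
      rw [← hn]
      refine lt_of_le_of_ne (Subgroup.card_le_of_le hR) (fun h => hne ?_)
      exact Subgroup.eq_of_le_of_card_ge hR h.ge
    have h1 := ih _ hlt R A rfl (hQ.to_le hR) hA (le_normalizer_of_conj hn')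
    exact (Subgroup.mem_centralizer_iff.mp (h1 ha) x hx).symm
  have hconjQ : ∀ a ∈ A, ∀ x ∈ Q, a * x * a⁻¹ ∈ Q := fun a ha x hx =>
    conj_mem_of_le_normalizer hAQ ha hx
  -- `[Q, A] = Q`
  have hQA : ⁅Q, A⁆ = Q := by
    by_contra hne
    apply hcon
    apply CoprimeCommutator.le_centralizer_of_commutator A Q hAQ hcop
    intro a ha
    rw [Subgroup.mem_centralizer_iff]
    intro x hx
    exact (IH _ (CoprimeCommutator.commutator_le_left hAQ) hne (fun a ha x hx =>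
      conj_mem_of_le_normalizer (CoprimeCommutator.right_le_normalizer_commutator Q A) ha hx)
      x hx a ha).symm
  have hQne : Q ≠ ⊥ := by
    rintro rfl
    apply hcon
    intro a _
    rw [Subgroup.mem_centralizer_iff]
    intro x hx
    rw [SetLike.mem_coe, Subgroup.mem_bot] at hx
    simp [hx]
  -- the subgroup generated by the squares
  let V : Subgroup G := Subgroup.closure {x | ∃ y ∈ Q, x = y ^ 2}
  have hVQ : V ≤ Q := by
    rw [Subgroup.closure_le]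
    rintro _ ⟨y, hy, rfl⟩
    exact Q.pow_mem hy 2
  have hsqV : ∀ y ∈ Q, y ^ 2 ∈ V := fun y hy => Subgroup.subset_closure ⟨y, hy, rfl⟩
  have hVne : V ≠ Q := by
    intro hV
    have hnt : Nontrivial Q := (Subgroup.nontrivial_iff_ne_bot Q).mpr hQne
    obtain ⟨M, hMn, hMi, hMp, hMc⟩ := CoprimeStab.exists_normal_index_prime Q hQ
    have h1 : V ≤ M.map Q.subtype := by
      rw [Subgroup.closure_le]
      rintro _ ⟨y, hy, rfl⟩
      exact ⟨⟨y, hy⟩ ^ 2, hMp ⟨y, hy⟩, rfl⟩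
    have h2 : M = ⊤ := by
      rw [eq_top_iff]
      intro x _
      have : (x : G) ∈ V := by rw [hV]; exact x.2
      obtain ⟨y, hy, hyx⟩ := h1 this
      have : y = x := Subtype.ext hyx
      rwa [← this]
    rw [h2, Subgroup.index_top] at hMi
    omega
  have hVconj : ∀ a ∈ A, ∀ x ∈ V, a * x * a⁻¹ ∈ V := by
    intro a ha x hx
    induction hx using Subgroup.closure_induction with
    | mem y hy =>
      obtain ⟨z, hz, rfl⟩ := hy
      have : a * z ^ 2 * a⁻¹ = (a * z * a⁻¹) ^ 2 := by rw [pow_two, pow_two]; group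
      rw [this]
      exact hsqV _ (hconjQ a ha z hz)
    | one => simpa using V.one_mem
    | mul y z _ _ hy hz =>
      have : a * (y * z) * a⁻¹ = (a * y * a⁻¹) * (a * z * a⁻¹) := by group
      rw [this]; exact V.mul_mem hy hz
    | inv y _ hy =>
      have : a * y⁻¹ * a⁻¹ = (a * y * a⁻¹)⁻¹ := by group
      rw [this]; exact V.inv_mem hy
  have hVA := IH V hVQ hVne hVconj
  have hcommV : ∀ x ∈ Q, ∀ y ∈ Q, x * y * x⁻¹ * y⁻¹ ∈ V := by
    intro x hx y hy
    have : x * y * x⁻¹ * y⁻¹ = x ^ 2 * (x⁻¹ * y) ^ 2 * (y⁻¹) ^ 2 * 1 := by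
      rw [pow_two, pow_two, pow_two]; group
    rw [this]
    exact V.mul_mem (V.mul_mem (V.mul_mem (hsqV x hx) (hsqV _ (Q.mul_mem (Q.inv_mem hx) hy)))
      (hsqV _ (Q.inv_mem hy))) V.one_mem
  -- proper invariant normal subgroups of `Q` are central in `Q`
  have hcent : ∀ R : Subgroup G, R ≤ Q → R ≠ Q → (∀ a ∈ A, ∀ x ∈ R, a * x * a⁻¹ ∈ R) →
      (∀ q ∈ Q, ∀ x ∈ R, q * x * q⁻¹ ∈ R) → ∀ x ∈ R, ∀ q ∈ Q, q * x = x * q := by
    intro R hRQ hRne hRA hRn
    have hc := IH R hRQ hRne hRA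
    have h1 : ⁅A, R⁆ = (⊥ : Subgroup G) := by
      rw [Subgroup.commutator_eq_bot_iff_le_centralizer]
      intro a ha
      rw [Subgroup.mem_centralizer_iff]
      intro x hx
      exact (hc x hx a ha).symm
    have h2 : ⁅R, Q⁆ ≤ R := by
      rw [Subgroup.commutator_le]
      intro x hx q hq
      rw [commutatorElement_def]
      have : x * q * x⁻¹ * q⁻¹ = x * (q * x⁻¹ * q⁻¹) := by group
      rw [this]
      exact R.mul_mem hx (hRn q hq _ (R.inv_mem hx))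
    have h3 : ⁅⁅R, Q⁆, A⁆ = (⊥ : Subgroup G) := by
      rw [eq_bot_iff]
      calc ⁅⁅R, Q⁆, A⁆ ≤ ⁅R, A⁆ := Subgroup.commutator_mono h2 le_rfl
        _ = ⊥ := by rw [Subgroup.commutator_comm, h1]
    have h4 : ⁅⁅A, R⁆, Q⁆ = (⊥ : Subgroup G) := by rw [h1]; exact Subgroup.commutator_bot_left Q
    have h5 := Subgroup.commutator_commutator_eq_bot_of_rotate h4 h3
    -- ⁅⁅Q, A⁆, R⁆ = ⊥
    rw [hQA, Subgroup.commutator_eq_bot_iff_le_centralizer] at h5
    intro x hx q hq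
    exact (Subgroup.mem_centralizer_iff.mp (h5 hq) x hx).symm
  have hVn : ∀ q ∈ Q, ∀ x ∈ V, q * x * q⁻¹ ∈ V := by
    intro q hq x hx
    have : q * x * q⁻¹ = (q * x * q⁻¹ * x⁻¹) * x := by group
    rw [this]
    exact V.mul_mem (hcommV q hq x (hVQ hx)) hx
  have hVc := hcent V hVQ hVne hVconj hVn
  -- the derived subgroup
  let F : Subgroup G := ⁅Q, Q⁆
  have hFV : F ≤ V := by
    rw [Subgroup.commutator_le]
    intro x hx y hy
    exact hcommV x hx y hy
  have hFQ : F ≤ Q := hFV.trans hVQ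
  -- `[Q, A]^2 ≤ F`
  have hsqF : ∀ x ∈ Q, x ^ 2 ∈ F := by
    -- the subgroup of elements with square in `F`
    have hswap : ∀ x ∈ Q, ∀ y ∈ Q, x * y * x⁻¹ * y⁻¹ ∈ F := fun x hx y hy =>
      Subgroup.commutator_mem_commutator hx hy
    have hFc : ∀ f ∈ F, ∀ q ∈ Q, q * f = f * q := fun f hf => hVc f (hFV hf)
    have hmulsq : ∀ x ∈ Q, ∀ y ∈ Q, ∃ f ∈ F, (x * y) ^ 2 = x ^ 2 * y ^ 2 * f := by
      intro x hx y hy
      have hf := hswap y⁻¹ (Q.inv_mem hy) x⁻¹ (Q.inv_mem hx)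
      refine ⟨y⁻¹ * x⁻¹ * y⁻¹⁻¹ * x⁻¹⁻¹, hf, ?_⟩
      have h1 := hFc _ hf y hy
      have h2 := hFc _ hf (y * y) (Q.mul_mem hy hy)
      calc (x * y) ^ 2 = x * x * y * (y⁻¹ * x⁻¹ * y⁻¹⁻¹ * x⁻¹⁻¹) * y := by rw [pow_two]; group
        _ = x * x * (y * (y⁻¹ * x⁻¹ * y⁻¹⁻¹ * x⁻¹⁻¹)) * y := by group
        _ = x * x * ((y⁻¹ * x⁻¹ * y⁻¹⁻¹ * x⁻¹⁻¹) * y) * y := by rw [h1]
        _ = x * x * ((y⁻¹ * x⁻¹ * y⁻¹⁻¹ * x⁻¹⁻¹) * (y * y)) := by group
        _ = x * x * ((y * y) * (y⁻¹ * x⁻¹ * y⁻¹⁻¹ * x⁻¹⁻¹)) := by rw [h2]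
        _ = _ := by rw [pow_two, pow_two]; group
    let T : Subgroup G :=
      { carrier := {x | x ∈ Q ∧ x ^ 2 ∈ F}
        one_mem' := ⟨Q.one_mem, by simpa using F.one_mem⟩
        mul_mem' := by
          rintro x y ⟨hx, hx2⟩ ⟨hy, hy2⟩
          refine ⟨Q.mul_mem hx hy, ?_⟩
          obtain ⟨f, hf, he⟩ := hmulsq x hx y hy
          rw [he]
          exact F.mul_mem (F.mul_mem hx2 hy2) hf
        inv_mem' := by
          rintro x ⟨hx, hx2⟩
          refine ⟨Q.inv_mem hx, ?_⟩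
          rw [inv_pow]
          exact F.inv_mem hx2 }
    have hT : Q ≤ T := by
      rw [← hQA, Subgroup.commutator_le]
      intro x hx a ha
      rw [commutatorElement_def]
      have hx' : a * x⁻¹ * a⁻¹ ∈ Q := hconjQ a ha _ (Q.inv_mem hx)
      have h1 : x * a * x⁻¹ * a⁻¹ = x * (a * x⁻¹ * a⁻¹) := by group
      refine ⟨by rw [h1]; exact Q.mul_mem hx hx', ?_⟩
      obtain ⟨f, hf, he⟩ := hmulsq x hx _ hx'
      rw [h1, he]
      have h2 : (a * x⁻¹ * a⁻¹) ^ 2 = (x ^ 2)⁻¹ := by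
        have h3 : a * (x ^ 2)⁻¹ = (x ^ 2)⁻¹ * a :=
          hVA _ (V.inv_mem (hsqV x hx)) a ha
        calc (a * x⁻¹ * a⁻¹) ^ 2 = a * (x ^ 2)⁻¹ * a⁻¹ := by rw [pow_two, pow_two]; group
          _ = _ := by rw [h3]; group
      rw [h2, mul_inv_cancel, one_mul]
      exact hf
    exact fun x hx => (hT hx).2
  have hFc : ∀ f ∈ F, ∀ q ∈ Q, q * f = f * q := fun f hf => hVc f (hFV hf)
  -- noncentral elements: `[x, Q] = F`
  have hkey : ∀ x ∈ Q, (∃ q ∈ Q, q * x ≠ x * q) → ∀ f ∈ F, ∃ q ∈ Q, q * x * q⁻¹ * x⁻¹ = f := by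
    intro x hx hxc
    have hcF : ∀ x ∈ Q, ∀ y ∈ Q, x * y * x⁻¹ * y⁻¹ ∈ F := fun x hx y hy =>
      Subgroup.commutator_mem_commutator hx hy
    -- `(q q') x (q q')⁻¹ x⁻¹ = q (c(q')) x q⁻¹ x⁻¹ = c(q) c(q')`
    have hmulL : ∀ y ∈ Q, ∀ q ∈ Q, ∀ r ∈ Q, (q * r) * y * (q * r)⁻¹ * y⁻¹ =
        (q * y * q⁻¹ * y⁻¹) * (r * y * r⁻¹ * y⁻¹) := by
      intro y hy q hq r hr
      have h1 := hFc _ (hcF r hr y hy) q hq
      have h2 := hFc _ (hcF r hr y hy) (y * q⁻¹ * y⁻¹)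
        (Q.mul_mem (Q.mul_mem hy (Q.inv_mem hq)) (Q.inv_mem hy))
      calc (q * r) * y * (q * r)⁻¹ * y⁻¹
          = (q * (r * y * r⁻¹ * y⁻¹)) * (y * q⁻¹ * y⁻¹) := by group
        _ = ((r * y * r⁻¹ * y⁻¹) * q) * (y * q⁻¹ * y⁻¹) := by rw [h1]
        _ = (r * y * r⁻¹ * y⁻¹) * (q * y * q⁻¹ * y⁻¹) := by group
        _ = (q * y * q⁻¹ * y⁻¹) * (r * y * r⁻¹ * y⁻¹) :=
            (hFc _ (hcF q hq y hy) _ (hFQ (hcF r hr y hy)))
    let D : Subgroup G :=
      { carrier := {d | ∃ q ∈ Q, q * x * q⁻¹ * x⁻¹ = d}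
        one_mem' := ⟨1, Q.one_mem, by group⟩
        mul_mem' := by
          rintro _ _ ⟨q, hq, rfl⟩ ⟨r, hr, rfl⟩
          exact ⟨q * r, Q.mul_mem hq hr, hmulL x hx q hq r hr⟩
        inv_mem' := by
          rintro _ ⟨q, hq, rfl⟩
          refine ⟨q⁻¹, Q.inv_mem hq, ?_⟩
          have h1 := hmulL x hx q hq q⁻¹ (Q.inv_mem hq)
          rw [mul_inv_cancel] at h1
          have h2 : (1 : G) * x * 1⁻¹ * x⁻¹ = 1 := by group
          rw [h2] at h1
          exact (inv_eq_of_mul_eq_one_right h1.symm).symm }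
    have hDF : D ≤ F := by
      rintro _ ⟨q, hq, rfl⟩
      exact hcF q hq x hx
    -- commutators in the second variable
    have hmulR : ∀ q ∈ Q, ∀ y ∈ Q, ∀ z ∈ Q, q * (y * z) * q⁻¹ * (y * z)⁻¹ =
        (q * y * q⁻¹ * y⁻¹) * (q * z * q⁻¹ * z⁻¹) := by
      intro q hq y hy z hz
      have h1 := hFc _ (hcF q hq z hz) y hy
      calc q * (y * z) * q⁻¹ * (y * z)⁻¹
          = q * y * q⁻¹ * (q * z * q⁻¹ * z⁻¹) * y⁻¹ := by group
        _ = q * y * q⁻¹ * y⁻¹ * (y * (q * z * q⁻¹ * z⁻¹)) * y⁻¹ := by group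
        _ = q * y * q⁻¹ * y⁻¹ * ((q * z * q⁻¹ * z⁻¹) * y) * y⁻¹ := by rw [h1]
        _ = _ := by group
    let Y : Subgroup G :=
      { carrier := {y | y ∈ Q ∧ ∀ q ∈ Q, q * y * q⁻¹ * y⁻¹ ∈ D}
        one_mem' := ⟨Q.one_mem, fun q hq => by simpa using D.one_mem⟩
        mul_mem' := by
          rintro y z ⟨hy, hy2⟩ ⟨hz, hz2⟩
          refine ⟨Q.mul_mem hy hz, fun q hq => ?_⟩
          rw [hmulR q hq y hy z hz]
          exact D.mul_mem (hy2 q hq) (hz2 q hq)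
        inv_mem' := by
          rintro y ⟨hy, hy2⟩
          refine ⟨Q.inv_mem hy, fun q hq => ?_⟩
          have h1 := hmulR q hq y hy y⁻¹ (Q.inv_mem hy)
          rw [mul_inv_cancel] at h1
          have h2 : q * (1 : G) * q⁻¹ * 1⁻¹ = 1 := by group
          rw [h2] at h1
          rw [← inv_eq_of_mul_eq_one_right h1.symm]
          exact D.inv_mem (hy2 q hq) }
    have hYQ : Y ≤ Q := fun y hy => hy.1
    have hxY : x ∈ Y := ⟨hx, fun q hq => ⟨q, hq, rfl⟩⟩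
    have hDA : ∀ d ∈ D, ∀ a ∈ A, a * d * a⁻¹ = d := by
      intro d hd a ha
      rw [hVA d (hFV (hDF hd)) a ha]; group
    have hYA : ∀ a ∈ A, ∀ y ∈ Y, a * y * a⁻¹ ∈ Y := by
      intro a ha y hy
      refine ⟨hconjQ a ha y hy.1, fun q hq => ?_⟩
      have hq' : a⁻¹ * q * a ∈ Q := by
        have := hconjQ a⁻¹ (A.inv_mem ha) q hq
        rwa [inv_inv] at this
      have h1 := hDA _ (hy.2 _ hq') a ha
      have h2 : q * (a * y * a⁻¹) * q⁻¹ * (a * y * a⁻¹)⁻¹ =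
          a * ((a⁻¹ * q * a) * y * (a⁻¹ * q * a)⁻¹ * y⁻¹) * a⁻¹ := by group
      rw [h2, h1]
      exact hy.2 _ hq'
    have hYn : ∀ q ∈ Q, ∀ y ∈ Y, q * y * q⁻¹ ∈ Y := by
      intro q hq y hy
      have h1 : q * y * q⁻¹ = (q * y * q⁻¹ * y⁻¹) * y := by group
      rw [h1]
      refine Y.mul_mem ?_ hy
      refine ⟨hFQ (hcF q hq y hy.1), fun r hr => ?_⟩
      rw [hFc _ (hcF q hq y hy.1) r hr]
      have h2 : (q * y * q⁻¹ * y⁻¹) * r * r⁻¹ * (q * y * q⁻¹ * y⁻¹)⁻¹ = 1 := by group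
      rw [h2]
      exact D.one_mem
    by_cases hYne : Y = Q
    · -- then `F ≤ D`
      have hFD : F ≤ D := by
        rw [Subgroup.commutator_le]
        intro q hq y hy
        rw [commutatorElement_def]
        rw [← hYne] at hy
        exact hy.2 q hq
      intro f hf
      exact hFD hf
    · exfalso
      obtain ⟨q, hq, hne⟩ := hxc
      exact hne (hcent Y hYQ hYne hYA hYn x hxY q hq)
  -- all the elements of `Q` are centralised by `A`
  apply hcon
  intro a ha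
  rw [Subgroup.mem_centralizer_iff]
  intro x hx
  have h2el : ∀ x ∈ Q, ∃ j : ℕ, orderOf x = 2 ^ j := by
    intro x hx
    obtain ⟨k, hk⟩ := (IsPGroup.iff_orderOf (p := 2)).mp hQ ⟨x, hx⟩
    exact ⟨k, by rw [← hk, Subgroup.orderOf_mk]⟩
  by_cases hxc : ∃ q ∈ Q, q * x ≠ x * q
  · obtain ⟨q, hq, he⟩ := hkey x hx hxc (x ^ 2)⁻¹ (F.inv_mem (hsqF x hx))
    have hreal : IsConj x x⁻¹ := by
      rw [isConj_iff]
      refine ⟨q, ?_⟩
      have h1 : q * x * q⁻¹ = (q * x * q⁻¹ * x⁻¹) * x := by group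
      rw [h1, he, pow_two]; group
    have := h x (h2el x hx) hreal
    exact (Subgroup.mem_center_iff.mp this a).symm
  · push Not at hxc
    -- the centre of `Q`
    let Z : Subgroup G := Q ⊓ Subgroup.centralizer (Q : Set G)
    have hxZ : x ∈ Z := ⟨hx, by
      show x ∈ Subgroup.centralizer (Q : Set G)
      rw [Subgroup.mem_centralizer_iff]; exact hxc⟩
    by_cases hZ : Z = Q
    · -- `Q` abelian
      have hab : ∀ y ∈ Q, ∀ z ∈ Q, y * z = z * y := by
        intro y hy z hz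
        rw [← hZ] at hz
        exact Subgroup.mem_centralizer_iff.mp hz.2 y hy
      have hF : F = ⊥ := by
        rw [eq_bot_iff, Subgroup.commutator_le]
        intro y hy z hz
        rw [commutatorElement_def, hab y hy z hz]
        simp
      have hx2 : x ^ 2 = 1 := by
        have := hsqF x hx
        rwa [hF, Subgroup.mem_bot] at this
      have hreal : IsConj x x⁻¹ := by
        rw [isConj_iff]
        refine ⟨1, ?_⟩
        rw [one_mul, inv_one, mul_one]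
        exact eq_inv_of_mul_eq_one_left (by rw [← pow_two]; exact hx2)
      have := h x (h2el x hx) hreal
      exact (Subgroup.mem_center_iff.mp this a).symm
    · have hZA : ∀ a ∈ A, ∀ y ∈ Z, a * y * a⁻¹ ∈ Z := by
        intro a ha y hy
        refine ⟨hconjQ a ha y hy.1, ?_⟩
        show _ ∈ Subgroup.centralizer (Q : Set G)
        rw [Subgroup.mem_centralizer_iff]
        intro q hq
        have hq' : a⁻¹ * q * a ∈ Q := by
          have := hconjQ a⁻¹ (A.inv_mem ha) q hq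
          rwa [inv_inv] at this
        have h1 : (a⁻¹ * q * a) * y = y * (a⁻¹ * q * a) :=
          Subgroup.mem_centralizer_iff.mp hy.2 _ hq'
        calc q * (a * y * a⁻¹) = a * ((a⁻¹ * q * a) * y) * a⁻¹ := by group
          _ = a * (y * (a⁻¹ * q * a)) * a⁻¹ := by rw [h1]
          _ = _ := by group
      exact (IH Z inf_le_left hZ hZA x hxZ a ha).symm

/-- If every 2-element of the finite group G that is conjugate to its inverse lies in the centre of G, then G has a normal 2-complement. -/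
theorem result {G : Type*} [Group G] [Finite G] (h : ∀ x : G, (∃ j : ℕ, orderOf x = 2 ^ j) → IsConj x x⁻¹ → x ∈ Subgroup.center G) : Cfsg.HasNormalPComplement 2 G := by
  have : Fact (Nat.Prime 2) := ⟨Nat.prime_two⟩
  obtain ⟨P⟩ : Nonempty (Sylow 2 G) := inferInstance
  obtain ⟨N, hN, hNP⟩ := (Cfsg.Agent.S0071.result P).mpr (by
    intro Q hQ g hg hgo
    have h1 := le_centralizer h _ Q (Subgroup.zpowers g) rfl (P.isPGroup'.to_le hQ)
      (by rw [Nat.card_zpowers]; exact hgo) (by rw [Subgroup.zpowers_le]; exact hg)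
    exact h1 (Subgroup.mem_zpowers g))
  exact ⟨P, N, hN, hNP⟩

end Cfsg.Agent.S3862
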