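import Cfsg.Statements.S3869
import Cfsg.Agent.H469.MinClosed
set_option linter.all false

set_option autoImplicit false
open Cfsg

namespace Cfsg.Agent.S3869

open Subgroup Cfsg.Agent.H469

theorem pclosed_of_isPGroup {H : Type*} [Group H] {p : ℕ}
    (h : IsPGroup p H) : Cfsg.IsPClosed p H := by
  intro P
  have : (P : Subgroup H) = ⊤ := by
    have h1 : IsPGroup p (⊤ : Subgroup H) := h.to_subgroup ⊤
    exact (P.is_maximal' h1 le_top).symm
  rw [this]
  infer_instance

theorem pclosed_of_not_dvd {H : Type*} [Group H] [Finite H] {p : ℕ} [Fact p.Prime]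
    (h : ¬ p ∣ Nat.card H) : Cfsg.IsPClosed p H := by
  intro P
  have : (P : Subgroup H) = ⊥ := by
    rw [← Subgroup.card_eq_one, P.card_eq_multiplicity, Nat.factorization_eq_zero_of_not_dvd h,
      pow_zero]
  rw [this]
  infer_instance

/-- Let p and q be distinct primes and G a finite non-abelian group with a normal elementary abelian q-subgroup A that is a minimal normal subgroup of G and has index p. Then A has order q^e with e the multiplicative order of q modulo p, and G is minimal non-p-closed: its Sylow p-subgroups are not normal, while in every proper subgroup and in every proper quotient of G the Sylow p-subgroups are normal. -/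
theorem result {G : Type*} [Group G] [Finite G] {p q : ℕ} [Fact p.Prime] (hq : q.Prime) (hpq : q ≠ p)
    (hna : ¬ IsMulCommutative G) (A : Subgroup G) [A.Normal] (hA : Cfsg.IsElementaryAbelian q A) (hidx : A.index = p)
    (hmin : ∀ B : Subgroup G, B.Normal → B ≤ A → B = ⊥ ∨ B = A) :
    Nat.card ↥A = q ^ orderOf (q : ZMod p) ∧ ¬ Cfsg.IsPClosed p G ∧ (∀ H : Subgroup G, H ≠ ⊤ → Cfsg.IsPClosed p ↥H) ∧
      ∀ (N : Subgroup G) [N.Normal], N ≠ ⊥ → Cfsg.IsPClosed p (G ⧸ N) := by
  have hp : p.Prime := Fact.out
  have hqF : Fact q.Prime := ⟨hq⟩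
  have hAq : IsPGroup q A := by
    intro a
    refine ⟨1, ?_⟩
    rw [pow_one]
    exact Subtype.ext (hA.2 _ a.2)
  have hpA : ¬ p ∣ Nat.card A := by
    obtain ⟨n, hn⟩ := IsPGroup.iff_card.mp hAq
    rw [hn]
    intro hd
    exact hpq (((Nat.prime_dvd_prime_iff_eq hp hq).mp (hp.dvd_of_dvd_pow hd)).symm)
  have hcomm : ∀ a ∈ A, ∀ b ∈ A, a * b = b * a := by
    intro a ha b hb
    exact congrArg Subtype.val (hA.1.is_comm.comm ⟨a, ha⟩ ⟨b, hb⟩)
  have hcoat : ∀ K : Subgroup G, A ≤ K → K = A ∨ K = ⊤ := by
    intro K hK
    have h1 : K.index ∣ p := by rw [← hidx]; exact index_dvd_of_le hK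
    rcases (Nat.dvd_prime hp).mp h1 with h | h
    · exact Or.inr (index_eq_one.mp h)
    · left
      have h2 := relIndex_mul_index hK
      rw [h, hidx] at h2
      have h3 : A.relIndex K = 1 := by
        have := hp.pos
        nlinarith [Nat.eq_of_mul_eq_mul_right this (h2.trans (one_mul p).symm)]
      exact le_antisymm (relIndex_eq_one.mp h3) hK
  -- elements outside `A` generate `G` together with `A` and act nontrivially
  have hgen : ∀ x : G, x ∉ A → A ⊔ zpowers x = ⊤ := by
    intro x hx
    rcases hcoat (A ⊔ zpowers x) le_sup_left with h | h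
    · exfalso
      apply hx
      rw [← h]
      exact mem_sup_right (mem_zpowers x)
    · exact h
  have hact : ∀ x : G, x ∉ A → ∃ a ∈ A, x * a * x⁻¹ ≠ a := by
    intro x hx
    by_contra hcon
    push Not at hcon
    apply hna
    have hc : ∀ a ∈ A, x * a = a * x := by
      intro a ha
      have := hcon a ha
      rwa [mul_inv_eq_iff_eq_mul] at this
    have hAc : ∀ a ∈ A, a ∈ center G := by
      intro a ha
      have hle : (⊤ : Subgroup G) ≤ centralizer {a} := by
        rw [← hgen x hx, sup_le_iff]
        constructor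
        · intro b hb
          rw [mem_centralizer_singleton_iff]
          exact hcomm b hb a ha
        · rw [zpowers_le, mem_centralizer_singleton_iff]
          exact hc a ha
      rw [mem_center_iff]
      intro g
      exact mem_centralizer_singleton_iff.mp (hle (mem_top g))
    have hxc : x ∈ center G := by
      have hle : (⊤ : Subgroup G) ≤ centralizer {x} := by
        rw [← hgen x hx, sup_le_iff]
        constructor
        · intro b hb
          rw [mem_centralizer_singleton_iff]
          exact (hc b hb).symm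
        · rw [zpowers_le, mem_centralizer_singleton_iff]
      rw [mem_center_iff]
      intro g
      exact mem_centralizer_singleton_iff.mp (hle (mem_top g))
    have htop : (⊤ : Subgroup G) ≤ center G := by
      rw [← hgen x hx, sup_le_iff]
      exact ⟨fun a ha => hAc a ha, by rw [zpowers_le]; exact hxc⟩
    refine ⟨⟨fun a b => ?_⟩⟩
    exact (mem_center_iff.mp (htop (mem_top b)) a)
  -- subgroups of `A` invariant under an element outside `A`
  have hinv : ∀ x : G, x ∉ A → ∀ B : Subgroup G, B ≤ A → (∀ b, b ∈ B ↔ x * b * x⁻¹ ∈ B) →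
      B = ⊥ ∨ B = A := by
    intro x hx B hB hxB
    refine hmin B ?_ hB
    rw [← normalizer_eq_top_iff, eq_top_iff, ← hgen x hx, sup_le_iff]
    constructor
    · intro a ha
      rw [mem_normalizer_iff]
      intro b
      constructor
      · intro hb
        have : a * b * a⁻¹ = b := by rw [hcomm a ha b (hB hb), mul_inv_cancel_right]
        rw [this]; exact hb
      · intro hb
        have h1 : b ∈ A := by
          have := A.mul_mem (A.mul_mem (A.inv_mem ha) (hB hb)) ha
          group at this
          exact this
        have : a * b * a⁻¹ = b := by rw [hcomm a ha b h1, mul_inv_cancel_right]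
        rwa [this] at hb
    · rw [zpowers_le, mem_normalizer_iff]
      exact hxB
  -- an element of order `p`
  have hpG : p ∣ Nat.card G := by rw [← hidx]; exact index_dvd_card A
  obtain ⟨x, hx⟩ := exists_prime_orderOf_dvd_card' p hpG
  have hxp : x ^ p = 1 := by rw [← hx]; exact pow_orderOf_eq_one x
  have hout : ∀ y : G, orderOf y = p → y ∉ A := by
    intro y hy hyA
    apply hpA
    have h2 : orderOf (⟨y, hyA⟩ : A) ∣ Nat.card A := orderOf_dvd_natCard _
    rwa [Subgroup.orderOf_mk, hy] at h2
  have hxA := hout x hx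
  have hcardA : Nat.card A = q ^ orderOf (q : ZMod p) := by
    refine MinStruct.card_eq_pow hpq A hA x hxp (fun a ha => ‹A.Normal›.conj_mem a ha x)
      (hact x hxA) ?_
    intro B hB hxB
    refine hinv x hxA B hB ?_
    intro u
    refine ⟨fun hu => hxB u hu, fun hu => ?_⟩
    have hpow : ∀ (n : ℕ) (v : G), v ∈ B → x ^ n * v * (x ^ n)⁻¹ ∈ B := by
      intro n
      induction n with
      | zero => intro v hv; simpa using hv
      | succ n ih =>
        intro v hv
        have := hxB _ (ih v hv)
        rw [pow_succ']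
        group at this ⊢
        exact this
    have h1 := hpow (p - 1) _ hu
    have h2 : x ^ (p - 1) * (x * u * x⁻¹) * (x ^ (p - 1))⁻¹ = u := by
      have h3 : x ^ (p - 1) * x = 1 := by
        rw [← pow_succ, Nat.sub_add_cancel hp.one_le, hxp]
      have h4 : x⁻¹ * (x ^ (p - 1))⁻¹ = 1 := by rw [← mul_inv_rev, h3, inv_one]
      calc x ^ (p - 1) * (x * u * x⁻¹) * (x ^ (p - 1))⁻¹
          = (x ^ (p - 1) * x) * u * (x⁻¹ * (x ^ (p - 1))⁻¹) := by group
        _ = u := by rw [h3, h4, one_mul, mul_one]
    rw [h2] at h1
    exact h1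
  refine ⟨hcardA, ?_, ?_, ?_⟩
  · intro hcl
    obtain ⟨S, hS, hmax⟩ := MinClosed.exists_of_isPClosed hcl
    have hxS : x ∈ (S : Subgroup G) := by
      refine hmax (zpowers x) ?_ (mem_zpowers x)
      apply IsPGroup.of_card (n := 1)
      rw [Nat.card_zpowers, hx, pow_one]
    obtain ⟨a, ha, hne⟩ := hact x hxA
    have hd := MinStruct.disjoint_of_isPGroup hpA S.isPGroup'
    rw [disjoint_iff] at hd
    have h1 : x * a * x⁻¹ * a⁻¹ ∈ ((S : Subgroup G) ⊓ A : Subgroup G) := by
      refine ⟨?_, ?_⟩
      · have : x * a * x⁻¹ * a⁻¹ = x * (a * x⁻¹ * a⁻¹) := by group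
        rw [this]
        exact (S : Subgroup G).mul_mem hxS (hS.conj_mem _ ((S : Subgroup G).inv_mem hxS) a)
      · exact A.mul_mem (‹A.Normal›.conj_mem a ha x) (A.inv_mem ha)
    rw [hd, mem_bot] at h1
    exact hne (mul_inv_eq_one.mp h1)
  · intro H hH
    by_cases hpH : p ∣ Nat.card H
    · obtain ⟨y, hy⟩ := exists_prime_orderOf_dvd_card' p hpH
      have hy' : orderOf (y : G) = p := by rw [Subgroup.orderOf_coe, hy]
      have hyA := hout _ hy'
      have h1 : H ⊓ A = ⊥ ∨ H ⊓ A = A := by
        refine hinv y hyA (H ⊓ A) inf_le_right ?_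
        intro b
        constructor
        · rintro ⟨h1, h2⟩
          exact ⟨H.mul_mem (H.mul_mem y.2 h1) (H.inv_mem y.2), ‹A.Normal›.conj_mem b h2 _⟩
        · rintro ⟨h1, h2⟩
          constructor
          · have := H.mul_mem (H.mul_mem (H.inv_mem y.2) h1) y.2
            group at this
            exact this
          · have := ‹A.Normal›.conj_mem _ h2 (y : G)⁻¹
            group at this
            exact this
      rcases h1 with h1 | h1
      · apply pclosed_of_isPGroup
        apply IsPGroup.of_card (n := 1)
        rw [pow_one]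
        have h2 : A.relIndex H ∣ A.index := relIndex_dvd_index_of_normal A H
        have h3 : A.relIndex H = Nat.card H := by
          rw [← inf_relIndex_left, h1, relIndex_bot_left]
        rw [h3, hidx] at h2
        rcases (Nat.dvd_prime hp).mp h2 with h | h
        · rw [h] at hpH
          exact absurd (Nat.dvd_one.mp hpH) hp.one_lt.ne'
        · exact h
      · exfalso
        apply hH
        rw [eq_top_iff, ← hgen y hyA, sup_le_iff]
        exact ⟨inf_eq_right.mp h1, by rw [zpowers_le]; exact y.2⟩
    · exact pclosed_of_not_dvd hpH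
  · intro N hN hNb
    apply pclosed_of_isPGroup
    have h1 : A ≤ N := by
      rcases hmin (N ⊓ A) inferInstance inf_le_right with h | h
      · exfalso
        apply hNb
        rw [eq_bot_iff]
        intro n hn
        by_cases hnA : n ∈ A
        · have : n ∈ N ⊓ A := ⟨hn, hnA⟩
          rwa [h] at this
        · exfalso
          obtain ⟨a, ha, hne⟩ := hact n hnA
          apply hne
          have h2 : n * a * n⁻¹ * a⁻¹ ∈ N ⊓ A := by
            refine ⟨?_, A.mul_mem (‹A.Normal›.conj_mem a ha n) (A.inv_mem ha)⟩
            have : n * a * n⁻¹ * a⁻¹ = n * (a * n⁻¹ * a⁻¹) := by group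
            rw [this]
            exact N.mul_mem hn (hN.conj_mem _ (N.inv_mem hn) a)
          rw [h, mem_bot] at h2
          exact mul_inv_eq_one.mp h2
      · exact inf_eq_right.mp h
    have h2 : Nat.card (G ⧸ N) ∣ p ^ 1 := by
      rw [← index_eq_card, pow_one, ← hidx]
      exact index_dvd_of_le h1
    obtain ⟨k, _, hk⟩ := (Nat.dvd_prime_pow hp).mp h2
    exact IsPGroup.of_card hk

end Cfsg.Agent.S3869
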