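import Cfsg.Statements.S3872
import Cfsg.Agent.S0063
import Cfsg.Agent.H541.PolySeq
import Cfsg.Agent.H544.Regular
import Cfsg.Agent.Transfer.PGroupNormal
set_option linter.all false

set_option autoImplicit false
open Cfsg

namespace Cfsg.Agent.S3872

open Subgroup

/-- Say that a finite group is p-exponent closed when its elements of order dividing p form a subgroup. Let G be a finite p-group that is not p-exponent closed, but all of whose proper subgroups and proper quotients are. Then G is generated by two elements, has nilpotency class at least p, has exponent p², has cyclic center, and has order at least p^(p+1). -/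
theorem result {G : Type*} [Group G] [Finite G] {p : ℕ} [Fact p.Prime] (hG : IsPGroup p G)
    (hnc : ¬ (∃ H : Subgroup G, (H : Set G) = {g : G | g ^ p = 1})) (hsub : ∀ K : Subgroup G, K ≠ ⊤ → (∃ H : Subgroup ↥K, (H : Set ↥K) = {g : ↥K | g ^ p = 1}))
    (hquo : ∀ (N : Subgroup G) [N.Normal], N ≠ ⊥ → (∃ H : Subgroup (G ⧸ N), (H : Set (G ⧸ N)) = {g : (G ⧸ N) | g ^ p = 1})) :
    (∃ x y : G, Subgroup.closure ({x, y} : Set G) = ⊤) ∧ (⊤ : Subgroup G).lowerCentralSeries (p - 1) ≠ ⊥ ∧
      Monoid.exponent G = p ^ 2 ∧ IsCyclic ↥(Subgroup.center G) ∧ p ^ (p + 1) ≤ Nat.card G := by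
  have hp : p.Prime := Fact.out
  obtain ⟨x, y, hx, hy, hxy⟩ : ∃ x y : G, x ^ p = 1 ∧ y ^ p = 1 ∧ (x * y) ^ p ≠ 1 := by
    by_contra hcon
    push Not at hcon
    apply hnc
    refine ⟨{ carrier := {g : G | g ^ p = 1}, mul_mem' := ?_, one_mem' := one_pow p, inv_mem' := ?_ }, rfl⟩
    · intro a b ha hb
      exact hcon a b ha hb
    · intro a ha
      have ha' : a ^ p = 1 := ha
      change a⁻¹ ^ p = 1
      rw [inv_pow, ha', inv_one]
  have hgen : closure ({x, y} : Set G) = ⊤ := by
    by_contra hne
    obtain ⟨H, hH⟩ := hsub _ hne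
    have hxc : x ∈ closure ({x, y} : Set G) := subset_closure (by simp)
    have hyc : y ∈ closure ({x, y} : Set G) := subset_closure (by simp)
    have h1 : (⟨x, hxc⟩ : closure ({x, y} : Set G)) ∈ (H : Set _) := by
      rw [hH]; exact Subtype.ext hx
    have h2 : (⟨y, hyc⟩ : closure ({x, y} : Set G)) ∈ (H : Set _) := by
      rw [hH]; exact Subtype.ext hy
    have h3 : (⟨x, hxc⟩ : closure ({x, y} : Set G)) * ⟨y, hyc⟩ ∈ (H : Set _) := H.mul_mem h1 h2
    rw [hH] at h3
    exact hxy (congrArg Subtype.val h3)
  -- the proper quotients have exponent `p`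
  have hexp : ∀ (N : Subgroup G) [N.Normal], N ≠ ⊥ → ∀ g : G, g ^ p ∈ N := by
    intro N hN hNb g
    obtain ⟨H, hH⟩ := hquo N hNb
    have hle : closure ({x, y} : Set G) ≤ H.comap (QuotientGroup.mk' N) := by
      rw [closure_le]
      intro z hz
      have hz' : z ^ p = 1 := by
        rcases hz with rfl | hz
        · exact hx
        · rw [Set.mem_singleton_iff.mp hz]; exact hy
      change QuotientGroup.mk' N z ∈ (H : Set (G ⧸ N))
      rw [hH]
      change (QuotientGroup.mk' N z) ^ p = 1
      rw [← map_pow, hz', map_one]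
    rw [hgen] at hle
    have h1 : QuotientGroup.mk' N g ∈ (H : Set (G ⧸ N)) := hle (mem_top g)
    rw [hH] at h1
    have h2 : (QuotientGroup.mk' N g) ^ p = 1 := h1
    rw [← map_pow] at h2
    exact (QuotientGroup.eq_one_iff _).mp h2
  have hlcs : (⊤ : Subgroup G).lowerCentralSeries (p - 1) ≠ ⊥ := by
    intro h
    have hreg := H541.PolySeq.isRegular_of_lcs hG h
    obtain ⟨H, _, hH⟩ := H544.Regular.exists_omega hreg 1
    rw [pow_one] at hH
    exact hnc ⟨H, hH⟩
  have hnt : Nontrivial G := by
    by_contra hcon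
    rw [not_nontrivial_iff_subsingleton] at hcon
    exact hxy (Subsingleton.elim _ _)
  -- the centre is cyclic
  have hcz : Nontrivial (center G) := hG.center_nontrivial
  have hzp : ∀ w : G, w ∈ center G → w ≠ 1 → ∀ g : G, g ^ p ∈ zpowers w := by
    intro w hw hw1 g
    have hn : (zpowers w).Normal := by
      refine ⟨?_⟩
      intro y hy g
      have hyc : y ∈ center G := (zpowers_le.mpr hw) hy
      rw [mem_center_iff] at hyc
      rw [hyc g, mul_inv_cancel_right]
      exact hy
    exact hexp (zpowers w) (by rw [Ne, zpowers_eq_bot]; exact hw1) g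
  obtain ⟨w, hw⟩ : ∃ w : center G, orderOf w = p := by
    obtain ⟨k, hk0, hk⟩ := (IsPGroup.nontrivial_iff_card (hG.to_subgroup (center G))).mp hcz
    exact exists_prime_orderOf_dvd_card' p (by rw [hk]; exact dvd_pow_self p hk0.ne')
  have hwG : orderOf (w : G) = p := by rw [Subgroup.orderOf_coe, hw]
  have hw1 : (w : G) ≠ 1 := by
    intro h
    rw [h, orderOf_one] at hwG
    exact hp.one_lt.ne hwG
  have hz1 : ((x * y) ^ p) ^ p = 1 := by
    obtain ⟨k, hk⟩ := mem_zpowers_iff.mp (hzp w w.2 hw1 (x * y))
    rw [← hk, ← zpow_natCast, ← zpow_mul, mul_comm, zpow_mul, zpow_natCast]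
    have : (w : G) ^ p = 1 := by rw [← hwG]; exact pow_orderOf_eq_one _
    rw [this, one_zpow]
  have hzo : orderOf ((x * y) ^ p) = p := orderOf_eq_prime hz1 hxy
  have hcyc : IsCyclic (center G) := by
    have hcm : ∀ a b : center G, a * b = b * a := fun a b => Subtype.ext (mem_center_iff.mp b.2 a)
    let I : CommGroup (center G) := { (center G).toGroup with mul_comm := hcm }
    refine @Transfer.PGroupNormal.isCyclic_of_card_ker_pow_le (center G) I _ p _
      (hG.to_subgroup (center G)) ?_
    have hle : (@powMonoidHom (center G) _ p : center G →* center G).ker.map (center G).subtype ≤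
        zpowers ((x * y) ^ p) := by
      rintro _ ⟨v, hv, rfl⟩
      have hv' : v ^ p = 1 := hv
      by_cases hv1 : (v : G) = 1
      · change (v : G) ∈ _
        rw [hv1]; exact one_mem _
      · have hvo : orderOf (v : G) = p := orderOf_eq_prime (by
          have := congrArg Subtype.val hv'
          exact this) hv1
        have h1 : zpowers ((x * y) ^ p) ≤ zpowers (v : G) := by
          rw [zpowers_le]
          exact hzp v v.2 hv1 (x * y)
        have h2 : zpowers ((x * y) ^ p) = zpowers (v : G) := by
          apply Subgroup.eq_of_le_of_card_ge h1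
          rw [Nat.card_zpowers, Nat.card_zpowers, hzo, hvo]
        rw [h2]
        exact mem_zpowers _
    have h3 := Subgroup.card_le_of_le hle
    rw [Subgroup.card_map_of_injective (center G).subtype_injective, Nat.card_zpowers, hzo] at h3
    exact h3
  refine ⟨⟨x, y, hgen⟩, hlcs, ?_, hcyc, ?_⟩
  · have h1 : Monoid.exponent G ∣ p ^ 2 := by
      rw [Monoid.exponent_dvd_iff_forall_pow_eq_one]
      intro g
      rw [pow_two, pow_mul]
      obtain ⟨k, hk⟩ := mem_zpowers_iff.mp (hzp w w.2 hw1 g)
      rw [← hk, ← zpow_natCast, ← zpow_mul, mul_comm, zpow_mul, zpow_natCast]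
      have : (w : G) ^ p = 1 := by rw [← hwG]; exact pow_orderOf_eq_one _
      rw [this, one_zpow]
    obtain ⟨k, hk, hke⟩ := (Nat.dvd_prime_pow hp).mp h1
    rcases Nat.lt_or_ge k 2 with hk2 | hk2
    · exfalso
      apply hxy
      have h2 : Monoid.exponent G ∣ p := by
        rw [hke]
        calc p ^ k ∣ p ^ 1 := pow_dvd_pow p (by omega)
          _ = p := pow_one p
      exact Monoid.exponent_dvd_iff_forall_pow_eq_one.mp h2 (x * y)
    · have : k = 2 := le_antisymm hk hk2
      rw [hke, this]
  · obtain ⟨m, hm⟩ := IsPGroup.iff_card.mp hG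
    rw [hm]
    apply Nat.pow_le_pow_right hp.pos
    by_contra hlt
    push Not at hlt
    apply hlcs
    have hnil : Group.IsNilpotent G := hG.isNilpotent
    rw [Subgroup.lowerCentralSeries_eq_bot_iff_nilpotencyClass_le]
    rcases Nat.lt_or_ge 1 m with hm1 | hm1
    · have := S0063.result p m hm hm1
      omega
    · -- a group of order at most `p` is abelian
      have hcyc' : IsCyclic G := by
        rcases Nat.le_one_iff_eq_zero_or_eq_one.mp hm1 with h0 | h0
        · exfalso
          rw [h0, pow_zero] at hm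
          exact (Finite.one_lt_card (α := G)).ne' hm
        · rw [h0, pow_one] at hm
          exact isCyclic_of_prime_card hm
      have hc : Group.nilpotencyClass G ≤ 1 := by
        rw [← Subgroup.lowerCentralSeries_eq_bot_iff_nilpotencyClass_le]
        rw [Subgroup.lowerCentralSeries_one_eq_bot_iff]
        exact ⟨⟨fun a b => (IsCyclic.commGroup (α := G)).mul_comm a b⟩⟩
      have := hp.two_le
      omega

end Cfsg.Agent.S3872
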