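import Mathlib
import Cfsg.Prelude.Def_LocalStructure
import Cfsg.Agent.H469.MinClosed
import Cfsg.Statements.S3875
import Cfsg.Agent.S0999
import Cfsg.Agent.ClassicalGeometry.PSL2Basic
import Cfsg.Agent.TwoFusion.SLTwoFacts
set_option linter.all false

-- part: H469/Affine
section
/-!
The group of order `p * m` of affine maps of a field with `m ≡ 1 (mod p)` elements.
-/

set_option autoImplicit false

namespace Cfsg.Agent.H469.Affine

open Subgroup Cfsg

/-- Multiplication by units, as automorphisms of the additive group. -/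
def unitAut (F : Type*) [Field F] : Fˣ →* MulAut (Multiplicative F) where
  toFun u :=
    { toFun := fun a => Multiplicative.ofAdd ((u : F) * Multiplicative.toAdd a)
      invFun := fun a => Multiplicative.ofAdd (((u⁻¹ : Fˣ) : F) * Multiplicative.toAdd a)
      left_inv := by
        intro a
        apply Multiplicative.toAdd.injective
        change ((u⁻¹ : Fˣ) : F) * ((u : F) * Multiplicative.toAdd a) = Multiplicative.toAdd a
        rw [← mul_assoc, Units.inv_mul, one_mul]
      right_inv := by
        intro a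
        apply Multiplicative.toAdd.injective
        change (u : F) * (((u⁻¹ : Fˣ) : F) * Multiplicative.toAdd a) = Multiplicative.toAdd a
        rw [← mul_assoc, Units.mul_inv, one_mul]
      map_mul' := by
        intro a b
        apply Multiplicative.toAdd.injective
        change (u : F) * (Multiplicative.toAdd a + Multiplicative.toAdd b) = _
        rw [mul_add]
        rfl }
  map_one' := by
    ext a
    change Multiplicative.ofAdd (((1 : Fˣ) : F) * Multiplicative.toAdd a) = a
    rw [Units.val_one, one_mul]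
    rfl
  map_mul' := by
    intro u v
    ext a
    change Multiplicative.ofAdd (((u * v : Fˣ) : F) * Multiplicative.toAdd a) =
      Multiplicative.ofAdd ((u : F) * ((v : F) * Multiplicative.toAdd a))
    rw [Units.val_mul, mul_assoc]

theorem exists_group {p : ℕ} [hp : Fact p.Prime] {m : ℕ} (hm : IsPrimePow m) (hm1 : m % p = 1) :
    ∃ (H : Type) (_ : Group H) (_ : Finite H), Nat.card H = p * m ∧ ¬ Cfsg.IsPClosed p H := by
  rw [isPrimePow_nat_iff] at hm
  obtain ⟨q, e, hq, he, rfl⟩ := hm
  have hqF : Fact q.Prime := ⟨hq⟩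
  let F : Type := GaloisField q e
  have hFfin : Finite F := inferInstance
  have hFcard : Nat.card F = q ^ e := GaloisField.card q e he.ne'
  have hpd : p ∣ Nat.card Fˣ := by
    have : Fintype F := Fintype.ofFinite F
    rw [Nat.card_units, hFcard]
    exact (Nat.modEq_iff_dvd' (Nat.one_le_iff_ne_zero.mpr (pow_pos hq.pos e).ne')).mp (by
      rw [Nat.ModEq, hm1, Nat.mod_eq_of_lt hp.out.one_lt])
  obtain ⟨ζ, hζ⟩ := exists_prime_orderOf_dvd_card' p hpd
  let C : Subgroup Fˣ := zpowers ζ
  have hCcard : Nat.card C = p := by rw [Nat.card_zpowers, hζ]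
  let φ : C →* MulAut (Multiplicative F) := (unitAut F).comp C.subtype
  have hqp : q ≠ p := by
    rintro rfl
    have : q ^ e % q = 0 := Nat.mod_eq_zero_of_dvd (dvd_pow_self q he.ne')
    rw [this] at hm1
    exact zero_ne_one hm1
  refine ⟨Multiplicative F ⋊[φ] C, inferInstance, ?_, ?_, ?_⟩
  · have : Nat.card (Multiplicative F ⋊[φ] C) ≠ 0 := by
      rw [SemidirectProduct.card, hCcard, show Nat.card (Multiplicative F) = Nat.card F from rfl, hFcard]
      exact (Nat.mul_pos (pow_pos hq.pos e) hp.out.pos).ne'
    exact Nat.finite_of_card_ne_zero this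
  · rw [SemidirectProduct.card, hCcard, show Nat.card (Multiplicative F) = Nat.card F from rfl,
      hFcard, mul_comm]
  · intro hcl
    have hfin : Finite (Multiplicative F ⋊[φ] C) := by
      have : Nat.card (Multiplicative F ⋊[φ] C) ≠ 0 := by
        rw [SemidirectProduct.card, hCcard, show Nat.card (Multiplicative F) = Nat.card F from rfl, hFcard]
        exact (Nat.mul_pos (pow_pos hq.pos e) hp.out.pos).ne'
      exact Nat.finite_of_card_ne_zero this
    obtain ⟨S, hS, hmax⟩ := MinClosed.exists_of_isPClosed hcl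
    let z : C := ⟨ζ, mem_zpowers ζ⟩
    let g : Multiplicative F ⋊[φ] C := SemidirectProduct.inr z
    have hgp : g ^ p = 1 := by
      rw [← map_pow]
      have : z ^ p = 1 := by
        apply Subtype.ext
        change ζ ^ p = 1
        rw [← hζ]
        exact pow_orderOf_eq_one ζ
      rw [this, map_one]
    have hg : g ∈ (S : Subgroup (Multiplicative F ⋊[φ] C)) := by
      have h1 : IsPGroup p (zpowers g) := by
        rintro ⟨x, k, rfl⟩
        refine ⟨1, Subtype.ext ?_⟩
        change (g ^ k) ^ p ^ 1 = 1
        rw [pow_one, ← zpow_natCast, ← zpow_mul, mul_comm, zpow_mul, zpow_natCast, hgp, one_zpow]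
      exact hmax _ h1 (mem_zpowers g)
    let a : Multiplicative F := Multiplicative.ofAdd 1
    let b : Multiplicative F ⋊[φ] C := SemidirectProduct.inl a
    have h2 : b * g⁻¹ * b⁻¹ ∈ (S : Subgroup (Multiplicative F ⋊[φ] C)) := hS.conj_mem _ (inv_mem hg) b
    have h3 : g * (b * g⁻¹ * b⁻¹) ∈ (S : Subgroup (Multiplicative F ⋊[φ] C)) := mul_mem hg h2
    have h4 : g * (b * g⁻¹ * b⁻¹) = SemidirectProduct.inl (φ z a * a⁻¹) := by
      rw [map_mul, SemidirectProduct.inl_aut, map_inv, map_inv]
      simp only [g, b, mul_assoc]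
    rw [h4] at h3
    obtain ⟨k, hk⟩ := S.isPGroup' ⟨_, h3⟩
    have h5 : (φ z a * a⁻¹) ^ p ^ k = 1 := by
      have := congrArg Subtype.val hk
      change (SemidirectProduct.inl (φ z a * a⁻¹) : Multiplicative F ⋊[φ] C) ^ p ^ k = 1 at this
      rw [← map_pow] at this
      exact SemidirectProduct.inl_injective (by rw [this, map_one])
    have h6 : (φ z a * a⁻¹) ^ q = 1 := by
      apply Multiplicative.toAdd.injective
      have : CharP F q := inferInstance
      change q • Multiplicative.toAdd (φ z a * a⁻¹) = (0 : F)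
      rw [nsmul_eq_mul, CharP.cast_eq_zero, zero_mul]
    have h7 : orderOf (φ z a * a⁻¹) = 1 := by
      have hd1 := orderOf_dvd_of_pow_eq_one h5
      have hd2 := orderOf_dvd_of_pow_eq_one h6
      have hcop : Nat.Coprime (p ^ k) q := Nat.Coprime.pow_left k ((Nat.coprime_primes hp.out hq).mpr hqp.symm)
      exact Nat.dvd_one.mp (hcop ▸ Nat.dvd_gcd hd1 hd2)
    rw [orderOf_eq_one_iff, mul_inv_eq_one] at h7
    have h8 : (ζ : F) * 1 = 1 := congrArg Multiplicative.toAdd h7
    rw [mul_one] at h8
    have h9 : ζ = 1 := Units.ext h8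
    rw [h9, orderOf_one] at hζ
    exact hp.out.one_lt.ne hζ

end Cfsg.Agent.H469.Affine
end

-- part: S3875
section
set_option autoImplicit false
open Cfsg

namespace Cfsg.Agent.S3875

open Subgroup Cfsg.Agent.H469

theorem half_le_cube {p : ℕ} : p * (p ^ 2 - 1) / 2 ≤ p ^ 3 := by
  calc p * (p ^ 2 - 1) / 2 ≤ p * (p ^ 2 - 1) := Nat.div_le_self _ _
    _ ≤ p * p ^ 2 := Nat.mul_le_mul_left p (Nat.sub_le _ _)
    _ = p ^ 3 := by ring

/-- A non-cyclic simple group of order divisible by the odd prime `p` has order at least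
`p (p² - 1) / 2`. -/
theorem simple_bound {G : Type*} [Group G] [Finite G] [IsSimpleGroup G] (hG : ¬ IsCyclic G) {p : ℕ}
    (hp : p.Prime) (hd : p ∣ Nat.card G) : p * (p ^ 2 - 1) / 2 ≤ Nat.card G := by
  by_cases hbig : Nat.card G < p ^ 3
  · rcases S0999.result hG p hp hd hbig with ⟨F, _, _, hF, h3, ⟨e⟩⟩ | ⟨m, F, _, _, hF, hpm, h3, ⟨e⟩⟩
    · have hodd : Odd (Fintype.card F) := by
        rw [hF]
        exact hp.odd_of_ne_two (by omega)
      have hc := ClassicalGeometry.PSL2Basic.card_PSL2_odd F hodd
      rw [← Nat.card_congr e.toEquiv, hF] at hc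
      omega
    · have h2 : 2 ^ m = p - 1 := by omega
      have heven : Even (Fintype.card F) := by
        rw [hF]
        rcases Nat.eq_zero_or_pos m with h0 | h0
        · rw [h0, pow_zero] at h2
          omega
        · exact (Nat.even_pow.mpr ⟨even_two, h0.ne'⟩)
      have hc := ClassicalGeometry.PSL2Basic.card_PSL2_even F heven
      rw [← Nat.card_congr e.toEquiv, hF, h2] at hc
      rw [hc]
      have hp5 : 5 ≤ p := by
        have : p ≠ 4 := by rintro rfl; exact absurd hp (by decide)
        omega
      obtain ⟨k, rfl⟩ : ∃ k, p = k + 5 := ⟨p - 5, by omega⟩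
      have h4 : (k + 5 - 1) ^ 2 - 1 = (k + 5) * (k + 3) := by
        have : (k + 5 - 1) ^ 2 = (k + 5) * (k + 3) + 1 := by
          rw [show k + 5 - 1 = k + 4 by omega]; ring
        rw [this, Nat.add_sub_cancel]
      have h5 : (k + 5) ^ 2 - 1 = (k + 4) * (k + 6) := by
        have : (k + 5) ^ 2 = (k + 4) * (k + 6) + 1 := by ring
        rw [this, Nat.add_sub_cancel]
      rw [h4, h5, show k + 5 - 1 = k + 4 by omega]
      apply Nat.div_le_of_le_mul
      nlinarith
  · exact half_le_cube.trans (not_lt.mp hbig)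

theorem lower {p : ℕ} [hp : Fact p.Prime] {m : ℕ}
    (hleast : ∀ k : ℕ, IsPrimePow k → k % p = 1 → m ≤ k) :
    ∀ (n : ℕ) (H : Type) [Group H] [Finite H], Nat.card H = n → ¬ Cfsg.IsPClosed p H →
      min (p * m) (p * (p ^ 2 - 1) / 2) ≤ n := by
  intro n
  induction n using Nat.strong_induction_on with
  | _ n ih =>
    intro H _ _ hn hnc
    by_cases hsub : ∀ K : Subgroup H, K ≠ ⊤ → Cfsg.IsPClosed p ↥K
    · by_cases hquo : ∀ (N : Subgroup H) [N.Normal], N ≠ ⊥ → Cfsg.IsPClosed p (H ⧸ N)
      · by_cases hs : IsSimpleGroup H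
        · refine (min_le_right _ _).trans ?_
          rw [← hn]
          have hcyc : ¬ IsCyclic H := by
            intro hc
            apply hnc
            apply MinClosed.isPClosed_of_isMulCommutative
            intro a b
            obtain ⟨g, hg⟩ := hc.exists_generator
            obtain ⟨i, rfl⟩ := hg a
            obtain ⟨j, rfl⟩ := hg b
            exact ((Commute.refl g).zpow_zpow i j)
          refine simple_bound hcyc hp.out ?_
          by_contra hd
          apply hnc
          intro P
          have hP : (P : Subgroup H) = ⊥ := by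
            obtain ⟨k, hk⟩ := IsPGroup.iff_card.mp P.isPGroup'
            rcases Nat.eq_zero_or_pos k with h0 | h0
            · rw [h0, pow_zero] at hk
              exact Subgroup.card_eq_one.mp hk
            · exfalso
              apply hd
              exact (dvd_pow_self p h0.ne').trans (hk ▸ Subgroup.card_subgroup_dvd_card _)
          rw [hP]
          infer_instance
        · refine (min_le_left _ _).trans ?_
          obtain ⟨q, hq, hqp, hcard, -⟩ := MinClosed.nonsimple_structure hnc hsub hquo hs
          rw [← hn, hcard]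
          apply Nat.mul_le_mul_left
          have hqF : Fact q.Prime := ⟨hq⟩
          have hunit : IsUnit (q : ZMod p) := by
            rw [ZMod.isUnit_iff_coprime]
            exact (Nat.coprime_primes hq hp.out).mpr hqp
          have hfo : 0 < orderOf (q : ZMod p) := by
            obtain ⟨u, hu⟩ := hunit
            rw [← hu, orderOf_units]
            exact orderOf_pos u
          apply hleast
          · exact hq.isPrimePow.pow hfo.ne'
          · have h1 : ((q ^ orderOf (q : ZMod p) : ℕ) : ZMod p) = ((1 : ℕ) : ZMod p) := by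
              rw [Nat.cast_pow, pow_orderOf_eq_one, Nat.cast_one]
            rw [ZMod.natCast_eq_natCast_iff] at h1
            have h2 : q ^ orderOf (q : ZMod p) % p = 1 % p := h1
            rw [h2, Nat.mod_eq_of_lt hp.out.one_lt]
      · push Not at hquo
        obtain ⟨N, hN, hNb, hNc⟩ := hquo
        have hlt : Nat.card (H ⧸ N) < n := by
          rw [← hn, Subgroup.card_eq_card_quotient_mul_card_subgroup N]
          have h1 : 1 < Nat.card N := (Subgroup.one_lt_card_iff_ne_bot N).mpr hNb
          have h2 : 0 < Nat.card (H ⧸ N) := Nat.card_pos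
          nlinarith
        exact (ih _ hlt (H ⧸ N) rfl hNc).trans hlt.le
    · push Not at hsub
      obtain ⟨K, hK, hKc⟩ := hsub
      have hlt : Nat.card K < n := by
        rw [← hn]
        refine lt_of_le_of_ne (Nat.le_of_dvd Nat.card_pos (Subgroup.card_subgroup_dvd_card K)) ?_
        intro h
        exact hK (Subgroup.eq_top_of_card_eq K h)
      exact (ih _ hlt K rfl hKc).trans hlt.le

theorem psl_group {p : ℕ} [hp : Fact p.Prime] (h3 : 3 < p) :
    ∃ (H : Type) (_ : Group H) (_ : Finite H), Nat.card H = p * (p ^ 2 - 1) / 2 ∧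
      ¬ Cfsg.IsPClosed p H := by
  have hodd : Odd (Fintype.card (ZMod p)) := by
    rw [ZMod.card]
    exact hp.out.odd_of_ne_two (by omega)
  have hc := ClassicalGeometry.PSL2Basic.card_PSL2_odd (ZMod p) hodd
  rw [ZMod.card] at hc
  have hs : IsSimpleGroup (Matrix.ProjectiveSpecialLinearGroup (Fin 2) (ZMod p)) :=
    TwoFusion.SLTwoFacts.isSimpleGroup_psl (by rw [ZMod.card]; exact h3)
  have hpos : 0 < p * (p ^ 2 - 1) := by
    have : 1 < p ^ 2 := Nat.one_lt_pow (by norm_num) hp.out.one_lt
    exact Nat.mul_pos hp.out.pos (by omega)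
  have hfin : Finite (Matrix.ProjectiveSpecialLinearGroup (Fin 2) (ZMod p)) := by
    apply Nat.finite_of_card_ne_zero
    intro h
    rw [h] at hc
    omega
  refine ⟨Matrix.ProjectiveSpecialLinearGroup (Fin 2) (ZMod p), inferInstance, hfin, by omega, ?_⟩
  intro hcl
  obtain ⟨P⟩ : Nonempty (Sylow p (Matrix.ProjectiveSpecialLinearGroup (Fin 2) (ZMod p))) :=
    inferInstance
  have hP := hcl P
  have hcop : Nat.Coprime p (p ^ 2 - 1) := by
    rw [Nat.Prime.coprime_iff_not_dvd hp.out]
    intro hd
    have h1 : p ∣ p ^ 2 := dvd_pow_self p two_ne_zero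
    have h2 : 1 < p ^ 2 := Nat.one_lt_pow (by norm_num) hp.out.one_lt
    have h4 : p ∣ p ^ 2 - (p ^ 2 - 1) := Nat.dvd_sub h1 hd
    have h5 : p ^ 2 - (p ^ 2 - 1) = 1 := by omega
    rw [h5] at h4
    exact hp.out.one_lt.ne' (Nat.dvd_one.mp h4)
  have hdvd : p ∣ Nat.card (Matrix.ProjectiveSpecialLinearGroup (Fin 2) (ZMod p)) := by
    have h1 : p ∣ Nat.card (Matrix.ProjectiveSpecialLinearGroup (Fin 2) (ZMod p)) * 2 := by
      rw [hc]; exact dvd_mul_right _ _
    rcases (Nat.Prime.dvd_mul hp.out).mp h1 with h | h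
    · exact h
    · exact absurd (Nat.le_of_dvd two_pos h) (by omega)
  rcases hs.eq_bot_or_eq_top_of_normal _ hP with h | h
  · have h1 := P.dvd_card_of_dvd_card hdvd
    rw [h, Subgroup.card_bot] at h1
    exact hp.out.one_lt.ne' (Nat.dvd_one.mp h1)
  · obtain ⟨k, hk⟩ := IsPGroup.iff_card.mp P.isPGroup'
    rw [h, Subgroup.card_top] at hk
    rw [hk] at hc
    have h1 : (p ^ 2 - 1) ∣ p ^ k * 2 := by rw [hc]; exact dvd_mul_left _ _
    have h2 : (p ^ 2 - 1) ∣ 2 := (Nat.Coprime.dvd_of_dvd_mul_left (hcop.symm.pow_right k) h1)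
    have h4 := Nat.le_of_dvd two_pos h2
    have h5 : 3 ^ 2 < p ^ 2 := Nat.pow_lt_pow_left h3 (by norm_num)
    omega

/-- Let p be an odd prime and let m be the least prime power congruent to 1 modulo p. Then the least order of a finite group whose Sylow p-subgroups are not normal is the smaller of p · m and p(p² − 1)/2: every finite group whose Sylow p-subgroups are not normal has at least that order, and some group of exactly that order has non-normal Sylow p-subgroups. -/
theorem result (p : ℕ) [Fact p.Prime] (hp : p ≠ 2) (m : ℕ) (hm : IsPrimePow m) (hm1 : m % p = 1)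
    (hleast : ∀ k : ℕ, IsPrimePow k → k % p = 1 → m ≤ k) :
    (∀ (H : Type) [Group H] [Finite H], ¬ Cfsg.IsPClosed p H → min (p * m) (p * (p ^ 2 - 1) / 2) ≤ Nat.card H) ∧
      ∃ (H : Type) (_ : Group H) (_ : Finite H), Nat.card H = min (p * m) (p * (p ^ 2 - 1) / 2) ∧ ¬ Cfsg.IsPClosed p H := by
  have hpp : p.Prime := Fact.out
  refine ⟨fun H _ _ hH => lower hleast _ H rfl hH, ?_⟩
  by_cases hle : p * m ≤ p * (p ^ 2 - 1) / 2
  · rw [min_eq_left hle]
    exact Affine.exists_group hm hm1
  · have h3 : 3 < p := by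
      by_contra hcon
      have : p = 3 := by
        have := hpp.two_le
        omega
      subst this
      apply hle
      have : m ≤ 4 := hleast 4 (by
        rw [isPrimePow_nat_iff]
        exact ⟨2, 2, Nat.prime_two, by norm_num, by norm_num⟩) (by norm_num)
      norm_num
      omega
    rw [min_eq_right (not_le.mp hle).le]
    exact psl_group h3

end Cfsg.Agent.S3875
end
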