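import Cfsg.Agent.H799.PiBS.Suz
import Cfsg.Agent.UGT.End.MEleven
import Cfsg.Agent.OddHalf.D4.Spor.M2223
import Cfsg.Agent.OddHalf.SpN.OutDefs_m3
import Cfsg.Agent.KFacts.MM.OutAut
import Cfsg.Agent.OddHalf.D4.Spor.MTwentyFour_m3
import Cfsg.Agent.J4.M24Invol
import Cfsg.Agent.H603.SporElim
import Cfsg.Agent.H459.Gallery
import Cfsg.Agent.H465.PiBSB_mg_m3
import Cfsg.Agent.H383.R23.J3_mg_m3
import Cfsg.Agent.Lib.F2MatGroup
import Cfsg.Agent.H820.SL32
import Cfsg.Agent.H287.SylFix
import Cfsg.Agent.UGT.C.BalON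
import Cfsg.Agent.KFacts.ON.Words_m3
import Cfsg.Agent.SigZeroCo2.Lin
import Cfsg.Agent.SporadicA.LeechMin
import Cfsg.Agent.H465.PiBSSporB
import Cfsg.Agent.H49.CoStab
import Cfsg.Agent.S2069
import Cfsg.Agent.S2070
import Cfsg.Agent.S2071
import Cfsg.Agent.Solvable.Carter
import Cfsg.Agent.H355.Fixity
import Cfsg.Agent.H403.TitsSixteen
import Cfsg.Agent.H153.ZerosSuz
import Cfsg.Agent.H296.Fr.RowRu
import Cfsg.Agent.H109.NrCo
import Cfsg.Agent.H569.PD.Fi23
import Cfsg.Agent.H841.PB.FiTwentyThreeA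
import Cfsg.Agent.H187.FiOdd.Cent_m3
import Cfsg.Agent.H468.PW.Th
import Cfsg.Agent.H844.Ore.BInv_m3
import Cfsg.Agent.H465.PiBSMon
import Cfsg.Agent.H256.SporC
import Cfsg.Agent.H799.PiBS.HS
import Cfsg.Agent.H799.PiBS.McL
import Cfsg.Agent.Lib.MinNormalNonabelian
import Cfsg.Prelude.Def_OddOrderLocal
import Cfsg.Prelude.Def_HallClasses
import Cfsg.Agent.H507.DPi
import Cfsg.Agent.H469.PiBS.Def
import Cfsg.Agent.H470.SolvPi
import Cfsg.Agent.H947.PQ.Own_m3
import Cfsg.Agent.S2363
import Cfsg.Agent.SmallSimple.S1000.PSLFacts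
import Cfsg.Agent.SmallSimple.PSLTwoPart
import Cfsg.Prelude.Def_Sporadic
import Cfsg.Agent.S0811
import Cfsg.Agent.H443.PC.RowChar_m3
import Cfsg.Agent.H171.AltGoal
import Cfsg.Agent.S2534
import Cfsg.Agent.S2535
import Cfsg.Agent.H470.Final
import Cfsg.Agent.OddHalf.Known
import Cfsg.Agent.RuD.IdxPermG_m3
import Cfsg.Agent.KFacts.Ru.Core
import Cfsg.Agent.OddHalf.SpTwo.EndCOP_m3
import Cfsg.Agent.RuLat.Main
import Cfsg.Agent.OddHalf.D5.DblClean_m3
import Cfsg.Agent.RuRed.Final768_m3
import Cfsg.Statements.S3876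
import Cfsg.Agent.H841.PiBS.SporA
import Cfsg.Agent.S3829
import Cfsg.Agent.S3608
import Cfsg.Agent.S0000
import Cfsg.Agent.FastGrp
import Cfsg.Agent.Prune
set_option linter.all false

section
prune_inst 0x7ffcfcf9afb835deffff7e7ffff1dffc3994dfffefdffb4bffe8ebffbfbf23061be5fbaf1de0d8fe1ed6e23610b87853fb7eee7fe26bdc7ffffd5ff45ffbee0ff7ffbd0911d69c340f7c6ffff3f17fca7f3fffffffffffffffffffffffffffbeffbfffffffff

-- part: H799/PiBS/MathieuB_mg
section
prune_inst 0x200408a2100000000000800000200000000000000000100000000006100000000000400008020000000000000000000800c00000000000000000000000000000040080080008000000000002000000000000000000000000000000041000000000000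
set_option linter.all false
open scoped Cfsg.Agent.FastGrp

-- part: H799/PiBS/MathieuB
section
/-!
# `Inv3` for the Mathieu groups of degree 22, 23 and 24 (helper799, S3876)
-/

set_option autoImplicit false

namespace Cfsg.Agent.H799.PiBS

open Subgroup Cfsg

/-! ### Words in packed permutations -/

section Words

open Cfsg.Agent.SporadicA.GolayBase Cfsg.Agent.SporadicA.GolayPerm
open Cfsg.Agent.KFacts.MM.El

theorem pr_replicate (n : ℕ) (w : List ℕ) : pr (List.replicate n w).flatten = pr w ^ n := by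
  induction n with
  | zero => simp [pr_nil]
  | succ n ih => rw [List.replicate_succ, List.flatten_cons, pr_append, ih, pow_succ']

theorem okl_replicate (n : ℕ) {w : List ℕ} (h : okl w = true) : okl (List.replicate n w).flatten = true := by
  unfold okl at h ⊢
  rw [List.all_eq_true] at h ⊢
  intro x hx
  rw [List.mem_flatten] at hx
  obtain ⟨l, hl, hxl⟩ := hx
  rw [List.eq_of_mem_replicate hl] at hxl
  exact h x hxl

theorem pr_pow {w : List ℕ} {n : ℕ} (h : okl w = true) (h1 : weq (List.replicate n w).flatten [] = true) :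
    pr w ^ n = 1 := by
  rw [← pr_replicate, pr_of_weq (okl_replicate n h) rfl h1, pr_nil]

theorem orderOf_pr {w : List ℕ} {l : ℕ} (hl : l.Prime) (h : okl w = true)
    (h1 : weq (List.replicate l w).flatten [] = true) (h2 : weq w [] = false) : orderOf (pr w) = l := by
  have := Fact.mk hl
  exact orderOf_eq_prime (pr_pow h h1) (by rw [← pr_nil]; exact pr_ne h rfl h2)

theorem pm_inv {C D : ℕ} (h : okl [C, D] = true) (h1 : weq [C, D] [] = true) : (pm C)⁻¹ = pm D := by
  have h2 := pr_of_weq h rfl h1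
  rw [pr_cons, pr_one, pr_nil] at h2
  exact inv_eq_of_mul_eq_one_right h2

/-- the checks for a commutator of order three -/
def chk (P C D : ℕ) : Bool :=
  okl [P, C, P, D] && weq [P, P] [] && weq [C, D] [] && weq (List.replicate 3 [P, C, P, D]).flatten [] &&
    !weq [P, C, P, D] []

theorem chk_order {P C D : ℕ} (h : chk P C D = true) :
    orderOf (pm P * pm C * (pm P)⁻¹ * (pm C)⁻¹) = 3 := by
  unfold chk at h
  simp only [Bool.and_eq_true, Bool.not_eq_true'] at h
  obtain ⟨⟨⟨⟨h1, h2⟩, h3⟩, h4⟩, h5⟩ := h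
  have k : isPerm P = true ∧ isPerm C = true ∧ isPerm D = true := by
    obtain ⟨a, b⟩ := okl_cons h1
    obtain ⟨b, c⟩ := okl_cons b
    obtain ⟨_, d⟩ := okl_cons c
    exact ⟨a, b, (okl_cons d).1⟩
  have kPP : okl [P, P] = true := by simp [okl, k.1]
  have kCD : okl [C, D] = true := by simp [okl, k.2.1, k.2.2]
  rw [pm_inv kPP h2, pm_inv kCD h3]
  have e : pm P * pm C * pm P * pm D = pr [P, C, P, D] := by
    rw [pr_cons, pr_cons, pr_cons, pr_one]
    group
  rw [e]
  exact orderOf_pr Nat.prime_three h1 h4 h5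

/-- a bad inner automorphism -/
theorem bad_pm {H : Subgroup (Equiv.Perm GolayPt)} {P C D : ℕ} {t : H} (ht : (t : Equiv.Perm GolayPt) = pm P)
    (hC : pm C ∈ H) (h : chk P C D = true) : Bad (MulAut.conj t) := by
  refine ⟨⟨pm C, hC⟩, ?_⟩
  have e : ((MulAut.conj t ⟨pm C, hC⟩ * (⟨pm C, hC⟩ : H)⁻¹ : H) : Equiv.Perm GolayPt) =
      pm P * pm C * (pm P)⁻¹ * (pm C)⁻¹ := by
    rw [← ht]
    rfl
  rw [← Subgroup.orderOf_coe, e, chk_order h]

end Words

/-! ### `M24` -/

section MTwentyFour

open Cfsg.Agent.SporadicA.GolayBase Cfsg.Agent.SporadicA.GolayPerm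
open Cfsg.Agent.KFacts.MM.El
open Cfsg.Agent.SporadicStructure.M24El (el)
open Cfsg.Agent.J4.M24InvolData (P1 P2)
open Cfsg.Agent.OddHalf.D9.M22 (pm_M24)

theorem bad_el {P C D : ℕ} (hP : SporadicStructure.M24El.ok P = true) (hC : SporadicStructure.M24El.ok C = true)
    (h : chk P C D = true) : Bad (MulAut.conj (el P)) :=
  bad_pm (coe_el hP) (pm_M24 hC) h

theorem bad_p1 : Bad (MulAut.conj (el P1)) :=
  bad_el (C := 437758707067709038914504134783280740) (D := 809109752100790879745335978585629126)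
    (by decide +kernel) (by decide +kernel) (by decide +kernel)

theorem bad_p2 : Bad (MulAut.conj (el P2)) :=
  bad_el (C := 222851359312658648554998880393201219) (D := 816060454467999501769312992419128400)
    (by decide +kernel) (by decide +kernel) (by decide +kernel)

theorem inv3_m24 {K : Type*} [Group K] [Finite K] [IsSimpleGroup K] (h : Cfsg.Spor.IsoM24 K) : Inv3 K := by
  have hn := NotCT.Orders.m24 h
  obtain ⟨e⟩ := h
  have hn' : Nat.card M24 = 244823040 := by rw [← hn, Nat.card_congr e.toEquiv]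
  have : Finite M24 := Finite.of_equiv K e.toEquiv
  have hs : IsSimpleGroup M24 := e.symm.isSimpleGroup
  refine Inv3.congr e (Inv3.of_inner (center_bot (by rw [hn']; norm_num))
    Cfsg.Agent.KFacts.M24Two.Out.exists_conj fun t ht h1 => ?_)
  obtain ⟨g, hg | hg⟩ := Cfsg.Agent.J4.M24Invol.invol_conj t ht h1
  · exact bad_p1.inner (isConj_iff.2 ⟨g, hg⟩).symm
  · exact bad_p2.inner (isConj_iff.2 ⟨g, hg⟩).symm

end MTwentyFour

/-! ### `M23` and `M22` -/

section MTwentyThree

open Cfsg.Agent.SporadicA.GolayBase Cfsg.Agent.SporadicA.GolayPerm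
open Cfsg.Agent.KFacts.MM.El
open Cfsg.Agent.Schreier.SylMTwentyTwo (T T_le)
open Cfsg.Agent.OddHalf.D9.M22 (pm_M24 pm_M22)

/-- an involution of `M22` -/
def tP : ℕ := 983549167202528574218691039157455392
/-- an element of `M22` -/
def tC : ℕ := 957391178956800568771511465065272544
/-- its inverse -/
def tD : ℕ := 959372083892655116824445465568818880

theorem tP_mem : pm tP ∈ Spor.M22 := pm_M22 (by decide +kernel)
theorem tC_mem : pm tC ∈ Spor.M22 := pm_M22 (by decide +kernel)

theorem tP_sq : pm tP * pm tP = 1 := by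
  have h := pr_of_weq (l := [tP, tP]) (m := []) (by decide +kernel) rfl (by decide +kernel)
  rwa [pr_cons, pr_one, pr_nil] at h

theorem tP_ne : pm tP ≠ 1 := by
  have h := pr_ne (l := [tP]) (m := []) (by decide +kernel) rfl (by decide +kernel)
  rwa [pr_one, pr_nil] at h

/-- every involution of `M22`, `M23` is bad -/
theorem bad_all {H : Subgroup (Equiv.Perm GolayPt)} [Finite H] (hTH : T ≤ H)
    (hidx : ¬ 2 ∣ (T.subgroupOf H).index) (hM : Spor.M22 ≤ H) (t : H) (h2 : t * t = 1) (h1 : t ≠ 1) :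
    Bad (MulAut.conj t) := by
  obtain ⟨g, hg⟩ := OddHalf.D4.Spor.MathieuSyl.one_class hTH hidx hM t h2 h1
  obtain ⟨k, hk⟩ := OddHalf.D4.Spor.MathieuSyl.one_class hTH hidx hM ⟨pm tP, hM tP_mem⟩ (Subtype.ext tP_sq)
    (fun e => tP_ne (congrArg Subtype.val e))
  have h3 : Bad (MulAut.conj (⟨pm tP, hM tP_mem⟩ : H)) :=
    bad_pm (P := tP) (C := tC) (D := tD) rfl (hM tC_mem) (by decide +kernel)
  exact h3.inner ((isConj_iff.2 ⟨k, hk⟩).symm.trans (isConj_iff.2 ⟨g, hg⟩))

theorem inv3_m23 {K : Type*} [Group K] [Finite K] [IsSimpleGroup K] (h : Cfsg.Spor.IsoM23 K) : Inv3 K := by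
  have hn := NotCT.Orders.m23 h
  have hin := Cfsg.Agent.UGT.MTwentyThree.End.exists_conj (X := Spor.M23) ⟨MulEquiv.refl _⟩
  obtain ⟨e⟩ := h
  have hn' : Nat.card Spor.M23 = 10200960 := by rw [← hn, Nat.card_congr e.toEquiv]
  have : Finite Spor.M23 := Finite.of_equiv K e.toEquiv
  have hs : IsSimpleGroup Spor.M23 := e.symm.isSimpleGroup
  exact Inv3.congr e (Inv3.of_inner (center_bot (by rw [hn']; norm_num)) hin fun t ht h1 =>
    bad_all OddHalf.D4.Spor.M2223.T_le23 OddHalf.D4.Spor.M2223.idx23 OddHalf.D4.Spor.M2223.M22_le_M23 t ht h1)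

end MTwentyThree

section MTwentyTwo

open Cfsg.Agent.SporadicA.GolayBase Cfsg.Agent.SporadicA.GolayPerm
open Cfsg.Agent.KFacts.MM.El
open Cfsg.Agent.Schreier.SylMTwentyTwo (T T_le)
open Cfsg.Agent.OddHalf.D9.M22 (pm_M24 pm_M22 outer_cases)
open Cfsg.Agent.OddHalf.D9.M22.Data (aP bP)
open Cfsg.Agent.KFacts.MM.OutAut (emb emb_inj emb_conj of_emb_mem ind_apply ind_mem)

theorem bad_outer {x : MulAut Spor.M22} {P C D : ℕ} (hx : emb x = pm P) (hC : pm C ∈ Spor.M22)
    (h : chk P C D = true) : Bad x := by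
  refine ⟨⟨pm C, hC⟩, ?_⟩
  have e : ((x ⟨pm C, hC⟩ * (⟨pm C, hC⟩ : Spor.M22)⁻¹ : Spor.M22) : Equiv.Perm GolayPt) =
      pm P * pm C * (pm P)⁻¹ * (pm C)⁻¹ := by
    rw [← hx]
    change (x ⟨pm C, hC⟩ : Equiv.Perm GolayPt) * (pm C)⁻¹ = _
    rw [ind_apply]
    rfl
  rw [← Subgroup.orderOf_coe, e, chk_order h]

/-- an automorphism inducing a conjugate of `pm P` -/
theorem bad_of_emb {x : MulAut Spor.M22} {P C D : ℕ} {g : Equiv.Perm GolayPt} (hg : g ∈ Spor.M22)
    (hx : emb x = g * pm P * g⁻¹) (hC : pm C ∈ Spor.M22) (h : chk P C D = true) : Bad x := by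
  set! y : MulAut Spor.M22 := (MulAut.conj (⟨g, hg⟩ : Spor.M22))⁻¹ * x * MulAut.conj (⟨g, hg⟩ : Spor.M22) with hy
  have h1 : emb y = pm P := by
    rw [hy, map_mul, map_mul, map_inv, emb_conj, hx]
    group
  have h2 := (bad_outer h1 hC h).conj (MulAut.conj (⟨g, hg⟩ : Spor.M22))
  have h3 : MulAut.conj (⟨g, hg⟩ : Spor.M22) * y * (MulAut.conj (⟨g, hg⟩ : Spor.M22))⁻¹ = x := by
    rw [hy]
    group
  rwa [h3] at h2

theorem inv3_m22 {K : Type*} [Group K] [Finite K] [IsSimpleGroup K] (h : Cfsg.Spor.IsoM22 K) : Inv3 K := by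
  have hn := NotCT.Orders.m22 h
  obtain ⟨e⟩ := h
  have hn' : Nat.card Spor.M22 = 443520 := by rw [← hn, Nat.card_congr e.toEquiv]
  have : Finite Spor.M22 := Finite.of_equiv K e.toEquiv
  have hs : IsSimpleGroup Spor.M22 := e.symm.isSimpleGroup
  have hc : center Spor.M22 = ⊥ := center_bot (by rw [hn']; norm_num)
  refine Inv3.congr e fun x hx => ?_
  have hxx : x * x = 1 := by rw [← pow_two, ← hx, pow_orderOf_eq_one]
  have hx1 : x ≠ 1 := fun h => by rw [h, orderOf_one] at hx; omega
  by_cases hin : emb x ∈ Spor.M22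
  · have h1 := of_emb_mem hin
    set t : Spor.M22 := ⟨emb x, hin⟩ with ht
    have ht2 : t * t = 1 := Subtype.ext (by
      show emb x * emb x = 1
      rw [← map_mul, hxx, map_one])
    have ht1 : t ≠ 1 := fun e => hx1 (by rw [h1, e, map_one])
    rw [h1]
    exact bad_all T_le OddHalf.D4.Spor.M2223.idx22 le_rfl t ht2 ht1
  · obtain ⟨g, hg, h1 | h1⟩ := outer_cases (ind_mem x) hin (by
      show emb x * emb x = 1
      rw [← map_mul, hxx, map_one])
    · exact bad_of_emb hg h1 (C := 983549167202528574218691039157455392) (D := 983549167202528574218691039157455392)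
        (pm_M22 (by decide +kernel)) (by decide +kernel)
    · exact bad_of_emb hg h1 (C := 979656431555559492539676632201512096) (D := 983432231429557398545975516781420928)
        (pm_M22 (by decide +kernel)) (by decide +kernel)

end MTwentyTwo

end Cfsg.Agent.H799.PiBS
end

-- part: H799/PiBS/JankoC
section
/-!
# `Inv3` for the third Janko group (helper799, S3876; after H383.R23.J3)
-/

set_option autoImplicit false

namespace Cfsg.Agent.H799.PiBS.J3

open Cfsg Subgroup
open Cfsg.Agent.J2Type.Model Cfsg.Agent.J2Type.CStruct Cfsg.Agent.J3Type.PresDef Cfsg.Agent.J3Type.OneClass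
  Cfsg.Agent.J3Type Cfsg.Agent.J3Type.Loc Cfsg.Agent.J3Type.Chain
open Cfsg.Agent.H383.R23 Cfsg.Agent.H383.R23.J3

universe u

theorem card_alt5 : Nat.card (alternatingGroup (Fin 5)) = 60 := by
  rw [nat_card_alternatingGroup, Nat.card_eq_fintype_card, Fintype.card_fin]
  decide

theorem isSolvable_of_pGroup {G : Type u} [Group G] [Finite G] {p : ℕ} [Fact p.Prime] (h : IsPGroup p G) :
    Group.IsSolvable G := by
  have := h.isNilpotent
  infer_instance

theorem inner_or_bad {K : Type u} [Group K] (h : Spor.IsoJ3 K) (x : MulAut K) (hx : orderOf x = 2) :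
    Bad x ∨ ∃ g : K, x = MulAut.conj g := by
  obtain ⟨hcK, hM, hone, -⟩ := Cfsg.Agent.CpAutJThree.base h
  have hs : IsSimpleGroup K := (Cfsg.Agent.H898.J3Cent.base h).1
  have hfin : Finite K := Nat.finite_of_card_ne_zero (by rw [hcK]; norm_num)
  have hcen : center K = ⊥ := Cfsg.Agent.H269.CubeTools.center_bot_of_simple (by rw [hcK]; norm_num)
  obtain ⟨t, ht, hxt⟩ := exists_fixed x hx (by rw [hcK]; norm_num)
  have ht1 : t ≠ 1 := by
    rintro rfl
    rw [orderOf_one] at ht
    exact absurd ht (by norm_num)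
  obtain ⟨y, s, c, f, g, u, h', d, w, x', v', L, A, htop⟩ := exists_gens hcK t (hM t ht) hone
  obtain ⟨-, hcard, Q, v, ρ, M⟩ := hM t ht
  have hxM : ∀ m ∈ centralizer ({t} : Set K), x m ∈ centralizer ({t} : Set K) := by
    intro m hm
    rw [mem_centralizer_singleton_iff] at hm ⊢
    have := congrArg x hm
    rwa [map_mul, map_mul, hxt] at this
  have htop' : centralizer ({t} : Set K) ≠ ⊤ := by
    intro h1
    have h2 : t ∈ center K := by
      rw [mem_center_iff]
      intro g
      exact mem_centralizer_singleton_iff.1 (h1 ▸ mem_top g)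
    rw [hcen, mem_bot] at h2
    exact ht1 h2
  have hxx : ∀ a, x (x a) = a := by
    intro a
    have h1 : x * x = 1 := by rw [← pow_two, ← hx, pow_orderOf_eq_one]
    exact congrArg (fun φ : MulAut K => φ a) h1
  let θ : MulAut ↥(centralizer ({t} : Set K)) :=
    { toFun := fun m => ⟨x m, hxM m m.2⟩
      invFun := fun m => ⟨x m, hxM m m.2⟩
      left_inv := fun m => Subtype.ext (hxx m)
      right_inv := fun m => Subtype.ext (hxx m)
      map_mul' := fun a b => Subtype.ext (map_mul x _ _) }
  obtain ⟨φ, hφ, hφρ⟩ := exists_hom M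
  have hcC : Nat.card ↥(centralizer ({t} : Set K)) = 1920 := hcard
  have hs5 : IsSimpleGroup (alternatingGroup (Fin 5)) := alternatingGroup.isSimpleGroup (by simp)
  have hsol : Group.IsSolvable ↥φ.ker := by
    have : Fact (Nat.Prime 2) := ⟨Nat.prime_two⟩
    have h1 := Subgroup.card_eq_card_quotient_mul_card_subgroup φ.ker
    rw [Nat.card_congr (QuotientGroup.quotientKerEquivOfSurjective φ hφ).toEquiv, hcC, card_alt5] at h1
    have h2 : Nat.card ↥φ.ker = 2 ^ 5 := by omega
    exact isSolvable_of_pGroup (IsPGroup.of_card h2)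
  rcases eq_or_bad_simple (by rw [← pow_two, ← hx, pow_orderOf_eq_one]) hxM alt5_not_solvable φ hφ hsol inv3_alt5 with
    hbad | hR
  · exact Or.inl hbad
  right
  have hσ : ∀ c, (ρ (θ c)).σ = (ρ c).σ := by
    intro c
    rw [← hφρ, ← hφρ]
    exact congrArg Subtype.val (hR c)
  have hzt : θ (zc t) = zc t := Subtype.ext hxt
  obtain ⟨q, hq⟩ := J3Loc.fix_v M θ hzt hσ
  let β : MulAut K := MulAut.conj (q : K) * x
  have hqt : (q : K) * t = t * q := mem_centralizer_singleton_iff.1 q.2
  have hβt : β t = t := by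
    show MulAut.conj (q : K) (x t) = t
    rw [hxt, MulAut.conj_apply, hqt, mul_inv_cancel_right]
  have hβ : ∀ m : K, m * t = t * m → β m = m ∨ β m = t * m := by
    intro m hm
    have hm' : m ∈ centralizer ({t} : Set K) := mem_centralizer_singleton_iff.2 hm
    have h1 := J3Loc.eq_or M (MulAut.conj q * θ) (by
      rw [MulAut.mul_apply, hzt, MulAut.conj_apply]
      apply Subtype.ext
      show (q : K) * t * (q : K)⁻¹ = t
      rw [hqt, mul_inv_cancel_right]) (fun i => by
      rw [MulAut.mul_apply, MulAut.conj_apply]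
      exact hq i) ⟨m, hm'⟩
    rcases h1 with h1 | h1
    · left
      exact congrArg Subtype.val h1
    · right
      exact congrArg Subtype.val h1
  have htt : t * t = 1 := L.z2
  have hβc : β c = c := by
    rcases hβ c L.zc.symm with h1 | h1
    · exact h1
    · exfalso
      have e := congrArg β L.c3
      rw [map_mul, map_mul, h1, map_one] at e
      apply ht1
      have hc : c * t = t * c := L.zc.symm
      calc t = t * (c * c * c) := by rw [L.c3, mul_one]
        _ = t * c * (t * t * c) * c := by rw [htt]; group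
        _ = t * c * (t * (t * c)) * c := by group
        _ = t * c * (t * (c * t)) * c := by rw [hc]
        _ = t * c * (t * c) * (t * c) := by group
        _ = 1 := e
  have tri : ∀ a b : K, a * t = t * a → b * t = t * b → β a = a → a * b * (a * b) * (a * b) = 1 → β b = b := by
    intro a b ha hb hβa hab
    rcases hβ b hb with h1 | h1
    · exact h1
    · exfalso
      have e := congrArg β hab
      rw [map_mul, map_mul, map_mul, hβa, h1, map_one] at e
      apply ht1
      have hc : a * b * t = t * (a * b) := by rw [mul_assoc, hb, ← mul_assoc, ha, mul_assoc]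
      have e2 : a * (t * b) = t * (a * b) := by rw [← mul_assoc, ha, mul_assoc]
      rw [e2] at e
      calc t = t * (a * b * (a * b) * (a * b)) := by rw [hab, mul_one]
        _ = t * (a * b) * (t * t * (a * b)) * (a * b) := by rw [htt]; group
        _ = t * (a * b) * (t * (t * (a * b))) * (a * b) := by group
        _ = t * (a * b) * (t * (a * b * t)) * (a * b) := by rw [hc]
        _ = t * (a * b) * (t * (a * b)) * (t * (a * b)) := by group
        _ = 1 := e
  have hβf : β f = f := tri c f L.zc.symm L.zf.symm hβc L.cf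
  have hβh : β h' = h' := tri f h' L.zf.symm L.zh.symm hβf L.fh
  have hβg : β g = g := by rw [L.g_def, map_mul, map_mul, map_inv, hβc, hβf]
  have hβs : β s = s := by
    rcases hβ s L.zs.symm with h1 | h1
    · exact h1
    · exfalso
      have hst : s * t = t * s := L.zs.symm
      have hβy : β y = t * y := by
        rw [L.y_def, map_mul, map_mul, hβh, h1]
        rw [← mul_assoc h' t s, L.zh.symm]
        group
      have comm : ∀ a b : K, a * t = t * a → a * (t * b) = t * (a * b) := by
        intro a b ha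
        rw [← mul_assoc, ha, mul_assoc]
      have e := congrArg β L.prod
      simp only [map_mul, h1, hβy, hβf, hβg, hβt] at e
      have hf := L.zf.symm
      have hg := L.zg
      have tl : ∀ a : K, t * (t * a) = a := fun a => by rw [← mul_assoc, htt, one_mul]
      have hp := L.prod
      simp only [mul_assoc] at e hp
      simp only [comm _ _ hf, comm _ _ hg, comm _ _ hst, tl] at e
      rw [hp, htt] at e
      exact ht1 e.symm
  have hfinal : ∃ g : K, β = MulAut.conj g := by
    rcases J3Loc.eq_one_or L A htop β hβt hβc hβf hβh hβs with h1 | h1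
    · exact ⟨1, by rw [h1, map_one]⟩
    · exact ⟨t, h1⟩
  obtain ⟨g₀, hg₀⟩ := hfinal
  refine ⟨(q : K)⁻¹ * g₀, ?_⟩
  rw [map_mul, map_inv, ← hg₀]
  show x = (MulAut.conj (q : K))⁻¹ * (MulAut.conj (q : K) * x)
  rw [inv_mul_cancel_left]


theorem inv3_j3 {K : Type u} [Group K] (h : Cfsg.Spor.IsoJ3 K) : Inv3 K := by
  obtain ⟨hcK, hM, hone, -⟩ := Cfsg.Agent.CpAutJThree.base h
  have hs : IsSimpleGroup K := (Cfsg.Agent.H898.J3Cent.base h).1
  have hfin : Finite K := Nat.finite_of_card_ne_zero (by rw [hcK]; norm_num)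
  have hcen : center K = ⊥ := Cfsg.Agent.H269.CubeTools.center_bot_of_simple (by rw [hcK]; norm_num)
  refine Inv3.of_cases hcen (fun r hr hr1 => ?_) fun x hx _ hin => (inner_or_bad h x hx).resolve_right hin
  have : Fact (Nat.Prime 2) := ⟨Nat.prime_two⟩
  have hr2 : orderOf r = 2 := orderOf_eq_prime (by rw [pow_two, hr]) hr1
  obtain ⟨y, s, c, f, g, u, h', d, w, x', v', L, A, -⟩ := exists_gens hcK r (hM r hr2) hone
  have hf1 : f ≠ 1 := by
    intro h1
    have h2 := L.fu
    rw [h1, one_mul, L.toCEl.u2] at h2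
    exact L.z_ne (by rw [← h2])
  have hne : f * h' ≠ 1 := by
    intro h1
    have h2 : h' = f := by
      have h3 := eq_inv_of_mul_eq_one_right h1
      rw [h3]
      exact inv_eq_of_mul_eq_one_left L.f2
    have h4 := L.fy
    rw [L.y_def, h2] at h4
    have h5 : s * f = f * s := by
      calc s * f = f * f * s * f := by rw [L.f2, one_mul]
        _ = f * (f * s * f) := by group
        _ = f * s * f * f := h4
        _ = f * s * (f * f) := by group
        _ = f * s := by rw [L.f2, mul_one]
    have h6 : u = f := by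
      rw [L.u_def, h5, mul_assoc, L.s2, mul_one]
    have h7 := L.fu
    rw [h6, L.f2, mul_one] at h7
    exact L.z_ne h7.symm
  refine (Bad.of_dihedral (s := f) (t := h') L.f2 L.h2 (by rw [pow_succ, pow_two]; exact L.fh) hne).inner
    (hone f r (orderOf_eq_prime (by rw [pow_two, L.f2]) hf1) hr2)

end Cfsg.Agent.H799.PiBS.J3
end

-- part: H799/PiBS/L32
section
/-!
# `Inv3` for `SL(3, 2)` (helper799, S3876)

Every nontrivial automorphism `x` has an element `a` with `x a * a⁻¹` of order three: a kernel computation over the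
336 images of a generating pair of orders two and three.
-/

set_option autoImplicit false
set_option maxRecDepth 100000

namespace Cfsg.Agent.H799.PiBS.L32

open Subgroup Cfsg Cfsg.Agent.Lib.F2Mat
open Cfsg.Agent.H820.SL32 (S3)

theorem exists_code (M : Matrix (Fin 3) (Fin 3) (ZMod 2)) : ∃ A < 512, toMat 3 A = M := by
  have hinj : Function.Injective (fun A : Fin 512 => toMat 3 A.1) := fun A B h =>
    Fin.ext (toMat_inj (n := 3) A.2 B.2 h)
  have hb : Function.Bijective (fun A : Fin 512 => toMat 3 A.1) := by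
    rw [Fintype.bijective_iff_injective_and_card]
    refine ⟨hinj, ?_⟩
    have h : Fintype.card (Matrix (Fin 3) (Fin 3) (ZMod 2)) = Fintype.card (Fin 3 → Fin 3 → ZMod 2) := rfl
    rw [h, Fintype.card_fin, Fintype.card_fun, Fintype.card_fun, ZMod.card, Fintype.card_fin]
    norm_num
  obtain ⟨A, hA⟩ := hb.2 M
  exact ⟨A.1, A.2, hA⟩

/-- `A` is the code of `g` -/
def Cd (g : S3) (A : ℕ) : Prop := A < 512 ∧ g.1 = toMat 3 A

theorem exists_cd (g : S3) : ∃ A, Cd g A := by
  obtain ⟨A, h1, h2⟩ := exists_code g.1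
  exact ⟨A, h1, h2.symm⟩

theorem Cd.mul {g h : S3} {A B : ℕ} (hg : Cd g A) (hh : Cd h B) : Cd (g * h) (_root_.Cfsg.Agent.Lib.F2Mat.mul 3 A B) :=
  ⟨mul_lt (by norm_num) A B, by
    rw [toMat_mul, ← hg.2, ← hh.2]
    rfl⟩

theorem Cd.one : Cd 1 (_root_.Cfsg.Agent.Lib.F2Mat.one 3) := ⟨one_lt' (n := 3), by rw [toMat_one]; rfl⟩

theorem Cd.eq {g h : S3} {A : ℕ} (hg : Cd g A) (hh : Cd h A) : g = h := Subtype.ext (hg.2.trans hh.2.symm)

theorem Cd.inj {g : S3} {A B : ℕ} (hg : Cd g A) (hh : Cd g B) : A = B :=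
  toMat_inj (n := 3) hg.1 hh.1 (hg.2.symm.trans hh.2)

/-- word in a pair: `0` is `P`, `1` is `Q`, everything else is `Q²` -/
def ev (P Q : ℕ) (w : List ℕ) : ℕ :=
  List.rec (_root_.Cfsg.Agent.Lib.F2Mat.one 3) (fun i _ ih => _root_.Cfsg.Agent.Lib.F2Mat.mul 3 (Nat.rec P (fun j _ => Nat.rec Q (fun _ _ => _root_.Cfsg.Agent.Lib.F2Mat.mul 3 Q Q) j) i) ih) w

/-- the same word in the group -/
def eg {G : Type*} [Group G] (p q : G) : List ℕ → G
  | [] => 1
  | 0 :: w => p * eg p q w
  | 1 :: w => q * eg p q w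
  | (_ + 2) :: w => (q * q) * eg p q w

theorem cd_ev {p q : S3} {P Q : ℕ} (hp : Cd p P) (hq : Cd q Q) : ∀ w : List ℕ, Cd (eg p q w) (ev P Q w)
  | [] => Cd.one
  | 0 :: w => hp.mul (cd_ev hp hq w)
  | 1 :: w => hq.mul (cd_ev hp hq w)
  | (_ + 2) :: w => (hq.mul hq).mul (cd_ev hp hq w)

theorem map_eg {G : Type*} [Group G] (x : MulAut G) (p q : G) : ∀ w : List ℕ, x (eg p q w) = eg (x p) (x q) w
  | [] => map_one x
  | 0 :: w => by rw [eg, eg, map_mul, map_eg]
  | 1 :: w => by rw [eg, eg, map_mul, map_eg]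
  | (_ + 2) :: w => by rw [eg, eg, map_mul, map_mul, map_eg]

/-- the elements with square one -/
def l2 : List ℕ := [84, 124, 161, 167, 214, 233, 266, 273, 275, 277, 279, 281, 302, 305, 309, 313, 337, 345, 401, 403,
  458, 465]

/-- the elements with cube one -/
def l3 : List ℕ := [85, 87, 93, 98, 110, 117, 123, 125, 140, 159, 174, 177, 179, 181, 183, 185, 206, 213, 215, 230,
  234, 236, 241, 249, 267, 271, 273, 282, 286, 299, 303, 314, 318, 331, 340, 342, 346, 348, 359, 372, 380, 395, 410,
  417, 419, 421, 423, 425, 444, 459, 461, 468, 470, 474, 481, 489, 498]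

/-- the words and the inverses of their values -/
def ws : List (List ℕ × ℕ) := [([0], 84), ([0, 1, 0, 2], 86), ([1, 0, 2, 0, 1, 0, 2], 214), ([0, 1, 0, 1, 0, 2], 460),
  ([2, 0, 1], 305), ([1], 359), ([0, 1, 0, 1, 0, 1], 94), ([1, 0, 1, 0, 2], 481), ([0, 1], 335)]

theorem k2 : ∀ P < 512, Nat.beq (_root_.Cfsg.Agent.Lib.F2Mat.mul 3 P P) (_root_.Cfsg.Agent.Lib.F2Mat.one 3) = true → P ∈ l2 := by decide +kernel
theorem k3 : ∀ P < 512, Nat.beq (_root_.Cfsg.Agent.Lib.F2Mat.mul 3 P (_root_.Cfsg.Agent.Lib.F2Mat.mul 3 P P)) (_root_.Cfsg.Agent.Lib.F2Mat.one 3) = true → P ∈ l3 := by decide +kernel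
theorem kw : ∀ w ∈ ws, Nat.beq (_root_.Cfsg.Agent.Lib.F2Mat.mul 3 (ev 84 174 w.1) w.2) (_root_.Cfsg.Agent.Lib.F2Mat.one 3) = true := by decide +kernel

/-- seventh power -/
def p7 (A : ℕ) : ℕ := _root_.Cfsg.Agent.Lib.F2Mat.mul 3 A (_root_.Cfsg.Agent.Lib.F2Mat.mul 3 (_root_.Cfsg.Agent.Lib.F2Mat.mul 3 A A) (_root_.Cfsg.Agent.Lib.F2Mat.mul 3 (_root_.Cfsg.Agent.Lib.F2Mat.mul 3 A A) (_root_.Cfsg.Agent.Lib.F2Mat.mul 3 A A)))

/-- the check -/
def chk (P Q : ℕ) : Bool :=
  (Nat.beq P 84 && Nat.beq Q 174) || ws.any fun w =>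
    force (_root_.Cfsg.Agent.Lib.F2Mat.mul 3 (ev P Q w.1) w.2) fun c => Nat.beq (_root_.Cfsg.Agent.Lib.F2Mat.mul 3 c (_root_.Cfsg.Agent.Lib.F2Mat.mul 3 c c)) (_root_.Cfsg.Agent.Lib.F2Mat.one 3) && !(Nat.beq c (_root_.Cfsg.Agent.Lib.F2Mat.one 3))

theorem kchk : ∀ P ∈ l2, Nat.beq P 273 = false → ∀ Q ∈ l3, Nat.beq (p7 (_root_.Cfsg.Agent.Lib.F2Mat.mul 3 P Q)) (_root_.Cfsg.Agent.Lib.F2Mat.one 3) = true →
    chk P Q = true := by decide +kernel

/-- the element of `SL(3, 2)` with code `A`, when `A ^ k = 1` -/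
theorem exists_elt {A B : ℕ} (hA : A < 512) (h : Nat.beq (_root_.Cfsg.Agent.Lib.F2Mat.mul 3 A B) (_root_.Cfsg.Agent.Lib.F2Mat.one 3) = true) : ∃ g : S3, Cd g A := by
  have h1 : toMat 3 A * toMat 3 B = 1 := by
    rw [← toMat_mul, Nat.eq_of_beq_eq_true h, toMat_one]
  have h2 : (toMat 3 A).det * (toMat 3 B).det = 1 := by rw [← Matrix.det_mul, h1, Matrix.det_one]
  have h3 : (toMat 3 A).det = 1 := by
    have key : ∀ a b : ZMod 2, a * b = 1 → a = 1 := by decide
    exact key _ _ h2
  exact ⟨⟨toMat 3 A, h3⟩, hA, rfl⟩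

theorem ka : Nat.beq (_root_.Cfsg.Agent.Lib.F2Mat.mul 3 84 84) (_root_.Cfsg.Agent.Lib.F2Mat.one 3) = true := by decide +kernel
theorem kb : Nat.beq (_root_.Cfsg.Agent.Lib.F2Mat.mul 3 174 (_root_.Cfsg.Agent.Lib.F2Mat.mul 3 174 174)) (_root_.Cfsg.Agent.Lib.F2Mat.one 3) = true := by decide +kernel
theorem k84 : Nat.beq (ev 84 174 [0]) (_root_.Cfsg.Agent.Lib.F2Mat.one 3) = false := by decide +kernel
theorem kab : Nat.beq (p7 (ev 84 174 [0, 1])) (_root_.Cfsg.Agent.Lib.F2Mat.one 3) = true := by decide +kernel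
theorem kab1 : Nat.beq (ev 84 174 [0, 1]) (_root_.Cfsg.Agent.Lib.F2Mat.one 3) = false := by decide +kernel
theorem kc : Nat.beq (_root_.Cfsg.Agent.Lib.F2Mat.mul 3 (_root_.Cfsg.Agent.Lib.F2Mat.mul 3 (ev 84 174 [0, 1, 0, 2]) (ev 84 174 [0, 1, 0, 2]))
  (_root_.Cfsg.Agent.Lib.F2Mat.mul 3 (ev 84 174 [0, 1, 0, 2]) (ev 84 174 [0, 1, 0, 2]))) (_root_.Cfsg.Agent.Lib.F2Mat.one 3) = true := by decide +kernel
theorem kc1 : Nat.beq (_root_.Cfsg.Agent.Lib.F2Mat.mul 3 (ev 84 174 [0, 1, 0, 2]) (ev 84 174 [0, 1, 0, 2])) (_root_.Cfsg.Agent.Lib.F2Mat.one 3) = false := by decide +kernel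

theorem Cd.eq_one {g : S3} {A : ℕ} (hg : Cd g A) (h : Nat.beq A (Lib.F2Mat.one 3) = true) : g = 1 := by
  rw [Nat.eq_of_beq_eq_true h] at hg
  exact hg.eq Cd.one

theorem Cd.ne_one {g : S3} {A : ℕ} (hg : Cd g A) (h : Nat.beq A (Lib.F2Mat.one 3) = false) : g ≠ 1 := by
  rintro rfl
  rw [Cd.inj hg Cd.one, Nat.beq_refl] at h
  exact absurd h (by decide)

theorem Cd.beq_of_eq_one {g : S3} {A : ℕ} (hg : Cd g A) (h : g = 1) : Nat.beq A (Lib.F2Mat.one 3) = true := by
  subst h
  rw [Cd.inj hg Cd.one, Nat.beq_refl]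

theorem Cd.p7 {g : S3} {A : ℕ} (hg : Cd g A) : Cd (g ^ 7) (p7 A) := by
  have e : g ^ 7 = g * ((g * g) * ((g * g) * (g * g))) := by
    simp only [pow_succ, pow_zero, one_mul, mul_assoc]
  rw [e]
  exact hg.mul ((hg.mul hg).mul ((hg.mul hg).mul (hg.mul hg)))

/-- generators of orders two and three -/
theorem gen {p q : S3} (hp : Cd p 84) (hq : Cd q 174) : Subgroup.closure {p, q} = ⊤ := by
  have hpm : p ∈ Subgroup.closure {p, q} := _root_.Subgroup.subset_closure (Set.mem_insert _ _)
  have hqm : q ∈ Subgroup.closure {p, q} := _root_.Subgroup.subset_closure (Set.mem_insert_of_mem _ rfl)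
  have hc : Cd (eg p q [0, 1]) (ev 84 174 [0, 1]) := cd_ev hp hq _
  have hd : Cd (eg p q [0, 1, 0, 2]) (ev 84 174 [0, 1, 0, 2]) := cd_ev hp hq _
  set c := eg p q [0, 1] with hcd
  set d := eg p q [0, 1, 0, 2] with hdd
  have hcm : c ∈ Subgroup.closure {p, q} := mul_mem hpm (mul_mem hqm (one_mem _))
  have hdm : d ∈ Subgroup.closure {p, q} :=
    mul_mem hpm (mul_mem hqm (mul_mem hpm (mul_mem (mul_mem hqm hqm) (one_mem _))))
  have hfin := Cfsg.Agent.H820.SL32.finite
  have h7 : orderOf c = 7 := by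
    have : Fact (Nat.Prime 7) := ⟨by norm_num⟩
    exact orderOf_eq_prime (hc.p7.eq_one kab) (hc.ne_one kab1)
  have h4 : orderOf d = 2 ^ (1 + 1) := by
    have : Fact (Nat.Prime 2) := ⟨Nat.prime_two⟩
    refine orderOf_eq_prime_pow ?_ ?_
    · rw [pow_one, pow_two]
      exact (hd.mul hd).ne_one kc1
    · have e : d ^ 2 ^ (1 + 1) = (d * d) * (d * d) := by
        norm_num
        simp only [pow_succ, pow_zero, one_mul, mul_assoc]
      rw [e]
      exact ((hd.mul hd).mul (hd.mul hd)).eq_one kc
  apply Cfsg.Agent.H820.SL32.eq_top_of_dvd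
  have e7 : 7 ∣ Nat.card (Subgroup.closure {p, q}) := by
    rw [← h7, ← Subgroup.orderOf_mk c hcm]
    exact _root_.orderOf_dvd_natCard _
  have e4 : 4 ∣ Nat.card (Subgroup.closure {p, q}) := by
    have : 4 = orderOf d := by rw [h4]; norm_num
    rw [this, ← Subgroup.orderOf_mk d hdm]
    exact _root_.orderOf_dvd_natCard _
  exact Nat.Coprime.mul_dvd_of_dvd_of_dvd (by norm_num : Nat.Coprime 4 7) e4 e7

seal _root_.Finset.sum _root_.npowRec _root_.dotProduct in
theorem eq_or_bad' (x : MulAut S3) : x = 1 ∨ Bad x := by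
  obtain ⟨p, hp⟩ := exists_elt (by norm_num) ka
  obtain ⟨q, hq⟩ := exists_elt (by norm_num) kb
  obtain ⟨P, hP⟩ := exists_cd (x p)
  obtain ⟨Q, hQ⟩ := exists_cd (x q)
  have hpp : p * p = 1 := (hp.mul hp).eq_one ka
  have hqq : q * (q * q) = 1 := (hq.mul (hq.mul hq)).eq_one kb
  have hp1 : p ≠ 1 := (cd_ev hp hq [0]).ne_one k84 ∘ fun h => by
    show p * 1 = 1
    rw [h, one_mul]
  have hpq : (p * q) ^ 7 = 1 := by
    have h := (cd_ev hp hq [0, 1]).p7.eq_one kab
    have e : eg p q [0, 1] = p * q := by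
      show p * (q * 1) = _
      rw [mul_one]
    rwa [e] at h
  have m2 : P ∈ l2 := k2 P hP.1 ((hP.mul hP).beq_of_eq_one (by rw [← map_mul, hpp, map_one]))
  have m3 : Q ∈ l3 := k3 Q hQ.1 ((hQ.mul (hQ.mul hQ)).beq_of_eq_one (by rw [← map_mul, ← map_mul, hqq, map_one]))
  have n1 : Nat.beq P 273 = false := by
    rw [Bool.eq_false_iff]
    intro h
    have h1 : x p = 1 := hP.eq_one h
    exact hp1 ((map_eq_one_iff x x.injective).1 h1)
  have c7 : Nat.beq (p7 (_root_.Cfsg.Agent.Lib.F2Mat.mul 3 P Q)) (_root_.Cfsg.Agent.Lib.F2Mat.one 3) = true :=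
    (hP.mul hQ).p7.beq_of_eq_one (by rw [← map_mul, ← map_pow, hpq, map_one])
  have key := kchk P m2 n1 Q m3 c7
  unfold chk at key
  rw [Bool.or_eq_true] at key
  rcases key with h | h
  · left
    rw [Bool.and_eq_true] at h
    have e1 : x p = p := by
      rw [Nat.eq_of_beq_eq_true h.1] at hP
      exact hP.eq hp
    have e2 : x q = q := by
      rw [Nat.eq_of_beq_eq_true h.2] at hQ
      exact hQ.eq hq
    have h3 : x.toMonoidHom = MonoidHom.id S3 := by
      refine MonoidHom.eq_of_eqOn_dense (gen hp hq) ?_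
      rintro t (rfl | rfl)
      · exact e1
      · exact e2
    exact MulEquiv.ext fun t => DFunLike.congr_fun h3 t
  · right
    rw [List.any_eq_true] at h
    obtain ⟨⟨w, v⟩, hw, hc⟩ := h
    rw [force_eq, Bool.and_eq_true, Bool.not_eq_true'] at hc
    obtain ⟨r, hr⟩ := exists_elt (A := ev 84 174 w) (B := v) (cd_ev hp hq w).1 (kw _ hw)
    obtain ⟨V, hV⟩ := exists_cd (eg p q w)⁻¹
    have h1 : toMat 3 (ev 84 174 w) * toMat 3 v = 1 := by
      rw [← toMat_mul, Nat.eq_of_beq_eq_true (kw _ hw), toMat_one]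
    have h2 : ((eg p q w)⁻¹ : S3).1 = toMat 3 v := by
      have e1 : (eg p q w).1 = toMat 3 (ev 84 174 w) := (cd_ev hp hq w).2
      have e2 : ((eg p q w)⁻¹ : S3).1 * (eg p q w).1 = 1 := by
        have : ((eg p q w)⁻¹ * eg p q w : S3) = 1 := inv_mul_cancel _
        exact congrArg Subtype.val this
      calc ((eg p q w)⁻¹ : S3).1 = ((eg p q w)⁻¹ : S3).1 * (toMat 3 (ev 84 174 w) * toMat 3 v) := by
            rw [h1, mul_one]
        _ = toMat 3 v := by rw [← mul_assoc, ← e1, e2, one_mul]
    have hv : v < 512 := by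
      revert hw
      have : ∀ w ∈ ws, w.2 < 512 := by decide
      exact this (w, v)
    have hW : Cd (x (eg p q w) * (eg p q w)⁻¹) (_root_.Cfsg.Agent.Lib.F2Mat.mul 3 (ev P Q w) v) := by
      rw [map_eg]
      exact (cd_ev hP hQ w).mul ⟨hv, h2⟩
    have : Fact (Nat.Prime 3) := ⟨Nat.prime_three⟩
    refine ⟨eg p q w, ?_⟩
    rw [orderOf_eq_prime (p := 3) ?_ (hW.ne_one hc.2)]
    have e : (x (eg p q w) * (eg p q w)⁻¹) ^ 3 = (x (eg p q w) * (eg p q w)⁻¹) *
        ((x (eg p q w) * (eg p q w)⁻¹) * (x (eg p q w) * (eg p q w)⁻¹)) := by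
      rw [pow_succ, pow_two, mul_assoc]
    rw [e]
    exact (hW.mul (hW.mul hW)).eq_one hc.1

theorem inv3_l32 : Inv3 S3 := by
  intro x hx
  rcases eq_or_bad' x with h | h
  · rw [h, orderOf_one] at hx
    omega
  · exact h

end Cfsg.Agent.H799.PiBS.L32
end

-- part: H799/PiBS/He
section
/-!
# `Inv3` for the Held group (helper799, S3876; after H815.Row2He, H287.OutHe)
-/

set_option autoImplicit false
set_option maxRecDepth 100000

namespace Cfsg.Agent.H799.PiBS.He

open Subgroup Cfsg
open Cfsg.Agent.SporadicRecognition.HeldModel Cfsg.Agent.KFacts.TwoSix.Base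
  Cfsg.Agent.KFacts.TwoSix.Facts Cfsg.Agent.OddHalf.D8 Cfsg.Agent.KFacts.TwoSix.Aut
  Cfsg.Agent.Held.AffineIso
open Cfsg.Agent.H287.OutHe Cfsg.Agent.OddHalf.UT5.Model

universe u

/-! ### The involutions -/

section Inn

open Cfsg.Spor Cfsg.Spor.He Cfsg.Agent.SporadicB.HePerm Cfsg.Agent.FixBN.HeStab
open Cfsg.Agent.H58.HeOdd Cfsg.Agent.H815.Row2He

theorem k1 : (chkB (pw [.b, .c] 3) [] && !(chkB [.b, .c] []) && chkB [.b, .b] [] && chkB [.c, .c] []) = true := by
  decide +kernel

theorem k2 : (chkB (pw (zl ++ _root_.Cfsg.Agent.H58.HeOdd.cj [.g] zl) 3) [] && !(chkB (zl ++ _root_.Cfsg.Agent.H58.HeOdd.cj [.g] zl) []) && chkB (zl ++ zl) []) = true := by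
  decide +kernel

theorem bad_c : Bad (MulAut.conj (wd [.c] : Cfsg.Spor.He)) := by
  have h := k1
  simp only [Bool.and_eq_true, Bool.not_eq_true'] at h
  obtain ⟨⟨⟨h1, h2⟩, h3⟩, h4⟩ := h
  have e1 : wd [.b, .c] ^ 3 = 1 := by rw [← wd_pw]; exact eq_of_chkB h1
  have e2 : wd [.b, .c] ≠ 1 := by rw [← wd_nil']; exact ne_of_chkB h2
  have e3 : wd [.b] * wd [.b] = 1 := by rw [← wd_app]; exact eq_of_chkB h3
  have e4 : wd [.c] * wd [.c] = 1 := by rw [← wd_app]; exact eq_of_chkB h4
  have e5 : wd [.b, .c] = wd [.b] * wd [.c] := wd_app [.b] [.c]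
  rw [e5] at e1 e2
  have hb' : (wd [.b])⁻¹ = wd [.b] := inv_eq_of_mul_eq_one_right e3
  have hc' : (wd [.c])⁻¹ = wd [.c] := inv_eq_of_mul_eq_one_right e4
  refine Bad.of_dihedral (t := wd [.b]) e4 e3 ?_ ?_
  · have e6 : (wd [.c] * wd [.b]) = (wd [.b] * wd [.c])⁻¹ := by rw [mul_inv_rev, hb', hc']
    rw [e6, inv_pow, e1, inv_one]
  · intro h5
    apply e2
    have e6 : (wd [.c] * wd [.b]) = (wd [.b] * wd [.c])⁻¹ := by rw [mul_inv_rev, hb', hc']
    rwa [e6, inv_eq_one] at h5

theorem bad_z : Bad (MulAut.conj (CTwoTab.He.z : Cfsg.Spor.He)) := by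
  have h := k2
  simp only [Bool.and_eq_true, Bool.not_eq_true'] at h
  obtain ⟨⟨h1, h2⟩, h3⟩ := h
  have e1 : wd (zl ++ _root_.Cfsg.Agent.H58.HeOdd.cj [.g] zl) ^ 3 = 1 := by rw [← wd_pw]; exact eq_of_chkB h1
  have e2 : wd (zl ++ _root_.Cfsg.Agent.H58.HeOdd.cj [.g] zl) ≠ 1 := by rw [← wd_nil']; exact ne_of_chkB h2
  have e3 : wd zl * wd zl = 1 := by rw [← wd_app]; exact eq_of_chkB h3
  rw [wd_app, wd_cj] at e1 e2
  rw [z_eq]
  refine Bad.of_dihedral e3 ?_ e1 e2
  calc wd [.g] * wd zl * (wd [.g])⁻¹ * (wd [.g] * wd zl * (wd [.g])⁻¹)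
      = wd [.g] * (wd zl * wd zl) * (wd [.g])⁻¹ := by group
    _ = 1 := by rw [e3]; group

theorem inner {k : Cfsg.Spor.He} (hkk : k * k = 1) (hk1 : k ≠ 1) : Bad (MulAut.conj k) := by
  rcases CTwoTab.He.classes hkk hk1 with h | h
  · exact bad_z.inner h
  · have ha : wd [.a] = KFacts.He.Lv.gn .a := KFacts.He.Lv.wd_one _
    exact bad_c.inner (conj_ac.symm.trans (ha ▸ h))

end Inn

/-! ### The outer automorphisms -/

theorem isSimple_L3 : IsSimpleGroup L3 := H820.SL32.isSimple

theorem not_solvable_L3 : ¬ Group.IsSolvable L3 := by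
  intro hsol
  have hs := isSimple_L3
  obtain ⟨x, y, hxy⟩ := H820.SL32.noncomm
  exact hxy (IsSimpleGroup.comm_iff_isSolvable.2 hsol x y)

theorem inv3_L3 : Inv3 L3 := L32.inv3_l32

/-- an involutory automorphism fixing `z` is bad or trivial on `C(z) / O₂(C(z))` -/
theorem bad_or {G : Type u} [Group G] [Finite G] {z : G} {ι : CC →* G} (h : Hyp z ι) {ψ : MulAut G}
    (hψψ : ψ * ψ = 1) {b : CC ≃* CC} (hb : ∀ u, ι (b u) = ψ (ι u)) : Bad ψ ∨ ∀ t, b t * t⁻¹ ∈ Q := by
  have hx : ∀ m ∈ ι.range, ψ m ∈ ι.range := by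
    rintro _ ⟨u, rfl⟩
    exact ⟨b u, hb u⟩
  have hs : IsSimpleGroup L3 := isSimple_L3
  let e : CC ≃* ι.range := MonoidHom.ofInjective h.inj
  have hf2 : Fact (Nat.Prime 2) := ⟨Nat.prime_two⟩
  have hk : Group.IsSolvable ↥(toL3.comp e.symm.toMonoidHom).ker := by
    have hQp : IsPGroup 2 ↥toL3.ker := by
      rw [toL3_ker]
      exact IsPGroup.of_card (n := 7) (by rw [show QQ.subgroupOf CC = Q from rfl, card_Q]; norm_num)
    have h1 : IsPGroup 2 ↥(toL3.comp e.symm.toMonoidHom).ker := by
      rw [← MonoidHom.comap_ker]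
      exact hQp.comap_of_injective _ e.symm.injective
    have := h1.isNilpotent
    infer_instance
  rcases eq_or_bad_simple hψψ hx not_solvable_L3 (toL3.comp e.symm.toMonoidHom)
    (toL3_surjective.comp e.symm.surjective) hk inv3_L3 with hbad | key
  · exact Or.inl hbad
  · right
    intro t
    have key := key (e t)
    have h1 : (⟨ψ (e t), hx _ (e t).2⟩ : ι.range) = e (b t) := Subtype.ext (hb t).symm
    rw [h1] at key
    have h2 : toL3 (b t) = toL3 t := by
      have h3 : toL3 (e.symm (e (b t))) = toL3 (e.symm (e t)) := key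
      rwa [e.symm_apply_apply, e.symm_apply_apply] at h3
    show b t * t⁻¹ ∈ QQ.subgroupOf CC
    rw [← toL3_ker, MonoidHom.mem_ker, map_mul, map_inv, h2, mul_inv_cancel]

/-- **outer involutory automorphisms are bad** -/
theorem outer {G : Type u} [Group G] [Finite G] [IsSimpleGroup G] {z : G} {ι : CC →* G} (h : Hyp z ι) {φ : MulAut G}
    (hφ : φ * φ = 1) (hout : ¬ ∃ g, φ = MulAut.conj g) : Bad φ := by
  have hf : Fact (Nat.Prime 2) := ⟨Nat.prime_two⟩
  obtain ⟨S, hS⟩ := exists_sylow h
  obtain ⟨g, h1, -⟩ := H287.exists_conj hφ S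
  set ψ := MulAut.conj g * φ * (MulAut.conj g)⁻¹ with hψ
  have hψψ' : ψ * ψ = 1 := by
    have : ψ * ψ = MulAut.conj g * (φ * φ) * (MulAut.conj g)⁻¹ := by rw [hψ]; group
    rw [this, hφ, mul_one, mul_inv_cancel]
  have hψψ : ∀ x, ψ (ψ x) = x := fun x => congrArg (fun f : MulAut G => f x) hψψ'
  have hmemS : ∀ x, x ∈ S ↔ ∃ u : ↥CC, (u : L5) ∈ T0 ∧ ι u = x := by
    intro x
    change x ∈ (S : Subgroup G) ↔ _
    rw [hS]
    rfl
  have hzS : z ∈ S := (hmemS z).2 ⟨zC, x_mem_T0 (by decide), h.map_zz⟩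
  -- `ψ` fixes `z`
  have hψz : ψ z = z := by
    have h4 : ψ z = 1 ∨ ψ z = z := by
      refine OddHalf.UT5.KBasic.center_T0 h ?_ ?_
      · obtain ⟨u, -, hu⟩ := (hmemS _).1 (h1 z hzS)
        rw [← hu]
        exact OddHalf.UT5.KBasic.comm_z h u
      · intro u hu
        have h5 : ψ (ι u) ∈ S := h1 _ ((hmemS _).2 ⟨u, hu, rfl⟩)
        obtain ⟨v, -, hv⟩ := (hmemS _).1 h5
        have h6 : ι u = ψ (ι v) := by rw [hv, hψψ]
        rw [h6, ← map_mul, ← map_mul, OddHalf.UT5.KBasic.comm_z h v]
    rcases h4 with h4 | h4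
    · exfalso
      have h5 : z = 1 := by
        have := congrArg ψ h4
        rwa [hψψ, map_one] at this
      exact Held.Pattern.z_ne_one h h5
    · exact h4
  obtain ⟨b, hb⟩ := OddHalf.UT5.KBasic.exists_b h ψ hψz
  rcases KFacts.TwoSix.AutCC.aut b with ⟨c, hc | hc⟩
  · exfalso
    apply hout
    obtain ⟨k, hk⟩ := OddHalf.UT5.KBasic.inner_of h (α := ψ) (c := c)
      (fun u => by rw [← hb, hc, map_mul, map_mul, map_inv])
    refine ⟨g⁻¹ * k * g, ?_⟩
    have h4 : φ = (MulAut.conj g)⁻¹ * ψ * MulAut.conj g := by rw [hψ]; group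
    rw [h4, ← hk, map_mul, map_mul, map_inv]
  · have h5 : φ = (MulAut.conj g)⁻¹ * ψ * (MulAut.conj g)⁻¹⁻¹ := by rw [hψ]; group
    rcases bad_or h hψψ' hb with h4 | h4
    · rw [h5]
      exact h4.conj _
    · exfalso
      refine H815.Row2He.no_swap (b := b) ?_ h4
      intro e he
      rw [hc]
      exact norm_A2 (OddHalf.UT5.Fam.tauC_R1 e he)

theorem inv3_he' : Inv3 Spor.He := by
  have hs : IsSimpleGroup Spor.He := Cfsg.Agent.S1695.result.1
  have hcard : Nat.card Spor.He = 4030387200 := NotCT.Orders.he ⟨MulEquiv.refl _⟩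
  have : Finite Spor.He := Nat.finite_of_card_ne_zero (by rw [hcard]; norm_num)
  obtain ⟨z, ι, hH⟩ := Cfsg.Agent.KFacts.He.Hyp.hyp_he
  refine Inv3.of_cases (center_bot (by rw [hcard]; norm_num)) (fun g hgg hg1 => inner hgg hg1) ?_
  intro x _ hxx hout
  exact outer hH hxx hout

theorem inv3_he {K : Type u} [Group K] [Finite K] [IsSimpleGroup K] (h : Cfsg.Spor.IsoHe K) : Inv3 K := by
  obtain ⟨e⟩ := h
  exact inv3_he'.congr e

end Cfsg.Agent.H799.PiBS.He
end

-- part: H799/PiBS/ONan
section
/-!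
# `Inv3` for the O'Nan group (helper799, S3876)

There is one class of involutions (`f`), and `(e f)³ = 1`. Every outer automorphism of order two is conjugate to `β = bt`
(`T`-twisted conjugacy, table), and `β(w) w⁻¹` has order three for `w = g b g`.
-/

set_option autoImplicit false
set_option maxRecDepth 100000
set_option Elab.async false

namespace Cfsg.Agent.H799.PiBS.ON

open Subgroup Cfsg
open Cfsg.Spor (ON)
open Cfsg.Spor.ON (Gen)
open Cfsg.Agent.SporadicB.ONHom Cfsg.Agent.SporadicB.ON45Data Cfsg.Agent.SporadicB.ON45Word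
open Cfsg.Agent.SporadicB.ON45Rels (gens)
open Cfsg.Agent.UGT.C.BalON Cfsg.Agent.UGT.C.BalONInv Cfsg.Agent.UGT.C.BalONTab
open Cfsg.Agent.UGT.C.PcTab
open Cfsg.Agent.Lib.PackMat (checkScalar checkEq okG)
open Cfsg.Agent.KFacts.ON.Cent (hON)

/-- the word of `β(w) w⁻¹`, `w = g b g` -/
def cw : List Gen := _root_.Cfsg.Agent.UGT.C.BalON.btw ([.g, .b, .g] : List Cfsg.Spor.ON.Gen) ++ ([.g, .g, .g, .b, .g, .g, .g] : List Cfsg.Spor.ON.Gen)

theorem cw_cube : checkScalar C45 ((cw ++ (cw ++ cw)).map fun x => gens (gi x)) 1 0 45 = true := by decide +kernel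

theorem gg_ok : checkScalar C45 (([.g, .b, .g, .g, .g, .g, .b, .g, .g, .g] : List Gen).map fun x => gens (gi x)) 1 0 45 =
    true := by decide +kernel

/-- the matrix of `cw` -/
def cwM : ℕ := 0x400000000000000000000060000140000100001800000000000008000000000000000000000000002000010000000000000000000003000006000000000000040000400000000000000000000010000000000000000400000000000000000000000200000000000000000000000000000000000000800000005000010000000000000000000000000005000004000000000000000000600000000000000000000000000000000400000000000000000000020000180000000000004000018000000000000000500001000000000000000010000000000000001802000004000000000000000000300001000000000000008000000080000000000000006000000000000000000000000800000000000000000050000000000000000000000000014000000000000000000400000000000000000000000000000000000000000000000000000000000000000a0000000000000000000000000000020000000000000000000000000000000000000000000000a0000000000001800000000000000000000000000000c000000000000100000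000000000000000000000060000000000000000001803000000000000000000000000000000006000000000000000000000000000000000000000000040060000000100000000000000000000000000000080000000000000002000018040000000000000000000006000014000060000000000000000000800000000000000000000000000200001000000000000000000000100000c000000000000040000100000000000000000000010000000000000001800000000000000010000000000000000000000000010000000000000000000800000002000000000000000000000000000000000000000000050000000000000000000000000000000000000180000000000000000000000000000000000300000000000001000010000000000000000000000400000000000000000000000000000001800000008000000000000000000000000000000000000020000000140000300001000000000000000030000080000600001000000000000020000000000000000000000004008000028000000000000000000001000002000000000000000000000c0000000000000000000000000000040000000000000a00000000000000000000000000280000000000000000014000000000000000000001400000000000000000000000000100000c0000000000000000006000000000000000000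00000000180000c000000000000000000000c000028000000000000000000003000000000000000000000000000000000000000000020000000000000000000000000008000000000000000000000000000000000000000000000000000000c0000000000000000000000000000000000000000000800000000002000000000000000000000000c0000100000000000000004000030000000000000000000000000008000000000000000000000000000000000000000000000000000000000000000000000050000000000000a00000000000000000000000000100000000000000000000000000000000000600000003005000000028000000000000000000000005000008000000000000000300000800000000000000000000000300000000002000000000000000000040000000000000000000000000010000140000000000000000000014000040000000000000000000006000000000000000000000000000000000000000000060000000000000000000000000010000040000000000000000c00000000000000000000000000000001800000000000000000000000000000000002000000010008000000040000400000000000000000008000020000000000000003000006000000000000000000000000000000000000000000000000000400000000001000000030000000000000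00000000000100001000000000000000050000100000000000000000000000000050000000000000000000000000000000000000000100000000000000000000000000000000000000000001000000000000000000000080000000000000000000018000000000000000c00000000000000008000000000000000000000000008000000000000000000300000000800000000000000000000000200000000000000000000000000000000000000000000000000000050000000000000000000000000000000000000000000000400002800004000000000000000000000a00000000000000010000000000000000a00000006000000000000000000300000000000000000008000000060000000000000000006000000000000000000000000000000000000000000040020000000100000000000000000000000020000080000000000000004000020040000000000000000000000000014000010000000000000000000000000000000000000000000000600001000000000000000000000080000600000000000000000000000000000000c00001000008000000000000000000100000000000000000000000000040000000000000000000000000050000100000000000000000000018000040000000000000000000000000000000000000100000000000000000000000000060000000000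0000000020040000000000000000000000002000000000000000000000000000000004000000000000000000000000000000000000000000000000000000000000000000000000010000000000000000000006000000000000000000000000000003000000000000060000000000000000000000000010000000000000000000001000000000000000000000040000100000000000000010000010000000000000001800000000000000010000000200000000000000000010000000000000000000600000006000000000000000000080000000000000000000000000000000000400000000001000000000000000000000000000000001000010000000000000000500001000003000004000000000000000000000000000000000000060000000000000000400000000000000000000000000400000000000000000018000000040000000000000000002000020000000000000000000000004000008000000060100000000c0000280000000000000000010000060000000000000000800001000000000000060000000000000000000000000000000000000000000c0000000000000000000000000030000000000000000001400000000000000000000000000000000800000000000000000000000000000000000000000008000000000000000000000000006000000000000000000000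5000000000000000000280000000000000000000000000020000180000000000000000000000000000000000000000000000000018000000000000000000001000004000000000000020000000000000000000000000008000000000000000000000000000000000000000100000000000000000000000000000000000000600000003000000000000000000000000000c00000000000000000000000000000100000000000000000000000000040000000000000000000000000060000180000000000000000000000020000000000000000000000000000000000000000000280000000001800000000000000000000000000000c00000000000000040000100000000000c000000000000000000000000000000000000040000000000000000c0000000000000000000000000050000000000000000002000000010000000000000000000000000000000000000000000000000000001000000000004000000000000000000000000000000004000000000000000000001800006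
/-- the matrix of `e f` -/
def efM : ℕ := 0xc0000000000000000000000000000000000000000000000000000000000000000000000000000000000000000000000000000000000000000000006000000000000000000000000000000000000000000000000000000000000000000000000000000000000000000000000000000000000000000180000000000000000000000000000000000000000000000000000000000000000000000000000000000000000000000000000000000000003000000000000000000000000000000000000000000000000000000000000000000000000000000000000000000000000000000000000000000000000000000000000000000000000030000000000000000000000000000000000000000000000000000000000000000000000000000000000000000000000000000000000000000000400000000000000000000000000000000000000000000000000000000000000000000000000000000000000000000000000000000000000028000000000000000000000000000000000000000000000000000000000000000000000000000000000000000000000000000000000000000000000000000000000000000000000000000000000800000000000000000000000000000000000000000000000000000000000000000000000000000000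00000000000000000000000001000000000000000000000000000000000000000000000000000000000000000000000000000000000000000000000000000000000000000010000000000000000000000000000000000000000000000000000000000000000000000000000000000000000000000000000000000000000000000000000000000000000000000000000000002000000000000000000000000000000000000000000000000000000000000000000000000000000000000000000000000000000000000000000000000000000000000006000000000000000000000000000000000000000000000000000000000000000000000000000000000000000000000000000000000000000000000000000000000000000000000060000000000000000000000000000000000000000000000000000000000000000000000000000000000000000000000000000000000000000600000000000000000000000000000000000000000000000000000000000000000000000000000000000000000000000000000000000008000000000000000000000000000000000000000000000000000000000000000000000000000000000000000000400000000000000000000000000000000000000000000000000000000000000000000000000000000000000000000000000000000000000000000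0000000000000000000000000000000000000000000000000000000000000080000000000000000000000000000000000000000000000000000000000000000000000000000000000000000000000000000000000000002000000000000000000000000000000000000000000000000000000000000000000000000000000000000000000000000000000000000010000000000000000000000000000000000000000000000000000000000000000000000000000000000000000000000000000000000000000000000000000000000000000000000000c000000000000000000000000000000000000000000000000000000000000000000000000000000000000000000000000000000000000000040000000000000000000000000000000000000000000000000000000000000000000000000000000000000000000000000000000000000000000000000000000000040000000000000000000000000000000000000000000000000000000000000020000000000000000000000000000000000000000000000000000000000000000000000000000000000000000000000000000000000000000000000004000000000000000000000000000000000000000000000000000000000000000000000000000000000000000000000000000000000000000000000000000000000000000000000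00000000000000000000000000000006000000000000000000000000000000000000000000000000000000000000000000000000000000000000000000000000000000000000010000000000000000000000000000000000000000000000000000000000000000000000000000000000800000000000000000000000000000000000000000000000000000000000000000000000000000000000000000000000000000000000000000000000000000100000000000000000000000000000000000000000000000000000000000000000000000000000000000000000000000000000000000000000000030000000000000000000000000000000000000000000000000000000000000000000000000000000000000000000000000000000000000000000000000000000000000000000000000000000000000000000030000000000000000000000000000000000000000000000000000000000000000000000000140000000000000000000000000000000000000000000000000000000000000000000000000000000000000000000000000000000000000000000000000000040000000000000000000000000000000000000000000000000000000000000000000000000000000000000000000000000000000000000000000000000000004000000000000000000000000000000000000000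0000000000000000000000000000000000000000000000000000000000000000000c000000000000000000000000000000000000000000000000000000000000000000000000000000000000000000000000000000000000000000000000000000800000000000000000000000000000000000000000000000000000000000000000000000000000000000000000000000000000000000000000000000000000c0000000000000000000000000000000000000000000000000000000000000000000000000000000000000000000000000000000000000000000000000000008000000000000000000000000000000000000000000000000000000000000000000000000000000000000000000000000000000000000000000000000000000000000000000000000000000000000000000000000000000000000000000000000000000000000000000000000000800000000000000000000000000000000000000000000000000000000000000000000000000000000000000000000000000000000000000000000000300600000000000000000000000000000000000000000000000000000000000000000000000000000000000000000000000000000000000000000000000000000000000000c000000000000000000000000000000000000000000000000000000000000000000000000000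000000000000000000000000000000000000000000000c00000000000000000000000000000000000000000000000000000000000000000000000000000000000000000000000000000000000000000000000000000000000c00000000000000000000000000000000000000000000000000000000000000000000000000000000000000000000000000000000000000000000000020000000000000000000000000000000000000000000000000000000000000000000000000000000000000000000000000000000000000001800000000000000000000000000000000000000000000000000000000000000000000000000000000000000000000000000000000000000000000000000000100000000000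

theorem cw_chk : ([cwM].all fun g => okG C45 g) = true ∧
    checkEq C45 (cw.map fun x => gens (gi x)) [cwM] 0 45 = true := by
  constructor
  · decide +kernel
  · decide +kernel

theorem ef_chk : ([efM].all fun g => okG C45 g) = true ∧
    checkEq C45 (([.e, .f] : List Gen).map fun x => gens (gi x)) [efM] 0 45 = true := by
  constructor
  · decide +kernel
  · decide +kernel

theorem cw_ne : (cw.map on).prod ≠ 1 := by
  refine ((LW.word cw).change cw_chk.1 cw_chk.2).ne_one ⟨0, by norm_num⟩ ⟨2, by norm_num⟩ (by decide) ?_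
  decide +kernel

theorem ef_ne : ((([.e, .f] : List Gen).map on).prod) ≠ 1 := by
  refine ((LW.word [.e, .f]).change ef_chk.1 ef_chk.2).ne_one ⟨0, by norm_num⟩ ⟨3, by norm_num⟩ (by decide) ?_
  decide +kernel

theorem cw_pow : (cw.map on).prod ^ 3 = 1 := by
  have h := (LW.word (cw ++ (cw ++ cw))).eq_one hON.1 1 (by norm_num) cw_cube
  rw [List.map_append, List.map_append, List.prod_append, List.prod_append] at h
  rw [pow_succ, pow_two, mul_assoc]
  exact h

theorem bad_bt : Bad (bt hON) := by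
  have : Fact (Nat.Prime 3) := ⟨Nat.prime_three⟩
  set w : ON := (([.g, .b, .g] : List Gen).map on).prod with hw
  have h1 := (LW.word [.g, .b, .g, .g, .g, .g, .b, .g, .g, .g]).eq_one hON.1 1 (by norm_num) gg_ok
  have h2 : w * (([.g, .g, .g, .b, .g, .g, .g] : List Gen).map on).prod = 1 := by
    rw [hw, ← List.prod_append, ← List.map_append]
    exact h1
  refine ⟨w, ?_⟩
  have h3 : bt hON w * w⁻¹ = (cw.map on).prod := by
    rw [← eq_inv_of_mul_eq_one_right h2, hw, bt_word, ← List.prod_append, ← List.map_append]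
    rfl
  rw [h3, orderOf_eq_prime cw_pow cw_ne]

/-- the twisted conjugates of `1` -/
theorem tw_ok : ∀ n < 512, mu n (be n) = 0 → ((List.range 512).any fun t => Nat.beq (mu n (be t)) t) = true := by
  decide +kernel

theorem bad_outer {σ : MulAut ON} (hσσ : σ * σ = 1) (hout : ¬ ∃ g, σ = MulAut.conj g) : Bad σ := by
  have hfin := Cfsg.Agent.ONType.RepCent.finite_of_isON hON
  have hs := hON.1
  obtain ⟨x, hx | hx⟩ := out' hON σ
  · exact absurd ⟨x, hx⟩ hout
  obtain ⟨P, hP⟩ := Cfsg.Agent.Schreier.ONTr.exists_sylow hON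
  have hfact : Fact (Nat.Prime 2) := ⟨Nat.prime_two⟩
  obtain ⟨y, h1, -⟩ := H287.exists_conj hσσ P
  obtain ⟨u, hu⟩ : ∃ u, u = y * x * bt hON y⁻¹ := ⟨_, rfl⟩
  have key : ∀ z, (MulAut.conj y * σ * (MulAut.conj y)⁻¹) z = u * bt hON z * u⁻¹ := by
    intro z
    rw [hx, ← map_inv]
    change y * (x * bt hON (y⁻¹ * z * y⁻¹⁻¹) * x⁻¹) * y⁻¹ = _
    rw [hu]
    simp only [map_mul, map_inv]
    group
  have hPT : ∀ z, z ∈ P ↔ z ∈ T := by
    intro z
    change z ∈ (P : Subgroup ON) ↔ z ∈ T
    rw [hP]
  have huT : u ∈ T := by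
    apply norm_T hON
    intro t ht
    have h4 := key (bt hON t)
    rw [bt_bt'] at h4
    rw [← h4, ← hPT]
    exact h1 _ ((hPT _).2 (bt_mem hON ht))
  have huu : u * bt hON u = 1 := by
    apply Cfsg.Agent.UGT.C.BalON.conj_inj hON
    rw [map_one]
    ext z
    show u * bt hON u * z * (u * bt hON u)⁻¹ = z
    have h4 : (MulAut.conj y * σ * (MulAut.conj y)⁻¹) * (MulAut.conj y * σ * (MulAut.conj y)⁻¹) = 1 := by
      have : (MulAut.conj y * σ * (MulAut.conj y)⁻¹) * (MulAut.conj y * σ * (MulAut.conj y)⁻¹) =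
        MulAut.conj y * (σ * σ) * (MulAut.conj y)⁻¹ := by group
      rw [this, hσσ, mul_one, mul_inv_cancel]
    have h5 := congrArg (fun f : MulAut ON => f z) h4
    change (MulAut.conj y * σ * (MulAut.conj y)⁻¹) ((MulAut.conj y * σ * (MulAut.conj y)⁻¹) z) = z at h5
    rw [key, key, map_mul, map_mul, bt_bt', map_inv] at h5
    calc u * bt hON u * z * (u * bt hON u)⁻¹ = u * (bt hON u * z * (bt hON u)⁻¹) * u⁻¹ := by group
      _ = z := h5
  obtain ⟨n, hn, hun⟩ := exists_E hs huT
  have huu' := huu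
  rw [hun, bt_E, E_mul hs hn, ← Cfsg.Agent.UGT.C.BalONInv.E_zero] at huu'
  have h6 := E_inj hs (mu_lt hs hn _) (by norm_num) huu'
  have h7 := tw_ok n hn h6
  rw [List.any_eq_true] at h7
  obtain ⟨t, ht, h8⟩ := h7
  have h9 : mu n (be t) = t := Nat.eq_of_beq_eq_true h8
  have h10 : u * bt hON (E t) = E t := by rw [hun, bt_E, E_mul hs hn, h9]
  -- `σ` is conjugate to `β`
  have h11 : σ = (MulAut.conj (y⁻¹ * E t)) * bt hON * (MulAut.conj (y⁻¹ * E t))⁻¹ := by
    have h12 : MulAut.conj y * σ * (MulAut.conj y)⁻¹ = MulAut.conj (E t) * bt hON * (MulAut.conj (E t))⁻¹ := by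
      apply MulEquiv.ext
      intro z
      rw [key, ← map_inv]
      change u * bt hON z * u⁻¹ = E t * bt hON ((E t)⁻¹ * z * (E t)⁻¹⁻¹) * (E t)⁻¹
      rw [map_mul, map_mul, map_inv, map_inv, map_inv, inv_inv]
      have h13 : u = E t * (bt hON (E t))⁻¹ := eq_mul_inv_of_mul_eq h10
      rw [h13]
      group
    have h14 : σ = (MulAut.conj y)⁻¹ * (MulAut.conj y * σ * (MulAut.conj y)⁻¹) * MulAut.conj y := by group
    rw [h14, h12, map_mul, map_inv]
    group
  rw [h11]
  exact (bad_bt).conj _

theorem inv3_model : Inv3 ON := by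
  have hR := Cfsg.Agent.UGT.C.BalONOut.rels_on hON.1
  have hf : on .e * on .f = (([.e, .f] : List Gen).map on).prod := by simp
  refine Inv3.of_cases (center_eq_bot hON) (fun g h2 h1 => ?_) fun x _ hxx hin => bad_outer hxx hin
  have hb : Bad (MulAut.conj (on .e)) := Bad.of_dihedral hR.ee hR.ff hR.ef (by rw [hf]; exact ef_ne)
  obtain ⟨y, hy⟩ := conj_f hON h2 h1
  have he1 : on .e ≠ 1 := by
    intro h
    have h3 := hR.ef
    rw [h, one_mul] at h3
    have h4 : on .f = 1 := by
      calc on .f = on .f * (on .f * on .f) := by rw [hR.ff, mul_one]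
        _ = on .f ^ 3 := by rw [pow_succ, pow_two]; group
        _ = 1 := h3
    exact ef_ne (by rw [← hf, h, h4, mul_one])
  obtain ⟨z, hz⟩ := conj_f hON hR.ee he1
  exact hb.inner ((isConj_iff.2 ⟨z, hz⟩).trans (isConj_iff.2 ⟨y, hy⟩).symm)

/-- **The O'Nan group.** -/
theorem inv3_on {K : Type*} [Group K] (h : Cfsg.Spor.IsoON K) : Inv3 K := by
  obtain ⟨e⟩ := h
  exact inv3_model.congr e

end Cfsg.Agent.H799.PiBS.ON
end

-- part: H518/PiB/Co3Inv
section
/-!
# Every involution of `Co3` inverts an element of order three (helper518, S3876)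
-/

set_option autoImplicit false

namespace Cfsg.Agent.H518.PiB

open Cfsg Finset Cfsg.Agent.SporadicA.Co0Mono Cfsg.Agent.SporadicStructure.Co0Base
open Cfsg.Agent.SporadicA.Xi Cfsg.Agent.CoOneType.SignFacts
open Cfsg.Agent.SporadicStructure Cfsg.Agent.SporadicStructure.LeechBase
open Cfsg.Agent.SporadicA.GolayBase Cfsg.Agent.SporadicA.GolayPerm
open Cfsg.Agent.SporadicStructure.M24El Cfsg.Agent.Co2Type.Mono
open Cfsg.Agent.SporadicStructure.MinShapes (vec)
open Cfsg.Agent.SporadicA.Co1Simple (allOne allOne_mem_center)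
open Cfsg.Agent.J4.M24InvolData (P1 P2)
open Cfsg.Agent.J4.M24Invol (ok_P1 ok_P2 invol_conj)
open Cfsg.Agent.SigZeroCo2.Lin (mat rep lin Sp)
open XiThree (Sm)

/-! ### traces -/

theorem mat_mul (g h : Co0) : mat (g * h) = mat g * mat h := by
  apply Matrix.toLin'.injective
  rw [Matrix.toLin'_mul]
  have h1 := map_mul rep g h
  exact h1

theorem trace_conj (g h : Co0) : (mat (h * g * h⁻¹)).trace = (mat g).trace := by
  rw [mat_mul, Matrix.trace_mul_comm, ← mat_mul, ← mul_assoc, inv_mul_cancel, one_mul]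

theorem trace_sign (c : golayCode) : (mat (signCo0 c)).trace = 24 - 2 * (wt c : ℚ) := by
  classical
  have h1 : ∀ i, mat (signCo0 c) i i = 1 - 2 * (if i ∈ _root_.Cfsg.Agent.CoOneType.SignFacts.sup c then (1 : ℚ) else 0) := by
    intro i
    unfold mat
    rw [signCo0_smul, signMap_apply, e8_coe, Pi.single_eq_same]
    by_cases hi : i ∈ _root_.Cfsg.Agent.CoOneType.SignFacts.sup c
    · rw [(mem_sup c i).1 hi, sgn_one, if_pos hi]
      norm_num
    · rw [(notMem_sup c i).1 hi, sgn_zero, if_neg hi]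
      norm_num
  show ∑ i, mat (signCo0 c) i i = _
  rw [sum_congr rfl fun i _ => h1 i, sum_sub_distrib, ← mul_sum, sum_ite_mem, univ_inter, sum_const, sum_const,
    MinShapes.card_pt]
  simp [wt]

theorem trace_P2 : (mat (permCo0 (el P2))).trace = 0 := by
  show ∑ i, mat (permCo0 (el P2)) i i = 0
  refine sum_eq_zero fun i _ => ?_
  unfold mat
  rw [permCo0_smul, permMap_apply, e8_coe, Pi.single_eq_of_ne]
  · norm_num
  · intro h
    have h1 : (el P2 : Equiv.Perm GolayPt) i = i := by
      conv_lhs => rw [← h]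
      exact (el P2 : Equiv.Perm GolayPt).apply_symm_apply i
    have h2 : idx ((el P2 : Equiv.Perm GolayPt) i) = papp P2 (idx i) := by
      rw [coe_el ok_P2, idx_permOf]
    rw [h1] at h2
    have h3 : ∀ n, n < 24 → n ≠ papp P2 n := by decide +kernel
    exact h3 _ (idx_lt i) h2

/-! ### even functions on a set -/

theorem exists_even_of {O : Finset GolayPt} {j0 : GolayPt} (hj0 : j0 ∈ O)
    (hp : ∀ j ∈ O.erase j0, ∃ d : golayCode, (d : GolayPt → ZMod 2) j = 1 ∧ (d : GolayPt → ZMod 2) j0 = 1 ∧
      ∀ i ∈ O, i ≠ j → i ≠ j0 → (d : GolayPt → ZMod 2) i = 0)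
    (s : GolayPt → ZMod 2) (hs : ∑ j ∈ O, s j = 0) :
    ∃ d : golayCode, ∀ j ∈ O, (d : GolayPt → ZMod 2) j = s j := by
  classical
  have key : ∀ j, ∃ d : golayCode, j ∈ O.erase j0 → (d : GolayPt → ZMod 2) j = 1 ∧ (d : GolayPt → ZMod 2) j0 = 1 ∧
      ∀ i ∈ O, i ≠ j → i ≠ j0 → (d : GolayPt → ZMod 2) i = 0 := by
    intro j
    by_cases hj : j ∈ O.erase j0
    · obtain ⟨d, hd⟩ := hp j hj
      exact ⟨d, fun _ => hd⟩
    · exact ⟨0, fun h => absurd h hj⟩
  choose D hD using key
  have hco : ∀ (F : Finset GolayPt) (i : GolayPt), ((∑ j ∈ F, s j • D j : golayCode) : GolayPt → ZMod 2) i =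
      ∑ j ∈ F, s j * (D j : GolayPt → ZMod 2) i := by
    intro F i
    rw [Submodule.coe_sum, Finset.sum_apply]
    rfl
  refine ⟨∑ j ∈ O.erase j0, s j • D j, fun i hi => ?_⟩
  rw [hco]
  by_cases hi0 : i = j0
  · subst hi0
    have h1 : ∑ j ∈ O.erase i, s j * (D j : GolayPt → ZMod 2) i = ∑ j ∈ O.erase i, s j :=
      sum_congr rfl fun j hj => by rw [(hD j hj).2.1, mul_one]
    rw [h1]
    have h2 := add_sum_erase O s hi
    rw [hs] at h2
    rw [← sub_eq_zero, sub_eq_add_neg, CharTwo.neg_eq, add_comm]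
    exact h2
  · have hi' : i ∈ O.erase j0 := mem_erase.2 ⟨hi0, hi⟩
    rw [sum_eq_single i]
    · rw [(hD i hi').1, mul_one]
    · intro j hj hji
      rw [(hD j hj).2.2 i hi (Ne.symm hji) hi0, mul_zero]
    · intro h
      exact absurd hi' h

/-- sums of indicator functions -/
theorem sum_ind {O A : Finset GolayPt} (hA : A ⊆ O) : ∑ j ∈ O, (if j ∈ A then (1 : ZMod 2) else 0) = (A.card : ZMod 2) := by
  classical
  rw [sum_ite_mem, inter_eq_right.2 hA, sum_const, nsmul_eq_mul, mul_one]

/-- the half of a lattice vector vanishing somewhere -/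
theorem exists_half {v : leechLattice} {i : GolayPt} (hi : (v : GolayPt → ℤ) i = 0) :
    ∃ y : GolayPt → ℤ, (∀ j, (v : GolayPt → ℤ) j = 2 * y j) ∧ (∑ j, y j) % 4 = 0 ∧
      (fun j => ((y j : ℤ) : ZMod 2)) ∈ golayCode := by
  rcases Cfsg.Agent.SporadicA.LeechMin.even_or_odd v.2 with h | ⟨m, z, hm, hz, -⟩
  · exact h
  · exfalso
    have := hz i
    omega

/-- **vectors of norm 48 vanishing on a word** -/
theorem six_cases {c : golayCode} (hc : wt c ≠ 0) {v : leechLattice} (hn : sqNorm (v : GolayPt → ℤ) = 48)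
    (h0 : ∀ i ∈ _root_.Cfsg.Agent.CoOneType.SignFacts.sup c, (v : GolayPt → ℤ) i = 0) :
    ∃ (o : golayCode) (y : GolayPt → ℤ), (∀ j, (v : GolayPt → ℤ) j = 2 * y j) ∧ (∑ j, y j) % 4 = 0 ∧
      Disjoint (_root_.Cfsg.Agent.CoOneType.SignFacts.sup c) (_root_.Cfsg.Agent.CoOneType.SignFacts.sup o) ∧
      ((wt o = 8 ∧ wt c = 8 ∧ (∀ j ∈ _root_.Cfsg.Agent.CoOneType.SignFacts.sup o, y j = 1 ∨ y j = -1) ∧
          ∃ p, p ∉ _root_.Cfsg.Agent.CoOneType.SignFacts.sup o ∧ p ∉ _root_.Cfsg.Agent.CoOneType.SignFacts.sup c ∧ (y p = 2 ∨ y p = -2) ∧ ∀ j, j ∉ _root_.Cfsg.Agent.CoOneType.SignFacts.sup o → j ≠ p → y j = 0) ∨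
        (wt o = 12 ∧ wt c = 12 ∧ (∀ j ∈ _root_.Cfsg.Agent.CoOneType.SignFacts.sup o, y j = 1 ∨ y j = -1) ∧ ∀ j, j ∉ _root_.Cfsg.Agent.CoOneType.SignFacts.sup o → y j = 0)) := by
  classical
  obtain ⟨i0, hi0⟩ : ((_root_.Cfsg.Agent.CoOneType.SignFacts.sup c).Nonempty :) := by
    rw [← card_pos]
    have : (_root_.Cfsg.Agent.CoOneType.SignFacts.sup c).card = wt c := rfl
    omega
  obtain ⟨y, hy, hs, hd⟩ := exists_half (h0 i0 hi0)
  have hn' : ∑ i, y i ^ 2 = 12 := by
    have h1 : sqNorm (v : GolayPt → ℤ) = 4 * ∑ i, y i ^ 2 := by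
      show ∑ i, (v : GolayPt → ℤ) i ^ 2 = _
      rw [mul_sum]
      refine sum_congr rfl fun i _ => ?_
      rw [hy]
      ring
    omega
  set! o : golayCode := ⟨_, hd⟩ with ho
  have hodd : ∀ i, i ∈ _root_.Cfsg.Agent.CoOneType.SignFacts.sup o ↔ y i % 2 = 1 := by
    intro i
    rw [_root_.Cfsg.Agent.CoOneType.SignFacts.mem_sup]
    show ((y i : ℤ) : ZMod 2) = 1 ↔ _
    constructor
    · intro h
      have h2 : ((y i : ℤ) : ZMod 2) ≠ 0 := by rw [h]; decide
      rw [Ne, ZMod.intCast_zmod_eq_zero_iff_dvd] at h2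
      omega
    · intro h
      rcases zmod2_cases ((y i : ℤ) : ZMod 2) with h1 | h1
      · rw [ZMod.intCast_zmod_eq_zero_iff_dvd] at h1
        omega
      · exact h1
  have hyc : ∀ i ∈ _root_.Cfsg.Agent.CoOneType.SignFacts.sup c, y i = 0 := by
    intro i hi
    have h1 := h0 i hi
    rw [hy] at h1
    omega
  have hdis : Disjoint (_root_.Cfsg.Agent.CoOneType.SignFacts.sup c) (_root_.Cfsg.Agent.CoOneType.SignFacts.sup o) := by
    rw [disjoint_left]
    intro i hi hi'
    rw [hodd, hyc i hi] at hi'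
    omega
  -- the weight of `o`
  have hsplit : ∑ i ∈ _root_.Cfsg.Agent.CoOneType.SignFacts.sup o, y i ^ 2 + ∑ i ∈ (_root_.Cfsg.Agent.CoOneType.SignFacts.sup o)ᶜ, y i ^ 2 = 12 := by rw [sum_add_sum_compl, hn']
  have hnn : ∀ A : Finset GolayPt, 0 ≤ ∑ i ∈ A, y i ^ 2 := fun A => sum_nonneg fun i _ => sq_nonneg _
  have hge : ∀ i ∈ _root_.Cfsg.Agent.CoOneType.SignFacts.sup o, (1 : ℤ) ≤ y i ^ 2 := by
    intro i hi
    have h2 := (hodd i).1 hi
    have h3 : y i ≠ 0 := by omega
    have : 0 < y i ^ 2 := by positivity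
    omega
  have hcardle : (((_root_.Cfsg.Agent.CoOneType.SignFacts.sup o).card :) : ℤ) ≤ ∑ i ∈ _root_.Cfsg.Agent.CoOneType.SignFacts.sup o, y i ^ 2 := by
    have h1 := card_nsmul_le_sum (_root_.Cfsg.Agent.CoOneType.SignFacts.sup o) _ _ hge
    rwa [nsmul_eq_mul, mul_one] at h1
  have hwo : (_root_.Cfsg.Agent.CoOneType.SignFacts.sup o).card = wt o := rfl
  have hwc : (_root_.Cfsg.Agent.CoOneType.SignFacts.sup c).card = wt c := rfl
  -- the symmetric difference with `c`
  have hsd : ((_root_.Cfsg.Agent.CoOneType.SignFacts.sup o).card + (_root_.Cfsg.Agent.CoOneType.SignFacts.sup c).card : ℕ) = 0 ∨ (_root_.Cfsg.Agent.CoOneType.SignFacts.sup o).card + (_root_.Cfsg.Agent.CoOneType.SignFacts.sup c).card = 8 ∨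
      (_root_.Cfsg.Agent.CoOneType.SignFacts.sup o).card + (_root_.Cfsg.Agent.CoOneType.SignFacts.sup c).card = 12 ∨ (_root_.Cfsg.Agent.CoOneType.SignFacts.sup o).card + (_root_.Cfsg.Agent.CoOneType.SignFacts.sup c).card = 16 ∨ (_root_.Cfsg.Agent.CoOneType.SignFacts.sup o).card + (_root_.Cfsg.Agent.CoOneType.SignFacts.sup c).card = 24 := by
    have h2 := card_symmDiff_add (_root_.Cfsg.Agent.CoOneType.SignFacts.sup o) (_root_.Cfsg.Agent.CoOneType.SignFacts.sup c)
    rw [disjoint_iff_inter_eq_empty.1 hdis.symm, card_empty] at h2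
    have h3 := card_of_mem_supports (symmDiff_mem_supports (_root_.Cfsg.Agent.CoOneType.SignFacts.sup_mem o) (_root_.Cfsg.Agent.CoOneType.SignFacts.sup_mem c))
    (clear * - h2 h3; omega)
  have hwo_le : wt o ≤ 12 := by
    have h1 := hnn (_root_.Cfsg.Agent.CoOneType.SignFacts.sup o)ᶜ
    rw [hwo] at hcardle
    omega
  have hone : ∀ i ∈ _root_.Cfsg.Agent.CoOneType.SignFacts.sup o, 7 ≤ (_root_.Cfsg.Agent.CoOneType.SignFacts.sup o).card - 1 → y i = 1 ∨ y i = -1 := by
    intro i hi h7
    have h2 : y i ^ 2 + ∑ k ∈ ((_root_.Cfsg.Agent.CoOneType.SignFacts.sup o).erase i :), y k ^ 2 = ∑ k ∈ _root_.Cfsg.Agent.CoOneType.SignFacts.sup o, y k ^ 2 :=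
      add_sum_erase (_root_.Cfsg.Agent.CoOneType.SignFacts.sup o) (fun k => y k ^ 2) hi
    have h3 : ((_root_.Cfsg.Agent.CoOneType.SignFacts.sup o).erase i).card • (1 : ℤ) ≤ ∑ k ∈ ((_root_.Cfsg.Agent.CoOneType.SignFacts.sup o).erase i :), y k ^ 2 :=
      card_nsmul_le_sum _ _ _ fun k hk => hge k (mem_of_mem_erase hk)
    rw [card_erase_of_mem hi, nsmul_eq_mul, mul_one] at h3
    have h5 : (7 : ℤ) ≤ (((_root_.Cfsg.Agent.CoOneType.SignFacts.sup o).card - 1 : ℕ) : ℤ) := by exact_mod_cast h7
    have h6 := hnn (_root_.Cfsg.Agent.CoOneType.SignFacts.sup o)ᶜ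
    have h9 : y i ^ 2 ≤ 5 := by linarith only [hsplit, h7, h2, h3, h6]
    have h10 : y i ≤ 2 := by nlinarith only [hsplit, h7, h2, h3, h6]
    have h11 : -2 ≤ y i := by nlinarith only [hsplit, h7, h2, h3, h6]
    have h12 := (hodd i).1 hi
    omega
  refine ⟨o, y, hy, hs, hdis, ?_⟩
  rcases wt_cases o with h | h | h | h | h
  · -- all even: impossible
    exfalso
    have hall : ∀ i, ∃ z : ℤ, y i = 2 * z := by
      intro i
      have h1 : i ∉ _root_.Cfsg.Agent.CoOneType.SignFacts.sup o := by
        have h2 : _root_.Cfsg.Agent.CoOneType.SignFacts.sup o = ∅ := card_eq_zero.1 h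
        rw [h2]; simp
      rw [hodd] at h1
      exact ⟨y i / 2, by omega⟩
    choose z hz2 using hall
    have hzn : ∑ i, z i ^ 2 = 3 := by
      have h1 : ∑ i, y i ^ 2 = 4 * ∑ i, z i ^ 2 := by
        rw [mul_sum]
        refine sum_congr rfl fun i _ => ?_
        rw [hz2]
        ring
      omega
    have hzs : (∑ i, z i) % 2 = 0 := by
      have h1 : ∑ i, y i = 2 * ∑ i, z i := by
        rw [mul_sum]
        exact sum_congr rfl fun i _ => hz2 i
      omega
    have h2 : (∑ i, z i ^ 2) % 2 = (∑ i, z i) % 2 := by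
      rw [sum_int_mod, sum_int_mod (f := z)]
      congr 1
      refine sum_congr rfl fun i _ => ?_
      rcases Int.emod_two_eq_zero_or_one (z i) with h | h
      · rw [pow_two, Int.mul_emod, h]; rfl
      · rw [pow_two, Int.mul_emod, h]; rfl
    omega
  · left
    have hone' : ∀ j ∈ _root_.Cfsg.Agent.CoOneType.SignFacts.sup o, y j = 1 ∨ y j = -1 := fun j hj => hone j hj (by omega)
    have hs8 : ∑ i ∈ _root_.Cfsg.Agent.CoOneType.SignFacts.sup o, y i ^ 2 = 8 := by
      have h1 : ∑ i ∈ _root_.Cfsg.Agent.CoOneType.SignFacts.sup o, y i ^ 2 = ∑ i ∈ _root_.Cfsg.Agent.CoOneType.SignFacts.sup o, 1 := by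
        refine sum_congr rfl fun i hi => ?_
        rcases hone' i hi with h | h <;> rw [h] <;> norm_num
      rw [h1, sum_const, hwo, h]
      norm_num
    rw [hs8] at hsplit
    have hs4 : ∑ i ∈ (_root_.Cfsg.Agent.CoOneType.SignFacts.sup o)ᶜ, y i ^ 2 = 4 := by omega
    obtain ⟨p, hp, hyp⟩ : ∃ p ∈ (_root_.Cfsg.Agent.CoOneType.SignFacts.sup o)ᶜ, y p ≠ 0 := by
      by_contra hcon
      push Not at hcon
      rw [sum_eq_zero fun i hi => by rw [hcon i hi]; rfl] at hs4
      omega
    have hpo : p ∉ _root_.Cfsg.Agent.CoOneType.SignFacts.sup o := mem_compl.1 hp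
    have hpe : y p % 2 = 0 := by
      rw [hodd] at hpo
      omega
    have h3 := add_sum_erase (_root_.Cfsg.Agent.CoOneType.SignFacts.sup o)ᶜ (fun k => y k ^ 2) hp
    have h4 := hnn ((_root_.Cfsg.Agent.CoOneType.SignFacts.sup o)ᶜ.erase p)
    have h5 : y p ^ 2 + ∑ k ∈ (_root_.Cfsg.Agent.CoOneType.SignFacts.sup o)ᶜ.erase p, y k ^ 2 = 4 := h3.trans hs4
    have h6 : y p ≤ 2 := by nlinarith only [hsplit, h3, h4]
    have h7 : -2 ≤ y p := by nlinarith only [hsplit, h3, h4]
    have h8 : y p = 2 ∨ y p = -2 := by omega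
    have h9 : ∑ k ∈ (_root_.Cfsg.Agent.CoOneType.SignFacts.sup o)ᶜ.erase p, y k ^ 2 = 0 := by
      rcases h8 with h | h <;> rw [h] at h5 <;> linarith only [h4, h5]
    have hz : ∀ j, j ∉ _root_.Cfsg.Agent.CoOneType.SignFacts.sup o → j ≠ p → y j = 0 := by
      intro j hj hjp
      have h10 := (sum_eq_zero_iff_of_nonneg (fun i _ => sq_nonneg (y i))).1 h9 j
        (mem_erase.2 ⟨hjp, mem_compl.2 hj⟩)
      exact pow_eq_zero_iff (two_ne_zero) |>.1 h10
    refine ⟨h, ?_, hone', p, hpo, ?_, h8, hz⟩
    · -- the weight of `c`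
      have h10 := wt_cases c
      have h11 : wt c ≠ 16 := by
        intro h12
        have h13 : (_root_.Cfsg.Agent.CoOneType.SignFacts.sup c ∪ _root_.Cfsg.Agent.CoOneType.SignFacts.sup o).card = 24 := by
          rw [card_union_of_disjoint hdis]
          omega
        have h14 : _root_.Cfsg.Agent.CoOneType.SignFacts.sup c ∪ _root_.Cfsg.Agent.CoOneType.SignFacts.sup o = univ := by
          apply eq_univ_of_card
          rw [h13]
          decide
        have h15 : p ∈ _root_.Cfsg.Agent.CoOneType.SignFacts.sup c ∪ _root_.Cfsg.Agent.CoOneType.SignFacts.sup o := by rw [h14]; exact mem_univ p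
        rcases mem_union.1 h15 with h16 | h16
        · exact hyp (hyc p h16)
        · exact hpo h16
      (clear * - hc hwo hwc hsd h h10 h11; omega)
    · intro h10
      exact hyp (hyc p h10)
  · right
    have hone' : ∀ j ∈ _root_.Cfsg.Agent.CoOneType.SignFacts.sup o, y j = 1 ∨ y j = -1 := fun j hj => hone j hj (by omega)
    have hs12 : ∑ i ∈ _root_.Cfsg.Agent.CoOneType.SignFacts.sup o, y i ^ 2 = 12 := by
      have h1 : ∑ i ∈ _root_.Cfsg.Agent.CoOneType.SignFacts.sup o, y i ^ 2 = ∑ i ∈ _root_.Cfsg.Agent.CoOneType.SignFacts.sup o, 1 := by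
        refine sum_congr rfl fun i hi => ?_
        rcases hone' i hi with h | h <;> rw [h] <;> norm_num
      rw [h1, sum_const, hwo, h]
      norm_num
    rw [hs12] at hsplit
    have hs0 : ∑ i ∈ (_root_.Cfsg.Agent.CoOneType.SignFacts.sup o)ᶜ, y i ^ 2 = 0 := by omega
    refine ⟨h, ?_, hone', fun j hj => ?_⟩
    · have h10 := wt_cases c
      omega
    · have h10 := (sum_eq_zero_iff_of_nonneg (fun i _ => sq_nonneg (y i))).1 hs0 j (mem_compl.2 hj)
      exact pow_eq_zero_iff (two_ne_zero) |>.1 h10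
  · omega
  · omega

end Cfsg.Agent.H518.PiB
end

-- part: H518/PiB/Co3Fin
section
/-!
# Every involution of `Co3` inverts an element of order three, continued (helper518, S3876)
-/

set_option autoImplicit false

namespace Cfsg.Agent.H518.PiB

open Cfsg Finset Cfsg.Agent.SporadicA.Co0Mono Cfsg.Agent.SporadicStructure.Co0Base
open Cfsg.Agent.SporadicA.Xi Cfsg.Agent.CoOneType.SignFacts
open Cfsg.Agent.SporadicStructure Cfsg.Agent.SporadicStructure.LeechBase
open Cfsg.Agent.SporadicA.GolayBase Cfsg.Agent.SporadicA.GolayPerm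
open Cfsg.Agent.SporadicStructure.M24El Cfsg.Agent.Co2Type.Mono
open Cfsg.Agent.SporadicStructure.MinShapes (vec)
open Cfsg.Agent.SporadicA.Co1Simple (allOne allOne_mem_center)
open Cfsg.Agent.J4.M24InvolData (P1 P2)
open Cfsg.Agent.J4.M24Invol (ok_P1 ok_P2 invol_conj)
open Cfsg.Agent.SigZeroCo2.Lin (mat rep lin Sp)
open XiThree (Sm)

/-- the set of minus signs of a function on a set -/
noncomputable def mn (O : Finset GolayPt) (y : GolayPt → ℤ) : Finset GolayPt := O.filter fun j => y j = -1

theorem mn_subset (O : Finset GolayPt) (y : GolayPt → ℤ) : mn O y ⊆ O := filter_subset _ _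

theorem sum_pm {O : Finset GolayPt} {y : GolayPt → ℤ} (h : ∀ j ∈ O, y j = 1 ∨ y j = -1) :
    ∑ j ∈ O, y j = (O.card : ℤ) - 2 * ((mn O y).card : ℤ) := by
  classical
  have h1 : ∀ j ∈ O, y j = 1 - 2 * (if j ∈ mn O y then 1 else 0) := by
    intro j hj
    unfold mn
    rcases h j hj with h2 | h2
    · rw [h2, if_neg]
      · norm_num
      · rw [mem_filter, h2]
        rintro ⟨-, h3⟩
        norm_num at h3
    · rw [h2, if_pos (mem_filter.2 ⟨hj, h2⟩)]
      norm_num
  rw [sum_congr rfl h1, sum_sub_distrib, ← mul_sum, sum_ite_mem, inter_eq_right.2 (mn_subset O y), sum_const,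
    sum_const]
  simp

/-- sign changes of a function with values `±1` -/
theorem sgn_mn {O L : Finset GolayPt} {y : GolayPt → ℤ} (h : ∀ j ∈ O, y j = 1 ∨ y j = -1) {d : golayCode}
    (hd : ∀ j ∈ O, (d : GolayPt → ZMod 2) j = (if j ∈ mn O y then (1 : ZMod 2) else 0) + (if j ∈ L then 1 else 0))
    {j : GolayPt} (hj : j ∈ O) : sgn ((d : GolayPt → ZMod 2) j) * y j = if j ∈ L then -1 else 1 := by
  classical
  rw [hd j hj, sgn_add]
  rcases h j hj with h2 | h2
  · have h3 : j ∉ mn O y := by
      unfold mn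
      rw [mem_filter, h2]
      rintro ⟨-, h3⟩
      norm_num at h3
    rw [h2, if_neg h3, sgn_zero]
    split_ifs
    · rw [sgn_one]; norm_num
    · rw [sgn_zero]; norm_num
  · have h3 : j ∈ mn O y := by
      unfold mn
      exact mem_filter.2 ⟨hj, h2⟩
    rw [h2, if_pos h3, sgn_one]
    split_ifs
    · rw [sgn_one]; norm_num
    · rw [sgn_zero]; norm_num

/-- **the octad case** -/
theorem i3v_six {c o : golayCode} (hc : wt c = 8) (ho : wt o = 8) (hdis : Disjoint (_root_.Cfsg.Agent.CoOneType.SignFacts.sup c) (_root_.Cfsg.Agent.CoOneType.SignFacts.sup o))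
    {v : leechLattice} {y : GolayPt → ℤ} (hy : ∀ j, (v : GolayPt → ℤ) j = 2 * y j) (hs : (∑ j, y j) % 4 = 0)
    (h1 : ∀ j ∈ _root_.Cfsg.Agent.CoOneType.SignFacts.sup o, y j = 1 ∨ y j = -1) {p : GolayPt} (hpo : p ∉ _root_.Cfsg.Agent.CoOneType.SignFacts.sup o) (hpc : p ∉ _root_.Cfsg.Agent.CoOneType.SignFacts.sup c)
    (hyp : y p = 2 ∨ y p = -2) (hz : ∀ j, j ∉ _root_.Cfsg.Agent.CoOneType.SignFacts.sup o → j ≠ p → y j = 0) : I3v (signCo0 c) v := by
  classical
  have hO : _root_.Cfsg.Agent.CoOneType.SignFacts.sup o ∈ octads := ⟨_root_.Cfsg.Agent.CoOneType.SignFacts.sup_mem o, ho⟩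
  have hO8 : (_root_.Cfsg.Agent.CoOneType.SignFacts.sup o).card = 8 := ho
  have hwc : (_root_.Cfsg.Agent.CoOneType.SignFacts.sup c).card = 8 := hc
  obtain ⟨a, b, ha, hb, hab⟩ := one_lt_card_iff.1 (show 1 < (_root_.Cfsg.Agent.CoOneType.SignFacts.sup o).card by omega)
  obtain ⟨i, hi⟩ : ((_root_.Cfsg.Agent.CoOneType.SignFacts.sup c).Nonempty :) := by rw [← card_pos]; omega
  have hac : a ∉ _root_.Cfsg.Agent.CoOneType.SignFacts.sup c := fun h => (disjoint_left.1 hdis h) ha
  have hbc : b ∉ _root_.Cfsg.Agent.CoOneType.SignFacts.sup c := fun h => (disjoint_left.1 hdis h) hb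
  have hiO : i ∉ _root_.Cfsg.Agent.CoOneType.SignFacts.sup o := disjoint_left.1 hdis hi
  have hip : i ≠ p := fun h => hpc (h ▸ hi)
  have hap : a ≠ p := fun h => hpo (h ▸ ha)
  have hbp : b ≠ p := fun h => hpo (h ▸ hb)
  have hai : a ≠ i := fun h => hac (h ▸ hi)
  have hbi : b ≠ i := fun h => hbc (h ▸ hi)
  have n1 : i ∉ ({p} : Finset GolayPt) := by rw [mem_singleton]; exact hip
  have n2 : b ∉ ({i, p} : Finset GolayPt) := by
    rw [mem_insert, mem_singleton, not_or]; exact ⟨hbi, hbp⟩
  have n3 : a ∉ ({b, i, p} : Finset GolayPt) := by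
    rw [mem_insert, mem_insert, mem_singleton, not_or, not_or]; exact ⟨hab, hai, hap⟩
  have hS4 : ({a, b, i, p} : Finset GolayPt).card = 4 := by
    rw [card_insert_of_notMem n3, card_insert_of_notMem n2, card_insert_of_notMem n1, card_singleton]
  obtain ⟨T, hT, hT0⟩ := Cfsg.Agent.SporadicA.XiSextet.exists_isSextet Cfsg.Agent.S0363.result _ hS4
  have hc0 : fib T 0 ∩ _root_.Cfsg.Agent.CoOneType.SignFacts.sup c = {i} := by
    rw [hT0]
    ext j
    simp only [mem_inter, mem_insert, mem_singleton]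
    constructor
    · rintro ⟨rfl | rfl | rfl | rfl, h⟩
      · exact absurd h hac
      · exact absurd h hbc
      · rfl
      · exact absurd h hpc
    · rintro rfl
      exact ⟨Or.inr (Or.inr (Or.inl rfl)), hi⟩
  have hO0 : fib T 0 ∩ _root_.Cfsg.Agent.CoOneType.SignFacts.sup o = {a, b} := by
    rw [hT0]
    ext j
    simp only [mem_inter, mem_insert, mem_singleton]
    constructor
    · rintro ⟨rfl | rfl | rfl | rfl, h⟩
      · exact Or.inl rfl
      · exact Or.inr rfl
      · exact absurd h hiO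
      · exact absurd h hpo
    · rintro (rfl | rfl)
      · exact ⟨Or.inl rfl, ha⟩
      · exact ⟨Or.inr (Or.inl rfl), hb⟩
  have hTp : T p = 0 := mem_fib.1 (by rw [hT0]; simp)
  have hcard : ∀ k, (fib T k ∩ _root_.Cfsg.Agent.CoOneType.SignFacts.sup o).card = 0 ∨ (fib T k ∩ _root_.Cfsg.Agent.CoOneType.SignFacts.sup o).card = 2 := by
    intro k
    have h1 := parity hT o k
    rw [hO0, card_pair hab] at h1
    have h2 := parity hT c k
    rw [hc0, card_singleton] at h2
    have h3 : (fib T k ∩ _root_.Cfsg.Agent.CoOneType.SignFacts.sup o).card + (fib T k ∩ _root_.Cfsg.Agent.CoOneType.SignFacts.sup c).card ≤ 4 := by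
      rw [← hT.card k, ← card_union_of_disjoint]
      · exact card_le_card (union_subset inter_subset_left inter_subset_left)
      · exact (hdis.symm.mono inter_subset_right inter_subset_right)
    omega
  have hl : ∀ k, ∃ l : GolayPt, (fib T k ∩ _root_.Cfsg.Agent.CoOneType.SignFacts.sup o).card = 2 → l ∈ fib T k ∩ _root_.Cfsg.Agent.CoOneType.SignFacts.sup o := by
    intro k
    by_cases h : (fib T k ∩ _root_.Cfsg.Agent.CoOneType.SignFacts.sup o).card = 2
    · obtain ⟨l, hl⟩ : (fib T k ∩ _root_.Cfsg.Agent.CoOneType.SignFacts.sup o).Nonempty := by rw [← card_pos]; omega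
      exact ⟨l, fun _ => hl⟩
    · exact ⟨a, fun h' => absurd h' h⟩
  choose l hl using hl
  set! L := (_root_.Cfsg.Agent.CoOneType.SignFacts.sup o).filter fun j => j = l (T j) ∨ T j = 0 with hL
  have hL0 : fib T 0 ∩ L = {a, b} := by
    rw [← hO0]
    ext j
    rw [mem_inter, mem_inter, hL, mem_filter, mem_fib]
    constructor
    · rintro ⟨h2, h3, -⟩
      exact ⟨h2, h3⟩
    · rintro ⟨h2, h3⟩
      exact ⟨h2, h3, Or.inr h2⟩
  have hLk : ∀ k, k ≠ 0 → (fib T k ∩ L).card * 2 = (fib T k ∩ _root_.Cfsg.Agent.CoOneType.SignFacts.sup o).card := by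
    intro k hk
    rcases hcard k with h | h
    · have h1 : fib T k ∩ _root_.Cfsg.Agent.CoOneType.SignFacts.sup o = ∅ := card_eq_zero.1 h
      have h2 : fib T k ∩ L = ∅ := by
        rw [← subset_empty, ← h1]
        exact inter_subset_inter_left (filter_subset _ _)
      rw [h1, h2, card_empty]
    · have h1 : fib T k ∩ L = {l k} := by
        ext j
        rw [mem_inter, hL, mem_filter, mem_fib, mem_singleton]
        constructor
        · rintro ⟨h2, -, h3 | h3⟩
          · rw [h3, h2]
          · exact absurd (h2.symm.trans h3) hk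
        · rintro rfl
          have h2 := mem_inter.1 (hl k h)
          have h3 := mem_fib.1 h2.1
          exact ⟨h3, h2.2, Or.inl (by rw [h3])⟩
      rw [h1, h, card_singleton]
  have hL5 : L.card = 5 := by
    have h1 := card_eq_sum T (_root_.Cfsg.Agent.CoOneType.SignFacts.sup o)
    have h2 := card_eq_sum T L
    rw [← add_sum_erase _ _ (mem_univ (0 : Fin 6)), hO0, card_pair hab] at h1
    rw [← add_sum_erase _ _ (mem_univ (0 : Fin 6)), hL0, card_pair hab] at h2
    have h3 : (∑ k ∈ (univ : Finset (Fin 6)).erase 0, (fib T k ∩ L).card) * 2 =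
        ∑ k ∈ (univ : Finset (Fin 6)).erase 0, (fib T k ∩ _root_.Cfsg.Agent.CoOneType.SignFacts.sup o).card := by
      rw [sum_mul]
      exact sum_congr rfl fun k hk => hLk k (ne_of_mem_erase hk)
    omega
  -- the parity of the minus signs
  have hsum : ∑ j, y j = y p + ∑ j ∈ _root_.Cfsg.Agent.CoOneType.SignFacts.sup o, y j := by
    rw [← sum_add_sum_compl (_root_.Cfsg.Agent.CoOneType.SignFacts.sup o) y, add_comm]
    congr 1
    rw [← add_sum_erase _ y (mem_compl.2 hpo), sum_eq_zero, add_zero]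
    intro j hj
    exact hz j (mem_compl.1 (mem_of_mem_erase hj)) (ne_of_mem_erase hj)
  have hodd : (mn (_root_.Cfsg.Agent.CoOneType.SignFacts.sup o) y).card % 2 = 1 := by
    rw [hsum, sum_pm h1, hO8] at hs
    rcases hyp with h | h <;> rw [h] at hs <;> omega
  obtain ⟨d, hd⟩ := exists_even hO
    (fun j => (if j ∈ mn (_root_.Cfsg.Agent.CoOneType.SignFacts.sup o) y then (1 : ZMod 2) else 0) + (if j ∈ L then 1 else 0)) (by
    rw [sum_add_distrib, sum_ind (mn_subset _ _), sum_ind (hL ▸ filter_subset _ _), hL5, ← Nat.cast_add,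
      ZMod.natCast_eq_zero_iff]
    omega)
  -- the sign at `p`
  obtain ⟨e, he, hep⟩ : ∃ e : golayCode, (∀ j ∈ _root_.Cfsg.Agent.CoOneType.SignFacts.sup o, (e : GolayPt → ZMod 2) j = (d : GolayPt → ZMod 2) j) ∧
      sgn ((e : GolayPt → ZMod 2) p) * y p = 2 := by
    by_cases h : sgn (((d : GolayPt → ZMod 2) p :)) * y p = 2
    · exact ⟨d, fun _ _ => rfl, h⟩
    · refine ⟨d + (o + allOne), fun j hj => ?_, ?_⟩
      · show (d : GolayPt → ZMod 2) j + ((o : GolayPt → ZMod 2) j + 1) = _
        rw [(mem_sup o j).1 hj, show (1 : ZMod 2) + 1 = 0 by decide, add_zero]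
      · have h2 : ((d + (o + allOne) : golayCode) : GolayPt → ZMod 2) p = (d : GolayPt → ZMod 2) p + 1 := by
          show (d : GolayPt → ZMod 2) p + ((o : GolayPt → ZMod 2) p + 1) = _
          rw [(notMem_sup o p).1 hpo, zero_add]
        rw [h2, sgn_add, sgn_one]
        rcases zmod2_cases ((d : GolayPt → ZMod 2) p) with h3 | h3 <;> rw [h3] at h ⊢ <;>
          rcases hyp with h4 | h4 <;> rw [h4] at h ⊢ <;> simp only [sgn, ↓ _root_.reduceIte, _root_.one_mul, _root_.not_true_eq_false, _root_.Int.reduceNeg, _root_.mul_neg, _root_.reduceCtorEq, _root_.not_false_eq_true, _root_.mul_one, _root_.neg_mul, _root_.neg_neg, _root_.one_ne_zero] at h ⊢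
  refine I3v.comm (signCo0 e) (sign_comm c e) ?_
  have hvO : ∀ j ∈ _root_.Cfsg.Agent.CoOneType.SignFacts.sup o, ((signCo0 e • v : leechLattice) : GolayPt → ℤ) j = if j ∈ L then -2 else 2 := by
    intro j hj
    rw [signCo0_smul, signMap_apply, hy, mul_left_comm, he j hj, sgn_mn h1 hd hj]
    split_ifs <;> norm_num
  have hvp : ((signCo0 e • v : leechLattice) : GolayPt → ℤ) p = 4 := by
    rw [signCo0_smul, signMap_apply, hy, mul_left_comm, hep]
    norm_num
  have hvz : ∀ j, j ∉ _root_.Cfsg.Agent.CoOneType.SignFacts.sup o → j ≠ p → ((signCo0 e • v : leechLattice) : GolayPt → ℤ) j = 0 := by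
    intro j hj hjp
    rw [signCo0_smul, signMap_apply, hy, hz j hj hjp, mul_zero, mul_zero]
  refine i3v_of_sextet hT (by rw [hc0, card_singleton]) ?_ fun k => ?_
  · intro j hj
    exact hvz j (disjoint_left.1 hdis hj) fun h => hpc (h ▸ hj)
  · by_cases hk : k = 0
    · subst hk
      show ∑ j ∈ fib T 0, _ = (0 : ℤ)
      have haL : a ∈ L := (mem_inter.1 (show a ∈ fib T 0 ∩ L by rw [hL0]; simp)).2
      have hbL : b ∈ L := (mem_inter.1 (show b ∈ fib T 0 ∩ L by rw [hL0]; simp)).2
      rw [hT0, sum_insert n3, sum_insert n2, sum_insert n1, sum_singleton, hvp, hvO a ha, hvO b hb, if_pos haL,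
        if_pos hbL, hvz i hiO hip]
      norm_num
    · show ∑ j ∈ fib T k, _ = (0 : ℤ)
      have h2 : ∀ j ∈ fib T k, ((signCo0 e • v : leechLattice) : GolayPt → ℤ) j =
          2 * (if j ∈ _root_.Cfsg.Agent.CoOneType.SignFacts.sup o then 1 else 0) - 4 * (if j ∈ L then 1 else 0) := by
        intro j hj
        by_cases h3 : j ∈ _root_.Cfsg.Agent.CoOneType.SignFacts.sup o
        · rw [hvO j h3]
          by_cases h4 : j ∈ L <;> simp [h3, h4]
        · have h4 : j ∉ L := fun h => h3 (filter_subset _ _ h)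
          have h5 : j ≠ p := by
            rintro rfl
            exact hk ((mem_fib.1 hj).symm.trans hTp)
          rw [hvz j h3 h5]
          simp [h3, h4]
      rw [sum_congr rfl h2, sum_sub_distrib, ← mul_sum, ← mul_sum, sum_ite_mem, sum_ite_mem, sum_const, sum_const]
      have h3 := hLk k hk
      have h4 : ((fib T k ∩ L).card : ℤ) * 2 = ((fib T k ∩ _root_.Cfsg.Agent.CoOneType.SignFacts.sup o).card : ℤ) := by exact_mod_cast h3
      simp only [nsmul_eq_mul, mul_one]
      linarith only [h3]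

/-! ### the dodecad case -/

/-- the dodecad -/
def m0 : ℕ := 7538489

theorem isCode_m0 : isCode m0 = true := by decide +kernel

/-- the word of the dodecad -/
noncomputable def d0 : golayCode := cd m0

theorem mem_d0 (i : GolayPt) : i ∈ _root_.Cfsg.Agent.CoOneType.SignFacts.sup d0 ↔ m0.testBit (idx i) = true := by
  rw [_root_.Cfsg.Agent.CoOneType.SignFacts.mem_sup, d0, coe_cd isCode_m0, word_apply]
  split_ifs with h
  · simp [h]
  · simp only [h, _root_.zero_ne_one, _root_.Bool.false_eq_true]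

theorem wt_d0 : wt d0 = 12 := by
  have h1 : _root_.Cfsg.Agent.CoOneType.SignFacts.sup d0 = univ.filter fun i : GolayPt => m0.testBit (idx i) = true := by
    ext i
    rw [mem_d0, mem_filter]
    exact ⟨fun h => ⟨mem_univ i, h⟩, fun h => h.2⟩
  show (_root_.Cfsg.Agent.CoOneType.SignFacts.sup d0).card = 12
  rw [h1]
  decide +kernel

/-- the words meeting the dodecad in two points -/
def pw : ℕ → ℕ
  | 3 => 806987
  | 4 => 272595
  | 5 => 45159
  | 8 => 582081
  | 9 => 563843
  | 10 => 551943
  | 16 => 864389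
  | 17 => 153797
  | 20 => 1869893
  | 21 => 2422785
  | _ => 4505735

theorem pw_ok' : ∀ n, n < 24 → (m0.testBit n = false ∨ n = 0 ∨ (isCode (pw n) = true ∧ (pw n).testBit n = true ∧
    (pw n).testBit 0 = true ∧ ∀ k, k < 24 → (m0.testBit k = false ∨ k = n ∨ k = 0 ∨ (pw n).testBit k = false))) := by
  decide +kernel

theorem pw_ok (n : ℕ) (hn : n < 24) (h : m0.testBit n = true) (h0 : n ≠ 0) : isCode (pw n) = true ∧
    (pw n).testBit n = true ∧ (pw n).testBit 0 = true ∧
    ∀ k, k < 24 → m0.testBit k = true → k ≠ n → k ≠ 0 → (pw n).testBit k = false := by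
  rcases pw_ok' n hn with h1 | h1 | ⟨h1, h2, h3, h4⟩
  · rw [h] at h1
    exact absurd h1 (by decide)
  · exact absurd h1 h0
  · refine ⟨h1, h2, h3, fun k hk hk1 hk2 hk3 => ?_⟩
    rcases h4 k hk with h5 | h5 | h5 | h5
    · rw [hk1] at h5
      exact absurd h5 (by decide)
    · exact absurd h5 hk2
    · exact absurd h5 hk3
    · exact h5

theorem even_d0 (s : GolayPt → ZMod 2) (hs : ∑ j ∈ _root_.Cfsg.Agent.CoOneType.SignFacts.sup d0, s j = 0) :
    ∃ d : golayCode, ∀ j ∈ _root_.Cfsg.Agent.CoOneType.SignFacts.sup d0, (d : GolayPt → ZMod 2) j = s j := by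
  classical
  have h0 : (some 0 : GolayPt) ∈ _root_.Cfsg.Agent.CoOneType.SignFacts.sup d0 := by
    rw [mem_d0]
    decide +kernel
  have hidx : idx (some 0 : GolayPt) = 0 := by decide
  refine exists_even_of h0 (fun j hj => ?_) s hs
  have h1 := (mem_d0 j).1 (mem_of_mem_erase hj)
  have h2 : idx j ≠ 0 := by
    intro h
    exact ne_of_mem_erase hj (idx_injective (h.trans hidx.symm))
  obtain ⟨p1, p2, p3, p4⟩ := pw_ok (idx j) (idx_lt j) h1 h2
  refine ⟨cd (pw (idx j)), ?_, ?_, ?_⟩
  · rw [coe_cd p1, word_apply, if_pos p2]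
  · rw [coe_cd p1, word_apply, hidx, if_pos p3]
  · intro i hi hij hi0
    rw [coe_cd p1, word_apply, p4 (idx i) (idx_lt i) ((mem_d0 i).1 hi) (fun h => hij (idx_injective h))
      (fun h => hi0 (idx_injective (h.trans hidx.symm)))]
    rfl

/-- the vector `2` on the dodecad -/
noncomputable def w0 : leechLattice := ⟨fun i => if i ∈ _root_.Cfsg.Agent.CoOneType.SignFacts.sup d0 then 2 else 0, two_on_mem (_root_.Cfsg.Agent.CoOneType.SignFacts.sup_mem d0)⟩

theorem w0_apply (i : GolayPt) : (w0 : GolayPt → ℤ) i = if i ∈ _root_.Cfsg.Agent.CoOneType.SignFacts.sup d0 then 2 else 0 := rfl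

theorem norm_w0 : sqNorm (w0 : GolayPt → ℤ) = 48 := by
  classical
  show ∑ i, (w0 : GolayPt → ℤ) i ^ 2 = 48
  have h1 : ∀ i, (w0 : GolayPt → ℤ) i ^ 2 = if i ∈ _root_.Cfsg.Agent.CoOneType.SignFacts.sup d0 then 4 else 0 := by
    intro i
    rw [w0_apply]
    split_ifs <;> norm_num
  rw [sum_congr rfl fun i _ => h1 i, sum_ite_mem, univ_inter, sum_const, nsmul_eq_mul]
  have h2 : (_root_.Cfsg.Agent.CoOneType.SignFacts.sup d0).card = 12 := wt_d0
  rw [h2]
  norm_num

/-- permutations stabilising the dodecad fix `w0` -/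
theorem perm_w0 {P : ℕ} (hP : ok P = true) (h : ∀ n, n < 24 → m0.testBit (papp P n) = m0.testBit n) :
    permCo0 (el P) • w0 = w0 := by
  apply Subtype.ext
  funext i
  rw [permCo0_smul, permMap_apply, w0_apply, w0_apply]
  have h1 : ∀ j, (el P : Equiv.Perm GolayPt) j ∈ _root_.Cfsg.Agent.CoOneType.SignFacts.sup d0 ↔ j ∈ _root_.Cfsg.Agent.CoOneType.SignFacts.sup d0 := by
    intro j
    rw [mem_d0, mem_d0, coe_el hP, idx_permOf, h (idx j) (idx_lt j)]
  have h2 := h1 ((el P : Equiv.Perm GolayPt).symm i)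
  rw [Equiv.apply_symm_apply] at h2
  exact if_congr h2.symm rfl rfl

theorem i3v_w0 : I3v (permCo0 (el P2)) w0 := by
  have ok33 : ok (pcomp Q3 Q3) = true := ok_pcomp ok_Q3 ok_Q3
  refine ⟨permCo0 (el Q3), ?_, ?_, ?_, ?_⟩
  · rw [← map_mul, ← map_mul, ← el_pcomp ok_Q3 ok_Q3, ← el_pcomp ok33 ok_Q3,
      show pcomp (pcomp Q3 Q3) Q3 = idP by decide +kernel, el_idP, map_one]
  · intro h
    have h1 : mo 0 Q3 = mo 0 idP := by
      unfold mo
      rw [h, el_idP, map_one]
    have h2 := el_inj ok_Q3 ok_idP (by decide +kernel) (by decide +kernel) (mo_inj (by decide +kernel) (by decide +kernel) h1).2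
    exact absurd h2 (by decide +kernel)
  · rw [mul_inv_eq_iff_eq_mul, eq_inv_mul_iff_mul_eq, ← map_mul, ← map_mul, ← el_pcomp ok_P2 ok_Q3,
      ← el_pcomp ok_Q3 (ok_pcomp ok_P2 ok_Q3), show pcomp Q3 (pcomp P2 Q3) = P2 by decide +kernel]
  · exact perm_w0 ok_Q3 (by decide +kernel)

/-- all the pairs of the dodecad type are conjugate -/
theorem dodecad_conj {c o : golayCode} (hc : wt c = 12) (ho : wt o = 12) (hdis : Disjoint (_root_.Cfsg.Agent.CoOneType.SignFacts.sup c) (_root_.Cfsg.Agent.CoOneType.SignFacts.sup o))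
    {v : leechLattice} {y : GolayPt → ℤ} (hy : ∀ j, (v : GolayPt → ℤ) j = 2 * y j) (hs : (∑ j, y j) % 4 = 0)
    (h1 : ∀ j ∈ _root_.Cfsg.Agent.CoOneType.SignFacts.sup o, y j = 1 ∨ y j = -1) (hz : ∀ j, j ∉ _root_.Cfsg.Agent.CoOneType.SignFacts.sup o → y j = 0) :
    ∃ h : Co0, h * signCo0 c * h⁻¹ = signCo0 (d0 + allOne) ∧ h • v = w0 := by
  classical
  have hod : (support₂ (o : GolayPt → ZMod 2) :) ∈ dodecads := ⟨o.2 |> fun h => ⟨_, h, rfl⟩, ho⟩
  have hdd : support₂ (d0 : GolayPt → ZMod 2) ∈ dodecads := ⟨d0.2 |> fun h => ⟨_, h, rfl⟩, wt_d0⟩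
  obtain ⟨σ, hσ⟩ := Cfsg.Agent.CoOneType.InvMain.exists_perm_dodecad hod hdd
  -- `c = o + allOne`
  have hco : c = o + allOne := by
    have h2 : _root_.Cfsg.Agent.CoOneType.SignFacts.sup c = (_root_.Cfsg.Agent.CoOneType.SignFacts.sup o)ᶜ := by
      apply eq_of_subset_of_card_le
      · intro i hi
        rw [mem_compl]
        exact disjoint_left.1 hdis hi
      · have h3 : (_root_.Cfsg.Agent.CoOneType.SignFacts.sup o).card = 12 := ho
        have h4 : (_root_.Cfsg.Agent.CoOneType.SignFacts.sup c).card = 12 := hc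
        rw [card_compl, h3, h4]
        decide
    apply Subtype.ext
    funext j
    show (c : GolayPt → ZMod 2) j = (o : GolayPt → ZMod 2) j + 1
    by_cases hj : j ∈ _root_.Cfsg.Agent.CoOneType.SignFacts.sup o
    · have h3 : j ∉ _root_.Cfsg.Agent.CoOneType.SignFacts.sup c := by rw [h2, mem_compl]; exact fun h => h hj
      rw [(notMem_sup c j).1 h3, (mem_sup o j).1 hj]
      decide
    · have h3 : j ∈ _root_.Cfsg.Agent.CoOneType.SignFacts.sup c := by rw [h2, mem_compl]; exact hj
      rw [(mem_sup c j).1 h3, (notMem_sup o j).1 hj]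
      decide
  have hmem : ∀ j, σ.1 j ∈ _root_.Cfsg.Agent.CoOneType.SignFacts.sup d0 ↔ j ∈ _root_.Cfsg.Agent.CoOneType.SignFacts.sup o := by
    intro j
    rw [← hσ, _root_.Cfsg.Agent.CoOneType.SignFacts.mem_sup, _root_.Cfsg.Agent.CoOneType.SignFacts.mem_sup]
    show (o : GolayPt → ZMod 2) (σ.1.symm (σ.1 j)) = 1 ↔ _
    rw [Equiv.symm_apply_apply]
  -- the moved function
  set! y' : GolayPt → ℤ := fun j => y (σ.1.symm j) with hy'
  have hsy : ∑ j, y' j = ∑ j, y j := Equiv.sum_comp σ.1.symm y
  have h1' : ∀ j ∈ _root_.Cfsg.Agent.CoOneType.SignFacts.sup d0, y' j = 1 ∨ y' j = -1 := by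
    intro j hj
    apply h1
    rw [← hmem, Equiv.apply_symm_apply]
    exact hj
  have hz' : ∀ j, j ∉ _root_.Cfsg.Agent.CoOneType.SignFacts.sup d0 → y' j = 0 := by
    intro j hj
    apply hz
    rw [← hmem, Equiv.apply_symm_apply]
    exact hj
  have hev : (mn (_root_.Cfsg.Agent.CoOneType.SignFacts.sup d0) y').card % 2 = 0 := by
    have h2 : ∑ j, y' j = ∑ j ∈ _root_.Cfsg.Agent.CoOneType.SignFacts.sup d0, y' j := by
      rw [← sum_add_sum_compl (_root_.Cfsg.Agent.CoOneType.SignFacts.sup d0) y', sum_eq_zero (s := (_root_.Cfsg.Agent.CoOneType.SignFacts.sup d0)ᶜ), add_zero]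
      exact fun j hj => hz' j (mem_compl.1 hj)
    have h3 : (_root_.Cfsg.Agent.CoOneType.SignFacts.sup d0).card = 12 := wt_d0
    rw [← hsy, h2, sum_pm h1', h3] at hs
    omega
  obtain ⟨d, hd⟩ := even_d0 (fun j => (if j ∈ mn (_root_.Cfsg.Agent.CoOneType.SignFacts.sup d0) y' then (1 : ZMod 2) else 0) + (if j ∈ (∅ : Finset GolayPt) then 1 else 0)) (by
    rw [sum_add_distrib, sum_ind (mn_subset _ _), sum_ind (empty_subset _), card_empty, ← Nat.cast_add,
      ZMod.natCast_eq_zero_iff]
    omega)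
  refine ⟨signCo0 d * permCo0 σ, ?_, ?_⟩
  · have h2 : permCo0 σ * signCo0 c * (permCo0 σ)⁻¹ = signCo0 (d0 + allOne) := by
      rw [perm_mul_sign, mul_inv_cancel_right, hco, Cfsg.Agent.CoOneType.InvMain.wordPerm_add, hσ,
        Cfsg.Agent.CoOneType.InvMain.wordPerm_allOne]
    rw [mul_inv_rev, show signCo0 d * permCo0 σ * signCo0 c * ((permCo0 σ)⁻¹ * (signCo0 d)⁻¹) =
      signCo0 d * (permCo0 σ * signCo0 c * (permCo0 σ)⁻¹) * (signCo0 d)⁻¹ by group, h2, sign_comm,
      mul_inv_cancel_right]
  · apply Subtype.ext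
    funext j
    rw [mul_smul, signCo0_smul, signMap_apply, permCo0_smul, permMap_apply, w0_apply, hy]
    show sgn (((d : GolayPt → ZMod 2) j :)) * (2 * y' j) = _
    by_cases hj : j ∈ _root_.Cfsg.Agent.CoOneType.SignFacts.sup d0
    · rw [mul_left_comm, sgn_mn h1' hd hj, if_pos hj]
      simp
    · rw [hz' j hj, if_neg hj]
      simp

/-- an involution is conjugate to a sign change on a word off the vector -/
theorem exists_conj_sign {t : Co0} (ht : t * t = 1) (ht1 : t ≠ 1) {v : leechLattice} (htv : t • v = v) :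
    ∃ (g : Co0) (c : golayCode), wt c ≠ 0 ∧ g * t * g⁻¹ = signCo0 c ∧ ∀ i ∈ _root_.Cfsg.Agent.CoOneType.SignFacts.sup c, ((g • v : leechLattice) : GolayPt → ℤ) i = 0 := by
  obtain ⟨g, c, hg⟩ := Cfsg.Agent.CoOneType.InvMain.conj_sign_of_sq_one t ht
  refine ⟨g, c, ?_, hg, ?_⟩
  · intro hw0
    apply ht1
    have h3 : c = 0 := by
      apply Cfsg.Agent.CoOneType.InvMain.word_ext
      have h4 : _root_.Cfsg.Agent.CoOneType.SignFacts.sup c = ∅ := card_eq_zero.1 hw0
      have h5 : _root_.Cfsg.Agent.CoOneType.SignFacts.sup 0 = ∅ := by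
        rw [eq_empty_iff_forall_notMem]
        intro i
        rw [notMem_sup]
        rfl
      exact h4.trans h5.symm
    rw [h3, signCo0_zero, mul_inv_eq_one, mul_eq_left] at hg
    exact hg
  · have hfix : signCo0 c • (g • v) = g • v := by
      rw [← hg, mul_smul, mul_smul, inv_smul_smul, htv]
    exact (sign_fixed_iff c _).1 hfix

/-- **involutions of the stabiliser of a vector of norm 48** -/
theorem i3v_norm48 {t : Co0} (ht : t * t = 1) (ht1 : t ≠ 1) {v : leechLattice} (hv : sqNorm (v : GolayPt → ℤ) = 48)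
    (htv : t • v = v) : I3v t v := by
  obtain ⟨g, c, hc, hg, h0⟩ := exists_conj_sign ht ht1 htv
  refine I3v.conj g ?_
  rw [hg]
  have hn : sqNorm ((g • v : leechLattice) : GolayPt → ℤ) = 48 := (Cfsg.Agent.LeechMat.Core.co0_sqNorm g v).trans hv
  obtain ⟨o, y, hy, hs, hdis, ⟨ho, hc8, h1, p, hpo, hpc, hyp, hz⟩ | ⟨ho, hc12, h1, hz⟩⟩ := six_cases hc hn h0
  · exact i3v_six hc8 ho hdis hy hs h1 hpo hpc hyp hz
  · obtain ⟨h, hh1, hh2⟩ := dodecad_conj hc12 ho hdis hy hs h1 hz
    -- the model
    have hP2 : permCo0 (el P2) * permCo0 (el P2) = 1 := by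
      rw [← map_mul, ← el_pcomp ok_P2 ok_P2, show pcomp P2 P2 = idP by decide +kernel, el_idP, map_one]
    have hP1 : permCo0 (el P2) ≠ 1 := by
      intro h
      have h1 : mo 0 P2 = mo 0 idP := by
        unfold mo
        rw [h, el_idP, map_one]
      have h2 := el_inj ok_P2 ok_idP (by decide +kernel) (by decide +kernel) (mo_inj (by decide +kernel) (by decide +kernel) h1).2
      exact absurd h2 (by decide +kernel)
    obtain ⟨g', c', hc', hg', h0'⟩ := exists_conj_sign hP2 hP1 (v := w0) (perm_w0 ok_P2 (by decide +kernel))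
    have hn' : sqNorm ((g' • w0 : leechLattice) : GolayPt → ℤ) = 48 :=
      (Cfsg.Agent.LeechMat.Core.co0_sqNorm g' w0).trans norm_w0
    have hwt : wt c' = 12 := by
      have e1 := trace_sign c'
      rw [← hg', trace_conj, trace_P2] at e1
      have e2 : (2 * (wt c' : ℚ)) = 24 := by linarith only [e1]
      have e3 : (wt c' : ℚ) = 12 := by linarith only [e1]
      exact_mod_cast e3
    obtain ⟨o', y', hy', hs', hdis', ⟨-, h8, -⟩ | ⟨ho', -, h1', hz'⟩⟩ := six_cases hc' hn' h0'
    · omega
    · obtain ⟨k, hk1, hk2⟩ := dodecad_conj hwt ho' hdis' hy' hs' h1' hz'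
      -- transport
      refine I3v.conj ((k * g')⁻¹ * h) ?_
      have e1 : (k * g') * permCo0 (el P2) * (k * g')⁻¹ = signCo0 (d0 + allOne) := by
        rw [← hk1, ← hg']
        group
      have e2 : (k * g')⁻¹ * h * signCo0 c * ((k * g')⁻¹ * h)⁻¹ = permCo0 (el P2) := by
        calc (k * g')⁻¹ * h * signCo0 c * ((k * g')⁻¹ * h)⁻¹ = (k * g')⁻¹ * (h * signCo0 c * h⁻¹) * (k * g') := by group
          _ = (k * g')⁻¹ * ((k * g') * permCo0 (el P2) * (k * g')⁻¹) * (k * g') := by rw [hh1, e1]
          _ = permCo0 (el P2) := by group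
      have e3 : ((k * g')⁻¹ * h) • (g • v) = w0 := by
        rw [mul_smul, hh2]
        have e4 : (k * g') • w0 = w0 := by rw [mul_smul, hk2]
        conv_lhs => rw [← e4]
        rw [inv_smul_smul]
      rw [e2, e3]
      exact i3v_w0

/-- **`Co3`** -/
theorem i3_co3 {v : leechLattice} (hv : sqNorm (v : GolayPt → ℤ) = 48) {x : MulAction.stabilizer Co0 v}
    (hx : orderOf x = 2) : I3 x := by
  have hx2 : (x : Co0) * (x : Co0) = 1 := by
    have h1 := pow_orderOf_eq_one x
    rw [hx, pow_two] at h1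
    exact congrArg Subtype.val h1
  have hx1 : (x : Co0) ≠ 1 := by
    intro h1
    have h2 : x = 1 := Subtype.ext h1
    rw [h2, orderOf_one] at hx
    norm_num at hx
  obtain ⟨g, g1, g2, g3, g4⟩ := i3v_norm48 hx2 hx1 hv x.2
  exact ⟨⟨g, g4⟩, Subtype.ext g1, fun h => g2 (congrArg Subtype.val h), Subtype.ext g3⟩

end Cfsg.Agent.H518.PiB
end

-- part: H518/PiB/CoRows
section
/-!
# `Inv3` for the Conway groups (helper518, for the sporadic rows with `3 ∉ π` of S3876)

`inv3_co1`, `inv3_co2`, `inv3_co3`: for every automorphism `x` of order two there is `a` with `3 ∣ orderOf (x a * a⁻¹)`.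
-/

set_option autoImplicit false

namespace Cfsg.Agent.H518.PiB

open Subgroup Cfsg Cfsg.Agent.H465.SporB

universe u

/-- transport of `Inv3` -/
theorem Inv3.congr {K L : Type*} [Group K] [Group L] (e : K ≃* L) (h : Inv3 K) : Inv3 L := by
  intro x hx
  obtain ⟨a, ha⟩ := h (MulAut.congr e.symm x) (by rw [MulEquiv.orderOf_eq]; exact hx)
  refine ⟨e a, ?_⟩
  have h1 : x (e a) * (e a)⁻¹ = e ((MulAut.congr e.symm x) a * a⁻¹) := by
    rw [map_mul, map_inv]
    congr 1
    show _ = e (e.symm (x (e.symm.symm a)))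
    rw [MulEquiv.apply_symm_apply]
    rfl
  rw [h1, MulEquiv.orderOf_eq]
  exact ha

theorem inner_of_out {K : Type*} [Group K] (h : Nat.card (Out K) = 1) (x : MulAut K) : ∃ g : K, x = MulAut.conj g := by
  have h1 : (Inn K).index = 1 := h
  rw [Subgroup.index_eq_one] at h1
  have h2 : x ∈ Inn K := h1 ▸ mem_top x
  obtain ⟨g, hg⟩ := h2
  exact ⟨g, hg.symm⟩

theorem center_bot {K : Type*} [Group K] (hs : IsSimpleGroup K) (hn : ¬ (Nat.card K).Prime)
    (h0 : Nat.card K ≠ 0) : center K = ⊥ := by
  haveI : Finite K := Nat.finite_of_card_ne_zero h0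
  rcases hs.eq_bot_or_eq_top_of_normal (center K) inferInstance with h | h
  · exact h
  · exfalso
    letI : CommGroup K := { ‹Group K› with mul_comm := fun a b => (mem_center_iff.1 (h ▸ mem_top b) a) }
    haveI : IsSimpleGroup K := hs
    exact hn IsSimpleGroup.prime_card

/-- groups whose involutions invert elements of order three -/
theorem Inv3.of_i3 {K : Type*} [Group K] (hs : IsSimpleGroup K) (hn : ¬ (Nat.card K).Prime)
    (h0 : Nat.card K ≠ 0) (hout : Nat.card (Out K) = 1) (h : ∀ t : K, orderOf t = 2 → I3 t) : Inv3 K := by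
  haveI : Finite K := Nat.finite_of_card_ne_zero h0
  intro x hx
  obtain ⟨t, rfl⟩ := inner_of_out hout x
  have ht : orderOf t = 2 := by
    rw [← orderOf_injective (MulAut.conj : K →* MulAut K) (Cfsg.Agent.H469.PiBS.conj_injective (center_bot hs hn h0))]
    exact hx
  obtain ⟨g, g1, g2, g3⟩ := h t ht
  refine ⟨g, ?_⟩
  have h1 : MulAut.conj t g * g⁻¹ = g⁻¹ * g⁻¹ := by
    rw [MulAut.conj_apply, g3]
  have h2 : g⁻¹ * g⁻¹ = g := by
    rw [← mul_inv_rev, inv_eq_iff_mul_eq_one, g1]
  have h3 : orderOf g = 3 := by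
    refine orderOf_eq_prime ?_ g2
    rw [pow_succ, pow_two, g1]
  rw [h1, h2, h3]

/-- **`Co1`** -/
theorem inv3_co1 {K : Type*} [Group K] (h : Cfsg.Spor.IsoCo1 K) : Inv3 K := by
  obtain ⟨e⟩ := h
  have hc : Nat.card Spor.Co1 = 4157776806543360000 := Cfsg.Agent.S0399.result.2
  exact Inv3.congr e.symm (Inv3.of_i3 Cfsg.Agent.S0399.result.1 (by rw [hc]; norm_num) (by rw [hc]; norm_num)
    Cfsg.Agent.S2069.result fun t => i3_co1)

/-- **`Co2`** -/
theorem inv3_co2 {K : Type*} [Group K] (h : Cfsg.Spor.IsoCo2 K) : Inv3 K := by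
  obtain ⟨e⟩ := h
  have hc : Nat.card Spor.Co2 = 42305421312000 := Cfsg.Agent.H49.CoStab.card_co2
  refine Inv3.congr e.symm (Inv3.of_i3 Cfsg.Agent.H49.CoStab.simple_co2 (by rw [hc]; norm_num)
    (by rw [hc]; norm_num) Cfsg.Agent.S2070.result fun t ht => ?_)
  have h1 : I3 ((Cfsg.Agent.H49.CoStab.equivSt Spor.leechU).symm t) :=
    i3_co2 Cfsg.Agent.H49.CoStab.norm_U
      (((Cfsg.Agent.H49.CoStab.equivSt Spor.leechU).symm.orderOf_eq t).trans ht)
  have h2 := h1.map (Cfsg.Agent.H49.CoStab.equivSt Spor.leechU).toMonoidHom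
    (fun g _ hg => (Cfsg.Agent.H49.CoStab.equivSt Spor.leechU).injective (hg.trans (map_one _).symm))
  have h3 : (Cfsg.Agent.H49.CoStab.equivSt Spor.leechU).toMonoidHom
      ((Cfsg.Agent.H49.CoStab.equivSt Spor.leechU).symm t) = t :=
    (Cfsg.Agent.H49.CoStab.equivSt Spor.leechU).apply_symm_apply t
  rwa [h3] at h2

/-- **`Co3`** -/
theorem inv3_co3 {K : Type*} [Group K] (h : Cfsg.Spor.IsoCo3 K) : Inv3 K := by
  obtain ⟨e⟩ := h
  have hc : Nat.card Spor.Co3 = 495766656000 := Cfsg.Agent.H49.CoStab.card_co3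
  refine Inv3.congr e.symm (Inv3.of_i3 Cfsg.Agent.H49.CoStab.simple_co3 (by rw [hc]; norm_num)
    (by rw [hc]; norm_num) Cfsg.Agent.S2071.result fun t ht => ?_)
  have h1 : I3 ((Cfsg.Agent.H49.CoStab.equivSt Spor.leechV).symm t) :=
    i3_co3 Cfsg.Agent.H49.CoStab.norm_V
      (((Cfsg.Agent.H49.CoStab.equivSt Spor.leechV).symm.orderOf_eq t).trans ht)
  have h2 := h1.map (Cfsg.Agent.H49.CoStab.equivSt Spor.leechV).toMonoidHom
    (fun g _ hg => (Cfsg.Agent.H49.CoStab.equivSt Spor.leechV).injective (hg.trans (map_one _).symm))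
  have h3 : (Cfsg.Agent.H49.CoStab.equivSt Spor.leechV).toMonoidHom
      ((Cfsg.Agent.H49.CoStab.equivSt Spor.leechV).symm t) = t :=
    (Cfsg.Agent.H49.CoStab.equivSt Spor.leechV).apply_symm_apply t
  rwa [h3] at h2

end Cfsg.Agent.H518.PiB
end

-- part: H518/PiB/TitsHall
section
/-!
# Subgroups of order divisible by `2^11·5^2` of the Tits group (helper518, S3876)

`TC X` : orders of centralisers; `TC.not_solvable` : a solvable subgroup of order prime to 3 is not divisible by `2^11·5^2`.
-/

set_option autoImplicit false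
set_option linter.style.haveILetI false

namespace Cfsg.Agent.H518.PiB

open Subgroup Cfsg

universe u v

/-- centralisers in the Tits group -/
structure TC (X : Type*) [Group X] : Prop where
  card : Nat.card X = 2 ^ 11 * 3 ^ 3 * 5 ^ 2 * 13
  cent : ∀ y : X, orderOf y = 5 → Nat.card ↥(centralizer ({y} : Set X)) = 50
  ten : ∀ y : X, orderOf y = 5 → ∀ i : X, orderOf i = 2 → i * y = y * i →
    Nat.card ↥(centralizer ({y} : Set X) ⊓ centralizer ({i} : Set X)) = 10

variable {X : Type u} [Group X] [Finite X]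

/-- the action by conjugation on the nontrivial elements of a subgroup -/
@[reducible] def actNT {P V : Subgroup X} (h : P ≤ normalizer (V : Set X)) :
    MulAction P {v : X // v ∈ V ∧ v ≠ 1} where
  smul g v := ⟨(g : X) * v * (g : X)⁻¹, (mem_normalizer_iff.1 (h g.2) v).1 v.2.1, fun h1 => v.2.2 (by
    rw [mul_inv_eq_one] at h1
    exact mul_left_cancel (h1.trans (mul_one _).symm))⟩
  one_smul v := Subtype.ext (by show ((1 : P) : X) * v * ((1 : P) : X)⁻¹ = v; simp)
  mul_smul g k v := Subtype.ext (by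
    show ((g * k : P) : X) * v * ((g * k : P) : X)⁻¹ = (g : X) * ((k : X) * v * (k : X)⁻¹) * (g : X)⁻¹
    rw [coe_mul]; group)

theorem card_nt (V : Subgroup X) : Nat.card {v : X // v ∈ V ∧ v ≠ 1} + 1 = Nat.card V := by
  have h1 : Nat.card {v : X // v ∈ V ∧ v ≠ 1} = ((V : Set X) \ {1}).ncard := rfl
  have h2 : Nat.card V = (V : Set X).ncard := rfl
  rw [h1, h2, Set.ncard_diff_singleton_add_one V.one_mem]

/-- a free action of `P` on `V ∖ 1` -/
theorem dvd_of_free {P V : Subgroup X} (h : P ≤ normalizer (V : Set X))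
    (hf : ∀ g ∈ P, g ≠ 1 → ∀ v ∈ V, v ≠ 1 → g * v ≠ v * g) : Nat.card P ∣ Nat.card V - 1 := by
  letI := actNT h
  have h1 : Nat.card P ∣ Nat.card {v : X // v ∈ V ∧ v ≠ 1} := by
    refine Cfsg.Agent.H355.card_dvd_of_free fun a => ?_
    rw [eq_bot_iff]
    intro g hg
    rw [MulAction.mem_stabilizer_iff] at hg
    have h2 : (g : X) * a * (g : X)⁻¹ = a := congrArg Subtype.val hg
    rw [mem_bot]
    by_contra hg1
    exact hf g g.2 (fun h3 => hg1 (Subtype.ext h3)) a a.2.1 a.2.2 (mul_inv_eq_iff_eq_mul.1 h2)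
  have h2 := card_nt V
  rwa [← h2, Nat.add_sub_cancel]

namespace TC

/-- an element of order 5 among the powers of an element of a group of order 25 -/
theorem exists_five {P : Subgroup X} (hP : Nat.card P = 25) {g : X} (hg : g ∈ P) (hg1 : g ≠ 1) :
    ∃ n : ℕ, orderOf (g ^ n) = 5 := by
  have h1 : orderOf g ∣ 5 ^ 2 := by
    have h2 := _root_.orderOf_dvd_natCard (⟨g, hg⟩ : P)
    rw [Subgroup.orderOf_mk, hP] at h2
    exact h2
  obtain ⟨k, hk, hk'⟩ := (Nat.dvd_prime_pow Nat.prime_five).1 h1
  have hk0 : k ≠ 0 := by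
    rintro rfl
    rw [pow_zero, orderOf_eq_one_iff] at hk'
    exact hg1 hk'
  obtain ⟨i, rfl⟩ : ∃ i, k = i + 1 := ⟨k - 1, by omega⟩
  refine ⟨5 ^ i, ?_⟩
  rw [orderOf_pow_of_dvd (pow_pos (by norm_num) i).ne' ⟨5, by rw [hk', pow_succ]⟩, hk', pow_succ,
    Nat.mul_div_cancel_left _ (pow_pos (by norm_num) i)]

variable (T : TC X)
include T

/-- `P` of order 25 acts freely on a 2-group -/
theorem two {P V : Subgroup X} (hP : Nat.card P = 25) (h : P ≤ normalizer (V : Set X)) (hV : IsPGroup 2 V) :
    V = ⊥ := by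
  have hcomm : ∀ a ∈ P, ∀ b ∈ P, a * b = b * a := by
    haveI : Fact (Nat.Prime 5) := ⟨Nat.prime_five⟩
    have h1 : IsMulCommutative P := IsPGroup.isMulCommutative_of_card_eq_prime_sq (p := 5) (by rw [hP]; norm_num)
    intro a ha b hb
    exact congrArg Subtype.val (h1.is_comm.comm (⟨a, ha⟩ : P) ⟨b, hb⟩)
  have hdvd := dvd_of_free h (by
    intro g hg hg1 v hv hv1 hc
    obtain ⟨n, hn⟩ := exists_five hP hg hg1
    set y := g ^ n with hy
    have hyP : y ∈ P := P.pow_mem hg n
    have hyv : y * v = v * y := ((show Commute g v from hc).pow_left n).eq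
    -- `C_V(y)`
    set! W : Subgroup X := V ⊓ centralizer ({y} : Set X) with hW
    have hvW : v ∈ W := ⟨hv, mem_centralizer_singleton_iff.2 hyv.symm⟩
    have hW2 : IsPGroup 2 W := hV.to_le inf_le_left
    obtain ⟨k, hk⟩ := hW2.exists_card_eq
    have hWd : Nat.card W ∣ 50 := by
      rw [← T.cent y hn]
      exact card_dvd_of_le inf_le_right
    have hk1 : k ≤ 1 := by
      by_contra hk2
      have h4 : 2 ^ 2 ∣ 50 := by
        rw [hk] at hWd
        exact (pow_dvd_pow 2 (by omega)).trans hWd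
      norm_num at h4
    have hk0 : k ≠ 0 := by
      rintro rfl
      rw [pow_zero, card_eq_one] at hk
      rw [hk, mem_bot] at hvW
      exact hv1 hvW
    obtain rfl : k = 1 := by omega
    rw [pow_one] at hk
    -- `P` centralises `v`
    have hWel : ∀ w ∈ W, w ≠ 1 → w = v := by
      intro w hw hw1
      by_contra hne
      have h6 : ({1, v, w} : Set X) ⊆ W := by
        rintro u (rfl | rfl | rfl)
        · exact one_mem W
        · exact hvW
        · exact hw
      have h7 : ({1, v, w} : Set X).ncard = 3 := by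
        rw [Set.ncard_insert_of_notMem, Set.ncard_pair (Ne.symm hne)]
        rintro (h8 | h8)
        · exact hv1 h8.symm
        · exact hw1 h8.symm
      have h8 := Set.ncard_le_ncard h6 (Set.toFinite _)
      have h9 : (W : Set X).ncard = 2 := hk
      omega
    have hPv : ∀ p ∈ P, p * v = v * p := by
      intro p hp
      have h5 : p * v * p⁻¹ ∈ W := by
        refine ⟨(mem_normalizer_iff.1 (h hp) v).1 hv, mem_centralizer_singleton_iff.2 ?_⟩
        have h6 := hcomm p hp y hyP
        calc p * v * p⁻¹ * y = p * v * (p⁻¹ * y) := by group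
          _ = p * v * (y * p⁻¹) := by
            rw [show p⁻¹ * y = y * p⁻¹ by rw [inv_mul_eq_iff_eq_mul, ← mul_assoc, h6, mul_inv_cancel_right]]
          _ = p * (v * y) * p⁻¹ := by group
          _ = p * (y * v) * p⁻¹ := by rw [hyv]
          _ = (p * y) * v * p⁻¹ := by group
          _ = (y * p) * v * p⁻¹ := by rw [h6]
          _ = y * (p * v * p⁻¹) := by group
      have h7 := hWel _ h5 (fun h8 => hv1 (by
        rw [mul_inv_eq_one] at h8
        exact mul_left_cancel (h8.trans (mul_one _).symm)))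
      exact mul_inv_eq_iff_eq_mul.1 h7
    have hv2 : orderOf v = 2 := by
      have h5 := _root_.orderOf_dvd_natCard (⟨v, hvW⟩ : W)
      rw [Subgroup.orderOf_mk, hk] at h5
      rcases (Nat.dvd_prime Nat.prime_two).1 h5 with h6 | h6
      · exact absurd (orderOf_eq_one_iff.1 h6) hv1
      · exact h6
    have h10 := T.ten y hn v hv2 hyv.symm
    have h11 : P ≤ centralizer ({y} : Set X) ⊓ centralizer ({v} : Set X) := fun p hp =>
      ⟨mem_centralizer_singleton_iff.2 (hcomm p hp y hyP), mem_centralizer_singleton_iff.2 (hPv p hp)⟩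
    have h12 := card_dvd_of_le h11
    rw [h10, hP] at h12
    norm_num at h12)
  rw [hP] at hdvd
  obtain ⟨m, hm⟩ := hV.exists_card_eq
  have hm11 : m ≤ 11 := by
    by_contra hlt
    have h1 : 2 ^ 12 ∣ Nat.card X := (pow_dvd_pow 2 (by omega)).trans (hm ▸ card_subgroup_dvd_card V)
    rw [T.card] at h1
    norm_num at h1
  have hall : ∀ m, m ≤ 11 → 25 ∣ 2 ^ m - 1 → m = 0 := by decide
  rw [hm] at hdvd
  have h0 := hall m hm11 hdvd
  rw [h0, pow_zero] at hm
  exact card_eq_one.1 hm

/-- `P` of order 25 and 13-groups -/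
theorem thirteen {P V : Subgroup X} (hP : Nat.card P = 25) (h : P ≤ normalizer (V : Set X)) (hV : IsPGroup 13 V) :
    V = ⊥ := by
  haveI : Fact (Nat.Prime 13) := ⟨by norm_num⟩
  have hdvd := dvd_of_free h (by
    intro g hg hg1 v hv hv1 hc
    obtain ⟨n, hn⟩ := exists_five hP hg hg1
    set y := g ^ n with hy
    have hyv : y * v = v * y := ((show Commute g v from hc).pow_left n).eq
    set! W : Subgroup X := V ⊓ centralizer ({y} : Set X) with hW
    have hvW : v ∈ W := ⟨hv, mem_centralizer_singleton_iff.2 hyv.symm⟩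
    have hW2 : IsPGroup 13 W := hV.to_le inf_le_left
    obtain ⟨k, hk⟩ := hW2.exists_card_eq
    have hWd : Nat.card W ∣ 50 := by
      rw [← T.cent y hn]
      exact card_dvd_of_le inf_le_right
    have hk0 : k ≠ 0 := by
      rintro rfl
      rw [pow_zero, card_eq_one] at hk
      rw [hk, mem_bot] at hvW
      exact hv1 hvW
    have h4 : 13 ∣ 50 := by
      rw [hk] at hWd
      exact (dvd_pow_self 13 hk0).trans hWd
    norm_num at h4)
  rw [hP] at hdvd
  obtain ⟨m, hm⟩ := hV.exists_card_eq
  have hm1 : m ≤ 1 := by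
    by_contra hlt
    have h1 : 13 ^ 2 ∣ Nat.card X := (pow_dvd_pow 13 (by omega)).trans (hm ▸ card_subgroup_dvd_card V)
    rw [T.card] at h1
    norm_num at h1
  have hall : ∀ m, m ≤ 1 → 25 ∣ 13 ^ m - 1 → m = 0 := by decide
  rw [hm] at hdvd
  have h0 := hall m hm1 hdvd
  rw [h0, pow_zero] at hm
  exact card_eq_one.1 hm

/-- a Sylow 2-subgroup normalises no 5-group -/
theorem five {Q V : Subgroup X} (hQ : Nat.card Q = 2 ^ 11) (h : Q ≤ normalizer (V : Set X)) (hV : IsPGroup 5 V) :
    V = ⊥ := by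
  classical
  haveI : Fact (Nat.Prime 5) := ⟨Nat.prime_five⟩
  obtain ⟨m, hm⟩ := hV.exists_card_eq
  have hm2 : m ≤ 2 := by
    by_contra hlt
    have h1 : 5 ^ 3 ∣ Nat.card X := (pow_dvd_pow 5 (by omega)).trans (hm ▸ card_subgroup_dvd_card V)
    rw [T.card] at h1
    norm_num at h1
  by_contra hne
  have h5 : 5 ∣ Nat.card V := by
    rw [hm]
    refine dvd_pow_self 5 ?_
    rintro rfl
    rw [pow_zero, card_eq_one] at hm
    exact hne hm
  obtain ⟨y, hy⟩ := exists_prime_orderOf_dvd_card' (G := V) 5 h5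
  have hy' : orderOf (y : X) = 5 := by rw [orderOf_coe, hy]
  have hy1 : (y : X) ≠ 1 := by
    intro h1
    rw [h1, orderOf_one] at hy'
    norm_num at hy'
  letI := actNT h
  set! ω : {v : X // v ∈ V ∧ v ≠ 1} := ⟨y, y.2, hy1⟩ with hω
  have h1 : Nat.card (MulAction.orbit Q ω) * Nat.card (MulAction.stabilizer Q ω) = 2 ^ 11 := by
    rw [← hQ]
    exact Nat.card_congr (MulAction.orbitProdStabilizerEquivGroup Q ω) ▸ (Nat.card_prod _ _).symm
  have h2 : Nat.card (MulAction.orbit Q ω) ≤ 24 := by
    have h3 : Nat.card (MulAction.orbit Q ω) ≤ Nat.card {v : X // v ∈ V ∧ v ≠ 1} :=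
      Nat.card_le_card_of_injective _ Subtype.val_injective
    have h4 := card_nt V
    have h6 : Nat.card V ≤ 25 := by
      rw [hm]
      calc 5 ^ m ≤ 5 ^ 2 := Nat.pow_le_pow_right (by norm_num) hm2
        _ = 25 := by norm_num
    omega
  -- the stabiliser
  have h3 : Nat.card (MulAction.stabilizer Q ω) ∣ 50 := by
    rw [← T.cent (y : X) hy', ← card_map_of_injective (f := Q.subtype) Q.subtype_injective]
    refine card_dvd_of_le ?_
    rintro _ ⟨g, hg, rfl⟩
    have h4 : (g : X) * y * (g : X)⁻¹ = y := congrArg Subtype.val (MulAction.mem_stabilizer_iff.1 hg)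
    exact mem_centralizer_singleton_iff.2 (mul_inv_eq_iff_eq_mul.1 h4)
  obtain ⟨k, hk, hk'⟩ := (Nat.dvd_prime_pow Nat.prime_two).1 (Dvd.intro_left _ h1)
  have h4 : k ≤ 1 := by
    by_contra hlt
    rw [hk'] at h3
    have h7 : 2 ^ 2 ∣ 50 := (pow_dvd_pow 2 (by omega)).trans h3
    norm_num at h7
  rw [hk'] at h1
  have h7 : Nat.card (MulAction.orbit Q ω) * 2 ^ k ≤ 24 * 2 := by
    refine Nat.mul_le_mul h2 ?_
    calc 2 ^ k ≤ 2 ^ 1 := Nat.pow_le_pow_right (by norm_num) h4
      _ = 2 := by norm_num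
  rw [h1] at h7
  norm_num at h7

/-- **no solvable subgroup of order prime to 3 and divisible by `2^11·5^2`** -/
theorem not_solvable {H : Subgroup X} (h2 : 2 ^ 11 ∣ Nat.card H) (h5 : 5 ^ 2 ∣ Nat.card H) (h3 : ¬ 3 ∣ Nat.card H) :
    ¬ Group.IsSolvable H := by
  intro hsol
  haveI : Fact (Nat.Prime 2) := ⟨Nat.prime_two⟩
  haveI : Fact (Nat.Prime 5) := ⟨Nat.prime_five⟩
  have hnt : Nontrivial H := by
    rw [← Finite.one_lt_card_iff_nontrivial]
    have := Nat.le_of_dvd Nat.card_pos h2
    (clear * - this; omega)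
  obtain ⟨Q, hQ⟩ := Sylow.exists_subgroup_card_pow_prime 2 h2
  obtain ⟨P, hP⟩ := Sylow.exists_subgroup_card_pow_prime 5 h5
  obtain ⟨p, N, hp, hN, hNp, -, hN1, -⟩ := Cfsg.Agent.Solvable.Carter.exists_min_normal H
  have hNn : ∀ K : Subgroup H, K.map H.subtype ≤ normalizer ((N.map H.subtype : Subgroup X) : Set X) := by
    intro K
    rintro _ ⟨k, -, rfl⟩
    rw [mem_normalizer_iff]
    intro x
    constructor
    · rintro ⟨n, hn, rfl⟩
      exact ⟨k * n * k⁻¹, hN.conj_mem n hn k, by simp only [_root_.Subgroup.subtype_apply, _root_.Subgroup.coe_mul, _root_.InvMemClass.coe_inv]⟩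
    · rintro ⟨n, hn, hx⟩
      refine ⟨k⁻¹ * n * k, by simpa only [_root_.SetLike.mem_coe, _root_.inv_inv] using hN.conj_mem n hn k⁻¹, ?_⟩
      rw [map_mul, map_mul, map_inv, hx]
      show (k : X)⁻¹ * ((k : X) * x * (k : X)⁻¹) * k = x
      group
  have hNm : IsPGroup p (N.map H.subtype) := hNp.map _
  have hpN : p ∣ Nat.card N := by
    haveI : Fact p.Prime := ⟨hp⟩
    obtain ⟨k, hk⟩ := hNp.exists_card_eq
    rw [hk]
    refine dvd_pow_self p ?_
    rintro rfl
    rw [pow_zero, card_eq_one] at hk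
    exact hN1 hk
  have hpH : p ∣ Nat.card H := hpN.trans (card_subgroup_dvd_card N)
  have hpX : p ∣ 2 ^ 11 * 3 ^ 3 * 5 ^ 2 * 13 := by
    rw [← T.card]
    exact hpH.trans (card_subgroup_dvd_card H)
  have hne : N.map H.subtype ≠ ⊥ := fun h => hN1 ((map_eq_bot_iff_of_injective _ H.subtype_injective).1 h)
  have hPc : Nat.card (P.map H.subtype) = 25 := by
    rw [card_map_of_injective H.subtype_injective, hP]
    norm_num
  have hQc : Nat.card (Q.map H.subtype) = 2 ^ 11 := by
    rw [card_map_of_injective H.subtype_injective, hQ]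
  have hcase : p = 2 ∨ p = 3 ∨ p = 5 ∨ p = 13 := by
    rcases (hp.dvd_mul.1 hpX) with h | h
    · rcases (hp.dvd_mul.1 h) with h | h
      · rcases (hp.dvd_mul.1 h) with h | h
        · exact Or.inl ((Nat.prime_dvd_prime_iff_eq hp Nat.prime_two).1 (hp.dvd_of_dvd_pow h))
        · exact Or.inr (Or.inl ((Nat.prime_dvd_prime_iff_eq hp Nat.prime_three).1 (hp.dvd_of_dvd_pow h)))
      · exact Or.inr (Or.inr (Or.inl ((Nat.prime_dvd_prime_iff_eq hp Nat.prime_five).1 (hp.dvd_of_dvd_pow h))))
    · exact Or.inr (Or.inr (Or.inr ((Nat.prime_dvd_prime_iff_eq hp (by norm_num)).1 h)))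
  rcases hcase with rfl | rfl | rfl | rfl
  · exact hne (T.two hPc (hNn P) hNm)
  · exact h3 hpH
  · exact hne (T.five hQc (hNn Q) hNm)
  · exact hne (T.thirteen hPc (hNn P) hNm)

end TC

end Cfsg.Agent.H518.PiB
end

-- part: H518/PiB/TitsRow
section
/-!
# The Tits group, `l = 2`, `3 ∉ π` (helper518, S3876)

* `tc` : the centralisers (`TC`) of the Tits group;
* `solvable_of` : subgroups of order prime to three are solvable;
* `false_two_five` : no Hall π-subgroup if `2, 5 ∈ π`, `3 ∉ π`;
* `false_tits` : the case `l = 2` of the row of S3876, `3 ∉ π`.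
-/

set_option autoImplicit false

namespace Cfsg.Agent.H518.PiB.Tits

open Subgroup Cfsg Cfsg.Agent.H469.PiBS Cfsg.Agent.H465.SporB

universe u v

theorem TC.congr {X : Type u} {Y : Type v} [Group X] [Group Y] (h : TC X) (e : X ≃* Y) : TC Y where
  card := by
    rw [← h.card]
    exact (Nat.card_congr e.toEquiv).symm
  cent y hy := by
    have h1 := h.cent (e.symm y) (by rw [MulEquiv.orderOf_eq, hy])
    have h2 := Cfsg.Agent.CpAutTits.Ten.card_inf_equiv e (e.symm y) (e.symm y)
    rw [inf_idem, inf_idem, e.apply_symm_apply, h1] at h2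
    exact h2
  ten y hy i hi hc := by
    have h1 := h.ten (e.symm y) (by rw [MulEquiv.orderOf_eq, hy]) (e.symm i) (by rw [MulEquiv.orderOf_eq, hi])
      (by rw [← map_mul, hc, map_mul])
    have h2 := Cfsg.Agent.CpAutTits.Ten.card_inf_equiv e (e.symm y) (e.symm i)
    rw [e.apply_symm_apply, e.apply_symm_apply, h1] at h2
    exact h2

theorem tc_TT : TC ↥Cfsg.Agent.TitsK.TT :=
  ⟨Cfsg.Agent.CpAutTits.Row.out_TT.card, Cfsg.Agent.CpAutTits.Row.out_TT.cent, Cfsg.Agent.CpAutTits.Ten.facts.ten⟩

/-- centralisers in the Tits group -/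
theorem tc {X : Type u} [Group X] (h : Lie.IsoTits X) : TC X := by
  obtain ⟨e⟩ := Cfsg.Agent.CpAutTits.Row.exists_equiv h
  exact TC.congr tc_TT e.symm

section

variable {X : Type u} [Group X] [Finite X]

/-- subgroups of order prime to three are solvable -/
theorem solvable_of (T : TC X) {H : Subgroup X} (h3 : ¬ 3 ∣ Nat.card H) : Group.IsSolvable H := by
  by_contra hns
  obtain ⟨m, hm, hd⟩ := exists_szc hns h3
  have hdX : szc m ∣ 2 ^ 11 * 3 ^ 3 * 5 ^ 2 * 13 := by
    rw [← T.card]
    exact hd.trans (card_subgroup_dvd_card H)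
  have h1 := le_of_szc_dvd (K := 12) (by norm_num) hdX
  obtain rfl | rfl : m = 1 ∨ m = 2 := by omega
  · revert hdX
    norm_num [szc]
  · revert hdX
    norm_num [szc]

/-- **no Hall π-subgroup if `2, 5 ∈ π`, `3 ∉ π`** -/
theorem false_two_five (T : TC X) {π : Set ℕ} (h2 : 2 ∈ π) (h5 : 5 ∈ π) (h3 : 3 ∉ π) {H : Subgroup X}
    (hH : IsPiHall π H) : False := by
  have h3H : ¬ 3 ∣ Nat.card H := fun hd => h3 (hH.1 3 Nat.prime_three hd)
  have key : ∀ p : ℕ, p.Prime → p ∈ π → ∀ k, p ^ k ∣ Nat.card X → p ^ k ∣ Nat.card H := by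
    intro p hp hpi k hk
    rw [← H.card_mul_index] at hk
    exact (Nat.Coprime.pow_left _ ((Nat.Prime.coprime_iff_not_dvd hp).2 (hH.2 p hp hpi))).dvd_of_dvd_mul_right hk
  exact T.not_solvable (key 2 Nat.prime_two h2 11 (by rw [T.card]; norm_num))
    (key 5 Nat.prime_five h5 2 (by rw [T.card]; norm_num)) h3H (solvable_of T h3H)

end

/-- every involutory automorphism inverts an element of order five -/
theorem exists_five {K : Type u} [Group K] (h : Lie.IsoTits K) {x : MulAut K} (hx : orderOf x = 2) :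
    ∃ g : K, orderOf g = 5 ∧ x g = g⁻¹ := by
  have hc : center K = ⊥ := Cfsg.Agent.Omega.TwoF.TitsAut.center_iso h
  have hxx : x * x = 1 := by rw [← pow_two, ← hx, pow_orderOf_eq_one]
  have hfin : Finite K := Nat.finite_of_card_ne_zero (by rw [(tc h).card]; norm_num)
  obtain ⟨e⟩ := Cfsg.Agent.TitsK.nonempty_equiv h
  obtain ⟨k, rfl⟩ := Cfsg.Agent.H71.Rad2Tits.inner_of Cfsg.Agent.TitsK.tdata e x hxx
  have hinj := _root_.Cfsg.Agent.H469.PiBS.conj_injective (S := K) hc
  have hk : k * k = 1 := hinj (by rw [map_mul, hxx, map_one])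
  have hk1 : k ≠ 1 := by
    rintro rfl
    rw [map_one, orderOf_one] at hx
    omega
  obtain ⟨g, g1, g2, g3⟩ := Cfsg.Agent.H71.Rad2Tits.allInv_of Cfsg.Agent.TitsK.tdata
    (fun g hg h3 hz => Cfsg.Agent.TitsK.three_z hg h3 hz) (fun g hg h5 hd => Cfsg.Agent.TitsK.five_d hg h5 hd)
    (Cfsg.Agent.H71.Rad2Tits.invF h) e k hk hk1
  have : Fact (Nat.Prime 5) := ⟨Nat.prime_five⟩
  exact ⟨g, orderOf_eq_prime g1 g2, by rw [MulAut.conj_apply, g3]⟩

/-- **The Tits group, `l = 2`.** -/
theorem false_tits {S : Type u} [Group S] [Finite S] (h : Lie.IsoTits S) {π : Set ℕ} (h3 : 3 ∉ π)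
    {A : Subgroup (MulAut S)} {x : MulAut S} {l : ℕ} (hy : Hyp π A x l) (hl : l = 2) : False := by
  have hc : center S = ⊥ := Cfsg.Agent.Omega.TwoF.TitsAut.center_iso h
  obtain ⟨g, hg, hgx⟩ := exists_five h (hy.ord.trans hl)
  have h5 : 5 ∈ π := by
    refine hy.pi_orderOf hc g Nat.prime_five ?_
    have h1 : x g * g⁻¹ = (g ^ 2)⁻¹ := by rw [hgx, pow_two, mul_inv_rev]
    rw [h1, orderOf_inv, orderOf_pow, hg]
    norm_num
  obtain ⟨H, hH⟩ := hy.exists_hall
  exact false_two_five (tc h) (hl ▸ hy.lpi) h5 h3 hH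

end Cfsg.Agent.H518.PiB.Tits
end

private theorem dce_c03477640442 : _root_.True := by
  try have : _root_.True := by simp only [_root_.Cfsg.Agent.H799.PiBS.L32.eg.eq_def]
  try have : _root_.True := by simp only [_root_.Cfsg.Agent.H799.PiBS.L32.eg.eq_1]
  try have : _root_.True := by simp only [_root_.Cfsg.Agent.H799.PiBS.L32.eg.eq_2]
  try have : _root_.True := by simp only [_root_.Cfsg.Agent.KFacts.MM.El.okl.eq_1]
  try have : _root_.True := by simp only [_root_.Cfsg.Agent.H799.PiBS.L32.eg.eq_4]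
  try have : _root_.True := by simp only [_root_.Cfsg.Agent.H518.PiB.d0.eq_1]
  try have : _root_.True := by simp only [_root_.Cfsg.Agent.CoOneType.SignFacts.wt.eq_1]
  try have : _root_.True := by simp only [_root_.Cfsg.Agent.H799.PiBS.L32.eg.eq_3]
  exact _root_.True.intro
end

-- part: H465/PiBSKill
section
prune_inst 0x303065043ca2100000180000c2003c66b2000002004b0001510004040d879e4100000e20f2301e12910082e4603a8048110801194000000020008200011d0080042366c21234ad0831000080e802580c00000000000000000000000000041004000000000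
set_option linter.all false
open scoped Cfsg.Agent.FastGrp

/-!
# `Kill S` for the sporadic groups (helper465, for S3876)

The order of `S` is divisible by no `|Sz(2^(2m+1))|`, or only by `|Sz(8)|` and there are no commuting elements of orders 13
and 5 (or 7).
-/

set_option autoImplicit false
set_option linter.unusedSectionVars false
set_option linter.style.haveILetI false

universe u

namespace Cfsg.Agent.H465.SporB

open Subgroup Cfsg

/-! ### Elements of two prime orders -/

theorem NC.of_cent {S : Type*} [Group S] [Finite S] {r s : ℕ}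
    (h : ∀ y : S, orderOf y = r → ¬ s ∣ Nat.card ↥(centralizer ({y} : Set S))) : NC r s S := by
  intro y z hy hz hyz
  apply h y hy
  have h1 : z ∈ centralizer ({y} : Set S) := mem_centralizer_singleton_iff.2 hyz.symm
  rw [← hz]
  exact Subgroup.orderOf_dvd_natCard _ h1

theorem NC.symm {S : Type*} [Group S] {r s : ℕ} (h : NC r s S) : NC s r S := fun y z hy hz hyz =>
  h z y hz hy hyz.symm

theorem NC.congr {S T : Type*} [Group S] [Group T] [Finite T] {r s : ℕ} (h : NC r s T) (e : S ≃* T) : NC r s S :=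
  fun y z hy hz hyz => h (e y) (e z) (by rw [MulEquiv.orderOf_eq, hy]) (by rw [MulEquiv.orderOf_eq, hz])
    (by rw [← map_mul, hyz, map_mul])

variable {S : Type u} [Group S] [Finite S]

/-! ### No Suzuki group -/

theorem kill_m11 (h : Spor.IsoM11 S) : Kill S := by
  have hN := NotCT.Orders.m11 h
  refine Kill.of_not_dvd (K := 5) (by rw [hN]; norm_num) fun m h1 h2 => ?_
  omega

theorem kill_m12 (h : Spor.IsoM12 S) : Kill S := by
  have hN := NotCT.Orders.m12 h
  refine Kill.of_not_dvd (K := 7) (by rw [hN]; norm_num) fun m h1 h2 => ?_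
  obtain rfl : m = 1 := by omega
  rw [hN]; norm_num [szc]

theorem kill_m22 (h : Spor.IsoM22 S) : Kill S := by
  have hN := NotCT.Orders.m22 h
  refine Kill.of_not_dvd (K := 8) (by rw [hN]; norm_num) fun m h1 h2 => ?_
  obtain rfl : m = 1 := by omega
  rw [hN]; norm_num [szc]

theorem kill_m23 (h : Spor.IsoM23 S) : Kill S := by
  have hN := NotCT.Orders.m23 h
  refine Kill.of_not_dvd (K := 8) (by rw [hN]; norm_num) fun m h1 h2 => ?_
  obtain rfl : m = 1 := by omega
  rw [hN]; norm_num [szc]

theorem kill_m24 (h : Spor.IsoM24 S) : Kill S := by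
  have hN := NotCT.Orders.m24 h
  refine Kill.of_not_dvd (K := 11) (by rw [hN]; norm_num) fun m h1 h2 => ?_
  have : m ≤ 2 := by omega
  rw [hN]
  interval_cases m <;> norm_num [szc]

theorem kill_j1 (h : Spor.IsoJ1 S) : Kill S := by
  have hN := NotCT.Orders.j1 h
  refine Kill.of_not_dvd (K := 4) (by rw [hN]; norm_num) fun m h1 h2 => ?_
  omega

theorem kill_j2 (h : Spor.IsoJ2 S) : Kill S := by
  have hN := NotCT.Orders.j2 h
  refine Kill.of_not_dvd (K := 8) (by rw [hN]; norm_num) fun m h1 h2 => ?_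
  obtain rfl : m = 1 := by omega
  rw [hN]; norm_num [szc]

theorem kill_j3 (h : Spor.IsoJ3 S) : Kill S := by
  have hN := NotCT.Orders.j3 h
  refine Kill.of_not_dvd (K := 8) (by rw [hN]; norm_num) fun m h1 h2 => ?_
  obtain rfl : m = 1 := by omega
  rw [hN]; norm_num [szc]

theorem kill_j4 (h : Spor.IsoJ4 S) : Kill S := by
  have hN := NotCT.Orders.j4 h
  refine Kill.of_not_dvd (K := 22) (by rw [hN]; norm_num) fun m h1 h2 => ?_
  have : m ≤ 4 := by omega
  rw [hN]
  interval_cases m <;> norm_num [szc]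

theorem kill_hs (h : Spor.IsoHS S) : Kill S := by
  have hN := NotCT.Orders.hs h
  refine Kill.of_not_dvd (K := 10) (by rw [hN]; norm_num) fun m h1 h2 => ?_
  obtain rfl : m = 1 := by omega
  rw [hN]; norm_num [szc]

theorem kill_he (h : Spor.IsoHe S) : Kill S := by
  have hN := NotCT.Orders.he h
  refine Kill.of_not_dvd (K := 11) (by rw [hN]; norm_num) fun m h1 h2 => ?_
  have : m ≤ 2 := by omega
  rw [hN]
  interval_cases m <;> norm_num [szc]

theorem kill_mcl (h : Spor.IsoMcL S) : Kill S := by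
  have hN := NotCT.Orders.mcl h
  refine Kill.of_not_dvd (K := 8) (by rw [hN]; norm_num) fun m h1 h2 => ?_
  obtain rfl : m = 1 := by omega
  rw [hN]; norm_num [szc]

theorem kill_ly (h : Spor.IsoLy S) : Kill S := by
  have hN := NotCT.Orders.ly h
  refine Kill.of_not_dvd (K := 9) (by rw [hN]; norm_num) fun m h1 h2 => ?_
  obtain rfl : m = 1 := by omega
  rw [hN]; norm_num [szc]

theorem kill_on (h : Spor.IsoON S) : Kill S := by
  have hN := NotCT.Orders.on h
  refine Kill.of_not_dvd (K := 10) (by rw [hN]; norm_num) fun m h1 h2 => ?_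
  obtain rfl : m = 1 := by omega
  rw [hN]; norm_num [szc]

theorem kill_co2 (h : Spor.IsoCo2 S) : Kill S := by
  have hN := NotCT.Orders.co2 h
  refine Kill.of_not_dvd (K := 19) (by rw [hN]; norm_num) fun m h1 h2 => ?_
  have : m ≤ 4 := by omega
  rw [hN]
  interval_cases m <;> norm_num [szc]

theorem kill_co3 (h : Spor.IsoCo3 S) : Kill S := by
  have hN := NotCT.Orders.co3 h
  refine Kill.of_not_dvd (K := 11) (by rw [hN]; norm_num) fun m h1 h2 => ?_
  have : m ≤ 2 := by omega
  rw [hN]
  interval_cases m <;> norm_num [szc]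

theorem kill_hn (h : Spor.IsoHN S) : Kill S := by
  have hN := NotCT.Orders.hn h
  refine Kill.of_not_dvd (K := 15) (by rw [hN]; norm_num) fun m h1 h2 => ?_
  have : m ≤ 3 := by omega
  rw [hN]
  interval_cases m <;> norm_num [szc]

/-! ### `Sz(8)` -/

/-- numerical conditions for `s = 5`, `7` -/
theorem modEq_small {s a : ℕ} (h : (s = 5 ∧ (a = 2 ∨ a = 3)) ∨ (s = 7 ∧ (a = 2 ∨ a = 3))) :
    ∀ j, j ≤ a → a ≤ j + 1 → ¬ s ^ j ≡ 1 [MOD 13] := by
  intro j h1 h2
  rcases h with ⟨rfl, rfl | rfl⟩ | ⟨rfl, rfl | rfl⟩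
  · have : j = 1 ∨ j = 2 := by omega
    rcases this with rfl | rfl <;> decide
  · have : j = 2 ∨ j = 3 := by omega
    rcases this with rfl | rfl <;> decide
  · have : j = 1 ∨ j = 2 := by omega
    rcases this with rfl | rfl <;> decide
  · have : j = 2 ∨ j = 3 := by omega
    rcases this with rfl | rfl <;> decide

theorem kill_suz (h : Spor.IsoSuz S) : Kill S := by
  have hN := NotCT.Orders.suz h
  obtain ⟨e⟩ := h
  have hfin : Finite Spor.Suz := Finite.of_equiv S e.toEquiv
  have hNC : NC 13 5 Spor.Suz := NC.of_cent fun y hy => by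
    rw [H153.Zeros.card_cent_suz hy]; norm_num
  refine Kill.of_thirteen (K := 14) (by rw [hN]; norm_num) (fun m h1 h2 => ?_) (by rw [hN]; norm_num)
    (s := 5) (a := 2) (Or.inl rfl) (hNC.congr e) (by rw [hN]; norm_num) (by rw [hN]; norm_num)
    (modEq_small (Or.inl ⟨rfl, Or.inl rfl⟩))
  obtain rfl : m = 2 := by omega
  rw [hN]; norm_num [szc]

theorem kill_ru (h : Spor.IsoRu S) : Kill S := by
  have hN := NotCT.Orders.ru h
  obtain ⟨e⟩ := h
  let f : S ≃* SporadicB.RuOrder.H := e.trans RuLat.Main.equiv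
  have hfin : Finite SporadicB.RuOrder.H := Finite.of_equiv S f.toEquiv
  have hNC : NC 13 5 SporadicB.RuOrder.H := NC.of_cent fun y hy hd => by
    have h1 := hd.trans (H436.TwoRu.cent13 y hy)
    revert h1
    norm_num
  refine Kill.of_thirteen (K := 15) (by rw [hN]; norm_num) (fun m h1 h2 => ?_) (by rw [hN]; norm_num)
    (s := 5) (a := 3) (Or.inl rfl) (hNC.congr f) (by rw [hN]; norm_num) (by rw [hN]; norm_num)
    (modEq_small (Or.inl ⟨rfl, Or.inr rfl⟩))
  have : m ≤ 3 := by omega
  rw [hN]
  interval_cases m <;> norm_num [szc]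

theorem kill_co1 (h : Spor.IsoCo1 S) : Kill S := by
  have hN := NotCT.Orders.co1 h
  obtain ⟨e⟩ := h
  have hfin : Finite Spor.Co1 := Finite.of_equiv S e.toEquiv
  have hNC : NC 13 7 Spor.Co1 := NC.of_cent fun y hy hd => by
    have h1 := (hd.mul_left 2).trans (H109.Nr.Co.card_cent_co1 hy)
    revert h1
    norm_num
  refine Kill.of_thirteen (K := 22) (by rw [hN]; norm_num) (fun m h1 h2 => ?_) (by rw [hN]; norm_num)
    (s := 7) (a := 2) (Or.inr rfl) (hNC.congr e) (by rw [hN]; norm_num) (by rw [hN]; norm_num)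
    (modEq_small (Or.inr ⟨rfl, Or.inl rfl⟩))
  have : m ≤ 4 := by omega
  rw [hN]
  interval_cases m <;> norm_num [szc]

theorem kill_fi22 (h : Spor.IsoFi22 S) : Kill S := by
  have hN := NotCT.Orders.fi22 h
  obtain ⟨e⟩ := h
  have hfin : Finite Spor.Fi22 := Finite.of_equiv S e.toEquiv
  have hNC : NC 13 5 Spor.Fi22 := NC.of_cent fun y hy => by
    rw [H569.PD.Fi22.sc y hy]; norm_num
  refine Kill.of_thirteen (K := 18) (by rw [hN]; norm_num) (fun m h1 h2 => ?_) (by rw [hN]; norm_num)
    (s := 5) (a := 2) (Or.inl rfl) (hNC.congr e) (by rw [hN]; norm_num) (by rw [hN]; norm_num)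
    (modEq_small (Or.inl ⟨rfl, Or.inl rfl⟩))
  have : m ≤ 3 := by omega
  rw [hN]
  interval_cases m <;> norm_num [szc]

theorem kill_fi23 (h : Spor.IsoFi23 S) : Kill S := by
  have hN := NotCT.Orders.fi23 h
  obtain ⟨e⟩ := h
  have hfin : Finite Spor.Fi23 := Finite.of_equiv S e.toEquiv
  have hNC : NC 5 13 Spor.Fi23 := NC.of_cent fun y hy => by
    rw [H841.PB.FiTwentyThree.card_cent_five hy]; norm_num
  refine Kill.of_thirteen (K := 19) (by rw [hN]; norm_num) (fun m h1 h2 => ?_) (by rw [hN]; norm_num)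
    (s := 5) (a := 2) (Or.inl rfl) (hNC.symm.congr e) (by rw [hN]; norm_num) (by rw [hN]; norm_num)
    (modEq_small (Or.inl ⟨rfl, Or.inl rfl⟩))
  have : m ≤ 4 := by omega
  rw [hN]
  interval_cases m <;> norm_num [szc]

/-- an element of `Fi24` commuting with an element of order 5 -/
theorem nc_fi24 : NC 5 13 Spor.Fi24 := by
  intro y z hy hz hyz
  obtain ⟨g, hg⟩ := LThreeFi24.FiveConj.exists_conj_five hy
  have h1 : (g * z * g⁻¹) * LThreeFi24.SNine.y0 = LThreeFi24.SNine.y0 * (g * z * g⁻¹) := by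
    rw [← hg]
    calc g * z * g⁻¹ * (g * y * g⁻¹) = g * (z * y) * g⁻¹ := by group
      _ = g * (y * z) * g⁻¹ := by rw [hyz]
      _ = g * y * g⁻¹ * (g * z * g⁻¹) := by group
  obtain ⟨i, σ, -, -, hn⟩ := H841.Five.exists_of_comm h1
  have hc : Commute (LThreeFi24.SNine.y0 ^ i) (H841.Five.Phi σ) :=
    (show Commute LThreeFi24.SNine.y0 (H841.Five.Phi σ) from (H841.Five.Phi_comm_y0 σ).symm).pow_left i
  have hy0 : LThreeFi24.SNine.y0 ^ 5 = 1 := by
    rw [← hg, conj_pow, ← hy, pow_orderOf_eq_one, mul_one, mul_inv_cancel]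
  have hσ : σ ^ (Nat.factorial 9) = 1 := by
    have h2 : Nat.card (Equiv.Perm (Fin 9)) = Nat.factorial 9 := by
      rw [Nat.card_eq_fintype_card, Fintype.card_perm, Fintype.card_fin]
    rw [← h2]
    exact pow_card_eq_one'
  have h3 : (g * z * g⁻¹) ^ (5 * Nat.factorial 9) = 1 := by
    rw [hn, hc.mul_pow, ← pow_mul, mul_comm i, pow_mul, pow_mul _ 5, hy0, one_pow, one_pow, one_mul, mul_comm 5,
      pow_mul, ← map_pow, hσ, map_one, one_pow]
  have h4 : z ^ (5 * Nat.factorial 9) = 1 := by
    rw [conj_pow] at h3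
    have h5 := congrArg (fun w => g⁻¹ * w * g) h3
    simp only [mul_one, inv_mul_cancel] at h5
    rw [← h5]
    group
  have h5 : 13 ∣ 5 * Nat.factorial 9 := by
    rw [← hz]
    exact orderOf_dvd_of_pow_eq_one h4
  revert h5
  decide

theorem kill_fi24 (h : Spor.IsoFi24' S) : Kill S := by
  have hN := NotCT.Orders.fi24 h
  obtain ⟨e⟩ := h
  have hfin : Finite Spor.Fi24' := Finite.of_equiv S e.toEquiv
  have hNC : NC 5 13 Spor.Fi24' := fun y z hy hz hyz =>
    nc_fi24 (y : Spor.Fi24) (z : Spor.Fi24) (by rw [orderOf_coe, hy]) (by rw [orderOf_coe, hz])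
      (congrArg Subtype.val hyz)
  refine Kill.of_thirteen (K := 22) (by rw [hN]; norm_num) (fun m h1 h2 => ?_) (by rw [hN]; norm_num)
    (s := 5) (a := 2) (Or.inl rfl) (hNC.symm.congr e) (by rw [hN]; norm_num) (by rw [hN]; norm_num)
    (modEq_small (Or.inl ⟨rfl, Or.inl rfl⟩))
  have : m ≤ 4 := by omega
  rw [hN]
  interval_cases m <;> norm_num [szc]

theorem kill_th (h : Spor.IsoTh S) : Kill S := by
  have hN := NotCT.Orders.th h
  obtain ⟨e⟩ := h
  have hfin : Finite Spor.Th := Finite.of_equiv S e.toEquiv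
  have hNC : NC 7 13 Spor.Th := NC.of_cent fun y hy => by
    rw [H468.PW.ThP.card_cent hy]; norm_num
  refine Kill.of_thirteen (K := 16) (by rw [hN]; norm_num) (fun m h1 h2 => ?_) (by rw [hN]; norm_num)
    (s := 7) (a := 2) (Or.inr rfl) (hNC.symm.congr e) (by rw [hN]; norm_num) (by rw [hN]; norm_num)
    (modEq_small (Or.inr ⟨rfl, Or.inl rfl⟩))
  have : m ≤ 3 := by omega
  rw [hN]
  interval_cases m <;> norm_num [szc]

theorem nc_b (h : Spor.IsoB S) : NC 7 13 S := by
  refine NC.of_cent fun y hy hd => ?_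
  obtain ⟨t, x, ht, hx, hxt, hc⟩ := H630.Baby.exists_lift_card h (by norm_num) (by norm_num) hy
  have hfin : Finite H630.Baby.Mon := MThirteen.Row.finite
  have h2 : Nat.card ↥(LThreeB.XT x t) ∣ 4030387200 * 7 := by
    rw [← H478.SporBaby.card_cent (v := t) ht hx hxt]
    exact card_dvd_of_le inf_le_left
  have h3 := hd.trans (H630.Baby.card_dvd_XT (r := 7) hc h2)
  revert h3
  norm_num

theorem kill_b (h : Spor.IsoB S) : Kill S := by
  have hN := NotCT.Orders.b h
  refine Kill.of_thirteen (K := 42) (by rw [hN]; norm_num) (fun m h1 h2 => ?_) (by rw [hN]; norm_num)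
    (s := 7) (a := 2) (Or.inr rfl) (nc_b h).symm (by rw [hN]; norm_num) (by rw [hN]; norm_num)
    (modEq_small (Or.inr ⟨rfl, Or.inl rfl⟩))
  have : m ≤ 9 := by omega
  rw [hN]
  interval_cases m <;> norm_num [szc]

end Cfsg.Agent.H465.SporB
end

-- part: H465/PiBSKillM
section
prune_inst 0x303045003ca2100000180000c0003c66b2000000000b0000714004040c871e4100000e20f2701e0211c492e4503ac04811180019420000002a00b200411f0080042366c2923cad0831000080e802580c00000000000000000000000000041004000000000
set_option linter.all false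
open scoped Cfsg.Agent.FastGrp

/-!
# The row of the Monster, `2 ∈ π`, `3 ∉ π` (helper465, for S3876)

* `Kill' S` : data against the Suzuki groups with the centralizers of the `r`-central elements of order `r`;
* `row_of'` : `Row π S`;
* `kill_m` : the Monster.
-/

set_option autoImplicit false
set_option linter.unusedSectionVars false
set_option linter.style.haveILetI false

universe u

namespace Cfsg.Agent.H465.SporB

open Subgroup Cfsg Cfsg.Agent.H469.PiBS

/-- all Suzuki groups are excluded, with the centralizers of the `r`-central elements -/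
def Kill' (S : Type*) [Group S] : Prop := ∀ m, 1 ≤ m → szc m ∣ Nat.card S →
  ∃ (r s a b c : ℕ) (w : ℕ → ℕ), r.Prime ∧ s.Prime ∧ r ≠ s ∧ r ∣ szc m ∧ s ∣ szc m ∧
    ¬ r ^ (b + 1) ∣ Nat.card S ∧ (∀ k, 1 ≤ k → k ≤ b → ¬ s ^ (w k + 1) ∣ r ^ k - 1) ∧
    (∀ m', 1 ≤ m' → szc m' ∣ Nat.card S → r ∣ szc m' → ¬ s ^ (c + 1) ∣ szc m') ∧
    s ^ a ∣ Nat.card S ∧ ¬ s ^ (a + 1) ∣ Nat.card S ∧ (∀ i, 1 ≤ i → i ≤ a → ¬ r ∣ s ^ i - 1) ∧
    ∀ y : S, orderOf y = r → ¬ r ∣ (centralizer ({y} : Set S)).index →
      ¬ s ^ (a - ((∑ i ∈ Finset.range b, w (i + 1)) + b * c)) ∣ Nat.card ↥(centralizer ({y} : Set S))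

section

variable {π : Set ℕ} {S : Type u} [Group S] [Finite S] {A : Subgroup (MulAut S)} {x : MulAut S} {l : ℕ}

/-- **numerical contradiction** -/
theorem false_of_kill' (h : Hyp π A x l) (h3 : 3 ∉ π) (hK : Kill' S) {L : Subgroup S} (hL : ¬ Group.IsSolvable L)
    (hLπ : IsPiSubgroup π L) : False := by
  obtain ⟨m, hm, hmd⟩ := exists_szc hL fun hd => h3 (hLπ 3 Nat.prime_three hd)
  obtain ⟨r, s, a, b, c, w, hr, hs, hrs, hrm, hsm, hb, hw, hc, ha, ha', hn, hcen⟩ :=
    hK m hm (hmd.trans (card_subgroup_dvd_card L))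
  have hrπ : r ∈ π := hLπ r hr (hrm.trans hmd)
  have hsπ : s ∈ π := hLπ s hs (hsm.trans hmd)
  obtain ⟨H, hH⟩ := h.exists_hall
  have hHS : Nat.card H ∣ Nat.card S := card_subgroup_dvd_card H
  have hrH : r ∣ Nat.card H := by
    have h1 : r ∣ Nat.card S := (hrm.trans hmd).trans (card_subgroup_dvd_card L)
    rw [← H.card_mul_index] at h1
    exact (hr.dvd_mul.1 h1).resolve_right (hH.2 r hr hrπ)
  have haH : s ^ a ∣ Nat.card H := by
    rw [← H.card_mul_index] at ha
    exact (Nat.Coprime.pow_left _ ((Nat.Prime.coprime_iff_not_dvd hs).2 (hH.2 s hs hsπ))).dvd_of_dvd_mul_right ha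
  obtain ⟨y, hy, hyi, hys⟩ := main_central (H := H) hr hs hrs hrH (fun hd => h3 (hH.1 3 Nat.prime_three hd))
    (fun hd => hb (hd.trans hHS)) w hw (fun m' hm' hd => hc m' hm' (hd.trans hHS)) haH
    (fun hd => ha' (hd.trans hHS)) hn
  -- the centralizer in `S`
  have hle : (centralizer ({y} : Set H)).map H.subtype ≤ centralizer ({(y : S)} : Set S) := by
    rintro _ ⟨g, hg, rfl⟩
    rw [mem_centralizer_singleton_iff]
    exact congrArg Subtype.val (mem_centralizer_singleton_iff.1 hg)
  refine hcen (y : S) (by rw [orderOf_coe, hy]) (fun hd => ?_) ?_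
  · have h1 : r ∣ ((centralizer ({y} : Set H)).map H.subtype).index := hd.trans (index_dvd_of_le hle)
    have h2 : ((centralizer ({y} : Set H)).map H.subtype).index = (centralizer ({y} : Set H)).index * H.index := by
      rw [index_map_subtype]
    rw [h2] at h1
    rcases hr.dvd_mul.1 h1 with h3 | h3
    · exact hyi h3
    · exact hH.2 r hr hrπ h3
  · refine hys.trans ?_
    rw [← card_map_of_injective (K := centralizer ({y} : Set H)) H.subtype_injective]
    exact card_dvd_of_le hle

/-- **The rows with `3 ∉ π`**, second version. -/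
theorem row_of' (hs : IsSimpleGroup S) (hna : ¬ IsMulCommutative S) (h3 : 3 ∉ π) (hOI : OI S) (hG : Guest S)
    (hI : Inv3 S) (hK : Kill' S) : Row π S := by
  intro A x l h
  exfalso
  rcases h.prime.eq_two_or_odd with h2 | ho
  · exact false_of_inv3 h (center_eq_bot hs hna) h3 (hI x (h.ord.trans h2))
  · have hl : 5 ≤ l := by
      have h4 : l ≠ 3 := fun h5 => h3 (h5 ▸ h.lpi)
      have h6 : l ≠ 1 := h.prime.one_lt.ne'
      omega
    obtain ⟨L, hL, hLπ⟩ := exists_nonsolvable h hs hna hl hOI hG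
    exact false_of_kill' h h3 hK hL hLπ

end

/-- centralizers along an isomorphism -/
theorem centralizer_congr {S T : Type*} [Group S] [Group T] (f : S ≃* T) (y : S) :
    (centralizer ({y} : Set S)).map f.toMonoidHom = centralizer ({f y} : Set T) := by
  ext x
  constructor
  · rintro ⟨g, hg, rfl⟩
    rw [mem_centralizer_singleton_iff]
    change f g * f y = f y * f g
    rw [← map_mul, ← map_mul, mem_centralizer_singleton_iff.1 hg]
  · intro hx
    refine ⟨f.symm x, mem_centralizer_singleton_iff.2 (f.injective ?_), f.apply_symm_apply x⟩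
    rw [map_mul, map_mul, f.apply_symm_apply]
    exact mem_centralizer_singleton_iff.1 hx

/-- **The Monster.** -/
theorem kill_m {S : Type u} [Group S] [Finite S] (h : Spor.IsoM S) : Kill' S := by
  have hN := NotCT.Orders.m h
  obtain ⟨e⟩ := h
  obtain ⟨e'⟩ := MonsterP.Equiv.equiv
  let f : S ≃* ↥MonsterX.InstData.M.G := e.trans e'
  have hone : ∀ m, 1 ≤ m → szc m ∣ Nat.card S → m = 1 ∨ m = 2 := by
    intro m hm hd
    have h1 : 4 * m + 2 < 47 := le_of_szc_dvd (K := 47) (by rw [hN]; norm_num) hd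
    have h2 : m ≤ 11 := by omega
    rw [hN] at hd
    clear h1 hN
    interval_cases m
    · exact Or.inl rfl
    · exact Or.inr rfl
    all_goals
      exfalso
      revert hd
      norm_num [szc]
  have htr : ∀ y : S, Nat.card ↥(centralizer ({y} : Set S)) = Nat.card ↥(centralizer ({f y} : Set ↥MonsterX.InstData.M.G)) ∧
      (centralizer ({y} : Set S)).index = (centralizer ({f y} : Set ↥MonsterX.InstData.M.G)).index := by
    intro y
    rw [← centralizer_congr f y]
    refine ⟨(card_map_of_injective f.injective).symm, ?_⟩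
    exact (Subgroup.index_map_equiv _ f).symm
  intro m hm hd
  rcases hone m hm hd with rfl | rfl
  · refine ⟨13, 7, 6, 3, 1, fun k => if k = 2 then 1 else 0, by norm_num, by norm_num, by norm_num, by norm_num [szc],
      by norm_num [szc], by rw [hN]; norm_num, ?_, ?_, by rw [hN]; norm_num, by rw [hN]; norm_num, ?_, ?_⟩
    · intro k hk1 hk2
      interval_cases k <;> norm_num
    · intro m' hm' hd' h13
      rcases hone m' hm' hd' with rfl | rfl
      · norm_num [szc]
      · exfalso
        revert h13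
        norm_num [szc]
    · intro i hi1 hi2
      interval_cases i <;> norm_num
    · intro y hy hyi hd2
      rw [(htr y).2] at hyi
      rw [(htr y).1] at hd2
      refine Mon.no_seven (y := f y) (by rw [MulEquiv.orderOf_eq, hy]) hyi (Dvd.dvd.trans ?_ hd2)
      simp
  · refine ⟨41, 5, 9, 1, 2, fun _ => 1, by norm_num, by norm_num, by norm_num, by norm_num [szc],
      by norm_num [szc], by rw [hN]; norm_num, ?_, ?_, by rw [hN]; norm_num, by rw [hN]; norm_num, ?_, ?_⟩
    · intro k hk1 hk2
      interval_cases k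
      norm_num
    · intro m' hm' hd' h41
      rcases hone m' hm' hd' with rfl | rfl
      · exfalso
        revert h41
        norm_num [szc]
      · norm_num [szc]
    · intro i hi1 hi2
      interval_cases i <;> norm_num
    · intro y hy hyi hd2
      rw [(htr y).1] at hd2
      refine Mon.no_five (y := f y) (by rw [MulEquiv.orderOf_eq, hy]) (Dvd.dvd.trans ?_ hd2)
      simp

end Cfsg.Agent.H465.SporB
end

-- part: H465/PiBSSporBFin
section
set_option linter.all false

/-!
# The rows of the sporadic groups and of the Tits group, `2 ∈ π`, `3 ∉ π` (helper465, S3876, SPORADIC B)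

* `inv3_sporadic` : the involutory automorphisms of a sporadic group;
* `row_sporadic_of`, `row_tits` : the rows, with the statement of S3829 (`Guest`) as a hypothesis.
-/

set_option autoImplicit false

universe u

namespace Cfsg.Agent.H465.SporB

open Subgroup Cfsg Cfsg.Agent.H469.PiBS

section

variable {S : Type u} [Group S] [Finite S]

/-- **The involutory automorphisms of the sporadic groups.** -/
theorem inv3_sporadic [IsSimpleGroup S] (hRu : Spor.IsoRu S → Inv3 S) (h : IsSporadicGroup S) : Inv3 S := by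
  rcases h with h | h | h | h | h | h | h | h | h | h | h | h | h | h | h | h | h | h | h | h | h | h | h | h | h | h
  · exact H799.PiBS.inv3_m11 h
  · exact H799.PiBS.inv3_m12 h
  · exact H799.PiBS.inv3_m22 h
  · exact H799.PiBS.inv3_m23 h
  · exact H799.PiBS.inv3_m24 h
  · exact H799.PiBS.inv3_j1 h
  · exact H799.PiBS.inv3_j2 h
  · exact H799.PiBS.J3.inv3_j3 h
  · exact H799.PiBS.J4.inv3_j4 h
  · exact H518.PiB.inv3_co1 h
  · exact H518.PiB.inv3_co2 h
  · exact H518.PiB.inv3_co3 h
  · exact H799.PiBS.McL.inv3_mcl h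
  · exact H799.PiBS.HS.inv3_hs h
  · exact H799.PiBS.Suz.inv3_suz h
  · exact H799.PiBS.He.inv3_he h
  · exact hRu h
  · exact H799.PiBS.ON.inv3_on h
  · exact H518.PiB.inv3_ly h
  · exact Fi.inv3_fi22 h
  · exact Fi.inv3_fi23 h
  · exact Fi.inv3_fi24 h
  · exact H443.PiS.inv3_hn h
  · exact H443.PiS.inv3_th h
  · exact BB.inv3_b h
  · exact H518.PiB.inv3_m BB.inv3_b_model h

/-- **The rows of the sporadic groups.** -/
theorem row_sporadic_of {π : Set ℕ} [hs : IsSimpleGroup S] (hna : ¬ IsMulCommutative S)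
    (hRu : Spor.IsoRu S → Inv3 S) (h3 : 3 ∉ π) (hG : Guest S) (h : IsSporadicGroup S) : Row π S := by
  have hI := inv3_sporadic hRu h
  have hOI : OI S := H256.OddInner.sporadic h
  have key : Kill S → Row π S := row_of hs hna h3 hOI hG hI
  rcases h with h | h | h | h | h | h | h | h | h | h | h | h | h | h | h | h | h | h | h | h | h | h | h | h | h | h
  · exact key (kill_m11 h)
  · exact key (kill_m12 h)
  · exact key (kill_m22 h)
  · exact key (kill_m23 h)
  · exact key (kill_m24 h)
  · exact key (kill_j1 h)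
  · exact key (kill_j2 h)
  · exact key (kill_j3 h)
  · exact key (kill_j4 h)
  · exact key (kill_co1 h)
  · exact key (kill_co2 h)
  · exact key (kill_co3 h)
  · exact key (kill_mcl h)
  · exact key (kill_hs h)
  · exact key (kill_suz h)
  · exact key (kill_he h)
  · exact key (kill_ru h)
  · exact key (kill_on h)
  · exact key (kill_ly h)
  · exact key (kill_fi22 h)
  · exact key (kill_fi23 h)
  · exact key (kill_fi24 h)
  · exact key (kill_hn h)
  · exact key (kill_th h)
  · exact key (kill_b h)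
  · exact row_of' hs hna h3 hOI hG hI (kill_m h)

omit [Finite S] in
theorem oi_aux {G : Type*} [Group G] {T : Subgroup G} (e : S ≃* T)
    (h : (MulAut.conj : T →* MulAut T).range.index ∣ 2) : OI S :=
  H256.OddInner.OI.congr e (H256.OddInner.OI.of_le_two ((Nat.dvd_prime Nat.prime_two).1 h))

omit [Finite S] in
theorem oi_tits (h : Lie.IsoTits S) : OI S := by
  obtain ⟨e⟩ := Cfsg.Agent.CpAutTits.Row.exists_equiv h
  exact oi_aux e Cfsg.Agent.TitsK.tdata.index_inn

/-- **The row of the Tits group.** -/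
theorem row_tits {π : Set ℕ} (hs : IsSimpleGroup S) (hna : ¬ IsMulCommutative S) (h3 : 3 ∉ π) (hG : Guest S)
    (h : Lie.IsoTits S) : Row π S := by
  intro A x l hy
  exfalso
  rcases hy.prime.eq_two_or_odd with h2 | ho
  · exact H518.PiB.Tits.false_tits h h3 hy h2
  · have hl : 5 ≤ l := by
      have h4 : l ≠ 3 := fun h5 => h3 (h5 ▸ hy.lpi)
      have h6 : l ≠ 1 := hy.prime.one_lt.ne'
      omega
    obtain ⟨L, hL, hLπ⟩ := exists_nonsolvable hy hs hna hl (oi_tits h) hG
    exact hL (H518.PiB.Tits.solvable_of (H518.PiB.Tits.tc h) fun hd => h3 (hLπ 3 Nat.prime_three hd))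

end

end Cfsg.Agent.H465.SporB
end

-- part: S3876
section
prune_inst 0x2020044000000000000000000020040000010000000001410000040008820000000800000014000008020000000000000000d00000000000000000000100000028420012000100200000800000400000000000000000000000000000000004000000000
set_option linter.all false
open scoped Cfsg.Agent.FastGrp

-- part: H469/PiBS/Prod
section
/-!
# Hall subgroups of a nonabelian minimal normal subgroup (PIBS)
-/

set_option autoImplicit false
set_option linter.unusedSectionVars false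

namespace Cfsg.Agent.H469.PiBS

open Cfsg Subgroup Cfsg.Agent.Lib.MinNormalNonabelian Cfsg.Agent.Lib.MinNormal

variable {π : Set ℕ} {G : Type*} [Group G] [Finite G]

/-! ### Hall subgroups of subgroups -/

theorem relIndex_mul_sup_index (H A : Subgroup G) [A.Normal] : H.relIndex A * (H ⊔ A).index = H.index := by
  have h1 : (H ⊓ A).relIndex A * A.index = (H ⊓ A).index := relIndex_mul_index inf_le_right
  have h2 : (H ⊓ A).relIndex H * H.index = (H ⊓ A).index := relIndex_mul_index inf_le_left
  have h3 : A.relIndex (H ⊔ A) * (H ⊔ A).index = A.index := relIndex_mul_index le_sup_right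
  rw [relIndex_sup_right] at h3
  rw [inf_relIndex_right] at h1
  rw [inf_relIndex_left] at h2
  have h4 : A.relIndex H ≠ 0 := ne_zero_of_dvd_ne_zero Nat.card_pos.ne' (relIndex_dvd_card A H)
  apply Nat.eq_of_mul_eq_mul_left (Nat.pos_of_ne_zero h4)
  rw [h2, ← h1, ← h3]
  ring

theorem relIndex_dvd_of_norm {K M T : Subgroup G} (hTM : T ≤ M) (hn : M ≤ normalizer (T : Set G)) :
    K.relIndex T ∣ K.relIndex M := by
  have h0 : (T.subgroupOf M).Normal := normal_subgroupOf_of_le_normalizer hn
  have h1 : K.relIndex T = (K.subgroupOf M).relIndex (T.subgroupOf M) := by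
    rw [Subgroup.relIndex_subgroupOf hTM]
  rw [h1]
  exact ⟨_, (relIndex_mul_sup_index (K.subgroupOf M) (T.subgroupOf M)).symm⟩

theorem hallOf_card {H M : Subgroup G} (h : H ≤ M) : Nat.card H * H.relIndex M = Nat.card M := by
  rw [← Subgroup.relIndex_bot_left H, ← Subgroup.relIndex_bot_left M]
  exact Subgroup.relIndex_mul_relIndex ⊥ H M bot_le h

/-- A Hall π-subgroup of `M` meets a normal subgroup of `M` in a Hall π-subgroup. -/
theorem hallOf_inf {K M T : Subgroup G} (hK : IsPiHallOf π K M) (hTM : T ≤ M) (hn : M ≤ normalizer (T : Set G)) :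
    IsPiHallOf π (K ⊓ T) T := by
  refine ⟨inf_le_right, fun p hp hd => hK.2.1 p hp (hd.trans (card_dvd_of_le inf_le_left)), fun p hp hpi hd => ?_⟩
  rw [inf_relIndex_right] at hd
  exact hK.2.2 p hp hpi (hd.trans (relIndex_dvd_of_norm hTM hn))

/-- A Hall π-subgroup is a maximal π-subgroup. -/
theorem hallOf_eq {H K M : Subgroup G} (hH : IsPiHallOf π H M) (hHK : H ≤ K) (hKM : K ≤ M)
    (hK : ∀ p : ℕ, p.Prime → p ∣ Nat.card K → p ∈ π) : H = K := by
  have h1 : H.relIndex K = 1 := by
    by_contra hne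
    obtain ⟨p, hp, hpd⟩ := Nat.exists_prime_and_dvd hne
    have h2 : p ∣ Nat.card K := hpd.trans (relIndex_dvd_card H K)
    have h3 : H.relIndex K ∣ H.relIndex M := ⟨_, (relIndex_mul_relIndex H K M hHK hKM).symm⟩
    exact hH.2.2 p hp (hK p hp h2) (hpd.trans h3)
  exact le_antisymm hHK (relIndex_eq_one.mp h1)

theorem hallOf_map {H M : Subgroup G} (h : IsPiHallOf π H M) (g : G) :
    IsPiHallOf π (H.map (MulAut.conj g).toMonoidHom) (M.map (MulAut.conj g).toMonoidHom) := by
  have hinj := (MulAut.conj g).injective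
  refine ⟨Subgroup.map_mono h.1, fun p hp hd => h.2.1 p hp ?_, fun p hp hpi hd => h.2.2 p hp hpi ?_⟩
  · rwa [Subgroup.card_map_of_injective (f := (MulAut.conj g).toMonoidHom) hinj] at hd
  · rwa [show (H.map (MulAut.conj g).toMonoidHom).relIndex (M.map (MulAut.conj g).toMonoidHom) = H.relIndex M from
      Subgroup.relIndex_map_map_of_injective H M hinj] at hd

/-! ### Direct products -/

section prod

variable {ι : Type*} [Finite ι] {T : ι → Subgroup G} {N : Subgroup G}

theorem card_iSup (hcomm : Pairwise fun i j : ι => ∀ x y : G, x ∈ T i → y ∈ T j → Commute x y)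
    (hind : iSupIndep T) : Nat.card (⨆ i, T i : Subgroup G) = ∏ᶠ i, Nat.card (T i) := by
  cases nonempty_fintype ι
  obtain ⟨e⟩ := mulEquiv_pi_of_iSupIndep T hcomm hind rfl
  rw [Nat.card_congr e.toEquiv, Nat.card_pi, finprod_eq_prod_of_fintype]

variable (hcomm : Pairwise fun i j : ι => ∀ x y : G, x ∈ T i → y ∈ T j → Commute x y)
  (hind : iSupIndep T) (hN : ⨆ i, T i = N)

include hcomm hind hN

theorem hallOf_iSup {f : ι → Subgroup G} (hf : ∀ i, IsPiHallOf π (f i) (T i)) : IsPiHallOf π (⨆ i, f i) N := by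
  cases nonempty_fintype ι
  have hle : ∀ i, f i ≤ T i := fun i => (hf i).1
  have hc' : Pairwise fun i j : ι => ∀ x y : G, x ∈ f i → y ∈ f j → Commute x y :=
    fun i j hij x y hx hy => hcomm hij x y (hle i hx) (hle j hy)
  have hi' : iSupIndep f := hind.mono hle
  have h1 := card_iSup hc' hi'
  have h2 := card_iSup hcomm hind
  rw [finprod_eq_prod_of_fintype] at h1 h2
  have hfN : (⨆ i, f i) ≤ N := hN ▸ iSup_mono hle
  have h3 := hallOf_card hfN
  have h4 : (⨆ i, f i : Subgroup G).relIndex N = ∏ i, (f i).relIndex (T i) := by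
    apply Nat.eq_of_mul_eq_mul_left (Nat.card_pos (α := (⨆ i, f i : Subgroup G)))
    rw [h3, h1, ← Finset.prod_mul_distrib, ← hN, h2]
    exact Finset.prod_congr rfl fun i _ => (hallOf_card (hle i)).symm
  refine ⟨hfN, fun p hp hd => ?_, fun p hp hpi hd => ?_⟩
  · rw [h1] at hd
    obtain ⟨i, -, hi⟩ := (Prime.dvd_finset_prod_iff hp.prime _).1 hd
    exact (hf i).2.1 p hp hi
  · rw [h4] at hd
    obtain ⟨i, -, hi⟩ := (Prime.dvd_finset_prod_iff hp.prime _).1 hd
    exact (hf i).2.2 p hp hpi hi

theorem hallOf_iSup_inf {f : ι → Subgroup G} (hf : ∀ i, IsPiHallOf π (f i) (T i)) (j : ι) :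
    (⨆ i, f i) ⊓ T j = f j := by
  have h1 := hallOf_iSup hcomm hind hN hf
  refine (hallOf_eq (hf j) (le_inf (le_iSup f j) (hf j).1) inf_le_right fun p hp hd => ?_).symm
  exact h1.2.1 p hp (hd.trans (card_dvd_of_le inf_le_left))

theorem hallOf_eq_iSup (hn : ∀ i, N ≤ normalizer (T i : Set G)) {K : Subgroup G} (hK : IsPiHallOf π K N) :
    ⨆ i, (K ⊓ T i) = K := by
  have hTN : ∀ i, T i ≤ N := fun i => hN ▸ le_iSup T i
  have h1 : IsPiHallOf π (⨆ i, (K ⊓ T i)) N := hallOf_iSup hcomm hind hN fun i => hallOf_inf hK (hTN i) (hn i)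
  exact hallOf_eq h1 (iSup_le fun i => inf_le_left) hK.1 hK.2.1

/-- the Hall π-subgroups of a direct product -/
theorem card_hallOf (hn : ∀ i, N ≤ normalizer (T i : Set G)) :
    Nat.card {K : Subgroup G // IsPiHallOf π K N} = ∏ᶠ i, Nat.card {K : Subgroup G // IsPiHallOf π K (T i)} := by
  cases nonempty_fintype ι
  have hTN : ∀ i, T i ≤ N := fun i => hN ▸ le_iSup T i
  rw [finprod_eq_prod_of_fintype, ← Nat.card_pi]
  exact Nat.card_congr
    { toFun := fun K i => ⟨K.1 ⊓ T i, hallOf_inf K.2 (hTN i) (hn i)⟩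
      invFun := fun f => ⟨⨆ i, (f i).1, hallOf_iSup hcomm hind hN fun i => (f i).2⟩
      left_inv := fun K => Subtype.ext (hallOf_eq_iSup hcomm hind hN hn K.2)
      right_inv := fun f => funext fun j => Subtype.ext (hallOf_iSup_inf hcomm hind hN (fun i => (f i).2) j) }

end prod

end Cfsg.Agent.H469.PiBS
end

-- part: H469/PiBS/QuotD
section
/-!
# Quotients of `D_π`-groups are `D_π`-groups (minimal supplements)
-/

set_option autoImplicit false
set_option linter.unusedSectionVars false

namespace Cfsg.Agent.H469.PiBS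

open Cfsg Subgroup Cfsg.Agent.H506.PiHomog Cfsg.Agent.H507.DPi

/-- A π-subgroup of a quotient is the image of a π-subgroup. -/
theorem exists_lift {π : Set ℕ} {G : Type*} [Group G] [Finite G] (N : Subgroup G) [N.Normal]
    (K : Subgroup (G ⧸ N)) (hK : PiNum π (Nat.card K)) :
    ∃ U : Subgroup G, PiNum π (Nat.card U) ∧ U.map (QuotientGroup.mk' N) = K := by
  set f := QuotientGroup.mk' N with hf
  obtain ⟨U, hU, hmin⟩ := (Set.toFinite {U : Subgroup G | U.map f = K}).exists_minimal
    ⟨K.comap f, Subgroup.map_comap_eq_self_of_surjective (QuotientGroup.mk'_surjective N) K⟩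
  have hU' : U.map f = K := hU
  have hmin' : ∀ V : Subgroup G, V ≤ U → V.map f = K → V = U := fun V hV hVK => le_antisymm hV (hmin hVK hV)
  refine ⟨U, ?_, hU'⟩
  intro p hp hd
  by_contra hpi
  have hpf : Fact p.Prime := ⟨hp⟩
  have hNn : (N.subgroupOf U).Normal := inferInstance
  -- a subgroup of `U` supplementing `N ∩ U` is `U`
  have hsup : ∀ V : Subgroup U, V ⊔ N.subgroupOf U = ⊤ → V = ⊤ := by
    intro V hV
    have h1 : (V.map U.subtype).map f = K := by
      rw [← hU']
      apply le_antisymm (Subgroup.map_mono (Subgroup.map_subtype_le V))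
      rintro _ ⟨u, hu, rfl⟩
      have h2 : (⟨u, hu⟩ : U) ∈ V ⊔ N.subgroupOf U := by rw [hV]; exact mem_top _
      have h3 : (⟨u, hu⟩ : U) ∈ ((V ⊔ N.subgroupOf U : Subgroup U) : Set U) := h2
      rw [Subgroup.mul_normal] at h3
      obtain ⟨v, hv, n, hn, hvn⟩ := h3
      have h4 : (v : G) * (n : G) = u := congrArg Subtype.val hvn
      refine ⟨v, ⟨v, hv, rfl⟩, ?_⟩
      rw [← h4, map_mul]
      have h5 : f (n : G) = 1 := (QuotientGroup.eq_one_iff _).2 (mem_subgroupOf.1 hn)
      rw [h5, mul_one]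
    have h2 := hmin' _ (Subgroup.map_subtype_le V) h1
    rw [eq_top_iff]
    intro u _
    have h3 : (u : G) ∈ V.map U.subtype := by rw [h2]; exact u.2
    obtain ⟨v, hv, hvu⟩ := h3
    rwa [← Subtype.ext (hvu : (v : G) = u)]
  let P : Sylow p U := default
  have hPN : (P : Subgroup U) ≤ N.subgroupOf U := by
    intro y hy
    rw [mem_subgroupOf, ← QuotientGroup.eq_one_iff]
    change f (y : G) = 1
    have h1 : f (y : G) ∈ K := by rw [← hU']; exact ⟨y, y.2, rfl⟩
    by_contra hne
    obtain ⟨k, hk⟩ := P.2 ⟨y, hy⟩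
    have hk' : (y : G) ^ p ^ k = 1 := by
      have := congrArg Subtype.val (congrArg Subtype.val hk)
      exact this
    have h2 : orderOf (f (y : G)) ∣ p ^ k := orderOf_dvd_of_pow_eq_one (by rw [← map_pow, hk', map_one])
    have h3 : orderOf (f (y : G)) ≠ 1 := fun h => hne (orderOf_eq_one_iff.1 h)
    obtain ⟨q, hq, hqd⟩ := Nat.exists_prime_and_dvd h3
    have h4 : q = p := (Nat.prime_dvd_prime_iff_eq hq hp).1 (hq.dvd_of_dvd_pow (hqd.trans h2))
    subst h4
    exact hpi (hK q hp (hqd.trans (Subgroup.orderOf_dvd_natCard K h1)))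
  have hPn : (P : Subgroup U).Normal := by
    rw [← normalizer_eq_top_iff]
    exact hsup _ (P.normalizer_sup_eq_top' hPN)
  have hcop : (Nat.card (P : Subgroup U)).Coprime (P : Subgroup U).index := by
    obtain ⟨n, hn⟩ := IsPGroup.iff_card.mp P.2
    rw [hn]
    exact Nat.Coprime.pow_left n ((Nat.Prime.coprime_iff_not_dvd hp).2 P.not_dvd_index)
  obtain ⟨C, hC⟩ := Subgroup.exists_right_complement'_of_coprime hcop
  have hCt : C = ⊤ := by
    apply hsup
    rw [eq_top_iff, ← hC.sup_eq_top, sup_comm]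
    exact sup_le_sup le_rfl hPN
  have h5 := hC.card_mul
  rw [hCt, Subgroup.card_top] at h5
  have h6 : Nat.card (P : Subgroup U) = 1 := by
    have h7 : 0 < Nat.card U := Nat.card_pos
    nlinarith only [h5, h7]
  have h8 : p ∣ Nat.card (P : Subgroup U) := P.dvd_card_of_dvd_card hd
  rw [h6] at h8
  exact hp.one_lt.ne' (Nat.dvd_one.1 h8)

/-- **Quotients of `D_π`-groups are `D_π`-groups.** -/
theorem DPi_quotient {π : Set ℕ} {G : Type*} [Group G] [Finite G] (h : DPi π G) (N : Subgroup G) [N.Normal] :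
    DPi π (G ⧸ N) :=
  h.quotient_of_lift N fun K hK => exists_lift N K hK

end Cfsg.Agent.H469.PiBS
end

-- part: H469/PiBS/Comp
section
/-!
# The simple factors of a minimal normal subgroup of a `D_π`-group (PIBS)
-/

set_option autoImplicit false
set_option linter.unusedSectionVars false

namespace Cfsg.Agent.H469.PiBS

open Cfsg Subgroup Cfsg.Agent.Lib.MinNormalNonabelian Cfsg.Agent.Lib.MinNormal Cfsg.Agent.H506.PiHomog
  Cfsg.Agent.H507.DPi

universe u

variable {π : Set ℕ} {G : Type u} [Group G] [Finite G]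

theorem conj_normal_eq (N : Subgroup G) [N.Normal] (g : G) : N.map (MulAut.conj g).toMonoidHom = N :=
  map_conj_normal g N

theorem mcc (g h : G) (T : Subgroup G) : (T.map (MulAut.conj h).toMonoidHom).map (MulAut.conj g).toMonoidHom =
    T.map (MulAut.conj (g * h)).toMonoidHom := Cfsg.Agent.Lib.MinNormal.map_conj_map_conj g h T

/-- `G` is transitive on the Hall π-subgroups of a normal subgroup. -/
theorem trans_hallOf {M0 : Subgroup G} (hM : DHall π M0) (N : Subgroup G) [N.Normal] {K : Subgroup G}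
    (hK : IsPiHallOf π K N) : ∃ g : G, K.map (MulAut.conj g).toMonoidHom = M0 ⊓ N := by
  obtain ⟨g, hg⟩ := hM.dom K hK.2.1
  have h1 := hallOf_map hK g
  rw [conj_normal_eq N] at h1
  exact ⟨g, hallOf_eq h1 (le_inf hg h1.1) inf_le_right fun p hp hd =>
    hM.card p hp (hd.trans (card_dvd_of_le inf_le_left))⟩

theorem isPiHallOf_inf {M0 : Subgroup G} (hM : DHall π M0) (N : Subgroup G) [N.Normal] :
    IsPiHallOf π (M0 ⊓ N) N := by
  refine ⟨inf_le_right, fun p hp hd => hM.card p hp (hd.trans (card_dvd_of_le inf_le_left)), fun p hp hpi hd => ?_⟩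
  rw [inf_relIndex_right] at hd
  exact hM.index p hp (hd.trans ⟨_, (relIndex_mul_sup_index M0 N).symm⟩) hpi

theorem trans_hallOf' {M0 : Subgroup G} (hM : DHall π M0) (N : Subgroup G) [N.Normal] {K K' : Subgroup G}
    (hK : IsPiHallOf π K N) (hK' : IsPiHallOf π K' N) : ∃ g : G, K.map (MulAut.conj g).toMonoidHom = K' := by
  obtain ⟨g, hg⟩ := trans_hallOf hM N hK
  obtain ⟨h, hh⟩ := trans_hallOf hM N hK'
  refine ⟨h⁻¹ * g, ?_⟩
  rw [← mcc, hg, ← hh, mcc, inv_mul_cancel, map_conj_one]

/-- The number of Hall π-subgroups of a normal subgroup is a π'-number. -/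
theorem card_hallOf_normal {M0 : Subgroup G} (hM : DHall π M0) (N : Subgroup G) [N.Normal] {r : ℕ} (hr : r.Prime)
    (hrp : r ∈ π) : ¬ r ∣ Nat.card {K : Subgroup G // IsPiHallOf π K N} := by
  letI : MulAction G {K : Subgroup G // IsPiHallOf π K N} :=
    { smul := fun g K => ⟨K.1.map (MulAut.conj g).toMonoidHom, by
        have h1 := hallOf_map K.2 g
        rwa [conj_normal_eq N] at h1⟩
      one_smul := fun K => Subtype.ext (map_conj_one K.1)
      mul_smul := fun a b K => Subtype.ext (mcc a b K.1).symm }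
  let K0 : {K : Subgroup G // IsPiHallOf π K N} := ⟨M0 ⊓ N, isPiHallOf_inf hM N⟩
  have h1 : M0 ≤ MulAction.stabilizer G K0 := by
    intro m hm
    apply Subtype.ext
    show (M0 ⊓ N).map (MulAut.conj m).toMonoidHom = M0 ⊓ N
    apply le_antisymm
    · rintro _ ⟨y, hy, rfl⟩
      exact ⟨M0.mul_mem (M0.mul_mem hm hy.1) (M0.inv_mem hm), ‹N.Normal›.conj_mem _ hy.2 m⟩
    · intro y hy
      refine ⟨m⁻¹ * y * m, ⟨M0.mul_mem (M0.mul_mem (M0.inv_mem hm) hy.1) hm, ?_⟩, ?_⟩
      · have := ‹N.Normal›.conj_mem _ hy.2 m⁻¹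
        rwa [inv_inv] at this
      · show m * (m⁻¹ * y * m) * m⁻¹ = y
        group
  have h2 : MulAction.orbit G K0 = Set.univ := by
    rw [Set.eq_univ_iff_forall]
    intro K
    obtain ⟨g, hg⟩ := trans_hallOf' hM N K0.2 K.2
    exact ⟨g, Subtype.ext hg⟩
  have h3 := MulAction.index_stabilizer G K0
  rw [h2, Set.ncard_univ] at h3
  intro hd
  rw [← h3] at hd
  exact hM.index r hr (hd.trans (index_dvd_of_le h1)) hrp

/-! ### A simple factor -/

section factor

variable {N : Subgroup G} [N.Normal] (hI : sSupIndep (minSet N)) (hsup : sSup (minSet N) = N)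
  (hconj : ∀ S ∈ minSet N, ∀ T ∈ minSet N, ∃ g : G, T = S.map (MulAut.conj g).toMonoidHom)

theorem minSet_comm (hI : sSupIndep (minSet N)) :
    Pairwise fun i j : minSet N => ∀ x y : G, x ∈ (i : Subgroup G) → y ∈ (j : Subgroup G) → Commute x y :=
  fun i j hij _ _ hx hy => commute_of_mem hI (fun _ hS => hS.2.2.1) (fun _ hS => hS.1) i.2 j.2
    (fun h => hij (Subtype.ext h)) hx hy

theorem minSet_iSup (hsup : sSup (minSet N) = N) : ⨆ i : minSet N, (i : Subgroup G) = N := by
  rw [← sSup_eq_iSup', hsup]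

theorem minSet_indep (hI : sSupIndep (minSet N)) : iSupIndep fun i : minSet N => (i : Subgroup G) :=
  (sSupIndep_iff _).1 hI

include hI hsup

/-- (C) -/
theorem card_hallOf_factor {M0 : Subgroup G} (hM : DHall π M0) {S : Subgroup G} (hS : S ∈ minSet N) {r : ℕ}
    (hr : r.Prime) (hrp : r ∈ π) : ¬ r ∣ Nat.card {K : Subgroup G // IsPiHallOf π K S} := by
  classical
  have : Finite (minSet N) := Set.toFinite (minSet N) |>.to_subtype
  cases nonempty_fintype (minSet N)
  intro hd
  refine card_hallOf_normal hM N hr hrp ?_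
  rw [card_hallOf (minSet_comm hI) (minSet_indep hI) (minSet_iSup hsup) (fun i => i.2.2.2.1),
    finprod_eq_prod_of_fintype]
  exact hd.trans ((Finset.dvd_prod_of_mem (fun i : minSet N => Nat.card {K : Subgroup G // IsPiHallOf π K (i : Subgroup G)})
    (Finset.mem_univ (⟨S, hS⟩ : minSet N)) :))

include hconj

/-- (T) -/
theorem trans_hallOf_factor {M0 : Subgroup G} (hM : DHall π M0) {S : Subgroup G} (hS : S ∈ minSet N)
    {H H' : Subgroup G} (hH : IsPiHallOf π H S) (hH' : IsPiHallOf π H' S) :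
    ∃ n : G, S.map (MulAut.conj n).toMonoidHom = S ∧ H.map (MulAut.conj n).toMonoidHom = H' := by
  have : Finite (minSet N) := Set.toFinite (minSet N) |>.to_subtype
  choose! c hc using fun T : minSet N => hconj S hS T T.2
  have hf : ∀ i : minSet N, IsPiHallOf π (H.map (MulAut.conj (c i)).toMonoidHom) (i : Subgroup G) := by
    intro i
    have h1 := hallOf_map hH (c i)
    rwa [← hc i] at h1
  have hf' : ∀ i : minSet N, IsPiHallOf π (H'.map (MulAut.conj (c i)).toMonoidHom) (i : Subgroup G) := by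
    intro i
    have h1 := hallOf_map hH' (c i)
    rwa [← hc i] at h1
  have hK := hallOf_iSup (minSet_comm hI) (minSet_indep hI) (minSet_iSup hsup) hf
  have hK' := hallOf_iSup (minSet_comm hI) (minSet_indep hI) (minSet_iSup hsup) hf'
  obtain ⟨g, hg⟩ := trans_hallOf' hM N hK hK'
  let s : minSet N := ⟨S, hS⟩
  let t : minSet N := ⟨S.map (MulAut.conj g).toMonoidHom, map_conj_mem_minSet hS g⟩
  have h1 := hallOf_iSup_inf (minSet_comm hI) (minSet_indep hI) (minSet_iSup hsup) hf s
  have h2 := hallOf_iSup_inf (minSet_comm hI) (minSet_indep hI) (minSet_iSup hsup) hf' t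
  have h3 : (H.map (MulAut.conj (c s)).toMonoidHom).map (MulAut.conj g).toMonoidHom =
      H'.map (MulAut.conj (c t)).toMonoidHom := by
    rw [← h1, ← h2, Subgroup.map_inf _ _ _ (MulAut.conj g).injective, hg]
  refine ⟨(c t)⁻¹ * (g * c s), ?_, ?_⟩
  · rw [← mcc, ← mcc, ← hc s]
    show (t : Subgroup G).map _ = S
    rw [hc t, mcc, inv_mul_cancel, map_conj_one]
  · rw [← mcc, ← mcc, h3, mcc, inv_mul_cancel, map_conj_one]

omit hI hsup hconj in
/-- (D) -/
theorem dom_hallOf_factor {M0 : Subgroup G} (hM : DHall π M0) {S : Subgroup G} (hS : S ∈ minSet N) {Y : Subgroup G}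
    (hY : Y ≤ S) (hYp : PiNum π (Nat.card Y)) : ∃ H : Subgroup G, IsPiHallOf π H S ∧ Y ≤ H := by
  obtain ⟨g, hg⟩ := hM.dom Y hYp
  have h1 := isPiHallOf_inf hM N
  have h2 := hallOf_map h1 g⁻¹
  rw [conj_normal_eq N] at h2
  refine ⟨_, hallOf_inf h2 hS.1 hS.2.2.1, le_inf ?_ hY⟩
  have h3 := Subgroup.map_mono (f := (MulAut.conj g⁻¹).toMonoidHom) (show Y.map (MulAut.conj g).toMonoidHom ≤ M0 ⊓ N from
    le_inf hg ((Subgroup.map_mono (hY.trans hS.1)).trans (le_of_eq (conj_normal_eq N g))))
  rwa [mcc, inv_mul_cancel, map_conj_one] at h3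

end factor

end Cfsg.Agent.H469.PiBS
end

-- part: H469/PiBS/Red
section
/-!
# The reduction of S3876 to the rows (PIBS)

`reduce` : if `Row π S` holds for all nonabelian finite simple groups `S` then the π-Baer–Suzuki theorem holds in all
`D_π`-groups.
-/

set_option autoImplicit false
set_option linter.unusedSectionVars false

namespace Cfsg.Agent.H469.PiBS

open Cfsg Subgroup Cfsg.Agent.Lib.MinNormalNonabelian Cfsg.Agent.Lib.MinNormal Cfsg.Agent.H506.PiHomog
  Cfsg.Agent.H507.DPi Cfsg.Agent.H470.SolvPi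

universe u

variable {π : Set ℕ} {G : Type u} [Group G] [Finite G]

theorem sub_map {S : Subgroup G} (H : Subgroup S) : (H.map S.subtype).subgroupOf S = H :=
  Subgroup.comap_map_eq_self_of_injective S.subtype_injective H

theorem isPiHallOf_map_iff {S : Subgroup G} {H : Subgroup S} :
    IsPiHallOf π (H.map S.subtype) S ↔ IsPiHall π H := by
  have h1 : Nat.card (H.map S.subtype) = Nat.card H := Subgroup.card_map_of_injective S.subtype_injective
  have h2 : (H.map S.subtype).relIndex S = H.index := by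
    rw [Subgroup.relIndex, sub_map]
  constructor
  · rintro ⟨-, ha, hb⟩
    rw [h1] at ha
    rw [h2] at hb
    exact ⟨ha, hb⟩
  · rintro ⟨ha, hb⟩
    refine ⟨Subgroup.map_subtype_le H, ?_, ?_⟩
    · rw [h1]; exact ha
    · rw [h2]; exact hb

theorem isPiHall_subgroupOf_iff {S H : Subgroup G} (hH : H ≤ S) :
    IsPiHall π (H.subgroupOf S) ↔ IsPiHallOf π H S := by
  rw [← isPiHallOf_map_iff, Subgroup.subgroupOf_map_subtype, inf_eq_left.2 hH]

theorem norm_apply {S : Subgroup G} (n : normalizer (S : Set G)) (s : S) :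
    ((S.normalizerMonoidHom n s : S) : G) = n * s * (n : G)⁻¹ := rfl

theorem map_norm {S : Subgroup G} (n : normalizer (S : Set G)) (H : Subgroup S) :
    (H.map (S.normalizerMonoidHom n).toMonoidHom).map S.subtype =
      (H.map S.subtype).map (MulAut.conj (n : G)).toMonoidHom := by
  rw [Subgroup.map_map, Subgroup.map_map]
  rfl

theorem hyp_of_factor {N : Subgroup G} [N.Normal] (hI : sSupIndep (minSet N)) (hsup : sSup (minSet N) = N)
    (hconj : ∀ S ∈ minSet N, ∀ T ∈ minSet N, ∃ g : G, T = S.map (MulAut.conj g).toMonoidHom)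
    {M0 : Subgroup G} (hM : DHall π M0) {S : Subgroup G} (hS : S ∈ minSet N) {y : G}
    (hy : y ∈ normalizer (S : Set G)) (hpy : Pairs π y) {l : ℕ} (hl : l.Prime)
    (hord : orderOf (S.normalizerMonoidHom ⟨y, hy⟩) = l) :
    Hyp π (S.normalizerMonoidHom.range) (S.normalizerMonoidHom ⟨y, hy⟩) l := by
  refine ⟨fun s => ⟨⟨s, le_normalizer s.2⟩, by ext t; rfl⟩, ?_, ?_, ?_, ⟨_, rfl⟩, hl, ?_, hord, ?_⟩
  · intro K hK
    have h1 : PiNum π (Nat.card (K.map S.subtype)) := by
      rw [Subgroup.card_map_of_injective S.subtype_injective]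
      exact hK
    obtain ⟨H, hH, hKH⟩ := dom_hallOf_factor hM hS (Subgroup.map_subtype_le K) h1
    refine ⟨H.subgroupOf S, (isPiHall_subgroupOf_iff hH.1).2 hH, fun k hk => ?_⟩
    exact mem_subgroupOf.2 (hKH ⟨k, hk, rfl⟩)
  · intro H H' hH hH'
    obtain ⟨n, hn, hh⟩ := trans_hallOf_factor hI hsup hconj hM hS (isPiHallOf_map_iff.2 hH) (isPiHallOf_map_iff.2 hH')
    have hn' : n ∈ normalizer (S : Set G) := by
      rw [mem_normalizer_iff]
      intro s
      constructor
      · intro hs
        rw [← hn]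
        exact ⟨s, hs, rfl⟩
      · intro hs
        rw [← hn] at hs
        obtain ⟨s', hs', e⟩ := hs
        have : s' = s := by
          have e' : n * s' * n⁻¹ = n * s * n⁻¹ := e
          simpa only [_root_.mul_left_inj, _root_.mul_right_inj] using e'
        rwa [← this]
    refine ⟨S.normalizerMonoidHom ⟨n, hn'⟩, ⟨_, rfl⟩, ?_⟩
    apply Subgroup.map_injective S.subtype_injective
    rw [map_norm]
    exact hh
  · intro r hr hrp hd
    refine card_hallOf_factor hI hsup hM hS hr hrp ?_
    have : Nat.card {H : Subgroup S // IsPiHall π H} = Nat.card {K : Subgroup G // IsPiHallOf π K S} :=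
      Nat.card_congr
        { toFun := fun H => ⟨H.1.map S.subtype, isPiHallOf_map_iff.2 H.2⟩
          invFun := fun K => ⟨K.1.subgroupOf S, (isPiHall_subgroupOf_iff K.2.1).2 K.2⟩
          left_inv := fun H => Subtype.ext (sub_map H.1)
          right_inv := fun K => Subtype.ext (by
            show (K.1.subgroupOf S).map S.subtype = K.1
            rw [Subgroup.subgroupOf_map_subtype, inf_eq_left.2 K.2.1]) }
    rwa [← this]
  · have h1 : l ∣ orderOf y := by
      rw [← hord]
      have h2 := orderOf_map_dvd S.normalizerMonoidHom (⟨y, hy⟩ : normalizer (S : Set G))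
      rwa [Subgroup.orderOf_mk] at h2
    refine hpy 1 1 l hl (h1.trans ?_)
    exact Subgroup.orderOf_dvd_natCard _ (_root_.Subgroup.subset_closure (by simp))
  · rintro _ ⟨a, rfl⟩ _ ⟨b, rfl⟩ p hp hd
    refine hpy (a : G) (b : G) p hp (hd.trans ?_)
    set C : Subgroup G := _root_.Subgroup.closure ({(a : G) * y * (a : G)⁻¹, (b : G) * y * (b : G)⁻¹} : Set G) with hC
    have h2 : Nat.card ↥((C.subgroupOf (normalizer (S : Set G))).map S.normalizerMonoidHom) ∣ Nat.card C :=
      (Subgroup.card_map_dvd _ _).trans (by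
        rw [← inf_subgroupOf_right, Nat.card_congr (subgroupOfEquivOfLe inf_le_right).toEquiv]
        exact Subgroup.card_dvd_of_le inf_le_left)
    refine (Subgroup.card_dvd_of_le ?_).trans h2
    rw [closure_le]
    have key : ∀ c : normalizer (S : Set G), (c : G) * y * (c : G)⁻¹ ∈ C →
        S.normalizerMonoidHom c * S.normalizerMonoidHom ⟨y, hy⟩ * (S.normalizerMonoidHom c)⁻¹ ∈
          (C.subgroupOf (normalizer (S : Set G))).map S.normalizerMonoidHom := by
      intro c hc
      refine ⟨c * ⟨y, hy⟩ * c⁻¹, mem_subgroupOf.2 hc, ?_⟩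
      rw [map_mul, map_mul, map_inv]
    rintro _ (rfl | rfl)
    · exact key a (_root_.Subgroup.subset_closure (by simp only [_root_.Set.mem_insert_iff, _root_.Set.mem_singleton_iff, _root_.true_or]))
    · exact key b (_root_.Subgroup.subset_closure (by simp only [_root_.Set.mem_insert_iff, _root_.Set.mem_singleton_iff, _root_.or_true]))

/-- the abelian case (after helper470's `of_solvable`) -/
theorem step_abelian {x : G} (hx : Pairs π x) {p : ℕ} (hp : p.Prime) (hpπ : p ∉ π) {V : Subgroup G} [hVn : V.Normal]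
    (hV1 : V ≠ ⊥) (hVN : V ≤ normalClosure ({x} : Set G)) (hVp : IsPGroup p V)
    (hbar : IsPiSubgroup π ((normalClosure ({x} : Set G)).map (QuotientGroup.mk' V))) : False := by
  have hpf : Fact p.Prime := ⟨hp⟩
  set N := normalClosure ({x} : Set G) with hN
  have hNn : N.Normal := normalClosure_normal
  have hxN : x ∈ N := subset_normalClosure rfl
  have hcV : Nat.card (V.subgroupOf N) = Nat.card V := Nat.card_congr (subgroupOfEquivOfLe hVN).toEquiv
  have hidx : (V.subgroupOf N).index = Nat.card (N.map (QuotientGroup.mk' V)) := by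
    have h1 : ((QuotientGroup.mk' V).subgroupMap N).ker = V.subgroupOf N := by
      ext y
      rw [MonoidHom.mem_ker, mem_subgroupOf, ← QuotientGroup.eq_one_iff (N := V) (y : G)]
      exact ⟨fun h => congrArg Subtype.val h, fun h => Subtype.ext h⟩
    rw [← h1, Subgroup.index_ker, MonoidHom.range_eq_top.2 ((QuotientGroup.mk' V).subgroupMap_surjective N),
      Subgroup.card_top]
  have hpd : ∀ S : Subgroup G, IsPiSubgroup π S → ¬ p ∣ Nat.card S := fun S hS hd => hpπ (hS p hp hd)
  have hcomm : ∀ v ∈ V, x * v = v * x := by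
    intro v hv
    have h1 : x * (v * x⁻¹ * v⁻¹) ∈ _root_.Subgroup.closure ({1 * x * 1⁻¹, v * x * v⁻¹} : Set G) := by
      refine mul_mem (_root_.Subgroup.subset_closure (by simp)) ?_
      have h2 := inv_mem (_root_.Subgroup.subset_closure (show v * x * v⁻¹ ∈ ({1 * x * 1⁻¹, v * x * v⁻¹} : Set G) by simp only [_root_.one_mul, _root_.inv_one, _root_.mul_one, _root_.Set.mem_insert_iff, _root_.Set.mem_singleton_iff, _root_.or_true]))
      convert h2 using 1
      group
    have h2 : x * (v * x⁻¹ * v⁻¹) ∈ V := by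
      have h3 := mul_mem (hVn.conj_mem v hv x) (inv_mem hv)
      convert h3 using 1
      group
    have h3 : orderOf (x * (v * x⁻¹ * v⁻¹)) ∣ Nat.card ↥(_root_.Subgroup.closure ({1 * x * 1⁻¹, v * x * v⁻¹} : Set G)) :=
      Subgroup.orderOf_dvd_natCard _ h1
    have h4 : orderOf (x * (v * x⁻¹ * v⁻¹)) = 1 := by
      obtain ⟨k, hk⟩ := (hVp ⟨_, h2⟩)
      have h5 : (x * (v * x⁻¹ * v⁻¹)) ^ p ^ k = 1 := congrArg Subtype.val hk
      refine Nat.eq_one_of_dvd_coprimes (Nat.Coprime.pow_left k ((Nat.Prime.coprime_iff_not_dvd hp).2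
        (hpd _ (hx 1 v)))) (orderOf_dvd_of_pow_eq_one h5) h3
    rw [orderOf_eq_one_iff] at h4
    calc x * v = (x * (v * x⁻¹ * v⁻¹)) * (v * x) := by group
      _ = v * x := by rw [h4, one_mul]
  have hcen : N ≤ centralizer (V : Set G) := by
    have : (centralizer (V : Set G)).Normal := inferInstance
    refine normalClosure_le_normal ?_
    rw [Set.singleton_subset_iff]
    exact mem_centralizer_iff.2 fun v hv => (hcomm v hv).symm
  have hcop : Nat.Coprime (Nat.card (V.subgroupOf N)) (V.subgroupOf N).index := by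
    rw [hidx, hcV]
    obtain ⟨k, hk⟩ := IsPGroup.iff_card.1 hVp
    rw [hk]
    exact Nat.Coprime.pow_left k ((Nat.Prime.coprime_iff_not_dvd hp).2 fun hd => hpπ (hbar p hp hd))
  obtain ⟨H, hH⟩ := Subgroup.exists_right_complement'_of_coprime hcop
  have hkey : ∀ y : N, (∃ g : G, (y : G) = g * x * g⁻¹) → y ∈ H := by
    rintro y ⟨g, hg⟩
    obtain ⟨⟨v, h⟩, hvh⟩ := hH.2 y
    have hvh' : (v : N) * h = y := hvh
    have hc : Commute (v : N) (h : N) := by
      apply Subtype.ext
      exact (mem_centralizer_iff.1 (hcen (h : N).2) _ (mem_subgroupOf.1 v.2))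
    have h1 : (h : N) ^ Nat.card H = 1 := by
      have := pow_card_eq_one' (x := h)
      exact congrArg Subtype.val this
    have h2 : (v : N) ^ (Nat.card H * orderOf y) = 1 := by
      have h3 : y ^ (Nat.card H * orderOf y) = 1 := by rw [mul_comm, pow_mul, pow_orderOf_eq_one, one_pow]
      rw [← hvh', hc.mul_pow, pow_mul (h : N), h1, one_pow, mul_one] at h3
      rwa [hvh'] at h3
    have h3 : ¬ p ∣ Nat.card H * orderOf y := by
      intro hd
      rcases (hp.dvd_mul).1 hd with h4 | h4
      · rw [← hH.symm.index_eq_card, hidx] at h4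
        exact hpπ (hbar p hp h4)
      · refine hpd _ (hx g g) (h4.trans ?_)
        rw [← Subgroup.orderOf_coe, hg]
        exact Subgroup.orderOf_dvd_natCard _ (_root_.Subgroup.subset_closure (by simp))
    obtain ⟨k, hk⟩ := hVp ⟨((v : N) : G), mem_subgroupOf.1 v.2⟩
    have h4 : (v : N) ^ p ^ k = 1 := Subtype.ext (congrArg (Subtype.val : V → G) hk)
    have h5 : orderOf (v : N) = 1 := Nat.eq_one_of_dvd_coprimes (Nat.Coprime.pow_left k
      ((Nat.Prime.coprime_iff_not_dvd hp).2 h3)) (orderOf_dvd_of_pow_eq_one h4) (orderOf_dvd_of_pow_eq_one h2)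
    rw [orderOf_eq_one_iff] at h5
    rw [← hvh', h5, one_mul]
    exact h.2
  have hNH : N ≤ H.map N.subtype := by
    show _root_.Subgroup.closure (Group.conjugatesOfSet ({x} : Set G)) ≤ _
    rw [closure_le]
    intro y hy
    obtain ⟨a, ha, hay⟩ := Group.mem_conjugatesOfSet_iff.1 hy
    rw [Set.mem_singleton_iff] at ha
    rw [ha] at hay
    obtain ⟨g, hg⟩ := isConj_iff.1 hay
    exact ⟨⟨y, Subgroup.conjugatesOfSet_subset_normalClosure hy⟩, hkey _ ⟨g, hg.symm⟩, rfl⟩
  apply hV1
  rw [eq_bot_iff]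
  intro v hv
  obtain ⟨h, hh, e⟩ := hNH (hVN hv)
  have h1 : h ∈ V.subgroupOf N ⊓ H := ⟨mem_subgroupOf.2 (by rw [← e] at hv; exact hv), hh⟩
  rw [hH.disjoint.eq_bot, mem_bot] at h1
  rw [mem_bot, ← e, h1]
  rfl

/-- if `V` is a normal π-subgroup and the image of `x` in `G/V` lies in a normal π-subgroup then so does `x` -/
theorem step_pi {x : G} {V : Subgroup G} [hVn : V.Normal] (hV : IsPiSubgroup π V)
    (hVN : V ≤ normalClosure ({x} : Set G))
    (hbar : IsPiSubgroup π ((normalClosure ({x} : Set G)).map (QuotientGroup.mk' V))) :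
    IsPiSubgroup π (normalClosure ({x} : Set G)) := by
  set N := normalClosure ({x} : Set G) with hN
  have hcV : Nat.card (V.subgroupOf N) = Nat.card V := Nat.card_congr (subgroupOfEquivOfLe hVN).toEquiv
  have hidx : (V.subgroupOf N).index = Nat.card (N.map (QuotientGroup.mk' V)) := by
    have h1 : ((QuotientGroup.mk' V).subgroupMap N).ker = V.subgroupOf N := by
      ext y
      rw [MonoidHom.mem_ker, mem_subgroupOf, ← QuotientGroup.eq_one_iff (N := V) (y : G)]
      exact ⟨fun h => congrArg Subtype.val h, fun h => Subtype.ext h⟩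
    rw [← h1, Subgroup.index_ker, MonoidHom.range_eq_top.2 ((QuotientGroup.mk' V).subgroupMap_surjective N),
      Subgroup.card_top]
  have hcN : Nat.card N = Nat.card V * Nat.card (N.map (QuotientGroup.mk' V)) := by
    rw [← hidx, ← hcV, Subgroup.card_mul_index]
  intro q hq hd
  rw [hcN] at hd
  rcases (hq.dvd_mul).1 hd with h1 | h1
  · exact hV q hq h1
  · exact hbar q hq h1

/-- a power of `x` of prime order modulo a subgroup -/
theorem exists_pow_prime {x : G} {C : Subgroup G} (hx : x ∉ C) :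
    ∃ (k l : ℕ), l.Prime ∧ x ^ k ∉ C ∧ (x ^ k) ^ l ∈ C := by
  classical
  have h0 : ∃ n : ℕ, 0 < n ∧ x ^ n ∈ C := ⟨orderOf x, orderOf_pos x, by rw [pow_orderOf_eq_one]; exact one_mem C⟩
  set n := Nat.find h0 with hn
  have hn0 := (Nat.find_spec h0).1
  have hnC := (Nat.find_spec h0).2
  have hn1 : n ≠ 1 := by
    intro h1
    rw [← hn, h1, pow_one] at hnC
    exact hx hnC
  obtain ⟨l, hl, k, hk⟩ := Nat.exists_prime_and_dvd hn1
  refine ⟨k, l, hl, fun hC => ?_, ?_⟩
  · have hk0 : 0 < k := by
      rcases Nat.eq_zero_or_pos k with h | h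
      · rw [h, mul_zero] at hk
        omega
      · exact h
    have h2 : n ≤ k := Nat.find_min' h0 ⟨hk0, hC⟩
    have := hl.two_le
    nlinarith only [hk, hk0, h2, this]
  · rw [← pow_mul, mul_comm, ← hk]
    exact hnC

/-- `y` normalises every simple factor of a minimal normal subgroup that is not a π-group -/
theorem norm_factor {N : Subgroup G} [N.Normal] (hI : sSupIndep (minSet N)) {y : G} (hy : Pairs π y)
    {T : Subgroup G} (hT : T ∈ minSet N) (hTp : ¬ IsPiSubgroup π T) : T.map (MulAut.conj y).toMonoidHom = T := by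
  by_contra hne
  simp only [IsPiSubgroup, not_forall] at hTp
  obtain ⟨t, ht, htd, htp⟩ := hTp
  have htf : Fact t.Prime := ⟨ht⟩
  obtain ⟨g, hg⟩ := exists_prime_orderOf_dvd_card' t htd
  have hT' := map_conj_mem_minSet hT y
  have hcom : ∀ a ∈ T.map (MulAut.conj y).toMonoidHom, ∀ b ∈ T, Commute a b := fun a ha b hb =>
    commute_of_mem hI (fun _ hS => hS.2.2.1) (fun _ hS => hS.1) hT' hT hne ha hb
  have ha : y * g * y⁻¹ ∈ T.map (MulAut.conj y).toMonoidHom := ⟨g, g.2, rfl⟩
  have hc := hcom _ ha (g : G)⁻¹ (inv_mem g.2)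
  -- the element `y g y⁻¹ g⁻¹`
  have hdis : Disjoint (T.map (MulAut.conj y).toMonoidHom) T := by
    have h1 := hI hT'
    have h2 : T ≤ sSup (minSet N \ {T.map (MulAut.conj y).toMonoidHom}) :=
      le_sSup (Set.mem_sdiff_singleton.2 ⟨hT, fun h => hne h.symm⟩)
    exact h1.mono_right h2
  have hgt : (g : G) ^ t = 1 := by
    have := congrArg (Subtype.val : T → G) (hg ▸ pow_orderOf_eq_one g)
    simpa only [_root_.SubmonoidClass.coe_pow, _root_.OneMemClass.coe_one] using this
  have hw : (y * g * y⁻¹ * (g : G)⁻¹) ^ t = 1 := by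
    rw [hc.mul_pow, conj_pow, inv_pow, hgt]
    group
  have hw1 : y * g * y⁻¹ * (g : G)⁻¹ ≠ 1 := by
    intro h1
    have h2 : y * g * y⁻¹ = g := mul_inv_eq_one.1 h1
    have h3 : (g : G) ∈ (T.map (MulAut.conj y).toMonoidHom) ⊓ T := ⟨h2 ▸ ha, g.2⟩
    rw [hdis.eq_bot, mem_bot] at h3
    have h4 : g = 1 := Subtype.ext h3
    rw [h4, orderOf_one] at hg
    exact ht.one_lt.ne hg
  have hord : orderOf (y * g * y⁻¹ * (g : G)⁻¹) = t := orderOf_eq_prime hw hw1
  have hmem : y * g * y⁻¹ * (g : G)⁻¹ ∈ _root_.Subgroup.closure ({1 * y * 1⁻¹, (g : G) * y * (g : G)⁻¹} : Set G) := by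
    have h2 := inv_mem (_root_.Subgroup.subset_closure (show (g : G) * y * (g : G)⁻¹ ∈
      ({1 * y * 1⁻¹, (g : G) * y * (g : G)⁻¹} : Set G) by simp only [_root_.one_mul, _root_.inv_one, _root_.mul_one, _root_.Set.mem_insert_iff, _root_.Set.mem_singleton_iff, _root_.or_true]))
    have h3 := mul_mem (_root_.Subgroup.subset_closure (show 1 * y * 1⁻¹ ∈
      ({1 * y * 1⁻¹, (g : G) * y * (g : G)⁻¹} : Set G) by simp)) h2
    convert h3 using 1
    group
  have h5 := Subgroup.orderOf_dvd_natCard _ hmem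
  rw [hord] at h5
  exact htp (hy 1 g t ht h5)

/-- **The reduction.** -/
theorem reduce {π : Set ℕ} (rows : ∀ (S : Type u) [Group S] [Finite S] [IsSimpleGroup S], ¬ IsMulCommutative S → Row π S)
    (G : Type u) [Group G] [Finite G] (hD : DPi π G) (x : G) (hx : Pairs π x) :
    IsPiSubgroup π (normalClosure ({x} : Set G)) := by
  induction hn : Nat.card G using Nat.strong_induction_on generalizing G with
  | _ n ih =>
  subst hn
  set L := normalClosure ({x} : Set G) with hL
  have hLn : L.Normal := normalClosure_normal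
  have hxL : x ∈ L := subset_normalClosure rfl
  by_cases hL1 : L = ⊥
  · intro p hp hd
    rw [hL1, card_bot] at hd
    exact absurd (Nat.dvd_one.1 hd) hp.one_lt.ne'
  -- a minimal normal subgroup in `L`
  have hfin : {M : Subgroup G | M.Normal ∧ M ≠ ⊥ ∧ M ≤ L}.Finite := Set.toFinite _
  obtain ⟨V, ⟨hVn, hV0, hVL⟩, hVmin⟩ := hfin.exists_minimal ⟨L, hLn, hL1, le_rfl⟩
  have hmin : ∀ M : Subgroup G, M.Normal → M ≤ V → M = ⊥ ∨ M = V := by
    intro M hM hMV
    by_cases hM0 : M = ⊥
    · exact Or.inl hM0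
    · exact Or.inr (le_antisymm hMV (hVmin ⟨hM, hM0, hMV.trans hVL⟩ hMV))
  -- the quotient
  have hcard : Nat.card (G ⧸ V) < Nat.card G := by
    have h3 := Subgroup.card_eq_card_quotient_mul_card_subgroup V
    have h4 : 1 < Nat.card V := (Subgroup.one_lt_card_iff_ne_bot V).mpr hV0
    have h5 : 0 < Nat.card (G ⧸ V) := Nat.card_pos
    nlinarith
  have hf := QuotientGroup.mk'_surjective V
  have hNC : normalClosure ({QuotientGroup.mk' V x} : Set (G ⧸ V)) = L.map (QuotientGroup.mk' V) := by
    rw [hL, Subgroup.map_normalClosure _ _ hf, Set.image_singleton]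
  have hbar : IsPiSubgroup π (L.map (QuotientGroup.mk' V)) := by
    rw [← hNC]
    exact ih _ hcard (G ⧸ V) (DPi_quotient hD V) _ (hx.map hf) rfl
  by_cases hVpi : IsPiSubgroup π V
  · exact step_pi hVpi hVL hbar
  exfalso
  by_cases hab : ∀ x ∈ V, ∀ y ∈ V, Commute x y
  · obtain ⟨p, hp, hpV, -⟩ := abelian_structure V hV0 hmin hab
    refine step_abelian hx hp ?_ hV0 hVL hpV hbar
    intro hpπ
    apply hVpi
    intro q hq hd
    have : Fact p.Prime := ⟨hp⟩
    obtain ⟨k, hk⟩ := IsPGroup.iff_card.1 hpV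
    rw [hk] at hd
    rwa [(Nat.prime_dvd_prime_iff_eq hq hp).1 (hq.dvd_of_dvd_pow hd)]
  obtain ⟨hne, hI, hsup, hsimp, hcent, hconj⟩ := nonabelian_structure V hmin hab
  -- no factor is a π-group
  have hfac : ∀ T ∈ minSet V, ¬ IsPiSubgroup π T := by
    intro T hT hTpi
    apply hVpi
    have hfinS : Finite (minSet V) := Set.toFinite (minSet V) |>.to_subtype
    cases nonempty_fintype (minSet V)
    have h1 := card_iSup (minSet_comm hI) (minSet_indep hI)
    rw [minSet_iSup hsup, finprod_eq_prod_of_fintype] at h1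
    intro p hp hd
    rw [h1] at hd
    obtain ⟨i, -, hi⟩ := (Prime.dvd_finsetProd_iff hp.prime _).1 hd
    obtain ⟨g, hg⟩ := hconj T hT i i.2
    rw [hg, Subgroup.card_map_of_injective (f := (MulAut.conj g).toMonoidHom) (MulAut.conj g).injective] at hi
    exact hTpi p hp hi
  -- `x` does not centralise `V`
  set C := centralizer (V : Set G) with hC
  have hxC : x ∉ C := by
    intro hxC
    have hLC : L ≤ C := by
      have : C.Normal := by rw [hC]; infer_instance
      refine normalClosure_le_normal ?_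
      rwa [Set.singleton_subset_iff]
    apply hab
    intro a ha b hb
    exact (mem_centralizer_iff.1 (hLC (hVL hb)) a ha)
  obtain ⟨k, l, hl, hk1, hk2⟩ := exists_pow_prime hxC
  set y := x ^ k with hy
  have hpy : Pairs π y := hx.pow k
  -- a factor on which `y` acts nontrivially
  obtain ⟨S, hS, hyS⟩ : ∃ S ∈ minSet V, ¬ ∀ s ∈ S, y * s = s * y := by
    by_contra hcon
    push Not at hcon
    apply hk1
    rw [hC, mem_centralizer_iff]
    have h1 : V ≤ centralizer {y} := by
      rw [← hsup]
      refine sSup_le fun T hT t ht => ?_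
      rw [mem_centralizer_singleton_iff]
      exact (hcon T hT t ht).symm
    intro v hv
    have h2 := h1 hv
    rw [mem_centralizer_singleton_iff] at h2
    exact h2
  have hyn : y ∈ normalizer (S : Set G) := by
    have h1 := norm_factor hI hpy hS (hfac S hS)
    rw [mem_normalizer_iff]
    intro s
    constructor
    · intro hs
      rw [← h1]
      exact ⟨s, hs, rfl⟩
    · intro hs
      rw [← h1] at hs
      obtain ⟨s', hs', e⟩ := hs
      have : s' = s := by
        have e' : y * s' * y⁻¹ = y * s * y⁻¹ := e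
        simpa only [_root_.mul_left_inj, _root_.mul_right_inj] using e'
      rwa [← this]
  have hSV : S ≤ V := hS.1
  have hord : orderOf (S.normalizerMonoidHom ⟨y, hyn⟩) = l := by
    have : Fact l.Prime := ⟨hl⟩
    refine orderOf_eq_prime ?_ ?_
    · rw [← map_pow]
      ext s
      rw [norm_apply]
      show y ^ l * s * (y ^ l)⁻¹ = s
      have h1 := mem_centralizer_iff.1 hk2 s (hSV s.2)
      rw [← h1]
      group
    · intro h1
      apply hyS
      intro s hs
      have h2 : y * s * y⁻¹ = s := by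
        have := congrArg (Subtype.val : S → G) (DFunLike.congr_fun h1 (⟨s, hs⟩ : S))
        exact this
      calc y * s = (y * s * y⁻¹) * y := by group
        _ = s * y := by rw [h2]
  obtain ⟨M0, hM0⟩ := hD
  have hyp := hyp_of_factor hI hsup hconj hM0 hS hyn hpy hl hord
  have hSs : IsSimpleGroup S := hsimp S hS
  have hSna : ¬ IsMulCommutative S := by
    intro hc
    obtain ⟨z, hz⟩ := exists_ne (1 : S)
    apply hz
    refine Subtype.ext (hcent S hS z z.2 fun t ht => ?_)
    exact congrArg Subtype.val (hc.is_comm.comm z ⟨t, ht⟩)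
  exact hfac S hS (rows S hSna _ _ _ hyp)

end Cfsg.Agent.H469.PiBS
end

-- part: H836/CosetEnd
section
/-!
# S3876, groups of Lie type in characteristic `p ∉ π`

The Hall `π`-subgroup is a `p`-complement; `S3608` (subgroups of prime power index) and `S2363` (`|S| < |S|_p³`) leave
`A₅`, `PSL_d(q)` with `q` a power of a prime of `π`, and `PSL₂(11)`.
-/

set_option autoImplicit false

namespace Cfsg.Agent.H836.CosetEnd

open Cfsg Subgroup
open Cfsg.Agent.H469.PiBS

universe u

/-- the conclusion of S3608 -/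
def Idx (G : Type u) [Group G] (p k : ℕ) : Prop :=
    (5 ≤ p ^ k ∧ Nonempty (G ≃* alternatingGroup (Fin (p ^ k)))) ∨
    (∃ (d : ℕ) (F : Type) (_ : Field F) (_ : Fintype F), 2 ≤ d ∧
      Fintype.card F ^ d - 1 = p ^ k * (Fintype.card F - 1) ∧
      Nonempty (G ≃* Matrix.ProjectiveSpecialLinearGroup (Fin d) F)) ∨
    (p ^ k = 11 ∧ (Nonempty (G ≃* Matrix.ProjectiveSpecialLinearGroup (Fin 2) (ZMod 11)) ∨ Cfsg.IsM11 G)) ∨
    (p ^ k = 23 ∧ Cfsg.IsM23 G) ∨
    (p ^ k = 27 ∧ Nonempty (G ≃* Cfsg.PSp 2 (ZMod 3)))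

variable {S : Type u} [Group S] [Finite S]

/-- the Hall subgroup is a `p`-complement -/
theorem exists_compl {p : ℕ} (hp : p.Prime) {π : Set ℕ} (hpπ : p ∉ π)
    (hall : ∀ r : ℕ, r.Prime → r ∣ Nat.card S → r ≠ p → r ∈ π) {H : Subgroup S} (hH : IsPiHall π H) :
    H.index = p ^ (Nat.card S).factorization p := by
  have hi0 : H.index ≠ 0 := index_ne_zero_of_finite
  have h1 : ∀ r : ℕ, r.Prime → r ∣ H.index → r = p := by
    intro r hr hri
    by_contra hne
    exact hH.2 r hr (hall r hr (hri.trans H.index_dvd_card) hne) hri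
  have h2 : H.index = p ^ H.index.factorization p := by
    conv_lhs => rw [← Nat.prod_factorization_pow_eq_self hi0]
    rw [Finsupp.prod_of_support_subset (s := {p}) _ ?_ _ (by simp)]
    · simp
    · intro r hr
      rw [Finset.mem_singleton]
      have := Nat.support_factorization H.index ▸ hr
      exact h1 r (Nat.prime_of_mem_primeFactors this) (Nat.dvd_of_mem_primeFactors this)
  have h3 : ¬ p ∣ Nat.card H := fun h => hpπ (hH.1 p hp h)
  have h4 : (Nat.card S).factorization p = H.index.factorization p := by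
    rw [← H.card_mul_index, Nat.factorization_mul Nat.card_pos.ne' hi0, Finsupp.add_apply,
      Nat.factorization_eq_zero_of_not_dvd h3, zero_add]
  rw [h4]
  exact h2

/-- In a simple group of order 660 no subgroup of order 60 contains a subgroup of order 12 with a normal subgroup of
order 3. -/
theorem sixty_false [IsSimpleGroup S] (hc : Nat.card S = 660) {H K R : Subgroup S} (hH : Nat.card H = 60)
    (hK : Nat.card K = 12) (hR : Nat.card R = 3) (hRK : R ≤ K) (hKH : K ≤ H)
    (hn : ∀ k ∈ K, ∀ r ∈ R, k * r * k⁻¹ ∈ R) : False := by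
  classical
  have : Fact (Nat.Prime 3) := ⟨by norm_num⟩
  -- `R` as a Sylow 3-subgroup of `H`
  have hfac : (Nat.card H).factorization 3 = 1 := by
    rw [hH]
    have : (60 : ℕ) = 3 * 20 := by norm_num
    rw [this, Nat.factorization_mul (by norm_num) (by norm_num), Finsupp.add_apply,
      Nat.Prime.factorization_self (by norm_num), Nat.factorization_eq_zero_of_not_dvd (by norm_num)]
  have hRH : R ≤ H := hRK.trans hKH
  have hcR : Nat.card ↥(R.subgroupOf H) = 3 := by
    rw [Nat.card_congr (subgroupOfEquivOfLe hRH).toEquiv, hR]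
  let P : Sylow 3 H := Sylow.ofCard (R.subgroupOf H) (by rw [hcR, hfac, pow_one])
  have hP : (P : Subgroup H) = R.subgroupOf H := rfl
  have h1 : (normalizer ((R.subgroupOf H : Subgroup H) : Set H)).index % 3 = 1 := by
    have h2 := card_sylow_modEq_one 3 H
    rw [P.card_eq_index_normalizer] at h2
    exact h2
  have hKN : K.subgroupOf H ≤ normalizer ((R.subgroupOf H : Subgroup H) : Set H) := by
    intro k hk
    refine mem_normalizer_fintype fun y hy => ?_
    exact hn _ hk _ hy
  have hKc : Nat.card ↥(K.subgroupOf H) = 12 := by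
    rw [Nat.card_congr (subgroupOfEquivOfLe hKH).toEquiv, hK]
  have hKi : (K.subgroupOf H).index = 5 := by
    have := (K.subgroupOf H).card_mul_index
    rw [hKc, hH] at this
    omega
  have h3 : (normalizer ((R.subgroupOf H : Subgroup H) : Set H)).index ∣ 5 := hKi ▸ index_dvd_of_le hKN
  have h4 : (normalizer ((R.subgroupOf H : Subgroup H) : Set H)).index = 1 := by
    rcases (Nat.dvd_prime (by norm_num)).1 h3 with h | h
    · exact h
    · rw [h] at h1
      omega
  rw [index_eq_one] at h4
  -- so `H` normalises `R`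
  have hHN : H ≤ normalizer (R : Set S) := by
    intro h hh
    have h5 : (⟨h, hh⟩ : H) ∈ normalizer ((R.subgroupOf H : Subgroup H) : Set H) := h4 ▸ mem_top _
    refine mem_normalizer_fintype fun y hy => ?_
    exact (mem_normalizer_iff.1 h5 ⟨y, hRH hy⟩).1 hy
  have hfacS : (Nat.card S).factorization 3 = 1 := by
    rw [hc]
    have : (660 : ℕ) = 3 * 220 := by norm_num
    rw [this, Nat.factorization_mul (by norm_num) (by norm_num), Finsupp.add_apply,
      Nat.Prime.factorization_self (by norm_num), Nat.factorization_eq_zero_of_not_dvd (by norm_num)]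
  let Q : Sylow 3 S := Sylow.ofCard R (by rw [hR, hfacS, pow_one])
  have h6 : (normalizer (R : Set S)).index % 3 = 1 := by
    have h2 := card_sylow_modEq_one 3 S
    rw [Q.card_eq_index_normalizer] at h2
    exact h2
  have hHi : H.index = 11 := by
    have := H.card_mul_index
    rw [hH, hc] at this
    omega
  have h7 : (normalizer (R : Set S)).index ∣ 11 := hHi ▸ index_dvd_of_le hHN
  have h8 : (normalizer (R : Set S)).index = 1 := by
    rcases (Nat.dvd_prime (by norm_num)).1 h7 with h | h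
    · exact h
    · rw [h] at h6
      omega
  rw [index_eq_one, normalizer_eq_top_iff] at h8
  rcases IsSimpleGroup.eq_bot_or_eq_top_of_normal R h8 with h | h
  · rw [h, card_bot] at hR
    omega
  · rw [h, card_top, hc] at hR
    omega

/-- **The row of a group of Lie type in characteristic `p ∉ π`.** -/
theorem row_of {p : ℕ} (hp : p.Prime) (hG : IsLieTypeChar p S) {π : Set ℕ} (h2 : 2 ∈ π) (hpπ : p ∉ π)
    (h3608 : ∀ (H : Subgroup S) (p k : ℕ), p.Prime → 1 ≤ k → H.index = p ^ k → Idx S p k)
    (hAlt : Nonempty (S ≃* alternatingGroup (Fin 5)) → Row π S)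
    (hIn : ∀ r : ℕ, r.Prime → r ∈ π → IsPSLChar r S → Row π S)
    (h11 : Nonempty (S ≃* Matrix.ProjectiveSpecialLinearGroup (Fin 2) (ZMod 11)) →
      ∃ K R : Subgroup S, Nat.card K = 12 ∧ Nat.card R = 3 ∧ R ≤ K ∧ ∀ k ∈ K, ∀ r ∈ R, k * r * k⁻¹ ∈ R) :
    Row π S := by
  have : Fact p.Prime := ⟨hp⟩
  have hs : IsSimpleGroup S := H400.LieSimple.isSimple_of_lie hG
  intro A x l h
  have hx1 : x ≠ 1 := h.ne_one
  have hxp : ¬ p ∣ orderOf x := by
    rw [h.ord]
    intro h1
    rw [(Nat.prime_dvd_prime_iff_eq hp h.prime).1 h1] at hpπ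
    exact hpπ h.lpi
  have hX : ∀ g ∈ A, IsPiSubgroup π (_root_.Subgroup.closure ({x, g * x * g⁻¹} : Set (MulAut S))) := by
    intro g hg
    have h1 := h.pairs 1 (one_mem A) g hg
    rwa [one_mul, inv_one, mul_one] at h1
  have hA : (MulAut.conj (G := S)).range ≤ A := by
    rintro _ ⟨s, rfl⟩
    exact h.inn s
  have hall : ∀ r : ℕ, r.Prime → r ∣ Nat.card S → r ≠ p → r ∈ π := fun r hr hrS hrp =>
    CosetPi.prime_mem hG hpπ hA h.mem hx1 hxp hX hr hrS hrp
  have hpS : p ∣ Nat.card S := H330.Gow.dvd_card (H330.Gow.hasSplit_of_ab (H716.SplitAb.hasSplitAb_of_lie hp hG))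
  obtain ⟨H, hH, -⟩ := h.dom ⊥ (by
    intro r hr hd
    rw [card_bot] at hd
    exact absurd (Nat.dvd_one.1 hd) hr.one_lt.ne')
  obtain ⟨k, hk⟩ : ∃ k, k = (Nat.card S).factorization p := ⟨_, rfl⟩
  have hk1 : 1 ≤ k := hk ▸ hp.factorization_pos_of_dvd Nat.card_pos.ne' hpS
  have hidx := exists_compl hp hpπ hall hH
  rw [← hk] at hidx
  have hcube := (Cfsg.Agent.S2363.result p hp hG).1
  rw [← hk, mul_comm, pow_mul] at hcube
  have hpodd : p ≠ 2 := fun h1 => hpπ (h1 ▸ h2)
  rcases h3608 H p k hp hk1 hidx with ⟨h5, ⟨e⟩⟩ | ⟨d, F, iF, iFt, hd, hF, ⟨e⟩⟩ | ⟨h1, h3⟩ | ⟨h1, h3⟩ | ⟨h1, ⟨e⟩⟩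
  · -- alternating
    have hcA : 2 * Nat.card S = (p ^ k).factorial := by
      have : Nontrivial (Fin (p ^ k)) := Fin.nontrivial_iff_two_le.2 (by omega)
      rw [Nat.card_congr e.toEquiv, two_mul_nat_card_alternatingGroup, Nat.card_perm, Nat.card_eq_fintype_card,
        Fintype.card_fin]
    have h7 : p ^ k < 6 := by
      by_contra hge
      push Not at hge
      have h6 : ∀ n : ℕ, 6 ≤ n → 2 * n ^ 3 ≤ n.factorial := by
        intro n hn
        induction n, hn using Nat.le_induction with
        | base => decide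
        | succ n hn ih =>
          rw [Nat.factorial_succ]
          have h9 : 2 * (n + 1) ^ 3 ≤ (n + 1) * (2 * n ^ 3) := by
            have h10 : (n + 1) ^ 2 ≤ n ^ 3 := by nlinarith only [hn, Nat.pow_le_pow_left hn 2]
            calc 2 * (n + 1) ^ 3 = (n + 1) * (2 * (n + 1) ^ 2) := by ring
              _ ≤ (n + 1) * (2 * n ^ 3) := by gcongr
          exact h9.trans (Nat.mul_le_mul_left _ ih)
      have := h6 _ hge
      omega
    have h8 : p ^ k = 5 := by omega
    rw [h8] at e
    exact hAlt ⟨e⟩ A x l h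
  · -- linear groups
    obtain ⟨r, hr⟩ := CharP.exists F
    have hrp : r.Prime := CharP.char_is_prime F r
    obtain ⟨n, -, hn⟩ := FiniteField.card F r
    have hrF : r ∣ Fintype.card F := by
      rw [hn]
      exact dvd_pow_self r n.ne_zero
    have hcF : 2 ≤ Fintype.card F := Fintype.one_lt_card
    have hrne : r ≠ p := by
      rintro rfl
      have h3 : r ∣ Fintype.card F ^ d := dvd_pow hrF (by omega)
      have h4 : r ∣ Fintype.card F ^ d - 1 := by
        rw [hF]
        exact Dvd.dvd.mul_right (dvd_pow_self r (by omega)) _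
      have h5 : r ∣ 1 := by
        have h6 : 1 ≤ Fintype.card F ^ d := Nat.one_le_pow _ _ (by omega)
        have h7 := Nat.dvd_sub h3 h4
        rwa [Nat.sub_sub_self h6] at h7
      exact hrp.one_lt.ne' (Nat.dvd_one.1 h5)
    have h4 : d = 2 → 4 ≤ Fintype.card F := by
      rintro rfl
      by_contra hlt
      push Not at hlt
      have h5 : Fintype.card F + 1 = p ^ k := by
        have h6 : Fintype.card F ^ 2 - 1 = (Fintype.card F + 1) * (Fintype.card F - 1) := by
          have := Nat.sq_sub_sq (Fintype.card F) 1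
          rwa [one_pow] at this
        rw [h6] at hF
        exact Nat.eq_of_mul_eq_mul_right (by omega) hF
      rcases (by omega : Fintype.card F = 2 ∨ Fintype.card F = 3) with h6 | h6
      · rw [h6] at h5
        have h7 : Nat.card S = 6 := by
          rw [Nat.card_congr e.toEquiv, SmallSimple.PSLTwoPart.card_psl_two_even (by rw [h6]; decide), h6]
          norm_num
        obtain ⟨P⟩ : Nonempty (Sylow p S) := inferInstance
        have h8 : Nat.card (P : Subgroup S) = 3 := by
          rw [P.card_eq_multiplicity, ← hk, ← h5]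
        have h9 : (P : Subgroup S).index = 2 := by
          have := (P : Subgroup S).card_mul_index
          rw [h8, h7] at this
          omega
        rcases IsSimpleGroup.eq_bot_or_eq_top_of_normal (P : Subgroup S) (normal_of_index_eq_two h9) with h10 | h10
        · rw [h10, card_bot] at h8
          omega
        · rw [h10, index_top] at h9
          omega
      · rw [h6] at h5
        have h7 : p ∣ 2 ^ 2 := by
          rw [show (2 : ℕ) ^ 2 = 3 + 1 by norm_num, h5]
          exact dvd_pow_self p (by omega)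
        exact hpodd ((Nat.prime_dvd_prime_iff_eq hp Nat.prime_two).1 (hp.dvd_of_dvd_pow h7))
    have hPSL : IsPSLChar r S := ⟨F, iF, iFt, hr, d, hd, h4, ⟨e⟩⟩
    have hrS : r ∣ Nat.card S := by
      have : Fact r.Prime := ⟨hrp⟩
      exact H330.Gow.dvd_card (H330.Gow.hasSplit_of_ab (H716.SplitAb.hasSplitAb_of_lie hrp (Or.inl hPSL)))
    exact hIn r hrp (hall r hrp hrS hrne) hPSL A x l h
  · rcases h3 with ⟨⟨e⟩⟩ | hM
    · exfalso
      obtain ⟨K, R, hK, hR, hRK, hn⟩ := h11 ⟨e⟩
      have hc : Nat.card S = 660 := by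
        have := SmallSimple.PSLTwoPart.card_psl_two_odd (F := ZMod 11) (by decide)
        rw [Nat.card_congr e.toEquiv]
        simp only [ZMod.card] at this
        omega
      have hp11 : p = 11 := by
        have : p ∣ 11 := h1 ▸ dvd_pow_self p (by omega)
        exact (Nat.prime_dvd_prime_iff_eq hp (by norm_num)).1 this
      obtain ⟨H', hH', hKH'⟩ := h.dom K (by
        intro r hr hd
        refine hall r hr (hd.trans (card_subgroup_dvd_card K)) ?_
        rintro rfl
        rw [hK, hp11] at hd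
        omega)
      have hH'i := exists_compl hp hpπ hall hH'
      rw [← hk, h1] at hH'i
      have hH'c : Nat.card H' = 60 := by
        have := H'.card_mul_index
        rw [hH'i, hc] at this
        omega
      exact sixty_false hc hH'c hK hR hRK hKH' hn
    · exfalso
      rw [hM.2, h1] at hcube
      norm_num at hcube
  · exfalso
    rw [h3.2, h1] at hcube
    norm_num at hcube
  · exfalso
    have hp3 : p = 3 := by
      have : p ∣ 3 ^ 3 := by
        rw [show (3 : ℕ) ^ 3 = 27 by norm_num, ← h1]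
        exact dvd_pow_self p (by omega)
      exact (Nat.prime_dvd_prime_iff_eq hp (by norm_num)).1 (hp.dvd_of_dvd_pow this)
    have hc : Nat.card S = 25920 := by
      rw [Nat.card_congr e.toEquiv]
      exact SmallSimple.PSLFacts.card_psp_two_three (F := ZMod 3) (ZMod.card 3)
    have h3 : 3 ^ 4 ∣ p ^ k * 1 := by
      have h4 : 3 ^ 4 ∣ Nat.card S := by rw [hc]; norm_num
      have h5 := (hp.pow_dvd_iff_le_factorization (k := 4) Nat.card_pos.ne').1 (hp3 ▸ h4 : p ^ 4 ∣ Nat.card S)
      rw [mul_one, hk, hp3]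
      exact pow_dvd_pow 3 (hp3 ▸ h5)
    rw [mul_one, h1] at h3
    norm_num at h3

end Cfsg.Agent.H836.CosetEnd
end

-- part: H836/PslEleven
section
/-!
# A subgroup of order 12 of `PSL₂(11)` with a normal subgroup of order 3
-/

set_option autoImplicit false

namespace Cfsg.Agent.H836.PslEleven

open Subgroup

theorem exists_dih {S : Type*} [Group S] (h : Nonempty (S ≃* Matrix.ProjectiveSpecialLinearGroup (Fin 2) (ZMod 11))) :
    ∃ K R : Subgroup S, Nat.card K = 12 ∧ Nat.card R = 3 ∧ R ≤ K ∧ ∀ k ∈ K, ∀ r ∈ R, k * r * k⁻¹ ∈ R := by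
  obtain ⟨e⟩ := h
  have : Fact (Nat.Prime 11) := ⟨by norm_num⟩
  obtain ⟨H, -, ⟨f⟩⟩ := Cfsg.Agent.S0811.result (F := ZMod 11) (q := 11) (ZMod.card 11) (by decide)
  have h6 : (11 + 1) / Nat.gcd 2 (11 - 1) = 6 := by decide
  rw [h6] at f
  let j : DihedralGroup 6 →* S := (e.symm.toMonoidHom.comp H.subtype).comp f.symm.toMonoidHom
  have hj : Function.Injective j := (e.symm.injective.comp H.subtype_injective).comp f.symm.injective
  refine ⟨j.range, (zpowers (DihedralGroup.r 2 : DihedralGroup 6)).map j, ?_, ?_, ?_, ?_⟩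
  · rw [← Nat.card_congr (MonoidHom.ofInjective hj).toEquiv, DihedralGroup.nat_card]
  · rw [card_map_of_injective hj, Nat.card_zpowers]
    exact (orderOf_eq_prime (p := 3) (by decide) (by decide))
  · rintro _ ⟨y, -, rfl⟩
    exact ⟨y, rfl⟩
  · rintro _ ⟨y, rfl⟩ _ ⟨z, hz, rfl⟩
    refine ⟨y * z * y⁻¹, ?_, by simp only [_root_.map_mul, _root_.map_inv]⟩
    obtain ⟨i, rfl⟩ := mem_zpowers_iff.1 hz
    rw [← conj_zpow]
    refine zpow_mem ?_ i
    have h1 : ∀ y : DihedralGroup 6, y * DihedralGroup.r 2 * y⁻¹ = DihedralGroup.r 2 ∨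
        y * DihedralGroup.r 2 * y⁻¹ = (DihedralGroup.r 2)⁻¹ := by decide
    rcases h1 y with h | h
    · rw [h]
      exact mem_zpowers _
    · rw [h]
      exact inv_mem (mem_zpowers _)

end Cfsg.Agent.H836.PslEleven
end

-- part: H465/PiBSAlt
section
/-!
# S3876 (π-Baer–Suzuki in `D_π`-groups): the alternating groups (helper465)
-/

set_option autoImplicit false

namespace Cfsg.Agent.H469.PiBS

open Cfsg Subgroup

/-- **The alternating rows.** -/
theorem row_alt {π : Set ℕ} (h2 : 2 ∈ π) {n : ℕ} (hn : 5 ≤ n) : Row π (alternatingGroup (Fin n)) := by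
  intro A x l h
  have hs : IsSimpleGroup (alternatingGroup (Fin n)) := alternatingGroup.isSimpleGroup (by simpa only [_root_.Nat.card_eq_fintype_card, _root_.Fintype.card_fin] using hn)
  have hZ := Cfsg.Agent.H171.AltGoal.center_alt hn
  -- `A_n` is a `D_π`-group
  have hC : IsCPiGroup π (alternatingGroup (Fin n)) := (Cfsg.Agent.S2535.result n π).2.2.1 h.exists_hall
  have hmax : ∀ H : Subgroup (alternatingGroup (Fin n)), Maximal (IsPiSubgroup π) H → IsPiHall π H := by
    intro H hH
    obtain ⟨K, hK, hHK⟩ := h.dom H hH.1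
    rwa [hH.eq_of_le hK.1 hHK]
  have hD : IsDPiGroup π (alternatingGroup (Fin n)) := fun H K hH hK => hC.2 H K (hmax H hH) (hmax K hK)
  rcases (Cfsg.Agent.S2534.result n hn π).1 hD with h1 | h1
  · exfalso
    have h2d : 2 ∣ Nat.card (alternatingGroup (Fin n)) := by
      have h3 := Cfsg.Agent.H171.AltGoal.two_mul_card (n := n) (by omega)
      have h4 : 2 ^ 2 ∣ n.factorial := by
        refine Dvd.dvd.trans ?_ (Nat.factorial_dvd_factorial (show 4 ≤ n by omega))
        decide
      rw [← h3, pow_two] at h4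
      exact Nat.dvd_of_mul_dvd_mul_left (by norm_num) h4
    have hna : ¬ IsMulCommutative (alternatingGroup (Fin n)) := by
      intro hc
      have h3 : (⊤ : Subgroup (alternatingGroup (Fin n))) ≤ center (alternatingGroup (Fin n)) := by
        intro a _
        rw [mem_center_iff]
        exact fun b => hc.is_comm.comm b a
      rw [hZ, top_le_iff] at h3
      exact bot_ne_top h3
    have hu : ∀ p : ℕ, p.Prime → p ∈ π → p ∣ Nat.card (MulAut (alternatingGroup (Fin n))) → p = 2 := by
      intro p hp hpi hd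
      rw [← Cfsg.Agent.H171.AltGoal.card_out_mul hZ] at hd
      rcases hp.dvd_mul.1 hd with h3 | h3
      · exact h1 p 2 hp Nat.prime_two hpi h2 h3 h2d
      · exact Cfsg.Agent.H171.AltGoal.prime_out hn hp h3
    have hl : l = 2 := hu l h.prime h.lpi (by rw [← h.ord]; exact _root_.orderOf_dvd_natCard x)
    exact h.false_of_unique hna fun p hp hpi hd => (hu p hp hpi hd).trans hl.symm
  · exact fun p hp hd => h1 p hp hd

end Cfsg.Agent.H469.PiBS
end

-- part: H469/PiBS/Main
section
/-!
# S3876: assembly from the rows (PIBS)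

The rows of the Tits group and of the sporadic groups are hypotheses.
-/

set_option autoImplicit false
set_option linter.unusedSectionVars false

namespace Cfsg.Agent.H469.PiBS

open Cfsg Subgroup Cfsg.Agent.SignalizersComponents.ComponentExists Cfsg.Agent.H470.SolvPi

universe u

/-- the rows with hypotheses for the Tits group and the sporadic groups -/
theorem row_all {π : Set ℕ} (h2 : 2 ∈ π)
    (h3608 : ∀ (S : Type u) [Group S] [Finite S], IsSimpleGroup S → ¬ IsMulCommutative S →
      ∀ (H : Subgroup S) (p k : ℕ), p.Prime → 1 ≤ k → H.index = p ^ k → H836.CosetEnd.Idx S p k)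
    (rtits : ∀ (S : Type u) [Group S] [Finite S] [IsSimpleGroup S], ¬ IsMulCommutative S →
      Lie.IsoTits S → Row π S)
    (rspor : ∀ (S : Type u) [Group S] [Finite S] [IsSimpleGroup S], ¬ IsMulCommutative S →
      IsSporadicGroup S → Row π S)
    (S : Type u) [Group S] [Finite S] [IsSimpleGroup S] (hna : ¬ IsMulCommutative S) (hK : IsKnownSimple' S) :
    Row π S := by
  have halt : ∀ n : ℕ, 5 ≤ n → Nonempty (S ≃* alternatingGroup (Fin n)) → Row π S := by
    rintro n hn ⟨e⟩
    exact (row_alt h2 hn).of_equiv e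
  have hlie : ∀ p : ℕ, p.Prime → IsLieTypeChar p S → Row π S := by
    intro p hp hG
    by_cases hpi : p ∈ π
    · exact Cfsg.Agent.H443.PC.row_char hna hp hG h2 hpi
    · refine H836.CosetEnd.row_of hp hG h2 hpi
        (fun H p k hp hk hH => h3608 S ‹IsSimpleGroup S› hna H p k hp hk hH) (halt 5 le_rfl) ?_
        H836.PslEleven.exists_dih
      intro r hr hrpi hS
      exact Cfsg.Agent.H443.PC.row_char hna hr (Or.inl hS) h2 hrpi
  rcases Cfsg.Agent.OddHalf.Known.classify hna hK with h1 | ⟨p, hp, -, h1⟩ | (h1 | h1) | h1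
  · obtain ⟨n, hn, e⟩ := h1
    exact halt n hn e
  · exact hlie p hp h1
  · exact hlie 2 Nat.prime_two h1
  · exact rtits S hna h1
  · exact rspor S hna h1

/-- **S3876 from the rows.** -/
theorem main {π : Set ℕ}
    (hK : ∀ (K : Type u) [Group K] [Finite K] [IsSimpleGroup K], IsKnownSimple' K)
    (h5 : ∀ (G : Type u) [Group G] [Finite G] (p : ℕ), p.Prime → 5 ≤ p → ∀ x : G, orderOf x = p →
      (∀ g : G, Group.IsSolvable ↥(_root_.Subgroup.closure ({x, g * x * g⁻¹} : Set G))) → x ∈ solvableRadical G)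
    (h3608 : ∀ (S : Type u) [Group S] [Finite S], IsSimpleGroup S → ¬ IsMulCommutative S →
      ∀ (H : Subgroup S) (p k : ℕ), p.Prime → 1 ≤ k → H.index = p ^ k → H836.CosetEnd.Idx S p k)
    (rtits : 2 ∈ π → ∀ (S : Type u) [Group S] [Finite S] [IsSimpleGroup S], ¬ IsMulCommutative S →
      Lie.IsoTits S → Row π S)
    (rspor : 2 ∈ π → ∀ (S : Type u) [Group S] [Finite S] [IsSimpleGroup S], ¬ IsMulCommutative S →
      IsSporadicGroup S → Row π S)
    (G : Type u) [Group G] [Finite G] (hD : IsDPiGroup π G) (x : G) (hx : Pairs π x) :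
    IsPiSubgroup π (normalClosure ({x} : Set G)) := by
  by_cases h2 : 2 ∈ π
  · refine reduce (fun S _ _ _ hna => ?_) G (Cfsg.Agent.H507.DPi.dPi_of_isDPiGroup hD) x hx
    exact row_all h2 h3608 (rtits h2) (rspor h2) S hna (hK S)
  · exact Cfsg.Agent.H470.Final.main hK h5 h2 hx

end Cfsg.Agent.H469.PiBS
end

-- part: H799/PiBS/Ru
section
/-!
# `Inv3` for the Rudvalis group (helper799, S3876)
-/

set_option autoImplicit false
set_option maxRecDepth 100000
set_option exponentiation.threshold 5000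

namespace Cfsg.Agent.H799.PiBS.Ru

open Subgroup Cfsg
open Cfsg.Agent.SporadicB Cfsg.Agent.RuD.Letters Cfsg.Agent.SporRec.TCUpperCert Cfsg.Agent.SporRec.R3.Kernel
open Cfsg.Agent.KFacts.Ru.ConjWord

universe u

/-- the product of `T` and `Y T Y⁻¹` -/
def c1 : List ℕ := [0, 5, 0, 5]

/-- the commutator of `S²` and a word -/
def c2 : List ℕ := [1, 1, 2, 3, 5, 7, 6, 6, 3, 5, 7, 2]

theorem chk : chkRel [[0, 0], [5, 5], [1, 1, 1, 1], c1 ++ (c1 ++ c1), (c2 ++ c2) ++ ((c2 ++ c2) ++ (c2 ++ c2))] = true := by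
  decide +kernel

theorem ne1 : neK c1 [] 0 = true := by decide +kernel
theorem ne2 : neK (c2 ++ c2) [] 0 = true := by decide +kernel

theorem bad_T : Bad (MulAut.conj (wprod ml [0] : RuOrder.H)) := by
  have h0 : wprod ml [0] * wprod ml [0] = (1 : RuOrder.H) := by
    rw [← wprod_append]; exact rel_of_chk chk _ (by simp)
  have hY : wprod ml [5] * wprod ml [5] = (1 : RuOrder.H) := by
    rw [← wprod_append]; exact rel_of_chk chk _ (by simp)
  have h3 : (wprod ml c1 : RuOrder.H) ^ 3 = 1 := by
    rw [pow_succ', pow_two, ← wprod_append, ← wprod_append]; exact rel_of_chk chk _ (by simp)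
  have hne : (wprod ml c1 : RuOrder.H) ≠ 1 := ne_of 0 ne1
  have e : (wprod ml c1 : RuOrder.H) = wprod ml [0] * (wprod ml [5] * wprod ml [0] * (wprod ml [5])⁻¹) := by
    rw [inv_eq_of_mul_eq_one_right hY, ← wprod_append, ← wprod_append, ← wprod_append]
    rfl
  rw [e] at h3 hne
  refine Bad.of_dihedral h0 ?_ h3 hne
  calc wprod ml [5] * wprod ml [0] * (wprod ml [5])⁻¹ * (wprod ml [5] * wprod ml [0] * (wprod ml [5])⁻¹)
      = wprod ml [5] * (wprod ml [0] * wprod ml [0]) * (wprod ml [5] : RuOrder.H)⁻¹ := by group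
    _ = 1 := by rw [h0]; group

theorem three_dvd {X : Type*} [Group X] {c : X} (h6 : c ^ 6 = 1) (h2 : c ^ 2 ≠ 1) : 3 ∣ orderOf c := by
  by_contra h
  have h1 : Nat.Coprime (orderOf c) 3 := ((Nat.Prime.coprime_iff_not_dvd Nat.prime_three).2 h).symm
  have h3 : orderOf c ∣ 2 * 3 := orderOf_dvd_of_pow_eq_one h6
  exact h2 (orderOf_dvd_iff_pow_eq_one.1 (h1.dvd_of_dvd_mul_right h3))

theorem bad_SS : Bad (MulAut.conj (wprod ml [1, 1] : RuOrder.H)) := by
  refine ⟨wprod ml [2, 3, 5, 7], ?_⟩
  have e : MulAut.conj (wprod ml [1, 1] : RuOrder.H) (wprod ml [2, 3, 5, 7]) * (wprod ml [2, 3, 5, 7])⁻¹ =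
      wprod ml c2 := by
    rw [MulAut.conj_apply, ← wprod_iw, ← wprod_iw, ← wprod_append, ← wprod_append, ← wprod_append]
    rfl
  rw [e]
  apply three_dvd
  · rw [show (6 : ℕ) = 2 * 3 by norm_num, pow_mul, pow_two, ← wprod_append, pow_succ', pow_two, ← wprod_append,
      ← wprod_append]
    exact rel_of_chk chk _ (by simp)
  · rw [pow_two, ← wprod_append]
    exact ne_of 0 ne2

theorem isoH : Spor.IsoRu RuOrder.H := ⟨RuLat.Main.equiv.symm⟩

theorem inv3_ru' : Inv3 RuOrder.H := by
  have hcard : Nat.card RuOrder.H = 145926144000 := RuOrder.card_H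
  have : Finite RuOrder.H := Nat.finite_of_card_ne_zero (by rw [hcard]; norm_num)
  have hs : IsSimpleGroup RuOrder.H := RuC.Trans.isSimple_of_isoRu isoH
  obtain ⟨C, -, -, hv, hU, -⟩ := KFacts.Ru.lets_model.exists_core
  refine Inv3.of_inner (center_bot (by rw [hcard]; norm_num)) (fun x => ?_) fun t htt ht1 => ?_
  · exact OddHalf.D4.Spor.RuIso.inn isoH x
  have ha : ((1, 0) : RuB.A4) ≠ 0 := by decide
  rcases KFacts.Ru.InvC.invol_cases' C ha htt ht1 with ⟨g, hg⟩ | ⟨g, hg⟩
  · have h1 : C.z 1 = (wprod ml [1, 1] : RuOrder.H) := by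
      have h2 := C.U_sq 1 1
      rw [one_pow] at h2
      rw [← h2, hU]
      rfl
    rw [h1] at hg
    exact bad_SS.inner (isConj_iff.2 ⟨g, hg⟩)
  · have h1 : C.v (1, 0) = (wprod ml [0] : RuOrder.H) := by
      rw [hv]
      rfl
    rw [h1] at hg
    exact bad_T.inner (isConj_iff.2 ⟨g, hg⟩)

theorem inv3_ru {K : Type u} [Group K] (h : Cfsg.Spor.IsoRu K) : Inv3 K := by
  obtain ⟨e⟩ := h
  exact inv3_ru'.congr (e.trans Cfsg.Agent.RuLat.Main.equiv)

end Cfsg.Agent.H799.PiBS.Ru
end

-- part: S3876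
section
set_option autoImplicit false
open Cfsg

namespace Cfsg.Agent.S3876

/-- Let π be a set of primes and G a finite group whose maximal π-subgroups are pairwise conjugate (the full analogue of Sylow's Theorem holds for π). Then the π-analogue of the Baer–Suzuki Theorem holds in G: if x is an element such that any two conjugates of x generate a π-subgroup (a subgroup all of whose prime divisors lie in π), then the normal closure of x is a π-subgroup. -/
theorem result {G : Type*} [Group G] [Finite G] (π : Set ℕ) (hD : Cfsg.IsDPiGroup π G) (x : G)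
    (hx : ∀ g h : G, Cfsg.IsPiSubgroup π (Subgroup.closure ({g * x * g⁻¹, h * x * h⁻¹} : Set G))) :
    Cfsg.IsPiSubgroup π (Subgroup.normalClosure ({x} : Set G)) := by
  refine Cfsg.Agent.H469.PiBS.main (fun _ _ _ _ => Cfsg.Agent.S0000.result)
    (fun _ _ _ p hp hp5 x hx h => ?_)
    (fun _ _ _ hs hna H p k hp hk hH => Cfsg.Agent.S3608.result hs hna H p k hp hk hH)
    (fun h2 S _ _ _ hna hT => ?_) (fun h2 S _ _ _ hna hT => ?_) _ hD x hx
  · have : Fact p.Prime := ⟨hp⟩
    exact (Cfsg.Agent.S3829.result hp5 x hx).2 h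
  · by_cases h3 : 3 ∈ π
    · exact Cfsg.Agent.H841.PiBS.titsA_row hT h2 h3
    · refine Cfsg.Agent.H465.SporB.row_tits inferInstance hna h3 (fun p hp hp5 x hx h => ?_) hT
      have : Fact p.Prime := ⟨hp⟩
      exact (Cfsg.Agent.S3829.result hp5 x hx).2 h
  · by_cases h3 : 3 ∈ π
    · exact Cfsg.Agent.H841.PiBS.sporA_row hT h2 h3
    · refine Cfsg.Agent.H465.SporB.row_sporadic_of hna Cfsg.Agent.H799.PiBS.Ru.inv3_ru h3
        (fun p hp hp5 x hx h => ?_) hT
      have : Fact p.Prime := ⟨hp⟩
      exact (Cfsg.Agent.S3829.result hp5 x hx).2 h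

end Cfsg.Agent.S3876
end

private theorem dce_f10f324ec5ae : _root_.True := by
  try have : _root_.True := by simp only [_root_.Cfsg.IsPiSubgroup.eq_1]
  exact _root_.True.intro
end
end
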