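import Cfsg.Statements.S3892
import Cfsg.Agent.H473.NilCover
import Cfsg.Agent.Lib.NilpotentCoprime
set_option linter.all false

set_option autoImplicit false
open Cfsg

namespace Cfsg.Agent.S3892

open Equiv Equiv.Perm Cfsg.Agent.H473

section perm

variable {α : Type*} [Fintype α] [DecidableEq α]

/-- A permutation of 2-power order commuting with an odd cycle fixes its support. -/
theorem two_fix {x g : Perm α} (hx : x.IsCycle) (hodd : Odd (orderOf x)) {s : ℕ} (hg : g ^ (2 ^ s) = 1)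
    (hc : Commute g x) {a : α} (ha : x a ≠ a) : g a = a := by
  have hga : x (g a) ≠ g a := by
    intro e
    apply ha
    have h1 : g (x a) = x (g a) := by
      rw [← Perm.mul_apply, hc.eq, Perm.mul_apply]
    rw [e] at h1
    exact g.injective h1
  obtain ⟨k, hk⟩ := hx.exists_pow_eq ha hga
  have hcom : ∀ (n : ℕ) (b : α), g ((x ^ n) b) = (x ^ n) (g b) := by
    intro n b
    have h1 : Commute g (x ^ n) := hc.pow_right n
    rw [← Perm.mul_apply, h1.eq, Perm.mul_apply]
  have hpow : ∀ j : ℕ, (g ^ j) a = (x ^ (k * j)) a := by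
    intro j
    induction j with
    | zero => simp
    | succ j ih =>
      rw [pow_succ', Perm.mul_apply, ih, hcom, ← hk, ← Perm.mul_apply, ← pow_add, mul_add, mul_one]
  have h1 := hpow (2 ^ s)
  rw [hg, Perm.one_apply] at h1
  have h2 : x ^ (k * 2 ^ s) = 1 := (hx.pow_eq_one_iff' ha).2 h1.symm
  have h3 : orderOf x ∣ k * 2 ^ s := orderOf_dvd_of_pow_eq_one h2
  have h4 : orderOf x ∣ k := by
    refine Nat.Coprime.dvd_of_dvd_mul_right ?_ h3
    exact Nat.Coprime.pow_right s (Nat.coprime_two_right.2 hodd)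
  have h5 : x ^ k = 1 := orderOf_dvd_iff_pow_eq_one.1 h4
  rw [← hk, h5, Perm.one_apply]

/-- An element of odd order preserving a set with at most two elements fixes it. -/
theorem odd_fix {g : Perm α} {m : ℕ} (hm : Odd m) (hg : g ^ m = 1) {F : Finset α} (hF : F.card ≤ 2)
    (hgF : ∀ b ∈ F, g b ∈ F) {b : α} (hb : b ∈ F) : g b = b := by
  by_contra hne
  have h1 := hgF b hb
  have h2 := hgF _ h1
  have hpair : F = {b, g b} := by
    symm
    apply Finset.eq_of_subset_of_card_le
    · intro y hy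
      simp only [Finset.mem_insert, Finset.mem_singleton] at hy
      rcases hy with rfl | rfl <;> assumption
    · rw [Finset.card_pair (fun e => hne e.symm)]
      exact hF
  rw [hpair] at h2
  simp only [Finset.mem_insert, Finset.mem_singleton] at h2
  have h3 : g (g b) = b := by
    rcases h2 with h2 | h2
    · exact h2
    · exact absurd (g.injective h2) hne
  have h4 : (g ^ 2) b = b := by rw [pow_two, Perm.mul_apply, h3]
  obtain ⟨k, rfl⟩ := hm
  have h5 : ∀ j : ℕ, ((g ^ 2) ^ j) b = b := by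
    intro j
    induction j with
    | zero => simp
    | succ j ih => rw [pow_succ, Perm.mul_apply, h4, ih]
  have h6 : (g ^ (2 * k + 1)) b = g b := by
    rw [pow_succ', Perm.mul_apply, pow_mul, h5]
  rw [hg, Perm.one_apply] at h6
  exact hne h6.symm

/-- The 2-part of an element of a nilpotent group commutes with an element of odd order. -/
theorem exists_odd_pow {G : Type*} [Group G] [Finite G] {N : Subgroup G} (hN : Group.IsNilpotent ↥N)
    {x g : G} (hx : x ∈ N) (hg : g ∈ N) (hodd : Odd (orderOf x)) :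
    ∃ s m : ℕ, Odd m ∧ (g ^ m) ^ (2 ^ s) = 1 ∧ Commute (g ^ m) x := by
  obtain ⟨s, m, hm, ham⟩ := Nat.exists_eq_two_pow_mul_odd (n := orderOf g) (orderOf_pos g).ne'
  have h1 : (g ^ m) ^ (2 ^ s) = 1 := by
    rw [← pow_mul, mul_comm, ← ham, pow_orderOf_eq_one]
  refine ⟨s, m, hm, h1, ?_⟩
  have := hN
  have h2 : Commute (⟨g ^ m, pow_mem hg m⟩ : ↥N) ⟨x, hx⟩ := by
    refine Cfsg.Agent.Lib.NilpotentCoprime.commute_of_pow_eq_one (m := 2 ^ s) (n := orderOf x) ?_ ?_ ?_
    · exact Nat.Coprime.pow_left s (Nat.coprime_two_left.2 hodd)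
    · apply Subtype.ext
      simpa using h1
    · apply Subtype.ext
      simpa using pow_orderOf_eq_one x
  exact congrArg Subtype.val h2.eq

/-- Symmetric group: nilpotent overgroups of an odd cycle with at most one fixed point are alternating. -/
theorem sign_eq_one {x : Perm α} (hx : x.IsCycle) (hodd : Odd (orderOf x))
    (hfix : (Finset.univ.filter (fun b => x b = b)).card ≤ 1) {N : Subgroup (Perm α)}
    (hN : Group.IsNilpotent ↥N) (hxN : x ∈ N) {g : Perm α} (hg : g ∈ N) : sign g = 1 := by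
  obtain ⟨s, m, hm, h1, h2⟩ := exists_odd_pow hN hxN hg hodd
  have h3 : g ^ m = 1 := by
    rw [← support_eq_empty_iff, ← Finset.card_eq_zero]
    by_contra hne
    have h4 : (g ^ m).support ⊆ Finset.univ.filter (fun b => x b = b) := by
      intro b hb
      rw [Finset.mem_filter]
      refine ⟨Finset.mem_univ _, ?_⟩
      by_contra hb2
      exact (mem_support.1 hb) (two_fix hx hodd h1 h2 hb2)
    have h5 := Finset.card_le_card h4
    have h6 : (g ^ m).support.card ≠ 1 := card_support_ne_one _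
    omega
  have h4 : sign g ^ m = 1 := by rw [← map_pow, h3, map_one]
  rcases Int.units_eq_one_or (sign g) with h | h
  · exact h
  · rw [h, hm.neg_one_pow] at h4
    exact absurd h4 (by decide)

/-- Nilpotent overgroups within the alternating group of an odd cycle with at most two fixed points. -/
theorem fix_of_mem {x : Perm α} (hx : x.IsCycle) (hodd : Odd (orderOf x))
    (hfix : (Finset.univ.filter (fun b => x b = b)).card ≤ 2) {N : Subgroup (Perm α)}
    (hN : Group.IsNilpotent ↥N) (hsign : ∀ g ∈ N, sign g = 1) (hxN : x ∈ N) {g : Perm α} (hg : g ∈ N)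
    {b : α} (hb : x b = b) : g b = b := by
  have hx1 : x ≠ 1 := hx.ne_one
  -- all elements have odd order
  have hoddall : ∀ g ∈ N, ∃ m, Odd m ∧ g ^ m = 1 := by
    intro g hg
    obtain ⟨s, m, hm, h1, h2⟩ := exists_odd_pow hN hxN hg hodd
    refine ⟨m, hm, ?_⟩
    rw [← support_eq_empty_iff, ← Finset.card_eq_zero]
    by_contra hne
    have h4 : (g ^ m).support ⊆ Finset.univ.filter (fun b => x b = b) := by
      intro b hb
      rw [Finset.mem_filter]
      refine ⟨Finset.mem_univ _, ?_⟩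
      by_contra hb2
      exact (mem_support.1 hb) (two_fix hx hodd h1 h2 hb2)
    have h5 := Finset.card_le_card h4
    have h6 : (g ^ m).support.card ≠ 1 := card_support_ne_one _
    have h7 : (g ^ m).support.card = 2 := by omega
    have h8 := (card_support_eq_two.1 h7).sign_eq
    rw [hsign _ (pow_mem hg m)] at h8
    exact absurd h8 (by decide)
  obtain ⟨z, hzN, hz1, hz⟩ := exists_central_of_nilpotent hN hxN hx1
  have hzx : Commute z x := (hz x hxN).symm
  have hcomz : ∀ c : α, z (x c) = x (z c) := by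
    intro c
    rw [← Perm.mul_apply, hzx.eq, Perm.mul_apply]
  -- fixed points of z
  have hzfix : ∀ c : α, x c = c → z c = c := by
    intro c hc
    obtain ⟨m, hm, hm1⟩ := hoddall z hzN
    refine odd_fix hm hm1 hfix ?_ (Finset.mem_filter.2 ⟨Finset.mem_univ _, hc⟩)
    intro c hc
    rw [Finset.mem_filter] at hc ⊢
    refine ⟨Finset.mem_univ _, ?_⟩
    rw [← hcomz, hc.2]
  have hzmov : ∀ c : α, x c ≠ c → z c ≠ c := by
    intro c hc hzc
    apply hz1
    ext d
    rw [Perm.one_apply]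
    by_cases hd : x d = d
    · first | exact hzfix d hd | exact congrArg _ (hzfix d hd)
    · obtain ⟨k, hk⟩ := hx.exists_pow_eq hc hd
      have h1 : Commute z (x ^ k) := hzx.pow_right k
      rw [← hk, ← Perm.mul_apply, h1.eq, Perm.mul_apply, hzc]
  -- g preserves the fixed points of z
  obtain ⟨m, hm, hm1⟩ := hoddall g hg
  refine odd_fix hm hm1 hfix ?_ (Finset.mem_filter.2 ⟨Finset.mem_univ _, hb⟩)
  intro c hc
  rw [Finset.mem_filter] at hc ⊢
  refine ⟨Finset.mem_univ _, ?_⟩
  by_contra hgc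
  apply hzmov _ hgc
  have h1 := hz g hg
  rw [← Perm.mul_apply, ← h1, Perm.mul_apply, hzfix c hc.2]

/-- A nilpotent group of permutations does not contain the two 3-cycles. -/
theorem not_nilpotent {N : Subgroup (Perm α)} (hN : Group.IsNilpotent ↥N) {w1 w2 w3 w4 : α}
    (h12 : w1 ≠ w2) (h13 : w1 ≠ w3) (h14 : w1 ≠ w4) (h23 : w2 ≠ w3) (h24 : w2 ≠ w4) (h34 : w3 ≠ w4)
    (hu : swap w1 w2 * swap w1 w3 ∈ N) (hv : swap w3 w1 * swap w3 w4 ∈ N) : False := by
  have huv : (swap w1 w2 * swap w1 w3) * (swap w3 w1 * swap w3 w4) = swap w1 w2 * swap w3 w4 := by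
    rw [swap_comm w3 w1, mul_assoc, ← mul_assoc (swap w1 w3) (swap w1 w3), swap_mul_self, one_mul]
  have hw : swap w1 w2 * swap w3 w4 ∈ N := huv ▸ mul_mem hu hv
  have hcom : Commute (swap w1 w2) (swap w3 w4) := by
    apply Disjoint.commute
    rw [disjoint_iff_disjoint_support, support_swap h12, support_swap h34]
    simp [Finset.disjoint_left, h13, h14, h23, h24, h13.symm, h14.symm, h23.symm, h24.symm]
  have hw2 : (swap w1 w2 * swap w3 w4) ^ 2 = 1 := by
    rw [hcom.mul_pow, pow_two, pow_two, swap_mul_self, swap_mul_self, one_mul]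
  have hu3 : (swap w1 w2 * swap w1 w3) ^ 3 = 1 := by
    have := (isThreeCycle_swap_mul_swap_same h12 h13 h23).orderOf
    rw [← this]
    exact pow_orderOf_eq_one _
  have := hN
  have h2 : Commute (⟨_, hw⟩ : ↥N) ⟨_, hu⟩ := by
    refine Cfsg.Agent.Lib.NilpotentCoprime.commute_of_pow_eq_one (m := 2) (n := 3) (by norm_num) ?_ ?_
    · exact Subtype.ext hw2
    · exact Subtype.ext hu3
  have h3 : (swap w1 w2 * swap w3 w4) * (swap w1 w2 * swap w1 w3) = (swap w1 w2 * swap w1 w3) * (swap w1 w2 * swap w3 w4) :=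
    congrArg Subtype.val h2.eq
  have h4 := congrArg (fun p : Perm α => p w1) h3
  simp only [Perm.mul_apply, swap_apply_left] at h4
  rw [swap_apply_of_ne_of_ne h13.symm h23.symm, swap_apply_left, swap_apply_of_ne_of_ne h14.symm h24.symm,
    swap_apply_of_ne_of_ne h13 h14, swap_apply_left, swap_apply_of_ne_of_ne h12.symm h23,
    swap_apply_right] at h4
  exact h14 h4.symm

omit [Fintype α] [DecidableEq α] in
theorem inv_apply' (x : Perm α) (a : α) : x⁻¹ (x a) = a := by
  rw [← Perm.mul_apply, inv_mul_cancel, Perm.one_apply]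

/-- From a long cycle and its conjugates by transpositions one gets a contradiction. -/
theorem not_nilpotent_of_cycle {N : Subgroup (Perm α)} (hN : Group.IsNilpotent ↥N) {x : Perm α}
    (hx : x.IsCycle) (hord : 4 ≤ orderOf x) (hxN : x ∈ N)
    (hconj : ∀ a : α, x a ≠ a → swap a (x a) * x * (swap a (x a))⁻¹ ∈ N) : False := by
  obtain ⟨a, ha, -⟩ := id hx
  have hdist : ∀ k : ℕ, 0 < k → k < 4 → (x ^ k) a ≠ a := by
    intro k h0 h4 he
    have := (hx.pow_eq_one_iff' ha).2 he
    have h5 := Nat.le_of_dvd h0 (orderOf_dvd_of_pow_eq_one this)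
    omega
  have hmov : ∀ c : α, x c ≠ c → swap c (x⁻¹ c) * swap c (x c) ∈ N := by
    intro c hc
    have h1 := mul_mem (inv_mem hxN) (hconj c hc)
    have h2 : x⁻¹ * (swap c (x c) * x * (swap c (x c))⁻¹) = swap c (x⁻¹ c) * swap c (x c) := by
      rw [swap_inv, ← mul_assoc, ← mul_assoc]
      congr 1
      have h3 := swap_mul_eq_mul_swap x⁻¹ c (x c)
      have h4 := mul_swap_eq_swap_mul x⁻¹ c (x c)
      rw [h4, mul_assoc, inv_mul_cancel, mul_one]
      rw [inv_apply', swap_comm]
    rw [h2] at h1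
    exact h1
  have e1 : (x⁻¹) (x a) = a := inv_apply' x a
  have hxa : x (x a) ≠ x a := fun e => ha (x.injective e)
  have hu := hmov (x a) hxa
  rw [e1] at hu
  have hxxa : x (x (x a)) ≠ x (x a) := fun e => hxa (x.injective e)
  have hv := hmov (x (x a)) hxxa
  rw [inv_apply'] at hv
  -- w1 = x a, w2 = a, w3 = x (x a), w4 = x (x (x a))
  have d1 := hdist 1 (by norm_num) (by norm_num)
  have d2 := hdist 2 (by norm_num) (by norm_num)
  have d3 := hdist 3 (by norm_num) (by norm_num)
  have p2 : (x ^ 2) a = x (x a) := by rw [pow_two, Perm.mul_apply]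
  have p3 : (x ^ 3) a = x (x (x a)) := by rw [pow_succ, pow_two, Perm.mul_apply, Perm.mul_apply]
  rw [p2] at d2
  rw [p3] at d3
  refine not_nilpotent hN (w1 := x a) (w2 := a) (w3 := x (x a)) (w4 := x (x (x a))) ha hxa.symm ?_ d2.symm
    d3.symm hxxa.symm hu hv
  intro e
  exact d2 (x.injective e).symm

end perm

/-- Existence of cycles of a given length. -/
theorem exists_cycle (n l : ℕ) (hl : l + 1 ≤ n) : ∃ x : Perm (Fin n), (2 ≤ l + 1 → x.cycleType = {l + 1}) ∧
    ∀ b : Fin n, l < (b : ℕ) → x b = b := by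
  have : NeZero n := ⟨by omega⟩
  refine ⟨Fin.cycleRange ⟨l, by omega⟩, ?_, ?_⟩
  · intro h2
    have := Fin.cycleType_cycleRange (n := n) (i := ⟨l, by omega⟩) (by
      intro e
      have := congrArg Fin.val e
      simp at this
      omega)
    simpa using this
  · intro b hb
    exact Fin.cycleRange_of_gt (by
      rw [Fin.lt_def]
      exact hb)

theorem card_fixed {n l : ℕ} {x : Perm (Fin n)} (h : x.cycleType = {l}) :
    (Finset.univ.filter (fun b => x b = b)).card = n - l := by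
  have h1 : x.support.card = l := by
    rw [← sum_cycleType, h, Multiset.sum_singleton]
  have h2 : (Finset.univ.filter (fun b => x b = b)) = x.supportᶜ := by
    ext b
    simp
  rw [h2, Finset.card_compl, h1, Fintype.card_fin]

theorem isCycle_of {n l : ℕ} {x : Perm (Fin n)} (h : x.cycleType = {l}) : x.IsCycle := by
  rw [← card_cycleType_eq_one, h, Multiset.card_singleton]

theorem orderOf_of {n l : ℕ} {x : Perm (Fin n)} (h : x.cycleType = {l}) : orderOf x = l := by
  rw [← lcm_cycleType, h, Multiset.lcm_singleton, normalize_eq]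

/-- Symmetric groups. -/
theorem sym_case (n : ℕ) (hn : 4 ≤ n) : ¬ ∃ 𝓐 : Finset (Subgroup (Perm (Fin n))), IsNilMinCover 𝓐 := by
  rintro ⟨𝓐, h𝓐⟩
  -- the length
  obtain ⟨l, hl1, hl2, hl3, hl4⟩ : ∃ l, Odd l ∧ n - 1 ≤ l ∧ l ≤ n ∧ 3 ≤ l := by
    rcases Nat.even_or_odd n with h | h
    · refine ⟨n - 1, ?_, le_rfl, by omega, by omega⟩
      exact Nat.Even.sub_odd (by omega) h odd_one
    · exact ⟨n, h, by omega, le_rfl, by omega⟩
  have hM : (alternatingGroup (Fin n)) ≠ (⊤ : Subgroup (Perm (Fin n))) := by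
    intro e
    have h0 : (⟨0, by omega⟩ : Fin n) ≠ ⟨1, by omega⟩ := by
      intro e
      have := congrArg Fin.val e
      simp at this
    have h1 : swap (⟨0, by omega⟩ : Fin n) ⟨1, by omega⟩ ∈ alternatingGroup (Fin n) := by
      rw [e]; exact Subgroup.mem_top _
    rw [mem_alternatingGroup, sign_swap h0] at h1
    exact absurd h1 (by decide)
  obtain ⟨A, hA, hAM, hSA⟩ := h𝓐.exists_common hM {x : Perm (Fin n) | x.cycleType = {l}} (by
    intro x hx N hN hxN g hg
    rw [mem_alternatingGroup]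
    refine sign_eq_one (isCycle_of hx) ?_ ?_ hN hxN hg
    · rw [orderOf_of hx]; exact hl1
    · rw [card_fixed hx]; omega)
  have hconj : ∀ x : Perm (Fin n), x.cycleType = {l} → ∀ t : Perm (Fin n), t * x * t⁻¹ ∈ A := by
    intro x hx t
    apply hSA
    change (t * x * t⁻¹).cycleType = {l}
    rw [cycleType_conj]; exact hx
  by_cases h4 : 4 ≤ l
  · obtain ⟨x, hx, -⟩ := exists_cycle n (l - 1) (by omega)
    have hx' : x.cycleType = {l} := by
      have := hx (by omega)
      rw [this]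
      congr 1
      omega
    exact not_nilpotent_of_cycle hA (isCycle_of hx') (by rw [orderOf_of hx']; exact h4) (hSA hx')
      (fun a _ => hconj x hx' _)
  · have hl : l = 3 := by omega
    subst hl
    have k01 : (⟨0, by omega⟩ : Fin n) ≠ ⟨1, by omega⟩ := by simp [Fin.ext_iff]
    have k02 : (⟨0, by omega⟩ : Fin n) ≠ ⟨2, by omega⟩ := by simp [Fin.ext_iff]
    have k03 : (⟨0, by omega⟩ : Fin n) ≠ ⟨3, by omega⟩ := by simp [Fin.ext_iff]
    have k12 : (⟨1, by omega⟩ : Fin n) ≠ ⟨2, by omega⟩ := by simp [Fin.ext_iff]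
    have k13 : (⟨1, by omega⟩ : Fin n) ≠ ⟨3, by omega⟩ := by simp [Fin.ext_iff]
    have k23 : (⟨2, by omega⟩ : Fin n) ≠ ⟨3, by omega⟩ := by simp [Fin.ext_iff]
    refine not_nilpotent hA k01 k02 k03 k12 k13 k23 ?_ ?_
    · exact hSA (isThreeCycle_swap_mul_swap_same k01 k02 k12)
    · exact hSA (isThreeCycle_swap_mul_swap_same k02.symm k23 k03)

/-- Alternating groups. -/
theorem alt_case (n : ℕ) (hn : 5 ≤ n) :
    ¬ ∃ 𝓐 : Finset (Subgroup ↥(alternatingGroup (Fin n))), IsNilMinCover 𝓐 := by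
  rintro ⟨𝓐, h𝓐⟩
  obtain ⟨l, hl1, hl2, hl3, hl4⟩ : ∃ l, Odd l ∧ n - 2 ≤ l ∧ l ≤ n - 1 ∧ 3 ≤ l := by
    rcases Nat.even_or_odd n with h | h
    · refine ⟨n - 1, ?_, by omega, le_rfl, by omega⟩
      exact Nat.Even.sub_odd (by omega) h odd_one
    · refine ⟨n - 2, ?_, le_rfl, by omega, by omega⟩
      exact Nat.Odd.sub_even (by omega) h even_two
  -- the fixed point
  set b : Fin n := ⟨n - 1, by omega⟩ with hb
  set M : Subgroup ↥(alternatingGroup (Fin n)) := MulAction.stabilizer _ b with hMdef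
  have k01 : (⟨0, by omega⟩ : Fin n) ≠ ⟨1, by omega⟩ := by simp [Fin.ext_iff]
  have k02 : (⟨0, by omega⟩ : Fin n) ≠ ⟨2, by omega⟩ := by simp [Fin.ext_iff]
  have k03 : (⟨0, by omega⟩ : Fin n) ≠ ⟨3, by omega⟩ := by simp [Fin.ext_iff]
  have k12 : (⟨1, by omega⟩ : Fin n) ≠ ⟨2, by omega⟩ := by simp [Fin.ext_iff]
  have k13 : (⟨1, by omega⟩ : Fin n) ≠ ⟨3, by omega⟩ := by simp [Fin.ext_iff]
  have k23 : (⟨2, by omega⟩ : Fin n) ≠ ⟨3, by omega⟩ := by simp [Fin.ext_iff]
  have k0b : (⟨0, by omega⟩ : Fin n) ≠ b := by simp [Fin.ext_iff, hb]; omega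
  have k1b : (⟨1, by omega⟩ : Fin n) ≠ b := by simp [Fin.ext_iff, hb]; omega
  have k2b : (⟨2, by omega⟩ : Fin n) ≠ b := by simp [Fin.ext_iff, hb]; omega
  have k3b : (⟨3, by omega⟩ : Fin n) ≠ b := by simp [Fin.ext_iff, hb]; omega
  have hM : M ≠ ⊤ := by
    intro e
    have h1 : (⟨swap b ⟨0, by omega⟩ * swap b ⟨1, by omega⟩,
        (isThreeCycle_swap_mul_swap_same k0b.symm k1b.symm k01).mem_alternatingGroup⟩ :
        ↥(alternatingGroup (Fin n))) ∈ M := by
      rw [e]; exact Subgroup.mem_top _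
    rw [hMdef, MulAction.mem_stabilizer_iff] at h1
    have h2 : (swap b ⟨0, by omega⟩ * swap b ⟨1, by omega⟩) b = b := h1
    rw [Perm.mul_apply, swap_apply_left, swap_apply_of_ne_of_ne k1b k01.symm] at h2
    exact k1b h2
  obtain ⟨A, hA, hAM, hSA⟩ := h𝓐.exists_common hM
    {x : ↥(alternatingGroup (Fin n)) | (x : Perm (Fin n)).cycleType = {l} ∧ (x : Perm (Fin n)) b = b} (by
    rintro x ⟨hx, hxb⟩ N hN hxN g hg
    rw [hMdef, MulAction.mem_stabilizer_iff]
    change (g : Perm (Fin n)) b = b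
    have hN' : Group.IsNilpotent ↥(N.map (alternatingGroup (Fin n)).subtype) := by
      have := hN
      exact Group.isNilpotent_congr (N.equivMapOfInjective _ (alternatingGroup (Fin n)).subtype_injective) |>.1 hN
    refine fix_of_mem (isCycle_of hx) ?_ ?_ hN' ?_ ?_ ?_ hxb
    · rw [orderOf_of hx]; exact hl1
    · rw [card_fixed hx]; omega
    · rintro _ ⟨y, hy, rfl⟩
      exact mem_alternatingGroup.1 y.2
    · exact Subgroup.mem_map_of_mem _ hxN
    · exact Subgroup.mem_map_of_mem _ hg)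
  have hA' : Group.IsNilpotent ↥(A.map (alternatingGroup (Fin n)).subtype) :=
    Group.isNilpotent_congr (A.equivMapOfInjective _ (alternatingGroup (Fin n)).subtype_injective) |>.1 hA
  have hmemA : ∀ x : Perm (Fin n), x.cycleType = {l} → x b = b →
      x ∈ A.map (alternatingGroup (Fin n)).subtype := by
    intro x hx hxb
    have hxa : x ∈ alternatingGroup (Fin n) := by
      rw [mem_alternatingGroup, (isCycle_of hx).sign]
      have : x.support.card = l := by rw [← sum_cycleType, hx, Multiset.sum_singleton]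
      rw [this, hl1.neg_one_pow, neg_neg]
    exact ⟨⟨x, hxa⟩, hSA ⟨hx, hxb⟩, rfl⟩
  by_cases h4 : 4 ≤ l
  · obtain ⟨x, hx, hxf⟩ := exists_cycle n (l - 1) (by omega)
    have hx' : x.cycleType = {l} := by
      have := hx (by omega)
      rw [this]
      congr 1
      omega
    have hxb : x b = b := hxf b (by rw [hb]; simp; omega)
    refine not_nilpotent_of_cycle hA' (isCycle_of hx') (by rw [orderOf_of hx']; exact h4) (hmemA x hx' hxb) ?_
    intro a ha
    apply hmemA
    · rw [cycleType_conj]; exact hx'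
    · have h1 : a ≠ b := by rintro rfl; exact ha hxb
      have h2 : x a ≠ b := by
        intro e
        apply h1
        apply x.injective
        rw [e, hxb]
      rw [swap_inv, Perm.mul_apply, Perm.mul_apply, swap_apply_of_ne_of_ne h1.symm h2.symm, hxb,
        swap_apply_of_ne_of_ne h1.symm h2.symm]
  · have hl : l = 3 := by omega
    subst hl
    refine not_nilpotent hA' k01 k02 k03 k12 k13 k23 ?_ ?_
    · apply hmemA _ (isThreeCycle_swap_mul_swap_same k01 k02 k12)
      rw [Perm.mul_apply, swap_apply_of_ne_of_ne k0b.symm k2b.symm, swap_apply_of_ne_of_ne k0b.symm k1b.symm]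
    · apply hmemA _ (isThreeCycle_swap_mul_swap_same k02.symm k23 k03)
      rw [Perm.mul_apply, swap_apply_of_ne_of_ne k2b.symm k3b.symm, swap_apply_of_ne_of_ne k2b.symm k0b.symm]

/-- A cover of a group is a finite set of proper subgroups whose union is the whole group; it is minimal when no cover has fewer members, and nilpotent when all its members are nilpotent. The alternating groups of degree at least 5 and the symmetric groups of degree at least 4 have no nilpotent minimal cover. -/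
theorem result (n : ℕ) :
    (5 ≤ n → ¬ ∃ 𝓐 : Finset (Subgroup ↥(alternatingGroup (Fin n))), ((∀ A ∈ 𝓐, A ≠ ⊤) ∧ (∀ g : ↥(alternatingGroup (Fin n)), ∃ A ∈ 𝓐, g ∈ A)) ∧ (∀ 𝓑 : Finset (Subgroup ↥(alternatingGroup (Fin n))), (∀ A ∈ 𝓑, A ≠ ⊤) ∧ (∀ g : ↥(alternatingGroup (Fin n)), ∃ A ∈ 𝓑, g ∈ A) → 𝓐.card ≤ 𝓑.card) ∧ (∀ A ∈ 𝓐, Group.IsNilpotent ↥A)) ∧
    (4 ≤ n → ¬ ∃ 𝓐 : Finset (Subgroup (Equiv.Perm (Fin n))), ((∀ A ∈ 𝓐, A ≠ ⊤) ∧ (∀ g : (Equiv.Perm (Fin n)), ∃ A ∈ 𝓐, g ∈ A)) ∧ (∀ 𝓑 : Finset (Subgroup (Equiv.Perm (Fin n))), (∀ A ∈ 𝓑, A ≠ ⊤) ∧ (∀ g : (Equiv.Perm (Fin n)), ∃ A ∈ 𝓑, g ∈ A) → 𝓐.card ≤ 𝓑.card) ∧ (∀ A ∈ 𝓐, Group.IsNilpotent ↥A)) :=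
  ⟨fun h => alt_case n h, fun h => sym_case n h⟩

end Cfsg.Agent.S3892
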