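import Mathlib
import Cfsg.Agent.H474.TwoPerf
import Cfsg.Agent.H474.TwoMod3
import Cfsg.Statements.S3896
import Cfsg.Agent.S0483
import Cfsg.Agent.FastGrp
import Cfsg.Agent.Prune
set_option linter.all false
open scoped Cfsg.Agent.FastGrp

-- part: H474/TwoRed
section
/-!
# Groups with exactly `|P|/2` classes of 2-elements: reduction to trivial centre
-/

set_option autoImplicit false
open Cfsg

namespace Cfsg.Agent.H474.TwoRed

universe u

open Subgroup Cfsg.Agent.H474.TwoCount Cfsg.Agent.H474.TwoFour Cfsg.Agent.H474.TwoFrame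
open scoped Pointwise

variable {G : Type u} [Group G] [Finite G]

/-- the centre of a core-free group is a 2-group -/
theorem center_isPGroup (hO : oddCore G = ⊥) : IsPGroup 2 (center G) := by
  have : Fact (Nat.Prime 2) := ⟨Nat.prime_two⟩
  rw [IsPGroup.iff_orderOf]
  intro x
  obtain ⟨a, m, hm, ham⟩ := Nat.exists_eq_two_pow_mul_odd (n := orderOf x) (orderOf_pos x).ne'
  have hord : orderOf (x ^ (2 ^ a)) = m := by
    rw [orderOf_pow, ham]
    have : Nat.gcd (2 ^ a * m) (2 ^ a) = 2 ^ a := Nat.gcd_mul_right_left _ _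
    rw [this]
    exact Nat.mul_div_cancel_left _ (by positivity)
  set y : G := ((x ^ (2 ^ a) : center G) : G) with hy
  have hyc : y ∈ center G := (x ^ (2 ^ a)).2
  have hZn : (zpowers y).Normal := ⟨fun b hb g => by
    have hle : zpowers y ≤ center G := by rw [zpowers_le]; exact hyc
    have := mem_center_iff.1 (hle hb) g
    rw [this]; simpa using hb⟩
  have hodd : Odd (Nat.card (zpowers y)) := by
    rw [Nat.card_zpowers, hy, Subgroup.orderOf_coe, hord]; exact hm
  have h1 := Cfsg.Agent.ONType.Cz.eq_bot_of_odd hO _ hZn hodd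
  have h2 : y = 1 := by
    rw [zpowers_eq_bot] at h1; exact h1
  have h3 : m = 1 := by
    rw [← hord, orderOf_eq_one_iff]
    exact Subtype.ext h2
  exact ⟨a, by rw [ham, h3, mul_one]⟩

/-- not 2-nilpotent -/
theorem not_nilpotent (P : Sylow 2 G)
    (hk : 2 * Nat.card (K2 G) = Nat.card ↥(P : Subgroup G)) : ¬ IsPGroup 2 G := by
  intro hG
  have hPtop : (P : Subgroup G) = ⊤ := by
    exact (P.is_maximal' (Q := ⊤) (hG.to_subgroup ⊤) le_top).symm
  have h1 : Nat.card (K2 G) = Nat.card (ConjClasses G) := by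
    refine Nat.card_congr (Equiv.subtypeUnivEquiv ?_)
    intro c x _
    have : Fact (Nat.Prime 2) := ⟨Nat.prime_two⟩
    exact IsPGroup.iff_orderOf.1 hG x
  rw [h1, hPtop, card_top] at hk
  exact Cfsg.Agent.H474.TwoMod3.card_ne hG hk.symm

theorem isPGroup_of_complement (hO : oddCore G = ⊥) (hn : HasNormalPComplement 2 G) : IsPGroup 2 G := by
  have : Fact (Nat.Prime 2) := ⟨Nat.prime_two⟩
  obtain ⟨P, N, hN, hc⟩ := hn
  have hodd : Odd (Nat.card N) := by
    have h3 : Nat.card N = (P : Subgroup G).index := hc.index_eq_card.symm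
    rw [h3]
    have := P.not_dvd_index
    exact Nat.not_even_iff_odd.1 (fun h => this (even_iff_two_dvd.1 h))
  have h1 := Cfsg.Agent.ONType.Cz.eq_bot_of_odd hO _ hN hodd
  rw [h1, isComplement'_bot_left] at hc
  have h2 : IsPGroup 2 (⊤ : Subgroup G) := by rw [← hc]; exact P.isPGroup'
  exact h2.of_equiv Subgroup.topEquiv

/-- The reduction to trivial centre. -/
theorem reduction (hO : oddCore G = ⊥) (P : Sylow 2 G)
    (hk : 2 * Nat.card (K2 G) = Nat.card ↥(P : Subgroup G)) :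
    oddCore (G ⧸ center G) = ⊥ ∧ ¬ HasNormalPComplement 2 (G ⧸ center G) ∧
      center (G ⧸ center G) = ⊥ ∧
      ∃ Q : Sylow 2 (G ⧸ center G), 2 * Nat.card (K2 (G ⧸ center G)) = Nat.card ↥(Q : Subgroup (G ⧸ center G)) := by
  classical
  have h2f : Fact (Nat.Prime 2) := ⟨Nat.prime_two⟩
  set Z := center G with hZ
  have hZp : IsPGroup 2 Z := center_isPGroup hO
  have hO' := Cfsg.Agent.ONType.Cz.oddCore_quotient_central hO Z le_rfl hZp
  have hnG := not_nilpotent P hk
  obtain ⟨b, hb⟩ := IsPGroup.iff_card.1 hZp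
  have hcardG : Nat.card G = Nat.card (G ⧸ Z) * Nat.card Z :=
    Subgroup.card_eq_card_quotient_mul_card_subgroup Z
  have hnp : ¬ HasNormalPComplement 2 (G ⧸ Z) := by
    intro h
    apply hnG
    have h1 := isPGroup_of_complement hO' h
    obtain ⟨a, ha⟩ := IsPGroup.iff_card.1 h1
    apply IsPGroup.of_card (n := a + b)
    rw [hcardG, ha, hb, pow_add]
  set q := QuotientGroup.mk' Z with hq
  have hqs : Function.Surjective q := QuotientGroup.mk'_surjective _
  have hqk : q.ker = Z := by rw [hq, QuotientGroup.ker_mk']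
  have hZP : Z ≤ (P : Subgroup G) := by
    have h1 : Z ≤ pCore 2 G := Cfsg.Agent.Lib.Cores.le_pCore inferInstance hZp
    exact h1.trans (Cfsg.Agent.Lib.Cores.pCore_le_sylow P)
  set Q : Sylow 2 (G ⧸ Z) := P.mapSurjective hqs with hQ
  have hQm : (Q : Subgroup (G ⧸ Z)) = (P : Subgroup G).map q := Sylow.coe_mapSurjective hqs P
  have hQcard : Nat.card ↥(Q : Subgroup (G ⧸ Z)) * Nat.card Z = Nat.card ↥(P : Subgroup G) := by
    have h1 := Subgroup.card_mul_index (Z.subgroupOf (P : Subgroup G))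
    rw [Nat.card_congr (subgroupOfEquivOfLe hZP).toEquiv] at h1
    have h2 : (Z.subgroupOf (P : Subgroup G)).index = Nat.card ↥((P : Subgroup G).map q) := by
      have h3 := Subgroup.relIndex_ker (K := (P : Subgroup G)) q
      rw [hqk] at h3
      exact h3
    rw [← h1, h2, hQm, mul_comm]
  -- Theorem A for the quotient
  have hA : 2 * Nat.card (K2 (G ⧸ Z)) ≤ Nat.card ↥(Q : Subgroup (G ⧸ Z)) := by
    by_contra hlt
    push Not at hlt
    exact hnp ((Cfsg.Agent.S3895.result Q).1 hlt).1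
  -- a section
  have hsec : ∀ c : K2 (G ⧸ Z), ∃ y : P, (c : ConjClasses (G ⧸ Z)) = ConjClasses.mk (q y) := by
    intro c
    obtain ⟨⟨y', hy'⟩, hyc⟩ := cls_surjective Q c
    rw [hQm] at hy'
    obtain ⟨y, hy, hyy⟩ := hy'
    refine ⟨⟨y, hy⟩, ?_⟩
    rw [← hyc]
    change ConjClasses.mk y' = ConjClasses.mk (q y)
    rw [hyy]
  choose s hs using hsec
  let Φ : K2 (G ⧸ Z) × Z → K2 G := fun a =>
    cls P.isPGroup' (s a.1 * ⟨(a.2 : G), hZP a.2.2⟩)
  have hΦs : Function.Surjective Φ := by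
    intro c
    obtain ⟨y, rfl⟩ := cls_surjective P c
    have hyQ : q y ∈ (Q : Subgroup (G ⧸ Z)) := by rw [hQm]; exact ⟨y, y.2, rfl⟩
    set cb := cls Q.isPGroup' ⟨q y, hyQ⟩ with hcb
    have h1 := hs cb
    have h2 : ConjClasses.mk (q y) = ConjClasses.mk (q (s cb)) := h1
    rw [ConjClasses.mk_eq_mk_iff_isConj, isConj_iff] at h2
    obtain ⟨g', hg'⟩ := h2
    obtain ⟨g, rfl⟩ := hqs g'
    rw [← map_inv, ← map_mul, ← map_mul] at hg'
    have hz : (s cb : G)⁻¹ * (g * y * g⁻¹) ∈ Z := by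
      rw [← hqk, MonoidHom.mem_ker, map_mul, map_inv, hg', inv_mul_cancel]
    refine ⟨(cb, ⟨_, hz⟩), ?_⟩
    change cls P.isPGroup' _ = cls P.isPGroup' _
    rw [cls_eq_iff]
    refine ⟨g⁻¹, ?_⟩
    change g⁻¹ * ((s cb : G) * ((s cb : G)⁻¹ * (g * y * g⁻¹))) * g⁻¹⁻¹ = y
    group
  have hcardΦ : Nat.card (K2 (G ⧸ Z) × Z) ≤ Nat.card (K2 G) := by
    rw [Nat.card_prod]
    have h1 : 2 * (Nat.card (K2 (G ⧸ Z)) * Nat.card Z) ≤ 2 * Nat.card (K2 G) := by
      rw [hk, ← hQcard, ← mul_assoc]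
      exact Nat.mul_le_mul_right _ hA
    omega
  have hΦcard : Nat.card (K2 (G ⧸ Z) × Z) = Nat.card (K2 G) :=
    le_antisymm hcardΦ (Nat.card_le_card_of_surjective Φ hΦs)
  have hΦi : Function.Injective Φ :=
    ((Nat.bijective_iff_surjective_and_card Φ).2 ⟨hΦs, hΦcard⟩).1
  refine ⟨hO', hnp, ?_, Q, ?_⟩
  · -- the centre of the quotient is trivial
    have hZ2 : IsPGroup 2 (center (G ⧸ Z)) := center_isPGroup hO'
    have hZQ : center (G ⧸ Z) ≤ (Q : Subgroup (G ⧸ Z)) := by
      have h1 : center (G ⧸ Z) ≤ pCore 2 (G ⧸ Z) := Cfsg.Agent.Lib.Cores.le_pCore inferInstance hZ2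
      exact h1.trans (Cfsg.Agent.Lib.Cores.pCore_le_sylow Q)
    rw [eq_bot_iff_forall]
    intro w hw
    have hwQ := hZQ hw
    set cb := cls Q.isPGroup' ⟨w, hwQ⟩ with hcb
    have h1 := hs cb
    have h2 : ConjClasses.mk w = ConjClasses.mk (q (s cb)) := h1
    rw [ConjClasses.mk_eq_mk_iff_isConj, isConj_iff] at h2
    obtain ⟨g', hg'⟩ := h2
    have h3 : q (s cb) = w := by
      rw [← hg', mem_center_iff.1 hw g', mul_inv_cancel_right]
    have hsc : (s cb : G) ∈ Z := by
      rw [hZ, mem_center_iff]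
      intro g
      have hz : (s cb : G)⁻¹ * (g * (s cb : G) * g⁻¹) ∈ Z := by
        rw [← hqk, MonoidHom.mem_ker, map_mul, map_inv, map_mul, map_mul, map_inv, h3,
          mem_center_iff.1 hw (q g), mul_inv_cancel_right, inv_mul_cancel]
      have h4 : Φ (cb, ⟨_, hz⟩) = Φ (cb, 1) := by
        change cls P.isPGroup' _ = cls P.isPGroup' _
        rw [cls_eq_iff]
        refine ⟨g⁻¹, ?_⟩
        change g⁻¹ * ((s cb : G) * ((s cb : G)⁻¹ * (g * (s cb : G) * g⁻¹))) * g⁻¹⁻¹ = (s cb : G) * 1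
        group
      have h5 := hΦi h4
      have h6 : (s cb : G)⁻¹ * (g * (s cb : G) * g⁻¹) = 1 :=
        congrArg (fun a : K2 (G ⧸ Z) × Z => (a.2 : G)) h5
      rw [inv_mul_eq_one] at h6
      rw [eq_mul_inv_iff_mul_eq] at h6
      exact h6.symm
    rw [← h3, ← MonoidHom.mem_ker, hqk]
    exact hsc
  · rw [Nat.card_prod] at hΦcard
    have h1 : 2 * Nat.card (K2 (G ⧸ Z)) * Nat.card Z = Nat.card ↥(Q : Subgroup (G ⧸ Z)) * Nat.card Z := by
      rw [hQcard, ← hk, ← hΦcard, mul_assoc]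
    exact Nat.eq_of_mul_eq_mul_right Nat.card_pos h1

/-- The statement, given the dihedral theorem. -/
theorem main (hGW : Cfsg.Agent.SylowSp4.Hyps.GW.{u}) (hO : oddCore G = ⊥) (P : Sylow 2 G)
    (hk : 2 * Nat.card (K2 G) = Nat.card ↥(P : Subgroup G)) :
    Nonempty (G ⧸ Subgroup.center G ≃* ↥(alternatingGroup (Fin 4))) ∨ Nonempty (G ⧸ Subgroup.center G ≃* Equiv.Perm (Fin 4)) ∨
    ∃ S : Subgroup (G ⧸ Subgroup.center G), S.Normal ∧ IsSimpleGroup ↥S ∧ ¬ IsMulCommutative ↥S ∧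
      Subgroup.centralizer (S : Set (G ⧸ Subgroup.center G)) = ⊥ ∧
      ∃ (F : Type) (_ : Field F) (_ : Fintype F), 3 < Fintype.card F ∧ (Fintype.card F % 8 = 3 ∨ Fintype.card F % 8 = 5) ∧
        Nonempty (↥S ≃* Matrix.ProjectiveSpecialLinearGroup (Fin 2) F) := by
  obtain ⟨hO', hnp, hc, Q, hQ⟩ := reduction hO P hk
  have hgood := good_of_center hO' hc Q hQ
  obtain ⟨P', V, h, F⟩ := exists_frame hgood hnp
  by_cases hR : pCore 2 (G ⧸ center G) = ⊥
  · right; right
    exact Cfsg.Agent.H474.TwoPerf.main hGW F hO' hR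
  · rcases Cfsg.Agent.H474.TwoSolv.main F hO' (Cfsg.Agent.H474.TwoSolv.normal_of_pCore F hR) with h1 | h1
    · left; exact h1
    · right; left; exact h1

end Cfsg.Agent.H474.TwoRed
end

-- part: S3896
section
set_option autoImplicit false
open Cfsg

namespace Cfsg.Agent.S3896

/-- Let G be a finite group whose largest normal subgroup of odd order is trivial, let P be a Sylow 2-subgroup of G, and suppose the number of conjugacy classes of G consisting of 2-elements (elements of 2-power order, the identity included) is exactly |P|/2. Then G/Z(G) is isomorphic to the alternating or the symmetric group of degree 4, or G/Z(G) has a normal non-abelian simple subgroup with trivial centralizer that is isomorphic to PSL₂(q) for some prime power q > 3 with q ≡ 3 or 5 (mod 8). -/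
theorem result {G : Type*} [Group G] [Finite G] (P : Sylow 2 G) (hO : Cfsg.pPrimeCore 2 G = ⊥)
    (hk : 2 * Nat.card {c : ConjClasses G // ∀ x ∈ c.carrier, ∃ k : ℕ, orderOf x = 2 ^ k} = Nat.card ↥(P : Subgroup G)) :
    Nonempty (G ⧸ Subgroup.center G ≃* ↥(alternatingGroup (Fin 4))) ∨ Nonempty (G ⧸ Subgroup.center G ≃* Equiv.Perm (Fin 4)) ∨
    ∃ S : Subgroup (G ⧸ Subgroup.center G), S.Normal ∧ IsSimpleGroup ↥S ∧ ¬ IsMulCommutative ↥S ∧
      Subgroup.centralizer (S : Set (G ⧸ Subgroup.center G)) = ⊥ ∧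
      ∃ (F : Type) (_ : Field F) (_ : Fintype F), 3 < Fintype.card F ∧ (Fintype.card F % 8 = 3 ∨ Fintype.card F % 8 = 5) ∧
        Nonempty (↥S ≃* Matrix.ProjectiveSpecialLinearGroup (Fin 2) F) := by
  exact Cfsg.Agent.H474.TwoRed.main (fun X _ _ _ S n hn hS => Cfsg.Agent.S0483.result S n hn hS) hO P hk

end Cfsg.Agent.S3896
end
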