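import Cfsg.Statements.S4249
import Cfsg.Agent.H550.Hughes
set_option linter.all false

set_option autoImplicit false
open Cfsg

namespace Cfsg.Agent.S4249

/-- Let G be a finite group and p a prime such that G is not a p-group, and suppose the Hughes subgroup H_p(G), generated by all elements g with g^p ≠ 1, is a proper subgroup. Then H_p(G) is nilpotent and has index p in G. -/
theorem result {G : Type*} [Group G] [Finite G] (p : ℕ) (hp : p.Prime) (hG : ¬ IsPGroup p G)
    (hH : Subgroup.closure {g : G | g ^ p ≠ 1} ≠ ⊤) :
    Group.IsNilpotent (Subgroup.closure {g : G | g ^ p ≠ 1}) ∧ (Subgroup.closure {g : G | g ^ p ≠ 1}).index = p := by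
  have hn : (Subgroup.closure {g : G | g ^ p ≠ 1}).Normal := by
    have h1 : Subgroup.closure {g : G | g ^ p ≠ 1} = Subgroup.normalClosure {g : G | g ^ p ≠ 1} := by
      apply le_antisymm Subgroup.closure_le_normalClosure
      rw [Subgroup.normalClosure]
      rw [Subgroup.closure_le]
      intro x hx
      obtain ⟨a, ha, hax⟩ := Group.mem_conjugatesOfSet_iff.1 hx
      obtain ⟨c, rfl⟩ := isConj_iff.1 hax
      apply Subgroup.subset_closure
      intro h
      apply ha
      rw [conj_pow] at h
      have h2 : c⁻¹ * (c * a ^ p * c⁻¹) * c = 1 := by rw [h]; group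
      have h3 : c⁻¹ * (c * a ^ p * c⁻¹) * c = a ^ p := by group
      rwa [h3] at h2
    rw [h1]
    infer_instance
  refine Cfsg.Agent.H550.Hughes.isNilpotent_and_index hp hG _ hH ?_
  intro g hg
  by_contra h
  exact hg (Subgroup.subset_closure h)

end Cfsg.Agent.S4249
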