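import Cfsg.Statements.S3927
import Cfsg.Agent.H486.UniqueMax
set_option linter.all false

set_option autoImplicit false
open Cfsg

namespace Cfsg.Agent.S3927

open Cfsg.Agent.H486.Sn Cfsg.Agent.H486.UniqueMax SemidirectProduct

universe u

/-- the map `c ↦ c α(c)⁻¹` -/
def f {G : Type u} [Group G] (α : MulAut G) (c : G) : G := c * (α c)⁻¹

theorem f_comm {G : Type u} [Group G] (α : MulAut G) (c : G) : f α (α c) = α (f α c) := by
  simp only [f, map_mul, map_inv]

/-- the semidirect product with the cyclic group generated by the automorphism -/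
abbrev Gam {G : Type u} [Group G] (α : MulAut G) : Type u := G ⋊[(Subgroup.zpowers α).subtype] (Subgroup.zpowers α)

theorem finite_Gam {G : Type u} [Group G] [Finite G] (α : MulAut G) : Finite (Gam α) := by
  have : Finite (MulAut G) := Finite.of_injective (fun φ : MulAut G => (φ : G → G)) DFunLike.coe_injective
  exact Finite.of_injective (fun γ : Gam α => (γ.left, γ.right)) (fun a b h =>
    SemidirectProduct.ext (congrArg Prod.fst h) (congrArg Prod.snd h))

section

variable {G : Type u} [Group G] (α : MulAut G)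

/-- the elements with first component in an invariant subgroup -/
def P (N : Subgroup G) (hN : ∀ c ∈ Subgroup.zpowers α, ∀ x ∈ N, c x ∈ N) : Subgroup (Gam α) where
  carrier := {γ | γ.left ∈ N}
  one_mem' := N.one_mem
  mul_mem' := by
    intro a b ha hb
    change a.left * (a.right : MulAut G) b.left ∈ N
    exact N.mul_mem ha (hN _ a.right.2 _ hb)
  inv_mem' := by
    intro a ha
    change ((a.right)⁻¹ : Subgroup.zpowers α).1 (a.left)⁻¹ ∈ N
    exact hN _ (a.right)⁻¹.2 _ (N.inv_mem ha)

theorem mem_P {N : Subgroup G} {hN : ∀ c ∈ Subgroup.zpowers α, ∀ x ∈ N, c x ∈ N} {γ : Gam α} :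
    γ ∈ P α N hN ↔ γ.left ∈ N := Iff.rfl

variable [Finite G]

/-- invariance under the powers follows from invariance under `α` -/
theorem inv_of {N : Subgroup G} (h : ∀ x ∈ N, α x ∈ N) : ∀ c ∈ Subgroup.zpowers α, ∀ x ∈ N, c x ∈ N := by
  intro c hc x hx
  rw [← mem_powers_iff_mem_zpowers] at hc
  obtain ⟨n, rfl⟩ := hc
  induction n with
  | zero => simpa using hx
  | succ n ih =>
    have : (α ^ (n + 1)) x = α ((α ^ n) x) := by rw [pow_succ']; rfl
    change (α ^ (n + 1)) x ∈ N
    rw [this]
    exact h _ ih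

/-- the commutator `[H, α]` of an invariant subgroup -/
def comm (H : Subgroup G) : Subgroup G := Subgroup.closure (f α '' (H : Set G))

omit [Finite G] in
theorem comm_le {H : Subgroup G} (h : ∀ x ∈ H, α x ∈ H) : comm α H ≤ H := by
  rw [comm, Subgroup.closure_le]
  rintro _ ⟨x, hx, rfl⟩
  exact H.mul_mem hx (H.inv_mem (h x hx))

omit [Finite G] in
theorem comm_inv {H : Subgroup G} (h : ∀ x ∈ H, α x ∈ H) : ∀ x ∈ comm α H, α x ∈ comm α H := by
  intro x hx
  have h1 : (comm α H).map α.toMonoidHom ≤ comm α H := by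
    rw [comm, MonoidHom.map_closure, Subgroup.closure_le]
    rintro _ ⟨_, ⟨y, hy, rfl⟩, rfl⟩
    apply Subgroup.subset_closure
    refine ⟨α y, h y hy, ?_⟩
    rw [f_comm]
    rfl
  exact h1 ⟨x, hx, rfl⟩

omit [Finite G] in
theorem comm_normal {H : Subgroup G} : ∀ y ∈ H, ∀ x ∈ comm α H, y * x * y⁻¹ ∈ comm α H := by
  intro y hy x hx
  have h1 : (comm α H).map (MulAut.conj y).toMonoidHom ≤ comm α H := by
    rw [comm, MonoidHom.map_closure, Subgroup.closure_le]
    rintro _ ⟨_, ⟨z, hz, rfl⟩, rfl⟩
    change y * (z * (α z)⁻¹) * y⁻¹ ∈ comm α H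
    have h2 : y * (z * (α z)⁻¹) * y⁻¹ = f α (y * z) * (f α y)⁻¹ := by
      simp only [f, map_mul, mul_inv_rev, inv_inv]
      group
    rw [h2]
    exact (comm α H).mul_mem (Subgroup.subset_closure ⟨_, H.mul_mem hy hz, rfl⟩)
      ((comm α H).inv_mem (Subgroup.subset_closure ⟨_, hy, rfl⟩))
  exact h1 ⟨x, hx, rfl⟩

theorem comm_zpow {H : Subgroup G} (h : ∀ x ∈ H, α x ∈ H) : ∀ c ∈ Subgroup.zpowers α, ∀ x ∈ H,
    x * (c x)⁻¹ ∈ comm α H := by
  intro c hc x hx
  rw [← mem_powers_iff_mem_zpowers] at hc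
  obtain ⟨n, rfl⟩ := hc
  induction n generalizing x with
  | zero => simp
  | succ n ih =>
    change x * ((α ^ (n + 1)) x)⁻¹ ∈ comm α H
    have h1 : (α ^ (n + 1)) x = (α ^ n) (α x) := by rw [pow_succ]; rfl
    have h2 : x * ((α ^ (n + 1)) x)⁻¹ = f α x * (α x * ((α ^ n) (α x))⁻¹) := by
      rw [h1, f]; group
    rw [h2]
    exact (comm α H).mul_mem (Subgroup.subset_closure ⟨_, hx, rfl⟩) (ih _ (h x hx))

/-- the subgroup generated by the automorphism -/
abbrev AA : Subgroup (Gam α) := (inr : Subgroup.zpowers α →* Gam α).range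

omit [Finite G] in
theorem left_mem_of {H : Subgroup (Gam α)} (hA : AA α ≤ H) {γ : Gam α} : γ ∈ H ↔ inl γ.left ∈ H := by
  have h1 : inr γ.right ∈ H := hA ⟨_, rfl⟩
  constructor
  · intro h
    have h2 := H.mul_mem h (H.inv_mem h1)
    have h3 : γ * (inr γ.right)⁻¹ = inl γ.left := by
      rw [mul_inv_eq_iff_eq_mul, inl_left_mul_inr_right]
    rwa [h3] at h2
  · intro h
    have h2 := H.mul_mem h h1
    rwa [inl_left_mul_inr_right] at h2

omit [Finite G] in
theorem inv_comap {H : Subgroup (Gam α)} (hA : AA α ≤ H) :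
    ∀ x ∈ H.comap inl, α x ∈ H.comap (inl : G →* Gam α) := by
  intro x hx
  rw [Subgroup.mem_comap] at hx ⊢
  have h1 := inl_aut (φ := (Subgroup.zpowers α).subtype) (⟨α, Subgroup.mem_zpowers α⟩ : Subgroup.zpowers α) x
  have h2 : (inl (α x) : Gam α) = _ := h1
  rw [h2]
  exact H.mul_mem (H.mul_mem (hA ⟨_, rfl⟩) hx) (hA ⟨_, rfl⟩)

/-- `NC` in the semidirect product -/
theorem comm_eq_of_nc {H : Subgroup (Gam α)} (h : NC (AA α) H) :
    comm α (H.comap inl) = H.comap (inl : G →* Gam α) := by
  have := finite_Gam α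
  have hinv := inv_comap α h.1
  have hinvC := inv_of α (comm_inv α hinv)
  have h1 := h.2 (P α (comm α (H.comap inl)) hinvC) ?_ ?_ ?_
  · apply le_antisymm (comm_le α hinv)
    intro x hx
    have h2 : (inl x : Gam α) ∈ P α (comm α (H.comap inl)) hinvC := by rw [h1]; exact hx
    exact h2
  · rintro _ ⟨c, rfl⟩
    rw [mem_P, left_inr]
    exact Subgroup.one_mem _
  · intro γ hγ
    rw [left_mem_of α h.1]
    exact comm_le α hinv hγ
  · intro γ hγ
    have hx : γ.left ∈ H.comap inl := (left_mem_of α h.1).1 hγ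
    rw [← cj_eq_self_iff]
    apply eq_of_cj_le
    intro δ hδ
    rw [mem_cj, mem_P] at hδ
    rw [mem_P]
    -- `δ = γ ε γ⁻¹`
    set ε := γ⁻¹ * δ * γ with hε
    have hδε : δ = γ * ε * γ⁻¹ := by rw [hε]; group
    rw [hδε]
    change γ.left * (γ.right : MulAut G) ε.left *
      ((γ.right * ε.right : Subgroup.zpowers α) : MulAut G) (((γ.right)⁻¹ : Subgroup.zpowers α).1 (γ.left)⁻¹) ∈ _
    set c : MulAut G := ((γ.right * ε.right : Subgroup.zpowers α) : MulAut G) *
      ((γ.right)⁻¹ : Subgroup.zpowers α).1 with hc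
    have hcz : c ∈ Subgroup.zpowers α := (Subgroup.zpowers α).mul_mem (γ.right * ε.right).2 (γ.right)⁻¹.2
    have e1 : ((γ.right * ε.right : Subgroup.zpowers α) : MulAut G)
        (((γ.right)⁻¹ : Subgroup.zpowers α).1 (γ.left)⁻¹) = (c γ.left)⁻¹ := by
      rw [← map_inv c]; rfl
    rw [e1]
    have e2 : γ.left * (γ.right : MulAut G) ε.left * (c γ.left)⁻¹ =
        (γ.left * (γ.right : MulAut G) ε.left * (γ.left)⁻¹) * (γ.left * (c γ.left)⁻¹) := by group
    rw [e2]
    exact Subgroup.mul_mem _ (comm_normal α _ hx _ (hinvC _ γ.right.2 _ hδ))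
      (comm_zpow α hinv c hcz _ hx)

end

theorem aux (n : ℕ) : ∀ (G : Type u) [Group G] [Finite G], Nat.card G = n → ∀ (α : MulAut G),
    Subgroup.closure (Set.range (f α)) = ⊤ → ∀ k : ℕ, Subgroup.closure (Set.range ((f α)^[k])) = ⊤ := by
  induction n using Nat.strong_induction_on with
  | _ n ih =>
    intro G _ _ hn α hG k
    have := finite_Gam α
    set K := Subgroup.closure (Set.range ((f α)^[k])) with hK
    by_contra hKt
    have hiter : ∀ j : ℕ, ∀ x : G, (f α)^[j] (α x) = α ((f α)^[j] x) := by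
      intro j
      induction j with
      | zero => intro x; rfl
      | succ j ihj =>
        intro x
        rw [Function.iterate_succ_apply, f_comm, ihj, Function.iterate_succ_apply]
    have hKinv : ∀ x ∈ K, α x ∈ K := by
      intro x hx
      have h1 : K.map α.toMonoidHom ≤ K := by
        rw [hK, MonoidHom.map_closure, Subgroup.closure_le]
        rintro _ ⟨_, ⟨y, rfl⟩, rfl⟩
        apply Subgroup.subset_closure
        exact ⟨α y, hiter k y⟩
      exact h1 ⟨x, hx, rfl⟩
    have hKC := inv_of α hKinv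
    set PK := P α K hKC with hPK
    have hAPK : AA α ≤ PK := by
      rintro _ ⟨c, rfl⟩
      rw [hPK, mem_P, left_inr]
      exact Subgroup.one_mem _
    have hPKt : PK ≠ ⊤ := by
      intro h
      apply hKt
      rw [eq_top_iff]
      intro x _
      have h1 : (inl x : Gam α) ∈ PK := by rw [h]; exact Subgroup.mem_top _
      exact h1
    have hAt : AA α ≠ ⊤ := fun h => hPKt (top_le_iff.1 (h ▸ hAPK))
    have hcomm : comm α ⊤ = ⊤ := by
      rw [comm, Subgroup.coe_top, Set.image_univ]; exact hG
    have hnc : NC (AA α) ⊤ := by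
      refine ⟨le_top, fun N h1 _ h3 => ?_⟩
      rw [eq_top_iff]
      intro γ _
      rw [left_mem_of α h1]
      have h4 : Subgroup.closure (Set.range (f α)) ≤ N.comap (inl : G →* Gam α) := by
        rw [Subgroup.closure_le]
        rintro _ ⟨x, rfl⟩
        change (inl (f α x) : Gam α) ∈ N
        have h5 : (inl x : Gam α) * inr ⟨α, Subgroup.mem_zpowers α⟩ * (inl x)⁻¹ ∈ N :=
          (Subgroup.mem_normalizer_iff.1 (h3 (Subgroup.mem_top (inl x))) _).1 (h1 ⟨_, rfl⟩)
        have h6 := N.mul_mem h5 (N.inv_mem (h1 ⟨⟨α, Subgroup.mem_zpowers α⟩, rfl⟩))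
        have h7 : (inl x : Gam α) * inr ⟨α, Subgroup.mem_zpowers α⟩ * (inl x)⁻¹ *
            (inr (⟨α, Subgroup.mem_zpowers α⟩ : Subgroup.zpowers α))⁻¹ = inl (f α x) := by
          have h8 := inl_aut (φ := (Subgroup.zpowers α).subtype) (⟨α, Subgroup.mem_zpowers α⟩ : Subgroup.zpowers α) x⁻¹
          rw [map_inv, map_inv inl, map_inv inr] at h8
          have h9 : f α x = x * (α x)⁻¹ := rfl
          rw [h9, map_mul inl, map_inv inl]
          have h10 : ((inl (α x) : Gam α))⁻¹ = inr ⟨α, Subgroup.mem_zpowers α⟩ * (inl x)⁻¹ *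
            (inr (⟨α, Subgroup.mem_zpowers α⟩ : Subgroup.zpowers α))⁻¹ := h8
          rw [h10]
          group
        rw [h7] at h6
        exact h6
      rw [hG] at h4
      exact h4 (Subgroup.mem_top _)
    -- the members of the family are in `PK`
    have hfam : ∀ H ∈ Fam (AA α), H ≤ PK := by
      rintro H ⟨hH, hHt⟩
      have h1 := comm_eq_of_nc α hH
      have hinv := inv_comap α hH.1
      set H0 := H.comap (inl : G →* Gam α) with hH0
      have hH0t : H0 ≠ ⊤ := by
        intro h
        apply hHt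
        rw [eq_top_iff]
        intro γ _
        rw [left_mem_of α hH.1]
        have : γ.left ∈ H0 := by rw [h]; exact Subgroup.mem_top _
        exact this
      -- the restriction of `α`
      have hinv' := inv_of α hinv
      let β : MulAut H0 :=
        { toFun := fun x => ⟨α x, hinv x x.2⟩
          invFun := fun x => ⟨α⁻¹ x, hinv' _ ((Subgroup.zpowers α).inv_mem (Subgroup.mem_zpowers α)) x x.2⟩
          left_inv := fun x => Subtype.ext (MulAut.inv_apply_self G α x)
          right_inv := fun x => Subtype.ext (MulAut.apply_inv_self G α x)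
          map_mul' := fun x y => Subtype.ext (map_mul α _ _) }
      have hβ : ∀ j : ℕ, ∀ x : H0, (((f β)^[j] x : H0) : G) = (f α)^[j] x := by
        intro j
        induction j with
        | zero => intro x; rfl
        | succ j ihj =>
          intro x
          rw [Function.iterate_succ_apply, ihj, Function.iterate_succ_apply]
          rfl
      have h2 : Subgroup.closure (Set.range (f β)) = ⊤ := by
        apply Subgroup.map_injective H0.subtype_injective
        rw [MonoidHom.map_closure, ← MonoidHom.range_eq_map, Subgroup.range_subtype, ← Set.range_comp]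
        refine Eq.trans ?_ h1
        rw [comm]
        congr 1
        ext y
        constructor
        · rintro ⟨x, rfl⟩
          exact ⟨x, x.2, rfl⟩
        · rintro ⟨x, hx, rfl⟩
          exact ⟨⟨x, hx⟩, rfl⟩
      have hcard : Nat.card H0 < n := by
        rw [← hn]
        refine lt_of_le_of_ne (Subgroup.card_le_card_group H0) (fun h => hH0t ?_)
        exact Subgroup.eq_top_of_card_eq H0 h
      have h3 := ih _ hcard H0 rfl β h2 k
      have h4 : H0 ≤ K := by
        have h5 : (⊤ : Subgroup H0).map H0.subtype ≤ K := by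
          rw [← h3, MonoidHom.map_closure, Subgroup.closure_le]
          rintro _ ⟨_, ⟨x, rfl⟩, rfl⟩
          apply Subgroup.subset_closure
          exact ⟨x, (hβ k x).symm⟩
        rwa [← MonoidHom.range_eq_map, Subgroup.range_subtype] at h5
      intro γ hγ
      rw [hPK, mem_P]
      exact h4 ((left_mem_of α hH.1).1 hγ)
    obtain ⟨M, hM, hAM, hun⟩ := main hnc hAt (fun h => hPKt (top_le_iff.1 (h ▸ sSup_le hfam)))
    have hPKM : PK ≤ M := by
      obtain ⟨M', hM', hle⟩ := (eq_top_or_exists_le_coatom PK).resolve_left hPKt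
      rw [← hun M' hM' (hAPK.trans hle)]
      exact hle
    have hPk : ∀ x : G, (inl ((f α)^[k] x) : Gam α) ∈ M := by
      intro x
      apply hPKM
      rw [hPK, mem_P, left_inl]
      exact Subgroup.subset_closure ⟨x, rfl⟩
    have hP0 : ¬ ∀ x : G, (inl ((f α)^[0] x) : Gam α) ∈ M := by
      intro h
      apply hM.1
      rw [eq_top_iff]
      intro γ _
      rw [left_mem_of α hAM]
      exact h γ.left
    obtain ⟨j, hj1, hj2⟩ : ∃ j, (¬ ∀ x : G, (inl ((f α)^[j] x) : Gam α) ∈ M) ∧
        ∀ x : G, (inl ((f α)^[j + 1] x) : Gam α) ∈ M := by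
      classical
      by_contra hcon
      push Not at hcon
      have : ∀ j, ¬ ∀ x : G, (inl ((f α)^[j] x) : Gam α) ∈ M := by
        intro j
        induction j with
        | zero => exact hP0
        | succ j ihj =>
          intro h
          push Not at ihj
          obtain ⟨x, hx⟩ := hcon j ihj
          exact hx (h x)
      exact this k hPk
    push Not at hj1
    obtain ⟨x, hx⟩ := hj1
    set g := (f α)^[j] x with hg
    have hfg : (inl (f α g) : Gam α) ∈ M := by
      have := hj2 x
      rwa [Function.iterate_succ_apply'] at this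
    -- `A` lies in the conjugate of `M`
    have hle : cj (inl g) (AA α) ≤ M := by
      intro γ hγ
      rw [mem_cj] at hγ
      obtain ⟨c, hc⟩ := hγ
      have h1 : γ = inl g * inr c * (inl g)⁻¹ := by rw [hc]; group
      have hcz := c.2
      rw [← mem_powers_iff_mem_zpowers] at hcz
      obtain ⟨i, hi⟩ := hcz
      have h2 : (inr c : Gam α) = (inr ⟨α, Subgroup.mem_zpowers α⟩) ^ i := by
        rw [← map_pow]
        congr 1
        exact Subtype.ext hi.symm
      have h3 : γ = (inl g * inr ⟨α, Subgroup.mem_zpowers α⟩ * (inl g)⁻¹) ^ i := by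
        rw [h1, h2, conj_pow]
      rw [h3]
      apply Subgroup.pow_mem
      have h8 := inl_aut (φ := (Subgroup.zpowers α).subtype) (⟨α, Subgroup.mem_zpowers α⟩ : Subgroup.zpowers α) g⁻¹
      rw [map_inv, map_inv inl, map_inv inr] at h8
      have h10 : ((inl (α g) : Gam α))⁻¹ = inr ⟨α, Subgroup.mem_zpowers α⟩ * (inl g)⁻¹ *
        (inr (⟨α, Subgroup.mem_zpowers α⟩ : Subgroup.zpowers α))⁻¹ := h8
      have h11 : (inl g : Gam α) * inr ⟨α, Subgroup.mem_zpowers α⟩ * (inl g)⁻¹ =
          inl (f α g) * inr ⟨α, Subgroup.mem_zpowers α⟩ := by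
        have h9 : f α g = g * (α g)⁻¹ := rfl
        rw [h9, map_mul inl, map_inv inl, h10]
        group
      rw [h11]
      exact M.mul_mem hfg (hAM ⟨_, rfl⟩)
    have h1 : AA α ≤ cj (inl g)⁻¹ M := cj_le_iff.1 hle
    have h2 := hun _ (isCoatom_cj.2 hM) h1
    have h3 : (inl g : Gam α)⁻¹ ∈ M := by
      have h4 : cj 1 (AA α) ≤ M := by rw [cj_one]; exact hAM
      exact mem_of_cj_eq hnc hM h4 h2
    exact hx ((Subgroup.inv_mem_iff M).1 h3)

/-- Let G be a finite group and α an automorphism of G with [G, α] = G, that is, the elements g·α(g)⁻¹ generate G. Then for every k ≥ 1 the iterated commutators [g, α, …, α] with k entries α — the values of the k-th iterate of the map c ↦ c·α(c)⁻¹ — also generate G. -/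
theorem result {G : Type*} [Group G] [Finite G] (α : MulAut G) (hG : Subgroup.closure (Set.range (fun c : G => c * (α c)⁻¹)) = ⊤) (k : ℕ) (hk : 1 ≤ k) :
    Subgroup.closure (Set.range ((fun c : G => c * (α c)⁻¹)^[k])) = ⊤ :=
  aux _ G rfl α hG k

end Cfsg.Agent.S3927
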