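import Mathlib
import Cfsg.Agent.LieRecognition.SzMatrix
import Cfsg.Agent.H483.SeqLaw
import Cfsg.Agent.MinSimple.OddNatEnd_mg_m3
import Cfsg.Statements.S3935
import Cfsg.Agent.Classification.MinSimpleStrong
import Cfsg.Agent.FastGrp
import Cfsg.Agent.Prune
set_option linter.all false

section
prune_inst 0x7ffffdfbfff9f7ffdfff7e7ffedffffdf9ffffffbfdffbcbffe8e1ffaf9f7b02f9656b891fe858ff0ed6e0b630f87b53fbfffeffee6ffc7ffffdfff45ffbffcfedf7bd8851968c340f300ff703f07fce7f3fffffffffffffffffffffffffffbeffffffffffff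

-- part: H482/SzPair
section
prune_inst 0x2040000080000000180000000000400000040000000000404000040840c0082003480030100102102080c040080000000000000000000000000000000001000000120090080008c00086000000000000000000000000000000000000000000000000000
set_option linter.all false
open scoped Cfsg.Agent.FastGrp
private noncomputable def lq26f63394d3 {T : Sort _} (f :
    type_of% (@_root_.List.cons.{0}) →
    type_of% (@_root_.List.nil.{0}) →
    type_of% (@_root_.List.cons.{0} (List (Prod (List Nat) (List Nat)))) →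
    type_of% (@_root_.List.cons.{0} (Nat)) →
    type_of% (@_root_.Prod.mk.{0, 0}) → T) : T :=
  f (@_root_.List.cons.{0}) (@_root_.List.nil.{0}) (@_root_.List.cons.{0} (List (Prod (List Nat) (List Nat)))) (@_root_.List.cons.{0} (Nat)) (@_root_.Prod.mk.{0, 0})

/-- decoders of the packed data (elaboration time only) -/
private noncomputable def pk61d (b S i : Nat) : Nat := Nat.mod (Nat.shiftRight S (Nat.mul b i)) (Nat.shiftLeft (nat_lit 1) b)
private noncomputable def pk61f {α : Type} (t : Nat) (f : Nat → α) : α := Nat.rec (f Nat.zero) (fun k _ => f (Nat.succ k)) t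
private noncomputable def pk61l {α : Type} (f : Nat → α) (s e : Nat) (tl : List α) : List α :=
  pk61f e fun e => Nat.rec tl (fun k ih => List.cons (pk61f (Nat.sub e (Nat.succ k)) f) ih) (Nat.sub e s)

-- part: H482/F2Poly
section
/-!
# A small reflective checker for polynomial identities in characteristic two

Monomials are encoded as natural numbers in a mixed radix; a polynomial is a list of monomials. A sum of products of
polynomials vanishes if the exclusive or of the corresponding bit masks is zero (and no carries occur).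
-/

set_option autoImplicit false

namespace Cfsg.Agent.H482.F2Poly

/-- Value of the monomial `i` (mixed radix `Rs`) at the point `vs`. -/
def evM {K : Type*} [CommRing K] : List ℕ → List K → ℕ → K
  | R :: Rs, v :: vs, i => v ^ (i % R) * evM Rs vs (i / R)
  | _, _, _ => 1

/-- Value of a polynomial. -/
def evP {K : Type*} [CommRing K] (Rs : List ℕ) (vs : List K) : List ℕ → K
  | [] => 0
  | m :: L => evM Rs vs m + evP Rs vs L

/-- All digits of `i` are bounded by the given list. -/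
def degLe : List ℕ → List ℕ → ℕ → Bool
  | R :: Rs, b :: bs, i => Nat.ble (i % R) b && degLe Rs bs (i / R)
  | [], [], i => Nat.beq i 0
  | _, _, _ => false

/-- A polynomial all of whose monomials are bounded. -/
def allDeg (Rs bs : List ℕ) : List ℕ → Bool
  | [] => true
  | m :: L => degLe Rs bs m && allDeg Rs bs L

/-- Sum of the bounds. -/
def addB : List ℕ → List ℕ → List ℕ
  | a :: as, b :: bs => (a + b) :: addB as bs
  | _, _ => []

/-- The bounds are below the radices. -/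
def okB : List ℕ → List ℕ → Bool
  | R :: Rs, b :: bs => Nat.ble (b + 1) R && okB Rs bs
  | [], [] => true
  | _, _ => false

theorem evM_add {K : Type*} [CommRing K] : ∀ (Rs : List ℕ) (vs : List K) (as bs : List ℕ) (i j : ℕ),
    degLe Rs as i = true → degLe Rs bs j = true → okB Rs (addB as bs) = true →
    evM Rs vs (i + j) = evM Rs vs i * evM Rs vs j ∧ degLe Rs (addB as bs) (i + j) = true
  | [], vs, as, bs, i, j => by
    intro hi hj hk
    cases as with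
    | cons a as => simp [degLe] at hi
    | nil =>
      cases bs with
      | cons b bs => simp [degLe] at hj
      | nil =>
        simp only [degLe] at hi hj
        have hi := Nat.eq_of_beq_eq_true hi
        have hj := Nat.eq_of_beq_eq_true hj
        subst hi; subst hj
        simp [evM, addB, degLe]
  | R :: Rs, vs, as, bs, i, j => by
    intro hi hj hk
    cases as with
    | nil => simp [degLe] at hi
    | cons a as =>
      cases bs with
      | nil => simp [degLe] at hj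
      | cons b bs =>
        simp only [degLe, Bool.and_eq_true, Nat.ble_eq] at hi hj
        simp only [addB, okB, Bool.and_eq_true, Nat.ble_eq] at hk
        have hR : 0 < R := by omega
        have h1 : (i + j) % R = i % R + j % R := by
          rw [Nat.add_mod, Nat.mod_eq_of_lt]; omega
        have h2 : (i + j) / R = i / R + j / R := by
          rw [Nat.add_div hR, if_neg (by omega)]; rfl
        cases vs with
        | nil =>
          obtain ⟨h3, h4⟩ := evM_add Rs ([] : List K) as bs (i / R) (j / R) hi.2 hj.2 hk.2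
          refine ⟨by simp [evM], ?_⟩
          simp only [addB, degLe, Bool.and_eq_true, Nat.ble_eq]
          rw [h1, h2]
          exact ⟨by omega, h4⟩
        | cons v vs =>
          obtain ⟨h3, h4⟩ := evM_add Rs vs as bs (i / R) (j / R) hi.2 hj.2 hk.2
          refine ⟨?_, ?_⟩
          · simp only [evM]
            rw [h1, h2, h3, pow_add]; ring
          · simp only [addB, degLe, Bool.and_eq_true, Nat.ble_eq]
            rw [h1, h2]
            exact ⟨by omega, h4⟩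

/-- Full expansion of a product of polynomials as a list of monomials. -/
def expand : List (List ℕ) → List ℕ
  | [] => [0]
  | a :: rest => a.flatMap fun m => (expand rest).map (m + ·)

theorem evP_append {K : Type*} [CommRing K] (Rs : List ℕ) (vs : List K) (L L' : List ℕ) :
    evP Rs vs (L ++ L') = evP Rs vs L + evP Rs vs L' := by
  induction L with
  | nil => simp [evP]
  | cons m L ih => simp [evP, ih, add_assoc]

/-- The product of the values of the factors. -/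
def evProd {K : Type*} [CommRing K] (Rs : List ℕ) (vs : List K) : List (List ℕ) → K
  | [] => 1
  | a :: rest => evP Rs vs a * evProd Rs vs rest

/-- Check of the degree bounds: `t` is a product of polynomials with explicit bounds. -/
def bnd (Rs : List ℕ) : List (List ℕ × List ℕ) → List ℕ
  | [] => Rs.map fun _ => 0
  | p :: rest => addB p.1 (bnd Rs rest)

/-- All factors satisfy their degree bounds and the partial sums of the bounds are below the radices. -/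
def okT (Rs : List ℕ) : List (List ℕ × List ℕ) → Bool
  | [] => true
  | p :: rest => allDeg Rs p.1 p.2 && okB Rs (addB p.1 (bnd Rs rest)) && okT Rs rest

theorem degLe_zero : ∀ Rs : List ℕ, degLe Rs (Rs.map fun _ => 0) 0 = true
  | [] => rfl
  | R :: Rs => by
    simp only [List.map_cons, degLe, Nat.zero_mod, Nat.zero_div, Bool.and_eq_true, Nat.ble_eq, le_refl, true_and]
    exact degLe_zero Rs

theorem evM_zero {K : Type*} [CommRing K] : ∀ (Rs : List ℕ) (vs : List K), evM Rs vs 0 = 1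
  | [], _ => by simp [evM]
  | R :: Rs, [] => by simp [evM]
  | R :: Rs, v :: vs => by simp [evM, evM_zero Rs vs]

theorem expand_ok {K : Type*} [CommRing K] (Rs : List ℕ) (vs : List K) :
    ∀ t : List (List ℕ × List ℕ), okT Rs t = true →
      evP Rs vs (expand (t.map Prod.snd)) = evProd Rs vs (t.map Prod.snd) ∧
      allDeg Rs (bnd Rs t) (expand (t.map Prod.snd)) = true
  | [], _ => by
    refine ⟨by simp [expand, evP, evProd, evM_zero], ?_⟩
    simp only [List.map_nil, expand, allDeg, bnd, Bool.and_true]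
    exact degLe_zero Rs
  | p :: rest, h => by
    simp only [okT, Bool.and_eq_true] at h
    obtain ⟨⟨h1, h2⟩, h3⟩ := h
    obtain ⟨h4, h5⟩ := expand_ok Rs vs rest h3
    simp only [List.map_cons, expand, evProd, bnd]
    rw [← h4]
    generalize expand (rest.map Prod.snd) = E at h5 ⊢
    generalize bnd Rs rest = B at h2 h5 ⊢
    have key : ∀ (m : ℕ), degLe Rs p.1 m = true → ∀ E : List ℕ, allDeg Rs B E = true →
        evP Rs vs (E.map (m + ·)) = evM Rs vs m * evP Rs vs E ∧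
        allDeg Rs (addB p.1 B) (E.map (m + ·)) = true := by
      intro m hm E hE
      induction E with
      | nil => simp [evP, allDeg]
      | cons n E ih =>
        simp only [allDeg, Bool.and_eq_true] at hE
        obtain ⟨i1, i2⟩ := ih hE.2
        obtain ⟨j1, j2⟩ := evM_add Rs vs p.1 B m n hm hE.1 h2
        refine ⟨?_, ?_⟩
        · simp only [List.map_cons, evP]
          rw [i1, j1]; ring
        · simp only [List.map_cons, allDeg, Bool.and_eq_true]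
          exact ⟨j2, i2⟩
    have happ : ∀ L L' : List ℕ, allDeg Rs (addB p.1 B) L = true → allDeg Rs (addB p.1 B) L' = true →
        allDeg Rs (addB p.1 B) (L ++ L') = true := by
      intro L L' hL hL'
      induction L with
      | nil => simpa using hL'
      | cons m L ih =>
        simp only [allDeg, Bool.and_eq_true, List.cons_append] at hL ⊢
        exact ⟨hL.1, ih hL.2⟩
    generalize p.2 = a at h1 ⊢
    induction a with
    | nil => simp [evP, allDeg]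
    | cons m a ih =>
      simp only [allDeg, Bool.and_eq_true] at h1
      obtain ⟨i1, i2⟩ := ih h1.2
      obtain ⟨j1, j2⟩ := key m h1.1 E h5
      refine ⟨?_, ?_⟩
      · rw [List.flatMap_cons, evP_append, i1, j1]
        simp only [evP]; ring
      · rw [List.flatMap_cons]
        exact happ _ _ j2 i2

/-- Parity of the number of occurrences. -/
def par : List ℕ → ℕ → Bool
  | [], _ => false
  | m :: L, i => (m == i) ^^ par L i

theorem par_append (L L' : List ℕ) (i : ℕ) : par (L ++ L') i = (par L i ^^ par L' i) := by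
  induction L with
  | nil => simp [par]
  | cons m L ih => simp [par, ih]

theorem par_map_add (m : ℕ) (L : List ℕ) (i : ℕ) :
    par (L.map (m + ·)) i = (decide (m ≤ i) && par L (i - m)) := by
  induction L with
  | nil => simp [par]
  | cons n L ih =>
    simp only [List.map_cons, par, ih]
    by_cases h : m ≤ i
    · simp only [h, decide_true, Bool.true_and]
      congr 1
      rw [Bool.eq_iff_iff, beq_iff_eq, beq_iff_eq]
      omega
    · simp only [h, decide_false, Bool.false_and, Bool.xor_false]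
      rw [beq_eq_false_iff_ne]; omega

theorem evP_eq_sum {K : Type*} [CommRing K] [CharP K 2] (Rs : List ℕ) (vs : List K) (B : ℕ) :
    ∀ L : List ℕ, (∀ m ∈ L, m < B) →
      evP Rs vs L = ∑ i ∈ Finset.range B, if par L i then evM Rs vs i else 0
  | [], _ => by simp [evP, par]
  | m :: L, h => by
    rw [evP, evP_eq_sum Rs vs B L fun n hn => h n (List.mem_cons_of_mem _ hn)]
    have hm : m ∈ Finset.range B := Finset.mem_range.2 (h m List.mem_cons_self)
    have h1 : evM Rs vs m = ∑ i ∈ Finset.range B, if m = i then evM Rs vs i else 0 := by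
      rw [Finset.sum_ite_eq, if_pos hm]
    rw [h1, ← Finset.sum_add_distrib]
    refine Finset.sum_congr rfl fun i _ => ?_
    simp only [par]
    by_cases h2 : m = i
    · subst h2
      by_cases h3 : par L m = true
      · simp only [h3, if_true, beq_self_eq_true, Bool.xor_true, Bool.not_true, Bool.false_eq_true, if_false]
        exact CharTwo.add_self_eq_zero _
      · simp only [Bool.not_eq_true] at h3
        simp [h3]
    · have : (m == i) = false := by rw [beq_eq_false_iff_ne]; exact h2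
      simp [this, h2]

theorem evP_eq_zero {K : Type*} [CommRing K] [CharP K 2] (Rs : List ℕ) (vs : List K) (L : List ℕ)
    (h : ∀ i, par L i = false) : evP Rs vs L = 0 := by
  have hB : ∀ m ∈ L, m < L.foldr max 0 + 1 := by
    intro m hm
    induction L with
    | nil => simp at hm
    | cons n L ih =>
      clear h
      have : ∀ L : List ℕ, ∀ m ∈ L, m ≤ L.foldr max 0 := by
        intro L m hm
        induction L with
        | nil => simp at hm
        | cons n L ih =>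
          rw [List.foldr_cons]
          rcases List.mem_cons.1 hm with rfl | hm
          · exact le_max_left _ _
          · exact (ih hm).trans (le_max_right _ _)
      exact Nat.lt_succ_of_le (this _ m hm)
  rw [evP_eq_sum Rs vs _ L hB]
  simp [h]

/-- Bit mask of a product of polynomials. -/
def pbits : List (List ℕ) → ℕ
  | [] => 1
  | a :: rest => a.foldl (fun acc m => Nat.xor acc (Nat.shiftLeft (pbits rest) m)) 0

theorem testBit_foldl (P : ℕ) (E : List ℕ) (hE : ∀ i, P.testBit i = par E i) (a : List ℕ) :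
    ∀ (acc : ℕ) (L : List ℕ), (∀ i, acc.testBit i = par L i) → ∀ i,
      (a.foldl (fun acc m => Nat.xor acc (Nat.shiftLeft P m)) acc).testBit i =
        par (L ++ a.flatMap fun m => E.map (m + ·)) i := by
  induction a with
  | nil => intro acc L h i; simp [h]
  | cons m a ih =>
    intro acc L h i
    rw [List.foldl_cons, ih _ (L ++ E.map (m + ·))]
    · rw [List.flatMap_cons, List.append_assoc]
    · intro i
      rw [par_append, par_map_add, ← h, ← hE]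
      change (acc ^^^ (P <<< m)).testBit i = _
      rw [Nat.testBit_xor, Nat.testBit_shiftLeft]

theorem testBit_pbits : ∀ (t : List (List ℕ)) (i : ℕ), (pbits t).testBit i = par (expand t) i
  | [], i => by
    simp only [pbits, expand, par, Bool.xor_false]
    cases i with
    | zero => rfl
    | succ i => rw [Nat.testBit_succ]; simp
  | a :: rest, i => by
    have := testBit_foldl (pbits rest) (expand rest) (testBit_pbits rest) a 0 []
      (by intro i; simp [par]) i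
    simpa [pbits, expand] using this

/-- Bit mask of a sum of products. -/
def sbits : List (List (List ℕ × List ℕ)) → ℕ
  | [] => 0
  | t :: ts => Nat.xor (pbits (t.map Prod.snd)) (sbits ts)

/-- All degree checks. -/
def okS (Rs : List ℕ) : List (List (List ℕ × List ℕ)) → Bool
  | [] => true
  | t :: ts => okT Rs t && okS Rs ts

/-- The value of a sum of products. -/
def evS {K : Type*} [CommRing K] (Rs : List ℕ) (vs : List K) : List (List (List ℕ × List ℕ)) → K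
  | [] => 0
  | t :: ts => evProd Rs vs (t.map Prod.snd) + evS Rs vs ts

/-- The checker. -/
def check (Rs : List ℕ) (ts : List (List (List ℕ × List ℕ))) : Bool := Nat.beq (sbits ts) 0 && okS Rs ts

theorem evS_eq_zero {K : Type*} [CommRing K] [CharP K 2] (Rs : List ℕ) (vs : List K)
    (ts : List (List (List ℕ × List ℕ))) (h : check Rs ts = true) : evS Rs vs ts = 0 := by
  simp only [check, Bool.and_eq_true] at h
  obtain ⟨h0, hok⟩ := h
  have h0 := Nat.eq_of_beq_eq_true h0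
  have key : ∀ ts : List (List (List ℕ × List ℕ)), okS Rs ts = true →
      ∃ L : List ℕ, evP Rs vs L = evS Rs vs ts ∧ ∀ i, (sbits ts).testBit i = par L i := by
    intro ts
    induction ts with
    | nil => intro _; exact ⟨[], by simp [evP, evS], by intro i; simp [sbits, par]⟩
    | cons t ts ih =>
      intro h
      simp only [okS, Bool.and_eq_true] at h
      obtain ⟨L, h1, h2⟩ := ih h.2
      refine ⟨expand (t.map Prod.snd) ++ L, ?_, ?_⟩
      · rw [evP_append, h1, (expand_ok Rs vs t h.1).1]; rfl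
      · intro i
        rw [par_append, ← h2, ← testBit_pbits]
        change ((pbits (t.map Prod.snd)) ^^^ (sbits ts)).testBit i = _
        rw [Nat.testBit_xor]
  obtain ⟨L, h1, h2⟩ := key ts hok
  rw [← h1]
  apply evP_eq_zero
  intro i
  rw [← h2, h0]
  simp

end Cfsg.Agent.H482.F2Poly
end

-- part: H482/SzBase
section
/-!
# The basic relations of the Suzuki parametrisation (generated)

Variables `x, X`; `u = 1 + X + x X`, `v = 1 + x^2 + x^2 X`.
-/

set_option autoImplicit false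
set_option maxRecDepth 100000

namespace Cfsg.Agent.H482.SzBase

open Cfsg.Agent.H482.F2Poly

variable {K : Type*} [CommRing K]

/-- Radices. -/
def Rs : List ℕ := [23, 17]

/-- atom -/
def a_x : List ℕ × List ℕ := ([1, 0], [1])

/-- atom -/
def a_X : List ℕ × List ℕ := ([0, 1], [23])

/-- atom -/
def a_u : List ℕ × List ℕ := ([1, 1], [0, 23, 24])

/-- atom -/
def a_v : List ℕ × List ℕ := ([2, 1], [0, 2, 25])

/-- atom -/
def a_A : List ℕ × List ℕ := ([4, 2], [0, 49, 50])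

/-- atom -/
def a_B : List ℕ × List ℕ := ([4, 4], [0, 73, 96])

/-- atom -/
def a_m : List ℕ × List ℕ := ([4, 2], [0, 25, 48, 50])

/-- atom -/
def a_n : List ℕ × List ℕ := ([4, 4], [0, 48, 50, 96])

theorem ev_a_x (x X : K) : evP Rs [x, X] a_x.2 = x := by
  simp only [a_x, Rs, evP, evM, Nat.reduceMod, Nat.reduceDiv, pow_zero, pow_one, one_mul, mul_one, add_zero] <;> ring

theorem ev_a_X (x X : K) : evP Rs [x, X] a_X.2 = X := by
  simp only [a_X, Rs, evP, evM, Nat.reduceMod, Nat.reduceDiv, pow_zero, pow_one, one_mul, mul_one, add_zero] <;> ring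

theorem ev_a_u (x X : K) : evP Rs [x, X] a_u.2 = x * X + X + 1 := by
  simp only [a_u, Rs, evP, evM, Nat.reduceMod, Nat.reduceDiv, pow_zero, pow_one, one_mul, mul_one, add_zero] <;> ring

theorem ev_a_v (x X : K) : evP Rs [x, X] a_v.2 = x ^ 2 * X + x ^ 2 + 1 := by
  simp only [a_v, Rs, evP, evM, Nat.reduceMod, Nat.reduceDiv, pow_zero, pow_one, one_mul, mul_one, add_zero] <;> ring

theorem ev_a_A (x X : K) : evP Rs [x, X] a_A.2 = x ^ 4 * X ^ 2 + x ^ 3 * X ^ 2 + 1 := by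
  simp only [a_A, Rs, evP, evM, Nat.reduceMod, Nat.reduceDiv, pow_zero, pow_one, one_mul, mul_one, add_zero] <;> ring

theorem ev_a_B (x X : K) : evP Rs [x, X] a_B.2 = x ^ 4 * X ^ 4 + x ^ 4 * X ^ 3 + 1 := by
  simp only [a_B, Rs, evP, evM, Nat.reduceMod, Nat.reduceDiv, pow_zero, pow_one, one_mul, mul_one, add_zero] <;> ring

theorem ev_a_m (x X : K) : evP Rs [x, X] a_m.2 = x ^ 4 * X ^ 2 + x ^ 2 * X ^ 2 + x ^ 2 * X + 1 := by
  simp only [a_m, Rs, evP, evM, Nat.reduceMod, Nat.reduceDiv, pow_zero, pow_one, one_mul, mul_one, add_zero] <;> ring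

theorem ev_a_n (x X : K) : evP Rs [x, X] a_n.2 = x ^ 4 * X ^ 4 + x ^ 4 * X ^ 2 + x ^ 2 * X ^ 2 + 1 := by
  simp only [a_n, Rs, evP, evM, Nat.reduceMod, Nat.reduceDiv, pow_zero, pow_one, one_mul, mul_one, add_zero] <;> ring

/-- relation 0 -/
def N0 : List (List (List ℕ × List ℕ)) :=
  (beta% delta% lq26f63394d3 fun a b _ _ _ =>
 (a (a a_m<|a a_m<|a a_n<|b)<|
 a (a a_x<|a a_x<|a a_X<|a a_X<|a a_v<|a a_m<|a a_n<|b)<|
 a (a a_x<|a a_x<|a a_X<|a a_B<|a a_m<|a a_n<|b)<|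
 a (a a_x<|a a_x<|a a_x<|a a_x<|a a_X<|a a_X<|a a_X<|a a_X<|a a_v<|a a_m<|a a_n<|b)<|
 a (a a_B<|a a_m<|a a_n<|b)<|b))

theorem check0 : check Rs N0 = true := by decide +kernel

/-- relation 1 -/
def N1 : List (List (List ℕ × List ℕ)) :=
  (beta% delta% lq26f63394d3 fun a b _ _ _ =>
 (a (a a_m<|a a_m<|a a_n<|b)<|
 a (a a_B<|a a_m<|a a_n<|b)<|
 a (a a_x<|a a_x<|a a_X<|a a_m<|a a_m<|a a_n<|b)<|
 a (a a_x<|a a_x<|a a_x<|a a_x<|a a_X<|a a_X<|a a_X<|a a_v<|a a_m<|a a_n<|b)<|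
 a (a a_x<|a a_x<|a a_X<|a a_X<|a a_m<|a a_m<|a a_n<|b)<|b))

theorem check1 : check Rs N1 = true := by decide +kernel

/-- relation 2 -/
def N2 : List (List (List ℕ × List ℕ)) :=
  (beta% delta% lq26f63394d3 fun a b _ _ _ =>
 (a (a a_x<|a a_x<|a a_x<|a a_x<|a a_x<|a a_x<|a a_X<|a a_X<|a a_X<|a a_X<|a a_u<|a a_u<|a a_v<|a a_m<|a a_n<|b)<|
 a (a a_m<|a a_n<|a a_m<|a a_n<|b)<|
 a (a a_x<|a a_x<|a a_x<|a a_x<|a a_x<|a a_x<|a a_X<|a a_X<|a a_X<|a a_u<|a a_u<|a a_m<|a a_m<|a a_n<|b)<|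
 a (a a_A<|a a_A<|a a_m<|a a_m<|a a_n<|b)<|
 a (a a_x<|a a_x<|a a_X<|a a_X<|a a_v<|a a_A<|a a_A<|a a_m<|a a_n<|b)<|b))

theorem check2 : check Rs N2 = true := by decide +kernel

/-- relation 3 -/
def N3 : List (List (List ℕ × List ℕ)) :=
  (beta% delta% lq26f63394d3 fun a b _ _ _ =>
 (a (a a_u<|b)<|
 a (a a_A<|b)<|
 a (a a_X<|a a_A<|b)<|
 a (a a_x<|a a_X<|a a_A<|b)<|
 a (a a_u<|a a_x<|a a_x<|a a_X<|a a_x<|a a_x<|a a_X<|b)<|
 a (a a_u<|a a_x<|a a_X<|a a_x<|a a_x<|a a_X<|b)<|b))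

theorem check3 : check Rs N3 = true := by decide +kernel

/-- relation 4 -/
def N4 : List (List (List ℕ × List ℕ)) :=
  (beta% delta% lq26f63394d3 fun a b _ _ _ =>
 (a (a a_x<|a a_x<|a a_x<|a a_x<|a a_X<|a a_X<|a a_u<|a a_u<|a a_v<|a a_x<|a a_x<|a a_X<|b)<|
 a (a a_v<|a a_A<|a a_A<|b)<|
 a (a a_x<|a a_x<|a a_x<|a a_x<|a a_X<|a a_u<|a a_u<|a a_B<|b)<|
 a (a a_x<|a a_x<|a a_x<|a a_x<|a a_X<|a a_X<|a a_u<|a a_u<|a a_v<|a a_x<|a a_X<|a a_x<|a a_X<|b)<|
 a (a a_m<|a a_n<|b)<|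
 a (a a_x<|a a_x<|a a_m<|a a_n<|b)<|b))

theorem check4 : check Rs N4 = true := by decide +kernel

/-- relation 5 -/
def N5 : List (List (List ℕ × List ℕ)) :=
  (beta% delta% lq26f63394d3 fun a b _ _ _ =>
 (a (a a_x<|a a_x<|a a_x<|a a_x<|a a_X<|a a_X<|a a_X<|a a_u<|a a_u<|a a_v<|b)<|
 a (a a_x<|a a_x<|a a_X<|a a_u<|a a_u<|a a_B<|b)<|
 a (a a_m<|a a_n<|b)<|
 a (a a_X<|a a_m<|a a_n<|b)<|
 a (a a_x<|a a_x<|a a_X<|a a_X<|a a_u<|a a_v<|a a_A<|b)<|
 a (a a_u<|a a_A<|a a_B<|b)<|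
 a (a a_x<|a a_X<|a a_m<|a a_n<|b)<|b))

theorem check5 : check Rs N5 = true := by decide +kernel

/-- relation 6 -/
def N6 : List (List (List ℕ × List ℕ)) :=
  (beta% delta% lq26f63394d3 fun a b _ _ _ =>
 (a (a a_x<|a a_x<|a a_X<|a a_u<|a a_m<|a a_m<|a a_n<|b)<|
 a (a a_A<|a a_m<|a a_m<|a a_n<|b)<|
 a (a a_x<|a a_x<|a a_x<|a a_x<|a a_x<|a a_x<|a a_X<|a a_X<|a a_X<|a a_X<|a a_u<|a a_v<|a a_m<|a a_n<|b)<|
 a (a a_x<|a a_x<|a a_x<|a a_X<|a a_X<|a a_u<|a a_m<|a a_m<|a a_n<|b)<|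
 a (a a_A<|a a_B<|a a_m<|a a_n<|b)<|
 a (a a_x<|a a_x<|a a_x<|a a_X<|a a_X<|a a_X<|a a_v<|a a_A<|a a_m<|a a_n<|b)<|
 a (a a_x<|a a_x<|a a_x<|a a_x<|a a_x<|a a_X<|a a_X<|a a_X<|a a_X<|a a_u<|a a_v<|a a_m<|a a_n<|b)<|b))

theorem check6 : check Rs N6 = true := by decide +kernel

/-- relation 7 -/
def N7 : List (List (List ℕ × List ℕ)) :=
  (beta% delta% lq26f63394d3 fun a b _ _ _ =>
 (a (a a_x<|a a_x<|a a_x<|a a_x<|a a_x<|a a_x<|a a_X<|a a_X<|a a_X<|a a_X<|a a_u<|a a_u<|a a_v<|a a_m<|a a_m<|a a_n<|b)<|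
 a (a a_m<|a a_n<|a a_m<|a a_m<|a a_n<|b)<|
 a (a a_x<|a a_x<|a a_X<|a a_m<|a a_n<|a a_m<|a a_m<|a a_n<|b)<|
 a (a a_x<|a a_x<|a a_x<|a a_x<|a a_X<|a a_X<|a a_X<|a a_v<|a a_m<|a a_n<|a a_m<|a a_n<|b)<|
 a (a a_x<|a a_x<|a a_X<|a a_X<|a a_v<|a a_m<|a a_n<|a a_m<|a a_n<|b)<|
 a (a a_x<|a a_x<|a a_x<|a a_x<|a a_X<|a a_X<|a a_u<|a a_u<|a a_B<|a a_m<|a a_m<|a a_n<|b)<|
 a (a a_B<|a a_m<|a a_n<|a a_m<|a a_n<|b)<|b))

theorem check7 : check Rs N7 = true := by decide +kernel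

/-- relation 8 -/
def N8 : List (List (List ℕ × List ℕ)) :=
  (beta% delta% lq26f63394d3 fun a b _ _ _ =>
 (a (a a_x<|a a_x<|a a_x<|a a_x<|a a_x<|a a_x<|a a_X<|a a_X<|a a_X<|a a_X<|a a_u<|a a_u<|a a_v<|b)<|
 a (a a_m<|a a_n<|b)<|
 a (a a_x<|a a_x<|a a_x<|a a_x<|a a_x<|a a_x<|a a_X<|a a_X<|a a_X<|a a_X<|a a_u<|a a_u<|a a_v<|a a_x<|a a_x<|a a_X<|b)<|
 a (a a_x<|a a_x<|a a_X<|a a_m<|a a_n<|b)<|
 a (a a_x<|a a_x<|a a_x<|a a_x<|a a_X<|a a_X<|a a_u<|a a_u<|a a_B<|b)<|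
 a (a a_x<|a a_x<|a a_x<|a a_x<|a a_x<|a a_x<|a a_X<|a a_X<|a a_X<|a a_u<|a a_u<|a a_B<|b)<|
 a (a a_x<|a a_x<|a a_x<|a a_x<|a a_x<|a a_x<|a a_X<|a a_X<|a a_X<|a a_X<|a a_u<|a a_u<|a a_v<|a a_x<|a a_X<|a a_x<|a a_X<|b)<|
 a (a a_A<|a a_A<|a a_B<|b)<|b))

theorem check8 : check Rs N8 = true := by decide +kernel

/-- relation 9 -/
def N9 : List (List (List ℕ × List ℕ)) :=
  (beta% delta% lq26f63394d3 fun a b _ _ _ =>
 (a (a a_x<|a a_x<|a a_x<|a a_x<|a a_X<|a a_X<|a a_X<|a a_u<|a a_u<|a a_v<|a a_x<|a a_x<|a a_X<|b)<|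
 a (a a_u<|a a_A<|a a_B<|b)<|
 a (a a_m<|a a_n<|b)<|
 a (a a_x<|a a_x<|a a_x<|a a_x<|a a_X<|a a_X<|a a_u<|a a_u<|a a_B<|b)<|
 a (a a_x<|a a_x<|a a_x<|a a_x<|a a_X<|a a_X<|a a_X<|a a_u<|a a_u<|a a_v<|a a_x<|a a_X<|b)<|
 a (a a_X<|a a_v<|a a_A<|a a_A<|b)<|
 a (a a_x<|a a_x<|a a_x<|a a_x<|a a_X<|a a_X<|a a_X<|a a_u<|a a_v<|a a_A<|b)<|
 a (a a_x<|a a_x<|a a_x<|a a_x<|a a_X<|a a_X<|a a_X<|a a_u<|a a_v<|a a_X<|a a_A<|b)<|
 a (a a_x<|a a_x<|a a_x<|a a_x<|a a_X<|a a_X<|a a_X<|a a_u<|a a_u<|a a_v<|a a_x<|a a_X<|a a_x<|a a_x<|a a_X<|b)<|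
 a (a a_x<|a a_X<|a a_u<|a a_A<|a a_B<|b)<|
 a (a a_x<|a a_X<|a a_X<|a a_v<|a a_A<|a a_A<|b)<|b))

theorem check9 : check Rs N9 = true := by decide +kernel

/-- relation 10 -/
def N10 : List (List (List ℕ × List ℕ)) :=
  (beta% delta% lq26f63394d3 fun a b _ _ _ =>
 (a (a a_x<|a a_x<|a a_x<|a a_x<|a a_x<|a a_x<|a a_x<|a a_x<|a a_X<|a a_X<|a a_X<|a a_X<|a a_X<|a a_X<|a a_u<|a a_u<|a a_v<|a a_v<|b)<|
 a (a a_m<|a a_m<|a a_n<|b)<|
 a (a a_x<|a a_x<|a a_X<|a a_m<|a a_m<|a a_n<|b)<|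
 a (a a_x<|a a_x<|a a_x<|a a_x<|a a_X<|a a_X<|a a_X<|a a_v<|a a_m<|a a_n<|b)<|
 a (a a_x<|a a_x<|a a_X<|a a_X<|a a_v<|a a_m<|a a_n<|b)<|
 a (a a_B<|a a_m<|a a_n<|b)<|
 a (a a_x<|a a_x<|a a_x<|a a_x<|a a_X<|a a_X<|a a_u<|a a_u<|a a_B<|a a_B<|b)<|
 a (a a_x<|a a_x<|a a_x<|a a_x<|a a_x<|a a_x<|a a_x<|a a_x<|a a_X<|a a_X<|a a_X<|a a_X<|a a_X<|a a_u<|a a_u<|a a_v<|a a_B<|b)<|
 a (a a_x<|a a_x<|a a_x<|a a_x<|a a_x<|a a_x<|a a_X<|a a_X<|a a_X<|a a_u<|a a_u<|a a_B<|a a_B<|b)<|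
 a (a a_x<|a a_x<|a a_x<|a a_x<|a a_x<|a a_x<|a a_x<|a a_x<|a a_X<|a a_X<|a a_X<|a a_X<|a a_X<|a a_X<|a a_u<|a a_u<|a a_v<|a a_v<|a a_x<|a a_X<|a a_x<|a a_X<|b)<|
 a (a a_x<|a a_x<|a a_x<|a a_x<|a a_x<|a a_x<|a a_x<|a a_x<|a a_X<|a a_X<|a a_X<|a a_X<|a a_X<|a a_X<|a a_u<|a a_u<|a a_v<|a a_B<|b)<|b))

theorem check10 : check Rs N10 = true := by decide +kernel

/-- relation 11 -/
def N11 : List (List (List ℕ × List ℕ)) :=
  (beta% delta% lq26f63394d3 fun a b _ _ _ =>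
 (a (a a_u<|a a_m<|a a_m<|a a_n<|b)<|
 a (a a_x<|a a_x<|a a_X<|a a_X<|a a_u<|a a_v<|a a_m<|a a_n<|b)<|
 a (a a_x<|a a_x<|a a_X<|a a_u<|a a_m<|a a_m<|a a_n<|b)<|
 a (a a_x<|a a_x<|a a_x<|a a_x<|a a_X<|a a_X<|a a_X<|a a_u<|a a_v<|a a_m<|a a_n<|b)<|
 a (a a_X<|a a_v<|a a_A<|a a_m<|a a_n<|b)<|
 a (a a_A<|a a_m<|a a_m<|a a_n<|b)<|
 a (a a_x<|a a_x<|a a_X<|a a_X<|a a_v<|a a_A<|a a_m<|a a_n<|b)<|
 a (a a_x<|a a_x<|a a_x<|a a_X<|a a_X<|a a_u<|a a_m<|a a_m<|a a_n<|b)<|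
 a (a a_x<|a a_X<|a a_u<|a a_m<|a a_m<|a a_n<|b)<|
 a (a a_x<|a a_x<|a a_x<|a a_X<|a a_X<|a a_X<|a a_u<|a a_v<|a a_m<|a a_n<|b)<|
 a (a a_x<|a a_X<|a a_X<|a a_v<|a a_A<|a a_m<|a a_n<|b)<|b))

theorem check11 : check Rs N11 = true := by decide +kernel

/-- relation 12 -/
def N12 : List (List (List ℕ × List ℕ)) :=
  (beta% delta% lq26f63394d3 fun a b _ _ _ =>
 (a (a a_x<|a a_x<|a a_X<|a a_X<|a a_u<|a a_v<|b)<|
 a (a a_u<|a a_B<|b)<|
 a (a a_x<|a a_x<|a a_X<|a a_X<|a a_u<|a a_v<|a a_x<|a a_x<|a a_X<|b)<|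
 a (a a_x<|a a_x<|a a_X<|a a_u<|a a_B<|b)<|
 a (a a_X<|a a_v<|a a_A<|b)<|
 a (a a_A<|a a_B<|b)<|
 a (a a_x<|a a_x<|a a_X<|a a_X<|a a_u<|a a_v<|a a_x<|a a_X<|a a_x<|a a_X<|b)<|
 a (a a_x<|a a_x<|a a_X<|a a_X<|a a_v<|a a_X<|a a_A<|b)<|
 a (a a_x<|a a_X<|a a_u<|a a_B<|b)<|
 a (a a_x<|a a_X<|a a_X<|a a_v<|a a_A<|b)<|
 a (a a_x<|a a_x<|a a_X<|a a_X<|a a_u<|a a_x<|a a_B<|b)<|
 a (a a_x<|a a_x<|a a_X<|a a_X<|a a_u<|a a_v<|a a_x<|a a_X<|a a_x<|a a_X<|a a_x<|a a_X<|b)<|b))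

theorem check12 : check Rs N12 = true := by decide +kernel

/-- relation 13 -/
def N13 : List (List (List ℕ × List ℕ)) :=
  (beta% delta% lq26f63394d3 fun a b _ _ _ =>
 (a (a a_x<|a a_x<|a a_x<|a a_x<|a a_x<|a a_x<|a a_x<|a a_x<|a a_X<|a a_X<|a a_X<|a a_X<|a a_X<|a a_X<|a a_u<|a a_u<|a a_v<|a a_v<|b)<|
 a (a a_m<|a a_m<|a a_n<|b)<|
 a (a a_x<|a a_x<|a a_x<|a a_x<|a a_X<|a a_X<|a a_X<|a a_v<|a a_m<|a a_n<|b)<|
 a (a a_x<|a a_x<|a a_x<|a a_x<|a a_x<|a a_x<|a a_x<|a a_x<|a a_X<|a a_X<|a a_X<|a a_X<|a a_X<|a a_X<|a a_u<|a a_v<|a a_v<|a a_A<|b)<|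
 a (a a_x<|a a_x<|a a_x<|a a_x<|a a_x<|a a_x<|a a_X<|a a_X<|a a_X<|a a_X<|a a_u<|a a_u<|a a_v<|a a_B<|b)<|
 a (a a_x<|a a_x<|a a_x<|a a_x<|a a_x<|a a_x<|a a_X<|a a_X<|a a_X<|a a_X<|a a_X<|a a_u<|a a_v<|a a_v<|a a_A<|b)<|
 a (a a_B<|a a_m<|a a_n<|b)<|
 a (a a_x<|a a_x<|a a_x<|a a_x<|a a_X<|a a_X<|a a_X<|a a_u<|a a_v<|a a_A<|a a_B<|b)<|
 a (a a_x<|a a_x<|a a_x<|a a_x<|a a_X<|a a_X<|a a_X<|a a_X<|a a_v<|a a_v<|a a_A<|a a_A<|b)<|
 a (a a_x<|a a_x<|a a_x<|a a_x<|a a_X<|a a_X<|a a_X<|a a_X<|a a_v<|a a_m<|a a_n<|b)<|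
 a (a a_x<|a a_x<|a a_x<|a a_x<|a a_x<|a a_x<|a a_x<|a a_x<|a a_X<|a a_X<|a a_X<|a a_X<|a a_X<|a a_X<|a a_u<|a a_v<|a a_v<|a a_X<|a a_A<|b)<|
 a (a a_x<|a a_x<|a a_X<|a a_u<|a a_A<|a a_B<|a a_B<|b)<|
 a (a a_x<|a a_X<|a a_m<|a a_m<|a a_n<|b)<|
 a (a a_x<|a a_x<|a a_x<|a a_X<|a a_X<|a a_X<|a a_v<|a a_m<|a a_n<|b)<|
 a (a a_x<|a a_x<|a a_x<|a a_x<|a a_x<|a a_x<|a a_x<|a a_X<|a a_X<|a a_X<|a a_X<|a a_X<|a a_u<|a a_u<|a a_v<|a a_B<|b)<|
 a (a a_x<|a a_x<|a a_x<|a a_x<|a a_x<|a a_x<|a a_x<|a a_X<|a a_X<|a a_X<|a a_X<|a a_X<|a a_X<|a a_u<|a a_v<|a a_v<|a a_A<|b)<|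
 a (a a_x<|a a_X<|a a_B<|a a_m<|a a_n<|b)<|
 a (a a_x<|a a_x<|a a_x<|a a_x<|a a_x<|a a_X<|a a_X<|a a_X<|a a_X<|a a_X<|a a_v<|a a_v<|a a_A<|a a_A<|b)<|
 a (a a_x<|a a_x<|a a_x<|a a_x<|a a_x<|a a_x<|a a_x<|a a_x<|a a_X<|a a_X<|a a_X<|a a_X<|a a_X<|a a_X<|a a_u<|a a_u<|a a_v<|a a_v<|a a_x<|a a_X<|a a_x<|a a_x<|a a_X<|b)<|b))

theorem check13 : check Rs N13 = true := by decide +kernel

/-- relation 14 -/
def N14 : List (List (List ℕ × List ℕ)) :=
  (beta% delta% lq26f63394d3 fun a b _ _ _ =>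
 (a (a a_x<|a a_x<|a a_u<|a a_u<|a a_B<|b)<|
 a (a a_v<|a a_A<|a a_A<|b)<|
 a (a a_m<|a a_n<|b)<|
 a (a a_x<|a a_x<|a a_X<|a a_X<|a a_v<|a a_A<|a a_A<|b)<|
 a (a a_x<|a a_x<|a a_x<|a a_x<|a a_X<|a a_X<|a a_u<|a a_u<|a a_v<|a a_x<|a a_x<|a a_X<|a a_x<|a a_x<|a a_X<|b)<|b))

theorem check14 : check Rs N14 = true := by decide +kernel

theorem rel0 [IsDomain K] [CharP K 2] {x X u v d e a c : K} (hx : x ≠ 0) (hX : X ≠ 0) (hu : u ≠ 0) (hv : v ≠ 0)
    (eu : u = 1 + X + x * X) (ev : v = 1 + x ^ (2:ℕ) + x ^ (2:ℕ) * X)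
    (hA : 1 + x ^ (3:ℕ) * X ^ (2:ℕ) + x ^ (4:ℕ) * X ^ (2:ℕ) = d * (x ^ (2:ℕ) * X * u))
    (hB : 1 + x ^ (4:ℕ) * X ^ (3:ℕ) + x ^ (4:ℕ) * X ^ (4:ℕ) = e * (x ^ (2:ℕ) * X ^ (2:ℕ) * v))
    (hm : x ^ (4:ℕ) * X ^ (2:ℕ) + x ^ (2:ℕ) * X ^ (2:ℕ) + x ^ (2:ℕ) * X + 1 = a * (x ^ (2:ℕ) * X ^ (2:ℕ) * v))
    (hn : x ^ (4:ℕ) * X ^ (4:ℕ) + x ^ (4:ℕ) * X ^ (2:ℕ) + x ^ (2:ℕ) * X ^ (2:ℕ) + 1 = c * (x ^ (4:ℕ) * X ^ (2:ℕ) * u ^ (2:ℕ))) :
    (x * X) ^ (2:ℕ) * (a * c) + (x ^ (2:ℕ) * X) * e * (a * c) + e * (a * c) + (a * c) + (a ^ (2:ℕ) * c) = 0 := by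
  have h := evS_eq_zero Rs [x, X] N0 check0
  simp only [N0, evS, evProd, List.map_cons, List.map_nil] at h
  have tx : evP Rs [x, X] a_x.2 = x := ev_a_x x X
  have tX : evP Rs [x, X] a_X.2 = X := ev_a_X x X
  have tu : evP Rs [x, X] a_u.2 = u := by rw [ev_a_u, eu]; ring
  have tv : evP Rs [x, X] a_v.2 = v := by rw [ev_a_v, ev]; ring
  have tA : evP Rs [x, X] a_A.2 = d * (x ^ 2 * X * u) := by rw [ev_a_A, ← hA]; ring
  have tB : evP Rs [x, X] a_B.2 = e * (x ^ 2 * X ^ 2 * v) := by rw [ev_a_B, ← hB]; ring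
  have tm : evP Rs [x, X] a_m.2 = a * (x ^ 2 * X ^ 2 * v) := by rw [ev_a_m, ← hm]
  have tn : evP Rs [x, X] a_n.2 = c * (x ^ 4 * X ^ 2 * u ^ 2) := by rw [ev_a_n, ← hn]
  simp only [tx, tX, tu, tv, tA, tB, tm, tn] at h
  refine (mul_eq_zero.1 (?_ : (x ^ 8 * X ^ 6 * u ^ 2 * v ^ 2) * _ = 0)).resolve_left
    (mul_ne_zero (mul_ne_zero (mul_ne_zero (pow_ne_zero _ hx) (pow_ne_zero _ hX)) (pow_ne_zero _ hu)) (pow_ne_zero _ hv))
  linear_combination h

theorem rel1 [IsDomain K] [CharP K 2] {x X u v d e a c : K} (hx : x ≠ 0) (hX : X ≠ 0) (hu : u ≠ 0) (hv : v ≠ 0)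
    (eu : u = 1 + X + x * X) (ev : v = 1 + x ^ (2:ℕ) + x ^ (2:ℕ) * X)
    (hA : 1 + x ^ (3:ℕ) * X ^ (2:ℕ) + x ^ (4:ℕ) * X ^ (2:ℕ) = d * (x ^ (2:ℕ) * X * u))
    (hB : 1 + x ^ (4:ℕ) * X ^ (3:ℕ) + x ^ (4:ℕ) * X ^ (4:ℕ) = e * (x ^ (2:ℕ) * X ^ (2:ℕ) * v))
    (hm : x ^ (4:ℕ) * X ^ (2:ℕ) + x ^ (2:ℕ) * X ^ (2:ℕ) + x ^ (2:ℕ) * X + 1 = a * (x ^ (2:ℕ) * X ^ (2:ℕ) * v))
    (hn : x ^ (4:ℕ) * X ^ (4:ℕ) + x ^ (4:ℕ) * X ^ (2:ℕ) + x ^ (2:ℕ) * X ^ (2:ℕ) + 1 = c * (x ^ (4:ℕ) * X ^ (2:ℕ) * u ^ (2:ℕ))) :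
    (x * X) ^ (2:ℕ) * (a ^ (2:ℕ) * c) + (x ^ (2:ℕ) * X) * (a * c) + (x ^ (2:ℕ) * X) * (a ^ (2:ℕ) * c) + e * (a * c) + (a ^ (2:ℕ) * c) = 0 := by
  have h := evS_eq_zero Rs [x, X] N1 check1
  simp only [N1, evS, evProd, List.map_cons, List.map_nil] at h
  have tx : evP Rs [x, X] a_x.2 = x := ev_a_x x X
  have tX : evP Rs [x, X] a_X.2 = X := ev_a_X x X
  have tu : evP Rs [x, X] a_u.2 = u := by rw [ev_a_u, eu]; ring
  have tv : evP Rs [x, X] a_v.2 = v := by rw [ev_a_v, ev]; ring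
  have tA : evP Rs [x, X] a_A.2 = d * (x ^ 2 * X * u) := by rw [ev_a_A, ← hA]; ring
  have tB : evP Rs [x, X] a_B.2 = e * (x ^ 2 * X ^ 2 * v) := by rw [ev_a_B, ← hB]; ring
  have tm : evP Rs [x, X] a_m.2 = a * (x ^ 2 * X ^ 2 * v) := by rw [ev_a_m, ← hm]
  have tn : evP Rs [x, X] a_n.2 = c * (x ^ 4 * X ^ 2 * u ^ 2) := by rw [ev_a_n, ← hn]
  simp only [tx, tX, tu, tv, tA, tB, tm, tn] at h
  refine (mul_eq_zero.1 (?_ : (x ^ 8 * X ^ 6 * u ^ 2 * v ^ 2) * _ = 0)).resolve_left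
    (mul_ne_zero (mul_ne_zero (mul_ne_zero (pow_ne_zero _ hx) (pow_ne_zero _ hX)) (pow_ne_zero _ hu)) (pow_ne_zero _ hv))
  linear_combination h

theorem rel2 [IsDomain K] [CharP K 2] {x X u v d e a c : K} (hx : x ≠ 0) (hX : X ≠ 0) (hu : u ≠ 0) (hv : v ≠ 0)
    (eu : u = 1 + X + x * X) (ev : v = 1 + x ^ (2:ℕ) + x ^ (2:ℕ) * X)
    (hA : 1 + x ^ (3:ℕ) * X ^ (2:ℕ) + x ^ (4:ℕ) * X ^ (2:ℕ) = d * (x ^ (2:ℕ) * X * u))
    (hB : 1 + x ^ (4:ℕ) * X ^ (3:ℕ) + x ^ (4:ℕ) * X ^ (4:ℕ) = e * (x ^ (2:ℕ) * X ^ (2:ℕ) * v))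
    (hm : x ^ (4:ℕ) * X ^ (2:ℕ) + x ^ (2:ℕ) * X ^ (2:ℕ) + x ^ (2:ℕ) * X + 1 = a * (x ^ (2:ℕ) * X ^ (2:ℕ) * v))
    (hn : x ^ (4:ℕ) * X ^ (4:ℕ) + x ^ (4:ℕ) * X ^ (2:ℕ) + x ^ (2:ℕ) * X ^ (2:ℕ) + 1 = c * (x ^ (4:ℕ) * X ^ (2:ℕ) * u ^ (2:ℕ))) :
    d ^ (2:ℕ) * (a * c) + d ^ (2:ℕ) * (a ^ (2:ℕ) * c) + (x ^ (2:ℕ) * X) * (a ^ (2:ℕ) * c) + (a * c) ^ (2:ℕ) + (a * c) = 0 := by
  have h := evS_eq_zero Rs [x, X] N2 check2
  simp only [N2, evS, evProd, List.map_cons, List.map_nil] at h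
  have tx : evP Rs [x, X] a_x.2 = x := ev_a_x x X
  have tX : evP Rs [x, X] a_X.2 = X := ev_a_X x X
  have tu : evP Rs [x, X] a_u.2 = u := by rw [ev_a_u, eu]; ring
  have tv : evP Rs [x, X] a_v.2 = v := by rw [ev_a_v, ev]; ring
  have tA : evP Rs [x, X] a_A.2 = d * (x ^ 2 * X * u) := by rw [ev_a_A, ← hA]; ring
  have tB : evP Rs [x, X] a_B.2 = e * (x ^ 2 * X ^ 2 * v) := by rw [ev_a_B, ← hB]; ring
  have tm : evP Rs [x, X] a_m.2 = a * (x ^ 2 * X ^ 2 * v) := by rw [ev_a_m, ← hm]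
  have tn : evP Rs [x, X] a_n.2 = c * (x ^ 4 * X ^ 2 * u ^ 2) := by rw [ev_a_n, ← hn]
  simp only [tx, tX, tu, tv, tA, tB, tm, tn] at h
  refine (mul_eq_zero.1 (?_ : (x ^ 12 * X ^ 8 * u ^ 4 * v ^ 2) * _ = 0)).resolve_left
    (mul_ne_zero (mul_ne_zero (mul_ne_zero (pow_ne_zero _ hx) (pow_ne_zero _ hX)) (pow_ne_zero _ hu)) (pow_ne_zero _ hv))
  linear_combination h

theorem rel3 [IsDomain K] [CharP K 2] {x X u v d e a c : K} (hx : x ≠ 0) (hX : X ≠ 0) (hu : u ≠ 0) (hv : v ≠ 0)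
    (eu : u = 1 + X + x * X) (ev : v = 1 + x ^ (2:ℕ) + x ^ (2:ℕ) * X)
    (hA : 1 + x ^ (3:ℕ) * X ^ (2:ℕ) + x ^ (4:ℕ) * X ^ (2:ℕ) = d * (x ^ (2:ℕ) * X * u))
    (hB : 1 + x ^ (4:ℕ) * X ^ (3:ℕ) + x ^ (4:ℕ) * X ^ (4:ℕ) = e * (x ^ (2:ℕ) * X ^ (2:ℕ) * v))
    (hm : x ^ (4:ℕ) * X ^ (2:ℕ) + x ^ (2:ℕ) * X ^ (2:ℕ) + x ^ (2:ℕ) * X + 1 = a * (x ^ (2:ℕ) * X ^ (2:ℕ) * v))
    (hn : x ^ (4:ℕ) * X ^ (4:ℕ) + x ^ (4:ℕ) * X ^ (2:ℕ) + x ^ (2:ℕ) * X ^ (2:ℕ) + 1 = c * (x ^ (4:ℕ) * X ^ (2:ℕ) * u ^ (2:ℕ))) :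
    (x * X) ^ (2:ℕ) * d + (x * X) * (x ^ (2:ℕ) * X) * d + (x * X) * (x ^ (2:ℕ) * X) + (x ^ (2:ℕ) * X) ^ (2:ℕ) + (x ^ (2:ℕ) * X) * d + 1 = 0 := by
  have h := evS_eq_zero Rs [x, X] N3 check3
  simp only [N3, evS, evProd, List.map_cons, List.map_nil] at h
  have tx : evP Rs [x, X] a_x.2 = x := ev_a_x x X
  have tX : evP Rs [x, X] a_X.2 = X := ev_a_X x X
  have tu : evP Rs [x, X] a_u.2 = u := by rw [ev_a_u, eu]; ring
  have tv : evP Rs [x, X] a_v.2 = v := by rw [ev_a_v, ev]; ring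
  have tA : evP Rs [x, X] a_A.2 = d * (x ^ 2 * X * u) := by rw [ev_a_A, ← hA]; ring
  have tB : evP Rs [x, X] a_B.2 = e * (x ^ 2 * X ^ 2 * v) := by rw [ev_a_B, ← hB]; ring
  have tm : evP Rs [x, X] a_m.2 = a * (x ^ 2 * X ^ 2 * v) := by rw [ev_a_m, ← hm]
  have tn : evP Rs [x, X] a_n.2 = c * (x ^ 4 * X ^ 2 * u ^ 2) := by rw [ev_a_n, ← hn]
  simp only [tx, tX, tu, tv, tA, tB, tm, tn] at h
  refine (mul_eq_zero.1 (?_ : (x ^ 0 * X ^ 0 * u ^ 1 * v ^ 0) * _ = 0)).resolve_left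
    (mul_ne_zero (mul_ne_zero (mul_ne_zero (pow_ne_zero _ hx) (pow_ne_zero _ hX)) (pow_ne_zero _ hu)) (pow_ne_zero _ hv))
  linear_combination h

theorem rel4 [IsDomain K] [CharP K 2] {x X u v d e a c : K} (hx : x ≠ 0) (hX : X ≠ 0) (hu : u ≠ 0) (hv : v ≠ 0)
    (eu : u = 1 + X + x * X) (ev : v = 1 + x ^ (2:ℕ) + x ^ (2:ℕ) * X)
    (hA : 1 + x ^ (3:ℕ) * X ^ (2:ℕ) + x ^ (4:ℕ) * X ^ (2:ℕ) = d * (x ^ (2:ℕ) * X * u))
    (hB : 1 + x ^ (4:ℕ) * X ^ (3:ℕ) + x ^ (4:ℕ) * X ^ (4:ℕ) = e * (x ^ (2:ℕ) * X ^ (2:ℕ) * v))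
    (hm : x ^ (4:ℕ) * X ^ (2:ℕ) + x ^ (2:ℕ) * X ^ (2:ℕ) + x ^ (2:ℕ) * X + 1 = a * (x ^ (2:ℕ) * X ^ (2:ℕ) * v))
    (hn : x ^ (4:ℕ) * X ^ (4:ℕ) + x ^ (4:ℕ) * X ^ (2:ℕ) + x ^ (2:ℕ) * X ^ (2:ℕ) + 1 = c * (x ^ (4:ℕ) * X ^ (2:ℕ) * u ^ (2:ℕ))) :
    (x * X) ^ (2:ℕ) * (a * c) + (x ^ (2:ℕ) * X) ^ (2:ℕ) * (a * c) + (x * X) ^ (2:ℕ) + (x ^ (2:ℕ) * X) * e + d ^ (2:ℕ) + (x ^ (2:ℕ) * X) = 0 := by
  have h := evS_eq_zero Rs [x, X] N4 check4
  simp only [N4, evS, evProd, List.map_cons, List.map_nil] at h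
  have tx : evP Rs [x, X] a_x.2 = x := ev_a_x x X
  have tX : evP Rs [x, X] a_X.2 = X := ev_a_X x X
  have tu : evP Rs [x, X] a_u.2 = u := by rw [ev_a_u, eu]; ring
  have tv : evP Rs [x, X] a_v.2 = v := by rw [ev_a_v, ev]; ring
  have tA : evP Rs [x, X] a_A.2 = d * (x ^ 2 * X * u) := by rw [ev_a_A, ← hA]; ring
  have tB : evP Rs [x, X] a_B.2 = e * (x ^ 2 * X ^ 2 * v) := by rw [ev_a_B, ← hB]; ring
  have tm : evP Rs [x, X] a_m.2 = a * (x ^ 2 * X ^ 2 * v) := by rw [ev_a_m, ← hm]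
  have tn : evP Rs [x, X] a_n.2 = c * (x ^ 4 * X ^ 2 * u ^ 2) := by rw [ev_a_n, ← hn]
  simp only [tx, tX, tu, tv, tA, tB, tm, tn] at h
  refine (mul_eq_zero.1 (?_ : (x ^ 4 * X ^ 2 * u ^ 2 * v ^ 1) * _ = 0)).resolve_left
    (mul_ne_zero (mul_ne_zero (mul_ne_zero (pow_ne_zero _ hx) (pow_ne_zero _ hX)) (pow_ne_zero _ hu)) (pow_ne_zero _ hv))
  linear_combination h

theorem rel5 [IsDomain K] [CharP K 2] {x X u v d e a c : K} (hx : x ≠ 0) (hX : X ≠ 0) (hu : u ≠ 0) (hv : v ≠ 0)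
    (eu : u = 1 + X + x * X) (ev : v = 1 + x ^ (2:ℕ) + x ^ (2:ℕ) * X)
    (hA : 1 + x ^ (3:ℕ) * X ^ (2:ℕ) + x ^ (4:ℕ) * X ^ (2:ℕ) = d * (x ^ (2:ℕ) * X * u))
    (hB : 1 + x ^ (4:ℕ) * X ^ (3:ℕ) + x ^ (4:ℕ) * X ^ (4:ℕ) = e * (x ^ (2:ℕ) * X ^ (2:ℕ) * v))
    (hm : x ^ (4:ℕ) * X ^ (2:ℕ) + x ^ (2:ℕ) * X ^ (2:ℕ) + x ^ (2:ℕ) * X + 1 = a * (x ^ (2:ℕ) * X ^ (2:ℕ) * v))
    (hn : x ^ (4:ℕ) * X ^ (4:ℕ) + x ^ (4:ℕ) * X ^ (2:ℕ) + x ^ (2:ℕ) * X ^ (2:ℕ) + 1 = c * (x ^ (4:ℕ) * X ^ (2:ℕ) * u ^ (2:ℕ))) :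
    (x * X) ^ (2:ℕ) * (a * c) + (x * X) * (x ^ (2:ℕ) * X) * (a * c) + (x ^ (2:ℕ) * X) * (a * c) + d * e + d + e + 1 = 0 := by
  have h := evS_eq_zero Rs [x, X] N5 check5
  simp only [N5, evS, evProd, List.map_cons, List.map_nil] at h
  have tx : evP Rs [x, X] a_x.2 = x := ev_a_x x X
  have tX : evP Rs [x, X] a_X.2 = X := ev_a_X x X
  have tu : evP Rs [x, X] a_u.2 = u := by rw [ev_a_u, eu]; ring
  have tv : evP Rs [x, X] a_v.2 = v := by rw [ev_a_v, ev]; ring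
  have tA : evP Rs [x, X] a_A.2 = d * (x ^ 2 * X * u) := by rw [ev_a_A, ← hA]; ring
  have tB : evP Rs [x, X] a_B.2 = e * (x ^ 2 * X ^ 2 * v) := by rw [ev_a_B, ← hB]; ring
  have tm : evP Rs [x, X] a_m.2 = a * (x ^ 2 * X ^ 2 * v) := by rw [ev_a_m, ← hm]
  have tn : evP Rs [x, X] a_n.2 = c * (x ^ 4 * X ^ 2 * u ^ 2) := by rw [ev_a_n, ← hn]
  simp only [tx, tX, tu, tv, tA, tB, tm, tn] at h
  refine (mul_eq_zero.1 (?_ : (x ^ 4 * X ^ 3 * u ^ 2 * v ^ 1) * _ = 0)).resolve_left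
    (mul_ne_zero (mul_ne_zero (mul_ne_zero (pow_ne_zero _ hx) (pow_ne_zero _ hX)) (pow_ne_zero _ hu)) (pow_ne_zero _ hv))
  linear_combination h

theorem rel6 [IsDomain K] [CharP K 2] {x X u v d e a c : K} (hx : x ≠ 0) (hX : X ≠ 0) (hu : u ≠ 0) (hv : v ≠ 0)
    (eu : u = 1 + X + x * X) (ev : v = 1 + x ^ (2:ℕ) + x ^ (2:ℕ) * X)
    (hA : 1 + x ^ (3:ℕ) * X ^ (2:ℕ) + x ^ (4:ℕ) * X ^ (2:ℕ) = d * (x ^ (2:ℕ) * X * u))
    (hB : 1 + x ^ (4:ℕ) * X ^ (3:ℕ) + x ^ (4:ℕ) * X ^ (4:ℕ) = e * (x ^ (2:ℕ) * X ^ (2:ℕ) * v))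
    (hm : x ^ (4:ℕ) * X ^ (2:ℕ) + x ^ (2:ℕ) * X ^ (2:ℕ) + x ^ (2:ℕ) * X + 1 = a * (x ^ (2:ℕ) * X ^ (2:ℕ) * v))
    (hn : x ^ (4:ℕ) * X ^ (4:ℕ) + x ^ (4:ℕ) * X ^ (2:ℕ) + x ^ (2:ℕ) * X ^ (2:ℕ) + 1 = c * (x ^ (4:ℕ) * X ^ (2:ℕ) * u ^ (2:ℕ))) :
    (x * X) * d * (a * c) + d * e * (a * c) + (x * X) * (a * c) + (x * X) * (a ^ (2:ℕ) * c) + (x ^ (2:ℕ) * X) * (a * c) + d * (a ^ (2:ℕ) * c) + (a ^ (2:ℕ) * c) = 0 := by
  have h := evS_eq_zero Rs [x, X] N6 check6
  simp only [N6, evS, evProd, List.map_cons, List.map_nil] at h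
  have tx : evP Rs [x, X] a_x.2 = x := ev_a_x x X
  have tX : evP Rs [x, X] a_X.2 = X := ev_a_X x X
  have tu : evP Rs [x, X] a_u.2 = u := by rw [ev_a_u, eu]; ring
  have tv : evP Rs [x, X] a_v.2 = v := by rw [ev_a_v, ev]; ring
  have tA : evP Rs [x, X] a_A.2 = d * (x ^ 2 * X * u) := by rw [ev_a_A, ← hA]; ring
  have tB : evP Rs [x, X] a_B.2 = e * (x ^ 2 * X ^ 2 * v) := by rw [ev_a_B, ← hB]; ring
  have tm : evP Rs [x, X] a_m.2 = a * (x ^ 2 * X ^ 2 * v) := by rw [ev_a_m, ← hm]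
  have tn : evP Rs [x, X] a_n.2 = c * (x ^ 4 * X ^ 2 * u ^ 2) := by rw [ev_a_n, ← hn]
  simp only [tx, tX, tu, tv, tA, tB, tm, tn] at h
  refine (mul_eq_zero.1 (?_ : (x ^ 10 * X ^ 7 * u ^ 3 * v ^ 2) * _ = 0)).resolve_left
    (mul_ne_zero (mul_ne_zero (mul_ne_zero (pow_ne_zero _ hx) (pow_ne_zero _ hX)) (pow_ne_zero _ hu)) (pow_ne_zero _ hv))
  linear_combination h

theorem rel7 [IsDomain K] [CharP K 2] {x X u v d e a c : K} (hx : x ≠ 0) (hX : X ≠ 0) (hu : u ≠ 0) (hv : v ≠ 0)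
    (eu : u = 1 + X + x * X) (ev : v = 1 + x ^ (2:ℕ) + x ^ (2:ℕ) * X)
    (hA : 1 + x ^ (3:ℕ) * X ^ (2:ℕ) + x ^ (4:ℕ) * X ^ (2:ℕ) = d * (x ^ (2:ℕ) * X * u))
    (hB : 1 + x ^ (4:ℕ) * X ^ (3:ℕ) + x ^ (4:ℕ) * X ^ (4:ℕ) = e * (x ^ (2:ℕ) * X ^ (2:ℕ) * v))
    (hm : x ^ (4:ℕ) * X ^ (2:ℕ) + x ^ (2:ℕ) * X ^ (2:ℕ) + x ^ (2:ℕ) * X + 1 = a * (x ^ (2:ℕ) * X ^ (2:ℕ) * v))
    (hn : x ^ (4:ℕ) * X ^ (4:ℕ) + x ^ (4:ℕ) * X ^ (2:ℕ) + x ^ (2:ℕ) * X ^ (2:ℕ) + 1 = c * (x ^ (4:ℕ) * X ^ (2:ℕ) * u ^ (2:ℕ))) :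
    (x ^ (2:ℕ) * X) * (a * c) ^ (2:ℕ) + (x ^ (2:ℕ) * X) * (a * c) * (a ^ (2:ℕ) * c) + e * (a * c) ^ (2:ℕ) + e * (a ^ (2:ℕ) * c) + (a * c) ^ (2:ℕ) + (a * c) * (a ^ (2:ℕ) * c) + (a ^ (2:ℕ) * c) = 0 := by
  have h := evS_eq_zero Rs [x, X] N7 check7
  simp only [N7, evS, evProd, List.map_cons, List.map_nil] at h
  have tx : evP Rs [x, X] a_x.2 = x := ev_a_x x X
  have tX : evP Rs [x, X] a_X.2 = X := ev_a_X x X
  have tu : evP Rs [x, X] a_u.2 = u := by rw [ev_a_u, eu]; ring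
  have tv : evP Rs [x, X] a_v.2 = v := by rw [ev_a_v, ev]; ring
  have tA : evP Rs [x, X] a_A.2 = d * (x ^ 2 * X * u) := by rw [ev_a_A, ← hA]; ring
  have tB : evP Rs [x, X] a_B.2 = e * (x ^ 2 * X ^ 2 * v) := by rw [ev_a_B, ← hB]; ring
  have tm : evP Rs [x, X] a_m.2 = a * (x ^ 2 * X ^ 2 * v) := by rw [ev_a_m, ← hm]
  have tn : evP Rs [x, X] a_n.2 = c * (x ^ 4 * X ^ 2 * u ^ 2) := by rw [ev_a_n, ← hn]
  simp only [tx, tX, tu, tv, tA, tB, tm, tn] at h
  refine (mul_eq_zero.1 (?_ : (x ^ 14 * X ^ 10 * u ^ 4 * v ^ 3) * _ = 0)).resolve_left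
    (mul_ne_zero (mul_ne_zero (mul_ne_zero (pow_ne_zero _ hx) (pow_ne_zero _ hX)) (pow_ne_zero _ hu)) (pow_ne_zero _ hv))
  linear_combination h

theorem rel8 [IsDomain K] [CharP K 2] {x X u v d e a c : K} (hx : x ≠ 0) (hX : X ≠ 0) (hu : u ≠ 0) (hv : v ≠ 0)
    (eu : u = 1 + X + x * X) (ev : v = 1 + x ^ (2:ℕ) + x ^ (2:ℕ) * X)
    (hA : 1 + x ^ (3:ℕ) * X ^ (2:ℕ) + x ^ (4:ℕ) * X ^ (2:ℕ) = d * (x ^ (2:ℕ) * X * u))
    (hB : 1 + x ^ (4:ℕ) * X ^ (3:ℕ) + x ^ (4:ℕ) * X ^ (4:ℕ) = e * (x ^ (2:ℕ) * X ^ (2:ℕ) * v))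
    (hm : x ^ (4:ℕ) * X ^ (2:ℕ) + x ^ (2:ℕ) * X ^ (2:ℕ) + x ^ (2:ℕ) * X + 1 = a * (x ^ (2:ℕ) * X ^ (2:ℕ) * v))
    (hn : x ^ (4:ℕ) * X ^ (4:ℕ) + x ^ (4:ℕ) * X ^ (2:ℕ) + x ^ (2:ℕ) * X ^ (2:ℕ) + 1 = c * (x ^ (4:ℕ) * X ^ (2:ℕ) * u ^ (2:ℕ))) :
    d ^ (2:ℕ) * e + (x * X) ^ (2:ℕ) + (x ^ (2:ℕ) * X) * e + (x ^ (2:ℕ) * X) * (a * c) + (x ^ (2:ℕ) * X) + e + (a * c) + 1 = 0 := by
  have h := evS_eq_zero Rs [x, X] N8 check8
  simp only [N8, evS, evProd, List.map_cons, List.map_nil] at h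
  have tx : evP Rs [x, X] a_x.2 = x := ev_a_x x X
  have tX : evP Rs [x, X] a_X.2 = X := ev_a_X x X
  have tu : evP Rs [x, X] a_u.2 = u := by rw [ev_a_u, eu]; ring
  have tv : evP Rs [x, X] a_v.2 = v := by rw [ev_a_v, ev]; ring
  have tA : evP Rs [x, X] a_A.2 = d * (x ^ 2 * X * u) := by rw [ev_a_A, ← hA]; ring
  have tB : evP Rs [x, X] a_B.2 = e * (x ^ 2 * X ^ 2 * v) := by rw [ev_a_B, ← hB]; ring
  have tm : evP Rs [x, X] a_m.2 = a * (x ^ 2 * X ^ 2 * v) := by rw [ev_a_m, ← hm]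
  have tn : evP Rs [x, X] a_n.2 = c * (x ^ 4 * X ^ 2 * u ^ 2) := by rw [ev_a_n, ← hn]
  simp only [tx, tX, tu, tv, tA, tB, tm, tn] at h
  refine (mul_eq_zero.1 (?_ : (x ^ 6 * X ^ 4 * u ^ 2 * v ^ 1) * _ = 0)).resolve_left
    (mul_ne_zero (mul_ne_zero (mul_ne_zero (pow_ne_zero _ hx) (pow_ne_zero _ hX)) (pow_ne_zero _ hu)) (pow_ne_zero _ hv))
  linear_combination h

theorem rel9 [IsDomain K] [CharP K 2] {x X u v d e a c : K} (hx : x ≠ 0) (hX : X ≠ 0) (hu : u ≠ 0) (hv : v ≠ 0)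
    (eu : u = 1 + X + x * X) (ev : v = 1 + x ^ (2:ℕ) + x ^ (2:ℕ) * X)
    (hA : 1 + x ^ (3:ℕ) * X ^ (2:ℕ) + x ^ (4:ℕ) * X ^ (2:ℕ) = d * (x ^ (2:ℕ) * X * u))
    (hB : 1 + x ^ (4:ℕ) * X ^ (3:ℕ) + x ^ (4:ℕ) * X ^ (4:ℕ) = e * (x ^ (2:ℕ) * X ^ (2:ℕ) * v))
    (hm : x ^ (4:ℕ) * X ^ (2:ℕ) + x ^ (2:ℕ) * X ^ (2:ℕ) + x ^ (2:ℕ) * X + 1 = a * (x ^ (2:ℕ) * X ^ (2:ℕ) * v))
    (hn : x ^ (4:ℕ) * X ^ (4:ℕ) + x ^ (4:ℕ) * X ^ (2:ℕ) + x ^ (2:ℕ) * X ^ (2:ℕ) + 1 = c * (x ^ (4:ℕ) * X ^ (2:ℕ) * u ^ (2:ℕ))) :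
    (x * X) ^ (2:ℕ) * d + (x * X) * d ^ (2:ℕ) + (x * X) * d * e + (x * X) * (x ^ (2:ℕ) * X) + (x ^ (2:ℕ) * X) * d + (x ^ (2:ℕ) * X) * e + (x ^ (2:ℕ) * X) * (a * c) + d ^ (2:ℕ) + d * e + (x * X) + (x ^ (2:ℕ) * X) = 0 := by
  have h := evS_eq_zero Rs [x, X] N9 check9
  simp only [N9, evS, evProd, List.map_cons, List.map_nil] at h
  have tx : evP Rs [x, X] a_x.2 = x := ev_a_x x X
  have tX : evP Rs [x, X] a_X.2 = X := ev_a_X x X
  have tu : evP Rs [x, X] a_u.2 = u := by rw [ev_a_u, eu]; ring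
  have tv : evP Rs [x, X] a_v.2 = v := by rw [ev_a_v, ev]; ring
  have tA : evP Rs [x, X] a_A.2 = d * (x ^ 2 * X * u) := by rw [ev_a_A, ← hA]; ring
  have tB : evP Rs [x, X] a_B.2 = e * (x ^ 2 * X ^ 2 * v) := by rw [ev_a_B, ← hB]; ring
  have tm : evP Rs [x, X] a_m.2 = a * (x ^ 2 * X ^ 2 * v) := by rw [ev_a_m, ← hm]
  have tn : evP Rs [x, X] a_n.2 = c * (x ^ 4 * X ^ 2 * u ^ 2) := by rw [ev_a_n, ← hn]
  simp only [tx, tX, tu, tv, tA, tB, tm, tn] at h
  refine (mul_eq_zero.1 (?_ : (x ^ 4 * X ^ 3 * u ^ 2 * v ^ 1) * _ = 0)).resolve_left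
    (mul_ne_zero (mul_ne_zero (mul_ne_zero (pow_ne_zero _ hx) (pow_ne_zero _ hX)) (pow_ne_zero _ hu)) (pow_ne_zero _ hv))
  linear_combination h

theorem rel10 [IsDomain K] [CharP K 2] {x X u v d e a c : K} (hx : x ≠ 0) (hX : X ≠ 0) (hu : u ≠ 0) (hv : v ≠ 0)
    (eu : u = 1 + X + x * X) (ev : v = 1 + x ^ (2:ℕ) + x ^ (2:ℕ) * X)
    (hA : 1 + x ^ (3:ℕ) * X ^ (2:ℕ) + x ^ (4:ℕ) * X ^ (2:ℕ) = d * (x ^ (2:ℕ) * X * u))
    (hB : 1 + x ^ (4:ℕ) * X ^ (3:ℕ) + x ^ (4:ℕ) * X ^ (4:ℕ) = e * (x ^ (2:ℕ) * X ^ (2:ℕ) * v))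
    (hm : x ^ (4:ℕ) * X ^ (2:ℕ) + x ^ (2:ℕ) * X ^ (2:ℕ) + x ^ (2:ℕ) * X + 1 = a * (x ^ (2:ℕ) * X ^ (2:ℕ) * v))
    (hn : x ^ (4:ℕ) * X ^ (4:ℕ) + x ^ (4:ℕ) * X ^ (2:ℕ) + x ^ (2:ℕ) * X ^ (2:ℕ) + 1 = c * (x ^ (4:ℕ) * X ^ (2:ℕ) * u ^ (2:ℕ))) :
    (x * X) ^ (2:ℕ) * e + (x ^ (2:ℕ) * X) * e ^ (2:ℕ) + (x * X) ^ (2:ℕ) + (x ^ (2:ℕ) * X) * e + (x ^ (2:ℕ) * X) * (a * c) + (x ^ (2:ℕ) * X) * (a ^ (2:ℕ) * c) + e ^ (2:ℕ) + e * (a * c) + (a * c) + (a ^ (2:ℕ) * c) + 1 = 0 := by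
  have h := evS_eq_zero Rs [x, X] N10 check10
  simp only [N10, evS, evProd, List.map_cons, List.map_nil] at h
  have tx : evP Rs [x, X] a_x.2 = x := ev_a_x x X
  have tX : evP Rs [x, X] a_X.2 = X := ev_a_X x X
  have tu : evP Rs [x, X] a_u.2 = u := by rw [ev_a_u, eu]; ring
  have tv : evP Rs [x, X] a_v.2 = v := by rw [ev_a_v, ev]; ring
  have tA : evP Rs [x, X] a_A.2 = d * (x ^ 2 * X * u) := by rw [ev_a_A, ← hA]; ring
  have tB : evP Rs [x, X] a_B.2 = e * (x ^ 2 * X ^ 2 * v) := by rw [ev_a_B, ← hB]; ring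
  have tm : evP Rs [x, X] a_m.2 = a * (x ^ 2 * X ^ 2 * v) := by rw [ev_a_m, ← hm]
  have tn : evP Rs [x, X] a_n.2 = c * (x ^ 4 * X ^ 2 * u ^ 2) := by rw [ev_a_n, ← hn]
  simp only [tx, tX, tu, tv, tA, tB, tm, tn] at h
  refine (mul_eq_zero.1 (?_ : (x ^ 8 * X ^ 6 * u ^ 2 * v ^ 2) * _ = 0)).resolve_left
    (mul_ne_zero (mul_ne_zero (mul_ne_zero (pow_ne_zero _ hx) (pow_ne_zero _ hX)) (pow_ne_zero _ hu)) (pow_ne_zero _ hv))
  linear_combination h

theorem rel11 [IsDomain K] [CharP K 2] {x X u v d e a c : K} (hx : x ≠ 0) (hX : X ≠ 0) (hu : u ≠ 0) (hv : v ≠ 0)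
    (eu : u = 1 + X + x * X) (ev : v = 1 + x ^ (2:ℕ) + x ^ (2:ℕ) * X)
    (hA : 1 + x ^ (3:ℕ) * X ^ (2:ℕ) + x ^ (4:ℕ) * X ^ (2:ℕ) = d * (x ^ (2:ℕ) * X * u))
    (hB : 1 + x ^ (4:ℕ) * X ^ (3:ℕ) + x ^ (4:ℕ) * X ^ (4:ℕ) = e * (x ^ (2:ℕ) * X ^ (2:ℕ) * v))
    (hm : x ^ (4:ℕ) * X ^ (2:ℕ) + x ^ (2:ℕ) * X ^ (2:ℕ) + x ^ (2:ℕ) * X + 1 = a * (x ^ (2:ℕ) * X ^ (2:ℕ) * v))
    (hn : x ^ (4:ℕ) * X ^ (4:ℕ) + x ^ (4:ℕ) * X ^ (2:ℕ) + x ^ (2:ℕ) * X ^ (2:ℕ) + 1 = c * (x ^ (4:ℕ) * X ^ (2:ℕ) * u ^ (2:ℕ))) :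
    (x * X) * (x ^ (2:ℕ) * X) * (a ^ (2:ℕ) * c) + (x * X) * d * (a * c) + (x ^ (2:ℕ) * X) * d * (a * c) + (x ^ (2:ℕ) * X) * d * (a ^ (2:ℕ) * c) + (x * X) * (a * c) + (x * X) * (a ^ (2:ℕ) * c) + (x ^ (2:ℕ) * X) * (a * c) + (x ^ (2:ℕ) * X) * (a ^ (2:ℕ) * c) + d * (a * c) + (a * c) + (a ^ (2:ℕ) * c) = 0 := by
  have h := evS_eq_zero Rs [x, X] N11 check11
  simp only [N11, evS, evProd, List.map_cons, List.map_nil] at h
  have tx : evP Rs [x, X] a_x.2 = x := ev_a_x x X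
  have tX : evP Rs [x, X] a_X.2 = X := ev_a_X x X
  have tu : evP Rs [x, X] a_u.2 = u := by rw [ev_a_u, eu]; ring
  have tv : evP Rs [x, X] a_v.2 = v := by rw [ev_a_v, ev]; ring
  have tA : evP Rs [x, X] a_A.2 = d * (x ^ 2 * X * u) := by rw [ev_a_A, ← hA]; ring
  have tB : evP Rs [x, X] a_B.2 = e * (x ^ 2 * X ^ 2 * v) := by rw [ev_a_B, ← hB]; ring
  have tm : evP Rs [x, X] a_m.2 = a * (x ^ 2 * X ^ 2 * v) := by rw [ev_a_m, ← hm]
  have tn : evP Rs [x, X] a_n.2 = c * (x ^ 4 * X ^ 2 * u ^ 2) := by rw [ev_a_n, ← hn]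
  simp only [tx, tX, tu, tv, tA, tB, tm, tn] at h
  refine (mul_eq_zero.1 (?_ : (x ^ 8 * X ^ 6 * u ^ 3 * v ^ 2) * _ = 0)).resolve_left
    (mul_ne_zero (mul_ne_zero (mul_ne_zero (pow_ne_zero _ hx) (pow_ne_zero _ hX)) (pow_ne_zero _ hu)) (pow_ne_zero _ hv))
  linear_combination h

theorem rel12 [IsDomain K] [CharP K 2] {x X u v d e a c : K} (hx : x ≠ 0) (hX : X ≠ 0) (hu : u ≠ 0) (hv : v ≠ 0)
    (eu : u = 1 + X + x * X) (ev : v = 1 + x ^ (2:ℕ) + x ^ (2:ℕ) * X)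
    (hA : 1 + x ^ (3:ℕ) * X ^ (2:ℕ) + x ^ (4:ℕ) * X ^ (2:ℕ) = d * (x ^ (2:ℕ) * X * u))
    (hB : 1 + x ^ (4:ℕ) * X ^ (3:ℕ) + x ^ (4:ℕ) * X ^ (4:ℕ) = e * (x ^ (2:ℕ) * X ^ (2:ℕ) * v))
    (hm : x ^ (4:ℕ) * X ^ (2:ℕ) + x ^ (2:ℕ) * X ^ (2:ℕ) + x ^ (2:ℕ) * X + 1 = a * (x ^ (2:ℕ) * X ^ (2:ℕ) * v))
    (hn : x ^ (4:ℕ) * X ^ (4:ℕ) + x ^ (4:ℕ) * X ^ (2:ℕ) + x ^ (2:ℕ) * X ^ (2:ℕ) + 1 = c * (x ^ (4:ℕ) * X ^ (2:ℕ) * u ^ (2:ℕ))) :
    (x * X) ^ (3:ℕ) + (x * X) ^ (2:ℕ) * d + (x * X) * (x ^ (2:ℕ) * X) * e + (x ^ (2:ℕ) * X) * d * e + (x * X) ^ (2:ℕ) + (x * X) * d + (x * X) * e + (x ^ (2:ℕ) * X) * e + (x ^ (2:ℕ) * X) + d + e + 1 = 0 := by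
  have h := evS_eq_zero Rs [x, X] N12 check12
  simp only [N12, evS, evProd, List.map_cons, List.map_nil] at h
  have tx : evP Rs [x, X] a_x.2 = x := ev_a_x x X
  have tX : evP Rs [x, X] a_X.2 = X := ev_a_X x X
  have tu : evP Rs [x, X] a_u.2 = u := by rw [ev_a_u, eu]; ring
  have tv : evP Rs [x, X] a_v.2 = v := by rw [ev_a_v, ev]; ring
  have tA : evP Rs [x, X] a_A.2 = d * (x ^ 2 * X * u) := by rw [ev_a_A, ← hA]; ring
  have tB : evP Rs [x, X] a_B.2 = e * (x ^ 2 * X ^ 2 * v) := by rw [ev_a_B, ← hB]; ring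
  have tm : evP Rs [x, X] a_m.2 = a * (x ^ 2 * X ^ 2 * v) := by rw [ev_a_m, ← hm]
  have tn : evP Rs [x, X] a_n.2 = c * (x ^ 4 * X ^ 2 * u ^ 2) := by rw [ev_a_n, ← hn]
  simp only [tx, tX, tu, tv, tA, tB, tm, tn] at h
  refine (mul_eq_zero.1 (?_ : (x ^ 2 * X ^ 2 * u ^ 1 * v ^ 1) * _ = 0)).resolve_left
    (mul_ne_zero (mul_ne_zero (mul_ne_zero (pow_ne_zero _ hx) (pow_ne_zero _ hX)) (pow_ne_zero _ hu)) (pow_ne_zero _ hv))
  linear_combination h

theorem rel13 [IsDomain K] [CharP K 2] {x X u v d e a c : K} (hx : x ≠ 0) (hX : X ≠ 0) (hu : u ≠ 0) (hv : v ≠ 0)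
    (eu : u = 1 + X + x * X) (ev : v = 1 + x ^ (2:ℕ) + x ^ (2:ℕ) * X)
    (hA : 1 + x ^ (3:ℕ) * X ^ (2:ℕ) + x ^ (4:ℕ) * X ^ (2:ℕ) = d * (x ^ (2:ℕ) * X * u))
    (hB : 1 + x ^ (4:ℕ) * X ^ (3:ℕ) + x ^ (4:ℕ) * X ^ (4:ℕ) = e * (x ^ (2:ℕ) * X ^ (2:ℕ) * v))
    (hm : x ^ (4:ℕ) * X ^ (2:ℕ) + x ^ (2:ℕ) * X ^ (2:ℕ) + x ^ (2:ℕ) * X + 1 = a * (x ^ (2:ℕ) * X ^ (2:ℕ) * v))
    (hn : x ^ (4:ℕ) * X ^ (4:ℕ) + x ^ (4:ℕ) * X ^ (2:ℕ) + x ^ (2:ℕ) * X ^ (2:ℕ) + 1 = c * (x ^ (4:ℕ) * X ^ (2:ℕ) * u ^ (2:ℕ))) :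
    (x * X) ^ (2:ℕ) * d + (x * X) ^ (2:ℕ) * (a * c) + (x * X) * d ^ (2:ℕ) + (x * X) * e * (a * c) + d * e ^ (2:ℕ) + (x * X) * (x ^ (2:ℕ) * X) + (x * X) * d + (x * X) * e + (x * X) * (a * c) + (x * X) * (a ^ (2:ℕ) * c) + (x ^ (2:ℕ) * X) * d + (x ^ (2:ℕ) * X) * (a * c) + d ^ (2:ℕ) + d * e + e * (a * c) + d + e + (a ^ (2:ℕ) * c) + 1 = 0 := by
  have h := evS_eq_zero Rs [x, X] N13 check13
  simp only [N13, evS, evProd, List.map_cons, List.map_nil] at h
  have tx : evP Rs [x, X] a_x.2 = x := ev_a_x x X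
  have tX : evP Rs [x, X] a_X.2 = X := ev_a_X x X
  have tu : evP Rs [x, X] a_u.2 = u := by rw [ev_a_u, eu]; ring
  have tv : evP Rs [x, X] a_v.2 = v := by rw [ev_a_v, ev]; ring
  have tA : evP Rs [x, X] a_A.2 = d * (x ^ 2 * X * u) := by rw [ev_a_A, ← hA]; ring
  have tB : evP Rs [x, X] a_B.2 = e * (x ^ 2 * X ^ 2 * v) := by rw [ev_a_B, ← hB]; ring
  have tm : evP Rs [x, X] a_m.2 = a * (x ^ 2 * X ^ 2 * v) := by rw [ev_a_m, ← hm]
  have tn : evP Rs [x, X] a_n.2 = c * (x ^ 4 * X ^ 2 * u ^ 2) := by rw [ev_a_n, ← hn]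
  simp only [tx, tX, tu, tv, tA, tB, tm, tn] at h
  refine (mul_eq_zero.1 (?_ : (x ^ 8 * X ^ 6 * u ^ 2 * v ^ 2) * _ = 0)).resolve_left
    (mul_ne_zero (mul_ne_zero (mul_ne_zero (pow_ne_zero _ hx) (pow_ne_zero _ hX)) (pow_ne_zero _ hu)) (pow_ne_zero _ hv))
  linear_combination h

theorem rel14 [IsDomain K] [CharP K 2] {x X u v d e a c : K} (hx : x ≠ 0) (hX : X ≠ 0) (hu : u ≠ 0) (hv : v ≠ 0)
    (eu : u = 1 + X + x * X) (ev : v = 1 + x ^ (2:ℕ) + x ^ (2:ℕ) * X)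
    (hA : 1 + x ^ (3:ℕ) * X ^ (2:ℕ) + x ^ (4:ℕ) * X ^ (2:ℕ) = d * (x ^ (2:ℕ) * X * u))
    (hB : 1 + x ^ (4:ℕ) * X ^ (3:ℕ) + x ^ (4:ℕ) * X ^ (4:ℕ) = e * (x ^ (2:ℕ) * X ^ (2:ℕ) * v))
    (hm : x ^ (4:ℕ) * X ^ (2:ℕ) + x ^ (2:ℕ) * X ^ (2:ℕ) + x ^ (2:ℕ) * X + 1 = a * (x ^ (2:ℕ) * X ^ (2:ℕ) * v))
    (hn : x ^ (4:ℕ) * X ^ (4:ℕ) + x ^ (4:ℕ) * X ^ (2:ℕ) + x ^ (2:ℕ) * X ^ (2:ℕ) + 1 = c * (x ^ (4:ℕ) * X ^ (2:ℕ) * u ^ (2:ℕ))) :
    (x * X) ^ (2:ℕ) * d ^ (2:ℕ) + (x * X) ^ (2:ℕ) * (a * c) + (x ^ (2:ℕ) * X) ^ (2:ℕ) + d ^ (2:ℕ) + e = 0 := by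
  have h := evS_eq_zero Rs [x, X] N14 check14
  simp only [N14, evS, evProd, List.map_cons, List.map_nil] at h
  have tx : evP Rs [x, X] a_x.2 = x := ev_a_x x X
  have tX : evP Rs [x, X] a_X.2 = X := ev_a_X x X
  have tu : evP Rs [x, X] a_u.2 = u := by rw [ev_a_u, eu]; ring
  have tv : evP Rs [x, X] a_v.2 = v := by rw [ev_a_v, ev]; ring
  have tA : evP Rs [x, X] a_A.2 = d * (x ^ 2 * X * u) := by rw [ev_a_A, ← hA]; ring
  have tB : evP Rs [x, X] a_B.2 = e * (x ^ 2 * X ^ 2 * v) := by rw [ev_a_B, ← hB]; ring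
  have tm : evP Rs [x, X] a_m.2 = a * (x ^ 2 * X ^ 2 * v) := by rw [ev_a_m, ← hm]
  have tn : evP Rs [x, X] a_n.2 = c * (x ^ 4 * X ^ 2 * u ^ 2) := by rw [ev_a_n, ← hn]
  simp only [tx, tX, tu, tv, tA, tB, tm, tn] at h
  refine (mul_eq_zero.1 (?_ : (x ^ 4 * X ^ 2 * u ^ 2 * v ^ 1) * _ = 0)).resolve_left
    (mul_ne_zero (mul_ne_zero (mul_ne_zero (pow_ne_zero _ hx) (pow_ne_zero _ hX)) (pow_ne_zero _ hu)) (pow_ne_zero _ hv))
  linear_combination h

end Cfsg.Agent.H482.SzBase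
end

-- part: H482/SzCert
section
/-!
# Certificates for the Suzuki identities (generated)

Variables `w, f, d, e, o, r, p`; relations `R0, …, R15`.
-/

set_option autoImplicit false
set_option maxRecDepth 100000

namespace Cfsg.Agent.H482.SzCert

open Cfsg.Agent.H482.F2Poly

variable {K : Type*} [CommRing K] (w f d e o r p : K)

/-- Radices. -/
def Rs : List ℕ := [5, 6, 7, 9, 6, 8, 9]

/-- atom -/
def a_p : List ℕ × List ℕ := ([0, 0, 0, 0, 0, 0, 1], [90720])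

/-- atom -/
def a_q : List ℕ × List ℕ := ([0, 1, 1, 0, 0, 0, 1], [5, 90750])

/-- atom -/
def a_o : List ℕ × List ℕ := ([0, 0, 0, 0, 1, 0, 0], [1890])

/-- atom -/
def a_r : List ℕ × List ℕ := ([0, 0, 0, 0, 0, 1, 0], [11340])

/-- atom -/
def a_nW0 : List ℕ × List ℕ := (beta% delta% lq26f63394d3 fun a b _ _ f =>
 (f (a 0<|a 1<|a 2<|a 1<|a 1<|a 0<|a 1<|b) (a 5<|a 30<|a 240<|a 270<|a 1890<|a 90720<|a 90750<|b)))

/-- atom -/
def a_nz : List ℕ × List ℕ := ([0, 0, 1, 1, 0, 0, 1], [30, 240, 90720])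

/-- atom -/
def a_nW2 : List ℕ × List ℕ := (beta% delta% lq26f63394d3 fun a b _ _ f =>
 (f (a 0<|a 0<|a 1<|a 1<|a 1<|a 0<|a 2<|b) (a 210<|a 90750<|a 90960<|a 92610<|a 181440<|b)))

/-- atom -/
def a_nT0 : List ℕ × List ℕ := (beta% delta% lq26f63394d3 fun a b _ _ f =>
 (f (a 0<|a 1<|a 2<|a 2<|a 0<|a 1<|a 2<|b) (a 5<|a 210<|a 270<|a 480<|a 11340<|a 90750<|a 181440<|b)))

/-- atom -/
def a_nZ : List ℕ × List ℕ := (beta% delta% lq26f63394d3 fun a b _ _ f =>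
 (f (a 0<|a 1<|a 2<|a 1<|a 0<|a 0<|a 1<|b) (a 5<|a 210<|a 270<|a 90750<|b)))

/-- atom -/
def a_nT2 : List ℕ × List ℕ := (beta% delta% lq26f63394d3 fun a b _ _ f =>
 (f (a 0<|a 2<|a 3<|a 1<|a 0<|a 1<|a 2<|b) (a 10<|a 60<|a 215<|a 275<|a 11345<|a 90960<|a 91020<|a 102090<|a 181500<|b)))

/-- atom -/
def a_nK : List ℕ × List ℕ := (beta% delta% lq26f63394d3 fun a b _ _ f =>
 (f (a 0<|a 2<|a 3<|a 1<|a 1<|a 0<|a 3<|b) (a 10<|a 60<|a 210<|a 215<|a 245<|a 270<|a 275<|a 300<|a 1895<|a 1920<|a 2105<|a 2135<|a 90750<|a 90780<|a 90930<|a 90965<|a 90990<|a 92850<|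
 a 92880<|a 181445<|a 181680<|a 183330<|a 183360<|a 272160<|b)))

/-- relation -/
def R0 : List ℕ × List ℕ := (beta% delta% lq26f63394d3 fun a b _ _ f =>
 (f (a 2<|a 1<|a 0<|a 1<|a 1<|a 1<|a 0<|b) (a 1890<|a 1892<|a 2100<|a 2105<|a 11340<|b)))

/-- relation -/
def R1 : List ℕ × List ℕ := (beta% delta% lq26f63394d3 fun a b _ _ f =>
 (f (a 2<|a 1<|a 0<|a 1<|a 1<|a 1<|a 0<|b) (a 1895<|a 2100<|a 11340<|a 11342<|a 11345<|b)))

/-- relation -/
def R2 : List ℕ × List ℕ := (beta% delta% lq26f63394d3 fun a b _ _ f =>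
 (f (a 0<|a 1<|a 2<|a 0<|a 2<|a 1<|a 0<|b) (a 1890<|a 1950<|a 3780<|a 11345<|a 11400<|b)))

/-- relation -/
def R3 : List ℕ × List ℕ := (beta% delta% lq26f63394d3 fun a b _ _ f =>
 (f (a 2<|a 2<|a 1<|a 0<|a 0<|a 0<|a 0<|b) (a 0<|a 6<|a 10<|a 32<|a 35<|a 36<|b)))

/-- relation -/
def R4 : List ℕ × List ℕ := (beta% delta% lq26f63394d3 fun a b _ _ f =>
 (f (a 2<|a 2<|a 2<|a 1<|a 1<|a 0<|a 0<|b) (a 2<|a 5<|a 60<|a 215<|a 1892<|a 1900<|b)))

/-- relation -/
def R5 : List ℕ × List ℕ := (beta% delta% lq26f63394d3 fun a b _ _ f =>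
 (f (a 2<|a 1<|a 1<|a 1<|a 1<|a 0<|a 0<|b) (a 0<|a 30<|a 210<|a 240<|a 1892<|a 1895<|a 1896<|b)))

/-- relation -/
def R6 : List ℕ × List ℕ := (beta% delta% lq26f63394d3 fun a b _ _ f =>
 (f (a 1<|a 1<|a 1<|a 1<|a 1<|a 1<|a 0<|b) (a 1891<|a 1895<|a 1921<|a 2130<|a 11340<|a 11341<|a 11370<|b)))

/-- relation -/
def R7 : List ℕ × List ℕ := (beta% delta% lq26f63394d3 fun a b _ _ f =>
 (f (a 0<|a 1<|a 0<|a 1<|a 2<|a 1<|a 0<|b) (a 3780<|a 3785<|a 3990<|a 11340<|a 11550<|a 13230<|a 13235<|b)))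

/-- relation -/
def R8 : List ℕ × List ℕ := (beta% delta% lq26f63394d3 fun a b _ _ f =>
 (f (a 2<|a 1<|a 2<|a 1<|a 1<|a 0<|a 0<|b) (a 0<|a 2<|a 5<|a 210<|a 215<|a 270<|a 1890<|a 1895<|b)))

/-- relation -/
def R9 : List ℕ × List ℕ := (beta% delta% lq26f63394d3 fun a b _ _ f =>
 (f (a 2<|a 1<|a 2<|a 1<|a 1<|a 0<|a 0<|b) (a 1<|a 5<|a 6<|a 32<|a 35<|a 60<|a 61<|a 215<|a 240<|a 241<|a 1895<|b)))

/-- relation -/
def R10 : List ℕ × List ℕ := (beta% delta% lq26f63394d3 fun a b _ _ f =>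
 (f (a 2<|a 1<|a 0<|a 2<|a 1<|a 1<|a 0<|b) (a 0<|a 2<|a 212<|a 215<|a 420<|a 425<|a 1890<|a 1895<|a 2100<|a 11340<|a 11345<|b)))

/-- relation -/
def R11 : List ℕ × List ℕ := (beta% delta% lq26f63394d3 fun a b _ _ f =>
 (f (a 1<|a 1<|a 1<|a 0<|a 1<|a 1<|a 0<|b) (a 1890<|a 1891<|a 1895<|a 1920<|a 1921<|a 1925<|a 11340<|a 11341<|a 11345<|a 11346<|a 11375<|b)))

/-- relation -/
def R12 : List ℕ × List ℕ := (beta% delta% lq26f63394d3 fun a b _ _ f =>
 (f (a 3<|a 1<|a 1<|a 1<|a 0<|a 0<|a 0<|b) (a 0<|a 2<|a 3<|a 5<|a 30<|a 31<|a 32<|a 210<|a 211<|a 215<|a 216<|a 245<|b)))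

/-- relation -/
def R13 : List ℕ × List ℕ := (beta% delta% lq26f63394d3 fun a b _ _ f =>
 (f (a 2<|a 1<|a 2<|a 2<|a 1<|a 1<|a 0<|b) (a 0<|a 6<|a 30<|a 31<|a 32<|a 35<|a 60<|a 61<|a 210<|a 211<|a 240<|a 450<|a 1891<|a 1892<|a 1895<|a 2100<|a 2101<|a 11340<|a 11341<|b)))

/-- relation -/
def R14 : List ℕ × List ℕ := (beta% delta% lq26f63394d3 fun a b _ _ f =>
 (f (a 2<|a 2<|a 2<|a 1<|a 1<|a 0<|a 0<|b) (a 10<|a 60<|a 62<|a 210<|a 1892<|b)))

/-- relation -/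
def R15 : List ℕ × List ℕ := (beta% delta% lq26f63394d3 fun a b _ _ f =>
 (f (a 2<|a 1<|a 1<|a 1<|a 0<|a 0<|a 2<|b) (a 2<|a 215<|a 90960<|a 181440<|b)))

theorem ev_a_p : evP Rs [w, f, d, e, o, r, p] a_p.2 = p := by
  simp only [a_p, Rs, evP, evM, Nat.reduceMod, Nat.reduceDiv, pow_zero, pow_one, one_mul, mul_one, add_zero] <;> ring

theorem ev_a_q : evP Rs [w, f, d, e, o, r, p] a_q.2 = d * p + f := by
  simp only [a_q, Rs, evP, evM, Nat.reduceMod, Nat.reduceDiv, pow_zero, pow_one, one_mul, mul_one, add_zero] <;> ring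

theorem ev_a_o : evP Rs [w, f, d, e, o, r, p] a_o.2 = o := by
  simp only [a_o, Rs, evP, evM, Nat.reduceMod, Nat.reduceDiv, pow_zero, pow_one, one_mul, mul_one, add_zero] <;> ring

theorem ev_a_r : evP Rs [w, f, d, e, o, r, p] a_r.2 = r := by
  simp only [a_r, Rs, evP, evM, Nat.reduceMod, Nat.reduceDiv, pow_zero, pow_one, one_mul, mul_one, add_zero] <;> ring

theorem ev_a_nW0 : evP Rs [w, f, d, e, o, r, p] a_nW0.2 = d ^ 2 * e + d * e + d * p + f + d + o + p := by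
  simp only [a_nW0, Rs, evP, evM, Nat.reduceMod, Nat.reduceDiv, pow_zero, pow_one, one_mul, mul_one, add_zero] <;> ring

theorem ev_a_nz : evP Rs [w, f, d, e, o, r, p] a_nz.2 = d * e + d + p := by
  simp only [a_nz, Rs, evP, evM, Nat.reduceMod, Nat.reduceDiv, pow_zero, pow_one, one_mul, mul_one, add_zero] <;> ring

theorem ev_a_nW2 : evP Rs [w, f, d, e, o, r, p] a_nW2.2 = d * e * p + d * p + o * p + p ^ 2 + e := by
  simp only [a_nW2, Rs, evP, evM, Nat.reduceMod, Nat.reduceDiv, pow_zero, pow_one, one_mul, mul_one, add_zero] <;> ring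

theorem ev_a_nT0 : evP Rs [w, f, d, e, o, r, p] a_nT0.2 = d ^ 2 * e ^ 2 + d ^ 2 * e + d * p + p ^ 2 + f + e + r := by
  simp only [a_nT0, Rs, evP, evM, Nat.reduceMod, Nat.reduceDiv, pow_zero, pow_one, one_mul, mul_one, add_zero] <;> ring

theorem ev_a_nZ : evP Rs [w, f, d, e, o, r, p] a_nZ.2 = d ^ 2 * e + d * p + f + e := by
  simp only [a_nZ, Rs, evP, evM, Nat.reduceMod, Nat.reduceDiv, pow_zero, pow_one, one_mul, mul_one, add_zero] <;> ring

theorem ev_a_nT2 : evP Rs [w, f, d, e, o, r, p] a_nT2.2 = d ^ 3 * e * p + f * d ^ 2 * e + d ^ 2 * p ^ 2 + d * e * p + d * r * p + f ^ 2 + f * e + f * r + d ^ 2 := by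
  simp only [a_nT2, Rs, evP, evM, Nat.reduceMod, Nat.reduceDiv, pow_zero, pow_one, one_mul, mul_one, add_zero] <;> ring

theorem ev_a_nK : evP Rs [w, f, d, e, o, r, p] a_nK.2 = d ^ 2 * e * o * p + f * d ^ 2 * e + f * d * e * o + f * d * e * p + d ^ 3 * e + d ^ 2 * e * p + d * e * o * p + d * e * p ^ 2 + d * o * p ^ 2 + f * d * e + f * e * o + f * p ^ 2 + d ^ 2 * e + d ^ 2 * p + o * p ^ 2 + p ^ 3 + f ^ 2 + f * e + f * o + d ^ 2 + d * o + d * p + e * p + e := by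
  simp only [a_nK, Rs, evP, evM, Nat.reduceMod, Nat.reduceDiv, pow_zero, pow_one, one_mul, mul_one, add_zero] <;> ring

theorem ev_R0 : evP Rs [w, f, d, e, o, r, p] R0.2 = w ^ 2 * o + f * e * o + e * o + o + r := by
  simp only [R0, Rs, evP, evM, Nat.reduceMod, Nat.reduceDiv, pow_zero, pow_one, one_mul, mul_one, add_zero] <;> ring

theorem ev_R1 : evP Rs [w, f, d, e, o, r, p] R1.2 = w ^ 2 * r + f * o + f * r + e * o + r := by
  simp only [R1, Rs, evP, evM, Nat.reduceMod, Nat.reduceDiv, pow_zero, pow_one, one_mul, mul_one, add_zero] <;> ring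

theorem ev_R2 : evP Rs [w, f, d, e, o, r, p] R2.2 = d ^ 2 * o + d ^ 2 * r + f * r + o ^ 2 + o := by
  simp only [R2, Rs, evP, evM, Nat.reduceMod, Nat.reduceDiv, pow_zero, pow_one, one_mul, mul_one, add_zero] <;> ring

theorem ev_R3 : evP Rs [w, f, d, e, o, r, p] R3.2 = w ^ 2 * d + w * f * d + w * f + f ^ 2 + f * d + 1 := by
  simp only [R3, Rs, evP, evM, Nat.reduceMod, Nat.reduceDiv, pow_zero, pow_one, one_mul, mul_one, add_zero] <;> ring

theorem ev_R4 : evP Rs [w, f, d, e, o, r, p] R4.2 = w ^ 2 * o + f ^ 2 * o + w ^ 2 + f * e + d ^ 2 + f := by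
  simp only [R4, Rs, evP, evM, Nat.reduceMod, Nat.reduceDiv, pow_zero, pow_one, one_mul, mul_one, add_zero] <;> ring

theorem ev_R5 : evP Rs [w, f, d, e, o, r, p] R5.2 = w ^ 2 * o + w * f * o + f * o + d * e + d + e + 1 := by
  simp only [R5, Rs, evP, evM, Nat.reduceMod, Nat.reduceDiv, pow_zero, pow_one, one_mul, mul_one, add_zero] <;> ring

theorem ev_R6 : evP Rs [w, f, d, e, o, r, p] R6.2 = w * d * o + d * e * o + w * o + w * r + f * o + d * r + r := by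
  simp only [R6, Rs, evP, evM, Nat.reduceMod, Nat.reduceDiv, pow_zero, pow_one, one_mul, mul_one, add_zero] <;> ring

theorem ev_R7 : evP Rs [w, f, d, e, o, r, p] R7.2 = f * o ^ 2 + f * o * r + e * o ^ 2 + e * r + o ^ 2 + o * r + r := by
  simp only [R7, Rs, evP, evM, Nat.reduceMod, Nat.reduceDiv, pow_zero, pow_one, one_mul, mul_one, add_zero] <;> ring

theorem ev_R8 : evP Rs [w, f, d, e, o, r, p] R8.2 = d ^ 2 * e + w ^ 2 + f * e + f * o + f + e + o + 1 := by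
  simp only [R8, Rs, evP, evM, Nat.reduceMod, Nat.reduceDiv, pow_zero, pow_one, one_mul, mul_one, add_zero] <;> ring

theorem ev_R9 : evP Rs [w, f, d, e, o, r, p] R9.2 = w ^ 2 * d + w * d ^ 2 + w * d * e + w * f + f * d + f * e + f * o + d ^ 2 + d * e + w + f := by
  simp only [R9, Rs, evP, evM, Nat.reduceMod, Nat.reduceDiv, pow_zero, pow_one, one_mul, mul_one, add_zero] <;> ring

theorem ev_R10 : evP Rs [w, f, d, e, o, r, p] R10.2 = w ^ 2 * e + f * e ^ 2 + w ^ 2 + f * e + f * o + f * r + e ^ 2 + e * o + o + r + 1 := by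
  simp only [R10, Rs, evP, evM, Nat.reduceMod, Nat.reduceDiv, pow_zero, pow_one, one_mul, mul_one, add_zero] <;> ring

theorem ev_R11 : evP Rs [w, f, d, e, o, r, p] R11.2 = w * f * r + w * d * o + f * d * o + f * d * r + w * o + w * r + f * o + f * r + d * o + o + r := by
  simp only [R11, Rs, evP, evM, Nat.reduceMod, Nat.reduceDiv, pow_zero, pow_one, one_mul, mul_one, add_zero] <;> ring

theorem ev_R12 : evP Rs [w, f, d, e, o, r, p] R12.2 = w ^ 3 + w ^ 2 * d + w * f * e + f * d * e + w ^ 2 + w * d + w * e + f * e + f + d + e + 1 := by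
  simp only [R12, Rs, evP, evM, Nat.reduceMod, Nat.reduceDiv, pow_zero, pow_one, one_mul, mul_one, add_zero] <;> ring

theorem ev_R13 : evP Rs [w, f, d, e, o, r, p] R13.2 = w ^ 2 * d + w ^ 2 * o + w * d ^ 2 + w * e * o + d * e ^ 2 + w * f + w * d + w * e + w * o + w * r + f * d + f * o + d ^ 2 + d * e + e * o + d + e + r + 1 := by
  simp only [R13, Rs, evP, evM, Nat.reduceMod, Nat.reduceDiv, pow_zero, pow_one, one_mul, mul_one, add_zero] <;> ring

theorem ev_R14 : evP Rs [w, f, d, e, o, r, p] R14.2 = w ^ 2 * d ^ 2 + w ^ 2 * o + f ^ 2 + d ^ 2 + e := by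
  simp only [R14, Rs, evP, evM, Nat.reduceMod, Nat.reduceDiv, pow_zero, pow_one, one_mul, mul_one, add_zero] <;> ring

theorem ev_R15 : evP Rs [w, f, d, e, o, r, p] R15.2 = d * e * p + w ^ 2 + f * e + p ^ 2 := by
  simp only [R15, Rs, evP, evM, Nat.reduceMod, Nat.reduceDiv, pow_zero, pow_one, one_mul, mul_one, add_zero] <;> ring

/-- cofactor -/
noncomputable def c_cone0_0 : List ℕ × List ℕ :=
  (by
  refine (?fq9001 : ((_root_.Prod.mk (pk61l (fun i1 => (pk61d (nat_lit 3) 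
    (nat_lit 0x122859) i1)) (nat_lit 0) (nat_lit 7) List.nil) (pk61l (fun i1 => (pk61d (nat_lit 19) 
    (nat_lit 0xb13012022a2a1f4536c85d050a04213f94273e84e4b09c85a53b31e2a5e3bcbc4a97888af10d59a24b33d166202c592589beb13196260ac4c0389a070ff8e1961c25a379426f274de4e1bbcb377946ec58dd7e9baf933e2867908ceb81988432c1c64154c8289905031f0663df8c76518ead2e5905c7d8b89216c382d38459088b204964052c80858d4058988b13010d4c21a3442ea085b6109c817fe82d8785b0e0b310165ac2cb50589e0b13a162642c4c0355205f280bb80176382ec305d840b4f0168f82c6a058a40b144162680f960120c02148041a00348004f6009dc013b001c200352006940078000e1001b800360000f0000f) i1)) (nat_lit 0) (nat_lit 104) List.nil)) : List ℕ × List ℕ)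
    = ?xq9001 → (List ℕ × List ℕ)) ?hq9001; (case hq9001 => (set_option maxRecDepth 1000000 in conv => lhs; reduce)); intro _; exact ?xq9001 : List ℕ × List ℕ)

/-- cofactor -/
noncomputable def c_cone0_1 : List ℕ × List ℕ :=
  (by
  refine (?fq9002 : ((_root_.Prod.mk (pk61l (fun i1 => (pk61d (nat_lit 3) 
    (nat_lit 0x11a8d1) i1)) (nat_lit 0) (nat_lit 7) List.nil) (pk61l (fun i1 => (pk61d (nat_lit 19) 
    (nat_lit 0x2c4cf4543e8a6db14db21417427f284eb909c961390af3825e3c6bc77d78ef2f12f5e254bc4497888af10d5e218b1cd962daac5b058b26b13f16271ac4ca5898cb131562601e9063d1d27a3a0e1ff1c25a37cbc6f900deb99bcba379426f274de4e1baf83314465b80cb07191f43224e64488c83719051320a063e84c7ce18f8831efe63df8c76598eb631d6463ac4c756172c82d8ac5b0e0b5b3169c22cb50593d0b26d964d62c84459024b202964042c6aa58cf0b19b963332c66458a84b1419626a2c4cc58994b130085d910ba8216f042dd885b710a0e214084275084e90b65816c3c2d8705a410b478166342cb80596b0b1320d8901a4002f9405dc00bb0c16fa82df105a780b48c168f82c6b058d402760049200906010a4020d003c0007620069000a50013b801a5001ea00360006b800d2000b4000f4001e0001e0001600028000300005)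 i1)) (nat_lit 0) (nat_lit 138) List.nil)) : List ℕ × List ℕ)
    = ?xq9002 → (List ℕ × List ℕ)) ?hq9002; (case hq9002 => (set_option maxRecDepth 1000000 in conv => lhs; reduce)); intro _; exact ?xq9002 : List ℕ × List ℕ)

/-- cofactor -/
noncomputable def c_cone0_2 : List ℕ × List ℕ :=
  (by
  refine (?fq9003 : ((_root_.Prod.mk (pk61l (fun i1 => (pk61d (nat_lit 3) 
    (nat_lit 0x151a91) i1)) (nat_lit 0) (nat_lit 7) List.nil) (pk61l (fun i1 => (pk61d (nat_lit 19) 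
    (nat_lit 0x6ebe0b1301154422a21c543e852010a31214082f2b058d0eb1a096334ac5b558b38b165d62601bf1237c826f900deb79bc9d377966ef28dd7c999563310a65b80cb07992c6323ea6448cc8911905031efc63ac4c75698eac2da145b0e4b5b316a942d386599e8b2d4964d62c81258cc8b135162612c4c0168f02cb58596a0b1320bb0816f8809d80120e02418041a802760034a006900078000d20004600018000080000) i1)) (nat_lit 0) (nat_lit 69) List.nil)) : List ℕ × List ℕ)
    = ?xq9003 → (List ℕ × List ℕ)) ?hq9003; (case hq9003 => (set_option maxRecDepth 1000000 in conv => lhs; reduce)); intro _; exact ?xq9003 : List ℕ × List ℕ)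

/-- cofactor -/
noncomputable def c_cone0_3 : List ℕ × List ℕ :=
  (by
  refine (?fq9004 : ((_root_.Prod.mk (pk61l (fun i1 => (pk61d (nat_lit 3) 
    (nat_lit 0xd8891) i1)) (nat_lit 0) (nat_lit 7) List.nil) (pk61l (fun i1 => (pk61d (nat_lit 19) 
    (nat_lit 0x240454543e8502109fca139f4272063df8bcac163412c5ce58b6ab16c162cbac4fc589bcb13196262ac4c13d5187a6e8df201bd6e379426f270dde79bbca375f0647d0c82a9905031efc63ab0b20496337109c8165a801a4001ae0035200690006b8001f0003c00028000280000) i1)) (nat_lit 0) (nat_lit 46) List.nil)) : List ℕ × List ℕ)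
    = ?xq9004 → (List ℕ × List ℕ)) ?hq9004; (case hq9004 => (set_option maxRecDepth 1000000 in conv => lhs; reduce)); intro _; exact ?xq9004 : List ℕ × List ℕ)

/-- cofactor -/
noncomputable def c_cone0_4 : List ℕ × List ℕ :=
  (by
  refine (?fq9005 : ((_root_.Prod.mk (pk61l (fun i1 => (pk61d (nat_lit 3) 
    (nat_lit 0x121651) i1)) (nat_lit 0) (nat_lit 7) List.nil) (pk61l (fun i1 => (pk61d (nat_lit 19) 
    (nat_lit 0x2c4c04281084fe509cfa1390c272063c54bc7f178952f1115e21ab33d163322c5b058b2eb137d626f2c4c6589827a6e8f4741bc9c3779e6ef2cdde51bafd375f263e70c7bf98eb131d5a5a708b26b164222c81259010b19b963332c4fc58994b1300b1311626021a9843448868810ba8216dc42db05b0e0b4b4168f42c4f0589d0b13216260176102e0e05be20b4f0163502c52058a20b130013b801ae0034a006900078000dc001b000078000080000) i1)) (nat_lit 0) (nat_lit 74) List.nil)) : List ℕ × List ℕ)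
    = ?xq9005 → (List ℕ × List ℕ)) ?hq9005; (case hq9005 => (set_option maxRecDepth 1000000 in conv => lhs; reduce)); intro _; exact ?xq9005 : List ℕ × List ℕ)

/-- cofactor -/
noncomputable def c_cone0_5 : List ℕ × List ℕ :=
  (by
  refine (?fq9006 : ((_root_.Prod.mk (pk61l (fun i1 => (pk61d (nat_lit 3) 
    (nat_lit 0xe2650) i1)) (nat_lit 0) (nat_lit 7) List.nil) (pk61l (fun i1 => (pk61d (nat_lit 19) 
    (nat_lit 0x47fb884fe4c78a98eac2c5b0589bc8518909c81e9ba3d1d07a058f3a21c3fe386586f5b8dd7c19f1433c84675c0cbd918f7e2e5905c7d8b89216c382d6cc5aa50b4e1164d62c664589f8b1328b13010d1017fe82d870596a0b13a162601aa90348005d840b1a807cb00834004f6009d800d7001a90034800370006b80000) i1)) (nat_lit 0) (nat_lit 53) List.nil)) : List ℕ × List ℕ)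
    = ?xq9006 → (List ℕ × List ℕ)) ?hq9006; (case hq9006 => (set_option maxRecDepth 1000000 in conv => lhs; reduce)); intro _; exact ?xq9006 : List ℕ × List ℕ)

/-- cofactor -/
noncomputable def c_cone0_6 : List ℕ × List ℕ :=
  (by
  refine (?fq9007 : ((_root_.Prod.mk (pk61l (fun i1 => (pk61d (nat_lit 3) 
    (nat_lit 0x121850) i1)) (nat_lit 0) (nat_lit 7) List.nil) (pk61l (fun i1 => (pk61d (nat_lit 19) 
    (nat_lit 0x2dae65898063df8bc77978862c664589808518909c81e8e83d02c6f978dec61bcba379386efa0dde51bb16375f066288cc421962c32c1c64848c8a01905031efc63b28c75616c562d8705a780b4e1165c62cb5059010b199162651626a2c4c0434405b0e0b478166202c5b058a205d840b83816f802c56058980249004830085201068009d800e1000f0) i1)) (nat_lit 0) (nat_lit 58) List.nil)) : List ℕ × List ℕ)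
    = ?xq9007 → (List ℕ × List ℕ)) ?hq9007; (case hq9007 => (set_option maxRecDepth 1000000 in conv => lhs; reduce)); intro _; exact ?xq9007 : List ℕ × List ℕ)

/-- cofactor -/
noncomputable def c_cone0_7 : List ℕ × List ℕ :=
  (by
  refine (?fq9008 : ((_root_.Prod.mk (pk61l (fun i1 => (pk61d (nat_lit 3) 
    (nat_lit 0xd1841) i1)) (nat_lit 0) (nat_lit 7) List.nil) (pk61l (fun i1 => (pk61d (nat_lit 19) 
    (nat_lit 0x4543e58d04b1300df201bc9c375f266210cbd9996e132c1e65838c8fa1905031efe63b28c75696c382d6ce5ad98b54a969c32d384596a0b26b964052c66658cc8b13f162612c4c0165a82c4c8589805d840b7c4168f009060106a020d0013b001a4001a600348000080000) i1)) (nat_lit 0) (nat_lit 45) List.nil)) : List ℕ × List ℕ)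
    = ?xq9008 → (List ℕ × List ℕ)) ?hq9008; (case hq9008 => (set_option maxRecDepth 1000000 in conv => lhs; reduce)); intro _; exact ?xq9008 : List ℕ × List ℕ)

/-- cofactor -/
noncomputable def c_cone0_8 : List ℕ × List ℕ :=
  (by
  refine (?fq9009 : ((_root_.Prod.mk (pk61l (fun i1 => (pk61d (nat_lit 3) 
    (nat_lit 0x1598d1) i1)) (nat_lit 0) (nat_lit 7) List.nil) (pk61l (fun i1 => (pk61d (nat_lit 19) 
    (nat_lit 0x375f05b5eab14e16267ac4c2d8980901151fee63fdc4547a8a87d14db614174281584fef09d7213a1c272684e4b09c858fe731e2f63c56c75658eac2f3825e402bc7f178efaf1165e21ab1cd963502c5ec58ba6b173962daac59c58b30b13f162722c4e3589bcb132d62652c4c63d5187a6fcf4dd9e9ba3d1da7a3a4f4741e8163ce8871340e12d1be4037ae66f5bcde4e9bbd4377a06ef2cdde51bb02375fc6ebf4dd7c9988432c1c647d0c8939912331f1063e10c7bf98ee831d9663ab0b2d4164272c84459038b204964052c6aa58cf0b19c163372c66458a70b1419627f2c4ca58984b130085d410b6e214084272859880b2d6162642c4c03552069000b4f0168f82d1e058de0b148162882c4d0035200694006e000d80004600078000500005)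 i1)) (nat_lit 0) (nat_lit 122) List.nil)) : List ℕ × List ℕ)
    = ?xq9009 → (List ℕ × List ℕ)) ?hq9009; (case hq9009 => (set_option maxRecDepth 1000000 in conv => lhs; reduce)); intro _; exact ?xq9009 : List ℕ × List ℕ)

/-- cofactor -/
def c_cone0_9 : List ℕ × List ℕ := (beta% delta% lq26f63394d3 fun a b _ d f =>
 (f (a 1<|a 3<|a 1<|a 3<|a 0<|a 4<|a 3<|b) (let e:=(let e:=(let e:=(d 204540<|d 215670<|d 272161<|d 272165<|d 283500<|d 294840<|b);
 (d 192780<|d 192990<|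
 d 193200<|d 204120<|d 204330<|e));
 (let e:=(d 181441<|d 181446<|d 181470<|d 181475<|d 181860<|e);
 (d 113820<|d 113825<|d 124740<|d 136080<|d 136290<|e)));
 (let e:=(let e:=(d 91350<|d 102270<|d 102480<|d 102485<|
 d 113615<|e);
 (d 22680<|d 90720<|d 90721<|d 90725<|d 90930<|e));
 (let e:=(d 210<|d 220<|d 225<|d 425<|d 635<|e);
 (a 0<|a 1<|a 5<|a 6<|a 15<|e))))))

/-- cofactor -/
noncomputable def c_cone0_10 : List ℕ × List ℕ :=
  (by
  refine (?fq9010 : ((_root_.Prod.mk (pk61l (fun i1 => (pk61d (nat_lit 3) 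
    (nat_lit 0xe0651) i1)) (nat_lit 0) (nat_lit 7) List.nil) (pk61l (fun i1 => (pk61d (nat_lit 19) 
    (nat_lit 0x4272058cc8b1319626021480428c68518909d721391427207a418f4749e8343d02e7a058dec61bcba3793a6f270dd8b1baf832280641b8c8289905031f0663dfcc75898ead2c9ac58cf0b199963322c4c25898058a98b14e1626c2c4d443558868e10d1a216d8428388502109d4213a44272884e40b6261697c2d2105a410b31a165c02c60058a30b144162782c4e82ec705c260b7d816fa82d4105a780b47c168f02c74058d40b15c162b02c510589a0b130006e000d8001ae00348000500006) i1)) (nat_lit 0) (nat_lit 81) List.nil)) : List ℕ × List ℕ)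
    = ?xq9010 → (List ℕ × List ℕ)) ?hq9010; (case hq9010 => (set_option maxRecDepth 1000000 in conv => lhs; reduce)); intro _; exact ?xq9010 : List ℕ × List ℕ)

/-- cofactor -/
def c_cone0_11 : List ℕ × List ℕ := (beta% delta% lq26f63394d3 fun a b _ d f =>
 (f (a 0<|a 2<|a 1<|a 3<|a 0<|a 4<|a 4<|b) (let e:=(let e:=(let e:=(d 193410<|d 204540<|d 204750<|d 362880<|d 374220<|b);
 (d 181650<|d 182070<|d 192780<|d 192990<|
 d 193200<|e));
 (let e:=(d 113820<|d 124950<|d 125370<|d 136080<|d 136290<|e);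
 (d 90750<|d 91140<|d 102060<|d 102270<|e)));
 (let e:=(let e:=(d 23310<|d 34440<|d 45360<|d 45365<|
 d 90725<|e);
 (d 22680<|d 22690<|d 22890<|d 23100<|e));
 (let e:=(d 630<|d 11340<|d 11350<|d 11550<|d 11970<|e);
 (a 0<|a 30<|a 210<|a 420<|e))))))

/-- cofactor -/
def c_cone0_12 : List ℕ × List ℕ := (beta% delta% lq26f63394d3 fun a b _ _ f =>
 (f (a 1<|a 2<|a 1<|a 2<|a 0<|a 4<|a 3<|b) (a 1<|a 6<|a 10<|a 30<|a 215<|a 220<|a 425<|a 11340<|a 22680<|a 34025<|a 45360<|a 90720<|a 90721<|a 90725<|a 90750<|a 91140<|a 102065<|a 124740<|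
 a 136080<|a 181441<|a 181446<|a 181450<|a 272160<|a 272161<|a 272165<|b)))

/-- cofactor -/
def c_cone0_13 : List ℕ × List ℕ := (beta% delta% lq26f63394d3 fun a b _ d f =>
 (f (a 0<|a 3<|a 0<|a 3<|a 1<|a 4<|a 3<|b) (let e:=(let e:=(let e:=(d 215670<|d 272370<|d 283500<|d 283710<|d 294840<|d 295050<|b);
 (d 181860<|d 192780<|d 192990<|d 204120<|d 204330<|e));
 (let e:=(d 125160<|d 136080<|d 136290<|d 181440<|d 181650<|
 e);
 (d 104580<|d 113610<|d 115290<|d 115920<|d 124950<|e)));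
 (let e:=(let e:=(d 34230<|d 45360<|
 d 90720<|d 90725<|d 91145<|d 103950<|e);
 (d 13650<|d 22685<|d 22890<|d 23100<|d 34020<|e));
 (let e:=(d 635<|d 11345<|d 11550<|d 11760<|d 13440<|e);
 (a 15<|a 210<|a 220<|a 225<|a 420<|e))))))

/-- cofactor -/
def c_cone0_14 : List ℕ × List ℕ := (beta% delta% lq26f63394d3 fun a b _ _ f =>
 (f (a 0<|a 0<|a 1<|a 0<|a 0<|a 0<|a 3<|b) (a 0<|a 30<|a 90750<|a 272160<|b)))

/-- cofactor -/
noncomputable def c_cone0_15 : List ℕ × List ℕ :=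
  (by
  refine (?fq9011 : ((_root_.Prod.mk (pk61l (fun i1 => (pk61d (nat_lit 3) 
    (nat_lit 0x1228d2) i1)) (nat_lit 0) (nat_lit 7) List.nil) (pk61l (fun i1 => (pk61d (nat_lit 19) 
    (nat_lit 0x5899eb130114ea229b8c35e485d0f0a04213fbc27f284e8709c9613914272063af6c75d98eaf31d5d5f2bcbe1b978fe2f1485e25ebc4a978892f10c5a8e8b4e89667caccf458b6ab1671628d2c4c758984b1300f40b9e7453ce887100ce1ff9c331384b46f630de4e9bc9c377da6ef40dde79bbcb3762e6ebf4cbdb997b332dfc65b94cb70996133228064144c7d098f9c31f0863e0cc7bf98f7e31dda63ba0c76598eca31d6c5cb20b8fb171242d6d65ad9cb55916a992d52a5aa50b4f0169c72d384593d0b213964222c80a59010b1aa963502c67058cccb15d1629c2c4cc58988b1300b20311bde237ac468c88d1810efa21de043b00875f10eb621d684355886a610d1c21a244344085bb10b6c213944272062710c3781867c30cf060ea0c19a17fe82df285be00b66216cb02d8a05b0f0b61c166482cc6859750b2e8163002c5d858b70b16c1628c2c51058990b1300f2d01b7b0364206c520d8941ab80355306aa40d2041a40033b30675e0be6417ca02ee505dc00bb20176182ec205c1c0b7d816fa82df105be00b518169e02d2905a500b490168f82ca6059120b220163a02c520589a0b130083400fb4015540277404920090601072020d003c00076300ec400d98013b801cc0038e006a4007d000f5001ba00370006c000d7000b4000f400118001f000160001c000280002)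 i1)) (nat_lit 0) (nat_lit 209) List.nil)) : List ℕ × List ℕ)
    = ?xq9011 → (List ℕ × List ℕ)) ?hq9011; (case hq9011 => (set_option maxRecDepth 1000000 in conv => lhs; reduce)); intro _; exact ?xq9011 : List ℕ × List ℕ)

/-- the identity -/
def N_cone0 : List (List (List ℕ × List ℕ)) :=
  (beta% delta% lq26f63394d3 fun a b _ _ _ =>
 (a (a a_p<|a a_p<|a a_nK<|a a_nW0<|b)<|
 a (a a_q<|a a_nT0<|a a_nW2<|b)<|
 a (a a_p<|a a_q<|a a_nZ<|a a_nz<|b)<|b))

/-- the certificate -/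
noncomputable def C_cone0 : List (List (List ℕ × List ℕ)) :=
  (beta% delta% lq26f63394d3 fun a b _ _ _ =>
 (a (a R0<|a c_cone0_0<|b)<|
 a (a R1<|a c_cone0_1<|b)<|
 a (a R2<|a c_cone0_2<|b)<|
 a (a R3<|a c_cone0_3<|b)<|
 a (a R4<|a c_cone0_4<|b)<|
 a (a R5<|a c_cone0_5<|b)<|
 a (a R6<|a c_cone0_6<|b)<|
 a (a R7<|a c_cone0_7<|b)<|
 a (a R8<|a c_cone0_8<|b)<|
 a (a R9<|a c_cone0_9<|b)<|
 a (a R10<|a c_cone0_10<|b)<|
 a (a R11<|a c_cone0_11<|b)<|
 a (a R12<|a c_cone0_12<|b)<|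
 a (a R13<|a c_cone0_13<|b)<|
 a (a R14<|a c_cone0_14<|b)<|
 a (a R15<|a c_cone0_15<|b)<|b))

theorem check_cone0 : check Rs (N_cone0 ++ C_cone0) = true := by decide +kernel

/-- cofactor -/
def c_cone1_0 : List ℕ × List ℕ := (beta% delta% lq26f63394d3 fun a b _ _ f =>
 (f (a 1<|a 1<|a 1<|a 2<|a 1<|a 1<|a 2<|b) (a 5<|a 6<|a 30<|a 211<|a 215<|a 450<|a 1890<|a 2100<|a 11340<|a 11341<|a 90720<|a 90751<|a 102060<|a 102065<|a 181470<|b)))

/-- cofactor -/
def c_cone1_1 : List ℕ × List ℕ := (beta% delta% lq26f63394d3 fun a b _ _ f =>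
 (f (a 1<|a 2<|a 2<|a 2<|a 1<|a 0<|a 3<|b) (a 10<|a 65<|a 210<|a 215<|a 1890<|a 2100<|a 90721<|a 90750<|a 90780<|a 91170<|a 92610<|a 181440<|a 181680<|a 272160<|b)))

/-- cofactor -/
def c_cone1_2 : List ℕ × List ℕ := (beta% delta% lq26f63394d3 fun a b _ _ f =>
 (f (a 1<|a 2<|a 1<|a 2<|a 0<|a 0<|a 3<|b) (a 0<|a 5<|a 10<|a 210<|a 220<|a 425<|a 90720<|a 90721<|a 90725<|a 90930<|a 90935<|a 90960<|a 90965<|a 91140<|a 91141<|a 91145<|a 91170<|a 181440<|
 a 181445<|a 181650<|a 181680<|a 181890<|a 272160<|a 272370<|b)))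

/-- cofactor -/
def c_cone1_3 : List ℕ × List ℕ := (beta% delta% lq26f63394d3 fun a b _ _ f =>
 (f (a 1<|a 1<|a 2<|a 2<|a 0<|a 1<|a 1<|b) (a 5<|a 35<|a 215<|a 245<|a 90721<|a 90726<|a 90750<|a 90755<|a 90780<|a 90990<|a 102270<|a 102480<|b)))

/-- cofactor -/
def c_cone1_4 : List ℕ × List ℕ := (beta% delta% lq26f63394d3 fun a b _ _ f =>
 (f (a 1<|a 1<|a 1<|a 2<|a 1<|a 1<|a 1<|b) (a 6<|a 30<|a 211<|a 215<|a 240<|a 420<|a 1890<|a 2100<|a 11341<|a 11550<|a 90720<|a 90750<|a 90751<|a 102060<|b)))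

/-- cofactor -/
def c_cone1_5 : List ℕ × List ℕ := (beta% delta% lq26f63394d3 fun a b _ _ f =>
 (f (a 0<|a 0<|a 1<|a 2<|a 1<|a 1<|a 1<|b) (a 0<|a 210<|a 420<|a 11340<|a 90750<|a 90960<|a 92610<|a 92820<|a 102060<|b)))

/-- cofactor -/
def c_cone1_6 : List ℕ × List ℕ := (beta% delta% lq26f63394d3 fun a b _ _ f =>
 (f (a 0<|a 1<|a 1<|a 2<|a 0<|a 1<|a 2<|b) (a 0<|a 420<|a 11340<|a 11345<|a 90750<|a 90930<|a 91140<|a 91170<|a 102060<|a 181440<|a 181650<|b)))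

/-- cofactor -/
def c_cone1_7 : List ℕ × List ℕ := (beta% delta% lq26f63394d3 fun a b _ _ f =>
 (f (a 1<|a 0<|a 1<|a 1<|a 0<|a 0<|a 2<|b) (a 90720<|a 90721<|a 90930<|a 90931<|a 90960<|a 181440<|b)))

/-- cofactor -/
def c_cone1_8 : List ℕ × List ℕ := (beta% delta% lq26f63394d3 fun a b _ _ f =>
 (f (a 1<|a 2<|a 3<|a 1<|a 0<|a 1<|a 3<|b) (a 5<|a 11<|a 35<|a 60<|a 210<|a 220<|a 245<|a 275<|a 11345<|a 11555<|a 90721<|a 90730<|a 90750<|a 90756<|a 90930<|a 90960<|a 91020<|a 102061<|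
 a 102065<|a 102270<|a 102271<|a 102300<|a 181440<|a 181470<|a 181500<|a 181680<|a 192780<|a 193020<|a 272160<|a 283500<|b)))

/-- cofactor -/
def c_cone1_9 : List ℕ × List ℕ := (beta% delta% lq26f63394d3 fun a b _ _ f =>
 (f (a 1<|a 2<|a 1<|a 1<|a 0<|a 1<|a 1<|b) (a 1<|a 6<|a 10<|a 90730<|a 90750<|a 90755<|a 102270<|b)))

/-- cofactor -/
def c_cone1_10 : List ℕ × List ℕ := (beta% delta% lq26f63394d3 fun a b _ _ f =>
 (f (a 1<|a 1<|a 1<|a 1<|a 0<|a 1<|a 1<|b) (a 1<|a 210<|a 11345<|a 11346<|a 11370<|a 11375<|a 90720<|a 102061<|a 102090<|b)))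

/-- cofactor -/
def c_cone1_11 : List ℕ × List ℕ := (beta% delta% lq26f63394d3 fun a b _ _ f =>
 (f (a 0<|a 1<|a 0<|a 2<|a 0<|a 1<|a 2<|b) (a 0<|a 420<|a 11340<|a 11345<|a 102060<|a 181440<|a 181650<|b)))

/-- cofactor -/
def c_cone1_12 : List ℕ × List ℕ := (beta% delta% lq26f63394d3 fun a b _ _ f =>
 (f (a 1<|a 2<|a 0<|a 0<|a 0<|a 1<|a 1<|b) (a 1<|a 6<|a 10<|a 11340<|a 90720<|a 102060<|b)))

/-- cofactor -/
def c_cone1_13 : List ℕ × List ℕ := (beta% delta% lq26f63394d3 fun a b _ _ f =>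
 (f (a 0<|a 0<|a 0<|a 1<|a 0<|a 1<|a 1<|b) (a 0<|a 210<|a 11340<|a 102060<|b)))

/-- cofactor -/
def c_cone1_14 : List ℕ × List ℕ := ([0, 0, 0, 0, 0, 0, 2], [181440])

/-- cofactor -/
noncomputable def c_cone1_15 : List ℕ × List ℕ :=
  (by
  refine (?fq9012 : ((_root_.Prod.mk (pk61l (fun i1 => (pk61d (nat_lit 2) 
    (nat_lit 0x36ba) i1)) (nat_lit 0) (nat_lit 7) List.nil) (pk61l (fun i1 => (pk61d (nat_lit 19) 
    (nat_lit 0x4272059880b308962d82c4de5898a6584ccb0718f7e31dd063ac4b8fb171242d56458d54b15d162832c4fc58994b13002d4105a780b490169182c8d058de0b1a8162b02c52058980249004290083400ece01d88007a800f0001b80034800118001e0000e00014000100000) i1)) (nat_lit 0) (nat_lit 45) List.nil)) : List ℕ × List ℕ)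
    = ?xq9012 → (List ℕ × List ℕ)) ?hq9012; (case hq9012 => (set_option maxRecDepth 1000000 in conv => lhs; reduce)); intro _; exact ?xq9012 : List ℕ × List ℕ)

/-- the identity -/
def N_cone1 : List (List (List ℕ × List ℕ)) :=
  (beta% delta% lq26f63394d3 fun a b _ _ _ =>
 (a (a a_p<|a a_nK<|a a_nz<|b)<|
 a (a a_q<|a a_nT0<|a a_o<|b)<|
 a (a a_nT2<|a a_nW0<|b)<|b))

/-- the certificate -/
noncomputable def C_cone1 : List (List (List ℕ × List ℕ)) :=
  (beta% delta% lq26f63394d3 fun a b _ _ _ =>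
 (a (a R0<|a c_cone1_0<|b)<|
 a (a R1<|a c_cone1_1<|b)<|
 a (a R2<|a c_cone1_2<|b)<|
 a (a R3<|a c_cone1_3<|b)<|
 a (a R4<|a c_cone1_4<|b)<|
 a (a R5<|a c_cone1_5<|b)<|
 a (a R6<|a c_cone1_6<|b)<|
 a (a R7<|a c_cone1_7<|b)<|
 a (a R8<|a c_cone1_8<|b)<|
 a (a R9<|a c_cone1_9<|b)<|
 a (a R10<|a c_cone1_10<|b)<|
 a (a R11<|a c_cone1_11<|b)<|
 a (a R12<|a c_cone1_12<|b)<|
 a (a R13<|a c_cone1_13<|b)<|
 a (a R14<|a c_cone1_14<|b)<|
 a (a R15<|a c_cone1_15<|b)<|b))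

theorem check_cone1 : check Rs (N_cone1 ++ C_cone1) = true := by decide +kernel

/-- cofactor -/
noncomputable def c_fin0_0 : List ℕ × List ℕ :=
  (by
  refine (?fq9013 : ((_root_.Prod.mk (pk61l (fun i1 => (pk61d (nat_lit 3) 
    (nat_lit 0x174ee1) i1)) (nat_lit 0) (nat_lit 7) List.nil) (pk61l (fun i1 => (pk61d (nat_lit 19) 
    (nat_lit 0x74478e3095c60c77d526f360de685bb2cb75ff6ebe0bc77978c22f11dde236bc4316f802de99dbd2eb6d796da7adaf55b5ccb30896438ac52bd8a52b134762616573d4acd695809205ea40ae480ad9011f2022a3ff047fdb8ff851fef62e3945ba08b5d916b3a2b5a455158a8c3151722a1f4538a8a6ed14db629b642ea585d410ba1e1741428c98518b0a3121408c281084fef09fca13a4427206f0ccdde51a6df34b4869352c82818ff631fd363f9ec7bf58f7e31e4d63c90c78d18f17b1e2a63b00c75ed8eb3b1d6263ababec097d092f95e5f118be1e17c372f4545e740bce1d79c12f2ba5e56abcac57900af1fc5e3bebc7797897af1165e224bc4457886af10c5a8e8b515969c22cdc659a24b33e5667aaccf45988ab310166112c73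758cd2b199562dd2c5b558b62b167162cc2c59758b26b13a1626fac4cf58996b13050a4021463428c484e5509c8a13903e5807c7b8f8251eea63d6bc7aa44f5469ea8c3d3b07a6ecf4dd1e8ed3d1d27a0d0f40d9e8173d02c79d24f3a29e744396c072a38e4de1c32c384f06fc48df209be4037b186f5bcdeb71bcbf379746f298de4e9bc9c377da6efa0ddea1bbd03779e6ec6cdd8b1bb07376046ebf8dd7e9baf935034699d8cff319f1433c8467638ceb819afa332ac66288cb7f1962c32c3065838c963992c632424647f8c8fc991f53228a64500c89619127320f0641ccc82d1905131f0663dfcc7bf18ee831d5a63ab0c0c6180ba2ffd05ebf0bd151753e2e8d85c850b89216b842d6cc5aa54b4f2969e02d38e5a708b34c165a82c9fc59370b26b964d62c84e59024b2029635a2c6aa58d18b1a09633d2c66e58ae8b1509629c2c510589d0b1359626a2c4ca5898484e4909c81be7c37c846f900de6c1bc9e375f45cb20b8921692c2d1f459e20b3ab1674e2cb54589b0b13111d782275444e8889d0112382240c447f0884a10ef021d7c43ad8875a10d5621a9843470868910bb22175042de085bb10b6e216d84274884e50d3a41a40034170675c0c82818a3830cf060cc0c030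176102e6805bfe0b7c216f802d9885b2c0b626169682d2305a3d0b31a166202cba059700b2de165ac2cb505898089d01105821a20427207e900f9601df1037c806e280d9081b12035700693c0cf3019d9833ae062720c4e0183382f9905f2a0be50177502ee005d900bb1c176102e1305c1c0b7fc16fd02df105be00b4b4164402c74058b60b15c162b02c52058a20b1300fff018ba02f9405be0089d00fb4016f80276004920083400f0a01db003b1805be009e2010e0020f8041b0083400dac01b30034e004ec006e000d7801ae00354006a400d2000f5001ba0034c0069000410003e00078000a0000f0001600028000080000) i1)) (nat_lit 0) (nat_lit 417) List.nil)) : List ℕ × List ℕ)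
    = ?xq9013 → (List ℕ × List ℕ)) ?hq9013; (case hq9013 => (set_option maxRecDepth 1000000 in conv => lhs; reduce)); intro _; exact ?xq9013 : List ℕ × List ℕ)

/-- cofactor -/
noncomputable def c_fin0_1 : List ℕ × List ℕ :=
  (by
  refine (?fq9014 : ((_root_.Prod.mk (pk61l (fun i1 => (pk61d (nat_lit 3) 
    (nat_lit 0x16cf21) i1)) (nat_lit 0) (nat_lit 7) List.nil) (pk61l (fun i1 => (pk61d (nat_lit 19) (Nat.add 
    (nat_lit 0x453998a72914e3e29bb453728a6e314db629b64299b8532f0a33a1464c28c5851890a1321417427fc84fe509e6213c24277a84ebb09d2213a1c273f84e7d09caa13934272184e40c85c99052b20a164140c7f4d8fe7b1fce63e3ec7c698f8131f0163dfac7bf18f15b1e2a63ac4c75798eac2f4725e8a8bce0d79672f2b55e562bcac178fe2f1e85e3c8bc77d78ef2f1575e29abc521789caf12f5e256bc46d788b2f1115e21abc43164d62c80958eb2b1d51639e2c73658d18b1a096339ac66a58cc8b16c162d0ac59258a7ab1491628fac4fc589c6b137d6265ac4c65898085bd90b6ca16d842c488581d0b03213b34275c8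4e5909ca9f2c03e3dc7c128f7bc1eea63d8627adf0f5b19eb5f3d6bc7aa44f5469ea8c3d37e7a42cf4771e8ed3d1d07a05cf40b1e7673cec479d28f3a49cd043951c71d18e33a1c5a2389dc71340e20e1c34a386587096ce12d1bfe437e606fc4cdf2f1be4537b226f5e0de511bca1377da6efa0dde81bbcb376366ec58dd819bb02375fc69d20d2691a18a3417067f98cf3019d71335f4668a0ccba1988432c1c65220ca35193b63273a64e60c972192cb3258e64b18c90b991f932294644b0c8939906e320be64168c82b1905531f4c63e70c7c698f8331efe63df8c78318ef731db263b3cc76598ebb31d6463ac4c19817bce2f6345ebf0ba45173b82e7345c7d8b76616eae2da505ae10b5591683c2cd3a59a60b33f9667b2cb64596a4b2d4165032c9f259394b26e164db2c9ac59088b2099640e2c80858db8b1af9635a2c6a058d04b19e163332c5ba58b10b15f962a12c53858a34b1381626f2c4d658994b130962601bce2379b06f2a0de531bb3e376686ec10dd81167922cf1059d60b3ab1674e2cbdc59790b2da165b22cb54596a0b13011f1c23af046f508d181188c22470447f088311105821d6c43558868e10bbc2176442e0885c010b6e216d8428608502109de213b842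750675c0c6c018d083147062700c37818678307505ffb0bb44173402e5905be60b7ca16cc42d9605b140b62616c3c2d3205a5a0b48c169042cc4059790b2e0163002c5d858a70b146162882c4e858990b130116e82274036f606c840d5481a4003139062700c1ac183302fb705dca0bb80176402ec305c3a0b83816fd82df605be00b51816a082d3c05a640b4b4169402d2405a3c0b298164902c8d059120b1d0163502c60058b60b15816260198c03174062700be50120c0210c03ed0062700b7c01554027d804ec0083400f00016f80276004380083e0106c020d00370006d600d9801a70034d0069200d20014c80285004f8009ec013b801c700366006a400d2000fa001ea003880070800dc001ae0034c003c00064000960010400118001f0003c0004000058000a) (Nat.shiftLeft 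
    (nat_lit 0xe30d1bb163760e6ec03dd7c16ddc2db5e5b6a3b6d3f6da7adb045b5f4b6bdf6d736dae658b24b14a5627e2c4e3589a8b13476267ec4cf5898ab130b2058640aec815c8ff7315ad22af14552e8aa23151722a22454438a87f14eca29d4) (nat_lit 8000))) i1)) (nat_lit 0) (nat_lit 460) List.nil)) : List ℕ × List ℕ)
    = ?xq9014 → (List ℕ × List ℕ)) ?hq9014; (case hq9014 => (set_option maxRecDepth 1000000 in conv => lhs; reduce)); intro _; exact ?xq9014 : List ℕ × List ℕ)

/-- cofactor -/
noncomputable def c_fin0_2 : List ℕ × List ℕ :=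
  (by
  refine (?fq9015 : ((_root_.Prod.mk (pk61l (fun i1 => (pk61d (nat_lit 4) 
    (nat_lit 0x7438341) i1)) (nat_lit 0) (nat_lit 7) List.nil) (pk61l (fun i1 => (pk61d (nat_lit 20) 
    (nat_lit 0x9dcec9b8029b0dc9b0a087b7c87a8c85692855a284f6c84f3084e7c84e5e84e407191c718fe71836718317182c6f4326f3476ed0c6ecee6ecd56ecb76ec216ec1c6ec086ec036ebfe6ebea6ebe55b8425b6bc5b6a35b5ef5b5ea5b5db59286591d2591b9591b4590e258b4258a9358a7558a5758a52589bc589a8589a35898a589804815c45e16456b4455e24552e455104546145448454434543e453944538f4538a4536c43788430444302642f7242e8742e824291e42900428e7428e2428c9428c44282e42810427f7427f3427614274d42748427444273e4272f427264272031fce31efc31d5d31d582fbb62f9402f5262f2b02f1ed2f1e32f1342f12f2f12a2f1202f1162f1112f10c2d5282ce982cc2c2cc222c8da2c8082c66e2c6692c5d32c5ce2c5ba2c5b02c5a12c59d2c5982c5972c5932c5062c4ed2c4e42c4e32c4de2c4c62c4c51ed021ec311ec301eb5f1eb5e1e8e91e8e81e8171e8161e7451c7461c5a21c4d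11c4d01c3ff1c3fe1c32d1c32c1c25b1c0b61bfe51bf131bf121be411be401bd6f1bd6e1bc9c1bbcb1bafd1baf81a25c1a0b819f1419e431995719956198841960f1953c1946b192c6191f51912218f9c18f8d18f8318f7e18eca18ec018eb618eb118ead18eac17afd17958178871753e1746d1746c1739b172c816f8016eaf16ddc16d0b16b6716b6616a9916a9516a94169cc169c21674c165a8164d7164d616422163731636e1635a1635516351163501633816332162a61628d1628816284162831627f1627e1626a16266162610b3a60b2d50b2020b1310882c0875b06414063430634206271062700619f0619e060cd060cc05ffb05e5605d8505d8405cb305cb205be105be005b0f05b0e05a3d05a3c0596b03be203b11036f60362502f9402ec302ec202df102d3c02d2802d2302d1f02d1e02c6f02c5b02c5202c4c01a400196f0196e0189d0113a010690106800f9700aaa009d90076700763003480027700276001a9001a50010e000fa000f0000e1000d8000d2000410002d000230001e000140000f0000b0000600000) i1)) (nat_lit 0) (nat_lit 304) List.nil)) : List ℕ × List ℕ)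
    = ?xq9015 → (List ℕ × List ℕ)) ?hq9015; (case hq9015 => (set_option maxRecDepth 1000000 in conv => lhs; reduce)); intro _; exact ?xq9015 : List ℕ × List ℕ)

/-- cofactor -/
noncomputable def c_fin0_3 : List ℕ × List ℕ :=
  (by
  refine (?fq9016 : ((_root_.Prod.mk (pk61l (fun i1 => (pk61d (nat_lit 3) 
    (nat_lit 0x168f19) i1)) (nat_lit 0) (nat_lit 7) List.nil) (pk61l (fun i1 => (pk61d (nat_lit 19) 
    (nat_lit 0x38c166ecb2dd7c3baf82f1de5e2eab6d3d629c2c52bd8a52b137962616c4c04ae7a959ad208ba40ae4808a8ad691578a2a884538a8a6e30a65a1480427f884fe709fca13bd4275d84e8709cfa1392c272069b7cd33b1a5a434a7663fa6c7f398f17b1d585ea4cbd151795aaf1e35e222bc431639dac6be58d0eb1a0963372c5ce58b74b16d962cc2c59758b26b1469627eac4e8589c6b1319626023fdc430f885ea90b6c1eb5e3d5227a6fcf4dd1e8ed3d1d07a06cf40b1e7623ce92702d8deb71bca1379386ef3cdd8b1bafd375f064b2cc8fa191273224463e70c7c418f7e31d9e63b28c75898eac2cb5059380b26d964d62c84e5904cb207164092c80858d54b19b962ba2c53a58a70b13f9626f2c4c22c4c042db08502109d22139016f802d1e058de0b130020f8041a0069a00d2001428027b00366006b80070800d7001a4001e0002080024000460003c000300001)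 i1)) (nat_lit 0) (nat_lit 142) List.nil)) : List ℕ × List ℕ)
    = ?xq9016 → (List ℕ × List ℕ)) ?hq9016; (case hq9016 => (set_option maxRecDepth 1000000 in conv => lhs; reduce)); intro _; exact ?xq9016 : List ℕ × List ℕ)

/-- cofactor -/
noncomputable def c_fin0_4 : List ℕ × List ℕ :=
  (by
  refine (?fq9017 : ((_root_.Prod.mk (pk61l (fun i1 => (pk61d (nat_lit 3) 
    (nat_lit 0x172cd9) i1)) (nat_lit 0) (nat_lit 7) List.nil) (pk61l (fun i1 => (pk61d (nat_lit 19) 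
    (nat_lit 0x1d11e38fc77184ae3059bcd8379a16ebe0bc61178baaf11dde236bc4316f802de99db6bcb22016438ac59258a57b13476267ac4c04ada8902f5202b64047c808a8ffc11ff6e3fe147fbd8ff7116e822d764552e8aa2b151862a21c543f8a71514dda29b8c536c85ee50bd521752c2ea085d0f0a38a14624281184e9109d0da67634c1a694ecd26a5a4d2320a063f9cc7c058f7e31e4d63c68c78a98ec031d7b63acec75898eaeaf9405f118be1e17a2a2f3875e59cbcae979582f2015e3f8bc78d78efaf12f5e224bc43569c22cd12599f2b33d5667a2cc4559010b1cdd639b2c68258cd2b199563322c5ba58b6ab16c562ce2c59858b2eb164962742c4e3589beb133d6265ac4c55898085ea90b6c21606429008518d09c8a13903d6bc7a760f4df9e9ba3d1d27a0d0f40d9e8163ce926f914df201bd7337adc6f2fcde531bca1377da6ef50dde81bbcb376366ec1cdd7f1baf932dc065860c965992c6323fc647e4c8fa9914532280644b0c89399122320f0641ccc8371905a320aa63e70c7c198f7f31dd063ad8c75898ead2e2485a794b4f0166982ccf459718b27f164f42c9b85936cb26b964d62c84e5904cb204964052c6b458d54b1a09633d2c67858cccb19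9162ba2c54258a20b1379626b2c4d458994b130109c92139037cf86f908df201bcd83793c6f270dd7d1baf82d2585a3c8b478167882ce9c59d30b2021626c2c4d458988b130111fc21de043ad886ab10d1c21a3443448868810bb22175042de085bb10b6e213902e5985cb20b66216c4c2d8705a5a0b48c168f02cc6859880b2e8165c02cb78596a0b16c162882c4e858990b1300cecc189c0306605f320be54177502ee005d900b84c170702dff05bf40b7d416f882df005a5a0b48c168f82d1e059100b1d0162d82c57058ac0b148162882c4c00f0a01db003b38076300ec400dac01b30034e0069000a14013d8027600384006bc00d5001a500348003d40078000e1001ba0035c0069800410003e00078000580001) i1)) (nat_lit 0) (nat_lit 307) List.nil)) : List ℕ × List ℕ)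
    = ?xq9017 → (List ℕ × List ℕ)) ?hq9017; (case hq9017 => (set_option maxRecDepth 1000000 in conv => lhs; reduce)); intro _; exact ?xq9017 : List ℕ × List ℕ)

/-- cofactor -/
noncomputable def c_fin0_5 : List ℕ × List ℕ :=
  (by
  refine (?fq9018 : ((_root_.Prod.mk (pk61l (fun i1 => (pk61d (nat_lit 3) 
    (nat_lit 0x174cd8) i1)) (nat_lit 0) (nat_lit 7) List.nil) (pk61l (fun i1 => (pk61d (nat_lit 19) 
    (nat_lit 0xdd7c178baaf10c5b69eb6bd56d732c4cf5898095b512b012404547fb88abc5150fa29b642ea085d050a65a1471428c48502109dea139034cec69834d29d9a4d2320a063df8c75617a2a2f2b05e254b3719667a2cc4059844b2021639b2c68258cc8b1469627e2c4de58980909490bd5216d84272a7cb00f88e1ec303d5187a6e8f40b1e7443986472d80e33a1c4d0387fc6ff90df891bd6e379386ef28dd8b1bb02375fa6ebe0d3a41a676349a4682e0cf8a19e42332ac65ec8cb07191f43224463b28c7589818c301745ffa0bd7e1753e2e8d85c7d8b5b3169c72d384599e8b2d4164e02c9b65904cb207164042c68258cf0b15d1627e2c4de427206f900de4e1baf82e5905c490b13011f1c237a8468c0875a0d5481a4003417064140bff4172c82d8705a3c0b1441626022dd0441608688109c81f2c03be206c480d548189c02f9405d840b7c0168f02c56058a207ff80b7c0106801f2c03b1004830083400ece01d8801a90034d0069000a140140002760035c006a400d2000f0001c200370006b8003c0001e00028000280000)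 i1)) (nat_lit 0) (nat_lit 168) List.nil)) : List ℕ × List ℕ)
    = ?xq9018 → (List ℕ × List ℕ)) ?hq9018; (case hq9018 => (set_option maxRecDepth 1000000 in conv => lhs; reduce)); intro _; exact ?xq9018 : List ℕ × List ℕ)

/-- cofactor -/
noncomputable def c_fin0_6 : List ℕ × List ℕ :=
  (by
  refine (?fq9019 : ((_root_.Prod.mk (pk61l (fun i1 => (pk61d (nat_lit 3) 
    (nat_lit 0x173ed8) i1)) (nat_lit 0) (nat_lit 7) List.nil) (pk61l (fun i1 => (pk61d (nat_lit 19) 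
    (nat_lit 0x38c7f7182cdd7fd78ef2f10c5b770b6d3d62c92411747fb88abc5150fa29b64277a69834d2d21a53b31fce5e8a8bce0978862cdc658cc8b1469627e2c4c0484a485ea90b6c2160642a688518909c81ec4e3d8607adf0f5461e9ba3d20c7a3a0f41a1e7623ce92713b8e2681c41c387fc70d28e13c1c25a380046ff90df981bf1237cbc6f900dec61bbe833cc0675c0ccba1995632c5865838ca44193983258c64848c8911905031efc63b3cc76518eb631d585ec68bd7e178a42f10c5d228ba36173b82e7345bb30b75716d282da145ae10b5b316ab22d528596a0b27a1636e2c6aa58d40b19b963322c57458a84b1441627e2c4ca5898084e6909c81bb02375f05a3c0b2f21629c2c4e8589a889d0111fc220b043bc0868810b6c213a431b0063420c51c189c030de0619e0c1d4180602ed105d840b9a0172c82dff05be00b658169682cc4058a20765c0ec401b2103624060cc0bb80170702c6f058d40b16c16288198c032dc062e80c4e01086020d003ed007cb009f6013b001e0003b100348005280070800d2000f5001ae000f0001400005) i1)) (nat_lit 0) (nat_lit 170) List.nil)) : List ℕ × List ℕ)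
    = ?xq9019 → (List ℕ × List ℕ)) ?hq9019; (case hq9019 => (set_option maxRecDepth 1000000 in conv => lhs; reduce)); intro _; exact ?xq9019 : List ℕ × List ℕ)

/-- cofactor -/
noncomputable def c_fin0_7 : List ℕ × List ℕ :=
  (by
  refine (?fq9020 : ((_root_.Prod.mk (pk61l (fun i1 => (pk61d (nat_lit 3) 
    (nat_lit 0x163e49) i1)) (nat_lit 0) (nat_lit 7) List.nil) (pk61l (fun i1 => (pk61d (nat_lit 19) 
    (nat_lit 0x1c63fb79a16ebfeb6ee16da7adaf55b5ccb23696294ac4c04543e8a71514db217414273e84e40c756178fe2f12a5e218b33d1639b2c68258b60b1648f6181eb5f3d5187a6ecf4dd1e8e93d02e7a058f3a21c67438b4471340e1ff9c3fe3865a6fc4cdf891be41379386ef2cd0c519fe733e286790cceb819957332ac66214cc42197b332dc265b80cb161960f328d464b1cc8fa19122320a263dfcc7bf18eca31d5a5ef38bd7e17a2b2f2b25e21cbc431739b2e7345c508b89216eae2dbba5b42cb5b316a952cb5059358b202964042c6a058cdcb13f962662c4ca58984596a0b203162622c4c044168875b10d12216dc4272863420c4e2189c02ffd85d840b966172c82df085a3c0b2d40f9641ec383d860796a0ef8c1d8883b1006dee0dbd81aa9033cc0675c0c19817ca02ec305d840b7c0168f82c6a05898065b80c4e8189c0241803e5c07cb00aaa013b00241c0483008350106801d8c02760041a00690009d800d2800f0001ae00018000280001)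 i1)) (nat_lit 0) (nat_lit 155) List.nil)) : List ℕ × List ℕ)
    = ?xq9020 → (List ℕ × List ℕ)) ?hq9020; (case hq9020 => (set_option maxRecDepth 1000000 in conv => lhs; reduce)); intro _; exact ?xq9020 : List ℕ × List ℕ)

/-- cofactor -/
noncomputable def c_fin0_8 : List ℕ × List ℕ :=
  (by
  refine (?fq9021 : ((_root_.Prod.mk (pk61l (fun i1 => (pk61d (nat_lit 3) 
    (nat_lit 0x1abf21) i1)) (nat_lit 0) (nat_lit 7) List.nil) (pk61l (fun i1 => (pk61d (nat_lit 20) 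
    (nat_lit 0x84e9a84e7c84e5e7447d744787186d7184f7184a718316ec3f6ec3a6ebfe6ebe56ebe15e3bc5e2ef5e2eb5e2405e2365e21d5e2195b7705b6bc5b69e5b6265b6125b60d5b6085b5f45b5eb5b5ea5b5d658bf658a8e58a5c589f8589df589da589c6589c1589a8589a35898a58985589814adad4ada94ac054ac04483004822e4815d4815c4808f4808b4808a47fe547fdb47fc7455e7455e34551a4551145510454984547a454614545c454434543f453cb453b2453ad453a8453994538f4537b45376453724536d42a684291e428e7428e2428ce4281642810427fc427984277f42766427614274d42748427434272a34dbe34cf134ced34c1f34c1b34b4834a77349ae349a531f0231f0131efd31d9431d8531d7b31d7631d6c31d6231d5e31d5d2f5f82f4552f4542f3872f3832f3822f2bf2f2ba2f2b52f1fc2f1e42f1e32f1de2f16b2f1392f1172f1162f1112c8da2c80d2c7402c7372c6dc2c6a52c6a02c6872c6822c6732c66a2c6652c6642c5ec2c5d42c5ba2c5b62c5b52c5b02c5a12c5982c5922c5382c51f2c51a2c4fc2c4ed2c4e42c4d42c4d02c4cb2c4c62187c217af217ab217aa216dd216d92160b216072153421462213ae21391213901f11c1f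04a1ef781eea61ed021eb5e1ea911ea8d1e9c41e9c01e9bf1e9061e8ee1e8e91e8e81e8201e81c1e81b1e8161e7621e74e1e74a1e7491e7451e7441ca8e1c5a21c25a1c0b61bfe51bfe41bf121be4a1be451bcab1bca11bc9d1bc9c1bbed1bbd41bbd01bbcf1bbcb1bb341bb201bb1b1bb171bb161bb0c1bb071bb021baf91a7481a4d21a0b819fe619afa19956197b2196e019398192cb19203191fa190731906e1905f1905a1905619055190511905018fa618fa118f8d18f8818f8318f7e18f0618eed18ee818ecf18ecb18eca18ebb18eb718eb218eac1667f1667a165c6165a8164f4164e5164dc164db164d7164d6164451642c1640f1640e16409163731633d1633c1633716332162d8162ba16288162741626f1626b1626a0df200de6c0de4f0de4e0dd9a0dd7d0b3c40b3a70b2f20b2d50b2d40b13008f8e08ebc08dea08d1808c46089d0088fe0875a086a60868908688085d9085bc085bb085b70850708502084ea084e9084e40675c0627005be105be005b0e05a5f05a4105988059740596a058a7058a205899045ba044e803cb403be203624033ae0306602f9402ec702ec302ec202e1802e0e02df602df002d4102d3c02d2d02d2802d1e02c8d02c8802c7902c7402c6a02c6002c5602c4d00299002940027c00276001b3001af001ae001aa001a9001a5000f0000dc000d7000d20005f000460004200028000240000100000)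 i1)) (nat_lit 0) (nat_lit 388) List.nil)) : List ℕ × List ℕ)
    = ?xq9021 → (List ℕ × List ℕ)) ?hq9021; (case hq9021 => (set_option maxRecDepth 1000000 in conv => lhs; reduce)); intro _; exact ?xq9021 : List ℕ × List ℕ)

/-- cofactor -/
noncomputable def c_fin0_9 : List ℕ × List ℕ :=
  (by
  refine (?fq9022 : ((_root_.Prod.mk (pk61l (fun i1 => (pk61d (nat_lit 3) 
    (nat_lit 0x128ce1) i1)) (nat_lit 0) (nat_lit 7) List.nil) (pk61l (fun i1 => (pk61d (nat_lit 19) 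
    (nat_lit 0xbc5d578862dae658b24b134762616c4c04822e8aa21150fa29b8c536c8532d0a3261462427f284ec309d7213954272684e4309c81bc3337794699d8d29d9905031fd363df8c78bd7a932f3825e56abcac178f1af1de5e222b2021639dac73658cd2b167162c92c501589f8b133d6260a425242f54858190a31213903d8607ad78f5489e9bf3d1da7a06cf40b1e74937e246f5b8de509bc9c3779e6ef28dd7e9baf83259664b18c8fa191273224464140c7c418f832cb5a59038b204964042c68c58d04b19e162a12c4fc589d0b135962662c4c0213a4427202d2305a3c0b1a8162882c4c006a400d3400dc001ae0034800370006b8005f0008200050000500006) i1)) (nat_lit 0) (nat_lit 108) List.nil)) : List ℕ × List ℕ)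
    = ?xq9022 → (List ℕ × List ℕ)) ?hq9022; (case hq9022 => (set_option maxRecDepth 1000000 in conv => lhs; reduce)); intro _; exact ?xq9022 : List ℕ × List ℕ)

/-- cofactor -/
noncomputable def c_fin0_10 : List ℕ × List ℕ :=
  (by
  refine (?fq9023 : ((_root_.Prod.mk (pk61l (fun i1 => (pk61d (nat_lit 3) 
    (nat_lit 0x130c61) i1)) (nat_lit 0) (nat_lit 7) List.nil) (pk61l (fun i1 => (pk61d (nat_lit 19) 
    (nat_lit 0x58b24b13156261614cb428c484ff909fce13f94272584e40b2021639dac66e58cd2b199563322c5a158b38b166162cbac59358996b13196262ac4c158980909c12129a425242f9085ead0bd5216f642db2858910b03a155242a6a854d10a42a1468428ce8518d0a31213b34272c84e5509c81ec303d6f87aa34f4ee9e9d83d3807a6fcf4859e9063d1dc7a3b4f4741e8393d0687a070f40d9e8163ce8a79d10df981bf1737e266f914df201bd9137af06f5ccdeb79bd6e379886f2fcde5d1bca6379446f284de4e1bbf2377aa6ef50dde81bbcb377946ec6cdd8b1bb03376046ebf4dd7c9baf83276c64b18c90b99212323f2647d0c8a2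991313224e641f4c82f98f9c31f1063e0cc7bf98f7e31db263b3cc76518eb731d6463ac4c756965ad2c9b65935cb26b164132c81459024b19e9633c2c67058cdcb1991627e2c4d65899484f5909e62139c427346fa18df3e1be4c37c946f278de4e1bafa375f05a4d8b47e168fa2ce9c597b8b2f2165b42cb64596a0b158162a62c4ec589d0b130113dc2240c447f888fe11094220c444168877d10ef021d8043ad8875a10d6021a9843498869210d1c21a2442ec885bb10a182141c4277884ee109d4172e02e5b85bfe0b7cc16f942d9b05b180b62816c4c2d8705a640b4be169682d25859920b2ea165c02cb78596b0b1761629c2c4f0313d061080bedc17d902f9e05f340be6417ca02eef05dd40bb80176682ec205c3a0b860170702e0405bf60b7e816f882df005a820b4b4169402d1f058f20b1d0163502c60058b80b15c162902c51004f6006cc00d7801ae003540069400d2000e1001ba0034c000780005) i1)) (nat_lit 0) (nat_lit 253) List.nil)) : List ℕ × List ℕ)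
    = ?xq9023 → (List ℕ × List ℕ)) ?hq9023; (case hq9023 => (set_option maxRecDepth 1000000 in conv => lhs; reduce)); intro _; exact ?xq9023 : List ℕ × List ℕ)

/-- cofactor -/
noncomputable def c_fin0_11 : List ℕ × List ℕ :=
  (by
  refine (?fq9024 : ((_root_.Prod.mk (pk61l (fun i1 => (pk61d (nat_lit 3) 
    (nat_lit 0x172ed8) i1)) (nat_lit 0) (nat_lit 7) List.nil) (pk61l (fun i1 => (pk61d (nat_lit 19) 
    (nat_lit 0x38c7f7182cdd7fd78ef2f10c5b5ccb17ed62c92c529483008ff71150fa29b6428c484fe509de9a6df34cec69834c85c9905031efc5ebf0bd15178ef2f10c58cc8b1469627e2425242db0854d10a31213903da047ad78f5461e9ba3ce9270cb0e12d1bfe437e246f270dd7c19e4233ae064b18c8fa1912231efc63b3cc75b18eac2ce98596a0b1a8163372c66458ae8b1509629c2c51058a0cb132962602139a427206ec08dd7c168f02cb50589d0b1351626022740447f0882c10eb421a2042db084e9109c8183302ffd05b0e0b478165a82c510306605d840b7c0168f02c6f058d40b16c162882c4c00690009d8006b8003c000500008c000f00005)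 i1)) (nat_lit 0) (nat_lit 106) List.nil)) : List ℕ × List ℕ)
    = ?xq9024 → (List ℕ × List ℕ)) ?hq9024; (case hq9024 => (set_option maxRecDepth 1000000 in conv => lhs; reduce)); intro _; exact ?xq9024 : List ℕ × List ℕ)

/-- cofactor -/
noncomputable def c_fin0_12 : List ℕ × List ℕ :=
  (by
  refine (?fq9025 : ((_root_.Prod.mk (pk61l (fun i1 => (pk61d (nat_lit 3) 
    (nat_lit 0x1726d9) i1)) (nat_lit 0) (nat_lit 7) List.nil) (pk61l (fun i1 => (pk61d (nat_lit 19) 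
    (nat_lit 0x6ebfedd7c16260229b64277a84e5509c9a1390c272058a34b13f16267ac4ca589828ff84f7531e74e3ce92726f0dd7e9baf831d9463aecc7561640e2c81258d04b19e163322c574589bcb135962662c4ca427206ebe0b1301188c213b84272058a20b13a16260162d82c56058a200a00013d801b30035c00370006b8003c0003c0003c000300005) i1)) (nat_lit 0) (nat_lit 57) List.nil)) : List ℕ × List ℕ)
    = ?xq9025 → (List ℕ × List ℕ)) ?hq9025; (case hq9025 => (set_option maxRecDepth 1000000 in conv => lhs; reduce)); intro _; exact ?xq9025 : List ℕ × List ℕ)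

/-- cofactor -/
noncomputable def c_fin0_13 : List ℕ × List ℕ :=
  (by
  refine (?fq9026 : ((_root_.Prod.mk (pk61l (fun i1 => (pk61d (nat_lit 3) 
    (nat_lit 0x173ca0) i1)) (nat_lit 0) (nat_lit 7) List.nil) (pk61l (fun i1 => (pk61d (nat_lit 19) 
    (nat_lit 0xe3059bb2cb75f05e3bcbc4316da7adae658b24b14a52b9ea566b4815c9011515ad22af14543e8532d0a3121390378666ef28d36f9a5a4320a063f9cc7bf18eac2f4545e704bcac178ef2f10c58e6cb199162c92425242f5485b610b0321534427207c470f8251ef783dd4c7ad78f5461e8e83d02c72a38e2d11c25a37e246f900dde51bafd375f069d20d2691a0b833fcc66be8ccab197b232dc064b18c8911905031efc63b28c758965a82c9c05936cb26b1640e2c81258d18b1a0963372c53858a0cb13a109c81be402ce98589a8b13011f1c23af046f508d181188c22740447f0882c10eb421a2042720675c0c4e016c382d1e045ba089d00f2d01df1036240675c0bb08163502c56006a400d3401400027b004ec006e000d4800dc001a40008c000a0000a) i1)) (nat_lit 0) (nat_lit 124) List.nil)) : List ℕ × List ℕ)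
    = ?xq9026 → (List ℕ × List ℕ)) ?hq9026; (case hq9026 => (set_option maxRecDepth 1000000 in conv => lhs; reduce)); intro _; exact ?xq9026 : List ℕ × List ℕ)

/-- cofactor -/
def c_fin0_14 : List ℕ × List ℕ := (beta% delta% lq26f63394d3 fun a b _ _ f =>
 (f (a 0<|a 1<|a 3<|a 0<|a 0<|a 3<|a 5<|b) (a 0<|a 5<|a 30<|a 60<|a 11340<|a 11345<|a 34020<|a 90720<|a 90725<|a 90810<|a 102060<|a 102065<|a 113400<|a 124740<|a 181500<|a 181530<|
 a 272250<|a 283500<|a 453630<|b)))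

/-- cofactor -/
noncomputable def c_fin0_15 : List ℕ × List ℕ :=
  (by
  refine (?fq9027 : ((_root_.Prod.mk (pk61l (fun i1 => (pk61d (nat_lit 3) 
    (nat_lit 0x1acf62) i1)) (nat_lit 0) (nat_lit 7) List.nil) (pk61l (fun i1 => (pk61d (nat_lit 20) (Nat.add 
    (nat_lit 0x1c4d51c4d11c41c1c4031c3ff1c34a1c3311c32d1c2781c25f1c25a1bf171bf121be5e1be451be411be401bd8c1bd781bd741bd6f1bd6e1bca71bca21bc9c1bbed1bbd91bbd01bbcf1bbcb1bbca1bb521bb431bb341bb251bb201bb0c1bb071bb031bafe1bafd1a81a1a00419e6019e4219d8e19a2d19a2919a281997419884197d0197b7197b3196fe193b6192c7192c619212191fa191f919145191311912c19128191271907d190781905f19056190551905018fa118f8918f8818f8418f2918f1018f0b18f0618ee818ed918eca18ebb18eb718eb618eb118eac1818c1797617958172e6171f71712416d2816d0a16c5616c3d16c3816b6b16b6616a9516a94169c7169c316698165cb165a9164fe164dc164d7164d6164311642c164271640f1640e1640a1640916405164041635f16355163421633d1633c16338162f6162d8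162ba162a61629d162881627f16274162701626c1626716265162600dff30df210bbdf0bbdb0bb0d0bb080ba370ba360b56d0b5680b5500b54f0b54a0b49b0b4960b47e0b3c90b3ac0b3ab0b2d90b2d50b2030b2020b13509137091330907e090650906008fac08f8e08ec108ebc08e0808def08c4b08c4708c4608ac0089ee089d5089d10891c0884f0884a0882c08782087780876508764087600875f086930868d08689085de085d4085c5085c1085c0085bb0850c0850708502084f3084ef084ee069f0069d2069000682e064e6064320641506360063430628e0619f060cd060cc0601805fff05ffb05ffa05d8a05d8905d8505d8405cd005cb705cb305c0805c0305bfe05bea05be105b3105b2c05b1d05b1805b0f05b0e05a6905a4b05a4605a3d0598d059880597e05975059740596b0596a058f2058de058d9058d5058b6058ac058a7058a30589905898046aa045ba0434403f2a03e7603e5803da403d8603cd203c0003be203b2e0389b037c9036f603629036240355703552034850348103480033cc033b30320f0320a031560313d0308903084030700306c0306702fc102fb202f9f02f9e02f9902eea02ee502ed602ed102ecc02ec302ec202e1d02e1302e0402dff02dfb02dfa02df602df102d4b02d3202d2902d2802d2402d2302d1f02cc402cb002c9702c8802c7902c7402c6f02c6b02c6a02c5c02c5202c5102c4d02c4c0201c01f2c0189c017ca01716016f801626012de0113a010860106800d2000c5300b9a00b8100b7d00b7c009240090b00907009060078000767007630043d004380034e0034d00348002a30027c0027b0027700276001cc001c7001b4001af001ae001aa001a9000ff000fa000f5000e1000dd000d8000d7000d2000960007d000780005f000410003d0003c00028000230001f000100000b0000700000)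 (Nat.shiftLeft 
    (nat_lit 0x84e9a84e7c84e5e744b47447d726f071f9371f8e718a47186d7186871831702066f3606f3426ec3f6ec1c6ec036ebfe6ebe56ebe05e2545e21d5c4905bd335bd2e5b6445b6265b60d5b6085b5ef5b5d159fa65986259100590e7590e258a70589f8589df589c6589a8589804ac044815c480ad480a8480904808f47ffe47ff447fdb47fc747fbe47fb9463d44623045c9045bbe45ba545ba145aec45ad345acf4552e4545c454484543e453e4453d0453cb453c6453b2453ad453a9453a845399453944538b4537b45376453714536d4536c436d4436b6436024302b4302742f7242f5942ea042e8742e82429b4428c5428c44281a42810427fc427f7427f3427f2427b6427984277f427664274d4273e4272b4272742726427224272034b6b34b6634b4e34b4d34b49349aa349a9349a53274e3273532731326633265f325aa32591320be31fcf31fce31f1a31f0231f0131e4d31e4831e3031e2b31da331d9931d8031d7b31d7731d7631d6c31d6231d5e31d5d31d5931d583026430174300c0300a22ffd02fb022fa302fa172fa132fa122f9452f9402f8732f3a52f3a02f3882f3832f2d82f2b62f2b52f2012f1fc2f1ed2f1e42f1df2f1892f1702f1482f1392f12b2f1162f1112f10d2f10c2dbd62dbb82d4562d3842ce982cdc62cd122ccf92ccf42cc402cc272cc232c8262c7372c68c2c6822c6692c6642c5b52c59d2c59c2c5562c51f2c5062c4fd2c4fc2c4ed2c4e82c4e32c4df2c4d42c4c22c4c02160721463213901f1f31f1ef1f1211f11d1f11c1f04f1ef791eea71eb7c1eaaf1eaaa1ea921ea911e9dd1e9c01e9061e8ed1e8e81e8201e81c1e81b1e76c1e74e1e74a1e7491cb601c5a71c5a31c4ee)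 (nat_lit 8000))) i1)) (nat_lit 0) (nat_lit 650) List.nil)) : List ℕ × List ℕ)
    = ?xq9027 → (List ℕ × List ℕ)) ?hq9027; (case hq9027 => (set_option maxRecDepth 1000000 in conv => lhs; reduce)); intro _; exact ?xq9027 : List ℕ × List ℕ)

/-- the identity -/
def N_fin0 : List (List (List ℕ × List ℕ)) :=
  (beta% delta% lq26f63394d3 fun a b c _ _ =>
 (let e:=(let e:=(let e:=(let e:=(c (a a_p<|a a_p<|a a_q<|a a_q<|a a_q<|a a_o<|a a_o<|b)<|
 c (a a_p<|a a_p<|a a_q<|a a_q<|a a_q<|a a_nz<|a a_o<|b)<|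
 c (a a_p<|a a_q<|a a_q<|a a_q<|a a_nT2<|b)<|
 c (a a_p<|a a_p<|a a_q<|a a_q<|a a_q<|a a_q<|b)<|
 c (a a_p<|a a_p<|a a_q<|a a_q<|a a_q<|a a_nW0<|a a_o<|b)<|
 c (a a_p<|a a_p<|a a_q<|a a_q<|a a_q<|a a_nK<|b)<|b);
 (c (a a_p<|a a_p<|a a_p<|a a_q<|a a_q<|a a_nK<|b)<|
 c (a a_p<|a a_p<|a a_p<|a a_q<|a a_q<|a a_nK<|b)<|
 c (a a_p<|a a_p<|a a_p<|a a_q<|a a_q<|a a_nK<|b)<|
 c (a a_p<|a a_p<|a a_q<|a a_q<|a a_nW2<|a a_o<|b)<|
 c (a a_p<|a a_p<|a a_q<|a a_q<|a a_q<|a a_r<|b)<|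
 e));
 (let e:=(c (a a_p<|a a_p<|a a_p<|a a_q<|a a_q<|a a_q<|b)<|
 c (a a_p<|a a_p<|a a_p<|a a_q<|a a_q<|a a_q<|b)<|
 c (a a_p<|a a_p<|a a_p<|a a_q<|a a_q<|a a_q<|b)<|
 c (a a_p<|a a_p<|a a_p<|a a_q<|a a_q<|a a_nW0<|a a_o<|b)<|
 c (a a_p<|a a_p<|a a_p<|a a_q<|a a_q<|a a_nW0<|a a_o<|b)<|
 c (a a_p<|a a_p<|a a_p<|a a_q<|a a_q<|a a_nW0<|a a_o<|b)<|
 e);
 (c (a a_p<|a a_p<|a a_p<|a a_q<|a a_q<|a a_o<|a a_o<|b)<|
 c (a a_p<|a a_p<|a a_p<|a a_q<|a a_q<|a a_nz<|a a_o<|b)<|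
 c (a a_p<|a a_p<|a a_p<|a a_q<|a a_q<|a a_nz<|a a_o<|b)<|
 c (a a_p<|a a_p<|a a_q<|a a_q<|a a_nT2<|b)<|
 c (a a_p<|a a_p<|a a_q<|a a_q<|a a_nT2<|b)<|
 e)));
 (let e:=(let e:=(c (a a_p<|a a_p<|a a_p<|a a_q<|a a_nW2<|a a_o<|b)<|
 c (a a_p<|a a_p<|a a_p<|a a_q<|a a_q<|a a_r<|b)<|
 c (a a_p<|a a_p<|a a_p<|a a_p<|a a_q<|a a_q<|b)<|
 c (a a_p<|a a_p<|a a_p<|a a_p<|a a_q<|a a_nW0<|a a_o<|b)<|
 c (a a_p<|a a_p<|a a_p<|a a_p<|a a_q<|a a_nK<|b)<|
 c (a a_p<|a a_p<|a a_p<|a a_q<|a a_q<|a a_o<|a a_o<|b)<|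
 e);
 (c (a a_p<|a a_p<|a a_q<|a a_q<|a a_nW0<|a a_o<|b)<|
 c (a a_p<|a a_p<|a a_q<|a a_q<|a a_nW0<|a a_o<|b)<|
 c (a a_p<|a a_p<|a a_q<|a a_q<|a a_nK<|b)<|
 c (a a_p<|a a_p<|a a_q<|a a_q<|a a_nK<|b)<|
 c (a a_p<|a a_p<|a a_q<|a a_q<|a a_nK<|b)<|
 e));
 (let e:=(c (a a_p<|a a_q<|a a_q<|a a_nT2<|b)<|
 c (a a_p<|a a_q<|a a_q<|a a_nT2<|b)<|
 c (a a_p<|a a_p<|a a_q<|a a_q<|a a_q<|b)<|
 c (a a_p<|a a_p<|a a_q<|a a_q<|a a_q<|b)<|
 c (a a_p<|a a_p<|a a_q<|a a_q<|a a_q<|b)<|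
 c (a a_p<|a a_p<|a a_q<|a a_q<|a a_nW0<|a a_o<|b)<|
 e);
 (c (a a_p<|a a_p<|a a_q<|a a_q<|a a_o<|a a_o<|b)<|
 c (a a_p<|a a_p<|a a_q<|a a_q<|a a_nz<|a a_o<|b)<|
 c (a a_p<|a a_p<|a a_q<|a a_q<|a a_nz<|a a_o<|b)<|
 c (a a_p<|a a_p<|a a_q<|a a_q<|a a_nz<|a a_o<|b)<|
 c (a a_p<|a a_q<|a a_q<|a a_nT2<|b)<|
 e))));
 (let e:=(let e:=(let e:=(c (a a_p<|a a_p<|a a_p<|a a_q<|a a_nW0<|a a_o<|b)<|
 c (a a_p<|a a_p<|a a_p<|a a_q<|a a_nW0<|a a_o<|b)<|
 c (a a_p<|a a_p<|a a_p<|a a_q<|a a_nK<|b)<|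
 c (a a_p<|a a_p<|a a_p<|a a_q<|a a_nK<|b)<|
 c (a a_p<|a a_p<|a a_p<|a a_q<|a a_nK<|b)<|
 c (a a_p<|a a_p<|a a_q<|a a_q<|a a_o<|a a_o<|b)<|
 e);
 (c (a a_p<|a a_p<|a a_q<|a a_q<|a a_r<|b)<|
 c (a a_p<|a a_p<|a a_p<|a a_q<|a a_q<|b)<|
 c (a a_p<|a a_p<|a a_p<|a a_q<|a a_q<|b)<|
 c (a a_p<|a a_p<|a a_p<|a a_q<|a a_q<|b)<|
 c (a a_p<|a a_p<|a a_p<|a a_q<|a a_nW0<|a a_o<|b)<|
 e));
 (let e:=(c (a a_p<|a a_p<|a a_q<|a a_q<|b)<|
 c (a a_p<|a a_p<|a a_q<|a a_nW0<|a a_o<|b)<|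
 c (a a_p<|a a_p<|a a_q<|a a_nK<|b)<|
 c (a a_p<|a a_p<|a a_q<|a a_nW2<|a a_o<|b)<|
 c (a a_p<|a a_p<|a a_q<|a a_nW2<|a a_o<|b)<|
 c (a a_p<|a a_p<|a a_q<|a a_q<|a a_r<|b)<|
 e);
 (c (a a_p<|a a_q<|a a_nZ<|a a_nz<|b)<|
 c (a a_p<|a a_p<|a a_q<|a a_nZ<|a a_o<|b)<|
 c (a a_p<|a a_p<|a a_nK<|a a_nW0<|b)<|
 c (a a_p<|a a_p<|a a_nK<|a a_nW2<|b)<|
 c (a a_p<|a a_p<|a a_q<|a a_nK<|a a_o<|b)<|
 e)));
 (let e:=(let e:=(c (a a_p<|a a_p<|a a_nW0<|a a_nW0<|a a_nW2<|b)<|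
 c (a a_p<|a a_p<|a a_q<|a a_nW0<|a a_nW0<|a a_o<|b)<|
 c (a a_q<|a a_nT0<|a a_nW2<|b)<|
 c (a a_p<|a a_q<|a a_nT0<|a a_nW0<|b)<|
 c (a a_p<|a a_q<|a a_nT0<|a a_nW2<|b)<|
 c (a a_p<|a a_q<|a a_q<|a a_nT0<|a a_o<|b)<|
 e);
 (c (a a_p<|a a_p<|a a_nW0<|a a_nW0<|a a_nz<|b)<|
 c (a a_p<|a a_p<|a a_nW0<|a a_nz<|a a_nW2<|b)<|
 c (a a_p<|a a_p<|a a_q<|a a_nW0<|a a_nz<|a a_o<|b)<|
 c (a a_p<|a a_p<|a a_p<|a a_nW0<|a a_nW0<|a a_o<|b)<|
 c (a a_p<|a a_p<|a a_nW0<|a a_nW0<|a a_nW0<|b)<|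
 e));
 (let e:=(c (a a_p<|a a_p<|a a_nW0<|a a_nW2<|a a_o<|b)<|
 c (a a_p<|a a_p<|a a_nW0<|a a_nW2<|a a_o<|b)<|
 c (a a_p<|a a_p<|a a_q<|a a_nW0<|a a_o<|a a_o<|b)<|
 c (a a_p<|a a_nW0<|a a_nz<|a a_nW2<|b)<|
 c (a a_p<|a a_nW0<|a a_nz<|a a_nW2<|b)<|
 c (a a_p<|a a_p<|a a_nW0<|a a_nW0<|a a_nz<|b)<|
 e);
 (a (a a_p<|a a_p<|a a_q<|a a_nW0<|b)<|
 a (a a_p<|a a_p<|a a_q<|a a_nW2<|b)<|
 a (a a_p<|a a_p<|a a_q<|a a_q<|a a_o<|b)<|
 a (a a_p<|a a_p<|a a_nW0<|a a_nW0<|a a_o<|b)<|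
 a (a a_p<|a a_p<|a a_nW0<|a a_nW0<|a a_o<|b)<|
 e))))))

/-- the certificate -/
noncomputable def C_fin0 : List (List (List ℕ × List ℕ)) :=
  (beta% delta% lq26f63394d3 fun a b _ _ _ =>
 (a (a R0<|a c_fin0_0<|b)<|
 a (a R1<|a c_fin0_1<|b)<|
 a (a R2<|a c_fin0_2<|b)<|
 a (a R3<|a c_fin0_3<|b)<|
 a (a R4<|a c_fin0_4<|b)<|
 a (a R5<|a c_fin0_5<|b)<|
 a (a R6<|a c_fin0_6<|b)<|
 a (a R7<|a c_fin0_7<|b)<|
 a (a R8<|a c_fin0_8<|b)<|
 a (a R9<|a c_fin0_9<|b)<|
 a (a R10<|a c_fin0_10<|b)<|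
 a (a R11<|a c_fin0_11<|b)<|
 a (a R12<|a c_fin0_12<|b)<|
 a (a R13<|a c_fin0_13<|b)<|
 a (a R14<|a c_fin0_14<|b)<|
 a (a R15<|a c_fin0_15<|b)<|b))

theorem check_fin0 : check Rs (N_fin0 ++ C_fin0) = true := by decide +kernel

/-- cofactor -/
noncomputable def c_fin1_0 : List ℕ × List ℕ :=
  (by
  refine (?fq9028 : ((_root_.Prod.mk (pk61l (fun i1 => (pk61d (nat_lit 3) 
    (nat_lit 0x123a99) i1)) (nat_lit 0) (nat_lit 7) List.nil) (pk61l (fun i1 => (pk61d (nat_lit 19) 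
    (nat_lit 0x5b5eab220120572404547fb88aa21151722a1f4538f8a6e30ba821741428c48502109d0e1392c272169690d26918fe731efc63c54bce0979672f2b05e3c6bc77d7897af116599e8b309d66112c73658cd2b16d562c9ac592589c6b13296260ac4c038b4471340df201bd7337ade6f274ddf41bbcb3762c6ebf4dd7c9baf833c84675c0ccab197b232c1c64500c893991233224463dfcc7bf18ecf31d9463ad8c75617a2a2e7345cb20b68516ab22d38e5a708b27a164db2c80a59010b1a09633c2c67058cccb1991629c2c506589fcb13f1626f2c4d458998b132962612c4c02c88059018b2021626a2311843bc0875f10d4c21a2042ea085bb10b6c213a44272884e40bff416f942d8785b0e0b4b4169042d1e85a3c0b31a166202cb80596f0b2d6162882c4c85898079680ef881d880371406dec0d5481a400306605dc00bb1c176102e0e05bea0b7c016a082d2405a460b1a81628817ca0210c041a007620085200f0001d9c020d0034900690009ec013b801a9001c200370001e00005) i1)) (nat_lit 0) (nat_lit 161) List.nil)) : List ℕ × List ℕ)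
    = ?xq9028 → (List ℕ × List ℕ)) ?hq9028; (case hq9028 => (set_option maxRecDepth 1000000 in conv => lhs; reduce)); intro _; exact ?xq9028 : List ℕ × List ℕ)

/-- cofactor -/
noncomputable def c_fin1_1 : List ℕ × List ℕ :=
  (by
  refine (?fq9029 : ((_root_.Prod.mk (pk61l (fun i1 => (pk61d (nat_lit 3) 
    (nat_lit 0x123ad1) i1)) (nat_lit 0) (nat_lit 7) List.nil) (pk61l (fun i1 => (pk61d (nat_lit 19) 
    (nat_lit 0x16276ac4de5899eb130b626022a88454438a87f150fa14624281084fef09fce13bd4276184e9109d0e139f4272a84e4b09c817a2a2f3825e402bc7f178f22f1df5e254b20216334ac66458b6ab16c162cc2c59358a0cb13a16271ac4c5589827a760f4dd9e9ba3d0687a05cf40b1c4d0384b46fcc0df891be5e37c8a6f904deb99bd6f379426f274ddf41bbcb377946ec6cdd8b1bafe375fa6ebe0cff319f14332e866210cbe8197b23258c647e4c8fa99122320e664168c82a99051320a063e20c7c218f8331efc63b2cc76518eb231d6263ab4c75617afc2e7705ce68b97316d282d6cc5aac8b54a169e02ccf459718b2d6965a92cb50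593e4b26d964272c81c59024b2021633c2c67058cc8b15d162a62c53858a20b1419627f2c4d658998b1328b1531629c2c4d8589a886ab10d4c21a3843468868910bb22175042de085bb10b6c2141c4281084ea109d221394427205ffa0b7fc16f842df005b130b61e16c382d2f85a5a0b484168f42cb7858c00b16e162d82c51858a20b13a162601ec303cb406dec0d54819d70306605f2a0be50176382ec205bea0b504169e02d2805a3e0b1d0162b82c52058a204560089d0108601f2c02aa804ec009240106801e00020d003490069000a50013d802760038e006a800d2000f5001b00034c0023000410007a000f0000f8000b) i1)) (nat_lit 0) (nat_lit 207) List.nil)) : List ℕ × List ℕ)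
    = ?xq9029 → (List ℕ × List ℕ)) ?hq9029; (case hq9029 => (set_option maxRecDepth 1000000 in conv => lhs; reduce)); intro _; exact ?xq9029 : List ℕ × List ℕ)

/-- cofactor -/
noncomputable def c_fin1_2 : List ℕ × List ℕ :=
  (by
  refine (?fq9030 : ((_root_.Prod.mk (pk61l (fun i1 => (pk61d (nat_lit 3) 
    (nat_lit 0x19ac99) i1)) (nat_lit 0) (nat_lit 7) List.nil) (pk61l (fun i1 => (pk61d (nat_lit 20) 
    (nat_lit 0x84e5e84e406ecee6ecd06ebfe6ebe558a8e58a7558a5758a52589a35899e5898a5898558980455e242f5442996427fc427f7427f2427202f4542cdc62ccf42c6822c5ce2c4cf2c4ca2c4c62c4c52c4c01bfe41bf131be411be401bd6e1bc9d1bbcb19957197b3196e01960f19398192c7191f41912319122190511905018f7f18f7e18ead1746c1739b172c916ddc16d0b16a9516a941674c1667b1667a165a9164d61642716409164041633c16333162831627e1626f1626a162661626108688085b7085b6084e505b0e05a3d0596a0589903480033af0306602f9502f9402ec302ec202df102df002d1f0120c0113b0113a01069009d80090700834007630041a0034900276001a9001a5001a4000f0000dc000d2000230001e0000f00000)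 i1)) (nat_lit 0) (nat_lit 115) List.nil)) : List ℕ × List ℕ)
    = ?xq9030 → (List ℕ × List ℕ)) ?hq9030; (case hq9030 => (set_option maxRecDepth 1000000 in conv => lhs; reduce)); intro _; exact ?xq9030 : List ℕ × List ℕ)

/-- cofactor -/
noncomputable def c_fin1_3 : List ℕ × List ℕ :=
  (by
  refine (?fq9031 : ((_root_.Prod.mk (pk61l (fun i1 => (pk61d (nat_lit 3) 
    (nat_lit 0xe8a91) i1)) (nat_lit 0) (nat_lit 7) List.nil) (pk61l (fun i1 => (pk61d (nat_lit 19) 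
    (nat_lit 0x4815c8aa210a31213f94273e84e42c7bf18f152f1de5e218b1cd96334ac66458b60b131562609eb5e3d5187a6e8f3a21bf1237c806f5ccde509bc9c375f064b18c89399122320aa63df8c756165a82c81c59010b1b7162832c4fc589a8b133162652c4c0375f0589808502109d2165a82c5b0589d05a3c0b13000e3801ae0035200690006e000d20004600078000280001) i1)) (nat_lit 0) (nat_lit 61) List.nil)) : List ℕ × List ℕ)
    = ?xq9031 → (List ℕ × List ℕ)) ?hq9031; (case hq9031 => (set_option maxRecDepth 1000000 in conv => lhs; reduce)); intro _; exact ?xq9031 : List ℕ × List ℕ)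

/-- cofactor -/
noncomputable def c_fin1_4 : List ℕ × List ℕ :=
  (by
  refine (?fq9032 : ((_root_.Prod.mk (pk61l (fun i1 => (pk61d (nat_lit 3) 
    (nat_lit 0x121891) i1)) (nat_lit 0) (nat_lit 7) List.nil) (pk61l (fun i1 => (pk61d (nat_lit 19) 
    (nat_lit 0x5b5eab21c56267a40454545c8a71f14db217aa4281084fe509d0e139f4272163c54bc78d78efaf1de5e25ebc4a9788b2f10c599e8b309d66112c73658d04b19a562daac4e3589bcb13296262ac4c03d5187a6e8f4741bd6e379426f274de4e1bbe83779e6ef28c82898f9c31f0663dfcc76798eca31d6c63ac4c756169c72d384596a0b27a164d72c9ac59038b2029633c2c67058cc8b14e162832c4fe589f8b135162662c4c02c88059018877810eb621d6843530868910d102175042db884e40b7c016cb02d878598d0b2e0165a82c4c8589805f280bb80176182e0e05bea0b504169e02d2405a3e0b158162882c4d00ece00d20013b801c20035c006a400d2000d30007800014000080000) i1)) (nat_lit 0) (nat_lit 113) List.nil)) : List ℕ × List ℕ)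
    = ?xq9032 → (List ℕ × List ℕ)) ?hq9032; (case hq9032 => (set_option maxRecDepth 1000000 in conv => lhs; reduce)); intro _; exact ?xq9032 : List ℕ × List ℕ)

/-- cofactor -/
noncomputable def c_fin1_5 : List ℕ × List ℕ :=
  (by
  refine (?fq9033 : ((_root_.Prod.mk (pk61l (fun i1 => (pk61d (nat_lit 3) 
    (nat_lit 0xe3890) i1)) (nat_lit 0) (nat_lit 7) List.nil) (pk61l (fun i1 => (pk61d (nat_lit 19) 
    (nat_lit 0x24045427f284e7cc78a978ef2cc2258b24b13f1626f21534428c47aa30f4741e816384b46f5b8dde51bafd375f067c50cf2119d703310865b80cb07191f43224464140bd151739a2e5905c7d8b685165a82c9b659358b207164092c80858d40b19e163322c538589f8b135162652c4c02c4d4589808c4610eb4216d84274862700c33c16f802d8705a3c0b2d4162d82c510589807b0c0ef881d88035520675c0be50176102df0058ac0b1440be500f9601d880276004830027b0035c0035c00690003c0003c00028000280000) i1)) (nat_lit 0) (nat_lit 86) List.nil)) : List ℕ × List ℕ)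
    = ?xq9033 → (List ℕ × List ℕ)) ?hq9033; (case hq9033 => (set_option maxRecDepth 1000000 in conv => lhs; reduce)); intro _; exact ?xq9033 : List ℕ × List ℕ)

/-- cofactor -/
noncomputable def c_fin1_6 : List ℕ × List ℕ :=
  (by
  refine (?fq9034 : ((_root_.Prod.mk (pk61l (fun i1 => (pk61d (nat_lit 3) 
    (nat_lit 0x122a90) i1)) (nat_lit 0) (nat_lit 7) List.nil) (pk61l (fun i1 => (pk61d (nat_lit 19) 
    (nat_lit 0xb6d3d6294a2a884543e8a6d909fca139031fce63c54bce0978862c736589f8b13790a9a214623d02c79d10df981be5e379746f270ddf41bbca375fa6ebe0ccba1995632fa065ec8cb161960e325c8647d0c8a01906e31f3863df8c765173b82e7345cb98b96416d282da145aac8b54a166982ccf459718b2d4163502c66458a70b1419627e2c4ca2c4d458980875a10ba821408427485a5a0b16c162882c4e833cc0675c0bec817ca02ee005d840b838169e02c560589804560089d01086020d00249004830078000ec400d98013b001c200348003c000690003c0004600078000280000) i1)) (nat_lit 0) (nat_lit 96) List.nil))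 : List ℕ × List ℕ)
    = ?xq9034 → (List ℕ × List ℕ)) ?hq9034; (case hq9034 => (set_option maxRecDepth 1000000 in conv => lhs; reduce)); intro _; exact ?xq9034 : List ℕ × List ℕ)

/-- cofactor -/
noncomputable def c_fin1_7 : List ℕ × List ℕ :=
  (by
  refine (?fq9035 : ((_root_.Prod.mk (pk61l (fun i1 => (pk61d (nat_lit 3) 
    (nat_lit 0x15aa41) i1)) (nat_lit 0) (nat_lit 7) List.nil) (pk61l (fun i1 => (pk61d (nat_lit 19) 
    (nat_lit 0x375f058a70b133d626021462427f258cc8b16c162601bf1237c806f270dde59baf832dc26583ccb07192c6323e864144c7bf18eca31d5a5cb24b96416d0a2d8725ad9cb5b316a952d528599e8b2d4964222c4c25898042db084e5109c8168f02cb58596a0b1320d8941aa983552069020cebc19d702f9405d840b7c4168f82c6a02274041a40834008350106801d8c03b100277004ec0069400d20001e) i1)) (nat_lit 0) (nat_lit 66) List.nil)) : List ℕ × List ℕ)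
    = ?xq9035 → (List ℕ × List ℕ)) ?hq9035; (case hq9035 => (set_option maxRecDepth 1000000 in conv => lhs; reduce)); intro _; exact ?xq9035 : List ℕ × List ℕ)

/-- cofactor -/
noncomputable def c_fin1_8 : List ℕ × List ℕ :=
  (by
  refine (?fq9036 : ((_root_.Prod.mk (pk61l (fun i1 => (pk61d (nat_lit 3) 
    (nat_lit 0x162ad9) i1)) (nat_lit 0) (nat_lit 7) List.nil) (pk61l (fun i1 => (pk61d (nat_lit 19) 
    (nat_lit 0xdd8396d7bedae6589c1b13796267ac4c2d8980902b92023e4045c55108a887150fe2a1f453948a71f14e2a29b8c536c8518909fde13f9c277a84ec309d7213a1c273f84e7d09caa1393320a063f9cc78bd8f15b1e2a5e8a8bcad579582f1fc5e3bcbc4d178952f11b5e22cbc44578862c80858cdcb199562e72c59c58b30b164d628d2c501589f8b138d626fac4cf589827ad78f5489ea8d3d37e7a6ecf4769e8e93d1d079d14f3a21c5a2387fc70968df229be4137ade6f298de511bca1377a86ef40dde51bb1633fcc67c50ccab196e0323f2647d4c82d19056320a264140c7d098f8831f0863e0cc7bf98f7e31da863b2cc75d98ead31d585909cb207164092c80858e30b1aa963372c66658ae8b1509629c2c508589fcb137962612c4c02c80858a70b1311626021a984344885d410b6e216d84281084e5109c817fe82df005a5a0b47a168f02cb5058bb0b13c162642c4c03d86079680d54819d702f9405d840b83816f882df005a780b478163782c5b058a20b134013b001e50035c00694007a800f0001ba00360006b800d3001a400104001e000230001600028000300000)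 i1)) (nat_lit 0) (nat_lit 176) List.nil)) : List ℕ × List ℕ)
    = ?xq9036 → (List ℕ × List ℕ)) ?hq9036; (case hq9036 => (set_option maxRecDepth 1000000 in conv => lhs; reduce)); intro _; exact ?xq9036 : List ℕ × List ℕ)

/-- cofactor -/
noncomputable def c_fin1_9 : List ℕ × List ℕ :=
  (by
  refine (?fq9037 : ((_root_.Prod.mk (pk61l (fun i1 => (pk61d (nat_lit 3) 
    (nat_lit 0xe0859) i1)) (nat_lit 0) (nat_lit 7) List.nil) (pk61l (fun i1 => (pk61d (nat_lit 19) 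
    (nat_lit 0x12022a3fdc4543e84fef09c95a5a4349a463f9cbce0979582c73658cd2b199162cbac592589bcb13196262ac4c142a6885188f4dd1e8e83ce886f900deb99bca1379386ebe0c8fa191273224464154c82818f7e2c9b659358b204964042c68258cf0b19b963322c4fc589bcb132962612c4c0213a42c4e8589805898006900070800d7) i1)) (nat_lit 0) (nat_lit 55) List.nil)) : List ℕ × List ℕ)
    = ?xq9037 → (List ℕ × List ℕ)) ?hq9037; (case hq9037 => (set_option maxRecDepth 1000000 in conv => lhs; reduce)); intro _; exact ?xq9037 : List ℕ × List ℕ)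

/-- cofactor -/
noncomputable def c_fin1_10 : List ℕ × List ℕ :=
  (by
  refine (?fq9038 : ((_root_.Prod.mk (pk61l (fun i1 => (pk61d (nat_lit 3) 
    (nat_lit 0xe0851) i1)) (nat_lit 0) (nat_lit 7) List.nil) (pk61l (fun i1 => (pk61d (nat_lit 19) 
    (nat_lit 0x109fca1392c272158e6cb167162cbac59358994b13196260a155242a6a854d10a4021463428c47a6e8f41a1e8173cec479d14f3a21be5e37c806f5b8de5d1bc9c377da6ef40dde79bbcb3779464848c8fa19073320aa64144c82818fa131f3863e10c7c198f7f31d6463ac4c756164d62c80858ce0b19b963332c4d458998b1308b225164402c82059038b13110efa21d8043af8868810a0421394427205bfe0b7ca16cc42d9605b140b62616c3c2d2f85a5a0b484169042cc90598d0b310165d42cba0596f0b176162d82c4e858990b1300bec817cc82ee505d900bb1c176182ec205c260b7e816f802d4605a820b4a4169402d2405a3c0b1a8162b02c52058a200694006c000d30001600028000280001) i1)) (nat_lit 0) (nat_lit 115) List.nil)) : List ℕ × List ℕ)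
    = ?xq9038 → (List ℕ × List ℕ)) ?hq9038; (case hq9038 => (set_option maxRecDepth 1000000 in conv => lhs; reduce)); intro _; exact ?xq9038 : List ℕ × List ℕ)

/-- cofactor -/
noncomputable def c_fin1_11 : List ℕ × List ℕ :=
  (by
  refine (?fq9039 : ((_root_.Prod.mk (pk61l (fun i1 => (pk61d (nat_lit 3) 
    (nat_lit 0x120a90) i1)) (nat_lit 0) (nat_lit 7) List.nil) (pk61l (fun i1 => (pk61d (nat_lit 19) 
    (nat_lit 0x2db4f58a528aa21150fa29b6428c464140c7f398f7e2f4545e218b2021639b2c66458b24b13f1626f2c4c042a6885188f5461e9ba3d1d079d10df891be4037adc6f270dd7e9baf83258c64488b33d164042c53858a0cb1328b1351626021d6842db084e9109c8168f02cb5058a20b13a1626016f802d1e058ac0b13001a400276000780008c000f00005) i1)) (nat_lit 0) (nat_lit 58) List.nil)) : List ℕ × List ℕ)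
    = ?xq9039 → (List ℕ × List ℕ)) ?hq9039; (case hq9039 => (set_option maxRecDepth 1000000 in conv => lhs; reduce)); intro _; exact ?xq9039 : List ℕ × List ℕ)

/-- cofactor -/
def c_fin1_12 : List ℕ × List ℕ := (beta% delta% lq26f63394d3 fun a b _ d f =>
 (f (a 1<|a 2<|a 2<|a 3<|a 0<|a 5<|a 3<|b) (let e:=(let e:=(let e:=(d 181445<|d 181446<|d 181470<|d 181500<|d 272165<|b);
 (d 124740<|d 124745<|d 181440<|d 181441<|
 e));
 (let e:=(d 90940<|d 91140<|d 91145<|d 102065<|d 102070<|e);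
 (d 90730<|d 90750<|d 90780<|d 90935<|e)));
 (let e:=(let e:=(d 45365<|d 56705<|d 90720<|d 90721<|
 d 90725<|e);
 (d 22685<|d 22690<|d 34020<|d 34030<|e));
 (let e:=(d 425<|d 630<|d 11340<|d 11345<|d 11350<|e);
 (a 10<|a 60<|a 210<|a 220<|e))))))

/-- cofactor -/
noncomputable def c_fin1_13 : List ℕ × List ℕ :=
  (by
  refine (?fq9040 : ((_root_.Prod.mk (pk61l (fun i1 => (pk61d (nat_lit 3) 
    (nat_lit 0x122858) i1)) (nat_lit 0) (nat_lit 7) List.nil) (pk61l (fun i1 => (pk61d (nat_lit 19) 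
    (nat_lit 0xb130120572404547fb88aa21150fa1462427f269690d26918fe731efc63c54bce0979582f1de5e218b1649626021534428c47a058f3a21c5a2387fc70968deb71bc9c3779467f98cf8a1995632dc064140c7bf18eac2c9b659024b202163412c67858cdcb1991627e2c4de589a8b1328b2021626021a20427205ffa0b7c016c382d1e03d86079680d54819d702f9405be00b13000d4800e1001b800078000500005) i1)) (nat_lit 0) (nat_lit 68) List.nil)) : List ℕ × List ℕ)
    = ?xq9040 → (List ℕ × List ℕ)) ?hq9040; (case hq9040 => (set_option maxRecDepth 1000000 in conv => lhs; reduce)); intro _; exact ?xq9040 : List ℕ × List ℕ)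

/-- cofactor -/
def c_fin1_14 : List ℕ × List ℕ := (beta% delta% lq26f63394d3 fun a b _ _ f =>
 (f (a 0<|a 0<|a 2<|a 0<|a 0<|a 3<|a 4<|b) (a 60<|a 22680<|a 34020<|a 90720<|a 90750<|a 90780<|a 181440<|a 181470<|a 181500<|a 272160<|a 362880<|b)))

/-- cofactor -/
noncomputable def c_fin1_15 : List ℕ × List ℕ :=
  (by
  refine (?fq9041 : ((_root_.Prod.mk (pk61l (fun i1 => (pk61d (nat_lit 3) 
    (nat_lit 0x163b1a) i1)) (nat_lit 0) (nat_lit 7) List.nil) (pk61l (fun i1 => (pk61d (nat_lit 19) 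
    (nat_lit 0x3760e5b626b6c116d7bedae8d9862b308964402c871589c1b133d16b4e2d674543e8a78d14eb629c7c53768a6d90dada1b01435e485d0f0ba0a13bd4276184eb909d0e13954272584e40c79358f2431e3063c5ec75d97d182f9405f118bc80578f22f1e35e2a4bc46d7886ad38459bc8b33d566202cc2359844b1a0962daac59c58b26b1649629c2c51a589fab138d626fac4de5899eb13296263ac4c65898ab130962601e8e93d02e79d14e26a9c4d13880670cc4e1969c32c384b670968df2f1bd6f3793a6efb4dde81bbcf377966ec5cdd7f1bafd375f26ebe0cff3198a23311266214cbd9997b232dfc65b94cb161961332c1c64848c89199122320e6641b8c82a9905031f3863dfcc7bf18f0631de463ba0c76a18ecf31d9463aecc75918ead31d585e560b90a16c3d2d8725ad98b55916a992d52a5a780b4e1969c22cb8c5935cb26b1642c2c81259014b2021635a2c6a058cf4b19e163372c66658b60b15d1629d2c53858a0cb13f9626f2c4d658998b1310b2d51626223b04475e88deb11bd423474468c88c471188c2213c44250883211062220b444160877d10ef021d8043ad086ab10d1c21a2442ea085bb10b6e2140c4281084e9109ca2139031a38628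e0c4e0186f030d18619f0c1d418344306685cd00b96e172c82e0185bfe0b7cc16f802d8985b0e0b4c81691c2d2305a420b482168f42d1e059920b2ea165c02cb5058bb0b144162782c4e858990b1300f9d81f2c037c806c520d8941b120349e0690a0d2041a40033cc067660cebc18420306b060cc0bedc17cd02ecc05d900b860170982e0e05bf60b7d416f882d4605a820b4a4169182c920591a0b224164402c74058d60b1a8162d82c560589a0b1300bf4017ca02df0044e8083400fb401dc402df00555809240121602418041c808350106801d9c03b18034800528009dc00e6001c7003840069400d2000fa001e000374006980078000b4000f4001e0001f0001600028000300005) i1)) (nat_lit 0) (nat_lit 302) List.nil)) : List ℕ × List ℕ)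
    = ?xq9041 → (List ℕ × List ℕ)) ?hq9041; (case hq9041 => (set_option maxRecDepth 1000000 in conv => lhs; reduce)); intro _; exact ?xq9041 : List ℕ × List ℕ)

/-- the identity -/
def N_fin1 : List (List (List ℕ × List ℕ)) :=
  (beta% delta% lq26f63394d3 fun a b c _ _ =>
 (let e:=(let e:=(let e:=(let e:=(c (a a_p<|a a_q<|a a_q<|a a_nT2<|b)<|
 c (a a_p<|a a_p<|a a_q<|a a_q<|a a_q<|b)<|
 c (a a_p<|a a_p<|a a_q<|a a_q<|a a_nW0<|a a_o<|b)<|
 c (a a_p<|a a_p<|a a_q<|a a_q<|a a_nK<|b)<|b);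
 (c (a a_p<|a a_p<|a a_q<|a a_nW2<|a a_o<|b)<|
 c (a a_p<|a a_p<|a a_q<|a a_q<|a a_r<|b)<|
 c (a a_p<|a a_p<|a a_q<|a a_q<|a a_o<|a a_o<|b)<|
 c (a a_p<|a a_p<|a a_q<|a a_q<|a a_nz<|a a_o<|b)<|
 e));
 (let e:=(c (a a_p<|a a_p<|a a_p<|a a_q<|a a_nW0<|a a_o<|b)<|
 c (a a_p<|a a_p<|a a_p<|a a_q<|a a_nW0<|a a_o<|b)<|
 c (a a_p<|a a_p<|a a_p<|a a_q<|a a_nK<|b)<|
 c (a a_p<|a a_p<|a a_p<|a a_q<|a a_nK<|b)<|
 e);
 (c (a a_p<|a a_p<|a a_p<|a a_q<|a a_nz<|a a_o<|b)<|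
 c (a a_p<|a a_p<|a a_q<|a a_nT2<|b)<|
 c (a a_p<|a a_p<|a a_p<|a a_q<|a a_q<|b)<|
 c (a a_p<|a a_p<|a a_p<|a a_q<|a a_q<|b)<|
 e)));
 (let e:=(let e:=(c (a a_p<|a a_p<|a a_q<|a a_nK<|b)<|
 c (a a_p<|a a_p<|a a_q<|a a_nK<|b)<|
 c (a a_p<|a a_p<|a a_q<|a a_nK<|b)<|
 c (a a_p<|a a_p<|a a_p<|a a_q<|a a_o<|a a_o<|b)<|
 e);
 (c (a a_p<|a a_p<|a a_q<|a a_q<|b)<|
 c (a a_p<|a a_p<|a a_q<|a a_nW0<|a a_o<|b)<|
 c (a a_p<|a a_p<|a a_q<|a a_nW0<|a a_o<|b)<|
 c (a a_p<|a a_p<|a a_q<|a a_nW0<|a a_o<|b)<|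
 e));
 (let e:=(c (a a_p<|a a_q<|a a_nT2<|b)<|
 c (a a_p<|a a_q<|a a_nT2<|b)<|
 c (a a_p<|a a_p<|a a_q<|a a_q<|b)<|
 c (a a_p<|a a_p<|a a_q<|a a_q<|b)<|
 e);
 (c (a a_p<|a a_p<|a a_q<|a a_nz<|a a_o<|b)<|
 c (a a_p<|a a_p<|a a_q<|a a_nz<|a a_o<|b)<|
 c (a a_p<|a a_p<|a a_q<|a a_nz<|a a_o<|b)<|
 c (a a_p<|a a_q<|a a_nT2<|b)<|
 e))));
 (let e:=(let e:=(let e:=(c (a a_p<|a a_q<|a a_nz<|a a_o<|b)<|
 c (a a_q<|a a_nT2<|b)<|
 c (a a_p<|a a_p<|a a_q<|a a_o<|a a_o<|b)<|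
 c (a a_p<|a a_p<|a a_q<|a a_o<|a a_o<|b)<|
 e);
 (c (a a_p<|a a_p<|a a_nK<|a a_o<|b)<|
 c (a a_nT2<|a a_nW0<|b)<|
 c (a a_nT2<|a a_nW2<|b)<|
 c (a a_q<|a a_nT2<|a a_o<|b)<|
 e));
 (let e:=(c (a a_q<|a a_nT0<|a a_nW0<|b)<|
 c (a a_q<|a a_nT0<|a a_nW2<|b)<|
 c (a a_q<|a a_q<|a a_nT0<|a a_o<|b)<|
 c (a a_p<|a a_nK<|a a_nz<|b)<|
 e);
 (c (a a_p<|a a_q<|a a_nW0<|a a_nz<|a a_o<|b)<|
 c (a a_q<|a a_nT0<|a a_o<|b)<|
 c (a a_q<|a a_nT0<|a a_nz<|b)<|
 c (a a_p<|a a_q<|a a_nT0<|a a_o<|b)<|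
 e)));
 (let e:=(let e:=(c (a a_p<|a a_q<|a a_nz<|a a_nz<|a a_o<|b)<|
 c (a a_p<|a a_p<|a a_nW0<|a a_nz<|a a_o<|b)<|
 c (a a_p<|a a_nW0<|a a_nW0<|a a_nz<|b)<|
 c (a a_p<|a a_nW0<|a a_nz<|a a_nW2<|b)<|
 e);
 (c (a a_nz<|a a_nz<|a a_nW2<|b)<|
 c (a a_p<|a a_nW0<|a a_nz<|a a_nz<|b)<|
 c (a a_p<|a a_nW0<|a a_nz<|a a_nz<|b)<|
 c (a a_p<|a a_nz<|a a_nz<|a a_nW2<|b)<|
 e));
 (let e:=(c (a a_p<|a a_nz<|a a_nW2<|a a_o<|b)<|
 c (a a_p<|a a_nz<|a a_nW2<|a a_o<|b)<|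
 c (a a_p<|a a_q<|a a_nz<|a a_o<|a a_o<|b)<|
 c (a a_nz<|a a_nz<|a a_nW2<|b)<|
 e);
 (a (a a_p<|a a_q<|a a_nz<|b)<|
 a (a a_p<|a a_p<|a a_q<|a a_o<|b)<|
 a (a a_p<|a a_nW0<|a a_nz<|a a_o<|b)<|
 a (a a_p<|a a_nW0<|a a_nz<|a a_o<|b)<|
 e))))))

/-- the certificate -/
noncomputable def C_fin1 : List (List (List ℕ × List ℕ)) :=
  (beta% delta% lq26f63394d3 fun a b _ _ _ =>
 (a (a R0<|a c_fin1_0<|b)<|
 a (a R1<|a c_fin1_1<|b)<|
 a (a R2<|a c_fin1_2<|b)<|
 a (a R3<|a c_fin1_3<|b)<|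
 a (a R4<|a c_fin1_4<|b)<|
 a (a R5<|a c_fin1_5<|b)<|
 a (a R6<|a c_fin1_6<|b)<|
 a (a R7<|a c_fin1_7<|b)<|
 a (a R8<|a c_fin1_8<|b)<|
 a (a R9<|a c_fin1_9<|b)<|
 a (a R10<|a c_fin1_10<|b)<|
 a (a R11<|a c_fin1_11<|b)<|
 a (a R12<|a c_fin1_12<|b)<|
 a (a R13<|a c_fin1_13<|b)<|
 a (a R14<|a c_fin1_14<|b)<|
 a (a R15<|a c_fin1_15<|b)<|b))

theorem check_fin1 : check Rs (N_fin1 ++ C_fin1) = true := by decide +kernel

/-- cofactor -/
noncomputable def c_fin2_0 : List ℕ × List ℕ :=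
  (by
  refine (?fq9042 : ((_root_.Prod.mk (pk61l (fun i1 => (pk61d (nat_lit 3) 
    (nat_lit 0x123a91) i1)) (nat_lit 0) (nat_lit 7) List.nil) (pk61l (fun i1 => (pk61d (nat_lit 19) 
    (nat_lit 0x2db4f5b5eab6b9964402c87158a52902b916b3a2a884545c8a87d14e3e29c54537186bc90bd521750428c48502109fce13f94274384e7d09c85a5a434a7664140c7f398f7e2f86e5e8a8bce0979672f2b55e562bc7f17897af12a5e22cbc43169c22cd1259880b309d66112c73658cd2b199562daac5b158b60b165d62c92c4e3589beb132962629e7453ce8871688e2681c3fe386586f900deb99bd6f379746f284de4e9bbe83779e6ebe4cff319f1433c8466210cbd9196e0323e86449cc83719055320a264140c7c198f7f31d9e63ad8c75918eb12e5905c7d8b61c16b662d5285a71cb4e1165a82c9e85935cb1a81633c2c66e58cccb1991629c2c506589f859100b203164042c4d458988b1301188c21de043af8868d10d10217504272860cc0bff4172dc2e5985cb20b7c2169682d208598d0b310165c02cb78596b0b2d4162d82c510589d0b132162601e5a03b1006e280dbd81aa90349e069000ceb818420306b060ce0be6417ca82f9405dc00bb1c176182df505be00b504169202c6a0589a0b1300be50113a0210c02aa804fb009d80106801d9c020d0034d0069200d20014000277004ec0070800d4801a5001e00034c00690003c)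 i1)) (nat_lit 0) (nat_lit 186) List.nil)) : List ℕ × List ℕ)
    = ?xq9042 → (List ℕ × List ℕ)) ?hq9042; (case hq9042 => (set_option maxRecDepth 1000000 in conv => lhs; reduce)); intro _; exact ?xq9042 : List ℕ × List ℕ)

/-- cofactor -/
noncomputable def c_fin2_1 : List ℕ × List ℕ :=
  (by
  refine (?fq9043 : ((_root_.Prod.mk (pk61l (fun i1 => (pk61d (nat_lit 3) 
    (nat_lit 0x163ad1) i1)) (nat_lit 0) (nat_lit 7) List.nil) (pk61l (fun i1 => (pk61d (nat_lit 19) 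
    (nat_lit 0x6ebe0b14e16294ac4ed58985b1303154422a21c543f8a87d14ea229b642996851890a04213bd4276184eb909d2213a1c273e84e5509c9a1392af4545e70ebce0d79c12f2b05e402bc7f178f22f1e35e3bebc52178952f10d5e218b202163aa2c73b58e6eb1cd96332ac5ce58b6ab16c162ce2c59858b24b146962832c4e8589beb137962652c4c65898a7a760f4dd9e9ba3d20c7a3a4f4741c5a2389a070cb0df899be5e37c8a6f630deb79bcba377da6ef40dde79bbca376366ec58dd7f1bafd375f26ebe0cf8a19a283314465ec8cb7f196e032c1c64b90c963992c632424647d0c8a019122320e664168c7d098f9c31f1063b3cc76598eca31d6263ab4bd7e1746c2e7345cb20b8fb16d0a2d8ac5b0e0b5c216a942d38459a60b2d4965a82c9f25936cb2139640e2c6a058cf0b199962a62c54258a70b144162832c4cc58994b13096260162a62c538589b0b13510d5621a9843470868d10d12216dc42db0850710a04213a84274884e40c33c183302ffd05bfe0b7c016cb02d8985a3d0b478166342cc4059700b180162ec2c51858a20b13c162741ec303cb406dec0d5c01a4f034800675c0c21017ca82ee505d8e0bb0c170702df005a820b4a0169202d1f05a3c0b1d0163782c6b058ae0b148162682c4c022b0042180564009f6013b00241803b100294004f60071c00e1001a9001ea003c0006980046000780007c000080000)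 i1)) (nat_lit 0) (nat_lit 217) List.nil)) : List ℕ × List ℕ)
    = ?xq9043 → (List ℕ × List ℕ)) ?hq9043; (case hq9043 => (set_option maxRecDepth 1000000 in conv => lhs; reduce)); intro _; exact ?xq9043 : List ℕ × List ℕ)

/-- cofactor -/
noncomputable def c_fin2_2 : List ℕ × List ℕ :=
  (by
  refine (?fq9044 : ((_root_.Prod.mk (pk61l (fun i1 => (pk61d (nat_lit 3) 
    (nat_lit 0x19ac99) i1)) (nat_lit 0) (nat_lit 7) List.nil) (pk61l (fun i1 => (pk61d (nat_lit 20) 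
    (nat_lit 0x84e5e7182c6f3426ecee6ecb26ebfe6ebe56ebe05b6bc5b5cc591d2590e258b4258b2458a8e58a7558a52589a35898a455e24545c4537142f7242e8242996428c44282e42815427fc427f72f1112cdc62ccf92c7362c6a02c6872c6692c5b52c5b02c5972c4e32c4cf2c4ca2c4c62c4c51bfe41bf131bf121bd6e1bbcb19a28199561988519884196e1192c7192c6191f4191221905018f7f18f7e18ead1739a16c3916c3816b671667a165a9165a8164d7164d61640516404163501633c163321626f16266162611626008688085b7085b6084e505b0e05a3d05a3c0596b0596a058990362403553035520348103480033af031380306702f9402ec302df002d1f0120c0113b0113a0106900b7c00aab00aaa009d9004ec0041b00276001a5001a4000f0000dc000d3000d2000230001e0000f0000a00006000050000100000) i1)) (nat_lit 0) (nat_lit 128) List.nil)) : List ℕ × List ℕ)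
    = ?xq9044 → (List ℕ × List ℕ)) ?hq9044; (case hq9044 => (set_option maxRecDepth 1000000 in conv => lhs; reduce)); intro _; exact ?xq9044 : List ℕ × List ℕ)

/-- cofactor -/
noncomputable def c_fin2_3 : List ℕ × List ℕ :=
  (by
  refine (?fq9045 : ((_root_.Prod.mk (pk61l (fun i1 => (pk61d (nat_lit 3) 
    (nat_lit 0x128a89) i1)) (nat_lit 0) (nat_lit 7) List.nil) (pk61l (fun i1 => (pk61d (nat_lit 19) 
    (nat_lit 0x5b69e902b9150fa1471428c484e4309c81905031e2a5e8a8bcad579582f1de58d40b199162e72c5b558b60b166162cbac59358b24b138d626f2c4c65898ab1304f5af1bd73379426f270dde51baf83258c647d0c89399055320a063ab0b2d4164222c81259010b1aa9629c2c506589f8b130962601baf8216d84281084e90b16c162742c4c02c6a058a20b130020d0034d00690009ec013b000d7001a40007c000080000) i1)) (nat_lit 0) (nat_lit 69) List.nil)) : List ℕ × List ℕ)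
    = ?xq9045 → (List ℕ × List ℕ)) ?hq9045; (case hq9045 => (set_option maxRecDepth 1000000 in conv => lhs; reduce)); intro _; exact ?xq9045 : List ℕ × List ℕ)

/-- cofactor -/
noncomputable def c_fin2_4 : List ℕ × List ℕ :=
  (by
  refine (?fq9046 : ((_root_.Prod.mk (pk61l (fun i1 => (pk61d (nat_lit 3) 
    (nat_lit 0x121a91) i1)) (nat_lit 0) (nat_lit 7) List.nil) (pk61l (fun i1 => (pk61d (nat_lit 19) 
    (nat_lit 0x5b5eab6b996438a404547fb88a8b9150fa29c7c538a8a6d90bd521408427f384e8709c961390c272063f9cc756179582f1fc5e3bcbc4bd788b2f1115e218b34496613acc2258e6cb16d562d8ac5b0589c6b137d626f2c4ca58982b1300f5461e7453ce886f900de5d1bca1379386efa0dde79bbca3258c641b8c7ce18f8331efc63b3cc76518eb631d6463ab0b4e3965a82c9e859088b14e162832c4d458984b1300b220164062c4c458980877810eb621d6842ea085b710b6c213942df005a5a0b47a168f02cc6859880b2e0165ac2cb50589805f640be50177002ec305d840b83816fa82df105a820b490168f82c560589a01d9c03b10041a0069a00d20013b801c200348003c000690003c)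 i1)) (nat_lit 0) (nat_lit 113) List.nil)) : List ℕ × List ℕ)
    = ?xq9046 → (List ℕ × List ℕ)) ?hq9046; (case hq9046 => (set_option maxRecDepth 1000000 in conv => lhs; reduce)); intro _; exact ?xq9046 : List ℕ × List ℕ)

/-- cofactor -/
noncomputable def c_fin2_5 : List ℕ × List ℕ :=
  (by
  refine (?fq9047 : ((_root_.Prod.mk (pk61l (fun i1 => (pk61d (nat_lit 3) 
    (nat_lit 0x123a90) i1)) (nat_lit 0) (nat_lit 7) List.nil) (pk61l (fun i1 => (pk61d (nat_lit 19) 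
    (nat_lit 0x16d73240454543e8518909fca139f31fce5e560bc77966112c73658d04b1991627e2c4c042a687aa30f4dd1e8e83d02c79d10e2d11bf1237adc6ef28dd7c19f1433c8466558cbd91960e3258c647d0c89118eca2e5905b0e0b54a165a82c9ac59024b1991629c2c4d458994589a88c4610eb4216d84272062700b7c0165a82c510589d0b1300f6181d8803552069000be50176102df005a3c0b1a8162b02c510589805f28089d00aaa013b002418020d0034d001a4000f0000f00005) i1)) (nat_lit 0) (nat_lit 79) List.nil)) : List ℕ × List ℕ)
    = ?xq9047 → (List ℕ × List ℕ)) ?hq9047; (case hq9047 => (set_option maxRecDepth 1000000 in conv => lhs; reduce)); intro _; exact ?xq9047 : List ℕ × List ℕ)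

/-- cofactor -/
noncomputable def c_fin2_6 : List ℕ × List ℕ :=
  (by
  refine (?fq9048 : ((_root_.Prod.mk (pk61l (fun i1 => (pk61d (nat_lit 3) 
    (nat_lit 0x162a90) i1)) (nat_lit 0) (nat_lit 7) List.nil) (pk61l (fun i1 => (pk61d (nat_lit 19) 
    (nat_lit 0xdd7c16da7ac529589808aa2114db214624272063f9cc78a97a2a2f2b05e218b2021639b2c4fc589bc854d0f5461e8e83ce9279d10df981bf1237c806f5b8de4e1bbe83779466288cc42196fe32dc064b90c963191f43224463e70c7bf18eca31d6c63ab0b62b16c382d7085ad98b2e3164f42c84459010b14e162832c4c021d684344085d410a04213a42e5905b0e0b4b4168f02cc4058b60b144162741ab8035520693c0d20019e6033ae061080bb80176102d3c058ac0b14408ac0113a0210c041a0056400aaa013ec02760021c00276003840069000780003c0004600078000280000) i1)) (nat_lit 0) (nat_lit 96) List.nil)) : List ℕ × List ℕ)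
    = ?xq9048 → (List ℕ × List ℕ)) ?hq9048; (case hq9048 => (set_option maxRecDepth 1000000 in conv => lhs; reduce)); intro _; exact ?xq9048 : List ℕ × List ℕ)

/-- cofactor -/
noncomputable def c_fin2_7 : List ℕ × List ℕ :=
  (by
  refine (?fq9049 : ((_root_.Prod.mk (pk61l (fun i1 => (pk61d (nat_lit 3) 
    (nat_lit 0x15aa41) i1)) (nat_lit 0) (nat_lit 7) List.nil) (pk61l (fun i1 => (pk61d (nat_lit 19) 
    (nat_lit 0x375f058a70b14a56260229b6428c484e7d09c8178ef2f10c599e8b199162d82c59237e246f904deb71bc9d379386ef2cccab1988432f6665ec8cb70996e03258c647d4c8fa18f7e31d5a5ce68b68516b672d5285935cb26b163332c6645898442db084e5109c8168f42d1e0596a0b1320d8941aa9834800675e0ceb8183302ec305d840b7c416f802d1f05a3c0b1a8089d01069020d002aa804ec809060083400d2401a4002770034a00078000080000) i1)) (nat_lit 0) (nat_lit 74) List.nil)) : List ℕ × List ℕ)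
    = ?xq9049 → (List ℕ × List ℕ)) ?hq9049; (case hq9049 => (set_option maxRecDepth 1000000 in conv => lhs; reduce)); intro _; exact ?xq9049 : List ℕ × List ℕ)

/-- cofactor -/
noncomputable def c_fin2_8 : List ℕ × List ℕ :=
  (by
  refine (?fq9050 : ((_root_.Prod.mk (pk61l (fun i1 => (pk61d (nat_lit 3) 
    (nat_lit 0x162cd9) i1)) (nat_lit 0) (nat_lit 7) List.nil) (pk61l (fun i1 => (pk61d (nat_lit 19) 
    (nat_lit 0xe3059bb07375ff5b6bcb6d3d6d7bedaf55b5d1b6b9b6d732c538589c1b13796268ec4cf58981b1301205724047c808b8ff7b1578a2a884543e8a72914e2a29b8c2996852010a3121408427f884fef09fce13bd4276184e8709cfe139f4272684e42c82818fe9b1fcf63df8c75757a2a2f3875e706bce09790d2f2015e3d0bc79178efaf1de5e268bc4bd788daf10d5e218b1af96343ac66958ccab17b162e9ac5ce58b6cb16d562cc2c59358b24b14696280ac4e45899eb130562601eb5e3d5227aa34f5461e9ba3d02c71340e1961bfe437adc6f298de511bca1377d06ef50dde81bbcf377966ec58dd7c1988432f6464e60c965992c6323f2647d4c8fa191273224664168c82b1905531f3863e20c7c218f8331efe63b50c76518ebb31d6263ab4c7561667a2cb5a5935cb26b164402c84459024b202963732c67858ce0b199963322c57458a84b13f1626f2c4d6589a8b13096260164042c53858988b13010d4c21a2442db08502109c818678306605ffa0b964166202cb5858bb0b16c162782c4c8589807b0c0f2d01b7b03624060cc0bb80176102e0e05be20b4f0169182d1f05a3c0b1bc163502c5b058ac0b148162882c4d00690009ec013b801a4001e00034c0069000410004600018000280001)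 i1)) (nat_lit 0) (nat_lit 196) List.nil)) : List ℕ × List ℕ)
    = ?xq9050 → (List ℕ × List ℕ)) ?hq9050; (case hq9050 => (set_option maxRecDepth 1000000 in conv => lhs; reduce)); intro _; exact ?xq9050 : List ℕ × List ℕ)

/-- cofactor -/
noncomputable def c_fin2_9 : List ℕ × List ℕ :=
  (by
  refine (?fq9051 : ((_root_.Prod.mk (pk61l (fun i1 => (pk61d (nat_lit 3) 
    (nat_lit 0x120a51) i1)) (nat_lit 0) (nat_lit 7) List.nil) (pk61l (fun i1 => (pk61d (nat_lit 19) 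
    (nat_lit 0x2dae6589808ff71154421462427f784e4309c81a5a434a7663f9cc7bf18f1531d585e704bcad579582f1de5e218b167162c92c4ca5898ab13010a9a1ea8c3d1d07a058df891bd73379426f270dde51baf83258c647d0c89399055320a063ab0b2d41633c2c66e58a0cb135162662c4c2589804274884e40b13a0b14401a680280004ec00690000300005) i1)) (nat_lit 0) (nat_lit 58) List.nil)) : List ℕ × List ℕ)
    = ?xq9051 → (List ℕ × List ℕ)) ?hq9051; (case hq9051 => (set_option maxRecDepth 1000000 in conv => lhs; reduce)); intro _; exact ?xq9051 : List ℕ × List ℕ)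

/-- cofactor -/
noncomputable def c_fin2_10 : List ℕ × List ℕ :=
  (by
  refine (?fq9052 : ((_root_.Prod.mk (pk61l (fun i1 => (pk61d (nat_lit 3) 
    (nat_lit 0xe0a51) i1)) (nat_lit 0) (nat_lit 7) List.nil) (pk61l (fun i1 => (pk61d (nat_lit 19) 
    (nat_lit 0x214624272684e40b199162cbac4ca58982b13010aa92153542a687aaa8f5469ea8c3d3747a418f4749e7673cec479d28f3a49bf1237c826f5bcde5f9bca2379426f274de4e1bbe8377966ef28dd8d9bb16375fc6ebf4c96319212323f2647d0c8a019127320ac64154c82898fa131f3863e10c7bf98f7e31da863b3cc75b98eb631d64596a0b26d964092c80a58cc8b133162601644a2c88059040b207162a62c538589b0b1351626221df443b00875f10d5621a3843468868810bb22175042de085bb10b6e214082e6805bfe0b7ca16f842df005b130b61e1697c2d21059920b31a166202cba859740b2de165a82c5b0589e0b1300c21017db82fb205f320be5417ca02ec805d840b84c170702dfa05bec0b7d416f882d4605a520b4a0163502c560589a0b13001a40027b004ee00690006b800d3001a400028000300005) i1)) (nat_lit 0)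 (nat_lit 134) List.nil)) : List ℕ × List ℕ)
    = ?xq9052 → (List ℕ × List ℕ)) ?hq9052; (case hq9052 => (set_option maxRecDepth 1000000 in conv => lhs; reduce)); intro _; exact ?xq9052 : List ℕ × List ℕ)

/-- cofactor -/
noncomputable def c_fin2_11 : List ℕ × List ℕ :=
  (by
  refine (?fq9053 : ((_root_.Prod.mk (pk61l (fun i1 => (pk61d (nat_lit 3) 
    (nat_lit 0x160c90) i1)) (nat_lit 0) (nat_lit 7) List.nil) (pk61l (fun i1 => (pk61d (nat_lit 19) 
    (nat_lit 0x6ebe0b6d3d6294ac4c0455e28aa2114db214cb428c484fe4c82817a2a2f3825e218b1cd9627e2c4de58980854d0f3a49e74437fc86fc48df201bc9c3779464e60c963191f4320a063df8c75b1667a2cb5059010b1991629c2c506589f8b1300875a10d10216d84274884e40b96416c382cb5058a20b13a16260183302c56058a201068013b000d2000780008c000280000) i1)) (nat_lit 0) (nat_lit 61) List.nil)) : List ℕ × List ℕ)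
    = ?xq9053 → (List ℕ × List ℕ)) ?hq9053; (case hq9053 => (set_option maxRecDepth 1000000 in conv => lhs; reduce)); intro _; exact ?xq9053 : List ℕ × List ℕ)

/-- cofactor -/
def c_fin2_12 : List ℕ × List ℕ := (beta% delta% lq26f63394d3 fun a b _ d f =>
 (f (a 1<|a 2<|a 2<|a 3<|a 0<|a 5<|a 4<|b) (let e:=(let e:=(let e:=(d 181470<|d 181500<|d 272160<|d 272161<|
 d 362880<|b);
 (d 102065<|d 102070<|d 124740<|d 181440<|e));
 (let e:=(d 90780<|d 90930<|d 90935<|d 91140<|e);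
 (d 90720<|d 90721<|
 d 90726<|d 90730<|e)));
 (let e:=(let e:=(d 34025<|d 34030<|d 45360<|d 56705<|e);
 (d 11345<|d 22680<|d 22685<|d 22690<|e));
 (let e:=(d 60<|d 630<|d 635<|d 11340<|e);
 (a 0<|a 5<|a 6<|a 30<|e))))))

/-- cofactor -/
noncomputable def c_fin2_13 : List ℕ × List ℕ :=
  (by
  refine (?fq9054 : ((_root_.Prod.mk (pk61l (fun i1 => (pk61d (nat_lit 3) 
    (nat_lit 0x122a50) i1)) (nat_lit 0) (nat_lit 7) List.nil) (pk61l (fun i1 => (pk61d (nat_lit 19) 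
    (nat_lit 0x16da7adae658a52902b91fee22a884543e84fe4d2d21a53b320a063f9cc7bf18eac2f4545e704bc431639b2c66458980854d0f5461e8e83ce8871340e1961bbca3310865ec8c8fa19122320a063ac4b26b164042c678589f8b1328b20210d102139030cf060cc0bff4172c82d870596a07b0c0f2d01b7b03624060cc0b7c0168f0034d0069000a00000f00005) i1)) (nat_lit 0) (nat_lit 59) List.nil)) : List ℕ × List ℕ)
    = ?xq9054 → (List ℕ × List ℕ)) ?hq9054; (case hq9054 => (set_option maxRecDepth 1000000 in conv => lhs; reduce)); intro _; exact ?xq9054 : List ℕ × List ℕ)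

/-- cofactor -/
def c_fin2_14 : List ℕ × List ℕ := (beta% delta% lq26f63394d3 fun a b _ _ f =>
 (f (a 0<|a 0<|a 2<|a 0<|a 0<|a 3<|a 4<|b) (a 0<|a 30<|a 60<|a 11340<|a 22680<|a 34020<|a 90780<|a 181440<|a 181470<|a 181500<|a 272160<|a 362880<|b)))

/-- cofactor -/
noncomputable def c_fin2_15 : List ℕ × List ℕ :=
  (by
  refine (?fq9055 : ((_root_.Prod.mk (pk61l (fun i1 => (pk61d (nat_lit 3) 
    (nat_lit 0x163d1a) i1)) (nat_lit 0) (nat_lit 7) List.nil) (pk61l (fun i1 => (pk61d (nat_lit 19) 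
    (nat_lit 0x3760e6ebfedd7c16d89adaf7d9862b14e162706c4d1d899e8ffe91fef6311845ad38b59d14f1a29d6c53a88a71514dda29b94536c87a8d0d80a1743c281584fef09dea13b0c274384e7d09c8a139031e4d63c90c78c18f17b1e2b63b28c75d98eaeb1d595ffa0be8c17d0bafa135f118be1cd7c372f3a05e562bcac178efaf1de5e2ccbc5497895af12a5e236bc4497886adae65a744b4e1166f22cdcb59b8eb3449667caccf459846b308963aa2c68758ccab199162daac59858a70b1469627eac4df589bcb133d62651e8e93ce8a79d10e26a9c4d1387fe70cb0e12d9be5e37b226f630deba1bd7337adc6f284de4e1bbcf3762e6ec58dd7f1baf9375f067f98ceb81988932f6e65ecccbd9196fe32dc264848c8fc991f43228a644a0c83719056320a063e98c7c498f8831f0863dfcc77918eed31dd063b3cc75d98eb631d6263ab0bcac172c82e2485b428b61c96b842d6d65ad98b55916a992d52a5a71cb4e1969c22c9ac5909cb211164052c67858ce0b199162d82c57458a74b14e1627f2c4fc589bcb133962652c4c458980596a8b20311d8223af446f788dea11a322346044278884a11064220c444160875f10eb621a984344885d410b762139442720641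90c82a18d0c31a1062700c3461867c306885ffb0bb44172dc2e5985bfe0b7c216cb02d8a05a640b4b41691c2d2305a420b482168f42d1e059920b31a166202cba859700b2de165ac2c5d858b70b144162742c4c8589807cec0f2d01e0003b1006fcc0df341be4837c806e280dbec1b7b8362906ae00d54c1a40833b3062ac0c22418420306b060ce0bedc17cd02f9905f2a0be50177282ecc05d840b860170702dfb05bec0b7d416f882d4605a520b490169182c92059100b1ac162d82c560589a0b1300bf401158020d003e58076200b7c0155602aa804ec0090b0120e02418041a8083400f0001d9c021c0036b0069200d20014a0027c004f6006a400d2800f0001b800360006b800d2000f000104001e000230003c0001c000280000) i1)) (nat_lit 0) (nat_lit 310) List.nil)) : List ℕ × List ℕ)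
    = ?xq9055 → (List ℕ × List ℕ)) ?hq9055; (case hq9055 => (set_option maxRecDepth 1000000 in conv => lhs; reduce)); intro _; exact ?xq9055 : List ℕ × List ℕ)

/-- the identity -/
def N_fin2 : List (List (List ℕ × List ℕ)) :=
  (beta% delta% lq26f63394d3 fun a b c _ _ =>
 (let e:=(let e:=(let e:=(c (a a_p<|a a_p<|a a_p<|a a_q<|a a_nK<|b)<|
 c (a a_p<|a a_p<|a a_q<|a a_q<|a a_o<|a a_o<|b)<|
 c (a a_p<|a a_p<|a a_q<|a a_q<|a a_nz<|a a_o<|b)<|
 c (a a_p<|a a_q<|a a_q<|a a_nT2<|b)<|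
 c (a a_p<|a a_p<|a a_q<|a a_q<|a a_q<|b)<|
 c (a a_p<|a a_p<|a a_q<|a a_q<|a a_nW0<|a a_o<|b)<|
 c (a a_p<|a a_p<|a a_q<|a a_q<|a a_nK<|b)<|b);
 (c (a a_p<|a a_p<|a a_q<|a a_nK<|b)<|
 c (a a_p<|a a_p<|a a_q<|a a_nK<|b)<|
 c (a a_p<|a a_p<|a a_q<|a a_nW2<|a a_o<|b)<|
 c (a a_p<|a a_p<|a a_q<|a a_q<|a a_r<|b)<|
 c (a a_p<|a a_p<|a a_p<|a a_q<|a a_q<|b)<|
 c (a a_p<|a a_p<|a a_p<|a a_q<|a a_nW0<|a a_o<|b)<|
 e));
 (let e:=(c (a a_p<|a a_q<|a a_q<|a a_o<|a a_r<|b)<|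
 c (a a_p<|a a_q<|a a_nW2<|a a_o<|b)<|
 c (a a_p<|a a_q<|a a_q<|a a_r<|b)<|
 c (a a_p<|a a_p<|a a_q<|a a_q<|b)<|
 c (a a_p<|a a_p<|a a_q<|a a_q<|b)<|
 c (a a_p<|a a_p<|a a_q<|a a_nW0<|a a_o<|b)<|
 c (a a_p<|a a_p<|a a_q<|a a_nW0<|a a_o<|b)<|
 e);
 (c (a a_p<|a a_nK<|a a_nW2<|b)<|
 c (a a_p<|a a_p<|a a_nK<|a a_nW0<|b)<|
 c (a a_p<|a a_p<|a a_nK<|a a_nW2<|b)<|
 c (a a_p<|a a_p<|a a_q<|a a_nK<|a a_o<|b)<|
 c (a a_p<|a a_q<|a a_nW0<|a a_r<|b)<|
 c (a a_p<|a a_q<|a a_nW2<|a a_r<|b)<|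
 e)));
 (let e:=(let e:=(c (a a_p<|a a_q<|a a_nW0<|a a_nW2<|a a_o<|b)<|
 c (a a_p<|a a_q<|a a_nZ<|a a_o<|b)<|
 c (a a_p<|a a_q<|a a_nZ<|a a_nz<|b)<|
 c (a a_p<|a a_p<|a a_q<|a a_nZ<|a a_o<|b)<|
 c (a a_p<|a a_q<|a a_nZ<|a a_nW0<|b)<|
 c (a a_p<|a a_q<|a a_nZ<|a a_nW2<|b)<|
 c (a a_p<|a a_q<|a a_q<|a a_nZ<|a a_o<|b)<|
 e);
 (c (a a_p<|a a_nW0<|a a_nz<|a a_nW2<|b)<|
 c (a a_p<|a a_nz<|a a_nW2<|a a_nW2<|b)<|
 c (a a_p<|a a_q<|a a_nz<|a a_nW2<|a a_o<|b)<|
 c (a a_p<|a a_p<|a a_nW0<|a a_nW2<|a a_o<|b)<|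
 c (a a_p<|a a_nW0<|a a_nW0<|a a_nW2<|b)<|
 c (a a_p<|a a_nW0<|a a_nW2<|a a_nW2<|b)<|
 e));
 (let e:=(c (a a_p<|a a_nW2<|a a_nW2<|a a_o<|b)<|
 c (a a_p<|a a_nW2<|a a_nW2<|a a_o<|b)<|
 c (a a_p<|a a_q<|a a_nW2<|a a_o<|a a_o<|b)<|
 c (a a_nz<|a a_nW2<|a a_nW2<|b)<|
 c (a a_nz<|a a_nW2<|a a_nW2<|b)<|
 c (a a_p<|a a_nW0<|a a_nz<|a a_nW2<|b)<|
 e);
 (a (a a_p<|a a_q<|a a_nW2<|b)<|
 a (a a_p<|a a_p<|a a_q<|a a_nW0<|b)<|
 a (a a_p<|a a_p<|a a_q<|a a_nW2<|b)<|
 a (a a_p<|a a_p<|a a_q<|a a_q<|a a_o<|b)<|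
 a (a a_p<|a a_nW0<|a a_nW2<|a a_o<|b)<|
 a (a a_p<|a a_nW0<|a a_nW2<|a a_o<|b)<|
 e)))))

/-- the certificate -/
noncomputable def C_fin2 : List (List (List ℕ × List ℕ)) :=
  (beta% delta% lq26f63394d3 fun a b _ _ _ =>
 (a (a R0<|a c_fin2_0<|b)<|
 a (a R1<|a c_fin2_1<|b)<|
 a (a R2<|a c_fin2_2<|b)<|
 a (a R3<|a c_fin2_3<|b)<|
 a (a R4<|a c_fin2_4<|b)<|
 a (a R5<|a c_fin2_5<|b)<|
 a (a R6<|a c_fin2_6<|b)<|
 a (a R7<|a c_fin2_7<|b)<|
 a (a R8<|a c_fin2_8<|b)<|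
 a (a R9<|a c_fin2_9<|b)<|
 a (a R10<|a c_fin2_10<|b)<|
 a (a R11<|a c_fin2_11<|b)<|
 a (a R12<|a c_fin2_12<|b)<|
 a (a R13<|a c_fin2_13<|b)<|
 a (a R14<|a c_fin2_14<|b)<|
 a (a R15<|a c_fin2_15<|b)<|b))

theorem check_fin2 : check Rs (N_fin2 ++ C_fin2) = true := by decide +kernel

/-- cofactor -/
noncomputable def c_fin3_0 : List ℕ × List ℕ :=
  (by
  refine (?fq9056 : ((_root_.Prod.mk (pk61l (fun i1 => (pk61d (nat_lit 3) 
    (nat_lit 0x123a99) i1)) (nat_lit 0) (nat_lit 7) List.nil) (pk61l (fun i1 => (pk61d (nat_lit 19) 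
    (nat_lit 0x5b69eb6bd564402c4c04815c9011516b3a2a2e4538f8a71514dc629b6435e485ea90ba0a1462427f284e8709cfa1392c272169690c82818f7e31d585f0dcbcb39795aaf2b15e3c6bc4bd788b2f1115e218b4e11667a2cc2758e6cb1a096334ac5b558b2eb138d626f2c4ca5898cb130562601e7453ce8871688e12d1be4037ae66f5bcde5d1bc9c3779e6ec58cff319f1433c8466558cbd9196e032c5865838c8fa191403224664488c82818f8331efe63df8c76798eb631d6463ac4bd15179582f10c5cb20b8fb171242d8705aac8b4e3969c22cb50593d0b211164042c68258ce0b199963322c53858a0cb137962612c4c02c88059018b2021626a2311843bc0875f10d4c21a2042ea085b7109d2183302ffd05cb70b966172c82df285be00b65816c3c2d8705a5a0b478166342cb8058b60b144162782c4e85899079680ec401b8a0349e061080c19817cc82ee005d8e0bb0816fa82df005a460b47c163502c56058a40b1440be50113a0210c041a007cb009f6010a401d9c03b1003660069a00d24013d80277004ec0070800d4801a5001c200360006b800d3001a4000f0000f0000f0001400018000280000) i1)) (nat_lit 0) (nat_lit 181) List.nil))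 : List ℕ × List ℕ)
    = ?xq9056 → (List ℕ × List ℕ)) ?hq9056; (case hq9056 => (set_option maxRecDepth 1000000 in conv => lhs; reduce)); intro _; exact ?xq9056 : List ℕ × List ℕ)

/-- cofactor -/
noncomputable def c_fin3_1 : List ℕ × List ℕ :=
  (by
  refine (?fq9057 : ((_root_.Prod.mk (pk61l (fun i1 => (pk61d (nat_lit 3) 
    (nat_lit 0x163ad1) i1)) (nat_lit 0) (nat_lit 7) List.nil) (pk61l (fun i1 => (pk61d (nat_lit 19) 
    (nat_lit 0x1baf82c53858a52b13b5626f2c4cf58985b1303154422a21c543f8a75114db614cb4282e8502109fce13f94277a84ec309d7213a44274384e7d09caa1393427205e8a8bce1d79c1af3825e56abcac57900af1fc5e3c8bc77978a42f12f5e224bc44578862c75458ccab199162e72c5b058b38b165d62832c4e8589c6b137d626f2c4ca5898ab1300f4ec1e9bb3d37471688e2681bf1337cbc6f914df209bd8c37ae66f5bcde5d1bca1377da6efa0dde81bbcf377966ebe4cff319f1433ae0668a0cbe81960f325c864b18c909191f9322806449cc8399905a31f4263e70c7c218f8331d6c63ac4c75698eac2f5f8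5d1b0b9dc1739a2e3ec5b770b68516c562d7085aac8b4e1165ad2cb52593e4b27a164db2c84459014b1aa9633c2c67058cdcb199963322c54c58a70b144162832c4fe589acb135162652c4c22c54c58a70b1361626a21aac43530868e10d1a21a2442ec885d410b78216ec42db0850710a04213a84274884e40c33c183302ffd05bfe0b7c016c4c2d8705a5f0b4b4169082d1e859880b2d4163002c5d858a30b144162782c4e8589807b0c0f2d01b7b035700693c0ceb8184202f9505f280bb94170982e0e05bec0b7d416f802d28058d60b1a8162b02c510589a04560089d01086020d002b2004fb009d80124802148041a0078000ec4010e001b3003490069000a50013d8027600384006a4007a800f0001b00035c00690005a0008c000f0000f8000b0001400018000080000) i1)) (nat_lit 0) (nat_lit 227) List.nil)) : List ℕ × List ℕ)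
    = ?xq9057 → (List ℕ × List ℕ)) ?hq9057; (case hq9057 => (set_option maxRecDepth 1000000 in conv => lhs; reduce)); intro _; exact ?xq9057 : List ℕ × List ℕ)

/-- cofactor -/
noncomputable def c_fin3_2 : List ℕ × List ℕ :=
  (by
  refine (?fq9058 : ((_root_.Prod.mk (pk61l (fun i1 => (pk61d (nat_lit 3) 
    (nat_lit 0x19ac99) i1)) (nat_lit 0) (nat_lit 7) List.nil) (pk61l (fun i1 => (pk61d (nat_lit 20) 
    (nat_lit 0x84e5e84e407182c6f3426ecee6ecd06ecb26ebfe6ebe56ebe05b6bc5b5cc591d2590e258b4258b2458a8e58a7558a70589a35899e5898a5898558980455e2455104545c454434543e4537142f7242e8242900428c942815427fc42725427202f4542f2b02f1112ccf92c7362c6a02c6872c6692c6642c5b52c5b02c4de2c4cf2c4ca2c4c62c4c52c4c01bfe41bf131be411be401bd6f1bd6e1bc9d1bbca1baf919a28197b3197b219398192c6191f4191231905118f7f18eb118eac1746c1739b1739a171f61712516c3916c3816b6716a9516a94169c3165a9164d616404163501633c163371626f1626a16266162611626008688085b7085b6084e505b0e05a3d05a3c0596b0596a058990362403553035520348103480033af03138030670306602f9502f9402ec302ec202df102df002d1f02d1e02c4d0120c0113b0113a0106900b7c00aab00aaa009d9009d8009070090600835003480027700276001a5000dc0001e0000f0000a000060000500000)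 i1)) (nat_lit 0) (nat_lit 148) List.nil)) : List ℕ × List ℕ)
    = ?xq9058 → (List ℕ × List ℕ)) ?hq9058; (case hq9058 => (set_option maxRecDepth 1000000 in conv => lhs; reduce)); intro _; exact ?xq9058 : List ℕ × List ℕ)

/-- cofactor -/
noncomputable def c_fin3_3 : List ℕ × List ℕ :=
  (by
  refine (?fq9059 : ((_root_.Prod.mk (pk61l (fun i1 => (pk61d (nat_lit 3) 
    (nat_lit 0x128a91) i1)) (nat_lit 0) (nat_lit 7) List.nil) (pk61l (fun i1 => (pk61d (nat_lit 19) 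
    (nat_lit 0x5b69e902b92022a2a884543e851890a0421390c272064140c7f398f7e31e2a5e56abc78d78ef2c73658cd2b199162daac5b058b2eb16496271ac4c1589807ad78f5461e9ba3ce886fc48df201bd7337adc6ef3cdd7c19122320aa63e0cc756165a82c81c59024b202163552c66e58a70b1419626a2c4ca58984b1300dd7c16260216d84281084e90b2d416260168f02c4c004ec006b800690001f0001400014000080000) i1)) (nat_lit 0) (nat_lit 69) List.nil)) : List ℕ × List ℕ)
    = ?xq9059 → (List ℕ × List ℕ)) ?hq9059; (case hq9059 => (set_option maxRecDepth 1000000 in conv => lhs; reduce)); intro _; exact ?xq9059 : List ℕ × List ℕ)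

/-- cofactor -/
noncomputable def c_fin3_4 : List ℕ × List ℕ :=
  (by
  refine (?fq9060 : ((_root_.Prod.mk (pk61l (fun i1 => (pk61d (nat_lit 3) 
    (nat_lit 0x121a91) i1)) (nat_lit 0) (nat_lit 7) List.nil) (pk61l (fun i1 => (pk61d (nat_lit 19) 
    (nat_lit 0x2daf5590e2b133d62602404547fb88a8b9150fa29c7c538a85ea909fca13a1c273e84e4309c818fe731efc63c54c756179c12f1fc5e3bcbc4bd78952f1165e222b34496613acc2258e6cb1a096334ac5b558b24b138d626f2c4ca5898cb131562601ea8c3d3747a3a0f3a29e744379746f284dd7e9baf93258c64488c82a9905031f3863dfcc7bf18ecf31d9463ad8c75918ead2d38e5a708b2d4164f42c9ae59358b207164052c6a058cf0b19c163322c53858a0cb13516260164402c80c43bc0875b10eb421a9843448868810ba8216dc427205be00b65816c3c2d1e0598d0b310165c02cb58589e0b13a162642c4c02fb205c1c0b7d416f882d1e058d40b158162902c5100ece01d8801a400277004ec006b800d4801a5001e000370006c000d7001a4000f0000300005) i1)) (nat_lit 0) (nat_lit 126) List.nil)) : List ℕ × List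 ℕ)
    = ?xq9060 → (List ℕ × List ℕ)) ?hq9060; (case hq9060 => (set_option maxRecDepth 1000000 in conv => lhs; reduce)); intro _; exact ?xq9060 : List ℕ × List ℕ)

/-- cofactor -/
noncomputable def c_fin3_5 : List ℕ × List ℕ :=
  (by
  refine (?fq9061 : ((_root_.Prod.mk (pk61l (fun i1 => (pk61d (nat_lit 3) 
    (nat_lit 0x123a90) i1)) (nat_lit 0) (nat_lit 7) List.nil) (pk61l (fun i1 => (pk61d (nat_lit 19) 
    (nat_lit 0x16d732c4c04808a8ff7114db2139f31fce63df8c78a98eac2f3825e218b308962c92c4fc42a688518909c81ea8c3d3747a058e2d11c4d037e246ebf4dd7c19fe633e2867908ceb8196e031efc63ac4c75617a2a2f2b05e218b964171242d8705ad98b54a165a82c9b659358b2071633c2c66e58cc8b14e1627e2c4d458980589a8b1301188c21d684344085b6109d221390313805be00b61c168f02c510589d07b0c0ec401b1203552069000ceb817ca02d1e058d40b1440be50113a01f2c0241803b10027b004ec006b8006e000d70007800078000500005) i1)) (nat_lit 0) (nat_lit 91) List.nil)) : List ℕ × List ℕ)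
    = ?xq9061 → (List ℕ × List ℕ)) ?hq9061; (case hq9061 => (set_option maxRecDepth 1000000 in conv => lhs; reduce)); intro _; exact ?xq9061 : List ℕ × List ℕ)

/-- cofactor -/
noncomputable def c_fin3_6 : List ℕ × List ℕ :=
  (by
  refine (?fq9062 : ((_root_.Prod.mk (pk61l (fun i1 => (pk61d (nat_lit 3) 
    (nat_lit 0x162a90) i1)) (nat_lit 0) (nat_lit 7) List.nil) (pk61l (fun i1 => (pk61d (nat_lit 19) 
    (nat_lit 0x375f05b69eb6b996260229b64272063f9cc7bf18f152f4545e704bcac164042c592589f8b13790a9a21462427207aa30f4dd1e8e83d02c79d24df981bf1237cbc6f630de5d1bb16375fa6ebe0cbe8197b232dc065838c8a019122320dc64140c7ce18f7e31d6c63ab0b9dc1739a2e2845c490b62b16c382d7085ad98b55916a942d3c05a708b2e3164d62c80858a70b141962601626a2c4c043ad085d410a04213a42e5905be00b4b4166202cb5058b60b1300d5c01aa90349e069000cf3019d703084060cc0bec817ca02ee005c1c0b4f0163502c56058a20b13008ac0113a0210c041a0056400aaa013ec02760049200906010a4020d0020d0034800528009d800e1001a4001a4000f0001180005)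 i1)) (nat_lit 0) (nat_lit 114) List.nil)) : List ℕ × List ℕ)
    = ?xq9062 → (List ℕ × List ℕ)) ?hq9062; (case hq9062 => (set_option maxRecDepth 1000000 in conv => lhs; reduce)); intro _; exact ?xq9062 : List ℕ × List ℕ)

/-- cofactor -/
noncomputable def c_fin3_7 : List ℕ × List ℕ :=
  (by
  refine (?fq9063 : ((_root_.Prod.mk (pk61l (fun i1 => (pk61d (nat_lit 3) 
    (nat_lit 0x15aa41) i1)) (nat_lit 0) (nat_lit 7) List.nil) (pk61l (fun i1 => (pk61d (nat_lit 19) 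
    (nat_lit 0x6ebe0b14e16294a2a1f4536c8502109cfa13902f1de5e218b33d163322c5b0589bc6fc48df209be4037adc66558cc42997b232dc065838c8fa19122320a264140c7bf98eca2e5925c7dcb892971242da145b0e0b5b396b662d3c05a70cb33d164d72c9ac59014b202163332c664589f8b1309626010b6c21394427205a3d0b478165a82c4c8362506aa60d20019d7833ae060cc0b7c416f802c6a0589a0b130089d01069020d002aa804ec809d80120c020d4041a00348004ec0069400690001e) i1)) (nat_lit 0) (nat_lit 81) List.nil)) : List ℕ × List ℕ)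
    = ?xq9063 → (List ℕ × List ℕ)) ?hq9063; (case hq9063 => (set_option maxRecDepth 1000000 in conv => lhs; reduce)); intro _; exact ?xq9063 : List ℕ × List ℕ)

/-- cofactor -/
noncomputable def c_fin3_8 : List ℕ × List ℕ :=
  (by
  refine (?fq9064 : ((_root_.Prod.mk (pk61l (fun i1 => (pk61d (nat_lit 3) 
    (nat_lit 0x162cd9) i1)) (nat_lit 0) (nat_lit 7) List.nil) (pk61l (fun i1 => (pk61d (nat_lit 19) 
    (nat_lit 0x7182cdd8396daf2db4f5b5efb6b9b62706c4de58985902b92023e4045c808a8ff7b1fee63fdc455e28a8f5150fe29ca4538a851890a0ba1408427f384ef509d8613ae4273f84e7d09caa1392c272064140c7f4d8fe7b1f0163dfac7bf18f17b1e2b63abac75658eac2f3825e434bc80578f42f1e45e268bc4bd78952f11b5e224bc43164042c66e58ccab174d62e72c59858b2eb164d628d2c501589beb13796267ac4cb58994b130562601eb5e3d5227aa34f4df9e9bb3d1da7a3a4f4741e744387fc6ff90df229be4137ae66f5bcde531bca2379426f274de4e1bbe83779e6ec08dd7f1bafd375f267f98ceb81988432f6465b80cb07192cb3258c647d0c8939905131f1063e10c7bf18ee831da863b28c75d98eb631d6463ab0b26b164222c81c59010b1b9963502c67858cccb199162ba2c54258a70b1379626b2c4ca2c80858a70b1311626021a984344885d410b6e2140830cf060cc0bff4172c82df005a5a0b47a168f02c5d858b60b13c0f6181e5a036f606c480d5481a4002ee005d840b7c0169e02d2305a3e0b1bc162d82c56058a20b1341626002760034a00690006e000d8001ae0034c0069000410004600028000080000)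 i1)) (nat_lit 0) (nat_lit 185) List.nil)) : List ℕ × List ℕ)
    = ?xq9064 → (List ℕ × List ℕ)) ?hq9064; (case hq9064 => (set_option maxRecDepth 1000000 in conv => lhs; reduce)); intro _; exact ?xq9064 : List ℕ × List ℕ)

/-- cofactor -/
noncomputable def c_fin3_9 : List ℕ × List ℕ :=
  (by
  refine (?fq9065 : ((_root_.Prod.mk (pk61l (fun i1 => (pk61d (nat_lit 3) 
    (nat_lit 0x120a59) i1)) (nat_lit 0) (nat_lit 7) List.nil) (pk61l (fun i1 => (pk61d (nat_lit 19) 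
    (nat_lit 0x16d7322a884536c84fef09c86139034b4863f9cc78a98eac2f2b55e3c6bc779639b2c66958cc8b165d62c92c4de58994b13156260a1534428c484e40f5461e9ba3d02c6fc48deb99bc9c3779e647d0c82a9905031f0663ab0b26d964d62c81259010b1a0963372c66458a0cb1379626a2c4cc589844274884e40b1300b13000d4801a4001c20035c000780006) i1)) (nat_lit 0) (nat_lit 59) List.nil)) : List ℕ × List ℕ)
    = ?xq9065 → (List ℕ × List ℕ)) ?hq9065; (case hq9065 => (set_option maxRecDepth 1000000 in conv => lhs; reduce)); intro _; exact ?xq9065 : List ℕ × List ℕ)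

/-- cofactor -/
noncomputable def c_fin3_10 : List ℕ × List ℕ :=
  (by
  refine (?fq9066 : ((_root_.Prod.mk (pk61l (fun i1 => (pk61d (nat_lit 3) 
    (nat_lit 0xe0a51) i1)) (nat_lit 0) (nat_lit 7) List.nil) (pk61l (fun i1 => (pk61d (nat_lit 19) 
    (nat_lit 0x427f284e4b09c8613902c73658b38b165d62c9ac4ca5898cb13050aa92153542a68852010a31a14624275c84e4509c81eaaa3d51a7aa30f4ec1e9bb3d20c7a3a4f4741e8343d02e7a058f3b39e74a3ce9279d14f3a21bf1237cbc6f630deb79bcbf379746f288de509bc9c377da6ef40dde79bbcb376366ebf8dd7e9baf9375f0647e4c8a01912732246641ccc83719051320a063e84c7c218f8331efe63b50c76518eb731d6c63ab0b26b163382c664589a8b1300b225164402c82059038b13110efa21d8043af8868810b6e216d84281084e40b9a016f942df085be00b66216cb02d8a05b130b4be169682d21059920b2ea165d02cb80596f0b2d6165a82c60058bb0b146162882c4f0589905f6e0bb94170702dfa05bea0b7c4169e02d23058e80b1bc162b82c510034a00690006e000d8001a600348000300000) i1)) (nat_lit 0) (nat_lit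 133) List.nil)) : List ℕ × List ℕ)
    = ?xq9066 → (List ℕ × List ℕ)) ?hq9066; (case hq9066 => (set_option maxRecDepth 1000000 in conv => lhs; reduce)); intro _; exact ?xq9066 : List ℕ × List ℕ)

/-- cofactor -/
noncomputable def c_fin3_11 : List ℕ × List ℕ :=
  (by
  refine (?fq9067 : ((_root_.Prod.mk (pk61l (fun i1 => (pk61d (nat_lit 3) 
    (nat_lit 0x161c90) i1)) (nat_lit 0) (nat_lit 7) List.nil) (pk61l (fun i1 => (pk61d (nat_lit 19) 
    (nat_lit 0x1baf82db4f5b5ccb13011578a29b6427f264140c7f398f7e2f3825e560bc779639b2c66458b24b13f1626f2c4c042a688518909c81e8e83d02c79d24dff21be4037adc6ebf4dd7c196e032c1c64488c82818eb631d58599e8b2d4164d62c53858a0cb13f162601626a2c4c043ad085b6109d2213902e5905be00b4780bb0816f802c56058a20106801a4000d2000780008c000280000) i1)) (nat_lit 0) (nat_lit 63) List.nil)) : List ℕ × List ℕ)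
    = ?xq9067 → (List ℕ × List ℕ)) ?hq9067; (case hq9067 => (set_option maxRecDepth 1000000 in conv => lhs; reduce)); intro _; exact ?xq9067 : List ℕ × List ℕ)

/-- cofactor -/
def c_fin3_12 : List ℕ × List ℕ := (beta% delta% lq26f63394d3 fun a b _ d f =>
 (f (a 1<|a 2<|a 2<|a 3<|a 1<|a 5<|a 3<|b) (let e:=(let e:=(let e:=(d 181445<|d 181450<|d 181470<|d 181500<|d 272160<|d 272161<|b);
 (d 124740<|d 124745<|d 136080<|
 d 181440<|d 181441<|e));
 (let e:=(d 91145<|d 102070<|d 113400<|d 113405<|d 115290<|e);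
 (d 90720<|d 90721<|d 90726<|d 90780<|d 90940<|e)));
 (let e:=(let e:=(d 34020<|d 34025<|d 34030<|d 45365<|
 d 56705<|e);
 (d 11340<|d 11345<|d 11350<|d 22680<|d 22685<|e));
 (let e:=(d 60<|d 220<|d 420<|d 425<|d 630<|e);
 (a 0<|a 5<|a 6<|a 10<|a 30<|e))))))

/-- cofactor -/
noncomputable def c_fin3_13 : List ℕ × List ℕ :=
  (by
  refine (?fq9068 : ((_root_.Prod.mk (pk61l (fun i1 => (pk61d (nat_lit 3) 
    (nat_lit 0x122a58) i1)) (nat_lit 0) (nat_lit 7) List.nil) (pk61l (fun i1 => (pk61d (nat_lit 19) 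
    (nat_lit 0x16da7adae658980902b92022a2a1f4536c8518909fc9a5a4320a063df8c756162c921534428c484e40f5461e9ba3d1d07a058e1ff1be40377946ebe0cff319d703310865ec8cb701960e3224464140c75898eac2c9b659024b202163412c66e589f8b1378b2021626021a2030cf060cc0bff4172c82df005b0e0b478162742c4c03d86079680dbd81b1203552069000bb0816f802d1e058a20b13000d2000e1001ae00078000780005) i1)) (nat_lit 0) (nat_lit 71) List.nil)) : List ℕ × List ℕ)
    = ?xq9068 → (List ℕ × List ℕ)) ?hq9068; (case hq9068 => (set_option maxRecDepth 1000000 in conv => lhs; reduce)); intro _; exact ?xq9068 : List ℕ × List ℕ)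

/-- cofactor -/
def c_fin3_14 : List ℕ × List ℕ := (beta% delta% lq26f63394d3 fun a b _ _ f =>
 (f (a 0<|a 0<|a 2<|a 0<|a 0<|a 3<|a 4<|b) (a 0<|a 30<|a 60<|a 34020<|a 90720<|a 90780<|a 181440<|a 181470<|a 181500<|a 272160<|a 362880<|b)))

/-- cofactor -/
noncomputable def c_fin3_15 : List ℕ × List ℕ :=
  (by
  refine (?fq9069 : ((_root_.Prod.mk (pk61l (fun i1 => (pk61d (nat_lit 3) 
    (nat_lit 0x163d1a) i1)) (nat_lit 0) (nat_lit 7) List.nil) (pk61l (fun i1 => (pk61d (nat_lit 19) 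
    (nat_lit 0x1bb07375f05b626b6c116d7bedae8d9862b308964402c538589c1b130b1ffd23fdec62308b5a716b3a29e3453ad8a75114e2a29bb453728a6d90f51a1af242ea085d0f0a05613fbc277a84ec309d7213954272584e44c79358f2431e3063c5ec78ad8eca31d7b63abcc75658eac2ffd05f460be85d7d09af95e5f28abe5017c462f3a05e562bcac17900af1e45e3c6bc77978a92f12f5e256bc4a9788daf1125b5ccb51d16a2b2cd12599f2b33d166202cc2358d04b16c162c9ac53858a34b13f5627e2c4df5899eb13196262ac4c23d1d27a05ce26a9c4d13880670cc4e1961c25b384b46f978dec89bd7437ae66f5b8de5f9bcba379446efb4ddf41bbd0377946ec58dd7f1bafd375f26ebe0cff319d703314466214cbdb996fe32dca6584ccb07991f9323e864500c8939905631f4c63e24c7c418f8431efe63bc8c76798ecb31d7663adcc75b18eb12f2b05cb20b90a171f62da145b0e4b5c216b6b2d6ce5aac8b54a96a942d38e5a70cb4e1165c62c9ae59358b216164092c80a58d68b1aa9633d2c66e58cccb199162d82c57458a74b13f9627e2c4de589acb135162672c4cc58988596a88ec111d7a237ac46f50884f11094220c844188882c10efa21de043b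00875b10eb421aac43470868810ba8216dc42db084e50c8321905431a3863420c4e0186f030cf060ea0c19a183302ed105cd00b96e172cc2e0185be60b66216c4c2d8785a640b48e169182d21059740b2e0165bc2cb58596a0b180162dc2c518589d07cec0f9601e0003b1006fcc0df201b8a036fb06c840d8a41ab80355306aa40d2141a4083480061120c21017ca82f9405dca0bb30176182e0e05bf40b7c016a302d3c05a520b490168f82ca6059240b220163582c6a058b60b15c162902c4d0589805fa00be501158020d003ed0076200ac80155e02aac0555009d8012480241804290083500ece01d8801a400277003980070800d2800fa001ea00374006b8007800082000f000118001e0001600028000380000) i1)) (nat_lit 0) (nat_lit 307) List.nil)) : List ℕ × List ℕ)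
    = ?xq9069 → (List ℕ × List ℕ)) ?hq9069; (case hq9069 => (set_option maxRecDepth 1000000 in conv => lhs; reduce)); intro _; exact ?xq9069 : List ℕ × List ℕ)

/-- the identity -/
def N_fin3 : List (List (List ℕ × List ℕ)) :=
  (beta% delta% lq26f63394d3 fun a b c _ _ =>
 (let e:=(let e:=(let e:=(let e:=(c (a a_p<|a a_q<|a a_q<|a a_nT2<|b)<|
 c (a a_p<|a a_p<|a a_q<|a a_q<|a a_q<|b)<|
 c (a a_p<|a a_p<|a a_q<|a a_q<|a a_nW0<|a a_o<|b)<|
 c (a a_p<|a a_p<|a a_q<|a a_q<|a a_nK<|b)<|b);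
 (c (a a_p<|a a_p<|a a_q<|a a_nW2<|a a_o<|b)<|
 c (a a_p<|a a_p<|a a_q<|a a_q<|a a_r<|b)<|
 c (a a_p<|a a_p<|a a_q<|a a_q<|a a_o<|a a_o<|b)<|
 c (a a_p<|a a_p<|a a_q<|a a_q<|a a_nz<|a a_o<|b)<|
 e));
 (let e:=(c (a a_p<|a a_p<|a a_p<|a a_q<|a a_nW0<|a a_o<|b)<|
 c (a a_p<|a a_p<|a a_p<|a a_q<|a a_nW0<|a a_o<|b)<|
 c (a a_p<|a a_p<|a a_p<|a a_q<|a a_nK<|b)<|
 c (a a_p<|a a_p<|a a_p<|a a_q<|a a_nK<|b)<|
 e);
 (c (a a_p<|a a_p<|a a_p<|a a_q<|a a_nz<|a a_o<|b)<|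
 c (a a_p<|a a_p<|a a_q<|a a_nT2<|b)<|
 c (a a_p<|a a_p<|a a_p<|a a_q<|a a_q<|b)<|
 c (a a_p<|a a_p<|a a_p<|a a_q<|a a_q<|b)<|
 e)));
 (let e:=(let e:=(c (a a_p<|a a_p<|a a_q<|a a_nW0<|a a_o<|b)<|
 c (a a_p<|a a_p<|a a_q<|a a_nK<|b)<|
 c (a a_p<|a a_p<|a a_q<|a a_nK<|b)<|
 c (a a_p<|a a_p<|a a_p<|a a_q<|a a_o<|a a_o<|b)<|
 e);
 (c (a a_p<|a a_q<|a a_nT2<|b)<|
 c (a a_p<|a a_p<|a a_q<|a a_q<|b)<|
 c (a a_p<|a a_p<|a a_q<|a a_q<|b)<|
 c (a a_p<|a a_p<|a a_q<|a a_nW0<|a a_o<|b)<|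
 e));
 (c (a a_p<|a a_q<|a a_nT2<|a a_o<|b)<|
 c (a a_p<|a a_q<|a a_nz<|a a_r<|b)<|
 c (a a_p<|a a_p<|a a_q<|a a_o<|a a_r<|b)<|
 c (a a_p<|a a_p<|a a_q<|a a_o<|a a_o<|b)<|
 c (a a_p<|a a_p<|a a_q<|a a_nz<|a a_o<|b)<|
 c (a a_p<|a a_p<|a a_q<|a a_nz<|a a_o<|b)<|
 c (a a_p<|a a_q<|a a_nT2<|b)<|
 e)));
 (let e:=(let e:=(let e:=(c (a a_p<|a a_p<|a a_q<|a a_nK<|a a_o<|b)<|
 c (a a_nT2<|a a_nW2<|b)<|
 c (a a_p<|a a_nT2<|a a_nW0<|b)<|
 c (a a_p<|a a_nT2<|a a_nW2<|b)<|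
 e);
 (c (a a_p<|a a_p<|a a_nK<|a a_nz<|b)<|
 c (a a_p<|a a_p<|a a_p<|a a_nK<|a a_o<|b)<|
 c (a a_p<|a a_p<|a a_nK<|a a_nW0<|b)<|
 c (a a_p<|a a_p<|a a_nK<|a a_nW2<|b)<|
 e));
 (c (a a_p<|a a_p<|a a_nz<|a a_nW2<|a a_o<|b)<|
 c (a a_p<|a a_p<|a a_q<|a a_nz<|a a_o<|a a_o<|b)<|
 c (a a_p<|a a_p<|a a_p<|a a_nW0<|a a_o<|a a_o<|b)<|
 c (a a_p<|a a_p<|a a_nW0<|a a_nW0<|a a_o<|b)<|
 c (a a_p<|a a_p<|a a_nW0<|a a_nW2<|a a_o<|b)<|
 c (a a_p<|a a_p<|a a_q<|a a_nW0<|a a_o<|a a_o<|b)<|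
 c (a a_p<|a a_p<|a a_nK<|a a_o<|b)<|
 e));
 (let e:=(let e:=(c (a a_p<|a a_nz<|a a_nW2<|a a_o<|b)<|
 c (a a_p<|a a_nz<|a a_nW2<|a a_o<|b)<|
 c (a a_p<|a a_p<|a a_nW0<|a a_nz<|a a_o<|b)<|
 c (a a_p<|a a_p<|a a_nW0<|a a_nz<|a a_o<|b)<|
 e);
 (c (a a_p<|a a_p<|a a_nW0<|a a_o<|a a_o<|b)<|
 c (a a_p<|a a_p<|a a_nW2<|a a_o<|a a_o<|b)<|
 c (a a_p<|a a_p<|a a_nW2<|a a_o<|a a_o<|b)<|
 c (a a_p<|a a_p<|a a_q<|a a_o<|a a_o<|a a_o<|b)<|
 e));
 (a (a a_p<|a a_p<|a a_q<|a a_o<|b)<|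
 a (a a_p<|a a_p<|a a_q<|a a_nz<|b)<|
 a (a a_p<|a a_p<|a a_p<|a a_q<|a a_o<|b)<|
 a (a a_p<|a a_p<|a a_q<|a a_nW0<|b)<|
 a (a a_p<|a a_p<|a a_q<|a a_nW2<|b)<|
 a (a a_p<|a a_p<|a a_q<|a a_q<|a a_o<|b)<|
 a (a a_p<|a a_p<|a a_nW0<|a a_o<|a a_o<|b)<|
 e)))))

/-- the certificate -/
noncomputable def C_fin3 : List (List (List ℕ × List ℕ)) :=
  (beta% delta% lq26f63394d3 fun a b _ _ _ =>
 (a (a R0<|a c_fin3_0<|b)<|
 a (a R1<|a c_fin3_1<|b)<|
 a (a R2<|a c_fin3_2<|b)<|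
 a (a R3<|a c_fin3_3<|b)<|
 a (a R4<|a c_fin3_4<|b)<|
 a (a R5<|a c_fin3_5<|b)<|
 a (a R6<|a c_fin3_6<|b)<|
 a (a R7<|a c_fin3_7<|b)<|
 a (a R8<|a c_fin3_8<|b)<|
 a (a R9<|a c_fin3_9<|b)<|
 a (a R10<|a c_fin3_10<|b)<|
 a (a R11<|a c_fin3_11<|b)<|
 a (a R12<|a c_fin3_12<|b)<|
 a (a R13<|a c_fin3_13<|b)<|
 a (a R14<|a c_fin3_14<|b)<|
 a (a R15<|a c_fin3_15<|b)<|b))

theorem check_fin3 : check Rs (N_fin3 ++ C_fin3) = true := by decide +kernel

end Cfsg.Agent.H482.SzCert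
end

-- part: H482/SzNum
section
/-!
# The Suzuki identities (generated)
-/

set_option autoImplicit false

namespace Cfsg.Agent.H482.SzNum

open Cfsg.Agent.H482.F2Poly Cfsg.Agent.H482.SzCert

/-- The sixteen basic relations. -/
structure Rel {F : Type*} [CommRing F] (w f d e o r p : F) : Prop where

  r0 : w ^ 2 * o + f * e * o + e * o + o + r = 0

  r1 : w ^ 2 * r + f * o + f * r + e * o + r = 0

  r2 : d ^ 2 * o + d ^ 2 * r + f * r + o ^ 2 + o = 0

  r3 : w ^ 2 * d + w * f * d + w * f + f ^ 2 + f * d + 1 = 0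

  r4 : w ^ 2 * o + f ^ 2 * o + w ^ 2 + f * e + d ^ 2 + f = 0

  r5 : w ^ 2 * o + w * f * o + f * o + d * e + d + e + 1 = 0

  r6 : w * d * o + d * e * o + w * o + w * r + f * o + d * r + r = 0

  r7 : f * o ^ 2 + f * o * r + e * o ^ 2 + e * r + o ^ 2 + o * r + r = 0

  r8 : d ^ 2 * e + w ^ 2 + f * e + f * o + f + e + o + 1 = 0

  r9 : w ^ 2 * d + w * d ^ 2 + w * d * e + w * f + f * d + f * e + f * o + d ^ 2 + d * e + w + f = 0

  r10 : w ^ 2 * e + f * e ^ 2 + w ^ 2 + f * e + f * o + f * r + e ^ 2 + e * o + o + r + 1 = 0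

  r11 : w * f * r + w * d * o + f * d * o + f * d * r + w * o + w * r + f * o + f * r + d * o + o + r = 0

  r12 : w ^ 3 + w ^ 2 * d + w * f * e + f * d * e + w ^ 2 + w * d + w * e + f * e + f + d + e + 1 = 0

  r13 : w ^ 2 * d + w ^ 2 * o + w * d ^ 2 + w * e * o + d * e ^ 2 + w * f + w * d + w * e + w * o + w * r + f * d + f * o + d ^ 2 + d * e + e * o + d + e + r + 1 = 0

  r14 : w ^ 2 * d ^ 2 + w ^ 2 * o + f ^ 2 + d ^ 2 + e = 0

  r15 : d * e * p + w ^ 2 + f * e + p ^ 2 = 0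


/-- The numbers attached to a point. -/
structure Pt {F : Type*} [CommRing F] (w f d e o r p q W0 W1 W2 T0 T1 T2 K : F) : Prop where
  rel : Rel w f d e o r p
  hp : p ≠ 0
  hq0 : q ≠ 0
  hq : q = d * p + f
  hW0 : d ^ 2 * e + d * e + d * p + f + d + o + p = q * W0
  hW1 : d * e + d + p = p * W1
  hW2 : d * e * p + d * p + o * p + p ^ 2 + e = q * W2
  hT0 : d ^ 2 * e ^ 2 + d ^ 2 * e + d * p + p ^ 2 + f + e + r = p ^ 2 * T0
  hT1 : d ^ 2 * e + d * p + f + e = q * T1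
  hT2 : d ^ 3 * e * p + f * d ^ 2 * e + d ^ 2 * p ^ 2 + d * e * p + d * r * p + f ^ 2 + f * e + f * r + d ^ 2 = p ^ 2 * T2
  hK : d ^ 2 * e * o * p + f * d ^ 2 * e + f * d * e * o + f * d * e * p + d ^ 3 * e + d ^ 2 * e * p + d * e * o * p + d * e * p ^ 2 + d * o * p ^ 2 + f * d * e + f * e * o + f * p ^ 2 + d ^ 2 * e + d ^ 2 * p + o * p ^ 2 + p ^ 3 + f ^ 2 + f * e + f * o + d ^ 2 + d * o + d * p + e * p + e = q * K

variable {F : Type*} [Field F] [CharP F 2] {w f d e o r p q W0 W1 W2 T0 T1 T2 K : F}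

theorem cone0 (H : Pt w f d e o r p q W0 W1 W2 T0 T1 T2 K) :
    K * W0 + T0 * W2 + W1 * T1 = 0 := by
  have h := evS_eq_zero Rs [w, f, d, e, o, r, p] _ check_cone0
  simp only [N_cone0, C_cone0, List.cons_append, List.nil_append, evS, evProd, List.map_cons, List.map_nil] at h
  simp only [ev_a_p w f d e o r p,
    (ev_a_q w f d e o r p).trans H.hq.symm,
    ev_a_o w f d e o r p,
    ev_a_r w f d e o r p,
    (ev_a_nW0 w f d e o r p).trans H.hW0,
    (ev_a_nz w f d e o r p).trans H.hW1,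
    (ev_a_nW2 w f d e o r p).trans H.hW2,
    (ev_a_nT0 w f d e o r p).trans H.hT0,
    (ev_a_nZ w f d e o r p).trans H.hT1,
    (ev_a_nT2 w f d e o r p).trans H.hT2,
    (ev_a_nK w f d e o r p).trans H.hK,
    (ev_R0 w f d e o r p).trans H.rel.r0,
    (ev_R1 w f d e o r p).trans H.rel.r1,
    (ev_R2 w f d e o r p).trans H.rel.r2,
    (ev_R3 w f d e o r p).trans H.rel.r3,
    (ev_R4 w f d e o r p).trans H.rel.r4,
    (ev_R5 w f d e o r p).trans H.rel.r5,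
    (ev_R6 w f d e o r p).trans H.rel.r6,
    (ev_R7 w f d e o r p).trans H.rel.r7,
    (ev_R8 w f d e o r p).trans H.rel.r8,
    (ev_R9 w f d e o r p).trans H.rel.r9,
    (ev_R10 w f d e o r p).trans H.rel.r10,
    (ev_R11 w f d e o r p).trans H.rel.r11,
    (ev_R12 w f d e o r p).trans H.rel.r12,
    (ev_R13 w f d e o r p).trans H.rel.r13,
    (ev_R14 w f d e o r p).trans H.rel.r14,
    (ev_R15 w f d e o r p).trans H.rel.r15,
    zero_mul, add_zero, mul_zero] at h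
  refine (mul_eq_zero.1 (?_ : (p ^ 2 * q ^ 2) * _ = 0)).resolve_left (mul_ne_zero (pow_ne_zero _ H.hp) (pow_ne_zero _ H.hq0))
  linear_combination h

theorem cone1 (H : Pt w f d e o r p q W0 W1 W2 T0 T1 T2 K) :
    W1 * K + T0 * o + T2 * W0 = 0 := by
  have h := evS_eq_zero Rs [w, f, d, e, o, r, p] _ check_cone1
  simp only [N_cone1, C_cone1, List.cons_append, List.nil_append, evS, evProd, List.map_cons, List.map_nil] at h
  simp only [ev_a_p w f d e o r p,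
    (ev_a_q w f d e o r p).trans H.hq.symm,
    ev_a_o w f d e o r p,
    ev_a_r w f d e o r p,
    (ev_a_nW0 w f d e o r p).trans H.hW0,
    (ev_a_nz w f d e o r p).trans H.hW1,
    (ev_a_nW2 w f d e o r p).trans H.hW2,
    (ev_a_nT0 w f d e o r p).trans H.hT0,
    (ev_a_nZ w f d e o r p).trans H.hT1,
    (ev_a_nT2 w f d e o r p).trans H.hT2,
    (ev_a_nK w f d e o r p).trans H.hK,
    (ev_R0 w f d e o r p).trans H.rel.r0,
    (ev_R1 w f d e o r p).trans H.rel.r1,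
    (ev_R2 w f d e o r p).trans H.rel.r2,
    (ev_R3 w f d e o r p).trans H.rel.r3,
    (ev_R4 w f d e o r p).trans H.rel.r4,
    (ev_R5 w f d e o r p).trans H.rel.r5,
    (ev_R6 w f d e o r p).trans H.rel.r6,
    (ev_R7 w f d e o r p).trans H.rel.r7,
    (ev_R8 w f d e o r p).trans H.rel.r8,
    (ev_R9 w f d e o r p).trans H.rel.r9,
    (ev_R10 w f d e o r p).trans H.rel.r10,
    (ev_R11 w f d e o r p).trans H.rel.r11,
    (ev_R12 w f d e o r p).trans H.rel.r12,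
    (ev_R13 w f d e o r p).trans H.rel.r13,
    (ev_R14 w f d e o r p).trans H.rel.r14,
    (ev_R15 w f d e o r p).trans H.rel.r15,
    zero_mul, add_zero, mul_zero] at h
  refine (mul_eq_zero.1 (?_ : (p ^ 2 * q ^ 1) * _ = 0)).resolve_left (mul_ne_zero (pow_ne_zero _ H.hp) (pow_ne_zero _ H.hq0))
  linear_combination h

theorem fin0 (H : Pt w f d e o r p q W0 W1 W2 T0 T1 T2 K) {Y0 Y1 Y2 Y3 X0 X1 X2 X3 A2 A3 U0 U1 B2 B3 V0 V1 B : F}
    (hY0 : Y0 = W0 + W2 + o)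
    (hY1 : Y1 = W1 + o)
    (hY2 : Y2 = W2 + p * Y0)
    (hY3 : Y3 = o + p * Y1 + q * Y0)
    (hX0 : X0 = 1 + o * W0 + K)
    (hX1 : X1 = o * W1 + T2)
    (hX2 : X2 = o * W2 + r)
    (hX3 : X3 = o ^ 2)
    (hA2 : A2 = X2 + p * X0)
    (hA3 : A3 = X3 + p * X1 + q * X0)
    (hU0 : U0 = X0 + A2 + A3)
    (hU1 : U1 = X1 + A3)
    (hB2 : B2 = A2 + p * U0)
    (hB3 : B3 = A3 + p * U1 + q * U0)
    (hV0 : V0 = U0 + B2 + B3)
    (hV1 : V1 = U1 + B3)
    (hB : B = Y0 * o + Y1 * W2 + Y2 * W1 + Y3 * W0) :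
    (Y0 + B * W0 + (T0 * Y2 + T1 * Y1 + K * Y0)) + V0 = 0 := by
  have h := evS_eq_zero Rs [w, f, d, e, o, r, p] _ check_fin0
  simp only [N_fin0, C_fin0, List.cons_append, List.nil_append, evS, evProd, List.map_cons, List.map_nil] at h
  simp only [ev_a_p w f d e o r p,
    (ev_a_q w f d e o r p).trans H.hq.symm,
    ev_a_o w f d e o r p,
    ev_a_r w f d e o r p,
    (ev_a_nW0 w f d e o r p).trans H.hW0,
    (ev_a_nz w f d e o r p).trans H.hW1,
    (ev_a_nW2 w f d e o r p).trans H.hW2,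
    (ev_a_nT0 w f d e o r p).trans H.hT0,
    (ev_a_nZ w f d e o r p).trans H.hT1,
    (ev_a_nT2 w f d e o r p).trans H.hT2,
    (ev_a_nK w f d e o r p).trans H.hK,
    (ev_R0 w f d e o r p).trans H.rel.r0,
    (ev_R1 w f d e o r p).trans H.rel.r1,
    (ev_R2 w f d e o r p).trans H.rel.r2,
    (ev_R3 w f d e o r p).trans H.rel.r3,
    (ev_R4 w f d e o r p).trans H.rel.r4,
    (ev_R5 w f d e o r p).trans H.rel.r5,
    (ev_R6 w f d e o r p).trans H.rel.r6,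
    (ev_R7 w f d e o r p).trans H.rel.r7,
    (ev_R8 w f d e o r p).trans H.rel.r8,
    (ev_R9 w f d e o r p).trans H.rel.r9,
    (ev_R10 w f d e o r p).trans H.rel.r10,
    (ev_R11 w f d e o r p).trans H.rel.r11,
    (ev_R12 w f d e o r p).trans H.rel.r12,
    (ev_R13 w f d e o r p).trans H.rel.r13,
    (ev_R14 w f d e o r p).trans H.rel.r14,
    (ev_R15 w f d e o r p).trans H.rel.r15,
    zero_mul, add_zero, mul_zero] at h
  subst hB hV1 hV0 hB3 hB2 hU1 hU0 hA3 hA2 hX3 hX2 hX1 hX0 hY3 hY2 hY1 hY0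
  refine (mul_eq_zero.1 (?_ : (p ^ 2 * q ^ 2) * _ = 0)).resolve_left (mul_ne_zero (pow_ne_zero _ H.hp) (pow_ne_zero _ H.hq0))
  linear_combination h

theorem fin1 (H : Pt w f d e o r p q W0 W1 W2 T0 T1 T2 K) {Y0 Y1 Y2 Y3 X0 X1 X2 X3 A2 A3 U0 U1 B2 B3 V0 V1 B : F}
    (hY0 : Y0 = W0 + W2 + o)
    (hY1 : Y1 = W1 + o)
    (hY2 : Y2 = W2 + p * Y0)
    (hY3 : Y3 = o + p * Y1 + q * Y0)
    (hX0 : X0 = 1 + o * W0 + K)
    (hX1 : X1 = o * W1 + T2)
    (hX2 : X2 = o * W2 + r)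
    (hX3 : X3 = o ^ 2)
    (hA2 : A2 = X2 + p * X0)
    (hA3 : A3 = X3 + p * X1 + q * X0)
    (hU0 : U0 = X0 + A2 + A3)
    (hU1 : U1 = X1 + A3)
    (hB2 : B2 = A2 + p * U0)
    (hB3 : B3 = A3 + p * U1 + q * U0)
    (hV0 : V0 = U0 + B2 + B3)
    (hV1 : V1 = U1 + B3)
    (hB : B = Y0 * o + Y1 * W2 + Y2 * W1 + Y3 * W0) :
    (Y1 + B * W1 + (T0 * Y3 + K * Y1 + T2 * Y0)) + V1 = 0 := by
  have h := evS_eq_zero Rs [w, f, d, e, o, r, p] _ check_fin1
  simp only [N_fin1, C_fin1, List.cons_append, List.nil_append, evS, evProd, List.map_cons, List.map_nil] at h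
  simp only [ev_a_p w f d e o r p,
    (ev_a_q w f d e o r p).trans H.hq.symm,
    ev_a_o w f d e o r p,
    ev_a_r w f d e o r p,
    (ev_a_nW0 w f d e o r p).trans H.hW0,
    (ev_a_nz w f d e o r p).trans H.hW1,
    (ev_a_nW2 w f d e o r p).trans H.hW2,
    (ev_a_nT0 w f d e o r p).trans H.hT0,
    (ev_a_nZ w f d e o r p).trans H.hT1,
    (ev_a_nT2 w f d e o r p).trans H.hT2,
    (ev_a_nK w f d e o r p).trans H.hK,
    (ev_R0 w f d e o r p).trans H.rel.r0,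
    (ev_R1 w f d e o r p).trans H.rel.r1,
    (ev_R2 w f d e o r p).trans H.rel.r2,
    (ev_R3 w f d e o r p).trans H.rel.r3,
    (ev_R4 w f d e o r p).trans H.rel.r4,
    (ev_R5 w f d e o r p).trans H.rel.r5,
    (ev_R6 w f d e o r p).trans H.rel.r6,
    (ev_R7 w f d e o r p).trans H.rel.r7,
    (ev_R8 w f d e o r p).trans H.rel.r8,
    (ev_R9 w f d e o r p).trans H.rel.r9,
    (ev_R10 w f d e o r p).trans H.rel.r10,
    (ev_R11 w f d e o r p).trans H.rel.r11,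
    (ev_R12 w f d e o r p).trans H.rel.r12,
    (ev_R13 w f d e o r p).trans H.rel.r13,
    (ev_R14 w f d e o r p).trans H.rel.r14,
    (ev_R15 w f d e o r p).trans H.rel.r15,
    zero_mul, add_zero, mul_zero] at h
  subst hB hV1 hV0 hB3 hB2 hU1 hU0 hA3 hA2 hX3 hX2 hX1 hX0 hY3 hY2 hY1 hY0
  refine (mul_eq_zero.1 (?_ : (p ^ 2 * q ^ 1) * _ = 0)).resolve_left (mul_ne_zero (pow_ne_zero _ H.hp) (pow_ne_zero _ H.hq0))
  linear_combination h

theorem fin2 (H : Pt w f d e o r p q W0 W1 W2 T0 T1 T2 K) {Y0 Y1 Y2 Y3 X0 X1 X2 X3 A2 A3 U0 U1 B2 B3 V0 V1 B : F}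
    (hY0 : Y0 = W0 + W2 + o)
    (hY1 : Y1 = W1 + o)
    (hY2 : Y2 = W2 + p * Y0)
    (hY3 : Y3 = o + p * Y1 + q * Y0)
    (hX0 : X0 = 1 + o * W0 + K)
    (hX1 : X1 = o * W1 + T2)
    (hX2 : X2 = o * W2 + r)
    (hX3 : X3 = o ^ 2)
    (hA2 : A2 = X2 + p * X0)
    (hA3 : A3 = X3 + p * X1 + q * X0)
    (hU0 : U0 = X0 + A2 + A3)
    (hU1 : U1 = X1 + A3)
    (hB2 : B2 = A2 + p * U0)
    (hB3 : B3 = A3 + p * U1 + q * U0)
    (hV0 : V0 = U0 + B2 + B3)
    (hV1 : V1 = U1 + B3)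
    (hB : B = Y0 * o + Y1 * W2 + Y2 * W1 + Y3 * W0) :
    (Y2 + B * W2 + (T1 * Y3 + K * Y2 + r * Y0)) + B2 = 0 := by
  have h := evS_eq_zero Rs [w, f, d, e, o, r, p] _ check_fin2
  simp only [N_fin2, C_fin2, List.cons_append, List.nil_append, evS, evProd, List.map_cons, List.map_nil] at h
  simp only [ev_a_p w f d e o r p,
    (ev_a_q w f d e o r p).trans H.hq.symm,
    ev_a_o w f d e o r p,
    ev_a_r w f d e o r p,
    (ev_a_nW0 w f d e o r p).trans H.hW0,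
    (ev_a_nz w f d e o r p).trans H.hW1,
    (ev_a_nW2 w f d e o r p).trans H.hW2,
    (ev_a_nT0 w f d e o r p).trans H.hT0,
    (ev_a_nZ w f d e o r p).trans H.hT1,
    (ev_a_nT2 w f d e o r p).trans H.hT2,
    (ev_a_nK w f d e o r p).trans H.hK,
    (ev_R0 w f d e o r p).trans H.rel.r0,
    (ev_R1 w f d e o r p).trans H.rel.r1,
    (ev_R2 w f d e o r p).trans H.rel.r2,
    (ev_R3 w f d e o r p).trans H.rel.r3,
    (ev_R4 w f d e o r p).trans H.rel.r4,
    (ev_R5 w f d e o r p).trans H.rel.r5,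
    (ev_R6 w f d e o r p).trans H.rel.r6,
    (ev_R7 w f d e o r p).trans H.rel.r7,
    (ev_R8 w f d e o r p).trans H.rel.r8,
    (ev_R9 w f d e o r p).trans H.rel.r9,
    (ev_R10 w f d e o r p).trans H.rel.r10,
    (ev_R11 w f d e o r p).trans H.rel.r11,
    (ev_R12 w f d e o r p).trans H.rel.r12,
    (ev_R13 w f d e o r p).trans H.rel.r13,
    (ev_R14 w f d e o r p).trans H.rel.r14,
    (ev_R15 w f d e o r p).trans H.rel.r15,
    zero_mul, add_zero, mul_zero] at h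
  subst hB hV1 hV0 hB3 hB2 hU1 hU0 hA3 hA2 hX3 hX2 hX1 hX0 hY3 hY2 hY1 hY0
  refine (mul_eq_zero.1 (?_ : (p ^ 1 * q ^ 2) * _ = 0)).resolve_left (mul_ne_zero (pow_ne_zero _ H.hp) (pow_ne_zero _ H.hq0))
  linear_combination h

theorem fin3 (H : Pt w f d e o r p q W0 W1 W2 T0 T1 T2 K) {Y0 Y1 Y2 Y3 X0 X1 X2 X3 A2 A3 U0 U1 B2 B3 V0 V1 B : F}
    (hY0 : Y0 = W0 + W2 + o)
    (hY1 : Y1 = W1 + o)
    (hY2 : Y2 = W2 + p * Y0)
    (hY3 : Y3 = o + p * Y1 + q * Y0)
    (hX0 : X0 = 1 + o * W0 + K)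
    (hX1 : X1 = o * W1 + T2)
    (hX2 : X2 = o * W2 + r)
    (hX3 : X3 = o ^ 2)
    (hA2 : A2 = X2 + p * X0)
    (hA3 : A3 = X3 + p * X1 + q * X0)
    (hU0 : U0 = X0 + A2 + A3)
    (hU1 : U1 = X1 + A3)
    (hB2 : B2 = A2 + p * U0)
    (hB3 : B3 = A3 + p * U1 + q * U0)
    (hV0 : V0 = U0 + B2 + B3)
    (hV1 : V1 = U1 + B3)
    (hB : B = Y0 * o + Y1 * W2 + Y2 * W1 + Y3 * W0) :
    (Y3 + B * o + (K * Y3 + T2 * Y2 + r * Y1)) + B3 = 0 := by
  have h := evS_eq_zero Rs [w, f, d, e, o, r, p] _ check_fin3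
  simp only [N_fin3, C_fin3, List.cons_append, List.nil_append, evS, evProd, List.map_cons, List.map_nil] at h
  simp only [ev_a_p w f d e o r p,
    (ev_a_q w f d e o r p).trans H.hq.symm,
    ev_a_o w f d e o r p,
    ev_a_r w f d e o r p,
    (ev_a_nW0 w f d e o r p).trans H.hW0,
    (ev_a_nz w f d e o r p).trans H.hW1,
    (ev_a_nW2 w f d e o r p).trans H.hW2,
    (ev_a_nT0 w f d e o r p).trans H.hT0,
    (ev_a_nZ w f d e o r p).trans H.hT1,
    (ev_a_nT2 w f d e o r p).trans H.hT2,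
    (ev_a_nK w f d e o r p).trans H.hK,
    (ev_R0 w f d e o r p).trans H.rel.r0,
    (ev_R1 w f d e o r p).trans H.rel.r1,
    (ev_R2 w f d e o r p).trans H.rel.r2,
    (ev_R3 w f d e o r p).trans H.rel.r3,
    (ev_R4 w f d e o r p).trans H.rel.r4,
    (ev_R5 w f d e o r p).trans H.rel.r5,
    (ev_R6 w f d e o r p).trans H.rel.r6,
    (ev_R7 w f d e o r p).trans H.rel.r7,
    (ev_R8 w f d e o r p).trans H.rel.r8,
    (ev_R9 w f d e o r p).trans H.rel.r9,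
    (ev_R10 w f d e o r p).trans H.rel.r10,
    (ev_R11 w f d e o r p).trans H.rel.r11,
    (ev_R12 w f d e o r p).trans H.rel.r12,
    (ev_R13 w f d e o r p).trans H.rel.r13,
    (ev_R14 w f d e o r p).trans H.rel.r14,
    (ev_R15 w f d e o r p).trans H.rel.r15,
    zero_mul, add_zero, mul_zero] at h
  subst hB hV1 hV0 hB3 hB2 hU1 hU0 hA3 hA2 hX3 hX2 hX1 hX0 hY3 hY2 hY1 hY0
  refine (mul_eq_zero.1 (?_ : (p ^ 2 * q ^ 1) * _ = 0)).resolve_left (mul_ne_zero (pow_ne_zero _ H.hp) (pow_ne_zero _ H.hq0))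
  linear_combination h

end Cfsg.Agent.H482.SzNum
end

-- part: H482/SzPt
section
/-!
# The numbers of the Suzuki parametrisation
-/

set_option autoImplicit false

namespace Cfsg.Agent.H482.SzPt

open Cfsg.Agent.H482.SzNum Cfsg.Agent.LieRecognition.SzMatrix

variable {F : Type*} [Field F] {θ : F →+* F} {ee : ℕ}

/-- The numbers, with their images under `θ`. -/
structure Dat (θ : F →+* F) (w f d e o r p q W0 W1 W2 K : F) : Prop where
  pt : Pt w f d e o r p q W0 W1 W2 (θ W0) (θ W1) (θ W2) K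
  tp : θ p = q
  td : θ d = e
  te : θ e = d ^ 2
  tf : θ f = w ^ 2
  tO : θ o = r
  tR : θ r = o ^ 2
  e0 : e ≠ 0

theorem exists_dat (H : Good F θ ee) {x y : F} (hx : x ≠ 0) (hA : 1 + x ^ 3 * θ x ^ 2 + x ^ 4 * θ x ^ 2 ≠ 0)
    (hu : 1 + θ x + x * θ x ≠ 0)
    (hy : y + θ y = ((x ^ 3 * θ x ^ 2 + x ^ 4 * θ x ^ 2 + x ^ 3 * θ x) / (1 + x ^ 3 * θ x ^ 2 + x ^ 4 * θ x ^ 2)) *
        θ ((x ^ 3 * θ x ^ 2 + x ^ 4 * θ x ^ 2 + x ^ 3 * θ x) / (1 + x ^ 3 * θ x ^ 2 + x ^ 4 * θ x ^ 2))) :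
    ∃ w f d e o r p q W0 W1 W2 K : F, Dat θ w f d e o r p q W0 W1 W2 K := by
  have h2 : (2 : F) = 0 := H.two
  haveI : CharP F 2 := CharTwo.of_one_ne_zero_of_two_eq_zero one_ne_zero h2
  obtain ⟨X, hX⟩ : ∃ X, X = θ x := ⟨_, rfl⟩
  have hX2 : θ X = x ^ 2 := by rw [hX]; exact H.sq x
  rw [← hX] at hA hu hy
  have hX0 : X ≠ 0 := by rw [hX]; exact fun h => hx ((map_eq_zero θ).1 h)
  obtain ⟨A, hAd⟩ : ∃ A, A = 1 + x ^ 3 * X ^ 2 + x ^ 4 * X ^ 2 := ⟨_, rfl⟩
  obtain ⟨u, hud⟩ : ∃ u, u = 1 + X + x * X := ⟨_, rfl⟩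
  obtain ⟨v, hvd⟩ : ∃ v, v = 1 + x ^ 2 + x ^ 2 * X := ⟨_, rfl⟩
  rw [← hAd] at hA hy
  rw [← hud] at hu
  have hvu : θ u = v := by
    rw [hud, hvd, map_add, map_add, map_mul, map_one, hX2, ← hX]; ring
  have hv : v ≠ 0 := by rw [← hvu]; exact fun h => hu ((map_eq_zero θ).1 h)
  have hvv : θ v = u ^ 2 := by rw [← hvu]; exact H.sq u
  -- the number `d`
  obtain ⟨d, hd⟩ : ∃ d, d = A / (x ^ 2 * X * u) := ⟨_, rfl⟩
  have hden : x ^ 2 * X * u ≠ 0 := mul_ne_zero (mul_ne_zero (pow_ne_zero _ hx) hX0) hu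
  have hdA : A = d * (x ^ 2 * X * u) := by rw [hd]; field_simp
  have hd0 : d ≠ 0 := by
    intro h
    rw [h, zero_mul] at hdA
    exact hA hdA
  obtain ⟨e, he⟩ : ∃ e, e = θ d := ⟨_, rfl⟩
  have he0 : e ≠ 0 := by rw [he]; exact fun h => hd0 ((map_eq_zero θ).1 h)
  have he2 : θ e = d ^ 2 := by rw [he]; exact H.sq d
  have hB : 1 + x ^ 4 * X ^ 3 + x ^ 4 * X ^ 4 = e * (x ^ 2 * X ^ 2 * v) := by
    have h := congrArg θ hdA
    rw [hAd] at h
    simp only [map_add, map_mul, map_pow, map_one, hX2, ← hX, ← he, hvu] at h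
    linear_combination h
  have hA' : 1 + x ^ 3 * X ^ 2 + x ^ 4 * X ^ 2 = d * (x ^ 2 * X * u) := by rw [← hAd]; exact hdA
  -- the numbers `a`, `c`
  obtain ⟨a, ha⟩ : ∃ a, a = 1 + e + (x * X) ^ 2 + (x ^ 2 * X) * e := ⟨_, rfl⟩
  obtain ⟨c, hc⟩ : ∃ c, c = θ a := ⟨_, rfl⟩
  have hca : θ c = a ^ 2 := by rw [hc]; exact H.sq a
  have hm : x ^ 4 * X ^ 2 + x ^ 2 * X ^ 2 + x ^ 2 * X + 1 = a * (x ^ 2 * X ^ 2 * v) := by
    rw [ha]
    have hvd' := hvd
    linear_combination (1 + x ^ 2 * X) * hB - ((1 + x ^ 2 * X ^ 2) * (x ^ 2 * X ^ 2)) * hvd'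
      - (x ^ 4 * X ^ 3 + x ^ 4 * X ^ 4 + x ^ 6 * X ^ 4 + x ^ 6 * X ^ 5) * h2
  have hn : x ^ 4 * X ^ 4 + x ^ 4 * X ^ 2 + x ^ 2 * X ^ 2 + 1 = c * (x ^ 4 * X ^ 2 * u ^ 2) := by
    have h := congrArg θ hm
    simp only [map_add, map_mul, map_pow, map_one, hX2, ← hX, ← hc, hvv] at h
    linear_combination h
  -- the point `p`
  obtain ⟨h, hh⟩ : ∃ h, h = (x ^ 3 * X ^ 2 + x ^ 4 * X ^ 2 + x ^ 3 * X) / A := ⟨_, rfl⟩
  rw [← hh] at hy
  have hhd : h * d = x := by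
    rw [hh, hd, hud]
    rw [hud] at hu
    field_simp
    ring
  obtain ⟨k, hk⟩ : ∃ k, k = θ h := ⟨_, rfl⟩
  have hk2 : θ k = h ^ 2 := by rw [hk]; exact H.sq h
  have hke : k * e = X := by
    have := congrArg θ hhd
    rw [map_mul, ← hk, ← he, ← hX] at this
    exact this
  obtain ⟨Y, hY⟩ : ∃ Y, Y = θ y := ⟨_, rfl⟩
  have hY2 : θ Y = y ^ 2 := by rw [hY]; exact H.sq y
  rw [← hY, ← hk] at hy
  have hy2 : Y + y ^ 2 = k * h ^ 2 := by
    have := congrArg θ hy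
    rw [map_add, map_mul, ← hY, hY2, ← hk, hk2] at this
    exact this
  have hh0 : h ≠ 0 := by
    intro h0
    rw [h0, zero_mul] at hhd
    exact hx hhd.symm
  have hk0 : k ≠ 0 := by rw [hk]; exact fun h0 => hh0 ((map_eq_zero θ).1 h0)
  have hY0 : Y ≠ 0 := by
    intro h0
    have h1 : y = 0 := by
      rw [hY] at h0
      exact (map_eq_zero θ).1 h0
    rw [h0, h1, add_zero] at hy
    exact mul_ne_zero hh0 hk0 hy.symm
  obtain ⟨p, hp⟩ : ∃ p, p = Y * d * e := ⟨_, rfl⟩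
  have hp0 : p ≠ 0 := by rw [hp]; exact mul_ne_zero (mul_ne_zero hY0 hd0) he0
  obtain ⟨q, hq⟩ : ∃ q, q = θ p := ⟨_, rfl⟩
  have hq0 : q ≠ 0 := by rw [hq]; exact fun h0 => hp0 ((map_eq_zero θ).1 h0)
  have hqp : θ q = p ^ 2 := by rw [hq]; exact H.sq p
  have hqv : q = y ^ 2 * e * d ^ 2 := by
    rw [hq, hp, map_mul, map_mul, hY2, ← he, he2]
  have k1 : d ^ 2 * e ^ 2 * (h * k) ^ 2 = x ^ 2 * X ^ 2 := by rw [← hhd, ← hke]; ring
  have k2 : d ^ 2 * e ^ 2 * (k * h ^ 2) = x ^ 2 * X * e := by rw [← hhd, ← hke]; ring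
  have k3 : e * d ^ 2 * (k * h ^ 2) = X * x ^ 2 := by rw [← hhd, ← hke]; ring
  have hqf : q = d * p + x ^ 2 * X := by
    rw [hqv, hp]
    linear_combination (e * d ^ 2) * hy2 + k3 - (Y * e * d ^ 2) * h2
  have hsq : (y + Y) ^ 2 = (h * k) ^ 2 := by rw [hy]
  have r15 : d * e * p + (x * X) ^ 2 + (x ^ 2 * X) * e + p ^ 2 = 0 := by
    rw [hp]
    linear_combination (d ^ 2 * e ^ 2) * hsq - (d ^ 2 * e ^ 2) * hy2 + k1 - k2 +
      (x ^ 2 * X ^ 2 + d ^ 2 * e ^ 2 * (Y - y * Y)) * h2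
  have hrel : _root_.Cfsg.Agent.H482.SzNum.Rel (x * X) (x ^ 2 * X) d e (a * c) (a ^ 2 * c) p :=
    { r0 := SzBase.rel0 hx hX0 hu hv hud hvd hA' hB hm hn
      r1 := SzBase.rel1 hx hX0 hu hv hud hvd hA' hB hm hn
      r2 := SzBase.rel2 hx hX0 hu hv hud hvd hA' hB hm hn
      r3 := SzBase.rel3 hx hX0 hu hv hud hvd hA' hB hm hn
      r4 := SzBase.rel4 hx hX0 hu hv hud hvd hA' hB hm hn
      r5 := SzBase.rel5 hx hX0 hu hv hud hvd hA' hB hm hn
      r6 := SzBase.rel6 hx hX0 hu hv hud hvd hA' hB hm hn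
      r7 := SzBase.rel7 hx hX0 hu hv hud hvd hA' hB hm hn
      r8 := SzBase.rel8 hx hX0 hu hv hud hvd hA' hB hm hn
      r9 := SzBase.rel9 hx hX0 hu hv hud hvd hA' hB hm hn
      r10 := SzBase.rel10 hx hX0 hu hv hud hvd hA' hB hm hn
      r11 := SzBase.rel11 hx hX0 hu hv hud hvd hA' hB hm hn
      r12 := SzBase.rel12 hx hX0 hu hv hud hvd hA' hB hm hn
      r13 := SzBase.rel13 hx hX0 hu hv hud hvd hA' hB hm hn
      r14 := SzBase.rel14 hx hX0 hu hv hud hvd hA' hB hm hn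
      r15 := r15 }
  obtain ⟨w, hw⟩ : ∃ w, w = x * X := ⟨_, rfl⟩
  obtain ⟨f, hf⟩ : ∃ f, f = x ^ 2 * X := ⟨_, rfl⟩
  obtain ⟨o, ho⟩ : ∃ o, o = a * c := ⟨_, rfl⟩
  obtain ⟨r, hr⟩ : ∃ r, r = a ^ 2 * c := ⟨_, rfl⟩
  have tf : θ f = w ^ 2 := by
    rw [hf, hw, map_mul, map_pow, hX2, ← hX]; ring
  have tO : θ o = r := by
    rw [ho, hr, map_mul, ← hc, hca]; ring
  have tR : θ r = o ^ 2 := by rw [← tO]; exact H.sq o
  rw [← hw, ← hf, ← ho, ← hr] at hrel
  rw [← hf] at hqf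
  obtain ⟨W0, hW0⟩ : ∃ W0, d ^ 2 * e + d * e + d * p + f + d + o + p = q * W0 :=
    ⟨(d ^ 2 * e + d * e + d * p + f + d + o + p) / q, (mul_div_cancel₀ _ hq0).symm⟩
  obtain ⟨W1, hW1⟩ : ∃ W1, d * e + d + p = p * W1 := ⟨(d * e + d + p) / p, (mul_div_cancel₀ _ hp0).symm⟩
  obtain ⟨W2, hW2⟩ : ∃ W2, d * e * p + d * p + o * p + p ^ 2 + e = q * W2 :=
    ⟨(d * e * p + d * p + o * p + p ^ 2 + e) / q, (mul_div_cancel₀ _ hq0).symm⟩
  obtain ⟨K, hK⟩ : ∃ K, d ^ 2 * e * o * p + f * d ^ 2 * e + f * d * e * o + f * d * e * p + d ^ 3 * e + d ^ 2 * e * p + d * e * o * p + d * e * p ^ 2 + d * o * p ^ 2 + f * d * e + f * e * o + f * p ^ 2 + d ^ 2 * e + d ^ 2 * p + o * p ^ 2 + p ^ 3 + f ^ 2 + f * e + f * o + d ^ 2 + d * o + d * p + e * p + e = q * K :=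
    ⟨_ / q, (mul_div_cancel₀ _ hq0).symm⟩
  have t0 := congrArg θ hW0
  have t1 := congrArg θ hW1
  have t2 := congrArg θ hW2
  simp only [map_add, map_mul, map_pow, ← he, he2, ← hq, hqp, tf, tO] at t0 t1 t2
  refine ⟨w, f, d, e, o, r, p, q, W0, W1, W2, K, ?_⟩
  exact
    { pt :=
        { rel := hrel
          hp := hp0
          hq0 := hq0
          hq := hqf
          hW0 := hW0
          hW1 := hW1
          hW2 := hW2
          hT0 := by
            linear_combination t0 + hrel.r15 - (e + 1) * hqf - (w ^ 2 + d * e * p + e * f) * h2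
          hT1 := by
            linear_combination t1 - hqf
          hT2 := by
            linear_combination t2 - (e * d ^ 2 + e + r + q + d * p + f) * hqf - (d * p * f) * h2
          hK := hK }
      tp := hq.symm
      td := he.symm
      te := he2
      tf := tf
      tO := tO
      tR := tR
      e0 := he0 }

end Cfsg.Agent.H482.SzPt
end

-- part: H482/VSeq
section
/-!
# The two-variable words `v₀ = x⁻² y⁻¹ x`, `v_{n+1} = [x v_n x⁻¹, y v_n y⁻¹]`

Generalities for S3935: compatibility with homomorphisms, vanishing on solvable groups, and the reduction to the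
existence of pairs with `v₀ = v₁ ≠ 1` in minimal simple groups.
-/

set_option autoImplicit false

namespace Cfsg.Agent.H482.VSeq

universe u

variable {G : Type*} [Group G]

/-- The initial word. -/
def v0 (x y : G) : G := x⁻¹ * x⁻¹ * y⁻¹ * x

/-- One step of the recursion. -/
def stp (x y v : G) : G := (x * v * x⁻¹) * (y * v * y⁻¹) * (x * v * x⁻¹)⁻¹ * (y * v * y⁻¹)⁻¹

/-- The word `v_n(x, y)`. -/
def vn (x y : G) (n : ℕ) : G := @Nat.rec (fun _ => G) (v0 x y) (fun _ v => stp x y v) n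

theorem vn_zero (x y : G) : vn x y 0 = v0 x y := rfl

theorem vn_succ (x y : G) (n : ℕ) : vn x y (n + 1) = stp x y (vn x y n) := rfl

theorem map_v0 {H : Type*} [Group H] (f : G →* H) (x y : G) : f (v0 x y) = v0 (f x) (f y) := by
  simp only [v0, map_mul, map_inv]

theorem map_stp {H : Type*} [Group H] (f : G →* H) (x y v : G) :
    f (stp x y v) = stp (f x) (f y) (f v) := by
  simp only [stp, map_mul, map_inv]

theorem map_vn {H : Type*} [Group H] (f : G →* H) (x y : G) (n : ℕ) :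
    f (vn x y n) = vn (f x) (f y) n := by
  induction n with
  | zero => rw [vn_zero, vn_zero, map_v0]
  | succ n ih => rw [vn_succ, vn_succ, map_stp, ih]

theorem vn_mem_derivedSeries (x y : G) (n : ℕ) : vn x y n ∈ derivedSeries G n := by
  induction n with
  | zero => exact Subgroup.mem_top _
  | succ n ih =>
    rw [derivedSeries_succ]
    have h1 : x * vn x y n * x⁻¹ ∈ derivedSeries G n := (derivedSeries_normal (G := G) n).conj_mem _ ih x
    have h2 : y * vn x y n * y⁻¹ ∈ derivedSeries G n := (derivedSeries_normal (G := G) n).conj_mem _ ih y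
    exact Subgroup.commutator_mem_commutator h1 h2

/-- The law `v_n = 1` for some `n`. -/
def Law (G : Type*) [Group G] : Prop := ∃ n : ℕ, ∀ x y : G, vn x y n = 1

theorem law_of_isSolvable (h : Group.IsSolvable G) : Law G := by
  obtain ⟨n, hn⟩ := h.solvable
  refine ⟨n, fun x y => ?_⟩
  have := vn_mem_derivedSeries x y n
  rw [hn, Subgroup.mem_bot] at this
  exact this

theorem Law.of_injective {H : Type*} [Group H] (h : Law G) {f : H →* G} (hf : Function.Injective f) :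
    Law H := by
  obtain ⟨n, hn⟩ := h
  refine ⟨n, fun x y => hf ?_⟩
  rw [map_vn, hn, map_one]

theorem Law.of_surjective {H : Type*} [Group H] (h : Law G) {f : G →* H} (hf : Function.Surjective f) :
    Law H := by
  obtain ⟨n, hn⟩ := h
  refine ⟨n, fun x y => ?_⟩
  obtain ⟨x, rfl⟩ := hf x
  obtain ⟨y, rfl⟩ := hf y
  rw [← map_vn, hn, map_one]

/-- A pair on which the words never vanish contradicts the law. -/
theorem not_law_of {x y : G} (h : ∀ n, vn x y n ≠ 1) : ¬ Law G := by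
  rintro ⟨n, hn⟩
  exact h n (hn x y)

/-- A group has a *fixed pair* if there are `x, y` with `v₀(x,y) = v₁(x,y) ≠ 1`. -/
def FixedPair (G : Type*) [Group G] : Prop := ∃ x y : G, v0 x y ≠ 1 ∧ stp x y (v0 x y) = v0 x y

theorem FixedPair.not_law (h : FixedPair G) : ¬ Law G := by
  obtain ⟨x, y, h0, h1⟩ := h
  refine not_law_of (x := x) (y := y) fun n => ?_
  have : vn x y n = v0 x y := by
    induction n with
    | zero => rfl
    | succ n ih => rw [vn_succ, ih, h1]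
  rw [this]; exact h0

/-- A fixed pair of a group modulo a central subgroup (or any kernel). -/
theorem FixedPair.of_hom {H : Type*} [Group H] (f : G →* H) {x y : G} (h0 : f (v0 x y) ≠ 1)
    (h1 : stp x y (v0 x y) = v0 x y) : FixedPair H := by
  refine ⟨f x, f y, ?_, ?_⟩
  · rw [← map_v0]; exact h0
  · rw [← map_v0, ← map_stp, h1]

/-- The law forces solvability, provided that every finite minimal simple group violates it. -/
theorem solvable_of_law
    (hmin : ∀ (H : Type u) [Group H] [Finite H], Cfsg.IsMinimalSimple H → ¬ Law H)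
    (G : Type u) [Group G] [Finite G] (h : Law G) : Group.IsSolvable G :=
  Cfsg.Agent.H483.SeqLaw.solvable_of_property (fun H _ => Law H)
    (fun H _ K hH => hH.of_injective (f := K.subtype) K.subtype_injective)
    (fun H _ N _ hH => hH.of_surjective (QuotientGroup.mk'_surjective N))
    hmin _ G rfl h

end Cfsg.Agent.H482.VSeq
end

-- part: H482/SzPair
section
/-!
# Pairs with `v₀ = v₁ ≠ 1` in the Suzuki groups
-/

set_option autoImplicit false

namespace Cfsg.Agent.H482.SzPair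

open Matrix Cfsg.Agent.LieRecognition.SzMatrix Cfsg.Agent.H482.SzPt Cfsg.Agent.H482.SzNum
open Cfsg.Agent.H482.VSeq

variable {F : Type*} [Field F] {θ : F →+* F} {ee : ℕ}

/-- The action on column vectors. -/
def act (g : GL (Fin 4) F) (v : Fin 4 → F) : Fin 4 → F := g.1 *ᵥ v

theorem act_mul (g h : GL (Fin 4) F) (v : Fin 4 → F) : act (g * h) v = act g (act h v) := by
  simp only [act, Units.val_mul, Matrix.mulVec_mulVec]

theorem act_one (v : Fin 4 → F) : act 1 v = v := by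
  simp only [act, Units.val_one, Matrix.one_mulVec]

theorem act_U (H : Good F θ ee) (a b v0 v1 v2 v3 : F) : act (H.U a b) ![v0, v1, v2, v3] =
    ![v0 + a * v1 + b * v2 + (a * b + a ^ 2 * θ a + θ b) * v3, v1 + θ a * v2 + (b + a * θ a) * v3,
      v2 + a * v3, v3] := by
  rw [act, H.U_val, Umat_def]
  ext i
  (revert i; simp only [Matrix.mulVec, dotProduct, Fin.sum_univ_four, _root_.Fin.forall_fin_succ, _root_.Matrix.of_apply, _root_.Matrix.cons_val', _root_.Matrix.cons_val_fin_one, Fin.isValue, _root_.Matrix.cons_val_zero, _root_.Matrix.cons_val_one, _root_.Matrix.cons_val, _root_.Nat.succ_eq_add_one, Nat.reduceAdd, _root_.one_mul, _root_.Matrix.cons_val_succ, _root_.MulZeroClass.zero_mul, _root_.zero_add, _root_.add_zero, _root_.implies_true, _root_.and_self])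

theorem act_W (v0 v1 v2 v3 : F) : act (W F) ![v0, v1, v2, v3] = ![v3, v2, v1, v0] := by
  rw [act, W_val, Cfsg.Agent.LieRecognition.SzMatrix.J]
  ext i
  (revert i; simp only [Matrix.mulVec, dotProduct, Fin.sum_univ_four, _root_.Fin.forall_fin_succ, _root_.Matrix.of_apply, _root_.Matrix.cons_val', _root_.Matrix.cons_val_fin_one, Fin.isValue, _root_.Matrix.cons_val_zero, _root_.Matrix.cons_val_one, _root_.Matrix.cons_val, _root_.Nat.succ_eq_add_one, Nat.reduceAdd, _root_.MulZeroClass.zero_mul, _root_.add_zero, _root_.one_mul, _root_.zero_add, _root_.Matrix.cons_val_succ, _root_.implies_true, _root_.and_self])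

theorem act_D_e0 (H : Good F θ ee) (k : Fˣ) : act (H.D k) ![1, 0, 0, 0] = ![(k : F), 0, 0, 0] := by
  rw [act, H.D_val, Dmat_def]
  ext i
  (revert i; simp only [Matrix.mulVec, dotProduct, Fin.sum_univ_four, _root_.Fin.forall_fin_succ, _root_.Matrix.of_apply, _root_.Matrix.cons_val', _root_.Matrix.cons_val_fin_one, Fin.isValue, _root_.Matrix.cons_val_zero, _root_.mul_one, _root_.Matrix.cons_val_one, _root_.MulZeroClass.mul_zero, _root_.add_zero, _root_.Matrix.cons_val, _root_.Nat.succ_eq_add_one, Nat.reduceAdd, _root_.Matrix.cons_val_succ, _root_.implies_true, _root_.and_self])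

theorem act_w (H : Good F θ ee) {κ β a b W0 W1 W2 W3 T0 T1 T2 T3 K : F} (hβ : θ β = κ ^ 2)
    (hW0 : W0 = κ) (hW1 : W1 = κ * a) (hW2 : W2 = κ * (b + a * θ a))
    (hW3 : W3 = κ * (a * b + a ^ 2 * θ a + θ b)) (hT0 : T0 = β) (hT1 : T1 = β * θ a)
    (hT2 : T2 = β * (θ b + θ a * a ^ 2)) (hT3 : T3 = β * (θ a * θ b + θ a ^ 2 * a ^ 2 + b ^ 2))
    (hK : K = β * b) (v0 v1 v2 v3 : F) :
    act (W F * H.U a b * W F * H.U 0 β * (W F * H.U a (b + a * θ a) * W F)) ![v0, v1, v2, v3] =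
      ![v0 + (v0 * W3 + v1 * W2 + v2 * W1 + v3 * W0) * W0 + (T0 * v2 + T1 * v1 + K * v0),
        v1 + (v0 * W3 + v1 * W2 + v2 * W1 + v3 * W0) * W1 + (T0 * v3 + K * v1 + T2 * v0),
        v2 + (v0 * W3 + v1 * W2 + v2 * W1 + v3 * W0) * W2 + (T1 * v3 + K * v2 + T3 * v0),
        v3 + (v0 * W3 + v1 * W2 + v2 * W1 + v3 * W0) * W3 + (K * v3 + T2 * v2 + T3 * v1)] := by
  have h2 := H.two
  have hb : θ (b + a * θ a) = θ b + θ a * a ^ 2 := by rw [map_add, map_mul, H.sq]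
  simp only [act_mul, act_W, act_U, hb, hβ, map_zero, zero_mul, mul_zero, add_zero, zero_pow, ne_eq,
    OfNat.ofNat_ne_zero, not_false_eq_true, zero_add]
  subst hW0 hW1 hW2 hW3 hT0 hT1 hT2 hT3 hK
  generalize θ a = a'
  generalize θ b = b'
  ext i
  fin_cases i
  · simp only [Fin.zero_eta, Matrix.cons_val_zero]
    linear_combination (a * a' * v0 * T0 + a ^ 2 * a' * v0 * W0 ^ 2) * h2
  · simp only [Fin.mk_one, Matrix.cons_val_one, Matrix.cons_val_zero]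
    linear_combination (a * a' * v1 * T0 + a * b * v0 * T0 + a * v0 + a * v2 * T0 + 2 * a ^ 2 * a' * v0 * T0 + a ^ 3 * a' * v0 * W0 ^ 2) * h2
  · simp only [Fin.reduceFinMk, Matrix.cons_val]
    linear_combination (2 * a * a' * b * v0 * T0 + 2 * a * a' * v0 + a * a' * v2 * T0 + a * a' ^ 2 * v1 * T0 + a ^ 2 * a' * b * v0 * W0 ^ 2 + 2 * a ^ 2 * a' ^ 2 * v0 * T0 + a ^ 3 * a' ^ 2 * v0 * W0 ^ 2 + a' * b * v1 * T0 + a' * v1 + b * v0) * h2
  · simp only [Fin.reduceFinMk, Matrix.cons_val]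
    linear_combination (a * a' * b * v1 * T0 + a * a' * b' * v0 * T0 + a * a' * v1 + 2 * a * b * v0 + a * b * v2 * T0 + a * b ^ 2 * v0 * T0 + a * v2 + 3 * a ^ 2 * a' * b * v0 * T0 + a ^ 2 * a' * b' * v0 * W0 ^ 2 + 3 * a ^ 2 * a' * v0 + a ^ 3 * a' * b * v0 * W0 ^ 2 + a ^ 3 * a' ^ 2 * v0 * T0 + a ^ 4 * a' ^ 2 * v0 * W0 ^ 2 + b * b' * v0 * T0 + b * v1 + b' * v0) * h2

theorem U_sq (H : Good F θ ee) (b : F) : H.U 0 b * H.U 0 b = 1 := by
  rw [H.U_mul, ← H.U_zero]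
  congr 1
  · simp
  · rw [map_zero, mul_zero, add_zero]; exact H.add_self b

/-- Group theory: the relation between the involutions gives `v₁ = v₀`. -/
theorem stp_of_rel {G : Type*} [Group G] {t u w : G} (ht : t * t = 1) (hu : u * u = 1) (hw : w * w = 1)
    (h : (u * t * w * u * t * u * t * w) * u * (u * t * w * u * t * u * t * w)⁻¹ = w) :
    stp (t * u) (t * w) (v0 (t * u) (t * w)) = v0 (t * u) (t * w) := by
  have t' : t⁻¹ = t := inv_eq_of_mul_eq_one_left ht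
  have u' : u⁻¹ = u := inv_eq_of_mul_eq_one_left hu
  have w' : w⁻¹ = w := inv_eq_of_mul_eq_one_left hw
  have tt : ∀ z : G, t * (t * z) = z := fun z => by rw [← mul_assoc, ht, one_mul]
  have uu : ∀ z : G, u * (u * z) = z := fun z => by rw [← mul_assoc, hu, one_mul]
  have ww : ∀ z : G, w * (w * z) = z := fun z => by rw [← mul_assoc, hw, one_mul]
  have h' : u * (t * (w * (u * (t * (u * (t * (w * (u * (w * (t * (u * (t * (u * (w * t)))))))))))))) =
      w * u := by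
    have : ((u * t * w * u * t * u * t * w) * u * (u * t * w * u * t * u * t * w)⁻¹) * u = w * u := by rw [h]
    simp only [_root_.mul_inv_rev, t', u', w', mul_assoc, hu, mul_one] at this
    exact this
  simp only [stp, v0, _root_.mul_inv_rev, inv_inv, t', u', w', mul_assoc, tt, uu, ww, ht, hu, hw, mul_one]
  rw [h']

theorem v0_ne_one {G : Type*} [Group G] {t u w : G} (ht : t * t = 1) (hu : u * u = 1) (hw : w * w = 1)
    (h : w ≠ t * u * t) : v0 (t * u) (t * w) ≠ 1 := by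
  have t' : t⁻¹ = t := inv_eq_of_mul_eq_one_left ht
  have u' : u⁻¹ = u := inv_eq_of_mul_eq_one_left hu
  have w' : w⁻¹ = w := inv_eq_of_mul_eq_one_left hw
  have tt : ∀ z : G, t * (t * z) = z := fun z => by rw [← mul_assoc, ht, one_mul]
  have uu : ∀ z : G, u * (u * z) = z := fun z => by rw [← mul_assoc, hu, one_mul]
  intro h0
  apply h
  have h1 : t * (u * (t * (u * (v0 (t * u) (t * w) * u)))) = w := by
    simp only [v0, _root_.mul_inv_rev, t', u', w', mul_assoc, tt, uu, hu, mul_one]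
  rw [h0, one_mul, hu, mul_one] at h1
  rw [← h1, mul_assoc]

variable {w f d e o r p q W0 W1 W2 K : F}

theorem W0_ne (H : Good F θ ee) (D : Dat θ w f d e o r p q W0 W1 W2 K) : W0 ≠ 0 := by
  have h2 : (2 : F) = 0 := H.two
  haveI : CharP F 2 := CharTwo.of_one_ne_zero_of_two_eq_zero one_ne_zero h2
  intro h
  have c0 := cone0 D.pt
  rw [h, map_zero, mul_zero, zero_mul, add_zero, zero_add] at c0
  have hW1 : W1 = 0 := by
    rcases mul_eq_zero.1 c0 with h1 | h1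
    · exact h1
    · exact (map_eq_zero θ).1 h1
  have e1 := D.pt.hW1
  have e0 := D.pt.hW0
  have eT := D.pt.hT1
  rw [hW1, mul_zero] at e1
  rw [h, mul_zero] at e0
  rw [hW1, map_zero, mul_zero] at eT
  have ho : o = e := by linear_combination e0 - e1 - eT
  have hr : r = d ^ 2 := by rw [← D.tO, ho, D.te]
  have hp : p = d + d * e := by linear_combination e1 - (d + d * e) * h2
  have hf : f = d ^ 2 + e := by
    rw [hp] at eT
    linear_combination eT - (d ^ 2 * e + d ^ 2 + e) * h2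
  have r2 := D.pt.rel.r2
  rw [ho, hr, hf] at r2
  have h3 : e * (e + 1) = 0 := by
    linear_combination r2 - (d ^ 2 * e + d ^ 4) * h2
  rcases mul_eq_zero.1 h3 with h4 | h4
  · exact D.e0 h4
  · apply D.pt.hp
    rw [hp]
    linear_combination d * h4

theorem fixedPair_of_dat (H : Good F θ ee) (D : Dat θ w f d e o r p q W0 W1 W2 K) :
    FixedPair ↥(Cfsg.Lie.Sz F ee) := by
  have h2 : (2 : F) = 0 := H.two
  haveI : CharP F 2 := CharTwo.of_one_ne_zero_of_two_eq_zero one_ne_zero h2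
  have hW0 := W0_ne H D
  have hT0 : θ W0 ≠ 0 := fun h => hW0 ((map_eq_zero θ).1 h)
  have c0 := cone0 D.pt
  have c1 := cone1 D.pt
  obtain ⟨κ, hκ⟩ : ∃ κ : Fˣ, (κ : F) = W0 := ⟨Units.mk0 W0 hW0, rfl⟩
  obtain ⟨a, ha⟩ : ∃ a, a = W1 / W0 := ⟨_, rfl⟩
  obtain ⟨b, hb⟩ : ∃ b, b = W2 / W0 + a * θ a := ⟨_, rfl⟩
  obtain ⟨T0, hT0d⟩ : ∃ T0, T0 = θ W0 := ⟨_, rfl⟩
  obtain ⟨T1, hT1d⟩ : ∃ T1, T1 = θ W1 := ⟨_, rfl⟩
  obtain ⟨T2, hT2d⟩ : ∃ T2, T2 = θ W2 := ⟨_, rfl⟩
  have hTT : θ T0 = W0 ^ 2 := by rw [hT0d]; exact H.sq W0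
  have hθa : θ a = T1 / T0 := by rw [ha, map_div₀, hT1d, hT0d]
  have hθb : θ b = T2 / T0 + (T1 / T0) * a ^ 2 := by
    rw [hb, map_add, map_mul, map_div₀, H.sq, hθa, hT2d, hT0d]
  simp only [← hT0d, ← hT1d, ← hT2d] at c0 c1
  rw [← hT0d] at hT0
  have e1 : W1 = W0 * a := by rw [ha]; field_simp
  have e2 : W2 = W0 * (b + a * θ a) := by
    rw [hb]
    have : W2 = W0 * (W2 / W0) := by field_simp
    linear_combination this - (W0 * a * θ a) * h2
  have eK : K = T0 * b := by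
    have : W0 * K = W0 * (T0 * b) := by
      have h3 : W0 * b = W2 + W1 * θ a := by
        rw [hb, ha]; field_simp
      have h4 : T0 * θ a = T1 := by rw [hθa]; field_simp
      linear_combination c0 - T0 * h3 - W1 * h4 - (T0 * W2 + W1 * T1) * h2
    exact mul_left_cancel₀ hW0 this
  have e3 : o = W0 * (a * b + a ^ 2 * θ a + θ b) := by
    have : T0 * o = T0 * (W0 * (a * b + a ^ 2 * θ a + θ b)) := by
      have h4 : T0 * θ a = T1 := by rw [hθa]; field_simp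
      have h5 : T0 * θ b = T2 + T1 * a ^ 2 := by rw [hθb]; field_simp
      linear_combination c1 - (W0 * a ^ 2) * h4 - W0 * h5 + (W0 * a) * eK - K * e1 - (T2 * W0 + W0 * a ^ 2 * T1 + W0 * a * K) * h2
    exact mul_left_cancel₀ hT0 this
  have e4 : T1 = T0 * θ a := by rw [hθa]; field_simp
  have e5 : T2 = T0 * (θ b + θ a * a ^ 2) := by
    have h5 : T0 * θ b = T2 + T1 * a ^ 2 := by rw [hθb]; field_simp
    linear_combination a ^ 2 * e4 - h5 - (a ^ 2 * T1) * h2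
  have e6 : r = T0 * (θ a * θ b + θ a ^ 2 * a ^ 2 + b ^ 2) := by
    have h6 := D.tO
    rw [e3, map_mul, map_add, map_add, map_mul, map_mul, map_pow, H.sq, H.sq, ← hT0d] at h6
    rw [← h6]
  -- the elements
  obtain ⟨uG, huG⟩ : ∃ uG, uG = H.U 0 1 := ⟨_, rfl⟩
  obtain ⟨tG, htG⟩ : ∃ tG, tG = W F * H.U 0 p * W F := ⟨_, rfl⟩
  obtain ⟨gG, hgG⟩ : ∃ gG, gG = W F * H.U a b * W F * H.D κ := ⟨_, rfl⟩
  obtain ⟨wG, hwG⟩ : ∃ wG, wG = gG * uG * gG⁻¹ := ⟨_, rfl⟩
  have uM : uG ∈ Cfsg.Lie.Sz F ee := by rw [huG]; exact H.U_mem _ _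
  have tM : tG ∈ Cfsg.Lie.Sz F ee := by rw [htG]; exact mul_mem (mul_mem H.W_mem (H.U_mem _ _)) H.W_mem
  have gM : gG ∈ Cfsg.Lie.Sz F ee := by
    rw [hgG]; exact mul_mem (mul_mem (mul_mem H.W_mem (H.U_mem _ _)) H.W_mem) (H.D_mem _)
  have wM : wG ∈ Cfsg.Lie.Sz F ee := by rw [hwG]; exact mul_mem (mul_mem gM uM) (inv_mem gM)
  have uu : uG * uG = 1 := by rw [huG]; exact U_sq H 1
  have tt : tG * tG = 1 := by
    rw [htG]
    calc W F * H.U 0 p * W F * (W F * H.U 0 p * W F)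
        = W F * (H.U 0 p * (W F * W F) * H.U 0 p) * W F := by simp only [mul_assoc]
      _ = 1 := by rw [W_mul_W, mul_one, U_sq, mul_one, W_mul_W]
  have ww : wG * wG = 1 := by
    rw [hwG]
    calc gG * uG * gG⁻¹ * (gG * uG * gG⁻¹) = gG * (uG * uG) * gG⁻¹ := by group
      _ = 1 := by rw [uu]; group
  have Wi : (W F)⁻¹ = W F := inv_eq_of_mul_eq_one_left W_mul_W
  have hw : wG = W F * H.U a b * W F * H.U 0 T0 * (W F * H.U a (b + a * θ a) * W F) := by
    have h1 : H.D κ * H.U 0 1 = H.U 0 T0 * H.D κ := by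
      rw [H.D_mul_U, zero_mul, zero_mul, one_mul, hκ, ← hT0d]
    rw [hwG, hgG, huG]
    calc W F * H.U a b * W F * H.D κ * H.U 0 1 * (W F * H.U a b * W F * H.D κ)⁻¹
        = W F * H.U a b * W F * (H.D κ * H.U 0 1) * ((H.D κ)⁻¹ * ((W F)⁻¹ * (H.U a b)⁻¹ * (W F)⁻¹)) := by
          group
      _ = W F * H.U a b * W F * H.U 0 T0 * (W F * H.U a (b + a * θ a) * W F) := by
          rw [h1, Wi, H.U_inv]
          group
  have actw : ∀ v0 v1 v2 v3 : F, act wG ![v0, v1, v2, v3] =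
      ![v0 + (v0 * o + v1 * W2 + v2 * W1 + v3 * W0) * W0 + (T0 * v2 + T1 * v1 + K * v0),
        v1 + (v0 * o + v1 * W2 + v2 * W1 + v3 * W0) * W1 + (T0 * v3 + K * v1 + T2 * v0),
        v2 + (v0 * o + v1 * W2 + v2 * W1 + v3 * W0) * W2 + (T1 * v3 + K * v2 + r * v0),
        v3 + (v0 * o + v1 * W2 + v2 * W1 + v3 * W0) * o + (K * v3 + T2 * v2 + r * v1)] := by
    intro v0 v1 v2 v3
    rw [hw]
    exact act_w H hTT rfl e1 e2 e3 rfl e4 e5 e6 eK v0 v1 v2 v3
  have actu : ∀ v0 v1 v2 v3 : F, act uG ![v0, v1, v2, v3] = ![v0 + v2 + v3, v1 + v3, v2, v3] := by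
    intro v0 v1 v2 v3
    rw [huG, act_U]
    simp
  have actt : ∀ v0 v1 v2 v3 : F, act tG ![v0, v1, v2, v3] = ![v0, v1, v2 + p * v0, v3 + p * v1 + q * v0] := by
    intro v0 v1 v2 v3
    rw [htG, act_mul, act_mul, act_W, act_U, act_W]
    simp [D.tp]
  have actg : act gG ![1, 0, 0, 0] = ![W0, W1, W2, o] := by
    rw [hgG, act_mul, act_D_e0, act_mul, act_mul, act_W, act_U, act_W, hκ, e1, e2, e3]
    ext i
    (revert i; simp only [_root_.Fin.forall_fin_succ, _root_.Nat.succ_eq_add_one, Nat.reduceAdd, _root_.zero_add, _root_.MulZeroClass.mul_zero, _root_.add_zero, Fin.isValue, _root_.Matrix.cons_val_zero, _root_.Matrix.cons_val_succ, _root_.Matrix.cons_val_fin_one, _root_.forall_const, _root_.true_and]) <;> (repeat' with_reducible apply And.intro) <;> ring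
  have actw0 : act wG ![1, 0, 0, 0] = ![1 + o * W0 + K, o * W1 + T2, o * W2 + r, o ^ 2] := by
    rw [actw]
    ext i
    (revert i; simp only [_root_.Fin.forall_fin_succ, _root_.Nat.succ_eq_add_one, Nat.reduceAdd, _root_.one_mul, _root_.MulZeroClass.zero_mul, _root_.add_zero, _root_.MulZeroClass.mul_zero, _root_.mul_one, _root_.zero_add, Fin.isValue, _root_.Matrix.cons_val_zero, _root_.Matrix.cons_val_succ, _root_.Matrix.cons_val_fin_one, _root_.forall_const, _root_.true_and]) <;> (repeat' with_reducible apply And.intro) <;> ring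
  -- the main relation
  have main : act wG (act tG (act uG ![W0, W1, W2, o])) =
      act uG (act tG (act uG (act tG (act wG ![1, 0, 0, 0])))) := by
    obtain ⟨Y0, hY0⟩ : ∃ Y0, Y0 = W0 + W2 + o := ⟨_, rfl⟩
    obtain ⟨Y1, hY1⟩ : ∃ Y1, Y1 = W1 + o := ⟨_, rfl⟩
    obtain ⟨Y2, hY2⟩ : ∃ Y2, Y2 = W2 + p * Y0 := ⟨_, rfl⟩
    obtain ⟨Y3, hY3⟩ : ∃ Y3, Y3 = o + p * Y1 + q * Y0 := ⟨_, rfl⟩
    obtain ⟨X0, hX0⟩ : ∃ X0, X0 = 1 + o * W0 + K := ⟨_, rfl⟩
    obtain ⟨X1, hX1⟩ : ∃ X1, X1 = o * W1 + T2 := ⟨_, rfl⟩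
    obtain ⟨X2, hX2⟩ : ∃ X2, X2 = o * W2 + r := ⟨_, rfl⟩
    obtain ⟨X3, hX3⟩ : ∃ X3, X3 = o ^ 2 := ⟨_, rfl⟩
    obtain ⟨A2, hA2⟩ : ∃ A2, A2 = X2 + p * X0 := ⟨_, rfl⟩
    obtain ⟨A3, hA3⟩ : ∃ A3, A3 = X3 + p * X1 + q * X0 := ⟨_, rfl⟩
    obtain ⟨U0, hU0⟩ : ∃ U0, U0 = X0 + A2 + A3 := ⟨_, rfl⟩
    obtain ⟨U1, hU1⟩ : ∃ U1, U1 = X1 + A3 := ⟨_, rfl⟩
    obtain ⟨B2, hB2⟩ : ∃ B2, B2 = A2 + p * U0 := ⟨_, rfl⟩
    obtain ⟨B3, hB3⟩ : ∃ B3, B3 = A3 + p * U1 + q * U0 := ⟨_, rfl⟩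
    obtain ⟨V0, hV0⟩ : ∃ V0, V0 = U0 + B2 + B3 := ⟨_, rfl⟩
    obtain ⟨V1, hV1⟩ : ∃ V1, V1 = U1 + B3 := ⟨_, rfl⟩
    obtain ⟨B, hB⟩ : ∃ B, B = Y0 * o + Y1 * W2 + Y2 * W1 + Y3 * W0 := ⟨_, rfl⟩
    have PT := D.pt
    rw [← hT0d, ← hT1d, ← hT2d] at PT
    have f0 := fin0 PT hY0 hY1 hY2 hY3 hX0 hX1 hX2 hX3 hA2 hA3 hU0 hU1 hB2 hB3 hV0 hV1 hB
    have f1 := fin1 PT hY0 hY1 hY2 hY3 hX0 hX1 hX2 hX3 hA2 hA3 hU0 hU1 hB2 hB3 hV0 hV1 hB
    have f2 := fin2 PT hY0 hY1 hY2 hY3 hX0 hX1 hX2 hX3 hA2 hA3 hU0 hU1 hB2 hB3 hV0 hV1 hB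
    have f3 := fin3 PT hY0 hY1 hY2 hY3 hX0 hX1 hX2 hX3 hA2 hA3 hU0 hU1 hB2 hB3 hV0 hV1 hB
    rw [CharTwo.add_eq_zero] at f0 f1 f2 f3
    have ey : act tG (act uG ![W0, W1, W2, o]) = ![Y0, Y1, Y2, Y3] := by
      rw [actu, actt, hY3, hY2, hY1, hY0]
    have ex : act uG (act tG (act uG (act tG (act wG ![1, 0, 0, 0])))) = ![V0, V1, B2, B3] := by
      rw [actw0, ← hX0, ← hX1, ← hX2, ← hX3, actt, ← hA2, ← hA3, actu, ← hU0, ← hU1, actt, ← hB2, ← hB3,
        actu, ← hV0, ← hV1]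
    rw [ex, ey, actw, ← hB, f0, f1, f2, f3]
  have act_sq : ∀ (g : GL (Fin 4) F), g * g = 1 → ∀ v, act g (act g v) = v := by
    intro g hg v
    rw [← act_mul, hg, act_one]
  have hcol : act (uG * tG * wG * uG * tG * uG * tG * wG) ![1, 0, 0, 0] = ![W0, W1, W2, o] := by
    simp only [act_mul]
    rw [← main, act_sq wG ww, act_sq tG tt, act_sq uG uu]
  obtain ⟨hG, hhG⟩ : ∃ hG, hG = uG * tG * wG * uG * tG * uG * tG * wG := ⟨_, rfl⟩
  rw [← hhG] at hcol
  have hM : hG ∈ Cfsg.Lie.Sz F ee := by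
    rw [hhG]
    exact mul_mem (mul_mem (mul_mem (mul_mem (mul_mem (mul_mem (mul_mem uM tM) wM) uM) tM) uM) tM) wM
  have hcol2 : act (gG⁻¹ * hG) ![1, 0, 0, 0] = ![1, 0, 0, 0] := by
    rw [act_mul, hcol, ← actg, ← act_mul, inv_mul_cancel, act_one]
  have colv : ∀ (g : GL (Fin 4) F) (i : Fin 4), g.1 i 0 = act g ![1, 0, 0, 0] i := by
    intro g i
    simp [act, Matrix.mulVec, dotProduct, Fin.sum_univ_four]
  have hU := H.eq_U (mul_mem (inv_mem gM) hM) (by rw [colv, hcol2]; rfl) (by rw [colv, hcol2]; rfl)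
  generalize (gG⁻¹ * hG).1 0 1 = α at hU
  generalize (gG⁻¹ * hG).1 0 2 = α' at hU
  have hcomm : H.U α α' * H.U 0 1 = H.U 0 1 * H.U α α' := by
    rw [H.U_mul, H.U_mul, map_zero, mul_zero, zero_mul, add_zero, zero_add, add_zero, add_zero, add_comm α' 1]
  have hrel : hG * uG * hG⁻¹ = wG := by
    have h1 : hG = gG * H.U α α' := by rw [← hU]; group
    rw [hwG, h1, huG]
    calc gG * H.U α α' * H.U 0 1 * (gG * H.U α α')⁻¹
        = gG * (H.U α α' * H.U 0 1) * (H.U α α')⁻¹ * gG⁻¹ := by group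
      _ = gG * H.U 0 1 * gG⁻¹ := by rw [hcomm]; group
  have hne : wG ≠ tG * uG * tG := by
    intro h
    have h1 : act wG ![1, 0, 0, 0] = act (tG * uG * tG) ![1, 0, 0, 0] := by rw [h]
    rw [actw0, act_mul, act_mul, actt, actu, actt] at h1
    have g3 := congrFun h1 3
    have g2 := congrFun h1 2
    have g1 := congrFun h1 1
    simp only [Matrix.cons_val, mul_one, mul_zero, add_zero, zero_add, Matrix.cons_val_one, Matrix.cons_val_zero] at g1 g2 g3
    have ho : o = q := by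
      have h5 : (o - q) ^ 2 = 0 := by linear_combination g3 + (q + p * q + q ^ 2 - o * q) * h2
      exact sub_eq_zero.1 (pow_eq_zero_iff (two_ne_zero) |>.1 h5)
    have hr : r = p ^ 2 := by
      rw [← D.tO, ho, ← D.tp]; exact H.sq p
    have hW2 : W2 = p := by
      have : q * W2 = q * p := by
        rw [ho, hr] at g2
        linear_combination g2 + p * h2
      exact mul_left_cancel₀ D.pt.hq0 this
    have hW1 : W1 = 0 := by
      have : q * W1 = 0 := by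
        rw [hT2d, hW2, D.tp, ho] at g1
        linear_combination g1
      exact (mul_eq_zero.1 this).resolve_left D.pt.hq0
    have e1' := D.pt.hW1
    have e2' := D.pt.hW2
    rw [hW1, mul_zero] at e1'
    rw [hW2, ho] at e2'
    apply D.e0
    linear_combination e2' - p * e1'
  refine ⟨⟨tG, tM⟩ * ⟨uG, uM⟩, ⟨tG, tM⟩ * ⟨wG, wM⟩, ?_, ?_⟩
  · refine v0_ne_one (Subtype.ext tt) (Subtype.ext uu) (Subtype.ext ww) ?_
    intro h
    exact hne (congrArg Subtype.val h)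
  · refine stp_of_rel (Subtype.ext tt) (Subtype.ext uu) (Subtype.ext ww) (Subtype.ext ?_)
    have := hrel
    rw [hhG] at this
    exact this

end Cfsg.Agent.H482.SzPair
end

private theorem dce_9957ba711ca9 : _root_.True := by
  try have : _root_.True := by simp only [_root_.Cfsg.Agent.H482.SzCert.R7.eq_1]
  try have : _root_.True := by simp only [_root_.Cfsg.Agent.H482.SzBase.N5.eq_1]
  try have : _root_.True := by simp only [_root_.Cfsg.Agent.H482.F2Poly.okT.eq_def]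
  try have : _root_.True := by simp only [_root_.Cfsg.Agent.H482.SzBase.N14.eq_1]
  try have : _root_.True := by simp only [_root_.Cfsg.Agent.H482.F2Poly.expand.eq_2]
  try have : _root_.True := by simp only [_root_.Cfsg.Agent.H482.F2Poly.degLe.eq_2]
  try have : _root_.True := by simp only [_root_.Cfsg.Agent.H482.SzCert.a_nW0.eq_1]
  try have : _root_.True := by simp only [_root_.Cfsg.Agent.H482.SzCert.C_cone0.eq_1]
  try have : _root_.True := by simp only [_root_.Cfsg.Agent.H482.SzBase.N11.eq_1]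
  try have : _root_.True := by simp only [_root_.Cfsg.Agent.H482.SzPair.act.eq_1]
  try have : _root_.True := by simp only [_root_.Cfsg.Agent.H482.F2Poly.degLe.eq_1]
  try have : _root_.True := by simp only [_root_.Cfsg.Agent.H482.VSeq.stp.eq_1]
  try have : _root_.True := by simp only [_root_.Cfsg.Agent.H482.SzCert.N_cone1.eq_1]
  try have : _root_.True := by simp only [_root_.Cfsg.Agent.H482.F2Poly.expand.eq_1]
  try have : _root_.True := by simp only [_root_.Cfsg.Agent.H482.SzCert.a_o.eq_1]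
  try have : _root_.True := by simp only [_root_.Cfsg.Agent.H482.SzBase.N6.eq_1]
  try have : _root_.True := by simp only [_root_.Cfsg.Agent.H482.SzCert.C_fin0.eq_1]
  try have : _root_.True := by simp only [_root_.Cfsg.Agent.H482.SzBase.a_B.eq_1]
  try have : _root_.True := by simp only [_root_.Cfsg.Agent.H482.SzBase.a_v.eq_1]
  try have : _root_.True := by simp only [_root_.Cfsg.Agent.H482.SzCert.N_fin2.eq_1]
  try have : _root_.True := by simp only [_root_.Cfsg.Agent.H482.SzCert.R2.eq_1]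
  try have : _root_.True := by simp only [_root_.Cfsg.Agent.H482.SzCert.a_nZ.eq_1]
  try have : _root_.True := by simp only [_root_.Cfsg.Agent.H482.SzCert.C_fin2.eq_1]
  try have : _root_.True := by simp only [_root_.Cfsg.Agent.H482.SzCert.N_fin0.eq_1]
  try have : _root_.True := by simp only [_root_.Cfsg.Agent.H482.SzCert.R3.eq_1]
  try have : _root_.True := by simp only [_root_.Cfsg.Agent.H482.F2Poly.evM.eq_def]
  try have : _root_.True := by simp only [_root_.Cfsg.Agent.H482.F2Poly.evM._sparseCasesOn_1.else_eq]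
  try have : _root_.True := by simp only [_root_.Cfsg.Agent.H482.F2Poly.addB.eq_2]
  try have : _root_.True := by simp only [_root_.Cfsg.Agent.H482.F2Poly.evProd.eq_def]
  try have : _root_.True := by simp only [_root_.Cfsg.Agent.H482.F2Poly.evS.eq_1]
  try have : _root_.True := by simp only [_root_.Cfsg.Agent.H482.F2Poly.okB.eq_def]
  try have : _root_.True := by simp only [_root_.Cfsg.Agent.H482.SzCert.C_fin3.eq_1]
  try have : _root_.True := by simp only [_root_.Cfsg.Agent.H482.F2Poly.okS.eq_2]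
  try have : _root_.True := by simp only [_root_.Cfsg.Agent.H482.F2Poly.sbits.eq_1]
  try have : _root_.True := by simp only [_root_.Cfsg.Agent.H482.SzBase.a_n.eq_1]
  try have : _root_.True := by simp only [_root_.Cfsg.Agent.H482.SzCert.C_fin1.eq_1]
  try have : _root_.True := by simp only [_root_.Cfsg.Agent.H482.F2Poly.okB.eq_2]
  try have : _root_.True := by simp only [_root_.Cfsg.Agent.H482.SzBase.a_A.eq_1]
  try have : _root_.True := by simp only [_root_.Cfsg.Agent.H482.F2Poly.okS.eq_def]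
  try have : _root_.True := by simp only [_root_.Cfsg.Agent.H482.F2Poly.sbits.eq_2]
  try have : _root_.True := by simp only [_root_.Cfsg.Agent.H482.SzCert.N_fin3.eq_1]
  try have : _root_.True := by simp only [_root_.Cfsg.Agent.H482.SzCert.R14.eq_1]
  try have : _root_.True := by simp only [_root_.Cfsg.Agent.H482.F2Poly.evS.eq_2]
  try have : _root_.True := by simp only [_root_.Cfsg.Agent.H482.F2Poly.okS.eq_1]
  try have : _root_.True := by simp only [_root_.Cfsg.Agent.H482.SzCert.C_cone1.eq_1]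
  try have : _root_.True := by simp only [_root_.Cfsg.Agent.H482.SzBase.N7.eq_1]
  try have : _root_.True := by simp only [_root_.Cfsg.Agent.H482.F2Poly.par.eq_2]
  try have : _root_.True := by simp only [_root_.Cfsg.Agent.H482.F2Poly.bnd.eq_def]
  try have : _root_.True := by simp only [_root_.Cfsg.Agent.H482.SzBase.N8.eq_1]
  try have : _root_.True := by simp only [_root_.Cfsg.Agent.H482.SzCert.R11.eq_1]
  try have : _root_.True := by simp only [_root_.Cfsg.Agent.H482.F2Poly.okB.eq_3]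
  try have : _root_.True := by simp only [_root_.Cfsg.Agent.H482.F2Poly.degLe._sparseCasesOn_1.else_eq]
  try have : _root_.True := by simp only [_root_.Cfsg.Agent.H482.SzCert.R12.eq_1]
  try have : _root_.True := by simp only [_root_.Cfsg.Agent.LieRecognition.SzMatrix.Good.D.congr_simp]
  try have : _root_.True := by simp only [_root_.Cfsg.Agent.H482.SzCert.a_nK.eq_1]
  try have : _root_.True := by simp only [_root_.Cfsg.Agent.H482.SzBase.a_x.eq_1]
  try have : _root_.True := by simp only [_root_.Cfsg.Agent.H482.SzBase.a_X.eq_1]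
  try have : _root_.True := by simp only [_root_.Cfsg.Agent.H482.SzBase.N10.eq_1]
  try have : _root_.True := by simp only [_root_.Cfsg.Agent.H482.SzCert.R13.eq_1]
  try have : _root_.True := by simp only [_root_.Cfsg.Agent.H482.SzBase.N0.eq_1]
  try have : _root_.True := by simp only [_root_.Cfsg.Agent.H482.F2Poly.degLe.eq_def]
  try have : _root_.True := by simp only [_root_.Cfsg.Agent.H482.SzCert.R1.eq_1]
  try have : _root_.True := by simp only [_root_.Cfsg.Agent.H482.F2Poly.expand.eq_def]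
  try have : _root_.True := by simp only [_root_.Cfsg.Agent.H482.SzCert.R10.eq_1]
  try have : _root_.True := by simp only [_root_.Cfsg.Agent.H482.F2Poly.evP.eq_1]
  try have : _root_.True := by simp only [_root_.Cfsg.Agent.H482.F2Poly.okT.eq_2]
  try have : _root_.True := by simp only [_root_.Cfsg.Agent.H482.SzBase.N9.eq_1]
  try have : _root_.True := by simp only [_root_.Cfsg.Agent.H482.F2Poly.check.eq_1]
  try have : _root_.True := by simp only [_root_.Cfsg.Agent.H482.F2Poly.allDeg.eq_1]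
  try have : _root_.True := by simp only [_root_.Cfsg.Agent.H482.F2Poly.allDeg.eq_def]
  try have : _root_.True := by simp only [_root_.Cfsg.Agent.H482.F2Poly.evP.eq_def]
  try have : _root_.True := by simp only [_root_.Cfsg.Agent.H482.SzBase.N13.eq_1]
  try have : _root_.True := by simp only [_root_.Cfsg.Agent.H482.VSeq.v0.eq_1]
  try have : _root_.True := by simp only [_root_.Cfsg.Agent.H482.SzCert.Rs.eq_1]
  try have : _root_.True := by simp only [_root_.Cfsg.Agent.H482.F2Poly.okT.eq_1]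
  try have : _root_.True := by simp only [_root_.Cfsg.Agent.H482.SzCert.N_cone0.eq_1]
  try have : _root_.True := by simp only [_root_.Cfsg.Agent.H482.SzCert.a_nT0.eq_1]
  try have : _root_.True := by simp only [_root_.Cfsg.Agent.H482.SzCert.R8.eq_1]
  try have : _root_.True := by simp only [_root_.Cfsg.Agent.H482.F2Poly.evP.eq_2]
  try have : _root_.True := by simp only [_root_.Cfsg.Agent.H482.F2Poly.allDeg.eq_2]
  try have : _root_.True := by simp only [_root_.Cfsg.Agent.H482.F2Poly.degLe.eq_3]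
  try have : _root_.True := by simp only [_root_.Cfsg.Agent.H482.SzBase.a_u.eq_1]
  try have : _root_.True := by simp only [_root_.Cfsg.Agent.H482.F2Poly.pbits.eq_def]
  try have : _root_.True := by simp only [_root_.Cfsg.Agent.H482.SzCert.R4.eq_1]
  try have : _root_.True := by simp only [_root_.Cfsg.Agent.H482.F2Poly.addB.eq_1]
  try have : _root_.True := by simp only [_root_.Cfsg.Agent.H482.SzCert.R15.eq_1]
  try have : _root_.True := by simp only [_root_.Cfsg.Agent.H482.SzCert.N_fin1.eq_1]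
  try have : _root_.True := by simp only [_root_.Cfsg.Agent.H482.SzCert.a_nz.eq_1]
  try have : _root_.True := by simp only [_root_.Cfsg.Agent.H482.SzBase.Rs.eq_1]
  try have : _root_.True := by simp only [_root_.Cfsg.Agent.H482.F2Poly.bnd.eq_1]
  try have : _root_.True := by simp only [_root_.Cfsg.Agent.H482.SzBase.N1.eq_1]
  try have : _root_.True := by simp only [_root_.Cfsg.Agent.H482.SzCert.R9.eq_1]
  try have : _root_.True := by simp only [_root_.Cfsg.Agent.H482.F2Poly.par.eq_1]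
  try have : _root_.True := by simp only [_root_.Cfsg.Agent.H482.SzBase.N4.eq_1]
  try have : _root_.True := by simp only [_root_.Cfsg.Agent.H482.F2Poly.par.eq_def]
  try have : _root_.True := by simp only [_root_.Cfsg.Agent.H482.F2Poly.bnd.eq_2]
  try have : _root_.True := by simp only [_root_.Cfsg.Agent.H482.SzCert.a_p.eq_1]
  try have : _root_.True := by simp only [_root_.Cfsg.Agent.H482.F2Poly.sbits.eq_def]
  try have : _root_.True := by simp only [_root_.Cfsg.Agent.H482.F2Poly.evS.eq_def]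
  try have : _root_.True := by simp only [_root_.Cfsg.Agent.H482.SzCert.R0.eq_1]
  try have : _root_.True := by simp only [_root_.Cfsg.Agent.H482.F2Poly.okB.eq_1]
  try have : _root_.True := by simp only [_root_.Cfsg.Agent.H482.F2Poly.evM.eq_1]
  try have : _root_.True := by simp only [_root_.Cfsg.Agent.H482.SzBase.N3.eq_1]
  try have : _root_.True := by simp only [_root_.Cfsg.Agent.H482.SzCert.a_q.eq_1]
  try have : _root_.True := by simp only [_root_.Cfsg.Agent.H482.F2Poly.evProd.eq_1]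
  try have : _root_.True := by simp only [_root_.Cfsg.Agent.H482.SzCert.R5.eq_1]
  try have : _root_.True := by simp only [_root_.Cfsg.Agent.H482.SzBase.N2.eq_1]
  try have : _root_.True := by simp only [_root_.Cfsg.Agent.H482.F2Poly.pbits.eq_2]
  try have : _root_.True := by simp only [_root_.Cfsg.Agent.H482.SzCert.R6.eq_1]
  try have : _root_.True := by simp only [_root_.Cfsg.Agent.H482.F2Poly.addB.eq_def]
  try have : _root_.True := by simp only [_root_.Cfsg.Agent.H482.F2Poly.evProd.eq_2]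
  try have : _root_.True := by simp only [_root_.Cfsg.Agent.H482.SzBase.a_m.eq_1]
  try have : _root_.True := by simp only [_root_.Cfsg.Agent.H482.SzCert.a_nW2.eq_1]
  try have : _root_.True := by simp only [_root_.Cfsg.Agent.H482.F2Poly.evM.eq_2]
  try have : _root_.True := by simp only [_root_.Cfsg.Agent.H482.SzCert.a_nT2.eq_1]
  try have : _root_.True := by simp only [_root_.Cfsg.Agent.H482.SzCert.a_r.eq_1]
  try have : _root_.True := by simp only [_root_.Cfsg.Agent.H482.SzBase.N12.eq_1]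
  try have : _root_.True := by simp only [_root_.Cfsg.Agent.H482.F2Poly.pbits.eq_1]
  exact _root_.True.intro
end

-- part: H482/SzFixed
section
prune_inst 0x40004000000000000010000000200000040000000000608000060808000880424000301000021084808040080040001000000000000000000000000101000000020080180800800000000000000000000000000000000000000000000000000000000
set_option linter.all false
open scoped Cfsg.Agent.FastGrp

-- part: H896/SuzTab
section
/-!
# Transfer tables for the Suzuki case of S3935 (task 443, helper896): the kernel computation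

A table is a natural number of 6400 bits; the bit `80 i + j` is the entry `(i, j)`, where the index of the state `(a, b)` is
`8 a + b`, `a < 10`, `b < 8`.
-/

set_option autoImplicit false

namespace Cfsg.Agent.H896.SuzTab

/-- the table with rows `f 0, …, f (k - 1)` -/
def build (f : ℕ → ℕ) : ℕ → ℕ
  | 0 => 0
  | k + 1 => 2 ^ (80 * k) * f k + build f k

/-- row `k` -/
def row (T k : ℕ) : ℕ := (T >>> (80 * k)) % 2 ^ 80

/-- one row of the step -/
def rowStep (G : List (ℕ × ℕ)) (T i : ℕ) : ℕ :=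
  match G with
  | [] => 0
  | m :: G => (if (i / 8 + m.1) % 2 = 0 then row T (8 * (i % 8 + m.2) + (i / 8 + m.1) / 2) else 0) ^^^ rowStep G T i

/-- the step for the letter `G` -/
def stepT (G : List (ℕ × ℕ)) (T : ℕ) : ℕ := build (rowStep G T) 80

def LA : List (ℕ × ℕ) := [(0, 0), (3, 2), (4, 2)]
def LN : List (ℕ × ℕ) := [(0, 0), (3, 1)]
def xA : List (ℕ × ℕ) := [(1, 0), (4, 2), (5, 2)]
def xN : List (ℕ × ℕ) := [(1, 0), (4, 1)]

/-- the identity table -/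
def idT : ℕ := build (fun k => 2 ^ k) 80

/-- the main step -/
def F (s : ℕ × ℕ) : ℕ × ℕ := (stepT LA s.1, stepT xA s.1 ^^^ stepT LA s.2)

/-- the table of the word `N, N, A, …, A` -/
def fin (s : ℕ × ℕ) : ℕ :=
  stepT xN (stepT LN s.1) ^^^ stepT LN (stepT xN s.1) ^^^ stepT LN (stepT LN s.2)

/-- the parity of the diagonal -/
def diag (T : ℕ) : ℕ → Bool
  | 0 => false
  | k + 1 => xor (T.testBit (81 * k)) (diag T k)

def chk (s : ℕ × ℕ) : Bool := diag (fin s) 80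

def allc : ℕ → ℕ × ℕ → Bool
  | 0, _ => true
  | k + 1, s => chk s && allc k (F (F s))

def s0 : ℕ × ℕ := (idT, 0)

end Cfsg.Agent.H896.SuzTab
end

-- part: H896/SuzCount
section
/-!
# Transfer tables for the Suzuki case of S3935 (task 443, helper896): exponent lists

`E0 w`, `E1 w` : the exponents (with multiplicity) of the products `P0 w`, `P1 w`; `cn L n t` : the parity of the number of
`e ∈ L` with `n + e = t`.
-/

set_option autoImplicit false

namespace Cfsg.Agent.H896.SuzTab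

/-! ### bits -/

theorem build_lt {f : ℕ → ℕ} (hf : ∀ k, f k < 2 ^ 80) (n : ℕ) : build f n < 2 ^ (80 * n) := by
  induction n with
  | zero => simp [build]
  | succ n ih =>
    have h1 := hf n
    have h2 : (2 : ℕ) ^ (80 * (n + 1)) = 2 ^ (80 * n) * 2 ^ 80 := by rw [← pow_add]; ring_nf
    rw [build, h2]
    calc 2 ^ (80 * n) * f n + build f n < 2 ^ (80 * n) * f n + 2 ^ (80 * n) := by omega
      _ = 2 ^ (80 * n) * (f n + 1) := by ring
      _ ≤ _ := Nat.mul_le_mul_left _ h1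

theorem testBit_build {f : ℕ → ℕ} (hf : ∀ k, f k < 2 ^ 80) {n i j : ℕ} (hi : i < n) (hj : j < 80) :
    (build f n).testBit (80 * i + j) = (f i).testBit j := by
  induction n with
  | zero => omega
  | succ n ih =>
    rw [build, Nat.testBit_two_pow_mul_add _ (build_lt hf n)]
    by_cases h : i < n
    · rw [if_pos (by omega), ih h]
    · have h1 : i = n := by omega
      subst h1
      rw [if_neg (by omega)]
      congr 1
      omega

theorem rowStep_lt (G : List (ℕ × ℕ)) (T i : ℕ) : rowStep G T i < 2 ^ 80 := by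
  induction G with
  | nil => rw [rowStep]; positivity
  | cons m G ih =>
    rw [rowStep]
    apply Nat.xor_lt_two_pow _ ih
    split_ifs
    · exact Nat.mod_lt _ (by positivity)
    · positivity

/-- the entry -/
def tb (T : ℕ) (n n' : ℕ × ℕ) : Bool := T.testBit (80 * (8 * n.1 + n.2) + (8 * n'.1 + n'.2))

/-- the step, on functions -/
def sgm (G : List (ℕ × ℕ)) (f : ℕ × ℕ → Bool) (n : ℕ × ℕ) : Bool :=
  match G with
  | [] => false
  | m :: G => xor (if (n.1 + m.1) % 2 = 0 then f (n.2 + m.2, (n.1 + m.1) / 2) else false) (sgm G f n)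

/-- the states -/
def Box (n : ℕ × ℕ) : Prop := n.1 < 10 ∧ n.2 < 8

theorem testBit_row (T k : ℕ) {j : ℕ} (hj : j < 80) : (row T k).testBit j = T.testBit (80 * k + j) := by
  rw [row, Nat.testBit_mod_two_pow, Nat.testBit_shiftRight]
  simp [hj]

theorem testBit_rowStep (G : List (ℕ × ℕ)) (T : ℕ) {n n' : ℕ × ℕ} (hn : Box n) (hn' : Box n') :
    (rowStep G T (8 * n.1 + n.2)).testBit (8 * n'.1 + n'.2) = sgm G (fun k => tb T k n') n := by
  have h1 : (8 * n.1 + n.2) / 8 = n.1 := by have := hn.2; omega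
  have h2 : (8 * n.1 + n.2) % 8 = n.2 := by have := hn.2; omega
  have h3 : 8 * n'.1 + n'.2 < 80 := by have := hn'.1; have := hn'.2; omega
  induction G with
  | nil => rw [rowStep, sgm, Nat.zero_testBit]
  | cons m G ih =>
    rw [rowStep, sgm, Nat.testBit_xor, ih, h1, h2]
    congr 1
    split_ifs
    · rw [testBit_row _ _ h3]
      rfl
    · rw [Nat.zero_testBit]

theorem tb_stepT (G : List (ℕ × ℕ)) (T : ℕ) {n n' : ℕ × ℕ} (hn : Box n) (hn' : Box n') :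
    tb (stepT G T) n n' = sgm G (fun k => tb T k n') n := by
  rw [tb, stepT, testBit_build (rowStep_lt G T) (by have := hn.1; have := hn.2; omega)
    (by have := hn'.1; have := hn'.2; omega), testBit_rowStep G T hn hn']

theorem tb_xor (S T : ℕ) (n n' : ℕ × ℕ) : tb (S ^^^ T) n n' = xor (tb S n n') (tb T n n') := by
  rw [tb, Nat.testBit_xor]
  rfl

theorem tb_idT {n n' : ℕ × ℕ} (hn : Box n) (hn' : Box n') : tb idT n n' = decide (n.1 = n'.1 ∧ n.2 = n'.2) := by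
  have h1 := hn.1
  have h2 := hn.2
  have h3 := hn'.1
  have h4 := hn'.2
  have key : ∀ k : ℕ, (if k < 80 then 2 ^ k else 0) < 2 ^ 80 := by
    intro k
    split_ifs with h
    · exact Nat.pow_lt_pow_right (by norm_num) h
    · positivity
  have hb : idT = build (fun k => if k < 80 then 2 ^ k else 0) 80 := by
    have : ∀ n ≤ 80, build (fun k => 2 ^ k) n = build (fun k => if k < 80 then 2 ^ k else 0) n := by
      intro n hn
      induction n with
      | zero => rfl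
      | succ n ih => rw [build, build, ih (by omega), if_pos (by omega)]
    rw [idT, this 80 le_rfl]
  rw [tb, hb]
  clear hb
  rw [testBit_build key (by omega) (by omega), if_pos (by omega), Nat.testBit_two_pow]
  congr 1
  apply propext
  constructor
  · intro h
    omega
  · rintro ⟨h, h'⟩
    omega

/-! ### exponent lists -/

def cmb (G L : List (ℕ × ℕ)) : List (ℕ × ℕ) :=
  match G with
  | [] => []
  | m :: G => L.map (fun e => (m.1 + 2 * e.2, m.2 + e.1)) ++ cmb G L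

def xL (G : List (ℕ × ℕ)) : List (ℕ × ℕ) := G.map fun m => (m.1 + 1, m.2)

def E0 : List (List (ℕ × ℕ)) → List (ℕ × ℕ)
  | [] => [(0, 0)]
  | G :: w => cmb G (E0 w)

def E1 : List (List (ℕ × ℕ)) → List (ℕ × ℕ)
  | [] => []
  | G :: w => cmb (xL G) (E0 w) ++ cmb G (E1 w)

/-- parity of the number of `e ∈ L` with `n + e = t` -/
def cn (L : List (ℕ × ℕ)) (n t : ℕ × ℕ) : Bool :=
  match L with
  | [] => false
  | e :: L => xor (decide (n.1 + e.1 = t.1 ∧ n.2 + e.2 = t.2)) (cn L n t)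

theorem cn_append (L L' : List (ℕ × ℕ)) (n t : ℕ × ℕ) : cn (L ++ L') n t = xor (cn L n t) (cn L' n t) := by
  induction L with
  | nil => rw [List.nil_append, cn, Bool.false_xor]
  | cons e L ih => rw [List.cons_append, cn, cn, ih, Bool.xor_assoc]

def Mv (t : ℕ × ℕ) : ℕ × ℕ := (2 * t.2, t.1)

def Mp (l : ℕ) (t : ℕ × ℕ) : ℕ × ℕ := Mv^[l] t

theorem Mp_succ (l : ℕ) (t : ℕ × ℕ) : Mp (l + 1) t = Mv (Mp l t) := Function.iterate_succ_apply' _ _ _

theorem Mp_odd (m : ℕ) (t : ℕ × ℕ) : Mp (2 * m + 1) t = (2 ^ (m + 1) * t.2, 2 ^ m * t.1) := by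
  induction m with
  | zero => simp [Mp, Mv]
  | succ m ih =>
    have : 2 * (m + 1) + 1 = 2 * m + 1 + 1 + 1 := by ring
    rw [this, Mp_succ, Mp_succ, ih]
    simp only [Mv]
    ext <;> simp <;> ring

theorem cn_map (m : ℕ × ℕ) (L : List (ℕ × ℕ)) (n t : ℕ × ℕ) :
    cn (L.map fun e => (m.1 + 2 * e.2, m.2 + e.1)) n (Mv t) =
      if (n.1 + m.1) % 2 = 0 then cn L (n.2 + m.2, (n.1 + m.1) / 2) t else false := by
  induction L with
  | nil => rw [List.map_nil, cn, cn]; simp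
  | cons e L ih =>
    rw [List.map_cons, cn, cn, ih]
    by_cases h : (n.1 + m.1) % 2 = 0
    · rw [if_pos h, if_pos h]
      congr 1
      apply decide_eq_decide.2
      simp only [Mv]
      constructor
      · rintro ⟨h1, h2⟩
        constructor <;> omega
      · rintro ⟨h1, h2⟩
        constructor <;> omega
    · rw [if_neg h, if_neg h, Bool.xor_false, decide_eq_false_iff_not]
      simp only [Mv]
      rintro ⟨h1, h2⟩
      omega

theorem cn_cmb (G L : List (ℕ × ℕ)) (n t : ℕ × ℕ) : cn (cmb G L) n (Mv t) = sgm G (fun k => cn L k t) n := by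
  induction G with
  | nil => rfl
  | cons m G ih => rw [cmb, cn_append, cn_map, ih, sgm]

/-- the letters -/
def Small (G : List (ℕ × ℕ)) : Prop := ∀ m ∈ G, m.1 ≤ 5 ∧ m.2 ≤ 2

theorem small_LA : Small LA := by unfold Small LA; decide
theorem small_LN : Small LN := by unfold Small LN; decide
theorem small_xA : Small xA := by unfold Small xA; decide
theorem small_xN : Small xN := by unfold Small xN; decide
theorem xL_LA : xL LA = xA := rfl
theorem xL_LN : xL LN = xN := rfl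

theorem sgm_congr {G : List (ℕ × ℕ)} (hG : Small G) {f g : ℕ × ℕ → Bool} (h : ∀ k, Box k → f k = g k)
    {n : ℕ × ℕ} (hn : Box n) : sgm G f n = sgm G g n := by
  induction G with
  | nil => rfl
  | cons m G ih =>
    rw [sgm, sgm, ih (fun m hm => hG m (List.mem_cons_of_mem _ hm))]
    congr 1
    have hm := hG m (List.mem_cons_self)
    split_ifs
    · apply h
      have h1 := hn.1
      have h2 := hn.2
      constructor
      · show n.2 + m.2 < 10
        omega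
      · show (n.1 + m.1) / 2 < 8
        omega
    · rfl

theorem sgm_xor (G : List (ℕ × ℕ)) (f g : ℕ × ℕ → Bool) (n : ℕ × ℕ) :
    sgm G (fun k => xor (f k) (g k)) n = xor (sgm G f n) (sgm G g n) := by
  induction G with
  | nil => rfl
  | cons m G ih =>
    rw [sgm, sgm, sgm, ih]
    split_ifs
    · generalize f (n.2 + m.2, (n.1 + m.1) / 2) = a
      generalize g (n.2 + m.2, (n.1 + m.1) / 2) = b
      generalize sgm G f n = c
      generalize sgm G g n = d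
      revert a b c d
      decide
    · simp only [Bool.false_xor]

theorem cn_zero (n t : ℕ × ℕ) : cn (E0 []) n t = decide (n.1 = t.1 ∧ n.2 = t.2) := by
  rw [E0, cn, cn, Bool.xor_false]
  simp

/-- **the tables count** -/
theorem main_tab (l : ℕ) : ∀ n n', Box n → Box n' →
    tb (F^[l] s0).1 n n' = cn (E0 (List.replicate l LA)) n (Mp l n') ∧
      tb (F^[l] s0).2 n n' = cn (E1 (List.replicate l LA)) n (Mp l n') := by
  induction l with
  | zero =>
    intro n n' hn hn'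
    constructor
    · rw [List.replicate_zero, cn_zero]
      exact tb_idT hn hn'
    · show tb 0 n n' = false
      rw [tb, Nat.zero_testBit]
  | succ l ih =>
    intro n n' hn hn'
    rw [Function.iterate_succ_apply', Mp_succ, List.replicate_succ]
    constructor
    · rw [F, tb_stepT _ _ hn hn', E0, cn_cmb]
      exact sgm_congr small_LA (fun k hk => (ih k n' hk hn').1) hn
    · rw [F, tb_xor, tb_stepT _ _ hn hn', tb_stepT _ _ hn hn', E1, cn_append, cn_cmb, cn_cmb, xL_LA]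
      congr 1
      · exact sgm_congr small_xA (fun k hk => (ih k n' hk hn').1) hn
      · exact sgm_congr small_LA (fun k hk => (ih k n' hk hn').2) hn

theorem main_fin (l : ℕ) {n n' : ℕ × ℕ} (hn : Box n) (hn' : Box n') :
    tb (fin (F^[l] s0)) n n' = cn (E1 (LN :: LN :: List.replicate l LA)) n (Mp (l + 2) n') := by
  have h0 : ∀ k, Box k → tb (F^[l] s0).1 k n' = cn (E0 (List.replicate l LA)) k (Mp l n') :=
    fun k hk => (main_tab l k n' hk hn').1
  have h1 : ∀ k, Box k → tb (F^[l] s0).2 k n' = cn (E1 (List.replicate l LA)) k (Mp l n') :=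
    fun k hk => (main_tab l k n' hk hn').2
  rw [fin, tb_xor, tb_xor, tb_stepT _ _ hn hn', tb_stepT _ _ hn hn', tb_stepT _ _ hn hn',
    show l + 2 = l + 1 + 1 from rfl, Mp_succ, E1, cn_append, cn_cmb, cn_cmb, xL_LN]
  have e1 : sgm xN (fun k => tb (stepT LN (F^[l] s0).1) k n') n =
      sgm xN (fun k => cn (E0 (LN :: List.replicate l LA)) k (Mp (l + 1) n')) n := by
    apply sgm_congr small_xN _ hn
    intro k hk
    rw [tb_stepT _ _ hk hn', Mp_succ, E0, cn_cmb]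
    exact sgm_congr small_LN h0 hk
  have e2 : sgm LN (fun k => cn (E1 (LN :: List.replicate l LA)) k (Mp (l + 1) n')) n =
      xor (sgm LN (fun k => tb (stepT xN (F^[l] s0).1) k n') n)
        (sgm LN (fun k => tb (stepT LN (F^[l] s0).2) k n') n) := by
    rw [← sgm_xor]
    apply sgm_congr small_LN _ hn
    intro k hk
    rw [tb_stepT _ _ hk hn', tb_stepT _ _ hk hn', Mp_succ, E1, cn_append, cn_cmb, cn_cmb, xL_LN]
    congr 1
    · exact (sgm_congr small_xN h0 hk).symm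
    · exact (sgm_congr small_LN h1 hk).symm
  rw [e1, e2, Bool.xor_assoc]

end Cfsg.Agent.H896.SuzTab
end

-- part: H896/SuzPer
section
/-!
# Transfer tables for the Suzuki case of S3935 (task 443, helper896): periodicity
-/

set_option autoImplicit false
set_option maxRecDepth 100000

namespace Cfsg.Agent.H896.SuzTab

private noncomputable def frc (x : ℕ) (k : ℕ → Bool) : Bool :=
  @Nat.rec (fun _ => Bool) (k 0) (fun n _ => k (Nat.succ n)) x

private theorem frc_eq (x : ℕ) (k : ℕ → Bool) : frc x k = k x := by cases x <;> rfl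

private noncomputable def rsF (G : List (ℕ × ℕ)) (T q r : ℕ) : ℕ :=
  @List.rec (ℕ × ℕ) (fun _ => ℕ) 0 (fun m _ ih => @Nat.rec (fun _ => ℕ)
    (Nat.xor (Nat.mod (Nat.shiftRight T (Nat.mul 80 (Nat.add (Nat.mul 8 (Nat.add r m.2)) (Nat.div (Nat.add q m.1) 2))))
      1208925819614629174706176) ih) (fun _ _ => ih) (Nat.mod (Nat.add q m.1) 2)) G

private theorem rsF_eq (G : List (ℕ × ℕ)) (T i : ℕ) : rowStep G T i = rsF G T (Nat.div i 8) (Nat.mod i 8) := by
  induction G with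
  | nil => rfl
  | cons m G ih =>
    rw [rowStep, ih]
    show _ = @Nat.rec (fun _ => ℕ) (row T (8 * (i % 8 + m.2) + (i / 8 + m.1) / 2) ^^^ rsF G T (Nat.div i 8) (Nat.mod i 8))
      (fun _ _ => rsF G T (Nat.div i 8) (Nat.mod i 8)) ((i / 8 + m.1) % 2)
    generalize (i / 8 + m.1) % 2 = c
    cases c with
    | zero => rfl
    | succ c => exact Nat.zero_xor _

private noncomputable def sF (G : List (ℕ × ℕ)) (T : ℕ) : ℕ :=
  @Nat.rec (fun _ => ℕ) 0 (fun k acc => Nat.add (Nat.shiftLeft (rsF G T (Nat.div k 8) (Nat.mod k 8)) (Nat.mul 80 k)) acc) 80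

private theorem sF_eq (G : List (ℕ × ℕ)) (T : ℕ) : sF G T = stepT G T := by
  have h : ∀ n : ℕ, @Nat.rec (fun _ => ℕ) 0
      (fun k acc => Nat.add (Nat.shiftLeft (rsF G T (Nat.div k 8) (Nat.mod k 8)) (Nat.mul 80 k)) acc) n = build (rowStep G T) n := by
    intro n
    induction n with
    | zero => rfl
    | succ n ih =>
      rw [build, ← ih, rsF_eq, Nat.mul_comm, ← Nat.shiftLeft_eq]
      rfl
  exact h 80

private noncomputable def nxF (a b : ℕ) (k : ℕ → ℕ → Bool) : Bool :=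
  frc (sF LA a) fun a1 => frc (Nat.xor (sF xA a) (sF LA b)) fun b1 => k a1 b1

private theorem nxF_eq (s : ℕ × ℕ) (k : ℕ → ℕ → Bool) : nxF s.1 s.2 k = k (F s).1 (F s).2 := by
  delta nxF
  rw [frc_eq, frc_eq, sF_eq, sF_eq, sF_eq]
  rfl

private noncomputable def ckF (a b : ℕ) : Bool :=
  frc (sF LN a) fun x => frc (sF xN a) fun y => frc (sF LN b) fun z =>
    frc (Nat.xor (Nat.xor (sF xN x) (sF LN y)) (sF LN z)) fun T => diag T 80

private theorem ckF_eq (s : ℕ × ℕ) : ckF s.1 s.2 = chk s := by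
  delta ckF
  rw [frc_eq, frc_eq, frc_eq, frc_eq, sF_eq, sF_eq, sF_eq, sF_eq, sF_eq, sF_eq]
  rfl

private noncomputable def itF (k : ℕ → ℕ → Bool) (n : ℕ) : ℕ → ℕ → Bool :=
  @Nat.rec (fun _ => ℕ → ℕ → Bool) k (fun _ ih a b => nxF a b ih) n

private theorem itF_eq (k : ℕ → ℕ → Bool) (n : ℕ) : ∀ s : ℕ × ℕ, itF k n s.1 s.2 = k (F^[n] s).1 (F^[n] s).2 := by
  induction n with
  | zero => intro s; rfl
  | succ n ih =>
    intro s
    rw [Function.iterate_succ_apply, ← ih, ← nxF_eq s (itF k n)]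
    rfl

private noncomputable def boF (e1 e2 : ℕ) (n : ℕ) : ℕ → ℕ → Bool :=
  @Nat.rec (fun _ => ℕ → ℕ → Bool) (fun a b => and (Nat.beq a e1) (Nat.beq b e2))
    (fun _ ih a b => and (ckF a b) (nxF a b fun a1 b1 => nxF a1 b1 ih)) n

private theorem boF_spec (e : ℕ × ℕ) (n : ℕ) : ∀ s : ℕ × ℕ, boF e.1 e.2 n s.1 s.2 = true → allc n s = true ∧ F^[2 * n] s = e := by
  induction n with
  | zero =>
    intro s h
    have h1 := Bool.and_eq_true_iff.1 h
    exact ⟨rfl, Prod.ext (Nat.eq_of_beq_eq_true h1.1) (Nat.eq_of_beq_eq_true h1.2)⟩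
  | succ n ih =>
    intro s h
    have h1 : ckF s.1 s.2 = true ∧ nxF s.1 s.2 (fun a1 b1 => nxF a1 b1 (boF e.1 e.2 n)) = true := Bool.and_eq_true_iff.1 h
    have h3 : nxF (F s).1 (F s).2 (boF e.1 e.2 n) = true :=
      (nxF_eq s (fun a1 b1 => nxF a1 b1 (boF e.1 e.2 n))).symm.trans h1.2
    have h2 := ih (F (F s)) ((nxF_eq (F s) (boF e.1 e.2 n)).symm.trans h3)
    refine ⟨?_, ?_⟩
    · rw [allc, h2.1, ← ckF_eq, h1.1]
      rfl
    · rw [show 2 * (n + 1) = 2 * n + 1 + 1 from rfl, Function.iterate_succ_apply, Function.iterate_succ_apply]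
      exact h2.2

private theorem bothG (s : ℕ × ℕ)
    (h : frc s.1 (fun z => itF (fun a b => itF (fun e1 e2 => boF e1 e2 35 a b) 10 a b) 3 z s.2) = true) :
    allc 35 (F^[3] s) = true ∧ F^[2 * 35] (F^[3] s) = F^[10] (F^[3] s) := by
  rw [frc_eq, itF_eq, itF_eq] at h
  exact boF_spec _ _ _ h

private theorem both : allc 35 (F^[3] s0) = true ∧ F^[2 * 35] (F^[3] s0) = F^[10] (F^[3] s0) :=
  bothG s0 (by decide +kernel)

theorem allc_eq : allc 35 (F^[3] s0) = true := both.1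

theorem per_eq : F^[60] (F^[13] s0) = F^[13] s0 := by
  have h := both.2
  rw [← Function.iterate_add_apply, ← Function.iterate_add_apply] at h
  rw [← Function.iterate_add_apply]
  exact h

theorem allc_spec (k : ℕ) : ∀ s, allc k s = true → ∀ i < k, chk (F^[2 * i] s) = true := by
  induction k with
  | zero => intro s _ i hi; omega
  | succ k ih =>
    intro s h i hi
    rw [allc, Bool.and_eq_true] at h
    rcases i with _ | i
    · exact h.1
    · have h1 := ih _ h.2 i (by omega)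
      have h2 : F^[2 * (i + 1)] s = F^[2 * i] (F (F s)) := by
        rw [show 2 * (i + 1) = 2 * i + 1 + 1 by ring, Function.iterate_succ_apply, Function.iterate_succ_apply]
      rw [h2]
      exact h1

theorem iterate_per {l : ℕ} (hl : 13 ≤ l) : F^[l + 60] s0 = F^[l] s0 := by
  obtain ⟨j, rfl⟩ := Nat.exists_eq_add_of_le hl
  have h1 : 13 + j + 60 = j + (60 + 13) := by ring
  rw [h1, Function.iterate_add_apply F j, Function.iterate_add_apply F 60, per_eq, ← Function.iterate_add_apply,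
    Nat.add_comm j 13]

theorem chk_odd (l : ℕ) : 3 ≤ l → l % 2 = 1 → chk (F^[l] s0) = true := by
  induction l using Nat.strong_induction_on with
  | _ l ih =>
    intro h3 ho
    by_cases h : l < 73
    · have h1 := allc_spec 35 _ allc_eq ((l - 3) / 2) (by omega)
      rw [← Function.iterate_add_apply] at h1
      have h2 : 2 * ((l - 3) / 2) + 3 = l := by omega
      rwa [h2] at h1
    · have h1 := ih (l - 60) (by omega) (by omega) (by omega)
      have h2 := iterate_per (l := l - 60) (by omega)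
      have h4 : l - 60 + 60 = l := by omega
      rw [h4] at h2
      rwa [h2]

end Cfsg.Agent.H896.SuzTab
end

-- part: H896/SuzSum
section
/-!
# Finite field existence for the Suzuki case of S3935 (task 443, helper896)
-/

set_option autoImplicit false

namespace Cfsg.Agent.H896.SuzTab

open Finset

/-! ### arithmetic of the carries -/

def st (i : ℕ) : ℕ × ℕ := (i / 8, i % 8)

theorem box_st {i : ℕ} (hi : i < 80) : Box (st i) := by
  constructor
  · show i / 8 < 10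
    omega
  · show i % 8 < 8
    omega

theorem bound_E (w : List (List (ℕ × ℕ))) (hw : ∀ G ∈ w, Small G ∧ Small (xL G)) :
    (∀ e ∈ E0 w, 9 + e.1 ≤ (Mp w.length (9, 7)).1 ∧ 7 + e.2 ≤ (Mp w.length (9, 7)).2) ∧
    (∀ e ∈ E1 w, 9 + e.1 ≤ (Mp w.length (9, 7)).1 ∧ 7 + e.2 ≤ (Mp w.length (9, 7)).2) := by
  have key : ∀ (G L : List (ℕ × ℕ)) (t : ℕ × ℕ), Small G → (∀ e ∈ L, 9 + e.1 ≤ t.1 ∧ 7 + e.2 ≤ t.2) →
      ∀ e ∈ cmb G L, 9 + e.1 ≤ (Mv t).1 ∧ 7 + e.2 ≤ (Mv t).2 := by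
    intro G
    induction G with
    | nil =>
      intro L t _ _ e he
      simp [cmb] at he
    | cons m G ih =>
      intro L t hG hL e he
      rw [cmb, List.mem_append] at he
      rcases he with he | he
      · obtain ⟨e', he', rfl⟩ := List.mem_map.1 he
        have h1 := hL e' he'
        have h2 := hG m List.mem_cons_self
        simp only [Mv]
        omega
      · exact ih L t (fun m hm => hG m (List.mem_cons_of_mem _ hm)) hL e he
  induction w with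
  | nil =>
    constructor
    · intro e he
      rw [E0, List.mem_singleton] at he
      subst he
      exact ⟨le_rfl, le_rfl⟩
    · intro e he
      simp [E1] at he
  | cons G w ih =>
    have hG := hw G List.mem_cons_self
    have ih' := ih fun G hG => hw G (List.mem_cons_of_mem _ hG)
    rw [List.length_cons, Mp_succ]
    constructor
    · intro e he
      rw [E0] at he
      exact key _ _ _ hG.1 ih'.1 e he
    · intro e he
      rw [E1, List.mem_append] at he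
      rcases he with he | he
      · exact key _ _ _ hG.2 ih'.1 e he
      · exact key _ _ _ hG.1 ih'.2 e he

section K

variable {K : Type*} [Field K]

def b2 (b : Bool) : K := if b then 1 else 0

theorem b2_xor [CharP K 2] (a b : Bool) : (b2 (xor a b) : K) = b2 a + b2 b := by
  have h2 := CharTwo.two_eq_zero (R := K)
  cases a <;> cases b <;> simp [b2]
  linear_combination -h2

theorem b2_diag [CharP K 2] (T k : ℕ) : (b2 (diag T k) : K) = ∑ i ∈ range k, b2 (T.testBit (81 * i)) := by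
  induction k with
  | zero => rfl
  | succ k ih => rw [diag, b2_xor, ih, sum_range_succ, add_comm]

theorem count_single {m : ℕ} {e : ℕ × ℕ} (h1 : 9 + e.1 ≤ (Mp (2 * m + 1) (9, 7)).1)
    (h2 : 7 + e.2 ≤ (Mp (2 * m + 1) (9, 7)).2) :
    (∑ i ∈ range 80, b2 (decide ((st i).1 + e.1 = (Mp (2 * m + 1) (st i)).1 ∧
      (st i).2 + e.2 = (Mp (2 * m + 1) (st i)).2)) : K) =
      if 2 ^ (2 * m + 1) - 1 ∣ e.1 + 2 ^ (m + 1) * e.2 then 1 else 0 := by
  simp only [Mp_odd, st] at h1 h2 ⊢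
  obtain ⟨e1, e2⟩ := e
  simp only at h1 h2 ⊢
  set Q := 2 ^ m with hQ
  have hQ0 : 0 < Q := by positivity
  have hq : 2 ^ (2 * m + 1) = 2 * (Q * Q) := by rw [hQ]; ring
  have hq' : 2 ^ (m + 1) = 2 * Q := by rw [hQ]; ring
  rw [hq, hq']
  rw [hq'] at h1
  have hpos : 0 < 2 * (Q * Q) - 1 := by
    have : 0 < Q * Q := by positivity
    omega
  -- the value
  have hval : ∀ i : ℕ, (i / 8 + e1 = 2 * Q * (i % 8) ∧ i % 8 + e2 = Q * (i / 8)) →
      e1 + 2 * Q * e2 = (2 * (Q * Q) - 1) * (i / 8) := by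
    rintro i ⟨h3, h4⟩
    have h5 : e1 + 2 * Q * e2 + i / 8 = 2 * (Q * Q) * (i / 8) := by
      calc e1 + 2 * Q * e2 + i / 8 = (i / 8 + e1) + 2 * Q * e2 := by ring
        _ = 2 * Q * (i % 8 + e2) := by rw [h3]; ring
        _ = 2 * (Q * Q) * (i / 8) := by rw [h4]; ring
    rw [Nat.sub_mul, one_mul, ← h5, Nat.add_sub_cancel]
  by_cases h : 2 * (Q * Q) - 1 ∣ e1 + 2 * Q * e2
  · rw [if_pos h]
    obtain ⟨a, ha⟩ := h
    have ha' : e1 + 2 * Q * e2 + a = 2 * Q * (Q * a) := by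
      rw [ha, Nat.sub_mul, one_mul]
      have : a ≤ 2 * (Q * Q) * a := Nat.le_mul_of_pos_left _ (by positivity)
      rw [Nat.sub_add_cancel this]
      ring
    have hle : e2 ≤ Q * a := by
      have h3 : 2 * Q * e2 ≤ 2 * Q * (Q * a) := by omega
      exact Nat.le_of_mul_le_mul_left h3 (by positivity)
    obtain ⟨b, hb⟩ := Nat.exists_eq_add_of_le hle
    have hb1 : a + e1 = 2 * Q * b := by
      rw [hb, Nat.mul_add] at ha'
      omega
    have ha9 : a < 10 := by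
      have h3 : (2 * (Q * Q) - 1) * a ≤ (2 * (Q * Q) - 1) * 9 := by
        rw [← ha]
        have h4 : e1 + 2 * Q * e2 + 9 ≤ 2 * (Q * Q) * 9 := by
          have h5 : 2 * Q * (7 + e2) ≤ 2 * Q * (Q * 9) := Nat.mul_le_mul_left _ h2
          have h6 : 2 * Q * (7 + e2) = 2 * Q * 7 + 2 * Q * e2 := by ring
          have h7 : 2 * Q * (Q * 9) = 2 * (Q * Q) * 9 := by ring
          omega
        rw [Nat.sub_mul]
        omega
      have := Nat.le_of_mul_le_mul_left h3 hpos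
      omega
    have hb8 : b < 8 := by
      have h3 : 2 * Q * b ≤ 2 * Q * 7 := by omega
      have := Nat.le_of_mul_le_mul_left h3 (by positivity)
      omega
    have key : ∀ i ∈ range 80, (b2 (decide (i / 8 + e1 = 2 * Q * (i % 8) ∧ i % 8 + e2 = Q * (i / 8))) : K) =
        if i = 8 * a + b then 1 else 0 := by
      intro i hi
      by_cases hi' : i = 8 * a + b
      · have h3 : i / 8 = a := by omega
        have h4 : i % 8 = b := by omega
        rw [if_pos hi', h3, h4, b2, if_pos]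
        apply decide_eq_true
        exact ⟨hb1, by omega⟩
      · rw [if_neg hi', b2, if_neg]
        intro h3
        apply hi'
        have h4 := of_decide_eq_true h3
        have h5 := hval i h4
        rw [ha] at h5
        have h6 : a = i / 8 := Nat.eq_of_mul_eq_mul_left hpos h5
        have h7 := h4.2
        rw [← h6] at h7
        omega
    rw [sum_congr rfl key, sum_ite_eq', if_pos]
    rw [mem_range]
    omega
  · rw [if_neg h]
    apply sum_eq_zero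
    intro i _
    rw [b2, if_neg]
    intro h3
    apply h
    have h4 := hval i (of_decide_eq_true h3)
    exact ⟨_, h4⟩

theorem count_list [CharP K 2] {m : ℕ} (L : List (ℕ × ℕ)) (h : ∀ e ∈ L, 9 + e.1 ≤ (Mp (2 * m + 1) (9, 7)).1 ∧
    7 + e.2 ≤ (Mp (2 * m + 1) (9, 7)).2) :
    (∑ i ∈ range 80, b2 (cn L (st i) (Mp (2 * m + 1) (st i))) : K) =
      (L.map fun e => if 2 ^ (2 * m + 1) - 1 ∣ e.1 + 2 ^ (m + 1) * e.2 then (1 : K) else 0).sum := by
  induction L with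
  | nil =>
    rw [List.map_nil, List.sum_nil]
    apply sum_eq_zero
    intro i _
    rfl
  | cons e L ih =>
    rw [List.map_cons, List.sum_cons, ← ih fun e he => h e (List.mem_cons_of_mem _ he),
      ← count_single (h e List.mem_cons_self).1 (h e List.mem_cons_self).2, ← sum_add_distrib]
    apply sum_congr rfl
    intro i _
    rw [cn, b2_xor]

theorem total [CharP K 2] {m : ℕ} (hm : 2 ≤ m) :
    ((E1 (LN :: LN :: List.replicate (2 * m - 1) LA)).map fun e =>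
      if 2 ^ (2 * m + 1) - 1 ∣ e.1 + 2 ^ (m + 1) * e.2 then (1 : K) else 0).sum = 1 := by
  have hb := (bound_E (LN :: LN :: List.replicate (2 * m - 1) LA) (by
    intro G hG
    rw [List.mem_cons, List.mem_cons, List.mem_replicate] at hG
    rcases hG with rfl | rfl | ⟨-, rfl⟩
    · exact ⟨small_LN, by rw [xL_LN]; exact small_xN⟩
    · exact ⟨small_LN, by rw [xL_LN]; exact small_xN⟩
    · exact ⟨small_LA, by rw [xL_LA]; exact small_xA⟩)).2
  have hl : (LN :: LN :: List.replicate (2 * m - 1) LA).length = 2 * m + 1 := by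
    rw [List.length_cons, List.length_cons, List.length_replicate]
    omega
  rw [hl] at hb
  rw [← count_list _ hb]
  have h1 : ∀ i ∈ range 80, (b2 (cn (E1 (LN :: LN :: List.replicate (2 * m - 1) LA)) (st i)
      (Mp (2 * m + 1) (st i))) : K) = b2 ((fin (F^[2 * m - 1] s0)).testBit (81 * i)) := by
    intro i hi
    have h2 := box_st (mem_range.1 hi)
    have h3 := main_fin (2 * m - 1) h2 h2
    have h4 : 2 * m - 1 + 2 = 2 * m + 1 := by omega
    rw [h4] at h3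
    rw [← h3, tb]
    congr 2
    simp only [st]
    omega
  rw [sum_congr rfl h1, ← b2_diag]
  have h5 : diag (fin (F^[2 * m - 1] s0)) 80 = true := chk_odd (2 * m - 1) (by omega) (by omega)
  rw [h5]
  rfl

end K

end Cfsg.Agent.H896.SuzTab
end

-- part: H896/SuzExists
section
/-!
# Finite field existence for the Suzuki case of S3935 (task 443, helper896): the field part
-/

set_option autoImplicit false

namespace Cfsg.Agent.H896.SuzTab

open Finset

section Val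

variable {K : Type*} [Field K] (θ : K →+* K)

/-- the value of an exponent list -/
def val (L : List (ℕ × ℕ)) (x : K) : K := (L.map fun e => x ^ e.1 * θ x ^ e.2).sum

theorem val_nil (x : K) : val θ [] x = 0 := rfl

theorem val_cons (e : ℕ × ℕ) (L : List (ℕ × ℕ)) (x : K) : val θ (e :: L) x = x ^ e.1 * θ x ^ e.2 + val θ L x := by
  rw [val, List.map_cons, List.sum_cons]
  rfl

theorem val_append (L L' : List (ℕ × ℕ)) (x : K) : val θ (L ++ L') x = val θ L x + val θ L' x := by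
  rw [val, List.map_append, List.sum_append]
  rfl

theorem val_xL (G : List (ℕ × ℕ)) (x : K) : val θ (xL G) x = x * val θ G x := by
  induction G with
  | nil => rw [xL, List.map_nil, val_nil, mul_zero]
  | cons m G ih =>
    rw [xL, List.map_cons, val_cons, val_cons, ← xL, ih]
    ring

theorem val_cmb (hθθ : ∀ z, θ (θ z) = z ^ 2) (G L : List (ℕ × ℕ)) (x : K) :
    val θ (cmb G L) x = val θ G x * θ (val θ L x) := by
  have key : ∀ (m : ℕ × ℕ) (L : List (ℕ × ℕ)),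
      val θ (L.map fun e => (m.1 + 2 * e.2, m.2 + e.1)) x = x ^ m.1 * θ x ^ m.2 * θ (val θ L x) := by
    intro m L
    induction L with
    | nil => rw [List.map_nil, val_nil, map_zero, mul_zero]
    | cons e L ih =>
      rw [List.map_cons, val_cons, ih, val_cons, map_add, map_mul, map_pow, map_pow, hθθ]
      ring
  induction G with
  | nil => rw [cmb, val_nil, zero_mul]
  | cons m G ih =>
    rw [cmb, val_append, key, ih, val_cons]
    ring

theorem val_E0_cons (hθθ : ∀ z, θ (θ z) = z ^ 2) (G : List (ℕ × ℕ)) (w : List (List (ℕ × ℕ))) (x : K) :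
    val θ (E0 (G :: w)) x = val θ G x * θ (val θ (E0 w) x) := by
  rw [E0, val_cmb θ hθθ]

theorem val_E0_replicate (hθθ : ∀ z, θ (θ z) = z ^ 2) (G : List (ℕ × ℕ)) (l : ℕ) (x : K) :
    val θ (E0 (List.replicate l G)) x = ∏ t ∈ range l, θ^[t] (val θ G x) := by
  induction l with
  | zero => rw [List.replicate_zero, E0, val_cons, val_nil, prod_range_zero]; simp
  | succ l ih =>
    rw [List.replicate_succ, val_E0_cons θ hθθ, ih, prod_range_succ', map_prod, Function.iterate_zero_apply, mul_comm]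
    congr 1
    apply prod_congr rfl
    intro t _
    rw [Function.iterate_succ_apply']

theorem val_E1 (hθθ : ∀ z, θ (θ z) = z ^ 2) (w : List (List (ℕ × ℕ))) (x : K) :
    val θ (E1 w) x = (∑ t ∈ range w.length, θ^[t] x) * val θ (E0 w) x := by
  induction w with
  | nil => rw [E1, val_nil, List.length_nil, sum_range_zero, zero_mul]
  | cons G w ih =>
    rw [E1, val_append, val_cmb θ hθθ, val_cmb θ hθθ, ih, List.length_cons, sum_range_succ', val_E0_cons θ hθθ,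
      val_xL, map_mul, map_sum, Function.iterate_zero_apply]
    have h1 : ∀ t ∈ range w.length, θ (θ^[t] x) = θ^[t + 1] x := by
      intro t _
      rw [Function.iterate_succ_apply']
    rw [sum_congr rfl h1]
    ring

theorem val_LA (x : K) : val θ LA x = 1 + x ^ 3 * θ x ^ 2 + x ^ 4 * θ x ^ 2 := by
  rw [LA, val_cons, val_cons, val_cons, val_nil]
  ring

theorem val_LN (x : K) : val θ LN x = 1 + x ^ 3 * θ x := by
  rw [LN, val_cons, val_cons, val_nil]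
  ring

end Val

section Fin

variable {K : Type*} [Field K] [Fintype K] {m : ℕ} (hK : Fintype.card K = 2 ^ (2 * m + 1)) (θ : K →+* K)
  (hθ : ∀ x, θ x = x ^ 2 ^ (m + 1))

include hK in
theorem charP_two : CharP K 2 := by
  obtain ⟨p, hp⟩ := CharP.exists K
  have := hp
  obtain ⟨n, hpp, hn⟩ := FiniteField.card K p
  have h1 : p ∣ 2 ^ (2 * m + 1) := by
    rw [← hK, hn]
    exact dvd_pow_self _ n.ne_zero
  have h2 : p = 2 := (Nat.prime_dvd_prime_iff_eq hpp Nat.prime_two).1 (hpp.dvd_of_dvd_pow h1)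
  subst h2
  exact hp

include hK hθ in
theorem theta_theta (z : K) : θ (θ z) = z ^ 2 := by
  have h1 : z ^ 2 ^ (2 * m + 1) = z := by
    rw [← hK]
    exact FiniteField.pow_card z
  rw [hθ (θ z), hθ z, ← pow_mul, ← pow_add]
  have h2 : m + 1 + (m + 1) = (2 * m + 1) + 1 := by ring
  rw [h2, pow_add, pow_mul, h1, pow_one]

include hK hθ in
theorem iter_even (j : ℕ) (z : K) : θ^[2 * j] z = z ^ 2 ^ j := by
  induction j with
  | zero => simp
  | succ j ih =>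
    have h1 : 2 * (j + 1) = 2 * j + 1 + 1 := by ring
    rw [h1, Function.iterate_succ_apply', Function.iterate_succ_apply', theta_theta hK θ hθ, ih, ← pow_mul, pow_succ]

include hK hθ in
theorem iter_full (z : K) : θ^[2 * m + 1] z = z := by
  rw [Function.iterate_succ_apply', iter_even hK θ hθ, hθ, ← pow_mul, ← pow_add]
  have h2 : m + (m + 1) = 2 * m + 1 := by ring
  rw [h2, ← hK]
  exact FiniteField.pow_card z

include hK hθ in
theorem fixed (z : K) (h : θ z = z) : z = 0 ∨ z = 1 := by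
  have h1 := theta_theta hK θ hθ z
  rw [h, h] at h1
  have h2 : z * (z - 1) = 0 := by linear_combination -h1
  rcases mul_eq_zero.1 h2 with h3 | h3
  · exact Or.inl h3
  · exact Or.inr (sub_eq_zero.1 h3)

/-- the trace -/
def tr (m : ℕ) (θ : K →+* K) (z : K) : K := ∑ t ∈ range (2 * m + 1), θ^[t] z

omit [Fintype K] in
theorem tr_add (a b : K) : tr m θ (a + b) = tr m θ a + tr m θ b := by
  rw [tr, tr, tr, ← sum_add_distrib]
  apply sum_congr rfl
  intro t _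
  exact iterate_map_add θ t a b

omit [Fintype K] in
theorem tr_zero : tr m θ (0 : K) = 0 := by
  rw [tr]
  apply sum_eq_zero
  intro t _
  exact iterate_map_zero θ t

omit [Fintype K] in
theorem tr_one [CharP K 2] : tr m θ (1 : K) = 1 := by
  rw [tr]
  have h1 : ∀ t ∈ range (2 * m + 1), θ^[t] (1 : K) = 1 := fun t _ => iterate_map_one θ t
  have h2 := CharTwo.two_eq_zero (R := K)
  rw [sum_congr rfl h1, sum_const, card_range, nsmul_eq_mul, mul_one]
  push_cast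
  rw [h2]
  ring

omit [Fintype K] in
theorem tr_sum {ι : Type*} (s : Finset ι) (f : ι → K) : tr m θ (∑ i ∈ s, f i) = ∑ i ∈ s, tr m θ (f i) := by
  classical
  induction s using Finset.induction_on with
  | empty => rw [sum_empty, sum_empty, tr_zero]
  | insert a s ha ih => rw [sum_insert ha, sum_insert ha, tr_add, ih]

include hK hθ in
theorem theta_tr (z : K) : θ (tr m θ z) = tr m θ z := by
  have h1 : θ (tr m θ z) = ∑ t ∈ range (2 * m + 1), θ^[t + 1] z := by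
    rw [tr, map_sum]
    apply sum_congr rfl
    intro t _
    rw [Function.iterate_succ_apply']
  have h2 := sum_range_succ (fun t => θ^[t] z) (2 * m + 1)
  rw [sum_range_succ' (fun t => θ^[t] z) (2 * m + 1)] at h2
  simp only [Function.iterate_zero_apply, iter_full hK θ hθ z] at h2
  rw [h1, tr]
  exact add_right_cancel h2

include hK hθ in
theorem tr_theta (z : K) : tr m θ (θ z) = tr m θ z := by
  rw [← theta_tr hK θ hθ z, tr, tr, map_sum]
  apply sum_congr rfl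
  intro t _
  rw [← Function.iterate_succ_apply, Function.iterate_succ_apply']

include hK hθ in
theorem tr_mem (z : K) : tr m θ z = 0 ∨ tr m θ z = 1 := fixed hK θ hθ _ (theta_tr hK θ hθ z)

include hK hθ in
theorem norm_one {z : K} (hz : z ≠ 0) : ∏ t ∈ range (2 * m + 1), θ^[t] z = 1 := by
  have h1 : θ (∏ t ∈ range (2 * m + 1), θ^[t] z) = ∏ t ∈ range (2 * m + 1), θ^[t + 1] z := by
    rw [map_prod]
    apply prod_congr rfl
    intro t _
    rw [Function.iterate_succ_apply']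
  have h2 := prod_range_succ (fun t => θ^[t] z) (2 * m + 1)
  rw [prod_range_succ' (fun t => θ^[t] z) (2 * m + 1)] at h2
  simp only [Function.iterate_zero_apply, iter_full hK θ hθ z] at h2
  have h3 := mul_right_cancel₀ hz h2
  rcases fixed hK θ hθ _ (h1.trans h3) with h4 | h4
  · exfalso
    rw [prod_eq_zero_iff] at h4
    obtain ⟨t, _, h5⟩ := h4
    apply hz
    have h6 : θ^[t] z = θ^[t] 0 := by
      rw [h5]
      exact (iterate_map_zero θ t).symm
    exact θ.injective.iterate t h6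
  · exact h4

include hK hθ in
theorem sum_units [DecidableEq K] [CharP K 2] (L : List (ℕ × ℕ)) : ∑ x : Kˣ, val θ L (x : K) =
    (L.map fun e => if 2 ^ (2 * m + 1) - 1 ∣ e.1 + 2 ^ (m + 1) * e.2 then (1 : K) else 0).sum := by
  induction L with
  | nil => simp [val_nil]
  | cons e L ih =>
    have h0 : ∀ x ∈ (univ : Finset Kˣ), val θ (e :: L) (x : K) = (x : K) ^ e.1 * θ (x : K) ^ e.2 + val θ L (x : K) :=
      fun x _ => val_cons θ e L (x : K)
    rw [List.map_cons, List.sum_cons, ← ih, sum_congr rfl h0, sum_add_distrib]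
    congr 1
    have h1 : ∀ x ∈ (univ : Finset Kˣ), (x : K) ^ e.1 * θ (x : K) ^ e.2 = (x : K) ^ (e.1 + 2 ^ (m + 1) * e.2) := by
      intro x _
      rw [hθ, ← pow_mul, ← pow_add]
    rw [sum_congr rfl h1, FiniteField.sum_pow_units, hK, CharTwo.neg_eq]

/-- the numerator and the denominator -/
def gv (m : ℕ) (θ : K →+* K) (x : K) : K := val θ (E0 (LN :: LN :: List.replicate (2 * m - 1) LA)) x

include hK hθ in
theorem gv_ne {x : K} (hm : 2 ≤ m) (hA : val θ LA x ≠ 0) :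
    gv m θ x = val θ LN x / val θ LA x * θ (val θ LN x / val θ LA x) := by
  have hθθ := theta_theta hK θ hθ
  have h1 := norm_one hK θ hθ hA
  have h2 : 2 * m + 1 = (2 * m - 1) + 1 + 1 := by omega
  rw [h2, prod_range_succ', prod_range_succ'] at h1
  have h3 : ∀ t ∈ range (2 * m - 1), θ^[t + 1 + 1] (val θ LA x) = θ (θ (θ^[t] (val θ LA x))) := by
    intro t _
    rw [Function.iterate_succ_apply', Function.iterate_succ_apply']
  rw [prod_congr rfl h3] at h1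
  simp only [Function.iterate_zero_apply, zero_add, Function.iterate_one] at h1
  rw [gv, val_E0_cons θ hθθ, val_E0_cons θ hθθ, val_E0_replicate θ hθθ, map_mul, map_prod, map_prod, map_div₀]
  have h4 : θ (val θ LA x) ≠ 0 := (map_ne_zero θ).2 hA
  field_simp
  linear_combination val θ LN x * θ (val θ LN x) * h1

include hK hθ in
theorem gv_eq {x : K} (hm : 2 ≤ m) (hA : val θ LA x = 0) : gv m θ x = 0 := by
  have hθθ := theta_theta hK θ hθ
  rw [gv, val_E0_cons θ hθθ, val_E0_cons θ hθθ, val_E0_replicate θ hθθ, hA]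
  have h1 : ∏ t ∈ range (2 * m - 1), θ^[t] (0 : K) = 0 := by
    apply prod_eq_zero (i := 0)
    · rw [mem_range]
      omega
    · rfl
  rw [h1, map_zero, mul_zero, map_zero, mul_zero]

include hK hθ in
theorem exists_tr [CharP K 2] (hm : 2 ≤ m) : ∃ x : K, x ≠ 0 ∧ val θ LA x ≠ 0 ∧
    tr m θ (val θ LN x / val θ LA x * θ (val θ LN x / val θ LA x)) = 1 := by
  classical
  have hθθ := theta_theta hK θ hθ
  by_contra hcon
  push Not at hcon
  have h1 : ∑ x : Kˣ, tr m θ (x : K) * gv m θ (x : K) = 1 := by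
    rw [← total (K := K) hm, ← sum_units hK θ hθ]
    apply sum_congr rfl
    intro x _
    rw [val_E1 θ hθθ, gv, tr]
    congr 3
    rw [List.length_cons, List.length_cons, List.length_replicate]
    omega
  have h2 : ∀ x : Kˣ, tr m θ (gv m θ (x : K)) = 0 := by
    intro x
    by_cases hA : val θ LA (x : K) = 0
    · rw [gv_eq hK θ hθ hm hA, tr_zero]
    · rw [gv_ne hK θ hθ hm hA]
      exact (tr_mem hK θ hθ _).resolve_right (hcon _ x.ne_zero hA)
  have h3 := congrArg (tr m θ) h1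
  rw [tr_sum, tr_one] at h3
  have h4 : ∀ x ∈ (univ : Finset Kˣ), tr m θ (tr m θ (x : K) * gv m θ (x : K)) = 0 := by
    intro x _
    rcases tr_mem hK θ hθ (x : K) with h | h
    · rw [h, zero_mul, tr_zero]
    · rw [h, one_mul]
      exact h2 x
  rw [sum_eq_zero h4] at h3
  exact zero_ne_one h3

omit [Fintype K] in
theorem exists_y [CharP K 2] {c : K} (hc : tr m θ c = 0) : ∃ y : K, y + θ y = c := by
  have h2 := CharTwo.two_eq_zero (R := K)
  refine ⟨∑ i ∈ range m, θ^[2 * i + 1] c, ?_⟩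
  have key : ∀ n : ℕ, ∑ i ∈ range n, θ^[2 * i + 1] c + θ (∑ i ∈ range n, θ^[2 * i + 1] c) =
      ∑ t ∈ range (2 * n + 1), θ^[t] c - c := by
    intro n
    induction n with
    | zero => simp
    | succ n ih =>
      have h3 : 2 * (n + 1) + 1 = 2 * n + 1 + 1 + 1 := by ring
      rw [h3, sum_range_succ _ (2 * n + 1 + 1), sum_range_succ _ (2 * n + 1), sum_range_succ _ n, map_add,
        ← Function.iterate_succ_apply' (⇑θ) (2 * n + 1) c]
      linear_combination ih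
  rw [key, ← tr, hc]
  linear_combination -c * h2

end Fin

/-- **the existence for the Suzuki case** -/
theorem exists_xy {K : Type*} [Field K] [Fintype K] {m : ℕ} (hm : 2 ≤ m) (hK : Fintype.card K = 2 ^ (2 * m + 1))
    (θ : K →+* K) (hθ : ∀ x, θ x = x ^ (2 ^ (m + 1))) :
    ∃ x y : K, x ≠ 0 ∧ 1 + x ^ 3 * θ x ^ 2 + x ^ 4 * θ x ^ 2 ≠ 0 ∧
      y + θ y = ((x ^ 3 * θ x ^ 2 + x ^ 4 * θ x ^ 2 + x ^ 3 * θ x) / (1 + x ^ 3 * θ x ^ 2 + x ^ 4 * θ x ^ 2)) *
        θ ((x ^ 3 * θ x ^ 2 + x ^ 4 * θ x ^ 2 + x ^ 3 * θ x) / (1 + x ^ 3 * θ x ^ 2 + x ^ 4 * θ x ^ 2)) := by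
  have := charP_two hK
  have h2 := CharTwo.two_eq_zero (R := K)
  obtain ⟨x, hx, hA, hT⟩ := exists_tr hK θ hθ hm
  rw [val_LA] at hA hT
  rw [val_LN] at hT
  set A := 1 + x ^ 3 * θ x ^ 2 + x ^ 4 * θ x ^ 2 with hAdef
  set k := (1 + x ^ 3 * θ x) / A with hk
  have hh : (x ^ 3 * θ x ^ 2 + x ^ 4 * θ x ^ 2 + x ^ 3 * θ x) / A = 1 + k := by
    rw [hk, eq_comm, ← sub_eq_zero]
    field_simp
    rw [hAdef]
    linear_combination h2
  have hc : tr m θ ((1 + k) * θ (1 + k)) = 0 := by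
    have h3 : (1 + k) * θ (1 + k) = 1 + k + θ k + k * θ k := by
      rw [map_add, map_one]
      ring
    rw [h3, tr_add, tr_add, tr_add, tr_theta hK θ hθ, tr_one, hT]
    linear_combination (1 + tr m θ k) * h2
  obtain ⟨y, hy⟩ := exists_y θ hc
  refine ⟨x, y, hx, hA, ?_⟩
  rw [← hAdef, hh]
  exact hy

end Cfsg.Agent.H896.SuzTab
end

-- part: H64/VsSz
section
/-!
# A fixed pair for the words `v_n` in `Sz(8)` (for S3935)
-/

set_option autoImplicit false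
set_option linter.unusedSectionVars false

namespace Cfsg.Agent.H64.VsSz

open Cfsg.Agent.H482.VSeq
open Matrix hiding J
open Cfsg.Agent.LieRecognition.SzMatrix

variable {F : Type*} [Field F]

theorem mul_eq (A B C : Matrix (Fin 4) (Fin 4) F)
    (h : ∀ i j, A i 0 * B 0 j + A i 1 * B 1 j + A i 2 * B 2 j + A i 3 * B 3 j = C i j) : A * B = C := by
  ext i j
  rw [Matrix.mul_apply, Fin.sum_univ_four, h]

theorem one_eq : (1 : Matrix (Fin 4) (Fin 4) F) = !![1, 0, 0, 0; 0, 1, 0, 0; 0, 0, 1, 0; 0, 0, 0, 1] := by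
  ext i j
  fin_cases i <;> fin_cases j <;> rfl

def mX (t : F) : Matrix (Fin 4) (Fin 4) F := !![0, 0, 0, 1; 0, 0, 1, 0; 0, 1, 0, t; 1, 0, t, t ^ 2 + t]
def mY (t : F) : Matrix (Fin 4) (Fin 4) F := !![t ^ 2, 0, t ^ 2, t ^ 2; t ^ 2 + t, t ^ 2 + 1, t ^ 2 + t, t + 1; 0, 1, t, 1; 1, t ^ 2, t, t]
def mXI (t : F) : Matrix (Fin 4) (Fin 4) F := !![t ^ 2 + t, t, 0, 1; t, 0, 1, 0; 0, 1, 0, 0; 1, 0, 0, 0]
def mYI (t : F) : Matrix (Fin 4) (Fin 4) F := !![t, 1, t + 1, t ^ 2; t, t, t ^ 2 + t, t ^ 2; t ^ 2, 1, t ^ 2 + 1, 0; 1, 0, t ^ 2 + t, t ^ 2]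
def mP1 (t : F) : Matrix (Fin 4) (Fin 4) F := !![t ^ 2 + t + 1, t ^ 2 + t + 1, t, t ^ 2 + t; t ^ 2 + t + 1, t ^ 2 + 1, 0, t; t, 0, 1, 0; t ^ 2 + t, t, 0, 1]
def mP2 (t : F) : Matrix (Fin 4) (Fin 4) F := !![t ^ 2 + 1, 0, t ^ 2 + 1, t ^ 2 + 1; t ^ 2 + t, t ^ 2 + t, t ^ 2 + t, 0; 0, t + 1, t + 1, t + 1; t, t, 0, t]
def mV (t : F) : Matrix (Fin 4) (Fin 4) F := !![t ^ 2 + 1, t ^ 2 + 1, 1, t ^ 2 + t + 1; 0, t ^ 2 + t, t ^ 2 + t, 1; t + 1, t + 1, t ^ 2 + 1, t ^ 2 + t + 1; t, 0, t ^ 2 + t, t ^ 2 + 1]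
def mA1 (t : F) : Matrix (Fin 4) (Fin 4) F := !![t, 0, t ^ 2 + t, t ^ 2 + 1; t + 1, t + 1, t ^ 2 + 1, t ^ 2 + t + 1; t ^ 2, t ^ 2 + t, 1, 0; t ^ 2, t + 1, t, 1]
def mA (t : F) : Matrix (Fin 4) (Fin 4) F := !![t, t, 0, t; 0, t + 1, t + 1, t + 1; t, t, t ^ 2 + t, t ^ 2; t, 1, t + 1, t ^ 2]
def mB1 (t : F) : Matrix (Fin 4) (Fin 4) F := !![t ^ 2 + t, t ^ 2 + 1, t + 1, t; t ^ 2, 1, t ^ 2 + t + 1, 1; t ^ 2, 0, 1, 1; t ^ 2 + t + 1, t ^ 2 + t, t, t ^ 2 + t + 1]
def mB (t : F) : Matrix (Fin 4) (Fin 4) F := !![t + 1, t ^ 2, 1, t ^ 2; 1, 1, 1, t ^ 2 + t; t ^ 2 + t, t ^ 2 + 1, t ^ 2, t; t ^ 2 + t, t, t ^ 2 + 1, t ^ 2 + 1]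
def mC (t : F) : Matrix (Fin 4) (Fin 4) F := !![t + 1, t ^ 2 + 1, 1, t ^ 2 + 1; t + 1, 1, 0, t + 1; t + 1, 1, t ^ 2 + t + 1, 1; t + 1, t ^ 2 + 1, t ^ 2 + t, 1]
def mD1 (t : F) : Matrix (Fin 4) (Fin 4) F := !![t + 1, t ^ 2 + t + 1, t, t ^ 2 + 1; t, t ^ 2 + t + 1, t ^ 2 + t, 0; 1, t ^ 2 + t, t ^ 2, 1; t ^ 2 + t + 1, 1, 0, t + 1]
def mU1 (t : F) : Matrix (Fin 4) (Fin 4) F := !![1, 0, t, t ^ 2 + t; 0, 1, 0, t; 0, 0, 1, 0; 0, 0, 0, 1]
def mU2 (t : F) : Matrix (Fin 4) (Fin 4) F := !![1, 0, t ^ 2 + t, t ^ 2; 0, 1, 0, t ^ 2 + t; 0, 0, 1, 0; 0, 0, 0, 1]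
def mU3 (t : F) : Matrix (Fin 4) (Fin 4) F := !![1, t ^ 2, t, t; 0, 1, t, 1; 0, 0, 1, t ^ 2; 0, 0, 0, 1]
def mY1 (t : F) : Matrix (Fin 4) (Fin 4) F := !![t ^ 2, t ^ 2 + t, 0, 1; t ^ 2 + t, 0, 1, 0; 0, 1, 0, 0; 1, 0, 0, 0]

/-- the element of the field with a code below `8` -/
private def ev (t : F) (k : ℕ) : F :=
  match k with
  | 0 => 0
  | 1 => 1
  | 2 => t
  | 3 => t + 1
  | 4 => t ^ 2
  | 5 => t ^ 2 + 1
  | 6 => t ^ 2 + t
  | _ + 7 => t ^ 2 + t + 1

private def tr (k : ℕ) : ℕ × ℕ × ℕ :=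
  match k with
  | 0 => (0, 0, 0)
  | 1 => (1, 0, 0)
  | 2 => (0, 1, 0)
  | 3 => (1, 1, 0)
  | 4 => (0, 0, 1)
  | 5 => (1, 0, 1)
  | 6 => (0, 1, 1)
  | _ + 7 => (1, 1, 1)

private def evT (t : F) (x : ℕ × ℕ × ℕ) : F := x.1 + x.2.1 * t + x.2.2 * t ^ 2

private theorem ev_eq (t : F) (k : ℕ) : ev t k = evT t (tr k) := by
  match k with
  | 0 => show (0 : F) = (0 : ℕ) + (0 : ℕ) * t + (0 : ℕ) * t ^ 2; push_cast; ring
  | 1 => show (1 : F) = (1 : ℕ) + (0 : ℕ) * t + (0 : ℕ) * t ^ 2; push_cast; ring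
  | 2 => show (t : F) = (0 : ℕ) + (1 : ℕ) * t + (0 : ℕ) * t ^ 2; push_cast; ring
  | 3 => show (t + 1 : F) = (1 : ℕ) + (1 : ℕ) * t + (0 : ℕ) * t ^ 2; push_cast; ring
  | 4 => show (t ^ 2 : F) = (0 : ℕ) + (0 : ℕ) * t + (1 : ℕ) * t ^ 2; push_cast; ring
  | 5 => show (t ^ 2 + 1 : F) = (1 : ℕ) + (0 : ℕ) * t + (1 : ℕ) * t ^ 2; push_cast; ring
  | 6 => show (t ^ 2 + t : F) = (0 : ℕ) + (1 : ℕ) * t + (1 : ℕ) * t ^ 2; push_cast; ring
  | _ + 7 => show (t ^ 2 + t + 1 : F) = (1 : ℕ) + (1 : ℕ) * t + (1 : ℕ) * t ^ 2; push_cast; ring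

private def mulT (x y : ℕ × ℕ × ℕ) : ℕ × ℕ × ℕ :=
  (x.1 * y.1 + (x.2.1 * y.2.2 + x.2.2 * y.2.1), x.1 * y.2.1 + x.2.1 * y.1 + (x.2.1 * y.2.2 + x.2.2 * y.2.1) + x.2.2 * y.2.2,
    x.1 * y.2.2 + x.2.1 * y.2.1 + x.2.2 * y.1 + x.2.2 * y.2.2)

private def addT (x y : ℕ × ℕ × ℕ) : ℕ × ℕ × ℕ := (x.1 + y.1, x.2.1 + y.2.1, x.2.2 + y.2.2)

private def cd (a i j : ℕ) : ℕ := a / 8 ^ (4 * i + j) % 8

private def mN (t : F) (a : ℕ) : Matrix (Fin 4) (Fin 4) F :=
  !![ev t (cd a 0 0), ev t (cd a 0 1), ev t (cd a 0 2), ev t (cd a 0 3); ev t (cd a 1 0), ev t (cd a 1 1), ev t (cd a 1 2), ev t (cd a 1 3);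
    ev t (cd a 2 0), ev t (cd a 2 1), ev t (cd a 2 2), ev t (cd a 2 3); ev t (cd a 3 0), ev t (cd a 3 1), ev t (cd a 3 2), ev t (cd a 3 3)]

private theorem mN_apply (t : F) (a : ℕ) (i j : Fin 4) : mN t a i j = evT t (tr (cd a i j)) := by
  rw [← ev_eq]
  match i, j with
  | 0, 0 | 0, 1 | 0, 2 | 0, 3 | 1, 0 | 1, 1 | 1, 2 | 1, 3 | 2, 0 | 2, 1 | 2, 2 | 2, 3 | 3, 0 | 3, 1 | 3, 2 | 3, 3 => rfl

private def md (x : ℕ × ℕ × ℕ) : ℕ × ℕ × ℕ := (x.1 % 2, x.2.1 % 2, x.2.2 % 2)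

private theorem evT_add (t : F) (x y : ℕ × ℕ × ℕ) : evT t (addT x y) = evT t x + evT t y := by
  delta evT addT
  push_cast
  ring

section
variable {t : F} (h0 : (2 : F) = 0) (ht : t ^ 3 + t + 1 = 0)
include h0 ht

private theorem evT_mul (x y : ℕ × ℕ × ℕ) : evT t (mulT x y) = evT t x * evT t y := by
  have h3 : t ^ 3 = t + 1 := by linear_combination ht - (t + 1) * h0
  delta evT mulT
  push_cast
  linear_combination (-((x.2.1 : F) * y.2.2 + x.2.2 * y.2.1) - x.2.2 * y.2.2 * t) * h3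

private theorem evT_md (x : ℕ × ℕ × ℕ) : evT t (md x) = evT t x := by
  have h : ∀ n : ℕ, ((n % 2 : ℕ) : F) = n := by
    intro n
    conv_rhs => rw [← Nat.mod_add_div n 2]
    push_cast
    rw [h0, zero_mul, add_zero]
  delta evT md
  rw [h, h, h]

private theorem mulM (a b c : ℕ) (h : ∀ i j : Fin 4, md (addT (addT (addT (mulT (tr (cd a i (0 : Fin 4))) (tr (cd b (0 : Fin 4) j)))
    (mulT (tr (cd a i (1 : Fin 4))) (tr (cd b (1 : Fin 4) j)))) (mulT (tr (cd a i (2 : Fin 4))) (tr (cd b (2 : Fin 4) j))))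
    (mulT (tr (cd a i (3 : Fin 4))) (tr (cd b (3 : Fin 4) j)))) = tr (cd c i j)) : mN t a * mN t b = mN t c := by
  refine mul_eq _ _ _ fun i j => ?_
  rw [mN_apply, mN_apply, mN_apply, mN_apply, mN_apply, mN_apply, mN_apply, mN_apply, mN_apply, ← h i j, evT_md h0 ht,
    evT_add, evT_add, evT_add, evT_mul h0 ht, evT_mul h0 ht, evT_mul h0 ht, evT_mul h0 ht]

theorem e1 : mX t * mXI t = 1 :=
  (mulM h0 ht 219988359381504 68853965334 35185445863425 (by decide +kernel)).trans one_eq.symm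

theorem e2 : mY t * mYI t = 1 :=
  (mulM h0 ht 81443459623172 167200066971850 35185445863425 (by decide +kernel)).trans one_eq.symm

theorem e3 : mXI t * mXI t = mP1 t :=
  mulM h0 ht 68853965334 68853965334 36697312263359 (by decide +kernel)

theorem e4 : mP1 t * mYI t = mP2 t :=
  mulM h0 ht 36697312263359 167200066971850 71635090238277 (by decide +kernel)

theorem e5 : mP2 t * mX t = mV t :=
  mulM h0 ht 71635090238277 219988359381504 202513533570669 (by decide +kernel)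

theorem e6 : mX t * mV t = mA1 t :=
  mulM h0 ht 219988359381504 202513533570669 45906572721026 (by decide +kernel)

theorem e7 : mA1 t * mXI t = mA t :=
  mulM h0 ht 45906572721026 68853965334 154659934012434 (by decide +kernel)

theorem e8 : mY t * mV t = mB1 t :=
  mulM h0 ht 81443459623172 202513533570669 258876003632366 (by decide +kernel)

theorem e9 : mB1 t * mYI t = mB t :=
  mulM h0 ht 258876003632366 167200066971850 199446180960355 (by decide +kernel)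

theorem e10 : mA t * mB t = mC t :=
  mulM h0 ht 154659934012434 199446180960355 64543885671019 (by decide +kernel)

theorem e11 : mV t * mB t = mD1 t :=
  mulM h0 ht 202513533570669 199446180960355 106597617216187 (by decide +kernel)

theorem e12 : mD1 t * mA t = mC t :=
  mulM h0 ht 106597617216187 154659934012434 64543885671019 (by decide +kernel)

theorem e13 : J F * mU1 t = mX t :=
  mulM h0 ht 68853957120 35185450060929 219988359381504 (by decide +kernel)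

theorem e14 : mU2 t * J F = mY1 t :=
  mulM h0 ht 35185458448769 68853957120 68853981748 (by decide +kernel)

theorem e15 : mY1 t * mU3 t = mY t :=
  mulM h0 ht 68853981748 35219808224417 81443459623172 (by decide +kernel)
end

theorem Umat_eq (θ : F →+* F) (a b c d e : F) (hc : a * b + a ^ 2 * θ a + θ b = c) (hd : θ a = d)
    (he : b + a * θ a = e) :
    Umat θ a b = !![1, a, b, c; 0, 1, d, e; 0, 0, 1, a; 0, 0, 0, 1] := by
  subst hc hd he
  rfl

theorem inv_val {g : GL (Fin 4) F} {M N : Matrix (Fin 4) (Fin 4) F} (h : g.1 = M) (hMN : M * N = 1) :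
    (g⁻¹).1 = N := by
  have h1 : (g⁻¹).1 * g.1 = 1 := by
    rw [← Units.val_mul, inv_mul_cancel, Units.val_one]
  calc (g⁻¹).1 = (g⁻¹).1 * (M * N) := by rw [hMN, Matrix.mul_one]
    _ = ((g⁻¹).1 * g.1) * N := by rw [h, Matrix.mul_assoc]
    _ = N := by rw [h1, Matrix.one_mul]

theorem exists_root [Fintype F] (hF : Fintype.card F = 8) (h0 : (2 : F) = 0) :
    ∃ t : F, t ^ 3 + t + 1 = 0 := by
  classical
  obtain ⟨a, ha⟩ : ∃ a : F, a ∉ ({0, 1} : Finset F) := by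
    by_contra hcon
    push Not at hcon
    have h1 : Finset.univ ⊆ ({0, 1} : Finset F) := fun x _ => hcon x
    have h2 := Finset.card_le_card h1
    rw [Finset.card_univ, hF] at h2
    exact absurd (h2.trans Finset.card_le_two) (by norm_num)
  simp only [Finset.mem_insert, Finset.mem_singleton, not_or] at ha
  have h8 : a ^ 8 = a := by
    have := FiniteField.pow_card a
    rwa [hF] at this
  have h1 : (a * (a - 1)) * ((a ^ 3 + a + 1) * (a ^ 3 + a ^ 2 + 1)) = 0 := by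
    linear_combination h8 + (a ^ 5 - a ^ 4) * h0
  have h2 : a * (a - 1) ≠ 0 := mul_ne_zero ha.1 (sub_ne_zero.2 ha.2)
  rcases mul_eq_zero.1 ((mul_eq_zero.1 h1).resolve_left h2) with h | h
  · exact ⟨a, h⟩
  · exact ⟨a + 1, by linear_combination h + (a ^ 2 + 2 * a + 1) * h0⟩

theorem fixedPair_sz8 {F : Type*} [Field F] [Fintype F] (hF : Fintype.card F = 8) :
    FixedPair ↥(Cfsg.Lie.Sz F 4) := by
  have hF' : Fintype.card F = 2 ^ (2 * 1 + 1) := by rw [hF]; norm_num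
  have H : Good F (theta hF') 4 := good hF'
  have h0 : (2 : F) = 0 := H.two
  obtain ⟨t, ht⟩ := exists_root hF h0
  have hθ : ∀ x : F, theta hF' x = x ^ 4 := fun x => (H.pow x).symm
  have hU1 : Umat (theta hF') 0 t = mU1 t := by
    refine Umat_eq _ _ _ _ _ _ ?_ ?_ ?_
    · rw [hθ, hθ]; linear_combination (-t ^ 2 - t) * h0 + t * ht
    · rw [hθ]; ring
    · ring
  have hU2 : Umat (theta hF') 0 (t ^ 2 + t) = mU2 t := by
    refine Umat_eq _ _ _ _ _ _ ?_ ?_ ?_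
    · rw [hθ, hθ]
      linear_combination ((2) + (6) * t + (4) * t ^ 2) * h0 + ((-4) + (-8) * t + (-1) * t ^ 2 + (5) * t ^ 3 + (4) * t ^ 4 + (1) * t ^ 5) * ht
    · rw [hθ]; ring
    · ring
  have hU3 : Umat (theta hF') (t ^ 2) t = mU3 t := by
    refine Umat_eq _ _ _ _ _ _ ?_ ?_ ?_
    · rw [hθ, hθ]
      linear_combination ((-2) + (-2) * t + (2) * t ^ 2) * h0 + ((4) + (-1) * t + (-3) * t ^ 2 + (2) * t ^ 4 + (1) * t ^ 5 + (-1) * t ^ 6 + (-1) * t ^ 7 + (1) * t ^ 9) * ht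
    · rw [hθ]
      linear_combination ((-1) + (-2) * t) * h0 + ((2) + (1) * t + (-1) * t ^ 2 + (-1) * t ^ 3 + (1) * t ^ 5) * ht
    · rw [hθ]
      linear_combination ((1) + (2) * t + (-1) * t ^ 2) * h0 + ((-3) + (2) * t ^ 2 + (1) * t ^ 3 + (-1) * t ^ 4 + (-1) * t ^ 5 + (1) * t ^ 7) * ht
  let x : GL (Fin 4) F := W F * H.U 0 t
  let y : GL (Fin 4) F := H.U 0 (t ^ 2 + t) * W F * H.U (t ^ 2) t
  have hx : x ∈ Cfsg.Lie.Sz F 4 := mul_mem H.W_mem (H.U_mem _ _)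
  have hy : y ∈ Cfsg.Lie.Sz F 4 := mul_mem (mul_mem (H.U_mem _ _) H.W_mem) (H.U_mem _ _)
  have hxv : x.1 = mX t := by
    show J F * Umat (theta hF') 0 t = mX t
    rw [hU1, e13 h0 ht]
  have hyv : y.1 = mY t := by
    show Umat (theta hF') 0 (t ^ 2 + t) * J F * Umat (theta hF') (t ^ 2) t = mY t
    rw [hU2, hU3, e14 h0 ht, e15 h0 ht]
  have hxi : (x⁻¹).1 = mXI t := inv_val hxv (e1 h0 ht)
  have hyi : (y⁻¹).1 = mYI t := inv_val hyv (e2 h0 ht)
  have hv : (v0 x y).1 = mV t := by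
    rw [v0, Units.val_mul, Units.val_mul, Units.val_mul, hxi, hyi, hxv, e3 h0 ht, e4 h0 ht, e5 h0 ht]
  have hA : (x * v0 x y * x⁻¹).1 = mA t := by
    rw [Units.val_mul, Units.val_mul, hxi, hxv, hv, e6 h0 ht, e7 h0 ht]
  have hB : (y * v0 x y * y⁻¹).1 = mB t := by
    rw [Units.val_mul, Units.val_mul, hyi, hyv, hv, e8 h0 ht, e9 h0 ht]
  have hstp : stp x y (v0 x y) = v0 x y := by
    rw [stp, mul_inv_eq_iff_eq_mul, mul_inv_eq_iff_eq_mul]
    apply Units.ext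
    rw [Units.val_mul (x * v0 x y * x⁻¹), Units.val_mul (v0 x y * _), Units.val_mul (v0 x y) (y * v0 x y * y⁻¹),
      hA, hB, hv, e10 h0 ht, e11 h0 ht, e12 h0 ht]
  have hv1 : v0 x y ≠ 1 := by
    intro h
    have h1 : (v0 x y).1 0 2 = (1 : Matrix (Fin 4) (Fin 4) F) 0 2 := by rw [h]; rfl
    rw [hv, one_eq] at h1
    have h2 : (1 : F) = 0 := h1
    exact one_ne_zero h2
  refine ⟨⟨x, hx⟩, ⟨y, hy⟩, ?_, ?_⟩
  · intro h
    apply hv1
    have := congrArg Subtype.val h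
    exact this
  · apply Subtype.ext
    exact hstp

end Cfsg.Agent.H64.VsSz
end

-- part: H482/SzFixed
section
/-!
# Fixed pairs in the Suzuki groups over fields of degree an odd prime
-/

set_option autoImplicit false

namespace Cfsg.Agent.H482.SzFixed

open Cfsg.Agent.LieRecognition.SzMatrix Cfsg.Agent.H482.VSeq

variable {F : Type*} [Field F]

theorem not_seven_dvd {r : ℕ} (h3 : ¬ 3 ∣ r) : ¬ 7 ∣ 2 ^ r - 1 := by
  intro h
  have h1 : 1 ≤ 2 ^ r := Nat.one_le_two_pow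
  have hr : r = 3 * (r / 3) + r % 3 := (Nat.div_add_mod r 3).symm
  have h8 : 2 ^ (3 * (r / 3)) % 7 = 1 := by
    rw [pow_mul, Nat.pow_mod]
    norm_num
  have h5 : r % 3 = 1 ∨ r % 3 = 2 := by omega
  have h6 : 2 ^ r % 7 = (2 ^ (3 * (r / 3)) % 7) * (2 ^ (r % 3) % 7) % 7 := by
    conv_lhs => rw [hr]
    rw [pow_add, Nat.mul_mod]
  rw [h8] at h6
  rcases h5 with h5 | h5 <;> rw [h5] at h6 <;> omega

theorem u_ne_zero [Fintype F] {m : ℕ} (h3 : ¬ 3 ∣ 2 * m + 1) (hF : Fintype.card F = 2 ^ (2 * m + 1))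
    {θ : F →+* F} {e : ℕ} (H : Good F θ e) {x : F} (hx : x ≠ 0) : 1 + θ x + x * θ x ≠ 0 := by
  have h2 : (2 : F) = 0 := H.two
  intro h
  have h' := congrArg θ h
  simp only [map_add, map_mul, map_one, map_zero, H.sq] at h'
  generalize θ x = X at h h'
  have k1 : x ^ 3 * X = 1 := by linear_combination x ^ 2 * h - h'
  have k2 : x ^ 3 + x + 1 = 0 := by linear_combination x ^ 3 * h - (x + 1) * k1
  have k3 : x ^ 7 = 1 := by
    linear_combination (x ^ 4 + x ^ 2 + x + 1) * k2 - (x ^ 5 + x ^ 4 + x ^ 3 + x ^ 2 + x + 1) * h2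
  have k4 : x ^ (2 ^ (2 * m + 1) - 1) = 1 := by
    rw [← hF]; exact FiniteField.pow_card_sub_one_eq_one x hx
  have hc : Nat.Coprime 7 (2 ^ (2 * m + 1) - 1) :=
    (Nat.Prime.coprime_iff_not_dvd (by norm_num)).2 (not_seven_dvd h3)
  have k5 : x = 1 := by
    have h1 : orderOf x ∣ 7 := orderOf_dvd_of_pow_eq_one k3
    have h4 : orderOf x ∣ 2 ^ (2 * m + 1) - 1 := orderOf_dvd_of_pow_eq_one k4
    exact orderOf_eq_one_iff.1 (Nat.eq_one_of_dvd_coprimes hc h1 h4)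
  rw [k5] at k2
  apply one_ne_zero (α := F)
  linear_combination k2 - h2

theorem fixedPair_sz [Fintype F] {m : ℕ} (hm : 1 ≤ m) (hp : (2 * m + 1).Prime)
    (hF : Fintype.card F = 2 ^ (2 * m + 1)) : FixedPair ↥(Cfsg.Lie.Sz F (2 ^ (m + 1))) := by
  rcases Nat.lt_or_ge m 2 with h | h
  · have hm1 : m = 1 := by omega
    subst hm1
    exact Cfsg.Agent.H64.VsSz.fixedPair_sz8 (F := F) (by rw [hF]; norm_num)
  · obtain ⟨x, y, hx, hA, hy⟩ := Cfsg.Agent.H896.SuzTab.exists_xy h hF (theta hF) (theta_apply hF)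
    have h3 : ¬ 3 ∣ 2 * m + 1 := by
      intro hd
      have := (Nat.prime_dvd_prime_iff_eq Nat.prime_three hp).1 hd
      omega
    obtain ⟨w, f, d, e, o, r, p, q, W0, W1, W2, K, D⟩ :=
      SzPt.exists_dat (good hF) hx hA (u_ne_zero h3 hF (good hF) hx) hy
    exact SzPair.fixedPair_of_dat (good hF) D

end Cfsg.Agent.H482.SzFixed
end

private theorem dce_670a680cd0c6 : _root_.True := by
  try have : _root_.True := by simp only [_root_.Cfsg.Agent.H896.SuzTab.st.eq_1]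
  try have : _root_.True := by simp only [_root_.Cfsg.Agent.H896.SuzTab.val.eq_1]
  try have : _root_.True := by simp only [_root_.Cfsg.Agent.H896.SuzTab.E0.eq_1]
  try have : _root_.True := by simp only [_root_.Cfsg.Agent.H896.SuzTab.E0.eq_def]
  try have : _root_.True := by simp only [_root_.Cfsg.Agent.H896.SuzTab.E0.eq_2]
  try have : _root_.True := by simp only [_root_.Cfsg.Agent.H896.SuzTab.sgm.eq_1]
  try have : _root_.True := by simp only [_root_.Cfsg.Agent.H896.SuzTab.E1.eq_def]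
  try have : _root_.True := by simp only [_root_.Cfsg.Agent.H896.SuzTab.build.eq_def]
  try have : _root_.True := by simp only [_root_.Cfsg.Agent.H896.SuzTab.LN.eq_1]
  try have : _root_.True := by simp only [_root_.Cfsg.Agent.H896.SuzTab.allc.eq_def]
  try have : _root_.True := by simp only [_root_.Cfsg.Agent.H896.SuzTab.rowStep.eq_1]
  try have : _root_.True := by simp only [_root_.Cfsg.Agent.H896.SuzTab.b2.eq_1]
  try have : _root_.True := by simp only [_root_.Cfsg.Agent.H896.SuzTab.cmb.eq_def]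
  try have : _root_.True := by simp only [_root_.Cfsg.Agent.H896.SuzTab.F.eq_1]
  try have : _root_.True := by simp only [_root_.Cfsg.Agent.H896.SuzTab.tr.eq_1]
  try have : _root_.True := by simp only [_root_.Cfsg.Agent.H896.SuzTab.xL.eq_1]
  try have : _root_.True := by simp only [_root_.Cfsg.Agent.H896.SuzTab.cmb.eq_2]
  try have : _root_.True := by simp only [_root_.Cfsg.Agent.H896.SuzTab.rowStep.eq_2]
  try have : _root_.True := by simp only [_root_.Cfsg.Agent.H896.SuzTab.diag.eq_2]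
  try have : _root_.True := by simp only [_root_.Cfsg.Agent.H896.SuzTab.build.eq_2]
  try have : _root_.True := by simp only [_root_.Cfsg.Agent.H896.SuzTab.stepT.eq_1]
  try have : _root_.True := by simp only [_root_.Cfsg.Agent.H896.SuzTab.cn.eq_1]
  try have : _root_.True := by simp only [_root_.Cfsg.Agent.H896.SuzTab.E1.eq_2]
  try have : _root_.True := by simp only [_root_.Cfsg.Agent.H896.SuzTab.build.eq_1]
  try have : _root_.True := by simp only [_root_.Cfsg.Agent.H896.SuzTab.cn.eq_2]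
  try have : _root_.True := by simp only [_root_.Cfsg.Agent.H896.SuzTab.E1.eq_1]
  try have : _root_.True := by simp only [_root_.Cfsg.Agent.H896.SuzTab.sgm.eq_def]
  try have : _root_.True := by simp only [_root_.Cfsg.Agent.H896.SuzTab.fin.eq_1]
  try have : _root_.True := by simp only [_root_.Cfsg.Agent.H896.SuzTab.idT.eq_1]
  try have : _root_.True := by simp only [_root_.Cfsg.Agent.H896.SuzTab.Mv.eq_1]
  try have : _root_.True := by simp only [_root_.Cfsg.Agent.H896.SuzTab.LA.eq_1]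
  try have : _root_.True := by simp only [_root_.Cfsg.Agent.H896.SuzTab.gv.eq_1]
  try have : _root_.True := by simp only [_root_.Cfsg.Agent.H896.SuzTab.sgm.eq_2]
  try have : _root_.True := by simp only [_root_.Cfsg.Agent.H896.SuzTab.cn.eq_def]
  try have : _root_.True := by simp only [_root_.Cfsg.Agent.H896.SuzTab.row.eq_1]
  try have : _root_.True := by simp only [_root_.Cfsg.Agent.H896.SuzTab.diag.eq_1]
  try have : _root_.True := by simp only [_root_.Cfsg.Agent.H896.SuzTab.diag.eq_def]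
  try have : _root_.True := by simp only [_root_.Cfsg.Agent.H896.SuzTab.rowStep.eq_def]
  try have : _root_.True := by simp only [_root_.Cfsg.Agent.H896.SuzTab.cmb.eq_1]
  try have : _root_.True := by simp only [_root_.Cfsg.Agent.H896.SuzTab.allc.eq_1]
  try have : _root_.True := by simp only [_root_.Cfsg.Agent.H896.SuzTab.tb.eq_1]
  try have : _root_.True := by simp only [_root_.Cfsg.Agent.H896.SuzTab.Mp.eq_1]
  try have : _root_.True := by simp only [_root_.Cfsg.Agent.H896.SuzTab.allc.eq_2]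
  exact _root_.True.intro
end

-- part: S3935
section
prune_inst 0x6080000000000000000000200000000000000000208000020009000009000800022000000020000000000040000000000000000000000000000100000000000410000000400086000000000000000000000000000000000000000000000000000
set_option linter.all false
open scoped Cfsg.Agent.FastGrp

-- part: H910/VFix
section
/-!
Fixed pairs `v₀ = v₁ ≠ 1` in `PSL(2, F)` (helper910), for helper482 (S3935).

`core` : traces `a, a - 1/a, a² - 1 - d` with `d² - (a² - 2) d + (a² - 3 + a⁻²) = 0` give a fixed pair.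
-/

set_option autoImplicit false

namespace Cfsg.Agent.H910.VFix

open Cfsg.Agent.H482.VSeq

theorem fixed_of_ident {G : Type*} [Group G] {x y : G}
    (h : y * x * y⁻¹ * x * y = x * x * y * x⁻¹ * y * x * x) : stp x y (v0 x y) = v0 x y := by
  have e1 : stp x y (v0 x y) = x⁻¹ * x⁻¹ * x⁻¹ * y⁻¹ * (x * x * y * x⁻¹ * y * x * x) * y⁻¹ := by
    simp only [stp, v0, mul_inv_rev, inv_inv, mul_assoc, inv_mul_cancel_left, mul_inv_cancel_left, mul_inv_cancel,
      inv_mul_cancel, mul_one]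
  rw [e1, ← h, v0]
  simp only [mul_assoc, inv_mul_cancel_left, mul_inv_cancel_left, mul_inv_cancel, inv_mul_cancel, mul_one]

theorem core {F : Type*} [Field F] {a i d s q : F} (h1 : a * i = 1) (h2 : d ^ 2 - (a ^ 2 - 2) * d + (a ^ 2 - 3 + i ^ 2) = 0)
    (h3 : s ^ 2 - (a - i) * s + q ^ 2 + (a ^ 2 - 1 - d - a * s) * q + 1 = 0) :
    FixedPair (Matrix.ProjectiveSpecialLinearGroup (Fin 2) F) := by
  let X : Matrix.SpecialLinearGroup (Fin 2) F := ⟨!![0, 1; -1, a], by simp⟩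
  let Xi : Matrix.SpecialLinearGroup (Fin 2) F := ⟨!![a, -1; 1, 0], by simp⟩
  let Y : Matrix.SpecialLinearGroup (Fin 2) F := ⟨!![a - i - s, q; a ^ 2 - 1 - d + q - a * s, s], by
    rw [Matrix.det_fin_two_of]; linear_combination -h3⟩
  let Yi : Matrix.SpecialLinearGroup (Fin 2) F := ⟨!![s, -q; -(a ^ 2 - 1 - d + q - a * s), a - i - s], by
    rw [Matrix.det_fin_two_of]; linear_combination -h3⟩
  have cX : X.1 = !![0, 1; -1, a] := rfl
  have cXi : Xi.1 = !![a, -1; 1, 0] := rfl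
  have cY : Y.1 = !![a - i - s, q; a ^ 2 - 1 - d + q - a * s, s] := rfl
  have cYi : Yi.1 = !![s, -q; -(a ^ 2 - 1 - d + q - a * s), a - i - s] := rfl
  have hX : X⁻¹ = Xi := by
    apply inv_eq_of_mul_eq_one_right
    apply Subtype.ext
    rw [Matrix.SpecialLinearGroup.coe_mul, cX, cXi, Matrix.mul_fin_two, Matrix.SpecialLinearGroup.coe_one, Matrix.one_fin_two]
    simp
  have hY : Y⁻¹ = Yi := by
    apply inv_eq_of_mul_eq_one_right
    apply Subtype.ext
    rw [Matrix.SpecialLinearGroup.coe_mul, cY, cYi, Matrix.mul_fin_two, Matrix.SpecialLinearGroup.coe_one, Matrix.one_fin_two]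
    ext j k
    fin_cases j <;> fin_cases k
    · show (a - i - s) * s + q * -(a ^ 2 - 1 - d + q - a * s) = 1
      linear_combination -h3
    · show (a - i - s) * -q + q * (a - i - s) = 0
      ring
    · show (a ^ 2 - 1 - d + q - a * s) * s + s * -(a ^ 2 - 1 - d + q - a * s) = 0
      ring
    · show (a ^ 2 - 1 - d + q - a * s) * -q + s * (a - i - s) = 1
      linear_combination -h3
  have hid : Y * X * Y⁻¹ * X * Y = X * X * Y * X⁻¹ * Y * X * X := by
    rw [hX, hY]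
    apply Subtype.ext
    simp only [Matrix.SpecialLinearGroup.coe_mul, cX, cXi, cY, cYi, Matrix.mul_fin_two]
    ext j k
    fin_cases j <;> fin_cases k <;> simp only [Matrix.of_apply, Matrix.cons_val', Matrix.cons_val_zero, Matrix.cons_val_one,
      Matrix.cons_val_fin_one, Fin.zero_eta, Fin.mk_one, Fin.isValue]
    · linear_combination (s + d * a + a ^ 3 - a ^ 2 * i - 3 * a + 2 * i) * h3 + (s - 2 * a + i) * h2 +
        (-s * d + s * a ^ 2 - 4 * s + 2 * d * a - d * i - 2 * a ^ 3 + a ^ 2 * i + 6 * a - 3 * i) * h1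
    · linear_combination (-d - q - a ^ 4 + 3 * a ^ 2 + a * i - 2) * h3 + (-q + a ^ 2) * h2 +
        (d * q - d * a ^ 2 - d - q * a ^ 2 + 4 * q + a ^ 4 - 2 * a ^ 2 - 2) * h1
    · linear_combination (s * a + 2 * d - q + a ^ 4 - 4 * a ^ 2 - a * i + 3) * h3 +
        (s * a + d - q - 2 * a ^ 2 - a * i + 2) * h2 +
        (-s * d * a + s * a ^ 3 - 4 * s * a + d * q + 2 * d * a ^ 2 - 2 * d - q * a ^ 2 + 4 * q - 2 * a ^ 4 + 8 * a ^ 2 + i ^ 2 - 5) * h1
    · linear_combination (-s - a ^ 5 + 4 * a ^ 3 - 4 * a + i) * h3 + (-s + a ^ 3 - a) * h2 +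
        (s * d - s * a ^ 2 + 4 * s - d * a ^ 3 + a ^ 5 - 3 * a ^ 3 + i) * h1
  have hfix := fixed_of_ident hid
  refine FixedPair.of_hom (QuotientGroup.mk' _) (x := X) (y := Y) ?_ hfix
  intro hc
  have hc' : v0 X Y ∈ Subgroup.center (Matrix.SpecialLinearGroup (Fin 2) F) := (QuotientGroup.eq_one_iff _).1 hc
  have hcx := Subgroup.mem_center_iff.1 hc' X
  have hcy := Subgroup.mem_center_iff.1 hc' Y
  have h4 : stp X Y (v0 X Y) = 1 := by
    rw [stp, hcx, hcy]; group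
  rw [h4] at hfix
  have h5 : Y * X = 1 := by
    have h6 : X⁻¹ * X⁻¹ * Y⁻¹ * X = 1 := hfix.symm
    have h7 : Y * X = X * (X⁻¹ * X⁻¹ * Y⁻¹ * X)⁻¹ * X⁻¹ := by group
    rw [h7, h6]; group
  have h8 : X⁻¹ = Y := inv_eq_of_mul_eq_one_left h5
  rw [hX] at h8
  have h9 := congrArg (fun M : Matrix.SpecialLinearGroup (Fin 2) F => M.1 0 0 + M.1 1 1) h8
  simp only [cXi, cY] at h9
  have h10 : a + 0 = a - i - s + s := h9
  have h11 : i = 0 := by linear_combination h10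
  rw [h11, mul_zero] at h1
  exact zero_ne_one h1

open Polynomial in
/-- the conic has a point, odd characteristic. -/
theorem conic_odd {F : Type*} [Field F] [Fintype F] (ho : Fintype.card F % 2 = 1) (a b c : F) (ha : 4 - a ^ 2 ≠ 0) :
    ∃ s q : F, s ^ 2 - b * s + q ^ 2 + (c - a * s) * q + 1 = 0 := by
  have h2 : (2 : F) ≠ 0 := by
    intro h2
    have : ringChar F = 2 := by
      have h3 : ringChar F ∣ 2 := (ringChar.spec F 2).1 (by exact_mod_cast h2)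
      rcases (Nat.dvd_prime Nat.prime_two).1 h3 with h | h
      · exact absurd h (CharP.ringChar_ne_one)
      · exact h
    rw [FiniteField.even_card_iff_char_two] at this
    omega
  obtain ⟨T, q, hTq⟩ := FiniteField.exists_root_sum_quadratic (R := F) (f := X ^ 2)
    (g := C (4 - a ^ 2) * X ^ 2 + C (4 * c - 2 * a * b) * X + C (4 - b ^ 2)) (by simp) (degree_quadratic ha) ho
  simp only [eval_pow, eval_X, eval_add, eval_mul, eval_C] at hTq
  refine ⟨(T + a * q + b) / 2, q, ?_⟩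
  field_simp
  linear_combination hTq

/-- the conic has a point, characteristic 2. -/
theorem conic_two {F : Type*} [Field F] [Finite F] [CharP F 2] (a b c : F) (ha : a ≠ 0) :
    ∃ s q : F, s ^ 2 - b * s + q ^ 2 + (c - a * s) * q + 1 = 0 := by
  have h2 : (2 : F) = 0 := CharTwo.two_eq_zero
  obtain ⟨e, he⟩ : ∃ e, e ^ 2 = (c / a) ^ 2 - b * (c / a) + (b / a) ^ 2 + (c - a * (c / a)) * (b / a) + 1 := by
    have h : Function.Injective (frobenius F 2) := frobenius_inj F 2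
    obtain ⟨b, hb⟩ := Finite.surjective_of_injective h
      ((c / a) ^ 2 - b * (c / a) + (b / a) ^ 2 + (c - a * (c / a)) * (b / a) + 1)
    exact ⟨b, by simpa [frobenius_def] using hb⟩
  refine ⟨c / a + e, b / a, ?_⟩
  have h3 : a * (c / a) = c := mul_div_cancel₀ c ha
  have h4 : a * (b / a) = b := mul_div_cancel₀ b ha
  generalize c / a = x at *
  generalize b / a = y at *
  linear_combination he + (x * e + x ^ 2 - b * x + y ^ 2 + (c - a * x) * y + 1 - b * e) * h2 - e * h4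

theorem of_data_odd {F : Type*} [Field F] [Fintype F] (ho : Fintype.card F % 2 = 1) {a i d : F} (h1 : a * i = 1)
    (h2 : d ^ 2 - (a ^ 2 - 2) * d + (a ^ 2 - 3 + i ^ 2) = 0) (ha : 4 - a ^ 2 ≠ 0) :
    FixedPair (Matrix.ProjectiveSpecialLinearGroup (Fin 2) F) := by
  obtain ⟨s, q, h⟩ := conic_odd ho a (a - i) (a ^ 2 - 1 - d) ha
  exact core h1 h2 h

theorem of_data_two {F : Type*} [Field F] [Finite F] [CharP F 2] {a i d : F} (h1 : a * i = 1)
    (h2 : d ^ 2 - (a ^ 2 - 2) * d + (a ^ 2 - 3 + i ^ 2) = 0) :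
    FixedPair (Matrix.ProjectiveSpecialLinearGroup (Fin 2) F) := by
  obtain ⟨s, q, h⟩ := conic_two a (a - i) (a ^ 2 - 1 - d) (left_ne_zero_of_mul_eq_one h1)
  exact core h1 h2 h

theorem fixedPair_psl2_two {F : Type*} [Field F] [Fintype F] {p : ℕ} (hp : p.Prime) (hF : Fintype.card F = 2 ^ p) :
    FixedPair (Matrix.ProjectiveSpecialLinearGroup (Fin 2) F) := by
  classical
  have hch : CharP F 2 := by
    have h3 : ringChar F = 2 := by
      rw [FiniteField.even_card_iff_char_two, hF]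
      obtain ⟨k, rfl⟩ : ∃ k, p = k + 1 := ⟨p - 1, by have := hp.two_le; omega⟩
      rw [pow_succ, Nat.mul_mod_left]
    rw [← h3]; exact ringChar.charP F
  have h2 : (2 : F) = 0 := CharTwo.two_eq_zero
  rcases hp.eq_two_or_odd' with h | hodd
  · -- the field with four elements
    subst h
    obtain ⟨w, hw⟩ : ∃ w : F, w ∉ ({0, 1} : Finset F) := by
      by_contra hcon
      push Not at hcon
      have h4 : Fintype.card F ≤ ({0, 1} : Finset F).card := by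
        rw [← Finset.card_univ]
        exact Finset.card_le_card (fun x _ => hcon x)
      have h5 : ({0, 1} : Finset F).card ≤ 2 := Finset.card_le_two
      rw [hF] at h4
      omega
    simp only [Finset.mem_insert, Finset.mem_singleton, not_or] at hw
    have h4 : w ^ 4 = w := by
      have := FiniteField.pow_card w
      rwa [hF] at this
    have h5 : w * (w - 1) * (w ^ 2 + w + 1) = 0 := by linear_combination h4
    have h6 : w ^ 2 + w + 1 = 0 :=
      (mul_eq_zero.1 h5).resolve_left (mul_ne_zero hw.1 (sub_ne_zero.2 hw.2))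
    refine of_data_two (a := 1) (i := 1) (d := w) (by ring) ?_
    linear_combination h6 - h2
  · -- cubing is bijective
    have hcop : (Fintype.card Fˣ).Coprime 3 := by
      rw [Fintype.card_units, hF, Nat.coprime_comm, Nat.Prime.coprime_iff_not_dvd Nat.prime_three]
      obtain ⟨k, hk⟩ := hodd
      have h3 : 2 ^ p % 3 = 2 := by
        rw [hk, pow_succ, pow_mul, Nat.mul_mod, Nat.pow_mod]
        norm_num
      omega
    obtain ⟨z, hz⟩ : ∃ z : F, z ∉ ({0, 1} : Finset F) := by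
      by_contra hcon
      push Not at hcon
      have h4 : Fintype.card F ≤ ({0, 1} : Finset F).card := by
        rw [← Finset.card_univ]
        exact Finset.card_le_card (fun x _ => hcon x)
      have h5 : ({0, 1} : Finset F).card ≤ 2 := Finset.card_le_two
      rw [hF] at h4
      have h6 : 2 ^ 2 ≤ 2 ^ p := Nat.pow_le_pow_right (by norm_num) hp.two_le
      omega
    simp only [Finset.mem_insert, Finset.mem_singleton, not_or] at hz
    have hz0 : z ^ 2 + z ≠ 0 := by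
      intro h
      have h3 : z * (z - 1) = 0 := by linear_combination h - z * h2
      rcases mul_eq_zero.1 h3 with h | h
      · exact hz.1 h
      · exact hz.2 (sub_eq_zero.1 h)
    obtain ⟨v, hv⟩ : ∃ v : Fˣ, v ^ 3 = Units.mk0 _ hz0 := by
      have := (powCoprime (G := Fˣ) (by rw [Nat.card_eq_fintype_card]; exact hcop)).surjective (Units.mk0 _ hz0)
      obtain ⟨v, hv⟩ := this
      exact ⟨v, hv⟩
    have hv' : (v : F) ^ 3 = z ^ 2 + z := by
      have := congrArg Units.val hv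
      rwa [Units.val_pow_eq_pow_val, Units.val_mk0] at this
    have h1 : ((v⁻¹ : Fˣ) : F) * v = 1 := by rw [← Units.val_mul, inv_mul_cancel, Units.val_one]
    generalize ((v⁻¹ : Fˣ) : F) = a at h1
    generalize (v : F) = u at h1 hv'
    refine of_data_two (a := a) (i := u) (d := 1 + a ^ 2 * z ^ 2) h1 ?_
    have h3 : u ^ 6 = (z ^ 2 + z) ^ 2 := by rw [← hv']; ring
    linear_combination -a ^ 4 * h3 + u ^ 2 * ((a * u) ^ 3 + (a * u) ^ 2 + a * u + 1) * h1 +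
      (u ^ 2 + 2 * a ^ 2 * z ^ 2 - a ^ 4 * z ^ 3 - a ^ 4 * z ^ 2) * h2

theorem fixedPair_psl2_prime {F : Type*} [Field F] [Fintype F] {p : ℕ} (hp : p.Prime) (hF : Fintype.card F = p)
    (h : p = 5 ∨ 5 < p) : FixedPair (Matrix.ProjectiveSpecialLinearGroup (Fin 2) F) := by
  classical
  have hch : CharP F p := by
    have h1 : (p : F) = 0 := by rw [← hF]; exact FiniteField.cast_card_eq_zero F
    have h2 := (Nat.dvd_prime hp).1 ((ringChar.spec F p).1 h1)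
    rcases h2 with h2 | h2
    · exact absurd h2 CharP.ringChar_ne_one
    · rw [← h2]; exact ringChar.charP F
  have ho : Fintype.card F % 2 = 1 := by
    rw [hF]
    rcases hp.eq_two_or_odd with h2 | h2
    · omega
    · exact h2
  have hne : ∀ n : ℕ, ¬ p ∣ n → (n : F) ≠ 0 := fun n hn h => hn ((CharP.cast_eq_zero_iff F p n).1 h)
  have n2 : (2 : F) ≠ 0 := by
    have := hne 2 (fun h => by have := Nat.le_of_dvd (by norm_num) h; omega)
    exact_mod_cast this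
  rcases h with rfl | h5
  · -- p = 5, a = 1, d = 2
    have h5 : (5 : F) = 0 := by exact_mod_cast (CharP.cast_eq_zero F 5)
    refine of_data_odd ho (a := 1) (i := 1) (d := 2) (by ring) ?_ ?_
    · linear_combination h5
    · intro h3
      apply one_ne_zero (α := F)
      linear_combination 2 * h3 - h5
  · have n5 : (5 : F) ≠ 0 := by
      have := hne 5 (fun h => by have := Nat.le_of_dvd (by norm_num) h; omega)
      exact_mod_cast this
    have n3 : (3 : F) ≠ 0 := by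
      have := hne 3 (fun h => by have := Nat.le_of_dvd (by norm_num) h; omega)
      exact_mod_cast this
    by_cases s2 : IsSquare (2 : F)
    · obtain ⟨a, ha⟩ := s2
      have ha' : a ^ 2 = 2 := by rw [ha]; ring
      refine of_data_odd ho (a := a) (i := a / 2) (d := a / 2) ?_ ?_ ?_
      · field_simp; linear_combination ha'
      · field_simp; linear_combination (6 - 2 * a) * ha'
      · rw [ha']
        intro h3
        exact n2 (by linear_combination h3)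
    by_cases s5 : IsSquare (5 : F)
    · obtain ⟨a, ha⟩ := s5
      have ha' : a ^ 2 = 5 := by rw [ha]; ring
      refine of_data_odd ho (a := a) (i := a / 5) (d := (3 + a / 5) / 2) ?_ ?_ ?_
      · field_simp; linear_combination ha'
      · field_simp; linear_combination (-(45 + 10 * a)) * ha'
      · rw [ha']
        intro h3
        exact one_ne_zero (α := F) (by linear_combination -h3)
    have n10 : (10 : F) ≠ 0 := by
      rw [show (10 : F) = 2 * 5 by norm_num]; exact mul_ne_zero n2 n5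
    have n90 : (90 : F) ≠ 0 := by
      rw [show (90 : F) = 10 * 3 * 3 by norm_num]; exact mul_ne_zero (mul_ne_zero n10 n3) n3
    have s10 : IsSquare (10 : F) := by
      rw [← quadraticChar_one_iff_isSquare n10, show (10 : F) = 2 * 5 by norm_num, map_mul,
        quadraticChar_neg_one_iff_not_isSquare.2 s2, quadraticChar_neg_one_iff_not_isSquare.2 s5]
      norm_num
    obtain ⟨t, ht⟩ := s10
    have ht' : t ^ 2 = 10 := by rw [ht]; ring
    by_cases h13 : p = 13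
    · subst h13
      have h13 : (13 : F) = 0 := by exact_mod_cast (CharP.cast_eq_zero F 13)
      refine core (a := 2) (i := 7) (d := 10) (s := 7) (q := 1) ?_ ?_ ?_
      · linear_combination h13
      · linear_combination 10 * h13
      · linear_combination 5 * h13
    · have n13 : (13 : F) ≠ 0 := by
        have := hne 13 (fun h => h13 ((Nat.dvd_prime (by norm_num)).1 h |>.resolve_left (by omega)))
        exact_mod_cast this
      refine of_data_odd ho (a := t / 3) (i := 3 * t / 10) (d := (-40 + 31 * t) / 90) ?_ ?_ ?_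
      · field_simp; linear_combination ht'
      · field_simp; linear_combination (2691000 - 279000 * t) * ht'
      · intro h3
        apply mul_ne_zero n2 n13
        field_simp at h3
        linear_combination h3 + ht'

end Cfsg.Agent.H910.VFix
end

-- part: H910/VFix3
section
open Matrix Polynomial

namespace Cfsg.Agent.H910.VFix

open Cfsg.Agent.H482.VSeq

section char3

variable {F : Type*} [Field F]

/-- The trace polynomial to the prime field of characteristic `3`. -/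
def T (r : ℕ) (y : F) : F := ∑ i ∈ Finset.range r, y ^ 3 ^ i

theorem T_frob [CharP F 3] (r : ℕ) (y : F) (hy : y ^ 3 ^ r = y) : T r (y ^ 3) = T r y := by
  unfold T
  have h1 : ∑ i ∈ Finset.range r, (y ^ 3) ^ 3 ^ i = ∑ i ∈ Finset.range r, y ^ 3 ^ (i + 1) := by
    refine Finset.sum_congr rfl fun i _ => ?_
    rw [← pow_mul, pow_succ' 3 i]
  have h2 := Finset.sum_range_succ' (fun i => y ^ 3 ^ i) r
  have h3 := Finset.sum_range_succ (fun i => y ^ 3 ^ i) r
  rw [h1]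
  simp only [pow_zero, pow_one] at h2
  rw [hy] at h3
  exact add_right_cancel (h2.symm.trans h3)

theorem T_pow [CharP F 3] (r : ℕ) (y : F) (hy : y ^ 3 ^ r = y) : T r y ^ 3 = T r y := by
  have h1 : T r y ^ 3 = T r (y ^ 3) := by
    unfold T
    rw [sum_pow_char 3]
    refine Finset.sum_congr rfl fun i _ => ?_
    rw [← pow_mul, ← pow_mul, mul_comm]
  rw [h1, T_frob r y hy]

theorem T_sub [CharP F 3] (r : ℕ) (x y : F) : T r (x - y) = T r x - T r y := by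
  unfold T
  rw [← Finset.sum_sub_distrib]
  exact Finset.sum_congr rfl fun i _ => sub_pow_char_pow x y i (p := 3)

theorem exists_as [Fintype F] [CharP F 3] {r : ℕ} (hF : Fintype.card F = 3 ^ r) (hr : 0 < r) (y : F)
    (hy : T r y = 0) : ∃ a : F, a ^ 3 - a = y := by
  classical
  have hS : (Finset.univ.image (fun a : F => a ^ 3 - a)) ⊆ Finset.univ.filter (fun y : F => T r y = 0) := by
    intro z hz
    obtain ⟨a, -, rfl⟩ := Finset.mem_image.1 hz
    refine Finset.mem_filter.2 ⟨Finset.mem_univ _, ?_⟩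
    rw [T_sub, T_frob r a (by rw [← hF]; exact FiniteField.pow_card a), sub_self]
  have hc1 : Fintype.card F ≤ 3 * (Finset.univ.image (fun a : F => a ^ 3 - a)).card := by
    rw [← Finset.card_univ]
    refine Finset.card_le_mul_card_image _ 3 fun b _ => ?_
    have hP : (X ^ 3 - X - C b : F[X]).natDegree = 3 := by compute_degree!
    have h0 : (X ^ 3 - X - C b : F[X]) ≠ 0 := by
      intro h; rw [h] at hP; simp at hP
    calc (Finset.univ.filter (fun a : F => a ^ 3 - a = b)).card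
        ≤ (X ^ 3 - X - C b : F[X]).roots.toFinset.card := by
          refine Finset.card_le_card fun a ha => ?_
          have ha' := (Finset.mem_filter.1 ha).2
          rw [Multiset.mem_toFinset, mem_roots h0, IsRoot.def]
          simp [ha']
      _ ≤ Multiset.card (X ^ 3 - X - C b : F[X]).roots := Multiset.toFinset_card_le _
      _ ≤ (X ^ 3 - X - C b : F[X]).natDegree := card_roots' _
      _ = 3 := hP
  have hc2 : (Finset.univ.filter (fun y : F => T r y = 0)).card ≤ 3 ^ (r - 1) := by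
    have h0 : (∑ i ∈ Finset.range r, X ^ 3 ^ i : F[X]) ≠ 0 := by
      intro h
      have h1 : (∑ i ∈ Finset.range r, X ^ 3 ^ i : F[X]).coeff 1 = 1 := by
        rw [finsetSum_coeff, Finset.sum_eq_single 0]
        · simp
        · intro i _ hi
          rw [coeff_X_pow, if_neg]
          intro h2
          have : 1 < 3 ^ i := Nat.one_lt_pow hi (by norm_num)
          omega
        · intro h; exact absurd (Finset.mem_range.2 hr) h
      rw [h, coeff_zero] at h1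
      exact zero_ne_one h1
    calc (Finset.univ.filter (fun y : F => T r y = 0)).card
        ≤ (∑ i ∈ Finset.range r, X ^ 3 ^ i : F[X]).roots.toFinset.card := by
          refine Finset.card_le_card fun a ha => ?_
          have ha' := (Finset.mem_filter.1 ha).2
          rw [Multiset.mem_toFinset, mem_roots h0, IsRoot.def, eval_finsetSum]
          simpa [T] using ha'
      _ ≤ Multiset.card (∑ i ∈ Finset.range r, X ^ 3 ^ i : F[X]).roots := Multiset.toFinset_card_le _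
      _ ≤ (∑ i ∈ Finset.range r, X ^ 3 ^ i : F[X]).natDegree := card_roots' _
      _ ≤ 3 ^ (r - 1) := by
          refine natDegree_sum_le_of_forall_le _ _ fun i hi => ?_
          rw [natDegree_X_pow]
          exact Nat.pow_le_pow_right (by norm_num) (by have := Finset.mem_range.1 hi; omega)
  have hle : (Finset.univ.filter (fun y : F => T r y = 0)).card ≤
      (Finset.univ.image (fun a : F => a ^ 3 - a)).card := by
    have h3 : 3 ^ r = 3 * 3 ^ (r - 1) := by rw [← pow_succ']; congr 1; omega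
    omega
  have heq := Finset.eq_of_subset_of_card_le hS hle
  have hm : y ∈ Finset.univ.image (fun a : F => a ^ 3 - a) := by
    rw [heq]; exact Finset.mem_filter.2 ⟨Finset.mem_univ _, hy⟩
  obtain ⟨a, -, ha⟩ := Finset.mem_image.1 hm
  exact ⟨a, ha⟩

/-- The exponents of the monomials of `T(s + 1/s)`. -/
def ex (r : ℕ) (x : Bool × ℕ) : ℕ := if x.1 then 3 ^ x.2 else 3 ^ r - 1 - 3 ^ x.2

theorem ar_mul (Q k : ℕ) : k = 0 ∨ k = 1 ∨ k = 2 ∨ 3 * (3 * Q - 1) ≤ (3 * Q - 1) * k := by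
  rcases k with _ | _ | _ | k
  · left; rfl
  · right; left; rfl
  · right; right; left; rfl
  · right; right; right; rw [mul_comm]; exact Nat.mul_le_mul_left _ (by omega)

theorem ar_ff {Q A B : ℕ} (hQ : 9 ≤ Q) (hA : 1 ≤ A) (hA' : A ≤ Q) (hB : 1 ≤ B) (hB' : B ≤ Q) :
    ¬ 3 * Q - 1 ∣ 3 * Q - 5 + (3 * Q - 1 - A) + (3 * Q - 1 - B) := by
  rintro ⟨k, hk⟩
  rcases ar_mul Q k with rfl | rfl | rfl | h <;> omega

theorem ar_tf {Q A B : ℕ} (hQ : 9 ≤ Q) (hA : A = 1 ∨ A = 3 ∨ ∃ k, A = 9 * k ∧ 0 < k) (hA' : A ≤ Q)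
    (hB : B = 1 ∨ B = 3 ∨ ∃ k, B = 9 * k ∧ 0 < k) (hB' : B ≤ Q) :
    ¬ 3 * Q - 1 ∣ 3 * Q - 5 + A + (3 * Q - 1 - B) := by
  rintro ⟨k, hk⟩
  rcases hA with rfl | rfl | ⟨m, rfl, hm⟩ <;> rcases hB with rfl | rfl | ⟨n, rfl, hn⟩ <;>
    rcases ar_mul Q k with rfl | rfl | rfl | h <;> omega

theorem ar_ft {Q A B : ℕ} (hQ : 9 ≤ Q) (hA : A = 1 ∨ A = 3 ∨ ∃ k, A = 9 * k ∧ 0 < k) (hA' : A ≤ Q)
    (hB : B = 1 ∨ B = 3 ∨ ∃ k, B = 9 * k ∧ 0 < k) (hB' : B ≤ Q) :
    ¬ 3 * Q - 1 ∣ 3 * Q - 5 + (3 * Q - 1 - A) + B := by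
  have := ar_tf hQ hB hB' hA hA'
  rwa [add_right_comm] at this

theorem ar_tt {Q A B : ℕ} (hQ : 9 ≤ Q) (hA : 1 ≤ A) (hA' : A ≤ Q) (hB : 1 ≤ B) (hB' : B ≤ Q)
    (h : 3 * Q - 1 ∣ 3 * Q - 5 + A + B) : A + B = 4 := by
  obtain ⟨k, hk⟩ := h
  rcases ar_mul Q k with rfl | rfl | rfl | h <;> omega

theorem ex_dvd {r : ℕ} (hr : 3 ≤ r) {x y : Bool × ℕ} (hx : x.2 < r) (hy : y.2 < r) :
    3 ^ r - 1 ∣ 3 ^ r - 5 + ex r x + ex r y ↔ (x = (true, 0) ∧ y = (true, 1)) ∨ (x = (true, 1) ∧ y = (true, 0)) := by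
  obtain ⟨b, i⟩ := x
  obtain ⟨c, j⟩ := y
  simp only at hx hy
  have hQ : 3 ^ r = 3 * 3 ^ (r - 1) := by rw [← pow_succ']; congr 1; omega
  have hQ9 : 9 ≤ 3 ^ (r - 1) := by
    calc 9 = 3 ^ 2 := by norm_num
      _ ≤ 3 ^ (r - 1) := Nat.pow_le_pow_right (by norm_num) (by omega)
  have hi : 3 ^ i ≤ 3 ^ (r - 1) := Nat.pow_le_pow_right (by norm_num) (by omega)
  have hj : 3 ^ j ≤ 3 ^ (r - 1) := Nat.pow_le_pow_right (by norm_num) (by omega)
  have hi1 : 1 ≤ 3 ^ i := Nat.one_le_pow _ _ (by norm_num)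
  have hj1 : 1 ≤ 3 ^ j := Nat.one_le_pow _ _ (by norm_num)
  have key : ∀ i : ℕ, 3 ^ i = 1 ∨ 3 ^ i = 3 ∨ ∃ k, 3 ^ i = 9 * k ∧ 0 < k := by
    intro i
    rcases i with _ | _ | i
    · left; rfl
    · right; left; rfl
    · right; right; exact ⟨3 ^ i, by rw [pow_add]; ring, Nat.one_le_pow _ _ (by norm_num)⟩
  constructor
  · intro h
    cases b <;> cases c <;> simp only [ex, if_true, if_false, Bool.false_eq_true, hQ] at h
    · exact absurd h (ar_ff hQ9 hi1 hi hj1 hj)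
    · exact absurd h (ar_ft hQ9 (key i) hi (key j) hj)
    · exact absurd h (ar_tf hQ9 (key i) hi (key j) hj)
    · have h4 := ar_tt hQ9 hi1 hi hj1 hj h
      rcases i with _ | _ | i <;> rcases j with _ | _ | j
      · norm_num at h4
      · left; exact ⟨rfl, rfl⟩
      · exfalso; have := Nat.one_le_pow j 3 (by norm_num); have h9 : 3 ^ (j + 1 + 1) = 9 * 3 ^ j := by ring
        omega
      · right; exact ⟨rfl, rfl⟩
      · norm_num at h4
      · exfalso; have := Nat.one_le_pow j 3 (by norm_num); have h9 : 3 ^ (j + 1 + 1) = 9 * 3 ^ j := by ring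
        omega
      · exfalso; have := Nat.one_le_pow i 3 (by norm_num); have h9 : 3 ^ (i + 1 + 1) = 9 * 3 ^ i := by ring
        omega
      · exfalso; have := Nat.one_le_pow i 3 (by norm_num); have h9 : 3 ^ (i + 1 + 1) = 9 * 3 ^ i := by ring
        omega
      · exfalso; have := Nat.one_le_pow i 3 (by norm_num); have h9 : 3 ^ (i + 1 + 1) = 9 * 3 ^ i := by ring
        omega
  · rintro (⟨h1, h2⟩ | ⟨h1, h2⟩)
    · rw [h1, h2]; refine ⟨1, ?_⟩; simp only [ex, if_true, hQ, pow_zero, pow_one]; omega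
    · rw [h1, h2]; refine ⟨1, ?_⟩; simp only [ex, if_true, hQ, pow_zero, pow_one]; omega

theorem exists_s [Fintype F] [CharP F 3] {r : ℕ} (hF : Fintype.card F = 3 ^ r) (hr : 3 ≤ r) :
    ∃ s : Fˣ, T r ((s : F) + ((s⁻¹ : Fˣ) : F)) = 0 := by
  classical
  by_contra hcon
  push Not at hcon
  have hQ : 3 ^ r = 3 * 3 ^ (r - 1) := by rw [← pow_succ']; congr 1; omega
  have hQ9 : 9 ≤ 3 ^ (r - 1) := by
    calc 9 = 3 ^ 2 := by norm_num
      _ ≤ 3 ^ (r - 1) := Nat.pow_le_pow_right (by norm_num) (by omega)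
  have h1 : ∀ s : Fˣ, T r ((s : F) + ((s⁻¹ : Fˣ) : F)) ^ 2 = 1 := by
    intro s
    have h2 := T_pow r ((s : F) + ((s⁻¹ : Fˣ) : F)) (by rw [← hF]; exact FiniteField.pow_card _)
    have h3 := hcon s
    apply mul_left_cancel₀ h3
    rw [mul_one, ← pow_succ', h2]
  set J : Finset (Bool × ℕ) := Finset.univ ×ˢ Finset.range r with hJ
  have h2 : ∀ s : Fˣ, T r ((s : F) + ((s⁻¹ : Fˣ) : F)) = ∑ x ∈ J, ((s ^ ex r x : Fˣ) : F) := by
    intro s
    unfold T
    rw [hJ, Finset.sum_product, Fintype.sum_bool, ← Finset.sum_add_distrib]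
    refine Finset.sum_congr rfl fun i hi => ?_
    rw [add_pow_char_pow _ _ i (p := 3)]
    congr 1
    simp only [ex, Bool.false_eq_true, if_false]
    rw [← Units.val_pow_eq_pow_val, inv_pow]
    congr 1
    rw [eq_comm, eq_inv_iff_mul_eq_one, ← pow_add]
    have h3 : 3 ^ i ≤ 3 ^ (r - 1) := Nat.pow_le_pow_right (by norm_num) (by have := Finset.mem_range.1 hi; omega)
    rw [show 3 ^ r - 1 - 3 ^ i + 3 ^ i = Fintype.card F - 1 by rw [hF]; omega]
    apply Units.ext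
    rw [Units.val_pow_eq_pow_val, Units.val_one]
    exact FiniteField.pow_card_sub_one_eq_one (s : F) s.ne_zero
  have h3 : ∑ s : Fˣ, ((s : F) ^ (3 ^ r - 5)) * T r ((s : F) + ((s⁻¹ : Fˣ) : F)) ^ 2 = 0 := by
    simp only [h1, mul_one]
    have h4 := FiniteField.sum_pow_units F (3 ^ r - 5)
    rw [hF, if_neg] at h4
    · simpa using h4
    · intro h5
      have := Nat.le_of_dvd (by omega) h5
      omega
  have h4 : ∑ s : Fˣ, ((s : F) ^ (3 ^ r - 5)) * T r ((s : F) + ((s⁻¹ : Fˣ) : F)) ^ 2 =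
      ∑ x ∈ J, ∑ y ∈ J, if 3 ^ r - 1 ∣ 3 ^ r - 5 + ex r x + ex r y then (-1 : F) else 0 := by
    have h5 : ∀ s : Fˣ, ((s : F) ^ (3 ^ r - 5)) * T r ((s : F) + ((s⁻¹ : Fˣ) : F)) ^ 2 =
        ∑ x ∈ J, ∑ y ∈ J, (s : F) ^ (3 ^ r - 5 + ex r x + ex r y) := by
      intro s
      rw [h2 s, sq, Finset.sum_mul_sum, Finset.mul_sum]
      refine Finset.sum_congr rfl fun x _ => ?_
      rw [Finset.mul_sum]
      refine Finset.sum_congr rfl fun y _ => ?_
      rw [Units.val_pow_eq_pow_val, Units.val_pow_eq_pow_val, pow_add, pow_add, mul_assoc]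
    simp only [h5]
    rw [Finset.sum_comm]
    refine Finset.sum_congr rfl fun x _ => ?_
    rw [Finset.sum_comm]
    refine Finset.sum_congr rfl fun y _ => ?_
    have h6 := FiniteField.sum_pow_units F (3 ^ r - 5 + ex r x + ex r y)
    rw [hF] at h6
    exact_mod_cast h6
  have h5 : ∑ x ∈ J, ∑ y ∈ J, (if 3 ^ r - 1 ∣ 3 ^ r - 5 + ex r x + ex r y then (-1 : F) else 0) =
      ∑ x ∈ J, ∑ y ∈ J, ((if x = (true, 0) then (if y = (true, 1) then (-1 : F) else 0) else 0) +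
        (if x = (true, 1) then (if y = (true, 0) then (-1 : F) else 0) else 0)) := by
    refine Finset.sum_congr rfl fun x hx => Finset.sum_congr rfl fun y hy => ?_
    have hx' : x.2 < r := by simpa [hJ] using hx
    have hy' : y.2 < r := by simpa [hJ] using hy
    rw [ite_cond_congr (propext (ex_dvd hr hx' hy'))]
    by_cases a1 : x = (true, 0)
    · have a2 : x ≠ (true, 1) := by rw [a1]; simp
      by_cases a3 : y = (true, 1)
      · rw [if_pos (Or.inl ⟨a1, a3⟩), if_pos a1, if_pos a3, if_neg a2, add_zero]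
      · rw [if_neg, if_pos a1, if_neg a3, if_neg a2, add_zero]
        rintro (h | h)
        · exact a3 h.2
        · exact a2 h.1
    · by_cases a2 : x = (true, 1)
      · by_cases a3 : y = (true, 0)
        · rw [if_pos (Or.inr ⟨a2, a3⟩), if_neg a1, if_pos a2, if_pos a3, zero_add]
        · rw [if_neg, if_neg a1, if_pos a2, if_neg a3, add_zero]
          rintro (h | h)
          · exact a1 h.1
          · exact a3 h.2
      · rw [if_neg, if_neg a1, if_neg a2, add_zero]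
        rintro (h | h)
        · exact a1 h.1
        · exact a2 h.1
  have m0 : ((true, 0) : Bool × ℕ) ∈ J := by simp [hJ]; omega
  have m1 : ((true, 1) : Bool × ℕ) ∈ J := by simp [hJ]; omega
  have h6 : ∑ x ∈ J, ∑ y ∈ J, ((if x = (true, 0) then (if y = (true, 1) then (-1 : F) else 0) else 0) +
        (if x = (true, 1) then (if y = (true, 0) then (-1 : F) else 0) else 0)) = -2 := by
    simp only [Finset.sum_add_distrib]
    have e1 : ∑ x ∈ J, ∑ y ∈ J, (if x = (true, 0) then (if y = (true, 1) then (-1 : F) else 0) else 0) = -1 := by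
      rw [Finset.sum_eq_single_of_mem (true, 0) m0 (fun b _ hb => by simp [hb])]
      simp only [if_true]
      rw [Finset.sum_ite_eq', if_pos m1]
    have e2 : ∑ x ∈ J, ∑ y ∈ J, (if x = (true, 1) then (if y = (true, 0) then (-1 : F) else 0) else 0) = -1 := by
      rw [Finset.sum_eq_single_of_mem (true, 1) m1 (fun b _ hb => by simp [hb])]
      simp only [if_true]
      rw [Finset.sum_ite_eq', if_pos m0]
    rw [e1, e2]
    norm_num
  rw [h4, h5, h6] at h3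
  have h7 : (3 : F) = 0 := by exact_mod_cast CharP.cast_eq_zero F 3
  exact one_ne_zero (α := F) (by linear_combination h3 + h7)

theorem fixedPair_psl2_three {F : Type*} [Field F] [Fintype F] {p : ℕ} (hp : p.Prime) (hp2 : p ≠ 2)
    (hF : Fintype.card F = 3 ^ p) : FixedPair (Matrix.ProjectiveSpecialLinearGroup (Fin 2) F) := by
  classical
  have hr : 3 ≤ p := by
    have := hp.two_le
    omega
  have hch : CharP F 3 := by
    obtain ⟨n, hn1, hn2⟩ := FiniteField.card F (ringChar F)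
    have h3 : ringChar F ∣ 3 ^ p := by rw [← hF, hn2]; exact dvd_pow_self _ n.ne_zero
    have h4 := (Nat.prime_dvd_prime_iff_eq hn1 Nat.prime_three).1 (hn1.dvd_of_dvd_pow h3)
    rw [← h4]; exact ringChar.charP F
  have hodd : p % 2 = 1 := hp.eq_two_or_odd.resolve_left hp2
  have h3 : (3 : F) = 0 := by exact_mod_cast CharP.cast_eq_zero F 3
  have ho4 : Fintype.card F % 4 = 3 := by
    rw [hF]
    obtain ⟨k, hk⟩ : ∃ k, p = 2 * k + 1 := ⟨p / 2, by omega⟩
    rw [hk, pow_succ, pow_mul, Nat.mul_mod, Nat.pow_mod]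
    norm_num
  have ho : Fintype.card F % 2 = 1 := by omega
  obtain ⟨s, hs⟩ := exists_s hF hr
  have hst : (s : F) * ((s⁻¹ : Fˣ) : F) = 1 := by rw [← Units.val_mul, mul_inv_cancel, Units.val_one]
  generalize ((s⁻¹ : Fˣ) : F) = t at hs hst
  generalize (s : F) = s at hs hst
  obtain ⟨a, ha⟩ := exists_as hF (by omega) _ hs
  have hn : s + t ≠ 0 := by
    intro h
    have h5 : IsSquare (-1 : F) := ⟨s, by linear_combination hst - s * h⟩
    rw [FiniteField.isSquare_neg_one_iff] at h5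
    exact h5 ho4
  have ha0 : a ≠ 0 := by
    rintro rfl
    exact hn (by linear_combination -ha)
  have hai : a * a⁻¹ = 1 := mul_inv_cancel₀ ha0
  generalize a⁻¹ = i at hai
  refine of_data_odd ho (a := a) (i := i) (d := -((a ^ 2 - 2) - (s - t) * i)) hai ?_ ?_
  · linear_combination (a ^ 4 - 3 * a ^ 2 + 2 - (a ^ 2 - 2) * (s - t) * i - i ^ 2) * h3 +
      (a ^ 2 - 1) ^ 2 * (a * i + 1) * hai - 4 * i ^ 2 * hst - i ^ 2 * (s + t + (a ^ 3 - a)) * ha
  · intro h4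
    exact hn (by linear_combination a * h3 - a * h4 - ha)

end char3

end Cfsg.Agent.H910.VFix
end

-- part: H64/VsPSLThree
section
/-!
# A fixed pair for the words `v_n` in `PSL(3, 3)` (for S3935)
-/

set_option autoImplicit false

namespace Cfsg.Agent.H64.VsPSLThree

open Cfsg.Agent.H482.VSeq Matrix

def mX : Matrix (Fin 3) (Fin 3) (ZMod 3) := !![0, 0, 1; 1, 0, 1; 1, 1, 2]
def mY : Matrix (Fin 3) (Fin 3) (ZMod 3) := !![0, 1, 0; 2, 2, 2; 2, 0, 0]
def mXi : Matrix (Fin 3) (Fin 3) (ZMod 3) := !![2, 1, 0; 2, 2, 1; 1, 0, 0]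
def mYi : Matrix (Fin 3) (Fin 3) (ZMod 3) := !![0, 0, 2; 1, 0, 0; 2, 2, 1]
def mV : Matrix (Fin 3) (Fin 3) (ZMod 3) := !![0, 1, 1; 0, 2, 0; 1, 1, 0]
def mA : Matrix (Fin 3) (Fin 3) (ZMod 3) := !![1, 0, 1; 1, 2, 2; 0, 0, 2]
def mB : Matrix (Fin 3) (Fin 3) (ZMod 3) := !![2, 0, 0; 0, 1, 0; 0, 1, 2]

def eX : Matrix.SpecialLinearGroup (Fin 3) (ZMod 3) := ⟨mX, by rw [Matrix.det_fin_three]; decide⟩
def eY : Matrix.SpecialLinearGroup (Fin 3) (ZMod 3) := ⟨mY, by rw [Matrix.det_fin_three]; decide⟩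
def eXi : Matrix.SpecialLinearGroup (Fin 3) (ZMod 3) := ⟨mXi, by rw [Matrix.det_fin_three]; decide⟩
def eYi : Matrix.SpecialLinearGroup (Fin 3) (ZMod 3) := ⟨mYi, by rw [Matrix.det_fin_three]; decide⟩
def eV : Matrix.SpecialLinearGroup (Fin 3) (ZMod 3) := ⟨mV, by rw [Matrix.det_fin_three]; decide⟩
def eA : Matrix.SpecialLinearGroup (Fin 3) (ZMod 3) := ⟨mA, by rw [Matrix.det_fin_three]; decide⟩
def eB : Matrix.SpecialLinearGroup (Fin 3) (ZMod 3) := ⟨mB, by rw [Matrix.det_fin_three]; decide⟩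

theorem inv_eY : (eY)⁻¹ = eYi := by
  rw [inv_eq_iff_mul_eq_one]
  apply Subtype.ext
  show mY * mYi = 1
  decide

theorem inv_eX : (eX)⁻¹ = eXi := by
  rw [inv_eq_iff_mul_eq_one]
  apply Subtype.ext
  show mX * mXi = 1
  decide

theorem v0_eq : v0 eX eY = eV := by
  rw [v0, inv_eX, inv_eY]
  apply Subtype.ext
  show mXi * mXi * mYi * mX = mV
  decide

theorem a_eq : eX * eV * eX⁻¹ = eA := by
  rw [inv_eX]
  apply Subtype.ext
  show mX * mV * mXi = mA
  decide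

theorem b_eq : eY * eV * eY⁻¹ = eB := by
  rw [inv_eY]
  apply Subtype.ext
  show mY * mV * mYi = mB
  decide

theorem stp_eV : stp eX eY eV = eV := by
  rw [stp, a_eq, b_eq, mul_inv_eq_iff_eq_mul, mul_inv_eq_iff_eq_mul]
  apply Subtype.ext
  show mA * mB = mV * mB * mA
  decide

theorem fixedPair_psl3 {F : Type*} [Field F] [Fintype F] (hF : Fintype.card F = 3) :
    FixedPair (Matrix.ProjectiveSpecialLinearGroup (Fin 3) F) := by
  have hchar : CharP F 3 := by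
    have h30 : (3 : F) = 0 := by
      have := FiniteField.cast_card_eq_zero F
      rw [hF] at this
      exact_mod_cast this
    have h := ringChar.charP F
    have hd : ringChar F ∣ 3 := (ringChar.spec F 3).1 (by exact_mod_cast h30)
    rcases (Nat.dvd_prime Nat.prime_three).1 hd with h1 | h1
    · exact absurd h1 (CharP.ringChar_ne_one)
    · rw [← h1]; exact h
  let f : ZMod 3 →+* F := ZMod.castHom (dvd_refl 3) F
  let φ : Matrix.SpecialLinearGroup (Fin 3) (ZMod 3) →* Matrix.ProjectiveSpecialLinearGroup (Fin 3) F :=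
    (QuotientGroup.mk' _).comp (Matrix.SpecialLinearGroup.map f)
  have hX : φ eV ≠ 1 := by
    intro h
    have h1 := (QuotientGroup.eq_one_iff _).1 h
    rw [Matrix.SpecialLinearGroup.mem_center_iff] at h1
    obtain ⟨r, -, hr⟩ := h1
    have h2 := congrFun (congrFun hr 0) 1
    have h3 : ((Matrix.SpecialLinearGroup.map f) eV).1 0 1 = f 1 := rfl
    have h4 : (Matrix.scalar (Fin 3) r) 0 1 = 0 := by simp
    rw [h4] at h2
    have h5 : (0 : F) = f 1 := h2.trans h3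
    rw [map_one] at h5
    exact zero_ne_one h5
  refine FixedPair.of_hom (x := eX) (y := eY) φ ?_ ?_
  · rw [v0_eq]; exact hX
  · rw [v0_eq, stp_eV]

end Cfsg.Agent.H64.VsPSLThree
end

-- part: H482/VMain
section
/-!
# A finite group satisfying one of the laws `v_n` is solvable (from the minimal simple groups)
-/

set_option autoImplicit false

namespace Cfsg.Agent.H482.VMain

open Cfsg.Agent.H482.VSeq Cfsg.Agent.Classification

universe u

theorem not_law_of_concl {G : Type u} [Group G] (h : MinSimpleMain.Concl G) : ¬ Law G := by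
  rcases h with ⟨p, hp, F, _, _, hF, ⟨e⟩⟩ | ⟨p, hp, hp2, F, _, _, hF, ⟨e⟩⟩ | ⟨p, hp, h5, F, _, _, hF, ⟨e⟩⟩ |
      ⟨F, _, _, hF, ⟨e⟩⟩ | ⟨F, _, _, m, hm, hp, hF, ⟨e⟩⟩
  · intro hL
    exact (Cfsg.Agent.H910.VFix.fixedPair_psl2_two hp hF).not_law
      (hL.of_surjective (f := e.toMonoidHom) e.surjective)
  · intro hL
    exact (Cfsg.Agent.H910.VFix.fixedPair_psl2_three hp hp2 hF).not_law
      (hL.of_surjective (f := e.toMonoidHom) e.surjective)
  · intro hL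
    exact (Cfsg.Agent.H910.VFix.fixedPair_psl2_prime hp hF (h5.imp id And.left)).not_law
      (hL.of_surjective (f := e.toMonoidHom) e.surjective)
  · intro hL
    exact (Cfsg.Agent.H64.VsPSLThree.fixedPair_psl3 hF).not_law
      (hL.of_surjective (f := e.toMonoidHom) e.surjective)
  · intro hL
    exact (SzFixed.fixedPair_sz hm hp hF).not_law
      (hL.of_surjective (f := e.toMonoidHom) e.surjective)

/-- The main theorem, with the list of the minimal simple groups as hypothesis. -/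
theorem solvable_iff_law (hcl : ∀ (H : Type u) [Group H] [Finite H], Cfsg.IsMinimalSimple H →
    MinSimpleMain.Concl H) {G : Type u} [Group G] [Finite G] : Group.IsSolvable G ↔ Law G :=
  ⟨law_of_isSolvable, fun h => solvable_of_law (fun H _ _ hH => not_law_of_concl (hcl H hH)) G h⟩

end Cfsg.Agent.H482.VMain
end

-- part: S3935
section
set_option autoImplicit false
open Cfsg

namespace Cfsg.Agent.S3935

/-- A two-variable identity characterizing finite solvable groups. For elements x, y define v₁ = x⁻²y⁻¹x and v_{n+1} = [x v_n x⁻¹, y v_n y⁻¹], where [a, b] = aba⁻¹b⁻¹. A finite group G is solvable if and only if for some n the word v_n takes only the value 1 on G. -/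
theorem result {G : Type*} [Group G] [Finite G] :
    Group.IsSolvable G ↔ ∃ n : ℕ, ∀ x y : G,
      @Nat.rec (fun _ => G) (x⁻¹ * x⁻¹ * y⁻¹ * x) (fun _ v => (x * v * x⁻¹) * (y * v * y⁻¹) * (x * v * x⁻¹)⁻¹ * (y * v * y⁻¹)⁻¹) n = 1 :=
  Cfsg.Agent.H482.VMain.solvable_iff_law
    (fun _ _ _ hH => Cfsg.Agent.Classification.MinSimpleStrong.concl hH)

end Cfsg.Agent.S3935
end

private theorem dce_3ef42991a091 : _root_.True := by
  try have : _root_.True := by simp only [_root_.Cfsg.Agent.H910.VFix.ex.eq_1]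
  try have : _root_.True := by simp only [_root_.Cfsg.Agent.H910.VFix.T.eq_1]
  exact _root_.True.intro
end
end
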