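import Cfsg.Agent.H606.PQR.Pieces_m3
import Cfsg.Agent.H817.ThinConway
import Cfsg.Agent.H807.El.Conway
import Cfsg.Agent.H49.CoOnePr
import Cfsg.Agent.S0365
import Cfsg.Agent.S0377
import Cfsg.Agent.S0400
import Cfsg.Agent.S2043
import Cfsg.Agent.SporadicA.MathieuRecog
import Cfsg.Agent.H831.PQR.Thirteen
import Cfsg.Agent.H877.PQROrth_mg_m3
import Cfsg.Agent.H588.PQR.Th
import Cfsg.Agent.H1.J1Real
import Cfsg.Agent.S2039
import Cfsg.Agent.H1.J2Lift
import Cfsg.Agent.S2040
import Cfsg.Agent.J3.Elts
import Cfsg.Agent.S2041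
import Cfsg.Agent.SuzThree.Basic
import Cfsg.Agent.OrdDiv.Table
import Cfsg.Agent.S2048
import Cfsg.Agent.KFacts.He.TwoA_m3
import Cfsg.Agent.S2049
import Cfsg.Agent.RuD.Letters
import Cfsg.Agent.RuLat.Main
import Cfsg.Agent.S2051
import Cfsg.Agent.HN.Red
import Cfsg.Agent.HN.A12Group
import Cfsg.Agent.S2056
import Cfsg.Agent.SporadicB.ON45Word
import Cfsg.Agent.S1699
import Cfsg.Agent.S2052
import Cfsg.Agent.H963.PQR.GTwo
import Cfsg.Agent.H628.PQR.TwFCore
import Cfsg.Agent.Omega.TitsIso.TitsSide
import Cfsg.Agent.S2115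
import Cfsg.Agent.H517.PQR.Fi22
import Cfsg.Agent.Lib.PackCol
import Mathlib
import Cfsg.Agent.H967.CopSec
import Cfsg.Agent.CharactersDeep.InvRep
import Cfsg.Agent.Characters.DegreeBounds
import Cfsg.Agent.Characters.Core
import Cfsg.Agent.Characters.Galois
import Cfsg.Agent.HKS.LinTriv_m3
import Cfsg.Agent.Lib.PSolvable
import Cfsg.Agent.S0205
import Cfsg.Agent.Classification.MinSimpleStrong
import Cfsg.Agent.S0000
import Mathlib.GroupTheory.GroupAction.Transitive
import Cfsg.Agent.H588.PQR.Ratio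
import Cfsg.Agent.H115.PelQuot
import Cfsg.Agent.Nodes.RGDTwE6
import Cfsg.Agent.H462.T3.MulIrr
import Cfsg.Agent.S2341
import Cfsg.Agent.S1066
import Cfsg.Agent.S1070
import Cfsg.Agent.H723.Pair.BChar
import Cfsg.Agent.H847.MonDeg
import Cfsg.Agent.H995.IMB
import Cfsg.Agent.H329.Sec.BLev
import Cfsg.Agent.H816.MDeg
import Cfsg.Agent.H966.RowM
import Cfsg.Agent.H800.Sp.B
import Cfsg.Agent.KFacts.Baby.RowB_m3
import Cfsg.Agent.BabyM.Fi23B
import Cfsg.Agent.H635.Inv.MonFi
import Cfsg.Agent.H850.MonSub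
import Cfsg.Agent.H603.SporElim
import Cfsg.Agent.S1698
import Cfsg.Agent.S5534
import Cfsg.Agent.H291.SCBaby
import Cfsg.Agent.H384.CentM
import Cfsg.Agent.H70.MSeven
import Cfsg.Agent.H58.Mon.FiveB_m3
import Cfsg.Agent.H58.Cop.MSc_m3
import Cfsg.Agent.H680.PQR.BEleven
import Cfsg.Agent.H87.MP.Mon
import Cfsg.Agent.S2058
import Cfsg.Agent.S2059
import Cfsg.Statements.S3988
import Cfsg.Agent.FastGrp
import Cfsg.Agent.Prune
set_option linter.all false

section
prune_inst 0x7ffeacfba9a8a9dfdfff7e3faed8dffbf58cafffe6dff9fbffe061bfab9f6b0279c52b856be850fe1e56621410f87b43fb7ec67fe06bdc7ffffd57b05ffbff8fedf7bd0951d488340e2c0ffe63f1770e6f3ffcff77ffffffffffffffffffffbeffbfebfeffff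

-- part: H831/PQR/RowsCo
section
set_option linter.all false
open scoped Cfsg.Agent.FastGrp

/-!
# S3988: the rows `HS`, `McL`, `Co3`, `Co2`, `Co1` (helper831)

`M22 ≤ HS, McL`, `M23 ≤ Co2, Co3`, `M24 ≤ Co1`; `p = 13`, `Co1`: a triple of type `(2, 3, 13)`.
-/

set_option autoImplicit false

namespace Cfsg.Agent.H831.PQR

open Cfsg Subgroup Cfsg.Agent.SporadicA.Co0Mono Cfsg.Agent.H562.PQR
open Cfsg.Agent.H817.Thin.Conway (embHS embMcL perm_inj)
open Cfsg.Agent.CoOneType.Thirteen (permCo0_injective)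
open Cfsg.Agent.SporadicStructure.Co0Base (e8 e8_coe)
open Cfsg.Agent.LeechMat.Words (prodW)

universe u v

theorem hna_of_card {G : Type u} [Group G] [Finite G] [IsSimpleGroup G] (h : ¬ (Nat.card G).Prime) :
    ∃ x y : G, x * y ≠ y * x := by
  by_contra h1
  push Not at h1
  let _ : CommGroup G := { (inferInstance : Group G) with mul_comm := h1 }
  exact h IsSimpleGroup.prime_card

theorem NotMin.of_simple {S : Type v} [Group S] [Finite S] {K : Type u} [Group K] [Finite K] [IsSimpleGroup K]
    (hK : ¬ (Nat.card K).Prime) (f : K →* S) (hf : Function.Injective f) (hlt : Nat.card K < Nat.card S) {p : ℕ}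
    (hp : p.Prime) (hd : p ∣ Nat.card K) : NotMin p S := by
  have : Fact p.Prime := ⟨hp⟩
  exact NotMin.of_injective f hf (not_isPSolvable_of_simple (hna_of_card hK) hp hd) hlt

/-! ### the Mathieu groups -/

theorem card22 : Nat.card Spor.M22 = 443520 := Cfsg.Agent.SporadicA.MathieuRecog.card_M22
theorem card23 : Nat.card Spor.M23 = 10200960 := Cfsg.Agent.SporadicA.MathieuRecog.card_M23
theorem card24 : Nat.card M24 = 244823040 := Cfsg.Agent.S0364.result

/-- `M23` is the point stabiliser in `M24`. -/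
def equiv23 : Spor.M23 ≃* ↥(MulAction.stabilizer M24 (none : GolayPt)) where
  toFun g := ⟨⟨g.1, g.2.1⟩, g.2.2⟩
  invFun g := ⟨(g.1 : Equiv.Perm GolayPt), g.1.2, g.2⟩
  left_inv _ := rfl
  right_inv _ := rfl
  map_mul' _ _ := rfl

instance simple22 : IsSimpleGroup Spor.M22 := Cfsg.Agent.SporadicA.MathieuRecog.simple_M22

instance simple23 : IsSimpleGroup Spor.M23 := by
  have := Cfsg.Agent.S0377.result (none : GolayPt)
  exact (MulEquiv.isSimpleGroup_congr equiv23).2 this

instance simple24 : IsSimpleGroup M24 := Cfsg.Agent.S0365.result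

instance : Finite Spor.M22 := Nat.finite_of_card_ne_zero (by rw [card22]; norm_num)
instance : Finite Spor.M23 := Nat.finite_of_card_ne_zero (by rw [card23]; norm_num)
instance : Finite M24 := Nat.finite_of_card_ne_zero (by rw [card24]; norm_num)

/-! ### `HS`, `McL` -/

theorem row_HS : RowOdd Spor.HS := fun p hp _ hd => Or.inl (by
  have hc := Cfsg.Agent.H807.El.card_HS
  have : Finite Spor.HS := Nat.finite_of_card_ne_zero (by rw [hc]; norm_num)
  rw [hc] at hd
  refine NotMin.of_simple (by rw [card22]; norm_num) embHS (fun σ τ h => perm_inj (σ := σ) (τ := τ)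
    (congrArg (fun z : Spor.HS => (z : Equiv.Perm leechLattice)) h)) (by rw [hc, card22]; norm_num) hp ?_
  rw [card22]
  exact hp.dvd_of_dvd_pow (hd.trans (by norm_num : 44352000 ∣ 443520 ^ 3)))

theorem row_McL : RowOdd Spor.McL := fun p hp _ hd => Or.inl (by
  have hc := Cfsg.Agent.H807.El.card_McL
  have : Finite Spor.McL := Nat.finite_of_card_ne_zero (by rw [hc]; norm_num)
  rw [hc] at hd
  refine NotMin.of_simple (by rw [card22]; norm_num) embMcL (fun σ τ h => perm_inj (σ := σ) (τ := τ)
    (congrArg (fun z : Spor.McL => (z : Equiv.Perm leechLattice)) h)) (by rw [hc, card22]; norm_num) hp ?_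
  rw [card22]
  exact hp.dvd_of_dvd_pow (hd.trans (by norm_num : 898128000 ∣ 443520 ^ 3)))

/-! ### `Co3`, `Co2` -/

/-- the inclusion in `M24` -/
def inc23 : Spor.M23 →* M24 := Subgroup.inclusion (fun _ h => h.1)

theorem inc23_none (σ : Spor.M23) : (inc23 σ : Equiv.Perm GolayPt) none = none := σ.2.2

theorem inc23_symm (σ : Spor.M23) (p : GolayPt) : ((inc23 σ : Equiv.Perm GolayPt).symm p = none) ↔ p = none := by
  rw [Equiv.symm_apply_eq, inc23_none]

/-- `(a, b^23)` is fixed -/
theorem smul_of (σ : Spor.M23) (a b : ℤ) (x : leechLattice)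
    (hx : ∀ p, (x : GolayPt → ℤ) p = if p = none then a else b) : permCo0 (inc23 σ) • x = x := by
  apply Subtype.ext
  funext p
  rw [permCo0_smul, permMap_apply, hx, hx]
  by_cases h2 : p = none
  · rw [if_pos h2, if_pos ((inc23_symm σ p).2 h2)]
  · rw [if_neg h2, if_neg (fun h3 => h2 ((inc23_symm σ p).1 h3))]

theorem perm_inj23 {σ τ : Spor.M23} (h : (permCo0 (inc23 σ) : Equiv.Perm leechLattice) = permCo0 (inc23 τ)) : σ = τ := by
  have h1 : permCo0 (inc23 σ) = permCo0 (inc23 τ) := Subtype.ext h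
  exact Subgroup.inclusion_injective _ (permCo0_injective h1)

/-- the embedding of `M23` in `Co3` -/
def embCo3 : Spor.M23 →* Spor.Co3 :=
  (Co0.subtype.comp (permCo0.comp inc23)).codRestrict Spor.Co3 (fun σ =>
    ⟨(permCo0 (inc23 σ)).2, smul_of σ (-5) (-1) Spor.leechV fun _ => rfl⟩)

theorem row_Co3 : RowOdd Spor.Co3 := fun p hp _ hd => Or.inl (by
  have hc := Cfsg.Agent.H807.El.card_Co3
  have : Finite Spor.Co3 := Nat.finite_of_card_ne_zero (by rw [hc]; norm_num)
  rw [hc] at hd
  refine NotMin.of_simple (by rw [card23]; norm_num) embCo3 (fun σ τ h => perm_inj23 (σ := σ) (τ := τ)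
    (congrArg (fun z : Spor.Co3 => (z : Equiv.Perm leechLattice)) h)) (by rw [hc, card23]; norm_num) hp ?_
  rw [card23]
  exact hp.dvd_of_dvd_pow (hd.trans (by norm_num : 495766656000 ∣ 10200960 ^ 4)))

/-- `(-3, 1^23)` -/
def vecT : GolayPt → ℤ := fun p => if p = none then -3 else 1

theorem vecT_mem : vecT ∈ leechSet :=
  Spor.mem_leechSet_of_const_mod_four vecT 1 1 (by decide) (by decide) (by decide)

/-- `(-3, 1^23)` -/
def leechT : leechLattice := ⟨vecT, AddSubgroup.subset_closure vecT_mem⟩

theorem norm_T : sqNorm (leechT : GolayPt → ℤ) = 32 := by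
  show sqNorm vecT = 32
  decide +kernel

theorem norm_U : sqNorm (Spor.leechU : GolayPt → ℤ) = 32 := by
  show sqNorm Spor.vecU = 32
  decide +kernel

theorem exists_embCo2 : ∃ f : Spor.M23 →* Spor.Co2, Function.Injective f := by
  obtain ⟨g, hg⟩ := Cfsg.Agent.S0400.result leechT Spor.leechU norm_T norm_U
  have hT : g⁻¹ • Spor.leechU = leechT := by rw [← hg, inv_smul_smul]
  have hmem : ∀ σ : Spor.M23, ((MulAut.conj g (permCo0 (inc23 σ)) : Co0) : Equiv.Perm leechLattice) ∈ Spor.Co2 := by
    intro σ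
    refine ⟨(MulAut.conj g (permCo0 (inc23 σ)) : Co0).2, ?_⟩
    show (MulAut.conj g (permCo0 (inc23 σ)) : Co0) • Spor.leechU = Spor.leechU
    rw [MulAut.conj_apply, mul_smul, mul_smul, hT, smul_of σ (-3) 1 leechT fun _ => rfl, hg]
  refine ⟨(Co0.subtype.comp ((MulAut.conj g).toMonoidHom.comp (permCo0.comp inc23))).codRestrict Spor.Co2 hmem,
    fun σ τ h => ?_⟩
  have h1 : MulAut.conj g (permCo0 (inc23 σ)) = MulAut.conj g (permCo0 (inc23 τ)) :=
    Subtype.ext (congrArg (fun z : Spor.Co2 => (z : Equiv.Perm leechLattice)) h)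
  exact perm_inj23 (congrArg _ ((MulAut.conj g).injective h1))

theorem row_Co2 : RowOdd Spor.Co2 := fun p hp _ hd => Or.inl (by
  have hc := Cfsg.Agent.H807.El.card_Co2
  have : Finite Spor.Co2 := Nat.finite_of_card_ne_zero (by rw [hc]; norm_num)
  rw [hc] at hd
  obtain ⟨f, hf⟩ := exists_embCo2
  refine NotMin.of_simple (by rw [card23]; norm_num) f hf (by rw [hc, card23]; norm_num) hp ?_
  rw [card23]
  exact hp.dvd_of_dvd_pow (hd.trans (by norm_num : 42305421312000 ∣ 10200960 ^ 3)))

/-! ### `Co1` -/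

open Cfsg.Agent.H49.CoOnePr (pr ker_pr card_ker pr_surjective)

theorem pr_perm_injective : Function.Injective (pr.comp permCo0) := by
  rw [← MonoidHom.ker_eq_bot_iff]
  rcases ((inferInstance : (pr.comp permCo0).ker.Normal)).eq_bot_or_eq_top with h | h
  · exact h
  exfalso
  have h1 : ∀ σ : M24, permCo0 σ ∈ pr.ker := by
    intro σ
    have h2 : σ ∈ (pr.comp permCo0).ker := by rw [h]; exact Subgroup.mem_top σ
    exact h2
  have h3 : Nat.card M24 ≤ Nat.card pr.ker := by
    have : Finite pr.ker := Nat.finite_of_card_ne_zero (by rw [card_ker]; norm_num)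
    exact Nat.card_le_card_of_injective (fun σ : M24 => (⟨permCo0 σ, h1 σ⟩ : pr.ker)) fun σ τ h4 =>
      permCo0_injective (congrArg Subtype.val h4)
  rw [card24, card_ker] at h3
  norm_num at h3

namespace Thirteen

theorem xx : el 0 * el 0 = 1 := by
  have := rel (w := [0, 0]) (w' := []) (by decide) (by decide +kernel)
  simpa only [prodW, mul_one] using this

theorem yyy : el 1 ^ 3 = 1 := by
  have := rel (w := [1, 1, 1]) (w' := []) (by decide) (by decide +kernel)
  simp only [prodW, mul_one] at this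
  simpa only [pow_succ, pow_zero, one_mul, mul_assoc] using this

theorem xy13 : (el 0 * el 1) ^ 13 = 1 := by
  have := rel (w := [0, 1, 0, 1, 0, 1, 0, 1, 0, 1, 0, 1, 0, 1, 0, 1, 0, 1, 0, 1, 0, 1, 0, 1, 0, 1]) (w' := [])
    (by decide) (by decide +kernel)
  simp only [prodW, mul_one] at this
  simpa only [pow_succ, pow_zero, one_mul, mul_assoc] using this

open Cfsg.Agent.LeechMat.Code Cfsg.Agent.LeechMat.Elements Cfsg.Agent.LeechMat.Orbit in
theorem y_ne : el 1 ≠ 1 := by
  intro h
  obtain ⟨-, -, -, h4⟩ := rep_el (k := 1) (by norm_num)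
  rw [h] at h4
  have h1 := congrFun (h4 (e8 none)) none
  have h2 : mv (Ms 1) ((e8 none : leechLattice) : GolayPt → ℤ) none =
      8 * sdig ((Ms 1).getD (pos none) 0) (pos none) := by
    show ∑ j, _ * vec ((Ms 1).getD (pos j) 0) none = _
    rw [e8_coe, Finset.sum_eq_single none]
    · rw [Pi.single_eq_same]
      rfl
    · intro j _ hj
      rw [Pi.single_eq_of_ne hj, zero_mul]
    · intro h
      exact absurd (Finset.mem_univ _) h
  rw [h2, Pi.smul_apply, smul_eq_mul, one_smul, e8_coe, Pi.single_eq_same] at h1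
  have h3 : 8 * sdig ((Ms 1).getD (pos none) 0) (pos none) ≠ ((8 : ℕ) : ℤ) * 8 := by decide +kernel
  exact h3 h1

/-- the images in `Co1` -/
noncomputable def X : Spor.Co1 := pr (el 0)
noncomputable def Y : Spor.Co1 := pr (el 1)

theorem XX : X * X = 1 := by
  show pr (el 0) * pr (el 0) = 1
  rw [← map_mul, xx, map_one]

theorem YYY : Y ^ 3 = 1 := by
  show pr (el 1) ^ 3 = 1
  rw [← map_pow, yyy, map_one]

theorem XY : (X * Y) ^ 13 = 1 := by
  show (pr (el 0) * pr (el 1)) ^ 13 = 1
  rw [← map_mul, ← map_pow, xy13, map_one]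

theorem Y_ne : Y ≠ 1 := by
  intro h
  have h1 : el 1 ∈ pr.ker := h
  have h2 : (⟨el 1, h1⟩ : pr.ker) ^ 2 = 1 := by
    rw [← card_ker]
    have : Finite pr.ker := Nat.finite_of_card_ne_zero (by rw [card_ker]; norm_num)
    exact pow_card_eq_one'
  have h3 : el 1 ^ 2 = 1 := congrArg Subtype.val h2
  apply y_ne
  calc el 1 = el 1 ^ 3 * (el 1 ^ 2)⁻¹ := by group
    _ = 1 := by rw [h3, yyy, inv_one, mul_one]

theorem X_ne : X ≠ 1 := by
  intro h
  have h1 := XY
  rw [h, one_mul] at h1
  apply Y_ne
  calc Y = Y ^ 13 * ((Y ^ 3) ^ 4)⁻¹ := by group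
    _ = 1 := by rw [h1, YYY, one_pow, inv_one, mul_one]

theorem Z_ne : X * Y ≠ 1 := by
  intro h
  have h1 : X = Y⁻¹ := eq_inv_of_mul_eq_one_left h
  have h2 := XX
  rw [h1] at h2
  apply Y_ne
  calc Y = Y ^ 3 * (Y⁻¹ * Y⁻¹) := by group
    _ = 1 := by rw [h2, YYY, mul_one]

theorem orderOf_X : orderOf X = 2 := orderOf_eq_prime (by rw [pow_two]; exact XX) X_ne
theorem orderOf_Y : orderOf Y = 3 := orderOf_eq_prime YYY Y_ne

theorem orderOf_Z : orderOf (X * Y) = 13 := by
  have : Fact (Nat.Prime 13) := ⟨by norm_num⟩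
  exact orderOf_eq_prime XY Z_ne

theorem trip : TripABC 2 3 13 Spor.Co1 := by
  have hm : Cfsg.Agent.H80.Fpf.MultDvd Spor.Co1 2 :=
    Cfsg.Agent.H80.Fpf.multDvd_of_cyclic (by norm_num) Cfsg.Agent.S2043.result
  refine TripABC.of_mult hm (fun s hs hd => Or.inl ((Nat.prime_dvd_prime_iff_eq hs Nat.prime_two).1 hd))
    (by norm_num) (by norm_num) (by norm_num) (by norm_num) (by norm_num) (by norm_num)
    (x := X) (y := Y) (z := (X * Y)⁻¹) (PE.of_orderOf (by norm_num) orderOf_X)
    (PE.of_orderOf (by norm_num) orderOf_Y) (PE.of_orderOf (by norm_num) orderOf_Z).inv (mul_inv_cancel _)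

end Thirteen

theorem row_Co1 : RowOdd Spor.Co1 := by
  intro p hp _ hd
  have hc := Cfsg.Agent.H49.CoOnePr.card_co1
  have : Finite Spor.Co1 := Cfsg.Agent.H49.CoOnePr.finite_co1
  rw [hc] at hd
  have h1 : p ∣ 13 * 244823040 ^ 4 := hd.trans (by norm_num)
  rcases hp.dvd_or_dvd h1 with h1 | h1
  · refine Or.inr ⟨2, 3, 13, Or.inr (Or.inr ((Nat.prime_dvd_prime_iff_eq hp (by norm_num)).1 h1)), Or.inl rfl,
      Thirteen.trip⟩
  · refine Or.inl (NotMin.of_simple (by rw [card24]; norm_num) (pr.comp permCo0) pr_perm_injective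
      (by rw [hc, card24]; norm_num) hp ?_)
    rw [card24]
    exact hp.dvd_of_dvd_pow h1

end Cfsg.Agent.H831.PQR
end

-- part: H963/PQR/GTwoThree_mg
section

end

-- part: H562/PQR/AllRows
section
prune_inst 0x11044651162020000040502520040a71500019200600001d96400440906d8630d02a94070b01a1889caa2a040094048138801f9420000000a84420000050120800b4202b358ad1d36001980808c010000300880000000000000000000041004014010000
set_option linter.all false
open scoped Cfsg.Agent.FastGrp

-- part: H984/PQR/RowJ1
section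
/-!
# The row of `J₁` for S3988 (helper984)
-/

set_option autoImplicit false

namespace Cfsg.Agent.H984.PQR.RowJ1

open Cfsg.Agent.H562.PQR
open Cfsg.Agent.SporadicB.J1.Mat Cfsg.Agent.SporadicB.J1.Data Cfsg.Agent.SporadicB.J1.Main
open Cfsg.Spor (J1)
open Cfsg.Agent.H1.J1Real (wu sq_u prime_cases)
open Cfsg.Agent.H413.JOneLocal (card_J1)

theorem mult : Cfsg.Agent.H80.Fpf.MultDvd J1 1 :=
  Cfsg.Agent.H80.Fpf.multDvd_of_cyclic one_ne_zero Cfsg.Agent.S2039.result

theorem u_ne : ev wu ≠ 1 := (rep_ev _).ne Rep.one (by decide +kernel)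

theorem trip {b c : ℕ} (hb : b.Prime) (hc : c.Prime) (h2b : 2 ≠ b) (h2c : 2 ≠ c) (hbc : b ≠ c) (w : List ℕ)
    (h1 : powC (evC w) b cI = cI) (h2 : powC (mulC (evC wu) (evC w)) c cI = cI) : TripABC 2 b c J1 := by
  refine trip_of_pow (i := 1) (j := 1) (k := 1) mult (fun s hs h => absurd (Nat.dvd_one.1 h) hs.one_lt.ne') Nat.prime_two
    hb hc h2b h2c hbc (x := ev wu) (y := ev w) ?_ ?_ ?_ u_ne
  · rw [pow_one, pow_two]; exact sq_u
  · rw [pow_one]; exact ((rep_ev _).pow b).eq Rep.one h1
  · rw [pow_one]; exact (((rep_ev _).mul (rep_ev _)).pow c).eq Rep.one h2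

theorem trip_7_19 : TripABC 2 7 19 J1 :=
  trip (by norm_num) (by norm_num) (by norm_num) (by norm_num) (by norm_num) [0] (by decide +kernel) (by decide +kernel)

theorem trip_11_5 : TripABC 2 11 5 J1 :=
  trip (by norm_num) (by norm_num) (by norm_num) (by norm_num) (by norm_num) [1, 1, 0, 0] (by decide +kernel)
    (by decide +kernel)

theorem trip_5_3 : TripABC 2 5 3 J1 :=
  trip (by norm_num) (by norm_num) (by norm_num) (by norm_num) (by norm_num) [1, 0, 1, 0, 0] (by decide +kernel)
    (by decide +kernel)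

/-- **the row of `J₁`** -/
theorem row_J1 : RowOdd J1 := by
  intro p hp hp2 hd
  rw [card_J1] at hd
  refine Or.inr ?_
  rcases prime_cases hp hd with rfl | rfl | rfl | rfl | rfl | rfl
  · exact absurd rfl hp2
  · exact ⟨2, 5, 3, by simp, by simp, trip_5_3⟩
  · exact ⟨2, 5, 3, by simp, by simp, trip_5_3⟩
  · exact ⟨2, 7, 19, by simp, by simp, trip_7_19⟩
  · exact ⟨2, 11, 5, by simp, by simp, trip_11_5⟩
  · exact ⟨2, 7, 19, by simp, by simp, trip_7_19⟩

end Cfsg.Agent.H984.PQR.RowJ1
end

-- part: H984/PQR/RowJ2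
section
/-!
# The row of `J₂` for S3988 (helper984)
-/

set_option autoImplicit false

namespace Cfsg.Agent.H984.PQR.RowJ2

open Cfsg.Agent.H562.PQR
open Cfsg.Agent.J2.HundredGens (gw pw pw_eq pw_mul pw_nil pw_val)
open Cfsg.Agent.H1.J2Cover (gw_append gw_nil)

theorem mult : Cfsg.Agent.H80.Fpf.MultDvd Cfsg.Spor.J2 2 :=
  Cfsg.Agent.H80.Fpf.multDvd_of_cyclic two_ne_zero Cfsg.Agent.S2040.result

/-- powers of words -/
def pwr (L : List ℕ) : ℕ → List ℕ
  | 0 => []
  | n + 1 => L ++ pwr L n

theorem gw_pwr (L : List ℕ) : ∀ n : ℕ, gw (pwr L n) = gw L ^ n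
  | 0 => by rw [pow_zero]; exact gw_nil
  | n + 1 => by rw [pow_succ', ← gw_pwr L n, ← gw_append]; rfl

theorem gw_ne {L : List ℕ} (i : Fin 100) (h : Nat.beq (Cfsg.Agent.J2.HundredGens.run L i) i = false) : gw L ≠ 1 := by
  intro h1
  have h2 : pw L = pw [] := congrArg Subtype.val h1
  have h3 := pw_val L i
  rw [h2, pw_val [] i] at h3
  have h4 : Cfsg.Agent.J2.HundredGens.run L i = i := h3.symm
  rw [h4] at h
  simp at h

theorem trip {b c : ℕ} (hb : b.Prime) (hc : c.Prime) (h2b : 2 ≠ b) (h2c : 2 ≠ c) (hbc : b ≠ c) (u w : List ℕ)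
    (h0 : Cfsg.Agent.J2.HundredGens.chk (pwr u 2) [] = true)
    (h1 : Cfsg.Agent.J2.HundredGens.chk (pwr w b) [] = true)
    (h2 : Cfsg.Agent.J2.HundredGens.chk (pwr (u ++ w) c) [] = true) (i : Fin 100)
    (h3 : Nat.beq (Cfsg.Agent.J2.HundredGens.run u i) i = false) : TripABC 2 b c Cfsg.Spor.J2 := by
  have key : TripABC 2 b c Cfsg.Agent.SporadicA.J2Hundred.G := by
    have hm : Cfsg.Agent.H80.Fpf.MultDvd Cfsg.Agent.SporadicA.J2Hundred.G 2 := by
      intro Γ _ _ π hπ
      have h := mult Γ _ (hπ.equiv_comp Cfsg.Agent.H1.J2Lift.psi)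
      have hk : (Cfsg.Agent.H1.J2Lift.psi.toMonoidHom.comp π).ker = π.ker := by
        ext g
        rw [MonoidHom.mem_ker, MonoidHom.mem_ker, MonoidHom.comp_apply]
        exact (MulEquiv.map_eq_one_iff Cfsg.Agent.H1.J2Lift.psi)
      rwa [hk] at h
    refine trip_of_pow (i := 1) (j := 1) (k := 1) hm
      (fun s hs h => Or.inl ((Nat.prime_dvd_prime_iff_eq hs Nat.prime_two).1 h)) Nat.prime_two
      hb hc h2b h2c hbc (x := gw u) (y := gw w) ?_ ?_ ?_ (gw_ne i h3)
    · rw [pow_one, ← gw_pwr]; exact Subtype.ext (pw_eq h0)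
    · rw [pow_one, ← gw_pwr]; exact Subtype.ext (pw_eq h1)
    · rw [pow_one, ← gw_append, ← gw_pwr]; exact Subtype.ext (pw_eq h2)
  exact key.congr Cfsg.Agent.H1.J2Lift.psi

theorem trip_3_7 : TripABC 2 3 7 Cfsg.Spor.J2 :=
  trip (by norm_num) (by norm_num) (by norm_num) (by norm_num) (by norm_num) [1, 4] [0, 1, 3, 2, 3, 1, 2]
    (by decide +kernel) (by decide +kernel) (by decide +kernel) 0 (by decide +kernel)

theorem trip_3_5 : TripABC 2 3 5 Cfsg.Spor.J2 :=
  trip (by norm_num) (by norm_num) (by norm_num) (by norm_num) (by norm_num) [0] [1, 2]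
    (by decide +kernel) (by decide +kernel) (by decide +kernel) 2 (by decide +kernel)

/-- **the row of `J₂`** -/
theorem row_J2 : RowOdd Cfsg.Spor.J2 := by
  intro p hp hp2 hd
  have hcard : Nat.card Cfsg.Spor.J2 = 604800 := Cfsg.Agent.S2040.card_J2
  rw [hcard, show 604800 = 2 ^ 7 * 3 ^ 3 * 5 ^ 2 * 7 by norm_num] at hd
  have h2 : ∀ q n : ℕ, q.Prime → p ∣ q ^ n → p = q := fun q n hq h =>
    (Nat.prime_dvd_prime_iff_eq hp hq).1 (hp.dvd_of_dvd_pow h)
  refine Or.inr ?_
  simp only [hp.dvd_mul] at hd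
  rcases hd with ((hd | hd) | hd) | hd
  · exact absurd (h2 2 7 (by norm_num) hd) hp2
  · rw [h2 3 3 (by norm_num) hd]; exact ⟨2, 3, 7, by simp, by simp, trip_3_7⟩
  · rw [h2 5 2 (by norm_num) hd]; exact ⟨2, 3, 5, by simp, by simp, trip_3_5⟩
  · rw [(Nat.prime_dvd_prime_iff_eq hp (by norm_num)).1 hd]; exact ⟨2, 3, 7, by simp, by simp, trip_3_7⟩

end Cfsg.Agent.H984.PQR.RowJ2
end

-- part: H984/PQR/RowJ3
section
/-!
# The row of `J₃` for S3988 (helper984)
-/

set_option autoImplicit false
set_option maxRecDepth 100000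

namespace Cfsg.Agent.H984.PQR.RowJ3

open Cfsg.Agent.H562.PQR
open Cfsg Cfsg.Spor Cfsg.Agent.J3.Core Cfsg.Agent.J3.Tab Cfsg.Agent.J3.Mono Cfsg.Agent.J3.Elts

theorem chkC : beqL (cols (powT tC 2)) (cols (tS 0)) = true := by decide +kernel
theorem chkD1 : beqL (cols (powT (tD (0, 1)) 9)) (cols (tS 0)) = true := by decide +kernel
theorem chkD14 : beqL (cols (powT (compT (tD (0, 1)) (tD (1, 1))) 9)) (cols (tS 0)) = true := by decide +kernel
theorem chkA7 : beqL (cols (powT (tA (2, 1)) 3)) (cols (tS 0)) = true := by decide +kernel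
theorem chk17 : beqL (cols (powT (compT tC (tD (0, 1))) 17)) (cols (tS 0)) = true := by decide +kernel
theorem chk19 : beqL (cols (powT (compT tC (compT (tD (0, 1)) (tD (1, 1)))) 19)) (cols (tS 0)) = true := by
  decide +kernel
theorem chk5 : beqL (cols (powT (compT tC (tA (2, 1))) 5)) (cols (tS 0)) = true := by decide +kernel
theorem chkne : Nat.beq ((cols (compT (tD (0, 1)) tC)).getD 1 0) ((cols (compT tC (tD (0, 1)))).getD 1 0) = false := by
  decide +kernel

section

variable {F : Type*} [Field F] {ω : F} (H : Good ω) (G : Gens F ω)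

include H in
theorem repc : RepG ω tC G.c := by unfold RepG; rw [G.hc]; exact repC H

include H in
theorem repd (Z : F9) : RepG ω (tD Z) (G.d Z) := by unfold RepG; rw [G.hd]; exact repD H _

include H in
theorem repa (Z : F9) : RepG ω (tA Z) (G.a Z) := by unfold RepG; rw [G.ha]; exact repA H _

include H in
theorem c_not_mem_center : G.c ∉ Subgroup.center (threeJ3 F ω) := by
  intro h
  rw [Subgroup.mem_center_iff] at h
  have h1 := h (G.d (0, 1))
  have h2 := RepG.cols_eq H ((h1 ▸ (repd H G (0, 1)).mul (repc H G)) : RepG ω (compT (tD (0, 1)) tC) (G.c * G.d (0, 1)))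
    ((repc H G).mul (repd H G (0, 1))) ((0, 1) : F9)
  have h3 : idx ((0, 1) : F9) = 1 := by decide
  rw [h3] at h2
  have h4 := chkne
  rw [h2] at h4
  simp at h4

end

section

variable {F : Type} [Field F] [Fintype F] {ω : F} (hF : Fintype.card F = 4) (hω : ω ^ 2 + ω + 1 = 0)

include hF hω in
theorem mult : Cfsg.Agent.H80.Fpf.MultDvd (J3 F ω) 3 :=
  Cfsg.Agent.H80.Fpf.multDvd_of_cyclic (by norm_num) (Cfsg.Agent.S2041.result hF ω hω)

include hF hω in
theorem trip {c : ℕ} (hc : c.Prime) (h2c : 2 ≠ c) (h3c : 3 ≠ c) (G : Gens F ω) {y : threeJ3 F ω}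
    (h1 : y ^ 9 = 1) (h2 : (G.c * y) ^ c = 1) : TripABC 2 3 c (J3 F ω) := by
  have H := good_of_card hF hω
  set π := QuotientGroup.mk' (Subgroup.center (threeJ3 F ω)) with hπ
  refine trip_of_pow (i := 1) (j := 2) (k := 1) (mult hF hω)
    (fun s hs h => Or.inr (Or.inr (Or.inl ((Nat.prime_dvd_prime_iff_eq hs Nat.prime_three).1 h)))) Nat.prime_two
      Nat.prime_three hc (by norm_num) h2c h3c (x := π G.c) (y := π y) ?_ ?_ ?_ ?_
  · rw [pow_one, ← map_pow]
    have h3 : G.c ^ 2 = 1 := RepG.ext ((repc H G).pow H 2) (repG_one H) (beqL_eq chkC)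
    rw [h3, map_one]
  · rw [← map_pow, show 3 ^ 2 = 9 by norm_num, h1, map_one]
  · rw [pow_one, ← map_mul, ← map_pow, h2, map_one]
  · intro h
    exact c_not_mem_center H G ((QuotientGroup.eq_one_iff _).1 h)

include hF hω in
theorem trip_17 : TripABC 2 3 17 (J3 F ω) := by
  have H := good_of_card hF hω
  obtain ⟨G⟩ := exists_gens hF H
  exact trip hF hω (by norm_num) (by norm_num) (by norm_num) G (y := G.d (0, 1))
    (RepG.ext ((repd H G _).pow H 9) (repG_one H) (beqL_eq chkD1))
    (RepG.ext (((repc H G).mul (repd H G _)).pow H 17) (repG_one H) (beqL_eq chk17))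

include hF hω in
theorem trip_19 : TripABC 2 3 19 (J3 F ω) := by
  have H := good_of_card hF hω
  obtain ⟨G⟩ := exists_gens hF H
  exact trip hF hω (by norm_num) (by norm_num) (by norm_num) G (y := G.d (0, 1) * G.d (1, 1))
    (RepG.ext (((repd H G _).mul (repd H G _)).pow H 9) (repG_one H) (beqL_eq chkD14))
    (RepG.ext (((repc H G).mul ((repd H G _).mul (repd H G _))).pow H 19) (repG_one H) (beqL_eq chk19))

include hF hω in
theorem trip_5 : TripABC 2 3 5 (J3 F ω) := by
  have H := good_of_card hF hω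
  obtain ⟨G⟩ := exists_gens hF H
  exact trip hF hω (by norm_num) (by norm_num) (by norm_num) G (y := G.a (2, 1))
    (by
      have h1 : G.a (2, 1) ^ 3 = 1 := RepG.ext ((repa H G _).pow H 3) (repG_one H) (beqL_eq chkA7)
      rw [show 9 = 3 * 3 by norm_num, pow_mul, h1, one_pow])
    (RepG.ext (((repc H G).mul (repa H G _)).pow H 5) (repG_one H) (beqL_eq chk5))

include hF hω in
/-- **the row of `J₃`** -/
theorem row_J3 : RowOdd (J3 F ω) := by
  intro p hp hp2 hd
  have hcard : Nat.card (J3 F ω) = 50232960 := Cfsg.Agent.J3.Simple.card_J3 hF (good_of_card hF hω)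
  rw [hcard, show 50232960 = 2 ^ 7 * 3 ^ 5 * 5 * 17 * 19 by norm_num] at hd
  have h2 : ∀ q n : ℕ, q.Prime → p ∣ q ^ n → p = q := fun q n hq h =>
    (Nat.prime_dvd_prime_iff_eq hp hq).1 (hp.dvd_of_dvd_pow h)
  refine Or.inr ?_
  simp only [hp.dvd_mul] at hd
  rcases hd with (((hd | hd) | hd) | hd) | hd
  · exact absurd (h2 2 7 (by norm_num) hd) hp2
  · rw [h2 3 5 (by norm_num) hd]; exact ⟨2, 3, 5, by simp, by simp, trip_5 hF hω⟩
  · rw [(Nat.prime_dvd_prime_iff_eq hp (by norm_num)).1 hd]; exact ⟨2, 3, 5, by simp, by simp, trip_5 hF hω⟩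
  · rw [(Nat.prime_dvd_prime_iff_eq hp (by norm_num)).1 hd]; exact ⟨2, 3, 17, by simp, by simp, trip_17 hF hω⟩
  · rw [(Nat.prime_dvd_prime_iff_eq hp (by norm_num)).1 hd]; exact ⟨2, 3, 19, by simp, by simp, trip_19 hF hω⟩

end

end Cfsg.Agent.H984.PQR.RowJ3
end

-- part: H536/PQR/Suz
section
/-!
# S3988: the row of `Suz` (helper536): triples (2, 3, 5), (2, 3, 7), (2, 3, 11), (2, 3, 13)
-/

set_option autoImplicit false
set_option maxRecDepth 100000

namespace Cfsg.Agent.H536.PQR.Suz

open Cfsg Cfsg.Agent.H562.PQR Cfsg.Agent.H80.Fpf Cfsg.Agent.H536.PQR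
open Cfsg.Spor Cfsg.Agent.Lib.PermNet Cfsg.Agent.Lib.PermNetOrbit Cfsg.Agent.SporadicRecognition.SuzPhi
  Cfsg.Agent.SporadicRecognition.SuzBound Cfsg.Agent.SporadicRecognition.SuzOrder
  Cfsg.Agent.SuzThree.Nets Cfsg.Agent.SuzThree.Basic

/-- the word `w ^ n` -/
def pw (w : List Suz.Gen) : ℕ → List Suz.Gen
  | 0 => []
  | n + 1 => w ++ pw w n

theorem el_pw (w : List Suz.Gen) (n : ℕ) : el (pw w n) = el w ^ n := by
  induction n with
  | zero =>
    show el [] = _
    have h : (el [] : Suz) = el [] * el [] := by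
      conv_lhs => rw [← List.nil_append ([] : List Suz.Gen)]
      exact el_append [] []
    rw [pow_zero]
    exact (mul_left_cancel ((mul_one _).trans h)).symm
  | succ n ih =>
    show el (w ++ pw w n) = _
    rw [el_append, ih, pow_succ']

theorem pe_el {a : ℕ} (ha : a.Prime) (k : ℕ) (w : List Suz.Gen) (p q : ℕ) (h : t5 (wd (pw w (a ^ k))) = true)
    (hm : mv (wd w) p q = true) (hpq : Nat.beq p q = false) : PE a (el w) := by
  refine pe_of_pow ha k ?_ ?_
  · rw [← el_pw]
    exact eq_one_of_t5 (Rep.el _) h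
  · intro h1
    have h2 := (Rep.el w).pt hm
    rw [h1, map_one] at h2
    have h3 : p = q := h2
    rw [h3, Nat.beq_refl] at hpq
    exact absurd hpq (by decide)

theorem card_suz : Nat.card Suz = 448345497600 :=
  OrdDiv.table_spor Spor.Suz (.suz, 448345497600) (by decide +kernel) ⟨MulEquiv.refl _⟩

theorem mult : MultDvd Suz 6 := multDvd_of_cyclic (by norm_num) S2048.result

theorem mult_six {c : ℕ} : ∀ s : ℕ, s.Prime → s ∣ 6 → s = 2 ∨ s = 2 ∨ s = 3 ∨ s = c := by
  intro s hs h
  have h1 : s ∣ 2 * 3 := h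
  rcases (hs.dvd_mul).1 h1 with h2 | h2
  · exact Or.inl ((Nat.prime_dvd_prime_iff_eq hs Nat.prime_two).1 h2)
  · exact Or.inr (Or.inr (Or.inl ((Nat.prime_dvd_prime_iff_eq hs Nat.prime_three).1 h2)))

theorem trip5 : TripABC 2 3 5 Suz := by
  refine trip_mul mult mult_six Nat.prime_two Nat.prime_three (by norm_num) (by norm_num) (by norm_num)
    (by norm_num) (x := el [.a]) (y := el [.b, .c])
    (pe_el Nat.prime_two 1 _ 2 3 (by decide +kernel) (by decide +kernel) (by decide))
    (pe_el Nat.prime_three 1 _ 1 2 (by decide +kernel) (by decide +kernel) (by decide)) ?_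
  rw [← el_append]
  exact pe_el (by norm_num) 1 _ 1 3 (by decide +kernel) (by decide +kernel) (by decide)

theorem trip7 : TripABC 2 3 7 Suz := by
  refine trip_mul mult mult_six Nat.prime_two Nat.prime_three (by norm_num) (by norm_num) (by norm_num)
    (by norm_num) (x := el [.c, .f]) (y := el [.b, .g])
    (pe_el Nat.prime_two 1 _ 2 9 (by decide +kernel) (by decide +kernel) (by decide))
    (pe_el Nat.prime_three 1 _ 0 2 (by decide +kernel) (by decide +kernel) (by decide)) ?_
  rw [← el_append]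
  exact pe_el (by norm_num) 1 _ 0 9 (by decide +kernel) (by decide +kernel) (by decide)

theorem trip11 : TripABC 2 3 11 Suz := by
  refine trip_mul mult mult_six Nat.prime_two Nat.prime_three (by norm_num) (by norm_num) (by norm_num)
    (by norm_num) (x := el [.c, .f]) (y := el [.b, .d, .e, .g])
    (pe_el Nat.prime_two 1 _ 2 9 (by decide +kernel) (by decide +kernel) (by decide))
    (pe_el Nat.prime_three 1 _ 0 2 (by decide +kernel) (by decide +kernel) (by decide)) ?_
  rw [← el_append]
  exact pe_el (by norm_num) 1 _ 0 9 (by decide +kernel) (by decide +kernel) (by decide)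

theorem trip13 : TripABC 2 3 13 Suz := by
  refine trip_mul mult mult_six Nat.prime_two Nat.prime_three (by norm_num) (by norm_num) (by norm_num)
    (by norm_num) (x := el [.c, .d, .c]) (y := el [.b, .d, .e, .f])
    (pe_el Nat.prime_two 1 _ 2 13 (by decide +kernel) (by decide +kernel) (by decide))
    (pe_el Nat.prime_three 1 _ 1 2 (by decide +kernel) (by decide +kernel) (by decide)) ?_
  rw [← el_append]
  exact pe_el (by norm_num) 1 _ 1 13 (by decide +kernel) (by decide +kernel) (by decide)

theorem row_Suz : RowOdd Cfsg.Spor.Suz := by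
  intro p hp hp2 hd
  right
  rw [card_suz] at hd
  have hm2 := prime_mem hp [2, 3, 5, 7, 11, 13] (by decide) 13 hd (by norm_num)
  simp only [List.mem_cons, List.not_mem_nil, or_false] at hm2
  rcases hm2 with rfl | rfl | rfl | rfl | rfl | rfl
  · exact absurd rfl hp2
  · exact ⟨2, 3, 5, by norm_num, Or.inl rfl, trip5⟩
  · exact ⟨2, 3, 5, by norm_num, Or.inl rfl, trip5⟩
  · exact ⟨2, 3, 7, by norm_num, Or.inl rfl, trip7⟩
  · exact ⟨2, 3, 11, by norm_num, Or.inl rfl, trip11⟩
  · exact ⟨2, 3, 13, by norm_num, Or.inl rfl, trip13⟩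

end Cfsg.Agent.H536.PQR.Suz
end

-- part: H536/PQR/He
section
/-!
# S3988: the row of `He` (helper536): triples (2, 3, 17), (2, 5, 7)
-/

set_option autoImplicit false
set_option maxRecDepth 100000

namespace Cfsg.Agent.H536.PQR.He

open Cfsg Cfsg.Agent.H562.PQR Cfsg.Agent.H80.Fpf Cfsg.Agent.H536.PQR
open Cfsg.Spor.He (Gen)
open Cfsg.Agent.SporadicB.HePerm (act wd)
open Cfsg.Agent.FixBN.HeStab Cfsg.Agent.KFacts.He.Lv Cfsg.Agent.H492.IMHeCnt

theorem row_He : RowOdd Cfsg.Spor.He := by
  have hm : MultDvd Cfsg.Spor.He 1 := multDvd_of_cyclic one_ne_zero S2049.result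
  have h17 : TripABC 2 3 17 Cfsg.Spor.He := by
    refine trip_mul hm (fun s hs h => absurd (Nat.dvd_one.1 h) hs.one_lt.ne') (by norm_num) (by norm_num)
      (by norm_num) (by norm_num) (by norm_num) (by norm_num) (x := wd [.a, .d, .e, .f]) (y := wd [.b, .c])
      (pe_of_order (by norm_num) 1 (orderOf_of (n := 4) (by decide) (by decide +kernel)))
      (pe_of_order (by norm_num) 0 (orderOf_of (n := 3) (by decide) (by decide +kernel))) ?_
    rw [← wd_append]
    exact pe_of_order (by norm_num) 0 (orderOf_of (n := 17) (by decide) (by decide +kernel))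
  have h57 : TripABC 2 5 7 Cfsg.Spor.He := by
    refine trip_mul hm (fun s hs h => absurd (Nat.dvd_one.1 h) hs.one_lt.ne') (by norm_num) (by norm_num)
      (by norm_num) (by norm_num) (by norm_num) (by norm_num) (x := wd [.c, .f, .g]) (y := wd [.c, .d, .e])
      (pe_of_order (by norm_num) 1 (orderOf_of (n := 4) (by decide) (by decide +kernel)))
      (pe_of_order (by norm_num) 0 (orderOf_of (n := 5) (by decide) (by decide +kernel))) ?_
    rw [← wd_append]
    exact pe_of_order (by norm_num) 0 (orderOf_of (n := 7) (by decide) (by decide +kernel))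
  intro p hp hp2 hd
  right
  rw [card_he] at hd
  have hm2 := prime_mem hp [2, 3, 5, 7, 17] (by decide) 10 hd (by norm_num)
  simp only [List.mem_cons, List.not_mem_nil, or_false] at hm2
  rcases hm2 with rfl | rfl | rfl | rfl | rfl
  · exact absurd rfl hp2
  · exact ⟨2, 3, 17, by norm_num, Or.inl rfl, h17⟩
  · exact ⟨2, 5, 7, by norm_num, Or.inl rfl, h57⟩
  · exact ⟨2, 5, 7, by norm_num, Or.inl rfl, h57⟩
  · exact ⟨2, 3, 17, by norm_num, Or.inl rfl, h17⟩

end Cfsg.Agent.H536.PQR.He
end

-- part: H536/PQR/Ru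
section
/-!
# S3988: the row of `Ru` (helper536): triples (2, 3, 29), (2, 5, 7), (2, 3, 13)
-/

set_option autoImplicit false
set_option maxRecDepth 100000
set_option exponentiation.threshold 5000

namespace Cfsg.Agent.H536.PQR.Ru

open Cfsg Cfsg.Agent.H562.PQR Cfsg.Agent.H80.Fpf Cfsg.Agent.H536.PQR
open Cfsg.Agent.SporadicB Cfsg.Agent.SporadicB.RuOrder Cfsg.Agent.SporRec.TCUpperCert Cfsg.Agent.SporRec.R3.Kernel
  Cfsg.Agent.RuD.Letters

/-- the word `w ^ n` -/
def pw (w : List ℕ) : ℕ → List ℕ
  | 0 => []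
  | n + 1 => w ++ pw w n

theorem wprod_pw (w : List ℕ) (n : ℕ) : (wprod ml (pw w n) : RuOrder.H) = wprod ml w ^ n := by
  induction n with
  | zero => rfl
  | succ n ih =>
    show wprod ml (w ++ pw w n) = _
    rw [wprod_append, ih, pow_succ']

/-- the base points are fixed -/
noncomputable def chk (u : List ℕ) : Bool := allL (fun b => Nat.beq (evalK u b) b) [0, 29, 580, 577]

theorem eq_one_of_chk {u : List ℕ} (h : chk u = true) : (wprod ml u : RuOrder.H) = 1 := by
  apply eq_of_base
  have h1 := (allL_iff _ _).1 h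
  intro b hb
  rw [evalK_eq]
  simp only [List.mem_cons, List.not_mem_nil, or_false] at hb
  rcases hb with rfl | rfl | rfl | rfl
  · exact Nat.eq_of_beq_eq_true (h1 0 (by simp))
  · exact Nat.eq_of_beq_eq_true (h1 29 (by simp))
  · exact Nat.eq_of_beq_eq_true (h1 580 (by simp))
  · exact Nat.eq_of_beq_eq_true (h1 577 (by simp))

theorem ne_one_of {u : List ℕ} (i : Fin 4060) (h : Nat.beq (evalK u i) i = false) :
    (wprod ml u : RuOrder.H) ≠ 1 := by
  intro h1
  have h2 := evalK_eq u i
  rw [h1] at h2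
  have h3 : evalK u i = i := h2.symm
  rw [h3, Nat.beq_refl] at h
  exact absurd h (by decide)

theorem pe_w {a : ℕ} (ha : a.Prime) (k : ℕ) (w : List ℕ) (i : Fin 4060) (h : chk (pw w (a ^ k)) = true)
    (hi : Nat.beq (evalK w i) i = false) : PE a (wprod ml w : RuOrder.H) := by
  refine pe_of_pow ha k ?_ (ne_one_of i hi)
  rw [← wprod_pw]
  exact eq_one_of_chk h

theorem mult : MultDvd Spor.Ru 2 := multDvd_of_cyclic (by norm_num) S2051.result

theorem mult_two {a b c : ℕ} : ∀ s : ℕ, s.Prime → s ∣ 2 → s = 2 ∨ s = a ∨ s = b ∨ s = c :=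
  fun _ hs h => Or.inl ((Nat.prime_dvd_prime_iff_eq hs Nat.prime_two).1 h)

/-- a triple of the model -/
theorem trip_ru (e : Spor.Ru ≃* RuOrder.H) {a b c : ℕ} (ha : a.Prime) (hb : b.Prime) (hc : c.Prime) (hab : a ≠ b)
    (hac : a ≠ c) (hbc : b ≠ c) {x y : RuOrder.H} (hx : PE a x) (hy : PE b y) (hz : PE c (x * y)) :
    TripABC a b c Spor.Ru := by
  refine trip_mul mult mult_two ha hb hc hab hac hbc (hx.congr e.symm) (hy.congr e.symm) ?_
  rw [← map_mul]
  exact hz.congr e.symm

theorem row_Ru : RowOdd Cfsg.Spor.Ru := by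
  have e := Cfsg.Agent.RuLat.Main.equiv
  have t29 : TripABC 2 3 29 Spor.Ru := by
    refine trip_ru e Nat.prime_two Nat.prime_three (by norm_num) (by norm_num) (by norm_num)
      (by norm_num) (x := wprod ml [2, 3, 3]) (y := wprod ml [0, 5])
      (pe_w Nat.prime_two 1 _ 0 (by decide +kernel) (by decide +kernel))
      (pe_w Nat.prime_three 1 _ 0 (by decide +kernel) (by decide +kernel)) ?_
    rw [← wprod_append]
    exact pe_w (by norm_num) 1 _ 0 (by decide +kernel) (by decide +kernel)
  have t13 : TripABC 2 3 13 Spor.Ru := by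
    refine trip_ru e Nat.prime_two Nat.prime_three (by norm_num) (by norm_num) (by norm_num)
      (by norm_num) (x := wprod ml [5]) (y := wprod ml [0, 3, 4])
      (pe_w Nat.prime_two 1 _ 0 (by decide +kernel) (by decide +kernel))
      (pe_w Nat.prime_three 1 _ 0 (by decide +kernel) (by decide +kernel)) ?_
    rw [← wprod_append]
    exact pe_w (by norm_num) 1 _ 0 (by decide +kernel) (by decide +kernel)
  have t57 : TripABC 2 5 7 Spor.Ru := by
    refine trip_ru e Nat.prime_two (by norm_num) (by norm_num) (by norm_num) (by norm_num)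
      (by norm_num) (x := wprod ml [1]) (y := wprod ml [1, 2, 3])
      (pe_w Nat.prime_two 2 _ 0 (by decide +kernel) (by decide +kernel))
      (pe_w (by norm_num) 1 _ 0 (by decide +kernel) (by decide +kernel)) ?_
    rw [← wprod_append]
    exact pe_w (by norm_num) 1 _ 0 (by decide +kernel) (by decide +kernel)
  intro p hp hp2 hd
  right
  rw [Nat.card_congr e.toEquiv, SporadicB.RuOrder.card_H] at hd
  have hm2 := prime_mem hp [2, 3, 5, 7, 13, 29] (by decide) 14 hd (by norm_num)
  simp only [List.mem_cons, List.not_mem_nil, or_false] at hm2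
  rcases hm2 with rfl | rfl | rfl | rfl | rfl | rfl
  · exact absurd rfl hp2
  · exact ⟨2, 3, 29, by norm_num, Or.inl rfl, t29⟩
  · exact ⟨2, 5, 7, by norm_num, Or.inl rfl, t57⟩
  · exact ⟨2, 5, 7, by norm_num, Or.inl rfl, t57⟩
  · exact ⟨2, 3, 13, by norm_num, Or.inl rfl, t13⟩
  · exact ⟨2, 3, 29, by norm_num, Or.inl rfl, t29⟩

end Cfsg.Agent.H536.PQR.Ru
end

-- part: H660/RowHN
section
/-!
# S3988: the row `HN` (helper660)

* `p = 3, 5, 7, 11`: `A12` is a proper subgroup;
* `p = 19`: `x y` of order 8, `y z y⁻¹ t` of order 3, the product has order 19.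
-/

set_option autoImplicit false

namespace Cfsg.Agent.H660.RowHN

open Cfsg Cfsg.Agent.H562.PQR Cfsg.Agent.H660.TripTool
open Cfsg.Agent.Lib.PackMat Cfsg.Agent.Lib.PackMatGroup Cfsg.Agent.Lib.PackMatMul
open Cfsg.Agent.HN.RepData Cfsg.Agent.HN.Rep Cfsg.Agent.HN.Red

set_option Elab.async false in
theorem chk8 : ordC C L 0 [2] [false, false, false] = true := by (rewrite [show @Cfsg.Agent.Lib.PackMatMul.ordC = delta% @Cfsg.Agent.Lib.PackMatMul.ordC from by delta Cfsg.Agent.Lib.PackMatMul.ordC; rfl, Cfsg.Agent.Lib.PackCol.withM_col]; decide +kernel)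
set_option Elab.async false in
theorem chk3 : ordC C L 2 [4, 3, 6] [true] = true := by (rewrite [show @Cfsg.Agent.Lib.PackMatMul.ordC = delta% @Cfsg.Agent.Lib.PackMatMul.ordC from by delta Cfsg.Agent.Lib.PackMatMul.ordC; rfl, Cfsg.Agent.Lib.PackCol.withM_col]; decide +kernel)
set_option Elab.async false in
theorem chk19 : ordC C L 0 [2, 2, 4, 3, 6] [false, false, true, true] = true := by (rewrite [show @Cfsg.Agent.Lib.PackMatMul.ordC = delta% @Cfsg.Agent.Lib.PackMatMul.ordC from by delta Cfsg.Agent.Lib.PackMatMul.ordC; rfl, Cfsg.Agent.Lib.PackCol.withM_col]; decide +kernel)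

theorem ord8 : (evG LG (0 :: [2])) ^ bval [false, false, false] 1 = 1 ∧ evG LG (0 :: [2]) ≠ 1 :=
  ordC_spec hgood one_lt codesR chk8
theorem ord3 : (evG LG (2 :: [4, 3, 6])) ^ bval [true] 1 = 1 ∧ evG LG (2 :: [4, 3, 6]) ≠ 1 :=
  ordC_spec hgood one_lt codesR chk3
theorem ord19 : (evG LG (0 :: [2, 2, 4, 3, 6])) ^ bval [false, false, true, true] 1 = 1 ∧
    evG LG (0 :: [2, 2, 4, 3, 6]) ≠ 1 := ordC_spec hgood one_lt codesR chk19

/-- the element of order 8 -/
noncomputable def u : Spor.HN := evG gens [0, 2]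

/-- the element of order 3 -/
noncomputable def v : Spor.HN := evG gens [2, 4, 3, 6]

section

variable [IsSimpleGroup Spor.HN]

theorem u_pow : u ^ 2 ^ 3 = 1 := by
  apply Cfsg.Agent.HN.A12Group.rho_injective
  rw [map_pow, map_one, show rho u = evG LG [0, 2] from rho_word _]
  exact ord8.1

theorem v_pow : v ^ 3 ^ 1 = 1 := by
  apply Cfsg.Agent.HN.A12Group.rho_injective
  rw [map_pow, map_one, show rho v = evG LG [2, 4, 3, 6] from rho_word _]
  exact ord3.1

theorem order_uv : orderOf (u * v) = 19 := by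
  have : Fact (Nat.Prime 19) := ⟨by norm_num⟩
  have h : u * v = evG gens [0, 2, 2, 4, 3, 6] := (evG_append _ _ _).symm
  have h3 : rho (u * v) = evG LG [0, 2, 2, 4, 3, 6] := by rw [h]; exact rho_word _
  refine orderOf_eq_prime ?_ fun h0 => ord19.2 ?_
  · apply Cfsg.Agent.HN.A12Group.rho_injective
    rw [map_pow, map_one, h3]
    exact ord19.1
  · rw [← h3, h0, map_one]

end

theorem mult : Cfsg.Agent.H80.Fpf.MultDvd Spor.HN 1 :=
  Cfsg.Agent.H80.Fpf.multDvd_of_cyclic one_ne_zero Cfsg.Agent.S2056.result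

theorem trip19 : TripABC 2 3 19 Spor.HN := by
  have hs : IsSimpleGroup Spor.HN := Cfsg.Agent.S1701.result.1
  exact tripABC_of mult (fun s hs h => absurd (Nat.dvd_one.1 h) hs.ne_one) (by norm_num) (by norm_num) (by norm_num)
    (by norm_num) (by norm_num) (by norm_num) u_pow v_pow order_uv

/-- **the row** -/
theorem row_HN : RowOdd Spor.HN := by
  intro p hp hp2 hd
  have hs : IsSimpleGroup Spor.HN := Cfsg.Agent.S1701.result.1
  have hc : Nat.card Spor.HN = 273030912000000 := Cfsg.Agent.S1701.result.2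
  have hfin : Finite Spor.HN := Nat.finite_of_card_ne_zero (by rw [hc]; norm_num)
  rw [hc] at hd
  have h1 : p = 2 ∨ p ∣ (12).factorial ∨ p = 19 := by
    have h2 : (273030912000000 : ℕ) = 2 ^ 14 * (3 ^ 6 * 5 ^ 6 * 7 * 11) * 19 := by norm_num
    rw [h2] at hd
    rcases hp.dvd_mul.1 hd with hd | h
    swap; · exact Or.inr (Or.inr ((Nat.prime_dvd_prime_iff_eq hp (by norm_num)).1 h))
    rcases hp.dvd_mul.1 hd with hd | hd
    · exact Or.inl ((Nat.prime_dvd_prime_iff_eq hp Nat.prime_two).1 (hp.dvd_of_dvd_pow hd))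
    have h3 : (12).factorial = 479001600 := by decide
    rw [h3]
    rcases hp.dvd_mul.1 hd with hd | h
    swap; · exact Or.inr (Or.inl (h.trans (by norm_num)))
    rcases hp.dvd_mul.1 hd with hd | h
    swap; · exact Or.inr (Or.inl (h.trans (by norm_num)))
    rcases hp.dvd_mul.1 hd with hd | h
    swap; · exact Or.inr (Or.inl ((hp.dvd_of_dvd_pow h).trans (by norm_num)))
    exact Or.inr (Or.inl ((hp.dvd_of_dvd_pow hd).trans (by norm_num)))
  rcases h1 with h1 | h1 | rfl
  · exact absurd h1 hp2
  · obtain ⟨K, ⟨e⟩⟩ := Cfsg.Agent.HN.A12Group.exists_alternating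
    exact Or.inl (notMin_of_alt (by norm_num) hp hp2 h1 e (by rw [hc]; decide))
  · exact Or.inr ⟨2, 3, 19, by norm_num, by norm_num, trip19⟩

end Cfsg.Agent.H660.RowHN
end

-- part: H440/PQR/ON
section
/-!
# S3988, the row of the O'Nan group (helper440)

For `q = 5, 7, 11, 19, 31` there are `x`, `y` in `ON` with `x² = y³ = 1`, `x y` of order `q`; the words are checked in
the 45-dimensional projective representation. The Schur multiplier has order three.
-/

set_option autoImplicit false
set_option maxRecDepth 100000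
set_option Elab.async false

namespace Cfsg.Agent.H440.PQR.ON

open Cfsg.Spor Cfsg.Spor.ON Cfsg.Agent.SporadicB.ON45Word Cfsg.Agent.Lib.PackMat Cfsg.Agent.SporadicB.ON45Data
  Cfsg.Agent.SporadicB.ON45Rels Cfsg.Agent.H562.PQR

/-- word in the generators -/
noncomputable def wd (l : List Gen) : Cfsg.Spor.ON := (l.map on).prod

/-- its matrices -/
noncomputable def mt (l : List Gen) : List ℕ := l.map fun x => gens (gi x)

/-- the word is represented by the scalar `c` -/
noncomputable def chk (l : List Gen) (c : ℕ) : Bool := checkScalar C45 (mt l) c 0 45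

theorem simple : IsSimpleGroup Cfsg.Spor.ON := Cfsg.Agent.S1699.result.1

theorem wd_append (l m : List Gen) : wd (l ++ m) = wd l * wd m := by
  unfold wd; rw [List.map_append, List.prod_append]

theorem lw (l : List Gen) : LW (wd l) (mt l) := LW.word l

theorem eq_one_of_chk {l : List Gen} (c : ℕ) (hc : c < 7) (h : chk l c = true) : wd l = 1 :=
  (lw l).eq_one simple c hc h

theorem multDvd : Cfsg.Agent.H80.Fpf.MultDvd Cfsg.Spor.ON 3 :=
  Cfsg.Agent.H80.Fpf.multDvd_of_cyclic (by norm_num) Cfsg.Agent.S2052.result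

/-- the triple of the words `X`, `Y` with the matrix `Z` of `X Y` -/
theorem trip {X Y : List Gen} {Z q c : ℕ} (hq : q.Prime) (hq2 : q ≠ 2) (hq3 : q ≠ 3) (hX : chk (X ++ X) 1 = true)
    (hY : chk (Y ++ (Y ++ Y)) 1 = true) (hZok : ([Z].all fun g => okG C45 g) = true)
    (hXY : checkEq C45 (mt (X ++ Y)) [Z] 0 45 = true) (hc : c < 7)
    (hZ : checkScalar C45 (List.replicate q [Z]).flatten c 0 45 = true) (i j : Fin 45) (hij : i ≠ j)
    (hZ1 : ((dg 11 Z (i.val + 45 * j.val) : ℕ) : ZMod 7) ≠ 0) : TripABC 2 3 q Cfsg.Spor.ON := by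
  have hx2 : wd X ^ 2 = 1 := by
    rw [pow_two, ← wd_append]; exact eq_one_of_chk 1 (by decide) hX
  have hy3 : wd Y ^ 3 = 1 := by
    rw [pow_succ, pow_two, mul_assoc, ← wd_append, ← wd_append]; exact eq_one_of_chk 1 (by decide) hY
  have hz : LW (wd X * wd Y) [Z] := by
    rw [← wd_append]; exact (lw (X ++ Y)).change hZok hXY
  have hzq : (wd X * wd Y) ^ q = 1 := (hz.pow q).eq_one simple c hc hZ
  have hz1 : wd X * wd Y ≠ 1 := hz.ne_one i j hij hZ1
  have : Fact q.Prime := ⟨hq⟩
  have ho : orderOf (wd X * wd Y) = q := orderOf_eq_prime hzq hz1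
  have hx1 : wd X ≠ 1 := by
    intro h
    rw [h, one_mul] at ho
    have h1 := orderOf_dvd_of_pow_eq_one hy3
    rw [ho] at h1
    exact hq3 ((Nat.prime_dvd_prime_iff_eq hq Nat.prime_three).1 h1)
  have hy1 : wd Y ≠ 1 := by
    intro h
    rw [h, mul_one] at ho
    have h1 := orderOf_dvd_of_pow_eq_one hx2
    rw [ho] at h1
    exact hq2 ((Nat.prime_dvd_prime_iff_eq hq Nat.prime_two).1 h1)
  have : Fact (Nat.Prime 3) := ⟨Nat.prime_three⟩
  refine TripABC.of_mult (x := wd X) (y := wd Y) (z := (wd X * wd Y)⁻¹) multDvd ?_ Nat.prime_two Nat.prime_three hq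
    (by norm_num) hq2.symm hq3.symm
    (PE.of_orderOf Nat.prime_two (orderOf_eq_prime hx2 hx1)) (PE.of_orderOf Nat.prime_three (orderOf_eq_prime hy3 hy1))
    (PE.of_orderOf hq ho).inv (mul_inv_cancel _)
  intro s hs hd
  exact Or.inr (Or.inr (Or.inl ((Nat.prime_dvd_prime_iff_eq hs Nat.prime_three).1 hd)))

/-- matrix of order 5 modulo scalars -/
def Z5 : ℕ := 0x50040000180100a0000000400800c0100100a014000040060140300400a0180200600a01800804000000018060000000300100800c02802000014028000000100000000c0000000000800c000040000080280000800002803006000018000020000300100800000000002000000010000140100500a0140280000a000010000000040000000001003000004000028050000040000500c010000060000000000600200400000000018000000000000100500a0100280500a0140080200000001805000000018050060080280500c00001003004004028010020100200500c0100100000000c030040000100280300800c008020060180100200000000004008000000000000180000200000c018060020000000500a000008000080000280100000003000000000000050020040300000c00400001002000000000000080000000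00000180000c0000000100000800000000018000020000140000000000000004000000000000020140280400000c0180000801000000000000008000000180000500001003000002000028030040000180500a000008000000000000000a0100000000000c0280500600000004000000000000040000280000001401000000000000000080000280000201800800002000010000000080100500800000000004014000020040080000300a0000200000600000001000000000050080000180000601400004000004028040000140000600000000804000000000050000000300000c00400000004000018020000140000000c000000000080000000500000802000008000028060060000300000c000008050080000000000200000006000014010050060140280300a01000000000000030000000000000500001000000000000020000000000200000600002000000000000000020000080000001000806000018008000040040000100000003000000000008030000040000400a000020000060140180000a0000080000200402004000000010000080040000100c000008020000140100100a0000000400a0000000300400c0280500401800002008008008020020040180300a00402002000000018010060000180500800c0180600400c00802004000000000000100000000600003000004010000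030000040280100001403001000010000000000000000600a0000000000a00400805000000010000000000300000000c000000000140000000c00000805000014000010080140000400000c000040020140000000001000000006000030010020140080100a0040000000000000000000000000000000000000000000800005000000000000000140000000000000000000000000000000000000500a00000000000000000000000080000200000002802000000000000000100000500000403006000004000050000000100200a00c000000000080100000a01401000006014000040020000000000001400000000000018000020000000000001800000000004000010000040000000000000002000014000000020140100000400800003004000000050000000000000401400000000000000020000040000600c0000000100000000000002018018000000000000400000000000002000000060000000000600000000800000000008040000180000300a000020000060140200000a0000300000c00402004000000028000080180000600200003002000008010000000000000600000000000000000000000000000280000800000004000000020060000000000000000c000000000000080000a0140000000000000000002000008000000080000600400001800006000030000060000080600001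800800000004000030080140000500000001000008000000050000080100000a000028010000000000300c000000000040000100600000c0000000800000003000000000000060100300000001800001000000028050020000200600000c008000000140000100000000000004000008000000000000100000000001000018000050000000000000000c0000000000000805004000008020000100100000a00000006000000000040020000280000401400001000014030030000180000000000400801000000000010000000000000a0080280300a0140100500c00000000000014000000000000200000200000001000008000000000040000200000800000000000000030000000000000c014028030000100200000600003000000008000000000100080000c0000300400001800005008004000040000140000000a0180000000000c0000000a000028020000000180000c00c0000000600000000000010010000000000000000a000008000020180000000200000000000018030050000000000000400000000000010000040060000180000401000006000000020040080000100000a00800003000014030030000180000300001803003000000000060000000180000c004030020060180300300000c00000002000000000080100000300001402800008000028030080000180000c000008010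080000000000c00000006000008028050040140280000a01000000000018008000000000000500001000006002014028000000100180000a000008000060080000000a0000000000000c0280500a000028020000080200000000400004000000000000020000200000000000003000000000040000100000600000000000000014000000000000200100c000018010000140080000c0000000000000c000000000000080000c00002800008000000000000000200000000000000000000000040000000000000a014000000000000000000a0140000400c0140000000800c0180500200802800008010028060060140300300201400801008000000030020000000100200c0200500a00002802000000010010000000000400c0000000000a0000280600000c0000000800000003000000000000060100300000000400001000000010020020000200600000c000050080000080000001002003000014000020040000180000a0180200000c0000200000201801800000000008000000100000100c0180280300c0040180300001000000002000018050000140000100000c0000500001800800008018000000040000280200400001800000014000060000000080000c01800001002000000000000080000000000001800002000000050000100000000001800004000008000000000000000300000000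00000c004008000000080000000a00000000000000000000000000000000000000000008000030000000000000000c00000000000000000000000000000000000002805000000000000000000000600000000000000000028000000180000100000000000002010000000080000000000800000000000000020000000000000500400c01805006000028000000000000600000000000006000000000000140000400000000003000000000010000000080400000000000000000008000040140180100a00c0180500000000000002000000000000100000000000002800008000000000080000000000c0000000100800000000000000000060000140100300c0140180400a00000000000000000000000180000000000000000000000000030080000000300000000000000000008000000000000600000000000002000018060000100000100000000000000000028000000040000600000000000002010000000080000000000600000000000000018000000000000200a00c02005006000028000000040000000000003000000000000000000180000300000000000000000000000000000180400000000000000000000000000000200000000c00000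

theorem ok5 : ([Z5].all fun g => okG C45 g) = true := by decide +kernel
theorem hx5 : chk (([.g, .g, .g, .d, .g] : List Cfsg.Spor.ON.Gen) ++ ([.g, .g, .g, .d, .g] : List Cfsg.Spor.ON.Gen)) 1 = true := by decide +kernel
theorem hy5 : chk (([.e, .f] : List Cfsg.Spor.ON.Gen) ++ (([.e, .f] : List Cfsg.Spor.ON.Gen) ++ ([.e, .f] : List Cfsg.Spor.ON.Gen))) 1 = true := by decide +kernel
theorem hxy5 : checkEq C45 (mt (([.g, .g, .g, .d, .g] : List Cfsg.Spor.ON.Gen) ++ ([.e, .f] : List Cfsg.Spor.ON.Gen))) [Z5] 0 45 = true := by decide +kernel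
theorem hz5 : checkScalar C45 (List.replicate 5 [Z5]).flatten 1 0 45 = true := by decide +kernel
theorem he5 : ((dg 11 Z5 ((0 : Fin 45).val + 45 * (1 : Fin 45).val) : ℕ) : ZMod 7) ≠ 0 := by decide +kernel

/-- type (2, 3, 5) -/
theorem trip5 : TripABC 2 3 5 Cfsg.Spor.ON :=
  trip (by norm_num) (by norm_num) (by norm_num) hx5 hy5 ok5 hxy5 (by norm_num) hz5 0 1 (by decide) he5

/-- matrix of order 7 modulo scalars -/
def Z7 : ℕ := 0x1002014030040040000100600400c008060080040000400000c0200200c00c0000100a008020030040000200200c014008010000000100000a014000020000180200300c0080180100a01401004008000018050080100280300000c0000400601801006000018018030080100180100000000003008010018030080000000100a0000100300800402803004014030050000080000100400c02800000008028050060000200400800002801000000000000000180000200201400000000018000000080080000400c0040080100a0180200400c00c0180600000003004006000000050080000000100000000000000014010020060140200600800c00002008000018050000040180600a014000040000040200600c010000030080000080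40060000080100000c020060000000080000c004000060000040300500200c0280300801803001008000010060080040080300000c0000300c010008020000100280100600800806000000000020060140100400a0000000600200002802000018008000020140180000000800000004014028000000040000100800000005006000008060000000000000a0140100000400000000000004000000060100000300a014008050060040200600a00c00806000000010010080000000300600000006000000000000000040000600a0000100100a0080180600a000028010020100280600c018000040000100200300c00c000050040040180300a00001803006008028010000000200100600c030040000180280500c0180280400201800805008000028060080140300300000c0000400400c0080400000c02802008008010010000000000600c00402801004000000010000000100000200400006000014000030000080000200400002800000000018000060000080000800000001000000000000040000280500000800000000018000000080100000400a008008020060180200100a00c030060000000280100600000003008000000010000000000000000c00804000018000060020080300400a00002801004010008010080180000300001001802002010000010040080180400a0000180200c008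00806000000000000000000000000c00c0180000a0100000300a0000080400c0080280000800000804002018020000080100000100800c0000100c0000180300c000000010000180080000c01802805006018010000040180080300a0040300100000c0000300600c00804000014028010080100100000800c0180500a018000000060040200400c00c03000002000000060000040200000a000030000080000200000a0100000600800000006000014020010000140000000200003000000008000050040000280000201002001004010008050040080180400000c01004006014018000060000180400c0140300000c0100180300600c030000000000080400c0040180600000400805002010028040060180080100600002806006004030040000100000300c00c0080500000c02806006008030060000000000500600802804004000008050040040300200800400801004010000050020100100600600001800006014018060080000180200400c0280200c0000000000c0040080500c0080000000c0140000500600c03005008008010060040000280000c014018020000000100200a0100000300800c0000500c0000000000000403006008004018000000180300000a0140000600c00003005008000000020000000100200a00000006000018020000000080180000c018000000000000280200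400002800000000000010000000180200000c030060020180280100800c03003008018000000020100200000001401800000018000000000000000100001803000002010020060060000300400600c0280300c000008050040000180600000c000040060040100200a00c020040040000200100600c000000080100180400600c018060060080000300a0180280100c018000010060180000300a000018000060040080400c0180200100a00400005008004020000000080200500400c028040060180200000c00c0180300400c0080000c0140280000801800004000010020060040140280300800c010000060040200300000003004002018018010080180200200001002801004004008060000040200600000c010000060000200100200c03001006018028060000140180100600000005008008028030040100100300400001805004014008020020000300100c000020040000100000400a0180300600c00c028050020000280400a00c000000040040280100c01802005006014000030040080280600401800001002004000030080000180000800800806002018018050040040000200800801800000008030050020040300200400c028060040100300200a00c0000000001800000000010000000000140000000a0140300500c00c0200300a00c01002000000028060040000080000a008020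0500c0140200100a0140200000000000800000000018000000000100000000802801004004018030060140200200a0000000300c010030010020140080000200c0000500c00000803000000000060000000000400000000002000000028010000080300200001400800002014000000000140000500400802800002000000030000040180000800000000002000000000060000000000400000002000008010010000180000000200002800000014000020040000280500c000030040000080300000c00c0000000001800000000010000000000080000000a0180000200c0140000200c000030050000000000200001402802002018028010020100200000a00c0000000000000006000000000000000000200400000002006006000020060060180100100c00000001000018030000020040100300c0140080300000c0200000000000000002000000000000000000400c0000000300a00c0000300a0040080400a018000000000040000400c00c008050060040100100800001803000000000000000180000000000000000008004000000080140180000801403006008008030000000080000500c000008010020140300600800c000050080000000000000000800000000000000000100180000000c0300300000c03004002008030060000000200200600802805000000000000000000000000000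000000000000000000000000000000000000000000000000000000000000000000000000000000000050000140280000a00000000000000000000000000000000000000000000000000000000000000000000000000000000000000000000000000000002802002004008010020040000000000000000000000000000000000000000000000000000000000000000000000000000000000000000000000000000000200a0040280600c0140080000000000000000000000000000000000000000000000000000000000000000000000000000000000000000000000000000000c0180000600800c008000000000000000000000000000000000000000000000000000000000000000000000000000000000000000000000000000000000080280600a0040080500c000000000000000000000000000000000000000000000000000000000000000000000000000000000000000000000000000000008010000040200300c0000000000000000000000000000000000000000000000000000000000000000000000000000000000000000000000000000000000600c01000800000018018000000000000000000000000000000000000000000000000000000000000000000000000000000000000000000000000000000020040200600000000803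

theorem ok7 : ([Z7].all fun g => okG C45 g) = true := by decide +kernel
theorem hx7 : chk (([.g, .g, .g, .d, .c, .g, .g, .g, .d, .g, .c, .d, .g] : List Cfsg.Spor.ON.Gen) ++ ([.g, .g, .g, .d, .c, .g, .g, .g, .d, .g, .c, .d, .g] : List Cfsg.Spor.ON.Gen)) 1 = true := by decide +kernel
theorem hy7 : chk (([.d, .e] : List Cfsg.Spor.ON.Gen) ++ (([.d, .e] : List Cfsg.Spor.ON.Gen) ++ ([.d, .e] : List Cfsg.Spor.ON.Gen))) 1 = true := by decide +kernel
theorem hxy7 : checkEq C45 (mt (([.g, .g, .g, .d, .c, .g, .g, .g, .d, .g, .c, .d, .g] : List Cfsg.Spor.ON.Gen) ++ ([.d, .e] : List Cfsg.Spor.ON.Gen))) [Z7] 0 45 = true := by decide +kernel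
theorem hz7 : checkScalar C45 (List.replicate 7 [Z7]).flatten 1 0 45 = true := by decide +kernel
theorem he7 : ((dg 11 Z7 ((0 : Fin 45).val + 45 * (1 : Fin 45).val) : ℕ) : ZMod 7) ≠ 0 := by decide +kernel

/-- type (2, 3, 7) -/
theorem trip7 : TripABC 2 3 7 Cfsg.Spor.ON :=
  trip (by norm_num) (by norm_num) (by norm_num) hx7 hy7 ok7 hxy7 (by norm_num) hz7 0 1 (by decide) he7

/-- matrix of order 11 modulo scalars -/
def Z11 : ℕ := 0x600c0080200500c0180300000c0180100100800400806000010010000060100200000a01801802006018000060020100300300800c000050000140200000a0100080000c00c010010060140280400400c030010060140000400400c0100100a0040200300000c0200000200000800006010010060020100180000601402000006008018050000180200200c004008060060040000300800c0180200000001006004004018040000180280500000c0100400000c0000500200c030000000180280600a00002005002000028060000080200100c0040180300400c0300200c0000100300a0100000200000c0180200a0100200200a0040180600000c0180400a0080200200a0080080200400003005004014008010000000180400200800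00200601401800006018010050040100100600c0180300500c018028050020100280000a010008060080100180000a000028010060100100600000403006002010000020020080100200c010000010060000300100c000018000040040080400c0000300600c00c010010040100080200400c02006006004008020020080000200000c008020060140100300a010000020040140000600000c008050020080280400a004000000020000300500a018010030000000080100c0040200200000c020010080180000500200800803008008020050020180000400600c028020000140080600c0040100000c000010010020040180100c0000280400200c010060040040000600c0180000300c004000060000100200000a010008020080080280100400800006008010018040080180280500c004020010020040280600c0140080300a00c0000300a00c0100400a0000200400c00c0180400c0080180100000c0000300c0080300500401400002008004028010040140180500a010008010020000080000a0180100200a000018000060000280600a0140280500c00c018000000080280400a00c020020020080300300201801806008004020020020180280300801402800006018000010000000080300201801003004004028050060140280000a000020000060000180400a0000300000200c028040040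100300300401002803008004028000020000280000601002804002000018010080140280100c0000180500a00402005000010028060060100180100a0140280100a0180200600a010018010080000100200001801004002014030050080180100300600c0280300a00c00806006010020000040100180300800800805004010010020000140080600a004000060020000180000a004008040000000000300a00002003002004020020020000280000c0040000200a004018000080180100000000801802000000010030000180000500a00c00006002000020010000080000300a018030040000140300200200c01001002000018020000040300400400c0200100c01402001004018030000040040180400a0080280400a018020020040080200500c000028060020100180300001400004008004020030000080100100a014018020020000280500001800004008014008050000080100200a00c018030060080180300c014028060080000280600c00801004006010000030080080180300a010000040000100180100c00401806006010028010040140080300c0040180500a01000804000014020010000180180400a0100100300c0040300200200c0100500a00801002000004008040040040200400400800006000004030050080040180600000400803002004000020060180080400601400006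000004008020080000000400c0180200100a004020050040040080300201802002000000030020060180180300a00c01805000008030020000000280200c000018030080000280300a0040280200a0100280300a008018030040140100000a0000180000001002004006000000060080040080100a01402006000018020020020080180600c014000060000100100600000800000004004008030080080200100601401803004018030050000040000500a01003003006000030050020100100400000c01003008004010010060000300200201402005000008000010060000300400a00c018010000100000400c0040180300401401804000000018010040080080100600c020020020180100600a000028000040180300500c01800003006018028050020000100000800c028060080100200400201801005006000028020060080300300a0000280500201001000008014010040000140100400a0080280600000801001006008028000080140100000c0000000200a014010010020080080600600001802000010030030040080200200c008030020000000080000c00402001004010030060060080280000a00c00805008000018030060040180300601801803006008010000080000000300a004010000060140300500c0000200500a0040100200800c0280200601400006000018018010000180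18020080100180200601402800000004008060020000180000c00c00801008018018000060080280400a0140180300601001002008010020000040180300000a01801803000004028050080180080600a008018000080000200600401801000008008008050020080200400400001804000004018010020140080400800800004000014030040040100080000400c030050060140000300400000802008008030020000100280000801802005000010030050060080100500800c010030000140280100801801001004004000030060080100500c01402006000010010050020040080200c00c0280600a01800006002004000000060140080100a0040300400a0000300500c014028060080000180100200c030040080080200400a00001000000018030050060100080000c014028010000140180500000c0280300001002800000004010060040180100400a0040100200a00002002000014020020080000100200a010018020020180300100a008020060080100280400a014030050040080180200000001806008008028020060180100100000402802004010000000060140180300a014008000060180200200400801003000008000030040180080100a00c02000006008008000060000180400a00802801008004030000020000080400001401002000008000050060140100300801000003000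00802802006000018020060180000200000000006004010010020080100100500000c0000400001400001006000010000060000200300000c0000500800c028000040000180000001000005004000000040000080000000a014028050000000000400a0000200200000c010050040180200600c0100200200800c018050040000200100c004018010080000000000c0040180200a008010010040080000400c0080000100200802005004000030060000040300100400c0300100000c0100600c0080080600a00c0100000000402805004018020060040100180000c0040300000001003000002010020030020180000100c014020010000100200100200402806002008020010000000300200a0140080300a0080180400000403005000000018010020080180600800803006004000000000000180200100c008000030000000200000c0000000000800000002000018000000020000100000c00000000004004008000040000180100200c008050040180180500a01401804006018030060040140000000601803005006010000040080140000300600000001000018018040080100200400a01402004004014018060080080000400600400803002014000000000100080200400c0100000400801000008010000000000100000100200800005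

theorem ok11 : ([Z11].all fun g => okG C45 g) = true := by decide +kernel
theorem hx11 : chk (([.d, .e, .c, .g, .g, .g, .d, .g, .c, .e, .d] : List Cfsg.Spor.ON.Gen) ++ ([.d, .e, .c, .g, .g, .g, .d, .g, .c, .e, .d] : List Cfsg.Spor.ON.Gen)) 1 = true := by decide +kernel
theorem hy11 : chk (([.b, .c] : List Cfsg.Spor.ON.Gen) ++ (([.b, .c] : List Cfsg.Spor.ON.Gen) ++ ([.b, .c] : List Cfsg.Spor.ON.Gen))) 1 = true := by decide +kernel
theorem hxy11 : checkEq C45 (mt (([.d, .e, .c, .g, .g, .g, .d, .g, .c, .e, .d] : List Cfsg.Spor.ON.Gen) ++ ([.b, .c] : List Cfsg.Spor.ON.Gen))) [Z11] 0 45 = true := by decide +kernel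
theorem hz11 : checkScalar C45 (List.replicate 11 [Z11]).flatten 4 0 45 = true := by decide +kernel
theorem he11 : ((dg 11 Z11 ((0 : Fin 45).val + 45 * (1 : Fin 45).val) : ℕ) : ZMod 7) ≠ 0 := by decide +kernel

/-- type (2, 3, 11) -/
theorem trip11 : TripABC 2 3 11 Cfsg.Spor.ON :=
  trip (by norm_num) (by norm_num) (by norm_num) hx11 hy11 ok11 hxy11 (by norm_num) hz11 0 1 (by decide) he11

/-- matrix of order 19 modulo scalars -/
def Z19 : ℕ := 0x600a00001802004018000010020180100200a0080300600201801000000010008000080000180000a0180180500a0100100600a0180000500c00401001000010008050060040300100600403005002008018000060100300600600c000050020080280600800801002008010028000040140180500400002003008004018020040140280300c01002001002010008050080100080500c0100180500c014018060000040000600200c0200100a000000060000140180600a004008020040080300100a0040100600a00c028040020140100300600401806006018018030040180180300000800006006018008010020100200600c0040080500401000800004018020010000180200300a00c0180300400c0300500801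802001000008030030040080280100c008028020060140280400000c020030060080000300801803000002014008040040080200400c0080000100a0100280500a00c0080100c0040100000800c0300100600c0280500a008010060000000300000800400003006010028000040180100600c0180200000a008028050040080180200000c028030040040080400a004000010020180180600000c0080300a0040180600000003006006018018030040140180200600c010000080180200100800801805004018020010080140000400a004000060000140280000c018018010060100300600c0180300300c00002804006014000010040080280200001403003004008030030020040000400801002800008000018020020000000100c0080300600001800002004014010060000080180600000c0080200a0040000600000c0200400600c0080100c008028010020040300500c0080000100c00c0180200c0100280000c0100000300a018020030040080000000c010020060000040280000a000010020040000300100a00400001006000028020060180300600400403004006008010030040040000400a0180100100a018028050080180300000c0180200000a0040180500a0000200000c0080080300801400003002004008030020000080500a00c030040000100000200801800003000004010050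0400801801002010010060000180280600c00803006006018018010080040200100201402801004018028020040000300400a00c0000400401800006004000020000080080100600600c0080200401003001008010020050000040080600200400005000010020030040040000600400c000020060040300100000c02005008000000000020000180100000c018060000000200500001401804008014010010000040280400200c0080400a0040100000c018030050080040280600001802000006004030010040140200100000c008000080100100300a010000040060080180300a00802802006008030030060000280400c0140300000a0140080500a0040300600c0140180500200c0000300a004000000020080280600200c0080200c000028000020000100600200802006008010018050000180180100a00c010060080080000300a00400800000000008050000180100300001000000008014028050080180300400a0040080300a0180100100a0140280200a01001804002004030050080100280200c00000802004010018010080100100000000800803002004028010000140200100c0080080200a00c0180000a00002003004008000050060100280200a014028000040100100500c0040200000c01000800006018028050060080000500601803001008018010060000040080600401000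00400801400006006000018060020180280400800c018040020080200500c018020020040080300300c00c0000600001803004004004010050080080180100c0000080200c01802806002004000030000180200500a00000806008018030060080180180300a0040200600c01803003000008018060000100100600c010020060020100000600c00402804008010030020000100300600c0040200100a0080200200c0140100400a004018040080000000300800c0080500400c01003002018020020060040180400200c008020040040080500400c000050060040000400a00c0200000800c010040000180280400a0040200300a014030040080080080100c0040080200a014010050020140100200a008020050080140100000c00801005008010020040080080180200a0080100600600c018020080040280000a00400004008008030060040040100500600c028030060000280500801803003006018030050080140200400a010010040060180280200001800005000000008030080180180500801001806004010008060000100300000000c018060040080200400c00800805008010008030000000180200000802806000004028000080040100000200c0300500000c0180200c004018060080140180100200002000000004008040060040280100800800000000018028030020140100600c0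040100300601002805008014008030040140300600c004010010060100080400600c02000004014018040020180280500a0040100600400c0000400c01401004004014020060000180300100200c0280200c0180280000a0000080200c0080100000200800802000018008030020100200100400000006006010008060000040100300c018000000020180180200601802801004018018000000080200000a01401002000004008060060180080000200c02803008014028060020000100100c00c0200300401400805002004010030020040000400a00c0100600800c000030000040200200001000006002004018030040000000500000002806006008000000040080280600c010010010060080200600a0140100600000c0300600c000018010000080200300c01403006008010020000000040180300400c020040060080280600000c0280400c008030030080180180100c00802800002000030010040000200200c01403006008010028050000140200300800c00806002004010020060180180600600c0100500c00c00802006010018030020100080200a0000280200a010008030060100280600c0040000500a0040100500c00c0000500a00c0200000a0000180400801403005008018028020020040080600a000020050000100280400800002003004010010000000040180500800002805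0020040200100a00c0080500600001803002000010050060080200400c01002803000018000000080000000300000003003000010028030000040100600800803000006010028010020100180400400400000004010030000060040100100200c0100300a014028050000100000600c0080280500c00802806008014000010040140100300000c018060080000080400200c0280100801802803004014008010000100280200400c008050040140200400c0100280100801403006006014030030080040000400c018028030060100280200a01400806002000028000000000080500c008018000060080000500a00403001000000010050060180100500c00803004000000000040080080000100800c00004008018008000000080000600400c03005000010020010040140280500a004020010000140100600c0100280500800c018000060000100300601402805006014000000060180000200c00c030050000040280200a00c008020000100100400000802803008010000060040000300400c01401805008010030000020080080600c004010010040040000100201000805006010020060020140080100600c0000500c0100280200c018018010060040000100800c0000500400801003000014018020080000080100600c0180400000c0280400201402005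

theorem ok19 : ([Z19].all fun g => okG C45 g) = true := by decide +kernel
theorem hx19 : chk (([.g, .g, .g, .b, .d, .c, .e, .d, .e, .c, .d, .b, .g] : List Cfsg.Spor.ON.Gen) ++ ([.g, .g, .g, .b, .d, .c, .e, .d, .e, .c, .d, .b, .g] : List Cfsg.Spor.ON.Gen)) 1 = true := by decide +kernel
theorem hy19 : chk (([.b, .c] : List Cfsg.Spor.ON.Gen) ++ (([.b, .c] : List Cfsg.Spor.ON.Gen) ++ ([.b, .c] : List Cfsg.Spor.ON.Gen))) 1 = true := by decide +kernel
theorem hxy19 : checkEq C45 (mt (([.g, .g, .g, .b, .d, .c, .e, .d, .e, .c, .d, .b, .g] : List Cfsg.Spor.ON.Gen) ++ ([.b, .c] : List Cfsg.Spor.ON.Gen))) [Z19] 0 45 = true := by decide +kernel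
theorem hz19 : checkScalar C45 (List.replicate 19 [Z19]).flatten 2 0 45 = true := by decide +kernel
theorem he19 : ((dg 11 Z19 ((0 : Fin 45).val + 45 * (1 : Fin 45).val) : ℕ) : ZMod 7) ≠ 0 := by decide +kernel

/-- type (2, 3, 19) -/
theorem trip19 : TripABC 2 3 19 Cfsg.Spor.ON :=
  trip (by norm_num) (by norm_num) (by norm_num) hx19 hy19 ok19 hxy19 (by norm_num) hz19 0 1 (by decide) he19

/-- matrix of order 31 modulo scalars -/
def Z31 : ℕ := 0x100c000028010000000000300000003002004000000060000140100400c0140000100c0180000100000001001000000008050060100000300600000804004008018060080000300000a01403000002014008030060080180300600002801004000030050000080200500801002005006010028030060080100200000c0200400c014028030080080100500200c0080100a018008060020100300000600c0180400c004008050080140200200c008030010020180280200c00002003006008020060080000300600800c0100500a00003000002014020010060180000100a00801005008008008010040140200500c0040080300a010010000040140000000a0180280200000c028000000100300500a0180200000001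00280400600002805008018030000000100180000400803000002018000010080140280600600c0080100a0180280500a00c0300000800801802006010020000020000180500a0180280200600c0000100a0180200400a0080300600400c020000080080000500c0140200400201003006000010028010000180300500400c0200400200801004006014028010040180200300200400004004010010060000140180100400802003008014000040040140080100a008018060020140100100a0000300100601402800000018028050080040200600801800000002014018050060000100400a00400803002004000050060080000600000002002008000020020080000300400000c0100400800c03004004004010050000040280100400c02004008018030050000000300300c0040100100c000018000060040300000a014020040080000080600c0000080600801801006004000010060000100200300600c0280200c014008000040040000300c01401804004014008010080100280100601402000008000018050020180280400c01402003008018020030040000200500a0180300200600802800008018000040020000180000800001002004010010050080140080100a01001804000004008010000140280100c0000100500a00800004002014000010000180300400c00400001004004030060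0600001804008010008030040140200400200c028060040140000000a004030000080000100200c0100080500a010028000020080000400a0080000300a0180200400a0000300200c0080100100000c0080000601803003006018000000080080280000c018018000000080280100a00c008020040080300300001400800004014000060040040180400a00c0200200600c01801008000028030000100080000c018020010000080280100600c008030060040300000000002803006000018000060040200600c01000004008000020030020100300300a008010020020040200600801402803002010008030060040000600c00c010020000000280400a00c0000600a0080100600c0180080100a0040200200c0040300300400c0300000a018028040080080300100000c00800006004028000040140000000000002804000008010050040000100300600800800000010028000000000200500a014030040040040300100a010030020080080280400601800805000004000020060100280100601800003006004018010080140180500a0080000200c01400001006004010050000180300500a0140300500a00003002008000030040020000300200200c0200400a004020020040100100000401800000002010018010080100000200800402806006004028050020100300400000c0300100601800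0030020180100600c0080080500601401803008000010020080040100000400402803002010030060020140000600c01001806006008018000020100300400c010018040020100300600c0000000000c018020010080180280000401000803008000030060040080280400a0140080600801001803000018020050040180100300a00c0000400401402002002004008060020140080100c008028010080000280000201001004004008030010080100200000a0000100400c0180280400c018010020080040100400801403006006014018010020100080100201001005000004030050080180300000200c030040080000100200a0000300100a0080080600c014008010060000180500000c030040040100100600000000004004000030010080140080200600001001008014000020080000280400a0080100200a00c0280400000402800000004008000000080200400200c0100600a0040180000a0080280200200c000040040180280200800c00006004008030020080180300400600000005006004028040060080200600200400801000010010000040100080000c0180300500c00c008060060140000000400c00006000014020050020180080100200c03001002010018050040100200500601401006008004000060080180300600a0100200100a008008040080180180400c004028060000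18030020040140280500a0100100300000802001002014000060020080000200a010008020000000280500a01801804008010028060000180280200800c0200100600c0200000a008010060080140300400a00c0280200001002800002000010050080000180300a0080300300401402000004004030010040040280200c0180180100600002001006018008020020140000400c008020020040100280000c0000180500c000008000020080180300a00802805006010008050020040280600c01801802004014000050060000180600801400002004004028060060000280500a00c0200400201000804004008020040060100200600800402800004000028030040180280400a004000050020080280400800401000004010008030080000180600c004020060080100280600a010018010020040180600600c0300000c00000805006004028010060180200000a0140000200c008018010000140280400a00801805000004028050060040100600000c0300300200c0080500a0140300500a0000180300a01801003000008008020040180280500a0180300100a004030000080140100000c0080000300400c0200000c018008060060000100100a00c0200200c008018030040100000500200c020020060080000500c0140300100a00c02806002008000050020080100100a0180200400a00001000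000010010020040000080000a010030050040100300500001402804006010000040040140280100a0000280400a004008020000180100000c0100000100c00c028060080000300300001400001002004018010020140280100001003001000010000010020080080200001001004002010018040000140100500c018018060000040300100401400802000000008060060000280500000403006006000030050000080080600401803003008014008020040100280300a00002806000008000040060000080600c004000040020140080400001403003008010018060040080000400a0100280600c0100280100a014030050000040180200600c0000400a01800801006010010000020040300500a000010060040180100100c0080000200400c028020080140100100801403004004018010040020140100300200c010020000080300200200c020050040100200000c0040280100c00c018010000180200200a00c02804006004020060000080180000c0040080600800c018020060080200500a0180200100a0000300100a00c028000020040200500c01001804008004028030040040080500800001800002000028010000140000300600002801002018000010020080100300801803005000010020030060140300300a014018010060040100100400803002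

theorem ok31 : ([Z31].all fun g => okG C45 g) = true := by decide +kernel
theorem hx31 : chk (([.g, .c, .b, .g, .g, .g, .d, .c, .d, .g, .b, .c, .g, .g, .g] : List Cfsg.Spor.ON.Gen) ++ ([.g, .c, .b, .g, .g, .g, .d, .c, .d, .g, .b, .c, .g, .g, .g] : List Cfsg.Spor.ON.Gen)) 1 = true := by decide +kernel
theorem hy31 : chk (([.d, .e] : List Cfsg.Spor.ON.Gen) ++ (([.d, .e] : List Cfsg.Spor.ON.Gen) ++ ([.d, .e] : List Cfsg.Spor.ON.Gen))) 1 = true := by decide +kernel
theorem hxy31 : checkEq C45 (mt (([.g, .c, .b, .g, .g, .g, .d, .c, .d, .g, .b, .c, .g, .g, .g] : List Cfsg.Spor.ON.Gen) ++ ([.d, .e] : List Cfsg.Spor.ON.Gen))) [Z31] 0 45 = true := by decide +kernel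
theorem hz31 : checkScalar C45 (List.replicate 31 [Z31]).flatten 2 0 45 = true := by decide +kernel
theorem he31 : ((dg 11 Z31 ((0 : Fin 45).val + 45 * (1 : Fin 45).val) : ℕ) : ZMod 7) ≠ 0 := by decide +kernel

/-- type (2, 3, 31) -/
theorem trip31 : TripABC 2 3 31 Cfsg.Spor.ON :=
  trip (by norm_num) (by norm_num) (by norm_num) hx31 hy31 ok31 hxy31 (by norm_num) hz31 0 1 (by decide) he31

/-- **the row of the O'Nan group** -/
theorem row_ON : RowOdd Cfsg.Spor.ON := by
  intro p hp hp2 hd
  rw [Cfsg.Agent.S1699.result.2] at hd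
  rcases Cfsg.Agent.S2052.prime_cases hp hd with rfl | rfl | rfl | rfl | rfl | rfl | rfl
  · exact absurd rfl hp2
  · exact Or.inr ⟨2, 3, 5, by norm_num, by norm_num, trip5⟩
  · exact Or.inr ⟨2, 3, 5, by norm_num, by norm_num, trip5⟩
  · exact Or.inr ⟨2, 3, 7, by norm_num, by norm_num, trip7⟩
  · exact Or.inr ⟨2, 3, 11, by norm_num, by norm_num, trip11⟩
  · exact Or.inr ⟨2, 3, 19, by norm_num, by norm_num, trip19⟩
  · exact Or.inr ⟨2, 3, 31, by norm_num, by norm_num, trip31⟩

end Cfsg.Agent.H440.PQR.ON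
end

-- part: H628/PQR/TwF
section
/-!
# S3988, the row of `²F₄(q)`, `q ≥ 8` (helper628)
-/

set_option autoImplicit false

namespace Cfsg.Agent.H628.PQR.TwF

open Cfsg Cfsg.Agent.H562.PQR

/-- **The row of `²F₄(q)`.** -/
theorem row_2F4 {S : Type*} [Group S] (h : Cfsg.Lie.Iso2F4 S) : RowOdd S := by
  obtain ⟨K, _, _, m, hm, hK, ⟨e⟩⟩ := h
  refine RowOdd.congr e.symm (row_core hm hK fun ha hb hab x y hx hy h1 h2 => ?_)
  have hL : IsLieTypeChar 2 ↥(Cfsg.Lie.twistedF4 K (2 ^ m)) :=
    Or.inr (Or.inr (Or.inr (Or.inr (Or.inr (Or.inr (Or.inr (Or.inr (Or.inr (Or.inl ⟨rfl, K, _, _, m, hm, hK,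
      ⟨MulEquiv.refl _⟩⟩)))))))))
  have hfin : Finite ↥(Cfsg.Lie.twistedF4 K (2 ^ m)) := inferInstance
  exact tri_char Nat.prime_two hL ha hb hab hx hy h1 h2

end Cfsg.Agent.H628.PQR.TwF
end

-- part: H628/PQR/Tits
section
/-!
# S3988, the row of the Tits group (helper628)

`row_tits` : triples of type `(2, 3, 13)` and `(2, 5, 13)`, given by words in the eight central involutions of an
apartment (52-dimensional representation).
-/

set_option autoImplicit false
set_option maxRecDepth 100000

namespace Cfsg.Agent.H628.PQR.Tits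

open Cfsg.Agent.ChevalleyStructure.Tits.Pack Cfsg.Agent.ChevalleyStructure.Tits.Data
  Cfsg.Agent.ChevalleyStructure.Tits.Sat Cfsg.Agent.ChevalleyStructure.Tits.Final
  Cfsg.Agent.ChevalleyStructure.Tits.Mat Cfsg.Agent.ChevalleyStructure.Tits.Order
  Cfsg.Agent.ChevalleyStructure.Tits.Main Cfsg.Agent.Omega.TitsIso.TitsSideRel
  Cfsg.Agent.Omega.TitsIso.TitsSide
open Cfsg.Agent.H562.PQR

theorem prod_ne_one {l : List (ZMod 8)} {i j : I52} (hij : i ≠ j)
    (h : (evalW (zz l)).testBit (52 * ix j + ix i) = true) : (l.map ZH).prod ≠ 1 := by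
  intro e
  have h1 : (((((zz l).map yH).prod : Cfsg.Agent.ChevalleyStructure.Tits.Order.H0)) : GL I52 (ZMod 2)) = 1 := by
    rw [prod_zz, e]; rfl
  rw [coe_list _ (zz_lt l)] at h1
  have h2 : ((((zz l).map yG).prod : GL I52 (ZMod 2)) : Matrix I52 I52 (ZMod 2)) =
      ((1 : GL I52 (ZMod 2)) : Matrix I52 I52 (ZMod 2)) := by
    rw [h1]
  rw [coe_word _ (fun k hk => by have := zz_lt l k hk; omega), ← toMat_evalW, Units.val_one] at h2
  have h3 := congrFun (congrFun h2 i) j
  rw [toMat_apply, h, Matrix.one_apply_ne hij] at h3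
  exact absurd h3 (by decide)

/-- the words in the derived subgroup -/
noncomputable def zc (l : List (ZMod 8)) : ↥(commutator Cfsg.Agent.ChevalleyStructure.Tits.Order.H0) := (l.map ZC).prod

theorem coe_zc (l : List (ZMod 8)) : ((zc l : ↥(commutator Cfsg.Agent.ChevalleyStructure.Tits.Order.H0)) :
    Cfsg.Agent.ChevalleyStructure.Tits.Order.H0) = (l.map ZH).prod := by
  unfold zc
  induction l with
  | nil => rfl
  | cons x l ih => rw [List.map_cons, List.prod_cons, List.map_cons, List.prod_cons, Subgroup.coe_mul, ih]; rfl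

theorem zc_append (l m : List (ZMod 8)) : zc (l ++ m) = zc l * zc m := by
  unfold zc; rw [List.map_append, List.prod_append]

theorem zc_nil : zc [] = 1 := rfl

theorem zc_rel {l m : List (ZMod 8)} (h : chk (zz l, zz m) = true) : zc l = zc m := by
  apply Subtype.ext
  rw [coe_zc, coe_zc]
  exact rel_zz h

theorem zc_ne_one {l : List (ZMod 8)} (i j : I52) (hij : i ≠ j)
    (h : (evalW (zz l)).testBit (52 * ix j + ix i) = true) : zc l ≠ 1 := by
  intro e
  apply prod_ne_one hij h
  rw [← coe_zc, e]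
  rfl

/-- the `n`-fold repetition of a word -/
def rep (l : List (ZMod 8)) : ℕ → List (ZMod 8)
  | 0 => []
  | n + 1 => l ++ rep l n

theorem zc_rep (l : List (ZMod 8)) (n : ℕ) : zc (rep l n) = zc l ^ n := by
  induction n with
  | zero => rw [pow_zero]; rfl
  | succ n ih => rw [rep, zc_append, ih, pow_succ']

theorem order_zc {l : List (ZMod 8)} {p : ℕ} (hp : p.Prime) (h : chk (zz (rep l p), zz []) = true) (i j : I52)
    (hij : i ≠ j) (hb : (evalW (zz l)).testBit (52 * ix j + ix i) = true) : orderOf (zc l) = p := by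
  have : Fact p.Prime := ⟨hp⟩
  apply orderOf_eq_prime
  · rw [← zc_rep, zc_rel h, zc_nil]
  · exact zc_ne_one i j hij hb

/-- an involution -/
def aw : List (ZMod 8) := [1]
/-- of order three -/
def bw : List (ZMod 8) := [0, 3, 7, 4, 0, 3, 7, 4]
/-- an involution -/
def cw : List (ZMod 8) := [1, 4, 6, 1]
/-- of order five -/
def dw : List (ZMod 8) := [0, 4]

theorem ka : chk (zz (rep aw 2), zz []) = true := by decide +kernel
theorem kb : chk (zz (rep bw 3), zz []) = true := by decide +kernel
theorem kab : chk (zz (rep (aw ++ bw) 13), zz []) = true := by decide +kernel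
theorem kc : chk (zz (rep cw 2), zz []) = true := by decide +kernel
theorem kd : chk (zz (rep dw 5), zz []) = true := by decide +kernel
theorem kcd : chk (zz (rep (cw ++ dw) 13), zz []) = true := by decide +kernel

theorem oa : orderOf (zc aw) = 2 :=
  order_zc Nat.prime_two ka (Sum.inr 44) (Sum.inl 0) (by decide) (by decide +kernel)
theorem ob : orderOf (zc bw) = 3 :=
  order_zc Nat.prime_three kb (Sum.inr 7) (Sum.inl 0) (by decide) (by decide +kernel)
theorem oab : orderOf (zc aw * zc bw) = 13 := by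
  rw [← zc_append]
  exact order_zc (by norm_num) kab (Sum.inr 7) (Sum.inl 0) (by decide) (by decide +kernel)
theorem oc : orderOf (zc cw) = 2 :=
  order_zc Nat.prime_two kc (Sum.inl 1) (Sum.inl 0) (by decide) (by decide +kernel)
theorem od : orderOf (zc dw) = 5 :=
  order_zc (by norm_num) kd (Sum.inl 1) (Sum.inl 0) (by decide) (by decide +kernel)
theorem ocd : orderOf (zc cw * zc dw) = 13 := by
  rw [← zc_append]
  exact order_zc (by norm_num) kcd (Sum.inr 8) (Sum.inl 0) (by decide) (by decide +kernel)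

/-- a group with two triples of types `(2, 3, 13)` and `(2, 5, 13)` -/
def Two (M : Type*) [Group M] : Prop :=
  (∃ x y : M, orderOf x = 2 ∧ orderOf y = 3 ∧ orderOf (x * y) = 13) ∧
    ∃ x y : M, orderOf x = 2 ∧ orderOf y = 5 ∧ orderOf (x * y) = 13

theorem two_H0 : Two ↥(commutator Cfsg.Agent.ChevalleyStructure.Tits.Order.H0) :=
  ⟨⟨zc aw, zc bw, oa, ob, oab⟩, ⟨zc cw, zc dw, oc, od, ocd⟩⟩

theorem two_of_eq (K : Subgroup (GL I52 (ZMod 2))) (hK : K = Cfsg.Agent.ChevalleyStructure.Tits.Order.H0) :
    Two ↥(commutator K) := by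
  subst hK
  exact two_H0

theorem two_titsGroup : Two Cfsg.Lie.TitsGroup := two_of_eq (Cfsg.Lie.twistedF4 (ZMod 2) 1) T0_eq_H0

/-- a triple from a pair -/
theorem trip_of_pair {M : Type*} [Group M] (hm : Cfsg.Agent.H80.Fpf.MultDvd M 1) {a b c : ℕ} (ha : a.Prime)
    (hb : b.Prime) (hc : c.Prime) (hab : a ≠ b) (hac : a ≠ c) (hbc : b ≠ c) {x y : M} (hx : orderOf x = a)
    (hy : orderOf y = b) (hxy : orderOf (x * y) = c) : TripABC a b c M := by
  refine TripABC.of_mult hm (fun s hs h => absurd (Nat.dvd_one.1 h) hs.one_lt.ne') ha hb hc hab hac hbc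
    (PE.of_orderOf ha hx) (PE.of_orderOf hb hy) (z := (x * y)⁻¹) (PE.of_orderOf hc ?_) ?_
  · rw [orderOf_inv]; exact hxy
  · rw [mul_inv_cancel]

theorem primes {p : ℕ} (hp : p.Prime) (hp2 : p ≠ 2) (hd : p ∣ 17971200) : p = 3 ∨ p = 5 ∨ p = 13 := by
  have hcard : 17971200 = 2 ^ 11 * 3 ^ 3 * 5 ^ 2 * 13 := by norm_num
  rw [hcard] at hd
  rcases (hp.dvd_mul.1 hd) with hd | hd
  · rcases (hp.dvd_mul.1 hd) with hd | hd
    · rcases (hp.dvd_mul.1 hd) with hd | hd
      · exact absurd ((Nat.prime_dvd_prime_iff_eq hp Nat.prime_two).1 (hp.dvd_of_dvd_pow hd)) hp2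
      · exact Or.inl ((Nat.prime_dvd_prime_iff_eq hp Nat.prime_three).1 (hp.dvd_of_dvd_pow hd))
    · exact Or.inr (Or.inl ((Nat.prime_dvd_prime_iff_eq hp (by norm_num)).1 (hp.dvd_of_dvd_pow hd)))
  · exact Or.inr (Or.inr ((Nat.prime_dvd_prime_iff_eq hp (by norm_num)).1 hd))

/-- the abstract form -/
theorem row_of {M : Type*} [Group M] (hcard : Nat.card M = 17971200) (hm : Cfsg.Agent.H80.Fpf.MultDvd M 1)
    (h : Two M) : RowOdd M := by
  intro p hp hp2 hd
  right
  obtain ⟨⟨x, y, hx, hy, hxy⟩, ⟨x', y', hx', hy', hxy'⟩⟩ := h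
  have h1 : TripABC 2 3 13 M := trip_of_pair hm (by norm_num) (by norm_num) (by norm_num) (by norm_num) (by norm_num)
    (by norm_num) hx hy hxy
  have h2 : TripABC 2 5 13 M := trip_of_pair hm (by norm_num) (by norm_num) (by norm_num) (by norm_num) (by norm_num)
    (by norm_num) hx' hy' hxy'
  rw [hcard] at hd
  rcases primes hp hp2 hd with rfl | rfl | rfl
  · exact ⟨2, 3, 13, by norm_num, by norm_num, h1⟩
  · exact ⟨2, 5, 13, by norm_num, by norm_num, h2⟩
  · exact ⟨2, 3, 13, by norm_num, by norm_num, h1⟩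

theorem mult_titsGroup : Cfsg.Agent.H80.Fpf.MultDvd Cfsg.Lie.TitsGroup 1 :=
  Cfsg.Agent.H80.Fpf.multDvd_of_cyclic (S := Cfsg.Lie.TitsGroup) (n := 1) Nat.one_ne_zero Cfsg.Agent.S2115.result

theorem card_titsGroup : Nat.card Cfsg.Lie.TitsGroup = 17971200 := facts.2.2

theorem row_titsGroup : RowOdd Cfsg.Lie.TitsGroup :=
  @row_of Cfsg.Lie.TitsGroup _ card_titsGroup mult_titsGroup two_titsGroup

end Cfsg.Agent.H628.PQR.Tits
end

-- part: H562/PQR/AllRows
section
/-!
# S3988 (helper562): the rows of the known simple groups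

`rowsOdd` : all rows for the odd primes, from the rows of `B`, `M`.
-/

set_option autoImplicit false

namespace Cfsg.Agent.H562.PQR

open Cfsg

/-- **the rows for the odd primes**, from the two last ones -/
theorem rowsOdd
    (b : RowOdd Spor.BabyMonster) (m : RowOdd Spor.Monster) : RowsOdd where
  alt := fun _ hn => Cfsg.Agent.H206.PQR.RowAlt.row_alt hn
  psl2 := fun F _ _ hF => (Cfsg.Agent.H528.PQR.row_psl2 F hF).odd
  psl := fun F _ _ _ hn => Cfsg.Agent.H900.PQR.row_psl hn F
  psp := fun _ _ _ _ hm _ => Cfsg.Agent.H973.PQR.row_psp hm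
  psu := fun F _ _ n q hF hn h => Cfsg.Agent.H151.PQR.row_psu F n q hF hn h
  omegaOdd := fun F i j m hm ho => Cfsg.Agent.H877.PQROrth.row_omega_odd ⟨F, i, j, m, hm, ho, ⟨MulEquiv.refl _⟩⟩
  omegaPlus := fun F i j m hm => Cfsg.Agent.H877.PQROrth.row_omega_plus ⟨F, i, j, m, hm, ⟨MulEquiv.refl _⟩⟩
  omegaMinus := fun F i j m a b hm hab =>
    Cfsg.Agent.H877.PQROrth.row_omega_minus ⟨F, i, j, m, a, b, hm, hab, ⟨MulEquiv.refl _⟩⟩
  g2 := fun F i j hF => Cfsg.Agent.H963.PQR.row_G2 ⟨F, i, j, hF, ⟨MulEquiv.refl _⟩⟩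
  f4 := fun F i j => Cfsg.Agent.H934.PQR.row_F4 ⟨F, i, j, ⟨MulEquiv.refl _⟩⟩
  e6 := fun F i j => Cfsg.Agent.H934.PQR.row_E6 ⟨F, i, j, ⟨MulEquiv.refl _⟩⟩
  e7 := fun F i j => Cfsg.Agent.H934.PQR.row_E7 ⟨F, i, j, ⟨MulEquiv.refl _⟩⟩
  e8 := fun F i j => Cfsg.Agent.H934.PQR.row_E8 ⟨F, i, j, ⟨MulEquiv.refl _⟩⟩
  e6t := fun K i j q hq hK => Cfsg.Agent.H934.PQR.row_2E6 ⟨K, i, j, q, hq, hK, ⟨MulEquiv.refl _⟩⟩
  d4t := fun K i j q hq hK => Cfsg.Agent.H963.PQR.row_3D4 ⟨K, i, j, q, hq, hK, ⟨MulEquiv.refl _⟩⟩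
  sz := fun F i j m hm hF => (Cfsg.Agent.H528.PQR.row_sz ⟨F, i, j, m, hm, hF, ⟨MulEquiv.refl _⟩⟩).odd
  ree := fun K i j m hm hK => Cfsg.Agent.H528.PQR.row_ree ⟨K, i, j, m, hm, hK, ⟨MulEquiv.refl _⟩⟩
  f4t := fun K i j m hm hK => Cfsg.Agent.H628.PQR.TwF.row_2F4 ⟨K, i, j, m, hm, hK, ⟨MulEquiv.refl _⟩⟩
  tits := Cfsg.Agent.H628.PQR.Tits.row_titsGroup
  m11 := Cfsg.Agent.H759.PQR.row_M11
  m12 := Cfsg.Agent.H759.PQR.row_M12
  m22 := Cfsg.Agent.H759.PQR.row_M22
  m23 := Cfsg.Agent.H759.PQR.row_M23
  m24 := Cfsg.Agent.H759.PQR.row_M24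
  j1 := Cfsg.Agent.H984.PQR.RowJ1.row_J1
  j2 := Cfsg.Agent.H984.PQR.RowJ2.row_J2
  j3 := fun _ _ _ _ hF hω => Cfsg.Agent.H984.PQR.RowJ3.row_J3 hF hω
  j4 := Cfsg.Agent.H796.PQR.RowJFour.row_J4
  co1 := Cfsg.Agent.H831.PQR.row_Co1
  co2 := Cfsg.Agent.H831.PQR.row_Co2
  co3 := Cfsg.Agent.H831.PQR.row_Co3
  mcl := Cfsg.Agent.H831.PQR.row_McL
  hs := Cfsg.Agent.H831.PQR.row_HS
  suz := Cfsg.Agent.H536.PQR.Suz.row_Suz
  he := Cfsg.Agent.H536.PQR.He.row_He
  ru := Cfsg.Agent.H536.PQR.Ru.row_Ru
  on := Cfsg.Agent.H440.PQR.ON.row_ON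
  ly := Cfsg.Agent.H660.RowLy.row_Ly
  fi22 := Cfsg.Agent.H517.PQR.row_Fi22
  fi23 := Cfsg.Agent.H517.PQR.row_Fi23
  fi24 := Cfsg.Agent.H587.PQR.Fi24.row_Fi24'
  hn := Cfsg.Agent.H660.RowHN.row_HN
  th := Cfsg.Agent.H588.PQRTh.row_Th
  b := b
  m := m

end Cfsg.Agent.H562.PQR
end

private theorem dce_fc63778e8e76 : _root_.True := by
  try have : _root_.True := by simp only [_root_.Cfsg.Agent.H628.PQR.Tits.rep.eq_1]
  try have : _root_.True := by simp only [_root_.Cfsg.Agent.H628.PQR.Tits.rep.eq_2]
  try have : _root_.True := by simp only [_root_.Cfsg.Agent.H628.PQR.Tits.rep.eq_def]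
  exact _root_.True.intro
end

-- part: H562/PQR/Final_mg
section
prune_inst 0x4200000000000000000000000000000000000000000000000000000000210400000000020000812000a000000080000000000800000000000000000000000000000000000000008000000000000000000000000000000000000000000041004000000000
set_option linter.all false
open scoped Cfsg.Agent.FastGrp

-- part: H562/PQR/LiftA
section
/-!
# S3988 (helper562), lifting lemma, part A: parity, `s'`-lifts and their conjugacy
-/

set_option autoImplicit false

open scoped Pointwise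

namespace Cfsg.Agent.H562.PQR.Lift

/-- a symmetric function with odd sum on a group of odd order does not vanish at `1` -/
theorem ne_zero_of_symm {P : Type*} [Group P] [Fintype P] (hodd : Odd (Nat.card P)) (f : P → ℕ)
    (hf : ∀ c, f c⁻¹ = f c) (hs : Odd (∑ c, f c)) : f 1 ≠ 0 := by
  intro h1
  have h2 : ((∑ c, f c : ℕ) : ZMod 2) = 0 := by
    rw [Nat.cast_sum]
    refine Finset.sum_involution (fun c _ => c⁻¹) ?_ ?_ (fun c _ => Finset.mem_univ _) (fun c _ => inv_inv c)
    · intro c _
      rw [hf]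
      exact CharTwo.add_self_eq_zero _
    · intro c _ hc h3
      have h4 : c ^ 2 = 1 := by
        rw [pow_two]
        nth_rewrite 1 [← h3]
        exact inv_mul_cancel c
      have h5 : c ^ Nat.card P = 1 := pow_card_eq_one'
      have h6 := pow_gcd_eq_one.2 ⟨h4, h5⟩
      have h7 : Nat.gcd 2 (Nat.card P) = 1 := Nat.coprime_two_left.2 hodd
      rw [h7, pow_one] at h6
      rw [h6, h1] at hc
      exact hc Nat.cast_zero
  rw [ZMod.natCast_eq_zero_iff] at h2
  exact (Nat.not_even_iff_odd.2 hs) (even_iff_two_dvd.2 h2)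

variable {X : Type*} [Group X] [Finite X] {S : Type*} [Group S] {s : ℕ}

/-- `s'`-lifts -/
theorem exists_lift (hs : s.Prime) {π : X →* S} (x₀ : X) (hx : ¬ s ∣ orderOf (π x₀)) :
    ∃ x' : X, π x' = π x₀ ∧ ¬ s ∣ orderOf x' := by
  obtain ⟨j, m, hm, hj⟩ := Nat.exists_eq_pow_mul_and_not_dvd (orderOf_pos x₀).ne' s hs.ne_one
  have hco : Nat.Coprime m (s ^ j) := (Nat.Coprime.pow_left j ((Nat.Prime.coprime_iff_not_dvd hs).2 hm)).symm
  obtain ⟨t, ht1, ht2⟩ := Nat.chineseRemainder hco 1 0
  have hd : orderOf (π x₀) ∣ m := by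
    have h1 : orderOf (π x₀) ∣ orderOf x₀ := orderOf_map_dvd π x₀
    rw [hj] at h1
    refine Nat.Coprime.dvd_of_dvd_mul_left ?_ h1
    exact (Nat.Coprime.pow_left j ((Nat.Prime.coprime_iff_not_dvd hs).2 hx)).symm
  refine ⟨x₀ ^ t, ?_, fun h => ?_⟩
  · rw [map_pow]
    have h2 : t ≡ 1 [MOD orderOf (π x₀)] := ht1.of_dvd hd
    rw [pow_eq_pow_iff_modEq.2 h2, pow_one]
  · have h3 : (x₀ ^ t) ^ m = 1 := by
      rw [← pow_mul]
      apply orderOf_dvd_iff_pow_eq_one.1
      rw [hj]
      exact Nat.mul_dvd_mul_right ((Nat.modEq_zero_iff_dvd).1 ht2) _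
    exact hm (h.trans (orderOf_dvd_of_pow_eq_one h3))

/-- `s'`-elements with the same image are conjugate under the kernel -/
theorem exists_conj (hs : s.Prime) {π : X →* S} (hk : IsPGroup s π.ker) {x y : X} (hx : ¬ s ∣ orderOf x)
    (hy : ¬ s ∣ orderOf y) (h : π x = π y) : ∃ e ∈ π.ker, e * x * e⁻¹ = y := by
  have : Fact s.Prime := ⟨hs⟩
  obtain ⟨n, hn⟩ := IsPGroup.iff_card.1 hk
  set M := π.ker ⊔ Subgroup.zpowers x with hM
  have hkM : π.ker ≤ M := le_sup_left
  have hxM : x ∈ M := Subgroup.mem_sup_right (Subgroup.mem_zpowers x)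
  have hyx : y * x⁻¹ ∈ π.ker := by rw [MonoidHom.mem_ker, map_mul, map_inv, h, mul_inv_cancel]
  have hyM : y ∈ M := by
    have h1 := mul_mem (hkM hyx) hxM
    rwa [inv_mul_cancel_right] at h1
  let x₁ : M := ⟨x, hxM⟩
  let y₁ : M := ⟨y, hyM⟩
  set I := π.ker.subgroupOf M with hI
  have hIc : Nat.card I = s ^ n := by
    rw [← hn]
    exact Nat.card_congr (Subgroup.subgroupOfEquivOfLe hkM).toEquiv
  have hox : orderOf x₁ = orderOf x := (Subgroup.orderOf_coe x₁).symm
  have hoy : orderOf y₁ = orderOf y := (Subgroup.orderOf_coe y₁).symm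
  have hcop : ∀ m : ℕ, ¬ s ∣ m → m.Coprime (Nat.card I) := by
    intro m hm
    rw [hIc]
    exact Nat.Coprime.pow_right n ((Nat.Prime.coprime_iff_not_dvd hs).2 hm).symm
  obtain ⟨g, hg⟩ := Cfsg.Agent.H967.CopConj.conj_le I (Subgroup.zpowers x₁) inferInstance
    (hcop _ (by rwa [Nat.card_zpowers, hox])) (Subgroup.zpowers y₁) (hcop _ (by rwa [Nat.card_zpowers, hoy]))
    (by
      rw [Subgroup.zpowers_le]
      have h1 : y₁ = y₁ * x₁⁻¹ * x₁ := by group
      rw [h1]
      refine mul_mem (Subgroup.mem_sup_right ?_) (Subgroup.mem_sup_left (Subgroup.mem_zpowers _))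
      exact Subgroup.mem_subgroupOf.2 hyx)
  -- `g = x ^ i * k`
  have hgM : (g : X) ∈ Subgroup.zpowers x ⊔ π.ker := by rw [sup_comm]; exact g.2
  rw [← SetLike.mem_coe, Subgroup.mul_normal] at hgM
  obtain ⟨c, hc, k, hkk, hck⟩ := hgM
  have h1 : MulAut.conj g • y₁ ∈ Subgroup.zpowers x₁ :=
    hg (Subgroup.smul_mem_pointwise_smul _ _ _ (Subgroup.mem_zpowers y₁))
  obtain ⟨j, hj⟩ := Subgroup.mem_zpowers_iff.1 h1
  have h2 : x ^ j = (g : X) * y * (g : X)⁻¹ := congrArg Subtype.val hj
  obtain ⟨i, rfl⟩ := Subgroup.mem_zpowers_iff.1 hc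
  have hck' : x ^ i * k = (g : X) := hck
  have h3 : k * y * k⁻¹ = x ^ j := by
    have h4 : x ^ i * (k * y * k⁻¹) * (x ^ i)⁻¹ = x ^ j := by rw [h2, ← hck']; group
    calc k * y * k⁻¹ = (x ^ i)⁻¹ * (x ^ i * (k * y * k⁻¹) * (x ^ i)⁻¹) * x ^ i := by group
      _ = (x ^ i)⁻¹ * x ^ j * x ^ i := by rw [h4]
      _ = x ^ j := by rw [← zpow_neg, ← zpow_add, ← zpow_add]; congr 1; ring
  have hπk : π k = 1 := MonoidHom.mem_ker.1 hkk
  have h4 : π (x ^ j) = π x := by
    rw [← h3, map_mul, map_mul, map_inv, hπk, one_mul, inv_one, mul_one, h]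
  have h5 : x ^ j = x := by
    have h6 : x ^ j * x⁻¹ ∈ π.ker := by rw [MonoidHom.mem_ker, map_mul, map_inv, h4, mul_inv_cancel]
    have h7 : x ^ j * x⁻¹ ∈ Subgroup.zpowers x :=
      mul_mem (Subgroup.zpow_mem_zpowers x j) (inv_mem (Subgroup.mem_zpowers x))
    obtain ⟨l, hl⟩ := hk ⟨_, h6⟩
    have h8 : (x ^ j * x⁻¹) ^ s ^ l = 1 := congrArg Subtype.val hl
    have h9 : orderOf (x ^ j * x⁻¹) ∣ orderOf x := orderOf_dvd_of_mem_zpowers h7
    have h10 : orderOf (x ^ j * x⁻¹) = 1 := by
      refine Nat.Coprime.eq_one_of_dvd ?_ (orderOf_dvd_of_pow_eq_one h8)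
      exact Nat.Coprime.pow_right l ((Nat.Prime.coprime_iff_not_dvd hs).2 (fun h11 => hx (h11.trans h9))).symm
    exact mul_inv_eq_one.1 (orderOf_eq_one_iff.1 h10)
  refine ⟨k⁻¹, inv_mem hkk, ?_⟩
  rw [← h5, ← h3]
  group

end Cfsg.Agent.H562.PQR.Lift
end

-- part: H562/PQR/LiftB
section
/-!
# S3988 (helper562), lifting lemma, part B: the group `Ξ` of the pairs `(A, g)`, `A r(n) A⁻¹ = r(g n g⁻¹)`
-/

set_option autoImplicit false

namespace Cfsg.Agent.H562.PQR.Lift

open Cfsg.Agent.H80.Fpf (IsCover perf_commutator)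

universe u v w

section Xi

variable {X : Type u} [Group X] {P : Subgroup X} [hPn : P.Normal] {W : Type v} [Group W] (r : P →* W) (δ : W →* ℂˣ)
  (N : ℕ)

/-- the pairs `(A, g)` -/
def Xi : Subgroup (W × X) where
  carrier := {a | (∀ n : P, a.1 * r n * a.1⁻¹ = r (MulAut.conjNormal a.2 n)) ∧ δ a.1 ^ N = 1}
  mul_mem' := by
    rintro a b ⟨ha, ha'⟩ ⟨hb, hb'⟩
    refine ⟨fun n => ?_, ?_⟩
    · rw [Prod.fst_mul, Prod.snd_mul, map_mul, MulAut.mul_apply, ← ha, ← hb]
      group
    · rw [Prod.fst_mul, map_mul, mul_pow, ha', hb', one_mul]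
  one_mem' := by
    refine ⟨fun n => ?_, ?_⟩
    · rw [Prod.fst_one, Prod.snd_one, map_one, MulAut.one_apply, one_mul, inv_one, mul_one]
    · rw [Prod.fst_one, map_one, one_pow]
  inv_mem' := by
    rintro a ⟨ha, ha'⟩
    refine ⟨fun n => ?_, ?_⟩
    · have h1 := ha (MulAut.conjNormal a.2⁻¹ n)
      rw [← MulAut.mul_apply, ← map_mul, mul_inv_cancel, map_one, MulAut.one_apply] at h1
      rw [Prod.fst_inv, Prod.snd_inv, ← h1]
      group
    · rw [Prod.fst_inv, map_inv, inv_pow, ha', inv_one]

/-- first projection -/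
def p1 : Xi r δ N →* W := (MonoidHom.fst W X).comp (Xi r δ N).subtype

/-- second projection -/
def p2 : Xi r δ N →* X := (MonoidHom.snd W X).comp (Xi r δ N).subtype

variable {r δ N}

theorem ext12 {a b : Xi r δ N} (h1 : p1 r δ N a = p1 r δ N b) (h2 : p2 r δ N a = p2 r δ N b) : a = b :=
  Subtype.ext (Prod.ext h1 h2)

/-- the copy of `P` -/
def diag (hN : ∀ n : P, δ (r n) ^ N = 1) : P →* Xi r δ N where
  toFun u := ⟨(r u, (u : X)), fun n => by
    rw [← map_mul, ← map_inv, ← map_mul]
    congr 1, hN u⟩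
  map_one' := Subtype.ext (Prod.ext (map_one r) rfl)
  map_mul' u v := Subtype.ext (Prod.ext (map_mul r u v) rfl)

variable (hN : ∀ n : P, δ (r n) ^ N = 1)

theorem p1_diag (u : P) : p1 r δ N (diag hN u) = r u := rfl

theorem p2_diag (u : P) : p2 r δ N (diag hN u) = u := rfl

theorem conj_diag (a : Xi r δ N) (u : P) :
    a * diag hN u * a⁻¹ = diag hN (MulAut.conjNormal (p2 r δ N a) u) := by
  apply ext12
  · rw [map_mul, map_mul, map_inv, p1_diag, p1_diag]
    exact a.2.1 u
  · rw [map_mul, map_mul, map_inv, p2_diag, p2_diag]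
    rfl

instance diag_normal : (diag hN).range.Normal := by
  refine ⟨?_⟩
  rintro _ ⟨u, rfl⟩ a
  exact ⟨_, (conj_diag hN a u).symm⟩

end Xi

/-- central lifting, all universes -/
theorem clift_univ {s : ℕ} {S : Type v} [Group S] {x y z : S} (h : CLift s x y z) {Γ : Type w} [Group Γ] [Finite Γ]
    {π : Γ →* S} (hπ : IsCover π) (hk : IsPGroup s π.ker) : ∃ x' y' z' : Γ, π x' = x ∧ π y' = y ∧ π z' = z ∧
      x' * y' * z' = 1 ∧ ¬ s ∣ orderOf x' ∧ ¬ s ∣ orderOf y' ∧ ¬ s ∣ orderOf z' := by
  let e : Shrink.{0} Γ ≃* Γ := Shrink.mulEquiv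
  have : Finite (Shrink.{0} Γ) := Finite.of_equiv Γ e.symm.toEquiv
  have hc : IsCover (π.comp e.toMonoidHom) := by
    refine ⟨hπ.surj.comp e.surjective, ?_, ?_⟩
    · intro g hg
      have h1 : e g ∈ π.ker := hg
      have h2 := Subgroup.mem_center_iff.1 (hπ.central h1)
      refine Subgroup.mem_center_iff.2 fun t => e.injective ?_
      rw [map_mul, map_mul]
      exact h2 (e t)
    · have h1 := Cfsg.Agent.H80.Fpf.map_commutator_of_surj (f := e.symm.toMonoidHom) e.symm.surjective
      rw [← h1, hπ.perf]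
      exact Subgroup.map_top_of_surjective _ e.symm.surjective
  have hk' : IsPGroup s (π.comp e.toMonoidHom).ker := by
    rintro ⟨g, hg⟩
    obtain ⟨j, hj⟩ := hk ⟨e g, hg⟩
    refine ⟨j, Subtype.ext (e.injective ?_)⟩
    change e (g ^ s ^ j) = e 1
    rw [map_pow, map_one]
    exact congrArg Subtype.val hj
  obtain ⟨x', y', z', h1, h2, h3, h4, h5, h6, h7⟩ := h (Shrink.{0} Γ) _ hc hk'
  refine ⟨e x', e y', e z', h1, h2, h3, ?_, ?_, ?_, ?_⟩
  · rw [← map_mul, ← map_mul, h4, map_one]
  · rwa [e.orderOf_eq]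
  · rwa [e.orderOf_eq]
  · rwa [e.orderOf_eq]

/-- lifting to a finite group with a central kernel modulo a normal `s`-subgroup -/
theorem exists_triple {s : ℕ} (hs : s.Prime) {Y : Type u} [Group Y] [Finite Y] {S : Type v} [Group S]
    (hS : commutator S = ⊤) {q : Y →* S} (hq : Function.Surjective q) {D : Subgroup Y} [D.Normal] (hD : IsPGroup s D)
    (hDq : D ≤ q.ker) (hcen : ∀ a ∈ q.ker, ∀ b : Y, a * b * a⁻¹ * b⁻¹ ∈ D) (hker : IsPGroup s q.ker) {x y z : S}
    (hC : CLift s x y z) : ∃ x' y' z' : Y, q x' = x ∧ q y' = y ∧ q z' = z ∧ x' * y' * z' ∈ D ∧ ¬ s ∣ orderOf x' ∧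
      ¬ s ∣ orderOf y' ∧ ¬ s ∣ orderOf z' := by
  set π₀ : Y ⧸ D →* S := QuotientGroup.lift D q hDq with hπ₀
  have hsurj : Function.Surjective π₀ := by
    intro t
    obtain ⟨g, hg⟩ := hq t
    exact ⟨QuotientGroup.mk g, hg⟩
  have hcen₀ : π₀.ker ≤ Subgroup.center (Y ⧸ D) := by
    intro g hg
    obtain ⟨a, rfl⟩ := QuotientGroup.mk_surjective g
    have ha : a ∈ q.ker := hg
    refine Subgroup.mem_center_iff.2 fun t => ?_
    obtain ⟨b, rfl⟩ := QuotientGroup.mk_surjective t
    have h1 := hcen a ha b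
    rw [← QuotientGroup.eq_one_iff, QuotientGroup.mk_mul, QuotientGroup.mk_mul, QuotientGroup.mk_mul,
      QuotientGroup.mk_inv, QuotientGroup.mk_inv, mul_inv_eq_one, mul_inv_eq_iff_eq_mul] at h1
    exact h1.symm
  have hk₀ : IsPGroup s π₀.ker := by
    rintro ⟨g, hg⟩
    obtain ⟨a, rfl⟩ := QuotientGroup.mk_surjective g
    obtain ⟨j, hj⟩ := hker ⟨a, hg⟩
    refine ⟨j, Subtype.ext ?_⟩
    change (QuotientGroup.mk a : Y ⧸ D) ^ s ^ j = 1
    rw [← QuotientGroup.mk_pow]
    have h1 : a ^ s ^ j = 1 := congrArg Subtype.val hj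
    rw [h1, QuotientGroup.mk_one]
  obtain ⟨hperf, hmap⟩ := perf_commutator hsurj hcen₀ hS
  have hcov : IsCover (π₀.comp (commutator (Y ⧸ D)).subtype) := by
    refine ⟨?_, ?_, hperf⟩
    · intro t
      have h1 : t ∈ (commutator (Y ⧸ D)).map π₀ := by rw [hmap]; trivial
      obtain ⟨g, hg, hgt⟩ := h1
      exact ⟨⟨g, hg⟩, hgt⟩
    · intro g hg
      have h1 := Subgroup.mem_center_iff.1 (hcen₀ (show (g : Y ⧸ D) ∈ π₀.ker from hg))
      exact Subgroup.mem_center_iff.2 fun t => Subtype.ext (h1 t)
  have hkc : IsPGroup s (π₀.comp (commutator (Y ⧸ D)).subtype).ker := by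
    rintro ⟨g, hg⟩
    obtain ⟨j, hj⟩ := hk₀ ⟨(g : Y ⧸ D), hg⟩
    exact ⟨j, Subtype.ext (Subtype.ext (show ((g : Y ⧸ D)) ^ s ^ j = 1 from congrArg Subtype.val hj))⟩
  obtain ⟨x₁, y₁, z₁, h1, h2, h3, h4, h5, h6, h7⟩ := clift_univ hC hcov hkc
  have lift : ∀ t : commutator (Y ⧸ D), ¬ s ∣ orderOf t → ∃ t' : Y, (QuotientGroup.mk t' : Y ⧸ D) = t ∧
      ¬ s ∣ orderOf t' := by
    intro t ht
    obtain ⟨t₀, ht₀⟩ := QuotientGroup.mk_surjective (t : Y ⧸ D)
    obtain ⟨t', ht1, ht2⟩ := exists_lift hs (π := QuotientGroup.mk' D) t₀ (by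
      change ¬ s ∣ orderOf (QuotientGroup.mk t₀ : Y ⧸ D)
      rwa [ht₀, Subgroup.orderOf_coe])
    exact ⟨t', ht1.trans ht₀, ht2⟩
  obtain ⟨x', hx1, hx2⟩ := lift x₁ h5
  obtain ⟨y', hy1, hy2⟩ := lift y₁ h6
  obtain ⟨z', hz1, hz2⟩ := lift z₁ h7
  refine ⟨x', y', z', ?_, ?_, ?_, ?_, hx2, hy2, hz2⟩
  · rw [← h1]
    change π₀ (QuotientGroup.mk x') = π₀ x₁
    rw [hx1]
  · rw [← h2]
    change π₀ (QuotientGroup.mk y') = π₀ y₁
    rw [hy1]
  · rw [← h3]
    change π₀ (QuotientGroup.mk z') = π₀ z₁
    rw [hz1]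
  · rw [← QuotientGroup.eq_one_iff, QuotientGroup.mk_mul, QuotientGroup.mk_mul, hx1, hy1, hz1]
    exact congrArg Subtype.val h4

end Cfsg.Agent.H562.PQR.Lift
end

-- part: H562/PQR/LiftC
section
/-!
# S3988 (helper562), lifting lemma, part C: the group `Ξ` of an invariant irreducible representation
-/

set_option autoImplicit false

namespace Cfsg.Agent.H562.PQR.Lift

open Module

universe u v w

section rep

variable {X : Type u} [Group X] {P : Subgroup X} [hPn : P.Normal] {V : Type} [AddCommGroup V] [Module ℂ V]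
  [FiniteDimensional ℂ V]

/-- the determinant -/
noncomputable def dt (V : Type) [AddCommGroup V] [Module ℂ V] : (Module.End ℂ V)ˣ →* ℂˣ :=
  Units.map (LinearMap.det : Module.End ℂ V →* ℂ)

/-- the scalars -/
noncomputable def sc (V : Type) [AddCommGroup V] [Module ℂ V] : ℂˣ →* (Module.End ℂ V)ˣ :=
  Units.map (algebraMap ℂ (Module.End ℂ V)).toMonoidHom

theorem sc_coe (c : ℂˣ) : ((sc V c : (Module.End ℂ V)ˣ) : Module.End ℂ V) = (c : ℂ) • 1 := by
  change algebraMap ℂ (Module.End ℂ V) c = _
  rw [Algebra.algebraMap_eq_smul_one]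

theorem sc_comm (c : ℂˣ) (A : (Module.End ℂ V)ˣ) : sc V c * A = A * sc V c := by
  apply Units.ext
  rw [Units.val_mul, Units.val_mul, sc_coe, smul_mul_assoc, mul_smul_comm, one_mul, mul_one]

theorem dt_sc (c : ℂˣ) : dt V (sc V c) = c ^ finrank ℂ V := by
  apply Units.ext
  change LinearMap.det ((sc V c : (Module.End ℂ V)ˣ) : Module.End ℂ V) = _
  rw [sc_coe, LinearMap.det_smul, Units.val_pow_eq_pow_val]
  have h1 : LinearMap.det (1 : Module.End ℂ V) = 1 := map_one _
  rw [h1, mul_one]

/-- the homomorphism to the units -/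
noncomputable def un (ρ : Representation ℂ P V) : P →* (Module.End ℂ V)ˣ := MonoidHom.toHomUnits ρ

theorem dt_un [Finite P] (ρ : Representation ℂ P V) (n : P) : dt V (un ρ n) ^ Nat.card P = 1 := by
  rw [← map_pow, ← map_pow, pow_card_eq_one', map_one, map_one]

variable (ρ : Representation ℂ P V)

/-- an element commuting with an irreducible representation is a scalar -/
theorem exists_sc (hρ : ρ.IsIrreducible) {A : (Module.End ℂ V)ˣ} (h : ∀ n : P, A * un ρ n * A⁻¹ = un ρ n) :
    ∃ c : ℂˣ, A = sc V c := by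
  have h1 : ∀ n, (A : Module.End ℂ V) * ρ n = ρ n * A := by
    intro n
    have h2 := h n
    rw [mul_inv_eq_iff_eq_mul] at h2
    exact congrArg Units.val h2
  obtain ⟨c, hc⟩ := Cfsg.Agent.CharactersDeep.InvRep.exists_smul_of_comm ρ hρ (A : Module.End ℂ V) h1
  have hV : Nontrivial V := ((Cfsg.Agent.CharactersDeep.InvRep.isIrreducible_iff ρ).1 hρ).1
  have hc0 : c ≠ 0 := by
    rintro rfl
    rw [zero_smul] at hc
    exact A.ne_zero hc
  refine ⟨Units.mk0 c hc0, Units.ext ?_⟩
  rw [hc, sc_coe, Units.val_mk0]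

variable {N : ℕ}

/-- the kernel of `Ξ → X` -/
theorem exists_sc_of_p2 (hρ : ρ.IsIrreducible) {a : Xi (un ρ) (dt V) N} (ha : p2 _ _ _ a = 1) :
    ∃ c : ℂˣ, p1 _ _ _ a = sc V c ∧ c ^ (finrank ℂ V * N) = 1 := by
  have h1 : ∀ n : P, p1 _ _ _ a * un ρ n * (p1 _ _ _ a)⁻¹ = un ρ n := by
    intro n
    have h2 := a.2.1 n
    have h3 : (a : (Module.End ℂ V)ˣ × X).2 = 1 := ha
    rw [h3, map_one, MulAut.one_apply] at h2
    exact h2
  obtain ⟨c, hc⟩ := exists_sc ρ hρ h1
  refine ⟨c, hc, ?_⟩
  have h2 : dt V (p1 _ _ _ a) ^ N = 1 := a.2.2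
  rwa [hc, dt_sc, ← pow_mul] at h2

theorem finite_Xi [Finite X] (hρ : ρ.IsIrreducible) (hN : N ≠ 0) : Finite (Xi (un ρ) (dt V) N) := by
  have hV : Nontrivial V := ((Cfsg.Agent.CharactersDeep.InvRep.isIrreducible_iff ρ).1 hρ).1
  have hd : finrank ℂ V * N ≠ 0 := mul_ne_zero finrank_pos.ne' hN
  have : NeZero (finrank ℂ V * N) := ⟨hd⟩
  have hfin : Finite (p2 (un ρ) (dt V) N).ker := by
    have h1 : Finite (rootsOfUnity (finrank ℂ V * N) ℂ) := inferInstance
    have h2 : ∀ a : (p2 (un ρ) (dt V) N).ker, ∃ c : rootsOfUnity (finrank ℂ V * N) ℂ,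
        p1 _ _ _ (a : Xi (un ρ) (dt V) N) = sc V c := by
      intro a
      obtain ⟨c, hc, hc'⟩ := exists_sc_of_p2 ρ hρ (MonoidHom.mem_ker.1 a.2)
      exact ⟨⟨c, hc'⟩, hc⟩
    choose f hf using h2
    refine Finite.of_injective f fun a b hab => Subtype.ext (ext12 ?_ ?_)
    · rw [hf, hf, hab]
    · rw [MonoidHom.mem_ker.1 a.2, MonoidHom.mem_ker.1 b.2]
  have h3 := Subgroup.card_eq_card_quotient_mul_card_subgroup (p2 (un ρ) (dt V) N).ker
  have h4 : Finite (Xi (un ρ) (dt V) N ⧸ (p2 (un ρ) (dt V) N).ker) :=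
    Finite.of_injective _ (QuotientGroup.kerLift_injective (p2 (un ρ) (dt V) N))
  apply Nat.finite_of_card_ne_zero
  rw [h3]
  exact mul_ne_zero Nat.card_pos.ne' Nat.card_pos.ne'

theorem p2_surjective [Finite P] (hρ : ρ.IsIrreducible)
    (hinv : ∀ (g : X) (n : P), ρ.character (MulAut.conjNormal g n) = ρ.character n) :
    Function.Surjective (p2 (un ρ) (dt V) N) := by
  intro g
  have hV : Nontrivial V := ((Cfsg.Agent.CharactersDeep.InvRep.isIrreducible_iff ρ).1 hρ).1
  obtain ⟨T, hT⟩ := Cfsg.Agent.CharactersDeep.InvRep.exists_intertwiner ρ hρ g (fun n => hinv g n)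
  obtain ⟨c, hc⟩ := IsAlgClosed.exists_pow_nat_eq (((dt V T)⁻¹ : ℂˣ) : ℂ) (n := finrank ℂ V) finrank_pos
  have hc0 : c ≠ 0 := by
    rintro rfl
    rw [zero_pow finrank_pos.ne'] at hc
    exact Units.ne_zero _ hc.symm
  have hc1 : (Units.mk0 c hc0) ^ finrank ℂ V = (dt V T)⁻¹ := Units.ext (by
    rw [Units.val_pow_eq_pow_val, Units.val_mk0, hc])
  have hT' : ∀ n : P, T * un ρ n * T⁻¹ = un ρ (MulAut.conjNormal g n) := by
    intro n
    rw [mul_inv_eq_iff_eq_mul]
    exact Units.ext (hT n)
  refine ⟨⟨(sc V (Units.mk0 c hc0) * T, g), fun n => ?_, ?_⟩, rfl⟩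
  · change sc V (Units.mk0 c hc0) * T * un ρ n * (sc V (Units.mk0 c hc0) * T)⁻¹ = un ρ (MulAut.conjNormal g n)
    rw [← hT' n]
    calc sc V (Units.mk0 c hc0) * T * un ρ n * (sc V (Units.mk0 c hc0) * T)⁻¹
        = sc V (Units.mk0 c hc0) * (T * un ρ n * T⁻¹) * (sc V (Units.mk0 c hc0))⁻¹ := by group
      _ = T * un ρ n * T⁻¹ := by rw [sc_comm, mul_inv_cancel_right]
  · change dt V (sc V (Units.mk0 c hc0) * T) ^ N = 1
    rw [map_mul, dt_sc, hc1, inv_mul_cancel, one_pow]

theorem comm_of_sc {a b : Xi (un ρ) (dt V) N} {c : ℂˣ} (ha : p1 _ _ _ a = sc V c) (ha' : p2 _ _ _ a = 1) :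
    a * b = b * a := by
  apply ext12
  · rw [map_mul, map_mul, ha, sc_comm]
  · rw [map_mul, map_mul, ha', one_mul, mul_one]

end rep

section main

variable {X : Type u} [Group X] [Finite X] {S : Type v} [Group S] {π : X →* S} {s : ℕ} {V : Type} [AddCommGroup V]
  [Module ℂ V] [FiniteDimensional ℂ V]

/-- **the lifted triple in `Ξ`** -/
theorem exists_triple_Xi (hs : s.Prime) (hπ : Function.Surjective π) (hk : IsPGroup s π.ker)
    (hS : commutator S = ⊤) (ρ : Representation ℂ π.ker V) (hρ : ρ.IsIrreducible)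
    (hinv : ∀ (g : X) (n : π.ker), ρ.character (MulAut.conjNormal g n) = ρ.character n) {x y z : X}
    (hx : ¬ s ∣ orderOf x) (hy : ¬ s ∣ orderOf y) (hz : ¬ s ∣ orderOf z) (hC : CLift s (π x) (π y) (π z)) :
    ∃ A B C : Xi (un ρ) (dt V) (Nat.card π.ker), p2 _ _ _ A = x ∧ p2 _ _ _ B = y ∧ p2 _ _ _ C = z ∧
      A * B * C ∈ (diag (dt_un ρ)).range ∧ ¬ s ∣ orderOf A ∧ ¬ s ∣ orderOf B ∧ ¬ s ∣ orderOf C := by
  have : Fact s.Prime := ⟨hs⟩
  have hirr : ρ.IsIrreducible := hρ
  obtain ⟨k, hkc⟩ := IsPGroup.iff_card.1 hk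
  obtain ⟨l, -, hl⟩ := (Nat.dvd_prime_pow hs).1 (hkc ▸ Cfsg.Agent.Characters.DegreeBounds.finrank_dvd_card ρ)
  have hfin := finite_Xi ρ hρ (N := Nat.card π.ker) Nat.card_pos.ne'
  set Y := Xi (un ρ) (dt V) (Nat.card π.ker) with hY
  set D : Subgroup Y := (diag (dt_un ρ)).range with hD
  have hDs : IsPGroup s D := by
    rintro ⟨_, u, rfl⟩
    obtain ⟨j, hj⟩ := hk u
    refine ⟨j, Subtype.ext ?_⟩
    change diag (dt_un ρ) u ^ s ^ j = 1
    rw [← map_pow, hj, map_one]
  -- an element of the kernel of `Y → S`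
  have hker : ∀ a : Y, a ∈ (π.comp (p2 (un ρ) (dt V) (Nat.card π.ker))).ker → ∃ (u : π.ker) (b : Y) (c : ℂˣ),
      a = diag (dt_un ρ) u * b ∧ p1 _ _ _ b = sc V c ∧ p2 _ _ _ b = 1 ∧ b ^ s ^ (l + k) = 1 := by
    intro a ha
    let u : π.ker := ⟨p2 _ _ _ a, ha⟩
    have h2 : p2 _ _ _ ((diag (dt_un ρ) u)⁻¹ * a) = 1 := by
      rw [map_mul, map_inv, p2_diag, inv_mul_cancel]
    obtain ⟨c, hc, hc1⟩ := exists_sc_of_p2 ρ hρ h2
    refine ⟨u, (diag (dt_un ρ) u)⁻¹ * a, c, by rw [mul_inv_cancel_left], hc, h2, ?_⟩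
    apply ext12
    · rw [map_pow, hc, ← map_pow, map_one]
      have h3 : s ^ (l + k) = finrank ℂ V * Nat.card π.ker := by rw [hkc, hl, pow_add]
      rw [h3, hc1, map_one]
    · rw [map_pow, h2, one_pow, map_one]
  have hq : Function.Surjective (π.comp (p2 (un ρ) (dt V) (Nat.card π.ker))) := hπ.comp (p2_surjective ρ hρ hinv)
  obtain ⟨A, B, C, hA, hB, hC', hABC, oA, oB, oC⟩ := exists_triple hs hS hq (D := D) hDs (by
      rintro _ ⟨u, rfl⟩
      exact u.2) (by
      intro a ha b
      obtain ⟨u, b', c, rfl, hb1, hb2, -⟩ := hker a ha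
      have h1 : diag (dt_un ρ) u * b' * b * (diag (dt_un ρ) u * b')⁻¹ * b⁻¹ =
          diag (dt_un ρ) u * (b * diag (dt_un ρ) u⁻¹ * b⁻¹) := by
        have h2 : b' * b = b * b' := comm_of_sc ρ hb1 hb2
        calc diag (dt_un ρ) u * b' * b * (diag (dt_un ρ) u * b')⁻¹ * b⁻¹
            = diag (dt_un ρ) u * (b' * b) * b'⁻¹ * (diag (dt_un ρ) u)⁻¹ * b⁻¹ := by group
          _ = diag (dt_un ρ) u * (b * b') * b'⁻¹ * (diag (dt_un ρ) u)⁻¹ * b⁻¹ := by rw [h2]
          _ = diag (dt_un ρ) u * (b * diag (dt_un ρ) u⁻¹ * b⁻¹) := by rw [map_inv]; group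
      rw [h1, conj_diag, ← map_mul]
      exact ⟨_, rfl⟩) (by
      rintro ⟨a, ha⟩
      obtain ⟨u, b', c, rfl, hb1, hb2, hb3⟩ := hker a ha
      obtain ⟨j, hj⟩ := hk u
      refine ⟨j + (l + k), Subtype.ext ?_⟩
      change (diag (dt_un ρ) u * b') ^ s ^ (j + (l + k)) = 1
      have h2 : Commute (diag (dt_un ρ) u) b' := (comm_of_sc ρ hb1 hb2 (b := diag (dt_un ρ) u)).symm
      rw [h2.mul_pow, pow_add, pow_mul, ← map_pow, hj, map_one, one_pow, one_mul, mul_comm, pow_mul, hb3, one_pow]) hC
  -- the adjustment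
  have adj : ∀ (t : X) (T : Y), ¬ s ∣ orderOf t → ¬ s ∣ orderOf T → π (p2 _ _ _ T) = π t →
      ∃ T' : Y, p2 _ _ _ T' = t ∧ ¬ s ∣ orderOf T' ∧ (QuotientGroup.mk T' : Y ⧸ D) = QuotientGroup.mk T := by
    intro t T ht hT htT
    obtain ⟨e, he, hee⟩ := exists_conj hs hk (x := p2 _ _ _ T) (y := t)
      (fun h => hT (h.trans (orderOf_map_dvd _ T))) ht htT
    refine ⟨diag (dt_un ρ) ⟨e, he⟩ * T * (diag (dt_un ρ) ⟨e, he⟩)⁻¹, ?_, ?_, ?_⟩
    · rw [map_mul, map_mul, map_inv, p2_diag]
      exact hee
    · have h1 : diag (dt_un ρ) ⟨e, he⟩ * T * (diag (dt_un ρ) ⟨e, he⟩)⁻¹ =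
          MulAut.conj (diag (dt_un ρ) ⟨e, he⟩) T := rfl
      rwa [h1, MulEquiv.orderOf_eq]
    · have h1 : (QuotientGroup.mk (diag (dt_un ρ) ⟨e, he⟩) : Y ⧸ D) = 1 :=
        (QuotientGroup.eq_one_iff _).2 ⟨_, rfl⟩
      rw [QuotientGroup.mk_mul, QuotientGroup.mk_mul, QuotientGroup.mk_inv, h1, one_mul, inv_one, mul_one]
  obtain ⟨A', hA1, hA2, hA3⟩ := adj x A hx oA hA
  obtain ⟨B', hB1, hB2, hB3⟩ := adj y B hy oB hB
  obtain ⟨C', hC1, hC2, hC3⟩ := adj z C hz oC hC'
  refine ⟨A', B', C', hA1, hB1, hC1, ?_, hA2, hB2, hC2⟩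
  rw [← QuotientGroup.eq_one_iff] at hABC ⊢
  rw [QuotientGroup.mk_mul, QuotientGroup.mk_mul, hA3, hB3, hC3, ← QuotientGroup.mk_mul, ← QuotientGroup.mk_mul]
  exact hABC

end main

end Cfsg.Agent.H562.PQR.Lift
end

-- part: H562/PQR/LiftD
section
/-!
# S3988 (helper562), lifting lemma, part D: the sum `∑ χ(x^{e₁} y^{e₂} z^{e₃})` is real
-/

set_option autoImplicit false

namespace Cfsg.Agent.H562.PQR.Lift

open Module
open scoped ComplexConjugate

universe u v w

section zero

variable {X : Type u} [Group X] {P : Subgroup X} [hPn : P.Normal] [Fintype P] {V : Type} [AddCommGroup V] [Module ℂ V]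
  [FiniteDimensional ℂ V] (ρ : Representation ℂ P V)

omit [FiniteDimensional ℂ V] in
theorem intertwine (g : X) (u : P) : (∑ e : P, ρ e * ρ (MulAut.conjNormal g e⁻¹)) * ρ (MulAut.conjNormal g u) =
    ρ u * ∑ e : P, ρ e * ρ (MulAut.conjNormal g e⁻¹) := by
  rw [Finset.sum_mul, Finset.mul_sum]
  symm
  refine Fintype.sum_equiv (Equiv.mulLeft u) _ _ fun e => ?_
  change ρ u * (ρ e * ρ (MulAut.conjNormal g e⁻¹)) =
    ρ (u * e) * ρ (MulAut.conjNormal g (u * e)⁻¹) * ρ (MulAut.conjNormal g u)
  have h1 : MulAut.conjNormal g (u * e)⁻¹ * MulAut.conjNormal g u = MulAut.conjNormal g e⁻¹ := by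
    rw [← map_mul]
    congr 1
    group
  rw [mul_assoc (ρ (u * e)), ← map_mul ρ (MulAut.conjNormal g (u * e)⁻¹), h1, map_mul ρ u e, mul_assoc]

/-- the intertwiner of non-equivalent conjugates vanishes -/
theorem sum_eq_zero (hρ : ρ.IsIrreducible) (g : X)
    (h : ¬ ∀ n : P, ρ.character (MulAut.conjNormal g n) = ρ.character n) :
    ∑ e : P, ρ e * ρ (MulAut.conjNormal g e⁻¹) = 0 := by
  by_contra hT
  set T : Module.End ℂ V := ∑ e : P, ρ e * ρ (MulAut.conjNormal g e⁻¹) with hTd
  have hint := intertwine ρ g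
  rw [← hTd] at hint
  have hr := ((Cfsg.Agent.CharactersDeep.InvRep.isIrreducible_iff ρ).1 hρ).2 (LinearMap.range T) (by
    rintro u _ ⟨v, rfl⟩
    have h1 : ρ u (T v) = T (ρ (MulAut.conjNormal g u) v) := (LinearMap.congr_fun (hint u) v).symm
    rw [h1]
    exact LinearMap.mem_range_self _ _)
  rcases hr with hr | hr
  · exact hT (LinearMap.range_eq_bot.1 hr)
  have hu : IsUnit T := (LinearMap.isUnit_iff_range_eq_top T).2 hr
  obtain ⟨U, hU⟩ := hu
  refine h fun n => ?_
  have h1 := hint n
  rw [← hU] at h1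
  have h2 : ρ (MulAut.conjNormal g n) = ((U⁻¹ : (Module.End ℂ V)ˣ) : Module.End ℂ V) * ρ n * U := by
    rw [mul_assoc, ← h1, Units.inv_mul_cancel_left]
  change LinearMap.trace ℂ V (ρ (MulAut.conjNormal g n)) = LinearMap.trace ℂ V (ρ n)
  rw [h2, LinearMap.trace_mul_comm, ← mul_assoc, Units.mul_inv, one_mul]

/-- averages are scalars -/
theorem sum_conj (hρ : ρ.IsIrreducible) (M : Module.End ℂ V) :
    ∑ e : P, ρ e * M * ρ e⁻¹ = ((Nat.card P : ℂ) * LinearMap.trace ℂ V M / finrank ℂ V) • 1 := by
  have hV : Nontrivial V := ((Cfsg.Agent.CharactersDeep.InvRep.isIrreducible_iff ρ).1 hρ).1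
  have hd : (finrank ℂ V : ℂ) ≠ 0 := Nat.cast_ne_zero.2 finrank_pos.ne'
  obtain ⟨c, hc⟩ := Cfsg.Agent.CharactersDeep.InvRep.exists_smul_of_comm ρ hρ (∑ e : P, ρ e * M * ρ e⁻¹) (by
    intro g
    rw [Finset.sum_mul, Finset.mul_sum]
    symm
    refine Fintype.sum_equiv (Equiv.mulLeft g) _ _ fun e => ?_
    change ρ g * (ρ e * M * ρ e⁻¹) = ρ (g * e) * M * ρ (g * e)⁻¹ * ρ g
    have h1 : ρ (g * e)⁻¹ * ρ g = ρ e⁻¹ := by
      rw [← map_mul]
      congr 1
      group
    rw [mul_assoc (ρ (g * e) * M), h1, map_mul ρ g e]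
    simp only [mul_assoc])
  have h1 : LinearMap.trace ℂ V (∑ e : P, ρ e * M * ρ e⁻¹) = (Nat.card P : ℂ) * LinearMap.trace ℂ V M := by
    rw [map_sum]
    have h2 : ∀ e : P, LinearMap.trace ℂ V (ρ e * M * ρ e⁻¹) = LinearMap.trace ℂ V M := by
      intro e
      rw [LinearMap.trace_mul_comm, ← mul_assoc, ← map_mul, inv_mul_cancel, map_one, one_mul]
    rw [Finset.sum_congr rfl fun e _ => h2 e, Finset.sum_const, Finset.card_univ, Nat.card_eq_fintype_card, nsmul_eq_mul]
  rw [hc, map_smul, LinearMap.trace_one, smul_eq_mul] at h1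
  rw [hc, ← h1]
  congr 1
  field_simp

end zero

section real

variable {X : Type u} [Group X] {S : Type v} [Group S] {π : X →* S} {x y z : X}

/-- the product of the conjugates -/
def F (h : π x * π y * π z = 1) (e₁ e₂ e₃ : π.ker) : π.ker :=
  ⟨((e₁ : X) * x * (e₁ : X)⁻¹) * ((e₂ : X) * y * (e₂ : X)⁻¹) * ((e₃ : X) * z * (e₃ : X)⁻¹), by
    have h1 := MonoidHom.mem_ker.1 e₁.2
    have h2 := MonoidHom.mem_ker.1 e₂.2
    have h3 := MonoidHom.mem_ker.1 e₃.2
    rw [MonoidHom.mem_ker]
    simp only [map_mul, map_inv, h1, h2, h3, one_mul, inv_one, mul_one]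
    exact h⟩

theorem F_coe (h : π x * π y * π z = 1) (e₁ e₂ e₃ : π.ker) : (F h e₁ e₂ e₃ : X) =
    ((e₁ : X) * x * (e₁ : X)⁻¹) * ((e₂ : X) * y * (e₂ : X)⁻¹) * ((e₃ : X) * z * (e₃ : X)⁻¹) := rfl

variable [Fintype π.ker] {V : Type} [AddCommGroup V] [Module ℂ V] [FiniteDimensional ℂ V]
  (ρ : Representation ℂ π.ker V)

/-- the sum -/
noncomputable def Nsum (h : π x * π y * π z = 1) : ℂ :=
  ∑ e₁ : π.ker, ∑ e₂ : π.ker, ∑ e₃ : π.ker, ρ.character (F h e₁ e₂ e₃)

theorem Nsum_eq_zero_x (hρ : ρ.IsIrreducible) (h : π x * π y * π z = 1)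
    (hx : ¬ ∀ n : π.ker, ρ.character (MulAut.conjNormal x n) = ρ.character n) : Nsum ρ h = 0 := by
  unfold Nsum
  rw [Finset.sum_comm]
  refine Finset.sum_eq_zero fun e₂ _ => ?_
  rw [Finset.sum_comm]
  refine Finset.sum_eq_zero fun e₃ _ => ?_
  let v : π.ker := F h 1 e₂ e₃
  have h1 : ∀ e₁ : π.ker, ρ.character (F h e₁ e₂ e₃) =
      LinearMap.trace ℂ V (ρ e₁ * ρ (MulAut.conjNormal x e₁⁻¹) * ρ v) := by
    intro e₁
    rw [← map_mul, ← map_mul]
    change ρ.character _ = ρ.character _
    congr 1
    apply Subtype.ext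
    rw [Subgroup.coe_mul, Subgroup.coe_mul, MulAut.conjNormal_apply, F_coe, F_coe, Subgroup.coe_inv, Subgroup.coe_one]
    group
  rw [Finset.sum_congr rfl fun e _ => h1 e, ← map_sum, ← Finset.sum_mul, sum_eq_zero ρ hρ x hx, zero_mul, map_zero]

theorem Nsum_eq_zero_z (hρ : ρ.IsIrreducible) (h : π x * π y * π z = 1)
    (hz : ¬ ∀ n : π.ker, ρ.character (MulAut.conjNormal z n) = ρ.character n) : Nsum ρ h = 0 := by
  unfold Nsum
  refine Finset.sum_eq_zero fun e₁ _ => Finset.sum_eq_zero fun e₂ _ => ?_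
  let v : π.ker := F h e₁ e₂ 1
  have h1 : ∀ e : π.ker, ρ.character (F h e₁ e₂ (MulAut.conjNormal z e)) =
      LinearMap.trace ℂ V (ρ v * (ρ e * ρ (MulAut.conjNormal z e⁻¹))) := by
    intro e
    rw [← map_mul, ← map_mul]
    change ρ.character _ = ρ.character _
    congr 1
    apply Subtype.ext
    rw [Subgroup.coe_mul, Subgroup.coe_mul, MulAut.conjNormal_apply, F_coe, F_coe, MulAut.conjNormal_apply,
      Subgroup.coe_inv, Subgroup.coe_one]
    group
  have h2 : ∑ e : π.ker, ρ.character (F h e₁ e₂ e) = ∑ e : π.ker, ρ.character (F h e₁ e₂ (MulAut.conjNormal z e)) :=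
    (Fintype.sum_equiv (MulAut.conjNormal z : π.ker ≃* π.ker).toEquiv _ _ fun e => rfl).symm
  rw [h2, Finset.sum_congr rfl fun e _ => h1 e, ← map_sum, ← Finset.mul_sum, sum_eq_zero ρ hρ z hz, mul_zero, map_zero]

end real

end Cfsg.Agent.H562.PQR.Lift
end

-- part: H562/PQR/LiftE
section
/-!
# S3988 (helper562), lifting lemma, part E: the lifting lemma

`lift_of_clift` : `π : X → S` onto with kernel an `s`-group, `s` odd, `S` perfect, `x y z = 1` a generating triple of
`s'`-elements of `S` with `CLift s x y z`. Then `(x, y, z)` lifts to `s'`-elements with product one of `X`.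
-/

set_option autoImplicit false

namespace Cfsg.Agent.H562.PQR.Lift

open Module Cfsg
open scoped ComplexConjugate

universe u v w

section galois

/-- an automorphism of `ℂ` fixing the `s'`-roots of unity and inverting the `s`-power roots of unity -/
theorem exists_sigma {s : ℕ} (hs : s.Prime) {n : ℕ} (hn : n ≠ 0) : ∃ (σ : ℂ ≃+* ℂ) (m : ℕ),
    (∀ z : ℂ, z ^ n = 1 → σ z = z ^ m) ∧ (∀ (G : Type u) [Group G] (g : G), g ^ n = 1 → ¬ s ∣ orderOf g → g ^ m = g) ∧
      ∀ (G : Type u) [Group G] (g : G), g ^ n = 1 → (∃ k, g ^ s ^ k = 1) → g ^ m = g⁻¹ := by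
  obtain ⟨j, n', hn', hj⟩ := Nat.exists_eq_pow_mul_and_not_dvd hn s hs.ne_one
  have hco : Nat.Coprime n' (s ^ j) := (Nat.Coprime.pow_left j ((Nat.Prime.coprime_iff_not_dvd hs).2 hn')).symm
  have hsj : 0 < s ^ j := pow_pos hs.pos j
  obtain ⟨m, hm1, hm2⟩ := Nat.chineseRemainder hco 1 (s ^ j - 1)
  have hm3 : s ^ j ∣ m + 1 := by
    have h1 : m + 1 ≡ s ^ j - 1 + 1 [MOD s ^ j] := hm2.add_right 1
    rw [Nat.sub_add_cancel hsj] at h1
    exact (Nat.modEq_zero_iff_dvd).1 (h1.trans (by simp [Nat.ModEq]))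
  have hmc : m.Coprime n := by
    rw [hj]
    refine Nat.Coprime.mul_right ?_ ?_
    · have h1 : Nat.Coprime m (m + 1) := by simp
      exact Nat.Coprime.coprime_dvd_right hm3 h1
    · have h1 := hm1.gcd_eq
      rw [Nat.coprime_iff_gcd_eq_one, h1, Nat.gcd_one_left]
  obtain ⟨σ, hσ⟩ := Cfsg.Agent.Characters.Galois.exists_ringEquiv_complex hn hmc
  refine ⟨σ, m, hσ, ?_, ?_⟩
  · intro G _ g hg hsg
    have h1 : orderOf g ∣ n' := by
      have h2 : orderOf g ∣ s ^ j * n' := by rw [← hj]; exact orderOf_dvd_of_pow_eq_one hg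
      exact Nat.Coprime.dvd_of_dvd_mul_left (Nat.Coprime.pow_left j ((Nat.Prime.coprime_iff_not_dvd hs).2 hsg)).symm h2
    have h2 : m ≡ 1 [MOD orderOf g] := hm1.of_dvd h1
    rw [pow_eq_pow_iff_modEq.2 h2, pow_one]
  · rintro G _ g hg ⟨k, hk⟩
    have h1 : orderOf g ∣ s ^ j := by
      have h2 : orderOf g ∣ s ^ j * n' := by rw [← hj]; exact orderOf_dvd_of_pow_eq_one hg
      have h3 : orderOf g ∣ s ^ k := orderOf_dvd_of_pow_eq_one hk
      have h4 : Nat.Coprime (orderOf g) n' :=
        Nat.Coprime.coprime_dvd_left h3 (Nat.Coprime.pow_left k ((Nat.Prime.coprime_iff_not_dvd hs).2 hn'))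
      exact h4.dvd_of_dvd_mul_right h2
    have h2 : g ^ (m + 1) = 1 := orderOf_dvd_iff_pow_eq_one.1 (h1.trans hm3)
    rw [pow_succ] at h2
    exact eq_inv_of_mul_eq_one_left h2

end galois

section real

variable {X : Type u} [Group X] [Finite X] {S : Type v} [Group S] {π : X →* S} {x y z : X} {s : ℕ}
  [Fintype π.ker] {V : Type} [AddCommGroup V] [Module ℂ V] [FiniteDimensional ℂ V]

/-- **the invariant case** -/
theorem Nsum_real_of_inv (hs : s.Prime) (hπ : Function.Surjective π) (hk : IsPGroup s π.ker)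
    (hS : commutator S = ⊤) (ρ : Representation ℂ π.ker V) (hρ : ρ.IsIrreducible)
    (hinv : ∀ (g : X) (n : π.ker), ρ.character (MulAut.conjNormal g n) = ρ.character n)
    (hx : ¬ s ∣ orderOf x) (hy : ¬ s ∣ orderOf y) (hz : ¬ s ∣ orderOf z) (hC : CLift s (π x) (π y) (π z))
    (h : π x * π y * π z = 1) : conj (Nsum ρ h) = Nsum ρ h := by
  have hfin := finite_Xi ρ hρ (N := Nat.card π.ker) Nat.card_pos.ne'
  obtain ⟨A, B, C, hA, hB, hC', hABC, oA, oB, oC⟩ := exists_triple_Xi hs hπ hk hS ρ hρ hinv hx hy hz hC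
  let R : Representation ℂ (Xi (un ρ) (dt V) (Nat.card π.ker)) V := (Units.coeHom (Module.End ℂ V)).comp (p1 (un ρ) (dt V) (Nat.card π.ker))
  have hR : ∀ u : π.ker, R (diag (dt_un ρ) u) = ρ u := fun u => rfl
  obtain ⟨σ, m, hσ, hσ1, hσ2⟩ := exists_sigma hs (n := Nat.card (Xi (un ρ) (dt V) (Nat.card π.ker))) Nat.card_pos.ne'
  have hpow : ∀ g : Xi (un ρ) (dt V) (Nat.card π.ker), g ^ Nat.card (Xi (un ρ) (dt V) (Nat.card π.ker)) = 1 := fun g => pow_card_eq_one'
  have hchar := fun g : Xi (un ρ) (dt V) (Nat.card π.ker) => Cfsg.Agent.Characters.Galois.map_character (σ : ℂ →+* ℂ)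
    (n := Nat.card (Xi (un ρ) (dt V) (Nat.card π.ker))) Nat.card_pos.ne' (m := m) hσ R g (hpow g)
  -- on the kernel
  have hker : ∀ u : π.ker, σ (ρ.character u) = conj (ρ.character u) := by
    intro u
    have h1 := hchar (diag (dt_un ρ) u)
    obtain ⟨j, hj⟩ := hk u
    rw [hσ2 _ (diag (dt_un ρ) u) (hpow _) ⟨j, by rw [← map_pow, hj, map_one]⟩, ← map_inv] at h1
    have h2 : ρ.character u⁻¹ = conj (ρ.character u) :=
      Cfsg.Agent.Characters.Core.isCharacter_apply_inv (Cfsg.Agent.Characters.Core.isCharacter_of_rep ρ) u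
    rw [← h2]
    exact h1
  -- on the `s'`-elements
  have hreg : ∀ g : Xi (un ρ) (dt V) (Nat.card π.ker), ¬ s ∣ orderOf g → σ (R.character g) = R.character g := by
    intro g hg
    have h1 := hchar g
    rw [hσ1 _ g (hpow _) hg] at h1
    exact h1
  -- the elements `F`
  have hF : ∀ e₁ e₂ e₃ : π.ker, ρ (F h e₁ e₂ e₃) =
      (ρ e₁ * R A * ρ e₁⁻¹) * (ρ e₂ * R B * ρ e₂⁻¹) * (ρ e₃ * R C * ρ e₃⁻¹) := by
    intro e₁ e₂ e₃
    let E := diag (dt_un ρ)
    have hmk : ∀ e : π.ker, (QuotientGroup.mk (E e) : Xi (un ρ) (dt V) (Nat.card π.ker) ⧸ E.range) = 1 := fun e =>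
      (QuotientGroup.eq_one_iff _).2 ⟨e, rfl⟩
    have h1 : E e₁ * A * E e₁⁻¹ * (E e₂ * B * E e₂⁻¹) * (E e₃ * C * E e₃⁻¹) ∈ E.range := by
      rw [← QuotientGroup.eq_one_iff] at hABC ⊢
      simp only [QuotientGroup.mk_mul, hmk, one_mul, mul_one]
      rw [← QuotientGroup.mk_mul, ← QuotientGroup.mk_mul]
      exact hABC
    obtain ⟨u, hu⟩ := h1
    have h2 : u = F h e₁ e₂ e₃ := by
      apply Subtype.ext
      have h3 := congrArg (p2 (un ρ) (dt V) (Nat.card π.ker)) hu
      simp only [map_mul, hA, hB, hC'] at h3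
      exact h3
    rw [h2] at hu
    have h3 := congrArg R hu
    simp only [map_mul] at h3
    exact h3
  set a : ℂ := (Nat.card π.ker : ℂ) * LinearMap.trace ℂ V (R A) / finrank ℂ V with ha
  set b : ℂ := (Nat.card π.ker : ℂ) * LinearMap.trace ℂ V (R B) / finrank ℂ V with hb
  set c : ℂ := (Nat.card π.ker : ℂ) * LinearMap.trace ℂ V (R C) / finrank ℂ V with hc
  have hN : Nsum ρ h = a * b * c * finrank ℂ V := by
    have h1 : Nsum ρ h = LinearMap.trace ℂ V ((∑ e : π.ker, ρ e * R A * ρ e⁻¹) * (∑ e : π.ker, ρ e * R B * ρ e⁻¹) *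
        (∑ e : π.ker, ρ e * R C * ρ e⁻¹)) := by
      unfold Nsum
      rw [Finset.sum_mul, Finset.sum_mul, map_sum]
      refine Finset.sum_congr rfl fun e₁ _ => ?_
      rw [mul_assoc, Finset.sum_mul, Finset.mul_sum, map_sum]
      refine Finset.sum_congr rfl fun e₂ _ => ?_
      rw [← mul_assoc, Finset.mul_sum, map_sum]
      refine Finset.sum_congr rfl fun e₃ _ => ?_
      rw [← hF]
      rfl
    rw [h1, sum_conj ρ hρ, sum_conj ρ hρ, sum_conj ρ hρ, ← ha, ← hb, ← hc, smul_mul_smul_comm, smul_mul_smul_comm,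
      one_mul, one_mul, map_smul, LinearMap.trace_one, smul_eq_mul]
  have hσN : σ (Nsum ρ h) = Nsum ρ h := by
    have hA1 : σ (LinearMap.trace ℂ V (R A)) = LinearMap.trace ℂ V (R A) := hreg A oA
    have hB1 : σ (LinearMap.trace ℂ V (R B)) = LinearMap.trace ℂ V (R B) := hreg B oB
    have hC1 : σ (LinearMap.trace ℂ V (R C)) = LinearMap.trace ℂ V (R C) := hreg C oC
    rw [hN, ha, hb, hc]
    simp only [map_mul, map_div₀, map_natCast, hA1, hB1, hC1]
  have hσN' : σ (Nsum ρ h) = conj (Nsum ρ h) := by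
    unfold Nsum
    simp only [map_sum, hker]
  rw [← hσN', hσN]

/-- **the sum is real** -/
theorem Nsum_real (hs : s.Prime) (hπ : Function.Surjective π) (hk : IsPGroup s π.ker)
    (hS : commutator S = ⊤) (ρ : Representation ℂ π.ker V) (hρ : ρ.IsIrreducible)
    (hx : ¬ s ∣ orderOf x) (hy : ¬ s ∣ orderOf y) (hz : ¬ s ∣ orderOf z) (hC : CLift s (π x) (π y) (π z))
    (h : π x * π y * π z = 1) (hgen : Subgroup.closure ({π x, π y, π z} : Set S) = ⊤) :
    conj (Nsum ρ h) = Nsum ρ h := by
  by_cases hix : ∀ n : π.ker, ρ.character (MulAut.conjNormal x n) = ρ.character n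
  swap
  · rw [Nsum_eq_zero_x ρ hρ h hix, map_zero]
  by_cases hiz : ∀ n : π.ker, ρ.character (MulAut.conjNormal z n) = ρ.character n
  swap
  · rw [Nsum_eq_zero_z ρ hρ h hiz, map_zero]
  refine Nsum_real_of_inv hs hπ hk hS ρ hρ ?_ hx hy hz hC h
  let I : Subgroup X :=
    { carrier := {g | ∀ n : π.ker, ρ.character (MulAut.conjNormal g n) = ρ.character n}
      mul_mem' := by
        intro a b ha hb n
        rw [map_mul, MulAut.mul_apply, ha, hb]
      one_mem' := fun n => by rw [map_one, MulAut.one_apply]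
      inv_mem' := by
        intro a ha n
        rw [← ha (MulAut.conjNormal a⁻¹ n), ← MulAut.mul_apply, ← map_mul, mul_inv_cancel, map_one, MulAut.one_apply] }
  have hkI : π.ker ≤ I := by
    intro g hg n
    have h1 : MulAut.conjNormal g n = (⟨g, hg⟩ : π.ker) * n * (⟨g, hg⟩ : π.ker)⁻¹ := by
      apply Subtype.ext
      rw [MulAut.conjNormal_apply]
      rfl
    rw [h1]
    exact ρ.char_conj n ⟨g, hg⟩
  have hxI : x ∈ I := hix
  have hzI : z ∈ I := hiz
  have hyI : y ∈ I := by
    have h1 : x * y * z ∈ π.ker := by rw [MonoidHom.mem_ker, map_mul, map_mul, h]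
    have h2 : y = x⁻¹ * (x * y * z) * z⁻¹ := by group
    rw [h2]
    exact mul_mem (mul_mem (inv_mem hxI) (hkI h1)) (inv_mem hzI)
  have hmap : I.map π = ⊤ := by
    rw [eq_top_iff, ← hgen, Subgroup.closure_le]
    rintro t ht
    rcases ht with rfl | rfl | rfl
    · exact ⟨x, hxI, rfl⟩
    · exact ⟨y, hyI, rfl⟩
    · exact ⟨z, hzI, rfl⟩
  intro g
  have h1 : π g ∈ I.map π := by rw [hmap]; trivial
  obtain ⟨g', hg', h2⟩ := h1
  have h3 : g * g'⁻¹ ∈ π.ker := by rw [MonoidHom.mem_ker, map_mul, map_inv, h2, mul_inv_cancel]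
  have h4 := mul_mem (hkI h3) hg'
  rw [inv_mul_cancel_right] at h4
  exact h4

end real

end Cfsg.Agent.H562.PQR.Lift
end

-- part: H410/PQR/Red
section
/-!
# S3988: the reduction (helper410)

* `not_triple` : a `p`-solvable group has no triple `x y z = 1` of nontrivial elements of `a`-, `b`-, `c`-power orders
  with `p ∈ {a, b, c}` (pairwise distinct primes).
* `lift_all` : a triple of a perfect group `S` which generates `S` lifts to every extension of `S` by a nilpotent group
  (of order divisible only by primes dividing `|S|`), if it lifts centrally (`CLift`) and `LiftStmt` holds.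
* `reduce` : the theorem of S3988 from the rows of all nonabelian simple groups and `LiftStmt`.
-/

set_option autoImplicit false
set_option linter.unusedSectionVars false

namespace Cfsg.Agent.H410.PQR

open Cfsg.Agent.H562.PQR
open scoped commutatorElement
open Cfsg.Agent.KantorSeitz (pP pR mem_pP mem_pR exists_mul_parts pP_conj pR_conj)

universe u v

/-- **the lifting statement** (PQR-LIFT) -/
def LiftStmt : Prop :=
  ∀ (s : ℕ), s.Prime → s ≠ 2 → ∀ (X S : Type u) [Group X] [Finite X] [Group S] [Finite S] (π : X →* S),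
    Function.Surjective π → IsPGroup s π.ker → commutator S = ⊤ → ∀ x y z : S, ¬ s ∣ orderOf x → ¬ s ∣ orderOf y →
    ¬ s ∣ orderOf z → x * y * z = 1 → Subgroup.closure ({x, y, z} : Set S) = ⊤ → CLift s x y z →
    ∃ x' y' z' : X, π x' = x ∧ π y' = y ∧ π z' = z ∧ x' * y' * z' = 1 ∧
      ¬ s ∣ orderOf x' ∧ ¬ s ∣ orderOf y' ∧ ¬ s ∣ orderOf z'

section noTriple

variable {G : Type u} [Group G]

theorem mem_of_coprime {H K : Subgroup G} [H.Normal] {y : G} (hy : y ∈ K) {m : ℕ} (hm : y ^ m = 1)
    (hc : Nat.Coprime (H.relIndex K) m) : y ∈ H := by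
  have h1 : (⟨y, hy⟩ : K) ^ (H.subgroupOf K).index ∈ H.subgroupOf K := Subgroup.pow_index_mem _ _
  have h2 : y ^ H.relIndex K ∈ H := h1
  have h3 : y ^ m ∈ H := by rw [hm]; exact H.one_mem
  have h4 : (QuotientGroup.mk y : G ⧸ H) ^ H.relIndex K = 1 := by
    rw [← QuotientGroup.mk_pow, QuotientGroup.eq_one_iff]; exact h2
  have h5 : (QuotientGroup.mk y : G ⧸ H) ^ m = 1 := by
    rw [← QuotientGroup.mk_pow, QuotientGroup.eq_one_iff]; exact h3
  have h6 := pow_gcd_eq_one.2 ⟨h4, h5⟩
  rw [hc, pow_one, QuotientGroup.eq_one_iff] at h6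
  exact h6

theorem not_triple_aux {p b c : ℕ} [hp : Fact p.Prime] (h : Cfsg.IsPSolvable p G)
    (hb : b.Prime) (hc : c.Prime) (hab : p ≠ b) (hac : p ≠ c) (hbc : b ≠ c) {x y z : G} (hx : PE p x) (hy : PE b y)
    (hz : PE c z) (h1 : x * y * z = 1) : False := by
  obtain ⟨n, H, h0, hlast, -, hnorm, hfac⟩ := h
  obtain ⟨hx1, i, hi⟩ := hx
  obtain ⟨-, j, hj⟩ := hy
  obtain ⟨-, k, hk⟩ := hz
  have hxi : x ^ p ^ i = 1 := by rw [← hi, pow_orderOf_eq_one]
  have hyj : y ^ b ^ j = 1 := by rw [← hj, pow_orderOf_eq_one]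
  have hzk : z ^ c ^ k = 1 := by rw [← hk, pow_orderOf_eq_one]
  have key : ∀ l : Fin (n + 1), x ∈ H l ∧ y ∈ H l ∧ z ∈ H l := by
    intro l
    induction l using Fin.reverseInduction with
    | last => rw [hlast]; exact ⟨trivial, trivial, trivial⟩
    | cast l ih =>
      obtain ⟨ihx, ihy, ihz⟩ := ih
      have := hnorm l.castSucc
      rcases hfac l with ⟨m, hm⟩ | hm
      · have hy' : y ∈ H l.castSucc := mem_of_coprime ihy hyj (by
          rw [hm]; exact Nat.Coprime.pow _ _ ((Nat.coprime_primes hp.out hb).2 hab))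
        have hz' : z ∈ H l.castSucc := mem_of_coprime ihz hzk (by
          rw [hm]; exact Nat.Coprime.pow _ _ ((Nat.coprime_primes hp.out hc).2 hac))
        refine ⟨?_, hy', hz'⟩
        have h2 : x = (y * z)⁻¹ := eq_inv_of_mul_eq_one_left (by rw [← mul_assoc]; exact h1)
        rw [h2]
        exact inv_mem (mul_mem hy' hz')
      · have hx' : x ∈ H l.castSucc := mem_of_coprime ihx hxi (Nat.Coprime.pow_right _ hm)
        -- modulo `H l`, `y = z⁻¹`
        have h2 : y * z ∈ H l.castSucc := by
          have h3 : y * z = x⁻¹ := eq_inv_of_mul_eq_one_right (by rw [← mul_assoc]; exact h1)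
          rw [h3]
          exact inv_mem hx'
        have h3 : (QuotientGroup.mk y : G ⧸ H l.castSucc) = (QuotientGroup.mk z)⁻¹ := by
          rw [eq_inv_iff_mul_eq_one, ← QuotientGroup.mk_mul, QuotientGroup.eq_one_iff]
          exact h2
        have h4 : (QuotientGroup.mk y : G ⧸ H l.castSucc) ^ b ^ j = 1 := by
          rw [← QuotientGroup.mk_pow, hyj, QuotientGroup.mk_one]
        have h5 : (QuotientGroup.mk y : G ⧸ H l.castSucc) ^ c ^ k = 1 := by
          rw [h3, inv_pow, ← QuotientGroup.mk_pow, hzk, QuotientGroup.mk_one, inv_one]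
        have h6 := pow_gcd_eq_one.2 ⟨h4, h5⟩
        rw [Nat.Coprime.gcd_eq_one (Nat.Coprime.pow _ _ ((Nat.coprime_primes hb hc).2 hbc)), pow_one] at h6
        have h7 : (QuotientGroup.mk z : G ⧸ H l.castSucc) = 1 := by
          rw [h6] at h3
          exact inv_eq_one.1 h3.symm
        exact ⟨hx', (QuotientGroup.eq_one_iff _).1 h6, (QuotientGroup.eq_one_iff _).1 h7⟩
  have h2 := (key 0).1
  rw [h0, Subgroup.mem_bot] at h2
  exact hx1 h2

theorem rot {x y z : G} (h : x * y * z = 1) : y * z * x = 1 := by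
  have h8 : y * z = x⁻¹ := eq_inv_of_mul_eq_one_right (by rw [← mul_assoc]; exact h)
  rw [h8, inv_mul_cancel]

/-- **a `p`-solvable group has no triple** -/
theorem not_triple {p a b c : ℕ} [hp : Fact p.Prime] (h : Cfsg.IsPSolvable p G) (ha : a.Prime)
    (hb : b.Prime) (hc : c.Prime) (hab : a ≠ b) (hac : a ≠ c) (hbc : b ≠ c) (hpd : p = a ∨ p = b ∨ p = c) {x y z : G}
    (hx : PE a x) (hy : PE b y) (hz : PE c z) (h1 : x * y * z = 1) : False := by
  rcases hpd with rfl | rfl | rfl
  · exact not_triple_aux h hb hc hab hac hbc hx hy hz h1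
  · exact not_triple_aux h hc ha hbc hab.symm hac.symm hy hz hx (rot h1)
  · exact not_triple_aux h ha hb hac.symm hbc.symm hab hz hx hy (rot (rot h1))

end noTriple

section lift

variable {X : Type u} [Group X] [Finite X] {S : Type u} [Group S] [Finite S] {a b c : ℕ}

/-- the triple lifts -/
def Lifts (a b c : ℕ) (π : X →* S) (x y z : S) : Prop :=
  ∃ x' y' z' : X, π x' = x ∧ π y' = y ∧ π z' = z ∧ x' * y' * z' = 1 ∧ (∃ k, x' ^ a ^ k = 1) ∧
    (∃ k, y' ^ b ^ k = 1) ∧ (∃ k, z' ^ c ^ k = 1)

theorem Lifts.rot {π : X →* S} {x y z : S} (h : Lifts a b c π x y z) : Lifts b c a π y z x := by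
  obtain ⟨x', y', z', h1, h2, h3, h4, h5, h6, h7⟩ := h
  exact ⟨y', z', x', h2, h3, h1, PQR.rot h4, h6, h7, h5⟩

theorem exists_lift (hb : b.Prime) {π : X →* S} (hπ : Function.Surjective π) {y : S} (hy : PE b y) :
    ∃ y' : X, π y' = y ∧ ∃ k, y' ^ b ^ k = 1 := by
  obtain ⟨-, k, hk⟩ := hy
  obtain ⟨y₀, hy₀⟩ := hπ y
  obtain ⟨j, m, hm, hj⟩ := Nat.exists_eq_pow_mul_and_not_dvd (orderOf_pos y₀).ne' b hb.ne_one
  have hco : Nat.Coprime (b ^ j) m := Nat.Coprime.pow_left j ((Nat.Prime.coprime_iff_not_dvd hb).2 hm)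
  obtain ⟨t, ht1, ht2⟩ := Nat.chineseRemainder hco 1 0
  have hd : orderOf y ∣ b ^ j := by
    have h1 : orderOf y ∣ orderOf y₀ := by rw [← hy₀]; exact orderOf_map_dvd π y₀
    rw [hj] at h1
    refine Nat.Coprime.dvd_of_dvd_mul_right ?_ h1
    rw [hk]
    exact Nat.Coprime.pow_left k ((Nat.Prime.coprime_iff_not_dvd hb).2 hm)
  refine ⟨y₀ ^ t, ?_, j, ?_⟩
  · rw [map_pow, hy₀]
    have h2 : t ≡ 1 [MOD orderOf y] := ht1.of_dvd hd
    rw [pow_eq_pow_iff_modEq.2 h2, pow_one]
  · rw [← pow_mul]
    apply orderOf_dvd_iff_pow_eq_one.1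
    rw [hj, mul_comm]
    exact Nat.mul_dvd_mul_right ((Nat.modEq_zero_iff_dvd).1 ht2) _

theorem lifts_of_ker_a (hb : b.Prime) (hc : c.Prime) {π : X →* S} (hπ : Function.Surjective π)
    (hk : IsPGroup a π.ker) {x y z : S} (hx : PE a x) (hy : PE b y) (hz : PE c z) (h1 : x * y * z = 1) :
    Lifts a b c π x y z := by
  obtain ⟨y', hy', hy1⟩ := exists_lift hb hπ hy
  obtain ⟨z', hz', hz1⟩ := exists_lift hc hπ hz
  have hx' : π (y' * z')⁻¹ = x := by
    rw [map_inv, map_mul, hy', hz']
    exact (eq_inv_of_mul_eq_one_left (by rw [← mul_assoc]; exact h1)).symm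
  refine ⟨(y' * z')⁻¹, y', z', hx', hy', hz', by group, ?_, hy1, hz1⟩
  obtain ⟨-, i, hi⟩ := hx
  have h2 : ((y' * z')⁻¹) ^ a ^ i ∈ π.ker := by
    rw [MonoidHom.mem_ker, map_pow, hx', ← hi, pow_orderOf_eq_one]
  obtain ⟨j, hj⟩ := hk ⟨_, h2⟩
  refine ⟨i + j, ?_⟩
  rw [pow_add, pow_mul]
  exact congrArg Subtype.val hj

theorem exists_of_not_dvd {s : ℕ} (hs : s.Prime) {π : X →* S} (hk : IsPGroup s π.ker) {x' : X}
    (h : ¬ s ∣ orderOf x') (hx : PE a (π x')) : ∃ k, x' ^ a ^ k = 1 := by
  obtain ⟨-, k, h1⟩ := hx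
  refine ⟨k, ?_⟩
  rw [← h1, orderOf_eq_of_not_dvd hs hk h, pow_orderOf_eq_one]

/-- **gluing** -/
theorem Lifts.glue {π : X →* S} {K₁ K₂ : Subgroup X} [K₁.Normal] [K₂.Normal] (h₁ : K₁ ≤ π.ker) (h₂ : K₂ ≤ π.ker)
    (hinf : ∀ x, x ∈ K₁ → x ∈ K₂ → x = 1) (hsup : ∀ x ∈ π.ker, ∃ y ∈ K₁, ∃ z ∈ K₂, x = y * z) {x y z : S}
    (H₁ : Lifts a b c (QuotientGroup.lift K₁ π h₁) x y z) (H₂ : Lifts a b c (QuotientGroup.lift K₂ π h₂) x y z) :
    Lifts a b c π x y z := by
  have crt : ∀ (t : ℕ) (w : S) (w₁ : X ⧸ K₁) (w₂ : X ⧸ K₂), QuotientGroup.lift K₁ π h₁ w₁ = w →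
      QuotientGroup.lift K₂ π h₂ w₂ = w → (∃ k, w₁ ^ t ^ k = 1) → (∃ k, w₂ ^ t ^ k = 1) →
      ∃ g : X, (QuotientGroup.mk g : X ⧸ K₁) = w₁ ∧ (QuotientGroup.mk g : X ⧸ K₂) = w₂ ∧ π g = w ∧
        ∃ k, g ^ t ^ k = 1 := by
    rintro t w w₁ w₂ e₁ e₂ ⟨k₁, hk₁⟩ ⟨k₂, hk₂⟩
    obtain ⟨g₁, rfl⟩ := QuotientGroup.mk_surjective w₁
    obtain ⟨g₂, rfl⟩ := QuotientGroup.mk_surjective w₂
    have e₁' : π g₁ = w := e₁
    have e₂' : π g₂ = w := e₂
    obtain ⟨m₁, hm₁, m₂, hm₂, hm⟩ := hsup (g₁⁻¹ * g₂) (by
      rw [MonoidHom.mem_ker, map_mul, map_inv, e₁', e₂', inv_mul_cancel])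
    have hg1 : (QuotientGroup.mk (g₁ * m₁) : X ⧸ K₁) = QuotientGroup.mk g₁ :=
      QuotientGroup.mk_mul_of_mem g₁ hm₁
    have hg2 : (QuotientGroup.mk (g₁ * m₁) : X ⧸ K₂) = QuotientGroup.mk g₂ := by
      have h3 : g₂ = g₁ * m₁ * m₂ := by rw [mul_assoc, ← hm]; group
      rw [h3]
      exact (QuotientGroup.mk_mul_of_mem _ hm₂).symm
    refine ⟨g₁ * m₁, hg1, hg2, ?_, k₁ + k₂, ?_⟩
    · rw [map_mul, e₁', MonoidHom.mem_ker.1 (h₁ hm₁), mul_one]
    · apply hinf
      · rw [← QuotientGroup.eq_one_iff, QuotientGroup.mk_pow, hg1, pow_add, pow_mul, hk₁, one_pow]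
      · rw [← QuotientGroup.eq_one_iff, QuotientGroup.mk_pow, hg2, pow_add, mul_comm, pow_mul, hk₂, one_pow]
  obtain ⟨x₁, y₁, z₁, hx₁, hy₁, hz₁, hp₁, ox₁, oy₁, oz₁⟩ := H₁
  obtain ⟨x₂, y₂, z₂, hx₂, hy₂, hz₂, hp₂, ox₂, oy₂, oz₂⟩ := H₂
  obtain ⟨x', hx1, hx2, hx3, hx4⟩ := crt a x x₁ x₂ hx₁ hx₂ ox₁ ox₂
  obtain ⟨y', hy1, hy2, hy3, hy4⟩ := crt b y y₁ y₂ hy₁ hy₂ oy₁ oy₂
  obtain ⟨z', hz1, hz2, hz3, hz4⟩ := crt c z z₁ z₂ hz₁ hz₂ oz₁ oz₂
  refine ⟨x', y', z', hx3, hy3, hz3, ?_, hx4, hy4, hz4⟩
  apply hinf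
  · rw [← QuotientGroup.eq_one_iff, QuotientGroup.mk_mul, QuotientGroup.mk_mul, hx1, hy1, hz1, hp₁]
  · rw [← QuotientGroup.eq_one_iff, QuotientGroup.mk_mul, QuotientGroup.mk_mul, hx2, hy2, hz2, hp₂]

/-- **the lifting theorem** -/
theorem lift_all (hL : LiftStmt.{u}) (hS : commutator S = ⊤) (ha : a.Prime) (hb : b.Prime) (hc : c.Prime)
    (h2 : 2 = a ∨ 2 = b ∨ 2 = c) {x y z : S} (hx : PE a x) (hy : PE b y) (hz : PE c z) (h1 : x * y * z = 1)
    (hgen : Subgroup.closure ({x, y, z} : Set S) = ⊤)
    (hC : ∀ s : ℕ, s.Prime → s ≠ 2 → s ≠ a → s ≠ b → s ≠ c → s ∣ Nat.card S → CLift s x y z) :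
    ∀ (n : ℕ) (X : Type u) [Group X] [Finite X] (π : X →* S), Nat.card X = n → Function.Surjective π →
      Group.IsNilpotent π.ker → (∀ s : ℕ, s.Prime → s ∣ Nat.card π.ker → s ∣ Nat.card S) → Lifts a b c π x y z := by
  intro n
  induction n using Nat.strong_induction_on with
  | _ n ih =>
    intro X _ _ π hn hπ hnil hpr
    by_cases hbot : Nat.card π.ker = 1
    · exact lifts_of_ker_a hb hc hπ (IsPGroup.of_card (n := 0) (by rw [hbot, pow_zero])) hx hy hz h1
    obtain ⟨s, hs, hsd⟩ := Nat.exists_prime_and_dvd hbot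
    have : Fact s.Prime := ⟨hs⟩
    -- the two parts of the kernel
    have hN₁ : (pP s π.ker).Normal := ⟨fun n hn g => pP_conj (fun x hx => (inferInstance : π.ker.Normal).conj_mem x hx g) hn⟩
    have hN₂ : (pR s π.ker).Normal := ⟨fun n hn g => pR_conj (fun x hx => (inferInstance : π.ker.Normal).conj_mem x hx g) hn⟩
    have hle₁ : pP s π.ker ≤ π.ker := fun x hx => ((mem_pP hnil).1 hx).1
    have hle₂ : pR s π.ker ≤ π.ker := fun x hx => ((mem_pR hnil).1 hx).1
    by_cases h3 : pR s π.ker = ⊥
    · -- the kernel is an `s`-group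
      have hk : IsPGroup s π.ker := by
        rintro ⟨g, hg⟩
        obtain ⟨u, hu, w, hw, h4, -⟩ := exists_mul_parts (p := s) hg
        rw [h3, Subgroup.mem_bot] at hw
        obtain ⟨-, k, hk⟩ := (mem_pP hnil).1 hu
        refine ⟨k, Subtype.ext ?_⟩
        change g ^ s ^ k = 1
        rw [h4, hw, mul_one, hk]
      by_cases hsa : s = a
      · subst hsa
        exact lifts_of_ker_a hb hc hπ hk hx hy hz h1
      by_cases hsb : s = b
      · subst hsb
        exact (lifts_of_ker_a hc ha hπ hk hy hz hx (PQR.rot h1)).rot.rot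
      by_cases hsc : s = c
      · subst hsc
        exact (lifts_of_ker_a ha hb hπ hk hz hx hy (PQR.rot (PQR.rot h1))).rot
      have hs2 : s ≠ 2 := by
        rintro rfl
        rcases h2 with h | h | h
        · exact hsa h
        · exact hsb h
        · exact hsc h
      obtain ⟨x', y', z', e1, e2, e3, e4, e5, e6, e7⟩ := hL s hs hs2 X S π hπ hk hS x y z (hx.not_dvd ha hs hsa)
        (hy.not_dvd hb hs hsb) (hz.not_dvd hc hs hsc) h1 hgen (hC s hs hs2 hsa hsb hsc (hpr s hs hsd))
      refine ⟨x', y', z', e1, e2, e3, e4, exists_of_not_dvd hs hk e5 (by rwa [e1]),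
        exists_of_not_dvd hs hk e6 (by rwa [e2]), exists_of_not_dvd hs hk e7 (by rwa [e3])⟩
    · have h4 : pP s π.ker ≠ ⊥ := by
        intro h5
        obtain ⟨g, hg⟩ := exists_prime_orderOf_dvd_card' s hsd
        have h6 : (g : X) ∈ pP s π.ker := (mem_pP hnil).2 ⟨g.2, 1, by
          have h7 : g ^ s = 1 := by rw [← hg, pow_orderOf_eq_one]
          rw [pow_one]
          exact congrArg Subtype.val h7⟩
        rw [h5, Subgroup.mem_bot] at h6
        have h7 : g = 1 := Subtype.ext h6
        rw [h7, orderOf_one] at hg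
        exact hs.one_lt.ne hg
      -- the quotients
      have quo : ∀ (K : Subgroup X) [K.Normal] (hK : K ≤ π.ker), K ≠ ⊥ →
          Lifts a b c (QuotientGroup.lift K π hK) x y z := by
        intro K _ hK hKb
        have hlt : Nat.card (X ⧸ K) < n := by
          rw [← hn, Subgroup.card_eq_card_quotient_mul_card_subgroup K]
          have h5 : 1 < Nat.card K := by
            have h6 : Nat.card K ≠ 1 := fun h7 => hKb (Subgroup.card_eq_one.1 h7)
            have h8 : 0 < Nat.card K := Nat.card_pos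
            omega
          exact lt_mul_of_one_lt_right Nat.card_pos h5
        let f : π.ker →* (QuotientGroup.lift K π hK).ker :=
          ((QuotientGroup.mk' K).comp π.ker.subtype).codRestrict _ (fun g => by
            rw [MonoidHom.mem_ker]
            exact MonoidHom.mem_ker.1 g.2)
        have hf : Function.Surjective f := by
          rintro ⟨w, hw⟩
          obtain ⟨g, rfl⟩ := QuotientGroup.mk_surjective w
          have hg : π g = 1 := MonoidHom.mem_ker.1 hw
          exact ⟨⟨g, MonoidHom.mem_ker.2 hg⟩, rfl⟩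
        refine ih _ hlt (X ⧸ K) (QuotientGroup.lift K π hK) rfl ?_ ?_ ?_
        · intro t
          obtain ⟨g, hg⟩ := hπ t
          exact ⟨QuotientGroup.mk g, hg⟩
        · exact Group.nilpotent_of_surjective f hf
        · intro r hr hrd
          exact hpr r hr (hrd.trans (Subgroup.card_dvd_of_surjective f hf))
      refine Lifts.glue hle₁ hle₂ ?_ ?_ (quo _ hle₁ h4) (quo _ hle₂ h3)
      · intro g hg1 hg2
        obtain ⟨-, k, hk⟩ := (mem_pP hnil).1 hg1
        obtain ⟨-, h5⟩ := (mem_pR hnil).1 hg2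
        have h6 : orderOf g ∣ s ^ k := orderOf_dvd_of_pow_eq_one hk
        have h7 : orderOf g = 1 := Nat.Coprime.eq_one_of_dvd (Nat.Coprime.pow_right k h5) h6
        exact orderOf_eq_one_iff.1 h7
      · intro g hg
        obtain ⟨u, hu, w, hw, h4, -⟩ := exists_mul_parts (p := s) hg
        exact ⟨u, hu, w, hw, h4⟩

end lift

section reduction

/-- no triple (the condition of S3988) -/
def NT (p : ℕ) (G : Type u) [Group G] : Prop :=
  ∀ q r : ℕ, q.Prime → r.Prime → q ≠ r → q ≠ p → r ≠ p → ∀ x y z : G, x ≠ 1 → (∃ a : ℕ, orderOf x = p ^ a) →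
    y ≠ 1 → (∃ b : ℕ, orderOf y = q ^ b) → z ≠ 1 → (∃ c : ℕ, orderOf z = r ^ c) → x * y * z ≠ 1

theorem NT.of_injective {p : ℕ} {G H : Type u} [Group G] [Group H] (h : NT p G) (f : H →* G)
    (hf : Function.Injective f) : NT p H := by
  intro q r hq hr hqr hqp hrp x y z hx hx' hy hy' hz hz' h1
  refine h q r hq hr hqr hqp hrp (f x) (f y) (f z) ?_ ?_ ?_ ?_ ?_ ?_ ?_
  · exact fun h2 => hx (hf (by rw [h2, map_one]))
  · rwa [orderOf_injective f hf]
  · exact fun h2 => hy (hf (by rw [h2, map_one]))
  · rwa [orderOf_injective f hf]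
  · exact fun h2 => hz (hf (by rw [h2, map_one]))
  · rwa [orderOf_injective f hf]
  · rw [← map_mul, ← map_mul, h1, map_one]

theorem NT.false {p : ℕ} {G : Type u} [Group G] (h : NT p G) {a b c : ℕ} (ha : a.Prime)
    (hb : b.Prime) (hc : c.Prime) (hab : a ≠ b) (hac : a ≠ c) (hbc : b ≠ c) (hpd : p = a ∨ p = b ∨ p = c) {x y z : G}
    (hx : PE a x) (hy : PE b y) (hz : PE c z) (h1 : x * y * z = 1) : False := by
  rcases hpd with rfl | rfl | rfl
  · exact h b c hb hc hbc hab.symm hac.symm x y z hx.1 hx.2 hy.1 hy.2 hz.1 hz.2 h1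
  · exact h c a hc ha hac.symm hbc.symm hab y z x hy.1 hy.2 hz.1 hz.2 hx.1 hx.2 (rot h1)
  · exact h a b ha hb hab hac hbc z x y hz.1 hz.2 hx.1 hx.2 hy.1 hy.2 (rot (rot h1))

theorem pe_of_map {G S : Type u} [Group G] [Group S] {π : G →* S} {a : ℕ} (ha : a.Prime) {x' : G} {x : S}
    (hx : PE a x) (h : π x' = x) (hk : ∃ k, x' ^ a ^ k = 1) : PE a x' := by
  refine ⟨fun h1 => hx.1 (by rw [← h, h1, map_one]), ?_⟩
  obtain ⟨k, hk⟩ := hk
  obtain ⟨j, -, hj⟩ := (Nat.dvd_prime_pow ha).1 (orderOf_dvd_of_pow_eq_one hk)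
  exact ⟨j, hj⟩

/-- **every prime divisor of a normal nilpotent subgroup contained in all maximal subgroups divides the index** -/
theorem dvd_quotient {G : Type u} [Group G] [Finite G] {N : Subgroup G} [N.Normal] (hnil : Group.IsNilpotent N)
    (hM : ∀ M : Subgroup G, M ⊔ N = ⊤ → M = ⊤) {s : ℕ} (hs : s.Prime) (hsN : s ∣ Nat.card N) :
    s ∣ Nat.card (G ⧸ N) := by
  have : Fact s.Prime := ⟨hs⟩
  by_contra hsS
  have hPn : (pP s N).Normal := ⟨fun n hn g => pP_conj (fun x hx => (inferInstance : N.Normal).conj_mem x hx g) hn⟩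
  obtain ⟨Q⟩ : Nonempty (Sylow s G) := inferInstance
  have hQ : (Q : Subgroup G) ≤ pP s N := by
    intro g hg
    obtain ⟨k, hk⟩ := Q.isPGroup' ⟨g, hg⟩
    have hk' : g ^ s ^ k = 1 := congrArg Subtype.val hk
    refine (mem_pP hnil).2 ⟨?_, k, hk'⟩
    have h1 : g ∈ (⊤ : Subgroup G) := trivial
    refine mem_of_coprime h1 hk' ?_
    rw [Subgroup.relIndex_top_right]
    exact Nat.Coprime.pow_right k (((Nat.Prime.coprime_iff_not_dvd hs).2 hsS).symm)
  have hPp : IsPGroup s (pP s N) := Cfsg.Agent.KantorSeitz.isPGroup_pP hnil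
  have hPQ : pP s N = Q := Q.is_maximal' hPp hQ
  have hco : Nat.Coprime (Nat.card (pP s N)) (pP s N).index := by
    obtain ⟨k, hk⟩ := IsPGroup.iff_card.1 hPp
    rw [hk]
    refine Nat.Coprime.pow_left k ((Nat.Prime.coprime_iff_not_dvd hs).2 ?_)
    rw [hPQ]
    exact Q.not_dvd_index
  obtain ⟨H, hH⟩ := Subgroup.exists_right_complement'_of_coprime hco
  have h1 : H = ⊤ := by
    apply hM
    rw [eq_top_iff, ← hH.sup_eq_top, sup_comm]
    exact sup_le_sup_left (fun x hx => ((mem_pP hnil).1 hx).1) H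
  obtain ⟨g, hg⟩ := exists_prime_orderOf_dvd_card' s hsN
  have h6 : (g : G) ∈ pP s N := (mem_pP hnil).2 ⟨g.2, 1, by
    have h7 : g ^ s = 1 := by rw [← hg, pow_orderOf_eq_one]
    rw [pow_one]
    exact congrArg Subtype.val h7⟩
  have h7 : (g : G) ∈ pP s N ⊓ H := ⟨h6, by rw [h1]; trivial⟩
  rw [hH.disjoint.eq_bot, Subgroup.mem_bot] at h7
  have h8 : g = 1 := Subtype.ext h7
  rw [h8, orderOf_one] at hg
  exact hs.one_lt.ne hg

theorem exists_max_normal {G : Type u} [Group G] [Finite G] [Nontrivial G] :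
    ∃ N : Subgroup G, ∃ _ : N.Normal, N ≠ ⊤ ∧ IsSimpleGroup (G ⧸ N) := by
  obtain ⟨N, hN⟩ := (Set.toFinite {N : Subgroup G | N.Normal ∧ N ≠ ⊤}).exists_maximal
    ⟨⊥, inferInstance, bot_ne_top⟩
  obtain ⟨hn, ht⟩ := hN.prop
  refine ⟨N, hn, ht, ?_⟩
  have hnt : Nontrivial (G ⧸ N) := by
    rw [← not_subsingleton_iff_nontrivial]
    intro h
    exact ht (QuotientGroup.subsingleton_iff.1 h)
  refine ⟨fun K hK => ?_⟩
  have h1 : N ≤ K.comap (QuotientGroup.mk' N) := by
    intro x hx
    rw [Subgroup.mem_comap, QuotientGroup.mk'_apply, (QuotientGroup.eq_one_iff x).2 hx]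
    exact K.one_mem
  have hsurj := QuotientGroup.mk'_surjective N
  by_cases h2 : K.comap (QuotientGroup.mk' N) = ⊤
  · right
    rw [← Subgroup.map_comap_eq_self_of_surjective hsurj K, h2, ← MonoidHom.range_eq_map,
      MonoidHom.range_eq_top.2 hsurj]
  · left
    have h3 : K.comap (QuotientGroup.mk' N) ≤ N := hN.le_of_ge ⟨inferInstance, h2⟩ h1
    rw [← Subgroup.map_comap_eq_self_of_surjective hsurj K, eq_bot_iff]
    rintro _ ⟨g, hg, rfl⟩
    exact (QuotientGroup.eq_one_iff g).2 (h3 hg)

/-- **the reduction**, direction `<=` -/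
theorem solvable_of_nt {p : ℕ} [hp : Fact p.Prime]
    (hrow : ∀ (S : Type u) [Group S] [Finite S] [IsSimpleGroup S], (∃ x y : S, x * y ≠ y * x) → Row S)
    (hL : LiftStmt.{u}) :
    ∀ (n : ℕ) (G : Type u) [Group G] [Finite G], Nat.card G = n → NT p G → Cfsg.IsPSolvable p G := by
  intro n
  induction n using Nat.strong_induction_on with
  | _ n ih =>
    intro G _ _ hn hG
    by_contra hG1
    have hsub : ∀ K : Subgroup G, K ≠ ⊤ → Cfsg.IsPSolvable p K := by
      intro K hK
      refine ih _ ?_ K rfl (hG.of_injective K.subtype K.subtype_injective)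
      rw [← hn]
      exact lt_of_le_of_ne (Subgroup.card_le_card_group K) fun h => hK ((Subgroup.card_eq_iff_eq_top K).1 h)
    have : Nontrivial G := by
      rw [← not_subsingleton_iff_nontrivial]
      intro h
      apply hG1
      apply PLocal.PSolvable.isPSolvable_of_coprime
      rw [Nat.card_unique]
      exact Nat.coprime_one_left p
    obtain ⟨N, hNn, hNt, hsimp⟩ := exists_max_normal (G := G)
    have hS : ¬ Cfsg.IsPSolvable p (G ⧸ N) := fun h =>
      hG1 (Lib.PSolvable.IsPSolvable_of_extension p N (hsub N hNt) h)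
    have hsurj := QuotientGroup.mk'_surjective N
    have hsubS : ∀ K : Subgroup (G ⧸ N), K ≠ ⊤ → Cfsg.IsPSolvable p K := by
      intro K hK
      have h1 : K.comap (QuotientGroup.mk' N) ≠ ⊤ := by
        intro h2
        apply hK
        rw [← Subgroup.map_comap_eq_self_of_surjective hsurj K, h2, ← MonoidHom.range_eq_map,
          MonoidHom.range_eq_top.2 hsurj]
      have h2 := hsub _ h1
      refine PLocal.PSolvable.isPSolvable_of_surjective ((QuotientGroup.mk' N).subgroupComap K) ?_ h2
      rintro ⟨w, hw⟩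
      obtain ⟨g, rfl⟩ := QuotientGroup.mk_surjective w
      exact ⟨⟨g, hw⟩, rfl⟩
    have hna : ∃ x y : G ⧸ N, x * y ≠ y * x := by
      by_contra hcomm
      push Not at hcomm
      apply hS
      have : Group.IsSolvable (G ⧸ N) := Group.isSolvable_of_comm hcomm
      exact Lib.PSolvable.IsPSolvable_of_solvable p
    have hpS : p ∣ Nat.card (G ⧸ N) := by
      by_contra h
      exact hS (PLocal.PSolvable.isPSolvable_of_coprime ((Nat.Prime.coprime_iff_not_dvd hp.out).2 h).symm)
    have hM : ∀ M : Subgroup G, M ⊔ N = ⊤ → M = ⊤ := by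
      intro M hMN
      by_contra hM
      apply hS
      refine PLocal.PSolvable.isPSolvable_of_surjective ((QuotientGroup.mk' N).comp M.subtype) ?_ (hsub M hM)
      intro w
      obtain ⟨g, rfl⟩ := QuotientGroup.mk_surjective w
      have hg : g ∈ M ⊔ N := by rw [hMN]; trivial
      obtain ⟨m, hm, k, hk, rfl⟩ := Subgroup.mem_sup_of_normal_right.1 hg
      exact ⟨⟨m, hm⟩, (QuotientGroup.mk_mul_of_mem m hk).symm⟩
    have hfr : N ≤ frattini G := by
      refine le_iInf₂ fun M hMc => ?_
      by_contra hle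
      have h1 : M < M ⊔ N := by
        refine lt_of_le_of_ne le_sup_left fun h => hle ?_
        rw [h]
        exact le_sup_right
      exact hMc.1 (hM M (hMc.2 _ h1))
    have hnil : Group.IsNilpotent N := by
      have h1 : Group.IsNilpotent (frattini G) := frattini_nilpotent
      have h2 : Group.IsNilpotent (N.subgroupOf (frattini G)) := inferInstance
      exact Group.nilpotent_of_mulEquiv (Subgroup.subgroupOfEquivOfLe hfr)
    rcases hrow (G ⧸ N) hna p hp.out hpS with ⟨H, hH, h1⟩ | ⟨a, b, c, hpd, h2, ha, hb, hc, hab, hac, hbc, x, y, z, hx, hy,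
        hz, h3, h4⟩
    · exact h1 (hsubS H hH)
    have hgen : Subgroup.closure ({x, y, z} : Set (G ⧸ N)) = ⊤ := by
      by_contra hne
      have h5 := hsubS _ hne
      have mx : x ∈ Subgroup.closure ({x, y, z} : Set (G ⧸ N)) := Subgroup.subset_closure (by simp)
      have my : y ∈ Subgroup.closure ({x, y, z} : Set (G ⧸ N)) := Subgroup.subset_closure (by simp)
      have mz : z ∈ Subgroup.closure ({x, y, z} : Set (G ⧸ N)) := Subgroup.subset_closure (by simp)
      have key : ∀ {t : ℕ} {w : G ⧸ N} (hw : w ∈ Subgroup.closure ({x, y, z} : Set (G ⧸ N))), PE t w →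
          PE t (⟨w, hw⟩ : Subgroup.closure ({x, y, z} : Set (G ⧸ N))) := by
        intro t w hw hpe
        refine ⟨fun h6 => hpe.1 (congrArg Subtype.val h6), ?_⟩
        rw [Subgroup.orderOf_mk]
        exact hpe.2
      exact not_triple h5 ha hb hc hab hac hbc hpd (key mx hx) (key my hy) (key mz hz) (Subtype.ext h3)
    have hperf : commutator (G ⧸ N) = ⊤ := by
      rcases (inferInstance : (commutator (G ⧸ N)).Normal).eq_bot_or_eq_top with h5 | h5
      · exfalso
        obtain ⟨s, t, hst⟩ := hna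
        apply hst
        have h6 : ⁅s, t⁆ ∈ commutator (G ⧸ N) := Subgroup.commutator_mem_commutator (Subgroup.mem_top s) (Subgroup.mem_top t)
        rw [h5, Subgroup.mem_bot, commutatorElement_eq_one_iff_mul_comm] at h6
        exact h6
      · exact h5
    have hker : (QuotientGroup.mk' N).ker = N := QuotientGroup.ker_mk' N
    obtain ⟨x', y', z', e1, e2, e3, e4, e5, e6, e7⟩ := lift_all hL hperf ha hb hc h2 hx hy hz h3 hgen h4 n G
      (QuotientGroup.mk' N) hn hsurj (by rw [hker]; exact hnil)
      (by rw [hker]; exact fun s hs hsd => dvd_quotient hnil hM hs hsd)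
    exact hG.false ha hb hc hab hac hbc hpd (pe_of_map ha hx e1 e5) (pe_of_map hb hy e2 e6) (pe_of_map hc hz e3 e7) e4

/-- **S3988 from the rows and the lifting statement** -/
theorem reduce (hrow : ∀ (S : Type u) [Group S] [Finite S] [IsSimpleGroup S], (∃ x y : S, x * y ≠ y * x) → Row S)
    (hL : LiftStmt.{u}) {G : Type u} [Group G] [Finite G] (p : ℕ) [Fact p.Prime] :
    Cfsg.IsPSolvable p G ↔ ∀ q r : ℕ, q.Prime → r.Prime → q ≠ r → q ≠ p → r ≠ p → ∀ x y z : G, x ≠ 1 →
      (∃ a : ℕ, orderOf x = p ^ a) → y ≠ 1 → (∃ b : ℕ, orderOf y = q ^ b) → z ≠ 1 → (∃ c : ℕ, orderOf z = r ^ c) →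
      x * y * z ≠ 1 := by
  constructor
  · intro h q r hq hr hqr hqp hrp x y z hx hx' hy hy' hz hz' h1
    exact not_triple h (Fact.out : p.Prime) hq hr hqp.symm hrp.symm hqr (Or.inl rfl) ⟨hx, hx'⟩ ⟨hy, hy'⟩ ⟨hz, hz'⟩ h1
  · intro h
    exact solvable_of_nt hrow hL _ G rfl h

end reduction

end Cfsg.Agent.H410.PQR
end

-- part: H562/PQR/Lift
section
/-!
# S3988 (helper562): the lifting lemma

`lift_of_clift` : `π : X → S` onto with kernel an `s`-group, `s` odd, `S` perfect, `x y z = 1` a generating triple of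
`s'`-elements of `S` with `CLift s x y z`. Then `(x, y, z)` lifts to a triple of `s'`-elements of `X` with product one.

Proof: let `f(c)` be the number of `(e₁, e₂, e₃) ∈ P³`, `P = ker π`, with `x^{e₁} y^{e₂} z^{e₃} = c` for fixed `s'`-lifts.
`f` is a class function of `P` and `f(c) = f(c⁻¹)`, as `∑ χ(x^{e₁} y^{e₂} z^{e₃})` is real for all `χ ∈ Irr P`. Since `|P|` is
odd, `f(1) ≡ ∑ f(c) = |P|³ ≡ 1` modulo 2.
-/

set_option autoImplicit false

namespace Cfsg.Agent.H562.PQR.Lift

open Module Cfsg
open scoped ComplexConjugate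

universe u v w

section count

variable {X : Type u} [Group X] {S : Type v} [Group S] {π : X →* S} {x y z : X} [Fintype π.ker] [DecidableEq π.ker]

/-- the number of solutions of `x^{e₁} y^{e₂} z^{e₃} = c` -/
def cnt (h : π x * π y * π z = 1) (c : π.ker) : ℕ :=
  ∑ e₁ : π.ker, ∑ e₂ : π.ker, ∑ e₃ : π.ker, if F h e₁ e₂ e₃ = c then 1 else 0

theorem sum_cnt (h : π x * π y * π z = 1) (φ : π.ker → ℂ) : ∑ c : π.ker, (cnt h c : ℂ) * φ c =
    ∑ e₁ : π.ker, ∑ e₂ : π.ker, ∑ e₃ : π.ker, φ (F h e₁ e₂ e₃) := by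
  have h1 : ∀ c : π.ker, (cnt h c : ℂ) * φ c =
      ∑ e₁ : π.ker, ∑ e₂ : π.ker, ∑ e₃ : π.ker, if F h e₁ e₂ e₃ = c then φ c else 0 := by
    intro c
    rw [cnt]
    push_cast
    rw [Finset.sum_mul]
    refine Finset.sum_congr rfl fun e₁ _ => ?_
    rw [Finset.sum_mul]
    refine Finset.sum_congr rfl fun e₂ _ => ?_
    rw [Finset.sum_mul]
    refine Finset.sum_congr rfl fun e₃ _ => ?_
    rw [ite_mul, one_mul, zero_mul]
  rw [Finset.sum_congr rfl fun c _ => h1 c, Finset.sum_comm]
  refine Finset.sum_congr rfl fun e₁ _ => ?_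
  rw [Finset.sum_comm]
  refine Finset.sum_congr rfl fun e₂ _ => ?_
  rw [Finset.sum_comm]
  refine Finset.sum_congr rfl fun e₃ _ => ?_
  rw [Finset.sum_ite_eq, if_pos (Finset.mem_univ _)]

theorem sum_cnt_nat (h : π x * π y * π z = 1) : ∑ c : π.ker, cnt h c =
    Fintype.card π.ker * (Fintype.card π.ker * Fintype.card π.ker) := by
  have h1 := sum_cnt h (fun _ => (1 : ℂ))
  simp only [mul_one, Finset.sum_const, Finset.card_univ, nsmul_eq_mul] at h1
  exact_mod_cast h1

theorem cnt_conj (h : π x * π y * π z = 1) (c u : π.ker) : cnt h (u * c * u⁻¹) = cnt h c := by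
  have h1 : ∀ e₁ e₂ e₃ : π.ker, F h (u * e₁) (u * e₂) (u * e₃) = u * F h e₁ e₂ e₃ * u⁻¹ := by
    intro e₁ e₂ e₃
    apply Subtype.ext
    rw [Subgroup.coe_mul, Subgroup.coe_mul, F_coe, F_coe, Subgroup.coe_inv, Subgroup.coe_mul, Subgroup.coe_mul,
      Subgroup.coe_mul]
    group
  rw [cnt, cnt]
  symm
  refine Fintype.sum_equiv (Equiv.mulLeft u) _ _ fun e₁ => ?_
  refine Fintype.sum_equiv (Equiv.mulLeft u) _ _ fun e₂ => ?_
  refine Fintype.sum_equiv (Equiv.mulLeft u) _ _ fun e₃ => ?_
  rw [Equiv.coe_mulLeft, h1]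
  have h2 : (u * F h e₁ e₂ e₃ * u⁻¹ = u * c * u⁻¹) ↔ F h e₁ e₂ e₃ = c := by
    rw [mul_left_inj, mul_right_inj]
  simp only [h2]

end count

/-- **the symmetry of the number of solutions** -/
theorem cnt_inv {X : Type u} [Group X] [Finite X] {S : Type v} [Group S] {π : X →* S} {x y z : X} {s : ℕ}
    [Fintype π.ker] [DecidableEq π.ker] (hs : s.Prime) (hπ : Function.Surjective π) (hk : IsPGroup s π.ker)
    (hS : commutator S = ⊤) (hx : ¬ s ∣ orderOf x) (hy : ¬ s ∣ orderOf y) (hz : ¬ s ∣ orderOf z)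
    (hC : CLift s (π x) (π y) (π z)) (h : π x * π y * π z = 1)
    (hgen : Subgroup.closure ({π x, π y, π z} : Set S) = ⊤) (c : π.ker) : cnt h c⁻¹ = cnt h c := by
  let D : π.ker → ℂ := fun c => (cnt h c : ℂ) - (cnt h c⁻¹ : ℂ)
  have hD : D = 0 := by
    apply Cfsg.Agent.Characters.Core.classFunction_eq_zero
    · intro g u
      change (cnt h (u * g * u⁻¹) : ℂ) - (cnt h (u * g * u⁻¹)⁻¹ : ℂ) = (cnt h g : ℂ) - (cnt h g⁻¹ : ℂ)
      have h1 : (u * g * u⁻¹)⁻¹ = u * g⁻¹ * u⁻¹ := by group
      rw [h1, cnt_conj, cnt_conj]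
    · rintro χ ⟨n, ρ, hρ, rfl⟩
      have hconj : ∀ g : π.ker, conj (ρ.character g) = ρ.character g⁻¹ := fun g =>
        (Cfsg.Agent.Characters.Core.isCharacter_apply_inv (Cfsg.Agent.Characters.Core.isCharacter_of_rep ρ) g).symm
      have hreal := Nsum_real hs hπ hk hS ρ hρ hx hy hz hC h hgen
      have h1 : ∑ g : π.ker, (cnt h g : ℂ) * conj (ρ.character g) = conj (Nsum ρ h) := by
        rw [sum_cnt h (fun g => conj (ρ.character g))]
        unfold Nsum
        simp only [map_sum]
      have h2 : ∑ g : π.ker, (cnt h g⁻¹ : ℂ) * conj (ρ.character g) = Nsum ρ h := by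
        have h3 : ∑ g : π.ker, (cnt h g⁻¹ : ℂ) * conj (ρ.character g) = ∑ g : π.ker, (cnt h g : ℂ) * ρ.character g := by
          refine Fintype.sum_equiv (Equiv.inv π.ker) _ _ fun g => ?_
          rw [hconj]
          rfl
        rw [h3, sum_cnt h (fun g => ρ.character g)]
        rfl
      rw [Cfsg.Agent.Characters.Core.classInner_def]
      have h4 : ∑ g : π.ker, D g * conj (ρ.character g) = 0 := by
        change ∑ g : π.ker, ((cnt h g : ℂ) - (cnt h g⁻¹ : ℂ)) * conj (ρ.character g) = 0
        simp only [sub_mul, Finset.sum_sub_distrib]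
        rw [h1, h2, hreal, sub_self]
      rw [h4, mul_zero]
  have h1 : (cnt h c : ℂ) - (cnt h c⁻¹ : ℂ) = 0 := congrFun hD c
  exact_mod_cast (sub_eq_zero.1 h1).symm

/-- **THE LIFTING LEMMA** -/
theorem lift_of_clift : Cfsg.Agent.H410.PQR.LiftStmt.{u} := by
  intro s hs hs2 X S _ _ _ _ π hπ hk hS x y z hx hy hz hxyz hgen hC
  classical
  have : Fact s.Prime := ⟨hs⟩
  have := Fintype.ofFinite π.ker
  obtain ⟨x₀, rfl⟩ := hπ x
  obtain ⟨y₀, rfl⟩ := hπ y
  obtain ⟨z₀, rfl⟩ := hπ z
  obtain ⟨x', hx1, hx2⟩ := exists_lift hs x₀ hx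
  obtain ⟨y', hy1, hy2⟩ := exists_lift hs y₀ hy
  obtain ⟨z', hz1, hz2⟩ := exists_lift hs z₀ hz
  rw [← hx1, ← hy1, ← hz1] at hxyz hgen hC
  rw [← hx1, ← hy1, ← hz1]
  have hodd : Odd (Nat.card π.ker) := by
    obtain ⟨n, hn⟩ := IsPGroup.iff_card.1 hk
    rw [hn]
    exact (hs.odd_of_ne_two hs2).pow
  have hodd' : Odd (Fintype.card π.ker) := by rwa [← Nat.card_eq_fintype_card]
  have h1 := ne_zero_of_symm hodd (cnt hxyz) (cnt_inv hs hπ hk hS hx2 hy2 hz2 hC hxyz hgen) (by
    rw [sum_cnt_nat]
    exact hodd'.mul (hodd'.mul hodd'))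
  have h2 : ∃ e₁ e₂ e₃ : π.ker, F hxyz e₁ e₂ e₃ = 1 := by
    by_contra hne
    push Not at hne
    refine h1 ?_
    rw [cnt]
    refine Finset.sum_eq_zero fun e₁ _ => Finset.sum_eq_zero fun e₂ _ => Finset.sum_eq_zero fun e₃ _ => ?_
    rw [if_neg (hne e₁ e₂ e₃)]
  obtain ⟨e₁, e₂, e₃, he⟩ := h2
  have hc : ∀ (e : π.ker) (t : X), π ((e : X) * t * (e : X)⁻¹) = π t ∧
      orderOf ((e : X) * t * (e : X)⁻¹) = orderOf t := by
    intro e t
    refine ⟨?_, ?_⟩
    · rw [map_mul, map_mul, map_inv, MonoidHom.mem_ker.1 e.2, one_mul, inv_one, mul_one]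
    · have h3 : (e : X) * t * (e : X)⁻¹ = MulAut.conj (e : X) t := rfl
      rw [h3, MulEquiv.orderOf_eq]
  refine ⟨_, _, _, (hc e₁ x').1, (hc e₂ y').1, (hc e₃ z').1, congrArg Subtype.val he, ?_, ?_, ?_⟩
  · rwa [(hc e₁ x').2]
  · rwa [(hc e₂ y').2]
  · rwa [(hc e₃ z').2]

end Cfsg.Agent.H562.PQR.Lift
end

-- part: H296/PQ/Two
section
/-!
# S3988: the prime 2

`solvable_of_two` : a finite `2`-solvable group is solvable (Feit–Thompson).
`trip_two` : the prime 2, from the rows of the minimal simple groups.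
-/

set_option autoImplicit false

namespace Cfsg.Agent.H296.PQ

open Cfsg.Agent.H562.PQR

universe u

/-- a normal series with solvable factors -/
theorem solvable_step {G : Type u} [Group G] {A B : Subgroup G} [hA : A.Normal] (hAs : Group.IsSolvable A)
    (hq : Group.IsSolvable (B ⧸ A.subgroupOf B)) : Group.IsSolvable B := by
  have h1 : Group.IsSolvable (A.subgroupOf B) := by
    let f : A.subgroupOf B →* A :=
      { toFun := fun x => ⟨(x : B), x.2⟩
        map_one' := rfl
        map_mul' := fun _ _ => rfl }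
    exact Group.isSolvable_of_isSolvable_injective (f := f) (fun x y h =>
      Subtype.ext (Subtype.ext (congrArg (fun z : A => (z : G)) h)))
  exact Group.isSolvable_of_ker_le_range (A.subgroupOf B).subtype (QuotientGroup.mk' (A.subgroupOf B))
    (by rw [QuotientGroup.ker_mk', Subgroup.range_subtype])

/-- a finite `2`-solvable group is solvable -/
theorem solvable_of_two {G : Type u} [Group G] [Finite G] (h : Cfsg.IsPSolvable 2 G) : Group.IsSolvable G := by
  obtain ⟨n, H, h0, hlast, hmono, hnorm, hfac⟩ := h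
  have key : ∀ i : Fin (n + 1), Group.IsSolvable (H i) := by
    intro i
    induction i using Fin.induction with
    | zero => rw [h0]; infer_instance
    | succ i ih =>
      have := hnorm i.castSucc
      refine solvable_step ih ?_
      rcases hfac i with ⟨m, hm⟩ | hm
      · have : Fact (Nat.Prime 2) := ⟨Nat.prime_two⟩
        have hp : IsPGroup 2 (H i.succ ⧸ (H i.castSucc).subgroupOf (H i.succ)) := IsPGroup.of_card (n := m) (by
          rw [← hm]; rfl)
        have := hp.isNilpotent
        infer_instance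
      · apply Cfsg.Agent.S0205.result
        rw [← Nat.coprime_two_right]
        exact hm
  have h1 := key (Fin.last n)
  rw [hlast] at h1
  exact Group.isSolvable_of_surjective (f := Subgroup.topEquiv.toMonoidHom) (MulEquiv.surjective _)

/-- a non-abelian simple group has even order -/
theorem two_dvd {S : Type u} [Group S] [Finite S] [IsSimpleGroup S] (hna : ∃ x y : S, x * y ≠ y * x) :
    2 ∣ Nat.card S := by
  by_contra h
  have h1 : Odd (Nat.card S) := Nat.not_even_iff_odd.1 fun h2 => h h2.two_dvd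
  have h2 : Group.IsSolvable S := Cfsg.Agent.S0205.result h1
  obtain ⟨x, y, hxy⟩ := hna
  exact hxy ((IsSimpleGroup.comm_iff_isSolvable).2 h2 x y)

/-- a non-abelian simple group all of whose proper subgroups are `2`-solvable is minimal simple -/
theorem minimal_of_notMin {S : Type u} [Group S] [Finite S] [IsSimpleGroup S] (hna : ∃ x y : S, x * y ≠ y * x)
    (h : ¬ NotMin 2 S) : Cfsg.IsMinimalSimple S := by
  refine ⟨inferInstance, fun hc => ?_, fun H hH => ?_⟩
  · obtain ⟨x, y, hxy⟩ := hna
    exact hxy (hc.is_comm.comm x y)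
  · by_contra hns
    exact h ⟨H, hH, fun h2 => hns (solvable_of_two h2)⟩

/-- **S3988, the prime 2** -/
theorem trip_two {S : Type u} [Group S] [Finite S] [IsSimpleGroup S] (hna : ∃ x y : S, x * y ≠ y * x)
    (h1 : ∀ (F : Type) [Field F] [Fintype F], 4 ≤ Fintype.card F →
      Row (Matrix.ProjectiveSpecialLinearGroup (Fin 2) F))
    (h2 : ∀ (T : Type) [Group T], Cfsg.Lie.IsoSuzuki T → Row T)
    (h3 : ∀ (F : Type) [Field F] [Fintype F], Fintype.card F = 3 →
      Row (Matrix.ProjectiveSpecialLinearGroup (Fin 3) F)) : NotMin 2 S ∨ Trip 2 S := by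
  by_cases hN : NotMin 2 S
  · exact Or.inl hN
  have hrow : Row S := by
    rcases Cfsg.Agent.Classification.MinSimpleStrong.concl (minimal_of_notMin hna hN) with
      ⟨p, hp, F, _, _, hF, ⟨e⟩⟩ | ⟨p, hp, hp2, F, _, _, hF, ⟨e⟩⟩ | ⟨p, hp, hp5, F, _, _, hF, ⟨e⟩⟩ |
      ⟨F, _, _, hF, ⟨e⟩⟩ | ⟨F, _, _, m, hm, -, hF, ⟨e⟩⟩
    · refine (h1 F ?_).congr e.symm
      rw [hF]
      calc 4 = 2 ^ 2 := by norm_num
        _ ≤ 2 ^ p := Nat.pow_le_pow_right (by norm_num) hp.two_le
    · refine (h1 F ?_).congr e.symm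
      rw [hF]
      calc 4 ≤ 3 ^ 2 := by norm_num
        _ ≤ 3 ^ p := Nat.pow_le_pow_right (by norm_num) hp.two_le
    · refine (h1 F ?_).congr e.symm
      rw [hF]
      omega
    · exact (h3 F hF).congr e.symm
    · exact (h2 _ ⟨F, inferInstance, inferInstance, m, hm, hF, ⟨MulEquiv.refl _⟩⟩).congr e.symm
  exact hrow 2 Nat.prime_two (two_dvd hna)

end Cfsg.Agent.H296.PQ
end

-- part: H562/PQR/Final
section
/-!
# S3988 (helper562): the theorem from the rows
-/

set_option autoImplicit false

namespace Cfsg.Agent.H562.PQR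

open Cfsg

universe u

/-- **all rows**, from the rows for the odd primes -/
theorem RowsOdd.all (R : RowsOdd) (S : Type u) [Group S] [Finite S] [IsSimpleGroup S] (hna : ∃ x y : S, x * y ≠ y * x) :
    Row S := by
  refine R.row ?_ Cfsg.Agent.S0000.result ?_
  · intro hp
    have : Fact (Nat.card S).Prime := ⟨hp⟩
    have : IsCyclic S := isCyclic_of_prime_card rfl
    obtain ⟨x, y, hxy⟩ := hna
    exact hxy (@CommGroup.mul_comm S (IsCyclic.commGroup) x y)
  · exact Cfsg.Agent.H296.PQ.trip_two hna (fun F _ _ hF => Cfsg.Agent.H528.PQR.row_psl2 F hF)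
      (fun T _ h => Cfsg.Agent.H528.PQR.row_sz h) (fun F _ _ hF => Cfsg.Agent.H900.PQR.row_psl33 hF)

/-- **S3988**, from the rows for the odd primes -/
theorem RowsOdd.final (R : RowsOdd) {G : Type u} [Group G] [Finite G] (p : ℕ) [Fact p.Prime] :
    Cfsg.IsPSolvable p G ↔ ∀ q r : ℕ, q.Prime → r.Prime → q ≠ r → q ≠ p → r ≠ p → ∀ x y z : G, x ≠ 1 →
      (∃ a : ℕ, orderOf x = p ^ a) → y ≠ 1 → (∃ b : ℕ, orderOf y = q ^ b) → z ≠ 1 → (∃ c : ℕ, orderOf z = r ^ c) →
      x * y * z ≠ 1 :=
  Cfsg.Agent.H410.PQR.reduce (fun S _ _ _ hna => R.all S hna) Lift.lift_of_clift p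

end Cfsg.Agent.H562.PQR
end

-- part: H606/PQR/AvgCrit
section
/-!
# The criterion for products with averages, the double coset bound (helper606, for S3988)

* `exists_mul_mem` : `Avg X R` and `R² (|C(y)| - 1) (|S| / |Z| - 1) < 1` ==> a conjugate of some `x ∈ X` times a conjugate
  of `y` lies in `Z`.
* `sq_le_of_cover` : `G` covered by `n` double cosets of `H` ==> `⟨χ_H, 1⟩² ≤ n` for all irreducible `χ`
-/

set_option autoImplicit false

open scoped ComplexConjugate
open Cfsg

namespace Cfsg.Agent.H606.Avg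

open Cfsg.Agent.Characters.Core Cfsg.Agent.Characters.ClassMul
open Cfsg.Agent.H588.Ratio (sum_norm_sq sum_ne_one_norm_sq one sum_norm_sq_set)

universe u

section crit

variable {S : Type u} [Group S] [Finite S]

/-- **the criterion with averages** -/
theorem exists_mul_mem {X : Finset S} (hX : X.Nonempty) {y : S} {R : ℝ} (hR : Avg X R) {Z : Set S} (hne : Z.Nonempty)
    (hnum : R ^ 2 * ((Nat.card (Subgroup.centralizer ({y} : Set S)) : ℝ) - 1) *
      ((Nat.card S : ℝ) / Nat.card Z - 1) < 1) :
    ∃ x ∈ X, ∃ g h : S, g * x * g⁻¹ * (h * y * h⁻¹) ∈ Z := by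
  classical
  by_contra hcon
  push Not at hcon
  have := Fintype.ofFinite S
  have := finite_irr (G := S)
  have := Fintype.ofFinite (IrrCharacter S)
  have := Fintype.ofFinite Z
  set Zf : Finset S := Z.toFinset with hZf
  have hcard : Nat.card Z = Zf.card := by rw [Nat.card_eq_fintype_card, Set.toFinset_card]
  have hpos : 0 < Zf.card := by
    rw [Finset.card_pos, hZf, Set.toFinset_nonempty]
    exact hne
  have hXpos : 0 < X.card := Finset.card_pos.2 hX
  have hS : (Nat.card S : ℂ) ≠ 0 := by exact_mod_cast Nat.card_pos.ne'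
  have h1 : ∀ x ∈ X, ∀ z ∈ Zf, ∑ χ : IrrCharacter S,
      (χ : S → ℂ) x * (χ : S → ℂ) y * conj ((χ : S → ℂ) z) / (χ : S → ℂ) 1 = 0 := by
    intro x hx z hz
    have h2 := card_conj_mul_conj x y z
    have h3 : Nat.card {p : S × S // p.1 * x * p.1⁻¹ * (p.2 * y * p.2⁻¹) = z} = 0 := by
      rw [Nat.card_eq_zero]
      refine Or.inl ⟨fun p => hcon x hx p.1.1 p.1.2 ?_⟩
      rw [p.2]
      exact Set.mem_toFinset.1 hz
    rw [h3, Nat.cast_zero] at h2
    exact (mul_eq_zero.1 h2.symm).resolve_left hS
  let s : IrrCharacter S → ℂ := fun χ => ∑ z ∈ Zf, (χ : S → ℂ) z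
  let ξ : IrrCharacter S → ℂ := fun χ => ∑ x ∈ X, (χ : S → ℂ) x
  have h2 : ∑ χ : IrrCharacter S, ξ χ * (χ : S → ℂ) y * conj (s χ) / (χ : S → ℂ) 1 = 0 := by
    have e : ∀ χ : IrrCharacter S, ξ χ * (χ : S → ℂ) y * conj (s χ) / (χ : S → ℂ) 1 =
        ∑ x ∈ X, ∑ z ∈ Zf, (χ : S → ℂ) x * (χ : S → ℂ) y * conj ((χ : S → ℂ) z) / (χ : S → ℂ) 1 := by
      intro χ
      simp only [s, ξ]
      rw [Finset.sum_mul, Finset.sum_mul, Finset.sum_div]
      refine Finset.sum_congr rfl fun x _ => ?_
      rw [map_sum, Finset.mul_sum, Finset.sum_div]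
    rw [Finset.sum_congr rfl fun χ _ => e χ, Finset.sum_comm, Finset.sum_eq_zero]
    intro x hx
    rw [Finset.sum_comm, Finset.sum_eq_zero (h1 x hx)]
  rw [← Finset.add_sum_erase _ _ (Finset.mem_univ (one : IrrCharacter S))] at h2
  have hs1 : s one = (Zf.card : ℂ) := by
    show ∑ z ∈ Zf, (1 : ℂ) = _
    rw [Finset.sum_const, nsmul_eq_mul, mul_one]
  have hξ1 : ξ one = (X.card : ℂ) := by
    show ∑ z ∈ X, (1 : ℂ) = _
    rw [Finset.sum_const, nsmul_eq_mul, mul_one]
  have hone : ξ one * ((one : IrrCharacter S) : S → ℂ) y *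
      conj (s one) / ((one : IrrCharacter S) : S → ℂ) 1 = (X.card : ℂ) * (Zf.card : ℂ) := by
    rw [hs1, hξ1]
    simp [one]
  rw [hone] at h2
  have h3 : (X.card : ℝ) * (Zf.card : ℝ) ≤
      X.card * (R * ∑ χ ∈ Finset.univ.erase (one : IrrCharacter S), (‖(χ : S → ℂ) y‖ * ‖s χ‖)) := by
    have e : (X.card : ℂ) * (Zf.card : ℂ) = -∑ χ ∈ Finset.univ.erase (one : IrrCharacter S),
        ξ χ * (χ : S → ℂ) y * conj (s χ) / (χ : S → ℂ) 1 := eq_neg_of_add_eq_zero_left h2
    have e2 : (X.card : ℝ) * (Zf.card : ℝ) = ‖(X.card : ℂ) * (Zf.card : ℂ)‖ := by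
      rw [norm_mul, Complex.norm_natCast, Complex.norm_natCast]
    rw [e2, e, norm_neg, ← mul_assoc, Finset.mul_sum]
    refine (norm_sum_le _ _).trans (Finset.sum_le_sum fun χ hχ => ?_)
    have hχ1 : (χ : S → ℂ) ≠ 1 := fun h => (Finset.mem_erase.1 hχ).1 (Subtype.ext h)
    have h4 : ‖ξ χ‖ ≤ R * X.card * ‖(χ : S → ℂ) 1‖ := hR χ χ.2 hχ1
    have h5 : 0 < ‖(χ : S → ℂ) 1‖ := norm_pos_iff.2 (isIrr_apply_one_ne_zero χ.2)
    rw [norm_div, norm_mul, norm_mul, Complex.norm_conj, div_le_iff₀ h5]
    have h6 : 0 ≤ ‖(χ : S → ℂ) y‖ * ‖s χ‖ := by (clear * -; positivity)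
    have h7 := mul_le_mul_of_nonneg_right h4 h6
    calc ‖ξ χ‖ * ‖(χ : S → ℂ) y‖ * ‖s χ‖ = ‖ξ χ‖ * (‖(χ : S → ℂ) y‖ * ‖s χ‖) := by ring
      _ ≤ R * X.card * ‖(χ : S → ℂ) 1‖ * (‖(χ : S → ℂ) y‖ * ‖s χ‖) := h7
      _ = X.card * R * (‖(χ : S → ℂ) y‖ * ‖s χ‖) * ‖(χ : S → ℂ) 1‖ := by ring
  have hXpos' : (0 : ℝ) < X.card := by exact_mod_cast hXpos
  have h3' := le_of_mul_le_mul_left h3 hXpos'
  have h4 := Finset.sum_mul_sq_le_sq_mul_sq (Finset.univ.erase (one : IrrCharacter S))
    (fun χ => ‖(χ : S → ℂ) y‖) (fun χ => ‖s χ‖)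
  rw [sum_ne_one_norm_sq] at h4
  have h5 : ∑ χ ∈ Finset.univ.erase (one : IrrCharacter S), ‖s χ‖ ^ 2 ≤
      (Nat.card S : ℝ) * Zf.card - (Zf.card : ℝ) ^ 2 := by
    have e := sum_norm_sq_set (S := S) Zf
    rw [← Finset.add_sum_erase _ _ (Finset.mem_univ (one : IrrCharacter S))] at e
    have e2 : ‖∑ z ∈ Zf, ((one : IrrCharacter S) : S → ℂ) z‖ ^ 2 = (Zf.card : ℝ) ^ 2 := by
      have : ∑ z ∈ Zf, ((one : IrrCharacter S) : S → ℂ) z = (Zf.card : ℂ) := hs1
      rw [this, Complex.norm_natCast]
    rw [e2] at e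
    have e3 : ∑ χ ∈ Finset.univ.erase (one : IrrCharacter S), ‖s χ‖ ^ 2 =
        ∑ χ ∈ Finset.univ.erase (one : IrrCharacter S), ‖∑ z ∈ Zf, (χ : S → ℂ) z‖ ^ 2 := rfl
    rw [e3]
    linarith only [e]
  set σ : ℝ := ∑ χ ∈ Finset.univ.erase (one : IrrCharacter S), ‖(χ : S → ℂ) y‖ * ‖s χ‖ with hσ
  have hc1 : (1 : ℝ) ≤ Nat.card (Subgroup.centralizer ({y} : Set S)) := by exact_mod_cast Nat.card_pos
  set c : ℝ := (Nat.card (Subgroup.centralizer ({y} : Set S)) : ℝ) - 1 with hc
  have hc0 : 0 ≤ c := by rw [hc]; linarith only [hc1]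
  have hz0 : (0 : ℝ) < Zf.card := by exact_mod_cast hpos
  have h6 : (Zf.card : ℝ) ^ 2 ≤ R ^ 2 * (c * ((Nat.card S : ℝ) * Zf.card - (Zf.card : ℝ) ^ 2)) := by
    calc (Zf.card : ℝ) ^ 2 ≤ (R * σ) ^ 2 := by
          exact pow_le_pow_left₀ hz0.le h3' 2
      _ = R ^ 2 * σ ^ 2 := by ring
      _ ≤ R ^ 2 * (c * ∑ χ ∈ Finset.univ.erase (one : IrrCharacter S), ‖s χ‖ ^ 2) :=
          mul_le_mul_of_nonneg_left h4 (by (clear * -; positivity))
      _ ≤ _ := mul_le_mul_of_nonneg_left (mul_le_mul_of_nonneg_left h5 hc0) (by (clear * -; positivity))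
  rw [hcard] at hnum
  have h7 : R ^ 2 * (c * ((Nat.card S : ℝ) * Zf.card - (Zf.card : ℝ) ^ 2)) =
      (R ^ 2 * c * ((Nat.card S : ℝ) / Zf.card - 1)) * (Zf.card : ℝ) ^ 2 := by
    field_simp
  rw [h7] at h6
  have h8 : (R ^ 2 * c * ((Nat.card S : ℝ) / Zf.card - 1)) * (Zf.card : ℝ) ^ 2 < 1 * (Zf.card : ℝ) ^ 2 :=
    mul_lt_mul_of_pos_right hnum (by (clear * - hne; positivity))
  linarith only [h6, h8]

end crit

section cover

variable {G : Type u} [Group G] [Finite G]

/-- the number of the pairs `(c, h)` with `h ∈ H`, `c h c⁻¹ ∈ H` is at most `n |H|²` -/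
theorem card_pairs_le {H : Subgroup G} {n : ℕ} (hDC : PQR.DC H n) :
    Nat.card {p : G × G // p.2 ∈ H ∧ p.1 * p.2 * p.1⁻¹ ∈ H} ≤ n * Nat.card H ^ 2 := by
  classical
  obtain ⟨T, hT, hc⟩ := hDC
  choose a ha t ht b hb e using hc
  let F : {p : G × G // p.2 ∈ H ∧ p.1 * p.2 * p.1⁻¹ ∈ H} → T × H × H := fun p =>
    (⟨t p.1.1, ht _⟩, ⟨p.1.1 * p.1.2 * p.1.1⁻¹ * a p.1.1, H.mul_mem p.2.2 (ha _)⟩,
      ⟨b p.1.1 * p.1.2⁻¹, H.mul_mem (hb _) (H.inv_mem p.2.1)⟩)
  have hF : Function.Injective F := by
    rintro ⟨⟨c, h⟩, h1, h2⟩ ⟨⟨c', h'⟩, h1', h2'⟩ hE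
    simp only [F, Prod.mk.injEq, Subtype.mk.injEq] at hE
    obtain ⟨e1, e2, e3⟩ := hE
    have key : ∀ c h : G, c * h * c⁻¹ * a c * t c * (b c * h⁻¹) = c := by
      intro c h
      have : c * h * c⁻¹ * a c * t c * (b c * h⁻¹) = c * h * c⁻¹ * (a c * t c * b c) * h⁻¹ := by group
      rw [this, ← e c]
      group
    have h3 : c = c' := by
      rw [← key c h, ← key c' h', e1, e2, e3]
    subst h3
    have h4 : h = h' := inv_injective (mul_left_cancel e3)
    subst h4
    rfl
  have h1 := Nat.card_le_card_of_injective F hF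
  refine h1.trans ?_
  rw [Nat.card_prod, Nat.card_prod, Nat.card_eq_fintype_card, Fintype.card_coe, sq]
  exact Nat.mul_le_mul_right _ hT

/-- the number of the `a` with `a g a⁻¹ ∈ H` -/
noncomputable def perm [Fintype G] (H : Subgroup G) (g : G) : ℂ :=
  open scoped Classical in ((Finset.univ.filter fun a : G => a * g * a⁻¹ ∈ H).card : ℂ)

theorem perm_class [Fintype G] (H : Subgroup G) : IsClassFunction G (perm H) := by
  classical
  intro g x
  unfold perm
  norm_cast
  refine Finset.card_bij (fun a _ => a * x) ?_ ?_ ?_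
  · intro a ha
    rw [Finset.mem_filter] at ha ⊢
    refine ⟨Finset.mem_univ _, ?_⟩
    have e : a * x * g * (a * x)⁻¹ = a * (x * g * x⁻¹) * a⁻¹ := by group
    rw [e]
    exact ha.2
  · intro a _ b _ h
    exact mul_right_cancel h
  · intro a ha
    rw [Finset.mem_filter] at ha
    refine ⟨a * x⁻¹, ?_, by group⟩
    rw [Finset.mem_filter]
    refine ⟨Finset.mem_univ _, ?_⟩
    have e : a * x⁻¹ * (x * g * x⁻¹) * (a * x⁻¹)⁻¹ = a * g * a⁻¹ := by group
    rw [e]
    exact ha.2

/-- Frobenius reciprocity -/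
theorem sum_perm_mul [Fintype G] (H : Subgroup G) [Fintype H] {f : G → ℂ} (hf : IsClassFunction G f) :
    ∑ g : G, perm H g * f g = (Nat.card G : ℂ) * ∑ h : H, f h := by
  classical
  have e1 : ∀ g : G, perm H g * f g = ∑ a : G, if a * g * a⁻¹ ∈ H then f g else 0 := by
    intro g
    unfold perm
    rw [← Finset.sum_filter, Finset.sum_const, nsmul_eq_mul]
  rw [Finset.sum_congr rfl fun g _ => e1 g, Finset.sum_comm]
  have e2 : ∀ a : G, (∑ g : G, if a * g * a⁻¹ ∈ H then f g else 0) = ∑ h : H, f h := by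
    intro a
    have e3 : (∑ g : G, if a * g * a⁻¹ ∈ H then f g else 0) = ∑ g : G, if g ∈ H then f g else 0 := by
      refine Fintype.sum_equiv (MulAut.conj a).toEquiv _ _ fun g => ?_
      show _ = if a * g * a⁻¹ ∈ H then f (a * g * a⁻¹) else 0
      rw [hf g a]
    rw [e3, ← Finset.sum_filter]
    refine Finset.sum_bij' (fun g hg => (⟨g, (Finset.mem_filter.1 hg).2⟩ : H)) (fun h _ => (h : G)) ?_ ?_ ?_ ?_ ?_
    · intro g _; exact Finset.mem_univ _
    · intro h _; exact Finset.mem_filter.2 ⟨Finset.mem_univ _, h.2⟩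
    · intro g _; rfl
    · intro h _; rfl
    · intro g _; rfl
  rw [Finset.sum_congr rfl fun a _ => e2 a, Finset.sum_const, nsmul_eq_mul, Finset.card_univ, ← Nat.card_eq_fintype_card]

theorem sq_le_of_cover {H : Subgroup G} {n : ℕ} (hDC : PQR.DC H n) [Fintype H] {χ : G → ℂ} (hχ : IsIrrCharacter G χ)
    {m : ℕ} (hm : classInner (fun h : H => χ h) 1 = m) : m ^ 2 ≤ n := by
  classical
  have := Fintype.ofFinite G
  have := finite_irr (G := G)
  have := Fintype.ofFinite (IrrCharacter G)
  have hG0 : (Nat.card G : ℂ) ≠ 0 := by exact_mod_cast Nat.card_pos.ne'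
  have hH0 : (Nat.card H : ℂ) ≠ 0 := by exact_mod_cast Nat.card_pos.ne'
  have h1 : classInner (perm H) χ = Nat.card H * m := by
    rw [classInner_def]
    have h2 := sum_perm_mul H (f := fun g => conj (χ g)) (fun g x => by
      show conj (χ _) = conj (χ _)
      rw [isIrr_isClassFunction hχ g x])
    rw [h2, ← mul_assoc, inv_mul_cancel₀ hG0, one_mul]
    have h3 : classInner (fun h : H => χ h) 1 = m := hm
    rw [classInner_def] at h3
    have h4 : ∑ h : H, χ h = Nat.card H * m := by
      rw [← h3, ← mul_assoc, mul_inv_cancel₀ hH0, one_mul]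
      refine Finset.sum_congr rfl fun h _ => ?_
      simp
    have h5 : ∑ h : H, conj (χ h) = conj (∑ h : H, χ h) := by rw [map_sum]
    show ∑ h : H, conj (χ h) = _
    rw [h5, h4, map_mul, Complex.conj_natCast, Complex.conj_natCast]
  have h2 : classInner (perm H) (perm H) = (Nat.card {p : G × G // p.2 ∈ H ∧ p.1 * p.2 * p.1⁻¹ ∈ H} : ℂ) := by
    rw [classInner_def]
    have hreal : ∀ g, conj (perm H g) = perm H g := by
      intro g
      unfold perm
      rw [Complex.conj_natCast]
    simp only [hreal]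
    rw [sum_perm_mul H (perm_class H), ← mul_assoc, inv_mul_cancel₀ hG0, one_mul]
    unfold perm
    norm_cast
    rw [Nat.card_eq_fintype_card, Fintype.card_subtype, ← Finset.card_sigma]
    refine Finset.card_bij (fun p _ => (p.2, (p.1 : G))) ?_ ?_ ?_
    · rintro ⟨h, a⟩ hp
      rw [Finset.mem_sigma, Finset.mem_filter] at hp
      rw [Finset.mem_filter]
      exact ⟨Finset.mem_univ _, h.2, hp.2.2⟩
    · rintro ⟨h, a⟩ _ ⟨h', a'⟩ _ e
      simp only [Prod.mk.injEq] at e
      obtain ⟨e1, e2⟩ := e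
      have e3 : h = h' := Subtype.ext e2
      subst e3
      subst e1
      rfl
    · rintro ⟨a, h⟩ hp
      rw [Finset.mem_filter] at hp
      refine ⟨⟨⟨h, hp.2.1⟩, a⟩, ?_, rfl⟩
      rw [Finset.mem_sigma, Finset.mem_filter]
      exact ⟨Finset.mem_univ _, Finset.mem_univ _, hp.2.2⟩
  have h3 := classInner_eq_sum (perm_class H) (perm_class H)
  generalize hN : Nat.card {p : G × G // p.2 ∈ H ∧ p.1 * p.2 * p.1⁻¹ ∈ H} = N at h2
  have h8 := card_pairs_le hDC
  rw [hN] at h8
  let q : IrrCharacter G → ℝ := fun ψ => ‖classInner (perm H) (ψ : G → ℂ)‖ ^ 2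
  have h4 : ((N : ℝ) : ℂ) = ((∑ ψ : IrrCharacter G, q ψ : ℝ) : ℂ) := by
    rw [Complex.ofReal_natCast, ← h2, h3, Complex.ofReal_sum]
    refine Finset.sum_congr rfl fun ψ _ => ?_
    rw [Complex.mul_conj, Complex.normSq_eq_norm_sq]
  have h5 : (N : ℝ) = ∑ ψ : IrrCharacter G, q ψ := Complex.ofReal_injective h4
  have h6' : q ⟨χ, hχ⟩ ≤ ∑ ψ : IrrCharacter G, q ψ :=
    Finset.single_le_sum (f := q) (a := (⟨χ, hχ⟩ : IrrCharacter G)) (s := Finset.univ)
      (fun ψ _ => sq_nonneg ‖classInner (perm H) (ψ : G → ℂ)‖) (Finset.mem_univ _)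
  rw [← h5] at h6'
  have h6 : ‖classInner (perm H) χ‖ ^ 2 ≤ (N : ℝ) := h6'
  rw [h1, norm_mul, Complex.norm_natCast, Complex.norm_natCast] at h6
  have h9 : ((Nat.card H : ℝ) * m) ^ 2 ≤ n * (Nat.card H : ℝ) ^ 2 := h6.trans (by exact_mod_cast h8)
  rw [mul_pow, mul_comm] at h9
  have hHp : (0 : ℝ) < (Nat.card H : ℝ) ^ 2 := pow_pos (by exact_mod_cast Nat.card_pos) 2
  have h10 : (m : ℝ) ^ 2 ≤ n := le_of_mul_le_mul_right h9 hHp
  exact_mod_cast h10

end cover

end Cfsg.Agent.H606.Avg
end

-- part: H606/PQR/DCLib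
section
/-!
# Coverings by double cosets (helper606, for S3988)
-/

set_option autoImplicit false

open Subgroup

namespace Cfsg.Agent.H606.PQR

theorem DC.map {G G' : Type*} [Group G] [Group G'] (e : G ≃* G') {H : Subgroup G} {n : ℕ} (h : DC H n) :
    DC (H.map e.toMonoidHom) n := by
  classical
  obtain ⟨T, hT, hc⟩ := h
  refine ⟨T.image e, Finset.card_image_le.trans hT, fun g => ?_⟩
  obtain ⟨a, ha, t, ht, b, hb, h1⟩ := hc (e.symm g)
  refine ⟨e a, ⟨a, ha, rfl⟩, e t, Finset.mem_image_of_mem _ ht, e b, ⟨b, hb, rfl⟩, ?_⟩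
  rw [← map_mul, ← map_mul, ← h1, e.apply_symm_apply]

/-- the centralizers of conjugate elements of isomorphic groups -/
theorem DC.cent {G G' : Type*} [Group G] [Group G'] (e : G ≃* G') {x : G} {y : G'} (hxy : IsConj (e x) y) {n : ℕ}
    (h : DC (centralizer ({x} : Set G)) n) : DC (centralizer ({y} : Set G')) n := by
  obtain ⟨k, hk⟩ := isConj_iff.1 hxy
  have h1 := (DC.map (e.trans (MulAut.conj k)) h)
  have h2 : (centralizer ({x} : Set G)).map (e.trans (MulAut.conj k)).toMonoidHom = centralizer ({y} : Set G') := by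
    ext g
    rw [mem_centralizer_singleton_iff]
    constructor
    · rintro ⟨a, ha, rfl⟩
      have ha' : a * x = x * a := mem_centralizer_singleton_iff.1 ha
      show k * e a * k⁻¹ * y = y * (k * e a * k⁻¹)
      rw [← hk]
      have e1 : e a * e x = e x * e a := by rw [← map_mul, ha', map_mul]
      calc k * e a * k⁻¹ * (k * e x * k⁻¹) = k * (e a * e x) * k⁻¹ := by group
        _ = k * (e x * e a) * k⁻¹ := by rw [e1]
        _ = _ := by group
    · intro hg
      refine ⟨e.symm (k⁻¹ * g * k), ?_, ?_⟩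
      · show e.symm (k⁻¹ * g * k) ∈ centralizer ({x} : Set G)
        rw [mem_centralizer_singleton_iff]
        apply e.injective
        rw [map_mul e, map_mul e, e.apply_symm_apply]
        have e1 : e x = k⁻¹ * y * k := by rw [← hk]; group
        rw [e1]
        calc k⁻¹ * g * k * (k⁻¹ * y * k) = k⁻¹ * (g * y) * k := by group
          _ = k⁻¹ * (y * g) * k := by rw [hg]
          _ = _ := by group
      · show k * e (e.symm (k⁻¹ * g * k)) * k⁻¹ = g
        rw [e.apply_symm_apply]
        group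
  rwa [h2] at h1

/-- the stabiliser of a point in a transitive action, the colours of the pairs are the orbits on pairs -/
theorem DC.of_col {G X : Type*} [Group G] [MulAction G X] {n : ℕ} {c : X → X → Fin n}
    (tr : ∀ x y x' y' : X, c x y = c x' y' → ∃ g : G, g • x = x' ∧ g • y = y') (x : X) {H : Subgroup G}
    (hH : ∀ g : G, g • x = x → g ∈ H) : DC H n := by
  classical
  let f : Fin n → G := fun u => if h : ∃ g : G, c x (g • x) = u then h.choose else 1
  refine ⟨Finset.univ.image f, Finset.card_image_le.trans (by simp only [_root_.Finset.card_univ, _root_.Fintype.card_fin, _root_.Std.le_refl]), fun g => ?_⟩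
  have h1 : ∃ g' : G, c x (g' • x) = c x (g • x) := ⟨g, rfl⟩
  have h2 : c x (f (c x (g • x)) • x) = c x (g • x) := by
    simp only [f]
    rw [dif_pos h1]
    exact h1.choose_spec
  obtain ⟨k, hk1, hk2⟩ := tr _ _ _ _ h2
  refine ⟨k, hH _ hk1, f (c x (g • x)), Finset.mem_image_of_mem _ (Finset.mem_univ _), (k * f (c x (g • x)))⁻¹ * g, ?_, ?_⟩
  · apply hH
    rw [mul_smul, inv_smul_eq_iff, mul_smul, hk2]
  · group

/-- a subgroup of index at most two -/
theorem DC.of_index_two {G : Type*} [Group G] {C H : Subgroup G} {n : ℕ} (h : DC C n) {c : G}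
    (hc : ∀ g ∈ C, g ∈ H ∨ g * c⁻¹ ∈ H) (hc' : ∀ g ∈ C, g ∈ H ∨ c⁻¹ * g ∈ H) : DC H (4 * n) := by
  classical
  obtain ⟨T, hT, hcov⟩ := h
  refine ⟨T.image (fun t => t) ∪ T.image (fun t => c * t) ∪ (T.image (fun t => t * c) ∪ T.image (fun t => c * t * c)),
    ?_, fun g => ?_⟩
  · refine (Finset.card_union_le _ _).trans ?_
    have h1 := Finset.card_union_le (T.image (fun t => t)) (T.image (fun t => c * t))
    have h2 := Finset.card_union_le (T.image (fun t => t * c)) (T.image (fun t => c * t * c))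
    have h3 := Finset.card_image_le (s := T) (f := fun t => t)
    have h4 := Finset.card_image_le (s := T) (f := fun t => c * t)
    have h5 := Finset.card_image_le (s := T) (f := fun t => t * c)
    have h6 := Finset.card_image_le (s := T) (f := fun t => c * t * c)
    omega
  · obtain ⟨a, ha, t, ht, b, hb, e⟩ := hcov g
    rcases hc a ha with h1 | h1 <;> rcases hc' b hb with h2 | h2
    · exact ⟨a, h1, t, Finset.mem_union_left _ (Finset.mem_union_left _ (Finset.mem_image.2 ⟨t, ht, rfl⟩)), b, h2, e⟩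
    · refine ⟨a, h1, t * c, Finset.mem_union_right _ (Finset.mem_union_left _ (Finset.mem_image.2 ⟨t, ht, rfl⟩)),
        c⁻¹ * b, h2, ?_⟩
      rw [e]; group
    · refine ⟨a * c⁻¹, h1, c * t, Finset.mem_union_left _ (Finset.mem_union_right _ (Finset.mem_image.2 ⟨t, ht, rfl⟩)),
        b, h2, ?_⟩
      rw [e]; group
    · refine ⟨a * c⁻¹, h1, c * t * c, Finset.mem_union_right _ (Finset.mem_union_right _ (Finset.mem_image.2 ⟨t, ht, rfl⟩)),
        c⁻¹ * b, h2, ?_⟩
      rw [e]; group

theorem DC.of_relIndex_two {G : Type*} [Group G] {C H : Subgroup G} {n : ℕ} (h : DC C n) (hi : H.relIndex C = 2) :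
    DC H (4 * n) := by
  have h1 : (H.subgroupOf C).index = 2 := hi
  obtain ⟨c, hc⟩ := Subgroup.index_eq_two_iff.1 h1
  have key : ∀ g ∈ C, g ∈ H ∨ g * (c : G) ∈ H := by
    intro g hg
    rcases hc ⟨g, hg⟩ with h2 | h2
    · exact Or.inr (mem_subgroupOf.1 h2.1)
    · exact Or.inl (mem_subgroupOf.1 h2.1)
  refine DC.of_index_two (c := (c : G)⁻¹) h (fun g hg => ?_) fun g hg => ?_
  · rw [inv_inv]; exact key g hg
  · rw [inv_inv]
    rcases key g⁻¹ (C.inv_mem hg) with h2 | h2
    · exact Or.inl (by simpa using H.inv_mem h2)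
    · right
      -- `g⁻¹ c ∈ H`, `H` is normal in `C`
      have h3 : (H.subgroupOf C).Normal := Subgroup.normal_of_index_eq_two h1
      rcases key ((c : G) * g) (C.mul_mem c.2 hg) with h4 | h4
      · exact h4
      · -- `c g c ∈ H` and `g⁻¹ c ∈ H`: `c c ∈ H`-coset argument
        have h5 : (c : G) * c ∈ H := by
          have := Subgroup.mul_self_mem_of_index_two h1 c
          exact mem_subgroupOf.1 this
        have h6 : (c : G) * g * c * (g⁻¹ * c) ∈ H := H.mul_mem h4 h2
        have h7 : (c : G) * g * c ∈ H := h4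
        -- conjugate `g⁻¹ c` by `c`
        have h8 : (c : G) * (g⁻¹ * c) * (c : G)⁻¹ ∈ H := by
          have := h3.conj_mem ⟨g⁻¹ * c, C.mul_mem (C.inv_mem hg) c.2⟩ (mem_subgroupOf.2 h2) c
          exact mem_subgroupOf.1 this
        have h9 : (c : G) * g⁻¹ ∈ H := by
          have e : (c : G) * (g⁻¹ * c) * (c : G)⁻¹ = c * g⁻¹ := by group
          rwa [e] at h8
        have h10 : g * (c : G)⁻¹ ∈ H := by
          have := H.inv_mem h9
          rwa [mul_inv_rev, inv_inv] at this
        have h11 : (c : G)⁻¹ * g ∈ H := by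
          have := h3.conj_mem ⟨g * (c : G)⁻¹, C.mul_mem hg (C.inv_mem c.2)⟩ (mem_subgroupOf.2 h10) c⁻¹
          have h12 : (c : G)⁻¹ * (g * (c : G)⁻¹) * ((c : G)⁻¹)⁻¹ ∈ H := mem_subgroupOf.1 this
          have e : (c : G)⁻¹ * (g * (c : G)⁻¹) * ((c : G)⁻¹)⁻¹ = (c : G)⁻¹ * g := by group
          rwa [e] at h12
        have e : (c : G) * g = (c * c) * ((c : G)⁻¹ * g) := by group
        rw [e]
        exact H.mul_mem h5 h11

end Cfsg.Agent.H606.PQR
end

private theorem dce_49833f52b37b : _root_.True := by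
  try have : _root_.True := by simp only [_root_.Cfsg.Agent.H562.PQR.Lift.cnt.congr_simp]
  try have : _root_.True := by simp only [_root_.Cfsg.Agent.H562.PQR.Lift.diag.congr_simp]
  try have : _root_.True := by simp only [_root_.Cfsg.Agent.H562.PQR.Lift.F.congr_simp]
  try have : _root_.True := by simp only [_root_.Cfsg.Agent.H562.PQR.Lift.cnt.eq_1]
  exact _root_.True.intro
end

-- part: S3988
section
prune_inst 0x52044200162020000040512100040240400009000200000c9a00146000048220d022140388010021800a2000009000002880020400000000a84400000000100000042003340a01522001800008c010000300880000000000000000000000000014010000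
set_option linter.all false
open scoped Cfsg.Agent.FastGrp

-- part: H588/PQR/Crit
section
/-!
# Triples from the numeric criterion (helper588, PQR-C1 of S3988)

`trip_of_mem` : conjugates of `x`, `y` of `a`-, `b`-power order (`{2, p} ⊆ {a, b}` or via `B`) with product of order in `B`.
`trip_ratio` : `u` of prime order `l`, `2 ∣ |N(⟨u⟩)|`, `2 ∤ |C(u)|`; `y` of order `p`; `B` a finite set of primes `≠ 2, p`
dividing `|S|` exactly once.
`trip_cent` : `x`, `y` of orders `a`, `b`, and a set `Z` of `c`-elements.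
-/

set_option autoImplicit false

namespace Cfsg.Agent.H588.Ratio

open Cfsg Cfsg.Agent.H562.PQR
open Cfsg.Agent.H80.Fpf (MultDvd)

universe u

variable {S : Type u} [Group S]

theorem trip_of_mem {m a b p : ℕ} (hm : MultDvd S m) (hm' : ∀ s : ℕ, s.Prime → s ∣ m → s = 2 ∨ s = a ∨ s = b)
    (ha : a.Prime) (hb : b.Prime) (hab : a ≠ b) {x y : S} (hx : PE a x) (hy : PE b y) {Z : Set S}
    (hZ : ∀ z ∈ Z, ∃ c : ℕ, c.Prime ∧ c ≠ a ∧ c ≠ b ∧ PE c z ∧ (p = a ∨ p = b ∨ p = c) ∧ (2 = a ∨ 2 = b ∨ 2 = c))
    (h : ∃ g h : S, g * x * g⁻¹ * (h * y * h⁻¹) ∈ Z) : Trip p S := by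
  obtain ⟨g, k, hgk⟩ := h
  obtain ⟨c, hc, hca, hcb, hz, h1, h2⟩ := hZ _ hgk
  refine ⟨a, b, c, h1, h2, TripABC.of_mult hm (fun s hs hsm => ?_) ha hb hc hab hca.symm hcb.symm
    (hx.conj g) (hy.conj k) hz.inv (mul_inv_cancel _)⟩
  rcases hm' s hs hsm with h3 | h3 | h3
  · exact Or.inl h3
  · exact Or.inr (Or.inl h3)
  · exact Or.inr (Or.inr (Or.inl h3))

variable [Finite S]

/-- the proportion of `B`-elements -/
theorem card_div {B : Finset ℕ} {n : ℕ → ℕ} (hB : ∀ b ∈ B, b.Prime ∧ ¬ b ^ 2 ∣ Nat.card S ∧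
      ∃ z : S, orderOf z = b ∧ Nat.card (Subgroup.normalizer (Subgroup.zpowers z : Set S)) = n b) (hne : B.Nonempty) :
    {x : S | orderOf x ∈ B}.Nonempty ∧
      (Nat.card S : ℝ) / Nat.card {x : S | orderOf x ∈ B} = 1 / ∑ b ∈ B, ((b : ℝ) - 1) / n b := by
  constructor
  · obtain ⟨b, hb⟩ := hne
    obtain ⟨-, -, z, hz, -⟩ := hB b hb
    exact ⟨z, by show orderOf z ∈ B; rwa [hz]⟩
  · rw [card_primes B]
    have h1 : ∀ b ∈ B, (Nat.card {x : S // orderOf x = b} : ℝ) = (Nat.card S : ℝ) * (((b : ℝ) - 1) / n b) := by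
      intro b hb
      obtain ⟨h2, h3, z, hz, hn⟩ := hB b hb
      exact card_prime_div h2 h3 hz hn
    rw [Finset.sum_congr rfl h1, ← Finset.mul_sum]
    have h0 : (Nat.card S : ℝ) ≠ 0 := by exact_mod_cast Nat.card_pos.ne'
    rw [div_mul_eq_div_div, div_self h0]

end Cfsg.Agent.H588.Ratio
end

-- part: H606/PQR/RowLib
section
/-!
# Lifting of the sets of `2`-elements, triples (helper606, for S3988)
-/

set_option autoImplicit false

open Cfsg

namespace Cfsg.Agent.H606.Avg

open Cfsg.Agent.Characters.Core Cfsg.Agent.H562.PQR Cfsg.Agent.H606.PQR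
open Cfsg.Agent.H80.Fpf (MultDvd)

universe u v

theorem exists_avg {G : Type u} [Group G] [Finite G] {K : Type v} [Group K] [Finite K] {H : Subgroup G} {φ : ↥H →* K}
    (hφ : Function.Surjective φ) (hker : Nat.card φ.ker = 2) {n : ℕ} (hDC : DC H n) {j : ℕ} (hj : n < (j + 1) ^ 2)
    {D : ℝ} (hD0 : 0 < D) (hD : ∀ χ : G → ℂ, IsIrrCharacter G χ → χ ≠ 1 → D ≤ ‖χ 1‖)
    {R : Finset K} (hRne : R.Nonempty) (hR2 : ∀ x ∈ R, ∃ k : ℕ, orderOf x = 2 ^ k) {r : ℝ} (hr : 0 ≤ r) (hA : Avg R r) :
    ∃ X : Finset G, X.Nonempty ∧ (∀ x ∈ X, ∃ k : ℕ, orderOf x = 2 ^ k) ∧ Avg X (j / D + r) := by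
  classical
  have := Fintype.ofFinite ↥H
  refine ⟨pre φ R, ?_, fun x hx => ?_, Avg.lift hφ hr hA fun χ hχ h1 m hm => ?_⟩
  · obtain ⟨k, hk⟩ := hRne
    obtain ⟨x, hx⟩ := hφ k
    exact ⟨x, mem_pre.2 ⟨x.2, by rw [← hx] at hk; exact hk⟩⟩
  · obtain ⟨hxH, hxR⟩ := mem_pre.1 hx
    obtain ⟨k, hk⟩ := hR2 _ hxR
    have h1 : (⟨x, hxH⟩ : ↥H) ^ 2 ^ k ∈ φ.ker := by
      rw [MonoidHom.mem_ker, map_pow, ← hk, pow_orderOf_eq_one]
    have h2 : ((⟨x, hxH⟩ : ↥H) ^ 2 ^ k) ^ 2 = 1 := by
      have h3 : (⟨_, h1⟩ : φ.ker) ^ Nat.card φ.ker = 1 := pow_card_eq_one'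
      rw [hker] at h3
      exact congrArg Subtype.val h3
    have h3 : x ^ 2 ^ (k + 1) = 1 := by
      rw [← pow_mul, ← pow_succ] at h2
      exact congrArg Subtype.val h2
    obtain ⟨i, -, hi⟩ := (Nat.dvd_prime_pow Nat.prime_two).1 (orderOf_dvd_of_pow_eq_one h3)
    exact ⟨i, hi⟩
  · have h2 := sq_le_of_cover hDC hχ hm
    have h3 : m ≤ j := by
      have h4 : m ^ 2 < (j + 1) ^ 2 := lt_of_le_of_lt h2 hj
      have := lt_of_pow_lt_pow_left₀ 2 (Nat.zero_le _) h4
      omega
    have h4 : (1 : ℝ) ≤ ‖χ 1‖ / D := by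
      rw [one_le_div hD0]
      exact hD χ hχ h1
    calc (m : ℝ) ≤ j := by exact_mod_cast h3
      _ = j * 1 := (mul_one _).symm
      _ ≤ j * (‖χ 1‖ / D) := mul_le_mul_of_nonneg_left h4 (Nat.cast_nonneg _)
      _ = j / D * ‖χ 1‖ := by ring

/-- triples from the averages -/
theorem trip_avg {S : Type u} [Group S] [Finite S] {m p q : ℕ} (hm : MultDvd S m)
    (hm' : ∀ s : ℕ, s.Prime → s ∣ m → s = 2) {X : Finset S} (hXne : X.Nonempty)
    (hX2 : ∀ x ∈ X, ∃ k : ℕ, orderOf x = 2 ^ k) {R : ℝ} (hR : Avg X R) (hq : q.Prime) (hq2 : q ≠ 2) {y : S}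
    (hy : orderOf y = q) {B : Finset ℕ} (hBne : B.Nonempty) {n : ℕ → ℕ}
    (hB : ∀ b ∈ B, b.Prime ∧ ¬ b ^ 2 ∣ Nat.card S ∧
      ∃ z : S, orderOf z = b ∧ Nat.card (Subgroup.normalizer (Subgroup.zpowers z : Set S)) = n b)
    (hB2 : ∀ b ∈ B, b ≠ 2 ∧ b ≠ q) (hp : p = q ∨ ∀ b ∈ B, p = b) {c : ℕ}
    (hc : Nat.card (Subgroup.centralizer ({y} : Set S)) ≤ c) {s : ℝ} (hs : ∑ b ∈ B, ((b : ℝ) - 1) / n b = s)
    (hs1 : 1 ≤ 1 / s) (hnum : R ^ 2 * ((c : ℝ) - 1) * (1 / s - 1) < 1) : Trip p S := by
  obtain ⟨hZne, hZ⟩ := Cfsg.Agent.H588.Ratio.card_div hB hBne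
  rw [hs] at hZ
  have hc' : (Nat.card (Subgroup.centralizer ({y} : Set S)) : ℝ) ≤ c := by exact_mod_cast hc
  obtain ⟨x, hx, g, h, hz⟩ := exists_mul_mem (y := y) hXne hR hZne (by
    rw [hZ]
    refine lt_of_le_of_lt ?_ hnum
    refine mul_le_mul_of_nonneg_right ?_ (by linarith only [hs1])
    exact mul_le_mul_of_nonneg_left (by linarith only [hc']) (by positivity))
  have hz' : orderOf (g * x * g⁻¹ * (h * y * h⁻¹)) ∈ B := hz
  have hx1 : x ≠ 1 := by
    rintro rfl
    have e : g * 1 * g⁻¹ * (h * y * h⁻¹) = MulAut.conj h y := by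
      rw [mul_one, mul_inv_cancel, one_mul]; rfl
    rw [e, MulEquiv.orderOf_eq, hy] at hz'
    exact (hB2 q hz').2 rfl
  refine Cfsg.Agent.H588.Ratio.trip_of_mem (a := 2) (b := q) hm (fun s hs hsm => Or.inr (Or.inl ?_)) Nat.prime_two hq
    hq2.symm ⟨hx1, hX2 x hx⟩ (PE.of_orderOf hq hy) (Z := {x : S | orderOf x ∈ B}) (fun z hz => ?_) ⟨g, h, hz⟩
  · exact hm' s hs hsm
  · have h3 : orderOf z ∈ B := hz
    refine ⟨orderOf z, (hB _ h3).1, (hB2 _ h3).1, (hB2 _ h3).2, PE.of_orderOf (hB _ h3).1 rfl, ?_, Or.inl rfl⟩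
    rcases hp with h4 | h4
    · exact Or.inr (Or.inl h4)
    · exact Or.inr (Or.inr (h4 _ h3))

end Cfsg.Agent.H606.Avg
end

-- part: H606/PQR/E6
section
/-!
# The `2`-elements of `²E₆(2)` (helper606, for S3988)

Their number is `2 ^ 72` and all nontrivial irreducible characters of `²E₆(2)` have degree at least `1938`.
-/

set_option autoImplicit false

open Cfsg

namespace Cfsg.Agent.H606.Avg

open Cfsg.Agent.Characters.Core

/-- the order of `²E₆(2)` -/
theorem card_te6 {K : Type} [Field K] [Fintype K] (hK : Fintype.card K = 4) :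
    Nat.card ↥(Lie.twistedE6 K 2) = 76532479683774853939200 := by
  have h := Cfsg.Agent.S1066.result (K := K) (q := 2) ⟨2, 1, Nat.prime_two.prime, by norm_num, by norm_num⟩
    (by rw [hK]; norm_num)
  norm_num only [] at h
  omega

theorem isPrimePow_two : IsPrimePow 2 := Nat.prime_two.isPrimePow

/-- the degrees of the nontrivial irreducible characters of `²E₆(2)` -/
theorem degree_te6 {K : Type} [Field K] [Fintype K] (hK : Fintype.card K = 4) (χ : ↥(Lie.twistedE6 K 2) → ℂ)
    (hχ : IsIrrCharacter _ χ) (h1 : χ ≠ 1) : (1938 : ℝ) ≤ ‖χ 1‖ := by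
  have hK' : Fintype.card K = 2 ^ 2 := by rw [hK]; norm_num
  have hs := Cfsg.Agent.S1070.result (K := K) (q := 2) isPrimePow_two hK'
  have := hs.1
  obtain ⟨k, ρ, hρ, e⟩ := hχ
  have hk : χ 1 = k := by
    rw [← e, Representation.char_one, Module.finrank_fin_fun]
  rw [hk, Complex.norm_natCast]
  have hk0 : k ≠ 0 := by
    rintro rfl
    exact isIrr_apply_one_ne_zero ⟨0, ρ, hρ, e⟩ (by rw [hk]; simp)
  have hk1 : k ≠ 1 := by
    rintro rfl
    refine h1 (Cfsg.Agent.H462.T3.eq_one_of_perfect ?_ ⟨1, ρ, hρ, e⟩ (by rw [hk]; simp))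
    rcases (inferInstance : (commutator ↥(Lie.twistedE6 K 2)).Normal).eq_bot_or_eq_top with h | h
    · have h3 := (commutator_eq_bot_iff_center_eq_top _).1 h
      refine absurd ⟨⟨fun a b => ?_⟩⟩ hs.2
      have h4 : b ∈ Subgroup.center ↥(Lie.twistedE6 K 2) := by rw [h3]; exact Subgroup.mem_top b
      exact Subgroup.mem_center_iff.1 h4 a
    · exact h
  have h2 := Cfsg.Agent.S2341.result (K := K) 2 isPrimePow_two hK' k ρ hρ (by omega)
  norm_num at h2
  exact_mod_cast h2

theorem charP_two {K : Type} [Field K] [Fintype K] (hK : Fintype.card K = 4) : CharP K 2 := by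
  obtain ⟨p, hp⟩ := CharP.exists K
  have hpp : p.Prime := CharP.char_is_prime K p
  obtain ⟨n, -, hn⟩ := FiniteField.card K p
  rw [hK] at hn
  have h2 : p ∣ 2 ^ 2 := by
    have : p ∣ p ^ (n : ℕ) := dvd_pow_self p n.2.ne'
    rw [← hn] at this
    exact this
  have h3 := (Nat.prime_dvd_prime_iff_eq hpp Nat.prime_two).1 (hpp.dvd_of_dvd_pow h2)
  rwa [h3] at hp

/-- the average of the nontrivial irreducible characters over the `2`-elements -/
theorem avg_te6 {K : Type} [Field K] [Fintype K] (hK : Fintype.card K = 4) :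
    ∃ R : Finset ↥(Lie.twistedE6 K 2), R.Nonempty ∧ (∀ x ∈ R, ∃ k : ℕ, orderOf x = 2 ^ k) ∧ Avg R (208 / 100000) := by
  classical
  have := Fintype.ofFinite ↥(Lie.twistedE6 K 2)
  have := charP_two hK
  have : Fact (Nat.Prime 2) := ⟨Nat.prime_two⟩
  have hK' : Fintype.card K = 2 ^ 2 := by rw [hK]; norm_num
  have h1 := Cfsg.Agent.H115.card_pel_of_hasRGD' (p := 2) (G := ↥(Lie.twistedE6 K 2))
    (Cfsg.Agent.Nodes.RGDTwE6.hasRGD (K := K) isPrimePow_two hK' 2) (a := 36) (m := 76532479683774853939200 / 2 ^ 36)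
    (by rw [card_te6 hK]; norm_num) (by norm_num)
  refine ⟨Finset.univ.filter fun g => ∃ k : ℕ, orderOf g = 2 ^ k, ⟨1, ?_⟩, fun x hx => (Finset.mem_filter.1 hx).2, ?_⟩
  · exact Finset.mem_filter.2 ⟨Finset.mem_univ _, 0, by simp⟩
  · refine Avg.base (by norm_num) (D := 1938) (by norm_num) (degree_te6 hK) ?_
    rw [Nat.card_eq_fintype_card, Fintype.card_subtype] at h1
    rw [h1, card_te6 hK]
    norm_num

end Cfsg.Agent.H606.Avg
end

-- part: H606/PQR/Deg
section
/-!
# The degrees of the nontrivial irreducible characters of `B` and `M` (helper606, for S3988)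
-/

set_option autoImplicit false

open Cfsg

namespace Cfsg.Agent.H606.Avg

open Cfsg.Agent.Characters.Core

universe u

theorem ne_one_of_irr {G : Type u} [Group G] [Finite G] {n : ℕ} {ρ : Representation ℂ G (Fin n → ℂ)}
    (hρ : ρ.IsIrreducible) (h1 : ρ.character ≠ 1) : ρ ≠ 1 := by
  rintro rfl
  have := Fintype.ofFinite G
  have h2 : IsIrrCharacter G (Representation.character (1 : Representation ℂ G (Fin n → ℂ))) := ⟨n, 1, hρ, rfl⟩
  have h3 := sum_sq h2
  have h4 : ∀ g : G, Representation.character (1 : Representation ℂ G (Fin n → ℂ)) g = (n : ℂ) := by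
    intro g
    have : Representation.character (1 : Representation ℂ G (Fin n → ℂ)) g =
      Representation.character (1 : Representation ℂ G (Fin n → ℂ)) 1 := rfl
    rw [this, Representation.char_one, Module.finrank_fin_fun]
  simp only [h4, Complex.norm_natCast] at h3
  rw [Finset.sum_const, Finset.card_univ, nsmul_eq_mul, ← Nat.card_eq_fintype_card] at h3
  have h0 : (0 : ℝ) < Nat.card G := by exact_mod_cast Nat.card_pos
  have h5 : (n : ℝ) ^ 2 = 1 := by
    have := mul_left_cancel₀ h0.ne' (h3.trans (mul_one _).symm)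
    exact this
  have h6 : n = 1 := by
    have : n ^ 2 = 1 := by exact_mod_cast h5
    exact (pow_eq_one_iff.1 this).resolve_right (by norm_num)
  apply h1
  funext g
  rw [h4, h6]
  simp

theorem deg_B (χ : Spor.BabyMonster → ℂ) (hχ : IsIrrCharacter _ χ) (h1 : χ ≠ 1) [Finite Spor.BabyMonster] :
    (4371 : ℝ) ≤ ‖χ 1‖ := by
  obtain ⟨n, ρ, hρ, rfl⟩ := hχ
  have h2 := Cfsg.Agent.H863.BMin.min_degree (F := ℂ) (by norm_num) ρ (ne_one_of_irr hρ h1)
  rw [Representation.char_one, Complex.norm_natCast]
  exact_mod_cast h2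

theorem deg_M (χ : Spor.Monster → ℂ) (hχ : IsIrrCharacter _ χ) (h1 : χ ≠ 1) [Finite Spor.Monster] :
    (196883 : ℝ) ≤ ‖χ 1‖ := by
  obtain ⟨n, ρ, hρ, rfl⟩ := hχ
  have h3 := ne_one_of_irr hρ h1
  have h2 := Cfsg.Agent.H847.MonDeg.bound ρ (by
    by_contra hcon
    push Not at hcon
    exact h3 (MonoidHom.ext hcon))
  rw [Representation.char_one, Complex.norm_natCast]
  exact_mod_cast h2

end Cfsg.Agent.H606.Avg
end

-- part: H606/PQR/BOrb
section
/-!
# `2.²E₆(2)` in the Baby Monster (helper606, for S3988)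
-/

set_option autoImplicit false
set_option maxRecDepth 100000

open Subgroup

namespace Cfsg.Agent.H606.PQR

open Cfsg Cfsg.Agent.BabyM.Inst Cfsg.Agent.H995.BSch Cfsg.Agent.H995.BSchVal

/-- the rank of `B` on its transpositions is five -/
theorem dc_model : DC (centralizer ({(⟨M.t₀, BabyM.Instance.all.C_le_G BabyM.Instance.all.t₀_C⟩ : M.G)} : Set M.G)) 5 := by
  have h := sch.isCol BabyM.Instance.all BabyM.Instance.tr
  rw [← HH_eq BabyM.Instance.all BabyM.Instance.tr]
  refine DC.of_col (c := cX M) h.tr (QuotientGroup.mk 1) fun g hg => ?_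
  have h1 : (QuotientGroup.mk (g * 1) : X M) = QuotientGroup.mk 1 := hg
  rw [mul_one] at h1
  have h2 := (QuotientGroup.eq.1 h1.symm)
  simpa using h2

theorem dc_t1 : DC (centralizer ({(PresentedGroup.of Spor.BabyMonster.Gen.t1 : Spor.BabyMonster)} : Set Spor.BabyMonster)) 5 :=
  DC.cent BM.KHAll.iso.symm (by
    have h1 := BM.KH.conj_x .t1
    have h2 := BM.KHAll.iso_gB .t1
    have h3 : IsConj (BM.KHAll.iso.symm BM.KH.t0) (BM.KHAll.iso.symm (BM.StageW.x .t1)) := by
      obtain ⟨k, hk⟩ := isConj_iff.1 h1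
      exact isConj_iff.2 ⟨BM.KHAll.iso.symm k, by rw [← map_inv, ← map_mul, ← map_mul, hk]⟩
    rw [← h2, MulEquiv.symm_apply_apply] at h3
    exact h3) dc_model

theorem pieceB : PieceB := by
  have := CTwoTab.BInst.finite_B
  obtain ⟨K, iF, iT, hK, X₀, σ, HD⟩ := H329.Sec.BLev.exists_sec
    (IsConj.refl (PresentedGroup.of Spor.BabyMonster.Gen.t1 : Spor.BabyMonster))
  set t : Spor.BabyMonster := PresentedGroup.of Spor.BabyMonster.Gen.t1 with ht
  have hker : Nat.card σ.ker = 2 := by
    have e : (σ.ker : Set ↥X₀) = {1, ⟨t, HD.mem⟩} := by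
      ext m
      simp only [SetLike.mem_coe, MonoidHom.mem_ker, HD.ker, Set.mem_insert_iff, Set.mem_singleton_iff]
      constructor
      · rintro (h | h)
        · exact Or.inl (Subtype.ext h)
        · exact Or.inr (Subtype.ext h)
      · rintro (h | h)
        · exact Or.inl (by rw [h]; rfl)
        · exact Or.inr (by rw [h])
    have h1 : Nat.card σ.ker = (σ.ker : Set ↥X₀).ncard := rfl
    rw [h1, e]
    exact Set.ncard_pair fun h => HD.t_ne (congrArg Subtype.val h).symm
  have hcard : Nat.card X₀ = 2 * 76532479683774853939200 := by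
    have h1 := σ.ker.card_mul_index
    rw [Subgroup.index_ker, hker] at h1
    have h2 : Nat.card σ.range = Nat.card ↥(Lie.twistedE6 K 2) := by
      rw [MonoidHom.range_eq_top.2 HD.surj, card_top]
    rw [← h1, h2]
    have h := Cfsg.Agent.S1066.result (K := K) (q := 2) ⟨2, 1, Nat.prime_two.prime, by norm_num, by norm_num⟩
      (by rw [hK]; norm_num)
    norm_num only [] at h
    omega
  have hle : X₀ ≤ centralizer ({t} : Set Spor.BabyMonster) := fun m hm =>
    mem_centralizer_singleton_iff.2 (HD.comm m hm)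
  have hC : Nat.card (centralizer ({t} : Set Spor.BabyMonster)) = 306129918735099415756800 :=
    BM.KHAll.card_cent .t1
  refine ⟨K, iF, iT, X₀, σ, hK, HD.surj, hker, ?_⟩
  refine DC.of_relIndex_two dc_t1 ?_
  have h2 := Subgroup.relIndex_mul_relIndex ⊥ X₀ (centralizer ({t} : Set Spor.BabyMonster)) bot_le hle
  rw [Subgroup.relIndex_bot_left, Subgroup.relIndex_bot_left, hC, hcard] at h2
  show X₀.relIndex (centralizer ({t} : Set Spor.BabyMonster)) = 2
  omega

end Cfsg.Agent.H606.PQR
end

-- part: H606/PQR/MOrb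
section
/-!
# `2.B` in the Monster (helper606, for S3988)
-/

set_option autoImplicit false
set_option maxRecDepth 100000

open Subgroup

namespace Cfsg.Agent.H606.PQR

open Cfsg Cfsg.Agent.MonsterX.MainPack

/-- the rank of `M` on its transpositions is nine -/
theorem dc_model_M : DC (centralizer ({tG Cfsg.Agent.MonsterU.Uncond.all.hG Cfsg.Agent.MonsterU.Uncond.all.hR} :
    Set Cfsg.Agent.MonsterX.InstData.M.G)) 9 := by
  have A := Cfsg.Agent.MonsterU.Uncond.all
  refine DC.of_col (c := Cfsg.Agent.H816.MSch.c) Cfsg.Agent.H816.MSch.c_tr Cfsg.Agent.H816.MSch.b0 fun g hg => ?_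
  rw [mem_cent_t_iff' A.hG A.hR A.hL A.hO A.hT]
  exact congrArg Subtype.val hg

theorem pieceM : PieceM := by
  have A := Cfsg.Agent.MonsterU.Uncond.all
  have := Cfsg.Agent.H966.RowM.finite_m
  obtain ⟨f⟩ := Cfsg.Agent.MonsterP.Equiv.equiv
  obtain ⟨y, hy, hyc⟩ := Cfsg.Agent.S5534.result
  have hcy : Nat.card ↥(centralizer ({y} : Set Spor.Monster)) = 2 * 4154781481226426191177580544000000 := by
    rw [Cfsg.Agent.H966.RowM.card_center hyc, Cfsg.Agent.H713.Spor.B.card_b]
  have hy1 : f y ≠ 1 := by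
    intro h
    rw [map_eq_one_iff f f.injective] at h
    rw [h, orderOf_one] at hy
    exact absurd hy (by norm_num)
  have hyy : f y * f y = 1 := by
    rw [← map_mul, ← pow_two, ← hy, pow_orderOf_eq_one, map_one]
  have hcard : Nat.card ↥(centralizer ({f y} : Set _)) = 2 * 4154781481226426191177580544000000 := by
    rw [← hcy]
    refine Nat.card_congr (Equiv.subtypeEquiv f.toEquiv ?_).symm
    intro a
    rw [mem_centralizer_singleton_iff, mem_centralizer_singleton_iff]
    show _ ↔ f a * f y = f y * f a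
    rw [← map_mul, ← map_mul, f.injective.eq_iff]
  have hDC : DC (centralizer ({y} : Set Spor.Monster)) 9 := by
    rcases A.classes (f y) hyy hy1 with ⟨w, hw⟩ | ⟨w, hw⟩
    · exfalso
      rw [Cfsg.Agent.Blocks.SylowIn.card_centralizer_of_isConj (isConj_iff.2 ⟨w, hw⟩),
        Cfsg.Agent.H713.Spor.MOf.card_cent_z A.hG A.hR A.hL A.hO A.hT] at hcard
      exact absurd hcard (by norm_num)
    · refine DC.cent f.symm (isConj_iff.2 ⟨f.symm w, ?_⟩) dc_model_M
      rw [← map_inv, ← map_mul, ← map_mul, hw, f.symm_apply_apply]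
  obtain ⟨hZ, ⟨e⟩, -⟩ := hyc
  refine ⟨centralizer ({y} : Set Spor.Monster), e.toMonoidHom.comp (QuotientGroup.mk' _), ?_, ?_, hDC⟩
  · exact e.surjective.comp (QuotientGroup.mk'_surjective _)
  · have h1 : (e.toMonoidHom.comp (QuotientGroup.mk' (center ↥(centralizer ({y} : Set Spor.Monster))))).ker =
        center ↥(centralizer ({y} : Set Spor.Monster)) := by
      ext a
      rw [MonoidHom.mem_ker]
      show e _ = 1 ↔ _
      rw [map_eq_one_iff e e.injective]
      exact QuotientGroup.eq_one_iff a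
    rw [h1, hZ]

end Cfsg.Agent.H606.PQR
end

-- part: H926/PqrNot
section
/-!
# S3988, rows `B` and `M`: the easy primes (helper926, task 3774)
-/

set_option autoImplicit false

namespace Cfsg.Agent.H926.PqrNot

open Cfsg Subgroup
open Cfsg.Agent.H562.PQR Cfsg.Agent.H606.PQR

universe u

/-- a simple group whose order is divisible by two primes is not commutative -/
theorem nc (S : Type u) [Group S] [IsSimpleGroup S] {p q : ℕ} (hp : p.Prime) (hq : q.Prime)
    (hpq : p ≠ q) (h1 : p ∣ Nat.card S) (h2 : q ∣ Nat.card S) (h0 : Nat.card S ≠ 0) : ∃ x y : S, x * y ≠ y * x := by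
  by_contra hc
  push Not at hc
  have hfin : Finite S := Nat.finite_of_card_ne_zero h0
  let _ : CommGroup S := { mul_comm := hc }
  have h3 : (Nat.card S).Prime := IsSimpleGroup.prime_card
  exact hpq (((Nat.prime_dvd_prime_iff_eq hp h3).1 h1).trans ((Nat.prime_dvd_prime_iff_eq hq h3).1 h2).symm)

theorem eq_of {p q : ℕ} (hp : p.Prime) (hq : q.Prime) {k : ℕ} (h : p ∣ q ^ k) : p = q :=
  (Nat.prime_dvd_prime_iff_eq hp hq).1 (hp.dvd_of_dvd_pow h)

theorem eq_of' {p q : ℕ} (hp : p.Prime) (hq : q.Prime) (h : p ∣ q) : p = q :=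
  (Nat.prime_dvd_prime_iff_eq hp hq).1 h

theorem cases_b {p : ℕ} (hp : p.Prime) (h : p ∣ 4154781481226426191177580544000000) :
    p = 2 ∨ p = 3 ∨ p = 5 ∨ p = 7 ∨ p = 11 ∨ p = 13 ∨ p = 17 ∨ p = 19 ∨ p = 23 ∨ p = 31 ∨ p = 47 := by
  rw [show (4154781481226426191177580544000000 : ℕ) = 2 ^ 41 * 3 ^ 13 * 5 ^ 6 * 7 ^ 2 * 11 * 13 * 17 * 19 * 23 * 31 * 47 by
    norm_num] at h
  simp only [hp.dvd_mul] at h
  rcases h with (((((((((h | h) | h) | h) | h) | h) | h) | h) | h) | h) | h
  · exact Or.inl (eq_of hp (by norm_num) h)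
  · exact Or.inr (Or.inl (eq_of hp (by norm_num) h))
  · exact Or.inr (Or.inr (Or.inl (eq_of hp (by norm_num) h)))
  · exact Or.inr (Or.inr (Or.inr (Or.inl (eq_of hp (by norm_num) h))))
  · have := eq_of' hp (by norm_num) h; omega
  · have := eq_of' hp (by norm_num) h; omega
  · have := eq_of' hp (by norm_num) h; omega
  · have := eq_of' hp (by norm_num) h; omega
  · have := eq_of' hp (by norm_num) h; omega
  · have := eq_of' hp (by norm_num) h; omega
  · have := eq_of' hp (by norm_num) h; omega

theorem cases_m {p : ℕ} (hp : p.Prime) (h : p ∣ 808017424794512875886459904961710757005754368000000000) :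
    p = 2 ∨ p = 3 ∨ p = 5 ∨ p = 7 ∨ p = 11 ∨ p = 13 ∨ p = 17 ∨ p = 19 ∨ p = 23 ∨ p = 29 ∨ p = 31 ∨ p = 41 ∨ p = 47 ∨
      p = 59 ∨ p = 71 := by
  rw [show (808017424794512875886459904961710757005754368000000000 : ℕ) =
    2 ^ 46 * 3 ^ 20 * 5 ^ 9 * 7 ^ 6 * 11 ^ 2 * 13 ^ 3 * 17 * 19 * 23 * 29 * 31 * 41 * 47 * 59 * 71 by norm_num] at h
  simp only [hp.dvd_mul] at h
  rcases h with (((((((((((((h | h) | h) | h) | h) | h) | h) | h) | h) | h) | h) | h) | h) | h) | h
  · have := eq_of hp (by norm_num) h; omega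
  · have := eq_of hp (by norm_num) h; omega
  · have := eq_of hp (by norm_num) h; omega
  · have := eq_of hp (by norm_num) h; omega
  · have := eq_of hp (by norm_num) h; omega
  · have := eq_of hp (by norm_num) h; omega
  · have := eq_of' hp (by norm_num) h; omega
  · have := eq_of' hp (by norm_num) h; omega
  · have := eq_of' hp (by norm_num) h; omega
  · have := eq_of' hp (by norm_num) h; omega
  · have := eq_of' hp (by norm_num) h; omega
  · have := eq_of' hp (by norm_num) h; omega
  · have := eq_of' hp (by norm_num) h; omega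
  · have := eq_of' hp (by norm_num) h; omega
  · have := eq_of' hp (by norm_num) h; omega

theorem card_B : Nat.card Spor.BabyMonster = 4154781481226426191177580544000000 := NotCT.Orders.b ⟨MulEquiv.refl _⟩

theorem finite_B : Finite Spor.BabyMonster := Nat.finite_of_card_ne_zero (by rw [card_B]; norm_num)

/-- the primes of `Th` -/
theorem b_th {p : ℕ} (hp : p.Prime) (h : p ∣ 90745943887872000) : NotMin p Spor.BabyMonster := by
  have := finite_B
  have : Fact p.Prime := ⟨hp⟩
  obtain ⟨T, hT⟩ := H800.Sp.B.exists_th_B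
  have hc : Nat.card T = 90745943887872000 := NotCT.Orders.th hT
  have hs : IsSimpleGroup T := by
    have := Cfsg.Agent.MSevenT.simple_th
    exact (MulEquiv.isSimpleGroup_congr hT.some).2 this
  refine NotMin.of_injective T.subtype T.subtype_injective ?_ ?_
  · exact not_isPSolvable_of_simple (nc T (p := 2) (q := 3) (by norm_num) (by norm_num) (by norm_num)
      (by rw [hc]; norm_num) (by rw [hc]; norm_num) (by rw [hc]; norm_num)) hp (by rw [hc]; exact h)
  · rw [hc, card_B]; norm_num

/-- the primes of `Fi23` -/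
theorem b_fi {p : ℕ} (hp : p.Prime) (h : p ∣ 4089470473293004800) : NotMin p Spor.BabyMonster := by
  have : Fact p.Prime := ⟨hp⟩
  have hfin : Finite Cfsg.Agent.BabyM.Inst.M.G := Cfsg.Agent.BabyM.Instance.all.finite_G
  obtain ⟨e⟩ := Cfsg.Agent.KFacts.Baby.RowB.exists_iso (K := Spor.BabyMonster) ⟨MulEquiv.refl _⟩
  refine NotMin.congr e ?_
  obtain ⟨M, hM⟩ := Cfsg.Agent.BabyM.Fi23B.main Cfsg.Agent.BabyM.Instance.all Cfsg.Agent.BabyM.Instance.ok
    Cfsg.Agent.S1697.result
  have hB : Nat.card Cfsg.Agent.BabyM.Inst.M.G = 4154781481226426191177580544000000 :=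
    Cfsg.Agent.BabyM.Instance.isB.2
  have hc : Nat.card M = 4089470473293004800 := hM.2
  have hs : IsSimpleGroup M := hM.1
  refine NotMin.of_injective M.subtype M.subtype_injective ?_ ?_
  · exact not_isPSolvable_of_simple (nc M (p := 2) (q := 3) (by norm_num) (by norm_num) (by norm_num)
      (by rw [hc]; norm_num) (by rw [hc]; norm_num) (by rw [hc]; norm_num)) hp (by rw [hc]; exact h)
  · rw [hc, hB]; norm_num

/-- **piece BNot** -/
theorem piece_BNot : PieceBNot := by
  intro p hp h2 h47 hd
  rw [card_B] at hd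
  rcases cases_b hp hd with h | h | h | h | h | h | h | h | h | h | h
  · exact absurd h h2
  · exact b_th hp (by rw [h]; norm_num)
  · exact b_th hp (by rw [h]; norm_num)
  · exact b_th hp (by rw [h]; norm_num)
  · exact b_fi hp (by rw [h]; norm_num)
  · exact b_th hp (by rw [h]; norm_num)
  · exact b_fi hp (by rw [h]; norm_num)
  · exact b_th hp (by rw [h]; norm_num)
  · exact b_fi hp (by rw [h]; norm_num)
  · exact b_th hp (by rw [h]; norm_num)
  · exact absurd h h47

theorem card_M : Nat.card Spor.Monster = 808017424794512875886459904961710757005754368000000000 :=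
  NotCT.Orders.m ⟨MulEquiv.refl _⟩

/-- the primes of `B` -/
theorem m_b {p : ℕ} (hp : p.Prime) (h : p ∣ 4154781481226426191177580544000000) : NotMin p Spor.Monster := by
  have : Fact p.Prime := ⟨hp⟩
  have := finite_B
  obtain ⟨y, -, h1, ⟨e⟩, -⟩ := Cfsg.Agent.S5534.result
  have hc : Nat.card ↥(centralizer ({y} : Set Spor.Monster)) = 2 * 4154781481226426191177580544000000 := by
    have h2 := (center ↥(centralizer ({y} : Set Spor.Monster))).card_mul_index
    rw [h1, index_eq_card, Nat.card_congr e.toEquiv, card_B] at h2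
    exact h2.symm
  have hs : IsSimpleGroup Spor.BabyMonster := Cfsg.Agent.S1704.result.1
  refine ⟨centralizer ({y} : Set Spor.Monster), fun h3 => ?_, fun h3 => ?_⟩
  · rw [h3, card_top, card_M] at hc
    norm_num at hc
  · have h4 : IsPSolvable p Spor.BabyMonster :=
      Cfsg.Agent.PLocal.PSolvable.isPSolvable_of_surjective
        (e.toMonoidHom.comp (QuotientGroup.mk' (center ↥(centralizer ({y} : Set Spor.Monster)))))
        (e.surjective.comp (QuotientGroup.mk'_surjective _)) h3
    exact not_isPSolvable_of_simple (nc Spor.BabyMonster (p := 2) (q := 3) (by norm_num) (by norm_num) (by norm_num)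
      (by rw [card_B]; norm_num) (by rw [card_B]; norm_num) (by rw [card_B]; norm_num)) hp (by rw [card_B]; exact h) h4

/-- the prime 29 -/
theorem m_fi : NotMin 29 Spor.Monster := by
  have : Fact (Nat.Prime 29) := ⟨by norm_num⟩
  obtain ⟨f⟩ := Cfsg.Agent.MonsterP.Equiv.equiv
  refine NotMin.congr f.symm ?_
  obtain ⟨x, t, π, D⟩ := H849.FiModel.exists_data
  have hF := Cfsg.Agent.S1698.result
  have hcF : Nat.card ↥(_root_.commutator Spor.Fi24) = 1255205709190661721292800 := hF.2
  have hsF : IsSimpleGroup ↥(_root_.commutator Spor.Fi24) := hF.1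
  have hfin : Finite ↥(_root_.commutator Spor.Fi24) := Nat.finite_of_card_ne_zero (by rw [hcF]; norm_num)
  have hcM : Nat.card ↥Cfsg.Agent.MonsterX.InstData.M.G = 808017424794512875886459904961710757005754368000000000 := by
    rw [← Nat.card_congr f.toEquiv, card_M]
  have hfinM : Finite ↥Cfsg.Agent.MonsterX.InstData.M.G := Nat.finite_of_card_ne_zero (by rw [hcM]; norm_num)
  refine ⟨centralizer ({x} : Set ↥Cfsg.Agent.MonsterX.InstData.M.G), fun h3 => ?_, fun h3 => ?_⟩
  · -- `x` would be central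
    have hker : Nat.card π.ker ≤ 3 := by
      have h5 : ∀ k : π.ker, ((k : centralizer ({x} : Set ↥Cfsg.Agent.MonsterX.InstData.M.G)) :
          ↥Cfsg.Agent.MonsterX.InstData.M.G) ∈ zpowers x := fun k => (D.ker k).1 k.2
      have h6 : Nat.card π.ker ≤ Nat.card (zpowers x) :=
        Nat.card_le_card_of_injective (fun k : π.ker => (⟨_, h5 k⟩ : zpowers x))
          fun a b hab => Subtype.ext (Subtype.ext (congrArg (fun z : zpowers x => (z : ↥Cfsg.Agent.MonsterX.InstData.M.G)) hab))
      rwa [Nat.card_zpowers, D.ord] at h6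
    have h9 : Nat.card ↥(centralizer ({x} : Set ↥Cfsg.Agent.MonsterX.InstData.M.G)) =
        808017424794512875886459904961710757005754368000000000 := by rw [h3, card_top, hcM]
    have h7 := π.ker.card_mul_index
    rw [index_ker, MonoidHom.range_eq_top.2 D.surj, card_top, hcF, h9] at h7
    have h8 : 808017424794512875886459904961710757005754368000000000 ≤ 3 * 1255205709190661721292800 := by
      rw [← h7]
      exact Nat.mul_le_mul_right _ hker
    norm_num at h8
  · have h4 : IsPSolvable 29 ↥(_root_.commutator Spor.Fi24) :=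
      Cfsg.Agent.PLocal.PSolvable.isPSolvable_of_surjective π D.surj h3
    exact not_isPSolvable_of_simple (nc ↥(_root_.commutator Spor.Fi24) (p := 2) (q := 3) (by norm_num) (by norm_num)
      (by norm_num) (by rw [hcF]; norm_num) (by rw [hcF]; norm_num) (by rw [hcF]; norm_num)) (by norm_num)
      (by rw [hcF]; norm_num) h4

/-- **piece MNot** -/
theorem piece_MNot : PieceMNot := by
  intro p hp h2 h41 h59 h71 hd
  rw [card_M] at hd
  rcases cases_m hp hd with h | h | h | h | h | h | h | h | h | h | h | h | h | h | h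
  · exact absurd h h2
  · exact m_b hp (by rw [h]; norm_num)
  · exact m_b hp (by rw [h]; norm_num)
  · exact m_b hp (by rw [h]; norm_num)
  · exact m_b hp (by rw [h]; norm_num)
  · exact m_b hp (by rw [h]; norm_num)
  · exact m_b hp (by rw [h]; norm_num)
  · exact m_b hp (by rw [h]; norm_num)
  · exact m_b hp (by rw [h]; norm_num)
  · rw [h]; exact m_fi
  · exact m_b hp (by rw [h]; norm_num)
  · exact absurd h h41
  · exact m_b hp (by rw [h]; norm_num)
  · exact absurd h h59
  · exact absurd h h71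

end Cfsg.Agent.H926.PqrNot
end

-- part: H637/PQRM47
section
/-!
# The elements of order 47 of the Monster have centralizer of order 94 (helper637; piece of S3988)
-/

set_option autoImplicit false

namespace Cfsg.Agent.H637.PQR

open Subgroup Cfsg

open scoped Pointwise in
theorem conj_into {G : Type*} [Group G] [Finite G] {p : ℕ} (hp : p.Prime) (h2 : ¬ p ^ 2 ∣ Nat.card G) {x : G}
    (hx : orderOf x = p) (H : Subgroup G) (hH : p ∣ Nat.card H) : ∃ g : G, g * x * g⁻¹ ∈ H := by
  have := Fact.mk hp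
  obtain ⟨w, hw⟩ := exists_prime_orderOf_dvd_card' (G := H) p hH
  have hw' : orderOf (w : G) = p := by rw [Subgroup.orderOf_coe, hw]
  have key : ∀ u : G, orderOf u = p → ∃ P : Sylow p G, (P : Subgroup G) = zpowers u := by
    intro u hu
    have h1 : IsPGroup p (zpowers u) := IsPGroup.of_card (n := 1) (by rw [Nat.card_zpowers, hu, pow_one])
    obtain ⟨P, hP⟩ := h1.exists_le_sylow
    refine ⟨P, (Subgroup.eq_of_le_of_card_ge hP ?_).symm⟩
    rw [Nat.card_zpowers, hu, P.card_eq_multiplicity]
    have h3 : (Nat.card G).factorization p ≤ 1 := by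
      by_contra h4
      exact h2 ((hp.pow_dvd_iff_le_factorization Nat.card_pos.ne').2 (by omega))
    calc p ^ (Nat.card G).factorization p ≤ p ^ 1 := Nat.pow_le_pow_right hp.pos h3
      _ = p := pow_one p
  obtain ⟨P, hP⟩ := key x hx
  obtain ⟨Q, hQ⟩ := key _ hw'
  obtain ⟨g, hg⟩ := MulAction.exists_smul_eq G P Q
  refine ⟨g, ?_⟩
  have h1 : MulAut.conj g • x ∈ MulAut.conj g • (P : Subgroup G) :=
    Subgroup.smul_mem_pointwise_smul x (MulAut.conj g) _ (by rw [hP]; exact mem_zpowers x)
  rw [← Sylow.coe_subgroup_smul, hg, hQ] at h1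
  have h2 : zpowers (w : G) ≤ H := by
    rw [zpowers_le]
    exact w.2
  exact h2 h1

theorem four_dvd {G : Type*} [Group G] [Finite G] {t z : G} (ht : orderOf t = 2) (hz : orderOf z = 2) (hne : z ≠ t)
    (hc : z * t = t * z) : 4 ∣ Nat.card G := by
  have htD : t ∈ centralizer ({t} : Set G) := mem_centralizer_singleton_iff.2 rfl
  have hzD : z ∈ centralizer ({t} : Set G) := mem_centralizer_singleton_iff.2 hc
  obtain ⟨t', ht'⟩ : ∃ t' : centralizer ({t} : Set G), t' = ⟨t, htD⟩ := ⟨_, rfl⟩
  obtain ⟨z', hz'⟩ : ∃ z' : centralizer ({t} : Set G), z' = ⟨z, hzD⟩ := ⟨_, rfl⟩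
  have hto : orderOf t' = 2 := by rw [← Subgroup.orderOf_coe, ht']; exact ht
  have hzo : orderOf z' = 2 := by rw [← Subgroup.orderOf_coe, hz']; exact hz
  have hcen : ∀ g : centralizer ({t} : Set G), g * t' = t' * g := by
    intro g
    rw [ht']
    exact Subtype.ext (mem_centralizer_singleton_iff.1 g.2)
  have hN : (zpowers t').Normal := by
    constructor
    intro n hn g
    obtain ⟨i, rfl⟩ := mem_zpowers_iff.1 hn
    have h1 : g * t' ^ i * g⁻¹ = t' ^ i := by
      have h2 : Commute g (t' ^ i) := (show Commute g t' from hcen g).zpow_right i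
      rw [h2.eq, mul_inv_cancel_right]
    rw [h1]
    exact zpow_mem (mem_zpowers t') i
  have h1 := card_eq_card_quotient_mul_card_subgroup (zpowers t')
  rw [Nat.card_zpowers, hto] at h1
  have h2 : orderOf (QuotientGroup.mk' (zpowers t') z') = 2 := by
    have h3 : z' ^ 2 = 1 := by rw [← hzo, pow_orderOf_eq_one]
    apply orderOf_eq_prime
    · rw [← map_pow, h3, map_one]
    · intro h
      have h4 : z' ∈ zpowers t' := (QuotientGroup.eq_one_iff z').1 h
      obtain ⟨i, hi⟩ := mem_zpowers_iff.1 h4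
      have h5 : t' ^ 2 = 1 := by rw [← hto, pow_orderOf_eq_one]
      rcases Int.even_or_odd' i with ⟨j, rfl | rfl⟩
      · rw [zpow_mul, show t' ^ (2 : ℤ) = 1 by exact_mod_cast h5, one_zpow] at hi
        rw [← hi, orderOf_one] at hzo
        exact absurd hzo (by norm_num)
      · rw [zpow_add, zpow_mul, show t' ^ (2 : ℤ) = 1 by exact_mod_cast h5, one_zpow, one_mul, zpow_one] at hi
        apply hne
        have h6 := congrArg Subtype.val hi
        rw [ht', hz'] at h6
        exact h6.symm
  have h3 := _root_.orderOf_dvd_natCard (QuotientGroup.mk' (zpowers t') z')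
  rw [h2] at h3
  have h4 : 4 ∣ Nat.card (centralizer ({t} : Set G)) := by
    rw [h1]
    exact Nat.mul_dvd_mul h3 (dvd_refl 2)
  exact h4.trans (Subgroup.card_subgroup_dvd_card _)

/-- `u` inverted by `t`, of even order: `t` commutes with an involution different from `t` -/
theorem exists_inv {G : Type*} [Group G] {t u : G} (ht : orderOf t = 2) (htu : t * u * t⁻¹ = u⁻¹) {m : ℕ} (hm : m ≠ 0)
    (hu : orderOf u = 2 * m) (hut : u ≠ t) : ∃ z, z ∈ zpowers u ∧ orderOf z = 2 ∧ z ≠ t ∧ z * t = t * z := by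
  have hz : orderOf (u ^ m) = 2 := by
    rw [orderOf_pow' u hm, hu, Nat.gcd_eq_right (Dvd.intro_left 2 rfl)]
    exact Nat.mul_div_left 2 (Nat.pos_of_ne_zero hm)
  have h1 : u ^ m * u ^ m = 1 := by rw [← pow_two, ← hz, pow_orderOf_eq_one]
  have h2 : t * u ^ m * t⁻¹ = u ^ m := by
    rw [← conj_pow, htu, inv_pow]
    exact inv_eq_of_mul_eq_one_left h1
  refine ⟨u ^ m, pow_mem (mem_zpowers u) m, hz, ?_, ?_⟩
  · intro h
    have h3 : t * u * t⁻¹ = u := by
      rw [← h]
      have h4 : Commute (u ^ m) u := (Commute.refl u).pow_left m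
      rw [h4.eq, mul_inv_cancel_right]
    rw [h3] at htu
    have h4 : orderOf u ∣ 2 := by
      apply orderOf_dvd_of_pow_eq_one
      rw [pow_two]
      nth_rewrite 1 [htu]
      exact inv_mul_cancel u
    rw [hu] at h4
    have h5 : m = 1 := by
      have h6 := Nat.le_of_dvd (by norm_num) h4
      omega
    rw [h5, pow_one] at h
    exact hut h
  · exact (mul_inv_eq_iff_eq_mul.1 h2).symm

theorem not_dvd_three {y : Spor.Monster} (hy : orderOf y = 3) :
    ¬ 47 ∣ Nat.card (centralizer ({y} : Set Spor.Monster)) := by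
  obtain ⟨f⟩ := Cfsg.Agent.MonsterP.Equiv.equiv
  rw [H537.Cop.card_centralizer_equiv f y]
  exact H199.NSmMon.three_not_dvd (Or.inl rfl) (by rw [f.orderOf_eq, hy])

theorem not_dvd_five {y : Spor.Monster} (hy : orderOf y = 5) :
    ¬ 47 ∣ Nat.card (centralizer ({y} : Set Spor.Monster)) := by
  obtain ⟨f⟩ := Cfsg.Agent.MonsterP.Equiv.equiv
  rw [H537.Cop.card_centralizer_equiv f y]
  exact H199.AbMon.five_not_dvd' (by simp) (by rw [f.orderOf_eq, hy])

/-- the centralizer of `x` in the centralizer of the involution -/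
theorem card_aux {X Y : Type*} [Group X] [Finite X] [Group Y] [Finite Y] {p : ℕ} (hp : p.Prime) (hp2 : p ≠ 2)
    (hY : H537.Cop.SC p Y) {t : X} (ht : orderOf t = 2) (hcov : IsNonsplitDoubleCover (centralizer ({t} : Set X)) Y)
    {x : X} (hx : orderOf x = p) (hxt : x ∈ centralizer ({t} : Set X))
    (hle : centralizer ({x} : Set X) ≤ centralizer ({t} : Set X)) :
    Nat.card (centralizer ({x} : Set X)) = 2 * p := by
  have := Fact.mk hp
  obtain ⟨hc2, ⟨e⟩, -⟩ := hcov
  obtain ⟨C, hC⟩ : ∃ C, C = centralizer ({t} : Set X) := ⟨_, rfl⟩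
  rw [← hC] at hc2 e hxt hle
  have htC : t ∈ C := by rw [hC]; exact mem_centralizer_singleton_iff.2 rfl
  have hcomm : ∀ c ∈ C, c * t = t * c := fun c hc => by
    rw [hC] at hc
    exact mem_centralizer_singleton_iff.1 hc
  obtain ⟨π, hπ⟩ : ∃ π : C →* Y, π = e.toMonoidHom.comp (QuotientGroup.mk' (center C)) := ⟨_, rfl⟩
  have hker : ∀ c : C, π c = 1 ↔ c ∈ center C := by
    intro c
    rw [hπ]
    show e (QuotientGroup.mk' (center C) c) = 1 ↔ _
    rw [map_eq_one_iff e e.injective]
    exact QuotientGroup.eq_one_iff c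
  -- `x'` in `C`
  obtain ⟨x', hx'⟩ : ∃ x' : C, x' = ⟨x, hxt⟩ := ⟨_, rfl⟩
  have hx'o : orderOf x' = p := by rw [← Subgroup.orderOf_coe, hx']; exact hx
  have hcard : Nat.card (centralizer ({x} : Set X)) = Nat.card (centralizer ({x'} : Set C)) := by
    have h1 : centralizer ({x'} : Set C) = (centralizer ({x} : Set X)).subgroupOf C := by
      ext c
      rw [mem_centralizer_singleton_iff, mem_subgroupOf, mem_centralizer_singleton_iff, hx']
      constructor
      · intro h; exact congrArg Subtype.val h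
      · intro h; exact Subtype.ext h
    rw [h1]
    exact (Nat.card_congr (subgroupOfEquivOfLe hle).toEquiv).symm
  have hπx : orderOf (π x') = p := by
    apply orderOf_eq_prime
    · rw [← map_pow, ← hx'o, pow_orderOf_eq_one, map_one]
    · intro h
      have h1 := (hker x').1 h
      have h2 := Subgroup.orderOf_dvd_natCard (center C) h1
      rw [hx'o, hc2] at h2
      exact hp2 ((Nat.prime_dvd_prime_iff_eq hp Nat.prime_two).1 h2)
  rw [hcard]
  obtain ⟨D, hD⟩ : ∃ D, D = centralizer ({x'} : Set C) := ⟨_, rfl⟩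
  rw [← hD]
  -- upper bound
  have h1 : Nat.card (D.map π) ∣ p := by
    rw [← hY (π x') hπx]
    apply Subgroup.card_dvd_of_le
    rintro _ ⟨c, hc, rfl⟩
    rw [SetLike.mem_coe, hD, mem_centralizer_singleton_iff] at hc
    rw [mem_centralizer_singleton_iff, ← map_mul, hc, map_mul]
  have h2 : Nat.card D = Nat.card (D.map π) * Nat.card (center C) := by
    have h3 := card_eq_card_quotient_mul_card_subgroup (π.comp D.subtype).ker
    rw [h3, Nat.card_congr (QuotientGroup.quotientKerEquivRange (π.comp D.subtype)).toEquiv]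
    have h4 : (π.comp D.subtype).range = D.map π := by rw [MonoidHom.range_comp, range_subtype]
    rw [h4]
    congr 1
    have h5 : (π.comp D.subtype).ker = (center C).subgroupOf D := by
      ext c
      rw [MonoidHom.mem_ker, mem_subgroupOf, ← hker]
      rfl
    rw [h5]
    have h6 : center C ≤ D := by
      intro c hc
      rw [hD, mem_centralizer_singleton_iff]
      exact (Subgroup.mem_center_iff.1 hc x').symm
    exact Nat.card_congr (subgroupOfEquivOfLe h6).toEquiv
  have h3 : p ∣ Nat.card (D.map π) := by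
    rw [← hπx]
    apply Subgroup.orderOf_dvd_natCard
    exact ⟨x', by rw [SetLike.mem_coe, hD, mem_centralizer_singleton_iff], rfl⟩
  rw [h2, hc2, Nat.dvd_antisymm h1 h3, mul_comm]

/-- **The centralizers of the elements of order 47 of the Monster have order 94.** -/
theorem piece_M47 (hK : Cfsg.Agent.H995.CopEngine.AllKnown.{0}) : H606.PQR.PieceM47 := by
  intro x₀ hx₀
  obtain ⟨y, hy, hcy⟩ := S5534.result
  have hM : Nat.card Spor.Monster = 808017424794512875886459904961710757005754368000000000 :=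
    Cfsg.Agent.H713.Spor.M.card_eq ⟨MulEquiv.refl _⟩
  have hfM : Finite Spor.Monster := Nat.finite_of_card_ne_zero (by rw [hM]; norm_num)
  have hfB : Finite Spor.BabyMonster := CTwoTab.BInst.finite_B
  have hcard : Nat.card (centralizer ({y} : Set Spor.Monster)) = 2 * 4154781481226426191177580544000000 := by
    obtain ⟨h1, ⟨e⟩, -⟩ := hcy
    rw [card_eq_card_quotient_mul_card_subgroup (center (centralizer ({y} : Set Spor.Monster))), h1,
      Nat.card_congr e.toEquiv, H713.Spor.B.card_b, mul_comm]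
  obtain ⟨g, hg⟩ := conj_into (p := 47) (by norm_num) (by rw [hM]; norm_num) hx₀ (centralizer ({y} : Set Spor.Monster))
    (by rw [hcard]; norm_num)
  have hx : orderOf (g * x₀ * g⁻¹) = 47 := by
    rw [← MulAut.conj_apply, MulEquiv.orderOf_eq, hx₀]
  have hcc : Nat.card (centralizer ({x₀} : Set Spor.Monster)) = Nat.card (centralizer ({g * x₀ * g⁻¹} : Set Spor.Monster)) :=
    H537.Cop.card_centralizer_equiv (MulAut.conj g) x₀
  rw [hcc]
  clear hcc
  generalize g * x₀ * g⁻¹ = x at hg hx ⊢
  have hyx : y * x = x * y := (mem_centralizer_singleton_iff.1 hg).symm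
  have hyy : y * y = 1 := by rw [← pow_two, ← hy, pow_orderOf_eq_one]
  have hyi : y⁻¹ = y := inv_eq_of_mul_eq_one_left hyy
  have hle : centralizer ({x} : Set Spor.Monster) ≤ centralizer ({y} : Set Spor.Monster) := by
    intro a ha
    rw [mem_centralizer_singleton_iff] at ha ⊢
    obtain ⟨u, hu⟩ : ∃ u, u = y * (a * y * a⁻¹) := ⟨_, rfl⟩
    have hux : u * x = x * u := by
      have h1 : a⁻¹ * x = x * a⁻¹ := by
        calc a⁻¹ * x = a⁻¹ * (x * a) * a⁻¹ := by group
          _ = a⁻¹ * (a * x) * a⁻¹ := by rw [ha]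
          _ = x * a⁻¹ := by group
      calc u * x = y * a * y * (a⁻¹ * x) := by rw [hu]; group
        _ = y * a * (y * x) * a⁻¹ := by rw [h1]; group
        _ = y * (a * x) * y * a⁻¹ := by rw [hyx]; group
        _ = (y * x) * a * y * a⁻¹ := by rw [ha]; group
        _ = x * u := by rw [hyx, hu]; group
    have hyu : y * u * y⁻¹ = u⁻¹ := by
      rw [hu, hyi]
      calc y * (y * (a * y * a⁻¹)) * y = (y * y) * (a * y * a⁻¹) * y := by group
        _ = (a * y⁻¹ * a⁻¹) * y⁻¹ := by rw [hyy, hyi]; group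
        _ = (y * (a * y * a⁻¹))⁻¹ := by group
    have hu6 : orderOf u ≤ 6 := by rw [hu]; exact H966.RowM.six hy hcard a
    have hu0 : 0 < orderOf u := orderOf_pos u
    have huy : u ≠ y := by
      intro h
      rw [hu] at h
      have h1 : a * y * a⁻¹ = 1 := mul_eq_left.1 h
      have h2 : y = 1 := by
        calc y = a⁻¹ * (a * y * a⁻¹) * a := by group
          _ = 1 := by rw [h1]; group
      rw [h2, orderOf_one] at hy
      exact absurd hy (by norm_num)
    have odd : ∀ m, m ≠ 0 → orderOf u ≠ 2 * m := by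
      intro m hm hum
      obtain ⟨z, hz, hz2, hzy, hc⟩ := exists_inv hy hyu hm hum huy
      refine H384.CentM.not_four hx ?_
      have hzx : z ∈ centralizer ({x} : Set Spor.Monster) := by
        have h1 : zpowers u ≤ centralizer ({x} : Set Spor.Monster) := by
          rw [zpowers_le, mem_centralizer_singleton_iff]
          exact hux
        exact h1 hz
      have hyx' : y ∈ centralizer ({x} : Set Spor.Monster) := mem_centralizer_singleton_iff.2 hyx
      exact four_dvd (t := (⟨y, hyx'⟩ : centralizer ({x} : Set Spor.Monster))) (z := ⟨z, hzx⟩)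
        (by rw [← Subgroup.orderOf_coe]; exact hy) (by rw [← Subgroup.orderOf_coe]; exact hz2)
        (fun h => hzy (congrArg Subtype.val h)) (Subtype.ext hc)
    have h47 : 47 ∣ Nat.card (centralizer ({u} : Set Spor.Monster)) := by
      rw [← hx]
      exact Subgroup.orderOf_dvd_natCard _ (mem_centralizer_singleton_iff.2 hux.symm)
    have hu1 : orderOf u = 1 := by
      have a1 := odd 1 (by norm_num)
      have a2 := odd 2 (by norm_num)
      have a3 := odd 3 (by norm_num)
      have a4 : orderOf u ≠ 3 := fun h => not_dvd_three h h47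
      have a5 : orderOf u ≠ 5 := fun h => not_dvd_five h h47
      omega
    rw [orderOf_eq_one_iff, hu] at hu1
    have h1 : a * y * a⁻¹ = y := by
      rw [← hyi]
      have h2 := eq_inv_of_mul_eq_one_right hu1
      rw [hyi] at h2 ⊢
      exact h2
    exact mul_inv_eq_iff_eq_mul.1 h1
  exact card_aux (by norm_num) (by norm_num) (H291.SCBaby.sc hK) hy hcy hx hg hle

end Cfsg.Agent.H637.PQR
end

-- part: H606/PQR/Rows
section
/-!
# The rows of the Baby Monster and the Monster (helper606, for S3988)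
-/

set_option autoImplicit false
set_option maxRecDepth 100000

open Subgroup

namespace Cfsg.Agent.H606.PQR

open Cfsg Cfsg.Agent.H562.PQR Cfsg.Agent.H606.Avg
open Cfsg.Agent.H80.Fpf (MultDvd)
open Cfsg.Agent.H995.CopEngine (AllKnown)

theorem card_B : Nat.card Spor.BabyMonster = 4154781481226426191177580544000000 := Cfsg.Agent.H713.Spor.B.card_b

theorem card_M : Nat.card Spor.Monster = 808017424794512875886459904961710757005754368000000000 :=
  Cfsg.Agent.H966.RowM.card_m

theorem mult_B : MultDvd Spor.BabyMonster 2 := Cfsg.Agent.H80.Fpf.multDvd_of_cyclic (by norm_num) Cfsg.Agent.S2058.result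

theorem mult_M : MultDvd Spor.Monster 1 := Cfsg.Agent.H80.Fpf.multDvd_of_cyclic (by norm_num) Cfsg.Agent.S2059.result

theorem dvd46 : ∀ e < 47, e ∣ 46 → e ∈ ([1, 2, 23, 46] : List ℕ) := by decide +kernel

theorem div_mod_cases {N c e : ℕ} (hN : N / (c * e) % 47 = 1 % 47) (he : e ∣ 46) (h1 : N / (c * 1) % 47 ≠ 1)
    (h2 : N / (c * 2) % 47 ≠ 1) (h46 : N / (c * 46) % 47 ≠ 1) : e = 23 := by
  have h := dvd46 e (lt_of_le_of_lt (Nat.le_of_dvd (by norm_num) he) (by norm_num)) he
  simp only [List.mem_cons, List.not_mem_nil, or_false] at h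
  rcases h with rfl | rfl | rfl | rfl
  · exact absurd hN h1
  · exact absurd hN h2
  · rfl
  · exact absurd hN h46

theorem norm_B (hK : AllKnown.{0}) {z : Spor.BabyMonster} (hz : orderOf z = 47) :
    Nat.card (normalizer (zpowers z : Set Spor.BabyMonster)) = 47 * 23 := by
  have hfin := CTwoTab.BInst.finite_B
  have hs : IsSimpleGroup Spor.BabyMonster := Cfsg.Agent.S1704.result.1
  obtain ⟨e, he, -, hN, -, h1⟩ := Cfsg.Agent.H58.Cop.arith (by norm_num) hz (by rw [card_B]; norm_num)
    (by rw [card_B]; norm_num)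
  have hc : Nat.card (centralizer ({z} : Set Spor.BabyMonster)) = 47 := Cfsg.Agent.H291.SCBaby.sc hK z hz
  rw [hc, card_B] at h1
  rw [hN, hc, div_mod_cases h1 he (by norm_num) (by norm_num) (by norm_num)]

theorem norm_M (hK : AllKnown.{0}) {z : Spor.Monster} (hz : orderOf z = 47) :
    Nat.card (normalizer (zpowers z : Set Spor.Monster)) = 94 * 23 := by
  have hfin := Cfsg.Agent.H966.RowM.finite_m
  have hs : IsSimpleGroup Spor.Monster := Cfsg.Agent.S1705.result.1
  obtain ⟨e, he, -, hN, -, h1⟩ := Cfsg.Agent.H58.Cop.arith (by norm_num) hz (by rw [card_M]; norm_num)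
    (by rw [card_M]; norm_num)
  have hc := Cfsg.Agent.H637.PQR.piece_M47 hK z hz
  rw [hc, card_M] at h1
  rw [hN, hc, div_mod_cases h1 he (by norm_num) (by norm_num) (by norm_num)]

theorem exists_order {G : Type*} [Group G] [Finite G] {p : ℕ} (hp : p.Prime) (hd : p ∣ Nat.card G) :
    ∃ x : G, orderOf x = p := by
  have := Fact.mk hp
  exact exists_prime_orderOf_dvd_card' p hd

/-- the set of `2`-elements of `B` -/
theorem avg_B : ∃ X : Finset Spor.BabyMonster, X.Nonempty ∧ (∀ x ∈ X, ∃ k : ℕ, orderOf x = 2 ^ k) ∧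
    Avg X (((4 : ℕ) : ℝ) / 4371 + 208 / 100000) := by
  have hfin := CTwoTab.BInst.finite_B
  obtain ⟨K, iF, iT, H, σ, hK4, hσ, hker, hDC⟩ := pieceB
  obtain ⟨R, hRne, hR2, hA⟩ := avg_te6 hK4
  exact exists_avg hσ hker hDC (j := 4) (by norm_num) (D := 4371) (by norm_num) (fun χ hχ h1 => deg_B χ hχ h1)
    hRne hR2 (by norm_num) hA

/-- the set of `2`-elements of `M` -/
theorem avg_M : ∃ X : Finset Spor.Monster, X.Nonempty ∧ (∀ x ∈ X, ∃ k : ℕ, orderOf x = 2 ^ k) ∧
    Avg X (((3 : ℕ) : ℝ) / 196883 + (((4 : ℕ) : ℝ) / 4371 + 208 / 100000)) := by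
  have hfinB := CTwoTab.BInst.finite_B
  have hfin := Cfsg.Agent.H966.RowM.finite_m
  obtain ⟨H, φ, hφ, hker, hDC⟩ := pieceM
  obtain ⟨R, hRne, hR2, hA⟩ := avg_B
  exact exists_avg hφ hker hDC (j := 3) (by norm_num) (D := 196883) (by norm_num) (fun χ hχ h1 => deg_M χ hχ h1)
    hRne hR2 (by norm_num) hA

/-- **The Baby Monster.** -/
theorem row_B (hK : AllKnown.{0}) : RowOdd Spor.BabyMonster := by
  have hfin := CTwoTab.BInst.finite_B
  intro p hp hp2 hd
  by_cases h47 : p = 47
  · right
    subst h47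
    obtain ⟨X, hXne, hX2, hX⟩ := avg_B
    obtain ⟨y, hy, hyc⟩ := Cfsg.Agent.H680.PQR.piece_B11
    obtain ⟨z, hz⟩ := exists_order hp hd
    refine trip_avg (q := 11) (B := {47}) (n := fun _ => 47 * 23) mult_B
      (fun s hs h => (Nat.prime_dvd_prime_iff_eq hs Nat.prime_two).1 h) hXne hX2 hX (by norm_num) (by norm_num) hy
      (Finset.singleton_nonempty _) (fun b hb => ?_) (fun b hb => ?_) (Or.inr fun b hb => ?_) hyc
      (s := 46 / (47 * 23)) ?_ ?_ ?_
    · rw [Finset.mem_singleton] at hb
      subst hb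
      exact ⟨hp, by rw [card_B]; norm_num, z, hz, norm_B hK hz⟩
    · rw [Finset.mem_singleton] at hb
      subst hb
      norm_num
    · rw [Finset.mem_singleton] at hb
      exact hb.symm
    · rw [Finset.sum_singleton]
      norm_num
    · norm_num
    · norm_num
  · exact Or.inl (Cfsg.Agent.H926.PqrNot.piece_BNot p hp hp2 h47 hd)

theorem norm_59 (hK : AllKnown.{0}) {z : Spor.Monster} (hz : orderOf z = 59) :
    Nat.card (centralizer ({z} : Set Spor.Monster)) = 59 ∧
      Nat.card (normalizer (zpowers z : Set Spor.Monster)) = 59 * 29 := by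
  have hfin := Cfsg.Agent.H966.RowM.finite_m
  have hs : IsSimpleGroup Spor.Monster := Cfsg.Agent.S1705.result.1
  obtain ⟨e⟩ := Cfsg.Agent.MonsterP.Equiv.equiv
  have h0 := (Cfsg.Agent.H58.Cop.M.norm_fiftynine hK (v := e z) (by rw [MulEquiv.orderOf_eq, hz])).1
  have hc : Nat.card (centralizer ({z} : Set Spor.Monster)) = 59 := by
    rw [Cfsg.Agent.H537.Cop.card_centralizer_equiv e z]
    exact h0
  refine ⟨hc, ?_⟩
  obtain ⟨e, he, -, hN, -, h1⟩ := Cfsg.Agent.H58.Cop.arith (by norm_num) hz (by rw [card_M]; norm_num)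
    (by rw [card_M]; norm_num)
  rw [hc, card_M] at h1
  rw [hN, hc]
  have h := Cfsg.Agent.H58.Cop.M.chk58 e (lt_of_le_of_lt (Nat.le_of_dvd (by norm_num) he) (by norm_num)) he
  simp only [List.mem_cons, List.not_mem_nil, or_false] at h
  rcases h with rfl | rfl | rfl | rfl
  · norm_num at h1
  · norm_num at h1
  · rfl
  · norm_num at h1

/-- `p = 41, 71` for the Monster -/
theorem trip_M (hK : AllKnown.{0}) {p : ℕ} (hp : p.Prime) (hp2 : p ≠ 2) (h47 : p ≠ 47) (h59 : p ≠ 59)
    {y : Spor.Monster} (hy : orderOf y = p) (hyc : Nat.card (centralizer ({y} : Set Spor.Monster)) ≤ 5125) :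
    Trip p Spor.Monster := by
  have hfin := Cfsg.Agent.H966.RowM.finite_m
  obtain ⟨X, hXne, hX2, hX⟩ := avg_M
  obtain ⟨z, hz⟩ := exists_order (G := Spor.Monster) (p := 47) (by norm_num) (by rw [card_M]; norm_num)
  obtain ⟨w, hw⟩ := exists_order (G := Spor.Monster) (p := 59) (by norm_num) (by rw [card_M]; norm_num)
  refine trip_avg (q := p) (B := {47, 59}) (n := fun b => if b = 47 then 94 * 23 else 59 * 29) mult_M
    (fun s hs h => absurd (Nat.dvd_one.1 h) hs.one_lt.ne') hXne hX2 hX hp hp2 hy
    (Finset.insert_nonempty _ _) (fun b hb => ?_) (fun b hb => ?_) (Or.inl rfl) hyc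
    (s := 46 / (94 * 23) + 58 / (59 * 29)) ?_ ?_ ?_
  · rw [Finset.mem_insert, Finset.mem_singleton] at hb
    rcases hb with rfl | rfl
    · exact ⟨by norm_num, by rw [card_M]; norm_num, z, hz, by rw [norm_M hK hz]; rfl⟩
    · exact ⟨by norm_num, by rw [card_M]; norm_num, w, hw, by rw [(norm_59 hK hw).2]; rfl⟩
  · rw [Finset.mem_insert, Finset.mem_singleton] at hb
    rcases hb with rfl | rfl
    · exact ⟨by norm_num, h47.symm⟩
    · exact ⟨by norm_num, h59.symm⟩
  · rw [Finset.sum_pair (by norm_num)]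
    norm_num
  · norm_num
  · norm_num

/-- **The Monster.** -/
theorem row_M (hK : AllKnown.{0}) : RowOdd Spor.Monster := by
  have hfin := Cfsg.Agent.H966.RowM.finite_m
  intro p hp hp2 hd
  by_cases h59 : p = 59
  · right
    subst h59
    obtain ⟨X, hXne, hX2, hX⟩ := avg_M
    obtain ⟨y, hy⟩ := exists_order hp hd
    obtain ⟨z, hz⟩ := exists_order (G := Spor.Monster) (p := 47) (by norm_num) (by rw [card_M]; norm_num)
    refine trip_avg (q := 59) (B := {47}) (n := fun _ => 94 * 23) mult_M
      (fun s hs h => absurd (Nat.dvd_one.1 h) hs.one_lt.ne') hXne hX2 hX (by norm_num) (by norm_num) hy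
      (Finset.singleton_nonempty _) (fun b hb => ?_) (fun b hb => ?_) (Or.inl rfl) (norm_59 hK hy).1.le
      (s := 46 / (94 * 23)) ?_ ?_ ?_
    · rw [Finset.mem_singleton] at hb
      subst hb
      exact ⟨by norm_num, by rw [card_M]; norm_num, z, hz, norm_M hK hz⟩
    · rw [Finset.mem_singleton] at hb
      subst hb
      norm_num
    · rw [Finset.sum_singleton]
      norm_num
    · norm_num
    · norm_num
  by_cases h41 : p = 41
  · subst h41
    by_cases hN : NotMin 41 Spor.Monster
    · exact Or.inl hN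
    · right
      have hsolv : ∀ H : Subgroup Spor.Monster, H ≠ ⊤ → IsPSolvable 41 H := by
        intro H hH
        by_contra hc
        exact hN ⟨H, hH, hc⟩
      obtain ⟨y, hy⟩ := exists_order hp hd
      exact trip_M hK hp hp2 (by norm_num) (by norm_num) hy (Cfsg.Agent.H87.MP.piece_MP41 hK hsolv y hy)
  by_cases h71 : p = 71
  · subst h71
    by_cases hN : NotMin 71 Spor.Monster
    · exact Or.inl hN
    · right
      have hsolv : ∀ H : Subgroup Spor.Monster, H ≠ ⊤ → IsPSolvable 71 H := by
        intro H hH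
        by_contra hc
        exact hN ⟨H, hH, hc⟩
      obtain ⟨y, hy⟩ := exists_order hp hd
      exact trip_M hK hp hp2 (by norm_num) (by norm_num) hy (Cfsg.Agent.H87.MP.piece_MP71 hK hsolv y hy)
  exact Or.inl (Cfsg.Agent.H926.PqrNot.piece_MNot p hp hp2 h41 h59 h71 hd)

end Cfsg.Agent.H606.PQR
end

-- part: S3988
section
set_option autoImplicit false
open Cfsg

namespace Cfsg.Agent.S3988

/-- Let p be a prime. A finite group G is p-solvable if and only if for all primes q ≠ r, both different from p, and all non-identity elements x of p-power order, y of q-power order and z of r-power order, the product x y z is not the identity. -/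
theorem result {G : Type*} [Group G] [Finite G] (p : ℕ) [Fact p.Prime] : Cfsg.IsPSolvable p G ↔ ∀ q r : ℕ, q.Prime → r.Prime → q ≠ r → q ≠ p → r ≠ p → ∀ x y z : G, x ≠ 1 → (∃ a : ℕ, orderOf x = p ^ a) → y ≠ 1 → (∃ b : ℕ, orderOf y = q ^ b) → z ≠ 1 → (∃ c : ℕ, orderOf z = r ^ c) → x * y * z ≠ 1 := by
  have hK : Cfsg.Agent.H995.CopEngine.AllKnown.{0} := fun _ _ _ _ => Cfsg.Agent.S0000.result
  exact (Cfsg.Agent.H562.PQR.rowsOdd (Cfsg.Agent.H606.PQR.row_B hK) (Cfsg.Agent.H606.PQR.row_M hK)).final p

end Cfsg.Agent.S3988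
end
end
end
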