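import Cfsg.Agent.S0205
import Cfsg.Agent.Solvable.SchurZassenhausConj
import Cfsg.Agent.H331.SCExc
import Cfsg.Agent.H505.SzReal
import Cfsg.Statements.S4045
import Cfsg.Agent.FastGrp
import Cfsg.Agent.Prune
set_option linter.all false
prune_inst 0x7f00000000000000000000000000000000000000000000000000000000000000000000000000000000000000000000000000000000000000000000000000000000000000000000000000000000000000003fffffffffffffffffffffffffffbeffbdffffffff
open scoped Cfsg.Agent.FastGrp

-- part: H505/PiHom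
section
/-!
# π-homogeneous groups of order prime to 3, π a set of odd primes
-/

set_option autoImplicit false

namespace Cfsg.Agent.H505.PiHom

open Subgroup Pointwise

universe u

/-- Homogeneity, in the form used: elements of prime power order `q ^ k`, `q ∉ π`, normalising a
`π`-subgroup centralise it. -/
def Hom (π : Set ℕ) (G : Type u) [Group G] : Prop :=
  ∀ H : Subgroup G, (∀ p : ℕ, p.Prime → p ∣ Nat.card H → p ∈ π) → ∀ q : ℕ, q.Prime → q ∉ π →
    ∀ t ∈ Subgroup.normalizer (H : Set G), (∃ k : ℕ, t ^ q ^ k = 1) →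
      t ∈ Subgroup.centralizer (H : Set G)

/-- the `π'`-elements form a subgroup -/
def Closed (π : Set ℕ) (G : Type u) [Group G] : Prop :=
  ∃ K : Subgroup G, ∀ x : G, x ∈ K ↔ ∀ p : ℕ, p.Prime → p ∣ orderOf x → p ∉ π

theorem hom_of {G : Type u} [Group G] [Finite G] (π : Set ℕ)
    (hhom : (∀ H : Subgroup G, H ≠ ⊥ → (∀ p : ℕ, p.Prime → p ∣ Nat.card ↥H → p ∈ π) →
        ∀ p : ℕ, p.Prime → p ∣ (Subgroup.centralizer (H : Set G)).relIndex (Subgroup.normalizer (H : Set G)) → p ∈ π)) :
    Hom π G := by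
  intro H hH q hq hqπ t ht hk
  obtain ⟨k, hk⟩ := hk
  by_contra htC
  have hne : H ≠ ⊥ := by
    rintro rfl
    apply htC
    rw [mem_centralizer_iff]
    intro x hx
    have hx' : x = 1 := by simpa using hx
    rw [hx']; simp
  apply hqπ
  apply hhom H hne hH q hq
  set N := Subgroup.normalizer (H : Set G) with hN
  set C := Subgroup.centralizer (H : Set G) with hC
  haveI hnorm : (C.subgroupOf N).Normal := by
    refine ⟨fun n hn g => ?_⟩
    rw [mem_subgroupOf] at hn ⊢
    rw [mem_centralizer_iff] at hn ⊢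
    intro x hx
    have hg : (g : G)⁻¹ * x * g ∈ (H : Set G) := by
      have hg' : (g⁻¹ : N).1 ∈ Subgroup.normalizer (H : Set G) := (g⁻¹).2
      have := (Subgroup.mem_normalizer_iff.mp hg' x).mp hx
      simpa only [_root_.SetLike.mem_coe, _root_.InvMemClass.coe_inv, _root_.inv_inv] using this
    have h1 := hn _ hg
    push_cast
    calc x * ((g : G) * (n : G) * (g : G)⁻¹)
        = (g : G) * ((g : G)⁻¹ * x * (g : G) * (n : G)) * (g : G)⁻¹ := by group
      _ = (g : G) * ((n : G) * ((g : G)⁻¹ * x * (g : G))) * (g : G)⁻¹ := by rw [h1]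
      _ = (g : G) * (n : G) * (g : G)⁻¹ * x := by group
  have h1 : (QuotientGroup.mk ⟨t, ht⟩ : N ⧸ C.subgroupOf N) ^ q ^ k = 1 := by
    rw [← QuotientGroup.mk_pow]
    have : (⟨t, ht⟩ : N) ^ q ^ k = 1 := Subtype.ext (by push_cast; exact hk)
    rw [this]; rfl
  have h2 : (QuotientGroup.mk ⟨t, ht⟩ : N ⧸ C.subgroupOf N) ≠ 1 := by
    intro h
    rw [QuotientGroup.eq_one_iff, mem_subgroupOf] at h
    exact htC h
  have h3 : orderOf (QuotientGroup.mk ⟨t, ht⟩ : N ⧸ C.subgroupOf N) ∣ q ^ k :=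
    orderOf_dvd_of_pow_eq_one h1
  obtain ⟨j, -, hj⟩ := (Nat.dvd_prime_pow hq).mp h3
  have hj0 : j ≠ 0 := by
    rintro rfl
    rw [pow_zero, orderOf_eq_one_iff] at hj
    exact h2 hj
  have h4 : q ∣ orderOf (QuotientGroup.mk ⟨t, ht⟩ : N ⧸ C.subgroupOf N) := by
    rw [hj]; exact dvd_pow_self q hj0
  exact h4.trans (_root_.orderOf_dvd_natCard _)

theorem hom_subgroup {G : Type u} [Group G] {π : Set ℕ} (h : Hom π G) (L : Subgroup G) :
    Hom π L := by
  intro H hH q hq hqπ t ht hk
  have hcard : Nat.card (H.map L.subtype) = Nat.card H :=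
    Nat.card_congr (H.equivMapOfInjective _ L.subtype_injective).toEquiv.symm
  have h1 := h (H.map L.subtype) (by rw [hcard]; exact hH) q hq hqπ (t : G) (by
    rw [Subgroup.mem_normalizer_iff] at ht ⊢
    intro x
    constructor
    · rintro ⟨y, hy, rfl⟩
      exact ⟨t * y * t⁻¹, (ht y).mp hy, rfl⟩
    · rintro ⟨y, hy, hyx⟩
      have hxL : x ∈ L := by
        have : x = (t : G)⁻¹ * (L.subtype y) * t := by rw [hyx]; group
        rw [this]
        exact L.mul_mem (L.mul_mem (L.inv_mem t.2) y.2) t.2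
      refine ⟨⟨x, hxL⟩, (ht ⟨x, hxL⟩).mpr ?_, rfl⟩
      have : t * ⟨x, hxL⟩ * t⁻¹ = y := Subtype.ext hyx.symm
      rw [this]; exact hy) (by
    obtain ⟨k, hk⟩ := hk
    exact ⟨k, by have := congrArg Subtype.val hk; simpa only [_root_.SubmonoidClass.coe_pow, _root_.OneMemClass.coe_one] using this⟩)
  rw [mem_centralizer_iff] at h1 ⊢
  intro x hx
  exact Subtype.ext (h1 x ⟨x, hx, rfl⟩)

/-- adjusting a lift of a `q`-element to a `q`-element -/
theorem exists_pow_lift {G : Type u} [Group G] [Finite G] (M : Subgroup G) [M.Normal] {q : ℕ}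
    (hq : q.Prime) (s : G) (k : ℕ) (hk : (QuotientGroup.mk s : G ⧸ M) ^ q ^ k = 1) :
    ∃ e : ℕ, (QuotientGroup.mk (s ^ e) : G ⧸ M) = QuotientGroup.mk s ∧
      ∃ j : ℕ, (s ^ e) ^ q ^ j = 1 := by
  have hpos : orderOf s ≠ 0 := (orderOf_pos s).ne'
  obtain ⟨a, b, hb, hab⟩ := Nat.exists_eq_pow_mul_and_not_dvd hpos q hq.ne_one
  have hcop : b.Coprime (q ^ k) :=
    Nat.Coprime.pow_right k ((Nat.Prime.coprime_iff_not_dvd hq).mpr hb).symm
  obtain ⟨e, he1, he2⟩ := Nat.chineseRemainder hcop 0 1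
  refine ⟨e, ?_, a, ?_⟩
  · rw [QuotientGroup.mk_pow]
    have h1 : (QuotientGroup.mk s : G ⧸ M) ^ e = (QuotientGroup.mk s : G ⧸ M) ^ 1 := by
      rw [pow_eq_pow_iff_modEq]
      exact he2.of_dvd (orderOf_dvd_of_pow_eq_one hk)
    rw [h1, pow_one]
  · rw [← pow_mul]
    apply orderOf_dvd_iff_pow_eq_one.mp
    rw [hab, mul_comm]
    exact Nat.mul_dvd_mul ((Nat.modEq_zero_iff_dvd).mp he1) dvd_rfl

theorem hom_quotient {G : Type u} [Group G] [Finite G] {π : Set ℕ}
    (hodd : ∀ p ∈ π, p.Prime ∧ p ≠ 2) (h : Hom π G) (M : Subgroup G) [M.Normal]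
    (hM : ∀ p : ℕ, p.Prime → p ∣ Nat.card M → p ∉ π) : Hom π (G ⧸ M) := by
  classical
  intro Hb hHb q hq hqπ tb htb hk
  obtain ⟨k, hk⟩ := hk
  set L : Subgroup G := Hb.comap (QuotientGroup.mk' M) with hL
  have hML : M ≤ L := by
    intro x hx
    rw [hL, mem_comap, QuotientGroup.mk'_apply, (QuotientGroup.eq_one_iff x).mpr hx]
    exact Hb.one_mem
  haveI : (M.subgroupOf L).Normal := inferInstance
  have hcM : Nat.card (M.subgroupOf L) = Nat.card M :=
    Nat.card_congr (Subgroup.subgroupOfEquivOfLe hML).toEquiv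
  have hindex : (M.subgroupOf L).index = Nat.card Hb := by
    have h1 : Nat.card L = Nat.card (M.subgroupOf L) * (M.subgroupOf L).index :=
      (Subgroup.card_mul_index _).symm
    have h2 : Nat.card L = Nat.card M * Nat.card Hb := by
      have h3 : (Hb.comap (QuotientGroup.mk' M)).index = Hb.index :=
        Hb.index_comap_of_surjective (QuotientGroup.mk'_surjective M)
      have h4 := L.card_mul_index
      rw [hL, h3, ← hL] at h4
      have h5 := Hb.card_mul_index
      have h6 := M.card_mul_index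
      have h7 : Nat.card (G ⧸ M) = M.index := rfl
      rw [h7] at h5
      have h8 : 0 < Hb.index := Nat.pos_of_ne_zero Subgroup.FiniteIndex.index_ne_zero
      have h9 : Nat.card L * Hb.index = Nat.card M * Nat.card Hb * Hb.index := by
        rw [h4, mul_assoc, h5, h6]
      exact Nat.eq_of_mul_eq_mul_right h8 h9
    rw [hcM] at h1
    have h10 : 0 < Nat.card M := Nat.card_pos
    exact Nat.eq_of_mul_eq_mul_left h10 (h1.symm.trans h2)
  have hcop : (Nat.card (M.subgroupOf L)).Coprime (M.subgroupOf L).index := by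
    rw [hcM, hindex]
    apply Nat.Coprime.symm
    apply Nat.coprime_of_dvd
    intro p hp h1 h2
    exact hM p hp h2 (hHb p hp h1)
  have hsolv : Group.IsSolvable (L ⧸ M.subgroupOf L) := by
    apply Cfsg.Agent.S0205.result
    have h1 : Nat.card (L ⧸ M.subgroupOf L) = Nat.card Hb := hindex
    rw [h1, ← Nat.not_even_iff_odd, even_iff_two_dvd]
    intro h2
    exact (hodd 2 (hHb 2 Nat.prime_two h2)).2 rfl
  obtain ⟨C, hC⟩ := Subgroup.exists_right_complement'_of_coprime hcop
  set H : Subgroup G := C.map L.subtype with hH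
  have hHL : H ≤ L := map_subtype_le C
  have hcC : Nat.card C = (M.subgroupOf L).index := hC.symm.index_eq_card.symm
  have hcH : Nat.card H = Nat.card Hb := by
    rw [← hindex, ← hcC]
    exact Nat.card_congr (C.equivMapOfInjective _ L.subtype_injective).toEquiv.symm
  -- every element of `L` is `m * c`
  have hdec : ∀ l ∈ L, ∃ m ∈ M, ∃ c ∈ H, l = m * c := by
    intro l hl
    obtain ⟨⟨m, c⟩, hmc⟩ := hC.surjective ⟨l, hl⟩
    exact ⟨(m : L), mem_subgroupOf.mp m.2, (c : L), ⟨c, c.2, rfl⟩,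
      (congrArg (fun z : L => (z : G)) hmc).symm⟩
  obtain ⟨t, rfl⟩ := QuotientGroup.mk_surjective tb
  have htL : ∀ x ∈ L, t * x * t⁻¹ ∈ L := by
    intro x hx
    rw [hL, mem_comap] at hx ⊢
    have := (Subgroup.mem_normalizer_iff.mp htb _).mp hx
    simpa only [_root_.QuotientGroup.mk'_apply, _root_.QuotientGroup.mk_mul, _root_.QuotientGroup.mk_inv] using this
  have hH2L : H.map (MulAut.conj t).toMonoidHom ≤ L := by
    rintro _ ⟨x, hx, rfl⟩
    exact htL x (hHL hx)
  have hC2 : IsComplement' (M.subgroupOf L) ((H.map (MulAut.conj t).toMonoidHom).subgroupOf L) := by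
    apply Cfsg.Agent.Solvable.SchurZassenhausConj.isComplement'_of_card_eq_index _ _ hcop
    rw [hindex, ← hcH]
    rw [Nat.card_congr (Subgroup.subgroupOfEquivOfLe hH2L).toEquiv]
    exact Nat.card_congr (H.equivMapOfInjective _ (MulAut.conj t).injective).toEquiv.symm
  obtain ⟨l, hl⟩ := Cfsg.Agent.Solvable.SchurZassenhausConj.conj_of_solvable (M.subgroupOf L) hcop
    (Or.inr hsolv) C _ hC hC2
  obtain ⟨m, hm, c, hc, hlmc⟩ := hdec l l.2
  -- `m⁻¹ t` normalises `H`
  have hmem : ∀ x ∈ H, t⁻¹ * m * x * m⁻¹ * t ∈ H := by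
    intro x hx
    have hx' : c⁻¹ * x * c ∈ H := H.mul_mem (H.mul_mem (H.inv_mem hc) hx) hc
    obtain ⟨y, hy, hyx⟩ := hx'
    have h1 : MulAut.conj l y ∈ (H.map (MulAut.conj t).toMonoidHom).subgroupOf L := by
      rw [← hl]
      exact Subgroup.smul_mem_pointwise_smul _ _ _ hy
    rw [mem_subgroupOf] at h1
    obtain ⟨z, hz, hzy⟩ := h1
    have h2 : (MulAut.conj t).toMonoidHom z = t * z * t⁻¹ := rfl
    have h3 : ((MulAut.conj l y : L) : G) = m * x * m⁻¹ := by
      have h4 : ((MulAut.conj l y : L) : G) = (l : G) * y * (l : G)⁻¹ := rfl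
      have h5 : (y : G) = c⁻¹ * x * c := hyx
      rw [h4, h5, hlmc]; group
    rw [h2, h3] at hzy
    have h6 : t⁻¹ * m * x * m⁻¹ * t = z := by
      have : t⁻¹ * m * x * m⁻¹ * t = t⁻¹ * (m * x * m⁻¹) * t := by group
      rw [this, ← hzy]; group
    rw [h6]; exact hz
  have hnorm : (t⁻¹ * m) ∈ Subgroup.normalizer (H : Set G) := by
    have hle : H.map (MulAut.conj (t⁻¹ * m)).toMonoidHom ≤ H := by
      rintro _ ⟨x, hx, rfl⟩
      have := hmem x hx
      change t⁻¹ * m * x * (t⁻¹ * m)⁻¹ ∈ H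
      have e : t⁻¹ * m * x * (t⁻¹ * m)⁻¹ = t⁻¹ * m * x * m⁻¹ * t := by group
      rw [e]; exact this
    have heq : H.map (MulAut.conj (t⁻¹ * m)).toMonoidHom = H := by
      apply Subgroup.eq_of_le_of_card_ge hle
      exact (Nat.card_congr (H.equivMapOfInjective _
        (MulAut.conj (t⁻¹ * m)).injective).toEquiv).le
    rw [Subgroup.mem_normalizer_iff]
    intro x
    constructor
    · intro hx
      exact hle ⟨x, hx, rfl⟩
    · intro hx
      have hx' : (t⁻¹ * m) * x * (t⁻¹ * m)⁻¹ ∈ H.map (MulAut.conj (t⁻¹ * m)).toMonoidHom := by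
        rw [heq]; exact hx
      obtain ⟨y, hy, hyx⟩ := hx'
      have h1 : (MulAut.conj (t⁻¹ * m)).toMonoidHom y = (MulAut.conj (t⁻¹ * m)).toMonoidHom x := hyx
      rw [← (MulAut.conj (t⁻¹ * m)).injective h1]; exact hy
  set s : G := (t⁻¹ * m)⁻¹ with hs
  have hsN : s ∈ Subgroup.normalizer (H : Set G) := Subgroup.inv_mem _ hnorm
  have hmk : (QuotientGroup.mk s : G ⧸ M) = QuotientGroup.mk t := by
    have : s = m⁻¹ * t := by rw [hs]; group
    rw [this, QuotientGroup.mk_mul, (QuotientGroup.eq_one_iff _).mpr (M.inv_mem hm), one_mul]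
  obtain ⟨e, he1, he2⟩ := exists_pow_lift M hq s k (by rw [hmk]; exact hk)
  have hfin := h H (by rw [hcH]; exact hHb) q hq hqπ (s ^ e) (Subgroup.pow_mem _ hsN e) he2
  rw [hmk] at he1
  rw [← he1, mem_centralizer_iff]
  intro x hx
  obtain ⟨y, rfl⟩ := QuotientGroup.mk_surjective x
  have hyL : y ∈ L := hx
  obtain ⟨m', hm', c', hc', rfl⟩ := hdec y hyL
  rw [mem_centralizer_iff] at hfin
  have h1 := hfin c' hc'
  rw [QuotientGroup.mk_mul, (QuotientGroup.eq_one_iff _).mpr hm', one_mul, ← QuotientGroup.mk_mul,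
    h1, QuotientGroup.mk_mul]

theorem closed_of_quotient {G : Type u} [Group G] [Finite G] {π : Set ℕ} (M : Subgroup G)
    [M.Normal] (hM : ∀ p : ℕ, p.Prime → p ∣ Nat.card M → p ∉ π) (h : Closed π (G ⧸ M)) :
    Closed π G := by
  obtain ⟨K, hK⟩ := h
  refine ⟨K.comap (QuotientGroup.mk' M), fun x => ?_⟩
  rw [mem_comap, hK, QuotientGroup.mk'_apply]
  constructor
  · intro h1 p hp hpx hpπ
    have h2 : orderOf x ∣ orderOf (QuotientGroup.mk x : G ⧸ M) * Nat.card M := by
      rw [orderOf_dvd_iff_pow_eq_one, pow_mul]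
      have h3 : x ^ orderOf (QuotientGroup.mk x : G ⧸ M) ∈ M := by
        rw [← QuotientGroup.eq_one_iff, QuotientGroup.mk_pow, pow_orderOf_eq_one]
      have h4 : (⟨_, h3⟩ : M) ^ Nat.card M = 1 := pow_card_eq_one'
      exact congrArg Subtype.val h4
    rcases hp.dvd_mul.mp (hpx.trans h2) with h3 | h3
    · exact h1 p hp h3 hpπ
    · exact hM p hp h3 hpπ
  · intro h1 p hp hpx hpπ
    exact h1 p hp (hpx.trans (orderOf_map_dvd (QuotientGroup.mk' M) x)) hpπ

/-- A maximal proper normal subgroup. -/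
theorem exists_simple_quotient (G : Type u) [Group G] [Finite G] [Nontrivial G] :
    ∃ (N : Subgroup G) (_ : N.Normal), N ≠ ⊤ ∧ IsSimpleGroup (G ⧸ N) := by
  obtain ⟨N, hN⟩ := (Set.toFinite {N : Subgroup G | N.Normal ∧ N ≠ ⊤}).exists_maximal
    ⟨⊥, inferInstance, bot_ne_top⟩
  haveI := hN.prop.1
  refine ⟨N, hN.prop.1, hN.prop.2, ?_⟩
  haveI : Nontrivial (G ⧸ N) := QuotientGroup.nontrivial_iff.mpr hN.prop.2
  refine { eq_bot_or_eq_top_of_normal := ?_ }
  intro H hH
  by_cases h : H = ⊤
  · exact Or.inr h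
  left
  have h1 : H.comap (QuotientGroup.mk' N) ≠ ⊤ := by
    intro h2
    apply h
    rw [eq_top_iff]
    intro x _
    obtain ⟨y, rfl⟩ := QuotientGroup.mk_surjective x
    have : y ∈ H.comap (QuotientGroup.mk' N) := by rw [h2]; trivial
    exact this
  have h2 : N ≤ H.comap (QuotientGroup.mk' N) := by
    intro x hx
    rw [mem_comap, QuotientGroup.mk'_apply, (QuotientGroup.eq_one_iff x).mpr hx]
    exact H.one_mem
  have h3 : (H.comap (QuotientGroup.mk' N)).Normal := inferInstance
  have h4 := hN.le_of_ge (y := H.comap (QuotientGroup.mk' N)) ⟨h3, h1⟩ h2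
  rw [eq_bot_iff]
  intro x hx
  obtain ⟨y, rfl⟩ := QuotientGroup.mk_surjective x
  have : y ∈ N := h4 hx
  rw [mem_bot]
  exact (QuotientGroup.eq_one_iff y).mpr this

theorem main {π : Set ℕ} (hodd : ∀ p ∈ π, p.Prime ∧ p ≠ 2) (n : ℕ) :
    ∀ (G : Type u) [Group G] [Finite G], Nat.card G = n → ¬ 3 ∣ Nat.card G → Hom π G →
      Closed π G := by
  classical
  induction n using Nat.strong_induction_on with
  | _ n ih =>
    intro G _ _ hn h3 hG
    by_cases hM : ∃ M : Subgroup G, M.Normal ∧ M ≠ ⊥ ∧ ∀ p : ℕ, p.Prime → p ∣ Nat.card M → p ∉ π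
    · obtain ⟨M, hMn, hMne, hMπ⟩ := hM
      apply closed_of_quotient M hMπ
      have hlt : Nat.card (G ⧸ M) < n := by
        rw [← hn]
        have h1 := M.card_eq_card_quotient_mul_card_subgroup
        have h2 : 1 < Nat.card M := by
          rw [Finite.one_lt_card_iff_nontrivial, Subgroup.nontrivial_iff_ne_bot]
          exact hMne
        have h3 : 0 < Nat.card (G ⧸ M) := Nat.card_pos
        rw [h1]
        exact lt_mul_of_one_lt_right h3 h2
      refine ih _ hlt (G ⧸ M) rfl (fun h4 => h3 (h4.trans ?_)) (hom_quotient hodd hG M hMπ)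
      exact ⟨Nat.card M, M.card_eq_card_quotient_mul_card_subgroup⟩
    push Not at hM
    -- proper normal subgroups are π-groups
    have hA : ∀ N : Subgroup G, N.Normal → N ≠ ⊤ → ∀ p : ℕ, p.Prime → p ∣ Nat.card N → p ∈ π := by
      intro N hNn hNt p hp hpN
      haveI := hNn
      have hlt : Nat.card N < n := by
        rw [← hn]
        rcases (Nat.le_of_dvd Nat.card_pos N.card_subgroup_dvd_card).lt_or_eq with h | h
        · exact h
        · exact absurd (Subgroup.eq_top_of_card_eq N h) hNt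
      obtain ⟨K, hK⟩ := ih _ hlt N rfl (fun h4 => h3 (h4.trans N.card_subgroup_dvd_card))
        (hom_subgroup hG N)
      have hK' : ∀ x : G, x ∈ K.map N.subtype ↔
          x ∈ N ∧ ∀ p : ℕ, p.Prime → p ∣ orderOf x → p ∉ π := by
        intro x
        constructor
        · rintro ⟨y, hy, rfl⟩
          refine ⟨y.2, ?_⟩
          have := (hK y).mp hy
          simpa only [_root_.Subgroup.subtype_apply, _root_.orderOf_submonoid] using this
        · rintro ⟨h1, h2⟩
          refine ⟨⟨x, h1⟩, (hK _).mpr ?_, rfl⟩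
          simpa only [_root_.Subgroup.orderOf_mk] using h2
      have hKn : (K.map N.subtype).Normal := by
        refine ⟨fun x hx g => ?_⟩
        rw [hK'] at hx ⊢
        refine ⟨hNn.conj_mem x hx.1 g, ?_⟩
        have : orderOf (g * x * g⁻¹) = orderOf x := by
          have := (MulAut.conj g).orderOf_eq x
          rwa [MulAut.conj_apply] at this
        rw [this]; exact hx.2
      by_contra hpπ
      haveI : Fact p.Prime := ⟨hp⟩
      have hbot : K.map N.subtype = ⊥ := by
        by_contra hne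
        obtain ⟨r, hr, hrK, hrπ⟩ := hM _ hKn hne
        haveI : Fact r.Prime := ⟨hr⟩
        obtain ⟨⟨x, hx⟩, hxr⟩ := exists_prime_orderOf_dvd_card' (G := K.map N.subtype) r hrK
        rw [Subgroup.orderOf_mk] at hxr
        exact ((hK' x).mp hx).2 r hr (by rw [hxr]) hrπ
      obtain ⟨⟨x, hx⟩, hxp⟩ := exists_prime_orderOf_dvd_card' (G := N) p hpN
      rw [Subgroup.orderOf_mk] at hxp
      have h5 : x ∈ K.map N.subtype := by
        rw [hK']
        refine ⟨hx, fun r hr hrx => ?_⟩
        rw [hxp] at hrx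
        rw [(Nat.prime_dvd_prime_iff_eq hr hp).mp hrx]
        exact hpπ
      rw [hbot, mem_bot] at h5
      rw [h5, orderOf_one] at hxp
      exact hp.one_lt.ne hxp
    by_cases hπ : ∀ p : ℕ, p.Prime → p ∣ Nat.card G → p ∈ π
    · refine ⟨⊥, fun x => ?_⟩
      rw [mem_bot]
      constructor
      · rintro rfl p hp hpx
        rw [orderOf_one] at hpx
        exact absurd (Nat.dvd_one.mp hpx) hp.ne_one
      · intro h
        by_contra hx
        have h1 : orderOf x ≠ 1 := fun h => hx (orderOf_eq_one_iff.mp h)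
        obtain ⟨p, hp, hpx⟩ := Nat.exists_prime_and_dvd h1
        exact h p hp hpx (hπ p hp (hpx.trans (_root_.orderOf_dvd_natCard x)))
    exfalso
    push Not at hπ
    obtain ⟨q, hq, hqG, hqπ⟩ := hπ
    haveI : Fact q.Prime := ⟨hq⟩
    obtain ⟨y, hy⟩ := exists_prime_orderOf_dvd_card' (G := G) q hqG
    have hy1 : y ≠ 1 := by
      rintro rfl
      rw [orderOf_one] at hy
      exact hq.one_lt.ne hy
    haveI : Nontrivial G := ⟨y, 1, hy1⟩
    obtain ⟨N, hNn, hNt, hNs⟩ := exists_simple_quotient G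
    have hNπ := hA N hNn hNt
    have hNN : Subgroup.normalizer (N : Set G) = ⊤ := Subgroup.normalizer_eq_top_iff.mpr hNn
    have hcent : Subgroup.centralizer (N : Set G) = ⊤ := by
      by_contra hne
      have hCn : (Subgroup.centralizer (N : Set G)).Normal := inferInstance
      have h1 := hA _ hCn hne q hq
      apply hqπ
      apply h1
      have h2 : y ∈ Subgroup.centralizer (N : Set G) :=
        hG N hNπ q hq hqπ y (by rw [hNN]; trivial) ⟨1, by rw [pow_one, ← hy, pow_orderOf_eq_one]⟩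
      rw [← hy]
      exact Subgroup.orderOf_dvd_natCard _ h2
    have hNc : N ≤ Subgroup.center G := by
      intro x hx
      rw [Subgroup.mem_center_iff]
      intro g
      have : g ∈ Subgroup.centralizer (N : Set G) := by rw [hcent]; trivial
      exact (mem_centralizer_iff.mp this x hx).symm
    by_cases hab : ∀ a b : G ⧸ N, a * b = b * a
    · -- `G` is abelian
      have hcomm : ∀ a b : G, a * b = b * a := by
        letI : CommGroup (G ⧸ N) := { (inferInstance : Group (G ⧸ N)) with mul_comm := hab }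
        haveI : IsCyclic (G ⧸ N) := IsSimpleGroup.isCyclic
        intro a b
        exact commutative_of_cyclic_center_quotient (QuotientGroup.mk' N)
          (by rw [QuotientGroup.ker_mk']; exact hNc) a b
      have hzn : (zpowers y).Normal := by
        refine ⟨fun x hx g => ?_⟩
        rw [hcomm g x, mul_assoc, mul_inv_cancel, mul_one]; exact hx
      obtain ⟨r, hr, hry, hrπ⟩ := hM (zpowers y) hzn (by
        rw [Ne, Subgroup.zpowers_eq_bot]; exact hy1)
      rw [Nat.card_zpowers, hy] at hry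
      rw [(Nat.prime_dvd_prime_iff_eq hr hq).mp hry] at hrπ
      exact hqπ hrπ
    push Not at hab
    have h3' : ¬ 3 ∣ Nat.card (G ⧸ N) := fun h4 =>
      h3 (h4.trans ⟨Nat.card N, N.card_eq_card_quotient_mul_card_subgroup⟩)
    have hSz := Cfsg.Agent.ThreePrime.Main.isoSuzuki hab h3'
    by_cases hp : ∃ p ∈ π, p ∣ Nat.card (G ⧸ N)
    · obtain ⟨p, hpπ, hpG⟩ := hp
      obtain ⟨hpp, hp2⟩ := hodd p hpπ
      obtain ⟨xb, tb, hxb, htt, htn, htx⟩ :=
        Cfsg.Agent.H505.SzReal.exists_normalizing_of_iso hSz hpp hp2 hpG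
      obtain ⟨t, rfl⟩ := QuotientGroup.mk_surjective tb
      set H : Subgroup G := (zpowers xb).comap (QuotientGroup.mk' N) with hH
      have h2π : 2 ∉ π := fun h => (hodd 2 h).2 rfl
      have hHπ : ∀ r : ℕ, r.Prime → r ∣ Nat.card H → r ∈ π := by
        intro r hr hrH
        haveI : Fact r.Prime := ⟨hr⟩
        obtain ⟨⟨x, hx⟩, hxr⟩ := exists_prime_orderOf_dvd_card' (G := H) r hrH
        rw [Subgroup.orderOf_mk] at hxr
        by_contra hrπ
        -- the image of `x` has order dividing `p` and `r`, so `x ∈ N`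
        have h1 : (QuotientGroup.mk x : G ⧸ N) ^ r = 1 := by
          rw [← QuotientGroup.mk_pow, ← hxr, pow_orderOf_eq_one]; rfl
        have h2 : (QuotientGroup.mk x : G ⧸ N) ^ p = 1 := by
          have h3 : (QuotientGroup.mk x : G ⧸ N) ∈ zpowers xb := hx
          obtain ⟨j, hj⟩ := mem_zpowers_iff.mp h3
          rw [← hj, ← zpow_natCast, ← zpow_mul, mul_comm, zpow_mul, zpow_natCast, ← hxb,
            pow_orderOf_eq_one, one_zpow]
        have hrp : r ≠ p := fun h => hrπ (h ▸ hpπ)
        have h4 : orderOf (QuotientGroup.mk x : G ⧸ N) ∣ Nat.gcd r p :=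
          Nat.dvd_gcd (orderOf_dvd_of_pow_eq_one h1) (orderOf_dvd_of_pow_eq_one h2)
        rw [(Nat.coprime_primes hr hpp).mpr hrp, Nat.dvd_one, orderOf_eq_one_iff] at h4
        have h5 : x ∈ N := (QuotientGroup.eq_one_iff x).mp h4
        apply hrπ
        apply hNπ r hr
        rw [← hxr]
        exact Subgroup.orderOf_dvd_natCard _ h5
      obtain ⟨e, he1, he2⟩ := exists_pow_lift N Nat.prime_two t 1 (by
        rw [pow_one, pow_two]; exact htt)
      have htb : (QuotientGroup.mk t : G ⧸ N) ∈ Subgroup.normalizer (zpowers xb : Set (G ⧸ N)) := by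
        have h1 : ∀ z ∈ zpowers xb, (QuotientGroup.mk t : G ⧸ N) * z *
            (QuotientGroup.mk t : G ⧸ N)⁻¹ ∈ zpowers xb := by
          intro z hz
          obtain ⟨j, rfl⟩ := mem_zpowers_iff.mp hz
          rw [← conj_zpow]
          exact Subgroup.zpow_mem _ htn j
        have hinv : (QuotientGroup.mk t : G ⧸ N)⁻¹ = QuotientGroup.mk t := inv_eq_of_mul_eq_one_right htt
        rw [Subgroup.mem_normalizer_iff]
        intro z
        refine ⟨h1 z, fun hz => ?_⟩
        have h2 := h1 _ hz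
        rw [hinv] at h2
        have h3 : (QuotientGroup.mk t : G ⧸ N) * ((QuotientGroup.mk t : G ⧸ N) * z *
            (QuotientGroup.mk t : G ⧸ N)) * (QuotientGroup.mk t : G ⧸ N) =
            ((QuotientGroup.mk t : G ⧸ N) * (QuotientGroup.mk t : G ⧸ N)) * z *
            ((QuotientGroup.mk t : G ⧸ N) * (QuotientGroup.mk t : G ⧸ N)) := by
          simp only [mul_assoc]
        rw [h3, htt, one_mul, mul_one] at h2
        exact h2
      have hteN : t ^ e ∈ Subgroup.normalizer (H : Set G) := by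
        rw [Subgroup.mem_normalizer_iff]
        intro z
        rw [hH, mem_comap, mem_comap]
        have h1 := Subgroup.mem_normalizer_iff.mp htb (QuotientGroup.mk' N z)
        rw [h1]
        have h2 : (QuotientGroup.mk' N) (t ^ e * z * (t ^ e)⁻¹) =
            (QuotientGroup.mk t : G ⧸ N) * (QuotientGroup.mk' N) z *
              (QuotientGroup.mk t : G ⧸ N)⁻¹ := by
          rw [map_mul, map_mul, map_inv]
          rw [show (QuotientGroup.mk' N) (t ^ e) = (QuotientGroup.mk t : G ⧸ N) from he1]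
        rw [h2]
      have hfin := hG H hHπ 2 Nat.prime_two h2π (t ^ e) hteN he2
      obtain ⟨x, rfl⟩ := QuotientGroup.mk_surjective xb
      rw [mem_centralizer_iff] at hfin
      have h1 := hfin x (show (QuotientGroup.mk x : G ⧸ N) ∈ zpowers (QuotientGroup.mk x : G ⧸ N)
        from mem_zpowers _)
      apply htx
      rw [← he1, ← QuotientGroup.mk_mul, ← QuotientGroup.mk_mul, h1]
    · push Not at hp
      have hcop : (Nat.card N).Coprime N.index := by
        apply Nat.coprime_of_dvd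
        intro p hpp h1 h2
        exact hp p (hNπ p hpp h1) h2
      obtain ⟨M, hMc⟩ := Subgroup.exists_right_complement'_of_coprime hcop
      have hMn : M.Normal := by
        refine ⟨fun x hx g => ?_⟩
        obtain ⟨⟨a, b⟩, hab⟩ := hMc.surjective g
        obtain ⟨a, haN⟩ := a
        obtain ⟨b, hbM⟩ := b
        have hg : g = a * b := hab.symm
        have ha : ∀ z : G, z * a = a * z := fun z => Subgroup.mem_center_iff.mp (hNc haN) z
        have h1 : a * b * x * (a * b)⁻¹ = b * x * b⁻¹ := by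
          have h2 : a * b * x * (a * b)⁻¹ = a * (b * x * b⁻¹) * a⁻¹ := by group
          rw [h2, ← ha]; group
        rw [hg, h1]
        exact M.mul_mem (M.mul_mem hbM hx) (M.inv_mem hbM)
      obtain ⟨r, hr, hrM, hrπ⟩ := hM M hMn (by
        rintro rfl
        apply hNt
        have := hMc.symm.index_eq_card
        rw [Subgroup.card_bot] at this
        exact Subgroup.index_eq_one.mp this)
      rw [← hMc.symm.index_eq_card] at hrM
      exact hp r hrπ hrM

end Cfsg.Agent.H505.PiHom
end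

-- part: S4045
section
set_option autoImplicit false
open Cfsg

namespace Cfsg.Agent.S4045

/-- Let π be a set of odd primes and G a finite group of order prime to 3 that is π-homogeneous: N_G(H)/C_G(H) is a π-group for every nontrivial π-subgroup H of G. Then the π'-elements of G (elements whose order is divisible by no prime of π) form a subgroup. -/
theorem result {G : Type*} [Group G] [Finite G] (π : Set ℕ)
    (hodd : ∀ p ∈ π, p.Prime ∧ p ≠ 2) (h3 : ¬ 3 ∣ Nat.card G)
    (hhom : (∀ H : Subgroup G, H ≠ ⊥ → (∀ p : ℕ, p.Prime → p ∣ Nat.card ↥H → p ∈ π) →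
        ∀ p : ℕ, p.Prime → p ∣ (Subgroup.centralizer (H : Set G)).relIndex (Subgroup.normalizer (H : Set G)) → p ∈ π)) :
    (∃ K : Subgroup G, ∀ x : G, x ∈ K ↔ ∀ p : ℕ, p.Prime → p ∣ orderOf x → p ∉ π) :=
  Cfsg.Agent.H505.PiHom.main hodd (Nat.card G) G rfl h3 (Cfsg.Agent.H505.PiHom.hom_of π hhom)

end Cfsg.Agent.S4045
end
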