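-- S4079: automorphisms of order p of metacyclic p-groups, p odd
import Mathlib
import Cfsg.Prelude.Def_OddOrderLocal
import Cfsg.Agent.S0638
import Cfsg.Agent.S0112
import Cfsg.Agent.PLocal.CyclicIndexP
import Cfsg.Agent.Transfer.TausskyTwoGroup
import Cfsg.Agent.S0662
import Cfsg.Agent.S3879
import Cfsg.Statements.S4079
set_option linter.all false

-- part: H513/MetaAutA
section
/-!
# Automorphisms of order `p` of metacyclic `p`-groups (S4079)

The subgroup `K = Ω₂(L)` of a metacyclic `p`-group `L` without cyclic subgroup of index `p`, and the forward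
direction.
-/

set_option autoImplicit false

namespace Cfsg.Agent.H513.MetaAut

open Subgroup
open scoped commutatorElement

section Meta

variable {L : Type*} [Group L]

/-- Quotients of metacyclic groups are metacyclic. -/
theorem isMetacyclic_quotient (h : Cfsg.IsMetacyclic L) (U : Subgroup L) [U.Normal] :
    Cfsg.IsMetacyclic (L ⧸ U) := by
  obtain ⟨N, hN, hc, hq⟩ := h
  have hN' : (N.map (QuotientGroup.mk' U)).Normal := hN.map _ (QuotientGroup.mk'_surjective U)
  refine ⟨N.map (QuotientGroup.mk' U), hN', ?_, ?_⟩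
  · exact isCyclic_of_surjective ((QuotientGroup.mk' U).subgroupMap N)
      (MonoidHom.subgroupMap_surjective _ _)
  · refine isCyclic_of_surjective (QuotientGroup.map N (N.map (QuotientGroup.mk' U)) (QuotientGroup.mk' U)
      (Subgroup.le_comap_map _ _)) ?_
    intro y
    obtain ⟨x, rfl⟩ := QuotientGroup.mk_surjective y
    obtain ⟨z, rfl⟩ := QuotientGroup.mk_surjective x
    exact ⟨(z : L ⧸ N), rfl⟩

/-- The elements of order dividing `p` of a noncyclic metacyclic `p`-group, `p` odd. -/
theorem exists_omega [Finite L] {p : ℕ} [hp : Fact p.Prime] (hp2 : p ≠ 2) (hL : IsPGroup p L)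
    (hm : Cfsg.IsMetacyclic L) (hnc : ¬ IsCyclic L) :
    ∃ U : Subgroup L, (∀ x, x ∈ U ↔ x ^ p = 1) ∧ Nat.card U = p ^ 2 ∧ (∀ x ∈ U, ∀ y ∈ U, x * y = y * x) := by
  obtain ⟨⟨h1, h2⟩, h3⟩ := S0638.result hp2 hL hm hnc
  refine ⟨Cfsg.omegaOne p (⊤ : Subgroup L), fun x => ⟨fun hx => h2 x hx, fun hx => ?_⟩, h3, fun x hx y hy => ?_⟩
  · exact Subgroup.subset_closure ⟨Subgroup.mem_top x, hx⟩
  · exact congrArg Subtype.val (h1.is_comm.comm ⟨x, hx⟩ ⟨y, hy⟩)

theorem omega_normal {p : ℕ} (U : Subgroup L) (hU : ∀ x, x ∈ U ↔ x ^ p = 1) : U.Normal := by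
  refine ⟨fun n hn g => ?_⟩
  rw [hU] at hn ⊢
  rw [conj_pow, hn]; group

/-- The quotient by `Ω₁` is not cyclic. -/
theorem not_cyclic_quotient [Finite L] {p : ℕ} [hp : Fact p.Prime] (hL : IsPGroup p L)
    (U : Subgroup L) (hU : ∀ x, x ∈ U ↔ x ^ p = 1) (hUc : Nat.card U = p ^ 2) [U.Normal]
    (hnc : ∀ C : Subgroup L, IsCyclic C → C.index ≠ p) : ¬ IsCyclic (L ⧸ U) := by
  intro hcyc
  have hpp : p.Prime := hp.out
  have hcard := U.card_mul_index
  rw [hUc] at hcard
  by_cases hs : U.index = 1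
  · -- `L = U`
    rw [hs, mul_one] at hcard
    obtain ⟨C, hC⟩ := Sylow.exists_subgroup_card_pow_prime (G := L) p (n := 1) (by
      rw [← hcard]; exact pow_dvd_pow p (by norm_num))
    rw [pow_one] at hC
    refine hnc C (isCyclic_of_prime_card hC) ?_
    have h1 := C.card_mul_index
    rw [hC, ← hcard, pow_two] at h1
    exact Nat.eq_of_mul_eq_mul_left hpp.pos h1
  · obtain ⟨g, hg⟩ := hcyc.exists_ofOrder_eq_natCard
    obtain ⟨h, rfl⟩ := QuotientGroup.mk_surjective g
    have hg' : orderOf (h : L ⧸ U) = U.index := hg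
    -- the order of `h`
    have hdvd : U.index ∣ orderOf h := by
      rw [← hg']; exact orderOf_map_dvd (QuotientGroup.mk' U) h
    obtain ⟨j, hj⟩ := hL.exists_card_eq
    have hUi : ∃ i, U.index = p ^ i := by
      have h1 : U.index ∣ p ^ j := by rw [← hj]; exact U.index_dvd_card
      obtain ⟨i, -, hi⟩ := (Nat.dvd_prime_pow hpp).mp h1
      exact ⟨i, hi⟩
    obtain ⟨i, hi⟩ := hUi
    have hi0 : i ≠ 0 := by rintro rfl; exact hs (by rw [hi, pow_zero])
    have hpow : h ^ U.index ∈ U := by
      rw [← QuotientGroup.eq_one_iff, QuotientGroup.mk_pow, ← hg', pow_orderOf_eq_one]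
    have hne : h ^ U.index ≠ 1 := by
      intro h1
      -- then `h ^ (index / p)` lies in `U`
      obtain ⟨i', rfl⟩ := Nat.exists_eq_succ_of_ne_zero hi0
      have h2 : h ^ (p ^ i') ∈ U := by
        rw [hU, ← pow_mul, ← pow_succ]
        rw [hi] at h1; exact h1
      rw [← QuotientGroup.eq_one_iff, QuotientGroup.mk_pow] at h2
      have h3 := orderOf_dvd_of_pow_eq_one h2
      rw [hg', hi] at h3
      have h4 := (Nat.pow_dvd_pow_iff_le_right hpp.one_lt).mp h3
      omega
    have hord : orderOf h = U.index * p := by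
      have h1 : (h ^ U.index) ^ p = 1 := (hU _).mp hpow
      have h2 : orderOf (h ^ U.index) = p := orderOf_eq_prime h1 hne
      have h3 : orderOf (h ^ U.index) = orderOf h / U.index := by
        rw [orderOf_pow, Nat.gcd_eq_right hdvd]
      rw [h2] at h3
      rw [h3, Nat.mul_div_cancel' hdvd]
    refine hnc (zpowers h) inferInstance ?_
    have h1 := (zpowers h).card_mul_index
    rw [Nat.card_zpowers, hord, ← hcard] at h1
    have h2 : 0 < U.index * p := Nat.mul_pos (Nat.pos_of_ne_zero (by rw [hi]; exact pow_ne_zero _ hpp.ne_zero)) hpp.pos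
    have h3 : U.index * p * (zpowers h).index = U.index * p * p := by
      rw [h1]; ring
    exact Nat.eq_of_mul_eq_mul_left h2 h3

end Meta

/-- The data on `U = Ω₁(L)` and `K = Ω₂(L)`. -/
structure Data (p : ℕ) (L : Type*) [Group L] where
  U : Subgroup L
  K : Subgroup L
  memU : ∀ x, x ∈ U ↔ x ^ p = 1
  memK : ∀ x, x ∈ K ↔ x ^ p ∈ U
  cardU : Nat.card U = p ^ 2
  cardK : Nat.card K = p ^ 4
  commU : ∀ x ∈ U, ∀ y ∈ U, x * y = y * x
  /-- the `p`-power map is a homomorphism on `K` -/
  mulK : ∀ x ∈ K, ∀ y ∈ K, (x * y) ^ p = x ^ p * y ^ p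
  /-- it is onto `U` -/
  surjK : ∀ w ∈ U, ∃ x ∈ K, x ^ p = w
  /-- `U` centralizes `K` -/
  commUK : ∀ w ∈ U, ∀ x ∈ K, w * x = x * w

theorem exists_data {L : Type*} [Group L] [Finite L] {p : ℕ} [hp : Fact p.Prime] (hp2 : p ≠ 2)
    (hL : IsPGroup p L) (hm : Cfsg.IsMetacyclic L) (hnc : ∀ C : Subgroup L, IsCyclic C → C.index ≠ p)
    (hL1 : Nat.card L ≠ 1) : Nonempty (Data p L) := by
  have hpp : p.Prime := hp.out
  have hncL : ¬ IsCyclic L := by
    intro hc
    obtain ⟨j, hj⟩ := hL.exists_card_eq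
    have hj0 : j ≠ 0 := by rintro rfl; exact hL1 (by rw [hj, pow_zero])
    obtain ⟨i, rfl⟩ := Nat.exists_eq_succ_of_ne_zero hj0
    obtain ⟨C, hC⟩ := Sylow.exists_subgroup_card_pow_prime (G := L) p (n := i) (by
      rw [hj]; exact pow_dvd_pow p (by omega))
    refine hnc C inferInstance ?_
    have h1 := C.card_mul_index
    rw [hC, hj, Nat.succ_eq_add_one, pow_succ] at h1
    exact Nat.eq_of_mul_eq_mul_left (pow_pos hpp.pos i) h1
  obtain ⟨U, hU, hUc, hUab⟩ := exists_omega hp2 hL hm hncL
  have hUn : U.Normal := omega_normal U hU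
  have hq := not_cyclic_quotient hL U hU hUc hnc
  obtain ⟨V, hV, hVc, hVab⟩ := exists_omega hp2 (hL.to_quotient U) (isMetacyclic_quotient hm U) hq
  -- `K`
  let K : Subgroup L := V.comap (QuotientGroup.mk' U)
  have hK : ∀ x, x ∈ K ↔ x ^ p ∈ U := by
    intro x
    rw [Subgroup.mem_comap, hV, ← map_pow, QuotientGroup.mk'_apply, QuotientGroup.eq_one_iff]
  have hUK : U ≤ K := by
    intro x hx
    rw [hK, (hU x).mp hx]; exact U.one_mem
  have hKc : Nat.card K = p ^ 4 := by
    have h1 := Subgroup.card_mul_index (U.subgroupOf K)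
    have h2 : Nat.card (U.subgroupOf K) = p ^ 2 := by
      rw [← hUc]; exact Nat.card_congr (Subgroup.subgroupOfEquivOfLe hUK).toEquiv
    have h3 : (U.subgroupOf K).index = p ^ 2 := by
      rw [← Subgroup.relIndex, ← hVc]
      have h4 : U = (QuotientGroup.mk' U).ker := (QuotientGroup.ker_mk' U).symm
      have h5 := Subgroup.relIndex_ker (f := QuotientGroup.mk' U) (K := K)
      rw [← h4] at h5
      rw [h5, Subgroup.map_comap_eq_self_of_surjective (QuotientGroup.mk'_surjective U)]
    rw [h2, h3] at h1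
    rw [← h1]; ring
  -- commutators
  obtain ⟨N, hN, hNcyc, hNq⟩ := hm
  have hcN : ∀ x y : L, ⁅x, y⁆ ∈ N := by
    intro x y
    rw [← QuotientGroup.eq_one_iff, ← QuotientGroup.mk'_apply, map_commutatorElement]
    let _ : CommGroup (L ⧸ N) := IsCyclic.commGroup
    rw [commutatorElement_eq_one_iff_mul_comm]
    exact mul_comm _ _
  have hcU : ∀ x ∈ K, ∀ y ∈ K, ⁅x, y⁆ ∈ U := by
    intro x hx y hy
    rw [← QuotientGroup.eq_one_iff, ← QuotientGroup.mk'_apply, map_commutatorElement,
      commutatorElement_eq_one_iff_mul_comm]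
    exact hVab _ hx _ hy
  -- `U ⊓ N` is central
  have hcen : ∀ c ∈ U ⊓ N, ∀ x : L, c * x = x * c := by
    have hnorm : (U ⊓ N).Normal := inferInstance
    have hcardle : Nat.card ↥(U ⊓ N) = p ∨ U ⊓ N = ⊥ := by
      by_cases hb : U ⊓ N = ⊥
      · exact Or.inr hb
      left
      have hcy : IsCyclic ↥(U ⊓ N) :=
        isCyclic_of_injective (Subgroup.inclusion (inf_le_right : U ⊓ N ≤ N)) (Subgroup.inclusion_injective _)
      obtain ⟨g, hg⟩ := hcy.exists_ofOrder_eq_natCard
      rw [← hg]
      refine orderOf_eq_prime (Subtype.ext ((hU _).mp g.2.1)) ?_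
      rintro rfl
      rw [orderOf_one] at hg
      exact hb (Subgroup.card_eq_one.mp hg.symm)
    rcases hcardle with h | h
    · have h1 : U ⊓ N ≤ Subgroup.center L := by
        have hne : U ⊓ N ≠ ⊥ := by
          intro hb
          rw [hb, Subgroup.card_bot] at h
          exact hpp.one_lt.ne h
        obtain ⟨Z, hZN, hZc, hZcard⟩ :=
          Transfer.TausskyTwoGroup.exists_central_card_prime_le hL (U ⊓ N) hne
        have h2 : Z = U ⊓ N := Subgroup.eq_of_le_of_card_ge hZN (by rw [h, hZcard])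
        rw [← h2]; exact hZc
      intro c hc x
      exact (Subgroup.mem_center_iff.mp (h1 hc) x).symm
    · intro c hc x
      rw [h, Subgroup.mem_bot] at hc
      rw [hc, one_mul, mul_one]
  have hchoose : p ∣ p.choose 2 := hpp.dvd_choose_self (by norm_num) (by
    have := hpp.two_le
    omega)
  have hcp : ∀ c ∈ U, ∀ k, p ∣ k → c ^ k = 1 := by
    rintro c hc k ⟨m, rfl⟩
    rw [pow_mul, (hU c).mp hc, one_pow]
  have hmulK : ∀ x ∈ K, ∀ y ∈ K, (x * y) ^ p = x ^ p * y ^ p := by
    intro x hx y hy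
    have h1 : ⁅y⁻¹, x⁻¹⁆ ∈ U ⊓ N := ⟨hcU _ (K.inv_mem hy) _ (K.inv_mem hx), hcN _ _⟩
    have h2 : y * x = x * y * ⁅y⁻¹, x⁻¹⁆ := by
      rw [commutatorElement_def]; group
    have h3 := PLocal.CyclicIndexP.mul_pow_of_commute h2 (hcen _ h1 x) (hcen _ h1 y) p
    rw [h3, hcp _ h1.1 _ hchoose, mul_one]
  have hcommUK' : ∀ x ∈ K, ∀ y ∈ K, x ^ p * y = y * x ^ p := by
    intro x hx y hy
    -- `y⁻¹ x y = x c`
    have h1 : ⁅x⁻¹, y⁻¹⁆ ∈ U ⊓ N := ⟨hcU _ (K.inv_mem hx) _ (K.inv_mem hy), hcN _ _⟩
    have h2 : y⁻¹ * x * y = x * ⁅x⁻¹, y⁻¹⁆ := by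
      rw [commutatorElement_def]; group
    have h3 : y⁻¹ * x ^ p * y = x ^ p := by
      have h4 : y⁻¹ * x ^ p * y = (y⁻¹ * x * y) ^ p := by
        have := conj_pow (i := p) (a := y⁻¹) (b := x)
        rw [inv_inv] at this
        exact this.symm
      have hc : Commute x ⁅x⁻¹, y⁻¹⁆ := (hcen _ h1 x).symm
      rw [h4, h2, hc.mul_pow, hcp _ h1.1 p dvd_rfl, mul_one]
    calc x ^ p * y = y * (y⁻¹ * x ^ p * y) := by group
      _ = y * x ^ p := by rw [h3]
  have hsurj : ∀ w ∈ U, ∃ x ∈ K, x ^ p = w := by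
    let f : K →* U :=
      { toFun := fun x => ⟨(x : L) ^ p, (hK _).mp x.2⟩
        map_one' := Subtype.ext (one_pow p)
        map_mul' := fun x y => Subtype.ext (hmulK x x.2 y y.2) }
    have hf : ∀ x : K, ((f x : U) : L) = (x : L) ^ p := fun x => rfl
    have hker : f.ker = U.subgroupOf K := by
      ext x
      rw [MonoidHom.mem_ker, Subgroup.mem_subgroupOf, hU, ← hf]
      constructor
      · intro h; rw [h]; rfl
      · intro h; exact Subtype.ext h
    have hkc : Nat.card f.ker = p ^ 2 := by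
      rw [hker, ← hUc]; exact Nat.card_congr (Subgroup.subgroupOfEquivOfLe hUK).toEquiv
    have hrc : Nat.card f.range = p ^ 2 := by
      have h1 := f.ker.card_mul_index
      rw [Subgroup.index_ker, hkc, hKc] at h1
      have h2 : p ^ 2 * Nat.card f.range = p ^ 2 * p ^ 2 := by rw [h1]; ring
      exact Nat.eq_of_mul_eq_mul_left (pow_pos hpp.pos 2) h2
    have hrt : f.range = ⊤ := by
      rw [← Subgroup.card_eq_iff_eq_top, hrc, hUc]
    intro w hw
    have h1 : (⟨w, hw⟩ : U) ∈ f.range := by rw [hrt]; exact Subgroup.mem_top _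
    obtain ⟨x, hx⟩ := h1
    exact ⟨x, x.2, congrArg Subtype.val hx⟩
  refine ⟨⟨U, K, hU, hK, hUc, hKc, hUab, hmulK, hsurj, fun w hw x hx => ?_⟩⟩
  obtain ⟨y, hy, rfl⟩ := hsurj w hw
  exact hcommUK' y hy x hx

end Cfsg.Agent.H513.MetaAut
end

-- part: H513/MetaAutB
section
/-!
# Automorphisms of order `p` of metacyclic `p`-groups (S4079): an automorphism moving `Ω₁`
-/

set_option autoImplicit false

namespace Cfsg.Agent.H513.MetaAut

open Subgroup
open scoped commutatorElement

variable {L : Type*} [Group L] [Finite L] {p : ℕ} [hp : Fact p.Prime]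

/-- A `p`-element acting on a group of order `p ^ n`, `n ≥ 1`: the number of fixed points is divisible by `p`. -/
theorem dvd_card_fixed {R : Type*} [Finite R] (σ : R → R) (hσ : σ^[p] = id) (hR : p ∣ Nat.card R) :
    p ∣ Nat.card {x : R // σ x = x} := by
  classical
  have := Fintype.ofFinite R
  have h1 := Equiv.Perm.card_fixedPoints_modEq (α := R) (f := σ) (p := p) (n := 1) (by
    rw [pow_one]
    exact hσ)
  rw [← Nat.card_eq_fintype_card, ← Nat.card_eq_fintype_card] at h1
  have h2 : p ∣ Nat.card ↑(Function.fixedPoints σ) := (Nat.modEq_zero_iff_dvd.mp (h1.symm.trans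
    (Nat.modEq_zero_iff_dvd.mpr hR)))
  exact h2

variable (a : MulAut L) (ha : a ^ p = 1)

/-- The action on `U`. -/
theorem fix_U (U : Subgroup L) (hU : ∀ x, x ∈ U ↔ x ^ p = 1) (hUc : Nat.card U = p ^ 2)
    (hUab : ∀ x ∈ U, ∀ y ∈ U, x * y = y * x) (ha : a ^ p = 1) (v : L) (hv : v ∈ U) (hav : a v ≠ v) :
    (∀ w ∈ U, a (w⁻¹ * a w) = w⁻¹ * a w) ∧
    (∀ w ∈ U, a w = w → w ∈ zpowers (v⁻¹ * a v)) := by
  have hpp : p.Prime := hp.out
  have haU : ∀ x ∈ U, a x ∈ U := by
    intro x hx
    rw [hU] at hx ⊢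
    rw [← map_pow, hx, map_one]
  let aU : U → U := fun x => ⟨a x, haU x x.2⟩
  have haUk : ∀ (k : ℕ) (x : U), ((aU^[k] x : U) : L) = (a ^ k) x := by
    intro k
    induction k with
    | zero => intro x; rfl
    | succ k ih =>
      intro x
      rw [Function.iterate_succ_apply', pow_succ']
      change a ((aU^[k] x : U) : L) = _
      rw [ih]; rfl
  have haUp : aU^[p] = id := by
    funext x
    apply Subtype.ext
    rw [haUk, ha]; rfl
  let cU : CommGroup U := { (inferInstance : Group U) with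
    mul_comm := fun x y => Subtype.ext (hUab x x.2 y y.2) }
  let f : U →* U :=
    { toFun := fun w => w⁻¹ * aU w
      map_one' := by
        apply Subtype.ext
        change (1 : L)⁻¹ * a 1 = 1
        simp
      map_mul' := fun x y => by
        have h1 : aU (x * y) = aU x * aU y := Subtype.ext (map_mul a _ _)
        rw [h1, mul_inv]
        exact mul_mul_mul_comm _ _ _ _ }
  have hf : ∀ w : U, f w = w⁻¹ * aU w := fun w => rfl
  have hmemker : ∀ w : U, w ∈ f.ker ↔ aU w = w := by
    intro w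
    rw [MonoidHom.mem_ker, hf, inv_mul_eq_one, eq_comm]
  have hpU : p ∣ Nat.card U := by rw [hUc]; exact dvd_pow_self p two_ne_zero
  have hkp : p ∣ Nat.card f.ker := by
    have h1 := dvd_card_fixed aU haUp hpU
    have h2 : Nat.card f.ker = Nat.card {x : U // aU x = x} :=
      Nat.card_congr (Equiv.subtypeEquivRight hmemker)
    rw [h2]; exact h1
  have hmul : Nat.card f.ker * Nat.card f.range = p ^ 2 := by
    have h1 := f.ker.card_mul_index
    rw [Subgroup.index_ker, hUc] at h1
    exact h1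
  have hker_ne : Nat.card f.ker ≠ p ^ 2 := by
    intro h
    have h1 : f.ker = ⊤ := by rw [← Subgroup.card_eq_iff_eq_top, h, hUc]
    have h2 : (⟨v, hv⟩ : U) ∈ f.ker := by rw [h1]; exact Subgroup.mem_top _
    rw [hmemker] at h2
    exact hav (congrArg Subtype.val h2)
  have hkc : Nat.card f.ker = p := by
    have h1 : Nat.card f.ker ∣ p ^ 2 := ⟨_, hmul.symm⟩
    obtain ⟨i, hi, hi'⟩ := (Nat.dvd_prime_pow hpp).mp h1
    interval_cases i
    · rw [hi', pow_zero, Nat.dvd_one] at hkp
      exact absurd hkp hpp.one_lt.ne'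
    · rw [hi', pow_one]
    · exact absurd hi' hker_ne
  have hrc : Nat.card f.range = p := by
    rw [hkc, pow_two] at hmul
    exact Nat.eq_of_mul_eq_mul_left hpp.pos hmul
  -- the range is fixed
  have hafr : ∀ w : U, aU (f w) = f (aU w) := by
    intro w
    apply Subtype.ext
    change a ((w : L)⁻¹ * a w) = (a w)⁻¹ * a (a w)
    rw [map_mul, map_inv]
  have hrfix : f.range ≤ f.ker := by
    let aR : f.range → f.range := fun x => ⟨aU x, by
      obtain ⟨w, hw⟩ := x.2
      exact ⟨aU w, by rw [← hafr, hw]⟩⟩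
    have haRk : ∀ (k : ℕ) (x : f.range), ((aR^[k] x : f.range) : U) = aU^[k] x := by
      intro k
      induction k with
      | zero => intro x; rfl
      | succ k ih =>
        intro x
        rw [Function.iterate_succ_apply', Function.iterate_succ_apply', ← ih]
    have haRp : aR^[p] = id := by
      funext x
      apply Subtype.ext
      rw [haRk, haUp]; rfl
    have h1 := dvd_card_fixed aR haRp (by rw [hrc])
    have h2 : Nat.card ↥(f.ker ⊓ f.range) = Nat.card {x : f.range // aR x = x} := by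
      refine Nat.card_congr
        { toFun := fun x => ⟨⟨x.1, x.2.2⟩, Subtype.ext ((hmemker _).mp x.2.1)⟩
          invFun := fun x => ⟨x.1.1, ⟨(hmemker _).mpr (congrArg Subtype.val x.2), x.1.2⟩⟩
          left_inv := fun x => rfl
          right_inv := fun x => rfl }
    rw [← h2] at h1
    have h3 : f.ker ⊓ f.range = f.range := by
      refine Subgroup.eq_of_le_of_card_ge inf_le_right ?_
      rw [hrc]
      exact Nat.le_of_dvd Nat.card_pos h1
    rw [← h3]; exact inf_le_left
  refine ⟨fun w hw => ?_, fun w hw hw' => ?_⟩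
  · have h1 : f ⟨w, hw⟩ ∈ f.ker := hrfix ⟨_, rfl⟩
    rw [hmemker] at h1
    exact congrArg Subtype.val h1
  · have h1 : f ⟨v, hv⟩ ∈ f.ker := hrfix ⟨_, rfl⟩
    have h2 : (⟨w, hw⟩ : U) ∈ f.ker := (hmemker _).mpr (Subtype.ext hw')
    have h3 : (⟨f ⟨v, hv⟩, h1⟩ : f.ker) ≠ 1 := by
      intro h
      have h4 : f ⟨v, hv⟩ = 1 := congrArg Subtype.val h
      have h5 : (⟨v, hv⟩ : U) ∈ f.ker := h4
      rw [hmemker] at h5
      exact hav (congrArg Subtype.val h5)
    have h4 : (⟨⟨w, hw⟩, h2⟩ : f.ker) ∈ zpowers (⟨f ⟨v, hv⟩, h1⟩ : f.ker) := mem_zpowers_of_prime_card hkc h3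
    obtain ⟨k, hk⟩ := Subgroup.mem_zpowers_iff.mp h4
    refine Subgroup.mem_zpowers_iff.mpr ⟨k, ?_⟩
    have h5 := congrArg (fun x : f.ker => ((x : U) : L)) hk
    have h6 : ((f ⟨v, hv⟩ : U) : L) = v⁻¹ * a v := rfl
    rw [← h6]
    simpa using h5

/-- **The key computation.** -/
theorem key (D : Data p L) (hp2 : p ≠ 2) (ha : a ^ p = 1) (v : L) (hv : v ∈ D.U) (hav : a v ≠ v) :
    p = 3 ∧ ∀ g : L, IsPGroup p (zpowers g) → a g = g → g ∈ zpowers (v⁻¹ * a v) := by
  have hpp : p.Prime := hp.out
  obtain ⟨hfix, hfix'⟩ := fix_U a D.U D.memU D.cardU D.commU ha v hv hav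
  have haU : ∀ x ∈ D.U, a x ∈ D.U := by
    intro x hx
    rw [D.memU] at hx ⊢
    rw [← map_pow, hx, map_one]
  have haK : ∀ x ∈ D.K, a x ∈ D.K := by
    intro x hx
    rw [D.memK] at hx ⊢
    rw [← map_pow]; exact haU _ hx
  set u := v⁻¹ * a v with hu
  have huU : u ∈ D.U := D.U.mul_mem (D.U.inv_mem hv) (haU v hv)
  have hu1 : u ≠ 1 := by
    intro h
    rw [hu, inv_mul_eq_one] at h
    exact hav h.symm
  have hau : a u = u := hfix v hv
  obtain ⟨y, hyK, hyv⟩ := D.surjK v hv
  set x := y⁻¹ * a y with hx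
  have hxK : x ∈ D.K := D.K.mul_mem (D.K.inv_mem hyK) (haK y hyK)
  have hay : a y = y * x := by rw [hx]; group
  have hxu : x ^ p = u := by
    rw [hx, D.mulK _ (D.K.inv_mem hyK) _ (haK y hyK), inv_pow, ← map_pow, hyv]
  set z := x⁻¹ * a x with hz
  have hzK : z ∈ D.K := D.K.mul_mem (D.K.inv_mem hxK) (haK x hxK)
  have hax : a x = x * z := by rw [hz]; group
  have hzU : z ∈ D.U := by
    rw [D.memU, hz, D.mulK _ (D.K.inv_mem hxK) _ (haK x hxK), inv_pow, ← map_pow, hxu, hau, inv_mul_cancel]
  set t := z⁻¹ * a z with ht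
  have htU : t ∈ D.U := D.U.mul_mem (D.U.inv_mem hzU) (haU z hzU)
  have haz : a z = z * t := by rw [ht]; group
  have hat : a t = t := hfix z hzU
  have hzx : Commute z x := D.commUK z hzU x hxK
  have hzt : Commute z t := D.commU z hzU t htU
  have htx : Commute t x := D.commUK t htU x hxK
  -- iterates
  have hz_it : ∀ k : ℕ, (a ^ k) z = z * t ^ k := by
    intro k
    induction k with
    | zero => simp
    | succ k ih =>
      rw [pow_succ', MulAut.mul_apply, ih, map_mul, map_pow, haz, hat, pow_succ']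
      group
  have hy_it : ∀ k : ℕ, (a ^ k) y = y * x ^ k * z ^ (k.choose 2) * t ^ (k.choose 3) := by
    intro k
    induction k with
    | zero => simp
    | succ k ih =>
      rw [pow_succ', MulAut.mul_apply, ih, map_mul, map_mul, map_mul, map_pow, map_pow, map_pow, hay, hax, haz,
        hat, (hzx.symm).mul_pow, hzt.mul_pow]
      have h1 : (k + 1).choose 2 = k + k.choose 2 := by
        rw [Nat.choose_succ_succ' k 1, Nat.choose_one_right]
      have h2 : (k + 1).choose 3 = k.choose 2 + k.choose 3 := Nat.choose_succ_succ' k 2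
      have e1 : x ^ (k + 1) = x * x ^ k := pow_succ' x k
      have e2 : z ^ (k + k.choose 2) = z ^ k * z ^ (k.choose 2) := pow_add z k _
      have e3 : t ^ (k.choose 2 + k.choose 3) = t ^ (k.choose 2) * t ^ (k.choose 3) := pow_add t _ _
      rw [h1, h2, e1, e2, e3]
      simp only [mul_assoc]
  have hcp : ∀ c ∈ D.U, ∀ k, p ∣ k → c ^ k = 1 := by
    rintro c hc k ⟨m, rfl⟩
    rw [pow_mul, (D.memU c).mp hc, one_pow]
  have h2p : p ∣ p.choose 2 := hpp.dvd_choose_self (by norm_num) (by
    have := hpp.two_le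
    omega)
  have hmain : u * t ^ (p.choose 3) = 1 := by
    have h1 := hy_it p
    rw [ha, hxu, hcp z hzU _ h2p, mul_one, MulAut.one_apply, mul_assoc] at h1
    have h2 : y * 1 = y * (u * t ^ (p.choose 3)) := by rw [mul_one]; exact h1
    exact (mul_left_cancel h2).symm
  have hp3 : p = 3 := by
    by_contra hne
    have h3p : p ∣ p.choose 3 := hpp.dvd_choose_self (by norm_num) (by
      have := hpp.two_le
      omega)
    rw [hcp t htU _ h3p, mul_one] at hmain
    exact hu1 hmain
  have ht1 : t ≠ 1 := by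
    intro h
    rw [h, one_pow, mul_one] at hmain
    exact hu1 hmain
  have hzfix : a z ≠ z := by
    intro h
    apply ht1
    rw [ht, h, inv_mul_cancel]
  refine ⟨hp3, fun g hgp hag => ?_⟩
  by_cases hg1 : g = 1
  · rw [hg1]; exact Subgroup.one_mem _
  obtain ⟨j, hj⟩ : ∃ j, orderOf g = p ^ j := by
    obtain ⟨j, hj⟩ := IsPGroup.iff_card.mp hgp
    exact ⟨j, by rw [← Nat.card_zpowers, hj]⟩
  have hj0 : j ≠ 0 := by
    rintro rfl
    rw [pow_zero, orderOf_eq_one_iff] at hj
    exact hg1 hj
  by_cases hj1 : j = 1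
  · subst hj1
    rw [pow_one] at hj
    refine hfix' g ?_ hag
    rw [D.memU, ← hj, pow_orderOf_eq_one]
  · exfalso
    obtain ⟨i, rfl⟩ : ∃ i, j = i + 2 := ⟨j - 2, by omega⟩
    set g' := g ^ (p ^ i) with hg'
    have hag' : a g' = g' := by rw [hg', map_pow, hag]
    have hg'o : orderOf g' = p ^ 2 := by
      rw [hg', orderOf_pow, hj, Nat.gcd_eq_right (pow_dvd_pow p (by omega)), pow_add,
        Nat.mul_div_cancel_left _ (pow_pos hpp.pos i)]
    have hg'pU : g' ^ p ∈ D.U := by
      rw [D.memU, ← pow_mul, ← pow_two, ← hg'o, pow_orderOf_eq_one]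
    have hg'K : g' ∈ D.K := (D.memK _).mpr hg'pU
    have hg'p1 : g' ^ p ≠ 1 := by
      intro h
      have h1 := orderOf_dvd_of_pow_eq_one h
      rw [hg'o] at h1
      have h2 := Nat.le_of_dvd hpp.pos h1
      have h3 := hpp.one_lt
      nlinarith
    have hmem := hfix' (g' ^ p) hg'pU (by rw [map_pow, hag'])
    obtain ⟨k, hk⟩ := Subgroup.mem_zpowers_iff.mp hmem
    -- `w = x ^ (-k) * g'`
    set w := (x ^ k)⁻¹ * g' with hw
    have hxkK : x ^ k ∈ D.K := D.K.zpow_mem hxK k
    have hwU : w ∈ D.U := by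
      rw [D.memU, hw, D.mulK _ (D.K.inv_mem hxkK) _ hg'K, inv_pow]
      have h1 : (x ^ k) ^ p = g' ^ p := by
        rw [← hk, ← hxu, ← zpow_natCast, ← zpow_natCast, ← zpow_mul, ← zpow_mul, mul_comm]
      rw [h1, inv_mul_cancel]
    have hg'w : g' = x ^ k * w := by rw [hw]; group
    have haw : a w = w * (w⁻¹ * a w) := by group
    have hfw := hfix w hwU
    have h1 : z ^ k * (w⁻¹ * a w) = 1 := by
      have h2 : a g' = x ^ k * z ^ k * (w * (w⁻¹ * a w)) := by
        conv_lhs => rw [hg'w, map_mul, map_zpow, hax, (hzx.symm).mul_zpow, haw]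
      rw [hag', hg'w] at h2
      have hzw : Commute (z ^ k) w := (show Commute z w from D.commU z hzU w hwU).zpow_left k
      have h3 : x ^ k * w * 1 = x ^ k * w * (z ^ k * (w⁻¹ * a w)) := by
        rw [mul_one]
        calc x ^ k * w = x ^ k * z ^ k * (w * (w⁻¹ * a w)) := h2
          _ = x ^ k * (z ^ k * w) * (w⁻¹ * a w) := by group
          _ = x ^ k * (w * z ^ k) * (w⁻¹ * a w) := by rw [hzw.eq]
          _ = x ^ k * w * (z ^ k * (w⁻¹ * a w)) := by group
      exact (mul_left_cancel h3).symm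
    have hzk : a (z ^ k) = z ^ k := by
      have h2 : z ^ k = (w⁻¹ * a w)⁻¹ := eq_inv_of_mul_eq_one_left h1
      rw [h2, map_inv, hfw]
    -- `k` is prime to `p`
    have hkp : ¬ (p : ℤ) ∣ k := by
      rintro ⟨m, rfl⟩
      apply hg'p1
      rw [← hk, zpow_mul, zpow_natCast, (D.memU u).mp huU, one_zpow]
    apply hzfix
    have hcop : IsCoprime (p : ℤ) k :=
      (Prime.coprime_iff_not_dvd (Nat.prime_iff_prime_int.mp hpp)).mpr hkp
    obtain ⟨r, s, hrs⟩ := hcop
    have hz' : z = (z ^ k) ^ s := by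
      calc z = z ^ (1 : ℤ) := (zpow_one z).symm
        _ = z ^ (r * p + s * k) := by rw [hrs]
        _ = (z ^ k) ^ s := by
          rw [zpow_add, mul_comm r, zpow_mul, zpow_natCast, (D.memU z).mp hzU, one_zpow, one_mul,
            mul_comm s, zpow_mul]
    rw [hz', map_zpow, hzk]

end Cfsg.Agent.H513.MetaAut
end

-- part: H513/MetaAutC
section
/-!
# Automorphisms of order `p` of metacyclic `p`-groups (S4079): the semidirect product
-/

set_option autoImplicit false

namespace Cfsg.Agent.H513.MetaAut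

open Subgroup
open scoped commutatorElement

variable {L : Type*} [Group L]

/-- The semidirect product of `L` with `⟨a⟩`. -/
abbrev Gp (a : MulAut L) := SemidirectProduct L ↥(zpowers a) (zpowers a).subtype

theorem finite_Gp [Finite L] (a : MulAut L) : Finite (Gp a) :=
  Finite.of_equiv _ SemidirectProduct.equivProd.symm

theorem card_sdp {p : ℕ} (a : MulAut L) (ha : orderOf a = p) (m : ℕ) (hm : Nat.card L = p ^ m) :
    Nat.card (Gp a) = p ^ (m + 1) := by
  rw [SemidirectProduct.card, hm, Nat.card_zpowers, ha, pow_succ]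

theorem mem_cent (a : MulAut L) (g : Gp a) :
    g ∈ Subgroup.centralizer ({SemidirectProduct.inr (⟨a, mem_zpowers a⟩ : zpowers a)} : Set (Gp a)) ↔
      a g.left = g.left := by
  rw [Subgroup.mem_centralizer_singleton_iff]
  constructor
  · intro h
    have h1 := congrArg SemidirectProduct.left h
    simpa [SemidirectProduct.mul_left] using h1.symm
  · intro h
    apply SemidirectProduct.ext
    · simp [h]
    · simp only [SemidirectProduct.mul_right, SemidirectProduct.right_inr]
      have : IsMulCommutative (zpowers a) := inferInstance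
      exact this.is_comm.comm _ _

variable [Finite L] {p : ℕ} [hp : Fact p.Prime]

theorem forward (hp2 : p ≠ 2) (hL : IsPGroup p L) (hmc : Cfsg.IsMetacyclic L)
    (hnc : ∀ C : Subgroup L, IsCyclic C → C.index ≠ p)
    (a : MulAut L) (ha : orderOf a = p) (m : ℕ) (hm : Nat.card L = p ^ m)
    (v : L) (hv : orderOf v = p) (hav : a v ≠ v) :
    (p = 3 ∧ Group.nilpotencyClass (SemidirectProduct L ↥(zpowers a) (zpowers a).subtype) = m) := by
  have hpp : p.Prime := hp.out
  have hL1 : Nat.card L ≠ 1 := by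
    intro h
    have h1 : orderOf v ∣ 1 := by rw [← h]; exact orderOf_dvd_natCard v
    rw [hv, Nat.dvd_one] at h1
    exact hpp.one_lt.ne' h1
  obtain ⟨D⟩ := exists_data hp2 hL hmc hnc hL1
  have hap : a ^ p = 1 := by rw [← ha]; exact pow_orderOf_eq_one a
  have hvU : v ∈ D.U := by rw [D.memU, ← hv, pow_orderOf_eq_one]
  obtain ⟨hp3, hfix⟩ := key a D hp2 hap v hvU hav
  refine ⟨hp3, ?_⟩
  obtain ⟨hf1, hf2⟩ := fix_U a D.U D.memU D.cardU D.commU hap v hvU hav
  set u := v⁻¹ * a v with hu
  have hau : a u = u := hf1 v hvU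
  have huU : u ∈ D.U := by
    rw [hu]
    refine D.U.mul_mem (D.U.inv_mem hvU) ?_
    rw [D.memU, ← map_pow, (D.memU v).mp hvU, map_one]
  have hu1 : u ≠ 1 := by
    intro h
    rw [hu, inv_mul_eq_one] at h
    exact hav h.symm
  have huo : orderOf u = p := orderOf_eq_prime ((D.memU u).mp huU) hu1
  -- fixed points
  have hfixall : ∀ g : L, a g = g ↔ g ∈ zpowers u := by
    intro g
    constructor
    · intro hg
      exact hfix g (hL.to_subgroup _) hg
    · intro hg
      obtain ⟨k, rfl⟩ := Subgroup.mem_zpowers_iff.mp hg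
      rw [map_zpow, hau]
  -- the centralizer of `a`
  have hfin : Finite (Gp a) := finite_Gp a
  let β : Gp a := SemidirectProduct.inr (⟨a, mem_zpowers a⟩ : zpowers a)
  let A : Subgroup (Gp a) := Subgroup.centralizer ({β} : Set (Gp a))
  have hmemA : ∀ g : Gp a, g ∈ A ↔ a g.left = g.left := mem_cent a
  have hAcard : Nat.card A = p ^ 2 := by
    let e : A ≃ (zpowers u) × (zpowers a) :=
      { toFun := fun g => (⟨g.1.left, (hfixall _).mp ((hmemA _).mp g.2)⟩, g.1.right)
        invFun := fun x => ⟨⟨x.1, x.2⟩, (hmemA _).mpr ((hfixall _).mpr x.1.2)⟩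
        left_inv := fun g => rfl
        right_inv := fun x => rfl }
    rw [Nat.card_congr e, Nat.card_prod, Nat.card_zpowers, Nat.card_zpowers, huo, ha, pow_two]
  have hAcomm : IsMulCommutative A := IsPGroup.isMulCommutative_of_card_eq_prime_sq hAcard
  have hAC : Subgroup.centralizer (A : Set (Gp a)) = A := by
    apply le_antisymm
    · intro g hg
      rw [Subgroup.mem_centralizer_singleton_iff]
      have hβ : β ∈ A := by
        rw [hmemA]; simp [β]
      exact ((Subgroup.mem_centralizer_iff.mp hg) β hβ).symm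
    · intro g hg
      rw [Subgroup.mem_centralizer_iff]
      intro h hh
      exact congrArg Subtype.val (hAcomm.is_comm.comm ⟨h, hh⟩ ⟨g, hg⟩)
  have := S0112.result (X := Gp a) (m + 1) (card_sdp a ha m hm) A hAcard hAC
  simpa using this

omit hp [Finite L] in
/-- Characteristic subgroups of `L` are normal in the semidirect product. -/
theorem normal_map_inl (a : MulAut L) (W : Subgroup L) (hW : ∀ σ : MulAut L, ∀ w ∈ W, σ w ∈ W) :
    (W.map (SemidirectProduct.inl : L →* Gp a)).Normal := by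
  refine ⟨?_⟩
  rintro _ ⟨w, hw, rfl⟩ g
  have h1 : (g.left * (g.right : MulAut L) w * g.left⁻¹) ∈ W := by
    have h2 := hW (MulAut.conj g.left * (g.right : MulAut L)) w hw
    simpa [MulAut.mul_apply] using h2
  refine ⟨_, h1, ?_⟩
  apply SemidirectProduct.ext
  · simp [SemidirectProduct.mul_left, SemidirectProduct.inv_left]
  · simp [SemidirectProduct.mul_right]

omit hp [Finite L] in
theorem index_map_inl (a : MulAut L) (ha : orderOf a = p) (m : ℕ) (hm : Nat.card L = p ^ m)
    (W : Subgroup L) :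
    Nat.card W * (W.map (SemidirectProduct.inl : L →* Gp a)).index = p ^ (m + 1) := by
  have h1 := (W.map (SemidirectProduct.inl : L →* Gp a)).card_mul_index
  rw [card_sdp a ha m hm] at h1
  have h2 : Nat.card ↥(W.map (SemidirectProduct.inl : L →* Gp a)) = Nat.card W :=
    Nat.card_congr (Subgroup.equivMapOfInjective W _ SemidirectProduct.inl_injective).toEquiv.symm
  rw [h2] at h1
  exact h1

theorem backward (hp2 : p ≠ 2) (hL : IsPGroup p L) (hmc : Cfsg.IsMetacyclic L)
    (hnc : ∀ C : Subgroup L, IsCyclic C → C.index ≠ p)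
    (a : MulAut L) (ha : orderOf a = p) (m : ℕ) (hm : Nat.card L = p ^ m)
    (hcl : Group.nilpotencyClass (SemidirectProduct L ↥(zpowers a) (zpowers a).subtype) = m) :
    ∃ x : L, orderOf x = p ∧ a x ≠ x := by
  by_contra hcon
  push Not at hcon
  have hpp : p.Prime := hp.out
  have hL1 : Nat.card L ≠ 1 := by
    intro h
    have hs : Subsingleton L := (Nat.card_eq_one_iff_unique.mp h).1
    have h1 : a = 1 := MulEquiv.ext fun x => Subsingleton.elim _ _
    rw [h1, orderOf_one] at ha
    exact hpp.one_lt.ne ha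
  obtain ⟨D⟩ := exists_data hp2 hL hmc hnc hL1
  have hfin : Finite (Gp a) := finite_Gp a
  have hm4 : 4 ≤ m := by
    have h1 := D.K.card_subgroup_dvd_card
    rw [D.cardK, hm] at h1
    exact (Nat.pow_dvd_pow_iff_le_right hpp.one_lt).mp h1
  have hUfix : ∀ w ∈ D.U, a w = w := by
    intro w hw
    by_cases hw1 : w = 1
    · rw [hw1, map_one]
    · exact hcon w (orderOf_eq_prime ((D.memU w).mp hw) hw1)
  have hGcard := card_sdp a ha m hm
  obtain ⟨huni, -⟩ := S0662.result (G := Gp a) (p := p) (m + 1) hGcard (by simpa using hcl) (by omega)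
  -- normal subgroups of order `p ^ 2` of `G` inside `L`
  have huni2 : ∀ W : Subgroup L, (∀ σ : MulAut L, ∀ w ∈ W, σ w ∈ W) → ∀ i, Nat.card W = p ^ i → i + 2 ≤ m + 1 →
      W.map (SemidirectProduct.inl : L →* Gp a) = (⊤ : Subgroup (Gp a)).lowerCentralSeries (m - i) := by
    intro W hW i hi him
    have h1 := normal_map_inl a W hW
    have h2 := index_map_inl a ha m hm W
    rw [hi] at h2
    have h3 : (W.map (SemidirectProduct.inl : L →* Gp a)).index = p ^ (m + 1 - i) := by
      have h4 : p ^ i * (W.map (SemidirectProduct.inl : L →* Gp a)).index = p ^ i * p ^ (m + 1 - i) := by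
        rw [h2, ← pow_add]; congr 1; omega
      exact Nat.eq_of_mul_eq_mul_left (pow_pos hpp.pos i) h4
    have h4 := huni _ (m + 1 - i) (by omega) h3
    rw [h4]
    congr 1
    omega
  have hUchar : ∀ σ : MulAut L, ∀ w ∈ D.U, σ w ∈ D.U := by
    intro σ w hw
    rw [D.memU] at hw ⊢
    rw [← map_pow, hw, map_one]
  have hUlcs := huni2 D.U hUchar 2 D.cardU (by omega)
  -- `U` is not central
  have hUnc : ∃ l : L, ∃ w ∈ D.U, l * w ≠ w * l := by
    by_contra hcon2
    push Not at hcon2
    have hnil : Group.IsNilpotent (Gp a) := (IsPGroup.of_card hGcard).isNilpotent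
    have h1 : (⊤ : Subgroup (Gp a)).lowerCentralSeries (m - 2 + 1) = ⊥ := by
      apply Subgroup.lowerCentralSeries_succ_eq_bot
      rw [← hUlcs]
      rintro _ ⟨w, hw, rfl⟩
      rw [Subgroup.mem_center_iff]
      intro g
      have hgw : (g.right : MulAut L) w = w := by
        obtain ⟨k, hk⟩ := Subgroup.mem_zpowers_iff.mp g.right.2
        rw [← hk]
        have h2 : ∀ k : ℕ, (a ^ k) w = w := by
          intro k
          induction k with
          | zero => rfl
          | succ k ih => rw [pow_succ', MulAut.mul_apply, ih, hUfix w hw]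
        rcases Int.eq_nat_or_neg k with ⟨n, rfl | rfl⟩
        · rw [zpow_natCast, h2]
        · rw [zpow_neg, zpow_natCast]
          have h3 := h2 n
          calc (a ^ n)⁻¹ w = (a ^ n)⁻¹ ((a ^ n) w) := by rw [h3]
            _ = w := by simp
      apply SemidirectProduct.ext
      · simp only [SemidirectProduct.mul_left, SemidirectProduct.left_inl, SemidirectProduct.right_inl,
          map_one, MulAut.one_apply]
        change g.left * (g.right : MulAut L) w = w * g.left
        rw [hgw]
        exact hcon2 _ w hw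
      · simp
    have h2 := Subgroup.lowerCentralSeries_eq_bot_iff_nilpotencyClass_le.mp h1
    rw [show Group.nilpotencyClass (Gp a) = m from hcl] at h2
    omega
  -- the derived subgroup has order at most `p`
  have hLnil : IsPGroup p L := hL
  have hcomm : Nat.card ↥(commutator L) ∣ p := by
    obtain ⟨N, hN, hNcyc, hNq⟩ := hmc
    have hle : commutator L ≤ N := by
      let _ : CommGroup (L ⧸ N) := IsCyclic.commGroup
      have h1 := Abelianization.commutator_subset_ker (QuotientGroup.mk' N)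
      rwa [QuotientGroup.ker_mk'] at h1
    have hcyc : IsCyclic ↥(commutator L) :=
      isCyclic_of_injective (Subgroup.inclusion hle) (Subgroup.inclusion_injective _)
    obtain ⟨c, hc⟩ := hcyc.exists_ofOrder_eq_natCard
    obtain ⟨i, hi⟩ := (hL.to_subgroup (commutator L)).exists_card_eq
    rw [hi]
    by_contra hi2
    have hi2' : 2 ≤ i := by
      by_contra h
      apply hi2
      have : i ≤ 1 := by omega
      calc p ^ i ∣ p ^ 1 := pow_dvd_pow p this
        _ = p := pow_one p
    have hcgen : ∀ x ∈ commutator L, x ∈ zpowers (c : L) := by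
      intro x hx
      have h1 : zpowers c = ⊤ := by
        rw [← Subgroup.card_eq_iff_eq_top, Nat.card_zpowers, hc]
      have h2 : (⟨x, hx⟩ : commutator L) ∈ zpowers c := by rw [h1]; exact Subgroup.mem_top _
      obtain ⟨k, hk⟩ := Subgroup.mem_zpowers_iff.mp h2
      exact Subgroup.mem_zpowers_iff.mpr ⟨k, by simpa using congrArg Subtype.val hk⟩
    set d : L := (c : L) ^ (p ^ (i - 2)) with hd
    have hdo : orderOf d = p ^ 2 := by
      rw [hd, orderOf_pow, Subgroup.orderOf_coe, hc, hi, Nat.gcd_eq_right (pow_dvd_pow p (by omega)),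
        Nat.pow_div (by omega) hpp.pos]
      congr 1; omega
    have hW : ∀ σ : MulAut L, ∀ w ∈ zpowers d, σ w ∈ zpowers d := by
      intro σ w hw
      obtain ⟨k, rfl⟩ := Subgroup.mem_zpowers_iff.mp hw
      rw [map_zpow]
      refine Subgroup.zpow_mem _ ?_ k
      have h1 : σ c ∈ commutator L := by
        have h2 : (commutator L).Characteristic := inferInstance
        have h3 := h2.fixed σ
        have h4 : (c : L) ∈ (commutator L).comap σ.toMonoidHom := by rw [h3]; exact c.2
        exact h4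
      obtain ⟨r, hr⟩ := Subgroup.mem_zpowers_iff.mp (hcgen _ h1)
      rw [hd, map_pow, ← hr]
      refine Subgroup.mem_zpowers_iff.mpr ⟨r, ?_⟩
      rw [← zpow_natCast, ← zpow_natCast, ← zpow_mul, ← zpow_mul, mul_comm]
    have h1 := huni2 (zpowers d) hW 2 (by rw [Nat.card_zpowers, hdo]) (by omega)
    rw [← hUlcs] at h1
    have h2 : zpowers d = D.U := Subgroup.map_injective SemidirectProduct.inl_injective h1
    have h3 : d ∈ D.U := by rw [← h2]; exact mem_zpowers d
    rw [D.memU] at h3
    have h4 := orderOf_dvd_of_pow_eq_one h3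
    rw [hdo] at h4
    have h5 := Nat.le_of_dvd hpp.pos h4
    have h6 := hpp.one_lt
    nlinarith
  -- the centre
  have hcen := S3879.result hp2 hL hmc
  obtain ⟨z, hz⟩ := (hL.to_subgroup (Subgroup.center L)).exists_card_eq
  have hzm : m ≤ z + 2 := by
    have h1 := (Subgroup.center L).card_mul_index
    rw [hz, hcen, hm] at h1
    have h2 : p ^ m ∣ p ^ (z + 2) := by
      rw [← h1, pow_add]
      exact Nat.mul_dvd_mul_left _ (pow_dvd_pow_of_dvd hcomm 2)
    exact (Nat.pow_dvd_pow_iff_le_right hpp.one_lt).mp h2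
  have hzchar : ∀ σ : MulAut L, ∀ w ∈ Subgroup.center L, σ w ∈ Subgroup.center L := by
    intro σ w hw
    rw [Subgroup.mem_center_iff] at hw ⊢
    intro g
    have h1 := hw (σ.symm g)
    have h2 := congrArg σ h1
    rw [map_mul, map_mul, MulEquiv.apply_symm_apply] at h2
    exact h2
  obtain ⟨l, w, hw, hlw⟩ := hUnc
  apply hlw
  have hwc : w ∈ Subgroup.center L := by
    by_cases hzm' : z + 2 ≤ m + 1
    · have h1 := huni2 _ hzchar z hz hzm'
      have h2 : D.U.map (SemidirectProduct.inl : L →* Gp a) ≤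
          (Subgroup.center L).map (SemidirectProduct.inl : L →* Gp a) := by
        rw [hUlcs, h1]
        have h5 : m - z ≤ m - 2 := by omega
        exact Subgroup.lowerCentralSeries_antitone _ h5
      have h3 : (SemidirectProduct.inl w : Gp a) ∈
          (Subgroup.center L).map (SemidirectProduct.inl : L →* Gp a) := h2 ⟨w, hw, rfl⟩
      obtain ⟨w', hw', hww⟩ := h3
      rwa [← SemidirectProduct.inl_injective hww]
    · have h1 : Subgroup.center L = ⊤ := by
        apply Subgroup.eq_top_of_card_eq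
        rw [hz, hm]
        have h2 : p ^ z ∣ p ^ m := by rw [← hz, ← hm]; exact Subgroup.card_subgroup_dvd_card _
        have h3 := (Nat.pow_dvd_pow_iff_le_right hpp.one_lt).mp h2
        congr 1; omega
      rw [h1]; exact Subgroup.mem_top _
  exact Subgroup.mem_center_iff.mp hwc l

end Cfsg.Agent.H513.MetaAut
end

-- part: S4079
section
set_option autoImplicit false
open Cfsg

namespace Cfsg.Agent.S4079

/-- Let p be an odd prime and L a finite metacyclic p-group with no cyclic subgroup of index p, and let a be an automorphism of L of order p. Then a moves some element of order p of L if and only if p = 3 and the semidirect product L ⋊ ⟨a⟩ (of order 3·#L) has maximal class, i.e. nilpotency class m where #L = 3^m. -/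
theorem result {L : Type*} [Group L] [Finite L] {p : ℕ} [Fact p.Prime]
    (hp : p ≠ 2) (hL : IsPGroup p L) (hmc : Cfsg.IsMetacyclic L) (hnc : ∀ C : Subgroup L, IsCyclic C → C.index ≠ p)
    (a : MulAut L) (ha : orderOf a = p) (m : ℕ) (hm : Nat.card L = p ^ m) :
    (∃ x : L, orderOf x = p ∧ a x ≠ x) ↔
    (p = 3 ∧ Group.nilpotencyClass (SemidirectProduct L ↥(Subgroup.zpowers a) (Subgroup.zpowers a).subtype) = m) := by
  constructor
  · rintro ⟨v, hv, hav⟩
    exact H513.MetaAut.forward hp hL hmc hnc a ha m hm v hv hav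
  · rintro ⟨-, h⟩
    exact H513.MetaAut.backward hp hL hmc hnc a ha m hm h

end Cfsg.Agent.S4079
end
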