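import Mathlib
import Cfsg.Agent.H683.TwoSizeTop
import Cfsg.Statements.S4134
import Cfsg.Agent.S4365
set_option linter.all false

-- part: H683/TwoSizeCase
section
/-!
# Groups with two class sizes: the partition case is impossible
-/

set_option autoImplicit false

namespace Cfsg.Agent.H683.TwoSize

open Subgroup
open scoped commutatorElement

section

variable {G : Type*} [Group G]

/-- The elements of order prime to `r` in an abelian subgroup. -/
def primeTo (C : Subgroup G) (hC : ∀ x ∈ C, ∀ y ∈ C, x * y = y * x) (r : ℕ) : Subgroup G where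
  carrier := {w | w ∈ C ∧ (orderOf w).Coprime r}
  one_mem' := ⟨one_mem C, by rw [orderOf_one]; exact Nat.coprime_one_left r⟩
  mul_mem' := by
    rintro a b ⟨ha, ha'⟩ ⟨hb, hb'⟩
    refine ⟨mul_mem ha hb, ?_⟩
    have h1 := (show Commute a b from hC a ha b hb).orderOf_mul_dvd_lcm
    exact Nat.Coprime.coprime_dvd_left (h1.trans (Nat.lcm_dvd_mul _ _)) (Nat.Coprime.mul_left ha' hb')
  inv_mem' := by
    rintro a ⟨ha, ha'⟩
    exact ⟨inv_mem ha, by rwa [orderOf_inv]⟩

theorem mem_primeTo {C : Subgroup G} {hC : ∀ x ∈ C, ∀ y ∈ C, x * y = y * x} {r : ℕ} {w : G} :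
    w ∈ primeTo C hC r ↔ w ∈ C ∧ (orderOf w).Coprime r := Iff.rfl

end

variable {G : Type*} [Group G] [Finite G] {n : ℕ}

/-- All centralizers of non-central elements are abelian, and their index over the center is
divisible by two primes: no noncyclic action. -/
theorem exists_mem (h : TwoG (⊤ : Subgroup G) n)
    (hAb : ∀ z : G, z ∉ center G → ∀ u ∈ cz z, cz z ≤ cz u) {t r : ℕ} (ht : t.Prime)
    (hr : r.Prime) (htr : t ≠ r) {y : G} (hyZ : y ∉ center G)
    (hty : t ∣ (center G).relIndex (cz y)) (hyr : y ^ r ∈ center G) (hyo : ∃ k, orderOf y = r ^ k)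
    {a b : G} (ha : ⁅a, y⁆ ∈ center G) (hb : ⁅b, y⁆ ∈ center G) (hbC : b ∉ cz y) :
    ∃ j : ℕ, a * b ^ j ∈ cz y := by
  have hrf : Fact r.Prime := ⟨hr⟩
  by_contra hcon
  push Not at hcon
  have hC : ∀ x ∈ cz y, ∀ w ∈ cz y, x * w = w * x := fun x hx w hw =>
    mem_cz.1 (hAb y hyZ w hw hx)
  have hCle : ∀ g ∈ cz y, g ∈ centralizer (cz y : Set G) := fun g hg => by
    rw [mem_centralizer_iff]
    exact fun x hx => hC x hx g hg
  -- the homomorphism
  let R : Subgroup G := closure {a, b}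
  have hR : ∀ g ∈ R, ⁅g, y⁆ ∈ center G := by
    intro g hg
    induction hg using closure_induction with
    | mem x hx =>
      rcases hx with rfl | rfl
      · exact ha
      · exact hb
    | one => rw [commutatorElement_one_left]; exact one_mem _
    | mul x z _ _ hx hz =>
      have e : ⁅x * z, y⁆ = x * ⁅z, y⁆ * x⁻¹ * ⁅x, y⁆ := by
        simp only [commutatorElement_def]; group
      rw [e, mem_center_iff.1 hz x, mul_inv_cancel_right]
      exact mul_mem hz hx
    | inv x _ hx =>
      have e : ⁅x⁻¹, y⁆ = x⁻¹ * ⁅x, y⁆⁻¹ * x := by simp only [commutatorElement_def]; group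
      rw [e, mem_center_iff.1 (inv_mem hx) x⁻¹, inv_mul_cancel_right]
      exact inv_mem hx
  obtain ⟨θ, hθ⟩ := exists_theta hR
  have haR : a ∈ R := subset_closure (Set.mem_insert _ _)
  have hbR : b ∈ R := subset_closure (Set.mem_insert_of_mem _ rfl)
  have hker : ∀ g : R, θ g = 1 → (g : G) ∈ cz y := by
    intro g hg
    have h1 := hθ g
    rw [hg, OneMemClass.coe_one] at h1
    rw [mem_cz]
    exact commutatorElement_eq_one_iff_mul_comm.1 h1.symm
  have hpow : ∀ g ∈ R, g ^ r ∈ cz y := by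
    intro g hg
    refine hker ((⟨g, hg⟩ : R) ^ r) ?_
    rw [map_pow]
    apply Subtype.ext
    rw [SubmonoidClass.coe_pow, hθ]
    exact theta_pow (hR g hg) hyr
  have hcomm : ⁅a, b⁆ ∈ cz y := by
    refine hker ⁅(⟨a, haR⟩ : R), (⟨b, hbR⟩ : R)⁆ ?_
    rw [map_commutatorElement, commutatorElement_eq_one_iff_mul_comm]
    exact Subtype.ext (mem_center_iff.1 (θ ⟨b, hbR⟩).2 _)
  have hordconj : ∀ g w : G, orderOf (g * w * g⁻¹) = orderOf w := fun g w =>
    (MulAut.conj g).orderOf_eq w
  have key := ident (p := r) (cz y) hC (mem_normalizer_cz ha) (mem_normalizer_cz hb)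
    (hCle _ (hpow a haR)) (hCle _ (hpow b hbR)) (hCle _ hcomm) (primeTo (cz y) hC r) (center G)
    (fun w hw => hw.1)
    (fun w hw => by
      rw [mem_primeTo] at hw ⊢
      refine ⟨((mem_normalizer_iff.1 (mem_normalizer_cz ha)) w).1 hw.1, ?_⟩
      rw [hordconj]; exact hw.2)
    (fun w hw => by
      rw [mem_primeTo] at hw ⊢
      refine ⟨((mem_normalizer_iff.1 (mem_normalizer_cz hb)) w).1 hw.1, ?_⟩
      rw [hordconj]; exact hw.2)
  have hcent : ∀ w ∈ primeTo (cz y) hC r, w ∉ center G → cz w = cz y := by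
    intro w hw hwZ
    refine (h.eq_of_le (mem_top _) hyZ (mem_top _) hwZ ?_).symm
    exact hAb y hyZ w hw.1
  have key2 := key
    (fun w hw hbw => by
      by_contra hwZ
      apply hbC
      rw [← hcent w hw hwZ, mem_cz]
      exact hbw)
    (fun j w hw hjw => by
      by_contra hwZ
      apply hcon j
      rw [← hcent w hw hwZ, mem_cz]
      exact hjw)
  obtain ⟨w, hwy, hwZ, -, k, hk⟩ := exists_of_dvd_relIndex_center ht hty
  have hcop : (orderOf w).Coprime r := by
    rw [hk]
    exact Nat.Coprime.pow_left _ ((Nat.coprime_primes ht hr).2 htr)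
  obtain ⟨m, hm⟩ := exists_pow_eq_self_of_coprime hcop.symm
  apply hwZ
  rw [← hm]
  exact pow_mem (key2 w ⟨hwy, hcop⟩) m

/-- The Sylow step. -/
theorem sylow_step (h : TwoG (⊤ : Subgroup G) n) (hex : ∃ x : G, x ∉ center G)
    (hAb : ∀ z : G, z ∉ center G → ∀ u ∈ cz z, cz z ≤ cz u) {a r : ℕ} (hr : r.Prime)
    (ha : ∀ z : G, z ∉ center G → (center G).relIndex (cz z) = a)
    (hta : ∃ t : ℕ, t.Prime ∧ t ≠ r ∧ t ∣ a) (hrn : r ∣ n) :
    ∃ y g : G, y ∉ center G ∧ (∃ k, orderOf y = r ^ k) ∧ (∃ k, g ^ r ^ k = 1) ∧ g ∉ cz y ∧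
      g ∈ normalizer (cz y : Set G) ∧ ¬ r * r ∣ n := by
  have hrf : Fact r.Prime := ⟨hr⟩
  obtain ⟨R⟩ : Nonempty (Sylow r G) := inferInstance
  have hRle : ∀ z : G, (R : Subgroup G) ≤ cz z → z ∈ center G := by
    intro z hz
    by_contra hzZ
    have h1 : (cz z).index ∣ (R : Subgroup G).index := Subgroup.index_dvd_of_le hz
    rw [h.index_eq (mem_top _) hzZ] at h1
    exact R.not_dvd_index (hrn.trans h1)
  have hRZ : ¬ (R : Subgroup G) ≤ center G := by
    intro h1
    obtain ⟨x, hx⟩ := hex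
    exact hx (hRle x (h1.trans (center_le_cz x)))
  obtain ⟨y, hyR, hyZ, hyr, hyc⟩ := exists_central_mod R hRZ
  have hyo : ∃ k, orderOf y = r ^ k := by
    obtain ⟨k, hk⟩ := IsPGroup.iff_orderOf.1 R.isPGroup' ⟨y, hyR⟩
    exact ⟨k, by rw [← hk, Subgroup.orderOf_mk]⟩
  obtain ⟨g, hgR, hgC⟩ : ∃ g ∈ (R : Subgroup G), g ∉ cz y := by
    by_contra hcon
    push Not at hcon
    exact hyZ (hRle y hcon)
  have hgo : ∃ k, g ^ r ^ k = 1 := by
    obtain ⟨k, hk⟩ := R.isPGroup' ⟨g, hgR⟩
    refine ⟨k, ?_⟩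
    have := congrArg Subtype.val hk
    exact this
  obtain ⟨t, ht, htr, hta⟩ := hta
  refine ⟨y, g, hyZ, hyo, hgo, hgC, mem_normalizer_cz (hyc g hgR), ?_⟩
  -- the homomorphism `θ` has image of order `r`
  obtain ⟨θ, hθ⟩ := exists_theta hyc
  have hker : θ.ker = (cz y).subgroupOf (R : Subgroup G) := by
    ext u
    rw [MonoidHom.mem_ker, mem_subgroupOf, mem_cz, ← commutatorElement_eq_one_iff_mul_comm,
      ← hθ]
    exact Subtype.ext_iff
  have hrange : θ.range = zpowers (θ ⟨g, hgR⟩) := by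
    apply le_antisymm
    · rintro _ ⟨u, rfl⟩
      obtain ⟨j, hj⟩ := exists_mem h hAb ht hr htr hyZ (by rw [ha y hyZ]; exact hta) hyr hyo
        (hyc u u.2) (hyc g hgR) hgC
      have h1 : u * ⟨g, hgR⟩ ^ j ∈ θ.ker := by
        rw [hker, mem_subgroupOf]
        exact hj
      rw [MonoidHom.mem_ker, map_mul, map_pow] at h1
      rw [eq_inv_of_mul_eq_one_left h1]
      exact inv_mem (pow_mem (mem_zpowers _) j)
    · rw [zpowers_le]
      exact ⟨_, rfl⟩
  have hcard : Nat.card θ.range ∣ r := by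
    rw [hrange, Nat.card_zpowers]
    apply orderOf_dvd_of_pow_eq_one
    apply Subtype.ext
    rw [SubmonoidClass.coe_pow, hθ]
    exact theta_pow (hyc g hgR) hyr
  rw [← Subgroup.index_ker, hker] at hcard
  intro hrr
  have h1 := ((cz y).subgroupOf (R : Subgroup G)).card_mul_index
  have h2 : Nat.card ((cz y).subgroupOf (R : Subgroup G)) ∣ Nat.card (cz y) := by
    rw [← Subgroup.card_map_of_injective (R : Subgroup G).subtype_injective,
      subgroupOf_map_subtype]
    exact Subgroup.card_dvd_of_le inf_le_left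
  have h3 := (cz y).card_mul_index
  rw [h.index_eq (mem_top _) hyZ] at h3
  have h4 := (R : Subgroup G).card_mul_index
  have h5 : Nat.card (R : Subgroup G) ∣ Nat.card (cz y) * r := by
    rw [← h1]
    exact mul_dvd_mul h2 hcard
  have h6 : Nat.card (R : Subgroup G) * r ∣ Nat.card (R : Subgroup G) * (R : Subgroup G).index := by
    rw [h4, ← h3]
    calc Nat.card (R : Subgroup G) * r ∣ (Nat.card (cz y) * r) * r := mul_dvd_mul_right h5 r
      _ = Nat.card (cz y) * (r * r) := by ring
      _ ∣ Nat.card (cz y) * n := mul_dvd_mul_left _ hrr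
  exact R.not_dvd_index (Nat.dvd_of_mul_dvd_mul_left Nat.card_pos h6)

/-- The partition case is impossible. -/
theorem case_one (h : TwoG (⊤ : Subgroup G) n) (hex : ∃ x : G, x ∉ center G)
    (hAb : ∀ z : G, z ∉ center G → ∀ u ∈ cz z, cz z ≤ cz u) {a p q : ℕ}
    (ha : ∀ z : G, z ∉ center G → (center G).relIndex (cz z) = a)
    (hp : p.Prime) (hq : q.Prime) (hpq : p < q) (hpa : p ∣ a) (hqa : q ∣ a) : False := by
  have hpf : Fact p.Prime := ⟨hp⟩
  -- `a ≤ n`
  have han : a ≤ n := by
    obtain ⟨y, hy⟩ := hex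
    obtain ⟨g, hg⟩ : ∃ g : G, g ∉ cz y := by
      by_contra hcon
      push Not at hcon
      exact hy (cz_eq_top_iff.1 ((Subgroup.eq_top_iff' _).2 hcon))
    have hgZ : g ∉ center G := fun h1 => hg (center_le_cz y h1)
    have hinf : cz y ⊓ cz g = center G := by
      apply le_antisymm
      · rintro v ⟨hv1, hv2⟩
        by_contra hvZ
        have h1 : y ∈ cz v := by rw [mem_cz]; exact (mem_cz.1 hv1).symm
        have h2 : g ∈ cz v := by rw [mem_cz]; exact (mem_cz.1 hv2).symm
        exact hg (hAb v hvZ y h1 h2)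
      · exact le_inf (center_le_cz y) (center_le_cz g)
    have h1 : (cz y).relIndex (cz g) ≤ (cz y).relIndex ⊤ :=
      Subgroup.relIndex_le_of_le_right le_top (by
        rw [Subgroup.relIndex_top_right]; exact Subgroup.index_ne_zero_of_finite)
    rw [← Subgroup.inf_relIndex_right, hinf, ha g hgZ, Subgroup.relIndex_top_right,
      h.index_eq (mem_top _) hy] at h1
    exact h1
  have hother : ∀ r : ℕ, ∃ t : ℕ, t.Prime ∧ t ≠ r ∧ t ∣ a := by
    intro r
    by_cases hrp : r = p
    · exact ⟨q, hq, by rw [hrp]; exact hpq.ne', hqa⟩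
    · exact ⟨p, hp, Ne.symm hrp, hpa⟩
  have hsq : Squarefree n := by
    rw [Nat.squarefree_iff_prime_squarefree]
    intro r hr hrr
    obtain ⟨-, -, -, -, -, -, -, h1⟩ := sylow_step h hex hAb hr ha (hother r)
      ((dvd_mul_right r r).trans hrr)
    exact h1 hrr
  have hna : n ∣ a := by
    rw [← Nat.prod_primeFactors_of_squarefree hsq]
    refine Finset.prod_primes_dvd a (fun r hr => (Nat.prime_of_mem_primeFactors hr).prime) ?_
    intro r hr
    obtain ⟨y, g, hyZ, ⟨k, hk⟩, -⟩ := sylow_step h hex hAb (Nat.prime_of_mem_primeFactors hr)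
      ha (hother r) (Nat.dvd_of_mem_primeFactors hr)
    have := dvd_relIndex_center (Nat.prime_of_mem_primeFactors hr) (self_mem_cz y) hyZ hk
    rwa [ha y hyZ] at this
  have ha0 : a ≠ 0 := by
    obtain ⟨y, hy⟩ := hex
    rw [← ha y hy]
    exact Subgroup.index_ne_zero_of_finite
  have hna' : n = a := le_antisymm (Nat.le_of_dvd (Nat.pos_of_ne_zero ha0) hna) han
  obtain ⟨y, g, hyZ, hyo, ⟨k, hgk⟩, hgC, hgN, -⟩ := sylow_step h hex hAb hq ha (hother q)
    (by rw [hna']; exact hqa)
  obtain ⟨w, hwy, hwZ, hwp, l, hl⟩ := exists_of_dvd_relIndex_center hp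
    (K := cz y) (by rw [ha y hyZ]; exact hpa)
  have hC : ∀ x ∈ cz y, ∀ w ∈ cz y, x * w = w * x := fun x hx w hw =>
    mem_cz.1 (hAb y hyZ w hw hx)
  -- the elements of order `p` modulo the center
  let K : Subgroup G :=
    { carrier := {v | v ∈ cz y ∧ v ^ p ∈ center G}
      one_mem' := ⟨one_mem _, by rw [one_pow]; exact one_mem _⟩
      mul_mem' := by
        rintro u v ⟨hu, hu'⟩ ⟨hv, hv'⟩
        refine ⟨mul_mem hu hv, ?_⟩
        rw [(show Commute u v from hC u hu v hv).mul_pow]
        exact mul_mem hu' hv'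
      inv_mem' := by
        rintro u ⟨hu, hu'⟩
        refine ⟨inv_mem hu, ?_⟩
        rw [inv_pow]
        exact inv_mem hu' }
  have hKZ : center G ≤ K := fun z hz => ⟨center_le_cz y hz, pow_mem hz p⟩
  have hKC : K ≤ cz y := fun v hv => hv.1
  let π := QuotientGroup.mk' (center G)
  have hKpi : IsPGroup p (K.map π) := by
    rintro ⟨_, v, hv, rfl⟩
    refine ⟨1, ?_⟩
    apply Subtype.ext
    rw [pow_one, SubmonoidClass.coe_pow, OneMemClass.coe_one]
    change (π v) ^ p = 1
    rw [← map_pow]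
    exact (QuotientGroup.eq_one_iff _).2 hv.2
  have hcardK : Nat.card (K.map π) ∣ a := by
    have h1 : Nat.card (K.map π) ∣ Nat.card ((cz y).map π) :=
      Subgroup.card_dvd_of_le (Subgroup.map_mono hKC)
    have h2 : Nat.card ((cz y).map π) = a := by
      have h3 := Subgroup.relIndex_ker (cz y) π
      rw [QuotientGroup.ker_mk', ha y hyZ] at h3
      exact h3.symm
    rwa [h2] at h1
  obtain ⟨j, hj⟩ := IsPGroup.iff_card.1 hKpi
  have hcardK' : Nat.card (K.map π) < q := by
    have hj1 : j ≤ 1 := by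
      by_contra hcon
      push Not at hcon
      have h1 : p * p ∣ n := by
        rw [hna', ← pow_two]
        refine (pow_dvd_pow p hcon).trans ?_
        rw [← hj]
        exact hcardK
      exact (Nat.squarefree_iff_prime_squarefree.1 hsq p hp) h1
    rw [hj]
    calc p ^ j ≤ p ^ 1 := Nat.pow_le_pow_right hp.pos hj1
      _ = p := pow_one p
      _ < q := hpq
  have hgK : π g ∈ normalizer (K.map π : Set (G ⧸ center G)) := by
    have key : ∀ g ∈ normalizer (cz y : Set G), ∀ x ∈ K.map π, π g * x * (π g)⁻¹ ∈ K.map π := by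
      rintro g hg _ ⟨v, hv, rfl⟩
      refine ⟨g * v * g⁻¹, ⟨((mem_normalizer_iff.1 hg) v).1 hv.1, ?_⟩, ?_⟩
      · rw [conj_pow, mem_center_iff.1 hv.2 g, mul_inv_cancel_right]
        exact hv.2
      · rw [map_mul, map_mul, map_inv]
    refine mem_normalizer_of (key g hgN) fun x hx => ?_
    have := key g⁻¹ (inv_mem hgN) x hx
    rwa [map_inv, inv_inv] at this
  have hcomm := commute_of_card_lt hq hgK (k := k) (by rw [← map_pow, hgk, map_one]) hcardK'
    (π w) (Subgroup.mem_map_of_mem π ⟨hwy, hwp⟩)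
  have hz : ⁅g, w⁆ ∈ center G := by
    rw [← QuotientGroup.eq_one_iff]
    change π ⁅g, w⁆ = 1
    rw [map_commutatorElement, commutatorElement_eq_one_iff_mul_comm]
    exact hcomm
  have h1 : ⁅g, w⁆ ^ q ^ k = 1 := theta_pow' hz (by rw [hgk]; exact one_mem _)
  have h2 : ⁅g, w⁆ ^ p ^ l = 1 := theta_pow hz (by rw [← hl, pow_orderOf_eq_one]; exact one_mem _)
  have h3 : ⁅g, w⁆ = 1 := by
    rw [← orderOf_eq_one_iff]
    refine Nat.eq_one_of_dvd_coprimes ?_ (orderOf_dvd_of_pow_eq_one h1) (orderOf_dvd_of_pow_eq_one h2)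
    exact Nat.Coprime.pow _ _ ((Nat.coprime_primes hq hp).2 hpq.ne')
  apply hgC
  have h4 : cz y = cz w := h.eq_of_le (mem_top _) hyZ (mem_top _) hwZ (hAb y hyZ w hwy)
  rw [h4, mem_cz]
  exact commutatorElement_eq_one_iff_mul_comm.1 h3

end Cfsg.Agent.H683.TwoSize
end

-- part: S4134
section
set_option autoImplicit false
open Cfsg

namespace Cfsg.Agent.S4134

open Subgroup Cfsg.Agent.H683.TwoSize

/-- All `p'`-elements are central for some prime `p`. -/
theorem exists_prime {G : Type*} [Group G] [Finite G] {n : ℕ}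
    (h : TwoG (⊤ : Subgroup G) n) (hex : ∃ x : G, x ∉ center G) :
    ∃ p : ℕ, p.Prime ∧ ∀ w : G, (orderOf w).Coprime p → w ∈ center G := by
  by_cases hgood : ∃ (s t : ℕ) (x w : G), s.Prime ∧ t.Prime ∧ s < t ∧ (∃ k, orderOf x = s ^ k) ∧
      (∃ k, orderOf w = t ^ k) ∧ x ∉ center G ∧ w ∉ center G ∧ Commute x w
  · exfalso
    obtain ⟨s, t, x, w, hs, ht, hst, hxs, hwt, hxZ, hwZ, hc⟩ := hgood
    have hcard : ∀ z : G, z ∉ center G →
        (center G).relIndex (cz z) = (center G).relIndex (cz x) := by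
      intro z hz
      have h1 := h.card_eq (mem_top z) hz (mem_top x) hxZ
      have e1 := Subgroup.card_mul_index ((center G).subgroupOf (cz z))
      have e2 := Subgroup.card_mul_index ((center G).subgroupOf (cz x))
      have e3 : ∀ z : G, Nat.card ((center G).subgroupOf (cz z)) = Nat.card (center G) :=
        fun z => Nat.card_congr (Subgroup.subgroupOfEquivOfLe (center_le_cz z)).toEquiv
      rw [e3] at e1 e2
      rw [h1, ← e2] at e1
      exact Nat.eq_of_mul_eq_mul_left Nat.card_pos e1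
    have hsa : s ∣ (center G).relIndex (cz x) := by
      obtain ⟨k, hk⟩ := hxs
      exact dvd_relIndex_center hs (self_mem_cz x) hxZ hk
    have hta : t ∣ (center G).relIndex (cz x) := by
      obtain ⟨k, hk⟩ := hwt
      exact dvd_relIndex_center ht (mem_cz.2 hc.eq.symm) hwZ hk
    refine case_one h hex (p := s) (q := t) ?_ hcard hs ht hst hsa hta
    intro z hzZ
    obtain ⟨q, y, hq, hyq, hyz, hyZ⟩ := exists_primary _ _ rfl hzZ
    have h1 : cz z = cz y := h.eq_of_le (mem_top _) hzZ (mem_top _) hyZ (cz_le_of_mem_zpowers hyz)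
    obtain ⟨r, hr, hrq, hra⟩ : ∃ r : ℕ, r.Prime ∧ q ≠ r ∧ r ∣ (center G).relIndex (cz x) := by
      by_cases hqs : q = s
      · exact ⟨t, ht, by rw [hqs]; exact hst.ne, hta⟩
      · exact ⟨s, hs, hqs, hsa⟩
    rw [← hcard y hyZ] at hra
    obtain ⟨v, hvy, hvZ, -, hvr⟩ := exists_of_dvd_relIndex_center hr hra
    have h2 := (h.good_pair hq hr hrq (mem_top y) (mem_top v) hyq hvr hyZ hvZ
      (mem_cz.1 hvy).symm).2
    intro u hu
    rw [h1] at hu ⊢
    exact h2 u (mem_top u) hu
  · obtain ⟨x0, hx0⟩ := hex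
    obtain ⟨p, x, hp, ⟨k, hk⟩, -, hxZ⟩ := exists_primary _ _ rfl hx0
    refine ⟨p, hp, fun w hw => ?_⟩
    by_contra hwZ
    obtain ⟨q, y, hq, ⟨l, hl⟩, hyw, hyZ⟩ := exists_primary _ _ rfl hwZ
    have hqp : q ≠ p := by
      rintro rfl
      have h1 : orderOf y ∣ orderOf w := orderOf_dvd_of_mem_zpowers hyw
      have hl0 : l ≠ 0 := by
        rintro rfl
        rw [pow_zero, orderOf_eq_one_iff] at hl
        exact hyZ (hl ▸ one_mem _)
      rw [hl] at h1
      exact (Nat.Prime.coprime_iff_not_dvd hq).1 hw.symm ((dvd_pow_self q hl0).trans h1)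
    have hcard : (center G).relIndex (cz y) = (center G).relIndex (cz x) := by
      have h1 := h.card_eq (mem_top y) hyZ (mem_top x) hxZ
      have e1 := Subgroup.card_mul_index ((center G).subgroupOf (cz y))
      have e2 := Subgroup.card_mul_index ((center G).subgroupOf (cz x))
      have e3 : ∀ z : G, Nat.card ((center G).subgroupOf (cz z)) = Nat.card (center G) :=
        fun z => Nat.card_congr (Subgroup.subgroupOfEquivOfLe (center_le_cz z)).toEquiv
      rw [e3] at e1 e2
      rw [h1, ← e2] at e1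
      exact Nat.eq_of_mul_eq_mul_left Nat.card_pos e1
    have hpa : p ∣ (center G).relIndex (cz y) := by
      rw [hcard]
      exact dvd_relIndex_center hp (self_mem_cz x) hxZ hk
    obtain ⟨v, hvy, hvZ, -, hvp⟩ := exists_of_dvd_relIndex_center hp hpa
    have hc : Commute y v := (mem_cz.1 hvy).symm
    rcases lt_or_gt_of_ne hqp with h1 | h1
    · exact hgood ⟨q, p, y, v, hq, hp, h1, ⟨l, hl⟩, hvp, hyZ, hvZ, hc⟩
    · exact hgood ⟨p, q, v, y, hp, hq, h1, hvp, ⟨l, hl⟩, hvZ, hyZ, hc.symm⟩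

/-- Let G be a finite group whose conjugacy classes have exactly two sizes, 1 and n > 1. Then n is a power of a prime p and G is the direct product of a p-group and an abelian group of order prime to p: its Sylow p-subgroup P is normal with an abelian normal complement centralizing it; moreover P has an abelian normal subgroup A with P/A of exponent dividing p. -/
theorem result {G : Type*} [Group G] [Finite G] (n : ℕ) (hn : 1 < n)
    (h : ∀ x : G, (Subgroup.centralizer ({x} : Set G)).index = 1 ∨ (Subgroup.centralizer ({x} : Set G)).index = n) (hex : ∃ x : G, (Subgroup.centralizer ({x} : Set G)).index = n) :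
    ∃ (p : ℕ) (_ : Fact p.Prime) (a : ℕ), n = p ^ a ∧ ∀ P : Sylow p G, (P : Subgroup G).Normal ∧
      (∃ N : Subgroup G, N.Normal ∧ N.IsComplement' (P : Subgroup G) ∧ IsMulCommutative N ∧
        ∀ x ∈ N, ∀ y ∈ (P : Subgroup G), x * y = y * x) ∧
      ∃ A : Subgroup (P : Subgroup G), A.Normal ∧ IsMulCommutative A ∧ ∀ y : (P : Subgroup G), y ^ p ∈ A := by
  have h2 : TwoG (⊤ : Subgroup G) n := fun x _ => h x
  obtain ⟨x, hx⟩ := hex
  have hxZ : x ∉ center G := fun h1 => by
    have := cz_index_eq_one.2 h1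
    rw [hx] at this
    exact hn.ne' this
  obtain ⟨p, hp, hcen⟩ := exists_prime h2 ⟨x, hxZ⟩
  have hpf : Fact p.Prime := ⟨hp⟩
  have hstr : ∀ P : Sylow p G, (P : Subgroup G).Normal ∧
      (∃ N : Subgroup G, N.Normal ∧ N.IsComplement' (P : Subgroup G) ∧ N ≤ center G) := by
    intro P
    obtain ⟨h3, N, hN1, hN2, hN3⟩ := Cfsg.Agent.H524.ClassSize.normal_and_complement P
      (Cfsg.Agent.H524.ClassSize.sylow_sup_centralizer (p := p) (fun y hy => by
        have h4 := cz_index_eq_one.2 (hcen y hy)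
        rw [h4]
        exact hp.one_lt.ne' ∘ Nat.dvd_one.1) P)
    refine ⟨h3, N, hN1, hN2, fun v hv => hcen v ?_⟩
    have h4 : (P : Subgroup G).index = Nat.card N := hN2.symm.symm.index_eq_card
    have h5 : orderOf v ∣ Nat.card N := by
      rw [← Subgroup.orderOf_mk v hv]
      exact orderOf_dvd_natCard _
    rw [← h4] at h5
    exact Nat.Coprime.coprime_dvd_left h5
      ((Nat.Prime.coprime_iff_not_dvd hp).2 P.not_dvd_index).symm
  have hpow : ∃ a : ℕ, n = p ^ a := by
    obtain ⟨P⟩ : Nonempty (Sylow p G) := inferInstance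
    obtain ⟨-, N, hN1, hN2, hN3⟩ := hstr P
    have h4 : N.index = Nat.card (P : Subgroup G) := hN2.symm.index_eq_card
    have h5 : n ∣ N.index := by
      rw [← hx]
      exact Subgroup.index_dvd_of_le (hN3.trans (center_le_cz x))
    obtain ⟨k, hk⟩ := IsPGroup.iff_card.1 P.isPGroup'
    rw [h4, hk] at h5
    obtain ⟨a, -, ha⟩ := (Nat.dvd_prime_pow hp).1 h5
    exact ⟨a, ha⟩
  obtain ⟨a, ha⟩ := hpow
  refine ⟨p, hpf, a, ha, fun P => ?_⟩
  obtain ⟨hPn, N, hN1, hN2, hN3⟩ := hstr P
  refine ⟨hPn, ⟨N, hN1, hN2, ⟨⟨fun u v => Subtype.ext ?_⟩⟩, fun u hu v hv => ?_⟩, ?_⟩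
  · exact (mem_center_iff.1 (hN3 v.2) u)
  · exact (mem_center_iff.1 (hN3 hu) v).symm
  -- the class sizes in `P`
  have hidx : ∀ y : (P : Subgroup G),
      (Subgroup.centralizer ({y} : Set (P : Subgroup G))).index = (cz (y : G)).index := by
    intro y
    have e1 : Subgroup.centralizer ({y} : Set (P : Subgroup G)) =
        (cz (y : G)).subgroupOf (P : Subgroup G) := by
      ext u
      rw [mem_centralizer_singleton_iff, mem_subgroupOf, mem_cz]
      exact Subtype.ext_iff
    rw [e1]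
    change (cz (y : G)).relIndex (P : Subgroup G) = _
    have e2 : (P : Subgroup G) ⊔ cz (y : G) = ⊤ := by
      rw [eq_top_iff, ← hN2.symm.sup_eq_top]
      exact sup_le_sup_left (hN3.trans (center_le_cz _)) _
    have e3 : ((cz (y : G)) ⊓ (P : Subgroup G)).relIndex (P : Subgroup G) =
        (cz (y : G)).index := by
      have f1 := Subgroup.card_mul_index ((cz (y : G)) ⊓ (P : Subgroup G))
      have f2 : ((cz (y : G)) ⊓ (P : Subgroup G)).relIndex (P : Subgroup G) *
          (P : Subgroup G).index = ((cz (y : G)) ⊓ (P : Subgroup G)).index :=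
        Subgroup.relIndex_mul_index inf_le_right
      have f3 : ((cz (y : G)) ⊓ (P : Subgroup G)).relIndex (cz (y : G)) *
          (cz (y : G)).index = ((cz (y : G)) ⊓ (P : Subgroup G)).index :=
        Subgroup.relIndex_mul_index inf_le_left
      have f4 : ((cz (y : G)) ⊓ (P : Subgroup G)).relIndex (cz (y : G)) =
          (P : Subgroup G).index := by
        rw [inf_comm, Subgroup.inf_relIndex_right, ← Subgroup.relIndex_sup_right, sup_comm, e2,
          Subgroup.relIndex_top_right]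
      rw [f4, ← f2, mul_comm] at f3
      exact (Nat.eq_of_mul_eq_mul_right (Nat.pos_of_ne_zero Subgroup.index_ne_zero_of_finite) f3).symm
    rw [← Subgroup.inf_relIndex_right]
    exact e3
  refine ⟨center (P : Subgroup G), inferInstance, inferInstance, fun y => ?_⟩
  have ha1 : 1 ≤ a := by
    by_contra hcon
    have : a = 0 := by omega
    rw [this, pow_zero] at ha
    exact hn.ne' ha
  have hexP : ∃ y : (P : Subgroup G), (y : G) ∉ center G := by
    by_contra hcon
    push Not at hcon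
    apply hxZ
    have h6 : x ∈ (P : Subgroup G) ⊔ N := by rw [hN2.symm.sup_eq_top]; exact mem_top x
    have h7 : (P : Subgroup G) ⊔ N ≤ center G := sup_le (fun u hu => hcon ⟨u, hu⟩) hN3
    exact h7 h6
  refine Cfsg.Agent.S4365.result p P.isPGroup' a ha1 ?_ y
  ext k
  constructor
  · rintro ⟨u, rfl⟩
    rw [hidx u]
    rcases h u with h8 | h8
    · exact Or.inl h8
    · right
      rw [Set.mem_singleton_iff, ← ha]
      exact h8
  · rintro (rfl | hk)
    · refine ⟨1, ?_⟩
      rw [hidx, cz_index_eq_one]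
      exact one_mem _
    · obtain ⟨y0, hy0⟩ := hexP
      refine ⟨y0, ?_⟩
      rw [Set.mem_singleton_iff] at hk
      rw [hidx, hk, ← ha]
      exact h2.index_eq (mem_top _) hy0

end Cfsg.Agent.S4134
end
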