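import Mathlib
import Cfsg.Agent.S4134
import Cfsg.Statements.S4135
set_option linter.all false

-- part: H683/TwoNormal
section
/-!
# Normal subgroups with two `G`-class sizes, containing a Sylow subgroup
-/

set_option autoImplicit false
set_option linter.unusedSectionVars false

namespace Cfsg.Agent.H683.TwoNormal

open Subgroup Cfsg.Agent.H683.TwoSize
open scoped commutatorElement Pointwise

variable {G : Type*} [Group G] [Finite G] {r : ℕ} [hr : Fact r.Prime]

theorem le_cz_mul {a b : G} {C : Subgroup G} (ha : C ≤ cz a) (hb : C ≤ cz b) : C ≤ cz (a * b) := by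
  intro g hg
  have h1 : g * a = a * g := mem_cz.1 (ha hg)
  have h2 : g * b = b * g := mem_cz.1 (hb hg)
  rw [mem_cz]
  calc g * (a * b) = (g * a) * b := by group
    _ = a * (g * b) := by rw [h1]; group
    _ = a * b * g := by rw [h2]; group

theorem exists_smul {K : Subgroup G} {P Q : Sylow r G} (hP : (P : Subgroup G) ≤ K)
    (hQ : (Q : Subgroup G) ≤ K) : ∃ k ∈ K, k • P = Q := by
  obtain ⟨k, hk⟩ := MulAction.exists_smul_eq (↥K) (P.subtype hP) (Q.subtype hQ)
  rw [Sylow.smul_subtype] at hk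
  exact ⟨k, k.2, Sylow.subtype_injective hk⟩

theorem mem_smul {P : Sylow r G} {g x : G} :
    x ∈ ((g • P : Sylow r G) : Subgroup G) ↔ g⁻¹ * x * g ∈ (P : Subgroup G) := by
  rw [Sylow.coe_subgroup_smul, Subgroup.mem_pointwise_smul_iff_inv_smul_mem, ← map_inv,
    MulAut.smul_def, MulAut.conj_apply, inv_inv]

/-- `C(g x g⁻¹)`. -/
theorem mem_cz_conj {g x c : G} : c ∈ cz (g * x * g⁻¹) ↔ g⁻¹ * c * g ∈ cz x := by
  rw [mem_cz, mem_cz]
  constructor
  · intro h
    calc g⁻¹ * c * g * x = g⁻¹ * (c * (g * x * g⁻¹)) * g := by group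
      _ = g⁻¹ * (g * x * g⁻¹ * c) * g := by rw [h]
      _ = _ := by group
  · intro h
    calc c * (g * x * g⁻¹) = g * (g⁻¹ * c * g * x) * g⁻¹ := by group
      _ = g * (x * (g⁻¹ * c * g)) * g⁻¹ := by rw [h]
      _ = _ := by group

theorem cz_conj (g x : G) : cz (g * x * g⁻¹) = MulAut.conj g • cz x := by
  ext c
  rw [mem_cz_conj, Subgroup.mem_pointwise_smul_iff_inv_smul_mem, ← map_inv, MulAut.smul_def,
    MulAut.conj_apply, inv_inv]

theorem conj_normal (g : G) (N : Subgroup G) [hN : N.Normal] : MulAut.conj g • N = N :=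
  hN.conjAct g

theorem relIndex_ne_zero (A B : Subgroup G) : A.relIndex B ≠ 0 := Subgroup.index_ne_zero_of_finite

theorem conj_mem_center {g z : G} (hz : z ∈ center G) : g * z * g⁻¹ ∈ center G := by
  rw [mem_center_iff.1 hz g, mul_inv_cancel_right]; exact hz

/-- The elements of `r`-power order. -/
def REl (r : ℕ) (x : G) : Prop := ∃ k, orderOf x = r ^ k

theorem REl.coprime {x w : G} (hx : REl r x) (hw : (orderOf w).Coprime r) :
    (orderOf x).Coprime (orderOf w) := by
  obtain ⟨k, hk⟩ := hx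
  rw [hk]
  exact (Nat.Coprime.pow_right k hw).symm

theorem REl.of_mem {P : Subgroup G} (hP : IsPGroup r P) {x : G} (hx : x ∈ P) : REl r x := by
  obtain ⟨k, hk⟩ := IsPGroup.iff_orderOf.1 hP ⟨x, hx⟩
  exact ⟨k, by rw [← hk, Subgroup.orderOf_mk]⟩

theorem REl.zpowers {x : G} (hx : REl r x) : IsPGroup r (Subgroup.zpowers x) := by
  obtain ⟨k, hk⟩ := hx
  exact IsPGroup.of_card (n := k) (by rw [Nat.card_zpowers, hk])

theorem REl.conj {x : G} (hx : REl r x) (g : G) : REl r (g * x * g⁻¹) := by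
  obtain ⟨k, hk⟩ := hx
  exact ⟨k, by rw [← hk]; exact (MulAut.conj g).orderOf_eq x⟩

/-- `x` commutes with a non-central `r'`-element of `N`. -/
def Good (N : Subgroup G) (r : ℕ) (x : G) : Prop :=
  ∃ w ∈ N, w ∉ center G ∧ (orderOf w).Coprime r ∧ Commute x w

theorem Good.of_le {N : Subgroup G} {x y : G} (hx : Good N r x) (h : cz x ≤ cz y) : Good N r y := by
  obtain ⟨w, h1, h2, h3, h4⟩ := hx
  refine ⟨w, h1, h2, h3, ?_⟩
  have h5 : w ∈ cz y := h (mem_cz.2 h4.symm.eq)
  exact (show Commute w y from mem_cz.1 h5).symm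

theorem Good.conj {N : Subgroup G} [hN : N.Normal] {x : G} (hx : Good N r x) (g : G) :
    Good N r (g * x * g⁻¹) := by
  obtain ⟨w, h1, h2, h3, h4⟩ := hx
  refine ⟨g * w * g⁻¹, hN.conj_mem w h1 g, fun h => h2 ?_, ?_, ?_⟩
  · have := conj_mem_center (g := g⁻¹) h
    have e : g⁻¹ * (g * w * g⁻¹) * g⁻¹⁻¹ = w := by group
    rwa [e] at this
  · have : orderOf (g * w * g⁻¹) = orderOf w := (MulAut.conj g).orderOf_eq w
    rw [this]; exact h3
  · change g * x * g⁻¹ * (g * w * g⁻¹) = g * w * g⁻¹ * (g * x * g⁻¹)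
    calc g * x * g⁻¹ * (g * w * g⁻¹) = g * (x * w) * g⁻¹ := by group
      _ = g * (w * x) * g⁻¹ := by rw [h4.eq]
      _ = _ := by group

variable {N : Subgroup G} {m : ℕ}

/-- The basic consequence of a good pair. -/
theorem good_pair (h : TwoG N m) {x : G} (hx : x ∈ N) (hxZ : x ∉ center G) (hxr : REl r x)
    {w : G} (hw : w ∈ N) (hwZ : w ∉ center G) (hwr : (orderOf w).Coprime r) (hc : Commute x w) :
    cz x = cz w ∧ ∀ u ∈ N, u ∈ cz x → cz x ≤ cz u := by
  have hcop := hxr.coprime hwr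
  have h1 : cz x = cz w := h.eq_of_le hx hxZ hw hwZ (h.le_of_coprime hx hxZ hw hc hcop)
  refine ⟨h1, fun u hu hux => ?_⟩
  obtain ⟨a, b, hab, -, ha, hb, haz, hbz⟩ := Cfsg.Agent.H524.ClassSize.exists_decomp r u
  have haN : a ∈ N := (zpowers_le.2 hu) haz
  have hbN : b ∈ N := (zpowers_le.2 hu) hbz
  have hax : a ∈ cz x := (zpowers_le.2 hux) haz
  have hbx : b ∈ cz x := (zpowers_le.2 hux) hbz
  rw [← hab]
  refine le_cz_mul ?_ ?_
  · rw [h1] at hax ⊢
    exact h.le_of_coprime hw hwZ haN (mem_cz.1 hax).symm (REl.coprime ha hwr).symm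
  · exact h.le_of_coprime hx hxZ hbN (mem_cz.1 hbx).symm (hxr.coprime hb)

theorem good_le (h : TwoG N m) {x : G} (hx : x ∈ N) (hxZ : x ∉ center G) (hxr : REl r x)
    (hxg : Good N r x) {u : G} (hu : u ∈ N) (hux : u ∈ cz x) : cz x ≤ cz u := by
  obtain ⟨w, h1, h2, h3, h4⟩ := hxg
  exact (good_pair h hx hxZ hxr h1 h2 h3 h4).2 u hu hux

theorem good_eq (h : TwoG N m) {x : G} (hx : x ∈ N) (hxZ : x ∉ center G) (hxr : REl r x)
    (hxg : Good N r x) {u : G} (hu : u ∈ N) (huZ : u ∉ center G) (hux : u ∈ cz x) :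
    cz u = cz x :=
  (h.eq_of_le hx hxZ hu huZ (good_le h hx hxZ hxr hxg hu hux)).symm

/-- No noncyclic action. -/
theorem exists_mem_good [hN : N.Normal] (h : TwoG N m) {x : G} (hx : x ∈ N) (hxZ : x ∉ center G)
    (hxr : REl r x) (hxg : Good N r x) {a b : G} (ha : a ∈ normalizer (cz x : Set G))
    (hb : b ∈ normalizer (cz x : Set G)) (hap : a ^ r ∈ cz x) (hbp : b ^ r ∈ cz x)
    (hab : ⁅a, b⁆ ∈ cz x) (hbC : b ∉ cz x) : ∃ j : ℕ, a * b ^ j ∈ cz x := by
  by_contra hcon
  push Not at hcon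
  obtain ⟨w, hwN, hwZ, hwr, hxw⟩ := hxg
  have hgp := (good_pair h hx hxZ hxr hwN hwZ hwr hxw).2
  have hC : ∀ u ∈ cz x ⊓ N, ∀ v ∈ cz x ⊓ N, u * v = v * u := fun u hu v hv =>
    mem_cz.1 (hgp v (mem_inf.1 hv).2 (mem_inf.1 hv).1 (mem_inf.1 hu).1)
  have hCle : ∀ g ∈ cz x, g ∈ centralizer (cz x ⊓ N : Subgroup G).carrier := fun g hg => by
    rw [mem_centralizer_iff]
    intro u hu
    have hu' : u ∈ cz x ⊓ N := hu
    exact (mem_cz.1 (hgp u (mem_inf.1 hu').2 (mem_inf.1 hu').1 hg)).symm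
  have hnorm : ∀ g ∈ normalizer (cz x : Set G), g ∈ normalizer ((cz x ⊓ N : Subgroup G) : Set G) := by
    intro g hg
    refine mem_normalizer_of (fun u hu => ?_) (fun u hu => ?_)
    · exact mem_inf.2 ⟨((mem_normalizer_iff.1 hg) u).1 (mem_inf.1 hu).1,
        hN.conj_mem u (mem_inf.1 hu).2 g⟩
    · have h1 := ((mem_normalizer_iff.1 (inv_mem hg)) u).1 (mem_inf.1 hu).1
      have h2 := hN.conj_mem u (mem_inf.1 hu).2 g⁻¹
      rw [inv_inv] at h1 h2
      exact mem_inf.2 ⟨h1, h2⟩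
  have hordconj : ∀ g w : G, orderOf (g * w * g⁻¹) = orderOf w := fun g w =>
    (MulAut.conj g).orderOf_eq w
  have hcent : ∀ v ∈ primeTo (cz x ⊓ N) hC r, v ∉ center G → cz v = cz x := by
    intro v hv hvZ
    have hv1 := mem_inf.1 hv.1
    exact (h.eq_of_le hx hxZ hv1.2 hvZ (hgp v hv1.2 hv1.1)).symm
  have key := ident (p := r) (cz x ⊓ N) hC (hnorm a ha) (hnorm b hb) (hCle _ hap) (hCle _ hbp)
    (hCle _ hab) (primeTo (cz x ⊓ N) hC r) (center G) (fun w hw => hw.1)
    (fun w hw => by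
      rw [mem_primeTo] at hw ⊢
      refine ⟨((mem_normalizer_iff.1 (hnorm a ha)) w).1 hw.1, ?_⟩
      rw [hordconj]; exact hw.2)
    (fun w hw => by
      rw [mem_primeTo] at hw ⊢
      refine ⟨((mem_normalizer_iff.1 (hnorm b hb)) w).1 hw.1, ?_⟩
      rw [hordconj]; exact hw.2)
    (fun w hw hbw => by
      by_contra hwZ
      apply hbC
      rw [← hcent w hw hwZ, mem_cz]
      exact hbw)
    (fun j w hw hjw => by
      by_contra hwZ
      apply hcon j
      rw [← hcent w hw hwZ, mem_cz]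
      exact hjw)
  have hwx : w ∈ cz x := mem_cz.2 hxw.symm.eq
  obtain ⟨k, hk⟩ := exists_pow_eq_self_of_coprime hwr.symm
  apply hwZ
  rw [← hk]
  exact pow_mem (key w ⟨mem_inf.2 ⟨hwx, hwN⟩, hwr⟩) k

/-- If `r ∣ m`, only central elements of `N` centralize a Sylow `r`-subgroup. -/
theorem mem_center_of_le (h : TwoG N m) (hrm : r ∣ m) (R : Sylow r G) {v : G} (hv : v ∈ N)
    (hR : (R : Subgroup G) ≤ cz v) : v ∈ center G := by
  by_contra hvZ
  have h1 : (cz v).index ∣ (R : Subgroup G).index := Subgroup.index_dvd_of_le hR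
  rw [h.index_eq hv hvZ] at h1
  exact R.not_dvd_index (hrm.trans h1)

theorem relIndex_cz_eq (h : TwoG N m) {x y : G} (hx : x ∈ N) (hxZ : x ∉ center G) (hy : y ∈ N)
    (hyZ : y ∉ center G) : (center G).relIndex (cz x) = (center G).relIndex (cz y) := by
  have h1 := h.card_eq hx hxZ hy hyZ
  have e1 := Subgroup.card_mul_index ((center G).subgroupOf (cz x))
  have e2 := Subgroup.card_mul_index ((center G).subgroupOf (cz y))
  have e3 : ∀ z : G, Nat.card ((center G).subgroupOf (cz z)) = Nat.card (center G) :=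
    fun z => Nat.card_congr (Subgroup.subgroupOfEquivOfLe (center_le_cz z)).toEquiv
  rw [e3] at e1 e2
  rw [h1, ← e2] at e1
  exact Nat.eq_of_mul_eq_mul_left Nat.card_pos e1

/-- `r`-elements lie in `N`. -/
theorem mem_of_rEl (hS : ∀ R : Sylow r G, (R : Subgroup G) ≤ N) {x : G} (hx : REl r x) : x ∈ N := by
  obtain ⟨R, hR⟩ := hx.zpowers.exists_le_sylow
  exact hS R (hR (mem_zpowers x))

/-- If there is no good pair, the `r'`-elements of `N` are central. -/
theorem central_of_no_good (h : TwoG N m) (hS : ∀ R : Sylow r G, (R : Subgroup G) ≤ N)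
    {z : G} (hz : REl r z) (hzZ : z ∉ center G)
    (hno : ∀ x ∈ N, x ∉ center G → REl r x → ¬ Good N r x) {w : G} (hw : w ∈ N)
    (hwr : (orderOf w).Coprime r) : w ∈ center G := by
  by_contra hwZ
  have hzN := mem_of_rEl hS hz
  have h1 : r ∣ (center G).relIndex (cz w) := by
    rw [relIndex_cz_eq h hw hwZ hzN hzZ]
    obtain ⟨k, hk⟩ := hz
    exact dvd_relIndex_center hr.out (self_mem_cz z) hzZ hk
  obtain ⟨v, hv, hvZ, -, hvr⟩ := exists_of_dvd_relIndex_center hr.out h1
  exact hno v (mem_of_rEl hS hvr) hvZ hvr ⟨w, hw, hwZ, hwr, mem_cz.1 hv⟩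

theorem isNilpotent_of_central [hN : N.Normal]
    (hc : ∀ w ∈ N, (orderOf w).Coprime r → w ∈ center G) : Group.IsNilpotent N := by
  have h1 : IsPGroup r (N ⧸ center N) := by
    intro q
    obtain ⟨v, rfl⟩ := QuotientGroup.mk_surjective q
    obtain ⟨a, b, hab, -, ⟨k, hk⟩, hb, haz, hbz⟩ := Cfsg.Agent.H524.ClassSize.exists_decomp r v
    refine ⟨k, ?_⟩
    have hbZ : b ∈ center N := by
      rw [mem_center_iff]
      intro g
      apply Subtype.ext
      have h2 := hc b b.2 (by rw [Subgroup.orderOf_coe]; exact hb)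
      exact mem_center_iff.1 h2 g
    have h2 : (v : N ⧸ center N) = a := by
      rw [← hab, QuotientGroup.mk_mul, (QuotientGroup.eq_one_iff b).2 hbZ, mul_one]
    rw [h2, ← QuotientGroup.mk_pow, ← hk, pow_orderOf_eq_one]
    rfl
  have h2 : Group.IsNilpotent (N ⧸ center N) := h1.isNilpotent
  exact Group.of_quotient_center_nilpotent h2

/-- The case `r ∤ m`. -/
theorem comm_of_not_dvd [hN : N.Normal] (h : TwoG N m) (hrm : ¬ r ∣ m)
    (hS : ∀ R : Sylow r G, (R : Subgroup G) ≤ N) {x0 : G} (hx0 : x0 ∈ N) (hx0Z : x0 ∉ center G)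
    (hx0r : REl r x0) (hx0g : Good N r x0) : ∀ u ∈ N, ∀ v ∈ N, u * v = v * u := by
  obtain ⟨R, hR0⟩ := hx0r.zpowers.exists_le_sylow
  have hx0R : x0 ∈ (R : Subgroup G) := hR0 (mem_zpowers x0)
  -- `R` centralizes `N`
  have htop : (centralizer ((R : Subgroup G) : Set G)).subgroupOf N = ⊤ := by
    by_contra hne
    obtain ⟨v, hv⟩ := Cfsg.Agent.H395.Jordan.exists_not_conj_mem hne
    have hvZ : (v : G) ∉ center G := by
      intro hvZ
      apply hv 1
      rw [inv_one, one_mul, mul_one, mem_subgroupOf, mem_centralizer_iff]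
      intro g _
      exact mem_center_iff.1 hvZ g
    have h1 : ¬ r ∣ (cz (v : G)).index := by
      rw [h.index_eq v.2 hvZ]; exact hrm
    obtain ⟨P, -, hP⟩ := Cfsg.Agent.H524.ClassSize.exists_sylow_between (A := ⊥) h1
      IsPGroup.of_bot bot_le
    obtain ⟨n, hn, hnP⟩ := exists_smul (hS R) (hS P)
    apply hv ⟨n, hn⟩
    rw [mem_subgroupOf, mem_centralizer_iff]
    intro g hg
    have h2 : n * g * n⁻¹ ∈ (P : Subgroup G) := by
      rw [← hnP, mem_smul]
      have e : n⁻¹ * (n * g * n⁻¹) * n = g := by group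
      rw [e]; exact hg
    have h3 := mem_cz.1 (hP h2)
    change g * (n⁻¹ * v * n) = (n⁻¹ * v * n) * g
    calc g * (n⁻¹ * v * n) = n⁻¹ * (n * g * n⁻¹ * v) * n := by group
      _ = n⁻¹ * (v * (n * g * n⁻¹)) * n := by rw [h3]
      _ = _ := by group
  have hNR : ∀ v ∈ N, ∀ g ∈ (R : Subgroup G), g * v = v * g := by
    intro v hv g hg
    have h1 : (⟨v, hv⟩ : N) ∈ (centralizer ((R : Subgroup G) : Set G)).subgroupOf N := by
      rw [htop]; exact mem_top _
    rw [mem_subgroupOf, mem_centralizer_iff] at h1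
    exact h1 g hg
  have hNx : N ≤ cz x0 := fun v hv => mem_cz.2 (hNR v hv x0 hx0R).symm
  obtain ⟨w, hw, hwZ, hwr, hc⟩ := hx0g
  have hgp := good_pair h hx0 hx0Z hx0r hw hwZ hwr hc
  intro u hu v hv
  exact (mem_cz.1 ((hgp.2 v hv (hNx hv)) (hNx hu)))

end Cfsg.Agent.H683.TwoNormal
end

-- part: H683/TwoNormalB
section
/-!
# Normal subgroups with two `G`-class sizes, containing a Sylow subgroup: the square case
-/

set_option autoImplicit false
set_option linter.unusedSectionVars false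

namespace Cfsg.Agent.H683.TwoNormal

open Subgroup Cfsg.Agent.H683.TwoSize
open scoped commutatorElement Pointwise

variable {G : Type*} [Group G] [Finite G] {r : ℕ} [hr : Fact r.Prime]

theorem relIndex_center_dvd {A B : Subgroup G} (h : A ≤ B) :
    (center G).relIndex A ∣ (center G).relIndex B := by
  have h1 := relIndex_ker A (QuotientGroup.mk' (center G))
  have h2 := relIndex_ker B (QuotientGroup.mk' (center G))
  rw [QuotientGroup.ker_mk'] at h1 h2
  rw [h1, h2]
  exact card_dvd_of_le (map_mono h)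

theorem relIndex_center_pow {A : Subgroup G} (h : IsPGroup r A) :
    ∃ k, (center G).relIndex A = r ^ k := by
  have h1 := relIndex_ker A (QuotientGroup.mk' (center G))
  rw [QuotientGroup.ker_mk'] at h1
  rw [h1]
  exact IsPGroup.iff_card.1 (h.map _)

theorem dvd_prime_of_pow {a k : ℕ} (h : a = r ^ k) (h2 : ¬ r * r ∣ a) : a ∣ r := by
  rcases Nat.lt_or_ge k 2 with hk | hk
  · rw [h]
    calc r ^ k ∣ r ^ 1 := pow_dvd_pow r (by omega)
      _ = r := pow_one r
  · exfalso
    apply h2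
    rw [h, ← pow_two]
    exact pow_dvd_pow r hk

/-- Fixed points modulo the center. -/
theorem exists_fixed {P K : Subgroup G} (hP : IsPGroup r P) (hK : IsPGroup r K)
    (hPK : P ≤ normalizer (K : Set G)) (hKZ : ¬ K ≤ center G) :
    ∃ u ∈ K, u ∉ center G ∧ ∀ t ∈ P, ⁅t, u⁆ ∈ center G := by
  let π := QuotientGroup.mk' (center G)
  have hmem : ∀ t ∈ P, π t ∈ normalizer ((K.map π : Subgroup (G ⧸ center G)) :
      Set (G ⧸ center G)) := by
    have key : ∀ g ∈ P, ∀ x ∈ K.map π, π g * x * (π g)⁻¹ ∈ K.map π := by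
      rintro g hg _ ⟨v, hv, rfl⟩
      refine ⟨g * v * g⁻¹, ((mem_normalizer_iff.1 (hPK hg)) v).1 hv, ?_⟩
      rw [map_mul, map_mul, map_inv]
    intro t ht
    refine mem_normalizer_of (key t ht) fun x hx => ?_
    have := key t⁻¹ (inv_mem ht) x hx
    rwa [map_inv, inv_inv] at this
  let ψ : P →* MulAut (K.map π) :=
    ((K.map π).normalizerMonoidHom).comp
      ((π.comp P.subtype).codRestrict _ (fun t => hmem t t.2))
  have hψ : ∀ (t : P) (x : K.map π), ((ψ t x : K.map π) : G ⧸ center G) = π t * x * (π t)⁻¹ :=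
    fun t x => rfl
  letI : MulAction P (K.map π) := MulAction.compHom _ ψ
  have hsmul : ∀ (t : P) (x : K.map π), t • x = ψ t x := fun t x => rfl
  have hcard : r ∣ Nat.card (K.map π) := by
    obtain ⟨j, hj⟩ := IsPGroup.iff_card.1 (hK.map π)
    have hj0 : j ≠ 0 := by
      rintro rfl
      apply hKZ
      rw [pow_zero] at hj
      intro v hv
      have h1 := (Subgroup.card_eq_one.1 hj) ▸ mem_map_of_mem π hv
      rw [mem_bot] at h1
      exact (QuotientGroup.eq_one_iff v).1 h1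
    rw [hj]
    exact dvd_pow_self r hj0
  obtain ⟨b, hb, hb1⟩ := hP.exists_fixed_point_of_prime_dvd_card_of_fixed_point (K.map π) hcard
    (a := 1) (by
      intro t
      rw [hsmul, map_one])
  obtain ⟨_, u, hu, rfl⟩ := b
  refine ⟨u, hu, ?_, ?_⟩
  · intro huZ
    apply hb1
    apply Subtype.ext
    exact ((QuotientGroup.eq_one_iff u).2 huZ).symm
  · intro t ht
    have h1 := congrArg Subtype.val (hb ⟨t, ht⟩)
    rw [hsmul, hψ] at h1
    have h2 : π ⁅t, u⁆ = 1 := by
      rw [map_commutatorElement, commutatorElement_def]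
      have h3 : π t * π u * (π t)⁻¹ = π u := h1
      rw [h3, mul_inv_cancel]
    exact (QuotientGroup.eq_one_iff _).1 h2

/-- A Sylow subgroup meeting `C` in a Sylow subgroup of `C`. -/
theorem exists_sylow_inf {C T0 : Subgroup G} (hT : IsPGroup r T0) (hTC : T0 ≤ C) :
    ∃ R : Sylow r G, T0 ≤ (R : Subgroup G) ∧ ¬ r ∣ (R : Subgroup G).relIndex C := by
  have hA' : IsPGroup r (T0.subgroupOf C) := hT.comap_of_injective C.subtype C.subtype_injective
  obtain ⟨S, hS⟩ := hA'.exists_le_sylow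
  obtain ⟨R, hR⟩ := (S.isPGroup'.map C.subtype).exists_le_sylow
  refine ⟨R, ?_, ?_⟩
  · intro t ht
    exact hR ⟨⟨t, hTC ht⟩, hS ht, rfl⟩
  · have h1 : ((R : Subgroup G).subgroupOf C) = S :=
      S.is_maximal' (R.isPGroup'.comap_of_injective C.subtype C.subtype_injective)
        (fun x hx => hR ⟨x, hx, rfl⟩)
    rw [relIndex, h1]
    exact S.not_dvd_index

theorem relIndex_mul_comm (A B : Subgroup G) :
    A.relIndex B * B.index = B.relIndex A * A.index := by
  rw [← inf_relIndex_right A B, ← inf_relIndex_left A B, relIndex_mul_index inf_le_right,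
    relIndex_mul_index inf_le_left]

theorem relIndex_sylow_pow (R : Sylow r G) (C : Subgroup G) :
    ∃ k, C.relIndex (R : Subgroup G) = r ^ k := by
  obtain ⟨j, hj⟩ := IsPGroup.iff_card.1 R.isPGroup'
  have h1 : C.relIndex (R : Subgroup G) ∣ r ^ j := by
    rw [← hj]; exact relIndex_dvd_card _ _
  obtain ⟨k, -, hk⟩ := (Nat.dvd_prime_pow hr.out).1 h1
  exact ⟨k, hk⟩

theorem relIndex_dvd_of_not_sq {C : Subgroup G} {R : Sylow r G}
    (h1 : ¬ r ∣ (R : Subgroup G).relIndex C) (h2 : ¬ r * r ∣ C.index) :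
    C.relIndex (R : Subgroup G) ∣ r := by
  obtain ⟨k, hk⟩ := relIndex_sylow_pow R C
  refine dvd_prime_of_pow hk fun h3 => h2 ?_
  have h4 : r * r ∣ (R : Subgroup G).relIndex C * C.index := by
    rw [relIndex_mul_comm]
    exact h3.mul_right _
  have h5 : Nat.Coprime (r * r) ((R : Subgroup G).relIndex C) := by
    have := (Nat.Prime.coprime_iff_not_dvd hr.out).2 h1
    exact Nat.Coprime.mul_left this this
  exact h5.dvd_of_dvd_mul_left h4

theorem relIndex_center_inf {C : Subgroup G} (hC : center G ≤ C) (R : Subgroup G) :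
    (center G).relIndex C ∣ (center G).relIndex (R ⊓ C) * R.relIndex C := by
  have h1 := relIndex_mul_relIndex (center G) ((R ⊓ C) ⊔ center G) C le_sup_right
    (sup_le inf_le_right hC)
  rw [relIndex_sup_right] at h1
  rw [← h1]
  refine mul_dvd_mul_left _ ?_
  rw [← inf_relIndex_right R C]
  exact relIndex_dvd_of_le_left _ le_sup_left

theorem sq_dvd_relIndex_center {C : Subgroup G} (hC : center G ≤ C) {R : Sylow r G}
    (h1 : ¬ r ∣ (R : Subgroup G).relIndex C) (h2 : r * r ∣ (center G).relIndex C) :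
    r * r ∣ (center G).relIndex ((R : Subgroup G) ⊓ C) := by
  have h5 : Nat.Coprime (r * r) ((R : Subgroup G).relIndex C) := by
    have := (Nat.Prime.coprime_iff_not_dvd hr.out).2 h1
    exact Nat.Coprime.mul_left this this
  exact h5.dvd_of_dvd_mul_right (h2.trans (relIndex_center_inf hC _))

variable {N : Subgroup G} {m : ℕ}

/-- A good element which is central modulo the center in a Sylow subgroup. -/
theorem relIndex_cz_dvd [hN : N.Normal] (h : TwoG N m) (hrm : r ∣ m)
    (hS : ∀ R : Sylow r G, (R : Subgroup G) ≤ N) {R : Sylow r G} {y : G}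
    (hyR : y ∈ (R : Subgroup G)) (hyZ : y ∉ center G) (hyr : y ^ r ∈ center G)
    (hyc : ∀ g ∈ (R : Subgroup G), ⁅g, y⁆ ∈ center G) (hyg : Good N r y) :
    (cz y).relIndex (R : Subgroup G) ∣ r := by
  have hyN := hS R hyR
  have hyo : REl r y := REl.of_mem R.isPGroup' hyR
  obtain ⟨g, hgR, hgC⟩ : ∃ g ∈ (R : Subgroup G), g ∉ cz y := by
    by_contra hcon
    push Not at hcon
    exact hyZ (mem_center_of_le h hrm R hyN hcon)
  obtain ⟨θ, hθ⟩ := exists_theta hyc
  have hker : θ.ker = (cz y).subgroupOf (R : Subgroup G) := by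
    ext u
    rw [MonoidHom.mem_ker, mem_subgroupOf, mem_cz, ← commutatorElement_eq_one_iff_mul_comm,
      ← hθ]
    exact Subtype.ext_iff
  have hkmem : ∀ u : (R : Subgroup G), θ u = 1 → (u : G) ∈ cz y := by
    intro u hu
    have h1 : u ∈ θ.ker := hu
    rw [hker, mem_subgroupOf] at h1
    exact h1
  have hpow : ∀ u ∈ (R : Subgroup G), u ^ r ∈ cz y := by
    intro u hu
    refine hkmem ((⟨u, hu⟩ : (R : Subgroup G)) ^ r) ?_
    rw [map_pow]
    apply Subtype.ext
    rw [SubmonoidClass.coe_pow, hθ]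
    exact theta_pow (hyc u hu) hyr
  have hcomm : ∀ u (hu : u ∈ (R : Subgroup G)), ⁅u, g⁆ ∈ cz y := by
    intro u hu
    refine hkmem ⁅(⟨u, hu⟩ : (R : Subgroup G)), (⟨g, hgR⟩ : (R : Subgroup G))⁆ ?_
    rw [map_commutatorElement, commutatorElement_eq_one_iff_mul_comm]
    exact Subtype.ext (mem_center_iff.1 (θ ⟨g, hgR⟩).2 _)
  have hrange : θ.range = zpowers (θ ⟨g, hgR⟩) := by
    apply le_antisymm
    · rintro _ ⟨u, rfl⟩
      obtain ⟨j, hj⟩ := exists_mem_good h hyN hyZ hyo hyg (mem_normalizer_cz (hyc u u.2))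
        (mem_normalizer_cz (hyc g hgR)) (hpow u u.2) (hpow g hgR) (hcomm u u.2) hgC
      have h1 : u * ⟨g, hgR⟩ ^ j ∈ θ.ker := by
        rw [hker, mem_subgroupOf]
        exact hj
      rw [MonoidHom.mem_ker, map_mul, map_pow] at h1
      rw [eq_inv_of_mul_eq_one_left h1]
      exact inv_mem (pow_mem (mem_zpowers _) j)
    · rw [zpowers_le]
      exact ⟨_, rfl⟩
  have hcard : Nat.card θ.range ∣ r := by
    rw [hrange, Nat.card_zpowers]
    apply orderOf_dvd_of_pow_eq_one
    apply Subtype.ext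
    rw [SubmonoidClass.coe_pow, hθ]
    exact theta_pow (hyc g hgR) hyr
  rw [← Subgroup.index_ker, hker] at hcard
  exact hcard

theorem not_dvd_of_relIndex (h : TwoG N m) {R : Sylow r G} {y : G} (hyN : y ∈ N)
    (hyZ : y ∉ center G) (h1 : (cz y).relIndex (R : Subgroup G) ∣ r) :
    ¬ r * r ∣ (R : Subgroup G).relIndex (cz y) * m := by
  intro h2
  rw [← h.index_eq hyN hyZ, relIndex_mul_comm] at h2
  have h3 : r * r ∣ r * (R : Subgroup G).index := h2.trans (mul_dvd_mul_right h1 _)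
  exact R.not_dvd_index (Nat.dvd_of_mul_dvd_mul_left hr.out.pos h3)

theorem exists_share {R : Sylow r G} {y v : G} (h1 : (cz y).relIndex (R : Subgroup G) ∣ r)
    (h2 : (cz v).relIndex (R : Subgroup G) ∣ r) (h3 : r * r < (center G).relIndex (R : Subgroup G)) :
    ∃ u ∈ (R : Subgroup G), u ∉ center G ∧ u ∈ cz y ∧ u ∈ cz v := by
  by_contra hcon
  push Not at hcon
  have h4 : (cz y ⊓ cz v) ⊓ (R : Subgroup G) ≤ center G := by
    rintro u ⟨⟨hu1, hu2⟩, hu3⟩
    by_contra huZ
    exact hcon u hu3 huZ hu1 hu2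
  have h5 := relIndex_dvd_of_le_left (R : Subgroup G) h4
  rw [inf_relIndex_right] at h5
  have h6 : (center G).relIndex (R : Subgroup G) ≤ (cz y ⊓ cz v).relIndex (R : Subgroup G) :=
    Nat.le_of_dvd (Nat.pos_of_ne_zero (relIndex_ne_zero _ _)) h5
  have h7 : (cz y ⊓ cz v).relIndex (R : Subgroup G) ≤
      (cz y).relIndex (R : Subgroup G) * (cz v).relIndex (R : Subgroup G) := relIndex_inf_le
  have h8 := Nat.le_of_dvd hr.out.pos h1
  have h9 := Nat.le_of_dvd hr.out.pos h2
  have h10 := Nat.mul_le_mul h8 h9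
  omega

theorem center_relIndex_mul {R C : Subgroup G} (hC : center G ≤ C) :
    (center G).relIndex (R ⊓ C) * C.relIndex R = (center G).relIndex R := by
  have := relIndex_inf_mul_relIndex (H := center G) (K := C) (L := R)
  rwa [inf_eq_left.2 hC, inf_comm] at this

/-- No good element which is central modulo the center. -/
theorem no_good_central [hN : N.Normal] (h : TwoG N m) (hrm : r ∣ m)
    (hS : ∀ R : Sylow r G, (R : Subgroup G) ≤ N)
    (hc0 : ∀ v ∈ N, v ∉ center G → r * r ∣ (center G).relIndex (cz v)) {R : Sylow r G} {y : G}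
    (hyR : y ∈ (R : Subgroup G)) (hyZ : y ∉ center G) (hyr : y ^ r ∈ center G)
    (hyc : ∀ g ∈ (R : Subgroup G), ⁅g, y⁆ ∈ center G) (hyg : Good N r y) : False := by
  have hyN := hS R hyR
  have hyo : REl r y := REl.of_mem R.isPGroup' hyR
  have h1 := relIndex_cz_dvd h hrm hS hyR hyZ hyr hyc hyg
  have hnd := not_dvd_of_relIndex h hyN hyZ h1
  have hm : ¬ r * r ∣ m := fun h2 => hnd (h2.mul_left _)
  have hRy : ¬ r ∣ (R : Subgroup G).relIndex (cz y) := fun h2 => hnd (mul_dvd_mul h2 hrm)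
  have h3 := sq_dvd_relIndex_center (center_le_cz y) hRy (hc0 y hyN hyZ)
  have h4 : r * r < (center G).relIndex (R : Subgroup G) := by
    have h5 : (cz y).relIndex (R : Subgroup G) = r := by
      rcases (Nat.dvd_prime hr.out).1 h1 with h5 | h5
      · exfalso
        exact hyZ (mem_center_of_le h hrm R hyN (relIndex_eq_one.1 h5))
      · exact h5
    have h6 := center_relIndex_mul (R := (R : Subgroup G)) (center_le_cz y)
    rw [h5] at h6
    have h7 : r * r ≤ (center G).relIndex ((R : Subgroup G) ⊓ cz y) :=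
      Nat.le_of_dvd (Nat.pos_of_ne_zero (relIndex_ne_zero _ _)) h3
    have h8 := hr.out.one_lt
    have h9 := hr.out.pos
    rw [← h6]
    nlinarith
  have hne : (cz y).subgroupOf N ≠ ⊤ := by
    intro h5
    exact hyZ (mem_center_of_le h hrm R hyN ((hS R).trans (subgroupOf_eq_top.1 h5)))
  obtain ⟨v, hv⟩ := Cfsg.Agent.H395.Jordan.exists_not_conj_mem hne
  have hvZ : (v : G) ∉ center G := by
    intro hvZ
    apply hv 1
    rw [inv_one, one_mul, mul_one, mem_subgroupOf]
    exact center_le_cz y hvZ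
  obtain ⟨R', -, hR'⟩ := exists_sylow_inf (C := cz (v : G)) (T0 := ⊥) (r := r) IsPGroup.of_bot bot_le
  have h5 := relIndex_dvd_of_not_sq hR' (by rw [h.index_eq v.2 hvZ]; exact hm)
  obtain ⟨n, hn, hnP⟩ := exists_smul (hS R) (hS R')
  have e : (v : G) = n * (n⁻¹ * v * n) * n⁻¹ := by group
  have h6 : (cz (n⁻¹ * v * n)).relIndex (R : Subgroup G) ∣ r := by
    rw [e, cz_conj, ← hnP, Sylow.coe_subgroup_smul, relIndex_pointwise_smul] at h5
    exact h5
  obtain ⟨u, huR, huZ, huy, huv⟩ := exists_share h1 h6 h4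
  have h7 := good_eq h hyN hyZ hyo hyg (hS R huR) huZ huy
  apply hv ⟨n, hn⟩
  rw [mem_subgroupOf, ← h7]
  exact mem_cz.2 (mem_cz.1 huv).symm

end Cfsg.Agent.H683.TwoNormal
end

-- part: H683/TwoNormalC
section
/-!
# Normal subgroups with two `G`-class sizes, containing a Sylow subgroup: no square
-/

set_option autoImplicit false
set_option linter.unusedSectionVars false

namespace Cfsg.Agent.H683.TwoNormal

open Subgroup Cfsg.Agent.H683.TwoSize
open scoped commutatorElement Pointwise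

variable {G : Type*} [Group G] [Finite G] {r : ℕ} [hr : Fact r.Prime] {N : Subgroup G} {m : ℕ}

theorem pow_mem_cz {u y : G} {k : ℕ} (h : ⁅u, y⁆ ∈ center G) (h1 : ⁅u, y⁆ ^ k = 1) :
    u ^ k ∈ cz y := by
  have e : u * y = ⁅u, y⁆ * y * u := by rw [commutatorElement_def]; group
  have hz := mem_center_iff.1 h
  have key : ∀ j : ℕ, u ^ j * y = ⁅u, y⁆ ^ j * y * u ^ j := by
    intro j
    induction j with
    | zero => simp only [pow_zero, one_mul, mul_one]
    | succ j ih =>
      have h2 := (mem_center_iff.1 (pow_mem h j)) u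
      calc u ^ (j + 1) * y = u * (u ^ j * y) := by rw [pow_succ', mul_assoc]
        _ = u * ⁅u, y⁆ ^ j * (y * u ^ j) := by rw [ih, mul_assoc, mul_assoc]
        _ = ⁅u, y⁆ ^ j * (u * y) * u ^ j := by rw [h2, mul_assoc, mul_assoc, mul_assoc]
        _ = ⁅u, y⁆ ^ j * (⁅u, y⁆ * y * u) * u ^ j := by rw [← e]
        _ = (⁅u, y⁆ ^ j * ⁅u, y⁆) * y * (u * u ^ j) := by simp only [mul_assoc]
        _ = _ := by rw [← pow_succ, ← pow_succ']
  rw [mem_cz, key k, h1, one_mul]

/-- The square case is impossible. -/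
theorem sq_contra [hN : N.Normal] (h : TwoG N m) (hrm : r ∣ m)
    (hS : ∀ R : Sylow r G, (R : Subgroup G) ≤ N)
    (hc0 : ∀ v ∈ N, v ∉ center G → r * r ∣ (center G).relIndex (cz v)) {x : G} (hxN : x ∈ N)
    (hxZ : x ∉ center G) (hxr : REl r x) (hxg : Good N r x) : False := by
  obtain ⟨R, hxR', hRx⟩ := exists_sylow_inf (C := cz x) (T0 := zpowers x) hxr.zpowers
    (zpowers_le.2 (self_mem_cz x))
  have hxR : x ∈ (R : Subgroup G) := hxR' (mem_zpowers x)
  have hK2 := sq_dvd_relIndex_center (center_le_cz x) hRx (hc0 x hxN hxZ)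
  obtain ⟨K, hK⟩ : ∃ K : Subgroup G, K = (R : Subgroup G) ⊓ cz x := ⟨_, rfl⟩
  rw [← hK] at hK2
  have hKm : ∀ u, u ∈ K ↔ u ∈ (R : Subgroup G) ∧ u ∈ cz x := fun u => by rw [hK, mem_inf]
  have hKR : K ≤ R := fun u hu => ((hKm u).1 hu).1
  have hRZ : ¬ (R : Subgroup G) ≤ center G := fun h1 => hxZ (h1 hxR)
  obtain ⟨y, hyR, hyZ, hyr, hyc⟩ := exists_central_mod R hRZ
  have hyN := hS R hyR
  have hyb : ¬ Good N r y := fun hyg => no_good_central h hrm hS hc0 hyR hyZ hyr hyc hyg
  have hyx : y ∉ cz x := by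
    intro h1
    have h2 := good_eq h hxN hxZ hxr hxg hyN hyZ h1
    exact hyb (hxg.of_le h2.symm.le)
  have hKe : ∀ u ∈ K, u ∉ center G → cz u = cz x := fun u hu huZ =>
    good_eq h hxN hxZ hxr hxg (hS R (hKR hu)) huZ ((hKm u).1 hu).2
  have hKy : ∀ u ∈ K, u ∉ center G → u ∉ cz y := by
    intro u hu huZ huy
    apply hyx
    rw [← hKe u hu huZ]
    exact mem_cz.2 (mem_cz.1 huy).symm
  have hKr : ∀ u ∈ K, u ^ r ∈ center G := by
    intro u hu
    by_contra huZ
    refine hKy _ (pow_mem hu r) huZ ?_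
    have h1 := hyc u (hKR hu)
    exact pow_mem_cz h1 (theta_pow h1 hyr)
  have hkey : ∀ t ∈ (R : Subgroup G), ∀ u ∈ K, u ∉ center G → ⁅t, u⁆ ∈ center G →
      ∃ j : ℕ, t * y ^ j ∈ K := by
    intro t ht u hu huZ htu
    have he := hKe u hu huZ
    have hyu : ⁅y, u⁆ ∈ center G := by
      rw [← commutatorElement_inv]
      exact inv_mem (hyc u (hKR hu))
    have h1 : t ∈ normalizer (cz x : Set G) := by rw [← he]; exact mem_normalizer_cz htu
    have h2 : y ∈ normalizer (cz x : Set G) := by rw [← he]; exact mem_normalizer_cz hyu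
    have h3 : t ^ r ∈ cz x := by
      rw [← he]; exact pow_mem_cz htu (theta_pow htu (hKr u hu))
    obtain ⟨j, hj⟩ := exists_mem_good h hxN hxZ hxr hxg h1 h2 h3 (center_le_cz x hyr)
      (center_le_cz x (hyc t ht)) hyx
    exact ⟨j, (hKm _).2 ⟨mul_mem ht (pow_mem hyR j), hj⟩⟩
  have hKp : IsPGroup r K := R.isPGroup'.to_le hKR
  have hKZ : ¬ K ≤ center G := by
    intro h1
    exact hxZ (h1 ((hKm x).2 ⟨hxR, self_mem_cz x⟩))
  obtain ⟨T, hT⟩ : ∃ T : Subgroup G, T = (R : Subgroup G) ⊓ normalizer (K : Set G) := ⟨_, rfl⟩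
  have hTR : T ≤ R := hT ▸ inf_le_left
  have hTn : T ≤ normalizer (K : Set G) := hT ▸ inf_le_right
  have hTp : IsPGroup r T := R.isPGroup'.to_le hTR
  have hKT : K ≤ T := hT ▸ le_inf hKR le_normalizer
  obtain ⟨u, hu, huZ, huT⟩ := exists_fixed hTp hKp hTn hKZ
  have hTK : ∀ t ∈ T, ∃ j : ℕ, t * y ^ j ∈ K := fun t ht =>
    hkey t (hTR ht) u hu huZ (huT t ht)
  have hyK : y ^ r ∈ K := (hKm _).2 ⟨pow_mem hyR r, center_le_cz x hyr⟩
  have hcardT : Nat.card T ≤ Nat.card K * r := by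
    let f : K × Fin r → G := fun a => a.1 * (y ^ (a.2 : ℕ))⁻¹
    have h1 : (T : Set G) ⊆ Set.range f := by
      intro t ht
      obtain ⟨j, hj⟩ := hTK t ht
      have h2 : t * y ^ (j % r) ∈ K := by
        have e : t * y ^ (j % r) = t * y ^ j * ((y ^ r) ^ (j / r))⁻¹ := by
          rw [← pow_mul]
          nth_rw 2 [← Nat.mod_add_div j r]
          rw [pow_add]; group
        rw [e]
        exact mul_mem hj (inv_mem (pow_mem hyK _))
      exact ⟨(⟨_, h2⟩, ⟨j % r, Nat.mod_lt _ hr.out.pos⟩), by simp [f]⟩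
    calc Nat.card T = (T : Set G).ncard := rfl
      _ ≤ (Set.range f).ncard := Set.ncard_le_ncard h1 (Set.toFinite _)
      _ ≤ Nat.card (K × Fin r) := by
        rw [← Set.image_univ, ← Set.ncard_univ (K × Fin r)]
        exact Set.ncard_image_le (Set.toFinite _)
      _ = Nat.card K * r := by rw [Nat.card_prod, Nat.card_fin]
  have hTne : T ≠ R := by
    intro hTR
    have hug : Good N r u := hxg.of_le (hKe u hu huZ).symm.le
    exact no_good_central h hrm hS hc0 (hKR hu) huZ (hKr u hu)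
      (fun g hg => huT g (by rw [hTR]; exact hg)) hug
  obtain ⟨t, htR, htT, htn⟩ : ∃ t ∈ (R : Subgroup G), t ∉ T ∧ ∀ w ∈ T, t * w * t⁻¹ ∈ T := by
    have : Group.IsNilpotent (R : Subgroup G) := R.isPGroup'.isNilpotent
    have hnc := Group.normalizerCondition_of_isNilpotent (G := (R : Subgroup G))
    have h1 : T.subgroupOf (R : Subgroup G) < ⊤ := by
      rw [lt_top_iff_ne_top]
      intro h2
      exact hTne (le_antisymm hTR (subgroupOf_eq_top.1 h2))
    obtain ⟨t, ht1, ht2⟩ := Set.exists_of_ssubset (hnc _ h1)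
    refine ⟨t, t.2, ht2, fun w hw => ?_⟩
    exact ((mem_normalizer_iff.1 ht1) ⟨w, hTR hw⟩).1 hw
  -- the conjugate
  obtain ⟨K', hK'⟩ : ∃ K' : Subgroup G, K' = K.map (MulAut.conj t).toMonoidHom := ⟨_, rfl⟩
  have hK'c : Nat.card K' = Nat.card K := by
    rw [hK']
    exact card_map_of_injective (MulAut.conj t).injective
  have hK'T : K' ≤ T := by
    rw [hK']
    rintro _ ⟨w, hw, rfl⟩
    exact htn w (hKT hw)
  have hKK' : K' ⊓ K ≤ center G := by
    rintro w ⟨hw1, hw2⟩
    by_contra hwZ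
    rw [SetLike.mem_coe, hK'] at hw1
    obtain ⟨v, hv, hvw⟩ := hw1
    have hvw' : t * v * t⁻¹ = w := hvw
    have hvZ : v ∉ center G := by
      intro h1
      apply hwZ
      rw [← hvw']
      exact conj_mem_center h1
    have h1 := hKe v hv hvZ
    have h2 := hKe w hw2 hwZ
    have h3 : ∀ c, c ∈ cz x ↔ t⁻¹ * c * t ∈ cz x := by
      intro c
      rw [← h1, ← mem_cz_conj, hvw', h2, h1]
    apply htT
    rw [hT]
    refine mem_inf.2 ⟨htR, mem_normalizer_of (fun c hc => ?_) (fun c hc => ?_)⟩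
    · rw [hKm] at hc ⊢
      refine ⟨mul_mem (mul_mem htR hc.1) (inv_mem htR), ?_⟩
      rw [h3]
      have e : t⁻¹ * (t * c * t⁻¹) * t = c := by group
      rw [e]; exact hc.2
    · rw [hKm] at hc ⊢
      exact ⟨mul_mem (mul_mem (inv_mem htR) hc.1) htR, (h3 c).1 hc.2⟩
  have h1 : K'.relIndex T ≤ r := by
    have h2 : Nat.card K' * K'.relIndex T = Nat.card T := by
      have := card_mul_index (K'.subgroupOf T)
      rw [Nat.card_congr (subgroupOfEquivOfLe hK'T).toEquiv] at this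
      exact this
    rw [← hK'c, ← h2] at hcardT
    exact Nat.le_of_mul_le_mul_left hcardT Nat.card_pos
  have h2 : K'.relIndex K ≤ K'.relIndex T := relIndex_le_of_le_right hKT (relIndex_ne_zero _ _)
  have h3 : (center G).relIndex K ≤ K'.relIndex K := by
    have h4 := relIndex_dvd_of_le_left K hKK'
    rw [inf_relIndex_right] at h4
    exact Nat.le_of_dvd (Nat.pos_of_ne_zero (relIndex_ne_zero _ _)) h4
  have h4 : r * r ≤ (center G).relIndex K :=
    Nat.le_of_dvd (Nat.pos_of_ne_zero (relIndex_ne_zero _ _)) hK2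
  have h5 := hr.out.one_lt
  nlinarith

end Cfsg.Agent.H683.TwoNormal
end

-- part: H683/TwoNormalD
section
/-!
# Normal subgroups with two `G`-class sizes, containing a Sylow subgroup: conclusion
-/

set_option autoImplicit false
set_option linter.unusedSectionVars false

namespace Cfsg.Agent.H683.TwoNormal

open Subgroup Cfsg.Agent.H683.TwoSize
open scoped commutatorElement Pointwise

variable {G : Type*} [Group G] [Finite G] {r : ℕ} [hr : Fact r.Prime] {N : Subgroup G} {m : ℕ}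

theorem card_map_mk (T : Subgroup G) :
    Nat.card (T.map (QuotientGroup.mk' (center G))) = (center G).relIndex T := by
  have h1 := relIndex_ker T (QuotientGroup.mk' (center G))
  rw [QuotientGroup.ker_mk'] at h1
  exact h1.symm

theorem mem_sup_of_relIndex {T : Subgroup G} (hT : (center G).relIndex T ∣ r) {y : G}
    (hyT : y ∈ T) (hyZ : y ∉ center G) {c : G} (hc : c ∈ T) :
    ∃ (j : ℤ) (z : G), z ∈ center G ∧ c = y ^ j * z := by
  let π := QuotientGroup.mk' (center G)
  have h1 : Nat.card (T.map π) = r := by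
    rw [card_map_mk]
    rcases (Nat.dvd_prime hr.out).1 hT with h1 | h1
    · exact absurd (relIndex_eq_one.1 h1 hyT) hyZ
    · exact h1
  have hy1 : (⟨π y, mem_map_of_mem π hyT⟩ : T.map π) ≠ 1 := by
    intro h2
    exact hyZ ((QuotientGroup.eq_one_iff y).1 (congrArg Subtype.val h2))
  obtain ⟨j, hj⟩ := mem_zpowers_of_prime_card h1 hy1 (g' := ⟨π c, mem_map_of_mem π hc⟩)
  have hj' : π y ^ j = π c := congrArg Subtype.val hj
  refine ⟨j, (y ^ j)⁻¹ * c, ?_, by group⟩
  rw [← QuotientGroup.eq_one_iff]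
  change π ((y ^ j)⁻¹ * c) = 1
  rw [map_mul, map_inv, map_zpow, hj', inv_mul_cancel]

theorem cz_le_sup [hN : N.Normal] (hS : ∀ R : Sylow r G, (R : Subgroup G) ≤ N)
    {R : Sylow r G} {y : G} (hsq : (center G).relIndex ((R : Subgroup G) ⊓ cz y) ∣ r)
    (hyR : y ∈ (R : Subgroup G)) (hyZ : y ∉ center G) (hyr : y ^ r ∈ center G)
    (hyc : ∀ g ∈ (R : Subgroup G), ⁅g, y⁆ ∈ center G) {v : G} (hv : v ∈ (R : Subgroup G)) :
    cz y ≤ N ⊔ cz v := by
  intro g hg
  let π := QuotientGroup.mk' (center G)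
  let M : Subgroup G := (cz (π y)).comap π
  have hM : ∀ g, g ∈ M ↔ ⁅g, y⁆ ∈ center G := by
    intro g
    have h0 : π ⁅g, y⁆ = 1 ↔ ⁅g, y⁆ ∈ center G := QuotientGroup.eq_one_iff _
    rw [← h0]
    change π g ∈ cz (π y) ↔ π ⁅g, y⁆ = 1
    rw [mem_cz, map_commutatorElement, commutatorElement_eq_one_iff_mul_comm]
  have hgM : g ∈ M := by
    rw [hM, commutatorElement_eq_one_iff_mul_comm.2 (mem_cz.1 hg)]
    exact one_mem _
  have hRM : (R : Subgroup G) ≤ M := fun t ht => (hM t).2 (hyc t ht)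
  have h1 : ((g • R : Sylow r G) : Subgroup G) ≤ N ⊓ M := by
    refine le_inf (hS _) fun t ht => ?_
    rw [mem_smul] at ht
    have h2 := mul_mem (mul_mem hgM (hRM ht)) (inv_mem hgM)
    have e : g * (g⁻¹ * t * g) * g⁻¹ = t := by group
    rwa [e] at h2
  obtain ⟨k, hk, hkR⟩ := exists_smul h1 (le_inf (hS R) hRM)
  rw [← mul_smul, Sylow.smul_eq_iff_mem_normalizer] at hkR
  have hkM : k * g ∈ M := mul_mem (mem_inf.1 hk).2 hgM
  obtain ⟨a, b, hab, -, ha, hb, haz, hbz⟩ := Cfsg.Agent.H524.ClassSize.exists_decomp r (k * g)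
  have haN : a ∈ N := mem_of_rEl hS ha
  have hbR : b ∈ normalizer (R : Set G) := (zpowers_le.2 hkR) hbz
  have hbM : b ∈ M := (zpowers_le.2 hkM) hbz
  have hby : b * y = y * b := by
    have h2 := (hM b).1 hbM
    have h3 := theta_pow h2 hyr
    have h4 := theta_pow' (k := orderOf b) h2 (by rw [pow_orderOf_eq_one]; exact one_mem _)
    have h5 : ⁅b, y⁆ = 1 := by
      rw [← orderOf_eq_one_iff]
      exact Nat.eq_one_of_dvd_coprimes hb (orderOf_dvd_of_pow_eq_one h4)
        (orderOf_dvd_of_pow_eq_one h3)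
    exact commutatorElement_eq_one_iff_mul_comm.1 h5
  obtain ⟨θ, hθ⟩ := exists_theta (R := M) (fun g hg => (hM g).1 hg)
  have hcomm : ∀ t ∈ (R : Subgroup G), b * t = t * b := by
    intro t ht
    obtain ⟨c, hc⟩ : ∃ c, c = b * t * b⁻¹ * t⁻¹ := ⟨_, rfl⟩
    have hcR : c ∈ (R : Subgroup G) := by
      rw [hc]
      exact mul_mem (((mem_normalizer_iff.1 hbR) t).1 ht) (inv_mem ht)
    have hcy : c ∈ cz y := by
      have h2 : θ ⁅(⟨b, hbM⟩ : M), (⟨t, hRM ht⟩ : M)⁆ = 1 := by
        rw [map_commutatorElement, commutatorElement_eq_one_iff_mul_comm]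
        exact Subtype.ext (mem_center_iff.1 (θ ⟨t, hRM ht⟩).2 _)
      have h3 := hθ ⁅(⟨b, hbM⟩ : M), (⟨t, hRM ht⟩ : M)⁆
      rw [h2, OneMemClass.coe_one] at h3
      have h4 : ((⁅(⟨b, hbM⟩ : M), (⟨t, hRM ht⟩ : M)⁆ : M) : G) = c := by
        rw [hc]; rfl
      rw [h4] at h3
      rw [mem_cz]
      exact commutatorElement_eq_one_iff_mul_comm.1 h3.symm
    obtain ⟨j, z, hz, hcj⟩ := mem_sup_of_relIndex hsq (mem_inf.2 ⟨hyR, self_mem_cz y⟩) hyZ
      (mem_inf.2 ⟨hcR, hcy⟩)
    have hbc : Commute b c := by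
      rw [hcj]
      exact ((show Commute b y from hby).zpow_right j).mul_right (mem_center_iff.1 hz b)
    have hbt : b * t = c * t * b := by rw [hc]; group
    have key : ∀ i : ℕ, b ^ i * t = c ^ i * t * b ^ i := by
      intro i
      induction i with
      | zero => simp only [pow_zero, one_mul, mul_one]
      | succ i ih =>
        have h5 : b * c ^ i = c ^ i * b := (hbc.pow_right i).eq
        calc b ^ (i + 1) * t = b * (b ^ i * t) := by rw [pow_succ', mul_assoc]
          _ = b * c ^ i * (t * b ^ i) := by rw [ih]; simp only [mul_assoc]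
          _ = c ^ i * (b * t) * b ^ i := by rw [h5]; simp only [mul_assoc]
          _ = c ^ i * (c * t * b) * b ^ i := by rw [hbt]
          _ = (c ^ i * c) * t * (b * b ^ i) := by simp only [mul_assoc]
          _ = _ := by rw [← pow_succ, ← pow_succ']
    have h6 := key (orderOf b)
    rw [pow_orderOf_eq_one, one_mul, mul_one] at h6
    have h7 : c ^ orderOf b = 1 := (mul_eq_right.1 h6.symm)
    obtain ⟨l, hl⟩ := REl.of_mem R.isPGroup' hcR
    have h8 : c = 1 := by
      rw [← orderOf_eq_one_iff]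
      refine Nat.eq_one_of_dvd_coprimes (Nat.Coprime.pow_right l hb)
        (orderOf_dvd_of_pow_eq_one h7) (by rw [hl])
    rw [hbt, h8, one_mul]
  have e : g = (k⁻¹ * a) * b := by rw [mul_assoc, hab]; group
  rw [e]
  exact mul_mem (mem_sup_left (mul_mem (inv_mem (mem_inf.1 hk).1) haN))
    (mem_sup_right (mem_cz.2 (hcomm v hv)))

theorem relIndex_le [hN : N.Normal] (h : TwoG N m) {y v : G} (hyN : y ∈ N) (hyZ : y ∉ center G)
    (hvN : v ∈ N) (hvZ : v ∉ center G) (hle : cz y ≤ N ⊔ cz v) :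
    (cz y).relIndex N ≤ (cz v).relIndex N := by
  have h1 := relIndex_mul_comm (cz y) N
  have h2 := relIndex_mul_comm (cz v) N
  rw [h.index_eq hyN hyZ] at h1
  rw [h.index_eq hvN hvZ] at h2
  have h3 : N.relIndex (cz y) ≤ N.relIndex (cz v) := by
    rw [← relIndex_sup_left (cz v) N]
    exact relIndex_le_of_le_right hle (relIndex_ne_zero _ _)
  have h4 : (cz y).relIndex N * N.index ≤ (cz v).relIndex N * N.index := by
    rw [h1, h2]
    exact Nat.mul_le_mul_right m h3
  exact Nat.le_of_mul_le_mul_right h4 (Nat.pos_of_ne_zero index_ne_zero_of_finite)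

theorem relIndex_dvd_of_isPGroup {T : Subgroup G} (hT : IsPGroup r T) {x : G}
    (hsq : ¬ r * r ∣ (center G).relIndex (cz x)) (hTx : T ≤ cz x) :
    (center G).relIndex T ∣ r := by
  obtain ⟨k, hk⟩ := relIndex_center_pow hT
  exact dvd_prime_of_pow hk fun h1 => hsq (h1.trans (relIndex_center_dvd hTx))

/-- The central elements modulo the center are good. -/
theorem good_of_central [hN : N.Normal] (h : TwoG N m)
    (hS : ∀ R : Sylow r G, (R : Subgroup G) ≤ N)
    (hsq : ∀ v ∈ N, v ∉ center G → ¬ r * r ∣ (center G).relIndex (cz v)) {R : Sylow r G}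
    {x y : G} (hxR : x ∈ (R : Subgroup G)) (hxZ : x ∉ center G) (hxg : Good N r x)
    (hyR : y ∈ (R : Subgroup G)) (hyZ : y ∉ center G) (hyr : y ^ r ∈ center G)
    (hyc : ∀ g ∈ (R : Subgroup G), ⁅g, y⁆ ∈ center G) : Good N r y := by
  have hxN := hS R hxR
  have hyN := hS R hyR
  by_contra hyb
  have h1 : (center G).relIndex (N ⊓ cz y) ∣ r := by
    have h2 : IsPGroup r ((N ⊓ cz y).map (QuotientGroup.mk' (center G))) := by
      rintro ⟨_, u, hu, rfl⟩
      obtain ⟨hu1, hu2⟩ := hu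
      obtain ⟨a, b, hab, -, ⟨k, hk⟩, hb, haz, hbz⟩ :=
        Cfsg.Agent.H524.ClassSize.exists_decomp r u
      have hbZ : b ∈ center G := by
        by_contra hbZ
        have hb2 : b ∈ cz y := (zpowers_le.2 hu2) hbz
        exact hyb ⟨b, (zpowers_le.2 hu1) hbz, hbZ, hb, (mem_cz.1 hb2).symm⟩
      refine ⟨k, Subtype.ext ?_⟩
      change (QuotientGroup.mk' (center G) u) ^ r ^ k = 1
      rw [← map_pow]
      have hc : Commute a b := mem_center_iff.1 hbZ a
      rw [← hab, hc.mul_pow, ← hk, pow_orderOf_eq_one, one_mul]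
      exact (QuotientGroup.eq_one_iff _).2 (pow_mem hbZ _)
    obtain ⟨k, hk⟩ := IsPGroup.iff_card.1 h2
    rw [card_map_mk] at hk
    exact dvd_prime_of_pow hk fun h3 =>
      hsq y hyN hyZ (h3.trans (relIndex_center_dvd inf_le_right))
  have h2 : r < (center G).relIndex (N ⊓ cz x) := by
    obtain ⟨k, hk⟩ := REl.of_mem R.isPGroup' hxR
    have h3 : r ∣ (center G).relIndex (N ⊓ cz x) :=
      dvd_relIndex_center hr.out (mem_inf.2 ⟨hxN, self_mem_cz x⟩) hxZ hk
    obtain ⟨w, hw, hwZ, hwr, hc⟩ := hxg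
    obtain ⟨q, w', hq, ⟨l, hl⟩, hw'w, hw'Z⟩ := exists_primary _ _ rfl hwZ
    have hw'N : w' ∈ N := (zpowers_le.2 hw) hw'w
    have hw'x : w' ∈ cz x := (zpowers_le.2 (mem_cz.2 hc.symm.eq)) hw'w
    have h4 : q ∣ (center G).relIndex (N ⊓ cz x) :=
      dvd_relIndex_center hq (mem_inf.2 ⟨hw'N, hw'x⟩) hw'Z hl
    have hqr : q ≠ r := by
      rintro rfl
      have h5 : orderOf w' ∣ orderOf w := orderOf_dvd_of_mem_zpowers hw'w
      have hl0 : l ≠ 0 := by
        rintro rfl
        rw [pow_zero, orderOf_eq_one_iff] at hl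
        exact hw'Z (hl ▸ one_mem _)
      rw [hl] at h5
      exact (Nat.Prime.coprime_iff_not_dvd hq).1 hwr.symm ((dvd_pow_self q hl0).trans h5)
    have h5 : r * q ∣ (center G).relIndex (N ⊓ cz x) :=
      Nat.Coprime.mul_dvd_of_dvd_of_dvd ((Nat.coprime_primes hr.out hq).2 hqr.symm) h3 h4
    have h6 := Nat.le_of_dvd (Nat.pos_of_ne_zero (relIndex_ne_zero _ _)) h5
    have h7 := hq.one_lt
    have h8 := hr.out.pos
    nlinarith
  have hTsq : (center G).relIndex ((R : Subgroup G) ⊓ cz y) ∣ r :=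
    relIndex_dvd_of_isPGroup (R.isPGroup'.to_le inf_le_left) (hsq y hyN hyZ) inf_le_right
  have h3 := relIndex_le h hyN hyZ hxN hxZ (cz_le_sup hS hTsq hyR hyZ hyr hyc hxR)
  have h4 := center_relIndex_mul (R := N) (center_le_cz x)
  have h5 := center_relIndex_mul (R := N) (center_le_cz y)
  have h6 := Nat.le_of_dvd hr.out.pos h1
  have h7 : 0 < (cz x).relIndex N := Nat.pos_of_ne_zero (relIndex_ne_zero _ _)
  rw [← h5] at h4
  have h8 : (center G).relIndex (N ⊓ cz y) * (cz y).relIndex N ≤ r * (cz x).relIndex N :=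
    Nat.mul_le_mul h6 h3
  have h9 : r * (cz x).relIndex N < (center G).relIndex (N ⊓ cz x) * (cz x).relIndex N :=
    Nat.mul_lt_mul_of_pos_right h2 h7
  omega

/-- Groups whose order divides `r ^ 2` are abelian. -/
theorem comm_of_card_dvd {A : Type*} [Group A] (hA : Nat.card A ∣ r * r) (a b : A) :
    a * b = b * a := by
  rw [← pow_two] at hA
  obtain ⟨i, hi, hc⟩ := (Nat.dvd_prime_pow hr.out).1 hA
  interval_cases i
  · rw [pow_zero] at hc
    have := (Nat.card_eq_one_iff_unique.1 hc).1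
    exact Subsingleton.elim _ _
  · rw [pow_one] at hc
    have : IsCyclic A := isCyclic_of_prime_card hc
    obtain ⟨g, hg⟩ := this.exists_generator
    obtain ⟨i, rfl⟩ := hg a
    obtain ⟨j, rfl⟩ := hg b
    exact ((Commute.refl g).zpow_zpow i j).eq
  · exact (IsPGroup.isMulCommutative_of_card_eq_prime_sq hc).is_comm.comm a b

/-- The remaining case. -/
theorem false_of_not_sq [hN : N.Normal] (h : TwoG N m) (hrm : r ∣ m)
    (hS : ∀ R : Sylow r G, (R : Subgroup G) ≤ N)
    (hsq : ∀ v ∈ N, v ∉ center G → ¬ r * r ∣ (center G).relIndex (cz v)) {x : G} (hxN : x ∈ N)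
    (hxZ : x ∉ center G) (hxr : REl r x) (hxg : Good N r x) : False := by
  obtain ⟨R, hR⟩ := hxr.zpowers.exists_le_sylow
  have hxR : x ∈ (R : Subgroup G) := hR (mem_zpowers x)
  have hT : ∀ v ∈ (R : Subgroup G), v ∉ center G →
      (center G).relIndex ((R : Subgroup G) ⊓ cz v) ∣ r := fun v hv hvZ =>
    relIndex_dvd_of_isPGroup (R.isPGroup'.to_le inf_le_left) (hsq v (hS R hv) hvZ) inf_le_right
  obtain ⟨y, hyR, hyZ, hyr, hyc⟩ := exists_central_mod R (fun h1 => hxZ (h1 hxR))
  have hyg := good_of_central h hS hsq hxR hxZ hxg hyR hyZ hyr hyc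
  have hcard : (center G).relIndex (R : Subgroup G) ∣ r * r := by
    rw [← center_relIndex_mul (R := (R : Subgroup G)) (center_le_cz y)]
    exact mul_dvd_mul (hT y hyR hyZ) (relIndex_cz_dvd h hrm hS hyR hyZ hyr hyc hyg)
  have hvc : ∀ v ∈ (R : Subgroup G), ∀ g ∈ (R : Subgroup G), ⁅g, v⁆ ∈ center G := by
    intro v hv g hg
    rw [← card_map_mk] at hcard
    have h1 := comm_of_card_dvd hcard
      ⟨_, mem_map_of_mem (QuotientGroup.mk' (center G)) hg⟩
      ⟨_, mem_map_of_mem (QuotientGroup.mk' (center G)) hv⟩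
    have h2 := congrArg Subtype.val h1
    rw [← QuotientGroup.eq_one_iff]
    change QuotientGroup.mk' (center G) ⁅g, v⁆ = 1
    rw [map_commutatorElement, commutatorElement_eq_one_iff_mul_comm]
    exact h2
  have hvr : ∀ v ∈ (R : Subgroup G), v ∉ center G → v ^ r ∈ center G := by
    intro v hv hvZ
    have h1 := hT v hv hvZ
    rw [← card_map_mk] at h1
    have h2 : (⟨_, mem_map_of_mem (QuotientGroup.mk' (center G))
        (mem_inf.2 ⟨hv, self_mem_cz v⟩)⟩ :
        ((R : Subgroup G) ⊓ cz v).map (QuotientGroup.mk' (center G))) ^ r = 1 :=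
      orderOf_dvd_iff_pow_eq_one.1 ((_root_.orderOf_dvd_natCard _).trans h1)
    have h3 : (QuotientGroup.mk' (center G) v) ^ r = 1 := congrArg Subtype.val h2
    rw [← map_pow] at h3
    exact (QuotientGroup.eq_one_iff _).1 h3
  have hvg : ∀ v ∈ (R : Subgroup G), v ∉ center G → Good N r v := fun v hv hvZ =>
    good_of_central h hS hsq hxR hxZ hxg hv hvZ (hvr v hv hvZ) (hvc v hv)
  have hrel : ∀ v ∈ (R : Subgroup G), v ∉ center G →
      (cz v).relIndex N = (cz x).relIndex N := by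
    intro v hv hvZ
    apply le_antisymm
    · exact relIndex_le h (hS R hv) hvZ hxN hxZ
        (cz_le_sup hS (hT v hv hvZ) hv hvZ (hvr v hv hvZ) (hvc v hv) hxR)
    · exact relIndex_le h hxN hxZ (hS R hv) hvZ
        (cz_le_sup hS (hT x hxR hxZ) hxR hxZ (hvr x hxR hxZ) (hvc x hxR) hv)
  have hall : ∀ v ∈ N, v ∉ center G → (cz v).relIndex N = (cz x).relIndex N := by
    intro v hv hvZ
    have h1 : r ∣ (center G).relIndex (cz v) := by
      rw [relIndex_cz_eq h hv hvZ hxN hxZ]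
      obtain ⟨k, hk⟩ := hxr
      exact dvd_relIndex_center hr.out (self_mem_cz x) hxZ hk
    obtain ⟨u, hu, huZ, -, hur⟩ := exists_of_dvd_relIndex_center hr.out h1
    have hur' : REl r u := hur
    obtain ⟨R', hR'⟩ := hur'.zpowers.exists_le_sylow
    have huR' : u ∈ (R' : Subgroup G) := hR' (mem_zpowers u)
    obtain ⟨n, hn, hnR⟩ := exists_smul (hS R) (hS R')
    have h2 : n⁻¹ * u * n ∈ (R : Subgroup G) := by
      rw [← hnR, mem_smul] at huR'
      exact huR'
    have e : u = n * (n⁻¹ * u * n) * n⁻¹ := by group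
    have h3 : n⁻¹ * u * n ∉ center G := by
      intro h4
      apply huZ
      rw [e]
      exact conj_mem_center h4
    have hug : Good N r u := by
      rw [e]
      exact (hvg _ h2 h3).conj n
    have huN := hS R' huR'
    have h4 : cz v = cz u :=
      good_eq h huN huZ hur' hug hv hvZ (mem_cz.2 (mem_cz.1 hu).symm)
    rw [h4, ← hrel _ h2 h3]
    nth_rw 1 [e]
    rw [cz_conj]
    nth_rw 1 [← conj_normal n N]
    rw [relIndex_pointwise_smul]
  have hcen : ∀ v : N, v ∈ center N ↔ (v : G) ∈ center G := by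
    intro v
    constructor
    · intro h1
      refine mem_center_of_le h hrm R v.2 fun g hg => ?_
      have h2 := mem_center_iff.1 h1 ⟨g, hS R hg⟩
      rw [mem_cz]
      exact congrArg Subtype.val h2
    · intro h1
      rw [mem_center_iff]
      intro g
      exact Subtype.ext (mem_center_iff.1 h1 g)
  have hT2 : TwoG (⊤ : Subgroup N) ((cz x).relIndex N) := by
    intro v _
    by_cases hvZ : (v : G) ∈ center G
    · left
      rw [cz_index_eq_one, hcen]
      exact hvZ
    · right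
      rw [← hall v v.2 hvZ, relIndex]
      congr 1
      ext g
      rw [mem_cz, mem_subgroupOf, mem_cz]
      exact Subtype.ext_iff
  obtain ⟨p, hp, hpc⟩ := Cfsg.Agent.S4134.exists_prime hT2 ⟨⟨x, hxN⟩, fun h1 =>
    hxZ ((hcen _).1 h1)⟩
  obtain ⟨k, hk⟩ := hxr
  have hpr : p = r := by
    by_contra hpr
    have h1 := hpc ⟨x, hxN⟩ (by
      rw [Subgroup.orderOf_mk, hk]
      exact Nat.Coprime.pow_left _ ((Nat.coprime_primes hr.out hp).2 (Ne.symm hpr)))
    exact hxZ ((hcen _).1 h1)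
  obtain ⟨w, hw, hwZ, hwr, -⟩ := hxg
  have h1 := hpc ⟨w, hw⟩ (by rw [Subgroup.orderOf_mk, hpr]; exact hwr)
  exact hwZ ((hcen _).1 h1)

end Cfsg.Agent.H683.TwoNormal
end

-- part: S4135
section
set_option autoImplicit false
open Cfsg

namespace Cfsg.Agent.S4135

open Subgroup Cfsg.Agent.H683.TwoSize Cfsg.Agent.H683.TwoNormal

/-- Let G be a finite group, r a prime and R a Sylow r-subgroup of G that is not central, N a normal subgroup of G containing R, and m a natural number such that every element of N has a conjugacy class in G of size 1 or m. Then N is nilpotent. -/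
theorem result {G : Type*} [Group G] [Finite G] (r : ℕ) [Fact r.Prime]
    (R : Sylow r G) (hR : ¬ (R : Subgroup G) ≤ Subgroup.center G) (N : Subgroup G) [N.Normal] (hRN : (R : Subgroup G) ≤ N)
    (m : ℕ) (h : ∀ x ∈ N, (Subgroup.centralizer ({x} : Set G)).index = 1 ∨ (Subgroup.centralizer ({x} : Set G)).index = m) : Group.IsNilpotent N := by
  have hN : N.Normal := inferInstance
  have h' : TwoG N m := h
  have hS : ∀ R' : Sylow r G, (R' : Subgroup G) ≤ N := by
    intro R' t ht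
    obtain ⟨g, hg⟩ := MulAction.exists_smul_eq G R R'
    rw [← hg, mem_smul] at ht
    have h1 := hN.conj_mem _ (hRN ht) g
    have e : g * (g⁻¹ * t * g) * g⁻¹ = t := by group
    rwa [e] at h1
  obtain ⟨z, hzR, hzZ⟩ : ∃ z ∈ (R : Subgroup G), z ∉ center G := by
    by_contra hcon
    push Not at hcon
    exact hR hcon
  have hzr : REl r z := REl.of_mem R.isPGroup' hzR
  by_cases hno : ∀ x ∈ N, x ∉ center G → REl r x → ¬ Good N r x
  · exact isNilpotent_of_central (r := r) fun w hw hwr =>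
      central_of_no_good h' hS hzr hzZ hno hw hwr
  · push Not at hno
    obtain ⟨x, hxN, hxZ, hxr, hxg⟩ := hno
    by_cases hrm : r ∣ m
    · exfalso
      by_cases hsq : r * r ∣ (center G).relIndex (cz x)
      · exact sq_contra h' hrm hS (fun v hv hvZ => by
          rw [relIndex_cz_eq h' hv hvZ hxN hxZ]; exact hsq) hxN hxZ hxr hxg
      · exact false_of_not_sq h' hrm hS (fun v hv hvZ => by
          rw [relIndex_cz_eq h' hv hvZ hxN hxZ]; exact hsq) hxN hxZ hxr hxg
    · have hc := comm_of_not_dvd h' hrm hS hxN hxZ hxr hxg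
      have : IsMulCommutative N := ⟨⟨fun a b => Subtype.ext (hc a a.2 b b.2)⟩⟩
      letI : CommGroup N := { (inferInstance : Group N) with
        mul_comm := fun a b => Subtype.ext (hc a a.2 b b.2) }
      exact CommGroup.isNilpotent

end Cfsg.Agent.S4135
end
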