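import Cfsg.Agent.H528.CSTwo
import Cfsg.Agent.Transfer.TausskyTwoGroup
import Cfsg.Statements.S4146
set_option linter.all false

-- part: H528/CSLemC
section
/-!
# Groups with the class sizes `1, s ^ a, t ^ b, s ^ a t ^ b`, II

`TP.commute_center`: the `s`-elements of class size `t ^ b` centralize the centre of `O_{s'}(G)`.
-/

set_option autoImplicit false
set_option linter.style.haveILetI false

namespace Cfsg.Agent.H528.CS

open Subgroup
open Cfsg.Agent.H528.ClassSize

variable {G : Type*} [Group G]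

/-- A normal subgroup `B` acting as an `s`-group on a normal abelian `s'`-subgroup `W`, not trivially: there is a
normal subgroup `U ≠ 1` of `G` in `W` with `C_U(B) = 1`. -/
theorem exists_normal_fixfree [Finite G] {s : ℕ} [hs : Fact s.Prime] (W B : Subgroup G) [W.Normal] [B.Normal]
    (hW : ∀ x ∈ W, ∀ y ∈ W, x * y = y * x) (hcop : (Nat.card W).Coprime s)
    (hB : ∀ b ∈ B, ∃ k : ℕ, ∀ w ∈ W, Commute (b ^ s ^ k) w)
    {w₀ b₀ : G} (hw₀ : w₀ ∈ W) (hb₀ : b₀ ∈ B) (hne : ¬ Commute b₀ w₀) :
    ∃ U : Subgroup G, U.Normal ∧ U ≤ W ∧ U ≠ ⊥ ∧ ∀ u ∈ U, (∀ b ∈ B, Commute b u) → u = 1 := by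
  classical
  let _ : CommGroup W :=
    { (inferInstance : Group W) with mul_comm := fun x y => Subtype.ext (hW x x.2 y y.2) }
  let ρ : G →* MulAut W := MulAut.conjNormal
  have hρ : ∀ (g : G) (w : W), ((ρ g w : W) : G) = g * w * g⁻¹ := fun g w => MulAut.conjNormal_apply g w
  let Γ : Subgroup (MulAut W) := B.map ρ
  have : Finite (MulAut W) := Finite.of_injective (fun f : MulAut W => (f : W → W)) DFunLike.coe_injective
  have : Fintype Γ := Fintype.ofFinite Γ
  let φ : W →* W :=
    { toFun := fun w => ∏ γ : Γ, (γ : MulAut W) w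
      map_one' := by simp
      map_mul' := by
        intro x y
        simp [Finset.prod_mul_distrib] }
  have hφ : ∀ w : W, φ w = ∏ γ : Γ, (γ : MulAut W) w := fun w => rfl
  have hfix : ∀ (w : W) (δ : Γ), (δ : MulAut W) (φ w) = φ w := by
    intro w δ
    rw [hφ, map_prod]
    exact Fintype.prod_equiv (Equiv.mulLeft δ) _ _ (fun γ => rfl)
  have hconj : ∀ (g : G) (γ : Γ), ρ g * (γ : MulAut W) * (ρ g)⁻¹ ∈ Γ := by
    rintro g ⟨_, b, hb, rfl⟩
    refine ⟨g * b * g⁻¹, (inferInstance : B.Normal).conj_mem b hb g, ?_⟩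
    simp
  have hconj' : ∀ (g : G) (γ : Γ), (ρ g)⁻¹ * (γ : MulAut W) * ρ g ∈ Γ := by
    intro g γ
    have := hconj g⁻¹ γ
    rwa [map_inv, inv_inv] at this
  have heq : ∀ (g : G) (w : W), φ (ρ g w) = ρ g (φ w) := by
    intro g w
    rw [hφ, hφ, map_prod]
    let e : Γ ≃ Γ :=
      { toFun := fun γ => ⟨(ρ g)⁻¹ * γ * ρ g, hconj' g γ⟩
        invFun := fun γ => ⟨ρ g * γ * (ρ g)⁻¹, hconj g γ⟩
        left_inv := fun γ => Subtype.ext (by simp [mul_assoc])
        right_inv := fun γ => Subtype.ext (by simp [mul_assoc]) }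
    refine Fintype.prod_equiv e _ _ (fun γ => ?_)
    show (γ : MulAut W) (ρ g w) = ρ g (((ρ g)⁻¹ * γ * ρ g) w)
    simp [MulAut.mul_apply]
  -- `Γ` is an `s`-group
  have hΓ : IsPGroup s Γ := by
    rintro ⟨_, b, hb, rfl⟩
    obtain ⟨k, hk⟩ := hB b hb
    refine ⟨k, Subtype.ext ?_⟩
    show (ρ b) ^ s ^ k = 1
    rw [← map_pow]
    ext w
    rw [hρ, MulAut.one_apply]
    have := (hk w w.2).eq
    rw [this]
    group
  obtain ⟨j, hj⟩ := hΓ.exists_card_eq
  have hpow : ∀ w : W, (∀ b ∈ B, Commute b (w : G)) → φ w = w ^ s ^ j := by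
    intro w hw
    rw [hφ, ← hj, Nat.card_eq_fintype_card]
    rw [Finset.prod_congr rfl (g := fun _ => w)]
    · simp
    · rintro ⟨_, b, hb, rfl⟩ -
      apply Subtype.ext
      show ((ρ b w : W) : G) = w
      rw [hρ, (hw b hb).eq]
      group
  refine ⟨φ.ker.map W.subtype, ⟨?_⟩, Subgroup.map_subtype_le _, ?_, ?_⟩
  · rintro _ ⟨w, hw, rfl⟩ g
    refine ⟨ρ g w, ?_, hρ g w⟩
    have hw' : φ w = 1 := hw
    show φ (ρ g w) = 1
    rw [heq, hw', map_one]
  · intro hbot
    have hker : φ.ker = ⊥ := by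
      rw [Subgroup.map_eq_bot_iff_of_injective _ W.subtype_injective] at hbot
      exact hbot
    have hinj : Function.Injective φ := (MonoidHom.ker_eq_bot_iff φ).mp hker
    obtain ⟨w, hw⟩ := Finite.surjective_of_injective hinj ⟨w₀, hw₀⟩
    apply hne
    have h1 := hfix w ⟨ρ b₀, b₀, hb₀, rfl⟩
    rw [hw] at h1
    have h2 : b₀ * w₀ * b₀⁻¹ = w₀ := by
      have := congrArg (fun z : W => (z : G)) h1
      simpa [hρ] using this
    exact mul_inv_eq_iff_eq_mul.mp h2
  · rintro _ ⟨w, hw, rfl⟩ hb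
    have hw' : φ w = 1 := hw
    rw [hpow w hb] at hw'
    have h1 : orderOf w ∣ s ^ j := orderOf_dvd_of_pow_eq_one hw'
    have h2 : orderOf w ∣ Nat.card W := orderOf_dvd_natCard w
    have h3 := Nat.eq_one_of_dvd_coprimes (Nat.Coprime.pow_right j hcop) h2 h1
    rw [orderOf_eq_one_iff] at h3
    rw [h3]
    rfl

namespace TP

variable [Finite G] {s t a b : ℕ} (h : TP G s t a b)

include h

/-- `s`-elements of class size `t ^ b` lie in `O_{s',s}(G)`. -/
theorem mem_pPrimePCore {y : G} (hy : PE s y) (hym : ci y = t ^ b) :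
    y ∈ (Cfsg.pCore s (G ⧸ Cfsg.pPrimeCore s G)).comap (QuotientGroup.mk' (Cfsg.pPrimeCore s G)) := by
  have := h.solvable
  have := Fact.mk h.hs
  set M := Cfsg.pPrimeCore s G with hM
  have h1 := Cfsg.Agent.Lib.HallHigman.pPrimeCore_quotient_eq_bot s M hM
  have h2 := Cfsg.Agent.Lib.HallHigman.centralizer_pCore_le_of_solvable (G := G ⧸ M) s h1
  rw [Subgroup.mem_comap]
  apply h2
  have h3 : Cfsg.pCore s (G ⧸ M) ≤ cent (QuotientGroup.mk' M y) := by
    apply le_cent_of_coprime
    obtain ⟨k, hk⟩ := (Cfsg.Agent.Lib.HallHigman.pCore_isPGroup (G := G ⧸ M) s).exists_card_eq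
    rw [hk]
    have h4 : ci (QuotientGroup.mk' M y) ∣ t ^ b := by
      rw [← hym]
      exact ci_map_dvd _ (QuotientGroup.mk'_surjective M) y
    apply Nat.Coprime.coprime_dvd_left h4
    exact Nat.Coprime.pow _ _ ((Nat.coprime_primes h.ht h.hs).mpr h.hst.symm)
  rw [Subgroup.mem_centralizer_iff]
  intro g hg
  exact mem_cent'.mp (h3 hg)

/-- `s`-elements of class size `t ^ b` centralize the centre of `O_{s'}(G)`. -/
theorem commute_center {y : G} (hy : PE s y) (hym : ci y = t ^ b) {w : G} (hw : w ∈ Cfsg.pPrimeCore s G)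
    (hwc : ∀ g ∈ Cfsg.pPrimeCore s G, Commute w g) : Commute y w := by
  by_contra hne
  have hsf := Fact.mk h.hs
  have htf := Fact.mk h.ht
  set M := Cfsg.pPrimeCore s G with hM
  set W := M ⊓ centralizer (M : Set G) with hWdef
  set L := (Cfsg.pCore s (G ⧸ M)).comap (QuotientGroup.mk' M) with hL
  have hCn : (centralizer (M : Set G)).Normal := Subgroup.normal_centralizer
  have hWn : W.Normal := inferInstance
  have hMcop := Cfsg.Agent.Lib.HallHigman.pPrimeCore_coprime (G := G) s
  have hWM : ∀ x ∈ W, ∀ g ∈ M, Commute x g := by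
    intro x hx g hg
    exact ((Subgroup.mem_centralizer_iff.mp hx.2) g hg).symm
  set B := Subgroup.normalClosure ({y} : Set G) with hB
  have hyB : y ∈ B := Subgroup.subset_normalClosure rfl
  have hBL : B ≤ L := by
    apply Subgroup.normalClosure_le_normal
    rw [Set.singleton_subset_iff]
    exact h.mem_pPrimePCore hy hym
  have hBact : ∀ b ∈ B, ∃ k : ℕ, ∀ w ∈ W, Commute (b ^ s ^ k) w := by
    intro b hb
    have h1 := hBL hb
    rw [hL, Subgroup.mem_comap] at h1
    obtain ⟨k, hk⟩ := pe_of_mem (Cfsg.Agent.Lib.HallHigman.pCore_isPGroup (G := G ⧸ M) s) h1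
    refine ⟨k, fun w hw => ?_⟩
    have h2 : b ^ s ^ k ∈ M := by
      rw [← map_pow] at hk
      exact (QuotientGroup.eq_one_iff _).mp hk
    exact (hWM w hw _ h2).symm
  have hwW : w ∈ W := by
    refine Subgroup.mem_inf.mpr ⟨hw, ?_⟩
    rw [Subgroup.mem_centralizer_iff]
    intro g hg
    exact (hwc g hg).symm
  obtain ⟨U, hUn, hUW, hU1, hUf⟩ := exists_normal_fixfree W B
    (fun x hx z hz => (hWM x hx z hz.1).eq)
    (Nat.Coprime.coprime_dvd_left (Subgroup.card_dvd_of_le inf_le_left) hMcop) hBact hwW hyB hne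
  -- `U` is a `t`-group
  have hUt : IsPGroup t U := by
    have h1 : ∀ {d : ℕ}, d.Prime → d ∣ Nat.card U → d = t := by
      intro d hd hdU
      have := Fact.mk hd
      obtain ⟨u, hu⟩ := exists_prime_orderOf_dvd_card' d hdU
      by_contra hdt
      have hds : d ≠ s := by
        rintro rfl
        have h2 : d ∣ Nat.card M := hdU.trans (Subgroup.card_dvd_of_le (hUW.trans inf_le_left))
        exact hd.one_lt.ne' (Nat.eq_one_of_dvd_coprimes hMcop h2 dvd_rfl)
      have huo : orderOf (u : G) = d ^ 1 := by rw [pow_one, Subgroup.orderOf_coe, hu]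
      have h3 := h.mem_center hd hds hdt (pe_of_orderOf huo)
      have h4 := hUf u u.2 (fun b _ => (mem_center_iff.mp h3 b))
      rw [h4, orderOf_one, pow_one] at huo
      exact hd.one_lt.ne huo
    exact IsPGroup.of_card (Nat.eq_prime_pow_of_unique_prime_dvd Nat.card_pos.ne' h1)
  -- a `t`-element of class size `s ^ a` commuting with `y`
  obtain ⟨x, hx, hxn, hxy⟩ := h.symm.exists_commute hy hym
  obtain ⟨T, hT⟩ := exists_sylow_le_cent t x (by rw [hxn]; exact h.not_dvd_s)
  have hUT : U ≤ (T : Subgroup G) := le_sylow U hUt T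
  -- an element of `U` in the centre of `T`
  obtain ⟨u, huU, hu1, huT⟩ : ∃ u ∈ U, u ≠ 1 ∧ (T : Subgroup G) ≤ cent u := by
    have h1 : U.subgroupOf (T : Subgroup G) ≠ ⊥ := by
      intro h2
      rw [Subgroup.subgroupOf_eq_bot, disjoint_iff, inf_eq_left.mpr hUT] at h2
      exact hU1 h2
    obtain ⟨z, hz, hzc, hz1⟩ := Cfsg.Agent.Transfer.TausskyTwoGroup.exists_ne_one_mem_inf_center
      T.isPGroup' (U.subgroupOf (T : Subgroup G)) h1
    refine ⟨z, hz, fun h2 => hz1 (Subtype.ext h2), ?_⟩
    intro g hg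
    exact mem_cent'.mpr (congrArg Subtype.val (mem_center_iff.mp hzc ⟨g, hg⟩))
  -- `B` centralizes the conjugates of `x`
  have hBx : ∀ g : G, B ≤ cent (g * x * g⁻¹) := by
    intro g
    rw [hB, Subgroup.normalClosure, Subgroup.closure_le]
    intro c hc
    rw [Group.mem_conjugatesOfSet_iff] at hc
    obtain ⟨y', hy', hc⟩ := hc
    rw [Set.mem_singleton_iff] at hy'
    subst hy'
    obtain ⟨k, rfl⟩ := isConj_iff.mp hc
    rw [SetLike.mem_coe, mem_cent']
    apply commute_conj hxy
    rw [hym, hxn]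
    exact h.csh.cop.symm
  -- the centralizer of `x u`
  have hcx : cent (x * u) ≤ cent x ⊓ cent u := by
    intro g hg
    have h1 : g * (x * u) = (x * u) * g := (mem_cent'.mp hg).eq
    set q := u * (g * u * g⁻¹)⁻¹ with hq
    have hqU : q ∈ U := mul_mem huU (inv_mem (hUn.conj_mem u huU g))
    have h2 : x⁻¹ * (g * x * g⁻¹) = q := by
      rw [hq]
      have h3 : (g * x * g⁻¹) * (g * u * g⁻¹) = x * u := by
        calc (g * x * g⁻¹) * (g * u * g⁻¹) = g * (x * u) * g⁻¹ := by group
          _ = x * u := by rw [h1]; group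
      calc x⁻¹ * (g * x * g⁻¹) = x⁻¹ * ((g * x * g⁻¹) * (g * u * g⁻¹)) * (g * u * g⁻¹)⁻¹ := by group
        _ = u * (g * u * g⁻¹)⁻¹ := by rw [h3]; group
    have h4 : q = 1 := by
      apply hUf q hqU
      intro c hc
      rw [← h2]
      have h5 : Commute c (g * x * g⁻¹) := mem_cent'.mp (hBx g hc)
      have h6 : Commute c x := by
        have := mem_cent'.mp (hBx 1 hc)
        simpa using this
      exact h6.inv_right.mul_right h5
    rw [h4] at h2
    rw [hq, mul_inv_eq_one] at h4
    rw [Subgroup.mem_inf, mem_cent', mem_cent']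
    constructor
    · have h7 : g * x * g⁻¹ = x := by
        have := inv_mul_eq_one.mp h2
        exact this.symm
      exact mul_inv_eq_iff_eq_mul.mp h7
    · exact mul_inv_eq_iff_eq_mul.mp h4.symm
  have hTe : (T : Subgroup G) ≤ cent (x * u) := by
    intro g hg
    exact mem_cent'.mpr ((mem_cent'.mp (hT hg)).mul_right (mem_cent'.mp (huT hg)))
  have hte : ¬ t ∣ ci (x * u) := not_dvd_ci (x * u) T hTe
  have hce : ci (x * u) = s ^ a := by
    have h1 : ci x ∣ ci (x * u) := ci_dvd_of_le (hcx.trans inf_le_left)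
    rw [hxn] at h1
    rcases h.csh.of_dvd (h.csh.cases _) h1 with h2 | h2
    · exact h2
    · exfalso
      apply hte
      rw [h2]
      have hb : b ≠ 0 := by
        rintro rfl
        have := h.csh.hm
        rw [pow_zero] at this
        omega
      exact (dvd_pow_self t hb).mul_left _
  have hle : cent x ≤ cent u := by
    have h1 : cent (x * u) = cent x := by
      apply cent_eq_of_dvd (hcx.trans inf_le_left)
      rw [hce, hxn]
    rw [← h1]
    exact hcx.trans inf_le_right
  apply hu1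
  apply hUf u huU
  intro c hc
  have h1 := hBx 1 hc
  rw [one_mul, inv_one, mul_one] at h1
  exact mem_cent'.mp (hle h1)

end TP

end Cfsg.Agent.H528.CS
end

-- part: H528/CSFinal
section
/-!
# Groups with the class sizes `1, s ^ a, t ^ b, s ^ a t ^ b`, III

The two-prime case `TP` does not occur.
-/

set_option autoImplicit false
set_option linter.style.haveILetI false

namespace Cfsg.Agent.H528.CS

open Subgroup
open Cfsg.Agent.H528.ClassSize

variable {G : Type*} [Group G]

namespace TP

variable [Finite G] {s t a b : ℕ} (h : TP G s t a b)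

include h

theorem a_ne_zero : a ≠ 0 := by
  rintro rfl
  have := h.csh.hn
  rw [pow_zero] at this
  omega

/-- The case that `O_s(G)` is central. -/
theorem caseII (hN : Cfsg.pCore s G ≤ center G) : False := by
  have hsf := Fact.mk h.hs
  have htf := Fact.mk h.ht
  set M := Cfsg.pPrimeCore s G with hM
  have hCn : (centralizer (M : Set G)).Normal := Subgroup.normal_centralizer
  set W := M ⊓ centralizer (M : Set G) with hWdef
  have hWn : W.Normal := inferInstance
  set K := centralizer (W : Set G) with hK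
  have hKn : K.Normal := Subgroup.normal_centralizer
  set L0 := (Cfsg.pCore s (G ⧸ M)).comap (QuotientGroup.mk' M) with hL0
  set L := K ⊓ L0 with hL
  have hLn : L.Normal := inferInstance
  have hMcop := Cfsg.Agent.Lib.HallHigman.pPrimeCore_coprime (G := G) s
  obtain ⟨x, hx, hxn⟩ := h.exT
  obtain ⟨y, hy, hym⟩ := h.exS
  have hxM : M ≤ cent x := h.le_cent_of_ci hxn
  have hWM : ∀ w ∈ W, ∀ g ∈ M, Commute w g := by
    intro w hw g hg
    exact ((Subgroup.mem_centralizer_iff.mp hw.2) g hg).symm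
  have hxW : x ∈ W := by
    refine Subgroup.mem_inf.mpr ⟨?_, ?_⟩
    · apply pCore_le_pPrimeCore h.hs h.ht h.hst
      exact h.symm.fit hx (h.pCore_le_cent_of_ci hxn) (hN.trans (center_le_cent x))
    · rw [Subgroup.mem_centralizer_iff]
      intro g hg
      exact (mem_cent'.mp (hxM hg)).eq
  have hKw : ∀ w ∈ W, K ≤ cent w := by
    intro w hw g hg
    rw [hK, Subgroup.mem_centralizer_iff] at hg
    exact mem_cent'.mpr (hg w hw).symm
  have hML : M ≤ L := by
    intro g hg
    refine Subgroup.mem_inf.mpr ⟨?_, ?_⟩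
    · rw [hK, Subgroup.mem_centralizer_iff]
      intro w hw
      exact (hWM w hw g hg).eq
    · rw [hL0, Subgroup.mem_comap]
      have : QuotientGroup.mk' M g = 1 := (QuotientGroup.eq_one_iff g).mpr hg
      rw [this]
      exact one_mem _
  have hyL : y ∈ L := by
    refine Subgroup.mem_inf.mpr ⟨?_, h.mem_pPrimePCore hy hym⟩
    rw [hK, Subgroup.mem_centralizer_iff]
    intro w hw
    exact (h.commute_center hy hym hw.1 (hWM w hw)).eq.symm
  -- a Sylow `s`-subgroup of `L` centralizes a given element of `M`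
  have hclaim : ∀ w ∈ M, ¬ s ∣ (cent w).relIndex L := by
    intro w hw
    by_cases hwC : w ∈ centralizer (M : Set G)
    · have h1 : L ≤ cent w := inf_le_left.trans (hKw w (Subgroup.mem_inf.mpr ⟨hw, hwC⟩))
      rw [Subgroup.relIndex_eq_one.mpr h1]
      exact fun hd => h.hs.one_lt.ne' (Nat.dvd_one.mp hd)
    · obtain ⟨c, d, hcd, -, ⟨k, hk⟩, hdt, hcz, hdz⟩ := Cfsg.Agent.H524.ClassSize.exists_decomp t w
      have hcM : c ∈ M := (Subgroup.zpowers_le.mpr hw) hcz
      have hdM : d ∈ M := (Subgroup.zpowers_le.mpr hw) hdz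
      have hdc : d ∈ center G := by
        apply h.mem_center_of_coprime _ hdt
        apply Nat.Coprime.coprime_dvd_left _ hMcop
        have := orderOf_dvd_natCard (⟨d, hdM⟩ : M)
        rwa [Subgroup.orderOf_mk] at this
      have hcC : c ∉ centralizer (M : Set G) := by
        intro hc
        apply hwC
        rw [← hcd]
        exact mul_mem hc (Subgroup.center_le_centralizer _ hdc)
      have hcw : cent c ≤ cent w := by
        intro g hg
        rw [mem_cent', ← hcd]
        exact (mem_cent'.mp hg).mul_right (mem_center_iff.mp hdc g)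
      have hcc : c ∉ center G := fun hc => hcC (Subgroup.center_le_centralizer _ hc)
      have hcP : PE t c := pe_of_orderOf hk
      have hci : ci c = s ^ a * t ^ b := by
        rcases h.ciT hcP hcc with h1 | h1
        · exfalso
          apply hcC
          rw [Subgroup.mem_centralizer_iff]
          intro g hg
          exact (mem_cent'.mp (h.le_cent_of_ci h1 hg)).eq
        · exact h1
      have h1 : ¬ s ∣ K.relIndex (cent c) := by
        apply not_dvd_relIndex_of h.hs
        intro v hv hvP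
        have h2 : cent c ≤ cent v := h.cent_le (h.cop_st hvP hcP).symm hci (mem_cent'.mp hv).symm
        rw [hK, Subgroup.mem_centralizer_iff]
        intro u hu
        have h3 : u ∈ cent c := mem_cent'.mpr (hWM u hu c hcM)
        exact (mem_cent'.mp (h2 h3)).eq
      have h2 : s ^ a ∣ K.index := by
        rw [← hxn]
        exact Subgroup.index_dvd_of_le (hKw x hxW)
      have h3 := not_dvd_relIndex_cent h.hs h1 h2 hci h.not_dvd_t
      intro hd
      apply h3
      exact (hd.trans (Subgroup.relIndex_dvd_of_le_left L hcw)).trans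
        (relIndex_dvd_relIndex (cent c) (inf_le_left : L ≤ K))
  obtain ⟨S⟩ : Nonempty (Sylow s L) := inferInstance
  -- `L = M S`
  have hfac : ∀ l : L, ∃ m ∈ M.subgroupOf L, ∃ q ∈ (S : Subgroup L), l = m * q := by
    have hp : IsPGroup s (L ⧸ M.subgroupOf L) := by
      intro g
      obtain ⟨l, rfl⟩ := QuotientGroup.mk'_surjective _ g
      have h1 : QuotientGroup.mk' M (l : G) ∈ Cfsg.pCore s (G ⧸ M) := l.2.2
      obtain ⟨k, hk⟩ := pe_of_mem (Cfsg.Agent.Lib.HallHigman.pCore_isPGroup (G := G ⧸ M) s) h1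
      refine ⟨k, ?_⟩
      rw [← map_pow] at hk ⊢
      have h2 : (l : G) ^ s ^ k ∈ M := (QuotientGroup.eq_one_iff _).mp hk
      exact (QuotientGroup.eq_one_iff _).mpr (Subgroup.mem_subgroupOf.mpr (by simpa using h2))
    obtain ⟨j, hj⟩ := hp.exists_card_eq
    have hcop : (M.subgroupOf L).index.Coprime (S : Subgroup L).index := by
      rw [Subgroup.index_eq_card, hj]
      exact Nat.Coprime.pow_left _ ((Nat.Prime.coprime_iff_not_dvd h.hs).mpr S.not_dvd_index)
    exact (Cfsg.Agent.S0007.result _ _ hcop).2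
  -- `S` centralizes `M`
  have hSM : ∀ q ∈ (S : Subgroup L), M ≤ cent (q : G) := by
    set H0 : Subgroup M := (centralizer (((S : Subgroup L).map L.subtype : Subgroup G) : Set G)).subgroupOf M
      with hH0
    have htop : H0 = ⊤ := by
      by_contra hne
      obtain ⟨w, hw⟩ := Cfsg.Agent.H395.Jordan.exists_not_conj_mem hne
      obtain ⟨R, hR⟩ := exists_sylow_le s ((cent (w : G)).subgroupOf L) (hclaim w w.2)
      obtain ⟨l, hl⟩ := MulAction.exists_smul_eq L S R
      obtain ⟨m, hm, q, hq, hlmq⟩ := hfac l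
      apply hw ⟨(m : G), hm⟩
      rw [hH0, Subgroup.mem_subgroupOf, Subgroup.mem_centralizer_iff]
      rintro _ ⟨g, hg, rfl⟩
      have h1 : l * (q⁻¹ * g * q) * l⁻¹ ∈ (R : Subgroup L) := by
        rw [← hl, Sylow.smul_def]
        exact ⟨q⁻¹ * g * q, mul_mem (mul_mem (inv_mem hq) hg) hq, rfl⟩
      have h2 : l * (q⁻¹ * g * q) * l⁻¹ = m * g * m⁻¹ := by rw [hlmq]; group
      rw [h2] at h1
      have h3 := hR h1
      rw [Subgroup.mem_subgroupOf] at h3
      have h4 : Commute ((m : G) * g * (m : G)⁻¹) (w : G) := mem_cent'.mp h3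
      have h5 : (w : G) = (m : G) * ((m : G)⁻¹ * w * m) * (m : G)⁻¹ := by group
      rw [h5] at h4
      have h6 := mem_cent'.mp (cent_conj_mem.mp (mem_cent'.mpr h4))
      exact h6.eq
    intro q hq g hg
    have h1 : (⟨g, hg⟩ : M) ∈ H0 := by rw [htop]; exact mem_top _
    rw [hH0, Subgroup.mem_subgroupOf, Subgroup.mem_centralizer_iff] at h1
    exact mem_cent'.mpr (h1 (q : G) ⟨q, hq, rfl⟩).symm
  -- hence `y` centralizes `M`
  have hyM : M ≤ cent y := by
    obtain ⟨l, hl⟩ := exists_conj_le h.hs S.not_dvd_index (hy.mk hyL).isPGroup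
    have h1 := hSM _ (hl _ (mem_zpowers _))
    intro g hg
    have h2 : (l : G) * g * (l : G)⁻¹ ∈ M := (inferInstance : M.Normal).conj_mem g hg l
    exact cent_conj_mem.mp (h1 h2)
  have hyN := h.fit hy (hN.trans (center_le_cent y)) ((pCore_le_pPrimeCore h.hs h.ht h.hst).trans hyM)
  exact h.not_mem_center hym (Or.inr (Or.inl rfl)) (hN hyN)

/-- If `O_s(G)` is not central then `O_{s'}(G)` is abelian. -/
theorem abelian_core (hN : ¬ Cfsg.pCore s G ≤ center G) :
    ∀ x ∈ Cfsg.pPrimeCore s G, ∀ y ∈ Cfsg.pPrimeCore s G, Commute x y := by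
  have hsf := Fact.mk h.hs
  have htf := Fact.mk h.ht
  set M := Cfsg.pPrimeCore s G with hM
  have hMcop := Cfsg.Agent.Lib.HallHigman.pPrimeCore_coprime (G := G) s
  obtain ⟨z, hz, hzc⟩ := SetLike.not_le_iff_exists.mp hN
  have hzP : PE s z := pe_of_mem (Cfsg.Agent.Lib.HallHigman.pCore_isPGroup s) hz
  have hMz : M ≤ cent z := by
    intro g hg
    exact mem_cent'.mpr (commute_of_inf_eq_bot (pCore_inf_pPrimeCore h.hs) hz hg).symm
  obtain ⟨T⟩ : Nonempty (Sylow t M) := inferInstance
  have hr : ∀ r : ℕ, r.Prime → r ≠ t → ∀ x : M, PE r x → x ∈ center M := by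
    intro r hr hrt x hx
    by_cases hrs : r = s
    · subst hrs
      have h1 : x = 1 := by
        apply hx.eq_one hr
        exact Nat.Coprime.coprime_dvd_left (orderOf_dvd_natCard x) hMcop
      rw [h1]
      exact one_mem _
    · have h1 := h.mem_center hr hrs hrt hx.coe
      rw [mem_center_iff]
      intro g
      exact Subtype.ext (mem_center_iff.mp h1 g)
  have hTa : ∀ x ∈ (T : Subgroup M), ∀ y ∈ (T : Subgroup M), Commute x y := by
    intro x hx y hy
    have hQ : IsPGroup t ((T : Subgroup M).map M.subtype) := T.isPGroup'.map _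
    have := h.symm.commute_of_cent hzP hzc hQ ((Subgroup.map_subtype_le _).trans hMz)
      (z₁ := x) (z₂ := y) ⟨x, hx, rfl⟩ ⟨y, hy, rfl⟩
    exact Subtype.ext this.eq
  have hD : centralizer ((T : Subgroup M) : Set M) = ⊤ := by
    apply eq_top_of_sylow
    intro r hrp
    by_cases hrt : r = t
    · subst hrt
      intro hd
      apply T.not_dvd_index
      refine hd.trans (Subgroup.index_dvd_of_le ?_)
      intro x hx
      rw [Subgroup.mem_centralizer_iff]
      intro y hy
      exact (hTa y hy x hx).eq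
    · apply not_dvd_index_of_pe hrp
      intro x hx
      exact Subgroup.center_le_centralizer _ (hr r hrp hrt x hx)
  have hZ : center M = ⊤ := by
    apply eq_top_of_sylow
    intro r hrp
    by_cases hrt : r = t
    · subst hrt
      intro hd
      apply T.not_dvd_index
      refine hd.trans (Subgroup.index_dvd_of_le ?_)
      intro x hx
      rw [mem_center_iff]
      intro g
      have h1 : g ∈ centralizer ((T : Subgroup M) : Set M) := by rw [hD]; exact mem_top _
      exact ((Subgroup.mem_centralizer_iff.mp h1) x hx).symm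
    · exact not_dvd_index_of_pe hrp _ (hr r hrp hrt)
  intro x hx y hy
  have h1 : (⟨y, hy⟩ : M) ∈ center M := by rw [hZ]; exact mem_top _
  exact congrArg Subtype.val (mem_center_iff.mp h1 ⟨x, hx⟩)

theorem mem_pCore_of_ci (hN : ¬ Cfsg.pCore s G ≤ center G) {y : G} (hy : PE s y) (hym : ci y = t ^ b) :
    y ∈ Cfsg.pCore s G := by
  apply h.fit hy (h.symm.pCore_le_cent_of_ci hym)
  intro w hw
  have hwM := pCore_le_pPrimeCore h.hs h.ht h.hst hw
  exact mem_cent'.mpr (h.commute_center hy hym hwM (h.abelian_core hN w hwM)).symm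

/-- If `O_s(G)` is not central, it contains the `s`-elements centralizing it. -/
theorem mem_pCore_of_cent (hN : ¬ Cfsg.pCore s G ≤ center G) {z : G} (hz : PE s z)
    (hzc : Cfsg.pCore s G ≤ cent z) : z ∈ Cfsg.pCore s G := by
  have hsf := Fact.mk h.hs
  have htf := Fact.mk h.ht
  by_cases hzZ : z ∈ center G
  · apply h.fit hz hzc
    intro g _
    exact mem_cent'.mpr (mem_center_iff.mp hzZ g)
  rcases h.ciS hz hzZ with h1 | h1
  · exact h.mem_pCore_of_ci hN hz h1
  set K := centralizer (Cfsg.pCore s G : Set G) with hK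
  obtain ⟨y, hy, hym⟩ := h.exS
  have hyN := h.mem_pCore_of_ci hN hy hym
  have h2 : t ^ b ∣ K.index := by
    rw [← hym]
    apply Subgroup.index_dvd_of_le
    intro g hg
    rw [hK, Subgroup.mem_centralizer_iff] at hg
    exact mem_cent'.mpr (hg y hyN).symm
  have h3 : ¬ t ∣ K.relIndex (cent z) := by
    apply not_dvd_relIndex_of h.ht
    intro u hu huP
    have h4 : cent z ≤ cent u := h.cent_le (h.cop_st hz huP) h1 (mem_cent'.mp hu).symm
    rw [hK, Subgroup.mem_centralizer_iff]
    intro g hg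
    exact (mem_cent'.mp (h4 (hzc hg))).eq
  have h4 := not_dvd_relIndex_cent h.ht h3 h2 (by rw [h1, mul_comm]) h.not_dvd_s
  have h5 : Cfsg.pCore t G ≤ K := by
    intro g hg
    rw [hK, Subgroup.mem_centralizer_iff]
    intro u hu
    exact (commute_of_inf_eq_bot (pCore_inf_pPrimeCore h.hs) hu
      (pCore_le_pPrimeCore h.hs h.ht h.hst hg)).eq
  have h6 : Cfsg.pCore t G ≤ cent z := by
    rw [← Subgroup.relIndex_eq_one]
    obtain ⟨k, hk⟩ := (Cfsg.Agent.Lib.HallHigman.pCore_isPGroup (G := G) t).exists_card_eq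
    have h7 : (cent z).relIndex (Cfsg.pCore t G) ∣ t ^ k := by
      rw [← hk]
      exact Subgroup.relIndex_dvd_card _ _
    obtain ⟨j, -, hj⟩ := (Nat.dvd_prime_pow h.ht).mp h7
    rcases Nat.eq_zero_or_pos j with rfl | hj0
    · rw [hj, pow_zero]
    · exfalso
      apply h4
      refine (Dvd.dvd.trans ?_ (relIndex_dvd_relIndex (cent z) h5))
      rw [hj]
      exact dvd_pow_self t hj0.ne'
  exact h.fit hz hzc h6

theorem mem_pCore_of_commute (hN : ¬ Cfsg.pCore s G ≤ center G) {w : G} (hw : w ∈ Cfsg.pCore t G)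
    (hwc : w ∉ center G) {z : G} (hz : PE s z) (hzw : Commute z w) : z ∈ Cfsg.pCore s G := by
  have hsf := Fact.mk h.hs
  have htf := Fact.mk h.ht
  apply h.mem_pCore_of_cent hN hz
  have hwP : PE t w := pe_of_mem (Cfsg.Agent.Lib.HallHigman.pCore_isPGroup t) hw
  have hQ : IsPGroup s (Cfsg.pCore s G ⊔ zpowers z : Subgroup G) :=
    IsPGroup.to_sup_of_normal_left (Cfsg.Agent.Lib.HallHigman.pCore_isPGroup s) hz.isPGroup
  have hQw : Cfsg.pCore s G ⊔ zpowers z ≤ cent w := by
    refine sup_le ?_ (Subgroup.zpowers_le.mpr (mem_cent'.mpr hzw))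
    intro g hg
    exact mem_cent'.mpr (commute_of_inf_eq_bot (pCore_inf_pPrimeCore h.hs) hg
      (pCore_le_pPrimeCore h.hs h.ht h.hst hw))
  intro g hg
  exact mem_cent'.mpr (h.commute_of_cent hwP hwc hQ hQw (Subgroup.mem_sup_left hg)
    (Subgroup.mem_sup_right (mem_zpowers z)))

/-- The counting. -/
theorem lt_of_not_central (hNs : ¬ Cfsg.pCore s G ≤ center G) (hNt : ¬ Cfsg.pCore t G ≤ center G) :
    s ^ a < t ^ b := by
  classical
  have hsf := Fact.mk h.hs
  have htf := Fact.mk h.ht
  obtain ⟨x, hx, hxn⟩ := h.exT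
  have hxN : x ∈ Cfsg.pCore t G := h.symm.mem_pCore_of_ci hNt hx hxn
  have hxc : x ∉ center G := h.not_mem_center hxn (Or.inl rfl)
  have hNx : Cfsg.pCore s G ≤ cent x := by
    intro g hg
    exact mem_cent'.mpr (commute_of_inf_eq_bot (pCore_inf_pPrimeCore h.hs) hg
      (pCore_le_pPrimeCore h.hs h.ht h.hst hxN))
  have hsa : s ^ a ∣ (Cfsg.pCore s G).index := by
    rw [← Subgroup.relIndex_mul_index hNx]
    have : (cent x).index = s ^ a := hxn
    rw [this]
    exact dvd_mul_left _ _
  set π := QuotientGroup.mk' (center G) with hπ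
  have hπs : Function.Surjective π := QuotientGroup.mk'_surjective _
  set E := (cent (π x)).comap π with hE
  have hNE : Cfsg.pCore s G ≤ E := by
    intro g hg
    rw [hE, Subgroup.mem_comap, mem_cent']
    have : Commute g x := mem_cent'.mp (hNx hg)
    exact this.map π
  have hEs : ¬ s ∣ (Cfsg.pCore s G).relIndex E := by
    apply not_dvd_relIndex_of h.hs
    intro g hg hgP
    apply h.mem_pCore_of_commute hNs hxN hxc hgP
    -- `g` commutes with `x`
    set c := x⁻¹ * (g * x * g⁻¹) with hc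
    have hcN : c ∈ Cfsg.pCore t G := mul_mem (inv_mem hxN)
      ((inferInstance : (Cfsg.pCore t G).Normal).conj_mem x hxN g)
    have hcP : PE t c := pe_of_mem (Cfsg.Agent.Lib.HallHigman.pCore_isPGroup t) hcN
    have hcc : c ∈ center G := by
      have h1 : π c = 1 := by
        rw [hE, Subgroup.mem_comap, mem_cent'] at hg
        have h2 : π g * π x = π x * π g := hg.eq
        rw [hc, map_mul, map_mul, map_mul, map_inv, map_inv, h2]
        group
      exact (QuotientGroup.eq_one_iff c).mp h1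
    have hgx : g * x * g⁻¹ = x * c := by rw [hc]; group
    have hpow : ∀ n : ℕ, g ^ n * x * (g ^ n)⁻¹ = x * c ^ n := by
      intro n
      induction n with
      | zero => simp
      | succ n ih =>
        have h3 : g * c ^ n * g⁻¹ = c ^ n := by
          rw [(mem_center_iff.mp (pow_mem hcc n) g), mul_inv_cancel_right]
        calc g ^ (n + 1) * x * (g ^ (n + 1))⁻¹ = g * (g ^ n * x * (g ^ n)⁻¹) * g⁻¹ := by
              rw [pow_succ']; group
          _ = (g * x * g⁻¹) * (g * c ^ n * g⁻¹) := by rw [ih]; group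
          _ = x * c ^ (n + 1) := by rw [hgx, h3, pow_succ']; group
    obtain ⟨k, hk⟩ := hgP
    have h4 := hpow (s ^ k)
    rw [hk] at h4
    have h5 : c ^ s ^ k = 1 := by
      have h6 : x * c ^ s ^ k = x * 1 := by rw [← h4]; group
      exact mul_left_cancel h6
    have h6 : c = 1 := hcP.eq_one' h.ht h.hs h.hst.symm ⟨k, h5⟩
    rw [h6, mul_one] at hgx
    exact mul_inv_eq_iff_eq_mul.mp hgx
  have hEi : s ^ a ∣ E.index := by
    have h1 := Subgroup.relIndex_mul_index hNE
    rw [← h1] at hsa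
    exact (Nat.Coprime.pow_left a ((Nat.Prime.coprime_iff_not_dvd h.hs).mpr hEs)).dvd_of_dvd_mul_left hsa
  have hEc : E.index = ci (π x) := Subgroup.index_comap_of_surjective _ hπs
  -- the class of `π x`
  set N := (Cfsg.pCore t G).map π with hN
  have hNn : N.Normal := (inferInstance : (Cfsg.pCore t G).Normal).map π hπs
  have hlt : ci (π x) < Nat.card N := by
    have h1 : ci (π x) = (ConjClasses.mk (π x)).carrier.ncard := (Cfsg.Agent.H503.ncard_class _).symm
    rw [h1]
    have hNc : Nat.card N = (N : Set (G ⧸ center G)).ncard := Nat.card_coe_set_eq _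
    rw [hNc]
    apply Set.ncard_lt_ncard _ (Set.toFinite _)
    rw [Set.ssubset_iff_of_subset]
    · refine ⟨1, one_mem N, ?_⟩
      intro h2
      rw [ConjClasses.mem_carrier_iff_mk_eq, ConjClasses.mk_eq_mk_iff_isConj] at h2
      have h3 : π x = 1 := isConj_one_right.mp h2
      exact hxc ((QuotientGroup.eq_one_iff x).mp h3)
    · intro g hg
      rw [ConjClasses.mem_carrier_iff_mk_eq, ConjClasses.mk_eq_mk_iff_isConj, isConj_comm] at hg
      obtain ⟨c, rfl⟩ := isConj_iff.mp hg
      exact hNn.conj_mem _ ⟨x, hxN, rfl⟩ c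
  have hcard : Nat.card N = (center G).relIndex (Cfsg.pCore t G) := by
    have := Subgroup.relIndex_ker (K := Cfsg.pCore t G) π
    rw [QuotientGroup.ker_mk'] at this
    exact this.symm
  -- an `s`-element outside `O_s(G)`
  obtain ⟨z, hz, hzN⟩ : ∃ z : G, PE s z ∧ z ∉ Cfsg.pCore s G := by
    by_contra hcon
    push Not at hcon
    exact not_dvd_index_of_pe h.hs (Cfsg.pCore s G) hcon ((dvd_pow_self s h.a_ne_zero).trans hsa)
  have hle : cent z ⊓ Cfsg.pCore t G ≤ center G := by
    intro w hw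
    by_contra hwc
    exact hzN (h.mem_pCore_of_commute hNs hw.2 hwc hz (mem_cent'.mp hw.1).symm)
  have hdvd : Nat.card N ∣ t ^ b := by
    have h1 : Nat.card N ∣ (cent z).relIndex (Cfsg.pCore t G) := by
      rw [hcard, ← Subgroup.inf_relIndex_right (cent z)]
      exact Subgroup.relIndex_dvd_of_le_left _ hle
    have h2 : Nat.card N ∣ s ^ a * t ^ b := by
      refine (h1.trans (relIndex_dvd_index _ _)).trans ?_
      show ci z ∣ _
      rcases h.csh.cases z with h3 | h3 | h3 | h3 <;> rw [h3]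
      · exact one_dvd _
      · exact dvd_mul_right _ _
      · exact dvd_mul_left _ _
    have h3 : (Nat.card N).Coprime (s ^ a) := by
      obtain ⟨k, hk⟩ := (Cfsg.Agent.Lib.HallHigman.pCore_isPGroup (G := G) t).exists_card_eq
      have h4 : Nat.card N ∣ t ^ k := by
        rw [← hk]
        exact h1.trans (Subgroup.relIndex_dvd_card _ _)
      exact Nat.Coprime.coprime_dvd_left h4
        (Nat.Coprime.pow _ _ ((Nat.coprime_primes h.ht h.hs).mpr h.hst.symm))
    exact h3.dvd_of_dvd_mul_left h2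
  have htb : 0 < t ^ b := by have := h.csh.hm; omega
  have h8 : s ^ a ≤ ci (π x) := by
    rw [← hEc]
    exact Nat.le_of_dvd (Nat.pos_of_ne_zero Subgroup.index_ne_zero_of_finite) hEi
  have h9 := Nat.le_of_dvd htb hdvd
  omega

theorem false : False := by
  by_cases hNs : Cfsg.pCore s G ≤ center G
  · exact h.caseII hNs
  by_cases hNt : Cfsg.pCore t G ≤ center G
  · exact h.symm.caseII hNt
  have h1 := h.lt_of_not_central hNs hNt
  have h2 := h.symm.lt_of_not_central hNt hNs
  omega

end TP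

/-- **Groups with the class sizes `1, n, m, n m`, `n` and `m` coprime.** -/
theorem CSH.main [Finite G] {n m : ℕ} (h : CSH G n m) :
    Group.IsNilpotent G ∧ IsPrimePow n ∧ IsPrimePow m := by
  have hfin : ∀ {t s a b : ℕ} {x y : G}, t.Prime → s.Prime → n = t ^ a → m = s ^ b → PE t x → ci x = n →
      PE s y → ci y = m → Group.IsNilpotent G ∧ IsPrimePow n ∧ IsPrimePow m := by
    intro t s a b x y ht hs hn hm hx hxn hy hym
    refine ⟨h.nilp ht hs hn hm hx hxn hy hym, ?_, ?_⟩
    · rw [hn]
      refine ht.isPrimePow.pow ?_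
      rintro rfl
      have := h.hn
      rw [hn, pow_zero] at this
      omega
    · rw [hm]
      refine hs.isPrimePow.pow ?_
      rintro rfl
      have := h.hm
      rw [hm, pow_zero] at this
      omega
  by_cases h1 : ∃ t : ℕ, t.Prime ∧ ¬ t ∣ m ∧ ∃ x : G, PE t x ∧ ci x = n
  · obtain ⟨t, ht, htm, x, hx, hxn⟩ := h1
    obtain ⟨s, b, hs, hm, y, hy, hym⟩ := h.caseA ht htm hx hxn
    have hsn : ¬ s ∣ n := by
      intro hd
      have hb : b ≠ 0 := by
        rintro rfl
        have := h.hm
        rw [hm, pow_zero] at this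
        omega
      exact hs.one_lt.ne' (Nat.eq_one_of_dvd_coprimes h.cop hd (by rw [hm]; exact dvd_pow_self s hb))
    obtain ⟨t', a, ht', hn, x', hx', hxn'⟩ := h.symm.caseA hs hsn hy hym
    exact hfin ht' hs hn hm hx' hxn' hy hym
  by_cases h2 : ∃ s : ℕ, s.Prime ∧ ¬ s ∣ n ∧ ∃ y : G, PE s y ∧ ci y = m
  · obtain ⟨s, hs, hsn, y, hy, hym⟩ := h2
    obtain ⟨t, a, ht, hn, x, hx, hxn⟩ := h.symm.caseA hs hsn hy hym
    have htm : ¬ t ∣ m := by
      intro hd
      have ha : a ≠ 0 := by
        rintro rfl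
        have := h.hn
        rw [hn, pow_zero] at this
        omega
      exact ht.one_lt.ne' (Nat.eq_one_of_dvd_coprimes h.cop (by rw [hn]; exact dvd_pow_self t ha) hd)
    exact absurd ⟨t, ht, htm, x, hx, hxn⟩ h1
  push Not at h1 h2
  obtain ⟨s, t, a, b, -, -, hTP⟩ := h.toTP
    (fun t ht x hx hxn => by
      by_contra hd
      exact h1 t ht hd x hx hxn)
    (fun s hs y hy hym => by
      by_contra hd
      exact h2 s hs hd y hy hym)
  exact hTP.false.elim

end Cfsg.Agent.H528.CS
end

-- part: S4146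
section
set_option autoImplicit false
open Cfsg

namespace Cfsg.Agent.S4146

/-- Let G be a finite group whose conjugacy class sizes are exactly 1, n, m and nm for coprime integers n, m > 1. Then G is nilpotent and n and m are prime powers. -/
theorem result {G : Type*} [Group G] [Finite G] (n m : ℕ) (hn : 1 < n) (hm : 1 < m) (hcop : n.Coprime m)
    (h : Set.range (fun x : G => (Subgroup.centralizer ({x} : Set G)).index) = ({1, n, m, n * m} : Set ℕ)) :
    Group.IsNilpotent G ∧ IsPrimePow n ∧ IsPrimePow m := by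
  have hex : ∀ c ∈ ({1, n, m, n * m} : Set ℕ), ∃ x : G, Cfsg.Agent.H528.ClassSize.ci x = c := by
    intro c hc
    rw [← h] at hc
    exact hc
  refine Cfsg.Agent.H528.CS.CSH.main (G := G) ⟨hn, hm, hcop, ?_, hex n (by simp), hex m (by simp),
    hex (n * m) (by simp)⟩
  intro x
  have hx : (Subgroup.centralizer ({x} : Set G)).index ∈ ({1, n, m, n * m} : Set ℕ) := by
    rw [← h]
    exact ⟨x, rfl⟩
  rcases hx with h1 | h1 | h1 | h1
  · exact Or.inl h1
  · exact Or.inr (Or.inl h1)
  · exact Or.inr (Or.inr (Or.inl h1))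
  · exact Or.inr (Or.inr (Or.inr h1))

end Cfsg.Agent.S4146
end
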