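import Cfsg.Agent.H528.ClassSize
import Cfsg.Agent.S0144
import Cfsg.Agent.ClassicalGeometry.SL2Order
import Cfsg.Agent.S0254
import Cfsg.Agent.PermutationGroups.ZassEnd
import Cfsg.Agent.WeakTI.PslTwo
import Cfsg.Agent.TwoFusion.SLTwoFacts
import Cfsg.Agent.S0252
import Mathlib.FieldTheory.Finite.GaloisField
import Cfsg.Prelude.Def_Classical
import Cfsg.Statements.S4147
import Cfsg.Agent.S3719
import Cfsg.Agent.S0205
import Cfsg.Agent.Lib.MatLit
import Cfsg.Agent.FastGrp
import Cfsg.Agent.Prune
set_option linter.all false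

section
prune_inst 0x7ffefdfdafb8addeffff7e7fffdddffc3bd05fffffdff94bffe8ebff1fbf030e29e56bad8de0d0fe5ef7e29410b87813fbffdeffe86bdc7ffffd5ff45ffbee4ff5f7bd08519688340fbc6fffe3f07f8e7f3fffffffffffffffffffffffffffbeffffffffffff

-- part: H528/ExclTwo
section
prune_inst 0x31220000001800000000200000000000000000000000020402010000a9000000022010000000800000040040000000000000000000000000000000000000020000000000000000000000000000000000000000000000000000000000000000000
set_option linter.all false
open scoped Cfsg.Agent.FastGrp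

-- part: H528/NonAbTwo
section
/-!
# Noncommutative Sylow `2`-subgroups

If the centralizers of all nontrivial `2`-elements are Sylow `2`-subgroups then these are commutative.
-/

set_option autoImplicit false
set_option linter.style.haveILetI false

namespace Cfsg.Agent.H528.ClassSize

open Subgroup

theorem comm_of_pow {T : Type*} [Group T] [Finite T] (hT : IsPGroup 2 T)
    (hpow : ∀ (w : T) (k : ℕ), w ^ k ≠ 1 → ∀ z : T, z * w ^ k = w ^ k * z → z * w = w * z) :
    ∀ a b : T, a * b = b * a := by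
  haveI : Fact (Nat.Prime 2) := ⟨Nat.prime_two⟩
  by_contra hnc
  push Not at hnc
  obtain ⟨a, b, hab⟩ := hnc
  have hne : Nontrivial (T ⧸ Subgroup.center T) := by
    rw [← not_subsingleton_iff_nontrivial]
    intro h
    have h1 : (QuotientGroup.mk a : T ⧸ Subgroup.center T) = 1 := Subsingleton.elim _ _
    rw [QuotientGroup.eq_one_iff, Subgroup.mem_center_iff] at h1
    exact hab (h1 b).symm
  have hQ : IsPGroup 2 (T ⧸ Subgroup.center T) := hT.to_quotient _
  haveI := hQ.center_nontrivial
  have hd : 2 ∣ Nat.card (Subgroup.center (T ⧸ Subgroup.center T)) := by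
    obtain ⟨k, hk⟩ := (hQ.to_subgroup (Subgroup.center (T ⧸ Subgroup.center T))).exists_card_eq
    rw [hk]
    refine dvd_pow_self 2 ?_
    rintro rfl
    rw [pow_zero] at hk
    have := Finite.one_lt_card (α := Subgroup.center (T ⧸ Subgroup.center T))
    omega
  obtain ⟨⟨X, hXc⟩, hXo⟩ := exists_prime_orderOf_dvd_card' 2 hd
  obtain ⟨x, rfl⟩ := QuotientGroup.mk_surjective X
  have hx2 : x ^ 2 ∈ Subgroup.center T := by
    have h1 := pow_orderOf_eq_one (⟨QuotientGroup.mk x, hXc⟩ : Subgroup.center (T ⧸ Subgroup.center T))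
    rw [hXo] at h1
    have h2 := congrArg Subtype.val h1
    rw [← QuotientGroup.eq_one_iff]
    exact h2
  have hx1 : x ∉ Subgroup.center T := by
    intro h
    have h1 : (⟨QuotientGroup.mk x, hXc⟩ : Subgroup.center (T ⧸ Subgroup.center T)) = 1 :=
      Subtype.ext ((QuotientGroup.eq_one_iff x).2 h)
    rw [h1, orderOf_one] at hXo
    omega
  have hcm : ∀ y : T, x * y * x⁻¹ * y⁻¹ ∈ Subgroup.center T := by
    intro y
    rw [Subgroup.mem_center_iff] at hXc
    have h1 := hXc (QuotientGroup.mk y)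
    rw [← QuotientGroup.eq_one_iff, QuotientGroup.mk_mul, QuotientGroup.mk_mul,
      QuotientGroup.mk_mul, QuotientGroup.mk_inv, QuotientGroup.mk_inv, ← h1]
    group
  -- `x ^ 2 = 1`
  have hxx : x ^ 2 = 1 := by
    by_contra h
    apply hx1
    rw [Subgroup.mem_center_iff]
    intro z
    exact hpow x 2 h z (Subgroup.mem_center_iff.1 hx2 z)
  have hx' : x⁻¹ = x := by
    rw [inv_eq_iff_mul_eq_one, ← pow_two, hxx]
  -- elements not commuting with `x` are involutions
  have key : ∀ y : T, x * y ≠ y * x → y ^ 2 = 1 := by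
    intro y hy
    by_contra h
    apply hy
    refine hpow y 2 h x ?_
    set c := x * y * x⁻¹ * y⁻¹ with hc
    have hcc := Subgroup.mem_center_iff.1 (hcm y)
    rw [← hc] at hcc
    have h1 : x * y = c * y * x := by rw [hc]; group
    have h2 : c * c = 1 := by
      have h3 : x * (x * y) = (x * c) * y * x := by rw [h1]; group
      rw [hcc x] at h3
      have h4 : c * x * y * x = c * (x * y) * x := by group
      rw [h4, h1] at h3
      have h5 : x * (x * y) = y := by
        rw [← mul_assoc, ← pow_two, hxx, one_mul]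
      rw [← h1, h5] at h3
      have h6 : c * (c * y * x) * x = c * c * y * (x ^ 2) := by rw [pow_two]; group
      rw [h1, h6, hxx, mul_one] at h3
      have h7 : 1 * y = c * c * y := by rw [one_mul]; exact h3
      exact (mul_right_cancel h7).symm
    calc x * y ^ 2 = (x * y) * y := by rw [pow_two]; group
      _ = c * y * x * y := by rw [h1]
      _ = c * y * (x * y) := by group
      _ = c * (y * c) * y * x := by rw [h1]; group
      _ = c * c * y ^ 2 * x := by rw [hcc y, pow_two]; group
      _ = y ^ 2 * x := by rw [h2, one_mul]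
  obtain ⟨y, hy⟩ : ∃ y : T, x * y ≠ y * x := by
    by_contra h
    push Not at h
    apply hx1
    rw [Subgroup.mem_center_iff]
    intro z
    exact (h z).symm
  have h1 := key y hy
  have h2 := key (x * y) (by
    intro h
    apply hy
    have h3 : x * (x * y) = x * (y * x) := by rw [h]; group
    exact mul_left_cancel h3)
  apply hy
  have h3 : x * y * (x * y) = 1 := by rw [← pow_two]; exact h2
  have h4 : x * y = (x * y)⁻¹ := eq_inv_of_mul_eq_one_left h3
  rw [mul_inv_rev, hx'] at h4
  have h5 : y⁻¹ = y := by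
    rw [inv_eq_iff_mul_eq_one, ← pow_two, h1]
  rwa [h5] at h4

/-- If the centralizers of nontrivial `2`-elements are Sylow `2`-subgroups then `2`-subgroups are commutative. -/
theorem comm_two {G : Type*} [Group G] [Finite G]
    (h1 : ∀ (x : G), x ≠ 1 → (∃ k, x ^ 2 ^ k = 1) →
      IsPGroup 2 (Subgroup.centralizer ({x} : Set G)))
    (h2 : ∀ (x : G), x ≠ 1 → (∃ k, x ^ 2 ^ k = 1) → ¬ 2 ∣ ci x)
    {T : Subgroup G} (hT : IsPGroup 2 T) : ∀ a ∈ T, ∀ b ∈ T, a * b = b * a := by
  haveI : Fact (Nat.Prime 2) := ⟨Nat.prime_two⟩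
  have hpow : ∀ w : G, (∃ k, w ^ 2 ^ k = 1) → ∀ k : ℕ, w ^ k ≠ 1 →
      Subgroup.centralizer ({w ^ k} : Set G) = Subgroup.centralizer ({w} : Set G) := by
    intro w hw k hk
    have hw1 : w ≠ 1 := by
      rintro rfl
      rw [one_pow] at hk
      exact hk rfl
    have hwk : ∃ j, (w ^ k) ^ 2 ^ j = 1 := by
      obtain ⟨j, hj⟩ := hw
      exact ⟨j, by rw [← pow_mul, mul_comm, pow_mul, hj, one_pow]⟩
    have hle : Subgroup.centralizer ({w} : Set G) ≤ Subgroup.centralizer ({w ^ k} : Set G) := by
      intro z hz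
      rw [mem_cent] at hz ⊢
      exact (show Commute z w from hz).pow_right k
    let P : Sylow 2 G := (h1 w hw1 hw).toSylow (h2 w hw1 hw)
    exact P.is_maximal' (h1 _ hk hwk) hle
  have h3 := comm_of_pow hT (by
    rintro ⟨w, hw⟩ k hk ⟨z, hz⟩ hzw
    have hw' : ∃ k, w ^ 2 ^ k = 1 := by
      obtain ⟨j, hj⟩ := hT ⟨w, hw⟩
      exact ⟨j, congrArg Subtype.val hj⟩
    have hk' : w ^ k ≠ 1 := fun h => hk (Subtype.ext h)
    have h4 : z ∈ Subgroup.centralizer ({w ^ k} : Set G) := by
      rw [mem_cent]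
      exact congrArg Subtype.val hzw
    rw [hpow w hw' k hk', mem_cent] at h4
    exact Subtype.ext h4)
  intro a ha b hb
  exact congrArg Subtype.val (h3 ⟨a, ha⟩ ⟨b, hb⟩)

end Cfsg.Agent.H528.ClassSize
end

-- part: H528/Counting
section
/-!
# Counting elements that centralize a Sylow subgroup

The elements of `G` whose class size is prime to `p` are those centralizing a Sylow `p`-subgroup; there are at most
`|G| / |N(P) : C(P)|` of them.
-/

set_option autoImplicit false
set_option linter.style.haveILetI false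

namespace Cfsg.Agent.H528.ClassSize

open Subgroup
open scoped Pointwise

variable {G : Type*} [Group G]

/-- `m |C(P)| ≤ |N(P)|` gives `m |X_p| ≤ |G|`. -/
theorem mul_card_le [Finite G] {p : ℕ} [Fact p.Prime] (P : Sylow p G) {m : ℕ}
    (h2 : m * Nat.card (Subgroup.centralizer ((P : Subgroup G) : Set G)) ≤
      Nat.card (Subgroup.normalizer ((P : Subgroup G) : Set G))) :
    m * Nat.card {g : G // ¬ p ∣ ci g} ≤ Nat.card G := by
  classical
  set N := Subgroup.normalizer ((P : Subgroup G) : Set G) with hN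
  set C := Subgroup.centralizer ((P : Subgroup G) : Set G) with hC
  have hinj : Nat.card {g : G // ¬ p ∣ ci g} ≤ Nat.card (Sylow p G) * Nat.card C := by
    have key : ∀ g : {g : G // ¬ p ∣ ci g},
        ∃ Q : Sylow p G, (Q : Subgroup G) ≤ Subgroup.centralizer ({g.1} : Set G) :=
      fun g => exists_sylow_le_cent p _ g.2
    choose Q hQ using key
    have key2 : ∀ Q : Sylow p G, ∃ x : G, x • P = Q := fun Q => MulAction.exists_smul_eq G P Q
    choose x hx using key2
    let f : {g : G // ¬ p ∣ ci g} → Sylow p G × C :=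
      fun g => ⟨Q g, ⟨(x (Q g))⁻¹ * g.1 * x (Q g), by
        rw [hC, Subgroup.mem_centralizer_iff]
        intro h hh
        have h1 : x (Q g) * h * (x (Q g))⁻¹ ∈ ((Q g : Sylow p G) : Subgroup G) := by
          have h0 : ((Q g : Sylow p G) : Subgroup G) = MulAut.conj (x (Q g)) • (P : Subgroup G) := by
            rw [← Sylow.coe_subgroup_smul]
            exact congrArg _ (hx (Q g)).symm
          rw [h0]
          have h2 := Subgroup.smul_mem_pointwise_smul h (MulAut.conj (x (Q g))) (P : Subgroup G) hh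
          simpa only [_root_.MulAut.smul_def, _root_.MulAut.conj_apply] using h2
        have h3 := hQ g h1
        rw [Subgroup.mem_centralizer_singleton_iff] at h3
        have h4 : x (Q g) * h * (x (Q g))⁻¹ * g.1 = g.1 * (x (Q g) * h * (x (Q g))⁻¹) := h3
        calc h * ((x (Q g))⁻¹ * g.1 * x (Q g)) = (x (Q g))⁻¹ * (x (Q g) * h * (x (Q g))⁻¹ * g.1) * x (Q g) := by group
          _ = (x (Q g))⁻¹ * (g.1 * (x (Q g) * h * (x (Q g))⁻¹)) * x (Q g) := by rw [h4]
          _ = (x (Q g))⁻¹ * g.1 * x (Q g) * h := by group⟩⟩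
    have hf : Function.Injective f := by
      intro a b hab
      have h1 : Q a = Q b := congrArg Prod.fst hab
      have h2 : (x (Q a))⁻¹ * a.1 * x (Q a) = (x (Q b))⁻¹ * b.1 * x (Q b) :=
        congrArg (fun z : Sylow p G × C => (z.2 : G)) hab
      rw [h1] at h2
      apply Subtype.ext
      exact mul_left_cancel (mul_right_cancel h2)
    have := Nat.card_le_card_of_injective f hf
    rwa [Nat.card_prod] at this
  have hidx : Nat.card (Sylow p G) = N.index := Sylow.card_eq_index_normalizer P
  calc m * Nat.card {g : G // ¬ p ∣ ci g}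
      ≤ m * (Nat.card (Sylow p G) * Nat.card C) := Nat.mul_le_mul_left _ hinj
    _ = N.index * (m * Nat.card C) := by rw [hidx]; ring
    _ ≤ N.index * Nat.card N := Nat.mul_le_mul_left _ h2
    _ = Nat.card G := Subgroup.index_mul_card N

/-- In a nonabelian simple group, `C(P) < N(P)`. -/
theorem not_normalizer_le [Finite G] [IsSimpleGroup G] (hns : ¬ Group.IsSolvable G) {p : ℕ}
    [hp : Fact p.Prime] (hd : p ∣ Nat.card G) (P : Sylow p G) :
    ¬ Subgroup.normalizer ((P : Subgroup G) : Set G) ≤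
      Subgroup.centralizer ((P : Subgroup G) : Set G) := by
  intro h
  have h1 := MonoidHom.ker_transferSylow_isComplement' P h
  have h2 : (MonoidHom.transferSylow P h).ker.Normal := inferInstance
  rcases h2.eq_bot_or_eq_top with h3 | h3
  · apply hns
    have h4 : Nat.card (P : Subgroup G) = Nat.card G := by
      have := h1.card_mul_card
      rw [h3, Subgroup.card_bot, one_mul] at this
      exact this
    have h5 : (P : Subgroup G) = ⊤ := Subgroup.card_eq_iff_eq_top _ |>.1 h4
    have h6 : IsPGroup p G := by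
      have h7 := P.isPGroup'
      rw [h5] at h7
      exact h7.of_equiv Subgroup.topEquiv
    have h8 : Group.IsNilpotent G := h6.isNilpotent
    infer_instance
  · have h4 : Nat.card (P : Subgroup G) = 1 := by
      have := h1.card_mul_card
      rw [h3, Subgroup.card_top] at this
      exact Nat.eq_of_mul_eq_mul_left Nat.card_pos (this.trans (mul_one _).symm)
    have h5 := P.card_eq_multiplicity
    rw [h4] at h5
    have h6 : 1 ≤ (Nat.card G).factorization p :=
      (hp.out.dvd_iff_one_le_factorization Nat.card_pos.ne').1 hd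
    have h7 : 1 < p ^ (Nat.card G).factorization p :=
      Nat.one_lt_pow (by omega) hp.out.one_lt
    omega

theorem centralizer_le_norm (P : Subgroup G) : Subgroup.centralizer (P : Set G) ≤
    Subgroup.normalizer (P : Set G) := Subgroup.centralizer_le_normalizer _

/-- `2 |C(P)| ≤ |N(P)|` in a nonabelian simple group. -/
theorem two_mul_le [Finite G] [IsSimpleGroup G] (hns : ¬ Group.IsSolvable G) {p : ℕ}
    [hp : Fact p.Prime] (hd : p ∣ Nat.card G) (P : Sylow p G) :
    2 * Nat.card (Subgroup.centralizer ((P : Subgroup G) : Set G)) ≤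
      Nat.card (Subgroup.normalizer ((P : Subgroup G) : Set G)) := by
  obtain ⟨k, hk⟩ := Subgroup.card_dvd_of_le (centralizer_le_norm (P : Subgroup G))
  have hk0 : k ≠ 0 := by
    rintro rfl
    rw [mul_zero] at hk
    exact Nat.card_pos.ne' hk
  have hk1 : k ≠ 1 := by
    rintro rfl
    rw [mul_one] at hk
    exact not_normalizer_le hns hd P
      (Subgroup.eq_of_le_of_card_ge (centralizer_le_norm (P : Subgroup G)) hk.le).ge
  rw [hk, mul_comm]
  exact Nat.mul_le_mul_left _ (by omega)

/-- `|P| |C(P)| = |P C(P)| |Z(P)|` -/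
theorem card_mul_center [Finite G] (P : Subgroup G) :
    Nat.card P * Nat.card (Subgroup.centralizer (P : Set G)) ∣
      Nat.card (Subgroup.normalizer (P : Set G)) *
        Nat.card (P ⊓ Subgroup.centralizer (P : Set G) : Subgroup G) := by
  set C := Subgroup.centralizer (P : Set G) with hC
  set N := Subgroup.normalizer (P : Set G) with hN
  have h1 : P ≤ N := Subgroup.le_normalizer
  have h2 : C ≤ N := centralizer_le_norm P
  have h3 : Nat.card P = Nat.card (P ⊓ C : Subgroup G) * C.relIndex P := by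
    rw [Subgroup.relIndex, ← Subgroup.card_mul_index (C.subgroupOf P)]
    congr 1
    rw [← Subgroup.inf_subgroupOf_left]
    exact Nat.card_congr (Subgroup.subgroupOfEquivOfLe inf_le_left).toEquiv
  have h4 : Nat.card N = Nat.card C * C.relIndex N := by
    rw [Subgroup.relIndex, ← Subgroup.card_mul_index (C.subgroupOf N)]
    congr 1
    exact Nat.card_congr (Subgroup.subgroupOfEquivOfLe h2).toEquiv
  have h5 : C.relIndex P ∣ C.relIndex N := by
    have hn : (C.subgroupOf N).Normal := by
      rw [hC, hN]; infer_instance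
    have e1 : C.relIndex P = (C.subgroupOf N).relIndex (P.subgroupOf N) := by
      rw [Subgroup.relIndex_subgroupOf h1]
    rw [e1, Subgroup.relIndex]
    exact Subgroup.relIndex_dvd_index_of_normal _ _
  obtain ⟨t, ht⟩ := h5
  refine ⟨t, ?_⟩
  rw [h3, h4, ht]
  ring

theorem sq_mul_le [Finite G] {p : ℕ} [hp : Fact p.Prime] (P : Sylow p G)
    (hnc : ∃ a ∈ P, ∃ b ∈ P, a * b ≠ b * a) :
    p ^ 2 * Nat.card (Subgroup.centralizer ((P : Subgroup G) : Set G)) ≤
      Nat.card (Subgroup.normalizer ((P : Subgroup G) : Set G)) := by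
  set C := Subgroup.centralizer ((P : Subgroup G) : Set G) with hC
  set N := Subgroup.normalizer ((P : Subgroup G) : Set G) with hN
  set Z := (P : Subgroup G) ⊓ C with hZ
  have h1 := Nat.le_of_dvd (Nat.mul_pos Nat.card_pos Nat.card_pos)
    (card_mul_center (P : Subgroup G))
  -- `p ^ 2 |Z| ≤ |P|`
  have hZc : Nat.card Z = Nat.card (Subgroup.center (P : Subgroup G)) := by
    have h2 : Subgroup.center (P : Subgroup G) = C.subgroupOf (P : Subgroup G) := by
      ext x
      rw [Subgroup.mem_center_iff, Subgroup.mem_subgroupOf, hC, Subgroup.mem_centralizer_iff]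
      constructor
      · intro h y hy
        exact congrArg Subtype.val (h ⟨y, hy⟩)
      · intro h y
        exact Subtype.ext (h y y.2)
    rw [h2, ← Subgroup.inf_subgroupOf_left]
    exact (Nat.card_congr (Subgroup.subgroupOfEquivOfLe inf_le_left).toEquiv).symm
  have h3 : p ^ 2 * Nat.card Z ≤ Nat.card (P : Subgroup G) := by
    rw [hZc, ← Subgroup.card_mul_index (Subgroup.center (P : Subgroup G)), mul_comm]
    apply Nat.mul_le_mul_left
    have h4 : ∃ k, (Subgroup.center (P : Subgroup G)).index = p ^ k :=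
      P.isPGroup'.index _
    obtain ⟨k, hk⟩ := h4
    have h5 : 2 ≤ k := by
      by_contra h6
      apply not_forall.2 ?_ (?_ : IsMulCommutative (P : Subgroup G)).is_comm.comm
      · obtain ⟨a, ha, b, hb, hab⟩ := hnc
        refine ⟨⟨a, ha⟩, fun h7 => hab ?_⟩
        exact congrArg Subtype.val (h7 ⟨b, hb⟩)
      · have h7 : IsCyclic ((P : Subgroup G) ⧸ Subgroup.center (P : Subgroup G)) := by
          have h8 : Nat.card ((P : Subgroup G) ⧸ Subgroup.center (P : Subgroup G)) = p ^ k := hk
          have h9 : k = 0 ∨ k = 1 := by omega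
          rcases h9 with rfl | rfl
          · rw [pow_zero, Nat.card_eq_one_iff_unique] at h8
            have := h8.1
            infer_instance
          · rw [pow_one] at h8
            exact isCyclic_of_prime_card h8
        exact MonoidHom.isMulCommutative_of_isCyclic_of_ker_le_center
          (QuotientGroup.mk' (Subgroup.center (P : Subgroup G))) (by rw [QuotientGroup.ker_mk'])
    rw [hk]
    exact Nat.pow_le_pow_right hp.out.pos h5
  have h4 : 0 < Nat.card Z := Nat.card_pos
  have h5 : p ^ 2 * Nat.card Z * Nat.card C ≤ Nat.card N * Nat.card Z :=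
    (Nat.mul_le_mul_right _ h3).trans h1
  have h6 : (p ^ 2 * Nat.card C) * Nat.card Z ≤ Nat.card N * Nat.card Z := by
    calc (p ^ 2 * Nat.card C) * Nat.card Z = p ^ 2 * Nat.card Z * Nat.card C := by ring
      _ ≤ _ := h5
  exact Nat.le_of_mul_le_mul_right h6 h4

/-- `3 |C(T)| ≤ |N(T)|` for a Sylow `2`-subgroup of a nonabelian simple group. -/
theorem three_mul_le [Finite G] [IsSimpleGroup G] (hns : ¬ Group.IsSolvable G)
    (hd : 2 ∣ Nat.card G) (P : Sylow 2 G) :
    3 * Nat.card (Subgroup.centralizer ((P : Subgroup G) : Set G)) ≤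
      Nat.card (Subgroup.normalizer ((P : Subgroup G) : Set G)) := by
  by_cases hnc : ∃ a ∈ P, ∃ b ∈ P, a * b ≠ b * a
  · have := sq_mul_le P hnc
    omega
  · push Not at hnc
    set C := Subgroup.centralizer ((P : Subgroup G) : Set G) with hC
    set N := Subgroup.normalizer ((P : Subgroup G) : Set G) with hN
    have h0 := two_mul_le hns hd P
    have hPC : (P : Subgroup G) ≤ C := fun a ha => by
      rw [hC, Subgroup.mem_centralizer_iff]
      intro b hb
      exact hnc b hb a ha
    have hCN : C ≤ N := centralizer_le_norm (P : Subgroup G)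
    obtain ⟨k, hk⟩ := Subgroup.card_dvd_of_le hCN
    have hk2 : ¬ 2 ∣ k := by
      intro h2
      have h3 : C.relIndex N ∣ C.index := Subgroup.relIndex_dvd_index_of_le hCN
      have h4 : Nat.card N = Nat.card C * C.relIndex N := by
        rw [Subgroup.relIndex, ← Subgroup.card_mul_index (C.subgroupOf N)]
        congr 1
        exact Nat.card_congr (Subgroup.subgroupOfEquivOfLe hCN).toEquiv
      have h5 : k = C.relIndex N := by
        apply Nat.eq_of_mul_eq_mul_left (Nat.card_pos (α := C))
        rw [← hk, h4]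
      have h6 : C.index ∣ (P : Subgroup G).index := Subgroup.index_dvd_of_le hPC
      exact P.not_dvd_index (((h5 ▸ h2).trans h3).trans h6)
    have hk0 : 2 ≤ k := by
      rw [hk, mul_comm] at h0
      exact Nat.le_of_mul_le_mul_left h0 Nat.card_pos
    rw [hk, mul_comm]
    exact Nat.mul_le_mul_left _ (by omega)

open scoped Classical in
/-- The double count. -/
theorem sum_card_ge [Finite G] (hH : Hyp G) (π : Finset ℕ) (hπ : ∀ p ∈ π, p.Prime)
    (h2 : 2 ≤ π.card) :
    (π.card - 2) * Nat.card G + 2 ≤ ∑ p ∈ π, Nat.card {g : G // ¬ p ∣ ci g} := by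
  haveI : Fintype G := Fintype.ofFinite G
  have h1 : ∑ p ∈ π, Nat.card {g : G // ¬ p ∣ ci g} =
      ∑ g : G, (π.filter (fun p => ¬ p ∣ ci g)).card := by
    have e : ∀ p, Nat.card {g : G // ¬ p ∣ ci g} = ∑ g : G, if ¬ p ∣ ci g then 1 else 0 := by
      intro p
      rw [Nat.card_eq_fintype_card, Fintype.card_subtype, Finset.card_filter]
    simp only [e]
    rw [Finset.sum_comm]
    simp only [Finset.card_filter]
  have h3 : ∀ g : G, π.card - 2 ≤ (π.filter (fun p => ¬ p ∣ ci g)).card := by
    intro g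
    have e1 := Finset.card_filter_add_card_filter_not (s := π) (fun p => p ∣ ci g)
    have e2 : (π.filter (fun p => p ∣ ci g)).card ≤ 2 := by
      refine le_trans (Finset.card_le_card ?_) (hH g)
      intro p hp
      rw [Finset.mem_filter] at hp
      exact Nat.mem_primeFactors.2 ⟨hπ p hp.1, hp.2, ci_ne_zero g⟩
    omega
  have h4 : (π.filter (fun p => ¬ p ∣ ci (1 : G))).card = π.card := by
    rw [Finset.filter_true_of_mem]
    intro p hp
    have e1 : ci (1 : G) = 1 := by
      unfold ci
      rw [Subgroup.index_eq_one, Subgroup.eq_top_iff']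
      intro x
      rw [mem_cent, mul_one, one_mul]
    rw [e1]
    exact (hπ p hp).not_dvd_one
  rw [h1, ← Finset.add_sum_erase _ _ (Finset.mem_univ (1 : G)), h4]
  have h5 : (Finset.univ.erase (1 : G)).card * (π.card - 2) ≤
      ∑ g ∈ Finset.univ.erase (1 : G), (π.filter (fun p => ¬ p ∣ ci g)).card := by
    rw [← smul_eq_mul]
    exact Finset.card_nsmul_le_sum _ _ _ (fun g _ => h3 g)
  have h6 : (Finset.univ.erase (1 : G)).card + 1 = Nat.card G := by
    rw [Finset.card_erase_add_one (Finset.mem_univ _), Finset.card_univ, Nat.card_eq_fintype_card]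
  rw [← h6, mul_add, mul_one]
  have h7 : (π.card - 2) * (Finset.univ.erase (1 : G)).card =
      (Finset.univ.erase (1 : G)).card * (π.card - 2) := mul_comm _ _
  omega

/-- A nonabelian simple group whose class sizes have at most two prime divisors has order with exactly three. -/
theorem three_primes [Finite G] [IsSimpleGroup G] (hns : ¬ Group.IsSolvable G) (hH : Hyp G) :
    (Nat.card G).primeFactors.card = 3 := by
  set π := (Nat.card G).primeFactors with hπ
  have hge : 3 ≤ π.card := by
    by_contra hlt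
    apply hns
    -- Burnside
    have h1 : π.card ≤ 2 := by omega
    obtain ⟨p, q, hp, hq, hpq⟩ : ∃ p q : ℕ, p.Prime ∧ q.Prime ∧ π ⊆ {p, q} := by
      rcases Nat.lt_or_ge π.card 1 with h | h
      · refine ⟨2, 3, Nat.prime_two, Nat.prime_three, ?_⟩
        have : π = ∅ := Finset.card_eq_zero.1 (by omega)
        rw [this]; exact Finset.empty_subset _
      · rcases Nat.lt_or_ge π.card 2 with h' | h'
        · obtain ⟨p, hp⟩ := Finset.card_eq_one.1 (show π.card = 1 by omega)
          have : p ∈ π := by rw [hp]; exact Finset.mem_singleton_self p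
          refine ⟨p, 2, Nat.prime_of_mem_primeFactors this, Nat.prime_two, ?_⟩
          rw [hp]; intro a ha; rw [Finset.mem_singleton] at ha; simp [ha]
        · obtain ⟨p, q, _, hp⟩ := Finset.card_eq_two.1 (show π.card = 2 by omega)
          refine ⟨p, q, Nat.prime_of_mem_primeFactors (n := Nat.card G) ?_,
            Nat.prime_of_mem_primeFactors (n := Nat.card G) ?_, hp.le⟩
          · rw [← hπ, hp]; simp
          · rw [← hπ, hp]; simp
    by_cases hpq' : p = q
    · subst hpq'
      refine Cfsg.Agent.S0144.result p p ((Nat.card G).factorization p) 0 hp hp ?_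
      rw [pow_zero, mul_one]
      conv_lhs => rw [← Nat.prod_factorization_pow_eq_self (Nat.card_pos (α := G)).ne']
      apply Nat.prod_factorization_eq_prod_primeFactors _ |>.trans
      rw [Finset.prod_subset hpq]
      · simp
      · intro x hx1 hx
        rw [Nat.factorization_eq_zero_of_not_dvd, pow_zero]
        intro hd
        have hx2 : x.Prime := by
          simp only [Finset.mem_insert, Finset.mem_singleton, or_self] at hx1
          rw [hx1]; exact hp
        exact hx (Nat.mem_primeFactors.2 ⟨hx2, hd, Nat.card_pos.ne'⟩)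
    · refine Cfsg.Agent.S0144.result p q ((Nat.card G).factorization p)
        ((Nat.card G).factorization q) hp hq ?_
      conv_lhs => rw [← Nat.prod_factorization_pow_eq_self (Nat.card_pos (α := G)).ne']
      apply Nat.prod_factorization_eq_prod_primeFactors _ |>.trans
      rw [Finset.prod_subset hpq]
      · rw [Finset.prod_pair hpq']
      · intro x hx1 hx
        rw [Nat.factorization_eq_zero_of_not_dvd, pow_zero]
        intro hd
        have hx2 : x.Prime := by
          simp only [Finset.mem_insert, Finset.mem_singleton] at hx1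
          rcases hx1 with rfl | rfl
          · exact hp
          · exact hq
        exact hx (Nat.mem_primeFactors.2 ⟨hx2, hd, Nat.card_pos.ne'⟩)
  have h1 := sum_card_ge hH π (fun p hp => Nat.prime_of_mem_primeFactors hp) (by omega)
  have h2 : ∀ p ∈ π, 2 * Nat.card {g : G // ¬ p ∣ ci g} ≤ Nat.card G := by
    intro p hp
    haveI : Fact p.Prime := ⟨Nat.prime_of_mem_primeFactors hp⟩
    exact mul_card_le default (two_mul_le hns (Nat.dvd_of_mem_primeFactors hp) default)
  have h3 : 2 * ∑ p ∈ π, Nat.card {g : G // ¬ p ∣ ci g} ≤ π.card * Nat.card G := by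
    rw [Finset.mul_sum, ← smul_eq_mul (π.card)]
    exact Finset.sum_le_card_nsmul _ _ _ h2
  by_contra hne
  have h4 : 4 ≤ π.card := by omega
  obtain ⟨k, hk⟩ := Nat.exists_eq_add_of_le h4
  rw [hk] at h1 h3
  have e : 4 + k - 2 = 2 + k := by omega
  rw [e] at h1
  nlinarith only [h3, h1]

/-- A noncommutative `3`-subgroup contradicts the class size condition. -/
theorem no_three [Finite G] [IsSimpleGroup G] (hns : ¬ Group.IsSolvable G) (hH : Hyp G)
    (hd2 : 2 ∣ Nat.card G) {V : Subgroup G} (hV : IsPGroup 3 V)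
    (hnc : ∃ a ∈ V, ∃ b ∈ V, a * b ≠ b * a) : False := by
  have hπ := three_primes hns hH
  haveI : Fact (Nat.Prime 3) := ⟨Nat.prime_three⟩
  obtain ⟨P, hP⟩ := hV.exists_le_sylow
  have hnc' : ∃ a ∈ P, ∃ b ∈ P, a * b ≠ b * a := by
    obtain ⟨a, ha, b, hb, hab⟩ := hnc
    exact ⟨a, hP ha, b, hP hb, hab⟩
  have hd3 : 3 ∣ Nat.card G := by
    obtain ⟨a, ha, b, hb, hab⟩ := hnc
    have h1 : Nat.card V ∣ Nat.card G := Subgroup.card_subgroup_dvd_card V
    obtain ⟨k, hk⟩ := hV.exists_card_eq
    have hk0 : k ≠ 0 := by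
      rintro rfl
      rw [pow_zero, Subgroup.card_eq_one] at hk
      rw [hk, Subgroup.mem_bot] at ha hb
      rw [ha, hb] at hab
      exact hab rfl
    exact ((dvd_pow_self 3 hk0).trans (hk ▸ dvd_rfl)).trans h1
  have h2 : (2 : ℕ) ∈ (Nat.card G).primeFactors :=
    Nat.mem_primeFactors.2 ⟨Nat.prime_two, hd2, Nat.card_pos.ne'⟩
  have h3 : (3 : ℕ) ∈ (Nat.card G).primeFactors :=
    Nat.mem_primeFactors.2 ⟨Nat.prime_three, hd3, Nat.card_pos.ne'⟩
  obtain ⟨r, hr⟩ : ∃ r, ((Nat.card G).primeFactors.erase 2).erase 3 = {r} := by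
    rw [← Finset.card_eq_one, Finset.card_erase_of_mem (Finset.mem_erase.2 ⟨by norm_num, h3⟩),
      Finset.card_erase_of_mem h2, hπ]
  have hr1 : r ∈ ((Nat.card G).primeFactors.erase 2).erase 3 := by
    rw [hr]; exact Finset.mem_singleton_self r
  have hrp : r ∈ (Nat.card G).primeFactors :=
    Finset.mem_of_mem_erase (Finset.mem_of_mem_erase hr1)
  have h1 := sum_card_ge hH (Nat.card G).primeFactors
    (fun p hp => Nat.prime_of_mem_primeFactors hp) (by omega)
  rw [hπ, ← Finset.add_sum_erase _ _ h2, ← Finset.add_sum_erase _ _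
    (Finset.mem_erase.2 ⟨by norm_num, h3⟩), hr, Finset.sum_singleton] at h1
  haveI : Fact r.Prime := ⟨Nat.prime_of_mem_primeFactors hrp⟩
  have b2 := mul_card_le (default : Sylow 2 G) (three_mul_le hns hd2 default)
  have b3 := mul_card_le P (sq_mul_le P hnc')
  have br := mul_card_le (default : Sylow r G)
    (two_mul_le hns (Nat.dvd_of_mem_primeFactors hrp) default)
  (clear * - h1 b2 b3 br; omega)

end Cfsg.Agent.H528.ClassSize
end

-- part: H528/PP
section
/-!
# Simple groups all of whose elements have prime power order and small class sizes: the Sylow `2`-subgroups are commutative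
-/

set_option autoImplicit false
set_option linter.style.haveILetI false

namespace Cfsg.Agent.H528.ClassSize

open Subgroup

/-- Every element has prime power order. -/
def PP (G : Type*) [Group G] : Prop := ∀ x : G, ∃ (v m : ℕ), v.Prime ∧ x ^ v ^ m = 1

theorem eq_one_of_coprime {G : Type*} [Group G] {x : G} {a b : ℕ} (hab : a.Coprime b)
    (ha : x ^ a = 1) (hb : x ^ b = 1) : x = 1 := by
  have h1 := orderOf_dvd_of_pow_eq_one ha
  have h2 := orderOf_dvd_of_pow_eq_one hb
  have h3 : orderOf x ∣ 1 := by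
    have := Nat.dvd_gcd h1 h2
    rwa [hab] at this
  exact orderOf_eq_one_iff.1 (Nat.dvd_one.1 h3)

theorem PP.cent {G : Type*} [Group G] (h : PP G) {x : G} (hx1 : x ≠ 1) {k : ℕ}
    (hx : x ^ 2 ^ k = 1) : IsPGroup 2 (Subgroup.centralizer ({x} : Set G)) := by
  rintro ⟨y, hy⟩
  rw [mem_cent] at hy
  have hc : Commute x y := hy.symm
  suffices ∃ k, y ^ 2 ^ k = 1 by
    obtain ⟨k, hk⟩ := this
    exact ⟨k, Subtype.ext hk⟩
  by_cases hy1 : y = 1
  · exact ⟨0, by rw [hy1, one_pow]⟩
  obtain ⟨v, m, hv, hvm⟩ := h y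
  by_cases hv2 : v = 2
  · subst hv2; exact ⟨m, hvm⟩
  exfalso
  have hcop : (2 ^ k).Coprime (v ^ m) :=
    Nat.Coprime.pow _ _ ((Nat.coprime_primes Nat.prime_two hv).2 (Ne.symm hv2))
  obtain ⟨u, n, hu, hun⟩ := h (x * y)
  rw [hc.mul_pow] at hun
  have h1 : x ^ u ^ n = (y ^ u ^ n)⁻¹ := eq_inv_of_mul_eq_one_left hun
  have h2 : x ^ u ^ n = 1 := by
    apply eq_one_of_coprime hcop
    · rw [← pow_mul, mul_comm, pow_mul, hx, one_pow]
    · rw [h1, inv_pow, ← pow_mul, mul_comm, pow_mul, hvm, one_pow, inv_one]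
  have h3 : y ^ u ^ n = 1 := by
    rw [h2] at h1
    exact inv_eq_one.1 h1.symm
  rcases eq_or_ne u 2 with rfl | hu2
  · exact hy1 (eq_one_of_coprime (Nat.Coprime.pow _ _
      ((Nat.coprime_primes Nat.prime_two hv).2 (Ne.symm hv2))) h3 hvm)
  · exact hx1 (eq_one_of_coprime (Nat.Coprime.pow _ _
      ((Nat.coprime_primes hu Nat.prime_two).2 hu2)) h2 hx)

/-- The Sylow `2`-subgroups are commutative. -/
theorem comm_two_of_pp {G : Type*} [Group G] [Finite G] [IsSimpleGroup G]
    (hns : ¬ Group.IsSolvable G) (hH : Hyp G) (hPP : PP G) (hd2 : 2 ∣ Nat.card G)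
    {T : Subgroup G} (hT : IsPGroup 2 T) : ∀ a ∈ T, ∀ b ∈ T, a * b = b * a := by
  have hπ := three_primes hns hH
  have h2 : (2 : ℕ) ∈ (Nat.card G).primeFactors :=
    Nat.mem_primeFactors.2 ⟨Nat.prime_two, hd2, Nat.card_pos.ne'⟩
  obtain ⟨r, s, hrs, hr⟩ : ∃ r s, r ≠ s ∧ (Nat.card G).primeFactors.erase 2 = {r, s} := by
    rw [← Finset.card_eq_two, Finset.card_erase_of_mem h2, hπ]
  have hr1 : r ∈ (Nat.card G).primeFactors.erase 2 := by rw [hr]; simp
  have hs1 : s ∈ (Nat.card G).primeFactors.erase 2 := by rw [hr]; simp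
  refine comm_two (fun x hx1 hk => ?_) (fun x hx1 hk h2x => ?_) hT
  · obtain ⟨k, hk⟩ := hk
    exact hPP.cent hx1 hk
  · obtain ⟨k, hk⟩ := hk
    have hC := hPP.cent hx1 hk
    have key : ∀ v ∈ (Nat.card G).primeFactors.erase 2, v ∣ ci x := by
      intro v hv
      obtain ⟨hv2, hv⟩ := Finset.mem_erase.1 hv
      have hvp := Nat.prime_of_mem_primeFactors hv
      have hvd := Nat.dvd_of_mem_primeFactors hv
      haveI : Fact (Nat.Prime 2) := ⟨Nat.prime_two⟩
      rw [← Subgroup.card_mul_index (Subgroup.centralizer ({x} : Set G)), hvp.dvd_mul] at hvd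
      rcases hvd with h | h
      · obtain ⟨j, hj⟩ := hC.exists_card_eq
        rw [hj] at h
        exact absurd ((Nat.prime_dvd_prime_iff_eq hvp Nat.prime_two).1
          (hvp.dvd_of_dvd_pow h)) hv2
      · exact h
    exact hH.not_three x Nat.prime_two
      (Nat.prime_of_mem_primeFactors (Finset.mem_of_mem_erase hr1))
      (Nat.prime_of_mem_primeFactors (Finset.mem_of_mem_erase hs1))
      (Finset.ne_of_mem_erase hr1).symm (Finset.ne_of_mem_erase hs1).symm hrs h2x (key r hr1)
      (key s hs1)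

/-- The commutator criterion: two `p`-elements whose commutator commutes with both generate a `p`-group. -/
theorem isPGroup_of_class_two {G : Type*} [Group G] {p : ℕ} {a b c : G}
    (ha : ∃ k, a ^ p ^ k = 1) (hb : ∃ k, b ^ p ^ k = 1) (hab : a * b = c * (b * a))
    (hca : Commute c a) (hcb : Commute c b) (hc : ∃ k, c ^ p ^ k = 1) [Fact p.Prime] :
    ∃ V : Subgroup G, IsPGroup p V ∧ a ∈ V ∧ b ∈ V := by
  have hz : ∀ x : G, (∃ k, x ^ p ^ k = 1) → IsPGroup p (Subgroup.zpowers x) := by
    rintro x ⟨k, hk⟩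
    rintro ⟨y, n, rfl⟩
    refine ⟨k, Subtype.ext ?_⟩
    change (x ^ n) ^ p ^ k = 1
    rw [← zpow_natCast, ← zpow_mul, mul_comm, zpow_mul, zpow_natCast, hk, one_zpow]
  -- `⟨c⟩ ⟨a⟩`
  have h1 : IsPGroup p (Subgroup.zpowers c ⊔ Subgroup.zpowers a : Subgroup G) := by
    refine IsPGroup.to_sup_of_normal_left' (hz c hc) (hz a ha) ?_
    rw [Subgroup.zpowers_le, Subgroup.mem_normalizer_iff]
    intro h
    constructor
    · rintro ⟨n, rfl⟩
      refine ⟨n, ?_⟩
      rw [← (hca.zpow_left n).eq, mul_inv_cancel_right]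
    · rintro ⟨n, hn⟩
      refine ⟨n, ?_⟩
      have h2 : h = a⁻¹ * (a * h * a⁻¹) * a := by group
      rw [h2, ← hn]
      change c ^ n = a⁻¹ * c ^ n * a
      rw [mul_assoc, (hca.zpow_left n).eq, inv_mul_cancel_left]
  -- `b` normalizes it
  have h2 : Subgroup.zpowers b ≤
      Subgroup.normalizer ((Subgroup.zpowers c ⊔ Subgroup.zpowers a : Subgroup G) : Set G) := by
    rw [Subgroup.zpowers_le]
    have e1 : (Subgroup.zpowers c ⊔ Subgroup.zpowers a : Subgroup G) =
        Subgroup.closure {c, a} := by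
      rw [Subgroup.zpowers_eq_closure, Subgroup.zpowers_eq_closure, ← Subgroup.closure_union]
      rfl
    rw [e1]
    have hcm : c ∈ Subgroup.closure {c, a} := Subgroup.subset_closure (by simp)
    have ham : a ∈ Subgroup.closure {c, a} := Subgroup.subset_closure (by simp)
    have hc1 : b * c * b⁻¹ = c := by rw [← hcb.eq, mul_inv_cancel_right]
    have ha1 : b * a * b⁻¹ = c⁻¹ * a := by
      have : b * a = c⁻¹ * (a * b) := by rw [hab, inv_mul_cancel_left]
      rw [this]; group
    have hc2 : b⁻¹ * c * b = c := by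
      rw [mul_assoc, hcb.eq, inv_mul_cancel_left]
    have ha2 : b⁻¹ * a * b = c * a := by
      have : b⁻¹ * (a * b) = b⁻¹ * (c * (b * a)) := by rw [hab]
      rw [← mul_assoc] at this
      rw [this]
      calc b⁻¹ * (c * (b * a)) = (b⁻¹ * c * b) * a := by group
        _ = c * a := by rw [hc2]
    rw [Subgroup.mem_normalizer_iff]
    intro h
    constructor
    · intro hh
      have : (Subgroup.closure {c, a} : Subgroup G).map (MulAut.conj b).toMonoidHom ≤
          Subgroup.closure {c, a} := by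
        rw [MonoidHom.map_closure, Subgroup.closure_le]
        rintro _ ⟨y, hy, rfl⟩
        simp only [Set.mem_insert_iff, Set.mem_singleton_iff] at hy
        rcases hy with rfl | rfl
        · simpa [hc1] using hcm
        · simpa [ha1] using (Subgroup.mul_mem _ (Subgroup.inv_mem _ hcm) ham)
      exact this ⟨h, hh, rfl⟩
    · intro hh
      have : (Subgroup.closure {c, a} : Subgroup G).map (MulAut.conj b⁻¹).toMonoidHom ≤
          Subgroup.closure {c, a} := by
        rw [MonoidHom.map_closure, Subgroup.closure_le]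
        rintro _ ⟨y, hy, rfl⟩
        simp only [Set.mem_insert_iff, Set.mem_singleton_iff] at hy
        rcases hy with rfl | rfl
        · simpa only [hc2, _root_.map_inv, _root_.MulEquiv.toMonoidHom_eq_coe, _root_.MonoidHom.coe_coe, _root_.MulAut.inv_apply, _root_.MulAut.conj_symm_apply, _root_.SetLike.mem_coe] using hcm
        · simpa only [ha2, _root_.map_inv, _root_.MulEquiv.toMonoidHom_eq_coe, _root_.MonoidHom.coe_coe, _root_.MulAut.inv_apply, _root_.MulAut.conj_symm_apply, _root_.SetLike.mem_coe] using (Subgroup.mul_mem _ hcm ham)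
      have h3 := this ⟨_, hh, rfl⟩
      have h4 : (MulAut.conj b⁻¹).toMonoidHom (b * h * b⁻¹) = h := by
        simp only [MulAut.conj_apply, mul_assoc, _root_.map_inv, _root_.MulEquiv.toMonoidHom_eq_coe, _root_.MonoidHom.coe_coe, _root_.MulAut.inv_apply, _root_.MulAut.conj_symm_apply, _root_.inv_mul_cancel_left, _root_.inv_mul_cancel, _root_.mul_one]
      rwa [h4] at h3
  refine ⟨(Subgroup.zpowers c ⊔ Subgroup.zpowers a) ⊔ Subgroup.zpowers b,
    IsPGroup.to_sup_of_normal_left' h1 (hz b hb) h2, ?_, ?_⟩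
  · exact Subgroup.mem_sup_left (Subgroup.mem_sup_right (Subgroup.mem_zpowers a))
  · exact Subgroup.mem_sup_right (Subgroup.mem_zpowers b)

end Cfsg.Agent.H528.ClassSize
end

-- part: H528/ExclTwo
section
/-!
# `PSL(2,7)`, `PSL(2,9)` and `PSL(2,17)` have a class whose size has three prime divisors
-/

set_option autoImplicit false
set_option linter.style.haveILetI false

namespace Cfsg.Agent.H528.ClassSize

open Subgroup Matrix

/-- An element inverting a `2`-element, with square one. -/
theorem isPGroup_of_inverts {G : Type*} [Group G] {x w : G} (hx : ∃ k, x ^ 2 ^ k = 1)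
    (hw : w ^ 2 = 1) (hwx : w * x * w⁻¹ = x⁻¹) :
    ∃ V : Subgroup G, IsPGroup 2 V ∧ x ∈ V ∧ w ∈ V := by
  haveI : Fact (Nat.Prime 2) := ⟨Nat.prime_two⟩
  have hz : ∀ x : G, (∃ k, x ^ 2 ^ k = 1) → IsPGroup 2 (Subgroup.zpowers x) := by
    rintro x ⟨k, hk⟩
    rintro ⟨y, n, rfl⟩
    refine ⟨k, Subtype.ext ?_⟩
    change (x ^ n) ^ 2 ^ k = 1
    rw [← zpow_natCast, ← _root_.zpow_mul, mul_comm, _root_.zpow_mul, zpow_natCast, hk, _root_.one_zpow]
  refine ⟨Subgroup.zpowers x ⊔ Subgroup.zpowers w,
    IsPGroup.to_sup_of_normal_left' (hz x hx) (hz w ⟨1, by simpa only [_root_.pow_one] using hw⟩) ?_,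
    Subgroup.mem_sup_left (Subgroup.mem_zpowers x),
    Subgroup.mem_sup_right (Subgroup.mem_zpowers w)⟩
  rw [Subgroup.zpowers_le, Subgroup.mem_normalizer_iff]
  have h1 : ∀ n : ℤ, w * x ^ n * w⁻¹ = x ^ (-n) := by
    intro n
    rw [← conj_zpow, hwx, _root_.inv_zpow, _root_.zpow_neg]
  have hw' : w⁻¹ = w := by rw [inv_eq_iff_mul_eq_one, ← pow_two, hw]
  intro h
  constructor
  · rintro ⟨n, rfl⟩
    exact ⟨-n, (h1 n).symm⟩
  · rintro ⟨n, hn⟩
    refine ⟨-n, ?_⟩
    change x ^ (-n) = h
    rw [← h1 n]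
    change x ^ n = w * h * w⁻¹ at hn
    rw [hn, hw']
    have h2 : w * w = 1 := by rw [← pow_two, hw]
    calc w * (w * h * w) * w = (w * w) * h * (w * w) := by group
      _ = h := by rw [h2, one_mul, mul_one]

section

variable {F : Type*} [Field F]

/-- In odd characteristic `-1` is the only involution of `SL(2,F)`. -/
theorem sl_sq_eq_one (h2 : (2 : F) ≠ 0) {g : _root_.Matrix.SpecialLinearGroup (Fin 2) F} (hg : g ^ 2 = 1) :
    g ∈ Subgroup.center (_root_.Matrix.SpecialLinearGroup (Fin 2) F) := by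
  have hd := g.2
  rw [Matrix.det_fin_two] at hd
  have h1 : (g : Matrix (Fin 2) (Fin 2) F) * g = 1 := by
    have := congrArg (fun z : _root_.Matrix.SpecialLinearGroup (Fin 2) F => (z : Matrix (Fin 2) (Fin 2) F)) hg
    simpa only [pow_two, _root_.Matrix.SpecialLinearGroup.coe_mul, _root_.Matrix.SpecialLinearGroup.coe_one] using this
  have e00 := congrFun (congrFun h1 0) 0
  have e01 := congrFun (congrFun h1 0) 1
  have e10 := congrFun (congrFun h1 1) 0
  have e11 := congrFun (congrFun h1 1) 1
  simp only [Matrix.mul_apply, Fin.sum_univ_two, Matrix.one_apply] at e00 e01 e10 e11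
  simp only [reduceIte, zero_ne_one, one_ne_zero] at e00 e01 e10 e11
  set a := (g : Matrix (Fin 2) (Fin 2) F) 0 0 with ha
  set b := (g : Matrix (Fin 2) (Fin 2) F) 0 1 with hb
  set c := (g : Matrix (Fin 2) (Fin 2) F) 1 0 with hc
  set d := (g : Matrix (Fin 2) (Fin 2) F) 1 1 with hdd
  have htr : a + d ≠ 0 := by
    intro h
    apply h2
    have h3 : d = -a := by linear_combination h
    rw [h3] at hd
    linear_combination -hd - e00
  have hb0 : b = 0 := by
    have : b * (a + d) = 0 := by linear_combination e01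
    exact (mul_eq_zero.1 this).resolve_right htr
  have hc0 : c = 0 := by
    have : c * (a + d) = 0 := by linear_combination e10
    exact (mul_eq_zero.1 this).resolve_right htr
  have had : a = d := by
    rw [hb0, hc0] at hd
    rw [hb0] at e00
    have h3 : a * (a - d) = 0 := by linear_combination e00 - hd
    have h4 : a ≠ 0 := by
      rintro h
      rw [h] at hd
      simp at hd
    exact sub_eq_zero.1 ((mul_eq_zero.1 h3).resolve_left h4)
  rw [Matrix.SpecialLinearGroup.mem_center_iff]
  refine ⟨a, ?_, ?_⟩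
  · rw [Fintype.card_fin, pow_two]
    rw [hb0] at e00
    linear_combination e00
  · ext i j
    fin_cases i <;> fin_cases j
    · simp [ha]
    · simp [hb0, ← hb]
    · simp [hc0, ← hc]
    · simp [had, hdd]

theorem psl_pow_of_sl {g : _root_.Matrix.SpecialLinearGroup (Fin 2) F} {n : ℕ}
    (h : g ^ n ∈ Subgroup.center (_root_.Matrix.SpecialLinearGroup (Fin 2) F)) :
    (QuotientGroup.mk g : ProjectiveSpecialLinearGroup (Fin 2) F) ^ n = 1 := by
  rw [← QuotientGroup.mk_pow]
  exact (QuotientGroup.eq_one_iff _).2 h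

theorem psl_pow_cases [Fintype F] {p : ℕ} [Fact p.Prime] [CharP F p] (h2 : (2 : F) ≠ 0)
    (hodd : Odd (Fintype.card F)) (g : ProjectiveSpecialLinearGroup (Fin 2) F) :
    g ^ ((Fintype.card F - 1) / 2) = 1 ∨ g ^ ((Fintype.card F + 1) / 2) = 1 ∨ g ^ p = 1 := by
  obtain ⟨g, rfl⟩ := QuotientGroup.mk_surjective g
  obtain ⟨k, hk⟩ := hodd
  have e1 : (Fintype.card F - 1) / 2 * 2 = Fintype.card F - 1 := by omega
  have e2 : (Fintype.card F + 1) / 2 * 2 = Fintype.card F + 1 := by omega
  rcases Cfsg.Agent.ClassicalGeometry.SL2Order.pow_cases (q := Fintype.card F) rfl p g with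
    h | h | h
  · left
    apply psl_pow_of_sl
    apply sl_sq_eq_one h2
    rw [← pow_mul, e1, h]
  · right; left
    apply psl_pow_of_sl
    apply sl_sq_eq_one h2
    rw [← pow_mul, e2, h]
  · right; right
    apply psl_pow_of_sl
    apply sl_sq_eq_one h2
    rw [← pow_mul, mul_comm, h]

/-- The matrices `X`, `W` give a noncommutative `2`-subgroup of `PSL(2,F)`. -/
theorem exists_nonab (h2 : (2 : F) ≠ 0) (X W : _root_.Matrix.SpecialLinearGroup (Fin 2) F)
    (hX : (X : Matrix (Fin 2) (Fin 2) F) ^ 4 = -1) (hW : (W : Matrix (Fin 2) (Fin 2) F) ^ 2 = -1)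
    (hWX : (X : Matrix (Fin 2) (Fin 2) F) * W * X = W) :
    ∃ V : Subgroup (ProjectiveSpecialLinearGroup (Fin 2) F), IsPGroup 2 V ∧
      ∃ a ∈ V, ∃ b ∈ V, a * b ≠ b * a := by
  have hneg : (-1 : _root_.Matrix.SpecialLinearGroup (Fin 2) F) ∈
      Subgroup.center (_root_.Matrix.SpecialLinearGroup (Fin 2) F) := by
    apply sl_sq_eq_one h2
    ext i j; simp only [_root_.even_two, _root_.Even.neg_pow, _root_.one_pow, _root_.Matrix.SpecialLinearGroup.coe_one]
  have hX' : X ^ 4 = -1 := by
    ext i j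
    have := congrFun (congrFun hX i) j
    simpa using this
  have hW' : W ^ 2 = -1 := by
    ext i j
    have := congrFun (congrFun hW i) j
    simpa using this
  have hWX' : X * W * X = W := by
    ext i j
    have := congrFun (congrFun hWX i) j
    simpa using this
  set x : ProjectiveSpecialLinearGroup (Fin 2) F := QuotientGroup.mk X with hx
  set w : ProjectiveSpecialLinearGroup (Fin 2) F := QuotientGroup.mk W with hw
  have hx4 : x ^ 2 ^ 2 = 1 := by
    apply psl_pow_of_sl
    change X ^ 4 ∈ _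
    rw [hX']; exact hneg
  have hw2 : w ^ 2 = 1 := by
    apply psl_pow_of_sl
    rw [hW']; exact hneg
  have hwx : x * w * x = w := by
    rw [hx, hw, ← QuotientGroup.mk_mul, ← QuotientGroup.mk_mul, hWX']
  have hwx' : w * x * w⁻¹ = x⁻¹ := by
    rw [eq_inv_iff_mul_eq_one]
    have h3 : w * w = 1 := by rw [← pow_two, hw2]
    have hw' : w⁻¹ = w := by rw [inv_eq_iff_mul_eq_one, h3]
    rw [hw']
    calc w * x * w * x = w * (x * w * x) := by group
      _ = 1 := by rw [hwx, h3]
  obtain ⟨V, hV, hxV, hwV⟩ := isPGroup_of_inverts ⟨2, hx4⟩ hw2 hwx'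
  refine ⟨V, hV, x, hxV, w, hwV, fun h => ?_⟩
  -- then `x ^ 2 = 1`
  have h3 : x ^ 2 = 1 := by
    have h4 : x * w * x = x * x * w := by rw [mul_assoc, ← h]; group
    rw [hwx] at h4
    have h5 : 1 * w = x * x * w := by rw [one_mul]; exact h4
    rw [pow_two]
    exact (mul_right_cancel h5).symm
  have h4 : X ^ 2 ∈ Subgroup.center (_root_.Matrix.SpecialLinearGroup (Fin 2) F) := by
    rw [hx, ← QuotientGroup.mk_pow] at h3
    exact (QuotientGroup.eq_one_iff _).1 h3
  obtain ⟨r, hr, hr'⟩ := Matrix.SpecialLinearGroup.mem_center_iff.1 h4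
  rw [Fintype.card_fin] at hr
  have h5 : (X : Matrix (Fin 2) (Fin 2) F) ^ 4 = 1 := by
    have h6 : (X : Matrix (Fin 2) (Fin 2) F) ^ 2 = scalar (Fin 2) r := by
      rw [hr']; simp
    have h7 : (X : Matrix (Fin 2) (Fin 2) F) ^ 4 = ((X : Matrix (Fin 2) (Fin 2) F) ^ 2) ^ 2 := by
      rw [← pow_mul]
    rw [h7, h6, ← map_pow, hr, map_one]
  rw [hX] at h5
  have h6 := congrFun (congrFun h5 0) 0
  simp at h6
  apply h2
  linear_combination -h6

theorem two_dvd_of_nonab {G : Type*} [Group G] [Finite G] {V : Subgroup G} {p : ℕ}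
    [hp : Fact p.Prime] (hV : IsPGroup p V) (hnc : ∃ a ∈ V, ∃ b ∈ V, a * b ≠ b * a) :
    p ∣ Nat.card G := by
  obtain ⟨a, ha, b, hb, hab⟩ := hnc
  have h1 : Nat.card V ∣ Nat.card G := Subgroup.card_subgroup_dvd_card V
  obtain ⟨k, hk⟩ := hV.exists_card_eq
  have hk0 : k ≠ 0 := by
    rintro rfl
    rw [pow_zero, Subgroup.card_eq_one] at hk
    rw [hk, Subgroup.mem_bot] at ha hb
    rw [ha, hb] at hab
    exact hab rfl
  exact ((dvd_pow_self p hk0).trans (hk ▸ dvd_rfl)).trans h1

theorem excl_of_matrices [Fintype F] {p : ℕ} [Fact p.Prime] [CharP F p] (h2 : (2 : F) ≠ 0)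
    (hodd : Odd (Fintype.card F))
    (h3 : ∃ v m, v.Prime ∧ v ^ m = (Fintype.card F - 1) / 2)
    (h4 : ∃ v m, v.Prime ∧ v ^ m = (Fintype.card F + 1) / 2)
    (X W : _root_.Matrix.SpecialLinearGroup (Fin 2) F)
    (hX : (X : Matrix (Fin 2) (Fin 2) F) ^ 4 = -1) (hW : (W : Matrix (Fin 2) (Fin 2) F) ^ 2 = -1)
    (hWX : (X : Matrix (Fin 2) (Fin 2) F) * W * X = W)
    [IsSimpleGroup (ProjectiveSpecialLinearGroup (Fin 2) F)]
    (hns : ¬ Group.IsSolvable (ProjectiveSpecialLinearGroup (Fin 2) F))
    (hH : Hyp (ProjectiveSpecialLinearGroup (Fin 2) F)) : False := by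
  have hPP : PP (ProjectiveSpecialLinearGroup (Fin 2) F) := by
    intro x
    rcases psl_pow_cases (p := p) h2 hodd x with h | h | h
    · obtain ⟨v, m, hv, hvm⟩ := h3
      exact ⟨v, m, hv, by rw [hvm, h]⟩
    · obtain ⟨v, m, hv, hvm⟩ := h4
      exact ⟨v, m, hv, by rw [hvm, h]⟩
    · exact ⟨p, 1, Fact.out, by rw [pow_one, h]⟩
  obtain ⟨V, hV, hnc⟩ := exists_nonab h2 X W hX hW hWX
  haveI : Fact (Nat.Prime 2) := ⟨Nat.prime_two⟩
  have hd2 := two_dvd_of_nonab hV hnc
  obtain ⟨a, ha, b, hb, hab⟩ := hnc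
  exact hab (comm_two_of_pp hns hH hPP hd2 hV a ha b hb)

theorem charP_of_card [Fintype F] {p : ℕ} (hp : p.Prime) {k : ℕ} (h : Fintype.card F = p ^ k) :
    CharP F p := by
  have h2 : ((Fintype.card F : ℕ) : F) = 0 := FiniteField.cast_card_eq_zero F
  rw [h, Nat.cast_pow] at h2
  have h3 : (p : F) = 0 := eq_zero_of_pow_eq_zero h2
  obtain ⟨q, hq⟩ := CharP.exists F
  haveI := hq
  have h4 : q ∣ p := (CharP.cast_eq_zero_iff F q p).1 h3
  rcases (Nat.dvd_prime hp).1 h4 with h5 | h5
  · subst h5
    exact absurd (CharP.false_of_nontrivial_of_char_one (R := F)) id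
  · exact h5 ▸ hq

theorem excl_psl [Fintype F]
    (hF : Fintype.card F = 7 ∨ Fintype.card F = 9 ∨ Fintype.card F = 17)
    [IsSimpleGroup (ProjectiveSpecialLinearGroup (Fin 2) F)]
    (hns : ¬ Group.IsSolvable (ProjectiveSpecialLinearGroup (Fin 2) F))
    (hH : Hyp (ProjectiveSpecialLinearGroup (Fin 2) F)) : False := by
  -- diagonal matrices with an eigenvalue of order eight
  have diag : ∀ (p : ℕ) [Fact p.Prime] [CharP F p] (_ : (2 : F) ≠ 0)
    (_ : Odd (Fintype.card F))
    (_ : ∃ v m, v.Prime ∧ v ^ m = (Fintype.card F - 1) / 2)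
    (_ : ∃ v m, v.Prime ∧ v ^ m = (Fintype.card F + 1) / 2) (a : F), a ^ 4 = -1 → False := by
    intro p _ _ h2 hodd h3 h4 a ha
    have ha0 : a ≠ 0 := by
      rintro rfl
      rw [zero_pow (by norm_num)] at ha
      exact one_ne_zero (neg_eq_zero.1 ha.symm)
    have hai : a * a⁻¹ = 1 := mul_inv_cancel₀ ha0
    have hai4 : a⁻¹ ^ 4 = -1 := by rw [_root_.inv_pow, ha, inv_neg, inv_one]
    refine excl_of_matrices (p := p) h2 hodd h3 h4
      ⟨!![a, 0; 0, a⁻¹], by rw [Matrix.det_fin_two_of, hai]; ring⟩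
      ⟨!![0, 1; -1, 0], by rw [Matrix.det_fin_two_of]; ring⟩ ?_ ?_ ?_ hns hH
    · change (!![a, 0; 0, a⁻¹] : Matrix (Fin 2) (Fin 2) F) ^ 4 = -1
      have e2 : (!![a, 0; 0, a⁻¹] : Matrix (Fin 2) (Fin 2) F) ^ 2 = !![a ^ 2, 0; 0, a⁻¹ ^ 2] := by
        rw [pow_two]
        ext i j
        (revert i j; simp only [Matrix.mul_apply, Fin.sum_univ_two, pow_two, _root_.Fin.forall_fin_succ, _root_.Matrix.of_apply, _root_.Matrix.cons_val', _root_.Matrix.cons_val_fin_one, Fin.isValue, _root_.Matrix.cons_val_zero, _root_.Matrix.cons_val_one, _root_.MulZeroClass.mul_zero, _root_.add_zero, _root_.Matrix.cons_val_succ, _root_.zero_add, _root_.forall_const, _root_.MulZeroClass.zero_mul, _root_.and_self, _root_.implies_true])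
      have e4 : (!![a, 0; 0, a⁻¹] : Matrix (Fin 2) (Fin 2) F) ^ 4 = !![a ^ 4, 0; 0, a⁻¹ ^ 4] := by
        have : (!![a, 0; 0, a⁻¹] : Matrix (Fin 2) (Fin 2) F) ^ 4 =
            (!![a, 0; 0, a⁻¹] : Matrix (Fin 2) (Fin 2) F) ^ 2 *
            (!![a, 0; 0, a⁻¹] : Matrix (Fin 2) (Fin 2) F) ^ 2 := by rw [← pow_add]
        rw [this, e2]
        ext i j
        (revert i j; simp only [Matrix.mul_apply, Fin.sum_univ_two, _root_.Fin.forall_fin_succ, _root_.inv_pow, _root_.Matrix.of_apply, _root_.Matrix.cons_val', _root_.Matrix.cons_val_fin_one, Fin.isValue, _root_.Matrix.cons_val_zero, _root_.Matrix.cons_val_one, _root_.MulZeroClass.mul_zero, _root_.add_zero, _root_.Matrix.cons_val_succ, _root_.zero_add, _root_.forall_const, _root_.MulZeroClass.zero_mul, _root_.and_true, _root_.true_and]) <;> (repeat' with_reducible apply And.intro) <;> ring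
      rw [e4, ha, hai4]
      ext i j
      (revert i j; simp only [_root_.Fin.forall_fin_succ, _root_.Matrix.of_apply, _root_.Matrix.cons_val', _root_.Matrix.cons_val_fin_one, _root_.Matrix.neg_apply, Fin.isValue, _root_.Matrix.cons_val_zero, _root_.Matrix.cons_val_succ, _root_.IsEmpty.forall_iff, _root_.and_true, _root_.Matrix.one_apply_eq, Nat.reduceAdd, _root_.Fin.succ_zero_eq_one, _root_.ne_eq, _root_.zero_ne_one, _root_.not_false_eq_true, _root_.Matrix.one_apply_ne, _root_.neg_zero, _root_.and_self, _root_.Fin.succ_ne_zero, _root_.neg_inj, _root_.true_and])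
    · change (!![0, 1; -1, 0] : Matrix (Fin 2) (Fin 2) F) ^ 2 = -1
      rw [pow_two]
      ext i j
      (revert i j; simp only [Matrix.mul_apply, Fin.sum_univ_two, _root_.Fin.forall_fin_succ, _root_.Matrix.of_apply, _root_.Matrix.cons_val', _root_.Matrix.cons_val_fin_one, Fin.isValue, _root_.Matrix.cons_val_zero, _root_.Matrix.cons_val_one, _root_.Matrix.neg_apply, _root_.MulZeroClass.mul_zero, _root_.mul_neg, _root_.mul_one, _root_.zero_add, _root_.neg_inj, _root_.Matrix.cons_val_succ, _root_.add_zero, _root_.IsEmpty.forall_iff, _root_.and_true, _root_.Matrix.one_apply_eq, Nat.reduceAdd, _root_.Fin.succ_zero_eq_one, _root_.ne_eq, _root_.zero_ne_one, _root_.not_false_eq_true, _root_.Matrix.one_apply_ne, _root_.neg_zero, _root_.and_self, _root_.Fin.succ_ne_zero, _root_.true_and])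
    · change (!![a, 0; 0, a⁻¹] : Matrix (Fin 2) (Fin 2) F) * !![0, 1; -1, 0] * !![a, 0; 0, a⁻¹] =
        !![0, 1; -1, 0]
      ext i j
      (revert i j; simp only [Matrix.mul_apply, Fin.sum_univ_two, ha0, _root_.Fin.forall_fin_succ, _root_.Matrix.cons_mul, _root_.Nat.succ_eq_add_one, Nat.reduceAdd, _root_.Matrix.vecMul_cons, _root_.Matrix.head_cons, _root_.Matrix.smul_cons, _root_.smul_eq_mul, _root_.MulZeroClass.mul_zero, _root_.mul_one, _root_.Matrix.smul_empty, _root_.Matrix.tail_cons, _root_.zero_smul, _root_.Matrix.empty_vecMul, _root_.add_zero, _root_.mul_neg, _root_.zero_add, _root_.Matrix.empty_mul, _root_.Equiv.symm_apply_apply, _root_.Matrix.of_apply, _root_.Matrix.cons_val', _root_.Matrix.cons_val_fin_one, Fin.isValue, _root_.Matrix.cons_val_zero, _root_.Matrix.cons_val_one, _root_.Matrix.cons_val_succ, _root_.forall_const, _root_.MulZeroClass.zero_mul, _root_.ne_eq, _root_.not_false_eq_true, _root_.mul_inv_cancel₀, _root_.and_self, _root_.neg_mul, _root_.inv_mul_cancel₀, _root_.implies_true])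
  rcases hF with h | h | h
  · -- seven
    haveI : Fact (Nat.Prime 7) := ⟨by norm_num⟩
    haveI : CharP F 7 := charP_of_card (by norm_num) (k := 1) (by rw [h, pow_one])
    have h7 : (7 : F) = 0 := by
      have := CharP.cast_eq_zero F 7
      exact_mod_cast this
    have h2 : (2 : F) ≠ 0 := by
      intro h2
      exact one_ne_zero (α := F) (by linear_combination h7 - 3 * h2)
    have hX : (!![0, -1; 1, 3] : Matrix (Fin 2) (Fin 2) F) ^ 4 = -1 := by
      have e2 : (!![0, -1; 1, 3] : Matrix (Fin 2) (Fin 2) F) ^ 2 = !![-1, -3; 3, 1] := by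
        rw [pow_two]
        ext i j
        (revert i j; simp only [Matrix.mul_apply, Fin.sum_univ_two, _root_.Fin.forall_fin_succ, _root_.Matrix.of_apply, _root_.Matrix.cons_val', _root_.Matrix.cons_val_fin_one, Fin.isValue, _root_.Matrix.cons_val_zero, _root_.Matrix.cons_val_one, _root_.MulZeroClass.mul_zero, _root_.mul_one, _root_.zero_add, _root_.Matrix.cons_val_succ, _root_.mul_neg, _root_.forall_const, _root_.neg_zero, _root_.neg_mul, _root_.one_mul, _root_.and_true, _root_.true_and]) <;> (repeat' with_reducible apply And.intro)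
        linear_combination h7
      have : (!![0, -1; 1, 3] : Matrix (Fin 2) (Fin 2) F) ^ 4 =
          (!![0, -1; 1, 3] : Matrix (Fin 2) (Fin 2) F) ^ 2 *
          (!![0, -1; 1, 3] : Matrix (Fin 2) (Fin 2) F) ^ 2 := by rw [← pow_add]
      rw [this, e2]
      ext i j
      (revert i j; simp only [Matrix.mul_apply, Fin.sum_univ_two, _root_.Fin.forall_fin_succ, _root_.Matrix.of_apply, _root_.Matrix.cons_val', _root_.Matrix.cons_val_fin_one, Fin.isValue, _root_.Matrix.cons_val_zero, _root_.Matrix.cons_val_one, _root_.Matrix.neg_apply, _root_.mul_neg, _root_.mul_one, _root_.Matrix.cons_val_succ, _root_.IsEmpty.forall_iff, _root_.and_true, _root_.neg_neg, _root_.neg_mul, _root_.Matrix.one_apply_eq, _root_.one_mul, _root_.add_neg_cancel, Nat.reduceAdd, _root_.Fin.succ_zero_eq_one, _root_.ne_eq, _root_.zero_ne_one, _root_.not_false_eq_true, _root_.Matrix.one_apply_ne, _root_.neg_zero, _root_.neg_add_cancel, _root_.Fin.succ_ne_zero, _root_.true_and]) <;> (repeat' with_reducible apply And.intro) <;>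
        linear_combination -h7
    refine excl_of_matrices (p := 7) h2 (by rw [h]; decide) ⟨3, 1, by norm_num, by rw [h]; norm_num⟩
      ⟨2, 2, by norm_num, by rw [h]; norm_num⟩
      ⟨!![0, -1; 1, 3], by rw [Matrix.det_fin_two_of]; ring⟩
      ⟨!![1, 2; -1, -1], by rw [Matrix.det_fin_two_of]; ring⟩ hX ?_ ?_ hns hH
    · change (!![1, 2; -1, -1] : Matrix (Fin 2) (Fin 2) F) ^ 2 = -1
      rw [pow_two]
      ext i j
      (revert i j; simp only [Matrix.mul_apply, Fin.sum_univ_two, _root_.Fin.forall_fin_succ, _root_.Matrix.of_apply, _root_.Matrix.cons_val', _root_.Matrix.cons_val_fin_one, Fin.isValue, _root_.Matrix.cons_val_zero, _root_.Matrix.cons_val_one, _root_.Matrix.neg_apply, _root_.mul_one, _root_.mul_neg, _root_.Matrix.cons_val_succ, _root_.IsEmpty.forall_iff, _root_.and_true, _root_.Matrix.one_apply_eq, _root_.one_mul, _root_.add_neg_cancel, Nat.reduceAdd, _root_.Fin.succ_zero_eq_one, _root_.ne_eq, _root_.zero_ne_one, _root_.not_false_eq_true, _root_.Matrix.one_apply_ne, _root_.neg_zero,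 _root_.neg_neg, _root_.neg_add_cancel, _root_.Fin.succ_ne_zero, _root_.neg_mul, _root_.true_and]) <;> (repeat' with_reducible apply And.intro) <;> ring
    · change (!![0, -1; 1, 3] : Matrix (Fin 2) (Fin 2) F) * !![1, 2; -1, -1] * !![0, -1; 1, 3] =
        !![1, 2; -1, -1]
      ext i j
      (revert i j; simp only [Matrix.mul_apply, Fin.sum_univ_two, _root_.Fin.forall_fin_succ, _root_.Matrix.cons_mul, _root_.Nat.succ_eq_add_one, Nat.reduceAdd, _root_.Matrix.vecMul_cons, _root_.Matrix.head_cons, _root_.zero_smul, _root_.Matrix.tail_cons, _root_.neg_smul, _root_.one_smul, _root_.Matrix.neg_cons, _root_.neg_neg, _root_.Matrix.neg_empty, _root_.Matrix.empty_vecMul, _root_.add_zero, _root_.zero_add, _root_.Matrix.smul_cons, _root_.smul_eq_mul, _root_.mul_neg, _root_.mul_one, _root_.Matrix.smul_empty, _root_.Matrix.add_cons, _root_.Matrix.empty_add_empty, _root_.Matrix.empty_mul, _root_.Equiv.symm_apply_apply, _root_.Matrix.of_apply, _root_.Matrix.cons_val', _root_.Matrix.cons_val_fin_one, Fin.isValue,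 _root_.Matrix.cons_val_zero, _root_.Matrix.cons_val_one, _root_.MulZeroClass.mul_zero, _root_.Matrix.cons_val_succ, _root_.forall_const, _root_.one_mul, _root_.true_and, _root_.neg_add_rev]) <;> (repeat' with_reducible apply And.intro) <;> ring
  · haveI : Fact (Nat.Prime 3) := ⟨by norm_num⟩
    haveI : CharP F 3 := charP_of_card (by norm_num) (k := 2) (by rw [h]; norm_num)
    have h3 : (3 : F) = 0 := by
      have := CharP.cast_eq_zero F 3
      exact_mod_cast this
    have h2 : (2 : F) ≠ 0 := by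
      intro h2
      exact one_ne_zero (α := F) (by linear_combination h3 - h2)
    obtain ⟨i, hi⟩ : ∃ i : F, i * i = -1 := by
      have := (FiniteField.isSquare_neg_one_iff (F := F)).2 (by rw [h]; decide)
      obtain ⟨i, hi⟩ := this
      exact ⟨i, hi.symm⟩
    refine diag 3 h2 (by rw [h]; decide) ⟨2, 2, by norm_num, by rw [h]; norm_num⟩
      ⟨5, 1, by norm_num, by rw [h]; norm_num⟩ (1 + i) ?_
    linear_combination (i ^ 2 + 4 * i + 5) * hi - h3
  · haveI : Fact (Nat.Prime 17) := ⟨by norm_num⟩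
    haveI : CharP F 17 := charP_of_card (by norm_num) (k := 1) (by rw [h, pow_one])
    have h17 : (17 : F) = 0 := by
      have := CharP.cast_eq_zero F 17
      exact_mod_cast this
    have h2 : (2 : F) ≠ 0 := by
      intro h2
      exact one_ne_zero (α := F) (by linear_combination h17 - 8 * h2)
    refine diag 17 h2 (by rw [h]; decide) ⟨2, 3, by norm_num, by rw [h]; norm_num⟩
      ⟨3, 2, by norm_num, by rw [h]; norm_num⟩ 2 ?_
    linear_combination h17

end

end Cfsg.Agent.H528.ClassSize
end
end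

-- part: H528/CPMain
section
prune_inst 0x10202104010000000018000200002000480000000020000151400e0402061d600900210040801800000222400030000000000070020000000000000000010020802a50049308a104200001803007180c00000000000000000000000000041000000000000
set_option linter.all false
open scoped Cfsg.Agent.FastGrp

-- part: H528/CP
section
/-!
# Simple groups of order 60 or 504 whose elements have prime power order

`Good E`: `E` is simple of order 60 or 504, all elements have prime power order and the Sylow subgroups are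
commutative. Centralizers, class sizes, the action on the Sylow 2-subgroups, and exclusion of proper overgroups
when all class sizes have at most two prime divisors.
-/

set_option autoImplicit false
set_option linter.style.haveILetI false

namespace Cfsg.Agent.H528.CP

open Subgroup Cfsg.Agent.H528.ClassSize

/-- `E` is simple of order 60 or 504 with commutative Sylow subgroups and elements of prime power order. -/
structure Good (E : Type*) [Group E] : Prop where
  simple : IsSimpleGroup E
  cp : ∀ x : E, ∃ v k : ℕ, v.Prime ∧ orderOf x = v ^ k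
  ab : ∀ (v : ℕ) [Fact v.Prime] (P : Sylow v E), ∀ a ∈ P, ∀ b ∈ P, a * b = b * a
  card : Nat.card E = 60 ∨ Nat.card E = 504

variable {E : Type*} [Group E]

theorem Good.finite (h : Good E) : Finite E := by
  apply Nat.finite_of_card_ne_zero
  rcases h.card with h1 | h1 <;> rw [h1] <;> norm_num

theorem Good.congr {E' : Type*} [Group E'] (h : Good E) (e : E ≃* E') : Good E' where
  simple := by
    have := h.simple
    have : Nontrivial E' := e.symm.toEquiv.nontrivial
    exact IsSimpleGroup.isSimpleGroup_of_surjective e.toMonoidHom e.surjective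
  cp := fun x => by
    obtain ⟨v, k, hv, h1⟩ := h.cp (e.symm x)
    refine ⟨v, k, hv, ?_⟩
    rw [← h1]
    exact (MulEquiv.orderOf_eq e.symm x).symm
  ab := fun v _ P a ha b hb => by
    have hP : IsPGroup v ((P : Subgroup E').map e.symm.toMonoidHom) := P.isPGroup'.map _
    obtain ⟨Q, hQ⟩ := hP.exists_le_sylow
    have h1 := h.ab v Q (e.symm a) (hQ ⟨a, ha, rfl⟩) (e.symm b) (hQ ⟨b, hb, rfl⟩)
    rw [← map_mul, ← map_mul] at h1
    exact e.symm.injective h1
  card := by
    rw [← Nat.card_congr e.toEquiv]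
    exact h.card

/-- The centralizer of a nonidentity element of a Sylow subgroup is that Sylow subgroup. -/
theorem Good.cent_eq (h : Good E) {v : ℕ} [hv : Fact v.Prime] (P : Sylow v E) {x : E} (hx : x ∈ P)
    (hx1 : x ≠ 1) : Subgroup.centralizer ({x} : Set E) = (P : Subgroup E) := by
  have := h.finite
  have hle : (P : Subgroup E) ≤ Subgroup.centralizer ({x} : Set E) := fun y hy =>
    mem_cent.2 (h.ab v P y hy x hx)
  have hp : IsPGroup v (Subgroup.centralizer ({x} : Set E)) := by
    rw [IsPGroup.iff_orderOf]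
    rintro ⟨y, hy⟩
    rw [mem_cent] at hy
    obtain ⟨j, hj⟩ := (IsPGroup.iff_orderOf.1 P.isPGroup') ⟨x, hx⟩
    rw [Subgroup.orderOf_mk] at hj
    obtain ⟨w, k, hw, hk⟩ := h.cp y
    rw [Subgroup.orderOf_mk]
    by_cases hwv : w = v
    · exact ⟨k, by rw [hk, hwv]⟩
    · rcases Nat.eq_zero_or_pos k with hk0 | hk0
      · exact ⟨0, by rw [hk, hk0, pow_zero, pow_zero]⟩
      exfalso
      have hj0 : j ≠ 0 := by
        rintro rfl
        rw [pow_zero, orderOf_eq_one_iff] at hj
        exact hx1 hj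
      have hcop : (orderOf y).Coprime (orderOf x) := by
        rw [hk, hj]
        exact Nat.Coprime.pow _ _ ((Nat.coprime_primes hw hv.out).2 hwv)
      have hord : orderOf (y * x) = w ^ k * v ^ j := by
        rw [(show Commute y x from hy).orderOf_mul_eq_mul_orderOf_of_coprime hcop, hk, hj]
      obtain ⟨u, m, hu, hm⟩ := h.cp (y * x)
      rw [hord] at hm
      have h1 : w ∣ u ^ m := hm ▸ (dvd_mul_of_dvd_left (dvd_pow_self w hk0.ne') _)
      have h2 : v ∣ u ^ m := hm ▸ (dvd_mul_of_dvd_right (dvd_pow_self v hj0) _)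
      have h3 := (Nat.prime_dvd_prime_iff_eq hw hu).1 (hw.dvd_of_dvd_pow h1)
      have h4 := (Nat.prime_dvd_prime_iff_eq hv.out hu).1 (hv.out.dvd_of_dvd_pow h2)
      exact hwv (h3.trans h4.symm)
  exact P.is_maximal' hp hle

/-- Other primes divide the class size. -/
theorem Good.dvd_ci (h : Good E) {v : ℕ} [hv : Fact v.Prime] (P : Sylow v E) {x : E} (hx : x ∈ P)
    (hx1 : x ≠ 1) {w : ℕ} (hw : w.Prime) (hwv : w ≠ v) (hwE : w ∣ Nat.card E) : w ∣ ci x := by
  have := h.finite
  rw [ci_def, h.cent_eq P hx hx1]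
  rw [← Subgroup.card_mul_index (P : Subgroup E), hw.dvd_mul] at hwE
  rcases hwE with h1 | h1
  · exfalso
    obtain ⟨n, hn⟩ := IsPGroup.iff_card.1 P.isPGroup'
    rw [hn] at h1
    exact hwv ((Nat.prime_dvd_prime_iff_eq hw hv.out).1 (hw.dvd_of_dvd_pow h1))
  · exact h1

/-- Three primes divide the order. -/
theorem Good.primes (h : Good E) : 2 ∣ Nat.card E ∧ 3 ∣ Nat.card E ∧
    (5 ∣ Nat.card E ∨ 7 ∣ Nat.card E) := by
  rcases h.card with h1 | h1 <;> rw [h1] <;> norm_num

theorem Good.exists_sylow_ne (h : Good E) {v : ℕ} (hv : v.Prime) (hd : v ∣ Nat.card E) :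
    ∃ (_ : Fact v.Prime) (P : Sylow v E) (x : E), x ∈ P ∧ x ≠ 1 := by
  have := h.finite
  haveI : Fact v.Prime := ⟨hv⟩
  obtain ⟨x, hx⟩ := exists_prime_orderOf_dvd_card' v hd
  have hp : IsPGroup v (Subgroup.zpowers x) := by
    apply IsPGroup.of_card (n := 1)
    rw [Nat.card_zpowers, hx, pow_one]
  obtain ⟨P, hP⟩ := hp.exists_le_sylow
  refine ⟨this, P, x, hP (Subgroup.mem_zpowers x), ?_⟩
  rintro rfl
  rw [orderOf_one] at hx
  exact hv.one_lt.ne hx

/-- For every prime `v` there is a class whose size has two prime divisors different from `v`. -/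
theorem Good.exists_two (h : Good E) {v : ℕ} (hv : v.Prime) :
    ∃ (x : E) (w₁ w₂ : ℕ), x ≠ 1 ∧ w₁.Prime ∧ w₂.Prime ∧ w₁ ≠ w₂ ∧ w₁ ≠ v ∧ w₂ ≠ v ∧
      w₁ ∣ ci x ∧ w₂ ∣ ci x := by
  obtain ⟨h2, h3, h57⟩ := h.primes
  obtain ⟨r, hr, hr2, hr3, hrE⟩ : ∃ r : ℕ, r.Prime ∧ r ≠ 2 ∧ r ≠ 3 ∧ r ∣ Nat.card E := by
    rcases h57 with h5 | h7
    · exact ⟨5, by norm_num, by norm_num, by norm_num, h5⟩
    · exact ⟨7, by norm_num, by norm_num, by norm_num, h7⟩
  by_cases hv3 : v = 3
  · subst hv3
    obtain ⟨_, P, x, hx, hx1⟩ := h.exists_sylow_ne Nat.prime_three h3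
    exact ⟨x, 2, r, hx1, Nat.prime_two, hr, hr2.symm, by norm_num, hr3,
      h.dvd_ci P hx hx1 Nat.prime_two (by norm_num) h2, h.dvd_ci P hx hx1 hr hr3 hrE⟩
  · by_cases hvr : v = r
    · subst hvr
      obtain ⟨_, P, x, hx, hx1⟩ := h.exists_sylow_ne hv hrE
      exact ⟨x, 2, 3, hx1, Nat.prime_two, Nat.prime_three, by norm_num, hr2.symm, hr3.symm,
        h.dvd_ci P hx hx1 Nat.prime_two hr2.symm h2,
        h.dvd_ci P hx hx1 Nat.prime_three hr3.symm h3⟩
    · obtain ⟨_, P, x, hx, hx1⟩ := h.exists_sylow_ne Nat.prime_two h2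
      exact ⟨x, 3, r, hx1, Nat.prime_three, hr, hr3.symm, fun h => hv3 h.symm,
        fun h => hvr h.symm, h.dvd_ci P hx hx1 Nat.prime_three (by norm_num) h3,
        h.dvd_ci P hx hx1 hr hr2 hrE⟩

/-! ### Step A: a normal `p`-subgroup is central -/

theorem exists_mem_centralizer {G : Type*} [Group G] [Finite G] (hH : Hyp G) (N : Subgroup G)
    [N.Normal] {v : ℕ} [hv : Fact v.Prime] (hN : IsPGroup v N) (hE : Good (G ⧸ N)) :
    ∃ x : G, x ∉ N ∧ x ∈ Subgroup.centralizer (N : Set G) := by
  obtain ⟨y, w₁, w₂, hy1, hw₁, hw₂, hw, h1, h2, hd1, hd2⟩ := hE.exists_two hv.out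
  obtain ⟨x, rfl⟩ := QuotientGroup.mk'_surjective N y
  have hxN : x ∉ N := by
    intro h
    apply hy1
    rw [QuotientGroup.mk'_apply, QuotientGroup.eq_one_iff]
    exact h
  have hdv := ci_map_dvd (QuotientGroup.mk' N) (QuotientGroup.mk'_surjective N) x
  have hnv : ¬ v ∣ ci x := fun h3 =>
    hH.not_three x hw₁ hw₂ hv.out hw h1 h2 (hd1.trans hdv) (hd2.trans hdv) h3
  obtain ⟨P, hP⟩ := exists_sylow_le_cent v x hnv
  refine ⟨x, hxN, ?_⟩
  rw [Subgroup.mem_centralizer_iff]
  intro n hn
  exact mem_cent.1 (hP (le_sylow N hN P hn))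

theorem le_center {G : Type*} [Group G] [Finite G] (hH : Hyp G) (N : Subgroup G)
    [N.Normal] {v : ℕ} [hv : Fact v.Prime] (hN : IsPGroup v N) (hNc : ∀ a ∈ N, ∀ b ∈ N, a * b = b * a)
    (hE : Good (G ⧸ N)) : N ≤ Subgroup.center G := by
  obtain ⟨x, hxN, hx⟩ := exists_mem_centralizer hH N hN hE
  set C := Subgroup.centralizer (N : Set G) with hC
  have hCn : C.Normal := inferInstance
  have hNC : N ≤ C := fun a ha => Subgroup.mem_centralizer_iff.2 (fun b hb => hNc b hb a ha)
  have := hE.simple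
  have hM : (C.map (QuotientGroup.mk' N)).Normal :=
    Subgroup.Normal.map hCn _ (QuotientGroup.mk'_surjective N)
  have htop : C.map (QuotientGroup.mk' N) = ⊤ := by
    rcases hM.eq_bot_or_eq_top with h1 | h1
    · exfalso
      have h2 : QuotientGroup.mk' N x ∈ C.map (QuotientGroup.mk' N) := ⟨x, hx, rfl⟩
      rw [h1, Subgroup.mem_bot, QuotientGroup.mk'_apply, QuotientGroup.eq_one_iff] at h2
      exact hxN h2
    · exact h1
  intro n hn
  rw [Subgroup.mem_center_iff]
  intro g
  have h1 : QuotientGroup.mk' N g ∈ C.map (QuotientGroup.mk' N) := htop ▸ Subgroup.mem_top _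
  obtain ⟨c, hc, hcg⟩ := h1
  have h2 : c⁻¹ * g ∈ N := by
    rw [QuotientGroup.mk'_apply, QuotientGroup.mk'_apply] at hcg
    exact QuotientGroup.eq.1 hcg
  have h3 : g ∈ C := by
    have h4 : g = c * (c⁻¹ * g) := by group
    rw [h4]
    exact C.mul_mem hc (hNC h2)
  exact (Subgroup.mem_centralizer_iff.1 h3 n hn).symm

/-! ### Step B: no perfect central extension -/

theorem no_perfect_central {G : Type*} [Group G] [Finite G] (hH : Hyp G) (hperf : commutator G = ⊤)
    (N : Subgroup G) [N.Normal] {v : ℕ} [hv : Fact v.Prime] (hN : IsPGroup v N) (hN1 : N ≠ ⊥)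
    (hNz : N ≤ Subgroup.center G) (hE : Good (G ⧸ N)) : False := by
  obtain ⟨P⟩ : Nonempty (Sylow v G) := inferInstance
  have hNP : N ≤ (P : Subgroup G) := le_sylow N hN P
  set f := QuotientGroup.mk' N with hf
  have hfs : Function.Surjective f := QuotientGroup.mk'_surjective N
  have key : ∀ a ∈ P, ∀ b ∈ P, a * b = b * a := by
    intro a ha b hb
    by_cases haN : a ∈ N
    · exact (Subgroup.mem_center_iff.1 (hNz haN) b).symm
    have ha1 : f a ≠ 1 := by
      intro h
      rw [hf, QuotientGroup.mk'_apply, QuotientGroup.eq_one_iff] at h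
      exact haN h
    have haP : f a ∈ (P.mapSurjective hfs : Sylow v (G ⧸ N)) := ⟨a, ha, rfl⟩
    have hcent := hE.cent_eq (P.mapSurjective hfs) haP ha1
    -- two other primes divide the class size
    have hnv : ¬ v ∣ ci a := by
      intro hva
      have hdv := ci_map_dvd f hfs a
      obtain ⟨h2, h3, h57⟩ := hE.primes
      obtain ⟨r, hr, hr2, hr3, hrE⟩ : ∃ r : ℕ, r.Prime ∧ r ≠ 2 ∧ r ≠ 3 ∧ r ∣ Nat.card (G ⧸ N) := by
        rcases h57 with h5 | h7
        · exact ⟨5, by norm_num, by norm_num, by norm_num, h5⟩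
        · exact ⟨7, by norm_num, by norm_num, by norm_num, h7⟩
      have hd : ∀ w : ℕ, w.Prime → w ≠ v → w ∣ Nat.card (G ⧸ N) → w ∣ ci a := fun w hw hwv hwE =>
        (hE.dvd_ci (P.mapSurjective hfs) haP ha1 hw hwv hwE).trans hdv
      by_cases hv2 : v = 2
      · exact hH.not_three a Nat.prime_three hr hv.out hr3.symm (by rw [hv2]; norm_num)
          (by rw [hv2]; exact hr2) (hd 3 Nat.prime_three (by rw [hv2]; norm_num) h3)
          (hd r hr (by rw [hv2]; exact hr2) hrE) hva
      · by_cases hv3 : v = 3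
        · exact hH.not_three a Nat.prime_two hr hv.out hr2.symm (fun h => hv2 h.symm)
            (by rw [hv3]; exact hr3) (hd 2 Nat.prime_two (fun h => hv2 h.symm) h2)
            (hd r hr (by rw [hv3]; exact hr3) hrE) hva
        · exact hH.not_three a Nat.prime_two Nat.prime_three hv.out (by norm_num)
            (fun h => hv2 h.symm) (fun h => hv3 h.symm)
            (hd 2 Nat.prime_two (fun h => hv2 h.symm) h2)
            (hd 3 Nat.prime_three (fun h => hv3 h.symm) h3) hva
    obtain ⟨Q, hQ⟩ := exists_sylow_le_cent v a hnv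
    have hQP : (Q : Subgroup G) ≤ (P : Subgroup G) := by
      intro y hy
      have h1 : f y ∈ Subgroup.centralizer ({f a} : Set (G ⧸ N)) := by
        rw [mem_cent, ← map_mul, ← map_mul, mem_cent.1 (hQ hy)]
      rw [hcent] at h1
      obtain ⟨z, hz, hzy⟩ := h1
      have h2 : z⁻¹ * y ∈ N := by
        rw [hf, QuotientGroup.mk'_apply, QuotientGroup.mk'_apply] at hzy
        exact QuotientGroup.eq.1 hzy
      have h4 : y = z * (z⁻¹ * y) := by group
      rw [h4]
      exact (P : Subgroup G).mul_mem hz (hNP h2)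
    have hPQ : (P : Subgroup G) = Q := Q.is_maximal' P.isPGroup' hQP
    have hb' : b ∈ (Q : Subgroup G) := hPQ ▸ hb
    exact (mem_cent.1 (hQ hb')).symm
  obtain ⟨x, hx⟩ : ∃ x : N, orderOf x = v := by
    have hcard : v ∣ Nat.card N := by
      obtain ⟨n, hn⟩ := IsPGroup.iff_card.1 hN
      rcases Nat.eq_zero_or_pos n with h0 | h0
      · exact absurd (Subgroup.card_eq_one.1 (by rw [hn, h0, pow_zero])) hN1
      · rw [hn]; exact dvd_pow_self v h0.ne'
    exact exists_prime_orderOf_dvd_card' v hcard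
  haveI : IsMulCommutative (P : Subgroup G) :=
    ⟨⟨fun a b => Subtype.ext (key a a.2 b b.2)⟩⟩
  exact Cfsg.Agent.PermutationGroups.ZassEnd.no_central hperf P (x : G) (hNz x.2)
    (by rw [← hx]; exact Subgroup.orderOf_coe x)

end Cfsg.Agent.H528.CP
end

-- part: H528/CPAut
section
/-!
# No proper overgroups of simple groups of order 60 or 504 with small class sizes

If `E ⊴ G`, `E` is `Good`, `C_G(E) = 1` and all class sizes of `G` have at most two prime divisors, then `E = G`.
-/

set_option autoImplicit false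
set_option linter.style.haveILetI false

namespace Cfsg.Agent.H528.CP

open Subgroup Cfsg.Agent.H528.ClassSize

variable {E : Type*} [Group E]

/-- The order of a Sylow 2-subgroup. -/
theorem Good.card_two (h : Good E) (T : Sylow 2 E) :
    ∃ q : ℕ, Nat.card T = q ∧ Nat.card E = q * ((q - 1) * (q + 1)) ∧ (q - 1).Prime ∧ 4 ≤ q ∧
      (q = 4 ∨ q = 8) := by
  have := h.finite
  obtain ⟨n, hn⟩ := IsPGroup.iff_card.1 T.isPGroup'
  have h1 := Subgroup.card_mul_index (T : Subgroup E)
  have h2 := T.not_dvd_index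
  rw [hn] at h1
  rcases h.card with h3 | h3
  · rw [h3] at h1
    have hn2 : n = 2 := by
      have hle : n < 6 := by
        by_contra hc
        have : 2 ^ 6 ∣ 60 := (pow_dvd_pow 2 (not_lt.1 hc)).trans (Dvd.intro _ h1)
        omega
      interval_cases n <;> (clear * - h2 h1; omega)
    refine ⟨4, by rw [hn, hn2]; norm_num, by rw [h3], by norm_num, le_refl _, Or.inl rfl⟩
  · rw [h3] at h1
    have hn2 : n = 3 := by
      have hle : n < 9 := by
        by_contra hc
        have : 2 ^ 9 ∣ 504 := (pow_dvd_pow 2 (not_lt.1 hc)).trans (Dvd.intro _ h1)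
        omega
      interval_cases n <;> (clear * - h2 h1; omega)
    refine ⟨8, by rw [hn, hn2]; norm_num, by rw [h3], by norm_num, by norm_num, Or.inr rfl⟩

/-- Distinct Sylow 2-subgroups meet trivially. -/
theorem Good.inf_eq (h : Good E) {T S : Sylow 2 E} {x : E} (hT : x ∈ T) (hS : x ∈ S) (hx : x ≠ 1) :
    T = S := by
  apply Sylow.ext
  rw [← h.cent_eq T hT hx, ← h.cent_eq S hS hx]

/-- The normalizer of a Sylow 2-subgroup: a prime dividing its index over `T` is `q - 1`. -/
theorem Good.card_normalizer (h : Good E) (T : Sylow 2 E) {q : ℕ} (hq : Nat.card T = q)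
    (hcard : Nat.card E = q * ((q - 1) * (q + 1))) (hqp : (q - 1).Prime) (hq4 : 4 ≤ q)
    (hq48 : q = 4 ∨ q = 8) :
    Nat.card (Subgroup.normalizer ((T : Subgroup E) : Set E)) = q * (q - 1) := by
  have := h.finite
  have hsimple := h.simple
  set N := Subgroup.normalizer ((T : Subgroup E) : Set E) with hN
  have hTN : (T : Subgroup E) ≤ N := Subgroup.le_normalizer
  obtain ⟨k, hk⟩ := Subgroup.card_dvd_of_le hTN
  rw [hq] at hk
  have hkd : k ∣ (q - 1) * (q + 1) := by
    have h1 : q * k ∣ q * ((q - 1) * (q + 1)) := by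
      rw [← hk, ← hcard]; exact Subgroup.card_subgroup_dvd_card N
    exact Nat.dvd_of_mul_dvd_mul_left (by omega) h1
  -- every prime divisor of `k` is `q - 1`
  have hprime : ∀ l : ℕ, l.Prime → l ∣ k → l = q - 1 := by
    intro l hl hlk
    haveI : Fact l.Prime := ⟨hl⟩
    have hl2 : l ≠ 2 := by
      rintro rfl
      have h2 := hlk.trans hkd
      rcases hq48 with rfl | rfl <;> norm_num at h2
    obtain ⟨d, hd⟩ : ∃ d : N, orderOf d = l :=
      exists_prime_orderOf_dvd_card' l (hk ▸ (dvd_mul_of_dvd_right hlk q))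
    -- the action of `⟨d⟩` on `T` by conjugation
    let f : Subgroup.zpowers d →* MulAut (T : Subgroup E) :=
      (Subgroup.normalizerMonoidHom (T : Subgroup E)).comp (Subgroup.subtype _)
    letI : MulAction (Subgroup.zpowers d) (T : Subgroup E) := MulAction.compHom _ f
    have hpz : IsPGroup l (Subgroup.zpowers d) := by
      apply IsPGroup.of_card (n := 1)
      rw [Nat.card_zpowers, hd, pow_one]
    have hmod := hpz.card_modEq_card_fixedPoints (T : Subgroup E)
    have hfix : Nat.card (MulAction.fixedPoints (Subgroup.zpowers d) (T : Subgroup E)) = 1 := by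
      rw [Nat.card_eq_one_iff_unique]
      refine ⟨⟨?_⟩, ⟨⟨1, ?_⟩⟩⟩
      · suffices H : ∀ a : MulAction.fixedPoints (Subgroup.zpowers d) (T : Subgroup E),
            (a : (T : Subgroup E)) = 1 by
          intro a b
          apply Subtype.ext
          rw [H a, H b]
        rintro ⟨⟨t, ht⟩, hfx⟩
        by_contra hne
        have ht1 : t ≠ 1 := by
          rintro rfl
          exact hne rfl
        have h1 := hfx ⟨d, Subgroup.mem_zpowers d⟩
        have h2 : (d : E) * t * (d : E)⁻¹ = t := congrArg Subtype.val h1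
        have h3 : (d : E) ∈ Subgroup.centralizer ({t} : Set E) := by
          rw [mem_cent]
          calc (d : E) * t = ((d : E) * t * (d : E)⁻¹) * d := by group
            _ = t * d := by rw [h2]
        rw [h.cent_eq T ht ht1] at h3
        obtain ⟨m, hm⟩ := (IsPGroup.iff_orderOf.1 T.isPGroup') ⟨d, h3⟩
        rw [Subgroup.orderOf_mk, Subgroup.orderOf_coe, hd] at hm
        have h4 : l ∣ 2 ^ m := by rw [← hm]
        exact hl2 ((Nat.prime_dvd_prime_iff_eq hl Nat.prime_two).1 (hl.dvd_of_dvd_pow h4))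
      · intro g
        exact map_one (f g)
    have hqm : q ≡ 1 [MOD l] := by
      rw [← hq]
      have : Nat.card (T : Subgroup E) = Nat.card T := rfl
      rw [← this]
      rw [hfix] at hmod
      exact hmod
    have hlq : l ∣ q - 1 := (Nat.modEq_iff_dvd' (by omega)).1 hqm.symm
    exact (Nat.prime_dvd_prime_iff_eq hl hqp).1 hlq
  -- `k ≠ 1` by Burnside
  have hk1 : k ≠ 1 := by
    rintro rfl
    rw [mul_one] at hk
    have hNT : (T : Subgroup E) = N := Subgroup.eq_of_le_of_card_ge hTN (by rw [hk, ← hq])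
    have hle : Subgroup.normalizer ((T : Subgroup E) : Set E) ≤
        Subgroup.centralizer ((T : Subgroup E) : Set E) := by
      rw [← hN, ← hNT]
      intro a ha
      rw [Subgroup.mem_centralizer_iff]
      intro b hb
      exact h.ab 2 T b hb a ha
    have hc := MonoidHom.ker_transferSylow_isComplement' T hle
    have hcm := hc.card_mul_card
    rcases (MonoidHom.normal_ker (MonoidHom.transferSylow T hle)).eq_bot_or_eq_top with h1 | h1
    · rw [h1, Subgroup.card_bot, one_mul, hcard] at hcm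
      have : Nat.card (T : Subgroup E) = q := hq
      rw [this] at hcm
      rcases hq48 with rfl | rfl <;> omega
    · rw [h1, Subgroup.card_top, hcard] at hcm
      have : Nat.card (T : Subgroup E) = q := hq
      rw [this] at hcm
      rcases hq48 with rfl | rfl <;> omega
  rw [hk]
  congr 1
  rcases hq48 with rfl | rfl
  · have h1 : k ∈ Nat.divisors 15 := by
      rw [Nat.mem_divisors]; exact ⟨by simpa using hkd, by norm_num⟩
    have h2 : (Nat.divisors 15) = {1, 3, 5, 15} := by decide
    rw [h2] at h1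
    simp only [Finset.mem_insert, Finset.mem_singleton] at h1
    rcases h1 with rfl | rfl | rfl | rfl
    · exact absurd rfl hk1
    · rfl
    · exact absurd (hprime 5 (by norm_num) (by norm_num)) (by norm_num)
    · exact absurd (hprime 5 (by norm_num) (by norm_num)) (by norm_num)
  · have h1 : k ∈ Nat.divisors 63 := by
      rw [Nat.mem_divisors]; exact ⟨by simpa using hkd, by norm_num⟩
    have h2 : (Nat.divisors 63) = {1, 3, 7, 9, 21, 63} := by decide
    rw [h2] at h1
    simp only [Finset.mem_insert, Finset.mem_singleton] at h1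
    rcases h1 with rfl | rfl | rfl | rfl | rfl | rfl
    · exact absurd rfl hk1
    · exact absurd (hprime 3 (by norm_num) (by norm_num)) (by norm_num)
    · rfl
    · exact absurd (hprime 3 (by norm_num) (by norm_num)) (by norm_num)
    · exact absurd (hprime 3 (by norm_num) (by norm_num)) (by norm_num)
    · exact absurd (hprime 3 (by norm_num) (by norm_num)) (by norm_num)

theorem Good.card_sylow (h : Good E) (T : Sylow 2 E) {q : ℕ} (hq : Nat.card T = q)
    (hcard : Nat.card E = q * ((q - 1) * (q + 1))) (hqp : (q - 1).Prime) (hq4 : 4 ≤ q)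
    (hq48 : q = 4 ∨ q = 8) : Nat.card (Sylow 2 E) = q + 1 := by
  have := h.finite
  have h1 := h.card_normalizer T hq hcard hqp hq4 hq48
  have h2 : Nat.card (Sylow 2 E) = (Subgroup.normalizer ((T : Subgroup E) : Set E)).index :=
    Sylow.card_eq_index_normalizer T
  have h3 := Subgroup.card_mul_index (Subgroup.normalizer ((T : Subgroup E) : Set E))
  rw [h1, hcard] at h3
  rw [h2]
  have h4 : q * (q - 1) ≠ 0 := Nat.mul_ne_zero (by omega) hqp.ne_zero
  have h5 : q * (q - 1) * (Subgroup.normalizer ((T : Subgroup E) : Set E)).index =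
      q * (q - 1) * (q + 1) := by rw [h3]; ring
  exact Nat.eq_of_mul_eq_mul_left (Nat.pos_of_ne_zero h4) h5

/-- All nonidentity elements of a Sylow 2-subgroup are conjugate (in its normalizer). -/
theorem Good.conj (h : Good E) (T : Sylow 2 E) {u t : E} (hu : u ∈ T) (hu1 : u ≠ 1) (ht : t ∈ T)
    (ht1 : t ≠ 1) : ∃ g : E, g * u * g⁻¹ = t := by
  have := h.finite
  obtain ⟨q, hq, hcard, hqp, hq4, hq48⟩ := h.card_two T
  have h1 := h.card_normalizer T hq hcard hqp hq4 hq48
  haveI : Fact (q - 1).Prime := ⟨hqp⟩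
  obtain ⟨d, hd⟩ : ∃ d : (Subgroup.normalizer ((T : Subgroup E) : Set E)), orderOf d = q - 1 :=
    exists_prime_orderOf_dvd_card' (q - 1) (h1 ▸ dvd_mul_left _ _)
  have hdn : ∀ (m : ℕ) (x : E), x ∈ T → (d : E) ^ m * x * ((d : E) ^ m)⁻¹ ∈ T := by
    intro m x hx
    have h2 : (d : E) ^ m ∈ Subgroup.normalizer ((T : Subgroup E) : Set E) :=
      Subgroup.pow_mem _ d.2 m
    exact (Subgroup.mem_normalizer_iff.1 h2 x).1 hx
  let f : Fin (q - 1) → {t : (T : Subgroup E) // t ≠ 1} := fun m =>
    ⟨⟨(d : E) ^ (m : ℕ) * u * ((d : E) ^ (m : ℕ))⁻¹, hdn m u hu⟩, by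
      intro h3
      have h4 : (d : E) ^ (m : ℕ) * u * ((d : E) ^ (m : ℕ))⁻¹ = 1 := congrArg Subtype.val h3
      exact hu1 (conj_eq_one_iff.1 h4)⟩
  have hq2 : ¬ (2 : ℕ) ∣ (q - 1) := by rcases hq48 with rfl | rfl <;> norm_num
  have hle : ∀ a b : Fin (q - 1), (a : ℕ) ≤ b → f a = f b → a = b := by
    intro a b hab hf
    have h3 : (d : E) ^ (a : ℕ) * u * ((d : E) ^ (a : ℕ))⁻¹ =
        (d : E) ^ (b : ℕ) * u * ((d : E) ^ (b : ℕ))⁻¹ :=
      congrArg (fun z : {t : (T : Subgroup E) // t ≠ 1} => ((z : (T : Subgroup E)) : E)) hf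
    have h4 : (d : E) ^ ((b : ℕ) - a) * u = u * (d : E) ^ ((b : ℕ) - a) := by
      have h5 : (d : E) ^ (b : ℕ) = (d : E) ^ (a : ℕ) * (d : E) ^ ((b : ℕ) - a) := by
        rw [← pow_add]; congr 1; omega
      rw [h5] at h3
      have h6 : u = (d : E) ^ ((b : ℕ) - a) * u * ((d : E) ^ ((b : ℕ) - a))⁻¹ := by
        have h7 := congrArg (fun z => ((d : E) ^ (a : ℕ))⁻¹ * z * (d : E) ^ (a : ℕ)) h3
        simp only [mul_inv_rev] at h7
        have h8 : ((d : E) ^ (a : ℕ))⁻¹ * ((d : E) ^ (a : ℕ) * u * ((d : E) ^ (a : ℕ))⁻¹) *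
            (d : E) ^ (a : ℕ) = u := by group
        rw [h8] at h7
        exact h7.trans (by group)
      calc (d : E) ^ ((b : ℕ) - a) * u
          = ((d : E) ^ ((b : ℕ) - a) * u * ((d : E) ^ ((b : ℕ) - a))⁻¹) * (d : E) ^ ((b : ℕ) - a) := by
            group
        _ = u * (d : E) ^ ((b : ℕ) - a) := by rw [← h6]
    have h5 : (d : E) ^ ((b : ℕ) - a) ∈ (T : Subgroup E) := by
      have h6 : (d : E) ^ ((b : ℕ) - a) ∈ Subgroup.centralizer ({u} : Set E) := mem_cent.2 h4
      have h7 := h.cent_eq T hu hu1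
      exact h7.le h6
    obtain ⟨m, hm⟩ := T.isPGroup' ⟨_, h5⟩
    have h6 : ((d : E) ^ ((b : ℕ) - a)) ^ 2 ^ m = 1 := congrArg Subtype.val hm
    rw [← pow_mul] at h6
    have h7 : (q - 1) ∣ ((b : ℕ) - a) * 2 ^ m := by
      have h8 := orderOf_dvd_of_pow_eq_one h6
      rwa [Subgroup.orderOf_coe, hd] at h8
    have h8 : (q - 1) ∣ (b : ℕ) - a := by
      rcases (hqp.dvd_mul).1 h7 with h9 | h9
      · exact h9
      · exfalso
        have h10 := (Nat.prime_dvd_prime_iff_eq hqp Nat.prime_two).1 (hqp.dvd_of_dvd_pow h9)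
        rcases hq48 with rfl | rfl <;> omega
    have h9 : (b : ℕ) - a = 0 := Nat.eq_zero_of_dvd_of_lt h8 (by omega)
    apply Fin.ext
    omega
  have hinj : Function.Injective f := by
    intro a b hf
    rcases le_total (a : ℕ) b with h3 | h3
    · exact hle a b h3 hf
    · exact (hle b a h3 hf.symm).symm
  have hcT : Nat.card {t : (T : Subgroup E) // t ≠ 1} = q - 1 := by
    have h3 : Nat.card (T : Subgroup E) = q := hq
    classical
    letI : Fintype (T : Subgroup E) := Fintype.ofFinite _
    rw [← h3, Nat.card_eq_fintype_card, Nat.card_eq_fintype_card]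
    simp only [_root_.ne_eq, _root_.Fintype.card_subtype_compl, _root_.Fintype.card_unique]
  have hbij : Function.Bijective f := by
    rw [Nat.bijective_iff_injective_and_card]
    exact ⟨hinj, by rw [Nat.card_fin, hcT]⟩
  obtain ⟨m, hm⟩ := hbij.2 ⟨⟨t, ht⟩, fun h3 => ht1 (congrArg Subtype.val h3)⟩
  exact ⟨(d : E) ^ (m : ℕ),
    congrArg (fun z : {t : (T : Subgroup E) // t ≠ 1} => ((z : (T : Subgroup E)) : E)) hm⟩

/-- Sylow 2-subgroups are elementary abelian. -/
theorem Good.mul_self (h : Good E) (T : Sylow 2 E) {t : E} (ht : t ∈ T) : t * t = 1 := by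
  have := h.finite
  by_cases ht1 : t = 1
  · rw [ht1, mul_one]
  obtain ⟨q, hq, hcard, hqp, hq4, hq48⟩ := h.card_two T
  obtain ⟨u, hu⟩ : ∃ u : (T : Subgroup E), orderOf u = 2 := by
    apply exists_prime_orderOf_dvd_card' 2
    have : Nat.card (T : Subgroup E) = q := hq
    rw [this]
    rcases hq48 with rfl | rfl <;> norm_num
  have hu1 : (u : E) ≠ 1 := by
    intro h1
    rw [← Subgroup.orderOf_coe, h1, orderOf_one] at hu
    omega
  obtain ⟨g, hg⟩ := h.conj T u.2 hu1 ht ht1
  have hu2 : (u : E) * u = 1 := by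
    have h1 := pow_orderOf_eq_one u
    rw [hu, pow_two] at h1
    exact congrArg Subtype.val h1
  rw [← hg]
  calc g * u * g⁻¹ * (g * u * g⁻¹) = g * (u * u) * g⁻¹ := by group
    _ = 1 := by rw [hu2]; group

/-- An element acting trivially on the Sylow 2-subgroups is trivial. -/
theorem Good.eq_one_of_smul (h : Good E) {s : E} (hs : ∀ w : Sylow 2 E, s • w = w) : s = 1 := by
  have := h.finite
  have := h.simple
  obtain ⟨T⟩ : Nonempty (Sylow 2 E) := inferInstance
  obtain ⟨q, hq, hcard, hqp, hq4, hq48⟩ := h.card_two T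
  have hc := h.card_sylow T hq hcard hqp hq4 hq48
  have hmem : s ∈ (MulAction.toPermHom E (Sylow 2 E)).ker := by
    rw [MonoidHom.mem_ker]
    ext w : 1
    exact hs w
  rcases (MonoidHom.normal_ker (MulAction.toPermHom E (Sylow 2 E))).eq_bot_or_eq_top with h1 | h1
  · rw [h1, Subgroup.mem_bot] at hmem
    exact hmem
  · exfalso
    have hsub : Subsingleton (Sylow 2 E) := by
      refine ⟨fun a b => ?_⟩
      obtain ⟨g, hg⟩ := MulAction.exists_smul_eq E a b
      have h2 : g ∈ (MulAction.toPermHom E (Sylow 2 E)).ker := h1 ▸ Subgroup.mem_top g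
      rw [MonoidHom.mem_ker] at h2
      have h3 : g • a = a := congrArg (fun σ : Equiv.Perm (Sylow 2 E) => σ a) h2
      rw [← hg, h3]
    have h4 : Nat.card (Sylow 2 E) = 1 := Nat.card_eq_one_iff_unique.2 ⟨hsub, ⟨T⟩⟩
    omega

/-- An element centralizing a Sylow 2-subgroup of `E` lies in `E`. -/
theorem Good.mem_of_centralizes {G : Type*} [Group G] [Finite G] {E : Subgroup G} [E.Normal]
    (h : Good E) (hC : Subgroup.centralizer (E : Set G) = ⊥) (T : Sylow 2 E) (g : G)
    (hg : ∀ t : E, t ∈ T → g * t = t * g) : g ∈ E := by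
  obtain ⟨q, hq, hcard, hqp, hq4, hq48⟩ := h.card_two T
  have hc := h.card_sylow T hq hcard hqp hq4 hq48
  -- another Sylow subgroup
  obtain ⟨w, hw⟩ : ∃ w : Sylow 2 E, w ≠ T := by
    by_contra hcon
    push Not at hcon
    have h1 : Subsingleton (Sylow 2 E) := ⟨fun a b => (hcon a).trans (hcon b).symm⟩
    have h4 : Nat.card (Sylow 2 E) = 1 := Nat.card_eq_one_iff_unique.2 ⟨h1, ⟨T⟩⟩
    omega
  have hTT : ∀ t : E, t ∈ T → t • T = T := fun t ht =>
    Sylow.smul_eq_iff_mem_normalizer.2 (Subgroup.le_normalizer ht)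
  -- `T` acts regularly on the other ones
  let f : ↥(T : Subgroup E) → {x : Sylow 2 E // x ≠ T} := fun t =>
    ⟨(t : E) • w, fun h1 => hw (by
      have h2 := congrArg (fun y => (t : E)⁻¹ • y) h1
      simp only [inv_smul_smul] at h2
      rw [h2]
      exact hTT _ ((T : Subgroup E).inv_mem t.2))⟩
  have hfinj : Function.Injective f := by
    intro a b hab
    have h1 : (a : E) • w = (b : E) • w := congrArg Subtype.val hab
    have h2 : ((b : E)⁻¹ * a) • w = w := by
      rw [mul_smul, h1, inv_smul_smul]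
    have h3 : ((b : E)⁻¹ * a) ∈ Subgroup.normalizer ((w : Subgroup E) : Set E) :=
      Sylow.smul_eq_iff_mem_normalizer.1 h2
    have h4 : ((b : E)⁻¹ * a) ∈ (T : Subgroup E) :=
      (T : Subgroup E).mul_mem ((T : Subgroup E).inv_mem b.2) a.2
    have h5 : ((b : E)⁻¹ * a) ∈ (T : Subgroup E) ⊓ (w : Subgroup E) := by
      rw [← T.isPGroup'.inf_normalizer_sylow w]
      exact ⟨h4, h3⟩
    by_contra hne
    have h6 : ((b : E)⁻¹ * a) ≠ 1 := by
      intro h7
      apply hne
      apply Subtype.ext
      exact (inv_mul_eq_one.1 h7).symm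
    exact hw (h.inf_eq (T := T) (S := w) h5.1 h5.2 h6).symm
  have hcard2 : Nat.card {x : Sylow 2 E // x ≠ T} = q := by
    classical
    letI : Fintype (Sylow 2 E) := Fintype.ofFinite _
    rw [Nat.card_eq_fintype_card] at hc ⊢
    simp only [ne_eq, Fintype.card_subtype_compl, Fintype.card_unique, hc]
    omega
  have hbij : Function.Bijective f := by
    rw [Nat.bijective_iff_injective_and_card]
    refine ⟨hfinj, ?_⟩
    rw [hcard2]
    exact hq
  -- the automorphisms
  have hcomm : ∀ (α : MulAut E) (s : E), α * MulAut.conj s = MulAut.conj (α s) * α := by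
    intro α s
    ext x
    simp only [_root_.MulAut.mul_apply, _root_.MulAut.conj_apply, _root_.map_mul, _root_.map_inv, _root_.Subgroup.coe_mul, _root_.InvMemClass.coe_inv]
  have hsm : ∀ (α : MulAut E) (s : E) (x : Sylow 2 E), α • (s • x) = (α s) • (α • x) := by
    intro α s x
    rw [Sylow.smul_def, Sylow.smul_def, smul_smul, smul_smul, hcomm]
  have hfixT : ∀ k : G, (∀ t : E, t ∈ T → k * t = t * k) →
      (MulAut.conjNormal k : MulAut E) • T = T := by
    intro k hk
    apply Sylow.ext
    apply SetLike.ext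
    intro t
    have hkt : ∀ t : E, t ∈ T → (MulAut.conjNormal k : MulAut E) t = t := by
      intro t ht
      apply Subtype.ext
      rw [MulAut.conjNormal_apply, hk t ht, mul_inv_cancel_right]
    constructor
    · intro ht
      obtain ⟨s, hs, rfl⟩ := (Subgroup.mem_map.1 ht : _)
      have h1 : (MulAut.conjNormal k : MulAut E) s = s := hkt s hs
      change (MulAut.conjNormal k : MulAut E) s ∈ _
      rw [h1]
      exact hs
    · intro ht
      exact ⟨t, ht, hkt t ht⟩
  -- `g w = t w`
  have hgw : (MulAut.conjNormal g : MulAut E) • w ≠ T := by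
    intro h1
    apply hw
    have h2 := congrArg (fun y => (MulAut.conjNormal g : MulAut E)⁻¹ • y) h1
    simp only [inv_smul_smul] at h2
    rw [h2]
    conv_lhs => rw [← hfixT g hg]
    rw [inv_smul_smul]
  obtain ⟨t, ht⟩ := hbij.2 ⟨_, hgw⟩
  have ht' : (t : E) • w = (MulAut.conjNormal g : MulAut E) • w := congrArg Subtype.val ht
  -- replace `g` by `k = t⁻¹ g`
  set k : G := ((t : E) : G)⁻¹ * g with hk
  have hkT : ∀ s : E, s ∈ T → k * s = s * k := by
    intro s hs
    have h1 : ((t : E) : G) * s = s * (t : E) := congrArg Subtype.val (h.ab 2 T t t.2 s hs)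
    have h2 : ((t : E) : G)⁻¹ * s = s * ((t : E) : G)⁻¹ := by
      rw [inv_mul_eq_iff_eq_mul, ← mul_assoc, h1, mul_inv_cancel_right]
    rw [hk, mul_assoc, hg s hs, ← mul_assoc, h2, mul_assoc]
  have hconj : (MulAut.conjNormal ((t : E) : G) : MulAut E) = MulAut.conj (t : E) := by
    ext x
    rw [MulAut.conjNormal_apply, MulAut.conj_apply]
    rfl
  have hkw : (MulAut.conjNormal k : MulAut E) • w = w := by
    rw [hk, map_mul, map_inv, mul_smul, ← ht', Sylow.smul_def, ← hconj, inv_smul_smul]
  have hkall : ∀ x : Sylow 2 E, (MulAut.conjNormal k : MulAut E) • x = x := by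
    intro x
    by_cases hx : x = T
    · rw [hx]; exact hfixT k hkT
    · obtain ⟨s, hs⟩ := hbij.2 ⟨x, hx⟩
      have hs' : (s : E) • w = x := congrArg Subtype.val hs
      have h1 : (MulAut.conjNormal k : MulAut E) (s : E) = s := by
        apply Subtype.ext
        rw [MulAut.conjNormal_apply, hkT s s.2, mul_inv_cancel_right]
      rw [← hs', hsm, h1, hkw]
  have hk1 : k ∈ Subgroup.centralizer (E : Set G) := by
    rw [Subgroup.mem_centralizer_iff]
    intro x hx
    have h1 : (x' : E) → x' = (⟨x, hx⟩ : E) →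
        x'⁻¹ * (MulAut.conjNormal k : MulAut E) x' = 1 := by
      intro x' _
      apply h.eq_one_of_smul
      intro y
      have h2 := hsm (MulAut.conjNormal k) x' y
      rw [hkall, hkall] at h2
      rw [mul_smul, ← h2, inv_smul_smul]
    have h2 := h1 ⟨x, hx⟩ rfl
    have h3 := congrArg Subtype.val (inv_mul_eq_one.1 h2)
    rw [MulAut.conjNormal_apply] at h3
    change x = k * x * k⁻¹ at h3
    calc x * k = (k * x * k⁻¹) * k := by rw [← h3]
      _ = k * x := by group
  rw [hC, Subgroup.mem_bot] at hk1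
  have h1 : g = ((t : E) : G) := by
    have h2 : ((t : E) : G)⁻¹ * g = 1 := hk1
    exact (inv_mul_eq_one.1 h2).symm
  rw [h1]
  exact (t : E).2

/-- An element outside `E` with an involution of `T` among its powers. -/
theorem Good.exists_power {G : Type*} [Group G] [Finite G] {E : Subgroup G} [E.Normal]
    (h : Good E) (hC : Subgroup.centralizer (E : Set G) = ⊥) (T : Sylow 2 E) (hne : E ≠ ⊤) :
    ∃ (y : G) (u : E), y ∉ E ∧ u ∈ T ∧ u ≠ 1 ∧ (u : G) ∈ Subgroup.zpowers y := by
  obtain ⟨q, hq, hcard, hqp, hq4, hq48⟩ := h.card_two T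
  obtain ⟨u₀, hu₀⟩ : ∃ u : (T : Subgroup E), orderOf u = 2 := by
    apply exists_prime_orderOf_dvd_card' 2
    have : Nat.card (T : Subgroup E) = q := hq
    rw [this]
    rcases hq48 with rfl | rfl <;> norm_num
  set u : E := (u₀ : E) with hu
  have huT : u ∈ T := u₀.2
  have hu1 : u ≠ 1 := by
    intro h1
    rw [← Subgroup.orderOf_coe, ← hu, h1, orderOf_one] at hu₀
    omega
  have hu2 : (u : G) * u = 1 := congrArg Subtype.val (h.mul_self T huT)
  -- elements of `E` commuting with `u`
  have hcu : ∀ x : E, (x : G) * u = u * x → x ∈ T := by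
    intro x hx
    have h1 : x ∈ Subgroup.centralizer ({u} : Set E) := mem_cent.2 (Subtype.ext hx)
    rw [h.cent_eq T huT hu1] at h1
    exact h1
  -- an element outside `E` commuting with `u`
  obtain ⟨g, hg⟩ : ∃ g : G, g ∉ E := by
    by_contra hcon
    push Not at hcon
    exact hne (eq_top_iff.2 fun x _ => hcon x)
  obtain ⟨e, he⟩ := MulAction.exists_smul_eq E ((MulAut.conjNormal g : MulAut E) • T) T
  have h1 : e * ((MulAut.conjNormal g : MulAut E) u) * e⁻¹ ∈ T := by
    have h2 : ((MulAut.conjNormal g : MulAut E) u) ∈ ((MulAut.conjNormal g : MulAut E) • T : Sylow 2 E) :=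
      ⟨u, huT, rfl⟩
    have h3 : e * ((MulAut.conjNormal g : MulAut E) u) * e⁻¹ ∈
        (e • ((MulAut.conjNormal g : MulAut E) • T) : Sylow 2 E) := ⟨_, h2, rfl⟩
    rw [he] at h3
    exact h3
  have h2 : e * ((MulAut.conjNormal g : MulAut E) u) * e⁻¹ ≠ 1 := by
    intro h3
    have h4 := conj_eq_one_iff.1 h3
    exact hu1 ((MulEquiv.map_eq_one_iff _).1 h4)
  obtain ⟨e', he'⟩ := h.conj T huT hu1 h1 h2
  have he2 : (e' : G) * u * (e' : G)⁻¹ = (e : G) * (g * u * g⁻¹) * (e : G)⁻¹ := by
    have h3 := congrArg Subtype.val he'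
    simpa only [_root_.Subgroup.coe_mul, _root_.InvMemClass.coe_inv, _root_.MulAut.conjNormal_apply] using h3
  obtain ⟨c, hcE, hc⟩ : ∃ c : G, c ∉ E ∧ c * u = u * c := by
    refine ⟨(e' : G)⁻¹ * e * g, ?_, ?_⟩
    · intro h3
      apply hg
      have h4 : g = ((e : G)⁻¹ * e') * ((e' : G)⁻¹ * e * g) := by group
      rw [h4]
      exact E.mul_mem (E.mul_mem (E.inv_mem e.2) e'.2) h3
    · calc (e' : G)⁻¹ * e * g * u
          = (e' : G)⁻¹ * ((e : G) * (g * u * g⁻¹) * (e : G)⁻¹) * e * g := by group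
        _ = (e' : G)⁻¹ * ((e' : G) * u * (e' : G)⁻¹) * e * g := by rw [he2]
        _ = u * ((e' : G)⁻¹ * e * g) := by group
  by_contra hcon
  push Not at hcon
  -- the order of `c` is even
  have hcomm : Commute c (u : G) := hc
  have hev : 2 ∣ orderOf c := by
    by_contra hodd
    obtain ⟨k, hk⟩ : ∃ k, orderOf c = 2 * k + 1 := by
      have : Odd (orderOf c) := by
        rw [← Nat.not_even_iff_odd, even_iff_two_dvd]; exact hodd
      exact this
    apply hcon (c * u) u ?_ huT hu1
    · have h3 : (c * u) ^ orderOf c = u := by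
        rw [hcomm.mul_pow, pow_orderOf_eq_one, one_mul, hk, pow_succ, pow_mul, pow_two, hu2, one_pow,
          one_mul]
      have h4 : (c * u) ^ orderOf c ∈ Subgroup.zpowers (c * (u : G)) :=
        Subgroup.pow_mem _ (Subgroup.mem_zpowers _) _
      rwa [h3] at h4
    · intro h3
      apply hcE
      have h4 : c = (c * u) * (u : G)⁻¹ := by group
      rw [h4]
      exact E.mul_mem h3 (E.inv_mem u.2)
  obtain ⟨m, hm⟩ := hev
  have hm0 : 0 < m := by
    have := orderOf_pos c
    omega
  set c₁ := c ^ m with hc₁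
  have hc₁2 : c₁ * c₁ = 1 := by
    rw [hc₁, ← pow_add, ← two_mul, ← hm, pow_orderOf_eq_one]
  have hc₁1 : c₁ ≠ 1 := by
    intro h3
    have h4 := orderOf_le_of_pow_eq_one hm0 h3
    omega
  have hc₁u : c₁ * u = u * c₁ := (hcomm.pow_left m)
  have hc₁E : c₁ ∉ E := by
    intro h3
    have h4 : (⟨c₁, h3⟩ : E) ∈ T := hcu ⟨c₁, h3⟩ hc₁u
    exact hcon c ⟨c₁, h3⟩ hcE h4 (fun h5 => hc₁1 (congrArg Subtype.val h5))
      (Subgroup.pow_mem _ (Subgroup.mem_zpowers c) m)
  obtain ⟨t, htT, htc⟩ : ∃ t : E, t ∈ T ∧ c₁ * t ≠ t * c₁ := by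
    by_contra hno
    push Not at hno
    exact hc₁E (h.mem_of_centralizes hC T c₁ hno)
  have htu : (t : G) * u = u * t := congrArg Subtype.val (h.ab 2 T t htT u huT)
  have ht2 : (t : G) * t = 1 := congrArg Subtype.val (h.mul_self T htT)
  have hyE : c₁ * t ∉ E := by
    intro h3
    apply hc₁E
    have h4 : c₁ = (c₁ * t) * (t : G)⁻¹ := by group
    rw [h4]
    exact E.mul_mem h3 (E.inv_mem t.2)
  have hy2E : (c₁ * t) * (c₁ * t) ∈ E := by
    have h3 : (c₁ * t) * (c₁ * t) = (c₁ * t * c₁⁻¹) * t := by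
      have h4 : c₁⁻¹ = c₁ := inv_eq_of_mul_eq_one_left hc₁2
      rw [h4]; group
    rw [h3]
    exact E.mul_mem ((inferInstance : E.Normal).conj_mem t t.2 c₁) t.2
  have hy2u : (c₁ * t) * (c₁ * t) * u = u * ((c₁ * t) * (c₁ * t)) := by
    have h3 : Commute (c₁ * t) (u : G) := Commute.mul_left hc₁u htu
    exact (Commute.mul_left h3 h3)
  refine hcon (c₁ * t) ⟨_, hy2E⟩ hyE (hcu _ hy2u) ?_ ?_
  · intro h3
    apply htc
    have h4 : (c₁ * t) * (c₁ * t) = 1 := congrArg Subtype.val h3
    have h5 : (c₁ * (t : G))⁻¹ = c₁ * t := inv_eq_of_mul_eq_one_left h4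
    rw [mul_inv_rev, inv_eq_of_mul_eq_one_left hc₁2, inv_eq_of_mul_eq_one_left ht2] at h5
    exact h5.symm
  · exact Subgroup.mul_mem _ (Subgroup.mem_zpowers _) (Subgroup.mem_zpowers _)

/-- **Step C.** -/
theorem Good.eq_top {G : Type*} [Group G] [Finite G] (hH : Hyp G) {E : Subgroup G} [E.Normal]
    (h : Good E) (hC : Subgroup.centralizer (E : Set G) = ⊥) : E = ⊤ := by
  by_contra hne
  obtain ⟨T⟩ : Nonempty (Sylow 2 E) := inferInstance
  obtain ⟨y, u, hy, huT, hu1, huy⟩ := h.exists_power hC T hne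
  obtain ⟨h2, h3, h57⟩ := h.primes
  obtain ⟨r, hr, hr2, hr3, hrE⟩ : ∃ r : ℕ, r.Prime ∧ r ≠ 2 ∧ r ≠ 3 ∧ r ∣ Nat.card E := by
    rcases h57 with h5 | h7
    · exact ⟨5, by norm_num, by norm_num, by norm_num, h5⟩
    · exact ⟨7, by norm_num, by norm_num, by norm_num, h7⟩
  have hle : Subgroup.centralizer ({y} : Set G) ≤ Subgroup.centralizer ({(u : G)} : Set G) := by
    obtain ⟨k, hk⟩ := Subgroup.mem_zpowers_iff.1 huy
    intro z hz
    rw [mem_cent] at hz ⊢
    rw [← hk]
    exact (show Commute z y from hz).zpow_right k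
  have hdv : ci u ∣ ci y := (ci_subgroup_dvd E u).trans (ci_dvd_of_le hle)
  refine hH.not_three y Nat.prime_two Nat.prime_three hr (by norm_num) hr2.symm hr3.symm ?_
    ((h.dvd_ci T huT hu1 Nat.prime_three (by norm_num) h3).trans hdv)
    ((h.dvd_ci T huT hu1 hr hr2 hrE).trans hdv)
  by_contra h2y
  obtain ⟨P, hP⟩ := exists_sylow_le_cent 2 y h2y
  have hPp : IsPGroup 2 ((P : Subgroup G).subgroupOf E) := P.isPGroup'.comap_subtype
  have hPi : ¬ 2 ∣ ((P : Subgroup G).subgroupOf E).index := fun h4 =>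
    P.not_dvd_index (h4.trans (relIndex_dvd_index (P : Subgroup G) E))
  apply hy
  apply h.mem_of_centralizes hC (hPp.toSylow hPi) y
  intro t ht
  have h5 : (t : G) ∈ (P : Subgroup G) := ht
  exact (mem_cent.1 (hP h5)).symm

end Cfsg.Agent.H528.CP
end

-- part: H528/CPMain
section
/-!
# Groups whose class sizes have at most two prime divisors: reduction to the simple case
-/

set_option autoImplicit false
set_option linter.style.haveILetI false

namespace Cfsg.Agent.H528.CP

open Subgroup Cfsg.Agent.H528.ClassSize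
open scoped commutatorElement

universe u

/-- A nontrivial solvable normal subgroup contains a nontrivial commutative normal `p`-subgroup. -/
theorem exists_normal_abelian {G : Type*} [Group G] [Finite G] (N : Subgroup G) [N.Normal]
    (hN : N ≠ ⊥) (hs : Group.IsSolvable N) :
    ∃ (p : ℕ) (_ : Fact p.Prime) (V : Subgroup G), V.Normal ∧ V ≤ N ∧ V ≠ ⊥ ∧ IsPGroup p V ∧
      ∀ a ∈ V, ∀ b ∈ V, a * b = b * a := by
  classical
  obtain ⟨n, hn⟩ := hs.solvable
  have hex : ∃ n, derivedSeries N n = ⊥ := ⟨n, hn⟩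
  set k := Nat.find hex with hk
  have hkb : derivedSeries N k = ⊥ := Nat.find_spec hex
  have hk0 : k ≠ 0 := by
    intro h0
    rw [h0, derivedSeries_zero] at hkb
    have : Nontrivial N := (Subgroup.nontrivial_iff_ne_bot N).2 hN
    exact top_ne_bot hkb
  obtain ⟨m, hm⟩ := Nat.exists_eq_succ_of_ne_zero hk0
  have hmb : derivedSeries N m ≠ ⊥ := Nat.find_min hex (by rw [← hk, hm]; exact Nat.lt_succ_self m)
  have hcomm : ∀ a ∈ derivedSeries N m, ∀ b ∈ derivedSeries N m, a * b = b * a := by
    intro a ha b hb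
    have h1 : ⁅a, b⁆ ∈ derivedSeries N (m + 1) := by
      rw [derivedSeries_succ]
      exact Subgroup.commutator_mem_commutator ha hb
    have h2 : derivedSeries N (m + 1) = ⊥ := by
      have : m + 1 = k := hm.symm
      rw [this]; exact hkb
    rw [h2, Subgroup.mem_bot] at h1
    exact commutatorElement_eq_one_iff_mul_comm.1 h1
  set A : Subgroup G := (derivedSeries N m).map N.subtype with hA
  have hAn : A.Normal := by
    have : (derivedSeries N m).Characteristic := inferInstance
    infer_instance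
  have hAN : A ≤ N := Subgroup.map_subtype_le _
  have hAc : ∀ a ∈ A, ∀ b ∈ A, a * b = b * a := by
    rintro _ ⟨a, ha, rfl⟩ _ ⟨b, hb, rfl⟩
    exact congrArg Subtype.val (hcomm a ha b hb)
  have hAb : A ≠ ⊥ := by
    intro h
    apply hmb
    rw [hA, Subgroup.map_eq_bot_iff, Subgroup.ker_subtype] at h
    exact le_bot_iff.1 h
  have hcard : Nat.card A ≠ 1 := fun h => hAb (Subgroup.card_eq_one.1 h)
  obtain ⟨p, hp, hpd⟩ := Nat.exists_prime_and_dvd hcard
  haveI : Fact p.Prime := ⟨hp⟩
  let V : Subgroup G :=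
    { carrier := {x | x ∈ A ∧ x ^ p = 1}
      one_mem' := ⟨A.one_mem, one_pow p⟩
      mul_mem' := by
        rintro a b ⟨ha, ha'⟩ ⟨hb, hb'⟩
        refine ⟨A.mul_mem ha hb, ?_⟩
        rw [(show Commute a b from hAc a ha b hb).mul_pow, ha', hb', mul_one]
      inv_mem' := by
        rintro a ⟨ha, ha'⟩
        exact ⟨A.inv_mem ha, by rw [inv_pow, ha', inv_one]⟩ }
  have hVA : V ≤ A := fun x hx => hx.1
  refine ⟨p, inferInstance, V, ⟨?_⟩, hVA.trans hAN, ?_, ?_, fun a ha b hb => hAc a ha.1 b hb.1⟩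
  · rintro x ⟨hx, hx'⟩ g
    refine ⟨hAn.conj_mem x hx g, ?_⟩
    rw [conj_pow, hx', mul_one, mul_inv_cancel]
  · obtain ⟨x, hx⟩ : ∃ x : A, orderOf x = p := exists_prime_orderOf_dvd_card' p hpd
    intro h
    have h1 : (x : G) ∈ V := by
      refine ⟨x.2, ?_⟩
      have h2 := pow_orderOf_eq_one x
      rw [hx] at h2
      exact congrArg Subtype.val h2
    rw [h, Subgroup.mem_bot] at h1
    rw [← Subgroup.orderOf_coe, h1, orderOf_one] at hx
    exact hp.one_lt.ne hx
  · intro x
    refine ⟨1, ?_⟩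
    rw [pow_one]
    exact Subtype.ext x.2.2

/-- A `Good` normal subgroup has trivial intersection with its centralizer. -/
theorem Good.inf_centralizer {G : Type*} [Group G] {S : Subgroup G}
    (h : Good S) : S ⊓ Subgroup.centralizer (S : Set G) = ⊥ := by
  rw [eq_bot_iff]
  rintro x ⟨hx, hxc⟩
  rw [Subgroup.mem_bot]
  by_contra hx1
  have := h.finite
  have hxc' : ∀ y : S, y * ⟨x, hx⟩ = ⟨x, hx⟩ * y := fun y =>
    Subtype.ext (Subgroup.mem_centralizer_iff.1 hxc y y.2)
  have htop : Subgroup.centralizer ({(⟨x, hx⟩ : S)} : Set S) = ⊤ := by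
    rw [eq_top_iff]
    intro y _
    exact mem_cent.2 (hxc' y)
  obtain ⟨v, k, hv, hk⟩ := h.cp ⟨x, hx⟩
  haveI : Fact v.Prime := ⟨hv⟩
  have hp : IsPGroup v (Subgroup.zpowers (⟨x, hx⟩ : S)) := by
    apply IsPGroup.of_card (n := k)
    rw [Nat.card_zpowers, hk]
  obtain ⟨P, hP⟩ := hp.exists_le_sylow
  have h1 := h.cent_eq P (hP (Subgroup.mem_zpowers _)) (fun h2 => hx1 (congrArg Subtype.val h2))
  rw [htop] at h1
  obtain ⟨n, hn⟩ := IsPGroup.iff_card.1 P.isPGroup'
  rw [← h1, Subgroup.card_top] at hn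
  obtain ⟨h2, h3, -⟩ := h.primes
  rw [hn] at h2 h3
  have e1 := (Nat.prime_dvd_prime_iff_eq Nat.prime_two hv).1 (Nat.prime_two.dvd_of_dvd_pow h2)
  have e2 := (Nat.prime_dvd_prime_iff_eq Nat.prime_three hv).1 (Nat.prime_three.dvd_of_dvd_pow h3)
  omega

/-- **Step D.** -/
theorem Good.split {G : Type*} [Group G] [Finite G] (hH : Hyp G) {S : Subgroup G} [hSn : S.Normal]
    (h : Good S) : Subgroup.center G ⊓ S = ⊥ ∧ Subgroup.center G ⊔ S = ⊤ := by
  set C := Subgroup.centralizer (S : Set G) with hCdef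
  have hinf := h.inf_centralizer
  rw [← hCdef] at hinf
  have hCn : C.Normal := inferInstance
  -- the quotient
  set f := QuotientGroup.mk' C with hf
  have hfs : Function.Surjective f := QuotientGroup.mk'_surjective C
  have hinj : Function.Injective (f.comp S.subtype) := by
    rw [injective_iff_map_eq_one]
    intro x hx
    have h1 : (x : G) ∈ C := by
      rw [MonoidHom.comp_apply, hf, QuotientGroup.mk'_apply, QuotientGroup.eq_one_iff] at hx
      exact hx
    have h2 : (x : G) ∈ S ⊓ C := ⟨x.2, h1⟩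
    rw [hinf, Subgroup.mem_bot] at h2
    exact Subtype.ext h2
  have hrange : (f.comp S.subtype).range = S.map f := by
    rw [MonoidHom.range_comp, Subgroup.range_subtype]
  have hSn' : (f.comp S.subtype).range.Normal := by
    rw [hrange]
    exact Subgroup.Normal.map hSn _ hfs
  have hgood : Good (f.comp S.subtype).range := h.congr (MonoidHom.ofInjective hinj)
  have hCbar : Subgroup.centralizer ((f.comp S.subtype).range : Set (G ⧸ C)) = ⊥ := by
    rw [eq_bot_iff]
    intro y hy
    obtain ⟨g, rfl⟩ := hfs y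
    rw [Subgroup.mem_bot, hf, QuotientGroup.mk'_apply, QuotientGroup.eq_one_iff, hCdef,
      Subgroup.mem_centralizer_iff]
    intro s hs
    have h1 : f s * f g = f g * f s := Subgroup.mem_centralizer_iff.1 hy (f s) ⟨⟨s, hs⟩, rfl⟩
    have h2 : (s * g)⁻¹ * (g * s) ∈ C := by
      rw [← map_mul, ← map_mul] at h1
      rw [hf, QuotientGroup.mk'_apply, QuotientGroup.mk'_apply] at h1
      exact QuotientGroup.eq.1 h1
    have h3 : (s * g)⁻¹ * (g * s) ∈ S := by
      have h4 : (s * g)⁻¹ * (g * s) = (g⁻¹ * s⁻¹ * g⁻¹⁻¹) * s := by group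
      rw [h4]
      exact S.mul_mem (hSn.conj_mem _ (S.inv_mem hs) g⁻¹) hs
    have h4 : (s * g)⁻¹ * (g * s) ∈ S ⊓ C := ⟨h3, h2⟩
    rw [hinf, Subgroup.mem_bot] at h4
    exact inv_mul_eq_one.1 h4
  have htop := Good.eq_top (hH.quotient C) hgood hCbar
  have hdec : ∀ g : G, ∃ s ∈ S, ∃ c ∈ C, g = s * c := by
    intro g
    have h1 : f g ∈ (f.comp S.subtype).range := htop ▸ Subgroup.mem_top _
    obtain ⟨s, hs⟩ := h1
    have h2 : (s : G)⁻¹ * g ∈ C := by
      rw [MonoidHom.comp_apply, hf, QuotientGroup.mk'_apply, QuotientGroup.mk'_apply] at hs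
      exact QuotientGroup.eq.1 hs
    exact ⟨s, s.2, _, h2, by group⟩
  have hCcomm : ∀ c ∈ C, ∀ s ∈ S, s * c = c * s := fun c hc s hs =>
    Subgroup.mem_centralizer_iff.1 hc s hs
  have hCZ : C ≤ Subgroup.center G := by
    intro c hc
    by_contra hcz
    have hci1 : ci c ≠ 1 := by
      intro h1
      apply hcz
      rw [ci_def, Subgroup.index_eq_one] at h1
      rw [Subgroup.mem_center_iff]
      intro g
      have h2 : g ∈ Subgroup.centralizer ({c} : Set G) := h1 ▸ Subgroup.mem_top g
      exact mem_cent.1 h2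
    obtain ⟨v, hv, hvd⟩ := Nat.exists_prime_and_dvd hci1
    obtain ⟨x, w₁, w₂, hx1, hw₁, hw₂, hw, h1, h2, hd1, hd2⟩ := h.exists_two hv
    have key : ∀ g : G, g * ((x : G) * c) = ((x : G) * c) * g → g * x = x * g ∧ g * c = c * g := by
      intro g hg
      obtain ⟨s, hs, d, hd, rfl⟩ := hdec g
      have e1 : d * (x : G) = x * d := (hCcomm d hd x x.2).symm
      have e2 : c * s = s * c := (hCcomm c hc s hs).symm
      have e3 : (s * x) * (d * c) = (x * s) * (c * d) := by
        calc (s * x) * (d * c) = s * (x * d) * c := by group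
          _ = s * (d * x) * c := by rw [e1]
          _ = (s * d) * (x * c) := by group
          _ = (x * c) * (s * d) := hg
          _ = x * (c * s) * d := by group
          _ = x * (s * c) * d := by rw [e2]
          _ = (x * s) * (c * d) := by group
      have e4 : ((x : G) * s)⁻¹ * (s * x) = (c * d) * (d * c)⁻¹ := by
        rw [inv_mul_eq_iff_eq_mul, ← mul_assoc, ← e3, mul_inv_cancel_right]
      have e5 : ((x : G) * s)⁻¹ * (s * x) ∈ S ⊓ C := by
        refine ⟨S.mul_mem (S.inv_mem (S.mul_mem x.2 hs)) (S.mul_mem hs x.2), ?_⟩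
        rw [e4]
        exact C.mul_mem (C.mul_mem hc hd) (C.inv_mem (C.mul_mem hd hc))
      rw [hinf, Subgroup.mem_bot] at e5
      have e6 : (x : G) * s = s * x := inv_mul_eq_one.1 e5
      rw [e5] at e4
      have e7 : c * d = d * c := mul_inv_eq_one.1 e4.symm
      constructor
      · calc s * d * x = s * (d * x) := by group
          _ = s * (x * d) := by rw [e1]
          _ = (s * x) * d := by group
          _ = (x * s) * d := by rw [e6]
          _ = x * (s * d) := by group
      · calc s * d * c = s * (d * c) := by group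
          _ = s * (c * d) := by rw [e7]
          _ = (s * c) * d := by group
          _ = (c * s) * d := by rw [e2]
          _ = c * (s * d) := by group
    have hle1 : Subgroup.centralizer ({(x : G) * c} : Set G) ≤
        Subgroup.centralizer ({(x : G)} : Set G) := fun g hg =>
      mem_cent.2 (key g (mem_cent.1 hg)).1
    have hle2 : Subgroup.centralizer ({(x : G) * c} : Set G) ≤
        Subgroup.centralizer ({c} : Set G) := fun g hg =>
      mem_cent.2 (key g (mem_cent.1 hg)).2
    have hxd : ci x ∣ ci ((x : G) * c) := (ci_subgroup_dvd S x).trans (ci_dvd_of_le hle1)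
    exact hH.not_three ((x : G) * c) hw₁ hw₂ hv hw h1 h2 (hd1.trans hxd) (hd2.trans hxd)
      (hvd.trans (ci_dvd_of_le hle2))
  constructor
  · rw [eq_bot_iff]
    rintro x ⟨hx, hxS⟩
    have h1 : x ∈ S ⊓ C := ⟨hxS, Subgroup.mem_centralizer_iff.2
      (fun s _ => (Subgroup.mem_center_iff.1 hx s))⟩
    rwa [hinf] at h1
  · rw [eq_top_iff]
    intro g _
    obtain ⟨s, hs, c, hc, rfl⟩ := hdec g
    exact Subgroup.mul_mem _ (Subgroup.mem_sup_right hs) (Subgroup.mem_sup_left (hCZ hc))

theorem Good.not_comm {S : Type*} [Group S] (h : Good S) (hall : ∀ a b : S, a * b = b * a) :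
    False := by
  obtain ⟨x, w₁, w₂, hx1, hw₁, hw₂, hw, h5, h6, hd1, hd2⟩ := h.exists_two Nat.prime_two
  have h7 : ci x = 1 := by
    rw [ci_def, Subgroup.index_eq_one, eq_top_iff]
    intro y _
    exact mem_cent.2 (hall y x)
  rw [h7] at hd1
  exact hw₁.one_lt.ne' (Nat.dvd_one.1 hd1)

theorem Good.commutator_eq_top {S : Type*} [Group S] (h : Good S) : commutator S = ⊤ := by
  have := h.simple
  rcases (inferInstance : (commutator S).Normal).eq_bot_or_eq_top with h3 | h3
  · exfalso
    apply h.not_comm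
    intro a b
    have h4 : ⁅a, b⁆ ∈ commutator S := by
      rw [commutator_def]
      exact Subgroup.commutator_mem_commutator (Subgroup.mem_top _) (Subgroup.mem_top _)
    rw [h3, Subgroup.mem_bot] at h4
    exact commutatorElement_eq_one_iff_mul_comm.1 h4
  · exact h3

/-- `S` is the commutator subgroup of `N = Z(N) S`. -/
theorem Good.commutator_eq {N : Type*} [Group N] {S : Subgroup N} [hSn : S.Normal] (h : Good S)
    (h2 : Subgroup.center N ⊔ S = ⊤) : commutator N = S := by
  apply le_antisymm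
  · rw [commutator_def, Subgroup.commutator_le]
    have hdec : ∀ x : N, ∃ z ∈ Subgroup.center N, ∃ s ∈ S, z * s = x := fun x => by
      have h5 : x ∈ Subgroup.center N ⊔ S := h2 ▸ Subgroup.mem_top x
      exact Subgroup.mem_sup_of_normal_right.1 h5
    intro a _ b _
    obtain ⟨z, hz, s, hs, rfl⟩ := hdec a
    obtain ⟨w, hw, t, ht, rfl⟩ := hdec b
    have e1 : ⁅z * s, w * t⁆ = s * t * s⁻¹ * t⁻¹ := by
      have c1 : ∀ g : N, z * g = g * z := fun g => (Subgroup.mem_center_iff.1 hz g).symm
      have c2 : ∀ g : N, w * g = g * w := fun g => (Subgroup.mem_center_iff.1 hw g).symm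
      rw [commutatorElement_def, mul_inv_rev, mul_inv_rev]
      calc z * s * (w * t) * (s⁻¹ * z⁻¹) * (t⁻¹ * w⁻¹)
          = (z * (s * (w * t) * s⁻¹)) * z⁻¹ * (t⁻¹ * w⁻¹) := by group
        _ = ((s * (w * t) * s⁻¹) * z) * z⁻¹ * (t⁻¹ * w⁻¹) := by rw [c1]
        _ = s * (w * (t * s⁻¹ * t⁻¹)) * w⁻¹ := by group
        _ = s * ((t * s⁻¹ * t⁻¹) * w) * w⁻¹ := by rw [c2]
        _ = s * t * s⁻¹ * t⁻¹ := by group
    rw [e1]
    exact S.mul_mem (S.mul_mem (S.mul_mem hs ht) (S.inv_mem hs)) (S.inv_mem ht)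
  · intro x hx
    have h3 : (⟨x, hx⟩ : S) ∈ commutator S := h.commutator_eq_top ▸ Subgroup.mem_top _
    have h4 : (commutator S).map S.subtype ≤ commutator N := by
      rw [_root_.commutator_def, _root_.commutator_def, Subgroup.map_commutator]
      exact Subgroup.commutator_mono le_top le_top
    exact h4 ⟨_, h3, rfl⟩

/-- The reduction to simple groups, for a class `Tgt` of `Good` groups closed under isomorphism. -/
theorem main (Tgt : ∀ (S : Type u) [Group S], Prop)
    (hcongr : ∀ (S S' : Type u) [Group S] [Group S'], (S ≃* S') → Tgt S → Tgt S')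
    (hgood : ∀ (S : Type u) [Group S], Tgt S → Good S)
    (hsimple : ∀ (S : Type u) [Group S] [Finite S] [IsSimpleGroup S], ¬ Group.IsSolvable S →
      Hyp S → Tgt S) (n : ℕ) :
    ∀ (G : Type u) [Group G] [Finite G], Nat.card G = n → Hyp G → ¬ Group.IsSolvable G →
      ∃ S : Subgroup G, S.Normal ∧ Subgroup.center G ⊓ S = ⊥ ∧ Subgroup.center G ⊔ S = ⊤ ∧
        Tgt S := by
  induction n using Nat.strong_induction_on with
  | _ n ih =>
  intro G _ _ hn hH hns
  by_cases hc : ∃ N : Subgroup G, N.Normal ∧ N ≠ ⊤ ∧ ¬ Group.IsSolvable N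
  · obtain ⟨N, hNn, hNt, hNs⟩ := hc
    have hlt : Nat.card N < n := by
      rw [← hn]
      exact lt_of_le_of_ne (Nat.le_of_dvd Nat.card_pos (Subgroup.card_subgroup_dvd_card N))
        (fun h => hNt (Subgroup.card_eq_iff_eq_top N |>.1 h))
    obtain ⟨S, hSn, h1, h2, hT⟩ := ih _ hlt N rfl (hH.normal N) hNs
    have hgS := hgood S hT
    have hsimp := hgS.simple
    have hScomm : commutator N = S := hgS.commutator_eq h2
    have hchar : S.Characteristic := by
      rw [← hScomm]; infer_instance
    set S' : Subgroup G := S.map N.subtype with hS'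
    have hS'n : S'.Normal := inferInstance
    have e : S ≃* S' := S.equivMapOfInjective N.subtype (Subgroup.subtype_injective N)
    have hT' : Tgt S' := hcongr S S' e hT
    obtain ⟨h3, h4⟩ := (hgood S' hT').split hH
    exact ⟨S', hS'n, h3, h4, hT'⟩
  · push Not at hc
    -- all proper normal subgroups are solvable
    have hperf : commutator G = ⊤ := by
      by_contra h
      have h1 := hc (commutator G) inferInstance h
      apply hns
      exact Group.isSolvable_of_ker_le_range (commutator G).subtype (Abelianization.of : G →* _)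
        (by rw [Abelianization.ker_of, Subgroup.range_subtype])
    by_cases hsim : ∃ N : Subgroup G, N.Normal ∧ N ≠ ⊥ ∧ N ≠ ⊤
    · exfalso
      obtain ⟨N, hNn, hNb, hNt⟩ := hsim
      obtain ⟨p, hp, V, hVn, hVN, hVb, hVp, hVc⟩ := exists_normal_abelian N hNb (hc N hNn hNt)
      have hVs : Group.IsSolvable V := by
        have := hVp.isNilpotent
        infer_instance
      have hlt : Nat.card (G ⧸ V) < n := by
        rw [← hn, Subgroup.card_eq_card_quotient_mul_card_subgroup V]
        have h1 : 1 < Nat.card V := by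
          rw [Subgroup.one_lt_card_iff_ne_bot]; exact hVb
        have h2 : 0 < Nat.card (G ⧸ V) := Nat.card_pos
        nlinarith only [h1, h2]
      have hQs : ¬ Group.IsSolvable (G ⧸ V) := by
        intro h
        apply hns
        exact Group.isSolvable_of_ker_le_range V.subtype (QuotientGroup.mk' V)
          (by rw [QuotientGroup.ker_mk', Subgroup.range_subtype])
      obtain ⟨S, hSn, h1, h2, hT⟩ := ih _ hlt (G ⧸ V) rfl (hH.quotient V) hQs
      have hgS := hgood S hT
      have hStop : S = ⊤ := by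
        by_contra hSt
        have h3 : (S.comap (QuotientGroup.mk' V)) ≠ ⊤ := by
          intro h4
          apply hSt
          rw [← Subgroup.map_comap_eq_self_of_surjective (QuotientGroup.mk'_surjective V) S, h4,
            Subgroup.map_top_of_surjective _ (QuotientGroup.mk'_surjective V)]
        have h4 := hc (S.comap (QuotientGroup.mk' V)) inferInstance h3
        have h5 : Group.IsSolvable S := by
          have h6 : Group.IsSolvable ((S.comap (QuotientGroup.mk' V)).map (QuotientGroup.mk' V)) :=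
            Group.isSolvable_of_surjective
              (f := (QuotientGroup.mk' V).subgroupMap (S.comap (QuotientGroup.mk' V)))
              ((QuotientGroup.mk' V).subgroupMap_surjective _)
          rwa [Subgroup.map_comap_eq_self_of_surjective (QuotientGroup.mk'_surjective V) S] at h6
        have := hgS.simple
        have h6 : ∀ a b : S, a * b = b * a := IsSimpleGroup.comm_iff_isSolvable.2 h5
        exact hgS.not_comm h6
      have hgQ : Good (G ⧸ V) := by
        rw [hStop] at hgS
        exact hgS.congr Subgroup.topEquiv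
      have hVz := le_center hH V hVp hVc hgQ
      exact no_perfect_central hH hperf V hVp hVb hVz hgQ
    · push Not at hsim
      haveI : Nontrivial G := by
        by_contra h
        rw [not_nontrivial_iff_subsingleton] at h
        exact hns inferInstance
      haveI : IsSimpleGroup G := ⟨fun N hN => by
        by_contra h
        push Not at h
        exact h.2 (hsim N hN h.1)⟩
      have hT := hsimple G hns hH
      have hT' : Tgt (⊤ : Subgroup G) := hcongr G (⊤ : Subgroup G) Subgroup.topEquiv.symm hT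
      obtain ⟨h3, h4⟩ := (hgood _ hT').split hH
      exact ⟨⊤, inferInstance, h3, h4, hT'⟩

end Cfsg.Agent.H528.CP
end

private theorem dce_8062f1aab7b4 : _root_.True := by
  try have : _root_.True := by simp only [_root_.MulAut.conjNormal.congr_simp]
  exact _root_.True.intro
end

-- part: S4147
section
prune_inst 0x10002104342200000000000002001c4292000000000800000040040005810c4000000020b230000000808004503c0040020000200200000000000000011800a08000020090480000000001000000000000000000000000000000000000000000000000000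
set_option linter.all false
open scoped Cfsg.Agent.FastGrp

-- part: H528/CPModels
section
/-!
# `PSL(2,4)`, `PSL(2,8)` and `A₅` are `Good`
-/

set_option autoImplicit false
set_option linter.style.haveILetI false

namespace Cfsg.Agent.H528.CP

open Subgroup Cfsg.Agent.H528.ClassSize Matrix

theorem orderOf_eq_pow {G : Type*} [Group G] {x : G} {v m : ℕ} (hv : v.Prime) (h : x ^ v ^ m = 1) :
    ∃ v k : ℕ, v.Prime ∧ orderOf x = v ^ k := by
  obtain ⟨k, -, hk⟩ := (Nat.dvd_prime_pow hv).1 (orderOf_dvd_of_pow_eq_one h)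
  exact ⟨v, k, hv, hk⟩

theorem good_psl {F : Type*} [Field F] [Fintype F] (hF : Fintype.card F = 4 ∨ Fintype.card F = 8) :
    Good (ProjectiveSpecialLinearGroup (Fin 2) F) := by
  haveI hchar : CharP F 2 := by
    have h1 : (2 : F) ^ 3 = 0 := by
      have h2 : ((Fintype.card F : ℕ) : F) = 0 := FiniteField.cast_card_eq_zero F
      rcases hF with h | h
      · rw [h] at h2
        have h3 : (2 : F) ^ 2 = 0 := by
          rw [← h2]; norm_num
        rw [pow_succ, h3, zero_mul]
      · rw [h] at h2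
        rw [← h2]; norm_num
    have h2 : (2 : F) = 0 := pow_eq_zero_iff (by norm_num) |>.1 h1
    exact CharTwo.of_one_ne_zero_of_two_eq_zero one_ne_zero h2
  have hcard : Nat.card (ProjectiveSpecialLinearGroup (Fin 2) F) = 60 ∨
      Nat.card (ProjectiveSpecialLinearGroup (Fin 2) F) = 504 := by
    rw [Cfsg.Agent.Classification.PSLTwoEvenSylow.card_psl]
    rcases hF with h | h <;> rw [h] <;> norm_num
  refine ⟨Cfsg.Agent.TwoFusion.SLTwoFacts.isSimpleGroup_psl (by omega), ?_, ?_, hcard⟩
  · intro x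
    obtain ⟨e⟩ := Cfsg.Agent.WeakTI.PslTwo.nonempty_equiv (F := F)
    have key : ∀ m : ℕ, (e.symm x) ^ m = 1 → x ^ m = 1 := by
      intro m h
      have := congrArg e h
      rwa [map_pow, e.apply_symm_apply, map_one] at this
    have h1 := Cfsg.Agent.ClassicalGeometry.SL2Order.pow_cases (q := Fintype.card F) rfl 2 (e.symm x)
    rcases h1 with h1 | h1 | h1
    · rcases hF with h | h <;> rw [h] at h1
      · exact orderOf_eq_pow (v := 3) (m := 1) (by norm_num) (key _ (by simpa only [_root_.pow_one, _root_.Nat.add_one_sub_one] using h1))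
      · exact orderOf_eq_pow (v := 7) (m := 1) (by norm_num) (key _ (by simpa only [_root_.pow_one, _root_.Nat.add_one_sub_one] using h1))
    · rcases hF with h | h <;> rw [h] at h1
      · exact orderOf_eq_pow (v := 5) (m := 1) (by norm_num) (key _ (by simpa using h1))
      · exact orderOf_eq_pow (v := 3) (m := 2) (by norm_num) (key _ (by simpa using h1))
    · exact orderOf_eq_pow (v := 2) (m := 2) (by norm_num) (key _ (by simpa using h1))
  · intro v hv P a ha b hb
    by_cases hv2 : v = 2
    · subst hv2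
      have := Cfsg.Agent.Classification.PSLTwoEvenSylow.sylow_comm
        (MulEquiv.refl (ProjectiveSpecialLinearGroup (Fin 2) F)) P
      exact congrArg Subtype.val
        ((IsMulCommutative.is_comm (M := (P : Subgroup _))).comm ⟨a, ha⟩ ⟨b, hb⟩)
    · obtain ⟨n, hn⟩ := IsPGroup.iff_card.1 P.isPGroup'
      have hd : v ^ n ∣ Nat.card (ProjectiveSpecialLinearGroup (Fin 2) F) :=
        hn ▸ Subgroup.card_subgroup_dvd_card _
      have hcop : (v ^ n).Coprime 8 := by
        apply Nat.Coprime.pow_left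
        exact (Nat.coprime_primes hv.out Nat.prime_two).2 hv2 |>.pow_right 3
      have hd63 : v ^ n ∣ 15 ∨ v ^ n ∣ 63 := by
        rcases hcard with h | h
        · left
          rw [h] at hd
          have h4 : (v ^ n).Coprime 4 := Nat.Coprime.coprime_dvd_right (by norm_num) hcop
          exact Nat.Coprime.dvd_of_dvd_mul_left h4 (by simpa using hd)
        · right
          rw [h] at hd
          exact Nat.Coprime.dvd_of_dvd_mul_left hcop (by simpa using hd)
      have hv3 : 3 ≤ v := by
        have := hv.out.two_le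
        omega
      have hn2 : n ≤ 2 := by
        by_contra hcon
        have h3 : v ^ 3 ∣ v ^ n := pow_dvd_pow v (by omega)
        have h4 : v ^ 3 ∣ 15 ∨ v ^ 3 ∣ 63 := hd63.imp h3.trans h3.trans
        have h5 : v < 4 := by
          by_contra hge
          have h6 : 4 ^ 3 ≤ v ^ 3 := Nat.pow_le_pow_left (by omega) 3
          rcases h4 with h4 | h4
          · have := Nat.le_of_dvd (by norm_num) h4
            omega
          · have := Nat.le_of_dvd (by norm_num) h4
            omega
        have h6 : v = 3 := by omega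
        rw [h6] at h4
        omega
      have hcomm : ∀ x y : (P : Subgroup (ProjectiveSpecialLinearGroup (Fin 2) F)), x * y = y * x := by
        interval_cases n
        · intro x y
          have h1 : Subsingleton (P : Subgroup (ProjectiveSpecialLinearGroup (Fin 2) F)) := by
            rw [pow_zero] at hn
            exact (Nat.card_eq_one_iff_unique.1 hn).1
          exact Subsingleton.elim _ _
        · have h1 : IsCyclic (P : Subgroup (ProjectiveSpecialLinearGroup (Fin 2) F)) :=
            isCyclic_of_prime_card (p := v) (by rw [hn, pow_one])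
          intro x y
          letI := IsCyclic.commGroup (α := (P : Subgroup (ProjectiveSpecialLinearGroup (Fin 2) F)))
          exact (mul_comm x y :)
        · intro x y
          exact IsPGroup.commutative_of_card_eq_prime_sq hn x y
      exact congrArg Subtype.val (hcomm ⟨a, ha⟩ ⟨b, hb⟩)

theorem good_alt : Good (alternatingGroup (Fin 5)) := by
  haveI : Fintype (GaloisField 2 2) := Fintype.ofFinite _
  have hF : Fintype.card (GaloisField 2 2) = 4 := by
    rw [← Nat.card_eq_fintype_card, GaloisField.card 2 2 (by norm_num)]; norm_num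
  obtain ⟨e⟩ := Cfsg.Agent.S0252.result hF
  exact (good_psl (Or.inl hF)).congr e

theorem good_galois : Good (ProjectiveSpecialLinearGroup (Fin 2) (GaloisField 2 3)) := by
  haveI : Fintype (GaloisField 2 3) := Fintype.ofFinite _
  have hF : Fintype.card (GaloisField 2 3) = 8 := by
    rw [← Nat.card_eq_fintype_card, GaloisField.card 2 3 (by norm_num)]; norm_num
  exact good_psl (Or.inr hF)

end Cfsg.Agent.H528.CP
end

-- part: H528/ExclThree
section
/-!
# `PSL(3,3)`, `PSU(3,3)` and `PSU(4,2)` have noncommutative Sylow `3`-subgroups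
-/

set_option autoImplicit false
set_option linter.style.haveILetI false
set_option linter.unusedTactic false
set_option linter.unreachableTactic false

namespace Cfsg.Agent.H528.ClassSize

open Subgroup Matrix

theorem exists_nonab_quot {H : Type*} [Group H] (a b c d : H) (ha : a * a * a = 1)
    (hb : b * b * b = 1) (hc : c * c * c = 1) (hab : a * b = c * (b * a)) (hca : c * a = a * c)
    (hcb : c * b = b * c) (hcd : c * d ≠ d * c) :
    ∃ V : Subgroup (H ⧸ Subgroup.center H), IsPGroup 3 V ∧ ∃ x ∈ V, ∃ y ∈ V, x * y ≠ y * x := by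
  haveI : Fact (Nat.Prime 3) := ⟨Nat.prime_three⟩
  let f : H →* H ⧸ Subgroup.center H := QuotientGroup.mk' _
  have h3 : ∀ x : H, x * x * x = 1 → ∃ k, (f x) ^ 3 ^ k = 1 := by
    intro x hx
    refine ⟨1, ?_⟩
    rw [pow_one, pow_succ, pow_two, ← map_mul, ← map_mul, hx, map_one]
  obtain ⟨V, hV, haV, hbV⟩ := isPGroup_of_class_two (p := 3) (a := f a) (b := f b) (c := f c)
    (h3 a ha) (h3 b hb) (by rw [← map_mul, ← map_mul, ← map_mul, hab])
    (show f c * f a = f a * f c by rw [← map_mul, ← map_mul, hca])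
    (show f c * f b = f b * f c by rw [← map_mul, ← map_mul, hcb]) (h3 c hc)
  refine ⟨V, hV, f a, haV, f b, hbV, fun h => ?_⟩
  have h1 : f c = 1 := by
    have h2 : f a * f b = f c * (f b * f a) := by rw [← map_mul, ← map_mul, ← map_mul, hab]
    rw [h] at h2
    have h4 : 1 * (f b * f a) = f c * (f b * f a) := by rw [one_mul]; exact h2
    exact (mul_right_cancel h4).symm
  have h5 : c ∈ Subgroup.center H := (QuotientGroup.eq_one_iff c).1 h1
  exact hcd (Subgroup.mem_center_iff.1 h5 d).symm

section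

variable {F : Type*} [Field F]

theorem exists_psl3 (h3 : (3 : F) = 0) :
    ∃ V : Subgroup (ProjectiveSpecialLinearGroup (Fin 3) F), IsPGroup 3 V ∧
      ∃ x ∈ V, ∃ y ∈ V, x * y ≠ y * x := by
  have key : ∀ {A B : _root_.Matrix.SpecialLinearGroup (Fin 3) F},
    (A : Matrix (Fin 3) (Fin 3) F) = B → A = B := fun h => Subtype.ext h
  refine exists_nonab_quot (H := _root_.Matrix.SpecialLinearGroup (Fin 3) F)
    ⟨!![1, 1, 0; 0, 1, 0; 0, 0, 1], by simp [Matrix.det_fin_three]⟩
    ⟨!![1, 0, 0; 0, 1, 1; 0, 0, 1], by simp [Matrix.det_fin_three]⟩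
    ⟨!![1, 0, 1; 0, 1, 0; 0, 0, 1], by simp [Matrix.det_fin_three]⟩
    ⟨!![1, 0, 0; 0, 1, 0; 1, 0, 1], by simp [Matrix.det_fin_three]⟩ ?_ ?_ ?_ ?_ ?_ ?_ ?_
  · apply key
    change !![1, 1, 0; 0, 1, 0; 0, 0, 1] * !![1, 1, 0; 0, 1, 0; 0, 0, 1] *
      !![1, 1, 0; 0, 1, 0; 0, 0, 1] = (1 : Matrix (Fin 3) (Fin 3) F)
    ext i j
    (revert i j; simp only [Nat.reduceAdd, _root_.one_smul, _root_.zero_smul, _root_.ne_eq, _root_.zero_ne_one, _root_.not_false_eq_true, Cfsg.Agent.Lib.MatLit.r3]) <;> (repeat' with_reducible apply And.intro)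
    linear_combination h3
  · apply key
    change !![1, 0, 0; 0, 1, 1; 0, 0, 1] * !![1, 0, 0; 0, 1, 1; 0, 0, 1] *
      !![1, 0, 0; 0, 1, 1; 0, 0, 1] = (1 : Matrix (Fin 3) (Fin 3) F)
    ext i j
    (revert i j; simp only [Nat.reduceAdd, _root_.one_smul, _root_.zero_smul, _root_.ne_eq, _root_.zero_ne_one, _root_.not_false_eq_true, Cfsg.Agent.Lib.MatLit.r3]) <;> (repeat' with_reducible apply And.intro)
    linear_combination h3
  · apply key
    change !![1, 0, 1; 0, 1, 0; 0, 0, 1] * !![1, 0, 1; 0, 1, 0; 0, 0, 1] *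
      !![1, 0, 1; 0, 1, 0; 0, 0, 1] = (1 : Matrix (Fin 3) (Fin 3) F)
    ext i j
    (revert i j; simp only [Nat.reduceAdd, _root_.one_smul, _root_.zero_smul, _root_.ne_eq, _root_.zero_ne_one, _root_.not_false_eq_true, Cfsg.Agent.Lib.MatLit.r3]) <;> (repeat' with_reducible apply And.intro)
    linear_combination h3
  · apply key
    change !![1, 1, 0; 0, 1, 0; 0, 0, 1] * !![1, 0, 0; 0, 1, 1; 0, 0, 1] =
      !![1, 0, 1; 0, 1, 0; 0, 0, 1] * (!![1, 0, 0; 0, 1, 1; 0, 0, 1] *
      !![1, 1, 0; 0, 1, 0; 0, 0, 1] : Matrix (Fin 3) (Fin 3) F)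
    ext i j
    (revert i j; simp only [Matrix.mul_apply, Fin.sum_univ_three, _root_.Fin.forall_fin_succ, _root_.Matrix.of_apply, _root_.Matrix.cons_val', _root_.Matrix.cons_val_fin_one, Fin.isValue, _root_.Matrix.cons_val_zero, _root_.Matrix.cons_val_one, _root_.Matrix.cons_val, _root_.Matrix.cons_mul, _root_.Nat.succ_eq_add_one, Nat.reduceAdd, _root_.Matrix.vecMul_cons, _root_.Matrix.head_cons, _root_.one_smul, _root_.Matrix.tail_cons, _root_.zero_smul, _root_.Matrix.empty_vecMul, _root_.add_zero, _root_.Matrix.add_cons, _root_.zero_add, _root_.Matrix.empty_add_empty, _root_.Matrix.empty_mul, _root_.Equiv.symm_apply_apply, _root_.mul_one, _root_.MulZeroClass.mul_zero, _root_.Matrix.cons_val_succ, _root_.forall_const, _root_.true_and, _root_.and_self, _root_.right_eq_add, _root_.and_true, _root_.implies_true])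
  · apply key
    change !![1, 0, 1; 0, 1, 0; 0, 0, 1] * !![1, 1, 0; 0, 1, 0; 0, 0, 1] =
      (!![1, 1, 0; 0, 1, 0; 0, 0, 1] * !![1, 0, 1; 0, 1, 0; 0, 0, 1] : Matrix (Fin 3) (Fin 3) F)
    ext i j
    (revert i j; simp only [Matrix.mul_apply, Fin.sum_univ_three, _root_.Fin.forall_fin_succ, _root_.Matrix.of_apply, _root_.Matrix.cons_val', _root_.Matrix.cons_val_fin_one, Fin.isValue, _root_.Matrix.cons_val_zero, _root_.Matrix.cons_val_one, _root_.Matrix.cons_val, _root_.mul_one, _root_.MulZeroClass.mul_zero, _root_.add_zero, _root_.Matrix.cons_val_succ, _root_.zero_add, _root_.forall_const, _root_.true_and, _root_.and_self, _root_.add_eq_right, _root_.right_eq_add, _root_.implies_true])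
  · apply key
    change !![1, 0, 1; 0, 1, 0; 0, 0, 1] * !![1, 0, 0; 0, 1, 1; 0, 0, 1] =
      (!![1, 0, 0; 0, 1, 1; 0, 0, 1] * !![1, 0, 1; 0, 1, 0; 0, 0, 1] : Matrix (Fin 3) (Fin 3) F)
    ext i j
    (revert i j; simp only [Matrix.mul_apply, Fin.sum_univ_three, _root_.Fin.forall_fin_succ, _root_.Matrix.of_apply, _root_.Matrix.cons_val', _root_.Matrix.cons_val_fin_one, Fin.isValue, _root_.Matrix.cons_val_zero, _root_.Matrix.cons_val_one, _root_.Matrix.cons_val, _root_.mul_one, _root_.MulZeroClass.mul_zero, _root_.add_zero, _root_.Matrix.cons_val_succ, _root_.zero_add, _root_.forall_const, _root_.true_and, _root_.implies_true, _root_.and_self])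
  · intro h
    have h1 := congrArg (fun z : _root_.Matrix.SpecialLinearGroup (Fin 3) F =>
      (z : Matrix (Fin 3) (Fin 3) F) 0 0) h
    change (!![1, 0, 1; 0, 1, 0; 0, 0, 1] * !![1, 0, 0; 0, 1, 0; 1, 0, 1] :
      Matrix (Fin 3) (Fin 3) F) 0 0 =
      (!![1, 0, 0; 0, 1, 0; 1, 0, 1] * !![1, 0, 1; 0, 1, 0; 0, 0, 1] :
      Matrix (Fin 3) (Fin 3) F) 0 0 at h1
    simp [Matrix.mul_apply, Fin.sum_univ_three] at h1

/-- Unitary matrices. -/
theorem mem_SU {n q : ℕ} (σ : F →+* F) (hσ : ∀ x, σ x = x ^ q) (A : Matrix (Fin n) (Fin n) F)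
    (hd : A.det = 1) (h : Aᵀ * A.map σ = 1) :
    (⟨A, hd⟩ : _root_.Matrix.SpecialLinearGroup (Fin n) F) ∈ SU n F q := by
  intro u v
  change hermForm n F q (A *ᵥ u) (A *ᵥ v) = hermForm n F q u v
  have h1 : ∀ u v : Fin n → F, hermForm n F q u v = u ⬝ᵥ (fun i => σ (v i)) := by
    intro u v
    unfold hermForm dotProduct
    simp only [hσ]
  rw [h1, h1]
  have h2 : (fun i => σ ((A *ᵥ v) i)) = A.map σ *ᵥ (fun i => σ (v i)) := by
    ext i
    simp only [Matrix.mulVec, dotProduct, map_sum, map_mul, Matrix.map_apply]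
  rw [h2, ← Matrix.vecMul_transpose, ← Matrix.dotProduct_mulVec, Matrix.mulVec_mulVec, h,
    Matrix.one_mulVec]

set_option maxHeartbeats 1000000 in
theorem exists_psu3 [Fintype F] (hF : Fintype.card F = 9) :
    ∃ V : Subgroup (Cfsg.PSU 3 F 3), IsPGroup 3 V ∧ ∃ x ∈ V, ∃ y ∈ V, x * y ≠ y * x := by
  haveI : Fact (Nat.Prime 3) := ⟨by norm_num⟩
  haveI : CharP F 3 := charP_of_card (by norm_num) (k := 2) (by rw [hF]; norm_num)
  have h3 : (3 : F) = 0 := by
    have := CharP.cast_eq_zero F 3
    exact_mod_cast this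
  obtain ⟨i, hi⟩ : ∃ i : F, i * i = -1 := by
    have := (FiniteField.isSquare_neg_one_iff (F := F)).2 (by rw [hF]; decide)
    obtain ⟨i, hi⟩ := this
    exact ⟨i, hi.symm⟩
  have hi1 : (1 : F) ≠ i := by
    rintro h
    rw [← h] at hi
    exact one_ne_zero (α := F) (by linear_combination h3 - hi)
  let σ : F →+* F := frobenius F 3
  have hσ : ∀ x, σ x = x ^ 3 := fun x => rfl
  have hσi : σ i = -i := by
    rw [hσ]; linear_combination i * hi
  have key : ∀ {A B : _root_.Matrix.SpecialLinearGroup (Fin 3) F},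
    (A : Matrix (Fin 3) (Fin 3) F) = B → A = B := fun h => Subtype.ext h
  have key' : ∀ {A B : SU 3 F 3},
    (A.1 : Matrix (Fin 3) (Fin 3) F) = B.1 → A = B := fun h => Subtype.ext (key h)
  have dA : (!![0, -1 + i, -1 - i; -1 + i, -i, -1; -1 - i, -1, i] : Matrix (Fin 3) (Fin 3) F).det = 1 := by
    simp only [Matrix.det_fin_three, _root_.Matrix.det_fin_three, _root_.Fin.isValue, _root_.Matrix.of_apply, _root_.Matrix.cons_val', _root_.Matrix.cons_val_zero, _root_.Matrix.cons_val_fin_one, _root_.Matrix.cons_val_one, _root_.mul_neg, _root_.MulZeroClass.zero_mul, _root_.neg_zero, _root_.Matrix.cons_val, _root_.mul_one, _root_.sub_self, _root_.zero_sub, _root_.neg_add_rev, _root_.neg_neg, _root_.neg_mul, _root_.sub_neg_eq_add]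
    linear_combination 6 * hi - 3 * h3
  have dB : (!![0, 0, 1; 1, 0, 0; 0, 1, 0] : Matrix (Fin 3) (Fin 3) F).det = 1 := by
    simp [Matrix.det_fin_three]
  have dC : (!![1 + i, i, i; i, 1 + i, i; i, i, 1 + i] : Matrix (Fin 3) (Fin 3) F).det = 1 := by
    simp only [Matrix.det_fin_three, _root_.Matrix.det_fin_three, _root_.Fin.isValue, _root_.Matrix.of_apply, _root_.Matrix.cons_val', _root_.Matrix.cons_val_zero, _root_.Matrix.cons_val_fin_one, _root_.Matrix.cons_val_one, _root_.Matrix.cons_val]
    linear_combination i * h3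
  have dD : (!![1, 0, 0; 0, i, 0; 0, 0, -i] : Matrix (Fin 3) (Fin 3) F).det = 1 := by
    simp [Matrix.det_fin_three]
    linear_combination -hi
  have uA := mem_SU (q := 3) σ hσ _ dA (by
    (refine And.elim (fun cj1 => And.elim fun cj2 => And.elim fun cj3 => And.elim fun cj4 => And.elim fun cj5 => And.elim fun cj6 => And.elim fun cj7 => And.elim fun cj8 cj9 => by ext a b; fin_cases a <;> fin_cases b; exacts [cj1, cj2, cj3, cj4, cj5, cj6, cj7, cj8, cj9]) ?_; simp only [Matrix.mul_apply, Fin.sum_univ_three, hσi, _root_.Fin.zero_eta, _root_.Fin.isValue, _root_.Matrix.transpose_apply, _root_.Matrix.of_apply, _root_.Matrix.cons_val', _root_.Matrix.cons_val_zero, _root_.Matrix.cons_val_fin_one, _root_.Matrix.map_apply, _root_.map_zero, _root_.MulZeroClass.mul_zero, _root_.Matrix.cons_val_one, _root_.map_add, _root_.map_neg, _root_.map_one, _root_.zero_add, _root_.Matrix.cons_val, _root_.map_sub, _root_.sub_neg_eq_add, _root_.Matrix.one_apply_eq, _root_.Fin.mk_one, _root_.MulZeroClass.zero_mul,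 _root_.neg_neg, _root_.mul_neg, _root_.mul_one, _root_.neg_sub, _root_.ne_eq, _root_.zero_ne_one, _root_.not_false_eq_true, _root_.Matrix.one_apply_ne, _root_.Fin.reduceFinMk, _root_.neg_add_rev, _root_.Fin.reduceEq, _root_.neg_mul, _root_.one_mul, _root_.one_ne_zero, _root_.add_eq_right, and_self, and_true, true_and] <;> and_intros)
    map_tacs [(linear_combination -2 * hi + h3); (linear_combination hi); (linear_combination hi); (linear_combination hi); (linear_combination -2 * hi + h3);
     (linear_combination hi); (linear_combination hi); (linear_combination hi); (linear_combination -2 * hi + h3)])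
  have uB := mem_SU (q := 3) σ hσ _ dB (by
    ext a b
    (revert a b; simp only [Matrix.mul_apply, Fin.sum_univ_three, _root_.Fin.forall_fin_succ, _root_.Matrix.transpose_apply, _root_.Matrix.of_apply, _root_.Matrix.cons_val', _root_.Matrix.cons_val_fin_one, _root_.Matrix.map_apply, Fin.isValue, _root_.Matrix.cons_val_zero, _root_.Matrix.cons_val_one, _root_.Matrix.cons_val, _root_.map_zero, _root_.MulZeroClass.mul_zero, _root_.map_one, _root_.mul_one, _root_.zero_add, _root_.add_zero, _root_.Matrix.cons_val_succ, _root_.IsEmpty.forall_iff, _root_.and_true, _root_.Matrix.one_apply_eq, Nat.reduceAdd, _root_.Fin.succ_zero_eq_one, _root_.ne_eq, _root_.zero_ne_one, _root_.not_false_eq_true, _root_.Matrix.one_apply_ne, _root_.Fin.succ_one_eq_two, Fin.reduceEq, _root_.and_self, _root_.Fin.succ_ne_zero, _root_.true_and]))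
  have uC := mem_SU (q := 3) σ hσ _ dC (by
    ext a b
    (revert a b; simp only [hσi, _root_.map_add, _root_.map_one, _root_.mul_neg, _root_.ne_eq, _root_.zero_ne_one, _root_.not_false_eq_true, _root_.one_ne_zero, Cfsg.Agent.Lib.MatLit.r3] <;> and_intros)
    all_goals linear_combination -3 * hi + h3)
  have uD := mem_SU (q := 3) σ hσ _ dD (by
    ext a b
    (simp only [hσi, Cfsg.Agent.Lib.MatLit.p3]; revert a b; simp only [Cfsg.Agent.Lib.MatLit.one3, Cfsg.Agent.Lib.MatLit.zero3, Cfsg.Agent.Lib.MatLit.ext3]; and_intros) <;> simp [Matrix.mul_apply, Fin.sum_univ_three, hσi]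
    all_goals linear_combination -hi)
  refine exists_nonab_quot (H := SU 3 F 3) ⟨_, uB⟩ ⟨_, uA⟩ ⟨_, uC⟩ ⟨_, uD⟩ ?_ ?_ ?_ ?_ ?_ ?_ ?_
  · apply key'
    change !![0, 0, 1; 1, 0, 0; 0, 1, 0] * !![0, 0, 1; 1, 0, 0; 0, 1, 0] *
      !![0, 0, 1; 1, 0, 0; 0, 1, 0] = (1 : Matrix (Fin 3) (Fin 3) F)
    ext a b
    (revert a b; simp only [Matrix.mul_apply, Fin.sum_univ_three, _root_.Fin.forall_fin_succ, _root_.Matrix.cons_mul, _root_.Nat.succ_eq_add_one, Nat.reduceAdd, _root_.Matrix.vecMul_cons, _root_.Matrix.head_cons, _root_.zero_smul, _root_.Matrix.tail_cons, _root_.one_smul, _root_.Matrix.empty_vecMul, _root_.add_zero, _root_.zero_add, _root_.Matrix.empty_mul, _root_.Equiv.symm_apply_apply, _root_.Matrix.of_apply, _root_.Matrix.cons_val', _root_.Matrix.cons_val_fin_one, Fin.isValue, _root_.Matrix.cons_val_zero, _root_.Matrix.cons_val_one, _root_.Matrix.cons_val, _root_.MulZeroClass.mul_zero, _root_.mul_one, _root_.Matrix.cons_val_succ, _root_.IsEmpty.forall_iff, _root_.and_true, _root_.Matrix.one_apply_eq,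 _root_.Fin.succ_zero_eq_one, _root_.ne_eq, _root_.zero_ne_one, _root_.not_false_eq_true, _root_.Matrix.one_apply_ne, _root_.Fin.succ_one_eq_two, Fin.reduceEq, _root_.and_self, _root_.Fin.succ_ne_zero, _root_.true_and])
    all_goals first | linear_combination 0 | linear_combination -3 * hi | linear_combination i * h3 | linear_combination (-3 * i + -3) * hi | linear_combination (3 * i + -3) * hi |
      linear_combination (-3 * i + 6) * hi - 3 * h3 | linear_combination (3 * i + 6) * hi - 3 * h3 | linear_combination 6 * hi - 3 * h3 | linear_combination (9 * i + 9) * hi + (-2 * i + -3) * h3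
  · apply key'
    change !![0, -1 + i, -1 - i; -1 + i, -i, -1; -1 - i, -1, i] * !![0, -1 + i, -1 - i; -1 + i, -i, -1; -1 - i, -1, i] *
      !![0, -1 + i, -1 - i; -1 + i, -i, -1; -1 - i, -1, i] = (1 : Matrix (Fin 3) (Fin 3) F)
    (refine And.elim (fun cj1 => And.elim fun cj2 => And.elim fun cj3 => And.elim fun cj4 => And.elim fun cj5 => And.elim fun cj6 => And.elim fun cj7 => And.elim fun cj8 cj9 => by ext a b; fin_cases a <;> fin_cases b; exacts [cj1, cj2, cj3, cj4, cj5, cj6, cj7, cj8, cj9]) ?_; simp only [Matrix.mul_apply, Fin.sum_univ_three, _root_.Matrix.cons_mul, _root_.Nat.succ_eq_add_one, _root_.Nat.reduceAdd, _root_.Matrix.vecMul_cons, _root_.Matrix.head_cons, _root_.zero_smul, _root_.Matrix.tail_cons, _root_.Matrix.smul_cons, _root_.smul_eq_mul, _root_.mul_neg, _root_.mul_one, _root_.neg_add_rev, _root_.neg_neg, _root_.Matrix.smul_empty, _root_.neg_sub, _root_.sub_neg_eq_add, _root_.Matrix.empty_vecMul, _root_.add_zero, _root_.Matrix.add_cons, _root_.Matrix.empty_add_empty, _root_.zero_add,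 _root_.MulZeroClass.mul_zero, _root_.neg_smul, _root_.Matrix.neg_cons, _root_.Matrix.neg_empty, _root_.one_smul, _root_.add_neg_cancel, _root_.Matrix.empty_mul, _root_.Equiv.symm_apply_apply, _root_.Fin.zero_eta, _root_.Fin.isValue, _root_.Matrix.mul_apply, _root_.Matrix.of_apply, _root_.Matrix.cons_val', _root_.Matrix.cons_val_fin_one, _root_.Matrix.cons_val_zero, _root_.Fin.sum_univ_three, _root_.Matrix.cons_val_one, _root_.Matrix.cons_val, _root_.Matrix.one_apply_eq, _root_.Fin.mk_one, _root_.ne_eq, _root_.zero_ne_one, _root_.not_false_eq_true, _root_.Matrix.one_apply_ne, _root_.Fin.reduceFinMk, _root_.Fin.reduceEq, _root_.one_ne_zero, and_self, and_true, true_and] <;> and_intros)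
    map_tacs [(linear_combination 6 * hi - 3 * h3); (linear_combination (3 * i + -3) * hi); (linear_combination (-3 * i + -3) * hi);
     (linear_combination (3 * i + -3) * hi); (linear_combination (-3 * i + 6) * hi - 3 * h3); (linear_combination -3 * hi);
     (linear_combination (-3 * i + -3) * hi); (linear_combination -3 * hi); (linear_combination (3 * i + 6) * hi - 3 * h3)]
  · apply key'
    change !![1 + i, i, i; i, 1 + i, i; i, i, 1 + i] * !![1 + i, i, i; i, 1 + i, i; i, i, 1 + i] *
      !![1 + i, i, i; i, 1 + i, i; i, i, 1 + i] = (1 : Matrix (Fin 3) (Fin 3) F)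
    (refine And.elim (fun cj1 => And.elim fun cj2 => And.elim fun cj3 => And.elim fun cj4 => And.elim fun cj5 => And.elim fun cj6 => And.elim fun cj7 => And.elim fun cj8 cj9 => by ext a b; fin_cases a <;> fin_cases b; exacts [cj1, cj2, cj3, cj4, cj5, cj6, cj7, cj8, cj9]) ?_; simp only [Matrix.mul_apply, Fin.sum_univ_three, _root_.Matrix.cons_mul, _root_.Nat.succ_eq_add_one, _root_.Nat.reduceAdd, _root_.Matrix.vecMul_cons, _root_.Matrix.head_cons, _root_.Matrix.smul_cons, _root_.smul_eq_mul, _root_.Matrix.smul_empty, _root_.Matrix.tail_cons, _root_.Matrix.empty_vecMul, _root_.add_zero, _root_.Matrix.add_cons, _root_.Matrix.empty_add_empty, _root_.Matrix.empty_mul, _root_.Equiv.symm_apply_apply, _root_.Fin.zero_eta, _root_.Fin.isValue, _root_.Matrix.mul_apply, _root_.Matrix.of_apply, _root_.Matrix.cons_val', _root_.Matrix.cons_val_fin_one, _root_.Matrix.cons_val_zero, _root_.Fin.sum_univ_three, _root_.Matrix.cons_val_one, _root_.Matrix.cons_val, _root_.Matrix.one_apply_eq, _root_.Fin.mk_one,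 _root_.ne_eq, _root_.zero_ne_one, _root_.not_false_eq_true, _root_.Matrix.one_apply_ne, _root_.Fin.reduceFinMk, _root_.Fin.reduceEq, _root_.one_ne_zero, and_self, and_true, true_and] <;> and_intros)
    all_goals first | fail                 | fail                       | fail                      | fail                                  | fail                                 |
      fail                                          | fail                                         | fail                               | linear_combination (9 * i + 9) * hi + (-2 * i + -3) * h3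
  · apply key'
    change !![0, 0, 1; 1, 0, 0; 0, 1, 0] * !![0, -1 + i, -1 - i; -1 + i, -i, -1; -1 - i, -1, i] = !![1 + i, i, i; i, 1 + i, i; i, i, 1 + i] * (!![0, -1 + i, -1 - i; -1 + i, -i, -1; -1 - i, -1, i] * !![0, 0, 1; 1, 0, 0; 0, 1, 0] : Matrix (Fin 3) (Fin 3) F)
    (refine And.elim (fun cj1 => And.elim fun cj2 => And.elim fun cj3 => And.elim fun cj4 => And.elim fun cj5 => And.elim fun cj6 => And.elim fun cj7 => And.elim fun cj8 cj9 => by ext a b; fin_cases a <;> fin_cases b; exacts [cj1, cj2, cj3, cj4, cj5, cj6, cj7, cj8, cj9]) ?_; simp [Matrix.mul_apply, Fin.sum_univ_three] <;> and_intros)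
    map_tacs [(linear_combination 0); (linear_combination i * h3); (linear_combination i * h3); (linear_combination i * h3); (linear_combination i * h3);
     (linear_combination 0); (linear_combination i * h3); (linear_combination 0); (linear_combination i * h3)]
  · apply key'
    change !![1 + i, i, i; i, 1 + i, i; i, i, 1 + i] * !![0, 0, 1; 1, 0, 0; 0, 1, 0] = (!![0, 0, 1; 1, 0, 0; 0, 1, 0] * !![1 + i, i, i; i, 1 + i, i; i, i, 1 + i] : Matrix (Fin 3) (Fin 3) F)
    ext a b
    (revert a b; simp only [Matrix.mul_apply, Fin.sum_univ_three, _root_.Fin.forall_fin_succ, _root_.Matrix.of_apply, _root_.Matrix.cons_val', _root_.Matrix.cons_val_fin_one, Fin.isValue, _root_.Matrix.cons_val_zero, _root_.Matrix.cons_val_one, _root_.Matrix.cons_val, _root_.MulZeroClass.mul_zero, _root_.mul_one, _root_.zero_add, _root_.add_zero, _root_.Matrix.cons_val_succ, _root_.forall_const, _root_.MulZeroClass.zero_mul, _root_.one_mul, _root_.and_self, _root_.implies_true])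
    all_goals first | linear_combination 0 | linear_combination -3 * hi | linear_combination i * h3 | linear_combination (-3 * i + -3) * hi | linear_combination (3 * i + -3) * hi |
      linear_combination (-3 * i + 6) * hi - 3 * h3 | linear_combination (3 * i + 6) * hi - 3 * h3 | linear_combination 6 * hi - 3 * h3 | linear_combination (9 * i + 9) * hi + (-2 * i + -3) * h3
  · apply key'
    change !![1 + i, i, i; i, 1 + i, i; i, i, 1 + i] * !![0, -1 + i, -1 - i; -1 + i, -i, -1; -1 - i, -1, i] = (!![0, -1 + i, -1 - i; -1 + i, -i, -1; -1 - i, -1, i] * !![1 + i, i, i; i, 1 + i, i; i, i, 1 + i] : Matrix (Fin 3) (Fin 3) F)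
    ext a b
    (revert a b; simp only [_root_.mul_neg, _root_.neg_mul, _root_.add_left_inj, _root_.neg_add_rev, Cfsg.Agent.Lib.MatLit.r3] <;> and_intros)
    all_goals first | linear_combination 0 | linear_combination -3 * hi | linear_combination i * h3 | linear_combination (-3 * i + -3) * hi | linear_combination (3 * i + -3) * hi |
      linear_combination (-3 * i + 6) * hi - 3 * h3 | linear_combination (3 * i + 6) * hi - 3 * h3 | linear_combination 6 * hi - 3 * h3 | linear_combination (9 * i + 9) * hi + (-2 * i + -3) * h3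
  · intro h
    have h1 := congrArg (fun z : SU 3 F 3 => (z.1 : Matrix (Fin 3) (Fin 3) F) 0 1) h
    change (!![1 + i, i, i; i, 1 + i, i; i, i, 1 + i] * !![1, 0, 0; 0, i, 0; 0, 0, -i] : Matrix (Fin 3) (Fin 3) F) 0 1 = (!![1, 0, 0; 0, i, 0; 0, 0, -i] * !![1 + i, i, i; i, 1 + i, i; i, i, 1 + i] : Matrix (Fin 3) (Fin 3) F) 0 1 at h1
    simp only [Matrix.mul_apply, Fin.sum_univ_three, _root_.Fin.isValue, _root_.Matrix.mul_apply, _root_.Matrix.of_apply, _root_.Matrix.cons_val', _root_.Matrix.cons_val_fin_one, _root_.Matrix.cons_val_zero, _root_.Matrix.cons_val_one, _root_.Fin.sum_univ_three, _root_.MulZeroClass.mul_zero, _root_.zero_add, _root_.Matrix.cons_val, _root_.add_zero, _root_.one_mul, _root_.MulZeroClass.zero_mul] at h1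
    exact one_ne_zero (α := F) (by linear_combination h3 - hi + (hi - h1) * (i - 1))

set_option maxHeartbeats 1000000 in
theorem exists_psu4 [Fintype F] (hF : Fintype.card F = 4) :
    ∃ V : Subgroup (Cfsg.PSU 4 F 2), IsPGroup 3 V ∧ ∃ x ∈ V, ∃ y ∈ V, x * y ≠ y * x := by
  haveI : Fact (Nat.Prime 2) := ⟨by norm_num⟩
  haveI : CharP F 2 := charP_of_card (by norm_num) (k := 2) (by rw [hF]; norm_num)
  have h2 : (2 : F) = 0 := by
    have := CharP.cast_eq_zero F 2
    exact_mod_cast this
  obtain ⟨w, hw1, hw0⟩ : ∃ w : F, w ≠ 1 ∧ w ≠ 0 := by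
    by_contra hcon
    push Not at hcon
    have h4 : Fintype.card F ≤ 2 := by
      classical
      rw [← Finset.card_univ]
      refine le_trans (Finset.card_le_card (t := {0, 1}) ?_) (Finset.card_le_two)
      intro x _
      by_cases hx : x = 1
      · simp only [hx, _root_.Finset.mem_insert, _root_.one_ne_zero, _root_.Finset.mem_singleton, _root_.or_true]
      · simp only [hcon x hx, _root_.Finset.mem_insert, _root_.Finset.mem_singleton, _root_.zero_ne_one, _root_.or_false]
    omega
  have hw3 : w ^ 3 = 1 := by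
    have := FiniteField.pow_card_sub_one_eq_one w hw0
    rwa [hF] at this
  have hw : w * w = -w - 1 := by
    have h4 : (w - 1) * (w * w + w + 1) = 0 := by linear_combination hw3
    have h5 := (mul_eq_zero.1 h4).resolve_left (sub_ne_zero.2 hw1)
    linear_combination h5
  let σ : F →+* F := frobenius F 2
  have hσ : ∀ x, σ x = x ^ 2 := fun x => rfl
  have hσw : σ w = w * w := by
    rw [hσ, pow_two]
  have key' : ∀ {A B : SU 4 F 2},
    (A.1 : Matrix (Fin 4) (Fin 4) F) = B.1 → A = B := fun h => Subtype.ext (Subtype.ext h)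
  have dA : (!![w, 0, 0, 0; 0, w * w, 0, 0; 0, 0, 1, 0; 0, 0, 0, 1] : Matrix (Fin 4) (Fin 4) F).det = 1 := by
    simp only [Matrix.det_succ_row_zero, Fin.sum_univ_succ, Fin.succAbove, _root_.Matrix.det_succ_row_zero, _root_.Nat.succ_eq_add_one, _root_.Nat.reduceAdd, _root_.Fin.isValue, _root_.Matrix.of_apply, _root_.Matrix.cons_val', _root_.Matrix.cons_val_fin_one, _root_.Matrix.cons_val_zero, _root_.Matrix.submatrix_apply, _root_.Fin.succ_zero_eq_one, _root_.Fin.succAbove, _root_.Matrix.cons_val_one, _root_.Matrix.submatrix_submatrix, _root_.Function.comp_apply, _root_.Fin.succ_one_eq_two, _root_.Matrix.cons_val, _root_.Matrix.det_unique, _root_.Fin.default_eq_zero, _root_.Fin.reduceSucc, _root_.Fin.castSucc_zero, _root_.Fin.sum_univ_succ, _root_.Fin.coe_ofNat_eq_mod, _root_.Nat.zero_mod, _root_.pow_zero, _root_.one_mul, _root_.lt_self_iff_false, ↓ _root_.reduceIte, _root_.Fin.castSucc_one, _root_.Finset.univ_unique, _root_.Fin.val_succ, _root_.Fin.val_eq_zero, _root_.zero_add, _root_.pow_one,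 _root_.Fin.castSucc_succ, _root_.neg_mul, _root_.Fin.succ_pos, _root_.Finset.sum_neg_distrib, _root_.Finset.sum_singleton, _root_.not_lt_zero, _root_.Fin.reduceCastSucc, _root_.even_two, _root_.Even.neg_pow, _root_.one_pow, _root_.Fin.reduceLT, _root_.mul_one, _root_.MulZeroClass.mul_zero, _root_.neg_zero, _root_.add_zero, _root_.Matrix.cons_val_succ, _root_.MulZeroClass.zero_mul, _root_.Finset.sum_const_zero]
    first | fail                 | linear_combination (w - 1) * hw | linear_combination (-w + 1) * hw | linear_combination (-w ^ 2 + w) * hw | linear_combination (w ^ 4 - w ^ 3 + w - 1) * hw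
  have dB : (!![0, 0, 1, 0; 1, 0, 0, 0; 0, 1, 0, 0; 0, 0, 0, 1] : Matrix (Fin 4) (Fin 4) F).det = 1 := by
    simp only [Matrix.det_succ_row_zero, Fin.sum_univ_succ, Fin.succAbove, _root_.Matrix.det_succ_row_zero, _root_.Nat.succ_eq_add_one, _root_.Nat.reduceAdd, _root_.Fin.isValue, _root_.Matrix.of_apply, _root_.Matrix.cons_val', _root_.Matrix.cons_val_fin_one, _root_.Matrix.cons_val_zero, _root_.Matrix.submatrix_apply, _root_.Fin.succ_zero_eq_one, _root_.Fin.succAbove, _root_.Matrix.cons_val_one, _root_.Matrix.submatrix_submatrix, _root_.Function.comp_apply, _root_.Fin.succ_one_eq_two, _root_.Matrix.cons_val, _root_.Matrix.det_unique, _root_.Fin.default_eq_zero, _root_.Fin.reduceSucc, _root_.Fin.castSucc_zero, _root_.Fin.sum_univ_succ, _root_.Fin.coe_ofNat_eq_mod, _root_.Nat.zero_mod, _root_.pow_zero, _root_.one_mul, _root_.lt_self_iff_false, ↓ _root_.reduceIte, _root_.Fin.castSucc_one, _root_.Finset.univ_unique, _root_.Fin.val_succ, _root_.Fin.val_eq_zero, _root_.zero_add, _root_.pow_one,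 _root_.Fin.castSucc_succ, _root_.neg_mul, _root_.Fin.succ_pos, _root_.Finset.sum_neg_distrib, _root_.Finset.sum_singleton, _root_.not_lt_zero, _root_.Fin.reduceCastSucc, _root_.even_two, _root_.Even.neg_pow, _root_.one_pow, _root_.Fin.reduceLT, _root_.MulZeroClass.mul_zero, _root_.mul_one, _root_.neg_zero, _root_.add_zero, _root_.Matrix.cons_val_succ, _root_.MulZeroClass.zero_mul, _root_.Fin.lt_one_iff, _root_.Fin.reduceEq, _root_.Finset.sum_const_zero]
    all_goals first | linear_combination 0 | linear_combination (w - 1) * hw | linear_combination (-w + 1) * hw | linear_combination (-w ^ 2 + w) * hw | linear_combination (w ^ 4 - w ^ 3 + w - 1) * hw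
  have dC : (!![w * w, 0, 0, 0; 0, w * w, 0, 0; 0, 0, w * w, 0; 0, 0, 0, 1] : Matrix (Fin 4) (Fin 4) F).det = 1 := by
    simp only [Matrix.det_succ_row_zero, Fin.sum_univ_succ, Fin.succAbove, _root_.Matrix.det_succ_row_zero, _root_.Nat.succ_eq_add_one, _root_.Nat.reduceAdd, _root_.Fin.isValue, _root_.Matrix.of_apply, _root_.Matrix.cons_val', _root_.Matrix.cons_val_fin_one, _root_.Matrix.cons_val_zero, _root_.Matrix.submatrix_apply, _root_.Fin.succ_zero_eq_one, _root_.Fin.succAbove, _root_.Matrix.cons_val_one, _root_.Matrix.submatrix_submatrix, _root_.Function.comp_apply, _root_.Fin.succ_one_eq_two, _root_.Matrix.cons_val, _root_.Matrix.det_unique, _root_.Fin.default_eq_zero, _root_.Fin.reduceSucc, _root_.Fin.castSucc_zero, _root_.Fin.sum_univ_succ, _root_.Fin.coe_ofNat_eq_mod, _root_.Nat.zero_mod, _root_.pow_zero, _root_.one_mul, _root_.lt_self_iff_false, ↓ _root_.reduceIte, _root_.Fin.castSucc_one, _root_.Finset.univ_unique, _root_.Fin.val_succ, _root_.Fin.val_eq_zero, _root_.zero_add, _root_.pow_one,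 _root_.Fin.castSucc_succ, _root_.neg_mul, _root_.Fin.succ_pos, _root_.Finset.sum_neg_distrib, _root_.Finset.sum_singleton, _root_.not_lt_zero, _root_.Fin.reduceCastSucc, _root_.even_two, _root_.Even.neg_pow, _root_.one_pow, _root_.Fin.reduceLT, _root_.mul_one, _root_.MulZeroClass.mul_zero, _root_.neg_zero, _root_.add_zero, _root_.Matrix.cons_val_succ, _root_.MulZeroClass.zero_mul, _root_.Finset.sum_const_zero]
    first | fail                 | fail                            | fail                             | fail                                 | linear_combination (w ^ 4 - w ^ 3 + w - 1) * hw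
  have dD : (!![1, 0, 0, 0; 0, 0, 0, 1; 0, 1, 0, 0; 0, 0, 1, 0] : Matrix (Fin 4) (Fin 4) F).det = 1 := by
    simp only [Matrix.det_succ_row_zero, Fin.sum_univ_succ, Fin.succAbove, _root_.Matrix.det_succ_row_zero, _root_.Nat.succ_eq_add_one, _root_.Nat.reduceAdd, _root_.Fin.isValue, _root_.Matrix.of_apply, _root_.Matrix.cons_val', _root_.Matrix.cons_val_fin_one, _root_.Matrix.cons_val_zero, _root_.Matrix.submatrix_apply, _root_.Fin.succ_zero_eq_one, _root_.Fin.succAbove, _root_.Matrix.cons_val_one, _root_.Matrix.submatrix_submatrix, _root_.Function.comp_apply, _root_.Fin.succ_one_eq_two, _root_.Matrix.cons_val, _root_.Matrix.det_unique, _root_.Fin.default_eq_zero, _root_.Fin.reduceSucc, _root_.Fin.castSucc_zero, _root_.Fin.sum_univ_succ, _root_.Fin.coe_ofNat_eq_mod, _root_.Nat.zero_mod, _root_.pow_zero, _root_.one_mul, _root_.lt_self_iff_false, ↓ _root_.reduceIte, _root_.Fin.castSucc_one, _root_.Finset.univ_unique, _root_.Fin.val_succ, _root_.Fin.val_eq_zero, _root_.zero_add, _root_.pow_one,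 _root_.Fin.castSucc_succ, _root_.neg_mul, _root_.Fin.succ_pos, _root_.Finset.sum_neg_distrib, _root_.Finset.sum_singleton, _root_.not_lt_zero, _root_.Fin.reduceCastSucc, _root_.even_two, _root_.Even.neg_pow, _root_.one_pow, _root_.Fin.reduceLT, _root_.mul_one, _root_.MulZeroClass.mul_zero, _root_.neg_zero, _root_.add_zero, _root_.Matrix.cons_val_succ, _root_.MulZeroClass.zero_mul, _root_.Finset.sum_const_zero]
    all_goals first | linear_combination 0 | linear_combination (w - 1) * hw | linear_combination (-w + 1) * hw | linear_combination (-w ^ 2 + w) * hw | linear_combination (w ^ 4 - w ^ 3 + w - 1) * hw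
  have uA := mem_SU (q := 2) σ hσ _ dA (by
    ext a b
    simp only [hσw, Cfsg.Agent.Lib.MatLit.p4] <;> fin_cases a <;> fin_cases b <;> simp [Matrix.mul_apply, Fin.sum_univ_four, hσw]
    all_goals first | fail                 | linear_combination (w - 1) * hw | fail                             | fail                                 | linear_combination (w ^ 4 - w ^ 3 + w - 1) * hw)
  have uB := mem_SU (q := 2) σ hσ _ dB (by
    ext a b
    (revert a b; simp only [Matrix.mul_apply, Fin.sum_univ_four, _root_.Fin.forall_fin_succ, _root_.Matrix.transpose_apply, _root_.Matrix.of_apply, _root_.Matrix.cons_val', _root_.Matrix.cons_val_fin_one, _root_.Matrix.map_apply, Fin.isValue, _root_.Matrix.cons_val_zero, _root_.Matrix.cons_val_one, _root_.Matrix.cons_val, _root_.map_zero, _root_.MulZeroClass.mul_zero, _root_.map_one, _root_.mul_one, _root_.zero_add, _root_.add_zero, _root_.Matrix.cons_val_succ, _root_.IsEmpty.forall_iff, _root_.and_true, _root_.Matrix.one_apply_eq, Nat.reduceAdd, _root_.Fin.succ_zero_eq_one,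 _root_.ne_eq, _root_.zero_ne_one, _root_.not_false_eq_true, _root_.Matrix.one_apply_ne, _root_.Fin.succ_one_eq_two, Fin.reduceEq, Fin.reduceSucc, _root_.and_self, _root_.Fin.succ_ne_zero, _root_.true_and]))
  have uC := mem_SU (q := 2) σ hσ _ dC (by
    ext a b
    (simp only [hσw, Cfsg.Agent.Lib.MatLit.p4]; revert a b; simp only [Cfsg.Agent.Lib.MatLit.one4, Cfsg.Agent.Lib.MatLit.zero4, Cfsg.Agent.Lib.MatLit.ext4]; and_intros) <;> simp [Matrix.mul_apply, Fin.sum_univ_four, hσw]
    all_goals first | fail                 | fail                            | fail                             | fail                                 | linear_combination (w ^ 4 - w ^ 3 + w - 1) * hw)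
  have uD := mem_SU (q := 2) σ hσ _ dD (by
    ext a b
    (revert a b; simp only [Matrix.mul_apply, Fin.sum_univ_four, _root_.Fin.forall_fin_succ, _root_.Matrix.transpose_apply, _root_.Matrix.of_apply, _root_.Matrix.cons_val', _root_.Matrix.cons_val_fin_one, _root_.Matrix.map_apply, Fin.isValue, _root_.Matrix.cons_val_zero, _root_.Matrix.cons_val_one, _root_.Matrix.cons_val, _root_.map_one, _root_.mul_one, _root_.map_zero, _root_.MulZeroClass.mul_zero, _root_.add_zero, _root_.Matrix.cons_val_succ, _root_.zero_add, _root_.IsEmpty.forall_iff, _root_.and_true, _root_.Matrix.one_apply_eq, Nat.reduceAdd, _root_.Fin.succ_zero_eq_one, _root_.ne_eq, _root_.zero_ne_one, _root_.not_false_eq_true, _root_.Matrix.one_apply_ne, _root_.Fin.succ_one_eq_two, Fin.reduceEq, Fin.reduceSucc, _root_.and_self, _root_.Fin.succ_ne_zero, _root_.true_and]))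
  refine exists_nonab_quot (H := SU 4 F 2) ⟨_, uB⟩ ⟨_, uA⟩ ⟨_, uC⟩ ⟨_, uD⟩ ?_ ?_ ?_ ?_ ?_ ?_ ?_
  · apply key'
    change !![0, 0, 1, 0; 1, 0, 0, 0; 0, 1, 0, 0; 0, 0, 0, 1] * !![0, 0, 1, 0; 1, 0, 0, 0; 0, 1, 0, 0; 0, 0, 0, 1] *
      !![0, 0, 1, 0; 1, 0, 0, 0; 0, 1, 0, 0; 0, 0, 0, 1] = (1 : Matrix (Fin 4) (Fin 4) F)
    ext a b
    (revert a b; simp only [Matrix.mul_apply, Fin.sum_univ_four, _root_.Fin.forall_fin_succ, _root_.Matrix.cons_mul, _root_.Nat.succ_eq_add_one, Nat.reduceAdd, _root_.Matrix.vecMul_cons, _root_.Matrix.head_cons, _root_.zero_smul, _root_.Matrix.tail_cons, _root_.one_smul, _root_.Matrix.empty_vecMul, _root_.add_zero, _root_.zero_add, _root_.Matrix.empty_mul, _root_.Equiv.symm_apply_apply, _root_.Matrix.of_apply, _root_.Matrix.cons_val', _root_.Matrix.cons_val_fin_one, Fin.isValue, _root_.Matrix.cons_val_zero, _root_.Matrix.cons_val_one, _root_.Matrix.cons_val, _root_.MulZeroClass.mul_zero, _root_.mul_one, _root_.Matrix.cons_val_succ, _root_.IsEmpty.forall_iff, _root_.and_true,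 _root_.Matrix.one_apply_eq, _root_.Fin.succ_zero_eq_one, _root_.ne_eq, _root_.zero_ne_one, _root_.not_false_eq_true, _root_.Matrix.one_apply_ne, _root_.Fin.succ_one_eq_two, Fin.reduceEq, Fin.reduceSucc, _root_.and_self, _root_.Fin.succ_ne_zero, _root_.true_and])
    all_goals first | linear_combination 0 | linear_combination (w - 1) * hw | linear_combination (-w + 1) * hw | linear_combination (-w ^ 2 + w) * hw | linear_combination (w ^ 4 - w ^ 3 + w - 1) * hw
  · apply key'
    change !![w, 0, 0, 0; 0, w * w, 0, 0; 0, 0, 1, 0; 0, 0, 0, 1] * !![w, 0, 0, 0; 0, w * w, 0, 0; 0, 0, 1, 0; 0, 0, 0, 1] *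
      !![w, 0, 0, 0; 0, w * w, 0, 0; 0, 0, 1, 0; 0, 0, 0, 1] = (1 : Matrix (Fin 4) (Fin 4) F)
    (refine And.elim (fun cj1 => And.elim fun cj2 => And.elim fun cj3 => And.elim fun cj4 => And.elim fun cj5 => And.elim fun cj6 => And.elim fun cj7 => And.elim fun cj8 => And.elim fun cj9 => And.elim fun cj10 => And.elim fun cj11 => And.elim fun cj12 => And.elim fun cj13 => And.elim fun cj14 => And.elim fun cj15 cj16 => by ext a b; fin_cases a <;> fin_cases b; exacts [cj1, cj2, cj3, cj4, cj5, cj6, cj7, cj8, cj9, cj10, cj11, cj12, cj13, cj14, cj15, cj16]) ?_; simp [Matrix.mul_apply, Fin.sum_univ_four] <;> and_intros)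
    all_goals first | fail                 | linear_combination (w - 1) * hw | fail                             | fail                                 | linear_combination (w ^ 4 - w ^ 3 + w - 1) * hw
  · apply key'
    change !![w * w, 0, 0, 0; 0, w * w, 0, 0; 0, 0, w * w, 0; 0, 0, 0, 1] * !![w * w, 0, 0, 0; 0, w * w, 0, 0; 0, 0, w * w, 0; 0, 0, 0, 1] *
      !![w * w, 0, 0, 0; 0, w * w, 0, 0; 0, 0, w * w, 0; 0, 0, 0, 1] = (1 : Matrix (Fin 4) (Fin 4) F)
    ext a b
    simp only [Cfsg.Agent.Lib.MatLit.p4] <;> fin_cases a <;> fin_cases b <;> simp [Matrix.mul_apply, Fin.sum_univ_four]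
    all_goals first | fail                 | fail                            | fail                             | fail                                 | linear_combination (w ^ 4 - w ^ 3 + w - 1) * hw
  · apply key'
    change !![0, 0, 1, 0; 1, 0, 0, 0; 0, 1, 0, 0; 0, 0, 0, 1] * !![w, 0, 0, 0; 0, w * w, 0, 0; 0, 0, 1, 0; 0, 0, 0, 1] = !![w * w, 0, 0, 0; 0, w * w, 0, 0; 0, 0, w * w, 0; 0, 0, 0, 1] * (!![w, 0, 0, 0; 0, w * w, 0, 0; 0, 0, 1, 0; 0, 0, 0, 1] * !![0, 0, 1, 0; 1, 0, 0, 0; 0, 1, 0, 0; 0, 0, 0, 1] : Matrix (Fin 4) (Fin 4) F)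
    (refine And.elim (fun cj1 => And.elim fun cj2 => And.elim fun cj3 => And.elim fun cj4 => And.elim fun cj5 => And.elim fun cj6 => And.elim fun cj7 => And.elim fun cj8 => And.elim fun cj9 => And.elim fun cj10 => And.elim fun cj11 => And.elim fun cj12 => And.elim fun cj13 => And.elim fun cj14 => And.elim fun cj15 cj16 => by ext a b; fin_cases a <;> fin_cases b; exacts [cj1, cj2, cj3, cj4, cj5, cj6, cj7, cj8, cj9, cj10, cj11, cj12, cj13, cj14, cj15, cj16]) ?_; simp [Matrix.mul_apply, Fin.sum_univ_four] <;> and_intros)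
    map_tacs [(linear_combination (-w + 1) * hw); (linear_combination (-w ^ 2 + w) * hw)]
  · apply key'
    change !![w * w, 0, 0, 0; 0, w * w, 0, 0; 0, 0, w * w, 0; 0, 0, 0, 1] * !![0, 0, 1, 0; 1, 0, 0, 0; 0, 1, 0, 0; 0, 0, 0, 1] = (!![0, 0, 1, 0; 1, 0, 0, 0; 0, 1, 0, 0; 0, 0, 0, 1] * !![w * w, 0, 0, 0; 0, w * w, 0, 0; 0, 0, w * w, 0; 0, 0, 0, 1] : Matrix (Fin 4) (Fin 4) F)
    ext a b
    (revert a b; simp only [Matrix.mul_apply, Fin.sum_univ_four, _root_.Fin.forall_fin_succ, _root_.Matrix.of_apply, _root_.Matrix.cons_val', _root_.Matrix.cons_val_fin_one, Fin.isValue, _root_.Matrix.cons_val_zero, _root_.Matrix.cons_val_one, _root_.Matrix.cons_val, _root_.add_left_inj, _root_.MulZeroClass.mul_zero, _root_.mul_one, _root_.zero_add, _root_.add_zero, _root_.Matrix.cons_val_succ, _root_.implies_true, _root_.and_true, _root_.MulZeroClass.zero_mul, _root_.one_mul, _root_.and_self])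
    all_goals first | linear_combination 0 | linear_combination (w - 1) * hw | linear_combination (-w + 1) * hw | linear_combination (-w ^ 2 + w) * hw | linear_combination (w ^ 4 - w ^ 3 + w - 1) * hw
  · apply key'
    change !![w * w, 0, 0, 0; 0, w * w, 0, 0; 0, 0, w * w, 0; 0, 0, 0, 1] * !![w, 0, 0, 0; 0, w * w, 0, 0; 0, 0, 1, 0; 0, 0, 0, 1] = (!![w, 0, 0, 0; 0, w * w, 0, 0; 0, 0, 1, 0; 0, 0, 0, 1] * !![w * w, 0, 0, 0; 0, w * w, 0, 0; 0, 0, w * w, 0; 0, 0, 0, 1] : Matrix (Fin 4) (Fin 4) F)
    ext a b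
    (revert a b; simp only [Matrix.mul_apply, Fin.sum_univ_four, _root_.Fin.forall_fin_succ, _root_.Matrix.of_apply, _root_.Matrix.cons_val', _root_.Matrix.cons_val_fin_one, Fin.isValue, _root_.Matrix.cons_val_zero, _root_.Matrix.cons_val_one, _root_.Matrix.cons_val, _root_.add_left_inj, _root_.MulZeroClass.mul_zero, _root_.add_zero, _root_.Matrix.cons_val_succ, _root_.zero_add, _root_.mul_one, _root_.implies_true, _root_.MulZeroClass.zero_mul, _root_.mul_eq_mul_left_iff, _root_.or_true, _root_.one_mul, _root_.and_true, _root_.true_and]) <;> (repeat' with_reducible apply And.intro)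
    all_goals first | linear_combination 0 | linear_combination (w - 1) * hw | linear_combination (-w + 1) * hw | linear_combination (-w ^ 2 + w) * hw | linear_combination (w ^ 4 - w ^ 3 + w - 1) * hw
  · intro h
    have h1 := congrArg (fun z : SU 4 F 2 => (z.1 : Matrix (Fin 4) (Fin 4) F) 1 3) h
    change (!![w * w, 0, 0, 0; 0, w * w, 0, 0; 0, 0, w * w, 0; 0, 0, 0, 1] * !![1, 0, 0, 0; 0, 0, 0, 1; 0, 1, 0, 0; 0, 0, 1, 0] : Matrix (Fin 4) (Fin 4) F) 1 3 = (!![1, 0, 0, 0; 0, 0, 0, 1; 0, 1, 0, 0; 0, 0, 1, 0] * !![w * w, 0, 0, 0; 0, w * w, 0, 0; 0, 0, w * w, 0; 0, 0, 0, 1] : Matrix (Fin 4) (Fin 4) F) 1 3 at h1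
    simp only [Matrix.mul_apply, Fin.sum_univ_four, _root_.Fin.isValue, _root_.Matrix.mul_apply, _root_.Matrix.of_apply, _root_.Matrix.cons_val', _root_.Matrix.cons_val_fin_one, _root_.Matrix.cons_val_one, _root_.Matrix.cons_val_zero, _root_.Matrix.cons_val, _root_.Fin.sum_univ_four, _root_.MulZeroClass.mul_zero, _root_.mul_one, _root_.zero_add, _root_.add_zero] at h1
    exact hw0 (by linear_combination hw - h1 - h2)

end

end Cfsg.Agent.H528.ClassSize
end

-- part: S4147
section
set_option autoImplicit false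
open Cfsg

namespace Cfsg.Agent.S4147

open Cfsg.Agent.H528.ClassSize Cfsg.Agent.H528.CP

/-- The two simple groups of the conclusion. -/
def Tgt (S : Type*) [Group S] : Prop :=
  Nonempty (S ≃* alternatingGroup (Fin 5)) ∨
    Nonempty (S ≃* Matrix.ProjectiveSpecialLinearGroup (Fin 2) (GaloisField 2 3))

theorem no_of_equiv {S H : Type*} [Group S] [Finite S] [IsSimpleGroup S] [Group H]
    (hns : ¬ Group.IsSolvable S) (hH : Hyp S) (e : S ≃* H) :
    Finite H ∧ IsSimpleGroup H ∧ ¬ Group.IsSolvable H ∧ Hyp H := by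
  refine ⟨Finite.of_equiv S e.toEquiv, ?_, ?_, hH.of_surjective e.toMonoidHom e.surjective⟩
  · haveI : Nontrivial H := e.toEquiv.symm.nontrivial
    exact IsSimpleGroup.isSimpleGroup_of_surjective e.toMonoidHom e.surjective
  · intro h
    exact hns (solvable_of_solvable_injective (f := e.toMonoidHom) e.injective)

theorem simple_case {S : Type*} [Group S] [Finite S] [IsSimpleGroup S]
    (hns : ¬ Group.IsSolvable S) (hH : Hyp S) : Tgt S := by
  have hnc : ¬ IsMulCommutative S := fun h => hns
    (isSolvable_of_comm (fun a b => h.is_comm.comm a b))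
  have h3 := three_primes hns hH
  haveI f3 : Fact (Nat.Prime 3) := ⟨Nat.prime_three⟩
  have hd2 : 2 ∣ Nat.card S := by
    by_contra h2
    exact hns (Cfsg.Agent.S0205.result (Nat.odd_iff.2 (Nat.two_dvd_ne_zero.1 h2)))
  rcases Cfsg.Agent.S3719.result hnc h3 with h | h | h | h | h | h
  · exact Or.inl h
  · obtain ⟨e⟩ := h
    exfalso
    haveI : Fintype (GaloisField 3 2) := Fintype.ofFinite _
    have hF : Fintype.card (GaloisField 3 2) = 9 := by
      rw [← Nat.card_eq_fintype_card, GaloisField.card 3 2 (by norm_num)]; norm_num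
    obtain ⟨e'⟩ := Cfsg.Agent.S0254.result hF
    obtain ⟨h1, h2, h4, h5⟩ := no_of_equiv hns hH (e.trans e'.symm)
    exact excl_psl (Or.inr (Or.inl hF)) h4 h5
  · obtain ⟨F, _, _, hF, ⟨e⟩⟩ := h
    obtain ⟨h1, h2, h4, h5⟩ := no_of_equiv hns hH e
    rcases hF with hF | hF | hF
    · exact (excl_psl (Or.inl hF) h4 h5).elim
    · right
      haveI : Fintype (GaloisField 2 3) := Fintype.ofFinite _
      have hF' : Fintype.card (GaloisField 2 3) = 8 := by
        rw [← Nat.card_eq_fintype_card, GaloisField.card 2 3 (by norm_num)]; norm_num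
      have r := FiniteField.ringEquivOfCardEq (K := F) (K' := GaloisField 2 3) (by rw [hF, hF'])
      exact ⟨e.trans (Cfsg.Agent.LieClassical.SmallIso.pslCongr (Fin 2) r)⟩
    · exact (excl_psl (Or.inr (Or.inr hF)) h4 h5).elim
  · obtain ⟨F, _, _, hF, ⟨e⟩⟩ := h
    exfalso
    obtain ⟨h1, h2, h4, h5⟩ := no_of_equiv hns hH e
    have h6 : (3 : F) = 0 := by
      have h7 : ((Fintype.card F : ℕ) : F) = 0 := FiniteField.cast_card_eq_zero F
      rw [hF] at h7
      exact_mod_cast h7
    obtain ⟨V, hV, hnc⟩ := exists_psl3 (F := F) h6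
    exact no_three h4 h5 (Nat.card_congr e.toEquiv ▸ hd2) hV hnc
  · obtain ⟨F, _, _, hF, ⟨e⟩⟩ := h
    exfalso
    obtain ⟨h1, h2, h4, h5⟩ := no_of_equiv hns hH e
    obtain ⟨V, hV, hnc⟩ := exists_psu3 (F := F) hF
    exact no_three h4 h5 (Nat.card_congr e.toEquiv ▸ hd2) hV hnc
  · obtain ⟨F, _, _, hF, ⟨e⟩⟩ := h
    exfalso
    obtain ⟨h1, h2, h4, h5⟩ := no_of_equiv hns hH e
    obtain ⟨V, hV, hnc⟩ := exists_psu4 (F := F) hF
    exact no_three h4 h5 (Nat.card_congr e.toEquiv ▸ hd2) hV hnc

/-- Let G be a finite group in which every conjugacy class size is divisible by at most two distinct primes. Then G is solvable, or G is the direct product of its centre and a subgroup isomorphic to the alternating group A₅ or to PSL₂(8). -/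
theorem result {G : Type*} [Group G] [Finite G]
    (h : ∀ x : G, ((Subgroup.centralizer ({x} : Set G)).index).primeFactors.card ≤ 2) :
    Group.IsSolvable G ∨ ∃ S : Subgroup G, S.Normal ∧ Subgroup.center G ⊓ S = ⊥ ∧ Subgroup.center G ⊔ S = ⊤ ∧
      (Nonempty (S ≃* alternatingGroup (Fin 5)) ∨ Nonempty (S ≃* Matrix.ProjectiveSpecialLinearGroup (Fin 2) (GaloisField 2 3))) := by
  by_cases hs : Group.IsSolvable G
  · exact Or.inl hs
  · right
    obtain ⟨S, hS, h1, h2, h3⟩ := Cfsg.Agent.H528.CP.main (fun S _ => Tgt S)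
      (by
        rintro S S' _ _ e (⟨⟨f⟩⟩ | ⟨⟨f⟩⟩)
        · exact Or.inl ⟨e.symm.trans f⟩
        · exact Or.inr ⟨e.symm.trans f⟩)
      (by
        rintro S _ (⟨⟨f⟩⟩ | ⟨⟨f⟩⟩)
        · exact good_alt.congr f.symm
        · exact good_galois.congr f.symm)
      (fun S _ _ _ => simple_case) (Nat.card G) G rfl h hs
    exact ⟨S, hS, h1, h2, h3⟩

end Cfsg.Agent.S4147
end
end
end
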