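import Mathlib
import Cfsg.Agent.H530.KulMax
import Cfsg.Statements.S4157
set_option linter.all false

-- part: H530/KulMain
section
/-!
# Kulakoff's theorem: the number of subgroups of order `p ^ k` modulo `p ^ 2` (helper530)

* `main`: `G` noncyclic of order `p ^ m`, `1 ≤ k < m`, `|G : G'| ≠ 4` if `p = 2`:
  `s_k(G) ≡ 1 + p (mod p ^ 2)`.
* `main_two`: `G` a 2-group of order `2 ^ m` with `|G : G'| = 4`, `1 ≤ k ≤ m - 2`:
  `s_k(G) ≡ 1 (mod 4)`.
-/

set_option autoImplicit false
set_option linter.style.haveILetI false

namespace Cfsg.Agent.H530.Kul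

open Subgroup
open scoped commutatorElement

universe u

/-- A cyclic subgroup count: there is exactly one subgroup of each order. -/
theorem card_subgroups_of_isCyclic {C : Type*} [Group C] [Finite C] (hC : IsCyclic C) (n : ℕ)
    (hn : n ∣ Nat.card C) : Nat.card {H : Subgroup C // Nat.card H = n} = 1 := by
  let _ := IsCyclic.commGroup (α := C)
  exact Cfsg.Agent.H491.SubgroupCount.card_cyclic n hn

/-- Subgroups of order `p ^ m` of a group of order `p ^ (m + 1)` are those of index `p`. -/
theorem card_eq_card_index {G : Type*} [Group G] [Finite G] {p m : ℕ} [hp : Fact p.Prime]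
    (hm : Nat.card G = p ^ (m + 1)) :
    Nat.card {H : Subgroup G // Nat.card H = p ^ m} = Nat.card {M : Subgroup G // M.index = p} := by
  refine Nat.card_congr (Equiv.subtypeEquivRight fun H => ?_)
  have h1 := H.card_mul_index
  rw [hm] at h1
  constructor
  · intro h
    rw [h, pow_succ] at h1
    exact Nat.eq_of_mul_eq_mul_left (pow_pos hp.out.pos m) h1
  · intro h
    rw [h, pow_succ] at h1
    exact Nat.eq_of_mul_eq_mul_right hp.out.pos h1

/-- The number of cyclic maximal subgroups of a 2-group with `|G : G'| = 4` is odd. -/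
theorem odd_card_cyclic {G : Type u} [Group G] [Finite G] {m : ℕ} (hm : Nat.card G = 2 ^ m)
    (hm3 : 3 ≤ m) (h4 : (commutator G).index = 4) :
    Nat.card {M : {M : Subgroup G // M.index = 2} // IsCyclic M.1} ≡ 1 [MOD 2] := by
  have hG : IsPGroup 2 G := IsPGroup.of_card hm
  have hcard1 : Nat.card G ≠ 1 := by
    rw [hm]
    exact (Nat.one_lt_pow (by omega) (by norm_num)).ne'
  have hnt : Nontrivial G := by
    by_contra h
    rw [not_nontrivial_iff_subsingleton] at h
    exact hcard1 (Nat.card_eq_one_iff_unique.2 ⟨h, ⟨1⟩⟩)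
  rcases Nat.lt_or_ge 3 m with hlt | hge
  · obtain ⟨C, hCi, hC, hrest⟩ := structure_of_index_four hm hlt h4
    have : Nat.card {M : {M : Subgroup G // M.index = 2} // IsCyclic M.1} = 1 := by
      rw [Nat.card_eq_one_iff_unique]
      refine ⟨⟨fun A B => ?_⟩, ⟨⟨⟨C, hCi⟩, hC⟩⟩⟩
      have h1 : ∀ A : {M : {M : Subgroup G // M.index = 2} // IsCyclic M.1}, A.1.1 = C := by
        intro A
        by_contra hne
        exact (hrest A.1.1 A.1.2 hne).1 A.2
      exact Subtype.ext (Subtype.ext ((h1 A).trans (h1 B).symm))
    rw [this]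
  · have hm' : m = 3 := by omega
    subst hm'
    obtain ⟨C, hC, hCi⟩ :=
      Cfsg.Agent.Transfer.TausskyTwoGroup.exists_isCyclic_index_two 3 hm h4
    have hCn : C.Normal := Subgroup.normal_of_index_eq_two hCi
    have hcard4 : ∀ M : Subgroup G, M.index = 2 → Nat.card M = 4 := fun M hM => by
      have := card_of_index_two (m := 2) hm M hM
      rw [this]; norm_num
    have hcomm : ∀ a ∈ C, ∀ b ∈ C, a * b = b * a := by
      intro a ha b hb
      let _ := IsCyclic.commGroup (α := C)
      exact congrArg Subtype.val (mul_comm (⟨a, ha⟩ : C) ⟨b, hb⟩)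
    obtain ⟨⟨a, haC⟩, hgen⟩ := hC.exists_generator
    have haord : orderOf a = 4 := by
      have := orderOf_eq_card_of_forall_mem_zpowers hgen
      rw [Subgroup.orderOf_mk, hcard4 C hCi] at this
      exact this
    have ha4 : a ^ 4 = 1 := by rw [← haord]; exact pow_orderOf_eq_one a
    have hgen' : ∀ x ∈ C, ∃ i : ℤ, a ^ i = x := by
      intro x hx
      obtain ⟨i, hi⟩ := Subgroup.mem_zpowers_iff.1 (hgen ⟨x, hx⟩)
      exact ⟨i, by simpa using congrArg Subtype.val hi⟩
    -- `G` is not commutative
    have hnab : ¬ ∀ x y : G, x * y = y * x := by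
      intro h
      have : commutator G = ⊥ := by
        rw [_root_.commutator_def, Subgroup.commutator_eq_bot_iff_le_centralizer]
        intro a _
        rw [mem_centralizer_iff]
        intro b _
        exact h b a
      rw [this, Subgroup.index_bot, hm] at h4
      norm_num at h4
    -- elements outside `C` invert `C`
    have hinv : ∀ x : G, x ∉ C → x * a * x⁻¹ = a⁻¹ := by
      intro x hx
      have h1 : x * a * x⁻¹ ∈ C := hCn.conj_mem a haC x
      have h2 : orderOf (x * a * x⁻¹) = 4 := by
        rw [← haord]
        have := MulEquiv.orderOf_eq (MulAut.conj x) a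
        rwa [MulAut.conj_apply] at this
      obtain ⟨i, hi⟩ := hgen' _ h1
      -- `i` modulo `4`
      have hmod : a ^ i = a ^ (i % 4) := by
        conv_lhs => rw [← Int.emod_add_mul_ediv i 4, zpow_add, zpow_mul]
        have : a ^ (4 : ℤ) = 1 := by exact_mod_cast ha4
        rw [this, one_zpow, mul_one]
      have hr0 : 0 ≤ i % 4 := Int.emod_nonneg _ (by norm_num)
      have hr4 : i % 4 < 4 := Int.emod_lt_of_pos _ (by norm_num)
      rw [hmod] at hi
      have hcases : i % 4 = 0 ∨ i % 4 = 1 ∨ i % 4 = 2 ∨ i % 4 = 3 := by omega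
      rcases hcases with h | h | h | h
      · rw [h, zpow_zero] at hi
        rw [← hi, orderOf_one] at h2
        omega
      · exfalso
        rw [h, zpow_one] at hi
        apply hnab
        have hax : a * x = x * a := by
          nth_rewrite 1 [hi]
          group
        have hcx : ∀ c ∈ C, c * x = x * c := by
          intro c hc
          obtain ⟨i, rfl⟩ := hgen' c hc
          exact (Commute.zpow_left hax i)
        have hdec : ∀ y : G, y ∈ C ∨ ∃ c ∈ C, y = c * x := by
          intro y
          by_cases hy : y ∈ C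
          · exact Or.inl hy
          · refine Or.inr ⟨y * x⁻¹, ?_, by group⟩
            refine (Subgroup.mul_mem_iff_of_index_two hCi).2 ?_
            simp [hy, hx]
        intro y z
        rcases hdec y with hy | ⟨c, hc, rfl⟩ <;> rcases hdec z with hz | ⟨d, hd, rfl⟩
        · exact hcomm y hy z hz
        · exact (Commute.mul_right (hcomm y hy d hd) (hcx y hy))
        · exact (Commute.mul_left (hcomm c hc z hz) (hcx z hz).symm)
        · exact (Commute.mul_left (Commute.mul_right (hcomm c hc d hd) (hcx c hc))
            (Commute.mul_right (hcx d hd).symm rfl))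
      · exfalso
        rw [h] at hi
        have h3 : (x * a * x⁻¹) ^ 2 = 1 := by
          rw [← hi, ← zpow_natCast, ← zpow_mul]
          exact_mod_cast ha4
        have h5 := orderOf_dvd_of_pow_eq_one h3
        rw [h2] at h5
        omega
      · rw [h] at hi
        rw [← hi, eq_inv_iff_mul_eq_one, ← zpow_add_one]
        exact_mod_cast ha4
    have hinv' : ∀ x : G, x ∉ C → ∀ c ∈ C, x * c * x⁻¹ = c⁻¹ := by
      intro x hx c hc
      obtain ⟨i, rfl⟩ := hgen' c hc
      rw [← conj_zpow, hinv x hx, inv_zpow]
    have hsq : ∀ x y : G, x ∉ C → y ∉ C → y ^ 2 = x ^ 2 := by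
      intro x y hx hy
      have hc : y * x⁻¹ ∈ C := (Subgroup.mul_mem_iff_of_index_two hCi).2 (by simp [hx, hy])
      have h1 := hinv' x hx _ hc
      have h2 : y = (y * x⁻¹) * x := by group
      calc y ^ 2 = (y * x⁻¹) * (x * (y * x⁻¹) * x⁻¹) * x ^ 2 := by
            rw [pow_two, pow_two]; group
        _ = x ^ 2 := by rw [h1]; group
    have hgenM : ∀ M : Subgroup G, M.index = 2 → M ≠ C → ∃ x ∈ M, x ∉ C := by
      intro M hM hMC
      by_contra hcon
      push Not at hcon
      exact hMC (Subgroup.eq_of_le_of_card_ge hcon (by rw [hcard4 M hM, hcard4 C hCi]))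
    by_cases hs : ∃ x : G, x ∉ C ∧ x ^ 2 = 1
    · obtain ⟨x, hx, hx2⟩ := hs
      have : Nat.card {M : {M : Subgroup G // M.index = 2} // IsCyclic M.1} = 1 := by
        rw [Nat.card_eq_one_iff_unique]
        refine ⟨⟨fun A B => ?_⟩, ⟨⟨⟨C, hCi⟩, hC⟩⟩⟩
        have h1 : ∀ A : {M : {M : Subgroup G // M.index = 2} // IsCyclic M.1}, A.1.1 = C := by
          intro A
          by_contra hne
          obtain ⟨y, hyM, hyC⟩ := hgenM A.1.1 A.1.2 hne
          obtain ⟨b, hb⟩ := A.2.exists_generator
          have hbC : (b : G) ∉ C := by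
            intro hbC
            apply hyC
            obtain ⟨i, hi⟩ := Subgroup.mem_zpowers_iff.1 (hb ⟨y, hyM⟩)
            have : (b : G) ^ i = y := congrArg Subtype.val hi
            rw [← this]
            exact C.zpow_mem hbC i
          have h2 : (b : G) ^ 2 = 1 := (hsq x b hx hbC).trans hx2
          have h3 : orderOf (b : G) = 4 := by
            rw [Subgroup.orderOf_coe, orderOf_eq_card_of_forall_mem_zpowers hb, hcard4 _ A.1.2]
          have h5 := orderOf_dvd_of_pow_eq_one h2
          rw [h3] at h5
          omega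
        exact Subtype.ext (Subtype.ext ((h1 A).trans (h1 B).symm))
      rw [this]
    · push Not at hs
      have hall : ∀ M : {M : Subgroup G // M.index = 2}, IsCyclic M.1 := by
        intro M
        by_cases hMC : M.1 = C
        · rw [hMC]; exact hC
        · obtain ⟨y, hyM, hyC⟩ := hgenM M.1 M.2 hMC
          have h1 : orderOf (⟨y, hyM⟩ : M.1) ∣ 2 ^ 2 := by
            have := orderOf_dvd_natCard (⟨y, hyM⟩ : M.1)
            rw [hcard4 M.1 M.2] at this
            exact this
          obtain ⟨i, hi, hi'⟩ := (Nat.dvd_prime_pow Nat.prime_two).1 h1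
          have h2 : i = 2 := by
            by_contra hne
            apply hs y hyC
            rw [← orderOf_dvd_iff_pow_eq_one]
            rw [Subgroup.orderOf_mk] at hi'
            rw [hi']
            exact pow_dvd_pow 2 (by omega : i ≤ 1)
          exact isCyclic_of_orderOf_eq_card (⟨y, hyM⟩ : M.1) (by rw [hi', h2, hcard4 M.1 M.2]; norm_num)
      have : Nat.card {M : {M : Subgroup G // M.index = 2} // IsCyclic M.1} =
          Nat.card {M : Subgroup G // M.index = 2} :=
        Nat.card_congr (Equiv.subtypeUnivEquiv hall)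
      rw [this]
      exact card_index_modEq hG hnt

/-- The number of maximal subgroups `M` with `|M : M'| = 4` in a 2-group of order at least 16 with
`|G : G'| = 4`. -/
theorem two_dvd_card_index_four' {G : Type u} [Group G] [Finite G] {m : ℕ}
    (hm : Nat.card G = 2 ^ m) (hm4 : 4 ≤ m) (h4 : (commutator G).index = 4) :
    2 ∣ Nat.card {M : {M : Subgroup G // M.index = 2} // (commutator M.1).index = 4} := by
  have hG : IsPGroup 2 G := IsPGroup.of_card hm
  obtain ⟨C, hCi, hC, hrest⟩ := structure_of_index_four hm hm4 h4
  have hcard1 : Nat.card G ≠ 1 := by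
    rw [hm]
    exact (Nat.one_lt_pow (by omega) (by norm_num)).ne'
  have hnt : Nontrivial G := by
    by_contra h
    rw [not_nontrivial_iff_subsingleton] at h
    exact hcard1 (Nat.card_eq_one_iff_unique.2 ⟨h, ⟨1⟩⟩)
  obtain ⟨j, rfl⟩ : ∃ j, m = j + 4 := ⟨m - 4, by omega⟩
  have hC4 : (commutator C).index ≠ 4 := by
    have h1 : commutator C = ⊥ := by
      rw [_root_.commutator_def, Subgroup.commutator_eq_bot_iff_le_centralizer]
      intro a _
      rw [mem_centralizer_iff]
      intro b _
      let _ := IsCyclic.commGroup (α := C)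
      exact mul_comm b a
    rw [h1, Subgroup.index_bot, card_of_index_two (m := j + 3) hm C hCi]
    have : (2 : ℕ) ^ (j + 3) = 2 ^ j * 8 := by ring
    have h2 : 0 < 2 ^ j := by positivity
    omega
  have hiff : ∀ M : {M : Subgroup G // M.index = 2},
      (commutator M.1).index = 4 ↔ ¬ M = ⟨C, hCi⟩ := by
    intro M
    constructor
    · rintro h rfl
      exact hC4 h
    · intro h
      exact (hrest M.1 M.2 fun h1 => h (Subtype.ext h1)).2
  have hsplit := card_split (fun M : {M : Subgroup G // M.index = 2} => M = ⟨C, hCi⟩)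
  have h1 : Nat.card {M : {M : Subgroup G // M.index = 2} // M = ⟨C, hCi⟩} = 1 := by simp
  have h3 : Nat.card {M : {M : Subgroup G // M.index = 2} // ¬ M = ⟨C, hCi⟩} =
      Nat.card {M : {M : Subgroup G // M.index = 2} // (commutator M.1).index = 4} :=
    Nat.card_congr (Equiv.subtypeEquivRight fun M => (hiff M).symm)
  rw [h1, h3] at hsplit
  have h5 := card_index_modEq hG hnt
  rw [← hsplit] at h5
  rw [← Nat.modEq_zero_iff_dvd]
  exact Nat.ModEq.add_left_cancel' 1 h5

/-- **Kulakoff's theorem**, with the 2-groups with `|G : G'| = 4`. -/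
theorem main_aux {p : ℕ} [hp : Fact p.Prime] (m : ℕ) : ∀ (G : Type u) [Group G] [Finite G],
    Nat.card G = p ^ m → ¬ IsCyclic G → ∀ k, 1 ≤ k → k < m →
      ((p = 2 → (commutator G).index ≠ 4) →
        Nat.card {H : Subgroup G // Nat.card H = p ^ k} ≡ 1 + p [MOD p ^ 2]) ∧
      (p = 2 → (commutator G).index = 4 → k + 2 ≤ m →
        Nat.card {H : Subgroup G // Nat.card H = p ^ k} ≡ 1 [MOD p ^ 2]) := by
  induction m with
  | zero => intro G _ _ _ _ k _ hk; omega
  | succ n ih =>
    intro G _ _ hm hnc k hk1 hkn
    have hG : IsPGroup p G := IsPGroup.of_card hm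
    have hN := card_index_modEq_of_not_isCyclic hG hnc
    rcases Nat.lt_or_ge k n with hkn' | hkn'
    swap
    · have hk : k = n := by omega
      subst hk
      refine ⟨fun _ => ?_, fun _ _ h => by omega⟩
      rw [card_eq_card_index hm]
      exact hN
    classical
    have hfin : Fintype {M : Subgroup G // M.index = p} := Fintype.ofFinite _
    have henum := enum hG hnc k (by rw [hm]; exact pow_dvd_pow p (by omega))
    have hMcard : ∀ M : {M : Subgroup G // M.index = p}, Nat.card M.1 = p ^ n := by
      intro M
      have h1 := M.1.card_mul_index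
      rw [M.2, hm, pow_succ] at h1
      exact Nat.eq_of_mul_eq_mul_right hp.out.pos h1
    let bad : {M : Subgroup G // M.index = p} → Prop := fun M =>
      IsCyclic M.1 ∨ (p = 2 ∧ (commutator M.1).index = 4 ∧ k + 2 ≤ n)
    have hM : ∀ M : {M : Subgroup G // M.index = p},
        Nat.card {K : Subgroup M.1 // Nat.card K = p ^ k} + p * (if bad M then 1 else 0) ≡
          1 + p [MOD p ^ 2] := by
      intro M
      by_cases hc : IsCyclic M.1
      · rw [if_pos (Or.inl hc), card_subgroups_of_isCyclic hc _
          (by rw [hMcard M]; exact pow_dvd_pow p (by omega)), mul_one]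
      · by_cases hb : p = 2 ∧ (commutator M.1).index = 4 ∧ k + 2 ≤ n
        · rw [if_pos (Or.inr hb), mul_one]
          have := (ih M.1 (hMcard M) hc k hk1 hkn').2 hb.1 hb.2.1 hb.2.2
          exact this.add_right p
        · have hnb : ¬ bad M := by
            rintro (h | h)
            · exact hc h
            · exact hb h
          rw [if_neg hnb, mul_zero, add_zero]
          by_cases h2 : p = 2 ∧ (commutator M.1).index = 4
          · have hk : n = k + 1 := by
              by_contra hne
              exact hb ⟨h2.1, h2.2, by omega⟩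
            have hMc := hMcard M
            rw [hk] at hMc
            rw [card_eq_card_index hMc]
            exact card_index_modEq_of_not_isCyclic (hG.to_subgroup M.1) hc
          · exact (ih M.1 (hMcard M) hc k hk1 hkn').1 fun h3 h4 => h2 ⟨h3, h4⟩
    have hsum : ∑ M, (Nat.card {K : Subgroup M.1 // Nat.card K = p ^ k} +
        p * (if bad M then 1 else 0)) ≡ ∑ _M : {M : Subgroup G // M.index = p}, (1 + p)
          [MOD p ^ 2] := Nat.ModEq.sum fun M _ => hM M
    rw [Finset.sum_add_distrib, ← Finset.mul_sum, ← card_eq_sum, Finset.sum_const, smul_eq_mul,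
      Finset.card_univ, ← Nat.card_eq_fintype_card] at hsum
    -- `(1 + p) s + p #bad ≡ (1 + p) ^ 2`
    have hmain : (1 + p) * Nat.card {K : Subgroup G // Nat.card K = p ^ k} +
        p * Nat.card {M // bad M} ≡ (1 + p) * (1 + p) [MOD p ^ 2] :=
      (henum.add_right _).trans (hsum.trans (hN.mul_right _))
    have hcop : Nat.Coprime (p ^ 2) (1 + p) := by
      refine Nat.Coprime.pow_left 2 ?_
      simp
    -- the number of bad subgroups
    have hbadcard : Nat.card {M // bad M} =
        Nat.card {M : {M : Subgroup G // M.index = p} // IsCyclic M.1} +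
          (if p = 2 ∧ k + 2 ≤ n then
            Nat.card {M : {M : Subgroup G // M.index = p} // (commutator M.1).index = 4} else 0) := by
      by_cases h2 : p = 2 ∧ k + 2 ≤ n
      · rw [if_pos h2, card_eq_sum, card_eq_sum, card_eq_sum, ← Finset.sum_add_distrib]
        refine Finset.sum_congr rfl fun M _ => ?_
        by_cases hc : IsCyclic M.1
        · have h4 : (commutator M.1).index ≠ 4 := by
            have h1 : commutator M.1 = ⊥ := by
              rw [_root_.commutator_def, Subgroup.commutator_eq_bot_iff_le_centralizer]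
              intro a _
              rw [mem_centralizer_iff]
              intro b _
              let _ := IsCyclic.commGroup (α := M.1)
              exact mul_comm b a
            obtain ⟨j, hj⟩ : ∃ j, n = j + 3 := ⟨n - 3, by omega⟩
            rw [h1, Subgroup.index_bot, hMcard M, h2.1, hj]
            have : (2 : ℕ) ^ (j + 3) = 2 ^ j * 8 := by ring
            have h2 : 0 < 2 ^ j := by positivity
            omega
          have hb : bad M := Or.inl hc
          rw [if_pos hb, if_pos hc, if_neg h4]
        · by_cases h4 : (commutator M.1).index = 4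
          · have hb : bad M := Or.inr ⟨h2.1, h4, h2.2⟩
            rw [if_pos hb, if_neg hc, if_pos h4]
          · have hb : ¬ bad M := by
              rintro (h | h)
              · exact hc h
              · exact h4 h.2.1
            rw [if_neg hb, if_neg hc, if_neg h4]
      · rw [if_neg h2, add_zero]
        refine Nat.card_congr (Equiv.subtypeEquivRight fun M => ?_)
        constructor
        · rintro (h | h)
          · exact h
          · exact absurd ⟨h.1, h.2.2⟩ h2
        · exact fun h => Or.inl h
    constructor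
    · intro h4
      have hdvd : p ∣ Nat.card {M // bad M} := by
        rw [hbadcard]
        refine dvd_add (dvd_card_cyclic hm (by omega) hnc h4) ?_
        by_cases h2 : p = 2 ∧ k + 2 ≤ n
        · rw [if_pos h2]
          obtain ⟨h2, h3⟩ := h2
          subst h2
          exact two_dvd_card_index_four hm (by omega) hnc (h4 rfl)
        · rw [if_neg h2]
          exact dvd_zero p
      have h0 : p * Nat.card {M // bad M} ≡ 0 [MOD p ^ 2] := by
        rw [Nat.modEq_zero_iff_dvd, pow_two]
        exact Nat.mul_dvd_mul_left p hdvd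
      have h1 : (1 + p) * Nat.card {K : Subgroup G // Nat.card K = p ^ k} ≡ (1 + p) * (1 + p)
          [MOD p ^ 2] := by
        have := Nat.ModEq.add_left
          ((1 + p) * Nat.card {K : Subgroup G // Nat.card K = p ^ k}) h0
        rw [add_zero] at this
        exact this.symm.trans hmain
      exact Nat.ModEq.cancel_left_of_coprime hcop h1
    · intro h2 h4 hk2
      subst h2
      have hodd : Nat.card {M // bad M} ≡ 1 [MOD 2] := by
        rw [hbadcard]
        have h1 := odd_card_cyclic hm (by omega) h4
        have h3 : (if 2 = 2 ∧ k + 2 ≤ n then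
            Nat.card {M : {M : Subgroup G // M.index = 2} // (commutator M.1).index = 4} else 0) ≡ 0
              [MOD 2] := by
          rw [Nat.modEq_zero_iff_dvd]
          by_cases h2 : 2 = 2 ∧ k + 2 ≤ n
          · rw [if_pos h2]
            exact two_dvd_card_index_four' hm (by omega) h4
          · rw [if_neg h2]
            exact dvd_zero 2
        exact h1.add h3
      set s := Nat.card {K : Subgroup G // Nat.card K = 2 ^ k} with hs
      set b := Nat.card {M // bad M} with hb
      have e1 : (3 * s + 2 * b) % 4 = 1 := by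
        have := hmain
        unfold Nat.ModEq at this
        norm_num at this
        omega
      have e2 : b % 2 = 1 := hodd
      unfold Nat.ModEq
      norm_num
      omega

/-- **Kulakoff's theorem.** -/
theorem main {p : ℕ} [hp : Fact p.Prime] {m : ℕ} {G : Type u} [Group G] [Finite G]
    (hm : Nat.card G = p ^ m) (hnc : ¬ IsCyclic G) (h2 : p = 2 → (commutator G).index ≠ 4) {k : ℕ}
    (hk1 : 1 ≤ k) (hk2 : k < m) :
    Nat.card {H : Subgroup G // Nat.card H = p ^ k} ≡ 1 + p [MOD p ^ 2] :=
  (main_aux m G hm hnc k hk1 hk2).1 h2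

/-- The number of subgroups of order `2 ^ k` of a 2-group with `|G : G'| = 4` (a 2-group of maximal
class). -/
theorem main_two {m : ℕ} {G : Type u} [Group G] [Finite G]
    (hm : Nat.card G = 2 ^ m) (h4 : (commutator G).index = 4) {k : ℕ}
    (hk1 : 1 ≤ k) (hk2 : k + 2 ≤ m) :
    Nat.card {H : Subgroup G // Nat.card H = 2 ^ k} ≡ 1 [MOD 4] := by
  have hnc : ¬ IsCyclic G := by
    intro hc
    have h1 : commutator G = ⊥ := by
      rw [_root_.commutator_def, Subgroup.commutator_eq_bot_iff_le_centralizer]
      intro a _
      rw [mem_centralizer_iff]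
      intro b _
      let _ := IsCyclic.commGroup (α := G)
      exact mul_comm b a
    rw [h1, Subgroup.index_bot, hm] at h4
    obtain ⟨j, hj⟩ : ∃ j, m = j + 3 := ⟨m - 3, by omega⟩
    rw [hj] at h4
    have : (2 : ℕ) ^ (j + 3) = 2 ^ j * 8 := by ring
    have h2 : 0 < 2 ^ j := by positivity
    omega
  exact (main_aux m G hm hnc k hk1 (by omega)).2 rfl h4 hk2

end Cfsg.Agent.H530.Kul
end

-- part: S4157
section
set_option autoImplicit false
open Cfsg

namespace Cfsg.Agent.S4157

/-- Let G be a finite p-group of order p^m that is not cyclic and, when p = 2, not of maximal class (nilpotency class m − 1). Then for every 1 ≤ k < m the number of subgroups of G of order p^k is congruent to 1 + p modulo p². -/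
theorem result {G : Type*} [Group G] [Finite G] {p : ℕ} [Fact p.Prime] (m : ℕ)
    (hG : Nat.card G = p ^ m) (hnc : ¬ IsCyclic G) (h2 : p = 2 → Group.nilpotencyClass G ≠ m - 1)
    (k : ℕ) (hk1 : 1 ≤ k) (hk2 : k < m) :
    Nat.card {H : Subgroup G // Nat.card H = p ^ k} ≡ 1 + p [MOD p ^ 2] := by
  refine Cfsg.Agent.H530.Kul.main hG hnc ?_ hk1 hk2
  intro hp h4
  subst hp
  exact h2 rfl (Cfsg.Agent.Transfer.TausskyTwoGroup.nilpotencyClass_of_index_commutator m hG h4)

end Cfsg.Agent.S4157
end
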