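import Cfsg.Agent.H85.Ore.Phi_mg_m3
import Cfsg.Agent.H841.TwG_m3
import Cfsg.Agent.H194.Ore.RowEF
import Cfsg.Agent.H122.TC.Real_m3
import Cfsg.Agent.H374.Ore.F4_m3
import Cfsg.Agent.H584.Ore.ESixTwo_mg
import Cfsg.Agent.S2523
import Cfsg.Agent.H140.TC.Fam_m3
import Cfsg.Agent.H194.Ore.RowThree_m3
import Cfsg.Agent.H194.Pw.SixAll_mg
import Cfsg.Agent.H538.Ore.Small
import Cfsg.Agent.H162.GaussExcMain
import Cfsg.Agent.H928.Ore.TwFin
import Cfsg.Agent.H295.War.Mul_m3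
import Cfsg.Agent.ChevFast.E6
import Cfsg.Agent.ChevFast.Lin
import Mathlib.LinearAlgebra.Matrix.ProjectiveSpecialLinearGroup
import Cfsg.Prelude.Def_Classical
import Cfsg.Agent.H950.TC.Psu_mg_m3
import Cfsg.Agent.H181.TC.Main
import Cfsg.Agent.H455.TC.J1_mg_m3
import Cfsg.Agent.H922.TC.Mat_mg_m3
import Cfsg.Agent.H981.TC.HNRow_m3
import Cfsg.Statements.S4173
import Cfsg.Agent.S0000
import Cfsg.Agent.OrdDiv.Table
import Cfsg.Agent.FastGrp
import Cfsg.Agent.Prune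
set_option linter.all false

section
prune_inst 0x7ffcbdfbaff843ffdfff7e7ffed1dffdf8bfdfffacdff9cb3fe821ef8fdf030209c56b8509e050fe0ec2c29410a87803fb7eeeffea6bdc7ffffdfdf41ffbee4fe5f6b508519488340f380ff703f0778e7f3fffffffffffffffffffffffffffbeffffffffffff

-- part: H374/TC/Rows_mg
section
prune_inst 0x3000050003000000000000004000001002000100000004000401000000800c0000008000200011114000000400340000000000404000000000200000011800800000000010000000000000000080000000000000000000000000000000000000000000000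
set_option linter.all false
open scoped Cfsg.Agent.FastGrp

-- part: H374/TC/Fam
section
/-!
# Products of two elements of `SL_3(K)` with a fixed irreducible characteristic polynomial (helper374, S4173)

`GoodF s r l` : `l = X Y` with `X`, `Y` of characteristic polynomial `x³ - s x² + r x - 1` or `x³ - r x² + s x - 1`.
* `good_lu` : every `L U` is `GoodF s r` if the family `Sol s r` of quadratic equations is solvable (`4 ≤ |K|`).
-/

set_option autoImplicit false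

namespace Cfsg.Agent.H374.TC

open Matrix Polynomial Cfsg.Agent.H126.M3

universe u

variable {K : Type u} [Field K]

/-- `l` is a product of two elements with the prescribed characteristic polynomials -/
def GoodF (s r : K) (l : Matrix (Fin 3) (Fin 3) K) : Prop :=
  ∃ X Y : Matrix (Fin 3) (Fin 3) K, X.det = 1 ∧ Y.det = 1 ∧ l = X * Y ∧
    (X.charpoly = cu s r ∨ X.charpoly = cu r s) ∧ (Y.charpoly = cu s r ∨ Y.charpoly = cu r s)

theorem GoodF.conj {s r : K} {l l' R : Matrix (Fin 3) (Fin 3) K} (h : GoodF s r l') (hR : R.det ≠ 0)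
    (hl : l * R = R * l') : GoodF s r l := by
  obtain ⟨X, Y, hX, hY, rfl, hXi, hYi⟩ := h
  have hu : IsUnit R.det := isUnit_iff_ne_zero.2 hR
  have h1 : R * R⁻¹ = 1 := Matrix.mul_nonsing_inv _ hu
  have h2 : R⁻¹ * R = 1 := Matrix.nonsing_inv_mul _ hu
  let U : (Matrix (Fin 3) (Fin 3) K)ˣ := ⟨R, R⁻¹, h1, h2⟩
  have hc : ∀ M : Matrix (Fin 3) (Fin 3) K, (R * M * R⁻¹).charpoly = M.charpoly := fun M =>
    Matrix.charpoly_units_conj U M
  have hd : ∀ M : Matrix (Fin 3) (Fin 3) K, (R * M * R⁻¹).det = M.det := fun M => Matrix.det_units_conj U M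
  refine ⟨R * X * R⁻¹, R * Y * R⁻¹, by rw [hd, hX], by rw [hd, hY], ?_, by rw [hc]; exact hXi, by rw [hc]; exact hYi⟩
  calc l = l * R * R⁻¹ := by rw [mul_assoc, h1, mul_one]
    _ = R * X * (R⁻¹ * R) * Y * R⁻¹ := by rw [hl, h2]; simp only [mul_assoc, one_mul]
    _ = _ := by simp only [mul_assoc]

/-! ### characteristic polynomials -/

theorem cu_coeffs (s r : K) : (cu s r).coeff 2 = -s ∧ (cu s r).coeff 1 = r := by
  unfold cu
  constructor
  · simp only [coeff_one, _root_.map_one, _root_.Polynomial.coeff_sub, _root_.Polynomial.coeff_add, _root_.Polynomial.coeff_X_pow, _root_.Nat.reduceEqDiff, ↓ _root_.reduceIte, _root_.Polynomial.coeff_C_mul, _root_.mul_one, _root_.zero_sub, _root_.Polynomial.coeff_mul_X, _root_.Polynomial.coeff_C_succ, _root_.add_zero, _root_.OfNat.ofNat_ne_zero, _root_.sub_zero]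
  · simp only [coeff_one, _root_.map_one, _root_.Polynomial.coeff_sub, _root_.Polynomial.coeff_add, _root_.Polynomial.coeff_X_pow, _root_.OfNat.one_ne_ofNat, ↓ _root_.reduceIte, _root_.Polynomial.coeff_C_mul, _root_.MulZeroClass.mul_zero, _root_.sub_self, _root_.Polynomial.coeff_mul_X, _root_.Polynomial.coeff_C_zero, _root_.zero_add, _root_.one_ne_zero, _root_.sub_zero]

theorem charpoly_eq {M : Matrix (Fin 3) (Fin 3) K} (hd : M.det = 1) : M.charpoly = cu (M 0 0 + M 1 1 + M 2 2)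
    (M 0 0 * M 1 1 - M 0 1 * M 1 0 + (M 0 0 * M 2 2 - M 0 2 * M 2 0) + (M 1 1 * M 2 2 - M 1 2 * M 2 1)) := by
  rw [charpoly_three, hd, cu]

theorem charpoly_inv {M : Matrix (Fin 3) (Fin 3) K} (hd : M.det = 1) {s r : K} (h : M.charpoly = cu s r) :
    (M⁻¹).charpoly = cu r s := by
  have h1 : M⁻¹ = M.adjugate := by rw [Matrix.inv_def, hd, Ring.inverse_one, one_smul]
  have hd' : (M⁻¹).det = 1 := by rw [Matrix.det_nonsing_inv, hd, Ring.inverse_one]
  have h2 := charpoly_eq hd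
  rw [h] at h2
  have c1 := congrArg (fun p => p.coeff 2) h2
  have c2 := congrArg (fun p => p.coeff 1) h2
  simp only [(cu_coeffs _ _).1] at c1
  simp only [(cu_coeffs _ _).2] at c2
  rw [charpoly_eq hd', h1, Matrix.adjugate_fin_three]
  have hd2 := hd
  rw [Matrix.det_fin_three] at hd2
  congr 1
  · simp only [_root_.Fin.isValue, _root_.Matrix.of_apply, _root_.Matrix.cons_val', _root_.Matrix.cons_val_zero, _root_.Matrix.cons_val_fin_one, _root_.Matrix.cons_val_one, _root_.Matrix.cons_val]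
    rw [c2]
    ring
  · simp only [_root_.Fin.isValue, _root_.Matrix.of_apply, _root_.Matrix.cons_val', _root_.Matrix.cons_val_zero, _root_.Matrix.cons_val_fin_one, _root_.Matrix.cons_val_one, _root_.Matrix.cons_val]
    have c1' : s = M 0 0 + M 1 1 + M 2 2 := neg_inj.1 c1
    rw [c1']
    linear_combination (M 0 0 + M 1 1 + M 2 2) * hd2

theorem goodF_cU {c : K} (hc : c ^ 3 = 1) {r s a b w : K} (h1 : a + b = c ^ 2 * s - r)
    (hw : w = a * (b + r) + s - c * r) : GoodF s r (c • Um a b w) := by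
  refine ⟨Zi r s, c • (Zm r s * Um a b w), det_Zi r s, det_Y hc r s a b w, ?_, Or.inl (charpoly_Zi r s),
    Or.inl (charpoly_Y hc h1 hw)⟩
  rw [Matrix.mul_smul, ← mul_assoc, Zi_mul, one_mul]

theorem goodF_of_sim {s r : K} {N M : Matrix (Fin 3) (Fin 3) K} {c : K} (h : GoodF s r (c • (1 + M)))
    (hs : ∃ R : Matrix (Fin 3) (Fin 3) K, R.det ≠ 0 ∧ N * R = R * M) : GoodF s r (c • (1 + N)) := by
  obtain ⟨R, hR, h1⟩ := hs
  refine h.conj hR ?_
  rw [Matrix.smul_mul, Matrix.mul_smul, add_mul, mul_add, h1, one_mul, mul_one]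

theorem goodF_tr {N : Matrix (Fin 3) (Fin 3) K} (h2 : N ^ 2 = 0) (h1 : N ≠ 0) {c : K} (hc : c ^ 3 = 1) {s r : K}
    (hroot : ∀ x, (cu s r).eval x ≠ 0) : GoodF s r (c • (1 + N)) := by
  have hσ := sigma_ne hc hroot
  have hg := goodF_cU hc (a := c ^ 2 * s - r) (b := 0) (w := (c ^ 2 * s - r) * (0 + r) + s - c * r) (by ring) rfl
  rw [Um_eq] at hg
  refine goodF_of_sim hg ?_
  obtain ⟨P, hP, hP'⟩ := sim_tr h2 h1
  obtain ⟨Q, hQ, hQ'⟩ := sim_tr (K := K)
    (N := !![0, c ^ 2 * s - r, (c ^ 2 * s - r) * (0 + r) + s - c * r; 0, 0, 0; 0, 0, 0]) (by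
      rw [pow_two]
      ext i j
      (revert i j; simp only [Matrix.mul_apply, Fin.sum_univ_three, _root_.Fin.forall_fin_succ, _root_.zero_add, _root_.Matrix.of_apply, _root_.Matrix.cons_val', _root_.Matrix.cons_val_fin_one, Fin.isValue, _root_.Matrix.cons_val_zero, _root_.Matrix.cons_val_one, _root_.Matrix.cons_val, _root_.Matrix.zero_apply, _root_.MulZeroClass.mul_zero, _root_.add_zero, _root_.Matrix.cons_val_succ, _root_.mul_eq_zero, _root_.forall_const, _root_.true_and, _root_.true_or, _root_.and_self, _root_.implies_true])) (by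
      intro h
      apply hσ
      have := congrFun (congrFun h 0) 1
      simpa only [_root_.zero_add, _root_.Fin.isValue, _root_.Matrix.of_apply, _root_.Matrix.cons_val', _root_.Matrix.cons_val_one, _root_.Matrix.cons_val_zero, _root_.Matrix.cons_val_fin_one, _root_.Matrix.zero_apply] using this)
  exact sim_trans hP hP' hQ hQ'

theorem goodF_reg {N : Matrix (Fin 3) (Fin 3) K} (h3 : N ^ 3 = 0) (h2 : N ^ 2 ≠ 0) {c : K} (hc : c ^ 3 = 1) {s r : K}
    (hK : ∀ x : K, ∃ a : K, a ≠ 0 ∧ a ≠ x) : GoodF s r (c • (1 + N)) := by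
  obtain ⟨a, ha, ha'⟩ := hK (c ^ 2 * s - r)
  have hb : c ^ 2 * s - r - a ≠ 0 := sub_ne_zero.2 ha'.symm
  have hg := goodF_cU hc (a := a) (b := c ^ 2 * s - r - a) (w := a * (c ^ 2 * s - r - a + r) + s - c * r) (by ring) rfl
  rw [Um_eq] at hg
  refine goodF_of_sim hg ?_
  obtain ⟨P, hP, hP'⟩ := sim_reg h3 h2
  generalize c ^ 2 * s - r - a = b at hb
  generalize a * (b + r) + s - c * r = w
  have e2 : (!![0, a, w; 0, 0, b; 0, 0, 0] : Matrix (Fin 3) (Fin 3) K) ^ 2 = !![0, 0, a * b; 0, 0, 0; 0, 0, 0] := by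
    rw [pow_two]
    ext i j
    (revert i j; simp only [Matrix.mul_apply, Fin.sum_univ_three, _root_.Fin.forall_fin_succ, _root_.Matrix.of_apply, _root_.Matrix.cons_val', _root_.Matrix.cons_val_fin_one, Fin.isValue, _root_.Matrix.cons_val_zero, _root_.Matrix.cons_val_one, _root_.Matrix.cons_val, _root_.MulZeroClass.mul_zero, _root_.add_zero, _root_.Matrix.cons_val_succ, _root_.forall_const, _root_.MulZeroClass.zero_mul, _root_.zero_add, _root_.and_self, _root_.implies_true])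
  obtain ⟨Q, hQ, hQ'⟩ := sim_reg (K := K) (N := !![0, a, w; 0, 0, b; 0, 0, 0]) (by
      rw [pow_succ, e2]
      ext i j
      (revert i j; simp only [Matrix.mul_apply, Fin.sum_univ_three, _root_.Fin.forall_fin_succ, _root_.Matrix.of_apply, _root_.Matrix.cons_val', _root_.Matrix.cons_val_fin_one, Fin.isValue, _root_.Matrix.cons_val_zero, _root_.Matrix.cons_val_one, _root_.Matrix.cons_val, _root_.Matrix.zero_apply, _root_.MulZeroClass.mul_zero, _root_.add_zero, _root_.Matrix.cons_val_succ, _root_.mul_eq_zero, _root_.forall_const, _root_.true_and, _root_.true_or, _root_.MulZeroClass.zero_mul, _root_.and_self, _root_.implies_true])) (by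
      rw [e2]
      intro h
      have := congrFun (congrFun h 0) 2
      exact mul_ne_zero ha hb (by simpa using this))
  exact sim_trans hP hP' hQ hQ'

/-- the identity -/
theorem goodF_one (s r : K) : GoodF s r (1 : Matrix (Fin 3) (Fin 3) K) := by
  refine ⟨Zi r s, Zm r s, det_Zi r s, det_Zm r s, (Zi_mul r s).symm, Or.inl (charpoly_Zi r s), Or.inr ?_⟩
  rw [← inv_Zi]
  exact charpoly_inv (det_Zi r s) (charpoly_Zi r s)

theorem goodF_simple [Finite K] (hq : 4 ≤ Nat.card K) {l : Matrix (Fin 3) (Fin 3) K} (hl : l.det = 1) {x : K}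
    {p : K[X]} (hp : l.charpoly = (X - C x) * p) (hx : p.eval x ≠ 0) {s r : K} (hirr : Irreducible (cu s r)) :
    GoodF s r l := by
  obtain ⟨Z, h, hZ, hh, hZh⟩ := Cfsg.Agent.H864.Ore.gl_comm hq l hl x p hp hx (cu s r) hirr (cu_monic s r)
    (by rw [cu_natDegree, Fintype.card_fin]) (by rw [Fintype.card_fin]; norm_num)
  have hZd : Z.det = 1 := by
    rw [Matrix.det_eq_sign_charpoly_coeff, hZ, cu_coeff, Fintype.card_fin]
    norm_num
  have huh : IsUnit h.det := by rw [hh]; exact isUnit_one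
  have huZ : IsUnit Z.det := by rw [hZd]; exact isUnit_one
  have h1 : h * h⁻¹ = 1 := Matrix.mul_nonsing_inv _ huh
  have h2 : h⁻¹ * h = 1 := Matrix.nonsing_inv_mul _ huh
  have h3 : Z * Z⁻¹ = 1 := Matrix.mul_nonsing_inv _ huZ
  let U : (Matrix (Fin 3) (Fin 3) K)ˣ := ⟨h, h⁻¹, h1, h2⟩
  have hc : ∀ M : Matrix (Fin 3) (Fin 3) K, (h * M * h⁻¹).charpoly = M.charpoly := fun M =>
    Matrix.charpoly_units_conj U M
  have hd : ∀ M : Matrix (Fin 3) (Fin 3) K, (h * M * h⁻¹).det = M.det := fun M => Matrix.det_units_conj U M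
  refine ⟨h * Z * h⁻¹, Z⁻¹, by rw [hd, hZd], ?_, ?_, Or.inl (by rw [hc, hZ]), Or.inr (charpoly_inv hZd hZ)⟩
  · have := congrArg Matrix.det h3
    rwa [Matrix.det_mul, hZd, one_mul, Matrix.det_one] at this
  · rw [← hZh]
    calc l = l * (Z * Z⁻¹) := by rw [h3, mul_one]
      _ = l * Z * (h * h⁻¹) * Z⁻¹ := by rw [h1]; simp only [mul_assoc, mul_one]
      _ = _ := by simp only [mul_assoc]

/-! ### irreducible elements -/

/-- solvability of the family of quadratic equations -/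
def Sol (s r : K) : Prop := ∀ t u : K, (∀ x, x ^ 3 - t * x ^ 2 + u * x - 1 ≠ 0) → ∃ p c b e ip ic ib ie : K,
  p * ip = 1 ∧ c * ic = 1 ∧ b * ib = 1 ∧ e * ie = 1 ∧
  (s - p) * c - b * ip - (c ^ 3 - s * c ^ 2 + r * c - 1) * ic * ib = t ∧
  (r - ic) * ip + (p ^ 3 - s * p ^ 2 + r * p - 1) * ip * ip * ie - c * e = u

theorem fam {s r p c b e ip ic ib ie : K} (hp : p * ip = 1) (hc : c * ic = 1) (hb : b * ib = 1) (he : e * ie = 1) :
    ∃ X Y : Matrix (Fin 3) (Fin 3) K, X.det = 1 ∧ Y.det = 1 ∧ X.charpoly = cu s r ∧ Y.charpoly = cu s r ∧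
      (X * Y).charpoly = cu ((s - p) * c - b * ip - (c ^ 3 - s * c ^ 2 + r * c - 1) * ic * ib)
        ((r - ic) * ip + (p ^ 3 - s * p ^ 2 + r * p - 1) * ip * ip * ie - c * e) := by
  obtain ⟨F, hF⟩ : ∃ F, F = p ^ 3 - s * p ^ 2 + r * p - 1 := ⟨_, rfl⟩
  obtain ⟨G, hG⟩ : ∃ G, G = c ^ 3 - s * c ^ 2 + r * c - 1 := ⟨_, rfl⟩
  rw [← hF, ← hG]
  obtain ⟨A, hA⟩ : ∃ A : Matrix (Fin 3) (Fin 3) K, A = !![p, 0, e; 0, 0, -ip; -(F * ip * ie), 1, s - p] := ⟨_, rfl⟩
  obtain ⟨B, hB⟩ : ∃ B : Matrix (Fin 3) (Fin 3) K, B = !![0, -ic, 0; 1, s - c, -(G * ic * ib); 0, b, c] := ⟨_, rfl⟩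
  have dA : A.det = 1 := by
    rw [hA, Matrix.det_fin_three]
    simp only [_root_.Fin.isValue, _root_.Matrix.of_apply, _root_.Matrix.cons_val', _root_.Matrix.cons_val_zero, _root_.Matrix.cons_val_fin_one, _root_.Matrix.cons_val_one, _root_.MulZeroClass.mul_zero, _root_.Matrix.cons_val, _root_.MulZeroClass.zero_mul, _root_.mul_neg, _root_.mul_one, _root_.sub_neg_eq_add, _root_.zero_add, _root_.sub_zero, _root_.neg_zero, _root_.add_zero]
    linear_combination hp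
  have dB : B.det = 1 := by
    rw [hB, Matrix.det_fin_three]
    simp only [_root_.Fin.isValue, _root_.Matrix.of_apply, _root_.Matrix.cons_val', _root_.Matrix.cons_val_zero, _root_.Matrix.cons_val_fin_one, _root_.Matrix.cons_val_one, _root_.MulZeroClass.zero_mul, _root_.Matrix.cons_val, _root_.mul_neg, _root_.neg_zero, _root_.sub_self, _root_.mul_one, _root_.neg_mul, _root_.sub_neg_eq_add, _root_.zero_add, _root_.neg_neg, _root_.MulZeroClass.mul_zero, _root_.add_zero, _root_.sub_zero]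
    linear_combination hc
  have hAB : A * B = !![0, -(p * ic) + e * b, e * c; 0, -(ip * b), -(ip * c);
      1, F * ip * ie * ic + (s - c) + (s - p) * b, -(G * ic * ib) + (s - p) * c] := by
    rw [hA, hB]
    ext i j
    (revert i j; simp only [Matrix.mul_apply, Fin.sum_univ_three, _root_.Fin.forall_fin_succ, _root_.Matrix.of_apply, _root_.Matrix.cons_val', _root_.Matrix.cons_val_fin_one, Fin.isValue, _root_.Matrix.cons_val_zero, _root_.Matrix.cons_val_one, _root_.Matrix.cons_val, _root_.MulZeroClass.mul_zero, _root_.mul_one, _root_.zero_add, _root_.add_zero, _root_.Matrix.cons_val_succ, _root_.mul_neg, _root_.forall_const, _root_.true_and, _root_.MulZeroClass.zero_mul, _root_.neg_zero, _root_.and_self, _root_.neg_mul, _root_.neg_neg, _root_.one_mul, _root_.implies_true])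
  refine ⟨A, B, dA, dB, ?_, ?_, ?_⟩
  · rw [charpoly_eq dA, hA]
    congr 1
    · simp
    · simp only [_root_.Fin.isValue, _root_.Matrix.of_apply, _root_.Matrix.cons_val', _root_.Matrix.cons_val_zero, _root_.Matrix.cons_val_fin_one, _root_.Matrix.cons_val_one, _root_.MulZeroClass.mul_zero, _root_.sub_self, _root_.Matrix.cons_val, _root_.mul_neg, _root_.sub_neg_eq_add, _root_.zero_add, _root_.MulZeroClass.zero_mul, _root_.mul_one]
      rw [hF]
      linear_combination (p ^ 3 * ip - s * p ^ 2 * ip + r * p * ip - ip) * he + (p ^ 2 - s * p + r) * hp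
  · rw [charpoly_eq dB, hB]
    congr 1
    · simp
    · simp only [_root_.Fin.isValue, _root_.Matrix.of_apply, _root_.Matrix.cons_val', _root_.Matrix.cons_val_zero, _root_.Matrix.cons_val_fin_one, _root_.Matrix.cons_val_one, _root_.MulZeroClass.zero_mul, _root_.mul_one, _root_.sub_neg_eq_add, _root_.zero_add, _root_.Matrix.cons_val, _root_.MulZeroClass.mul_zero, _root_.sub_self, _root_.add_zero, _root_.neg_mul]
      rw [hG]
      linear_combination (c ^ 3 * ic - s * c ^ 2 * ic + r * c * ic - ic) * hb + (c ^ 2 - s * c + r) * hc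
  · rw [charpoly_eq (by rw [Matrix.det_mul, dA, dB, one_mul]), hAB]
    congr 1
    · simp only [_root_.Fin.isValue, _root_.Matrix.of_apply, _root_.Matrix.cons_val', _root_.Matrix.cons_val_zero, _root_.Matrix.cons_val_fin_one, _root_.Matrix.cons_val_one, _root_.zero_add, _root_.Matrix.cons_val]
      ring
    · simp only [_root_.Fin.isValue, _root_.Matrix.of_apply, _root_.Matrix.cons_val', _root_.Matrix.cons_val_zero, _root_.Matrix.cons_val_fin_one, _root_.Matrix.cons_val_one, _root_.mul_neg, _root_.MulZeroClass.zero_mul, _root_.neg_zero, _root_.MulZeroClass.mul_zero, _root_.sub_self, _root_.Matrix.cons_val, _root_.mul_one, _root_.zero_sub, _root_.zero_add, _root_.neg_mul, _root_.sub_neg_eq_add]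
      rw [hG, hF]
      linear_combination (ip * ic * (c ^ 3 - s * c ^ 2 + r * c - 1)) * hb +
        (ip * (c ^ 2 - s * c + r) + ip ^ 2 * ie * (p ^ 3 - s * p ^ 2 + r * p - 1)) * hc

theorem exists_eq_of_irr [Finite K] {l M : Matrix (Fin 3) (Fin 3) K} (hl : l.det = 1) (hM : M.det = 1)
    (hi : Irreducible l.charpoly) (h : M.charpoly = l.charpoly) : ∃ R : Matrix (Fin 3) (Fin 3) K, R.det ≠ 0 ∧
      l * R = R * M := by
  obtain ⟨l', rfl⟩ : ∃ l' : _root_.Matrix.SpecialLinearGroup (Fin 3) K, (l' : Matrix (Fin 3) (Fin 3) K) = l := ⟨⟨l, hl⟩, rfl⟩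
  obtain ⟨M', rfl⟩ : ∃ M' : _root_.Matrix.SpecialLinearGroup (Fin 3) K, (M' : Matrix (Fin 3) (Fin 3) K) = M := ⟨⟨M, hM⟩, rfl⟩
  obtain ⟨g, hg⟩ := H150.MF.exists_conj (H150.MF.cls_of_irreducible (by rw [h]; exact hi))
    (H150.MF.cls_of_irreducible hi) h
  refine ⟨(g : Matrix (Fin 3) (Fin 3) K), by rw [g.2]; exact one_ne_zero, ?_⟩
  have h1 : l' * g = g * M' := by rw [hg]; group
  exact congrArg (fun x : _root_.Matrix.SpecialLinearGroup (Fin 3) K => (x : Matrix (Fin 3) (Fin 3) K)) h1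

theorem goodF_irr [Finite K] {s r : K} (hS : Sol s r) {l : Matrix (Fin 3) (Fin 3) K} (hl : l.det = 1)
    (h : Irreducible l.charpoly) : GoodF s r l := by
  have h1 := charpoly_eq hl
  obtain ⟨t, ht⟩ : ∃ t, t = l 0 0 + l 1 1 + l 2 2 := ⟨_, rfl⟩
  obtain ⟨u, hu⟩ : ∃ u, u = l 0 0 * l 1 1 - l 0 1 * l 1 0 + (l 0 0 * l 2 2 - l 0 2 * l 2 0) +
    (l 1 1 * l 2 2 - l 1 2 * l 2 1) := ⟨_, rfl⟩
  rw [← ht, ← hu] at h1
  have h2 := (irr_iff l).1 h
  rw [h1] at h2
  obtain ⟨p, c, b, e, ip, ic, ib, ie, hp, hc, hb, he, e1, e2⟩ := hS t u (fun x hx => h2 x (by rw [cu_eval]; exact hx))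
  obtain ⟨A, B, dA, dB, cA, cB, cAB⟩ := fam (s := s) (r := r) hp hc hb he
  rw [e1, e2, ← h1] at cAB
  obtain ⟨R, hR, e3⟩ := exists_eq_of_irr hl (by rw [Matrix.det_mul, dA, dB, one_mul]) h cAB
  exact GoodF.conj ⟨A, B, dA, dB, rfl, Or.inl cA, Or.inl cB⟩ hR e3

/-- **the theorem** -/
theorem goodF [Finite K] (hq : 4 ≤ Nat.card K) {s r : K} (hroot : ∀ x, x ^ 3 - s * x ^ 2 + r * x - 1 ≠ 0)
    (hS : Sol s r) (l : Matrix (Fin 3) (Fin 3) K) (hl : l.det = 1)
    (hs : l = 1 ∨ ∀ c : K, l ≠ c • (1 : Matrix (Fin 3) (Fin 3) K)) : GoodF s r l := by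
  have hroot' : ∀ x, (cu s r).eval x ≠ 0 := fun x => by rw [cu_eval]; exact hroot x
  have hirr : Irreducible (cu s r) := irr_of_poly (cu_monic s r) (cu_natDegree s r) hroot'
  rcases hs with rfl | hs
  · exact goodF_one s r
  by_cases hl0 : ∀ x, l.charpoly.eval x ≠ 0
  · exact goodF_irr hS hl ((irr_iff l).2 hl0)
  push Not at hl0
  obtain ⟨x, hx⟩ := hl0
  obtain ⟨p, hp⟩ := dvd_iff_isRoot.2 hx
  have hpm : p.Monic := (monic_X_sub_C x).of_mul_monic_left (hp ▸ l.charpoly_monic)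
  by_cases hpx : p.eval x = 0
  swap
  · exact goodF_simple hq hl hp hpx hirr
  obtain ⟨p2, hp2⟩ := dvd_iff_isRoot.2 hpx
  have hpm2 : p2.Monic := (monic_X_sub_C x).of_mul_monic_left (hp2 ▸ hpm)
  have hd : p2.natDegree = 1 := by
    have h1 : l.charpoly.natDegree = 3 := by rw [Matrix.charpoly_natDegree_eq_dim, Fintype.card_fin]
    rw [hp, hp2, (monic_X_sub_C x).natDegree_mul ((monic_X_sub_C x).mul hpm2), (monic_X_sub_C x).natDegree_mul hpm2,
      natDegree_X_sub_C] at h1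
    omega
  obtain ⟨y, hy⟩ : ∃ y, p2 = X - C y := by
    refine ⟨-p2.coeff 0, ?_⟩
    have h1 := hpm2.as_sum
    rw [hd, Finset.sum_range_one] at h1
    rw [h1]
    simp only [_root_.pow_one, _root_.pow_zero, _root_.mul_one, _root_.Polynomial.coeff_add, _root_.Polynomial.coeff_X_zero, _root_.Polynomial.coeff_C_zero, _root_.zero_add, _root_.map_neg, _root_.sub_neg_eq_add]
  by_cases hxy : y = x
  swap
  · refine goodF_simple (x := y) (p := (X - C x) * (X - C x)) hq hl ?_ ?_ hirr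
    · rw [hp, hp2, hy]
      ring
    · simp only [eval_mul, eval_sub, eval_X, eval_C]
      exact mul_ne_zero (sub_ne_zero.2 hxy) (sub_ne_zero.2 hxy)
  -- all eigenvalues are equal
  rw [hxy] at hy
  have hch : l.charpoly = (X - C x) ^ 3 := by
    rw [hp, hp2, hy]
    ring
  have hx3 : x ^ 3 = 1 := by
    have h1 := Matrix.det_eq_sign_charpoly_coeff l
    rw [hl, hch, Fintype.card_fin, coeff_zero_eq_eval_zero] at h1
    simp only [eval_pow, eval_sub, eval_X, eval_C] at h1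
    rw [h1]
    ring
  have hCH : (l - x • (1 : Matrix (Fin 3) (Fin 3) K)) ^ 3 = 0 := by
    have h1 := Matrix.aeval_self_charpoly l
    rw [hch, map_pow, map_sub, aeval_X, aeval_C, Algebra.algebraMap_eq_smul_one] at h1
    exact h1
  have hlN : l = x • (1 + (x ^ 2 • l - 1)) := by
    rw [add_sub_cancel, smul_smul, ← pow_succ', hx3, one_smul]
  have hN3 : (x ^ 2 • l - 1) ^ 3 = 0 := by
    have h1 : x ^ 2 • l - 1 = x ^ 2 • (l - x • (1 : Matrix (Fin 3) (Fin 3) K)) := by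
      rw [smul_sub, smul_smul, ← pow_succ, hx3, one_smul]
    rw [h1, _root_.smul_pow, hCH, smul_zero]
  rw [hlN]
  by_cases h1 : (x ^ 2 • l - 1) = 0
  · exfalso
    apply hs x
    rw [h1, add_zero] at hlN
    exact hlN
  by_cases h2 : (x ^ 2 • l - 1) ^ 2 = 0
  · exact goodF_tr h2 h1 hx3 hroot'
  · exact goodF_reg hN3 h2 hx3 (exists_ne_ne hq)

/-- the property for the products of a lower and an upper unitriangular matrix, with a fixed irreducible element -/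
def M3F (K : Type u) [Field K] : Prop :=
  ∃ X₀ : _root_.Matrix.SpecialLinearGroup (Fin 3) K, Irreducible (X₀ : Matrix (Fin 3) (Fin 3) K).charpoly ∧
    ∀ v ∈ H162.GaussSL.LT 3 K, ∀ u ∈ H162.GaussSL.UT 3 K, ∃ X Y : _root_.Matrix.SpecialLinearGroup (Fin 3) K, v * u = X * Y ∧
      ((X : Matrix (Fin 3) (Fin 3) K).charpoly = (X₀ : Matrix (Fin 3) (Fin 3) K).charpoly ∨
        (X : Matrix (Fin 3) (Fin 3) K).charpoly =
          ((X₀⁻¹ : _root_.Matrix.SpecialLinearGroup (Fin 3) K) : Matrix (Fin 3) (Fin 3) K).charpoly) ∧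
      ((Y : Matrix (Fin 3) (Fin 3) K).charpoly = (X₀ : Matrix (Fin 3) (Fin 3) K).charpoly ∨
        (Y : Matrix (Fin 3) (Fin 3) K).charpoly =
          ((X₀⁻¹ : _root_.Matrix.SpecialLinearGroup (Fin 3) K) : Matrix (Fin 3) (Fin 3) K).charpoly)

/-- from matrices -/
theorem M3F.of {K : Type u} [Field K] {s r : K} (hroot : ∀ x, x ^ 3 - s * x ^ 2 + r * x - 1 ≠ 0)
    (h : ∀ v ∈ H162.GaussSL.LT 3 K, ∀ u ∈ H162.GaussSL.UT 3 K,
      GoodF s r ((v * u : _root_.Matrix.SpecialLinearGroup (Fin 3) K) : Matrix (Fin 3) (Fin 3) K)) : M3F K := by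
  have hroot' : ∀ x, (cu s r).eval x ≠ 0 := fun x => by rw [cu_eval]; exact hroot x
  have hirr : Irreducible (cu s r) := irr_of_poly (cu_monic s r) (cu_natDegree s r) hroot'
  obtain ⟨X₀, hX₀⟩ : ∃ X₀ : _root_.Matrix.SpecialLinearGroup (Fin 3) K, (X₀ : Matrix (Fin 3) (Fin 3) K) = Zi r s :=
    ⟨⟨Zi r s, det_Zi r s⟩, rfl⟩
  have h1 : ((X₀⁻¹ : _root_.Matrix.SpecialLinearGroup (Fin 3) K) : Matrix (Fin 3) (Fin 3) K).charpoly = cu r s := by
    rw [coe_inv', hX₀]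
    exact charpoly_inv (det_Zi r s) (charpoly_Zi r s)
  have h2 : (X₀ : Matrix (Fin 3) (Fin 3) K).charpoly = cu s r := by rw [hX₀, charpoly_Zi]
  refine ⟨X₀, by rw [h2]; exact hirr, fun v hv u hu => ?_⟩
  obtain ⟨X, Y, dX, dY, e, cX, cY⟩ := h v hv u hu
  refine ⟨⟨X, dX⟩, ⟨Y, dY⟩, Subtype.ext e, ?_, ?_⟩
  · rw [h1, h2]
    exact cX
  · rw [h1, h2]
    exact cY

/-- **lower times upper unitriangular** -/
theorem m3F_of_sol [Finite K] (hq : 4 ≤ Nat.card K) {s r : K} (hroot : ∀ x, x ^ 3 - s * x ^ 2 + r * x - 1 ≠ 0)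
    (hS : Sol s r) : M3F K := by
  refine M3F.of hroot fun v hv u hu => goodF hq hroot hS _ (v * u).2 ?_
  by_cases h : v * u = 1
  · exact Or.inl (by rw [h]; exact Matrix.SpecialLinearGroup.coe_one)
  right
  intro c hc
  apply h
  -- the `(0, 0)` entry is `1`
  have h1 : ((v * u : _root_.Matrix.SpecialLinearGroup (Fin 3) K) : Matrix (Fin 3) (Fin 3) K) 0 0 = 1 := by
    have h2 : ((v * u : _root_.Matrix.SpecialLinearGroup (Fin 3) K) : Matrix (Fin 3) (Fin 3) K) 0 0 =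
        ∑ k, (v : Matrix (Fin 3) (Fin 3) K) 0 k * (u : Matrix (Fin 3) (Fin 3) K) k 0 := by
      rw [Matrix.SpecialLinearGroup.coe_mul, Matrix.mul_apply]
    have e1 : (u : Matrix (Fin 3) (Fin 3) K) 1 0 = 0 := hu.1 (i := 1) (j := 0) (by decide)
    have e2 : (u : Matrix (Fin 3) (Fin 3) K) 2 0 = 0 := hu.1 (i := 2) (j := 0) (by decide)
    have e3 : (u : Matrix (Fin 3) (Fin 3) K) 0 0 = 1 := hu.2 0
    have e4 : (v : Matrix (Fin 3) (Fin 3) K) 0 0 = 1 := hv.2 0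
    rw [h2, Fin.sum_univ_three, e1, e2, e3, e4]
    simp
  rw [hc, Matrix.smul_apply, Matrix.one_apply_eq, smul_eq_mul, mul_one] at h1
  apply Subtype.ext
  rw [hc, h1, one_smul]
  exact Matrix.SpecialLinearGroup.coe_one.symm

end Cfsg.Agent.H374.TC
end

-- part: H374/TC/Tab
section
/-!
# The equations `Sol s r` over the fields with 4, 5, 7, 8 elements (helper374, S4173)

`FC K o φ` : codes `φ : ℕ → K` with arithmetic `o`; `m3F` : `M3F K` for `|K| ∈ {4, 5, 7, 8}`.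
-/

set_option autoImplicit false

namespace Cfsg.Agent.H374.TC

universe u

/-- arithmetic of codes -/
structure Op where
  /-- the number of elements -/
  q : ℕ
  /-- addition -/
  ad : ℕ → ℕ → ℕ
  /-- multiplication -/
  ml : ℕ → ℕ → ℕ
  /-- negation -/
  ng : ℕ → ℕ

/-- codes for the elements of the field -/
structure FC (K : Type u) [Field K] (o : Op) (φ : ℕ → K) : Prop where
  ad : ∀ a b, φ (o.ad a b) = φ a + φ b
  ml : ∀ a b, φ (o.ml a b) = φ a * φ b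
  ng : ∀ a, φ (o.ng a) = -φ a
  one : φ 1 = 1
  zero : φ 0 = 0
  red : ∀ a, φ (a % o.q) = φ a
  surj : ∀ x, ∃ a < o.q, φ a = x

namespace Op

/-- difference -/
def sb (o : Op) (a b : ℕ) : ℕ := o.ad a (o.ng b)

/-- the value of the cubic -/
def cb (o : Op) (s r x : ℕ) : ℕ := o.sb (o.ad (o.sb (o.ml x (o.ml x x)) (o.ml s (o.ml x x))) (o.ml r x)) 1

/-- equality -/
def eq (o : Op) (a b : ℕ) : Bool := a % o.q == b % o.q

/-- the test of one entry -/
def chkE (o : Op) (s r t u p c b e ip ic ib ie : ℕ) : Bool :=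
  o.eq (o.ml p ip) 1 && o.eq (o.ml c ic) 1 && o.eq (o.ml b ib) 1 && o.eq (o.ml e ie) 1 &&
  o.eq (o.sb (o.sb (o.ml (o.sb s p) c) (o.ml b ip)) (o.ml (o.ml (o.cb s r c) ic) ib)) t &&
  o.eq (o.sb (o.ad (o.ml (o.sb r ic) ip) (o.ml (o.ml (o.ml (o.cb s r p) ip) ip) ie)) (o.ml c e)) u

/-- the test of a table -/
def chk (o : Op) (s r : ℕ) (T : List (ℕ × ℕ × List ℕ)) : Bool :=
  ((List.range o.q).all fun x => !o.eq (o.cb s r x) 0) &&
  (List.range o.q).all fun t => (List.range o.q).all fun u =>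
    ((List.range o.q).any fun x => o.eq (o.cb t u x) 0) ||
    T.any fun e => e.1 == t && e.2.1 == u && o.chkE s r t u (e.2.2.getD 0 0) (e.2.2.getD 1 0) (e.2.2.getD 2 0)
      (e.2.2.getD 3 0) (e.2.2.getD 4 0) (e.2.2.getD 5 0) (e.2.2.getD 6 0) (e.2.2.getD 7 0)

end Op

section

variable {K : Type u} [Field K] {o : Op} {φ : ℕ → K}

theorem FC.sb (F : FC K o φ) (a b : ℕ) : φ (o.sb a b) = φ a - φ b := by
  rw [Op.sb, F.ad, F.ng, sub_eq_add_neg]

theorem FC.cb (F : FC K o φ) (s r x : ℕ) : φ (o.cb s r x) = φ x ^ 3 - φ s * φ x ^ 2 + φ r * φ x - 1 := by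
  rw [Op.cb, F.sb, F.ad, F.sb, F.ml, F.ml, F.ml, F.ml, F.one]
  simp only [F.ml]
  ring

theorem FC.eq (F : FC K o φ) {a b : ℕ} (h : o.eq a b = true) : φ a = φ b := by
  rw [Op.eq, beq_iff_eq] at h
  rw [← F.red a, h, F.red]

theorem FC.inj [Finite K] (F : FC K o φ) (hK : Nat.card K = o.q) {a b : ℕ} (h : φ a = φ b) : a % o.q = b % o.q := by
  have hq : 0 < o.q := by rw [← hK]; exact Nat.card_pos
  let g : Fin o.q → K := fun i => φ i
  have h1 : Function.Surjective g := by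
    intro x
    obtain ⟨a, ha, e⟩ := F.surj x
    exact ⟨⟨a, ha⟩, e⟩
  have h2 : Function.Bijective g := by
    rw [Nat.bijective_iff_surjective_and_card]
    exact ⟨h1, by rw [Nat.card_fin, hK]⟩
  have h3 : g ⟨a % o.q, Nat.mod_lt _ hq⟩ = g ⟨b % o.q, Nat.mod_lt _ hq⟩ := by
    show φ (a % o.q) = φ (b % o.q)
    rw [F.red, F.red, h]
  exact congrArg Fin.val (h2.1 h3)

theorem sol_of [Finite K] (F : FC K o φ) (hK : Nat.card K = o.q) {s r : ℕ} {T : List (ℕ × ℕ × List ℕ)}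
    (h : o.chk s r T = true) : (∀ x, x ^ 3 - φ s * x ^ 2 + φ r * x - 1 ≠ 0) ∧ Sol (φ s) (φ r) := by
  rw [Op.chk, Bool.and_eq_true] at h
  obtain ⟨h1, h2⟩ := h
  constructor
  · intro x hx
    obtain ⟨a, ha, rfl⟩ := F.surj x
    have h3 := List.all_eq_true.1 h1 a (List.mem_range.2 ha)
    rw [Bool.not_eq_true', Op.eq, beq_eq_false_iff_ne] at h3
    apply h3
    apply F.inj hK
    rw [F.cb, F.zero, hx]
  · intro t u hn
    obtain ⟨t, ht, rfl⟩ := F.surj t
    obtain ⟨u, hu, rfl⟩ := F.surj u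
    have h3 := List.all_eq_true.1 (List.all_eq_true.1 h2 t (List.mem_range.2 ht)) u (List.mem_range.2 hu)
    rw [Bool.or_eq_true, List.any_eq_true, List.any_eq_true] at h3
    rcases h3 with ⟨x, -, h4⟩ | ⟨⟨t', u', l⟩, -, h4⟩
    · exfalso
      have h5 := F.eq h4
      rw [F.cb, F.zero] at h5
      exact hn _ h5
    · rw [Bool.and_eq_true, Bool.and_eq_true, beq_iff_eq, beq_iff_eq] at h4
      obtain ⟨-, h5⟩ := h4
      simp only at h5
      generalize l.getD 0 0 = p at h5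
      generalize l.getD 1 0 = c at h5
      generalize l.getD 2 0 = b at h5
      generalize l.getD 3 0 = e at h5
      generalize l.getD 4 0 = ip at h5
      generalize l.getD 5 0 = ic at h5
      generalize l.getD 6 0 = ib at h5
      generalize l.getD 7 0 = ie at h5
      simp only [Op.chkE, Bool.and_eq_true] at h5
      obtain ⟨⟨⟨⟨⟨k1, k2⟩, k3⟩, k4⟩, k5⟩, k6⟩ := h5
      refine ⟨φ p, φ c, φ b, φ e, φ ip, φ ic, φ ib, φ ie, ?_, ?_, ?_, ?_, ?_, ?_⟩
      · rw [← F.ml, F.eq k1, F.one]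
      · rw [← F.ml, F.eq k2, F.one]
      · rw [← F.ml, F.eq k3, F.one]
      · rw [← F.ml, F.eq k4, F.one]
      · have := F.eq k5
        rw [F.sb, F.sb, F.ml, F.sb, F.ml, F.ml, F.ml, F.cb] at this
        exact this
      · have := F.eq k6
        rw [F.sb, F.ad, F.ml, F.sb, F.ml, F.ml, F.ml, F.cb, F.ml] at this
        exact this

end

/-! ### prime fields -/

/-- arithmetic modulo `p` -/
def opP (p : ℕ) : Op := ⟨p, fun a b => (a + b) % p, fun a b => a * b % p, fun a => (p - 1) * a % p⟩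

theorem fc_prime {K : Type u} [Field K] [Finite K] {p : ℕ} [hp : Fact p.Prime] (hK : Nat.card K = p) :
    FC K (opP p) (fun n => (n : K)) := by
  obtain ⟨hch, hall⟩ := Cfsg.Agent.H374.Ore.Sl3.exists_cast hK
  have hm : ((p - 1 : ℕ) : K) = -1 := by
    rw [Nat.cast_sub hp.out.one_le, CharP.cast_eq_zero, Nat.cast_one, zero_sub]
  have hr : ∀ a : ℕ, ((a % p : ℕ) : K) = a := fun a => (CharP.cast_eq_iff_mod_eq K p).2 (Nat.mod_mod _ _)
  exact
    { ad := fun a b => by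
        show (((a + b) % p : ℕ) : K) = _
        rw [hr, Nat.cast_add]
      ml := fun a b => by
        show ((a * b % p : ℕ) : K) = _
        rw [hr, Nat.cast_mul]
      ng := fun a => by
        show (((p - 1) * a % p : ℕ) : K) = _
        rw [hr, Nat.cast_mul, hm, neg_one_mul]
      one := Nat.cast_one
      zero := Nat.cast_zero
      red := hr
      surj := hall }

/-! ### four and eight elements -/

section

variable {K : Type u} [Field K]

/-- the bits -/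
def bt (c : K) (b : Bool) : K := if b = true then c else 0

theorem bt_xor [CharP K 2] (c : K) (x y : Bool) : bt c (x ^^ y) = bt c x + bt c y := by
  cases x <;> cases y <;> simp [bt, CharTwo.add_self_eq_zero]

theorem bt_mul (d c : K) (x : Bool) : d * bt c x = bt (d * c) x := by
  cases x <;> simp [bt]

/-- the code in base `1, w, w²` -/
def p8 (w : K) (a : ℕ) : K := bt 1 (a.testBit 0) + bt w (a.testBit 1) + bt (w ^ 2) (a.testBit 2)

/-- the code in base `1, w` -/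
def p4 (w : K) (a : ℕ) : K := bt 1 (a.testBit 0) + bt w (a.testBit 1)

theorem p8_xor [CharP K 2] (w : K) (a b : ℕ) : p8 w (a ^^^ b) = p8 w a + p8 w b := by
  simp only [p8, Nat.testBit_xor, bt_xor]
  ring

theorem p4_xor [CharP K 2] (w : K) (a b : ℕ) : p4 w (a ^^^ b) = p4 w a + p4 w b := by
  simp only [p4, Nat.testBit_xor, bt_xor]
  ring

/-- multiplication by `w` -/
def x8 (a : ℕ) : ℕ := (2 * a) ^^^ (bif a.testBit 2 then 3 else 0)

@[inherit_doc x8] def x4 (a : ℕ) : ℕ := (2 * a) ^^^ (bif a.testBit 1 then 3 else 0)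

theorem tb2 (a : ℕ) : (2 * a).testBit 0 = false ∧ (2 * a).testBit 1 = a.testBit 0 ∧
    (2 * a).testBit 2 = a.testBit 1 := by
  refine ⟨?_, ?_, ?_⟩
  · simp
  · rw [show (1 : ℕ) = 0 + 1 from rfl, Nat.testBit_succ, Nat.mul_div_cancel_left _ (by norm_num)]
  · rw [show (2 : ℕ) = 1 + 1 from rfl, Nat.testBit_succ, show (1 + 1) * a = 2 * a by ring,
      Nat.mul_div_cancel_left _ (by norm_num)]

theorem p8_x8 [CharP K 2] {w : K} (hw : w ^ 3 = w + 1) (a : ℕ) : p8 w (x8 a) = w * p8 w a := by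
  obtain ⟨h0, h1, h2⟩ := tb2 a
  rw [x8, p8_xor]
  have e1 : p8 w (2 * a) = bt w (a.testBit 0) + bt (w ^ 2) (a.testBit 1) := by
    rw [p8, h0, h1, h2]
    simp [bt]
  have e2 : p8 w (bif a.testBit 2 then 3 else 0) = bt (w + 1) (a.testBit 2) := by
    cases a.testBit 2
    · simp [p8, bt]
    · have t0 : (3 : ℕ).testBit 0 = true := by decide
      have t1 : (3 : ℕ).testBit 1 = true := by decide
      have t2 : (3 : ℕ).testBit 2 = false := by decide
      rw [cond_true, p8, t0, t1, t2]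
      simp only [bt, ↓ _root_.reduceIte, _root_.Bool.false_eq_true, _root_.add_zero]
      ring
  rw [e1, e2, p8, mul_add, mul_add, bt_mul, bt_mul, bt_mul, mul_one, ← pow_two, ← pow_succ', hw]

theorem p4_x4 [CharP K 2] {w : K} (hw : w ^ 2 = w + 1) (a : ℕ) : p4 w (x4 a) = w * p4 w a := by
  obtain ⟨h0, h1, h2⟩ := tb2 a
  rw [x4, p4_xor]
  have e1 : p4 w (2 * a) = bt w (a.testBit 0) := by
    rw [p4, h0, h1]
    simp [bt]
  have e2 : p4 w (bif a.testBit 1 then 3 else 0) = bt (w + 1) (a.testBit 1) := by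
    cases a.testBit 1
    · simp [p4, bt]
    · have t0 : (3 : ℕ).testBit 0 = true := by decide
      have t1 : (3 : ℕ).testBit 1 = true := by decide
      rw [cond_true, p4, t0, t1]
      simp only [bt, ↓ _root_.reduceIte]
      ring
  rw [e1, e2, p4, mul_add, bt_mul, bt_mul, mul_one, ← pow_two, hw]

/-- arithmetic for eight elements -/
def op8 : Op := ⟨8, fun a b => a ^^^ b, fun a b => (bif b.testBit 0 then a else 0) ^^^ (bif b.testBit 1 then x8 a else 0) ^^^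
  (bif b.testBit 2 then x8 (x8 a) else 0), fun a => a⟩

/-- arithmetic for four elements -/
def op4 : Op := ⟨4, fun a b => a ^^^ b, fun a b => (bif b.testBit 0 then a else 0) ^^^ (bif b.testBit 1 then x4 a else 0),
  fun a => a⟩

theorem p8_zero (w : K) : p8 w 0 = 0 := by simp [p8, bt]
theorem p4_zero (w : K) : p4 w 0 = 0 := by simp [p4, bt]

theorem p8_cond (w : K) (a : ℕ) (x : Bool) : p8 w (bif x then a else 0) = bt 1 x * p8 w a := by
  cases x
  · simp [bt, p8_zero]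
  · simp [bt]

theorem p4_cond (w : K) (a : ℕ) (x : Bool) : p4 w (bif x then a else 0) = bt 1 x * p4 w a := by
  cases x
  · simp [bt, p4_zero]
  · simp [bt]

theorem bt_one (w : K) (x : Bool) : bt w x = w * bt 1 x := by
  cases x <;> simp [bt]

theorem fc8 [Finite K] (hK : Nat.card K = 8) [CharP K 2] {w : K} (hw : w ^ 3 = w + 1) : FC K op8 (p8 w) := by
  have hml : ∀ a b, p8 w (op8.ml a b) = p8 w a * p8 w b := by
    intro a b
    show p8 w ((bif b.testBit 0 then a else 0) ^^^ (bif b.testBit 1 then x8 a else 0) ^^^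
      (bif b.testBit 2 then x8 (x8 a) else 0)) = _
    rw [p8_xor, p8_xor, p8_cond, p8_cond, p8_cond, p8_x8 hw, p8_x8 hw, p8_x8 hw]
    rw [show p8 w b = bt 1 (b.testBit 0) + bt w (b.testBit 1) + bt (w ^ 2) (b.testBit 2) from rfl,
      bt_one w (b.testBit 1), bt_one (w ^ 2) (b.testBit 2)]
    ring
  have hone : p8 w 1 = 1 := by
    have t0 : (1 : ℕ).testBit 0 = true := by decide
    have t1 : (1 : ℕ).testBit 1 = false := by decide
    have t2 : (1 : ℕ).testBit 2 = false := by decide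
    rw [p8, t0, t1, t2]
    simp [bt]
  have hred : ∀ a, p8 w (a % 8) = p8 w a := by
    intro a
    have : ∀ i < 3, (a % 8).testBit i = a.testBit i := by
      intro i hi
      rw [show (8 : ℕ) = 2 ^ 3 by norm_num, Nat.testBit_mod_two_pow]
      simp [hi]
    rw [p8, p8, this 0 (by norm_num), this 1 (by norm_num), this 2 (by norm_num)]
  refine ⟨fun a b => p8_xor w a b, hml, fun a => by show p8 w a = _; rw [CharTwo.neg_eq], hone, p8_zero w, hred, ?_⟩
  -- the codes are different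
  have hinv : ∀ c : Fin 8, (c : ℕ) ≠ 0 → ∃ d : Fin 8, op8.ml c d % 8 = 1 := by decide
  have hne : ∀ c < 8, c ≠ 0 → p8 w c ≠ 0 := by
    intro c hc h0 h1
    obtain ⟨d, hd⟩ := hinv ⟨c, hc⟩ h0
    have h2 := hml c d
    rw [h1, zero_mul, ← hred, hd, hone] at h2
    exact one_ne_zero h2
  let g : Fin 8 → K := fun i => p8 w i
  have hg : Function.Injective g := by
    intro a b hab
    have h1 : p8 w ((a : ℕ) ^^^ b) = 0 := by
      rw [p8_xor]
      have h2 : p8 w a = p8 w b := hab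
      rw [h2, CharTwo.add_self_eq_zero]
    have h2 : (a : ℕ) ^^^ b = 0 := by
      by_contra h3
      exact hne _ (Nat.xor_lt_two_pow (n := 3) a.2 b.2) h3 h1
    exact Fin.ext (Nat.xor_eq_zero_iff.1 h2)
  have hs : Function.Bijective g := by
    rw [Nat.bijective_iff_injective_and_card]
    exact ⟨hg, by rw [Nat.card_fin, hK]⟩
  intro x
  obtain ⟨a, ha⟩ := hs.2 x
  exact ⟨a, a.2, ha⟩

theorem fc4 [Finite K] (hK : Nat.card K = 4) [CharP K 2] {w : K} (hw : w ^ 2 = w + 1) : FC K op4 (p4 w) := by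
  have hml : ∀ a b, p4 w (op4.ml a b) = p4 w a * p4 w b := by
    intro a b
    show p4 w ((bif b.testBit 0 then a else 0) ^^^ (bif b.testBit 1 then x4 a else 0)) = _
    rw [p4_xor, p4_cond, p4_cond, p4_x4 hw]
    rw [show p4 w b = bt 1 (b.testBit 0) + bt w (b.testBit 1) from rfl, bt_one w (b.testBit 1)]
    ring
  have hone : p4 w 1 = 1 := by
    have t0 : (1 : ℕ).testBit 0 = true := by decide
    have t1 : (1 : ℕ).testBit 1 = false := by decide
    rw [p4, t0, t1]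
    simp [bt]
  have hred : ∀ a, p4 w (a % 4) = p4 w a := by
    intro a
    have : ∀ i < 2, (a % 4).testBit i = a.testBit i := by
      intro i hi
      rw [show (4 : ℕ) = 2 ^ 2 by norm_num, Nat.testBit_mod_two_pow]
      simp [hi]
    rw [p4, p4, this 0 (by norm_num), this 1 (by norm_num)]
  refine ⟨fun a b => p4_xor w a b, hml, fun a => by show p4 w a = _; rw [CharTwo.neg_eq], hone, p4_zero w, hred, ?_⟩
  have hinv : ∀ c : Fin 4, (c : ℕ) ≠ 0 → ∃ d : Fin 4, op4.ml c d % 4 = 1 := by decide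
  have hne : ∀ c < 4, c ≠ 0 → p4 w c ≠ 0 := by
    intro c hc h0 h1
    obtain ⟨d, hd⟩ := hinv ⟨c, hc⟩ h0
    have h2 := hml c d
    rw [h1, zero_mul, ← hred, hd, hone] at h2
    exact one_ne_zero h2
  let g : Fin 4 → K := fun i => p4 w i
  have hg : Function.Injective g := by
    intro a b hab
    have h1 : p4 w ((a : ℕ) ^^^ b) = 0 := by
      rw [p4_xor]
      have h2 : p4 w a = p4 w b := hab
      rw [h2, CharTwo.add_self_eq_zero]
    have h2 : (a : ℕ) ^^^ b = 0 := by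
      by_contra h3
      exact hne _ (Nat.xor_lt_two_pow (n := 2) a.2 b.2) h3 h1
    exact Fin.ext (Nat.xor_eq_zero_iff.1 h2)
  have hs : Function.Bijective g := by
    rw [Nat.bijective_iff_injective_and_card]
    exact ⟨hg, by rw [Nat.card_fin, hK]⟩
  intro x
  obtain ⟨a, ha⟩ := hs.2 x
  exact ⟨a, a.2, ha⟩

theorem charTwo_of [Finite K] {k : ℕ} (hk : k ≠ 0) (hK : Nat.card K = 2 ^ k) : CharP K 2 := by
  have := Fintype.ofFinite K
  have h1 : (2 : K) = 0 := by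
    have h2 : ((Fintype.card K : ℕ) : K) = 0 := Nat.cast_card_eq_zero K
    rw [← Nat.card_eq_fintype_card, hK, Nat.cast_pow, Nat.cast_ofNat] at h2
    exact pow_eq_zero_iff hk |>.1 h2
  exact CharTwo.of_one_ne_zero_of_two_eq_zero one_ne_zero h1

theorem exists_w4 [Finite K] (hK : Nat.card K = 4) : ∃ w : K, w ^ 2 = w + 1 := by
  have := Fintype.ofFinite K
  have : CharP K 2 := charTwo_of (k := 2) (by norm_num) (by rw [hK]; norm_num)
  obtain ⟨x, hx0, hx1⟩ : ∃ x : K, x ≠ 0 ∧ x ≠ 1 := by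
    classical
    by_contra hcon
    push Not at hcon
    have h1 : (Finset.univ : Finset K) ⊆ {0, 1} := by
      intro a _
      rw [Finset.mem_insert, Finset.mem_singleton]
      by_cases ha : a = 0
      · exact Or.inl ha
      · exact Or.inr (hcon a ha)
    have h2 := (Finset.card_le_card h1).trans Finset.card_le_two
    rw [Finset.card_univ, ← Nat.card_eq_fintype_card] at h2
    omega
  have h1 : x ^ 3 = 1 := by
    have h2 := FiniteField.pow_card_sub_one_eq_one x hx0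
    rwa [← Nat.card_eq_fintype_card, hK] at h2
  have h3 : (x - 1) * (x ^ 2 + x + 1) = 0 := by linear_combination h1
  have h4 := (mul_eq_zero.1 h3).resolve_left (sub_ne_zero.2 hx1)
  have h5 : (2 : K) = 0 := CharTwo.two_eq_zero
  exact ⟨x, by linear_combination h4 - (x + 1) * h5⟩

theorem exists_w8 [Finite K] (hK : Nat.card K = 8) : ∃ w : K, w ^ 3 = w + 1 := by
  have := Fintype.ofFinite K
  have : CharP K 2 := charTwo_of (k := 3) (by norm_num) (by rw [hK]; norm_num)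
  obtain ⟨x, hx0, hx1⟩ : ∃ x : K, x ≠ 0 ∧ x ≠ 1 := by
    classical
    by_contra hcon
    push Not at hcon
    have h1 : (Finset.univ : Finset K) ⊆ {0, 1} := by
      intro a _
      rw [Finset.mem_insert, Finset.mem_singleton]
      by_cases ha : a = 0
      · exact Or.inl ha
      · exact Or.inr (hcon a ha)
    have h2 := (Finset.card_le_card h1).trans Finset.card_le_two
    rw [Finset.card_univ, ← Nat.card_eq_fintype_card] at h2
    omega
  have h5 : (2 : K) = 0 := CharTwo.two_eq_zero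
  have h1 : x ^ 7 = 1 := by
    have h2 := FiniteField.pow_card_sub_one_eq_one x hx0
    rwa [← Nat.card_eq_fintype_card, hK] at h2
  have h3 : (x - 1) * ((x ^ 3 + x + 1) * (x ^ 3 + x ^ 2 + 1)) = 0 := by
    linear_combination h1 + (x ^ 4 - x ^ 3) * h5
  have h4 := (mul_eq_zero.1 h3).resolve_left (sub_ne_zero.2 hx1)
  rcases mul_eq_zero.1 h4 with h6 | h6
  · exact ⟨x, by linear_combination h6 - (x + 1) * h5⟩
  · refine ⟨x⁻¹, ?_⟩
    have h7 : x * x⁻¹ = 1 := mul_inv_cancel₀ hx0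
    field_simp
    linear_combination h6 * (-1) + (1 + x ^ 2 * 0) * h5

end

/-! ### the tables -/

/-- the table for four elements -/
def T4 : List (ℕ × ℕ × List ℕ) := [(0, 1, [1, 1, 2, 2, 1, 1, 3, 3]), (0, 2, [2, 1, 1, 1, 3, 1, 1, 1]),
  (0, 3, [3, 1, 1, 1, 2, 1, 1, 1]), (1, 0, [1, 1, 1, 1, 1, 1, 1, 1]), (2, 0, [2, 1, 3, 2, 3, 1, 2, 3]),
  (3, 0, [2, 2, 3, 1, 3, 3, 2, 1])]

/-- the table for five elements -/
def T5 : List (ℕ × ℕ × List ℕ) := [(0, 1, [3, 1, 2, 2, 2, 1, 3, 3]), (0, 2, [1, 2, 1, 1, 1, 3, 1, 1]),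
  (1, 0, [1, 1, 4, 1, 1, 1, 4, 1]), (1, 3, [2, 2, 1, 1, 3, 3, 1, 1]), (1, 4, [1, 1, 4, 3, 1, 1, 4, 2]),
  (2, 0, [1, 1, 1, 1, 1, 1, 1, 1]), (3, 1, [1, 3, 1, 2, 1, 2, 1, 3]), (3, 4, [2, 3, 1, 2, 3, 2, 1, 3]),
  (4, 1, [1, 1, 2, 2, 1, 1, 3, 3]), (4, 3, [2, 2, 2, 1, 3, 3, 3, 1])]

/-- the table for seven elements -/
def T7 : List (ℕ × ℕ × List ℕ) := [(0, 1, [3, 2, 4, 1, 5, 4, 2, 1]), (0, 2, [1, 1, 2, 2, 1, 1, 4, 4]),
  (0, 4, [1, 2, 6, 2, 1, 4, 6, 4]), (1, 0, [1, 1, 6, 1, 1, 1, 6, 1]), (1, 3, [1, 4, 1, 1, 1, 2, 1, 1]),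
  (1, 5, [1, 1, 6, 4, 1, 1, 6, 2]), (2, 0, [2, 1, 3, 2, 4, 1, 5, 4]), (2, 5, [2, 5, 2, 1, 4, 3, 4, 1]),
  (2, 6, [1, 4, 3, 3, 1, 2, 5, 5]), (3, 1, [1, 3, 2, 1, 1, 5, 4, 1]), (3, 4, [1, 2, 1, 2, 1, 4, 1, 4]),
  (4, 0, [1, 1, 1, 1, 1, 1, 1, 1]), (4, 3, [1, 2, 3, 1, 1, 4, 5, 1]), (4, 6, [1, 3, 3, 3, 1, 5, 5, 5]),
  (5, 1, [1, 3, 1, 1, 1, 5, 1, 1]), (5, 2, [1, 1, 3, 2, 1, 1, 5, 4]), (6, 2, [1, 5, 1, 3, 1, 3, 1, 5]),
  (6, 4, [1, 2, 2, 2, 1, 4, 4, 4])]

/-- the table for eight elements -/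
def T8 : List (ℕ × ℕ × List ℕ) := [(0, 2, [1, 1, 4, 4, 1, 1, 7, 7]), (0, 4, [1, 3, 4, 5, 1, 6, 7, 2]),
  (0, 6, [1, 2, 1, 3, 1, 5, 1, 6]), (1, 2, [1, 1, 6, 4, 1, 1, 3, 7]), (1, 4, [2, 1, 3, 2, 5, 1, 6, 5]),
  (1, 6, [1, 2, 5, 3, 1, 5, 2, 6]), (2, 0, [1, 1, 1, 1, 1, 1, 1, 1]), (2, 1, [1, 2, 7, 4, 1, 5, 4, 7]),
  (2, 3, [1, 1, 1, 6, 1, 1, 1, 3]), (2, 7, [1, 1, 1, 3, 1, 1, 1, 6]), (3, 2, [1, 7, 1, 2, 1, 4, 1, 5]),
  (3, 4, [1, 3, 1, 5, 1, 6, 1, 2]), (4, 0, [2, 2, 4, 1, 5, 5, 7, 1]), (4, 1, [1, 2, 2, 4, 1, 5, 5, 7]),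
  (4, 3, [1, 3, 2, 2, 1, 6, 5, 5]), (4, 5, [1, 3, 2, 1, 1, 6, 5, 1]), (5, 4, [1, 7, 4, 5, 1, 4, 7, 2]),
  (5, 6, [1, 6, 5, 5, 1, 3, 2, 2]), (6, 0, [2, 4, 2, 4, 5, 7, 5, 7]), (6, 1, [1, 6, 7, 4, 1, 3, 4, 7]),
  (6, 5, [1, 3, 3, 1, 1, 6, 6, 1]), (6, 7, [1, 4, 1, 2, 1, 7, 1, 5]), (7, 2, [1, 7, 3, 2, 1, 4, 6, 5]),
  (7, 6, [1, 4, 5, 4, 1, 7, 2, 7])]


theorem chk4 : op4.chk 0 1 T4 = true := by decide +kernel
theorem chk5 : (opP 5).chk 0 1 T5 = true := by decide +kernel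
theorem chk7 : (opP 7).chk 0 1 T7 = true := by decide +kernel
theorem chk8 : op8.chk 0 2 T8 = true := by decide +kernel

/-- **the product lemma with a fixed class** -/
theorem m3F {K : Type u} [Field K] [Finite K] (hK : Nat.card K = 4 ∨ Nat.card K = 5 ∨ Nat.card K = 7 ∨ Nat.card K = 8) :
    M3F K := by
  rcases hK with h | h | h | h
  · have : CharP K 2 := charTwo_of (k := 2) (by norm_num) (by rw [h]; norm_num)
    obtain ⟨w, hw⟩ := exists_w4 h
    obtain ⟨h1, h2⟩ := sol_of (fc4 h hw) h chk4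
    exact m3F_of_sol (by omega) h1 h2
  · have : Fact (Nat.Prime 5) := ⟨by norm_num⟩
    obtain ⟨h1, h2⟩ := sol_of (fc_prime h) h chk5
    exact m3F_of_sol (by omega) h1 h2
  · have : Fact (Nat.Prime 7) := ⟨by norm_num⟩
    obtain ⟨h1, h2⟩ := sol_of (fc_prime h) h chk7
    exact m3F_of_sol (by omega) h1 h2
  · have : CharP K 2 := charTwo_of (k := 3) (by norm_num) (by rw [h]; norm_num)
    obtain ⟨w, hw⟩ := exists_w8 h
    obtain ⟨h1, h2⟩ := sol_of (fc8 h hw) h chk8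
    exact m3F_of_sol (by omega) h1 h2

end Cfsg.Agent.H374.TC
end

-- part: H374/TC/RowEF
section
/-!
# Two fixed classes for `E₆(q)`, `F₄(q)`, `q ∈ {4, 5, 7, 8}` (helper374, S4173)

The frame of helper194 (`sg t * φ X`, `X ∈ SL₃(q)` irreducible) with a fixed characteristic polynomial `M3F`.
-/

set_option autoImplicit false
set_option linter.unusedSectionVars false

namespace Cfsg.Agent.H374.TC

open Cfsg.Lie Cfsg.Agent.TitsThree.KExcRT Cfsg.Agent.ChevalleyStructure Cfsg.Agent.Nodes.RGDChev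
open CoxeterSystem Cfsg.Agent.ChevalleyStructure.CoxeterGeom Cfsg.Agent.Tits.Roots Cfsg.Agent.Tits.Core
  Cfsg.Agent.Nodes.Reps Cfsg.Agent.Nodes.BNOf Cfsg.Agent.Nodes.RGDLib Cfsg.Agent.Nodes.Bruhat
  Cfsg.Agent.Nodes.OppDec Cfsg.Agent.Nodes.LeviDec Cfsg.Agent.Nodes.KindChev Cfsg.Agent.Nodes.ChevCls
  Cfsg.Agent.OddHalf.NI.ModelChev
  Cfsg.Agent.H162.GaussDec Cfsg.Agent.H162.GaussLevi Cfsg.Agent.H162.GaussSL Cfsg.Agent.H162.GaussMain
  Cfsg.Agent.H162.GaussExc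
  Cfsg.Agent.H928.Ore.Frame Cfsg.Agent.H928.Ore.Fix
open Cfsg.Agent.ChevalleyStructure.Elts
  Cfsg.Agent.ChevalleyStructure.RootVec Cfsg.Agent.ChevalleyStructure.NPerm
  Cfsg.Agent.ChevalleyStructure.CoxeterGeomTypes Cfsg.Agent.KFacts.RgdChevCoord
open Cfsg.Agent.H194.Ore Cfsg.Agent.H122.TwoC Cfsg.Agent.H129.TorusChar

universe u

section

variable {D : ChevalleyDatum} {l : ℕ} {M : CoxeterMatrix (Fin l)} (hp : IsType D l M) {K : Type u} [Field K]
  {J : List (Fin l)} {m : Fin l → ℤ} {γ : Fin l → Fin l} {ω ω₁ : List (Fin l)} {r : Fin 3 → Fin 3 → ℕ} {ε : ℤ}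
  {i j : Fin l} (hε : ε * ε = 1) (T : Tab D l J m γ ω ω₁ r ε i j) (t : Kˣ)
  {φ : Matrix.SpecialLinearGroup (Fin 3) K →* ↥(D.group K)}
  (hφ : ∀ a b (hab : a ≠ b) c, φ (Matrix.SpecialLinearGroup.transvection hab c) = xc hp (vec D l (r a b)) ((ε : K) * c))

include T hφ hε

/-- the classes of `sg φ X`, `sg⁻¹ φ X` -/
theorem cls [Finite K] (p : ℕ) [Fact p.Prime] [CharP K p] (hZ : Subgroup.center ↥(D.group K) = ⊥) {d : ℕ}
    {B : Fin l → Fin l → ℤ} (hB : InvC D l d B) (hd : Odd d) {X₀ X : Matrix.SpecialLinearGroup (Fin 3) K}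
    (h0 : Irreducible (X₀ : Matrix (Fin 3) (Fin 3) K).charpoly)
    (h : (X : Matrix (Fin 3) (Fin 3) K).charpoly = (X₀ : Matrix (Fin 3) (Fin 3) K).charpoly ∨
        (X : Matrix (Fin 3) (Fin 3) K).charpoly =
          ((X₀⁻¹ : Matrix.SpecialLinearGroup (Fin 3) K) : Matrix (Fin 3) (Fin 3) K).charpoly) :
    Irreducible (X : Matrix (Fin 3) (Fin 3) K).charpoly ∧
      (∃ y, sg hp m t * φ X = y * (sg hp m t * φ X₀) * y⁻¹) ∧
      ∃ y, (sg hp m t)⁻¹ * φ X = y * (sg hp m t * φ X₀) * y⁻¹ := by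
  have hi : Irreducible ((X₀⁻¹ : Matrix.SpecialLinearGroup (Fin 3) K) : Matrix (Fin 3) (Fin 3) K).charpoly := by
    rw [Cfsg.Agent.H126.M3.coe_inv']
    exact Cfsg.Agent.H126.M3.irr_inv h0 (Matrix.mul_nonsing_inv _ (by rw [X₀.2]; exact isUnit_one))
  have hX : Irreducible (X : Matrix (Fin 3) (Fin 3) K).charpoly := by
    rcases h with h | h
    · rw [h]; exact h0
    · rw [h]; exact hi
  have e3 := _root_.Cfsg.Agent.H194.Ore.wd_sg hp t p hZ T.wm
  have e4 := T.wd_phi hp hφ X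
  have hw : wd hp K ω₁ * (sg hp m t * φ X) * (wd hp K ω₁)⁻¹ = (sg hp m t)⁻¹ * φ X := by
    calc wd hp K ω₁ * (sg hp m t * φ X) * (wd hp K ω₁)⁻¹
        = (wd hp K ω₁ * sg hp m t * (wd hp K ω₁)⁻¹) * (wd hp K ω₁ * φ X * (wd hp K ω₁)⁻¹) := by group
      _ = _ := by rw [e3, e4]
  -- one of the two is enough
  have key : (∃ y, sg hp m t * φ X = y * (sg hp m t * φ X₀) * y⁻¹) ∨
      ∃ y, (sg hp m t)⁻¹ * φ X = y * (sg hp m t * φ X₀) * y⁻¹ := by
    rcases h with h | h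
    · left
      obtain ⟨g, hg⟩ := Cfsg.Agent.H150.MF.exists_conj (Cfsg.Agent.H150.MF.cls_of_irreducible h0)
        (Cfsg.Agent.H150.MF.cls_of_irreducible hX) h.symm
      refine ⟨φ g, ?_⟩
      have e2 := T.comm hp t hφ g
      calc sg hp m t * φ X = (sg hp m t * φ g) * φ X₀ * (φ g)⁻¹ := by
            rw [hg, map_mul, map_mul, map_inv]; group
        _ = (φ g * sg hp m t) * φ X₀ * (φ g)⁻¹ := by rw [e2]
        _ = _ := by group
    · right
      obtain ⟨g, hg⟩ := Cfsg.Agent.H150.MF.exists_conj (Cfsg.Agent.H150.MF.cls_of_irreducible hi)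
        (Cfsg.Agent.H150.MF.cls_of_irreducible hX) h.symm
      obtain ⟨y, -, hy2⟩ := T.real hp t hφ hε p hB hd h0
      refine ⟨φ g * y, ?_⟩
      have e2 := T.comm hp t hφ g
      have e5 : (sg hp m t)⁻¹ * φ g = φ g * (sg hp m t)⁻¹ := by
        calc (sg hp m t)⁻¹ * φ g = (sg hp m t)⁻¹ * (φ g * sg hp m t) * (sg hp m t)⁻¹ := by group
          _ = _ := by rw [← e2]; group
      have e6 : (sg hp m t)⁻¹ * (φ X₀)⁻¹ = (sg hp m t * φ X₀)⁻¹ := by
        rw [T.comm hp t hφ X₀, mul_inv_rev]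
      calc (sg hp m t)⁻¹ * φ X = ((sg hp m t)⁻¹ * φ g) * (φ X₀)⁻¹ * (φ g)⁻¹ := by
            rw [hg, map_mul, map_mul, map_inv, map_inv]; group
        _ = φ g * ((sg hp m t)⁻¹ * (φ X₀)⁻¹) * (φ g)⁻¹ := by rw [e5]; group
        _ = φ g * (y * (sg hp m t * φ X₀) * y⁻¹) * (φ g)⁻¹ := by rw [e6, hy2]
        _ = _ := by group
  refine ⟨hX, ?_⟩
  rcases key with ⟨y, hy⟩ | ⟨y, hy⟩
  · refine ⟨⟨y, hy⟩, wd hp K ω₁ * y, ?_⟩
    rw [← hw, hy]
    group
  · refine ⟨⟨(wd hp K ω₁)⁻¹ * y, ?_⟩, y, hy⟩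
    rw [← hw] at hy
    calc sg hp m t * φ X = (wd hp K ω₁)⁻¹ * (wd hp K ω₁ * (sg hp m t * φ X) * (wd hp K ω₁)⁻¹) * wd hp K ω₁ := by group
      _ = (wd hp K ω₁)⁻¹ * (y * (sg hp m t * φ X₀) * y⁻¹) * wd hp K ω₁ := by rw [hy]
      _ = _ := by group

end

/-- **The row with fixed classes.** -/
theorem tw_row {D : ChevalleyDatum} {l : ℕ} {M : CoxeterMatrix (Fin l)} (hp : IsType D l M) {K : Type u} [Field K]
    [Finite K] (hK : 4 ≤ Nat.card K) {J : List (Fin l)} {m : Fin l → ℤ} {γ : Fin l → Fin l} {ω ω₁ : List (Fin l)}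
    {r : Fin 3 → Fin 3 → ℕ} {ε : ℤ} (hε : ε * ε = 1) {i j : Fin l} (T : Tab D l J m γ ω ω₁ r ε i j)
    (hS : IsSimpleGroup ↥(D.group K) ∧ ¬ IsMulCommutative ↥(D.group K))
    (hM : ∀ J : Finset (Fin l), J = ∅ ∨ J = Finset.univ ∨ ∃ a ∈ J, ∃ b, b ∉ J ∧ M a b ≠ 2)
    {d : ℕ} {B : Fin l → Fin l → ℤ} (hB : InvC D l d B) (hd : Odd d) (hm3 : M3F K) : Tw ↥(D.group K) := by
  obtain ⟨p, hpc⟩ := CharP.exists K
  have : Fact p.Prime := ⟨(CharP.char_is_prime_or_zero K p).resolve_right (CharP.char_ne_zero_of_finite K p)⟩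
  have := finite_W hp M.toCoxeterSystem
  have hZ := Cfsg.Agent.Nodes.ChevChart.center_eq_bot hS
  have hl : 0 < l := i.pos
  obtain ⟨φ, hφ⟩ := Cfsg.Agent.H162.GaussExcMain.exists_hom_D hp (K := K) hε T.ra T.rb T.rc T.rn
  -- the unit
  obtain ⟨t, ht1, ht2⟩ : ∃ t : Kˣ, t ≠ 1 ∧ t * t ≠ 1 := by
    by_contra hcon
    push Not at hcon
    have h1 : ∀ x : K, x = 0 ∨ x = 1 ∨ x = -1 := by
      intro x
      by_cases hx : x = 0
      · exact .inl hx
      · right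
        by_cases h1 : x = 1
        · exact .inl h1
        · right
          have h2 := hcon (Units.mk0 x hx) (fun h => h1 (by
            have := congrArg Units.val h
            simpa using this))
          have h3 : x * x = 1 := by
            have := congrArg Units.val h2
            simpa only [_root_.Units.val_mul, _root_.Units.val_mk0, _root_.Units.val_one] using this
          rcases mul_self_eq_one_iff.1 h3 with h4 | h4
          · exact absurd h4 h1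
          · exact h4
    classical
    have := Fintype.ofFinite K
    have h2 : (Finset.univ : Finset K) ⊆ {0, 1, -1} := by
      intro x _
      simp only [Finset.mem_insert, Finset.mem_singleton]
      exact h1 x
    have h3 := Finset.card_le_card h2
    rw [Finset.card_univ, ← Nat.card_eq_fintype_card] at h3
    have h4 : ({0, 1, -1} : Finset K).card ≤ 3 := Finset.card_le_three
    omega
  obtain ⟨X₀, h0, hlu⟩ := hm3
  refine tw_of_levi hp hl hS hM (J := {k | k ∈ J}) (a := sg hp m t * φ X₀) (b := sg hp m t * φ X₀)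
    fun v hv u hu => ?_
  obtain ⟨L, hL, rfl⟩ := T.lo hp hφ hε hv
  obtain ⟨U, hU, rfl⟩ := T.up hp hφ hε hu
  obtain ⟨X, Y, hXY, hcX, hcY⟩ := hlu L hL U hU
  obtain ⟨hX, hX1, -⟩ := cls hp hε T t hφ p hZ hB hd h0 hcX
  obtain ⟨hY, -, hY2⟩ := cls hp hε T t hφ p hZ hB hd h0 hcY
  have hsT : sg hp m t ∈ LJ M.toCoxeterSystem hp.isCartan (TT D K) (XX D l K) {k | k ∈ J} := T_le_LJ (sg_mem hp m t)
  have hti : (sg hp m t)⁻¹ = sg hp m t⁻¹ := by
    refine inv_eq_of_mul_eq_one_right ?_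
    unfold sg
    rw [← map_mul]
    convert map_one (th hp)
    funext k
    rw [Pi.mul_apply, inv_zpow, mul_inv_cancel]
    rfl
  refine ⟨sg hp m t * φ X, (sg hp m t)⁻¹ * φ Y, ?_, ⟨mul_mem hsT (T.range hp hφ X),
    mul_mem (inv_mem hsT) (T.range hp hφ Y), (T.nf hp t hφ hε ht1 ht2 hX).2, ?_⟩, hX1, hY2⟩
  · rw [← map_mul, hXY, map_mul]
    calc φ X * φ Y = (sg hp m t)⁻¹ * (sg hp m t * φ X) * φ Y := by group
      _ = (sg hp m t)⁻¹ * (φ X * sg hp m t) * φ Y := by rw [T.comm hp t hφ]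
      _ = (sg hp m t)⁻¹ * (φ X * (sg hp m t * φ Y)) := by group
      _ = (sg hp m t)⁻¹ * (φ X * (φ Y * sg hp m t)) := by rw [T.comm hp t hφ Y]
      _ = (sg hp m t)⁻¹ * (φ (X * Y) * sg hp m t) := by rw [map_mul]; group
      _ = φ (X * Y) := by rw [← T.comm hp t hφ]; group
      _ = φ X * φ Y := map_mul _ _ _
      _ = (φ X * sg hp m t) * ((sg hp m t)⁻¹ * φ Y) := by group
      _ = _ := by rw [← T.comm hp t hφ]
  · rw [hti]
    exact (T.nf hp t⁻¹ hφ hε (by rwa [ne_eq, inv_eq_one]) (by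
      rw [← mul_inv, ne_eq, inv_eq_one]
      exact ht2) hY).1

/-- **`F₄(q)`, `q ∈ {4, 5, 7, 8}`** -/
theorem tw_F4 {K : Type u} [Field K] [Finite K]
    (hK : Nat.card K = 4 ∨ Nat.card K = 5 ∨ Nat.card K = 7 ∨ Nat.card K = 8) : Tw ↥(chevF4.group K) :=
  tw_row Cfsg.Agent.Nodes.KindF.isType (by omega) (by norm_num) tabL (Cfsg.Agent.S1054.result chevF4 (by simp))
    Cfsg.Agent.Nodes.ChevChart.irrF Cfsg.Agent.H129.TorusChar.invC_F4 (by decide) (m3F hK)

end Cfsg.Agent.H374.TC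
end

-- part: H374/TC/FThree
section
/-!
# Two fixed classes for `F₄(3)` (helper374, S4173)

`SL₃(3)` with a fixed irreducible characteristic polynomial (`M3F`, by a table of the 729 products `L U`), `C` of order 6 in
`SL₂(3)`: the frame of `H374.Ore.F4`.
-/

set_option autoImplicit false
set_option linter.unusedSectionVars false

namespace Cfsg.Agent.H374.TC

open Matrix Polynomial Cfsg.Agent.H126.M3 Cfsg.Agent.H374.Ore.Sl3 Cfsg.Agent.H162.GaussSL

universe u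

/-- the characteristic polynomial is `x³ + 2 x - 1` or its dual -/
def fx (e : ℕ → ℕ) : Bool :=
  (tn e % 3 == 0 % 3 && sn 2 e % 3 == 2 % 3) || (tn e % 3 == 2 % 3 && sn 2 e % 3 == 0 % 3)

/-- the digits of entry `i` -/
def dgT (T i : ℕ) : ℕ → ℕ := dg 3 (T / (3 ^ 18) ^ i % 3 ^ 18)

/-- the test for number `i` of the table `T` -/
def tstF (T i : ℕ) : Bool :=
  tst 3 2 (dg 3 i 0) (dg 3 i 1) (dg 3 i 2) (dg 3 i 3) (dg 3 i 4) (dg 3 i 5) (dgT T i) && fx (dgT T i) &&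
    fx (fun n => dgT T i (9 + n))

/-- the table for `SL_3(3)` with a fixed characteristic polynomial -/
def T3F : ℕ :=
  0x382e1ffd807e57b71f4a161916dc957b8ebbec9ce2fa4f614adb357d93d174bab0b91ceac612fb29d3a93b5622ec7b5e366dedfaeb953abdddb5112cd57403ecdf7014f486e7c4bca153132ee125836079ab750a175a1af6378b5345598c2ed6e84034c2a1b00cc916f95bfb2541fe4f824d51c953b2e443ef2e5dacf44c1fcc12df474f615e263439d05e21158218386cd90f0b9adf79d3d6dbbc1023de44bd62220cfcd07f7bbbd3686a9734107756cfb4d77f63c4bf41823203880cc36c651ac69247f6872042c00180acb3f07e7e2a94204a323b0ba929e49c7fef4f9cbaa72200027fc59df4374cee6431b53662dc0af7c643db6b60c6ecd79d155e84a5ec776f0dd605c8254a8e59f1a1b16320d92bbd83e2f44bf967dab72716cc87d562254476b2753a59003bb96b729ce5453639d28f7250f73fadbe0bd6e0f7b7e187b685bfeed49895c70396676b66dd2fb1978d05e630672244ea54fac73c5d5a8f045e67961f627679e7a88fa35b45b8b71dd42b033b3d237e320b9d85b58900e37628abeeb236d2a597a20a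834347e9fb5329a93651ea3b2236b483b592deba77e23f5cbc2429dc53758699f4b48d8c5b66a8d8a96854c8e05b7f47511325f148856af78f88020b3cabeb3ae55d1e872c41c0286a4dd4b271db14c67544e9fd6ee0c7b2bac71b67d689d3ca2e9f0ff1e45ccf7d94367c2e12547a466e510f3343f29973fad8f46709236f84da370efc958d83b8ab6088fcc2a7c92c101ce35aafa3734899a54035dfd2dade2777f8d7a4985750c6a777a4756359ee30de41990c3a913bbf73af6f93d4fcd29e185b3bec0f2f2f0436d65ed259ba41fb681f94236dea553b28261e89d90aca383e3f6a8dfc460fb5c02fe42f0a846c23e28e82bb2f88e173e115b9df4486ec3a77c5f9a6bbe8b0fd3eabc494e246f65668a646b1ff2896e371dc84235a1f59c0ad1b6ae97001990aed95f3f726910990a864bfdcc3cf7ec3dc30f8cea5f071567bed7ea93fde61f3b49ef002bb6f113c088424c3eccf40e4c41b2f22b47aadcaab65d9d46b89be6ea311f61055e5530d70192819e5934f69379eb96bae3883666e7eb5e76b0af98fc66150a808c6629694eda7b030dd13b4545f171ccb6f7d3857143c2ef5c900c8db17057d782483d00924496d4f352fcc94d10f7f85efe672265ad5cb055ab9a6d26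156845a502a43180b1331b767840da3d7032489063d4f9d4d9b01e4ae37a26043d639a77ef855b4d305e8351a42f88e848eede388e0b7feede2b445ca3ccc34f7cd4621427e052ddf4e0f707420c98c9a2ffc4e1d9b912e5f8d785f782f944e2b8c6894303d0032cc9d7d6ffd489eb9ffec5dc002f96945758bb2e6af87907d9d1f6b5beb387e47fa7ad49d870ad6be9a682a2ccbb52008baf317d1c34ca916a527b7842f59698181a46437c2207cd74af4d68d836a8bc73b2b945ebeb97d73ce427e91621862dd632b22a85c1b5154b01f7c72d80fd4e0f55ee948421118ce4f039755c02e1309356006c2da25ccce8535007bd44f68ba3fcac35a26ceff319ca6b97ddff372ec9cd23dad6e9940a6a489a270dff8ec2f532de7549a06f498fccc1417426070cedc114923f18c2e6ef15069666dcfad7fe86f2450d10d5d9dfbb62aef3f55f1f23651e1db528490d7afad516fc72241bd703e8d93ccc70ced234752d75754311c9040ade5174041849317d446e41e6068dab16817de4d11117489cc727f6488c4a03cea34010a8d4079f53df0139ead011fcc3bb43a000125d3073ab25f19209627308d61a947fc73fed5faa9cedd82145764faf1fb206a4390d2fdf8e5474f719ea744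07c180a1edc90ff8d9a82233b66b9ea42e8242af20ed8ac8965e2e81ec3c384213e05cef31fec76f46b2cd62125ee5a654801dd7e785eebbfa6ae5c055433852f0e24c030b3894de6e0dbd02780f60f99149c8ab97eae8f1bc509229fc7b596c8a505e89fdbc832c75a720424891d15f78dd2e38fca5c07d8980b713e6a49d0490ca27e921b627dcc8b059dd233119b4e461b20a8c6d6d38a78c14d11885126d5603df071167331412a2d06d8963d10bd1ded76be8ed0e7b5c4d166b1e42bd91b205135696b34dd2ad861504e824e8bcb3a48eaf2e3bea64a0a6d5f9036fd9afbbffeccb572c82b870a9c94280f2edd63889cdca224b9e72764f5ac0bf0107a051b4228b462c7a3137ac91dcaa8606863e980f6da3a35a197ebc69b6d0b87a89511a498464c245fd319ce238879a3cecf0b2b1a92654e9460caff27c330bc5599734c8daa6c2e02c25b5e7ae14ffbb0f933bdbde4284bd4c0899e47ddf67ac14118d828030ba9fca5dcc52e173022fd85af9e34af25e2c8da23651c0a3df7d6ca5b7c8a243519f505eea7118ceef0bf1c031ac6f1cafc7e4156abab8080562403d5747d3f26c002d9e040412af3bb07a5e56aeabf1dcb54cad379de290470f602fe78f6d8298e447718d1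9f8ff3a951ee630181338a1e8a3059e99aaee6afca2b74ef17473af1bdbf1bc6f19174dda69e567f222680ca72c369b71966197a8b3d8657ab44364d628e3bce386333e499c485a83e857014404d6f075bdb37ea81b56e58dd4bd7b22aa88cf38cc2bd8f12ff5b0abeb6852956faf3e2542fc450fc6a86d05a5721fdb4392aa59ad3349721f390535bf46e6017f8d2ffd032874847825cfc73f7b26fdba909ffbd2b7bff1a6df17eae5a8e0ca035c312c02772e84dda7aed8530fc7e360c8551517e7db58ddd6808d76012fb8d7f969c09acb964d4d342976f6a21e45eb33053784842218a4e23cd41f1706df3c1c430e1361bb4467fa2cb95f35c87756c0f2face32302c388853c156dc0b8a6c91b127fe639aeaddf9c4ad7db9ecd04387aca722e7a8a95a265b345252eb7edb1a7b7909fb11caee143d001e484c1520eede11709876c67b4c051b532a568c22bb9026bde98ad475245ea28c1e7dfb037072a5d27d1759de193dccc483402edc40ee04b93281d5de55f31d5cd3c47e5d27211267758b6c2f36800a2e8734cc0c23818e7f2d04f6f71c108ffd783eea8c40869314ae5c33fe0eb6426b9c22ff599bcb6bc6cee7d30636926b8b3340d6408c46fab931df572bf16c504b78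c5b52761723b082b32ce48b441c8b5dc90ca3a5c63906f55f852ba88ee69be75522111013f1b26c02f4f6e6229ef2dc018bc183e8e2eb8d17636298f782f1893acec8266113e026d2afdb3f8bcc86a1018cc0204fc3c50c57906544a3785112884627052bfb7703ca20d7cad8a2c845ab158b5a3945de79dec3ac0f5242fc0db1fd1c0be32ff3282e61527976c55d772651207d3f3390bae62e87f9996a10a654cc133b97e00282b20a516b7c8d3296db4e48eea50b12d25d9a8ef24a39544b3690a128ae708bb09b85e335931ba542ff08d7ad23ec10d5fe6e390749c01b24781d8ddadd5082eae67da3fdbefcb37d5d12aae9f89d4ffcc2f135f561f96d6901f513703f25bb5899371da5c9f081d1da4579f0afbc09e02d7b956a02e52c1f425b358137cfaa801a354c347c94e301a4dfc21aa1c20c29f0f3081b3cb4b5f08b01bd444888bfdf3b5e274ab0a8e11262317bfdc1bd1c4255dc54d0036089ce882a21d48754a87b88a4e23b4779017c046e2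

theorem all3F : (List.range 729).all (tstF T3F) = true := by decide +kernel

section

variable {K : Type*} [Field K] [CharP K 3]

theorem two_eq : ((2 : ℕ) : K) = -1 := by
  have h : ((3 : ℕ) : K) = 0 := CharP.cast_eq_zero K 3
  push_cast at h ⊢
  linear_combination h

theorem charpoly_fx {e : ℕ → ℕ} (hd : (_root_.Cfsg.Agent.H374.Ore.Sl3.mt K e).det = 1) (h : fx e = true) :
    (_root_.Cfsg.Agent.H374.Ore.Sl3.mt K e).charpoly = cu (0 : K) 2 ∨ (_root_.Cfsg.Agent.H374.Ore.Sl3.mt K e).charpoly = cu (2 : K) 0 := by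
  have h0 : (_root_.Cfsg.Agent.H374.Ore.Sl3.mt K e).charpoly = cu (tr3 (_root_.Cfsg.Agent.H374.Ore.Sl3.mt K e)) (ms3 (_root_.Cfsg.Agent.H374.Ore.Sl3.mt K e)) := by
    rw [charpoly3, hd, cu]
  rw [fx, Bool.or_eq_true, Bool.and_eq_true, Bool.and_eq_true, beq_iff_eq, beq_iff_eq, beq_iff_eq, beq_iff_eq] at h
  rw [h0, tr3_mt, ms3_mt (K := K) (m := 2) two_eq]
  rcases h with ⟨h1, h2⟩ | ⟨h1, h2⟩
  · left
    rw [cast_eq (K := K) h1, cast_eq (K := K) h2, Nat.cast_zero, Nat.cast_ofNat]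
  · right
    rw [cast_eq (K := K) h1, cast_eq (K := K) h2, Nat.cast_zero, Nat.cast_ofNat]

theorem soundF {a b c x y z : ℕ} {e : ℕ → ℕ} (h : tst 3 2 a b c x y z e = true) (h1 : fx e = true)
    (h2 : fx (fun n => e (9 + n)) = true) : GoodF (0 : K) 2
      !![1, (x : K), (y : K); (a : K), a * x + 1, a * y + z; (b : K), b * x + c, b * y + c * z + 1] := by
  have hm : ((2 : ℕ) : K) = -1 := two_eq
  simp only [tst, Bool.and_eq_true, Bool.or_eq_true, beq_iff_eq, bne_iff_ne, List.all_eq_true, List.mem_range] at h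
  obtain ⟨⟨⟨⟨⟨⟨⟨⟨⟨⟨⟨⟨⟨h00, h01⟩, h02⟩, h10⟩, h11⟩, h12⟩, h20⟩, h21⟩, h22⟩, hdA⟩, hdB⟩, -⟩, -⟩, -⟩ := h
  have dA : (_root_.Cfsg.Agent.H374.Ore.Sl3.mt K e).det = 1 := by
    have := cast_eq (K := K) hdA
    push_cast at this
    push_cast at hm
    rw [Matrix.det_fin_three]
    simp only [Cfsg.Agent.H374.Ore.Sl3.mt]
    norm_num only [_root_.Fin.coe_ofNat_eq_mod, _root_.MulZeroClass.mul_zero, _root_.add_zero, _root_.mul_one, _root_.zero_add]
    linear_combination this - (e 0 * e 5 * e 7 + e 1 * e 3 * e 8 + e 2 * e 4 * e 6) * hm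
  have dB : (_root_.Cfsg.Agent.H374.Ore.Sl3.mt K fun n => e (9 + n)).det = 1 := by
    have := cast_eq (K := K) hdB
    push_cast at this
    push_cast at hm
    rw [Matrix.det_fin_three]
    simp only [Cfsg.Agent.H374.Ore.Sl3.mt]
    norm_num only [_root_.Fin.coe_ofNat_eq_mod, _root_.MulZeroClass.mul_zero, _root_.add_zero, _root_.mul_one, _root_.zero_add]
    linear_combination this - (e 9 * e 14 * e 16 + e 10 * e 12 * e 17 + e 11 * e 13 * e 15) * hm
  have g00 := cast_eq (K := K) h00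
  have g01 := cast_eq (K := K) h01
  have g02 := cast_eq (K := K) h02
  have g10 := cast_eq (K := K) h10
  have g11 := cast_eq (K := K) h11
  have g12 := cast_eq (K := K) h12
  have g20 := cast_eq (K := K) h20
  have g21 := cast_eq (K := K) h21
  have g22 := cast_eq (K := K) h22
  push_cast at g00 g01 g02 g10 g11 g12 g20 g21 g22
  have hmul := mul_mt e (fun n => e (9 + n)) g00 g01 g02 g10 g11 g12 g20 g21 g22
  exact ⟨_root_.Cfsg.Agent.H374.Ore.Sl3.mt K e, _root_.Cfsg.Agent.H374.Ore.Sl3.mt K fun n => e (9 + n), dA, dB, hmul.symm, charpoly_fx dA h1, charpoly_fx dB h2⟩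

end

/-- **`SL₃(3)`** -/
theorem m3F_three {K : Type u} [Field K] [Finite K] (hK : Nat.card K = 3) : M3F K := by
  have : Fact (Nat.Prime 3) := ⟨Nat.prime_three⟩
  obtain ⟨hch, hall⟩ := exists_cast hK
  have h3 : ((3 : ℕ) : K) = 0 := CharP.cast_eq_zero K 3
  push_cast at h3
  refine M3F.of (s := 0) (r := 2) ?_ ?_
  · intro x hx
    obtain ⟨n, hn, rfl⟩ := hall x
    have h1 : n = 0 ∨ n = 1 ∨ n = 2 := by omega
    rcases h1 with rfl | rfl | rfl
    · norm_num at hx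
    · push_cast at hx
      exact one_ne_zero (α := K) (by linear_combination (-1 : K) * hx + h3)
    · push_cast at hx
      exact one_ne_zero (α := K) (by linear_combination (-1 : K) * hx + 4 * h3)
  · intro L hL U hU
    obtain ⟨a, ha, ea⟩ := hall (L.1 1 0)
    obtain ⟨b, hb, eb⟩ := hall (L.1 2 0)
    obtain ⟨c, hc, ec⟩ := hall (L.1 2 1)
    obtain ⟨x, hx, ex⟩ := hall (U.1 0 1)
    obtain ⟨y, hy, ey⟩ := hall (U.1 0 2)
    obtain ⟨z, hz, ez⟩ := hall (U.1 1 2)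
    obtain ⟨i, hi, h0, h1, h2, h3, h4, h5⟩ := enc (.inr rfl) ha hb hc hx hy hz
    have h := all3F
    rw [List.all_eq_true] at h
    have h6 := h i (List.mem_range.2 (by norm_num at hi; exact hi))
    rw [tstF, h0, h1, h2, h3, h4, h5, Bool.and_eq_true, Bool.and_eq_true] at h6
    have h7 := soundF (K := K) h6.1.1 h6.1.2 h6.2
    rw [ea, eb, ec, ex, ey, ez] at h7
    change GoodF 0 2 (L * U).1
    rw [mul_LU hL hU]
    exact h7

/-! ### `F₄(3)` -/

section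

open CoxeterSystem Cfsg.Agent.ChevalleyStructure.CoxeterGeom Cfsg.Agent.Tits.Roots Cfsg.Agent.Tits.Core
  Cfsg.Agent.Nodes.Reps Cfsg.Agent.Nodes.BNOf Cfsg.Agent.Nodes.RGDLib Cfsg.Agent.Nodes.Bruhat
  Cfsg.Agent.Nodes.OppDec Cfsg.Agent.Nodes.LeviDec Cfsg.Agent.Nodes.KindChev Cfsg.Agent.Nodes.ChevCls
  Cfsg.Agent.OddHalf.NI.ModelChev
  Cfsg.Agent.H162.GaussDec Cfsg.Agent.H162.GaussLevi
  Cfsg.Agent.H162.GaussMain Cfsg.Agent.H162.GaussExc Cfsg.Agent.H162.GaussExcMain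
open Cfsg.Lie Cfsg.Agent.ChevalleyStructure Cfsg.Agent.ChevalleyStructure.Elts
  Cfsg.Agent.ChevalleyStructure.RootVec Cfsg.Agent.ChevalleyStructure.NPerm
  Cfsg.Agent.ChevalleyStructure.CoxeterGeomTypes Cfsg.Agent.Nodes.RGDChev Cfsg.Agent.KFacts.RgdChevCoord
open Cfsg.Agent.H903.Ore.F4Conj Cfsg.Agent.H928.Ore.Frame Cfsg.Agent.H928.Ore.Fix Cfsg.Agent.H374.Ore.F4
  Cfsg.Agent.H122.TwoC
open scoped MatrixGroups

/-- a nonscalar element with cube `-1` has trace one -/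
theorem trace_of_cube {K : Type u} [Field K] {C : SL(2, K)} (hn : NS C) (h : C ^ 3 = -1) : C.1.trace = 1 := by
  obtain ⟨a, b, c, d, hC⟩ : ∃ a b c d : K, C.1 = !![a, b; c, d] :=
    ⟨C.1 0 0, C.1 0 1, C.1 1 0, C.1 1 1, by ext i j; fin_cases i <;> fin_cases j <;> rfl⟩
  have hd : a * d - b * c = 1 := by
    have := C.2
    rwa [hC, Matrix.det_fin_two_of] at this
  have h3 : C.1 * C.1 * C.1 = -1 := by
    have h1 := congrArg (fun x : SL(2, K) => x.1) h
    simp only [pow_succ, pow_zero, one_mul] at h1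
    exact h1
  rw [hC, Matrix.mul_fin_two, Matrix.mul_fin_two] at h3
  have e00 := congrFun (congrFun h3 0) 0
  have e01 := congrFun (congrFun h3 0) 1
  have e10 := congrFun (congrFun h3 1) 0
  have e11 := congrFun (congrFun h3 1) 1
  simp only [_root_.Fin.isValue, _root_.Matrix.of_apply, _root_.Matrix.cons_val', _root_.Matrix.cons_val_zero, _root_.Matrix.cons_val_fin_one, _root_.Matrix.neg_apply, _root_.Matrix.one_apply_eq, _root_.Matrix.cons_val_one, _root_.ne_eq, _root_.zero_ne_one, _root_.not_false_eq_true, _root_.Matrix.one_apply_ne, _root_.neg_zero, _root_.one_ne_zero] at e00 e01 e10 e11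
  rw [hC, Matrix.trace_fin_two_of]
  have k1 : ((a + d) ^ 2 - 1) * b = 0 := by linear_combination e01 + b * hd
  have k2 : ((a + d) ^ 2 - 1) * c = 0 := by linear_combination e10 + c * hd
  have k3 : ((a + d) ^ 2 - 1) * (a - d) = 0 := by linear_combination e00 - e11 + (a - d) * hd
  have k4 : (a + d) ^ 2 - 1 = 0 := by
    rcases hn with h | h | h
    · rw [hC] at h
      exact (mul_eq_zero.1 k2).resolve_right h
    · rw [hC] at h
      exact (mul_eq_zero.1 k1).resolve_right h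
    · rw [hC] at h
      exact (mul_eq_zero.1 k3).resolve_right (sub_ne_zero.2 h)
  -- `C³ = (t² - 1) C - t`
  have k5 : a * ((a + d) ^ 2 - 1) - (a + d) = -1 := by linear_combination e00 + (a + (a + d)) * hd
  rw [k4, mul_zero, zero_sub] at k5
  linear_combination (-1 : K) * k5

/-- **`F₄(3)`** -/
theorem tw_F4_three {K : Type u} [Field K] [Finite K] (hK : Nat.card K = 3) : Tw ↥(chevF4.group K) := by
  have : Fact (Nat.Prime 3) := ⟨Nat.prime_three⟩
  obtain ⟨hch, hall⟩ := exists_cast hK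
  have h3 : (3 : K) = 0 := by
    have := CharP.cast_eq_zero K 3
    exact_mod_cast this
  obtain ⟨φ₃, φ₂, B⟩ := exists_blk K
  obtain ⟨X₀, h0, hlu⟩ := m3F_three hK
  have hi : Irreducible (X₀⁻¹).1.charpoly := by
    have h1 : (X₀⁻¹).1 = (X₀.1)⁻¹ := Cfsg.Agent.H126.M3.coe_inv' X₀
    rw [h1]
    exact irr_inv h0 (Matrix.mul_nonsing_inv _ (by rw [X₀.2]; exact isUnit_one))
  obtain ⟨C₀, hC₀⟩ : ∃ C₀ : SL(2, K), C₀.1 = !![0, -1; 1, 1] := ⟨⟨!![0, -1; 1, 1], by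
    rw [Matrix.det_fin_two_of]; ring⟩, rfl⟩
  have n0 : NS C₀ := by
    left
    rw [hC₀]
    exact one_ne_zero
  have t0 : C₀.1.trace = 1 := by
    rw [hC₀, Matrix.trace_fin_two_of]
    ring
  refine tw_of_levi hF (by norm_num) (Cfsg.Agent.S1054.result chevF4 (by simp)) Cfsg.Agent.Nodes.ChevChart.irrF
    (J := JF) (a := (φ₃ X₀ * φ₂ C₀)⁻¹) (b := (φ₃ X₀ * φ₂ C₀)⁻¹) fun v hv u hu => ?_
  obtain ⟨A₁, hA₁, C₁, hC₁, rfl⟩ := B.mem_UNJ hv
  obtain ⟨A₂, hA₂, C₂, hC₂, rfl⟩ := B.mem_UJ hu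
  obtain ⟨X, Y, e3, hcX, hcY⟩ := hlu _ hA₁ _ hA₂
  obtain ⟨C, C', e2, n1, n2, -, k1, k2⟩ := sl2_three h3 hC₁ hC₂
  have hX : Irreducible X.1.charpoly := by
    rcases hcX with h | h
    · rw [h]; exact h0
    · rw [h]; exact hi
  have hY : Irreducible Y.1.charpoly := by
    rcases hcY with h | h
    · rw [h]; exact h0
    · rw [h]; exact hi
  refine ⟨φ₃ X * φ₂ C, φ₃ Y * φ₂ C', ?_, ⟨mul_mem (B.mem₃ _) (B.mem₂ _), mul_mem (B.mem₃ _) (B.mem₂ _),
    (ok_of_cube hK dg_all B k1 X hX).2, (ok_of_cube hK dg_all B k2 Y hY).1⟩,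
    B.conj h0 hX hcX n0 n1 (by rw [trace_of_cube n1 k1, t0]),
    B.conj h0 hY hcY n0 n2 (by rw [trace_of_cube n2 k2, t0])⟩
  have c1 := B.comm A₂ C₁
  have c2 := B.comm Y C
  calc φ₃ A₁ * φ₂ C₁ * (φ₃ A₂ * φ₂ C₂) = φ₃ A₁ * (φ₂ C₁ * φ₃ A₂) * φ₂ C₂ := by group
    _ = φ₃ (A₁ * A₂) * φ₂ (C₁ * C₂) := by rw [← c1, map_mul, map_mul]; group
    _ = φ₃ X * (φ₃ Y * φ₂ C) * φ₂ C' := by rw [e3, e2, map_mul, map_mul]; group
    _ = _ := by rw [c2]; group

end

end Cfsg.Agent.H374.TC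
end

-- part: H197/OreF/TwoCls
section
/-!
# S4173, `F₄(2)`: two fixed classes (helper197)

`tc_F4_two` is `Cfsg.Agent.H140.TC.TC ↥(chevF4.group K)` written out.
-/

set_option autoImplicit false

namespace Cfsg.Agent.H197.OreF

open Cfsg.Lie

/-- **S4173, `F₄(2)`** -/
theorem tc_F4_two {K : Type*} [Field K] [Fintype K] (hK : Fintype.card K = 2) :
    ∃ a b : ↥(chevF4.group K), ∀ g : ↥(chevF4.group K), g ≠ 1 →
      ∃ u v : ↥(chevF4.group K), g = (u * a * u⁻¹) * (v * b * v⁻¹) := by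
  obtain ⟨c, z, -, -, h⟩ := square_F4_two hK
  exact ⟨c, c, fun g _ => h g⟩

end Cfsg.Agent.H197.OreF
end

-- part: H374/TC/Rows
section
/-!
# S4173: the rows `F₄(q)` (all `q`), `E₆(q)` (`q ≥ 4`) (helper374)
-/

set_option autoImplicit false

namespace Cfsg.Agent.H374.TC

open Cfsg.Lie Cfsg.Agent.H140.TC Cfsg.Agent.H122.TwoC

universe u

/-- the orders below nine -/
theorem card_lt_nine {K : Type u} [Field K] [Finite K] (h : Nat.card K < 9) : Nat.card K = 2 ∨ Nat.card K = 3 ∨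
    Nat.card K = 4 ∨ Nat.card K = 5 ∨ Nat.card K = 7 ∨ Nat.card K = 8 := by
  have := Fintype.ofFinite K
  have h1 : 1 < Nat.card K := Finite.one_lt_card
  have h2 : IsPrimePow (Nat.card K) := by
    rw [Nat.card_eq_fintype_card]
    exact FiniteField.isPrimePow_card K
  have h6 : Nat.card K ≠ 6 := by
    intro h6
    rw [h6] at h2
    exact absurd h2 (by
      rw [isPrimePow_nat_iff_bounded]
      decide)
  omega

/-- **`F₄(q)`, all `q`** -/
theorem tw_F4_all {K : Type u} [Field K] [Finite K] : Tw ↥(chevF4.group K) := by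
  have := Fintype.ofFinite K
  by_cases h9 : 9 ≤ Nat.card K
  · obtain ⟨c, hc⟩ := Cfsg.Agent.S2523.result (F := K) (by rw [← Nat.card_eq_fintype_card]; exact h9)
      (G := ↥(chevF4.group K)) (by
        right; right; right; right; right; left
        exact ⟨MulEquiv.refl _⟩)
    exact ⟨c, c, fun g _ => hc g⟩
  · rcases card_lt_nine (K := K) (by omega) with h | h | h
    · exact Cfsg.Agent.H197.OreF.tc_F4_two (by rw [← Nat.card_eq_fintype_card]; exact h)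
    · exact tw_F4_three h
    · exact tw_F4 h

/-- **the row `F₄(q)`** -/
theorem tc_f4 {S : Type*} [Group S] (h : Lie.IsoF4 S) : TC S := by
  obtain ⟨F, i1, i2, ⟨e⟩⟩ := h
  exact TC.of_equiv e (tw_F4_all (K := F))

end Cfsg.Agent.H374.TC
end

-- part: H194/TC/Frame
section
/-!
# Two fixed classes in `D.group K` (S4173)

* `tc_frame` : if every `v w`, `v ∈ U_J⁻`, `w ∈ U_J`, is a product of conjugates of `c₁` and `c₂` in the Levi subgroup,
  without fixed points on `V_J⁻` and `V_J`, then every `g ≠ 1` is a product of conjugates of `c₁` and `c₂`;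
* `tc_E8`, `tc_E7` : `E₈(q)`, `E₇(q)`, `q ≥ 3`;
* `tc_of_two` : two commuting blocks.
-/

set_option autoImplicit false
set_option linter.unusedSectionVars false

namespace Cfsg.Agent.H194.TC

open CoxeterSystem Cfsg.Agent.ChevalleyStructure.CoxeterGeom Cfsg.Agent.Tits.Roots Cfsg.Agent.Tits.Core
  Cfsg.Agent.Nodes.Reps Cfsg.Agent.Nodes.BNOf Cfsg.Agent.Nodes.RGDLib Cfsg.Agent.Nodes.Bruhat
  Cfsg.Agent.Nodes.OppDec Cfsg.Agent.Nodes.LeviDec Cfsg.Agent.Nodes.KindChev Cfsg.Agent.Nodes.ChevCls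
  Cfsg.Agent.OddHalf.NI.ModelChev
  Cfsg.Agent.H162.GaussDec Cfsg.Agent.H162.GaussLevi Cfsg.Agent.H162.GaussSL Cfsg.Agent.H162.GaussReg
  Cfsg.Agent.H162.GaussMain Cfsg.Agent.H162.GaussPQ Cfsg.Agent.H162.GaussExc
open Cfsg.Lie Cfsg.Agent.ChevalleyStructure Cfsg.Agent.ChevalleyStructure.Elts
  Cfsg.Agent.ChevalleyStructure.RootVec Cfsg.Agent.ChevalleyStructure.NPerm
  Cfsg.Agent.ChevalleyStructure.CoxeterGeomTypes Cfsg.Agent.Nodes.RGDChev Cfsg.Agent.KFacts.RgdChevCoord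
open Cfsg.Agent.H928.Ore.Frame (NF LP)
open Cfsg.Agent.H482.Ore.Fix (Bk Dz SimpB wt)
open Cfsg.Agent.H85.Ore Cfsg.Agent.H85.Pw
open Polynomial (X C)

universe u

/-- two conjugacy classes whose product contains all nonidentity elements -/
def TwoCl (G : Type*) [Group G] : Prop :=
  ∃ a b : G, ∀ g : G, g ≠ 1 → ∃ u v : G, g = (u * a * u⁻¹) * (v * b * v⁻¹)

section

variable {D : ChevalleyDatum} {l : ℕ} {M : CoxeterMatrix (Fin l)} (hp : IsType D l M) {K : Type u} [Field K] [Finite K]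
  (hl : 0 < l) (hG : IsSimpleGroup ↥(D.group K) ∧ ¬ IsMulCommutative ↥(D.group K))
  (hM : ∀ J : Finset (Fin l), J = ∅ ∨ J = Finset.univ ∨ ∃ a ∈ J, ∃ b, b ∉ J ∧ M a b ≠ 2)

include hp hl hG hM in
/-- **The frame.** -/
theorem tc_frame {J : Set (Fin l)} {c₁ c₂ : ↥(D.group K)}
    (h : ∀ v ∈ UNJ M.toCoxeterSystem hp.isCartan (XX D l K) J, ∀ w ∈ UJ M.toCoxeterSystem hp.isCartan (XX D l K) J,
      ∃ x y : ↥(D.group K), v * w = (x * c₁ * x⁻¹) * (y * c₂ * y⁻¹) ∧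
        LP M.toCoxeterSystem hp.isCartan (TT D K) (XX D l K) J (x * c₁ * x⁻¹) (y * c₂ * y⁻¹)) : TwoCl ↥(D.group K) := by
  obtain ⟨p, hpc⟩ := CharP.exists K
  have : Fact p.Prime := ⟨(CharP.char_is_prime_or_zero K p).resolve_right (CharP.char_ne_zero_of_finite K p)⟩
  have := finite_W hp M.toCoxeterSystem
  refine ⟨c₁, c₂, fun g hg => ?_⟩
  obtain ⟨a, b, x, y, ⟨⟨x', rfl⟩, ⟨y', rfl⟩⟩, e⟩ := Cfsg.Agent.H928.Ore.Frame.pair (rgd (K := K) hp M.toCoxeterSystem p)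
    (G1_eq_top hp _) (coord hp) (Cfsg.Agent.Nodes.ChevChart.irr_of hM) (J := J)
    (Pr := fun a b : ↥(D.group K) => (∃ x, a = x * c₁ * x⁻¹) ∧ ∃ y, b = y * c₂ * y⁻¹) (fun v hv w hw => by
      obtain ⟨x, y, h1, h2⟩ := h v hv w hw
      exact ⟨_, _, h1, h2, ⟨x, rfl⟩, ⟨y, rfl⟩⟩) (Cfsg.Agent.H224.Ore.Row.not_mem_core hl hG.1 p hp hg)
  exact ⟨x * x', y * y', by rw [e]; group⟩

end

/-! ### One block -/

section

variable {D : ChevalleyDatum} {l : ℕ} {M : CoxeterMatrix (Fin l)} (hp : IsType D l M) {K : Type u} [Field K] [Finite K]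
  (hl : 0 < l) (hG : IsSimpleGroup ↥(D.group K) ∧ ¬ IsMulCommutative ↥(D.group K))
  (hM : ∀ J : Finset (Fin l), J = ∅ ∨ J = Finset.univ ∨ ∃ a ∈ J, ∃ b, b ∉ J ∧ M a b ≠ 2)
  {J : List (Fin l)} {e : Fin l → ℤ} {ω : List (Fin l)} {n : ℕ} {r : Fin (n + 2) → Fin (n + 2) → ℕ}
  (TB : TabB D l J e ω n r)
  {φ : Matrix.SpecialLinearGroup (Fin (n + 2)) K →* ↥(D.group K)} {s : Fin (n + 2) → Fin (n + 2) → K}
  (hs : ∀ a b, s a b ≠ 0)
  (hφ : ∀ a b (hab : a ≠ b) c, φ (Matrix.SpecialLinearGroup.transvection hab c) = xc hp (vec D l (r a b)) (s a b * c))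
  {c₀ : Matrix.SpecialLinearGroup (Fin (n + 2)) K} (hc : OneClass hp K J φ c₀)

end

section

variable (K : Type u) [Field K] [Finite K] (hq : 3 ≤ Nat.card K)

end

/-! ### Two commuting blocks -/

section

variable {D : ChevalleyDatum} {l : ℕ} {M : CoxeterMatrix (Fin l)} (hp : IsType D l M) {J : List (Fin l)} {n₁ n₂ : ℕ}
  {r₁ : Fin (n₁ + 2) → Fin (n₁ + 2) → ℕ} {r₂ : Fin (n₂ + 2) → Fin (n₂ + 2) → ℕ} {j₁ : Fin (n₁ + 1) → Fin l}
  {j₂ : Fin (n₂ + 1) → Fin l} {s₁ : Fin (n₁ + 2) → Fin (n₁ + 2) → ℤ}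
  {s₂ : Fin (n₂ + 2) → Fin (n₂ + 2) → ℤ} (T₁ : TwoS.Tb hp J n₁ r₁ j₁ s₁) (T₂ : TwoS.Tb hp J n₂ r₂ j₂ s₂)
  (hsub : Sub2 D l J n₁ n₂ r₁ r₂) (hcom : Com2 D n₁ n₂ r₁ r₂)
  {K : Type u} [Field K] [Finite K]
  {φ₁ : Matrix.SpecialLinearGroup (Fin (n₁ + 2)) K →* ↥(D.group K)}
  {φ₂ : Matrix.SpecialLinearGroup (Fin (n₂ + 2)) K →* ↥(D.group K)}
  (hφ₁ : ∀ a b (hab : a ≠ b) c, φ₁ (Matrix.SpecialLinearGroup.transvection hab c) =
    xc hp (vec D l (r₁ a b)) ((s₁ a b : K) * c))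
  (hφ₂ : ∀ a b (hab : a ≠ b) c, φ₂ (Matrix.SpecialLinearGroup.transvection hab c) =
    xc hp (vec D l (r₂ a b)) ((s₂ a b : K) * c))
  {K' : Type} [Field K'] [Finite K'] (i : K →+* K')
  (hl : 0 < l) (hG : IsSimpleGroup ↥(D.group K) ∧ ¬ IsMulCommutative ↥(D.group K))
  (hM : ∀ J : Finset (Fin l), J = ∅ ∨ J = Finset.univ ∨ ∃ a ∈ J, ∃ b, b ∉ J ∧ M a b ≠ 2)

include T₁ T₂ hsub hcom hφ₁ hφ₂ hl hG hM in
/-- **Two blocks.** -/
theorem tc_of_two (hK : 3 ≤ Nat.card K) {x₀ : Matrix.SpecialLinearGroup (Fin (n₁ + 2)) K}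
    {y₀ : Matrix.SpecialLinearGroup (Fin (n₂ + 2)) K}
    (hx₀ : Cfsg.Agent.H150.MF.NiceM (x₀ : Matrix (Fin (n₁ + 2)) (Fin (n₁ + 2)) K))
    (hy₀ : Cfsg.Agent.H150.MF.NiceM (y₀ : Matrix (Fin (n₂ + 2)) (Fin (n₂ + 2)) K))
    {lam : Fin (n₁ + 2) → K'} {mu : Fin (n₂ + 2) → K'} (hli : Function.Injective lam) (hmi : Function.Injective mu)
    (hlc : x₀.1.charpoly.map i = ∏ a, (X - C (lam a))) (hmc : y₀.1.charpoly.map i = ∏ a, (X - C (mu a)))
    (hout : ∀ q < D.nroots, (∃ k, k ∉ J ∧ vec D l q k ≠ 0) →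
      (∏ b, lam b ^ Cfsg.Agent.H482.Ore.Fix.wt D j₁ q b) * ∏ b, mu b ^ Cfsg.Agent.H482.Ore.Fix.wt D j₂ q b ≠ 1) :
    TwoCl ↥(D.group K) := by
  have hcm := TwoS.comm_phi₂ hp T₁ T₂ hcom hφ₁ hφ₂
  have e1 : Ev i (fun f => f = lam) x₀ := ⟨lam, rfl, hli, hlc⟩
  have e2 : Ev i (fun f => f = mu) y₀ := ⟨mu, rfl, hmi, hmc⟩
  have hconj : ∀ (g : Matrix.SpecialLinearGroup (Fin (n₁ + 2)) K) (h : Matrix.SpecialLinearGroup (Fin (n₂ + 2)) K),
      (φ₁ g * φ₂ h) * (φ₁ x₀ * φ₂ y₀) * (φ₁ g * φ₂ h)⁻¹ = φ₁ (g * x₀ * g⁻¹) * φ₂ (h * y₀ * h⁻¹) := by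
    intro g h
    rw [map_mul, map_mul, map_mul, map_mul, map_inv, map_inv]
    have h1 := hcm g⁻¹ h⁻¹
    rw [map_inv, map_inv] at h1
    calc (φ₁ g * φ₂ h) * (φ₁ x₀ * φ₂ y₀) * (φ₁ g * φ₂ h)⁻¹
        = φ₁ g * (φ₂ h * φ₁ x₀) * φ₂ y₀ * ((φ₂ h)⁻¹ * (φ₁ g)⁻¹) := by group
      _ = φ₁ g * φ₁ x₀ * (φ₂ (h * y₀) * (φ₁ g)⁻¹) * (φ₂ h)⁻¹ := by rw [← hcm x₀ h, ← h1, map_mul]; group
      _ = φ₁ g * φ₁ x₀ * ((φ₁ g)⁻¹ * φ₂ (h * y₀)) * (φ₂ h)⁻¹ := by rw [← map_inv φ₁, hcm g⁻¹ (h * y₀)]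
      _ = _ := by rw [map_mul]; group
  have hnf : ∀ (g : Matrix.SpecialLinearGroup (Fin (n₁ + 2)) K) (h : Matrix.SpecialLinearGroup (Fin (n₂ + 2)) K),
      NF (VJ M.toCoxeterSystem hp.isCartan (XX D l K) {k | k ∈ J}) (φ₁ (g * x₀ * g⁻¹) * φ₂ (h * y₀ * h⁻¹)) ∧
      NF (VNJ M.toCoxeterSystem hp.isCartan (XX D l K) {k | k ∈ J}) (φ₁ (g * x₀ * g⁻¹) * φ₂ (h * y₀ * h⁻¹)) :=
    fun g h => TwoS.nf₂ hp T₁ T₂ hcom hφ₁ hφ₂ i (E₁ := fun f => f = lam) (E₂ := fun f => f = mu)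
      (fun f hf f' hf' q hq hk => by subst hf; subst hf'; exact hout q hq hk)
      (Cfsg.Agent.H224.Pw.ev_conj i e1 g) (Cfsg.Agent.H224.Pw.ev_conj i e2 h)
  refine tc_frame hp hl hG hM (J := {k | k ∈ J}) (c₁ := φ₁ x₀ * φ₂ y₀) (c₂ := (φ₁ x₀ * φ₂ y₀)⁻¹) fun v hv w hw => ?_
  obtain ⟨L₁, hL₁, L₂, hL₂, rfl⟩ := TwoS.UNJ_mem₂ hp T₁ T₂ hsub hcom hφ₁ hφ₂ hv
  obtain ⟨U₁, hU₁, U₂, hU₂, rfl⟩ := TwoS.UJ_mem₂ hp T₁ T₂ hsub hcom hφ₁ hφ₂ hw
  obtain ⟨g, h, d1⟩ := Cfsg.Agent.H150.MF.mf_lu hK (by omega) hx₀ hL₁ hU₁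
  obtain ⟨g', h', d2⟩ := Cfsg.Agent.H150.MF.mf_lu hK (by omega) hy₀ hL₂ hU₂
  have hmem : ∀ (g : Matrix.SpecialLinearGroup (Fin (n₁ + 2)) K) (h : Matrix.SpecialLinearGroup (Fin (n₂ + 2)) K),
      φ₁ g * φ₂ h ∈ LJ M.toCoxeterSystem hp.isCartan (TT D K) (XX D l K) {k | k ∈ J} := fun g h =>
    mul_mem (TwoS.phi_mem₁ hp T₁ hφ₁ g) (TwoS.phi_mem₁ hp T₂ hφ₂ h)
  have hinv : ∀ z : ↥(D.group K), z * (φ₁ x₀ * φ₂ y₀)⁻¹ * z⁻¹ = (z * (φ₁ x₀ * φ₂ y₀) * z⁻¹)⁻¹ := fun z => by group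
  refine ⟨φ₁ g * φ₂ g', φ₁ h * φ₂ h', ?_, ?_⟩
  · rw [hinv, hconj, hconj]
    have d3 : h * x₀⁻¹ * h⁻¹ = (h * x₀ * h⁻¹)⁻¹ := by group
    have d4 : h' * y₀⁻¹ * h'⁻¹ = (h' * y₀ * h'⁻¹)⁻¹ := by group
    rw [d3] at d1
    rw [d4] at d2
    generalize h * x₀ * h⁻¹ = B at *
    generalize h' * y₀ * h'⁻¹ = B' at *
    generalize g * x₀ * g⁻¹ = A at *
    generalize g' * y₀ * g'⁻¹ = A' at *
    calc φ₁ L₁ * φ₂ L₂ * (φ₁ U₁ * φ₂ U₂) = φ₁ L₁ * (φ₂ L₂ * φ₁ U₁) * φ₂ U₂ := by group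
      _ = φ₁ L₁ * (φ₁ U₁ * φ₂ L₂) * φ₂ U₂ := by rw [hcm U₁ L₂]
      _ = φ₁ (L₁ * U₁) * φ₂ (L₂ * U₂) := by rw [map_mul, map_mul]; group
      _ = φ₁ A * (φ₁ B⁻¹ * φ₂ A') * φ₂ B'⁻¹ := by rw [d1, d2, map_mul, map_mul]; group
      _ = φ₁ A * (φ₂ A' * φ₁ B⁻¹) * φ₂ B'⁻¹ := by rw [hcm B⁻¹ A']
      _ = φ₁ A * φ₂ A' * (φ₁ B⁻¹ * φ₂ B'⁻¹) := by group
      _ = φ₁ A * φ₂ A' * (φ₁ B * φ₂ B')⁻¹ := by rw [hcm B⁻¹ B'⁻¹, map_inv, map_inv, mul_inv_rev]
  · rw [hinv, hconj, hconj]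
    exact ⟨by rw [← hconj]; exact mul_mem (mul_mem (hmem _ _) (hmem _ _)) (inv_mem (hmem _ _)),
      inv_mem (by rw [← hconj]; exact mul_mem (mul_mem (hmem _ _) (hmem _ _)) (inv_mem (hmem _ _))),
      (hnf g g').2, nf_inv (hnf h h').1⟩

end

end Cfsg.Agent.H194.TC
end

-- part: H194/TC/Six
section
/-!
# Two fixed classes in `E₆(q)`, `q ≥ 4` (S4173)

* `exists_blk` : an element of `SL_{m+1}(K)` with the eigenvalues `ν, α, α^q, …, α^(q^(m-1))`;
* `hout` : the values of the roots outside the Levi subgroup of type `A₄ A₁`;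
* `tc_E6_four` : `E₆(q)`, `q ≥ 4`.
-/

set_option autoImplicit false
set_option linter.unusedSectionVars false

namespace Cfsg.Agent.H194.TC

open Cfsg.Agent.Nodes.RGDChev Cfsg.Agent.Nodes.KindChev Cfsg.Agent.OddHalf.NI.ModelChev Cfsg.Agent.KFacts.RgdChevCoord
open Cfsg.Lie Cfsg.Agent.ChevalleyStructure Cfsg.Agent.ChevalleyStructure.RootVec
  Cfsg.Agent.ChevalleyStructure.CoxeterGeomTypes
open Cfsg.Agent.H85.Pw Cfsg.Agent.H194.Pw
open Cfsg.Agent.H150.E6T (hp6)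
open Polynomial (X C)

universe u

/-- the eigenvalues `ν, α, α^q, …` -/
def ev {K' : Type*} [Field K'] (q m : ℕ) (ν α : K') : Fin (m + 1) → K' := Fin.cons ν fun a : Fin m => α ^ q ^ (a : ℕ)

/-- an element of `SL_{m+1}(K)` with the eigenvalues `ν, α, α^q, …, α^(q^(m-1))` -/
theorem exists_blk {K : Type u} [Field K] [Finite K] {K' : Type} [Field K'] [Finite K'] (i : K →+* K') {m : ℕ}
    (hm : 0 < m) {α : K'} (hα : α ^ Nat.card K ^ m = α) {ν : K}
    (hν : i ν * ∏ a : Fin m, α ^ Nat.card K ^ (a : ℕ) = 1) (hne : ∀ a : Fin m, i ν ≠ α ^ Nat.card K ^ (a : ℕ)) :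
    ∃ x₀ : Matrix.SpecialLinearGroup (Fin (m + 1)) K,
      Cfsg.Agent.H150.MF.NiceM (x₀ : Matrix (Fin (m + 1)) (Fin (m + 1)) K) ∧
      x₀.1.charpoly.map i = ∏ a, (X - C (ev (Nat.card K) m (i ν) α a)) := by
  obtain ⟨p, hpm, hpd, hpi⟩ := Cfsg.Agent.H224.Pw.exists_p i hm hα
  have hsp : ((X - C ν) * p).map i = ∏ a, (X - C (ev (Nat.card K) m (i ν) α a)) := by
    rw [Polynomial.map_mul, Polynomial.map_sub, Polynomial.map_X, Polynomial.map_C, hpi, Fin.prod_univ_succ]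
    rfl
  obtain ⟨x₀, h1, h2⟩ := Cfsg.Agent.H150.MF.exists_niceM (n := m + 1) (ν := ν) hpm (by rw [hpd]) (by
    apply i.injective
    rw [← Polynomial.coeff_map, hsp, Polynomial.coeff_zero_eq_eval_zero, Polynomial.eval_prod]
    simp only [Polynomial.eval_sub, Polynomial.eval_X, Polynomial.eval_C, zero_sub]
    have h2 : ∀ a : Fin (m + 1), -ev (Nat.card K) m (i ν) α a = (-1) * ev (Nat.card K) m (i ν) α a :=
      fun a => neg_eq_neg_one_mul _
    rw [Finset.prod_congr rfl fun a _ => h2 a, Finset.prod_mul_distrib, Finset.prod_const, Finset.card_univ,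
      Fintype.card_fin, Fin.prod_univ_succ]
    change (-1 : K') ^ (m + 1) * (i ν * ∏ a : Fin m, α ^ Nat.card K ^ (a : ℕ)) = _
    rw [hν, mul_one, map_pow, map_neg, map_one]) (by
    intro h
    have h3 : (p.map i).eval (i ν) = 0 := by rw [Polynomial.eval_map_apply, h, map_zero]
    rw [hpi, Polynomial.eval_prod, Finset.prod_eq_zero_iff] at h3
    obtain ⟨a, -, ha⟩ := h3
    rw [Polynomial.eval_sub, Polynomial.eval_X, Polynomial.eval_C, sub_eq_zero] at ha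
    exact hne a ha)
  exact ⟨x₀, h2, by rw [h1, hsp]⟩

/-- a generator of the multiplicative group of the extension of degree `m` -/
theorem exists_gen (K : Type u) [Field K] [Finite K] (m : ℕ) [NeZero m] : ∃ (K' : Type) (_ : Field K') (_ : Finite K')
    (_ : K →+* K') (z : K'), Nat.card K' = Nat.card K ^ m ∧ orderOf z = Nat.card K ^ m - 1 := by
  obtain ⟨ch, hch⟩ := CharP.exists K
  have hp : Fact ch.Prime := ⟨(CharP.char_is_prime_or_zero K ch).resolve_right (CharP.char_ne_zero_of_finite K ch)⟩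
  have hK' : Nat.card (FiniteField.Extension K ch m) = Nat.card K ^ m := FiniteField.natCard_extension K ch m
  have : Fintype (FiniteField.Extension K ch m) := Fintype.ofFinite _
  obtain ⟨z, hz⟩ := IsCyclic.exists_ofOrder_eq_natCard (α := (FiniteField.Extension K ch m)ˣ)
  refine ⟨FiniteField.Extension K ch m, inferInstance, inferInstance, algebraMap K _, (z : _), hK', ?_⟩
  rw [orderOf_units, hz, Nat.card_units, hK']

section

variable {K : Type u} [Field K] [Finite K] {K' : Type} [Field K'] [Finite K'] (i : K →+* K') {z : K'}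

include i in
/-- small powers of the generator are not in `K` -/
theorem not_mem {m : ℕ} (hz : orderOf z = Nat.card K ^ m - 1) {e : ℕ} (h0 : 0 < e)
    (he : (Nat.card K - 1) * e < Nat.card K ^ m - 1) (x : K) : z ^ e ≠ i x := by
  intro h
  have hq : 1 < Nat.card K := Finite.one_lt_card
  have hz0 : z ^ e ≠ 0 := by
    intro h1
    have h2 : z = 0 := by
      rwa [pow_eq_zero_iff h0.ne'] at h1
    rw [h2, orderOf_zero] at hz
    omega
  have hx : i x ^ (Nat.card K - 1) = 1 := by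
    have h1 := Cfsg.Agent.H224.Pw.fix_range i x
    have h2 : i x ≠ 0 := h ▸ hz0
    have h3 : i x ^ (Nat.card K - 1) * i x = 1 * i x := by
      rw [← pow_succ, Nat.sub_add_cancel hq.le, h1, one_mul]
    exact mul_right_cancel₀ h2 h3
  rw [← h, ← pow_mul, ← orderOf_dvd_iff_pow_eq_one, hz, mul_comm] at hx
  have h4 := Nat.le_of_dvd (Nat.mul_pos (by omega) h0) hx
  omega

end

section

variable {K' : Type} [Field K']

/-- the value on a block of type `A₁` -/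
theorem two_val' {mu : Fin 2 → K'} (h1 : mu 0 * mu 1 = 1) (w : Fin 2 → ℤ) : ∏ b, mu b ^ w b = mu 0 ^ (w 0 - w 1) := by
  have h0 : mu 0 ≠ 0 := left_ne_zero_of_mul_eq_one h1
  have h2 : mu 1 = (mu 0)⁻¹ := eq_inv_of_mul_eq_one_right h1
  rw [Fin.prod_univ_two, h2, inv_zpow', ← zpow_add₀ h0, ← sub_eq_add_neg]

/-- **the values of the roots outside the Levi subgroup of type `A₄ A₁`** -/
theorem hout {lam : Fin 5 → K'} (hl : ∏ a, lam a = 1) {mu : Fin 2 → K'} (hm : mu 0 * mu 1 = 1)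
    (h1 : ∀ a, lam a ≠ 1) (h2 : ∀ a b, a < b → lam a * lam b * mu 0 ≠ 1) (h3 : ∀ a b, a < b → lam a * lam b * mu 1 ≠ 1)
    {q : ℕ} (hq : q < chevE6.nroots) (hk : ∃ k : Fin 6, k ∉ J5 ∧ vec chevE6 6 q k ≠ 0) :
    (∏ b, lam b ^ Cfsg.Agent.H482.Ore.Fix.wt chevE6 j5 q b) *
      ∏ b, mu b ^ Cfsg.Agent.H482.Ore.Fix.wt chevE6 j51 q b ≠ 1 := by
  have h0 : ∀ k, lam k ≠ 0 := ne_zero_of_prod hl
  have hm1 : mu 1 = (mu 0)⁻¹ := eq_inv_of_mul_eq_one_right hm
  have hm0 : mu 0 ≠ 0 := left_ne_zero_of_mul_eq_one hm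
  have hval : ∀ {a b : Fin 5}, ((∀ k, Cfsg.Agent.H482.Ore.Fix.wt chevE6 j5 q k = ind a b k - ind a b 4) ∨
      ∀ k, Cfsg.Agent.H482.Ore.Fix.wt chevE6 j5 q k = -ind a b k + ind a b 4) →
      ∏ k, lam k ^ Cfsg.Agent.H482.Ore.Fix.wt chevE6 j5 q k = (if a = b then lam a else lam a * lam b) ∨
      ∏ k, lam k ^ Cfsg.Agent.H482.Ore.Fix.wt chevE6 j5 q k = (if a = b then lam a else lam a * lam b)⁻¹ := by
    intro a b hw
    rcases hw with hw | hw
    · exact .inl (prod_wt h0 hl hw)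
    · right
      have h1 : ∏ k, lam k ^ (-Cfsg.Agent.H482.Ore.Fix.wt chevE6 j5 q k) = if a = b then lam a else lam a * lam b :=
        prod_wt (c := ind a b 4) h0 hl fun k => by rw [hw]; ring
      rw [← h1]
      simp only [zpow_neg]
      rw [Finset.prod_inv_distrib, inv_inv]
  rw [two_val' hm]
  rcases out51 q hq hk with ⟨a, b, hab, hw, hw'⟩ | ⟨a, hw, hw'⟩
  · have hv := hval hw
    rw [if_neg hab.ne] at hv
    have h4 := h2 a b hab
    have h5 := h3 a b hab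
    rw [hm1] at h5
    rcases hv with hv | hv <;> rcases hw' with hw' | hw' <;> rw [hv, hw']
    · rwa [zpow_one]
    · rwa [zpow_neg_one]
    · rw [zpow_one]
      intro h6
      apply h5
      rw [← inv_inv (lam a * lam b), ← mul_inv, h6, inv_one]
    · rw [zpow_neg_one]
      intro h6
      apply h4
      rw [← inv_inj, mul_inv, h6, inv_one]
  · have hv := hval hw
    rw [if_pos rfl] at hv
    rw [hw', zpow_zero, mul_one]
    rcases hv with hv | hv
    · rw [hv]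
      exact h1 a
    · rw [hv, ne_eq, inv_eq_one]
      exact h1 a

end

/-- **`E₆(q)`, `q ≥ 4`** -/
theorem tc_E6_four (K : Type u) [Field K] [Finite K] (hq : 4 ≤ Nat.card K) : TwoCl ↥(chevE6.group K) := by
  classical
  have : NeZero 4 := ⟨by norm_num⟩
  obtain ⟨K', _, _, i, z, hK', hz⟩ := exists_gen K 4
  obtain ⟨q, hqe⟩ : ∃ q, q = Nat.card K := ⟨_, rfl⟩
  -- the element of `K`
  obtain ⟨ξ, hξ0, hξ⟩ : ∃ ξ : K, ξ ≠ 0 ∧ ξ * ξ ≠ 1 := by
    have : Fintype K := Fintype.ofFinite K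
    by_contra hcon
    push Not at hcon
    have h1 : (Finset.univ : Finset K) ⊆ {0, 1, -1} := by
      intro x _
      by_cases hx : x = 0
      · simp only [hx, _root_.Finset.mem_insert, _root_.zero_ne_one, _root_.Finset.mem_singleton, _root_.zero_eq_neg, _root_.one_ne_zero, _root_.or_self, _root_.or_false]
      · have h2 := hcon x hx
        rcases mul_self_eq_one_iff.1 h2 with h | h <;> simp only [h, _root_.Finset.mem_insert, _root_.one_ne_zero, _root_.Finset.mem_singleton, _root_.true_or, _root_.or_true, _root_.neg_eq_zero]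
    have h2 := Finset.card_le_card h1
    rw [Finset.card_univ, ← Nat.card_eq_fintype_card] at h2
    have h3 : ({0, 1, -1} : Finset K).card ≤ 3 := Finset.card_le_three
    omega
  have hlt : ∀ {e : ℕ}, e ≤ q ^ 3 + q ^ 2 → (q - 1) * e < q ^ 4 - 1 := by
    intro e he
    have h1 : (q - 1) * e ≤ (q - 1) * (q ^ 3 + q ^ 2) := Nat.mul_le_mul_left _ he
    obtain ⟨k, rfl⟩ : ∃ k, q = k + 1 := ⟨q - 1, by omega⟩
    have h2 : 3 ≤ k := by omega
    have h3 : (k + 1) ^ 4 = (k + 1 - 1) * ((k + 1) ^ 3 + (k + 1) ^ 2) + (k + 1) ^ 2 := by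
      rw [Nat.add_sub_cancel]; ring
    have h4 : 1 < (k + 1) ^ 2 := Nat.one_lt_pow (by norm_num) (by omega)
    omega
  have hpl : ∀ {a : ℕ}, a < 4 → q ^ a ≤ q ^ 3 := fun h => Nat.pow_le_pow_right (by omega) (by omega)
  have hpl' : ∀ {a : ℕ}, a < 3 → q ^ a ≤ q ^ 2 := fun h => Nat.pow_le_pow_right (by omega) (by omega)
  have hnm : ∀ {e : ℕ}, 0 < e → e ≤ q ^ 3 + q ^ 2 → ∀ x : K, z ^ e ≠ i x := fun h0 he x =>
    not_mem i hz h0 (by rw [← hqe]; exact hlt he) x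
  have hqp : ∀ a : ℕ, 0 < q ^ a := fun a => pow_pos (by omega) a
  have hz1 : z ^ (q ^ 4 - 1) = 1 := by rw [hqe, ← hz]; exact pow_orderOf_eq_one z
  have hz0 : z ≠ 0 := by
    intro h
    rw [h, orderOf_zero, ← hqe] at hz
    have := Nat.one_lt_pow (n := 4) (by norm_num) (show 1 < q by omega)
    omega
  have hα : z ^ Nat.card K ^ 4 = z := by
    rw [← hqe]
    have h1 : q ^ 4 = (q ^ 4 - 1) + 1 := (Nat.sub_add_cancel (hqp 4)).symm
    rw [h1, pow_succ, hz1, one_mul]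
  -- `ν`
  obtain ⟨ν, hν⟩ : ∃ ν : K, i ν = (∏ a : Fin 4, z ^ Nat.card K ^ (a : ℕ))⁻¹ := by
    apply Cfsg.Agent.H224.Pw.range_of_fix i
    rw [inv_pow, Fin.prod_univ_four]
    simp only [Fin.val_zero, Fin.val_one, Fin.val_two]
    change (((z ^ Nat.card K ^ 0 * z ^ Nat.card K ^ 1 * z ^ Nat.card K ^ 2 * z ^ Nat.card K ^ 3) ^ Nat.card K)⁻¹ : K') =
      (z ^ Nat.card K ^ 0 * z ^ Nat.card K ^ 1 * z ^ Nat.card K ^ 2 * z ^ Nat.card K ^ 3)⁻¹
    congr 1
    rw [mul_pow, mul_pow, mul_pow, ← pow_mul, ← pow_mul, ← pow_mul, ← pow_mul, ← pow_succ, ← pow_succ, ← pow_succ,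
      ← pow_succ, hα]
    ring
  have hν1 : i ν * ∏ a : Fin 4, z ^ Nat.card K ^ (a : ℕ) = 1 := by
    rw [hν, inv_mul_cancel₀]
    exact Finset.prod_ne_zero_iff.2 fun a _ => pow_ne_zero _ hz0
  have hνm : ∀ a : Fin 4, i ν ≠ z ^ Nat.card K ^ (a : ℕ) := by
    intro a h
    rw [← hqe] at h
    exact hnm (hqp a) ((hpl a.2).trans (Nat.le_add_right _ _)) ν h.symm
  obtain ⟨x₀, hx1, hx2⟩ := exists_blk i (m := 4) (by norm_num) hα hν1 hνm
  obtain ⟨y₀, hy1, hy2⟩ := exists_blk i (m := 1) (by norm_num) (α := (i ξ)⁻¹) (ν := ξ)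
    (by rw [pow_one, inv_pow, Cfsg.Agent.H224.Pw.fix_range])
    (by
      have h1 : i ξ ≠ 0 := by rwa [ne_eq, map_eq_zero]
      simp only [h1, _root_.Finset.univ_unique, _root_.Fin.default_eq_zero, _root_.Fin.isValue, _root_.Fin.val_eq_zero, _root_.pow_zero, _root_.pow_one, _root_.Finset.prod_inv_distrib, _root_.Finset.prod_const, _root_.Finset.card_singleton, _root_.ne_eq, _root_.not_false_eq_true, _root_.mul_inv_cancel₀])
    (by
      intro a h
      have h1 : i ξ ≠ 0 := by rwa [ne_eq, map_eq_zero]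
      have h2 : (a : ℕ) = 0 := by omega
      rw [h2, pow_zero, pow_one] at h
      apply hξ
      apply i.injective
      rw [map_mul, map_one]
      nth_rw 1 [h]
      exact inv_mul_cancel₀ h1)
  have hξi : i ξ ≠ 0 := by rwa [ne_eq, map_eq_zero]
  have hm0 : ev (Nat.card K) 1 (i ξ) (i ξ)⁻¹ 0 = i ξ := rfl
  have hm1 : ev (Nat.card K) 1 (i ξ) (i ξ)⁻¹ 1 = i ξ⁻¹ := by
    change (i ξ)⁻¹ ^ Nat.card K ^ ((0 : Fin 1) : ℕ) = _
    rw [Fin.val_zero, pow_zero, pow_one, map_inv₀]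
  have hl0 : ev (Nat.card K) 4 (i ν) z 0 = i ν := rfl
  have hls : ∀ a : Fin 4, ev (Nat.card K) 4 (i ν) z a.succ = z ^ q ^ (a : ℕ) := fun a => by rw [hqe]; rfl
  have hinj : Function.Injective (ev (Nat.card K) 4 (i ν) z) := by
    have key : ∀ a b : Fin 4, a < b → z ^ q ^ (a : ℕ) ≠ z ^ q ^ (b : ℕ) := by
      intro a b hab h1
      have hab' : (a : ℕ) < b := hab
      have hle : q ^ (a : ℕ) < q ^ (b : ℕ) := Nat.pow_lt_pow_right (by omega) hab'
      have h2 : z ^ (q ^ (b : ℕ) - q ^ (a : ℕ)) = 1 := by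
        have h3 : z ^ (q ^ (b : ℕ) - q ^ (a : ℕ)) * z ^ q ^ (a : ℕ) = 1 * z ^ q ^ (a : ℕ) := by
          rw [← pow_add, Nat.sub_add_cancel hle.le, one_mul]
          exact h1.symm
        exact mul_right_cancel₀ (pow_ne_zero _ hz0) h3
      exact hnm (e := q ^ (b : ℕ) - q ^ (a : ℕ)) (by omega)
        (((Nat.sub_le _ _).trans (hpl b.2)).trans (Nat.le_add_right _ _)) 1 (by rw [h2, map_one])
    intro a b hab
    refine Fin.cases ?_ (fun a => ?_) a hab
    · refine Fin.cases (fun _ => rfl) (fun b h => ?_) b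
      rw [hl0, hls] at h
      exact absurd h (by rw [hqe]; exact hνm b)
    · refine Fin.cases (fun h => ?_) (fun b h => ?_) b
      · rw [hl0, hls] at h
        exact absurd h.symm (by rw [hqe]; exact hνm a)
      · rw [hls, hls] at h
        by_contra hne
        have hne' : a ≠ b := fun h => hne (by rw [h])
        rcases lt_or_gt_of_ne hne' with h' | h'
        · exact key a b h' h
        · exact key b a h' h.symm
  have hpair : ∀ a b : Fin 5, a < b → ∀ x : K, ev (Nat.card K) 4 (i ν) z a * ev (Nat.card K) 4 (i ν) z b ≠ i x := by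
    intro a b hab x
    have hν0 : i ν ≠ 0 := left_ne_zero_of_mul_eq_one hν1
    revert hab
    refine Fin.cases ?_ (fun a => ?_) a
    · refine Fin.cases (fun h => absurd h (lt_irrefl _)) (fun b _ h => ?_) b
      rw [hl0, hls] at h
      refine hnm (hqp b) ((hpl b.2).trans (Nat.le_add_right _ _)) (ν⁻¹ * x) ?_
      rw [map_mul, map_inv₀, ← h, inv_mul_cancel_left₀ hν0]
    · refine Fin.cases (fun h => absurd h (Fin.not_lt_zero _)) (fun b hab h => ?_) b
      rw [hls, hls, ← pow_add] at h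
      have hab' : (a : ℕ) < b := by
        have := Fin.lt_def.1 hab
        simpa using this
      refine hnm (by have := hqp a; omega) ?_ x h
      have h1 := hpl b.2
      have h2 := hpl' (a := (a : ℕ)) (by omega)
      omega
  have hone : ∀ a, ev (Nat.card K) 4 (i ν) z a ≠ 1 := by
    refine Fin.cases ?_ (fun a h => ?_)
    · intro h
      rw [hl0] at h
      rw [h, one_mul, Finset.prod_pow_eq_pow_sum, Fin.sum_univ_four, ← orderOf_dvd_iff_pow_eq_one, hz, ← hqe] at hν1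
      have h1 := Nat.le_of_dvd (by
        change 0 < q ^ 0 + q ^ 1 + q ^ 2 + q ^ 3
        have := hqp 0
        omega) hν1
      change q ^ 4 - 1 ≤ q ^ 0 + q ^ 1 + q ^ 2 + q ^ 3 at h1
      have h2 : 4 * q ^ 3 ≤ q ^ 4 := by
        rw [pow_succ q 3, mul_comm (q ^ 3)]
        exact Nat.mul_le_mul_right _ (by omega)
      have h3 : q ^ 2 * 4 ≤ q ^ 3 := by
        rw [pow_succ q 2]
        exact Nat.mul_le_mul_left _ (by omega)
      have h4 : q ^ 1 * 4 ≤ q ^ 2 := by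
        rw [pow_succ q 1]
        exact Nat.mul_le_mul_left _ (by omega)
      rw [pow_one] at h1 h4
      rw [pow_zero] at h1
      omega
    · rw [hls] at h
      exact hnm (hqp a) ((hpl a.2).trans (Nat.le_add_right _ _)) 1 (by rw [h, map_one])
  have hprod : ∏ a, ev (Nat.card K) 4 (i ν) z a = 1 := by
    rw [Fin.prod_univ_succ]
    exact hν1
  obtain ⟨φ₁, hφ₁⟩ := exists_phi5 K
  obtain ⟨φ₂, hφ₂⟩ := Cfsg.Agent.H155.TG.exists_phi2 (K := K) hp6 5 (r := r51) (s := fun _ _ => 1)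
    (ch51.2.2.2 0) ((ch51.2.2.1 0 1 (by decide)).trans (congrArg _ (ch51.2.2.2 0))) rfl rfl
  refine tc_of_two hp6 T5 T1 sub51 com51 hφ₁ hφ₂ i (by norm_num)
    (Cfsg.Agent.S1054.result chevE6 (by simp)) Cfsg.Agent.Nodes.ChevChart.irr6 (by omega) hx1 hy1 hinj ?_ hx2 hy2
    fun q' hq' hk => hout hprod (by rw [hm0, hm1, map_inv₀, mul_inv_cancel₀ hξi]) hone ?_ ?_ hq' hk
  · intro a b hab
    by_contra hne
    have h1 : i ξ = i ξ⁻¹ := by
      rw [← hm0, ← hm1]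
      revert hab hne
      refine Fin.cases ?_ (fun a => ?_) a <;> refine Fin.cases ?_ (fun b => ?_) b
      · intro _ h; exact absurd rfl h
      · intro h _
        have : b = 0 := Subsingleton.elim _ _
        subst this
        exact h
      · intro h _
        have : a = 0 := Subsingleton.elim _ _
        subst this
        exact h.symm
      · intro _ h
        exact absurd (by rw [Subsingleton.elim a b]) h
    have h2 := i.injective h1
    apply hξ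
    nth_rw 1 [h2]
    exact inv_mul_cancel₀ hξ0
  · intro a b hab h
    rw [hm0] at h
    refine hpair a b hab ξ⁻¹ ?_
    rw [map_inv₀]
    exact eq_inv_of_mul_eq_one_left h
  · intro a b hab h
    rw [hm1, map_inv₀] at h
    refine hpair a b hab ξ ?_
    have := eq_inv_of_mul_eq_one_left h
    rwa [inv_inv] at this

end Cfsg.Agent.H194.TC
end

-- part: H194/TC/SixThree
section
/-!
# Two fixed classes in `E₆(3)` (S4173)

* `tc_of_torus` : one block of type `A` and an element of the torus that commutes with it;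
* `tc_E6_three` : `E₆(3)`: the block `A₄` with the eigenvalues `1, α, α³, α⁹, α²⁷`, `α` of order `40`;
* `tc_E6` : `E₆(q)`, `q ≥ 3`.
-/

set_option autoImplicit false
set_option linter.unusedSectionVars false

namespace Cfsg.Agent.H194.TC

open CoxeterSystem Cfsg.Agent.ChevalleyStructure.CoxeterGeom Cfsg.Agent.Tits.Roots Cfsg.Agent.Tits.Core
  Cfsg.Agent.Nodes.Reps Cfsg.Agent.Nodes.BNOf Cfsg.Agent.Nodes.RGDLib Cfsg.Agent.Nodes.Bruhat
  Cfsg.Agent.Nodes.OppDec Cfsg.Agent.Nodes.LeviDec Cfsg.Agent.Nodes.KindChev Cfsg.Agent.Nodes.ChevCls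
  Cfsg.Agent.OddHalf.NI.ModelChev
  Cfsg.Agent.H162.GaussDec Cfsg.Agent.H162.GaussLevi Cfsg.Agent.H162.GaussSL Cfsg.Agent.H162.GaussReg
  Cfsg.Agent.H162.GaussMain Cfsg.Agent.H162.GaussPQ Cfsg.Agent.H162.GaussExc
open Cfsg.Lie Cfsg.Agent.ChevalleyStructure Cfsg.Agent.ChevalleyStructure.Elts
  Cfsg.Agent.ChevalleyStructure.RootVec Cfsg.Agent.ChevalleyStructure.NPerm
  Cfsg.Agent.ChevalleyStructure.CoxeterGeomTypes Cfsg.Agent.Nodes.RGDChev Cfsg.Agent.KFacts.RgdChevCoord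
open Cfsg.Agent.H928.Ore.Frame (NF LP)
open Cfsg.Agent.H482.Ore.Fix (Bk Dz SimpB)
open Cfsg.Agent.H85.Ore Cfsg.Agent.H85.Pw
open Cfsg.Agent.H150.E6T (hp6)
open Cfsg.Agent.H194.Pw (r5 s5 j5 simp5 rt5 ind prod_wt exists_phi5)
open Polynomial (X C)

universe u

/-- the roots of the Levi subgroup are the roots of the block -/
def Sub1 (D : ChevalleyDatum) (l : ℕ) (J : List (Fin l)) (n : ℕ) (r : Fin (n + 2) → Fin (n + 2) → ℕ) : Prop :=
  ∀ q < D.nroots, (∀ k, k ∉ J → vec D l q k = 0) →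
    ∃ a b, a ≠ b ∧ r a b = q ∧ (a < b → ∃ k, 0 < vec D l q k) ∧ (b < a → ∃ k, vec D l q k < 0)

instance decSub1 (D : ChevalleyDatum) (l : ℕ) (J : List (Fin l)) (n : ℕ) (r : Fin (n + 2) → Fin (n + 2) → ℕ) :
    Decidable (Sub1 D l J n r) := by
  unfold Sub1
  refine @Nat.decidableBallLT _ _ fun q _ => ?_
  refine @instDecidableForall _ _ inferInstance ?_
  refine @Fintype.decidableExistsFintype _ _ (fun a => ?_) _
  refine @Fintype.decidableExistsFintype _ _ (fun b => ?_) _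
  infer_instance

section

variable {D : ChevalleyDatum} {l : ℕ} {M : CoxeterMatrix (Fin l)} (hp : IsType D l M) {J : List (Fin l)} {n : ℕ}
  {r : Fin (n + 2) → Fin (n + 2) → ℕ} {j : Fin (n + 1) → Fin l} {s : Fin (n + 2) → Fin (n + 2) → ℤ}
  (T : TwoS.Tb hp J n r j s) (hsub : Sub1 D l J n r) {K : Type u} [Field K]
  {φ : Matrix.SpecialLinearGroup (Fin (n + 2)) K →* ↥(D.group K)}
  (hφ : ∀ a b (hab : a ≠ b) c, φ (Matrix.SpecialLinearGroup.transvection hab c) =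
    xc hp (vec D l (r a b)) ((s a b : K) * c))

include T hsub hφ

theorem up₁ {x : Fin l → ℤ} (hx : x ∈ Cfsg.Agent.Nodes.StabComb.PosJ M.toCoxeterSystem hp.isCartan {k | k ∈ J}) :
    XX D l K x ≤ (UT (n + 2) K).map φ := by
  have he : ∀ a b, (s a b : K) * (s a b : K) = 1 := fun a b => by rw [← Int.cast_mul, T.eps, Int.cast_one]
  obtain ⟨q, hq, rfl⟩ := (isRoot_iff hp _ x).1 hx.1
  obtain ⟨a, b, hab, rfl, h1, h2⟩ := hsub q hq hx.2.2
  have hlt : a < b := by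
    rcases lt_or_gt_of_ne hab with h | h
    · exact h
    · obtain ⟨k, hk⟩ := h2 h
      exact absurd (hx.2.1 k) (not_le.2 hk)
  intro y hy
  obtain ⟨c, rfl⟩ := (mem_XX hp hq y).1 hy
  refine ⟨Matrix.SpecialLinearGroup.transvection hab ((s a b : K) * c), tv_mem_UT hab hlt _, ?_⟩
  rw [hφ, ← mul_assoc, he, one_mul]

theorem lo₁ {x : Fin l → ℤ} (hx : x ∈ Cfsg.Agent.Nodes.StabComb.PosJ M.toCoxeterSystem hp.isCartan {k | k ∈ J}) :
    XX D l K (-x) ≤ (_root_.Cfsg.Agent.H162.GaussSL.LT (n + 2) K).map φ := by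
  have he : ∀ a b, (s a b : K) * (s a b : K) = 1 := fun a b => by rw [← Int.cast_mul, T.eps, Int.cast_one]
  obtain ⟨q, hq, hqx⟩ := (isRoot_iff hp _ (-x)).1 hx.1.neg
  have hx' : ∀ k, vec D l q k = - x k := fun k => by rw [hqx, Pi.neg_apply]
  have hx0 : ∀ k, 0 ≤ x k := hx.2.1
  rw [← hqx]
  obtain ⟨a, b, hab, rfl, h1, h2⟩ := hsub q hq (fun k hk => by rw [hx', hx.2.2 k hk, neg_zero])
  have hlt : b < a := by
    rcases lt_or_gt_of_ne hab with h | h
    · obtain ⟨k, hk⟩ := h1 h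
      rw [hx'] at hk
      exact absurd hk (not_lt.2 (neg_nonpos.2 (hx0 k)))
    · exact h
  intro y hy
  obtain ⟨c, rfl⟩ := (mem_XX hp hq y).1 hy
  refine ⟨Matrix.SpecialLinearGroup.transvection hab ((s a b : K) * c), tv_mem_LT hab hlt _, ?_⟩
  rw [hφ, ← mul_assoc, he, one_mul]

theorem UJ_mem₁ {w : ↥(D.group K)} (hw : w ∈ UJ M.toCoxeterSystem hp.isCartan (XX D l K) {k | k ∈ J}) :
    ∃ U ∈ UT (n + 2) K, w = φ U := by
  have h1 : UJ M.toCoxeterSystem hp.isCartan (XX D l K) {k | k ∈ J} ≤ (UT (n + 2) K).map φ :=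
    RGD.Sup_le fun x hx => up₁ hp T hsub hφ hx
  obtain ⟨U, h2, rfl⟩ := h1 hw
  exact ⟨U, h2, rfl⟩

theorem UNJ_mem₁ {w : ↥(D.group K)} (hw : w ∈ UNJ M.toCoxeterSystem hp.isCartan (XX D l K) {k | k ∈ J}) :
    ∃ L ∈ _root_.Cfsg.Agent.H162.GaussSL.LT (n + 2) K, w = φ L := by
  have h1 : UNJ M.toCoxeterSystem hp.isCartan (XX D l K) {k | k ∈ J} ≤ (_root_.Cfsg.Agent.H162.GaussSL.LT (n + 2) K).map φ :=
    RGD.Sup_le fun x hx => by
      have := lo₁ hp T hsub hφ (x := -x) hx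
      rwa [_root_.neg_neg] at this
  obtain ⟨L, h2, rfl⟩ := h1 hw
  exact ⟨L, h2, rfl⟩

end

section

variable {D : ChevalleyDatum} {l : ℕ} {M : CoxeterMatrix (Fin l)} (hp : IsType D l M) {J : List (Fin l)} {n : ℕ}
  {r : Fin (n + 2) → Fin (n + 2) → ℕ} {j : Fin (n + 1) → Fin l} {s : Fin (n + 2) → Fin (n + 2) → ℤ}
  (T : TwoS.Tb hp J n r j s) (hsub : Sub1 D l J n r) {K : Type u} [Field K] [Finite K]
  {φ : Matrix.SpecialLinearGroup (Fin (n + 2)) K →* ↥(D.group K)}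
  (hφ : ∀ a b (hab : a ≠ b) c, φ (Matrix.SpecialLinearGroup.transvection hab c) =
    xc hp (vec D l (r a b)) ((s a b : K) * c))
  {K' : Type} [Field K'] [Finite K'] (i : K →+* K')
  (hl : 0 < l) (hG : IsSimpleGroup ↥(D.group K) ∧ ¬ IsMulCommutative ↥(D.group K))
  (hM : ∀ J : Finset (Fin l), J = ∅ ∨ J = Finset.univ ∨ ∃ a ∈ J, ∃ b, b ∉ J ∧ M a b ≠ 2)
  {s₀ : ↥(D.group K)} (h0 : s₀ ∈ TT D K) (h1 : ∀ a b, a ≠ b → ch hp (vec D l (r a b)) s₀ = 1)

include T hsub hφ hl hG hM h0 h1 in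
/-- **One block and an element of the torus.** -/
theorem tc_of_torus (hK : 3 ≤ Nat.card K) {x₀ : Matrix.SpecialLinearGroup (Fin (n + 2)) K}
    (hx₀ : Cfsg.Agent.H150.MF.NiceM (x₀ : Matrix (Fin (n + 2)) (Fin (n + 2)) K))
    {lam : Fin (n + 2) → K'} (hli : Function.Injective lam)
    (hlc : x₀.1.charpoly.map i = ∏ a, (X - C (lam a)))
    (hout : ∀ q < D.nroots, (∃ k, k ∉ J ∧ vec D l q k ≠ 0) →
      i (ch hp (vec D l q) s₀) * ∏ b, lam b ^ Cfsg.Agent.H482.Ore.Fix.wt D j q b ≠ 1) :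
    TwoCl ↥(D.group K) := by
  obtain ⟨ch', hch⟩ := CharP.exists K'
  have := Fintype.ofFinite K'
  have : Fact ch'.Prime := ⟨(CharP.char_is_prime_or_zero K' ch').resolve_right (CharP.char_ne_zero_of_finite K' ch')⟩
  have hcm : ∀ A, s₀ * φ A = φ A * s₀ := by
    intro A
    have h2 : (MulAut.conj s₀).toMonoidHom.comp φ = φ := by
      refine hom_ext fun a b hab c => ?_
      change s₀ * φ _ * s₀⁻¹ = φ _
      rw [hφ, (act hp (T.rlt a b hab) h0).2, h1 a b hab, one_mul]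
    have h3 := DFunLike.congr_fun h2 A
    change s₀ * φ A * s₀⁻¹ = φ A at h3
    exact mul_inv_eq_iff_eq_mul.1 h3
  obtain ⟨φ', B⟩ := TwoS.exists_Bk hp T hφ i
  have hconj : ∀ g : Matrix.SpecialLinearGroup (Fin (n + 2)) K,
      φ g * (s₀ * φ x₀) * (φ g)⁻¹ = s₀ * φ (g * x₀ * g⁻¹) := by
    intro g
    rw [map_mul, map_mul, map_inv, ← mul_assoc, ← hcm g]
    group
  have hnf : ∀ g : Matrix.SpecialLinearGroup (Fin (n + 2)) K,
      NF (VJ M.toCoxeterSystem hp.isCartan (XX D l K) {k | k ∈ J}) (s₀ * φ (g * x₀ * g⁻¹)) ∧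
      NF (VNJ M.toCoxeterSystem hp.isCartan (XX D l K) {k | k ∈ J}) (s₀ * φ (g * x₀ * g⁻¹)) := by
    intro g
    obtain ⟨h, hh⟩ := Cfsg.Agent.H934.MF.diag_map i (g * x₀ * g⁻¹).1 hli (by rw [charpoly_conj]; exact hlc)
    exact Cfsg.Agent.H482.Ore.Fix.nf_block hp ch' B h0 h1 hh hout
  have hTL : ∀ {x : ↥(D.group K)}, x ∈ TT D K →
      x ∈ LJ M.toCoxeterSystem hp.isCartan (TT D K) (XX D l K) {k | k ∈ J} := fun hx => T_le_LJ hx
  have hmem : ∀ g : Matrix.SpecialLinearGroup (Fin (n + 2)) K,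
      s₀ * φ g ∈ LJ M.toCoxeterSystem hp.isCartan (TT D K) (XX D l K) {k | k ∈ J} := fun g =>
    mul_mem (hTL h0) (TwoS.phi_mem₁ hp T hφ g)
  have hinv : ∀ z : ↥(D.group K), z * (s₀ * φ x₀)⁻¹ * z⁻¹ = (z * (s₀ * φ x₀) * z⁻¹)⁻¹ := fun z => by group
  refine tc_frame hp hl hG hM (J := {k | k ∈ J}) (c₁ := s₀ * φ x₀) (c₂ := (s₀ * φ x₀)⁻¹) fun v hv w hw => ?_
  obtain ⟨L, hL, rfl⟩ := UNJ_mem₁ hp T hsub hφ hv
  obtain ⟨U, hU, rfl⟩ := UJ_mem₁ hp T hsub hφ hw
  obtain ⟨g, h, d1⟩ := Cfsg.Agent.H150.MF.mf_lu hK (by omega) hx₀ hL hU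
  refine ⟨φ g, φ h, ?_, ?_⟩
  · rw [hinv, hconj, hconj]
    have d3 : h * x₀⁻¹ * h⁻¹ = (h * x₀ * h⁻¹)⁻¹ := by group
    rw [d3] at d1
    generalize h * x₀ * h⁻¹ = B at *
    generalize g * x₀ * g⁻¹ = A at *
    calc φ L * φ U = φ A * (φ B)⁻¹ := by rw [← map_mul, d1, map_mul, map_inv]
      _ = s₀ * φ A * s₀⁻¹ * (φ B)⁻¹ := by rw [hcm A, mul_inv_cancel_right]
      _ = s₀ * φ A * (s₀ * φ B)⁻¹ := by rw [hcm B, mul_inv_rev, mul_assoc (s₀ * φ A)]
  · rw [hinv, hconj, hconj]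
    exact ⟨hmem _, inv_mem (hmem _), (hnf g).2, nf_inv (hnf h).1⟩

end

/-! ### The tables -/

/-- the nodes of the Levi subgroup -/
def J4 : List (Fin 6) := [0, 1, 2, 3]

theorem ch4 : ∀ a b : Fin 5, a ≠ b → ∀ k : Fin 6, k ∉ J4 → vec chevE6 6 (r5 a b) k = 0 := by decide +kernel

theorem T4 : TwoS.Tb hp6 J4 3 r5 j5 s5 where
  eps := rt5.2.2.2.1
  sym := rt5.2.2.2.2.1
  up := simp5.1
  neg := rt5.2.2.2.2.2
  rlt := rt5.1
  rJ := ch4
  hom F _ := exists_phi5 F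

theorem sub4 : Sub1 chevE6 6 J4 3 r5 := by decide +kernel

/-- the element of the torus -/
def m4 : Fin 6 → ℤ := ![0, 1, 0, 0, 1, 0]

/-- the exponent of the torus element -/
def ex (q : ℕ) : ℤ := ∑ i : Fin 6, m4 i * chevE6.cartan i q

theorem ex_blk : ∀ a b : Fin 5, a ≠ b → ex (r5 a b) % 2 = 0 := by decide +kernel

/-- the weights of the roots outside the Levi subgroup -/
theorem out4 : ∀ q < chevE6.nroots, (∃ k : Fin 6, k ∉ J4 ∧ vec chevE6 6 q k ≠ 0) →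
    ((∀ k, Cfsg.Agent.H482.Ore.Fix.wt chevE6 j5 q k = 0) ∧ ex q % 2 = 1) ∨
    (∃ a b : Fin 5, a < b ∧ ((∀ k, Cfsg.Agent.H482.Ore.Fix.wt chevE6 j5 q k = ind a b k - ind a b 4) ∨
      ∀ k, Cfsg.Agent.H482.Ore.Fix.wt chevE6 j5 q k = -ind a b k + ind a b 4)) ∨
    ∃ a : Fin 5, ((∀ k, Cfsg.Agent.H482.Ore.Fix.wt chevE6 j5 q k = ind a a k - ind a a 4) ∨
      ∀ k, Cfsg.Agent.H482.Ore.Fix.wt chevE6 j5 q k = -ind a a k + ind a a 4) ∧ ex q % 2 = 1 := by
  intro q hq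
  revert q
  refine @of_decide_eq_true _ ?_ ?_
  · refine @Nat.decidableBallLT _ _ fun q _ => ?_
    refine @instDecidableForall _ _ inferInstance ?_
    refine @instDecidableOr _ _ inferInstance ?_
    refine @instDecidableOr _ _ ?_ ?_
    · refine @Fintype.decidableExistsFintype _ _ (fun a => ?_) _
      refine @Fintype.decidableExistsFintype _ _ (fun b => ?_) _
      infer_instance
    · refine @Fintype.decidableExistsFintype _ _ (fun a => ?_) _
      infer_instance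
  · decide +kernel

/-- **`E₆(3)`** -/
theorem tc_E6_three (K : Type u) [Field K] [Finite K] (hq : Nat.card K = 3) : TwoCl ↥(chevE6.group K) := by
  classical
  have : NeZero 4 := ⟨by norm_num⟩
  obtain ⟨K', _, _, i, z, hK', hz⟩ := exists_gen K 4
  rw [hq] at hK' hz
  have h2 : (2 : K') ≠ 0 := by
    intro h
    have : Fintype K' := Fintype.ofFinite K'
    have h3 : addOrderOf (1 : K') ∣ 2 := addOrderOf_dvd_of_nsmul_eq_zero (by rw [nsmul_one]; exact_mod_cast h)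
    have h4 : addOrderOf (1 : K') ∣ Nat.card K' := addOrderOf_dvd_natCard _
    rw [hK'] at h4
    have h5 : addOrderOf (1 : K') ∣ 1 := by
      have h6 := Nat.dvd_gcd h3 h4
      norm_num at h6
    rw [Nat.dvd_one, AddMonoid.addOrderOf_eq_one_iff] at h5
    exact one_ne_zero h5
  have hne : (-1 : K') ≠ 1 := by
    intro h
    apply h2
    have h3 : (1 : K') + 1 = 0 := by nth_rw 1 [← h]; exact neg_add_cancel 1
    rw [← one_add_one_eq_two, h3]
  have hd : ∀ e : ℕ, z ^ e = 1 ↔ 80 ∣ e := fun e => by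
    rw [← orderOf_dvd_iff_pow_eq_one, hz]
    norm_num
  have hd' : ∀ e : ℕ, z ^ e = -1 → 80 ∣ 2 * e := fun e h => by
    rw [← hd, mul_comm, pow_mul, h, neg_one_sq]
  obtain ⟨x₀, hx1, hx2⟩ := exists_blk i (m := 4) (by norm_num) (α := z ^ 2) (ν := 1)
    (by
      rw [hq, ← pow_mul]
      have h3 : 2 * 3 ^ 4 = 80 * 2 + 2 := by norm_num
      rw [h3, pow_add, (hd _).2 (Dvd.intro _ rfl), one_mul])
    (by
      rw [map_one, one_mul, hq, Fin.prod_univ_four]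
      change (z ^ 2) ^ 3 ^ 0 * (z ^ 2) ^ 3 ^ 1 * (z ^ 2) ^ 3 ^ 2 * (z ^ 2) ^ 3 ^ 3 = 1
      rw [← pow_mul, ← pow_mul, ← pow_mul, ← pow_mul, ← pow_add, ← pow_add, ← pow_add, hd]
      decide)
    (by
      intro a h
      rw [map_one, hq, ← pow_mul] at h
      have h3 := (hd _).1 h.symm
      revert h3
      fin_cases a <;> decide)
  rw [hq] at hx2
  have hl : ∀ b : Fin 5, ev 3 4 (i 1) (z ^ 2) b = z ^ (![0, 2, 6, 18, 54] : Fin 5 → ℕ) b := by
    intro b
    refine Fin.cases ?_ (fun b => ?_) b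
    · change i 1 = z ^ 0
      rw [map_one, pow_zero]
    · change (z ^ 2) ^ 3 ^ (b : ℕ) = _
      rw [← pow_mul]
      fin_cases b <;> rfl
  have hl' : ev 3 4 (i 1) (z ^ 2) = fun b => z ^ (![0, 2, 6, 18, 54] : Fin 5 → ℕ) b := funext hl
  rw [hl'] at hx2
  obtain ⟨lam, hlam⟩ : ∃ lam : Fin 5 → K', lam = fun b => z ^ (![0, 2, 6, 18, 54] : Fin 5 → ℕ) b := ⟨_, rfl⟩
  have hla : ∀ b, lam b = z ^ (![0, 2, 6, 18, 54] : Fin 5 → ℕ) b := fun b => by rw [hlam]
  rw [← hlam] at hx2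
  have hz0 : z ≠ 0 := by
    intro h
    rw [h, orderOf_zero] at hz
    norm_num at hz
  have h0 : ∀ k, lam k ≠ 0 := fun k => by rw [hla]; exact pow_ne_zero _ hz0
  have hprod : ∏ k, lam k = 1 := by
    rw [Fin.prod_univ_five, hla, hla, hla, hla, hla]
    change z ^ 0 * z ^ 2 * z ^ 6 * z ^ 18 * z ^ 54 = 1
    rw [← pow_add, ← pow_add, ← pow_add, ← pow_add, hd]
  have hinj : Function.Injective lam := by
    intro a b hab
    rw [hla, hla] at hab
    by_contra hne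
    have key : ∀ x y : ℕ, x < y → y < 80 → z ^ x ≠ z ^ y := by
      intro x y hxy hy h
      have h3 : z ^ (y - x) = 1 := by
        have h4 : z ^ (y - x) * z ^ x = 1 * z ^ x := by rw [← pow_add, Nat.sub_add_cancel hxy.le, one_mul, h]
        exact mul_right_cancel₀ (pow_ne_zero _ hz0) h4
      have h5 := Nat.le_of_dvd (by omega) ((hd _).1 h3)
      omega
    have hlt : ∀ a : Fin 5, (![0, 2, 6, 18, 54] : Fin 5 → ℕ) a < 80 := by decide
    have hin : ∀ a b : Fin 5, a ≠ b → (![0, 2, 6, 18, 54] : Fin 5 → ℕ) a ≠ (![0, 2, 6, 18, 54] : Fin 5 → ℕ) b := by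
      decide
    rcases lt_or_gt_of_ne (hin a b hne) with h | h
    · exact key _ _ h (hlt b) hab
    · exact key _ _ h (hlt a) hab.symm
  -- the products of two eigenvalues
  have hpair : ∀ a b : Fin 5, a < b → (lam a * lam b) * (lam a * lam b) ≠ 1 := by
    intro a b hab
    rw [hla, hla, ← pow_add, ← pow_add, ne_eq, hd]
    revert a b
    decide
  have hsing : ∀ a : Fin 5, lam a ≠ -1 := by
    intro a h
    by_cases ha : a = 0
    · rw [ha, hla] at h
      change z ^ 0 = -1 at h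
      rw [pow_zero] at h
      exact hne h.symm
    · rw [hla] at h
      have h3 := hd' _ h
      clear h
      revert a
      decide
  have hval : ∀ {q : ℕ} {a b : Fin 5}, ((∀ k, Cfsg.Agent.H482.Ore.Fix.wt chevE6 j5 q k = ind a b k - ind a b 4) ∨
      ∀ k, Cfsg.Agent.H482.Ore.Fix.wt chevE6 j5 q k = -ind a b k + ind a b 4) →
      ∏ k, lam k ^ Cfsg.Agent.H482.Ore.Fix.wt chevE6 j5 q k = (if a = b then lam a else lam a * lam b) ∨
      ∏ k, lam k ^ Cfsg.Agent.H482.Ore.Fix.wt chevE6 j5 q k = (if a = b then lam a else lam a * lam b)⁻¹ := by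
    intro q a b hw
    rcases hw with hw | hw
    · exact .inl (_root_.Cfsg.Agent.H194.Pw.prod_wt h0 hprod hw)
    · right
      have h1 : ∏ k, lam k ^ (-Cfsg.Agent.H482.Ore.Fix.wt chevE6 j5 q k) = if a = b then lam a else lam a * lam b :=
        prod_wt (c := ind a b 4) h0 hprod fun k => by rw [hw]; ring
      rw [← h1]
      simp only [zpow_neg]
      rw [Finset.prod_inv_distrib, inv_inv]
  -- the torus element
  have hch : ∀ q < chevE6.nroots, ch hp6 (vec chevE6 6 q) (sg hp6 m4 (-1 : Kˣ)) = (-1 : K) ^ ex q := by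
    intro q hq
    rw [ch_sg hp6 m4 (-1 : Kˣ) hq, Units.val_zpow_eq_zpow_val, Units.val_neg, Units.val_one]
    rfl
  obtain ⟨φ, hφ⟩ := exists_phi5 K
  refine tc_of_torus hp6 T4 sub4 hφ i (by norm_num) (Cfsg.Agent.S1054.result chevE6 (by simp))
    Cfsg.Agent.Nodes.ChevChart.irr6 (sg_mem hp6 m4 (-1 : Kˣ)) (fun a b hab => ?_) (by omega) hx1 hinj hx2
    fun q hq hk => ?_
  · rw [hch _ (rt5.1 a b hab)]
    exact Even.neg_one_zpow (Int.even_iff.2 (ex_blk a b hab))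
  · rw [hch q hq, map_zpow₀, map_neg, map_one]
    have hpm : (-1 : K') ^ ex q = 1 ∨ (-1 : K') ^ ex q = -1 := by
      rcases Int.even_or_odd (ex q) with h | h
      · exact .inl (Even.neg_one_zpow h)
      · exact .inr (Odd.neg_one_zpow h)
    rcases out4 q hq hk with ⟨hw, he⟩ | ⟨a, b, hab, hw⟩ | ⟨a, hw, he⟩
    · rw [Odd.neg_one_zpow (Int.odd_iff.2 he)]
      simp only [hw, zpow_zero, Finset.prod_const_one, mul_one]
      exact hne
    · have hv := hval hw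
      rw [if_neg hab.ne] at hv
      intro h
      have h3 := congrArg (fun x : K' => x * x) h
      simp only [mul_one] at h3
      have h4 : (-1 : K') ^ ex q * (-1 : K') ^ ex q = 1 := by rcases hpm with h | h <;> rw [h] <;> simp
      rw [mul_mul_mul_comm, h4, one_mul] at h3
      rcases hv with hv | hv
      · rw [hv] at h3
        exact hpair a b hab h3
      · rw [hv, ← mul_inv, inv_eq_one] at h3
        exact hpair a b hab h3
    · rw [Odd.neg_one_zpow (Int.odd_iff.2 he)]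
      have hv := hval hw
      rw [if_pos rfl] at hv
      intro h
      rcases hv with hv | hv
      · rw [hv, neg_one_mul] at h
        exact hsing a (by rw [← h, _root_.neg_neg])
      · rw [hv, neg_one_mul, neg_eq_iff_eq_neg, inv_eq_iff_eq_inv] at h
        exact hsing a (by rw [h, inv_neg, inv_one])

/-- **`E₆(q)`, `q ≥ 3`** -/
theorem tc_E6 (K : Type u) [Field K] [Finite K] (hq : 3 ≤ Nat.card K) : TwoCl ↥(chevE6.group K) := by
  rcases Nat.lt_or_ge 3 (Nat.card K) with h | h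
  · exact tc_E6_four K h
  · exact tc_E6_three K (le_antisymm h hq)

end Cfsg.Agent.H194.TC
end

-- part: H584/Ore/ESixTC
section
/-!
# `E₆(2)`, S4173: one fixed class of order dividing `21` (helper584)

* `one_class` : the square of one real class is the whole group;
* `tc_E6_two` : the row `E₆(2)` of S4173.
-/

set_option autoImplicit false

namespace Cfsg.Agent.H584.Ore.ESixTC

open Cfsg.Lie Cfsg.Agent.H584.Ore.ESix

universe u

/-- **One class.** -/
theorem one_class {K : Type u} [Field K] (hK : Nat.card K = 2) : ∃ c z : ↥(chevE6.group K),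
    z * z = 1 ∧ z * c * z⁻¹ = c⁻¹ ∧ orderOf c ∣ 21 ∧
    ∀ g, ∃ x y : ↥(chevE6.group K), g = (x * c * x⁻¹) * (y * c * y⁻¹) := by
  obtain ⟨e⟩ := exists_iso hK
  let f := Cfsg.Agent.ChevalleyStructure.FieldIso.groupEquiv chevE6 e
  obtain ⟨c, z, h1, h2, h3, h⟩ := Cfsg.Agent.H584.Ore.ESixTwo.exists_data
  refine ⟨f c, f z, by rw [← map_mul, h1, map_one], by rw [← map_mul, ← map_inv, ← map_mul, h2, map_inv],
    (orderOf_map_dvd f.toMonoidHom c).trans h3, fun g => ?_⟩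
  obtain ⟨x, y, e1⟩ := h (f.symm g)
  refine ⟨f x, f y, ?_⟩
  rw [← map_inv, ← map_mul, ← map_mul, ← map_inv, ← map_mul, ← map_mul, ← map_mul, ← e1]
  exact (f.apply_symm_apply g).symm

/-- **The row `E₆(2)` of S4173.** -/
theorem tc_E6_two {K : Type u} [Field K] (hK : Nat.card K = 2) : Cfsg.Agent.H140.TC.TC ↥(chevE6.group K) := by
  obtain ⟨c, z, -, -, -, h⟩ := one_class hK
  exact ⟨c, c, fun g _ => h g⟩

theorem tc_iso {S : Type*} [Group S] {K : Type u} [Field K] (hK : Nat.card K = 2) (e : S ≃* ↥(chevE6.group K)) :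
    Cfsg.Agent.H140.TC.TC S :=
  (tc_E6_two hK).of_equiv e

end Cfsg.Agent.H584.Ore.ESixTC
end

-- part: H194/TC/Rows
section
/-!
# S4173: the row `E₆(q)`, all `q`
-/

set_option autoImplicit false

namespace Cfsg.Agent.H194.TC

open Cfsg.Lie

/-- **`E₆(q)`, all `q`** -/
theorem tc_e6 {S : Type*} [Group S] (h : Lie.IsoChevE6 S) : Cfsg.Agent.H140.TC.TC S := by
  obtain ⟨F, i1, i2, ⟨e⟩⟩ := h
  have h1 : 1 < Nat.card F := Finite.one_lt_card
  rcases Nat.lt_or_ge 2 (Nat.card F) with h | h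
  · exact Cfsg.Agent.H140.TC.TC.of_equiv e (tc_E6 F h)
  · exact Cfsg.Agent.H584.Ore.ESixTC.tc_iso (K := F) (le_antisymm h h1) e

end Cfsg.Agent.H194.TC
end

private theorem dce_6b35f7f14a38 : _root_.True := by
  try have : _root_.True := by simp only [_root_.Cfsg.Agent.H374.TC.Op.eq.eq_1]
  try have : _root_.True := by simp only [_root_.Cfsg.Agent.H374.TC.Op.chk.eq_1]
  try have : _root_.True := by simp only [_root_.Cfsg.Agent.H374.TC.tstF.eq_1]
  try have : _root_.True := by simp only [_root_.Cfsg.Agent.H374.TC.p8.eq_1]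
  try have : _root_.True := by simp only [_root_.Cfsg.Agent.H374.TC.Op.sb.eq_1]
  try have : _root_.True := by simp only [_root_.Cfsg.Agent.H374.TC.x8.eq_1]
  try have : _root_.True := by simp only [_root_.Cfsg.Agent.H374.TC.Op.cb.eq_1]
  try have : _root_.True := by simp only [_root_.Cfsg.Agent.H374.TC.p4.eq_1]
  try have : _root_.True := by simp only [_root_.Cfsg.Agent.H374.TC.x4.eq_1]
  try have : _root_.True := by simp only [_root_.Cfsg.Agent.H374.TC.fx.eq_1]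
  try have : _root_.True := by simp only [_root_.Cfsg.Agent.H374.TC.bt.eq_1]
  try have : _root_.True := by simp only [_root_.Cfsg.Agent.H374.TC.Op.chkE.eq_1]
  exact _root_.True.intro
end

-- part: H459/TC/Exc
section
prune_inst 0x420000048c0020000000000220000440000013200000800080002000348020200000840008000101202000100010008011000100200000000000400000000000088000420400008400088000004000000000000000000000000000000000000000000000
set_option linter.all false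
open scoped Cfsg.Agent.FastGrp

-- part: H937/TC/Wraps
section
/-!
# S4173: rows which follow from landed statements (helper937)

`tc_sz`, `tc_ree`, `tc_g2`, `tc_d4`, `tc_2f4`, `tc_tits` and `F₄, E₆, E₇, E₈` over a field with at least nine elements.
-/

set_option autoImplicit false

namespace Cfsg.Agent.H937.TC

open Cfsg.Agent.H140.TC

universe u

theorem of_th {G : Type*} [Group G] (h : H538.Ore.Th G) : TC G := by
  obtain ⟨x, -, h⟩ := h.ex
  exact ⟨x, x, h⟩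

variable {G : Type*} [Group G]

theorem tc_sz (h : Cfsg.Lie.IsoSuzuki G) : TC G := of_th (H538.Ore.th_isoSuzuki h)
theorem tc_ree (h : Cfsg.Lie.IsoRee G) : TC G := of_th (H538.Ore.th_isoRee h)
theorem tc_g2 (h : Cfsg.Lie.IsoChevG2 G) : TC G := of_th (H538.Ore.th_isoChevG2 h)
theorem tc_d4 (h : Cfsg.Lie.Iso3D4 G) : TC G := of_th (H538.Ore.th_iso3D4 h)
theorem tc_2f4 (h : Cfsg.Lie.Iso2F4 G) : TC G := of_th (H143.Ore.th_iso2F4 h)
theorem tc_tits (h : Cfsg.Lie.IsoTits G) : TC G := of_th (H143.Ore.th_isoTits h)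

section exc

variable {F : Type u} [Field F] [Fintype F]

end exc

end Cfsg.Agent.H937.TC
end

-- part: H122/TC/Rows
section
/-!
# S4173: the rows `E₇(q)`, `E₈(q)` (helper122)
-/

set_option autoImplicit false

namespace Cfsg.Agent.H122.TwoC

open Cfsg.Lie Cfsg.Agent.H140.TC

/-- **`E₇(q)`.** -/
theorem tc_e7 {S : Type*} [Group S] (h : Lie.IsoE7 S) : TC S := by
  obtain ⟨F, i1, i2, ⟨e⟩⟩ := h
  exact TC.of_equiv e (tw_E7 (K := F))

/-- **`E₈(q)`.** -/
theorem tc_e8 {S : Type*} [Group S] (h : Lie.IsoE8 S) : TC S := by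
  obtain ⟨F, i1, i2, ⟨e⟩⟩ := h
  exact TC.of_equiv e (tw_E8 (K := F))

end Cfsg.Agent.H122.TwoC
end

-- part: H928/TC/Sl3
section
/-!
# `SL_3(2)`, `SL_3(3)`: one class of irreducible elements up to inversion (S4173)

* `FC F` : there is `x₀ ∈ SL_3(F)` with irreducible characteristic polynomial such that every `L U` is `X Y` with
  characteristic polynomials of `X`, `Y` equal to that of `x₀` or `x₀⁻¹`;
* `fc_small` : `FC F` for `|F| ∈ {2, 3}`.
-/

set_option autoImplicit false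
set_option linter.unusedSectionVars false

namespace Cfsg.Agent.H928.TC.Sl3

open Matrix Polynomial Cfsg.Agent.H162.GaussSL Cfsg.Agent.H374.Ore.Sl3

/-- one class up to inversion -/
def FC (F : Type*) [Field F] : Prop :=
  ∃ x₀ : _root_.Matrix.SpecialLinearGroup (Fin 3) F, Irreducible x₀.1.charpoly ∧ ∀ L ∈ LT 3 F, ∀ U ∈ UT 3 F,
    ∃ X Y : _root_.Matrix.SpecialLinearGroup (Fin 3) F, L * U = X * Y ∧
      (X.1.charpoly = x₀.1.charpoly ∨ X.1.charpoly = (x₀⁻¹).1.charpoly) ∧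
      (Y.1.charpoly = x₀.1.charpoly ∨ Y.1.charpoly = (x₀⁻¹).1.charpoly)

/-- the type of the first matrix -/
def ty (p m s r : ℕ) (e : ℕ → ℕ) : Bool :=
  ((tn e % p == s % p) && (sn m e % p == r % p)) || ((tn e % p == r % p) && (sn m e % p == s % p))

/-- the table -/
def T3F : ℕ :=
  0xe23a9657765811f3256c24dd1b405753101d5544c4877d4244b90b0b0b5cbaa0cc02847ddabaae70715ba6eaee245f71f412343ce0b499e007d5ae1e9892dc3cd88d76aef54dbffa2a16135eb77410c4eae700df9d87aa90896f2fdbfdd5d5026d4a90a1d8d0b3fc6b77fec128040deedff90446d84e3b0f0dbd95613efc6d16f990a595e6f84caef7e0d710ec561d0dbc599c5a0f1147cab06b57eab69ec9fa4a397786d536728eb018c46bb3c13604650b55f0fccd3b1a7f40ce837a26d3e5a584a0cacbcaf5b6d3184d03569381a1cb238ee8113d0453c4d13851e38025bd1fccfb221406bccd4aef23e0d912a1279333d4293ea1b213a537487fa92cae543ef64bf0b0d181df80ec9b0e0766533a7db9b0d01db5e1acb074e562102c2348207815834fc08e81ff1dc16abf8dd89567d919a8898733eb8d39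6962b91b212773342028c5aa8faff4896baf017ca049aec7dc5fa59cac7c823bc7c73fa269ff7e5b31fd49297e07a0c29c1abd7aa1400a2e4f867d5b23411dcf0ebdc97ef704048f6e230e684a699aa66ae3b976c5ebc81b214775f521a3718425828c9ff39d1b316a37e75258813afeeb03367257090786582cc9cd786d528d3b270fd4da947e1dfd555348f8b4e2dfe0370cc7095375eccc2226d7964217c97dbcf0b1857de3c87f8632bd43d361252bfcf3fee197709f776fb1514797c702580247a6059af63a92e827484a307181f8fe9029becdf2c4d037be400ed9f7ee04982559ae18aa314cbb5e55a82834ecd64a76b3d2a3fee4a9944c095496a7ece0565874a178bb5ac30157feb1a8b7458e1e7755df4c4ea068387aefb19e2bd602eff6e81ed1027d361d98bd9da8bd63b827f19a1a1cb0750a8156ec2fb73ea3de2e3b0efe52cca2cfa446f71cf7504b784229daa91c06c2a04307faa0af262ee56a3e26a23b68a17ec5fa5a12de99181694ecacd873ef22db4016a22352cad7250ed516ffaca328d6d629ab8a632067fb7400e37f3d5b0bf5ebe92d10442d1573b323bc306fba8c82d4c8680d2a18de68a77cc1c5bb1fce35cdb33edd12f950e6f3d1a1fa6be4b5525ef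f04bf43f789002c4ef3839099ffcfbb180bf83ad712411daf89e66501fce2fd942f9c403c349144005325d25c09b2ff0542ae99e503ae3d2f8fb18731e44794fd50428567986884f3f21f3bae962c9edbe855e9d2a6a37546b6a591e5393f8bce0c79e11ff197e805a732323c1e1ab07479d26e5a20e679c7211464fc0c4c035fc5d5d98981be6de27ea97e31203a2c3de6b0e09059834150b16bab2c22914e9f0cf1408caed5aa1760f91a3b5bec835316cda3bc10693d02dd499a6efd18c38560cca4005c245e2539af6a4fd245ec54a9549a05719da1f66fb14ff373d2566c90c8399fec61aee472492f05ff239a0b38030a90ca6c62d572030c5a36c82e4566b6715e660f12c3943d95373ada17d4f243b89fe5f4965f60cacb1ec45870e9bc97fe8afbe9cffb522f9cf64e6343727e31b2e31a3f2f950d927b3f38afba49a3c16799cd0c80be363fb1cea9732da07fcff92222f55ea9e00adf41eb387642e26e92823296a9222eeddd4fc1b3a3dbcabf6c544fc41ccf58c2639e2d32a411d2b96ea4121d31ded27511d051842c82975bd28a27bf9d82b22b6800e25c9582ffa9508d77c66e3d8617fe719bc95cc055d55e5db6c826701300294f2e00c9d9a777255b9cc0566b1470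6bb84166a4574e37289f35799062b772d1139a5b1f13fb4f30485c13f5c06e1ba808ee0a19bf27c4dbe6bb6c1348275ba519b43252bc8dec6d5b0f3c16e00dc17d1740a175e09ab3fac2091c9ecccc70d7134a5b8630465a973cf7824452c6b6bd4bb83a1bd459c441b5ead642afc29f1dd7e8436f3d28da37182cdf2a8122175ce013ab26316f14912519ecf321611a975c504afc4adfb4a81cd4976f87a3c0cc05243f67fdbec334978dac23df798be29f7043e68f1b516a2fec0765d862f65cddf3d0f1cdf2d702bbc64427e8ce5b0149e871df949827e1eae1d57d012aeb2c8369b168de33bbf9f6d02e6c3dc12a6ce40cb3e0c5f31ed3e7a5bfe8c9556e5afaa15e30b776fbe9053e1acf04eb70a577b1edb1f95b4f443813799c3aa584c7a9822614cabbe9b5675d0729690f89812151c52911926fb38f0348707ea072083b6d772c646b518b517b5ea448c9f884f4e44ce378d121ac00d7363f004ab3226d9b39413b6b39c3ff573e14be4d9ea7ed6efc14b20a4997177d284ace4a72294d43ed31c851c7492c105ec047b12d520cc29885cf08c0e61761f65fcbca4d20462897166fb031a74085c074ad25e4e493fffbd7e8d5f834b1d40a5475c17ccce74e5352684c38b8d37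c1a21505147ea6d5cbe57aff86dc49944b738f8445483724488073efe8d91bc5a8a63c13c00844b8e5f86faae832543de6a781b0aa011137b2725a478ee62fdef56c682d682ee5e5cea8f59708b186844fff0048179f5a52b79ef7d241f8431cd1dd8a49d6590a5b10901e6ae6e982edf0f2404fd198156e89f790a650597faf4d2204ac513b5665185e13a39bf1b2ca0b54feff3c6c6e93b8f666efb267b655d898163c8993a5a8bd5c7b94967f49584e9ab352d9488c170c0df58c4a479cc38035ea593582eca202ca9d744a749c05670eada14481e8eaed8457488e595c92e48f3d3f3721ee0ccfa6cac0d18625c4c83e11d4499bc3843ecc32b44657c5ea4a0406d368790e263457ebf801764ee58dad44f4b5faccaa46ed714bc92321452a7c479cd02e38aed31823fb657a4337171ae4931e60f4f6b8d586806de37ac5b5978263259b478094d0663c1dff4ec4dacc5ef7909e118c2120471cceda66d7cd89a7f587919a1c9183d376f1aaa68c25038327ce1f708ad6c1bbb1e350a8aa9f7b96490936f472d5b690d7490cc130c2703cf38f2ed1926537ca1652be14cca9152987c5a6b6a906a496ad7e4ec99b1032dc7e203b94e0889480f17b8d97918e29963b017ecedb7c714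ee96ec72f79e387b2d9ae2e64fde5b6b52f9f835774312c7f81a319f1fcc0865b92c1776c1e4458d6a15a551be9569ecbb08255bfa8747b377b44a76af02892d6985e96e63946d8b7f1e4fd451f4d42f7f4896e9442addc16721b7feee723406256aae3f262cf4efb412d8cd4fd19df4e697495a2b4e16318c45e6af5a19320755fc5bc0edd2af0825c619146635bb388e0fda7a5b6f177bbaa514bd8c707e132fa2f219fda139b7246ae9fa76f06543747efc798fdb99bbfcc2afdbc75a199eeffc5eacce6f32eba08bdb48a316ed24b382707571506a6bdd0c21ac79cd8d52a1e9d87a8b1f93fa8f200061301ce3e701f50989ac77e50c342b1bd5f1247e751214004fe073b3bc4c7393526ae694d456cb696b8abe84412c7a2735c4426a7d0e5eaf027ccdde99454312119b9036f8fca869e4a2c32ff4e5819e48d25afe93d7db42a69e412e690658fe69546f9733c22bf7bc76365fd39b6cf680a2180471ae4ffda6cd2377b2e1a39f8142255f6c899abdf0e35f19399a2addd267ef4448caebfcaa1dcb55bb93d8f9e769a1122e87bab0ec8f120e80cc8f0ea5b9a04d052fa1fc0c3f82c5bd82adc684f9fb6014b9ecb801573847f3cc5f6df9d5acbda95e35428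

/-- the test for number `i` -/
def tstF (i : ℕ) : Bool :=
  tst 3 2 (dg 3 i 0) (dg 3 i 1) (dg 3 i 2) (dg 3 i 3) (dg 3 i 4) (dg 3 i 5) (dg 3 (T3F / (3 ^ 18) ^ i % 3 ^ 18)) &&
    ty 3 2 0 2 (dg 3 (T3F / (3 ^ 18) ^ i % 3 ^ 18))

theorem allF : (List.range 729).all tstF = true := by decide +kernel

section

variable {K : Type*} [Field K]

/-- the type of an element -/
def Fit (s r : K) (A : Matrix (Fin 3) (Fin 3) K) : Prop := (tr3 A = s ∧ ms3 A = r) ∨ (tr3 A = r ∧ ms3 A = s)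

theorem Fit.charpoly {s r : K} {A B : _root_.Matrix.SpecialLinearGroup (Fin 3) K} (hA : Fit s r A.1) (hB : Fit s r B.1) :
    B.1.charpoly = A.1.charpoly ∨ B.1.charpoly = (A⁻¹).1.charpoly := by
  have h1 : B.1.charpoly = X ^ 3 - C (tr3 B.1) * X ^ 2 + C (ms3 B.1) * X - C 1 := by
    rw [charpoly3, B.2]
  have h2 : A.1.charpoly = X ^ 3 - C (tr3 A.1) * X ^ 2 + C (ms3 A.1) * X - C 1 := by
    rw [charpoly3, A.2]
  have h3 := charpoly_inv3 A
  rcases hA with ⟨a1, a2⟩ | ⟨a1, a2⟩ <;> rcases hB with ⟨b1, b2⟩ | ⟨b1, b2⟩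
  · left; rw [h1, h2, a1, a2, b1, b2]
  · right; rw [h1, h3, a1, a2, b1, b2]
  · right; rw [h1, h3, a1, a2, b1, b2]
  · left; rw [h1, h2, a1, a2, b1, b2]

variable {p : ℕ} [CharP K p]

theorem soundF {m a b c x y z s r : ℕ} (hm : (m : K) = -1)
    (hall : ∀ k : K, ∃ n < p, (n : K) = k) {e : ℕ → ℕ} (h : tst p m a b c x y z e = true) (ht : ty p m s r e = true) :
    ∃ A B : _root_.Matrix.SpecialLinearGroup (Fin 3) K,
      A.1 * B.1 = !![1, (x : K), (y : K); (a : K), a * x + 1, a * y + z; (b : K), b * x + c, b * y + c * z + 1] ∧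
      Irreducible A.1.charpoly ∧ Fit (s : K) r A.1 ∧ Fit (s : K) r B.1 := by
  simp only [ty, Bool.and_eq_true, Bool.or_eq_true, beq_iff_eq] at ht
  simp only [tst, Bool.and_eq_true, Bool.or_eq_true, beq_iff_eq, bne_iff_ne, List.all_eq_true, List.mem_range] at h
  obtain ⟨⟨⟨⟨⟨⟨⟨⟨⟨⟨⟨⟨⟨h00, h01⟩, h02⟩, h10⟩, h11⟩, h12⟩, h20⟩, h21⟩, h22⟩, hdA⟩, hdB⟩, hrA⟩, hrB⟩, hty⟩ := h
  have dA : (_root_.Cfsg.Agent.H374.Ore.Sl3.mt K e).det = 1 := by
    have := cast_eq (K := K) hdA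
    push_cast at this
    rw [hm] at this
    rw [Matrix.det_fin_three]
    simp only [Cfsg.Agent.H374.Ore.Sl3.mt]
    norm_num only [_root_.Fin.coe_ofNat_eq_mod, _root_.MulZeroClass.mul_zero, _root_.add_zero, _root_.mul_one, _root_.zero_add]
    linear_combination this
  have dB : (_root_.Cfsg.Agent.H374.Ore.Sl3.mt K fun n => e (9 + n)).det = 1 := by
    have := cast_eq (K := K) hdB
    push_cast at this
    rw [hm] at this
    rw [Matrix.det_fin_three]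
    simp only [Cfsg.Agent.H374.Ore.Sl3.mt]
    norm_num only [_root_.Fin.coe_ofNat_eq_mod, _root_.MulZeroClass.mul_zero, _root_.add_zero, _root_.mul_one, _root_.zero_add]
    linear_combination this
  have i1 := irr_mt (p := p) hm hall dA hrA
  have g00 := cast_eq (K := K) h00
  have g01 := cast_eq (K := K) h01
  have g02 := cast_eq (K := K) h02
  have g10 := cast_eq (K := K) h10
  have g11 := cast_eq (K := K) h11
  have g12 := cast_eq (K := K) h12
  have g20 := cast_eq (K := K) h20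
  have g21 := cast_eq (K := K) h21
  have g22 := cast_eq (K := K) h22
  push_cast at g00 g01 g02 g10 g11 g12 g20 g21 g22
  have hmul := mul_mt e (fun n => e (9 + n)) g00 g01 g02 g10 g11 g12 g20 g21 g22
  have hA : Fit (s : K) r (_root_.Cfsg.Agent.H374.Ore.Sl3.mt K e) := by
    unfold Fit
    rw [tr3_mt, ms3_mt hm]
    rcases ht with ⟨h1, h2⟩ | ⟨h1, h2⟩
    · exact Or.inl ⟨cast_eq (K := K) h1, cast_eq (K := K) h2⟩
    · exact Or.inr ⟨cast_eq (K := K) h1, cast_eq (K := K) h2⟩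
  refine ⟨⟨_root_.Cfsg.Agent.H374.Ore.Sl3.mt K e, dA⟩, ⟨_root_.Cfsg.Agent.H374.Ore.Sl3.mt K fun n => e (9 + n), dB⟩, hmul, i1, hA, ?_⟩
  rcases hty with ⟨h1, h2⟩ | ⟨h1, h2⟩
  · have g1 : tr3 (_root_.Cfsg.Agent.H374.Ore.Sl3.mt K fun n => e (9 + n)) = tr3 (_root_.Cfsg.Agent.H374.Ore.Sl3.mt K e) := by
      rw [tr3_mt, tr3_mt]
      exact cast_eq (K := K) h1
    have g2 : ms3 (_root_.Cfsg.Agent.H374.Ore.Sl3.mt K fun n => e (9 + n)) = ms3 (_root_.Cfsg.Agent.H374.Ore.Sl3.mt K e) := by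
      rw [ms3_mt hm, ms3_mt hm]
      exact cast_eq (K := K) h2
    unfold Fit
    rw [g1, g2]
    exact hA
  · have g1 : tr3 (_root_.Cfsg.Agent.H374.Ore.Sl3.mt K fun n => e (9 + n)) = ms3 (_root_.Cfsg.Agent.H374.Ore.Sl3.mt K e) := by
      rw [tr3_mt, ms3_mt hm]
      exact cast_eq (K := K) h1
    have g2 : ms3 (_root_.Cfsg.Agent.H374.Ore.Sl3.mt K fun n => e (9 + n)) = tr3 (_root_.Cfsg.Agent.H374.Ore.Sl3.mt K e) := by
      rw [ms3_mt hm, tr3_mt]
      exact cast_eq (K := K) h2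
    unfold Fit
    rw [g1, g2]
    rcases hA with ⟨a1, a2⟩ | ⟨a1, a2⟩
    · exact Or.inr ⟨a2, a1⟩
    · exact Or.inl ⟨a2, a1⟩

end

/-- the type in `SL_3(3)` -/
theorem fit_three {K : Type*} [Field K] [Finite K] (hK : Nat.card K = 3) {L U : _root_.Matrix.SpecialLinearGroup (Fin 3) K}
    (hL : L ∈ LT 3 K) (hU : U ∈ UT 3 K) : ∃ A B : _root_.Matrix.SpecialLinearGroup (Fin 3) K, L * U = A * B ∧
      Irreducible A.1.charpoly ∧ Fit (0 : K) 2 A.1 ∧ Fit (0 : K) 2 B.1 := by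
  have : Fact (Nat.Prime 3) := ⟨Nat.prime_three⟩
  obtain ⟨hch, hall⟩ := exists_cast hK
  have hm : ((2 : ℕ) : K) = -1 := by
    have h3 : ((3 : ℕ) : K) = 0 := CharP.cast_eq_zero K 3
    push_cast at h3 ⊢
    linear_combination h3
  obtain ⟨a, ha, ea⟩ := hall (L.1 1 0)
  obtain ⟨b, hb, eb⟩ := hall (L.1 2 0)
  obtain ⟨c, hc, ec⟩ := hall (L.1 2 1)
  obtain ⟨x, hx, ex⟩ := hall (U.1 0 1)
  obtain ⟨y, hy, ey⟩ := hall (U.1 0 2)
  obtain ⟨z, hz, ez⟩ := hall (U.1 1 2)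
  obtain ⟨i, hi, h0, h1, h2, h3, h4, h5⟩ := enc (Or.inr rfl) ha hb hc hx hy hz
  have h := allF
  rw [List.all_eq_true] at h
  have h6 := h i (List.mem_range.2 (by norm_num at hi; exact hi))
  rw [tstF, h0, h1, h2, h3, h4, h5, Bool.and_eq_true] at h6
  obtain ⟨A, B, h7, h8, h9, h10⟩ := soundF (K := K) (p := 3) hm hall h6.1 h6.2
  refine ⟨A, B, Subtype.ext ?_, h8, by exact_mod_cast h9, by exact_mod_cast h10⟩
  rw [mul_LU hL hU, ← ea, ← eb, ← ec, ← ex, ← ey, ← ez]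
  exact h7.symm

theorem fc_three {K : Type*} [Field K] [Finite K] (hK : Nat.card K = 3) : FC K := by
  obtain ⟨A₀, B₀, -, h1, h2, -⟩ := fit_three hK (one_mem (LT 3 K)) (one_mem (UT 3 K))
  refine ⟨A₀, h1, fun L hL U hU => ?_⟩
  obtain ⟨A, B, e, -, g1, g2⟩ := fit_three hK hL hU
  exact ⟨A, B, e, h2.charpoly g1, h2.charpoly g2⟩

theorem fit_two {K : Type*} [Field K] [Finite K] (hK : Nat.card K = 2) {A : _root_.Matrix.SpecialLinearGroup (Fin 3) K}
    (h : Irreducible A.1.charpoly) : Fit (1 : K) 0 A.1 := by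
  have : Fact (Nat.Prime 2) := ⟨Nat.prime_two⟩
  obtain ⟨hch, hall⟩ := exists_cast hK
  have hd : A.1.charpoly.natDegree = 3 := by
    rw [Matrix.charpoly_natDegree_eq_dim, Fintype.card_fin]
  have h1 : A.1.charpoly.eval 1 ≠ 0 := by
    intro h0
    have h2 := Polynomial.degree_eq_one_of_irreducible_of_root h (x := 1) h0
    have h3 := Polynomial.natDegree_eq_of_degree_eq_some h2
    rw [hd] at h3
    norm_num at h3
  rw [charpoly3, A.2] at h1
  simp only [eval_sub, eval_add, eval_mul, eval_pow, eval_X, eval_C] at h1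
  have h01 : ∀ k : K, k = 0 ∨ k = 1 := by
    intro k
    obtain ⟨n, hn, rfl⟩ := hall k
    interval_cases n
    · left; simp
    · right; simp
  rcases h01 (tr3 A.1) with ht | ht <;> rcases h01 (ms3 A.1) with hs | hs
  · exfalso; apply h1; rw [ht, hs]; ring
  · exact Or.inr ⟨ht, hs⟩
  · exact Or.inl ⟨ht, hs⟩
  · exfalso; apply h1; rw [ht, hs]; ring

theorem fc_two {K : Type*} [Field K] [Finite K] (hK : Nat.card K = 2) : FC K := by
  obtain ⟨A₀, B₀, -, h1, -⟩ := m3 (Or.inl hK) (one_mem (LT 3 K)) (one_mem (UT 3 K))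
  refine ⟨A₀, h1, fun L hL U hU => ?_⟩
  obtain ⟨A, B, e, g1, g2, -⟩ := m3 (Or.inl hK) hL hU
  exact ⟨A, B, e, (fit_two hK h1).charpoly (fit_two hK g1), (fit_two hK h1).charpoly (fit_two hK g2)⟩

theorem fc_small {K : Type*} [Field K] [Finite K] (hK : Nat.card K = 2 ∨ Nat.card K = 3) : FC K := by
  rcases hK with h | h
  · exact fc_two h
  · exact fc_three h

end Cfsg.Agent.H928.TC.Sl3
end

-- part: H928/TC/TwSmall
section
/-!
`²E₆(2)`, `²E₆(3)`: two fixed classes (S4173). The elements `s f(X)`, `s f(X⁻¹)` are conjugate.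
-/

set_option autoImplicit false
set_option linter.unusedSectionVars false

namespace Cfsg.Agent.H928.TC.TwSmall

open CoxeterSystem Cfsg.Agent.ChevalleyStructure.CoxeterGeom Cfsg.Agent.Tits.Roots Cfsg.Agent.Tits.Core
  Cfsg.Agent.Nodes Cfsg.Agent.Nodes.Reps Cfsg.Agent.Nodes.BNOf Cfsg.Agent.Nodes.RGDLib Cfsg.Agent.Nodes.Bruhat
  Cfsg.Agent.Nodes.OppDec Cfsg.Agent.Nodes.LeviDec Cfsg.Agent.Nodes.StabComb Cfsg.Agent.Nodes.KindChev
  Cfsg.Agent.Nodes.ChevCls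
  Cfsg.Agent.OddHalf.NI.ModelChev
  Cfsg.Agent.H162.GaussDec Cfsg.Agent.H162.GaussLevi Cfsg.Agent.H162.GaussSL Cfsg.Agent.H162.GaussReg
  Cfsg.Agent.H928.Ore.Frame Cfsg.Agent.H928.Ore.Fix Cfsg.Agent.H928.Ore.Block Cfsg.Agent.H928.Ore.TwE
  Cfsg.Agent.H928.Ore.TwS Cfsg.Agent.H928.Ore.TwF Cfsg.Agent.H928.Ore.TwN Cfsg.Agent.H928.Ore.TwRow
open Cfsg.Lie Cfsg.Agent.ChevalleyStructure Cfsg.Agent.ChevalleyStructure.Elts
  Cfsg.Agent.ChevalleyStructure.NPerm
  Cfsg.Agent.ChevalleyStructure.CoxeterGeomTypes Cfsg.Agent.Nodes.RGDChev Cfsg.Agent.KFacts.RgdChevCoord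
open Cfsg.Agent.Nodes.RGDTwGen Cfsg.Agent.Nodes.RGDFold Cfsg.Agent.Nodes.RGDTwE6
open Cfsg.Agent.Nodes.RGDFoldSL (Fx mem_Fx)
open Cfsg.Agent.H162.GaussExcMain (r6 rt6 exists_hom_D w6)
open Cfsg.Agent.H928.TC.Sl3 (FC)
open scoped MatrixGroups

universe u

/-- **The row `²E₆(q)`**, from one class of irreducible elements of `SL₃(q)` up to inversion. -/
theorem row_fc {K : Type u} [Field K] [Fintype K] {q : ℕ} (hq : IsPrimePow q) (hK : Fintype.card K = q ^ 2)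
    (hfc : ∀ φ : K →+* K, (∀ t, φ t = t ^ q) → FC (Fx φ 1)) :
    ∃ a b : ↥(twistedE6 K q), ∀ g : ↥(twistedE6 K q), g ≠ 1 → ∃ x y : ↥(twistedE6 K q),
      g = (x * a * x⁻¹) * (y * b * y⁻¹) := by
  obtain ⟨φ, hφ, hqq⟩ := TwE6Basic.exists_frob hq hK
  obtain ⟨p, hpc⟩ := CharP.exists K
  have : Fact p.Prime := ⟨(CharP.char_is_prime_or_zero K p).resolve_right (CharP.char_ne_zero_of_finite K p)⟩
  have hfin : Finite (GL chevE6.Idx K) := by
    have : Finite (Matrix chevE6.Idx chevE6.Idx K) := inferInstance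
    infer_instance
  have : Finite ↥(twistedE6 K q) := inferInstance
  have hZ := Cfsg.Agent.Nodes.ChevChart.center_eq_bot (Cfsg.Agent.S1054.result (F := K) chevE6 (by simp))
  have R := RGDTwE6.rgd CoxeterMatrix.F₄.toCoxeterSystem hφ hqq p
  have : Finite CoxeterMatrix.F₄.Group := Cfsg.Agent.Nodes.RGDFold.finite_W (hp := RGDTwE6.hp)
    CoxeterMatrix.F₄.toCoxeterSystem RGDTwE6.isCartan RGDTwE6.foldData
  have hS := Cfsg.Agent.S1070.result hq hK
  have := hS.1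
  obtain ⟨P, hP⟩ := exists_hom_D RGDTwE6.hp (K := K) (ε := 1) (by norm_num) rt6.1 rt6.2.1 rt6.2.2.1 rt6.2.2.2
  obtain ⟨f, hf⟩ := exists_f hφ hqq hP
  obtain ⟨l, hl, h1, h2⟩ := exists_norm_one hφ hq.one_lt hK
  obtain ⟨s, hs⟩ := exists_inc hφ hqq (sgY_s0 hl)
  have hs' : inc K q s⁻¹ = s0 l⁻¹ := by rw [map_inv, hs, s0_inv]
  have h1' : l⁻¹ ≠ 1 := by rwa [ne_eq, inv_eq_one]
  have h2' : l⁻¹ * l⁻¹ ≠ 1 := by
    rw [← mul_inv, ne_eq, inv_eq_one]
    exact h2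
  obtain ⟨x₀, hx₀, hfc⟩ := hfc φ hφ
  have hx₀i : Irreducible ((x₀⁻¹ : Matrix.SpecialLinearGroup (Fin 3) (Fx φ 1)) :
      Matrix (Fin 3) (Fin 3) (Fx φ 1)).charpoly :=
    Cfsg.Agent.H126.M3.irr_inv hx₀ (congrArg Subtype.val (mul_inv_cancel x₀))
  -- the elements with the characteristic polynomial of `x₀` or of its inverse
  have key : ∀ {t : ↥(twistedE6 K q)} {l : Kˣ}, inc K q t = s0 l → ∀ X : Matrix.SpecialLinearGroup (Fin 3) (Fx φ 1),
      ((X : Matrix (Fin 3) (Fin 3) (Fx φ 1)).charpoly = (x₀ : Matrix (Fin 3) (Fin 3) (Fx φ 1)).charpoly ∨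
        (X : Matrix (Fin 3) (Fin 3) (Fx φ 1)).charpoly =
          ((x₀⁻¹ : Matrix.SpecialLinearGroup (Fin 3) (Fx φ 1)) : Matrix (Fin 3) (Fin 3) (Fx φ 1)).charpoly) →
      Irreducible (X : Matrix (Fin 3) (Fin 3) (Fx φ 1)).charpoly ∧ ∃ y, t * f X = y * (t * f x₀) * y⁻¹ := by
    intro t l ht X hX
    have htf := s_comm (φ := φ) hP hf ht
    have hcc : ∀ (g Z : Matrix.SpecialLinearGroup (Fin 3) (Fx φ 1)),
        t * f (g * Z * g⁻¹) = f g * (t * f Z) * (f g)⁻¹ := by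
      intro g Z
      rw [map_mul, map_mul, map_inv]
      calc t * (f g * f Z * (f g)⁻¹) = (t * f g) * f Z * (f g)⁻¹ := by group
        _ = _ := by rw [htf]; group
    rcases hX with hX | hX
    · have hXi : Irreducible (X : Matrix (Fin 3) (Fin 3) (Fx φ 1)).charpoly := by rw [hX]; exact hx₀
      obtain ⟨g, hg⟩ := Cfsg.Agent.H150.MF.exists_conj (Cfsg.Agent.H150.MF.cls_of_irreducible hx₀)
        (Cfsg.Agent.H150.MF.cls_of_irreducible hXi) hX.symm
      exact ⟨hXi, f g, by rw [hg, hcc]⟩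
    · have hXi : Irreducible (X : Matrix (Fin 3) (Fin 3) (Fx φ 1)).charpoly := by rw [hX]; exact hx₀i
      obtain ⟨g, hg⟩ := Cfsg.Agent.H150.MF.exists_conj (Cfsg.Agent.H150.MF.cls_of_irreducible hx₀i)
        (Cfsg.Agent.H150.MF.cls_of_irreducible hXi) hX.symm
      obtain ⟨-, y, hy1, hy2⟩ := s_real hφ hqq hP hf ht hZ hx₀
      refine ⟨hXi, f g * y, ?_⟩
      rw [hg, hcc, map_inv, ← hy2]
      calc f g * (t * (y * f x₀ * y⁻¹)) * (f g)⁻¹ = f g * ((y * t * y⁻¹) * (y * f x₀ * y⁻¹)) * (f g)⁻¹ := by rw [hy1]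
        _ = _ := by group
  -- the pairs
  have hb : ∀ v ∈ UNJ CoxeterMatrix.F₄.toCoxeterSystem RGDTwE6.isCartan (RGDTwE6.X φ q) JR,
      ∀ u ∈ UJ CoxeterMatrix.F₄.toCoxeterSystem RGDTwE6.isCartan (RGDTwE6.X φ q) JR, ∃ c₁ c₂, v * u = c₁ * c₂ ∧
        LP CoxeterMatrix.F₄.toCoxeterSystem RGDTwE6.isCartan (T K q) (RGDTwE6.X φ q) JR c₁ c₂ ∧
        ((∃ y, c₁ = y * (s * f x₀) * y⁻¹) ∧ ∃ y, c₂ = y * (s⁻¹ * f x₀) * y⁻¹) := by
    intro v hv u hu
    obtain ⟨L, hL, rfl⟩ := lo_f hφ hqq hP hf _ hv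
    obtain ⟨U, hU, rfl⟩ := up_f hφ hqq hP hf _ hu
    obtain ⟨X, Y, hXY, hX, hY⟩ := hfc L hL U hU
    have hsT : s ∈ LJ CoxeterMatrix.F₄.toCoxeterSystem RGDTwE6.isCartan (T K q) (RGDTwE6.X φ q) JR :=
      T_le_LJ (s_T hs)
    obtain ⟨hXi, y1, e1⟩ := key hs X hX
    obtain ⟨hYi, y2, e2⟩ := key hs' Y hY
    refine ⟨s * f X, s⁻¹ * f Y, ?_, ⟨mul_mem hsT (f_LJ hφ hqq hP hf _ X), mul_mem (inv_mem hsT) (f_LJ hφ hqq hP hf _ Y),
      (s_nf hφ hqq hP hf h1 h2 hs _ hXi).2, (s_nf hφ hqq hP hf h1' h2' hs' _ hYi).1⟩, ⟨y1, e1⟩, ⟨y2, e2⟩⟩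
    rw [← map_mul, hXY, map_mul, s_comm (φ := φ) hP hf hs]
    group
  refine ⟨s * f x₀, s⁻¹ * f x₀, fun g hg => ?_⟩
  obtain ⟨c₁, c₂, x, y, ⟨⟨x', e1⟩, y', e2⟩, e3⟩ := pair R (RGDTwE6.G1_eq_top CoxeterMatrix.F₄.toCoxeterSystem hφ hqq)
    (Cfsg.Agent.H958.TS.TwCommon.coordP hφ hqq) (Cfsg.Agent.Nodes.ChevChart.irr_of Cfsg.Agent.Nodes.ChevChart.irrF)
    (Pr := fun c₁ c₂ => (∃ y, c₁ = y * (s * f x₀) * y⁻¹) ∧ ∃ y, c₂ = y * (s⁻¹ * f x₀) * y⁻¹) hb
    (Cfsg.Agent.H928.War.Rgd.core_trivial R hg)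
  refine ⟨x * x', y * y', ?_⟩
  rw [e3, e1, e2]
  group

/-- **The rows `²E₆(2)`, `²E₆(3)`.** -/
theorem row_small {K : Type u} [Field K] [Fintype K] {q : ℕ} (hq : q = 2 ∨ q = 3) (hK : Fintype.card K = q ^ 2) :
    ∃ a b : ↥(twistedE6 K q), ∀ g : ↥(twistedE6 K q), g ≠ 1 → ∃ x y : ↥(twistedE6 K q),
      g = (x * a * x⁻¹) * (y * b * y⁻¹) := by
  have hq' : IsPrimePow q := by
    rcases hq with rfl | rfl
    · exact Nat.prime_two.isPrimePow
    · exact Nat.prime_three.isPrimePow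
  refine row_fc hq' hK fun φ hφ => Cfsg.Agent.H928.TC.Sl3.fc_small ?_
  rw [Cfsg.Agent.H928.Ore.TwFin.card_Fx hq'.one_lt hK hφ]
  exact hq

end Cfsg.Agent.H928.TC.TwSmall
end

-- part: H928/TC/TwBig
section
/-!
`²E₆(q)`, `q ≥ 4`: two fixed classes (S4173).

* `sv u w` : the semisimple elements of the centralizer of the block `{1, 3}` of `E₆(K)`;
* `nfB` : `s φ(X)`, `X` with eigenvalues `1, β, β⁻¹`, has no fixed points on the unipotent radicals of the block;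
* `tc_big` : there is a class `C` such that every element is in `C C⁻¹`.
-/

set_option autoImplicit false
set_option linter.unusedSectionVars false

namespace Cfsg.Agent.H928.TC.TwBig

open CoxeterSystem Cfsg.Agent.ChevalleyStructure.CoxeterGeom Cfsg.Agent.Tits.Roots Cfsg.Agent.Tits.Core
  Cfsg.Agent.Nodes Cfsg.Agent.Nodes.Reps Cfsg.Agent.Nodes.BNOf Cfsg.Agent.Nodes.RGDLib Cfsg.Agent.Nodes.Bruhat
  Cfsg.Agent.Nodes.OppDec Cfsg.Agent.Nodes.LeviDec Cfsg.Agent.Nodes.StabComb Cfsg.Agent.Nodes.KindChev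
  Cfsg.Agent.Nodes.ChevCls
  Cfsg.Agent.OddHalf.NI.ModelChev
  Cfsg.Agent.H162.GaussDec Cfsg.Agent.H162.GaussLevi Cfsg.Agent.H162.GaussSL Cfsg.Agent.H162.GaussReg
  Cfsg.Agent.H928.Ore.Frame Cfsg.Agent.H928.Ore.Fix Cfsg.Agent.H928.Ore.Block Cfsg.Agent.H928.Ore.TwE
  Cfsg.Agent.H928.Ore.TwS Cfsg.Agent.H928.Ore.TwF Cfsg.Agent.H928.Ore.TwN
open Cfsg.Lie Cfsg.Agent.ChevalleyStructure Cfsg.Agent.ChevalleyStructure.Elts
  Cfsg.Agent.ChevalleyStructure.NPerm
  Cfsg.Agent.ChevalleyStructure.CoxeterGeomTypes Cfsg.Agent.Nodes.RGDChev Cfsg.Agent.KFacts.RgdChevCoord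
open Cfsg.Agent.Nodes.RGDTwGen Cfsg.Agent.Nodes.RGDFold Cfsg.Agent.Nodes.RGDTwE6
open Cfsg.Agent.Nodes.RGDFoldSL (Fx mem_Fx)
open Cfsg.Agent.FixBN.FieldRGD (uu vv dd ww)
open Cfsg.Agent.H162.GaussExcMain (r6 rt6 exists_hom_D w6)
open Cfsg.Agent.H335.Sr
open scoped MatrixGroups

universe u

/-! ### The semisimple elements -/

section

variable {K : Type u} [Field K]

/-- the semisimple elements of the centralizer of the block -/
def sv (u w : Kˣ) : Fin 6 → Kˣ :=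
  ![u * (u * w), (u * w) ^ 2, (u * w) ^ 3, (u * w) ^ 4, (u * w) ^ 3, w * (u * w)]

/-- the exponent -/
def ee (s : ℕ) : ℤ := chevE6.cartan (0 : Fin 6) s + 2 * chevE6.cartan (1 : Fin 6) s + 3 * chevE6.cartan (2 : Fin 6) s +
  4 * chevE6.cartan (3 : Fin 6) s + 3 * chevE6.cartan (4 : Fin 6) s + chevE6.cartan (5 : Fin 6) s

theorem six_aux {A : Type*} [AddCommGroup A] (u w : A) (a b c d e f : ℤ) :
    a • (u + (u + w)) + b • (2 • (u + w)) + c • (3 • (u + w)) + d • (4 • (u + w)) + e • (3 • (u + w)) +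
      f • (w + (u + w)) = (a + (a + 2 * b + 3 * c + 4 * d + 3 * e + f)) • u +
        (f + (a + 2 * b + 3 * c + 4 * d + 3 * e + f)) • w := by
  module

theorem six_aux' {A : Type*} [CommGroup A] (u w : A) (a b c d e f : ℤ) :
    (u * (u * w)) ^ a * ((u * w) ^ 2) ^ b * ((u * w) ^ 3) ^ c * ((u * w) ^ 4) ^ d * ((u * w) ^ 3) ^ e *
      (w * (u * w)) ^ f = u ^ (a + (a + 2 * b + 3 * c + 4 * d + 3 * e + f)) *
        w ^ (f + (a + 2 * b + 3 * c + 4 * d + 3 * e + f)) :=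
  six_aux (A := Additive A) (Additive.ofMul u) (Additive.ofMul w) a b c d e f

theorem prod_sv (u w : Kˣ) (s : ℕ) : ∏ k : Fin 6, ((sv u w k : Kˣ) : K) ^ chevE6.cartan k s =
    ((u ^ (chevE6.cartan (0 : Fin 6) s + ee s) * w ^ (chevE6.cartan (5 : Fin 6) s + ee s) : Kˣ) : K) := by
  have h := six_aux' u w (chevE6.cartan (0 : Fin 6) s) (chevE6.cartan (1 : Fin 6) s) (chevE6.cartan (2 : Fin 6) s)
    (chevE6.cartan (3 : Fin 6) s) (chevE6.cartan (4 : Fin 6) s) (chevE6.cartan (5 : Fin 6) s)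
  rw [ee, ← h, Fin.prod_univ_six]
  simp only [Units.val_mul, Units.val_zpow_eq_zpow_val]
  rfl

theorem tab_out : ∀ s : Fin 72, (∃ k : Fin 6, (k ≠ 1 ∧ k ≠ 3) ∧ vec chevE6 6 s k ≠ 0) →
    (chevE6.cartan (1 : Fin 6) s = 0 ∧
      (chevE6.cartan (0 : Fin 6) s + ee s, chevE6.cartan (5 : Fin 6) s + ee s) ∈
        ([(1, -1), (-1, 1), (1, 2), (-1, -2), (2, 1), (-2, -1)] : List (ℤ × ℤ))) ∨
    ((chevE6.cartan (1 : Fin 6) s = 0 ∨ chevE6.cartan (1 : Fin 6) s = 1 ∨ chevE6.cartan (1 : Fin 6) s = -1) ∧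
      ((chevE6.cartan (0 : Fin 6) s + ee s, chevE6.cartan (5 : Fin 6) s + ee s) ∈
        ([(1, 1), (-1, -1), (2, 2), (-2, -2)] : List (ℤ × ℤ)) ∨
      (chevE6.cartan (0 : Fin 6) s + ee s, chevE6.cartan (5 : Fin 6) s + ee s) ∈
        ([(1, 0), (-1, 0), (0, 1), (0, -1), (2, 0), (-2, 0), (0, 2), (0, -2)] : List (ℤ × ℤ)))) := by
  (delta Cfsg.Agent.H928.TC.TwBig.ee; rewrite [Cfsg.Agent.ChevFast.E6.cartan]; open scoped Cfsg.Agent.ChevFast.Lin in decide +kernel)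

theorem tab_in : ∀ a b : Fin 3, a ≠ b → chevE6.cartan (0 : Fin 6) (r6 a b) + ee (r6 a b) = 0 ∧
    chevE6.cartan (5 : Fin 6) (r6 a b) + ee (r6 a b) = 0 := by
  (delta Cfsg.Agent.H928.TC.TwBig.ee; rewrite [Cfsg.Agent.ChevFast.E6.cartan]; decide +kernel)

/-- the numbers -/
structure Nm (q : ℕ) (u w β : Kˣ) : Prop where
  hu : u ^ q = w
  hw : w ^ q = u
  n1 : u * w ≠ 1
  n2 : (u * w) ^ 2 ≠ 1
  d1 : u ≠ w
  d2 : u * w ^ 2 ≠ 1
  d3 : u ^ 2 * w ≠ 1
  b1 : β ^ (q + 1) = 1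
  b2 : β ^ 2 ≠ 1

theorem Nm.ne {q : ℕ} {u w β : Kˣ} (h : Nm q u w β) (s : Fin 72)
    (hs : ∃ k : Fin 6, (k ≠ 1 ∧ k ≠ 3) ∧ vec chevE6 6 s k ≠ 0) :
    β ^ chevE6.cartan (1 : Fin 6) s * (u ^ (chevE6.cartan (0 : Fin 6) s + ee s) *
      w ^ (chevE6.cartan (5 : Fin 6) s + ee s)) ≠ 1 := by
  have hn : (u * w) ^ q = u * w := by rw [mul_pow, h.hu, h.hw, mul_comm]
  have hup : u ^ (q + 1) = u * w := by rw [pow_succ, h.hu, mul_comm]
  have hwp : w ^ (q + 1) = u * w := by rw [pow_succ, h.hw]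
  rcases tab_out s hs with ⟨e0, e⟩ | ⟨e0, e | e⟩
  · generalize chevE6.cartan (0 : Fin 6) s + ee s = x at e ⊢
    generalize chevE6.cartan (5 : Fin 6) s + ee s = y at e ⊢
    rw [e0, zpow_zero, one_mul]
    have hd1 := h.d1
    have hd2 := h.d2
    have hd3 := h.d3
    simp only [List.mem_cons, Prod.mk.injEq, List.not_mem_nil, or_false] at e
    rcases e with ⟨rfl, rfl⟩ | ⟨rfl, rfl⟩ | ⟨rfl, rfl⟩ | ⟨rfl, rfl⟩ | ⟨rfl, rfl⟩ | ⟨rfl, rfl⟩
    · rw [zpow_one, zpow_neg_one, ne_eq, mul_inv_eq_one]; exact hd1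
    · rw [zpow_one, zpow_neg_one, ne_eq, inv_mul_eq_one]; exact hd1
    · rw [zpow_one]; exact hd2
    · rw [zpow_neg_one, zpow_neg, ← mul_inv, ne_eq, inv_eq_one]; exact hd2
    · rw [zpow_one]; exact hd3
    · rw [zpow_neg_one, zpow_neg, ← mul_inv, ne_eq, inv_eq_one]; exact hd3
  · have hm : ∃ m : ℤ, (m = 1 ∨ m = -1 ∨ m = 2 ∨ m = -2) ∧ u ^ (chevE6.cartan (0 : Fin 6) s + ee s) *
        w ^ (chevE6.cartan (5 : Fin 6) s + ee s) = (u * w) ^ m := by
      generalize chevE6.cartan (0 : Fin 6) s + ee s = x at e ⊢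
      generalize chevE6.cartan (5 : Fin 6) s + ee s = y at e ⊢
      simp only [List.mem_cons, Prod.mk.injEq, List.not_mem_nil, or_false] at e
      rcases e with ⟨rfl, rfl⟩ | ⟨rfl, rfl⟩ | ⟨rfl, rfl⟩ | ⟨rfl, rfl⟩
      · exact ⟨1, by simp, (mul_zpow u w 1).symm⟩
      · exact ⟨-1, by simp, (mul_zpow u w (-1)).symm⟩
      · exact ⟨2, by simp, (mul_zpow u w 2).symm⟩
      · exact ⟨-2, by simp, (mul_zpow u w (-2)).symm⟩
    obtain ⟨m, hm, e2⟩ := hm
    rw [e2]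
    have hm0 : (u * w) ^ m ≠ 1 := by
      have h2 := h.n2
      rw [← zpow_natCast] at h2
      rcases hm with rfl | rfl | rfl | rfl
      · rw [zpow_one]; exact h.n1
      · rw [zpow_neg_one, ne_eq, inv_eq_one]; exact h.n1
      · exact h2
      · rw [zpow_neg, ne_eq, inv_eq_one]; exact h2
    have hmq : ((u * w) ^ m) ^ q = (u * w) ^ m := by
      rw [← zpow_natCast, ← zpow_mul, mul_comm m, zpow_mul, zpow_natCast, hn]
    have hβ : β ^ q = β⁻¹ := by
      rw [eq_inv_iff_mul_eq_one, ← pow_succ]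
      exact h.b1
    intro h0
    rcases e0 with e0 | e0 | e0
    · rw [e0, zpow_zero, one_mul] at h0
      exact hm0 h0
    · rw [e0, zpow_one] at h0
      have h1 := congrArg (· ^ q) h0
      simp only [mul_pow, one_pow, hmq, hβ] at h1
      apply h.b2
      calc β ^ 2 = (β * (u * w) ^ m) * (β⁻¹ * (u * w) ^ m)⁻¹ := by
            rw [mul_inv, inv_inv, pow_two]
            calc β * β = β * β * ((u * w) ^ m * ((u * w) ^ m)⁻¹) := by rw [mul_inv_cancel, mul_one]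
              _ = _ := by ac_rfl
        _ = 1 := by rw [h0, h1, inv_one, mul_one]
    · rw [e0, zpow_neg_one] at h0
      have h1 := congrArg (· ^ q) h0
      simp only [mul_pow, one_pow, hmq, inv_pow, hβ, inv_inv] at h1
      apply h.b2
      calc β ^ 2 = (β * (u * w) ^ m) * (β⁻¹ * (u * w) ^ m)⁻¹ := by
            rw [mul_inv, inv_inv, pow_two]
            calc β * β = β * β * ((u * w) ^ m * ((u * w) ^ m)⁻¹) := by rw [mul_inv_cancel, mul_one]
              _ = _ := by ac_rfl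
        _ = 1 := by rw [h0, h1, inv_one, mul_one]
  · have hc : (β ^ chevE6.cartan (1 : Fin 6) s) ^ (q + 1) = 1 := by
      rw [← zpow_natCast, ← zpow_mul, mul_comm, zpow_mul, zpow_natCast, h.b1, one_zpow]
    have key : ∀ x y : ℤ, (u ^ x * w ^ y) ^ (q + 1) = (u * w) ^ (x + y) := by
      intro x y
      rw [mul_pow, ← zpow_natCast, ← zpow_natCast, ← zpow_mul, ← zpow_mul, mul_comm x, mul_comm y, zpow_mul, zpow_mul,
        zpow_natCast, zpow_natCast, hup, hwp, ← zpow_add]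
    intro h0
    have h1 := congrArg (· ^ (q + 1)) h0
    simp only [mul_pow, one_pow, hc, one_mul] at h1
    rw [← mul_pow, key] at h1
    generalize chevE6.cartan (0 : Fin 6) s + ee s = x at e h1
    generalize chevE6.cartan (5 : Fin 6) s + ee s = y at e h1
    have h2 := h.n2
    rw [← zpow_natCast] at h2
    have h3 := h.n1
    simp only [List.mem_cons, Prod.mk.injEq, List.not_mem_nil, or_false] at e
    rcases e with ⟨rfl, rfl⟩ | ⟨rfl, rfl⟩ | ⟨rfl, rfl⟩ | ⟨rfl, rfl⟩ | ⟨rfl, rfl⟩ | ⟨rfl, rfl⟩ | ⟨rfl, rfl⟩ | ⟨rfl, rfl⟩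
    · rw [add_zero, zpow_one] at h1; exact h3 h1
    · rw [add_zero, zpow_neg_one, inv_eq_one] at h1; exact h3 h1
    · rw [zero_add, zpow_one] at h1; exact h3 h1
    · rw [zero_add, zpow_neg_one, inv_eq_one] at h1; exact h3 h1
    · rw [add_zero] at h1; exact h2 h1
    · rw [add_zero, zpow_neg, inv_eq_one] at h1; exact h2 h1
    · rw [zero_add] at h1; exact h2 h1
    · rw [zero_add, zpow_neg, inv_eq_one] at h1; exact h2 h1

/-- **No fixed points in `E₆(K)`.** -/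
theorem nfB [Finite K] {P : Matrix.SpecialLinearGroup (Fin 3) K →* ↥(chevE6.group K)}
    (hP : ∀ a b (hab : a ≠ b) c, P (Matrix.SpecialLinearGroup.transvection hab c) =
      xc RGDTwE6.hp (vec chevE6 6 (r6 a b)) (((1 : ℤ) : K) * c)) {q : ℕ} {u w β : Kˣ} (h : Nm q u w β)
    {X Q : Matrix.SpecialLinearGroup (Fin 3) K} (hX : X = Q * dg3 1 β * Q⁻¹) :
    NF (VJ CoxeterMatrix.E₆.toCoxeterSystem RGDTwE6.hp.isCartan (XX chevE6 6 K) JA) (th RGDTwE6.hp (sv u w) * P X) ∧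
      NF (VNJ CoxeterMatrix.E₆.toCoxeterSystem RGDTwE6.hp.isCartan (XX chevE6 6 K) JA)
        (th RGDTwE6.hp (sv u w) * P X) := by
  refine nf_block RGDTwE6.hp (ε := 1) (by norm_num) rt6.1 rt6.2.2.2 hP simple_r6.1 simple_r6.2
    (fun a b hab k hk => (tab_blk a b hab).2.2 k (mem_JA hk)) (fun a b hab => ?_) (fun s hs hk => ?_) hX
  · rw [prod_sv, (tab_in a b hab).1, (tab_in a b hab).2, zpow_zero, zpow_zero, mul_one, Units.val_one]
  · obtain ⟨k, hk, hk0⟩ := hk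
    rw [prod_sv, Units.val_one, one_zpow, one_mul]
    intro h0
    refine h.ne ⟨s, hs⟩ ⟨k, mem_JA hk, hk0⟩ (Units.ext ?_)
    rw [mul_comm, Units.val_mul, Units.val_zpow_eq_zpow_val β, Units.val_one]
    exact h0

/-! ### The twisted graph automorphism on the torus -/

theorem sgY_th (φ : K →+* K) (t : Fin 6 → Kˣ) :
    sgY φ (th RGDTwE6.hp t) = th RGDTwE6.hp fun i => Units.map (φ : K →* K) (t (ga i)) := by
  have key : ∀ t : Fin 6 → Kˣ, (sgY φ (th RGDTwE6.hp t) = th RGDTwE6.hp fun i => Units.map (φ : K →* K) (t (ga i))) := by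
    intro t
    rw [← Finset.univ_prod_mulSingle t]
    refine Finset.prod_induction (fun i => Pi.mulSingle i (t i))
      (fun s : Fin 6 → Kˣ => sgY φ (th RGDTwE6.hp s) = th RGDTwE6.hp fun i => Units.map (φ : K →* K) (s (ga i))) ?_ ?_ ?_
    · intro a b ha hb
      have e : (fun i => Units.map (φ : K →* K) ((a * b) (ga i))) =
          (fun i => Units.map (φ : K →* K) (a (ga i))) * fun i => Units.map (φ : K →* K) (b (ga i)) := by
        funext i
        exact map_mul _ _ _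
      rw [map_mul, map_mul, ha, hb, e, map_mul]
    · have e : (fun i : Fin 6 => Units.map (φ : K →* K) ((1 : Fin 6 → Kˣ) (ga i))) = 1 := by
        funext i
        exact map_one _
      rw [map_one, map_one, e, map_one]
    · intro i _
      have e : (fun j : Fin 6 => Units.map (φ : K →* K) ((Pi.mulSingle i (t i) : Fin 6 → Kˣ) (ga j))) =
          Pi.mulSingle (ga i) (Units.map (φ : K →* K) (t i)) := by
        funext j
        by_cases hj : ga j = i
        · subst hj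
          rw [Pi.mulSingle_eq_same, ga_ga, Pi.mulSingle_eq_same]
        · rw [Pi.mulSingle_eq_of_ne hj, Pi.mulSingle_eq_of_ne, map_one]
          rintro rfl
          exact hj (ga_ga i)
      rw [e, th_mulSingle, th_mulSingle, sgY_sl]
      congr 1
      apply Subtype.ext
      change (!![((t i : Kˣ) : K), 0; 0, ((t i : Kˣ) : K)⁻¹]).map φ = !![φ (t i), 0; 0, (φ (t i))⁻¹]
      ext a b
      (revert a b; simp only [_root_.Fin.forall_fin_succ, _root_.Matrix.map_apply, _root_.Matrix.of_apply, _root_.Matrix.cons_val', _root_.Matrix.cons_val_fin_one, Fin.isValue, _root_.Matrix.cons_val_zero, _root_.Matrix.cons_val_succ, _root_.forall_const, _root_.map_zero, _root_.and_self, _root_.map_inv₀, _root_.implies_true])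
  exact key t

theorem sgY_sv {φ : K →+* K} {u w : Kˣ} (h1 : φ u = w) (h2 : φ w = u) :
    sgY φ (th RGDTwE6.hp (sv u w)) = th RGDTwE6.hp (sv u w) := by
  have e1 : Units.map (φ : K →* K) u = w := Units.ext h1
  have e2 : Units.map (φ : K →* K) w = u := Units.ext h2
  rw [sgY_th]
  congr 1
  funext i
  fin_cases i
  · change Units.map (φ : K →* K) (w * (u * w)) = u * (u * w)
    rw [map_mul, map_mul, e1, e2, mul_comm w u]
  · change Units.map (φ : K →* K) ((u * w) ^ 2) = (u * w) ^ 2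
    rw [map_pow, map_mul, e1, e2, mul_comm w u]
  · change Units.map (φ : K →* K) ((u * w) ^ 3) = (u * w) ^ 3
    rw [map_pow, map_mul, e1, e2, mul_comm w u]
  · change Units.map (φ : K →* K) ((u * w) ^ 4) = (u * w) ^ 4
    rw [map_pow, map_mul, e1, e2, mul_comm w u]
  · change Units.map (φ : K →* K) ((u * w) ^ 3) = (u * w) ^ 3
    rw [map_pow, map_mul, e1, e2, mul_comm w u]
  · change Units.map (φ : K →* K) (u * (u * w)) = w * (u * w)
    rw [map_mul, map_mul, e1, e2, mul_comm w u]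

end

/-! ### The numbers -/

theorem exists_nm {K : Type u} [Field K] [Fintype K] {q : ℕ} (hq : 4 ≤ q) (hK : Fintype.card K = q ^ 2) :
    ∃ u w β : Kˣ, Nm q u w β := by
  classical
  obtain ⟨t, ht⟩ := IsCyclic.exists_ofOrder_eq_natCard (α := Kˣ)
  have h2 : Nat.card Kˣ = q ^ 2 - 1 := by
    rw [Nat.card_eq_fintype_card, Fintype.card_units, hK]
  rw [h2] at ht
  obtain ⟨m, rfl⟩ : ∃ m, q = m + 4 := ⟨q - 4, by omega⟩
  have h3 : (m + 4) ^ 2 - 1 = m ^ 2 + 8 * m + 15 := by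
    have : (m + 4) ^ 2 = m ^ 2 + 8 * m + 15 + 1 := by ring
    rw [this]; rfl
  rw [h3] at ht
  have key : ∀ k : ℕ, 0 < k → k < m ^ 2 + 8 * m + 15 → t ^ k ≠ 1 := by
    intro k hk hk2 h
    have := Nat.le_of_dvd hk (orderOf_dvd_of_pow_eq_one h)
    omega
  have hone : ∀ k : ℕ, t ^ (k * (m ^ 2 + 8 * m + 15)) = 1 := by
    intro k
    rw [mul_comm, pow_mul, ← ht, pow_orderOf_eq_one, one_pow]
  refine ⟨t, t ^ (m + 4), t ^ (m + 3), ⟨rfl, ?_, ?_, ?_, ?_, ?_, ?_, ?_, ?_⟩⟩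
  · rw [← pow_mul, show (m + 4) * (m + 4) = 1 * (m ^ 2 + 8 * m + 15) + 1 by ring, pow_add, hone, one_mul, pow_one]
  · rw [← pow_succ']
    exact key _ (by omega) (by linarith only [_root_.sq_nonneg (↑m : ℤ), _root_.Nat.cast_nonneg (α := ℤ) (m)])
  · rw [← pow_succ', ← pow_mul]
    exact key _ (by omega) (by linarith only [_root_.sq_nonneg (↑m : ℤ), _root_.Nat.cast_nonneg (α := ℤ) (m)])
  · intro h
    have h4 : t ^ (m + 3) = 1 := by
      have h5 : t * t ^ (m + 3) = t * 1 := by rw [← pow_succ', mul_one]; exact h.symm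
      exact mul_left_cancel h5
    exact key _ (by omega) (by linarith only [_root_.sq_nonneg (↑m : ℤ), _root_.Nat.cast_nonneg (α := ℤ) (m)]) h4
  · rw [← pow_mul, ← pow_succ']
    exact key _ (by omega) (by linarith only [_root_.sq_nonneg (↑m : ℤ), _root_.Nat.cast_nonneg (α := ℤ) (m)])
  · rw [← pow_add]
    exact key _ (by omega) (by linarith only [_root_.sq_nonneg (↑m : ℤ), _root_.Nat.cast_nonneg (α := ℤ) (m)])
  · rw [← pow_mul, show (m + 3) * (m + 4 + 1) = 1 * (m ^ 2 + 8 * m + 15) by ring, hone]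
  · rw [← pow_mul]
    exact key _ (by omega) (by linarith only [_root_.sq_nonneg (↑m : ℤ), _root_.Nat.cast_nonneg (α := ℤ) (m)])

end Cfsg.Agent.H928.TC.TwBig
end

-- part: H928/TC/TwGe
section
/-!
`²E₆(q)`, `q ≥ 4`: every nonidentity element is in `C C⁻¹` for a fixed class `C` (S4173).
-/

set_option autoImplicit false
set_option linter.unusedSectionVars false

namespace Cfsg.Agent.H928.TC.TwGe

open CoxeterSystem Cfsg.Agent.ChevalleyStructure.CoxeterGeom Cfsg.Agent.Tits.Roots Cfsg.Agent.Tits.Core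
  Cfsg.Agent.Nodes Cfsg.Agent.Nodes.Reps Cfsg.Agent.Nodes.BNOf Cfsg.Agent.Nodes.RGDLib Cfsg.Agent.Nodes.Bruhat
  Cfsg.Agent.Nodes.OppDec Cfsg.Agent.Nodes.LeviDec Cfsg.Agent.Nodes.StabComb Cfsg.Agent.Nodes.KindChev
  Cfsg.Agent.Nodes.ChevCls
  Cfsg.Agent.OddHalf.NI.ModelChev
  Cfsg.Agent.H162.GaussDec Cfsg.Agent.H162.GaussLevi Cfsg.Agent.H162.GaussSL Cfsg.Agent.H162.GaussReg
  Cfsg.Agent.H928.Ore.Frame Cfsg.Agent.H928.Ore.Fix Cfsg.Agent.H928.Ore.Block Cfsg.Agent.H928.Ore.TwE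
  Cfsg.Agent.H928.Ore.TwS Cfsg.Agent.H928.Ore.TwF Cfsg.Agent.H928.Ore.TwN Cfsg.Agent.H928.TC.TwBig
open Cfsg.Lie Cfsg.Agent.ChevalleyStructure Cfsg.Agent.ChevalleyStructure.Elts
  Cfsg.Agent.ChevalleyStructure.NPerm
  Cfsg.Agent.ChevalleyStructure.CoxeterGeomTypes Cfsg.Agent.Nodes.RGDChev Cfsg.Agent.KFacts.RgdChevCoord
open Cfsg.Agent.Nodes.RGDTwGen Cfsg.Agent.Nodes.RGDFold Cfsg.Agent.Nodes.RGDTwE6
open Cfsg.Agent.Nodes.RGDFoldSL (Fx mem_Fx)
open Cfsg.Agent.H162.GaussExcMain (r6 rt6 exists_hom_D w6)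
open Cfsg.Agent.H194.Ore (exists_diag)
open Polynomial (C Monic)
open scoped MatrixGroups

universe u

section

variable {K : Type u} [Field K]

/-- conjugate over `K` to `diag(1, β, β⁻¹)` -/
theorem exists_Q {φ : K →+* K} {β : Kˣ} (hb : (β : K) ≠ 1) (hb2 : (β : K) * β ≠ 1) {τ : Fx φ 1}
    (hτ : (τ : K) = β + (β : K)⁻¹) {X : Matrix.SpecialLinearGroup (Fin 3) (Fx φ 1)}
    (hX : (X : Matrix (Fin 3) (Fin 3) (Fx φ 1)).charpoly =
      (Polynomial.X - C 1) * (Polynomial.X ^ 2 - C τ * Polynomial.X + 1)) :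
    ∃ Q : Matrix.SpecialLinearGroup (Fin 3) K,
      Matrix.SpecialLinearGroup.map (Fx φ 1).subtype X = Q * dg3 1 β * Q⁻¹ := by
  have h0 : (β : K) ≠ 0 := β.ne_zero
  have hbu : β ≠ 1 := fun h => hb (by rw [h, Units.val_one])
  have hbb : (β : K) ≠ (β : K)⁻¹ := fun h => hb2 (by
    nth_rewrite 2 [h]
    exact mul_inv_cancel₀ h0)
  set M : Matrix (Fin 3) (Fin 3) K := (X : Matrix (Fin 3) (Fin 3) (Fx φ 1)).map (Fx φ 1).subtype with hM
  have h1 : M.charpoly = ∏ i, (Polynomial.X - C ((![1, (β : K), (β : K)⁻¹] : Fin 3 → K) i)) := by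
    have h2 : M.charpoly = (X : Matrix (Fin 3) (Fin 3) (Fx φ 1)).charpoly.map (Fx φ 1).subtype := Matrix.charpoly_map _ _
    rw [h2, hX, Fin.prod_univ_three]
    simp only [Polynomial.map_mul, Polynomial.map_sub, Polynomial.map_add, Polynomial.map_pow, Polynomial.map_X,
      Polynomial.map_C, Polynomial.map_one, Matrix.cons_val_zero, Matrix.cons_val_one, Matrix.cons_val]
    have h3 : (Fx φ 1).subtype τ = (β : K) + (β : K)⁻¹ := hτ
    rw [h3, map_one, mul_assoc]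
    congr 1
    rw [C.map_add]
    have h4 : (C (β : K) * C ((β : K)⁻¹) : Polynomial K) = 1 := by
      rw [← C.map_mul, mul_inv_cancel₀ h0, C.map_one]
    linear_combination -h4
  have hinj : Function.Injective (![1, (β : K), (β : K)⁻¹] : Fin 3 → K) := by
    intro i j hij
    fin_cases i <;> fin_cases j <;> simp at hij ⊢
    · exact hb hij.symm
    · exact hbu hij
    · exact hbu (by simpa using hij)
    · exact hbb hij
    · exact hbu hij
    · exact hbb hij.symm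
  obtain ⟨Q, hQ⟩ := exists_diag hinj h1 (by norm_num)
  refine ⟨Q, ?_⟩
  rw [eq_mul_inv_iff_mul_eq]
  apply Subtype.ext
  change M * (Q : Matrix (Fin 3) (Fin 3) K) = (Q : Matrix (Fin 3) (Fin 3) K) *
    Matrix.diagonal ![((1 : Kˣ) : K), (((1 : Kˣ)⁻¹ * β : Kˣ) : K), ((β⁻¹ : Kˣ) : K)]
  rw [hQ]
  congr 2
  simp

variable [Fintype K] {φ : K →+* K} {q : ℕ} (hφ : ∀ t, φ t = t ^ q)
  (hqq : ∀ t : K, (t ^ q) ^ q = t)
  {P : Matrix.SpecialLinearGroup (Fin 3) K →* ↥(chevE6.group K)}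
  (hP : ∀ a b (hab : a ≠ b) c, P (Matrix.SpecialLinearGroup.transvection hab c) =
      xc RGDTwE6.hp (vec chevE6 6 (r6 a b)) (((1 : ℤ) : K) * c))
  {f : Matrix.SpecialLinearGroup (Fin 3) (Fx φ 1) →* ↥(twistedE6 K q)}
  (hf : ∀ A, inc K q (f A) = P (Matrix.SpecialLinearGroup.map (Fx φ 1).subtype A))
  {u w β : Kˣ} (h : Nm q u w β)
  {s : ↥(twistedE6 K q)} (hs : inc K q s = th RGDTwE6.hp (sv u w))

include hP hf hs

theorem s_comm (A : Matrix.SpecialLinearGroup (Fin 3) (Fx φ 1)) : s * f A = f A * s := by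
  apply inc_injective q
  rw [map_mul, map_mul, hs, hf]
  refine comm_phi RGDTwE6.hp rt6.1 hP ((thT RGDTwE6.hp (sv u w)).2) (fun a b hab => ?_) _
  change ch RGDTwE6.hp (vec chevE6 6 (r6 a b)) (th RGDTwE6.hp (sv u w)) = 1
  rw [ch_th RGDTwE6.hp (rt6.1 a b hab), prod_sv, (tab_in a b hab).1, (tab_in a b hab).2, zpow_zero, zpow_zero, mul_one,
    Units.val_one]

omit hP hf in
theorem s_T : s ∈ T K q := by
  refine Subgroup.mem_subgroupOf.2 ⟨?_, s.2⟩
  have h4 : th RGDTwE6.hp (sv u w) ∈ TT chevE6 K := (thT RGDTwE6.hp (sv u w)).2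
  have h3 := Subgroup.mem_subgroupOf.1 h4
  rw [← hs] at h3
  exact h3

include h

theorem s_nf {W : Type*} [Group W] (cs : CoxeterSystem CoxeterMatrix.F₄ W)
    {X : Matrix.SpecialLinearGroup (Fin 3) (Fx φ 1)} {Q : Matrix.SpecialLinearGroup (Fin 3) K}
    (hX : Matrix.SpecialLinearGroup.map (Fx φ 1).subtype X = Q * dg3 1 β * Q⁻¹) :
    NF (VJ cs RGDTwE6.isCartan (RGDTwE6.X φ q) JR) (s * f X) ∧
      NF (VNJ cs RGDTwE6.isCartan (RGDTwE6.X φ q) JR) (s * f X) := by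
  obtain ⟨g1, g2⟩ := nfB hP h hX
  have e2 : inc K q (s * f X) = th RGDTwE6.hp (sv u w) * P (Matrix.SpecialLinearGroup.map (Fx φ 1).subtype X) := by
    rw [map_mul, hs, hf]
  rw [← e2] at g1 g2
  exact ⟨NF.of_hom _ (inc_injective q) (VJ_le cs φ q) g1, NF.of_hom _ (inc_injective q) (VNJ_le cs φ q) g2⟩

end

/-- **The row `²E₆(q)`, `q ≥ 4`.** -/
theorem row_ge {K : Type u} [Field K] [Fintype K] {q : ℕ} (hq : IsPrimePow q) (hK : Fintype.card K = q ^ 2)
    (h4 : 4 ≤ q) : ∃ a : ↥(twistedE6 K q), ∀ g : ↥(twistedE6 K q), g ≠ 1 → ∃ x y : ↥(twistedE6 K q),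
      g = (x * a * x⁻¹) * (y * a⁻¹ * y⁻¹) := by
  obtain ⟨φ, hφ, hqq⟩ := TwE6Basic.exists_frob hq hK
  obtain ⟨p, hpc⟩ := CharP.exists K
  have : Fact p.Prime := ⟨(CharP.char_is_prime_or_zero K p).resolve_right (CharP.char_ne_zero_of_finite K p)⟩
  have hfin : Finite (GL chevE6.Idx K) := by
    have : Finite (Matrix chevE6.Idx chevE6.Idx K) := inferInstance
    infer_instance
  have : Finite ↥(twistedE6 K q) := inferInstance
  have R := RGDTwE6.rgd CoxeterMatrix.F₄.toCoxeterSystem hφ hqq p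
  have : Finite CoxeterMatrix.F₄.Group := Cfsg.Agent.Nodes.RGDFold.finite_W (hp := RGDTwE6.hp)
    CoxeterMatrix.F₄.toCoxeterSystem RGDTwE6.isCartan RGDTwE6.foldData
  have hS := Cfsg.Agent.S1070.result hq hK
  have := hS.1
  obtain ⟨P, hP⟩ := exists_hom_D RGDTwE6.hp (K := K) (ε := 1) (by norm_num) rt6.1 rt6.2.1 rt6.2.2.1 rt6.2.2.2
  obtain ⟨f, hf⟩ := exists_f hφ hqq hP
  obtain ⟨u, w, β, h⟩ := exists_nm h4 hK
  have hu : φ u = w := by
    rw [hφ]
    exact congrArg Units.val h.hu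
  have hw : φ w = u := by
    rw [hφ]
    exact congrArg Units.val h.hw
  obtain ⟨s, hs⟩ := exists_inc hφ hqq (sgY_sv hu hw)
  -- the element of `SL₃`
  have hb2 : (β : K) * β ≠ 1 := by
    intro h5
    apply h.b2
    rw [pow_two]
    exact Units.ext h5
  have hb1 : (β : K) ≠ 1 := fun h5 => hb2 (by rw [h5, mul_one])
  have hβq : (β : K) ^ q = (β : K)⁻¹ := by
    have h5 := congrArg Units.val h.b1
    rw [Units.val_pow_eq_pow_val, Units.val_one, pow_succ] at h5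
    exact eq_inv_of_mul_eq_one_left h5
  have hτ0 : φ ((β : K) + (β : K)⁻¹) = (β : K) + (β : K)⁻¹ := by
    rw [map_add, map_inv₀, hφ, hβq, inv_inv, add_comm]
  let τ : Fx φ 1 := ⟨(β : K) + (β : K)⁻¹, mem_Fx.2 hτ0⟩
  have hpm : (Polynomial.X ^ 2 - C τ * Polynomial.X + 1 : Polynomial (Fx φ 1)).Monic := by
    rw [show (Polynomial.X ^ 2 - C τ * Polynomial.X + 1 : Polynomial (Fx φ 1)) =
      Polynomial.X ^ 2 + (- C τ * Polynomial.X + 1) by ring]
    refine Polynomial.monic_X_pow_add ?_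
    compute_degree!
  have hpd : (Polynomial.X ^ 2 - C τ * Polynomial.X + 1 : Polynomial (Fx φ 1)).natDegree = 2 := by
    compute_degree!
  have hcF : 3 ≤ Nat.card (Fx φ 1) := by
    rw [Cfsg.Agent.H928.Ore.TwFin.card_Fx hq.one_lt hK hφ]
    omega
  obtain ⟨c₀, hc0, -, hc⟩ := Cfsg.Agent.H150.MF.mf_poly hcF (n := 3) (by norm_num) (ν := (1 : Fx φ 1)) hpm
    (by rw [hpd]) (by simp only [Polynomial.mul_coeff_zero, _root_.map_one, _root_.Polynomial.coeff_sub, _root_.Polynomial.coeff_X_zero, _root_.Polynomial.coeff_one_zero, _root_.zero_sub, _root_.Polynomial.coeff_add, _root_.Polynomial.coeff_X_pow, _root_.OfNat.zero_ne_ofNat, ↓ _root_.reduceIte, _root_.Polynomial.coeff_C_zero, _root_.MulZeroClass.mul_zero, _root_.sub_self, _root_.zero_add, _root_.mul_one]; norm_num) (by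
      simp only [Polynomial.eval_add, Polynomial.eval_sub, Polynomial.eval_pow, Polynomial.eval_X, Polynomial.eval_mul,
        Polynomial.eval_C, Polynomial.eval_one]
      intro h5
      have h6 := congrArg (Fx φ 1).subtype h5
      rw [map_zero, map_add, map_sub, map_mul, map_pow, map_one, mul_one] at h6
      change (1 : K) ^ 2 - ((β : K) + (β : K)⁻¹) + 1 = 0 at h6
      have h0 : (β : K) ≠ 0 := β.ne_zero
      have h7 : ((β : K) - 1) * (β - 1) = 0 := by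
        have h8 : (β : K) * (β : K)⁻¹ = 1 := mul_inv_cancel₀ h0
        linear_combination (-(β : K)) * h6 - h8
      rcases mul_eq_zero.1 h7 with h8 | h8 <;> exact hb1 (sub_eq_zero.1 h8))
  obtain ⟨Q, hQ⟩ := exists_Q hb1 hb2 (τ := τ) rfl hc0
  have hsf := s_comm (φ := φ) hP hf hs
  have hsT : s ∈ LJ CoxeterMatrix.F₄.toCoxeterSystem RGDTwE6.isCartan (T K q) (RGDTwE6.X φ q) JR :=
    T_le_LJ (s_T hs)
  have hconj : ∀ g : Matrix.SpecialLinearGroup (Fin 3) (Fx φ 1),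
      NF (VJ CoxeterMatrix.F₄.toCoxeterSystem RGDTwE6.isCartan (RGDTwE6.X φ q) JR) (s * f (g * c₀ * g⁻¹)) ∧
      NF (VNJ CoxeterMatrix.F₄.toCoxeterSystem RGDTwE6.isCartan (RGDTwE6.X φ q) JR) (s * f (g * c₀ * g⁻¹)) := by
    intro g
    refine s_nf hP hf h hs _ (Q := Matrix.SpecialLinearGroup.map (Fx φ 1).subtype g * Q) ?_
    rw [map_mul, map_mul, hQ, map_inv]
    group
  -- the pairs
  have hb : ∀ v ∈ UNJ CoxeterMatrix.F₄.toCoxeterSystem RGDTwE6.isCartan (RGDTwE6.X φ q) JR,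
      ∀ u ∈ UJ CoxeterMatrix.F₄.toCoxeterSystem RGDTwE6.isCartan (RGDTwE6.X φ q) JR, ∃ c₁ c₂, v * u = c₁ * c₂ ∧
        LP CoxeterMatrix.F₄.toCoxeterSystem RGDTwE6.isCartan (T K q) (RGDTwE6.X φ q) JR c₁ c₂ ∧
        ((∃ y, c₁ = y * (s * f c₀) * y⁻¹) ∧ ∃ y, c₂ = y * (s * f c₀)⁻¹ * y⁻¹) := by
    intro v hv u hu
    obtain ⟨L, hL, rfl⟩ := lo_f hφ hqq hP hf _ hv
    obtain ⟨U, hU, rfl⟩ := up_f hφ hqq hP hf _ hu
    obtain ⟨g, k, hgk⟩ := hc L hL U hU
    have e1 : s * f (g * c₀ * g⁻¹) = f g * (s * f c₀) * (f g)⁻¹ := by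
      rw [map_mul, map_mul, map_inv]
      calc s * (f g * f c₀ * (f g)⁻¹) = (s * f g) * f c₀ * (f g)⁻¹ := by group
        _ = _ := by rw [hsf]; group
    have e2 : s⁻¹ * f (k * c₀⁻¹ * k⁻¹) = (s * f (k * c₀ * k⁻¹))⁻¹ := by
      rw [hsf, mul_inv_rev, ← map_inv]
      congr 2
      group
    have e3 : s * f (k * c₀ * k⁻¹) = f k * (s * f c₀) * (f k)⁻¹ := by
      rw [map_mul, map_mul, map_inv]
      calc s * (f k * f c₀ * (f k)⁻¹) = (s * f k) * f c₀ * (f k)⁻¹ := by group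
        _ = _ := by rw [hsf]; group
    refine ⟨s * f (g * c₀ * g⁻¹), s⁻¹ * f (k * c₀⁻¹ * k⁻¹), ?_,
      ⟨mul_mem hsT (f_LJ hφ hqq hP hf _ _), mul_mem (inv_mem hsT) (f_LJ hφ hqq hP hf _ _), (hconj g).2, ?_⟩,
      ⟨f g, e1⟩, ⟨f k, ?_⟩⟩
    · rw [← map_mul, hgk, map_mul, hsf]
      group
    · rw [e2]
      exact NF.inv (hconj k).1
    · rw [e2, e3]
      group
  refine ⟨s * f c₀, fun g hg => ?_⟩
  obtain ⟨c₁, c₂, x, y, ⟨⟨x', e1⟩, y', e2⟩, e3⟩ := pair R (RGDTwE6.G1_eq_top CoxeterMatrix.F₄.toCoxeterSystem hφ hqq)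
    (Cfsg.Agent.H958.TS.TwCommon.coordP hφ hqq) (Cfsg.Agent.Nodes.ChevChart.irr_of Cfsg.Agent.Nodes.ChevChart.irrF)
    (Pr := fun c₁ c₂ => (∃ y, c₁ = y * (s * f c₀) * y⁻¹) ∧ ∃ y, c₂ = y * (s * f c₀)⁻¹ * y⁻¹) hb
    (Cfsg.Agent.H928.War.Rgd.core_trivial R hg)
  refine ⟨x * x', y * y', ?_⟩
  rw [e3, e1, e2]
  group

end Cfsg.Agent.H928.TC.TwGe
end

-- part: H928/TC/Row
section
/-!
**The row `²E₆(q)` of S4173**: two fixed conjugacy classes whose product contains every nonidentity element.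
-/

set_option autoImplicit false

namespace Cfsg.Agent.H928.TC.Row

open Cfsg.Lie

universe u

/-- **The row `²E₆(q)` of S4173** (`H140.TC.TC`). -/
theorem tc_2E6 {K : Type u} [Field K] [Fintype K] {q : ℕ} (hq : IsPrimePow q) (hK : Fintype.card K = q ^ 2) :
    ∃ a b : ↥(twistedE6 K q), ∀ g : ↥(twistedE6 K q), g ≠ 1 → ∃ x y : ↥(twistedE6 K q),
      g = (x * a * x⁻¹) * (y * b * y⁻¹) := by
  by_cases h : q = 2 ∨ q = 3
  · exact Cfsg.Agent.H928.TC.TwSmall.row_small h hK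
  · obtain ⟨a, ha⟩ := Cfsg.Agent.H928.TC.TwGe.row_ge hq hK (by have := hq.one_lt; omega)
    exact ⟨a, a⁻¹, ha⟩

end Cfsg.Agent.H928.TC.Row
end

-- part: H459/TC/Exc
section
/-!
# Exceptional rows of S4173 (helper459)
-/

set_option autoImplicit false

namespace Cfsg.Agent.H459.TC

open Cfsg.Agent.H140.TC

universe u

theorem tc_iso2E6 {G : Type u} [Group G] (h : Cfsg.Lie.Iso2E6 G) : TC G := by
  obtain ⟨F, _, _, q, hq, hF, ⟨e⟩⟩ := h
  exact TC.of_equiv e (Cfsg.Agent.H928.TC.Row.tc_2E6 hq hF)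

/-- the exceptional rows of S4173 -/
theorem tc_exc : Cfsg.Agent.H459.Ore.ExcRows.{u} (fun G _ => TC G) where
  g2 := fun h => Cfsg.Agent.H937.TC.tc_g2 h
  f4 := fun h => Cfsg.Agent.H374.TC.tc_f4 h
  e6 := fun h => Cfsg.Agent.H194.TC.tc_e6 h
  e7 := fun h => Cfsg.Agent.H122.TwoC.tc_e7 h
  e8 := fun h => Cfsg.Agent.H122.TwoC.tc_e8 h
  te6 := tc_iso2E6
  td4 := fun h => Cfsg.Agent.H937.TC.tc_d4 h
  sz := fun h => Cfsg.Agent.H937.TC.tc_sz h
  ree := fun h => Cfsg.Agent.H937.TC.tc_ree h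
  tf4 := fun h => Cfsg.Agent.H937.TC.tc_2f4 h
  tits := fun h => Cfsg.Agent.H937.TC.tc_tits h

end Cfsg.Agent.H459.TC
end

private theorem dce_10bb5670f968 : _root_.True := by
  try have : _root_.True := by simp only [_root_.Cfsg.Agent.H928.TC.Sl3.tstF.eq_1]
  try have : _root_.True := by simp only [_root_.Cfsg.Agent.H928.TC.Sl3.ty.eq_1]
  try have : _root_.True := by simp only [_root_.Cfsg.Agent.H928.TC.TwBig.ee.eq_1]
  exact _root_.True.intro
end

-- part: S4173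
section
set_option linter.all false
open scoped Cfsg.Agent.FastGrp

-- part: H140/TC/Psl
section
/-!
# S4173, the groups `PSL_n(F)` (two fixed classes)

* `tc_sl` : the two classes from two block diagonal matrices of determinant one.
* `tc_psl` : all `PSL_n(F)` except `PSL_2(2)`, `PSL_2(3)`.
-/

set_option autoImplicit false

namespace Cfsg.Agent.H140.TC

open Matrix Polynomial Cfsg.Agent.H126.PwO Cfsg.Agent.H962.PP Cfsg.Agent.H140.OreO

section field
variable {F : Type*} [Field F]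

/-- irreducible, norm one -/
theorem exists_norm_one (F : Type*) [Field F] [Finite F] {d : ℕ} (hd : 2 ≤ d) :
    ∃ f : F[X], f.Monic ∧ Irreducible f ∧ f.natDegree = d ∧ (-1) ^ d * f.coeff 0 = 1 := by
  have hq : 2 ≤ Nat.card F := Finite.one_lt_card
  have hs : (Nat.card F ^ d - 1) / (Nat.card F - 1) ∣ Nat.card F ^ d - 1 := by
    apply Nat.div_dvd_of_dvd
    simpa using Nat.sub_dvd_pow_sub_pow (Nat.card F) 1 d
  obtain ⟨f, hf⟩ := exists_pol F (by omega) hs (fun k hk hkd => by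
    have h1 := (geom_lt hq hkd (by omega)).2
    have h2 : 2 ≤ Nat.card F ^ k := by
      calc 2 ≤ Nat.card F ^ 1 := by simpa using hq
        _ ≤ _ := Nat.pow_le_pow_right (by omega) hk
    exact not_dvd_of_lt (by omega) (by omega))
  refine ⟨f, hf.monic, hf.irr, hf.deg, ?_⟩
  have := (hf.coef 1).2 (by rw [mul_one])
  rwa [pow_one] at this

/-- the two classes from block diagonal matrices -/
theorem tc_blk {k : ℕ} {d : F} {C₀ : Matrix (Fin (k + 1)) (Fin (k + 1)) F} (hC : Cyc C₀)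
    (hd : C₀.charpoly.eval d ≠ 0) (hdet : d * C₀.det = 1) :
    TC (ProjectiveSpecialLinearGroup (Fin (k + 2)) F) := by
  have hd0 : d ≠ 0 := left_ne_zero_of_mul (by rw [hdet]; exact one_ne_zero)
  have hC0 : C₀.det ≠ 0 := right_ne_zero_of_mul (by rw [hdet]; exact one_ne_zero)
  obtain ⟨x₀, hx₀⟩ : ∃ x₀ : SpecialLinearGroup (Fin (k + 2)) F, x₀.val = blk d C₀ :=
    ⟨⟨blk d C₀, by rw [blk_det, hdet]⟩, rfl⟩
  refine ⟨QuotientGroup.mk' _ x₀, QuotientGroup.mk' _ x₀, fun g hg => ?_⟩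
  obtain ⟨A, rfl⟩ := QuotientGroup.mk'_surjective
    (Subgroup.center (SpecialLinearGroup (Fin (k + 2)) F)) g
  have hA : ∀ c : F, (A : Matrix (Fin (k + 2)) (Fin (k + 2)) F) ≠ scalar (Fin (k + 2)) c := by
    intro c hc
    apply hg
    refine (QuotientGroup.eq_one_iff A).mpr ?_
    rw [Matrix.SpecialLinearGroup.mem_center_iff]
    refine ⟨c, ?_, hc.symm⟩
    have h1 := A.det_coe
    rw [hc, Matrix.scalar_apply, Matrix.det_diagonal, Finset.prod_const, Finset.card_univ] at h1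
    exact h1
  obtain ⟨P, Q, hP, hQ, h⟩ := exists_mul_conj_blk (A : Matrix (Fin (k + 2)) (Fin (k + 2)) F) hA d C₀ hC hC0
    hd0 hd d C₀ hC hC0 hd0 hd (by rw [hdet, A.det_coe, one_mul])
  obtain ⟨P', hP'⟩ : ∃ P' : SpecialLinearGroup (Fin (k + 2)) F, P'.val = P := ⟨⟨P, hP⟩, rfl⟩
  obtain ⟨Q', hQ'⟩ : ∃ Q' : SpecialLinearGroup (Fin (k + 2)) F, Q'.val = Q := ⟨⟨Q, hQ⟩, rfl⟩
  have hi : ∀ (R : Matrix (Fin (k + 2)) (Fin (k + 2)) F) (R' : SpecialLinearGroup (Fin (k + 2)) F),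
      R'.val = R → R⁻¹ = (R'⁻¹).val := by
    intro R R' hR
    apply Matrix.inv_eq_right_inv
    have h1 : (R' * R'⁻¹).val = 1 := by rw [mul_inv_cancel]; rfl
    rw [← hR]
    exact h1
  have e : A = (P' * x₀ * P'⁻¹) * (Q' * x₀ * Q'⁻¹) := by
    apply Subtype.ext
    rw [h, hi P P' hP', hi Q Q' hQ', ← hP', ← hQ', ← hx₀]
    rfl
  refine ⟨QuotientGroup.mk' _ P', QuotientGroup.mk' _ Q', ?_⟩
  conv_lhs => rw [e]
  rfl

end field

/-- **`PSL_n(F)`** -/
theorem tc_psl {n : ℕ} (hn : 2 ≤ n) (F : Type*) [Field F] [Finite F] (hex : 3 ≤ n ∨ 4 ≤ Nat.card F) :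
    TC (ProjectiveSpecialLinearGroup (Fin n) F) := by
  obtain ⟨k, rfl⟩ : ∃ k, n = k + 2 := ⟨n - 2, by omega⟩
  rcases Nat.eq_zero_or_pos k with rfl | hk
  · have h4 : 4 ≤ Nat.card F := by omega
    obtain ⟨d, hd0, hd⟩ : ∃ d : F, d ≠ 0 ∧ d ^ 2 ≠ 1 := by
      classical
      have := Fintype.ofFinite F
      by_contra hcon
      push Not at hcon
      have h1 : (Finset.univ : Finset F) ⊆ {0, 1, -1} := by
        intro x _
        simp only [Finset.mem_insert, Finset.mem_singleton]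
        by_cases hx : x = 0
        · exact Or.inl hx
        · right
          have h2 := hcon x hx
          have h3 : (x - 1) * (x + 1) = 0 := by linear_combination h2
          rcases mul_eq_zero.1 h3 with h | h
          · exact Or.inl (sub_eq_zero.1 h)
          · exact Or.inr (eq_neg_of_add_eq_zero_left h)
      have h2 := Finset.card_le_card h1
      rw [Finset.card_univ, ← Nat.card_eq_fintype_card] at h2
      have h3 : ({0, 1, -1} : Finset F).card ≤ 3 := Finset.card_le_three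
      omega
    refine tc_blk (k := 0) (d := d) (C₀ := !![d⁻¹]) ?_ ?_ ?_
    · refine ⟨fun _ => 1, ?_⟩
      rw [Fintype.linearIndependent_iff]
      intro g hg i
      have h1 := congrFun hg 0
      have hi : i = 0 := Fin.ext (by omega)
      subst hi
      simpa [Finset.univ_unique] using h1
    · rw [Matrix.charpoly, Matrix.det_fin_one, Matrix.charmatrix_apply_eq]
      simp only [Matrix.of_apply, Matrix.cons_val', Matrix.cons_val_fin_one, eval_sub, eval_X, eval_C, ne_eq]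
      intro h
      apply hd
      rw [sub_eq_zero] at h
      rw [pow_two]
      nth_rw 2 [h]
      exact mul_inv_cancel₀ hd0
    · rw [Matrix.det_fin_one_of]
      exact mul_inv_cancel₀ hd0
  · obtain ⟨f, hfm, hfi, hfd, hfN⟩ := exists_norm_one F (show 2 ≤ k + 1 by omega)
    obtain ⟨B, hB⟩ := exists_matrix f hfm (coeff_zero_ne hfi (by omega)) hfd
    refine tc_blk (k := k) (d := 1) (C₀ := B) (cyc_of_irr (by omega) (by rw [hB]; exact hfi)) ?_ ?_
    · rw [hB]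
      exact eval_ne_zero hfi (by omega) 1
    · rw [one_mul, det_eq_sign_charpoly_coeff, hB, Fintype.card_fin, hfN]

theorem tc_isPSL {G : Type*} [Group G] (h : Cfsg.IsPSL G) : TC G := by
  obtain ⟨F, _, _, n, hn, h2, ⟨e⟩⟩ := h
  refine TC.of_equiv e (tc_psl hn F ?_)
  rcases Nat.lt_or_ge n 3 with h | h
  · right
    rw [Nat.card_eq_fintype_card]
    exact h2 (by omega)
  · exact Or.inl h

end Cfsg.Agent.H140.TC
end

-- part: H459/TC/Cls
section
/-!
# Alternating and classical rows of S4173 (helper459)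
-/

set_option autoImplicit false

namespace Cfsg.Agent.H459.TC

open Cfsg.Agent.H140.TC

universe u

theorem tc_isPSU {G : Type u} [Group G] (h : IsPSU G) : TC G := by
  obtain ⟨F, _, _, n, q, hF, hn, hex, ⟨e⟩⟩ := h
  exact TC.of_equiv e (Cfsg.Agent.H950.TC.tc_psu hF hn hex)

theorem tc_isPOmegaOdd {G : Type u} [Group G] (h : IsPOmegaOdd G) : TC G := by
  obtain ⟨F, _, _, m, hm, ho, ⟨e⟩⟩ := h
  exact TC.of_equiv e (tc_odd ho hm)

theorem tc_isPOmegaPlus {G : Type u} [Group G] (h : IsPOmegaPlus G) : TC G := by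
  obtain ⟨F, _, _, m, hm, ⟨e⟩⟩ := h
  exact TC.of_equiv e (tc_plus hm)

theorem tc_isPOmegaMinus {G : Type u} [Group G] (h : IsPOmegaMinus G) : TC G := by
  obtain ⟨F, _, _, m, a, b, hm, hab, ⟨e⟩⟩ := h
  by_cases h : 5 ≤ m ∨ 3 ≤ Fintype.card F
  · exact TC.of_equiv e (tc_minus hm a b hab h)
  · have h2 : 2 ≤ Fintype.card F := Fintype.one_lt_card
    obtain rfl : m = 4 := by omega
    exact TC.of_equiv e (Cfsg.Agent.H181.O8m.pp_o8m (by omega) hab).tc

/-- the classical and alternating rows of S4173 -/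
theorem tc_cls : Cfsg.Agent.H459.Ore.ClsRows.{u} (fun G _ => TC G) where
  alt := fun h => (row3_isAlternating h).tc
  psl := tc_isPSL
  psp := tc_isPSp
  psu := tc_isPSU
  poo := tc_isPOmegaOdd
  pop := tc_isPOmegaPlus
  pom := tc_isPOmegaMinus

end Cfsg.Agent.H459.TC
end

-- part: H980/TC/Th
section
/-!
# S4173, row `Th` (helper980)
-/

set_option autoImplicit false

namespace Cfsg.Agent.H980.TC

open Cfsg

universe u

/-- **S4173, row `Th`** -/
theorem tc_th {S : Type u} [Group S] (h : Spor.IsoTh S) : Cfsg.Agent.H140.TC.TC S := by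
  obtain ⟨x, y, -, -, hp⟩ := Th.exists_th h
  exact ⟨x, y, hp⟩

end Cfsg.Agent.H980.TC
end

-- part: H459/TC/Spor
section
/-!
# Sporadic rows of S4173; open rows `Co₁`, `M` as hypotheses (helper459)
-/

set_option autoImplicit false

namespace Cfsg.Agent.H459.TC

open Cfsg.Agent.H140.TC

universe u

/-- the sporadic rows of S4173 -/
theorem tc_spor_of (hK : Cfsg.Agent.H995.CopEngine.AllKnown.{0})
    (hCo1 : ∀ {G : Type u} [Group G], Spor.IsoCo1 G → TC G) (hM : ∀ {G : Type u} [Group G], Spor.IsoM G → TC G) :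
    Cfsg.Agent.H459.Ore.SporRows.{u} (fun G _ => TC G) where
  m11 := fun h => Cfsg.Agent.H922.TC.Mat.tc_m11 h
  m12 := fun h => Cfsg.Agent.H922.TC.Mat.tc_m12 h
  m22 := fun h => Cfsg.Agent.H334.TC.tc_m22 h
  m23 := fun h => Cfsg.Agent.H334.TC.tc_m23 h
  m24 := fun h => Cfsg.Agent.H334.TC.tc_m24 h
  j1 := fun h => (Cfsg.Agent.H455.TC.row3_j1 h).tc
  j2 := fun h => Cfsg.Agent.H300.TC.JTwo.tc_j2 h
  j3 := fun h => (Cfsg.Agent.H455.TC.row3_j3 h).tc
  j4 := fun h => Cfsg.Agent.H854.TC.tc_J4 h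
  co1 := fun h => hCo1 h
  co2 := fun h => (Cfsg.Agent.H258.TC.row3_co2 h).tc
  co3 := fun h => Cfsg.Agent.H763.TC.Co3.tc_co3 h
  mcL := fun h => (Cfsg.Agent.H235.TC.McL.row3_mcl h).tc
  hS := fun h => Cfsg.Agent.H922.TC.HS.tc_hs h
  suz := fun h => Cfsg.Agent.H264.TC.Suz.tc_Suz h
  he := fun h => (Cfsg.Agent.H235.TC.He.row3_he h).tc
  ru := fun h => Cfsg.Agent.H51.XX.tc_Ru h
  oN := fun h => (Cfsg.Agent.H210.TC.ONan.row3_on h).tc
  ly := fun h => (Cfsg.Agent.H210.TC.row3_ly hK h).tc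
  fi22 := fun h => Cfsg.Agent.H763.TC.Fi22.tc_fi22 h
  fi23 := fun h => Cfsg.Agent.H293.PwF.tc_fi23 h
  fi24 := fun h => Cfsg.Agent.H713.TC.FiTF.tc_Fi24' h
  hN := fun h => Cfsg.Agent.H981.TC.HNTC.tc_HN h
  th := fun h => Cfsg.Agent.H980.TC.tc_th h
  b := fun h => Cfsg.Agent.H844.TC.BMain.tc_B h
  m := fun h => hM h

end Cfsg.Agent.H459.TC
end

-- part: H785/TC/Co1TC
section
/-!
# The row `Co1` of S4173 in the form `TC` (helper785)
-/

set_option autoImplicit false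

namespace Cfsg.Agent.H785.TC

open Cfsg

/-- the row `Co₁` of S4173 -/
theorem tc_Co1 {S : Type*} [Group S] (h : Spor.IsoCo1 S) : H140.TC.TC S := (row3_Co1 h).tc

end Cfsg.Agent.H785.TC
end

-- part: S4173
section
set_option autoImplicit false
open Cfsg

namespace Cfsg.Agent.S4173

/-- Every finite non-abelian simple group has two conjugacy classes C₁ and C₂ such that every nonidentity element is a product of an element of C₁ and an element of C₂. -/
theorem result {G : Type*} [Group G] [Finite G] [IsSimpleGroup G] (hna : ¬ IsMulCommutative G) : ∃ C₁ C₂ : ConjClasses G, ∀ g : G, g ≠ 1 → ∃ x ∈ C₁.carrier, ∃ y ∈ C₂.carrier, g = x * y := by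
  have B : Cfsg.Agent.H940.Eng.Base := ⟨Cfsg.Agent.OrdDiv.table, fun _ _ _ _ => Cfsg.Agent.S0000.result⟩
  have hK : Cfsg.Agent.H995.CopEngine.AllKnown.{0} := fun _ _ _ _ => Cfsg.Agent.S0000.result
  have h : Cfsg.Agent.H140.TC.TC G := Cfsg.Agent.H459.Ore.main (P := fun G _ => Cfsg.Agent.H140.TC.TC G)
    Cfsg.Agent.H459.TC.tc_cls Cfsg.Agent.H459.TC.tc_exc
    (Cfsg.Agent.H459.TC.tc_spor_of hK (fun h => Cfsg.Agent.H785.TC.tc_Co1 h) (fun h => Cfsg.Agent.H58.TC.tc_M B h))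
    hna Cfsg.Agent.S0000.result
  exact h.classes

end Cfsg.Agent.S4173
end
end
end
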