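import Mathlib.GroupTheory.Sylow
import Mathlib.GroupTheory.OrderOfElement
import Mathlib.Tactic
import Cfsg.Agent.H466.RealLift
import Cfsg.Agent.S0200
import Cfsg.Agent.S0205
import Mathlib.GroupTheory.Solvable
import Cfsg.Agent.S0007
import Cfsg.Agent.S3861
import Cfsg.Agent.Lib.ModFour
import Cfsg.Agent.Transfer.AbelianHall
import Cfsg.Agent.OddHalf.D9.EEight.Count
import Cfsg.Statements.S4187
import Cfsg.Agent.S3863
import Cfsg.Agent.FastGrp
import Cfsg.Agent.Prune
set_option linter.all false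
prune_inst 0x7f00000000000000000000000000000000000000000000000000000000000000000000000000000000000000000000000000000000000000000000000000000000000000000000000000000000000000003fffffffffffffffffffffffffffbeffbdffffffff
open scoped Cfsg.Agent.FastGrp

-- part: H537/OddTransp
section
/-!
# H537: an isolation lemma

`T` is a Sylow 2-subgroup of the finite group `G` and `z` is an involution of the centre of `T`. Suppose that no
nontrivial element `w` of odd order inverted by `z` normalises a nontrivial 2-subgroup, and that for one such `w`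
the centraliser of `w` is transitive on the Sylow 2-subgroups. Then `z` is the only involution that commutes
with `z` (`Dat.eq_of_commute`).
-/

set_option autoImplicit false

namespace Cfsg.Agent.H537.OddTransp

open Subgroup
open scoped Pointwise

variable {G : Type*} [Group G]

/-! ### elementary facts on involutions -/

theorem inv_pow {s u : G} (h : s * u * s⁻¹ = u⁻¹) (n : ℕ) : s * u ^ n * s⁻¹ = (u ^ n)⁻¹ := by
  have h1 : (s * u * s⁻¹) ^ n = s * u ^ n * s⁻¹ := conj_pow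
  rw [← h1, h, _root_.inv_pow]

theorem eq_inv_of_sq {s : G} (h : s * s = 1) : s⁻¹ = s := inv_eq_of_mul_eq_one_left h

/-- `s` inverts `s * t`. -/
theorem inverts_mul {s t : G} (hs : s * s = 1) (ht : t * t = 1) : s * (s * t) * s⁻¹ = (s * t)⁻¹ := by
  rw [mul_inv_rev, eq_inv_of_sq hs, eq_inv_of_sq ht, ← mul_assoc, hs, one_mul]

theorem commute_of_sq {s t : G} (hs : s * s = 1) (ht : t * t = 1) (h : (s * t) * (s * t) = 1) : Commute s t := by
  have h1 : (s * t)⁻¹ = s * t := eq_inv_of_sq h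
  rw [mul_inv_rev, eq_inv_of_sq hs, eq_inv_of_sq ht] at h1
  exact h1.symm

theorem sq_of_conj {z s : G} (hz : z * z = 1) (h : IsConj z s) : s * s = 1 := by
  obtain ⟨g, rfl⟩ := isConj_iff.1 h
  calc g * z * g⁻¹ * (g * z * g⁻¹) = g * (z * z) * g⁻¹ := by group
    _ = 1 := by rw [hz]; group

theorem ne_one_of_conj {z s : G} (hz : z ≠ 1) (h : IsConj z s) : s ≠ 1 := by
  rintro rfl
  exact hz (isConj_one_left.1 h)

/-- an element of odd order is a square of one of its powers -/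
theorem exists_sqrt [Finite G] {w : G} (hw : Odd (orderOf w)) : ∃ n : ℕ, w ^ n * w ^ n = w := by
  obtain ⟨k, hk⟩ := hw
  refine ⟨k + 1, ?_⟩
  rw [← pow_add, show k + 1 + (k + 1) = (2 * k + 1) + 1 by ring, pow_succ, ← hk, pow_orderOf_eq_one, one_mul]

theorem eq_one_of_odd_sq {w : G} (hw : Odd (orderOf w)) (h : w * w = 1) : w = 1 := by
  have h1 : orderOf w ∣ 2 := orderOf_dvd_of_pow_eq_one (by rw [pow_two, h])
  rcases (Nat.dvd_prime Nat.prime_two).1 h1 with h2 | h2
  · exact orderOf_eq_one_iff.1 h2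
  · rw [h2] at hw
    exact absurd hw (by decide)

theorem eq_one_of_odd_inv {w : G} (hw : Odd (orderOf w)) (h : w = w⁻¹) : w = 1 :=
  eq_one_of_odd_sq hw (by nth_rewrite 1 [h]; exact inv_mul_cancel w)

/-- Involutions with a product of odd order are swapped by a conjugate of one of them. -/
theorem swap [Finite G] {a s : G} (ha : a * a = 1) (hs : s * s = 1) (h : Odd (orderOf (a * s))) :
    ∃ j : G, IsConj a j ∧ j * j = 1 ∧ j * a * j⁻¹ = s := by
  set w := a * s with hw
  have hinv : a * w * a⁻¹ = w⁻¹ := inverts_mul ha hs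
  obtain ⟨n, hn⟩ := exists_sqrt h
  have h2 : Odd (orderOf (w ^ n)) := by
    have h3 : orderOf (w ^ n) ∣ orderOf w := orderOf_pow_dvd n
    exact Odd.of_dvd_nat h h3
  obtain ⟨m, hm⟩ := exists_sqrt h2
  set v := (w ^ n) ^ m with hv
  have hva : a * v * a⁻¹ = v⁻¹ := inv_pow (inv_pow hinv n) m
  have hv4 : v * v * (v * v) = w := by rw [hm, hn]
  have ha' : a⁻¹ = a := eq_inv_of_sq ha
  rw [ha'] at hva
  -- `j = v⁻¹ * a * v`
  have hav : a * v = v⁻¹ * a := by
    calc a * v = a * v * a * a := by rw [mul_assoc, ha, mul_one]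
      _ = v⁻¹ * a := by rw [hva]
  have hj : IsConj a (v⁻¹ * a * v) := isConj_iff.2 ⟨v⁻¹, by group⟩
  refine ⟨v⁻¹ * a * v, hj, sq_of_conj ha hj, ?_⟩
  have h1 : v⁻¹ * a * v = a * (v * v) := by
    rw [← hav, mul_assoc]
  have h5 : a * s = v * v * (v * v) := by rw [hv4]
  have h6 : s = a * (v * v * (v * v)) := by
    rw [← h5, ← mul_assoc, ha, one_mul]
  have h7 : (a * (v * v))⁻¹ = a * (v * v) := by
    rw [← h1]; exact eq_inv_of_sq (sq_of_conj ha hj)
  rw [h1, h7, h6]
  have h8 : a * (v * v) * a * (a * (v * v)) = a * (v * v) * (a * a) * (v * v) := by group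
  rw [h8, ha]; group

/-- A 2-element normalising a cyclic 2-group lies with it in a Sylow 2-subgroup. -/
theorem exists_sylow_pair [Finite G] {x y : G} (hx : IsPGroup 2 (zpowers x)) (hy : IsPGroup 2 (zpowers y))
    (h : x ∈ normalizer ((zpowers y : Subgroup G) : Set G)) : ∃ P : Sylow 2 G, x ∈ P ∧ y ∈ P := by
  have h1 : IsPGroup 2 (zpowers x ⊔ zpowers y : Subgroup G) :=
    IsPGroup.to_sup_of_normal_right' hx hy (by rw [zpowers_le]; exact h)
  obtain ⟨P, hP⟩ := h1.exists_le_sylow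
  exact ⟨P, hP ((le_sup_left : zpowers x ≤ _) (mem_zpowers x)), hP ((le_sup_right : zpowers y ≤ _) (mem_zpowers y))⟩

theorem isPGroup_zpowers_of_pow {x : G} {k : ℕ} (h : x ^ 2 ^ k = 1) : IsPGroup 2 (zpowers x) := by
  intro ⟨y, hy⟩
  obtain ⟨n, rfl⟩ := mem_zpowers_iff.1 hy
  refine ⟨k, Subtype.ext ?_⟩
  change (x ^ n) ^ 2 ^ k = 1
  rw [← zpow_natCast, ← zpow_mul, mul_comm, zpow_mul, zpow_natCast, h, one_zpow]

theorem isPGroup_zpowers_of_sq {x : G} (h : x * x = 1) : IsPGroup 2 (zpowers x) :=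
  isPGroup_zpowers_of_pow (k := 1) (by rw [pow_one, pow_two, h])

theorem mem_normalizer_zpowers_of_inv {s u : G} (h : s * u * s⁻¹ = u⁻¹) :
    s ∈ normalizer ((zpowers u : Subgroup G) : Set G) := by
  have h1 : (zpowers u).map (MulAut.conj s).toMonoidHom = zpowers u := by
    rw [MonoidHom.map_zpowers]
    have : (MulAut.conj s).toMonoidHom u = u⁻¹ := by simpa only [_root_.MulEquiv.toMonoidHom_eq_coe, _root_.MonoidHom.coe_coe, _root_.MulAut.conj_apply] using h
    rw [this, zpowers_inv]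
  rw [mem_normalizer_iff]
  intro x
  constructor
  · intro hx
    rw [← h1]
    exact ⟨x, hx, by simp⟩
  · intro hx
    have hx' : s * x * s⁻¹ ∈ (zpowers u : Subgroup G) := hx
    rw [← h1] at hx'
    obtain ⟨y, hy, hyx⟩ := hx'
    have : y = x := by
      have h2 : s * y * s⁻¹ = s * x * s⁻¹ := by simpa only [_root_.mul_left_inj, _root_.mul_right_inj, _root_.MulEquiv.toMonoidHom_eq_coe, _root_.MonoidHom.coe_coe, _root_.MulAut.conj_apply] using hyx
      simpa only [_root_.mul_left_inj, _root_.mul_right_inj] using h2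
    rw [← this]
    exact hy

theorem mem_normalizer_zpowers_of_commute {s u : G} (h : Commute s u) :
    s ∈ normalizer ((zpowers u : Subgroup G) : Set G) := by
  have h1 : s ∈ centralizer ((zpowers u : Subgroup G) : Set G) := by
    rw [mem_centralizer_iff]
    intro x hx
    obtain ⟨n, rfl⟩ := mem_zpowers_iff.1 hx
    exact (h.symm.zpow_left n)
  exact centralizer_le_normalizer _ h1

theorem mem_smul_sylow {p : ℕ} {T : Sylow p G} {g x : G} : x ∈ g • T ↔ g⁻¹ * x * g ∈ T := by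
  change x ∈ (MulAut.conj g • (T : Subgroup G)) ↔ _
  rw [Subgroup.mem_pointwise_smul_iff_inv_smul_mem]
  have h : (MulAut.conj g)⁻¹ • x = g⁻¹ * x * g := by
    rw [← map_inv, MulAut.smul_def, MulAut.conj_apply, inv_inv]
  rw [h]
  exact Iff.rfl

/-! ### the hypotheses -/

/-- The hypotheses of the isolation lemma. -/
structure Dat (T : Sylow 2 G) (z : G) : Prop where
  zT : z ∈ T
  zc : ∀ t ∈ T, Commute t z
  z2 : z * z = 1
  z1 : z ≠ 1
  b : ∀ w : G, w ≠ 1 → Odd (orderOf w) → z * w * z⁻¹ = w⁻¹ → ∀ W : Subgroup G, IsPGroup 2 W →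
    w ∈ normalizer (W : Set G) → W = ⊥
  w0 : ∃ w : G, w ≠ 1 ∧ Odd (orderOf w) ∧ z * w * z⁻¹ = w⁻¹ ∧ ∀ P : Sylow 2 G, ∃ c : G, Commute c w ∧ c • T = P

namespace Dat

variable [Finite G] {T : Sylow 2 G} {z : G}

omit [Finite G] in
theorem conj_b (D : Dat T z) {s : G} (hs : IsConj z s) {w : G} (hw1 : w ≠ 1) (hwo : Odd (orderOf w))
    (hw : s * w * s⁻¹ = w⁻¹) {W : Subgroup G} (hW : IsPGroup 2 W) (hwW : w ∈ normalizer (W : Set G)) : W = ⊥ := by
  obtain ⟨g, rfl⟩ := isConj_iff.1 hs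
  have h1 : W.map (MulAut.conj g⁻¹).toMonoidHom = ⊥ := by
    refine D.b (g⁻¹ * w * g) ?_ ?_ ?_ _ (hW.map _) ?_
    · intro h
      apply hw1
      have : w = g * (g⁻¹ * w * g) * g⁻¹ := by group
      rw [this, h]; group
    · have h2 : orderOf (g⁻¹ * w * g) = orderOf w := by
        have := orderOf_injective (MulAut.conj g⁻¹).toMonoidHom (MulAut.conj g⁻¹).injective w
        simpa only [_root_.map_inv, _root_.MulEquiv.toMonoidHom_eq_coe, _root_.MonoidHom.coe_coe, _root_.MulAut.inv_apply, _root_.MulAut.conj_symm_apply] using this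
      rw [h2]; exact hwo
    · calc z * (g⁻¹ * w * g) * z⁻¹ = g⁻¹ * ((g * z * g⁻¹) * w * (g * z * g⁻¹)⁻¹) * g := by group
        _ = (g⁻¹ * w * g)⁻¹ := by rw [hw]; group
    · rw [mem_normalizer_iff]
      have hmem : ∀ x : G, x ∈ W.map (MulAut.conj g⁻¹).toMonoidHom ↔ g * x * g⁻¹ ∈ W := by
        intro x
        constructor
        · rintro ⟨y, hy, rfl⟩
          have : g * ((MulAut.conj g⁻¹).toMonoidHom y) * g⁻¹ = y := by simp only [mul_assoc, _root_.map_inv, _root_.MulEquiv.toMonoidHom_eq_coe, _root_.MonoidHom.coe_coe, _root_.MulAut.inv_apply, _root_.MulAut.conj_symm_apply, _root_.mul_inv_cancel_left, _root_.mul_inv_cancel, _root_.mul_one]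
          rw [this]; exact hy
        · intro h
          exact ⟨_, h, by simp [mul_assoc]⟩
      intro x
      rw [hmem, hmem]
      have h3 := (mem_normalizer_iff.1 hwW) (g * x * g⁻¹)
      have h4 : g * (g⁻¹ * w * g * x * (g⁻¹ * w * g)⁻¹) * g⁻¹ = w * (g * x * g⁻¹) * w⁻¹ := by group
      rw [h4]
      exact h3
  rwa [map_eq_bot_iff_of_injective _ (MulAut.conj g⁻¹).injective] at h1

omit [Finite G] in
/-- 2-elements commuting with elements of odd order inverted by a conjugate of `z` are trivial -/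
theorem two_elt (D : Dat T z) {s : G} (hs : IsConj z s) {w : G} (hw1 : w ≠ 1) (hwo : Odd (orderOf w))
    (hw : s * w * s⁻¹ = w⁻¹) {a : G} (ha : IsPGroup 2 (zpowers a)) (hc : Commute a w) : a = 1 := by
  have := D.conj_b hs hw1 hwo hw ha (mem_normalizer_zpowers_of_commute hc.symm)
  exact zpowers_eq_bot.1 this

theorem odd_of_commute (D : Dat T z) {s : G} (hs : IsConj z s) {w : G} (hw1 : w ≠ 1) (hwo : Odd (orderOf w))
    (hw : s * w * s⁻¹ = w⁻¹) {a : G} (hc : Commute a w) : Odd (orderOf a) := by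
  obtain ⟨k, m, hm, hkm⟩ := Nat.exists_eq_two_pow_mul_odd (orderOf_pos a).ne'
  have h1 : (a ^ m) ^ 2 ^ k = 1 := by
    rw [← pow_mul, mul_comm, ← hkm, pow_orderOf_eq_one]
  have h2 : a ^ m = 1 := D.two_elt hs hw1 hwo hw (isPGroup_zpowers_of_pow h1) (hc.pow_left m)
  exact Odd.of_dvd_nat hm (orderOf_dvd_of_pow_eq_one h2)

omit [Finite G] in
/-- conjugates of `z` in `T` are central in `T` -/
theorem central_T (D : Dat T z) {s : G} (hs : IsConj z s) (hsT : s ∈ T) : ∀ t ∈ T, Commute t s := by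
  obtain ⟨w, hw1, hwo, hw, htr⟩ := D.w0
  obtain ⟨g, rfl⟩ := isConj_iff.1 hs
  obtain ⟨c, hcw, hc⟩ := htr (g⁻¹ • T)
  -- `n = (g * c)` normalises `T`
  have hn : (g * c) • T = T := by
    rw [mul_smul, hc, smul_inv_smul]
  have hmem : ∀ x : G, x ∈ T ↔ (g * c) * x * (g * c)⁻¹ ∈ T := by
    have h1 := Sylow.smul_eq_iff_mem_normalizer.1 hn
    intro x
    exact (mem_normalizer_iff.1 h1) x
  -- `y = c⁻¹ * z * c` lies in `T`
  have hyT : c⁻¹ * z * c ∈ T := by
    rw [hmem]
    have : g * c * (c⁻¹ * z * c) * (g * c)⁻¹ = g * z * g⁻¹ := by group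
    rw [this]; exact hsT
  have hy2 : IsPGroup 2 (zpowers (z * (c⁻¹ * z * c))) := by
    have : z * (c⁻¹ * z * c) ∈ T := mul_mem D.zT hyT
    have h3 : zpowers (z * (c⁻¹ * z * c)) ≤ (T : Subgroup G) := by rw [zpowers_le]; exact this
    exact T.isPGroup'.to_le h3
  have hyw : c⁻¹ * z * c * w * (c⁻¹ * z * c)⁻¹ = w⁻¹ := by
    have h1 : c * w * c⁻¹ = w := by rw [hcw.eq]; group
    calc c⁻¹ * z * c * w * (c⁻¹ * z * c)⁻¹ = c⁻¹ * (z * (c * w * c⁻¹) * z⁻¹) * c := by group
      _ = c⁻¹ * w⁻¹ * c := by rw [h1, hw]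
      _ = (c⁻¹ * w * c)⁻¹ := by group
      _ = w⁻¹ := by
        congr 1
        rw [mul_assoc, ← hcw.eq]; group
  have hcomm : Commute (z * (c⁻¹ * z * c)) w := by
    have h1 : z * (c⁻¹ * z * c) * w * (z * (c⁻¹ * z * c))⁻¹ = w := by
      calc z * (c⁻¹ * z * c) * w * (z * (c⁻¹ * z * c))⁻¹
          = z * (c⁻¹ * z * c * w * (c⁻¹ * z * c)⁻¹) * z⁻¹ := by group
        _ = (z * w * z⁻¹)⁻¹ := by rw [hyw]; group
        _ = w := by rw [hw, inv_inv]
    exact mul_inv_eq_iff_eq_mul.1 h1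
  have h1 : z * (c⁻¹ * z * c) = 1 := D.two_elt (IsConj.refl z) hw1 hwo hw hy2 hcomm
  have h2 : c⁻¹ * z * c = z := by
    have h3 := eq_inv_of_mul_eq_one_right h1
    rw [eq_inv_of_sq D.z2] at h3
    exact h3
  intro t ht
  have h3 : (g * c)⁻¹ * t * (g * c) ∈ T := by
    rw [hmem]
    have : g * c * ((g * c)⁻¹ * t * (g * c)) * (g * c)⁻¹ = t := by group
    rw [this]; exact ht
  have h4 := D.zc _ h3
  have h5 : g * z * g⁻¹ = (g * c) * z * (g * c)⁻¹ := by
    nth_rewrite 1 [show z = c * (c⁻¹ * z * c) * c⁻¹ by group]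
    rw [h2]; group
  rw [h5]
  have h6 : t = (g * c) * ((g * c)⁻¹ * t * (g * c)) * (g * c)⁻¹ := by group
  rw [h6]
  exact (Commute.conj_iff _).2 h4

theorem central (D : Dat T z) {s : G} (hs : IsConj z s) {P : Sylow 2 G} (hsP : s ∈ P) :
    ∀ t ∈ P, Commute t s := by
  obtain ⟨g, rfl⟩ := MulAction.exists_smul_eq G T P
  intro t ht
  rw [mem_smul_sylow] at ht hsP
  have h1 : IsConj z (g⁻¹ * s * g) := hs.trans (isConj_iff.2 ⟨g⁻¹, by group⟩)
  have h2 := D.central_T h1 hsP _ ht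
  have h3 : t = g * (g⁻¹ * t * g) * g⁻¹ := by group
  have h4 : s = g * (g⁻¹ * s * g) * g⁻¹ := by group
  rw [h3, h4]
  exact (Commute.conj_iff _).2 h2

/-- every Sylow 2-subgroup contains a conjugate of `z` -/
theorem exists_mem (D : Dat T z) (P : Sylow 2 G) : ∃ s ∈ P, IsConj z s := by
  obtain ⟨g, rfl⟩ := MulAction.exists_smul_eq G T P
  refine ⟨g * z * g⁻¹, ?_, isConj_iff.2 ⟨g, rfl⟩⟩
  rw [mem_smul_sylow]
  have h : g⁻¹ * (g * z * g⁻¹) * g = z := by group
  rw [h]
  exact D.zT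

/-- an element inverted by a conjugate of `z` has odd order or square 1 -/
theorem dichotomy (D : Dat T z) {s : G} (hs : IsConj z s) {u : G} (hu : s * u * s⁻¹ = u⁻¹) :
    Odd (orderOf u) ∨ u * u = 1 := by
  obtain ⟨k, m, hm, hkm⟩ := Nat.exists_eq_two_pow_mul_odd (orderOf_pos u).ne'
  by_cases hb : u ^ 2 ^ k = 1
  · right
    have hu2 := isPGroup_zpowers_of_pow hb
    obtain ⟨P, hsP, huP⟩ := exists_sylow_pair (isPGroup_zpowers_of_sq (sq_of_conj D.z2 hs)) hu2
      (mem_normalizer_zpowers_of_inv hu)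
    have h1 := D.central hs hsP u huP
    have h2 : s * u * s⁻¹ = u := by rw [← h1.eq]; group
    rw [hu] at h2
    nth_rewrite 1 [← h2]
    exact inv_mul_cancel u
  · left
    have hbo : Odd (orderOf (u ^ 2 ^ k)) := by
      have h1 : (u ^ 2 ^ k) ^ m = 1 := by rw [← pow_mul, ← hkm, pow_orderOf_eq_one]
      exact Odd.of_dvd_nat hm (orderOf_dvd_of_pow_eq_one h1)
    exact D.odd_of_commute hs hb hbo (inv_pow hu _) ((Commute.refl u).pow_right _)

/-- commuting is transitive on the conjugates of `z` -/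
theorem comm_trans (D : Dat T z) {s s' s'' : G} (hs : IsConj z s) (hs' : IsConj z s') (hs'' : IsConj z s'')
    (h : Commute s s') (h' : Commute s' s'') : Commute s s'' := by
  have q := sq_of_conj D.z2 hs
  have q' := sq_of_conj D.z2 hs'
  have q'' := sq_of_conj D.z2 hs''
  rcases D.dichotomy hs (inverts_mul q q'') with ho | h2
  · by_cases h1 : s * s'' = 1
    · exact commute_of_sq q q'' (by rw [h1, one_mul])
    · have := D.two_elt hs h1 ho (inverts_mul q q'') (isPGroup_zpowers_of_sq q') (h.symm.mul_right h')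
      exact absurd this (ne_one_of_conj D.z1 hs')
  · exact commute_of_sq q q'' h2

/-- `z` commutes with none of its other conjugates -/
theorem isolated (D : Dat T z) {s : G} (hs : IsConj z s) (hsz : Commute s z) : s = z := by
  by_contra hne
  obtain ⟨w, hw1, hwo, hw, -⟩ := D.w0
  have hz' : z⁻¹ = z := eq_inv_of_sq D.z2
  have q := sq_of_conj D.z2 hs
  -- the conjugate `r`
  obtain ⟨r, hr⟩ : ∃ r, r = w * z * w⁻¹ := ⟨_, rfl⟩
  have hzr : IsConj z r := isConj_iff.2 ⟨w, hr.symm⟩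
  have qr := sq_of_conj D.z2 hzr
  have hzr' : z * r = w⁻¹ * w⁻¹ := by
    rw [hr]
    calc z * (w * z * w⁻¹) = (z * w * z⁻¹) * w⁻¹ := by rw [hz']; group
      _ = _ := by rw [hw]
  have hzro : Odd (orderOf (z * r)) := by
    rw [hzr', ← mul_inv_rev, orderOf_inv, ← pow_two]
    exact Odd.of_dvd_nat hwo (orderOf_pow_dvd 2)
  have hzr1 : z * r ≠ 1 := by
    rw [hzr', ← mul_inv_rev, Ne, inv_eq_one]
    exact fun h => hw1 (eq_one_of_odd_sq hwo h)
  have hnc : ¬ Commute z r := by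
    intro h
    apply hzr1
    apply eq_one_of_odd_sq hzro
    calc z * r * (z * r) = z * (r * z) * r := by group
      _ = (z * z) * (r * r) := by rw [← h.eq]; group
      _ = 1 := by rw [D.z2, qr, one_mul]
  have hsro : Odd (orderOf (s * r)) := by
    rcases D.dichotomy hs (inverts_mul q qr) with ho | h2
    · exact ho
    · exact absurd (D.comm_trans (IsConj.refl z) hs hzr hsz.symm (commute_of_sq q qr h2)) hnc
  obtain ⟨j, hj, qj, hjz⟩ := swap D.z2 qr hzro
  obtain ⟨j', hj', qj', hjs⟩ := swap q qr hsro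
  have hj' : IsConj z j' := hs.trans hj'
  have ij : j⁻¹ = j := eq_inv_of_sq qj
  have ij' : j'⁻¹ = j' := eq_inv_of_sq qj'
  -- `p = j * j'` maps `s` to `z`
  have hpz : j * j' * s * (j * j')⁻¹ = z := by
    calc j * j' * s * (j * j')⁻¹ = j * (j' * s * j'⁻¹) * j⁻¹ := by group
      _ = j⁻¹ * (j * z * j⁻¹) * j := by rw [hjs, hjz, ij]
      _ = z := by group
  have hp1 : j * j' ≠ 1 := by
    intro h
    rw [h] at hpz
    apply hne
    simpa using hpz
  have hpj : j * (j * j') * j⁻¹ = (j * j')⁻¹ := inverts_mul qj qj'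
  -- the 2-group generated by the conjugates that commute with `z`
  let S : Set G := {x | IsConj z x ∧ Commute x z}
  have hSS : ∀ x ∈ S, ∀ y ∈ S, Commute x y := fun x hx y hy =>
    D.comm_trans hx.1 (IsConj.refl z) hy.1 hx.2 hy.2.symm
  have hSA : ∀ x ∈ _root_.Subgroup.closure S, ∀ y ∈ S, Commute x y := by
    intro x hx y hy
    induction hx using closure_induction with
    | mem x hx => exact hSS x hx y hy
    | one => exact Commute.one_left y
    | mul a b _ _ ha hb => exact ha.mul_left hb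
    | inv a _ ha => exact ha.inv_left
  have hAA : ∀ x ∈ closure S, ∀ y ∈ closure S, Commute x y := by
    intro x hx y hy
    induction hy using closure_induction with
    | mem y hy => exact hSA x hx y hy
    | one => exact Commute.one_right x
    | mul a b _ _ ha hb => exact ha.mul_right hb
    | inv a _ ha => exact ha.inv_right
  have hA2 : ∀ x ∈ closure S, x * x = 1 := by
    intro x hx
    induction hx using closure_induction with
    | mem x hx => exact sq_of_conj D.z2 hx.1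
    | one => exact one_mul 1
    | mul a b ha' hb' ha hb =>
      calc a * b * (a * b) = a * (b * a) * b := by group
        _ = (a * a) * (b * b) := by rw [← (hAA a ha' b hb').eq]; group
        _ = 1 := by rw [ha, hb, one_mul]
    | inv a _ ha => rw [← mul_inv_rev, ha, inv_one]
  have hAp : IsPGroup 2 (closure S) := by
    rintro ⟨x, hx⟩
    exact ⟨1, Subtype.ext (by simpa only [pow_two, _root_.pow_one, _root_.MulMemClass.mk_mul_mk, _root_.OneMemClass.coe_one] using hA2 x hx)⟩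
  have hzS : z ∈ _root_.Subgroup.closure S := subset_closure ⟨IsConj.refl z, Commute.refl z⟩
  have hpS : ∀ x ∈ S, j * j' * x * (j * j')⁻¹ ∈ S := by
    rintro x ⟨hx, hxz⟩
    refine ⟨hx.trans (isConj_iff.2 ⟨_, rfl⟩), ?_⟩
    have h3 := (Commute.conj_iff (j * j')).2 (D.comm_trans hx (IsConj.refl z) hs hxz hsz.symm)
    rwa [hpz] at h3
  have hpA : j * j' ∈ normalizer ((closure S : Subgroup G) : Set G) := by
    have h1 : (closure S).map (MulAut.conj (j * j')).toMonoidHom ≤ closure S := by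
      rw [MonoidHom.map_closure, closure_le]
      rintro _ ⟨x, hx, rfl⟩
      exact _root_.Subgroup.subset_closure (hpS x hx)
    have h2 : (closure S).map (MulAut.conj (j * j')).toMonoidHom = closure S :=
      Subgroup.eq_of_le_of_card_ge h1 (by
        rw [Subgroup.card_map_of_injective (MulAut.conj (j * j')).injective])
    rw [mem_normalizer_iff]
    intro x
    constructor
    · intro hx
      rw [← h2]
      exact ⟨x, hx, rfl⟩
    · intro hx
      have hx' : j * j' * x * (j * j')⁻¹ ∈ (closure S : Subgroup G) := hx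
      rw [← h2] at hx'
      obtain ⟨y, hy, hyx⟩ := hx'
      have h3 : j * j' * y * (j * j')⁻¹ = j * j' * x * (j * j')⁻¹ := hyx
      have : y = x := by
        have h4 := congrArg (fun g => (j * j')⁻¹ * g * (j * j')) h3
        simpa only [mul_assoc, _root_.mul_inv_rev, _root_.inv_mul_cancel_left, _root_.inv_mul_cancel, _root_.mul_one] using h4
      rw [← this]
      exact hy
  rcases D.dichotomy (hs := hj) hpj with ho | h2
  · have := D.conj_b hj hp1 ho hpj hAp hpA
    rw [this] at hzS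
    exact D.z1 (mem_bot.1 hzS)
  · -- `p` is an involution in `M = N(A)`
    have hjj' : Commute j j' := commute_of_sq qj qj' h2
    set M := normalizer ((closure S : Subgroup G) : Set G) with hM
    have hTM : (T : Subgroup G) ≤ M := by
      intro t ht
      have h1 : ∀ t ∈ T, ∀ x ∈ S, t * x * t⁻¹ ∈ S := by
        rintro t ht x ⟨hx, hxz⟩
        refine ⟨hx.trans (isConj_iff.2 ⟨_, rfl⟩), ?_⟩
        have h3 : t * z * t⁻¹ = z := by rw [(D.zc t ht).eq]; group
        have h4 := (Commute.conj_iff t).2 hxz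
        rwa [h3] at h4
      have h2 : ∀ t ∈ T, ∀ x ∈ _root_.Subgroup.closure S, t * x * t⁻¹ ∈ closure S := by
        intro t ht x hx
        have h3 : (closure S).map (MulAut.conj t).toMonoidHom ≤ closure S := by
          rw [MonoidHom.map_closure, closure_le]
          rintro _ ⟨x, hx, rfl⟩
          exact _root_.Subgroup.subset_closure (h1 t ht x hx)
        exact h3 ⟨x, hx, rfl⟩
      rw [hM, mem_normalizer_iff]
      intro x
      constructor
      · exact h2 t ht x
      · intro hx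
        have h4 := h2 t⁻¹ (inv_mem ht) _ hx
        have h5 : t⁻¹ * (t * x * t⁻¹) * t⁻¹⁻¹ = x := by group
        rwa [h5] at h4
    -- `p` lies in a conjugate of `T` in `M`
    obtain ⟨m, hm, hpm⟩ : ∃ m ∈ M, m⁻¹ * (j * j') * m ∈ T := by
      let T' : Sylow 2 M := T.subtype hTM
      have h3 : IsPGroup 2 (zpowers (⟨j * j', hpA⟩ : M)) := by
        apply isPGroup_zpowers_of_sq
        exact Subtype.ext h2
      obtain ⟨Q, hQ⟩ := h3.exists_le_sylow
      obtain ⟨m, hm⟩ := MulAction.exists_smul_eq M T' Q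
      refine ⟨m, m.2, ?_⟩
      have h4 : (⟨j * j', hpA⟩ : M) ∈ Q := hQ (mem_zpowers _)
      rw [← hm, mem_smul_sylow] at h4
      exact h4
    -- the conjugate `m z m⁻¹`
    have hs0 : IsConj z (m * z * m⁻¹) := isConj_iff.2 ⟨m, rfl⟩
    have hs0A : m * z * m⁻¹ ∈ _root_.Subgroup.closure S := ((mem_normalizer_iff.1 hm) z).1 hzS
    have hs0z : Commute (m * z * m⁻¹) z := hAA _ hs0A _ hzS
    have hs0p : Commute (j * j') (m * z * m⁻¹) := by
      have h3 := D.zc _ hpm
      have h4 : j * j' = m * (m⁻¹ * (j * j') * m) * m⁻¹ := by group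
      rw [h4]
      exact (Commute.conj_iff _).2 h3
    have hnjz : ¬ Commute (m * z * m⁻¹) j := by
      intro h
      have h3 : Commute z j := D.comm_trans (IsConj.refl z) hs0 hj hs0z.symm h
      have h4 : j * z * j⁻¹ = z := by rw [← h3.eq]; group
      rw [hjz] at h4
      exact hnc (h4 ▸ Commute.refl z)
    have q0 := sq_of_conj D.z2 hs0
    rcases D.dichotomy hs0 (inverts_mul q0 qj) with ho | h3
    · have h4 : m * z * m⁻¹ * j ≠ 1 := by
        intro h
        exact hnjz (commute_of_sq q0 qj (by rw [h, one_mul]))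
      have h5 : Commute (j * j') j := (Commute.refl j).mul_left hjj'.symm
      exact hp1 (D.two_elt hs0 h4 ho (inverts_mul q0 qj) (isPGroup_zpowers_of_sq h2) (hs0p.mul_right h5))
    · exact hnjz (commute_of_sq q0 qj h3)

theorem isolated' (D : Dat T z) {s s' : G} (hs : IsConj z s) (hs' : IsConj z s') (h : Commute s' s) : s' = s := by
  obtain ⟨g, rfl⟩ := isConj_iff.1 hs
  have h1 : IsConj z (g⁻¹ * s' * g) := hs'.trans (isConj_iff.2 ⟨g⁻¹, by group⟩)
  have h2 : Commute (g⁻¹ * s' * g) z := by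
    have h3 : g⁻¹ * s' * g = g⁻¹ * s' * g⁻¹⁻¹ := by group
    have h4 : z = g⁻¹ * (g * z * g⁻¹) * g⁻¹⁻¹ := by group
    rw [h3, h4]
    exact (Commute.conj_iff _).2 h
  have h3 := D.isolated h1 h2
  calc s' = g * (g⁻¹ * s' * g) * g⁻¹ := by group
    _ = _ := by rw [h3]

/-- an involution commutes with at most one conjugate of `z` -/
theorem unique_comm (D : Dat T z) {e : G} (he : e * e = 1) (he1 : e ≠ 1) {s s' : G} (hs : IsConj z s)
    (hs' : IsConj z s') (h : Commute s e) (h' : Commute s' e) : s = s' := by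
  have q := sq_of_conj D.z2 hs
  have q' := sq_of_conj D.z2 hs'
  rcases D.dichotomy hs (inverts_mul q q') with ho | h2
  · by_cases h1 : s * s' = 1
    · exact (D.isolated' hs hs' (commute_of_sq q q' (by rw [h1, one_mul])).symm).symm
    · exact absurd (D.two_elt hs h1 ho (inverts_mul q q') (isPGroup_zpowers_of_sq he)
        (h.symm.mul_right h'.symm)) he1
  · exact (D.isolated' hs hs' (commute_of_sq q q' h2).symm).symm

/-- **The isolation lemma**: `z` is the only involution that commutes with `z`. -/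
theorem eq_of_commute (D : Dat T z) {e : G} (he : e * e = 1) (he1 : e ≠ 1) (hez : Commute e z) : e = z := by
  obtain ⟨w, hw1, hwo, hw, -⟩ := D.w0
  have hz' : z⁻¹ = z := eq_inv_of_sq D.z2
  have ie : e⁻¹ = e := eq_inv_of_sq he
  -- `z₁ = w * z` is a conjugate of `z`
  obtain ⟨n, hn⟩ := exists_sqrt hwo
  have hv : z * w ^ n * z⁻¹ = (w ^ n)⁻¹ := inv_pow hw n
  have hz1 : IsConj z (w * z) := by
    refine isConj_iff.2 ⟨w ^ n, ?_⟩
    calc w ^ n * z * (w ^ n)⁻¹ = w ^ n * z * (z * w ^ n * z⁻¹) := by rw [hv]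
      _ = w ^ n * (z * z) * w ^ n * z⁻¹ := by group
      _ = (w ^ n * w ^ n) * z := by rw [D.z2, hz']; group
      _ = w * z := by rw [hn]
  have q1 := sq_of_conj D.z2 hz1
  set e' := w * e * w⁻¹ with he'
  have qe' : e' * e' = 1 := by
    rw [he']
    calc w * e * w⁻¹ * (w * e * w⁻¹) = w * (e * e) * w⁻¹ := by group
      _ = 1 := by rw [he]; group
  have ie' : e'⁻¹ = e' := eq_inv_of_sq qe'
  have he'1 : e' ≠ 1 := by
    intro h
    apply he1
    rw [he'] at h
    calc e = w⁻¹ * (w * e * w⁻¹) * w := by group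
      _ = 1 := by rw [h]; group
  -- `z₁` inverts `u = e * e'`
  have hzw : z * w = w⁻¹ * z := by
    calc z * w = z * w * z⁻¹ * z := by group
      _ = w⁻¹ * z := by rw [hw]
  have hzw' : z * w⁻¹ = w * z := by
    calc z * w⁻¹ = w * (w⁻¹ * z) * w⁻¹ := by group
      _ = w * (z * w) * w⁻¹ := by rw [hzw]
      _ = w * z := by group
  have hu : w * z * (e * e') * (w * z)⁻¹ = (e * e')⁻¹ := by
    rw [mul_inv_rev e e', ie, ie', he']
    have h1 : (w * z)⁻¹ = z * w⁻¹ := by rw [mul_inv_rev, hz']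
    rw [h1]
    calc w * z * (e * (w * e * w⁻¹)) * (z * w⁻¹)
        = w * (z * e) * w * e * w⁻¹ * z * w⁻¹ := by group
      _ = w * (e * z) * w * e * (w⁻¹ * z) * w⁻¹ := by rw [hez.eq]; group
      _ = w * (e * z) * w * e * (z * w) * w⁻¹ := by rw [← hzw]
      _ = w * e * (z * w) * e * z := by group
      _ = w * e * (w⁻¹ * z) * e * z := by rw [hzw]
      _ = w * e * w⁻¹ * (z * e) * z := by group
      _ = w * e * w⁻¹ * e * (z * z) := by rw [← hez.eq]; group
      _ = w * e * w⁻¹ * e := by rw [D.z2]; group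
  rcases D.dichotomy hz1 hu with ho | h2
  · by_cases hu1 : e * e' = 1
    · -- `e` commutes with `w`
      exfalso
      have h3 : e' = e := by
        have := eq_inv_of_mul_eq_one_right hu1
        rw [this, ie]
      have h4 : Commute e w := by
        have h5 : w * e * w⁻¹ = e := h3
        exact (mul_inv_eq_iff_eq_mul.1 h5).symm
      exact he1 (D.two_elt (IsConj.refl z) hw1 hwo hw (isPGroup_zpowers_of_sq he) h4)
    · -- `e * z₁` has odd order
      have h3 : Commute (e * (w * z)) (e * e') := by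
        have h4 : e * (w * z) * (e * e') * (e * (w * z))⁻¹ = e * e' := by
          calc e * (w * z) * (e * e') * (e * (w * z))⁻¹
              = e * (w * z * (e * e') * (w * z)⁻¹) * e⁻¹ := by group
            _ = e * (e * e')⁻¹ * e⁻¹ := by rw [hu]
            _ = (e * (e * e') * e⁻¹)⁻¹ := by group
            _ = e * e' := by rw [inverts_mul he qe', inv_inv]
        exact mul_inv_eq_iff_eq_mul.1 h4
      have h4 : Odd (orderOf (e * (w * z))) := D.odd_of_commute hz1 hu1 ho hu h3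
      obtain ⟨j, hj, -, hje⟩ := swap he q1 h4
      have h5 : IsConj z e := hz1.trans (isConj_iff.2 ⟨j⁻¹, by rw [← hje]; group⟩)
      exact D.isolated h5 hez
  · -- `e` and `e'` commute
    exfalso
    have hc : Commute e e' := commute_of_sq he qe' h2
    obtain ⟨P, heP, heP'⟩ := exists_sylow_pair (isPGroup_zpowers_of_sq he) (isPGroup_zpowers_of_sq qe')
      (mem_normalizer_zpowers_of_commute hc)
    obtain ⟨s, hsP, hs⟩ := D.exists_mem P
    have h3 : Commute s e := (D.central hs hsP e heP).symm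
    have h4 : Commute s e' := (D.central hs hsP e' heP').symm
    have h5 : z = s := D.unique_comm he he1 (IsConj.refl z) hs hez.symm h3
    have h6 : w * z * w⁻¹ = s :=
      D.unique_comm qe' he'1 (isConj_iff.2 ⟨w, rfl⟩) hs ((Commute.conj_iff _).2 hez.symm) h4
    have h7 : w * z * w⁻¹ = z := by rw [h6, h5]
    have h8 : z * w * z⁻¹ = w := by
      have h9 : w * z = z * w := mul_inv_eq_iff_eq_mul.1 h7
      rw [← h9]; group
    rw [hw] at h8
    exact hw1 (eq_one_of_odd_inv hwo h8.symm)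

end Dat

end Cfsg.Agent.H537.OddTransp
end

-- part: H537/RealTrans
section
/-!
# H537: centralisers of real elements of odd order that are transitive on the Sylow 2-subgroups

Let `z` be an involution in the centre of a Sylow 2-subgroup of the finite group `G`. If `z` inverts some
nontrivial element of odd order and the centraliser of every element of odd order inverted by `z` is transitive
on the Sylow 2-subgroups of `G`, then `G` has a nontrivial normal subgroup of odd order (`exists_normal_odd`).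
-/

set_option autoImplicit false

namespace Cfsg.Agent.H537.RealTrans

open Subgroup Cfsg.Agent.H537.OddTransp
open scoped Pointwise

variable {G : Type*} [Group G]

/-! ### one step modulo a normal 2-subgroup -/

theorem eq_one_of_odd_pow {n : G} {m k : ℕ} (hm : Odd m) (h1 : n ^ m = 1) (h2 : n ^ 2 ^ k = 1) : n = 1 := by
  have h3 : orderOf n ∣ m := orderOf_dvd_of_pow_eq_one h1
  have h4 : orderOf n ∣ 2 ^ k := orderOf_dvd_of_pow_eq_one h2
  have h5 : m.Coprime (2 ^ k) := Nat.Coprime.pow_right _ (Nat.coprime_two_right.2 hm)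
  exact orderOf_eq_one_iff.1 (Nat.dvd_one.1 (h5 ▸ Nat.dvd_gcd h3 h4))

theorem isPGroup_pow {V : Subgroup G} (hV : IsPGroup 2 V) {n : G} (hn : n ∈ V) : ∃ k : ℕ, n ^ 2 ^ k = 1 := by
  obtain ⟨k, hk⟩ := hV ⟨n, hn⟩
  exact ⟨k, by simpa only [_root_.SubmonoidClass.mk_pow, _root_.OneMemClass.coe_one] using congrArg Subtype.val hk⟩

/-- an element of odd order is a power of each of its `2 ^ k`-th powers -/
theorem commute_of_pow_two {w v : G} (hw : Odd (orderOf w)) {k : ℕ} (h : Commute (w ^ 2 ^ k) v) : Commute w v := by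
  have hc : (2 ^ k).Coprime (orderOf w) := Nat.Coprime.pow_left _ (Nat.coprime_two_left.2 hw)
  obtain ⟨m, hm⟩ := exists_pow_eq_self_of_coprime hc
  rw [← hm]
  exact h.pow_left m

/-- **The step modulo a normal 2-subgroup `V`.** -/
theorem step [Finite G] (V : Subgroup G) [V.Normal] (hV : IsPGroup 2 V) (S : Sylow 2 G) {z : G} (hzS : z ∈ S)
    (hzc : ∀ t ∈ S, Commute t z) (hz2 : z * z = 1)
    {y : G} (hy1 : y ≠ 1) (hyo : Odd (orderOf y)) (hy : z * y * z⁻¹ = y⁻¹) (hyV : ∀ v ∈ V, Commute y v)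
    (htr : ∀ P : Sylow 2 G, ∃ c : G, Commute c y ∧ c • S = P)
    (hmax : ∀ w : G, w ≠ 1 → Odd (orderOf w) → z * w * z⁻¹ = w⁻¹ → ∀ W : Subgroup G, IsPGroup 2 W → V ≤ W →
      w ∈ normalizer (W : Set G) → W ≤ V)
    {e : G} (he : e * e = 1) (hez : Commute e z) : e ∈ V ∨ e * z ∈ V := by
  have hVS : V ≤ (S : Subgroup G) := by
    obtain ⟨P, hP⟩ := hV.exists_le_sylow
    obtain ⟨g, hg⟩ := MulAction.exists_smul_eq G P S
    intro v hv
    rw [← hg]
    change v ∈ g • P
    rw [mem_smul_sylow]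
    apply hP
    have := Subgroup.Normal.conj_mem (inferInstance : V.Normal) v hv g⁻¹
    rwa [inv_inv] at this
  -- lifting
  have hlift : ∀ q : G ⧸ V, Odd (orderOf q) → (QuotientGroup.mk z : G ⧸ V) * q * (QuotientGroup.mk z)⁻¹ = q⁻¹ →
      ∃ w : G, (QuotientGroup.mk w : G ⧸ V) = q ∧ Odd (orderOf w) ∧ z * w * z⁻¹ = w⁻¹ := by
    intro q hqo hq
    obtain ⟨w, rfl, hwo⟩ := Cfsg.Agent.H466.RealLift.exists_odd_lift V q hqo
    refine ⟨w, rfl, hwo, ?_⟩
    -- `n = z w z⁻¹ w`
    have hn : z * w * z⁻¹ * w ∈ V := by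
      rw [← QuotientGroup.eq_one_iff]
      rw [QuotientGroup.mk_mul, QuotientGroup.mk_mul, QuotientGroup.mk_mul, QuotientGroup.mk_inv, hq,
        inv_mul_cancel]
    obtain ⟨k, hk⟩ := isPGroup_pow hV hn
    set n := z * w * z⁻¹ * w with hndef
    have hzw : z * w * z⁻¹ = n * w⁻¹ := by rw [hndef]; group
    have hzV : ∀ v ∈ V, z * v * z⁻¹ = v := by
      intro v hv
      rw [← (hzc v (hVS hv)).eq]; group
    have hcV : ∀ v ∈ V, ∀ g : G, g * v * g⁻¹ ∈ V := fun v hv g => Subgroup.Normal.conj_mem inferInstance v hv g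
    -- conjugation by `w * w` is conjugation by `n`
    have h1 : ∀ v ∈ V, w * v * w⁻¹ = n * (w⁻¹ * v * w) * n⁻¹ := by
      intro v hv
      have h2 := hzV _ (hcV v hv w)
      have h3 : z * (w * v * w⁻¹) * z⁻¹ = (z * w * z⁻¹) * (z * v * z⁻¹) * (z * w * z⁻¹)⁻¹ := by group
      rw [h3, hzw, hzV v hv] at h2
      rw [← h2]; group
    have h2 : ∀ v ∈ V, (w * w) * v * (w * w)⁻¹ = n * v * n⁻¹ := by
      intro v hv
      have h3 := h1 _ (hcV v hv w)
      calc (w * w) * v * (w * w)⁻¹ = w * (w * v * w⁻¹) * w⁻¹ := by group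
        _ = n * (w⁻¹ * (w * v * w⁻¹) * w) * n⁻¹ := h3
        _ = n * v * n⁻¹ := by group
    have h3 : ∀ j : ℕ, ∀ v ∈ V, (w * w) ^ j * v * ((w * w) ^ j)⁻¹ = n ^ j * v * (n ^ j)⁻¹ := by
      intro j
      induction j with
      | zero => intro v _; simp
      | succ j ih =>
        intro v hv
        calc (w * w) ^ (j + 1) * v * ((w * w) ^ (j + 1))⁻¹
            = (w * w) ^ j * ((w * w) * v * (w * w)⁻¹) * ((w * w) ^ j)⁻¹ := by rw [pow_succ]; group
          _ = (w * w) ^ j * (n * v * n⁻¹) * ((w * w) ^ j)⁻¹ := by rw [h2 v hv]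
          _ = n ^ j * (n * v * n⁻¹) * (n ^ j)⁻¹ := ih _ (hcV v hv n)
          _ = n ^ (j + 1) * v * (n ^ (j + 1))⁻¹ := by rw [pow_succ]; group
    have h4 : ∀ v ∈ V, Commute w v := by
      intro v hv
      have h5 := h3 (2 ^ k) v hv
      rw [hk] at h5
      have h6 : Commute ((w * w) ^ 2 ^ k) v := by
        have h7 : (w * w) ^ 2 ^ k * v * ((w * w) ^ 2 ^ k)⁻¹ = v := by rw [h5]; group
        exact mul_inv_eq_iff_eq_mul.1 h7
      have h7 : (w * w) ^ 2 ^ k = w ^ 2 ^ (k + 1) := by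
        rw [← pow_two, ← pow_mul, pow_succ, mul_comm]
      rw [h7] at h6
      exact commute_of_pow_two hwo h6
    -- `n` has odd order
    have h5 : (z * w * z⁻¹) ^ orderOf w = 1 := by
      rw [conj_pow, pow_orderOf_eq_one]; group
    have h6 : n ^ orderOf w = 1 := by
      rw [hzw, (h4 n hn).symm.inv_right.mul_pow] at h5
      rw [_root_.inv_pow, pow_orderOf_eq_one, inv_one, mul_one] at h5
      exact h5
    have h7 : n = 1 := eq_one_of_odd_pow hwo h6 hk
    rw [hzw, h7, one_mul]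
  -- the data modulo `V`
  have hsurj := QuotientGroup.mk'_surjective V
  have hker : IsPGroup 2 (QuotientGroup.mk' V).ker := by rw [QuotientGroup.ker_mk']; exact hV
  have hyV' : y ∉ V := by
    intro h
    obtain ⟨k, hk⟩ := isPGroup_pow hV h
    exact hy1 (eq_one_of_odd_pow hyo (pow_orderOf_eq_one y) hk)
  have hzV : z ∉ V := by
    intro h
    have h1 := hyV z h
    have h2 : z * y * z⁻¹ = y := by rw [← h1.eq]; group
    rw [hy] at h2
    exact hy1 (eq_one_of_odd_inv hyo h2.symm)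
  have D : Dat (S.mapSurjective hsurj) (QuotientGroup.mk z : G ⧸ V) := by
    refine ⟨?_, ?_, ?_, ?_, ?_, ?_⟩
    · exact ⟨z, hzS, rfl⟩
    · rintro _ ⟨t, ht, rfl⟩
      have := (hzc t ht).map (QuotientGroup.mk' V)
      exact this
    · rw [← QuotientGroup.mk_mul, hz2, QuotientGroup.mk_one]
    · rw [Ne, QuotientGroup.eq_one_iff]; exact hzV
    · intro q hq1 hqo hq W hW hqW
      obtain ⟨w, rfl, hwo, hw⟩ := hlift q hqo hq
      have hw1 : w ≠ 1 := by rintro rfl; exact hq1 rfl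
      have h1 : IsPGroup 2 (W.comap (QuotientGroup.mk' V)) := hW.comap_of_ker_isPGroup _ hker
      have h2 : V ≤ W.comap (QuotientGroup.mk' V) := by
        intro v hv
        rw [mem_comap]
        have : (QuotientGroup.mk' V) v = 1 := (QuotientGroup.eq_one_iff v).2 hv
        rw [this]; exact one_mem _
      have h3 : w ∈ normalizer ((W.comap (QuotientGroup.mk' V) : Subgroup G) : Set G) := by
        rw [mem_normalizer_iff]
        intro x
        rw [mem_comap, mem_comap, map_mul, map_mul, map_inv]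
        exact (mem_normalizer_iff.1 hqW) _
      have h4 := hmax w hw1 hwo hw _ h1 h2 h3
      rw [eq_bot_iff]
      intro q hq
      obtain ⟨x, rfl⟩ := QuotientGroup.mk_surjective q
      have h5 : x ∈ W.comap (QuotientGroup.mk' V) := hq
      rw [mem_bot, QuotientGroup.eq_one_iff]
      exact h4 h5
    · refine ⟨QuotientGroup.mk y, ?_, ?_, ?_, ?_⟩
      · rw [Ne, QuotientGroup.eq_one_iff]; exact hyV'
      · exact Odd.of_dvd_nat hyo (orderOf_map_dvd (QuotientGroup.mk' V) y)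
      · rw [← QuotientGroup.mk_inv, ← QuotientGroup.mk_mul, ← QuotientGroup.mk_mul, hy, QuotientGroup.mk_inv]
      · intro P
        obtain ⟨g, hg⟩ := MulAction.exists_smul_eq (G ⧸ V) (S.mapSurjective hsurj) P
        obtain ⟨g, rfl⟩ := QuotientGroup.mk_surjective g
        obtain ⟨c, hcy, hc⟩ := htr (g • S)
        refine ⟨QuotientGroup.mk c, hcy.map (QuotientGroup.mk' V), ?_⟩
        rw [← hg]
        have key : ∀ a : G, ((QuotientGroup.mk a : G ⧸ V) • (S.mapSurjective hsurj) : Sylow 2 (G ⧸ V)) =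
            (a • S).mapSurjective hsurj := by
          intro a
          apply Sylow.ext
          apply le_antisymm
          · intro q hq
            have hq' : q ∈ (QuotientGroup.mk a : G ⧸ V) • (S.mapSurjective hsurj) := hq
            rw [mem_smul_sylow] at hq'
            obtain ⟨s, hs, hsq⟩ := hq'
            refine ⟨a * s * a⁻¹, ?_, ?_⟩
            · change a * s * a⁻¹ ∈ a • S
              rw [mem_smul_sylow]
              have : a⁻¹ * (a * s * a⁻¹) * a = s := by group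
              rw [this]; exact hs
            · have h1 : (QuotientGroup.mk' V) (a * s * a⁻¹) =
                  (QuotientGroup.mk a : G ⧸ V) * (QuotientGroup.mk' V) s * (QuotientGroup.mk a : G ⧸ V)⁻¹ := by
                rw [map_mul, map_mul, map_inv]; rfl
              rw [h1, hsq]; group
          · rintro _ ⟨x, hx, rfl⟩
            have hx' : x ∈ a • S := hx
            rw [mem_smul_sylow] at hx'
            change _ ∈ (QuotientGroup.mk a : G ⧸ V) • (S.mapSurjective hsurj)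
            rw [mem_smul_sylow]
            exact ⟨_, hx', by rw [map_mul, map_mul, map_inv]; rfl⟩
        rw [key, key, hc]
  have he' : (QuotientGroup.mk e : G ⧸ V) * QuotientGroup.mk e = 1 := by
    rw [← QuotientGroup.mk_mul, he, QuotientGroup.mk_one]
  by_cases h1 : (QuotientGroup.mk e : G ⧸ V) = 1
  · exact Or.inl ((QuotientGroup.eq_one_iff e).1 h1)
  · right
    have h2 := D.eq_of_commute he' h1 (hez.map (QuotientGroup.mk' V))
    rw [← QuotientGroup.eq_one_iff, QuotientGroup.mk_mul, h2, ← QuotientGroup.mk_mul, hz2, QuotientGroup.mk_one]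

/-! ### the theorem -/

theorem mem_normalizer_of_forall [Finite G] {V : Subgroup G} {g : G} (h : ∀ v ∈ V, g * v * g⁻¹ ∈ V) :
    g ∈ normalizer (V : Set G) := by
  have h1 : V.map (MulAut.conj g).toMonoidHom ≤ V := by
    rintro _ ⟨x, hx, rfl⟩
    exact h x hx
  have h2 : V.map (MulAut.conj g).toMonoidHom = V :=
    Subgroup.eq_of_le_of_card_ge h1 (by rw [Subgroup.card_map_of_injective (MulAut.conj g).injective])
  rw [mem_normalizer_iff]
  intro x
  refine ⟨h x, fun hx => ?_⟩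
  have hx' : g * x * g⁻¹ ∈ V := hx
  rw [← h2] at hx'
  obtain ⟨y, hy, hyx⟩ := hx'
  have h3 : g * y * g⁻¹ = g * x * g⁻¹ := hyx
  have : y = x := by simpa only [_root_.mul_left_inj, _root_.mul_right_inj] using h3
  rw [← this]
  exact hy

theorem commute_of_mem {T : Subgroup G} {z : G} (hzc : ∀ t ∈ T, Commute t z) {w x : G}
    (hwo : Odd (orderOf w)) (hw : z * w * z⁻¹ = w⁻¹) (hx : x ∈ T) (hwx : w * x * w⁻¹ ∈ T) : Commute w x := by
  have h1 : z * x * z⁻¹ = x := by rw [← (hzc x hx).eq]; group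
  have h2 : z * (w * x * w⁻¹) * z⁻¹ = w * x * w⁻¹ := by rw [← (hzc _ hwx).eq]; group
  have h3 : z * (w * x * w⁻¹) * z⁻¹ = (z * w * z⁻¹) * (z * x * z⁻¹) * (z * w * z⁻¹)⁻¹ := by group
  rw [h3, hw, h1, inv_inv] at h2
  apply commute_of_pow_two hwo (k := 1)
  rw [pow_one, pow_two]
  have h4 : w * w * x * (w * w)⁻¹ = x := by
    calc w * w * x * (w * w)⁻¹ = w * (w * x * w⁻¹) * w⁻¹ := by group
      _ = w * (w⁻¹ * x * w) * w⁻¹ := by rw [h2]
      _ = x := by group
  exact mul_inv_eq_iff_eq_mul.1 h4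

theorem card_le [Finite G] {T : Sylow 2 G} {z : G} (hzc : ∀ t ∈ T, Commute t z) {w : G}
    (hwo : Odd (orderOf w)) (hw : z * w * z⁻¹ = w⁻¹)
    (htr : ∀ P : Sylow 2 G, ∃ c : G, Commute c w ∧ c • T = P) {W : Subgroup G} (hW : IsPGroup 2 W)
    (hwW : w ∈ normalizer (W : Set G)) : Nat.card W ≤ Nat.card (T ⊓ centralizer {w} : Subgroup G) := by
  obtain ⟨P, hP⟩ := hW.exists_le_sylow
  obtain ⟨c, hcw, hc⟩ := htr P
  have hT : ∀ x ∈ W, c⁻¹ * x * c ∈ T := by
    intro x hx
    have : x ∈ P := hP hx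
    rw [← hc, mem_smul_sylow] at this
    exact this
  have h1 : W.map (MulAut.conj c⁻¹).toMonoidHom ≤ (T ⊓ centralizer {w} : Subgroup G) := by
    rintro _ ⟨x, hx, rfl⟩
    have h2 : (MulAut.conj c⁻¹).toMonoidHom x = c⁻¹ * x * c := by
      change c⁻¹ * x * c⁻¹⁻¹ = _
      rw [inv_inv]
    rw [h2]
    refine ⟨hT x hx, ?_⟩
    change _ ∈ centralizer {w}
    rw [mem_centralizer_singleton_iff]
    have h3 : w * (c⁻¹ * x * c) * w⁻¹ ∈ T := by
      have h4 : w * (c⁻¹ * x * c) * w⁻¹ = c⁻¹ * (w * x * w⁻¹) * c := by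
        have h5 : w * c⁻¹ = c⁻¹ * w := hcw.inv_left.symm.eq
        have h6 : c * w⁻¹ = w⁻¹ * c := hcw.inv_right.eq
        calc w * (c⁻¹ * x * c) * w⁻¹ = (w * c⁻¹) * x * (c * w⁻¹) := by group
          _ = _ := by rw [h5, h6]; group
      rw [h4]
      exact hT _ ((mem_normalizer_iff.1 hwW x).1 hx)
    exact (commute_of_mem hzc hwo hw (hT x hx) h3).symm
  calc Nat.card W = Nat.card (W.map (MulAut.conj c⁻¹).toMonoidHom) := by
        rw [Subgroup.card_map_of_injective (MulAut.conj c⁻¹).injective]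
    _ ≤ _ := Nat.card_le_card_of_injective _ (inclusion_injective h1)

/-- The normal closure of `y` has odd order if the conjugates of `y`, of odd order, commute. -/
theorem odd_card_normalClosure [Finite G] {y : G} (hyo : Odd (orderOf y))
    (hc : ∀ g : G, Commute y (g * y * g⁻¹)) : Odd (Nat.card (normalClosure {y})) := by
  have hS : ∀ x ∈ Group.conjugatesOfSet {y}, ∃ g : G, x = g * y * g⁻¹ := by
    intro x hx
    obtain ⟨a, ha, hax⟩ := Group.mem_conjugatesOfSet_iff.1 hx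
    rw [Set.mem_singleton_iff.1 ha] at hax
    obtain ⟨g, hg⟩ := isConj_iff.1 hax
    exact ⟨g, hg.symm⟩
  have hSS : ∀ x ∈ Group.conjugatesOfSet {y}, ∀ x' ∈ Group.conjugatesOfSet {y}, Commute x x' := by
    intro x hx x' hx'
    obtain ⟨g, rfl⟩ := hS x hx
    obtain ⟨h, rfl⟩ := hS x' hx'
    have h1 : h * y * h⁻¹ = g * ((g⁻¹ * h) * y * (g⁻¹ * h)⁻¹) * g⁻¹ := by group
    rw [h1]
    exact (Commute.conj_iff _).2 (hc _)
  have hSA : ∀ x ∈ normalClosure {y}, ∀ x' ∈ Group.conjugatesOfSet {y}, Commute x x' := by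
    intro x hx x' hx'
    induction hx using closure_induction with
    | mem x hx => exact hSS x hx x' hx'
    | one => exact Commute.one_left _
    | mul a b _ _ ha hb => exact ha.mul_left hb
    | inv a _ ha => exact ha.inv_left
  have hAA : ∀ x ∈ normalClosure {y}, ∀ x' ∈ normalClosure {y}, Commute x x' := by
    intro x hx x' hx'
    induction hx' using closure_induction with
    | mem x' hx' => exact hSA x hx x' hx'
    | one => exact Commute.one_right x
    | mul a b _ _ ha hb => exact ha.mul_right hb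
    | inv a _ ha => exact ha.inv_right
  have hAo : ∀ x ∈ normalClosure {y}, Odd (orderOf x) := by
    intro x hx
    induction hx using closure_induction with
    | mem x hx =>
      obtain ⟨g, rfl⟩ := hS x hx
      have h1 : orderOf (g * y * g⁻¹) = orderOf y := by
        have := orderOf_injective (MulAut.conj g).toMonoidHom (MulAut.conj g).injective y
        simpa using this
      rw [h1]; exact hyo
    | one => rw [orderOf_one]; exact odd_one
    | mul a b ha' hb' ha hb =>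
      have h1 : orderOf (a * b) ∣ orderOf a * orderOf b := (hAA a ha' b hb').orderOf_mul_dvd_mul_orderOf
      exact Odd.of_dvd_nat (ha.mul hb) h1
    | inv a _ ha => rw [orderOf_inv]; exact ha
  rw [← Nat.not_even_iff_odd, even_iff_two_dvd]
  intro h2
  obtain ⟨x, hx⟩ := exists_prime_orderOf_dvd_card' 2 h2
  have h3 := hAo x x.2
  rw [Subgroup.orderOf_coe, hx] at h3
  exact absurd h3 (by decide)

/-- **The theorem.** -/
theorem exists_normal_odd [Finite G] (T : Sylow 2 G) {z : G} (hzT : z ∈ T) (hzc : ∀ t ∈ T, Commute t z)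
    (hz2 : z * z = 1) (hex : ∃ y : G, y ≠ 1 ∧ Odd (orderOf y) ∧ z * y * z⁻¹ = y⁻¹)
    (htr : ∀ y : G, Odd (orderOf y) → z * y * z⁻¹ = y⁻¹ → ∀ P : Sylow 2 G, ∃ c : G, Commute c y ∧ c • T = P) :
    ∃ N : Subgroup G, N.Normal ∧ N ≠ ⊥ ∧ Odd (Nat.card N) := by
  -- the choice of `y`
  obtain ⟨y, ⟨hy1, hyo, hy⟩, hymax⟩ : ∃ y : G, (y ≠ 1 ∧ Odd (orderOf y) ∧ z * y * z⁻¹ = y⁻¹) ∧
      ∀ w : G, (w ≠ 1 ∧ Odd (orderOf w) ∧ z * w * z⁻¹ = w⁻¹) →
        Nat.card (T ⊓ centralizer {w} : Subgroup G) ≤ Nat.card (T ⊓ centralizer {y} : Subgroup G) := by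
    obtain ⟨y₀, hy₀⟩ := hex
    let X := {y : G // y ≠ 1 ∧ Odd (orderOf y) ∧ z * y * z⁻¹ = y⁻¹}
    have : Nonempty X := ⟨⟨y₀, hy₀⟩⟩
    obtain ⟨y, hy⟩ := Finite.exists_max (fun y : X => Nat.card (T ⊓ centralizer {(y : G)} : Subgroup G))
    exact ⟨y, y.2, fun w hw => hy ⟨w, hw⟩⟩
  obtain ⟨V, hVdef⟩ : ∃ V : Subgroup G, V = (T ⊓ centralizer {y} : Subgroup G) := ⟨_, rfl⟩
  have hVT : ∀ v ∈ V, v ∈ T := fun v hv => by rw [hVdef] at hv; exact hv.1
  have hVy : ∀ v ∈ V, Commute y v := fun v hv => by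
    rw [hVdef] at hv
    exact (mem_centralizer_singleton_iff.1 hv.2).symm
  have hV : IsPGroup 2 V := by
    rw [hVdef]
    exact T.isPGroup'.to_le inf_le_left
  have hVmem : ∀ v ∈ T, Commute y v → v ∈ V := by
    intro v hv h
    rw [hVdef]
    exact ⟨hv, mem_centralizer_singleton_iff.2 h.symm⟩
  -- the normaliser
  set H := normalizer (V : Set G) with hH
  have hVH : V ≤ H := le_normalizer
  have hyH : y ∈ H := mem_normalizer_of_forall fun v hv => by
    have : y * v * y⁻¹ = v := by rw [(hVy v hv).eq]; group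
    rw [this]; exact hv
  have hcH : ∀ e : G, (∀ t ∈ T, Commute t e) → e ∈ H := fun e he => mem_normalizer_of_forall fun v hv => by
    have : e * v * e⁻¹ = v := by rw [← (he v (hVT v hv)).eq]; group
    rw [this]; exact hv
  have hzH : z ∈ H := hcH z hzc
  have key : ∀ P : Sylow 2 G, V ≤ (P : Subgroup G) → ∃ c ∈ H, Commute c y ∧ c • T = P := by
    intro P hVP
    obtain ⟨c, hcy, hc⟩ := htr y hyo hy P
    refine ⟨c, ?_, hcy, hc⟩
    rw [← inv_inv c]
    apply inv_mem
    apply mem_normalizer_of_forall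
    intro v hv
    have h1 : v ∈ P := hVP hv
    rw [← hc, mem_smul_sylow] at h1
    rw [inv_inv]
    apply hVmem _ h1
    have h2 : c⁻¹ * v * c = c⁻¹ * v * c⁻¹⁻¹ := by rw [inv_inv]
    have h3 : y = c⁻¹ * y * c⁻¹⁻¹ := by
      rw [hcy.inv_left.eq]; group
    rw [h2, h3]
    exact (Commute.conj_iff _).2 (hVy v hv)
  have hVnorm : (V.subgroupOf H).Normal := by rw [hH]; infer_instance
  have hV' : IsPGroup 2 (V.subgroupOf H) := hV.comap_of_injective _ H.subtype_injective
  -- every Sylow 2-subgroup of `H` is conjugate into `T`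
  have key2 : ∀ P : Sylow 2 H, ∃ c : H, Commute (c : G) y ∧ ∀ x ∈ P, ((c⁻¹ * x * c : H) : G) ∈ T := by
    intro P
    have hVP : V.subgroupOf H ≤ (P : Subgroup H) := by
      obtain ⟨Q, hQ⟩ := hV'.exists_le_sylow
      obtain ⟨g, hg⟩ := MulAction.exists_smul_eq H Q P
      intro v hv
      rw [← hg]
      change v ∈ g • Q
      rw [mem_smul_sylow]
      apply hQ
      have := hVnorm.conj_mem v hv g⁻¹
      rwa [inv_inv] at this
    have h1 : IsPGroup 2 ((P : Subgroup H).map H.subtype) := P.isPGroup'.map _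
    obtain ⟨Q, hQ⟩ := h1.exists_le_sylow
    have hVQ : V ≤ (Q : Subgroup G) := by
      intro v hv
      exact hQ ⟨⟨v, hVH hv⟩, hVP hv, rfl⟩
    obtain ⟨c, hcH', hcy, hc⟩ := key Q hVQ
    refine ⟨⟨c, hcH'⟩, hcy, ?_⟩
    intro x hx
    have h2 : (x : G) ∈ Q := hQ ⟨x, hx, rfl⟩
    rw [← hc, mem_smul_sylow] at h2
    exact h2
  have hTH : IsPGroup 2 ((T : Subgroup G).subgroupOf H) := T.isPGroup'.comap_of_injective _ H.subtype_injective
  obtain ⟨S, hS⟩ := hTH.exists_le_sylow
  have hST : (T : Subgroup G).subgroupOf H = S := by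
    apply Subgroup.eq_of_le_of_card_ge hS
    obtain ⟨c, -, hc⟩ := key2 S
    have h1 : (S : Subgroup H).map (MulAut.conj c⁻¹).toMonoidHom ≤ (T : Subgroup G).subgroupOf H := by
      rintro _ ⟨x, hx, rfl⟩
      have h2 : (MulAut.conj c⁻¹).toMonoidHom x = c⁻¹ * x * c := by
        change c⁻¹ * x * c⁻¹⁻¹ = _
        rw [inv_inv]
      rw [h2]
      exact hc x hx
    calc Nat.card S = Nat.card ((S : Subgroup H).map (MulAut.conj c⁻¹).toMonoidHom) := by
          rw [Subgroup.card_map_of_injective (MulAut.conj c⁻¹).injective]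
      _ ≤ _ := Nat.card_le_card_of_injective _ (inclusion_injective h1)
  have hSmem : ∀ x : H, x ∈ S ↔ (x : G) ∈ T := by
    intro x
    change x ∈ (S : Subgroup H) ↔ _
    rw [← hST]
    exact Iff.rfl
  have htrS : ∀ P : Sylow 2 H, ∃ c : H, Commute c ⟨y, hyH⟩ ∧ c • S = P := by
    intro P
    obtain ⟨c, hcy, hc⟩ := key2 P
    refine ⟨c, Subtype.ext hcy, ?_⟩
    apply Sylow.ext
    apply P.is_maximal' (c • S).isPGroup'
    intro x hx
    change x ∈ c • S
    rw [mem_smul_sylow, hSmem]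
    exact hc x hx
  -- the involutions of the centre of `T`
  have hcent : ∀ e ∈ T, (∀ t ∈ T, Commute t e) → e * e = 1 → e * y * e⁻¹ = y ∨ e * y * e⁻¹ = y⁻¹ := by
    intro e heT hec he2
    have hmain := step (V.subgroupOf H) hV' S (z := ⟨z, hzH⟩) ((hSmem _).2 hzT)
      (fun t ht => Subtype.ext (hzc t ((hSmem t).1 ht))) (Subtype.ext hz2) (y := ⟨y, hyH⟩)
      (fun h => hy1 (congrArg Subtype.val h)) (by rw [Subgroup.orderOf_mk]; exact hyo) (Subtype.ext hy)
      (fun v hv => Subtype.ext (hVy v hv)) htrS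
      (by
        intro w hw1 hwo hw W hW hVW hwW
        have hw1' : (w : G) ≠ 1 := fun h => hw1 (Subtype.ext h)
        have hwo' : Odd (orderOf (w : G)) := by rw [Subgroup.orderOf_coe]; exact hwo
        have hw' : z * w * z⁻¹ = (w : G)⁻¹ := congrArg Subtype.val hw
        have h1 : (w : G) ∈ normalizer ((W.map H.subtype : Subgroup G) : Set G) := by
          apply mem_normalizer_of_forall
          rintro _ ⟨x, hx, rfl⟩
          exact ⟨w * x * w⁻¹, (mem_normalizer_iff.1 hwW x).1 hx, rfl⟩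
        have h2 := card_le hzc hwo' hw' (htr w hwo' hw') (hW.map H.subtype) h1
        have h3 := h2.trans (hymax w ⟨hw1', hwo', hw'⟩)
        rw [← hVdef, Subgroup.card_map_of_injective H.subtype_injective] at h3
        have h4 : Nat.card (V.subgroupOf H) = Nat.card V :=
          Nat.card_congr (subgroupOfEquivOfLe hVH).toEquiv
        rw [← h4] at h3
        exact (Subgroup.eq_of_le_of_card_ge hVW h3).ge)
      (e := ⟨e, hcH e hec⟩) (Subtype.ext he2) (Subtype.ext (hzc e heT))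
    rcases hmain with h | h
    · left
      have h1 : e ∈ V := h
      rw [← (hVy e h1).eq]; group
    · right
      have h1 : e * z ∈ V := h
      have h2 := hVy _ h1
      have h3 : e * z * y * (e * z)⁻¹ = y := by rw [← h2.eq]; group
      have h4 : e * y⁻¹ * e⁻¹ = y := by
        calc e * y⁻¹ * e⁻¹ = e * (z * y * z⁻¹) * e⁻¹ := by rw [hy]
          _ = e * z * y * (e * z)⁻¹ := by group
          _ = y := h3
      calc e * y * e⁻¹ = (e * y⁻¹ * e⁻¹)⁻¹ := by group
        _ = y⁻¹ := by rw [h4]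
  -- `z` normalises every conjugate of `⟨y⟩`
  have hall : ∀ g : G, z * (g * y * g⁻¹) * z⁻¹ = g * y * g⁻¹ ∨ z * (g * y * g⁻¹) * z⁻¹ = (g * y * g⁻¹)⁻¹ := by
    intro g
    obtain ⟨c, hcy, hc⟩ := htr y hyo hy (g⁻¹ • T)
    have hn : (g * c) • T = T := by rw [mul_smul, hc, smul_inv_smul]
    have hmem : ∀ x : G, x ∈ T ↔ (g * c) * x * (g * c)⁻¹ ∈ T := by
      have h1 := Sylow.smul_eq_iff_mem_normalizer.1 hn
      intro x
      exact (mem_normalizer_iff.1 h1) x
    have heT : (g * c)⁻¹ * z * (g * c) ∈ T := by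
      rw [hmem]
      have : g * c * ((g * c)⁻¹ * z * (g * c)) * (g * c)⁻¹ = z := by group
      rw [this]; exact hzT
    have hec : ∀ t ∈ T, Commute t ((g * c)⁻¹ * z * (g * c)) := by
      intro t ht
      have h1 := hzc _ ((hmem t).1 ht)
      have h2 : t = (g * c)⁻¹ * ((g * c) * t * (g * c)⁻¹) * (g * c)⁻¹⁻¹ := by group
      have h3 : (g * c)⁻¹ * z * (g * c) = (g * c)⁻¹ * z * (g * c)⁻¹⁻¹ := by rw [inv_inv]
      rw [h3, h2]
      exact (Commute.conj_iff _).2 h1
    have he2 : (g * c)⁻¹ * z * (g * c) * ((g * c)⁻¹ * z * (g * c)) = 1 := by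
      calc (g * c)⁻¹ * z * (g * c) * ((g * c)⁻¹ * z * (g * c)) = (g * c)⁻¹ * (z * z) * (g * c) := by group
        _ = 1 := by rw [hz2]; group
    have hgy : g * y * g⁻¹ = (g * c) * y * (g * c)⁻¹ := by
      have : c * y * c⁻¹ = y := by rw [hcy.eq]; group
      calc g * y * g⁻¹ = g * (c * y * c⁻¹) * g⁻¹ := by rw [this]
        _ = _ := by group
    have hE := hcent _ heT hec he2
    have h5 : z * (g * y * g⁻¹) * z⁻¹ =
        (g * c) * (((g * c)⁻¹ * z * (g * c)) * y * ((g * c)⁻¹ * z * (g * c))⁻¹) * (g * c)⁻¹ := by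
      rw [hgy]; group
    rcases hE with h | h
    · left; rw [h5, h, hgy]
    · right; rw [h5, h, hgy]; group
  have hall2 : ∀ g h : G, (h * z * h⁻¹) * (g * y * g⁻¹) * (h * z * h⁻¹)⁻¹ = g * y * g⁻¹ ∨
      (h * z * h⁻¹) * (g * y * g⁻¹) * (h * z * h⁻¹)⁻¹ = (g * y * g⁻¹)⁻¹ := by
    intro g h
    have h1 : (h * z * h⁻¹) * (g * y * g⁻¹) * (h * z * h⁻¹)⁻¹ =
        h * (z * ((h⁻¹ * g) * y * (h⁻¹ * g)⁻¹) * z⁻¹) * h⁻¹ := by group
    rcases hall (h⁻¹ * g) with h2 | h2
    · left; rw [h1, h2]; group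
    · right; rw [h1, h2]; group
  have hyy : y * y = (y * z * y⁻¹) * z := by
    have hz' : z⁻¹ = z := eq_inv_of_sq hz2
    calc y * y = y * (y⁻¹)⁻¹ := by rw [inv_inv]
      _ = y * (z * y * z⁻¹)⁻¹ := by rw [hy]
      _ = y * z * y⁻¹ * z⁻¹ := by group
      _ = _ := by rw [hz']
  have hcomm : ∀ g : G, Commute y (g * y * g⁻¹) := by
    intro g
    have h1 : (y * y) * (g * y * g⁻¹) * (y * y)⁻¹ = g * y * g⁻¹ ∨
        (y * y) * (g * y * g⁻¹) * (y * y)⁻¹ = (g * y * g⁻¹)⁻¹ := by
      have h2 : (y * y) * (g * y * g⁻¹) * (y * y)⁻¹ =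
          (y * z * y⁻¹) * (z * (g * y * g⁻¹) * z⁻¹) * (y * z * y⁻¹)⁻¹ := by rw [hyy]; group
      rcases hall g with h3 | h3
      · rw [h2, h3]; exact hall2 g y
      · rw [h2, h3]
        have h4 : (y * z * y⁻¹) * (g * y * g⁻¹)⁻¹ * (y * z * y⁻¹)⁻¹ =
            ((y * z * y⁻¹) * (g * y * g⁻¹) * (y * z * y⁻¹)⁻¹)⁻¹ := by group
        rw [h4]
        rcases hall2 g y with h5 | h5
        · right; rw [h5]
        · left; rw [h5, inv_inv]
    apply commute_of_pow_two hyo (k := 2)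
    have h2 : y ^ 2 ^ 2 = (y * y) * (y * y) := by
      rw [show (2 : ℕ) ^ 2 = 2 + 2 by norm_num, pow_add, pow_two]
    rw [h2]
    have h3 : (y * y) * (y * y) * (g * y * g⁻¹) * ((y * y) * (y * y))⁻¹ = g * y * g⁻¹ := by
      have h4 : (y * y) * (y * y) * (g * y * g⁻¹) * ((y * y) * (y * y))⁻¹ =
          (y * y) * ((y * y) * (g * y * g⁻¹) * (y * y)⁻¹) * (y * y)⁻¹ := by group
      rw [h4]
      rcases h1 with h5 | h5
      · rw [h5, h5]
      · rw [h5]
        have h6 : y * y * (g * y * g⁻¹)⁻¹ * (y * y)⁻¹ = (y * y * (g * y * g⁻¹) * (y * y)⁻¹)⁻¹ :=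
          conj_inv.symm
        rw [h6, h5, inv_inv]
    exact mul_inv_eq_iff_eq_mul.1 h3
  refine ⟨normalClosure {y}, normalClosure_normal, ?_, odd_card_normalClosure hyo hcomm⟩
  intro h
  have h1 : y ∈ normalClosure {y} := subset_normalClosure (Set.mem_singleton y)
  rw [h] at h1
  exact hy1 (mem_bot.1 h1)

end Cfsg.Agent.H537.RealTrans
end

-- part: H537/RealSolv
section
/-!
# H537: a solvability criterion

`RR G`: the centraliser of every real element of odd order is transitive on the Sylow 2-subgroups of `G`.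

* `RR.isSolvable` : a finite group with `RR` is solvable;
* `exists_real_lift` : real elements lift modulo normal subgroups of odd order;
* `exists_real_odd_lift` : real elements of odd order lift modulo normal subgroups of odd order and modulo normal
  2-subgroups.
-/

set_option autoImplicit false

namespace Cfsg.Agent.H537.RealSolv

open Subgroup Cfsg.Agent.H537.OddTransp Cfsg.Agent.H537.RealTrans
open scoped Pointwise

variable {G : Type*} [Group G]

/-- The centraliser of every real element of odd order is transitive on the Sylow 2-subgroups. -/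
def RR (G : Type*) [Group G] : Prop :=
  ∀ y : G, Odd (orderOf y) → IsConj y y⁻¹ → ∀ P Q : Sylow 2 G, ∃ c : G, Commute c y ∧ c • P = Q

theorem conj_odd_pow {t x : G} (h : t * x * t⁻¹ = x⁻¹) (m : ℕ) :
    t ^ (2 * m + 1) * x * (t ^ (2 * m + 1))⁻¹ = x⁻¹ := by
  have h' : t * x⁻¹ * t⁻¹ = x := by
    calc t * x⁻¹ * t⁻¹ = (t * x * t⁻¹)⁻¹ := by group
      _ = x := by rw [h, inv_inv]
  induction m with
  | zero => simpa only [_root_.MulZeroClass.mul_zero, _root_.zero_add, _root_.pow_one] using h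
  | succ m ih =>
    rw [show 2 * (m + 1) + 1 = 1 + 1 + (2 * m + 1) by ring, pow_add, pow_add, pow_one]
    calc t * t * t ^ (2 * m + 1) * x * (t * t * t ^ (2 * m + 1))⁻¹
        = t * (t * (t ^ (2 * m + 1) * x * (t ^ (2 * m + 1))⁻¹) * t⁻¹) * t⁻¹ := by group
      _ = x⁻¹ := by rw [ih, h', h]

/-- **Real elements lift modulo a normal subgroup of odd order.** -/
theorem exists_real_lift [Finite G] (N : Subgroup G) [N.Normal] (hN : Odd (Nat.card N)) (q : G ⧸ N)
    (hq : IsConj q q⁻¹) : ∃ x : G, (QuotientGroup.mk x : G ⧸ N) = q ∧ IsConj x x⁻¹ := by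
  obtain ⟨t₀, ht₀⟩ := isConj_iff.1 hq
  obtain ⟨t₁, rfl⟩ := QuotientGroup.mk_surjective t₀
  obtain ⟨k, m, hm, hkm⟩ := Nat.exists_eq_two_pow_mul_odd (orderOf_pos t₁).ne'
  obtain ⟨r, rfl⟩ := hm
  obtain ⟨t, ht⟩ : ∃ t : G, t = t₁ ^ (2 * r + 1) := ⟨_, rfl⟩
  have htk : t ^ 2 ^ k = 1 := by rw [ht, ← pow_mul, mul_comm, ← hkm, pow_orderOf_eq_one]
  have htq : (QuotientGroup.mk t : G ⧸ N) * q * (QuotientGroup.mk t)⁻¹ = q⁻¹ := by
    rw [ht, QuotientGroup.mk_pow]
    exact conj_odd_pow ht₀ r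
  have htq' : (QuotientGroup.mk t : G ⧸ N) * q⁻¹ * (QuotientGroup.mk t)⁻¹ = q := by
    have h1 : (QuotientGroup.mk t : G ⧸ N) * q⁻¹ * (QuotientGroup.mk t)⁻¹ =
        ((QuotientGroup.mk t : G ⧸ N) * q * (QuotientGroup.mk t)⁻¹)⁻¹ := by group
    rw [h1, htq, inv_inv]
  have htq'' : (QuotientGroup.mk t : G ⧸ N)⁻¹ * q⁻¹ * (QuotientGroup.mk t) = q := by
    calc (QuotientGroup.mk t : G ⧸ N)⁻¹ * q⁻¹ * (QuotientGroup.mk t)
        = (QuotientGroup.mk t : G ⧸ N)⁻¹ * (QuotientGroup.mk t * q * (QuotientGroup.mk t)⁻¹) *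
            (QuotientGroup.mk t) := by rw [htq]
      _ = q := by group
  let α := {g : G // (QuotientGroup.mk g : G ⧸ N) = q}
  let σ : Equiv.Perm α :=
    { toFun := fun g => ⟨t * (g : G)⁻¹ * t⁻¹, by
        rw [QuotientGroup.mk_mul, QuotientGroup.mk_mul, QuotientGroup.mk_inv, QuotientGroup.mk_inv, g.2, htq']⟩
      invFun := fun g => ⟨t⁻¹ * (g : G)⁻¹ * t, by
        rw [QuotientGroup.mk_mul, QuotientGroup.mk_mul, QuotientGroup.mk_inv, QuotientGroup.mk_inv, g.2, htq'']⟩
      left_inv := fun g => Subtype.ext (by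
        change t⁻¹ * (t * (g : G)⁻¹ * t⁻¹)⁻¹ * t = g
        group)
      right_inv := fun g => Subtype.ext (by
        change t * (t⁻¹ * (g : G)⁻¹ * t)⁻¹ * t⁻¹ = g
        group) }
  have hσ2 : ∀ (j : ℕ) (g : α), (((σ ^ 2) ^ j) g : G) = t ^ (2 * j) * (g : G) * (t ^ (2 * j))⁻¹ := by
    intro j
    induction j with
    | zero => intro g; simp only [_root_.pow_zero, _root_.Equiv.Perm.coe_one, _root_.id_eq, _root_.MulZeroClass.mul_zero, _root_.one_mul, _root_.inv_one, _root_.mul_one]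
    | succ j ih =>
      intro g
      rw [pow_succ, Equiv.Perm.mul_apply, ih]
      have h1 : (((σ ^ 2) g : α) : G) = t * (t * (g : G)⁻¹ * t⁻¹)⁻¹ * t⁻¹ := by
        rw [pow_two, Equiv.Perm.mul_apply]
        rfl
      rw [h1, show 2 * (j + 1) = 2 * j + 1 + 1 by ring, pow_succ, pow_succ]
      group
  have hσk : σ ^ 2 ^ (k + 1) = 1 := by
    ext g
    have h1 : σ ^ 2 ^ (k + 1) = (σ ^ 2) ^ 2 ^ k := by rw [← pow_mul, pow_succ, mul_comm]
    rw [h1, hσ2, mul_comm 2, pow_mul, htk, one_pow]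
    simp
  have hp : IsPGroup 2 (zpowers σ) := isPGroup_zpowers_of_pow hσk
  have hcard : Nat.card α = Nat.card N := by
    obtain ⟨x₀, hx₀⟩ := QuotientGroup.mk_surjective q
    refine (Nat.card_congr ?_).symm
    exact
      { toFun := fun n => ⟨x₀ * n, by
          rw [QuotientGroup.mk_mul, hx₀, (QuotientGroup.eq_one_iff (n : G)).2 n.2, mul_one]⟩
        invFun := fun g => ⟨x₀⁻¹ * g, by
          rw [← QuotientGroup.eq_one_iff, QuotientGroup.mk_mul, QuotientGroup.mk_inv, g.2, hx₀, inv_mul_cancel]⟩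
        left_inv := fun n => Subtype.ext (by
          change x₀⁻¹ * (x₀ * (n : G)) = n
          group)
        right_inv := fun g => Subtype.ext (by
          change x₀ * (x₀⁻¹ * (g : G)) = g
          group) }
  have hfact : Fact (Nat.Prime 2) := ⟨Nat.prime_two⟩
  obtain ⟨g, hg⟩ := hp.nonempty_fixed_point_of_prime_not_dvd_card α (by
    rw [hcard]
    rwa [← even_iff_two_dvd, Nat.not_even_iff_odd])
  refine ⟨g, g.2, ?_⟩
  have h1 : σ g = g := hg ⟨σ, mem_zpowers σ⟩
  have h2 : t * (g : G)⁻¹ * t⁻¹ = g := congrArg Subtype.val h1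
  refine isConj_iff.2 ⟨t, ?_⟩
  calc t * (g : G) * t⁻¹ = (t * (g : G)⁻¹ * t⁻¹)⁻¹ := by group
    _ = (g : G)⁻¹ := by rw [h2]

/-- Real elements of odd order lift modulo a normal subgroup of odd order or a normal 2-subgroup. -/
theorem exists_real_odd_lift [Finite G] (N : Subgroup G) [N.Normal] (hN : Odd (Nat.card N) ∨ IsPGroup 2 N)
    (q : G ⧸ N) (hqo : Odd (orderOf q)) (hq : IsConj q q⁻¹) :
    ∃ x : G, (QuotientGroup.mk x : G ⧸ N) = q ∧ Odd (orderOf x) ∧ IsConj x x⁻¹ := by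
  rcases hN with hN | hN
  · obtain ⟨x, rfl, hx⟩ := exists_real_lift N hN q hq
    refine ⟨x, rfl, ?_, hx⟩
    have h1 : x ^ (orderOf (QuotientGroup.mk x : G ⧸ N)) ∈ N := by
      rw [← QuotientGroup.eq_one_iff, QuotientGroup.mk_pow, pow_orderOf_eq_one]
    have h2 : x ^ (orderOf (QuotientGroup.mk x : G ⧸ N) * Nat.card N) = 1 := by
      rw [pow_mul]
      have h3 : (⟨_, h1⟩ : N) ^ Nat.card N = 1 := pow_card_eq_one'
      exact congrArg Subtype.val h3
    exact Odd.of_dvd_nat (hqo.mul hN) (orderOf_dvd_of_pow_eq_one h2)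
  · obtain ⟨x, rfl, hxo⟩ := Cfsg.Agent.H466.RealLift.exists_odd_lift N q hqo
    refine ⟨x, rfl, hxo, ?_⟩
    have hcop : ∀ y : G, Odd (orderOf y) → (orderOf y).Coprime (Nat.card N) := by
      intro y hy
      obtain ⟨k, hk⟩ := IsPGroup.iff_card.1 hN
      rw [hk]
      exact Nat.Coprime.pow_right _ ((Nat.coprime_two_right).2 hy)
    apply Cfsg.Agent.H466.RealLift.isConj_of_quotient N (hcop x hxo) (hcop x⁻¹ (by rwa [orderOf_inv]))
    rw [QuotientGroup.mk_inv]
    exact hq

theorem smul_mapSurjective {H : Type*} [Group H] [Finite G] {f : G →* H} (hf : Function.Surjective f)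
    (S : Sylow 2 G) (a : G) :
    (f a) • (S.mapSurjective hf) = (a • S).mapSurjective hf := by
  apply Sylow.ext
  apply le_antisymm
  · intro q hq
    have hq' : q ∈ (f a) • (S.mapSurjective hf) := hq
    rw [mem_smul_sylow] at hq'
    obtain ⟨s, hs, hsq⟩ := hq'
    refine ⟨a * s * a⁻¹, ?_, ?_⟩
    · change a * s * a⁻¹ ∈ a • S
      rw [mem_smul_sylow]
      have : a⁻¹ * (a * s * a⁻¹) * a = s := by group
      rw [this]; exact hs
    · rw [map_mul, map_mul, map_inv, hsq]; group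
  · rintro _ ⟨x, hx, rfl⟩
    have hx' : x ∈ a • S := hx
    rw [mem_smul_sylow] at hx'
    change _ ∈ (f a) • (S.mapSurjective hf)
    rw [mem_smul_sylow]
    exact ⟨_, hx', by rw [map_mul, map_mul, map_inv]⟩

/-- every Sylow 2-subgroup of a quotient is the image of one -/
theorem exists_mapSurjective {H : Type*} [Group H] [Finite G] [Finite H] {f : G →* H}
    (hf : Function.Surjective f) (P : Sylow 2 H) : ∃ S : Sylow 2 G, S.mapSurjective hf = P := by
  obtain ⟨S⟩ : Nonempty (Sylow 2 G) := inferInstance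
  obtain ⟨h, hh⟩ := MulAction.exists_smul_eq H (S.mapSurjective hf) P
  obtain ⟨a, rfl⟩ := hf h
  exact ⟨a • S, by rw [← smul_mapSurjective, hh]⟩

/-- the property passes to quotients by normal subgroups of odd order and by normal 2-subgroups -/
theorem RR.quotient [Finite G] (h : RR G) (N : Subgroup G) [N.Normal] (hN : Odd (Nat.card N) ∨ IsPGroup 2 N) :
    RR (G ⧸ N) := by
  intro q hqo hq P Q
  obtain ⟨x, rfl, hxo, hx⟩ := exists_real_odd_lift N hN q hqo hq
  obtain ⟨P', rfl⟩ := exists_mapSurjective (QuotientGroup.mk'_surjective N) P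
  obtain ⟨Q', rfl⟩ := exists_mapSurjective (QuotientGroup.mk'_surjective N) Q
  obtain ⟨c, hc, hcP⟩ := h x hxo hx P' Q'
  refine ⟨QuotientGroup.mk' N c, hc.map (QuotientGroup.mk' N), ?_⟩
  rw [smul_mapSurjective, hcP]

theorem exists_involution [Finite G] (h2 : 2 ∣ Nat.card G) (T : Sylow 2 G) :
    ∃ z ∈ T, (∀ t ∈ T, Commute t z) ∧ orderOf z = 2 := by
  have hfact : Fact (Nat.Prime 2) := ⟨Nat.prime_two⟩
  have hT : 2 ∣ Nat.card T := T.dvd_card_of_dvd_card h2
  have hnt : Nontrivial T := by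
    rw [← Finite.one_lt_card_iff_nontrivial]
    have := Nat.le_of_dvd Nat.card_pos hT
    omega
  have hc := T.isPGroup'.center_nontrivial
  have h3 : 2 ∣ Nat.card (center T) := by
    obtain ⟨n, hn⟩ := IsPGroup.iff_card.1 (T.isPGroup'.to_subgroup (center T))
    have hn0 : n ≠ 0 := by
      rintro rfl
      rw [pow_zero] at hn
      have := Finite.one_lt_card_iff_nontrivial.2 hc
      omega
    rw [hn]
    exact dvd_pow_self 2 hn0
  obtain ⟨x, hx⟩ := exists_prime_orderOf_dvd_card' 2 h3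
  refine ⟨((x : T) : G), (x : T).2, ?_, ?_⟩
  · intro t ht
    have := mem_center_iff.1 x.2 ⟨t, ht⟩
    exact congrArg Subtype.val this
  · rw [Subgroup.orderOf_coe, Subgroup.orderOf_coe, hx]

theorem solvable_aux (n : ℕ) : ∀ (G : Type*) [Group G] [Finite G], Nat.card G = n → RR G → Group.IsSolvable G := by
  induction n using Nat.strong_induction_on with
  | _ n ih =>
    intro G _ _ hn h
    have hquot : ∀ N : Subgroup G, N.Normal → N ≠ ⊥ → (Odd (Nat.card N) ∨ IsPGroup 2 N) → Group.IsSolvable G := by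
      intro N hNn hN1 hN
      have h1 : Nat.card (G ⧸ N) < n := by
        rw [← hn, Subgroup.card_eq_card_quotient_mul_card_subgroup N]
        have h2 : 1 < Nat.card N := by
          rw [Finite.one_lt_card_iff_nontrivial]
          exact (Subgroup.nontrivial_iff_ne_bot N).2 hN1
        have h3 : 0 < Nat.card (G ⧸ N) := Nat.card_pos
        nlinarith only [h2, h3]
      have h2 : Group.IsSolvable (G ⧸ N) := ih _ h1 (G ⧸ N) rfl (h.quotient N hN)
      have h3 : Group.IsSolvable N := by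
        rcases hN with hN | hN
        · exact Cfsg.Agent.S0205.result hN
        · have hfact : Fact (Nat.Prime 2) := ⟨Nat.prime_two⟩
          have := hN.isNilpotent
          infer_instance
      exact (Group.isSolvable_iff_subgroup_quotient N).2 ⟨h3, h2⟩
    by_cases h2 : 2 ∣ Nat.card G
    · obtain ⟨T⟩ : Nonempty (Sylow 2 G) := inferInstance
      obtain ⟨z, hzT, hzc, hz2⟩ := exists_involution h2 T
      by_cases hO : ∀ N : Subgroup G, N.Normal → IsPGroup 2 N → z ∉ N
      · obtain ⟨y, hy1, hyo, hy⟩ := Cfsg.Agent.S0200.result z hz2 hO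
        obtain ⟨N, hN, hN1, hNo⟩ := exists_normal_odd T hzT hzc
          (by rw [← pow_two, ← hz2, pow_orderOf_eq_one]) ⟨y, hy1, hyo, hy⟩
          (fun y hyo hy P => h y hyo (isConj_iff.2 ⟨z, hy⟩) T P)
        exact hquot N hN hN1 (Or.inl hNo)
      · push Not at hO
        obtain ⟨N, hN, hNp, hzN⟩ := hO
        refine hquot N hN ?_ (Or.inr hNp)
        rintro rfl
        rw [mem_bot.1 hzN, orderOf_one] at hz2
        omega
    · apply Cfsg.Agent.S0205.result
      rwa [← Nat.not_even_iff_odd, even_iff_two_dvd]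

/-- **A finite group in which the centralisers of the real elements of odd order are transitive on the Sylow
2-subgroups is solvable.** -/
theorem RR.isSolvable {G : Type*} [Group G] [Finite G] (h : RR G) : Group.IsSolvable G :=
  solvable_aux _ G rfl h

end Cfsg.Agent.H537.RealSolv
end

-- part: H537/RealSize
section
/-!
# H537: an element `i` with `i² = 1` whose class size is prime to all real class sizes

`Hyp i`: `i² = 1`, the class of `i` has odd size, prime to the size of the class of every real element `x` with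
`x² ≠ 1`. If such an `i` is not central, the finite group `G` is solvable (`Hyp.isSolvable`).
-/

set_option autoImplicit false

namespace Cfsg.Agent.H537.RealSize

open Subgroup Cfsg.Agent.H537.OddTransp Cfsg.Agent.H537.RealTrans Cfsg.Agent.H537.RealSolv
open scoped Pointwise

variable {G : Type*} [Group G]

/-- The size of the conjugacy class of `x`. -/
noncomputable abbrev cs (x : G) : ℕ := (centralizer ({x} : Set G)).index

/-- The hypothesis on `i`. -/
structure Hyp (i : G) : Prop where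
  i2 : i * i = 1
  odd : Odd (cs i)
  cop : ∀ x : G, IsConj x x⁻¹ → x * x ≠ 1 → (cs x).Coprime (cs i)

theorem mem_cent {x c : G} : c ∈ centralizer ({x} : Set G) ↔ Commute c x := by
  rw [mem_centralizer_singleton_iff]
  exact Iff.rfl

theorem conj_eq_of_commute {c x : G} (h : Commute c x) : c * x * c⁻¹ = x := by rw [h.eq]; group

theorem pairs [Finite G] {x i : G} (h : (cs x).Coprime (cs i)) (g : G) :
    ∃ c : G, Commute c x ∧ g * i * g⁻¹ = c * i * c⁻¹ := by
  obtain ⟨c, hc, m, hm, rfl⟩ := Cfsg.Agent.S0007.exists_mul_eq _ _ h g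
  refine ⟨c, mem_cent.1 hc, ?_⟩
  calc c * m * i * (c * m)⁻¹ = c * (m * i * m⁻¹) * c⁻¹ := by group
    _ = c * i * c⁻¹ := by rw [conj_eq_of_commute (mem_cent.1 hm)]

theorem isConj_mul [Finite G] {x i : G} (h : (cs x).Coprime (cs i)) (g : G) :
    IsConj (x * (g * i * g⁻¹)) (x * i) := by
  obtain ⟨c, hc, hg⟩ := pairs h g
  rw [hg]
  refine isConj_iff.2 ⟨c⁻¹, ?_⟩
  calc c⁻¹ * (x * (c * i * c⁻¹)) * c⁻¹⁻¹ = (c⁻¹ * x * c) * i := by group
    _ = x * i := by rw [show c⁻¹ * x * c = x by rw [mul_assoc, ← hc.eq]; group]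

theorem isConj_mul_inv [Finite G] {x i : G} (hi : i * i = 1) (h : (cs x).Coprime (cs i)) (hx : IsConj x x⁻¹) :
    IsConj (x * i) (x * i)⁻¹ := by
  obtain ⟨t, ht⟩ := isConj_iff.1 hx
  obtain ⟨c, hc, htc⟩ := pairs h t
  have h1 : (c⁻¹ * t) * i * (c⁻¹ * t)⁻¹ = i := by
    calc (c⁻¹ * t) * i * (c⁻¹ * t)⁻¹ = c⁻¹ * (t * i * t⁻¹) * c := by group
      _ = i := by rw [htc]; group
  have h2 : (c⁻¹ * t) * x * (c⁻¹ * t)⁻¹ = x⁻¹ := by
    calc (c⁻¹ * t) * x * (c⁻¹ * t)⁻¹ = c⁻¹ * (t * x * t⁻¹) * c := by group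
      _ = (c⁻¹ * x * c)⁻¹ := by rw [ht]; group
      _ = x⁻¹ := by rw [show c⁻¹ * x * c = x by rw [mul_assoc, ← hc.eq]; group]
  have h3 : IsConj (x * i) (x⁻¹ * i) := isConj_iff.2 ⟨c⁻¹ * t, by
    calc (c⁻¹ * t) * (x * i) * (c⁻¹ * t)⁻¹
        = ((c⁻¹ * t) * x * (c⁻¹ * t)⁻¹) * ((c⁻¹ * t) * i * (c⁻¹ * t)⁻¹) := by group
      _ = x⁻¹ * i := by rw [h1, h2]⟩
  refine h3.trans (isConj_iff.2 ⟨i, ?_⟩)
  rw [mul_inv_rev, eq_inv_of_sq hi]
  calc i * (x⁻¹ * i) * i = i * x⁻¹ * (i * i) := by group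
    _ = i * x⁻¹ := by rw [hi, mul_one]

/-- The products of two conjugates of `i`. -/
def prods (i : G) : Set G := {n | ∃ g h : G, n = (h * i * h⁻¹) * (g * i * g⁻¹)}

/-- The normal subgroup generated by the products of two conjugates of `i`. -/
def NN (i : G) : Subgroup G := normalClosure (prods i)

instance (i : G) : (NN i).Normal := normalClosure_normal

theorem conjugates_prods {i n : G} (hn : n ∈ Group.conjugatesOfSet (prods i)) : n ∈ prods i := by
  obtain ⟨a, ⟨g, h, rfl⟩, han⟩ := Group.mem_conjugatesOfSet_iff.1 hn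
  obtain ⟨k, rfl⟩ := isConj_iff.1 han
  exact ⟨k * g, k * h, by group⟩

theorem isConj_mul_prod [Finite G] {x i : G} (hi : i * i = 1) (hx : (cs x).Coprime (cs i))
    (hw : (cs (x * i)).Coprime (cs i)) (g h : G) : IsConj (x * ((h * i * h⁻¹) * (g * i * g⁻¹))) x := by
  obtain ⟨c, hc, hch⟩ := pairs hx h
  rw [hch]
  have h1 : IsConj (x * ((c * i * c⁻¹) * (g * i * g⁻¹))) (x * i * ((c⁻¹ * g) * i * (c⁻¹ * g)⁻¹)) := by
    refine isConj_iff.2 ⟨c⁻¹, ?_⟩
    calc c⁻¹ * (x * ((c * i * c⁻¹) * (g * i * g⁻¹))) * c⁻¹⁻¹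
        = (c⁻¹ * x * c) * i * ((c⁻¹ * g) * i * (c⁻¹ * g)⁻¹) := by group
      _ = _ := by rw [show c⁻¹ * x * c = x by rw [mul_assoc, ← hc.eq]; group]
  have h2 := isConj_mul hw (c⁻¹ * g)
  rw [mul_assoc x i i, hi, mul_one] at h2
  exact h1.trans h2

theorem isConj_mul_NN [Finite G] {x i : G} (hi : i * i = 1) (hx : (cs x).Coprime (cs i))
    (hw : (cs (x * i)).Coprime (cs i)) {n : G} (hn : n ∈ NN i) : ∀ y : G, IsConj x y → IsConj x (y * n) := by
  induction hn using closure_induction with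
  | mem n hn =>
    obtain ⟨g, h, rfl⟩ := conjugates_prods hn
    intro y hy
    obtain ⟨k, rfl⟩ := isConj_iff.1 hy
    have h1 := isConj_mul_prod hi hx hw (k⁻¹ * g) (k⁻¹ * h)
    refine h1.symm.trans (isConj_iff.2 ⟨k, by group⟩)
  | one => intro y hy; rwa [mul_one]
  | mul a b _ _ ha hb => intro y hy; rw [← mul_assoc]; exact hb _ (ha y hy)
  | inv a _ ha =>
    have h1 : ∀ k : ℕ, ∀ y : G, IsConj x y → IsConj x (y * a ^ k) := by
      intro k
      induction k with
      | zero => intro y hy; simpa only [_root_.pow_zero, _root_.mul_one, _root_.isConj_iff] using hy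
      | succ k ih => intro y hy; rw [pow_succ, ← mul_assoc]; exact ha _ (ih y hy)
    have h2 : a⁻¹ = a ^ (orderOf a - 1) := by
      apply inv_eq_of_mul_eq_one_left
      rw [← pow_succ, Nat.sub_add_cancel (orderOf_pos a), pow_orderOf_eq_one]
    rw [h2]
    exact h1 _

theorem card_dvd_cs [Finite G] {x : G} {N : Subgroup G}
    (h : ∀ n ∈ N, ∀ y : G, IsConj x y → IsConj x (y * n)) : Nat.card N ∣ cs x := by
  rw [cs, ← Cfsg.Agent.Lib.ModFour.card_isConj]
  have h1 : {y : G | IsConj x y} = (QuotientGroup.mk : G → G ⧸ N) ⁻¹' ((QuotientGroup.mk : G → G ⧸ N) '' {y : G | IsConj x y}) := by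
    ext y
    constructor
    · intro hy
      exact ⟨y, hy, rfl⟩
    · rintro ⟨y', hy', hyy⟩
      have h2 : y'⁻¹ * y ∈ N := QuotientGroup.eq.1 hyy
      have h3 := h _ h2 y' hy'
      rwa [← mul_assoc, mul_inv_cancel, one_mul] at h3
  have h2 : Nat.card {y : G // IsConj x y} =
      Nat.card N * Nat.card ((QuotientGroup.mk : G → G ⧸ N) '' {y : G | IsConj x y}) := by
    rw [← Nat.card_prod]
    refine Nat.card_congr ((Equiv.setCongr h1).trans (QuotientGroup.preimageMkEquivSubgroupProdSet N _))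
  rw [h2]
  exact dvd_mul_right _ _

/-- The case where `i` inverts `x`. -/
theorem odd_of_inverts [Finite G] {x i : G} (hi : i * i = 1) (hx : (cs x).Coprime (cs i))
    (hxo : Odd (orderOf x)) (hxi : (x * i) * (x * i) = 1) : Odd (Nat.card (normalClosure {x})) := by
  have ii : i⁻¹ = i := eq_inv_of_sq hi
  have h1 : i * x * i⁻¹ = x⁻¹ := by
    rw [ii]
    apply eq_inv_of_mul_eq_one_right
    calc x * (i * x * i) = x * i * (x * i) := by group
      _ = 1 := hxi
  -- `i` inverts every conjugate of `x`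
  have h2 : ∀ g : G, i * (g * x * g⁻¹) * i⁻¹ = (g * x * g⁻¹)⁻¹ := by
    intro g
    obtain ⟨c, hc, hgc⟩ := pairs hx g⁻¹
    have h3 : (g⁻¹ * i * g⁻¹⁻¹) * x * (g⁻¹ * i * g⁻¹⁻¹)⁻¹ = x⁻¹ := by
      rw [hgc]
      have h4 : c⁻¹ * x * c = x := by rw [mul_assoc, ← hc.eq]; group
      calc c * i * c⁻¹ * x * (c * i * c⁻¹)⁻¹ = c * (i * (c⁻¹ * x * c) * i⁻¹) * c⁻¹ := by group
        _ = (c * x * c⁻¹)⁻¹ := by rw [h4, h1]; group
        _ = x⁻¹ := by rw [conj_eq_of_commute hc]
    calc i * (g * x * g⁻¹) * i⁻¹ = g * ((g⁻¹ * i * g⁻¹⁻¹) * x * (g⁻¹ * i * g⁻¹⁻¹)⁻¹) * g⁻¹ := by group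
      _ = (g * x * g⁻¹)⁻¹ := by rw [h3]; group
  refine odd_card_normalClosure hxo fun g => ?_
  apply commute_of_pow_two hxo (k := 1)
  rw [pow_one, pow_two]
  -- `x * (g x g⁻¹) * x⁻¹` is a conjugate of `x`
  have h3 : i * (x * (g * x * g⁻¹) * x⁻¹) * i⁻¹ = (x * (g * x * g⁻¹) * x⁻¹)⁻¹ := by
    have h4 := h2 (x * g)
    have h5 : x * g * x * (x * g)⁻¹ = x * (g * x * g⁻¹) * x⁻¹ := by group
    rwa [h5] at h4
  have h4 : i * (x * (g * x * g⁻¹) * x⁻¹) * i⁻¹ = x⁻¹ * (g * x * g⁻¹)⁻¹ * x := by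
    calc i * (x * (g * x * g⁻¹) * x⁻¹) * i⁻¹
        = (i * x * i⁻¹) * (i * (g * x * g⁻¹) * i⁻¹) * (i * x * i⁻¹)⁻¹ := by group
      _ = x⁻¹ * (g * x * g⁻¹)⁻¹ * x := by rw [h1, h2]; group
  rw [h4] at h3
  have h5 : x * x * (g * x * g⁻¹) * (x * x)⁻¹ = g * x * g⁻¹ := by
    have h6 : x⁻¹ * (g * x * g⁻¹) * x = x * (g * x * g⁻¹) * x⁻¹ := by
      calc x⁻¹ * (g * x * g⁻¹) * x = (x⁻¹ * (g * x * g⁻¹)⁻¹ * x)⁻¹ := by group
        _ = (x * (g * x * g⁻¹) * x⁻¹)⁻¹⁻¹ := by rw [h3]
        _ = _ := inv_inv _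
    calc x * x * (g * x * g⁻¹) * (x * x)⁻¹ = x * (x * (g * x * g⁻¹) * x⁻¹) * x⁻¹ := by group
      _ = x * (x⁻¹ * (g * x * g⁻¹) * x) * x⁻¹ := by rw [h6]
      _ = g * x * g⁻¹ := by group
  exact mul_inv_eq_iff_eq_mul.1 h5

theorem sq_ne_one_of_odd {x : G} (hxo : Odd (orderOf x)) (hx1 : x ≠ 1) : x * x ≠ 1 :=
  fun h => hx1 (eq_one_of_odd_sq hxo h)

namespace Hyp

variable [Finite G] {i : G}

/-- no nontrivial real element of odd order commutes with `i`, if `O(G) = 1` -/
theorem not_commute (H : Hyp i) (hO : ∀ N : Subgroup G, N.Normal → Odd (Nat.card N) → N = ⊥)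
    (hi : ∃ g : G, g * i * g⁻¹ ≠ i) {x : G} (hxo : Odd (orderOf x)) (hx : IsConj x x⁻¹) (hx1 : x ≠ 1) :
    ¬ Commute x i := by
  intro hxi
  have hcx := H.cop x hx (sq_ne_one_of_odd hxo hx1)
  -- `(x * i)² ≠ 1`
  have hw : (x * i) * (x * i) ≠ 1 := by
    intro h
    have h1 : x * i * (x * i) = x * x := by
      calc x * i * (x * i) = x * (i * x) * i := by group
        _ = x * x * (i * i) := by rw [← hxi.eq]; group
        _ = x * x := by rw [H.i2, mul_one]
    rw [h1] at h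
    exact sq_ne_one_of_odd hxo hx1 h
  have hcw := H.cop (x * i) (isConj_mul_inv H.i2 hcx hx) hw
  -- all conjugates of `i` commute with `x`
  have h1 : ∀ g : G, Commute x (g * i * g⁻¹) := by
    intro g
    obtain ⟨c, hc, hg⟩ := pairs hcx g
    rw [hg]
    have := (Commute.conj_iff c).2 hxi
    rwa [conj_eq_of_commute hc] at this
  have h2 : ∀ n ∈ NN i, Commute x n := by
    intro n hn
    induction hn using closure_induction with
    | mem n hn =>
      obtain ⟨g, h, rfl⟩ := conjugates_prods hn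
      exact (h1 h).mul_right (h1 g)
    | one => exact Commute.one_right x
    | mul a b _ _ ha hb => exact ha.mul_right hb
    | inv a _ ha => exact ha.inv_right
  -- the elements of `NN i` have odd order
  have h3 : ∀ n ∈ NN i, n ^ orderOf x = 1 := by
    intro n hn
    have h4 := isConj_mul_NN H.i2 hcx hcw hn x (IsConj.refl x)
    obtain ⟨k, hk⟩ := isConj_iff.1 h4
    have h5 : (x * n) ^ orderOf x = 1 := by
      rw [← hk, conj_pow, pow_orderOf_eq_one]; group
    rwa [(h2 n hn).mul_pow, pow_orderOf_eq_one, one_mul] at h5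
  have h4 : Odd (Nat.card (NN i)) := by
    rw [← Nat.not_even_iff_odd, even_iff_two_dvd]
    intro h2
    obtain ⟨n, hn⟩ := exists_prime_orderOf_dvd_card' 2 h2
    have h5 : orderOf n ∣ orderOf x := orderOf_dvd_of_pow_eq_one (Subtype.ext (by
      simpa only [_root_.SubmonoidClass.coe_pow, _root_.OneMemClass.coe_one] using h3 n n.2))
    rw [hn, ← even_iff_two_dvd, ← Nat.not_odd_iff_even] at h5
    exact h5 hxo
  have h5 := hO (NN i) inferInstance h4
  obtain ⟨g, hg⟩ := hi
  have h6 : (1 * i * 1⁻¹) * (g * i * g⁻¹) ∈ NN i := subset_normalClosure ⟨g, 1, rfl⟩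
  rw [h5, mem_bot] at h6
  apply hg
  have h7 : i * (g * i * g⁻¹) = 1 := by simpa only [mul_assoc, _root_.one_mul, _root_.inv_one, _root_.mul_one] using h6
  have h8 := eq_inv_of_mul_eq_one_right h7
  rw [h8, eq_inv_of_sq H.i2]

/-- **The property `RR` when `O(G) = 1`.** -/
theorem rr (H : Hyp i) (hO : ∀ N : Subgroup G, N.Normal → Odd (Nat.card N) → N = ⊥)
    (hi : ∃ g : G, g * i * g⁻¹ ≠ i) : RR G := by
  have hfact : Fact (Nat.Prime 2) := ⟨Nat.prime_two⟩
  have hidx : ¬ 2 ∣ (centralizer ({i} : Set G)).index := by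
    rw [← even_iff_two_dvd, Nat.not_even_iff_odd]; exact H.odd
  obtain ⟨T, hT⟩ := Cfsg.Agent.Transfer.AbelianHall.exists_sylow_le 2 _ hidx
  -- `T` is normal in `C(i)`
  let T' : Sylow 2 (centralizer ({i} : Set G)) := T.subtype hT
  have hnorm : (T' : Subgroup (centralizer ({i} : Set G))).Normal := by
    rw [← Cfsg.Agent.S3861.result T']
    intro x hx1 hxo hx
    obtain ⟨g, hg⟩ := isConj_iff.1 hx
    have hx' : IsConj (x : G) (x : G)⁻¹ := isConj_iff.2 ⟨g, congrArg Subtype.val hg⟩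
    exact H.not_commute hO hi (by rw [Subgroup.orderOf_coe]; exact hxo) hx' (fun h => hx1 (Subtype.ext h))
      (mem_cent.1 x.2)
  have hCN : ∀ m : G, Commute m i → m • T = T := by
    intro m hm
    rw [Sylow.smul_eq_iff_mem_normalizer]
    apply mem_normalizer_of_forall
    intro v hv
    have h1 : (⟨v, hT hv⟩ : centralizer ({i} : Set G)) ∈ (T' : Subgroup (centralizer ({i} : Set G))) := hv
    exact hnorm.conj_mem _ h1 ⟨m, mem_cent.2 hm⟩
  intro y hyo hy P Q
  by_cases hy1 : y = 1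
  · obtain ⟨c, hc⟩ := MulAction.exists_smul_eq G P Q
    exact ⟨c, by rw [hy1]; exact Commute.one_right c, hc⟩
  have hcy := H.cop y hy (sq_ne_one_of_odd hyo hy1)
  have key : ∀ P : Sylow 2 G, ∃ c : G, Commute c y ∧ c • T = P := by
    intro P
    obtain ⟨g, hg⟩ := MulAction.exists_smul_eq G T P
    obtain ⟨c, hc, m, hm, rfl⟩ := Cfsg.Agent.S0007.exists_mul_eq _ _ hcy g
    refine ⟨c, mem_cent.1 hc, ?_⟩
    rw [← hg, mul_smul, hCN m (mem_cent.1 hm)]
  obtain ⟨c, hc, hcP⟩ := key P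
  obtain ⟨d, hd, hdQ⟩ := key Q
  refine ⟨d * c⁻¹, hd.mul_left hc.inv_left, ?_⟩
  rw [mul_smul, ← hcP, inv_smul_smul, hdQ]

end Hyp

/-! ### the reduction modulo `O(G)` -/

theorem cs_mk_dvd [Finite G] (N : Subgroup G) [N.Normal] (x : G) : cs (QuotientGroup.mk x : G ⧸ N) ∣ cs x := by
  have h1 : (centralizer ({x} : Set G)).map (QuotientGroup.mk' N) ≤
      centralizer ({(QuotientGroup.mk x : G ⧸ N)} : Set (G ⧸ N)) := by
    rintro _ ⟨c, hc, rfl⟩
    exact mem_cent.2 ((mem_cent.1 hc).map (QuotientGroup.mk' N))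
  exact (Subgroup.index_dvd_of_le h1).trans (Subgroup.index_map_dvd _ (QuotientGroup.mk'_surjective N))

theorem Hyp.quotient [Finite G] {i : G} (H : Hyp i) (N : Subgroup G) [N.Normal] (hN : Odd (Nat.card N)) :
    Hyp (QuotientGroup.mk i : G ⧸ N) where
  i2 := by rw [← QuotientGroup.mk_mul, H.i2, QuotientGroup.mk_one]
  odd := Odd.of_dvd_nat H.odd (cs_mk_dvd N i)
  cop := by
    intro q hq hqq
    obtain ⟨x, rfl, hx⟩ := exists_real_lift N hN q hq
    have h1 := H.cop x hx (fun h => hqq (by rw [← QuotientGroup.mk_mul, h, QuotientGroup.mk_one]))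
    exact Nat.Coprime.of_dvd (cs_mk_dvd N x) (cs_mk_dvd N i) h1

/-- **The theorem on `i`.** -/
theorem Hyp.isSolvable [Finite G] {i : G} (H : Hyp i) (hi : ∃ g : G, g * i * g⁻¹ ≠ i) : Group.IsSolvable G := by
  obtain ⟨N, hNn, hNo, hNmax⟩ : ∃ N : Subgroup G, N.Normal ∧ Odd (Nat.card N) ∧
      ∀ M : Subgroup G, M.Normal → Odd (Nat.card M) → M ≤ N := by
    refine ⟨Cfsg.pPrimeCore 2 G, Cfsg.Agent.Lib.Cores.pPrimeCore_normal 2, ?_, ?_⟩
    · exact Nat.coprime_two_right.1 (Cfsg.Agent.Lib.Cores.pPrimeCore_coprime 2)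
    · intro M hM hMo
      exact Cfsg.Agent.Lib.Cores.le_pPrimeCore hM (Nat.coprime_two_right.2 hMo)
  have hO : ∀ M : Subgroup (G ⧸ N), M.Normal → Odd (Nat.card M) → M = ⊥ := by
    intro M hM hMo
    have h1 : (M.comap (QuotientGroup.mk' N)).Normal := hM.comap _
    have h2 : Odd (Nat.card (M.comap (QuotientGroup.mk' N))) := by
      have h3 : Nat.card (M.comap (QuotientGroup.mk' N)) = Nat.card N * Nat.card M := by
        rw [← Nat.card_prod]
        exact Nat.card_congr (QuotientGroup.preimageMkEquivSubgroupProdSet N (M : Set (G ⧸ N)))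
      rw [h3]
      exact hNo.mul hMo
    have h3 := hNmax _ h1 h2
    rw [eq_bot_iff]
    intro q hq
    obtain ⟨x, rfl⟩ := QuotientGroup.mk_surjective q
    rw [mem_bot, QuotientGroup.eq_one_iff]
    exact h3 hq
  have hsolv : RR (G ⧸ N) → Group.IsSolvable G := fun h =>
    (Group.isSolvable_iff_subgroup_quotient N).2 ⟨Cfsg.Agent.S0205.result hNo, h.isSolvable⟩
  by_cases hi' : ∃ g : G ⧸ N, g * (QuotientGroup.mk i) * g⁻¹ ≠ QuotientGroup.mk i
  · exact hsolv ((H.quotient N hNo).rr hO hi')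
  push Not at hi'
  have hcen : ∀ g : G, i * (g * i * g⁻¹) ∈ N := by
    intro g
    rw [← QuotientGroup.eq_one_iff]
    have h1 : (QuotientGroup.mk (i * (g * i * g⁻¹)) : G ⧸ N) =
        QuotientGroup.mk i * (QuotientGroup.mk g * QuotientGroup.mk i * (QuotientGroup.mk g)⁻¹) := rfl
    rw [h1, hi', ← QuotientGroup.mk_mul, H.i2, QuotientGroup.mk_one]
  have hNN : NN i ≤ N := by
    apply normalClosure_le_normal
    rintro _ ⟨g, h, rfl⟩
    have h1 : (h * i * h⁻¹) * (g * i * g⁻¹) = h * (i * ((h⁻¹ * g) * i * (h⁻¹ * g)⁻¹)) * h⁻¹ := by group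
    rw [SetLike.mem_coe, h1]
    exact hNn.conj_mem _ (hcen _) h
  apply hsolv
  intro q hqo hq P Q
  obtain ⟨x, rfl, hxo, hx⟩ := exists_real_odd_lift N (Or.inl hNo) q hqo hq
  have hxN : x ∈ N := by
    by_cases hx1 : x = 1
    · rw [hx1]; exact one_mem _
    have hcx := H.cop x hx (sq_ne_one_of_odd hxo hx1)
    by_cases hw : (x * i) * (x * i) = 1
    · exact hNmax _ normalClosure_normal (odd_of_inverts H.i2 hcx hxo hw) (subset_normalClosure rfl)
    · exfalso
      have hcw := H.cop (x * i) (isConj_mul_inv H.i2 hcx hx) hw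
      have h1 : Nat.card (NN i) ∣ cs x := card_dvd_cs fun n hn => isConj_mul_NN H.i2 hcx hcw hn
      -- `NN i` is transitive on the conjugates of `i`
      have h2 : ∀ g : G, ∃ n ∈ NN i, n * i * n⁻¹ = g * i * g⁻¹ := by
        intro g
        have h3 : i * (g * i * g⁻¹) ∈ NN i := subset_normalClosure ⟨g, 1, by group⟩
        have qg : g * i * g⁻¹ * (g * i * g⁻¹) = 1 := sq_of_conj H.i2 (isConj_iff.2 ⟨g, rfl⟩)
        have h4 : Odd (orderOf (i * (g * i * g⁻¹))) := by
          have h5 : orderOf (i * (g * i * g⁻¹)) ∣ Nat.card N := by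
            rw [← Subgroup.orderOf_mk (i * (g * i * g⁻¹)) (hcen g)]
            exact _root_.orderOf_dvd_natCard _
          exact Odd.of_dvd_nat hNo h5
        obtain ⟨k, hk⟩ := exists_sqrt h4
        have hk' : i * (i * (g * i * g⁻¹)) ^ k * i⁻¹ = ((i * (g * i * g⁻¹)) ^ k)⁻¹ :=
          _root_.Cfsg.Agent.H537.OddTransp.inv_pow (inverts_mul H.i2 qg) k
        refine ⟨((i * (g * i * g⁻¹)) ^ k)⁻¹, inv_mem (pow_mem h3 k), ?_⟩
        calc ((i * (g * i * g⁻¹)) ^ k)⁻¹ * i * ((i * (g * i * g⁻¹)) ^ k)⁻¹⁻¹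
            = i * (i * (g * i * g⁻¹)) ^ k * i⁻¹ * i * (i * (g * i * g⁻¹)) ^ k := by rw [hk', inv_inv]
          _ = i * ((i * (g * i * g⁻¹)) ^ k * (i * (g * i * g⁻¹)) ^ k) := by group
          _ = i * i * (g * i * g⁻¹) := by rw [hk]; group
          _ = g * i * g⁻¹ := by rw [H.i2, one_mul]
      have h3 : cs i ∣ Nat.card (NN i) := by
        have h4 : cs i = Nat.card {y : G // ∃ n ∈ NN i, n * i * n⁻¹ = y} := by
          rw [cs, ← Cfsg.Agent.Lib.ModFour.card_isConj]
          refine Nat.card_congr (Equiv.subtypeEquivRight fun y => ?_)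
          constructor
          · intro hy
            obtain ⟨g, rfl⟩ := isConj_iff.1 hy
            exact h2 g
          · rintro ⟨n, -, hn⟩
            exact isConj_iff.2 ⟨n, hn⟩
        rw [h4, Cfsg.Agent.OddHalf.D9.EEight.Count.orb_card]
        exact relIndex_dvd_card _ _
      have h5 : cs i = 1 := Nat.dvd_one.1 (hcx ▸ Nat.dvd_gcd (h3.trans h1) dvd_rfl)
      obtain ⟨g, hg⟩ := hi
      apply hg
      have h6 : g ∈ centralizer ({i} : Set G) := by
        rw [Subgroup.index_eq_one.1 h5]; exact mem_top g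
      exact conj_eq_of_commute (mem_cent.1 h6)
  have hq1 : (QuotientGroup.mk x : G ⧸ N) = 1 := (QuotientGroup.eq_one_iff x).2 hxN
  obtain ⟨c, hc⟩ := MulAction.exists_smul_eq (G ⧸ N) P Q
  exact ⟨c, by rw [hq1]; exact Commute.one_right c, hc⟩

end Cfsg.Agent.H537.RealSize
end

-- part: S4187
section
set_option autoImplicit false
open Cfsg

namespace Cfsg.Agent.S4187

open Cfsg.Agent.H537.RealSize in
/-- The version with `2 ∉ π₂`. -/
theorem aux {G : Type*} [Group G] [Finite G] (π₁ π₂ : Set ℕ) (h₂ : π₂.Nonempty)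
    (hcover : ∀ q : ℕ, q.Prime → (∃ x : G, IsConj x x⁻¹ ∧ q ∣ cs x) → q ∈ π₁ ∨ q ∈ π₂)
    (hsub : ∀ q ∈ π₂, q.Prime ∧ ∃ x : G, IsConj x x⁻¹ ∧ q ∣ cs x)
    (hnoedge : ∀ a ∈ π₁, ∀ b ∈ π₂, ∀ x : G, IsConj x x⁻¹ → ¬ (a ∣ cs x ∧ b ∣ cs x)) (h2 : 2 ∉ π₂) :
    Group.IsSolvable G := by
  obtain ⟨q, hq⟩ := h₂
  obtain ⟨hqp, i, hi, hqi⟩ := hsub q hq
  have hodd : Odd (cs i) := by
    rw [← Nat.not_even_iff_odd, even_iff_two_dvd]
    intro h
    rcases hcover 2 Nat.prime_two ⟨i, hi, h⟩ with h3 | h3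
    · exact hnoedge 2 h3 q hq i hi ⟨h, hqi⟩
    · exact h2 h3
  have hH : Hyp i := by
    refine ⟨?_, hodd, ?_⟩
    · rw [← pow_two]
      exact (Cfsg.Agent.S3863.result i hi).2.1 hodd
    · intro y hy hyy
      have h2y : 2 ∣ cs y := by
        rw [← even_iff_two_dvd, ← Nat.not_odd_iff_even]
        intro h
        exact hyy (by rw [← pow_two]; exact (Cfsg.Agent.S3863.result y hy).2.1 h)
      have h2π : 2 ∈ π₁ := (hcover 2 Nat.prime_two ⟨y, hy, h2y⟩).resolve_right h2
      by_contra hcop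
      obtain ⟨p, hp, hpy, hpi⟩ := Nat.Prime.not_coprime_iff_dvd.1 hcop
      rcases hcover p hp ⟨i, hi, hpi⟩ with h3 | h3
      · exact hnoedge p h3 q hq i hi ⟨hpi, hqi⟩
      · exact hnoedge 2 h2π p h3 y hy ⟨h2y, hpy⟩
  apply hH.isSolvable
  by_contra hc
  push Not at hc
  have h1 : cs i = 1 := by
    rw [cs, Subgroup.index_eq_one, eq_top_iff]
    intro g _
    rw [Subgroup.mem_centralizer_singleton_iff]
    exact mul_inv_eq_iff_eq_mul.1 (hc g)
  rw [h1, Nat.dvd_one] at hqi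
  exact hqp.one_lt.ne' hqi

/-- Let G be a finite group. Call an element real when it is conjugate to its inverse, and consider the graph whose vertices are the primes dividing the size of some conjugacy class of real elements, two distinct primes being adjacent when their product divides such a class size. If this graph is disconnected — its vertex set splits into two non-empty parts such that no real class size is divisible by a prime from each part — then G is solvable. -/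
theorem result {G : Type*} [Group G] [Finite G] (π₁ π₂ : Set ℕ) (h₁ : π₁.Nonempty) (h₂ : π₂.Nonempty) (hcover : ∀ q : ℕ, q.Prime → (∃ n ∈ {n : ℕ | ∃ x : G, IsConj x x⁻¹ ∧ (Subgroup.centralizer ({x} : Set G)).index = n}, q ∣ n) → q ∈ π₁ ∨ q ∈ π₂) (hsub : ∀ q ∈ π₁ ∪ π₂, q.Prime ∧ ∃ n ∈ {n : ℕ | ∃ x : G, IsConj x x⁻¹ ∧ (Subgroup.centralizer ({x} : Set G)).index = n}, q ∣ n) (hdisj : Disjoint π₁ π₂) (hnoedge : ∀ a ∈ π₁, ∀ b ∈ π₂, ∀ n ∈ {n : ℕ | ∃ x : G, IsConj x x⁻¹ ∧ (Subgroup.centralizer ({x} : Set G)).index = n}, ¬ (a ∣ n ∧ b ∣ n)) : Group.IsSolvable G := by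
  by_cases h2 : 2 ∈ π₂
  · refine aux π₂ π₁ h₁ ?_ ?_ ?_ (fun h => Set.disjoint_left.1 hdisj h h2)
    · rintro q hq ⟨x, hx, hqx⟩
      exact (hcover q hq ⟨_, ⟨x, hx, rfl⟩, hqx⟩).symm
    · intro q hq
      obtain ⟨hqp, n, ⟨x, hx, rfl⟩, hqx⟩ := hsub q (Or.inl hq)
      exact ⟨hqp, x, hx, hqx⟩
    · rintro a ha b hb x hx ⟨h3, h4⟩
      exact hnoedge b hb a ha _ ⟨x, hx, rfl⟩ ⟨h4, h3⟩
  · refine aux π₁ π₂ h₂ ?_ ?_ ?_ h2
    · rintro q hq ⟨x, hx, hqx⟩
      exact hcover q hq ⟨_, ⟨x, hx, rfl⟩, hqx⟩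
    · intro q hq
      obtain ⟨hqp, n, ⟨x, hx, rfl⟩, hqx⟩ := hsub q (Or.inr hq)
      exact ⟨hqp, x, hx, hqx⟩
    · rintro a ha b hb x hx ⟨h3, h4⟩
      exact hnoedge a ha b hb _ ⟨x, hx, rfl⟩ ⟨h3, h4⟩

end Cfsg.Agent.S4187
end

private theorem dce_caa65dcc2b97 : _root_.True := by
  try have : _root_.True := by simp only [_root_.Cfsg.Agent.H537.RealSize.cs.eq_1]
  exact _root_.True.intro
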