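import Mathlib
import Cfsg.Agent.H718.ConjRep
import Cfsg.Agent.Lib.Cores
import Cfsg.Agent.H489.DixonPerm
import Cfsg.Agent.H674.KM.Count
import Cfsg.Statements.S4190
set_option linter.all false

-- part: H674/KM/Block
section
/-!
# Minimal block idempotents of an irreducible linear group

`ρ : Representation F H V` irreducible, `V` finite.  A *block idempotent* is an idempotent `e ≠ 0`
of `End V` whose conjugates are equal or orthogonal to it.
-/

set_option autoImplicit false

namespace Cfsg.Agent.H674.KM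

open Module

variable {F : Type*} [Field F] {V : Type*} [AddCommGroup V] [Module F V] {H : Type*} [Group H]

/-- conjugation of endomorphisms -/
def cj (ρ : Representation F H V) (h : H) (e : End F V) : End F V := ρ h * e * ρ h⁻¹

theorem rho_mul_inv (ρ : Representation F H V) (h : H) : ρ h * ρ h⁻¹ = 1 := by
  rw [← map_mul, mul_inv_cancel, map_one]

theorem rho_inv_mul (ρ : Representation F H V) (h : H) : ρ h⁻¹ * ρ h = 1 := by
  rw [← map_mul, inv_mul_cancel, map_one]

theorem rho_inv_apply (ρ : Representation F H V) (h : H) (v : V) : ρ h⁻¹ (ρ h v) = v := by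
  exact congrArg (fun f : End F V => f v) (rho_inv_mul ρ h)

theorem rho_apply_inv (ρ : Representation F H V) (h : H) (v : V) : ρ h (ρ h⁻¹ v) = v := by
  exact congrArg (fun f : End F V => f v) (rho_mul_inv ρ h)

theorem cj_one (ρ : Representation F H V) (e : End F V) : cj ρ 1 e = e := by
  simp [cj]

theorem cj_cj (ρ : Representation F H V) (g h : H) (e : End F V) :
    cj ρ g (cj ρ h e) = cj ρ (g * h) e := by
  simp only [cj, map_mul, mul_inv_rev, mul_assoc]

theorem cj_mul (ρ : Representation F H V) (g : H) (e f : End F V) :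
    cj ρ g (e * f) = cj ρ g e * cj ρ g f := by
  simp only [cj]
  calc ρ g * (e * f) * ρ g⁻¹ = ρ g * e * 1 * f * ρ g⁻¹ := by simp only [mul_one, mul_assoc]
    _ = _ := by rw [← rho_inv_mul ρ g]; simp only [mul_assoc]

theorem cj_zero (ρ : Representation F H V) (g : H) : cj ρ g 0 = 0 := by
  simp [cj]

theorem cj_sum (ρ : Representation F H V) (g : H) {ι : Type*} (s : Finset ι) (f : ι → End F V) :
    cj ρ g (∑ i ∈ s, f i) = ∑ i ∈ s, cj ρ g (f i) := by
  simp only [cj, Finset.mul_sum, Finset.sum_mul]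

theorem cj_apply (ρ : Representation F H V) (g : H) (e : End F V) (v : V) :
    cj ρ g e v = ρ g (e (ρ g⁻¹ v)) := rfl

theorem cj_rho (ρ : Representation F H V) (g : H) (e : End F V) :
    cj ρ g e * ρ g = ρ g * e := by
  rw [cj, mul_assoc, rho_inv_mul, mul_one]

theorem cj_injective (ρ : Representation F H V) (g : H) {e f : End F V}
    (h : cj ρ g e = cj ρ g f) : e = f := by
  have := congrArg (cj ρ g⁻¹) h
  rwa [cj_cj, cj_cj, inv_mul_cancel, cj_one, cj_one] at this

/-- the stabiliser of an endomorphism -/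
def St (ρ : Representation F H V) (e : End F V) : Subgroup H where
  carrier := {h | cj ρ h e = e}
  mul_mem' := by
    intro a b ha hb
    show cj ρ (a * b) e = e
    rw [← cj_cj, hb, ha]
  one_mem' := cj_one ρ e
  inv_mem' := by
    intro a ha
    show cj ρ a⁻¹ e = e
    have h1 : cj ρ a e = e := ha
    have := congrArg (cj ρ a⁻¹) h1
    rw [cj_cj, inv_mul_cancel, cj_one] at this
    exact this.symm

theorem mem_St {ρ : Representation F H V} {e : End F V} {h : H} : h ∈ St ρ e ↔ cj ρ h e = e :=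
  Iff.rfl

/-- block idempotents -/
structure IsBlk (ρ : Representation F H V) (e : End F V) : Prop where
  idem : e * e = e
  ne : e ≠ 0
  orth : ∀ h, cj ρ h e = e ∨ e * cj ρ h e = 0

/-- irreducibility in elementary form -/
def Irr (ρ : Representation F H V) : Prop :=
  ∀ W : Submodule F V, (∀ h, ∀ w ∈ W, ρ h w ∈ W) → W = ⊥ ∨ W = ⊤

/-- the conjugates of `e`, indexed by the cosets of the stabiliser -/
noncomputable def pj (ρ : Representation F H V) (e : End F V) (i : H ⧸ St ρ e) : End F V :=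
  cj ρ i.out e

theorem pj_mk (ρ : Representation F H V) (e : End F V) (h : H) :
    pj ρ e (QuotientGroup.mk h) = cj ρ h e := by
  obtain ⟨s, hs⟩ := QuotientGroup.mk_out_eq_mul (St ρ e) h
  rw [pj, hs, ← cj_cj, mem_St.1 s.2]

theorem cj_pj (ρ : Representation F H V) (e : End F V) (h : H) (i : H ⧸ St ρ e) :
    cj ρ h (pj ρ e i) = pj ρ e (h • i) := by
  induction i using QuotientGroup.induction_on with
  | H g =>
    rw [pj_mk, cj_cj, MulAction.Quotient.smul_mk, pj_mk]
    rfl

namespace IsBlk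

variable {ρ : Representation F H V} {e : End F V}

theorem pj_mul_self (he : IsBlk ρ e) (i : H ⧸ St ρ e) : pj ρ e i * pj ρ e i = pj ρ e i := by
  rw [pj, ← cj_mul, he.idem]

theorem pj_mul (he : IsBlk ρ e) {i j : H ⧸ St ρ e} (hij : i ≠ j) : pj ρ e i * pj ρ e j = 0 := by
  have h1 : pj ρ e j = cj ρ i.out (cj ρ (i.out⁻¹ * j.out) e) := by
    rw [cj_cj, mul_inv_cancel_left, pj]
  rw [h1, pj, ← cj_mul]
  rcases he.orth (i.out⁻¹ * j.out) with h | h
  · exfalso
    apply hij
    have h2 : i.out⁻¹ * j.out ∈ St ρ e := h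
    rw [← QuotientGroup.eq] at h2
    simpa using h2
  · rw [h, cj_zero]

theorem sum_pj [Finite H] (he : IsBlk ρ e) (hirr : Irr ρ) [Fintype (H ⧸ St ρ e)] :
    ∑ i, pj ρ e i = 1 := by
  classical
  set f : End F V := ∑ i, pj ρ e i with hf
  have hff : f * f = f := by
    conv_lhs => rw [hf, Finset.sum_mul_sum]
    rw [hf]
    refine Finset.sum_congr rfl fun i _ => ?_
    rw [Finset.sum_eq_single i]
    · exact he.pj_mul_self i
    · intro j _ hj
      exact he.pj_mul (Ne.symm hj)
    · simp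
  have hcj : ∀ h, cj ρ h f = f := by
    intro h
    rw [hf, cj_sum]
    simp only [cj_pj]
    exact Fintype.sum_equiv (MulAction.toPerm h) _ _ (fun i => rfl)
  have hcomm : ∀ h, ρ h * f = f * ρ h := by
    intro h
    rw [← cj_rho ρ h f, hcj h]
  have hfe : f * e = e := by
    have h1 : e = pj ρ e (QuotientGroup.mk 1) := by rw [pj_mk, cj_one]
    rw [hf, Finset.sum_mul, Finset.sum_eq_single (QuotientGroup.mk 1)]
    · rw [← h1, he.idem]
    · intro j _ hj
      have h2 := he.pj_mul hj
      rwa [← h1] at h2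
    · simp
  have hr : LinearMap.range f = ⊤ := by
    refine (hirr (LinearMap.range f) ?_).resolve_left ?_
    · rintro h _ ⟨v, rfl⟩
      refine ⟨ρ h v, ?_⟩
      have := congrArg (fun g : End F V => g v) (hcomm h)
      exact this.symm
    · intro h0
      rw [LinearMap.range_eq_bot] at h0
      rw [h0, zero_mul] at hfe
      exact he.ne hfe.symm
  apply LinearMap.ext
  intro v
  have hv : v ∈ LinearMap.range f := by rw [hr]; trivial
  obtain ⟨u, rfl⟩ := hv
  exact congrArg (fun g : End F V => g u) hff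

theorem mem_range_iff (he : IsBlk ρ e) (w : V) : w ∈ LinearMap.range e ↔ e w = w := by
  constructor
  · rintro ⟨u, rfl⟩
    exact congrArg (fun g : End F V => g u) he.idem
  · intro h
    exact ⟨w, h⟩

/-- `e ρ(h) e = 0` when `h` is not in the stabiliser -/
theorem mul_rho_mul (he : IsBlk ρ e) {h : H} (hh : h ∉ St ρ e) : e * ρ h * e = 0 := by
  have h1 : e * cj ρ h e = 0 := (he.orth h).resolve_left hh
  have h2 := congrArg (fun g => g * ρ h) h1
  simp only [cj, zero_mul, mul_assoc, rho_inv_mul, mul_one] at h2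
  rw [mul_assoc]
  exact h2

theorem comm_of_mem {h : H} (hh : h ∈ St ρ e) : ρ h * e = e * ρ h := by
  rw [← cj_rho ρ h e, mem_St.1 hh]

/-- cardinality of `V` from that of a block -/
theorem card_eq [Finite H] [Finite V] (he : IsBlk ρ e) (hirr : Irr ρ) :
    Nat.card V = Nat.card (LinearMap.range e) ^ (St ρ e).index := by
  classical
  have : Fintype (H ⧸ St ρ e) := Fintype.ofFinite _
  let Φ : V → (H ⧸ St ρ e → LinearMap.range e) := fun v i => ⟨e (ρ i.out⁻¹ v), ⟨_, rfl⟩⟩
  have hinj : Function.Injective Φ := by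
    intro v v' h
    have h1 : ∀ i : H ⧸ St ρ e, pj ρ e i v = pj ρ e i v' := by
      intro i
      have h2 : e (ρ i.out⁻¹ v) = e (ρ i.out⁻¹ v') := congrArg Subtype.val (congrFun h i)
      rw [pj, cj_apply, cj_apply, h2]
    have h3 : (∑ i, pj ρ e i) v = (∑ i, pj ρ e i) v' := by
      rw [LinearMap.sum_apply, LinearMap.sum_apply]
      exact Finset.sum_congr rfl fun i _ => h1 i
    rw [he.sum_pj hirr] at h3
    exact h3
  have hsurj : Function.Surjective Φ := by
    intro w
    refine ⟨∑ j, ρ j.out (w j), ?_⟩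
    funext i
    apply Subtype.ext
    show e (ρ i.out⁻¹ (∑ j, ρ j.out (w j))) = w i
    rw [map_sum, map_sum, Finset.sum_eq_single i]
    · rw [rho_inv_apply]
      exact (he.mem_range_iff _).1 (w i).2
    · intro j _ hj
      have h1 : i.out⁻¹ * j.out ∉ St ρ e := by
        intro h
        rw [← QuotientGroup.eq] at h
        exact hj (by simpa using h.symm)
      have h2 := congrArg (fun g : End F V => g (w j)) (he.mul_rho_mul h1)
      have h3 : e (w j : V) = w j := (he.mem_range_iff _).1 (w j).2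
      simp only [Module.End.mul_apply, h3, map_mul, LinearMap.zero_apply] at h2
      exact h2
    · simp
  have hc := Nat.card_congr (Equiv.ofBijective Φ ⟨hinj, hsurj⟩)
  rw [hc, Nat.card_fun, Subgroup.index]

/-- the number of blocks on which `v` is non-zero -/
noncomputable def wt (ρ : Representation F H V) (e : End F V) (v : V) : ℕ :=
  Nat.card {i : H ⧸ St ρ e // pj ρ e i v ≠ 0}

theorem wt_rho (h : H) (v : V) : wt ρ e (ρ h v) = wt ρ e v := by
  symm
  apply Nat.card_congr
  have key : ∀ i : H ⧸ St ρ e, pj ρ e (h • i) (ρ h v) = ρ h (pj ρ e i v) := by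
    intro i
    rw [← cj_pj, cj_apply, rho_inv_apply]
  refine
    { toFun := fun i => ⟨h • i.1, ?_⟩
      invFun := fun i => ⟨h⁻¹ • i.1, ?_⟩
      left_inv := ?_
      right_inv := ?_ }
  · rw [key]
    intro h0
    apply i.2
    have := congrArg (ρ h⁻¹) h0
    rwa [rho_inv_apply, map_zero] at this
  · intro h0
    apply i.2
    have := key (h⁻¹ • i.1)
    rw [h0, map_zero, smul_inv_smul] at this
    exact this
  · intro i
    exact Subtype.ext (inv_smul_smul h i.1)
  · intro i
    exact Subtype.ext (smul_inv_smul h i.1)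

/-- all values of the weight are attained -/
theorem exists_wt [Finite H] (he : IsBlk ρ e) (k : ℕ) (hk : k ≤ (St ρ e).index) :
    ∃ v : V, wt ρ e v = k := by
  classical
  have : Fintype (H ⧸ St ρ e) := Fintype.ofFinite _
  have h1 : k ≤ (Finset.univ : Finset (H ⧸ St ρ e)).card := by
    rw [Finset.card_univ, ← Nat.card_eq_fintype_card]
    exact hk
  obtain ⟨T, -, hT⟩ := Finset.exists_subset_card_eq h1
  obtain ⟨u, hu⟩ : ∃ u, e u ≠ 0 := by
    by_contra hcon
    push Not at hcon
    exact he.ne (LinearMap.ext fun v => by rw [hcon v]; rfl)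
  have heu : e (e u) = e u := congrArg (fun g : End F V => g u) he.idem
  refine ⟨∑ j ∈ T, ρ j.out (e u), ?_⟩
  have key : ∀ i, pj ρ e i (∑ j ∈ T, ρ j.out (e u)) = if i ∈ T then ρ i.out (e u) else 0 := by
    intro i
    rw [pj, cj_apply, map_sum, map_sum]
    have h2 : ∀ j ∈ T, e (ρ i.out⁻¹ (ρ j.out (e u))) = if i = j then e u else 0 := by
      intro j _
      split_ifs with hij
      · rw [hij, rho_inv_apply, heu]
      · have h3 : i.out⁻¹ * j.out ∉ St ρ e := by
          intro h
          rw [← QuotientGroup.eq] at h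
          exact hij (by simpa using h)
        have h4 := congrArg (fun g : End F V => g u) (he.mul_rho_mul h3)
        simp only [Module.End.mul_apply, map_mul, LinearMap.zero_apply] at h4
        exact h4
    rw [Finset.sum_congr rfl h2, Finset.sum_ite_eq]
    split_ifs
    · rfl
    · rw [map_zero]
  have h5 : ∀ i : H ⧸ St ρ e, pj ρ e i (∑ j ∈ T, ρ j.out (e u)) ≠ 0 ↔ i ∈ T := by
    intro i
    rw [key]
    split_ifs with hi
    · refine ⟨fun _ => hi, fun _ h0 => hu ?_⟩
      have := congrArg (ρ i.out⁻¹) h0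
      rwa [rho_inv_apply, map_zero] at this
    · simp [hi]
  rw [wt, ← hT, Nat.card_congr (Equiv.subtypeEquivRight h5), Nat.card_eq_fintype_card,
    Fintype.card_coe]

end IsBlk

end Cfsg.Agent.H674.KM
end

-- part: H674/KM/Act
section
/-!
# Minimal normal subgroups of solvable groups as modules; reduction to a chief factor
-/

set_option autoImplicit false

namespace Cfsg.Agent.H674.KM

open Module

universe u

/-- a minimal normal subgroup of a solvable group is elementary abelian -/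
theorem exists_prime_of_minimal {G : Type*} [Group G] [Finite G] {V : Subgroup G}
    (hVn : V.Normal) (hne : V ≠ ⊥) (hsol : Group.IsSolvable G)
    (hmin : ∀ N : Subgroup G, N.Normal → N ≤ V → N = ⊥ ∨ N = V) :
    ∃ p : ℕ, p.Prime ∧ (∀ a ∈ V, ∀ b ∈ V, a * b = b * a) ∧ ∀ a ∈ V, a ^ p = 1 := by
  have hnt : Nontrivial V := (Subgroup.nontrivial_iff_ne_bot V).mpr hne
  have hcomm : ⁅V, V⁆ = ⊥ := by
    rcases hmin ⁅V, V⁆ inferInstance (Subgroup.commutator_le_left V V) with h | h
    · exact h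
    · exfalso
      have h1 := Group.IsSolvable.commutator_lt_top_of_nontrivial V
      have h2 : (commutator V).map V.subtype = ⁅V, V⁆ := by
        rw [commutator_def, Subgroup.map_commutator, ← MonoidHom.range_eq_map,
          Subgroup.range_subtype]
      rw [h] at h2
      apply h1.ne
      apply Subgroup.map_injective V.subtype_injective
      rw [h2, ← MonoidHom.range_eq_map, Subgroup.range_subtype]
  have hab : ∀ a ∈ V, ∀ b ∈ V, a * b = b * a := by
    intro a ha b hb
    have : a * b * a⁻¹ * b⁻¹ ∈ (⊥ : Subgroup G) :=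
      hcomm ▸ Subgroup.commutator_mem_commutator ha hb
    rw [Subgroup.mem_bot] at this
    have h1 : a * b = (a * b * a⁻¹ * b⁻¹) * (b * a) := by group
    rw [h1, this, one_mul]
  obtain ⟨p, hp, hpd⟩ := Nat.exists_prime_and_dvd (n := Nat.card V)
    (by rw [Ne, Subgroup.card_eq_one]; exact hne)
  have : Fact p.Prime := ⟨hp⟩
  let N : Subgroup G :=
    { carrier := {v | v ∈ V ∧ v ^ p = 1}
      one_mem' := ⟨V.one_mem, one_pow _⟩
      mul_mem' := by
        rintro a b ⟨ha, ha'⟩ ⟨hb, hb'⟩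
        refine ⟨V.mul_mem ha hb, ?_⟩
        have hcom : Commute a b := hab a ha b hb
        rw [hcom.mul_pow, ha', hb', one_mul]
      inv_mem' := by
        rintro a ⟨ha, ha'⟩
        refine ⟨V.inv_mem ha, ?_⟩
        rw [inv_pow, ha', inv_one] }
  have hNn : N.Normal := by
    refine ⟨?_⟩
    rintro a ⟨ha, ha'⟩ g
    refine ⟨hVn.conj_mem a ha g, ?_⟩
    rw [conj_pow, ha', mul_one, mul_inv_cancel]
  have hNV : N ≤ V := fun a ha => ha.1
  have hN1 : N ≠ ⊥ := by
    intro h
    obtain ⟨x, hx⟩ := exists_prime_orderOf_dvd_card' p hpd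
    have h1 : (x : G) ∈ N := ⟨x.2, by
      have := pow_orderOf_eq_one x
      rw [hx] at this
      exact_mod_cast congrArg Subtype.val this⟩
    rw [h, Subgroup.mem_bot] at h1
    have h2 : x = 1 := Subtype.ext h1
    rw [h2, orderOf_one] at hx
    exact hp.one_lt.ne hx
  rcases hmin N hNn hNV with h | h
  · exact absurd h hN1
  · exact ⟨p, hp, hab, fun a ha => (h.symm ▸ ha : a ∈ N).2⟩

/-- a non-trivial normal subgroup contains a minimal one -/
theorem exists_minimal {G : Type*} [Group G] [Finite G] (K : Subgroup G) (hKn : K.Normal)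
    (hK : K ≠ ⊥) : ∃ V : Subgroup G, V.Normal ∧ V ≠ ⊥ ∧ V ≤ K ∧
      ∀ N : Subgroup G, N.Normal → N ≤ V → N = ⊥ ∨ N = V := by
  obtain ⟨V, hV⟩ := (Set.toFinite {V : Subgroup G | V.Normal ∧ V ≠ ⊥ ∧ V ≤ K}).exists_minimal
    ⟨K, hKn, hK, le_rfl⟩
  obtain ⟨h1, h2, h3⟩ : V.Normal ∧ V ≠ ⊥ ∧ V ≤ K := hV.prop
  refine ⟨V, h1, h2, h3, fun N hN hNV => ?_⟩
  by_cases h : N = ⊥
  · exact Or.inl h
  · right
    exact le_antisymm hNV (hV.2 (⟨hN, h, le_trans hNV h3⟩ : N.Normal ∧ N ≠ ⊥ ∧ N ≤ K) hNV)

/-- the faithful irreducible module -/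
theorem exists_act {G : Type u} [Group G] [Finite G] (r : ℕ) (V : Subgroup G) [hVn : V.Normal]
    (hab : ∀ a ∈ V, ∀ b ∈ V, a * b = b * a) (hexp : ∀ a ∈ V, a ^ r = 1) (hne : V ≠ ⊥)
    (hmin : ∀ N : Subgroup G, N.Normal → N ≤ V → N = ⊥ ∨ N = V) :
    ∃ (E : Type u) (_ : AddCommGroup E) (_ : Module (ZMod r) E) (_ : Finite E)
      (_ : Nontrivial E) (e : E ≃ V)
      (ρ : (G ⧸ Subgroup.centralizer (V : Set G)) →* (E →ₗ[ZMod r] E)),
      Function.Injective ρ ∧
      (∀ W : Submodule (ZMod r) E, (∀ h, ∀ w ∈ W, ρ h w ∈ W) → W = ⊥ ∨ W = ⊤) ∧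
      (∀ a b, (e (a + b) : G) = e a * e b) ∧
      ∀ (g : G) (s : E), ((e (ρ (QuotientGroup.mk g) s) : V) : G) = g * e s * g⁻¹ := by
  obtain ⟨E, _, _, _, e, ρ0, hadd, hρ0⟩ := H718.exists_conjRep r (⊤ : Subgroup G) V hab hexp
    (fun h _ u hu => hVn.conj_mem u hu h)
  let ρ1 : G →* (E →ₗ[ZMod r] E) := ρ0.comp (Subgroup.topEquiv (G := G)).symm.toMonoidHom
  have hρ1 : ∀ (g : G) (s : E), ((e (ρ1 g s) : V) : G) = g * e s * g⁻¹ := fun g s => hρ0 _ s
  have hker : Subgroup.centralizer (V : Set G) ≤ ρ1.ker := by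
    intro c hc
    rw [MonoidHom.mem_ker]
    apply LinearMap.ext
    intro s
    apply e.injective
    apply Subtype.ext
    rw [hρ1]
    have h1 := Subgroup.mem_centralizer_iff.1 hc (e s : G) (e s).2
    show c * (e s : G) * c⁻¹ = e s
    rw [← h1, mul_assoc, mul_inv_cancel, mul_one]
  have hnt : Nontrivial E := by
    have : Nontrivial V := (Subgroup.nontrivial_iff_ne_bot V).mpr hne
    exact e.nontrivial
  let ρ : (G ⧸ Subgroup.centralizer (V : Set G)) →* (E →ₗ[ZMod r] E) :=
    QuotientGroup.lift _ ρ1 hker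
  have hρ : ∀ (g : G) (s : E), ((e (ρ (QuotientGroup.mk g) s) : V) : G) = g * e s * g⁻¹ := hρ1
  have hadd' : ∀ a b, (e (a + b) : G) = e a * e b := fun a b => congrArg Subtype.val (hadd a b)
  have hzero : (e 0 : G) = 1 := by
    have h1 := hadd' 0 0
    rw [add_zero] at h1
    exact mul_left_cancel (h1.symm.trans (mul_one _).symm)
  refine ⟨E, inferInstance, inferInstance, inferInstance, hnt, e, ρ, ?_, ?_, hadd', hρ⟩
  · intro a b hab'
    obtain ⟨a, rfl⟩ := QuotientGroup.mk_surjective a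
    obtain ⟨b, rfl⟩ := QuotientGroup.mk_surjective b
    rw [QuotientGroup.eq, Subgroup.mem_centralizer_iff]
    intro v hv
    have h1 := hρ a (e.symm ⟨v, hv⟩)
    rw [hab', hρ b, Equiv.apply_symm_apply] at h1
    have h2 : v = a⁻¹ * (a * v * a⁻¹) * a := by group
    calc v * (a⁻¹ * b) = (a⁻¹ * (a * v * a⁻¹) * a) * (a⁻¹ * b) := by rw [← h2]
      _ = (a⁻¹ * (b * v * b⁻¹) * a) * (a⁻¹ * b) := by rw [← h1]
      _ = a⁻¹ * b * v := by group
  · intro W hW
    let M : Subgroup G :=
      { carrier := {x | ∃ w ∈ W, (e w : G) = x}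
        one_mem' := ⟨0, W.zero_mem, hzero⟩
        mul_mem' := by
          rintro _ _ ⟨a, ha, rfl⟩ ⟨b, hb, rfl⟩
          exact ⟨a + b, W.add_mem ha hb, hadd' a b⟩
        inv_mem' := by
          rintro _ ⟨a, ha, rfl⟩
          refine ⟨-a, W.neg_mem ha, ?_⟩
          have h1 := hadd' (-a) a
          rw [neg_add_cancel, hzero] at h1
          exact eq_inv_of_mul_eq_one_left h1.symm }
    have hMn : M.Normal := by
      refine ⟨?_⟩
      rintro _ ⟨w, hw, rfl⟩ g
      exact ⟨ρ (QuotientGroup.mk g) w, hW _ w hw, hρ g w⟩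
    have hMV : M ≤ V := by
      rintro _ ⟨w, _, rfl⟩
      exact (e w).2
    rcases hmin M hMn hMV with h | h
    · left
      rw [eq_bot_iff]
      intro w hw
      have h1 : (e w : G) ∈ M := ⟨w, hw, rfl⟩
      rw [h, Subgroup.mem_bot, ← hzero] at h1
      rw [Submodule.mem_bot]
      exact e.injective (Subtype.ext h1)
    · right
      rw [eq_top_iff]
      intro w _
      have h1 : (e w : G) ∈ M := by rw [h]; exact (e w).2
      obtain ⟨w', hw', h2⟩ := h1
      have : w' = w := e.injective (Subtype.ext h2)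
      rwa [← this]

/-- reduction step for the Fitting subgroup -/
theorem not_dvd_index_fitting {G : Type*} [Group G] [Finite G] {p : ℕ} (hp : p.Prime)
    (M : Subgroup G) [hM : M.Normal]
    (h1 : ¬ p ∣ (Cfsg.fittingSubgroup (G ⧸ M)).index)
    (h2 : ¬ p ∣ (Subgroup.centralizer (M : Set G)).index) :
    ¬ p ∣ (Cfsg.fittingSubgroup G).index := by
  intro h
  have hFn : (Cfsg.fittingSubgroup (G ⧸ M)).Normal := Lib.Cores.fittingSubgroup_normal
  set F1 := (Cfsg.fittingSubgroup (G ⧸ M)).comap (QuotientGroup.mk' M) with hF1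
  set C := Subgroup.centralizer (M : Set G) with hC
  have hCn : C.Normal := Subgroup.normal_centralizer
  have hF1n : F1.Normal := hFn.comap _
  have hX : (F1 ⊓ C).Normal := Subgroup.normal_inf_normal F1 C
  have hXnil : Group.IsNilpotent (F1 ⊓ C : Subgroup G) := by
    have hFnil : Group.IsNilpotent (Cfsg.fittingSubgroup (G ⧸ M)) :=
      Lib.Cores.fittingSubgroup_isNilpotent
    let f : (F1 ⊓ C : Subgroup G) →* Cfsg.fittingSubgroup (G ⧸ M) :=
      { toFun := fun x => ⟨QuotientGroup.mk' M x, (Subgroup.mem_inf.1 x.2).1⟩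
        map_one' := Subtype.ext (map_one (QuotientGroup.mk' M))
        map_mul' := fun a b => Subtype.ext (map_mul (QuotientGroup.mk' M) (a : G) b) }
    refine Subgroup.isNilpotent_of_ker_le_center f ?_
    intro x hx
    rw [MonoidHom.mem_ker] at hx
    have hxM : (x : G) ∈ M := by
      have h3 : QuotientGroup.mk' M (x : G) = 1 := congrArg Subtype.val hx
      rwa [← MonoidHom.mem_ker, QuotientGroup.ker_mk'] at h3
    rw [Subgroup.mem_center_iff]
    intro y
    apply Subtype.ext
    exact (Subgroup.mem_centralizer_iff.1 (Subgroup.mem_inf.1 y.2).2 (x : G) hxM).symm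
  have hle : F1 ⊓ C ≤ Cfsg.fittingSubgroup G := Lib.Cores.le_fittingSubgroup hX hXnil
  have h3 : p ∣ (F1 ⊓ C).index := dvd_trans h (Subgroup.index_dvd_of_le hle)
  have h4 : (F1 ⊓ C).relIndex F1 * F1.index = (F1 ⊓ C).index :=
    Subgroup.relIndex_mul_index inf_le_left
  rw [← h4, Subgroup.inf_relIndex_left] at h3
  rcases (hp.dvd_mul).1 h3 with h5 | h5
  · exact h2 (dvd_trans h5 (Subgroup.relIndex_dvd_index_of_normal C F1))
  · apply h1
    rwa [hF1, Subgroup.index_comap_of_surjective _ (QuotientGroup.mk'_surjective M)] at h5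

end Cfsg.Agent.H674.KM
end

-- part: H674/KM/BlockMin
section
/-!
# The stabiliser of a minimal block idempotent acts quasi-primitively

For every normal subgroup `B` of the stabiliser `S` of a minimal block `W` that acts on `W`
commutatively, the algebra `F[B] ⊆ End W` is a field.
-/

set_option autoImplicit false

namespace Cfsg.Agent.H674.KM

open Module

variable {F : Type*} [Field F] {V : Type*} [AddCommGroup V] [Module F V] {H : Type*} [Group H]

/-- the size of the image -/
noncomputable def sz (e : End F V) : ℕ := Nat.card (LinearMap.range e)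

/-- minimal block idempotents -/
structure IsMin (ρ : Representation F H V) (e : End F V) : Prop extends IsBlk ρ e where
  min : ∀ f, IsBlk ρ f → sz e ≤ sz f

theorem isBlk_one [Nontrivial V] (ρ : Representation F H V) : IsBlk ρ (1 : End F V) where
  idem := one_mul 1
  ne := one_ne_zero
  orth := by
    intro h
    left
    rw [cj, mul_one, rho_mul_inv]

theorem exists_isMin [Nontrivial V] (ρ : Representation F H V) : ∃ e, IsMin ρ e := by
  classical
  have hex : ∃ n, ∃ e, IsBlk ρ e ∧ sz e = n := ⟨_, 1, isBlk_one ρ, rfl⟩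
  obtain ⟨e, he, hn⟩ := Nat.find_spec hex
  refine ⟨e, he, fun f hf => ?_⟩
  rw [hn]
  exact Nat.find_min' hex ⟨f, hf, rfl⟩

/-- the quasi-primitivity condition -/
def QP {S : Type*} [Group S] {W : Type*} [AddCommGroup W] [Module F W]
    (σ : Representation F S W) : Prop :=
  ∀ B : Subgroup S, B.Normal → (∀ a ∈ B, ∀ b ∈ B, σ a * σ b = σ b * σ a) →
    ∀ x ∈ Algebra.adjoin F (σ '' (B : Set S)), x ≠ 0 → IsUnit x

section alg

variable {S : Type*} [Group S] {W : Type*} [AddCommGroup W] [Module F W]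
  (σ : Representation F S W) (B : Subgroup S)

theorem adjoin_comm (hB : ∀ a ∈ B, ∀ b ∈ B, σ a * σ b = σ b * σ a)
    {x y : End F W} (hx : x ∈ Algebra.adjoin F (σ '' (B : Set S)))
    (hy : y ∈ Algebra.adjoin F (σ '' (B : Set S))) : x * y = y * x := by
  have h1 : ∀ b ∈ σ '' (B : Set S), Commute x b := by
    intro b hb
    refine (Algebra.commute_of_mem_adjoin_of_forall_mem_commute hx ?_).symm
    rintro _ ⟨a, ha, rfl⟩
    obtain ⟨c, hc, rfl⟩ := hb
    exact hB c hc a ha
  exact Algebra.commute_of_mem_adjoin_of_forall_mem_commute hy h1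

theorem cj_mem_adjoin [B.Normal] (s : S) {x : End F W}
    (hx : x ∈ Algebra.adjoin F (σ '' (B : Set S))) :
    cj σ s x ∈ Algebra.adjoin F (σ '' (B : Set S)) := by
  induction hx using Algebra.adjoin_induction with
  | mem x hx =>
    obtain ⟨b, hb, rfl⟩ := hx
    apply Algebra.subset_adjoin
    exact ⟨s * b * s⁻¹, Subgroup.Normal.conj_mem inferInstance b hb s, by simp [cj]⟩
  | algebraMap r =>
    have : cj σ s (algebraMap F (End F W) r) = algebraMap F (End F W) r := by
      rw [cj, ← Algebra.commutes, mul_assoc, rho_mul_inv, mul_one]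
    rw [this]
    exact Subalgebra.algebraMap_mem _ r
  | add x y _ _ hx hy =>
    have : cj σ s (x + y) = cj σ s x + cj σ s y := by simp only [cj, mul_add, add_mul]
    rw [this]
    exact add_mem hx hy
  | mul x y _ _ hx hy =>
    rw [cj_mul]
    exact mul_mem hx hy

/-- powers eventually idempotent -/
theorem exists_pow_idem {M : Type*} [Monoid M] [Finite M] (x : M) :
    ∃ n : ℕ, 0 < n ∧ x ^ n * x ^ n = x ^ n := by
  obtain ⟨a, b, hab, h⟩ := Finite.exists_ne_map_eq_of_infinite (fun n : ℕ => x ^ n)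
  wlog hlt : a < b generalizing a b
  · exact this b a (Ne.symm hab) h.symm (lt_of_le_of_ne (not_lt.1 hlt) (Ne.symm hab))
  obtain ⟨c, rfl⟩ := Nat.exists_eq_add_of_lt hlt
  -- `x ^ a = x ^ (a + (c + 1))`
  have h1 : ∀ k : ℕ, x ^ (a + k * (c + 1)) = x ^ a := by
    intro k
    induction k with
    | zero => simp
    | succ k ih =>
      have : a + (k + 1) * (c + 1) = (a + k * (c + 1)) + (c + 1) := by ring
      rw [this, pow_add, ih, ← pow_add, ← add_assoc, ← h]
  have h2 : ∀ m k : ℕ, a ≤ m → x ^ (m + k * (c + 1)) = x ^ m := by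
    intro m k hm
    obtain ⟨d, rfl⟩ := Nat.exists_eq_add_of_le hm
    have : a + d + k * (c + 1) = (a + k * (c + 1)) + d := by ring
    rw [this, pow_add, h1, ← pow_add]
  refine ⟨(a + 1) * (c + 1), by positivity, ?_⟩
  rw [← pow_add]
  apply h2
  nlinarith

/-- nilpotent elements of a commutative `S`-stable algebra vanish when `S` is irreducible -/
theorem nil_eq_zero [Finite W] [Nontrivial W] (hirr : Irr σ) [B.Normal]
    (hB : ∀ a ∈ B, ∀ b ∈ B, σ a * σ b = σ b * σ a) {x : End F W}
    (hx : x ∈ Algebra.adjoin F (σ '' (B : Set S))) (hn : IsNilpotent x) : x = 0 := by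
  classical
  set R := Algebra.adjoin F (σ '' (B : Set S)) with hR
  -- a minimal non-zero `R`-stable submodule
  let P : Submodule F W → Prop := fun U => U ≠ ⊥ ∧ ∀ y ∈ R, ∀ w ∈ U, y w ∈ U
  have hex : ∃ n, ∃ U, P U ∧ Nat.card U = n := ⟨_, ⊤, ⟨top_ne_bot, fun _ _ _ _ => trivial⟩, rfl⟩
  obtain ⟨U, hU, hUn⟩ := Nat.find_spec hex
  have hmin : ∀ U', P U' → Nat.card U ≤ Nat.card U' := by
    intro U' hU'
    rw [hUn]
    exact Nat.find_min' hex ⟨U', hU', rfl⟩
  have hkill : ∀ y ∈ R, IsNilpotent y → ∀ w ∈ U, y w = 0 := by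
    intro y hy hyn
    by_contra hcon
    push Not at hcon
    obtain ⟨w, hw, hyw⟩ := hcon
    have h1 : P (U.map y) := by
      refine ⟨?_, ?_⟩
      · intro h0
        apply hyw
        have : y w ∈ U.map y := Submodule.mem_map_of_mem hw
        rw [h0] at this
        exact (Submodule.mem_bot F).1 this
      · rintro z hz _ ⟨u, hu, rfl⟩
        have h2 : z (y u) = y (z u) :=
          congrArg (fun f : End F W => f u) (adjoin_comm σ B hB hz hy)
        rw [h2]
        exact Submodule.mem_map_of_mem (hU.2 z hz u hu)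
    have hle : U.map y ≤ U := by
      rintro _ ⟨u, hu, rfl⟩
      exact hU.2 y hy u hu
    have heq : U.map y = U := by
      apply SetLike.coe_injective
      exact Set.eq_of_subset_of_ncard_le hle (by
        rw [← Nat.card_coe_set_eq, ← Nat.card_coe_set_eq]
        exact hmin _ h1) (Set.toFinite _)
    have hpow : ∀ n : ℕ, U.map (y ^ n) = U := by
      intro n
      induction n with
      | zero => rw [pow_zero]; exact Submodule.map_id U
      | succ n ih =>
        rw [pow_succ, Module.End.mul_eq_comp, Submodule.map_comp, heq, ih]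
    obtain ⟨n, hn⟩ := hyn
    have := hpow n
    rw [hn, Submodule.map_zero] at this
    exact hU.1 this.symm
  -- the common kernel of the nilpotent elements
  let W' : Submodule F W :=
    { carrier := {w | ∀ y ∈ R, IsNilpotent y → y w = 0}
      add_mem' := fun {a b} ha hb y hy hyn => by rw [map_add, ha y hy hyn, hb y hy hyn, add_zero]
      zero_mem' := fun y _ _ => map_zero y
      smul_mem' := fun c w hw y hy hyn => by rw [map_smul, hw y hy hyn, smul_zero] }
  have hW' : W' = ⊤ := by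
    refine (hirr W' ?_).resolve_left ?_
    · intro s w hw y hy hyn
      have h1 : cj σ s⁻¹ y ∈ R := cj_mem_adjoin σ B s⁻¹ hy
      have h2 : IsNilpotent (cj σ s⁻¹ y) := by
        obtain ⟨n, hn⟩ := hyn
        refine ⟨n, ?_⟩
        have h3 : ∀ m : ℕ, (cj σ s⁻¹ y) ^ m = cj σ s⁻¹ (y ^ m) := by
          intro m
          induction m with
          | zero => rw [pow_zero, pow_zero, cj, mul_one, rho_mul_inv]
          | succ m ih => rw [pow_succ, ih, ← cj_mul, ← pow_succ]
        rw [h3, hn, cj_zero]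
      have h3 := hw _ h1 h2
      rw [cj_apply, inv_inv] at h3
      have := congrArg (σ s) h3
      rwa [rho_apply_inv, map_zero] at this
    · intro h0
      apply hU.1
      rw [eq_bot_iff, ← h0]
      intro w hw y hy hyn
      exact hkill y hy hyn w hw
  apply LinearMap.ext
  intro w
  have hw : w ∈ W' := by rw [hW']; trivial
  exact hw x hx hn

end alg

variable {ρ : Representation F H V} {e : End F V}

/-- the stabiliser acts on the block -/
noncomputable def blkRep (ρ : Representation F H V) (e : End F V) :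
    Representation F (St ρ e) (LinearMap.range e) where
  toFun s := (ρ (s : H)).restrict (by
    rintro _ ⟨u, rfl⟩
    refine ⟨ρ (s : H) u, ?_⟩
    have := congrArg (fun g : End F V => g u) (IsBlk.comm_of_mem s.2)
    exact this.symm)
  map_one' := by
    apply LinearMap.ext
    intro w
    apply Subtype.ext
    simp [LinearMap.restrict_apply]
  map_mul' := by
    intro a b
    apply LinearMap.ext
    intro w
    apply Subtype.ext
    simp [LinearMap.restrict_apply]

theorem blkRep_apply (s : St ρ e) (w : LinearMap.range e) :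
    ((blkRep ρ e s w : LinearMap.range e) : V) = ρ (s : H) w := rfl

namespace IsMin

/-- the stabiliser acts irreducibly on a block -/
theorem irr (he : IsBlk ρ e) (hirr : Irr ρ) : Irr (blkRep ρ e) := by
  intro U hU
  by_cases hU0 : U = ⊥
  · exact Or.inl hU0
  right
  let U' : Submodule F V := U.map (LinearMap.range e).subtype
  let X : Submodule F V := ⨆ h : H, U'.map (ρ h)
  have hX : X = ⊤ := by
    refine (hirr X ?_).resolve_left ?_
    · intro h w hw
      have h1 : X ≤ X.comap (ρ h) := by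
        refine iSup_le fun g => ?_
        rintro _ ⟨u, hu, rfl⟩
        show ρ h (ρ g u) ∈ X
        have h2 : ρ h (ρ g u) = ρ (h * g) u := by rw [map_mul]; rfl
        rw [h2]
        exact Submodule.mem_iSup_of_mem (h * g) (Submodule.mem_map_of_mem hu)
      exact h1 hw
    · intro h0
      apply hU0
      rw [eq_bot_iff]
      intro u hu
      have h1 : (u : V) ∈ X := by
        refine Submodule.mem_iSup_of_mem 1 ⟨u, Submodule.mem_map_of_mem hu, ?_⟩
        rw [map_one]
        rfl
      rw [h0] at h1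
      exact (Submodule.mem_bot F).2 (Subtype.ext ((Submodule.mem_bot F).1 h1))
  have hle : X ≤ U'.comap e := by
    refine iSup_le fun g => ?_
    rintro _ ⟨_, ⟨u, hu, rfl⟩, rfl⟩
    show e (ρ g (u : V)) ∈ U'
    have heu : e (u : V) = u := (he.mem_range_iff _).1 u.2
    by_cases hg : g ∈ St ρ e
    · have h1 : e (ρ g (u : V)) = ρ g (u : V) := by
        have := congrArg (fun f : End F V => f (u : V)) (IsBlk.comm_of_mem hg)
        rw [Module.End.mul_apply, Module.End.mul_apply, heu] at this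
        exact this.symm
      rw [h1]
      exact ⟨blkRep ρ e ⟨g, hg⟩ u, hU ⟨g, hg⟩ u hu, rfl⟩
    · have h1 := congrArg (fun f : End F V => f (u : V)) (he.mul_rho_mul hg)
      rw [Module.End.mul_apply, Module.End.mul_apply, heu] at h1
      rw [h1]
      exact U'.zero_mem
  rw [eq_top_iff]
  intro w _
  have hw : (w : V) ∈ X := by rw [hX]; trivial
  obtain ⟨u, hu, huw⟩ := hle hw
  have h1 : e (w : V) = w := (he.mem_range_iff _).1 w.2
  rw [h1] at huw
  have : u = w := Subtype.ext huw
  rwa [← this]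

/-- extension of an endomorphism of the block by zero -/
noncomputable def ext (e : End F V) (f : End F (LinearMap.range e)) : End F V :=
  (LinearMap.range e).subtype ∘ₗ f ∘ₗ e.rangeRestrict

theorem ext_apply (f : End F (LinearMap.range e)) (v : V) :
    ext e f v = f (e.rangeRestrict v) := rfl

theorem rangeRestrict_coe (he : IsBlk ρ e) (w : LinearMap.range e) :
    e.rangeRestrict (w : V) = w := by
  apply Subtype.ext
  exact (he.mem_range_iff _).1 w.2

theorem ext_mul (he : IsBlk ρ e) (f g : End F (LinearMap.range e)) :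
    ext e f * ext e g = ext e (f * g) := by
  apply LinearMap.ext
  intro v
  rw [Module.End.mul_apply, ext_apply, ext_apply, rangeRestrict_coe he, ext_apply]
  rfl

theorem e_mul_ext (he : IsBlk ρ e) (f : End F (LinearMap.range e)) : e * ext e f = ext e f := by
  apply LinearMap.ext
  intro v
  rw [Module.End.mul_apply, ext_apply]
  exact (he.mem_range_iff _).1 (f (e.rangeRestrict v)).2

theorem ext_mul_e (he : IsBlk ρ e) (f : End F (LinearMap.range e)) : ext e f * e = ext e f := by
  apply LinearMap.ext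
  intro v
  rw [Module.End.mul_apply, ext_apply, ext_apply]
  congr 2
  apply Subtype.ext
  show e (e v) = e v
  exact congrArg (fun g : End F V => g v) he.idem

theorem cj_ext (f : End F (LinearMap.range e)) (s : St ρ e) :
    cj ρ (s : H) (ext e f) = ext e (cj (blkRep ρ e) s f) := by
  apply LinearMap.ext
  intro v
  rw [cj_apply, ext_apply, ext_apply, cj_apply]
  show ρ (s : H) (f (e.rangeRestrict (ρ (s : H)⁻¹ v)) : V) =
    ρ (s : H) (f (blkRep ρ e s⁻¹ (e.rangeRestrict v)) : V)
  congr 3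
  apply Subtype.ext
  show e (ρ (s : H)⁻¹ v) = ρ (s⁻¹ : St ρ e) (e v)
  have := congrArg (fun g : End F V => g v) (IsBlk.comm_of_mem (s⁻¹).2)
  exact this.symm

theorem sz_ext (he : IsBlk ρ e) (f : End F (LinearMap.range e)) : sz (ext e f) = sz f := by
  have h1 : LinearMap.range (ext e f) = (LinearMap.range f).map (LinearMap.range e).subtype := by
    apply le_antisymm
    · rintro _ ⟨v, rfl⟩
      exact ⟨f (e.rangeRestrict v), ⟨_, rfl⟩, rfl⟩
    · rintro _ ⟨_, ⟨w, rfl⟩, rfl⟩
      refine ⟨(w : V), ?_⟩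
      rw [ext_apply, rangeRestrict_coe he]
      rfl
  rw [sz, sz, h1]
  exact (Nat.card_congr (Submodule.equivMapOfInjective _ (Submodule.subtype_injective _)
    (LinearMap.range f)).toEquiv).symm

/-- **quasi-primitivity** of the action on a minimal block -/
theorem qp [Finite V] [Nontrivial V] (he : IsMin ρ e) (hirr : Irr ρ) : QP (blkRep ρ e) := by
  classical
  intro B hBn hB
  set σ := blkRep ρ e with hσ
  have hne : Nontrivial (LinearMap.range e) := by
    rw [Submodule.nontrivial_iff_ne_bot]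
    intro h0
    exact he.ne (LinearMap.range_eq_bot.1 h0)
  have hfin : Finite (End F (LinearMap.range e)) := DFunLike.finite _
  set R := Algebra.adjoin F (σ '' (B : Set (St ρ e))) with hR
  -- for idempotents the image decides
  have hid : ∀ f : End F (LinearMap.range e), f * f = f → sz e ≤ sz f → f = 1 := by
    intro f hf hs
    have h1 : LinearMap.range f = ⊤ := by
      apply SetLike.coe_injective
      apply Set.eq_of_subset_of_ncard_le (Set.subset_univ _) _ (Set.toFinite _)
      rw [← Nat.card_coe_set_eq, ← Nat.card_coe_set_eq, Nat.card_congr (Equiv.Set.univ _)]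
      exact hs
    apply LinearMap.ext
    intro w
    have hw : w ∈ LinearMap.range f := by rw [h1]; trivial
    obtain ⟨u, rfl⟩ := hw
    exact congrArg (fun g : End F (LinearMap.range e) => g u) hf
  -- an idempotent of `R` with minimal image
  have hex : ∃ n, ∃ f ∈ R, f * f = f ∧ f ≠ 0 ∧ sz f = n :=
    ⟨_, 1, one_mem R, one_mul 1, one_ne_zero, rfl⟩
  obtain ⟨f, hfR, hff, hf0, hfn⟩ := Nat.find_spec hex
  have hmin : ∀ g ∈ R, g * g = g → g ≠ 0 → sz f ≤ sz g := by
    intro g hg hgg hg0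
    rw [hfn]
    exact Nat.find_min' hex ⟨g, hg, hgg, hg0, rfl⟩
  -- products of minimal idempotents
  have hprod : ∀ g ∈ R, g * g = g → f * g = 0 ∨ f * g = f := by
    intro g hg hgg
    by_cases h0 : f * g = 0
    · exact Or.inl h0
    right
    have hc : f * g = g * f := adjoin_comm σ B hB hfR hg
    have h1 : (f * g) * (f * g) = f * g := by
      calc (f * g) * (f * g) = f * (g * f) * g := by simp only [mul_assoc]
        _ = f * (f * g) * g := by rw [hc]
        _ = (f * f) * (g * g) := by simp only [mul_assoc]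
        _ = f * g := by rw [hff, hgg]
    have h2 := hmin _ (mul_mem hfR hg) h1 h0
    have h3 : LinearMap.range (f * g) ≤ LinearMap.range f := by
      rintro _ ⟨u, rfl⟩
      exact ⟨g u, rfl⟩
    have h4 : LinearMap.range (f * g) = LinearMap.range f := by
      apply SetLike.coe_injective
      exact Set.eq_of_subset_of_ncard_le h3 (by
        rw [← Nat.card_coe_set_eq, ← Nat.card_coe_set_eq]
        exact h2) (Set.toFinite _)
    apply LinearMap.ext
    intro w
    have hw : f w ∈ LinearMap.range (f * g) := by rw [h4]; exact ⟨w, rfl⟩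
    obtain ⟨u, hu⟩ := hw
    have h5 : (f * g) ((f * g) u) = (f * g) u :=
      congrArg (fun k : End F (LinearMap.range e) => k u) h1
    rw [hu] at h5
    have h6 : (f * g) (f w) = (f * g) w := by
      have : f * g * f = f * g := by
        rw [mul_assoc, ← hc, ← mul_assoc, hff]
      exact congrArg (fun k : End F (LinearMap.range e) => k w) this
    rw [← h6, h5]
  have hblk : IsBlk ρ (ext e f) := by
    refine ⟨?_, ?_, ?_⟩
    · rw [ext_mul he.toIsBlk, hff]
    · intro h0
      apply hf0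
      apply LinearMap.ext
      intro w
      apply Subtype.ext
      have := congrArg (fun k : End F V => k (w : V)) h0
      rw [ext_apply, rangeRestrict_coe he.toIsBlk] at this
      exact this
    · intro h
      by_cases hh : h ∈ St ρ e
      · have h1 : cj ρ h (ext e f) = ext e (cj σ ⟨h, hh⟩ f) := cj_ext f ⟨h, hh⟩
        have h2 : cj σ ⟨h, hh⟩ f ∈ R := cj_mem_adjoin σ B ⟨h, hh⟩ hfR
        have h3 : cj σ ⟨h, hh⟩ f * cj σ ⟨h, hh⟩ f = cj σ ⟨h, hh⟩ f := by rw [← cj_mul, hff]
        rw [h1, ext_mul he.toIsBlk]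
        rcases hprod _ h2 h3 with h4 | h4
        · right
          rw [h4]
          apply LinearMap.ext
          intro v
          rfl
        · left
          congr 1
          -- symmetric argument
          have h5 : cj σ ⟨h, hh⟩⁻¹ f ∈ R := cj_mem_adjoin σ B _ hfR
          have h6 : cj σ ⟨h, hh⟩⁻¹ f * cj σ ⟨h, hh⟩⁻¹ f = cj σ ⟨h, hh⟩⁻¹ f := by
            rw [← cj_mul, hff]
          have h7 : f * cj σ ⟨h, hh⟩⁻¹ f ≠ 0 := by
            intro h8
            have h9 := congrArg (cj σ ⟨h, hh⟩) h8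
            rw [cj_mul, cj_cj, mul_inv_cancel, cj_one, cj_zero] at h9
            have h10 : f * cj σ ⟨h, hh⟩ f = cj σ ⟨h, hh⟩ f * f := adjoin_comm σ B hB hfR h2
            rw [h10, h9] at h4
            exact hf0 h4.symm
          have h8 := (hprod _ h5 h6).resolve_left h7
          have h9 := congrArg (cj σ ⟨h, hh⟩) h8
          rw [cj_mul, cj_cj, mul_inv_cancel, cj_one] at h9
          rw [← h9, ← adjoin_comm σ B hB hfR h2, h4]
      · right
        have h1 : e * cj ρ h e = 0 := (he.orth h).resolve_left hh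
        calc ext e f * cj ρ h (ext e f)
            = (ext e f * e) * cj ρ h (e * ext e f) := by
              rw [ext_mul_e he.toIsBlk, e_mul_ext he.toIsBlk]
          _ = ext e f * (e * cj ρ h e) * cj ρ h (ext e f) := by
              rw [cj_mul]; simp only [mul_assoc]
          _ = 0 := by rw [h1, mul_zero, zero_mul]
  have hf1 : f = 1 := by
    apply hid f hff
    rw [← sz_ext he.toIsBlk f]
    exact he.min _ hblk
  have hone : ∀ g ∈ R, g * g = g → g ≠ 0 → g = 1 := by
    intro g hg hgg hg0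
    apply hid g hgg
    refine le_trans ?_ (hmin g hg hgg hg0)
    rw [← sz_ext he.toIsBlk f]
    exact he.min _ hblk
  intro x hx hx0
  obtain ⟨n, hn, hxn⟩ := exists_pow_idem x
  by_cases h0 : x ^ n = 0
  · exact absurd (nil_eq_zero σ B (irr he.toIsBlk hirr) hB hx ⟨n, h0⟩) hx0
  · have h1 := hone (x ^ n) (pow_mem hx n) hxn h0
    exact IsUnit.of_pow_eq_one h1 hn.ne'

end IsMin

end Cfsg.Agent.H674.KM
end

-- part: H674/KM/Field
section
/-!
# The field generated by a normal commutative subgroup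
-/

set_option autoImplicit false

namespace Cfsg.Agent.H674.KM

open Module

universe u v w

variable {F : Type u} [Field F] {S : Type v} [Group S] {W : Type w} [AddCommGroup W] [Module F W]

theorem finite_end [Finite W] : Finite (End F W) := DFunLike.finite _

theorem exists_field [Finite W] [Nontrivial W] (σ : Representation F S W) (hqp : QP σ)
    (B : Subgroup S) (hBn : B.Normal) (hB : ∀ a ∈ B, ∀ b ∈ B, σ a * σ b = σ b * σ a) :
    ∃ (K : Type w) (_ : Field K) (_ : Algebra F K) (_ : Finite K) (j : K →ₐ[F] End F W),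
      Function.Injective j ∧
        ∀ x, x ∈ Algebra.adjoin F (σ '' (B : Set S)) ↔ ∃ k, j k = x := by
  set R := Algebra.adjoin F (σ '' (B : Set S)) with hR
  have hfin : Finite (End F W) := finite_end
  have hfield : IsField R := by
    refine ⟨⟨0, 1, ?_⟩, ?_, ?_⟩
    · intro h
      have := congrArg Subtype.val h
      exact zero_ne_one this
    · intro x y
      exact Subtype.ext (adjoin_comm σ B hB x.2 y.2)
    · intro x hx
      have hx0 : (x : End F W) ≠ 0 := fun h => hx (Subtype.ext h)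
      have hu := hqp B hBn hB x x.2 hx0
      obtain ⟨n, hn, hxn⟩ := exists_pow_idem (x : End F W)
      have h1 : (x : End F W) ^ n = 1 := by
        have hun : IsUnit ((x : End F W) ^ n) := hu.pow n
        exact hun.mul_left_cancel (by rw [hxn, mul_one])
      refine ⟨x ^ (n - 1), ?_⟩
      apply Subtype.ext
      show (x : End F W) * (x : End F W) ^ (n - 1) = 1
      rw [← pow_succ', Nat.sub_add_cancel hn, h1]
  refine ⟨R, hfield.toField, (inferInstance : Algebra F R), inferInstance, R.val,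
    Subtype.val_injective, ?_⟩
  intro x
  constructor
  · intro hx
    exact ⟨⟨x, hx⟩, rfl⟩
  · rintro ⟨k, rfl⟩
    exact k.2

/-- conjugation as an algebra homomorphism -/
noncomputable def cjAlg (σ : Representation F S W) (s : S) : End F W →ₐ[F] End F W where
  toFun := cj σ s
  map_one' := by rw [cj, mul_one, rho_mul_inv]
  map_mul' x y := cj_mul σ s x y
  map_zero' := cj_zero σ s
  map_add' x y := by simp only [cj, mul_add, add_mul]
  commutes' r := by rw [cj, ← Algebra.commutes, mul_assoc, rho_mul_inv, mul_one]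

theorem cjAlg_apply (σ : Representation F S W) (s : S) (x : End F W) : cjAlg σ s x = cj σ s x :=
  rfl

/-- the conjugation action on the field `K` -/
theorem exists_theta (σ : Representation F S W) (B : Subgroup S) [B.Normal] {K : Type w} [Field K]
    [Algebra F K] (j : K →ₐ[F] End F W) (hj : Function.Injective j)
    (hR : ∀ x, x ∈ Algebra.adjoin F (σ '' (B : Set S)) ↔ ∃ k, j k = x) :
    ∃ θ : S → (K →ₐ[F] K), ∀ s k, j (θ s k) = cj σ s (j k) := by
  have h1 : ∀ s k, ((cjAlg σ s).comp j) k ∈ j.range := by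
    intro s k
    have h2 : j k ∈ Algebra.adjoin F (σ '' (B : Set S)) := (hR _).2 ⟨k, rfl⟩
    have h3 := cj_mem_adjoin σ B s h2
    obtain ⟨k', hk'⟩ := (hR _).1 h3
    exact ⟨k', hk'⟩
  refine ⟨fun s => ((AlgEquiv.ofInjective j hj).symm : j.range →ₐ[F] K).comp
    (((cjAlg σ s).comp j).codRestrict j.range (h1 s)), fun s k => ?_⟩
  have h4 : j ((AlgEquiv.ofInjective j hj).symm
      (((cjAlg σ s).comp j).codRestrict j.range (h1 s) k)) =
      (((cjAlg σ s).comp j).codRestrict j.range (h1 s) k : End F W) := by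
    have := (AlgEquiv.ofInjective j hj).apply_symm_apply
      (((cjAlg σ s).comp j).codRestrict j.range (h1 s) k)
    exact congrArg Subtype.val this
  exact h4

theorem index_le_of_map {G : Type*} [Group G] (H : Subgroup G) {X : Type*} [Finite X] (f : G → X)
    (h : ∀ a b, f a = f b → a⁻¹ * b ∈ H) : H.index ≤ Nat.card X := by
  apply Nat.card_le_card_of_injective (fun q : G ⧸ H => f q.out)
  intro q q' hq
  have h1 : q.out⁻¹ * q'.out ∈ H := h _ _ hq
  rw [← QuotientGroup.eq] at h1
  simpa using h1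

theorem relIndex_le_of_map {G : Type*} [Group G] (H K : Subgroup G) {X : Type*} [Finite X]
    (f : K → X) (h : ∀ a b : K, f a = f b → (a : G)⁻¹ * b ∈ H) : H.relIndex K ≤ Nat.card X := by
  apply index_le_of_map (H.subgroupOf K) f
  intro a b hab
  exact h a b hab

/-- **the field part** of the structure of a quasi-primitive linear group -/
theorem field_part [Finite F] [Finite W] [Nontrivial W] (σ : Representation F S W)
    (hinj : Function.Injective σ) (hqp : QP σ) (Z U : Subgroup S) (hUn : U.Normal)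
    (hZU : Z ≤ U) (hU : ∀ a ∈ U, ∀ b ∈ U, a * b = b * a) :
    ∃ (K : Type w) (_ : Field K) (_ : Algebra F K) (_ : Finite K) (j : K →ₐ[F] End F W)
      (d0 δ m : ℕ), Function.Injective j ∧ (∀ u ∈ U, ∃ k, j k = σ u) ∧
      (∀ k, ∀ c ∈ Subgroup.centralizer (U : Set S), j k * σ c = σ c * j k) ∧
      0 < d0 ∧ 0 < δ ∧ 0 < m ∧ Nat.card W = Nat.card F ^ (d0 * δ * m) ∧
      Nat.card Z ∣ Nat.card F ^ d0 - 1 ∧ (Subgroup.centralizer (Z : Set S)).index ≤ d0 ∧
      (Subgroup.centralizer (U : Set S)).relIndex (Subgroup.centralizer (Z : Set S)) ≤ δ ∧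
      m = @finrank K W _ _ (Module.compHom W j.toRingHom) := by
  have hU' : ∀ a ∈ U, ∀ b ∈ U, σ a * σ b = σ b * σ a := by
    intro a ha b hb
    rw [← map_mul, hU a ha b hb, map_mul]
  obtain ⟨K, _, _, _, j, hj, hR⟩ := exists_field σ hqp U hUn hU'
  obtain ⟨θ, hθ⟩ := exists_theta σ U j hj hR
  have hUK : ∀ u ∈ U, ∃ k, j k = σ u := fun u hu =>
    (hR _).1 (Algebra.subset_adjoin ⟨u, hu, rfl⟩)
  let K0 : IntermediateField F K := IntermediateField.adjoin F {k | ∃ z ∈ Z, j k = σ z}
  have hgen : ∀ z ∈ Z, ∃ k ∈ K0, j k = σ z := by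
    intro z hz
    obtain ⟨k, hk⟩ := hUK z (hZU hz)
    exact ⟨k, IntermediateField.subset_adjoin F _ ⟨z, hz, hk⟩, hk⟩
  have : Module.Finite F K := Module.Finite.of_finite
  have : Module.Finite K0 K := Module.Finite.of_finite
  let : Module K W := Module.compHom W j.toRingHom
  have : Module.Finite K W := Module.Finite.of_finite
  have hKW : Nat.card W = Nat.card K ^ finrank K W := Module.natCard_eq_pow_finrank
  have hFK : Nat.card K = Nat.card F ^ finrank F K := Module.natCard_eq_pow_finrank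
  have hFK0 : Nat.card K0 = Nat.card F ^ finrank F K0 := Module.natCard_eq_pow_finrank
  refine ⟨K, inferInstance, inferInstance, inferInstance, j, finrank F K0, finrank K0 K,
    finrank K W, hj, hUK, ?_, finrank_pos, finrank_pos, finrank_pos, ?_, ?_, ?_, ?_, rfl⟩
  · intro k c hc
    have h1 : j k ∈ Algebra.adjoin F (σ '' (U : Set S)) := (hR _).2 ⟨k, rfl⟩
    have h2 : Commute (σ c) (j k) := by
      apply Algebra.commute_of_mem_adjoin_of_forall_mem_commute h1
      rintro _ ⟨u, hu, rfl⟩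
      have h3 : u * c = c * u := Subgroup.mem_centralizer_iff.1 hc u hu
      show σ c * σ u = σ u * σ c
      rw [← map_mul, ← map_mul, h3]
    exact h2.symm.eq
  · rw [hKW, hFK, ← pow_mul, Module.finrank_mul_finrank F K0 K]
  · -- `Z` embeds in the units of `K0`
    have hz : ∀ z : Z, ∃ k : K0, j k = σ (z : S) := by
      intro z
      obtain ⟨k, hk, hk'⟩ := hgen z z.2
      exact ⟨⟨k, hk⟩, hk'⟩
    choose g hg using hz
    have hjK : Function.Injective (fun k : K0 => j (k : K)) :=
      fun a b h => Subtype.ext (hj h)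
    let gh : Z →* K0 :=
      { toFun := g
        map_one' := by
          apply hjK
          show j (g 1) = j ((1 : K0) : K)
          rw [hg]
          simp
        map_mul' := by
          intro a b
          apply hjK
          show j (g (a * b)) = j ((g a * g b : K0) : K)
          rw [hg]
          simp [hg] }
    have hginj : Function.Injective gh.toHomUnits := by
      intro a b h
      have h1 : g a = g b := congrArg Units.val h
      have h2 : σ (a : S) = σ (b : S) := by rw [← hg, ← hg, h1]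
      exact Subtype.ext (hinj h2)
    have h3 := Subgroup.card_dvd_of_injective gh.toHomUnits hginj
    rwa [Nat.card_units, hFK0] at h3
  · -- the action on `K0`
    refine le_trans (index_le_of_map _ (fun s => (θ s).comp K0.val) ?_)
      (card_algHom_le_finrank F K0 K)
    intro a b hab
    rw [Subgroup.mem_centralizer_iff]
    intro z hz
    obtain ⟨k, hk, hk'⟩ := hgen z hz
    have h1 : θ a k = θ b k := congrArg (fun f : K0 →ₐ[F] K => f ⟨k, hk⟩) hab
    have h2 : cj σ a (σ z) = cj σ b (σ z) := by rw [← hk', ← hθ, ← hθ, h1]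
    have h3 : a * z * a⁻¹ = b * z * b⁻¹ := by
      apply hinj
      simpa [cj] using h2
    have h4 : z = a⁻¹ * (b * z * b⁻¹) * a := by rw [← h3]; group
    calc z * (a⁻¹ * b) = (a⁻¹ * (b * z * b⁻¹) * a) * (a⁻¹ * b) := by rw [← h4]
      _ = a⁻¹ * b * z := by group
  · -- the action of the centraliser of `Z` on `K` over `K0`
    have hfix : ∀ c ∈ Subgroup.centralizer (Z : Set S), ∀ k : K0, θ c k = k := by
      intro c hc
      have h1 : K0 ≤ IntermediateField.adjoin F {k | θ c k = k} := by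
        apply IntermediateField.adjoin.mono
        rintro k ⟨z, hz, hk⟩
        show θ c k = k
        apply hj
        rw [hθ, hk]
        have h3 : z * c = c * z := Subgroup.mem_centralizer_iff.1 hc z hz
        show σ c * σ z * σ c⁻¹ = σ z
        rw [← map_mul, ← map_mul, ← h3, mul_assoc, mul_inv_cancel, mul_one]
      have h5 : ∀ k ∈ IntermediateField.adjoin F {k | θ c k = k}, θ c k = k := by
        intro k hk
        induction hk using IntermediateField.adjoin_induction with
        | mem x hx => exact hx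
        | algebraMap x => exact (θ c).commutes x
        | add x y _ _ hx hy => rw [map_add, hx, hy]
        | inv x _ hx => rw [map_inv₀, hx]
        | mul x y _ _ hx hy => rw [map_mul, hx, hy]
      intro k
      exact h5 k (h1 k.2)
    let Θ : Subgroup.centralizer (Z : Set S) → (K →ₐ[K0] K) := fun c =>
      { (θ (c : S)).toRingHom with
        commutes' := fun k => hfix c c.2 k }
    refine le_trans (relIndex_le_of_map _ _ Θ ?_) (card_algHom_le_finrank K0 K K)
    intro a b hab
    rw [Subgroup.mem_centralizer_iff]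
    intro u hu
    obtain ⟨k, hk⟩ := hUK u hu
    have h1 : θ a k = θ b k := congrArg (fun f : K →ₐ[K0] K => f k) hab
    have h2 : cj σ (a : S) (σ u) = cj σ (b : S) (σ u) := by rw [← hk, ← hθ, ← hθ, h1]
    have h3 : (a : S) * u * (a : S)⁻¹ = b * u * (b : S)⁻¹ := by
      apply hinj
      simpa [cj] using h2
    have h4 : u = (a : S)⁻¹ * (b * u * (b : S)⁻¹) * a := by rw [← h3]; group
    calc u * ((a : S)⁻¹ * b) = ((a : S)⁻¹ * (b * u * (b : S)⁻¹) * a) * ((a : S)⁻¹ * b) := by
          rw [← h4]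
      _ = (a : S)⁻¹ * b * u := by group

end Cfsg.Agent.H674.KM
end

-- part: H674/KM/Struct
section
/-!
# A solvable group over its maximal abelian normal subgroup
-/

set_option autoImplicit false

namespace Cfsg.Agent.H674.KM

open Module

universe u v w

theorem card_mul_relIndex {X : Type*} [Group X] {A B : Subgroup X} (h : A ≤ B) :
    Nat.card A * A.relIndex B = Nat.card B := by
  have := Subgroup.relIndex_mul_relIndex ⊥ A B bot_le h
  rwa [Subgroup.relIndex_bot_left, Subgroup.relIndex_bot_left] at this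

/-- small generating sets -/
theorem exists_gens {X : Type*} [Group X] [Finite X] :
    ∃ T : Finset X, Subgroup.closure (T : Set X) = ⊤ ∧ 2 ^ T.card ≤ Nat.card X := by
  classical
  have : Fintype X := Fintype.ofFinite X
  let P : Finset X → Prop := fun T => 2 ^ T.card ≤ Nat.card (Subgroup.closure (T : Set X))
  have h0 : P ∅ := by
    show 2 ^ 0 ≤ _
    exact Nat.succ_le_of_lt Nat.card_pos
  obtain ⟨T, hT⟩ := (Set.toFinite {T : Finset X | P T}).exists_maximal ⟨∅, h0⟩
  have hPT : P T := hT.prop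
  refine ⟨T, ?_, le_trans hPT (Subgroup.card_le_card_group _)⟩
  by_contra hne
  obtain ⟨x, hx⟩ : ∃ x, x ∉ Subgroup.closure (T : Set X) := by
    by_contra hcon
    push Not at hcon
    exact hne (eq_top_iff.2 fun x _ => hcon x)
  have hxT : x ∉ T := fun h => hx (Subgroup.subset_closure h)
  have h1 : P (insert x T) := by
    show 2 ^ (insert x T).card ≤ _
    rw [Finset.card_insert_of_notMem hxT, pow_succ]
    have hle : Subgroup.closure (T : Set X) ≤ Subgroup.closure ((insert x T : Finset X) : Set X) :=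
      Subgroup.closure_mono (by simp)
    have hxin : x ∈ Subgroup.closure ((insert x T : Finset X) : Set X) :=
      Subgroup.subset_closure (by simp)
    have h2 : 2 ≤ (Subgroup.closure (T : Set X)).relIndex
        (Subgroup.closure ((insert x T : Finset X) : Set X)) := by
      have h3 : (Subgroup.closure (T : Set X)).relIndex
          (Subgroup.closure ((insert x T : Finset X) : Set X)) ≠ 1 := by
        rw [Ne, Subgroup.relIndex_eq_one]
        intro h
        exact hx (h hxin)
      have h4 : (Subgroup.closure (T : Set X)).relIndex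
          (Subgroup.closure ((insert x T : Finset X) : Set X)) ≠ 0 := Subgroup.FiniteIndex.index_ne_zero
      omega
    rw [← card_mul_relIndex hle]
    exact Nat.mul_le_mul hPT h2
  have h2 : insert x T ≤ T := hT.2 h1 (Finset.subset_insert x T)
  exact hxT (h2 (Finset.mem_insert_self x T))

/-- there are at most `|M|` homomorphisms from `M` to a field -/
theorem card_monoidHom_le (M : Type*) [Monoid M] [Finite M] (K : Type*) [Field K] :
    Finite (M →* K) ∧ Nat.card (M →* K) ≤ Nat.card M := by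
  have : Fintype M := Fintype.ofFinite M
  have h := linearIndependent_monoidHom M K
  have hf : Finite (M →* K) := h.finite
  have : Fintype (M →* K) := Fintype.ofFinite _
  refine ⟨hf, ?_⟩
  have h1 := h.fintype_card_le_finrank
  rw [Module.finrank_fintype_fun_eq_card] at h1
  rwa [Nat.card_eq_fintype_card, Nat.card_eq_fintype_card]

/-- a group of operators permuted up to scalars by many characters -/
theorem dim_bound {K : Type*} [Field K] {W : Type*} [AddCommGroup W] [Module K W]
    [Module.Finite K W] [Nontrivial W] {D : Type*} [Group D] (τ : D →* End K W) {ι : Type*}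
    [Fintype ι] (x : ι → D) (χ : ι → D →* K) (hχ : Function.Injective χ)
    (h : ∀ i y, τ (y * x i * y⁻¹) = χ i y • τ (x i)) : Fintype.card ι ≤ (finrank K W) ^ 2 := by
  have hLI : LinearIndependent K (fun i => τ (x i)) := by
    rw [Fintype.linearIndependent_iff]
    intro g hg i
    have h1 : ∀ y, ∑ i, (g i * χ i y) • τ (x i) = 0 := by
      intro y
      have h2 : ∑ i, (g i * χ i y) • τ (x i) = τ y * (∑ i, g i • τ (x i)) * τ y⁻¹ := by
        rw [Finset.mul_sum, Finset.sum_mul]
        refine Finset.sum_congr rfl fun i _ => ?_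
        rw [mul_smul, ← h, map_mul, map_mul, mul_smul_comm, smul_mul_assoc]
      rw [h2, hg, mul_zero, zero_mul]
    have hLI2 : LinearIndependent K (fun i => (χ i : D → K)) :=
      (linearIndependent_monoidHom D K).comp χ hχ
    rw [Fintype.linearIndependent_iff] at hLI2
    obtain ⟨w', hw'⟩ := exists_ne (0 : W)
    obtain ⟨φ, hφ⟩ : ∃ φ : Module.Dual K W, φ w' ≠ 0 := by
      by_contra hcon
      push Not at hcon
      exact hw' ((Module.forall_dual_apply_eq_zero_iff K w').1 hcon)
    have h3 := hLI2 (fun k => g k * φ (τ (x k) (τ (x i)⁻¹ w'))) (by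
      funext y
      have h4 := congrArg (fun f : End K W => φ (f (τ (x i)⁻¹ w'))) (h1 y)
      simp only [LinearMap.sum_apply, LinearMap.smul_apply, map_sum, map_smul, smul_eq_mul,
        LinearMap.zero_apply, map_zero] at h4
      simp only [Finset.sum_apply, Pi.smul_apply, smul_eq_mul, Pi.zero_apply]
      rw [← h4]
      refine Finset.sum_congr rfl fun k _ => by ring) i
    have h5 : τ (x i) (τ (x i)⁻¹ w') = w' := by
      have : τ (x i) * τ (x i)⁻¹ = 1 := by rw [← map_mul, mul_inv_cancel, map_one]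
      exact congrArg (fun f : End K W => f w') this
    simp only [h5] at h3
    exact (mul_eq_zero.1 h3).resolve_right hφ
  have h1 := hLI.fintype_card_le_finrank
  rwa [Module.finrank_linearMap, ← sq] at h1

/-- the derived series of a subgroup -/
def dser {L : Type*} [Group L] (E : Subgroup L) : ℕ → Subgroup L
  | 0 => E
  | (n + 1) => ⁅dser E n, dser E n⁆

/-- the subgroup `D` -/
theorem exists_D {L : Type*} [Group L] [Finite L] (hsol : Group.IsSolvable L) (U : Subgroup L)
    [hUn : U.Normal] (hmax : ∀ B : Subgroup L, B.Normal → (∀ a ∈ B, ∀ b ∈ B, a * b = b * a) →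
      U ≤ B → B ≤ U) (hU : ∀ a ∈ U, ∀ b ∈ U, a * b = b * a) :
    ∃ D : Subgroup L, D.Normal ∧ U ≤ D ∧ D ≤ Subgroup.centralizer (U : Set L) ∧
      (∀ x ∈ D, ∀ y ∈ D, Commute (x : L ⧸ U) (y : L ⧸ U)) ∧
      Subgroup.centralizer (D : Set L) ≤ U := by
  classical
  let P : Subgroup L → Prop := fun D => D.Normal ∧ U ≤ D ∧
    D ≤ Subgroup.centralizer (U : Set L) ∧ (∀ x ∈ D, ∀ y ∈ D, Commute (x : L ⧸ U) (y : L ⧸ U))
  have h0 : P U := by
    refine ⟨hUn, le_rfl, ?_, ?_⟩
    · intro u hu
      rw [Subgroup.mem_centralizer_iff]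
      intro v hv
      exact hU v hv u hu
    · intro x hx y hy
      rw [(QuotientGroup.eq_one_iff x).2 hx]
      exact Commute.one_left _
  obtain ⟨D, hD⟩ := (Set.toFinite {D : Subgroup L | P D}).exists_maximal ⟨U, h0⟩
  obtain ⟨hDn, hUD, hDC, hDc⟩ : P D := hD.prop
  have hDn' : D.Normal := hDn
  refine ⟨D, hDn, hUD, hDC, hDc, ?_⟩
  set E := Subgroup.centralizer (D : Set L) with hE
  have hEn : E.Normal := Subgroup.normal_centralizer
  have hEC : E ≤ Subgroup.centralizer (U : Set L) := Subgroup.centralizer_le hUD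
  -- `D ∩ E = U`
  have hDE : D ⊓ E ≤ U := by
    apply hmax
    · exact Subgroup.normal_inf_normal D E
    · intro a ha b hb
      exact (Subgroup.mem_centralizer_iff.1 (Subgroup.mem_inf.1 hb).2 a (Subgroup.mem_inf.1 ha).1)
    · refine le_inf hUD ?_
      intro u hu
      rw [hE, Subgroup.mem_centralizer_iff]
      intro d hd
      exact (Subgroup.mem_centralizer_iff.1 (hDC hd) u hu).symm
  by_contra hcon
  set T : ℕ → Subgroup L := dser E with hTdef
  have hT0 : T 0 = E := rfl
  have hTs : ∀ n, T (n + 1) = ⁅T n, T n⁆ := fun n => rfl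
  have hTn : ∀ n, (T n).Normal := by
    intro n
    induction n with
    | zero => exact hEn
    | succ n ih =>
      rw [hTs]
      have := ih
      exact @Subgroup.commutator_normal _ _ (T n) (T n) ih ih
  have hTE : ∀ n, T n ≤ E := by
    intro n
    induction n with
    | zero => exact le_rfl
    | succ n ih =>
      rw [hTs]
      have := hTn n
      exact le_trans (@Subgroup.commutator_le_left _ _ (T n) (T n) (hTn n)) ih
  have hTd : ∀ n, T n ≤ derivedSeries L n := by
    intro n
    induction n with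
    | zero => exact le_top
    | succ n ih =>
      rw [hTs, derivedSeries_succ]
      exact Subgroup.commutator_mono ih ih
  obtain ⟨n, hn⟩ := hsol.solvable
  have hex : ∃ n, T n ≤ U := ⟨n, by
    have := hTd n
    rw [hn] at this
    exact le_trans this bot_le⟩
  have hfind := Nat.find_spec hex
  have hpos : Nat.find hex ≠ 0 := by
    intro h
    rw [h] at hfind
    exact hcon hfind
  obtain ⟨k, hk⟩ := Nat.exists_eq_succ_of_ne_zero hpos
  have hk1 : ¬ T k ≤ U := Nat.find_min hex (by omega)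
  rw [hk] at hfind
  have hTk := hTn k
  have hP : P (D ⊔ T k) := by
    refine ⟨@Subgroup.sup_normal _ _ D (T k) hDn hTk, le_trans hUD le_sup_left,
      sup_le hDC (le_trans (hTE k) hEC), ?_⟩
    intro x hx y hy
    obtain ⟨d, hd, t, ht, rfl⟩ := Subgroup.mem_sup_of_normal_right.1 hx
    obtain ⟨d', hd', t', ht', rfl⟩ := Subgroup.mem_sup_of_normal_right.1 hy
    have hct : ∀ a ∈ D, ∀ b ∈ T k, Commute (a : L ⧸ U) (b : L ⧸ U) := by
      intro a ha b hb
      have h1 : a * b = b * a := Subgroup.mem_centralizer_iff.1 (hTE k hb) a ha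
      show (a : L ⧸ U) * b = b * a
      rw [← QuotientGroup.mk_mul, h1, QuotientGroup.mk_mul]
    have htt : Commute (t : L ⧸ U) (t' : L ⧸ U) := by
      have h1 : t * t' * t⁻¹ * t'⁻¹ ∈ U := hfind (Subgroup.commutator_mem_commutator ht ht')
      rw [← QuotientGroup.eq_one_iff] at h1
      rw [QuotientGroup.mk_mul, QuotientGroup.mk_mul,
        QuotientGroup.mk_mul, QuotientGroup.mk_inv, QuotientGroup.mk_inv] at h1
      have h2 : (t : L ⧸ U) * t' * (t : L ⧸ U)⁻¹ = t' := by
        rwa [mul_inv_eq_one] at h1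
      show (t : L ⧸ U) * t' = t' * t
      rw [← mul_inv_eq_iff_eq_mul]
      exact h2
    rw [QuotientGroup.mk_mul, QuotientGroup.mk_mul]
    exact (((hDc d hd d' hd').mul_right (hct d hd t' ht'))).mul_left
      (((hct d' hd' t ht).symm).mul_right htt)
  have hle : D ⊔ T k ≤ D := hD.2 hP le_sup_left
  apply hk1
  intro t ht
  exact hDE ⟨hle (le_sup_right (a := D) ht), hTE k ht⟩

/-- **the non-abelian part** of the structure of a quasi-primitive linear group -/
theorem struct_part {F : Type u} [Field F] {L : Type v} [Group L] [Finite L]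
    (hsol : Group.IsSolvable L) {W : Type w} [AddCommGroup W] [Module F W] [Finite W]
    [Nontrivial W] (σ : Representation F L W) (hinj : Function.Injective σ) (U : Subgroup L)
    (hUn : U.Normal) (hU : ∀ a ∈ U, ∀ b ∈ U, a * b = b * a)
    (hmax : ∀ B : Subgroup L, B.Normal → (∀ a ∈ B, ∀ b ∈ B, a * b = b * a) → U ≤ B → B ≤ U)
    {K : Type w} [Field K] [Algebra F K] (j : K →ₐ[F] End F W)
    (hj : Function.Injective j) (hUK : ∀ u ∈ U, ∃ k, j k = σ u)
    (hC : ∀ k, ∀ c ∈ Subgroup.centralizer (U : Set L), j k * σ c = σ c * j k) (m : ℕ)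
    (hm : m = @finrank K W _ _ (Module.compHom W j.toRingHom)) :
    ∃ N, 0 < N ∧ N ≤ m ^ 2 ∧
      U.relIndex (Subgroup.centralizer (U : Set L)) ≤ N ^ (1 + Nat.log 2 N) := by
  classical
  obtain ⟨D, hDn, hUD, hDC, hDc, hCD⟩ := exists_D hsol U hmax hU
  let : Module K W := Module.compHom W j.toRingHom
  have : Module.Finite K W := Module.Finite.of_finite
  have hsmul : ∀ (k : K) (w : W), k • w = j k w := fun _ _ => rfl
  set C := Subgroup.centralizer (U : Set L) with hCdef
  choose ψ0 hψ0 using (fun u : U => hUK u u.2)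
  let ψ : U →* K :=
    { toFun := ψ0
      map_one' := by
        apply hj
        rw [hψ0, map_one]
        exact map_one σ
      map_mul' := by
        intro a b
        apply hj
        rw [hψ0, map_mul, hψ0, hψ0]
        exact map_mul σ _ _ }
  have hψ : ∀ u : U, j (ψ u) = σ u := hψ0
  have hψinj : Function.Injective ψ := by
    intro a b hab
    apply Subtype.ext
    apply hinj
    rw [← hψ, ← hψ, hab]
  -- the group `T`
  let T : Subgroup L := C ⊓ (Subgroup.centralizer (D.map (QuotientGroup.mk' U) : Set (L ⧸ U))).comap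
    (QuotientGroup.mk' U)
  have hTmem : ∀ c, c ∈ T ↔ c ∈ C ∧ ∀ y ∈ D, y * c * y⁻¹ * c⁻¹ ∈ U := by
    intro c
    rw [Subgroup.mem_inf, Subgroup.mem_comap, Subgroup.mem_centralizer_iff]
    refine and_congr_right fun _ => ?_
    constructor
    · intro h y hy
      have h1 := h (QuotientGroup.mk' U y) (Subgroup.mem_map_of_mem _ hy)
      rw [← QuotientGroup.eq_one_iff]
      have h2 : (y : L ⧸ U) * (c : L ⧸ U) = c * y := h1
      rw [QuotientGroup.mk_mul, QuotientGroup.mk_mul, QuotientGroup.mk_mul, QuotientGroup.mk_inv,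
        QuotientGroup.mk_inv, h2]
      group
    · rintro h _ ⟨y, hy, rfl⟩
      have h1 := h y hy
      rw [← QuotientGroup.eq_one_iff, QuotientGroup.mk_mul, QuotientGroup.mk_mul,
        QuotientGroup.mk_mul, QuotientGroup.mk_inv, QuotientGroup.mk_inv, mul_inv_eq_one,
        mul_inv_eq_iff_eq_mul] at h1
      exact h1
  have hUT : U ≤ T := by
    intro u hu
    rw [hTmem]
    refine ⟨hDC (hUD hu), fun y _ => ?_⟩
    exact U.mul_mem (hUn.conj_mem u hu y) (U.inv_mem hu)
  have hDT : D ≤ T := by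
    intro d hd
    rw [hTmem]
    refine ⟨hDC hd, fun y hy => ?_⟩
    have h1 := hDc y hy d hd
    rw [← QuotientGroup.eq_one_iff, QuotientGroup.mk_mul, QuotientGroup.mk_mul,
        QuotientGroup.mk_mul, QuotientGroup.mk_inv, QuotientGroup.mk_inv, h1.eq]
    group
  have hcomU : ∀ y ∈ C, ∀ u ∈ U, y * u = u * y := by
    intro y hy u hu
    exact (Subgroup.mem_centralizer_iff.1 hy u hu).symm
  -- characters
  let χ : T → (D →* K) := fun c =>
    { toFun := fun y => ψ ⟨(y : L) * c * (y : L)⁻¹ * (c : L)⁻¹, ((hTmem c).1 c.2).2 y y.2⟩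
      map_one' := by
        rw [← map_one ψ]
        congr 1
        apply Subtype.ext
        simp
      map_mul' := by
        intro y y'
        rw [← map_mul]
        congr 1
        apply Subtype.ext
        show ((y : L) * y') * c * ((y : L) * y')⁻¹ * (c : L)⁻¹ =
          ((y : L) * c * (y : L)⁻¹ * (c : L)⁻¹) * ((y' : L) * c * (y' : L)⁻¹ * (c : L)⁻¹)
        have h1 : ((y' : L) * c * (y' : L)⁻¹ * (c : L)⁻¹) ∈ U := ((hTmem c).1 c.2).2 y' y'.2
        have h2 : ((y : L) * c * (y : L)⁻¹ * (c : L)⁻¹) ∈ U := ((hTmem c).1 c.2).2 y y.2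
        have h3 := hcomU y (hDC y.2) _ h1
        have h4 := hU _ h1 _ h2
        calc ((y : L) * y') * c * ((y : L) * y')⁻¹ * (c : L)⁻¹
            = ((y : L) * ((y' : L) * c * (y' : L)⁻¹ * (c : L)⁻¹)) * (c * (y : L)⁻¹ * (c : L)⁻¹) := by
              group
          _ = (((y' : L) * c * (y' : L)⁻¹ * (c : L)⁻¹) * y) * (c * (y : L)⁻¹ * (c : L)⁻¹) := by
              rw [h3]
          _ = ((y' : L) * c * (y' : L)⁻¹ * (c : L)⁻¹) * ((y : L) * c * (y : L)⁻¹ * (c : L)⁻¹) := by
              group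
          _ = _ := h4 }
  have hχval : ∀ (c : T) (y : D), j (χ c y) = σ ((y : L) * c * (y : L)⁻¹ * (c : L)⁻¹) :=
    fun c y => hψ _
  have hχinj : ∀ c c' : T, (∀ y : D, χ c y = χ c' y) → (c : L)⁻¹ * c' ∈ U := by
    intro c c' h
    apply hCD
    rw [Subgroup.mem_centralizer_iff]
    intro y hy
    have h1 := hψinj (h ⟨y⁻¹, D.inv_mem hy⟩)
    have h2 : (y⁻¹ : L) * c * (y⁻¹)⁻¹ * (c : L)⁻¹ = (y⁻¹ : L) * c' * (y⁻¹)⁻¹ * (c' : L)⁻¹ :=
      congrArg Subtype.val h1
    have h3 : (c : L) * y * (c : L)⁻¹ = c' * y * (c' : L)⁻¹ := by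
      calc (c : L) * y * (c : L)⁻¹ = y * ((y⁻¹ : L) * c * (y⁻¹)⁻¹ * (c : L)⁻¹) := by group
        _ = y * ((y⁻¹ : L) * c' * (y⁻¹)⁻¹ * (c' : L)⁻¹) := by rw [h2]
        _ = _ := by group
    calc y * ((c : L)⁻¹ * c') = (c : L)⁻¹ * ((c : L) * y * (c : L)⁻¹) * c' := by group
      _ = (c : L)⁻¹ * (c' * y * (c' : L)⁻¹) * c' := by rw [h3]
      _ = (c : L)⁻¹ * c' * y := by group
  set N := U.relIndex D with hN
  have hNcard : Nat.card (D ⧸ U.subgroupOf D) = N := rfl
  have hNpos : 0 < N := Nat.pos_of_ne_zero Subgroup.FiniteIndex.index_ne_zero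
  refine ⟨N, hNpos, ?_, ?_⟩
  · -- linear independence
    rw [hm]
    let τ : D →* End K W :=
      { toFun := fun y =>
          { toFun := fun w => σ (y : L) w
            map_add' := fun a b => map_add _ a b
            map_smul' := by
              intro k w
              show σ (y : L) (j k w) = j k (σ (y : L) w)
              exact (congrArg (fun f : End F W => f w) (hC k y (hDC y.2))).symm }
        map_one' := by
          apply LinearMap.ext
          intro w
          show σ ((1 : D) : L) w = w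
          rw [OneMemClass.coe_one, map_one]
          rfl
        map_mul' := by
          intro y y'
          apply LinearMap.ext
          intro w
          show σ ((y * y' : D) : L) w = σ (y : L) (σ (y' : L) w)
          rw [MulMemClass.coe_mul, map_mul]
          rfl }
    have : Fintype (D ⧸ U.subgroupOf D) := Fintype.ofFinite _
    have hdim := dim_bound (K := K) (W := W) τ (fun i : D ⧸ U.subgroupOf D => i.out)
      (fun i => χ ⟨(i.out : D), hDT i.out.2⟩) ?_ ?_
    · rw [← hNcard, Nat.card_eq_fintype_card]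
      exact hdim
    · intro i i' hii
      have h1 := hχinj ⟨(i.out : D), hDT i.out.2⟩ ⟨(i'.out : D), hDT i'.out.2⟩ (fun y =>
        congrArg (fun f : D →* K => f y) hii)
      have h2 : i.out⁻¹ * i'.out ∈ U.subgroupOf D := h1
      rw [← QuotientGroup.eq] at h2
      simpa using h2
    · intro i y
      apply LinearMap.ext
      intro w
      show σ ((y * i.out * y⁻¹ : D) : L) w = j (χ ⟨(i.out : D), hDT i.out.2⟩ y) (σ (i.out : L) w)
      rw [hχval, ← Module.End.mul_apply, ← map_mul]
      congr 2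
      simp
  · -- counting
    have hUTi : U.relIndex T ≤ N := by
      obtain ⟨hf, hle⟩ := card_monoidHom_le (D ⧸ U.subgroupOf D) K
      have hlift : ∀ c : T, ∀ x ∈ U.subgroupOf D, χ c x = 1 := by
        intro c x hx
        apply hj
        rw [hχval, map_one]
        have hxU : (x : L) ∈ U := hx
        have h1 := hcomU c ((hTmem c).1 c.2).1 x hxU
        have h2 : (x : L) * c * (x : L)⁻¹ * (c : L)⁻¹ = 1 := by rw [← h1]; group
        rw [h2, map_one]
      refine le_trans (relIndex_le_of_map U T (fun c => QuotientGroup.lift (U.subgroupOf D) (χ c)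
        (hlift c)) ?_) (by rw [hNcard] at hle; exact hle)
      intro c c' h
      apply hχinj
      intro y
      exact congrArg (fun f : D ⧸ U.subgroupOf D →* K => f (QuotientGroup.mk y)) h
    -- the action on `D / U`
    obtain ⟨G0, hG0, hG0c⟩ := exists_gens (X := D ⧸ U.subgroupOf D)
    let γ : C → (D →* D ⧸ U.subgroupOf D) := fun c =>
      { toFun := fun y => QuotientGroup.mk (⟨(c : L) * y * (c : L)⁻¹, hDn.conj_mem y y.2 c⟩ : D)
        map_one' := by
          rw [QuotientGroup.eq_one_iff]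
          show (c : L) * 1 * (c : L)⁻¹ ∈ U
          rw [mul_one, mul_inv_cancel]
          exact U.one_mem
        map_mul' := by
          intro y y'
          rw [← QuotientGroup.mk_mul]
          congr 1
          apply Subtype.ext
          show (c : L) * (y * y') * (c : L)⁻¹ = (c : L) * y * (c : L)⁻¹ * ((c : L) * y' * (c : L)⁻¹)
          group }
    have hγU : ∀ c : C, ∀ x ∈ U.subgroupOf D, γ c x = 1 := by
      intro c x hx
      show QuotientGroup.mk (⟨(c : L) * x * (c : L)⁻¹, hDn.conj_mem x x.2 c⟩ : D) = _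
      rw [QuotientGroup.eq_one_iff]
      exact hUn.conj_mem x hx c
    let γ' : C → (D ⧸ U.subgroupOf D →* D ⧸ U.subgroupOf D) := fun c =>
      QuotientGroup.lift (U.subgroupOf D) (γ c) (hγU c)
    have hTC : T.relIndex C ≤ N ^ Nat.log 2 N := by
      refine le_trans (relIndex_le_of_map T C (fun c (g : G0) => γ' c g) ?_) ?_
      · intro c c' h
        have h1 : γ' c = γ' c' := by
          apply MonoidHom.eq_of_eqOn_dense hG0
          intro g hg
          exact congrFun h ⟨g, hg⟩
        rw [hTmem]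
        refine ⟨C.mul_mem (C.inv_mem c.2) c'.2, fun y hy => ?_⟩
        have h2 : γ c ⟨y⁻¹, D.inv_mem hy⟩ = γ c' ⟨y⁻¹, D.inv_mem hy⟩ :=
          congrArg (fun f : D ⧸ U.subgroupOf D →* D ⧸ U.subgroupOf D =>
            f (QuotientGroup.mk ⟨y⁻¹, D.inv_mem hy⟩)) h1
        have h3' : (⟨(c : L) * y⁻¹ * (c : L)⁻¹, hDn.conj_mem _ (D.inv_mem hy) c⟩ : D)⁻¹ *
            (⟨(c' : L) * y⁻¹ * (c' : L)⁻¹, hDn.conj_mem _ (D.inv_mem hy) c'⟩ : D) ∈
              U.subgroupOf D := QuotientGroup.eq.1 h2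
        have h3 : ((c : L) * y⁻¹ * (c : L)⁻¹)⁻¹ * ((c' : L) * y⁻¹ * (c' : L)⁻¹) ∈ U := h3'
        have h4 := hUn.conj_mem _ h3 (c : L)⁻¹
        convert h4 using 1
        group
      · have : Fintype (D ⧸ U.subgroupOf D) := Fintype.ofFinite _
        rw [Nat.card_fun, hNcard, Nat.card_eq_fintype_card, Fintype.card_coe]
        apply Nat.pow_le_pow_right hNpos
        rw [hNcard] at hG0c
        exact (Nat.le_log_iff_pow_le (by norm_num) hNpos.ne').2 hG0c
    have hTle : T ≤ C := inf_le_left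
    rw [← Subgroup.relIndex_mul_relIndex U T C hUT hTle, pow_add, pow_one]
    exact Nat.mul_le_mul hUTi hTC

end Cfsg.Agent.H674.KM
end

-- part: H674/KM/StructL
section
/-!
# The structure of a solvable quasi-primitive linear group
-/

set_option autoImplicit false

namespace Cfsg.Agent.H674.KM

open Module

universe u v w

/-- the data extracted from a quasi-primitive solvable linear group -/
structure Dat (qF cW : ℕ) {L : Type v} [Group L] (Z U C : Subgroup L) (N d0 δ m : ℕ) : Prop where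
  hZU : Z ≤ U
  hUC : U ≤ C
  hUn : U.Normal
  hCn : C.Normal
  comm : ∀ u ∈ U, ∀ c ∈ C, u * c = c * u
  hN : 0 < N
  hd0 : 0 < d0
  hδ : 0 < δ
  hm : 0 < m
  card : cW = qF ^ (d0 * δ * m)
  dvd : Nat.card Z ∣ qF ^ d0 - 1
  idx0 : (Subgroup.centralizer (Z : Set L)).index ≤ d0
  idx1 : C.relIndex (Subgroup.centralizer (Z : Set L)) ≤ δ
  idx2 : U.relIndex C ≤ N ^ (1 + Nat.log 2 N)
  hNm : N ≤ m ^ 2

theorem structure_L {F : Type u} [Field F] [Finite F] {L : Type v} [Group L] [Finite L]
    (hsol : Group.IsSolvable L) {W : Type w} [AddCommGroup W] [Module F W] [Finite W]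
    [Nontrivial W] (σ : Representation F L W) (hinj : Function.Injective σ) (hqp : QP σ)
    (Z : Subgroup L) (hZn : Z.Normal) (hZ : ∀ a ∈ Z, ∀ b ∈ Z, a * b = b * a) :
    ∃ (U C : Subgroup L) (N d0 δ m : ℕ), Dat (Nat.card F) (Nat.card W) Z U C N d0 δ m := by
  let P : Subgroup L → Prop := fun B => B.Normal ∧ (∀ a ∈ B, ∀ b ∈ B, a * b = b * a) ∧ Z ≤ B
  obtain ⟨U, hUmax⟩ := (Set.toFinite {B : Subgroup L | P B}).exists_maximal ⟨Z, hZn, hZ, le_rfl⟩
  obtain ⟨hUn, hU, hZU⟩ : P U := hUmax.prop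
  have hmax : ∀ B : Subgroup L, B.Normal → (∀ a ∈ B, ∀ b ∈ B, a * b = b * a) → U ≤ B → B ≤ U := by
    intro B hB hBc hle
    exact hUmax.2 (⟨hB, hBc, le_trans hZU hle⟩ : P B) hle
  obtain ⟨K, _, _, _, j, d0, δ, m, hj, hUK, hC, hd0, hδ, hm, hcard, hdvd, h0, h1, hmeq⟩ :=
    field_part σ hinj hqp Z U hUn hZU hU
  obtain ⟨N, hN, hNm, hUC⟩ := struct_part hsol σ hinj U hUn hU hmax j hj hUK hC m hmeq
  refine ⟨U, Subgroup.centralizer (U : Set L), N, d0, δ, m, hZU, ?_, hUn,
    Subgroup.normal_centralizer, ?_, hN, hd0, hδ, hm, hcard, hdvd, h0, h1, hUC, hNm⟩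
  · intro u hu
    rw [Subgroup.mem_centralizer_iff]
    intro v hv
    exact hU v hv u hu
  · intro u hu c hc
    exact Subgroup.mem_centralizer_iff.1 hc u hu

end Cfsg.Agent.H674.KM
end

-- part: H674/KM/Core
section
/-!
# Indices of normal cores
-/

set_option autoImplicit false

namespace Cfsg.Agent.H674.KM

open Pointwise

/-- the normal core of a subgroup normalised by `S` is the intersection of its conjugates by
coset representatives of `S` -/
theorem normalCore_eq_iInf {H : Type*} [Group H] (S X : Subgroup H)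
    (hX : ∀ s ∈ S, ∀ x ∈ X, s * x * s⁻¹ ∈ X) :
    X.normalCore = ⨅ i : H ⧸ S, MulAut.conj i.out • X := by
  ext a
  rw [Subgroup.mem_iInf]
  constructor
  · intro h i
    rw [Subgroup.mem_pointwise_smul_iff_inv_smul_mem]
    have := h i.out⁻¹
    simpa using this
  · intro h b
    have h1 := h (QuotientGroup.mk b⁻¹)
    rw [Subgroup.mem_pointwise_smul_iff_inv_smul_mem] at h1
    obtain ⟨s, hs⟩ := QuotientGroup.mk_out_eq_mul S b⁻¹
    rw [hs] at h1
    have h2 : ((s : H)⁻¹ * b) * a * ((s : H)⁻¹ * b)⁻¹ ∈ X := by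
      simpa [mul_assoc] using h1
    have h3 := hX s s.2 _ h2
    convert h3 using 1
    group

theorem relIndex_core_le {H : Type*} [Group H] [Finite H] (S X Y : Subgroup H)
    (hX : ∀ s ∈ S, ∀ x ∈ X, s * x * s⁻¹ ∈ X) (hY : ∀ s ∈ S, ∀ x ∈ Y, s * x * s⁻¹ ∈ Y) :
    X.normalCore.relIndex Y.normalCore ≤ X.relIndex Y ^ S.index := by
  have : Fintype (H ⧸ S) := Fintype.ofFinite _
  rw [normalCore_eq_iInf S X hX]
  refine le_trans (Subgroup.relIndex_iInf_le _) ?_
  have h1 : ∀ i : H ⧸ S, (MulAut.conj i.out • X).relIndex Y.normalCore ≤ X.relIndex Y := by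
    intro i
    have h2 : Y.normalCore ≤ MulAut.conj i.out • Y := by
      rw [normalCore_eq_iInf S Y hY]
      exact iInf_le _ i
    have h3 := Subgroup.relIndex_le_of_le_right (H := MulAut.conj i.out • X) h2
      Subgroup.FiniteIndex.index_ne_zero
    rwa [Subgroup.relIndex_pointwise_smul] at h3
  refine le_trans (Finset.prod_le_prod' fun i _ => h1 i) ?_
  rw [Finset.prod_const, Finset.card_univ, ← Nat.card_eq_fintype_card]
  rfl

/-- Dixon's bound for the action on the cosets of `S`, in weak form -/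
theorem relIndex_core_le_three {H : Type*} [Group H] [Finite H] (hsol : Group.IsSolvable H)
    (S X : Subgroup H) : S.normalCore.relIndex X ≤ 3 ^ (S.index - 1) := by
  have hpos : 0 < S.index := Nat.pos_of_ne_zero Subgroup.FiniteIndex.index_ne_zero
  have h1 : S.normalCore.relIndex X =
      Nat.card (X.map (MulAction.toPermHom H (H ⧸ S))) := by
    rw [Subgroup.normalCore_eq_ker, Subgroup.relIndex_ker]
  have h2 : Group.IsSolvable (X.map (MulAction.toPermHom H (H ⧸ S))) := by
    have h3 : Group.IsSolvable X := inferInstance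
    exact Group.isSolvable_of_surjective (f := (MulAction.toPermHom H (H ⧸ S)).subgroupMap X)
      ((MulAction.toPermHom H (H ⧸ S)).subgroupMap_surjective X)
  have h3 := H489.card_pow_three_le S.index (H ⧸ S) (X.map (MulAction.toPermHom H (H ⧸ S))) h2 rfl
    hpos
  rw [← h1] at h3
  have h4 : S.normalCore.relIndex X ^ 3 ≤ (3 ^ (S.index - 1)) ^ 3 := by
    refine le_trans h3 ?_
    rw [← pow_mul, mul_comm, pow_mul]
    exact Nat.pow_le_pow_left (by norm_num) _
  exact (Nat.pow_le_pow_iff_left (by norm_num)).1 h4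

end Cfsg.Agent.H674.KM
end

-- part: H674/KM/Engine
section
/-!
# The engine: subgroups `A ≤ N₁` of a solvable irreducible linear group
-/

set_option autoImplicit false

namespace Cfsg.Agent.H674.KM

open Module

universe u v w

variable {F : Type u} [Field F] {V : Type w} [AddCommGroup V] [Module F V] {H : Type v} [Group H]
  {ρ : Representation F H V} {e : End F V}

/-- the action of the stabiliser on the block, as units -/
noncomputable def phi (ρ : Representation F H V) (e : End F V) :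
    St ρ e →* (End F (LinearMap.range e))ˣ := (blkRep ρ e).toHomUnits

theorem phi_coe (s : St ρ e) : ((phi ρ e s : (End F (LinearMap.range e))ˣ) :
    End F (LinearMap.range e)) = blkRep ρ e s := rfl

/-- the linear group induced on the block -/
noncomputable abbrev Lg (ρ : Representation F H V) (e : End F V) : Subgroup (End F (LinearMap.range e))ˣ :=
  (phi ρ e).range

/-- its natural representation -/
noncomputable def sig (ρ : Representation F H V) (e : End F V) :
    Representation F (Lg ρ e) (LinearMap.range e) :=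
  (Units.coeHom _).comp (Lg ρ e).subtype

theorem sig_injective : Function.Injective (sig ρ e) := by
  intro a b h
  apply Subtype.ext
  exact Units.ext h

/-- the surjection from the stabiliser -/
noncomputable abbrev phi' (ρ : Representation F H V) (e : End F V) : St ρ e →* Lg ρ e :=
  (phi ρ e).rangeRestrict

theorem sig_phi' (s : St ρ e) : sig ρ e (phi' ρ e s) = blkRep ρ e s := rfl

theorem phi'_surjective : Function.Surjective (phi' ρ e) := (phi ρ e).rangeRestrict_surjective

theorem qp_sig (h : QP (blkRep ρ e)) : QP (sig ρ e) := by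
  intro B hBn hB x hx hx0
  have h1 : sig ρ e '' (B : Set (Lg ρ e)) =
      blkRep ρ e '' ((B.comap (phi' ρ e) : Subgroup (St ρ e)) : Set (St ρ e)) := by
    ext y
    constructor
    · rintro ⟨b, hb, rfl⟩
      obtain ⟨s, rfl⟩ := phi'_surjective b
      exact ⟨s, hb, rfl⟩
    · rintro ⟨s, hs, rfl⟩
      exact ⟨phi' ρ e s, hs, rfl⟩
  refine h (B.comap (phi' ρ e)) (hBn.comap _) ?_ x (h1 ▸ hx) hx0
  intro a ha b hb
  exact hB (phi' ρ e a) ha (phi' ρ e b) hb

/-- pull back a subgroup of the linear group on the block -/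
noncomputable def up (X : Subgroup (Lg ρ e)) : Subgroup H :=
  (X.comap (phi' ρ e)).map (St ρ e).subtype

theorem mem_up {X : Subgroup (Lg ρ e)} {h : H} :
    h ∈ up X ↔ ∃ hs : h ∈ St ρ e, phi' ρ e ⟨h, hs⟩ ∈ X := by
  constructor
  · rintro ⟨s, hs, rfl⟩
    exact ⟨s.2, hs⟩
  · rintro ⟨hs, h1⟩
    exact ⟨⟨h, hs⟩, h1, rfl⟩

theorem up_le (X : Subgroup (Lg ρ e)) : up X ≤ St ρ e := by
  intro h hh
  exact (mem_up.1 hh).1

theorem up_conj {X : Subgroup (Lg ρ e)} (hX : X.Normal) :
    ∀ s ∈ St ρ e, ∀ x ∈ up X, s * x * s⁻¹ ∈ up X := by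
  intro s hs x hx
  obtain ⟨hxs, hx1⟩ := mem_up.1 hx
  rw [mem_up]
  refine ⟨(St ρ e).mul_mem ((St ρ e).mul_mem hs hxs) ((St ρ e).inv_mem hs), ?_⟩
  have h1 := hX.conj_mem _ hx1 (phi' ρ e ⟨s, hs⟩)
  rw [← map_inv, ← map_mul, ← map_mul] at h1
  exact h1

theorem up_top : up (⊤ : Subgroup (Lg ρ e)) = St ρ e := by
  apply le_antisymm (up_le _)
  intro h hh
  exact mem_up.2 ⟨hh, trivial⟩

theorem up_mono {X Y : Subgroup (Lg ρ e)} (h : X ≤ Y) : up X ≤ up Y := by
  intro a ha
  obtain ⟨h1, h2⟩ := mem_up.1 ha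
  exact mem_up.2 ⟨h1, h h2⟩

theorem relIndex_up (X Y : Subgroup (Lg ρ e)) : (up X).relIndex (up Y) = X.relIndex Y := by
  rw [up, up, Subgroup.relIndex_map_map_of_injective _ _ (St ρ e).subtype_injective,
    Subgroup.relIndex_comap, Subgroup.map_comap_eq_self_of_surjective phi'_surjective]

/-- the kernel on the block has trivial core -/
theorem core_up_bot [Finite H] (he : IsBlk ρ e) (hinj : Function.Injective ρ) (hirr : Irr ρ) :
    (up (⊥ : Subgroup (Lg ρ e))).normalCore = ⊥ := by
  classical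
  rw [eq_bot_iff]
  intro a ha
  rw [Subgroup.mem_bot]
  apply hinj
  rw [map_one]
  have : Fintype (H ⧸ St ρ e) := Fintype.ofFinite _
  have hsum := he.sum_pj hirr
  have h1 : ∀ i : H ⧸ St ρ e, ρ a * pj ρ e i = pj ρ e i := by
    intro i
    have h2 : i.out⁻¹ * a * (i.out⁻¹)⁻¹ ∈ up (⊥ : Subgroup (Lg ρ e)) := ha i.out⁻¹
    obtain ⟨hs, h3⟩ := mem_up.1 h2
    rw [Subgroup.mem_bot] at h3
    have h4 : blkRep ρ e ⟨_, hs⟩ = 1 := by
      rw [← sig_phi', h3]
      rfl
    apply LinearMap.ext
    intro v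
    rw [Module.End.mul_apply, pj, cj_apply]
    have h5 : ρ (i.out⁻¹ * a * (i.out⁻¹)⁻¹) (e (ρ i.out⁻¹ v)) = e (ρ i.out⁻¹ v) := by
      have h6 := congrArg (fun f : End F (LinearMap.range e) =>
        ((f ⟨e (ρ i.out⁻¹ v), ⟨_, rfl⟩⟩ : LinearMap.range e) : V)) h4
      exact h6
    have h7 := congrArg (ρ i.out) h5
    rw [← Module.End.mul_apply, ← map_mul] at h7
    have h8 : i.out * (i.out⁻¹ * a * (i.out⁻¹)⁻¹) = a * i.out := by group
    rw [h8, map_mul, Module.End.mul_apply] at h7
    exact h7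
  calc ρ a = ρ a * ∑ i, pj ρ e i := by rw [hsum, mul_one]
    _ = ∑ i, ρ a * pj ρ e i := by rw [Finset.mul_sum]
    _ = ∑ i, pj ρ e i := Finset.sum_congr rfl fun i _ => h1 i
    _ = 1 := hsum

/-- **The engine.** -/
theorem engine [Finite F] [Finite V] [Nontrivial V] [Finite H] (hsol : Group.IsSolvable H)
    (hinj : Function.Injective ρ) (hirr : Irr ρ) (he : IsMin ρ e) (Z : Subgroup H)
    (hZn : Z.Normal) (hZ : ∀ a ∈ Z, ∀ b ∈ Z, a * b = b * a) (hZS : Z ≤ St ρ e) :
    ∃ (A N1 : Subgroup H) (N d0 δ m : ℕ), A.Normal ∧ N1.Normal ∧ A ≤ N1 ∧ Z ≤ A ∧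
      (∀ a ∈ A, ∀ n ∈ N1, a * n = n * a) ∧ 0 < N ∧ 0 < d0 ∧ 0 < δ ∧ 0 < m ∧
      Nat.card V = Nat.card F ^ (d0 * δ * m * (St ρ e).index) ∧
      A.relIndex N1 ≤ (N ^ (1 + Nat.log 2 N)) ^ (St ρ e).index ∧ N ≤ m ^ 2 ∧
      N1.index ≤ 3 ^ ((St ρ e).index - 1) * (d0 * δ) ^ (St ρ e).index ∧
      ((Nat.card Z).Prime → Nat.card Z ∣ Nat.card F ^ d0 - 1 ∧
        (Subgroup.centralizer (Z : Set H)).index ≤ (St ρ e).index * d0 ∧
        N1.relIndex (Subgroup.centralizer (Z : Set H)) ≤
          3 ^ ((St ρ e).index - 1) * δ ^ (St ρ e).index) := by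
  classical
  set k := (St ρ e).index with hk
  have hblk := he.toIsBlk
  have hne : Nontrivial (LinearMap.range e) := by
    rw [Submodule.nontrivial_iff_ne_bot]
    intro h0
    exact he.ne (LinearMap.range_eq_bot.1 h0)
  have hfinL : Finite (Lg ρ e) := Finite.of_surjective _ phi'_surjective
  have hsolL : Group.IsSolvable (Lg ρ e) :=
    Group.isSolvable_of_surjective (phi'_surjective (ρ := ρ) (e := e))
  -- the image of `Z`
  let ZL : Subgroup (Lg ρ e) := (Z.subgroupOf (St ρ e)).map (phi' ρ e)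
  have hZL : ∀ z (hz : z ∈ Z), phi' ρ e ⟨z, hZS hz⟩ ∈ ZL := fun z hz => ⟨⟨z, hZS hz⟩, hz, rfl⟩
  have hZLn : ZL.Normal := by
    have h1 : (Z.subgroupOf (St ρ e)).Normal := inferInstance
    exact h1.map _ phi'_surjective
  have hZLc : ∀ a ∈ ZL, ∀ b ∈ ZL, a * b = b * a := by
    rintro _ ⟨a, ha, rfl⟩ _ ⟨b, hb, rfl⟩
    rw [← map_mul, ← map_mul]
    congr 1
    exact Subtype.ext (hZ a ha b hb)
  obtain ⟨U, C, N, d0, δ, m, D⟩ := structure_L hsolL (sig ρ e) sig_injective
    (qp_sig (he.qp hirr)) ZL hZLn hZLc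
  have hUn := D.hUn
  have hCn := D.hCn
  have hCZ : C ≤ Subgroup.centralizer (ZL : Set (Lg ρ e)) := by
    intro c hc
    rw [Subgroup.mem_centralizer_iff]
    intro z hz
    exact D.comm z (D.hZU hz) c hc
  have hcore := core_up_bot hblk hinj hirr
  have hcomm : ∀ a ∈ (up U).normalCore, ∀ n ∈ (up C).normalCore, a * n = n * a := by
    intro a ha n hn
    have h1 : a * n * a⁻¹ * n⁻¹ ∈ (up (⊥ : Subgroup (Lg ρ e))).normalCore := by
      intro b
      have ha' := ha b
      have hn' := hn b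
      obtain ⟨h2, h3⟩ := mem_up.1 ha'
      obtain ⟨h4, h5⟩ := mem_up.1 hn'
      have h6 := D.comm _ h3 _ h5
      have h7 : b * (a * n * a⁻¹ * n⁻¹) * b⁻¹ =
          (b * a * b⁻¹) * (b * n * b⁻¹) * (b * a * b⁻¹)⁻¹ * (b * n * b⁻¹)⁻¹ := by group
      rw [h7, mem_up]
      refine ⟨(St ρ e).mul_mem ((St ρ e).mul_mem ((St ρ e).mul_mem h2 h4)
        ((St ρ e).inv_mem h2)) ((St ρ e).inv_mem h4), ?_⟩
      rw [Subgroup.mem_bot]
      have h8 : (⟨(b * a * b⁻¹) * (b * n * b⁻¹) * (b * a * b⁻¹)⁻¹ * (b * n * b⁻¹)⁻¹,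
          (St ρ e).mul_mem ((St ρ e).mul_mem ((St ρ e).mul_mem h2 h4)
          ((St ρ e).inv_mem h2)) ((St ρ e).inv_mem h4)⟩ : St ρ e) =
          ⟨b * a * b⁻¹, h2⟩ * ⟨b * n * b⁻¹, h4⟩ * (⟨b * a * b⁻¹, h2⟩ : St ρ e)⁻¹ *
            (⟨b * n * b⁻¹, h4⟩ : St ρ e)⁻¹ := rfl
      rw [h8, map_mul, map_mul, map_mul, h6, map_inv, map_inv]
      group
    rw [hcore, Subgroup.mem_bot] at h1
    have h2 : a * n = (a * n * a⁻¹ * n⁻¹) * (n * a) := by group
    rw [h2, h1, one_mul]
  have hZA : Z ≤ (up U).normalCore := by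
    intro z hz b
    have h1 : b * z * b⁻¹ ∈ Z := hZn.conj_mem z hz b
    exact mem_up.2 ⟨hZS h1, D.hZU (hZL _ h1)⟩
  have hCidx : C.index ≤ d0 * δ := by
    rw [← Subgroup.relIndex_mul_index hCZ, mul_comm d0 δ]
    exact Nat.mul_le_mul D.idx1 D.idx0
  have hcoreC : ∀ X : Subgroup (Lg ρ e), X.Normal →
      (up C).normalCore.relIndex (up X).normalCore ≤ C.relIndex X ^ k := by
    intro X hX
    have h1 := relIndex_core_le (St ρ e) (up C) (up X) (up_conj hCn) (up_conj hX)
    rwa [relIndex_up] at h1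
  refine ⟨(up U).normalCore, (up C).normalCore, N, d0, δ, m, Subgroup.normalCore_normal _,
    Subgroup.normalCore_normal _, Subgroup.normalCore_mono (up_mono D.hUC), hZA, hcomm, D.hN,
    D.hd0, D.hδ, D.hm, ?_, ?_, D.hNm, ?_, ?_⟩
  · rw [hblk.card_eq hirr, D.card, ← pow_mul]
  · have h1 := relIndex_core_le (St ρ e) (up U) (up C) (up_conj hUn) (up_conj hCn)
    rw [relIndex_up] at h1
    exact le_trans h1 (Nat.pow_le_pow_left D.idx2 _)
  · have h1 : (up C).normalCore ≤ (St ρ e).normalCore :=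
      Subgroup.normalCore_mono (up_le C)
    rw [← Subgroup.relIndex_mul_index h1, mul_comm]
    have h2 := relIndex_core_le_three hsol (St ρ e) ⊤
    rw [Subgroup.relIndex_top_right] at h2
    have h3 := hcoreC ⊤ inferInstance
    rw [up_top, Subgroup.relIndex_top_right] at h3
    exact Nat.mul_le_mul h2 (le_trans h3 (Nat.pow_le_pow_left hCidx _))
  · intro hp
    -- `φ` is injective on `Z`
    have hinjZ : ∀ z ∈ Z, ∀ hz : z ∈ St ρ e, phi' ρ e ⟨z, hz⟩ = 1 → z = 1 := by
      intro z hz hzS h1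
      by_contra hz1
      -- then `Z` is in the kernel
      have h2 : Z ≤ up (⊥ : Subgroup (Lg ρ e)) := by
        have h3 : Subgroup.zpowers z = Z := by
          have h4 : Subgroup.zpowers z ≤ Z := by rwa [Subgroup.zpowers_le]
          have hfZ : Finite Z := inferInstance
          have h5 : Nat.card (Subgroup.zpowers z) ∣ Nat.card Z := Subgroup.card_dvd_of_le h4
          rcases (Nat.dvd_prime hp).1 h5 with h6 | h6
          · exact absurd (Subgroup.zpowers_eq_bot.1 (Subgroup.card_eq_one.1 h6)) hz1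
          · exact Subgroup.eq_of_le_of_card_ge h4 h6.ge
        rw [← h3, Subgroup.zpowers_le, mem_up]
        exact ⟨hzS, h1⟩
      have h3 : Z ≤ (up (⊥ : Subgroup (Lg ρ e))).normalCore := Subgroup.normal_le_normalCore.2 h2
      rw [hcore] at h3
      exact hz1 (Subgroup.mem_bot.1 (h3 hz))
    have hcardZ : Nat.card ZL = Nat.card Z := by
      let f : Z → ZL := fun z => ⟨phi' ρ e ⟨z, hZS z.2⟩, hZL z z.2⟩
      symm
      apply Nat.card_congr (Equiv.ofBijective f ⟨?_, ?_⟩)
      · intro a b hab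
        have h1 : phi' ρ e ⟨a, hZS a.2⟩ = phi' ρ e ⟨b, hZS b.2⟩ := congrArg Subtype.val hab
        have h2 : (a : H)⁻¹ * b ∈ Z := Z.mul_mem (Z.inv_mem a.2) b.2
        have h3 := hinjZ ((a : H)⁻¹ * b) h2 (hZS h2) (by
          have : (⟨(a : H)⁻¹ * b, hZS h2⟩ : St ρ e) = (⟨a, hZS a.2⟩ : St ρ e)⁻¹ * ⟨b, hZS b.2⟩ := rfl
          rw [this, map_mul, map_inv, h1, inv_mul_cancel])
        apply Subtype.ext
        exact inv_mul_eq_one.1 h3
      · rintro ⟨_, s, hs, rfl⟩
        exact ⟨⟨s, hs⟩, rfl⟩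
    have hCent : up (Subgroup.centralizer (ZL : Set (Lg ρ e))) ≤
        Subgroup.centralizer (Z : Set H) := by
      intro s hs
      obtain ⟨hsS, h1⟩ := mem_up.1 hs
      rw [Subgroup.mem_centralizer_iff]
      intro z hz
      have hzZ : z ∈ Z := hz
      have h2 := Subgroup.mem_centralizer_iff.1 h1 _ (hZL z hzZ)
      have h3 : z⁻¹ * (s * z * s⁻¹) ∈ Z := Z.mul_mem (Z.inv_mem hzZ) (hZn.conj_mem z hzZ s)
      have h4 := hinjZ _ h3 (hZS h3) (by
        have : (⟨z⁻¹ * (s * z * s⁻¹), hZS h3⟩ : St ρ e) =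
          (⟨z, hZS hzZ⟩ : St ρ e)⁻¹ * (⟨s, hsS⟩ * ⟨z, hZS hzZ⟩ * (⟨s, hsS⟩ : St ρ e)⁻¹) := rfl
        rw [this, map_mul, map_mul, map_mul, map_inv, map_inv, ← h2]
        group)
      have h5 := inv_mul_eq_one.1 h4
      conv_lhs => rw [h5]
      group
    refine ⟨?_, ?_, ?_⟩
    · rw [← hcardZ]
      exact D.dvd
    · refine le_trans (Subgroup.index_antitone hCent) ?_
      rw [← Subgroup.relIndex_mul_index (up_le (Subgroup.centralizer (ZL : Set (Lg ρ e)))),
        mul_comm]
      have h1 := relIndex_up (Subgroup.centralizer (ZL : Set (Lg ρ e))) ⊤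
      rw [up_top, Subgroup.relIndex_top_right] at h1
      rw [h1]
      exact Nat.mul_le_mul le_rfl D.idx0
    · set X : Subgroup H := (St ρ e).normalCore ⊓ Subgroup.centralizer (Z : Set H) with hX
      have hN1X : (up C).normalCore ≤ X := by
        refine le_inf (Subgroup.normalCore_mono (up_le C)) ?_
        intro n hn
        rw [Subgroup.mem_centralizer_iff]
        intro z hz
        exact hcomm z (hZA hz) n hn
      have hXC : X ≤ (up (Subgroup.centralizer (ZL : Set (Lg ρ e)))).normalCore := by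
        intro x hx b
        obtain ⟨hx1, hx2⟩ := Subgroup.mem_inf.1 hx
        have h1 : b * x * b⁻¹ ∈ St ρ e := hx1 b
        have hn : (Subgroup.centralizer (Z : Set H)).Normal := Subgroup.normal_centralizer
        have h2 : b * x * b⁻¹ ∈ Subgroup.centralizer (Z : Set H) := hn.conj_mem x hx2 b
        rw [mem_up]
        refine ⟨h1, ?_⟩
        rw [Subgroup.mem_centralizer_iff]
        rintro _ ⟨z, hz, rfl⟩
        have h3 := Subgroup.mem_centralizer_iff.1 h2 z hz
        rw [← map_mul, ← map_mul]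
        congr 1
        exact Subtype.ext h3
      rw [← Subgroup.relIndex_mul_relIndex _ X _ hN1X inf_le_right, mul_comm]
      refine Nat.mul_le_mul ?_ ?_
      · rw [hX, Subgroup.inf_relIndex_right]
        exact relIndex_core_le_three hsol _ _
      · have h1 := hcoreC (Subgroup.centralizer (ZL : Set (Lg ρ e))) Subgroup.normal_centralizer
        have h2 := Subgroup.relIndex_le_of_le_right (H := (up C).normalCore) hXC
          Subgroup.FiniteIndex.index_ne_zero
        exact le_trans h2 (le_trans h1 (Nat.pow_le_pow_left D.idx1 _))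

end Cfsg.Agent.H674.KM
end

-- part: H674/KM/Num
section
/-!
# Numerical lemmas
-/

set_option autoImplicit false

namespace Cfsg.Agent.H674.KM

/-- `c(N)` -/
def cc (N : ℕ) : ℕ := N ^ (1 + Nat.log 2 N)

theorem cc_mono {a b : ℕ} (ha : 0 < a) (h : a ≤ b) : cc a ≤ cc b := by
  unfold cc
  calc a ^ (1 + Nat.log 2 a) ≤ b ^ (1 + Nat.log 2 a) := Nat.pow_le_pow_left h _
    _ ≤ b ^ (1 + Nat.log 2 b) :=
      Nat.pow_le_pow_right (by omega) (Nat.add_le_add_left (Nat.log_mono_right h) 1)

theorem sq_le_four_pow (D : ℕ) (hD : 0 < D) : D ^ 2 ≤ 4 ^ (D - 1) := by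
  obtain ⟨n, rfl⟩ := Nat.exists_eq_succ_of_ne_zero hD.ne'
  rw [Nat.succ_eq_add_one, Nat.add_sub_cancel]
  induction n with
  | zero => norm_num
  | succ n ih =>
    rw [pow_succ 4]
    have := ih (by omega)
    nlinarith

theorem exp_aux (u : ℕ) (hu : 5 ≤ u) : (2 * u + 2) * (2 * u + 2) ≤ 6 * (2 ^ u - 2) := by
  induction u, hu using Nat.le_induction with
  | base => norm_num
  | succ n hn ih =>
    have h1 : 2 ≤ 2 ^ n := by
      calc 2 = 2 ^ 1 := rfl
        _ ≤ 2 ^ n := Nat.pow_le_pow_right (by norm_num) (by omega)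
    obtain ⟨t, ht⟩ := Nat.exists_eq_add_of_le h1
    rw [pow_succ, ht]
    rw [ht] at ih
    have h2 : 2 + t - 2 = t := by omega
    rw [h2] at ih
    have h3 : (2 + t) * 2 - 2 = 2 + 2 * t := by omega
    rw [h3]
    nlinarith

theorem cc_large (m : ℕ) (hm : 32 ≤ m) : cc (m ^ 2) ≤ 64 ^ (m - 2) := by
  unfold cc
  set u := Nat.log 2 m with hu
  have hu5 : 5 ≤ u := by
    rw [hu]
    exact (Nat.le_log_iff_pow_le (by norm_num) (by omega)).2 (by norm_num; exact hm)
  have h1 : 2 ^ u ≤ m := Nat.pow_log_le_self 2 (by omega)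
  have h2 : m < 2 ^ (u + 1) := Nat.lt_pow_succ_log_self (by norm_num) m
  have h3 : m ^ 2 < 2 ^ (2 * u + 2) := by
    have : 2 ^ (2 * u + 2) = (2 ^ (u + 1)) ^ 2 := by rw [← pow_mul]; ring_nf
    rw [this]
    exact Nat.pow_lt_pow_left h2 (by norm_num)
  have h4 : Nat.log 2 (m ^ 2) < 2 * u + 2 := Nat.log_lt_of_lt_pow (by positivity) h3
  calc (m ^ 2) ^ (1 + Nat.log 2 (m ^ 2)) ≤ (2 ^ (2 * u + 2)) ^ (1 + Nat.log 2 (m ^ 2)) :=
        Nat.pow_le_pow_left h3.le _
    _ ≤ (2 ^ (2 * u + 2)) ^ (2 * u + 2) := Nat.pow_le_pow_right (by positivity) (by omega)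
    _ = 2 ^ ((2 * u + 2) * (2 * u + 2)) := by rw [← pow_mul]
    _ ≤ 2 ^ (6 * (2 ^ u - 2)) := Nat.pow_le_pow_right (by norm_num) (exp_aux u hu5)
    _ ≤ 2 ^ (6 * (m - 2)) := Nat.pow_le_pow_right (by norm_num) (by omega)
    _ = 64 ^ (m - 2) := by rw [pow_mul]; norm_num

theorem small_A : ∀ m : ℕ, m < 32 → 1 ≤ m → (m ^ 2) ^ (1 + Nat.log2 (m ^ 2)) ≤ 102 ^ (m - 1) := by
  decide +kernel

theorem small_B : ∀ m : ℕ, m < 32 → 2 ≤ m →
    (m ^ 2) ^ (1 + Nat.log2 (m ^ 2)) ≤ 105 * 100 ^ (m - 2) := by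
  decide +kernel

theorem cc_A (m : ℕ) (hm : 0 < m) : cc (m ^ 2) ≤ 102 ^ (m - 1) := by
  by_cases h : m < 32
  · have := small_A m h hm
    rwa [Nat.log2_eq_log_two] at this
  · refine le_trans (cc_large m (by omega)) ?_
    calc 64 ^ (m - 2) ≤ 102 ^ (m - 2) := Nat.pow_le_pow_left (by norm_num) _
      _ ≤ 102 ^ (m - 1) := Nat.pow_le_pow_right (by norm_num) (by omega)

theorem cc_B (m : ℕ) (hm : 2 ≤ m) : cc (m ^ 2) ≤ 105 * 100 ^ (m - 2) := by
  by_cases h : m < 32
  · have := small_B m h hm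
    rwa [Nat.log2_eq_log_two] at this
  · refine le_trans (cc_large m (by omega)) ?_
    calc 64 ^ (m - 2) ≤ 100 ^ (m - 2) := Nat.pow_le_pow_left (by norm_num) _
      _ ≤ 105 * 100 ^ (m - 2) := Nat.le_mul_of_pos_left _ (by norm_num)

/-- `(γ)` -/
theorem gamma (q δ m N : ℕ) (hq : 102 ≤ q) (hδ : 0 < δ) (hm : 0 < m) (hN : 0 < N)
    (hNm : N ≤ m ^ 2) : q * (δ ^ 2 * cc N) ≤ q ^ (δ * m) := by
  have h1 : cc N ≤ q ^ (m - 1) := le_trans (cc_mono hN hNm) (le_trans (cc_A m hm)
    (Nat.pow_le_pow_left hq _))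
  have h2 : δ ^ 2 ≤ q ^ ((δ - 1) * m) := by
    refine le_trans (sq_le_four_pow δ hδ) ?_
    calc 4 ^ (δ - 1) ≤ q ^ (δ - 1) := Nat.pow_le_pow_left (by omega) _
      _ ≤ q ^ ((δ - 1) * m) := Nat.pow_le_pow_right (by omega) (Nat.le_mul_of_pos_right _ hm)
  obtain ⟨a, rfl⟩ := Nat.exists_eq_succ_of_ne_zero hδ.ne'
  obtain ⟨b, rfl⟩ := Nat.exists_eq_succ_of_ne_zero hm.ne'
  calc q * ((a + 1) ^ 2 * cc N) ≤ q * (q ^ ((a + 1 - 1) * (b + 1)) * q ^ (b + 1 - 1)) :=
        Nat.mul_le_mul_left _ (Nat.mul_le_mul h2 h1)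
    _ = q ^ (a.succ * b.succ) := by
        rw [Nat.add_sub_cancel, Nat.add_sub_cancel, ← pow_add, ← pow_succ']
        congr 1
        simp only [Nat.succ_eq_add_one]
        ring

/-- `(α)` -/
theorem alpha (p D m N : ℕ) (hp : 101 ≤ p) (hD : 0 < D) (hm : 0 < m) (hN : 0 < N)
    (hNm : N ≤ m ^ 2) (h2 : 2 ≤ D * m) : p ^ 2 * (D ^ 2 * cc N) ≤ 105 * p ^ (D * m) := by
  have hD2 := sq_le_four_pow D hD
  rcases Nat.lt_or_ge m 2 with hm2 | hm2
  · have hm1 : m = 1 := by omega
    subst hm1
    have hN1 : N = 1 := by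
      rw [one_pow] at hNm
      omega
    subst hN1
    have hc : cc 1 = 1 := by simp [cc]
    rw [hc, mul_one, mul_one]
    rw [mul_one] at h2
    obtain ⟨a, rfl⟩ := Nat.exists_eq_add_of_le h2
    have h3 : (2 + a) ^ 2 ≤ 4 * p ^ a := by
      refine le_trans hD2 ?_
      have h4 : 2 + a - 1 = a + 1 := by omega
      rw [h4, pow_succ, mul_comm]
      exact Nat.mul_le_mul_left _ (Nat.pow_le_pow_left (by omega) _)
    calc p ^ 2 * (2 + a) ^ 2 ≤ p ^ 2 * (4 * p ^ a) := Nat.mul_le_mul_left _ h3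
      _ = 4 * p ^ (2 + a) := by rw [pow_add]; ring
      _ ≤ 105 * p ^ (2 + a) := Nat.mul_le_mul_right _ (by norm_num)
  · have h1 : cc N ≤ 105 * p ^ (m - 2) := by
      refine le_trans (cc_mono hN hNm) (le_trans (cc_B m hm2) ?_)
      exact Nat.mul_le_mul_left _ (Nat.pow_le_pow_left (by omega) _)
    have h3 : D ^ 2 ≤ p ^ ((D - 1) * m) := by
      refine le_trans hD2 ?_
      calc 4 ^ (D - 1) ≤ p ^ (D - 1) := Nat.pow_le_pow_left (by omega) _
        _ ≤ p ^ ((D - 1) * m) := Nat.pow_le_pow_right (by omega) (Nat.le_mul_of_pos_right _ hm)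
    obtain ⟨a, rfl⟩ := Nat.exists_eq_succ_of_ne_zero hD.ne'
    obtain ⟨b, rfl⟩ := Nat.exists_eq_add_of_le hm2
    calc p ^ 2 * (a.succ ^ 2 * cc N)
        ≤ p ^ 2 * (p ^ ((a.succ - 1) * (2 + b)) * (105 * p ^ (2 + b - 2))) :=
          Nat.mul_le_mul_left _ (Nat.mul_le_mul h3 h1)
      _ = 105 * p ^ (a.succ * (2 + b)) := by
          have h5 : a.succ - 1 = a := rfl
          have h6 : 2 + b - 2 = b := by omega
          have h7 : a.succ * (2 + b) = 2 + a * (2 + b) + b := by
            rw [Nat.succ_eq_add_one]; ring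
          rw [h5, h6, h7, pow_add, pow_add]
          ring

/-- numerics of case (i) -/
theorem num_i (p D m N k x y : ℕ) (hp : 101 ≤ p) (hD : 0 < D) (hm : 0 < m) (hN : 0 < N)
    (hk : 0 < k) (hNm : N ≤ m ^ 2) (h2 : 2 ≤ D * m * k)
    (h : p ^ (D * m * k) ≤ x * y * (9 ^ (k - 1) * (D ^ 2) ^ k * cc N ^ k)) :
    4 * p ^ 2 ≤ 105 * (x + y) ^ 2 := by
  have hxy : 4 * (x * y) ≤ (x + y) ^ 2 := by
    have : (4 * (x * y) : ℤ) ≤ (x + y) ^ 2 := by nlinarith [sq_nonneg ((x : ℤ) - y)]
    exact_mod_cast this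
  suffices hs : p ^ 2 ≤ 105 * (x * y) by
    calc 4 * p ^ 2 ≤ 4 * (105 * (x * y)) := Nat.mul_le_mul_left _ hs
      _ = 105 * (4 * (x * y)) := by ring
      _ ≤ 105 * (x + y) ^ 2 := Nat.mul_le_mul_left _ hxy
  set P := p ^ (D * m) with hP
  set Y := D ^ 2 * cc N with hY
  have hYpos : 0 < Y := by
    rw [hY, cc]
    positivity
  have h' : P ^ k ≤ x * y * (9 ^ (k - 1) * Y ^ k) := by
    rw [hP, ← pow_mul, hY, mul_pow, ← mul_assoc (9 ^ (k - 1))]
    exact h
  rcases Nat.lt_or_ge k 2 with hk2 | hk2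
  · have hk1 : k = 1 := by omega
    subst hk1
    simp only [pow_one, Nat.sub_self, pow_zero, one_mul, mul_one] at h' h2
    have h3 := alpha p D m N hp hD hm hN hNm h2
    have h4 : p ^ 2 * Y ≤ 105 * (x * y) * Y := by
      calc p ^ 2 * Y ≤ 105 * P := h3
        _ ≤ 105 * (x * y * Y) := Nat.mul_le_mul_left _ h'
        _ = _ := by ring
    exact Nat.le_of_mul_le_mul_right h4 hYpos
  · -- `101 p Y ≤ 105 P`
    have hb : 101 * (p * Y) ≤ 105 * P := by
      rcases Nat.lt_or_ge (D * m) 2 with h4 | h4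
      · have hD1 : D = 1 := by nlinarith
        have hm1 : m = 1 := by nlinarith
        subst hD1
        subst hm1
        have hN1 : N = 1 := by
          rw [one_pow] at hNm
          omega
        subst hN1
        have hc : cc 1 = 1 := by simp [cc]
        rw [hP, hY, hc]
        norm_num
        omega
      · have h3 := alpha p D m N hp hD hm hN hNm h4
        calc 101 * (p * Y) ≤ p * (p * Y) := Nat.mul_le_mul_right _ hp
          _ = p ^ 2 * Y := by ring
          _ ≤ 105 * P := h3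
    have h9 : 9 * Y ≤ P := by nlinarith
    obtain ⟨l, rfl⟩ := Nat.exists_eq_add_of_le hk2
    have h5 : P ^ 2 * (9 ^ l * Y ^ l) ≤ (x * y * 9 * Y ^ 2) * (9 ^ l * Y ^ l) := by
      calc P ^ 2 * (9 ^ l * Y ^ l) = P ^ 2 * (9 * Y) ^ l := by rw [mul_pow 9 Y]
        _ ≤ P ^ 2 * P ^ l := Nat.mul_le_mul_left _ (Nat.pow_le_pow_left h9 _)
        _ = P ^ (2 + l) := by rw [pow_add]
        _ ≤ x * y * (9 ^ (2 + l - 1) * Y ^ (2 + l)) := h'
        _ = _ := by
          have h6 : 2 + l - 1 = l + 1 := by omega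
          rw [h6, pow_succ, pow_add]
          ring
    have h6 : P ^ 2 ≤ x * y * 9 * Y ^ 2 := Nat.le_of_mul_le_mul_right h5 (by positivity)
    have h7 : (101 * (p * Y)) ^ 2 ≤ (105 * P) ^ 2 := Nat.pow_le_pow_left hb 2
    have h8 : p ^ 2 * (10201 * Y ^ 2) ≤ (105 * (x * y)) * (10201 * Y ^ 2) := by
      calc p ^ 2 * (10201 * Y ^ 2) = (101 * (p * Y)) ^ 2 := by ring
        _ ≤ (105 * P) ^ 2 := h7
        _ = 11025 * P ^ 2 := by ring
        _ ≤ 11025 * (x * y * 9 * Y ^ 2) := Nat.mul_le_mul_left _ h6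
        _ = (99225 * (x * y)) * Y ^ 2 := by ring
        _ ≤ (105 * 10201 * (x * y)) * Y ^ 2 :=
          Nat.mul_le_mul_right _ (Nat.mul_le_mul_right _ (by norm_num))
        _ = _ := by ring
    exact Nat.le_of_mul_le_mul_right h8 (by positivity)

theorem four_mul_le (x y : ℕ) : 4 * (x * y) ≤ (x + y) ^ 2 := by
  have : (4 * (x * y) : ℤ) ≤ (x + y) ^ 2 := by nlinarith [sq_nonneg ((x : ℤ) - y)]
  exact_mod_cast this

theorem aux_k (q l : ℕ) (hq : 102 ≤ q) : (2 + l) ^ 2 * 9 ^ l ≤ 4 * q ^ l := by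
  induction l with
  | zero => norm_num
  | succ l ih =>
    calc (2 + (l + 1)) ^ 2 * 9 ^ (l + 1) = ((3 + l) ^ 2 * 9) * 9 ^ l := by rw [pow_succ 9]; ring
      _ ≤ (102 * (2 + l) ^ 2) * 9 ^ l :=
        Nat.mul_le_mul_right _ (by nlinarith [Nat.zero_le (l ^ 2), Nat.zero_le l])
      _ = 102 * ((2 + l) ^ 2 * 9 ^ l) := by ring
      _ ≤ q * (4 * q ^ l) := Nat.mul_le_mul hq ih
      _ = 4 * q ^ (l + 1) := by rw [pow_succ]; ring

/-- numerics of case (ii), at least two blocks -/
theorem num_ii_two (q k j d0 x y : ℕ) (hq : 102 ≤ q) (hk : 2 ≤ k) (hj : j ≤ k * d0)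
    (h : q ^ k ≤ x * y * (j ^ 2 * 9 ^ (k - 1))) : q ≤ 3 * d0 * (x + y) := by
  obtain ⟨l, rfl⟩ := Nat.exists_eq_add_of_le hk
  have h1 := four_mul_le x y
  have h2 := aux_k q l hq
  have h3 : q ^ 2 * (4 * q ^ l) ≤ (3 * d0 * (x + y)) ^ 2 * (4 * q ^ l) := by
    calc q ^ 2 * (4 * q ^ l) = 4 * q ^ (2 + l) := by rw [pow_add]; ring
      _ ≤ 4 * (x * y * (j ^ 2 * 9 ^ (2 + l - 1))) := Nat.mul_le_mul_left _ h
      _ ≤ 4 * (x * y * (((2 + l) * d0) ^ 2 * 9 ^ (2 + l - 1))) :=
        Nat.mul_le_mul_left _ (Nat.mul_le_mul_left _ (Nat.mul_le_mul_right _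
          (Nat.pow_le_pow_left hj 2)))
      _ = (4 * (x * y)) * (9 * d0 ^ 2 * ((2 + l) ^ 2 * 9 ^ l)) := by
        have h6 : 2 + l - 1 = l + 1 := by omega
        rw [h6, pow_succ]
        ring
      _ ≤ (x + y) ^ 2 * (9 * d0 ^ 2 * (4 * q ^ l)) :=
        Nat.mul_le_mul h1 (Nat.mul_le_mul_left _ h2)
      _ = _ := by ring
  have h4 : q ^ 2 ≤ (3 * d0 * (x + y)) ^ 2 := Nat.le_of_mul_le_mul_right h3 (by positivity)
  exact (Nat.pow_le_pow_iff_left (by norm_num)).1 h4

theorem aux_j (T j : ℕ) (hT : 3 ≤ T) (hj : T ≤ j) : 2 ^ T * j ^ 2 ≤ 2 ^ j * T ^ 2 := by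
  induction j, hj using Nat.le_induction with
  | base => exact le_rfl
  | succ j hj ih =>
    calc 2 ^ T * (j + 1) ^ 2 ≤ 2 ^ T * (2 * j ^ 2) := Nat.mul_le_mul_left _ (by nlinarith)
      _ = 2 * (2 ^ T * j ^ 2) := by ring
      _ ≤ 2 * (2 ^ j * T ^ 2) := Nat.mul_le_mul_left _ ih
      _ = 2 ^ (j + 1) * T ^ 2 := by rw [pow_succ]; ring

/-- numerics of case (ii), one block -/
theorem num_ii_one (p q j s x y : ℕ) (hs : 6 ≤ s) (hps : p < 2 ^ (s + 1)) (hj : 3 * s + 1 ≤ j)
    (hq : 2 ^ j ≤ q) (h : q ≤ x * y * j ^ 2) : p ≤ 3 * s * (x + y) := by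
  have h1 := four_mul_le x y
  have h2 := aux_j (3 * s + 1) j (by omega) hj
  have hjpos : 0 < j := by omega
  have h3 : (4 * 2 ^ (3 * s + 1)) * j ^ 2 ≤ ((x + y) ^ 2 * (3 * s + 1) ^ 2) * j ^ 2 := by
    calc (4 * 2 ^ (3 * s + 1)) * j ^ 2 = 4 * (2 ^ (3 * s + 1) * j ^ 2) := by ring
      _ ≤ 4 * (2 ^ j * (3 * s + 1) ^ 2) := Nat.mul_le_mul_left _ h2
      _ ≤ 4 * ((x * y * j ^ 2) * (3 * s + 1) ^ 2) :=
        Nat.mul_le_mul_left _ (Nat.mul_le_mul_right _ (le_trans hq h))
      _ = (4 * (x * y)) * (j ^ 2 * (3 * s + 1) ^ 2) := by ring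
      _ ≤ (x + y) ^ 2 * (j ^ 2 * (3 * s + 1) ^ 2) := Nat.mul_le_mul_right _ h1
      _ = _ := by ring
  have h4 : 4 * 2 ^ (3 * s + 1) ≤ (x + y) ^ 2 * (3 * s + 1) ^ 2 :=
    Nat.le_of_mul_le_mul_right h3 (by positivity)
  have h5 : 36 * (3 * s + 1) ^ 2 ≤ 361 * s ^ 2 := by nlinarith
  have h6 : 361 * p ^ 2 ≤ 361 * (3 * s * (x + y)) ^ 2 := by
    have h7 : p ^ 2 ≤ (2 ^ (s + 1)) ^ 2 := Nat.pow_le_pow_left hps.le 2
    have h8 : (2 ^ (s + 1)) ^ 2 = 4 * 4 ^ s := by
      rw [← pow_mul, show (s + 1) * 2 = 2 + 2 * s by ring, pow_add, pow_mul]; norm_num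
    have h9 : 4 * 2 ^ (3 * s + 1) = 8 * 8 ^ s := by
      rw [pow_succ, pow_mul]; norm_num; ring
    have h10 : 4 ^ s ≤ 8 ^ s := Nat.pow_le_pow_left (by norm_num) s
    calc 361 * p ^ 2 ≤ 361 * (4 * 8 ^ s) := by
          refine Nat.mul_le_mul_left _ (le_trans h7 ?_)
          rw [h8]
          exact Nat.mul_le_mul_left _ h10
      _ ≤ 9 * (36 * (8 * 8 ^ s)) := by nlinarith [Nat.zero_le (8 ^ s)]
      _ ≤ 9 * (36 * ((x + y) ^ 2 * (3 * s + 1) ^ 2)) := by
          rw [← h9]
          exact Nat.mul_le_mul_left _ (Nat.mul_le_mul_left _ h4)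
      _ = 9 * ((x + y) ^ 2 * (36 * (3 * s + 1) ^ 2)) := by ring
      _ ≤ 9 * ((x + y) ^ 2 * (361 * s ^ 2)) :=
          Nat.mul_le_mul_left _ (Nat.mul_le_mul_left _ h5)
      _ = _ := by ring
  have h7 : p ^ 2 ≤ (3 * s * (x + y)) ^ 2 := Nat.le_of_mul_le_mul_left h6 (by norm_num)
  exact (Nat.pow_le_pow_iff_left (by norm_num)).1 h7

/-- the bound -/
noncomputable def Bd (p : ℕ) : ℝ := (p : ℝ) / (3 * Real.logb 2 p)

theorem logb_pos {p : ℕ} (hp : 2 ≤ p) : 0 < Real.logb 2 p :=
  Real.logb_pos (by norm_num) (by exact_mod_cast hp)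

theorem Bd_le_iff {p : ℕ} (hp : 2 ≤ p) (n : ℝ) : Bd p ≤ n ↔ (p : ℝ) ≤ n * (3 * Real.logb 2 p) := by
  rw [Bd, div_le_iff₀ (mul_pos (by norm_num) (logb_pos hp))]

theorem le_logb {p s : ℕ} (hp : 2 ≤ p) (h : 2 ^ s ≤ p) : (s : ℝ) ≤ Real.logb 2 p := by
  rw [Real.le_logb_iff_rpow_le (by norm_num) (by positivity), Real.rpow_natCast]
  exact_mod_cast h

theorem Bd_le_of_log {p s n : ℕ} (hp : 2 ≤ p) (hs : 2 ^ s ≤ p) (h : p ≤ 3 * s * n) :
    Bd p ≤ n := by
  rw [Bd_le_iff hp]
  have h1 := le_logb hp hs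
  have h2 : (p : ℝ) ≤ 3 * s * n := by exact_mod_cast h
  have h3 : (0 : ℝ) ≤ n := Nat.cast_nonneg n
  nlinarith

theorem Bd_le_pow {p n : ℕ} (hp : 2 ≤ p) (h : 2 ^ p ≤ p ^ (3 * n)) : Bd p ≤ n := by
  rw [Bd_le_iff hp]
  have h1 : (p : ℝ) ≤ Real.logb 2 ((p : ℝ) ^ (3 * n)) := by
    rw [Real.le_logb_iff_rpow_le (by norm_num) (by positivity), Real.rpow_natCast]
    exact_mod_cast h
  rw [Real.logb_pow] at h1
  push_cast at h1
  linarith

theorem Bd_le_self {p : ℕ} (hp : 2 ≤ p) : Bd p ≤ p := by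
  rw [Bd_le_iff hp]
  have h1 : (1 : ℝ) ≤ Real.logb 2 p := by
    have := le_logb (s := 1) hp (by simpa using hp)
    simpa using this
  have h2 : (0 : ℝ) ≤ p := Nat.cast_nonneg p
  nlinarith

/-- monotonicity -/
theorem Bd_mono {p q : ℕ} (hp : 3 ≤ p) (hpq : p ≤ q) : Bd p ≤ Bd q := by
  have hp' : (3 : ℝ) ≤ p := by exact_mod_cast hp
  have hpq' : (p : ℝ) ≤ q := by exact_mod_cast hpq
  have he : Real.exp 1 ≤ 3 := by
    have := Real.exp_one_lt_d9
    linarith
  have h1 := Real.log_div_self_antitoneOn (a := (p : ℝ)) (by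
    show Real.exp 1 ≤ p; linarith) (b := (q : ℝ)) (by
    show Real.exp 1 ≤ q; linarith) hpq'
  have hlp : 0 < Real.log p := Real.log_pos (by linarith)
  have hlq : 0 < Real.log q := Real.log_pos (by linarith)
  have hl2 : 0 < Real.log 2 := Real.log_pos (by norm_num)
  have h2 : (p : ℝ) / Real.log p ≤ (q : ℝ) / Real.log q := by
    rw [div_le_div_iff₀ hlp hlq]
    rw [div_le_div_iff₀ (by linarith) (by linarith)] at h1
    linarith
  have h3 : ∀ x : ℝ, x / (3 * Real.logb 2 x) = (x / Real.log x) * (Real.log 2 / 3) := by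
    intro x
    rw [Real.logb]
    field_simp
  rw [Bd, Bd, h3, h3]
  exact mul_le_mul_of_nonneg_right h2 (by positivity)

theorem Bd_le_of_q {p q d0 n : ℕ} (hp : 3 ≤ p) (hpq : p ≤ q) (hq : 2 ^ d0 ≤ q)
    (h : q ≤ 3 * d0 * n) : Bd p ≤ n := by
  refine le_trans (Bd_mono hp hpq) ?_
  exact Bd_le_of_log (by omega) hq h

theorem Bd_le_one {p : ℕ} (hp : 2 ≤ p) (hp9 : p ≤ 9) : Bd p ≤ 1 := by
  have : Bd p ≤ ((1 : ℕ) : ℝ) := by
    apply Bd_le_pow hp
    interval_cases p <;> norm_num
  simpa using this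

theorem Bd_le_five {p : ℕ} (hp : 2 ≤ p) (hp9 : p ≤ 99) : Bd p ≤ 5 := by
  have : Bd p ≤ ((5 : ℕ) : ℝ) := by
    apply Bd_le_pow hp
    interval_cases p <;> norm_num
  simpa using this

/-- end of case (i) -/
theorem Bd_le_of_sq {p n : ℕ} (hp : 101 ≤ p) (hn : 0 < n) (h : 4 * p ^ 2 ≤ 105 * n ^ 2) :
    Bd p ≤ ((n - 1 : ℕ) : ℝ) := by
  apply Bd_le_of_log (s := 6) (by omega) (by omega)
  by_contra hcon
  push Not at hcon
  have h1 : 9 * n < p := by omega
  nlinarith

end Cfsg.Agent.H674.KM
end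

-- part: H674/KM/Main
section
/-!
# `k(G) ≥ p / (3 log₂ p)` for solvable `G` with `p ∣ |G : F(G)|`
-/

set_option autoImplicit false

namespace Cfsg.Agent.H674.KM

open Module

universe u

/-- **case (i)**: a minimal normal `p`-subgroup of order `≥ p ^ 2` -/
theorem case_i {Q : Type u} [Group Q] [Finite Q] (hsol : Group.IsSolvable Q) {p : ℕ}
    (hp : p.Prime) (hp101 : 101 ≤ p) (Z : Subgroup Q) [hZn : Z.Normal]
    (hab : ∀ a ∈ Z, ∀ b ∈ Z, a * b = b * a) (hexp : ∀ a ∈ Z, a ^ p = 1) (hne : Z ≠ ⊥)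
    (hmin : ∀ N : Subgroup Q, N.Normal → N ≤ Z → N = ⊥ ∨ N = Z) (hcard : Nat.card Z ≠ p) :
    Bd p ≤ Nat.card (ConjClasses Q) := by
  have : Fact p.Prime := ⟨hp⟩
  obtain ⟨E, _, _, _, _, e, ρ, hinj, hirr, -, -⟩ := exists_act p Z hab hexp hne hmin
  have hCn : (Subgroup.centralizer (Z : Set Q)).Normal := Subgroup.normal_centralizer
  let J := Q ⧸ Subgroup.centralizer (Z : Set Q)
  have hsolJ : Group.IsSolvable J :=
    Group.isSolvable_of_surjective (f := QuotientGroup.mk' (Subgroup.centralizer (Z : Set Q)))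
      (QuotientGroup.mk'_surjective _)
  obtain ⟨f, hf⟩ := exists_isMin ρ
  obtain ⟨A, N1, N, d0, δ, m, hAn, hN1n, hAN, -, hcomm, hN, hd0, hδ, hm, hcV, hidx, hNm, hN1, -⟩ :=
    engine hsolJ hinj hirr hf ⊥ inferInstance (by
      intro a ha b hb
      rw [Subgroup.mem_bot.1 ha, Subgroup.mem_bot.1 hb]) bot_le
  set k := (St ρ f).index with hk
  have hkpos : 0 < k := Nat.pos_of_ne_zero Subgroup.FiniteIndex.index_ne_zero
  rw [Nat.card_zmod] at hcV
  have hcZ : Nat.card E = Nat.card Z := Nat.card_congr e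
  rw [hcZ] at hcV
  -- counting
  have hx : Nat.card Z ≤ ncl Z * Nat.card J := by
    refine card_le_ncl_mul Z (Subgroup.centralizer (Z : Set Q)) ?_
    intro a ha b hb
    exact Subgroup.mem_centralizer_iff.1 hb a ha
  have hy : Nat.card A ≤ ncl A * N1.index := card_le_ncl_mul A N1 hcomm
  have hJ : Nat.card N1 * N1.index = Nat.card J := Subgroup.card_mul_index N1
  have hN1c : Nat.card A * A.relIndex N1 = Nat.card N1 := card_mul_relIndex hAN
  have hcount : ncl Z + Nat.card (ConjClasses J) ≤ Nat.card (ConjClasses Q) + 1 := by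
    refine ncl_add_le (QuotientGroup.mk' (Subgroup.centralizer (Z : Set Q)))
      (QuotientGroup.mk'_surjective _) Z ?_
    rw [QuotientGroup.ker_mk']
    intro z hz
    rw [Subgroup.mem_centralizer_iff]
    intro y hy
    exact hab y hy z hz
  have hA : ncl A ≤ Nat.card (ConjClasses J) := ncl_le A
  have hApos : 0 < Nat.card A := Nat.card_pos
  have hkey : p ^ (d0 * δ * m * k) ≤
      ncl Z * ncl A * (9 ^ (k - 1) * ((d0 * δ) ^ 2) ^ k * cc N ^ k) := by
    rw [← hcV]
    have h1 : N1.index * N1.index ≤ 9 ^ (k - 1) * ((d0 * δ) ^ 2) ^ k := by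
      refine le_trans (Nat.mul_le_mul hN1 hN1) (le_of_eq ?_)
      have h9 : (9 : ℕ) ^ (k - 1) = 3 ^ (k - 1) * 3 ^ (k - 1) := by
              rw [← mul_pow]; norm_num
      rw [h9, ← pow_mul, mul_comm 2 k, pow_mul, sq]
      ring
    calc Nat.card Z ≤ ncl Z * (Nat.card N1 * N1.index) := by rw [hJ]; exact hx
      _ = ncl Z * (Nat.card A * A.relIndex N1 * N1.index) := by rw [hN1c]
      _ ≤ ncl Z * (ncl A * N1.index * A.relIndex N1 * N1.index) :=
        Nat.mul_le_mul_left _ (Nat.mul_le_mul_right _ (Nat.mul_le_mul_right _ hy))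
      _ = ncl Z * ncl A * ((N1.index * N1.index) * A.relIndex N1) := by ring
      _ ≤ _ := Nat.mul_le_mul_left _ (Nat.mul_le_mul h1 hidx)
  have h2 : 2 ≤ d0 * δ * m * k := by
    have hpos : 0 < d0 * δ * m * k := by positivity
    by_contra hcon
    have h1 : d0 * δ * m * k = 1 := by omega
    rw [h1, pow_one] at hcV
    exact hcard hcV
  have hfin := num_i p (d0 * δ) m N k (ncl Z) (ncl A) hp101 (by positivity) hm hN hkpos hNm h2 hkey
  have hZ2 := two_le_ncl Z hne
  refine le_trans (Bd_le_of_sq hp101 (by omega) hfin) ?_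
  have : ncl Z + ncl A - 1 ≤ Nat.card (ConjClasses Q) := by omega
  exact_mod_cast this

/-- **case (ii)**: a normal subgroup of order `p` -/
theorem case_ii {G : Type u} [Group G] [Finite G] (hsol : Group.IsSolvable G) {p r : ℕ}
    (hp : p.Prime) (hr : r.Prime) (hp101 : 101 ≤ p) (V : Subgroup G) [hVn : V.Normal]
    (hab : ∀ a ∈ V, ∀ b ∈ V, a * b = b * a) (hexp : ∀ a ∈ V, a ^ r = 1) (hne : V ≠ ⊥)
    (hmin : ∀ N : Subgroup G, N.Normal → N ≤ V → N = ⊥ ∨ N = V)
    (Z : Subgroup (G ⧸ Subgroup.centralizer (V : Set G))) (hZn : Z.Normal)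
    (hZ : Nat.card Z = p) :
    Bd p ≤ Nat.card (ConjClasses G) := by
  have : Fact r.Prime := ⟨hr⟩
  have : Fact p.Prime := ⟨hp⟩
  obtain ⟨E, _, _, _, _, e, ρ, hinj, hirr, hadd, hρ⟩ := exists_act r V hab hexp hne hmin
  have hCn : (Subgroup.centralizer (V : Set G)).Normal := Subgroup.normal_centralizer
  set Q := G ⧸ Subgroup.centralizer (V : Set G) with hQdef
  have hsolQ : Group.IsSolvable Q :=
    Group.isSolvable_of_surjective (f := QuotientGroup.mk' (Subgroup.centralizer (V : Set G)))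
      (QuotientGroup.mk'_surjective _)
  have hZab : ∀ a ∈ Z, ∀ b ∈ Z, a * b = b * a := by
    intro a ha b hb
    have hcyc : IsCyclic Z := isCyclic_of_prime_card hZ
    have := hcyc.commGroup.mul_comm ⟨a, ha⟩ ⟨b, hb⟩
    exact congrArg Subtype.val this
  obtain ⟨f, hf⟩ := exists_isMin ρ
  have hkG : Nat.card (ConjClasses Q) ≤ Nat.card (ConjClasses G) :=
    classes_le_of_surj (QuotientGroup.mk' _) (QuotientGroup.mk'_surjective _)
  have hk1 : ncl V + Nat.card (ConjClasses Q) ≤ Nat.card (ConjClasses G) + 1 := by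
    refine ncl_add_le (QuotientGroup.mk' (Subgroup.centralizer (V : Set G)))
      (QuotientGroup.mk'_surjective _) V ?_
    rw [QuotientGroup.ker_mk']
    intro z hz
    rw [Subgroup.mem_centralizer_iff]
    intro y hy
    exact hab y hy z hz
  have hkpos : 0 < (St ρ f).index := Nat.pos_of_ne_zero Subgroup.FiniteIndex.index_ne_zero
  -- the number of blocks bounds the number of classes
  have hwt : (St ρ f).index + 1 ≤ ncl V := by
    apply ncl_ge_of_invariant V (fun v => IsBlk.wt ρ f (e.symm v))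
    · intro a b hab'
      obtain ⟨g, hg⟩ := isConj_iff.1 hab'
      have h1 : b = e (ρ (QuotientGroup.mk g) (e.symm a)) := by
        apply Subtype.ext
        rw [hρ, Equiv.apply_symm_apply, hg]
      show IsBlk.wt ρ f (e.symm a) = IsBlk.wt ρ f (e.symm b)
      rw [h1, Equiv.symm_apply_apply, IsBlk.wt_rho]
    · intro i hi
      obtain ⟨v, hv⟩ := hf.toIsBlk.exists_wt i hi
      exact ⟨e v, by simpa using hv⟩
  have hp2 : 2 ≤ p := hp.two_le
  by_cases hZS : Z ≤ St ρ f
  swap
  · -- `Z` moves a block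
    have h1 : (St ρ f).relIndex Z = p := by
      have h2 : (St ρ f).relIndex Z ∣ Nat.card Z := Subgroup.relIndex_dvd_card _ _
      rw [hZ] at h2
      rcases (Nat.dvd_prime hp).1 h2 with h3 | h3
      · exact absurd (Subgroup.relIndex_eq_one.1 h3) hZS
      · exact h3
    have h2 : (St ρ f).relIndex Z ≤ (St ρ f).relIndex ⊤ :=
      Subgroup.relIndex_le_of_le_right le_top Subgroup.FiniteIndex.index_ne_zero
    rw [h1, Subgroup.relIndex_top_right] at h2
    refine le_trans (Bd_le_self hp2) ?_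
    have h3 : p ≤ Nat.card (ConjClasses G) := by
      have := classes_pos (G := Q)
      omega
    exact_mod_cast h3
  obtain ⟨A, N1, N, d0, δ, m, hAn, hN1n, hAN, hZA, hcomm, hN, hd0, hδ, hm, hcV, hidx, hNm, hN1,
    hprime⟩ := engine hsolQ hinj hirr hf Z hZn hZab hZS
  obtain ⟨hdvd, hj, hN1r⟩ := hprime (by rw [hZ]; exact hp)
  set k := (St ρ f).index with hk
  rw [Nat.card_zmod] at hcV hdvd
  rw [hZ] at hdvd
  set q := r ^ d0 with hq
  have hq1 : 1 < q := Nat.one_lt_pow hd0.ne' hr.one_lt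
  have hpq : p + 1 ≤ q := by
    have := Nat.le_of_dvd (by omega) hdvd
    omega
  have hq102 : 102 ≤ q := by omega
  have h2q : 2 ^ d0 ≤ q := Nat.pow_le_pow_left hr.two_le _
  set CZ := Subgroup.centralizer (Z : Set Q) with hCZ
  have hCZn : CZ.Normal := Subgroup.normal_centralizer
  set j := CZ.index with hjdef
  have hACZ : A ≤ CZ := by
    intro a ha
    rw [hCZ, Subgroup.mem_centralizer_iff]
    intro z hz
    exact hcomm z (hZA hz) a (hAN ha)
  have hN1CZ : N1 ≤ CZ := by
    intro a ha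
    rw [hCZ, Subgroup.mem_centralizer_iff]
    intro z hz
    exact hcomm z (hZA hz) a ha
  have hclZ : p ≤ ncl Z * j := by
    have h1 := card_le_ncl_mul Z CZ (by
      intro a ha b hb
      exact Subgroup.mem_centralizer_iff.1 hb a ha)
    rwa [hZ] at h1
  have hnclZ : ncl Z ≤ Nat.card (ConjClasses G) := le_trans (ncl_le Z) hkG
  rcases Nat.lt_or_ge j 2 with hj2 | hj2
  · -- `Z` is central
    have h1 : p ≤ ncl Z := by
      calc p ≤ ncl Z * j := hclZ
        _ ≤ ncl Z * 1 := Nat.mul_le_mul_left _ (by omega)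
        _ = ncl Z := mul_one _
    refine le_trans (Bd_le_self hp2) ?_
    exact_mod_cast le_trans h1 hnclZ
  -- classes outside `CZ`
  have hk2 : ncl A + 1 ≤ Nat.card (ConjClasses Q) := by
    have h1 := ncl_add_le (QuotientGroup.mk' CZ) (QuotientGroup.mk'_surjective _) A (by
      rw [QuotientGroup.ker_mk']
      exact hACZ)
    have h2 : 2 ≤ Nat.card (ConjClasses (Q ⧸ CZ)) := by
      have h3 : (⊤ : Subgroup (Q ⧸ CZ)) ≠ ⊥ := by
        intro h
        have h4 : Nat.card (Q ⧸ CZ) = 1 := by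
          rw [← Subgroup.card_top, h, Subgroup.card_bot]
        have h5 : j = 1 := h4
        omega
      exact le_trans (two_le_ncl _ h3) (ncl_le _)
    omega
  have hsum : ncl V + ncl A ≤ Nat.card (ConjClasses G) := by omega
  -- counting
  have hx : Nat.card V ≤ ncl V * Nat.card Q := by
    refine card_le_ncl_mul V (Subgroup.centralizer (V : Set G)) ?_
    intro a ha b hb
    exact Subgroup.mem_centralizer_iff.1 hb a ha
  have hy : Nat.card A ≤ ncl A * N1.index := card_le_ncl_mul A N1 hcomm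
  have hJ : Nat.card N1 * N1.index = Nat.card Q := Subgroup.card_mul_index N1
  have hN1c : Nat.card A * A.relIndex N1 = Nat.card N1 := card_mul_relIndex hAN
  have hcE : Nat.card E = Nat.card V := Nat.card_congr e
  have hh : N1.index ≤ j * (3 ^ (k - 1) * δ ^ k) := by
    rw [← Subgroup.relIndex_mul_index hN1CZ, mul_comm]
    exact Nat.mul_le_mul_left _ hN1r
  have hkey : q ^ k ≤ ncl V * ncl A * (j ^ 2 * 9 ^ (k - 1)) := by
    have hYpos : 0 < δ ^ 2 * cc N := by
      rw [cc]; positivity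
    have hg := gamma q δ m N hq102 hδ hm hN hNm
    have h1 : q ^ k * (δ ^ 2 * cc N) ^ k ≤
        (ncl V * ncl A * (j ^ 2 * 9 ^ (k - 1))) * (δ ^ 2 * cc N) ^ k := by
      calc q ^ k * (δ ^ 2 * cc N) ^ k = (q * (δ ^ 2 * cc N)) ^ k := by rw [mul_pow q]
        _ ≤ (q ^ (δ * m)) ^ k := Nat.pow_le_pow_left hg _
        _ = Nat.card V := by
          rw [← hcE, hcV, hq, ← pow_mul, ← pow_mul]
          congr 1
          ring
        _ ≤ ncl V * (Nat.card N1 * N1.index) := by rw [hJ]; exact hx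
        _ = ncl V * (Nat.card A * A.relIndex N1 * N1.index) := by rw [hN1c]
        _ ≤ ncl V * (ncl A * N1.index * A.relIndex N1 * N1.index) :=
          Nat.mul_le_mul_left _ (Nat.mul_le_mul_right _ (Nat.mul_le_mul_right _ hy))
        _ = ncl V * ncl A * ((N1.index * N1.index) * A.relIndex N1) := by ring
        _ ≤ ncl V * ncl A * (((j * (3 ^ (k - 1) * δ ^ k)) * (j * (3 ^ (k - 1) * δ ^ k))) *
            cc N ^ k) :=
          Nat.mul_le_mul_left _ (Nat.mul_le_mul (Nat.mul_le_mul hh hh) hidx)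
        _ = _ := by
          have h9 : (9 : ℕ) ^ (k - 1) = 3 ^ (k - 1) * 3 ^ (k - 1) := by
              rw [← mul_pow]; norm_num
          rw [h9, mul_pow (δ ^ 2), ← pow_mul, mul_comm 2 k, pow_mul δ k 2]
          ring
    exact Nat.le_of_mul_le_mul_right h1 (by positivity)
  rcases Nat.lt_or_ge k 2 with hk2' | hk2'
  · have hk1' : k = 1 := by omega
    rw [hk1'] at hkey hj
    simp only [pow_one, Nat.sub_self, pow_zero, mul_one, one_mul] at hkey hj
    by_cases hjl : (j : ℝ) ≤ 3 * Real.logb 2 p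
    · -- few conjugates
      have h1 : Bd p ≤ ncl Z := by
        rw [Bd_le_iff hp2]
        have h2 : (p : ℝ) ≤ ncl Z * j := by exact_mod_cast hclZ
        have h3 : (0 : ℝ) ≤ ncl Z := Nat.cast_nonneg _
        nlinarith
      refine le_trans h1 ?_
      exact_mod_cast hnclZ
    · push Not at hjl
      set s := Nat.log 2 p with hs
      have hs6 : 6 ≤ s := (Nat.le_log_iff_pow_le (by norm_num) (by omega)).2 (by norm_num; omega)
      have hps : p < 2 ^ (s + 1) := Nat.lt_pow_succ_log_self (by norm_num) p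
      have hsp : 2 ^ s ≤ p := Nat.pow_log_le_self 2 (by omega)
      have h1 := le_logb hp2 hsp
      have h2 : 3 * s + 1 ≤ j := by
        have h3 : ((3 * s : ℕ) : ℝ) < j := by
          push_cast
          linarith
        have h4 : 3 * s < j := by exact_mod_cast h3
        omega
      have h2j : 2 ^ j ≤ q := le_trans (Nat.pow_le_pow_right (by norm_num) hj) h2q
      have h3 := num_ii_one p q j s (ncl V) (ncl A) hs6 hps h2 h2j hkey
      refine le_trans (Bd_le_of_log hp2 hsp h3) ?_
      exact_mod_cast hsum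
  · have h1 := num_ii_two q k j d0 (ncl V) (ncl A) hq102 hk2' hj hkey
    refine le_trans (Bd_le_of_q (by omega) (by omega : p ≤ q) h2q h1) ?_
    exact_mod_cast hsum

/-- a nilpotent normal subgroup of order divisible by `p` gives a minimal normal `p`-subgroup -/
theorem exists_Z {Q : Type u} [Group Q] [Finite Q] (hsol : Group.IsSolvable Q) {p : ℕ}
    (hp : p.Prime) (hpF : p ∣ Nat.card (Cfsg.fittingSubgroup Q)) :
    ∃ Z : Subgroup Q, Z.Normal ∧ (∀ a ∈ Z, ∀ b ∈ Z, a * b = b * a) ∧ (∀ a ∈ Z, a ^ p = 1) ∧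
      Z ≠ ⊥ ∧ ∀ N : Subgroup Q, N.Normal → N ≤ Z → N = ⊥ ∨ N = Z := by
  have : Fact p.Prime := ⟨hp⟩
  have hFn : (Cfsg.fittingSubgroup Q).Normal := Lib.Cores.fittingSubgroup_normal
  have hFnil : Group.IsNilpotent (Cfsg.fittingSubgroup Q) := Lib.Cores.fittingSubgroup_isNilpotent
  obtain ⟨P⟩ : Nonempty (Sylow p (Cfsg.fittingSubgroup Q)) := inferInstance
  have hPn : (P : Subgroup (Cfsg.fittingSubgroup Q)).Normal :=
    ((Group.isNilpotent_of_finite_tfae (G := Cfsg.fittingSubgroup Q)).out 0 3 :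
      Group.IsNilpotent (Cfsg.fittingSubgroup Q) ↔ ∀ (p : ℕ) (_ : Fact p.Prime)
        (P : Sylow p (Cfsg.fittingSubgroup Q)),
          (P : Subgroup (Cfsg.fittingSubgroup Q)).Normal).1 hFnil p ‹_› P
  have hPc : (P : Subgroup (Cfsg.fittingSubgroup Q)).Characteristic :=
    Sylow.characteristic_of_normal P hPn
  let K : Subgroup Q := (P : Subgroup (Cfsg.fittingSubgroup Q)).map
    (Cfsg.fittingSubgroup Q).subtype
  have hKn : K.Normal := by
    have := ConjAct.normal_of_characteristic_of_normal (H := Cfsg.fittingSubgroup Q)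
      (K := (P : Subgroup (Cfsg.fittingSubgroup Q)))
    exact this
  have hKp : IsPGroup p K := P.2.map _
  have hK : K ≠ ⊥ := by
    intro h
    rw [Subgroup.map_eq_bot_iff_of_injective _ (Subgroup.subtype_injective _)] at h
    exact P.ne_bot_of_dvd_card hpF h
  obtain ⟨Z, hZn, hZ, hZK, hmin⟩ := exists_minimal K hKn hK
  obtain ⟨r, hr, hab, hexp⟩ := exists_prime_of_minimal hZn hZ hsol hmin
  have hZp : IsPGroup p Z := hKp.to_le hZK
  have hrp : r = p := by
    obtain ⟨z, hz1⟩ := Subgroup.ne_bot_iff_exists_ne_one.1 hZ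
    have h1 : orderOf z ∣ r := orderOf_dvd_of_pow_eq_one (Subtype.ext (hexp z z.2))
    obtain ⟨n, hn⟩ := IsPGroup.iff_orderOf.1 hZp z
    rcases (Nat.dvd_prime hr).1 h1 with h2 | h2
    · exact absurd (orderOf_eq_one_iff.1 h2) hz1
    · rw [h2] at hn
      exact (Nat.prime_dvd_prime_iff_eq hr hp).1 (hr.dvd_of_dvd_pow (by rw [← hn]))
  subst hrp
  exact ⟨Z, hZn, hab, hexp, hZ, hmin⟩

theorem main (n : ℕ) : ∀ (G : Type u) [Group G] [Finite G], Nat.card G = n →
    Group.IsSolvable G → ∀ p : ℕ, p.Prime → p ∣ (Cfsg.fittingSubgroup G).index →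
      Bd p ≤ Nat.card (ConjClasses G) := by
  induction n using Nat.strong_induction_on with
  | _ n ih =>
  intro G _ _ hn hsol p hp hpd
  -- `G` is non-trivial
  have hne : (⊤ : Subgroup G) ≠ ⊥ := by
    intro h
    have h1 : Cfsg.fittingSubgroup G = ⊤ := by
      rw [eq_top_iff, h]
      exact bot_le
    rw [h1, Subgroup.index_top] at hpd
    exact hp.one_lt.ne' (Nat.dvd_one.1 hpd)
  obtain ⟨V, hVn, hV, -, hmin⟩ := exists_minimal (⊤ : Subgroup G) inferInstance hne
  obtain ⟨r, hr, hab, hexp⟩ := exists_prime_of_minimal hVn hV hsol hmin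
  have hV1 : 1 < Nat.card V := by
    have h1 : Nat.card V ≠ 1 := by rw [Ne, Subgroup.card_eq_one]; exact hV
    have h2 : 0 < Nat.card V := Nat.card_pos
    omega
  have hquot : ∀ K : Subgroup G, V ≤ K → Nat.card (G ⧸ K) < n := by
    intro K hK
    have h1 : Nat.card K * K.index = Nat.card G := Subgroup.card_mul_index K
    have h2 : Nat.card V ≤ Nat.card K := Subgroup.card_le_of_le hK
    have h3 : 0 < K.index := Nat.pos_of_ne_zero Subgroup.FiniteIndex.index_ne_zero
    have h4 : Nat.card (G ⧸ K) = K.index := rfl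
    rw [h4, ← hn, ← h1]
    nlinarith
  by_cases hd1 : p ∣ (Cfsg.fittingSubgroup (G ⧸ V)).index
  · have h1 := ih _ (hquot V le_rfl) (G ⧸ V) rfl
      (Group.isSolvable_of_surjective (f := QuotientGroup.mk' V) (QuotientGroup.mk'_surjective V))
      p hp hd1
    refine le_trans h1 ?_
    exact_mod_cast classes_le_of_surj (QuotientGroup.mk' V) (QuotientGroup.mk'_surjective V)
  have hd2 : p ∣ (Subgroup.centralizer (V : Set G)).index := by
    by_contra hcon
    exact not_dvd_index_fitting hp V hd1 hcon hpd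
  have hCn : (Subgroup.centralizer (V : Set G)).Normal := Subgroup.normal_centralizer
  have hVC : V ≤ Subgroup.centralizer (V : Set G) := by
    intro z hz
    rw [Subgroup.mem_centralizer_iff]
    intro y hy
    exact hab y hy z hz
  have hsolQ : Group.IsSolvable (G ⧸ Subgroup.centralizer (V : Set G)) :=
    Group.isSolvable_of_surjective (f := QuotientGroup.mk' (Subgroup.centralizer (V : Set G)))
      (QuotientGroup.mk'_surjective _)
  have hkG : Nat.card (ConjClasses (G ⧸ Subgroup.centralizer (V : Set G))) ≤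
      Nat.card (ConjClasses G) :=
    classes_le_of_surj (QuotientGroup.mk' _) (QuotientGroup.mk'_surjective _)
  have hp2 := hp.two_le
  rcases Nat.lt_or_ge p 101 with hp101 | hp101
  · -- small primes
    rcases Nat.lt_or_ge p 10 with hp10 | hp10
    · refine le_trans (Bd_le_one hp2 (by omega)) ?_
      exact_mod_cast Nat.succ_le_of_lt classes_pos
    · have hp99 : p ≤ 99 := by
        by_contra hcon
        have h1 : p = 100 := by omega
        rw [h1] at hp
        exact absurd hp (by norm_num)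
      refine le_trans (Bd_le_five hp2 hp99) ?_
      have h1 : 6 < Nat.card (G ⧸ Subgroup.centralizer (V : Set G)) := by
        have h2 : 0 < Nat.card (G ⧸ Subgroup.centralizer (V : Set G)) := Nat.card_pos
        have h3 := Nat.le_of_dvd h2 hd2
        omega
      have h2 := four_le_classes h1
      have h3 := two_le_ncl V hV
      have h4 := ncl_add_le (QuotientGroup.mk' (Subgroup.centralizer (V : Set G)))
        (QuotientGroup.mk'_surjective _) V (by rw [QuotientGroup.ker_mk']; exact hVC)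
      have h5 : 5 ≤ Nat.card (ConjClasses G) := by omega
      exact_mod_cast h5
  by_cases hd3 : p ∣ (Cfsg.fittingSubgroup (G ⧸ Subgroup.centralizer (V : Set G))).index
  · have h1 := ih _ (hquot _ hVC) (G ⧸ Subgroup.centralizer (V : Set G)) rfl hsolQ p hp hd3
    refine le_trans h1 ?_
    exact_mod_cast hkG
  have hd4 : p ∣ Nat.card (Cfsg.fittingSubgroup (G ⧸ Subgroup.centralizer (V : Set G))) := by
    have h1 : Nat.card (Cfsg.fittingSubgroup (G ⧸ Subgroup.centralizer (V : Set G))) *
      (Cfsg.fittingSubgroup (G ⧸ Subgroup.centralizer (V : Set G))).index =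
        (Subgroup.centralizer (V : Set G)).index := Subgroup.card_mul_index _
    rw [← h1] at hd2
    exact (hp.dvd_mul.1 hd2).resolve_right hd3
  obtain ⟨Z, hZn, hZab, hZexp, hZ, hZmin⟩ := exists_Z hsolQ hp hd4
  by_cases hcard : Nat.card Z = p
  · exact case_ii hsol hp hr hp101 V hab hexp hV hmin Z hZn hcard
  · refine le_trans (case_i hsolQ hp hp101 Z hZab hZexp hZ hZmin hcard) ?_
    exact_mod_cast hkG

end Cfsg.Agent.H674.KM
end

-- part: S4190
section
-- import your own Cfsg.Agent.* helpers here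

set_option autoImplicit false
open Cfsg

namespace Cfsg.Agent.S4190

/-- Let G be a finite solvable group and p a prime dividing the index of the Fitting subgroup of G. Then the number of conjugacy classes of G is at least p/(3·log₂ p). -/
theorem result {G : Type*} [Group G] [Finite G] (hG : Group.IsSolvable G) (p : ℕ) [Fact p.Prime] (hp : p ∣ (Cfsg.fittingSubgroup G).index) : (p : ℝ) / (3 * Real.logb 2 p) ≤ Nat.card (ConjClasses G) := by
  have h := Cfsg.Agent.H674.KM.main (Nat.card G) G rfl hG p Fact.out hp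
  exact h

end Cfsg.Agent.S4190
end
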