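import Cfsg.Agent.H538.RealBasics
import Cfsg.Agent.Lib.CoprimeCommutator
import Cfsg.Agent.S3863
import Cfsg.Agent.S0007
import Cfsg.Agent.S3861
import Cfsg.Agent.Lib.SolvableNormalP
import Cfsg.Agent.Lib.NormalHall
import Cfsg.Agent.Lib.GoldschmidtFusion
import Cfsg.Statements.S4192
import Cfsg.Agent.S4187
import Cfsg.Agent.FastGrp
import Cfsg.Agent.Prune
set_option linter.all false
prune_inst 0x7f00000000000000000000000000000000000000000000000000000000000000000000000000000000000000000000000000000000000000000000000000000000000000000000000000000000000000003fffffffffffffffffffffffffffbeffbdffffffff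
open scoped Cfsg.Agent.FastGrp

-- part: H538/PrimePowerLift
section
/-!
# Lifting real elements of odd prime power order modulo an arbitrary normal subgroup (helper538)

* `exists_inverted_in_coset` : a 2-element `t` normalising a subgroup `P` of odd order and inverting
  the coset of `x ∈ P` modulo a normal subgroup `N` inverts an element of `P ∩ xN`.
* `exists_real_lift` : every real element of `G ⧸ N` of odd prime power order is the image of a real
  element of `G` of prime power order.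
-/

set_option autoImplicit false

namespace Cfsg.Agent.H538.PrimePowerLift

variable {G : Type*} [Group G]

/-- the elements normalising `M` and stabilising the coset `x M` -/
def cosetStab (M : Subgroup G) (x : G) : Subgroup G where
  carrier := {a | a ∈ Subgroup.normalizer (M : Set G) ∧ x⁻¹ * (a * x * a⁻¹) ∈ M}
  one_mem' := ⟨Subgroup.one_mem _, by simp⟩
  mul_mem' := by
    rintro a b ⟨ha1, ha2⟩ ⟨hb1, hb2⟩
    refine ⟨Subgroup.mul_mem _ ha1 hb1, ?_⟩
    have h1 : x⁻¹ * (a * b * x * (a * b)⁻¹) =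
        (x⁻¹ * (a * x * a⁻¹)) * (a * (x⁻¹ * (b * x * b⁻¹)) * a⁻¹) := by group
    rw [h1]
    exact M.mul_mem ha2 ((Subgroup.mem_normalizer_iff.1 ha1 _).1 hb2)
  inv_mem' := by
    rintro a ⟨ha1, ha2⟩
    refine ⟨Subgroup.inv_mem _ ha1, ?_⟩
    have h1 : x⁻¹ * (a⁻¹ * x * a⁻¹⁻¹) = a⁻¹ * (x⁻¹ * (a * x * a⁻¹))⁻¹ * a⁻¹⁻¹ := by group
    rw [h1]
    exact (Subgroup.mem_normalizer_iff.1 (Subgroup.inv_mem _ ha1) _).1 (M.inv_mem ha2)

/-- A 2-element `t` normalising a subgroup `P` of odd order and inverting the coset of `x ∈ P`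
modulo a normal subgroup `N` inverts an element of `P ∩ xN`. -/
theorem exists_inverted_in_coset [Finite G] (P N : Subgroup G) [hN : N.Normal]
    (hodd : Odd (Nat.card P)) {t x : G} {k : ℕ} (ht : orderOf t = 2 ^ k)
    (htP : t ∈ Subgroup.normalizer (P : Set G)) (hx : x ∈ P) (hinv : t * x * t⁻¹ * x ∈ N) :
    ∃ u ∈ P, t * u * t⁻¹ = u⁻¹ ∧ x⁻¹ * u ∈ N := by
  set M : Subgroup G := P ⊓ N with hM
  have hMP : M ≤ P := inf_le_left
  have hMN : M ≤ N := inf_le_right
  have hPt : ∀ y ∈ P, t * y * t⁻¹ ∈ P := fun y hy => (Subgroup.mem_normalizer_iff.1 htP y).1 hy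
  have hconjP : ∀ y ∈ P, ∀ m ∈ M, y * m * y⁻¹ ∈ M := by
    intro y hy m hm
    exact ⟨P.mul_mem (P.mul_mem hy (hMP hm)) (P.inv_mem hy), hN.conj_mem m (hMN hm) y⟩
  have htM : t ∈ Subgroup.normalizer (M : Set G) := by
    apply Subgroup.inf_normalizer_le_normalizer_inf
    refine ⟨htP, ?_⟩
    rw [Subgroup.normalizer_eq_top_iff.2 hN]
    exact Subgroup.mem_top t
  have hconjt : ∀ m ∈ M, t * m * t⁻¹ ∈ M := fun m hm => (Subgroup.mem_normalizer_iff.1 htM m).1 hm
  have hoddM : ¬ 2 ∣ Nat.card M := by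
    intro h2
    have h3 : 2 ∣ Nat.card P := h2.trans (Subgroup.card_dvd_of_le hMP)
    rw [← even_iff_two_dvd] at h3
    exact (Nat.not_even_iff_odd.2 hodd) h3
  have hm0 : t * x * t⁻¹ * x ∈ M := ⟨P.mul_mem (hPt x hx) hx, hinv⟩
  let B : Subgroup G := Subgroup.zpowers (t ^ 2)
  have hB : IsPGroup 2 B := by
    have h1 : IsPGroup 2 (Subgroup.zpowers t) := IsPGroup.of_card (n := k) (by
      rw [Nat.card_zpowers, ht])
    exact h1.to_le (by rw [Subgroup.zpowers_le]; exact Subgroup.pow_mem _ (Subgroup.mem_zpowers t) 2)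
  have hstab : B ≤ cosetStab M x := by
    rw [Subgroup.zpowers_le]
    refine ⟨Subgroup.pow_mem _ htM 2, ?_⟩
    -- t² x t⁻² = (t m0 t⁻¹) (t x⁻¹ t⁻¹) and t x t⁻¹ = m0 x⁻¹
    have h1 : x⁻¹ * (t ^ 2 * x * (t ^ 2)⁻¹) =
        (x⁻¹ * (t * (t * x * t⁻¹ * x) * t⁻¹) * x⁻¹⁻¹) * (t * x * t⁻¹ * x)⁻¹ := by
      rw [pow_two]; group
    rw [h1]
    exact M.mul_mem (hconjP _ (P.inv_mem hx) _ (hconjt _ hm0)) (M.inv_mem hm0)
  obtain ⟨c, hcB, hcM⟩ := Cfsg.Agent.Lib.CoprimeCommutator.exists_fixed_in_coset 2 B M hB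
    (fun a ha => (hstab ha).1) hoddM x (fun a ha => (hstab ha).2)
  have hcP : c ∈ P := by
    have h1 : c = x * (x⁻¹ * c) := by group
    rw [h1]; exact P.mul_mem hx (hMP hcM)
  -- c commutes with t²
  have hc2 : t ^ 2 * c * (t ^ 2)⁻¹ = c := by
    have h1 := Subgroup.mem_centralizer_iff.1 hcB (t ^ 2) (Subgroup.mem_zpowers _)
    rw [h1]; group
  set v : G := c⁻¹ * (t * c * t⁻¹) with hv
  have hvP : v ∈ P := P.mul_mem (P.inv_mem hcP) (hPt c hcP)
  have htv : t * v * t⁻¹ = v⁻¹ := by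
    have h1 : t * v * t⁻¹ = (t * c * t⁻¹)⁻¹ * (t ^ 2 * c * (t ^ 2)⁻¹) := by
      rw [hv, pow_two]; group
    rw [h1, hc2, hv]; group
  have hvodd : Odd (orderOf v) := by
    have h1 : orderOf v ∣ Nat.card P := by
      have := orderOf_dvd_natCard (⟨v, hvP⟩ : P)
      rwa [Subgroup.orderOf_mk] at this
    exact hodd.of_dvd_nat h1
  obtain ⟨j, hj⟩ := hvodd
  refine ⟨v ^ j, P.pow_mem hvP j, ?_, ?_⟩
  · rw [← conj_pow, htv, inv_pow]
  · -- work in the quotient by N
    have hq : ∀ z : G, z ∈ N ↔ (QuotientGroup.mk z : G ⧸ N) = 1 := fun z =>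
      (QuotientGroup.eq_one_iff z).symm
    rw [hq]
    set X : G ⧸ N := QuotientGroup.mk x with hX
    set T : G ⧸ N := QuotientGroup.mk t with hT
    have h1 : T * X * T⁻¹ * X = 1 := (hq _).1 hinv
    have h2 : (QuotientGroup.mk c : G ⧸ N) = X := by
      have h3 : X⁻¹ * (QuotientGroup.mk c : G ⧸ N) = 1 := (hq _).1 (hMN hcM)
      rw [inv_mul_eq_one] at h3
      exact h3.symm
    have h4 : T * X * T⁻¹ = X⁻¹ := by rw [← mul_eq_one_iff_eq_inv]; exact h1
    have h5 : (QuotientGroup.mk v : G ⧸ N) = X⁻¹ * X⁻¹ := by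
      have : (QuotientGroup.mk v : G ⧸ N) = (QuotientGroup.mk c : G ⧸ N)⁻¹ *
          (T * (QuotientGroup.mk c : G ⧸ N) * T⁻¹) := rfl
      rw [this, h2, h4]
    have h6 : (QuotientGroup.mk (v ^ j) : G ⧸ N) = (X⁻¹ * X⁻¹) ^ j := by
      rw [QuotientGroup.mk_pow, h5]
    have h7 : (X⁻¹ * X⁻¹) ^ (2 * j + 1) = 1 := by
      rw [← h5, ← QuotientGroup.mk_pow, ← hj, pow_orderOf_eq_one]; rfl
    -- X has odd order dividing ...
    have hXodd : Odd (orderOf X) := by
      have h8 : orderOf X ∣ Nat.card P := by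
        have h9 : orderOf X ∣ orderOf x := orderOf_map_dvd (QuotientGroup.mk' N) x
        have h10 := orderOf_dvd_natCard (⟨x, hx⟩ : P)
        rw [Subgroup.orderOf_mk] at h10
        exact h9.trans h10
      exact hodd.of_dvd_nat h8
    have h11 : X ^ (2 * j + 1) = 1 := by
      have h12 : (X ^ (2 * j + 1)) ^ 2 = 1 := by
        have h13 : ((X⁻¹ * X⁻¹) ^ (2 * j + 1))⁻¹ = (X ^ (2 * j + 1)) ^ 2 := by
          rw [← pow_two, inv_pow, inv_pow, inv_inv, ← pow_mul, ← pow_mul, mul_comm]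
        rw [← h13, h7, inv_one]
      have h14 : orderOf (X ^ (2 * j + 1)) ∣ 2 := orderOf_dvd_of_pow_eq_one h12
      have h15 : Odd (orderOf (X ^ (2 * j + 1))) := hXodd.of_dvd_nat (orderOf_pow_dvd _)
      rcases (Nat.dvd_prime Nat.prime_two).1 h14 with h16 | h16
      · exact orderOf_eq_one_iff.1 h16
      · rw [h16] at h15; exact absurd h15 (by decide)
    change X⁻¹ * (QuotientGroup.mk (v ^ j) : G ⧸ N) = 1
    rw [h6]
    have h17 : X⁻¹ * (X⁻¹ * X⁻¹) ^ j = (X ^ (2 * j + 1))⁻¹ := by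
      rw [← pow_two, inv_pow, inv_pow, ← pow_mul, ← mul_inv_rev, ← pow_succ]
    rw [h17, h11, inv_one]

/-- Every real element of `G ⧸ N` of odd prime power order is the image of a real element of `G`
of prime power order. -/
theorem exists_real_lift [Finite G] (N : Subgroup G) [hN : N.Normal] {p : ℕ} [hp : Fact p.Prime]
    (hp2 : p ≠ 2) {q : G ⧸ N} {k : ℕ} (hq : orderOf q = p ^ k) (hr : IsConj q q⁻¹) :
    ∃ x : G, (QuotientGroup.mk x : G ⧸ N) = q ∧ IsConj x x⁻¹ ∧ ∃ j : ℕ, orderOf x = p ^ j := by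
  classical
  obtain ⟨tb, htb⟩ := isConj_iff.1 hr
  obtain ⟨g, rfl⟩ := QuotientGroup.mk_surjective tb
  set f : G →* G ⧸ N := QuotientGroup.mk' N with hf
  have hfs : Function.Surjective f := QuotientGroup.mk'_surjective N
  set X : Subgroup G := (Subgroup.zpowers q).comap f with hX
  -- g normalises X
  have hgq : f g ∈ Subgroup.normalizer ((Subgroup.zpowers q : Subgroup (G ⧸ N)) : Set (G ⧸ N)) :=
    RealBasics.mem_normalizer_zpowers_of_inverts htb
  have hgX : ∀ y, y ∈ X ↔ g * y * g⁻¹ ∈ X := by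
    intro y
    rw [hX, Subgroup.mem_comap, Subgroup.mem_comap, map_mul, map_mul, map_inv]
    exact Subgroup.mem_normalizer_iff.1 hgq _
  obtain ⟨P0⟩ : Nonempty (Sylow p X) := inferInstance
  set P : Subgroup G := (P0 : Subgroup X).map X.subtype with hPdef
  have hPX : P ≤ X := Subgroup.map_subtype_le _
  have hPp : IsPGroup p P := P0.2.map _
  -- conjugate of P by g is a Sylow subgroup of X as well
  let P' : Subgroup G := P.map (MulAut.conj g).toMonoidHom
  have hP'X : P' ≤ X := by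
    rintro _ ⟨y, hy, rfl⟩
    exact (hgX y).1 (hPX hy)
  have hP'p : IsPGroup p P' := hPp.map _
  have hcard : Nat.card P' = Nat.card P := by
    exact Nat.card_congr (P.equivMapOfInjective _ (MulAut.conj g).injective).symm.toEquiv
  have hP'sub : IsPGroup p (P'.subgroupOf X) :=
    hP'p.of_equiv (Subgroup.subgroupOfEquivOfLe hP'X).symm
  have hcard' : Nat.card (P'.subgroupOf X) = Nat.card (P0 : Subgroup X) := by
    rw [Nat.card_congr (Subgroup.subgroupOfEquivOfLe hP'X).toEquiv, hcard, hPdef]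
    exact (Nat.card_congr ((P0 : Subgroup X).equivMapOfInjective _ X.subtype_injective).toEquiv).symm
  let P1 : Sylow p X := Sylow.ofCard (P'.subgroupOf X) (by
    rw [hcard', P0.card_eq_multiplicity])
  obtain ⟨a, ha⟩ := MulAction.exists_smul_eq X P1 P0
  -- n = a g normalises P
  set n : G := (a : G) * g with hn
  have hnP : n ∈ Subgroup.normalizer (P : Set G) := by
    have key : ∀ y ∈ P, n * y * n⁻¹ ∈ P := by
      intro y hy
      have h1 : g * y * g⁻¹ ∈ P' := ⟨y, hy, rfl⟩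
      have h2 : (⟨g * y * g⁻¹, hP'X h1⟩ : X) ∈ (P1 : Subgroup X) := by
        change (⟨g * y * g⁻¹, hP'X h1⟩ : X) ∈ P'.subgroupOf X
        rw [Subgroup.mem_subgroupOf]; exact h1
      have h3 : a * (⟨g * y * g⁻¹, hP'X h1⟩ : X) * a⁻¹ ∈ (P0 : Subgroup X) := by
        rw [← ha, Sylow.coe_subgroup_smul]
        exact Subgroup.smul_mem_pointwise_smul _ (MulAut.conj a) _ h2
      refine ⟨_, h3, ?_⟩
      change (a : G) * (g * y * g⁻¹) * (a : G)⁻¹ = n * y * n⁻¹
      rw [hn]; group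
    have hmap : P.map (MulAut.conj n).toMonoidHom ≤ P := by
      rintro _ ⟨y, hy, rfl⟩
      exact key y hy
    rw [Subgroup.mem_normalizer_iff_map_conj_eq]
    apply Subgroup.eq_of_le_of_card_ge hmap
    exact (Nat.card_congr (P.equivMapOfInjective _ (MulAut.conj n).injective).toEquiv).le
  -- n inverts q
  have hnq : f n * q * (f n)⁻¹ = q⁻¹ := by
    have haX : f (a : G) ∈ Subgroup.zpowers q := a.2
    obtain ⟨i, hi⟩ := Subgroup.mem_zpowers_iff.1 haX
    rw [hn, map_mul, ← hi]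
    have h1 : q ^ i * f g * q * (q ^ i * f g)⁻¹ = q ^ i * (f g * q * (f g)⁻¹) * (q ^ i)⁻¹ := by group
    have h2 : f g * q * (f g)⁻¹ = q⁻¹ := htb
    rw [h1, h2]; group
  -- pass to the 2-part of n
  obtain ⟨e, m, hm, hem⟩ := Nat.exists_eq_two_pow_mul_odd (orderOf_pos n).ne'
  set t : G := n ^ m with ht
  have hto : orderOf t = 2 ^ e := by
    rw [ht, orderOf_pow' n (by rintro rfl; exact absurd hm (by decide)), hem,
      Nat.gcd_mul_left_left, Nat.mul_div_cancel _ hm.pos]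
  have htP : t ∈ Subgroup.normalizer (P : Set G) := Subgroup.pow_mem _ hnP m
  have htq : f t * q * (f t)⁻¹ = q⁻¹ := by
    have hsq : f n * q⁻¹ * (f n)⁻¹ = q := by
      have := congrArg (·⁻¹) hnq
      simpa only [mul_assoc, _root_.mul_inv_rev, _root_.inv_inv] using this
    have key : ∀ r : ℕ, f n ^ (2 * r + 1) * q * (f n ^ (2 * r + 1))⁻¹ = q⁻¹ := by
      intro r
      induction r with
      | zero => simpa only [_root_.MulZeroClass.mul_zero, _root_.zero_add, _root_.pow_one] using hnq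
      | succ r ih =>
        have h1 : f n ^ (2 * (r + 1) + 1) * q * (f n ^ (2 * (r + 1) + 1))⁻¹ =
            f n * (f n * (f n ^ (2 * r + 1) * q * (f n ^ (2 * r + 1))⁻¹) * (f n)⁻¹) * (f n)⁻¹ := by
          have h2 : f n ^ (2 * (r + 1) + 1) = f n * (f n * f n ^ (2 * r + 1)) := by
            rw [← pow_succ', ← pow_succ']; ring_nf
          rw [h2]; group
        rw [h1, ih, hsq, hnq]
    obtain ⟨r, hr⟩ := hm
    rw [ht, map_pow, hr]
    exact key r
  -- an element of P above q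
  have hqP : ∃ y ∈ P, f y = q := by
    let fX : X →* Subgroup.zpowers q := (f.comp X.subtype).codRestrict (Subgroup.zpowers q)
      (fun y => y.2)
    have hfX : Function.Surjective fX := by
      rintro ⟨z, hz⟩
      obtain ⟨w, hw⟩ := hfs z
      exact ⟨⟨w, by rw [hX, Subgroup.mem_comap, hw]; exact hz⟩, Subtype.ext hw⟩
    have hZ : IsPGroup p (Subgroup.zpowers q) := IsPGroup.of_card (n := k) (by
      rw [Nat.card_zpowers, hq])
    have hfin : Finite (Subgroup.zpowers q) := inferInstance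
    let Q : Sylow p (Subgroup.zpowers q) := P0.mapSurjective hfX
    have hQ : (Q : Subgroup (Subgroup.zpowers q)) = ⊤ := by
      have h1 : IsPGroup p (⊤ : Subgroup (Subgroup.zpowers q)) := hZ.to_subgroup ⊤
      exact (Q.3 h1 le_top).symm
    have h2 : (⟨q, Subgroup.mem_zpowers q⟩ : Subgroup.zpowers q) ∈
        (Q : Subgroup (Subgroup.zpowers q)) := by rw [hQ]; exact Subgroup.mem_top _
    rw [Sylow.coe_mapSurjective] at h2
    obtain ⟨y, hy, hyq⟩ := h2
    exact ⟨y, ⟨y, hy, rfl⟩, congrArg Subtype.val hyq⟩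
  obtain ⟨y, hyP, hyq⟩ := hqP
  have hPodd : Odd (Nat.card P) := by
    obtain ⟨r, hr⟩ := IsPGroup.iff_card.1 hPp
    rw [hr]
    exact (hp.1.odd_of_ne_two hp2).pow
  obtain ⟨u, huP, hu, huN⟩ := exists_inverted_in_coset P N hPodd hto htP hyP (by
    rw [← QuotientGroup.eq_one_iff]
    change f (t * y * t⁻¹ * y) = 1
    rw [map_mul, map_mul, map_mul, map_inv, hyq, htq, inv_mul_cancel])
  refine ⟨u, ?_, RealBasics.isConj_of_conj_eq hu, ?_⟩
  · have h1 : f (y⁻¹ * u) = 1 := (QuotientGroup.eq_one_iff _).2 huN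
    rw [map_mul, map_inv, hyq, inv_mul_eq_one] at h1
    exact h1.symm
  · obtain ⟨j, hj⟩ := (IsPGroup.iff_orderOf.1 hPp) ⟨u, huP⟩
    exact ⟨j, by rwa [Subgroup.orderOf_mk] at hj⟩

end Cfsg.Agent.H538.PrimePowerLift
end

-- part: H538/RealGraph
section
/-!
# The prime graph on real class sizes: first consequences of disconnectedness (helper538)
-/

set_option autoImplicit false

namespace Cfsg.Agent.H538.RealGraph

open Cfsg.Agent.H538.RealBasics

variable {G : Type*} [Group G]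

/-- the set of real class sizes -/
def RealSizes (G : Type*) [Group G] : Set ℕ :=
  {n : ℕ | ∃ x : G, IsConj x x⁻¹ ∧ (Subgroup.centralizer ({x} : Set G)).index = n}

/-- the class size of `x` -/
noncomputable abbrev cs (x : G) : ℕ := (Subgroup.centralizer ({x} : Set G)).index

/-- the prime graph on the real class sizes is disconnected, `π₁` and `π₂` being the two parts -/
structure Disc (G : Type*) [Group G] (π₁ π₂ : Set ℕ) : Prop where
  ne₁ : π₁.Nonempty
  ne₂ : π₂.Nonempty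
  disj : Disjoint π₁ π₂
  vert : ∀ q ∈ π₁ ∪ π₂, q.Prime ∧ ∃ n ∈ RealSizes G, q ∣ n
  cover : ∀ q : ℕ, q.Prime → (∃ n ∈ RealSizes G, q ∣ n) → q ∈ π₁ ∨ q ∈ π₂
  noedge : ∀ a ∈ π₁, ∀ b ∈ π₂, ∀ n ∈ RealSizes G, ¬ (a ∣ n ∧ b ∣ n)

theorem Disc.symm {π₁ π₂ : Set ℕ} (h : Disc G π₁ π₂) : Disc G π₂ π₁ where
  ne₁ := h.ne₂
  ne₂ := h.ne₁
  disj := h.disj.symm
  vert := fun q hq => h.vert q (by rwa [Set.union_comm])
  cover := fun q hq hn => (h.cover q hq hn).symm
  noedge := fun a ha b hb n hn hab => h.noedge b hb a ha n hn ⟨hab.2, hab.1⟩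

/-- the conjugacy class of `x` as a set -/
def cl (x : G) : Set G := Set.range (fun g : G => g * x * g⁻¹)

theorem mem_cl_self (x : G) : x ∈ cl x := ⟨1, by simp⟩

theorem ncard_cl [Finite G] (x : G) : (cl x).ncard = cs x := by
  classical
  have h : cl x = Set.range (fun q : G ⧸ Subgroup.centralizer ({x} : Set G) =>
      Quotient.liftOn' q (fun g => g * x * g⁻¹) (by
        intro a b hab
        have h1 : a⁻¹ * b ∈ Subgroup.centralizer ({x} : Set G) := QuotientGroup.leftRel_apply.1 hab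
        rw [Subgroup.mem_centralizer_singleton_iff] at h1
        change a * x * a⁻¹ = b * x * b⁻¹
        have h2 : b * x * b⁻¹ = a * ((a⁻¹ * b) * x) * b⁻¹ := by group
        rw [h2, h1]; group)) := by
    ext y
    constructor
    · rintro ⟨g, rfl⟩
      exact ⟨QuotientGroup.mk g, rfl⟩
    · rintro ⟨q, rfl⟩
      obtain ⟨g, rfl⟩ := QuotientGroup.mk_surjective q
      exact ⟨g, rfl⟩
  rw [h, ← Set.image_univ, Set.ncard_image_of_injective, Set.ncard_univ]
  · rfl
  · intro q r hqr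
    obtain ⟨a, rfl⟩ := QuotientGroup.mk_surjective q
    obtain ⟨b, rfl⟩ := QuotientGroup.mk_surjective r
    change a * x * a⁻¹ = b * x * b⁻¹ at hqr
    rw [QuotientGroup.eq, Subgroup.mem_centralizer_singleton_iff]
    have h2 : x = a⁻¹ * (a * x * a⁻¹) * a := by group
    calc a⁻¹ * b * x = a⁻¹ * (b * x * b⁻¹) * b := by group
      _ = a⁻¹ * (a * x * a⁻¹) * b := by rw [hqr]
      _ = x * (a⁻¹ * b) := by group

theorem cs_conj [Finite G] (x g : G) : cs (g * x * g⁻¹) = cs x := index_centralizer_conj x g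

theorem cs_pos [Finite G] (x : G) : 0 < cs x := Nat.pos_of_ne_zero Subgroup.index_ne_zero_of_finite

/-- coprime class sizes: products of conjugates are conjugate -/
theorem mul_mem_cl_mul [Finite G] {x y : G} (h : (cs x).Coprime (cs y)) {u v : G} (hu : u ∈ cl x)
    (hv : v ∈ cl y) : u * v ∈ cl (x * y) := by
  obtain ⟨g, rfl⟩ := hu
  obtain ⟨k, rfl⟩ := hv
  obtain ⟨c, hc, d, hd, hcd⟩ := (Cfsg.Agent.S0007.result _ _ h).2 (g⁻¹ * k)
  rw [Subgroup.mem_centralizer_singleton_iff] at hc hd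
  refine ⟨g * c, ?_⟩
  have h1 : k = g * c * d := by
    have : g * (g⁻¹ * k) = g * (c * d) := by rw [hcd]
    simpa [mul_assoc] using this
  have h2 : k * y * k⁻¹ = (g * c) * y * (g * c)⁻¹ := by
    rw [h1]
    calc g * c * d * y * (g * c * d)⁻¹ = g * c * (d * y) * (g * c * d)⁻¹ := by group
      _ = g * c * (y * d) * (g * c * d)⁻¹ := by rw [hd]
      _ = _ := by group
  have h3 : g * x * g⁻¹ = (g * c) * x * (g * c)⁻¹ := by
    calc g * x * g⁻¹ = g * (x * c) * c⁻¹ * g⁻¹ := by group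
      _ = g * (c * x) * c⁻¹ * g⁻¹ := by rw [hc]
      _ = _ := by group
  change g * c * (x * y) * (g * c)⁻¹ = g * x * g⁻¹ * (k * y * k⁻¹)
  rw [h2, h3]; group

/-- coprime class sizes: transitivity of the centralizer of `x` on the class of `y` -/
theorem exists_centralizer_conj [Finite G] {x y : G} (h : (cs x).Coprime (cs y)) {u v : G}
    (hu : u ∈ cl y) (hv : v ∈ cl y) : ∃ c : G, c * x = x * c ∧ c * u * c⁻¹ = v := by
  obtain ⟨g, rfl⟩ := hu
  obtain ⟨k, rfl⟩ := hv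
  have hcop : (cs x).Coprime (cs (g * y * g⁻¹)) := by rwa [cs_conj]
  obtain ⟨c, hc, d, hd, hcd⟩ := (Cfsg.Agent.S0007.result _ _ hcop).2 (k * g⁻¹)
  rw [Subgroup.mem_centralizer_singleton_iff] at hc hd
  refine ⟨c, hc, ?_⟩
  change c * (g * y * g⁻¹) * c⁻¹ = k * y * k⁻¹
  have h1 : k = c * d * g := by rw [← hcd]; group
  rw [h1]
  calc c * (g * y * g⁻¹) * c⁻¹ = c * ((g * y * g⁻¹) * d) * d⁻¹ * c⁻¹ := by group
    _ = c * (d * (g * y * g⁻¹)) * d⁻¹ * c⁻¹ := by rw [hd]
    _ = _ := by group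

/-- if the class of `x * y` is not larger than the class of `x`, the class of `x` is invariant
under right multiplication by quotients of conjugates of `y` -/
theorem mul_div_mem_cl [Finite G] {x y : G} (h : (cs x).Coprime (cs y)) (hle : cs (x * y) ≤ cs x)
    {u v w : G} (hu : u ∈ cl x) (hv : v ∈ cl y) (hw : w ∈ cl y) : u * v * w⁻¹ ∈ cl x := by
  have hsub : (fun u => u * w) '' cl x ⊆ cl (x * y) := by
    rintro _ ⟨u', hu', rfl⟩
    exact mul_mem_cl_mul h hu' hw
  have hcard : (cl (x * y)).ncard ≤ ((fun u => u * w) '' cl x).ncard := by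
    rw [Set.ncard_image_of_injective _ (mul_left_injective w), ncard_cl, ncard_cl]
    exact hle
  have heq := Set.eq_of_subset_of_ncard_le hsub hcard (Set.toFinite _)
  have h1 : u * v ∈ (fun u => u * w) '' cl x := by
    rw [heq]; exact mul_mem_cl_mul h hu hv
  obtain ⟨u', hu', h2⟩ := h1
  change u' * w = u * v at h2
  rw [← h2]
  simpa using hu'

/-- a finite set invariant under a fixed point free involution has even size -/
theorem even_ncard_of_involution {α : Type*} [Finite α] (s : Set α) (f : α → α)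
    (hf : ∀ a ∈ s, f a ∈ s) (hff : ∀ a ∈ s, f (f a) = a) (hne : ∀ a ∈ s, f a ≠ a) :
    Even s.ncard := by
  classical
  have := Fintype.ofFinite α
  rw [Set.ncard_eq_toFinset_card']
  have h1 : ∑ a ∈ s.toFinset, (1 : ZMod 2) = 0 := by
    refine Finset.sum_involution (fun a _ => f a) ?_ ?_ ?_ ?_
    · intro a ha
      decide
    · intro a ha _
      exact hne a (Set.mem_toFinset.1 ha)
    · intro a ha
      exact Set.mem_toFinset.2 (hf a (Set.mem_toFinset.1 ha))
    · intro a ha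
      exact hff a (Set.mem_toFinset.1 ha)
  rw [Finset.sum_const, nsmul_eq_mul, mul_one] at h1
  rw [even_iff_two_dvd]
  exact (ZMod.natCast_eq_zero_iff _ _).1 h1

end Cfsg.Agent.H538.RealGraph
end

-- part: H538/RealGraphB
section
/-!
# The prime graph on real class sizes, II (helper538)

* `Disc.two_mem` : if the prime graph on real class sizes is disconnected, `2` is a vertex.
* `Piv` : involutions whose class size is divisible by a prime of `π₂` (where `2 ∈ π₁`).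
* `Piv.not_commute` : such an involution commutes with no real element `≠ 1` of odd order.
* `no_real_of_not_mem` : no real element of order a power of an odd prime outside `π₂`.
-/

set_option autoImplicit false

namespace Cfsg.Agent.H538.RealGraph

open Cfsg.Agent.H538.RealBasics

variable {G : Type*} [Group G]

theorem Disc.coprime {π₁ π₂ : Set ℕ} (h : Disc G π₁ π₂) {m n a b : ℕ} (hm : m ∈ RealSizes G)
    (hn : n ∈ RealSizes G) (ha : a ∈ π₁) (ham : a ∣ m) (hb : b ∈ π₂) (hbn : b ∣ n) :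
    m.Coprime n := by
  by_contra hncop
  obtain ⟨q, hq, hqm, hqn⟩ := Nat.Prime.not_coprime_iff_dvd.1 hncop
  rcases h.cover q hq ⟨m, hm, hqm⟩ with hq1 | hq2
  · exact h.noedge q hq1 b hb n hn ⟨hqn, hbn⟩
  · exact h.noedge a ha q hq2 m hm ⟨ham, hqm⟩

theorem Disc.dvd_or {π₁ π₂ : Set ℕ} (h : Disc G π₁ π₂) {k m n a b : ℕ} (hk : k ∈ RealSizes G)
    (hm : m ∈ RealSizes G) (hn : n ∈ RealSizes G) (ha : a ∈ π₁) (ham : a ∣ m) (hb : b ∈ π₂)
    (hbn : b ∣ n) (hkmn : k ∣ m * n) : k ∣ m ∨ k ∣ n := by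
  by_cases h1 : k.Coprime m
  · exact Or.inr (h1.dvd_of_dvd_mul_left hkmn)
  by_cases h2 : k.Coprime n
  · exact Or.inl (h2.dvd_of_dvd_mul_right hkmn)
  exfalso
  rw [Nat.Prime.not_coprime_iff_dvd] at h1 h2
  obtain ⟨p, hp, hpk, hpm⟩ := h1
  obtain ⟨q, hq, hqk, hqn⟩ := h2
  have hp1 : p ∈ π₁ := by
    rcases h.cover p hp ⟨m, hm, hpm⟩ with h3 | h3
    · exact h3
    · exact (h.noedge a ha p h3 m hm ⟨ham, hpm⟩).elim
  have hq2 : q ∈ π₂ := by
    rcases h.cover q hq ⟨n, hn, hqn⟩ with h3 | h3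
    · exact (h.noedge q h3 b hb n hn ⟨hqn, hbn⟩).elim
    · exact h3
  exact h.noedge p hp1 q hq2 k hk ⟨hpk, hqk⟩

/-- a subgroup of index prime to `p` contains a Sylow `p`-subgroup -/
theorem exists_sylow_le [Finite G] {p : ℕ} [hp : Fact p.Prime] (H : Subgroup G)
    (h : ¬ p ∣ H.index) : ∃ Q : Sylow p G, (Q : Subgroup G) ≤ H := by
  obtain ⟨R⟩ : Nonempty (Sylow p H) := inferInstance
  have hcard : Nat.card ((R : Subgroup H).map H.subtype) = p ^ (Nat.card G).factorization p := by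
    rw [← Nat.card_congr ((R : Subgroup H).equivMapOfInjective _ H.subtype_injective).toEquiv,
      R.card_eq_multiplicity, ← H.index_mul_card, Nat.factorization_mul
        Subgroup.index_ne_zero_of_finite Nat.card_pos.ne', Finsupp.add_apply,
      Nat.factorization_eq_zero_of_not_dvd h, zero_add]
  exact ⟨Sylow.ofCard _ hcard, Subgroup.map_subtype_le _⟩

/-- elements of `p`-power order lie in Sylow subgroups -/
theorem exists_mem_sylow [Finite G] {p : ℕ} [hp : Fact p.Prime] {x : G} {k : ℕ}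
    (hx : orderOf x = p ^ k) : ∃ Q : Sylow p G, x ∈ (Q : Subgroup G) := by
  have hX : IsPGroup p (Subgroup.zpowers x) := IsPGroup.of_card (n := k) (by
    rw [Nat.card_zpowers, hx])
  obtain ⟨Q, hQ⟩ := hX.exists_le_sylow
  exact ⟨Q, hQ (Subgroup.mem_zpowers x)⟩

/-- conjugacy of Sylow subgroups in elementwise form -/
theorem exists_conj_mem [Finite G] {p : ℕ} [hp : Fact p.Prime] (Q R : Sylow p G) :
    ∃ g : G, ∀ x ∈ (Q : Subgroup G), g * x * g⁻¹ ∈ (R : Subgroup G) := by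
  obtain ⟨g, hg⟩ := MulAction.exists_smul_eq G Q R
  refine ⟨g, fun x hx => ?_⟩
  rw [← hg, Sylow.coe_subgroup_smul]
  exact Subgroup.smul_mem_pointwise_smul x (MulAut.conj g) _ hx

/-- the class size of a product of commuting elements divides the product of the class sizes when
these are coprime -/
theorem cs_mul_dvd [Finite G] {x y : G} (h : (cs x).Coprime (cs y)) : cs (x * y) ∣ cs x * cs y := by
  rw [← (Cfsg.Agent.S0007.result _ _ h).1]
  apply Subgroup.index_dvd_of_le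
  intro g hg
  obtain ⟨h1, h2⟩ := Subgroup.mem_inf.1 hg
  rw [Subgroup.mem_centralizer_singleton_iff] at h1 h2 ⊢
  calc g * (x * y) = (g * x) * y := by group
    _ = x * (g * y) := by rw [h1]; group
    _ = x * y * g := by rw [h2]; group

theorem isConj_inv_of_sq {x : G} (h : x ^ 2 = 1) : IsConj x x⁻¹ := by
  have h1 : x⁻¹ = x := by rw [inv_eq_iff_mul_eq_one, ← pow_two]; exact h
  rw [h1]

/-- all conjugates of a real element are real -/
theorem real_of_mem_cl {x y : G} (hx : IsConj x x⁻¹) (hy : y ∈ cl x) : IsConj y y⁻¹ := by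
  obtain ⟨g, rfl⟩ := hy
  obtain ⟨c, hc⟩ := isConj_iff.1 hx
  refine isConj_iff.2 ⟨g * c * g⁻¹, ?_⟩
  change g * c * g⁻¹ * (g * x * g⁻¹) * (g * c * g⁻¹)⁻¹ = (g * x * g⁻¹)⁻¹
  calc g * c * g⁻¹ * (g * x * g⁻¹) * (g * c * g⁻¹)⁻¹ = g * (c * x * c⁻¹) * g⁻¹ := by group
    _ = _ := by rw [hc]; group

theorem mem_realSizes {x : G} (hx : IsConj x x⁻¹) : cs x ∈ RealSizes G := ⟨x, hx, rfl⟩

/-- if `2` is not a vertex we get a contradiction: auxiliary computation -/
theorem Disc.aux {π₁ π₂ : Set ℕ} [Finite G] (h : Disc G π₁ π₂)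
    (hodd : ∀ x : G, IsConj x x⁻¹ → Odd (cs x)) {x y : G} {a b : ℕ} (hx : IsConj x x⁻¹)
    (hy : IsConj y y⁻¹) (ha : a ∈ π₁) (hax : a ∣ cs x) (hb : b ∈ π₂) (hby : b ∣ cs y)
    (hle : cs (x * y) ≤ cs x) (hcomm : ∀ u : G, IsConj u u⁻¹ → ∀ v : G, IsConj v v⁻¹ → Commute u v) :
    False := by
  have hcop := h.coprime (mem_realSizes hx) (mem_realSizes hy) ha hax hb hby
  have hsq : ∀ u : G, IsConj u u⁻¹ → u ^ 2 = 1 := fun u hu =>
    (Cfsg.Agent.S3863.result u hu).2.1 (hodd u hu)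
  -- another conjugate of y
  have hyne : ∃ w ∈ cl y, w ≠ y := by
    by_contra hcon
    push Not at hcon
    have h1 : cl y = {y} := by
      ext z; constructor
      · exact hcon z
      · rintro rfl; exact mem_cl_self _
    have h2 : cs y = 1 := by rw [← ncard_cl, h1, Set.ncard_singleton]
    rw [h2, Nat.dvd_one] at hby
    exact ((h.vert b (Or.inr hb)).1).one_lt.ne' hby
  obtain ⟨w, hw, hwy⟩ := hyne
  have hwr := real_of_mem_cl hy hw
  have hc : Commute y w⁻¹ := (hcomm y hy w hwr).inv_right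
  have hd2 : (y * w⁻¹) * (y * w⁻¹) = 1 := by
    have h1 : (y * w⁻¹) ^ 2 = y ^ 2 * (w⁻¹) ^ 2 := hc.mul_pow 2
    rw [pow_two] at h1
    rw [h1, hsq y hy, inv_pow, hsq w hwr]; simp
  have heven : Even (cl x).ncard := by
    refine even_ncard_of_involution (cl x) (fun u => u * y * w⁻¹) ?_ ?_ ?_
    · intro u hu
      exact mul_div_mem_cl hcop hle hu (mem_cl_self y) hw
    · intro u _
      change u * y * w⁻¹ * y * w⁻¹ = u
      calc u * y * w⁻¹ * y * w⁻¹ = u * ((y * w⁻¹) * (y * w⁻¹)) := by group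
        _ = u := by rw [hd2, mul_one]
    · intro u _ hu
      change u * y * w⁻¹ = u at hu
      rw [mul_assoc, mul_eq_left] at hu
      exact hwy (mul_inv_eq_one.1 hu).symm
  rw [ncard_cl] at heven
  exact (Nat.not_even_iff_odd.2 (hodd x hx)) heven

/-- `2` is a vertex of a disconnected prime graph on real class sizes -/
theorem Disc.two_mem {π₁ π₂ : Set ℕ} [Finite G] (h : Disc G π₁ π₂) : 2 ∈ π₁ ∨ 2 ∈ π₂ := by
  by_contra hcon
  have hodd : ∀ x : G, IsConj x x⁻¹ → Odd (cs x) := by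
    intro x hx
    rw [← Nat.not_even_iff_odd, even_iff_two_dvd]
    intro h2
    exact hcon (h.cover 2 Nat.prime_two ⟨cs x, mem_realSizes hx, h2⟩)
  have hsq : ∀ u : G, IsConj u u⁻¹ → u ^ 2 = 1 := fun u hu =>
    (Cfsg.Agent.S3863.result u hu).2.1 (hodd u hu)
  obtain ⟨S⟩ : Nonempty (Sylow 2 G) := inferInstance
  have hSn : (S : Subgroup G).Normal := by
    rw [← Cfsg.Agent.S3861.result S]
    intro x hx1 hxo hxr
    have h3 : orderOf x ∣ 2 := orderOf_dvd_of_pow_eq_one (hsq x hxr)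
    rcases (Nat.dvd_prime Nat.prime_two).1 h3 with h4 | h4
    · exact hx1 (orderOf_eq_one_iff.1 h4)
    · rw [h4] at hxo; exact absurd hxo (by decide)
  have huniq : ∀ Q : Sylow 2 G, Q = S := by
    intro Q
    have := Sylow.unique_of_normal S hSn
    exact Subsingleton.elim _ _
  have hcomm : ∀ u : G, IsConj u u⁻¹ → ∀ v : G, IsConj v v⁻¹ → Commute u v := by
    intro u hu v hv
    have hu2 : ∃ k, orderOf u = 2 ^ k := by
      have h3 : orderOf u ∣ 2 ^ 1 := orderOf_dvd_of_pow_eq_one (by rw [pow_one]; exact hsq u hu)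
      obtain ⟨k, -, hk⟩ := (Nat.dvd_prime_pow Nat.prime_two).1 h3
      exact ⟨k, hk⟩
    obtain ⟨k, hk⟩ := hu2
    obtain ⟨Q, hQ⟩ := exists_mem_sylow hk
    obtain ⟨R, hR⟩ := exists_sylow_le (p := 2) (Subgroup.centralizer ({v} : Set G)) (by
      rw [← even_iff_two_dvd, Nat.not_even_iff_odd]; exact hodd v hv)
    rw [huniq Q] at hQ
    rw [huniq R] at hR
    exact Subgroup.mem_centralizer_singleton_iff.1 (hR hQ)
  obtain ⟨a, ha⟩ := h.ne₁
  obtain ⟨b, hb⟩ := h.ne₂
  obtain ⟨hap, n, ⟨x, hx, rfl⟩, hax⟩ := h.vert a (Or.inl ha)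
  obtain ⟨hbp, n, ⟨y, hy, rfl⟩, hby⟩ := h.vert b (Or.inr hb)
  have hcop := h.coprime (mem_realSizes hx) (mem_realSizes hy) ha hax hb hby
  have hxy2 : (x * y) ^ 2 = 1 := by
    rw [(hcomm x hx y hy).mul_pow, hsq x hx, hsq y hy, one_mul]
  have hxyr := isConj_inv_of_sq hxy2
  rcases h.dvd_or (mem_realSizes hxyr) (mem_realSizes hx) (mem_realSizes hy) ha hax hb hby
    (cs_mul_dvd hcop) with h1 | h1
  · exact h.aux hodd hx hy ha hax hb hby (Nat.le_of_dvd (cs_pos x) h1) hcomm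
  · have h2 : cs (y * x) ≤ cs y := by
      rw [← (hcomm x hx y hy).eq]
      exact Nat.le_of_dvd (cs_pos y) h1
    exact h.symm.aux hodd hy hx hb hby ha hax h2 hcomm

/-- involutions (or the identity) with class size divisible by a prime of `π₂` -/
structure Piv (π₂ : Set ℕ) (i : G) : Prop where
  sq : i ^ 2 = 1
  dvd : ∃ b ∈ π₂, b ∣ cs i

theorem Piv.real {π₂ : Set ℕ} {i : G} (hi : Piv π₂ i) : IsConj i i⁻¹ := isConj_inv_of_sq hi.sq

theorem Piv.conj [Finite G] {π₂ : Set ℕ} {i j : G} (hi : Piv π₂ i) (hj : j ∈ cl i) : Piv π₂ j := by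
  obtain ⟨g, rfl⟩ := hj
  refine ⟨?_, ?_⟩
  · rw [conj_pow, hi.sq]; simp
  · obtain ⟨b, hb, hbi⟩ := hi.dvd
    exact ⟨b, hb, by rwa [cs_conj]⟩

theorem Piv.odd [Finite G] {π₁ π₂ : Set ℕ} (h : Disc G π₁ π₂) (h2 : 2 ∈ π₁) {i : G}
    (hi : Piv π₂ i) : Odd (cs i) := by
  rw [← Nat.not_even_iff_odd, even_iff_two_dvd]
  intro h3
  obtain ⟨b, hb, hbi⟩ := hi.dvd
  exact h.noedge 2 h2 b hb (cs i) (mem_realSizes hi.real) ⟨h3, hbi⟩

theorem exists_piv [Finite G] {π₁ π₂ : Set ℕ} (h : Disc G π₁ π₂) (h2 : 2 ∈ π₁) :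
    ∃ i : G, Piv π₂ i := by
  obtain ⟨b, hb⟩ := h.ne₂
  obtain ⟨hbp, n, ⟨i, hi, rfl⟩, hbi⟩ := h.vert b (Or.inr hb)
  refine ⟨i, ?_, b, hb, hbi⟩
  apply (Cfsg.Agent.S3863.result i hi).2.1
  rw [← Nat.not_even_iff_odd, even_iff_two_dvd]
  intro h3
  exact h.noedge 2 h2 b hb (cs i) (mem_realSizes hi) ⟨h3, hbi⟩

theorem two_dvd_cs [Finite G] {x : G} (hx : IsConj x x⁻¹) (ho : Odd (orderOf x)) (h1 : x ≠ 1) :
    2 ∣ cs x := by
  rw [← even_iff_two_dvd, ← Nat.not_odd_iff_even]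
  intro h2
  have h3 : orderOf x ∣ 2 := orderOf_dvd_of_pow_eq_one ((Cfsg.Agent.S3863.result x hx).2.1 h2)
  rcases (Nat.dvd_prime Nat.prime_two).1 h3 with h4 | h4
  · exact h1 (orderOf_eq_one_iff.1 h4)
  · rw [h4] at ho; exact absurd ho (by decide)

theorem Piv.coprime [Finite G] {π₁ π₂ : Set ℕ} (h : Disc G π₁ π₂) (h2 : 2 ∈ π₁) {i x : G}
    (hi : Piv π₂ i) (hx : IsConj x x⁻¹) (hxe : 2 ∣ cs x) : (cs x).Coprime (cs i) := by
  obtain ⟨b, hb, hbi⟩ := hi.dvd
  exact h.coprime (mem_realSizes hx) (mem_realSizes hi.real) h2 hxe hb hbi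

/-- `C_G(i)` has no real elements of odd order -/
theorem Piv.eq_one_of_commute [Finite G] {π₁ π₂ : Set ℕ} (h : Disc G π₁ π₂) (h2 : 2 ∈ π₁)
    {i x t : G} (hi : Piv π₂ i) (hxi : Commute x i) (hti : Commute t i) (ht : t * x * t⁻¹ = x⁻¹)
    (ho : Odd (orderOf x)) : x = 1 := by
  by_contra hx1
  have hxr := isConj_of_conj_eq ht
  have hxe := two_dvd_cs hxr ho hx1
  have hcop := hi.coprime h h2 hxr hxe
  have hii : i⁻¹ = i := by rw [inv_eq_iff_mul_eq_one, ← pow_two]; exact hi.sq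
  have hzr : IsConj (x * i) (x * i)⁻¹ := by
    apply isConj_of_conj_eq (t := t)
    rw [mul_inv_rev, hii]
    calc t * (x * i) * t⁻¹ = (t * x * t⁻¹) * (t * i * t⁻¹) := by group
      _ = x⁻¹ * i := by rw [ht, hti.eq]; group
      _ = i * x⁻¹ := hxi.inv_left.eq
  have hcent : Subgroup.centralizer ({x * i} : Set G) =
      Subgroup.centralizer ({x} : Set G) ⊓ Subgroup.centralizer ({i} : Set G) := by
    ext g
    rw [Subgroup.mem_inf, Subgroup.mem_centralizer_singleton_iff,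
      Subgroup.mem_centralizer_singleton_iff, Subgroup.mem_centralizer_singleton_iff]
    constructor
    · intro hg
      have hg' : Commute g (x * i) := hg
      have h3 : Commute g i := by
        have h4 : (x * i) ^ orderOf x = i := by
          rw [hxi.mul_pow, pow_orderOf_eq_one, one_mul]
          obtain ⟨k, hk⟩ := ho
          rw [hk, pow_succ, pow_mul, hi.sq, one_pow, one_mul]
        have := hg'.pow_right (orderOf x)
        rwa [h4] at this
      refine ⟨?_, h3⟩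
      have h5 : x = (x * i) * i⁻¹ := by group
      have h6 : Commute g ((x * i) * i⁻¹) := hg'.mul_right h3.inv_right
      rw [← h5] at h6
      exact h6
    · rintro ⟨h3, h4⟩
      have h5 : Commute g (x * i) := Commute.mul_right h3 h4
      exact h5
  have hcs : cs (x * i) = cs x * cs i := by
    change (Subgroup.centralizer ({x * i} : Set G)).index = _
    rw [hcent]
    exact (Cfsg.Agent.S0007.result _ _ hcop).1
  obtain ⟨b, hb, hbi⟩ := hi.dvd
  exact h.noedge 2 h2 b hb (cs (x * i)) (mem_realSizes hzr)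
    ⟨by rw [hcs]; exact hxe.mul_right _, by rw [hcs]; exact hbi.mul_left _⟩

/-- real elements `≠ 1` of odd order do not commute with any conjugate of `i` -/
theorem Piv.not_commute [Finite G] {π₁ π₂ : Set ℕ} (h : Disc G π₁ π₂) (h2 : 2 ∈ π₁)
    {i x j : G} (hi : Piv π₂ i) (hx : IsConj x x⁻¹) (ho : Odd (orderOf x)) (h1 : x ≠ 1)
    (hj : j ∈ cl i) : ¬ Commute x j := by
  intro hxj
  obtain ⟨⟨t, ⟨k, hk⟩, ht⟩, -, -⟩ := Cfsg.Agent.S3863.result x hx
  obtain ⟨S, hS⟩ := exists_mem_sylow hk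
  obtain ⟨Q, hQ⟩ := exists_sylow_le (p := 2) (Subgroup.centralizer ({i} : Set G)) (by
    rw [← even_iff_two_dvd, Nat.not_even_iff_odd]; exact hi.odd h h2)
  obtain ⟨g, hg⟩ := exists_conj_mem S Q
  -- i' = g⁻¹ i g is centralised by t
  have hti : Commute t (g⁻¹ * i * g⁻¹⁻¹) := by
    have h3 := Subgroup.mem_centralizer_singleton_iff.1 (hQ (hg t hS))
    have h4 : g⁻¹ * ((g * t * g⁻¹) * i) * g = g⁻¹ * (i * (g * t * g⁻¹)) * g := by rw [h3]
    change t * (g⁻¹ * i * g⁻¹⁻¹) = (g⁻¹ * i * g⁻¹⁻¹) * t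
    calc t * (g⁻¹ * i * g⁻¹⁻¹) = g⁻¹ * ((g * t * g⁻¹) * i) * g := by group
      _ = g⁻¹ * (i * (g * t * g⁻¹)) * g := h4
      _ = _ := by group
  have hi' : g⁻¹ * i * g⁻¹⁻¹ ∈ cl i := ⟨g⁻¹, rfl⟩
  have hcop := hi.coprime h h2 hx (two_dvd_cs hx ho h1)
  obtain ⟨c, hcx, hc⟩ := exists_centralizer_conj hcop hj hi'
  have hxi : Commute x (g⁻¹ * i * g⁻¹⁻¹) := by
    rw [← hc]
    have h5 : c * x * c⁻¹ = x := by rw [hcx]; group
    have h6 : c * (x * j) * c⁻¹ = c * (j * x) * c⁻¹ := by rw [hxj.eq]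
    change x * (c * j * c⁻¹) = c * j * c⁻¹ * x
    calc x * (c * j * c⁻¹) = (c * x * c⁻¹) * (c * j * c⁻¹) := by rw [h5]
      _ = c * (x * j) * c⁻¹ := by group
      _ = c * (j * x) * c⁻¹ := h6
      _ = (c * j * c⁻¹) * (c * x * c⁻¹) := by group
      _ = _ := by rw [h5]
  exact h1 ((hi.conj hi').eq_one_of_commute h h2 hxi hti ht ho)

/-- no real elements of order a power of an odd prime outside `π₂` -/
theorem no_real_of_not_mem [Finite G] {π₁ π₂ : Set ℕ} (h : Disc G π₁ π₂) (h2 : 2 ∈ π₁)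
    {r : ℕ} [hr : Fact r.Prime] (hr2 : r ≠ 2) (hr' : r ∉ π₂) {x : G} (hx : IsConj x x⁻¹) {k : ℕ}
    (hk : orderOf x = r ^ k) : x = 1 := by
  by_contra h1
  obtain ⟨i, hi⟩ := exists_piv h h2
  obtain ⟨b, hb, hbi⟩ := hi.dvd
  have hri : ¬ r ∣ cs i := by
    intro h3
    rcases h.cover r hr.1 ⟨cs i, mem_realSizes hi.real, h3⟩ with h4 | h4
    · exact h.noedge r h4 b hb _ (mem_realSizes hi.real) ⟨h3, hbi⟩
    · exact hr' h4
  obtain ⟨Q, hQ⟩ := exists_sylow_le (p := r) (Subgroup.centralizer ({i} : Set G)) hri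
  obtain ⟨S, hS⟩ := exists_mem_sylow hk
  obtain ⟨g, hg⟩ := exists_conj_mem S Q
  have h3 := Subgroup.mem_centralizer_singleton_iff.1 (hQ (hg x hS))
  have hodd : Odd (orderOf x) := by
    rw [hk]; exact (hr.1.odd_of_ne_two hr2).pow
  refine hi.not_commute h h2 (j := g⁻¹ * i * g⁻¹⁻¹) hx hodd h1 ⟨g⁻¹, rfl⟩ ?_
  change x * (g⁻¹ * i * g⁻¹⁻¹) = (g⁻¹ * i * g⁻¹⁻¹) * x
  have h4 : g⁻¹ * ((g * x * g⁻¹) * i) * g = g⁻¹ * (i * (g * x * g⁻¹)) * g := by rw [h3]
  calc x * (g⁻¹ * i * g⁻¹⁻¹) = g⁻¹ * ((g * x * g⁻¹) * i) * g := by group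
    _ = g⁻¹ * (i * (g * x * g⁻¹)) * g := h4
    _ = _ := by group

end Cfsg.Agent.H538.RealGraph
end

-- part: H538/NoRealP
section
/-!
# Solvable groups without real elements of order `r` (helper538)

`not_dvd_card_closure` : if a finite solvable group has no non-trivial real element of order a power of
the odd prime `r`, the subgroup generated by the 2-elements has order prime to `r`.
-/

set_option autoImplicit false

namespace Cfsg.Agent.H538.NoRealP

universe u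

/-- the subgroup generated by the 2-elements -/
def twoGen (G : Type*) [Group G] : Subgroup G := Subgroup.closure {g : G | ∃ k : ℕ, orderOf g = 2 ^ k}

theorem mem_twoGen {G : Type*} [Group G] {g : G} {k : ℕ} (h : orderOf g = 2 ^ k) : g ∈ twoGen G :=
  Subgroup.subset_closure ⟨k, h⟩

theorem map_twoGen_le {G H : Type*} [Group G] [Group H] (f : G →* H) :
    (twoGen G).map f ≤ twoGen H := by
  rw [twoGen, Subgroup.map_le_iff_le_comap, Subgroup.closure_le]
  rintro g ⟨k, hk⟩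
  rw [SetLike.mem_coe, Subgroup.mem_comap]
  have h1 : orderOf (f g) ∣ 2 ^ k := hk ▸ orderOf_map_dvd f g
  obtain ⟨j, -, hj⟩ := (Nat.dvd_prime_pow Nat.prime_two).1 h1
  exact mem_twoGen hj

theorem twoGen_normal {G : Type*} [Group G] : (twoGen G).Normal := by
  constructor
  intro n hn g
  have h1 : (MulAut.conj g).toMonoidHom n ∈ twoGen G :=
    map_twoGen_le (MulAut.conj g).toMonoidHom ⟨n, hn, rfl⟩
  exact h1

/-- a 2-element acts trivially on a normal `r`-subgroup without real elements -/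
theorem commute_of_no_real {G : Type*} [Group G] {r : ℕ} (N : Subgroup G) [hN : N.Normal]
    (hreal : ∀ x ∈ N, IsConj x x⁻¹ → x = 1) {s : G} :
    ∀ k : ℕ, s ^ (2 ^ k) = 1 → ∀ n ∈ N, s * n * s⁻¹ = n := by
  have step : ∀ t : G, (∀ n ∈ N, (t * t) * n * (t * t)⁻¹ = n) → ∀ n ∈ N, t * n * t⁻¹ = n := by
    intro t ht n hn
    have hv : n⁻¹ * (t * n * t⁻¹) ∈ N := N.mul_mem (N.inv_mem hn) (hN.conj_mem n hn t)
    have h1 : t * (n⁻¹ * (t * n * t⁻¹)) * t⁻¹ = (n⁻¹ * (t * n * t⁻¹))⁻¹ := by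
      calc t * (n⁻¹ * (t * n * t⁻¹)) * t⁻¹ = (t * n * t⁻¹)⁻¹ * ((t * t) * n * (t * t)⁻¹) := by group
        _ = (t * n * t⁻¹)⁻¹ * n := by rw [ht n hn]
        _ = _ := by group
    have h2 := hreal _ hv (isConj_iff.2 ⟨t, h1⟩)
    rw [inv_mul_eq_one] at h2
    exact h2.symm
  intro k hk
  have key : ∀ j ≤ k, ∀ n ∈ N, s ^ (2 ^ (k - j)) * n * (s ^ (2 ^ (k - j)))⁻¹ = n := by
    intro j
    induction j with
    | zero => intro _ n hn; rw [Nat.sub_zero, hk]; simp
    | succ j ih =>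
      intro hj
      apply step
      have h1 : s ^ (2 ^ (k - (j + 1))) * s ^ (2 ^ (k - (j + 1))) = s ^ (2 ^ (k - j)) := by
        rw [← pow_add, ← two_mul, ← pow_succ', show k - (j + 1) + 1 = k - j by omega]
      rw [h1]
      exact ih (by omega)
  have := key k le_rfl
  simpa only [_root_.tsub_self, _root_.pow_zero, _root_.pow_one] using this

theorem not_dvd_card_twoGen {r : ℕ} [hr : Fact r.Prime] (hr2 : r ≠ 2) (n : ℕ) :
    ∀ (G : Type u) [Group G] [Finite G], Nat.card G = n → Group.IsSolvable G →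
      (∀ x : G, (∃ k : ℕ, orderOf x = r ^ k) → IsConj x x⁻¹ → x = 1) →
      ¬ r ∣ Nat.card (twoGen G) := by
  induction n using Nat.strong_induction_on with
  | _ n ih =>
  intro G _ _ hn hsol hreal hdvd
  rcases subsingleton_or_nontrivial G with hG | hG
  · have h1 : Nat.card (twoGen G) = 1 := Nat.card_of_subsingleton (1 : twoGen G)
    rw [h1, Nat.dvd_one] at hdvd
    exact hr.1.one_lt.ne' hdvd
  obtain ⟨q, N, hq, hNn, hNq, -, hNbot⟩ :=
    Cfsg.Agent.Lib.SolvableNormalP.exists_normal_pSubgroup G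
  have hcardlt : Nat.card (G ⧸ N) < n := by
    rw [← hn, ← N.card_mul_index]
    change N.index < Nat.card N * N.index
    have h1 : 1 < Nat.card N := (Subgroup.one_lt_card_iff_ne_bot N).2 hNbot
    have h2 : 0 < N.index := Nat.pos_of_ne_zero Subgroup.index_ne_zero_of_finite
    nlinarith only [h1, h2]
  have hquot : ¬ r ∣ Nat.card (twoGen (G ⧸ N)) := by
    apply ih _ hcardlt (G ⧸ N) rfl inferInstance
    rintro x ⟨k, hk⟩ hx
    obtain ⟨y, hy, hyr, hyo⟩ := PrimePowerLift.exists_real_lift N hr2 hk hx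
    rw [← hy, hreal y hyo hyr]
    rfl
  have hmap : ¬ r ∣ Nat.card ((twoGen G).map (QuotientGroup.mk' N)) := fun h =>
    hquot (h.trans (Subgroup.card_dvd_of_le (map_twoGen_le _)))
  -- N as a subgroup of K = twoGen G
  set K : Subgroup G := twoGen G with hK
  set M : Subgroup K := N.subgroupOf K with hM
  have hMn : M.Normal := inferInstance
  have hMindex : M.index = Nat.card (K.map (QuotientGroup.mk' N)) := by
    have h1 : M = ((QuotientGroup.mk' N).comp K.subtype).ker := by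
      ext x
      rw [hM, Subgroup.mem_subgroupOf, MonoidHom.mem_ker, MonoidHom.comp_apply]
      exact (QuotientGroup.eq_one_iff _).symm
    rw [h1, Subgroup.index_ker, MonoidHom.range_eq_map, ← Subgroup.map_map,
      ← MonoidHom.range_eq_map, Subgroup.range_subtype]
  have hMcard : Nat.card M ∣ Nat.card N := by
    exact Subgroup.card_comap_dvd_of_injective N K.subtype K.subtype_injective
  have hr1 : r ∣ Nat.card M := by
    rw [← M.card_mul_index, hMindex] at hdvd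
    exact (hr.1.dvd_mul.1 hdvd).resolve_right hmap
  have hqr : q = r := by
    haveI := Fact.mk hq
    obtain ⟨k, hk⟩ := IsPGroup.iff_card.1 hNq
    have h1 : r ∣ q ^ k := hk ▸ (hr1.trans hMcard)
    exact ((Nat.prime_dvd_prime_iff_eq hr.1 hq).1 (hr.1.dvd_of_dvd_pow h1)).symm
  subst hqr
  -- the 2-elements centralise N
  have hNreal : ∀ x ∈ N, IsConj x x⁻¹ → x = 1 := by
    intro x hx hxr
    obtain ⟨k, hk⟩ := (IsPGroup.iff_orderOf.1 hNq) ⟨x, hx⟩
    exact hreal x ⟨k, by rwa [Subgroup.orderOf_mk] at hk⟩ hxr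
  have hcent : K ≤ Subgroup.centralizer (N : Set G) := by
    rw [hK, twoGen, Subgroup.closure_le]
    rintro s ⟨k, hk⟩
    rw [SetLike.mem_coe, Subgroup.mem_centralizer_iff]
    intro m hm
    have h1 := commute_of_no_real (r := q) N hNreal k (by rw [← hk]; exact pow_orderOf_eq_one s) m hm
    calc m * s = (s * m * s⁻¹) * s := by rw [h1]
      _ = s * m := by group
  -- M is central in K, of order prime to its index
  have hMcomm : ∀ m ∈ M, ∀ k : K, m * k = k * m := by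
    intro m hm k
    apply Subtype.ext
    exact Subgroup.mem_centralizer_iff.1 (hcent k.2) m hm
  have hcop : (Nat.card M).Coprime M.index := by
    have h1 : IsPGroup q M := hNq.comap_subtype
    obtain ⟨k, hk⟩ := IsPGroup.iff_card.1 h1
    rw [hk, hMindex]
    exact Nat.Coprime.pow_left k ((Nat.Prime.coprime_iff_not_dvd hr.1).2 hmap)
  obtain ⟨H, hH⟩ := Subgroup.exists_right_complement'_of_coprime hcop
  have hHn : H.Normal := by
    constructor
    intro h hh k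
    have h1 : k ∈ ((M ⊔ H : Subgroup K)) := by rw [hH.sup_eq_top]; exact Subgroup.mem_top _
    rw [Subgroup.mem_sup_of_normal_left] at h1
    obtain ⟨m, hm, h', hh', rfl⟩ := h1
    have h2 : m * h' * h * (m * h')⁻¹ = h' * h * h'⁻¹ := by
      calc m * h' * h * (m * h')⁻¹ = m * (h' * h * h'⁻¹) * m⁻¹ := by group
        _ = (h' * h * h'⁻¹) * m * m⁻¹ := by rw [hMcomm m hm]
        _ = _ := by group
    rw [h2]
    exact H.mul_mem (H.mul_mem hh' hh) (H.inv_mem hh')
  have hHindex : H.index = Nat.card M := hH.index_eq_card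
  have hKH : K ≤ H.map K.subtype := by
    conv_lhs => rw [hK, twoGen]
    rw [Subgroup.closure_le]
    rintro s ⟨k, hk⟩
    have hsK : s ∈ K := mem_twoGen hk
    refine ⟨⟨s, hsK⟩, ?_, rfl⟩
    apply Cfsg.Agent.Lib.NormalHall.mem_of_orderOf_coprime_index H
    rw [Subgroup.orderOf_mk, hk, hHindex]
    have h1 : IsPGroup q M := hNq.comap_subtype
    obtain ⟨j, hj⟩ := IsPGroup.iff_card.1 h1
    rw [hj]
    exact Nat.Coprime.pow _ _ ((Nat.coprime_primes Nat.prime_two hr.1).2 (Ne.symm hr2))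
  have hHtop : H = ⊤ := by
    rw [eq_top_iff]
    rintro x -
    obtain ⟨y, hy, hyx⟩ := hKH x.2
    have : y = x := Subtype.ext hyx
    rwa [← this]
  rw [hHtop, Subgroup.index_top] at hHindex
  rw [← hHindex, Nat.dvd_one] at hr1
  exact hr.1.one_lt.ne' hr1

end Cfsg.Agent.H538.NoRealP
end

-- part: H538/RealGraphC
section
/-!
# The prime graph on real class sizes, III: the solvable case (helper538)

`Disc.conclusion` : Theorem B of Tong-Viet for a solvable group.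
-/

set_option autoImplicit false

namespace Cfsg.Agent.H538.RealGraph

open Cfsg.Agent.H538.RealBasics Cfsg.Agent.H538.NoRealP

variable {G : Type*} [Group G]

theorem twoGen_index_odd [Finite G] : Odd (twoGen G).index := by
  rw [← Nat.not_even_iff_odd, even_iff_two_dvd]
  obtain ⟨S⟩ : Nonempty (Sylow 2 G) := inferInstance
  have hS : (S : Subgroup G) ≤ twoGen G := by
    intro x hx
    obtain ⟨k, hk⟩ := (IsPGroup.iff_orderOf.1 S.2) ⟨x, hx⟩
    exact mem_twoGen (k := k) (by rwa [Subgroup.orderOf_mk] at hk)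
  intro h
  exact S.not_dvd_index (h.trans (Subgroup.index_dvd_of_le hS))

/-- class sizes in a subgroup divide class sizes for normal subgroups -/
theorem cs_dvd_of_normal [Finite G] (K : Subgroup G) [hK : K.Normal] (x : K) :
    cs x ∣ cs (x : G) := by
  have h1 : Subgroup.centralizer ({x} : Set K) =
      (Subgroup.centralizer ({(x : G)} : Set G)).subgroupOf K := by
    ext y
    rw [Subgroup.mem_subgroupOf, Subgroup.mem_centralizer_singleton_iff,
      Subgroup.mem_centralizer_singleton_iff]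
    constructor
    · intro h; exact congrArg Subtype.val h
    · intro h; exact Subtype.ext h
  change (Subgroup.centralizer ({x} : Set K)).index ∣ _
  rw [h1]
  exact Cfsg.Agent.Lib.GoldschmidtFusion.relIndex_dvd_index_of_normal_right _ K

theorem real_of_real_subgroup (K : Subgroup G) {x : K} (hx : IsConj x x⁻¹) :
    IsConj (x : G) (x : G)⁻¹ := by
  obtain ⟨c, hc⟩ := isConj_iff.1 hx
  exact isConj_iff.2 ⟨c, congrArg Subtype.val hc⟩

theorem cs_dvd_card {K : Type*} [Group K] (x : K) : cs x ∣ Nat.card K :=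
  Subgroup.index_dvd_card _

/-- Theorem B, case where the Sylow 2-subgroup is not normal -/
theorem Disc.conclusion [Finite G] {π₁ π₂ : Set ℕ} (h : Disc G π₁ π₂) (h2 : 2 ∈ π₁)
    (hsol : Group.IsSolvable G) (hS : ∃ P : Sylow 2 G, ¬ (P : Subgroup G).Normal) :
    (∃ ρ₁ ρ₂ : Set ℕ, Disc (twoGen G) ρ₁ ρ₂) ∧
      ∀ n ∈ RealSizes (twoGen G), Odd n ∨ ∃ j : ℕ, n = 2 ^ j := by
  have hKn : (twoGen G).Normal := twoGen_normal
  have hKodd : Odd (twoGen G).index := twoGen_index_odd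
  have hcard : ∀ r : ℕ, r.Prime → r ≠ 2 → r ∣ Nat.card (twoGen G) → r ∈ π₂ := by
    intro r hr hr2 hdvd
    by_contra hr'
    haveI := Fact.mk hr
    refine not_dvd_card_twoGen hr2 (Nat.card G) G rfl hsol ?_ hdvd
    rintro x ⟨k, hk⟩ hx
    exact no_real_of_not_mem h h2 hr2 hr' hx hk
  have hsizes : ∀ n ∈ RealSizes (twoGen G), Odd n ∨ ∃ j : ℕ, n = 2 ^ j := by
    rintro n ⟨g, hg, rfl⟩
    have hgG := real_of_real_subgroup _ hg
    have hdvd : cs g ∣ cs (g : G) := cs_dvd_of_normal (twoGen G) g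
    by_cases hev : 2 ∣ cs (g : G)
    · right
      refine ⟨_, Nat.eq_prime_pow_of_unique_prime_dvd (cs_pos g).ne' ?_⟩
      intro q hq hqg
      by_contra hq2
      have h3 : q ∈ π₂ := hcard q hq hq2 (hqg.trans (cs_dvd_card g))
      exact h.noedge 2 h2 q h3 _ (mem_realSizes hgG) ⟨hev, hqg.trans hdvd⟩
    · left
      rw [← even_iff_two_dvd, Nat.not_even_iff_odd] at hev
      exact hev.of_dvd_nat hdvd
  refine ⟨?_, hsizes⟩
  -- a real element of odd order
  obtain ⟨P, hP⟩ := hS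
  have hx : ∃ x : G, x ≠ 1 ∧ Odd (orderOf x) ∧ IsConj x x⁻¹ := by
    by_contra hcon
    push Not at hcon
    exact hP ((Cfsg.Agent.S3861.result P).1 hcon)
  obtain ⟨x, hx1, hxo, hxr⟩ := hx
  obtain ⟨-, -, h3⟩ := Cfsg.Agent.S3863.result x hxr
  obtain ⟨hxK, hxrK⟩ := h3 (twoGen G) hKodd
  have hxe : 2 ∣ cs (⟨x, hxK⟩ : twoGen G) := by
    apply two_dvd_cs hxrK
    · rwa [Subgroup.orderOf_mk]
    · intro h4; exact hx1 (congrArg Subtype.val h4)
  -- an involution of `π₂`-class size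
  obtain ⟨i, hi⟩ := exists_piv h h2
  have hiK : i ∈ twoGen G := by
    have h4 : orderOf i ∣ 2 ^ 1 := orderOf_dvd_of_pow_eq_one (by rw [pow_one]; exact hi.sq)
    obtain ⟨k, -, hk⟩ := (Nat.dvd_prime_pow Nat.prime_two).1 h4
    exact mem_twoGen hk
  have hirK : IsConj (⟨i, hiK⟩ : twoGen G) (⟨i, hiK⟩ : twoGen G)⁻¹ :=
    isConj_inv_of_sq (Subtype.ext hi.sq)
  have hiodd : Odd (cs (⟨i, hiK⟩ : twoGen G)) :=
    (hi.odd h h2).of_dvd_nat (cs_dvd_of_normal (twoGen G) ⟨i, hiK⟩)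
  have hi1 : cs (⟨i, hiK⟩ : twoGen G) ≠ 1 := by
    intro h4
    have h5 : Subgroup.centralizer ({(⟨i, hiK⟩ : twoGen G)} : Set (twoGen G)) = ⊤ :=
      Subgroup.index_eq_one.1 h4
    have h6 : (⟨x, hxK⟩ : twoGen G) ∈
        Subgroup.centralizer ({(⟨i, hiK⟩ : twoGen G)} : Set (twoGen G)) := by
      rw [h5]; exact Subgroup.mem_top _
    rw [Subgroup.mem_centralizer_singleton_iff] at h6
    exact hi.not_commute h h2 hxr hxo hx1 (mem_cl_self i) (congrArg Subtype.val h6)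
  obtain ⟨q, hq, hqi⟩ := Nat.exists_prime_and_dvd hi1
  have hq2 : q ≠ 2 := by
    rintro rfl
    exact (Nat.not_even_iff_odd.2 hiodd) (even_iff_two_dvd.2 hqi)
  refine ⟨{2}, {q | q.Prime ∧ q ≠ 2 ∧ ∃ n ∈ RealSizes (twoGen G), q ∣ n}, ⟨2, rfl⟩,
    ⟨q, hq, hq2, _, mem_realSizes hirK, hqi⟩, ?_, ?_, ?_, ?_⟩
  · rw [Set.disjoint_left]
    rintro a rfl ⟨-, h4, -⟩
    exact h4 rfl
  · rintro a (rfl | ⟨h4, -, h5⟩)
    · exact ⟨Nat.prime_two, _, mem_realSizes hxrK, hxe⟩
    · exact ⟨h4, h5⟩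
  · intro a ha hn
    by_cases h4 : a = 2
    · exact Or.inl h4
    · exact Or.inr ⟨ha, h4, hn⟩
  · rintro a rfl b ⟨hb, hb2, -⟩ n hn ⟨h4, h5⟩
    rcases hsizes n hn with h6 | ⟨j, rfl⟩
    · exact (Nat.not_even_iff_odd.2 h6) (even_iff_two_dvd.2 h4)
    · exact hb2 ((Nat.prime_dvd_prime_iff_eq hb Nat.prime_two).1 (hb.dvd_of_dvd_pow h5))

end Cfsg.Agent.H538.RealGraph
end

-- part: S4192
section
set_option autoImplicit false
open Cfsg

namespace Cfsg.Agent.S4192

open Cfsg.Agent.H538.RealGraph Cfsg.Agent.H538.NoRealP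

/-- Let G be a finite group; call an element real when it is conjugate to its inverse, and say that the real-class-size graph of a group is disconnected when the primes dividing its real class sizes split into two non-empty disjoint parts with no real class size divisible by a prime from each part. If the real-class-size graph of G is disconnected, then some real class size of G is even, and either the Sylow 2-subgroups of G are normal, or the subgroup K generated by the 2-elements of G (the smallest normal subgroup of odd index) again has a disconnected real-class-size graph and every real class size of K is odd or a power of 2. -/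
theorem result {G : Type*} [Group G] [Finite G] (h : (∃ π₁ π₂ : Set ℕ, π₁.Nonempty ∧ π₂.Nonempty ∧ Disjoint π₁ π₂ ∧ (∀ q ∈ π₁ ∪ π₂, q.Prime ∧ ∃ n ∈ {n : ℕ | ∃ x : G, IsConj x x⁻¹ ∧ (Subgroup.centralizer ({x} : Set G)).index = n}, q ∣ n) ∧ (∀ q : ℕ, q.Prime → (∃ n ∈ {n : ℕ | ∃ x : G, IsConj x x⁻¹ ∧ (Subgroup.centralizer ({x} : Set G)).index = n}, q ∣ n) → q ∈ π₁ ∨ q ∈ π₂) ∧ ∀ a ∈ π₁, ∀ b ∈ π₂, ∀ n ∈ {n : ℕ | ∃ x : G, IsConj x x⁻¹ ∧ (Subgroup.centralizer ({x} : Set G)).index = n}, ¬ (a ∣ n ∧ b ∣ n))) : (∃ n ∈ {n : ℕ | ∃ x : G, IsConj x x⁻¹ ∧ (Subgroup.centralizer ({x} : Set G)).index = n}, 2 ∣ n) ∧ ((∀ P : Sylow 2 G, (P : Subgroup G).Normal) ∨ ((∃ π₁ π₂ : Set ℕ, π₁.Nonempty ∧ π₂.Nonempty ∧ Disjoint π₁ π₂ ∧ (∀ q ∈ π₁ ∪ π₂, q.Prime ∧ ∃ n ∈ {n : ℕ | ∃ x : ↥(Subgroup.closure {g : G | ∃ k : ℕ, orderOf g = 2 ^ k}), IsConj x x⁻¹ ∧ (Subgroup.centralizer ({x} : Set ↥(Subgroup.closure {g : G | ∃ k : ℕ, orderOf g = 2 ^ k}))).index = n}, q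 ∣ n) ∧ (∀ q : ℕ, q.Prime → (∃ n ∈ {n : ℕ | ∃ x : ↥(Subgroup.closure {g : G | ∃ k : ℕ, orderOf g = 2 ^ k}), IsConj x x⁻¹ ∧ (Subgroup.centralizer ({x} : Set ↥(Subgroup.closure {g : G | ∃ k : ℕ, orderOf g = 2 ^ k}))).index = n}, q ∣ n) → q ∈ π₁ ∨ q ∈ π₂) ∧ ∀ a ∈ π₁, ∀ b ∈ π₂, ∀ n ∈ {n : ℕ | ∃ x : ↥(Subgroup.closure {g : G | ∃ k : ℕ, orderOf g = 2 ^ k}), IsConj x x⁻¹ ∧ (Subgroup.centralizer ({x} : Set ↥(Subgroup.closure {g : G | ∃ k : ℕ, orderOf g = 2 ^ k}))).index = n}, ¬ (a ∣ n ∧ b ∣ n)) ∧ ∀ n ∈ {n : ℕ | ∃ x : ↥(Subgroup.closure {g : G | ∃ k : ℕ, orderOf g = 2 ^ k}), IsConj x x⁻¹ ∧ (Subgroup.centralizer ({x} : Set ↥(Subgroup.closure {g : G | ∃ k : ℕ, orderOf g = 2 ^ k}))).index = n}, Odd n ∨ ∃ j : ℕ, n = 2 ^ j)) := by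
  obtain ⟨π₁, π₂, h1, h2, hd, hv, hc, hn⟩ := h
  have hD : Disc G π₁ π₂ := ⟨h1, h2, hd, hv, hc, hn⟩
  have hsol : Group.IsSolvable G :=
    Cfsg.Agent.S4187.result π₁ π₂ h1 h2 hc hv hd hn
  have key : ∀ ρ₁ ρ₂ : Set ℕ, Disc G ρ₁ ρ₂ → 2 ∈ ρ₁ →
      (∀ P : Sylow 2 G, (P : Subgroup G).Normal) ∨
        ((∃ σ₁ σ₂ : Set ℕ, Disc (twoGen G) σ₁ σ₂) ∧
          ∀ n ∈ RealSizes (twoGen G), Odd n ∨ ∃ j : ℕ, n = 2 ^ j) := by
    intro ρ₁ ρ₂ hρ hρ2
    by_cases hP : ∀ P : Sylow 2 G, (P : Subgroup G).Normal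
    · exact Or.inl hP
    · push Not at hP
      exact Or.inr (hρ.conclusion hρ2 hsol hP)
  have h2v : (∃ n ∈ RealSizes G, 2 ∣ n) ∧ ((∀ P : Sylow 2 G, (P : Subgroup G).Normal) ∨
        ((∃ σ₁ σ₂ : Set ℕ, Disc (twoGen G) σ₁ σ₂) ∧
          ∀ n ∈ RealSizes (twoGen G), Odd n ∨ ∃ j : ℕ, n = 2 ^ j)) := by
    rcases hD.two_mem with h3 | h3
    · exact ⟨(hD.vert 2 (Or.inl h3)).2, key π₁ π₂ hD h3⟩
    · exact ⟨(hD.vert 2 (Or.inr h3)).2, key π₂ π₁ hD.symm h3⟩
  obtain ⟨h3, h4⟩ := h2v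
  refine ⟨h3, ?_⟩
  rcases h4 with h4 | ⟨⟨σ₁, σ₂, hσ⟩, h5⟩
  · exact Or.inl h4
  · exact Or.inr ⟨⟨σ₁, σ₂, hσ.ne₁, hσ.ne₂, hσ.disj, hσ.vert, hσ.cover, hσ.noedge⟩, h5⟩

end Cfsg.Agent.S4192
end

private theorem dce_ae8acf9cc546 : _root_.True := by
  try have : _root_.True := by simp only [_root_.Cfsg.Agent.H538.NoRealP.twoGen.eq_1]
  exact _root_.True.intro
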