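import Mathlib
import Cfsg.Prelude.Def_Solvable
import Cfsg.Agent.H550.Kegel
import Cfsg.Agent.Lib.NormalAbelian
import Cfsg.Agent.H550.Hughes
import Cfsg.Agent.OddOrderLocal.CNBasic
import Cfsg.Agent.S0026
import Cfsg.Agent.Lib.SolvableMinNormal
import Cfsg.Agent.Lib.MinNormal
import Cfsg.Agent.SignalizersComponents.ComponentExists
import Cfsg.Prelude.Def_Involutions
import Cfsg.Prelude.Def_CaseTheorems
import Cfsg.Agent.Lib.Cores
import Cfsg.Agent.LieExceptional.CCEven
import Cfsg.Agent.SylowSp4.ExtTransfer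
import Cfsg.Agent.SignalizersComponents.DihedralIso
import Cfsg.Agent.Transfer.PGroupNormal
import Cfsg.Prelude.Def_Exceptional
import Cfsg.Agent.ClassicalGeometry.PSL2Basic
import Cfsg.Agent.Lib.NilpotentCoprime
import Cfsg.Agent.Cit.Nil.LO.NdField
import Cfsg.Agent.Lib.AutSL2
import Cfsg.Agent.Lib.PSL2Torus
import Cfsg.Prelude.Def_Sz
import Cfsg.Statements.S4248
import Cfsg.Agent.S0205
import Cfsg.Agent.S0340
import Cfsg.Agent.S0483
import Cfsg.Agent.S1221
import Cfsg.Agent.StrongEmb.Strong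
import Cfsg.Agent.ThreePrime.OrderThree
import Cfsg.Agent.FastGrp
import Cfsg.Agent.Prune
set_option linter.all false

section
prune_inst 0x7ffcb8f9afb8addedfff7e7fffd4dffe3994dfffffdff94bffe869ef8fdf030e09c52bad0de058fe0ec2609400b87853f9ffceffea6bdc7ffffd5ff41ffbee0ff5f7b508519488340fbc0fff03f0778e7f3fffffffffffffffffffffffffffbeffffffffffff

-- part: H550/Part/Normalize_mg
section
prune_inst 0x4602004000002000000000210000004000000000020000159210600020617220d00290048001d0358202300000000000000005000000000000004000001002080a850042300010426000f803087180c00000000000000000000000000041000000000000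
set_option linter.all false
open scoped Cfsg.Agent.FastGrp

-- part: H550/Part/Basic
section
/-!
# Invariant partitions of finite groups: basic facts

`IsPart S`: `S` is a set of nontrivial proper subgroups, invariant under conjugation, such that each
nontrivial element lies in exactly one of them.
-/

set_option autoImplicit false

namespace Cfsg.Agent.H550.Part

open Subgroup

universe u

/-- an invariant nontrivial partition. -/
structure IsPart {G : Type u} [Group G] (S : Set (Subgroup G)) : Prop where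
  ne_bot : ∀ H ∈ S, H ≠ ⊥
  cover : ∀ g : G, g ≠ 1 → ∃ H ∈ S, g ∈ H
  eq_of_mem : ∀ H ∈ S, ∀ K ∈ S, ∀ g : G, g ≠ 1 → g ∈ H → g ∈ K → H = K
  conj : ∀ H ∈ S, ∀ g : G, H.map (MulAut.conj g).toMonoidHom ∈ S
  top : ⊤ ∉ S

variable {G : Type u} [Group G] {S : Set (Subgroup G)}

theorem mul_pow_mem {X : Subgroup G} {g x : G} (hg : g ∈ normalizer (X : Set G)) (hx : x ∈ X)
    (n : ℕ) : (x * g) ^ n * (g ^ n)⁻¹ ∈ X := by
  induction n with
  | zero => simp
  | succ n ih =>
    have h1 : (x * g) ^ (n + 1) * (g ^ (n + 1))⁻¹ =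
        ((x * g) ^ n * (g ^ n)⁻¹) * (g ^ n * x * (g ^ n)⁻¹) := by
      rw [pow_succ, pow_succ]
      group
    rw [h1]
    refine mul_mem ih ?_
    exact (mem_normalizer_iff.1 (pow_mem hg n) x).1 hx

theorem IsPart.mem_of_pow (hS : IsPart S) {X : Subgroup G} (hX : X ∈ S) {y : G} {n : ℕ}
    (hy : y ^ n ∈ X) (hy1 : y ^ n ≠ 1) : y ∈ X := by
  have hy0 : y ≠ 1 := by
    rintro rfl
    exact hy1 (one_pow n)
  obtain ⟨Y, hY, hyY⟩ := hS.cover y hy0
  rw [hS.eq_of_mem X hX Y hY (y ^ n) hy1 hy (pow_mem hyY n)]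
  exact hyY

theorem IsPart.pow_eq_one (hS : IsPart S) {X : Subgroup G} (hX : X ∈ S) {y : G} {n : ℕ}
    (hyX : y ∉ X) (hy : y ^ n ∈ X) : y ^ n = 1 := by
  by_contra h
  exact hyX (hS.mem_of_pow hX hy h)

theorem IsPart.mem_normalizer (hS : IsPart S) {X : Subgroup G} (hX : X ∈ S) {x g : G}
    (hx : x ∈ X) (hx1 : x ≠ 1) (hg : g * x * g⁻¹ ∈ X) : g ∈ normalizer (X : Set G) := by
  rw [mem_normalizer_iff_map_conj_eq]
  refine hS.eq_of_mem _ (hS.conj X hX g) X hX (g * x * g⁻¹) ?_ ⟨x, hx, rfl⟩ hg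
  intro h
  apply hx1
  exact conj_eq_one_iff.1 h

theorem IsPart.mem_normalizer_of_commute (hS : IsPart S) {X : Subgroup G} (hX : X ∈ S) {x g : G}
    (hx : x ∈ X) (hx1 : x ≠ 1) (hg : g * x = x * g) : g ∈ normalizer (X : Set G) := by
  refine hS.mem_normalizer hX hx hx1 ?_
  rw [hg, mul_inv_cancel_right]
  exact hx

/-- The basic lemma of Baer. -/
theorem IsPart.prime_of_commute [Finite G] (hS : IsPart S) {X : Subgroup G} (hX : X ∈ S)
    {x y : G} (hx : x ∈ X) (hx1 : x ≠ 1) (hy : y ∉ X) (hxy : x * y = y * x) :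
    (orderOf x).Prime ∧ orderOf y = orderOf x := by
  have hc : Commute x y := hxy
  have hy1 : y ≠ 1 := by
    rintro rfl
    exact hy (one_mem X)
  -- general: commuting elements of different components have equal order
  have key : ∀ (A B : Subgroup G), A ∈ S → B ∈ S → ∀ a b : G, a ∈ A → a ≠ 1 → b ∈ B → b ∉ A →
      Commute a b → b ^ orderOf a = 1 := by
    intro A B hA hB a b ha ha1 hb hbA hab
    by_contra hne
    have h1 : (a * b) ^ orderOf a = b ^ orderOf a := by
      rw [hab.mul_pow, pow_orderOf_eq_one, one_mul]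
    have h2 : a * b ∈ B := by
      refine hS.mem_of_pow hB (n := orderOf a) ?_ ?_
      · rw [h1]; exact pow_mem hb _
      · rw [h1]; exact hne
    have h3 : a ∈ B := (mul_mem_cancel_right hb).1 h2
    have h4 := hS.eq_of_mem A hA B hB a ha1 ha h3
    exact hbA (h4 ▸ hb)
  obtain ⟨Y, hY, hyY⟩ := hS.cover y hy1
  have hxY : ∀ x' ∈ X, x' ≠ 1 → x' ∉ Y := by
    intro x' hx' hx1' h
    have h4 := hS.eq_of_mem X hX Y hY x' hx1' hx' h
    exact hy (h4 ▸ hyY)
  have heq : ∀ x' ∈ X, x' ≠ 1 → Commute x' y → orderOf x' = orderOf y := by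
    intro x' hx' hx1' hc'
    apply Nat.dvd_antisymm
    · exact orderOf_dvd_of_pow_eq_one (key Y X hY hX y x' hyY hy1 hx' (hxY x' hx' hx1') hc'.symm)
    · exact orderOf_dvd_of_pow_eq_one (key X Y hX hY x' y hx' hx1' hyY hy hc')
  have h1 := heq x hx hx1 hc
  refine ⟨?_, h1.symm⟩
  have hne1 : orderOf x ≠ 1 := fun h => hx1 (orderOf_eq_one_iff.1 h)
  obtain ⟨p, hp, hpd⟩ := Nat.exists_prime_and_dvd hne1
  obtain ⟨k, hk⟩ := hpd
  have hk0 : k ≠ 0 := by
    rintro rfl
    rw [mul_zero] at hk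
    exact (orderOf_pos x).ne' hk
  by_cases hxp : x ^ p = 1
  · have h3 := orderOf_dvd_of_pow_eq_one hxp
    rcases (Nat.dvd_prime hp).1 h3 with h4 | h4
    · exact absurd h4 hne1
    · rw [h4]; exact hp
  · exfalso
    have h3 := heq (x ^ p) (pow_mem hx p) hxp (hc.pow_left p)
    rw [← h1, orderOf_pow_of_dvd hp.ne_zero ⟨k, hk⟩, hk,
      Nat.mul_div_cancel_left _ hp.pos] at h3
    have h4 := hp.two_le
    nlinarith only [h3, h4, Nat.pos_of_ne_zero hk0]

theorem IsPart.mem_of_commute [Finite G] (hS : IsPart S) {X : Subgroup G} (hX : X ∈ S)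
    {x y : G} (hx : x ∈ X) (hx1 : x ≠ 1) (hxy : x * y = y * x) (hne : orderOf y ≠ orderOf x) :
    y ∈ X := by
  by_contra hy
  exact hne (hS.prime_of_commute hX hx hx1 hy hxy).2

/-- an element of prime order modulo `X`. -/
theorem exists_prime_pow_mem [Finite G] {X : Subgroup G} {g : G}
    (hg : g ∈ normalizer (X : Set G)) (hgX : g ∉ X) :
    ∃ h ∈ normalizer (X : Set G), h ∉ X ∧ ∃ t : ℕ, t.Prime ∧ h ^ t ∈ X := by
  classical
  have hex : ∃ n : ℕ, 0 < n ∧ g ^ n ∈ X :=
    ⟨orderOf g, orderOf_pos g, by rw [pow_orderOf_eq_one]; exact one_mem X⟩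
  obtain ⟨hn0, hnX⟩ := Nat.find_spec hex
  set n := Nat.find hex with hn
  have hn1 : n ≠ 1 := by
    intro h
    rw [h, pow_one] at hnX
    exact hgX hnX
  obtain ⟨p, hp, k, hk⟩ := Nat.exists_prime_and_dvd hn1
  refine ⟨g ^ k, pow_mem hg k, ?_, p, hp, ?_⟩
  · intro h
    have hk0 : 0 < k := by
      rcases Nat.eq_zero_or_pos k with h0 | h0
      · rw [h0, mul_zero] at hk; omega
      · exact h0
    have h1 := Nat.find_min' hex ⟨hk0, h⟩
    have h2 := hp.two_le
    rw [← hn, hk] at h1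
    nlinarith only [hk0, h1, h2]
  · rw [← pow_mul, mul_comm k p, ← hk]
    exact hnX

theorem IsPart.coset_pow (hS : IsPart S) {X : Subgroup G} (hX : X ∈ S) {g : G} {t : ℕ}
    (hg : g ∈ normalizer (X : Set G)) (hgX : g ∉ X) (hgt : g ^ t ∈ X) :
    ∀ x ∈ X, (x * g) ^ t = 1 := by
  intro x hx
  apply hS.pow_eq_one hX
  · intro h
    exact hgX ((mul_mem_cancel_left hx).1 h)
  · have h1 := mul_mem (mul_pow_mem hg hx t) hgt
    rwa [inv_mul_cancel_right] at h1

/-- Components that are not self-normalizing are nilpotent. -/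
theorem IsPart.isNilpotent [Finite G] (hS : IsPart S) {X : Subgroup G} (hX : X ∈ S)
    (h : ¬ normalizer (X : Set G) ≤ X) : Group.IsNilpotent X := by
  obtain ⟨g, hg, hgX⟩ := SetLike.not_le_iff_exists.1 h
  obtain ⟨k, hk, hkX, t, ht, hkt⟩ := exists_prime_pow_mem hg hgX
  exact Kegel.isNilpotent_of_coset ht _ G X k rfl hk (hS.coset_pow hX hk hkX hkt)

theorem IsPart.isFrobeniusComplement (hS : IsPart S) {X : Subgroup G} (hX : X ∈ S)
    (h : normalizer (X : Set G) ≤ X) : IsFrobeniusComplement X := by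
  refine ⟨hS.ne_bot X hX, ?_, ?_⟩
  · rintro rfl
    exact hS.top hX
  · intro g hg
    rw [eq_bot_iff]
    intro x hx
    rw [mem_bot]
    by_contra hx1
    obtain ⟨hx2, y, hy, hyx⟩ := hx
    have hyx' : g * y * g⁻¹ = x := hyx
    apply hg
    apply h
    refine hS.mem_normalizer hX (x := y) hy ?_ (by rw [hyx']; exact hx2)
    rintro rfl
    apply hx1
    rw [← hyx']
    group

/-- Nontrivial normal subgroups of nilpotent groups contain nontrivial central elements. -/
theorem exists_central {U A : Subgroup G} (hU : Group.IsNilpotent U) (hAU : A ≤ U)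
    (hn : U ≤ normalizer (A : Set G)) (hA : A ≠ ⊥) : ∃ a ∈ A, a ≠ 1 ∧ ∀ u ∈ U, u * a = a * u := by
  have h1 : (A.subgroupOf U).Normal := normal_subgroupOf_of_le_normalizer hn
  have h2 : A.subgroupOf U ≠ ⊥ := by
    rw [Ne, subgroupOf_eq_bot]
    intro h
    exact hA (disjoint_self.1 (h.mono_right hAU))
  have h3 := Cfsg.Agent.Lib.NormalAbelian.normal_inf_center_ne_bot (A.subgroupOf U) h2
  obtain ⟨a, ha1⟩ := (Subgroup.ne_bot_iff_exists_ne_one).1 h3
  refine ⟨((a : U) : G), a.2.1, ?_, ?_⟩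
  · intro h
    exact ha1 (Subtype.ext (Subtype.ext h))
  · intro u hu
    exact congrArg Subtype.val (mem_center_iff.1 a.2.2 ⟨u, hu⟩)

end Cfsg.Agent.H550.Part
end

-- part: H550/Part/NormalComp
section
/-!
# Invariant partitions with a normal component

If a component `X` is normal in `G` then `G` has a Frobenius complement, or `G` is generated by `X`
and elements of order `p`, the elements outside `X` having order `p`.
-/

set_option autoImplicit false

namespace Cfsg.Agent.H550.Part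

open Subgroup

universe u

variable {G : Type u} [Group G] [Finite G] {S : Set (Subgroup G)}

/-- A component `Y ≠ X` with `N_X(Y) = 1` is a Frobenius complement. -/
theorem IsPart.frobenius_of_inf (hS : IsPart S) {X Y : Subgroup G} [hXn : X.Normal] (hX : X ∈ S)
    (hY : Y ∈ S) (hXY : X ⊓ normalizer (Y : Set G) = ⊥) : IsFrobeniusComplement Y := by
  apply hS.isFrobeniusComplement hY
  by_contra hcon
  obtain ⟨g₀, hg₀, hg₀Y⟩ := SetLike.not_le_iff_exists.1 hcon
  obtain ⟨g, hg, hgY, t, ht, hgt⟩ := exists_prime_pow_mem hg₀ hg₀Y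
  have h1 := hS.coset_pow hY hg hgY hgt
  set! U : Subgroup G := X ⊔ Y with hU
  have hgU : g ∈ normalizer (U : Set G) := by
    have h2 : g ∈ normalizer (X : Set G) := by rw [normalizer_eq_top]; exact mem_top g
    rw [mem_normalizer_iff_map_conj_eq] at h2 hg ⊢
    rw [hU, Subgroup.map_sup, h2, hg]
  have hUt : ∀ u ∈ U, (u * g) ^ t = 1 := by
    intro u hu
    obtain ⟨x, hx, y, hy, rfl⟩ := mem_sup_of_normal_left.1 hu
    rw [mul_assoc]
    apply hS.pow_eq_one hX
    · intro h
      have h3 : y * g ∈ X := (mul_mem_cancel_left hx).1 h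
      have h4 : y * g ∈ X ⊓ normalizer (Y : Set G) :=
        ⟨h3, mul_mem (le_normalizer hy) hg⟩
      rw [hXY, mem_bot] at h4
      apply hgY
      have h5 : g = y⁻¹ * (y * g) := by group
      rw [h5, h4, mul_one]
      exact inv_mem hy
    · have h3 : y * g ∈ normalizer (X : Set G) := by rw [normalizer_eq_top]; exact mem_top _
      have h4 := mul_pow_mem h3 hx t
      rw [h1 y hy, inv_one, mul_one] at h4
      exact h4
  have hUnil := Kegel.isNilpotent_of_coset ht _ G U g rfl hgU hUt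
  obtain ⟨a, ha, ha1, hac⟩ := exists_central hUnil (le_sup_left : X ≤ U)
    (by rw [normalizer_eq_top]; exact le_top) (hS.ne_bot X hX)
  obtain ⟨y, hy, hy1⟩ := ((Y.bot_or_exists_ne_one).resolve_left (hS.ne_bot Y hY))
  have h3 : a ∈ normalizer (Y : Set G) :=
    hS.mem_normalizer_of_commute hY hy hy1 (hac y ((le_sup_right : Y ≤ U) hy)).symm
  have h4 : a ∈ X ⊓ normalizer (Y : Set G) := ⟨ha, h3⟩
  rw [hXY, mem_bot] at h4
  exact ha1 h4

omit [Finite G] in
theorem mem_of_two_pow {U : Subgroup G} {w : G} {r s : ℕ} (hr : r.Prime) (hs : s.Prime)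
    (hrs : s ≠ r) (hwr : w ^ r ∈ U) (hws : w ^ s = 1) : w ∈ U := by
  obtain ⟨m, n, hmn⟩ : IsCoprime (r : ℤ) (s : ℤ) :=
    Nat.isCoprime_iff_coprime.2 ((Nat.coprime_primes hr hs).2 hrs.symm)
  have h1 : w = (w ^ r) ^ m := by
    conv_lhs => rw [← zpow_one w, ← hmn, zpow_add, mul_comm m, mul_comm n, zpow_mul, zpow_mul,
      zpow_natCast, zpow_natCast, hws, one_zpow, mul_one]
  rw [h1]
  exact zpow_mem hwr m

/-- If no component is a Frobenius complement, the elements outside the normal component `X` have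
prime order, occurring in `X`. -/
theorem IsPart.prime_of_notMem (hS : IsPart S) {X : Subgroup G} [hXn : X.Normal] (hX : X ∈ S)
    (hall : ∀ Y ∈ S, Y ≠ X → X ⊓ normalizer (Y : Set G) ≠ ⊥) {y : G} (hy : y ∉ X) :
    (orderOf y).Prime ∧ ∃ x ∈ X, orderOf x = orderOf y := by
  have hy1 : y ≠ 1 := by
    rintro rfl
    exact hy (one_mem X)
  obtain ⟨Y, hY, hyY⟩ := hS.cover y hy1
  have hYX : Y ≠ X := by
    rintro rfl
    exact hy hyY
  obtain ⟨n, hn, hn1⟩ := ((X ⊓ normalizer (Y : Set G)).bot_or_exists_ne_one).resolve_left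
    (hall Y hY hYX)
  have hcomm : n * y = y * n := by
    have h1 : n * y * n⁻¹ * y⁻¹ ∈ Y :=
      mul_mem ((mem_normalizer_iff.1 hn.2 y).1 hyY) (inv_mem hyY)
    have h2 : n * y * n⁻¹ * y⁻¹ ∈ X := by
      have h3 : n * y * n⁻¹ * y⁻¹ = n * (y * n⁻¹ * y⁻¹) := by group
      rw [h3]
      exact mul_mem hn.1 (hXn.conj_mem _ (inv_mem hn.1) y)
    by_contra hne
    apply hYX
    refine hS.eq_of_mem Y hY X hX (n * y * n⁻¹ * y⁻¹) ?_ h1 h2
    intro h3
    apply hne
    have h4 : n * y * n⁻¹ * y⁻¹ * (y * n) = n * y := by group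
    rw [h3, one_mul] at h4
    exact h4.symm
  have h5 := hS.prime_of_commute hX hn.1 hn1 hy hcomm
  exact ⟨h5.2 ▸ h5.1, n, hn.1, h5.2.symm⟩

/-- If no component is a Frobenius complement, all elements outside the normal component `X` have
the same prime order. -/
theorem IsPart.exists_prime (hS : IsPart S) {X : Subgroup G} [hXn : X.Normal] (hX : X ∈ S)
    (hall : ∀ Y ∈ S, Y ≠ X → X ⊓ normalizer (Y : Set G) ≠ ⊥) :
    ∃ p : ℕ, p.Prime ∧ ∀ g : G, g ∉ X → g ^ p = 1 := by
  classical
  have hXtop : X ≠ ⊤ := by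
    rintro rfl
    exact hS.top hX
  have hprime := fun {y : G} (hy : y ∉ X) => hS.prime_of_notMem hX hall hy
  by_cases hXr : ∃ r : ℕ, r.Prime ∧ IsPGroup r X
  · obtain ⟨r, hr, hXr⟩ := hXr
    refine ⟨r, hr, ?_⟩
    intro g hg
    obtain ⟨h1, x, hx, hxg⟩ := hprime hg
    have hrf : Fact r.Prime := ⟨hr⟩
    obtain ⟨k, hk⟩ := (IsPGroup.iff_orderOf.1 hXr) ⟨x, hx⟩
    rw [Subgroup.orderOf_mk, hxg] at hk
    rw [hk] at h1
    have h2 : orderOf g = r := by
      rw [hk]
      rcases Nat.eq_zero_or_pos k with h0 | h0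
      · rw [h0, pow_zero] at h1
        exact absurd h1 Nat.not_prime_one
      · exact (Nat.Prime.eq_one_of_pow h1).symm ▸ pow_one r
    rw [← h2]
    exact pow_orderOf_eq_one g
  push Not at hXr
  have hcard1 : Nat.card (G ⧸ X) ≠ 1 := by
    intro h
    exact hXtop (Subgroup.index_eq_one.1 h)
  set! r : ℕ := (Nat.card (G ⧸ X)).minFac with hrdef
  have hr : r.Prime := Nat.minFac_prime hcard1
  have hrf : Fact r.Prime := ⟨hr⟩
  obtain ⟨P⟩ : Nonempty (Sylow r (G ⧸ X)) := inferInstance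
  set! L : Subgroup G := (P : Subgroup (G ⧸ X)).comap (QuotientGroup.mk' X) with hL
  have hXL : X ≤ L := by
    intro x hx
    change (QuotientGroup.mk' X) x ∈ (P : Subgroup (G ⧸ X))
    rw [show (QuotientGroup.mk' X) x = 1 from (QuotientGroup.eq_one_iff x).2 hx]
    exact one_mem _
  have hLr : ∀ g ∈ L, g ∉ X → g ^ r = 1 := by
    intro g hg hgX
    obtain ⟨h1, -⟩ := hprime hgX
    obtain ⟨k, hk⟩ := (isPGroup_iff_pow_pow_eq_one.1 P.2) ⟨_, hg⟩
    have h2 : (QuotientGroup.mk' X) g ^ r ^ k = 1 := congrArg Subtype.val hk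
    rw [← map_pow] at h2
    have h3 : g ^ r ^ k ∈ X := (QuotientGroup.eq_one_iff _).1 h2
    have h4 := hS.pow_eq_one hX hgX h3
    have h5 := h1.dvd_of_dvd_pow (orderOf_dvd_of_pow_eq_one h4)
    rw [← (Nat.prime_dvd_prime_iff_eq h1 hr).1 h5]
    exact pow_orderOf_eq_one g
  have hPne : (P : Subgroup (G ⧸ X)) ≠ ⊥ := by
    intro h
    have h2 := P.card_eq_multiplicity
    rw [h, Subgroup.card_bot] at h2
    have h3 : 0 < (Nat.card (G ⧸ X)).factorization r :=
      hr.factorization_pos_of_dvd Nat.card_pos.ne' (Nat.minFac_dvd _)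
    exact absurd h2.symm (Nat.one_lt_pow h3.ne' hr.one_lt).ne'
  obtain ⟨z, hzX, hzgen⟩ := Hughes.exists_generator (G := L) hr
    (fun h => hXr r hr (h.of_injective (inclusion hXL) (inclusion_injective hXL)))
    (X.subgroupOf L)
    (by
      intro h
      rw [Subgroup.subgroupOf_eq_top] at h
      apply hPne
      rw [eq_bot_iff]
      intro x hx
      obtain ⟨g, rfl⟩ := QuotientGroup.mk'_surjective X x
      exact (QuotientGroup.eq_one_iff g).2 (h hx))
    (by
      intro g hg
      exact Subtype.ext (hLr g g.2 hg))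
  have hzX' : (z : G) ∉ X := hzX
  set! zb : G ⧸ X := QuotientGroup.mk' X z with hzb
  have hPz : (P : Subgroup (G ⧸ X)) ≤ zpowers zb := by
    intro x hx
    obtain ⟨g, rfl⟩ := QuotientGroup.mk'_surjective X x
    have hg : (⟨g, hx⟩ : L) ∈ X.subgroupOf L ⊔ zpowers z := by rw [hzgen]; exact mem_top _
    obtain ⟨h, hh, y, ⟨k, rfl⟩, hk⟩ := mem_sup_of_normal_left.1 hg
    refine ⟨k, ?_⟩
    have h1 : (h : G) * ((z : G) ^ k) = g := by
      have := congrArg Subtype.val hk
      simpa only [_root_.Subgroup.coe_mul, _root_.SubgroupClass.coe_zpow] using this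
    have h2 : (QuotientGroup.mk' X) (h : G) = 1 := (QuotientGroup.eq_one_iff _).2 hh
    rw [← h1, map_mul, h2, one_mul, map_zpow]
  have hPc : IsCyclic (P : Subgroup (G ⧸ X)) :=
    Subgroup.isCyclic_of_le hPz
  have hcompl := IsCyclic.isComplement' (G := G ⧸ X) rfl (P := P) hPc
  set K : Subgroup (G ⧸ X) := (MonoidHom.transferSylow P (hPc.normalizer_le_centralizer rfl)).ker
    with hK
  have hKn : K.Normal := inferInstance
  have hKcop : ¬ r ∣ Nat.card K := by
    have h1 := P.not_dvd_index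
    rwa [hcompl.index_eq_card] at h1
  set! U : Subgroup G := K.comap (QuotientGroup.mk' X) with hU
  have hUn : U.Normal := hKn.comap _
  have hXU : X ≤ U := by
    intro x hx
    change (QuotientGroup.mk' X) x ∈ K
    rw [show (QuotientGroup.mk' X) x = 1 from (QuotientGroup.eq_one_iff x).2 hx]
    exact one_mem _
  have hzr : (z : G) ^ r = 1 := hLr z z.2 hzX'
  have hzU : (z : G) ∉ U := by
    intro h
    have h1 : zb ∈ K ⊓ (P : Subgroup (G ⧸ X)) := ⟨h, z.2⟩
    rw [hcompl.disjoint.eq_bot, mem_bot] at h1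
    exact hzX' ((QuotientGroup.eq_one_iff _).1 h1)
  have hUz : ∀ u ∈ U, (u * (z : G)) ^ r = 1 := by
    intro u hu
    have huz : u * (z : G) ∉ U := fun h => hzU ((mul_mem_cancel_left hu).1 h)
    obtain ⟨h1, -⟩ := hprime (fun h => huz (hXU h))
    have h2 : (u * (z : G)) ^ r ∈ U := by
      have h3 := mul_pow_mem (X := U) (g := (z : G)) (by rw [normalizer_eq_top]; exact mem_top _) hu r
      rwa [hzr, inv_one, mul_one] at h3
    by_cases hne : orderOf (u * (z : G)) = r
    · rw [← hne]; exact pow_orderOf_eq_one _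
    · exact absurd (mem_of_two_pow hr h1 hne h2 (pow_orderOf_eq_one _)) huz
  have hUnil := Kegel.isNilpotent_of_coset hr _ G U (z : G) rfl
    (by rw [normalizer_eq_top]; exact mem_top _) hUz
  have hUX : U ≤ X := by
    intro u hu
    by_contra huX
    obtain ⟨h1, -⟩ := hprime huX
    obtain ⟨h2, x, hx, hxz⟩ := hprime hzX'
    have hzo : orderOf (z : G) = r := by
      have h3 := orderOf_dvd_of_pow_eq_one hzr
      exact (Nat.prime_dvd_prime_iff_eq h2 hr).1 h3
    have hne : orderOf u ≠ r := by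
      intro h
      apply hKcop
      have h3 : orderOf ((QuotientGroup.mk' X) u) = r := by
        have h4 : orderOf ((QuotientGroup.mk' X) u) ∣ r := by
          rw [← h]
          exact orderOf_map_dvd _ _
        rcases (Nat.dvd_prime hr).1 h4 with h5 | h5
        · rw [orderOf_eq_one_iff] at h5
          exact absurd ((QuotientGroup.eq_one_iff u).1 h5) huX
        · exact h5
      rw [← h3]
      exact Subgroup.orderOf_dvd_natCard K hu
    have hx1 : x ≠ 1 := by
      rintro rfl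
      rw [orderOf_one] at hxz
      rw [← hxz] at h2
      exact Nat.not_prime_one h2
    have hcomm := OddOrderLocal.CNBasic.commute_of_mem_of_coprime hUnil (hXU hx) hu (by
      rw [hxz, hzo]
      exact (Nat.coprime_primes hr h1).2 (Ne.symm hne))
    have h6 := (hS.prime_of_commute hX hx hx1 huX hcomm.eq).2
    rw [hxz, hzo] at h6
    exact hne h6
  refine ⟨r, hr, ?_⟩
  intro g hg
  apply hLr g _ hg
  have hKbot : K = ⊥ := by
    rw [eq_bot_iff]
    intro x hx
    obtain ⟨g, rfl⟩ := QuotientGroup.mk'_surjective X x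
    exact (QuotientGroup.eq_one_iff g).2 (hUX hx)
  have hPtop : (P : Subgroup (G ⧸ X)) = ⊤ := by
    rw [hKbot] at hcompl
    exact Subgroup.isComplement'_bot_left.1 hcompl
  change _ ∈ (P : Subgroup (G ⧸ X))
  rw [hPtop]
  exact mem_top _

omit [Finite G] in
theorem hughes_of_forall {X : Subgroup G} (hX : X ≠ ⊤) {p : ℕ} (h : ∀ g : G, g ∉ X → g ^ p = 1) :
    _root_.Subgroup.closure {g : G | g ^ p ≠ 1} ≠ ⊤ := by
  intro htop
  apply hX
  rw [eq_top_iff, ← htop, closure_le]
  intro g hg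
  by_contra hgX
  exact hg (h g hgX)

/-- **An invariant partition with a normal component.** -/
theorem IsPart.concl_of_normal (hS : IsPart S) {X : Subgroup G} [hXn : X.Normal] (hX : X ∈ S) :
    (∃ p : ℕ, p.Prime ∧ _root_.Subgroup.closure {g : G | g ^ p ≠ 1} ≠ ⊤) ∨
      ∃ H : Subgroup G, IsFrobeniusComplement H := by
  by_cases hall : ∀ Y ∈ S, Y ≠ X → X ⊓ normalizer (Y : Set G) ≠ ⊥
  · left
    obtain ⟨p, hp, h⟩ := hS.exists_prime hX hall
    refine ⟨p, hp, hughes_of_forall ?_ h⟩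
    rintro rfl
    exact hS.top hX
  · right
    push Not at hall
    obtain ⟨Y, hY, -, hXY⟩ := hall
    exact ⟨Y, hS.frobenius_of_inf hX hY hXY⟩

end Cfsg.Agent.H550.Part
end

-- part: H550/Part/Elem
section
/-!
# Invariant partitions and normal elementary abelian subgroups

`A` is a normal elementary abelian `p`-subgroup of `G` not contained in a component.
-/

set_option autoImplicit false

namespace Cfsg.Agent.H550.Part

open Subgroup

universe u

variable {G : Type u} [Group G] [Finite G] {S : Set (Subgroup G)}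

omit [Finite G] in
theorem mem_of_coprime_pow {U : Subgroup G} {w : G} {m n : ℕ} (hmn : Nat.Coprime m n)
    (hm : w ^ m ∈ U) (hn : w ^ n ∈ U) : w ∈ U := by
  obtain ⟨a, b, hab⟩ : IsCoprime (m : ℤ) (n : ℤ) := Nat.isCoprime_iff_coprime.2 hmn
  have h1 : w = (w ^ m) ^ a * (w ^ n) ^ b := by
    conv_lhs => rw [← zpow_one w, ← hab, zpow_add, mul_comm a, mul_comm b, zpow_mul, zpow_mul,
      zpow_natCast, zpow_natCast]
  rw [h1]
  exact mul_mem (zpow_mem hm a) (zpow_mem hn b)

theorem exists_prime_order_of_not_isPGroup {p : ℕ} (hp : p.Prime) {X : Subgroup G}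
    (hX : ¬ IsPGroup p X) : ∃ w ∈ X, (orderOf w).Prime ∧ orderOf w ≠ p := by
  have hpf : Fact p.Prime := ⟨hp⟩
  obtain ⟨q, hq, hqp, hqX⟩ : ∃ q : ℕ, q.Prime ∧ q ≠ p ∧ q ∣ Nat.card X := by
    by_contra hcon
    push Not at hcon
    apply hX
    rw [IsPGroup.iff_card]
    refine ⟨_, Nat.eq_prime_pow_of_unique_prime_dvd Nat.card_pos.ne' ?_⟩
    intro d hd hdvd
    by_contra hne
    exact hcon d hd hne hdvd
  have hqf : Fact q.Prime := ⟨hq⟩
  obtain ⟨w, hw⟩ := exists_prime_orderOf_dvd_card' q hqX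
  rw [← Subgroup.orderOf_coe] at hw
  exact ⟨w, w.2, hw ▸ hq, hw ▸ hqp⟩

/-- the hypothesis on `A`. -/
structure Elem (S : Set (Subgroup G)) (A : Subgroup G) (p : ℕ) : Prop where
  prime : p.Prime
  normal : A.Normal
  comm : ∀ a ∈ A, ∀ b ∈ A, a * b = b * a
  pow : ∀ a ∈ A, a ^ p = 1
  ne_bot : A ≠ ⊥
  notLe : ∀ X ∈ S, ¬ A ≤ X

variable {A : Subgroup G} {p : ℕ}

omit [Finite G] in
theorem Elem.isPGroup (hA : Elem S A p) : IsPGroup p A := by
  have hpf : Fact p.Prime := ⟨hA.prime⟩
  rw [isPGroup_iff_pow_pow_eq_one]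
  intro a
  exact ⟨1, Subtype.ext (by rw [pow_one]; exact hA.pow a a.2)⟩

omit [Finite G] in
theorem Elem.orderOf_eq (hA : Elem S A p) {a : G} (ha : a ∈ A) (ha1 : a ≠ 1) : orderOf a = p := by
  have hpf : Fact p.Prime := ⟨hA.prime⟩
  exact orderOf_eq_prime_iff.2 ⟨hA.pow a ha, ha1⟩

/-- components meeting `A` are `p`-groups. -/
theorem Elem.isPGroup_of_inf (hS : IsPart S) (hA : Elem S A p) {X : Subgroup G} (hX : X ∈ S)
    (hXA : X ⊓ A ≠ ⊥) : IsPGroup p X := by
  by_contra hcon
  have hAn := hA.normal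
  obtain ⟨w, hw, hwq, hwp⟩ := exists_prime_order_of_not_isPGroup hA.prime hcon
  have hw1 : w ≠ 1 := by
    rintro rfl
    rw [orderOf_one] at hwq
    exact Nat.not_prime_one hwq
  obtain ⟨c, hc, hc1⟩ := ((X ⊓ A).bot_or_exists_ne_one).resolve_left hXA
  have hAX : A ≤ normalizer (X : Set G) := by
    intro a ha
    exact hS.mem_normalizer_of_commute hX hc.1 hc1 (hA.comm a ha c hc.2)
  have hpf : Fact p.Prime := ⟨hA.prime⟩
  have hcop : (Nat.card (zpowers w)).Coprime (Nat.card A) := by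
    rw [Nat.card_zpowers]
    obtain ⟨n, hn⟩ := IsPGroup.iff_card.mp hA.isPGroup
    rw [hn]
    exact Nat.Coprime.pow_right n ((Nat.coprime_primes hwq hA.prime).2 hwp)
  have key := Cfsg.Agent.S0026.result (zpowers w) A (by rw [normalizer_eq_top]; exact le_top) hcop
    (Or.inl (Group.isSolvable_of_comm (fun a b => mul_comm' a b)))
  obtain ⟨a, ha, haX⟩ : ∃ a ∈ A ⊓ centralizer (zpowers w : Set G), a ∉ X := by
    by_contra hcon2
    push Not at hcon2
    apply hA.notLe X hX
    rw [← key]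
    refine sup_le ?_ hcon2
    rw [commutator_le]
    intro a ha w' hw'
    rw [commutatorElement_def]
    have hw'X : w' ∈ X := (zpowers_le.2 hw) hw'
    exact mul_mem ((mem_normalizer_iff.1 (hAX ha) w').1 hw'X) (inv_mem hw'X)
  have hcomm : w * a = a * w := mem_centralizer_iff.1 ha.2 w (mem_zpowers w)
  have h1 := (hS.prime_of_commute hX hw hw1 haX hcomm).2
  have ha1 : a ≠ 1 := by
    rintro rfl
    exact haX (one_mem X)
  rw [hA.orderOf_eq ha.1 ha1] at h1
  exact hwp h1.symm

theorem Elem.inf_normalizer (hS : IsPart S) (hA : Elem S A p) {X : Subgroup G} (hX : X ∈ S)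
    (hXp : ¬ IsPGroup p X) {n : G} (hnA : n ∈ A) (hn : n ∈ normalizer (X : Set G)) : n = 1 := by
  by_contra hn1
  have hAn := hA.normal
  have hpf : Fact p.Prime := ⟨hA.prime⟩
  have hXA : X ⊓ A = ⊥ := by
    by_contra h
    exact hXp (hA.isPGroup_of_inf hS hX h)
  apply hXp
  rw [isPGroup_iff_pow_pow_eq_one]
  intro x
  refine ⟨1, Subtype.ext ?_⟩
  rw [pow_one]
  change (x : G) ^ p = 1
  by_cases hx1 : (x : G) = 1
  · rw [hx1, one_pow]
  have h1 : n * x * n⁻¹ * (x : G)⁻¹ ∈ X ⊓ A := by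
    refine mem_inf.2 ⟨mul_mem ((mem_normalizer_iff.1 hn x).1 x.2) (inv_mem x.2), ?_⟩
    have h3 : n * x * n⁻¹ * (x : G)⁻¹ = n * (x * n⁻¹ * (x : G)⁻¹) := by group
    rw [h3]
    exact mul_mem hnA (hAn.conj_mem _ (inv_mem hnA) x)
  rw [hXA, mem_bot] at h1
  have h2 : (x : G) * n = n * x := by
    have h4 : n * x * n⁻¹ * (x : G)⁻¹ * (x * n) = n * x := by group
    rw [h1, one_mul] at h4
    exact h4
  have hnX : n ∉ X := by
    intro h
    have h5 : n ∈ X ⊓ A := ⟨h, hnA⟩
    rw [hXA, mem_bot] at h5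
    exact hn1 h5
  have h6 := (hS.prime_of_commute hX x.2 hx1 hnX h2).2
  rw [hA.orderOf_eq hnA hn1] at h6
  rw [h6]
  exact pow_orderOf_eq_one _

theorem Elem.eq_one_of_pow (hS : IsPart S) (hA : Elem S A p) {X : Subgroup G} (hX : X ∈ S)
    (hXp : ¬ IsPGroup p X) {x : G} (hx : x ∈ X) (hxp : x ^ p = 1) : x = 1 := by
  by_contra hx1
  have hAn := hA.normal
  have hpf : Fact p.Prime := ⟨hA.prime⟩
  have h1 : IsPGroup p (zpowers x) := by
    rw [isPGroup_iff_pow_pow_eq_one]
    rintro ⟨_, k, rfl⟩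
    refine ⟨1, Subtype.ext ?_⟩
    change (x ^ k) ^ p ^ 1 = 1
    rw [pow_one, ← zpow_natCast, ← zpow_mul, mul_comm, zpow_mul, zpow_natCast, hxp, one_zpow]
  have h2 : IsPGroup p (A ⊔ zpowers x : Subgroup G) := hA.isPGroup.to_sup_of_normal_left h1
  obtain ⟨a, ha, ha1, hac⟩ := exists_central h2.isNilpotent (le_sup_left : A ≤ A ⊔ zpowers x)
    (by rw [normalizer_eq_top]; exact le_top) hA.ne_bot
  have h3 := hac x ((le_sup_right : zpowers x ≤ A ⊔ zpowers x) (mem_zpowers x))
  exact ha1 (hA.inf_normalizer hS hX hXp ha (hS.mem_normalizer_of_commute hX hx hx1 h3.symm))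

theorem Elem.not_nilpotent (hS : IsPart S) (hA : Elem S A p) {X : Subgroup G} (hX : X ∈ S)
    (hXp : ¬ IsPGroup p X) (hnil : Group.IsNilpotent (A ⊔ X : Subgroup G)) : False := by
  have hAn := hA.normal
  obtain ⟨a, ha, ha1, hac⟩ := exists_central hnil (le_sup_left : A ≤ A ⊔ X)
    (by rw [normalizer_eq_top]; exact le_top) hA.ne_bot
  obtain ⟨x, hx, hx1⟩ := ((X).bot_or_exists_ne_one).resolve_left (hS.ne_bot X hX)
  have h3 := hac x ((le_sup_right : X ≤ A ⊔ X) hx)
  exact ha1 (hA.inf_normalizer hS hX hXp ha (hS.mem_normalizer_of_commute hX hx hx1 h3.symm))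

omit [Finite G] in
theorem Elem.sup_normalizer (hA : Elem S A p) {X : Subgroup G} {g : G}
    (hg : g ∈ normalizer (X : Set G)) : g ∈ normalizer ((A ⊔ X : Subgroup G) : Set G) := by
  have hAn := hA.normal
  have h2 : g ∈ normalizer (A : Set G) := by rw [normalizer_eq_top]; exact mem_top g
  rw [mem_normalizer_iff_map_conj_eq] at h2 hg ⊢
  rw [Subgroup.map_sup, h2, hg]

/-- `N_G(X) / X` is a `p`-group. -/
theorem Elem.prime_eq (hS : IsPart S) (hA : Elem S A p) {X : Subgroup G} (hX : X ∈ S)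
    (hXp : ¬ IsPGroup p X) {g : G} (hg : g ∈ normalizer (X : Set G)) (hgX : g ∉ X) {t : ℕ}
    (ht : t.Prime) (hgt : g ^ t ∈ X) : t = p := by
  by_contra htp
  have hAn := hA.normal
  have hxg := hS.coset_pow hX hg hgX hgt
  refine hA.not_nilpotent hS hX hXp
    (Kegel.isNilpotent_of_coset ht _ G _ g rfl (hA.sup_normalizer hg) ?_)
  intro u hu
  obtain ⟨a, ha, x, hx, rfl⟩ := mem_sup_of_normal_left.1 hu
  rw [mul_assoc]
  by_contra hne
  have h1 : (a * (x * g)) ^ t ∈ A := by
    have h4 := mul_pow_mem (X := A) (g := x * g) (by rw [normalizer_eq_top]; exact mem_top _) ha t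
    rw [hxg x hx, inv_one, mul_one] at h4
    exact h4
  have hw1 : a * (x * g) ≠ 1 := by
    intro h
    rw [h, one_pow] at hne
    exact hne rfl
  obtain ⟨W, hW, hwW⟩ := hS.cover _ hw1
  have hWp : IsPGroup p W := hA.isPGroup_of_inf hS hW (by
    intro h
    have h2 : (a * (x * g)) ^ t ∈ W ⊓ A := ⟨pow_mem hwW t, h1⟩
    rw [h, mem_bot] at h2
    exact hne h2)
  obtain ⟨k, hk⟩ := (isPGroup_iff_pow_pow_eq_one.1 hWp) ⟨_, hwW⟩
  have hk' : (a * (x * g)) ^ p ^ k = 1 := congrArg Subtype.val hk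
  have h2 : a * (x * g) ∈ A := by
    refine mem_of_coprime_pow (m := t) (n := p ^ k) ?_ h1 (by rw [hk']; exact one_mem A)
    exact Nat.Coprime.pow_right k ((Nat.coprime_primes ht hA.prime).2 htp)
  have h3 : x * g ∈ A := (mul_mem_cancel_left ha).1 h2
  have h4 := hA.inf_normalizer hS hX hXp h3 (mul_mem (le_normalizer hx) hg)
  apply hgX
  have h5 : g = x⁻¹ * (x * g) := by group
  rw [h5, h4, mul_one]
  exact inv_mem hx

end Cfsg.Agent.H550.Part
end

-- part: H550/Part/Elem2
section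
/-!
# Invariant partitions and normal elementary abelian subgroups, II

If some component which is not a `p`-group is not self-normalizing, then `p = 2` and `|A| = 4`.
-/

set_option autoImplicit false

namespace Cfsg.Agent.H550.Part

open Subgroup

universe u

variable {G : Type u} [Group G] [Finite G] {S : Set (Subgroup G)} {A : Subgroup G} {p : ℕ}

omit [Finite G] in
open scoped IsMulCommutative in
/-- the norm map `a ↦ (a g)^p`. -/
theorem Elem.exists_norm (hA : Elem S A p) {g : G} (hg : g ^ p = 1) :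
    ∃ ν : A → G, (∀ a : A, ν a = (a * g) ^ p) ∧ (∀ a b : A, ν (a * b) = ν a * ν b) ∧
      ∀ a : A, ν a ∈ A := by
  have hAn := hA.normal
  have hAc : IsMulCommutative A := ⟨⟨fun a b => Subtype.ext (hA.comm a a.2 b b.2)⟩⟩
  refine ⟨fun a => ((∏ i ∈ Finset.range p, ((MulAut.conjNormal g : MulAut A) ^ i) a : A) : G), ?_,
    ?_, ?_⟩
  · intro a
    rw [KegelSum.mul_pow_eq A a g p, hg, mul_one]
  · intro a b
    simp only [map_mul, Finset.prod_mul_distrib, Subgroup.coe_mul]
  · intro a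
    exact Subtype.prop _

theorem Elem.main (hS : IsPart S) (hA : Elem S A p) {X : Subgroup G} (hX : X ∈ S)
    (hXp : ¬ IsPGroup p X) (hXn : ¬ normalizer (X : Set G) ≤ X) :
    p = 2 ∧ Nat.card A = 4 ∧ ∃ g ∈ normalizer (X : Set G), g ∉ X ∧ g ^ 2 = 1 := by
  classical
  have hAn := hA.normal
  have hpf : Fact p.Prime := ⟨hA.prime⟩
  obtain ⟨g₀, hg₀, hg₀X⟩ := SetLike.not_le_iff_exists.1 hXn
  obtain ⟨g, hg, hgX, t, ht, hgt⟩ := exists_prime_pow_mem hg₀ hg₀X
  have htp := hA.prime_eq hS hX hXp hg hgX ht hgt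
  subst htp
  have hxg := hS.coset_pow hX hg hgX hgt
  have hgp : g ^ t = 1 := by
    have := hxg 1 (one_mem X)
    rwa [one_mul] at this
  -- `C_X(g) = 1`
  have hCX : ∀ c ∈ X, c * g = g * c → c = 1 := by
    intro c hc hcg
    apply hA.eq_one_of_pow hS hX hXp hc
    have h1 := hxg c hc
    have h2 : Commute c g := hcg
    rw [h2.mul_pow, hgp, mul_one] at h1
    exact h1
  -- all elements of `X g` are conjugate to `g` under `X`
  have hconj : ∀ x ∈ X, ∃ y ∈ X, x * g = y * g * y⁻¹ := by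
    have hmem : ∀ y : X, (y : G) * (g * (y : G)⁻¹ * g⁻¹) ∈ X := fun y =>
      mul_mem y.2 ((mem_normalizer_iff.1 hg _).1 (inv_mem y.2))
    have hinj : Function.Injective (fun y : X => (⟨(y : G) * (g * (y : G)⁻¹ * g⁻¹), hmem y⟩ : X)) := by
      intro a b hab
      have h1 : (a : G) * (g * (a : G)⁻¹ * g⁻¹) = (b : G) * (g * (b : G)⁻¹ * g⁻¹) :=
        congrArg Subtype.val hab
      have h2 : ((b : G)⁻¹ * a) * g = g * ((b : G)⁻¹ * a) := by
        have h3 : ((b : G)⁻¹ * a) * g = (b : G)⁻¹ * ((a : G) * (g * (a : G)⁻¹ * g⁻¹)) * g * a := by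
          group
        rw [h3, h1]
        group
      have h4 := hCX _ (mul_mem (inv_mem b.2) a.2) h2
      exact Subtype.ext (inv_mul_eq_one.1 h4).symm
    intro x hx
    obtain ⟨y, hy⟩ := (Finite.injective_iff_surjective.1 hinj) ⟨x, hx⟩
    refine ⟨y, y.2, ?_⟩
    have h1 : (y : G) * (g * (y : G)⁻¹ * g⁻¹) = x := congrArg Subtype.val hy
    rw [← h1]
    group
  obtain ⟨ν, hν, hνmul, hνA⟩ := hA.exists_norm hgp
  obtain ⟨a₀, ha₀⟩ : ∃ a₀ : A, ν a₀ ≠ 1 := by
    by_contra hcon
    push Not at hcon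
    refine hA.not_nilpotent hS hX hXp
      (Kegel.isNilpotent_of_coset ht _ G _ g rfl (hA.sup_normalizer hg) ?_)
    intro u hu
    obtain ⟨a, ha, x, hx, rfl⟩ := mem_sup_of_normal_left.1 hu
    obtain ⟨y, hy, hxy⟩ := hconj x hx
    have h1 : a * x * g = y * ((y⁻¹ * a * y⁻¹⁻¹) * g) * y⁻¹ := by
      rw [mul_assoc, hxy]
      group
    rw [h1, conj_pow]
    have h2 := hcon ⟨y⁻¹ * a * y⁻¹⁻¹, hAn.conj_mem a ha y⁻¹⟩
    rw [hν] at h2
    rw [h2]
    group
  -- the component containing `c = ν a₀`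
  set c : G := ν a₀ with hc
  have hcA : c ∈ A := hνA a₀
  obtain ⟨W, hW, hcW⟩ := hS.cover c ha₀
  have hcg : c * g = g * c := by
    have h1 : c * (a₀ * g) = (a₀ * g) * c := by
      rw [hc, hν]
      exact (Commute.refl ((a₀ : G) * g)).pow_left t |>.eq
    have h2 : c * a₀ = a₀ * c := hA.comm c hcA a₀ a₀.2
    have h3 : a₀ * (c * g) = a₀ * (g * c) := by
      rw [← mul_assoc, ← h2, mul_assoc, h1, mul_assoc]
    exact mul_left_cancel h3
  have hin : ∀ a : A, ν a ≠ 1 → (a : G) * g ∈ W := by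
    intro a ha
    apply hS.mem_of_commute hW hcW ha₀
    · rw [← mul_assoc, hA.comm c hcA a a.2, mul_assoc, hcg, mul_assoc]
    · rw [hA.orderOf_eq hcA ha₀]
      intro h
      apply ha
      rw [hν, ← h]
      exact pow_orderOf_eq_one _
  have hdiff : ∀ a b : A, ν a ≠ 1 → ν b ≠ 1 → (a : G) * (b : G)⁻¹ ∈ W := by
    intro a b ha hb
    have h1 := mul_mem (hin a ha) (inv_mem (hin b hb))
    have h2 : (a : G) * g * ((b : G) * g)⁻¹ = (a : G) * (b : G)⁻¹ := by group
    rwa [h2] at h1
  obtain ⟨a₁', ha₁A, ha₁W⟩ := SetLike.not_le_iff_exists.1 (hA.notLe W hW)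
  set! a₁ : A := ⟨a₁', ha₁A⟩ with ha₁
  have hν1 : ν a₁ ≠ 1 := by
    intro h
    apply ha₁W
    have h1 : ν (a₁ * a₀) ≠ 1 := by
      rw [hνmul, h, one_mul]
      exact ha₀
    have h2 := hdiff (a₁ * a₀) a₀ h1 ha₀
    have h3 : ((a₁ * a₀ : A) : G) * (a₀ : G)⁻¹ = a₁' := by
      rw [Subgroup.coe_mul, mul_inv_cancel_right]
    rwa [h3] at h2
  have hνb : ∀ b : A, ν b ≠ 1 → ν a₁ * ν b = 1 := by
    intro b hb
    by_contra hne
    apply ha₁W
    rw [← hνmul] at hne
    have h2 := hdiff (a₁ * b) b hne hb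
    have h3 : ((a₁ * b : A) : G) * (b : G)⁻¹ = a₁' := by
      rw [Subgroup.coe_mul, mul_inv_cancel_right]
    rwa [h3] at h2
  have hp2 : t = 2 := by
    have h1 : (ν a₁) ^ 2 = 1 := by rw [pow_two]; exact hνb a₁ hν1
    have h2 : orderOf (ν a₁) = t := hA.orderOf_eq (hνA a₁) hν1
    have h3 := orderOf_dvd_of_pow_eq_one h1
    rw [h2] at h3
    exact (Nat.prime_dvd_prime_iff_eq ht Nat.prime_two).1 h3
  subst hp2
  refine ⟨rfl, ?_, g, hg, hgX, hgp⟩
  -- `C_A(g)` has index at most 2
  have hgg : g * g = 1 := by rw [← pow_two]; exact hgp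
  have hAA : ∀ a ∈ A, a * a = 1 := fun a ha => by rw [← pow_two]; exact hA.pow a ha
  have hcent : ∀ a : A, ν a = 1 → (a : G) ∈ centralizer ({g} : Set G) := by
    intro a ha
    rw [mem_centralizer_singleton_iff]
    rw [hν, pow_two] at ha
    have h1 := hAA a a.2
    have h2 : (a : G) * g * (a * g) = 1 := ha
    have h3 : (a : G) * g = ((a : G) * g)⁻¹ := eq_inv_of_mul_eq_one_left h2
    rw [mul_inv_rev] at h3
    have h4 : g⁻¹ = g := inv_eq_of_mul_eq_one_left hgg
    have h5 : (a : G)⁻¹ = a := inv_eq_of_mul_eq_one_left h1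
    rw [h4, h5] at h3
    exact h3
  set D : Subgroup G := centralizer ({g} : Set G) with hD
  have hD2 : D.relIndex A = 2 := by
    rw [relIndex_eq_two_iff_exists_notMem_and']
    refine ⟨a₁', ha₁A, ?_, ?_⟩
    · intro h
      apply hν1
      have h1 : a₁' * g = g * a₁' := mem_centralizer_singleton_iff.1 h
      have h2 : Commute a₁' g := h1
      rw [hν]
      change (a₁' * g) ^ 2 = 1
      rw [h2.mul_pow, hgp, hA.pow a₁' ha₁A, one_mul]
    · intro b hb
      by_cases h : ν ⟨b, hb⟩ = 1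
      · exact Or.inr (hcent _ h)
      · left
        have h2 := hνb ⟨b, hb⟩ h
        rw [← hνmul] at h2
        exact hcent _ h2
  obtain ⟨x, hx, hx1⟩ := ((X).bot_or_exists_ne_one).resolve_left (hS.ne_bot X hX)
  set! D' : Subgroup G := D.map (MulAut.conj x).toMonoidHom with hD'
  have hD'2 : D'.relIndex A = 2 := by
    have h1 : A.map (MulAut.conj x).toMonoidHom = A :=
      mem_normalizer_iff_map_conj_eq.1 (by rw [normalizer_eq_top]; exact mem_top x)
    conv_lhs => rw [← h1]
    rw [hD', relIndex_map_map_of_injective _ _ (MulAut.conj x).injective, hD2]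
  have hinf : (D ⊓ D') ⊓ A = ⊥ := by
    rw [eq_bot_iff]
    intro b hb
    obtain ⟨⟨hbD, hbD'⟩, hbA⟩ := hb
    obtain ⟨d, hd, hdb⟩ := hbD'
    have hdb' : x * d * x⁻¹ = b := hdb
    have hdg : d * g = g * d := mem_centralizer_singleton_iff.1 hd
    have hbg : b * g = g * b := mem_centralizer_singleton_iff.1 hbD
    have hbg' : b * (x * g * x⁻¹) = (x * g * x⁻¹) * b := by
      rw [← hdb']
      have h1 : x * d * x⁻¹ * (x * g * x⁻¹) = x * (d * g) * x⁻¹ := by group
      rw [h1, hdg]
      group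
    have he : x * (g * x⁻¹ * g⁻¹) ∈ X :=
      mul_mem hx ((mem_normalizer_iff.1 hg _).1 (inv_mem hx))
    have he1 : x * (g * x⁻¹ * g⁻¹) ≠ 1 := by
      intro h
      apply hx1
      apply hCX x hx
      have h1 : x * (g * x⁻¹ * g⁻¹) * (g * x) = x * g := by group
      rw [h, one_mul] at h1
      exact h1.symm
    have hbe : b * (x * (g * x⁻¹ * g⁻¹)) = (x * (g * x⁻¹ * g⁻¹)) * b := by
      have h1 : x * (g * x⁻¹ * g⁻¹) = (x * g * x⁻¹) * g⁻¹ := by group
      have h2 : Commute b (x * g * x⁻¹) := hbg'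
      have h3 : Commute b g := hbg
      rw [h1]
      exact (h2.mul_right h3.inv_right).eq
    exact hA.inf_normalizer hS hX hXp hbA (hS.mem_normalizer_of_commute hX he he1 hbe)
  have hle4 : Nat.card A ≤ 4 := by
    have h1 := relIndex_inf_le (H := D) (K := D') (L := A)
    rw [hD2, hD'2, ← inf_relIndex_right, hinf, relIndex_bot_left] at h1
    exact h1
  obtain ⟨n, hn⟩ := IsPGroup.iff_card.mp hA.isPGroup
  have hAcard1 : Nat.card A ≠ 1 := fun h => hA.ne_bot (Subgroup.eq_bot_of_card_eq A h)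
  have hAcard2 : Nat.card A ≠ 2 := by
    intro h
    -- the unique nontrivial element of `A` commutes with `x`
    obtain ⟨a, ha, ha1⟩ := (A.bot_or_exists_ne_one).resolve_left hA.ne_bot
    have h1 : x * a * x⁻¹ ∈ A := hAn.conj_mem a ha x
    have h2 : x * a * x⁻¹ ≠ 1 := fun h => ha1 (conj_eq_one_iff.1 h)
    have h3 : x * a * x⁻¹ = a := by
      obtain ⟨y, -, hy⟩ := (Nat.card_eq_two_iff' (1 : A)).1 h
      have h4 := hy ⟨x * a * x⁻¹, h1⟩ (fun h => h2 (congrArg Subtype.val h))
      have h5 := hy ⟨a, ha⟩ (fun h => ha1 (congrArg Subtype.val h))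
      exact congrArg Subtype.val (h4.trans h5.symm)
    have h6 : a * x = x * a := (mul_inv_eq_iff_eq_mul.1 h3).symm
    exact ha1 (hA.inf_normalizer hS hX hXp ha (hS.mem_normalizer_of_commute hX hx hx1 h6))
  rw [hn] at hle4 hAcard1 hAcard2 ⊢
  have hn2 : n ≤ 2 := by
    by_contra h
    push Not at h
    have h1 : 2 ^ 3 ≤ 2 ^ n := Nat.pow_le_pow_right (by norm_num) h
    omega
  interval_cases n <;> omega

end Cfsg.Agent.H550.Part
end

-- part: H550/Part/SFour
section
/-!
# Invariant partitions and normal elementary abelian subgroups, III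

The conclusion: `G` has a Frobenius complement, or a proper Hughes subgroup, or is `S₄`.
-/

set_option autoImplicit false

namespace Cfsg.Agent.H550.Part

open Subgroup

universe u

variable {G : Type u} [Group G] [Finite G] {S : Set (Subgroup G)} {A : Subgroup G} {p : ℕ}

theorem card_mulAut_le {A : Type*} [Group A] [Finite A] (h : Nat.card A = 4) :
    Nat.card (MulAut A) ≤ 6 := by
  classical
  have := Fintype.ofFinite A
  let f : MulAut A → Equiv.Perm {a : A // a ≠ 1} := fun σ =>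
    σ.toEquiv.subtypeEquiv (fun a => by
      change a ≠ 1 ↔ σ a ≠ 1
      rw [Ne, Ne, map_eq_one_iff σ σ.injective])
  have hf : Function.Injective f := by
    intro σ τ hστ
    ext a
    by_cases ha : a = 1
    · rw [ha, map_one, map_one]
    · exact congrArg (fun e : Equiv.Perm {a : A // a ≠ 1} => ((e ⟨a, ha⟩ : {a : A // a ≠ 1}) : A)) hστ
  have h1 := Nat.card_le_card_of_injective f hf
  have h2 : Nat.card (Equiv.Perm {a : A // a ≠ 1}) = 6 := by
    rw [Nat.card_perm, Nat.card_eq_fintype_card, Fintype.card_subtype_compl, Fintype.card_subtype_eq,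
      ← Nat.card_eq_fintype_card, h]
    rfl
  rwa [h2] at h1

theorem Elem.perm_four (hS : IsPart S) (hA : Elem S A p) {X : Subgroup G} (hX : X ∈ S)
    (hXp : ¬ IsPGroup p X) (hXn : ¬ normalizer (X : Set G) ≤ X) :
    Nonempty (G ≃* Equiv.Perm (Fin 4)) := by
  classical
  have hAn := hA.normal
  obtain ⟨rfl, hcardA, g, hg, hgX, hg2⟩ := hA.main hS hX hXp hXn
  set! C : Subgroup G := centralizer (A : Set G) with hC
  have hAC : A ≤ C := by
    intro a ha
    rw [hC, mem_centralizer_iff]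
    intro b hb
    exact hA.comm b hb a ha
  have hC2 : ∀ c ∈ C, c ^ 2 = 1 := by
    intro c hc
    by_contra hne
    have hc1 : c ≠ 1 := by
      rintro rfl
      exact hne (one_pow 2)
    obtain ⟨W, hW, hcW⟩ := hS.cover c hc1
    apply hA.notLe W hW
    intro a ha
    by_cases ha1 : a = 1
    · rw [ha1]; exact one_mem W
    apply hS.mem_of_commute hW hcW hc1
    · exact (mem_centralizer_iff.1 hc a ha).symm
    · rw [hA.orderOf_eq ha ha1]
      intro h
      apply hne
      rw [h]
      exact pow_orderOf_eq_one c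
  have hCe : Elem S C 2 := by
    refine ⟨Nat.prime_two, inferInstance, ?_, hC2, ?_, ?_⟩
    · intro a ha b hb
      have h1 := hC2 (a * b) (mul_mem ha hb)
      have h2 := hC2 a ha
      have h3 := hC2 b hb
      rw [pow_two] at h1 h2 h3
      have h4 : a * b = (a * b)⁻¹ := eq_inv_of_mul_eq_one_left h1
      rw [mul_inv_rev, inv_eq_of_mul_eq_one_left h2, inv_eq_of_mul_eq_one_left h3] at h4
      exact h4
    · intro h
      exact hA.ne_bot (le_bot_iff.1 (hAC.trans h.le))
    · intro Y hY h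
      exact hA.notLe Y hY (hAC.trans h)
  obtain ⟨-, hcardC, -⟩ := hCe.main hS hX hXp hXn
  have hCA : A = C := Subgroup.eq_of_le_of_card_ge hAC (by rw [hcardA, hcardC])
  set M : Subgroup G := normalizer (X : Set G) with hM
  have hAM : ∀ n ∈ A, n ∈ M → n = 1 := fun n hn hnM => hA.inf_normalizer hS hX hXp hn hnM
  have h2f : Fact (Nat.Prime 2) := ⟨Nat.prime_two⟩
  have hXodd : ¬ 2 ∣ Nat.card X := by
    intro h
    obtain ⟨x, hx⟩ := exists_prime_orderOf_dvd_card' 2 h
    have h1 : (x : G) ^ 2 = 1 := by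
      have h3 : x ^ 2 = 1 := by rw [← hx]; exact pow_orderOf_eq_one x
      exact congrArg Subtype.val h3
    have h2 := hA.eq_one_of_pow hS hX hXp x.2 h1
    have h3 : x = 1 := Subtype.ext h2
    rw [h3, orderOf_one] at hx
    omega
  have hXcard : 3 ≤ Nat.card X := by
    have h1 : Nat.card X ≠ 1 := fun h => hS.ne_bot X hX (Subgroup.eq_bot_of_card_eq X h)
    have h2 : Nat.card X ≠ 0 := Nat.card_pos.ne'
    have h3 : Nat.card X ≠ 2 := fun h => hXodd (by rw [h])
    omega
  have hg1 : g ≠ 1 := by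
    rintro rfl
    exact hgX (one_mem X)
  have hMcard : 6 ≤ Nat.card M := by
    have h1 : Nat.card X ∣ Nat.card M := Subgroup.card_dvd_of_le le_normalizer
    have h2 : 2 ∣ Nat.card M := by
      have h3 : orderOf g = 2 := orderOf_eq_prime_iff.2 ⟨hg2, hg1⟩
      rw [← h3]
      exact Subgroup.orderOf_dvd_natCard M hg
    have h3 : Nat.Coprime 2 (Nat.card X) := (Nat.Prime.coprime_iff_not_dvd Nat.prime_two).2 hXodd
    have h4 := Nat.le_of_dvd Nat.card_pos (h3.mul_dvd_of_dvd_of_dvd h2 h1)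
    omega
  have hMle : Nat.card M ≤ Nat.card (G ⧸ A) := by
    refine Nat.card_le_card_of_injective
      (fun m : M => (QuotientGroup.mk' A) (m : G)) ?_
    intro a b hab
    have h1 : (a : G)⁻¹ * b ∈ A := QuotientGroup.eq.1 hab
    have h2 := hAM _ h1 (mul_mem (inv_mem a.2) b.2)
    exact Subtype.ext (inv_mul_eq_one.1 h2)
  have hGA : Nat.card (G ⧸ A) ≤ 6 := by
    set! φ : G →* MulAut A := MulAut.conjNormal with hφ
    have hker : φ.ker = A := by
      refine Eq.trans ?_ hCA.symm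
      ext x
      rw [MonoidHom.mem_ker, hC, mem_centralizer_iff]
      constructor
      · intro h a ha
        have h1 : ((φ x) ⟨a, ha⟩ : G) = a := by rw [h]; rfl
        rw [hφ, MulAut.conjNormal_apply] at h1
        exact (mul_inv_eq_iff_eq_mul.1 h1).symm
      · intro h
        ext a
        rw [hφ, MulAut.conjNormal_apply]
        rw [← h a a.2, mul_inv_cancel_right]
        rfl
    have h1 : Nat.card (G ⧸ φ.ker) ≤ Nat.card (MulAut A) :=
      Nat.card_le_card_of_injective _ (QuotientGroup.kerLift_injective φ)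
    rw [hker] at h1
    exact h1.trans (card_mulAut_le hcardA)
  have hcardG : Nat.card G = 24 := by
    rw [Subgroup.card_eq_card_quotient_mul_card_subgroup A, hcardA]
    omega
  have hcardM : Nat.card M = 6 := by omega
  have hidx : Nat.card (G ⧸ M) = 4 := by
    have h1 := Subgroup.card_eq_card_quotient_mul_card_subgroup M
    rw [hcardG, hcardM] at h1
    omega
  have hinj : Function.Injective (MulAction.toPermHom G (G ⧸ M)) := by
    rw [← MonoidHom.ker_eq_bot_iff, ← Subgroup.normalCore_eq_ker, eq_bot_iff]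
    intro x hx
    rw [mem_bot]
    have hxM : x ∈ M := normalCore_le M hx
    apply hAM x _ hxM
    refine hCA.ge ?_
    rw [hC, mem_centralizer_iff]
    intro a ha
    have ha' : a ∈ A := ha
    have h1 : a * x * a⁻¹ * x⁻¹ ∈ M := mul_mem
      (normalCore_le M ((normalCore_normal M).conj_mem x hx a)) (inv_mem hxM)
    have h2 : a * x * a⁻¹ * x⁻¹ ∈ A := by
      have h3 : a * x * a⁻¹ * x⁻¹ = a * (x * a⁻¹ * x⁻¹) := by group
      rw [h3]
      exact mul_mem ha' (hAn.conj_mem _ (inv_mem ha') x)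
    have h4 := hAM _ h2 h1
    have h5 : a * x * a⁻¹ * x⁻¹ * (x * a) = a * x := by group
    rw [h4, one_mul] at h5
    exact h5.symm
  have hcardP : Nat.card (Equiv.Perm (G ⧸ M)) = Nat.card G := by
    rw [Nat.card_perm, hidx, hcardG]
    rfl
  have hbij : Function.Bijective (MulAction.toPermHom G (G ⧸ M)) :=
    (Nat.bijective_iff_injective_and_card _).2 ⟨hinj, hcardP.symm⟩
  have e : (G ⧸ M) ≃ Fin 4 := by
    rw [← hidx]
    exact Finite.equivFin _
  exact ⟨(MulEquiv.ofBijective _ hbij).trans (Equiv.permCongrHom e)⟩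

/-- **Invariant partitions of a group with a normal elementary abelian subgroup.** -/
theorem Elem.concl (hS : IsPart S) (hA : Elem S A p) :
    Nonempty (G ≃* Equiv.Perm (Fin 4)) ∨
    (∃ p : ℕ, p.Prime ∧ _root_.Subgroup.closure {g : G | g ^ p ≠ 1} ≠ ⊤) ∨
      ∃ H : Subgroup G, IsFrobeniusComplement H := by
  classical
  have hpf : Fact p.Prime := ⟨hA.prime⟩
  by_cases hall : ∀ X ∈ S, IsPGroup p X
  · -- `G` is a `p`-group
    have hGp : IsPGroup p G := by
      rw [isPGroup_iff_pow_pow_eq_one]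
      intro g
      by_cases hg1 : g = 1
      · exact ⟨0, by rw [hg1, one_pow]⟩
      obtain ⟨X, hX, hgX⟩ := hS.cover g hg1
      obtain ⟨k, hk⟩ := (isPGroup_iff_pow_pow_eq_one.1 (hall X hX)) ⟨g, hgX⟩
      exact ⟨k, congrArg Subtype.val hk⟩
    obtain ⟨a, ha, ha1⟩ := (A.bot_or_exists_ne_one).resolve_left hA.ne_bot
    have hnt : Nontrivial G := ⟨⟨a, 1, ha1⟩⟩
    have hc := hGp.center_nontrivial
    obtain ⟨z, hz, hz1⟩ := (nontrivial_iff_exists_ne_one _).1 hc
    obtain ⟨X, hX, hzX⟩ := hS.cover z hz1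
    right; left
    have hXtop : X ≠ ⊤ := by
      rintro rfl
      exact hS.top hX
    obtain ⟨y, -, hy⟩ := SetLike.exists_of_lt (lt_top_iff_ne_top.2 hXtop)
    have h1 := hS.prime_of_commute hX hzX hz1 hy (mem_center_iff.1 hz y).symm
    refine ⟨orderOf z, h1.1, hughes_of_forall hXtop (fun g hg => ?_)⟩
    have h2 := hS.prime_of_commute hX hzX hz1 hg (mem_center_iff.1 hz g).symm
    rw [← h2.2]
    exact pow_orderOf_eq_one g
  · push Not at hall
    obtain ⟨X, hX, hXp⟩ := hall
    by_cases hXn : normalizer (X : Set G) ≤ X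
    · exact Or.inr (Or.inr ⟨X, hS.isFrobeniusComplement hX hXn⟩)
    · exact Or.inl (hA.perm_four hS hX hXp hXn)

/-- **Invariant partitions of a group with a nontrivial normal elementary abelian subgroup.** -/
theorem IsPart.concl_of_elementary (hS : IsPart S) (A : Subgroup G) [hAn : A.Normal] {p : ℕ}
    (hp : p.Prime) (hAc : ∀ a ∈ A, ∀ b ∈ A, a * b = b * a) (hAp : ∀ a ∈ A, a ^ p = 1)
    (hA1 : A ≠ ⊥) :
    Nonempty (G ≃* Equiv.Perm (Fin 4)) ∨
    (∃ p : ℕ, p.Prime ∧ _root_.Subgroup.closure {g : G | g ^ p ≠ 1} ≠ ⊤) ∨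
      ∃ H : Subgroup G, IsFrobeniusComplement H := by
  by_cases hle : ∃ X ∈ S, A ≤ X
  · obtain ⟨X, hX, hAX⟩ := hle
    have hXn : X.Normal := by
      rw [← normalizer_eq_top_iff, eq_top_iff]
      intro g _
      obtain ⟨a, ha, ha1⟩ := (A.bot_or_exists_ne_one).resolve_left hA1
      exact hS.mem_normalizer hX (hAX ha) ha1 (hAX (hAn.conj_mem a ha g))
    exact Or.inr (hS.concl_of_normal hX)
  · push Not at hle
    exact Elem.concl hS ⟨hp, hAn, hAc, hAp, hA1, hle⟩

end Cfsg.Agent.H550.Part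
end

-- part: H550/Part/Normalize
section
/-!
# Invariant partitions: from a partition to an invariant partition; solvable normal subgroups
-/

set_option autoImplicit false

namespace Cfsg.Agent.H550.Part

open Subgroup

universe u

variable {G : Type u} [Group G] {S : Set (Subgroup G)}

/-- the component of `x` in the common refinement of the conjugates of `S`. -/
def cmp (S : Set (Subgroup G)) (x : G) : Subgroup G where
  carrier := {y | ∀ g : G, ∀ H ∈ S, g * x * g⁻¹ ∈ H → g * y * g⁻¹ ∈ H}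
  one_mem' := by
    intro g H _ _
    rw [mul_one, mul_inv_cancel]
    exact one_mem H
  mul_mem' := by
    intro a b ha hb g H hH hx
    have h1 := mul_mem (ha g H hH hx) (hb g H hH hx)
    have h2 : g * a * g⁻¹ * (g * b * g⁻¹) = g * (a * b) * g⁻¹ := by group
    rwa [h2] at h1
  inv_mem' := by
    intro a ha g H hH hx
    have h1 := inv_mem (ha g H hH hx)
    have h2 : (g * a * g⁻¹)⁻¹ = g * a⁻¹ * g⁻¹ := by group
    rwa [h2] at h1

theorem self_mem_cmp (x : G) : x ∈ cmp S x := fun _ _ _ h => h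

theorem cmp_le {x : G} {H : Subgroup G} (hH : H ∈ S) (hx : x ∈ H) : cmp S x ≤ H := by
  intro y hy
  have h1 := hy 1 H hH (by simpa using hx)
  simpa using h1

theorem cmp_eq (hpart : ∀ g : G, g ≠ 1 → ∃! H : Subgroup G, H ∈ S ∧ g ∈ H) {x y : G}
    (hx : x ≠ 1) (hy : y ≠ 1) (hyx : y ∈ cmp S x) : cmp S y = cmp S x := by
  apply le_antisymm
  · intro z hz g H hH h
    exact hz g H hH (hyx g H hH h)
  · intro z hz g H hH h
    have hx' : g * x * g⁻¹ ≠ 1 := fun h => hx (conj_eq_one_iff.1 h)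
    have hy' : g * y * g⁻¹ ≠ 1 := fun h => hy (conj_eq_one_iff.1 h)
    obtain ⟨K, ⟨hK, hxK⟩, -⟩ := hpart _ hx'
    have h1 := hyx g K hK hxK
    have h2 : H = K := (hpart _ hy').unique ⟨hH, h⟩ ⟨hK, h1⟩
    rw [h2]
    exact hz g K hK hxK

theorem map_cmp (x h : G) :
    (cmp S x).map (MulAut.conj h).toMonoidHom = cmp S (h * x * h⁻¹) := by
  ext z
  rw [mem_map]
  constructor
  · rintro ⟨y, hy, rfl⟩ g H hH hg
    have h1 := hy (g * h) H hH (by
      have h2 : g * h * x * (g * h)⁻¹ = g * (h * x * h⁻¹) * g⁻¹ := by group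
      rwa [h2])
    have h2 : g * h * y * (g * h)⁻¹ = g * (h * y * h⁻¹) * g⁻¹ := by group
    rwa [h2] at h1
  · intro hz
    refine ⟨h⁻¹ * z * h, ?_, ?_⟩
    · intro g H hH hg
      have h1 := hz (g * h⁻¹) H hH (by
        have h2 : g * h⁻¹ * (h * x * h⁻¹) * (g * h⁻¹)⁻¹ = g * x * g⁻¹ := by group
        rwa [h2])
      have h2 : g * h⁻¹ * z * (g * h⁻¹)⁻¹ = g * (h⁻¹ * z * h) * g⁻¹ := by group
      rwa [h2] at h1
    · change h * (h⁻¹ * z * h) * h⁻¹ = z
      group

/-- **Every partition refines to an invariant one.** -/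
theorem exists_isPart (hS2 : ∃ H ∈ S, ∃ K ∈ S, H ≠ K) (hS1 : ∀ H ∈ S, H ≠ ⊥)
    (hpart : ∀ g : G, g ≠ 1 → ∃! H : Subgroup G, H ∈ S ∧ g ∈ H) :
    ∃ S' : Set (Subgroup G), IsPart S' := by
  refine ⟨{K | ∃ x : G, x ≠ 1 ∧ cmp S x = K}, ?_, ?_, ?_, ?_, ?_⟩
  · rintro K ⟨x, hx, rfl⟩ h
    have h1 := self_mem_cmp (S := S) x
    rw [h, mem_bot] at h1
    exact hx h1
  · intro g hg
    exact ⟨cmp S g, ⟨g, hg, rfl⟩, self_mem_cmp g⟩
  · rintro H ⟨x, hx, rfl⟩ K ⟨y, hy, rfl⟩ g hg hgx hgy
    rw [← cmp_eq hpart hx hg hgx, ← cmp_eq hpart hy hg hgy]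
  · rintro H ⟨x, hx, rfl⟩ g
    exact ⟨g * x * g⁻¹, fun h => hx (conj_eq_one_iff.1 h), (map_cmp x g).symm⟩
  · rintro ⟨x, hx, hxt⟩
    obtain ⟨H, ⟨hH, hxH⟩, -⟩ := hpart x hx
    have hHt : H = ⊤ := by
      rw [eq_top_iff, ← hxt]
      exact cmp_le hH hxH
    have huniq : ∀ K ∈ S, K = H := by
      intro K hK
      obtain ⟨k, hk, hk1⟩ := (K.bot_or_exists_ne_one).resolve_left (hS1 K hK)
      exact (hpart k hk1).unique ⟨hK, hk⟩ ⟨hH, hHt ▸ mem_top k⟩
    obtain ⟨K, hK, L, hL, hne⟩ := hS2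
    exact hne ((huniq K hK).trans (huniq L hL).symm)

/-- a nontrivial solvable normal subgroup gives a nontrivial elementary abelian one. -/
theorem exists_elementary [Finite G] (N : Subgroup G) [hN : N.Normal] [hs : Group.IsSolvable N]
    (hN1 : N ≠ ⊥) :
    ∃ (p : ℕ) (A : Subgroup G), p.Prime ∧ A.Normal ∧ (∀ a ∈ A, ∀ b ∈ A, a * b = b * a) ∧
      (∀ a ∈ A, a ^ p = 1) ∧ A ≠ ⊥ := by
  have hnt : Nontrivial N := (Subgroup.nontrivial_iff_ne_bot N).2 hN1
  obtain ⟨p, hp, K, hKc, hKab, hKp, hK1⟩ :=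
    Cfsg.Agent.Lib.SolvableMinNormal.exists_characteristic_pgroup (G := N)
  have hpf : Fact p.Prime := ⟨hp⟩
  have hK : (K.map N.subtype).Normal := inferInstance
  have hcomm : ∀ a ∈ K.map N.subtype, ∀ b ∈ K.map N.subtype, a * b = b * a := by
    rintro _ ⟨a, ha, rfl⟩ _ ⟨b, hb, rfl⟩
    have h1 : a * b = b * a := by
      have := hKab.is_comm.comm ⟨a, ha⟩ ⟨b, hb⟩
      exact congrArg Subtype.val this
    change (a : G) * b = b * a
    exact congrArg Subtype.val h1
  let A : Subgroup G :=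
    { carrier := {x | x ∈ K.map N.subtype ∧ x ^ p = 1}
      one_mem' := ⟨one_mem _, one_pow p⟩
      mul_mem' := by
        rintro a b ⟨ha, hap⟩ ⟨hb, hbp⟩
        refine ⟨mul_mem ha hb, ?_⟩
        rw [(show Commute a b from hcomm a ha b hb).mul_pow, hap, hbp, one_mul]
      inv_mem' := by
        rintro a ⟨ha, hap⟩
        exact ⟨inv_mem ha, by rw [inv_pow, hap, inv_one]⟩ }
  refine ⟨p, A, hp, ⟨?_⟩, ?_, fun a ha => ha.2, ?_⟩
  · rintro n ⟨hn, hnp⟩ g
    refine ⟨hK.conj_mem n hn g, ?_⟩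
    rw [conj_pow, hnp, mul_one, mul_inv_cancel]
  · rintro a ⟨ha, -⟩ b ⟨hb, -⟩
    exact hcomm a ha b hb
  · intro h
    have hK1' : Nontrivial K := (Subgroup.nontrivial_iff_ne_bot K).2 hK1
    obtain ⟨n, hn⟩ := (IsPGroup.iff_card.1 hKp)
    have hdvd : p ∣ Nat.card K := by
      rw [hn]
      apply dvd_pow_self
      rintro rfl
      rw [pow_zero] at hn
      exact hK1 (Subgroup.eq_bot_of_card_eq K hn)
    obtain ⟨x, hx⟩ := exists_prime_orderOf_dvd_card' p hdvd
    have hx1 : ((x : N) : G) ∈ A := by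
      refine ⟨⟨x, x.2, rfl⟩, ?_⟩
      have h1 : x ^ p = 1 := by rw [← hx]; exact pow_orderOf_eq_one x
      exact congrArg (fun y : K => ((y : N) : G)) h1
    rw [h, mem_bot] at hx1
    have h2 : x = 1 := Subtype.ext (Subtype.ext hx1)
    rw [h2, orderOf_one] at hx
    exact hp.one_lt.ne hx

/-- **Invariant partitions of a group with a nontrivial solvable normal subgroup.** -/
theorem IsPart.concl_of_solvable [Finite G] (hS : IsPart S) (N : Subgroup G) [N.Normal]
    [Group.IsSolvable N] (hN1 : N ≠ ⊥) :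
    Nonempty (G ≃* Equiv.Perm (Fin 4)) ∨
    (∃ p : ℕ, p.Prime ∧ _root_.Subgroup.closure {g : G | g ^ p ≠ 1} ≠ ⊤) ∨
      ∃ H : Subgroup G, IsFrobeniusComplement H := by
  obtain ⟨p, A, hp, hA, hAc, hAp, hA1⟩ := exists_elementary N hN1
  exact hS.concl_of_elementary A hp hAc hAp hA1

end Cfsg.Agent.H550.Part
end

-- part: H550/Part/Simple
section
/-!
# Invariant nilpotent partitions: the simple normal subgroup
-/

set_option autoImplicit false

namespace Cfsg.Agent.H550.Part

open Subgroup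

universe u

variable {G : Type u} [Group G] {S : Set (Subgroup G)}

/-- a subgroup in the union of two subgroups lies in one of them. -/
theorem le_or_le_of_union {M X Y : Subgroup G} (h : ∀ y ∈ M, y ∈ X ∨ y ∈ Y) : M ≤ X ∨ M ≤ Y := by
  by_contra hcon
  push Not at hcon
  obtain ⟨⟨a, haM, haX⟩, ⟨b, hbM, hbY⟩⟩ :=
    (show (∃ a ∈ M, a ∉ X) ∧ (∃ b ∈ M, b ∉ Y) from
      ⟨by simpa [SetLike.not_le_iff_exists] using hcon.1,
       by simpa [SetLike.not_le_iff_exists] using hcon.2⟩)
  have haY := (h a haM).resolve_left haX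
  have hbX := (h b hbM).resolve_right hbY
  rcases h (a * b) (mul_mem haM hbM) with h1 | h1
  · exact haX ((mul_mem_cancel_right hbX).1 h1)
  · exact hbY ((mul_mem_cancel_left haY).1 h1)

/-- two prime divisors of the order of a group which is not a `p`-group -/
theorem exists_two_primes [Finite G] (hG : ∀ p : ℕ, p.Prime → ¬ IsPGroup p G) :
    ∃ r s : ℕ, r.Prime ∧ s.Prime ∧ r ≠ s ∧ r ∣ Nat.card G ∧ s ∣ Nat.card G := by
  have h1 : Nat.card G ≠ 1 := by
    intro h
    exact hG 2 Nat.prime_two (IsPGroup.of_card (n := 0) (by rw [h, pow_zero]))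
  obtain ⟨r, hr, hrd⟩ := Nat.exists_prime_and_dvd h1
  by_contra hcon
  push Not at hcon
  apply hG r hr
  have h2 := Nat.eq_prime_pow_of_unique_prime_dvd (n := Nat.card G) (p := r) Nat.card_pos.ne'
    (fun {d} hd hdd => by
      by_contra hne
      exact hcon r d hr hd (Ne.symm hne) hrd hdd)
  exact IsPGroup.of_card h2

theorem exists_prime_order_mem [Finite G] {L : Subgroup G} {r : ℕ} (hr : r.Prime)
    (hd : r ∣ Nat.card L) : ∃ x ∈ L, orderOf x = r := by
  have : Fact r.Prime := ⟨hr⟩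
  obtain ⟨x, hx⟩ := exists_prime_orderOf_dvd_card' r hd
  exact ⟨x, x.2, by rw [← hx]; exact (orderOf_coe x)⟩

/-- A subgroup centralising a subgroup which is not a `p`-group lies in a component. -/
theorem IsPart.le_of_commute [Finite G] (hS : IsPart S) {L M : Subgroup G}
    (hLM : ∀ a ∈ L, ∀ b ∈ M, a * b = b * a) (hL : ∀ p : ℕ, p.Prime → ¬ IsPGroup p L) :
    ∃ X ∈ S, M ≤ X := by
  obtain ⟨r, s, hr, hs, hrs, hrL, hsL⟩ := exists_two_primes hL
  obtain ⟨x, hx, hxr⟩ := exists_prime_order_mem hr hrL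
  obtain ⟨x', hx', hxs⟩ := exists_prime_order_mem hs hsL
  have hx1 : x ≠ 1 := by
    rintro rfl
    rw [orderOf_one] at hxr
    exact hr.one_lt.ne hxr
  have hx1' : x' ≠ 1 := by
    rintro rfl
    rw [orderOf_one] at hxs
    exact hs.one_lt.ne hxs
  obtain ⟨X, hX, hxX⟩ := hS.cover x hx1
  obtain ⟨X', hX', hxX'⟩ := hS.cover x' hx1'
  have key : ∀ y ∈ M, y ∈ X ∨ y ∈ X' := by
    intro y hy
    by_cases hyr : orderOf y = r
    · right
      exact hS.mem_of_commute hX' hxX' hx1' (hLM x' hx' y hy) (by rw [hyr, hxs]; exact hrs)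
    · left
      exact hS.mem_of_commute hX hxX hx1 (hLM x hx y hy) (by rw [hxr]; exact hyr)
  rcases le_or_le_of_union key with h | h
  · exact ⟨X, hX, h⟩
  · exact ⟨X', hX', h⟩

theorem eq_bot_of_normal_of_normal [Finite G]
    (hF : ∀ A : Subgroup G, A.Normal → Group.IsSolvable A → A = ⊥)
    {N L : Subgroup G} (hN : N.Normal) (hLN : L ≤ N) (hNL : N ≤ normalizer (L : Set G))
    (hs : Group.IsSolvable L) : L = ⊥ := by
  obtain ⟨R, hRc, hRs, hR⟩ :=
    Cfsg.Agent.SignalizersComponents.ComponentExists.exists_solvableRadical N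
  have h1 : (L.subgroupOf N).Normal := normal_subgroupOf_of_le_normalizer hNL
  have h2 : Group.IsSolvable (L.subgroupOf N) :=
    Group.isSolvable_of_isSolvable_injective (f := (subgroupOfEquivOfLe hLN).toMonoidHom)
      (subgroupOfEquivOfLe hLN).injective
  have h3 := hR _ h1 h2
  have h4 : (R.map N.subtype).Normal := inferInstance
  have h5 : Group.IsSolvable (R.map N.subtype) :=
    Group.isSolvable_of_surjective
      (f := (R.equivMapOfInjective N.subtype N.subtype_injective).toMonoidHom)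
      (R.equivMapOfInjective N.subtype N.subtype_injective).surjective
  have h6 := hF _ h4 h5
  have h7 : (L.subgroupOf N).map N.subtype = L := by
    rw [subgroupOf_map_subtype, inf_eq_left.2 hLN]
  rw [eq_bot_iff, ← h6, ← h7]
  exact Subgroup.map_mono h3

theorem isNilpotent_of_le {H K : Subgroup G} (h : H ≤ K) [Group.IsNilpotent K] :
    Group.IsNilpotent H :=
  Group.nilpotent_of_mulEquiv (subgroupOfEquivOfLe h)

theorem isSolvable_of_isPGroup {p : ℕ} [hp : Fact p.Prime] [Finite G] (h : IsPGroup p G) :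
    Group.IsSolvable G := by
  have := h.isNilpotent
  infer_instance

theorem map_conj_le_iff {L N : Subgroup G} (hN : N.Normal) (g : G) (hLN : L ≤ N) :
    L.map (MulAut.conj g).toMonoidHom ≤ N := by
  rintro _ ⟨x, hx, rfl⟩
  exact hN.conj_mem x (hLN hx) g

theorem le_normalizer_map_conj {L N : Subgroup G} (hN : N.Normal) (g : G)
    (hNL : N ≤ normalizer (L : Set G)) :
    N ≤ normalizer ((L.map (MulAut.conj g).toMonoidHom : Subgroup G) : Set G) := by
  intro n hn
  have h1 : g⁻¹ * n * g ∈ N := by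
    have := hN.conj_mem n hn g⁻¹
    rwa [inv_inv] at this
  have h2 := hNL h1
  rw [mem_normalizer_iff_map_conj_eq] at h2 ⊢
  have h3 : (L.map (MulAut.conj g).toMonoidHom).map (MulAut.conj n).toMonoidHom =
      (L.map (MulAut.conj (g⁻¹ * n * g)).toMonoidHom).map (MulAut.conj g).toMonoidHom := by
    rw [Subgroup.map_map, Subgroup.map_map]
    congr 1
    ext x
    change n * (g * x * g⁻¹) * n⁻¹ = g * (g⁻¹ * n * g * x * (g⁻¹ * n * g)⁻¹) * g⁻¹
    group
  change (L.map (MulAut.conj g).toMonoidHom).map (MulAut.conj n).toMonoidHom = _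
  rw [h3]
  exact congrArg (fun K : Subgroup G => K.map (MulAut.conj g).toMonoidHom) h2

/-- **The simple normal subgroup.** -/
theorem IsPart.exists_simple [Finite G] [Nontrivial G] (hS : IsPart S)
    (hnil : ∀ X ∈ S, Group.IsNilpotent X)
    (hF : ∀ A : Subgroup G, A.Normal → Group.IsSolvable A → A = ⊥) :
    ∃ N : Subgroup G, N.Normal ∧ IsSimpleGroup N ∧ ¬ Group.IsSolvable N ∧
      centralizer (N : Set G) = ⊥ := by
  obtain ⟨N, -, hN0, hNn, hNmin⟩ :=
    Cfsg.Agent.Lib.MinNormal.exists_minimal_normal_le (⊤ : Subgroup G) bot_ne_top.symm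
  have hN : N.Normal := by
    rw [← normalizer_eq_top_iff, eq_top_iff]
    exact hNn
  have hNs : ¬ Group.IsSolvable N := fun h => hN0 (hF N hN h)
  -- subgroups normalised by `N` are not `p`-groups
  have hnotp : ∀ L : Subgroup G, L ≤ N → N ≤ normalizer (L : Set G) → L ≠ ⊥ →
      ∀ p : ℕ, p.Prime → ¬ IsPGroup p L := by
    intro L hLN hNL hL0 p hp hLp
    have := Fact.mk hp
    exact hL0 (eq_bot_of_normal_of_normal hF hN hLN hNL (isSolvable_of_isPGroup hLp))
  refine ⟨N, hN, ?_, hNs, ?_⟩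
  · have hnt : Nontrivial N := (Subgroup.nontrivial_iff_ne_bot N).2 hN0
    refine ⟨fun K hK => ?_⟩
    by_contra hcon
    push Not at hcon
    obtain ⟨hK0, hKt⟩ := hcon
    set! K' : Subgroup G := K.map N.subtype with hK'
    have hKN' : K' ≤ N := by
      rintro _ ⟨x, -, rfl⟩
      exact x.2
    have hK0' : K' ≠ ⊥ := by
      intro h
      apply hK0
      rw [hK', Subgroup.map_eq_bot_iff, Subgroup.ker_subtype] at h
      exact le_bot_iff.1 h
    have hNK' : N ≤ normalizer (K' : Set G) := by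
      intro n hn
      rw [mem_normalizer_iff]
      intro h
      constructor
      · rintro ⟨x, hx, rfl⟩
        exact ⟨⟨n, hn⟩ * x * ⟨n, hn⟩⁻¹, hK.conj_mem x hx _, rfl⟩
      · rintro ⟨x, hx, hxe⟩
        refine ⟨⟨n, hn⟩⁻¹ * x * ⟨n, hn⟩, ?_, ?_⟩
        · have := hK.conj_mem x hx ⟨n, hn⟩⁻¹
          rwa [inv_inv] at this
        · change n⁻¹ * (x : G) * n = h
          have hxe' : (x : G) = n * h * n⁻¹ := hxe
          rw [hxe']
          group
    have hfin : {L : Subgroup G | L ≤ K' ∧ L ≠ ⊥ ∧ N ≤ normalizer (L : Set G)}.Finite :=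
      Set.toFinite _
    obtain ⟨L, ⟨hLK, hL0, hNL⟩, hLmin⟩ := hfin.exists_minimal ⟨K', le_rfl, hK0', hNK'⟩
    have hLN : L ≤ N := hLK.trans hKN'
    by_cases hall : ∀ g : G, L ⊓ L.map (MulAut.conj g).toMonoidHom = L
    · have hLn : L.Normal := by
        refine ⟨fun n hn g => ?_⟩
        have h1 : L ≤ L.map (MulAut.conj g⁻¹).toMonoidHom := by
          conv_lhs => rw [← hall g⁻¹]
          exact inf_le_right
        obtain ⟨x, hx, hxe⟩ := h1 hn
        have hxe' : g⁻¹ * x * g⁻¹⁻¹ = n := hxe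
        have h2 : g * n * g⁻¹ = x := by
          rw [← hxe']; group
        rw [h2]
        exact hx
      rcases hNmin L hLN (by rw [normalizer_eq_top_iff.2 hLn]) with h | h
      · exact hL0 h
      · apply hKt
        have h2 : N ≤ K' := h ▸ hLK
        rw [eq_top_iff]
        intro n _
        obtain ⟨x, hx, hxe⟩ := h2 n.2
        have : x = n := Subtype.ext hxe
        exact this ▸ hx
    · push Not at hall
      obtain ⟨g, hg⟩ := hall
      set L' : Subgroup G := L.map (MulAut.conj g).toMonoidHom with hL'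
      have hLN' : L' ≤ N := map_conj_le_iff hN g hLN
      have hNL' : N ≤ normalizer (L' : Set G) := le_normalizer_map_conj hN g hNL
      have hinf : L ⊓ L' = ⊥ := by
        by_contra h0
        apply hg
        apply le_antisymm inf_le_left
        exact hLmin ⟨inf_le_left.trans hLK, h0,
          Cfsg.Agent.Lib.MinNormal.le_normalizer_inf hNL hNL'⟩ inf_le_left
      have hcomm : ∀ a ∈ L, ∀ b ∈ L', a * b = b * a := by
        intro a ha b hb
        have h1 : a * b * a⁻¹ * b⁻¹ ∈ L ⊓ L' := by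
          refine ⟨?_, ?_⟩
          · have h2 := (mem_normalizer_iff.1 (hNL (hLN' hb)) a⁻¹).1 (inv_mem ha)
            have h3 : a * b * a⁻¹ * b⁻¹ = a * (b * a⁻¹ * b⁻¹) := by group
            rw [h3]
            exact mul_mem ha h2
          · exact mul_mem ((mem_normalizer_iff.1 (hNL' (hLN ha)) b).1 hb) (L'.inv_mem hb)
        rw [hinf, mem_bot] at h1
        have h2 : a * b = a * b * a⁻¹ * b⁻¹ * (b * a) := by group
        rw [h2, h1, one_mul]
      obtain ⟨X, hX, hLX⟩ := hS.le_of_commute hcomm (hnotp L hLN hNL hL0)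
      have hLnil : Group.IsNilpotent L' := by
        have := hnil X hX
        exact isNilpotent_of_le hLX
      have hLs : Group.IsSolvable L' := inferInstance
      have h1 := eq_bot_of_normal_of_normal hF hN hLN' hNL' hLs
      apply hL0
      rw [hL', Subgroup.map_eq_bot_iff_of_injective _ (MulAut.conj g).injective] at h1
      exact h1
  · obtain ⟨X, hX, hCX⟩ := hS.le_of_commute (L := N) (M := centralizer (N : Set G))
      (fun a ha b hb => mem_centralizer_iff.1 hb a ha)
      (hnotp N le_rfl le_normalizer hN0)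
    have hCnil : Group.IsNilpotent (centralizer (N : Set G)) := by
      have := hnil X hX
      exact isNilpotent_of_le hCX
    exact hF _ inferInstance inferInstance

end Cfsg.Agent.H550.Part
end

-- part: H550/Part/Strong
section
/-!
# Invariant nilpotent partitions: a Sylow 2-subgroup inside a component
-/

set_option autoImplicit false

namespace Cfsg.Agent.H550.Part

open Subgroup

universe u

variable {G : Type u} [Group G] {S : Set (Subgroup G)}

/-- the `p`-elements of a nilpotent subgroup form a `p`-subgroup. -/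
theorem nil_pPart [Finite G] (p : ℕ) [hp : Fact p.Prime] {X : Subgroup G}
    (hX : Group.IsNilpotent X) :
    ∃ P : Subgroup G, P ≤ X ∧ IsPGroup p P ∧ (∀ x ∈ X, (∃ k : ℕ, x ^ p ^ k = 1) → x ∈ P) ∧
      normalizer (X : Set G) ≤ normalizer (P : Set G) := by
  obtain ⟨P0⟩ : Nonempty (Sylow p X) := inferInstance
  have hn : (P0 : Subgroup X).Normal := by
    have h := (Group.isNilpotent_of_finite_tfae (G := X)).out 0 3
    exact h.1 hX p hp P0
  have hmem : ∀ x ∈ X, (∃ k : ℕ, x ^ p ^ k = 1) → x ∈ (P0 : Subgroup X).map X.subtype := by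
    rintro x hx ⟨k, hk⟩
    have h1 : IsPGroup p (zpowers (⟨x, hx⟩ : X)) := by
      rw [isPGroup_iff_pow_pow_eq_one]
      rintro ⟨y, hy⟩
      obtain ⟨m, rfl⟩ := mem_zpowers_iff.1 hy
      refine ⟨k, ?_⟩
      apply Subtype.ext
      change ((⟨x, hx⟩ : X) ^ m) ^ p ^ k = 1
      rw [← zpow_natCast, ← zpow_mul, mul_comm, zpow_mul, zpow_natCast]
      have : (⟨x, hx⟩ : X) ^ p ^ k = 1 := Subtype.ext hk
      rw [this, one_zpow]
    obtain ⟨Q, hQ⟩ := h1.exists_le_sylow
    have hQP : Q = P0 := by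
      have := Sylow.unique_of_normal P0 hn
      exact Subsingleton.elim _ _
    exact ⟨⟨x, hx⟩, by rw [← hQP]; exact hQ (mem_zpowers _), rfl⟩
  have hle : (P0 : Subgroup X).map X.subtype ≤ X := by
    rintro _ ⟨x, -, rfl⟩
    exact x.2
  have hpg : IsPGroup p ((P0 : Subgroup X).map X.subtype) := P0.2.map _
  refine ⟨(P0 : Subgroup X).map X.subtype, hle, hpg, hmem, ?_⟩
  have hconj : ∀ g ∈ normalizer (X : Set G), ∀ x ∈ (P0 : Subgroup X).map X.subtype,
      g * x * g⁻¹ ∈ (P0 : Subgroup X).map X.subtype := by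
    intro g hg x hx
    apply hmem
    · exact (mem_normalizer_iff.1 hg x).1 (hle hx)
    · obtain ⟨k, hk⟩ := (isPGroup_iff_pow_pow_eq_one.1 hpg) ⟨x, hx⟩
      refine ⟨k, ?_⟩
      have hk' : x ^ p ^ k = 1 := congrArg Subtype.val hk
      rw [conj_pow, hk', mul_one, mul_inv_cancel]
  intro g hg
  rw [mem_normalizer_iff]
  intro x
  refine ⟨hconj g hg x, fun h => ?_⟩
  have h1 := hconj g⁻¹ (inv_mem hg) _ h
  have h2 : g⁻¹ * (g * x * g⁻¹) * g⁻¹⁻¹ = x := by group
  rwa [h2] at h1

theorem sylow_mem_of_normalizer [Finite G] {p : ℕ} [Fact p.Prime] (T : Sylow p G) {t : G}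
    (ht : t ∈ normalizer ((T : Subgroup G) : Set G)) (hp : ∃ k : ℕ, t ^ p ^ k = 1) :
    t ∈ (T : Subgroup G) := by
  obtain ⟨k, hk⟩ := hp
  have h1 : IsPGroup p (zpowers t) := by
    rw [isPGroup_iff_pow_pow_eq_one]
    rintro ⟨y, hy⟩
    obtain ⟨m, rfl⟩ := mem_zpowers_iff.1 hy
    refine ⟨k, ?_⟩
    apply Subtype.ext
    change (t ^ m) ^ p ^ k = 1
    rw [← zpow_natCast, ← zpow_mul, mul_comm, zpow_mul, zpow_natCast, hk, one_zpow]
  have h2 : IsPGroup p ((T : Subgroup G) ⊔ zpowers t : Subgroup G) := by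
    rw [sup_comm]
    exact IsPGroup.to_sup_of_normal_right' h1 T.2 (by rwa [zpowers_le])
  have h3 := T.3 h2 le_sup_left
  have h4 : t ∈ ((T : Subgroup G) ⊔ zpowers t : Subgroup G) :=
    (le_sup_right : zpowers t ≤ _) (mem_zpowers t)
  rw [h3] at h4
  exact h4

/-- If a Sylow 2-subgroup lies in a component then it is a component, provided `O(H) ≤ O(G)` for
strongly embedded subgroups `H`. -/
theorem IsPart.conf_of_sylow_le [Finite G] [IsSimpleGroup G] (hS : IsPart S)
    (hnil : ∀ X ∈ S, Group.IsNilpotent X) (heven : 2 ∣ Nat.card G)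
    (h1221 : ∀ H : Subgroup G, IsStronglyEmbedded H →
      (oddCore ↥H).map H.subtype ≤ oddCore G)
    (T : Sylow 2 G) {X : Subgroup G} (hX : X ∈ S) (hTX : (T : Subgroup G) ≤ X) :
    LieExceptional.CCEven.Conf (T : Subgroup G) := by
  have hXn := hnil X hX
  set! M : Subgroup G := normalizer (X : Set G) with hM
  have hXM : X ≤ M := le_normalizer
  have hMtop : M ≠ ⊤ := by
    intro h
    have h1 : X.Normal := normalizer_eq_top_iff.1 h
    rcases h1.eq_bot_or_eq_top with h2 | h2
    · exact hS.ne_bot X hX h2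
    · exact hS.top (h2 ▸ hX)
  have h2T : 2 ∣ Nat.card (T : Subgroup G) := by
    have := T.card_eq_multiplicity
    rw [this]
    apply dvd_pow_self
    have := (Nat.Prime.factorization_pos_of_dvd Nat.prime_two (Nat.card_pos (α := G)).ne' heven)
    omega
  obtain ⟨P, hPX, hP2, hPmem, hPM⟩ := nil_pPart 2 hXn
  have hTP : (T : Subgroup G) = P := by
    have h1 : (T : Subgroup G) ≤ P := by
      intro x hx
      apply hPmem x (hTX hx)
      obtain ⟨k, hk⟩ := (isPGroup_iff_pow_pow_eq_one.1 T.2) ⟨x, hx⟩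
      exact ⟨k, congrArg Subtype.val hk⟩
    exact (T.3 hP2 h1).symm
  -- 2-elements of `M` lie in `T`
  have hMT : ∀ t ∈ M, (∃ k : ℕ, t ^ 2 ^ k = 1) → t ∈ (T : Subgroup G) := by
    intro t ht hk
    apply sylow_mem_of_normalizer T _ hk
    have h1 := hPM ht
    rw [← hTP] at h1
    exact h1
  have hSE : IsStronglyEmbedded M := by
    refine ⟨hMtop, ?_, ?_⟩
    · rw [even_iff_two_dvd]
      exact h2T.trans (Subgroup.card_dvd_of_le (hTX.trans hXM))
    · intro g hg
      by_contra hodd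
      rw [Nat.not_odd_iff_even, even_iff_two_dvd] at hodd
      obtain ⟨t, ht, ht2⟩ := exists_prime_order_mem Nat.prime_two hodd
      have ht1 : t ≠ 1 := by
        rintro rfl
        rw [orderOf_one] at ht2
        omega
      have ht2' : t ^ 2 = 1 := by rw [← ht2]; exact pow_orderOf_eq_one t
      obtain ⟨htM, htM'⟩ := ht
      obtain ⟨s, hs, hst⟩ := htM'
      have hst' : g * s * g⁻¹ = t := hst
      have hs2 : s ^ 2 = 1 := by
        rw [← hst', conj_pow] at ht2'
        exact conj_eq_one_iff.1 ht2'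
      have htX : t ∈ X := hTX (hMT t htM ⟨1, by rw [pow_one]; exact ht2'⟩)
      have hsX : s ∈ X := hTX (hMT s hs ⟨1, by rw [pow_one]; exact hs2⟩)
      have hs1 : s ≠ 1 := by
        rintro rfl
        apply ht1
        rw [← hst', mul_one, mul_inv_cancel]
      apply hg
      exact hS.mem_normalizer hX hsX hs1 (hst'.symm ▸ htX)
  have hcore := h1221 M hSE
  have hcoreG : oddCore G = ⊥ := by
    have hn : (oddCore G).Normal := inferInstance
    rcases hn.eq_bot_or_eq_top with h | h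
    · exact h
    · exfalso
      have h1 := (Lib.Cores.le_pPrimeCore_iff (p := 2) (inferInstance : (⊤ : Subgroup G).Normal)).1
        (le_of_eq h.symm)
      rw [Subgroup.card_top] at h1
      exact (Nat.Prime.coprime_iff_not_dvd Nat.prime_two).1 h1.symm heven
  rw [hcoreG, le_bot_iff, Subgroup.map_eq_bot_iff_of_injective _ M.subtype_injective] at hcore
  -- `X` is a 2-group
  have hX2 : ∀ p : ℕ, p.Prime → p ≠ 2 → ¬ p ∣ Nat.card X := by
    intro p hp hp2 hpd
    have := Fact.mk hp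
    obtain ⟨x, hx, hxp⟩ := exists_prime_order_mem hp hpd
    obtain ⟨Q, hQX, hQp, hQmem, hQM⟩ := nil_pPart p hXn
    have hxQ : x ∈ Q := hQmem x hx ⟨1, by rw [pow_one, ← hxp]; exact pow_orderOf_eq_one x⟩
    have hQM' : Q ≤ M := hQX.trans hXM
    have h1 : (Q.subgroupOf M).Normal := normal_subgroupOf_of_le_normalizer hQM
    have h2 : (Nat.card (Q.subgroupOf M)).Coprime 2 := by
      rw [Nat.card_congr (subgroupOfEquivOfLe hQM').toEquiv]
      obtain ⟨n, hn⟩ := IsPGroup.iff_card.1 hQp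
      rw [hn]
      exact Nat.Coprime.pow_left n ((Nat.coprime_primes hp Nat.prime_two).2 hp2)
    have h3 := (Lib.Cores.le_pPrimeCore_iff (p := 2) h1).2 h2
    rw [show pPrimeCore 2 M = ⊥ from hcore, le_bot_iff, subgroupOf_eq_bot] at h3
    have h4 : x ∈ (⊥ : Subgroup G) := h3.le_bot ⟨hxQ, hXM hx⟩
    rw [mem_bot] at h4
    rw [h4, orderOf_one] at hxp
    exact hp.one_lt.ne hxp
  have hX2' : IsPGroup 2 X := by
    by_contra hcon
    have h1 := Nat.eq_prime_pow_of_unique_prime_dvd (n := Nat.card X) (p := 2) Nat.card_pos.ne'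
      (fun {d} hd hdd => by
        by_contra hne
        exact hX2 d hd hne hdd)
    exact hcon (IsPGroup.of_card h1)
  have hXT : X = T := T.3 hX2' hTX
  refine ⟨?_, ?_, h2T⟩
  · intro h hh hh1 g hg
    rw [← hXT] at hh ⊢
    by_contra hgX
    have h1 := hS.prime_of_commute hX hh hh1 hgX hg.symm
    have h2 : orderOf h = 2 := by
      obtain ⟨k, hk⟩ := (IsPGroup.iff_orderOf.1 hX2') ⟨h, hh⟩
      rw [orderOf_mk] at hk
      rw [hk] at h1
      have h3 : k ≠ 0 := by
        rintro rfl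
        exact absurd h1.1 (by rw [pow_zero]; exact Nat.not_prime_one)
      have h4 := (Nat.Prime.eq_one_or_self_of_dvd h1.1 2 (dvd_pow_self 2 h3)).resolve_left (by norm_num)
      rw [hk]
      exact h4.symm
    apply hgX
    rw [hXT]
    apply hMT g
    · exact hS.mem_normalizer_of_commute hX hh hh1 hg
    · refine ⟨1, ?_⟩
      rw [pow_one, ← h2, ← h1.2]
      exact pow_orderOf_eq_one g
  · intro h hh hh1 g hg
    rw [← hXT] at hh hg ⊢
    exact hS.mem_normalizer hX hh hh1 hg

end Cfsg.Agent.H550.Part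
end

-- part: H550/Part/Struct
section
/-!
# Invariant partitions: a Sylow 2-subgroup outside of the components
-/

set_option autoImplicit false

namespace Cfsg.Agent.H550.Part

open Subgroup

universe u

variable {G : Type u} [Group G] {S : Set (Subgroup G)}

theorem IsPart.sq_of_commute [Finite G] (hS : IsPart S) {X : Subgroup G} (hX : X ∈ S) {z u : G}
    (hz : z ∈ X) (hz2 : orderOf z = 2) (hu : u ∉ X) (huz : u * z = z * u) : u * u = 1 := by
  have hz1 : z ≠ 1 := by
    rintro rfl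
    rw [orderOf_one] at hz2
    omega
  have h1 := hS.prime_of_commute hX hz hz1 hu huz.symm
  have h2 : orderOf u = 2 := h1.2.trans hz2
  rw [← pow_two, ← h2]
  exact pow_orderOf_eq_one u

theorem IsPart.inv_of_commute [Finite G] (hS : IsPart S) {X : Subgroup G} (hX : X ∈ S) {z u b : G}
    (hz : z ∈ X) (hz2 : orderOf z = 2) (hu : u ∉ X) (huz : u * z = z * u) (hb : b ∈ X)
    (hbz : b * z = z * b) : u * b * u⁻¹ = b⁻¹ := by
  have h1 := hS.sq_of_commute hX hz hz2 hu huz
  have h2 : u * b ∉ X := fun h => hu ((mul_mem_cancel_right hb).1 h)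
  have h3 : u * b * z = z * (u * b) := by
    rw [mul_assoc, hbz, ← mul_assoc, huz, mul_assoc]
  have h4 := hS.sq_of_commute hX hz hz2 h2 h3
  have h5 : u⁻¹ = u := inv_eq_of_mul_eq_one_left h1
  rw [h5]
  exact eq_inv_of_mul_eq_one_left (by rw [mul_assoc]; exact h4)

theorem zpowers_two_group [Finite G] {t : G} (ht : orderOf t = 2) : IsPGroup 2 (zpowers t) := by
  apply IsPGroup.of_card (n := 1)
  rw [Nat.card_zpowers, ht, pow_one]

/-- `⟨s, t⟩` is a 2-group -/
theorem exists_conj_mem_sylow [Finite G] (T : Sylow 2 G) {s t : G} (hs : orderOf s = 2)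
    (ht : orderOf t = 2) (hst : s * t = t * s) :
    ∃ g : G, g * s * g⁻¹ ∈ (T : Subgroup G) ∧ g * t * g⁻¹ ∈ (T : Subgroup G) := by
  have h1 : IsPGroup 2 (zpowers s ⊔ zpowers t : Subgroup G) := by
    refine IsPGroup.to_sup_of_normal_right' (zpowers_two_group hs) (zpowers_two_group ht) ?_
    rw [zpowers_le]
    have h2 : s ∈ centralizer ((zpowers t : Subgroup G) : Set G) := by
      rw [mem_centralizer_iff]
      rintro _ ⟨k, rfl⟩
      exact ((show Commute s t from hst).zpow_right k).symm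
    exact centralizer_le_normalizer _ h2
  obtain ⟨Q, hQ⟩ := h1.exists_le_sylow
  obtain ⟨g, hg⟩ := MulAction.exists_smul_eq G Q T
  refine ⟨g, ?_, ?_⟩
  · have h3 : s ∈ (Q : Subgroup G) := hQ ((le_sup_left : zpowers s ≤ _) (mem_zpowers s))
    rw [← hg]
    exact ⟨s, h3, rfl⟩
  · have h3 : t ∈ (Q : Subgroup G) := hQ ((le_sup_right : zpowers t ≤ _) (mem_zpowers t))
    rw [← hg]
    exact ⟨t, h3, rfl⟩

theorem IsPart.dihedral [Finite G] (hS : IsPart S) (hG : ∀ (f : G →* ℤˣ) (u : G), f u = 1)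
    (T : Sylow 2 G) {X : Subgroup G} (hX : X ∈ S) {z : G} (hzT : z ∈ (T : Subgroup G)) (hzX : z ∈ X)
    (hz2 : orderOf z = 2) (hzc : ∀ t ∈ (T : Subgroup G), t * z = z * t)
    (hTX : ¬ (T : Subgroup G) ≤ X)
    (hidx : ∀ u ∈ (T : Subgroup G), u ∉ X → ∀ v ∈ (T : Subgroup G), v ∉ X → u * v ∈ X) :
    (∃ n : ℕ, 2 ≤ n ∧ Nonempty ((T : Subgroup G) ≃* DihedralGroup n)) ∧
      ∀ Y ∈ S, ∀ s ∈ Y, ∀ t ∈ Y, orderOf s = 2 → orderOf t = 2 → s * t = t * s → s = t := by
  have hz1 : z ≠ 1 := by
    rintro rfl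
    rw [orderOf_one] at hz2
    omega
  obtain ⟨u, huT, huX⟩ := SetLike.not_le_iff_exists.1 hTX
  have huu : u * u = 1 := hS.sq_of_commute hX hzX hz2 huX (hzc u huT)
  have huinv : ∀ b ∈ (T : Subgroup G), b ∈ X → u * b * u⁻¹ = b⁻¹ := fun b hbT hbX =>
    hS.inv_of_commute hX hzX hz2 huX (hzc u huT) hbX (hzc b hbT)
  set! T0 : Subgroup G := (T : Subgroup G) ⊓ X with hT0
  have hrel : T0.relIndex (T : Subgroup G) = 2 := by
    rw [Subgroup.relIndex, Subgroup.index_eq_two_iff]
    refine ⟨⟨u, huT⟩, fun b => ?_⟩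
    rw [mem_subgroupOf, mem_subgroupOf]
    by_cases hb : (b : G) ∈ X
    · right
      refine ⟨⟨b.2, hb⟩, ?_⟩
      rintro ⟨-, h⟩
      exact huX ((mul_mem_cancel_left hb).1 h)
    · left
      refine ⟨⟨mul_mem b.2 huT, hidx b b.2 hb u huT huX⟩, ?_⟩
      rintro ⟨-, h⟩
      exact hb h
  -- `z` is the only involution of `T0`
  have huniq : ∀ z' ∈ (T : Subgroup G), z' ∈ X → orderOf z' = 2 → z' = z := by
    intro z' hzT' hzX' hz2'
    by_contra hne
    have hz1' : z' ≠ 1 := by
      rintro rfl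
      rw [orderOf_one] at hz2'
      omega
    have hzz' : z' * z' = 1 := by
      rw [← pow_two, ← hz2']
      exact pow_orderOf_eq_one z'
    have hcomm : z' * u = u * z' := by
      have h1 := huinv z' hzT' hzX'
      rw [inv_eq_of_mul_eq_one_left hzz', mul_inv_eq_iff_eq_mul] at h1
      exact h1.symm
    have hR : IsPGroup 2 ((T : Subgroup G) ⊓ centralizer ({u} : Set G) : Subgroup G) :=
      T.2.to_le inf_le_left
    obtain ⟨g, hg1, hg2⟩ := Cfsg.Agent.SylowSp4.ExtTransfer.exists_extremal T T0 inf_le_left hrel u huu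
      (fun f => hG f u) _ hR (fun r hr => by
        have := mem_centralizer_singleton_iff.1 hr.2
        first
          | exact this
          | exact this.symm)
    have hnot : ∀ w ∈ X, w ≠ 1 → g * w * g⁻¹ ∉ X := by
      intro w hw hw1 hgw
      have h1 := hS.mem_normalizer hX hw hw1 hgw
      exact huX ((mem_normalizer_iff.1 h1 u).2 hg1.2)
    have h1 : g * z * g⁻¹ ∈ (T : Subgroup G) :=
      hg2 z ⟨hzT, mem_centralizer_singleton_iff.2 (by
        first
          | exact hzc u huT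
          | exact (hzc u huT).symm)⟩
    have h2 : g * z' * g⁻¹ ∈ (T : Subgroup G) :=
      hg2 z' ⟨hzT', mem_centralizer_singleton_iff.2 (by
        first
          | exact hcomm
          | exact hcomm.symm)⟩
    have h3 := hidx _ h1 (hnot z hzX hz1) _ h2 (hnot z' hzX' hz1')
    have h4 : g * z * g⁻¹ * (g * z' * g⁻¹) = g * (z * z') * g⁻¹ := by group
    rw [h4] at h3
    refine hnot (z * z') (mul_mem hzX hzX') ?_ h3
    intro h5
    apply hne
    have h6 : z' = z⁻¹ := (inv_eq_of_mul_eq_one_right h5).symm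
    have hzz : z * z = 1 := by
      rw [← pow_two, ← hz2]
      exact pow_orderOf_eq_one z
    rw [h6, inv_eq_of_mul_eq_one_left hzz]
  -- `T0` is abelian, so cyclic
  have hab : ∀ a b : T0, a * b = b * a := by
    intro a b
    apply Subtype.ext
    change (a : G) * b = b * a
    have h1 := huinv (a * b) (mul_mem a.2.1 b.2.1) (mul_mem a.2.2 b.2.2)
    have h2 : u * (a * b : G) * u⁻¹ = (u * a * u⁻¹) * (u * b * u⁻¹) := by group
    rw [h2, huinv a a.2.1 a.2.2, huinv b b.2.1 b.2.2, mul_inv_rev] at h1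
    have h3 : ((a : G)⁻¹ * (b : G)⁻¹)⁻¹ = ((b : G)⁻¹ * (a : G)⁻¹)⁻¹ := by rw [h1]
    rw [mul_inv_rev, mul_inv_rev, inv_inv, inv_inv] at h3
    exact h3.symm
  have hcyc : IsCyclic T0 := by
    let _ : CommGroup T0 := { (inferInstance : Group T0) with mul_comm := hab }
    have h2f : Fact (Nat.Prime 2) := ⟨Nat.prime_two⟩
    refine Cfsg.Agent.Transfer.PGroupNormal.isCyclic_of_card_ker_pow_le (p := 2)
      (T.2.to_le inf_le_left) ?_
    have h1 : ∀ x ∈ (powMonoidHom 2 : T0 →* T0).ker, x = 1 ∨ x = ⟨z, hzT, hzX⟩ := by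
      intro x hx
      rw [MonoidHom.mem_ker, powMonoidHom_apply] at hx
      by_cases hx1 : x = 1
      · exact Or.inl hx1
      · right
        apply Subtype.ext
        apply huniq x x.2.1 x.2.2
        rw [orderOf_coe]
        exact orderOf_eq_prime hx hx1
    have h3 : ((powMonoidHom 2 : T0 →* T0).ker : Set T0) ⊆ {1, ⟨z, hzT, hzX⟩} := by
      intro x hx
      exact h1 x hx
    have h4 := Set.ncard_le_ncard h3 (Set.toFinite _)
    have h5 : ({1, ⟨z, hzT, hzX⟩} : Set T0).ncard ≤ 2 := by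
      refine (Set.ncard_insert_le _ _).trans ?_
      rw [Set.ncard_singleton]
    exact h4.trans h5
  obtain ⟨⟨a, haT, haX⟩, ha⟩ := hcyc.exists_generator
  have hgen : ∀ b ∈ (T : Subgroup G), b ∈ X → b ∈ zpowers a := by
    intro b hbT hbX
    obtain ⟨k, hk⟩ := mem_zpowers_iff.1 (ha ⟨b, hbT, hbX⟩)
    exact mem_zpowers_iff.2 ⟨k, congrArg Subtype.val hk⟩
  have haTX : zpowers a ≤ X := by rwa [zpowers_le]
  have haTT : zpowers a ≤ T := by rwa [zpowers_le]
  have hdih := Cfsg.Agent.SignalizersComponents.DihedralIso.nonempty_mulEquiv_of_notMem u a huu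
    (huinv a haT haX) (fun h => huX (haTX h))
  have hTeq : (zpowers u ⊔ zpowers a : Subgroup G) = T := by
    apply le_antisymm
    · exact sup_le (by rwa [zpowers_le]) haTT
    · intro t ht
      by_cases htX : t ∈ X
      · exact (le_sup_right : zpowers a ≤ _) (hgen t ht htX)
      · have h1 := hgen _ (mul_mem huT ht) (hidx u huT huX t ht htX)
        have h2 : t = u⁻¹ * (u * t) := by group
        rw [h2]
        exact mul_mem (inv_mem ((le_sup_left : zpowers u ≤ _) (mem_zpowers u)))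
          ((le_sup_right : zpowers a ≤ _) h1)
  have hn2 : 2 ≤ orderOf a := by
    have h1 : a ≠ 1 := by
      rintro rfl
      have := hgen z hzT hzX
      rw [zpowers_one_eq_bot, mem_bot] at this
      exact hz1 this
    have h2 : orderOf a ≠ 1 := fun h => h1 (orderOf_eq_one_iff.1 h)
    have h3 := orderOf_pos a
    omega
  refine ⟨⟨orderOf a, hn2, ?_⟩, ?_⟩
  · rw [hTeq] at hdih
    exact hdih
  · -- commuting involutions lie in different components
    intro Y hY s hs t ht hs2 ht2 hst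
    by_contra hne
    obtain ⟨g, hgs, hgt⟩ := exists_conj_mem_sylow T hs2 ht2 hst
    set s' := g * s * g⁻¹ with hs'
    set t' := g * t * g⁻¹ with ht'
    have hY' := hS.conj Y hY g
    set Y' : Subgroup G := Y.map (MulAut.conj g).toMonoidHom with hYdef
    have hsY' : s' ∈ Y' := ⟨s, hs, rfl⟩
    have htY' : t' ∈ Y' := ⟨t, ht, rfl⟩
    have hs2' : orderOf s' = 2 := by
      rw [hs', ← hs2]
      exact orderOf_injective (MulAut.conj g).toMonoidHom (MulAut.conj g).injective s
    have ht2' : orderOf t' = 2 := by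
      rw [ht', ← ht2]
      exact orderOf_injective (MulAut.conj g).toMonoidHom (MulAut.conj g).injective t
    have hne' : s' ≠ t' := by
      intro h
      apply hne
      have h1 : g * s * g⁻¹ = g * t * g⁻¹ := h
      exact mul_left_cancel (mul_right_cancel h1)
    have hss' : s' * s' = 1 := by
      rw [← pow_two, ← hs2']
      exact pow_orderOf_eq_one s'
    have hst1 : s' * t' ≠ 1 := by
      intro h
      apply hne'
      rw [(inv_eq_of_mul_eq_one_right h).symm, inv_eq_of_mul_eq_one_left hss']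
    have hs1' : s' ≠ 1 := by
      intro h
      rw [h, orderOf_one] at hs2'
      omega
    have ht1' : t' ≠ 1 := by
      intro h
      rw [h, orderOf_one] at ht2'
      omega
    by_cases hYX : Y' = X
    · rw [hYX] at hsY' htY'
      exact hne' ((huniq s' hgs hsY' hs2').trans (huniq t' hgt htY' ht2').symm)
    · have hsX : s' ∉ X := fun h => hYX (hS.eq_of_mem Y' hY' X hX s' hs1' hsY' h)
      have htX : t' ∉ X := fun h => hYX (hS.eq_of_mem Y' hY' X hX t' ht1' htY' h)
      exact hYX (hS.eq_of_mem Y' hY' X hX (s' * t') hst1 (mul_mem hsY' htY')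
        (hidx s' hgs hsX t' hgt htX))

/-- The structure of a Sylow 2-subgroup outside of the components. -/
theorem IsPart.struct [Finite G] (hS : IsPart S) (heven : 2 ∣ Nat.card G)
    (hG : ∀ (f : G →* ℤˣ) (u : G), f u = 1)
    (T : Sylow 2 G) (hT : ∀ X ∈ S, ¬ (T : Subgroup G) ≤ X) :
    ((∀ x ∈ (T : Subgroup G), x * x = 1) ∧
      ∀ x ∈ (T : Subgroup G), x ≠ 1 → ∀ g : G, g * x = x * g → g ∈ (T : Subgroup G) ∧ g * g = 1) ∨
    ((∃ n : ℕ, 2 ≤ n ∧ Nonempty ((T : Subgroup G) ≃* DihedralGroup n)) ∧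
      ∀ Y ∈ S, ∀ s ∈ Y, ∀ t ∈ Y, orderOf s = 2 → orderOf t = 2 → s * t = t * s → s = t) := by
  by_cases hcase : ∃ z ∈ (T : Subgroup G), orderOf z = 2 ∧ (∀ t ∈ (T : Subgroup G), t * z = z * t) ∧
      ∃ X ∈ S, z ∈ X ∧ ∀ u ∈ (T : Subgroup G), u ∉ X → ∀ v ∈ (T : Subgroup G), v ∉ X → u * v ∈ X
  · right
    obtain ⟨z, hzT, hz2, hzc, X, hX, hzX, hidx⟩ := hcase
    exact hS.dihedral hG T hX hzT hzX hz2 hzc (hT X hX) hidx
  · left
    push Not at hcase
    -- centralisers of central involutions have exponent two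
    have key : ∀ z ∈ (T : Subgroup G), orderOf z = 2 → (∀ t ∈ (T : Subgroup G), t * z = z * t) →
        ∀ c : G, c * z = z * c → c * c = 1 := by
      intro z hzT hz2 hzc c hc
      have hz1 : z ≠ 1 := by
        rintro rfl
        rw [orderOf_one] at hz2
        omega
      obtain ⟨X, hX, hzX⟩ := hS.cover z hz1
      by_cases hcX : c ∈ X
      · obtain ⟨u, huT, huX, v, hvT, hvX, huv⟩ := hcase z hzT hz2 hzc X hX hzX
        have h1 := hS.inv_of_commute hX hzX hz2 huX (hzc u huT) hcX hc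
        have h2 := hS.inv_of_commute hX hzX hz2 hvX (hzc v hvT) hcX hc
        have h3 := hS.inv_of_commute hX hzX hz2 huv (hzc _ (mul_mem huT hvT)) hcX hc
        have h4 : u * v * c * (u * v)⁻¹ = u * (v * c * v⁻¹) * u⁻¹ := by group
        have h5 : u * c⁻¹ * u⁻¹ = (u * c * u⁻¹)⁻¹ := by group
        rw [h4, h2, h5, h1, inv_inv] at h3
        have h6 : c * c = c⁻¹ * c := by rw [← h3]
        rw [h6, inv_mul_cancel]
      · exact hS.sq_of_commute hX hzX hz2 hcX hc
    -- a central involution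
    obtain ⟨z, hzT, hz2, hzc⟩ : ∃ z ∈ (T : Subgroup G), orderOf z = 2 ∧
        ∀ t ∈ (T : Subgroup G), t * z = z * t := by
      have h2f : Fact (Nat.Prime 2) := ⟨Nat.prime_two⟩
      have h2T : 2 ∣ Nat.card (T : Subgroup G) := by
        have := T.card_eq_multiplicity
        rw [this]
        apply dvd_pow_self
        have := (Nat.Prime.factorization_pos_of_dvd Nat.prime_two (Nat.card_pos (α := G)).ne' heven)
        omega
      have hnt : Nontrivial (T : Subgroup G) := by
        rw [← Finite.one_lt_card_iff_nontrivial]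
        exact lt_of_lt_of_le (by norm_num) (Nat.le_of_dvd Nat.card_pos h2T)
      have hc := T.2.center_nontrivial
      have h2Z : 2 ∣ Nat.card (center (T : Subgroup G)) := by
        have hZ : IsPGroup 2 (center (T : Subgroup G)) := T.2.to_subgroup _
        obtain ⟨n, hn⟩ := IsPGroup.iff_card.1 hZ
        have h1 : 1 < Nat.card (center (T : Subgroup G)) := Finite.one_lt_card
        rw [hn] at h1 ⊢
        apply dvd_pow_self
        rintro rfl
        simp at h1
      obtain ⟨z, hz⟩ := exists_prime_orderOf_dvd_card' 2 h2Z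
      refine ⟨((z : (T : Subgroup G)) : G), z.1.2, ?_, ?_⟩
      · rw [orderOf_coe, orderOf_coe, hz]
      · intro t ht
        exact congrArg Subtype.val ((mem_center_iff.1 z.2) ⟨t, ht⟩)
    have hsq : ∀ x ∈ (T : Subgroup G), x * x = 1 := fun x hx => key z hzT hz2 hzc x (hzc x hx)
    have hcomm : ∀ x ∈ (T : Subgroup G), ∀ y ∈ (T : Subgroup G), x * y = y * x := by
      intro x hx y hy
      have h1 := hsq _ (mul_mem hx hy)
      have h2 := inv_eq_of_mul_eq_one_left (hsq x hx)
      have h3 := inv_eq_of_mul_eq_one_left (hsq y hy)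
      have h4 : x * y = (x * y)⁻¹ := eq_inv_of_mul_eq_one_left h1
      rw [mul_inv_rev, h2, h3] at h4
      exact h4
    refine ⟨hsq, fun x hx hx1 g hg => ?_⟩
    have hx2 : orderOf x = 2 := orderOf_eq_prime (by rw [pow_two]; exact hsq x hx) hx1
    have hkey := key x hx hx2 (fun t ht => hcomm t ht x hx)
    refine ⟨?_, hkey g hg⟩
    -- the centraliser of `x` is a 2-group containing `T`
    have h1 : IsPGroup 2 (centralizer ({x} : Set G)) := by
      rw [isPGroup_iff_pow_pow_eq_one]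
      rintro ⟨c, hc⟩
      refine ⟨1, ?_⟩
      apply Subtype.ext
      change c ^ 2 ^ 1 = 1
      rw [pow_one, pow_two]
      apply hkey
      have := mem_centralizer_singleton_iff.1 hc
      first
        | exact this
        | exact this.symm
    have h2 : (T : Subgroup G) ≤ centralizer ({x} : Set G) := by
      intro t ht
      rw [mem_centralizer_singleton_iff]
      first
        | exact hcomm t ht x hx
        | exact hcomm x hx t ht
    have h3 := T.3 h1 h2
    rw [← h3, mem_centralizer_singleton_iff]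
    first
      | exact hg
      | exact hg.symm

end Cfsg.Agent.H550.Part
end
end

-- part: S4248
section
prune_inst 0x100100000000000800000000000000000000000000000000000000000000000000000000000000000000000010000000000000000000000000000000000000000000000000000000000000000000000000000000000000000000000000000000
set_option linter.all false
open scoped Cfsg.Agent.FastGrp

-- part: H550/Part/Even
section
/-!
# Invariant nilpotent partitions: a normal subgroup which is a Zassenhaus group of odd degree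
-/

set_option autoImplicit false

namespace Cfsg.Agent.H550.Part

open Subgroup Cfsg.Agent.LieExceptional.CCEven

universe u

variable {G : Type u} [Group G] {S : Set (Subgroup G)} {N : Subgroup G}

theorem coe_mem_map {T : Subgroup N} {n : N} : (n : G) ∈ T.map N.subtype ↔ n ∈ T := by
  constructor
  · rintro ⟨t, ht, hte⟩
    have : t = n := Subtype.ext hte
    exact this ▸ ht
  · intro h
    exact ⟨n, h, rfl⟩

theorem coe_mem_normalizer {T : Subgroup N} {n : N} :
    (n : G) ∈ normalizer ((T.map N.subtype : Subgroup G) : Set G) ↔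
      n ∈ normalizer (T : Set N) := by
  rw [mem_normalizer_iff, mem_normalizer_iff]
  constructor
  · intro h t
    have h1 := h (t : G)
    have h2 : (n : G) * t * (n : G)⁻¹ = ((n * t * n⁻¹ : N) : G) := rfl
    rwa [h2, coe_mem_map, coe_mem_map] at h1
  · intro h t
    constructor
    · rintro ⟨s, hs, rfl⟩
      exact ⟨n * s * n⁻¹, (h s).1 hs, rfl⟩
    · rintro ⟨s, hs, hse⟩
      have hse' : (s : G) = n * t * (n : G)⁻¹ := hse
      refine ⟨n⁻¹ * s * n, ?_, ?_⟩
      · apply (h _).2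
        have : n * (n⁻¹ * s * n) * n⁻¹ = s := by group
        rwa [this]
      · change (n : G)⁻¹ * s * n = t
        rw [hse']
        group

theorem orderOf_odd_of_mem_D [Finite G] {T : Subgroup N} (hc : Conf T) {x : N}
    (hx : x ∉ normalizer (T : Set N)) {d : N} (hd : d ∈ D T x) : ¬ 2 ∣ orderOf d := by
  intro h2
  obtain ⟨k, hk⟩ := h2
  have hk0 : k ≠ 0 := by
    rintro rfl
    have := orderOf_pos d
    omega
  have h1 : orderOf (d ^ k) = 2 := by
    rw [orderOf_pow_of_dvd hk0 ⟨2, by rw [hk, mul_comm]⟩, hk]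
    exact Nat.mul_div_cancel _ (Nat.pos_of_ne_zero hk0)
  have h3 := pow_mem hd k
  have h4 := involution_mem hc (mem_D.1 h3).1 h1
  have h5 := D_inf hc hx h3 h4
  rw [h5, orderOf_one] at h1
  omega

/-- the configuration -/
structure Cfg (S : Set (Subgroup G)) (N : Subgroup G) (T : Sylow 2 N) (x z : N) : Prop where
  part : IsPart S
  nil : ∀ X ∈ S, Group.IsNilpotent X
  conf : Conf (T : Subgroup N)
  ntop : normalizer ((T : Subgroup N) : Set N) ≠ ⊤
  two_le : 2 ≤ (T : Subgroup N).relIndex (normalizer ((T : Subgroup N) : Set N))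
  inv : _root_.Cfsg.Agent.LieExceptional.CCEven.Inv (T : Subgroup N) x
  zT : z ∈ (T : Subgroup N)
  z2 : orderOf z = 2

variable {T : Sylow 2 N} {x z : N}

/-- the stabiliser of two points centralising an involution -/
def stab (T : Sylow 2 N) (x z : N) : Subgroup G :=
  normalizer (((T : Subgroup N).map N.subtype : Subgroup G) : Set G) ⊓
    (normalizer (((T : Subgroup N).map N.subtype : Subgroup G) : Set G)).comap
      (MulAut.conj (x : G)⁻¹).toMonoidHom ⊓ centralizer ({(z : G)} : Set G)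

theorem mem_stab {g : G} : g ∈ stab T x z ↔
    g ∈ normalizer (((T : Subgroup N).map N.subtype : Subgroup G) : Set G) ∧
    (x : G)⁻¹ * g * x ∈ normalizer (((T : Subgroup N).map N.subtype : Subgroup G) : Set G) ∧
    g * z = z * g := by
  rw [stab, mem_inf, mem_inf, mem_comap, and_assoc, mem_centralizer_singleton_iff]
  simp only [_root_.Subgroup.coe_map, _root_.Subgroup.subtype_apply, _root_.Subgroup.coe_subtype, _root_.Sylow.coe_coe, _root_.map_inv, _root_.MulEquiv.toMonoidHom_eq_coe, _root_.MonoidHom.coe_coe, _root_.MulAut.inv_apply, _root_.MulAut.conj_symm_apply]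

theorem Cfg.z1 (C : Cfg S N T x z) : z ≠ 1 := by
  rintro rfl
  have := C.z2
  rw [orderOf_one] at this
  omega

theorem Cfg.zG [Finite G] (C : Cfg S N T x z) : orderOf (z : G) = 2 := by
  rw [orderOf_coe, C.z2]

theorem Cfg.card_D [Finite G] (C : Cfg S N T x z) :
    Nat.card (D (T : Subgroup N) x) = Nat.card {u : N // u ∈ (T : Subgroup N) ∧ orderOf u = 2} := by
  rw [C.inv.card, (card_eq C.conf C.ntop).1]

/-- `D` is transitive on the involutions of `T`. -/
theorem Cfg.exists_D [Finite G] (C : Cfg S N T x z) {a : N} (ha : a ∈ (T : Subgroup N))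
    (ha2 : orderOf a = 2) : ∃ d ∈ D (T : Subgroup N) x, d * z * d⁻¹ = a := by
  classical
  let f : D (T : Subgroup N) x → {u : N // u ∈ (T : Subgroup N) ∧ orderOf u = 2} := fun d =>
    ⟨d * z * (d : N)⁻¹, (mem_normalizer_iff.1 (mem_D.1 d.2).1 z).1 C.zT,
      (orderOf_injective (MulAut.conj (d : N)).toMonoidHom
        (MulAut.conj (d : N)).injective z).trans C.z2⟩
  have hf : Function.Injective f := by
    intro d e hde
    have h1 : (d : N) * z * (d : N)⁻¹ = e * z * (e : N)⁻¹ := congrArg Subtype.val hde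
    have h2 : ((e : N)⁻¹ * d) * z = z * ((e : N)⁻¹ * d) := by
      have h3 : ((e : N)⁻¹ * d) * z = (e : N)⁻¹ * (d * z * (d : N)⁻¹) * d := by group
      rw [h3, h1]
      group
    have h3 := C.conf.cent z C.zT C.z1 _ h2
    have h4 := D_inf C.conf C.inv.notin (mul_mem (inv_mem e.2) d.2) h3
    exact Subtype.ext (inv_mul_eq_one.1 h4).symm
  have hfb : Function.Bijective f := by
    rw [Nat.bijective_iff_injective_and_card]
    exact ⟨hf, C.card_D⟩
  obtain ⟨d, hd⟩ := hfb.2 ⟨a, ha, ha2⟩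
  exact ⟨d, d.2, congrArg Subtype.val hd⟩

theorem Cfg.exists_of_mem [Finite G] [hN : N.Normal] (C : Cfg S N T x z) {m : G}
    (hm : m ∈ normalizer (((T : Subgroup N).map N.subtype : Subgroup G) : Set G)) :
    ∃ n : N, (n : G)⁻¹ * m ∈ stab T x z := by
  set TG : Subgroup G := (T : Subgroup N).map N.subtype with hTG
  set y : N := ⟨m * x * m⁻¹, hN.conj_mem x x.2 m⟩ with hy
  have hyG : (y : G) = m * x * m⁻¹ := rfl
  have hyn : y ∉ normalizer ((T : Subgroup N) : Set N) := by
    intro h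
    rw [← coe_mem_normalizer, hyG] at h
    apply C.inv.notin
    rw [← coe_mem_normalizer]
    have h1 := mul_mem (mul_mem (inv_mem hm) h) hm
    have h2 : m⁻¹ * (m * x * m⁻¹) * m = (x : G) := by group
    rwa [h2] at h1
  obtain ⟨k, hk, hkx⟩ := _root_.Cfsg.Agent.LieExceptional.CCEven.trans C.conf C.ntop C.two_le C.inv hyn
  have hkx' := QuotientGroup.eq.1 hkx
  rw [← coe_mem_normalizer] at hkx'
  have hkM : (k : G) ∈ normalizer (TG : Set G) := coe_mem_normalizer.2 (le_normalizer hk)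
  have h1 : (x : G)⁻¹ * ((k : G)⁻¹ * m) * x ∈ normalizer (TG : Set G) := by
    have h2 : (x : G)⁻¹ * ((k : G)⁻¹ * m) * x = (((k * x)⁻¹ * y : N) : G) * m := by
      change _ = ((k : G) * x)⁻¹ * (m * x * m⁻¹) * m
      group
    rw [h2]
    exact mul_mem hkx' hm
  have h2 : (k : G)⁻¹ * m ∈ normalizer (TG : Set G) := mul_mem (inv_mem hkM) hm
  set m' : G := (k : G)⁻¹ * m with hm'
  set z' : N := ⟨m' * z * m'⁻¹, hN.conj_mem z z.2 m'⟩ with hz'
  have hz'T : z' ∈ (T : Subgroup N) := by
    rw [← coe_mem_map]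
    exact (mem_normalizer_iff.1 h2 z).1 (coe_mem_map.2 C.zT)
  have hz'2 : orderOf z' = 2 := by
    rw [← orderOf_coe, ← C.z2, ← orderOf_coe]
    exact orderOf_injective (MulAut.conj m').toMonoidHom (MulAut.conj m').injective (z : G)
  obtain ⟨d, hd, hdz⟩ := C.exists_D hz'T hz'2
  have hdM := coe_mem_normalizer.2 (mem_D.1 hd).1
  have hdM' := coe_mem_normalizer.2 (mem_D.1 hd).2
  refine ⟨k * d, ?_⟩
  have h3 : (((k * d : N) : G))⁻¹ * m = (d : G)⁻¹ * m' := by
    change ((k : G) * d)⁻¹ * m = _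
    rw [hm']
    group
  rw [h3, mem_stab]
  refine ⟨mul_mem (inv_mem hdM) h2, ?_, ?_⟩
  · have h4 : (x : G)⁻¹ * ((d : G)⁻¹ * m') * x =
        (((x⁻¹ * d * x : N) : G))⁻¹ * ((x : G)⁻¹ * m' * x) := by
      change _ = ((x : G)⁻¹ * d * x)⁻¹ * _
      group
    rw [h4]
    exact mul_mem (inv_mem hdM') h1
  · have h5 : (d : G) * z * (d : G)⁻¹ = m' * z * m'⁻¹ := congrArg Subtype.val hdz
    have h6 : (z : G) = (d : G)⁻¹ * (m' * z * m'⁻¹) * d := by
      rw [← h5]
      group
    calc (d : G)⁻¹ * m' * z = (d : G)⁻¹ * (m' * z * m'⁻¹) * d * ((d : G)⁻¹ * m') := by group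
      _ = z * ((d : G)⁻¹ * m') := by rw [← h6]

theorem Cfg.sup_eq_top [Finite G] [hN : N.Normal] (C : Cfg S N T x z) :
    N ⊔ stab T x z = ⊤ := by
  rw [eq_top_iff]
  intro γ _
  have hfr := Sylow.normalizer_sup_eq_top T
  have h1 : γ ∈ (normalizer (((T : Subgroup N).map N.subtype : Subgroup G) : Set G)) ⊔ N := by
    have h2 : γ ∈ (⊤ : Subgroup G) := mem_top γ
    rw [← hfr] at h2
    exact h2
  rw [sup_comm, mem_sup_of_normal_left] at h1
  obtain ⟨n, hn, m, hm, rfl⟩ := h1
  obtain ⟨k, hk⟩ := C.exists_of_mem hm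
  have h3 : n * m = n * k * ((k : G)⁻¹ * m) := by group
  rw [h3]
  exact mul_mem_sup (mul_mem hn k.2) hk

/-- no element of odd prime order in the stabiliser -/
theorem Cfg.prime_two [Finite G] [hN : N.Normal] (C : Cfg S N T x z) {g : G}
    (hg : g ∈ stab T x z) {r : ℕ} (hr : r.Prime) (hgr : orderOf g = r) : r = 2 := by
  by_contra hr2
  obtain ⟨hg1, hg2, hg3⟩ := mem_stab.1 hg
  have hg0 : g ≠ 1 := by
    rintro rfl
    rw [orderOf_one] at hgr
    exact hr.one_lt.ne hgr
  obtain ⟨Y, hY, hgY⟩ := C.part.cover g hg0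
  have hzY : (z : G) ∈ Y := by
    apply C.part.mem_of_commute hY hgY hg0 hg3
    rw [C.zG, hgr]
    exact Ne.symm hr2
  -- the element `t'`
  have hxx : x * x = 1 := by
    rw [← pow_two, ← C.inv.ord]
    exact pow_orderOf_eq_one x
  have hxi : x⁻¹ = x := inv_eq_of_mul_eq_one_left hxx
  have hzx : z * x ∉ normalizer ((T : Subgroup N) : Set N) := by
    intro h
    apply C.inv.notin
    have h1 := mul_mem (inv_mem (le_normalizer C.zT : z ∈ normalizer ((T : Subgroup N) : Set N))) h
    have h2 : z⁻¹ * (z * x) = x := by group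
    rwa [h2] at h1
  have hxzx : x * z * x ∉ normalizer ((T : Subgroup N) : Set N) := by
    intro h
    apply C.z1
    apply inter_trivial C.conf C.inv.notin C.zT
    rw [hxi]
    exact h
  obtain ⟨k, hk, hkx⟩ := _root_.Cfsg.Agent.LieExceptional.CCEven.trans C.conf C.ntop C.two_le C.inv hxzx
  have hkx' := QuotientGroup.eq.1 hkx
  -- `hkx' : (k * x)⁻¹ * (x * z * x) ∈ N(T)`
  set t' : N := x * k * x⁻¹ with ht'
  have ht'k : (z * x)⁻¹ * t' ∈ normalizer ((T : Subgroup N) : Set N) := by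
    have h1 := inv_mem hkx'
    have h2 : ((k * x)⁻¹ * (x * z * x))⁻¹ = (z * x)⁻¹ * t' := by
      have h3 : ((k * x)⁻¹ * (x * z * x))⁻¹ = (z * x)⁻¹ * (x⁻¹ * k * x) := by group
      rw [h3, ht']
      conv_lhs => rw [hxi]
      conv_rhs => rw [hxi]
    rwa [h2] at h1
  have hk1 : k ≠ 1 := by
    rintro rfl
    apply hzx
    rw [ht', mul_one, mul_inv_cancel, mul_one] at ht'k
    simpa using inv_mem ht'k
  have ht'1 : t' ≠ 1 := by
    intro h
    apply hk1
    exact conj_eq_one_iff.1 h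
  -- `g` commutes with `t'`
  set α : MulAut N := MulAut.conjNormal g with hα
  have hαG : ∀ n : N, ((α n : N) : G) = g * n * g⁻¹ := fun n => MulAut.conjNormal_apply g n
  have hαT : ∀ n : N, n ∈ normalizer ((T : Subgroup N) : Set N) →
      α n ∈ normalizer ((T : Subgroup N) : Set N) := by
    intro n hn
    rw [← coe_mem_normalizer, hαG]
    exact mul_mem (mul_mem hg1 (coe_mem_normalizer.2 hn)) (inv_mem hg1)
  have hαx : x⁻¹ * α x ∈ normalizer ((T : Subgroup N) : Set N) := by
    rw [← coe_mem_normalizer]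
    have h1 : ((x⁻¹ * α x : N) : G) = (x : G)⁻¹ * g * x * g⁻¹ := by
      change (x : G)⁻¹ * ((α x : N) : G) = _
      rw [hαG]
      group
    rw [h1]
    exact mul_mem hg2 (inv_mem hg1)
  have hαz : α z = z := by
    apply Subtype.ext
    rw [hαG, hg3, mul_inv_cancel_right]
  have hαt : t'⁻¹ * α t' = 1 := by
    -- it lies in `x T x⁻¹` and in `N(T)`
    have h1 : (z * x)⁻¹ * α t' ∈ normalizer ((T : Subgroup N) : Set N) := by
      have h2 := hαT _ ht'k
      rw [map_mul, map_inv, map_mul, hαz] at h2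
      have h3 : (z * x)⁻¹ * α t' = (x⁻¹ * α x) * ((z * α x)⁻¹ * α t') := by group
      rw [h3]
      exact mul_mem hαx h2
    have h2 : t'⁻¹ * α t' ∈ normalizer ((T : Subgroup N) : Set N) := by
      have h3 : t'⁻¹ * α t' = ((z * x)⁻¹ * t')⁻¹ * ((z * x)⁻¹ * α t') := by group
      rw [h3]
      exact mul_mem (inv_mem ht'k) h1
    have h4 : x⁻¹ * (t'⁻¹ * α t') * x ∈ (T : Subgroup N) := by
      have h5 : x⁻¹ * α t' * x ∈ (T : Subgroup N) := by
        have h6 : x⁻¹ * α t' * x = (x⁻¹ * α x) * α k * (x⁻¹ * α x)⁻¹ := by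
          rw [ht', map_mul, map_mul, map_inv]
          group
        rw [h6]
        refine (mem_normalizer_iff.1 hαx _).1 ?_
        rw [← coe_mem_map, hαG]
        exact (mem_normalizer_iff.1 hg1 _).1 (coe_mem_map.2 hk)
      have h7 : x⁻¹ * (t'⁻¹ * α t') * x = k⁻¹ * (x⁻¹ * α t' * x) := by
        rw [ht']
        group
      rw [h7]
      exact mul_mem (inv_mem hk) h5
    have h8 := inter_trivial C.conf C.inv.notin h4 (by
      have h9 : x⁻¹ * (x⁻¹ * (t'⁻¹ * α t') * x) * x = t'⁻¹ * α t' := by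
        have h10 : x⁻¹ * (x⁻¹ * (t'⁻¹ * α t') * x) * x =
          (x * x)⁻¹ * (t'⁻¹ * α t') * (x * x) := by group
        rw [h10, hxx]
        group
      rw [h9]
      exact h2)
    have h11 : t'⁻¹ * α t' = x * (x⁻¹ * (t'⁻¹ * α t') * x) * x⁻¹ := by group
    rw [h11, h8, mul_one, mul_inv_cancel]
  have hgt : g * t' = t' * g := by
    have h1 : α t' = t' := (inv_mul_eq_one.1 hαt).symm
    have h2 := hαG t'
    rw [h1] at h2
    exact (mul_inv_eq_iff_eq_mul.1 h2.symm)
  -- `t'` is a 2-element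
  have ht'p : ∃ j : ℕ, t' ^ 2 ^ j = 1 := by
    obtain ⟨j, hj⟩ := (isPGroup_iff_pow_pow_eq_one.1 T.2) ⟨k, hk⟩
    refine ⟨j, ?_⟩
    have hj' : k ^ 2 ^ j = 1 := congrArg Subtype.val hj
    rw [ht', conj_pow, hj', mul_one, mul_inv_cancel]
  have ht'Y : (t' : G) ∈ Y := by
    apply C.part.mem_of_commute hY hgY hg0 hgt
    rw [orderOf_coe, hgr]
    intro h
    obtain ⟨j, hj⟩ := ht'p
    have h1 := orderOf_dvd_of_pow_eq_one hj
    rw [h] at h1
    exact hr2 ((Nat.prime_dvd_prime_iff_eq hr Nat.prime_two).1 (hr.dvd_of_dvd_pow h1))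
  have h2f : Fact (Nat.Prime 2) := ⟨Nat.prime_two⟩
  obtain ⟨P, hPY, hP2, hPmem, -⟩ := nil_pPart 2 (C.nil Y hY)
  have hzP : (z : G) ∈ P := hPmem _ hzY ⟨1, by rw [pow_one, ← C.zG]; exact pow_orderOf_eq_one _⟩
  have ht'P : (t' : G) ∈ P := by
    refine hPmem _ ht'Y ?_
    obtain ⟨j, hj⟩ := ht'p
    exact ⟨j, by rw [← Subgroup.coe_pow, hj]; rfl⟩
  have hPN : IsPGroup 2 (P.subgroupOf N) := hP2.comap_subtype
  obtain ⟨Q, hQ⟩ := hPN.exists_le_sylow
  obtain ⟨n, hn⟩ := MulAction.exists_smul_eq N T Q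
  have hzQ : z ∈ (Q : Subgroup N) := hQ (mem_subgroupOf.2 hzP)
  have ht'Q : t' ∈ (Q : Subgroup N) := hQ (mem_subgroupOf.2 ht'P)
  have hQT : Q = T := by
    rw [← hn] at hzQ
    obtain ⟨s, hs, hsz⟩ := hzQ
    have hsz' : n * s * n⁻¹ = z := hsz
    have hs1 : s ≠ 1 := by
      rintro rfl
      rw [mul_one, mul_inv_cancel] at hsz'
      exact C.z1 hsz'.symm
    have h1 := C.conf.ti s hs hs1 n (by rw [hsz']; exact C.zT)
    rw [← hn]
    exact Sylow.smul_eq_iff_mem_normalizer.2 h1
  rw [hQT] at ht'Q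
  exact C.inv.notin (C.conf.ti k hk hk1 x ht'Q)

/-- an involution in the stabiliser: at most three involutions in `T` -/
theorem Cfg.card_le [Finite G] [hN : N.Normal] (C : Cfg S N T x z) {g : G}
    (hg : g ∈ stab T x z) (hg2 : orderOf g = 2) :
    Nat.card {u : N // u ∈ (T : Subgroup N) ∧ orderOf u = 2} ≤ 3 := by
  classical
  obtain ⟨hg1, hgx, hgz⟩ := mem_stab.1 hg
  have hg0 : g ≠ 1 := by
    rintro rfl
    rw [orderOf_one] at hg2
    omega
  have hgg : g * g = 1 := by
    rw [← pow_two, ← hg2]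
    exact pow_orderOf_eq_one g
  obtain ⟨Y, hY, hgY⟩ := C.part.cover g hg0
  set α : MulAut N := MulAut.conjNormal g with hα
  have hαG : ∀ n : N, ((α n : N) : G) = g * n * g⁻¹ := fun n => MulAut.conjNormal_apply g n
  have hαα : ∀ n : N, α (α n) = n := by
    intro n
    apply Subtype.ext
    rw [hαG, hαG]
    have h1 : g * (g * n * g⁻¹) * g⁻¹ = (g * g) * n * (g * g)⁻¹ := by group
    rw [h1, hgg]
    group
  have hαT : ∀ n ∈ (T : Subgroup N), α n ∈ (T : Subgroup N) := by
    intro n hn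
    rw [← coe_mem_map, hαG]
    exact (mem_normalizer_iff.1 hg1 _).1 (coe_mem_map.2 hn)
  have hαz : α z = z := by
    apply Subtype.ext
    rw [hαG, hgz, mul_inv_cancel_right]
  -- `g` has no fixed points on `D`
  have hD : ∀ d ∈ D (T : Subgroup N) x, α d = d → d = 1 := by
    intro d hd hαd
    by_contra hd1
    have hdg : g * d = d * g := by
      have h2 := hαG d
      rw [hαd] at h2
      exact mul_inv_eq_iff_eq_mul.1 h2.symm
    have hdodd := orderOf_odd_of_mem_D C.conf C.inv.notin hd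
    have hdY : (d : G) ∈ Y := by
      apply C.part.mem_of_commute hY hgY hg0 hdg
      rw [orderOf_coe, hg2]
      intro h
      exact hdodd (by rw [h])
    have hdT : d ∉ (T : Subgroup N) := fun h => hd1 (D_inf C.conf C.inv.notin hd h)
    have hwT : z * d ∉ (T : Subgroup N) := fun h => hdT ((mul_mem_cancel_left C.zT).1 h)
    have hwn : z * d ∈ normalizer ((T : Subgroup N) : Set N) :=
      mul_mem (le_normalizer C.zT) (mem_D.1 hd).1
    obtain ⟨k, hk, hkw⟩ := exists_conj_D C.conf C.inv hwn hwT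
    have hwodd := orderOf_odd_of_mem_D C.conf C.inv.notin hkw
    have hword : orderOf (k⁻¹ * (z * d) * k) = orderOf (z * d) := by
      have := orderOf_injective (MulAut.conj k⁻¹).toMonoidHom (MulAut.conj k⁻¹).injective (z * d)
      rw [← this]
      congr 1
      change _ = k⁻¹ * (z * d) * k⁻¹⁻¹
      rw [inv_inv]
    rw [hword] at hwodd
    have hwg : g * ((z * d : N) : G) = ((z * d : N) : G) * g := by
      change g * ((z : G) * d) = (z : G) * d * g
      rw [← mul_assoc, hgz, mul_assoc, hdg, mul_assoc]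
    have hwY : ((z * d : N) : G) ∈ Y := by
      apply C.part.mem_of_commute hY hgY hg0 hwg
      rw [orderOf_coe, hg2]
      intro h
      exact hwodd (by rw [h])
    have hzY : (z : G) ∈ Y := (mul_mem_cancel_right hdY).1 hwY
    have hcomm := Cfsg.Agent.OddOrderLocal.CNBasic.commute_of_mem_of_coprime (C.nil Y hY) hzY hdY (by
      rw [C.zG, orderOf_coe]
      exact (Nat.Prime.coprime_iff_not_dvd Nat.prime_two).2 hdodd)
    have hcomm' : d * z = z * d := Subtype.ext hcomm.symm
    exact hdT (C.conf.cent z C.zT C.z1 d hcomm')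
  -- `z` is the only involution of `T` fixed by `g`
  have hfix : ∀ a ∈ (T : Subgroup N), orderOf a = 2 → α a = a → a = z := by
    intro a ha ha2 hαa
    obtain ⟨d, hd, hdz⟩ := C.exists_D ha ha2
    have hαD : α d ∈ D (T : Subgroup N) x := by
      rw [mem_D, ← coe_mem_normalizer, ← coe_mem_normalizer, hαG]
      refine ⟨mul_mem (mul_mem hg1 (coe_mem_normalizer.2 (mem_D.1 hd).1)) (inv_mem hg1), ?_⟩
      have h1 : ((x⁻¹ * α d * x : N) : G) =
          ((x : G)⁻¹ * g * x) * ((x⁻¹ * d * x : N) : G) * ((x : G)⁻¹ * g * x)⁻¹ := by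
        change (x : G)⁻¹ * ((α d : N) : G) * x =
          ((x : G)⁻¹ * g * x) * ((x : G)⁻¹ * d * x) * ((x : G)⁻¹ * g * x)⁻¹
        rw [hαG]
        group
      rw [h1]
      exact mul_mem (mul_mem hgx (coe_mem_normalizer.2 (mem_D.1 hd).2)) (inv_mem hgx)
    have h1 : α d * z * (α d)⁻¹ = d * z * d⁻¹ := by
      rw [hdz]
      conv_rhs => rw [← hαa, ← hdz, map_mul, map_mul, map_inv, hαz]
    have h2 : (d⁻¹ * α d) * z = z * (d⁻¹ * α d) := by
      have h3 : (d⁻¹ * α d) * z = d⁻¹ * (α d * z * (α d)⁻¹) * α d := by group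
      rw [h3, h1]
      group
    have h3 := C.conf.cent z C.zT C.z1 _ h2
    have h4 := D_inf C.conf C.inv.notin (mul_mem (inv_mem hd) hαD) h3
    have h5 : α d = d := (inv_mul_eq_one.1 h4).symm
    have h6 := hD d hd h5
    rw [← hdz, h6, one_mul, inv_one, mul_one]
  -- involutions of `T` are central in `T`
  have hcen : ∀ a ∈ (T : Subgroup N), orderOf a = 2 → ∀ b ∈ (T : Subgroup N), a * b = b * a := by
    have h2f : Fact (Nat.Prime 2) := ⟨Nat.prime_two⟩
    have hnt : Nontrivial (T : Subgroup N) :=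
      ⟨⟨⟨z, C.zT⟩, 1, fun h => C.z1 (congrArg Subtype.val h)⟩⟩
    have hc := T.2.center_nontrivial
    have h2Z : 2 ∣ Nat.card (center (T : Subgroup N)) := by
      have hZ : IsPGroup 2 (center (T : Subgroup N)) := T.2.to_subgroup _
      obtain ⟨n, hn⟩ := IsPGroup.iff_card.1 hZ
      have h1 : 1 < Nat.card (center (T : Subgroup N)) := Finite.one_lt_card
      rw [hn] at h1 ⊢
      apply dvd_pow_self
      rintro rfl
      simp at h1
    obtain ⟨c, hc2⟩ := exists_prime_orderOf_dvd_card' 2 h2Z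
    have hcT : ((c : (T : Subgroup N)) : N) ∈ (T : Subgroup N) := c.1.2
    have hco : orderOf ((c : (T : Subgroup N)) : N) = 2 := by
      rw [orderOf_coe, orderOf_coe, hc2]
    have hccen : ∀ t ∈ (T : Subgroup N), t * ((c : (T : Subgroup N)) : N) =
        ((c : (T : Subgroup N)) : N) * t := by
      intro t ht
      exact congrArg Subtype.val ((mem_center_iff.1 c.2) ⟨t, ht⟩)
    -- `z` is central
    have hconj : ∀ d : N, d ∈ normalizer ((T : Subgroup N) : Set N) → ∀ a : N,
        (∀ b ∈ (T : Subgroup N), a * b = b * a) →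
        ∀ b ∈ (T : Subgroup N), (d * a * d⁻¹) * b = b * (d * a * d⁻¹) := by
      intro d hd a ha b hb
      have h1 : d⁻¹ * b * d ∈ (T : Subgroup N) := by
        have := (mem_normalizer_iff.1 (inv_mem hd) b).1 hb
        rwa [inv_inv] at this
      have h2 := ha _ h1
      calc d * a * d⁻¹ * b = d * (a * (d⁻¹ * b * d)) * d⁻¹ := by group
        _ = d * ((d⁻¹ * b * d) * a) * d⁻¹ := by rw [h2]
        _ = b * (d * a * d⁻¹) := by group
    obtain ⟨d, hd, hdz⟩ := C.exists_D hcT hco
    have hz : ∀ b ∈ (T : Subgroup N), z * b = b * z := by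
      have h1 : z = d⁻¹ * ((c : (T : Subgroup N)) : N) * d⁻¹⁻¹ := by
        rw [← hdz]
        group
      rw [h1]
      exact hconj d⁻¹ (inv_mem (mem_D.1 hd).1) _ (fun b hb => (hccen b hb).symm)
    intro a ha ha2
    obtain ⟨e, he, hez⟩ := C.exists_D ha ha2
    rw [← hez]
    exact hconj e (mem_D.1 he).1 z hz
  have hsq : ∀ a : N, orderOf a = 2 → a * a = 1 := by
    intro a ha
    rw [← pow_two, ← ha]
    exact pow_orderOf_eq_one a
  -- `g` acts on the involutions other than `z` as multiplication by `z`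
  have hact : ∀ a ∈ (T : Subgroup N), orderOf a = 2 → a ≠ z → α a = a * z := by
    intro a ha ha2 haz
    have hαa2 : orderOf (α a) = 2 := by
      rw [MulEquiv.orderOf_eq, ha2]
    have h1 : a * α a ≠ 1 := by
      intro h
      have h2 : α a = a := by
        rw [← inv_eq_of_mul_eq_one_right h]
        exact inv_eq_of_mul_eq_one_left (hsq a ha2)
      exact haz (hfix a ha ha2 h2)
    have hcaa := hcen a ha ha2 (α a) (hαT a ha)
    have h2 : orderOf (a * α a) = 2 := by
      refine orderOf_eq_prime ?_ h1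
      rw [pow_two]
      calc a * α a * (a * α a) = a * (α a * a) * α a := by group
        _ = (a * a) * (α a * α a) := by rw [← hcaa]; group
        _ = 1 := by rw [hsq a ha2, hsq _ hαa2, one_mul]
    have h3 : α (a * α a) = a * α a := by
      rw [map_mul, hαα, hcaa]
    have h4 := hfix _ (mul_mem ha (hαT a ha)) h2 h3
    have h5 : α a = a⁻¹ * z := by rw [← h4]; group
    rw [h5, inv_eq_of_mul_eq_one_left (hsq a ha2)]
  have hle : ∀ a ∈ (T : Subgroup N), orderOf a = 2 → a ≠ z → ∀ b ∈ (T : Subgroup N),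
      orderOf b = 2 → b ≠ z → b = a ∨ b = a * z := by
    intro a ha ha2 haz b hb hb2 hbz
    by_contra hcon
    push Not at hcon
    obtain ⟨hba, hbaz⟩ := hcon
    have hcab := hcen a ha ha2 b hb
    have hcaz := hcen a ha ha2 z C.zT
    have hzz := hsq z C.z2
    have hab1 : a * b ≠ 1 := by
      intro h
      apply hba
      rw [← inv_eq_of_mul_eq_one_right h]
      exact inv_eq_of_mul_eq_one_left (hsq a ha2)
    have hab2 : orderOf (a * b) = 2 := by
      refine orderOf_eq_prime ?_ hab1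
      rw [pow_two]
      calc a * b * (a * b) = a * (b * a) * b := by group
        _ = (a * a) * (b * b) := by rw [← hcab]; group
        _ = 1 := by rw [hsq a ha2, hsq b hb2, one_mul]
    have habz : a * b ≠ z := by
      intro h
      apply hbaz
      rw [← h, ← mul_assoc, hsq a ha2, one_mul]
    have h1 := hact _ (mul_mem ha hb) hab2 habz
    rw [map_mul, hact a ha ha2 haz, hact b hb hb2 hbz] at h1
    have h2 : a * z * (b * z) = a * b := by
      have h3 := hcen z C.zT C.z2 b hb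
      calc a * z * (b * z) = a * (z * b) * z := by group
        _ = a * b * (z * z) := by rw [h3]; group
        _ = a * b := by rw [hzz, mul_one]
    rw [h2] at h1
    exact C.z1 (by simpa using h1.symm)
  -- counting
  by_cases hex : ∃ a ∈ (T : Subgroup N), orderOf a = 2 ∧ a ≠ z
  · obtain ⟨a, ha, ha2, haz⟩ := hex
    have hsub : {u : N | u ∈ (T : Subgroup N) ∧ orderOf u = 2} ⊆ {z, a, a * z} := by
      rintro b ⟨hb, hb2⟩
      by_cases hbz : b = z
      · exact Or.inl hbz
      · exact Or.inr (hle a ha ha2 haz b hb hb2 hbz)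
    have h1 := Set.ncard_le_ncard hsub (Set.toFinite _)
    have h2 : ({z, a, a * z} : Set N).ncard ≤ 3 := by
      refine (Set.ncard_insert_le _ _).trans ?_
      refine Nat.succ_le_succ ((Set.ncard_insert_le _ _).trans ?_)
      rw [Set.ncard_singleton]
    exact h1.trans h2
  · push Not at hex
    have hsub : {u : N | u ∈ (T : Subgroup N) ∧ orderOf u = 2} ⊆ {z} := by
      rintro b ⟨hb, hb2⟩
      exact hex b hb hb2
    have h1 := Set.ncard_le_ncard hsub (Set.toFinite _)
    rw [Set.ncard_singleton] at h1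
    exact le_trans h1 (by norm_num)

/-- **The even case**: `N = G`, or `T` has at most three involutions. -/
theorem Cfg.main [Finite G] [hN : N.Normal] (C : Cfg S N T x z) :
    N = ⊤ ∨ Nat.card {u : N // u ∈ (T : Subgroup N) ∧ orderOf u = 2} ≤ 3 := by
  by_cases hst : (stab T x z : Subgroup G) = ⊥
  · left
    have h1 := C.sup_eq_top
    rwa [hst, sup_bot_eq] at h1
  · right
    have h1 : Nat.card (stab T x z : Subgroup G) ≠ 1 := fun h =>
      hst (Subgroup.eq_bot_of_card_eq _ h)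
    obtain ⟨r, hr, hrd⟩ := Nat.exists_prime_and_dvd h1
    obtain ⟨g, hg, hgr⟩ := exists_prime_order_mem hr hrd
    have hr2 := C.prime_two hg hr hgr
    exact C.card_le hg (hgr.trans hr2)

end Cfsg.Agent.H550.Part
end

-- part: H550/Part/EvenNum
section
/-!
# Numerical exclusion of the case of three involutions
-/

set_option autoImplicit false

namespace Cfsg.Agent.H550.Part

open Subgroup Cfsg.Agent.LieExceptional.CCEven

theorem pow_two_unique {i j u v : ℕ} (hu : Odd u) (hv : Odd v) (h : 2 ^ i * u = 2 ^ j * v) :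
    i = j := by
  have key : ∀ i j u v : ℕ, Odd u → Odd v → 2 ^ i * u = 2 ^ j * v → i ≤ j := by
    intro i j u v hu hv h
    by_contra hlt
    push Not at hlt
    obtain ⟨k, rfl⟩ := Nat.exists_eq_add_of_lt hlt
    have h1 : 2 ^ (j + k + 1) * u = 2 ^ j * (2 * (2 ^ k * u)) := by ring
    rw [h1] at h
    have h2 := Nat.eq_of_mul_eq_mul_left (pow_pos (by norm_num) j) h
    rw [← h2] at hv
    exact (Nat.not_odd_iff_even.2 (even_two_mul _)) hv
  exact le_antisymm (key i j u v hu hv h) (key j i v u hv hu h.symm)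

theorem num_suzuki {k m : ℕ} (hm : 1 ≤ m) :
    2 ^ k * 3 * (2 ^ k + 1) ≠
      (2 ^ (2 * m + 1)) ^ 2 * ((2 ^ (2 * m + 1)) ^ 2 + 1) * (2 ^ (2 * m + 1) - 1) := by
  intro h
  by_cases hk : k = 0
  · subst hk
    have h8 : 8 ≤ 2 ^ (2 * m + 1) := by
      calc 8 = 2 ^ 3 := by norm_num
        _ ≤ 2 ^ (2 * m + 1) := Nat.pow_le_pow_right (by norm_num) (by omega)
    set Q := 2 ^ (2 * m + 1) with hQ
    have h1 : 1 ≤ (Q - 1) := by omega
    have h2 : 64 ≤ Q ^ 2 := by nlinarith only [h8]
    have h3 : 64 ≤ Q ^ 2 * (Q ^ 2 + 1) * (Q - 1) := by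
      calc 64 = 64 * 1 * 1 := by norm_num
        _ ≤ Q ^ 2 * (Q ^ 2 + 1) * (Q - 1) :=
          Nat.mul_le_mul (Nat.mul_le_mul h2 (by omega)) h1
    omega
  · set Q := 2 ^ (2 * m + 1) with hQ
    have hQe : Even Q := by
      rw [hQ, pow_succ]
      exact even_two.mul_left _
    have hQ8 : 8 ≤ Q := by
      calc 8 = 2 ^ 3 := by norm_num
        _ ≤ 2 ^ (2 * m + 1) := Nat.pow_le_pow_right (by norm_num) (by omega)
    have h1 : 2 ^ k * (3 * (2 ^ k + 1)) = 2 ^ (2 * (2 * m + 1)) * ((Q ^ 2 + 1) * (Q - 1)) := by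
      have h2 : 2 ^ (2 * (2 * m + 1)) = Q ^ 2 := by rw [hQ, ← pow_mul, mul_comm]
      rw [h2, ← mul_assoc, ← mul_assoc]
      exact h
    have hodd1 : Odd (3 * (2 ^ k + 1)) := by
      refine Odd.mul (by decide) (Even.add_one ?_)
      obtain ⟨j, rfl⟩ := Nat.exists_eq_succ_of_ne_zero hk
      rw [pow_succ]
      exact even_two.mul_left _
    have hodd2 : Odd ((Q ^ 2 + 1) * (Q - 1)) := by
      refine Odd.mul (Even.add_one (hQe.pow_of_ne_zero (by norm_num))) ?_
      obtain ⟨c, hc⟩ := hQe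
      exact ⟨c - 1, by omega⟩
    have h3 := pow_two_unique hodd1 hodd2 h1
    rw [h3] at h1
    have h4 := Nat.eq_of_mul_eq_mul_left (pow_pos (by norm_num) _) h1
    have h5 : 2 ^ (2 * (2 * m + 1)) = Q ^ 2 := by rw [hQ, ← pow_mul, mul_comm]
    rw [h5, mul_comm 3] at h4
    have h6 := Nat.eq_of_mul_eq_mul_left (by positivity) h4
    omega

theorem num_even {k f : ℕ} (hk : 3 ≤ k) :
    2 ^ k * 3 * (2 ^ k + 1) ≠ 2 ^ f * ((2 ^ f) ^ 2 - 1) := by
  intro h
  by_cases hf : f = 0
  · subst hf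
    have : 0 < 2 ^ k * 3 * (2 ^ k + 1) := by positivity
    omega
  have hodd1 : Odd (3 * (2 ^ k + 1)) := by
    refine Odd.mul (by decide) (Even.add_one ?_)
    obtain ⟨j, rfl⟩ := Nat.exists_eq_succ_of_ne_zero (show k ≠ 0 by omega)
    rw [pow_succ]
    exact even_two.mul_left _
  have hfe : Even (2 ^ f) := by
    obtain ⟨j, rfl⟩ := Nat.exists_eq_succ_of_ne_zero hf
    rw [pow_succ]
    exact even_two.mul_left _
  have hpos : 1 ≤ 2 ^ f := Nat.one_le_two_pow
  have hodd2 : Odd ((2 ^ f) ^ 2 - 1) := by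
    have h1 : Even ((2 ^ f) ^ 2) := hfe.pow_of_ne_zero (by norm_num)
    obtain ⟨c, hc⟩ := h1
    have : 1 ≤ (2 ^ f) ^ 2 := Nat.one_le_pow _ _ (by omega)
    exact ⟨c - 1, by omega⟩
  have h3 := pow_two_unique hodd1 hodd2 (by rw [← mul_assoc]; exact h)
  rw [h3, mul_assoc] at h
  have h4 := Nat.eq_of_mul_eq_mul_left (by positivity) h
  have h5 : (2 ^ f) ^ 2 - 1 = (2 ^ f + 1) * (2 ^ f - 1) := by
    have := Nat.sq_sub_sq (2 ^ f) 1
    rw [one_pow] at this
    exact this
  rw [h5, mul_comm 3] at h4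
  have h6 := Nat.eq_of_mul_eq_mul_left (by positivity) h4
  have h7 : 8 ≤ 2 ^ f := by
    calc 8 = 2 ^ 3 := by norm_num
      _ ≤ 2 ^ f := Nat.pow_le_pow_right (by norm_num) (by omega)
  omega

theorem num_odd {k q : ℕ} (hk : 3 ≤ k) (hq : Odd q) :
    2 ^ k * 3 * (2 ^ k + 1) * 2 ≠ q * (q ^ 2 - 1) := by
  intro h
  obtain ⟨s, rfl⟩ := hq
  have h1 : (2 * s + 1) ^ 2 - 1 = 4 * (s * (s + 1)) := by
    have : (2 * s + 1) ^ 2 = 4 * (s * (s + 1)) + 1 := by ring
    omega
  rw [h1] at h
  obtain ⟨j, rfl⟩ : ∃ j, k = j + 1 := ⟨k - 1, by omega⟩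
  have h2 : 2 ^ j * (3 * (2 ^ (j + 1) + 1)) = (2 * s + 1) * (s * (s + 1)) := by
    have h3 : 2 ^ (j + 1) * 3 * (2 ^ (j + 1) + 1) * 2 =
        4 * (2 ^ j * (3 * (2 ^ (j + 1) + 1))) := by ring
    have h4 : (2 * s + 1) * (4 * (s * (s + 1))) = 4 * ((2 * s + 1) * (s * (s + 1))) := by ring
    rw [h3, h4] at h
    omega
  have h5 : 2 ^ j ∣ s * (s + 1) := by
    have h6 : 2 ^ j ∣ (2 * s + 1) * (s * (s + 1)) := ⟨_, h2.symm⟩
    refine Nat.Coprime.dvd_of_dvd_mul_left ?_ h6
    exact Nat.Coprime.pow_left _ ((Nat.coprime_two_left).2 ⟨s, rfl⟩)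
  have hs0 : 0 < s := by
    rcases Nat.eq_zero_or_pos s with h0 | h0
    · subst h0
      have : 0 < 2 ^ j * (3 * (2 ^ (j + 1) + 1)) := by positivity
      simp at h2
    · exact h0
  have h7 : 2 ^ j ≤ s + 1 := by
    rcases Nat.even_or_odd s with he | ho
    · have h8 : 2 ^ j ∣ s := by
        refine Nat.Coprime.dvd_of_dvd_mul_right ?_ h5
        exact Nat.Coprime.pow_left _ ((Nat.coprime_two_left).2 he.add_one)
      exact (Nat.le_of_dvd hs0 h8).trans (by omega)
    · have h8 : 2 ^ j ∣ s + 1 := by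
        refine Nat.Coprime.dvd_of_dvd_mul_left ?_ h5
        exact Nat.Coprime.pow_left _ ((Nat.coprime_two_left).2 ho)
      exact Nat.le_of_dvd (by omega) h8
  have h9 : 4 ≤ 2 ^ j := by
    calc 4 = 2 ^ 2 := by norm_num
      _ ≤ 2 ^ j := Nat.pow_le_pow_right (by norm_num) (by omega)
  have h10 : 2 ^ (j + 1) = 2 * 2 ^ j := by ring
  rw [h10] at h2
  set b := 2 ^ j with hb
  -- `3 b (2 b + 1) = s (s + 1) (2 s + 1)`, `4 ≤ b ≤ s + 1`
  have h11 : 3 ≤ s := by omega
  have h12 : b * (3 * (2 * b + 1)) ≤ (s + 1) * (3 * (2 * (s + 1) + 1)) :=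
    Nat.mul_le_mul h7 (by omega)
  have h13 : (2 * s + 1) * (s * (s + 1)) ≤ (s + 1) * (3 * (2 * (s + 1) + 1)) := h2 ▸ h12
  have h14 : (2 * s + 1) * s ≤ 3 * (2 * (s + 1) + 1) := by
    have h15 : (2 * s + 1) * (s * (s + 1)) = (s + 1) * ((2 * s + 1) * s) := by ring
    rw [h15] at h13
    exact Nat.le_of_mul_le_mul_left h13 (by omega)
  have h16 : s ≤ 4 := by nlinarith only [h1, h2, h12]
  have h17 : b ≤ 5 := by omega
  interval_cases s <;> interval_cases b <;> omega

variable {N : Type*} [Group N] [Finite N]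

theorem card_eq_of_conf {T : Subgroup N} (hc : Conf T)
    (hN : normalizer (T : Set N) ≠ ⊤) (hl : 2 ≤ T.relIndex (normalizer (T : Set N)))
    (h3 : Nat.card {u : N // u ∈ T ∧ orderOf u = 2} ≤ 3) :
    Nat.card N = Nat.card T * 3 * (Nat.card T + 1) := by
  have h1 := (card_eq hc hN).1
  rw [h1] at h3
  have hodd : T.relIndex (normalizer (T : Set N)) ≠ 2 := by
    intro h2
    obtain ⟨g, hg⟩ : ∃ g, g ∉ normalizer (T : Set N) := by
      by_contra h
      push Not at h
      exact hN (eq_top_iff.2 fun g _ => h g)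
    obtain ⟨x, hx, -⟩ := exists_inv hc hN hg
    have h4 : Nat.card (D T x) = 2 := by rw [hx.card, h2]
    obtain ⟨d, hd, hd2⟩ := exists_prime_order_mem (L := D T x) Nat.prime_two (by rw [h4])
    have h5 := involution_mem hc (mem_D.1 hd).1 hd2
    have h6 := D_inf hc hx.notin hd h5
    rw [h6, orderOf_one] at hd2
    omega
  have hl3 : T.relIndex (normalizer (T : Set N)) = 3 := by omega
  have h2 := card_norm (H := T)
  have h4 := card_points hc hN hl
  have h5 := Subgroup.card_mul_index (normalizer (T : Set N))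
  rw [← h5, ← h2, hl3, Subgroup.index, h4]

theorem not_card_le_three {T : Subgroup N} (hc : Conf T) (hT : IsPGroup 2 T)
    (hT8 : 8 ≤ Nat.card T)
    (hN : normalizer (T : Set N) ≠ ⊤) (hl : 2 ≤ T.relIndex (normalizer (T : Set N)))
    (h340 : (∃ (F : Type) (_ : Field F) (_ : Fintype F),
      Nonempty (N ≃* Matrix.ProjectiveSpecialLinearGroup (Fin 2) F)) ∨ Cfsg.IsSuzuki N) :
    ¬ Nat.card {u : N // u ∈ T ∧ orderOf u = 2} ≤ 3 := by
  intro h3
  have hcard := card_eq_of_conf hc hN hl h3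
  have h2f : Fact (Nat.Prime 2) := ⟨Nat.prime_two⟩
  obtain ⟨k, hk⟩ := IsPGroup.iff_card.1 hT
  rw [hk] at hcard hT8
  have hk3 : 3 ≤ k := by
    by_contra hlt
    have : 2 ^ k ≤ 2 ^ 2 := Nat.pow_le_pow_right (by norm_num) (by omega)
    omega
  rcases h340 with ⟨F, _, _, ⟨e⟩⟩ | ⟨-, m, hm, hsz⟩
  · have h4 := Cfsg.Agent.ClassicalGeometry.PSL2Basic.card_PSL2_gcd (F := F)
    rw [← Nat.card_congr e.toEquiv, hcard] at h4
    rcases Nat.even_or_odd (Fintype.card F) with he | ho
    · obtain ⟨p, hp⟩ := CharP.exists F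
      have hpp : p.Prime := CharP.char_is_prime F p
      obtain ⟨n, -, hn⟩ := FiniteField.card F p
      have hp2 : p = 2 := by
        have h5 : 2 ∣ p ^ (n : ℕ) := by rw [← hn]; exact even_iff_two_dvd.1 he
        exact ((Nat.prime_dvd_prime_iff_eq Nat.prime_two hpp).1
          (Nat.prime_two.dvd_of_dvd_pow h5)).symm
      subst hp2
      have h6 : Nat.gcd 2 (Fintype.card F - 1) = 1 := by
        apply (Nat.coprime_two_left).2
        obtain ⟨c, hc⟩ := he
        have : 0 < Fintype.card F := Fintype.card_pos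
        exact ⟨c - 1, by (clear * - hc this; omega)⟩
      rw [h6, mul_one, hn] at h4
      exact num_even hk3 h4
    · have h6 : Nat.gcd 2 (Fintype.card F - 1) = 2 := by
        apply Nat.gcd_eq_left
        obtain ⟨c, hc⟩ := ho
        exact ⟨c, by omega⟩
      rw [h6] at h4
      exact num_odd hk3 ho h4
  · rw [hcard] at hsz
    exact num_suzuki hm hsz

end Cfsg.Agent.H550.Part
end

-- part: H550/Part/Cases
section
/-!
# Simple groups with an invariant nilpotent partition: the two cases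
-/

set_option autoImplicit false

namespace Cfsg.Agent.H550.Part

open Subgroup Cfsg.Agent.LieExceptional.CCEven

universe u

variable {G : Type u} [Group G] {S : Set (Subgroup G)}

/-- restriction of a partition to a subgroup -/
def restr (S : Set (Subgroup G)) (N : Subgroup G) : Set (Subgroup N) :=
  {K | K ≠ ⊥ ∧ ∃ X ∈ S, X.subgroupOf N = K}

theorem IsPart.restr (hS : IsPart S) {N : Subgroup G} (hN : ∀ X ∈ S, ¬ N ≤ X) :
    IsPart (restr S N) := by
  refine ⟨fun K hK => hK.1, ?_, ?_, ?_, ?_⟩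
  · intro g hg
    have hg' : (g : G) ≠ 1 := fun h => hg (Subtype.ext h)
    obtain ⟨X, hX, hgX⟩ := hS.cover (g : G) hg'
    refine ⟨X.subgroupOf N, ⟨?_, X, hX, rfl⟩, mem_subgroupOf.2 hgX⟩
    intro h
    apply hg
    have h1 : g ∈ X.subgroupOf N := mem_subgroupOf.2 hgX
    rw [h, mem_bot] at h1
    exact h1
  · rintro H ⟨-, X, hX, rfl⟩ K ⟨-, Y, hY, rfl⟩ g hg hgX hgY
    have hg' : (g : G) ≠ 1 := fun h => hg (Subtype.ext h)
    rw [hS.eq_of_mem X hX Y hY (g : G) hg' (mem_subgroupOf.1 hgX) (mem_subgroupOf.1 hgY)]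
  · rintro H ⟨hH0, X, hX, rfl⟩ g
    refine ⟨?_, X.map (MulAut.conj (g : G)).toMonoidHom, hS.conj X hX g, ?_⟩
    · intro h
      apply hH0
      rwa [Subgroup.map_eq_bot_iff_of_injective _ (MulAut.conj g).injective] at h
    · ext n
      rw [mem_subgroupOf, mem_map, mem_map]
      constructor
      · rintro ⟨x, hx, hxe⟩
        have hxe' : (g : G) * x * (g : G)⁻¹ = n := hxe
        have hxN : x = ((g⁻¹ * n * g : N) : G) := by
          change x = (g : G)⁻¹ * n * g
          rw [← hxe']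
          group
        refine ⟨g⁻¹ * n * g, ?_, ?_⟩
        · rw [mem_subgroupOf, ← hxN]
          exact hx
        · change g * (g⁻¹ * n * g) * g⁻¹ = n
          group
      · rintro ⟨x, hx, rfl⟩
        exact ⟨x, mem_subgroupOf.1 hx, rfl⟩
  · rintro ⟨-, X, hX, hXt⟩
    exact hN X hX (subgroupOf_eq_top.1 hXt)

theorem nil_restr {N : Subgroup G} (hnil : ∀ X ∈ S, Group.IsNilpotent X) :
    ∀ K ∈ restr S N, Group.IsNilpotent K := by
  rintro K ⟨-, X, hX, rfl⟩
  have := hnil X hX
  have h1 : Group.IsNilpotent ((X.subgroupOf N).map N.subtype) := by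
    apply isNilpotent_of_le (K := X)
    rw [subgroupOf_map_subtype]
    exact inf_le_left
  exact Group.nilpotent_of_mulEquiv
    ((X.subgroupOf N).equivMapOfInjective N.subtype N.subtype_injective).symm

/-- homomorphisms to `{±1}` from a nonabelian simple group are trivial -/
theorem hom_units_eq_one [IsSimpleGroup G] (hns : ¬ Group.IsSolvable G) (f : G →* ℤˣ) (u : G) :
    f u = 1 := by
  have hn : f.ker.Normal := inferInstance
  rcases hn.eq_bot_or_eq_top with h | h
  · exfalso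
    apply hns
    have hinj : Function.Injective f := (MonoidHom.ker_eq_bot_iff f).1 h
    exact Group.isSolvable_of_isSolvable_injective hinj
  · have : u ∈ f.ker := by rw [h]; exact mem_top u
    exact this

theorem conf_of_elementary [Finite G] (heven : 2 ∣ Nat.card G) (T : Sylow 2 G)
    (hsq : ∀ x ∈ (T : Subgroup G), x * x = 1)
    (hc : ∀ x ∈ (T : Subgroup G), x ≠ 1 → ∀ g : G, g * x = x * g → g ∈ (T : Subgroup G)) :
    Conf (T : Subgroup G) := by
  have hcomm : ∀ x ∈ (T : Subgroup G), ∀ y ∈ (T : Subgroup G), x * y = y * x := by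
    intro x hx y hy
    have h1 := hsq _ (mul_mem hx hy)
    have h2 := inv_eq_of_mul_eq_one_left (hsq x hx)
    have h3 := inv_eq_of_mul_eq_one_left (hsq y hy)
    have h4 : x * y = (x * y)⁻¹ := eq_inv_of_mul_eq_one_left h1
    rw [mul_inv_rev, h2, h3] at h4
    exact h4
  refine ⟨fun h hh hh1 g hg => hc h hh hh1 g hg, ?_, ?_⟩
  · intro h hh hh1 g hg
    have hg1 : g * h * g⁻¹ ≠ 1 := fun h' => hh1 (conj_eq_one_iff.1 h')
    have key : ∀ t ∈ (T : Subgroup G), g⁻¹ * t * g ∈ (T : Subgroup G) := by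
      intro t ht
      apply hc h hh hh1
      have h1 := hcomm t ht _ hg
      calc g⁻¹ * t * g * h = g⁻¹ * (t * (g * h * g⁻¹)) * g := by group
        _ = g⁻¹ * ((g * h * g⁻¹) * t) * g := by rw [h1]
        _ = h * (g⁻¹ * t * g) := by group
    have key2 : ∀ t ∈ (T : Subgroup G), g * t * g⁻¹ ∈ (T : Subgroup G) := by
      intro t ht
      apply hc _ hg hg1
      have h1 := hcomm t ht h hh
      calc g * t * g⁻¹ * (g * h * g⁻¹) = g * (t * h) * g⁻¹ := by group
        _ = g * (h * t) * g⁻¹ := by rw [h1]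
        _ = g * h * g⁻¹ * (g * t * g⁻¹) := by group
    rw [mem_normalizer_iff]
    intro t
    refine ⟨key2 t, fun ht => ?_⟩
    have h1 := key _ ht
    have h2 : g⁻¹ * (g * t * g⁻¹) * g = t := by group
    rwa [h2] at h1
  · have h2f : Fact (Nat.Prime 2) := ⟨Nat.prime_two⟩
    have := T.card_eq_multiplicity
    rw [this]
    apply dvd_pow_self
    have := (Nat.Prime.factorization_pos_of_dvd Nat.prime_two (Nat.card_pos (α := G)).ne' heven)
    omega

/-- **The two cases for a simple group with an invariant nilpotent partition.** -/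
theorem IsPart.cases [Finite G] [IsSimpleGroup G] (hS : IsPart S)
    (hnil : ∀ X ∈ S, Group.IsNilpotent X) (heven : 2 ∣ Nat.card G)
    (hns : ¬ Group.IsSolvable G)
    (h1221 : ∀ H : Subgroup G, IsStronglyEmbedded H →
      (oddCore ↥H).map H.subtype ≤ oddCore G) (T : Sylow 2 G) :
    Conf (T : Subgroup G) ∨
    ((∃ n : ℕ, 2 ≤ n ∧ Nonempty ((T : Subgroup G) ≃* DihedralGroup n)) ∧
      ∀ Y ∈ S, ∀ s ∈ Y, ∀ t ∈ Y, orderOf s = 2 → orderOf t = 2 → s * t = t * s → s = t) := by
  by_cases hT : ∃ X ∈ S, (T : Subgroup G) ≤ X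
  · obtain ⟨X, hX, hTX⟩ := hT
    exact Or.inl (hS.conf_of_sylow_le hnil heven h1221 T hX hTX)
  · push Not at hT
    rcases hS.struct heven (hom_units_eq_one hns) T hT with ⟨h1, h2⟩ | h
    · exact Or.inl (conf_of_elementary heven T h1 (fun x hx hx1 g hg => (h2 x hx hx1 g hg).1))
    · exact Or.inr h

theorem ne_top_of_not_solvable [Finite G] (hns : ¬ Group.IsSolvable G) (T : Sylow 2 G) :
    (T : Subgroup G) ≠ ⊤ := by
  intro h
  apply hns
  have h2f : Fact (Nat.Prime 2) := ⟨Nat.prime_two⟩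
  have h1 : IsPGroup 2 (⊤ : Subgroup G) := h ▸ T.2
  have h2 : IsPGroup 2 G := h1.of_equiv Subgroup.topEquiv
  exact isSolvable_of_isPGroup h2

/-- a configuration with a Sylow subgroup of order at most four: order 60 and a dihedral
Sylow subgroup. -/
theorem conf_small [Finite G] [IsSimpleGroup G] (hns : ¬ Group.IsSolvable G) (T : Sylow 2 G)
    (hc : Conf (T : Subgroup G)) (hT : Nat.card (T : Subgroup G) < 8) :
    Nat.card G = 60 ∧ Nonempty ((T : Subgroup G) ≃* DihedralGroup 2) := by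
  classical
  have h2f : Fact (Nat.Prime 2) := ⟨Nat.prime_two⟩
  have htop := ne_top_of_not_solvable hns T
  have hntop := norm_ne_top hc htop
  have hl := two_le hc htop
  have hI := (card_eq hc hntop).1
  -- `#I ≤ |T| - 1`
  have hle : Nat.card {u : G // u ∈ (T : Subgroup G) ∧ orderOf u = 2} + 1 ≤
      Nat.card (T : Subgroup G) := by
    have h1 : (insert (1 : G) {u : G | u ∈ (T : Subgroup G) ∧ orderOf u = 2}) ⊆
        ((T : Subgroup G) : Set G) := by
      rintro u (rfl | ⟨hu, -⟩)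
      · exact one_mem _
      · exact hu
    have h2 := Set.ncard_le_ncard h1 (Set.toFinite _)
    rw [Set.ncard_insert_of_notMem] at h2
    · exact h2
    · rintro ⟨-, h⟩
      rw [orderOf_one] at h
      omega
  obtain ⟨k, hk⟩ := IsPGroup.iff_card.1 T.2
  have hk2 : k = 2 := by
    have h3 : k < 3 := by
      by_contra hge
      push Not at hge
      have : 2 ^ 3 ≤ 2 ^ k := Nat.pow_le_pow_right (by norm_num) hge
      omega
    have h4 : 3 ≤ 2 ^ k := by omega
    interval_cases k
    · simp at h4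
    · simp at h4
    · rfl
  rw [hk2] at hk
  have hT4 : Nat.card (T : Subgroup G) = 4 := by rw [hk]; norm_num
  have hcard := card_eq_of_conf hc hntop hl (by omega)
  refine ⟨by rw [hcard, hT4], ?_⟩
  -- `T` is a Klein four-group
  have hK : IsKleinFour (T : Subgroup G) := by
    refine ⟨hT4, ?_⟩
    -- two involutions
    have h2I : 2 ≤ Nat.card {u : G // u ∈ (T : Subgroup G) ∧ orderOf u = 2} := by omega
    have hnt : Nontrivial {u : G // u ∈ (T : Subgroup G) ∧ orderOf u = 2} := by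
      rw [← Finite.one_lt_card_iff_nontrivial]
      omega
    obtain ⟨⟨a, haT, ha⟩, ⟨b, hbT, hb⟩, hab⟩ := hnt
    have hab' : a ≠ b := fun h => hab (Subtype.ext h)
    -- not cyclic, so exponent two
    have hnc : ¬ IsCyclic (T : Subgroup G) := by
      intro hcy
      have := Fintype.ofFinite (T : Subgroup G)
      have h1 := IsCyclic.card_pow_eq_one_le (α := (T : Subgroup G)) (n := 2) (by norm_num)
      have h2 : ({1, ⟨a, haT⟩, ⟨b, hbT⟩} : Finset (T : Subgroup G)) ⊆
          Finset.univ.filter (fun x : (T : Subgroup G) => x ^ 2 = 1) := by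
        intro x hx
        rw [Finset.mem_filter]
        refine ⟨Finset.mem_univ _, ?_⟩
        simp only [Finset.mem_insert, Finset.mem_singleton] at hx
        rcases hx with rfl | rfl | rfl
        · exact one_pow 2
        · apply Subtype.ext
          change a ^ 2 = 1
          rw [← ha]
          exact pow_orderOf_eq_one a
        · apply Subtype.ext
          change b ^ 2 = 1
          rw [← hb]
          exact pow_orderOf_eq_one b
      have h3 := (Finset.card_le_card h2).trans h1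
      rw [Finset.card_insert_of_notMem, Finset.card_insert_of_notMem, Finset.card_singleton] at h3
      · omega
      · simp only [Finset.mem_singleton]
        intro h
        exact hab' (congrArg Subtype.val h)
      · simp only [Finset.mem_insert, Finset.mem_singleton, not_or]
        constructor
        · intro h
          have h4 : (1 : G) = a := congrArg Subtype.val h
          rw [← h4, orderOf_one] at ha
          omega
        · intro h
          have h4 : (1 : G) = b := congrArg Subtype.val h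
          rw [← h4, orderOf_one] at hb
          omega
    -- exponent
    apply Nat.dvd_antisymm
    · apply Monoid.exponent_dvd_of_forall_pow_eq_one
      intro x
      by_contra hx
      apply hnc
      have h1 : orderOf x ∣ 2 ^ 2 := by
        have := _root_.orderOf_dvd_natCard x
        rw [hT4] at this
        exact this
      obtain ⟨j, hj, hjx⟩ := (Nat.dvd_prime_pow Nat.prime_two).1 h1
      have h2 : j = 2 := by
        by_contra hne
        apply hx
        apply orderOf_dvd_iff_pow_eq_one.1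
        rw [hjx]
        exact pow_dvd_pow 2 (show j ≤ 1 by omega)
      apply isCyclic_of_orderOf_eq_card x
      rw [hjx, h2, hT4]
      norm_num
    · have h1 := Monoid.order_dvd_exponent (⟨a, haT⟩ : (T : Subgroup G))
      rwa [orderOf_mk, ha] at h1
  exact IsKleinFour.nonempty_mulEquiv

end Cfsg.Agent.H550.Part
end

-- part: H550/Part/AltSeven
section
/-!
# The alternating group of degree seven has no invariant nilpotent partition
-/

set_option autoImplicit false

namespace Cfsg.Agent.H550.Part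

open Subgroup Equiv

universe u

variable {G : Type u} [Group G] {S : Set (Subgroup G)}

/-- `(0 1)(2 3)` -/
def a7t : alternatingGroup (Fin 7) :=
  ⟨swap (0 : Fin 7) 1 * swap (2 : Fin 7) 3, by
    rw [Perm.mem_alternatingGroup, Perm.sign_mul, Perm.sign_swap (by decide),
      Perm.sign_swap (by decide)]
    rfl⟩

/-- `(4 5 6)` -/
def a7c : alternatingGroup (Fin 7) :=
  ⟨swap (4 : Fin 7) 5 * swap (5 : Fin 7) 6, by
    rw [Perm.mem_alternatingGroup, Perm.sign_mul, Perm.sign_swap (by decide),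
      Perm.sign_swap (by decide)]
    rfl⟩

/-- `(0 2 1 3)(4 5)` -/
def a7d : alternatingGroup (Fin 7) :=
  ⟨swap (0 : Fin 7) 2 * swap (2 : Fin 7) 1 * swap (1 : Fin 7) 3 * swap (4 : Fin 7) 5, by
    rw [Perm.mem_alternatingGroup, Perm.sign_mul, Perm.sign_mul, Perm.sign_mul,
      Perm.sign_swap (by decide), Perm.sign_swap (by decide), Perm.sign_swap (by decide),
      Perm.sign_swap (by decide)]
    rfl⟩

theorem a7_dd : a7d ^ 2 = a7t := by decide

theorem a7_tt : a7t ^ 2 = 1 := by decide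

theorem a7_t1 : a7t ≠ 1 := by decide

theorem a7_ccc : a7c ^ 3 = 1 := by decide

theorem a7_c1 : a7c ≠ 1 := by decide

theorem a7_tc : a7t * a7c = a7c * a7t := by decide

theorem a7_cd : a7c * a7d ≠ a7d * a7c := by decide

theorem IsPart.not_alt7 [Finite G] (hS : IsPart S) (hnil : ∀ X ∈ S, Group.IsNilpotent X)
    (e : G ≃* alternatingGroup (Fin 7)) : False := by
  have h3 : Fact (Nat.Prime 3) := ⟨Nat.prime_three⟩
  have h2 : Fact (Nat.Prime 2) := ⟨Nat.prime_two⟩
  set t := e.symm a7t with ht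
  set c := e.symm a7c with hc
  set d := e.symm a7d with hd
  have hdd : d ^ 2 = t := by rw [hd, ht, ← map_pow, a7_dd]
  have htt : t ^ 2 = 1 := by rw [ht, ← map_pow, a7_tt, map_one]
  have ht1 : t ≠ 1 := by
    intro h
    exact a7_t1 ((map_eq_one_iff e.symm e.symm.injective).1 h)
  have hccc : c ^ 3 = 1 := by rw [hc, ← map_pow, a7_ccc, map_one]
  have hc1 : c ≠ 1 := by
    intro h
    exact a7_c1 ((map_eq_one_iff e.symm e.symm.injective).1 h)
  have htc : t * c = c * t := by rw [ht, hc, ← map_mul, a7_tc, map_mul]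
  have hcd : c * d ≠ d * c := by
    intro h
    rw [hc, hd, ← map_mul, ← map_mul] at h
    exact a7_cd (e.symm.injective h)
  have hto : orderOf t = 2 := orderOf_eq_prime htt ht1
  have hco : orderOf c = 3 := orderOf_eq_prime hccc hc1
  obtain ⟨Y, hY, htY⟩ := hS.cover t ht1
  have hcY : c ∈ Y := hS.mem_of_commute hY htY ht1 htc (by rw [hto, hco]; norm_num)
  have hdY : d ∈ Y := hS.mem_of_pow hY (n := 2) (by rw [hdd]; exact htY) (by rw [hdd]; exact ht1)
  have := hnil Y hY
  have h4 : (⟨d, hdY⟩ : Y) ^ 4 = 1 := by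
    apply Subtype.ext
    change d ^ 4 = 1
    rw [show 4 = 2 * 2 from rfl, pow_mul, hdd, htt]
  have h5 : (⟨c, hcY⟩ : Y) ^ 3 = 1 := Subtype.ext hccc
  have h6 := Cfsg.Agent.Lib.NilpotentCoprime.commute_of_pow_eq_one
    (show Nat.Coprime 3 4 by norm_num) h5 h4
  exact hcd (congrArg Subtype.val h6.eq)

end Cfsg.Agent.H550.Part
end

-- part: H550/Part/FieldSq
section
/-!
# Squares in finite fields and automorphisms of order two
-/

set_option autoImplicit false

namespace Cfsg.Agent.H550.Part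

variable {F : Type*} [Field F]

theorem isSquare_map_iff (σ : F ≃+* F) (a : F) : IsSquare (σ a) ↔ IsSquare a := by
  constructor
  · rintro ⟨b, hb⟩
    refine ⟨σ.symm b, ?_⟩
    rw [← map_mul, ← hb, RingEquiv.symm_apply_apply]
  · rintro ⟨b, hb⟩
    exact ⟨σ b, by rw [hb, map_mul]⟩

theorem isSquare_mul_map [Finite F] (σ : F ≃+* F) (a : F) : IsSquare (a * σ a) := by
  by_cases h : IsSquare a
  · exact h.mul ((isSquare_map_iff σ a).2 h)
  · exact Cfsg.Agent.LOC.NdField.isSquare_mul_of_not h (fun h' => h ((isSquare_map_iff σ a).1 h'))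

/-- elements fixed by an automorphism of order two are squares -/
theorem isSquare_of_fixed [Finite F] (h2 : (2 : F) ≠ 0) {σ : F ≃+* F} (hσ : σ ≠ 1)
    (hσ2 : σ * σ = 1) {x : F} (hx : σ x = x) : IsSquare x := by
  classical
  have := Fintype.ofFinite F
  by_cases hx0 : x = 0
  · exact ⟨0, by rw [hx0, mul_zero]⟩
  let K : Subfield F := FixedPoints.subfield (Subgroup.zpowers σ) F
  have hfinF : Finite (F ≃+* F) := Finite.of_injective (fun τ : F ≃+* F => (τ : F → F))
    DFunLike.coe_injective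
  have hft : Fintype (Subgroup.zpowers σ) := Fintype.ofFinite _
  have hcard : Fintype.card (Subgroup.zpowers σ) = 2 := by
    rw [← Nat.card_eq_fintype_card, Nat.card_zpowers]
    exact orderOf_eq_prime (by rw [pow_two]; exact hσ2) hσ
  have hrank := FixedPoints.finrank_eq_card (Subgroup.zpowers σ) F
  rw [hcard] at hrank
  have hcF := Module.card_eq_pow_finrank (K := K) (V := F)
  rw [hrank] at hcF
  have hxK : x ∈ K := by
    rintro ⟨τ, hτ⟩
    obtain ⟨k, hk⟩ := Subgroup.mem_zpowers_iff.1 hτ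
    change τ x = x
    rw [← hk]
    have hstab : σ ∈ MulAction.stabilizer (F ≃+* F) x := hx
    exact Subgroup.zpow_mem _ hstab k
  have hqodd : Fintype.card F % 2 = 1 := by
    apply FiniteField.odd_card_of_char_ne_two
    intro h
    apply h2
    have : CharP F 2 := by rw [← h]; exact ringChar.charP F
    exact_mod_cast CharP.cast_eq_zero F 2
  have hchar : ringChar F ≠ 2 := by
    intro h
    apply h2
    have : CharP F 2 := by rw [← h]; exact ringChar.charP F
    exact_mod_cast CharP.cast_eq_zero F 2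
  rw [FiniteField.isSquare_iff hchar hx0]
  set c := Fintype.card K with hc
  have hc1 : x ^ (c - 1) = 1 := by
    have h1 : (⟨x, hxK⟩ : K) ≠ 0 := fun h => hx0 (congrArg Subtype.val h)
    have h3 := FiniteField.pow_card_sub_one_eq_one (⟨x, hxK⟩ : K) h1
    exact congrArg Subtype.val h3
  have hcodd : c % 2 = 1 := by
    rw [hcF] at hqodd
    rcases Nat.even_or_odd c with he | ho
    · exfalso
      have : Even (c ^ 2) := he.pow_of_ne_zero (by norm_num)
      rw [Nat.even_iff] at this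
      omega
    · exact Nat.odd_iff.1 ho
  obtain ⟨s, hs⟩ : ∃ s, c = 2 * s + 1 := ⟨c / 2, by omega⟩
  have h4 : Fintype.card F / 2 = (c - 1) * (s + 1) := by
    rw [hcF, hs]
    have : (2 * s + 1) ^ 2 = 2 * (2 * s * (s + 1)) + 1 := by ring
    rw [this]
    have h5 : 2 * s + 1 - 1 = 2 * s := by omega
    rw [h5]
    omega
  rw [h4, pow_mul, hc1, one_pow]

/-- Hilbert 90: `d σ(d) = λ²`, `λ` fixed, forces `d` to be a square. -/
theorem isSquare_of_norm [Finite F] (h2 : (2 : F) ≠ 0) {σ : F ≃+* F} (hσ : σ ≠ 1)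
    (hσ2 : σ * σ = 1) {d l : F} (hd : d ≠ 0) (hl : σ l = l) (h : d * σ d = l * l) :
    IsSquare d := by
  have hσσ : ∀ a, σ (σ a) = a := fun a => DFunLike.congr_fun hσ2 a
  have hl0 : l ≠ 0 := by
    rintro rfl
    rw [mul_zero] at h
    rcases mul_eq_zero.1 h with h | h
    · exact hd h
    · exact hd ((map_eq_zero_iff σ σ.injective).1 h)
  have hls : IsSquare l := isSquare_of_fixed h2 hσ hσ2 hl
  set y := d / l with hy
  have hdy : d = l * y := by rw [hy]; field_simp
  have hy0 : y ≠ 0 := div_ne_zero hd hl0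
  have hyy : y * σ y = 1 := by
    rw [hy, map_div₀, hl, div_mul_div_comm, h, div_self (mul_ne_zero hl0 hl0)]
  rw [hdy]
  refine hls.mul ?_
  by_cases hy1 : 1 + y = 0
  · apply isSquare_of_fixed h2 hσ hσ2
    have : y = -1 := by linear_combination hy1
    rw [this, map_neg, map_one]
  · -- `y = c² / (c σ c)` with `c = 1 + y`
    have hc : σ (1 + y) * y = 1 + y := by
      rw [map_add, map_one]
      linear_combination hyy
    have hcc : IsSquare ((1 + y) * σ (1 + y)) := by
      apply isSquare_of_fixed h2 hσ hσ2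
      rw [map_mul, hσσ, mul_comm]
    have hσc : σ (1 + y) ≠ 0 := fun h => hy1 ((map_eq_zero_iff σ σ.injective).1 h)
    have h3 : y = ((1 + y) * (1 + y)) / ((1 + y) * σ (1 + y)) := by
      rw [eq_div_iff (mul_ne_zero hy1 hσc)]
      linear_combination (1 + y) * hc
    rw [h3]
    exact (IsSquare.mul_self _).div hcc

end Cfsg.Agent.H550.Part
end

-- part: H550/Part/Semi
section
/-!
# Groups acting on a normal `PSL(2,F)`: semilinear description

`Act π g A σ`: the element `g` acts on `N = π(SL(2,F))` as `x ↦ A σ(x) A⁻¹`.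
-/

set_option autoImplicit false

namespace Cfsg.Agent.H550.Part

open Subgroup Matrix Cfsg.Agent.Lib.SL2Mat

universe u

variable {F : Type*} [Field F] {G : Type u} [Group G] {N : Subgroup G}

/-- `g` acts as `x ↦ A σ(x) A⁻¹` -/
def Act (π : _root_.Matrix.SpecialLinearGroup (Fin 2) F →* N) (g : G) (A : GL (Fin 2) F) (σ : F ≃+* F) : Prop :=
  ∀ x, g * (π x : G) * g⁻¹ = (π (conjGL A (fieldAut σ x)) : G)

variable {π : _root_.Matrix.SpecialLinearGroup (Fin 2) F →* N}

/-- the action of a field automorphism on `GL(2,F)` -/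
noncomputable def glMap (σ : F ≃+* F) : GL (Fin 2) F →* GL (Fin 2) F :=
  Matrix.GeneralLinearGroup.map σ.toRingHom

theorem glMap_val (σ : F ≃+* F) (A : GL (Fin 2) F) (i j : Fin 2) :
    (glMap σ A).1 i j = σ (A.1 i j) := rfl

theorem fieldAut_conjGL (σ : F ≃+* F) (B : GL (Fin 2) F) (x : _root_.Matrix.SpecialLinearGroup (Fin 2) F) :
    fieldAut σ (conjGL B x) = conjGL (glMap σ B) (fieldAut σ x) := by
  apply Subtype.ext
  rw [conjGL_val]
  change (B.1 * x.1 * B⁻¹.1).map σ.toRingHom = (glMap σ B).1 * x.1.map σ.toRingHom * (glMap σ B)⁻¹.1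
  rw [Matrix.map_mul, Matrix.map_mul, ← map_inv]
  rfl

theorem det_glMap (σ : F ≃+* F) (B : GL (Fin 2) F) : (glMap σ B).1.det = σ B.1.det := by
  rw [Matrix.det_fin_two, Matrix.det_fin_two, map_sub, map_mul, map_mul]
  rfl

theorem det_ne_zero (A : GL (Fin 2) F) : A.1.det ≠ 0 := by
  have h : A.1.det * A⁻¹.1.det = 1 := by
    rw [← Matrix.det_mul, ← Units.val_mul, mul_inv_cancel, Units.val_one, Matrix.det_one]
  intro h0
  rw [h0, zero_mul] at h
  exact zero_ne_one h

theorem Act.mul {g h : G} {A B : GL (Fin 2) F} {σ τ : F ≃+* F} (hg : Act π g A σ)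
    (hh : Act π h B τ) : Act π (g * h) (A * glMap σ B) (σ * τ) := by
  intro x
  have h1 : g * h * (π x : G) * (g * h)⁻¹ = g * (h * (π x : G) * h⁻¹) * g⁻¹ := by group
  rw [h1, hh, hg, fieldAut_conjGL, map_mul conjGL, MulAut.mul_apply, map_mul fieldAut,
    MulAut.mul_apply]

theorem Act.coe (y : _root_.Matrix.SpecialLinearGroup (Fin 2) F) :
    Act π (π y : G) (SpecialLinearGroup.toGL y) 1 := by
  intro x
  rw [conjGL_toGL, map_one fieldAut]
  change (π y : G) * (π x : G) * (π y : G)⁻¹ = ((π (y * x * y⁻¹) : N) : G)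
  rw [map_mul, map_mul, map_inv]
  rfl

theorem Act.one : Act π (1 : G) 1 1 := by
  have := Act.coe (π := π) 1
  rwa [map_one, map_one] at this

/-- every matrix of square determinant acts like a matrix of determinant one -/
theorem exists_sl_of_isSquare {A : GL (Fin 2) F} (h : IsSquare A.1.det) :
    ∃ y : _root_.Matrix.SpecialLinearGroup (Fin 2) F, ∃ c : F, c ≠ 0 ∧ A.1 = c • y.1 := by
  obtain ⟨c, hc⟩ := h
  have hc0 : c ≠ 0 := by
    rintro rfl
    rw [mul_zero] at hc
    exact det_ne_zero A hc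
  refine ⟨⟨c⁻¹ • A.1, ?_⟩, c, hc0, ?_⟩
  · rw [Matrix.det_smul, hc]
    simp only [Fintype.card_fin]
    field_simp
  · change A.1 = c • (c⁻¹ • A.1)
    rw [smul_smul, mul_inv_cancel₀ hc0, one_smul]

theorem conjGL_smul {A : GL (Fin 2) F} {y : _root_.Matrix.SpecialLinearGroup (Fin 2) F} {c : F} (hc : c ≠ 0)
    (h : A.1 = c • y.1) (x : _root_.Matrix.SpecialLinearGroup (Fin 2) F) : conjGL A x = y * x * y⁻¹ := by
  have h1 : conjGL A x * y = y * x := by
    apply Subtype.ext
    change (conjGL A x).1 * y.1 = y.1 * x.1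
    have h2 : y.1 = c⁻¹ • A.1 := by
      rw [h, smul_smul, inv_mul_cancel₀ hc, one_smul]
    rw [h2, conjGL_val, mul_smul_comm, smul_mul_assoc, mul_assoc, inv_val_mul_val, mul_one]
  rw [← h1, mul_inv_cancel_right]

theorem conjGL_comm (A : GL (Fin 2) F) (x : _root_.Matrix.SpecialLinearGroup (Fin 2) F) :
    (conjGL A x).1 * A.1 = A.1 * x.1 := by
  rw [conjGL_val, mul_assoc, inv_val_mul_val, mul_one]

/-- **uniqueness** -/
theorem unique_act (h2 : (2 : F) ≠ 0) (hk : ∀ x, π x = 1 ↔ x = 1 ∨ x = -1) {A : GL (Fin 2) F}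
    {σ : F ≃+* F} (h : ∀ x, π (conjGL A (fieldAut σ x)) = π x) :
    σ = 1 ∧ A.1 0 1 = 0 ∧ A.1 1 0 = 0 ∧ A.1 0 0 = A.1 1 1 := by
  have hdet := det_ne_zero A
  rw [Matrix.det_fin_two] at hdet
  -- upper matrices
  have hup : ∀ b : F, A.1 1 0 * b = 0 ∧ A.1 0 0 * σ b = b * A.1 1 1 := by
    intro b
    have h1 := (Cfsg.Agent.Lib.PSL2Torus.map_eq_iff π hk).1 (h (up b))
    have h3 := conjGL_comm A (fieldAut σ (up b))
    rw [fieldAut_up] at h1 h3
    rcases h1 with h1 | h1
    · rw [h1] at h3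
      have e00 := congrFun (congrFun h3 0) 0
      have e01 := congrFun (congrFun h3 0) 1
      simp only [Matrix.mul_apply, Fin.sum_univ_two] at e00 e01
      change ent (up b) 0 0 * A.1 0 0 + ent (up b) 0 1 * A.1 1 0 =
        A.1 0 0 * ent (up (σ b)) 0 0 + A.1 0 1 * ent (up (σ b)) 1 0 at e00
      change ent (up b) 0 0 * A.1 0 1 + ent (up b) 0 1 * A.1 1 1 =
        A.1 0 0 * ent (up (σ b)) 0 1 + A.1 0 1 * ent (up (σ b)) 1 1 at e01
      simp only [up_00, up_01, up_10, up_11] at e00 e01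
      constructor
      · linear_combination e00
      · linear_combination -e01
    · exfalso
      rw [h1] at h3
      have e00 := congrFun (congrFun h3 0) 0
      have e10 := congrFun (congrFun h3 1) 0
      simp only [Matrix.mul_apply, Fin.sum_univ_two] at e00 e10
      change -ent (up b) 0 0 * A.1 0 0 + -ent (up b) 0 1 * A.1 1 0 =
        A.1 0 0 * ent (up (σ b)) 0 0 + A.1 0 1 * ent (up (σ b)) 1 0 at e00
      change -ent (up b) 1 0 * A.1 0 0 + -ent (up b) 1 1 * A.1 1 0 =
        A.1 1 0 * ent (up (σ b)) 0 0 + A.1 1 1 * ent (up (σ b)) 1 0 at e10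
      simp only [up_00, up_01, up_10, up_11] at e00 e10
      have h4 : A.1 1 0 = 0 := by
        have h5 : (2 : F) * A.1 1 0 = 0 := by linear_combination -e10
        exact (mul_eq_zero.1 h5).resolve_left h2
      rw [h4] at e00
      have h5 : A.1 0 0 = 0 := by
        have h6 : (2 : F) * A.1 0 0 = 0 := by linear_combination -e00
        exact (mul_eq_zero.1 h6).resolve_left h2
      apply hdet
      rw [h4, h5]
      ring
  -- the lower matrix
  have hlo : A.1 0 1 = 0 := by
    have h1 := (Cfsg.Agent.Lib.PSL2Torus.map_eq_iff π hk).1 (h (lo 1))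
    have h3 := conjGL_comm A (fieldAut σ (lo 1))
    rw [fieldAut_lo, map_one] at h1 h3
    rcases h1 with h1 | h1
    · rw [h1] at h3
      have e00 := congrFun (congrFun h3 0) 0
      simp only [Matrix.mul_apply, Fin.sum_univ_two] at e00
      change ent (lo 1) 0 0 * A.1 0 0 + ent (lo 1) 0 1 * A.1 1 0 =
        A.1 0 0 * ent (lo (1 : F)) 0 0 + A.1 0 1 * ent (lo (1 : F)) 1 0 at e00
      simp only [lo_00, lo_01, lo_10] at e00
      linear_combination -e00
    · rw [h1] at h3
      have e01 := congrFun (congrFun h3 0) 1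
      simp only [Matrix.mul_apply, Fin.sum_univ_two] at e01
      change -ent (lo 1) 0 0 * A.1 0 1 + -ent (lo 1) 0 1 * A.1 1 1 =
        A.1 0 0 * ent (lo (1 : F)) 0 1 + A.1 0 1 * ent (lo (1 : F)) 1 1 at e01
      simp only [lo_00, lo_01, lo_11] at e01
      have h6 : (2 : F) * A.1 0 1 = 0 := by linear_combination -e01
      exact (mul_eq_zero.1 h6).resolve_left h2
  obtain ⟨h10, h11⟩ := hup 1
  rw [mul_one] at h10
  rw [map_one, mul_one, one_mul] at h11
  refine ⟨?_, hlo, h10, h11⟩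
  ext b
  have h3 := (hup b).2
  have h4 : A.1 0 0 ≠ 0 := by
    intro h0
    apply hdet
    rw [hlo, h0]
    ring
  rw [← h11, mul_comm] at h3
  exact mul_right_cancel₀ h4 h3

theorem exists_act [Finite F] [hN : N.Normal] (hπ : Function.Surjective π)
    (hk : ∀ x, π x = 1 ↔ x = 1 ∨ x = -1) (g : G) :
    ∃ (A : GL (Fin 2) F) (σ : F ≃+* F), Act π g A σ := by
  have hker : π.ker ≤ Subgroup.center (_root_.Matrix.SpecialLinearGroup (Fin 2) F) := by
    intro x hx
    rcases (hk x).1 hx with rfl | rfl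
    · exact one_mem _
    · rw [Subgroup.mem_center_iff]
      intro y
      rw [mul_neg, neg_mul, mul_one, one_mul]
  obtain ⟨A, σ, h⟩ := Cfsg.Agent.Lib.AutSL2.exists_gl_ringEquiv π hπ hker (MulAut.conjNormal g)
  refine ⟨A, σ, fun x => ?_⟩
  rw [← h x, MulAut.conjNormal_apply]

theorem Act.pow {g : G} {A : GL (Fin 2) F} {σ : F ≃+* F} (hg : Act π g A σ) (n : ℕ) :
    ∃ B, Act π (g ^ n) B (σ ^ n) := by
  induction n with
  | zero => exact ⟨1, by rw [pow_zero, pow_zero]; exact Act.one⟩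
  | succ n ih =>
    obtain ⟨B, hB⟩ := ih
    exact ⟨_, by rw [pow_succ, pow_succ]; exact hB.mul hg⟩

/-- an element acting trivially is trivial -/
theorem Act.eq_one (hπ : Function.Surjective π) (hC : centralizer (N : Set G) = ⊥) {g : G}
    (hg : Act π g 1 1) : g = 1 := by
  have h1 : g ∈ centralizer (N : Set G) := by
    rw [mem_centralizer_iff]
    intro n hn
    obtain ⟨x, hx⟩ := hπ ⟨n, hn⟩
    have h3 := hg x
    rw [map_one conjGL, map_one fieldAut, MulAut.one_apply, MulAut.one_apply, hx] at h3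
    have h4 : g * n * g⁻¹ = n := h3
    exact (mul_inv_eq_iff_eq_mul.1 h4).symm
  rwa [hC, mem_bot] at h1

/-- square determinant: modify by an element of `N` -/
theorem Act.of_isSquare {g : G} {A : GL (Fin 2) F} {σ : F ≃+* F} (hg : Act π g A σ)
    (h : IsSquare A.1.det) : ∃ y, Act π ((π y : G)⁻¹ * g) 1 σ := by
  obtain ⟨y, c, hc, hy⟩ := exists_sl_of_isSquare h
  refine ⟨y, fun x => ?_⟩
  have h1 := hg x
  rw [conjGL_smul hc hy] at h1
  have h3 : (π y : G)⁻¹ * g * (π x : G) * ((π y : G)⁻¹ * g)⁻¹ =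
      (π y : G)⁻¹ * (g * (π x : G) * g⁻¹) * (π y : G) := by group
  rw [h3, h1, map_mul, map_mul, map_inv, map_one conjGL, MulAut.one_apply]
  change (π y : G)⁻¹ * ((π y : G) * (π (fieldAut σ x) : G) * (π y : G)⁻¹) * (π y : G) = _
  group

theorem Act.mem (hπ : Function.Surjective π) (hC : centralizer (N : Set G) = ⊥) {g : G}
    {A : GL (Fin 2) F} (hg : Act π g A 1) (h : IsSquare A.1.det) : ∃ y, g = (π y : G) := by
  obtain ⟨y, hy⟩ := hg.of_isSquare h
  exact ⟨y, (inv_mul_eq_one.1 (hy.eq_one hπ hC)).symm⟩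

end Cfsg.Agent.H550.Part
end

-- part: H550/Part/OddField
section
/-!
# No field automorphisms
-/

set_option autoImplicit false

namespace Cfsg.Agent.H550.Part

open Subgroup Matrix Cfsg.Agent.Lib.SL2Mat

universe u

variable {F : Type*} [Field F] {G : Type u} [Group G] {S : Set (Subgroup G)} {N : Subgroup G}
  {π : _root_.Matrix.SpecialLinearGroup (Fin 2) F →* N}

/-- the traceless matrix with rows `a b` and `b -a` -/
def vm (a b : F) (h : a ^ 2 + b ^ 2 = -1) : _root_.Matrix.SpecialLinearGroup (Fin 2) F :=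
  _root_.Cfsg.Agent.Lib.SL2Mat.mk a b b (-a) (by linear_combination -h)

theorem vm_sq (a b : F) (h : a ^ 2 + b ^ 2 = -1) : vm a b h * vm a b h = -1 :=
  Cfsg.Agent.Lib.PSL2Torus.sq_of_tr rfl

theorem jm_sq : Cfsg.Agent.Lib.PSL2Torus.jm F * Cfsg.Agent.Lib.PSL2Torus.jm F = -1 :=
  Cfsg.Agent.Lib.PSL2Torus.sq_of_tr (by simp)

theorem jm_vm (a b : F) (h : a ^ 2 + b ^ 2 = -1) :
    Cfsg.Agent.Lib.PSL2Torus.jm F * vm a b h = -(vm a b h * Cfsg.Agent.Lib.PSL2Torus.jm F) := by
  have hneg : ∀ (x : Matrix.SpecialLinearGroup (Fin 2) F) i j, ent (-x) i j = - ent x i j :=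
    fun _ _ _ => rfl
  refine ext_ent ?_ ?_ ?_ ?_ <;> rw [hneg, ent_mul, ent_mul] <;> simp [vm]

theorem neg_one_ne_one (h2 : (2 : F) ≠ 0) : (-1 : _root_.Matrix.SpecialLinearGroup (Fin 2) F) ≠ 1 := by
  intro h
  have h1 := congrArg (fun x => ent x 0 0) h
  have h3 : -(1 : F) = 1 := h1
  apply h2
  linear_combination -h3

/-- every involution of `N` commutes with another one -/
theorem exists_commuting [Finite F] (h2 : (2 : F) ≠ 0) (hπ : Function.Surjective π)
    (hk : ∀ x, π x = 1 ↔ x = 1 ∨ x = -1) {a b : F} (hab : a ^ 2 + b ^ 2 = -1) :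
    π (Cfsg.Agent.Lib.PSL2Torus.jm F) ≠ 1 ∧
    π (Cfsg.Agent.Lib.PSL2Torus.jm F) * π (Cfsg.Agent.Lib.PSL2Torus.jm F) = 1 ∧
    π (vm a b hab) ≠ 1 ∧ π (vm a b hab) * π (vm a b hab) = 1 ∧
    π (Cfsg.Agent.Lib.PSL2Torus.jm F) * π (vm a b hab) =
      π (vm a b hab) * π (Cfsg.Agent.Lib.PSL2Torus.jm F) ∧
    π (Cfsg.Agent.Lib.PSL2Torus.jm F) ≠ π (vm a b hab) := by
  have hneg : ∀ (x : Matrix.SpecialLinearGroup (Fin 2) F) i j, ent (-x) i j = - ent x i j :=
    fun _ _ _ => rfl
  have hne : ∀ x : _root_.Matrix.SpecialLinearGroup (Fin 2) F, x * x = -1 → π x ≠ 1 ∧ π x * π x = 1 := by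
    intro x hx
    constructor
    · intro h
      rcases (hk x).1 h with rfl | rfl
      · rw [one_mul] at hx
        exact neg_one_ne_one h2 hx.symm
      · rw [neg_mul_neg, one_mul] at hx
        exact neg_one_ne_one h2 hx.symm
    · rw [← map_mul, hx]
      exact (hk _).2 (Or.inr rfl)
  obtain ⟨h3, h4⟩ := hne _ (jm_sq (F := F))
  obtain ⟨h5, h6⟩ := hne _ (vm_sq a b hab)
  refine ⟨h3, h4, h5, h6, ?_, ?_⟩
  · rw [← map_mul, ← map_mul]
    exact (Cfsg.Agent.Lib.PSL2Torus.map_eq_iff π hk).2 (Or.inr (jm_vm a b hab))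
  · intro h
    rcases (Cfsg.Agent.Lib.PSL2Torus.map_eq_iff π hk).1 h with h7 | h7
    · have e1 := congrArg (fun x => ent x 0 1) h7
      have e2 := congrArg (fun x => ent x 1 0) h7
      have e3 : (-1 : F) = b := e1
      have e4 : (1 : F) = b := e2
      apply h2
      linear_combination e4 - e3
    · have e1 := congrArg (fun x => ent x 0 1) h7
      have e2 := congrArg (fun x => ent x 1 0) h7
      have e3 : (-1 : F) = -b := e1
      have e4 : (1 : F) = -b := e2
      apply h2
      linear_combination e4 - e3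

theorem exists_commuting' [Finite F] (h2 : (2 : F) ≠ 0) (hπ : Function.Surjective π)
    (hk : ∀ x, π x = 1 ↔ x = 1 ∨ x = -1) {i : N} (hi1 : i ≠ 1) (hi : i * i = 1) :
    ∃ t : N, t ≠ 1 ∧ t * t = 1 ∧ t ≠ i ∧ t * i = i * t := by
  obtain ⟨a, b, hab⟩ := Cfsg.Agent.Lib.PSL2Torus.exists_sum_sq h2 (-1 : F)
  obtain ⟨h3, h4, h5, h6, h7, h8⟩ := exists_commuting h2 hπ hk hab
  obtain ⟨g, hg⟩ := Cfsg.Agent.Lib.PSL2Torus.conj_inv_hom π h2 hπ hk h3 h4 hi1 hi
  refine ⟨g * π (vm a b hab) * g⁻¹, fun h => h5 (conj_eq_one_iff.1 h), ?_, ?_, ?_⟩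
  · calc g * π (vm a b hab) * g⁻¹ * (g * π (vm a b hab) * g⁻¹)
        = g * (π (vm a b hab) * π (vm a b hab)) * g⁻¹ := by group
      _ = 1 := by rw [h6]; group
  · intro h
    rw [← hg] at h
    exact h8 (mul_left_cancel (mul_right_cancel h)).symm
  · rw [← hg]
    calc g * π (vm a b hab) * g⁻¹ * (g * π (Cfsg.Agent.Lib.PSL2Torus.jm F) * g⁻¹)
        = g * (π (vm a b hab) * π (Cfsg.Agent.Lib.PSL2Torus.jm F)) * g⁻¹ := by group
      _ = g * (π (Cfsg.Agent.Lib.PSL2Torus.jm F) * π (vm a b hab)) * g⁻¹ := by rw [h7]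
      _ = g * π (Cfsg.Agent.Lib.PSL2Torus.jm F) * g⁻¹ * (g * π (vm a b hab) * g⁻¹) := by group

/-- the property (*) -/
def Star (S : Set (Subgroup G)) (N : Subgroup G) : Prop :=
  ∀ Y ∈ S, ∀ s t : N, (s : G) ∈ Y → (t : G) ∈ Y → s ≠ 1 → t ≠ 1 → s * s = 1 → t * t = 1 →
    s * t = t * s → s = t

theorem Act.commute {g : G} {σ : F ≃+* F} (hg : Act π g 1 σ) {x : _root_.Matrix.SpecialLinearGroup (Fin 2) F}
    (hx : fieldAut σ x = x) : g * (π x : G) = (π x : G) * g := by
  have h1 := hg x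
  rw [map_one conjGL, MulAut.one_apply, hx] at h1
  exact mul_inv_eq_iff_eq_mul.1 h1

theorem Act.ne_one (h2 : (2 : F) ≠ 0) (hk : ∀ x, π x = 1 ↔ x = 1 ∨ x = -1) {g : G}
    {A : GL (Fin 2) F} {σ : F ≃+* F} (hg : Act π g A σ) (hσ : σ ≠ 1) : g ≠ 1 := by
  rintro rfl
  apply hσ
  refine (unique_act h2 hk (A := A) (fun x => ?_)).1
  apply Subtype.ext
  rw [← hg x]
  group

/-- automorphisms of odd prime order -/
theorem not_odd [Finite G] [Finite F] (hS : IsPart S) [hN : N.Normal]
    (hC : centralizer (N : Set G) = ⊥) (h2 : (2 : F) ≠ 0) (hπ : Function.Surjective π)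
    (hk : ∀ x, π x = 1 ↔ x = 1 ∨ x = -1) (hstar : Star S N) {g : G} {A : GL (Fin 2) F}
    {σ : F ≃+* F} (hg : Act π g A σ) {r : ℕ} (hr : r.Prime) (hr2 : r ≠ 2)
    (hσr : orderOf σ = r) : False := by
  have hrodd : Odd r := hr.odd_of_ne_two hr2
  -- square
  have hgg := hg.mul hg
  have hsq : IsSquare (A * glMap σ A).1.det := by
    rw [Units.val_mul, Matrix.det_mul, det_glMap]
    exact isSquare_mul_map σ _
  obtain ⟨y, hy⟩ := hgg.of_isSquare hsq
  set γ : G := (π y : G)⁻¹ * (g * g) with hγ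
  have hσσ : σ * σ ≠ 1 := by
    intro h
    have h1 : orderOf σ ∣ 2 := orderOf_dvd_of_pow_eq_one (by rw [pow_two]; exact h)
    rw [hσr] at h1
    exact hr2 ((Nat.prime_dvd_prime_iff_eq hr Nat.prime_two).1 h1)
  have hγ1 : γ ≠ 1 := hy.ne_one h2 hk hσσ
  have hpow : ∀ n : ℕ, Act π (γ ^ n) 1 ((σ * σ) ^ n) := by
    intro n
    induction n with
    | zero => rw [pow_zero, pow_zero]; exact Act.one
    | succ n ih =>
      have h1 := ih.mul hy
      rw [map_one, one_mul] at h1
      rw [pow_succ, pow_succ]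
      exact h1
  have hγr : γ ^ r = 1 := by
    have h1 := hpow r
    have h3 : (σ * σ) ^ r = 1 := by
      rw [← pow_two, ← pow_mul, mul_comm, pow_mul, ← hσr, pow_orderOf_eq_one, one_pow]
    rw [h3] at h1
    exact h1.eq_one hπ hC
  have hrf : Fact r.Prime := ⟨hr⟩
  have hγo : orderOf γ = r := orderOf_eq_prime hγr hγ1
  obtain ⟨Y, hY, hγY⟩ := hS.cover γ hγ1
  -- the four-group over the prime field
  obtain ⟨p, hpc⟩ := CharP.exists F
  have hpp : p.Prime := CharP.char_is_prime F p
  have hpf : Fact p.Prime := ⟨hpp⟩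
  obtain ⟨a0, b0, hab0⟩ := ZMod.sq_add_sq p (-1)
  set a : F := ZMod.castHom (dvd_refl p) F a0 with ha
  set b : F := ZMod.castHom (dvd_refl p) F b0 with hb
  have hab : a ^ 2 + b ^ 2 = -1 := by
    rw [ha, hb, ← map_pow, ← map_pow, ← map_add, hab0, map_neg, map_one]
  have hfix : ∀ (τ : F ≃+* F) (c : ZMod p), τ (ZMod.castHom (dvd_refl p) F c) =
      ZMod.castHom (dvd_refl p) F c := by
    intro τ c
    obtain ⟨n, rfl⟩ := ZMod.natCast_zmod_surjective c
    rw [map_natCast, map_natCast]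
  obtain ⟨h3, h4, h5, h6, h7, h8⟩ := exists_commuting (π := π) h2 hπ hk hab
  have hj : fieldAut (σ * σ) (Cfsg.Agent.Lib.PSL2Torus.jm F) = Cfsg.Agent.Lib.PSL2Torus.jm F := by
    refine ext_ent ?_ ?_ ?_ ?_ <;> rw [fieldAut_ent] <;> simp only [_root_.Fin.isValue, _root_.Cfsg.Agent.Lib.PSL2Torus.jm_00, _root_.RingAut.mul_apply, _root_.map_zero, _root_.Cfsg.Agent.Lib.PSL2Torus.jm_01, _root_.RingEquiv.map_neg_one, _root_.Cfsg.Agent.Lib.PSL2Torus.jm_10, _root_.map_one, _root_.Cfsg.Agent.Lib.PSL2Torus.jm_11]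
  have hv : fieldAut (σ * σ) (vm a b hab) = vm a b hab := by
    refine ext_ent ?_ ?_ ?_ ?_ <;> rw [fieldAut_ent]
    · exact hfix _ a0
    · exact hfix _ b0
    · exact hfix _ b0
    · change (σ * σ) (-a) = -a
      rw [map_neg, hfix (σ * σ) a0]
  have hjY : (π (Cfsg.Agent.Lib.PSL2Torus.jm F) : G) ∈ Y := by
    apply hS.mem_of_commute hY hγY hγ1 (hy.commute hj)
    rw [orderOf_coe, hγo, orderOf_eq_prime (by rw [pow_two]; exact h4) h3]
    exact Ne.symm hr2
  have hvY : (π (vm a b hab) : G) ∈ Y := by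
    apply hS.mem_of_commute hY hγY hγ1 (hy.commute hv)
    rw [orderOf_coe, hγo, orderOf_eq_prime (by rw [pow_two]; exact h6) h5]
    exact Ne.symm hr2
  exact h8 (hstar Y hY _ _ hjY hvY h3 h5 h4 h6 h7)

/-- field automorphisms of order two with square determinant -/
theorem not_two_square [Finite G] [Finite F] (hS : IsPart S)
    (hnil : ∀ X ∈ S, Group.IsNilpotent X) [hN : N.Normal]
    (hC : centralizer (N : Set G) = ⊥) (h2 : (2 : F) ≠ 0) (hπ : Function.Surjective π)
    (hk : ∀ x, π x = 1 ↔ x = 1 ∨ x = -1) {g : G} {A : GL (Fin 2) F}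
    {σ : F ≃+* F} (hg : Act π g A σ) (hσ : orderOf σ = 2) (hsq : IsSquare A.1.det) : False := by
  obtain ⟨y, hy⟩ := hg.of_isSquare hsq
  set γ : G := (π y : G)⁻¹ * g with hγ
  have hσ1 : σ ≠ 1 := by
    rintro rfl
    rw [orderOf_one] at hσ
    omega
  have hσσ : σ * σ = 1 := by
    rw [← pow_two, ← hσ]
    exact pow_orderOf_eq_one σ
  have hγ1 : γ ≠ 1 := hy.ne_one h2 hk hσ1
  have hγγ : γ * γ = 1 := by
    have h1 := hy.mul hy
    rw [map_one, one_mul, hσσ] at h1
    exact h1.eq_one hπ hC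
  have hγo : orderOf γ = 2 := orderOf_eq_prime (by rw [pow_two]; exact hγγ) hγ1
  obtain ⟨Y, hY, hγY⟩ := hS.cover γ hγ1
  obtain ⟨p, hpc⟩ := CharP.exists F
  have hpp : p.Prime := CharP.char_is_prime F p
  have hpf : Fact p.Prime := ⟨hpp⟩
  have hp2 : p ≠ 2 := by
    rintro rfl
    exact h2 (by exact_mod_cast CharP.cast_eq_zero F 2)
  have hpodd : Odd p := hpp.odd_of_ne_two hp2
  have hup1 : π (up (1 : F)) ≠ 1 := by
    intro h
    rcases (hk _).1 h with h | h
    · have := congrArg (fun x => ent x 0 1) h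
      simp at this
    · have h3 := congrArg (fun x => ent x 0 1) h
      have h4 : (1 : F) = -0 := h3
      rw [neg_zero] at h4
      exact one_ne_zero h4
  have hlo1 : π (lo (1 : F)) ≠ 1 := by
    intro h
    rcases (hk _).1 h with h | h
    · have := congrArg (fun x => ent x 1 0) h
      simp at this
    · have h3 := congrArg (fun x => ent x 1 0) h
      have h4 : (1 : F) = -0 := h3
      rw [neg_zero] at h4
      exact one_ne_zero h4
  have hupp : π (up (1 : F)) ^ p = 1 := by
    rw [← map_pow, Cfsg.Agent.Lib.AutSL2.up_pow, CharP.cast_eq_zero, zero_mul, up_zero, map_one]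
  have hlop : π (lo (1 : F)) ^ p = 1 := by
    have h3 : ∀ n : ℕ, lo (1 : F) ^ n = lo (n : F) := by
      intro n
      induction n with
      | zero => rw [pow_zero, Nat.cast_zero, lo_zero]
      | succ n ih => rw [pow_succ, ih, lo_mul, Nat.cast_succ]
    rw [← map_pow, h3, CharP.cast_eq_zero, lo_zero, map_one]
  have hupY : (π (up (1 : F)) : G) ∈ Y := by
    apply hS.mem_of_commute hY hγY hγ1 (hy.commute (by rw [fieldAut_up, map_one]))
    rw [orderOf_coe, hγo, orderOf_eq_prime hupp hup1]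
    exact hp2
  have hloY : (π (lo (1 : F)) : G) ∈ Y := by
    apply hS.mem_of_commute hY hγY hγ1 (hy.commute (by rw [fieldAut_lo, map_one]))
    rw [orderOf_coe, hγo, orderOf_eq_prime hlop hlo1]
    exact hp2
  -- the involution
  set I : _root_.Matrix.SpecialLinearGroup (Fin 2) F := up 1 * (lo 1)⁻¹ * (lo 1)⁻¹ with hI
  have hIval : I = _root_.Cfsg.Agent.Lib.SL2Mat.mk (-1) 1 (-2) 1 (by ring) := by
    rw [hI, lo_inv]
    refine ext_ent ?_ ?_ ?_ ?_ <;> simp [ent_mul]
    · ring
  have hIY : (π I : G) ∈ Y := by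
    rw [hI, map_mul, map_mul, map_inv]
    exact mul_mem (mul_mem hupY (inv_mem hloY)) (inv_mem hloY)
  have hII : I * I = -1 := by
    apply Cfsg.Agent.Lib.PSL2Torus.sq_of_tr
    rw [hIval]
    simp
  have hIσ : π I ^ 2 = 1 := by
    rw [pow_two, ← map_mul, hII]
    exact (hk _).2 (Or.inr rfl)
  have := hnil Y hY
  have hIG : (π I : G) ^ 2 = 1 := by rw [← Subgroup.coe_pow, hIσ]; rfl
  have hupG : (π (up (1 : F)) : G) ^ p = 1 := by rw [← Subgroup.coe_pow, hupp]; rfl
  have hcomm := Cfsg.Agent.Lib.NilpotentCoprime.commute_of_pow_eq_one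
    (a := (⟨(π I : G), hIY⟩ : Y)) (b := ⟨(π (up (1 : F)) : G), hupY⟩)
    (show Nat.Coprime 2 p from (Nat.coprime_two_left).2 hpodd)
    (Subtype.ext hIG) (Subtype.ext hupG)
  have hcomm2 : (π I : G) * (π (up (1 : F)) : G) = (π (up (1 : F)) : G) * (π I : G) :=
    congrArg Subtype.val hcomm.eq
  have hcomm' : π (I * up (1 : F)) = π (up (1 : F) * I) := by
    rw [map_mul π I, map_mul π (up 1) I]
    exact Subtype.ext hcomm2
  rcases (Cfsg.Agent.Lib.PSL2Torus.map_eq_iff π hk).1 hcomm' with h | h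
  · rw [hIval] at h
    have h3 := congrArg (fun x => ent x 0 0) h
    simp only [ent_mul, _root_.Fin.isValue, _root_.Cfsg.Agent.Lib.SL2Mat.mk_00, _root_.Cfsg.Agent.Lib.SL2Mat.up_00, _root_.mul_one, _root_.Cfsg.Agent.Lib.SL2Mat.mk_01, _root_.Cfsg.Agent.Lib.SL2Mat.up_10, _root_.MulZeroClass.mul_zero, _root_.add_zero, _root_.mul_neg, _root_.Cfsg.Agent.Lib.SL2Mat.up_01, _root_.Cfsg.Agent.Lib.SL2Mat.mk_10, _root_.one_mul, _root_.left_eq_add, _root_.neg_eq_zero] at h3
    apply h2
    linear_combination h3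
  · rw [hIval] at h
    have h3 := congrArg (fun x => ent x 1 1) h
    have hneg : ∀ (x : Matrix.SpecialLinearGroup (Fin 2) F) i j, ent (-x) i j = - ent x i j :=
      fun _ _ _ => rfl
    have h4 := congrArg (fun x => ent x 0 1) h
    simp only [hneg, ent_mul, mk_00, mk_01, mk_10, mk_11, up_00, up_01, up_10, up_11] at h3 h4
    apply h2
    linear_combination h4

end Cfsg.Agent.H550.Part
end

-- part: H550/Part/OddField2
section
/-!
# No field automorphisms, II, and the identification with `PSL(2,F)` or `PGL(2,F)`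
-/

set_option autoImplicit false

namespace Cfsg.Agent.H550.Part

open Subgroup Matrix Cfsg.Agent.Lib.SL2Mat

universe u

variable {F : Type*} [Field F] {G : Type u} [Group G] {S : Set (Subgroup G)} {N : Subgroup G}
  {π : _root_.Matrix.SpecialLinearGroup (Fin 2) F →* N}

/-- an element inducing `A σ` with `σ` of order two and `det A` a nonsquare is not an involution -/
theorem not_invol [Finite F] (h2 : (2 : F) ≠ 0)
    (hk : ∀ x, π x = 1 ↔ x = 1 ∨ x = -1) {h : G} {B : GL (Fin 2) F}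
    {σ : F ≃+* F} (hh : Act π h B σ) (hσ1 : σ ≠ 1) (hσσ : σ * σ = 1)
    (hsq : ¬ IsSquare B.1.det) : h * h ≠ 1 := by
  intro hhh
  have h1 := hh.mul hh
  rw [hhh, hσσ] at h1
  have huniq := unique_act h2 hk (A := B * glMap σ B) (σ := 1) (fun x => by
    apply Subtype.ext
    rw [← h1 x]
    group)
  obtain ⟨-, h01, h10, h00⟩ := huniq
  have hσe : ∀ a, σ (σ a) = a := fun a => DFunLike.congr_fun hσσ a
  set l : F := (B * glMap σ B).1 0 0 with hl
  -- `B σ(B) = l`
  have hBB : B.1 * (glMap σ B).1 = l • (1 : Matrix (Fin 2) (Fin 2) F) := by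
    ext i j
    fin_cases i <;> fin_cases j
    · simp [hl]
    · simpa using h01
    · simpa using h10
    · simpa using h00.symm
  have hBB' : (glMap σ B).1 * B.1 = σ l • (1 : Matrix (Fin 2) (Fin 2) F) := by
    have h3 := congrArg (fun M : Matrix (Fin 2) (Fin 2) F => M.map σ) hBB
    have h4 : (B.1 * (glMap σ B).1).map σ = (glMap σ B).1 * B.1 := by
      rw [Matrix.map_mul]
      congr 1
      ext i j
      rw [Matrix.map_apply, glMap_val, hσe]
    have h5 : (l • (1 : Matrix (Fin 2) (Fin 2) F)).map σ = σ l • (1 : Matrix (Fin 2) (Fin 2) F) := by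
      ext i j
      rw [Matrix.map_apply, Matrix.smul_apply, Matrix.smul_apply, smul_eq_mul, smul_eq_mul, map_mul]
      congr 1
      rw [Matrix.one_apply]
      split_ifs <;> simp
    rw [← h4, ← h5]
    exact h3
  have hσl : σ l = l := by
    have h3 : B.1 * ((glMap σ B).1 * B.1) = (B.1 * (glMap σ B).1) * B.1 := by rw [mul_assoc]
    rw [hBB, hBB', mul_smul_comm, mul_one, smul_mul_assoc, one_mul] at h3
    by_contra hne
    have h4 : (σ l - l) • B.1 = 0 := by rw [sub_smul, h3, sub_self]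
    rcases smul_eq_zero.1 h4 with h5 | h5
    · exact hne (sub_eq_zero.1 h5)
    · apply det_ne_zero B
      rw [h5, Matrix.det_zero]
  have hdet : B.1.det * σ B.1.det = l * l := by
    rw [← det_glMap, ← Matrix.det_mul, hBB, Matrix.det_smul, Matrix.det_one]
    simp [pow_two]
  exact hsq (isSquare_of_norm h2 hσ1 hσσ (det_ne_zero B) hσl hdet)

theorem not_isSquare_mul_of {K : Type*} [Field K] {a b : K} (ha : ¬ IsSquare a) (hb : IsSquare b)
    (hb0 : b ≠ 0) : ¬ IsSquare (a * b) := by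
  intro h
  apply ha
  have h1 : a = a * b / b := by field_simp
  rw [h1]
  exact h.div hb

/-- field automorphisms of order two with nonsquare determinant -/
theorem not_two_nonsquare [Finite G] [Finite F] (hS : IsPart S) [hN : N.Normal]
    (hC : centralizer (N : Set G) = ⊥) (h2 : (2 : F) ≠ 0) (hπ : Function.Surjective π)
    (hk : ∀ x, π x = 1 ↔ x = 1 ∨ x = -1) (hstar : Star S N) {g : G} {A : GL (Fin 2) F}
    {σ : F ≃+* F} (hg : Act π g A σ) (hσ : orderOf σ = 2) (hsq : ¬ IsSquare A.1.det) : False := by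
  have hσ1 : σ ≠ 1 := by
    rintro rfl
    rw [orderOf_one] at hσ
    omega
  have hσσ : σ * σ = 1 := by
    rw [← pow_two, ← hσ]
    exact pow_orderOf_eq_one σ
  -- elements `g n` are not involutions
  have hgn : ∀ y : _root_.Matrix.SpecialLinearGroup (Fin 2) F, (g * (π y : G)) * (g * (π y : G)) ≠ 1 := by
    intro y
    have h1 := hg.mul (Act.coe (π := π) y)
    rw [mul_one] at h1
    refine not_invol h2 hk h1 hσ1 hσσ ?_
    rw [Units.val_mul, Matrix.det_mul, det_glMap]
    apply not_isSquare_mul_of hsq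
    · have h3 : (SpecialLinearGroup.toGL y).1.det = 1 := y.2
      rw [h3, map_one]
      exact ⟨1, (mul_one 1).symm⟩
    · have h3 : (SpecialLinearGroup.toGL y).1.det = 1 := y.2
      rw [h3, map_one]
      exact one_ne_zero
  -- `g² ∈ N`
  obtain ⟨y, hy⟩ : ∃ y, g * g = (π y : G) := by
    have h1 := hg.mul hg
    rw [hσσ] at h1
    refine h1.mem hπ hC ?_
    rw [Units.val_mul, Matrix.det_mul, det_glMap]
    exact isSquare_mul_map σ _
  -- `g` has even order
  have hev : 2 ∣ orderOf g := by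
    by_contra hodd
    rw [← even_iff_two_dvd, Nat.not_even_iff_odd] at hodd
    obtain ⟨m, hm⟩ := hodd
    have h1 : g = (g * g) ^ (m + 1) := by
      rw [← pow_two, ← pow_mul]
      have h3 : 2 * (m + 1) = orderOf g + 1 := by omega
      rw [h3, pow_succ, pow_orderOf_eq_one, one_mul]
    rw [hy, ← Subgroup.coe_pow, ← map_pow] at h1
    set w := y ^ (m + 1) with hw
    have h3 := Act.coe (π := π) w
    rw [← h1] at h3
    apply hσ1
    -- compare the two actions of `g`
    have h4 := Act.coe (π := π) w⁻¹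
    have h5 := h4.mul hg
    have h6 : (π w⁻¹ : G) * g = 1 := by
      rw [map_inv]
      conv_lhs => rw [h1]
      exact inv_mul_cancel _
    rw [h6, one_mul] at h5
    exact (unique_act h2 hk (fun x => by
      apply Subtype.ext
      rw [← h5 x]
      group)).1
  obtain ⟨k, hkk⟩ := hev
  have hk0 : k ≠ 0 := by
    rintro rfl
    have := orderOf_pos g
    omega
  set i : G := g ^ k with hi
  have hi1 : i ≠ 1 := by
    intro h
    have h1 := orderOf_dvd_of_pow_eq_one h
    have h3 := Nat.le_of_dvd (Nat.pos_of_ne_zero hk0) h1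
    omega
  have hii : i * i = 1 := by
    rw [hi, ← pow_add]
    have h3 : k + k = orderOf g := by omega
    rw [h3, pow_orderOf_eq_one]
  -- `i ∈ N`
  obtain ⟨w, hw⟩ : ∃ w, i = (π w : G) := by
    rcases Nat.even_or_odd k with he | ho
    · obtain ⟨m, hm⟩ := he
      refine ⟨y ^ m, ?_⟩
      rw [map_pow, Subgroup.coe_pow, ← hy, hi, hm, ← pow_two, ← pow_mul]
      congr 1
      omega
    · exfalso
      obtain ⟨m, hm⟩ := ho
      have h1 : i = g * (π (y ^ m) : G) := by
        rw [map_pow, Subgroup.coe_pow, ← hy, hi, hm, ← pow_two, ← pow_mul, ← pow_succ']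
      exact hgn _ (by rw [← h1]; exact hii)
  have hw1 : π w ≠ 1 := by
    intro h
    apply hi1
    rw [hw, h]
    rfl
  have hww : π w * π w = 1 := by
    apply Subtype.ext
    change (π w : G) * (π w : G) = 1
    rw [← hw]
    exact hii
  obtain ⟨t, ht1, htt, hti, htc⟩ := exists_commuting' h2 hπ hk hw1 hww
  obtain ⟨Y, hY, hiY⟩ := hS.cover i hi1
  have hgY : g ∈ Y := hS.mem_of_pow hY hiY hi1
  have htY : (t : G) ∉ Y := by
    intro h
    exact hti (hstar Y hY t (π w) h (by rw [← hw]; exact hiY) ht1 hw1 htt hww htc)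
  obtain ⟨v, hv⟩ := hπ t
  have hgt : g * (t : G) ∉ Y := fun h => htY ((mul_mem_cancel_left hgY).1 h)
  have hio : orderOf i = 2 := orderOf_eq_prime (by rw [pow_two]; exact hii) hi1
  have hcomm : g * (t : G) * i = i * (g * (t : G)) := by
    have h1 : (t : G) * i = i * t := by
      rw [hw]
      exact congrArg Subtype.val htc
    have h3 : g * i = i * g := by
      rw [hi]
      exact ((Commute.refl g).pow_right k).eq
    rw [mul_assoc, h1, ← mul_assoc, h3, mul_assoc]
  have h3 := hS.sq_of_commute hY hiY hio hgt hcomm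
  rw [← hv] at h3
  exact hgn v h3

/-- **No field automorphisms.** -/
theorem no_field [Finite G] [Finite F] (hS : IsPart S)
    (hnil : ∀ X ∈ S, Group.IsNilpotent X) [hN : N.Normal]
    (hC : centralizer (N : Set G) = ⊥) (h2 : (2 : F) ≠ 0) (hπ : Function.Surjective π)
    (hk : ∀ x, π x = 1 ↔ x = 1 ∨ x = -1) (hstar : (∀ σ : F ≃+* F, σ = 1) ∨ Star S N)
    {g : G} {A : GL (Fin 2) F} {σ : F ≃+* F} (hg : Act π g A σ) : σ = 1 := by
  rcases hstar with hstar | hstar
  · exact hstar σ
  by_contra hσ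
  have hfinF : Finite (F ≃+* F) := Finite.of_injective (fun τ : F ≃+* F => (τ : F → F))
    DFunLike.coe_injective
  obtain ⟨r, hr, m, hm⟩ := Nat.exists_prime_and_dvd (mt orderOf_eq_one_iff.1 hσ)
  have hm0 : m ≠ 0 := by
    rintro rfl
    have := orderOf_pos σ
    omega
  obtain ⟨B, hB⟩ := hg.pow m
  have hσm : orderOf (σ ^ m) = r := by
    rw [orderOf_pow_of_dvd hm0 ⟨r, by rw [hm, mul_comm]⟩, hm]
    exact Nat.mul_div_cancel _ (Nat.pos_of_ne_zero hm0)
  by_cases hr2 : r = 2
  · rw [hr2] at hσm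
    by_cases hsq : IsSquare B.1.det
    · exact not_two_square hS hnil hC h2 hπ hk hB hσm hsq
    · exact not_two_nonsquare hS hC h2 hπ hk hstar hB hσm hsq
  · exact not_odd hS hC h2 hπ hk hstar hB hr hr2 hσm

theorem mem_center_of_scalar {A : GL (Fin 2) F} (h01 : A.1 0 1 = 0) (h10 : A.1 1 0 = 0)
    (h00 : A.1 0 0 = A.1 1 1) : A ∈ Subgroup.center (GL (Fin 2) F) := by
  rw [Subgroup.mem_center_iff]
  intro B
  apply Units.ext
  ext i j
  rw [Units.val_mul, Units.val_mul, Matrix.mul_apply, Matrix.mul_apply, Fin.sum_univ_two,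
    Fin.sum_univ_two]
  fin_cases i <;> fin_cases j <;> simp only [Fin.zero_eta, Fin.mk_one, Fin.isValue]
  · rw [h01, h10]; ring
  · rw [h01, ← h00]; ring
  · rw [h10, h00]; ring
  · rw [h01, h10]; ring

/-- **Identification.** -/
theorem odd_main [Finite G] [Finite F] (hS : IsPart S)
    (hnil : ∀ X ∈ S, Group.IsNilpotent X) [hN : N.Normal]
    (hC : centralizer (N : Set G) = ⊥) (h2 : (2 : F) ≠ 0)
    (e : N ≃* Matrix.ProjectiveSpecialLinearGroup (Fin 2) F)
    (hstar : (∀ σ : F ≃+* F, σ = 1) ∨ Star S N) :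
    Nonempty (G ≃* Matrix.ProjectiveSpecialLinearGroup (Fin 2) F) ∨
      Nonempty (G ≃* (GL (Fin 2) F ⧸ Subgroup.center (GL (Fin 2) F))) := by
  classical
  obtain ⟨π, hπ, hk⟩ := Cfsg.Agent.Lib.PSL2Torus.exists_hom h2 e
  have hact : ∀ g : G, ∃ A : GL (Fin 2) F, Act π g A 1 := by
    intro g
    obtain ⟨A, σ, hA⟩ := exists_act hπ hk g
    have := no_field hS hnil hC h2 hπ hk hstar hA
    subst this
    exact ⟨A, hA⟩
  by_cases hall : ∀ (g : G) (A : GL (Fin 2) F), Act π g A 1 → IsSquare A.1.det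
  · left
    have htop : N = ⊤ := by
      rw [eq_top_iff]
      intro g _
      obtain ⟨A, hA⟩ := hact g
      obtain ⟨y, hy⟩ := hA.mem hπ hC (hall g A hA)
      rw [hy]
      exact (π y).2
    exact ⟨(Subgroup.topEquiv.symm.trans (MulEquiv.subgroupCongr htop.symm)).trans e⟩
  · right
    push Not at hall
    obtain ⟨g₀, A₀, hA₀, hsq₀⟩ := hall
    choose A hA using hact
    -- uniqueness of the matrix up to scalars
    have huniq : ∀ (g : G) (B C : GL (Fin 2) F), Act π g B 1 → Act π g C 1 →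
        (B : GL (Fin 2) F ⧸ Subgroup.center (GL (Fin 2) F)) = C := by
      intro g B C hB hC'
      rw [QuotientGroup.eq]
      have h1 : ∀ x, π (conjGL (B⁻¹ * C) (fieldAut 1 x)) = π x := by
        intro x
        have h3 : ∀ x, π (conjGL B x) = π (conjGL C x) := by
          intro x
          apply Subtype.ext
          have h4 := hB x
          have h5 := hC' x
          rw [map_one fieldAut, MulAut.one_apply] at h4 h5
          rw [← h4, ← h5]
        -- apply to `B⁻¹ x`
        have h6 := (Cfsg.Agent.Lib.PSL2Torus.map_eq_iff π hk).1 (h3 x)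
        rw [map_one fieldAut, MulAut.one_apply, map_mul conjGL, MulAut.mul_apply]
        rw [Cfsg.Agent.Lib.PSL2Torus.map_eq_iff π hk]
        rcases h6 with h6 | h6
        · left
          rw [← h6, map_inv, MulAut.inv_apply_self]
        · right
          have h7 : conjGL C x = -conjGL B x := by rw [h6, neg_neg]
          rw [h7]
          have h8 : ∀ (D : GL (Fin 2) F) (y : _root_.Matrix.SpecialLinearGroup (Fin 2) F),
              conjGL D (-y) = -conjGL D y := by
            intro D y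
            apply Subtype.ext
            change D.1 * (-y.1) * D⁻¹.1 = -(D.1 * y.1 * D⁻¹.1)
            rw [mul_neg, neg_mul]
          rw [h8, map_inv, MulAut.inv_apply_self]
      obtain ⟨-, h01, h10, h00⟩ := unique_act h2 hk h1
      exact mem_center_of_scalar h01 h10 h00
    have hglone : ∀ B : GL (Fin 2) F, glMap 1 B = B := by
      intro B
      apply Units.ext
      ext i j
      rfl
    have hmul : ∀ (g h : G) (B C : GL (Fin 2) F), Act π g B 1 → Act π h C 1 →
        Act π (g * h) (B * C) 1 := by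
      intro g h B C hB hC'
      have h1 := hB.mul hC'
      rwa [hglone, mul_one] at h1
    let Ψ : G →* (GL (Fin 2) F ⧸ Subgroup.center (GL (Fin 2) F)) :=
      MonoidHom.mk' (fun g => (A g : GL (Fin 2) F ⧸ Subgroup.center (GL (Fin 2) F)))
        (fun g h => by
          rw [← QuotientGroup.mk_mul]
          exact huniq (g * h) _ _ (hA (g * h)) (hmul g h _ _ (hA g) (hA h)))
    have hΨ : ∀ (g : G) (B : GL (Fin 2) F), Act π g B 1 →
        Ψ g = (B : GL (Fin 2) F ⧸ Subgroup.center (GL (Fin 2) F)) := by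
      intro g B hB
      exact huniq g _ _ (hA g) hB
    have hinj : Function.Injective Ψ := by
      rw [injective_iff_map_eq_one]
      intro g hg
      have h1 : A g ∈ Subgroup.center (GL (Fin 2) F) := (QuotientGroup.eq_one_iff _).1 hg
      have h3 : Act π g 1 1 := by
        intro x
        rw [hA g x]
        congr 2
        rw [map_one conjGL, map_one fieldAut, MulAut.one_apply, MulAut.one_apply]
        apply Subtype.ext
        rw [conjGL_val]
        have h4 := Subgroup.mem_center_iff.1 h1 (SpecialLinearGroup.toGL x)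
        have h5 : (A g).1 * x.1 = x.1 * (A g).1 := congrArg Units.val h4.symm
        have h6 : (A g).1 * (A g)⁻¹.1 = 1 := by
          rw [← Units.val_mul, mul_inv_cancel, Units.val_one]
        rw [h5, mul_assoc, h6, mul_one]
      exact h3.eq_one hπ hC
    have hsurj : Function.Surjective Ψ := by
      intro q
      obtain ⟨B, rfl⟩ := QuotientGroup.mk_surjective q
      by_cases hB : IsSquare B.1.det
      · obtain ⟨y, c, hc, hy⟩ := exists_sl_of_isSquare hB
        refine ⟨(π y : G), hΨ _ _ (fun x => ?_)⟩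
        rw [map_one fieldAut, MulAut.one_apply, conjGL_smul hc hy]
        rw [map_mul, map_mul, map_inv]
        rfl
      · have h1 : IsSquare (B * A₀⁻¹).1.det := by
          rw [Units.val_mul, Matrix.det_mul]
          apply Cfsg.Agent.LOC.NdField.isSquare_mul_of_not hB
          intro h
          apply hsq₀
          have h3 : A₀.1.det * A₀⁻¹.1.det = 1 := by
            rw [← Matrix.det_mul, ← Units.val_mul, mul_inv_cancel, Units.val_one, Matrix.det_one]
          have h4 : A₀.1.det = 1 / A₀⁻¹.1.det := by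
            rw [eq_div_iff (det_ne_zero _)]
            exact h3
          rw [h4]
          exact IsSquare.one.div h
        obtain ⟨y, c, hc, hy⟩ := exists_sl_of_isSquare h1
        have h3 : Act π (π y : G) (B * A₀⁻¹) 1 := by
          intro x
          rw [map_one fieldAut, MulAut.one_apply, conjGL_smul hc hy]
          rw [map_mul, map_mul, map_inv]
          rfl
        refine ⟨(π y : G) * g₀, ?_⟩
        have h4 := hmul _ _ _ _ h3 hA₀
        rw [inv_mul_cancel_right] at h4
        exact hΨ _ _ h4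
    exact ⟨MulEquiv.ofBijective Ψ ⟨hinj, hsurj⟩⟩

end Cfsg.Agent.H550.Part
end

-- part: H550/Part/Main
section
/-!
# Groups with a nontrivial partition: the classification, modulo quoted classification theorems
-/

set_option autoImplicit false

namespace Cfsg.Agent.H550.Part

open Subgroup Matrix Cfsg.Agent.LieExceptional.CCEven

universe u

/-- the quoted theorems -/
structure Quoted : Prop where
  odd : ∀ (K : Type u) [Group K] [Finite K], Odd (Nat.card K) → Group.IsSolvable K
  strong : ∀ (K : Type u) [Group K] [Finite K] (H : Subgroup K), IsStronglyEmbedded H →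
    (oddCore ↥H).map H.subtype ≤ oddCore K
  zass : ∀ (K Ω : Type u) [Group K] [Finite K] [MulAction K Ω] [Finite Ω],
    IsZassenhausGroup K Ω → ∀ [IsSimpleGroup K],
    (∃ (F : Type) (_ : Field F) (_ : Fintype F),
      Nonempty (K ≃* Matrix.ProjectiveSpecialLinearGroup (Fin 2) F)) ∨ Cfsg.IsSuzuki K
  dih : ∀ (X : Type u) [Group X] [Finite X] [Group.IsPerfect X] (S : Sylow 2 X) (n : ℕ), 2 ≤ n →
    Nonempty ((S : Subgroup X) ≃* DihedralGroup n) →
    (∃ (F : Type) (_ : Field F) (_ : Fintype F), Odd (Fintype.card F) ∧ 3 < Fintype.card F ∧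
        Nonempty (X ⧸ Cfsg.oddCore X ≃* Matrix.ProjectiveSpecialLinearGroup (Fin 2) F)) ∨
      Nonempty (X ⧸ Cfsg.oddCore X ≃* alternatingGroup (Fin 7))
  suz : ∀ (K : Type u) [Group K] [Finite K] [IsSimpleGroup K] (H : Subgroup K),
    ¬ Group.IsSolvable K → IsStronglyEmbedded H → ¬ 3 ∣ Nat.card K → Cfsg.Lie.IsoSuzuki K

variable {G : Type u} [Group G] {S : Set (Subgroup G)}

theorem isPerfect_of_simple [IsSimpleGroup G] (hns : ¬ Group.IsSolvable G) : Group.IsPerfect G := by
  rw [Group.isPerfect_def]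
  have hn : (commutator G).Normal := inferInstance
  rcases hn.eq_bot_or_eq_top with h | h
  · exfalso
    apply hns
    refine (Group.isSolvable_def G).2 ⟨1, ?_⟩
    rw [derivedSeries_one]
    exact h
  · exact h

theorem oddCore_eq_bot [Finite G] [IsSimpleGroup G] (heven : 2 ∣ Nat.card G) :
    oddCore G = ⊥ := by
  have hn : (oddCore G).Normal := inferInstance
  rcases hn.eq_bot_or_eq_top with h | h
  · exact h
  · exfalso
    have h1 := (Lib.Cores.le_pPrimeCore_iff (p := 2) (inferInstance : (⊤ : Subgroup G).Normal)).1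
      (le_of_eq h.symm)
    rw [Subgroup.card_top] at h1
    exact (Nat.Prime.coprime_iff_not_dvd Nat.prime_two).1 h1.symm heven

/-- groups with a dihedral Sylow 2-subgroup -/
theorem Quoted.dih_simple (Q : Quoted.{u}) [Finite G] [IsSimpleGroup G]
    (hns : ¬ Group.IsSolvable G) (heven : 2 ∣ Nat.card G) (hS : IsPart S)
    (hnil : ∀ X ∈ S, Group.IsNilpotent X) (T : Sylow 2 G) {n : ℕ} (hn : 2 ≤ n)
    (hT : Nonempty ((T : Subgroup G) ≃* DihedralGroup n)) :
    ∃ (F : Type) (_ : Field F) (_ : Fintype F), Odd (Fintype.card F) ∧ 3 < Fintype.card F ∧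
        Nonempty (G ≃* Matrix.ProjectiveSpecialLinearGroup (Fin 2) F) := by
  have := isPerfect_of_simple hns
  have hcore := oddCore_eq_bot (G := G) heven
  have e : G ≃* G ⧸ Cfsg.oddCore G :=
    (QuotientGroup.quotientBot (G := G)).symm.trans (QuotientGroup.quotientMulEquivOfEq hcore.symm)
  rcases Q.dih G T n hn hT with ⟨F, hF, hF', h1, h2, ⟨f⟩⟩ | hf
  · exact ⟨F, hF, hF', h1, h2, ⟨e.trans f⟩⟩
  · obtain ⟨f⟩ := hf
    exact (hS.not_alt7 hnil (e.trans f)).elim

theorem two_ne_zero_of_odd {F : Type*} [Field F] [Fintype F] (h : Odd (Fintype.card F)) :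
    (2 : F) ≠ 0 := by
  intro h2
  obtain ⟨p, hp⟩ := CharP.exists F
  have hpp : p.Prime := CharP.char_is_prime F p
  obtain ⟨n, -, hn⟩ := FiniteField.card F p
  have hp2 : p ∣ 2 := by
    rw [← CharP.cast_eq_zero_iff F p]
    exact_mod_cast h2
  have hp2' : p = 2 := (Nat.prime_dvd_prime_iff_eq hpp Nat.prime_two).1 hp2
  rw [hn, hp2'] at h
  have : Even (2 ^ (n : ℕ)) := even_two.pow_of_ne_zero n.ne_zero
  exact (Nat.not_odd_iff_even.2 this) h

/-- ring automorphisms of a field with five elements -/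
theorem ringEquiv_eq_one_of_card {F : Type*} [Field F] [Fintype F] (h : Fintype.card F = 5)
    (σ : F ≃+* F) : σ = 1 := by
  obtain ⟨p, hp⟩ := CharP.exists F
  have hpp : p.Prime := CharP.char_is_prime F p
  have hpf : Fact p.Prime := ⟨hpp⟩
  obtain ⟨n, -, hn⟩ := FiniteField.card F p
  have hp5 : p = 5 := by
    have h1 : p ∣ 5 := by
      rw [← h, hn]
      exact dvd_pow_self p n.ne_zero
    exact (Nat.prime_dvd_prime_iff_eq hpp (by norm_num)).1 h1
  subst hp5
  have hbij : Function.Bijective (ZMod.castHom (dvd_refl 5) F) := by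
    rw [Fintype.bijective_iff_injective_and_card]
    refine ⟨RingHom.injective _, ?_⟩
    rw [ZMod.card, h]
  ext x
  obtain ⟨c, rfl⟩ := hbij.2 x
  obtain ⟨m, rfl⟩ := ZMod.natCast_zmod_surjective c
  rw [map_natCast, map_natCast]
  rfl

theorem card_eq_five {F : Type*} [Field F] [Fintype F] (hodd : Odd (Fintype.card F))
    (h : Nat.card (ProjectiveSpecialLinearGroup (Fin 2) F) = 60) : Fintype.card F = 5 := by
  have h1 := Cfsg.Agent.ClassicalGeometry.PSL2Basic.card_PSL2_gcd (F := F)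
  have h6 : Nat.gcd 2 (Fintype.card F - 1) = 2 := by
    apply Nat.gcd_eq_left
    obtain ⟨c, hc⟩ := hodd
    exact ⟨c, by omega⟩
  rw [h, h6] at h1
  set q := Fintype.card F
  have hq : q < 6 := by
    by_contra hge
    push Not at hge
    have h2 : 36 ≤ q ^ 2 := by nlinarith only [hge]
    have h3 : 6 * 35 ≤ q * (q ^ 2 - 1) := Nat.mul_le_mul hge (by omega)
    omega
  interval_cases q <;> omega

theorem card_eq_six_or {F : Type*} [Field F] [Fintype F]
    (h : 72 ≤ Nat.card (ProjectiveSpecialLinearGroup (Fin 2) F)) : 4 ≤ Fintype.card F := by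
  have h1 := Cfsg.Agent.ClassicalGeometry.PSL2Basic.card_PSL2_gcd (F := F)
  by_contra hlt
  push Not at hlt
  have h3 : 0 < Nat.gcd 2 (Fintype.card F - 1) := Nat.gcd_pos_of_pos_left _ (by norm_num)
  have h4 : Nat.card (ProjectiveSpecialLinearGroup (Fin 2) F) ≤
      Fintype.card F * (Fintype.card F ^ 2 - 1) := by
    rw [← h1]
    exact Nat.le_mul_of_pos_right _ h3
  have h5 := h.trans h4
  set q := Fintype.card F
  interval_cases q <;> omega

theorem isStronglyEmbedded_of_conf [Finite G] {T : Subgroup G} (hc : Conf T)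
    (hN : normalizer (T : Set G) ≠ ⊤) : IsStronglyEmbedded (normalizer (T : Set G)) := by
  refine ⟨hN, ?_, ?_⟩
  · rw [even_iff_two_dvd]
    exact hc.even.trans (Subgroup.card_dvd_of_le le_normalizer)
  · intro g hg
    by_contra hodd
    rw [Nat.not_odd_iff_even, even_iff_two_dvd] at hodd
    obtain ⟨t, ⟨ht, s, hs, hst⟩, ht2⟩ := exists_prime_order_mem Nat.prime_two hodd
    have hst' : g * s * g⁻¹ = t := hst
    have hs2 : orderOf s = 2 := by
      rw [← ht2, ← hst]
      exact (orderOf_injective (MulAut.conj g).toMonoidHom (MulAut.conj g).injective s).symm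
    have htT := involution_mem hc ht ht2
    have hsT := involution_mem hc hs hs2
    have hs1 : s ≠ 1 := by
      rintro rfl
      rw [orderOf_one] at hs2
      omega
    exact hg (hc.ti s hsT hs1 g (by rw [hst']; exact htT))

theorem not_three_dvd (m : ℕ) : ¬ 3 ∣ (2 ^ (2 * m + 1)) ^ 2 * ((2 ^ (2 * m + 1)) ^ 2 + 1) *
    (2 ^ (2 * m + 1) - 1) := by
  obtain ⟨a, ha⟩ : ∃ a, 2 ^ (2 * m + 1) = 3 * a + 2 := by
    induction m with
    | zero => exact ⟨0, by norm_num⟩
    | succ m ih =>
      obtain ⟨a, ha⟩ := ih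
      refine ⟨4 * a + 2, ?_⟩
      have h1 : 2 ^ (2 * (m + 1) + 1) = 4 * 2 ^ (2 * m + 1) := by ring
      rw [h1, ha]
      ring
  rw [ha]
  intro h
  have h1 : (3 * a + 2) ^ 2 = 3 * (3 * (a * a) + 4 * a + 1) + 1 := by ring
  rw [h1] at h
  rcases (Nat.Prime.dvd_mul Nat.prime_three).1 h with h | h
  · rcases (Nat.Prime.dvd_mul Nat.prime_three).1 h with h | h <;> (clear * - h; omega)
  · omega

/-- **Groups with an invariant nilpotent partition and without solvable normal subgroups.** -/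
theorem IsPart.main_nil (Q : Quoted.{u}) [Finite G] [Nontrivial G] (hS : IsPart S)
    (hnil : ∀ X ∈ S, Group.IsNilpotent X)
    (hF : ∀ A : Subgroup G, A.Normal → Group.IsSolvable A → A = ⊥) :
    (∃ (F : Type) (_ : Field F) (_ : Fintype F), 4 ≤ Fintype.card F ∧
        Nonempty (G ≃* Matrix.ProjectiveSpecialLinearGroup (Fin 2) F)) ∨
    (∃ (F : Type) (_ : Field F) (_ : Fintype F), 5 ≤ Fintype.card F ∧ Odd (Fintype.card F) ∧
        Nonempty (G ≃* (GL (Fin 2) F ⧸ Subgroup.center (GL (Fin 2) F)))) ∨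
    Cfsg.Lie.IsoSuzuki G := by
  classical
  obtain ⟨N, hN, hNs, hNns, hNC⟩ := hS.exists_simple hnil hF
  have hNX : ∀ X ∈ S, ¬ N ≤ X := by
    intro X hX h
    apply hNns
    have := hnil X hX
    have := isNilpotent_of_le h
    infer_instance
  have hSN : IsPart (Part.restr S N) := hS.restr hNX
  have hnilN := nil_restr (S := S) (N := N) hnil
  have heven : 2 ∣ Nat.card N := by
    by_contra h
    apply hNns
    apply Q.odd N
    rw [← Nat.not_even_iff_odd, even_iff_two_dvd]
    exact h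
  obtain ⟨T⟩ : Nonempty (Sylow 2 N) := inferInstance
  -- the odd conclusion
  have hodd : ∀ (F : Type) (_ : Field F) (_ : Fintype F), Odd (Fintype.card F) →
      3 < Fintype.card F → Nonempty (N ≃* Matrix.ProjectiveSpecialLinearGroup (Fin 2) F) →
      ((∀ σ : F ≃+* F, σ = 1) ∨ Star S N) →
      (∃ (F : Type) (_ : Field F) (_ : Fintype F), 4 ≤ Fintype.card F ∧
        Nonempty (G ≃* Matrix.ProjectiveSpecialLinearGroup (Fin 2) F)) ∨
      (∃ (F : Type) (_ : Field F) (_ : Fintype F), 5 ≤ Fintype.card F ∧ Odd (Fintype.card F) ∧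
        Nonempty (G ≃* (GL (Fin 2) F ⧸ Subgroup.center (GL (Fin 2) F)))) := by
    rintro F _ _ hFo hF3 ⟨e⟩ hst
    rcases odd_main hS hnil hNC (two_ne_zero_of_odd hFo) e hst with h | h
    · exact Or.inl ⟨F, inferInstance, inferInstance, hF3, h⟩
    · refine Or.inr ⟨F, inferInstance, inferInstance, ?_, hFo, h⟩
      obtain ⟨c, hc⟩ := hFo
      omega
  rcases hSN.cases hnilN heven hNns (Q.strong N) T with hc | ⟨⟨n, hn, hT⟩, hstar⟩
  · -- Zassenhaus case
    by_cases hT8 : 8 ≤ Nat.card (T : Subgroup N)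
    · have htop := ne_top_of_not_solvable hNns T
      have hntop := norm_ne_top hc htop
      have hl := two_le hc htop
      obtain ⟨hZ, hdeg⟩ := isZassenhausGroup hc htop
      have h340 := Q.zass N (N ⧸ normalizer ((T : Subgroup N) : Set N)) hZ
      obtain ⟨g, hg⟩ : ∃ g, g ∉ normalizer ((T : Subgroup N) : Set N) := by
        by_contra h
        push Not at h
        exact hntop (eq_top_iff.2 fun g _ => h g)
      obtain ⟨x, hx, -⟩ := exists_inv hc hntop hg
      obtain ⟨z, hz, hz2⟩ := exists_involution hc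
      have C : Cfg S N T x z := ⟨hS, hnil, hc, hntop, hl, hx, hz, hz2⟩
      rcases C.main with h | h
      · -- `N = G`
        have e : G ≃* N := Subgroup.topEquiv.symm.trans (MulEquiv.subgroupCongr h.symm)
        rcases h340 with ⟨F, hFf, hFt, ⟨f⟩⟩ | hsz
        · refine Or.inl ⟨F, hFf, hFt, ?_, ⟨e.trans f⟩⟩
          apply card_eq_six_or
          rw [← Nat.card_congr f.toEquiv]
          have h1 := Subgroup.card_mul_index (normalizer ((T : Subgroup N) : Set N))
          rw [← h1, Subgroup.index, hdeg]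
          have h2 : Nat.card (T : Subgroup N) ≤
              Nat.card (normalizer ((T : Subgroup N) : Set N)) :=
            Nat.le_of_dvd Nat.card_pos (Subgroup.card_dvd_of_le le_normalizer)
          calc 72 = 8 * 9 := by norm_num
            _ ≤ _ := Nat.mul_le_mul (hT8.trans h2) (by omega)
        · right; right
          obtain ⟨-, m, -, hcard⟩ := hsz
          obtain ⟨F, hFf, hFt, k, hk, hFc, ⟨f⟩⟩ := Q.suz N _ hNns
            (isStronglyEmbedded_of_conf hc hntop) (by rw [hcard]; exact not_three_dvd m)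
          exact ⟨F, hFf, hFt, k, hk, hFc, ⟨e.trans f⟩⟩
      · exact (not_card_le_three hc T.2 hT8 hntop hl h340 h).elim
    · obtain ⟨h60, hT2⟩ := conf_small hNns T hc (by omega)
      obtain ⟨F, hFf, hFt, hFo, hF3, ⟨f⟩⟩ :=
        Q.dih_simple hNns heven hSN hnilN T (le_refl 2) hT2
      have h5 : Fintype.card F = 5 := by
        apply card_eq_five hFo
        rw [← Nat.card_congr f.toEquiv, h60]
      rcases hodd F hFf hFt hFo hF3 ⟨f⟩ (Or.inl (ringEquiv_eq_one_of_card h5)) with h | h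
      · exact Or.inl h
      · exact Or.inr (Or.inl h)
  · -- dihedral case
    obtain ⟨F, hFf, hFt, hFo, hF3, ⟨f⟩⟩ := Q.dih_simple hNns heven hSN hnilN T hn hT
    have hst : Star S N := by
      intro Y hY s t hsY htY hs1 ht1 hss htt hst
      have hYN : Y.subgroupOf N ∈ Part.restr S N := by
        refine ⟨?_, Y, hY, rfl⟩
        intro h
        apply hs1
        have h1 : s ∈ Y.subgroupOf N := mem_subgroupOf.2 hsY
        rwa [h, mem_bot] at h1
      exact hstar _ hYN s (mem_subgroupOf.2 hsY) t (mem_subgroupOf.2 htY)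
        (orderOf_eq_prime (by rw [pow_two]; exact hss) hs1)
        (orderOf_eq_prime (by rw [pow_two]; exact htt) ht1) hst
    rcases hodd F hFf hFt hFo hF3 ⟨f⟩ (Or.inr hst) with h | h
    · exact Or.inl h
    · exact Or.inr (Or.inl h)

/-- **Groups with a nontrivial partition.** -/
theorem classification (Q : Quoted.{u}) {G : Type u} [Group G] [Finite G] (S : Set (Subgroup G))
    (hS2 : ∃ H ∈ S, ∃ K ∈ S, H ≠ K)
    (hS1 : ∀ H ∈ S, H ≠ ⊥) (hpart : ∀ g : G, g ≠ 1 → ∃! H : Subgroup G, H ∈ S ∧ g ∈ H) :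
    Nonempty (G ≃* Equiv.Perm (Fin 4)) ∨
    (∃ p : ℕ, p.Prime ∧ Subgroup.closure {g : G | g ^ p ≠ 1} ≠ ⊤) ∨
    (∃ H : Subgroup G, Cfsg.IsFrobeniusComplement H) ∨
    (∃ (F : Type) (_ : Field F) (_ : Fintype F), 4 ≤ Fintype.card F ∧
        Nonempty (G ≃* Matrix.ProjectiveSpecialLinearGroup (Fin 2) F)) ∨
    (∃ (F : Type) (_ : Field F) (_ : Fintype F), 5 ≤ Fintype.card F ∧ Odd (Fintype.card F) ∧
        Nonempty (G ≃* (GL (Fin 2) F ⧸ Subgroup.center (GL (Fin 2) F)))) ∨
    Cfsg.Lie.IsoSuzuki G := by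
  classical
  obtain ⟨S', hS'⟩ := exists_isPart hS2 hS1 hpart
  have hnt : Nontrivial G := by
    obtain ⟨H, hH, -⟩ := hS2
    obtain ⟨h, -, hh1⟩ := (H.bot_or_exists_ne_one).resolve_left (hS1 H hH)
    exact ⟨h, 1, hh1⟩
  by_cases hsol : ∃ A : Subgroup G, A.Normal ∧ Group.IsSolvable A ∧ A ≠ ⊥
  · obtain ⟨A, hA, hAs, hA1⟩ := hsol
    rcases hS'.concl_of_solvable A hA1 with h | h | h
    · exact Or.inl h
    · exact Or.inr (Or.inl h)
    · exact Or.inr (Or.inr (Or.inl h))
  · push Not at hsol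
    by_cases hself : ∃ X ∈ S', normalizer (X : Set G) ≤ X
    · obtain ⟨X, hX, h⟩ := hself
      exact Or.inr (Or.inr (Or.inl ⟨X, hS'.isFrobeniusComplement hX h⟩))
    · push Not at hself
      have hnil : ∀ X ∈ S', Group.IsNilpotent X := fun X hX => hS'.isNilpotent hX (hself X hX)
      exact Or.inr (Or.inr (Or.inr (hS'.main_nil Q hnil (fun A hA hAs => hsol A hA hAs))))

end Cfsg.Agent.H550.Part
end

-- part: S4248
section
set_option autoImplicit false
open Cfsg

namespace Cfsg.Agent.S4248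

universe u

/-- the quoted classification theorems -/
theorem quoted : Cfsg.Agent.H550.Part.Quoted.{u} where
  odd := fun _ _ _ h => Cfsg.Agent.S0205.result h
  strong := fun _ _ _ H hH => Cfsg.Agent.S1221.result H hH
  zass := fun _ _ _ _ _ _ hZ _ => Cfsg.Agent.S0340.result hZ
  dih := fun _ _ _ _ S n hn hS => Cfsg.Agent.S0483.result S n hn hS
  suz := by
    intro K _ _ _ H hns hH h3
    have hna : ∃ a b : K, a * b ≠ b * a := by
      by_contra hcon
      push Not at hcon
      exact hns (IsSimpleGroup.comm_iff_isSolvable.1 hcon)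
    rcases Cfsg.Agent.StrongEmb.Strong.result hna H hH with
      ⟨F, _, _, -, ⟨e⟩⟩ | h | ⟨F, _, _, m, hm, hF, ⟨e⟩⟩
    · exact absurd (by
        rw [Nat.card_congr e.toEquiv]
        exact Cfsg.Agent.ThreePrime.OrderThree.three_dvd_card_psl F) h3
    · exact h
    · refine absurd ?_ h3
      rw [Nat.card_congr e.toEquiv]
      refine Cfsg.Agent.ThreePrime.OrderThree.three_dvd_card_psu F (2 ^ m) hF ?_
      calc 2 = 2 ^ 1 := (pow_one 2).symm
        _ ≤ 2 ^ m := Nat.pow_le_pow_right (by norm_num) (by omega)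

/-- Let G be a finite group admitting a nontrivial partition: a family of at least two nontrivial subgroups such that every non-identity element of G lies in exactly one member. Then G is isomorphic to the symmetric group of degree 4; or, for some prime p, the Hughes subgroup generated by the elements g with g^p ≠ 1 is proper (G a p-group or a group of Hughes–Thompson type); or G is a Frobenius group; or G is isomorphic to PSL(2, q) with q ≥ 4, to PGL(2, q) with q ≥ 5 odd, or to a Suzuki group. -/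
theorem result {G : Type*} [Group G] [Finite G] (S : Set (Subgroup G)) (hS2 : ∃ H ∈ S, ∃ K ∈ S, H ≠ K)
    (hS1 : ∀ H ∈ S, H ≠ ⊥) (hpart : ∀ g : G, g ≠ 1 → ∃! H : Subgroup G, H ∈ S ∧ g ∈ H) :
    Nonempty (G ≃* Equiv.Perm (Fin 4)) ∨
    (∃ p : ℕ, p.Prime ∧ Subgroup.closure {g : G | g ^ p ≠ 1} ≠ ⊤) ∨
    (∃ H : Subgroup G, Cfsg.IsFrobeniusComplement H) ∨
    (∃ (F : Type) (_ : Field F) (_ : Fintype F), 4 ≤ Fintype.card F ∧
        Nonempty (G ≃* Matrix.ProjectiveSpecialLinearGroup (Fin 2) F)) ∨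
    (∃ (F : Type) (_ : Field F) (_ : Fintype F), 5 ≤ Fintype.card F ∧ Odd (Fintype.card F) ∧
        Nonempty (G ≃* (GL (Fin 2) F ⧸ Subgroup.center (GL (Fin 2) F)))) ∨
    Cfsg.Lie.IsoSuzuki G :=
  Cfsg.Agent.H550.Part.classification quoted S hS2 hS1 hpart

end Cfsg.Agent.S4248
end

private theorem dce_87a49d89646b : _root_.True := by
  try have : _root_.True := by simp only [_root_.Cfsg.Agent.H550.Part.vm.eq_1]
  try have : _root_.True := by simp only [_root_.Cfsg.Agent.H550.Part.vm.congr_simp]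
  try have : _root_.True := by simp only [_root_.Cfsg.Agent.H550.Part.stab.eq_1]
  exact _root_.True.intro
end
end
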