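import Cfsg.Agent.H285.Gen.HNTask
import Cfsg.Agent.H285.Ccp.HNThree_m3
import Cfsg.Agent.H285.Gen.HNW2_mg
import Cfsg.Agent.H285.Gen.HNW3_mg_m3
import Cfsg.Agent.H285.Gen.HNW4b_mg
import Cfsg.Agent.Lib.PackCol
import Cfsg.Agent.H285.Gen.HNChain
import Cfsg.Agent.H285.Gen.HNFive
import Cfsg.Agent.S2082
import Cfsg.Agent.H914.Gs.SpGood_m3
import Cfsg.Agent.H209.PiSpor.Spor
import Cfsg.Agent.H246.TitsInner
import Cfsg.Agent.H867.Gen.FiTwentyTwo_m3
import Cfsg.Agent.H465.Gen.BRow_m3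
import Cfsg.Agent.H861.Gen.CoOne
import Cfsg.Agent.H968.Gen.He_m3
import Cfsg.Agent.H285.Gen.HNW4_m3
import Cfsg.Agent.H861.Gen.Mon
import Cfsg.Agent.KFacts.RgdSL
import Cfsg.Agent.KFacts.RgdRigid
import Cfsg.Agent.H441.GS.Chain
import Cfsg.Agent.OddHalf.SL.Index
import Cfsg.Agent.H406.GS.SLThree_m3
import Cfsg.Agent.Nodes.SimplyLaced
import Cfsg.Agent.H400.TwoExcChev
import Cfsg.Agent.Hexagon.G2End
import Cfsg.Agent.H542.Pi.G2Cases
import Cfsg.Agent.H285.Gen.HNW3_m3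
import Cfsg.Agent.H929.Gs.G2Form
import Cfsg.Agent.H934.RowTwD4
import Cfsg.Agent.H400.TwoExcTwD
import Cfsg.Agent.Cit.HexD4
import Cfsg.Agent.Nodes.RGDTwNode
import Cfsg.Agent.H147.Gen.Outer_m3
import Cfsg.Agent.S2457
import Cfsg.Agent.S2458
import Cfsg.Agent.H705.ComSt
import Cfsg.Agent.H947.Cyc.Ree_m3
import Cfsg.Agent.H947.Cyc.Sz_m3
import Cfsg.Agent.H88.RkRee_m3
import Cfsg.Agent.LieRecognition.ReeFinal
import Cfsg.Agent.S0324
import Cfsg.Statements.S4327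
import Cfsg.Agent.S0000
import Cfsg.Agent.OrdDiv.Table
import Cfsg.Agent.H915.Gs.Fields
import Cfsg.Agent.FastGrp
import Cfsg.Agent.Prune
set_option linter.all false

section
prune_inst 0x7ffffffabfb8bddfffff7e7ffedbdffdb9f99fffe6dff9733fe0a1ef0b9f0b0cabe57bafede010fe0ee3e2bc10b87853fdffffffea6bfc7ffffd5ff45fffee5ff7ffbf8c51d6bc340fbe6ff793f17f8a7f3fffffffffffffffffffffffffffbeffffffffffff

-- part: H285/Gen/HNThree
section
prune_inst 0x44045422000000000012420020006600019000200c01f4a10d46014f3100884001014ea01c0140102e102830002000000050400000000a000000000000000002100000000104000086802007580c00000000000000000000000000041000000000000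
set_option linter.all false
open scoped Cfsg.Agent.FastGrp

-- part: H285/Gen/HNW3b
section
/-!
# S4327, `HN`: words of order 19, part 3b (helper285)
-/

set_option autoImplicit false
set_option maxRecDepth 100000

namespace Cfsg.Agent.H285.Gen.HN

open Cfsg.Agent.Lib.PackMat Cfsg.Agent.Lib.PackMatGroup Cfsg.Agent.Lib.PackMatMul Cfsg.Agent.HN.RepData

set_option Elab.async false in
theorem k_q12 : K3 19 (wd [2, 3]) :=
  task2 (g := [4, 14]) (gi := [15, 4, 4]) (by (rewrite [show @Cfsg.Agent.Lib.PackMatMul.checkS = delta% @Cfsg.Agent.Lib.PackMatMul.checkS from by delta Cfsg.Agent.Lib.PackMatMul.checkS; rfl, Cfsg.Agent.Lib.PackCol.withM_col]; decide +kernel)) (by decide) (by decide)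
set_option Elab.async false in
theorem k_q13 : K3 19 (wd [1, 2, 3]) :=
  task2 (g := [12]) (gi := [13]) (by (rewrite [show @Cfsg.Agent.Lib.PackMatMul.checkS = delta% @Cfsg.Agent.Lib.PackMatMul.checkS from by delta Cfsg.Agent.Lib.PackMatMul.checkS; rfl, Cfsg.Agent.Lib.PackCol.withM_col]; decide +kernel)) (by decide) (by decide)
set_option Elab.async false in
theorem k_q14 : K3 19 (wd [1, 1, 2, 3]) :=
  task2 (g := [14, 5]) (gi := [5, 5, 15]) (by (rewrite [show @Cfsg.Agent.Lib.PackMatMul.checkS = delta% @Cfsg.Agent.Lib.PackMatMul.checkS from by delta Cfsg.Agent.Lib.PackMatMul.checkS; rfl, Cfsg.Agent.Lib.PackCol.withM_col]; decide +kernel)) (by decide) (by decide)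

end Cfsg.Agent.H285.Gen.HN
end

-- part: H285/Gen/HNW6
section
/-!
# S4327, `HN`: words of order 19, part 6 (helper285)
-/

set_option autoImplicit false
set_option maxRecDepth 100000

namespace Cfsg.Agent.H285.Gen.HN

open Cfsg.Agent.Lib.PackMat Cfsg.Agent.Lib.PackMatGroup Cfsg.Agent.Lib.PackMatMul Cfsg.Agent.HN.RepData

set_option Elab.async false in
theorem k_W0 : K3 19 (wd [14, 14, 14, 12, 12]) :=
  task3 (g := [3]) (gi := [3, 3]) (h := [16]) (hi := [16]) (by (rewrite [show @Cfsg.Agent.Lib.PackMatMul.checkS = delta% @Cfsg.Agent.Lib.PackMatMul.checkS from by delta Cfsg.Agent.Lib.PackMatMul.checkS; rfl, Cfsg.Agent.Lib.PackCol.withM_col]; decide +kernel)) (by decide) (by decide) (by decide)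
theorem c_AF : wd [1, 5] ^ 3 ≠ 1 := cube_ne (by decide +kernel) (by decide)
theorem c_CF : wd [3, 5] ^ 3 ≠ 1 := cube_ne (by decide +kernel) (by decide)

end Cfsg.Agent.H285.Gen.HN
end

-- part: H285/Gen/HNThree
section
/-!
# S4327, `HN`: elements of order 3 (helper285)

The elements of order 3 of the Sylow 3-subgroup `P = Q⟨F⟩` are conjugate, up to powers, to `W`, to 16 elements of `Q`, to `W ^ m F`
or to `A C₁ F`, `A C₁² F`.
-/

set_option autoImplicit false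
set_option maxRecDepth 100000
set_option linter.unusedSimpArgs false

namespace Cfsg.Agent.H285.Gen.HN.Three

open Subgroup Cfsg Cfsg.Agent.H839.Rad.Ext Cfsg.Agent.H285.HN3

/-- `x` is not an element of order 3 or three conjugates generate a subgroup of order divisible by 19 -/
def T3 (x : Spor.HN) : Prop := x ^ 3 = 1 → K3 19 x

theorem T3.of_pow {x : Spor.HN} (n : ℕ) (h : T3 (x ^ n)) : T3 x := fun hx =>
  K3.of_pow n (h (by rw [← pow_mul, mul_comm, pow_mul, hx, one_pow]))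

theorem T3.of_conj {x : Spor.HN} (t : Spor.HN) (h : T3 (t * x * t⁻¹)) : T3 x := fun hx =>
  K3.of_conj t (h (by rw [conj_pow, hx, mul_one, mul_inv_cancel]))

/-! ### the words -/

theorem wd_cons (a : ℕ) (w : List ℕ) : wd (a :: w) = gens4.getD a 1 * wd w := rfl
theorem wd_nil : wd [] = 1 := rfl

theorem g0 : gens4.getD 0 1 = W := by
  simp only [gens4, List.cons_append, List.nil_append, List.getD_cons_succ, List.getD_cons_zero]
theorem g1 : gens4.getD 1 1 = A := by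
  simp only [gens4, List.cons_append, List.nil_append, List.getD_cons_succ, List.getD_cons_zero]
theorem g2 : gens4.getD 2 1 = B := by
  simp only [gens4, List.cons_append, List.nil_append, List.getD_cons_succ, List.getD_cons_zero]
theorem g3 : gens4.getD 3 1 = C₁ := by
  simp only [gens4, List.cons_append, List.nil_append, List.getD_cons_succ, List.getD_cons_zero]
theorem g4 : gens4.getD 4 1 = D := by
  simp only [gens4, List.cons_append, List.nil_append, List.getD_cons_succ, List.getD_cons_zero]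
theorem g5 : gens4.getD 5 1 = F := by
  simp only [gens4, List.cons_append, List.nil_append, List.getD_cons_succ, List.getD_cons_zero]

/-! ### codes -/

/-- digits -/
def d0 (v : ℕ) : ℕ := v % 3
/-- digits -/
def d1 (v : ℕ) : ℕ := v / 3 % 3
/-- digits -/
def d2 (v : ℕ) : ℕ := v / 9 % 3
/-- digits -/
def d3 (v : ℕ) : ℕ := v / 27 % 3
/-- code -/
def en (a b c d : ℕ) : ℕ := a % 3 + 3 * (b % 3) + 9 * (c % 3) + 27 * (d % 3)

theorem d0_en (a b c d : ℕ) : d0 (en a b c d) = a % 3 := by unfold d0 en; omega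
theorem d1_en (a b c d : ℕ) : d1 (en a b c d) = b % 3 := by unfold d1 en; (clear * -; solve | lia | omega)
theorem d2_en (a b c d : ℕ) : d2 (en a b c d) = c % 3 := by unfold d2 en; omega
theorem d3_en (a b c d : ℕ) : d3 (en a b c d) = d % 3 := by unfold d3 en; (clear * -; solve | lia | omega)

/-- conjugation by `F` -/
def mF (v : ℕ) : ℕ := en (d0 v) (d0 v + d1 v) (d2 v) (2 * d2 v + d3 v)
/-- square -/
def mS (v : ℕ) : ℕ := en (2 * d0 v) (2 * d1 v) (2 * d2 v) (2 * d3 v)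

/-- the representatives -/
def reps : List ℕ := [1, 3, 9, 10, 11, 12, 13, 14, 15, 16, 22, 27, 28, 29, 30, 33]

theorem chk : ∀ v ∈ List.range 81, v = 0 ∨ v ∈ reps ∨ mF v ∈ reps ∨ mF (mF v) ∈ reps ∨ mS v ∈ reps ∨ mF (mS v) ∈ reps ∨
    mF (mF (mS v)) ∈ reps := by decide +kernel

/-- the element of `Q` -/
noncomputable def nv (v : ℕ) (m : ℤ) : Spor.HN := nf W A B C₁ D (d0 v) (d1 v) (d2 v) (d3 v) m

theorem nf_mod4 {i j u l m i' j' u' l' : ℤ} (h1 : (3 : ℤ) ∣ i - i') (h2 : (3 : ℤ) ∣ j - j') (h3 : (3 : ℤ) ∣ u - u')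
    (h4 : (3 : ℤ) ∣ l - l') : nf W A B C₁ D i j u l m = nf W A B C₁ D i' j' u' l' m := by
  unfold nf
  rw [zpow_eq ext.ha h1, zpow_eq ext.hb h2, zpow_eq ext.hc h3, zpow_eq ext.hd h4]

theorem nf_en (a b c d : ℕ) (m : ℤ) : nf W A B C₁ D a b c d m = nv (en a b c d) m := by
  rw [nv, d0_en, d1_en, d2_en, d3_en]
  apply nf_mod4 <;> (clear * -; omega)

theorem exists_code (i j u l m : ℤ) : ∃ v < 81, nf W A B C₁ D i j u l m = nv v m := by
  refine ⟨en (i % 3).toNat (j % 3).toNat (u % 3).toNat (l % 3).toNat, by unfold en; omega, ?_⟩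
  rw [← nf_en]
  apply nf_mod4 <;> (clear * -; omega)

theorem conj_nf {g : Spor.HN} (hW : g * W = W * g) {a0 a1 a2 a3 a4 b0 b1 b2 b3 b4 c0 c1 c2 c3 c4 e0 e1 e2 e3 e4 : ℤ}
    (hA : g * A = nf W A B C₁ D a0 a1 a2 a3 a4 * g) (hB : g * B = nf W A B C₁ D b0 b1 b2 b3 b4 * g)
    (hC : g * C₁ = nf W A B C₁ D c0 c1 c2 c3 c4 * g) (hD : g * D = nf W A B C₁ D e0 e1 e2 e3 e4 * g)
    (i j u l : ℕ) (m : ℤ) : ∃ m' : ℤ, g * nf W A B C₁ D i j u l m * g⁻¹ =
      nf W A B C₁ D (i * a0 + j * b0 + u * c0 + l * e0) (i * a1 + j * b1 + u * c1 + l * e1)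
        (i * a2 + j * b2 + u * c2 + l * e2) (i * a3 + j * b3 + u * c3 + l * e3) m' := by
  have h0 : g * nf W A B C₁ D i j u l m * g⁻¹ =
      (g * A * g⁻¹) ^ i * (g * B * g⁻¹) ^ j * (g * C₁ * g⁻¹) ^ u * (g * D * g⁻¹) ^ l * (g * W * g⁻¹) ^ m := by
    unfold nf
    simp only [zpow_natCast, conj_pow, conj_zpow]
    group
  obtain ⟨x1, -, h1⟩ := ext.nf_pow a0 a1 a2 a3 a4 i
  obtain ⟨x2, -, h2⟩ := ext.nf_pow b0 b1 b2 b3 b4 j
  obtain ⟨x3, -, h3⟩ := ext.nf_pow c0 c1 c2 c3 c4 u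
  obtain ⟨x4, -, h4⟩ := ext.nf_pow e0 e1 e2 e3 e4 l
  have h5 : W ^ m = nf W A B C₁ D 0 0 0 0 m := by simp [nf]
  rw [h0, hA, hB, hC, hD, hW, mul_inv_cancel_right, mul_inv_cancel_right, mul_inv_cancel_right, mul_inv_cancel_right,
    mul_inv_cancel_right, h1, h2, h3, h4, h5, ext.nf_mul, ext.nf_mul, ext.nf_mul, ext.nf_mul]
  exact ⟨_, nf_eq (by ring) (by ring) (by ring) (by ring) rfl⟩

theorem moveF (v : ℕ) (h : ∀ m, T3 (nv (mF v) m)) : ∀ m, T3 (nv v m) := by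
  intro m
  apply T3.of_conj F
  have hB : F * B = nf W A B C₁ D 0 1 0 0 0 * F := by rw [e_fb]; simp [nf]
  have hD : F * D = nf W A B C₁ D 0 0 0 1 0 * F := by rw [e_fd]; simp [nf]
  obtain ⟨m', hm⟩ := conj_nf e_fw e_fa hB e_fc hD (d0 v) (d1 v) (d2 v) (d3 v) m
  rw [nv, hm]
  have h1 := h m'
  rw [mF, ← nf_en] at h1
  refine Eq.mp ?_ h1
  (with_reducible congr 1)
  exact nf_eq (by push_cast; ring) (by push_cast; ring) (by push_cast; ring) (by push_cast; ring) rfl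

theorem moveS (v : ℕ) (h : ∀ m, T3 (nv (mS v) m)) : ∀ m, T3 (nv v m) := by
  intro m
  apply T3.of_pow 2
  obtain ⟨e, -, h1⟩ := ext.nf_pow (d0 v) (d1 v) (d2 v) (d3 v) m 2
  rw [nv, h1]
  have h3 := h (((2 : ℕ) : ℤ) * m - e * ((d0 v : ℤ) * (d1 v : ℤ) + (d2 v : ℤ) * (d3 v : ℤ)))
  rw [mS, ← nf_en] at h3
  push_cast at h3 ⊢
  exact h3

/-- the central part of a normal form can be changed by conjugation -/
theorem rep_all {r0 r1 r2 r3 : ℤ} (s0 s1 s2 s3 : ℤ) (hω : s0 * r1 - r0 * s1 + s2 * r3 - r2 * s3 = 1)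
    (h : T3 (nf W A B C₁ D r0 r1 r2 r3 0)) (m : ℤ) : T3 (nf W A B C₁ D r0 r1 r2 r3 m) := by
  apply T3.of_conj (nf W A B C₁ D (-m * s0) (-m * s1) (-m * s2) (-m * s3) 0)
  rw [ext.nf_mul_comm, mul_assoc (W ^ _), mul_inv_cancel_right]
  have h1 : -m * s0 * r1 - r0 * (-m * s1) + -m * s2 * r3 - r2 * (-m * s3) = -m := by
    linear_combination (-m) * hω
  rw [h1]
  have h2 : W ^ (-m) = nf W A B C₁ D 0 0 0 0 (-m) := by simp [nf]
  rw [h2, ext.nf_mul]
  have h3 : nf W A B C₁ D (0 + r0) (0 + r1) (0 + r2) (0 + r3) (-m + m - r0 * 0 - r2 * 0) =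
      nf W A B C₁ D r0 r1 r2 r3 0 := by
    congr 1 <;> ring
  rw [h3]
  exact h

theorem rep_of {v : ℕ} (s0 s1 s2 s3 : ℤ) (hω : s0 * (d1 v : ℤ) - (d0 v : ℤ) * s1 + s2 * (d3 v : ℤ) - (d2 v : ℤ) * s3 = 1)
    {x : Spor.HN} (hx : A ^ d0 v * (B ^ d1 v * (C₁ ^ d2 v * D ^ d3 v)) = x) (h : K3 19 x) : ∀ m, T3 (nv v m) := by
  refine rep_all s0 s1 s2 s3 hω fun _ => ?_
  have h1 : nf W A B C₁ D (d0 v) (d1 v) (d2 v) (d3 v) 0 = x := by
    rw [← hx]
    simp only [nf, zpow_natCast, zpow_zero, mul_one, mul_assoc]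
  rw [h1]
  exact h

theorem goodrep : ∀ v ∈ reps, ∀ m, T3 (nv v m) := by
  intro v hv
  simp only [reps, List.mem_cons, List.not_mem_nil, or_false] at hv
  rcases hv with rfl | rfl | rfl | rfl | rfl | rfl | rfl | rfl | rfl | rfl | rfl | rfl | rfl | rfl | rfl | rfl
  · exact rep_of 0 (-1) 0 0 (by decide) (by simp [-List.getD_eq_getElem?_getD, d0, d1, d2, d3, wd_cons, wd_nil, g1]) k_q1
  · exact rep_of 1 0 0 0 (by decide) (by simp [-List.getD_eq_getElem?_getD, d0, d1, d2, d3, wd_cons, wd_nil, g2]) k_q3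
  · exact rep_of 0 0 0 (-1) (by decide) (by simp [-List.getD_eq_getElem?_getD, d0, d1, d2, d3, wd_cons, wd_nil, g3]) k_q9
  · exact rep_of 0 (-1) 0 0 (by decide) (by simp [-List.getD_eq_getElem?_getD, d0, d1, d2, d3, wd_cons, wd_nil, g1, g3]) k_q10
  · exact rep_of 0 0 0 (-1) (by decide) (by simp [-List.getD_eq_getElem?_getD, d0, d1, d2, d3, wd_cons, wd_nil, g1, g3, pow_two, mul_assoc]) k_q11
  · exact rep_of 1 0 0 0 (by decide) (by simp [-List.getD_eq_getElem?_getD, d0, d1, d2, d3, wd_cons, wd_nil, g2, g3]) k_q12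
  · exact rep_of 1 0 0 0 (by decide) (by simp [-List.getD_eq_getElem?_getD, d0, d1, d2, d3, wd_cons, wd_nil, g1, g2, g3]) k_q13
  · exact rep_of 1 0 0 0 (by decide) (by simp [-List.getD_eq_getElem?_getD, d0, d1, d2, d3, wd_cons, wd_nil, g1, g2, g3, pow_two, mul_assoc]) k_q14
  · exact rep_of 0 0 0 (-1) (by decide) (by simp [-List.getD_eq_getElem?_getD, d0, d1, d2, d3, wd_cons, wd_nil, g2, g3, pow_two, mul_assoc]) k_q15
  · exact rep_of 0 (-1) 0 0 (by decide) (by simp [-List.getD_eq_getElem?_getD, d0, d1, d2, d3, wd_cons, wd_nil, g1, g2, g3, pow_two, mul_assoc]) k_q16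
  · exact rep_of 1 0 0 0 (by decide) (by simp [-List.getD_eq_getElem?_getD, d0, d1, d2, d3, wd_cons, wd_nil, g1, g2, g3, pow_two, mul_assoc]) k_q22
  · exact rep_of 0 0 1 0 (by decide) (by simp [-List.getD_eq_getElem?_getD, d0, d1, d2, d3, wd_cons, wd_nil, g4]) k_q27
  · exact rep_of 0 (-1) 0 0 (by decide) (by simp [-List.getD_eq_getElem?_getD, d0, d1, d2, d3, wd_cons, wd_nil, g1, g4]) k_q28
  · exact rep_of 0 0 1 0 (by decide) (by simp [-List.getD_eq_getElem?_getD, d0, d1, d2, d3, wd_cons, wd_nil, g1, g4, pow_two, mul_assoc]) k_q29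
  · exact rep_of 1 0 0 0 (by decide) (by simp [-List.getD_eq_getElem?_getD, d0, d1, d2, d3, wd_cons, wd_nil, g2, g4]) k_q30
  · exact rep_of 0 0 1 0 (by decide) (by simp [-List.getD_eq_getElem?_getD, d0, d1, d2, d3, wd_cons, wd_nil, g2, g4, pow_two, mul_assoc]) k_q33

theorem goodQ (v : ℕ) (hv : v < 81) (h0 : v ≠ 0) : ∀ m, T3 (nv v m) := by
  rcases chk v (List.mem_range.2 hv) with h | h | h | h | h | h | h
  · exact absurd h h0
  · exact goodrep v h
  · exact moveF v (goodrep _ h)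
  · exact moveF v (moveF _ (goodrep _ h))
  · exact moveS v (goodrep _ h)
  · exact moveS v (moveF _ (goodrep _ h))
  · exact moveS v (moveF _ (moveF _ (goodrep _ h)))

theorem goodW : K3 19 W := by
  simpa only [wd_cons, wd_nil, g0, mul_one] using k_W3

/-! ### the coset of `F` -/

theorem cWF : Commute W F := e_fw.symm

theorem t_A (W' : ℤ) : T3 (A * W ^ W' * F) := by
  intro h
  exfalso
  apply c_AF
  have h1 : wd [1, 5] = A * F := by simp only [wd_cons, wd_nil, g1, g5, mul_one]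
  rw [h1]
  have c1 : Commute (A * F) (W ^ W') := by
    refine Commute.zpow_right (Commute.mul_left ?_ cWF.symm) _
    exact (show Commute W A from ext.wa).symm
  have h2 : A * W ^ W' * F = A * F * W ^ W' := by
    rw [mul_assoc, (cWF.zpow_left W').eq, ← mul_assoc]
  rw [h2, c1.mul_pow] at h
  have h4 : (W ^ W') ^ 3 = 1 := by
    rw [← zpow_natCast, ← zpow_mul, mul_comm, zpow_mul, zpow_natCast, e_w3, one_zpow]
  rwa [h4, mul_one] at h

theorem t_C (W' : ℤ) : T3 (C₁ * W ^ W' * F) := by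
  intro h
  exfalso
  apply c_CF
  have h1 : wd [3, 5] = C₁ * F := by simp only [wd_cons, wd_nil, g3, g5, mul_one]
  rw [h1]
  have c1 : Commute (C₁ * F) (W ^ W') := by
    refine Commute.zpow_right (Commute.mul_left ?_ cWF.symm) _
    exact (show Commute W C₁ from ext.wc).symm
  have h2 : C₁ * W ^ W' * F = C₁ * F * W ^ W' := by
    rw [mul_assoc, (cWF.zpow_left W').eq, ← mul_assoc]
  rw [h2, c1.mul_pow] at h
  have h4 : (W ^ W') ^ 3 = 1 := by
    rw [← zpow_natCast, ← zpow_mul, mul_comm, zpow_mul, zpow_natCast, e_w3, one_zpow]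
  rwa [h4, mul_one] at h

/-- conjugation by `B` changes the central part -/
theorem conj_B (u : ℕ) (m n : ℤ) : B ^ n * (A * C₁ ^ u * W ^ m * F) * (B ^ n)⁻¹ = A * C₁ ^ u * W ^ (m - n) * F := by
  have hFB : Commute F (B ^ n) := (show Commute F B from e_fb).zpow_right n
  have hCB : Commute (C₁ ^ u) (B ^ n) := ((show Commute C₁ B from ext.bc.symm).pow_left u).zpow_right n
  have hWB : Commute (W ^ m) (B ^ n) := ((show Commute W B from ext.wb).zpow_left m).zpow_right n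
  have hBA : B ^ n * A = A * B ^ n * W ^ (-n) := by
    have h1 := ext.nf_mul 0 n 0 0 0 1 0 0 0 0
    have h2 : nf W A B C₁ D 0 n 0 0 0 = B ^ n := by simp [nf]
    have h3 : nf W A B C₁ D 1 0 0 0 0 = A := by simp [nf]
    rw [h2, h3] at h1
    rw [h1]
    simp only [nf, _root_.zero_add, _root_.zpow_ofNat, _root_.pow_one, _root_.add_zero, _root_.pow_zero, _root_.mul_one, _root_.one_mul, _root_.zero_sub, _root_.MulZeroClass.mul_zero, _root_.sub_zero, _root_.zpow_neg]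
  have hWBn : Commute (W ^ (-n)) (B ^ n) := ((show Commute W B from ext.wb).zpow_left (-n)).zpow_right n
  calc B ^ n * (A * C₁ ^ u * W ^ m * F) * (B ^ n)⁻¹ = (B ^ n * A) * C₁ ^ u * W ^ m * (F * (B ^ n)⁻¹) := by
        simp only [mul_assoc]
    _ = A * (B ^ n * W ^ (-n)) * C₁ ^ u * W ^ m * ((B ^ n)⁻¹ * F) := by
        rw [hBA, hFB.inv_right.eq]; simp only [mul_assoc]
    _ = A * (W ^ (-n) * (B ^ n * (C₁ ^ u * (W ^ m * (B ^ n)⁻¹)))) * F := by
        rw [← hWBn.eq]; simp only [mul_assoc]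
    _ = A * (W ^ (-n) * (C₁ ^ u * W ^ m)) * F := by
        have h5 : B ^ n * (C₁ ^ u * (W ^ m * (B ^ n)⁻¹)) = C₁ ^ u * W ^ m := by
          rw [hWB.inv_right.eq, ← mul_assoc (C₁ ^ u), hCB.inv_right.eq]
          group
        rw [h5]
    _ = A * C₁ ^ u * W ^ (m - n) * F := by
        have h6 : W ^ (-n) * (C₁ ^ u * W ^ m) = C₁ ^ u * W ^ (m - n) := by
          have h7 : Commute (W ^ (-n)) (C₁ ^ u) := ((show Commute W C₁ from ext.wc).zpow_left (-n)).pow_right u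
          rw [← mul_assoc, h7.eq, mul_assoc, ← zpow_add]
          (with_reducible congr 2)
          ring
        rw [h6]
        simp only [mul_assoc]

theorem t_AC (u : ℕ) (hu : K3 19 (A * C₁ ^ u * F)) (m : ℤ) : T3 (A * C₁ ^ u * W ^ m * F) := by
  apply T3.of_conj (B ^ m)
  rw [conj_B, sub_self, zpow_zero, mul_one]
  exact fun _ => hu

theorem t_AC1 : K3 19 (A * C₁ ^ 1 * F) := by
  have h := k_f11
  simp only [wd_cons, wd_nil, g1, g3, g5, mul_one] at h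
  rw [pow_one, mul_assoc]
  exact h

theorem t_AC2 : K3 19 (A * C₁ ^ 2 * F) := by
  have h := k_f12
  simp only [wd_cons, wd_nil, g1, g3, g5, mul_one] at h
  rw [pow_two]
  simpa only [mul_assoc] using h

theorem t_W (m : ℤ) : T3 (W ^ m * F) := by
  have h1 : W ^ m = W ^ (m % 3) := zpow_eq e_w3 (by omega)
  rw [h1]
  have h2 : m % 3 = 0 ∨ m % 3 = 1 ∨ m % 3 = 2 := by omega
  rcases h2 with h | h | h <;> rw [h]
  · rw [zpow_zero, one_mul]
    intro _
    simpa only [wd_cons, wd_nil, g5, mul_one] using k_f00_0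
  · rw [zpow_one]
    intro _
    simpa only [wd_cons, wd_nil, g0, g5, mul_one] using k_f00_1
  · have h3 : W ^ (2 : ℤ) = W * W := by rw [zpow_ofNat, pow_two]
    rw [h3]
    intro _
    simpa only [wd_cons, wd_nil, g0, g5, mul_one, mul_assoc] using k_f00_2

/-- conjugation by `S` -/
theorem moveSF {i u m : ℤ} (h : ∀ m, T3 (nf W A B C₁ D (-i) 0 (-u) 0 m * F)) : T3 (nf W A B C₁ D i 0 u 0 m * F) := by
  apply T3.of_conj S
  have h0 : nf W A B C₁ D i 0 u 0 m = A ^ i * C₁ ^ u * W ^ m := by simp [nf]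
  have h1 : S * (A ^ i * C₁ ^ u * W ^ m * F) * S⁻¹ = nf W A B C₁ D (-i) 0 (-u) 0 m * F := by
    calc S * (A ^ i * C₁ ^ u * W ^ m * F) * S⁻¹ =
        (S * A * S⁻¹) ^ i * (S * C₁ * S⁻¹) ^ u * (S * W * S⁻¹) ^ m * (S * F * S⁻¹) := by
          rw [conj_zpow, conj_zpow, conj_zpow]; group
      _ = _ := by rw [S_A, S_C, S_W, S_F]; simp only [nf, _root_.inv_zpow', _root_.zpow_neg, _root_.zpow_ofNat, _root_.pow_zero, _root_.mul_one]
  rw [h0, h1]
  exact h m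

theorem good0 (i u m : ℤ) : T3 (nf W A B C₁ D i 0 u 0 m * F) := by
  have key : ∀ i u : ℤ, (3 ∣ i ∧ 3 ∣ u) ∨ (3 ∣ i - 1 ∧ 3 ∣ u) ∨ (3 ∣ i ∧ 3 ∣ u - 1) ∨ (3 ∣ i - 1 ∧ 3 ∣ u - 1) ∨
      (3 ∣ i - 1 ∧ 3 ∣ u - 2) → ∀ m, T3 (nf W A B C₁ D i 0 u 0 m * F) := by
    intro i u h m
    rcases h with ⟨h1, h2⟩ | ⟨h1, h2⟩ | ⟨h1, h2⟩ | ⟨h1, h2⟩ | ⟨h1, h2⟩
    · rw [nf_mod4 (i' := 0) (j' := 0) (u' := 0) (l' := 0) (by simpa using h1) (by simp) (by simpa using h2) (by simp)]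
      have h3 : nf W A B C₁ D 0 0 0 0 m = W ^ m := by simp [nf]
      rw [h3]
      exact t_W m
    · rw [nf_mod4 (i' := 1) (j' := 0) (u' := 0) (l' := 0) h1 (by simp) (by simpa using h2) (by simp)]
      have h3 : nf W A B C₁ D 1 0 0 0 m = A * W ^ m := by simp [nf]
      rw [h3]
      exact t_A m
    · rw [nf_mod4 (i' := 0) (j' := 0) (u' := 1) (l' := 0) (by simpa using h1) (by simp) h2 (by simp)]
      have h3 : nf W A B C₁ D 0 0 1 0 m = C₁ * W ^ m := by simp [nf]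
      rw [h3]
      exact t_C m
    · rw [nf_mod4 (i' := 1) (j' := 0) (u' := 1) (l' := 0) h1 (by simp) h2 (by simp)]
      have h3 : nf W A B C₁ D 1 0 1 0 m = A * C₁ ^ 1 * W ^ m := by simp [nf]
      rw [h3]
      exact t_AC 1 t_AC1 m
    · rw [nf_mod4 (i' := 1) (j' := 0) (u' := 2) (l' := 0) h1 (by simp) h2 (by simp)]
      have h3 : nf W A B C₁ D 1 0 2 0 m = A * C₁ ^ 2 * W ^ m := by
        simp only [nf, zpow_one, zpow_zero, mul_one]
        rfl
      rw [h3]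
      exact t_AC 2 t_AC2 m
  by_cases h : (3 ∣ i ∧ 3 ∣ u) ∨ (3 ∣ i - 1 ∧ 3 ∣ u) ∨ (3 ∣ i ∧ 3 ∣ u - 1) ∨ (3 ∣ i - 1 ∧ 3 ∣ u - 1) ∨
      (3 ∣ i - 1 ∧ 3 ∣ u - 2)
  · exact key i u h m
  · exact moveSF fun m => key (-i) (-u) (by (clear * - h; solve | lia | omega)) m

theorem goodF {q : Spor.HN} (hq : q ∈ ext.Q) : T3 (q * F) := by
  obtain ⟨i, j, u, l, m, rfl⟩ := hq
  have hl : ∀ i u m l : ℤ, T3 (nf W A B C₁ D i 0 u l m * F) := by
    intro i u m l
    have s0 : ∀ l m : ℤ, (3 : ℤ) ∣ l → T3 (nf W A B C₁ D i 0 u l m * F) := by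
      intro l m h
      rw [nf_mod (j' := 0) (l' := 0) (by simp) (by simpa using h)]
      exact good0 i u m
    have s2 : ∀ l m : ℤ, (3 : ℤ) ∣ l - 2 → T3 (nf W A B C₁ D i 0 u l m * F) := by
      intro l m h
      apply T3.of_conj C₁
      obtain ⟨m', hm⟩ := conj_C i 0 u l m
      rw [hm]
      exact s0 _ _ h
    have h3 : (3 : ℤ) ∣ l ∨ (3 : ℤ) ∣ l - 2 ∨ (3 : ℤ) ∣ (l - 2) - 2 := by omega
    rcases h3 with h | h | h
    · exact s0 l m h
    · exact s2 l m h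
    · apply T3.of_conj C₁
      obtain ⟨m', hm⟩ := conj_C i 0 u l m
      rw [hm]
      exact s2 _ _ h
  have s0 : ∀ j m : ℤ, (3 : ℤ) ∣ j → T3 (nf W A B C₁ D i j u l m * F) := by
    intro j m h
    rw [nf_mod (j' := 0) (l' := l) (by simpa using h) (by simp)]
    exact hl i u m l
  have s1 : ∀ j m : ℤ, (3 : ℤ) ∣ j - 1 → T3 (nf W A B C₁ D i j u l m * F) := by
    intro j m h
    apply T3.of_conj A
    obtain ⟨m', hm⟩ := conj_A i j u l m
    rw [hm]
    exact s0 _ _ h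
  have h3 : (3 : ℤ) ∣ j ∨ (3 : ℤ) ∣ j - 1 ∨ (3 : ℤ) ∣ (j - 1) - 1 := by omega
  rcases h3 with h | h | h
  · exact s0 j m h
  · exact s1 j m h
  · apply T3.of_conj A
    obtain ⟨m', hm⟩ := conj_A i j u l m
    rw [hm]
    exact s1 _ _ h

/-! ### all elements -/

theorem good_of_Q {q : Spor.HN} (hq : q ∈ ext.Q) (h1 : q ≠ 1) : T3 q := by
  obtain ⟨i, j, u, l, m, rfl⟩ := hq
  obtain ⟨v, hv, he⟩ := exists_code i j u l m
  rw [he] at h1 ⊢
  by_cases h0 : v = 0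
  · subst h0
    have h2 : nv 0 m = W ^ m := by simp [nv, nf, d0, d1, d2, d3]
    rw [h2] at h1 ⊢
    have h3 : ¬ (3 : ℤ) ∣ m := fun h => h1 (by rw [zpow_eq e_w3 (i := m) (j := 0) (by simpa using h), zpow_zero])
    obtain ⟨t, ht⟩ : ∃ t : ℕ, (3 : ℤ) ∣ m * t - 1 := by
      have h4 : m % 3 = 1 ∨ m % 3 = 2 := by omega
      rcases h4 with h | h
      · exact ⟨1, by push_cast; omega⟩
      · exact ⟨2, by push_cast; omega⟩
    apply T3.of_pow t
    rw [← zpow_natCast, ← zpow_mul, zpow_eq e_w3 (j := 1) ht, zpow_one]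
    exact fun _ => goodW
  · exact goodQ v hv h0 m

theorem good_P {x : Spor.HN} (hx : x ∈ P) (h1 : x ≠ 1) : T3 x := by
  obtain ⟨q, hq, s, rfl⟩ := hx
  have h3 : (3 : ℤ) ∣ s - 0 ∨ (3 : ℤ) ∣ s - 1 ∨ (3 : ℤ) ∣ s - (-1) := by omega
  rcases h3 with h | h | h
  · rw [zpow_eq e_f3 h, zpow_zero, mul_one] at h1 ⊢
    exact good_of_Q hq h1
  · rw [zpow_eq e_f3 h, zpow_one]
    exact goodF hq
  · rw [zpow_eq e_f3 h, zpow_neg_one]
    intro hx3
    apply K3.of_inv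
    have h2 : (q * F⁻¹)⁻¹ = F * q⁻¹ * F⁻¹ * F := by group
    rw [h2]
    refine goodF (F_Q _ (inv_mem hq)) ?_
    rw [← h2, inv_pow, hx3, inv_one]

/-- **the elements of order 3** -/
theorem k3_three (x : Spor.HN) (hx : orderOf x = 3) : K3 19 x := by
  have hx3 : x ^ 3 = 1 := by rw [← hx]; exact pow_orderOf_eq_one x
  obtain ⟨g, hg⟩ := Cfsg.Agent.H478.RadHeis.exists_conj_mem isPGroup_P index_P hx3
  apply K3.of_conj g
  refine good_P hg ?_ (by rw [conj_pow, hx3, mul_one, mul_inv_cancel])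
  intro h
  rw [conj_eq_one_iff] at h
  rw [h, orderOf_one] at hx
  omega

end Cfsg.Agent.H285.Gen.HN.Three
end

private theorem dce_8dc13c2df2a4 : _root_.True := by
  try have : _root_.True := by simp only [_root_.Cfsg.Agent.H285.Gen.HN.Three.d0.eq_1]
  try have : _root_.True := by simp only [_root_.Cfsg.Agent.H285.Gen.HN.gens4.eq_1]
  try have : _root_.True := by simp only [_root_.Cfsg.Agent.H285.Gen.HN.Three.d2.eq_1]
  try have : _root_.True := by simp only [_root_.Cfsg.Agent.H285.Gen.HN.Three.d1.eq_1]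
  try have : _root_.True := by simp only [_root_.Cfsg.Agent.H285.Gen.HN.Three.mS.eq_1]
  try have : _root_.True := by simp only [_root_.Cfsg.Agent.H285.Gen.HN.Three.nv.eq_1]
  try have : _root_.True := by simp only [_root_.Cfsg.Agent.H285.Gen.HN.Three.mF.eq_1]
  try have : _root_.True := by simp only [_root_.Cfsg.Agent.H285.Gen.HN.Three.d3.eq_1]
  try have : _root_.True := by simp only [_root_.Cfsg.Agent.H285.Gen.HN.Three.reps.eq_1]
  exact _root_.True.intro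
end

-- part: H285/Gen/HN
section
set_option linter.all false
open scoped Cfsg.Agent.FastGrp

/-!
# S4327, row `HN` (helper285)
-/

set_option autoImplicit false
set_option maxRecDepth 100000

namespace Cfsg.Agent.H285.Gen.HN

open Subgroup Cfsg Cfsg.Agent.HN Cfsg.Agent.H147.Gen Cfsg.Agent.H940.Eng Cfsg.Agent.H981.InvHN
open Cfsg.Agent.HN.H0Basic (τ)

universe u

theorem g12 : gens4.getD 12 1 = Rep.x := by
  simp only [gens4, gens2, Rep.gens, List.cons_append, List.nil_append, List.getD_cons_succ, List.getD_cons_zero]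
theorem g14 : gens4.getD 14 1 = Rep.y := by
  simp only [gens4, gens2, Rep.gens, List.cons_append, List.nil_append, List.getD_cons_succ, List.getD_cons_zero]
theorem g13 : gens4.getD 13 1 = Rep.x⁻¹ := by
  simp only [gens4, gens2, Rep.gens, List.cons_append, List.nil_append, List.getD_cons_succ, List.getD_cons_zero]
theorem g15 : gens4.getD 15 1 = Rep.y⁻¹ := by
  simp only [gens4, gens2, Rep.gens, List.cons_append, List.nil_append, List.getD_cons_succ, List.getD_cons_zero]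
theorem g16 : gens4.getD 16 1 = Rep.z := by
  simp only [gens4, gens2, Rep.gens, List.cons_append, List.nil_append, List.getD_cons_succ, List.getD_cons_zero]
theorem g18 : gens4.getD 18 1 = Rep.t := by
  simp only [gens4, gens2, Rep.gens, List.cons_append, List.nil_append, List.getD_cons_succ, List.getD_cons_zero]
theorem g19 : gens4.getD 19 1 = Rep.t⁻¹ := by
  simp only [gens4, gens2, Rep.gens, List.cons_append, List.nil_append, List.getD_cons_succ, List.getD_cons_zero]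

theorem k3_tau : K3 19 (Cfsg.Agent.HN.NormalH.ψ τ) := by
  have h := k_tau
  simp only [wd_cons, wd_nil, g12, mul_one] at h
  rw [Cfsg.Agent.H997.OutHN.ψ_τ, pow_two]
  exact h

theorem k3_W0 : K3 19 Cfsg.Agent.HN.XWords.W0 := by
  have h := k_W0
  simp only [wd_cons, wd_nil, g12, g14, mul_one] at h
  exact h

theorem k3_two (x : Spor.HN) (hx : orderOf x = 2) : K3 19 x := by
  rcases Cfsg.Agent.KFacts.HN.Classes.inv_class hx with h | h
  · exact K3.of_isConj h k3_tau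
  · exact K3.of_isConj h k3_W0

theorem ne_one {x : Spor.HN} (h : K3 19 x) : x ≠ 1 := by
  rintro rfl
  obtain ⟨f, hf⟩ := h
  have h1 : (Set.range fun i => f i * (1 : Spor.HN) * (f i)⁻¹) = {1} := by
    ext y
    constructor
    · rintro ⟨i, rfl⟩
      simp
    · rintro rfl
      exact ⟨0, by simp⟩
  rw [h1, closure_singleton_one, card_bot] at hf
  exact absurd hf (by decide)

theorem k3_seven (x : Spor.HN) (hx : orderOf x = 7) : K3 19 x := by
  have : Fact (Nat.Prime 7) := ⟨by norm_num⟩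
  have h := k_g7
  simp only [wd_cons, wd_nil, g14, g15, g16, g18, mul_one] at h
  exact k3_of_one (by norm_num) (by rw [Cfsg.Agent.H981.InvHN.card_HN]; norm_num)
    (orderOf_eq_prime T4.r_g7 (ne_one h)) h hx

theorem k3_eleven (x : Spor.HN) (hx : orderOf x = 11) : K3 19 x := by
  have : Fact (Nat.Prime 11) := ⟨by norm_num⟩
  have h := k_g11
  simp only [wd_cons, wd_nil, g12, g13, g14, g15, g16, g19, mul_one] at h
  exact k3_of_one (by norm_num) (by rw [Cfsg.Agent.H981.InvHN.card_HN]; norm_num)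
    (orderOf_eq_prime T4.r_g11 (ne_one h)) h hx

theorem k3_all (x : Spor.HN) (hx : (orderOf x).Prime) : K3 19 x := by
  have h1 : orderOf x ∣ 273030912000000 := by rw [← Cfsg.Agent.H981.InvHN.card_HN]; exact orderOf_dvd_natCard x
  rcases hx.eq_two_or_odd with h2 | h2
  · exact k3_two x h2
  by_cases h3 : orderOf x = 3
  · exact Three.k3_three x h3
  have h5 : 5 ≤ orderOf x := by
    have := hx.two_le
    by_contra h4
    have : orderOf x = 4 := by omega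
    omega
  rcases Cfsg.Agent.H981.InvHN.prime_cases hx h5 h1 with h | h | h | h
  · exact k3_five x h
  · exact k3_seven x h
  · exact k3_eleven x h
  · exact K3.self h

/-- **Row `HN`** -/
theorem gen_HN {K : Type u} [Group K] (B : Cfsg.Agent.H940.Eng.Base) (h : Spor.IsoHN K) : Gen11 K := by
  obtain ⟨e⟩ := h
  exact Gen11.congr e.symm (gen11_of_k3 (ctx B) os (orders B) chain le_rfl k3_all)

end Cfsg.Agent.H285.Gen.HN
end

-- part: H147/Gen/All
section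
set_option linter.all false

/-!
# S4327: assembly of the sporadic rows (helper147)
-/

set_option autoImplicit false

namespace Cfsg.Agent.H147.Gen.All

open Cfsg Subgroup Cfsg.Agent.H940.Eng Cfsg.Agent.H147.Gen

universe u

/-- outer automorphisms of prime order have order two -/
def H2 (K : Type u) [Group K] : Prop :=
  ∀ x : MulAut K, (orderOf x).Prime → x ∉ (MulAut.conj : K →* MulAut K).range → orderOf x = 2

variable {K : Type u} [Group K]

theorem center_eq [Finite K] [IsSimpleGroup K] (h : IsSporadicGroup K ∨ Lie.IsoTits K) : center K = ⊥ :=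
  Cfsg.Agent.H209.PiSpor.center_of_simple (Cfsg.Agent.H516.not_comm_of_spor h)

theorem h2_of [Finite K] (h : IsSporadicGroup K ∨ Lie.IsoTits K) : H2 K :=
  fun _ hx hxo => Cfsg.Agent.H209.PiSpor.out_two (Cfsg.Agent.H209.PiSpor.index_dvd_two h) hx hxo

theorem tits (B : Base) [Finite K] [IsSimpleGroup K] (h : Lie.IsoTits K) : Gen11 K :=
  Tits.gen_Tits B (center_eq (Or.inr h)) (h2_of (Or.inr h)) (Cfsg.Agent.H246.TitsInner.inner_iso h) h

theorem spor (B : Base) [Finite K] [IsSimpleGroup K] (h : IsSporadicGroup K) : Gen11 K := by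
  have hc := center_eq (Or.inl h)
  have h2 := h2_of (Or.inl h)
  rcases h with h | h | h | h | h | h | h | h | h | h | h | h | h | h | h | h | h | h | h | h | h | h | h | h | h | h
  · exact Small.gen_M11 h
  · exact Small.gen_M12 h
  · exact Small.gen_M22 h
  · exact Small.gen_M23 h
  · exact Small2.gen_M24 B hc (Cfsg.Agent.H209.PiSpor.inner_M24 h) h
  · exact Small.gen_J1 h
  · exact Small.gen_J2 h
  · exact Small2.gen_J3 B hc h
  · exact Cfsg.Agent.H399.Gen.RowJ4.gen_J4 B hc (Cfsg.Agent.H209.PiSpor.inner_J4 h) h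
  · exact Cfsg.Agent.H861.Gen.gen_Co1 B h
  · exact Cfsg.Agent.H966.Gen.CoTwoFin.gen_Co2 B hc (Cfsg.Agent.H209.PiSpor.inner_Co2 h) h
  · exact Cfsg.Agent.H867.Gen.CoThree.gen_co3 hc (Cfsg.Agent.H209.PiSpor.inner_Co3 h) h
  · exact Cfsg.Agent.H966.Gen.McL.gen_mcl B h h2
  · exact Cfsg.Agent.H966.Gen.HS.gen_hs B h h2
  · exact Cfsg.Agent.H867.Gen.Suz.gen_suz h
  · exact Cfsg.Agent.H968.Gen.He.gen_he B h
  · exact Cfsg.Agent.H444.GenRu.gen_Ru B hc (Cfsg.Agent.H209.PiSpor.inner_Ru h) h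
  · exact Cfsg.Agent.H210.GS.ON.gen_ON B h hc h2
  · exact Cfsg.Agent.H4.Gen.Ly.gen_Ly B h
  · exact Cfsg.Agent.H867.Gen.FiTwentyTwo.gen_fi22 h
  · exact Cfsg.Agent.H465.Gen.FiTwentyThree.gen_fi23 h
  · exact Cfsg.Agent.H465.Gen.FiTwentyFour.gen_fi24 h
  · exact Cfsg.Agent.H285.Gen.HN.gen_HN B h
  · exact Cfsg.Agent.H272.Gen.Th.gen_Th B h
  · exact Cfsg.Agent.H465.Gen.BRow.gen_b h
  · exact Cfsg.Agent.H861.Gen.gen_M B h

end Cfsg.Agent.H147.Gen.All
end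

-- part: S4327
section
prune_inst 0x1000000000000000000000000000000000000008800000000200060000000000000000000100000000000000000000000000000000000000000000000000000002021000a000000000000000000000000000000000000000000000000000000000000
set_option linter.all false
open scoped Cfsg.Agent.FastGrp

-- part: H127/Gx/Step
section
/-!
# S4327, exceptional groups: single and double steps (helper127, H2)

`R : RGD cs h p T n X`, simply laced, `a (X (-r)) = X r` (`Sw`), all roots conjugate to `r`.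

* `exists_place` : some `g` maps `X (-r)`, `X r` to `X ρ`, `X (-ρ)`;
* `grow_v` : `X ρ ≤ J`, `v` normalising `X ρ`: one more conjugate adds `v X (-ρ) v⁻¹`;
* `single` : `⟨f, ρ⟩ = 1`: one more conjugate adds `X (f - ρ)`;
* `double` : `⟨f₁, ρ⟩ = ⟨f₂, ρ⟩ = 1`, `⟨f₁, f₂⟩ = 0`, separating roots `k₁`, `k₂`: one more conjugate adds
  `X (f₁ - ρ)` and `X (f₂ - ρ)`;
* `add_le` : closure.
-/

set_option autoImplicit false
set_option linter.unusedSectionVars false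

namespace Cfsg.Agent.H127.Gx

open CoxeterSystem Cfsg.Agent.ChevalleyStructure.CoxeterGeom Cfsg.Agent.Tits.Roots Cfsg.Agent.Tits.Core
  Cfsg.Agent.Tits.Exchange Cfsg.Agent.Nodes.Reps Cfsg.Agent.Nodes.BNOf Cfsg.Agent.Nodes.StabComb
  Cfsg.Agent.Nodes.Bruhat Cfsg.Agent.Nodes.OppDec Cfsg.Agent.Nodes.PosPair Cfsg.Agent.Nodes.Coroot
  Cfsg.Agent.KFacts.RgdSL
open Cfsg.Agent.H915.Gs (Reach)
open scoped commutatorElement

variable {I W Y : Type*} [Fintype I] [DecidableEq I] [Group W] [Group Y] {M : CoxeterMatrix I}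
  {cs : CoxeterSystem M W} {A : I → I → ℤ} {h : IsCartan M A} {p : ℕ} {T : Subgroup Y} {n : I → Y}
  {X : (I → ℤ) → Subgroup Y}

/-- `a` maps `X (-r)` onto `X r` -/
def Sw (X : (I → ℤ) → Subgroup Y) (a : MulAut Y) (r : I → ℤ) : Prop := ∀ x, a x ∈ X r ↔ x ∈ X (-r)

omit [Fintype I] [DecidableEq I] in
theorem Sw.im {a : MulAut Y} {r : I → ℤ} (ha : Sw X a r) : Cfsg.Agent.H915.Gs.im a (X (-r)) = X r := by
  ext y
  constructor
  · rintro ⟨x, hx, rfl⟩
    exact (ha x).2 hx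
  · intro hy
    refine ⟨a.symm y, (ha _).1 ?_, ?_⟩
    · rwa [MulEquiv.apply_symm_apply]
    · exact a.apply_symm_apply y

section

variable (R : RGD cs h p T n X)

include R

theorem exists_place {r ρ : I → ℤ} (hr : IsRoot cs h r) (hρ : ∃ w, rep cs h w r = ρ) :
    ∃ g : Y, cj g (X (-r)) = X ρ ∧ cj g (X r) = X (-ρ) := by
  obtain ⟨w, rfl⟩ := hρ
  obtain ⟨w₁, i, rfl⟩ := hr
  -- the reflection in `r`
  obtain ⟨g, hg⟩ := exists_rp cs R.nsys (w * (w₁ * cs.simple i * w₁⁻¹))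
  have h1 : rep cs h (w * (w₁ * cs.simple i * w₁⁻¹)) (rep cs h w₁ (sr i)) = -rep cs h w (rep cs h w₁ (sr i)) := by
    rw [rep_mul_apply, rep_mul_apply, rep_mul_apply, rep_inv_apply, rep_simple_sr, map_neg, map_neg]
  have hroot : IsRoot cs h (rep cs h w₁ (sr i)) := ⟨w₁, i, rfl⟩
  refine ⟨g, ?_, ?_⟩
  · rw [R.conj_rp hg hroot.neg, map_neg, h1, neg_neg]
  · rw [R.conj_rp hg hroot, h1]

/-- **one more conjugate, opposite root groups in general position** -/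
theorem grow_v {a : MulAut Y} {r ρ : I → ℤ} (hr : IsRoot cs h r) (ha : Sw X a r) (hρ : ∃ w, rep cs h w r = ρ)
    {k : ℕ} {J : Subgroup Y} (hJ : Reach a k J) (hXρ : X ρ ≤ J) {v : Y} (hv : cj v (X ρ) = X ρ) :
    Reach a (k + 1) (J ⊔ cj v (X (-ρ))) := by
  obtain ⟨g, h1, h2⟩ := exists_place R hr hρ
  have h3 := hJ.grow (J₀ := X (-r)) (g := v * g) (by
    change cj (v * g) (X (-r)) ≤ J
    rw [cj_mul, h1, hv]
    exact hXρ)
  rw [ha.im] at h3
  have e : Cfsg.Agent.H915.Gs.cj (v * g) (X r) = cj v (X (-ρ)) := by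
    change cj (v * g) (X r) = _
    rw [cj_mul, h2]
  rwa [e] at h3

theorem add_le [Finite W] (hs : SL cs h) {J : Subgroup Y} {x y : I → ℤ} (hx : IsRoot cs h x) (hy : IsRoot cs h y)
    (hc : cpr cs h x y = -1) (hxJ : X x ≤ J) (hyJ : X y ≤ J) : X (x + y) ≤ J := by
  have hA := hs.a2 hx hy hc
  intro w hw
  obtain ⟨u, hu, hu1⟩ : ∃ a ∈ X x, a ≠ 1 := by
    have := X_ne_bot R hx
    rw [Subgroup.ne_bot_iff_exists_ne_one] at this
    obtain ⟨⟨a, ha⟩, h1⟩ := this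
    exact ⟨a, ha, fun h2 => h1 (Subtype.ext h2)⟩
  obtain ⟨v, hv, rfl⟩ := hA.comm_surj R hu hu1 hw
  rw [commutatorElement_def]
  exact mul_mem (mul_mem (mul_mem (hxJ hu) (hyJ hv)) (inv_mem (hxJ hu))) (inv_mem (hyJ hv))

/-- elements of root groups at an angle of at most 90 degrees commute -/
theorem comm_of_nonneg [Finite W] (hs : SL cs h) {x y : I → ℤ} (hx : IsRoot cs h x) (hy : IsRoot cs h y)
    (hc : 0 ≤ cpr cs h x y) (hc2 : cpr cs h x y ≤ 1) {u v : Y} (hu : u ∈ X x) (hv : v ∈ X y) : u * v = v * u := by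
  have hxy : x ≠ y := by
    rintro rfl
    rw [cpr_self cs h hx] at hc2; omega
  have hxy' : x ≠ -y := by
    rintro rfl
    rw [cpr_neg_left _ hy, cpr_self cs h hy] at hc; omega
  exact comm_of_not_btwn R hx hy hxy hxy' (hs.not_btwn hx hy hxy hc) hu hv

/-- elements commuting with `X ρ` normalise it -/
theorem cj_of_comm {ρ : I → ℤ} {v : Y} (hv : ∀ x ∈ X ρ, v * x = x * v) : cj v (X ρ) = X ρ := by
  ext y
  rw [mem_cj]
  have h1 : ∀ x ∈ X ρ, v⁻¹ * x * v = x := fun x hx => by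
    rw [mul_assoc, ← hv x hx]; group
  constructor
  · intro hy
    have h2 := hv _ hy
    have h3 : y = v⁻¹ * y * v := by
      calc y = (v * (v⁻¹ * y * v)) * v⁻¹ := by group
        _ = ((v⁻¹ * y * v) * v) * v⁻¹ := by rw [h2]
        _ = _ := by group
    rw [h3]
    exact hy
  · intro hy
    rw [h1 y hy]
    exact hy

/-- **single step** -/
theorem single [Finite W] (hs : SL cs h) {a : MulAut Y} {r ρ f : I → ℤ} (hr : IsRoot cs h r) (ha : Sw X a r)
    (hall : ∀ x, IsRoot cs h x → ∃ w, rep cs h w r = x) {k : ℕ} {J : Subgroup Y} (hJ : Reach a k J)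
    (hρ : IsRoot cs h ρ) (hf : IsRoot cs h f) (c : cpr cs h f ρ = 1) (hXρ : X ρ ≤ J) (hXρ' : X (-ρ) ≤ J) :
    ∃ J' : Subgroup Y, J ≤ J' ∧ Reach a (k + 1) J' ∧ X (f - ρ) ≤ J' := by
  obtain ⟨u, hu, hu1⟩ : ∃ a ∈ X f, a ≠ 1 := by
    have := X_ne_bot R hf
    rw [Subgroup.ne_bot_iff_exists_ne_one] at this
    obtain ⟨⟨a, ha⟩, h1⟩ := this
    exact ⟨a, ha, fun h2 => h1 (Subtype.ext h2)⟩
  have h1 := grow_v R hr ha (hall ρ hρ) hJ hXρ (v := u)
    (cj_of_comm R fun x hx => comm_of_nonneg R hs hf hρ (by omega) (by omega) hu hx)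
  refine ⟨_, le_sup_left, h1, ?_⟩
  have c' : cpr cs h f (-ρ) = -1 := by rw [cpr_neg_right cs h f hρ, c]
  have hA := hs.a2 hf hρ.neg c'
  intro w hw
  rw [sub_eq_add_neg] at hw
  obtain ⟨x, hx, rfl⟩ := hA.comm_surj R hu hu1 hw
  rw [commutatorElement_def]
  exact mul_mem (Subgroup.mem_sup_right (conj_mem_cj.2 hx)) (Subgroup.mem_sup_left (inv_mem (hXρ' hx)))

/-- **double step** -/
theorem double [Finite W] (hs : SL cs h) {a : MulAut Y} {r ρ f₁ f₂ k₁ k₂ : I → ℤ} (hr : IsRoot cs h r)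
    (ha : Sw X a r) (hall : ∀ x, IsRoot cs h x → ∃ w, rep cs h w r = x) {k : ℕ} {J : Subgroup Y} (hJ : Reach a k J)
    (hρ : IsRoot cs h ρ) (hf₁ : IsRoot cs h f₁) (hf₂ : IsRoot cs h f₂) (hk₁ : IsRoot cs h k₁) (hk₂ : IsRoot cs h k₂)
    (c₁ : cpr cs h f₁ ρ = 1) (c₂ : cpr cs h f₂ ρ = 1) (c₁₂ : cpr cs h f₁ f₂ = 0)
    (hXρ : X ρ ≤ J) (hXρ' : X (-ρ) ≤ J) (hXk₁ : X k₁ ≤ J) (hXk₁' : X (-k₁) ≤ J) (hXk₂ : X k₂ ≤ J)
    (hXk₂' : X (-k₂) ≤ J)
    (d₁ : cpr cs h k₁ f₁ - cpr cs h k₁ ρ = -1)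
    (d₂ : cpr cs h k₁ f₂ - cpr cs h k₁ ρ = 0 ∨ cpr cs h k₁ f₂ - cpr cs h k₁ ρ = 1)
    (d₃ : cpr cs h k₁ f₁ + cpr cs h k₁ f₂ - cpr cs h k₁ ρ = 0)
    (d₄ : cpr cs h k₂ f₂ - cpr cs h k₂ ρ = -1)
    (d₅ : cpr cs h k₂ f₁ + cpr cs h k₂ f₂ - cpr cs h k₂ ρ = 0 ∨
      cpr cs h k₂ f₁ + cpr cs h k₂ f₂ - cpr cs h k₂ ρ = 1) :
    ∃ J' : Subgroup Y, J ≤ J' ∧ Reach a (k + 1) J' ∧ X (f₁ - ρ) ≤ J' ∧ X (f₂ - ρ) ≤ J' := by
  have hne : ∀ {z : I → ℤ}, IsRoot cs h z → ∃ a ∈ X z, a ≠ 1 := fun hz => by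
    have := X_ne_bot R hz
    rw [Subgroup.ne_bot_iff_exists_ne_one] at this
    obtain ⟨⟨a, ha⟩, h1⟩ := this
    exact ⟨a, ha, fun h2 => h1 (Subtype.ext h2)⟩
  -- pairings
  have sy : ∀ {x y : I → ℤ}, IsRoot cs h x → IsRoot cs h y → cpr cs h x y = cpr cs h y x := fun hx hy => hs _ _ hx hy
  have he₁ : IsRoot cs h (f₁ - ρ) := isRoot_sub hf₁ hρ c₁
  have he₂ : IsRoot cs h (f₂ - ρ) := isRoot_sub hf₂ hρ c₂
  have addl : ∀ {x y z : I → ℤ}, IsRoot cs h z → cpr cs h (x + y) z = cpr cs h x z + cpr cs h y z :=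
    fun hz => cpr_add cs h _ _ hz
  have subl : ∀ {x y z : I → ℤ}, IsRoot cs h z → cpr cs h (x - y) z = cpr cs h x z - cpr cs h y z := fun hz => by
    rw [sub_eq_add_neg, cpr_add cs h _ _ hz, cpr_neg_left _ hz, sub_eq_add_neg]
  have s1 := cpr_self cs h hf₁
  have s2 := cpr_self cs h hf₂
  have s3 := cpr_self cs h hρ
  have t1 := sy hf₁ hρ
  have t2 := sy hf₂ hρ
  have t3 := sy hf₁ hf₂
  have cf₁e₂ : cpr cs h (f₂ - ρ) f₁ = -1 := by rw [subl hf₁]; omega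
  have cf₁e₂' : cpr cs h f₁ (f₂ - ρ) = -1 := by rw [sy hf₁ he₂, cf₁e₂]
  have hg : IsRoot cs h (f₁ + (f₂ - ρ)) := isRoot_add hf₁ he₂ cf₁e₂'
  obtain ⟨u₁, hu₁, hu₁1⟩ := hne hf₁
  obtain ⟨u₂, hu₂, hu₂1⟩ := hne hf₂
  have h1 := grow_v R hr ha (hall ρ hρ) hJ hXρ (v := u₁ * u₂)
    (cj_of_comm R fun x hx => by
      have e1 := comm_of_nonneg R hs hf₁ hρ (by omega) (by omega) hu₁ hx
      have e2 := comm_of_nonneg R hs hf₂ hρ (by omega) (by omega) hu₂ hx
      rw [mul_assoc, e2, ← mul_assoc, e1, mul_assoc])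
  have hJJ' : J ≤ J ⊔ cj (u₁ * u₂) (X (-ρ)) := le_sup_left
  refine ⟨J ⊔ cj (u₁ * u₂) (X (-ρ)), hJJ', h1, ?_⟩
  set J' := J ⊔ cj (u₁ * u₂) (X (-ρ)) with hJ'
  -- the elements `c d e`
  have hA₁ := hs.a2 hf₁ hρ.neg (by rw [cpr_neg_right cs h f₁ hρ, c₁])
  have hA₂ := hs.a2 hf₂ hρ.neg (by rw [cpr_neg_right cs h f₂ hρ, c₂])
  have hA₁₂ := hs.a2 hf₁ he₂ cf₁e₂'
  have hcde : ∀ x ∈ X (-ρ), ⁅u₁, ⁅u₂, x⁆⁆ * ⁅u₂, x⁆ * ⁅u₁, x⁆ ∈ J' := by
    intro x hx
    have e : ⁅u₁, ⁅u₂, x⁆⁆ * ⁅u₂, x⁆ * ⁅u₁, x⁆ = (u₁ * u₂) * x * (u₁ * u₂)⁻¹ * x⁻¹ := by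
      simp only [commutatorElement_def]; group
    rw [e]
    exact mul_mem (Subgroup.mem_sup_right (conj_mem_cj.2 hx)) (hJJ' (inv_mem (hXρ' hx)))
  have hd : ∀ x ∈ X (-ρ), ⁅u₂, x⁆ ∈ X (f₂ - ρ) := fun x hx => by
    have := hA₂.comm_mem R hu₂ hx
    rwa [← sub_eq_add_neg] at this
  have he : ∀ x ∈ X (-ρ), ⁅u₁, x⁆ ∈ X (f₁ - ρ) := fun x hx => by
    have := hA₁.comm_mem R hu₁ hx
    rwa [← sub_eq_add_neg] at this
  have hc : ∀ x ∈ X (-ρ), ⁅u₁, ⁅u₂, x⁆⁆ ∈ X (f₁ + (f₂ - ρ)) := fun x hx => hA₁₂.comm_mem R hu₁ (hd x hx)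
  -- the pairings with `k₁`
  have q₁ : cpr cs h k₁ (f₁ - ρ) = -1 := by
    rw [sy hk₁ he₁, subl hk₁, sy hf₁ hk₁, sy hρ hk₁]; exact d₁
  have q₂ : cpr cs h k₁ (f₂ - ρ) = cpr cs h k₁ f₂ - cpr cs h k₁ ρ := by
    rw [sy hk₁ he₂, subl hk₁, sy hf₂ hk₁, sy hρ hk₁]
  have q₃ : cpr cs h k₁ (f₁ + (f₂ - ρ)) = 0 := by
    rw [sy hk₁ hg, addl hk₁, subl hk₁, sy hf₁ hk₁, sy hf₂ hk₁, sy hρ hk₁]; omega
  have q₄ : cpr cs h k₂ (f₂ - ρ) = -1 := by
    rw [sy hk₂ he₂, subl hk₂, sy hf₂ hk₂, sy hρ hk₂]; exact d₄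
  have q₅ : cpr cs h k₂ (f₁ + (f₂ - ρ)) = cpr cs h k₂ f₁ + cpr cs h k₂ f₂ - cpr cs h k₂ ρ := by
    rw [sy hk₂ hg, addl hk₂, subl hk₂, sy hf₁ hk₂, sy hf₂ hk₂, sy hρ hk₂]; omega
  have hm₁ : IsRoot cs h (k₁ + (f₁ - ρ)) := isRoot_add hk₁ he₁ q₁
  have hm₂ : IsRoot cs h (k₂ + (f₂ - ρ)) := isRoot_add hk₂ he₂ q₄
  have r₁ : cpr cs h (k₁ + (f₁ - ρ)) (f₂ - ρ) = cpr cs h k₁ f₂ - cpr cs h k₁ ρ := by
    rw [addl he₂, q₂, sy he₁ he₂, subl he₁, sy hf₂ he₁, sy hρ he₁, subl hf₂, subl hρ]; omega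
  have r₂ : cpr cs h (k₁ + (f₁ - ρ)) (f₁ + (f₂ - ρ)) = 1 := by
    rw [addl hg, q₃, sy he₁ hg, addl he₁, subl he₁, sy hf₁ he₁, sy hf₂ he₁, sy hρ he₁, subl hf₁, subl hf₂, subl hρ]
    omega
  have r₃ : cpr cs h (k₂ + (f₂ - ρ)) (f₁ + (f₂ - ρ)) = cpr cs h k₂ f₁ + cpr cs h k₂ f₂ - cpr cs h k₂ ρ + 1 := by
    rw [addl hg, q₅, sy he₂ hg, addl he₂, subl he₂, sy hf₁ he₂, sy hf₂ he₂, sy hρ he₂, subl hf₁, subl hf₂, subl hρ]
    omega
  -- first isolation
  have hX₁ : X (k₁ + (f₁ - ρ)) ≤ J' := by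
    obtain ⟨x, hx, hx1⟩ := hne hρ.neg
    have he1 : ⁅u₁, x⁆ ≠ 1 := hA₁.comm_ne_one R hu₁ hu₁1 hx hx1
    have hB := hs.a2 he₁ hk₁ (by rw [sy he₁ hk₁, q₁])
    intro w hw
    rw [add_comm] at hw
    obtain ⟨y, hy, rfl⟩ := hB.comm_surj R (he x hx) he1 hw
    have hyJ : y ∈ J' := hJJ' (hXk₁ hy)
    have hw' : ⁅⁅u₁, x⁆, y⁆ ∈ X (k₁ + (f₁ - ρ)) := by rwa [add_comm]
    have k1 : y * ⁅u₂, x⁆ = ⁅u₂, x⁆ * y :=
      comm_of_nonneg R hs hk₁ he₂ (by rw [q₂]; (clear * - d₂; omega)) (by rw [q₂]; (clear * - d₂; omega)) hy (hd x hx)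
    have k2 : y * ⁅u₁, ⁅u₂, x⁆⁆ = ⁅u₁, ⁅u₂, x⁆⁆ * y :=
      comm_of_nonneg R hs hk₁ hg (by rw [q₃]) (by rw [q₃]; omega) hy (hc x hx)
    have k3 : ⁅⁅u₁, x⁆, y⁆ * ⁅u₂, x⁆ = ⁅u₂, x⁆ * ⁅⁅u₁, x⁆, y⁆ :=
      comm_of_nonneg R hs hm₁ he₂ (by rw [r₁]; (clear * - d₂; omega)) (by rw [r₁]; (clear * - d₂; omega)) hw' (hd x hx)
    have k4 : ⁅⁅u₁, x⁆, y⁆ * ⁅u₁, ⁅u₂, x⁆⁆ = ⁅u₁, ⁅u₂, x⁆⁆ * ⁅⁅u₁, x⁆, y⁆ :=
      comm_of_nonneg R hs hm₁ hg (by rw [r₂]; omega) (by rw [r₂]) hw' (hc x hx)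
    have hin := hcde x hx
    have h5 : ⁅⁅u₁, ⁅u₂, x⁆⁆ * ⁅u₂, x⁆ * ⁅u₁, x⁆, y⁆ ∈ J' := by
      rw [commutatorElement_def]
      exact mul_mem (mul_mem (mul_mem hin hyJ) (inv_mem hin)) (inv_mem hyJ)
    have e : ⁅⁅u₁, ⁅u₂, x⁆⁆ * ⁅u₂, x⁆ * ⁅u₁, x⁆, y⁆ = ⁅⁅u₁, x⁆, y⁆ := by
      generalize ⁅u₁, ⁅u₂, x⁆⁆ = c at *
      generalize ⁅u₂, x⁆ = d at *
      generalize ⁅u₁, x⁆ = e at *
      have e1 : ⁅c * d * e, y⁆ = c * d * ⁅e, y⁆ * (y * (c * d) * y⁻¹)⁻¹ := by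
        simp only [commutatorElement_def]; group
      have e2 : y * (c * d) * y⁻¹ = c * d := by
        calc y * (c * d) * y⁻¹ = (y * c) * d * y⁻¹ := by group
          _ = c * (y * d) * y⁻¹ := by rw [k2]; group
          _ = c * d := by rw [k1]; group
      have e3 : c * d * ⁅e, y⁆ = ⁅e, y⁆ * (c * d) := by
        rw [mul_assoc, ← k3, ← mul_assoc, ← k4, mul_assoc]
      rw [e1, e2, e3, mul_inv_cancel_right]
    rwa [e] at h5
  have hXe₁ : X (f₁ - ρ) ≤ J' := by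
    have h2 := add_le R hs hm₁ hk₁.neg (by
      rw [cpr_neg_right cs h _ hk₁, addl hk₁, cpr_self cs h hk₁, sy he₁ hk₁, q₁]; norm_num) hX₁ (hXk₁'.trans hJJ')
    have e : k₁ + (f₁ - ρ) + -k₁ = f₁ - ρ := by abel
    rwa [e] at h2
  -- second isolation
  have hX₂ : X (k₂ + (f₂ - ρ)) ≤ J' := by
    obtain ⟨x, hx, hx1⟩ := hne hρ.neg
    have he1 : ⁅u₂, x⁆ ≠ 1 := hA₂.comm_ne_one R hu₂ hu₂1 hx hx1
    have hB := hs.a2 he₂ hk₂ (by rw [sy he₂ hk₂, q₄])
    intro w hw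
    rw [add_comm] at hw
    obtain ⟨y, hy, rfl⟩ := hB.comm_surj R (hd x hx) he1 hw
    have hyJ : y ∈ J' := hJJ' (hXk₂ hy)
    have hw' : ⁅⁅u₂, x⁆, y⁆ ∈ X (k₂ + (f₂ - ρ)) := by rwa [add_comm]
    have k2 : y * ⁅u₁, ⁅u₂, x⁆⁆ = ⁅u₁, ⁅u₂, x⁆⁆ * y :=
      comm_of_nonneg R hs hk₂ hg (by rw [q₅]; omega) (by rw [q₅]; omega) hy (hc x hx)
    have hin : ⁅u₁, ⁅u₂, x⁆⁆ * ⁅u₂, x⁆ ∈ J' := by
      have h3 := mul_mem (hcde x hx) (inv_mem (hXe₁ (he x hx)))
      rwa [mul_inv_cancel_right] at h3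
    have h5 : ⁅⁅u₁, ⁅u₂, x⁆⁆ * ⁅u₂, x⁆, y⁆ ∈ J' := by
      rw [commutatorElement_def]
      exact mul_mem (mul_mem (mul_mem hin hyJ) (inv_mem hin)) (inv_mem hyJ)
    have k4 : ⁅⁅u₂, x⁆, y⁆ * ⁅u₁, ⁅u₂, x⁆⁆ = ⁅u₁, ⁅u₂, x⁆⁆ * ⁅⁅u₂, x⁆, y⁆ := by
      by_cases hd5 : cpr cs h k₂ f₁ + cpr cs h k₂ f₂ - cpr cs h k₂ ρ = 0
      · exact comm_of_nonneg R hs hm₂ hg (by rw [r₃]; omega) (by rw [r₃]; omega) hw' (hc x hx)
      · -- the two roots are equal
        have h6 : k₂ + (f₂ - ρ) = f₁ + (f₂ - ρ) := hs.eq_of_cpr hm₂ hg (by rw [r₃]; omega)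
        rw [h6] at hw'
        exact hA₁₂.comm_self R hw' (hc x hx)
    have e : ⁅⁅u₁, ⁅u₂, x⁆⁆ * ⁅u₂, x⁆, y⁆ = ⁅⁅u₂, x⁆, y⁆ := by
      generalize ⁅u₁, ⁅u₂, x⁆⁆ = c at *
      generalize ⁅u₂, x⁆ = d at *
      have e1 : ⁅c * d, y⁆ = c * ⁅d, y⁆ * (y * c * y⁻¹)⁻¹ := by
        simp only [commutatorElement_def]; group
      have e2 : y * c * y⁻¹ = c := by rw [k2]; group
      rw [e1, e2, ← k4, mul_inv_cancel_right]
    rwa [e] at h5
  refine ⟨hXe₁, ?_⟩
  have h2 := add_le R hs hm₂ hk₂.neg (by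
    rw [cpr_neg_right cs h _ hk₂, addl hk₂, cpr_self cs h hk₂, sy he₂ hk₂, q₄]; norm_num) hX₂ (hXk₂'.trans hJJ')
  have e : k₂ + (f₂ - ρ) + -k₂ = f₂ - ρ := by abel
  rwa [e] at h2

end

end Cfsg.Agent.H127.Gx
end

-- part: H127/Gx/EEight
section
/-!
# S4327, `E₈(q)`: from the nodes of `D₄` to `E₈` with three more conjugates (helper127, H2)

* `ok_imp` : closure certificates for sets of roots of `E₈`;
* `e8_three`, `e8_top` : `X (± α_i) ≤ J` for the four nodes of `D₄` and `Reach a k J` give `Reach a (k + 3) ⊤`.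
-/

set_option autoImplicit false
set_option linter.unusedSectionVars false

namespace Cfsg.Agent.H127.Gx

/-- the Cartan matrix of `E₈` -/
def C8 : Fin 8 → Fin 8 → ℤ := ![![2, 0, -1, 0, 0, 0, 0, 0], ![0, 2, 0, -1, 0, 0, 0, 0], ![-1, 0, 2, -1, 0, 0, 0, 0],
  ![0, -1, -1, 2, -1, 0, 0, 0], ![0, 0, 0, -1, 2, -1, 0, 0], ![0, 0, 0, 0, -1, 2, -1, 0],
  ![0, 0, 0, 0, 0, -1, 2, -1], ![0, 0, 0, 0, 0, 0, -1, 2]]

theorem C8_diag : ∀ i : Fin 8, C8 i i = 2 := by decide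

set_option backward.isDefEq.respectTransparency false in
theorem C8_off : ∀ i j : Fin 8, i ≠ j →
    (CoxeterMatrix.E₈ i j = 2 ∧ C8 i j = 0) ∨ (CoxeterMatrix.E₈ i j = 3 ∧ C8 i j = -1) := by decide +kernel

set_option backward.isDefEq.respectTransparency false in
theorem h4 : ∀ i j : Fin 8, CoxeterMatrix.E₈ i j ≠ 4 := by decide +kernel

set_option backward.isDefEq.respectTransparency false in
theorem h6 : ∀ i j : Fin 8, CoxeterMatrix.E₈ i j ≠ 6 := by decide +kernel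

open CoxeterSystem Cfsg.Agent.ChevalleyStructure.CoxeterGeom Cfsg.Agent.Tits.Roots Cfsg.Agent.Tits.Core
  Cfsg.Agent.Tits.Exchange Cfsg.Agent.Nodes.Reps Cfsg.Agent.Nodes.BNOf Cfsg.Agent.Nodes.StabComb
  Cfsg.Agent.Nodes.Bruhat Cfsg.Agent.Nodes.OppDec Cfsg.Agent.Nodes.PosPair Cfsg.Agent.Nodes.Coroot
  Cfsg.Agent.KFacts.RgdSL
open Cfsg.Agent.H915.Gs (Reach)
open Cfsg.Agent.OddHalf.SL.Index (Bf bf_eq_cpr)

/-! ### certificates -/

/-- list to vector -/
def toF : List ℤ → (Fin 8 → ℤ)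
  | [a0, a1, a2, a3, a4, a5, a6, a7] => ![a0, a1, a2, a3, a4, a5, a6, a7]
  | _ => 0

/-- the form on lists -/
def ipl : List ℤ → List ℤ → ℤ
  | [a0, a1, a2, a3, a4, a5, a6, a7], [b0, b1, b2, b3, b4, b5, b6, b7] =>
    2 * (a0 * b0 + a1 * b1 + a2 * b2 + a3 * b3 + a4 * b4 + a5 * b5 + a6 * b6 + a7 * b7) -
      (a0 * b2 + a2 * b0 + a1 * b3 + a3 * b1 + a2 * b3 + a3 * b2 + a3 * b4 + a4 * b3 + a4 * b5 + a5 * b4 +
        a5 * b6 + a6 * b5 + a6 * b7 + a7 * b6)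
  | _, _ => 0

/-- sums of lists -/
def ad (a b : List ℤ) : List ℤ := List.zipWith (· + ·) a b

theorem ipl_eq {a b : List ℤ} (h : ipl a b ≠ 0) : Bf C8 (toF a) (toF b) = ipl a b ∧ toF (ad a b) = toF a + toF b := by
  unfold ipl at h ⊢
  split
  · rename_i a0 a1 a2 a3 a4 a5 a6 a7 b0 b1 b2 b3 b4 b5 b6 b7
    constructor
    · unfold Bf pairing
      simp only [toF, Fin.sum_univ_eight, C8]
      simp only [_root_.Fin.isValue, _root_.Matrix.cons_val_zero, _root_.Int.reduceNeg, _root_.Matrix.cons_val', _root_.Matrix.cons_val_fin_one, _root_.Matrix.cons_val_one, _root_.MulZeroClass.zero_mul, _root_.add_zero, _root_.Matrix.cons_val, _root_.neg_mul, _root_.one_mul, _root_.zero_add]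
      ring
    · ext i
      fin_cases i <;> rfl
  · rename_i hne
    split at h
    · exact absurd rfl (hne _ _ _ _ _ _ _ _ _ _ _ _ _ _ _ _ rfl)
    · exact absurd rfl h

/-- the check -/
def chk : List (List ℤ) → List (List ℤ × List ℤ) → Option (List (List ℤ))
  | L, [] => some L
  | L, (a, b) :: s => if L.contains a && L.contains b && (ipl a b == -1) then chk (ad a b :: L) s else none

/-- the check with targets -/
def ok (L : List (List ℤ)) (s : List (List ℤ × List ℤ)) (t : List (List ℤ)) : Bool :=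
  match chk L s with
  | some L' => t.all fun a => L'.contains a
  | none => false

theorem chk_mem {P : (Fin 8 → ℤ) → Prop} (hP : ∀ x y, P x → P y → Bf C8 x y = -1 → P (x + y)) :
    ∀ (s : List (List ℤ × List ℤ)) (L L' : List (List ℤ)), chk L s = some L' → (∀ a ∈ L, P (toF a)) →
      ∀ a ∈ L', P (toF a) := by
  intro s
  induction s with
  | nil =>
    intro L L' h hL
    simp only [chk, Option.some.injEq] at h
    rwa [← h]
  | cons ab s ih =>
    obtain ⟨a, b⟩ := ab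
    intro L L' h hL
    simp only [chk] at h
    split at h
    · rename_i hc
      simp only [Bool.and_eq_true, List.contains_iff_mem, beq_iff_eq] at hc
      obtain ⟨⟨ha, hb⟩, hi⟩ := hc
      obtain ⟨h1, h2⟩ := ipl_eq (a := a) (b := b) (by rw [hi]; norm_num)
      refine ih _ _ h ?_
      intro c hc
      rcases List.mem_cons.1 hc with rfl | hc
      · rw [h2]
        exact hP _ _ (hL a ha) (hL b hb) (by rw [h1, hi])
      · exact hL c hc
    · exact absurd h (by simp)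

theorem ok_imp {P : (Fin 8 → ℤ) → Prop} (hP : ∀ x y, P x → P y → Bf C8 x y = -1 → P (x + y))
    {L : List (List ℤ)} {s : List (List ℤ × List ℤ)} {t : List (List ℤ)} (h : ok L s t = true)
    (hL : ∀ a ∈ L, P (toF a)) : ∀ a ∈ t, P (toF a) := by
  unfold ok at h
  split at h
  · rename_i L' hL'
    intro a ha
    rw [List.all_eq_true] at h
    have h1 := h a ha
    rw [List.contains_iff_mem] at h1
    exact chk_mem hP s L L' hL' hL a h1
  · exact absurd h (by simp)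

/-- the simple roots and their negatives -/
def L1 : List (List ℤ) := [[1, 0, 0, 0, 0, 0, 0, 0],
  [0, 1, 0, 0, 0, 0, 0, 0],
  [0, 0, 1, 0, 0, 0, 0, 0],
  [0, 0, 0, 1, 0, 0, 0, 0],
  [0, 0, 0, 0, 1, 0, 0, 0],
  [0, 0, 0, 0, 0, 1, 0, 0],
  [0, 0, 0, 0, 0, 0, 1, 0],
  [0, 0, 0, 0, 0, 0, 0, 1],
  [-1, 0, 0, 0, 0, 0, 0, 0],
  [0, -1, 0, 0, 0, 0, 0, 0],
  [0, 0, -1, 0, 0, 0, 0, 0],
  [0, 0, 0, -1, 0, 0, 0, 0],
  [0, 0, 0, 0, -1, 0, 0, 0],
  [0, 0, 0, 0, 0, -1, 0, 0],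
  [0, 0, 0, 0, 0, 0, -1, 0],
  [0, 0, 0, 0, 0, 0, 0, -1]]

/-- derivation -/
def S1 : List (List ℤ × List ℤ) := [([0, 0, 0, 0, 0, 1, 0, 0], [0, 0, 0, 0, 1, 0, 0, 0]),
  ([0, 0, 0, 0, 1, 1, 0, 0], [0, 0, 0, 0, 0, 0, 1, 0]),
  ([0, 0, 0, 0, -1, 0, 0, 0], [0, 0, 0, 0, 0, -1, 0, 0]),
  ([0, 0, 0, 0, 0, 0, -1, 0], [0, 0, 0, 0, 0, 0, 0, -1]),
  ([0, 0, 0, 0, -1, -1, 0, 0], [0, 0, 0, 0, 0, 0, -1, -1]),
  ([0, 0, 0, -1, 0, 0, 0, 0], [0, 0, 0, 0, -1, -1, -1, -1]),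
  ([0, 0, 1, 0, 0, 0, 0, 0], [1, 0, 0, 0, 0, 0, 0, 0]),
  ([0, 0, 0, 1, 0, 0, 0, 0], [0, 1, 0, 0, 0, 0, 0, 0]),
  ([1, 0, 1, 0, 0, 0, 0, 0], [0, 1, 0, 1, 0, 0, 0, 0]),
  ([0, 0, 0, 0, 1, 1, 0, 0], [1, 1, 1, 1, 0, 0, 0, 0]),
  ([0, 0, 0, 1, 0, 0, 0, 0], [0, 0, 0, 0, 1, 0, 0, 0]),
  ([0, 0, 1, 0, 0, 0, 0, 0], [0, 0, 0, 1, 1, 0, 0, 0]),
  ([0, 0, 0, 0, 0, 0, 1, 0], [0, 0, 0, 0, 0, 0, 0, 1]),
  ([0, 0, 0, 0, 0, 1, 0, 0], [0, 0, 0, 0, 0, 0, 1, 1]),
  ([0, 0, 1, 1, 1, 0, 0, 0], [0, 0, 0, 0, 0, 1, 1, 1]),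
  ([1, 1, 1, 1, 1, 1, 0, 0], [0, 0, 1, 1, 1, 1, 1, 1]),
  ([0, 0, 0, -1, 0, 0, 0, 0], [0, -1, 0, 0, 0, 0, 0, 0]),
  ([0, 0, 0, 0, 0, -1, 0, 0], [0, 0, 0, 0, 0, 0, -1, 0]),
  ([-1, 0, 0, 0, 0, 0, 0, 0], [0, 0, -1, 0, 0, 0, 0, 0]),
  ([0, 0, 0, 0, -1, 0, 0, 0], [0, 0, 0, -1, 0, 0, 0, 0]),
  ([-1, 0, -1, 0, 0, 0, 0, 0], [0, 0, 0, -1, -1, 0, 0, 0]),
  ([0, 0, 0, 0, 0, -1, -1, 0], [-1, 0, -1, -1, -1, 0, 0, 0])]

/-- targets -/
def T1 : List (List ℤ) := [[0, 0, 0, 0, 0, -1, 0, 0],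
  [0, 0, 0, 0, 1, 1, 1, 0],
  [0, 0, 0, -1, -1, -1, -1, -1],
  [1, 1, 2, 2, 2, 2, 1, 1],
  [0, -1, 0, -1, 0, 0, 0, 0],
  [-1, 0, -1, -1, -1, -1, -1, 0]]

theorem ok1 : ok L1 S1 T1 = true := by decide +kernel

/-- the nodes of `D₄` -/
def L0 : List (List ℤ) := [[0, 1, 0, 0, 0, 0, 0, 0],
  [0, 0, 1, 0, 0, 0, 0, 0],
  [0, 0, 0, 1, 0, 0, 0, 0],
  [0, 0, 0, 0, 1, 0, 0, 0],
  [0, -1, 0, 0, 0, 0, 0, 0],
  [0, 0, -1, 0, 0, 0, 0, 0],
  [0, 0, 0, -1, 0, 0, 0, 0],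
  [0, 0, 0, 0, -1, 0, 0, 0]]

/-- derivation -/
def S0 : List (List ℤ × List ℤ) := [([0, 0, 0, -1, 0, 0, 0, 0], [0, -1, 0, 0, 0, 0, 0, 0]),
  ([0, 0, 0, 1, 0, 0, 0, 0], [0, 1, 0, 0, 0, 0, 0, 0])]

/-- targets -/
def T0 : List (List ℤ) := [[0, -1, 0, -1, 0, 0, 0, 0],
  [0, 1, 0, 1, 0, 0, 0, 0]]

theorem ok0 : ok L0 S0 T0 = true := by decide +kernel

/-- the nodes of `D₄` and five more roots -/
def L2 : List (List ℤ) := [[0, 1, 0, 0, 0, 0, 0, 0],
  [0, 0, 1, 0, 0, 0, 0, 0],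
  [0, 0, 0, 1, 0, 0, 0, 0],
  [0, 0, 0, 0, 1, 0, 0, 0],
  [0, -1, 0, 0, 0, 0, 0, 0],
  [0, 0, -1, 0, 0, 0, 0, 0],
  [0, 0, 0, -1, 0, 0, 0, 0],
  [0, 0, 0, 0, -1, 0, 0, 0],
  [0, 0, 0, 0, -1, -1, 0, 0],
  [0, 0, 0, 0, 0, 1, 1, 0],
  [0, 0, -1, -1, -1, -1, -1, -1],
  [1, 1, 1, 2, 2, 2, 1, 1],
  [-1, -1, -1, -1, -1, -1, -1, 0]]

/-- derivation -/
def S2 : List (List ℤ × List ℤ) := [([0, 0, 0, 0, -1, -1, 0, 0], [0, 0, 0, -1, 0, 0, 0, 0]),
  ([1, 1, 1, 2, 2, 2, 1, 1], [0, 0, 0, -1, -1, -1, 0, 0]),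
  ([0, 0, -1, -1, -1, -1, -1, -1], [0, -1, 0, 0, 0, 0, 0, 0]),
  ([1, 1, 1, 1, 1, 1, 1, 1], [0, -1, -1, -1, -1, -1, -1, -1]),
  ([0, 0, 1, 0, 0, 0, 0, 0], [0, 0, -1, -1, -1, -1, -1, -1]),
  ([1, 1, 1, 2, 2, 2, 1, 1], [0, 0, 0, -1, -1, -1, -1, -1]),
  ([-1, -1, -1, -1, -1, -1, -1, 0], [0, 0, 0, 0, 0, 1, 1, 0]),
  ([1, 1, 1, 1, 1, 1, 0, 0], [-1, -1, -1, -1, -1, 0, 0, 0]),
  ([0, 0, 0, 0, 1, 0, 0, 0], [0, 0, 0, 0, 0, 1, 1, 0]),
  ([0, 0, 0, 0, -1, -1, 0, 0], [0, 0, 0, 0, 1, 1, 1, 0]),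
  ([0, 0, 0, -1, 0, 0, 0, 0], [-1, -1, -1, -1, -1, -1, -1, 0]),
  ([1, 1, 1, 2, 2, 2, 1, 1], [0, 0, 0, 0, -1, -1, 0, 0]),
  ([-1, -1, -1, -2, -1, -1, -1, 0], [1, 1, 1, 2, 1, 1, 1, 1]),
  ([-1, -1, -1, -1, -1, 0, 0, 0], [0, 0, 0, 0, 1, 0, 0, 0]),
  ([0, 0, 0, 1, 0, 0, 0, 0], [0, 1, 0, 0, 0, 0, 0, 0]),
  ([0, 0, 1, 0, 0, 0, 0, 0], [0, 1, 0, 1, 0, 0, 0, 0]),
  ([-1, -1, -1, -1, 0, 0, 0, 0], [0, 1, 1, 1, 0, 0, 0, 0]),
  ([0, 0, 0, 0, -1, -1, 0, 0], [0, 0, 0, 0, 1, 0, 0, 0]),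
  ([1, 1, 1, 2, 2, 2, 1, 1], [0, 0, 1, 0, 0, 0, 0, 0]),
  ([0, 0, -1, -1, -1, -1, -1, -1], [-1, -1, -1, -1, -1, -1, -1, 0]),
  ([1, 1, 2, 2, 2, 2, 1, 1], [-1, -1, -2, -2, -2, -2, -2, -1]),
  ([0, 0, 0, 1, 0, 0, 0, 0], [0, 0, 0, -1, -1, -1, -1, -1]),
  ([0, 0, 0, 0, -1, -1, -1, -1], [0, 0, 0, 0, 1, 1, 1, 0])]

/-- targets -/
def T2 : List (List ℤ) := [[1, 0, 0, 0, 0, 0, 0, 0],
  [0, 0, 0, 0, 0, 1, 0, 0],
  [0, 0, 0, 0, 0, 0, 1, 0],
  [0, 0, 0, 0, 0, 0, 0, 1],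
  [-1, 0, 0, 0, 0, 0, 0, 0],
  [0, 0, 0, 0, 0, -1, 0, 0],
  [0, 0, 0, 0, 0, 0, -1, 0],
  [0, 0, 0, 0, 0, 0, 0, -1]]

theorem ok2 : ok L2 S2 T2 = true := by decide +kernel

/-! ### `E₈` -/

theorem cart_eq {A : Fin 8 → Fin 8 → ℤ} (h : IsCartan CoxeterMatrix.E₈ A) : A = C8 := by
  funext i j
  by_cases hij : i = j
  · subst hij
    rw [h.diag, C8_diag]
  · rcases C8_off i j hij with ⟨h1, h2⟩ | ⟨h1, h2⟩ <;> rcases h.rel i j hij with h3 | h3 | h3 | h3 <;>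
      first
      | (exfalso; have := h3.1; omega)
      | (rw [h3.2.1, h2])

theorem toF_sr (i : Fin 8) : toF ((List.finRange 8).map fun j => if j = i then 1 else 0) = sr i := by
  fin_cases i <;> (funext j; fin_cases j <;> rfl)

theorem toF_neg_sr (i : Fin 8) : toF ((List.finRange 8).map fun j => if j = i then -1 else 0) = -sr i := by
  fin_cases i <;> (funext j; fin_cases j <;> rfl)

theorem mem_L1 : ∀ a ∈ L1, ∃ i : Fin 8, a = ((List.finRange 8).map fun j => if j = i then (1 : ℤ) else 0) ∨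
    a = ((List.finRange 8).map fun j => if j = i then (-1 : ℤ) else 0) := by decide +kernel

theorem mem_L0 : ∀ a ∈ L0, ∃ i : Fin 8, i ∈ ({1, 2, 3, 4} : Finset (Fin 8)) ∧
    (a = ((List.finRange 8).map fun j => if j = i then (1 : ℤ) else 0) ∨
    a = ((List.finRange 8).map fun j => if j = i then (-1 : ℤ) else 0)) := by decide +kernel

theorem mem_L2 : ∀ a ∈ L2, a ∈ L0 ∨ a = [0, 0, 0, 0, -1, -1, 0, 0] ∨ a = [0, 0, 0, 0, 0, 1, 1, 0] ∨
    a = [0, 0, -1, -1, -1, -1, -1, -1] ∨ a = [1, 1, 1, 2, 2, 2, 1, 1] ∨ a = [-1, -1, -1, -1, -1, -1, -1, 0] := by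
  decide +kernel

theorem mem_T2 : ∀ i, i ∉ ({1, 2, 3, 4} : Finset (Fin 8)) →
    ((List.finRange 8).map fun j => if j = i then (1 : ℤ) else 0) ∈ T2 ∧
      ((List.finRange 8).map fun j => if j = i then (-1 : ℤ) else 0) ∈ T2 := by decide +kernel

variable {W Y : Type*} [Group W] [Group Y] [Finite W] {cs : CoxeterSystem CoxeterMatrix.E₈ W}
  {A : Fin 8 → Fin 8 → ℤ} {h : IsCartan CoxeterMatrix.E₈ A} {p : ℕ} {T : Subgroup Y} {n : Fin 8 → Y}
  {X : (Fin 8 → ℤ) → Subgroup Y}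

theorem cpr_eq_bf (x : Fin 8 → ℤ) {y : Fin 8 → ℤ} (hy : IsRoot cs h y) : cpr cs h x y = Bf C8 x y := by
  rw [← bf_eq_cpr h4 h6 x hy, cart_eq h]

theorem root_closed (x y : Fin 8 → ℤ) (hx : IsRoot cs h x) (hy : IsRoot cs h y) (hc : Bf C8 x y = -1) :
    IsRoot cs h (x + y) := isRoot_add hx hy (by rw [cpr_eq_bf x hy, hc])

theorem root_T1 : ∀ a ∈ T1, IsRoot cs h (toF a) := by
  refine ok_imp root_closed ok1 ?_
  intro a ha
  obtain ⟨i, rfl | rfl⟩ := mem_L1 a ha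
  · rw [toF_sr]; exact isRoot_sr cs h i
  · rw [toF_neg_sr]; exact (isRoot_sr cs h i).neg

theorem e8_three (R : RGD cs h p T n X) {a : MulAut Y} {r : Fin 8 → ℤ} (hr : IsRoot cs h r)
    (ha : ∀ x, a x ∈ X r ↔ x ∈ X (-r)) (hβ : ∀ i, ∃ w, rep cs h w r = sr i) {k : ℕ} {J : Subgroup Y}
    (hJ : Reach a k J) (hD : ∀ i ∈ ({1, 2, 3, 4} : Finset (Fin 8)), X (sr i) ≤ J ∧ X (-sr i) ≤ J) :
    ∃ J', Reach a (k + 3) J' ∧ J ≤ J' ∧ ∀ i, X (sr i) ≤ J' ∧ X (-sr i) ≤ J' := by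
  have hs : SL cs h := fun x y hx hy => Cfsg.Agent.Nodes.SimplyLaced.cpr_symm cs h h4 h6 hx hy
  have hall : ∀ x, IsRoot cs h x → ∃ w, rep cs h w r = x := by
    rintro x ⟨w, i, rfl⟩
    obtain ⟨w', hw'⟩ := hβ i
    exact ⟨w * w', by rw [rep_mul_apply, hw']⟩
  -- the closure property
  have hcl : ∀ K : Subgroup Y, ∀ x y, (IsRoot cs h x ∧ X x ≤ K) → (IsRoot cs h y ∧ X y ≤ K) → Bf C8 x y = -1 →
      (IsRoot cs h (x + y) ∧ X (x + y) ≤ K) := fun K x y hx hy hc =>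
    ⟨root_closed x y hx.1 hy.1 hc, add_le R hs hx.1 hy.1 (by rw [cpr_eq_bf x hy.1, hc]) hx.2 hy.2⟩
  have hL0 : ∀ {K : Subgroup Y}, J ≤ K → ∀ a ∈ L0, IsRoot cs h (toF a) ∧ X (toF a) ≤ K := by
    intro K hK a ha
    obtain ⟨i, hi, rfl | rfl⟩ := mem_L0 a ha
    · rw [toF_sr]; exact ⟨isRoot_sr cs h i, (hD i hi).1.trans hK⟩
    · rw [toF_neg_sr]; exact ⟨(isRoot_sr cs h i).neg, (hD i hi).2.trans hK⟩
  have hk : ∀ a ∈ T0, IsRoot cs h (toF a) ∧ X (toF a) ≤ J := ok_imp (hcl J) ok0 (hL0 le_rfl)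
  have rt := root_T1 (cs := cs) (h := h)
  -- the first double step
  have p1 := hL0 le_rfl [0, 0, 0, 0, 1, 0, 0, 0] (by decide)
  have p1' := hL0 le_rfl [0, 0, 0, 0, -1, 0, 0, 0] (by decide)
  have p2 := hL0 le_rfl [0, 0, 0, -1, 0, 0, 0, 0] (by decide)
  have p2' := hL0 le_rfl [0, 0, 0, 1, 0, 0, 0, 0] (by decide)
  rw [show toF [0, 0, 0, 0, -1, 0, 0, 0] = -toF [0, 0, 0, 0, 1, 0, 0, 0] by decide +kernel] at p1'
  rw [show toF [0, 0, 0, 1, 0, 0, 0, 0] = -toF [0, 0, 0, -1, 0, 0, 0, 0] by decide +kernel] at p2'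
  have f1 := rt [0, 0, 0, 0, 0, -1, 0, 0] (by decide)
  have f2 := rt [0, 0, 0, 0, 1, 1, 1, 0] (by decide)
  obtain ⟨J₁, hJ₁, r₁, x₁, x₂⟩ := double R hs hr ha hall hJ p1.1 f1 f2 p2.1 p1.1
    (by rw [cpr_eq_bf _ p1.1]; decide +kernel) (by rw [cpr_eq_bf _ p1.1]; decide +kernel)
    (by rw [cpr_eq_bf _ f2]; decide +kernel) p1.2 p1'.2 p2.2 p2'.2 p1.2 p1'.2
    (by rw [cpr_eq_bf _ f1, cpr_eq_bf _ p1.1]; decide +kernel)
    (Or.inl (by rw [cpr_eq_bf _ f2, cpr_eq_bf _ p1.1]; decide +kernel))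
    (by rw [cpr_eq_bf _ f1, cpr_eq_bf _ f2, cpr_eq_bf _ p1.1]; decide +kernel)
    (by rw [cpr_eq_bf _ f2, cpr_eq_bf _ p1.1]; decide +kernel)
    (Or.inl (by rw [cpr_eq_bf _ f1, cpr_eq_bf _ f2, cpr_eq_bf _ p1.1]; decide +kernel))
  have q₁ := isRoot_sub f1 p1.1 (by rw [cpr_eq_bf _ p1.1]; decide +kernel)
  have q₂ := isRoot_sub f2 p1.1 (by rw [cpr_eq_bf _ p1.1]; decide +kernel)
  -- the second double step
  have p3 := hL0 hJ₁ [0, 0, 1, 0, 0, 0, 0, 0] (by decide)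
  have p3' := hL0 hJ₁ [0, 0, -1, 0, 0, 0, 0, 0] (by decide)
  have p4 := hk [0, -1, 0, -1, 0, 0, 0, 0] (by decide)
  have p4' := hk [0, 1, 0, 1, 0, 0, 0, 0] (by decide)
  rw [show toF [0, 0, -1, 0, 0, 0, 0, 0] = -toF [0, 0, 1, 0, 0, 0, 0, 0] by decide +kernel] at p3'
  rw [show toF [0, 1, 0, 1, 0, 0, 0, 0] = -toF [0, -1, 0, -1, 0, 0, 0, 0] by decide +kernel] at p4'
  have f3 := rt [0, 0, 0, -1, -1, -1, -1, -1] (by decide)
  have f5 := rt [1, 1, 2, 2, 2, 2, 1, 1] (by decide)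
  obtain ⟨J₂, hJ₂, r₂, x₃, x₄⟩ := double R hs hr ha hall r₁ p3.1 f3 f5 p4.1 p3.1
    (by rw [cpr_eq_bf _ p3.1]; decide +kernel) (by rw [cpr_eq_bf _ p3.1]; decide +kernel)
    (by rw [cpr_eq_bf _ f5]; decide +kernel) p3.2 p3'.2 (p4.2.trans hJ₁) (p4'.2.trans hJ₁) p3.2 p3'.2
    (by rw [cpr_eq_bf _ f3, cpr_eq_bf _ p3.1]; decide +kernel)
    (Or.inl (by rw [cpr_eq_bf _ f5, cpr_eq_bf _ p3.1]; decide +kernel))
    (by rw [cpr_eq_bf _ f3, cpr_eq_bf _ f5, cpr_eq_bf _ p3.1]; decide +kernel)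
    (by rw [cpr_eq_bf _ f5, cpr_eq_bf _ p3.1]; decide +kernel)
    (Or.inl (by rw [cpr_eq_bf _ f3, cpr_eq_bf _ f5, cpr_eq_bf _ p3.1]; decide +kernel))
  have q₃ := isRoot_sub f3 p3.1 (by rw [cpr_eq_bf _ p3.1]; decide +kernel)
  have q₅ := isRoot_sub f5 p3.1 (by rw [cpr_eq_bf _ p3.1]; decide +kernel)
  -- the single step
  have p5 := hL0 (hJ₁.trans hJ₂) [0, 1, 0, 0, 0, 0, 0, 0] (by decide)
  have p5' := hL0 (hJ₁.trans hJ₂) [0, -1, 0, 0, 0, 0, 0, 0] (by decide)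
  rw [show toF [0, -1, 0, 0, 0, 0, 0, 0] = -toF [0, 1, 0, 0, 0, 0, 0, 0] by decide +kernel] at p5'
  have f7 := rt [-1, 0, -1, -1, -1, -1, -1, 0] (by decide)
  have c7 : cpr cs h (toF [-1, 0, -1, -1, -1, -1, -1, 0]) (toF [0, 1, 0, 0, 0, 0, 0, 0]) = 1 := by
    rw [cpr_eq_bf _ p5.1]; decide +kernel
  obtain ⟨J₃, hJ₃, r₃, x₅⟩ := single R hs hr ha hall r₂ p5.1 f7 c7 p5.2 p5'.2
  have q₇ := isRoot_sub f7 p5.1 c7
  -- the closure
  have hJ₁₃ : J₁ ≤ J₃ := hJ₂.trans hJ₃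
  have hL2 : ∀ a ∈ L2, IsRoot cs h (toF a) ∧ X (toF a) ≤ J₃ := by
    intro a ha
    rcases mem_L2 a ha with h0 | rfl | rfl | rfl | rfl | rfl
    · exact hL0 (hJ₁.trans hJ₁₃) a h0
    · rw [show toF [0, 0, 0, 0, -1, -1, 0, 0] = toF [0, 0, 0, 0, 0, -1, 0, 0] - toF [0, 0, 0, 0, 1, 0, 0, 0] by
        decide +kernel]
      exact ⟨q₁, x₁.trans hJ₁₃⟩
    · rw [show toF [0, 0, 0, 0, 0, 1, 1, 0] = toF [0, 0, 0, 0, 1, 1, 1, 0] - toF [0, 0, 0, 0, 1, 0, 0, 0] by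
        decide +kernel]
      exact ⟨q₂, x₂.trans hJ₁₃⟩
    · rw [show toF [0, 0, -1, -1, -1, -1, -1, -1] = toF [0, 0, 0, -1, -1, -1, -1, -1] - toF [0, 0, 1, 0, 0, 0, 0, 0] by
        decide +kernel]
      exact ⟨q₃, x₃.trans hJ₃⟩
    · rw [show toF [1, 1, 1, 2, 2, 2, 1, 1] = toF [1, 1, 2, 2, 2, 2, 1, 1] - toF [0, 0, 1, 0, 0, 0, 0, 0] by
        decide +kernel]
      exact ⟨q₅, x₄.trans hJ₃⟩
    · rw [show toF [-1, -1, -1, -1, -1, -1, -1, 0] =
        toF [-1, 0, -1, -1, -1, -1, -1, 0] - toF [0, 1, 0, 0, 0, 0, 0, 0] by decide +kernel]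
      exact ⟨q₇, x₅⟩
  have hfin := ok_imp (hcl J₃) ok2 hL2
  refine ⟨J₃, r₃, hJ₁.trans hJ₁₃, fun i => ?_⟩
  by_cases hi : i ∈ ({1, 2, 3, 4} : Finset (Fin 8))
  · exact ⟨(hD i hi).1.trans (hJ₁.trans hJ₁₃), (hD i hi).2.trans (hJ₁.trans hJ₁₃)⟩
  · obtain ⟨h1, h2⟩ := mem_T2 i hi
    have h3 := (hfin _ h1).2
    have h5 := (hfin _ h2).2
    rw [toF_sr] at h3
    rw [toF_neg_sr] at h5
    exact ⟨h3, h5⟩

/-- **three more conjugates** -/
theorem e8_top (R : RGD cs h p T n X) (hG : RGD.Sup X {x | IsRoot cs h x} = ⊤) {a : MulAut Y} {r : Fin 8 → ℤ}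
    (hr : IsRoot cs h r) (ha : ∀ x, a x ∈ X r ↔ x ∈ X (-r)) (hβ : ∀ i, ∃ w, rep cs h w r = sr i) {k : ℕ}
    {J : Subgroup Y} (hJ : Reach a k J)
    (hD : ∀ i ∈ ({1, 2, 3, 4} : Finset (Fin 8)), X (sr i) ≤ J ∧ X (-sr i) ≤ J) : Reach a (k + 3) ⊤ := by
  obtain ⟨J', h1, -, h2⟩ := e8_three R hr ha hβ hJ hD
  have h3 : J' = ⊤ := by
    rw [← top_le_iff, ← hG]
    exact RGD.Sup_le fun x hx u hu => Cfsg.Agent.H441.GS.X_le_of_simple R h2 hx hu
  rwa [← h3]

end Cfsg.Agent.H127.Gx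
end

-- part: H441/GS/NineE
section
/-!
# `E₈(9)` (S4327): the input `Nine`, helper441 (from helper127's double step)
-/

set_option autoImplicit false
set_option linter.unusedSectionVars false

namespace Cfsg.Agent.H441.GS

open CoxeterSystem Cfsg.Agent.ChevalleyStructure.CoxeterGeom Cfsg.Agent.Tits.Roots Cfsg.Agent.Tits.Core
  Cfsg.Agent.Nodes.Reps Cfsg.Agent.Nodes.BNOf Cfsg.Agent.Nodes.Bruhat Cfsg.Agent.Nodes.Coroot
open Cfsg.Agent.KFacts.RgdDiag Cfsg.Agent.KFacts.RgdRigid Cfsg.Agent.KFacts.RgdChevCoord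
open Cfsg.Agent.H915.Gs (Gn Reach Reach₁ im)
open Cfsg.Lie Cfsg.Agent.ChevalleyStructure Cfsg.Agent.ChevalleyStructure.Elts
  Cfsg.Agent.ChevalleyStructure.CoxeterGeomTypes Cfsg.Agent.Nodes.RGDChev Cfsg.Agent.Nodes.KindE

/-- the nodes of `D₄` -/
def dn : Fin 4 → Fin 8 := ![1, 2, 3, 4]

set_option backward.isDefEq.respectTransparency false in
theorem dn_conn : ∀ S : Finset (Fin 4), S.Nonempty → S ≠ Finset.univ →
    ∃ j ∈ S, ∃ i ∉ S, CoxeterMatrix.E₈ (dn i) (dn j) = 3 := by decide +kernel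

theorem nine (K : Type) [Field K] [Fintype K] : Nine K := by
  intro W _ _ cs a r hr h1 h5
  obtain ⟨p, hpK⟩ := CharP.exists K
  have hpp : p.Prime := CharP.char_is_prime K p
  have : Fact p.Prime := ⟨hpp⟩
  have R := rgd (K := K) isType8 cs p
  have hG1 := G1_eq_top (K := K) isType8 cs
  have hs := sl_of_ne cs isType8.isCartan ne_eight.1 ne_eight.2
  have L := longR_of_sl R hs hr
  have horb : ∀ x, IsRoot cs isType8.isCartan x → ∃ w, rep cs isType8.isCartan w r = x := fun x hx =>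
    orb_all cs isType8.isCartan ne_eight.1 ne_eight.2 conn_eight hr hx
  obtain ⟨w, hw⟩ := horb _ (isRoot_sr cs isType8.isCartan (dn 0))
  obtain ⟨g, hg⟩ := exists_rp cs R.nsys w
  have h7 := h5.conj g
  obtain ⟨J', h8, -, h9⟩ := chain_fam R L h1 (ι := Fin 4) (β := fun i => sr (dn i))
    (fun i => horb _ (isRoot_sr cs _ _)) (fun S hS hS' => by
      obtain ⟨j, hj, i, hi, h2⟩ := dn_conn S hS hS'
      refine ⟨j, hj, i, hi, ?_⟩
      have hne : dn i ≠ dn j := by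
        intro h3
        rw [h3, CoxeterMatrix.diagonal] at h2
        exact absurd h2 (by norm_num)
      rw [cpr_sr, pairing_sr, Cfsg.Agent.Nodes.SimplyLaced.cart_eq ne_eight.1 ne_eight.2 isType8.isCartan,
        if_neg hne, if_pos h2]) 3 {0} _ 5 (Finset.singleton_nonempty _) (by simp) h7 (by
      intro i' hi'
      rw [Finset.mem_singleton] at hi'
      subst hi'
      constructor
      · rw [← hw]
        intro z hz
        have h9 : z ∈ cj g (XX chevE8 8 K r) := by rwa [R.conj_rp hg hr]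
        exact Subgroup.map_mono le_sup_left h9
      · rw [← hw, ← map_neg]
        intro z hz
        have h9 : z ∈ cj g (XX chevE8 8 K (-r)) := by rwa [R.conj_rp hg hr.neg]
        exact Subgroup.map_mono le_sup_right h9)
  refine Cfsg.Agent.H127.Gx.e8_top R hG1 hr h1 (fun i => horb _ (isRoot_sr cs _ _)) (k := 8) h8 ?_
  intro i hi
  have h10 : ∃ j, dn j = i := by
    revert hi
    revert i
    decide
  obtain ⟨j, rfl⟩ := h10
  exact h9 j

end Cfsg.Agent.H441.GS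
end

-- part: H441/GS/Final
section
/-!
# The rows `E₇(q)` and `E₈(q)` of S4327, helper441 (with helper127 and helper406)
-/

set_option autoImplicit false

namespace Cfsg.Agent.H441.GS

open Cfsg Cfsg.Agent.ChevalleyStructure.CoxeterGeomTypes Cfsg.Agent.Nodes.RGDChev Cfsg.Agent.Nodes.KindE

universe u

/-- **the row `E₇(q)`** -/
theorem row_e7 (L : Type u) [Group L] [Finite L] [IsSimpleGroup L] (h : Lie.IsoE7 L) : H147.Gen.Gen11 L :=
  row_seven (fun _ _ _ hK => H406.GS.small isType7 (by simp) hK) h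

/-- **the row `E₈(q)`** -/
theorem row_e8 (L : Type u) [Group L] [Finite L] [IsSimpleGroup L] (h : Lie.IsoE8 L) : H147.Gen.Gen11 L :=
  row_eight (fun _ _ _ hK => H406.GS.small isType8 (by simp) hK) (fun K _ _ _ => nine K) h

end Cfsg.Agent.H441.GS
end

-- part: H937/Gs/E6Dich
section
/-!
# The dichotomy for the graph automorphisms of `E₆` (S4327, exceptional groups, helper937)

`e6_dich` : if `w` satisfies the conclusion of `H441.GS.step` for a diagram automorphism `σ ≠ 1` of `E₆`, then some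
root `δ` has `w δ = -(δ ∘ σ)`, or `{i | w (α_{σ i}) = α_i}` is the `D₄` subdiagram.
-/

set_option autoImplicit false
set_option linter.unusedSectionVars false

namespace Cfsg.Agent.H937.Gs.E6D

open CoxeterSystem Cfsg.Agent.ChevalleyStructure.CoxeterGeom Cfsg.Agent.Tits.Roots Cfsg.Agent.Tits.Core
  Cfsg.Agent.Tits.Exchange Cfsg.Agent.Tits.RootComb Cfsg.Agent.Nodes.StabComb Cfsg.Agent.Nodes.Coroot

/-- the Cartan matrix of type `E₆` -/
def C : Fin 6 → Fin 6 → ℤ :=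
  ![![2, 0, -1, 0, 0, 0], ![0, 2, 0, -1, 0, 0], ![-1, 0, 2, -1, 0, 0], ![0, -1, -1, 2, -1, 0],
    ![0, 0, 0, -1, 2, -1], ![0, 0, 0, 0, -1, 2]]

set_option backward.isDefEq.respectTransparency false in
set_option maxRecDepth 100000 in
theorem ne6 : ∀ i j : Fin 6, CoxeterMatrix.E₆ i j ≠ 4 ∧ CoxeterMatrix.E₆ i j ≠ 6 := by decide

set_option maxRecDepth 100000 in
theorem tab6 : ∀ i j, (if i = j then 2 else if CoxeterMatrix.E₆ i j = 3 then -1 else 0) = C i j := by decide +kernel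

theorem eq_C {A : Fin 6 → Fin 6 → ℤ} (h : IsCartan CoxeterMatrix.E₆ A) : A = C := by
  funext i j
  rw [Cfsg.Agent.Nodes.SimplyLaced.cart_eq (fun i j => (ne6 i j).1) (fun i j => (ne6 i j).2) h, tab6]

/-! ### the finite check -/

theorem row0 (x : Fin 6 → ℤ) : ∑ k, C 0 k * x k = 2 * x 0 - x 2 := by
  simp [Fin.sum_univ_six, C]; ring
theorem row1 (x : Fin 6 → ℤ) : ∑ k, C 1 k * x k = 2 * x 1 - x 3 := by
  simp [Fin.sum_univ_six, C]; ring
theorem row2 (x : Fin 6 → ℤ) : ∑ k, C 2 k * x k = - x 0 + 2 * x 2 - x 3 := by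
  simp only [Fin.sum_univ_six, C, _root_.Int.reduceNeg, _root_.Fin.isValue, _root_.Matrix.cons_val', _root_.Matrix.cons_val_fin_one, _root_.Matrix.cons_val, _root_.Matrix.cons_val_one, _root_.Matrix.cons_val_zero, _root_.neg_mul, _root_.one_mul, _root_.MulZeroClass.zero_mul, _root_.add_zero]; ring
theorem row3 (x : Fin 6 → ℤ) : ∑ k, C 3 k * x k = - x 1 - x 2 + 2 * x 3 - x 4 := by
  simp only [Fin.sum_univ_six, C, _root_.Int.reduceNeg, _root_.Fin.isValue, _root_.Matrix.cons_val', _root_.Matrix.cons_val_fin_one, _root_.Matrix.cons_val, _root_.Matrix.cons_val_one, _root_.Matrix.cons_val_zero, _root_.MulZeroClass.zero_mul, _root_.neg_mul, _root_.one_mul, _root_.zero_add, _root_.add_zero]; ring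
theorem row4 (x : Fin 6 → ℤ) : ∑ k, C 4 k * x k = - x 3 + 2 * x 4 - x 5 := by
  simp only [Fin.sum_univ_six, C, _root_.Int.reduceNeg, _root_.Fin.isValue, _root_.Matrix.cons_val', _root_.Matrix.cons_val_fin_one, _root_.Matrix.cons_val, _root_.Matrix.cons_val_one, _root_.Matrix.cons_val_zero, _root_.MulZeroClass.zero_mul, _root_.add_zero, _root_.neg_mul, _root_.one_mul, _root_.zero_add]; ring
theorem row5 (x : Fin 6 → ℤ) : ∑ k, C 5 k * x k = - x 4 + 2 * x 5 := by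
  simp [Fin.sum_univ_six, C]

/-- the subsets `P` for which the longest element of `W_P` can be `-1` on the roots of `P` -/
theorem comb (U : Fin 6 → Fin 6 → ℤ) (P : Fin 6 → Prop)
    (h1 : ∀ i k, ¬ P i → ¬ P k → U i k = if i = k then 1 else 0)
    (h2 : ∀ i j, ¬ P i → P j → ∑ k, C j k * U i k = - C j i)
    (h3 : ¬ (P 0 ∧ P 2 ∧ P 4 ∧ P 5)) :
    (¬ (P 0 ∧ P 2) ∧ ¬ (P 2 ∧ P 3) ∧ ¬ (P 1 ∧ P 3) ∧ ¬ (P 3 ∧ P 4) ∧ ¬ (P 4 ∧ P 5)) ∨
      ∀ i, P i ↔ i ∈ ({1, 2, 3, 4} : Set (Fin 6)) := by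
  have e0 : ∀ i, ¬ P i → P 0 → 2 * U i 0 - U i 2 = - C 0 i := fun i hi hj => by rw [← h2 i 0 hi hj, row0]
  have e1 : ∀ i, ¬ P i → P 1 → 2 * U i 1 - U i 3 = - C 1 i := fun i hi hj => by rw [← h2 i 1 hi hj, row1]
  have e2 : ∀ i, ¬ P i → P 2 → - U i 0 + 2 * U i 2 - U i 3 = - C 2 i := fun i hi hj => by rw [← h2 i 2 hi hj, row2]
  have e3 : ∀ i, ¬ P i → P 3 → - U i 1 - U i 2 + 2 * U i 3 - U i 4 = - C 3 i :=
    fun i hi hj => by rw [← h2 i 3 hi hj, row3]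
  have e4 : ∀ i, ¬ P i → P 4 → - U i 3 + 2 * U i 4 - U i 5 = - C 4 i := fun i hi hj => by rw [← h2 i 4 hi hj, row4]
  have e5 : ∀ i, ¬ P i → P 5 → - U i 4 + 2 * U i 5 = - C 5 i := fun i hi hj => by rw [← h2 i 5 hi hj, row5]
  have u1 : ∀ i, ¬ P i → U i i = 1 := fun i hi => by rw [h1 i i hi hi, if_pos rfl]
  have u0 : ∀ i k, i ≠ k → ¬ P i → ¬ P k → U i k = 0 := fun i k hne hi hk => by rw [h1 i k hi hk, if_neg hne]
  have c31 : C 3 1 = -1 := rfl
  have c13 : C 1 3 = -1 := rfl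
  have c02 : C 0 2 = -1 := rfl
  have c20 : C 2 0 = -1 := rfl
  have c23 : C 2 3 = -1 := rfl
  have c32 : C 3 2 = -1 := rfl
  have c34 : C 3 4 = -1 := rfl
  have c43 : C 4 3 = -1 := rfl
  have c45 : C 4 5 = -1 := rfl
  have c54 : C 5 4 = -1 := rfl
  have c03 : C 0 3 = 0 := rfl
  have c04 : C 0 4 = 0 := rfl
  have c05 : C 0 5 = 0 := rfl
  have c24 : C 2 4 = 0 := rfl
  have c25 : C 2 5 = 0 := rfl
  have c35 : C 3 5 = 0 := rfl
  have c14 : C 1 4 = 0 := rfl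
  have c15 : C 1 5 = 0 := rfl
  have c10 : C 1 0 = 0 := rfl
  have c12 : C 1 2 = 0 := rfl
  have c30 : C 3 0 = 0 := rfl
  have c40 : C 4 0 = 0 := rfl
  have c42 : C 4 2 = 0 := rfl
  have c50 : C 5 0 = 0 := rfl
  have c52 : C 5 2 = 0 := rfl
  have c53 : C 5 3 = 0 := rfl
  have d0 : (0 : Fin 6) ≠ 1 := by decide
  -- the edge `0 - 2`
  have A02 : ¬ (P 0 ∧ P 2) := by
    rintro ⟨p0, p2⟩
    by_cases p3 : P 3
    · by_cases p4 : P 4
      · have p5 : ¬ P 5 := fun p5 => h3 ⟨p0, p2, p4, p5⟩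
        have a0 := e0 5 p5 p0
        have a2 := e2 5 p5 p2
        have a3 := e3 5 p5 p3
        have a4 := e4 5 p5 p4
        have a5 := u1 5 p5
        by_cases p1 : P 1
        · have a1 := e1 5 p5 p1
          (clear * - c45 c05 c35 c15 a0 a3 a4 a5 a1; omega)
        · have a1 := u0 5 1 (by decide) p5 p1
          omega
      · have a0 := e0 4 p4 p0
        have a2 := e2 4 p4 p2
        have a3 := e3 4 p4 p3
        have a4 := u1 4 p4
        by_cases p1 : P 1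
        · have a1 := e1 4 p4 p1
          omega
        · have a1 := u0 4 1 (by decide) p4 p1
          omega
    · have a0 := e0 3 p3 p0
      have a2 := e2 3 p3 p2
      have a3 := u1 3 p3
      omega
  have A45 : ¬ (P 4 ∧ P 5) := by
    rintro ⟨p4, p5⟩
    by_cases p3 : P 3
    · by_cases p2 : P 2
      · have p0 : ¬ P 0 := fun p0 => h3 ⟨p0, p2, p4, p5⟩
        have a0 := u1 0 p0
        have a2 := e2 0 p0 p2
        have a3 := e3 0 p0 p3
        have a4 := e4 0 p0 p4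
        have a5 := e5 0 p0 p5
        by_cases p1 : P 1
        · have a1 := e1 0 p0 p1
          (clear * - c20 c10 c30 c50 a0 a2 a3 a5 a1; omega)
        · have a1 := u0 0 1 (by decide) p0 p1
          omega
      · have a5 := e5 2 p2 p5
        have a4 := e4 2 p2 p4
        have a3 := e3 2 p2 p3
        have a2 := u1 2 p2
        by_cases p1 : P 1
        · have a1 := e1 2 p2 p1
          omega
        · have a1 := u0 2 1 (by decide) p2 p1
          omega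
    · have a5 := e5 3 p3 p5
      have a4 := e4 3 p3 p4
      have a3 := u1 3 p3
      omega
  by_cases p3 : P 3
  · by_cases p2 : P 2
    · have p0 : ¬ P 0 := fun p0 => A02 ⟨p0, p2⟩
      have a0 := u1 0 p0
      have a2 := e2 0 p0 p2
      have a3 := e3 0 p0 p3
      by_cases p4 : P 4
      · have p5 : ¬ P 5 := fun p5 => A45 ⟨p4, p5⟩
        have a4 := e4 0 p0 p4
        have a5 := u0 0 5 (by decide) p0 p5
        by_cases p1 : P 1
        · right
          intro i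
          fin_cases i
          · simpa only [_root_.Fin.zero_eta, _root_.Fin.isValue, _root_.Set.mem_insert_iff, _root_.zero_ne_one, _root_.Fin.reduceEq, _root_.Set.mem_singleton_iff, _root_.or_self, _root_.iff_false] using p0
          · simpa using p1
          · simpa using p2
          · simpa using p3
          · simpa using p4
          · simpa using p5
        · exfalso
          have a1 := u0 0 1 (by decide) p0 p1
          omega
      · exfalso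
        have a4 := u0 0 4 (by decide) p0 p4
        by_cases p1 : P 1
        · have a1 := e1 0 p0 p1
          omega
        · have a1 := u0 0 1 (by decide) p0 p1
          omega
    · by_cases p4 : P 4
      · exfalso
        have p5 : ¬ P 5 := fun p5 => A45 ⟨p4, p5⟩
        have a2 := u0 5 2 (by decide) p5 p2
        have a3 := e3 5 p5 p3
        have a4 := e4 5 p5 p4
        have a5 := u1 5 p5
        by_cases p1 : P 1
        · have a1 := e1 5 p5 p1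
          omega
        · have a1 := u0 5 1 (by decide) p5 p1
          omega
      · by_cases p1 : P 1
        · exfalso
          have a1 := e1 2 p2 p1
          have a3 := e3 2 p2 p3
          have a2 := u1 2 p2
          have a4 := u0 2 4 (by decide) p2 p4
          omega
        · left
          exact ⟨A02, fun h => p2 h.1, fun h => p1 h.1, fun h => p4 h.2, A45⟩
  · left
    exact ⟨A02, fun h => p3 h.2, fun h => p3 h.2, fun h => p3 h.1, A45⟩

/-! ### symmetries of the diagram -/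

/-- the nontrivial symmetry -/
def fl : Fin 6 → Fin 6 := ![5, 1, 4, 3, 2, 0]

theorem fl_fl : ∀ i, fl (fl i) = i := by decide

theorem aut3 : ∀ x a b c : Fin 6, C x a = -1 → C x b = -1 → C x c = -1 → C a b = 0 → C a c = 0 → C b c = 0 →
    x = 3 := by
  decide +kernel

theorem aut2 : ∀ x y : Fin 6, C 3 x = -1 → C x y = -1 → C 3 y = 0 → (x = 2 ∧ y = 0) ∨ (x = 4 ∧ y = 5) := by
  decide

theorem aut1 : ∀ x : Fin 6, C 3 x = -1 → C 2 x = 0 → C 4 x = 0 → x = 1 := by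
  decide

theorem aut {t : Fin 6 → Fin 6} (ht : ∀ i j, C (t i) (t j) = C i j) : (∀ i, t i = i) ∨ ∀ i, t i = fl i := by
  have h3 : t 3 = 3 := aut3 (t 3) (t 1) (t 2) (t 4) (ht 3 1) (ht 3 2) (ht 3 4) (ht 1 2) (ht 1 4) (ht 2 4)
  have a := aut2 (t 2) (t 0) (by rw [← h3]; exact ht 3 2) (ht 2 0) (by rw [← h3]; exact ht 3 0)
  have b := aut2 (t 4) (t 5) (by rw [← h3]; exact ht 3 4) (ht 4 5) (by rw [← h3]; exact ht 3 5)
  have c24 := ht 2 4
  have c32 := ht 3 1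
  have c21 := ht 2 1
  have c41 := ht 4 1
  rcases a with ⟨h2, h0⟩ | ⟨h2, h0⟩ <;> rcases b with ⟨h4, h5⟩ | ⟨h4, h5⟩
  · rw [h2, h4] at c24
    exact absurd c24 (by decide)
  · left
    rw [h3] at c32
    rw [h2] at c21
    rw [h4] at c41
    have h1 := aut1 (t 1) c32 c21 c41
    intro i
    fin_cases i <;> assumption
  · right
    rw [h3] at c32
    rw [h2] at c21
    rw [h4] at c41
    have h1 := aut1 (t 1) c32 c41 c21
    intro i
    fin_cases i <;> assumption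
  · rw [h2, h4] at c24
    exact absurd c24 (by decide)

/-! ### the Weyl group -/

variable {W : Type*} [Group W] (cs : CoxeterSystem CoxeterMatrix.E₆ W) (h : IsCartan CoxeterMatrix.E₆ C)

/-- the radical modulo three -/
def rad : Fin 6 → ℤ := ![1, 0, -1, 0, 1, -1]

theorem rad_pair : ∀ i, ∃ c : ℤ, pairing C i rad = 3 * c := by
  intro i
  refine ⟨![1, 0, -1, 0, 1, -1] i, ?_⟩
  revert i
  decide +kernel

theorem rep_rad (w : W) : ∃ y : Fin 6 → ℤ, rep cs h w rad = rad + (3 : ℤ) • y := by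
  obtain ⟨ω, rfl⟩ := cs.wordProd_surjective w
  induction ω with
  | nil => exact ⟨0, by rw [wordProd_nil, map_one, Module.End.one_apply, smul_zero, add_zero]⟩
  | cons j ω ih =>
    obtain ⟨y, hy⟩ := ih
    obtain ⟨c, hc⟩ := rad_pair j
    refine ⟨rep cs h (cs.simple j) y - c • sr j, ?_⟩
    rw [wordProd_cons, rep_mul_apply, hy, map_add, map_smul, rep_simple_eq cs h j rad, hc]
    module

/-- no element of the Weyl group is `-1` on the nodes `0, 2, 4, 5` -/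
theorem no_neg (w : W) : ¬ (rep cs h w (sr 0) = - sr 0 ∧ rep cs h w (sr 2) = - sr 2 ∧ rep cs h w (sr 4) = - sr 4 ∧
    rep cs h w (sr 5) = - sr 5) := by
  rintro ⟨h0, h2, h4, h5⟩
  obtain ⟨y, hy⟩ := rep_rad cs h w
  have e : rad = sr 0 - sr 2 + sr 4 - sr 5 := by
    funext k
    revert k
    decide
  have e2 : rep cs h w rad = - rad := by
    rw [e, map_sub, map_add, map_sub, h0, h2, h4, h5]
    abel
  rw [e2] at hy
  have h1 := congrFun hy 0
  simp only [Pi.neg_apply, Pi.add_apply, Pi.smul_apply, smul_eq_mul] at h1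
  have h3 : rad 0 = 1 := rfl
  omega

theorem rep_sum (w : W) (x : Fin 6 → ℤ) : rep cs h w x = ∑ k, x k • rep cs h w (sr k) := by
  conv_lhs => rw [Cfsg.Agent.KFacts.RgdPar.eq_sum_sr x]
  rw [map_sum]
  exact Finset.sum_congr rfl fun k _ => map_smul _ _ _

/-- `-w₀` permutes the simple roots -/
theorem w0_simple [Finite W] (i : Fin 6) : ∃ j, rep cs h (w0 cs) (sr i) = - sr j := by
  obtain ⟨y, hy⟩ : ∃ y, y = - rep cs h (w0 cs) (sr i) := ⟨_, rfl⟩
  have hy0 : 0 ≤ y := by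
    rw [hy]
    exact neg_nonneg.2 (rep_w0_nonpos (isRoot_sr cs h i) (sr_nonneg i))
  have e1 : rep cs h (w0 cs) y = - sr i := by
    rw [hy, map_neg, ← rep_mul_apply, w0_mul_self, map_one, Module.End.one_apply]
  have e2 : ∑ k, y k • (- rep cs h (w0 cs) (sr k)) = sr i := by
    rw [rep_sum cs h] at e1
    rw [← neg_inj, ← e1, ← Finset.sum_neg_distrib]
    refine Finset.sum_congr rfl fun k _ => ?_
    rw [smul_neg, neg_neg]
  -- heights
  let H : (Fin 6 → ℤ) → ℤ := fun x => ∑ m, x m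
  have hH : ∀ k, 1 ≤ H (- rep cs h (w0 cs) (sr k)) := by
    intro k
    have h1 : 0 ≤ - rep cs h (w0 cs) (sr k) := neg_nonneg.2 (rep_w0_nonpos (isRoot_sr cs h k) (sr_nonneg k))
    have h2 : - rep cs h (w0 cs) (sr k) ≠ 0 := ((isRoot_sr cs h k).act _).neg.ne_zero
    exact sum_pos h1 h2
  have e3 : ∑ k, y k * H (- rep cs h (w0 cs) (sr k)) = 1 := by
    have h1 : H (sr i) = 1 := by
      show ∑ m, sr i m = 1
      rw [Finset.sum_eq_single i (fun b _ hb => sr_ne hb) (by simp), sr_self]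
    rw [← h1, ← e2]
    show _ = ∑ m, (∑ k, y k • (- rep cs h (w0 cs) (sr k))) m
    rw [Finset.sum_congr rfl (fun m _ => Finset.sum_apply m _ _), Finset.sum_comm]
    refine Finset.sum_congr rfl fun k _ => ?_
    rw [Finset.mul_sum]
    rfl
  have hle : ∀ k, y k ≤ y k * H (- rep cs h (w0 cs) (sr k)) := fun k => le_mul_of_one_le_right (hy0 k) (hH k)
  have hs : ∑ k, y k ≤ 1 := by
    rw [← e3]
    exact Finset.sum_le_sum fun k _ => hle k
  have hne : y ≠ 0 := by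
    rw [hy]
    exact ((isRoot_sr cs h i).act _).neg.ne_zero
  have hpos : 0 < ∑ k, y k := sum_pos hy0 hne
  obtain ⟨j, hj⟩ : ∃ j, y j ≠ 0 := by
    by_contra hcon
    push Not at hcon
    exact hne (funext hcon)
  have hj1 : 1 ≤ y j := by
    have h1 : (0 : ℤ) ≤ y j := hy0 j
    omega
  have hsplit : y j + ∑ k ∈ Finset.univ.erase j, y k = ∑ k, y k := Finset.add_sum_erase _ _ (Finset.mem_univ j)
  have hrest : 0 ≤ ∑ k ∈ Finset.univ.erase j, y k := Finset.sum_nonneg fun k _ => hy0 k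
  have hyj : y j = 1 := by omega
  have hz : ∑ k ∈ Finset.univ.erase j, y k = 0 := by omega
  have hz' := (Finset.sum_eq_zero_iff_of_nonneg fun k _ => hy0 k).1 hz
  refine ⟨j, ?_⟩
  rw [← neg_inj, neg_neg, ← hy]
  funext k
  by_cases hk : k = j
  · rw [hk, hyj, sr_self]
  · rw [hz' k (Finset.mem_erase.2 ⟨hk, Finset.mem_univ k⟩), sr_ne hk]

theorem pair_sr (i j : Fin 6) : pairing C j (sr i) = C j i := by
  unfold pairing
  rw [Finset.sum_eq_single i (fun b _ hb => by rw [sr_ne hb, mul_zero]) (by simp), sr_self, mul_one]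

/-- the longest element is `-fl` -/
theorem w0_fl [Finite W] (i : Fin 6) : rep cs h (w0 cs) (sr i) = - sr (fl i) := by
  choose t ht using w0_simple cs h
  have h1 : ∀ i j, C (t i) (t j) = C i j := by
    intro i j
    have h2 := cpr_rep cs h (w0 cs) (sr j) (isRoot_sr cs h i)
    rw [ht, ht, cpr_neg_right cs h _ (isRoot_sr cs h (t i)), cpr_neg cs h _ (isRoot_sr cs h (t i)), neg_neg,
      cpr_sr, cpr_sr, pair_sr, pair_sr] at h2
    exact h2
  rcases aut h1 with h2 | h2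
  · exfalso
    refine no_neg cs h (w0 cs) ⟨?_, ?_, ?_, ?_⟩ <;> rw [ht, h2]
  · rw [ht, h2]

theorem w0_apply [Finite W] (x : Fin 6 → ℤ) : rep cs h (w0 cs) x = - (x ∘ fl) := by
  rw [rep_sum cs h]
  funext m
  rw [Finset.sum_apply, Finset.sum_eq_single (fl m), w0_fl, fl_fl, Pi.smul_apply, Pi.neg_apply, sr_self, Pi.neg_apply,
    smul_eq_mul, mul_neg, mul_one, Function.comp_apply]
  · intro k _ hk
    rw [w0_fl, Pi.smul_apply, Pi.neg_apply, sr_ne, neg_zero, smul_zero]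
    rintro rfl
    exact hk (fl_fl k).symm
  · simp

/-! ### the orthogonal root -/

theorem root_step {x y : Fin 6 → ℤ} (hx : IsRoot cs h x) (i : Fin 6) (e : ∀ k, y k = x k - pairing C i x * (sr i : Fin 6 → ℤ) k) :
    IsRoot cs h y := by
  have : y = rep cs h (cs.simple i) x := by
    rw [rep_simple_eq]
    funext k
    rw [e k, Pi.sub_apply, Pi.smul_apply, smul_eq_mul]
  rw [this]
  exact hx.act _

theorem root_b : IsRoot cs h ![1, 1, 2, 2, 1, 0] := by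
  have h0 : IsRoot cs h ![1, 0, 0, 0, 0, 0] := by
    have : (![1, 0, 0, 0, 0, 0] : Fin 6 → ℤ) = sr 0 := by funext k; revert k; decide
    rw [this]; exact isRoot_sr cs h 0
  have h1 : IsRoot cs h ![1, 0, 1, 0, 0, 0] := root_step cs h h0 2 (by decide)
  have h2 : IsRoot cs h ![1, 0, 1, 1, 0, 0] := root_step cs h h1 3 (by decide)
  have h3 : IsRoot cs h ![1, 1, 1, 1, 0, 0] := root_step cs h h2 1 (by decide)
  have h4 : IsRoot cs h ![1, 1, 1, 1, 1, 0] := root_step cs h h3 4 (by decide)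
  have h5 : IsRoot cs h ![1, 1, 1, 2, 1, 0] := root_step cs h h4 3 (by decide)
  exact root_step cs h h5 2 (by decide)

theorem root_c : IsRoot cs h ![1, 1, 2, 2, 2, 1] := by
  have h1 : IsRoot cs h ![1, 1, 2, 2, 1, 1] := root_step cs h (root_b cs h) 5 (by decide)
  exact root_step cs h h1 4 (by decide)

theorem root_a : IsRoot cs h ![1, 2, 2, 3, 2, 1] := by
  have h1 : IsRoot cs h ![1, 1, 2, 3, 2, 1] := root_step cs h (root_c cs h) 3 (by decide)
  exact root_step cs h h1 1 (by decide)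

theorem root_d : IsRoot cs h ![0, 1, 1, 2, 1, 0] := by
  have h0 : IsRoot cs h ![0, 1, 0, 0, 0, 0] := by
    have : (![0, 1, 0, 0, 0, 0] : Fin 6 → ℤ) = sr 1 := by funext k; revert k; decide
    rw [this]; exact isRoot_sr cs h 1
  have h1 : IsRoot cs h ![0, 1, 0, 1, 0, 0] := root_step cs h h0 3 (by decide)
  have h2 : IsRoot cs h ![0, 1, 1, 1, 0, 0] := root_step cs h h1 2 (by decide)
  have h3 : IsRoot cs h ![0, 1, 1, 1, 1, 0] := root_step cs h h2 4 (by decide)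
  exact root_step cs h h3 3 (by decide)

theorem root_e : IsRoot cs h ![0, 1, 1, 2, 2, 1] := by
  have h0 : IsRoot cs h ![0, 1, 1, 1, 1, 0] := root_step cs h (root_d cs h) 3 (by decide)
  have h1 : IsRoot cs h ![0, 1, 1, 1, 1, 1] := root_step cs h h0 5 (by decide)
  have h2 : IsRoot cs h ![0, 1, 1, 2, 1, 1] := root_step cs h h1 3 (by decide)
  exact root_step cs h h2 4 (by decide)

theorem exists_orth {P : Fin 6 → Prop}
    (hP : ¬ (P 0 ∧ P 2) ∧ ¬ (P 2 ∧ P 3) ∧ ¬ (P 1 ∧ P 3) ∧ ¬ (P 3 ∧ P 4) ∧ ¬ (P 4 ∧ P 5)) :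
    ∃ ρ, IsRoot cs h ρ ∧ ∀ j, P j → pairing C j ρ = 0 := by
  obtain ⟨h02, h23, h13, h34, h45⟩ := hP
  by_cases p3 : P 3
  · refine ⟨_, root_a cs h, fun j hj => ?_⟩
    have p1 : ¬ P 1 := fun p => h13 ⟨p, p3⟩
    have p2 : ¬ P 2 := fun p => h23 ⟨p, p3⟩
    have p4 : ¬ P 4 := fun p => h34 ⟨p3, p⟩
    fin_cases j
    · decide
    · exact absurd hj p1
    · exact absurd hj p2
    · decide
    · exact absurd hj p4
    · decide
  · by_cases p0 : P 0
    · have p2 : ¬ P 2 := fun p => h02 ⟨p0, p⟩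
      by_cases p4 : P 4
      · have p5 : ¬ P 5 := fun p => h45 ⟨p4, p⟩
        refine ⟨_, root_b cs h, fun j hj => ?_⟩
        fin_cases j
        · decide
        · decide
        · exact absurd hj p2
        · exact absurd hj p3
        · decide
        · exact absurd hj p5
      · refine ⟨_, root_c cs h, fun j hj => ?_⟩
        fin_cases j
        · decide
        · decide
        · exact absurd hj p2
        · exact absurd hj p3
        · exact absurd hj p4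
        · decide
    · by_cases p4 : P 4
      · have p5 : ¬ P 5 := fun p => h45 ⟨p4, p⟩
        refine ⟨_, root_d cs h, fun j hj => ?_⟩
        fin_cases j
        · exact absurd hj p0
        · decide
        · decide
        · exact absurd hj p3
        · decide
        · exact absurd hj p5
      · refine ⟨_, root_e cs h, fun j hj => ?_⟩
        fin_cases j
        · exact absurd hj p0
        · decide
        · decide
        · exact absurd hj p3
        · exact absurd hj p4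
        · decide

/-! ### the dichotomy -/

theorem fix_of_mem {J : Set (Fin 6)} {v : W} (hv : v ∈ WJ cs J) {ρ : Fin 6 → ℤ} (hρ : ∀ j ∈ J, pairing C j ρ = 0) :
    rep cs h v ρ = ρ := by
  induction hv using Subgroup.closure_induction with
  | mem y hy =>
    obtain ⟨j, hj, rfl⟩ := hy
    rw [rep_simple_eq, hρ j hj, zero_smul, sub_zero]
  | one => rw [map_one, Module.End.one_apply]
  | mul x y _ _ hx hy => rw [rep_mul_apply, hy, hx]
  | inv x _ hx =>
    have h1 := rep_inv_apply cs h x ρ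
    rwa [hx] at h1

theorem mem_WJ [Finite W] {J : Set (Fin 6)} {v : W} (hJ : ∀ i ∈ J, rep cs h v (sr i) = - sr i)
    (hN : ∀ i, i ∉ J → 0 ≤ rep cs h v (sr i)) : v ∈ WJ cs J := by
  have hneg : ∀ x : Fin 6 → ℤ, (∀ k, k ∉ J → x k = 0) → rep cs h v x = - x := by
    intro x hx
    rw [rep_sum cs h]
    conv_rhs => rw [Cfsg.Agent.KFacts.RgdPar.eq_sum_sr x, ← Finset.sum_neg_distrib]
    refine Finset.sum_congr rfl fun k _ => ?_
    by_cases hk : k ∈ J
    · rw [hJ k hk, smul_neg]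
    · rw [hx k hk, zero_smul, zero_smul, neg_zero]
  have hl := isLongest_wJ cs J
  suffices hs : v * wJ cs J = 1 by
    rw [eq_inv_of_mul_eq_one_left hs]
    exact inv_mem hl.1
  apply eq_one_of_nonneg cs h
  intro i
  change 0 ≤ rep cs h (v * wJ cs J) (sr i)
  rw [rep_mul_apply]
  by_cases hi : i ∈ J
  · have h1 : rep cs h (wJ cs J) (sr i) ≤ 0 := rep_longest_nonpos hl (sr_mem_PosJ hi)
    have h2 : ∀ k, k ∉ J → rep cs h (wJ cs J) (sr i) k = 0 := by
      intro k hk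
      rw [rep_apply_of_mem cs h hl.1 _ hk, sr_ne]
      rintro rfl
      exact hk hi
    rw [hneg _ h2]
    exact neg_nonneg.2 h1
  · obtain ⟨y, hy⟩ : ∃ y, y = rep cs h (wJ cs J) (sr i) - sr i := ⟨_, rfl⟩
    have hyJ : ∀ k, k ∉ J → y k = 0 := by
      intro k hk
      rw [hy, Pi.sub_apply, rep_apply_of_mem cs h hl.1 _ hk, sub_self]
    have e : rep cs h v (rep cs h (wJ cs J) (sr i)) = rep cs h v (sr i) - y := by
      have : rep cs h (wJ cs J) (sr i) = sr i + y := by rw [hy]; abel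
      rw [this, map_add, hneg y hyJ]
      abel
    rcases (((isRoot_sr cs h i).act (wJ cs J)).act v).pos_or_neg with h1 | h1
    · exact h1
    · exfalso
      rw [e] at h1
      have h2 : ∀ k, k ∉ J → rep cs h v (sr i) k = 0 := by
        intro k hk
        have h3 : (rep cs h v (sr i) - y) k ≤ 0 := h1 k
        rw [Pi.sub_apply, hyJ k hk, sub_zero] at h3
        exact le_antisymm h3 (hN i hi k)
      have h3 := hneg _ h2
      have h4 : rep cs h v (sr i) = - sr i := by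
        have h5 := congrArg (rep cs h v⁻¹) h3
        rwa [rep_inv_apply, map_neg, rep_inv_apply] at h5
      have h5 : (0 : ℤ) ≤ rep cs h v (sr i) i := hN i hi i
      rw [h4, Pi.neg_apply, sr_self] at h5
      omega

/-- **the dichotomy** -/
theorem e6_dich_C [Finite W] (w : W) (σ : Equiv.Perm (Fin 6)) (hσ : ∀ i j, C (σ i) (σ j) = C i j) (hσ1 : σ ≠ 1)
    (H : ∀ i, rep cs h w (sr (σ i)) = sr i ∨ (rep cs h w (sr (σ i)) ≤ 0 ∧ rep cs h w⁻¹ (sr i) ≤ 0)) :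
    (∃ δ, IsRoot cs h δ ∧ rep cs h w δ = -(δ ∘ σ)) ∨
      ∀ i, rep cs h w (sr (σ i)) = sr i ↔ i ∈ ({1, 2, 3, 4} : Set (Fin 6)) := by
  have hfl : ∀ i, σ i = fl i := by
    rcases aut (t := σ) hσ with h1 | h1
    · exact absurd (Equiv.ext h1) hσ1
    · exact h1
  obtain ⟨P, hP⟩ : ∃ P : Fin 6 → Prop, P = fun i => rep cs h w (sr (σ i)) = sr i := ⟨_, rfl⟩
  obtain ⟨v, hv⟩ : ∃ v, v = w * w0 cs := ⟨_, rfl⟩
  have e : ∀ i, rep cs h v (sr i) = - rep cs h w (sr (σ i)) := by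
    intro i
    rw [hv, rep_mul_apply, w0_fl, map_neg, hfl]
  have hJ : ∀ i, P i → rep cs h v (sr i) = - sr i := by
    intro i hi
    rw [hP] at hi
    rw [e, hi]
  have hN : ∀ i, ¬ P i → 0 ≤ rep cs h v (sr i) := by
    intro i hi
    rw [hP] at hi
    rw [e]
    exact neg_nonneg.2 ((H i).resolve_left hi).1
  have hvJ : v ∈ WJ cs {i | P i} := mem_WJ cs h hJ hN
  have hU := comb (fun i k => rep cs h v (sr i) k) P
    (fun i k hi hk => by
      show rep cs h v (sr i) k = _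
      rw [rep_apply_of_mem cs h hvJ _ hk]
      by_cases hik : i = k
      · rw [if_pos hik, hik, sr_self]
      · rw [if_neg hik, sr_ne (Ne.symm hik)])
    (fun i j hi hj => by
      show pairing C j (rep cs h v (sr i)) = _
      have h1 := cpr_rep cs h v (sr i) (isRoot_sr cs h j)
      rw [hJ j hj, cpr_neg_right cs h _ (isRoot_sr cs h j), cpr_sr, cpr_sr, pair_sr] at h1
      omega)
    (fun h1 => no_neg cs h v ⟨hJ 0 h1.1, hJ 2 h1.2.1, hJ 4 h1.2.2.1, hJ 5 h1.2.2.2⟩)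
  rcases hU with h1 | h1
  · left
    obtain ⟨ρ, hρ, h2⟩ := exists_orth cs h h1
    have h3 : rep cs h v ρ = ρ := fix_of_mem cs h hvJ h2
    rw [hv, rep_mul_apply, w0_apply, map_neg] at h3
    refine ⟨ρ ∘ fl, ?_, ?_⟩
    · have h4 := (hρ.act (w0 cs)).neg
      rwa [w0_apply, neg_neg] at h4
    · have h4 : (ρ ∘ fl) ∘ σ = ρ := by
        funext i
        show ρ (fl (σ i)) = ρ i
        rw [hfl, fl_fl]
      rw [h4, ← h3, neg_neg, h3]
  · right
    intro i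
    rw [← h1 i, hP]

/-- **the dichotomy** -/
theorem e6_dich {W : Type*} [Group W] (cs : CoxeterSystem CoxeterMatrix.E₆ W) [Finite W] {A : Fin 6 → Fin 6 → ℤ}
    (h : IsCartan CoxeterMatrix.E₆ A) (w : W) (σ : Equiv.Perm (Fin 6)) (hσ : ∀ i j, A (σ i) (σ j) = A i j)
    (hσ1 : σ ≠ 1)
    (H : ∀ i, rep cs h w (sr (σ i)) = sr i ∨ (rep cs h w (sr (σ i)) ≤ 0 ∧ rep cs h w⁻¹ (sr i) ≤ 0)) :
    (∃ δ, IsRoot cs h δ ∧ rep cs h w δ = -(δ ∘ σ)) ∨
      ∀ i, rep cs h w (sr (σ i)) = sr i ↔ i ∈ ({1, 2, 3, 4} : Set (Fin 6)) := by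
  have hA := eq_C h
  subst hA
  exact e6_dich_C cs h w σ hσ hσ1 H

theorem dich : Cfsg.Agent.H441.GS.Dich := fun _ _ _ cs w σ hσ hσ1 H =>
  e6_dich cs _ w σ hσ hσ1 H

end Cfsg.Agent.H937.Gs.E6D
end

-- part: H441/GS/FinSix
section
/-!
# The row `E₆(q)` of S4327, helper441 (with helper808, helper937 and helper406)
-/

set_option autoImplicit false

namespace Cfsg.Agent.H441.GS

open Cfsg Cfsg.Agent.ChevalleyStructure.CoxeterGeomTypes Cfsg.Agent.Nodes.RGDChev Cfsg.Agent.Nodes.KindE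

universe u

/-- **the row `E₆(q)`** -/
theorem row_e6 (L : Type u) [Group L] [Finite L] [IsSimpleGroup L] (h : Lie.IsoChevE6 L) : H147.Gen.Gen11 L :=
  row_six (fun _ _ _ hK => H406.GS.small isType6 (by simp) hK) H937.Gs.E6D.dich (fun K _ _ => H808.Gs.bad K) h

end Cfsg.Agent.H441.GS
end

-- part: H915/Gs/RowG2
section
/-!
# S4327: the row `G₂(q)` (helper915)

* `XX_pos`, `XX_neg` : the root groups of the long fundamental root in the hexagonal system;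
* `good_case` : the Weyl group element of the automorphism maps the highest root to its negative;
* `reach_all` : all automorphisms of prime order (the polarities: helper929; the Weyl group element fixes the long
  fundamental root: helper445);
* `row_g2`.
-/

set_option autoImplicit false
set_option linter.unusedSectionVars false

namespace Cfsg.Agent.H915.RowG2

open CoxeterSystem Cfsg.Agent.ChevalleyStructure.CoxeterGeom Cfsg.Agent.Tits.Roots Cfsg.Agent.Tits.Core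
  Cfsg.Agent.Nodes.Reps Cfsg.Agent.Nodes.BNOf Cfsg.Agent.Nodes.Bruhat Cfsg.Agent.Nodes.Coroot
  Cfsg.Agent.Nodes.PosPair
open Cfsg.Agent.KFacts.RgdDiag Cfsg.Agent.KFacts.RgdRigid Cfsg.Agent.KFacts.RgdChevCoord Cfsg.Agent.KFacts.RgdAut
open Cfsg.Agent.H915.Gs (Gn Reach Reach₁ im)
open Cfsg.Lie Cfsg.Agent.ChevalleyStructure Cfsg.Agent.ChevalleyStructure.Elts
  Cfsg.Agent.ChevalleyStructure.CoxeterGeomTypes Cfsg.Agent.Nodes.RGDChev Cfsg.Agent.Nodes.KindE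
open Cfsg.Agent.H441.GS Cfsg.Agent.H400.Gs Cfsg.Agent.H400.TwoExc
open Cfsg.Agent.H542.Pi.G2P (hp hD)
open Cfsg.Agent.H122.S5 (xe ph sub range_ph)
open Cfsg.Agent.LieClassical.SLTwoUnipotent (u l)
open Cfsg.Agent.Hexagon.G2Side (rgdz tab)
open Cfsg.Agent.H445.Gs.Exc (Frm)
open scoped Pointwise

/-! ### combinatorics -/

theorem A01 : cartanOf chevG2 2 0 1 = -3 := by decide +kernel
theorem A10 : cartanOf chevG2 2 1 0 = -1 := by decide +kernel

/-- the highest root -/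
abbrev hr : Fin 2 → ℤ := toV [3, 2]

theorem hr_eq : hr = (3 : ℤ) • sr 0 + (2 : ℤ) • sr 1 := by
  funext i
  fin_cases i <;> rfl

set_option backward.isDefEq.respectTransparency false in
theorem conn : ∀ J : Set (Fin 2), J.Nonempty → J ≠ Set.univ → ∃ a ∈ J, ∃ b, b ∉ J ∧ CoxeterMatrix.G₂ a b ≠ 2 :=
  conn_of (M := CoxeterMatrix.G₂) ![0, 1] ![0, 0] (by decide) (by decide) (by decide)

section Comb

variable {W : Type} [Group W] (cs : CoxeterSystem CoxeterMatrix.G₂ W)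

theorem rep_w1 : rep cs (hp.isCartan) (cs.simple 0 * cs.simple 1) hr = sr 1 := by
  have e1 : pairing (cartanOf chevG2 2) 1 hr = 1 := by decide +kernel
  have e2 : pairing (cartanOf chevG2 2) 0 (toV [3, 1]) = 3 := by decide +kernel
  have e3 : hr - (1 : ℤ) • sr 1 = toV [3, 1] := by
    funext i
    fin_cases i <;> rfl
  have e4 : rep cs (hp.isCartan) (cs.simple 1) hr = toV [3, 1] := by
    rw [rep_simple_eq, e1, e3]
  rw [rep_mul_apply, e4, rep_simple_eq, e2]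
  funext i
  fin_cases i <;> rfl

end Comb

/-! ### the hexagonal system -/

section Hex

variable {K : Type} [Field K]

theorem vec6 : vec chevG2 2 6 = sr 1 := by decide +kernel

theorem vec5 : vec chevG2 2 5 = -sr 1 := by decide +kernel

theorem XX_pos : XX chevG2 2 K (sr 1) = (rgdz K).X 6 := by
  have h1 : tab 6 = 6 := by decide +kernel
  change (XV chevG2 2 K (sr 1)).subgroupOf _ = (chevG2.rootSubgroup K (tab 6)).subgroupOf (chevG2.group K)
  rw [h1, ← vec6, XV_vec hp K (by decide +kernel)]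

theorem XX_neg : XX chevG2 2 K (-sr 1) = (rgdz K).X 0 := by
  have h1 : tab 0 = 5 := by decide +kernel
  change (XV chevG2 2 K (-sr 1)).subgroupOf _ = (chevG2.rootSubgroup K (tab 0)).subgroupOf (chevG2.group K)
  rw [h1, ← vec5, XV_vec hp K (by decide +kernel)]

end Hex

/-! ### the chain -/

section Chain

variable {K : Type} [Field K] [Fintype K] {W : Type} [Group W] [Finite W] (cs : CoxeterSystem CoxeterMatrix.G₂ W)
  (p : ℕ) [Fact p.Prime] [CharP K p]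

theorem isRoot_hr : IsRoot cs hp.isCartan hr := (grG cs hp).rr

theorem hc : ∀ x, IsRoot cs hp.isCartan x → 0 ≤ cpr cs hp.isCartan x hr →
    ∀ u ∈ XX chevG2 2 K x, ∀ z ∈ XX chevG2 2 K hr, u * z = z * u := by
  intro x hx h0 u hu z hz
  refine Subtype.ext (commX hp chkNG hx (isRoot_hr cs) ?_ ((grG cs hp).add_not_root hx h0) hu hz)
  rintro rfl
  rw [cpr_neg cs hp.isCartan _ (isRoot_hr cs), cpr_self cs hp.isCartan (isRoot_hr cs)] at h0
  omega

include cs p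

/-- from the highest root to the hexagonal system -/
theorem transfer {a : MulAut ↥(chevG2.group K)} (h1 : ∀ z, a z ∈ XX chevG2 2 K hr ↔ z ∈ XX chevG2 2 K (-hr)) :
    OP a ((rgdz K).X 0) ((rgdz K).X 6) := by
  have R := rgd (K := K) hp cs p
  have h2 : im a (XX chevG2 2 K (-hr)) = XX chevG2 2 K hr := by
    ext z
    constructor
    · rintro ⟨y, hy, rfl⟩
      exact (h1 y).2 hy
    · intro hz
      refine ⟨a⁻¹ z, ?_, ?_⟩
      · rw [SetLike.mem_coe, ← h1, MulAut.apply_inv_self]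
        exact hz
      · change a (a⁻¹ z) = z
        rw [MulAut.apply_inv_self]
  have h3 : OP a (XX chevG2 2 K (-hr)) (XX chevG2 2 K (- -hr)) := by
    rw [neg_neg]
    exact OP.of_im h2
  have h4 := OP.root R (isRoot_hr cs).neg h3 (cs.simple 0 * cs.simple 1)
  rw [map_neg, rep_w1 cs, neg_neg] at h4
  rw [← XX_pos, ← XX_neg]
  exact h4

theorem transfer_reach {a : MulAut ↥(chevG2.group K)} {k : ℕ}
    (hj : Reach a k (XX chevG2 2 K hr ⊔ XX chevG2 2 K (-hr))) :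
    Reach a k ((rgdz K).X 0 ⊔ (rgdz K).X 6) := by
  have R := rgd (K := K) hp cs p
  obtain ⟨g, hg⟩ := exists_rp cs R.nsys (cs.simple 0 * cs.simple 1)
  have h7 := hj.conj g
  refine h7.sub (sup_le ?_ ?_)
  · rw [← XX_neg, ← rep_w1 cs, ← map_neg]
    intro z hz
    have h9 : z ∈ cj g (XX chevG2 2 K (-hr)) := by rwa [R.conj_rp hg (isRoot_hr cs).neg]
    exact Subgroup.map_mono le_sup_right h9
  · rw [← XX_pos, ← rep_w1 cs]
    intro z hz
    have h9 : z ∈ cj g (XX chevG2 2 K hr) := by rwa [R.conj_rp hg (isRoot_hr cs)]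
    exact Subgroup.map_mono le_sup_left h9

omit cs p [Finite W] [Group W] [Fact p.Prime] [CharP K p] in
theorem good_hex [IsSimpleGroup ↥(chevG2.group K)] : Cfsg.Agent.RootSeq.Seg.Good (rgdz K).r2 :=
  Cfsg.Agent.H164.Gs.good_simple (Cfsg.Agent.Hexagon.G2Side.gen K) Cfsg.Agent.Hexagon.G2End.U_ne_top

omit cs p [Finite W] [Group W] [Fact p.Prime] [CharP K p] in
theorem exists_two (h3 : 3 ≤ Fintype.card K) : ∃ s : K, s ≠ 0 ∧ s ≠ 1 := by
  classical
  by_contra hcon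
  push Not at hcon
  have h5 : Fintype.card K ≤ ({0, 1} : Finset K).card := by
    rw [← Finset.card_univ]
    refine Finset.card_le_card fun x _ => ?_
    rw [Finset.mem_insert, Finset.mem_singleton]
    by_cases hx : x = 0
    · exact Or.inl hx
    · exact Or.inr (hcon x hx)
  have h6 := Finset.card_le_two (a := (0 : K)) (b := 1)
  omega

/-- the start, `q ≥ 4` -/
theorem start_pair' (hq : 4 ≤ Fintype.card K) {α : MulAut ↥(chevG2.group K)} {m : ℕ} (hm : m.Prime)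
    (hα : α ^ m = 1) {y : ↥(chevG2.group K)} {τ : K ≃+* K} {c : K}
    (hc : c ≠ 0) (hτ : τ ^ m = 1)
    (h2 : ∀ t, (MulAut.conj y * α * (MulAut.conj y)⁻¹) (xc hp (-hr) t) = xc hp hr (c * τ t)) :
    Reach (MulAut.conj y * α * (MulAut.conj y)⁻¹) 5 (XX chevG2 2 K hr ⊔ XX chevG2 2 K (-hr)) := by
  have C := coords (K := K) hp cs p
  have hr' := isRoot_hr cs
  obtain ⟨a, ha⟩ : ∃ a, a = MulAut.conj y * α * (MulAut.conj y)⁻¹ := ⟨_, rfl⟩
  rw [← ha] at h2 ⊢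
  have ham : a ^ m = 1 := by rw [ha, _root_.conj_pow, hα, mul_one, mul_inv_cancel]
  obtain ⟨s, hs, hsr⟩ := (isRoot_iff hp cs _).1 hr'.neg
  obtain ⟨ψ, hψd⟩ : ∃ ψ, ψ = ph hp.inList K hs := ⟨_, rfl⟩
  have hu : ∀ t, ψ (u t) = xc hp (-hr) t := fun t => by rw [hψd, ph_u, hsr]
  have hl : ∀ t, ψ (l t) = xc hp hr t := fun t => by rw [hψd, ph_l, hsr, neg_neg]
  have hψ : ∀ t, a (ψ (u t)) = ψ (l (c * τ t)) := fun t => by rw [hu, h2, hl]
  have hne : ψ (u 1) ≠ 1 := by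
    rw [hu]
    exact (C.coord _ hr'.neg).ne_one one_ne_zero
  refine (reach_sl2 hq hc hψ hm hτ ham hne).1.sub (sup_le ?_ ?_)
  · intro z hz
    obtain ⟨t, rfl⟩ := ((C.coord _ hr').mem z).1 hz
    exact ⟨l t, hl t⟩
  · intro z hz
    obtain ⟨t, rfl⟩ := ((C.coord _ hr'.neg).mem z).1 hz
    exact ⟨u t, hu t⟩

/-- **the good case** -/
theorem good_case [IsSimpleGroup ↥(chevG2.group K)] (h3 : 3 ≤ Fintype.card K)
    {α : MulAut ↥(chevG2.group K)} (hα : (orderOf α).Prime) {y₀ k b : ↥(chevG2.group K)} {w : W}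
    {β : MulAut ↥(chevG2.group K)} (e : MulAut.conj y₀ * α * (MulAut.conj y₀)⁻¹ = MulAut.conj (k * b) * β)
    (hk : Rp cs (rgd (K := K) hp cs p).nsys w k)
    (hb : b ∈ RGD.B cs hp.isCartan (TT chevG2 K) (XX chevG2 2 K)) (D : Diag (TT chevG2 K) (XX chevG2 2 K) β 1)
    (hw : rep cs hp.isCartan w hr = -hr) : Reach α 11 ⊤ := by
  have R := rgd (K := K) hp cs p
  have C := coords (K := K) hp cs p
  have H := coroots (K := K) hp cs p
  have hG1 := G1_eq_top (K := K) hp cs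
  have hG : GG cs hp.isCartan (TT chevG2 K) (XX chevG2 2 K) = ⊤ := GG_eq_top hG1
  obtain ⟨y, τ, c, hc0, hτ, h1, h2⟩ := semi_gen R hG C H conn (isRoot_hr cs) (grG cs hp).hdr (hc cs) (v := 1)
    (w := w) (σ := 1) (fun _ _ => rfl) (by rw [map_one]; exact hw) (w₁ := w) (by rw [map_one]; exact hw)
    hk hb D e (pow_orderOf_eq_one α)
  apply reach_back (y := y)
  have hO := transfer cs p h1
  have hF := exists_two h3
  rcases Nat.lt_or_ge (Fintype.card K) 4 with hq | hq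
  · have hq3 : Nat.card K = 3 := by
      rw [Nat.card_eq_fintype_card]
      omega
    exact (Cfsg.Agent.H867.Gs.LongSL.reach_g2 Cfsg.Agent.Hexagon.G2End.hexPar (by rw [hq3]; exact Nat.prime_three)
      (by rw [hq3]) (fun _ => rfl) good_hex (Cfsg.Agent.Hexagon.G2Side.gen K) hO).mono (by norm_num) (by norm_num)
  · have hj := transfer_reach cs p (start_pair' cs p hq hα (pow_orderOf_eq_one α) hc0 hτ h2)
    exact (Cfsg.Agent.H164.Gs.chain_g2 Cfsg.Agent.Hexagon.G2End.hexPar (fun _ => rfl) hF good_hex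
      (Cfsg.Agent.Hexagon.G2Side.gen K) hO hj).mono (by norm_num) (by norm_num)

/-- a frame automorphism permutes the fundamental root groups -/
theorem perm_of_diag {β : MulAut ↥(chevG2.group K)} {σ : Equiv.Perm (Fin 2)}
    (D : Diag (TT chevG2 K) (XX chevG2 2 K) β σ) : Cfsg.Agent.H70.ChevField.Perm chevG2 K β σ where
  pos i := by
    have h1 : ∀ j : Fin 2, XX chevG2 2 K (sr j) = Cfsg.Agent.H70.ChevFix.XX chevG2 K (chevG2.simple j) := fun j => by
      change (XV chevG2 2 K (sr j)).subgroupOf _ = _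
      rw [XV_sr hp j]
    ext x
    rw [Subgroup.mem_pointwise_smul_iff_inv_smul_mem]
    have h2 := D.pos i (β⁻¹ x)
    rw [MulAut.apply_inv_self, h1 (σ i), h1 i] at h2
    exact h2.symm
  neg i := by
    have h1 : ∀ j : Fin 2, XX chevG2 2 K (-sr j) = Cfsg.Agent.H70.ChevFix.XX chevG2 K (chevG2.neg (chevG2.simple j)) :=
        fun j => by
      change (XV chevG2 2 K (-sr j)).subgroupOf _ = _
      rw [XV_neg_sr hp j]
    ext x
    rw [Subgroup.mem_pointwise_smul_iff_inv_smul_mem]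
    have h2 := D.neg i (β⁻¹ x)
    rw [MulAut.apply_inv_self, h1 (σ i), h1 i] at h2
    exact h2.symm

/-- **all automorphisms of prime order** -/
theorem reach_all [IsSimpleGroup ↥(chevG2.group K)] (h3 : 3 ≤ Fintype.card K) {α : MulAut ↥(chevG2.group K)}
    (hα : (orderOf α).Prime) : Reach α 11 ⊤ := by
  have R := rgd (K := K) hp cs p
  have hG1 := G1_eq_top (K := K) hp cs
  have hG : GG cs hp.isCartan (TT chevG2 K) (XX chevG2 2 K) = ⊤ := GG_eq_top hG1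
  have : Finite ↥(chevG2.group K) := Cfsg.Agent.H122.S5.finite_group (D := chevG2) K
  have hα1 : α ≠ 1 := by
    rintro rfl
    rw [orderOf_one] at hα
    exact Nat.not_prime_one hα
  obtain ⟨y, k, b, w, β, σ, e, hk, hb, D, hB, hw, hmax, hst⟩ := exists_form R hG (B_ne_top R) α
  rcases Cfsg.Agent.H245.DG.G2.perm_cases σ with h1 | h1
  · have h2 : σ = 1 := h1
    subst h2
    rcases Cfsg.Agent.H915.HexDich.dich (s := (0 : Fin 2)) (l := 1) (by decide) (by decide) A01 A10 (hw hα1)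
      (fun i => by
        rcases hst i with h3 | h3
        · exact Or.inl h3
        · exact Or.inr h3.1) with h2 | ⟨h2, h4⟩
    · rw [← hr_eq] at h2
      exact good_case cs p h3 hα e hk hb D h2
    · refine Cfsg.Agent.H445.Gs.Exc.G2.reach cs hp p (exists_two h3)
        (F := (⟨D, hB, hk, hb, hmax, h2, fun j hj => ?_⟩ : Frm (rgd (K := K) hp cs p) β k b w 1)) e
      have h5 : j = 0 := by omega
      subst h5
      exact h4
  · have h2 : σ = Cfsg.Agent.H69.OutGF.flip2 := h1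
    have hT : Cfsg.Agent.H542.Pi.Ty chevG2 K α Cfsg.Agent.H69.OutGF.flip2 := by
      refine ⟨y⁻¹ * (k * b) * β y, β, ?_, h2 ▸ perm_of_diag cs p D⟩
      have h4 : MulAut.conj (k * b) * β * MulAut.conj y = MulAut.conj (k * b) * (MulAut.conj (β y) * β) := by
        rw [mul_assoc, Cfsg.Agent.H542.Pi.mul_conj]
      have h5 : α = (MulAut.conj y)⁻¹ * (MulAut.conj (k * b) * β) * MulAut.conj y := by
        rw [← e]
        group
      rw [h5, mul_assoc, h4, ← map_inv, ← mul_assoc, ← mul_assoc, ← map_mul, ← map_mul]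
    obtain ⟨g, β', e', hβ⟩ := id hT
    have h3' : CharP K 3 := Cfsg.Agent.H542.Pi.G2P.charP (by rwa [Nat.card_eq_fintype_card]) hβ
    exact Cfsg.Agent.H929.Gs.G2.reach_eleven hT hα

end Chain

/-- **the row `G₂(q)`** -/
theorem row_g2 (L : Type*) [Group L] [IsSimpleGroup L] (hL : Lie.IsoChevG2 L) : H147.Gen.Gen11 L := by
  obtain ⟨K, _, _, h3, ⟨e⟩⟩ := hL
  have hs : IsSimpleGroup ↥(chevG2.group K) := e.symm.isSimpleGroup
  refine H147.Gen.Gen11.congr e.symm (gen_of_reach fun α hα => ?_)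
  obtain ⟨p, hpK⟩ := CharP.exists K
  have hpp : p.Prime := CharP.char_is_prime K p
  have : Fact p.Prime := ⟨hpp⟩
  have hW : Finite CoxeterMatrix.G₂.Group := finite_W hp CoxeterMatrix.G₂.toCoxeterSystem
  exact reach_all CoxeterMatrix.G₂.toCoxeterSystem p h3 hα

end Cfsg.Agent.H915.RowG2
end

-- part: H453/Gs/TD4
section
/-!
# The row `³D₄(q)` of S4327 (helper453)

* `perm_one` : no diagram part;
* `X10'` : a negative root group;
* `good_case`, `reach_all`, `row` : the row from the input `Bad` (`w α₀ = α₀`).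
-/

set_option autoImplicit false
set_option linter.unusedSectionVars false

namespace Cfsg.Agent.H453.Gs.TD4

open CoxeterSystem Cfsg.Agent.ChevalleyStructure.CoxeterGeom Cfsg.Agent.Tits.Roots Cfsg.Agent.Tits.Core
  Cfsg.Agent.Nodes.Reps Cfsg.Agent.Nodes.BNOf Cfsg.Agent.Nodes.Bruhat Cfsg.Agent.Nodes.Coroot
  Cfsg.Agent.Nodes.PosPair
open Cfsg.Agent.KFacts.RgdDiag Cfsg.Agent.KFacts.RgdRigid Cfsg.Agent.KFacts.RgdField
open Cfsg.Lie Cfsg.Agent.ChevalleyStructure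
open Cfsg.Agent.Nodes.RGDTwD4 (A isCartan foldData hp rgd X T n J L rho eps foldGrp)
open Cfsg.Agent.Nodes.RGDTwGen Cfsg.Agent.Nodes.RGDChev Cfsg.Agent.Nodes.RGDFold Cfsg.Agent.Nodes.RGDFoldSL
open Cfsg.Agent.H915.Gs (Reach im)
open Cfsg.Agent.H400.Gs (OP)
open Cfsg.Agent.H400.TwoExc (toV)
open Cfsg.Agent.Cit.HexBase Cfsg.Agent.TitsThree.RankTwoZ
open Cfsg.Agent.Omega.EH3.Kf

universe u

variable {W : Type*} [Group W] {cs : CoxeterSystem CoxeterMatrix.G₂ W}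

/-- the highest root -/
abbrev rr : Fin 2 → ℤ := toV [2, 3]

theorem rr_eq : (3 : ℤ) • sr (1 : Fin 2) + (2 : ℤ) • sr (0 : Fin 2) = rr := by decide +kernel

section

variable {K : Type u} [Field K] [Fintype K] {q : ℕ} {φ : K →+* K}

omit [Fintype K] in
theorem X10' (hle : twistedD4 K q ≤ D4Fixed.fix φ) : X φ q (-rr) = Hexagon.TwD4RGD.X K q 10 :=
  FamD4.X_eq (o := [0]) hle (by decide +kernel) (by decide +kernel) (by decide +kernel)

/-- no diagram part -/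
theorem perm_one (hφ : ∀ x, φ x = x ^ q) (hq : 1 < q) (hK : Fintype.card K = q ^ 3)
    {β : MulAut ↥(twistedD4 K q)} {σ : Equiv.Perm (Fin 2)} (D : Diag (T K q) (X φ q) β σ) : σ = 1 := by
  have hc := H934.RowTwD4.card_X hφ hq hK
  have h8 : q ≠ q ^ 3 := by
    have : q ^ 1 < q ^ 3 := Nat.pow_lt_pow_right hq (by norm_num)
    rw [pow_one] at this
    exact this.ne
  have h9 : σ 0 = 0 := by
    have h7 := Cfsg.Agent.KFacts.RgdNodes.Diag.card_eq D 0
    rw [hc, hc, if_pos rfl] at h7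
    by_contra h10
    rw [if_neg h10] at h7
    first
    | exact h8 h7
    | exact h8 h7.symm
  have h10 : σ 1 = 1 := by
    have h11 : σ 1 ≠ 0 := by
      intro h12
      rw [← h9] at h12
      exact absurd (σ.injective h12) (by decide)
    have key : ∀ x : Fin 2, x ≠ 0 → x = 1 := by decide
    exact key _ h11
  ext i
  fin_cases i
  · exact congrArg Fin.val h9
  · exact congrArg Fin.val h10

end

section Good

open Cfsg.Agent.H400.TwoExc in
/-- the chain from an automorphism mapping `X (-r)` to `X r` -/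
theorem op_of {K : Type u} [Field K] [Fintype K] {q : ℕ} {φ : K →+* K} (hq : IsPrimePow q)
    (hK : Fintype.card K = q ^ 3) {σ : K ≃+* K} (hσ : ∀ x, σ x = x ^ q) (hφ : ∀ x, φ x = x ^ q)
    {a : MulAut ↥(twistedD4 K q)} (h1 : ∀ z, a z ∈ X φ q rr ↔ z ∈ X φ q (-rr)) :
    OP a ((Cit.HexD4.d4 hq hK hσ).X 0) ((Cit.HexD4.d4 hq hK hσ).X 6) := by
  have hle := D4Fixed.twisted_le_fix hK hφ
  obtain ⟨c, hc⟩ : ∃ c, c = Cit.HexD4.d4 hq hK hσ := ⟨_, rfl⟩
  have e4 : X φ q rr = c.X 4 := by rw [hc]; exact TwD.X4' hle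
  have e10 : X φ q (-rr) = c.X 10 := by rw [hc]; exact X10' hle
  rw [← hc]
  rw [e4, e10] at h1
  have h2 : im a (c.X 10) = c.X 4 := by
    ext z
    constructor
    · rintro ⟨x, hx, rfl⟩
      exact (h1 x).2 hx
    · intro hz
      obtain ⟨x, rfl⟩ := a.surjective z
      exact ⟨x, (h1 x).1 hz, rfl⟩
  have h3 := (OP.of_im h2).conj ((c.n1 * c.n6) ^ 1)
  rw [H445.Gs.Exc.map_X c (c.maps_rot 1), H445.Gs.Exc.map_X c (c.maps_rot 1)] at h3
  have e1 : (10 : ZMod (2 * 6)) + 2 * ((1 : ℕ) : ZMod (2 * 6)) = 0 := by decide +kernel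
  have e2 : (4 : ZMod (2 * 6)) + 2 * ((1 : ℕ) : ZMod (2 * 6)) = 6 := by decide +kernel
  rwa [e1, e2] at h3

theorem conj_pair {K : Type u} [Field K] [Fintype K] {q : ℕ} {φ : K →+* K} (hq : IsPrimePow q)
    (hK : Fintype.card K = q ^ 3) {σ : K ≃+* K} (hσ : ∀ x, σ x = x ^ q) (hφ : ∀ x, φ x = x ^ q)
    {a : MulAut ↥(twistedD4 K q)} {N : ℕ} (h1 : Reach a N (X φ q rr ⊔ X φ q (-rr))) :
    Reach a N ((Cit.HexD4.d4 hq hK hσ).X 0 ⊔ (Cit.HexD4.d4 hq hK hσ).X 6) := by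
  have hle := D4Fixed.twisted_le_fix hK hφ
  obtain ⟨c, hc⟩ : ∃ c, c = Cit.HexD4.d4 hq hK hσ := ⟨_, rfl⟩
  have e4 : X φ q rr = c.X 4 := by rw [hc]; exact H400.TwoExc.TwD.X4' hle
  have e10 : X φ q (-rr) = c.X 10 := by rw [hc]; exact X10' hle
  rw [← hc]
  rw [e4, e10] at h1
  have h3 := h1.conj ((c.n1 * c.n6) ^ 1)
  have h4 : (c.X 10).map (MulAut.conj ((c.n1 * c.n6) ^ 1)).toMonoidHom = c.X 0 := by
    rw [H445.Gs.Exc.map_X c (c.maps_rot 1)]
    congr 1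
  have h5 : (c.X 4).map (MulAut.conj ((c.n1 * c.n6) ^ 1)).toMonoidHom = c.X 6 := by
    rw [H445.Gs.Exc.map_X c (c.maps_rot 1)]
    congr 1
  refine h3.sub (sup_le ?_ ?_)
  · rw [← h4]
    exact Subgroup.map_mono le_sup_right
  · rw [← h5]
    exact Subgroup.map_mono le_sup_left

variable {K : Type u} [Field K] [Fintype K] {q : ℕ} {φ : K →+* K}

theorem card_fx (hq : 1 < q) (hK : Fintype.card K = q ^ 3) (hφ : ∀ x, φ x = x ^ q) [Fintype ↥(Fx φ 1)] :
    Fintype.card ↥(Fx φ 1) = q := by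
  rw [← Nat.card_eq_fintype_card]
  refine Eq.trans ?_ (ChevalleyStructure.FixedCard.card_fixed hq hK)
  refine Nat.card_congr (Equiv.subtypeEquivRight fun a => ?_)
  rw [mem_Fx]
  change φ a = a ↔ _
  rw [hφ]

/-- **The case `w r = -r`.** -/
theorem good_case {W : Type*} [Group W] [Finite W] (cs : CoxeterSystem CoxeterMatrix.G₂ W) (p : ℕ) [Fact p.Prime]
    [CharP K p] (hq : IsPrimePow q) (hK : Fintype.card K = q ^ 3) (hφ : ∀ x, φ x = x ^ q)
    (hG : GG cs isCartan (T K q) (X φ q) = ⊤)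
    {α β : MulAut ↥(twistedD4 K q)} (hα : (orderOf α).Prime)
    {y k b : ↥(twistedD4 K q)} {w : W} (hk : Rp cs (_root_.Cfsg.Agent.Nodes.RGDTwD4.rgd cs hK hφ p).nsys w k)
    (hb : b ∈ RGD.B cs isCartan (T K q) (X φ q)) (D : Diag (T K q) (X φ q) β 1)
    (e : MulAut.conj y * α * (MulAut.conj y)⁻¹ = MulAut.conj (k * b) * β)
    (hw : rep cs isCartan w rr = -rr) : Reach α 11 ⊤ := by
  have hle := D4Fixed.twisted_le_fix hK hφ
  have hq1 : 1 < q := hq.one_lt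
  have R := _root_.Cfsg.Agent.Nodes.RGDTwD4.rgd cs hK hφ p
  have H := H400.TwoExc.TwD.gi (cs := cs) p hK hφ
  have hr := H.rr
  have hd := H.toGR.hdr
  have hc := H.lr.comm
  obtain ⟨σ, hσ⟩ : ∃ σ : K ≃+* K, ∀ x, σ x = x ^ q :=
    ⟨RingEquiv.ofBijective φ ((Finite.injective_iff_bijective).1 φ.injective), hφ⟩
  obtain ⟨c, hcd⟩ : ∃ c, c = Cit.HexD4.d4 hq hK hσ := ⟨_, rfl⟩
  by_cases hq4 : 4 ≤ q
  · -- `q ≥ 4`
    have FG := foldGrp hφ hle
    have N0 : NodeOK chevD4 J L rho 0 14 [] := Nodes.RGDTwNode.D4.nodeOK 0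
    have hf0 : ∀ s ∈ (14 :: [] : List ℕ), ∀ t : K, ((eps s : ℤ) : K) * φ t = φ t := fun s hs t => by
      rw [Nodes.RGDTwNode.D4.eps_one 0 s hs, Int.cast_one, one_mul]
    have Ci := KFacts.TwESix.NodeCoord.coord FG N0 hf0
    have hwS := Phi_wS FG N0 hf0
    have ho : ∃ w : W, rep cs isCartan w (sr 0) = rr := by
      refine ⟨cs.simple 0 * cs.simple 1, ?_⟩
      rw [rep_mul_apply, rep_simple_eq, rep_simple_eq]
      decide +kernel
    obtain ⟨ψ, χp, χm, C, hQ⟩ := H937.Gs.TwS.exists_chart (R := R) (i := 0) Ci hwS hr H.toGR.dom hc ho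
    have : Fintype ↥(Fx φ 1) := Fintype.ofFinite _
    obtain ⟨y', h1, h5, -⟩ := H937.Gs.TwS.start_orb R (F := ↥(Fx φ 1)) (by rw [card_fx hq1 hK hφ]; exact hq4) hG hr hd hc C hQ
      (v := 1) (w := w) (by rw [map_one]; exact hw) hk hb D e hα (pow_orderOf_eq_one α)
    have h6 := H164.Gs.HG.chain_td4 (Cit.HexD4.d4 hq hK hσ) (by omega : 3 ≤ q) hK hσ (op_of hq hK hσ hφ h1)
      (conj_pair hq hK hσ hφ h5)
    exact H441.GS.reach_back (y := y') (h6.mono (by norm_num) (by norm_num))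
  · obtain ⟨y', k₁, k₂, -, -, h1, -⟩ := H441.GS.exists_swap_gen R hr hd hc (v := 1) (w := w) (w₁ := w) (σ := 1)
      (fun _ _ => rfl) (by rw [map_one]; exact hw) (by rw [map_one]; exact hw) hk hb D e
    have hO := op_of hq hK hσ hφ h1
    have h23 : q = 2 ∨ q = 3 := by omega
    rcases h23 with rfl | rfl
    · have h6 := H867.Gs.LongSL.reach_td4_two (H164.Gs.HG.par' (Cit.HexD4.d4 hq hK hσ)) (by rw [hK]; norm_num) hσ
        (H164.Gs.HG.good _) (H164.Gs.HG.gen' _) hO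
      exact H441.GS.reach_back (y := y') (h6.mono (by norm_num) (by norm_num))
    · have h6 := H867.Gs.LongSL.reach_td4 (H164.Gs.HG.par' (Cit.HexD4.d4 hq hK hσ)) (by rw [hK]; norm_num) hσ
        (H164.Gs.HG.good _) (H164.Gs.HG.gen' _) hO
      exact H441.GS.reach_back (y := y') (h6.mono (by norm_num) (by norm_num))

end Good

section Row

open Cfsg.Agent.H445.Gs.Exc (Frm)

variable {K : Type u} [Field K] [Fintype K] {q : ℕ}

/-- the input for `w α₀ = α₀` -/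
def Bad (K : Type u) [Field K] [Fintype K] (q : ℕ) : Prop :=
  ∀ (p : ℕ) [Fact p.Prime] [CharP K p] (_ : IsPrimePow q) (hK : Fintype.card K = q ^ 3) (φ : K →+* K)
    (hφ : ∀ x, φ x = x ^ q) (α β : MulAut ↥(twistedD4 K q)) (y k b : ↥(twistedD4 K q))
    (w : CoxeterMatrix.G₂.Group),
    _root_.Cfsg.Agent.H445.Gs.Exc.Frm (_root_.Cfsg.Agent.Nodes.RGDTwD4.rgd CoxeterMatrix.G₂.toCoxeterSystem hK hφ p) β k b w 0 →
    MulAut.conj y * α * (MulAut.conj y)⁻¹ = MulAut.conj (k * b) * β → Reach α 11 ⊤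

/-- **All automorphisms of prime order.** -/
theorem reach_all (hBad : Bad K q) (hq : IsPrimePow q) (hK : Fintype.card K = q ^ 3)
    [IsSimpleGroup ↥(twistedD4 K q)] {α : MulAut ↥(twistedD4 K q)} (hα : (orderOf α).Prime) : Reach α 11 ⊤ := by
  obtain ⟨φ, hφ⟩ := D4Fixed.exists_frob hq hK
  obtain ⟨p, hcp⟩ := CharP.exists K
  have hpp : Fact p.Prime := ⟨CharP.char_is_prime K p⟩
  have hW : Finite CoxeterMatrix.G₂.Group := Nodes.RGDFold.finite_W (hp := hp)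
    CoxeterMatrix.G₂.toCoxeterSystem isCartan foldData
  have hq1 : 1 < q := hq.one_lt
  have R := _root_.Cfsg.Agent.Nodes.RGDTwD4.rgd CoxeterMatrix.G₂.toCoxeterSystem hK hφ p
  have hG1 : Nodes.RGDLib.G1 CoxeterMatrix.G₂.toCoxeterSystem isCartan (X φ q) = ⊤ :=
    Nodes.RGDTwD4.G1_eq_top _ hK hφ
  have hG : GG CoxeterMatrix.G₂.toCoxeterSystem isCartan (T K q) (X φ q) = ⊤ := by
    rw [eq_top_iff, ← hG1]
    exact le_sup_right
  have hα1 : α ≠ 1 := by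
    rintro rfl
    rw [orderOf_one] at hα
    exact Nat.not_prime_one hα
  obtain ⟨y, k, b, w, β, σ, e, hk, hb, D, hB, hw1, hmax, hst⟩ :=
    H441.GS.exists_form R hG (H441.GS.B_ne_top R) α
  have hσ := perm_one hφ hq1 hK D
  subst hσ
  have hst' : ∀ i, rep CoxeterMatrix.G₂.toCoxeterSystem isCartan w (sr i) = sr i ∨
      rep CoxeterMatrix.G₂.toCoxeterSystem isCartan w (sr i) ≤ 0 := by
    intro i
    rcases hst i with h1 | h1
    · exact Or.inl h1
    · exact Or.inr h1.1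
  have hI : ∀ i : Fin 2, i = 1 ∨ i = 0 := by decide
  rcases H915.HexDich.dich (s := 1) (l := 0) (by decide) hI (by decide) (by decide) (hw1 hα1) hst' with h1 | h1
  · rw [rr_eq] at h1
    exact good_case CoxeterMatrix.G₂.toCoxeterSystem p hq hK hφ hG hα hk hb D e h1
  · refine hBad p hq hK φ hφ α β y k b w ⟨D, hB, hk, hb, hmax, h1.1, fun j hj => ?_⟩ e
    rcases hI j with rfl | rfl
    · exact h1.2
    · exact absurd rfl hj

/-- **The row `³D₄(q)`.** -/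
theorem row (hBad : ∀ (K : Type) [Field K] [Fintype K] (q : ℕ), Bad K q) (L : Type u) [Group L] [Finite L]
    [IsSimpleGroup L] (h : Iso3D4 L) : H147.Gen.Gen11 L := by
  obtain ⟨K, _, _, q, hq, hK, ⟨e⟩⟩ := h
  have : IsSimpleGroup ↥(twistedD4 K q) := e.symm.isSimpleGroup
  exact H147.Gen.Gen11.congr e.symm (H441.GS.gen_of_reach fun x hx => reach_all (hBad K q) hq hK hx)

end Row

end Cfsg.Agent.H453.Gs.TD4
end

-- part: H453/Gs/RowTD4
section
/-!
# The row `³D₄(q)` of S4327 (helper453)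
-/

set_option autoImplicit false

namespace Cfsg.Agent.H453.Gs

universe u

/-- **The row `³D₄(q)`.** -/
theorem row_td4 (L : Type u) [Group L] [Finite L] [IsSimpleGroup L] (h : Cfsg.Lie.Iso3D4 L) :
    Cfsg.Agent.H147.Gen.Gen11 L :=
  TD4.row (fun _ _ _ _ p _ _ hq hK _ hφ _ _ _ _ _ _ F e =>
    Cfsg.Agent.H445.Gs.Exc.TD4.reach CoxeterMatrix.G₂.toCoxeterSystem p hq hK hφ F e) L h

end Cfsg.Agent.H453.Gs
end

-- part: H893/Gs/RankOne
section
/-!
# S4327, rows `²G₂(q)` and `Sz(q)` (helper893)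

Every automorphism `x ≠ 1` of `L` has some `b = (x s)⁻¹ s ≠ 1` of order prime to the characteristic (Steinberg module);
four conjugates of `b` generate `L` (products of two conjugates, S2457 and S2458); so eight conjugates of `x` do.
-/

set_option autoImplicit false

namespace Cfsg.Agent.H893.Gs

open Subgroup Cfsg.Agent.H147.Gen Cfsg.Agent.H705

section gen

variable {L : Type*} [Group L]

theorem prod_mem {u v x : L} : (u * x * u⁻¹) * (v * x * v⁻¹) ∈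
    _root_.Subgroup.closure (Set.range fun i : Fin 2 => (![u, v] i) * x * (![u, v] i)⁻¹) :=
  mul_mem (subset_closure ⟨0, rfl⟩) (subset_closure ⟨1, rfl⟩)

/-- `z` is a product of two conjugates of `x` -/
theorem CG_of_prod {x z u v : L} {k l : ℕ} (hz : z = (u * x * u⁻¹) * (v * x * v⁻¹)) (h : CG k z) (hl : 2 * k ≤ l) :
    CG l x := Cfsg.Agent.H867.Gen.Baer.CG_of_mem ![u, v] (hz ▸ prod_mem) h hl

/-- an element of order `s` with an element of order `ρ` as a product of two conjugates -/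
theorem CG_two [Finite L] {a z u v : L} {s ρ : ℕ} (hz : z = (u * a * u⁻¹) * (v * a * v⁻¹)) (ha : orderOf a = s)
    (hzo : orderOf z = ρ) (htop : ∀ M : Subgroup L, ρ ∣ Nat.card M → s ∣ Nat.card M → M = ⊤) : CG 2 a := by
  refine ⟨![u, v], htop _ ?_ ?_⟩
  · rw [← hzo]
    exact Subgroup.orderOf_dvd_natCard _ (hz ▸ prod_mem)
  · have h1 : u * a * u⁻¹ ∈ _root_.Subgroup.closure (Set.range fun i : Fin 2 => (![u, v] i) * a * (![u, v] i)⁻¹) :=
      subset_closure ⟨0, rfl⟩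
    have h2 := Subgroup.orderOf_dvd_natCard _ h1
    have h3 : orderOf (u * a * u⁻¹) = orderOf a := by rw [← MulAut.conj_apply, MulEquiv.orderOf_eq]
    rwa [h3, ha] at h2

/-- the frame -/
theorem gen11_of_com {p : ℕ} (hcom : Com p L) (hb : ∀ b : L, b ≠ 1 → ¬ p ∣ orderOf b → CG 4 b) : Gen11 L := by
  intro x hx
  have hx1 : x ≠ 1 := by
    rintro rfl
    rw [orderOf_one] at hx
    exact hx.one_lt.ne rfl
  obtain ⟨s, h1, h2⟩ := hcom x hx1
  have h3 := hb _ h1 h2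
  refine Cfsg.Agent.H867.Gen.Comm.CA_of_comm (t := s⁻¹) (k := 4) (by norm_num) ?_ (by norm_num)
  rw [map_inv, inv_inv]
  exact h3

theorem not_solvable_of_two_primes [Finite L] [IsSimpleGroup L] {s ρ : ℕ} (hs : s.Prime) (hρ : ρ.Prime) (hne : s ≠ ρ)
    (hsL : s ∣ Nat.card L) (hρL : ρ ∣ Nat.card L) : ¬ Group.IsSolvable L := by
  intro h
  have hc := IsSimpleGroup.comm_iff_isSolvable (G := L) |>.2 h
  have key : ∀ p : ℕ, p.Prime → p ∣ Nat.card L → Nat.card L = p := by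
    intro p hp hpL
    have : Fact p.Prime := ⟨hp⟩
    obtain ⟨a, ha⟩ := exists_prime_orderOf_dvd_card' (G := L) p hpL
    have hn : (zpowers a).Normal := ⟨fun b hb g => by
      rw [hc g b, mul_assoc, mul_inv_cancel, mul_one]; exact hb⟩
    rcases hn.eq_bot_or_eq_top with h1 | h1
    · rw [zpowers_eq_bot] at h1
      rw [h1, orderOf_one] at ha
      exact absurd ha hp.one_lt.ne
    · rw [← ha, ← Nat.card_zpowers, h1, Subgroup.card_top]
  exact hne ((key s hs hsL).symm.trans (key ρ hρ hρL))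

end gen

section sz

open Cfsg.Agent.H947.Cyc

/-- **S4327, row `Sz(q)`** -/
theorem row_sz (L : Type*) [Group L] [Finite L] [IsSimpleGroup L] (h : Cfsg.Lie.IsoSuzuki L) : Gen11 L := by
  obtain ⟨F, iF, iF', m, hm, hF, ⟨e⟩⟩ := h
  refine Gen11.congr e.symm ?_
  obtain ⟨f⟩ := Cfsg.Agent.OddCyclic.ClaimC.SzIso.iso hm hF
  have hS : IsSimpleGroup ↥(Cfsg.Lie.Sz F (2 ^ (m + 1))) := e.symm.isSimpleGroup
  have hcard : Nat.card ↥(Cfsg.Lie.Sz F (2 ^ (m + 1))) = Nat.card (Cfsg.Sz F m) := Nat.card_congr f.symm.toEquiv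
  rw [Cfsg.Agent.S0324.result hm hF] at hcard
  obtain ⟨ρ, hρ, hρ1, hρ2, hρ3⟩ := Cfsg.Agent.Lib.Zsigmondy.exists_primitive (a := 2) (n := 4 * (2 * m + 1)) le_rfl
    (by omega) (by omega) (by omega)
  obtain ⟨s, hs, hs1, hs2, hs3⟩ := Cfsg.Agent.Lib.Zsigmondy.exists_primitive (a := 2) (n := 2 * m + 1) le_rfl
    (by omega) (by omega) (by omega)
  have hsq : s ∣ 2 ^ (2 * m + 1) - 1 := (hs1 _).2 dvd_rfl
  have hρq : ρ ∣ (2 ^ (2 * m + 1)) ^ 2 + 1 := by
    have h1 : ρ ∣ (2 ^ (2 * m + 1)) ^ 4 - 1 := by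
      rw [← pow_mul]
      exact (hρ1 _).2 (by rw [mul_comm])
    have h2 : (2 ^ (2 * m + 1)) ^ 4 - 1 = ((2 ^ (2 * m + 1)) ^ 2 + 1) * ((2 ^ (2 * m + 1)) ^ 2 - 1) := by
      generalize 2 ^ (2 * m + 1) = q
      have : (q ^ 2) ^ 2 - 1 ^ 2 = (q ^ 2 + 1) * (q ^ 2 - 1) := Nat.sq_sub_sq _ _
      rw [← this, ← pow_mul, one_pow]
    rw [h2] at h1
    refine (hρ.dvd_mul.1 h1).resolve_right fun h => ?_
    rw [← pow_mul] at h
    have := (hρ1 _).1 h
    have := Nat.le_of_dvd (by omega) this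
    omega
  have hsL : s ∣ Nat.card ↥(Cfsg.Lie.Sz F (2 ^ (m + 1))) := by
    rw [hcard]; exact hsq.mul_left _
  have hρL : ρ ∣ Nat.card ↥(Cfsg.Lie.Sz F (2 ^ (m + 1))) := by
    rw [hcard]; exact (hρq.mul_left _).mul_right _
  have htop : ∀ M : Subgroup ↥(Cfsg.Lie.Sz F (2 ^ (m + 1))), ρ ∣ Nat.card M → s ∣ Nat.card M → M = ⊤ := by
    intro M h1 h2
    by_contra hM
    have hM' : M.comap f.toMonoidHom ≠ ⊤ := by
      intro ht
      apply hM
      rw [eq_top_iff]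
      intro x _
      have : f.symm x ∈ M.comap f.toMonoidHom := by rw [ht]; trivial
      simpa using this
    have hc : Nat.card (M.comap f.toMonoidHom) = Nat.card M :=
      Nat.card_congr
        { toFun := fun x => ⟨f x, x.2⟩
          invFun := fun y => ⟨f.symm y, by
            show f (f.symm y) ∈ M
            rw [MulEquiv.apply_symm_apply]; exact y.2⟩
          left_inv := fun x => Subtype.ext (f.symm_apply_apply _)
          right_inv := fun y => Subtype.ext (f.apply_symm_apply _) }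
    exact sz_false hm hF _ hM' hρ hρ1 hρ3 (hc ▸ h1) hs hsq (hc ▸ h2)
  have hne : s ≠ ρ := by
    rintro rfl
    have h1 := (hρ1 (2 * m + 1)).1 hsq
    have := Nat.le_of_dvd (by omega) h1
    omega
  have hs2 : 2 < s := by
    have := hs.two_le
    rcases Nat.lt_or_ge 2 s with h1 | h1
    · exact h1
    · obtain rfl : s = 2 := by omega
      exact absurd dvd_rfl hs3
  have hsol := not_solvable_of_two_primes hs hρ hne hsL hρL
  have hcom : Com 2 ↥(Cfsg.Lie.Sz F (2 ^ (m + 1))) := by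
    refine com_defining Nat.prime_two ?_ hsol
    exact Or.inr (Or.inr (Or.inr (Or.inr (Or.inr (Or.inr (Or.inr (Or.inr (Or.inl
      ⟨rfl, F, iF, iF', m, hm, hF, ⟨MulEquiv.refl _⟩⟩))))))))
  have : Fact s.Prime := ⟨hs⟩
  have : Fact ρ.Prime := ⟨hρ⟩
  obtain ⟨a, ha⟩ := exists_prime_orderOf_dvd_card' (G := ↥(Cfsg.Lie.Sz F (2 ^ (m + 1)))) s hsL
  obtain ⟨z, hz⟩ := exists_prime_orderOf_dvd_card' (G := ↥(Cfsg.Lie.Sz F (2 ^ (m + 1)))) ρ hρL
  have hne1 : ∀ {y : ↥(Cfsg.Lie.Sz F (2 ^ (m + 1)))} {t : ℕ}, t.Prime → orderOf y = t → y ≠ 1 := by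
    rintro _ t ht h1 rfl
    rw [orderOf_one] at h1
    exact ht.one_lt.ne h1
  obtain ⟨u, v, huv⟩ := Cfsg.Agent.S2457.result m hm hF a (by rw [ha]; exact hs2) z (hne1 hρ hz)
  have hCa : CG 2 a := CG_two huv ha hz htop
  refine gen11_of_com hcom fun b hb hb2 => ?_
  have hb3 : 2 < orderOf b := by
    have h1 := orderOf_pos b
    rcases Nat.lt_or_ge 2 (orderOf b) with h2 | h2
    · exact h2
    · exfalso
      interval_cases h3 : orderOf b
      · exact hb (orderOf_eq_one_iff.1 h3)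
      · exact hb2 dvd_rfl
  obtain ⟨u', v', huv'⟩ := Cfsg.Agent.S2457.result m hm hF b hb3 a (hne1 hs ha)
  exact CG_of_prod huv' hCa (by norm_num)

end sz

section ree

open Cfsg.Agent.H947.Cyc Cfsg.Agent.H947.El

/-- **S4327, row `²G₂(q)`** -/
theorem row_ree (L : Type*) [Group L] [Finite L] [IsSimpleGroup L] (h : Cfsg.Lie.IsoRee L) : Gen11 L := by
  obtain ⟨K, iK, iK', m, hm, hK, ⟨e⟩⟩ := h
  refine Gen11.congr e.symm ?_
  obtain ⟨ρ, n⟩ := exists_reeN m hm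
  have R := reeF hm hK n
  have hS : IsSimpleGroup ↥(Cfsg.Lie.twistedG2 K (3 ^ m)) := e.symm.isSimpleGroup
  obtain ⟨s, hs, hs1, hs2, hs3⟩ := Cfsg.Agent.Lib.Zsigmondy.exists_primitive (a := 3) (n := 2 * m + 1) (by norm_num)
    (by omega) (by omega) (by omega)
  have hgt : 2 * m + 1 < s := by
    have := Nat.le_of_dvd (by have := hs.two_le; omega) hs2
    have := hs.two_le
    omega
  have hsq : s ∣ 3 ^ (2 * m + 1) - 1 := (hs1 _).2 dvd_rfl
  have hs2' : s ≠ 2 := by omega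
  have hs3' : ¬ 3 ∣ s := fun h => by
    have := (Nat.prime_dvd_prime_iff_eq Nat.prime_three hs).1 h
    omega
  have hq4 := n.q4
  have hsd : s ∣ (3 ^ (2 * m + 1) - 1) / 2 := by
    have h1 : 3 ^ (2 * m + 1) - 1 = 2 * ((3 ^ (2 * m + 1) - 1) / 2) := by omega
    rw [h1] at hsq
    exact (hs.dvd_mul.1 hsq).resolve_left fun h2 => hs2' ((Nat.prime_dvd_prime_iff_eq hs Nat.prime_two).1 h2)
  have hsL : s ∣ Nat.card ↥(Cfsg.Lie.twistedG2 K (3 ^ m)) := by
    rw [R.card]; exact (hsq.mul_left _).mul_right _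
  have hρL : ρ ∣ Nat.card ↥(Cfsg.Lie.twistedG2 K (3 ^ m)) := by
    rw [R.card, n.cube]; exact (n.dvd.mul_left _).mul_left _
  have htop : ∀ M : Subgroup ↥(Cfsg.Lie.twistedG2 K (3 ^ m)), ρ ∣ Nat.card M → s ∣ Nat.card M → M = ⊤ :=
    fun M h1 h2 => ree_eq_top R n M h1 hs hsd h2
  have hne : s ≠ ρ := by
    rintro rfl
    exact n.nq1 hsq
  have hρ := n.pr
  have hsol := not_solvable_of_two_primes hs hρ hne hsL hρL
  have hcom : Com 3 ↥(Cfsg.Lie.twistedG2 K (3 ^ m)) := by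
    refine com_defining Nat.prime_three ?_ hsol
    exact Or.inr (Or.inr (Or.inr (Or.inr (Or.inr (Or.inr (Or.inr (Or.inr (Or.inr (Or.inr
      ⟨rfl, K, iK, iK', m, hm, hK, ⟨MulEquiv.refl _⟩⟩)))))))))
  have : Fact s.Prime := ⟨hs⟩
  have : Fact ρ.Prime := ⟨hρ⟩
  obtain ⟨z, hz⟩ := exists_prime_orderOf_dvd_card' (G := ↥(Cfsg.Lie.twistedG2 K (3 ^ m))) ρ hρL
  have hne1 : ∀ {y : ↥(Cfsg.Lie.twistedG2 K (3 ^ m))} {t : ℕ}, t.Prime → orderOf y = t → y ≠ 1 := by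
    rintro _ t ht h1 rfl
    rw [orderOf_one] at h1
    exact ht.one_lt.ne h1
  have hCa : ∀ a : ↥(Cfsg.Lie.twistedG2 K (3 ^ m)), orderOf a = s → CG 2 a := by
    intro a ha
    obtain ⟨u, v, huv⟩ := Cfsg.Agent.S2458.result m hm hK a (by rw [ha]; omega) (by rw [ha]; exact hs3') z
      (hne1 hρ hz)
    exact CG_two huv ha hz htop
  refine gen11_of_com hcom fun b hb hb2 => ?_
  have hb1 : orderOf b ≠ 1 := fun h => hb (orderOf_eq_one_iff.1 h)
  have hb0 := orderOf_pos b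
  rcases Nat.lt_or_ge 2 (orderOf b) with h2 | h2
  · obtain ⟨a, ha⟩ := exists_prime_orderOf_dvd_card' (G := ↥(Cfsg.Lie.twistedG2 K (3 ^ m))) s hsL
    obtain ⟨u', v', huv'⟩ := Cfsg.Agent.S2458.result m hm hK b h2 hb2 a (hne1 hs ha)
    exact CG_of_prod huv' (hCa a ha) (by norm_num)
  · have hb' : orderOf b = 2 := by omega
    obtain ⟨U, h, w, D⟩ := Cfsg.Agent.ChevalleyStructure.Ree.Data.exists_data hK
    obtain ⟨ζ, hζ⟩ : ∃ ζ : Kˣ, orderOf ζ = s := by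
      have hc : Nat.card Kˣ = 3 ^ (2 * m + 1) - 1 := by
        rw [Nat.card_units, Nat.card_eq_fintype_card, hK]
      exact exists_prime_orderOf_dvd_card' s (by rw [hc]; exact hsq)
    have hinj : Function.Injective h := fun x y hxy => (D.inj₁ 0 0 0 x 0 0 0 y (by rw [hxy])).2.2.2
    have hmem : ∀ x : Kˣ, orderOf (h x) = orderOf x := fun x =>
      orderOf_injective (MonoidHom.mk' h D.h_mul) hinj x
    have hw : orderOf w = 2 := by
      apply orderOf_eq_prime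
      · rw [pow_two]; exact D.n_n
      · intro hw1
        have h3 := D.n_h ζ
        rw [hw1, one_mul, mul_one] at h3
        have h4 : ζ ^ 2 = 1 := by
          rw [pow_two]
          nth_rewrite 1 [hinj h3]
          exact inv_mul_cancel ζ
        have h5 := orderOf_dvd_of_pow_eq_one h4
        rw [hζ] at h5
        exact hs2' ((Nat.prime_dvd_prime_iff_eq hs Nat.prime_two).1 h5)
    have hG : ¬ IsMulCommutative ↥(Cfsg.Lie.twistedG2 K (3 ^ m)) := by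
      intro hc
      exact hsol (IsSimpleGroup.comm_iff_isSolvable.1 fun x y => hc.is_comm.comm x y)
    have hconj := Cfsg.Agent.H88.ReeTwo.conj D hK hG w b hw hb'
    refine CG.of_isConj hconj ?_
    have hz2 : h (ζ⁻¹ * ζ⁻¹) = (1 * w * 1⁻¹) * (h ζ * w * (h ζ)⁻¹) := by
      rw [D.h_mul, one_mul, inv_one, mul_one, ← mul_assoc, ← mul_assoc, D.n_h, mul_assoc (h ζ⁻¹) w w, D.n_n, mul_one,
        ← D.h_inv]
    refine CG_of_prod hz2 (hCa _ ?_) (by norm_num)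
    rw [hmem, ← pow_two, Nat.Coprime.orderOf_pow, orderOf_inv, hζ]
    rw [orderOf_inv, hζ]
    exact (Nat.coprime_primes hs Nat.prime_two).2 hs2'

end ree

end Cfsg.Agent.H893.Gs
end

-- part: S4327
section
set_option autoImplicit false
open Cfsg

namespace Cfsg.Agent.S4327

universe u

/-- all the rows -/
theorem rows : H260.GS.Rows.{u} where
  psl := fun _ _ _ _ _ h => H915.GsFields.psl h
  psp := fun _ _ _ _ h => H915.GsFields.psp h
  psu := fun _ _ _ _ h => H915.GsFields.psu h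
  omegaOdd := fun _ _ _ _ h => H915.GsFields.pOmegaOdd h
  omegaPlus := fun _ _ _ _ h => H915.GsFields.pOmegaPlus h
  omegaMinus := fun _ _ _ _ h => H915.GsFields.pOmegaMinus h
  g2 := fun L _ _ _ h => H915.RowG2.row_g2 L h
  f4 := H400.Gs.RowF.f4
  e6 := H441.GS.row_e6
  e7 := H441.GS.row_e7
  e8 := H441.GS.row_e8
  te6 := H400.Gs.RowE.te6
  td4 := H453.Gs.row_td4
  sz := fun L _ _ _ h => H893.Gs.row_sz L h
  ree := fun L _ _ _ h => H893.Gs.row_ree L h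
  tf4 := fun _ _ _ _ h => H660.Gs.TwF4.gen11_tf4 h
  tits := fun _ _ _ _ h => H147.Gen.All.tits ⟨OrdDiv.table, fun _ _ _ _ => S0000.result⟩ h
  spor := fun _ _ _ _ h => H147.Gen.All.spor ⟨OrdDiv.table, fun _ _ _ _ => S0000.result⟩ h

/-- Let r be an odd prime, L a finite non-abelian simple group and x an automorphism of L of prime order; write K for the subgroup of the automorphism group generated by x and the inner automorphisms. Then one of the following holds: some 11 conjugates of x under inner automorphisms generate K; or L is an alternating group or a classical group (linear, symplectic, unitary or orthogonal), r does not divide the order of L, and some r - 1 such conjugates generate K; or L is alternating or classical, r divides the order of L, and some 2(r - 2) such conjugates generate a subgroup of order divisible by r. (Conjugates may be repeated.) -/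
theorem result {L : Type*} [Group L] [Finite L]
    [IsSimpleGroup L] (hL : ¬ IsMulCommutative L) (r : ℕ) (hr : r.Prime) (hr2 : r ≠ 2)
    (x : MulAut L) (hx : (orderOf x).Prime) :
    (∃ f : Fin 11 → L, Subgroup.closure (Set.range fun i => MulAut.conj (f i) * x * (MulAut.conj (f i))⁻¹) =
        Subgroup.zpowers x ⊔ (MulAut.conj : L →* MulAut L).range) ∨
    ((Cfsg.IsAlternating L ∨ Cfsg.IsPSL L ∨ Cfsg.IsPSp L ∨ Cfsg.IsPSU L ∨ Cfsg.IsPOmegaOdd L ∨
        Cfsg.IsPOmegaPlus L ∨ Cfsg.IsPOmegaMinus L) ∧ ¬ r ∣ Nat.card L ∧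
      ∃ f : Fin (r - 1) → L, Subgroup.closure (Set.range fun i => MulAut.conj (f i) * x * (MulAut.conj (f i))⁻¹) =
        Subgroup.zpowers x ⊔ (MulAut.conj : L →* MulAut L).range) ∨
    ((Cfsg.IsAlternating L ∨ Cfsg.IsPSL L ∨ Cfsg.IsPSp L ∨ Cfsg.IsPSU L ∨ Cfsg.IsPOmegaOdd L ∨
        Cfsg.IsPOmegaPlus L ∨ Cfsg.IsPOmegaMinus L) ∧ r ∣ Nat.card L ∧
      ∃ f : Fin (2 * (r - 2)) → L,
        r ∣ Nat.card (Subgroup.closure (Set.range fun i => MulAut.conj (f i) * x * (MulAut.conj (f i))⁻¹))) := by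
  exact H260.GS.main rows hL S0000.result r hr hr2 x hx

end Cfsg.Agent.S4327
end

private theorem dce_71927bf1251d : _root_.True := by
  try have : _root_.True := by simp only [_root_.Cfsg.Agent.H127.Gx.toF._sparseCasesOn_1.else_eq]
  try have : _root_.True := by simp only [_root_.Cfsg.Agent.H127.Gx.toF._sparseCasesOn_2.else_eq]
  try have : _root_.True := by simp only [_root_.Cfsg.Agent.H127.Gx.chk.eq_1]
  try have : _root_.True := by simp only [_root_.Cfsg.Agent.H127.Gx.chk.eq_def]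
  try have : _root_.True := by simp only [_root_.Cfsg.Agent.H127.Gx.chk.eq_2]
  try have : _root_.True := by simp only [_root_.Cfsg.Agent.H127.Gx.C8.eq_1]
  try have : _root_.True := by simp only [_root_.Cfsg.Agent.H937.Gs.E6D.C.eq_1]
  try have : _root_.True := by simp only [_root_.Cfsg.Agent.H127.Gx.toF.eq_1]
  try have : _root_.True := by simp only [_root_.Cfsg.Agent.H127.Gx.toF.eq_2]
  exact _root_.True.intro
end
end
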