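import Cfsg.Statements.S4347
set_option linter.all false
-- import your own Cfsg.Agent.* helpers here

set_option autoImplicit false
open Cfsg
open scoped Pointwise

namespace Cfsg.Agent.S4347

/-- Let G be a finite group and p a prime. Say a Sylow p-subgroup Q is redundant when every element of p-power order lies in some Sylow p-subgroup other than Q. Then G has no redundant Sylow p-subgroup if and only if some element of p-power order lies in exactly one Sylow p-subgroup. -/
theorem result {G : Type*} [Group G] [Finite G]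
    (p : ℕ) [Fact p.Prime] :
    (¬ ∃ Q : Sylow p G, ∀ x : G, (∃ k : ℕ, orderOf x = p ^ k) → ∃ P : Sylow p G, P ≠ Q ∧ x ∈ P) ↔
      ∃ x : G, (∃ k : ℕ, orderOf x = p ^ k) ∧ ∃! P : Sylow p G, x ∈ P := by
  classical
  constructor
  · intro h
    push Not at h
    obtain ⟨Q⟩ : Nonempty (Sylow p G) := inferInstance
    obtain ⟨x, hx, hxP⟩ := h Q
    refine ⟨x, hx, ?_⟩
    obtain ⟨k, hk⟩ := hx
    have hpg : IsPGroup p (Subgroup.zpowers x) := by
      apply IsPGroup.of_card (n := k)
      rw [Nat.card_zpowers, hk]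
    obtain ⟨P, hP⟩ := hpg.exists_le_sylow
    have hxP' : x ∈ P := hP (Subgroup.mem_zpowers x)
    have hPQ : P = Q := by
      by_contra hne
      exact hxP P hne hxP'
    refine ⟨P, hxP', ?_⟩
    intro R hR
    rw [hPQ]
    by_contra hne
    exact hxP R hne hR
  · rintro ⟨x, ⟨k, hk⟩, P, hxP, huniq⟩ ⟨Q, hQ⟩
    obtain ⟨g, hg⟩ := MulAction.exists_smul_eq G P Q
    have hord : orderOf (g * x * g⁻¹) = p ^ k := by
      have h1 : g * x * g⁻¹ = MulAut.conj g x := rfl
      rw [h1, MulEquiv.orderOf_eq]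
      exact hk
    obtain ⟨R, hRQ, hR⟩ := hQ (g * x * g⁻¹) ⟨k, hord⟩
    apply hRQ
    have h2 : x ∈ g⁻¹ • R := by
      change x ∈ ((g⁻¹ • R : Sylow p G) : Subgroup G)
      rw [Sylow.coe_subgroup_smul, Subgroup.mem_smul_pointwise_iff_exists]
      refine ⟨g * x * g⁻¹, hR, ?_⟩
      rw [MulAut.smul_def, MulAut.conj_apply]
      group
    have h3 := huniq _ h2
    rw [← hg, ← h3, smul_inv_smul]

end Cfsg.Agent.S4347
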