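import Cfsg.Statements.S4348
set_option linter.all false
-- import your own Cfsg.Agent.* helpers here

set_option autoImplicit false
open Cfsg

namespace Cfsg.Agent.S4348

/-- Every normal `p`-subgroup lies in every Sylow `p`-subgroup. -/
theorem normal_le_sylow {G : Type*} [Group G] {p : ℕ} {N : Subgroup G}
    (hN : N.Normal) (hp : IsPGroup p N) (Q : Sylow p G) : N ≤ (Q : Subgroup G) := by
  have h1 : IsPGroup p (N ⊔ (Q : Subgroup G) : Subgroup G) := hp.to_sup_of_normal_left Q.isPGroup'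
  have h2 : N ⊔ (Q : Subgroup G) = (Q : Subgroup G) := Q.is_maximal' h1 le_sup_right
  rw [← h2]
  exact le_sup_left

/-- `O_p(G)` lies in every Sylow `p`-subgroup. -/
theorem pCore_le_sylow {G : Type*} [Group G] {p : ℕ} (Q : Sylow p G) :
    Cfsg.pCore p G ≤ (Q : Subgroup G) :=
  sSup_le fun _ hN => normal_le_sylow hN.1 hN.2 Q

/-- Let G be a finite group, p a prime and P a Sylow p-subgroup of G, and let O_p(G) be the largest normal p-subgroup of G. If P/O_p(G) is cyclic, then some element of p-power order of G lies in exactly one Sylow p-subgroup. -/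
theorem result {G : Type*} [Group G] [Finite G]
    (p : ℕ) [Fact p.Prime] (P : Sylow p G)
    [hn : ((Cfsg.pCore p G).subgroupOf (P : Subgroup G)).Normal]
    (hc : IsCyclic ((P : Subgroup G) ⧸ (Cfsg.pCore p G).subgroupOf (P : Subgroup G))) :
    ∃ x : G, (∃ k : ℕ, orderOf x = p ^ k) ∧ ∃! Q : Sylow p G, x ∈ Q := by
  obtain ⟨c, hc⟩ := hc
  obtain ⟨x, rfl⟩ := QuotientGroup.mk_surjective c
  refine ⟨x, ?_, P, x.2, ?_⟩
  · obtain ⟨k, hk⟩ := (IsPGroup.iff_orderOf.1 P.isPGroup') x
    exact ⟨k, by rw [← hk, Subgroup.orderOf_coe]⟩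
  · intro Q hQ
    have hle : (P : Subgroup G) ≤ Q := by
      intro y hy
      obtain ⟨n, hn⟩ := Subgroup.mem_zpowers_iff.1 (hc (QuotientGroup.mk ⟨y, hy⟩))
      rw [← QuotientGroup.mk_zpow, QuotientGroup.eq, Subgroup.mem_subgroupOf] at hn
      have h1 := pCore_le_sylow Q hn
      have h2 : ((x : G) ^ n) ∈ (Q : Subgroup G) := Subgroup.zpow_mem _ hQ n
      have h3 := Subgroup.mul_mem _ h2 h1
      simpa using h3
    apply Sylow.ext
    exact P.is_maximal' Q.isPGroup' hle

end Cfsg.Agent.S4348
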