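import Mathlib
import Cfsg.Statements.S4349
set_option linter.all false

-- part: H572/SymSylow
section
set_option autoImplicit false

namespace Cfsg.Agent.H572.SymSylow

open Equiv Equiv.Perm

/-- Uniqueness of the Sylow subgroup containing an element passes along a homomorphism whose kernel is a `p`-group. -/
theorem sylow_eq_of_hom {H K : Type*} [Group H] [Group K] {p : ℕ} (f : H →* K)
    (hf : IsPGroup p f.ker) {x : H}
    (hu : ∀ R R' : Sylow p K, f x ∈ R → f x ∈ R' → R = R')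
    (P Q : Sylow p H) (hP : x ∈ P) (hQ : x ∈ Q) : P = Q := by
  have key : ∀ P : Sylow p H, x ∈ P → ∃ R : Sylow p K, f x ∈ R ∧ (P : Subgroup H) = (R : Subgroup K).comap f := by
    intro P hP
    obtain ⟨R, hR⟩ := (P.isPGroup'.map f).exists_le_sylow
    refine ⟨R, hR ⟨x, hP, rfl⟩, ?_⟩
    have h1 : IsPGroup p ((R : Subgroup K).comap f) := R.isPGroup'.comap_of_ker_isPGroup f hf
    exact (P.is_maximal' h1 (Subgroup.map_le_iff_le_comap.1 hR)).symm
  obtain ⟨R, hR, hPR⟩ := key P hP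
  obtain ⟨R', hR', hQR⟩ := key Q hQ
  have := hu R R' hR hR'
  subst this
  exact Sylow.ext (hPR.trans hQR.symm)

/-- If two Sylow `p`-subgroups `P`, `Q` of `G` containing `x` lie in the subgroup `H`, and `x` lies in at most one
Sylow `p`-subgroup of `H`, then `P = Q`. -/
theorem sylow_eq_of_le {G : Type*} [Group G] {p : ℕ} (H : Subgroup G) {x : G} (hx : x ∈ H)
    (hu : ∀ R R' : Sylow p H, (⟨x, hx⟩ : H) ∈ R → (⟨x, hx⟩ : H) ∈ R' → R = R')
    (P Q : Sylow p G) (hP : x ∈ P) (hQ : x ∈ Q) (hPH : (P : Subgroup G) ≤ H) (hQH : (Q : Subgroup G) ≤ H) :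
    P = Q := by
  have h1 := hu (P.subtype hPH) (Q.subtype hQH) hP hQ
  exact Sylow.subtype_injective h1

/-- In a `p`-group... an element of order prime to `p` is trivial (version for cubes and `p = 2`). -/
theorem eq_one_of_cube {G : Type*} [Group G] {Q : Subgroup G} (hQ : IsPGroup 2 Q) {g : G} (hg : g ∈ Q)
    (h3 : g ^ 3 = 1) : g = 1 := by
  obtain ⟨k, hk⟩ := hQ ⟨g, hg⟩
  have hk' : g ^ 2 ^ k = 1 := by simpa using congrArg Subtype.val hk
  have h1 : orderOf g ∣ 3 := orderOf_dvd_of_pow_eq_one h3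
  have h2 : orderOf g ∣ 2 ^ k := orderOf_dvd_of_pow_eq_one hk'
  have h4 : Nat.Coprime 3 (2 ^ k) := Nat.Coprime.pow_right k (by decide)
  have : orderOf g = 1 := Nat.eq_one_of_dvd_coprimes h4 h1 h2
  exact orderOf_eq_one_iff.1 this

section orbits

variable {α : Type*} (z : Perm α)

/-- The relation `j = i` or `j = z i`. -/
def invSetoid (hz : ∀ i, z (z i) = i) : Setoid α where
  r i j := j = i ∨ j = z i
  iseqv :=
    { refl := fun i => Or.inl rfl
      symm := by
        rintro i j (rfl | rfl)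
        · exact Or.inl rfl
        · exact Or.inr (hz _).symm
      trans := by
        rintro i j k (rfl | rfl) (rfl | rfl)
        · exact Or.inl rfl
        · exact Or.inr rfl
        · exact Or.inr rfl
        · exact Or.inl (hz _) }

/-- The orbits of the involution `z`. -/
abbrev Orb (hz : ∀ i, z (z i) = i) : Type _ := Quotient (invSetoid z hz)

theorem mk_eq_iff (hz : ∀ i, z (z i) = i) {i j : α} :
    (Quotient.mk (invSetoid z hz) i = Quotient.mk (invSetoid z hz) j) ↔ (j = i ∨ j = z i) :=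
  Quotient.eq (r := invSetoid z hz)

/-- The action of the centralizer of `z` on the orbits of `z`. -/
def orbHom (hz : ∀ i, z (z i) = i) : Subgroup.centralizer ({z} : Set (Perm α)) →* Perm (Orb z hz) where
  toFun g := Quotient.congr (g : Perm α) (by
    have hg : ∀ i, (g : Perm α) (z i) = z ((g : Perm α) i) := fun i => by
      have := Subgroup.mem_centralizer_singleton_iff.1 g.2
      exact Equiv.congr_fun this i
    intro a b
    change (b = a ∨ b = z a) ↔ ((g : Perm α) b = (g : Perm α) a ∨ (g : Perm α) b = z ((g : Perm α) a))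
    rw [← hg, (g : Perm α).injective.eq_iff, (g : Perm α).injective.eq_iff])
  map_one' := by
    ext q
    induction q using Quotient.inductionOn with
    | h i => rfl
  map_mul' g h := by
    ext q
    induction q using Quotient.inductionOn with
    | h i => rfl

theorem orbHom_mk (hz : ∀ i, z (z i) = i) (g : Subgroup.centralizer ({z} : Set (Perm α))) (i : α) :
    orbHom z hz g (Quotient.mk (invSetoid z hz) i) = Quotient.mk (invSetoid z hz) ((g : Perm α) i) := rfl

theorem orbHom_pow_mk (hz : ∀ i, z (z i) = i) (g : Subgroup.centralizer ({z} : Set (Perm α))) (m : ℕ) (i : α) :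
    (orbHom z hz g ^ m) (Quotient.mk (invSetoid z hz) i) = Quotient.mk (invSetoid z hz) (((g : Perm α) ^ m) i) := by
  rw [← map_pow, orbHom_mk]
  rfl

theorem ker_orbHom (hz : ∀ i, z (z i) = i) : IsPGroup 2 (orbHom z hz).ker := by
  rintro ⟨g, hg⟩
  refine ⟨1, ?_⟩
  apply Subtype.ext
  apply Subtype.ext
  ext i
  have hc : ∀ i, (g : Perm α) (z i) = z ((g : Perm α) i) := fun i => by
    have := Subgroup.mem_centralizer_singleton_iff.1 g.2
    exact Equiv.congr_fun this i
  have h1 : orbHom z hz g (Quotient.mk (invSetoid z hz) i) = Quotient.mk (invSetoid z hz) i := by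
    rw [MonoidHom.mem_ker.1 hg]; rfl
  rw [orbHom_mk, mk_eq_iff] at h1
  change ((g : Perm α) ^ (2 ^ 1)) i = i
  rw [pow_one, pow_two, Perm.mul_apply]
  rcases h1 with h1 | h1
  · rw [← h1, ← h1]
  · have h2 : (g : Perm α) i = z i := by
      have h3 : z i = z (z ((g : Perm α) i)) := congrArg z h1
      rw [hz] at h3
      exact h3.symm
    rw [h2, hc, h2, hz]

end orbits

end Cfsg.Agent.H572.SymSylow
end

-- part: H572/SymSylowB
section
set_option autoImplicit false

namespace Cfsg.Agent.H572.SymSylow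

open Equiv Equiv.Perm Nat

theorem odd_dfac (k : ℕ) : Odd ((2 * k + 1)‼) := by
  induction k with
  | zero => decide
  | succ k ih =>
    rw [show 2 * (k + 1) + 1 = (2 * k + 1) + 2 by ring, Nat.doubleFactorial_add_two]
    exact Odd.mul (by rw [Nat.odd_iff]; lia) ih

theorem factorial_eq (n : ℕ) : ∃ a : ℕ, Odd a ∧ n ! = a * (2 ^ (n / 2) * (n / 2)!) := by
  rcases Nat.even_or_odd' n with ⟨k, rfl | rfl⟩
  · rw [Nat.mul_div_cancel_left k (by norm_num)]
    rcases k with _ | k
    · exact ⟨1, by decide, by simp⟩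
    · refine ⟨(2 * k + 1)‼, odd_dfac k, ?_⟩
      have h1 := Nat.factorial_eq_mul_doubleFactorial (2 * k + 1)
      rw [show 2 * k + 1 + 1 = 2 * (k + 1) by ring, Nat.doubleFactorial_two_mul] at h1
      rw [h1]
      ring
  · rw [show (2 * k + 1) / 2 = k by lia]
    refine ⟨(2 * k + 1)‼, odd_dfac k, ?_⟩
    rw [Nat.factorial_eq_mul_doubleFactorial (2 * k), Nat.doubleFactorial_two_mul]

theorem exists_inv {α : Type*} [Fintype α] [DecidableEq α] (P : Subgroup (Perm α)) (hP : IsPGroup 2 P) :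
    ∃ z : Perm α, (∀ i, z (z i) = i) ∧ (∀ i j, z i = i → z j = j → i = j) ∧
      P ≤ Subgroup.centralizer ({z} : Set (Perm α)) := by
  classical
  set n := Fintype.card α with hn
  set m : Multiset ℕ := Multiset.replicate (n / 2) 2 with hm
  have hsum : m.sum = n / 2 * 2 := by rw [hm, Multiset.sum_replicate, smul_eq_mul]
  have hle : m.sum ≤ n ∧ ∀ a ∈ m, 2 ≤ a := by
    refine ⟨by rw [hsum]; exact Nat.div_mul_le_self n 2, ?_⟩
    intro a ha
    exact (Multiset.eq_of_mem_replicate ha).ge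
  have hcard := Equiv.Perm.card_of_cycleType_mul_eq α m
  rw [if_pos hle] at hcard
  have hodd : ¬ 2 ∣ Nat.card {g : Perm α // g.cycleType = m} := by
    rw [Nat.card_eq_fintype_card, Fintype.card_subtype]
    intro h2
    obtain ⟨a, ha, hfa⟩ := factorial_eq n
    have h1 : (n - m.sum)! = 1 := by
      rw [hsum]
      have : n - n / 2 * 2 = 0 ∨ n - n / 2 * 2 = 1 := by omega
      rcases this with h | h <;> rw [h] <;> rfl
    have h3 : m.prod = 2 ^ (n / 2) := by rw [hm, Multiset.prod_replicate]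
    have h4 : (∏ c ∈ m.toFinset, (m.count c)!) = (n / 2)! := by
      rcases Nat.eq_zero_or_pos (n / 2) with h0 | h0
      · have : m = 0 := by rw [hm, h0, Multiset.replicate_zero]
        rw [this, h0]; rfl
      · have : m.toFinset = {2} := by rw [hm, Multiset.toFinset_replicate, if_neg h0.ne']
        rw [this, Finset.prod_singleton, hm, Multiset.count_replicate_self]
    rw [← hn, h1, h3, h4, one_mul, hfa] at hcard
    have h5 : Finset.card (Finset.filter (fun g : Perm α => g.cycleType = m) Finset.univ) = a := by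
      have hpos : 0 < 2 ^ (n / 2) * (n / 2)! := by positivity
      exact Nat.eq_of_mul_eq_mul_right hpos hcard
    rw [h5] at h2
    exact (Nat.not_even_iff_odd.2 ha) (even_iff_two_dvd.2 h2)
  let act : MulAction P {g : Perm α // g.cycleType = m} :=
    { smul := fun g c => ⟨(g : Perm α) * c.1 * (g : Perm α)⁻¹, by rw [cycleType_conj]; exact c.2⟩
      one_smul := fun c => Subtype.ext (by
        change ((1 : P) : Perm α) * c.1 * ((1 : P) : Perm α)⁻¹ = c.1
        simp)
      mul_smul := fun g h c => Subtype.ext (by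
        change ((g * h : P) : Perm α) * c.1 * ((g * h : P) : Perm α)⁻¹ =
          (g : Perm α) * ((h : Perm α) * c.1 * (h : Perm α)⁻¹) * (g : Perm α)⁻¹
        rw [Subgroup.coe_mul, mul_inv_rev]
        group) }
  obtain ⟨⟨z, hz⟩, hfix⟩ := hP.nonempty_fixed_point_of_prime_not_dvd_card
    {g : Perm α // g.cycleType = m} hodd
  refine ⟨z, ?_, ?_, ?_⟩
  · have h2 : z ^ 2 = 1 := by
      have : Fact (Nat.Prime 2) := ⟨Nat.prime_two⟩
      rw [Equiv.Perm.pow_prime_eq_one_iff]
      intro c hc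
      rw [hz] at hc
      exact Multiset.eq_of_mem_replicate hc
    intro i
    have := Equiv.congr_fun h2 i
    rwa [pow_two, Perm.mul_apply] at this
  · intro i j hi hj
    by_contra hij
    have h1 : z.support.card = n / 2 * 2 := by rw [← sum_cycleType, hz, hsum]
    have h2 : ({i, j} : Finset α) ⊆ z.supportᶜ := by
      intro k hk
      rw [Finset.mem_compl, Perm.notMem_support]
      rcases Finset.mem_insert.1 hk with rfl | hk
      · exact hi
      · rw [Finset.mem_singleton.1 hk]; exact hj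
    have h3 := Finset.card_le_card h2
    rw [Finset.card_pair hij, Finset.card_compl, h1, ← hn] at h3
    omega
  · intro g hg
    rw [Subgroup.mem_centralizer_singleton_iff]
    have h1 := congrArg Subtype.val (hfix ⟨g, hg⟩)
    change g * z * g⁻¹ = z at h1
    exact mul_inv_eq_iff_eq_mul.1 h1

end Cfsg.Agent.H572.SymSylow
end

-- part: H572/SymSylowC
section
set_option autoImplicit false

namespace Cfsg.Agent.H572.SymSylow

open Equiv Equiv.Perm

/-- Distinct nontrivial orbits of `x` have distinct lengths (stated with stabilizers of points in the powers of `x`). -/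
def DD {α : Type*} (x : Perm α) : Prop :=
  ∀ i j, x i ≠ i → (∀ m : ℕ, (x ^ m) i = i ↔ (x ^ m) j = j) → ∃ k : ℕ, (x ^ k) i = j

/-- `x` has at most two fixed points. -/
def FF {α : Type*} (x : Perm α) : Prop :=
  ∀ i j k, x i = i → x j = j → x k = k → i = j ∨ j = k ∨ i = k

section

variable {α : Type*} {x z : Perm α}

theorem pow_apply_comm (hc : ∀ i, x (z i) = z (x i)) (m : ℕ) (i : α) : (x ^ m) (z i) = z ((x ^ m) i) := by
  induction m generalizing i with
  | zero => rfl
  | succ m ih => rw [pow_succ, Perm.mul_apply, Perm.mul_apply, hc, ih]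

theorem ne_of_ne (hz1 : ∀ i j, z i = i → z j = j → i = j) (hc : ∀ i, x (z i) = z (x i)) {i : α}
    (hi : x i ≠ i) : z i ≠ i := by
  intro h
  apply hi
  apply hz1 _ _ _ h
  rw [← hc, h]

theorem exists_pow (hc : ∀ i, x (z i) = z (x i)) (hD : DD x) {i : α} (hi : x i ≠ i) :
    ∃ k : ℕ, (x ^ k) i = z i := by
  apply hD i (z i) hi
  intro m
  rw [pow_apply_comm hc, z.injective.eq_iff]

theorem dvd_add_of {n m k : ℕ} (h1 : n ∣ 2 * m) (h2 : n ∣ 2 * k) (h3 : ¬ n ∣ m) (h4 : ¬ n ∣ k) : n ∣ m + k := by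
  obtain ⟨a, ha⟩ := h1
  obtain ⟨b, hb⟩ := h2
  rcases Nat.even_or_odd' a with ⟨a', rfl | rfl⟩
  · exfalso; apply h3
    exact ⟨a', by nlinarith⟩
  rcases Nat.even_or_odd' b with ⟨b', rfl | rfl⟩
  · exfalso; apply h4
    exact ⟨b', by nlinarith⟩
  exact ⟨a' + b' + 1, by nlinarith⟩

theorem pow_apply_iff (x : Perm α) (m : ℕ) (i : α) : (x ^ m) i = i ↔ Function.minimalPeriod x i ∣ m := by
  rw [← Function.isPeriodicPt_iff_minimalPeriod_dvd, Function.IsPeriodicPt, Function.IsFixedPt, Perm.iterate_eq_pow]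

theorem half (hz : ∀ i, z (z i) = i) (hz1 : ∀ i j, z i = i → z j = j → i = j) (hc : ∀ i, x (z i) = z (x i))
    (hD : DD x) {i : α} (hi : x i ≠ i) {m : ℕ} (hm : (x ^ (2 * m)) i = i) :
    (x ^ m) i = i ∨ (x ^ m) i = z i := by
  obtain ⟨k, hk⟩ := exists_pow hc hD hi
  have hzi := ne_of_ne hz1 hc hi
  have h1 : (x ^ (2 * k)) i = i := by
    rw [two_mul, pow_add, Perm.mul_apply, hk, pow_apply_comm hc, hk, hz]
  have h2 : (x ^ k) i ≠ i := by rw [hk]; exact hzi
  by_cases h3 : (x ^ m) i = i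
  · exact Or.inl h3
  right
  have h4 := (pow_apply_iff x (m + k) i).2 (dvd_add_of ((pow_apply_iff x _ i).1 hm) ((pow_apply_iff x _ i).1 h1)
    (fun h => h3 ((pow_apply_iff x _ i).2 h)) (fun h => h2 ((pow_apply_iff x _ i).2 h)))
  rw [pow_add, Perm.mul_apply, hk, pow_apply_comm hc] at h4
  calc (x ^ m) i = z (z ((x ^ m) i)) := (hz _).symm
    _ = z i := by rw [h4]

/-- The involution with at most one fixed point commuting with `x` is unique. -/
theorem unique_inv {z' : Perm α} (hz : ∀ i, z (z i) = i) (hz1 : ∀ i j, z i = i → z j = j → i = j)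
    (hc : ∀ i, x (z i) = z (x i)) (hz' : ∀ i, z' (z' i) = i) (hz1' : ∀ i j, z' i = i → z' j = j → i = j)
    (hc' : ∀ i, x (z' i) = z' (x i)) (hD : DD x) (hF : FF x) : z = z' := by
  ext i
  by_cases hi : x i = i
  · have h1 : x (z i) = z i := by rw [hc, hi]
    have h2 : x (z' i) = z' i := by rw [hc', hi]
    rcases hF i (z i) (z' i) hi h1 h2 with h | h | h
    · rcases hF i (z' i) (z (z' i)) hi h2 (by rw [hc, h2]) with h' | h' | h'
      · rw [← h, ← h']
      · have := hz1 i (z' i) h.symm h'.symm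
        rw [← h, ← this]
      · calc z i = z (z (z' i)) := by rw [← h']
          _ = z' i := hz _
    · exact h
    · rcases hF i (z i) (z' (z i)) hi h1 (by rw [hc', h1]) with h' | h' | h'
      · rw [← h, ← h']
      · have := hz1' i (z i) h.symm h'.symm
        rw [← h, ← this]
      · calc z i = z' (z' (z i)) := (hz' _).symm
          _ = z' i := by rw [← h']
  · obtain ⟨k, hk⟩ := exists_pow hc' hD hi
    have h1 : (x ^ (2 * k)) i = i := by
      rw [two_mul, pow_add, Perm.mul_apply, hk, pow_apply_comm hc', hk, hz']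
    rcases half hz hz1 hc hD hi h1 with h | h
    · exfalso
      rw [hk] at h
      exact ne_of_ne hz1' hc' hi h
    · rw [← h, hk]

theorem odd_pow {k : ℕ} (hx : x ^ 2 ^ k = 1) {m : ℕ} (hm : Odd m) {i : α} (h : (x ^ m) i = i) : x i = i := by
  have h1 : (x ^ 2 ^ k) i = i := by rw [hx]; rfl
  rw [pow_apply_iff] at h1 h
  have h2 : Nat.Coprime (2 ^ k) m := (Nat.coprime_two_left.2 hm).pow_left k
  have h3 : Function.minimalPeriod x i = 1 := Nat.eq_one_of_dvd_coprimes h2 h1 h
  have := (pow_apply_iff x 1 i).2 (by rw [h3])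
  simpa using this

theorem descend_D (hz : ∀ i, z (z i) = i) (hz1 : ∀ i j, z i = i → z j = j → i = j)
    (hxc : x ∈ Subgroup.centralizer ({z} : Set (Perm α))) {k : ℕ} (hx : x ^ 2 ^ k = 1)
    (hD : DD x) : DD (orbHom z hz ⟨x, hxc⟩) := by
  have hc : ∀ i, x (z i) = z (x i) := fun i =>
    Equiv.congr_fun (Subgroup.mem_centralizer_singleton_iff.1 hxc) i
  have hq : ∀ (m : ℕ) (i : α), ((orbHom z hz ⟨x, hxc⟩ ^ m) (Quotient.mk (invSetoid z hz) i) =
      Quotient.mk (invSetoid z hz) i) ↔ ((x ^ m) i = i ∨ (x ^ m) i = z i) := by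
    intro m i
    rw [orbHom_pow_mk, mk_eq_iff]
    constructor
    · rintro (h | h)
      · exact Or.inl h.symm
      · right
        calc (x ^ m) i = z (z ((x ^ m) i)) := (hz _).symm
          _ = z i := by rw [← h]
    · rintro (h | h)
      · exact Or.inl h.symm
      · right; change i = z ((x ^ m) i); rw [h, hz]
  intro q q' hne hm
  induction q using Quotient.inductionOn with
  | h i =>
  induction q' using Quotient.inductionOn with
  | h j =>
  have e1 := fun m => (hq m i)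
  have e2 := fun m => (hq m j)
  have hne1 : ¬ ((x ^ 1) i = i ∨ (x ^ 1) i = z i) := by
    rw [← e1 1, pow_one]; exact hne
  have hne2 : ¬ ((x ^ 1) j = j ∨ (x ^ 1) j = z j) := by
    rw [← e2 1, ← hm 1, pow_one]; exact hne
  rw [pow_one, not_or] at hne1 hne2
  have hm' : ∀ m : ℕ, ((x ^ m) i = i ∨ (x ^ m) i = z i) ↔ ((x ^ m) j = j ∨ (x ^ m) j = z j) := by
    intro m
    rw [← e1, ← e2]
    exact hm m
  have hdbl : ∀ (i : α), x i ≠ i → ∀ m : ℕ, (x ^ (2 * m)) i = i ↔ ((x ^ m) i = i ∨ (x ^ m) i = z i) := by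
    intro i hi m
    constructor
    · exact half hz hz1 hc hD hi
    · rintro (h | h)
      · rw [two_mul, pow_add, Perm.mul_apply, h, h]
      · rw [two_mul, pow_add, Perm.mul_apply, h, pow_apply_comm hc, h, hz]
  obtain ⟨l, hl⟩ := hD i j hne1.1 (by
    intro m
    rcases Nat.even_or_odd' m with ⟨m', rfl | rfl⟩
    · rw [hdbl i hne1.1, hdbl j hne2.1]
      exact hm' m'
    · constructor
      · intro h
        exact absurd (odd_pow hx ⟨m', rfl⟩ h) hne1.1
      · intro h
        exact absurd (odd_pow hx ⟨m', rfl⟩ h) hne2.1)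
  refine ⟨l, ?_⟩
  rw [orbHom_pow_mk]
  change Quotient.mk (invSetoid z hz) ((x ^ l) i) = _
  rw [hl]

theorem descend_F (hz : ∀ i, z (z i) = i) (hz1 : ∀ i j, z i = i → z j = j → i = j)
    (hxc : x ∈ Subgroup.centralizer ({z} : Set (Perm α)))
    (hD : DD x) (hF : FF x) : FF (orbHom z hz ⟨x, hxc⟩) := by
  have hc : ∀ i, x (z i) = z (x i) := fun i =>
    Equiv.congr_fun (Subgroup.mem_centralizer_singleton_iff.1 hxc) i
  -- two `x`-fixed points are in one orbit of `z`
  have t1 : ∀ i j, x i = i → x j = j → (j = i ∨ j = z i) := by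
    intro i j hi hj
    rcases hF i (z i) j hi (by rw [hc, hi]) hj with h | h | h
    · rcases hF j (z j) i hj (by rw [hc, hj]) hi with h' | h' | h'
      · exact Or.inl (hz1 i j h.symm h'.symm).symm
      · right; rw [← h', hz]
      · exact Or.inl h'
    · exact Or.inr h.symm
    · exact Or.inl h.symm
  -- two points in 2-cycles of `x` which are `z`-orbits are in one orbit of `z`
  have t2 : ∀ i j, x i ≠ i → x i = z i → x j ≠ j → x j = z j → (j = i ∨ j = z i) := by
    have hev : ∀ i, x i = z i → ∀ m : ℕ, (x ^ (2 * m)) i = i := by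
      intro i hi m
      induction m with
      | zero => rfl
      | succ m ih =>
        rw [show 2 * (m + 1) = 2 * m + 2 by ring, pow_add, Perm.mul_apply, pow_two, Perm.mul_apply, hi, hc, hi, hz, ih]
    have hod : ∀ i, x i = z i → ∀ m : ℕ, (x ^ (2 * m + 1)) i = z i := by
      intro i hi m
      rw [add_comm, pow_add, Perm.mul_apply, hev i hi, pow_one, hi]
    intro i j hi hi' hj hj'
    obtain ⟨l, hl⟩ := hD i j hi (by
      intro m
      rcases Nat.even_or_odd' m with ⟨m', rfl | rfl⟩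
      · rw [hev i hi', hev j hj']; simp
      · rw [hod i hi', hod j hj', ← hi', ← hj']
        exact ⟨fun h => absurd h hi, fun h => absurd h hj⟩)
    rcases Nat.even_or_odd' l with ⟨m', rfl | rfl⟩
    · rw [hev i hi'] at hl; exact Or.inl hl.symm
    · rw [hod i hi'] at hl; exact Or.inr hl.symm
  have hq : ∀ (i : α), (orbHom z hz ⟨x, hxc⟩ (Quotient.mk (invSetoid z hz) i) =
      Quotient.mk (invSetoid z hz) i) → (x i = i ∨ (x i ≠ i ∧ x i = z i)) := by
    intro i h
    by_cases hi : x i = i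
    · exact Or.inl hi
    right
    refine ⟨hi, ?_⟩
    rw [orbHom_mk, mk_eq_iff] at h
    rcases h with h | h
    · exact absurd h.symm hi
    · calc x i = z (z (x i)) := (hz _).symm
        _ = z i := by rw [← h]
  intro q1 q2 q3 h1 h2 h3
  induction q1 using Quotient.inductionOn with
  | h i1 =>
  induction q2 using Quotient.inductionOn with
  | h i2 =>
  induction q3 using Quotient.inductionOn with
  | h i3 =>
  have e : ∀ i j : α, (j = i ∨ j = z i) → Quotient.mk (invSetoid z hz) i = Quotient.mk (invSetoid z hz) j :=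
    fun i j h => (mk_eq_iff z hz).2 h
  rcases hq i1 h1 with a1 | a1 <;> rcases hq i2 h2 with a2 | a2 <;> rcases hq i3 h3 with a3 | a3
  · exact Or.inl (e _ _ (t1 _ _ a1 a2))
  · exact Or.inl (e _ _ (t1 _ _ a1 a2))
  · exact Or.inr (Or.inr (e _ _ (t1 _ _ a1 a3)))
  · exact Or.inr (Or.inl (e _ _ (t2 _ _ a2.1 a2.2 a3.1 a3.2)))
  · exact Or.inr (Or.inl (e _ _ (t1 _ _ a2 a3)))
  · exact Or.inr (Or.inr (e _ _ (t2 _ _ a1.1 a1.2 a3.1 a3.2)))
  · exact Or.inl (e _ _ (t2 _ _ a1.1 a1.2 a2.1 a2.2))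
  · exact Or.inl (e _ _ (t2 _ _ a1.1 a1.2 a2.1 a2.2))

end

/-- A 2-element with at most two fixed points and distinct nontrivial cycle lengths lies in at most one Sylow
2-subgroup of the symmetric group. -/
theorem main (n : ℕ) : ∀ (α : Type) [Fintype α] [DecidableEq α], Fintype.card α = n → ∀ x : Perm α,
    (∃ k, x ^ 2 ^ k = 1) → DD x → FF x → ∀ P Q : Sylow 2 (Perm α), x ∈ P → x ∈ Q → P = Q := by
  induction n using Nat.strong_induction_on with
  | _ n ih =>
  intro α _ _ hn x hx hD hF P Q hP hQ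
  obtain ⟨k, hx⟩ := hx
  rcases subsingleton_or_nontrivial α with hs | hs
  · apply Sylow.ext
    apply Subsingleton.elim
  obtain ⟨z, hz, hz1, hPz⟩ := exists_inv (P : Subgroup (Perm α)) P.isPGroup'
  obtain ⟨z', hz', hz1', hQz'⟩ := exists_inv (Q : Subgroup (Perm α)) Q.isPGroup'
  have hxz := hPz hP
  have hxz' := hQz' hQ
  have hc : ∀ i, x (z i) = z (x i) := fun i =>
    Equiv.congr_fun (Subgroup.mem_centralizer_singleton_iff.1 hxz) i
  have hc' : ∀ i, x (z' i) = z' (x i) := fun i =>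
    Equiv.congr_fun (Subgroup.mem_centralizer_singleton_iff.1 hxz') i
  have hzz : z = z' := unique_inv hz hz1 hc hz' hz1' hc' hD hF
  subst hzz
  refine sylow_eq_of_le (Subgroup.centralizer ({z} : Set (Perm α))) hxz ?_ P Q hP hQ hPz hQz'
  intro R R' hR hR'
  refine sylow_eq_of_hom (orbHom z hz) (ker_orbHom z hz) ?_ R R' hR hR'
  classical
  have hlt : Fintype.card (Orb z hz) < n := by
    rw [← hn]
    obtain ⟨i, hi⟩ : ∃ i, z i ≠ i := by
      by_contra hcon
      push Not at hcon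
      obtain ⟨i, j, hij⟩ := exists_pair_ne α
      exact hij (hz1 i j (hcon i) (hcon j))
    exact Fintype.card_lt_of_surjective_not_injective (Quotient.mk (invSetoid z hz)) Quotient.mk_surjective
      (fun h => hi (h ((mk_eq_iff z hz).2 (Or.inr rfl))).symm)
  have h1 : (⟨x, hxz⟩ : Subgroup.centralizer ({z} : Set (Perm α))) ^ 2 ^ k = 1 := Subtype.ext hx
  exact ih _ hlt (Orb z hz) rfl _ ⟨k, by rw [← map_pow, h1, map_one]⟩
    (descend_D hz hz1 hxz hx hD) (descend_F hz hz1 hxz hD hF)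

end Cfsg.Agent.H572.SymSylow
end

-- part: H572/SymSylowD
section
set_option autoImplicit false

namespace Cfsg.Agent.H572.SymSylow

open Equiv Equiv.Perm

theorem mem_closure_isPGroup {G : Type*} [Group G] {x w : G} {a b : ℕ}
    (hx : x ^ 2 ^ a = 1) (hw : w ^ 2 ^ b = 1) (hc : x * w = w * x) :
    ∃ P : Sylow 2 G, x ∈ P ∧ w ∈ P := by
  have h1 : ∀ {y : G} {c : ℕ}, y ^ 2 ^ c = 1 → IsPGroup 2 (Subgroup.zpowers y) := by
    intro y c hy
    rintro ⟨u, hu⟩
    refine ⟨c, ?_⟩
    obtain ⟨n, rfl⟩ := Subgroup.mem_zpowers_iff.1 hu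
    apply Subtype.ext
    change (y ^ n) ^ 2 ^ c = 1
    rw [← zpow_natCast, ← zpow_mul, mul_comm n, zpow_mul, zpow_natCast, hy, one_zpow]
  have h2 : IsPGroup 2 (Subgroup.zpowers x ⊔ Subgroup.zpowers w : Subgroup G) := by
    apply (h1 hx).to_sup_of_normal_right' (h1 hw)
    rw [Subgroup.zpowers_le]
    rw [Subgroup.mem_normalizer_iff]
    intro u
    have hcx : ∀ u ∈ Subgroup.zpowers w, x * u * x⁻¹ = u := by
      intro u hu
      obtain ⟨n, rfl⟩ := Subgroup.mem_zpowers_iff.1 hu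
      rw [mul_inv_eq_iff_eq_mul]
      exact ((show Commute x w from hc).zpow_right n).eq
    have hcx' : ∀ u ∈ Subgroup.zpowers w, x⁻¹ * u * x = u := by
      intro u hu
      have := hcx u hu
      rw [mul_inv_eq_iff_eq_mul] at this
      rw [mul_assoc, ← this, inv_mul_cancel_left]
    constructor
    · intro hu
      rw [hcx u hu]; exact hu
    · intro hu
      have := hcx' _ hu
      have h3 : u = x * u * x⁻¹ := by
        calc u = x⁻¹ * (x * u * x⁻¹) * x := by group
          _ = _ := this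
      rw [h3]; exact hu
  obtain ⟨P, hP⟩ := h2.exists_le_sylow
  exact ⟨P, hP (le_sup_left (α := Subgroup G) (Subgroup.mem_zpowers x)),
    hP (le_sup_right (α := Subgroup G) (Subgroup.mem_zpowers w))⟩

/-- Three fixed points give two Sylow 2-subgroups. -/
theorem FF_of_unique {α : Type*} [Fintype α] [DecidableEq α] {x : Perm α} {k : ℕ} (hx : x ^ 2 ^ k = 1)
    (hu : ∀ P Q : Sylow 2 (Perm α), x ∈ P → x ∈ Q → P = Q) : FF x := by
  intro i j l hi hj hl
  by_contra hcon
  push Not at hcon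
  obtain ⟨hij, hjl, hil⟩ := hcon
  have h1 : ∀ u v : α, x u = u → x v = v → x * swap u v = swap u v * x := by
    intro u v hu hv
    rw [mul_swap_eq_swap_mul, hu, hv]
  have h2 : ∀ u v : α, (swap u v : Perm α) ^ 2 ^ 1 = 1 := by
    intro u v
    rw [pow_one, pow_two, swap_mul_self]
  obtain ⟨P, hP1, hP2⟩ := mem_closure_isPGroup hx (h2 i j) (h1 i j hi hj)
  obtain ⟨Q, hQ1, hQ2⟩ := mem_closure_isPGroup hx (h2 i l) (h1 i l hi hl)
  have hPQ := hu P Q hP1 hQ1
  subst hPQ
  have h3 := isThreeCycle_swap_mul_swap_same hij hil hjl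
  have h4 : (swap i j * swap i l) ^ 3 = 1 := by rw [← h3.orderOf]; exact pow_orderOf_eq_one _
  have h5 := eq_one_of_cube P.isPGroup' (Subgroup.mul_mem _ hP2 hQ2) h4
  have h6 := h3.orderOf
  rw [h5, orderOf_one] at h6
  omega

section tau

variable {α : Type*} (x : Perm α) (p q : α)

open Classical in
/-- The map exchanging `x ^ m p` and `x ^ m q`. -/
noncomputable def tauFun (i : α) : α :=
  if h : ∃ m : ℕ, (x ^ m) p = i then (x ^ h.choose) q
  else if h : ∃ m : ℕ, (x ^ m) q = i then (x ^ h.choose) p else i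

variable {x p q}

theorem pow_eq_pow (hs : ∀ m : ℕ, (x ^ m) p = p ↔ (x ^ m) q = q) (a b : ℕ) :
    (x ^ a) p = (x ^ b) p ↔ (x ^ a) q = (x ^ b) q := by
  rcases le_total a b with h | h
  · obtain ⟨c, rfl⟩ := Nat.exists_eq_add_of_le h
    rw [pow_add, Perm.mul_apply, Perm.mul_apply, (x ^ a).injective.eq_iff, (x ^ a).injective.eq_iff, eq_comm, hs,
      eq_comm]
  · obtain ⟨c, rfl⟩ := Nat.exists_eq_add_of_le h
    rw [pow_add, Perm.mul_apply, Perm.mul_apply, (x ^ b).injective.eq_iff, (x ^ b).injective.eq_iff, hs]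

theorem tauFun_p (hs : ∀ m : ℕ, (x ^ m) p = p ↔ (x ^ m) q = q) (m : ℕ) :
    tauFun x p q ((x ^ m) p) = (x ^ m) q := by
  have h : ∃ m' : ℕ, (x ^ m') p = (x ^ m) p := ⟨m, rfl⟩
  rw [tauFun, dif_pos h]
  exact (pow_eq_pow hs _ _).1 h.choose_spec

theorem not_orb {k : ℕ} (hx : x ^ 2 ^ k = 1) (hne : ∀ m : ℕ, (x ^ m) p ≠ q) (a b : ℕ) : (x ^ a) p ≠ (x ^ b) q := by
  intro h
  obtain ⟨c, hc⟩ : ∃ c : ℕ, (x ^ (c + b)) = 1 := by
    refine ⟨2 ^ k * b - b, ?_⟩
    have : 2 ^ k * b - b + b = 2 ^ k * b := Nat.sub_add_cancel (Nat.le_mul_of_pos_left b (by positivity))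
    rw [this, pow_mul, hx, one_pow]
  apply hne (c + a)
  rw [pow_add, Perm.mul_apply, h, ← Perm.mul_apply, ← pow_add, hc]
  rfl

theorem tauFun_q {k : ℕ} (hx : x ^ 2 ^ k = 1) (hne : ∀ m : ℕ, (x ^ m) p ≠ q)
    (hs : ∀ m : ℕ, (x ^ m) p = p ↔ (x ^ m) q = q) (m : ℕ) :
    tauFun x p q ((x ^ m) q) = (x ^ m) p := by
  have h0 : ¬ ∃ m' : ℕ, (x ^ m') p = (x ^ m) q := by
    rintro ⟨m', h⟩
    exact not_orb hx hne _ _ h
  have h : ∃ m' : ℕ, (x ^ m') q = (x ^ m) q := ⟨m, rfl⟩
  rw [tauFun, dif_neg h0, dif_pos h]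
  exact (pow_eq_pow hs _ _).2 h.choose_spec

theorem tauFun_o {i : α} (h1 : ∀ m : ℕ, (x ^ m) p ≠ i) (h2 : ∀ m : ℕ, (x ^ m) q ≠ i) :
    tauFun x p q i = i := by
  rw [tauFun, dif_neg (by push Not; exact h1), dif_neg (by push Not; exact h2)]

theorem tauFun_invol {k : ℕ} (hx : x ^ 2 ^ k = 1) (hne : ∀ m : ℕ, (x ^ m) p ≠ q)
    (hs : ∀ m : ℕ, (x ^ m) p = p ↔ (x ^ m) q = q) (i : α) :
    tauFun x p q (tauFun x p q i) = i := by
  by_cases h1 : ∃ m : ℕ, (x ^ m) p = i
  · obtain ⟨m, rfl⟩ := h1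
    rw [tauFun_p hs, tauFun_q hx hne hs]
  by_cases h2 : ∃ m : ℕ, (x ^ m) q = i
  · obtain ⟨m, rfl⟩ := h2
    rw [tauFun_q hx hne hs, tauFun_p hs]
  push Not at h1 h2
  rw [tauFun_o h1 h2, tauFun_o h1 h2]

end tau

theorem DD_of_unique {α : Type*} [Fintype α] [DecidableEq α] {x : Perm α} {k : ℕ} (hx : x ^ 2 ^ k = 1)
    (hu : ∀ P Q : Sylow 2 (Perm α), x ∈ P → x ∈ Q → P = Q) : DD x := by
  intro p q hp hs
  by_contra hne
  push Not at hne
  -- the involution exchanging the two orbits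
  let τ : Perm α := ⟨tauFun x p q, tauFun x p q, tauFun_invol hx hne hs, tauFun_invol hx hne hs⟩
  have τp : ∀ m : ℕ, τ ((x ^ m) p) = (x ^ m) q := tauFun_p hs
  have τq : ∀ m : ℕ, τ ((x ^ m) q) = (x ^ m) p := tauFun_q hx hne hs
  have τo : ∀ i, (∀ m : ℕ, (x ^ m) p ≠ i) → (∀ m : ℕ, (x ^ m) q ≠ i) → τ i = i := fun i => tauFun_o
  have hτ : ∀ i, τ (τ i) = i := tauFun_invol hx hne hs
  -- three kinds of points
  have hcase : ∀ i, (∃ m : ℕ, (x ^ m) p = i) ∨ (∃ m : ℕ, (x ^ m) q = i) ∨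
      ((∀ m : ℕ, (x ^ m) p ≠ i) ∧ (∀ m : ℕ, (x ^ m) q ≠ i)) := by
    intro i
    by_cases h1 : ∃ m : ℕ, (x ^ m) p = i
    · exact Or.inl h1
    by_cases h2 : ∃ m : ℕ, (x ^ m) q = i
    · exact Or.inr (Or.inl h2)
    push Not at h1 h2
    exact Or.inr (Or.inr ⟨h1, h2⟩)
  have hsucc : ∀ (m : ℕ) (i : α), x ((x ^ m) i) = (x ^ (m + 1)) i := by
    intro m i
    rw [pow_succ', Perm.mul_apply]
  have hout : ∀ i, ((∀ m : ℕ, (x ^ m) p ≠ i) ∧ (∀ m : ℕ, (x ^ m) q ≠ i)) →
      ((∀ m : ℕ, (x ^ m) p ≠ x i) ∧ (∀ m : ℕ, (x ^ m) q ≠ x i)) := by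
    have key : ∀ r i : α, (∀ m : ℕ, (x ^ m) r ≠ i) → ∀ m : ℕ, (x ^ m) r ≠ x i := by
      intro r i h m hm
      apply h (2 ^ k - 1 + m)
      have h1 : (x ^ (2 ^ k - 1)) (x i) = i := by
        rw [← Perm.mul_apply, ← pow_succ, Nat.sub_add_cancel Nat.one_le_two_pow, hx]; rfl
      rw [pow_add, Perm.mul_apply, hm, h1]
    rintro i ⟨h1, h2⟩
    exact ⟨key p i h1, key q i h2⟩
  have hxτ : ∀ i, x (τ i) = τ (x i) := by
    intro i
    rcases hcase i with ⟨m, rfl⟩ | ⟨m, rfl⟩ | h
    · rw [τp, hsucc, hsucc, τp]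
    · rw [τq, hsucc, hsucc, τq]
    · rw [τo i h.1 h.2, τo (x i) (hout i h).1 (hout i h).2]
  -- the 2-element `y`
  have hpq : ¬ SameCycle x p q := by
    intro h
    obtain ⟨m, -, -, hm⟩ := h.exists_pow_eq
    exact hne m hm
  let c : Perm α := cycleOf x q
  have cp : ∀ m : ℕ, c ((x ^ m) p) = (x ^ m) p := by
    intro m
    apply cycleOf_apply_of_not_sameCycle
    intro h
    apply hpq
    exact (sameCycle_pow_right.1 h).symm
  have cq : ∀ m : ℕ, c ((x ^ m) q) = (x ^ (m + 1)) q := by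
    intro m
    rw [← hsucc]
    apply SameCycle.cycleOf_apply
    exact sameCycle_pow_right.2 (SameCycle.refl _ _)
  have co : ∀ i, (∀ m : ℕ, (x ^ m) q ≠ i) → c i = i := by
    intro i h
    apply cycleOf_apply_of_not_sameCycle
    intro h'
    obtain ⟨m, -, -, hm⟩ := h'.exists_pow_eq
    exact h m hm
  obtain ⟨y, hydef⟩ : ∃ y : Perm α, y = τ * c := ⟨_, rfl⟩
  have yp : ∀ m : ℕ, y ((x ^ m) p) = (x ^ m) q := by
    intro m
    rw [hydef, Perm.mul_apply, cp, τp]
  have yq : ∀ m : ℕ, y ((x ^ m) q) = (x ^ (m + 1)) p := by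
    intro m
    rw [hydef, Perm.mul_apply, cq, τq]
  have yo : ∀ i, (∀ m : ℕ, (x ^ m) p ≠ i) → (∀ m : ℕ, (x ^ m) q ≠ i) → y i = i := by
    intro i h1 h2
    rw [hydef, Perm.mul_apply, co i h2, τo i h1 h2]
  have hxy : x * y = y * x := by
    ext i
    change x (y i) = y (x i)
    rcases hcase i with ⟨m, rfl⟩ | ⟨m, rfl⟩ | h
    · rw [yp, hsucc, hsucc, yp]
    · rw [yq, hsucc, hsucc, yq]
    · rw [yo i h.1 h.2, yo (x i) (hout i h).1 (hout i h).2]
  have hy2 : ∀ (n : ℕ) (i : α), ((y ^ (2 * n)) i = (x ^ n) i) ∨ ((y ^ (2 * n)) i = i ∧ y i = i) := by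
    intro n i
    rcases hcase i with ⟨m, rfl⟩ | ⟨m, rfl⟩ | h
    · left
      induction n with
      | zero => rfl
      | succ n ih =>
        rw [show 2 * (n + 1) = 1 + (1 + 2 * n) by ring, pow_add, pow_one, Perm.mul_apply, pow_add, pow_one,
          Perm.mul_apply, ih, ← Perm.mul_apply (x ^ n), ← pow_add, yp, yq, ← Perm.mul_apply, ← pow_add]
        congr 2
        ring
    · left
      induction n with
      | zero => rfl
      | succ n ih =>
        rw [show 2 * (n + 1) = 1 + (1 + 2 * n) by ring, pow_add, pow_one, Perm.mul_apply, pow_add, pow_one,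
          Perm.mul_apply, ih, ← Perm.mul_apply (x ^ n), ← pow_add, yq, yp, ← Perm.mul_apply, ← pow_add]
        congr 2
        ring
    · right
      have h1 := yo i h.1 h.2
      refine ⟨?_, h1⟩
      exact Perm.pow_apply_eq_self_of_apply_eq_self h1 _
  have hy : y ^ 2 ^ (k + 1) = 1 := by
    ext i
    rw [pow_succ', ]
    rcases hy2 (2 ^ k) i with h | h
    · rw [h, hx]
    · rw [h.1]; rfl
  obtain ⟨P, hP1, hP2⟩ := mem_closure_isPGroup hx hy hxy
  -- the second Sylow subgroup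
  let w : Perm α := swap p q
  have hpq' : p ≠ q := fun h => hne 0 (by rw [pow_zero]; exact h)
  have τp0 : τ p = q := τp 0
  have τq0 : τ q = p := τq 0
  have hwτ : w ∈ Subgroup.centralizer ({τ} : Set (Perm α)) := by
    rw [Subgroup.mem_centralizer_singleton_iff]
    change swap p q * τ = τ * swap p q
    rw [mul_swap_eq_swap_mul, τp0, τq0, swap_comm]
  have hxτ' : x ∈ Subgroup.centralizer ({τ} : Set (Perm α)) := by
    rw [Subgroup.mem_centralizer_singleton_iff]
    ext i
    exact hxτ i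
  have hwk : orbHom τ hτ ⟨w, hwτ⟩ = 1 := by
    ext r
    induction r using Quotient.inductionOn with
    | h i =>
    rw [orbHom_mk, Perm.one_apply, mk_eq_iff]
    change i = swap p q i ∨ i = τ (swap p q i)
    by_cases h1 : i = p
    · right; rw [h1, swap_apply_left, τq0]
    by_cases h2 : i = q
    · right; rw [h2, swap_apply_right, τp0]
    left
    rw [swap_apply_of_ne_of_ne h1 h2]
  obtain ⟨Q, hQ1, hQ2⟩ : ∃ Q : Sylow 2 (Perm α), x ∈ Q ∧ w ∈ Q := by
    have h1 : IsPGroup 2 (Subgroup.zpowers (orbHom τ hτ ⟨x, hxτ'⟩)) := by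
      rintro ⟨u, hu⟩
      refine ⟨k, ?_⟩
      obtain ⟨n, rfl⟩ := Subgroup.mem_zpowers_iff.1 hu
      apply Subtype.ext
      change (orbHom τ hτ ⟨x, hxτ'⟩ ^ n) ^ 2 ^ k = 1
      have h0 : (⟨x, hxτ'⟩ : Subgroup.centralizer ({τ} : Set (Perm α))) ^ 2 ^ k = 1 := Subtype.ext hx
      rw [← zpow_natCast, ← zpow_mul, mul_comm n, zpow_mul, zpow_natCast, ← map_pow, h0, map_one, one_zpow]
    have h2 := (h1.comap_of_ker_isPGroup (orbHom τ hτ) (ker_orbHom τ hτ)).map
      (Subgroup.subtype (Subgroup.centralizer ({τ} : Set (Perm α))))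
    obtain ⟨Q, hQ⟩ := h2.exists_le_sylow
    refine ⟨Q, hQ ⟨⟨x, hxτ'⟩, Subgroup.mem_zpowers _, rfl⟩, hQ ⟨⟨w, hwτ⟩, ?_, rfl⟩⟩
    change orbHom τ hτ ⟨w, hwτ⟩ ∈ Subgroup.zpowers _
    rw [hwk]
    exact Subgroup.one_mem _
  have hPQ := hu P Q hP1 hQ1
  subst hPQ
  -- an element of order 3
  have hconj : y * w * y⁻¹ = swap q (x p) := by
    change y * swap p q * y⁻¹ = _
    rw [mul_swap_eq_swap_mul, mul_assoc, mul_inv_cancel, mul_one]
    have e1 : y p = q := yp 0
    have e2 : y q = x p := by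
      have := yq 0
      rw [pow_zero, zero_add, pow_one] at this
      exact this
    rw [e1, e2]
  have hm1 : swap q p * swap q (x p) ∈ P := by
    apply Subgroup.mul_mem
    · rw [swap_comm]; exact hQ2
    · rw [← hconj]
      exact Subgroup.mul_mem _ (Subgroup.mul_mem _ hP2 hQ2) (Subgroup.inv_mem _ hP2)
  have hqx : q ≠ x p := fun h => hne 1 (by rw [pow_one]; exact h.symm)
  have h3 := isThreeCycle_swap_mul_swap_same hpq'.symm hqx (Ne.symm hp)
  have h4 : (swap q p * swap q (x p)) ^ 3 = 1 := by rw [← h3.orderOf]; exact pow_orderOf_eq_one _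
  have h5 := eq_one_of_cube P.isPGroup' hm1 h4
  have h6 := h3.orderOf
  rw [h5, orderOf_one] at h6
  omega

end Cfsg.Agent.H572.SymSylow
end

-- part: H572/SymSylowE
section
set_option autoImplicit false

namespace Cfsg.Agent.H572.SymSylow

open Equiv Equiv.Perm

theorem FF_iff {n : ℕ} (x : Perm (Fin n)) : FF x ↔ n ≤ x.support.card + 2 := by
  have h1 : x.supportᶜ.card = n - x.support.card := by rw [Finset.card_compl, Fintype.card_fin]
  have h2 : x.support.card ≤ n := by
    have := Finset.card_le_univ x.support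
    rwa [Fintype.card_fin] at this
  have h3 : n ≤ x.support.card + 2 ↔ ¬ 2 < x.supportᶜ.card := by omega
  rw [h3, Finset.two_lt_card]
  constructor
  · rintro h ⟨i, hi, j, hj, k, hk, hij, hik, hjk⟩
    rw [Finset.mem_compl, notMem_support] at hi hj hk
    rcases h i j k hi hj hk with e | e | e
    · exact hij e
    · exact hjk e
    · exact hik e
  · intro h i j k hi hj hk
    by_contra hcon
    push Not at hcon
    apply h
    refine ⟨i, ?_, j, ?_, k, ?_, hcon.1, hcon.2.2, hcon.2.1⟩ <;> rw [Finset.mem_compl, notMem_support] <;>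
      assumption

theorem pow_apply_eq_self_iff {α : Type*} [Fintype α] [DecidableEq α] (x : Perm α) {i : α} (hi : x i ≠ i) (m : ℕ) :
    (x ^ m) i = i ↔ (cycleOf x i).support.card ∣ m := by
  have hc := isCycle_cycleOf x hi
  rw [← hc.orderOf, orderOf_dvd_iff_pow_eq_one, hc.pow_eq_one_iff' (x := i)]
  · rw [cycleOf_pow_apply_self]
  · rw [cycleOf_apply_self]; exact hi

theorem DD_iff {α : Type*} [Fintype α] [DecidableEq α] (x : Perm α) : DD x ↔ x.cycleType.Nodup := by
  rw [cycleType_def, Multiset.nodup_map_iff_inj_on x.cycleFactorsFinset.nodup]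
  constructor
  · intro h c hc c' hc' he
    have hc : c ∈ x.cycleFactorsFinset := hc
    have hc' : c' ∈ x.cycleFactorsFinset := hc'
    obtain ⟨i, hi⟩ := (mem_cycleFactorsFinset_iff.1 hc).1.nonempty_support
    obtain ⟨j, hj⟩ := (mem_cycleFactorsFinset_iff.1 hc').1.nonempty_support
    have hci := cycle_is_cycleOf hi hc
    have hcj := cycle_is_cycleOf hj hc'
    have hxi : x i ≠ i := mem_support.1 (mem_cycleFactorsFinset_support_le hc hi)
    have hxj : x j ≠ j := mem_support.1 (mem_cycleFactorsFinset_support_le hc' hj)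
    obtain ⟨k, hk⟩ := h i j hxi (by
      intro m
      rw [pow_apply_eq_self_iff x hxi, pow_apply_eq_self_iff x hxj, ← hci, ← hcj]
      change c.support.card = c'.support.card at he
      rw [he])
    have hs : SameCycle x i j := ⟨k, by rw [zpow_natCast]; exact hk⟩
    rw [hci, hcj]
    exact hs.cycleOf_eq
  · intro h i j hi hm
    have hj : x j ≠ j := by
      have := hm 1
      rw [pow_one] at this
      exact fun h' => hi (this.2 h')
    have h1 : (cycleOf x i).support.card = (cycleOf x j).support.card := by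
      apply Nat.dvd_antisymm
      · rw [← pow_apply_eq_self_iff x hi, hm, pow_apply_eq_self_iff x hj]
      · rw [← pow_apply_eq_self_iff x hj, ← hm, pow_apply_eq_self_iff x hi]
    have h2 : cycleOf x i = cycleOf x j := by
      apply h
      · exact cycleOf_mem_cycleFactorsFinset_iff.2 (mem_support.2 hi)
      · exact cycleOf_mem_cycleFactorsFinset_iff.2 (mem_support.2 hj)
      · exact h1
    have h3 : SameCycle x i j :=
      (sameCycle_iff_cycleOf_eq_of_mem_support (mem_support.2 hi) (mem_support.2 hj)).2 h2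
    obtain ⟨m, -, -, hm⟩ := h3.exists_pow_eq
    exact ⟨m, hm⟩

end Cfsg.Agent.H572.SymSylow
end

-- part: S4349
section
set_option autoImplicit false
open Cfsg

namespace Cfsg.Agent.S4349

/-- Let n ≥ 2 and let x be an element of 2-power order of the symmetric group of degree n. Then x lies in exactly one Sylow 2-subgroup if and only if x has at most two fixed points and the nontrivial cycles of x have pairwise different lengths. -/
theorem result (n : ℕ) (hn : 2 ≤ n)
    (x : Equiv.Perm (Fin n)) (hx : ∃ k : ℕ, orderOf x = 2 ^ k) :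
    (∃! P : Sylow 2 (Equiv.Perm (Fin n)), x ∈ P) ↔ (n ≤ x.support.card + 2 ∧ x.cycleType.Nodup) := by
  obtain ⟨k, hk⟩ := hx
  have hx : x ^ 2 ^ k = 1 := by rw [← hk]; exact pow_orderOf_eq_one x
  rw [← Cfsg.Agent.H572.SymSylow.FF_iff, ← Cfsg.Agent.H572.SymSylow.DD_iff]
  constructor
  · rintro ⟨R, -, hR⟩
    have hu : ∀ P Q : Sylow 2 (Equiv.Perm (Fin n)), x ∈ P → x ∈ Q → P = Q :=
      fun P Q hP hQ => (hR P hP).trans (hR Q hQ).symm
    exact ⟨Cfsg.Agent.H572.SymSylow.FF_of_unique hx hu, Cfsg.Agent.H572.SymSylow.DD_of_unique hx hu⟩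
  · rintro ⟨hF, hD⟩
    obtain ⟨P, hP, -⟩ := Cfsg.Agent.H572.SymSylow.mem_closure_isPGroup hx hx rfl
    exact ⟨P, hP, fun Q hQ => Cfsg.Agent.H572.SymSylow.main n (Fin n) (Fintype.card_fin n) x ⟨k, hx⟩ hD hF Q P hQ hP⟩

end Cfsg.Agent.S4349
end
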