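import Cfsg.Agent.H583.L3Group
import Cfsg.Agent.H575.GLev
import Cfsg.Agent.H575.StartC
import Mathlib
import Cfsg.Agent.Lib.PGroupCoprimeAction
import Cfsg.Agent.H575.KLCore
import Cfsg.Agent.Lib.BenderMaximal
import Cfsg.Statements.S4363
set_option linter.all false

-- part: H583/L3
section
/-! `l3`, a piece of S4363 (Turull's theorem). -/

namespace Cfsg.Agent.H583.L3

open Subgroup
open scoped Pointwise commutatorElement

theorem fixed_coset' {G : Type*} [Group G] [Finite G] (Q N : Subgroup G) (τ : G) {r : ℕ}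
    (hr : r.Prime) (hτ : τ ^ r = 1) (hrQ : ¬ r ∣ Nat.card Q) (hτQ : τ ∈ normalizer (Q : Set G))
    (hNQ : N ≤ Q) (hN : ∀ x ∈ N, τ * x * τ⁻¹ ∈ N) (x : G) (hx : x ∈ Q)
    (hxN : x⁻¹ * (τ * x * τ⁻¹) ∈ N) : ∃ n ∈ N, (x * n) * τ = τ * (x * n) := by
  set s : MulAut Q := Q.normalizerMonoidHom ⟨τ, hτQ⟩ with hs
  have hsr : s ^ r = 1 := by
    ext x
    rw [hs, conj_pow_coe, hτ]; simp
  obtain ⟨k, hk, hk2⟩ := fixed_coset s hr hsr hrQ (N.subgroupOf Q) (by
    intro x hx
    rw [mem_subgroupOf] at hx ⊢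
    exact hN _ hx) ⟨x, hx⟩ (by
      rw [mem_subgroupOf]
      exact hxN)
  refine ⟨k, hk, ?_⟩
  have h2 := congrArg (fun z : Q => (z : G)) hk2
  change τ * (x * k) * τ⁻¹ = x * k at h2
  rw [mul_inv_eq_iff_eq_mul] at h2
  exact h2.symm

section tr

variable {M G : Type*} [AddCommGroup M] [Group G] [DistribMulAction G M]

/-- the trace of `m` along `⟨σ⟩`. -/
def tr (σ : G) (r : ℕ) (m : M) : M := ∑ j ∈ Finset.range r, (σ ^ j) • m

theorem tr_smul_one (σ : G) (r : ℕ) (hσ : σ ^ r = 1) (m : M) : tr σ r (σ • m) = tr σ r m := by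
  unfold tr
  have h1 := Finset.sum_range_succ (fun j => (σ ^ j) • m) r
  have h2 := Finset.sum_range_succ' (fun j => (σ ^ j) • m) r
  rw [h1, hσ, pow_zero] at h2
  have h3 := add_right_cancel h2
  rw [h3]
  apply Finset.sum_congr rfl
  intro j _
  rw [pow_succ, mul_smul]

theorem tr_smul (σ : G) (r : ℕ) (hσ : σ ^ r = 1) (k : ℕ) (m : M) :
    tr σ r ((σ ^ k) • m) = tr σ r m := by
  induction k with
  | zero => simp
  | succ k ih => rw [pow_succ', mul_smul, tr_smul_one σ r hσ, ih]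

theorem smul_tr (σ : G) (r : ℕ) (d : G) (hd : d * σ = σ * d) (m : M) :
    d • tr σ r m = tr σ r (d • m) := by
  unfold tr
  rw [Finset.smul_sum]
  apply Finset.sum_congr rfl
  intro j _
  rw [← mul_smul, ← mul_smul]
  congr 1
  exact (Commute.pow_right hd j)

theorem tr_sum (σ : G) (r : ℕ) {ι : Type*} (s : Finset ι) (f : ι → M) :
    tr σ r (∑ i ∈ s, f i) = ∑ i ∈ s, tr σ r (f i) := by
  unfold tr
  rw [Finset.sum_comm]
  apply Finset.sum_congr rfl
  intro j _
  rw [Finset.smul_sum]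

theorem tr_fix (σ : G) (r : ℕ) (m : M) (hm : σ • m = m) : tr σ r m = r • m := by
  unfold tr
  have : ∀ j : ℕ, (σ ^ j) • m = m := by
    intro j
    induction j with
    | zero => simp
    | succ j ih => rw [pow_succ', mul_smul, ih, hm]
  simp [this]

/-- `tr (t • tr (w • l)) = ∑ k, tr ((t * (σ ^ k * w * σ ^ (-k))) • l)` for a `σ`-fixed `l`. -/
theorem tr_tr (σ : G) (r : ℕ) (t w : G) (l : M) (hl : σ • l = l) :
    tr σ r (t • tr σ r (w • l)) =
      ∑ k ∈ Finset.range r, tr σ r ((t * (σ ^ k * w * (σ ^ k)⁻¹)) • l) := by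
  have h1 : t • tr σ r (w • l) = ∑ k ∈ Finset.range r, t • (σ ^ k) • w • l := by
    unfold tr
    rw [Finset.smul_sum]
  rw [h1, tr_sum]
  apply Finset.sum_congr rfl
  intro k _
  congr 1
  have h2 : ∀ j : ℕ, (σ ^ j)⁻¹ • l = l := by
    intro j
    rw [inv_smul_eq_iff]
    induction j with
    | zero => simp
    | succ j ih => rw [pow_succ', mul_smul, ← ih, hl]
  rw [mul_smul, mul_smul, mul_smul, h2]

end tr

theorem l3 {M G : Type*} [AddCommGroup M] [Group G] [Finite G] [DistribMulAction G M]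
    (Q T : Subgroup G) (σ : G) (r : ℕ) (hr : r.Prime) (hσ : σ ^ r = 1)
    (hrM : ∀ m : M, r • m = 0 → m = 0) (hrQ : ¬ r ∣ Nat.card Q) (hrT : ¬ r ∣ Nat.card T)
    (hQn : Group.IsNilpotent Q) (hσQ : σ ∈ normalizer (Q : Set G))
    (hTQ : T ≤ normalizer (Q : Set G)) (hTσ : ∀ t ∈ T, t * σ = σ * t)
    (hQσ : ⁅Q, zpowers σ⁆ = Q) (hQT : ⁅Q, T⁆ = Q)
    (hcen : ∀ c ∈ Q, c * σ = σ * c → ∀ x ∈ Q, c * x = x * c)
    (hC : ∀ m : M, (∀ x ∈ Q, x • m = m) → ∀ t ∈ T, t • m = m)
    (L : Set M) (hLQ : ∀ x ∈ Q, ∀ l ∈ L, x • l ∈ L)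
    (hstar : ∀ l ∈ L, σ • l ≠ l → ∀ t ∈ T,
      ∑ j ∈ Finset.range r, (σ ^ j) • t • l = ∑ j ∈ Finset.range r, (σ ^ j) • l) :
    ∀ l ∈ L, σ • l = l → ∀ t ∈ T, t • l = l := by
  classical
  intro l hlL hl
  by_contra hcon
  have hσl : ∀ j : ℕ, (σ ^ j) • l = l := by
    intro j
    induction j with
    | zero => simp
    | succ j ih => rw [pow_succ', mul_smul, ih, hl]
  -- the subgroup `N`
  let N : Subgroup G :=
    { carrier := {x | ∃ c ∈ Q, c * σ = σ * c ∧ ∃ s ∈ Q, s • l = l ∧ x = c * s}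
      mul_mem' := by
        rintro _ _ ⟨c, hc, hcσ, s, hs, hsl, rfl⟩ ⟨c', hc', hcσ', s', hs', hsl', rfl⟩
        refine ⟨c * c', Q.mul_mem hc hc', ?_, s * s', Q.mul_mem hs hs', ?_, ?_⟩
        · rw [mul_assoc, hcσ', ← mul_assoc, hcσ, mul_assoc]
        · rw [mul_smul, hsl', hsl]
        · have h := hcen c' hc' hcσ' s hs
          calc c * s * (c' * s') = c * (s * c') * s' := by group
            _ = c * (c' * s) * s' := by rw [h]
            _ = c * c' * (s * s') := by group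
      one_mem' := ⟨1, Q.one_mem, by simp, 1, Q.one_mem, by simp, by simp⟩
      inv_mem' := by
        rintro _ ⟨c, hc, hcσ, s, hs, hsl, rfl⟩
        refine ⟨c⁻¹, Q.inv_mem hc, ?_, s⁻¹, Q.inv_mem hs, ?_, ?_⟩
        · exact (Commute.inv_left (show Commute c σ from hcσ)).eq
        · rw [inv_smul_eq_iff, hsl]
        · have h := hcen c hc hcσ s hs
          rw [← mul_inv_rev, ← h] }
  have hNmem : ∀ x, x ∈ N ↔ ∃ c ∈ Q, c * σ = σ * c ∧ ∃ s ∈ Q, s • l = l ∧ x = c * s := fun x =>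
    Iff.rfl
  have hNQ : N ≤ Q := by
    rintro _ ⟨c, hc, hcσ, s, hs, hsl, rfl⟩
    exact Q.mul_mem hc hs
  have hconjQ : ∀ (k : ℕ), ∀ x ∈ Q, σ ^ k * x * (σ ^ k)⁻¹ ∈ Q := by
    intro k x hx
    exact (mem_normalizer_iff.mp ((normalizer (Q : Set G)).pow_mem hσQ k) x).mp hx
  have hσNk : ∀ (k : ℕ), ∀ x ∈ N, σ ^ k * x * (σ ^ k)⁻¹ ∈ N := by
    rintro k _ ⟨c, hc, hcσ, s, hs, hsl, rfl⟩
    refine ⟨c, hc, hcσ, σ ^ k * s * (σ ^ k)⁻¹, hconjQ k s hs, ?_, ?_⟩
    · rw [mul_smul, mul_smul]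
      have : (σ ^ k)⁻¹ • l = l := by rw [inv_smul_eq_iff, hσl]
      rw [this, hsl, hσl]
    · have h : σ ^ k * c = c * σ ^ k := (Commute.pow_right (show Commute c σ from hcσ) k).eq.symm
      calc σ ^ k * (c * s) * (σ ^ k)⁻¹ = (σ ^ k * c) * s * (σ ^ k)⁻¹ := by group
        _ = (c * σ ^ k) * s * (σ ^ k)⁻¹ := by rw [h]
        _ = _ := by group
  have hσN : ∀ x ∈ N, σ * x * σ⁻¹ ∈ N := by
    intro x hx
    have := hσNk 1 x hx
    simpa using this
  have hCN : ∀ c ∈ Q, c * σ = σ * c → c ∈ N := by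
    intro c hc hcσ
    exact ⟨c, hc, hcσ, 1, Q.one_mem, by simp, by simp⟩
  -- fixed points
  have hN3 : ∀ y ∈ Q, σ • y • l = y • l → y ∈ N := by
    intro y hy hyl
    let S : Subgroup G := Q ⊓ MulAction.stabilizer G l
    have hS : ∀ x, x ∈ S ↔ x ∈ Q ∧ x • l = l := fun x => Iff.rfl
    obtain ⟨n, hn, hyn⟩ := fixed_coset' Q S σ hr hσ hrQ hσQ inf_le_left (by
      intro x hx
      rw [hS] at hx ⊢
      refine ⟨by simpa using hconjQ 1 x hx.1, ?_⟩
      rw [mul_smul, mul_smul]
      have : σ⁻¹ • l = l := by rw [inv_smul_eq_iff, hl]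
      rw [this, hx.2, hl]) y hy (by
        rw [hS]
        refine ⟨Q.mul_mem (Q.inv_mem hy) (by simpa using hconjQ 1 y hy), ?_⟩
        rw [mul_smul, mul_smul, mul_smul]
        have : σ⁻¹ • l = l := by rw [inv_smul_eq_iff, hl]
        rw [this, hyl, inv_smul_smul])
    rw [hS] at hn
    refine ⟨y * n, Q.mul_mem hy hn.1, hyn, n⁻¹, Q.inv_mem hn.1, ?_, by group⟩
    rw [inv_smul_eq_iff, hn.2]
  -- translates
  have hN4 : ∀ u ∈ Q, ∀ k : ℕ, 0 < k → k < r → u * (σ ^ k * u⁻¹ * (σ ^ k)⁻¹) ∈ N → u ∈ N := by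
    intro u hu k hk0 hkr hk
    obtain ⟨n, hn, hyn⟩ := fixed_coset' Q N (σ ^ k) hr
      (by rw [← pow_mul, mul_comm, pow_mul, hσ, one_pow]) hrQ
      ((normalizer (Q : Set G)).pow_mem hσQ k) hNQ (hσNk k) u⁻¹ (Q.inv_mem hu) (by
        rw [inv_inv]; exact hk)
    have hcop : Nat.Coprime k r := by
      apply Nat.Coprime.symm
      rw [hr.coprime_iff_not_dvd]
      intro hd
      exact absurd (Nat.le_of_dvd hk0 hd) (by omega)
    obtain ⟨m, -, hm⟩ := Nat.exists_mul_mod_eq_one_of_coprime hcop hr.one_lt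
    have h10 : (σ ^ k) ^ m = σ := by
      rw [← pow_mul]
      conv_lhs => rw [← Nat.div_add_mod (k * m) r]
      rw [hm, pow_add, pow_mul, hσ, one_pow, one_mul, pow_one]
    have h11 : (u⁻¹ * n) * σ = σ * (u⁻¹ * n) := by
      have := (Commute.pow_right (show Commute (u⁻¹ * n) (σ ^ k) from hyn) m).eq
      rwa [h10] at this
    have h12 := hCN _ (Q.mul_mem (Q.inv_mem hu) (hNQ hn)) h11
    have h13 := N.mul_mem h12 (N.inv_mem hn)
    have h14 := N.inv_mem h13
    simpa using h14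
  -- the traces of `y • l` for `y ∉ N`
  have hP : ∀ y ∈ Q, y ∉ N → ∀ d ∈ T, d • tr σ r (y • l) = tr σ r (y • l) := by
    intro y hy hyN d hd
    rw [smul_tr σ r d (hTσ d hd)]
    exact hstar (y • l) (hLQ y hy l hlL) (fun h => hyN (hN3 y hy h)) d hd
  have hNQeq : N = Q := by
    apply eq_of_cover Q T N σ hr hσ hrQ hrT hQn hσQ hTQ hTσ hQT hNQ hσN hCN
    intro d hd t ht
    by_contra hno
    push Not at hno
    obtain ⟨hu, hk⟩ := hno
    apply hcon
    intro e he
    set u := d * t * d⁻¹ with hudef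
    have huQ : u ∈ Q := (mem_normalizer_iff.mp (hTQ hd) t).mp ht
    have hw : u⁻¹ ∉ N := fun h => hu (by simpa using N.inv_mem h)
    have hA : d • tr σ r (t • tr σ r (u⁻¹ • l)) = tr σ r (u • tr σ r (u⁻¹ • l)) := by
      rw [smul_tr σ r d (hTσ d hd)]
      congr 1
      have h1 : d • t • tr σ r (u⁻¹ • l) = u • d • tr σ r (u⁻¹ • l) := by
        rw [← mul_smul, ← mul_smul]
        congr 1
        rw [hudef]; group
      rw [h1, hP u⁻¹ (Q.inv_mem huQ) hw d hd]
    rw [tr_tr σ r t _ l hl, tr_tr σ r u _ l hl] at hA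
    have hfixL : ∀ e ∈ T, e • (∑ k ∈ Finset.range r,
        tr σ r ((t * (σ ^ k * u⁻¹ * (σ ^ k)⁻¹)) • l)) = ∑ k ∈ Finset.range r,
        tr σ r ((t * (σ ^ k * u⁻¹ * (σ ^ k)⁻¹)) • l) := by
      intro e he
      rw [Finset.smul_sum]
      apply Finset.sum_congr rfl
      intro k hkr
      rw [Finset.mem_range] at hkr
      apply hP _ (Q.mul_mem ht (hconjQ k _ (Q.inv_mem huQ))) _ e he
      intro h
      apply hk k hkr
      have h2 : (σ ^ k * u * (σ ^ k)⁻¹)⁻¹ = σ ^ k * u⁻¹ * (σ ^ k)⁻¹ := by group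
      rw [h2]
      exact h
    have hr1 : r = (r - 1) + 1 := by have := hr.pos; omega
    have hsplit : ∑ k ∈ Finset.range r, tr σ r ((u * (σ ^ k * u⁻¹ * (σ ^ k)⁻¹)) • l) =
        (∑ k ∈ Finset.range (r - 1),
          tr σ r ((u * (σ ^ (k + 1) * u⁻¹ * (σ ^ (k + 1))⁻¹)) • l)) + r • l := by
      have h1 := Finset.sum_range_succ'
        (fun k => tr σ r ((u * (σ ^ k * u⁻¹ * (σ ^ k)⁻¹)) • l)) (r - 1)
      rw [← hr1] at h1
      rw [h1]
      congr 1
      simp only [pow_zero, one_mul, inv_one, mul_one, mul_inv_cancel, one_smul]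
      exact tr_fix σ r l hl
    have hfixR : ∀ e ∈ T, e • (∑ k ∈ Finset.range (r - 1),
        tr σ r ((u * (σ ^ (k + 1) * u⁻¹ * (σ ^ (k + 1))⁻¹)) • l)) =
          ∑ k ∈ Finset.range (r - 1),
        tr σ r ((u * (σ ^ (k + 1) * u⁻¹ * (σ ^ (k + 1))⁻¹)) • l) := by
      intro e he
      rw [Finset.smul_sum]
      apply Finset.sum_congr rfl
      intro k hkr
      rw [Finset.mem_range] at hkr
      apply hP _ (Q.mul_mem huQ (hconjQ (k + 1) _ (Q.inv_mem huQ))) _ e he
      intro h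
      exact hu (hN4 u huQ (k + 1) (by omega) (by omega) h)
    rw [hsplit, hfixL d hd] at hA
    have hrl : ∀ e ∈ T, e • (r • l) = r • l := by
      intro e he
      have h1 : r • l = (∑ k ∈ Finset.range r, tr σ r ((t * (σ ^ k * u⁻¹ * (σ ^ k)⁻¹)) • l)) -
          ∑ k ∈ Finset.range (r - 1),
            tr σ r ((u * (σ ^ (k + 1) * u⁻¹ * (σ ^ (k + 1))⁻¹)) • l) := by
        rw [hA]; abel
      rw [h1, smul_sub, hfixL e he, hfixR e he]
    have h2 := hrl e he
    have h3 : r • (e • l - l) = 0 := by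
      rw [smul_sub, smul_comm r e l, h2, sub_self]
    exact sub_eq_zero.mp (hrM _ h3)
  -- conclusion
  apply hcon
  apply hC
  have hfin : ⁅Q, zpowers σ⁆ ≤ Q ⊓ MulAction.stabilizer G l := by
    rw [Subgroup.commutator_le]
    intro x hx g hg
    have hgl : ∀ g ∈ zpowers σ, g • l = l := by
      intro g hg
      have h1 : zpowers σ ≤ MulAction.stabilizer G l := by
        rw [zpowers_le]; exact hl
      exact h1 hg
    rw [← hNQeq] at hx
    obtain ⟨c, hc, hcσ, s, hs, hsl, rfl⟩ := hx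
    have hgn : g ∈ normalizer (Q : Set G) := by
      have h1 : zpowers σ ≤ normalizer (Q : Set G) := by
        rw [zpowers_le]; exact hσQ
      exact h1 hg
    have hgc : g * c = c * g := by
      have h1 : zpowers σ ≤ centralizer ({c} : Set G) := by
        rw [zpowers_le, mem_centralizer_singleton_iff]; exact hcσ.symm
      have := h1 hg
      rw [mem_centralizer_singleton_iff] at this
      exact this
    have hsg : g * s⁻¹ * g⁻¹ ∈ Q := (mem_normalizer_iff.mp hgn _).mp (Q.inv_mem hs)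
    have hcs := hcen c hc hcσ (s * (g * s⁻¹ * g⁻¹)) (Q.mul_mem hs hsg)
    have h3 : ⁅c * s, g⁆ = s * (g * s⁻¹ * g⁻¹) := by
      rw [commutatorElement_def]
      have h4 : g * c⁻¹ = c⁻¹ * g := (Commute.inv_right (show Commute g c from hgc)).eq
      calc c * s * g * (c * s)⁻¹ * g⁻¹ = c * (s * (g * s⁻¹ * (c⁻¹ * g⁻¹))) := by group
        _ = c * (s * (g * s⁻¹ * (g⁻¹ * c⁻¹))) := by
            have h5 : c⁻¹ * g⁻¹ = g⁻¹ * c⁻¹ := by
              rw [← mul_inv_rev, ← mul_inv_rev, hgc]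
            rw [h5]
        _ = (c * (s * (g * s⁻¹ * g⁻¹))) * c⁻¹ := by group
        _ = _ := by rw [hcs]; group
    rw [h3]
    refine ⟨Q.mul_mem hs hsg, ?_⟩
    change (s * (g * s⁻¹ * g⁻¹)) • l = l
    rw [mul_smul, mul_smul, mul_smul]
    have h6 : g⁻¹ • l = l := by rw [inv_smul_eq_iff, hgl g hg]
    have h7 : s⁻¹ • l = l := by rw [inv_smul_eq_iff, hsl]
    rw [h6, h7, hgl g hg, hsl]
  rw [hQσ] at hfin
  intro x hx
  exact (hfin hx).2

end Cfsg.Agent.H583.L3
end

-- part: H575/LThree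
section
/-!
# The abelian case: characters
-/

set_option autoImplicit false
set_option linter.unusedSectionVars false
set_option linter.unusedVariables false

namespace Cfsg.Agent.H575.LThree

open Module Subgroup Cfsg.Agent.H575.Dim Cfsg.Agent.H575.Weights
  Cfsg.Agent.H575.Sect Cfsg.Agent.H575.Fix Cfsg.Agent.H575.KL Cfsg.Agent.H575.Lev
  Cfsg.Agent.H575.FTop Cfsg.Agent.H575.HA Cfsg.Agent.H575.ModM
  Cfsg.Agent.H575.ExtraIrr
open scoped commutatorElement

/-- automorphisms act on characters -/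
@[reducible] def chAct (E N : Type*) [Field E] [Group N] :
    DistribMulAction (MulAut N) (Additive (N →* Eˣ)) where
  smul g l := Additive.ofMul ((Additive.toMul l).comp (g⁻¹ : MulAut N).toMonoidHom)
  one_smul l := rfl
  mul_smul g h l := by
    show Additive.ofMul ((Additive.toMul l).comp ((g * h)⁻¹ : MulAut N).toMonoidHom) =
      Additive.ofMul (((Additive.toMul l).comp (h⁻¹ : MulAut N).toMonoidHom).comp
        (g⁻¹ : MulAut N).toMonoidHom)
    rw [mul_inv_rev]
    rfl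
  smul_zero g := rfl
  smul_add g a b := rfl

attribute [local instance] chAct

theorem smul_apply' {E N : Type*} [Field E] [Group N] (g : MulAut N) (l : Additive (N →* Eˣ))
    (x : N) : (Additive.toMul (g • l)) x = (Additive.toMul l) (g⁻¹ x) := rfl

section Ai

variable {G : Type*} [Group G] [Finite G]

/-- the conjugation action on `N` -/
def al (N : Subgroup G) : normalizer (N : Set G) →* MulAut N := alpha (le_refl _)

theorem al_coe (N : Subgroup G) (g : normalizer (N : Set G)) (x : N) :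
    ((al N g x : N) : G) = g * x * (g : G)⁻¹ := rfl

/-- the image of a subgroup in the automorphism group -/
def ai (N Q : Subgroup G) : Subgroup (MulAut N) := (Q.subgroupOf (normalizer (N : Set G))).map (al N)

theorem mem_ai_of {N Q : Subgroup G} {g : normalizer (N : Set G)} (hg : (g : G) ∈ Q) :
    al N g ∈ ai N Q := ⟨g, hg, rfl⟩

theorem ai_norm {N H K : Subgroup G} (h : H ≤ normalizer (K : Set G)) :
    ai N H ≤ normalizer (ai N K : Set (MulAut N)) := by
  refine le_norm ?_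
  rintro _ ⟨g, hg, rfl⟩ _ ⟨k, hk, rfl⟩
  exact ⟨g * k * g⁻¹, Sect.conj_mem h hg hk, by simp⟩

theorem al_eq_one_iff {N : Subgroup G} {g : normalizer (N : Set G)} :
    al N g = 1 ↔ ∀ x ∈ N, (g : G) * x = x * g := by
  constructor
  · intro h x hx
    have h1 := al_coe N g ⟨x, hx⟩
    rw [h] at h1
    have h2 : x = (g : G) * x * (g : G)⁻¹ := h1
    exact (eq_mul_inv_iff_mul_eq.mp h2).symm
  · intro h
    ext x
    have h1 := al_coe N g x
    rw [h x x.2, mul_inv_cancel_right] at h1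
    exact h1

theorem ai_comm {N H K : Subgroup G} (hH : H ≤ normalizer (N : Set G))
    (hK : K ≤ normalizer (N : Set G)) : ai N ⁅H, K⁆ = ⁅ai N H, ai N K⁆ := by
  rw [ai, ai, ai, ← Subgroup.map_commutator, HA.commutator_subgroupOf hH hK]

theorem ai_pgroup {N H : Subgroup G} {s : ℕ} (h : IsPGroup s H) : IsPGroup s (ai N H) :=
  (h.comap_of_injective _ (normalizer (N : Set G)).subtype_injective).map _

theorem card_ai_dvd {N H : Subgroup G} (hH : H ≤ normalizer (N : Set G)) :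
    Nat.card (ai N H) ∣ Nat.card H := by
  have h2 := Subgroup.card_map_dvd (f := al N) (H := H.subgroupOf (normalizer (N : Set G)))
  rwa [Nat.card_congr (Subgroup.subgroupOfEquivOfLe hH).toEquiv] at h2

/-- invariant characters are trivial on commutators -/
theorem ch_kills {E : Type*} [Field E] {N S : Subgroup G} (hS : S ≤ normalizer (N : Set G))
    {m : Additive (N →* Eˣ)} (hm : ∀ g ∈ ai N S, g • m = m) {x : G} (hx : x ∈ ⁅N, S⁆)
    (hxN : x ∈ N) : (Additive.toMul m) ⟨x, hxN⟩ = 1 := by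
  have hle : ⁅N, S⁆ ≤ ((Additive.toMul m).ker).map N.subtype := by
    rw [commutator_le]
    intro n hn s hs
    have h1 : s * n⁻¹ * s⁻¹ ∈ N := Sect.conj_mem hS hs (N.inv_mem hn)
    refine ⟨⟨n, hn⟩ * ⟨s * n⁻¹ * s⁻¹, h1⟩, ?_, ?_⟩
    · rw [SetLike.mem_coe, MonoidHom.mem_ker, map_mul]
      have h2 := hm _ (mem_ai_of (g := ⟨s⁻¹, hS (S.inv_mem hs)⟩) (S.inv_mem hs))
      have h3 := smul_apply' (al N ⟨s⁻¹, hS (S.inv_mem hs)⟩) m ⟨n⁻¹, N.inv_mem hn⟩
      rw [h2] at h3
      have h4 : (al N ⟨s⁻¹, hS (S.inv_mem hs)⟩)⁻¹ ⟨n⁻¹, N.inv_mem hn⟩ =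
          (⟨s * n⁻¹ * s⁻¹, h1⟩ : N) := by
        rw [← map_inv]
        apply Subtype.ext
        rw [al_coe]
        simp
      rw [h4] at h3
      rw [← h3, ← map_mul]
      have h5 : (⟨n, hn⟩ : N) * ⟨n⁻¹, N.inv_mem hn⟩ = 1 := Subtype.ext (mul_inv_cancel n)
      rw [h5, map_one]
    · show n * (s * n⁻¹ * s⁻¹) = ⁅n, s⁆
      rw [commutatorElement_def]
      group
  obtain ⟨y, hy, hyx⟩ := hle hx
  have : y = ⟨x, hxN⟩ := Subtype.ext hyx
  rw [← this]
  exact hy

end Ai

section Rep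

variable {E : Type*} [Field E] [IsAlgClosed E] {G V : Type*} [Group G] [Finite G]
  [AddCommGroup V] [Module E V] [FiniteDimensional E V]

/-- the characters occurring in `V` -/
def occ (π : Representation E G V) (N : Subgroup G) : Set (Additive (N →* Eˣ)) :=
  {l | ∃ v : V, v ≠ 0 ∧ ∀ x : N, π x v = ((Additive.toMul l x : Eˣ) : E) • v}

theorem occ_smul {π : Representation E G V} {N : Subgroup G} {g : normalizer (N : Set G)}
    {l : Additive (N →* Eˣ)} (hl : l ∈ occ π N) : al N g • l ∈ occ π N := by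
  obtain ⟨v, hv, hvx⟩ := hl
  refine ⟨π g v, ?_, fun x => ?_⟩
  · intro h
    apply hv
    rw [← inv_apply π g v, h, map_zero]
  · have h1 : (x : G) * g = g * ((al N g)⁻¹ x : N) := by
      rw [← map_inv, al_coe]
      simp [mul_assoc]
    rw [← mul_apply', h1, mul_apply', hvx, map_smul, smul_apply']

/-- non-invariant characters are trivial on invisible elements -/
theorem occ_kills {π : Representation E G V} {N R : Subgroup G} (hR : (Nat.card R).Prime)
    (hRN : R ≤ normalizer (N : Set G)) (hab : ∀ x ∈ N, ∀ y ∈ N, x * y = y * x)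
    {l : Additive (N →* Eˣ)} (hl : l ∈ occ π N) (hlR : ¬ ∀ g ∈ ai N R, g • l = l) {d : G}
    (hd : d ∈ N) (hdR : d ∈ centralizer (R : Set G)) (hinv : Inv π ⁅N, R⁆ R d) :
    (Additive.toMul l) ⟨d, hd⟩ = 1 := by
  classical
  obtain ⟨v, hv, hvx⟩ := hl
  let μ : G → E := fun g => if h : g ∈ N then ((Additive.toMul l ⟨g, h⟩ : Eˣ) : E) else 1
  have hμ : ∀ x : N, μ x = ((Additive.toMul l x : Eˣ) : E) := fun x => dif_pos x.2
  have hvw : v ∈ wt π N ⊤ μ := ⟨Submodule.mem_top, fun a ha => by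
    have h1 := hvx ⟨a, ha⟩
    rw [← hμ ⟨a, ha⟩] at h1
    exact h1⟩
  have hμR : ¬ ∀ a ∈ R, Same N (cj a μ) μ := by
    intro hall
    apply hlR
    rintro _ ⟨g, hg, rfl⟩
    apply Additive.toMul.injective
    ext x
    rw [smul_apply', ← hμ, ← hμ, ← hall g hg x x.2]
    have h1 : (((al N g)⁻¹ x : N) : G) = (g : G)⁻¹ * x * g := by
      rw [← map_inv, al_coe]
      simp
    rw [h1]
    rfl
  have hbr : v ∈ br π ⁅N, R⁆ := wt_le_br hRN le_rfl hμR hvw
  have hle : ⁅N, R⁆ ≤ N := Lib.CoprimeCommutator.commutator_le_left hRN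
  have h1 := trivial_of_not_fixed π (br π ⁅N, R⁆) (A := N) (R := R)
    (pres_br (Lib.CoprimeCommutator.right_le_normalizer_commutator N R)) hRN hR
    (pres_br (Lib.CoprimeCommutator.left_le_normalizer_commutator N R) d hd) (by
      intro a ha w _
      rw [← mul_apply', ← mul_apply', hab a ha d hd]) hdR
    (fun w hw hwR => hinv w hw hwR) μ hμR v ⟨hbr, hvw.2⟩
  have h2 := hvx ⟨d, hd⟩
  have h3 : π ((⟨d, hd⟩ : N) : G) v = v := h1
  rw [h3] at h2
  have h4 : (1 - ((Additive.toMul l ⟨d, hd⟩ : Eˣ) : E)) • v = 0 := by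
    rw [sub_smul, one_smul, ← h2, sub_self]
  have h5 := sub_eq_zero.mp ((smul_eq_zero.mp h4).resolve_right hv)
  exact Units.ext h5.symm

theorem l3_rep (π : Representation E G V) {N Q T R : Subgroup G} {r s q : ℕ}
    (hr : r.Prime) (hs : s.Prime) (hq : q.Prime) (hrs : r ≠ s) (hrq : r ≠ q) (hR : Nat.card R = r)
    (hN : IsPGroup s N) (hQ : IsPGroup q Q) (hrT : ¬ r ∣ Nat.card T) (hsE : (s : E) ≠ 0)
    (hab : ∀ x ∈ N, ∀ y ∈ N, x * y = y * x)
    (hRN : R ≤ normalizer (N : Set G)) (hQN : Q ≤ normalizer (N : Set G))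
    (hTN : T ≤ normalizer (N : Set G)) (hRQ : R ≤ normalizer (Q : Set G))
    (hTQ : T ≤ normalizer (Q : Set G)) (hTR : ∀ t ∈ T, ∀ a ∈ R, t * a = a * t)
    (hcomm : ⁅Q, R⁆ = Q) (hQT : ⁅Q, T⁆ = Q) (hNQ : ⁅N, Q⁆ = N)
    (hcen : ∀ c ∈ Q, c ∈ centralizer (R : Set G) → ∀ x ∈ Q, ∀ y ∈ N, ⁅c, x⁆ * y = y * ⁅c, x⁆)
    (hinv : ∀ d ∈ ⁅N ⊓ centralizer (R : Set G), T⁆, Inv π ⁅N, R⁆ R d) :
    ∀ d ∈ ⁅N ⊓ centralizer (R : Set G), T⁆, π d = 1 := by
  classical
  have hrf : Fact r.Prime := ⟨hr⟩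
  have hsf : Fact s.Prime := ⟨hs⟩
  have hqf : Fact q.Prime := ⟨hq⟩
  have hRp : IsPGroup r R := IsPGroup.of_card (n := 1) (by rw [hR, pow_one])
  have hRprime : (Nat.card R).Prime := by rw [hR]; exact hr
  set D : Subgroup G := ⁅N ⊓ centralizer (R : Set G), T⁆ with hD
  have hTC : T ≤ normalizer ((centralizer (R : Set G) : Subgroup G) : Set G) := by
    refine le_normalizer_centralizer (le_norm fun t ht a ha => ?_)
    rw [hTR t ht a ha, mul_inv_cancel_right]
    exact ha
  have hDN' : D ≤ N ⊓ centralizer (R : Set G) :=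
    Lib.CoprimeCommutator.commutator_le_left (le_normalizer_inf hTN hTC)
  -- a generator of `R`
  obtain ⟨a0, ha0, hgen⟩ : ∃ a0 : normalizer (N : Set G), (a0 : G) ∈ R ∧
      R = zpowers (a0 : G) := by
    have hne : ∃ a : R, a ≠ 1 := by
      by_contra hcon
      push Not at hcon
      have : Subsingleton R := ⟨fun a b => by rw [hcon a, hcon b]⟩
      rw [Nat.card_of_subsingleton (1 : R)] at hR
      exact hr.one_lt.ne hR
    obtain ⟨a, ha⟩ := hne
    refine ⟨⟨a, hRN a.2⟩, a.2, ?_⟩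
    have : Fact (Nat.card R).Prime := ⟨hRprime⟩
    have hmem : ∀ x : R, x ∈ zpowers a := fun x => mem_zpowers_of_prime_card rfl ha
    apply le_antisymm
    · intro x hx
      obtain ⟨n, hn⟩ := hmem ⟨x, hx⟩
      exact ⟨n, congrArg Subtype.val hn⟩
    · exact zpowers_le.mpr a.2
  set σ : MulAut N := al N a0 with hσ
  have haiR : ai N R = zpowers σ := by
    apply le_antisymm
    · rintro _ ⟨g, hg, rfl⟩
      have hg' : (g : G) ∈ zpowers (a0 : G) := by
        rw [← hgen]
        exact hg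
      obtain ⟨n, hn⟩ := hg'
      refine ⟨n, ?_⟩
      show σ ^ n = al N g
      rw [hσ, ← map_zpow]
      congr 1
      exact Subtype.ext hn
    · exact zpowers_le.mpr (mem_ai_of ha0)
  have hσr : σ ^ r = 1 := by
    rw [hσ, ← map_pow]
    have h1 : a0 ^ r = 1 := by
      apply Subtype.ext
      have h2 : (⟨a0, ha0⟩ : R) ^ Nat.card R = 1 := pow_card_eq_one'
      rw [hR] at h2
      have h3 : (a0 : G) ^ r = 1 := congrArg Subtype.val h2
      exact h3
    rw [h1, map_one]
  have hgenσ : ∀ l : Additive (N →* Eˣ), σ • l = l → ∀ g ∈ ai N R, g • l = l := by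
    intro l hl g hg
    rw [haiR] at hg
    obtain ⟨n, rfl⟩ := hg
    have h1 : σ ∈ MulAction.stabilizer (MulAut N) l := hl
    exact Subgroup.zpow_mem _ h1 n
  have hrN : ¬ r ∣ Nat.card N := cop_of_ne hr hs hrs hN
  have hcopN : r.Coprime (Nat.card N) := (Nat.Prime.coprime_iff_not_dvd hr).mpr hrN
  have hrM : ∀ m : Additive (N →* Eˣ), r • m = 0 → m = 0 := by
    intro m hm
    apply Additive.toMul.injective
    ext x
    have h1 : (Additive.toMul m x) ^ r = 1 := by
      have h2 := congrArg (fun k : Additive (N →* Eˣ) => Additive.toMul k x) hm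
      rw [toMul_nsmul] at h2
      exact h2
    have h3 : (Additive.toMul m x) ^ Nat.card N = 1 := by
      rw [← map_pow, pow_card_eq_one', map_one]
    have h4 : orderOf (Additive.toMul m x) ∣ 1 := by
      rw [← hcopN]
      exact Nat.dvd_gcd (orderOf_dvd_of_pow_eq_one h1) (orderOf_dvd_of_pow_eq_one h3)
    rw [orderOf_eq_one_iff.mp (Nat.dvd_one.mp h4)]
    rfl
  -- the lemma
  have hmain := H583.L3.l3 (M := Additive (N →* Eˣ)) (ai N Q) (ai N T) σ r hr hσr hrM
    (fun h1 => cop_of_ne hr hq hrq hQ (h1.trans (card_ai_dvd hQN)))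
    (fun h1 => hrT (h1.trans (card_ai_dvd hTN))) (ai_pgroup hQ).isNilpotent
    (ai_norm hRQ (mem_ai_of ha0)) (ai_norm hTQ) (by
      rintro _ ⟨t, ht, rfl⟩
      rw [hσ, ← map_mul, ← map_mul]
      congr 1
      exact Subtype.ext (hTR t ht a0 ha0)) (by rw [← haiR, ← ai_comm hQN hRN, hcomm])
    (by rw [← ai_comm hQN hTN, hQT]) (by
      rintro _ ⟨c, hc, rfl⟩ hcσ _ ⟨x, hx, rfl⟩
      -- lift
      have hCN : Q ≤ normalizer ((centralizer (N : Set G) : Subgroup G) : Set G) :=
        le_normalizer_centralizer hQN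
      have hCR : R ≤ normalizer ((centralizer (N : Set G) : Subgroup G) : Set G) :=
        le_normalizer_centralizer hRN
      obtain ⟨c', hc', hcc⟩ := exists_cent_coset hr hRp
        (le_normalizer_inf hRQ hCR) (fun h1 => cop_of_ne hr hq hrq hQ (h1.trans
          (Subgroup.card_dvd_of_le inf_le_left))) (N := Q ⊓ centralizer (N : Set G))
        (k := (c : G)) (by
          intro a ha
          refine ⟨Q.mul_mem (Q.inv_mem hc) (Sect.conj_mem hRQ ha hc), ?_⟩
          have h1 : al N ⟨a, hRN ha⟩ * al N c = al N c * al N ⟨a, hRN ha⟩ := by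
            have h2 : al N ⟨a, hRN ha⟩ ∈ zpowers σ := by
              rw [← haiR]
              exact mem_ai_of ha
            obtain ⟨n, hn⟩ := h2
            rw [← hn]
            exact ((Commute.zpow_right (h := (show Commute (al N c) σ from hcσ)) n)).symm.eq
          have h3 : al N (c⁻¹ * (⟨a, hRN ha⟩ * c * ⟨a, hRN ha⟩⁻¹)) = 1 := by
            rw [map_mul, map_mul, map_mul, h1, map_inv, map_inv, mul_inv_cancel_right,
              inv_mul_cancel]
          rw [al_eq_one_iff] at h3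
          have h5 : (c : G)⁻¹ * (a * c * a⁻¹) ∈ centralizer (N : Set G) := by
            rw [Subgroup.mem_centralizer_iff]
            intro y hy
            exact (h3 y hy).symm
          exact h5)
      have hc'Q : c' ∈ Q := by
        have := Q.mul_mem (show (c : G) ∈ Q from hc) hcc.1
        rwa [mul_inv_cancel_left] at this
      have hcal : al N c = al N ⟨c', hQN hc'Q⟩ := by
        have h1 : al N (c⁻¹ * ⟨c', hQN hc'Q⟩) = 1 := by
          rw [al_eq_one_iff]
          intro y hy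
          exact (Subgroup.mem_centralizer_iff.mp hcc.2 y hy).symm
        rw [map_mul, map_inv, inv_mul_eq_one] at h1
        exact h1
      rw [hcal, ← commutatorElement_eq_one_iff_mul_comm, ← map_commutatorElement,
        al_eq_one_iff]
      exact hcen c' hc'Q hc' x hx)
    (by
      intro m hm t ht
      have h0 : m = 0 := by
        apply Additive.toMul.injective
        ext x
        have h1 := ch_kills hQN hm (x := (x : G)) (by rw [hNQ]; exact x.2) x.2
        have h2 : (⟨(x : G), x.2⟩ : N) = x := rfl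
        rw [h2] at h1
        rw [h1]
        rfl
      rw [h0]
      rfl) (occ π N) (by
      rintro _ ⟨x, hx, rfl⟩ l hl
      exact occ_smul hl) (by
      rintro l hl hlσ _ ⟨t, ht, rfl⟩
      have hlR : ¬ ∀ g ∈ ai N R, g • l = l := fun hall => hlσ (hall σ (mem_ai_of ha0))
      have hinvsum : ∀ k : Additive (N →* Eˣ), ∀ g ∈ ai N R,
          g • (∑ j ∈ Finset.range r, (σ ^ j) • k) = ∑ j ∈ Finset.range r, (σ ^ j) • k := by
        intro k
        apply hgenσ
        rw [Finset.smul_sum]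
        have h1 : ∑ j ∈ Finset.range r, σ • (σ ^ j) • k =
            ∑ j ∈ Finset.range r, (σ ^ (j + 1)) • k :=
          Finset.sum_congr rfl fun j _ => by rw [← mul_smul, ← pow_succ']
        have h2 := Finset.sum_range_succ' (fun j => (σ ^ j) • k) r
        have h3 := Finset.sum_range_succ (fun j => (σ ^ j) • k) r
        rw [h3] at h2
        rw [h1]
        simp only [pow_zero, hσr] at h2
        exact (add_right_cancel h2).symm
      apply Additive.toMul.injective
      ext x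
      obtain ⟨c, hc, hcR, hcx⟩ := exists_cent_mul hr hRp hRN hrN x.2
      have hle : ⁅N, R⁆ ≤ N := Lib.CoprimeCommutator.commutator_le_left hRN
      have hx : x = ⟨c, hc⟩ * ⟨c⁻¹ * x, hle hcx⟩ := Subtype.ext (mul_inv_cancel_left c _).symm
      have k1 := ch_kills hRN (hinvsum (al N t • l)) hcx (hle hcx)
      have k2 := ch_kills hRN (hinvsum l) hcx (hle hcx)
      rw [hx, map_mul, map_mul, k1, k2, mul_one, mul_one]
      -- on the centralizer of `R`
      have hval : ∀ k : Additive (N →* Eˣ),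
          (Additive.toMul (∑ j ∈ Finset.range r, (σ ^ j) • k)) ⟨c, hc⟩ =
            (Additive.toMul k ⟨c, hc⟩) ^ r := by
        intro k
        have h1 : ∀ j, (Additive.toMul ((σ ^ j) • k)) ⟨c, hc⟩ = Additive.toMul k ⟨c, hc⟩ := by
          intro j
          rw [smul_apply']
          congr 1
          have h2 : (σ ^ j)⁻¹ = al N ((a0 ^ j)⁻¹) := by rw [map_inv, map_pow]
          rw [h2]
          apply Subtype.ext
          rw [al_coe]
          have h3 : ((a0 ^ j)⁻¹ : G) ∈ R := R.inv_mem (R.pow_mem ha0 j)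
          have h4 : (((a0 ^ j)⁻¹ : normalizer (N : Set G)) : G) = ((a0 : G) ^ j)⁻¹ := rfl
          rw [h4, ((Subgroup.mem_centralizer_iff.mp hcR) _ h3), mul_inv_cancel_right]
        rw [toMul_sum, MonoidHom.finsetProd_apply, Finset.prod_congr rfl fun j _ => h1 j,
          Finset.prod_const, Finset.card_range]
      rw [hval, hval]
      congr 2
      -- the value of `t • l` on `c`
      rw [smul_apply']
      have hd : ⁅c, (t : G)⁻¹⁆ ∈ D :=
        commutator_mem_commutator ⟨hc, hcR⟩ (T.inv_mem ht)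
      have hk := occ_kills hRprime hRN hab hl hlR (hDN' hd).1 (hDN' hd).2 (hinv _ hd)
      have h5 : ((al N t)⁻¹ (⟨c, hc⟩ : N)) = ⟨⁅c, (t : G)⁻¹⁆, (hDN' hd).1⟩⁻¹ * ⟨c, hc⟩ := by
        rw [← map_inv]
        apply Subtype.ext
        rw [al_coe]
        show (t : G)⁻¹ * c * (t : G)⁻¹⁻¹ = ⁅c, (t : G)⁻¹⁆⁻¹ * c
        rw [commutatorElement_def]
        group
      rw [h5, map_mul, map_inv, hk, inv_one, one_mul])
  -- conclusion
  intro d hd
  have hdN : d ∈ N := (hDN' hd).1
  have hle : (⊤ : Submodule E V) ≤ LinearMap.ker (π d - 1) := by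
    refine le_of_wt_le (π := π) (A := N) (W := ⊤) (card_ne_zero_of_pgroup hs hN hsE)
      (fun _ _ _ _ => Submodule.mem_top) (fun a ha b hb w _ => by
        rw [← mul_apply', ← mul_apply', hab a ha b hb]) _ ?_
    intro μ u hu
    rw [LinearMap.mem_ker, LinearMap.sub_apply, Module.End.one_apply]
    by_cases hbot : wt π N ⊤ μ = ⊥
    · rw [hbot, Submodule.mem_bot] at hu
      rw [hu, map_zero, sub_zero]
    obtain ⟨μ1, μm, μ0, -⟩ := wt_facts hbot
    let l : Additive (N →* Eˣ) := Additive.ofMul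
      { toFun := fun x => Units.mk0 (μ x) (μ0 x x.2)
        map_one' := Units.ext μ1
        map_mul' := fun x y => Units.ext (μm x x.2 y y.2) }
    have hlx : ∀ x : N, ((Additive.toMul l x : Eˣ) : E) = μ x := fun x => rfl
    obtain ⟨v, hv, hv0⟩ := Submodule.exists_mem_ne_zero_of_ne_bot hbot
    have hl : l ∈ occ π N := ⟨v, hv0, fun x => by rw [hlx]; exact hv.2 x x.2⟩
    have h1 : μ d = 1 := by
      rw [← hlx ⟨d, hdN⟩]
      by_cases hlσ : σ • l = l
      · have h2 := hmain l hl hlσ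
        rw [ch_kills hTN h2 (commutator_mono inf_le_left le_rfl hd) hdN]
        rfl
      · rw [occ_kills hRprime hRN hab hl (fun hall => hlσ (hall σ (mem_ai_of ha0))) hdN
          (hDN' hd).2 (hinv d hd)]
        rfl
    rw [hu.2 d hdN, h1, one_smul, sub_self]
  ext v
  have h2 := hle (Submodule.mem_top (x := v))
  rw [LinearMap.mem_ker, LinearMap.sub_apply, sub_eq_zero] at h2
  exact h2

end Rep

end Cfsg.Agent.H575.LThree
end

-- part: H575/StartD
section
/-!
# The start: conclusion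
-/

set_option autoImplicit false
set_option linter.unusedSectionVars false
set_option linter.unusedVariables false

namespace Cfsg.Agent.H575.TThree

open Subgroup Cfsg.Agent.H575.Sect Cfsg.Agent.H575.Tower Cfsg.Agent.H575.HA
  Cfsg.Agent.H575.ExtraIrr Cfsg.Agent.H575.MinTower Cfsg.Agent.H575.Mult
  Cfsg.Agent.H575.GLev Cfsg.Agent.H575.Model Cfsg.Agent.H575.BC Cfsg.Agent.H575.FTop
open scoped commutatorElement

universe u

section M

variable {M : Type u} [CommGroup M] [Finite M] {p : ℕ} [hp : Fact p.Prime]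

theorem l3_M (hM : ∀ m : M, m ^ p = 1) {N Q T R : Subgroup (MulAut M)} {r s q : ℕ}
    (hr : r.Prime) (hs : s.Prime) (hq : q.Prime) (hrs : r ≠ s) (hrq : r ≠ q) (hsp : s ≠ p)
    (hrp : r ≠ p) (hR : Nat.card R = r)
    (hN : IsPGroup s N) (hQ : IsPGroup q Q) (hrT : ¬ r ∣ Nat.card T)
    (hab : ∀ x ∈ N, ∀ y ∈ N, x * y = y * x)
    (hRN : R ≤ normalizer (N : Set (MulAut M))) (hQN : Q ≤ normalizer (N : Set (MulAut M)))
    (hTN : T ≤ normalizer (N : Set (MulAut M))) (hRQ : R ≤ normalizer (Q : Set (MulAut M)))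
    (hTQ : T ≤ normalizer (Q : Set (MulAut M))) (hTR : ∀ t ∈ T, ∀ a ∈ R, t * a = a * t)
    (hcomm : ⁅Q, R⁆ = Q) (hQT : ⁅Q, T⁆ = Q) (hNQ : ⁅N, Q⁆ = N)
    (hcen : ∀ c ∈ Q, c ∈ centralizer (R : Set (MulAut M)) → ∀ x ∈ Q, ∀ y ∈ N,
      ⁅c, x⁆ * y = y * ⁅c, x⁆)
    (hinvM : ∀ d ∈ ⁅N ⊓ centralizer (R : Set (MulAut M)), T⁆, ∀ m ∈ brm ⁅N, R⁆,
      (∀ a ∈ R, a m = m) → d m = m) :
    ∀ d ∈ ⁅N ⊓ centralizer (R : Set (MulAut M)), T⁆, d = 1 := by
  obtain ⟨V, i1, i2, i3, π, hinj, -, -, -, hinv⟩ := exists_rep hM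
  intro d hd
  apply hinj
  have hle : ⁅N, R⁆ ≤ N := Lib.CoprimeCommutator.commutator_le_left hRN
  refine LThree.l3_rep π hr hs hq hrs hrq hR hN hQ hrT
    (cl_ne_zero fun h1 => hsp ((Nat.prime_dvd_prime_iff_eq hp.out hs).mp h1).symm)
    hab hRN hQN hTN hRQ hTQ hTR hcomm hQT hNQ hcen ?_ d hd
  intro x hx
  exact hinv _ _ x (MLev.not_dvd hs hsp (hN.to_le hle)) (MLev.not_dvd_R hR hr hrp)
    (Lib.CoprimeCommutator.right_le_normalizer_commutator N R) (hinvM x hx)

end M

variable {Γ : Type u} [Group Γ] [Finite Γ]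
variable {R : Subgroup Γ} {P : ℕ → Subgroup Γ} {p : ℕ → ℕ} {N : ℕ}

/-- the abelian case -/
theorem MT.II_ab (h : MT R P p N) {k : ℕ} (hk : k + 3 < N)
    (hcR : ∀ j, k + 2 < j → j < N → P j ≤ centralizer (R : Set Γ))
    (hcomm : ⁅P (k + 2), R⁆ = P (k + 2)) (hRk : ¬ ⁅P k, R⁆ ≤ zz P N k)
    (hab : ∀ x ∈ P (k + 1), ∀ y ∈ P (k + 1), ⁅x, y⁆ ∈ ker P (k + 1))
    (hKE : ⁅DD R P k, P (k + 3)⁆ ≤ KE R P N k) : ⁅DD R P k, P (k + 3)⁆ ≤ zz P N (k + 1) := by
  have hT := h.toIsTower
  have hR := h.hR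
  have hRp : IsPGroup (Nat.card R) R := isPGroup_of_card h.hR rfl
  have hpf : Fact (p k).Prime := ⟨h.prime k (by omega)⟩
  obtain ⟨M, i1, i2, f, θ, hm⟩ := exists_mod (zz_le (P := P) (N := N) k)
    (h.phi (i := k) (by omega)).1 (h.phi (i := k) (by omega)).2
  have hS1 : P (k + 1) ≤ nn (P k) (zz P N k) := h.le_nn (by omega) (by omega)
  have hS2 : P (k + 2) ≤ nn (P k) (zz P N k) := h.le_nn (by omega) (by omega)
  have hS3 : P (k + 3) ≤ nn (P k) (zz P N k) := h.le_nn (by omega) (by omega)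
  have hSR : R ≤ nn (P k) (zz P N k) := h.R_le_nn (by omega)
  have hT3 := hcR (k + 3) (by omega) hk
  have hND := h.norm_DD (k := k) (j := k + 3) (by omega) hk le_rfl hT3
  have hDDS : DD R P k ≤ nn (P k) (zz P N k) := inf_le_left.trans hS1
  have hce : im θ (P (k + 1)) ⊓ centralizer (im θ R : Set (MulAut M)) = im θ (DD R P k) :=
    im_cent hm hR hRp hSR hS1 (not_dvd_of hR (h.prime (k + 1) (by omega))
      (h.hRp (k + 1) (by omega)) (h.pgroup (k + 1) (by omega))) (h.inv (k + 1) (by omega))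
  have hcom : ∀ g l : nn (P k) (zz P N k), ⁅(g : Γ), (l : Γ)⁆ ∈ ker P (k + 1) →
      θ g * θ l = θ l * θ g := by
    intro g l hgl
    rw [hm.mul_comm_iff]
    exact fun u hu => IsTower.ker_le_zz hT (by omega) (h.ker_act hgl hu)
  have hmain := l3_M hm.exp (N := im θ (P (k + 1))) (Q := im θ (P (k + 2)))
    (T := im θ (P (k + 3))) (R := im θ R) hR (h.prime (k + 1) (by omega))
    (h.prime (k + 2) (by omega)) (h.hRp (k + 1) (by omega)) (h.hRp (k + 2) (by omega))
    (h.ne k (by omega)).symm (h.hRp k (by omega)) (card_im_R hm hR rfl hSR (h.exists_R hRk))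
    (im_pgroup (h.pgroup (k + 1) (by omega))) (im_pgroup (h.pgroup (k + 2) (by omega)))
    (cop_of_ne hR (h.prime (k + 3) hk) (h.hRp (k + 3) hk) (im_pgroup (h.pgroup (k + 3) hk)))
    (by
      rintro _ ⟨x, hx, rfl⟩ _ ⟨y, hy, rfl⟩
      exact hcom x y (hab x hx y hy))
    (im_norm (h.inv (k + 1) (by omega)))
    (im_norm (h.norm (k + 1) (k + 2) (by omega) (by omega)))
    (im_norm (h.norm (k + 1) (k + 3) (by omega) (by omega)))
    (im_norm (h.inv (k + 2) (by omega)))
    (im_norm (h.norm (k + 2) (k + 3) (by omega) (by omega)))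
    (by
      rintro _ ⟨t, ht, rfl⟩ _ ⟨a, ha, rfl⟩
      rw [← map_mul, ← map_mul]
      congr 1
      exact Subtype.ext (Subgroup.mem_centralizer_iff.mp (hT3 ht) a ha).symm)
    (by rw [← im_comm hS2 hSR, hcomm]) (by rw [← im_comm hS2 hS3, h.comm_eq hk])
    (by rw [← im_comm hS1 hS2, h.comm_eq (by omega)])
    (by
      rintro _ ⟨z, hz, rfl⟩ hzR _ ⟨x, hx, rfl⟩ _ ⟨y, hy, rfl⟩
      obtain ⟨z', h1, h2, h3⟩ := hm.lift_cent hR hRp hSR (N := P (k + 2)) hS2
        (cop_of_ne hR (h.prime (k + 2) (by omega)) (h.hRp (k + 2) (by omega))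
          (h.pgroup (k + 2) (by omega))) (h.inv (k + 2) (by omega)) hz
        (fun a ha => Subgroup.mem_centralizer_iff.mp hzR a ha)
      rw [← h3, ← map_commutatorElement]
      have h4 := h.zz_comm (i := k + 2) (by omega) (h.cent_kappa (by omega) hcomm ⟨h1, h2⟩) hx
      exact hcom _ _ (h.ker_act h4 hy))
    (by
      rw [hce, ← im_comm hDDS hS3]
      rintro _ ⟨d, hd, rfl⟩ m hmb hmR
      have hdD : (d : Γ) ∈ DD R P k := Lib.CoprimeCommutator.commutator_le_left hND hd
      have hdv := (h.not_vis (by omega) hdD.1 hdD.2).mp (hKE hd)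
      by_contra hne
      apply hdv
      refine vis_of hm hR hRp (not_dvd_of hR (h.prime k (by omega)) (h.hRp k (by omega))
        (h.pgroup k (by omega))) hSR
        ((Lib.CoprimeCommutator.commutator_le_left (h.inv (k + 1) (by omega))).trans hS1)
        (Lib.CoprimeCommutator.right_le_normalizer_commutator _ R) ⟨m, ?_, hmR, hne⟩
      rwa [im_comm hS1 hSR])
  rw [hce, ← im_comm hDDS hS3] at hmain
  intro d hd
  have hdD : d ∈ DD R P k := Lib.CoprimeCommutator.commutator_le_left hND hd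
  have h1 := hmain (θ ⟨d, hDDS hdD⟩) (mem_im_of (g := ⟨d, hDDS hdD⟩) hd)
  rw [hm.eq_one_iff] at h1
  exact IsTower.ker_le_zz hT (by omega) (h.mem_ker_of (by omega) hdD.1 h1)

theorem MT.start (h : MT R P p N) {X : Subgroup Γ} (hX : ∀ i < N, P i ≤ X)
    {c : ℕ → Subgroup Γ} {n : ℕ} (hc : CC (X ⊓ centralizer (R : Set Γ)) c n)
    {k : ℕ} (hk : k + 2 < N)
    (hcR : ∀ j, k + 2 < j → j < N → P j ≤ centralizer (R : Set Γ))
    (hcomm : ⁅P (k + 2), R⁆ = P (k + 2)) (hRn : ∀ i ≤ k + 2, ¬ ⁅P i, R⁆ ≤ zz P N i) :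
    ∃ x, VV R P N k x ∧ x ∈ c (N - (k + 4)) := by
  by_cases hk3 : k + 3 < N
  · by_cases hI : ⁅DD R P k, P (k + 3)⁆ ≤ KE R P N k
    · refine h.start_II hX hc hk3 hcR hcomm hRn ?_
      by_cases hab : ∀ x ∈ P (k + 1), ∀ y ∈ P (k + 1), ⁅x, y⁆ ∈ ker P (k + 1)
      · exact h.II_ab hk3 hcR hcomm (hRn k (by omega)) hab hI
      · push Not at hab
        refine hI.trans fun x hx => ?_
        have hgd := h.gd_start hk hcomm (hRn k (by omega))
        refine h.cen_le (by omega) hab hx.1.1 ?_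
        exact nvG hgd (h.comm_eq (i := k + 1) (by omega)) hx.1.1 hx.1.2
          ((h.not_vis (by omega) hx.1.1 hx.1.2).mp hx)
    · exact h.start_I hX hc hk3 hcR hI
  · obtain ⟨x, hx⟩ := h.start_top (k := k) (by omega) hcomm (hRn k (by omega))
    refine ⟨x, hx, ?_⟩
    rw [show N - (k + 4) = 0 by omega, hc.zero]
    exact ⟨hX (k + 1) (by omega) hx.1, hx.2.1⟩

/-- **Turull's theorem for minimal towers** -/
theorem MT.main (h : MT R P p N) {X : Subgroup Γ} (hX : ∀ i < N, P i ≤ X)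
    {c : ℕ → Subgroup Γ} {n : ℕ} (hc : CC (X ⊓ centralizer (R : Set Γ)) c n)
    (hN : N = n + 3) : False := by
  obtain ⟨κ, h2, hκ, hcomm, hcR⟩ := h.exists_kappa hX hc hN
  obtain ⟨k, rfl⟩ : ∃ k, κ = k + 2 := ⟨κ - 2, by omega⟩
  have hRn : ∀ i ≤ k + 2, ¬ ⁅P i, R⁆ ≤ zz P N i := fun i hi =>
    h.R_nontriv hκ hcomm (k + 2) i hi (by omega)
  obtain ⟨x, hx, hxc⟩ := h.start hX hc hκ hcR hcomm hRn
  have h3 := h.descend hX hc hκ hRn k (N - (k + 4)) x le_rfl hx hxc
  omega

end Cfsg.Agent.H575.TThree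
end

-- part: H823/TowerLift
section
/-!
# Lifting a tower of `p`-subgroups through a homomorphism (for S4363)
-/

set_option autoImplicit false

open Subgroup

namespace Cfsg.Agent.H823.Tow

open Cfsg.Agent.Lib Cfsg.Agent.Blocks

universe u v

variable {Γ : Type u} [Group Γ] {Δ : Type v} [Group Δ]

/-- Frattini argument: `h` normalizes `M`, `S` a Sylow subgroup of `M`; then `m⁻¹ h` normalizes `S`
for some `m ∈ M`. -/
theorem exists_mul_mem_normalizer [Finite Γ] {p : ℕ} [Fact p.Prime] {M S : Subgroup Γ}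
    (hS : ∃ T : Sylow p M, (T : Subgroup M).map M.subtype = S) {h : Γ}
    (hh : h ∈ normalizer (M : Set Γ)) : ∃ m ∈ M, m⁻¹ * h ∈ normalizer (S : Set Γ) := by
  have hSM : S ≤ M := by
    obtain ⟨T, rfl⟩ := hS
    exact map_subtype_le _
  have h2 : ∃ T : Sylow p M, (T : Subgroup M).map M.subtype = S.map (MulAut.conj h).toMonoidHom := by
    apply SylowIn.exists_sylow_map_eq_of_card
    · rintro _ ⟨s, hs, rfl⟩
      exact (mem_normalizer_iff.mp hh s).mp (hSM hs)
    · rw [← SylowIn.card_of_sylow_map_eq hS]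
      exact Nat.card_congr (S.equivMapOfInjective (MulAut.conj h).toMonoidHom
        (MulAut.conj h).injective).toEquiv.symm
  obtain ⟨m, hm, hmS⟩ := SylowIn.exists_conj_of_sylow_map_eq hS h2
  refine ⟨m, hm, ?_⟩
  rw [mem_normalizer_iff]
  have key : ∀ s : Γ, s ∈ S ↔ m * s * m⁻¹ ∈ S.map (MulAut.conj h).toMonoidHom := by
    intro s
    rw [← hmS]
    constructor
    · intro hs
      exact ⟨s, hs, rfl⟩
    · rintro ⟨t, ht, hts⟩
      have : t = s := by
        have h3 : m * t * m⁻¹ = m * s * m⁻¹ := hts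
        simpa using h3
      exact this ▸ ht
  have key2 : ∀ s : Γ, s ∈ S ↔ h * s * h⁻¹ ∈ S.map (MulAut.conj h).toMonoidHom := by
    intro s
    constructor
    · intro hs
      exact ⟨s, hs, rfl⟩
    · rintro ⟨t, ht, hts⟩
      have : t = s := by
        have h3 : h * t * h⁻¹ = h * s * h⁻¹ := hts
        simpa using h3
      exact this ▸ ht
  intro s
  rw [key2 s, key (m⁻¹ * h * s * (m⁻¹ * h)⁻¹)]
  have : m * (m⁻¹ * h * s * (m⁻¹ * h)⁻¹) * m⁻¹ = h * s * h⁻¹ := by group
  rw [this]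

/-- the image of a Sylow subgroup of `M` in a `p`-group `M.map f` is everything -/
theorem map_sylow_eq [Finite Γ] (f : Γ →* Δ) {p : ℕ} [Fact p.Prime] {M S : Subgroup Γ}
    (hS : ∃ T : Sylow p M, (T : Subgroup M).map M.subtype = S) (hp : IsPGroup p (M.map f)) :
    S.map f = M.map f := by
  obtain ⟨T, rfl⟩ := hS
  let g : M →* M.map f := (f.comp M.subtype).codRestrict (M.map f) (fun x => ⟨x, x.2, rfl⟩)
  have hg : Function.Surjective g := by
    rintro ⟨_, x, hx, rfl⟩
    exact ⟨⟨x, hx⟩, rfl⟩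
  have h1 : IsPGroup p (⊤ : Subgroup (M.map f)) := hp.of_equiv topEquiv.symm
  have h2 := (T.mapSurjective hg).is_maximal' h1 le_top
  apply le_antisymm
  · rintro _ ⟨x, hx, rfl⟩
    exact ⟨x, map_subtype_le _ hx, rfl⟩
  · rintro y hy
    have h3 : (⟨y, hy⟩ : M.map f) ∈ ((T.mapSurjective hg : Sylow p (M.map f)) : Subgroup (M.map f)) := by
      rw [← h2]; trivial
    obtain ⟨t, ht, hty⟩ := h3
    exact ⟨t, ⟨t, ht, rfl⟩, congrArg Subtype.val hty⟩

theorem lift_aux [Finite Γ] (f : Γ →* Δ) (X R : Subgroup Γ) (hX : X.Normal) (hR : (Nat.card R).Prime)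
    (hcop : ¬ Nat.card R ∣ Nat.card X) : ∀ (n : ℕ) (Q : ℕ → Subgroup Δ) (p : ℕ → ℕ) (H : Subgroup Γ),
    R ≤ H → (∀ i < n, (p i).Prime) → (∀ i < n, IsPGroup (p i) (Q i)) →
    (∀ i < n, Q i ≤ (H ⊓ X).map f) →
    (∀ i j, i ≤ j → j < n → Q j ≤ normalizer (Q i : Set Δ)) →
    (∀ i < n, R.map f ≤ normalizer (Q i : Set Δ)) →
    ∃ P : ℕ → Subgroup Γ, (∀ i < n, IsPGroup (p i) (P i)) ∧ (∀ i < n, P i ≤ H ⊓ X) ∧
      (∀ i < n, (P i).map f = Q i) ∧ (∀ i < n, R ≤ normalizer (P i : Set Γ)) ∧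
      ∀ i j, i ≤ j → j < n → P j ≤ normalizer (P i : Set Γ) := by
  intro n
  induction n with
  | zero =>
    intro Q p H _ _ _ _ _ _
    exact ⟨fun _ => ⊥, by simp, by simp, by simp, by simp, by simp⟩
  | succ n ih =>
    intro Q p H hRH hp hpg hQ hnorm hinv
    have _ := hX
    have _ : Fact (p 0).Prime := ⟨hp 0 (Nat.succ_pos n)⟩
    have _ : Fact (Nat.card R).Prime := ⟨hR⟩
    set M : Subgroup Γ := (H ⊓ X) ⊓ (Q 0).comap f with hM
    have hMX : M ≤ X := inf_le_left.trans inf_le_right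
    have hMcard : ¬ Nat.card R ∣ Nat.card M := fun h => hcop (h.trans (card_dvd_of_le hMX))
    have hnorM : ∀ b, b ∈ H → f b ∈ normalizer (Q 0 : Set Δ) → b ∈ normalizer (M : Set Γ) := by
      intro b hb hfb
      rw [mem_normalizer_iff]
      intro u
      rw [hM, mem_inf, mem_inf, mem_inf, mem_inf, mem_comap, mem_comap]
      have h1 : u ∈ H ↔ b * u * b⁻¹ ∈ H := by
        rw [H.mul_mem_cancel_right (inv_mem hb), H.mul_mem_cancel_left hb]
      have h2 : u ∈ X ↔ b * u * b⁻¹ ∈ X := ⟨fun h => hX.conj_mem u h b, fun h => by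
        have h4 := hX.conj_mem _ h b⁻¹
        have h5 : b⁻¹ * (b * u * b⁻¹) * b⁻¹⁻¹ = u := by group
        rwa [h5] at h4⟩
      have h3 : f u ∈ Q 0 ↔ f (b * u * b⁻¹) ∈ Q 0 := by
        rw [map_mul, map_mul, map_inv]
        exact mem_normalizer_iff.mp hfb _
      rw [← h1, ← h2, ← h3]
    have hRM : ∀ b ∈ R, ∀ u ∈ M, b * u * b⁻¹ ∈ M := fun b hb u hu =>
      (mem_normalizer_iff.mp (hnorM b (hRH hb) (hinv 0 (Nat.succ_pos n) ⟨b, hb, rfl⟩)) u).mp hu
    obtain ⟨S, hS, hRS⟩ := PGroupCoprimeAction.exists_invariant_sylow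
      (IsPGroup.of_card (p := Nat.card R) (n := 1) (pow_one _).symm) hMcard hRM (p 0)
    have hSM : S ≤ M := by
      obtain ⟨T, rfl⟩ := hS
      exact map_subtype_le _
    have hSp : IsPGroup (p 0) S := by
      obtain ⟨T, rfl⟩ := hS
      exact T.isPGroup'.map _
    have hMf : M.map f = Q 0 := by
      apply le_antisymm
      · rintro _ ⟨x, hx, rfl⟩
        exact hx.2
      · intro y hy
        obtain ⟨x, hx, rfl⟩ := hQ 0 (Nat.succ_pos n) hy
        exact ⟨x, ⟨hx, hy⟩, rfl⟩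
    have hSf : S.map f = Q 0 := by
      rw [map_sylow_eq f hS (by rw [hMf]; exact hpg 0 (Nat.succ_pos n)), hMf]
    have hRnS : R ≤ normalizer (S : Set Γ) := by
      intro b hb
      rw [mem_normalizer_iff]
      intro u
      refine ⟨hRS b hb u, fun h => ?_⟩
      have := hRS b⁻¹ (inv_mem hb) _ h
      have h4 : b⁻¹ * (b * u * b⁻¹) * b⁻¹⁻¹ = u := by group
      rwa [h4] at this
    obtain ⟨P', h1, h2, h3, h4, h5⟩ := ih (fun i => Q (i + 1)) (fun i => p (i + 1))
      (H ⊓ normalizer (S : Set Γ)) (le_inf hRH hRnS)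
      (fun i hi => hp _ (Nat.succ_lt_succ hi)) (fun i hi => hpg _ (Nat.succ_lt_succ hi))
      (fun i hi => by
        intro y hy
        obtain ⟨h, hh, rfl⟩ := hQ _ (Nat.succ_lt_succ hi) hy
        have hn := hnorm 0 (i + 1) (Nat.zero_le _) (Nat.succ_lt_succ hi) hy
        obtain ⟨m, hm, hmn⟩ := exists_mul_mem_normalizer hS (hnorM h hh.1 hn)
        obtain ⟨a, ha, haf⟩ : f m ∈ S.map f := by rw [hSf]; exact hm.2
        refine ⟨a * (m⁻¹ * h), ⟨⟨?_, ?_⟩, ?_⟩, ?_⟩
        · exact H.mul_mem (hSM ha).1.1 (H.mul_mem (H.inv_mem hm.1.1) hh.1)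
        · exact mul_mem (le_normalizer ha) hmn
        · exact X.mul_mem (hSM ha).1.2 (X.mul_mem (X.inv_mem hm.1.2) hh.2)
        · rw [map_mul, map_mul, map_inv, haf, mul_inv_cancel_left])
      (fun i j hij hj => hnorm _ _ (Nat.succ_le_succ hij) (Nat.succ_lt_succ hj))
      (fun i hi => hinv _ (Nat.succ_lt_succ hi))
    refine ⟨fun i => Nat.casesOn i S P', ?_, ?_, ?_, ?_, ?_⟩
    · rintro (_ | i) hi
      · exact hSp
      · exact h1 i (Nat.lt_of_succ_lt_succ hi)
    · rintro (_ | i) hi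
      · exact hSM.trans inf_le_left
      · exact (h2 i (Nat.lt_of_succ_lt_succ hi)).trans (inf_le_inf_right _ inf_le_left)
    · rintro (_ | i) hi
      · exact hSf
      · exact h3 i (Nat.lt_of_succ_lt_succ hi)
    · rintro (_ | i) hi
      · exact hRnS
      · exact h4 i (Nat.lt_of_succ_lt_succ hi)
    · rintro (_ | i) (_ | j) hij hj
      · exact le_normalizer
      · exact (h2 j (Nat.lt_of_succ_lt_succ hj)).trans (inf_le_left.trans inf_le_right)
      · exact absurd hij (Nat.not_succ_le_zero i)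
      · exact h5 i j (Nat.le_of_succ_le_succ hij) (Nat.lt_of_succ_lt_succ hj)

end Cfsg.Agent.H823.Tow
end

-- part: H823/TowerMain
section
/-!
# Existence of towers (for S4363)
-/

set_option autoImplicit false

open Subgroup
open scoped commutatorElement

namespace Cfsg.Agent.H823.Tow

open Cfsg.Agent.Lib Cfsg.Agent.Blocks Cfsg.Agent.H575

universe u

variable {Γ : Type u} [Group Γ]

/-- `O_q(X)` as a subgroup of the ambient group -/
def OO (q : ℕ) (X : Subgroup Γ) : Subgroup Γ := (Cfsg.pCore q X).map X.subtype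

theorem OO_normal (q : ℕ) {X : Subgroup Γ} (hX : X.Normal) : (OO q X).Normal := by
  have h : OO q X = X ⊓ Cfsg.pCore q Γ := Cores.map_subtype_pCore q hX
  rw [h]
  have := Cores.pCore_normal (G := Γ) q
  exact inferInstance

theorem OO_le (q : ℕ) (X : Subgroup Γ) : OO q X ≤ X := map_subtype_le _

theorem OO_isPGroup (q : ℕ) (X : Subgroup Γ) : IsPGroup q (OO q X) :=
  (Cores.pCore_isPGroup q).map _

/-- a normal subgroup centralizing `O_q(X)` for `q ≠ p` which is a `p`-group modulo `F(X)` -/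
theorem mem_fitting [Finite Γ] {X : Subgroup Γ} (hX : X.Normal) (p : ℕ) [Fact p.Prime] {F E : Subgroup Γ}
    (hF : F = (Cfsg.fittingSubgroup X).map X.subtype) (hE : E.Normal) (hEX : E ≤ X)
    (hEF : ∀ x ∈ E, ∃ k : ℕ, x ^ p ^ k ∈ F) {x : Γ} (hx : x ∈ E)
    (hc : ∀ q : ℕ, q.Prime → q ≠ p → x ∈ centralizer (OO q X : Set Γ)) : x ∈ F := by
  have hON : ∀ q : ℕ, (OO q X).Normal := fun q => OO_normal q hX
  -- the normal subgroup `D`
  let D : Subgroup Γ := E ⊓ ⨅ q : {q : ℕ // q.Prime ∧ q ≠ p}, centralizer (OO q.1 X : Set Γ)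
  have hDn : D.Normal := by
    have h1 : (⨅ q : {q : ℕ // q.Prime ∧ q ≠ p}, centralizer (OO q.1 X : Set Γ)).Normal := by
      apply normal_iInf_normal
      intro q
      have := hON q.1
      exact inferInstance
    exact inferInstance
  have hDE : D ≤ E := inf_le_left
  have hDc : ∀ d ∈ D, ∀ q : ℕ, q.Prime → q ≠ p → d ∈ centralizer (OO q X : Set Γ) :=
    fun d hd q hq hqp => (mem_iInf.mp hd.2) ⟨q, hq, hqp⟩
  have hxD : x ∈ D := ⟨hx, mem_iInf.mpr fun q => hc q.1 q.2.1 q.2.2⟩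
  -- elements of `q`-power order of `D` are central
  have hcen : ∀ q : ℕ, q.Prime → q ≠ p → ∀ y ∈ D, IsPGroup q (zpowers y) → ∀ d ∈ D, d * y = y * d := by
    intro q hq hqp y hy hyq d hd
    have : Fact q.Prime := ⟨hq⟩
    obtain ⟨k, hk⟩ := hEF y (hDE hy)
    obtain ⟨j, hj⟩ := (IsPGroup.iff_orderOf.mp hyq) ⟨y, mem_zpowers y⟩
    have hj' : orderOf y = q ^ j := by
      rw [← hj]
      exact (orderOf_mk y _).symm
    have hcop : (p ^ k).Coprime (orderOf y) := by
      rw [hj']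
      exact Nat.Coprime.pow _ _ ((Nat.coprime_primes (Fact.out : p.Prime) hq).mpr (Ne.symm hqp))
    have hyF : y ∈ F := by
      have h1 : zpowers (y ^ p ^ k) = zpowers y := by
        apply le_antisymm
        · rw [zpowers_le]
          exact pow_mem (mem_zpowers y) _
        · rw [zpowers_le, mem_zpowers_iff]
          obtain ⟨m, hm⟩ := exists_pow_eq_self_of_coprime hcop
          exact ⟨m, by rw [zpow_natCast]; exact hm⟩
      have h2 : zpowers y ≤ F := by
        rw [← h1, zpowers_le]; exact hk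
      exact h2 (mem_zpowers y)
    have h3 : zpowers y ≤ OO q X := by
      apply BenderMaximal.le_map_pCore_of_le_fitting hyq
      rw [← hF, zpowers_le]
      exact hyF
    exact (mem_centralizer_iff.mp (hDc d hd q hq hqp) y (h3 (mem_zpowers y))).symm
  -- `D` is nilpotent
  have hnil : Group.IsNilpotent D := by
    apply Group.of_quotient_center_nilpotent
    have hpg : IsPGroup p (D ⧸ center D) := by
      have h0 : Nat.card (D ⧸ center D) ≠ 0 := Nat.card_pos.ne'
      apply IsPGroup.of_card (n := (Nat.card (D ⧸ center D)).primeFactorsList.length)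
      apply Nat.eq_prime_pow_of_unique_prime_dvd h0
      intro q hq hqd
      by_contra hqp
      have : Fact q.Prime := ⟨hq⟩
      obtain ⟨Q⟩ : Nonempty (Sylow q D) := inferInstance
      have hQ : (Q : Subgroup D) ≤ center D := by
        intro y hy
        rw [mem_center_iff]
        intro d
        apply Subtype.ext
        refine hcen q hq hqp y.1 y.2 ?_ d.1 d.2
        have h4 : IsPGroup q (zpowers y) := Q.isPGroup'.to_le (zpowers_le.mpr hy)
        have h5 := h4.map D.subtype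
        rwa [MonoidHom.map_zpowers] at h5
      have h6 : (center D).index ∣ (Q : Subgroup D).index := index_dvd_of_le hQ
      exact Q.not_dvd_index (hqd.trans h6)
    exact hpg.isNilpotent
  -- so it lies in the Fitting subgroup
  have hDX : D ≤ X := hDE.trans hEX
  have h7 : D.subgroupOf X ≤ Cfsg.fittingSubgroup X := by
    apply Cores.le_fittingSubgroup inferInstance
    exact (Group.isNilpotent_congr (subgroupOfEquivOfLe hDX)).mpr hnil
  rw [hF]
  exact ⟨⟨x, hDX hxD⟩, h7 hxD, rfl⟩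

/-! ### kernels of towers -/

theorem ker_le (P : ℕ → Subgroup Γ) (i : ℕ) : Tower.ker P i ≤ P i := by
  cases i with
  | zero => exact bot_le
  | succ i => exact inf_le_left

theorem mem_normalizer_ker {P : ℕ → Subgroup Γ} {g : Γ} : ∀ i : ℕ,
    (∀ k ≤ i, g ∈ normalizer (P k : Set Γ)) → g ∈ normalizer (Tower.ker P i : Set Γ) := by
  intro i
  induction i with
  | zero =>
    intro _
    rw [mem_normalizer_iff]
    intro h
    show h ∈ (⊥ : Subgroup Γ) ↔ _ ∈ (⊥ : Subgroup Γ)
    rw [mem_bot, mem_bot]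
    constructor
    · rintro rfl; group
    · intro hh
      have : h = g⁻¹ * (g * h * g⁻¹) * g := by group
      rw [this, hh]; group
  | succ i ih =>
    intro hg
    have h1 := ih fun k hk => hg k (hk.trans (Nat.le_succ i))
    have hone : ∀ {a : Γ}, (∀ k ≤ i + 1, a ∈ normalizer (P k : Set Γ)) →
        a ∈ normalizer (Tower.ker P i : Set Γ) → ∀ x, x ∈ Tower.ker P (i + 1) →
          a * x * a⁻¹ ∈ Tower.ker P (i + 1) := by
      intro a ha ha1 x hx
      refine ⟨(mem_normalizer_iff.mp (ha (i + 1) le_rfl) x).mp hx.1, ?_, ?_⟩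
      · exact mul_mem (mul_mem ha1 hx.2.1) (inv_mem ha1)
      · intro y hy
        have h2 : a⁻¹ * y * a ∈ P i := by
          have h3 := mem_normalizer_iff.mp (ha i (Nat.le_succ i)) (a⁻¹ * y * a)
          rw [h3]
          have h4 : a * (a⁻¹ * y * a) * a⁻¹ = y := by group
          rwa [h4]
        have h5 := hx.2.2 _ h2
        have h6 : ⁅a * x * a⁻¹, y⁆ = a * ⁅x, a⁻¹ * y * a⁆ * a⁻¹ := by
          simp only [commutatorElement_def]; group
        rw [h6]
        exact (mem_normalizer_iff.mp ha1 _).mp h5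
    rw [mem_normalizer_iff]
    intro x
    refine ⟨hone hg h1 x, fun hx => ?_⟩
    have h7 := hone (a := g⁻¹) (fun k hk => inv_mem (hg k hk)) (inv_mem h1) _ hx
    have h8 : g⁻¹ * (g * x * g⁻¹) * g⁻¹⁻¹ = x := by group
    rwa [h8] at h7

theorem ker_succ_of {P : ℕ → Subgroup Γ} {i : ℕ} (hn : P (i + 1) ≤ normalizer (P i : Set Γ))
    (h : P i ≤ Tower.ker P i) : P (i + 1) ≤ Tower.ker P (i + 1) := by
  have h1 : Tower.ker P i = P i := le_antisymm (ker_le P i) h
  intro x hx
  refine ⟨hx, ?_, ?_⟩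
  · rw [h1]; exact hn hx
  · intro y hy
    rw [h1, commutatorElement_def]
    exact mul_mem ((mem_normalizer_iff.mp (hn hx) y).mp hy) (inv_mem hy)

theorem nontriv_of_top {P : ℕ → Subgroup Γ} {n : ℕ}
    (hn : ∀ i j, i ≤ j → j < n + 1 → P j ≤ normalizer (P i : Set Γ)) (h : ¬ P n ≤ Tower.ker P n) :
    ∀ i < n + 1, ¬ P i ≤ Tower.ker P i := by
  intro i hi hP
  apply h
  have : ∀ k, i + k < n + 1 → P (i + k) ≤ Tower.ker P (i + k) := by
    intro k
    induction k with
    | zero => intro _; exact hP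
    | succ k ih =>
      intro hk
      exact ker_succ_of (hn _ _ (Nat.le_succ _) hk) (ih (by omega))
  have h1 := this (n - i) (by omega)
  have h2 : i + (n - i) = n := by omega
  rwa [h2] at h1

/-- the tower with a new bottom -/
def cons (A : Subgroup Γ) (P : ℕ → Subgroup Γ) : ℕ → Subgroup Γ
  | 0 => A
  | i + 1 => P i

/-- the primes with a new bottom -/
def consN (a : ℕ) (p : ℕ → ℕ) : ℕ → ℕ
  | 0 => a
  | i + 1 => p i

theorem exists_OO_ne_bot [Finite Γ] {X : Subgroup Γ} (hsol : Group.IsSolvable X) (hX : X ≠ ⊥) :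
    ∃ q : ℕ, q.Prime ∧ OO q X ≠ ⊥ := by
  by_contra hcon
  push Not at hcon
  apply hX
  have h1 : (Cfsg.fittingSubgroup X).map X.subtype = ⊥ := by
    rw [BenderMaximal.map_fittingSubgroup_eq_iSup, iSup_eq_bot]
    intro q
    exact hcon q q.2
  have h2 := BenderMaximal.inf_centralizer_fitting_le hsol
  rw [h1] at h2
  rw [eq_bot_iff]
  intro x hx
  refine h2 (mem_inf.mpr ⟨hx, ?_⟩)
  rw [mem_centralizer_iff]
  · intro y hy
    have : y = 1 := hy
    rw [this, one_mul, mul_one]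

theorem exists_tower_aux : ∀ (m : ℕ) {Γ : Type u} [Group Γ] [Finite Γ] (X R : Subgroup Γ),
    X.Normal → Group.IsSolvable X → (Nat.card R).Prime → ¬ Nat.card R ∣ Nat.card X →
    ¬ Chain.FChain m X →
    ∃ (P : ℕ → Subgroup Γ) (p : ℕ → ℕ), Tower.IsTower R P p (m + 1) ∧ (∀ i < m + 1, P i ≤ X) ∧
      P 0 = OO (p 0) X := by
  intro m
  induction m with
  | zero =>
    intro Γ _ _ X R hX hsol hR hcop h
    have hX1 : X ≠ ⊥ := by
      rintro rfl
      exact h Chain.fchain_zero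
    obtain ⟨q, hq, hne⟩ := exists_OO_ne_bot hsol hX1
    have hON := OO_normal q hX
    refine ⟨fun _ => OO q X, fun _ => q, ⟨fun _ _ => hq, fun _ _ => OO_isPGroup q X,
      fun i hi => absurd hi (by omega), fun i j _ _ => ?_, fun i _ => ?_, fun i hi => ?_⟩,
      fun _ _ => OO_le q X, rfl⟩
    · rw [normalizer_eq_top]; exact le_top
    · rw [normalizer_eq_top]; exact le_top
    · have : i = 0 := by omega
      subst this
      intro hle
      exact hne (le_bot_iff.mp hle)
  | succ m ih =>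
    intro Γ _ _ X R hX hsol hR hcop h
    set F : Subgroup Γ := (Cfsg.fittingSubgroup X).map X.subtype with hF
    have hFn : F.Normal := by
      rw [hF, Cores.map_subtype_fittingSubgroup hX]
      have := Cores.fittingSubgroup_normal (G := Γ)
      exact inferInstance
    have hFX : F ≤ X := map_subtype_le _
    let f : Γ →* Γ ⧸ F := QuotientGroup.mk' F
    have hfs : Function.Surjective f := QuotientGroup.mk'_surjective F
    have hfk : ∀ x : Γ, f x = 1 ↔ x ∈ F := fun x => QuotientGroup.eq_one_iff x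
    have hX' : (X.map f).Normal := hX.map f hfs
    have hsol' : Group.IsSolvable (X.map f) := by
      have hs : Function.Surjective (f.subgroupMap X) := f.subgroupMap_surjective X
      have := hsol
      exact Group.isSolvable_of_surjective hs
    have hRc : Nat.card (R.map f) = Nat.card R := by
      refine (Nat.card_congr (Equiv.ofBijective (f.subgroupMap R)
        ⟨?_, f.subgroupMap_surjective R⟩)).symm
      rw [injective_iff_map_eq_one]
      intro a ha
      have h1 : (a : Γ) ∈ F := (hfk a).mp (congrArg Subtype.val ha)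
      have h2 : orderOf (a : Γ) ∣ Nat.card R := by
        rw [Subgroup.orderOf_coe]
        exact orderOf_dvd_natCard a
      rcases (Nat.dvd_prime hR).mp h2 with h3 | h3
      · exact Subtype.ext (orderOf_eq_one_iff.mp h3)
      · exfalso
        apply hcop
        rw [← h3]
        have h4 : orderOf (⟨a, hFX h1⟩ : X) = orderOf (a : Γ) := Subgroup.orderOf_mk _ _
        rw [← h4]
        exact orderOf_dvd_natCard _
    have hcop' : ¬ Nat.card (R.map f) ∣ Nat.card (X.map f) := by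
      rw [hRc]
      intro h1
      exact hcop (h1.trans (card_map_dvd X f))
    have hch : ¬ Chain.FChain m (X.map f) := by
      intro h1
      apply h
      apply Chain.FChain.extend (f.subgroupMap X) ?_ h1
      have hk : (f.subgroupMap X).ker = Cfsg.fittingSubgroup X := by
        ext x
        rw [MonoidHom.mem_ker]
        constructor
        · intro hx
          have h2 : (x : Γ) ∈ F := (hfk x).mp (congrArg Subtype.val hx)
          obtain ⟨y, hy, hyx⟩ := h2
          have : y = x := Subtype.ext hyx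
          exact this ▸ hy
        · intro hx
          apply Subtype.ext
          exact (hfk x).mpr ⟨x, hx, rfl⟩
      rw [hk]
      exact Cores.fittingSubgroup_isNilpotent
    obtain ⟨Q, p, hQ, hQX, hQ0⟩ := ih (X.map f) (R.map f) hX' hsol' (by rw [hRc]; exact hR) hcop' hch
    obtain ⟨P, hP1, hP2, hP3, hP4, hP5⟩ := lift_aux f X R hX hR hcop (m + 1) Q p ⊤ le_top hQ.prime
      hQ.pgroup (fun i hi => by rw [top_inf_eq]; exact hQX i hi) hQ.norm hQ.inv
    have hp0 : (p 0).Prime := hQ.prime 0 (Nat.succ_pos m)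
    have hfp0 : Fact (p 0).Prime := ⟨hp0⟩
    have hPX : ∀ i < m + 1, P i ≤ X := fun i hi => (hP2 i hi).trans inf_le_right
    -- the key
    have key : ∀ i < m + 1, ∀ x : Γ,
        (∀ q : ℕ, q.Prime → q ≠ p 0 → x ∈ Tower.ker (cons (OO q X) P) (i + 1)) →
        f x ∈ Tower.ker Q i := by
      obtain ⟨q₀, hq₀l, hq₀⟩ := Nat.exists_infinite_primes (p 0 + 1)
      have hq₀' : q₀ ≠ p 0 := by omega
      intro i
      induction i with
      | zero =>
        intro _ x hx
        have hxP : x ∈ P 0 := (hx q₀ hq₀ hq₀').1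
        rw [show Tower.ker Q 0 = ⊥ from rfl, mem_bot, hfk]
        have hQn : (Q 0).Normal := by
          rw [hQ0]; exact OO_normal _ hX'
        have hEn : (X ⊓ (Q 0).comap f).Normal := by
          have := hQn.comap f
          exact inferInstance
        refine mem_fitting hX (p 0) hF hEn inf_le_left ?_
          (mem_inf.mpr ⟨hPX 0 (Nat.succ_pos m) hxP, ?_⟩) ?_
        · rintro y ⟨-, hy⟩
          obtain ⟨k, hk⟩ := hQ.pgroup 0 (Nat.succ_pos m) ⟨f y, hy⟩
          refine ⟨k, (hfk _).mp ?_⟩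
          rw [map_pow]
          exact congrArg Subtype.val hk
        · rw [mem_comap, ← hP3 0 (Nat.succ_pos m)]
          exact ⟨x, hxP, rfl⟩
        · intro q hq hqp
          rw [mem_centralizer_iff]
          intro y hy
          have h1 : ⁅x, y⁆ ∈ (⊥ : Subgroup Γ) := (hx q hq hqp).2.2 y hy
          rw [mem_bot, commutatorElement_eq_one_iff_mul_comm] at h1
          exact h1.symm
      | succ i ihi =>
        intro hi x hx
        have hi' : i < m + 1 := Nat.lt_of_succ_lt hi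
        have hxP : x ∈ P (i + 1) := (hx q₀ hq₀ hq₀').1
        have hfx : f x ∈ Q (i + 1) := by
          rw [← hP3 (i + 1) hi]
          exact ⟨x, hxP, rfl⟩
        refine ⟨hfx, ?_, ?_⟩
        · apply mem_normalizer_ker
          intro k hk
          exact hQ.norm k (i + 1) (by omega) hi hfx
        · intro z hz
          rw [← hP3 i hi'] at hz
          obtain ⟨y, hy, rfl⟩ := hz
          have h2 := ihi hi' ⁅x, y⁆ fun q hq hqp => (hx q hq hqp).2.2 y hy
          rwa [map_commutatorElement] at h2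
    have hex : ∃ q : ℕ, q.Prime ∧ q ≠ p 0 ∧
        ¬ P m ≤ Tower.ker (cons (OO q X) P) (m + 1) := by
      by_contra hcon
      push Not at hcon
      apply hQ.nontriv m (Nat.lt_succ_self m)
      rw [← hP3 m (Nat.lt_succ_self m)]
      rintro _ ⟨x, hx, rfl⟩
      exact key m (Nat.lt_succ_self m) x fun q hq hqp => hcon q hq hqp hx
    obtain ⟨q, hq, hqp, hqm⟩ := hex
    have hON := OO_normal q hX
    have hnorm : ∀ i j, i ≤ j → j < m + 1 + 1 →
        cons (OO q X) P j ≤ normalizer (cons (OO q X) P i : Set Γ) := by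
      rintro (_ | i) j hij hj
      · show _ ≤ normalizer (OO q X : Set Γ)
        rw [normalizer_eq_top]; exact le_top
      · obtain ⟨j, rfl⟩ : ∃ j', j = j' + 1 := ⟨j - 1, by omega⟩
        exact hP5 i j (by omega) (by omega)
    refine ⟨cons (OO q X) P, consN q p, ⟨?_, ?_, ?_, hnorm, ?_, ?_⟩, ?_, rfl⟩
    · rintro (_ | i) hi
      · exact hq
      · exact hQ.prime i (by omega)
    · rintro (_ | i) hi
      · exact OO_isPGroup q X
      · exact hP1 i (by omega)
    · rintro (_ | i) hi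
      · exact hqp
      · exact hQ.ne i (by omega)
    · rintro (_ | i) hi
      · show _ ≤ normalizer (OO q X : Set Γ)
        rw [normalizer_eq_top]; exact le_top
      · exact hP4 i (by omega)
    · exact nontriv_of_top hnorm hqm
    · rintro (_ | i) hi
      · exact OO_le q X
      · exact hPX i (by omega)

/-- **Existence of towers** -/
theorem exists_tower {Γ : Type u} [Group Γ] [Finite Γ] (X R : Subgroup Γ) (hX : X.Normal)
    (hsol : Group.IsSolvable X) (hR : (Nat.card R).Prime) (hcop : ¬ Nat.card R ∣ Nat.card X) (m : ℕ)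
    (h : ¬ Chain.FChain m X) :
    ∃ (P : ℕ → Subgroup Γ) (p : ℕ → ℕ), Tower.IsTower R P p (m + 1) ∧ ∀ i < m + 1, P i ≤ X := by
  obtain ⟨P, p, h1, h2, -⟩ := exists_tower_aux m X R hX hsol hR hcop h
  exact ⟨P, p, h1, h2⟩

end Cfsg.Agent.H823.Tow
end

-- part: H575/Turull
section
/-!
# Turull's theorem
-/

set_option autoImplicit false
set_option linter.unusedSectionVars false
set_option linter.unusedVariables false

namespace Cfsg.Agent.H575.Turull

open Subgroup Cfsg.Agent.H575.Tower Cfsg.Agent.H575.TThree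
open scoped commutatorElement

universe u

variable {Γ : Type u} [Group Γ] [Finite Γ]

theorem exists_min {R X : Subgroup Γ} {p : ℕ → ℕ} {N : ℕ} {P : ℕ → Subgroup Γ}
    (hT : IsTower R P p N) (hPX : ∀ i < N, P i ≤ X) (hR : (Nat.card R).Prime)
    (hcop : ¬ Nat.card R ∣ Nat.card X) : ∃ P', MT R P' p N ∧ ∀ i < N, P' i ≤ X := by
  classical
  let S : Set ℕ := {a | ∃ P' : ℕ → Subgroup Γ, IsTower R P' p N ∧ (∀ i < N, P' i ≤ X) ∧
    a = ∑ i ∈ Finset.range N, Nat.card (P' i)}
  have hS : S.Nonempty := ⟨_, P, hT, hPX, rfl⟩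
  obtain ⟨P', hT', hPX', hsum⟩ := Nat.sInf_mem hS
  refine ⟨P', { toIsTower := hT', hmin := ?_, hR := hR, hRp := ?_ }, hPX'⟩
  · intro P'' hT'' hle
    have h1 : ∑ i ∈ Finset.range N, Nat.card (P' i) ≤ ∑ i ∈ Finset.range N, Nat.card (P'' i) := by
      rw [← hsum]
      exact Nat.sInf_le ⟨P'', hT'', fun i hi => (hle i hi).trans (hPX' i hi), rfl⟩
    have h2 : ∀ i ∈ Finset.range N, Nat.card (P'' i) ≤ Nat.card (P' i) := fun i hi =>
      Subgroup.card_le_of_le (hle i (Finset.mem_range.mp hi))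
    have h3 := (Finset.sum_eq_sum_iff_of_le h2).mp (le_antisymm (Finset.sum_le_sum h2) h1)
    intro i hi
    exact Subgroup.eq_of_le_of_card_ge (hle i hi) (h3 i (Finset.mem_range.mpr hi)).ge
  · intro i hi heq
    apply hcop
    have hpf : Fact (p i).Prime := ⟨hT'.prime i hi⟩
    obtain ⟨k, hk⟩ := (hT'.pgroup i hi).exists_card_eq
    have hk0 : k ≠ 0 := by
      rintro rfl
      rw [pow_zero] at hk
      apply hT'.nontriv i hi
      rw [Subgroup.card_eq_one.mp hk]
      exact bot_le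
    have h1 : p i ∣ Nat.card (P' i) := by
      rw [hk]
      exact dvd_pow_self _ hk0
    rw [heq]
    exact h1.trans (Subgroup.card_dvd_of_le (hPX' i hi))

/-- **Turull's theorem**, for an operator group of prime order -/
theorem turull (X R : Subgroup Γ) (hX : X.Normal) (hsol : Group.IsSolvable X)
    (hR : (Nat.card R).Prime) (hcop : ¬ Nat.card R ∣ Nat.card X) (n : ℕ)
    (h : Chain.FChain n ↥(X ⊓ centralizer (R : Set Γ))) : Chain.FChain (n + 2) X := by
  by_contra hcon
  obtain ⟨P, p, hT, hPX⟩ := H823.Tow.exists_tower X R hX hsol hR hcop (n + 2) hcon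
  obtain ⟨P', hMT, hPX'⟩ := exists_min hT hPX hR hcop
  obtain ⟨c, hc⟩ := exists_cc h
  exact hMT.main hPX' hc rfl

/-- Turull's theorem for an automorphism -/
theorem turull_aut {G : Type u} [Group G] [Finite G] (hG : Group.IsSolvable G) (σ : MulAut G)
    (r : ℕ) (hr : r.Prime) (hσ : orderOf σ = r) (hcop : ¬ r ∣ Nat.card G) (C : Subgroup G)
    (hC : ∀ g : G, g ∈ C ↔ σ g = g) (n : ℕ) (hn : Chain.FChain n C) :
    Chain.FChain (n + 2) G := by
  let S : Subgroup (MulAut G) := zpowers σ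
  let φ : S →* MulAut G := S.subtype
  have hfin : Finite (G ⋊[φ] S) :=
    Finite.of_equiv (G × S) SemidirectProduct.equivProd.symm
  let X : Subgroup (G ⋊[φ] S) := (SemidirectProduct.inl : G →* G ⋊[φ] S).range
  let R : Subgroup (G ⋊[φ] S) := (SemidirectProduct.inr : S →* G ⋊[φ] S).range
  have hXmem : ∀ x : G ⋊[φ] S, x ∈ X ↔ x.right = 1 := by
    intro x
    show x ∈ (SemidirectProduct.inl : G →* G ⋊[φ] S).range ↔ _
    rw [SemidirectProduct.range_inl_eq_ker_rightHom, MonoidHom.mem_ker]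
    rfl
  have hXn : X.Normal := by
    show ((SemidirectProduct.inl : G →* G ⋊[φ] S).range).Normal
    rw [SemidirectProduct.range_inl_eq_ker_rightHom]
    infer_instance
  have hcX : Nat.card X = Nat.card G :=
    (Nat.card_congr (MonoidHom.ofInjective (f := (SemidirectProduct.inl : G →* G ⋊[φ] S))
      SemidirectProduct.inl_injective).toEquiv).symm
  have hcR : Nat.card R = r := by
    rw [← hσ, ← Nat.card_zpowers]
    exact (Nat.card_congr (MonoidHom.ofInjective (f := (SemidirectProduct.inr : S →* G ⋊[φ] S))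
      SemidirectProduct.inr_injective).toEquiv).symm
  have hsolX : Group.IsSolvable X :=
    Group.isSolvable_of_surjective (MonoidHom.rangeRestrict_surjective
      (SemidirectProduct.inl : G →* G ⋊[φ] S))
  have hfixed : ∀ x : G ⋊[φ] S, x ∈ X ⊓ centralizer (R : Set (G ⋊[φ] S)) → x.left ∈ C := by
    rintro x ⟨hx, hxR⟩
    rw [hC]
    have hx1 := (hXmem x).mp hx
    have h1 := Subgroup.mem_centralizer_iff.mp hxR
      (SemidirectProduct.inr ⟨σ, mem_zpowers σ⟩) ⟨⟨σ, mem_zpowers σ⟩, rfl⟩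
    have h2 := congrArg SemidirectProduct.left h1
    rw [SemidirectProduct.mul_left, SemidirectProduct.mul_left, SemidirectProduct.left_inr,
      one_mul, SemidirectProduct.right_inr, map_one, mul_one] at h2
    exact h2
  have hCh : Chain.FChain n ↥(X ⊓ centralizer (R : Set (G ⋊[φ] S))) := by
    refine hn.of_injective
      { toFun := fun x => (⟨(x : G ⋊[φ] S).left, hfixed x x.2⟩ : C)
        map_one' := rfl
        map_mul' := fun x y => Subtype.ext ?_ } ?_
    · show ((x : G ⋊[φ] S) * y).left = (x : G ⋊[φ] S).left * (y : G ⋊[φ] S).left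
      rw [SemidirectProduct.mul_left, (hXmem x).mp x.2.1, map_one]
      rfl
    · intro x y hxy
      have h1 : (x : G ⋊[φ] S).left = (y : G ⋊[φ] S).left := congrArg Subtype.val hxy
      apply Subtype.ext
      refine SemidirectProduct.ext h1 ?_
      rw [(hXmem x).mp x.2.1, (hXmem y).mp y.2.1]
  have hmain := turull X R hXn hsolX (by rw [hcR]; exact hr) (by rw [hcR, hcX]; exact hcop) n hCh
  exact hmain.of_injective (SemidirectProduct.inl : G →* G ⋊[φ] S).rangeRestrict
    (fun a b hab => SemidirectProduct.inl_injective (congrArg Subtype.val hab))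

end Cfsg.Agent.H575.Turull
end

-- part: S4363
section
set_option autoImplicit false
open Cfsg

namespace Cfsg.Agent.S4363

/-- Let G be a finite solvable group and σ an automorphism of G of prime order r not dividing the order of G, with fixed-point subgroup C. Then the Fitting height of G exceeds that of C by at most 2: if C has a chain of normal subgroups 1 = C₀ ≤ ⋯ ≤ Cₙ = C with nilpotent factors, then G has such a chain of length n + 2. -/
theorem result {G : Type*} [Group G] [Finite G]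
    (hG : Group.IsSolvable G) (σ : MulAut G) (r : ℕ) (hr : r.Prime) (hσ : orderOf σ = r) (hcop : ¬ r ∣ Nat.card G)
    (C : Subgroup G) (hC : ∀ g : G, g ∈ C ↔ σ g = g) (n : ℕ) (hn : (∃ F : Fin (n + 1) → Subgroup ↥C, F 0 = ⊥ ∧ F (Fin.last n) = ⊤ ∧ Monotone F ∧ (∀ i, (F i).Normal) ∧ ∀ i : Fin n, ∃ k : ℕ, (F i.succ).lowerCentralSeries k ≤ F i.castSucc)) :
    (∃ F : Fin ((n + 2) + 1) → Subgroup G, F 0 = ⊥ ∧ F (Fin.last (n + 2)) = ⊤ ∧ Monotone F ∧ (∀ i, (F i).Normal) ∧ ∀ i : Fin (n + 2), ∃ k : ℕ, (F i.succ).lowerCentralSeries k ≤ F i.castSucc) :=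
  H575.Turull.turull_aut hG σ r hr hσ hcop C hC n hn

end Cfsg.Agent.S4363
end
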