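import Mathlib
import Cfsg.Prelude.Def_Local
import Cfsg.Prelude.Def_Transfer
import Cfsg.Agent.Lib.Cores
import Cfsg.Agent.Lib.CoprimeHyperplane
import Cfsg.Agent.Lib.CoprimeCommutator
import Cfsg.Agent.Lib.CoprimeAbelian
import Cfsg.Agent.PLocal.HallHigmanPrime
import Cfsg.Prelude.Def_PLocal
import Cfsg.Agent.Lib.PSolvable
import Cfsg.Agent.Lib.FrattiniPGroup
import Cfsg.Agent.PLocal.SectionFrattini
import Cfsg.Agent.OddOrderLocal.Thm36Aux
import Cfsg.Agent.S0625
import Cfsg.Statements.S4394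
import Cfsg.Agent.H583.SchmidtAct
set_option linter.all false

-- part: H583/PLenCore
section
set_option autoImplicit false

namespace Cfsg.Agent.H583.PLenCore

open Subgroup Cfsg
open scoped commutatorElement

section

variable {G : Type*} [Group G]

theorem le_normalizer_of {H K : Subgroup G} (h : ∀ x ∈ H, ∀ y ∈ K, x * y * x⁻¹ ∈ K) :
    H ≤ normalizer (K : Set G) := by
  intro x hx
  rw [mem_normalizer_iff]
  intro y
  constructor
  · intro hy
    exact h x hx y hy
  · intro hy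
    have := h x⁻¹ (inv_mem hx) _ hy
    have h2 : x⁻¹ * (x * y * x⁻¹) * x⁻¹⁻¹ = y := by group
    rwa [h2] at this

theorem conj_mem_commutator {A B : Subgroup G} {x : G} (hA : ∀ y ∈ A, x * y * x⁻¹ ∈ A)
    (hB : ∀ y ∈ B, x * y * x⁻¹ ∈ B) : ∀ y ∈ ⁅A, B⁆, x * y * x⁻¹ ∈ ⁅A, B⁆ := by
  have h : ⁅A, B⁆ ≤ ⁅A, B⁆.comap (MulAut.conj x).toMonoidHom := by
    rw [commutator_le]
    intro a ha b hb
    rw [mem_comap, map_commutatorElement]
    exact commutator_mem_commutator (hA a ha) (hB b hb)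
  intro y hy
  exact h hy

theorem le_centralizer_of {Y P L N : Subgroup G} (hLY : ∀ l ∈ L, ∀ y ∈ Y, l * y * l⁻¹ ∈ Y)
    (hPY : P ≤ centralizer (Y : Set G)) (hNY : N ≤ centralizer (Y : Set G)) (hL : L ≤ ⁅L, P⁆ ⊔ N) :
    L ≤ centralizer (Y : Set G) := by
  refine hL.trans (sup_le ?_ hNY)
  rw [commutator_le]
  intro l hl x hx
  have hxC := hPY hx
  have h1 : l * x * l⁻¹ ∈ centralizer (Y : Set G) := by
    rw [mem_centralizer_iff]
    intro y hy
    have h2 : l⁻¹ * y * l ∈ Y := by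
      have := hLY l⁻¹ (inv_mem hl) y hy
      rwa [inv_inv] at this
    have h3 := (mem_centralizer_iff.1 hxC) _ h2
    calc y * (l * x * l⁻¹) = l * ((l⁻¹ * y * l) * x) * l⁻¹ := by group
      _ = l * (x * (l⁻¹ * y * l)) * l⁻¹ := by rw [h3]
      _ = l * x * l⁻¹ * y := by group
  rw [commutatorElement_def]
  exact mul_mem h1 (inv_mem hxC)

end

theorem core {G : Type*} [Group G] [Finite G] {p : ℕ} [hpf : Fact p.Prime] (N : Subgroup G) [hNn : N.Normal]
    (hNab : ∀ x ∈ N, ∀ y ∈ N, x * y = y * x) (hC : centralizer (N : Set G) ≤ N)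
    (P : Subgroup G) (hPp : IsPGroup p P) (hNP : N ≤ P) (Z : Subgroup G) (hZN : Z ≤ N)
    (hZP : ∀ z ∈ Z, ∀ x ∈ P, z * x = x * z)
    (hcomm : ∀ x ∈ P, ∀ y ∈ P, ⁅x, y⁆ ∈ Z) (hpow : ∀ x ∈ P, x ^ p ∈ N)
    (hfull : ∀ x ∈ N, x ∉ Z → ∀ z ∈ Z, ∃ y ∈ P, ⁅x, y⁆ = z) (hZ1 : Z ≠ ⊥)
    (hsolv : IsPSolvable p G) (hcore : pCore p (G ⧸ N) = ⊥) (hPN : ¬ P ≤ N) :
    Nat.card Z = p ∧ N.relIndex P = p ∧ Z.relIndex N ∣ p := by
  have hp := hpf.out
  let π : G →* G ⧸ N := QuotientGroup.mk' N
  have hπ : Function.Surjective π := QuotientGroup.mk'_surjective N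
  have hπ1 : ∀ x, π x = 1 ↔ x ∈ N := fun x => QuotientGroup.eq_one_iff x
  have hker : π.ker = N := QuotientGroup.ker_mk' N
  have hπeq : ∀ x y, π x = π y → y⁻¹ * x ∈ N := by
    intro x y hxy
    rw [← hπ1, map_mul, map_inv, hxy, inv_mul_cancel]
  have hNp : IsPGroup p N := hPp.to_le hNP
  -- the elementary abelian group `A = P / N`
  set A : Subgroup (G ⧸ N) := P.map π with hAdef
  have hAe : IsElementaryAbelian p A := by
    refine ⟨⟨⟨?_⟩⟩, ?_⟩
    · rintro ⟨_, x, hx, rfl⟩ ⟨_, y, hy, rfl⟩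
      apply Subtype.ext
      change π x * π y = π y * π x
      rw [← commutatorElement_eq_one_iff_mul_comm, ← map_commutatorElement, hπ1]
      exact hZN (hcomm x hx y hy)
    · rintro _ ⟨x, hx, rfl⟩
      rw [← map_pow, hπ1]
      exact hpow x hx
  have hAc : ∀ a ∈ A, ∀ b ∈ A, a * b = b * a := by
    intro a ha b hb
    exact congrArg Subtype.val (hAe.1.is_comm.comm (⟨a, ha⟩ : A) ⟨b, hb⟩)
  have hAp : IsPGroup p A := hPp.map π
  have hA1 : A ≠ ⊥ := by
    intro h
    apply hPN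
    intro x hx
    rw [← hπ1]
    have : π x ∈ A := ⟨x, hx, rfl⟩
    rw [h, mem_bot] at this
    exact this
  set Q₀ : Subgroup (G ⧸ N) := pPrimeCore p (G ⧸ N) with hQ₀def
  have hQ₀n : Q₀.Normal := Lib.Cores.pPrimeCore_normal p
  have hQc : (Nat.card Q₀).Coprime p := Lib.Cores.pPrimeCore_coprime p
  have hQ : ¬ p ∣ Nat.card Q₀ := by
    rw [Nat.coprime_comm, Nat.Prime.coprime_iff_not_dvd hp] at hQc
    exact hQc
  have hAQ : A ≤ normalizer (Q₀ : Set (G ⧸ N)) := le_normalizer_of fun x _ y hy => hQ₀n.conj_mem y hy x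
  have hAQ1 : A ⊓ Q₀ = ⊥ := by
    apply Disjoint.eq_bot
    apply Subgroup.disjoint_of_coprime_natCard
    obtain ⟨n, hn⟩ := IsPGroup.iff_card.1 hAp
    rw [hn]
    exact Nat.Coprime.pow_left n hQc.symm
  have hf : A ⊓ centralizer (Q₀ : Set (G ⧸ N)) = ⊥ := by
    rw [eq_bot_iff]
    refine (inf_le_inf_left A ?_).trans hAQ1.le
    exact PLocal.HallHigmanPrime.centralizer_pPrimeCore_le_of_pSolvable p
      (Lib.PSolvable.IsPSolvable_of_surjective p hsolv π hπ) hcore
  obtain ⟨a, haA, ha1⟩ := (Subgroup.ne_bot_iff_exists_ne_one.1 hA1 : ∃ a : A, a ≠ 1) |>.elim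
    (fun a ha => (⟨a.1, a.2, fun h => ha (Subtype.ext h)⟩ : ∃ a, a ∈ A ∧ a ≠ 1))
  obtain ⟨B, hBA, hBi, -, hne⟩ := Lib.CoprimeHyperplane.exists_hyperplane_not_mem hAe hQ hAQ hf haA ha1
  set C₁ : Subgroup (G ⧸ N) := Q₀ ⊓ centralizer (B : Set (G ⧸ N)) with hC₁
  have hAC₁ : A ≤ normalizer (C₁ : Set (G ⧸ N)) := by
    refine le_normalizer_of fun x hx y hy => ?_
    refine mem_inf.2 ⟨hQ₀n.conj_mem y hy.1 x, mem_centralizer_iff.2 ?_⟩
    intro b hb
    have h1 := (mem_centralizer_iff.1 hy.2) b hb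
    have h2 := hAc x hx b (hBA hb)
    have h3 := hAc x⁻¹ (inv_mem hx) b (hBA hb)
    calc b * (x * y * x⁻¹) = (b * x) * y * x⁻¹ := by group
      _ = x * (b * y) * x⁻¹ := by rw [← h2]; group
      _ = x * y * (b * x⁻¹) := by rw [h1]; group
      _ = x * y * x⁻¹ * b := by rw [← h3]; group
  set D : Subgroup (G ⧸ N) := ⁅C₁, A⁆ with hD
  have hDC : D ≤ C₁ := Lib.CoprimeCommutator.commutator_le_left hAC₁
  have hC₁c : (Nat.card A).Coprime (Nat.card C₁) := by
    obtain ⟨n, hn⟩ := IsPGroup.iff_card.1 hAp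
    rw [hn]
    refine Nat.Coprime.pow_left n ?_
    exact (Nat.Coprime.coprime_dvd_left (card_dvd_of_le inf_le_left) hQc).symm
  have hDA : ⁅D, A⁆ = D := Lib.CoprimeCommutator.commutator_commutator_eq A C₁ hAC₁ hC₁c
  have hDcard : (Nat.card D).Coprime p :=
    Nat.Coprime.coprime_dvd_left (card_dvd_of_le (hDC.trans inf_le_left)) hQc
  have hDconj : ∀ x ∈ A, ∀ y ∈ D, x * y * x⁻¹ ∈ D := by
    intro x hx
    refine conj_mem_commutator ?_ ?_
    · intro y hy
      exact (mem_normalizer_iff.1 (hAC₁ hx) y).1 hy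
    · intro y hy
      rw [hAc x hx y hy, mul_inv_cancel_right]; exact hy
  set L : Subgroup G := D.comap π with hL
  set B₀ : Subgroup G := B.comap π with hB₀
  have hNL : N ≤ L := by
    intro x hx
    rw [hL, mem_comap, (hπ1 x).2 hx]; exact one_mem _
  have hNB : N ≤ B₀ := by
    intro x hx
    rw [hB₀, mem_comap, (hπ1 x).2 hx]; exact one_mem _
  have hB₀P : B₀ ≤ P := by
    intro x hx
    obtain ⟨y, hy, hyx⟩ := hBA hx
    have h1 := hπeq x y hyx.symm
    have h2 : x = y * (y⁻¹ * x) := by group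
    rw [h2]
    exact mul_mem hy (hNP h1)
  have hPL : ∀ x ∈ P, ∀ l ∈ L, x * l * x⁻¹ ∈ L := by
    intro x hx l hl
    rw [hL, mem_comap, map_mul, map_mul, map_inv]
    exact hDconj _ ⟨x, hx, rfl⟩ _ hl
  have hLPN : L ≤ ⁅L, P⁆ ⊔ N := by
    have h1 : (⁅L, P⁆).map π = D := by
      rw [map_commutator]
      have h2 : L.map π = D := map_comap_eq_self_of_surjective hπ D
      rw [h2]
      exact hDA
    intro x hx
    have h2 : π x ∈ (⁅L, P⁆).map π := by rw [h1]; exact hx
    obtain ⟨y, hy, hyx⟩ := h2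
    have h3 := hπeq x y hyx.symm
    have h4 : x = y * (y⁻¹ * x) := by group
    rw [h4]
    exact mul_mem (mem_sup_left hy) (mem_sup_right h3)
  -- a complement `D₁` of `N` in `L`
  have hrel : N.relIndex L = Nat.card D := by
    have h1 := relIndex_ker L π
    have h2 : L.map π = D := map_comap_eq_self_of_surjective hπ D
    rw [h2, hker] at h1
    exact h1
  obtain ⟨n, hn⟩ := IsPGroup.iff_card.1 hNp
  obtain ⟨D₁, hD₁L, hD₁N, hLD₁, hD₁card⟩ : ∃ D₁ : Subgroup G, D₁ ≤ L ∧ D₁ ⊓ N = ⊥ ∧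
      (∀ l ∈ L, ∃ m ∈ N, ∃ d ∈ D₁, l = m * d) ∧ Nat.card D₁ = Nat.card D := by
    have hcop : Nat.Coprime (Nat.card (N.subgroupOf L)) (N.subgroupOf L).index := by
      have h1 : Nat.card (N.subgroupOf L) = Nat.card N := Nat.card_congr (subgroupOfEquivOfLe hNL).toEquiv
      have h2 : (N.subgroupOf L).index = Nat.card D := hrel
      rw [h1, h2, hn]
      exact Nat.Coprime.pow_left n hDcard.symm
    obtain ⟨D₀, hD₀⟩ := exists_right_complement'_of_coprime hcop
    refine ⟨D₀.map L.subtype, map_subtype_le _, ?_, ?_, ?_⟩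
    · rw [eq_bot_iff]
      rintro _ ⟨⟨d, hd, rfl⟩, hdN⟩
      have h1 : d ∈ N.subgroupOf L ⊓ D₀ := ⟨hdN, hd⟩
      rw [hD₀.disjoint.eq_bot, mem_bot] at h1
      rw [h1, map_one]; exact one_mem _
    · intro l hl
      obtain ⟨⟨⟨m, hm⟩, ⟨d, hd⟩⟩, hmd⟩ := hD₀.2 ⟨l, hl⟩
      refine ⟨m, hm, d, ⟨d, hd, rfl⟩, ?_⟩
      exact (congrArg Subtype.val hmd).symm
    · rw [Nat.card_congr (D₀.equivMapOfInjective L.subtype L.subtype_injective).toEquiv.symm]
      have h1 := hD₀.card_mul_card
      have h2 := (N.subgroupOf L).card_mul_index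
      rw [← h1] at h2
      have h3 : 0 < Nat.card (N.subgroupOf L) := Nat.card_pos
      rw [← Nat.eq_of_mul_eq_mul_left h3 h2]
      exact hrel
  have hD₁cop : (Nat.card D₁).Coprime (Nat.card N) := by
    rw [hD₁card, hn]
    exact Nat.Coprime.pow_right n hDcard
  have hD₁n : D₁ ≤ normalizer (N : Set G) := le_normalizer_of fun x _ y hy => hNn.conj_mem y hy x
  set U : Subgroup G := N ⊓ centralizer (L : Set G) with hU
  set V : Subgroup G := ⁅N, L⁆ with hV
  have hVN : V ≤ N := commutator_le_left N L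
  have hVD₁ : V ≤ ⁅N, D₁⁆ := by
    rw [hV, commutator_le]
    intro m hm l hl
    obtain ⟨m', hm', d, hd, rfl⟩ := hLD₁ l hl
    have h1 : ⁅m, m' * d⁆ = ⁅m, d⁆ := by
      have hc : ⁅m, d⁆ ∈ N := by
        rw [commutatorElement_def]
        have : m * d * m⁻¹ * d⁻¹ = m * (d * m⁻¹ * d⁻¹) := by group
        rw [this]
        exact mul_mem hm (hNn.conj_mem _ (inv_mem hm) d)
      have h2 := hNab m hm m' hm'
      have h3 := hNab m' hm' _ hc
      calc ⁅m, m' * d⁆ = (m * m') * d * m⁻¹ * d⁻¹ * m'⁻¹ := by rw [commutatorElement_def]; group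
        _ = (m' * ⁅m, d⁆) * m'⁻¹ := by rw [h2, commutatorElement_def]; group
        _ = ⁅m, d⁆ := by rw [h3]; group
    rw [h1]
    exact commutator_mem_commutator hm hd
  have hUV : V ⊓ U = ⊥ := by
    have h1 := Lib.CoprimeAbelian.inf_commutator_eq_bot D₁ N hNab hD₁n hD₁cop
    rw [eq_bot_iff, ← h1]
    rintro x ⟨hxV, hxN, hxC⟩
    refine ⟨⟨hxN, ?_⟩, hVD₁ hxV⟩
    exact centralizer_le hD₁L hxC
  have hNC : N ≤ centralizer (N : Set G) := by
    intro x hx
    rw [mem_centralizer_iff]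
    intro y hy
    exact hNab y hy x hx
  have hNcent : ∀ Y : Subgroup G, Y ≤ N → N ≤ centralizer (Y : Set G) := fun Y hY => hNC.trans (centralizer_le hY)
  -- `Y = [N, B₀]`
  set Y : Subgroup G := ⁅N, B₀⁆ with hY
  have hYN : Y ≤ N := commutator_le_left N B₀
  have hYZ : Y ≤ Z := by
    rw [hY, commutator_le]
    intro m hm b hb
    exact hcomm m (hNP hm) b (hB₀P hb)
  have hLB₀ : ∀ l ∈ L, ∀ b ∈ B₀, l * b * l⁻¹ ∈ B₀ := by
    intro l hl b hb
    rw [hB₀, mem_comap, map_mul, map_mul, map_inv]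
    have h1 : π l ∈ centralizer (B : Set (G ⧸ N)) := (hDC hl).2
    rw [← (mem_centralizer_iff.1 h1) _ hb, mul_inv_cancel_right]
    exact hb
  have hLY : ∀ l ∈ L, ∀ y ∈ Y, l * y * l⁻¹ ∈ Y := fun l hl =>
    conj_mem_commutator (fun y hy => hNn.conj_mem y hy l) (hLB₀ l hl)
  have hPY : P ≤ centralizer (Y : Set G) := by
    intro x hx
    rw [mem_centralizer_iff]
    intro y hy
    exact hZP y (hYZ hy) x hx
  have hLcY : L ≤ centralizer (Y : Set G) := le_centralizer_of hLY hPY (hNcent Y hYN) hLPN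
  have hYU : Y ≤ U := le_inf hYN (Subgroup.le_centralizer_iff.1 hLcY)
  have hLV : ∀ l ∈ L, ∀ y ∈ V, l * y * l⁻¹ ∈ V := fun l hl =>
    conj_mem_commutator (fun y hy => hNn.conj_mem y hy l) (fun y hy => mul_mem (mul_mem hl hy) (inv_mem hl))
  have hPV : ∀ l ∈ P, ∀ y ∈ V, l * y * l⁻¹ ∈ V := fun l hl =>
    conj_mem_commutator (fun y hy => hNn.conj_mem y hy l) (hPL l hl)
  -- `P` does not centralize `V`
  obtain ⟨v, hvV, x₀, hx₀, hvx₀⟩ : ∃ v ∈ V, ∃ x ∈ P, v * x ≠ x * v := by
    by_contra hcon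
    push Not at hcon
    have h1 : L ≤ centralizer (V : Set G) := by
      refine le_centralizer_of hLV ?_ (hNcent V hVN) hLPN
      intro x hx
      rw [mem_centralizer_iff]
      intro y hy
      exact hcon y hy x hx
    have h2 : V ≤ U := le_inf hVN (Subgroup.le_centralizer_iff.1 h1)
    have h3 : V = ⊥ := by
      rw [eq_bot_iff, ← hUV]; exact le_inf le_rfl h2
    have h4 : D₁ ≤ centralizer (N : Set G) := by
      intro d hd
      rw [mem_centralizer_iff]
      intro m hm
      rw [← commutatorElement_eq_one_iff_mul_comm, ← mem_bot, ← h3]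
      exact commutator_mem_commutator hm (hD₁L hd)
    have h5 : D₁ = ⊥ := by
      rw [eq_bot_iff, ← hD₁N]
      exact le_inf le_rfl (h4.trans hC)
    apply hne
    have h6 : Nat.card D = 1 := by rw [← hD₁card, h5]; simp
    exact Subgroup.card_eq_one.1 h6
  have hvN : v ∈ N := hVN hvV
  have hvZ : v ∉ Z := fun h => hvx₀ (hZP v h x₀ hx₀)
  -- `B₀` centralizes `V`
  have hB₀V : ∀ w ∈ V, ∀ b ∈ B₀, ⁅w, b⁆ = 1 := by
    intro w hw b hb
    have h1 : ⁅w, b⁆ ∈ V := by
      rw [commutatorElement_def]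
      have : w * b * w⁻¹ * b⁻¹ = w * (b * w⁻¹ * b⁻¹) := by group
      rw [this]
      exact mul_mem hw (hPV b (hB₀P hb) _ (inv_mem hw))
    have h2 : ⁅w, b⁆ ∈ U := hYU (commutator_mem_commutator (hVN hw) hb)
    have h3 : ⁅w, b⁆ ∈ V ⊓ U := ⟨h1, h2⟩
    rw [hUV, mem_bot] at h3
    exact h3
  -- `Z ≤ V`
  have hZV : Z ≤ V := by
    intro z hz
    obtain ⟨y, hy, rfl⟩ := hfull v hvN hvZ z hz
    rw [commutatorElement_def]
    have : v * y * v⁻¹ * y⁻¹ = v * (y * v⁻¹ * y⁻¹) := by group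
    rw [this]
    exact mul_mem hvV (hPV y hy _ (inv_mem hvV))
  -- the order of `Z`
  have hcardZ : Nat.card Z = p := by
    let φ : P →* G :=
      { toFun := fun y => ⁅v, (y : G)⁆
        map_one' := by simp
        map_mul' := by
          intro y y'
          have h1 := hZP _ (hcomm v (hNP hvN) y' y'.2) y y.2
          change ⁅v, (y : G) * y'⁆ = ⁅v, (y : G)⁆ * ⁅v, (y' : G)⁆
          calc ⁅v, (y : G) * y'⁆ = ⁅v, (y : G)⁆ * (y * ⁅v, (y' : G)⁆) * (y : G)⁻¹ := by
                simp only [commutatorElement_def]; group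
            _ = ⁅v, (y : G)⁆ * ⁅v, (y' : G)⁆ := by rw [← h1]; group }
    have hrange : φ.range = Z := by
      apply le_antisymm
      · rintro _ ⟨y, rfl⟩
        exact hcomm v (hNP hvN) y y.2
      · intro z hz
        obtain ⟨y, hy, hyz⟩ := hfull v hvN hvZ z hz
        exact ⟨⟨y, hy⟩, hyz⟩
    have hkerle : B₀.subgroupOf P ≤ φ.ker := by
      intro b hb
      exact hB₀V v hvV b hb
    have h1 : φ.ker.index ∣ (B₀.subgroupOf P).index := index_dvd_of_le hkerle
    have h2 : (B₀.subgroupOf P).index = p := by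
      change B₀.relIndex P = p
      rw [hB₀, relIndex_comap]
      exact hBi
    rw [h2, index_ker, hrange] at h1
    rcases (Nat.dvd_prime hp).1 h1 with h3 | h3
    · exact absurd (Subgroup.card_eq_one.1 h3) hZ1
    · exact h3
  -- `B = 1`
  have hYbot : Y = ⊥ := by
    rw [eq_bot_iff, ← hUV]
    exact le_inf (hYZ.trans hZV) hYU
  have hB₀N : B₀ ≤ N := by
    refine le_trans ?_ hC
    intro b hb
    rw [mem_centralizer_iff]
    intro m hm
    rw [← commutatorElement_eq_one_iff_mul_comm, ← mem_bot, ← hYbot]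
    exact commutator_mem_commutator hm hb
  have hBbot : B = ⊥ := by
    rw [eq_bot_iff]
    intro b hb
    obtain ⟨x, rfl⟩ := hπ b
    have : x ∈ N := hB₀N hb
    rw [mem_bot]
    exact (hπ1 x).2 this
  have hAcard : Nat.card A = p := by
    rw [hBbot, relIndex_bot_left] at hBi
    exact hBi
  refine ⟨hcardZ, ?_, ?_⟩
  · have h1 := relIndex_ker P π
    rw [hker] at h1
    exact h1.trans hAcard
  -- `|N : Z| ≤ p`
  obtain ⟨a₀, ha₀P, rfl⟩ := haA
  have hgenA : ∀ x ∈ P, ∃ k : ℤ, ∃ m ∈ N, x = a₀ ^ k * m := by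
    intro x hx
    have h1 : zpowers (π a₀) = A := by
      apply eq_of_le_of_card_ge
      · rw [zpowers_le]; exact ⟨a₀, ha₀P, rfl⟩
      · rw [hAcard, Nat.card_zpowers]
        have h2 : orderOf (π a₀) ∣ p := orderOf_dvd_of_pow_eq_one (hAe.2 _ ⟨a₀, ha₀P, rfl⟩)
        rcases (Nat.dvd_prime hp).1 h2 with h3 | h3
        · exact absurd (orderOf_eq_one_iff.1 h3) ha1
        · exact h3.ge
    have h2 : π x ∈ zpowers (π a₀) := by rw [h1]; exact ⟨x, hx, rfl⟩
    obtain ⟨k, hk⟩ := h2
    have h3 : π x = π (a₀ ^ k) := by rw [map_zpow]; exact hk.symm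
    refine ⟨k, _, hπeq x (a₀ ^ k) h3, ?_⟩
    group
  let ψ : N →* G :=
    { toFun := fun w => ⁅(w : G), a₀⁆
      map_one' := by simp
      map_mul' := by
        intro w w'
        have h0 := hZN (hcomm w' (hNP w'.2) a₀ ha₀P)
        have h1 := hNab w w.2 _ h0
        have h2 := hNab _ h0 _ (hZN (hcomm w (hNP w.2) a₀ ha₀P))
        change ⁅(w : G) * w', a₀⁆ = ⁅(w : G), a₀⁆ * ⁅(w' : G), a₀⁆
        calc ⁅(w : G) * w', a₀⁆ = (w * ⁅(w' : G), a₀⁆) * (w : G)⁻¹ * ⁅(w : G), a₀⁆ := by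
              simp only [commutatorElement_def]; group
          _ = ⁅(w' : G), a₀⁆ * ⁅(w : G), a₀⁆ := by rw [h1]; group
          _ = ⁅(w : G), a₀⁆ * ⁅(w' : G), a₀⁆ := h2 }
  have hψr : ψ.range ≤ Z := by
    rintro _ ⟨w, rfl⟩
    exact hcomm w (hNP w.2) a₀ ha₀P
  have hψk : ψ.ker ≤ Z.subgroupOf N := by
    intro w hw
    rw [mem_subgroupOf]
    by_contra hwZ
    obtain ⟨z, hzZ, hz1⟩ := (Subgroup.ne_bot_iff_exists_ne_one.1 hZ1 : ∃ a : Z, a ≠ 1) |>.elim
      (fun a ha => (⟨a.1, a.2, fun h => ha (Subtype.ext h)⟩ : ∃ a, a ∈ Z ∧ a ≠ 1))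
    obtain ⟨y, hy, hyz⟩ := hfull w w.2 hwZ z hzZ
    apply hz1
    rw [← hyz, commutatorElement_eq_one_iff_mul_comm]
    obtain ⟨k, m, hm, rfl⟩ := hgenA y hy
    have h1 : Commute (w : G) a₀ := commutatorElement_eq_one_iff_mul_comm.1 hw
    exact (h1.zpow_right k).mul_right (hNab w w.2 m hm)
  have h1 : Z.relIndex N ∣ ψ.ker.index := index_dvd_of_le hψk
  rw [index_ker] at h1
  exact h1.trans ((card_dvd_of_le hψr).trans (by rw [hcardZ]))

end Cfsg.Agent.H583.PLenCore
end

-- part: H583/PLenGood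
section
set_option autoImplicit false

namespace Cfsg.Agent.H583.PLenGood

open Subgroup Cfsg
open scoped commutatorElement

/-- The condition on the Sylow `p`-subgroup. -/
def Good (p : ℕ) (P : Type*) [Group P] : Prop :=
  (∀ x y : P, x * y = y * x) ∨
  ((∀ x y : P, ⁅x, y⁆ ∈ center P) ∧ (∀ x : P, x ^ p ∈ center P) ∧
   (∀ x : P, x ∉ center P → ∀ z ∈ center P, ∃ y : P, ⁅x, y⁆ = z) ∧
   (p = 3 → (center P).index ≠ 9) ∧
   (p = 2 → (center P).index = 4 → ∀ x : P, x ∉ center P → x ^ 2 ≠ 1))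

theorem mem_center_map {P P' : Type*} [Group P] [Group P'] (e : P ≃* P') (x : P) :
    e x ∈ center P' ↔ x ∈ center P := by
  rw [mem_center_iff, mem_center_iff]
  constructor
  · intro h y
    apply e.injective
    rw [map_mul, map_mul]
    exact h (e y)
  · intro h y
    obtain ⟨y, rfl⟩ := e.surjective y
    rw [← map_mul, ← map_mul, h y]

theorem index_center_congr {P P' : Type*} [Group P] [Group P'] (e : P ≃* P') :
    (center P').index = (center P).index := by
  have h : (center P').comap e.toMonoidHom = center P := by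
    ext x
    exact mem_center_map e x
  rw [← h]
  exact (index_comap_of_surjective (center P') e.surjective).symm

theorem good_congr {p : ℕ} {P P' : Type*} [Group P] [Group P'] (e : P ≃* P') (h : Good p P) : Good p P' := by
  rcases h with h | ⟨h1, h2, h3, h4, h5⟩
  · left
    intro x y
    obtain ⟨x, rfl⟩ := e.surjective x
    obtain ⟨y, rfl⟩ := e.surjective y
    rw [← map_mul, ← map_mul, h]
  · right
    refine ⟨?_, ?_, ?_, ?_, ?_⟩
    · intro x y
      obtain ⟨x, rfl⟩ := e.surjective x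
      obtain ⟨y, rfl⟩ := e.surjective y
      rw [← map_commutatorElement, mem_center_map]
      exact h1 x y
    · intro x
      obtain ⟨x, rfl⟩ := e.surjective x
      rw [← map_pow, mem_center_map]
      exact h2 x
    · intro x hx z hz
      obtain ⟨x, rfl⟩ := e.surjective x
      obtain ⟨z, rfl⟩ := e.surjective z
      rw [mem_center_map] at hx hz
      obtain ⟨y, hy⟩ := h3 x hx z hz
      exact ⟨e y, by rw [← map_commutatorElement, hy]⟩
    · intro hp
      rw [index_center_congr e]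
      exact h4 hp
    · intro hp hi x hx
      rw [index_center_congr e] at hi
      obtain ⟨x, rfl⟩ := e.surjective x
      rw [mem_center_map] at hx
      rw [← map_pow]
      intro h
      apply h5 hp hi x hx
      apply e.injective
      rw [h, map_one]

/-- If `O_{p'}(G) = 1` and the Sylow `p`-subgroup is good, it is contained in `O_p(G)`. -/
theorem le_pCore {G : Type*} [Group G] [Finite G] {p : ℕ} [hpf : Fact p.Prime] (hG : IsPSolvable p G)
    (h0 : pPrimeCore p G = ⊥) (Q : Sylow p G) (hQ : Good p Q) : (Q : Subgroup G) ≤ pCore p G := by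
  have hp := hpf.out
  set N : Subgroup G := pCore p G with hN
  have hNn : N.Normal := Lib.Cores.pCore_normal p
  have hNp : IsPGroup p N := Lib.Cores.pCore_isPGroup p
  have hNQ : N ≤ (Q : Subgroup G) := Lib.Cores.pCore_le_sylow Q
  have hC : centralizer (N : Set G) ≤ N := Lib.PSolvable.centralizer_pCore_le_of_pSolvable p hG h0
  rcases hQ with hab | ⟨h1, h2, h3, h4, h5⟩
  · refine le_trans ?_ hC
    intro x hx
    rw [mem_centralizer_iff]
    intro y hy
    exact congrArg Subtype.val (hab ⟨y, hNQ hy⟩ ⟨x, hx⟩)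
  by_contra hQN
  set Z : Subgroup G := (center (Q : Subgroup G)).map (Q : Subgroup G).subtype with hZ
  have hZmem : ∀ x (hx : x ∈ (Q : Subgroup G)), x ∈ Z ↔ (⟨x, hx⟩ : (Q : Subgroup G)) ∈ center (Q : Subgroup G) := by
    intro x hx
    constructor
    · rintro ⟨y, hy, hyx⟩
      have : y = ⟨x, hx⟩ := Subtype.ext hyx
      rw [← this]; exact hy
    · intro h
      exact ⟨_, h, rfl⟩
  have hZQ : Z ≤ (Q : Subgroup G) := map_subtype_le _
  have hZc : ∀ z ∈ Z, ∀ x ∈ (Q : Subgroup G), z * x = x * z := by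
    intro z hz x hx
    have h := (hZmem z (hZQ hz)).1 hz
    exact (congrArg Subtype.val (mem_center_iff.1 h ⟨x, hx⟩)).symm
  have hZN : Z ≤ N := by
    refine le_trans ?_ hC
    intro z hz
    rw [mem_centralizer_iff]
    intro y hy
    exact (hZc z hz y (hNQ hy)).symm
  have h1' : ∀ x ∈ (Q : Subgroup G), ∀ y ∈ (Q : Subgroup G), ⁅x, y⁆ ∈ Z := by
    intro x hx y hy
    exact ⟨_, h1 ⟨x, hx⟩ ⟨y, hy⟩, rfl⟩
  have h2' : ∀ x ∈ (Q : Subgroup G), x ^ p ∈ Z := by
    intro x hx
    exact ⟨_, h2 ⟨x, hx⟩, rfl⟩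
  have h3' : ∀ x ∈ (Q : Subgroup G), x ∉ Z → ∀ z ∈ Z, ∃ y ∈ (Q : Subgroup G), ⁅x, y⁆ = z := by
    intro x hx hxZ z hz
    obtain ⟨y, hy⟩ := h3 ⟨x, hx⟩ (fun h => hxZ ((hZmem x hx).2 h)) ⟨z, hZQ hz⟩ ((hZmem z (hZQ hz)).1 hz)
    exact ⟨y, y.2, congrArg Subtype.val hy⟩
  set F : Subgroup G := (frattini N).map N.subtype with hF
  have hFn : F.Normal := by rw [hF]; infer_instance
  have hFN : F ≤ N := map_subtype_le _
  have hkerp : IsPGroup p (sectionKernel N F) :=
    PLocal.SectionFrattini.isPGroup_sectionKernel_frattini N hNp hC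
  have hkern : (sectionKernel N F).Normal := by
    have : (N.map (QuotientGroup.mk' F)).Normal := hNn.map _ (QuotientGroup.mk'_surjective F)
    have h6 : (centralizer ((N.map (QuotientGroup.mk' F) : Subgroup (G ⧸ F)) : Set (G ⧸ F))).Normal :=
      inferInstance
    exact h6.comap _
  have hkerN : sectionKernel N F ≤ N := Lib.Cores.le_pCore hkern hkerp
  have hZF : ¬ Z ≤ F := by
    intro h
    apply hQN
    refine le_trans ?_ hkerN
    intro x hx
    rw [PLocal.SectionFrattini.mem_sectionKernel]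
    intro k hk
    exact h (h1' k (hNQ hk) x hx)
  have hFZ : F ≤ Z := by
    have hZn : (Z.subgroupOf N).Normal := by
      constructor
      intro z hz g
      rw [mem_subgroupOf] at hz ⊢
      have := hZc z hz g (hNQ g.2)
      have h6 : ((g * z * g⁻¹ : N) : G) = z := by
        change (g : G) * z * (g : G)⁻¹ = z
        rw [← this, mul_inv_cancel_right]
      rw [h6]; exact hz
    have h6 : frattini N ≤ Z.subgroupOf N := by
      apply Lib.FrattiniPGroup.frattini_le (p := p)
      · intro x y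
        exact h1' x (hNQ x.2) y (hNQ y.2)
      · intro x
        exact h2' x (hNQ x.2)
    rw [hF, map_le_iff_le_comap]
    exact h6
  -- pass to `G / F`
  let π : G →* G ⧸ F := QuotientGroup.mk' F
  have hπ : Function.Surjective π := QuotientGroup.mk'_surjective F
  have hπ1 : ∀ x, π x = 1 ↔ x ∈ F := fun x => QuotientGroup.eq_one_iff x
  have hker : π.ker = F := QuotientGroup.ker_mk' F
  have hFp : IsPGroup p F := hNp.to_le hFN
  set N' : Subgroup (G ⧸ F) := pCore p (G ⧸ F) with hN'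
  have hN'n : N'.Normal := Lib.Cores.pCore_normal p
  have hcomapN : N'.comap π = N := Lib.Cores.comap_mk_pCore p hFp
  have hN'map : N' = N.map π := by
    rw [← hcomapN, map_comap_eq_self_of_surjective hπ]
  have hmemN' : ∀ x, π x ∈ N' ↔ x ∈ N := by
    intro x
    rw [← mem_comap, hcomapN]
  have hmemZ' : ∀ x, π x ∈ Z.map π ↔ x ∈ Z := by
    intro x
    have h6 : (Z.map π).comap π = Z := by
      rw [comap_map_eq, hker, sup_eq_left]; exact hFZ
    rw [← mem_comap, h6]
  have hcore := PLenCore.core (G := G ⧸ F) (p := p) N' ?_ ?_ ((Q : Subgroup G).map π)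
    (Q.isPGroup'.map π) ?_ (Z.map π) ?_ ?_ ?_ ?_ ?_ ?_ (Lib.PSolvable.IsPSolvable_of_surjective p hG π hπ)
    (Lib.Cores.pCore_quotient_pCore p) ?_
  rotate_left
  · -- N' abelian
    rintro x hx y hy
    rw [hN'map] at hx hy
    obtain ⟨x, hx, rfl⟩ := hx
    obtain ⟨y, hy, rfl⟩ := hy
    rw [← commutatorElement_eq_one_iff_mul_comm, ← map_commutatorElement, hπ1]
    exact ⟨⁅⟨x, hx⟩, ⟨y, hy⟩⁆, Lib.FrattiniPGroup.commutator_mem_frattini hNp _ _, rfl⟩
  · -- centralizer
    intro x hx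
    obtain ⟨x, rfl⟩ := hπ x
    rw [hmemN']
    apply hkerN
    change π x ∈ centralizer ((N.map π : Subgroup (G ⧸ F)) : Set (G ⧸ F))
    rw [← hN'map]
    exact hx
  · rw [hN'map]; exact map_mono hNQ
  · rw [hN'map]; exact map_mono hZN
  · rintro _ ⟨z, hz, rfl⟩ _ ⟨x, hx, rfl⟩
    rw [← map_mul, ← map_mul, hZc z hz x hx]
  · rintro _ ⟨x, hx, rfl⟩ _ ⟨y, hy, rfl⟩
    rw [← map_commutatorElement]
    exact ⟨_, h1' x hx y hy, rfl⟩
  · rintro _ ⟨x, hx, rfl⟩
    rw [← map_pow, hmemN']
    exact hZN (h2' x hx)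
  · intro x hx hxZ z hz
    obtain ⟨x, rfl⟩ := hπ x
    rw [hmemN'] at hx
    rw [hmemZ'] at hxZ
    obtain ⟨z, hz, rfl⟩ := hz
    obtain ⟨y, hy, hyz⟩ := h3' x (hNQ hx) hxZ z hz
    exact ⟨π y, ⟨y, hy, rfl⟩, by rw [← map_commutatorElement, hyz]⟩
  · intro h
    apply hZF
    intro z hz
    rw [← hπ1, ← mem_bot, ← h]
    exact ⟨z, hz, rfl⟩
  · intro h
    apply hQN
    intro x hx
    rw [← hmemN']
    exact h ⟨x, hx, rfl⟩
  obtain ⟨hc1, hc2, hc3⟩ := hcore
  have hrel1 : N.relIndex Q = p := by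
    rw [← hcomapN, relIndex_comap]
    exact hc2
  have hrel2 : Z.relIndex N ∣ p := by
    have h6 : (Z.map π).comap π = Z := by
      rw [comap_map_eq, hker, sup_eq_left]; exact hFZ
    rw [← h6, relIndex_comap, ← hN'map]
    exact hc3
  have hidx : Z.relIndex Q = Z.relIndex N * p := by
    have h6 := (relIndex_mul_relIndex Z N Q hZN hNQ).symm
    rwa [hrel1] at h6
  have hZidx : Z.relIndex Q = (center (Q : Subgroup G)).index := by
    have : Z.subgroupOf Q = center (Q : Subgroup G) := by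
      ext x
      rw [mem_subgroupOf]
      exact hZmem x x.2
    rw [relIndex, this]
  have hnab : (center (Q : Subgroup G)).index ≠ p := by
    intro h
    have hcyc : IsCyclic ((Q : Subgroup G) ⧸ center (Q : Subgroup G)) := by
      apply isCyclic_of_prime_card (p := p)
      rw [← index_eq_card]; exact h
    apply hQN
    refine le_trans ?_ hC
    intro x hx
    rw [mem_centralizer_iff]
    intro y hy
    have := commutative_of_cyclic_center_quotient (QuotientGroup.mk' (center (Q : Subgroup G)))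
      (by rw [QuotientGroup.ker_mk']) ⟨y, hNQ hy⟩ ⟨x, hx⟩
    exact congrArg Subtype.val this
  have hrel3 : Z.relIndex N = p := by
    rcases (Nat.dvd_prime hp).1 hrel2 with h | h
    · exfalso
      apply hnab
      rw [← hZidx, hidx, h, one_mul]
    · exact h
  have hidx2 : (center (Q : Subgroup G)).index = p * p := by
    rw [← hZidx, hidx, hrel3]
  -- the cases `p ≥ 5`, `p = 3`, `p = 2`
  by_cases hp5 : 5 ≤ p
  · apply hQN
    intro a ha
    have hst := (S0625.result hp5 hG).2.1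
    refine PLocal.SectionFrattini.mem_pCore_of_quadratic N hNp hC hst ?_
    have h6 : ⁅N, zpowers a⁆ ≤ Z := by
      rw [commutator_le]
      intro x hx y hy
      exact h1' x (hNQ hx) y ((zpowers_le.2 ha) hy)
    refine (commutator_mono h6 (zpowers_le.2 ha)).trans ?_
    rw [commutator_le]
    intro x hx y hy
    rw [commutatorElement_eq_one_iff_mul_comm.2 (hZc x hx y hy)]
    exact one_mem _
  · have h23 : p = 2 ∨ p = 3 := by
      have h6 := hp.two_le
      have h7 : p ≠ 4 := by rintro rfl; exact absurd hp (by decide)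
      omega
    rcases h23 with rfl | rfl
    · obtain ⟨x, hxN, hxZ⟩ : ∃ x ∈ N, x ∉ Z := by
        by_contra hcon
        push Not at hcon
        have : Z.relIndex N = 1 := relIndex_eq_one.2 hcon
        omega
      have hxQ := hNQ hxN
      set x' : (Q : Subgroup G) := ⟨x, hxQ⟩ with hx'
      let φ : (Q : Subgroup G) →* (Q : Subgroup G) :=
        { toFun := fun y => ⁅x', y⁆
          map_one' := by simp
          map_mul' := by
            intro y y'
            have h6 := mem_center_iff.1 (h1 x' y') y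
            calc ⁅x', y * y'⁆ = ⁅x', y⁆ * (y * ⁅x', y'⁆) * y⁻¹ := by
                  simp only [commutatorElement_def]; group
              _ = ⁅x', y⁆ * ⁅x', y'⁆ := by rw [h6]; group }
      have hrange : φ.range = center (Q : Subgroup G) := by
        apply le_antisymm
        · rintro _ ⟨y, rfl⟩
          exact h1 x' y
        · intro z hz
          obtain ⟨y, hyz⟩ := h3 x' (fun h => hxZ ((hZmem x hxQ).2 h)) z hz
          exact ⟨y, hyz⟩
      have hcl : center (Q : Subgroup G) ≤ φ.ker := by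
        intro z hz
        exact commutatorElement_eq_one_iff_mul_comm.2 (mem_center_iff.1 hz x')
      have hxker : x' ∈ φ.ker := commutatorElement_self x'
      have hcard := index_ker φ
      rw [hrange] at hcard
      have h7 : (center (Q : Subgroup G)).relIndex φ.ker * φ.ker.index = 2 * 2 := by
        rw [relIndex_mul_index hcl, hidx2]
      have h8 : (center (Q : Subgroup G)).relIndex φ.ker ≠ 1 := by
        intro h
        apply hxZ
        exact (hZmem x hxQ).2 (relIndex_eq_one.1 h hxker)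
      have h9 : Nat.card (center (Q : Subgroup G)) ≤ 2 := by
        rw [← hcard]
        by_contra hcon
        push Not at hcon
        have h10 : (center (Q : Subgroup G)).relIndex φ.ker ≠ 0 := by
          intro h; rw [h] at h7; omega
        have h11 : 2 ≤ (center (Q : Subgroup G)).relIndex φ.ker := by omega
        have h12 : 2 * 3 ≤ (center (Q : Subgroup G)).relIndex φ.ker * φ.ker.index :=
          Nat.mul_le_mul h11 hcon
        omega
      have hcardZ : Nat.card Z = Nat.card (center (Q : Subgroup G)) :=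
        (Nat.card_congr ((center (Q : Subgroup G)).equivMapOfInjective _
          (Q : Subgroup G).subtype_injective).toEquiv).symm
      have hFbot : F = ⊥ := by
        have h10 : Nat.card (Z.map π) * Nat.card F = Nat.card Z := by
          have h11 := relIndex_ker Z π
          rw [hker] at h11
          have h12 : F.relIndex Z * Nat.card F = Nat.card Z := by
            rw [mul_comm, ← Nat.card_congr (subgroupOfEquivOfLe hFZ).toEquiv]
            exact (F.subgroupOf Z).card_mul_index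
          rw [← h11]; exact h12
        rw [hc1, hcardZ] at h10
        have h13 : 0 < Nat.card F := Nat.card_pos
        apply Subgroup.card_eq_one.1
        omega
      apply h5 rfl (by rw [hidx2]) x' (fun h => hxZ ((hZmem x hxQ).2 h))
      have h14 : (⟨x, hxN⟩ : N) ^ 2 ∈ frattini N := Lib.FrattiniPGroup.pow_mem_frattini hNp _
      have h15 : x ^ 2 ∈ F := ⟨_, h14, rfl⟩
      rw [hFbot, mem_bot] at h15
      exact Subtype.ext h15
    · exact h4 rfl (by rw [hidx2])

theorem pLengthLE_one {G : Type*} [Group G] [Finite G] {p : ℕ} [hpf : Fact p.Prime] (hG : IsPSolvable p G)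
    (Q : Sylow p G) (hQ : Good p Q) : PLengthLE p 1 G := by
  have hKn : (pPrimeCore p G).Normal := Lib.Cores.pPrimeCore_normal p
  have hKc := Lib.Cores.pPrimeCore_coprime (G := G) p
  set π := QuotientGroup.mk' (pPrimeCore p G) with hπdef
  have hπ : Function.Surjective π := QuotientGroup.mk'_surjective _
  have hker : π.ker = pPrimeCore p G := QuotientGroup.ker_mk' _
  apply OddOrderLocal.Thm36Aux.pLength_of_surjective π hπ (by rw [hker]; exact hKc)
  have hinj : Function.Injective (π.domRestrict (Q : Subgroup G)) := by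
    rw [injective_iff_map_eq_one]
    intro x hx
    have h1 : (x : G) ∈ pPrimeCore p G := by
      rw [← hker]; exact hx
    have h2 : (Q : Subgroup G) ⊓ pPrimeCore p G = ⊥ := by
      apply Disjoint.eq_bot
      apply Subgroup.disjoint_of_coprime_natCard
      obtain ⟨n, hn⟩ := IsPGroup.iff_card.1 Q.isPGroup'
      rw [hn]
      exact Nat.Coprime.pow_left n hKc.symm
    have h3 : (x : G) ∈ (Q : Subgroup G) ⊓ pPrimeCore p G := ⟨x.2, h1⟩
    rw [h2, mem_bot] at h3
    exact Subtype.ext h3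
  let Q' : Sylow p (G ⧸ pPrimeCore p G) := Q.mapSurjective hπ
  have hQ'c : (Q' : Subgroup (G ⧸ pPrimeCore p G)) = (Q : Subgroup G).map π := Sylow.coe_mapSurjective hπ Q
  have e : (Q : Subgroup G) ≃* (Q' : Subgroup (G ⧸ pPrimeCore p G)) := by
    rw [hQ'c]
    have hr : (π.domRestrict (Q : Subgroup G)).range = (Q : Subgroup G).map π := MonoidHom.domRestrict_range _ _
    exact (MonoidHom.ofInjective hinj).trans (MulEquiv.subgroupCongr hr)
  have hle := le_pCore (Lib.PSolvable.IsPSolvable_of_surjective p hG π hπ)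
    (Lib.Cores.pPrimeCore_quotient_pPrimeCore p) Q' (good_congr e hQ)
  have hQ'n := Q'.not_dvd_index
  apply OddOrderLocal.Thm36Aux.pLength_of_normal_pgroup (pCore p (G ⧸ pPrimeCore p G))
    (Lib.Cores.pCore_normal p) (Lib.Cores.pCore_isPGroup p)
  rw [Nat.coprime_comm, Nat.Prime.coprime_iff_not_dvd hpf.out]
  intro h
  exact hQ'n (h.trans (index_dvd_of_le hle))

end Cfsg.Agent.H583.PLenGood
end

-- part: S4394
section
set_option autoImplicit false
open Cfsg

namespace Cfsg.Agent.S4394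

open Cfsg.Agent.H583.MinAction in
/-- The Sylow subgroup of a minimal non-nilpotent group is good. -/
theorem good_of_minAct {P : Type*} [Group P] [Finite P] {σ : MulAut P} {p q : ℕ} [hp : Fact p.Prime]
    [hq : Fact q.Prime] (hpq : p ≠ q) (hP : IsPGroup p P) (h : MinAct σ) (hσ : σ ^ q = 1) :
    Cfsg.Agent.H583.PLenGood.Good p P := by
  by_cases hab : ∀ x y : P, x * y = y * x
  · exact Or.inl hab
  · refine Or.inr ⟨fun x y => commutator_mem_center hpq hP h hσ x y, fun x => pow_mem_center hpq hP h hσ x,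
      fun x hx z hz => exists_comm_eq hpq hP h hσ hx hz, fun hp3 => index_ne_nine hpq hP h hσ hp3 hab,
      fun hp2 hi x hx => sq_ne_one hpq hP h hσ hp2 hab hi x hx⟩

/-- Let X be a finite minimal non-nilpotent group (not nilpotent, every proper subgroup nilpotent) with a nontrivial normal Sylow p-subgroup P. If G is a finite p-solvable group whose Sylow p-subgroups are isomorphic to P, then G has p-length at most 1. -/
theorem result {G X : Type*} [Group G] [Finite G] [Group X] [Finite X] (p : ℕ) [Fact p.Prime]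
    (hX : Cfsg.IsMinimalNonNilpotent X) (P : Sylow p X) (hPn : (P : Subgroup X).Normal) (hP1 : (P : Subgroup X) ≠ ⊥)
    (hG : Cfsg.IsPSolvable p G) (Q : Sylow p G) (hQ : Nonempty (↥(Q : Subgroup G) ≃* ↥(P : Subgroup X))) : Cfsg.PLengthLE p 1 G := by
  obtain ⟨e⟩ := hQ
  obtain ⟨q, hq, g, σ, hpq, -, -, hmin, hσ, -⟩ := Cfsg.Agent.H583.SchmidtAct.exists_minAct hX P hPn hP1
  exact Cfsg.Agent.H583.PLenGood.pLengthLE_one hG Q
    (Cfsg.Agent.H583.PLenGood.good_congr e.symm (good_of_minAct hpq P.isPGroup' hmin hσ))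

end Cfsg.Agent.S4394
end
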