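import Mathlib
import Cfsg.Agent.H583.SchmidtTop
import Cfsg.Statements.S4395
import Cfsg.Agent.S0132
import Cfsg.Agent.H583.SchmidtAct
set_option linter.all false

-- part: H583/SchmidtBound
section
set_option autoImplicit false

namespace Cfsg.Agent.H583.SchmidtBound

open Subgroup
open scoped commutatorElement
open Cfsg.Agent.H583.MinAction Cfsg.Agent.H583.SchmidtLin Cfsg.Agent.H583.SchmidtField Cfsg.Agent.H583.SchmidtCoord

section

variable {P : Type*} [Group P] [Finite P] {σ : MulAut P} {p q : ℕ} [hp : Fact p.Prime] [hq : Fact q.Prime]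
  {a : ℕ} {K : Type*} [Field K] {ζ : K} {f : P →* Multiplicative K}

theorem coord_zpow (hζ0 : ζ ≠ 0) (hf : Coord σ ζ f) (i : ℤ) (x : P) :
    (f ((σ ^ i) x)).toAdd = ζ ^ i * (f x).toAdd := by
  have h1 : ∀ n : ℕ, ∀ x : P, (f ((σ ^ n) x)).toAdd = ζ ^ n * (f x).toAdd := by
    intro n
    induction n with
    | zero => intro x; simp
    | succ n ih =>
      intro x
      rw [pow_succ', MulAut.mul_apply, hf.equiv, ih, pow_succ', mul_assoc]
  obtain ⟨n, rfl | rfl⟩ := i.eq_nat_or_neg
  · rw [zpow_natCast, zpow_natCast]; exact h1 n x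
  · have h2 := h1 n ((σ ^ (-(n : ℤ))) x)
    have h3 : (σ ^ n) ((σ ^ (-(n : ℤ))) x) = x := by
      rw [← MulAut.mul_apply, ← zpow_natCast, ← zpow_add, add_neg_cancel, zpow_zero, MulAut.one_apply]
    rw [h3] at h2
    rw [h2, zpow_neg ζ (n : ℤ), zpow_natCast ζ n, inv_mul_cancel_left₀ (pow_ne_zero n hζ0)]

theorem ker_eq (hf : Coord σ ζ f) : f.ker = fixSub σ := by
  ext x
  exact hf.ker x

variable (hpq : p ≠ q) (hP : IsPGroup p P) (h : MinAct σ) (hσ : σ ^ q = 1)

include hpq hP h hσ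

theorem card_le [Finite K] (ha : a = orderOf (p : ZMod q)) (hK : Nat.card K = p ^ a) (hζ : IsPrimitiveRoot ζ q)
    (hf : Coord σ ζ f) (a₀ : ℕ) (ha₀ : a₀ = if a % 2 = 1 then a else 3 * a / 2) : Nat.card P ≤ p ^ a₀ := by
  have hζ0 : ζ ≠ 0 := hζ.ne_zero hq.out.ne_zero
  have hcardP : Nat.card f.ker * p ^ a = Nat.card P := by
    rw [← f.ker.card_mul_index, index_ker, MonoidHom.range_eq_top.2 hf.surj, ← hK,
      Nat.card_congr (topEquiv (G := Multiplicative K)).toEquiv]
    rfl
  have haa₀ : a ≤ a₀ := by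
    rw [ha₀]; split_ifs <;> omega
  by_cases hab : ∀ x y : P, x * y = y * x
  · have h1 : f.ker = ⊥ := by
      rw [eq_bot_iff, ker_eq hf]
      intro x hx
      exact eq_one_of_fix hpq hP h hσ hab hx
    rw [h1, Subgroup.card_bot, one_mul] at hcardP
    rw [← hcardP]
    exact Nat.pow_le_pow_right hp.out.pos haa₀
  have hkerZ : f.ker = center P := by
    rw [ker_eq hf]
    apply le_antisymm
    · exact fixSub_le_center hpq hP h hσ
    · intro x hx
      exact fix_of_mem_center hpq hP h hσ hab hx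
  obtain ⟨x, hx⟩ : ∃ x : P, x ∉ center P := by
    by_contra hcon
    push Not at hcon
    apply hab
    intro x y
    exact mem_center_iff.1 (hcon y) x
  set C : Subgroup P := (commHom hpq hP h hσ x).ker with hC
  have hCmem : ∀ y, y ∈ C ↔ ⁅x, y⁆ = 1 := fun y => Iff.rfl
  have hZC : f.ker ≤ C := by
    rw [hkerZ]
    intro z hz
    rw [hCmem, commutatorElement_eq_one_iff_mul_comm]
    exact mem_center_iff.1 hz x
  have hrange : (commHom hpq hP h hσ x).range = center P := by
    apply le_antisymm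
    · rintro _ ⟨y, rfl⟩
      exact commutator_mem_center hpq hP h hσ x y
    · intro z hz
      obtain ⟨y, hy⟩ := exists_comm_eq hpq hP h hσ hx hz
      exact ⟨y, hy⟩
  have hCidx : C.index = Nat.card f.ker := by
    rw [hC, index_ker, hrange, hkerZ]
  have hzpos : 0 < Nat.card f.ker := Nat.card_pos
  have hcardC : Nat.card C = p ^ a := by
    have h1 := C.card_mul_index
    rw [hCidx, ← hcardP, mul_comm] at h1
    exact Nat.eq_of_mul_eq_mul_left hzpos h1
  have hcardC2 : Nat.card f.ker * Nat.card (C.map f) = Nat.card C := by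
    have h1 := relIndex_mul_relIndex ⊥ f.ker C bot_le hZC
    rw [relIndex_bot_left, relIndex_bot_left, relIndex_ker] at h1
    exact h1
  -- the image of `C` contains `symSub ζ * f x`
  have hcongr : ∀ y y' : P, f y = f y' → ⁅x, y⁆ = ⁅x, y'⁆ := by
    intro y y' hyy
    have h1 : y'⁻¹ * y ∈ f.ker := by
      rw [MonoidHom.mem_ker, map_mul, map_inv, hyy, inv_mul_cancel]
    have h2 : y = y' * (y'⁻¹ * y) := by group
    have h3 : ⁅x, y'⁻¹ * y⁆ = 1 := (hCmem _).1 (hZC h1)
    rw [h2, comm_mul_right hpq hP h hσ, h3, mul_one]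
  let S : AddSubgroup K :=
    { carrier := {c | ∀ y, (f y).toAdd = c * (f x).toAdd → ⁅x, y⁆ = 1}
      zero_mem' := by
        intro y hy
        rw [zero_mul, toAdd_eq_zero] at hy
        exact (hCmem y).1 (hZC hy)
      add_mem' := by
        intro c d hc hd y hy
        obtain ⟨u, hu⟩ := hf.surj (Multiplicative.ofAdd (c * (f x).toAdd))
        obtain ⟨v, hv⟩ := hf.surj (Multiplicative.ofAdd (d * (f x).toAdd))
        have h1 : f y = f (u * v) := by
          rw [map_mul, hu, hv, ← ofAdd_add, ← add_mul, ← hy, ofAdd_toAdd]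
        rw [hcongr _ _ h1, comm_mul_right hpq hP h hσ, hc u (by rw [hu, toAdd_ofAdd]),
          hd v (by rw [hv, toAdd_ofAdd]), one_mul]
      neg_mem' := by
        intro c hc y hy
        have h1 : (f y⁻¹).toAdd = c * (f x).toAdd := by
          rw [map_inv, toAdd_inv, hy, neg_mul, neg_neg]
        have h2 := hc y⁻¹ h1
        rw [comm_inv_right hpq hP h hσ, inv_eq_one] at h2
        exact h2 }
  have hfixc : ∀ u v : P, ∀ i : ℤ, (σ ^ i) ⁅u, v⁆ = ⁅u, v⁆ := by
    intro u v i
    have h1 : ∀ w, σ w = w → (σ ^ i) w = w := by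
      intro w hw
      have h2 : σ ∈ MulAction.stabilizer (MulAut P) w := hw
      exact (MulAction.stabilizer (MulAut P) w).zpow_mem h2 i
    exact h1 _ (commutator_mem_fixSub hpq hP h hσ u v)
  have hSsym : symSub ζ ≤ S := by
    rw [symSub, AddSubgroup.closure_le]
    rintro c (hc | ⟨i, rfl⟩)
    · rw [Set.mem_singleton_iff] at hc
      subst hc
      intro y hy
      rw [one_mul] at hy
      have h1 : f y = f x := hy
      rw [hcongr _ _ h1, commutatorElement_self]
    · intro y hy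
      change (f y).toAdd = (ζ ^ i + ζ ^ (-i)) * (f x).toAdd at hy
      have h1 : f y = f ((σ ^ i) x * (σ ^ (-i)) x) := by
        apply Multiplicative.toAdd.injective
        rw [hy, map_mul, toAdd_mul, coord_zpow hζ0 hf, coord_zpow hζ0 hf, add_mul]
      rw [hcongr _ _ h1, comm_mul_right hpq hP h hσ]
      have h2 : ⁅x, (σ ^ i) x⁆ = ⁅(σ ^ (-i)) x, x⁆ := by
        rw [← hfixc x ((σ ^ i) x) (-i), map_commutatorElement, ← MulAut.mul_apply, ← zpow_add, neg_add_cancel,
          zpow_zero, MulAut.one_apply]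
      rw [h2, ← commutatorElement_inv, inv_mul_cancel]
  have hfx : (f x).toAdd ≠ 0 := by
    intro h1
    rw [toAdd_eq_zero] at h1
    apply hx
    rw [← hkerZ]
    exact h1
  obtain ⟨b, hb, hba, hab2⟩ := exists_card_symSub (p := p) (q := q) ha hK hζ
  have hle : p ^ b ≤ Nat.card (C.map f) := by
    rw [← hb]
    let g : symSub ζ → C.map f := fun c => ⟨Multiplicative.ofAdd (c * (f x).toAdd), by
      obtain ⟨y, hy⟩ := hf.surj (Multiplicative.ofAdd ((c : K) * (f x).toAdd))
      refine ⟨y, ?_, hy⟩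
      exact (hCmem y).2 (hSsym c.2 y (by rw [hy, toAdd_ofAdd]))⟩
    apply Nat.card_le_card_of_injective g
    intro c d hcd
    have h1 : (c : K) * (f x).toAdd = d * (f x).toAdd :=
      Multiplicative.ofAdd.injective (congrArg Subtype.val hcd)
    exact Subtype.ext (mul_right_cancel₀ hfx h1)
  have hzb : Nat.card f.ker * p ^ b ≤ p ^ a := by
    rw [← hcardC, ← hcardC2]
    exact Nat.mul_le_mul_left _ hle
  have hba' : b ≤ a := Nat.le_of_dvd (by
    rw [ha]; exact orderOf_pos_of_ne hpq) hba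
  have hz : Nat.card f.ker ≤ p ^ (a - b) := by
    have h1 : p ^ a = p ^ (a - b) * p ^ b := by rw [← pow_add]; congr 1; omega
    rw [h1] at hzb
    exact Nat.le_of_mul_le_mul_right hzb (pow_pos hp.out.pos b)
  by_cases hodd : a % 2 = 1
  · -- then `b = a`, a contradiction
    exfalso
    obtain ⟨n, hn⟩ := hba
    have hb0 : 0 < b := by
      rcases Nat.eq_zero_or_pos b with h0 | h0
      · rw [h0, zero_mul] at hn; omega
      · exact h0
    have hn2 : n ≤ 2 := by
      by_contra hcon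
      push Not at hcon
      have : b * 3 ≤ b * n := Nat.mul_le_mul_left b hcon
      omega
    have hab3 : b = a := by
      interval_cases n
      · omega
      · omega
      · omega
    rw [hab3, Nat.sub_self, pow_zero] at hz
    have hker1 : f.ker = ⊥ := Subgroup.card_eq_one.1 (le_antisymm hz hzpos)
    apply hab
    intro u v
    rw [← commutatorElement_eq_one_iff_mul_comm, ← mem_bot, ← hker1, hkerZ]
    exact commutator_mem_center hpq hP h hσ u v
  · rw [if_neg hodd] at ha₀
    rw [← hcardP]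
    refine (Nat.mul_le_mul_right _ hz).trans ?_
    rw [← pow_add]
    apply Nat.pow_le_pow_right hp.out.pos
    omega

end

end Cfsg.Agent.H583.SchmidtBound
end

-- part: H583/SchmidtFibre
section
set_option autoImplicit false

namespace Cfsg.Agent.H583.SchmidtFibre

open Subgroup
open scoped commutatorElement
open Cfsg.Agent.H583.MinAction Cfsg.Agent.H583.SchmidtLin Cfsg.Agent.H583.SchmidtField Cfsg.Agent.H583.SchmidtCoord
open Cfsg.Agent.H583.SchmidtBound

theorem exists_hom {p q : ℕ} [hp : Fact p.Prime] [hq : Fact q.Prime] (hpq : p ≠ q) {a : ℕ}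
    (ha : a = orderOf (p : ZMod q)) {K : Type*} [Field K] [Finite K] (hK : Nat.card K = p ^ a) {ζ : K}
    (hζ : IsPrimitiveRoot ζ q) (a₀ : ℕ) (ha₀ : a₀ = if a % 2 = 1 then a else 3 * a / 2)
    {P₁ P₂ : Type*} [Group P₁] [Finite P₁] [Group P₂] [Finite P₂] {σ₁ : MulAut P₁} {σ₂ : MulAut P₂}
    (hP₁ : IsPGroup p P₁) (hP₂ : IsPGroup p P₂) (h₁ : MinAct σ₁) (h₂ : MinAct σ₂) (hσ₁ : σ₁ ^ q = 1)
    (hσ₂ : σ₂ ^ q = 1) {f₁ : P₁ →* Multiplicative K} {f₂ : P₂ →* Multiplicative K} (hf₁ : Coord σ₁ ζ f₁)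
    (hf₂ : Coord σ₂ ζ f₂) (hcard : Nat.card P₁ = p ^ a₀) :
    ∃ g : P₁ →* P₂, Function.Surjective g ∧ (∀ x, g (σ₁ x) = σ₂ (g x)) ∧ ∀ x, g x = 1 → σ₁ x = x := by
  let R : Subgroup (P₁ × P₂) :=
    { carrier := {x | f₁ x.1 = f₂ x.2}
      one_mem' := by
        change f₁ 1 = f₂ 1
        rw [map_one, map_one]
      mul_mem' := by
        intro x y hx hy
        change f₁ (x.1 * y.1) = f₂ (x.2 * y.2)
        rw [map_mul, map_mul, hx, hy]
      inv_mem' := by
        intro x hx
        change f₁ x.1⁻¹ = f₂ x.2⁻¹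
        rw [map_inv, map_inv, hx] }
  have hRmem : ∀ x : P₁ × P₂, x ∈ R ↔ f₁ x.1 = f₂ x.2 := fun x => Iff.rfl
  let τ : MulAut (P₁ × P₂) := MulEquiv.prodCongr σ₁ σ₂
  have hτ : ∀ x : P₁ × P₂, τ x = (σ₁ x.1, σ₂ x.2) := fun x => rfl
  have hτR : ∀ x ∈ R, τ x ∈ R := by
    intro x hx
    rw [hRmem] at hx ⊢
    apply Multiplicative.toAdd.injective
    rw [hτ]
    change (f₁ (σ₁ x.1)).toAdd = (f₂ (σ₂ x.2)).toAdd
    rw [hf₁.equiv, hf₂.equiv, hx]
  set D : Subgroup (P₁ × P₂) := closure ((fun r => r⁻¹ * τ r) '' (R : Set (P₁ × P₂))) with hD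
  have hmemD : ∀ r ∈ R, r⁻¹ * τ r ∈ D := fun r hr => Subgroup.subset_closure ⟨r, hr, rfl⟩
  have hDle : ∀ E : Subgroup (P₁ × P₂), (∀ r ∈ R, r⁻¹ * τ r ∈ E) → D ≤ E := by
    intro E hE
    rw [hD, closure_le]
    rintro _ ⟨r, hr, rfl⟩
    exact hE r hr
  have hDR : D ≤ R := by
    rw [hD, closure_le]
    rintro _ ⟨r, hr, rfl⟩
    exact mul_mem (inv_mem hr) (hτR r hr)
  have hτD : ∀ x ∈ D, τ x ∈ D := by
    have h1 : D ≤ D.comap (τ : P₁ × P₂ →* P₁ × P₂) := by
      rw [hD, closure_le]
      rintro _ ⟨r, hr, rfl⟩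
      have h2 : τ (r⁻¹ * τ r) = (τ r)⁻¹ * τ (τ r) := by rw [map_mul, map_inv]
      change τ (r⁻¹ * τ r) ∈ D
      rw [h2]
      exact hmemD _ (hτR r hr)
    intro x hx
    exact h1 hx
  -- the restriction of `τ` to `D`
  let δ₀ : D →* D := ((τ : P₁ × P₂ →* P₁ × P₂).comp D.subtype).codRestrict D (fun x => hτD x x.2)
  have hδ₀ : ∀ x : D, ((δ₀ x : D) : P₁ × P₂) = τ x := fun x => rfl
  have hδ₀i : Function.Injective δ₀ := by
    intro x y hxy
    have h1 := congrArg Subtype.val hxy
    rw [hδ₀, hδ₀] at h1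
    exact Subtype.ext (τ.injective h1)
  let δ : MulAut D := MulEquiv.ofBijective δ₀ ⟨hδ₀i, Finite.surjective_of_injective hδ₀i⟩
  have hδ : ∀ x : D, ((δ x : D) : P₁ × P₂) = τ x := fun x => rfl
  have hδn : ∀ n : ℕ, ∀ x : D, (((δ ^ n) x : D) : P₁ × P₂) = ((σ₁ ^ n) x.1.1, (σ₂ ^ n) x.1.2) := by
    intro n
    induction n with
    | zero => intro x; rfl
    | succ n ih =>
      intro x
      rw [pow_succ', MulAut.mul_apply, hδ, ih, hτ, pow_succ', pow_succ', MulAut.mul_apply, MulAut.mul_apply]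
  have hδq : δ ^ q = 1 := by
    ext x : 1
    apply Subtype.ext
    rw [hδn, hσ₁, hσ₂]
    rfl
  have hDp : IsPGroup p D := by
    have h1 : IsPGroup p (P₁ × P₂) := by
      obtain ⟨m, hm⟩ := IsPGroup.iff_card.1 hP₁
      obtain ⟨n, hn⟩ := IsPGroup.iff_card.1 hP₂
      apply IsPGroup.of_card (n := m + n)
      rw [Nat.card_prod, hm, hn, pow_add]
    exact h1.to_subgroup D
  -- projections
  let π₁ : D →* P₁ := (MonoidHom.fst P₁ P₂).comp D.subtype
  let π₂ : D →* P₂ := (MonoidHom.snd P₁ P₂).comp D.subtype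
  have hπ₁ : Function.Surjective π₁ := by
    rw [← MonoidHom.range_eq_top]
    apply eq_top_of_mem hpq hP₁ h₁ hσ₁
    intro x
    obtain ⟨y, hy⟩ := hf₂.surj (f₁ x)
    exact ⟨⟨_, hmemD (x, y) hy.symm⟩, rfl⟩
  have hπ₂ : Function.Surjective π₂ := by
    rw [← MonoidHom.range_eq_top]
    apply eq_top_of_mem hpq hP₂ h₂ hσ₂
    intro y
    obtain ⟨x, hx⟩ := hf₁.surj (f₂ y)
    exact ⟨⟨_, hmemD (x, y) hx⟩, rfl⟩
  have hfix_of : ∀ x : D, f₁ x.1.1 = 1 → δ x = x := by
    intro x hx
    have h1 : f₂ x.1.2 = 1 := by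
      rw [← (hRmem x.1).1 (hDR x.2), hx]
    apply Subtype.ext
    rw [hδ, hτ]
    exact Prod.ext ((hf₁.ker _).1 hx) ((hf₂.ker _).1 h1)
  have hmin : MinAct δ := by
    refine ⟨?_, ?_⟩
    · intro h1
      apply h₁.ne_one
      ext x
      obtain ⟨d, rfl⟩ := hπ₁ x
      have h2 : δ d = d := by rw [h1]; rfl
      have h3 : (τ d.1).1 = d.1.1 := by rw [← hδ, h2]
      exact h3
    · intro H hH hinv
      let A : AddSubgroup K :=
        { carrier := {c | ∃ x ∈ H, (f₁ x.1.1).toAdd = c}
          zero_mem' := ⟨1, one_mem _, by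
            change (f₁ 1).toAdd = 0
            rw [map_one, toAdd_one]⟩
          add_mem' := by
            rintro _ _ ⟨x, hx, rfl⟩ ⟨y, hy, rfl⟩
            refine ⟨x * y, mul_mem hx hy, ?_⟩
            change (f₁ (x.1.1 * y.1.1)).toAdd = _
            rw [map_mul, toAdd_mul]
          neg_mem' := by
            rintro _ ⟨x, hx, rfl⟩
            refine ⟨x⁻¹, inv_mem hx, ?_⟩
            change (f₁ (x.1.1)⁻¹).toAdd = _
            rw [map_inv, toAdd_inv] }
      rcases eq_bot_or_eq_top (p := p) (q := q) ha hK hζ A (by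
        rintro _ ⟨x, hx, rfl⟩
        refine ⟨δ x, hinv x hx, ?_⟩
        rw [← hf₁.equiv]
        rfl) with h1 | h1
      · intro x hx
        apply hfix_of
        have h2 : (f₁ x.1.1).toAdd ∈ A := ⟨x, hx, rfl⟩
        rw [h1, AddSubgroup.mem_bot] at h2
        exact h2
      · exfalso
        apply hH
        have hle : D ≤ H.map D.subtype := by
          apply hDle
          intro r hr
          have h2 : (f₁ r.1).toAdd ∈ A := by rw [h1]; trivial
          obtain ⟨x, hx, hxr⟩ := h2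
          have h3 : f₁ x.1.1 = f₁ r.1 := hxr
          have h4 : f₂ x.1.2 = f₂ r.2 := by
            rw [← (hRmem x.1).1 (hDR x.2), h3]
            exact (hRmem r).1 hr
          set z : P₁ × P₂ := (x : P₁ × P₂)⁻¹ * r with hz
          have hz1 : σ₁ z.1 = z.1 := by
            apply (hf₁.ker _).1
            change f₁ ((x : P₁ × P₂).1⁻¹ * r.1) = 1
            rw [map_mul, map_inv, h3, inv_mul_cancel]
          have hz2 : σ₂ z.2 = z.2 := by
            apply (hf₂.ker _).1
            change f₂ ((x : P₁ × P₂).2⁻¹ * r.2) = 1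
            rw [map_mul, map_inv, h4, inv_mul_cancel]
          have hτz : τ z = z := by
            rw [hτ]; exact Prod.ext hz1 hz2
          have hzc : ∀ w : P₁ × P₂, z * w = w * z := by
            intro w
            have c1 := mem_center_iff.1 (mem_center_of_fix hpq hP₁ h₁ hσ₁ hz1) w.1
            have c2 := mem_center_iff.1 (mem_center_of_fix hpq hP₂ h₂ hσ₂ hz2) w.2
            exact Prod.ext c1.symm c2.symm
          have hrz : r = x * z := by rw [hz, mul_inv_cancel_left]
          have h5 : r⁻¹ * τ r = (x : P₁ × P₂)⁻¹ * τ x := by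
            rw [hrz, map_mul, hτz, mul_inv_rev]
            calc z⁻¹ * (x : P₁ × P₂)⁻¹ * (τ x * z) = z⁻¹ * ((x : P₁ × P₂)⁻¹ * τ x * z) := by group
              _ = z⁻¹ * (z * ((x : P₁ × P₂)⁻¹ * τ x)) := by rw [hzc]
              _ = (x : P₁ × P₂)⁻¹ * τ x := by group
          rw [h5]
          exact ⟨x⁻¹ * δ x, mul_mem (inv_mem hx) (hinv x hx), rfl⟩
        rw [eq_top_iff]
        intro x _
        obtain ⟨y, hy, hyx⟩ := hle x.2
        have : y = x := Subtype.ext hyx
        rw [← this]; exact hy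
  have hcoord : Coord δ ζ (f₁.comp π₁) := by
    refine ⟨hf₁.surj.comp hπ₁, ?_, ?_⟩
    · intro x
      exact hf₁.equiv x.1.1
    · intro x
      constructor
      · exact hfix_of x
      · intro hx
        have h3 : (τ x.1).1 = x.1.1 := by rw [← hδ, hx]
        exact (hf₁.ker _).2 h3
  have hDcard := card_le hpq hDp hmin hδq ha hK hζ hcoord a₀ ha₀
  rw [← hcard] at hDcard
  have hbij : Function.Bijective π₁ := hπ₁.bijective_of_nat_card_le hDcard
  let e : D ≃* P₁ := MulEquiv.ofBijective π₁ hbij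
  refine ⟨π₂.comp e.symm.toMonoidHom, ?_, ?_, ?_⟩
  · exact hπ₂.comp e.symm.surjective
  · intro x
    obtain ⟨d, rfl⟩ := e.surjective x
    change π₂ (e.symm (σ₁ (e d))) = σ₂ (π₂ (e.symm (e d)))
    rw [e.symm_apply_apply]
    have h1 : σ₁ (e d) = e (δ d) := rfl
    rw [h1, e.symm_apply_apply]
    rfl
  · intro x hx
    obtain ⟨d, rfl⟩ := e.surjective x
    change π₂ (e.symm (e d)) = 1 at hx
    rw [e.symm_apply_apply] at hx
    have h1 : f₁ d.1.1 = 1 := by
      rw [(hRmem d.1).1 (hDR d.2)]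
      have h2 : d.1.2 = 1 := hx
      rw [h2, map_one]
    exact (hf₁.ker _).1 h1

end Cfsg.Agent.H583.SchmidtFibre
end

-- part: H583/SchmidtMax
section
set_option autoImplicit false

namespace Cfsg.Agent.H583.SchmidtMax

open Cfsg.Agent.H583.MinAction Cfsg.Agent.H583.SchmidtLin Cfsg.Agent.H583.SchmidtField Cfsg.Agent.H583.SchmidtCoord

/-- Pairs, with the multiplication twisted by `τ`. -/
@[ext] structure Her {K : Type*} [Field K] (τ : K →+* K) where
  /-- first coordinate -/
  x : K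
  /-- second coordinate -/
  w : K

section

variable {K : Type*} [Field K] (τ : K →+* K)

instance : Mul (Her τ) := ⟨fun a b => ⟨a.x + b.x, a.w + b.w + a.x * τ b.x⟩⟩
instance : One (Her τ) := ⟨⟨0, 0⟩⟩
instance : Inv (Her τ) := ⟨fun a => ⟨-a.x, -a.w + a.x * τ a.x⟩⟩

@[simp] theorem mul_x (a b : Her τ) : (a * b).x = a.x + b.x := rfl
@[simp] theorem mul_w (a b : Her τ) : (a * b).w = a.w + b.w + a.x * τ b.x := rfl
@[simp] theorem one_x : (1 : Her τ).x = 0 := rfl
@[simp] theorem one_w : (1 : Her τ).w = 0 := rfl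
@[simp] theorem inv_x (a : Her τ) : (a⁻¹).x = -a.x := rfl
@[simp] theorem inv_w (a : Her τ) : (a⁻¹).w = -a.w + a.x * τ a.x := rfl

instance : Group (Her τ) where
  mul_assoc a b c := by
    ext
    · simp only [mul_x]; ring
    · simp only [mul_x, mul_w, map_add]; ring
  one_mul a := by
    ext
    · simp
    · simp
  mul_one a := by
    ext
    · simp
    · simp
  inv_mul_cancel a := by
    ext
    · simp
    · simp only [inv_x, inv_w, mul_w, one_w]; ring

/-- The pairs with `w + w ^ τ = x * x ^ τ`. -/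
def herSub (hτ : ∀ x, τ (τ x) = x) : Subgroup (Her τ) where
  carrier := {a | a.w + τ a.w = a.x * τ a.x}
  one_mem' := by
    change (0 : K) + τ 0 = 0 * τ 0
    simp
  mul_mem' := by
    intro a b ha hb
    change a.w + b.w + a.x * τ b.x + τ (a.w + b.w + a.x * τ b.x) = (a.x + b.x) * τ (a.x + b.x)
    have ha' : a.w + τ a.w = a.x * τ a.x := ha
    have hb' : b.w + τ b.w = b.x * τ b.x := hb
    rw [map_add, map_add, map_mul, map_add, hτ]
    linear_combination ha' + hb'
  inv_mem' := by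
    intro a ha
    change -a.w + a.x * τ a.x + τ (-a.w + a.x * τ a.x) = (-a.x) * τ (-a.x)
    have ha' : a.w + τ a.w = a.x * τ a.x := ha
    rw [map_add, map_mul, map_neg, map_neg, hτ]
    linear_combination -ha'

theorem mem_herSub (hτ : ∀ x, τ (τ x) = x) (a : Her τ) : a ∈ herSub τ hτ ↔ a.w + τ a.w = a.x * τ a.x := Iff.rfl

end

/-- Sufficient condition for `MinAct`. -/
theorem minAct_of {p q a : ℕ} [hp : Fact p.Prime] [hq : Fact q.Prime] (ha : a = orderOf (p : ZMod q))
    {K : Type*} [Field K] [Finite K] (hK : Nat.card K = p ^ a) {ζ : K} (hζ : IsPrimitiveRoot ζ q)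
    {P : Type*} [Group P] (σ : MulAut P) (f : P →* Multiplicative K) (hf : Coord σ ζ f)
    (hgen : ∀ H : Subgroup P, (∀ c, ∃ x ∈ H, f x = c) → H = ⊤) : MinAct σ := by
  refine ⟨?_, ?_⟩
  · intro h1
    obtain ⟨x, hx⟩ := hf.surj (Multiplicative.ofAdd 1)
    have h2 := (hf.ker x).2 (by rw [h1]; rfl)
    rw [hx, ofAdd_eq_one] at h2
    exact one_ne_zero h2
  · intro H hH hinv
    let A : AddSubgroup K :=
      { carrier := {c | ∃ x ∈ H, (f x).toAdd = c}
        zero_mem' := ⟨1, one_mem _, by rw [map_one, toAdd_one]⟩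
        add_mem' := by
          rintro _ _ ⟨x, hx, rfl⟩ ⟨y, hy, rfl⟩
          refine ⟨x * y, mul_mem hx hy, ?_⟩
          rw [map_mul, toAdd_mul]
        neg_mem' := by
          rintro _ ⟨x, hx, rfl⟩
          refine ⟨x⁻¹, inv_mem hx, ?_⟩
          rw [map_inv, toAdd_inv] }
    rcases eq_bot_or_eq_top (p := p) (q := q) ha hK hζ A (by
      rintro _ ⟨x, hx, rfl⟩
      exact ⟨σ x, hinv x hx, hf.equiv x⟩) with h1 | h1
    · intro x hx
      apply (hf.ker x).1
      have h2 : (f x).toAdd ∈ A := ⟨x, hx, rfl⟩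
      rw [h1, AddSubgroup.mem_bot] at h2
      exact h2
    · exfalso
      apply hH
      apply hgen
      intro c
      have h2 : c.toAdd ∈ A := by rw [h1]; trivial
      exact h2

/-- Root counting. -/
theorem card_roots_le {K : Type*} [Field K] [Finite K] (N : ℕ) (hN : 1 < N) (c : K) :
    Nat.card {x : K // x ^ N = c * x} ≤ N := by
  classical
  have := Fintype.ofFinite K
  set f : Polynomial K := Polynomial.X ^ N - Polynomial.C c * Polynomial.X with hf
  have hdeg : f.degree = N := by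
    rw [hf]
    apply Polynomial.degree_sub_eq_left_of_degree_lt (by
      rw [Polynomial.degree_X_pow]
      refine (Polynomial.degree_C_mul_X_le c).trans_lt ?_
      exact_mod_cast hN) |>.trans
    exact Polynomial.degree_X_pow N
  have hf0 : f ≠ 0 := by
    intro h
    rw [h, Polynomial.degree_zero] at hdeg
    exact absurd hdeg (by simp)
  have h1 : ∀ x : {x : K // x ^ N = c * x}, (x : K) ∈ f.roots.toFinset := by
    intro x
    rw [Multiset.mem_toFinset, Polynomial.mem_roots hf0, Polynomial.IsRoot.def, hf]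
    simp [x.2]
  have h2 : Nat.card {x : K // x ^ N = c * x} ≤ f.roots.toFinset.card := by
    have h3 := Nat.card_le_card_of_injective
      (fun x : {x : K // x ^ N = c * x} => (⟨x.1, h1 x⟩ : f.roots.toFinset))
      (fun x y hxy => Subtype.ext (congrArg (fun z : f.roots.toFinset => (z : K)) hxy))
    rwa [Nat.card_eq_fintype_card (α := f.roots.toFinset), Fintype.card_coe] at h3
  refine h2.trans ((Multiset.toFinset_card_le _).trans ?_)
  refine (Polynomial.card_roots' f).trans ?_
  rw [Polynomial.natDegree_eq_of_degree_eq_some hdeg]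

section

variable {p q a : ℕ} [hp : Fact p.Prime] [hq : Fact q.Prime] (hpq : p ≠ q) (ha : a = orderOf (p : ZMod q))
  {K : Type} [Field K] [Finite K] (hK : Nat.card K = p ^ a) {ζ : K} (hζ : IsPrimitiveRoot ζ q)

include ha hK hζ in
theorem exists_max_odd : ∃ (P : Type) (_ : Group P) (_ : Finite P) (σ : MulAut P) (f : P →* Multiplicative K),
    IsPGroup p P ∧ MinAct σ ∧ σ ^ q = 1 ∧ Coord σ ζ f ∧ Nat.card P = p ^ a := by
  have hζ0 : ζ ≠ 0 := hζ.ne_zero hq.out.ne_zero
  let σ : MulAut (Multiplicative K) :=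
    { toFun := fun x => Multiplicative.ofAdd (ζ * x.toAdd)
      invFun := fun x => Multiplicative.ofAdd (ζ⁻¹ * x.toAdd)
      left_inv := fun x => by
        change Multiplicative.ofAdd (ζ⁻¹ * (ζ * x.toAdd)) = x
        rw [inv_mul_cancel_left₀ hζ0]; rfl
      right_inv := fun x => by
        change Multiplicative.ofAdd (ζ * (ζ⁻¹ * x.toAdd)) = x
        rw [mul_inv_cancel_left₀ hζ0]; rfl
      map_mul' := fun x y => by
        change Multiplicative.ofAdd (ζ * (x.toAdd + y.toAdd)) = Multiplicative.ofAdd (ζ * x.toAdd + ζ * y.toAdd)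
        rw [mul_add] }
  have hcard : Nat.card (Multiplicative K) = p ^ a := hK
  have hσn : ∀ n : ℕ, ∀ x : Multiplicative K, ((σ ^ n) x).toAdd = ζ ^ n * x.toAdd := by
    intro n
    induction n with
    | zero => intro x; simp
    | succ n ih =>
      intro x
      rw [pow_succ', MulAut.mul_apply]
      change ζ * ((σ ^ n) x).toAdd = _
      rw [ih, pow_succ', mul_assoc]
  have hcoord : Coord σ ζ (MonoidHom.id (Multiplicative K)) := by
    refine ⟨Function.surjective_id, fun x => rfl, ?_⟩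
    intro x
    constructor
    · intro h
      have h1 : x = 1 := h
      rw [h1, map_one]
    · intro h
      have h1 : ζ * x.toAdd = x.toAdd := congrArg Multiplicative.toAdd h
      have h4 : (ζ - 1) * x.toAdd = 0 := by rw [sub_mul, h1, one_mul, sub_self]
      rcases mul_eq_zero.1 h4 with h5 | h5
      · exact absurd (sub_eq_zero.1 h5) (hζ.ne_one hq.out.one_lt)
      · exact h5
  refine ⟨Multiplicative K, inferInstance, inferInstance, σ, MonoidHom.id _, IsPGroup.of_card hcard, ?_, ?_, hcoord,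
    hcard⟩
  · apply minAct_of (p := p) (q := q) ha hK hζ σ (MonoidHom.id _) hcoord
    intro H hH
    rw [eq_top_iff]
    intro x _
    obtain ⟨y, hy, hyx⟩ := hH x
    have : y = x := hyx
    rw [← this]; exact hy
  · ext x
    change ((σ ^ q) x).toAdd = x.toAdd
    rw [hσn, hζ.pow_eq_one, one_mul]

include ha hK hζ in
theorem exists_max_even (m : ℕ) (ham : a = 2 * m) (hm : 0 < m) :
    ∃ (P : Type) (_ : Group P) (_ : Finite P) (σ : MulAut P) (f : P →* Multiplicative K),
    IsPGroup p P ∧ MinAct σ ∧ σ ^ q = 1 ∧ Coord σ ζ f ∧ Nat.card P = p ^ (3 * m) := by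
  classical
  have hζ0 : ζ ≠ 0 := hζ.ne_zero hq.out.ne_zero
  have := Fintype.ofFinite K
  have hKF : Fintype.card K = p ^ a := by rw [← Nat.card_eq_fintype_card, hK]
  have hchar : CharP K p := by
    have h1 : ((p ^ a : ℕ) : K) = 0 := by rw [← hKF]; exact FiniteField.cast_card_eq_zero K
    rw [Nat.cast_pow] at h1
    exact (CharP.charP_iff_prime_eq_zero hp.out).2 (pow_eq_zero_iff (by omega) |>.1 h1)
  let τ : K →+* K := iterateFrobenius K p m
  have hτ' : ∀ x, τ x = x ^ p ^ m := fun x => iterateFrobenius_def p m x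
  have hτ : ∀ x, τ (τ x) = x := by
    intro x
    rw [hτ', hτ', ← pow_mul, ← pow_add, ← two_mul, ← ham, ← hKF]
    exact FiniteField.pow_card x
  -- `ζ * τ ζ = 1`
  have hζτ : ζ * τ ζ = 1 := by
    have hpm : ((p : ZMod q) ^ m) ^ 2 = 1 := by
      rw [← pow_mul, mul_comm, ← ham, ha]
      exact pow_orderOf_eq_one _
    have hpm1 : (p : ZMod q) ^ m ≠ 1 := by
      intro h1
      have h2 := orderOf_dvd_of_pow_eq_one h1
      rw [← ha] at h2
      have := Nat.le_of_dvd hm h2
      omega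
    have hpm2 : (p : ZMod q) ^ m = -1 := by
      have h1 : ((p : ZMod q) ^ m - 1) * ((p : ZMod q) ^ m + 1) = 0 := by
        linear_combination hpm
      rcases mul_eq_zero.1 h1 with h2 | h2
      · exact absurd (sub_eq_zero.1 h2) hpm1
      · exact eq_neg_of_add_eq_zero_left h2
    have hdvd : q ∣ p ^ m + 1 := by
      rw [← ZMod.natCast_eq_zero_iff]
      push_cast
      rw [hpm2, neg_add_cancel]
    rw [hτ', ← pow_succ']
    exact (hζ.pow_eq_one_iff_dvd _).2 hdvd
  have hN : 1 < p ^ m := Nat.one_lt_pow hm.ne' hp.out.one_lt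
  -- the homomorphisms `w ↦ w + τ w` and `w ↦ w - τ w`
  let Tr : K →+ K := AddMonoidHom.id K + (τ : K →+ K)
  let De : K →+ K := AddMonoidHom.id K - (τ : K →+ K)
  have hTr : ∀ w, Tr w = w + τ w := fun w => rfl
  have hDe : ∀ w, De w = w - τ w := fun w => rfl
  have hTrk : Nat.card Tr.ker ≤ p ^ m := by
    refine (Nat.card_le_card_of_injective
      (fun w : Tr.ker => (⟨w, by
        have h1 : (w : K) + τ w = 0 := w.2
        rw [← hτ' w, neg_one_mul]
        exact eq_neg_of_add_eq_zero_right h1⟩ : {x : K // x ^ p ^ m = (-1) * x})) ?_).trans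
        (card_roots_le (p ^ m) hN (-1 : K))
    intro x y hxy
    exact Subtype.ext (congrArg (fun z : {x : K // x ^ p ^ m = (-1) * x} => (z : K)) hxy)
  have hDek : Nat.card De.ker ≤ p ^ m := by
    refine (Nat.card_le_card_of_injective
      (fun w : De.ker => (⟨w, by
        have h1 : (w : K) - τ w = 0 := w.2
        rw [← hτ' w, one_mul]
        exact (sub_eq_zero.1 h1).symm⟩ : {x : K // x ^ p ^ m = 1 * x})) ?_).trans
        (card_roots_le (p ^ m) hN (1 : K))
    intro x y hxy
    exact Subtype.ext (congrArg (fun z : {x : K // x ^ p ^ m = 1 * x} => (z : K)) hxy)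
  have hcard2 : Nat.card K = p ^ m * p ^ m := by rw [hK, ham, two_mul, pow_add]
  have hDr : Nat.card De.ker * Nat.card De.range = p ^ m * p ^ m := by
    rw [← hcard2, ← De.ker.card_mul_index, AddSubgroup.index_ker]
  have hTrr : Nat.card Tr.ker * Nat.card Tr.range = p ^ m * p ^ m := by
    rw [← hcard2, ← Tr.ker.card_mul_index, AddSubgroup.index_ker]
  have hDT : De.range ≤ Tr.ker := by
    rintro _ ⟨y, rfl⟩
    rw [AddMonoidHom.mem_ker, hTr, hDe, map_sub, hτ]
    ring
  have hTD : Tr.range ≤ De.ker := by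
    rintro _ ⟨y, rfl⟩
    rw [AddMonoidHom.mem_ker, hTr, hDe, map_add, hτ]
    ring
  have hpos : 0 < p ^ m := pow_pos hp.out.pos m
  have hDrange : p ^ m ≤ Nat.card De.range := by
    by_contra hcon
    push Not at hcon
    have h1 : Nat.card De.ker * Nat.card De.range ≤ p ^ m * Nat.card De.range := Nat.mul_le_mul_right _ hDek
    have h2 : p ^ m * Nat.card De.range < p ^ m * p ^ m := Nat.mul_lt_mul_of_pos_left hcon hpos
    omega
  have hTrange : p ^ m ≤ Nat.card Tr.range := by
    by_contra hcon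
    push Not at hcon
    have h1 : Nat.card Tr.ker * Nat.card Tr.range ≤ p ^ m * Nat.card Tr.range := Nat.mul_le_mul_right _ hTrk
    have h2 : p ^ m * Nat.card Tr.range < p ^ m * p ^ m := Nat.mul_lt_mul_of_pos_left hcon hpos
    omega
  have hDTeq : De.range = Tr.ker :=
    AddSubgroup.eq_of_le_of_card_ge hDT (hTrk.trans hDrange)
  have hTDeq : Tr.range = De.ker :=
    AddSubgroup.eq_of_le_of_card_ge hTD (hDek.trans hTrange)
  have hTkcard : Nat.card Tr.ker = p ^ m := le_antisymm hTrk (by rw [← hDTeq]; exact hDrange)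
  -- the group
  have hfinH : Finite (Her τ) := by
    apply Finite.of_injective (fun a : Her τ => (a.x, a.w))
    intro a b hab
    exact Her.ext (congrArg Prod.fst hab) (congrArg Prod.snd hab)
  set P : Subgroup (Her τ) := herSub τ hτ with hP
  let σ₀ : P →* P :=
    { toFun := fun a => ⟨⟨ζ * a.1.x, a.1.w⟩, by
        have h1 := (mem_herSub τ hτ a.1).1 a.2
        change a.1.w + τ a.1.w = ζ * a.1.x * τ (ζ * a.1.x)
        rw [h1, map_mul]
        linear_combination (- a.1.x * τ a.1.x) * hζτ⟩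
      map_one' := by
        apply Subtype.ext
        apply Her.ext
        · change ζ * 0 = 0
          rw [mul_zero]
        · rfl
      map_mul' := by
        intro a b
        apply Subtype.ext
        apply Her.ext
        · change ζ * (a.1.x + b.1.x) = ζ * a.1.x + ζ * b.1.x
          ring
        · change a.1.w + b.1.w + a.1.x * τ b.1.x = a.1.w + b.1.w + ζ * a.1.x * τ (ζ * b.1.x)
          rw [map_mul]
          linear_combination (- a.1.x * τ b.1.x) * hζτ }
  have hσ₀x : ∀ a : P, (σ₀ a).1.x = ζ * a.1.x := fun a => rfl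
  have hσ₀w : ∀ a : P, (σ₀ a).1.w = a.1.w := fun a => rfl
  have hσ₀i : Function.Injective σ₀ := by
    intro a b hab
    have h1 : ζ * a.1.x = ζ * b.1.x := by rw [← hσ₀x, ← hσ₀x, hab]
    have h2 : a.1.w = b.1.w := by rw [← hσ₀w a, ← hσ₀w b, hab]
    exact Subtype.ext (Her.ext (mul_left_cancel₀ hζ0 h1) h2)
  let σ : MulAut P := MulEquiv.ofBijective σ₀ ⟨hσ₀i, Finite.surjective_of_injective hσ₀i⟩
  have hσx : ∀ a : P, (σ a).1.x = ζ * a.1.x := fun a => rfl
  have hσw : ∀ a : P, (σ a).1.w = a.1.w := fun a => rfl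
  have hσnx : ∀ n : ℕ, ∀ a : P, ((σ ^ n) a).1.x = ζ ^ n * a.1.x := by
    intro n
    induction n with
    | zero => intro x; simp
    | succ n ih =>
      intro x
      rw [pow_succ', MulAut.mul_apply, hσx, ih, pow_succ', mul_assoc]
  have hσnw : ∀ n : ℕ, ∀ a : P, ((σ ^ n) a).1.w = a.1.w := by
    intro n
    induction n with
    | zero => intro x; simp
    | succ n ih =>
      intro x
      rw [pow_succ', MulAut.mul_apply, hσw, ih]
  let f : P →* Multiplicative K :=
    { toFun := fun a => Multiplicative.ofAdd a.1.x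
      map_one' := rfl
      map_mul' := fun a b => rfl }
  have hfsurj : Function.Surjective f := by
    intro c
    have h1 : c.toAdd * τ c.toAdd ∈ De.ker := by
      rw [AddMonoidHom.mem_ker, hDe, map_mul, hτ]
      ring
    rw [← hTDeq] at h1
    obtain ⟨w, hw⟩ := h1
    rw [hTr] at hw
    exact ⟨⟨⟨c.toAdd, w⟩, hw⟩, rfl⟩
  have hcoord : Coord σ ζ f := by
    refine ⟨hfsurj, fun x => rfl, ?_⟩
    intro a
    constructor
    · intro h
      have h1 : a.1.x = 0 := h
      apply Subtype.ext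
      apply Her.ext
      · rw [hσx, h1, mul_zero]
      · exact hσw a
    · intro h
      have h1 : ζ * a.1.x = a.1.x := by rw [← hσx, h]
      have h4 : (ζ - 1) * a.1.x = 0 := by rw [sub_mul, h1, one_mul, sub_self]
      rcases mul_eq_zero.1 h4 with h5 | h5
      · exact absurd (sub_eq_zero.1 h5) (hζ.ne_one hq.out.one_lt)
      · exact h5
  have hkerf : Nat.card f.ker = p ^ m := by
    rw [← hTkcard]
    refine Nat.card_congr
      { toFun := fun a => ⟨a.1.1.w, by
          have h1 : a.1.1.x = 0 := a.2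
          have h2 := (mem_herSub τ hτ a.1.1).1 a.1.2
          rw [AddMonoidHom.mem_ker, hTr, h2, h1, zero_mul]⟩
        invFun := fun w => ⟨⟨⟨0, w⟩, by
          have h1 : (w : K) + τ w = 0 := w.2
          change (w : K) + τ w = 0 * τ 0
          rw [h1, zero_mul]⟩, rfl⟩
        left_inv := ?_
        right_inv := fun w => rfl }
    intro a
    have h1 : a.1.1.x = 0 := a.2
    apply Subtype.ext
    apply Subtype.ext
    apply Her.ext
    · exact h1.symm
    · rfl
  have hcardP : Nat.card P = p ^ (3 * m) := by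
    rw [← f.ker.card_mul_index, Subgroup.index_ker, MonoidHom.range_eq_top.2 hfsurj, hkerf,
      Nat.card_congr (Subgroup.topEquiv (G := Multiplicative K)).toEquiv]
    change p ^ m * Nat.card K = _
    rw [hK, ham, ← pow_add]
    congr 1
    ring
  refine ⟨P, inferInstance, inferInstance, σ, f, IsPGroup.of_card hcardP, ?_, ?_, hcoord, hcardP⟩
  · apply minAct_of (p := p) (q := q) ha hK hζ σ f hcoord
    intro H hH
    -- `ker f ≤ H`
    obtain ⟨v, hv, hv1⟩ := hH (Multiplicative.ofAdd 1)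
    have hvx : v.1.x = 1 := hv1
    have hker : ∀ z : P, f z = 1 → z ∈ H := by
      intro z hz
      have hzx : z.1.x = 0 := hz
      have hzw : z.1.w ∈ Tr.ker := by
        have h2 := (mem_herSub τ hτ z.1).1 z.2
        rw [AddMonoidHom.mem_ker, hTr, h2, hzx, zero_mul]
      rw [← hDTeq] at hzw
      obtain ⟨y, hy⟩ := hzw
      rw [hDe] at hy
      obtain ⟨u, hu, hu1⟩ := hH (Multiplicative.ofAdd y)
      have hux : u.1.x = y := hu1
      have h3 : z = u * v * (v * u)⁻¹ := by
        rw [eq_mul_inv_iff_mul_eq]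
        apply Subtype.ext
        apply Her.ext
        · change z.1.x + (v.1.x + u.1.x) = u.1.x + v.1.x
          rw [hzx]; ring
        · change z.1.w + (v.1.w + u.1.w + v.1.x * τ u.1.x) + z.1.x * τ (v.1.x + u.1.x) =
            u.1.w + v.1.w + u.1.x * τ v.1.x
          rw [hzx, hvx, hux, map_one, ← hy]
          ring
      rw [h3]
      exact mul_mem (mul_mem hu hv) (inv_mem (mul_mem hv hu))
    rw [eq_top_iff]
    intro x _
    obtain ⟨y, hy, hyx⟩ := hH (f x)
    have h1 : y⁻¹ * x ∈ H := hker _ (by rw [map_mul, map_inv, hyx, inv_mul_cancel])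
    have h2 : x = y * (y⁻¹ * x) := by group
    rw [h2]
    exact mul_mem hy h1
  · ext a : 1
    apply Subtype.ext
    apply Her.ext
    · rw [hσnx, hζ.pow_eq_one, one_mul]; rfl
    · rw [hσnw]; rfl

include hpq ha hK hζ in
theorem exists_max (a₀ : ℕ) (ha₀ : a₀ = if a % 2 = 1 then a else 3 * a / 2) :
    ∃ (P : Type) (_ : Group P) (_ : Finite P) (σ : MulAut P) (f : P →* Multiplicative K),
    IsPGroup p P ∧ MinAct σ ∧ σ ^ q = 1 ∧ Coord σ ζ f ∧ Nat.card P = p ^ a₀ := by
  by_cases hodd : a % 2 = 1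
  · rw [ha₀, if_pos hodd]
    exact exists_max_odd ha hK hζ
  · have hpos : 0 < a := by rw [ha]; exact orderOf_pos_of_ne hpq
    obtain ⟨m, hm⟩ : ∃ m, a = 2 * m := ⟨a / 2, by omega⟩
    have h1 : a₀ = 3 * m := by
      rw [ha₀, if_neg hodd]; omega
    rw [h1]
    exact exists_max_even ha hK hζ m hm (by omega)

end

end Cfsg.Agent.H583.SchmidtMax
end

-- part: S4395
section
set_option autoImplicit false
universe u
open Cfsg

namespace Cfsg.Agent.S4395

open Cfsg.Agent.H583.MinAction Cfsg.Agent.H583.SchmidtCoord Cfsg.Agent.H583.SchmidtField in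
/-- Let p ≠ q be primes, r ≥ 1, a the multiplicative order of p modulo q, and a₀ = a when a is odd, a₀ = 3a/2 when a is even. Call a finite group minimal non-p-nilpotent when it has no normal p-complement but every proper subgroup has one. Then there is a minimal non-p-nilpotent group G₀ of order p^a₀ · q^r such that every minimal non-p-nilpotent group of order p^t · q^r (any t) is a quotient of G₀ by a central subgroup. -/
theorem result (p q r : ℕ) [Fact p.Prime] [Fact q.Prime] (hpq : p ≠ q) (hr : 1 ≤ r) (a a₀ : ℕ)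
    (ha : a = orderOf (p : ZMod q)) (ha₀ : a₀ = if a % 2 = 1 then a else 3 * a / 2) :
    ∃ (G₀ : Type u) (_ : Group G₀) (_ : Finite G₀),
      (¬ Cfsg.HasNormalPComplement p G₀ ∧ ∀ K : Subgroup G₀, K ≠ ⊤ → Cfsg.HasNormalPComplement p ↥K) ∧ Nat.card G₀ = p ^ a₀ * q ^ r ∧
      ∀ (X : Type u) [Group X] [Finite X], (¬ Cfsg.HasNormalPComplement p X ∧ ∀ K : Subgroup X, K ≠ ⊤ → Cfsg.HasNormalPComplement p ↥K) →
        (∃ t : ℕ, Nat.card X = p ^ t * q ^ r) → ∃ φ : G₀ →* X, Function.Surjective φ ∧ φ.ker ≤ Subgroup.center G₀ := by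
  have hp : p.Prime := Fact.out
  have hq : q.Prime := Fact.out
  have hapos : 0 < a := by rw [ha]; exact orderOf_pos_of_ne hpq
  -- the field
  have hK : Nat.card (GaloisField p a) = p ^ a := GaloisField.card p a hapos.ne'
  have hdvd : q ∣ Nat.card (GaloisField p a)ˣ := by
    rw [Nat.card_units, hK]
    have h1 : p ^ a ≡ 1 [MOD q] := modEq_of_orderOf_dvd (by rw [ha])
    exact (Nat.modEq_iff_dvd' (pow_pos hp.pos a)).1 h1.symm
  obtain ⟨ζ', hζ'⟩ := exists_prime_orderOf_dvd_card' q hdvd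
  set ζ : GaloisField p a := (ζ' : GaloisField p a) with hζdef
  have hζ : IsPrimitiveRoot ζ q := by
    have h1 : orderOf ζ = q := by rw [hζdef, orderOf_units, hζ']
    have h2 := IsPrimitiveRoot.orderOf ζ
    rwa [h1] at h2
  obtain ⟨P₀, _, _, σ₀, f₀, hP₀, hmin₀, hσ₀, hf₀, hcard₀⟩ :=
    Cfsg.Agent.H583.SchmidtMax.exists_max hpq ha hK hζ a₀ ha₀
  obtain ⟨G₀, _, _, hG₀min, hG₀card, hG₀⟩ :=
    Cfsg.Agent.H583.SchmidtTop.exists_group.{u} hpq hP₀ hmin₀ hσ₀ r hr
  refine ⟨G₀, inferInstance, inferInstance, hG₀min, by rw [hG₀card, hcard₀], ?_⟩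
  intro X _ _ hX hcardX
  obtain ⟨t, ht⟩ := hcardX
  obtain ⟨hprop, hnn, hnormal⟩ := S0132.result hX.1 hX.2
  obtain ⟨P⟩ : Nonempty (Sylow p X) := inferInstance
  have hPn := hnormal P
  have hP1 : (P : Subgroup X) ≠ ⊥ := by
    intro h1
    apply hX.1
    refine ⟨P, ⊤, inferInstance, ?_⟩
    rw [h1]
    exact Subgroup.isComplement'_top_bot
  obtain ⟨q', hq', g, σ, hpq', ⟨s, hs⟩, hsup, hmin, hσ, hσg⟩ :=
    Cfsg.Agent.H583.SchmidtAct.exists_minAct ⟨hnn, hprop⟩ P hPn hP1
  have hcard := Cfsg.Agent.H583.SchmidtSemi.card_eq hpq' (P : Subgroup X) hPn P.isPGroup' g s hs hsup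
  obtain ⟨m, hm⟩ := IsPGroup.iff_card.1 P.isPGroup'
  have hg1 : g ≠ 1 := by
    rintro rfl
    apply hmin.ne_one
    ext x
    rw [hσg]
    simp
  have hs0 : s ≠ 0 := by
    rintro rfl
    rw [pow_zero, orderOf_eq_one_iff] at hs
    exact hg1 hs
  have hqq : q' = q := by
    have h1 : q' ∣ p ^ t * q ^ r := by
      rw [← ht, hcard]
      exact Dvd.dvd.mul_left (dvd_pow_self q' hs0) _
    rcases (Nat.Prime.dvd_mul hq'.out).1 h1 with h2 | h2
    · exact absurd ((Nat.prime_dvd_prime_iff_eq hq'.out hp).1 (hq'.out.dvd_of_dvd_pow h2)).symm hpq'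
    · exact (Nat.prime_dvd_prime_iff_eq hq'.out hq).1 (hq'.out.dvd_of_dvd_pow h2)
  subst hqq
  have hsr : s = r := by
    have h1 : p ^ m * q' ^ s = p ^ t * q' ^ r := by rw [← hm, ← hcard, ht]
    have h2 := congrArg (fun n => n.factorization q') h1
    rw [Nat.factorization_mul (pow_ne_zero _ hp.ne_zero) (pow_ne_zero _ hq.ne_zero),
      Nat.factorization_mul (pow_ne_zero _ hp.ne_zero) (pow_ne_zero _ hq.ne_zero),
      Nat.Prime.factorization_pow hp, Nat.Prime.factorization_pow hp, Nat.Prime.factorization_pow hq,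
      Nat.Prime.factorization_pow hq, Finsupp.add_apply, Finsupp.add_apply, Finsupp.single_eq_same,
      Finsupp.single_eq_same, Finsupp.single_eq_of_ne hpq.symm, Finsupp.single_eq_of_ne hpq.symm, zero_add,
      zero_add] at h2
    exact h2
  subst hsr
  obtain ⟨j, hj, f, hf⟩ := exists_coord hpq P.isPGroup' hmin hσ ha hK hζ
  obtain ⟨hminj, hσj, -⟩ := minAct_pow hq hj hmin hσ
  obtain ⟨h, hsurj, hequiv, hker⟩ := Cfsg.Agent.H583.SchmidtFibre.exists_hom hpq ha hK hζ a₀ ha₀ hP₀ P.isPGroup'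
    hmin₀ hminj hσ₀ hσj hf₀ hf hcard₀
  have hordj : orderOf (g ^ j) = q' ^ s := by
    rw [Nat.Coprime.orderOf_pow]
    · exact hs
    · rw [hs]
      exact Nat.Coprime.pow_left s hj.symm
  have hzp : Subgroup.zpowers (g ^ j) = Subgroup.zpowers g := by
    apply Subgroup.eq_of_le_of_card_ge
    · rw [Subgroup.zpowers_le]
      exact pow_mem (Subgroup.mem_zpowers g) j
    · rw [Nat.card_zpowers, Nat.card_zpowers, hordj, hs]
  have hσgj : ∀ n : ℕ, ∀ x : (P : Subgroup X), (((σ ^ n) x : (P : Subgroup X)) : X) = g ^ n * x * (g ^ n)⁻¹ := by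
    intro n
    induction n with
    | zero => intro x; simp
    | succ n ih =>
      intro x
      rw [pow_succ', MulAut.mul_apply, hσg, ih, pow_succ']
      group
  apply hG₀ X (P : Subgroup X) (g ^ j)
  · rw [hzp]
    exact Cfsg.Agent.H583.SchmidtSemi.disj hpq' (P : Subgroup X) hPn P.isPGroup' g s hs hsup
  · rw [hzp]; exact hsup
  · exact hordj
  · refine ⟨(P : Subgroup X).subtype.comp h, ?_, ?_, ?_⟩
    · rw [MonoidHom.range_comp, MonoidHom.range_eq_top.2 hsurj, ← MonoidHom.range_eq_map,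
        Subgroup.range_subtype]
    · intro x
      change ((h (σ₀ x) : (P : Subgroup X)) : X) = g ^ j * (h x : X) * (g ^ j)⁻¹
      rw [hequiv, hσgj]
    · intro x hx
      apply hker
      exact Subtype.ext hx

end Cfsg.Agent.S4395
end
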