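import Mathlib
import Cfsg.Agent.S0014
import Cfsg.Agent.Schreier.Tools2
import Cfsg.Agent.Lib.FrattiniPGroup
import Cfsg.Agent.TwoFusion.RankTwoWreath
import Cfsg.Agent.LFourB.RelExt
import Cfsg.Agent.S0071
import Cfsg.Statements.S4418
import Cfsg.Agent.Lib.Cores
import Cfsg.Agent.S0205
import Cfsg.Agent.S0949
import Cfsg.Agent.FastGrp
import Cfsg.Agent.Prune
set_option linter.all false
prune_inst 0x7f00000000000000000000000000000000000000000000000000000000000000000000000000000000000000000000000000000000000000000000000000000000000000000000000000000000000000003fffffffffffffffffffffffffffbeffbdffffffff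
open scoped Cfsg.Agent.FastGrp

-- part: H588/MetaAut
section
/-!
# Automorphisms of odd order of two-generator 2-groups with a cyclic normal subgroup

`Q` is a finite 2-group, `α` an automorphism of odd order, `α ≠ 1`.
-/

set_option autoImplicit false

namespace Cfsg.Agent.H588.MetaAut

open Subgroup

section Basic

variable {Q : Type*} [Group Q] [Finite Q]

/-- An automorphism of odd order of a two-generator 2-group which fixes a maximal subgroup is trivial. -/
theorem eq_one_of_inv (hQ : IsPGroup 2 Q) {c q : Q} (hcl : Subgroup.closure ({c, q} : Set Q) = ⊤)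
    (α : MulAut Q) (hα : Odd (orderOf α)) (M : Subgroup Q) (hM : M.index = 2)
    (hαM : ∀ x ∈ M, α x ∈ M) : α = 1 := by
  classical
  have : Fact (Nat.Prime 2) := ⟨Nat.prime_two⟩
  obtain ⟨d, hd⟩ := hQ.index (frattini Q)
  have hd2 : d ≤ 2 := by
    have h1 := (Cfsg.Agent.S0014.result 2 d hQ hd).2 {c, q} (by simpa using hcl)
    exact h1.trans Finset.card_le_two
  have hFM : frattini Q ≤ M := by
    have hc : IsCoatom M := by
      constructor
      · rintro rfl
        rw [Subgroup.index_top] at hM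
        omega
      · intro K hK
        have h1 := Subgroup.relIndex_mul_index hK.le
        rw [hM] at h1
        have h2 : M.relIndex K ≠ 1 := by
          intro h3
          exact hK.not_ge (Subgroup.relIndex_eq_one.1 h3)
        have h4 : K.index ∣ 2 := Dvd.intro_left _ h1
        rcases (Nat.dvd_prime Nat.prime_two).1 h4 with h5 | h5
        · exact Subgroup.index_eq_one.1 h5
        · rw [h5] at h1
          omega
    exact frattini_le_coatom hc
  have hrel : (frattini Q).relIndex M ≤ 2 := by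
    have h1 := Subgroup.relIndex_mul_index hFM
    rw [hM, hd] at h1
    have h2 : (2 : ℕ) ^ d ≤ 2 ^ 2 := Nat.pow_le_pow_right (by norm_num) hd2
    omega
  -- two elements of `M` outside `Φ` are congruent
  have hcong : ∀ x ∈ M, ∀ y ∈ M, x ∉ frattini Q → y ∉ frattini Q → x⁻¹ * y ∈ frattini Q := by
    intro x hx y hy hxF hyF
    have hrel2 : (frattini Q).relIndex M = 2 := by
      have h1 : (frattini Q).relIndex M ≠ 0 := Subgroup.index_ne_zero_of_finite
      have h2 : (frattini Q).relIndex M ≠ 1 := by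
        intro h
        exact hxF (Subgroup.relIndex_eq_one.1 h hx)
      omega
    have h1 := Subgroup.mul_mem_iff_of_index_two (H := (frattini Q).subgroupOf M) hrel2
      (a := (⟨x, hx⟩ : M)⁻¹) (b := ⟨y, hy⟩)
    have h2 : ((⟨x, hx⟩ : M)⁻¹ ∈ (frattini Q).subgroupOf M ↔ (⟨y, hy⟩ : M) ∈ (frattini Q).subgroupOf M) := by
      simp only [inv_mem_iff, Subgroup.mem_subgroupOf]
      exact ⟨fun h => absurd h hxF, fun h => absurd h hyF⟩
    have h3 := h1.2 h2
    simpa only [Subgroup.mem_subgroupOf, _root_.Subgroup.coe_mul, _root_.InvMemClass.coe_inv] using h3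
  have hchar : ∀ x : Q, x ∈ frattini Q ↔ α x ∈ frattini Q := by
    intro x
    have h1 := Subgroup.characteristic_iff_comap_eq.1 (inferInstance : (frattini Q).Characteristic) α
    have h2 : x ∈ (frattini Q).comap α.toMonoidHom ↔ x ∈ frattini Q := by rw [h1]
    exact h2.symm
  have hMα : ∀ x : Q, x ∈ M ↔ α x ∈ M := by
    have h1 : M ≤ M.comap α.toMonoidHom := hαM
    have h2 : M = M.comap α.toMonoidHom := by
      apply Subgroup.eq_of_le_of_card_ge h1
      apply Nat.card_le_card_of_injective (fun y : M.comap α.toMonoidHom => (⟨α y, y.2⟩ : M))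
      intro y z hyz
      exact Subtype.ext (α.injective (congrArg Subtype.val hyz))
    intro x
    have h3 : x ∈ M ↔ x ∈ M.comap α.toMonoidHom := by rw [← h2]
    exact h3
  have key : ∀ x ∈ M, x⁻¹ * α x ∈ frattini Q := by
    intro x hx
    by_cases hxF : x ∈ frattini Q
    · exact Subgroup.mul_mem _ (Subgroup.inv_mem _ hxF) ((hchar x).1 hxF)
    · exact hcong x hx _ (hαM x hx) hxF (fun h => hxF ((hchar x).2 h))
  have key2 : ∀ x : Q, x⁻¹ * α (α x) ∈ frattini Q := by
    intro x
    by_cases hx : x ∈ M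
    · have h1 := Subgroup.mul_mem _ (key x hx) (key _ (hαM x hx))
      have h2 : x⁻¹ * α x * ((α x)⁻¹ * α (α x)) = x⁻¹ * α (α x) := by group
      rwa [h2] at h1
    · have hx2 : α x ∉ M := fun h => hx ((hMα x).2 h)
      set κ := x⁻¹ * α x with hκ
      have hκM : κ ∈ M := by
        rw [hκ, Subgroup.mul_mem_iff_of_index_two hM, inv_mem_iff]
        exact ⟨fun h => absurd h hx, fun h => absurd h hx2⟩
      have h1 : x⁻¹ * α (α x) = κ ^ 2 * (κ⁻¹ * α κ) := by
        have h2 : α κ = (α x)⁻¹ * α (α x) := by rw [hκ, map_mul, map_inv]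
        rw [h2, hκ, pow_two]; group
      rw [h1]
      exact Subgroup.mul_mem _ (Cfsg.Agent.Lib.FrattiniPGroup.pow_mem_frattini hQ κ) (key κ hκM)
  have h1 : α ^ 2 = 1 := by
    apply Cfsg.Agent.Schreier.Tools2.eq_one_of_coprime hQ
    · exact (hα.coprime_two_right).coprime_dvd_left (orderOf_pow_dvd 2)
    · intro t
      have h2 := key2 t
      have h3 : (α ^ 2) t * t⁻¹ = t * (t⁻¹ * α (α t)) * t⁻¹ := by
        rw [pow_two, MulAut.mul_apply]; group
      rw [h3]
      exact (inferInstance : (frattini Q).Normal).conj_mem _ h2 t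
  have h2 : orderOf α ∣ 2 := orderOf_dvd_of_pow_eq_one h1
  rcases (Nat.dvd_prime Nat.prime_two).1 h2 with h3 | h3
  · exact orderOf_eq_one_iff.1 h3
  · rw [h3] at hα
    exact absurd hα (by decide)

omit [Finite Q] in
/-- For a maximal subgroup `M` containing `c` and not `q`: `q ^ j * c ^ k ∈ M` iff `j` is even. -/
theorem mem_iff_even {M : Subgroup Q} (hM : M.index = 2) {c q : Q} (hc : c ∈ M) (hq : q ∉ M) (j k : ℤ) :
    q ^ j * c ^ k ∈ M ↔ Even j := by
  have h1 : q ^ j * c ^ k ∈ M ↔ q ^ j ∈ M := Subgroup.mul_mem_cancel_right _ (Subgroup.zpow_mem _ hc k)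
  rw [h1]
  have hsq : ∀ i : ℤ, q ^ (i + i) ∈ M := by
    intro i
    rw [zpow_add]
    exact Subgroup.mul_self_mem_of_index_two hM _
  constructor
  · intro h
    by_contra hodd
    rw [Int.not_even_iff_odd] at hodd
    obtain ⟨i, rfl⟩ := hodd
    rw [two_mul, zpow_add, zpow_one, Subgroup.mul_mem_cancel_left _ (hsq i)] at h
    exact hq h
  · rintro ⟨i, rfl⟩
    exact hsq i

/-- If `⟨c⟩` is normal with cyclic quotient generated by `q`, and `α ≠ 1` has odd order then `c` and `α c`
generate `Q`. -/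
theorem closure_eq_top (hQ : IsPGroup 2 Q) {c q : Q} (hcq : ∀ x : Q, ∃ j k : ℤ, x = q ^ j * c ^ k)
    (α : MulAut Q) (hα : Odd (orderOf α)) (hne : α ≠ 1) :
    Subgroup.closure ({c, α c} : Set Q) = ⊤ := by
  classical
  have : Fact (Nat.Prime 2) := ⟨Nat.prime_two⟩
  by_contra hcl
  obtain ⟨M, hMco, hM⟩ := (eq_top_or_exists_le_coatom (Subgroup.closure ({c, α c} : Set Q))).resolve_left hcl
  have hind : M.index = 2 := Cfsg.Agent.Lib.FrattiniPGroup.index_of_coatom hQ hMco
  have hc : c ∈ M := hM (Subgroup.subset_closure (by simp))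
  have hαc : α c ∈ M := hM (Subgroup.subset_closure (by simp))
  have hq : q ∉ M := by
    intro hq
    apply hMco.1
    rw [eq_top_iff]
    intro x _
    obtain ⟨j, k, rfl⟩ := hcq x
    exact Subgroup.mul_mem _ (Subgroup.zpow_mem _ hq _) (Subgroup.zpow_mem _ hc _)
  let M' : Subgroup Q := M.comap α.toMonoidHom
  have hind' : M'.index = 2 := by
    rw [← hind]
    exact Subgroup.index_comap_of_surjective _ α.surjective
  have hc' : c ∈ M' := hαc
  have hq' : q ∉ M' := by
    intro hq'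
    have h1 : M' = ⊤ := by
      rw [eq_top_iff]
      intro x _
      obtain ⟨j, k, rfl⟩ := hcq x
      exact Subgroup.mul_mem _ (Subgroup.zpow_mem _ hq' _) (Subgroup.zpow_mem _ hc' _)
    rw [h1, Subgroup.index_top] at hind'
    omega
  apply hne
  refine eq_one_of_inv hQ (c := c) (q := q) ?_ α hα M hind ?_
  · rw [eq_top_iff]
    intro x _
    obtain ⟨j, k, rfl⟩ := hcq x
    exact Subgroup.mul_mem _ (Subgroup.zpow_mem _ (Subgroup.subset_closure (by simp)) _)
      (Subgroup.zpow_mem _ (Subgroup.subset_closure (by simp)) _)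
  · intro x hx
    obtain ⟨j, k, rfl⟩ := hcq x
    have h1 := (mem_iff_even hind hc hq j k).1 hx
    exact (mem_iff_even hind' hc' hq' j k).2 h1

theorem pow_four_mul {H : Type*} [Group H]
    (h : ∀ x y : H, ∃ w : H, (∀ t : H, w * t = t * w) ∧ w * w = 1 ∧ y * x = x * y * w) (x y : H) :
    (x * y) ^ 4 = x ^ 4 * y ^ 4 := by
  have hsq : ∀ x y : H, x * x * y = y * (x * x) := by
    intro x y
    obtain ⟨w, hw1, hw2, hw3⟩ := h y x
    -- `x * y = y * x * w`
    calc x * x * y = x * (x * y) := by group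
      _ = x * (y * x * w) := by rw [hw3]
      _ = (x * y) * (x * w) := by group
      _ = (y * x * w) * (x * w) := by rw [hw3]
      _ = y * x * (w * x) * w := by group
      _ = y * x * (x * w) * w := by rw [hw1]
      _ = y * (x * x) * (w * w) := by group
      _ = y * (x * x) := by rw [hw2, mul_one]
  obtain ⟨w, hw1, hw2, hw3⟩ := h x y
  have h2 : (x * y) * (x * y) = x * x * (y * y) * w := by
    calc (x * y) * (x * y) = x * (y * x) * y := by group
      _ = x * (x * y * w) * y := by rw [hw3]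
      _ = x * x * y * (w * y) := by group
      _ = x * x * y * (y * w) := by rw [hw1]
      _ = x * x * (y * y) * w := by group
  have h4 : ∀ t : H, t ^ 4 = (t * t) * (t * t) := by
    intro t
    rw [pow_succ, pow_succ, pow_succ, pow_one]
    group
  rw [h4 (x * y), h2]
  calc x * x * (y * y) * w * (x * x * (y * y) * w)
      = x * x * (y * y) * (w * (x * x * (y * y))) * w := by group
    _ = x * x * (y * y) * ((x * x * (y * y)) * w) * w := by rw [hw1]
    _ = x * x * ((y * y) * (x * x)) * (y * y) * (w * w) := by group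
    _ = x * x * ((x * x) * (y * y)) * (y * y) * (w * w) := by rw [← hsq x (y * y)]
    _ = x ^ 4 * y ^ 4 := by rw [hw2, h4 x, h4 y]; group

theorem comm_of_closure {H : Type*} [Group H] {a b : H} (hcl : Subgroup.closure ({a, b} : Set H) = ⊤)
    (hab : a * b = b * a) (x y : H) : x * y = y * x := by
  have hcen : ∀ s ∈ ({a, b} : Set H), ∀ y : H, s * y = y * s := by
    intro s hs
    have h1 : Subgroup.closure ({a, b} : Set H) ≤ Subgroup.centralizer ({s} : Set H) := by
      rw [Subgroup.closure_le]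
      intro t ht
      rw [SetLike.mem_coe, Subgroup.mem_centralizer_singleton_iff]
      rcases hs with rfl | hs <;> rcases ht with rfl | ht
      · rfl
      · rw [Set.mem_singleton_iff] at ht; subst ht; exact hab.symm
      · rw [Set.mem_singleton_iff] at hs; subst hs; exact hab
      · rw [Set.mem_singleton_iff] at hs ht; subst hs; subst ht; rfl
    intro y
    have h2 : y ∈ Subgroup.centralizer ({s} : Set H) := h1 (by rw [hcl]; trivial)
    exact ((Subgroup.mem_centralizer_singleton_iff).1 h2).symm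
  have h1 : Subgroup.closure ({a, b} : Set H) ≤ Subgroup.center H := by
    rw [Subgroup.closure_le]
    intro s hs
    rw [SetLike.mem_coe, Subgroup.mem_center_iff]
    intro y
    exact (hcen s hs y).symm
  have h2 : x ∈ Subgroup.center H := h1 (by rw [hcl]; trivial)
  exact ((Subgroup.mem_center_iff.1 h2) y).symm

/-- The commutator `z` of `c` and `α c`: central, in `⟨c⟩ ∩ ⟨α c⟩`, generates the derived subgroup. -/
theorem central_comm (hQ : IsPGroup 2 Q) {c q : Q} (hcq : ∀ x : Q, ∃ j k : ℤ, x = q ^ j * c ^ k)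
    (hcn : ∀ x : Q, x * c * x⁻¹ ∈ Subgroup.zpowers c)
    (α : MulAut Q) (hα : Odd (orderOf α)) (hne : α ≠ 1) (z : Q) (hz : z = c * α c * c⁻¹ * (α c)⁻¹) :
    z ∈ Subgroup.zpowers c ∧ z ∈ Subgroup.zpowers (α c) ∧ (∀ g : Q, g * z = z * g) ∧
      (∀ x y : Q, x⁻¹ * y⁻¹ * x * y ∈ Subgroup.zpowers z) ∧ ∃ i : ℤ, α z = z ^ i := by
  classical
  have hgen := closure_eq_top hQ hcq α hα hne
  have hcn1 : ∀ x : Q, x * α c * x⁻¹ ∈ Subgroup.zpowers (α c) := by
    intro x
    obtain ⟨l, hl⟩ := Subgroup.mem_zpowers_iff.1 (hcn (α⁻¹ x))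
    refine Subgroup.mem_zpowers_iff.2 ⟨l, ?_⟩
    rw [← map_zpow, hl, map_mul, map_mul, map_inv, MulAut.apply_inv_self]
  have hzc : z ∈ Subgroup.zpowers c := by
    have h1 : z = c * (α c * c * (α c)⁻¹)⁻¹ := by rw [hz]; group
    rw [h1]
    exact Subgroup.mul_mem _ (Subgroup.mem_zpowers c) (Subgroup.inv_mem _ (hcn _))
  have hzc1 : z ∈ Subgroup.zpowers (α c) := by
    rw [hz]
    exact Subgroup.mul_mem _ (hcn1 c) (Subgroup.inv_mem _ (Subgroup.mem_zpowers _))
  have hzcen : z ∈ Subgroup.center Q := by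
    have h1 : Subgroup.closure ({c, α c} : Set Q) ≤ Subgroup.centralizer ({z} : Set Q) := by
      rw [Subgroup.closure_le]
      intro t ht
      rw [SetLike.mem_coe, Subgroup.mem_centralizer_singleton_iff]
      rcases ht with rfl | ht
      · obtain ⟨l, hl⟩ := Subgroup.mem_zpowers_iff.1 hzc
        rw [← hl]
        exact (Commute.refl t).zpow_right l
      · rw [Set.mem_singleton_iff] at ht; subst ht
        obtain ⟨l, hl⟩ := Subgroup.mem_zpowers_iff.1 hzc1
        rw [← hl]
        exact (Commute.refl _).zpow_right l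
    rw [Subgroup.mem_center_iff]
    intro g
    have h2 : g ∈ Subgroup.centralizer ({z} : Set Q) := h1 (by rw [hgen]; trivial)
    exact (Subgroup.mem_centralizer_singleton_iff).1 h2
  have hzcomm : ∀ g : Q, g * z = z * g := Subgroup.mem_center_iff.1 hzcen
  -- `Q / ⟨z⟩` is commutative
  have hZn : (Subgroup.zpowers z).Normal := ⟨fun n hn g => by
    obtain ⟨l, rfl⟩ := Subgroup.mem_zpowers_iff.1 hn
    have h1 : g * z ^ l * g⁻¹ = z ^ l := by
      rw [← conj_zpow, hzcomm g, mul_inv_cancel_right]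
    rw [h1]; exact hn⟩
  have hder : ∀ x y : Q, x⁻¹ * y⁻¹ * x * y ∈ Subgroup.zpowers z := by
    intro x y
    have hclq : Subgroup.closure ({(QuotientGroup.mk c : Q ⧸ Subgroup.zpowers z), QuotientGroup.mk (α c)} :
        Set (Q ⧸ Subgroup.zpowers z)) = ⊤ := by
      have h1 := congrArg (Subgroup.map (QuotientGroup.mk' (Subgroup.zpowers z))) hgen
      rw [MonoidHom.map_closure, Subgroup.map_top_of_surjective _ (QuotientGroup.mk'_surjective _)] at h1
      rw [← h1]
      congr 1
      simp [Set.image_pair]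
    have hab : (QuotientGroup.mk c : Q ⧸ Subgroup.zpowers z) * QuotientGroup.mk (α c) =
        QuotientGroup.mk (α c) * QuotientGroup.mk c := by
      rw [← QuotientGroup.mk_mul, ← QuotientGroup.mk_mul, eq_comm, QuotientGroup.eq]
      have h1 : (α c * c)⁻¹ * (c * α c) = (α c * c)⁻¹ * z * (α c * c) := by rw [hz]; group
      rw [h1, hzcomm, mul_assoc, inv_mul_cancel, mul_one]
      exact Subgroup.mem_zpowers z
    have h1 := comm_of_closure hclq hab (QuotientGroup.mk x) (QuotientGroup.mk y)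
    rw [← QuotientGroup.mk_mul, ← QuotientGroup.mk_mul, eq_comm, QuotientGroup.eq] at h1
    have h2 : (y * x)⁻¹ * (x * y) = x⁻¹ * y⁻¹ * x * y := by group
    rwa [h2] at h1
  refine ⟨hzc, hzc1, hzcomm, hder, ?_⟩
  have h1 : α z = (α c)⁻¹⁻¹ * (α (α c))⁻¹⁻¹ * (α c)⁻¹ * (α (α c))⁻¹ := by
    rw [hz]; simp only [_root_.map_mul, _root_.map_inv, _root_.inv_inv]
  have h2 := hder (α c)⁻¹ (α (α c))⁻¹
  rw [← h1] at h2
  obtain ⟨i, hi⟩ := Subgroup.mem_zpowers_iff.1 h2
  exact ⟨i, hi.symm⟩

/-- If the commutator of `c` and `α c` is a fourth power in `⟨c⟩` then it is trivial. -/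
theorem comm_of_pow_four (hQ : IsPGroup 2 Q) {c q : Q} (hcq : ∀ x : Q, ∃ j k : ℤ, x = q ^ j * c ^ k)
    (hcn : ∀ x : Q, x * c * x⁻¹ ∈ Subgroup.zpowers c)
    (α : MulAut Q) (hα : Odd (orderOf α)) (hne : α ≠ 1) (k : ℤ)
    (hk : c * α c * c⁻¹ * (α c)⁻¹ = c ^ (4 * k)) : c * α c = α c * c := by
  classical
  have hgen := closure_eq_top hQ hcq α hα hne
  set z := c * α c * c⁻¹ * (α c)⁻¹ with hz
  obtain ⟨hzc, hzc1, hzcomm, hder, hαz⟩ := central_comm hQ hcq hcn α hα hne z hz
  by_contra hcomm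
  have hz1 : z ≠ 1 := by
    intro h
    apply hcomm
    have h1 : c * α c = z * (α c * c) := by rw [hz]; group
    rw [h1, h, one_mul]
  -- modulo `z ^ 2`
  have hZ2n : (Subgroup.zpowers (z ^ 2)).Normal := ⟨fun n hn g => by
    obtain ⟨l, rfl⟩ := Subgroup.mem_zpowers_iff.1 hn
    have h1 : g * (z ^ 2) ^ l * g⁻¹ = (z ^ 2) ^ l := by
      rw [← conj_zpow, ← conj_pow, hzcomm g, mul_inv_cancel_right]
    rw [h1]; exact hn⟩
  let R := Q ⧸ Subgroup.zpowers (z ^ 2)
  let π : Q →* R := QuotientGroup.mk' (Subgroup.zpowers (z ^ 2))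
  have hπ2 : π z * π z = 1 := by
    rw [← map_mul, ← pow_two]
    exact (QuotientGroup.eq_one_iff _).2 (Subgroup.mem_zpowers _)
  have hπ1 : π z ≠ 1 := by
    intro h
    have h1 : z ∈ Subgroup.zpowers (z ^ 2) := (QuotientGroup.eq_one_iff _).1 h
    obtain ⟨l, hl⟩ := Subgroup.mem_zpowers_iff.1 h1
    have : Fact (Nat.Prime 2) := ⟨Nat.prime_two⟩
    obtain ⟨s, hs⟩ := (IsPGroup.iff_orderOf.1 hQ) z
    have h2 : z ^ (2 * l - 1) = 1 := by
      rw [zpow_sub, zpow_one, zpow_mul]
      have h3 : (z ^ (2 : ℤ)) ^ l = z := by exact_mod_cast hl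
      rw [h3, mul_inv_cancel]
    have h3 := orderOf_dvd_iff_zpow_eq_one.2 h2
    rw [hs] at h3
    rcases Nat.eq_zero_or_pos s with rfl | hs0
    · rw [pow_zero, orderOf_eq_one_iff] at hs
      exact hz1 hs
    · have h4 : (2 : ℤ) ∣ 2 * l - 1 := by
        refine dvd_trans ?_ h3
        exact_mod_cast dvd_pow_self 2 hs0.ne'
      omega
  have hR : ∀ x y : R, ∃ w : R, (∀ t : R, w * t = t * w) ∧ w * w = 1 ∧ y * x = x * y * w := by
    intro x y
    obtain ⟨x, rfl⟩ := QuotientGroup.mk'_surjective _ x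
    obtain ⟨y, rfl⟩ := QuotientGroup.mk'_surjective _ y
    obtain ⟨i, hi⟩ := Subgroup.mem_zpowers_iff.1 (hder y x)
    refine ⟨π (z ^ i), ?_, ?_, ?_⟩
    · intro t
      obtain ⟨t, rfl⟩ := QuotientGroup.mk'_surjective _ t
      change π (z ^ i) * π t = π t * π (z ^ i)
      rw [← map_mul, ← map_mul]
      congr 1
      exact ((Commute.zpow_left (show Commute z t from (hzcomm t).symm) i))
    · rw [map_zpow, ← (Commute.refl (π z)).mul_zpow i, hπ2, one_zpow]
    · change π y * π x = π x * π y * π (z ^ i)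
      rw [← map_mul, ← map_mul, ← map_mul, hi]
      congr 1
      group
  have h4m := pow_four_mul hR
  have hcen4 : ∀ x y : R, x ^ 4 * y ^ 4 = y ^ 4 * x ^ 4 := by
    intro x y
    obtain ⟨w, hw1, hw2, hw3⟩ := hR x y
    have h1 : (y * x) ^ 4 = (x * y) ^ 4 * w ^ 4 := by
      rw [hw3, (show Commute (x * y) w from (hw1 _).symm).mul_pow]
    have h2 : w ^ 4 = 1 := by
      rw [show (4 : ℕ) = 2 * 2 from rfl, pow_mul, pow_two w, hw2, one_pow]
    rw [← h4m, ← h4m, h1, h2, mul_one]
  let P : Q →* R :=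
    { toFun := fun x => (π x) ^ (4 * k)
      map_one' := by rw [map_one, one_zpow]
      map_mul' := fun x y => by
        have h1 : ∀ t : R, t ^ (4 * k) = (t ^ 4) ^ k := by
          intro t
          rw [zpow_mul, ← zpow_natCast t 4]
          rfl
        rw [map_mul, h1, h1, h1, h4m, (show Commute ((π x) ^ 4) ((π y) ^ 4) from hcen4 _ _).mul_zpow] }
  have hPdef : ∀ x, P x = (π x) ^ (4 * k) := fun _ => rfl
  have hPc : P c = π z := by
    rw [hPdef, ← map_zpow, ← hk]
  have hPc1 : P (α c) = π (α z) := by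
    rw [hPdef, ← map_zpow, ← map_zpow, ← hk]
  have hrange : P.range = Subgroup.zpowers (π z) := by
    apply le_antisymm
    · rw [MonoidHom.range_eq_map, ← hgen, MonoidHom.map_closure, Subgroup.closure_le]
      rintro _ ⟨t, ht, rfl⟩
      rcases ht with rfl | ht
      · rw [hPc]; exact Subgroup.mem_zpowers _
      · rw [Set.mem_singleton_iff] at ht; subst ht
        obtain ⟨i, hi⟩ := hαz
        rw [hPc1, hi, map_zpow]
        exact Subgroup.zpow_mem _ (Subgroup.mem_zpowers _) _
    · rw [Subgroup.zpowers_le]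
      exact ⟨c, hPc⟩
  have hord : orderOf (π z) = 2 := by
    apply orderOf_eq_prime
    · rw [pow_two]; exact hπ2
    · exact hπ1
  have hker : P.ker.index = 2 := by
    rw [Subgroup.index_ker, hrange, Nat.card_zpowers, hord]
  apply hne
  refine eq_one_of_inv hQ (c := c) (q := α c) hgen α hα P.ker hker ?_
  intro x hx
  rw [MonoidHom.mem_ker, hPdef, ← map_zpow] at hx ⊢
  have h1 : x ^ (4 * k) ∈ Subgroup.zpowers (z ^ 2) := (QuotientGroup.eq_one_iff _).1 hx
  apply (QuotientGroup.eq_one_iff _).2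
  obtain ⟨l, hl⟩ := Subgroup.mem_zpowers_iff.1 h1
  obtain ⟨i, hi⟩ := hαz
  refine Subgroup.mem_zpowers_iff.2 ⟨i * l, ?_⟩
  rw [← map_zpow, ← hl, map_zpow, map_pow, hi, zpow_mul]
  congr 1
  rw [← zpow_natCast, ← zpow_natCast, ← zpow_mul, ← zpow_mul]
  congr 1
  ring

/-- In the commutative case, `Q = ⟨c⟩ × ⟨α c⟩`. -/
theorem disjoint_of_comm (hQ : IsPGroup 2 Q) {c q : Q} (hcq : ∀ x : Q, ∃ j k : ℤ, x = q ^ j * c ^ k)
    (α : MulAut Q) (hα : Odd (orderOf α)) (hne : α ≠ 1) (hcomm : c * α c = α c * c) :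
    ∃ m : ℕ, 1 ≤ m ∧ orderOf c = 2 ^ m ∧ Subgroup.zpowers c ⊓ Subgroup.zpowers (α c) = ⊥ := by
  classical
  have : Fact (Nat.Prime 2) := ⟨Nat.prime_two⟩
  have hgen := closure_eq_top hQ hcq α hα hne
  have hall := comm_of_closure hgen hcomm
  obtain ⟨m, hm⟩ := (IsPGroup.iff_orderOf.1 hQ) c
  have hm0 : 1 ≤ m := by
    rcases Nat.eq_zero_or_pos m with rfl | h
    · exfalso
      rw [pow_zero, orderOf_eq_one_iff] at hm
      subst hm
      apply hne
      have h1 : (⊤ : Subgroup Q) = ⊥ := by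
        rw [← hgen, map_one, Set.pair_eq_singleton, Subgroup.closure_singleton_one]
      ext x
      have h2 : ∀ y : Q, y = 1 := fun y => by
        have : y ∈ (⊤ : Subgroup Q) := trivial
        rw [h1] at this
        exact this
      rw [h2 (α x), h2 ((1 : MulAut Q) x)]
    · exact h
  refine ⟨m, hm0, hm, ?_⟩
  by_contra hD
  have hm1 : orderOf (α c) = 2 ^ m := by
    rw [← hm]; exact MulEquiv.orderOf_eq α c
  -- an involution in the intersection
  have hDne : 1 < Nat.card ↥(Subgroup.zpowers c ⊓ Subgroup.zpowers (α c)) := by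
    rw [Subgroup.one_lt_card_iff_ne_bot]; exact hD
  obtain ⟨n, hn⟩ := IsPGroup.iff_card.1 (hQ.to_subgroup (Subgroup.zpowers c ⊓ Subgroup.zpowers (α c)))
  have h2dvd : 2 ∣ Nat.card ↥(Subgroup.zpowers c ⊓ Subgroup.zpowers (α c)) := by
    rw [hn] at hDne ⊢
    exact dvd_pow_self 2 (by rintro rfl; simp at hDne)
  obtain ⟨w, hw⟩ := exists_prime_orderOf_dvd_card' 2 h2dvd
  have hwo : orderOf (w : Q) = 2 := by rw [← hw]; exact Subgroup.orderOf_coe w
  have hu := Cfsg.Agent.TwoFusion.RankTwoWreath.eq_of_mem_zpowers hm0 hm w.2.1 hwo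
  have hv := Cfsg.Agent.TwoFusion.RankTwoWreath.eq_of_mem_zpowers hm0 hm1 w.2.2 hwo
  let P : Q →* Q :=
    { toFun := fun x => x ^ 2 ^ (m - 1)
      map_one' := one_pow _
      map_mul' := fun x y => (show Commute x y from hall x y).mul_pow _ }
  have hPdef : ∀ x, P x = x ^ 2 ^ (m - 1) := fun _ => rfl
  have hrange : P.range = Subgroup.zpowers (w : Q) := by
    apply le_antisymm
    · rw [MonoidHom.range_eq_map, ← hgen, MonoidHom.map_closure, Subgroup.closure_le]
      rintro _ ⟨t, ht, rfl⟩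
      rcases ht with rfl | ht
      · rw [hPdef, ← hu]; exact Subgroup.mem_zpowers _
      · rw [Set.mem_singleton_iff] at ht; subst ht
        rw [hPdef, ← hv]; exact Subgroup.mem_zpowers _
    · rw [Subgroup.zpowers_le]
      exact ⟨c, by rw [hPdef, ← hu]⟩
  have hker : P.ker.index = 2 := by
    rw [Subgroup.index_ker, hrange, Nat.card_zpowers, hwo]
  apply hne
  refine eq_one_of_inv hQ (c := c) (q := α c) hgen α hα P.ker hker ?_
  intro x hx
  rw [MonoidHom.mem_ker, hPdef] at hx ⊢
  rw [← map_pow, hx, map_one]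

end Basic

end Cfsg.Agent.H588.MetaAut
end

-- part: H588/MetaBig
section
/-!
# Metacyclic 2-groups with a cyclic quotient of order at least 4

`S` is a finite 2-group with a cyclic normal subgroup `N` and `S / N` cyclic of order at least `4`.
A subgroup of `S` with a non-trivial automorphism of odd order is homocyclic of rank 2, and `S` has no
dihedral subgroups of order `8`.
-/

set_option autoImplicit false

namespace Cfsg.Agent.H588.MetaBig

open Subgroup Cfsg.Agent.H588.MetaAut

section S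

variable {S : Type*} [Group S]

/-- the elements of `S` act on the cyclic normal subgroup `N` by powers. -/
theorem exists_conj_pow (N : Subgroup S) [hN : N.Normal] (hNc : IsCyclic N) (y : S) :
    ∃ i : ℤ, ∀ c ∈ N, y * c * y⁻¹ = c ^ i := by
  obtain ⟨n, hn⟩ := hNc.exists_generator
  have h1 : y * (n : S) * y⁻¹ ∈ N := hN.conj_mem _ n.2 y
  obtain ⟨i, hi⟩ := Subgroup.mem_zpowers_iff.1 (hn ⟨_, h1⟩)
  have hi' : (n : S) ^ i = y * (n : S) * y⁻¹ := by simpa only [_root_.SubgroupClass.coe_zpow] using congrArg Subtype.val hi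
  refine ⟨i, fun c hc => ?_⟩
  obtain ⟨k, hk⟩ := Subgroup.mem_zpowers_iff.1 (hn ⟨c, hc⟩)
  have hk' : (n : S) ^ k = c := by simpa using congrArg Subtype.val hk
  rw [← hk', ← conj_zpow, ← hi', ← zpow_mul, ← zpow_mul, mul_comm]

theorem comm_of_cyclic (N : Subgroup S) (hNc : IsCyclic N) {a b : S} (ha : a ∈ N) (hb : b ∈ N) :
    a * b = b * a := by
  obtain ⟨n, hn⟩ := hNc.exists_generator
  obtain ⟨k, hk⟩ := Subgroup.mem_zpowers_iff.1 (hn ⟨a, ha⟩)
  obtain ⟨l, hl⟩ := Subgroup.mem_zpowers_iff.1 (hn ⟨b, hb⟩)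
  have hk' : (n : S) ^ k = a := by simpa using congrArg Subtype.val hk
  have hl' : (n : S) ^ l = b := by simpa using congrArg Subtype.val hl
  rw [← hk', ← hl']
  exact ((Commute.refl (n : S)).zpow_zpow k l)

/-- an element of `S` is a square modulo `N`, or its powers in `N` are fourth powers -/
theorem dichotomy [Finite S] (hS : IsPGroup 2 S) (N : Subgroup S) [hN : N.Normal]
    (hQc : IsCyclic (S ⧸ N)) (hQ : 2 < Nat.card (S ⧸ N)) (x : S) :
    (∃ y : S, (y ^ 2)⁻¹ * x ∈ N) ∨ (∀ l : ℤ, x ^ l ∈ N → (4 : ℤ) ∣ l) := by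
  have : Fact (Nat.Prime 2) := ⟨Nat.prime_two⟩
  obtain ⟨b', hb⟩ := hQc.exists_generator
  obtain ⟨b, rfl⟩ := QuotientGroup.mk_surjective b'
  obtain ⟨j, hj⟩ := Subgroup.mem_zpowers_iff.1 (hb (QuotientGroup.mk x))
  rcases Int.even_or_odd j with ⟨i, rfl⟩ | ⟨i, hi⟩
  · left
    refine ⟨b ^ i, ?_⟩
    rw [← QuotientGroup.eq, ← hj]
    rw [pow_two, ← zpow_add, QuotientGroup.mk_zpow]
  · right
    intro l hl
    have h1 : (QuotientGroup.mk x : S ⧸ N) ^ l = 1 := by
      rw [← QuotientGroup.mk_zpow]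
      exact (QuotientGroup.eq_one_iff _).2 hl
    rw [← hj, ← zpow_mul] at h1
    have h2 := orderOf_dvd_iff_zpow_eq_one.2 h1
    have hord : orderOf (QuotientGroup.mk b : S ⧸ N) = Nat.card (S ⧸ N) :=
      orderOf_eq_card_of_forall_mem_zpowers hb
    obtain ⟨n, hn⟩ := IsPGroup.iff_card.1 (hS.to_quotient N)
    have h4 : (4 : ℤ) ∣ (orderOf (QuotientGroup.mk b : S ⧸ N) : ℤ) := by
      rw [hord, hn]
      have hn2 : 2 ≤ n := by
        by_contra h
        have : n = 0 ∨ n = 1 := by omega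
        rcases this with rfl | rfl <;> simp at hn <;> omega
      have h5 : (2 : ℕ) ^ 2 ∣ 2 ^ n := pow_dvd_pow 2 hn2
      exact_mod_cast h5
    have h5 := h4.trans h2
    have h6 : IsCoprime (4 : ℤ) j := by
      rw [hi, Int.isCoprime_iff_gcd_eq_one]
      have h7 : Int.gcd (2 : ℤ) (2 * i + 1) = 1 := by
        rw [← Int.isCoprime_iff_gcd_eq_one]
        exact ⟨-i, 1, by ring⟩
      have h8 := (Int.isCoprime_iff_gcd_eq_one.2 h7)
      exact Int.isCoprime_iff_gcd_eq_one.1 (by simpa using (IsCoprime.pow_left (m := 2) h8))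
    exact h6.dvd_of_dvd_mul_left h5

/-- the involution of a cyclic 2-group is unique -/
theorem involution_unique [Finite S] (hS : IsPGroup 2 S) (hc : IsCyclic S) {a b : S} (ha : a * a = 1) (ha1 : a ≠ 1)
    (hb : b * b = 1) (hb1 : b ≠ 1) : a = b := by
  obtain ⟨n, hn⟩ := hc.exists_generator
  have : Fact (Nat.Prime 2) := ⟨Nat.prime_two⟩
  obtain ⟨m, hm⟩ := (IsPGroup.iff_orderOf.1 hS) n
  have hao : orderOf a = 2 := orderOf_eq_prime (by rw [pow_two]; exact ha) ha1
  have hbo : orderOf b = 2 := orderOf_eq_prime (by rw [pow_two]; exact hb) hb1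
  have hm1 : 1 ≤ m := by
    rcases Nat.eq_zero_or_pos m with rfl | h
    · exfalso
      rw [pow_zero, orderOf_eq_one_iff] at hm
      apply ha1
      obtain ⟨k, hk⟩ := Subgroup.mem_zpowers_iff.1 (hn a)
      rw [← hk, hm, one_zpow]
    · exact h
  rw [Cfsg.Agent.TwoFusion.RankTwoWreath.eq_of_mem_zpowers hm1 hm (hn a) hao,
    Cfsg.Agent.TwoFusion.RankTwoWreath.eq_of_mem_zpowers hm1 hm (hn b) hbo]

/-- `S` has no dihedral subgroup of order 8. -/
theorem no_dihedral [Finite S] (hS : IsPGroup 2 S) (N : Subgroup S) [hN : N.Normal] (hNc : IsCyclic N)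
    (hQc : IsCyclic (S ⧸ N)) (hQ : 2 < Nat.card (S ⧸ N)) (u z : S) (hu : u * u = 1) (hz : z * z = 1)
    (hcomm : u * (z * u * z) = (z * u * z) * u) : z * u * z = u := by
  have huinv : u⁻¹ = u := inv_eq_of_mul_eq_one_left hu
  have hzinv : z⁻¹ = z := inv_eq_of_mul_eq_one_left hz
  by_contra hne
  set w := u * (z * u * z) with hw
  have hw1 : w ≠ 1 := by
    intro h
    apply hne
    rw [hw] at h
    have h1 := eq_inv_of_mul_eq_one_right h
    rw [huinv] at h1
    exact h1
  have hww : w * w = 1 := by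
    calc w * w = u * (z * u * z) * ((z * u * z) * u) := by rw [← hcomm, hw]
      _ = u * (z * u * (z * z) * u * z) * u := by group
      _ = u * (z * (u * u) * z) * u := by rw [hz]; group
      _ = u * (z * z) * u := by rw [hu]; group
      _ = 1 := by rw [hz]; simpa only [_root_.mul_one] using hu
  have hcommQ : ∀ a b : S ⧸ N, a * b = b * a := by
    intro a b
    obtain ⟨n, hn⟩ := hQc.exists_generator
    obtain ⟨k, rfl⟩ := Subgroup.mem_zpowers_iff.1 (hn a)
    obtain ⟨l, rfl⟩ := Subgroup.mem_zpowers_iff.1 (hn b)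
    exact (Commute.refl n).zpow_zpow k l
  have hwN : w ∈ N := by
    rw [← QuotientGroup.eq_one_iff, hw]
    have h1 : (QuotientGroup.mk (u * (z * u * z)) : S ⧸ N) =
        QuotientGroup.mk u * (QuotientGroup.mk z * QuotientGroup.mk u * QuotientGroup.mk z) := rfl
    rw [h1, hcommQ (QuotientGroup.mk z) (QuotientGroup.mk u)]
    have h2 : (QuotientGroup.mk u : S ⧸ N) * (QuotientGroup.mk u * QuotientGroup.mk z * QuotientGroup.mk z) =
      QuotientGroup.mk (u * (u * z * z)) := rfl
    rw [h2, mul_assoc u z z, hz, mul_one, hu, QuotientGroup.mk_one]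
  have hunique : ∀ a ∈ N, a * a = 1 → a ≠ 1 → a = w := by
    intro a ha haa ha1
    have h1 := involution_unique (hS.to_subgroup N) hNc (a := ⟨a, ha⟩) (b := ⟨w, hwN⟩)
      (Subtype.ext haa) (fun h => ha1 (congrArg Subtype.val h)) (Subtype.ext hww)
      (fun h => hw1 (congrArg Subtype.val h))
    exact congrArg Subtype.val h1
  have hu1 : u ≠ 1 := by
    rintro rfl
    apply hne
    rw [mul_one, hz]
  have hz1 : z ≠ 1 := by
    rintro rfl
    apply hne
    rw [mul_one, one_mul]
  have huN : u ∉ N := by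
    intro h
    have h1 := hunique u h hu hu1
    have h2 : z * u * z ∈ N := by
      have := hN.conj_mem u h z
      rwa [hzinv] at this
    have h3 := hunique (z * u * z) h2 (by
      calc z * u * z * (z * u * z) = z * u * (z * z) * u * z := by group
        _ = z * (u * u) * z := by rw [hz]; group
        _ = 1 := by rw [hu]; simpa only [_root_.mul_one] using hz) (by
      intro h4
      apply hu1
      have h5 : u = z⁻¹ * (z * u * z) * z⁻¹ := by group
      rw [h5, h4, hzinv, mul_one, hz])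
    exact hne (h3.trans h1.symm)
  have hwu : w * u = u * w := by
    rw [hw, mul_assoc, ← hcomm]
  have hzN : z ∉ N := by
    intro h
    have h1 := hunique z h hz hz1
    apply hne
    rw [h1, hwu, mul_assoc, hww, mul_one]
  have hmkne : ∀ a : S, a ∉ N → (QuotientGroup.mk a : S ⧸ N) ≠ 1 := by
    intro a ha h
    exact ha ((QuotientGroup.eq_one_iff _).1 h)
  have huz : (QuotientGroup.mk u : S ⧸ N) = QuotientGroup.mk z := by
    apply involution_unique (hS.to_quotient N) hQc
    · rw [← QuotientGroup.mk_mul, hu, QuotientGroup.mk_one]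
    · exact hmkne u huN
    · rw [← QuotientGroup.mk_mul, hz, QuotientGroup.mk_one]
    · exact hmkne z hzN
  have hcN : u * z ∈ N := by
    have := QuotientGroup.eq.1 huz
    rwa [huinv] at this
  have hc2 : (u * z) * (u * z) = w := by rw [hw]; group
  have hc4 : orderOf (u * z) = 4 := by
    have h1 : orderOf (u * z) = 2 ^ (1 + 1) := by
      apply orderOf_eq_prime_pow
      · rw [pow_one, pow_two, hc2]; exact hw1
      · rw [show 2 ^ (1 + 1) = 2 * 2 from rfl, pow_mul, pow_two (u * z), hc2, pow_two, hww]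
    exact h1
  rcases dichotomy hS N hQc hQ u with ⟨y, hy⟩ | h
  · obtain ⟨i, hi⟩ := exists_conj_pow N hNc y
    obtain ⟨n', hn'⟩ : ∃ n', n' = (y ^ 2)⁻¹ * u := ⟨_, rfl⟩
    have hun : u = y * y * n' := by rw [hn', pow_two]; group
    have hn'N : n' ∈ N := by rw [hn']; exact hy
    have h1 : u * (u * z) * u⁻¹ = (u * z) ^ (i * i) := by
      calc u * (u * z) * u⁻¹ = y * (y * (n' * (u * z) * n'⁻¹) * y⁻¹) * y⁻¹ := by
            nth_rw 1 [hun]
            nth_rw 2 [hun]
            group
        _ = y * (y * (u * z) * y⁻¹) * y⁻¹ := by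
            rw [comm_of_cyclic N hNc hn'N hcN, mul_inv_cancel_right]
        _ = (u * z) ^ (i * i) := by
            rw [hi _ hcN, hi _ (Subgroup.zpow_mem _ hcN _), ← zpow_mul]
    have h2 : u * (u * z) * u⁻¹ = (u * z)⁻¹ := by
      rw [mul_inv_rev, huinv, hzinv, ← mul_assoc, hu, one_mul]
    rw [h2] at h1
    have h3 : (u * z) ^ (i * i + 1) = 1 := by
      rw [zpow_add, zpow_one, ← h1, inv_mul_cancel]
    have h4 := orderOf_dvd_iff_zpow_eq_one.2 h3
    rw [hc4] at h4
    have h5 : (4 : ℤ) ∣ i * i + 1 := by exact_mod_cast h4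
    have h6 : i * i % 4 = 0 ∨ i * i % 4 = 1 := by
      rcases Int.even_or_odd i with ⟨k, hk⟩ | ⟨k, hk⟩
      · left
        rw [hk, show (k + k) * (k + k) = 4 * (k * k) by ring]
        exact Int.mul_emod_right 4 (k * k)
      · right
        rw [hk, show (2 * k + 1) * (2 * k + 1) = 1 + 4 * (k * k + k) by ring]
        rw [Int.add_mul_emod_self_left]
        rfl
    omega
  · have h1 := h 2 (by
      rw [zpow_two, hu]; exact N.one_mem)
    omega

/-- **Subgroups with an automorphism of odd order** are homocyclic of rank 2. -/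
theorem homocyclic_of_aut [Finite S] (hS : IsPGroup 2 S) (N : Subgroup S) [hN : N.Normal] (hNc : IsCyclic N)
    (hQc : IsCyclic (S ⧸ N)) (hQ : 2 < Nat.card (S ⧸ N)) {T : Type*} [Group T] [Finite T] (f : T →* S)
    (hf : Function.Injective f) (α : MulAut T) (hα : Odd (orderOf α)) (hne : α ≠ 1) :
    ∃ (c : T) (m : ℕ), 1 ≤ m ∧ orderOf c = 2 ^ m ∧ c * α c = α c * c ∧
      Subgroup.zpowers c ⊓ Subgroup.zpowers (α c) = ⊥ ∧
      Subgroup.closure ({c, α c} : Set T) = ⊤ := by
  have : Fact (Nat.Prime 2) := ⟨Nat.prime_two⟩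
  have hT : IsPGroup 2 T := hS.of_injective f hf
  -- the generators
  have hCc : IsCyclic (N.comap f) := by
    refine isCyclic_of_injective (f.subgroupComap N) ?_
    intro x y hxy
    apply Subtype.ext
    apply hf
    exact congrArg Subtype.val hxy
  have hTQ : IsCyclic (T ⧸ N.comap f) := by
    refine isCyclic_of_injective (QuotientGroup.map (N.comap f) N f le_rfl) ?_
    rw [injective_iff_map_eq_one]
    intro x
    obtain ⟨s, rfl⟩ := QuotientGroup.mk_surjective x
    intro hs
    have : f s ∈ N := (QuotientGroup.eq_one_iff _).1 hs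
    exact (QuotientGroup.eq_one_iff _).2 this
  obtain ⟨c', hc'⟩ := hCc.exists_generator
  obtain ⟨q', hq'⟩ := hTQ.exists_generator
  obtain ⟨q, rfl⟩ := QuotientGroup.mk_surjective q'
  obtain ⟨c, hcN⟩ := c'
  have hcN' : f c ∈ N := hcN
  have hCmem : ∀ x : T, f x ∈ N → x ∈ Subgroup.zpowers c := by
    intro x hx
    obtain ⟨k, hk⟩ := Subgroup.mem_zpowers_iff.1 (hc' ⟨x, hx⟩)
    exact Subgroup.mem_zpowers_iff.2 ⟨k, by simpa using congrArg Subtype.val hk⟩
  have hcq : ∀ x : T, ∃ j k : ℤ, x = q ^ j * c ^ k := by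
    intro x
    obtain ⟨j, hj⟩ := Subgroup.mem_zpowers_iff.1 (hq' (QuotientGroup.mk x))
    rw [← QuotientGroup.mk_zpow, QuotientGroup.eq] at hj
    obtain ⟨k, hk⟩ := Subgroup.mem_zpowers_iff.1 (hCmem _ hj)
    exact ⟨j, k, by rw [hk]; group⟩
  have hcn : ∀ x : T, x * c * x⁻¹ ∈ Subgroup.zpowers c := by
    intro x
    apply hCmem
    rw [map_mul, map_mul, map_inv]
    exact hN.conj_mem _ hcN' _
  obtain ⟨z, hz⟩ : ∃ z, z = c * α c * c⁻¹ * (α c)⁻¹ := ⟨_, rfl⟩
  obtain ⟨hzc, hzc1, hzcomm, hder, i₀, hαz⟩ := central_comm hT hcq hcn α hα hne z hz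
  have hcomm : c * α c = α c * c := by
    rcases dichotomy hS N hQc hQ (f (α c)) with ⟨y, hy⟩ | h
    · -- a square modulo `N`
      obtain ⟨i, hi⟩ := exists_conj_pow N hNc y
      obtain ⟨n', hn'⟩ : ∃ n', n' = (y ^ 2)⁻¹ * f (α c) := ⟨_, rfl⟩
      have hun : f (α c) = y * y * n' := by rw [hn', pow_two]; group
      have hn'N : n' ∈ N := by rw [hn']; exact hy
      have h1 : f (α c * c * (α c)⁻¹) = f (c ^ (i * i)) := by
        calc f (α c * c * (α c)⁻¹) = y * (y * (n' * f c * n'⁻¹) * y⁻¹) * y⁻¹ := by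
              rw [map_mul, map_mul, map_inv, hun]; group
          _ = y * (y * f c * y⁻¹) * y⁻¹ := by
              rw [comm_of_cyclic N hNc hn'N hcN', mul_inv_cancel_right]
          _ = f (c ^ (i * i)) := by
              rw [hi _ hcN', hi _ (Subgroup.zpow_mem _ hcN' _), ← zpow_mul, map_zpow]
      have h2 := hf h1
      have hz' : z = c ^ (1 - i * i) := by
        have h3 : z = c * (α c * c * (α c)⁻¹)⁻¹ := by rw [hz]; group
        rw [h3, h2, zpow_sub, zpow_one]
      obtain ⟨m, hm⟩ := (IsPGroup.iff_orderOf.1 hT) c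
      rcases Nat.eq_zero_or_pos m with rfl | hm0
      · rw [pow_zero, orderOf_eq_one_iff] at hm
        rw [hm]; simp
      · have hodd : Odd i := by
          rw [← Int.not_even_iff_odd]
          rintro ⟨k, hk⟩
          have h3 : (y * f c * y⁻¹) ^ (2 ^ (m - 1)) = 1 := by
            rw [hi _ hcN', hk, ← two_mul, ← zpow_natCast, ← zpow_mul]
            have h4 : (2 * k * ((2 ^ (m - 1) : ℕ) : ℤ)) = ((2 ^ m : ℕ) : ℤ) * k := by
              obtain ⟨m', rfl⟩ : ∃ m', m = m' + 1 := ⟨m - 1, by omega⟩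
              simp only [Nat.add_sub_cancel]
              push_cast
              ring
            rw [h4, zpow_mul, zpow_natCast, ← hm, ← map_pow, pow_orderOf_eq_one, map_one, one_zpow]
          rw [conj_pow] at h3
          have h4 : (f c) ^ (2 ^ (m - 1)) = 1 := by
            have h5 := congrArg (fun t => y⁻¹ * t * y) h3
            simpa only [mul_assoc, _root_.inv_mul_cancel_left, _root_.inv_mul_cancel, _root_.mul_one] using h5
          rw [← map_pow] at h4
          have h5 : c ^ (2 ^ (m - 1)) = 1 := hf (by rw [h4, map_one])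
          have h6 := orderOf_dvd_of_pow_eq_one h5
          rw [hm] at h6
          have h7 := (Nat.pow_dvd_pow_iff_le_right (by norm_num : 1 < 2)).1 h6
          omega
        obtain ⟨k, hk⟩ := hodd
        refine comm_of_pow_four hT hcq hcn α hα hne (-(k * k + k)) ?_
        rw [← hz, hz']
        congr 1
        rw [hk]; ring
    · -- fourth powers
      obtain ⟨l, hl⟩ := Subgroup.mem_zpowers_iff.1 hzc1
      have h1 : (f (α c)) ^ l ∈ N := by
        rw [← map_zpow, hl]
        obtain ⟨k, hk⟩ := Subgroup.mem_zpowers_iff.1 hzc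
        rw [← hk, map_zpow]
        exact Subgroup.zpow_mem _ hcN' _
      obtain ⟨k', hk'⟩ := h l h1
      -- `z = α (c ^ (4 k'))`
      have hw : α (c ^ (4 * k')) = z := by rw [map_zpow, ← hk', hl]
      -- `α ⟨z⟩ = ⟨z⟩`
      have hle : (Subgroup.zpowers z).map α.toMonoidHom ≤ Subgroup.zpowers z := by
        rintro _ ⟨t, ht, rfl⟩
        obtain ⟨e, rfl⟩ := Subgroup.mem_zpowers_iff.1 ht
        change α (z ^ e) ∈ _
        rw [map_zpow, hαz]
        exact Subgroup.zpow_mem _ (Subgroup.zpow_mem _ (Subgroup.mem_zpowers z) _) _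
      have heq : (Subgroup.zpowers z).map α.toMonoidHom = Subgroup.zpowers z := by
        apply Subgroup.eq_of_le_of_card_ge hle
        exact (Subgroup.card_map_of_injective (K := Subgroup.zpowers z) (f := α.toMonoidHom) α.injective).ge
      have hz1 : z ∈ (Subgroup.zpowers z).map α.toMonoidHom := by
        rw [heq]; exact Subgroup.mem_zpowers z
      obtain ⟨t, ht, htz⟩ := hz1
      have htw : t = c ^ (4 * k') := α.injective (by
        have : α t = z := htz
        rw [this, hw])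
      rw [SetLike.mem_coe, htw] at ht
      -- `c ^ (4 k') ∈ ⟨z⟩` and has the order of `z`
      have hord : orderOf (c ^ (4 * k')) = orderOf z := by
        rw [← hw]; exact (MulEquiv.orderOf_eq α _).symm
      have heq2 : Subgroup.zpowers (c ^ (4 * k')) = Subgroup.zpowers z := by
        apply Subgroup.eq_of_le_of_card_ge
        · rw [Subgroup.zpowers_le]; exact ht
        · rw [Nat.card_zpowers, Nat.card_zpowers, hord]
      have hz2 : z ∈ Subgroup.zpowers (c ^ (4 * k')) := by
        rw [heq2]; exact Subgroup.mem_zpowers z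
      obtain ⟨e, he⟩ := Subgroup.mem_zpowers_iff.1 hz2
      refine comm_of_pow_four hT hcq hcn α hα hne (k' * e) ?_
      rw [← hz, ← he, ← zpow_mul, mul_assoc]
  obtain ⟨m, hm0, hm, hdisj⟩ := disjoint_of_comm hT hcq α hα hne hcomm
  exact ⟨c, m, hm0, hm, hcomm, hdisj, closure_eq_top hT hcq α hα hne⟩

end S

end Cfsg.Agent.H588.MetaBig
end

-- part: H588/HomoPair
section
/-!
# Pairs of elements of order `2 ^ m` generating a direct product
-/

set_option autoImplicit false

namespace Cfsg.Agent.H588.HomoPair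

open Subgroup

variable {A : Type*} [Group A]

theorem mul_injective {x y : A} (hd : Subgroup.zpowers x ⊓ Subgroup.zpowers y = ⊥) :
    Function.Injective (fun p : Subgroup.zpowers x × Subgroup.zpowers y => (p.1 : A) * (p.2 : A)) := by
  rintro ⟨a, b⟩ ⟨a', b'⟩ hab
  simp only at hab
  have h1 : (a' : A)⁻¹ * a = b' * (b : A)⁻¹ := by
    rw [eq_mul_inv_iff_mul_eq, mul_assoc, hab, inv_mul_cancel_left]
  have h2 : (a' : A)⁻¹ * a ∈ Subgroup.zpowers x ⊓ Subgroup.zpowers y := by
    refine ⟨Subgroup.mul_mem _ (Subgroup.inv_mem _ a'.2) a.2, ?_⟩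
    rw [h1]
    exact Subgroup.mul_mem _ b'.2 (Subgroup.inv_mem _ b.2)
  rw [hd, Subgroup.mem_bot] at h2
  have h3 : (a : A) = a' := by
    rw [inv_mul_eq_one] at h2; exact h2.symm
  have h4 : (b : A) = b' := by
    rw [h3] at hab; exact mul_left_cancel hab
  exact Prod.ext (Subtype.ext h3) (Subtype.ext h4)

theorem mul_surjective {x y : A} (hxy : x * y = y * x) (hcl : Subgroup.closure ({x, y} : Set A) = ⊤) (a : A) :
    ∃ i j : ℤ, a = x ^ i * y ^ j := by
  have h1 : a ∈ Subgroup.closure ({x, y} : Set A) := by rw [hcl]; trivial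
  induction h1 using Subgroup.closure_induction with
  | mem t ht =>
    rcases ht with rfl | ht
    · exact ⟨1, 0, by simp⟩
    · rw [Set.mem_singleton_iff] at ht; subst ht
      exact ⟨0, 1, by simp⟩
  | one => exact ⟨0, 0, by simp⟩
  | mul a b _ _ iha ihb =>
    obtain ⟨i, j, rfl⟩ := iha
    obtain ⟨k, l, rfl⟩ := ihb
    refine ⟨i + k, j + l, ?_⟩
    have h2 : y ^ j * x ^ k = x ^ k * y ^ j := ((show Commute y x from hxy.symm).zpow_zpow j k)
    rw [zpow_add, zpow_add, mul_assoc, ← mul_assoc (y ^ j), h2]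
    group
  | inv a _ iha =>
    obtain ⟨i, j, rfl⟩ := iha
    refine ⟨-i, -j, ?_⟩
    rw [mul_inv_rev, ← zpow_neg, ← zpow_neg]
    exact ((show Commute y x from hxy.symm).zpow_zpow (-j) (-i))

variable {m : ℕ}

theorem card_eq {x y : A} (hxy : x * y = y * x) (hcl : Subgroup.closure ({x, y} : Set A) = ⊤)
    (hx : orderOf x = 2 ^ m) (hy : orderOf y = 2 ^ m)
    (hd : Subgroup.zpowers x ⊓ Subgroup.zpowers y = ⊥) : Nat.card A = 2 ^ m * 2 ^ m := by
  have h1 : Function.Bijective (fun p : Subgroup.zpowers x × Subgroup.zpowers y => (p.1 : A) * (p.2 : A)) := by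
    refine ⟨mul_injective hd, fun a => ?_⟩
    obtain ⟨i, j, rfl⟩ := mul_surjective hxy hcl a
    exact ⟨(⟨x ^ i, Subgroup.zpow_mem _ (Subgroup.mem_zpowers x) _⟩,
      ⟨y ^ j, Subgroup.zpow_mem _ (Subgroup.mem_zpowers y) _⟩), rfl⟩
  rw [← Nat.card_congr (Equiv.ofBijective _ h1), Nat.card_prod, Nat.card_zpowers, Nat.card_zpowers, hx, hy]

theorem exists_repr_of_card [Finite A] {x y : A} (hx : orderOf x = 2 ^ m) (hy : orderOf y = 2 ^ m)
    (hd : Subgroup.zpowers x ⊓ Subgroup.zpowers y = ⊥) (hc : Nat.card A = 2 ^ m * 2 ^ m) (a : A) :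
    ∃ i j : ℤ, a = x ^ i * y ^ j := by
  have h1 : Function.Bijective (fun p : Subgroup.zpowers x × Subgroup.zpowers y => (p.1 : A) * (p.2 : A)) := by
    rw [Nat.bijective_iff_injective_and_card]
    refine ⟨mul_injective hd, ?_⟩
    rw [Nat.card_prod, Nat.card_zpowers, Nat.card_zpowers, hx, hy, hc]
  obtain ⟨⟨⟨u, i, hi⟩, ⟨v, j, hj⟩⟩, huv⟩ := h1.2 a
  refine ⟨i, j, ?_⟩
  rw [← huv]
  simp only at hi hj ⊢
  rw [hi, hj]

/-- The isomorphism with `Z/2^m × Z/2^m`. -/
theorem exists_mulEquiv {x y : A} (hxy : x * y = y * x) (hcl : Subgroup.closure ({x, y} : Set A) = ⊤)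
    (hx : orderOf x = 2 ^ m) (hy : orderOf y = 2 ^ m)
    (hd : Subgroup.zpowers x ⊓ Subgroup.zpowers y = ⊥) :
    Nonempty (A ≃* Multiplicative (ZMod (2 ^ m) × ZMod (2 ^ m))) := by
  have e1 : Multiplicative (ZMod (2 ^ m)) ≃* Subgroup.zpowers x := by
    have := zmodCyclicMulEquiv (inferInstance : IsCyclic (Subgroup.zpowers x))
    rw [Nat.card_zpowers, hx] at this
    exact this
  have e2 : Multiplicative (ZMod (2 ^ m)) ≃* Subgroup.zpowers y := by
    have := zmodCyclicMulEquiv (inferInstance : IsCyclic (Subgroup.zpowers y))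
    rw [Nat.card_zpowers, hy] at this
    exact this
  have hcomm : ∀ (a : Subgroup.zpowers x) (b : Subgroup.zpowers y),
      Commute ((Subgroup.zpowers x).subtype a) ((Subgroup.zpowers y).subtype b) := by
    rintro ⟨a, i, rfl⟩ ⟨b, j, rfl⟩
    exact (show Commute x y from hxy).zpow_zpow i j
  let f : Subgroup.zpowers x × Subgroup.zpowers y →* A :=
    MonoidHom.noncommCoprod (Subgroup.subtype _) (Subgroup.subtype _) hcomm
  have hf : Function.Bijective f := by
    refine ⟨mul_injective hd, fun a => ?_⟩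
    obtain ⟨i, j, rfl⟩ := mul_surjective hxy hcl a
    exact ⟨(⟨x ^ i, Subgroup.zpow_mem _ (Subgroup.mem_zpowers x) _⟩,
      ⟨y ^ j, Subgroup.zpow_mem _ (Subgroup.mem_zpowers y) _⟩), rfl⟩
  exact ⟨(MulEquiv.ofBijective f hf).symm.trans
    ((MulEquiv.prodCongr e1.symm e2.symm).trans (MulEquiv.prodMultiplicative _ _).symm)⟩

/-- Involutions are `2 ^ (m - 1)`-th powers. -/
theorem exists_root [Finite A] {x y : A} (hm : 1 ≤ m) (hxy : x * y = y * x)
    (hcl : Subgroup.closure ({x, y} : Set A) = ⊤) (hx : orderOf x = 2 ^ m) (hy : orderOf y = 2 ^ m)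
    (hd : Subgroup.zpowers x ⊓ Subgroup.zpowers y = ⊥) {e : A} (he : e * e = 1) :
    ∃ r : A, r ^ (2 ^ (m - 1)) = e := by
  obtain ⟨φ⟩ := exists_mulEquiv hxy hcl hx hy hd
  exact Cfsg.Agent.TwoFusion.RankTwoWreath.exists_root hm φ e he

/-- Two elements of order `2 ^ m` with different involutions generate disjoint cyclic groups. -/
theorem disjoint_of_ne [Finite A] {x y : A} (hm : 1 ≤ m) (hx : orderOf x = 2 ^ m) (hy : orderOf y = 2 ^ m)
    (hne : x ^ (2 ^ (m - 1)) ≠ y ^ (2 ^ (m - 1))) : Subgroup.zpowers x ⊓ Subgroup.zpowers y = ⊥ := by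
  have : Fact (Nat.Prime 2) := ⟨Nat.prime_two⟩
  by_contra hD
  have hDne : 1 < Nat.card ↥(Subgroup.zpowers x ⊓ Subgroup.zpowers y) := by
    rw [Subgroup.one_lt_card_iff_ne_bot]; exact hD
  have hdvd : Nat.card ↥(Subgroup.zpowers x ⊓ Subgroup.zpowers y) ∣ 2 ^ m := by
    rw [← hx, ← Nat.card_zpowers]
    exact Subgroup.card_dvd_of_le inf_le_left
  obtain ⟨n, -, hn⟩ := (Nat.dvd_prime_pow Nat.prime_two).1 hdvd
  have h2dvd : 2 ∣ Nat.card ↥(Subgroup.zpowers x ⊓ Subgroup.zpowers y) := by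
    rw [hn] at hDne ⊢
    exact dvd_pow_self 2 (by rintro rfl; simp at hDne)
  obtain ⟨w, hw⟩ := exists_prime_orderOf_dvd_card' 2 h2dvd
  have hwo : orderOf (w : A) = 2 := by rw [← hw]; exact Subgroup.orderOf_coe w
  have hu := Cfsg.Agent.TwoFusion.RankTwoWreath.eq_of_mem_zpowers hm hx w.2.1 hwo
  have hv := Cfsg.Agent.TwoFusion.RankTwoWreath.eq_of_mem_zpowers hm hy w.2.2 hwo
  exact hne (hu.symm.trans hv)

end Cfsg.Agent.H588.HomoPair
end

-- part: H588/MetaMain
section
/-!
# Groups with a metacyclic Sylow 2-subgroup with a cyclic quotient of order at least 4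

Such a group has a normal 2-complement, or homocyclic Sylow 2-subgroups of rank 2.
-/

set_option autoImplicit false

namespace Cfsg.Agent.H588.MetaMain

open Subgroup Cfsg.Agent.Lib.GoldschmidtFusion

variable {G : Type*} [Group G]

/-- The 2-subgroups with an element of odd order acting non-trivially. -/
def Bad (Q : Subgroup G) : Prop :=
  IsPGroup 2 Q ∧ ∃ g ∈ Subgroup.normalizer (Q : Set G), Odd (orderOf g) ∧
    g ∉ Subgroup.centralizer (Q : Set G)

theorem mem_norm_conj {Q : Subgroup G} {g : G} (hg : g ∈ Subgroup.normalizer (Q : Set G)) {x : G} (hx : x ∈ Q) :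
    g * x * g⁻¹ ∈ Q := (Subgroup.mem_normalizer_iff.1 hg x).1 hx

/-- An element of odd order commuting with nothing new: `g ∈ ⟨g ^ (2 ^ s)⟩`. -/
theorem mem_of_pow_mem {C : Subgroup G} {g : G} (hg : Odd (orderOf g)) (s : ℕ) (h : g ^ 2 ^ s ∈ C) : g ∈ C := by
  have h1 : (orderOf g).Coprime (2 ^ s) := (hg.coprime_two_right).pow_right s
  obtain ⟨m, hm⟩ := exists_pow_eq_self_of_coprime h1.symm
  rw [← hm]
  exact C.pow_mem h m

/-- the centraliser-type subgroup is normalised: powers of `k * g` -/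
theorem pow_mul_mem {K : Subgroup G} {g k : G} (hk : k ∈ K) (hK : ∀ x ∈ K, g * x * g⁻¹ ∈ K) (n : ℕ) :
    ∃ k' ∈ K, (k * g) ^ n = k' * g ^ n := by
  have hKn : ∀ n : ℕ, ∀ x ∈ K, g ^ n * x * (g ^ n)⁻¹ ∈ K := by
    intro n
    induction n with
    | zero => intro x hx; simpa using hx
    | succ n ih =>
      intro x hx
      have h1 := ih _ (hK x hx)
      have h2 : g ^ n * (g * x * g⁻¹) * (g ^ n)⁻¹ = g ^ (n + 1) * x * (g ^ (n + 1))⁻¹ := by
        rw [pow_succ]; group
      rwa [h2] at h1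
  induction n with
  | zero => exact ⟨1, K.one_mem, by simp⟩
  | succ n ih =>
    obtain ⟨k', hk', h⟩ := ih
    refine ⟨k' * (g ^ n * k * (g ^ n)⁻¹), K.mul_mem hk' (hKn n k hk), ?_⟩
    rw [pow_succ, h, pow_succ]
    group

/-- A proper subgroup of a 2-group is normalised by an outside element with square inside. -/
theorem exists_normalizing [Finite G] {P R : Subgroup G} (hP : IsPGroup 2 P) (hRP : R ≤ P) (hne : R ≠ P) :
    ∃ t ∈ P, t ∉ R ∧ t ∈ Subgroup.normalizer (R : Set G) ∧ t * t ∈ R := by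
  classical
  have : Fact (Nat.Prime 2) := ⟨Nat.prime_two⟩
  have hnil : Group.IsNilpotent P := hP.isNilpotent
  have hlt : R.subgroupOf P < ⊤ := by
    rw [lt_top_iff_ne_top]
    intro h
    apply hne
    apply le_antisymm hRP
    rwa [Subgroup.subgroupOf_eq_top] at h
  have h1 := (Group.normalizerCondition_of_isNilpotent (G := P)) _ hlt
  obtain ⟨s, hsn, hsR⟩ := SetLike.exists_of_lt h1
  have hsn' : (s : G) ∈ Subgroup.normalizer (R : Set G) := by
    rw [Subgroup.mem_normalizer_iff] at hsn ⊢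
    intro x
    constructor
    · intro hx
      have h2 := (hsn ⟨x, hRP hx⟩).1 hx
      exact h2
    · intro hx
      have h3 : x ∈ P := by
        have h4 : (s : G) * x * (s : G)⁻¹ ∈ P := hRP hx
        have h5 := P.mul_mem (P.mul_mem (P.inv_mem s.2) h4) s.2
        have h6 : (s : G)⁻¹ * ((s : G) * x * (s : G)⁻¹) * s = x := by group
        rwa [h6] at h5
      exact (hsn ⟨x, h3⟩).2 hx
  have hsR' : (s : G) ∉ R := hsR
  obtain ⟨k, hk⟩ := hP s
  have hex : ∃ j, (s : G) ^ 2 ^ j ∈ R := ⟨k, by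
    have : (s : G) ^ 2 ^ k = 1 := by simpa only [_root_.SubmonoidClass.coe_pow, _root_.OneMemClass.coe_one] using congrArg Subtype.val hk
    rw [this]; exact R.one_mem⟩
  have hpos : Nat.find hex ≠ 0 := by
    intro h
    have := Nat.find_spec hex
    rw [h] at this
    exact hsR' (by simpa using this)
  obtain ⟨i, hi⟩ := Nat.exists_eq_succ_of_ne_zero hpos
  refine ⟨(s : G) ^ 2 ^ i, P.pow_mem s.2 _, ?_, Subgroup.pow_mem _ hsn' _, ?_⟩
  · exact Nat.find_min hex (by omega)
  · have := Nat.find_spec hex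
    rw [hi, Nat.succ_eq_add_one, pow_succ, pow_mul, pow_two] at this
    exact this

theorem two_dvd_relIndex [Finite G] {R K : Subgroup G} (hn : ∀ x ∈ K, ∀ y ∈ R, x * y * x⁻¹ ∈ R)
    {t : G} (ht : t ∈ K) (htR : t ∉ R) (ht2 : t * t ∈ R) : 2 ∣ R.relIndex K := by
  have hnorm : (R.subgroupOf K).Normal := ⟨fun y hy x => hn x x.2 y hy⟩
  have h1 : orderOf (QuotientGroup.mk (⟨t, ht⟩ : K) : K ⧸ R.subgroupOf K) = 2 := by
    apply orderOf_eq_prime
    · rw [pow_two, ← QuotientGroup.mk_mul]
      exact (QuotientGroup.eq_one_iff _).2 ht2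
    · intro h
      have h3 : (⟨t, ht⟩ : K) ∈ R.subgroupOf K := (QuotientGroup.eq_one_iff _).1 h
      exact htR h3
  have h2 := _root_.orderOf_dvd_natCard (QuotientGroup.mk (⟨t, ht⟩ : K) : K ⧸ R.subgroupOf K)
  rw [h1] at h2
  exact h2

/-- **The main step.** -/
theorem homocyclic_of_not_complement [Finite G] {S : Type*} [Group S] [Finite S] (hS : IsPGroup 2 S) (N : Subgroup S)
    [hN : N.Normal] (hNc : IsCyclic N) (hQc : IsCyclic (S ⧸ N)) (hQ : 2 < Nat.card (S ⧸ N))
    (P₀ : Sylow 2 G) (φ : (P₀ : Subgroup G) ≃* S)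
    (hbad : ∃ Q : Subgroup G, Bad Q) :
    ∃ (P : Sylow 2 G) (m : ℕ), 1 ≤ m ∧
      Nonempty ((P : Subgroup G) ≃* Multiplicative (ZMod (2 ^ m) × ZMod (2 ^ m))) := by
  classical
  have : Fact (Nat.Prime 2) := ⟨Nat.prime_two⟩
  obtain ⟨Q, hQB, hmax⟩ := Set.exists_max_image {Q : Subgroup G | Bad Q} (fun Q => Nat.card Q)
    (Set.toFinite _) hbad
  obtain ⟨hQ2, g, hg, hgo, hgc⟩ := hQB
  obtain ⟨P, hQP⟩ := hQ2.exists_le_sylow
  -- the embedding of `P` in `S`
  let e : (P : Subgroup G) ≃* S := (P.equiv P₀).trans φ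
  let f : Q →* S := e.toMonoidHom.comp (Subgroup.inclusion hQP)
  have hf : Function.Injective f := e.injective.comp (Subgroup.inclusion_injective hQP)
  let α : MulAut Q := Q.normalizerMonoidHom ⟨g, hg⟩
  have hαapp : ∀ x : Q, ((α x : Q) : G) = g * x * g⁻¹ := fun x => rfl
  have hαo : Odd (orderOf α) := by
    have h1 : orderOf α ∣ orderOf g := by
      have h2 := orderOf_map_dvd Q.normalizerMonoidHom ⟨g, hg⟩
      rwa [Subgroup.orderOf_mk] at h2
    exact hgo.of_dvd_nat h1
  have hαne : α ≠ 1 := by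
    intro h
    apply hgc
    rw [Subgroup.mem_centralizer_iff]
    intro x hx
    have h1 := hαapp ⟨x, hx⟩
    rw [h] at h1
    have h2 : x = g * x * g⁻¹ := h1
    calc x * g = (g * x * g⁻¹) * g := by rw [← h2]
      _ = g * x := by group
  obtain ⟨c, m, hm1, hcm, hcomm, hdisj, hcl⟩ :=
    Cfsg.Agent.H588.MetaBig.homocyclic_of_aut hS N hNc hQc hQ f hf α hαo hαne
  have hc1m : orderOf (α c) = 2 ^ m := by
    rw [← hcm]; exact MulEquiv.orderOf_eq α c
  have hall := Cfsg.Agent.H588.MetaAut.comm_of_closure hcl hcomm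
  have hcard := Cfsg.Agent.H588.HomoPair.card_eq hcomm hcl hcm hc1m hdisj
  -- the involution `u` and its conjugate
  obtain ⟨u, hu⟩ : ∃ u : Q, u = c ^ 2 ^ (m - 1) := ⟨_, rfl⟩
  have hpm : 2 ^ (m - 1) * 2 = 2 ^ m := by
    obtain ⟨m', rfl⟩ : ∃ m', m = m' + 1 := ⟨m - 1, by omega⟩
    simp [pow_succ]
  have hu2 : u * u = 1 := by
    rw [hu, ← pow_two, ← pow_mul, hpm, ← hcm, pow_orderOf_eq_one]
  have huα : α u ≠ u := by
    intro h
    have h1 : u ∈ Subgroup.zpowers c ⊓ Subgroup.zpowers (α c) := by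
      refine ⟨?_, ?_⟩
      · rw [hu]; exact Subgroup.pow_mem _ (Subgroup.mem_zpowers c) _
      · rw [← h, hu, map_pow]; exact Subgroup.pow_mem _ (Subgroup.mem_zpowers _) _
    rw [hdisj, Subgroup.mem_bot, hu] at h1
    have h2 := orderOf_dvd_of_pow_eq_one h1
    rw [hcm] at h2
    have h3 := (Nat.pow_dvd_pow_iff_le_right (by norm_num : 1 < 2)).1 h2
    omega
  -- the set of involutions
  let E : Set G := {x | x ∈ Q ∧ x * x = 1}
  have hEn : ∀ n ∈ Subgroup.normalizer (Q : Set G), ∀ x ∈ E, n * x * n⁻¹ ∈ E := by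
    rintro n hn x ⟨hx, hxx⟩
    refine ⟨mem_norm_conj hn hx, ?_⟩
    calc n * x * n⁻¹ * (n * x * n⁻¹) = n * (x * x) * n⁻¹ := by group
      _ = 1 := by rw [hxx]; group
  let K : Subgroup G := Subgroup.normalizer (Q : Set G) ⊓ Subgroup.centralizer E
  have hKn : ∀ n ∈ Subgroup.normalizer (Q : Set G), ∀ x ∈ K, n * x * n⁻¹ ∈ K := by
    intro n hn x hx
    refine ⟨Subgroup.mul_mem _ (Subgroup.mul_mem _ hn hx.1) (Subgroup.inv_mem _ hn), ?_⟩
    refine Subgroup.mem_centralizer_iff.2 ?_
    intro y hy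
    have h1 := hEn n⁻¹ (Subgroup.inv_mem _ hn) y hy
    have h2 := (Subgroup.mem_centralizer_iff.1 hx.2) _ h1
    have h3 : n * (n⁻¹ * y * n⁻¹⁻¹ * x) * n⁻¹ = n * (x * (n⁻¹ * y * n⁻¹⁻¹)) * n⁻¹ := by rw [h2]
    calc y * (n * x * n⁻¹) = n * (n⁻¹ * y * n⁻¹⁻¹ * x) * n⁻¹ := by group
      _ = n * (x * (n⁻¹ * y * n⁻¹⁻¹)) * n⁻¹ := h3
      _ = n * x * n⁻¹ * y := by group
  have hQcomm : ∀ x ∈ Q, ∀ y ∈ Q, x * y = y * x := by
    intro x hx y hy
    exact congrArg Subtype.val (hall ⟨x, hx⟩ ⟨y, hy⟩)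
  have hQK : Q ≤ K := by
    intro x hx
    refine ⟨Subgroup.le_normalizer hx, ?_⟩
    refine Subgroup.mem_centralizer_iff.2 ?_
    rintro y ⟨hy, -⟩
    exact hQcomm y hy x hx
  -- `Q` is a Sylow 2-subgroup of `K`
  obtain ⟨R, hQR, hRK, hR2, hRi⟩ := exists_sylow_in (p := 2) (N := K) (D := Q) hQK hQ2
  have hKg : K.map (MulAut.conj g).toMonoidHom = K := by
    apply le_antisymm
    · rintro _ ⟨x, hx, rfl⟩
      exact hKn g hg x hx
    · intro x hx
      refine ⟨g⁻¹ * x * g, ?_, ?_⟩
      · have := hKn g⁻¹ (Subgroup.inv_mem _ hg) x hx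
        simpa using this
      · simp only [MulEquiv.coe_toMonoidHom, MulAut.conj_apply]; group
  obtain ⟨k, hk, hkR⟩ := Cfsg.Agent.LFourB.RelExt.frattini hR2 hRK hRi hKg
  have huG : (u : G) ∈ E := ⟨u.2, congrArg Subtype.val hu2⟩
  have hRbad : Bad R := by
    refine ⟨hR2, (k * g) ^ 2 ^ ((orderOf (k * g)).factorization 2), ?_, ?_, ?_⟩
    · apply Subgroup.pow_mem
      rw [Subgroup.mem_normalizer_iff]
      intro x
      constructor
      · intro hx
        have h1 : (MulAut.conj (k * g)).toMonoidHom x ∈ R.map (MulAut.conj (k * g)).toMonoidHom := ⟨x, hx, rfl⟩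
        rw [hkR] at h1
        exact h1
      · intro hx
        have h1 : k * g * x * (k * g)⁻¹ ∈ R.map (MulAut.conj (k * g)).toMonoidHom := by rw [hkR]; exact hx
        obtain ⟨y, hy, hyx⟩ := h1
        have h2 : k * g * y * (k * g)⁻¹ = k * g * x * (k * g)⁻¹ := hyx
        have h3 : y = x := by
          have := mul_right_cancel h2
          exact mul_left_cancel this
        rwa [← h3]
    · have h1 := Cfsg.Agent.Transfer.NormalPComplement.coprime_orderOf_pow_ordProj (p := 2)
        (isOfFinOrder_of_finite (k * g))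
      rwa [Nat.coprime_two_right] at h1
    · intro hcen
      have h1 := (Subgroup.mem_centralizer_iff.1 hcen) u (hQR u.2)
      obtain ⟨k', hk', hkk⟩ := pow_mul_mem hk (hKn g hg) (2 ^ ((orderOf (k * g)).factorization 2))
      rw [hkk] at h1
      set n := 2 ^ ((orderOf (k * g)).factorization 2)
      have hgn : g ^ n ∈ Subgroup.normalizer (Q : Set G) := Subgroup.pow_mem _ hg n
      have h2 := hEn _ hgn u huG
      have h3 := (Subgroup.mem_centralizer_iff.1 hk'.2) _ h2
      -- `g ^ n` commutes with `u`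
      have h4 : g ^ n * u * (g ^ n)⁻¹ = u := by
        have h5 : (u : G) = (k' * g ^ n) * u * (k' * g ^ n)⁻¹ := by
          rw [← h1]; group
        have h6 : (k' * g ^ n) * u * (k' * g ^ n)⁻¹ = k' * (g ^ n * u * (g ^ n)⁻¹) * k'⁻¹ := by group
        rw [h6, ← h3] at h5
        rw [mul_inv_cancel_right] at h5
        exact h5.symm
      have h5 : g ^ n ∈ Subgroup.centralizer ({(u : G)} : Set G) := by
        rw [Subgroup.mem_centralizer_singleton_iff]
        calc g ^ n * (u : G) = (g ^ n * u * (g ^ n)⁻¹) * g ^ n := by group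
          _ = u * g ^ n := by rw [h4]
      have h6 := mem_of_pow_mem hgo _ h5
      rw [Subgroup.mem_centralizer_singleton_iff] at h6
      apply huα
      apply Subtype.ext
      rw [hαapp, h6, mul_inv_cancel_right]
  have hRQ : R = Q := by
    symm
    exact Subgroup.eq_of_le_of_card_ge hQR (hmax R hRbad)
  subst hRQ
  -- `P = Q`
  have hPQ : (P : Subgroup G) = R := by
    by_contra hne
    obtain ⟨t, htP, htR, htn, ht2⟩ := exists_normalizing P.2 hQP (Ne.symm hne)
    -- `t ∉ K`
    have htK : t ∉ K := by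
      intro htK
      apply hRi
      exact two_dvd_relIndex (fun x hx y hy => mem_norm_conj hx.1 hy) htK htR ht2
    have htE : t ∉ Subgroup.centralizer E := fun h => htK ⟨htn, h⟩
    obtain ⟨w, hwE, hwt⟩ : ∃ w ∈ E, w * t ≠ t * w := by
      by_contra hcon
      push Not at hcon
      exact htE (Subgroup.mem_centralizer_iff.2 hcon)
    obtain ⟨x, hx⟩ := Cfsg.Agent.H588.HomoPair.exists_root hm1 hcomm hcl hcm hc1m hdisj
      (e := (⟨w, hwE.1⟩ : R)) (Subtype.ext hwE.2)
    have hxG : (x : G) ^ 2 ^ (m - 1) = w := by simpa only [_root_.SubmonoidClass.coe_pow] using congrArg Subtype.val hx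
    have hw1 : w ≠ 1 := by
      rintro rfl
      apply hwt
      rw [one_mul, mul_one]
    have hxo : orderOf x = 2 ^ m := by
      obtain ⟨m', rfl⟩ : ∃ m', m = m' + 1 := ⟨m - 1, by omega⟩
      simp only [Nat.add_sub_cancel] at hx
      apply orderOf_eq_prime_pow
      · rw [hx]
        exact fun h => hw1 (congrArg Subtype.val h)
      · rw [pow_succ, pow_mul, hx, pow_two]
        exact Subtype.ext hwE.2
    obtain ⟨y, hy⟩ : ∃ y : R, (y : G) = t * x * t⁻¹ := ⟨⟨_, mem_norm_conj htn x.2⟩, rfl⟩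
    have hyo : orderOf y = 2 ^ m := by
      rw [← hxo, ← Subgroup.orderOf_coe, ← Subgroup.orderOf_coe, hy]
      exact (MulEquiv.orderOf_eq (MulAut.conj t) (x : G))
    have hyw : (y : G) ^ 2 ^ (m - 1) = t * w * t⁻¹ := by
      rw [hy, conj_pow, hxG]
    have hwt' : t * w * t⁻¹ ≠ w := by
      intro h
      apply hwt
      calc w * t = (t * w * t⁻¹) * t := by rw [h]
        _ = t * w := by group
    have hxy : Subgroup.zpowers x ⊓ Subgroup.zpowers y = ⊥ := by
      apply Cfsg.Agent.H588.HomoPair.disjoint_of_ne hm1 hxo hyo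
      intro h
      have h1 := congrArg Subtype.val h
      rw [Subgroup.coe_pow, Subgroup.coe_pow, hxG, hyw] at h1
      exact hwt' h1.symm
    obtain ⟨i, j, hij⟩ := Cfsg.Agent.H588.HomoPair.exists_repr_of_card hxo hyo hxy hcard (⟨t * t, ht2⟩ : R)
    have hijG : t * t = (x : G) ^ i * (y : G) ^ j := by simpa only [_root_.Subgroup.coe_mul, _root_.SubgroupClass.coe_zpow] using congrArg Subtype.val hij
    -- `t y t⁻¹ = x`
    have hty : t * (y : G) * t⁻¹ = x := by
      have h1 : t * (y : G) * t⁻¹ = (t * t) * x * (t * t)⁻¹ := by rw [hy]; group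
      rw [h1, hQcomm _ ht2 _ x.2, mul_inv_cancel_right]
    -- `x ^ i = x ^ j`
    have hsw : (x : G) ^ i * (y : G) ^ j = (y : G) ^ i * (x : G) ^ j := by
      have h1 : t * (t * t) * t⁻¹ = t * t := by group
      rw [hijG] at h1
      have h2 : t * ((x : G) ^ i * (y : G) ^ j) * t⁻¹ = (t * (x : G) ^ i * t⁻¹) * (t * (y : G) ^ j * t⁻¹) := by
        group
      rw [h2, ← conj_zpow, ← conj_zpow, hty, ← hy] at h1
      exact h1.symm
    have hxi : x ^ (i - j) = 1 := by
      have h1 : x ^ (i - j) = y ^ (i - j) := by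
        have h2 : x ^ i * y ^ j = y ^ i * x ^ j := by
          apply Subtype.ext
          simpa only [_root_.Subgroup.coe_mul, _root_.SubgroupClass.coe_zpow] using hsw
        have h3 : x ^ (-j) * (x ^ i * y ^ j) * y ^ (-j) = x ^ (-j) * (y ^ i * x ^ j) * y ^ (-j) := by rw [h2]
        have h4 : x ^ (-j) * (x ^ i * y ^ j) * y ^ (-j) = x ^ (i - j) := by
          rw [sub_eq_add_neg, add_comm, zpow_add]; group
        have h5 : x ^ (-j) * (y ^ i * x ^ j) * y ^ (-j) = y ^ (i - j) := by
          rw [hall (y ^ i) (x ^ j), sub_eq_add_neg, zpow_add]; group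
        rw [← h4, h3, h5]
      have h2 : x ^ (i - j) ∈ Subgroup.zpowers x ⊓ Subgroup.zpowers y := by
        refine ⟨Subgroup.zpow_mem _ (Subgroup.mem_zpowers x) _, ?_⟩
        rw [h1]
        exact Subgroup.zpow_mem _ (Subgroup.mem_zpowers y) _
      rwa [hxy, Subgroup.mem_bot] at h2
    have hyi : y ^ (i - j) = 1 := by
      have h1 := orderOf_dvd_iff_zpow_eq_one.2 hxi
      rw [hxo, ← hyo] at h1
      exact orderOf_dvd_iff_zpow_eq_one.1 h1
    have hyij : (y : G) ^ j = (y : G) ^ i := by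
      have h1 : y ^ i = y ^ j := by
        have h2 : y ^ i = y ^ (i - j) * y ^ j := by rw [← zpow_add]; congr 1; ring
        rw [h2, hyi, one_mul]
      simpa using congrArg Subtype.val h1.symm
    rw [hyij] at hijG
    -- the involution `t x⁻ⁱ`
    obtain ⟨t', ht'⟩ : ∃ t' : G, t' = t * (x : G) ^ (-i) := ⟨_, rfl⟩
    have ht'2 : t' * t' = 1 := by
      calc t' * t' = (t * (x : G) ^ (-i) * t⁻¹) * (t * t) * (x : G) ^ (-i) := by rw [ht']; group
        _ = (y : G) ^ (-i) * ((x : G) ^ i * (y : G) ^ i) * (x : G) ^ (-i) := by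
            rw [← conj_zpow, ← hy, hijG]
        _ = (y : G) ^ (-i) * ((y : G) ^ i * (x : G) ^ i) * (x : G) ^ (-i) := by
            rw [hQcomm _ (Subgroup.zpow_mem _ x.2 i) _ (Subgroup.zpow_mem _ y.2 i)]
        _ = 1 := by group
    have ht'inv : t'⁻¹ = t' := inv_eq_of_mul_eq_one_left ht'2
    have ht'w : t' * w * t' = t * w * t⁻¹ := by
      calc t' * w * t' = t' * w * t'⁻¹ := by rw [ht'inv]
        _ = t * ((x : G) ^ (-i) * w * ((x : G) ^ (-i))⁻¹) * t⁻¹ := by rw [ht']; group
        _ = t * w * t⁻¹ := by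
            rw [hQcomm _ (Subgroup.zpow_mem _ x.2 (-i)) _ hwE.1, mul_inv_cancel_right]
    have ht'P : t' ∈ (P : Subgroup G) := by
      rw [ht']
      exact Subgroup.mul_mem _ htP (Subgroup.zpow_mem _ (hQP x.2) _)
    -- the dihedral group in `S`
    have hfin := Cfsg.Agent.H588.MetaBig.no_dihedral hS N hNc hQc hQ (e ⟨w, hQP hwE.1⟩) (e ⟨t', ht'P⟩)
      (by rw [← map_mul, ← map_one e]; exact congrArg e (Subtype.ext hwE.2))
      (by rw [← map_mul, ← map_one e]; exact congrArg e (Subtype.ext ht'2))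
      (by
        rw [← map_mul, ← map_mul, ← map_mul, ← map_mul]
        apply congrArg e
        apply Subtype.ext
        change w * (t' * w * t') = t' * w * t' * w
        rw [ht'w]
        exact hQcomm _ hwE.1 _ (mem_norm_conj htn hwE.1))
    rw [← map_mul, ← map_mul] at hfin
    have h1 := congrArg Subtype.val (e.injective hfin)
    have h2 : t' * w * t' = w := h1
    rw [ht'w] at h2
    exact hwt' h2
  refine ⟨P, m, hm1, ?_⟩
  rw [hPQ]
  exact Cfsg.Agent.H588.HomoPair.exists_mulEquiv hcomm hcl hcm hc1m hdisj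

end Cfsg.Agent.H588.MetaMain
end

-- part: S4418
section
set_option autoImplicit false
open Cfsg

namespace Cfsg.Agent.S4418

theorem zmod_two : ∀ z : ZMod (2 ^ 1) × ZMod (2 ^ 1), z + z = 0 := by decide

/-- Let G be a finite group whose Sylow 2-subgroup S is metacyclic via a cyclic normal subgroup N of S with S/N cyclic of order greater than 2. Then G is soluble. -/
theorem result {G : Type*} [Group G] [Finite G] (S : Sylow 2 G) (N : Subgroup ↥(S : Subgroup G)) [hN : N.Normal] (hNc : IsCyclic N) (hQc : IsCyclic (↥(S : Subgroup G) ⧸ N)) (hQ : 2 < Nat.card (↥(S : Subgroup G) ⧸ N)) : Group.IsSolvable G := by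
  classical
  have : Fact (Nat.Prime 2) := ⟨Nat.prime_two⟩
  by_cases hcomp : ∃ M : Subgroup G, M.Normal ∧ M.IsComplement' (S : Subgroup G)
  · -- a normal 2-complement
    obtain ⟨M, hM, hMS⟩ := hcomp
    have h1 : (Nat.card M).Coprime 2 :=
      Cfsg.Agent.Transfer.NormalPComplement.coprime_of_isComplement' S hMS
    have h2 : IsPGroup 2 (G ⧸ M) :=
      Cfsg.Agent.Transfer.NormalPComplement.isPGroup_quotient_of_isComplement' S.2 hMS
    have h3 : Group.IsSolvable M := Cfsg.Agent.S0205.result (Nat.coprime_two_right.1 h1)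
    have h4 : Group.IsNilpotent (G ⧸ M) := h2.isNilpotent
    have h5 : Group.IsSolvable (G ⧸ M) := inferInstance
    exact solvable_of_ker_le_range M.subtype (QuotientGroup.mk' M) (by simp)
  · -- homocyclic Sylow 2-subgroups
    have hbad : ∃ Q : Subgroup G, Cfsg.Agent.H588.MetaMain.Bad Q := by
      by_contra hno
      apply hcomp
      refine (Cfsg.Agent.S0071.result S).2 ?_
      intro Q hQS g hg hcop
      by_contra hgc
      exact hno ⟨Q, S.2.to_le hQS, g, hg, Nat.coprime_two_right.1 hcop, hgc⟩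
    obtain ⟨P, m, hm1, ⟨e⟩⟩ := Cfsg.Agent.H588.MetaMain.homocyclic_of_not_complement
      (S := ↥(S : Subgroup G)) S.2 N hNc hQc hQ S (MulEquiv.refl _) hbad
    have hm2 : 2 ≤ m := by
      by_contra hlt
      have hm : m = 1 := by omega
      subst hm
      -- the exponent of `S` is `2`
      have h1 : ∀ x : ↥(S : Subgroup G), x * x = 1 := by
        intro x
        have h2 : ∀ y : ↥(P : Subgroup G), y * y = 1 := by
          intro y
          apply e.injective
          rw [map_mul, map_one]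
          apply Multiplicative.toAdd.injective
          rw [toAdd_mul, toAdd_one]
          exact zmod_two _
        have h3 := h2 ((S.equiv P) x)
        rw [← map_mul] at h3
        exact (S.equiv P).injective (h3.trans (map_one _).symm)
      obtain ⟨b, hb⟩ := hQc.exists_generator
      have hord : orderOf b = Nat.card (↥(S : Subgroup G) ⧸ N) := orderOf_eq_card_of_forall_mem_zpowers hb
      have h2 : b * b = 1 := by
        obtain ⟨b, rfl⟩ := QuotientGroup.mk_surjective b
        rw [← QuotientGroup.mk_mul, h1, QuotientGroup.mk_one]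
      have h3 : orderOf b ∣ 2 := orderOf_dvd_of_pow_eq_one (by rw [pow_two]; exact h2)
      have h4 := Nat.le_of_dvd (by norm_num) h3
      omega
    -- pass to `G / O(G)`
    have hcn : (pPrimeCore 2 G).Normal := Cfsg.Agent.Lib.Cores.pPrimeCore_normal 2
    have hodd : Group.IsSolvable (pPrimeCore 2 G) :=
      Cfsg.Agent.S0205.result (Nat.coprime_two_right.1 (Cfsg.Agent.Lib.Cores.pPrimeCore_coprime 2))
    have hquot : Group.IsSolvable (G ⧸ pPrimeCore 2 G) := by
      let π : G →* G ⧸ pPrimeCore 2 G := QuotientGroup.mk' (pPrimeCore 2 G)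
      have hπ : Function.Surjective π := QuotientGroup.mk'_surjective _
      let P' : Sylow 2 (G ⧸ pPrimeCore 2 G) := P.mapSurjective hπ
      have hinj : Function.Injective (π.subgroupMap (P : Subgroup G)) := by
        rw [injective_iff_map_eq_one]
        intro x hx
        have h1 : π (x : G) = 1 := congrArg Subtype.val hx
        have h2 : (x : G) ∈ pPrimeCore 2 G := (QuotientGroup.eq_one_iff _).1 h1
        have h3 : (x : G) ∈ (P : Subgroup G) ⊓ pPrimeCore 2 G := ⟨x.2, h2⟩
        have h4 : (P : Subgroup G) ⊓ pPrimeCore 2 G = ⊥ := by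
          obtain ⟨n, hn⟩ := IsPGroup.iff_card.1 P.2
          apply Disjoint.eq_bot
          apply Subgroup.disjoint_of_coprime_natCard
          rw [hn]
          exact ((Cfsg.Agent.Lib.Cores.pPrimeCore_coprime (G := G) 2).pow_right n).symm
        rw [h4, Subgroup.mem_bot] at h3
        exact Subtype.ext h3
      let e' : ↥(P : Subgroup G) ≃* ↥(P' : Subgroup (G ⧸ pPrimeCore 2 G)) :=
        MulEquiv.ofBijective (π.subgroupMap (P : Subgroup G)) ⟨hinj, π.subgroupMap_surjective _⟩
      have hO : ∀ M : Subgroup (G ⧸ pPrimeCore 2 G), M.Normal → Odd (Nat.card M) → M = ⊥ := by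
        intro M hM hMo
        have h1 : M ≤ pPrimeCore 2 (G ⧸ pPrimeCore 2 G) := Cfsg.Agent.Lib.Cores.le_pPrimeCore hM (Nat.coprime_two_right.2 hMo)
        rw [Cfsg.Agent.Lib.Cores.pPrimeCore_quotient_pPrimeCore] at h1
        exact le_bot_iff.1 h1
      obtain ⟨hn, -, hidx⟩ := Cfsg.Agent.S0949.result P' m hm2 (e'.symm.trans e) hO
      have hPs : Group.IsSolvable ↥(P' : Subgroup (G ⧸ pPrimeCore 2 G)) := by
        have : Group.IsNilpotent ↥(P' : Subgroup (G ⧸ pPrimeCore 2 G)) := P'.2.isNilpotent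
        infer_instance
      have hqs : Group.IsSolvable ((G ⧸ pPrimeCore 2 G) ⧸ (P' : Subgroup (G ⧸ pPrimeCore 2 G))) := by
        apply Cfsg.Agent.S0205.result
        change Odd (P' : Subgroup (G ⧸ pPrimeCore 2 G)).index
        rcases hidx with h | h
        · rw [h]; exact odd_one
        · rw [h]; decide
      exact solvable_of_ker_le_range (P' : Subgroup (G ⧸ pPrimeCore 2 G)).subtype
        (QuotientGroup.mk' (P' : Subgroup (G ⧸ pPrimeCore 2 G))) (by simp)
    exact solvable_of_ker_le_range (pPrimeCore 2 G).subtype (QuotientGroup.mk' (pPrimeCore 2 G)) (by simp)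

end Cfsg.Agent.S4418
end
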