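import Cfsg.Agent.H139.P5GL.Main
import Cfsg.Agent.H120.GLB.Ctx
import Cfsg.Agent.H809.GLB.Trn
import Cfsg.Agent.H111.GLB.E1_mg
import Cfsg.Agent.H623.GLn.D4F
import Cfsg.Agent.H501.GLn.FourB
import Cfsg.Agent.H112.GLB.Abs
import Cfsg.Agent.H614.GLn.GB1
import Cfsg.Agent.H577.GLB.Fam
import Cfsg.Agent.H901.Sl.JJ
import Cfsg.Agent.H76.GLB.DE2
import Cfsg.Agent.H623.GLn.D4R_mg
import Cfsg.Agent.S0917
import Cfsg.Agent.H644.Trace
import Cfsg.Agent.H941.GLn.GB5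
import Cfsg.Agent.H614.GLn.Cusp
import Cfsg.Agent.H666.Clif.Sec_mg
import Cfsg.Statements.S4536
set_option linter.all false

-- part: H666/Clif/Fin
section
/-!
# S4536: the block rank of `SL_n(F)`, from the two exceptional facts (E2) and (P5)
-/

set_option autoImplicit false
set_option linter.unusedSectionVars false

open Cfsg
open scoped ComplexConjugate MatrixGroups

namespace Cfsg.Agent.H666.Clif

open Cfsg.Agent.H577.GLB Cfsg.Agent.H577.GLB.Std Cfsg.Agent.H577.GLB.Real Cfsg.Agent.H112.GLB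
open Cfsg.Agent.H657 Cfsg.Agent.H608.BlockRank Cfsg.Agent.Blocks.Basic Cfsg.Agent.Blocks.Local
open Cfsg.Agent.H614.GLn Cfsg.Agent.H624.Sl

universe u

variable {F : Type u} [Field F] [Finite F] {K : Type u} [Field K] [Algebra F K] {θ : K →*₀ ℂ} {N M : ℕ} [NeZero M]
  {p n : ℕ} {𝔐 : Ideal AlgInt} {V : ValuationSubring ℂ}

/-- (E2), (P5) as hypotheses -/
theorem slS_of (hctx : Ctx F θ N M) (hpF : p ≠ ringChar F) (h𝔐 : IsPModular p 𝔐) (hn : n ≤ N) (hn0 : 0 < n)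
    (hE2 : p = 2 → ∀ (t₀ : LabZ (Nat.card F) M n n), POnly M 2 t₀.t → ∀ δ₀ : ZMod M,
      OnlyOn (Nat.card F) M δ₀ t₀.t → Std.bsz (t₀.t δ₀) = 4 → ∀ χ : IrrCharacter (GL (Fin n) F),
      IsLab θ M n n χ t₀ → ∀ D : Subgroup (GL (Fin n) F),
      IsDefectGroup 2 𝔐 (blockOf 𝔐 (χ : GL (Fin n) F → ℂ)) D → ∀ s : ℕ,
      SectionalPRankLE 2 s (D ⊓ slS F n : Subgroup (GL (Fin n) F)) → 4 ≤ s)
    (hP5 : p = 2 → ∀ {V : ValuationSubring ℂ}, Above 𝔐 V → ((Nat.card F : ℕ) : ZMod p) = 1 →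
      ∀ (t₀ : LabZ (Nat.card F) M n n), POnly M p t₀.t → ∀ δ₀ : ZMod M, OnlyOn (Nat.card F) M δ₀ t₀.t →
      2 ≤ Std.bsz (t₀.t δ₀) → ∀ O : IBr V (GL (Fin n) F) → Finset (IBr V (pKer (slS F n) p)),
      (∀ i ∈ ibrUnder V (famSet θ p t₀), IsRes p (pKer (slS F n) p) i (O i)) →
      Fintype.card (Nat.Partition (Std.bsz (t₀.t δ₀) - 1)) ≤
        Nat.card {i : IBr V (GL (Fin n) F) // i ∈ ibrUnder V (famSet θ p t₀) ∧ (O i).card = 1})
    (B : Set (IrrCharacter (slS F n))) (hB : IsPBlock 𝔐 B) (D : Subgroup (slS F n))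
    (hD : IsDefectGroup p 𝔐 B D) (s : ℕ) (hs : SectionalPRankLE p s D) : blockRank p B ≤ p ^ s := by
  have := isPrime_of_isPModular h𝔐
  have hN : 1 ≤ N := hn0.trans_le hn
  have hlab := isLab_bij hctx hn (le_refl n)
  refine blockRank_le_slS hctx hpF h𝔐 hn hn0 hlab
    (fun {B} hB {χ} hχ {t} ht ht' a ha => H623.GLn.exists_chain hctx hpF h𝔐 hn (le_refl n) hB hχ ht ht' ha)
    (fun {B} hB {χ} hχ {t} ht ht' D hD => H623.GLn.exists_elab hctx hpF h𝔐 hn (le_refl n) hB hχ ht ht' D hD)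
    ?_ hB hD hs
  intro B hB B' hB' hcov χ hχ t ht ht' hp2 hq δ₀ h₁ hw D' hD' s hs
  obtain ⟨V, hV⟩ := exists_above h𝔐
  have hBb : B = blockOf 𝔐 (χ : GL (Fin n) F → ℂ) := isPBlock_eq_blockOf hB hχ
  refine exc_slS hctx hpF h𝔐 hV hn hn0 (le_refl n) hB hB' hcov hχ ht ht' hp2 hq δ₀ h₁ hw
    (fun a ha => H623.GLn.exists_chain hctx hpF h𝔐 hn (le_refl n) hB hχ ht ht' ha)
    (fun D hD => H623.GLn.exists_elab hctx hpF h𝔐 hn (le_refl n) hB hχ ht ht' D hD) ?_ ?_ ?_ D' hD' hs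
  · intro hw2 D hD
    subst hp2
    rw [hBb] at hD
    refine H111.GLB.not_isCyclic_two_of hctx hpF h𝔐 hn (le_refl n) hlab t ht' δ₀ h₁ hw2 χ ht ?_ ?_ ?_ D hD
    · intro ψ t' h2 hf
      rw [← hBb]
      exact sameBlock_of_fam hctx hpF h𝔐 hq hn (le_refl n) hB hχ ht h2 hf
    · intro l hl
      obtain ⟨α, hα⟩ := exists_dch hn0 l hl
      obtain ⟨a, ha, ha'⟩ := exists_linH hctx hN α
      exact ⟨a, ha, by rw [ha', hα]⟩
    · intro a ha
      rw [orderOf_dch hn0, orderOf_linH hctx hN ha]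
  · intro hw4 D hD s hs
    subst hp2
    rw [hBb] at hD
    exact hE2 rfl t ht' δ₀ h₁ hw4 χ ht D hD s hs
  · intro O hO
    exact hP5 hp2 hV hq t ht' δ₀ h₁ (by omega) O hO

end Cfsg.Agent.H666.Clif
end

-- part: H501/GLn/FourC
section
/-!
# S4536 E2: the section of `u = diag(-1, 1)`

* `exists_defect_two` : if the truncated pairing is not zero, a defect group of the block of `χ` contains the direct
  product of defect groups of the blocks of `χ₁` and `χ₂` (intersected with `SL`);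
-/

set_option autoImplicit false
set_option linter.unusedSectionVars false

open Polynomial Cfsg
open scoped ComplexConjugate TensorProduct MatrixGroups

namespace Cfsg.Agent.H501.GLn

open Cfsg.Agent.H614.GLn Cfsg.Agent.H577.GLB.Std
open Cfsg.Agent.H577.GLB.Real (PGen frm coP PhiF cfE Om IsLab slS OnlyOn)
open Cfsg.Agent.H624.Sl (jj jj_mulVec scl prodBlk)
open Cfsg.Agent.H644 Cfsg.Agent.Blocks.Local Cfsg.Agent.H466.Sl
open Cfsg.Agent.Characters.Core Cfsg.Agent.Blocks.Basic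

universe u w

section sec

variable {F : Type u} [Field F] [Finite F] {K : Type w} [Field K] [Algebra F K] {θ : K →*₀ ℂ} {N M : ℕ} [NeZero M]
  {𝔐 : Ideal AlgInt} {k l m n : ℕ}

/-- **the section of `u = diag(-1, 1)`** -/
theorem exists_defect_two (hctx : Ctx F θ N M) (hpF : 2 ≠ ringChar F) (h𝔐 : IsPModular 2 𝔐) (hkl : k + l = n)
    (hn : n ≤ N) {χ : IrrCharacter (GL (Fin n) F)} {t₀ : LabZ (Nat.card F) M m n} (hχ : IsLab θ M m n χ t₀)
    (hPO : SchP (Nat.card F : ℤ) M t₀.t ∈ PGen (Nat.card F : ℤ) M 2)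
    {χ₁ : IrrCharacter (GL (Fin k) F)} {t₁ : LabZ (Nat.card F) M m k} (hχ₁ : IsLab θ M m k χ₁ t₁)
    {χ₂ : IrrCharacter (GL (Fin l) F)} {t₂ : LabZ (Nat.card F) M m l} (hχ₂ : IsLab θ M m l χ₂ t₂)
    (hpair : LinearMap.mul' ℂ ℂ (TensorProduct.map
        (frm (Nat.card F : ℤ) M (SchP (Nat.card F : ℤ) M t₁.t) ∘ₗ (tauP (Nat.card F : ℤ) M 2).toLinearMap ∘ₗ
          (PhiF (Nat.card F : ℤ) M 1).toLinearMap)
        (frm (Nat.card F : ℤ) M (SchP (Nat.card F : ℤ) M t₂.t) ∘ₗ (tauP (Nat.card F : ℤ) M 2).toLinearMap)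
        (coP M (SchP (Nat.card F : ℤ) M t₀.t))) ≠ 0)
    (D : Subgroup (GL (Fin n) F)) (hD : IsDefectGroup 2 𝔐 (blockOf 𝔐 (χ : GL (Fin n) F → ℂ)) D) :
    ∃ (D₁ : Subgroup (GL (Fin k) F)) (D₂ : Subgroup (GL (Fin l) F)),
      IsDefectGroup 2 𝔐 (blockOf 𝔐 (χ₁ : GL (Fin k) F → ℂ)) D₁ ∧
      IsDefectGroup 2 𝔐 (blockOf 𝔐 (χ₂ : GL (Fin l) F → ℂ)) D₂ ∧
      ∃ f : ((D₁ ⊓ slS F k : Subgroup (GL (Fin k) F)) × (D₂ ⊓ slS F l : Subgroup (GL (Fin l) F))) →*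
        (D ⊓ slS F n : Subgroup (GL (Fin n) F)), Function.Injective f := by
  classical
  have hF2 : Fact (Nat.Prime 2) := ⟨Nat.prime_two⟩
  have hK := hctx.finK
  have h𝔐p : 𝔐.IsPrime := isPrime_of_isPModular h𝔐
  -- the linear algebra
  let e : ((Fin k → F) × (Fin l → F)) ≃ₗ[F] (Fin n → F) :=
    LinearEquiv.ofFinrankEq _ _ (by
      rw [Module.finrank_prod, Module.finrank_fin_fun, Module.finrank_fin_fun, Module.finrank_fin_fun, hkl])
  have h2F : (2 : F) ≠ 0 := by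
    intro h
    have h1 : ringChar F ∣ 2 := ringChar.dvd (by exact_mod_cast h)
    rcases (Nat.dvd_prime Nat.prime_two).1 h1 with h3 | h3
    · exact CharP.ringChar_ne_one h3
    · exact hpF h3.symm
  let z : Fˣ := -1
  have hz1 : z ≠ 1 := by
    intro h
    apply h2F
    have h1 : ((z : Fˣ) : F) = 1 := by rw [h, Units.val_one]
    have h2 : (-1 : F) = 1 := h1
    linear_combination -h2
  have hzz : z ^ 2 = 1 := by
    show (-1 : Fˣ) ^ 2 = 1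
    rw [neg_one_sq]
  have hgen : ∀ z : F, Algebra.adjoin F {z} = ⊤ := fun z =>
    Algebra.eq_top_iff.2 fun x => Subalgebra.algebraMap_mem (Algebra.adjoin F {z}) x
  have hinj := H901.Sl.jj_injective (F := F) (K := F) e
  set H : Subgroup (GL (Fin n) F) := (jj (K := F) e).range with hH
  have hcent : H = Subgroup.centralizer ({jj (K := F) e (scl k z, 1)} : Set (GL (Fin n) F)) :=
    H901.Sl.centralizer_jj (F := F) (K := F) e z hz1 (hgen _)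
  have := Fintype.ofFinite H
  -- the product character
  obtain ⟨ψ, hψ⟩ := Cfsg.Agent.H76.GLB.exists_prodChar hinj hH.symm χ₁ χ₂
  obtain ⟨s₀, hs₀⟩ := hχ
  obtain ⟨s₁, hs₁⟩ := hχ₁
  obtain ⟨s₂, hs₂⟩ := hχ₂
  have hk : k ≤ N := by omega
  have hl : l ≤ N := by omega
  have hQ := H421.GLn.isUnit_q hctx
  have hlev : ∀ g : GL (Fin k) F, ¬ 2 ∣ orderOf g → (orderOf g).Coprime 2 := fun g hg =>
    ((Nat.Prime.coprime_iff_not_dvd Nat.prime_two).2 hg).symm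
  -- the pairing
  have hpr := H623.GLn.section_pairing (F := F) (E := F) (p := 2) (f := 1) Nat.prime_two hctx hctx (by rw [pow_one])
    e z ⟨1, orderOf_eq_prime hzz hz1⟩ hz1 hk hl (k := k) (m := l)
    (by
      intro A hA x hx
      have h1 := H111.GLExt.ev_ext (F := F) (E := F) (V := Fin k → F) hctx Nat.prime_two hpF
        (by rw [Module.finrank_fin_fun]; exact hk) (z : F) 1 (by
          rw [pow_one, ← Units.val_pow_eq_pow_val, hzz, Units.val_one]) (hgen _) (Matrix.toLin' A.1) (orderOf A)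
        (hlev A hA) (by
          rw [← Matrix.toLin'_pow, ← Units.val_pow_eq_pow_val, pow_orderOf_eq_one, Units.val_one, Matrix.toLin'_one]
          rfl) hx
      rw [Module.finrank_self] at h1
      rw [H623.GLn.rsM, map_smul]
      exact h1)
    (fun x hx => Om_tauP hctx Nat.prime_two hpF hk hx) (fun x hx => Om_tauP hctx Nat.prime_two hpF hl hx)
    hPO (H614.GLn.RSt.SchP_mem_Hom hQ t₁) (H614.GLn.RSt.SchP_mem_Hom hQ t₂) hinj hH.symm
    (fun h => (((s₁ : ℤ) : ℂ) * ((s₂ : ℤ) : ℂ)) * (ψ : H → ℂ) h) (by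
      intro x h hx
      rw [hψ x h hx, hs₁, hs₂, Pi.smul_apply, Pi.smul_apply, smul_eq_mul, smul_eq_mul]
      ring)
  rw [← hpr] at hpair
  have hne : classInner (pRegularPart 2 (fun c : H => (χ : GL (Fin n) F → ℂ)
      (jj (K := F) e (scl k z, 1) * (c : GL (Fin n) F)))) (ψ : H → ℂ) ≠ 0 := by
    intro h
    apply hpair
    have h1 : (fun c : H => Om (F := F) θ M n (SchP (Nat.card F : ℤ) M t₀.t) (jj (K := F) e (scl k z, 1) * (c : GL (Fin n) F))) =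
        ((s₀ : ℤ) : ℂ) • fun c : H => (χ : GL (Fin n) F → ℂ) (jj (K := F) e (scl k z, 1) * (c : GL (Fin n) F)) := by
      funext c
      rw [hs₀]
      rfl
    have h2 : (fun h : H => (((s₁ : ℤ) : ℂ) * ((s₂ : ℤ) : ℂ)) * (ψ : H → ℂ) h) =
        (((s₁ : ℤ) : ℂ) * ((s₂ : ℤ) : ℂ)) • (ψ : H → ℂ) := rfl
    rw [h1, h2, ← H646.RegInner.regMap_apply, map_smul, H646.RegInner.regMap_apply, classInner_smul_left,
      classInner_smul_right, h, mul_zero, mul_zero]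
  have hord : ∃ i : ℕ, orderOf (jj (K := F) e (scl k z, 1)) = 2 ^ i := by
    have h1 : (jj (K := F) e (scl k z, 1)) ^ 2 = 1 := by
      have h2 : scl k z ^ 2 = 1 := by
        rw [scl, ← map_pow, hzz, map_one]
      rw [← map_pow, Prod.pow_mk, h2, one_pow]
      exact map_one _
    obtain ⟨i, -, hi⟩ := (Nat.dvd_prime_pow Nat.prime_two).1 (show orderOf (jj (K := F) e (scl k z, 1)) ∣ 2 ^ 1 by
      rw [pow_one]; exact orderOf_dvd_of_pow_eq_one h1)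
    exact ⟨i, hi⟩
  have hind := H623.GLn.induced_of_pairing h𝔐 (u := jj (K := F) e (scl k z, 1)) hord hcent
    (isPBlock_blockOf χ) (mem_blockOf_self χ) (isPBlock_blockOf ψ) (mem_blockOf_self ψ) hne
  · -- defect groups
    obtain ⟨D₁, hD₁⟩ := H644.exists_isDefectGroup h𝔐 (isPBlock_blockOf χ₁)
    obtain ⟨D₂, hD₂⟩ := H644.exists_isDefectGroup h𝔐 (isPBlock_blockOf χ₂)
    obtain ⟨D', hD', hj'⟩ := exists_defect_prod' h𝔐 hinj hH.symm D₁ hD₁ D₂ hD₂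
    rw [H76.GLB.prodBlk_blockOf h𝔐 hinj hH.symm χ₁ χ₂ ψ hψ] at hD'
    obtain ⟨E', hE', hle⟩ := Cfsg.Agent.S0917.result 2 𝔐 h𝔐 H _ (isPBlock_blockOf ψ) _ (isPBlock_blockOf χ) hind D' hD'
    obtain ⟨t, ht⟩ := H644.exists_conj_of_isDefectGroup h𝔐 (isPBlock_blockOf χ) hE' hD
    refine ⟨D₁, D₂, hD₁, hD₂, ?_⟩
    let g : ((D₁ ⊓ slS F k : Subgroup (GL (Fin k) F)) × (D₂ ⊓ slS F l : Subgroup (GL (Fin l) F))) →* GL (Fin n) F :=
      (MulAut.conj t).toMonoidHom.comp ((jj (K := F) e).comp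
        ((D₁ ⊓ slS F k : Subgroup (GL (Fin k) F)).subtype.prodMap (D₂ ⊓ slS F l : Subgroup (GL (Fin l) F)).subtype))
    have hg : ∀ x, g x ∈ (D ⊓ slS F n : Subgroup (GL (Fin n) F)) := by
      rintro ⟨⟨a, ha, ha'⟩, ⟨b, hb, hb'⟩⟩
      constructor
      · rw [← ht]
        exact ⟨jj (K := F) e (a, b), hle (hj' a ha b hb), rfl⟩
      · have hnorm : (slS F n).Normal := by unfold slS; infer_instance
        refine hnorm.conj_mem (jj (K := F) e (a, b)) ?_ t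
        show Matrix.GeneralLinearGroup.det (jj (K := F) e (a, b)) = 1
        rw [H901.Sl.det_jj, show Matrix.GeneralLinearGroup.det a = 1 from ha',
          show Matrix.GeneralLinearGroup.det b = 1 from hb', map_one, mul_one]
    refine ⟨g.codRestrict _ hg, ?_⟩
    rintro ⟨a, b⟩ ⟨a', b'⟩ hab
    have h1 : g (a, b) = g (a', b') := congrArg Subtype.val hab
    have h2 := hinj ((MulAut.conj t).injective h1)
    exact Prod.ext (Subtype.ext (congrArg Prod.fst h2)) (Subtype.ext (congrArg Prod.snd h2))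

/-- E2, from the algebra (C2, C3) and E1 -/
theorem four_le_rank_of (hctx : Ctx F θ N M) (hpF : 2 ≠ ringChar F) (h𝔐 : IsPModular 2 𝔐) (hn : n ≤ N)
    (hm : n ≤ m) (t₀ : LabZ (Nat.card F) M m n) (h₀ : POnly M 2 t₀.t) (δ₀ : ZMod M)
    (h₁ : OnlyOn (Nat.card F) M δ₀ t₀.t) (hw : H577.GLB.Std.bsz (t₀.t δ₀) = 4) (χ : IrrCharacter (GL (Fin n) F))
    (hχ : IsLab θ M m n χ t₀) (D : Subgroup (GL (Fin n) F))
    (hD : IsDefectGroup 2 𝔐 (blockOf 𝔐 (χ : GL (Fin n) F → ℂ)) D) (s : ℕ)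
    (hs : SectionalPRankLE 2 s (D ⊓ slS F n : Subgroup (GL (Fin n) F)))
    (hC3 : cfE (Nat.card F : ℤ) M 1 (SchP (Nat.card F : ℤ) M t₀.t)
      (MvPolynomial.X (perZ (Nat.card F : ℤ) M δ₀, canon (Nat.card F : ℤ) M δ₀) ^ 2)
      (MvPolynomial.X (perZ (Nat.card F : ℤ) M δ₀, canon (Nat.card F : ℤ) M δ₀) ^ 2) ≠ 0)
    (hC2b : (MvPolynomial.X (perZ (Nat.card F : ℤ) M δ₀, canon (Nat.card F : ℤ) M δ₀) ^ 2 : RS M) ∈
      Submodule.span ℂ {x : RS M | ∃ t : LabZ (Nat.card F : ℤ) M m (perZ (Nat.card F : ℤ) M δ₀ * 2),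
        OnlyOn (Nat.card F : ℤ) M δ₀ t.t ∧ x = SchP (Nat.card F : ℤ) M t.t})
    (hE1 : ∀ (n' : ℕ), n' ≤ N → n' ≤ m → ∀ (t : LabZ (Nat.card F) M m n'), POnly M 2 t.t →
      OnlyOn (Nat.card F) M δ₀ t.t → H577.GLB.Std.bsz (t.t δ₀) = 2 → ∀ (χ' : IrrCharacter (GL (Fin n') F)),
      IsLab θ M m n' χ' t → ∀ D' : Subgroup (GL (Fin n') F),
      IsDefectGroup 2 𝔐 (blockOf 𝔐 (χ' : GL (Fin n') F → ℂ)) D' →
      ¬ IsCyclic (D' ⊓ slS F n' : Subgroup (GL (Fin n') F))) : 4 ≤ s := by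
  classical
  have hF2 : Fact (Nat.Prime 2) := ⟨Nat.prime_two⟩
  have hQ := H421.GLn.isUnit_q hctx
  -- `q` is odd
  have hQ2 : ((Nat.card F : ℤ) : ZMod 2) = 1 := by
    have := Fintype.ofFinite F
    have h2 := FiniteField.odd_card_of_char_ne_two (F := F) hpF.symm
    rw [Nat.card_eq_fintype_card, Int.cast_natCast, ← ZMod.natCast_mod, h2, Nat.cast_one]
  -- the degree
  have hper : 0 < perZ (Nat.card F : ℤ) M δ₀ := H614.GLn.RSt.perZ_pos hQ δ₀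
  have hdeg : ∀ {n' : ℕ} (hm' : n' ≤ m) (t : LabZ (Nat.card F : ℤ) M m n'), POnly M 2 t.t → OnlyOn (Nat.card F : ℤ) M δ₀ t.t →
      n' = perZ (Nat.card F : ℤ) M δ₀ * H577.GLB.Std.bsz (t.t δ₀) := fun hm' t ht ht' =>
    (H76.GLB.card_family_one Nat.prime_two hQ hQ2 hm' t ht δ₀ ht').2.1
  have hn4 := hdeg hm t₀ h₀ h₁
  rw [hw] at hn4
  -- `δ₀` is regular
  have hδ : PReg M 2 δ₀ := by
    by_contra h
    have := h₀ δ₀ h
    omega
  have hδc : PReg M 2 (canon (Nat.card F : ℤ) M δ₀) := by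
    obtain ⟨j, hj⟩ := H614.GLn.RSt.sameZ_canon (Q := (Nat.card F : ℤ)) (M := M) δ₀
    exact H76.GLB.pReg_of_same ⟨j, hj⟩ hδ
  have hPO : ∀ {n' : ℕ} (t : LabZ (Nat.card F : ℤ) M m n'), OnlyOn (Nat.card F : ℤ) M δ₀ t.t → POnly M 2 t.t := by
    intro n' t ht c hc
    by_contra h
    obtain ⟨j, hj⟩ := ht c (Nat.pos_of_ne_zero h)
    exact hc (H76.GLB.pReg_of_same ⟨j, hj⟩ hδ)
  obtain ⟨y₁, ⟨t₁, ht₁, rfl⟩, y₂, ⟨t₂, ht₂, rfl⟩, hpair⟩ := pairing_ne_zero (p := 2) Nat.prime_two hQ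
    (v := (perZ (Nat.card F : ℤ) M δ₀, canon (Nat.card F : ℤ) M δ₀)) hδc 2 2 (H117.GLn.SchP_mem_PGen hQ t₀.t h₀) hC3 _ _ hC2b hC2b
  have hn2 : perZ (Nat.card F : ℤ) M δ₀ * 2 ≤ n := by omega
  obtain ⟨χ₁, hχ₁, -⟩ := (H577.GLB.Real.isLab_bij hctx (m := m) (hn2.trans hn) (hn2.trans hm)).2 t₁
  obtain ⟨χ₂, hχ₂, -⟩ := (H577.GLB.Real.isLab_bij hctx (m := m) (hn2.trans hn) (hn2.trans hm)).2 t₂
  obtain ⟨D₁, D₂, hD₁, hD₂, f, hf⟩ := exists_defect_two hctx hpF h𝔐 (by omega) hn hχ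
    (H117.GLn.SchP_mem_PGen hQ t₀.t h₀) hχ₁ hχ₂ hpair D hD
  have hb : ∀ t : LabZ (Nat.card F : ℤ) M m (perZ (Nat.card F : ℤ) M δ₀ * 2), OnlyOn (Nat.card F : ℤ) M δ₀ t.t → H577.GLB.Std.bsz (t.t δ₀) = 2 := by
    intro t ht
    have h2 := hdeg (hn2.trans hm) t (hPO t ht) ht
    exact (Nat.eq_of_mul_eq_mul_left hper h2).symm
  have hc₁ := hE1 _ (hn2.trans hn) (hn2.trans hm) t₁ (hPO t₁ ht₁) ht₁ (hb t₁ ht₁) χ₁ hχ₁ D₁ hD₁
  have hc₂ := hE1 _ (hn2.trans hn) (hn2.trans hm) t₂ (hPO t₂ ht₂) ht₂ (hb t₂ ht₂) χ₂ hχ₂ D₂ hD₂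
  have hp₁ : IsPGroup 2 (D₁ ⊓ slS F (perZ (Nat.card F : ℤ) M δ₀ * 2) : Subgroup (GL (Fin (perZ (Nat.card F : ℤ) M δ₀ * 2)) F)) :=
    (isPGroup_of_isDefectGroup hD₁).to_le inf_le_left
  have hp₂ : IsPGroup 2 (D₂ ⊓ slS F (perZ (Nat.card F : ℤ) M δ₀ * 2) : Subgroup (GL (Fin (perZ (Nat.card F : ℤ) M δ₀ * 2)) F)) :=
    (isPGroup_of_isDefectGroup hD₂).to_le inf_le_left
  exact four_le_of_noncyclic hp₁ hp₂ hc₁ hc₂ f hf hs

end sec

end Cfsg.Agent.H501.GLn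
end

-- part: H111/GLB/E1b
section
/-!
# HUB S4536: E1 with the labels of the linear characters (L1, L2) as the only hypotheses
-/

set_option autoImplicit false
set_option linter.unusedSectionVars false

open Cfsg
open scoped ComplexConjugate

namespace Cfsg.Agent.H111.GLB

open Cfsg.Agent.H577.GLB.Std Cfsg.Agent.H614 Cfsg.Agent.H112.GLB
open Cfsg.Agent.H657 Cfsg.Agent.H608.BlockRank Cfsg.Agent.Blocks.Basic Cfsg.Agent.Blocks.Local
open Cfsg.Agent.H577.GLB.Real Cfsg.Agent.H614.GLn Cfsg.Agent.H624.Sl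

universe u

variable {F K : Type u} [Field F] [Field K] [Algebra F K] {θ : K →*₀ ℂ} {N M : ℕ} [NeZero M]
  {𝔐 : Ideal AlgInt}

/-- **E1** (`not_isCyclic_two`), hypotheses: L1 and L2. -/
theorem not_isCyclic_two_of_lin [Finite F] (hctx : Ctx F θ N M) (hpF : 2 ≠ ringChar F) (h𝔐 : IsPModular 2 𝔐)
    {m n : ℕ} (hn : n ≤ N) (hm : n ≤ m) (t₀ : LabZ (Nat.card F) M m n)
    (h₀ : POnly M 2 t₀.t) (δ₀ : ZMod M) (h₁ : OnlyOn (Nat.card F) M δ₀ t₀.t)
    (hw : H577.GLB.Std.bsz (t₀.t δ₀) = 2)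
    (χ : IrrCharacter (GL (Fin n) F)) (hχ : IsLab θ M m n χ t₀)
    (hlin : ∀ l : GL (Fin n) F →* ℂˣ, (∀ x ∈ slS F n, l x = 1) → ∃ a : ZMod M, TorZ (Nat.card F) M 1 a ∧
      l = dch n (linH F θ M a))
    (hord : ∀ a : ZMod M, TorZ (Nat.card F) M 1 a → orderOf (dch n (linH F θ M a)) = addOrderOf a)
    (D : Subgroup (GL (Fin n) F)) (hD : IsDefectGroup 2 𝔐 (blockOf 𝔐 (χ : GL (Fin n) F → ℂ)) D) :
    ¬ IsCyclic (D ⊓ slS F n : Subgroup (GL (Fin n) F)) := by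
  have hMp := isPrime_of_isPModular h𝔐
  refine not_isCyclic_two_of hctx hpF h𝔐 hn hm (isLab_bij hctx hn hm) t₀ h₀ δ₀ h₁ hw χ hχ ?_ hlin hord D hD
  intro ψ t ht hf
  exact sameBlock_of_fam hctx hpF h𝔐 (by
    have := card_cast_two F hpF
    rwa [Int.cast_natCast] at this) hn hm ⟨χ, rfl⟩ (Blocks.Induced.sameBlock_refl hMp _) hχ ht hf

end Cfsg.Agent.H111.GLB
end

-- part: H501/GLn/FourD
section
/-!
# S4536 E2, with the labels of the linear characters (L1, L2) as the only hypotheses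
-/

set_option autoImplicit false
set_option linter.unusedSectionVars false

open Polynomial Cfsg
open scoped ComplexConjugate TensorProduct MatrixGroups

namespace Cfsg.Agent.H501.GLn

open Cfsg.Agent.H614.GLn Cfsg.Agent.H577.GLB.Std
open Cfsg.Agent.H577.GLB.Real (PGen frm coP PhiF cfE Om IsLab slS OnlyOn linH)
open Cfsg.Agent.H624.Sl (dch)

universe u

variable {F : Type u} [Field F] [Finite F] {K : Type u} [Field K] [Algebra F K] {θ : K →*₀ ℂ} {N M : ℕ} [NeZero M]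
  {𝔐 : Ideal AlgInt}

/-- **E2** (`four_le_rank`), hypotheses: L1 and L2. -/
theorem four_le_rank_of_lin (hctx : Ctx F θ N M) (hpF : 2 ≠ ringChar F) (h𝔐 : IsPModular 2 𝔐) {m n : ℕ} (hn : n ≤ N)
    (hm : n ≤ m) (t₀ : LabZ (Nat.card F) M m n) (h₀ : POnly M 2 t₀.t) (δ₀ : ZMod M)
    (h₁ : OnlyOn (Nat.card F) M δ₀ t₀.t) (hw : H577.GLB.Std.bsz (t₀.t δ₀) = 4) (χ : IrrCharacter (GL (Fin n) F))
    (hχ : IsLab θ M m n χ t₀)
    (hlin : ∀ n' : ℕ, 0 < n' → ∀ l : GL (Fin n') F →* ℂˣ, (∀ x ∈ slS F n', l x = 1) →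
      ∃ a : ZMod M, TorZ (Nat.card F) M 1 a ∧ l = dch n' (linH F θ M a))
    (hord : ∀ n' : ℕ, 0 < n' → ∀ a : ZMod M, TorZ (Nat.card F) M 1 a → orderOf (dch n' (linH F θ M a)) = addOrderOf a)
    (D : Subgroup (GL (Fin n) F))
    (hD : IsDefectGroup 2 𝔐 (blockOf 𝔐 (χ : GL (Fin n) F → ℂ)) D) (s : ℕ)
    (hs : SectionalPRankLE 2 s (D ⊓ slS F n : Subgroup (GL (Fin n) F))) : 4 ≤ s := by
  have hQ := H421.GLn.isUnit_q hctx
  have hQ2 : ((Nat.card F : ℤ) : ZMod 2) = 1 := by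
    have := Fintype.ofFinite F
    have h2 := FiniteField.odd_card_of_char_ne_two (F := F) hpF.symm
    rw [Nat.card_eq_fintype_card, Int.cast_natCast, ← ZMod.natCast_mod, h2, Nat.cast_one]
  have hdeg := (H76.GLB.card_family_one Nat.prime_two hQ hQ2 hm t₀ h₀ δ₀ h₁).2.1
  rw [hw] at hdeg
  have hper : 0 < perZ (Nat.card F : ℤ) M δ₀ := H614.GLn.RSt.perZ_pos hQ δ₀
  have h4m : 4 ≤ m := by
    have : 1 * 4 ≤ perZ (Nat.card F : ℤ) M δ₀ * 4 := Nat.mul_le_mul_right _ hper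
    omega
  refine four_le_rank_of hctx hpF h𝔐 hn hm t₀ h₀ δ₀ h₁ hw χ hχ D hD s hs ?_ ?_ ?_
  · rw [H120.GLB.Ctx.cfE_one hQ (H623.GLn.PGen_le (H117.GLn.SchP_mem_PGen hQ t₀.t h₀)), ← pow_add]
    have h2 := H614.GLn.RSt.form_SchP_X_pow_ne_zero hQ t₀ h₁ (by rw [hw]; exact h4m)
    rw [hw] at h2
    exact h2
  · have h2 := H614.GLn.RSt.X_pow_mem_span (m := m) hQ δ₀ (w := 2) (by omega)
    refine Submodule.span_mono ?_ h2
    rintro x ⟨t, ht, -, hx⟩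
    exact ⟨t, ht, hx⟩
  · intro n' hn' hm' t ht ht' hw' χ' hχ' D' hD'
    have h2 := (H76.GLB.card_family_one Nat.prime_two hQ hQ2 hm' t ht δ₀ ht').2.1
    rw [hw'] at h2
    have h3 : 0 < n' := by omega
    exact H111.GLB.not_isCyclic_two_of_lin hctx hpF h𝔐 hn' hm' t ht δ₀ ht' hw' χ' hχ' (hlin n' h3) (hord n' h3) D' hD'

end Cfsg.Agent.H501.GLn
end

-- part: H583/GLn/Lin
section
/-!
# S4536, LIN: linear characters (helper583), from H666/Clif/Lin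
-/

set_option autoImplicit false
set_option linter.unusedSectionVars false
open Polynomial Cfsg
open scoped ComplexConjugate TensorProduct MatrixGroups

namespace Cfsg.Agent.H583.GLn

open Cfsg.Agent.H614.GLn Cfsg.Agent.H577.GLB.Std Cfsg.Agent.H577.GLB.Real Cfsg.Agent.H657 Cfsg.Agent.H624.Sl

universe u v w

variable {F : Type u} [Field F] [Finite F] {K : Type u} [Field K] [Algebra F K] {θ : K →*₀ ℂ} {N M : ℕ} [NeZero M]
  {p : ℕ}

/-- L1 -/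
theorem exists_label_of_lin (hctx : Ctx F θ N M) (hN : 1 ≤ N) {n : ℕ} (hn : 0 < n) (l : GL (Fin n) F →* ℂˣ)
    (hl : ∀ x ∈ slS F n, l x = 1) : ∃! a : ZMod M, TorZ (Nat.card F) M 1 a ∧ l = dch n (linH F θ M a) := by
  obtain ⟨α, hα⟩ := Cfsg.Agent.H666.Clif.exists_dch hn l hl
  obtain ⟨a, ha, ha'⟩ := Cfsg.Agent.H666.Clif.exists_linH hctx hN α
  refine ⟨a, ⟨ha, by rw [ha', hα]⟩, ?_⟩
  rintro b ⟨hb, hb'⟩
  apply Cfsg.Agent.H666.Clif.linH_injOn hctx hN hb ha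
  apply Cfsg.Agent.H666.Clif.dch_injective hn
  show dch n (linH F θ M b) = dch n (linH F θ M a)
  rw [← hb', ha', hα]

/-- L2 -/
theorem orderOf_dch (hctx : Ctx F θ N M) (hN : 1 ≤ N) {n : ℕ} (hn : 0 < n) (a : ZMod M)
    (ha : TorZ (Nat.card F) M 1 a) : orderOf (dch n (linH F θ M a)) = addOrderOf a := by
  rw [Cfsg.Agent.H666.Clif.orderOf_dch hn, Cfsg.Agent.H666.Clif.orderOf_linH hctx hN ha]

end Cfsg.Agent.H583.GLn
end

-- part: S4536
section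
set_option autoImplicit false
open Cfsg

namespace Cfsg.Agent.S4536

/-- Let F be a finite field, n ≥ 2, and suppose the special linear group SL(n, F) is quasisimple. Let p be a prime different from the characteristic of F and B a p-block of SL(n, F) (relative to a maximal ideal M of the algebraic integers containing p) with a defect group D all of whose sections have p-rank at most s. Then the p-regular rank of B is at most p ^ s. -/
theorem result {F : Type*} [Field F] [Fintype F] (n : ℕ) (hn : 2 ≤ n) (hqs : Cfsg.IsQuasisimple (Matrix.SpecialLinearGroup (Fin n) F)) (p : ℕ) [Fact p.Prime] (hp : p ≠ ringChar F) (M : Ideal Cfsg.AlgInt) (hM : Cfsg.IsPModular p M) (B : Set (Cfsg.IrrCharacter (Matrix.SpecialLinearGroup (Fin n) F))) (hB : Cfsg.IsPBlock M B) (D : Subgroup (Matrix.SpecialLinearGroup (Fin n) F)) (hD : Cfsg.IsDefectGroup p M B D) (s : ℕ) (hs : Cfsg.SectionalPRankLE p s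 D) : Cfsg.blockRank p B ≤ p ^ s := by
  obtain ⟨K, _, _, θ, M', _, hctx⟩ := Cfsg.Agent.H120.GLB.Ctx.exists_ctx F n
  have hN : 1 ≤ n := by omega
  refine Cfsg.Agent.H577.GLB.Real.sl_of_slS (fun B hB D hD s hs =>
    Cfsg.Agent.H666.Clif.slS_of hctx hp hM (le_refl n) (by omega) ?_ ?_ B hB D hD s hs) B hB D hD s hs
  · intro hp2 t₀ h₀ δ₀ h₁ hw χ hχ D₁ hD₁ s₁ hs₁
    subst hp2
    refine Cfsg.Agent.H501.GLn.four_le_rank_of_lin hctx hp hM (le_refl n) (le_refl n) t₀ h₀ δ₀ h₁ hw χ hχ ?_ ?_ D₁ hD₁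
      s₁ hs₁
    · intro n' hn' l hl
      exact (Cfsg.Agent.H583.GLn.exists_label_of_lin hctx hN hn' l hl).exists
    · intro n' hn' a ha
      exact Cfsg.Agent.H583.GLn.orderOf_dch hctx hN hn' a ha
  · intro _ V hV hq t₀ h₀ δ₀ h₁ hw O hO
    exact Cfsg.Agent.H139.P5GL.card_irred_GL hctx hp hM hV hq (le_refl n) (le_refl n) t₀ h₀ δ₀ h₁ hw O hO

end Cfsg.Agent.S4536
end
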