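import Cfsg.Agent.H666.GU.Asm
import Cfsg.Agent.H941.GLn.GB5
import Cfsg.Agent.H474.GU.NF_m3
import Cfsg.Agent.H623.GLn.D4A
import Cfsg.Agent.H501.GLn.FourB
import Cfsg.Agent.H120.GLB.Ctx
import Cfsg.Agent.H614.GLn.Cusp
import Cfsg.Agent.H76.GLB.ProdBlk
import Cfsg.Agent.H76.GLB.DE2
import Cfsg.Agent.H76.GLB.Orbit
import Cfsg.Agent.H941.GU.Tow_m3
import Cfsg.Agent.H623.GU.GeoAll
import Cfsg.Statements.S4537
import Cfsg.Agent.Prune
set_option linter.all false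
prune_inst 0x7ffffdfdfdacdddfffff7fbffed5dffddeafafffefdffbcbffe8659f8bdf5b9ad9e5fb8d9bfa72fe1ed6ea7614f87b03fdffdfffe66bf87ffffdbff41ffbffdfedffb508519d88b40fbe6fff93f07f8e7f3fffffffffffffffffffffffffffbeffbfffffffff
open scoped Cfsg.Agent.FastGrp

-- part: H666/GU/Plug
section
/-!
# S4537: the tower of `GU n F q`, families are blocks, the splitting

* `towGU` : the tower (structure `Tow` of helper623);
* `om_tau1U`, `sameBlockU` : if `p` divides `q + 1` a family is one block;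
-/

set_option autoImplicit false
set_option linter.unusedSectionVars false

open Cfsg Polynomial
open scoped ComplexConjugate MatrixGroups

namespace Cfsg.Agent.H666.GU

open Cfsg.Agent.H577.GLB Cfsg.Agent.H577.GLB.Std Cfsg.Agent.H614 Cfsg.Agent.H112.GLB
open Cfsg.Agent.H615.GU Cfsg.Agent.H421.GU Cfsg.Agent.H666.Clif Cfsg.Agent.H614.GU Cfsg.Agent.H623.GU
open Cfsg.Agent.H608.BlockRank Cfsg.Agent.Blocks.Local Cfsg.Agent.H614.GLn Cfsg.Agent.H577.GUX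

universe u

variable {F : Type u} [Field F] [Fintype F] {K : Type u} [Field K] [Algebra F K] {θ : K →*₀ ℂ} {q N M p : ℕ}
  [NeZero M]

/-- the tower of the groups `GU n F q` -/
noncomputable def towGU (C : Ctx F θ N M) (hF : Fintype.card F = q ^ 2) (hp : p.Prime) (hpF : p ≠ ringChar F) :
    Tow θ (-(q : ℤ)) M N p (fun n => Cfsg.GU n F q) where
  T := TU C hF
  hyp n hn := rzU C hF hp hpF hn
  gr n hn := grU C hF hp hpF hn
  bij n m hn hm := bijU C hF hp hpF hn hm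
  preg n hn g hg := by
    have := C.finK
    rw [← H697.GW.preg_iff_GU (splU C hn) (isTypU C hF hn) hp (cast_ne_zero_of hp hpF) g, Nat.coprime_comm,
      hp.coprime_iff_not_dvd]
    exact hg

theorem towGU_typ (C : Ctx F θ N M) (hF : Fintype.card F = q ^ 2) (hp : p.Prime) (hpF : p ≠ ringChar F) (n : ℕ)
    (hn : n ≤ N) : IsTypU q n ((towGU C hF hp hpF).T n hn) := isTypU C hF hn

open Classical in
/-- the elements of order not divisible by `p ^ 2` -/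
theorem om_tau1U (C : Ctx F θ N M) (hF : Fintype.card F = q ^ 2) (hp : p.Prime) (hpF : p ≠ ringChar F)
    (t : Tow θ (-(q : ℤ)) M N p (fun n => Cfsg.GU n F q)) (ht : ∀ n (hn : n ≤ N), IsTypU q n (t.T n hn)) {n : ℕ}
    (hn : n ≤ N) {x : RS M} (hx : x ∈ Hom (-(q : ℤ)) M n) (g : Cfsg.GU n F q) :
    (t.R n hn).om (H941.GLn.FamOne.tau1 (-(q : ℤ)) M p x) g =
      (if p ^ 2 ∣ orderOf g then 0 else 1) * (t.R n hn).om x g := by
  have := C.finK
  have hctx := ctxU C hF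
  rw [t.R_om hn, t.R_om hn, H501.GU.evR_tau1 hctx.card hctx.unit hctx.inj hp hctx.dvd
    (fun v x => H531.GU.evR_X_mul θ _ M H521.GU.i2s v x) (hom_le_genR n x hx) _
    (((t.T n hn).deg g).le.trans hn)]
  have h1 := H697.GW.pow_dvd_orderOf_iff_GU (splU C hn) (ht n hn) hp (cast_ne_zero_of hp hpF) g (k := 2) two_pos
  by_cases h : p ^ 2 ∣ orderOf g
  · obtain ⟨y, hy, hy'⟩ := h1.1 h
    rw [if_pos h, zero_mul, if_neg]
    intro h2
    exact h2 y hy hy'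
  · rw [if_neg h, one_mul, if_pos]
    intro y hy hy'
    exact h (h1.2 ⟨y, hy, hy'⟩)

/-- if `p` divides `q + 1` a family is one block -/
theorem sameBlockU (C : Ctx F θ N M) (hF : Fintype.card F = q ^ 2) (hpF : p ≠ ringChar F)
    (t : Tow θ (-(q : ℤ)) M N p (fun n => Cfsg.GU n F q)) (ht : ∀ n (hn : n ≤ N), IsTypU q n (t.T n hn))
    {𝔐 : Ideal AlgInt} (h𝔐 : IsPModular p 𝔐) (hQ1 : ((-(q : ℤ) : ℤ) : ZMod p) = 1) {n : ℕ} (hn : n ≤ N) (hn0 : 0 < n)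
    {m : ℕ} (hm : n ≤ m) {B : Set (IrrCharacter (Cfsg.GU n F q))} (hB : IsPBlock 𝔐 B)
    {χ : IrrCharacter (Cfsg.GU n F q)} (hχ : χ ∈ B) {l : LabZ (-(q : ℤ)) M m n} (hl : (t.R n hn).IsLb χ l)
    (ψ : IrrCharacter (Cfsg.GU n F q)) (l' : LabZ (-(q : ℤ)) M m n) (hl' : (t.R n hn).IsLb ψ l')
    (h : SameFam (-(q : ℤ)) M p l.t l'.t) : ψ ∈ B := by
  classical
  have hp := h𝔐.1
  have := C.finK
  have hctx := ctxU C hF
  have hpM : p ∣ M := by
    have h1 := hctx.dvd 1 one_pos (by omega)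
    rw [pow_one] at h1
    have h2 : (p : ℤ) ∣ -(q : ℤ) - 1 := by
      rw [← ZMod.intCast_zmod_eq_zero_iff_dvd]
      push_cast at hQ1 ⊢
      rw [hQ1, sub_self]
    exact_mod_cast h2.trans h1
  refine H941.GLn.GB5.Rz.sameBlock_of_fam (t.R n hn) (fun x hx g => ?_) h𝔐 hQ1 hpM hm (t.bij n m hn hm) hB hχ hl hl' h
  have h2 := om_tau1U C hF hp hpF t ht hn hx g
  convert h2

end Cfsg.Agent.H666.GU
end

-- part: H139/GUX/Half
section
/-!
# S4537 / S4536: the block `Δ^w`, `w` even, is induced from `b(Δ^(w/2)) × b(Δ^(w/2))`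

Abstract realizations `R : Rz Q M p n G`, `R₁ : Rz Q M p a X` (helper112), `n = 2 a`, an embedding `j : X × X → G` with
image the centralizer of a `p`-element `u`, values of `R.om x` at `u j(A, B)` given by the coproduct.

* `exists_half` : the labels `t₁`, `t₂` and the induced block;
* `exists_half_same` : with the same block twice, if families are blocks for `X`.
-/

set_option autoImplicit false
set_option linter.unusedSectionVars false

open Cfsg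
open scoped ComplexConjugate TensorProduct

namespace Cfsg.Agent.H139.GUX

open Cfsg.Agent.H577.GLB.Std Cfsg.Agent.H614 Cfsg.Agent.H614.GLn Cfsg.Agent.H623.GLn Cfsg.Agent.H623.GU
open Cfsg.Agent.H577.GLB.Real (coP PhiF PGen frm OnlyOn cfE)
open Cfsg.Agent.H112.GLB Cfsg.Agent.H608.BlockRank
open Cfsg.Agent.Blocks.Local Cfsg.Agent.Blocks.Basic Cfsg.Agent.H624.Sl

universe u

variable {Q : ℤ} {M : ℕ} [NeZero M] {p n a m : ℕ} {G X : Type u} [Group G] [Finite G] [Group X] [Finite X]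
  {𝔐 : Ideal AlgInt}

/-- the values of `om` at `u (A, B)` for `p`-regular `A`, `B` are given by the coproduct (no extension of fields) -/
def Val1 {b : ℕ} {Y : Type u} [Group Y] (R : Rz Q M p n G) (R₁ : Rz Q M p a X) (R₂ : Rz Q M p b Y) (j : X × Y →* G)
    (u : G) : Prop :=
  ∀ x ∈ PGen Q M p, ∀ (A : X) (B : Y), ¬ p ∣ orderOf A → ¬ p ∣ orderOf B →
    R.om x (u * j (A, B)) = LinearMap.mul' ℂ ℂ (TensorProduct.map (evR R₁ A) (evR R₂ B) (coP M x))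

/-- change of the parameter `Q` to `Q ^ 1` -/
theorem exists_pow_one (R₁ : Rz Q M p a X) : ∃ R₁' : Rz (Q ^ 1) M p a X, R₁'.om = R₁.om := by
  rw [pow_one]
  exact ⟨R₁, rfl⟩

/-- the pairing theorem without extension of fields -/
theorem pairing_one (hp : p.Prime) {b : ℕ} {Y : Type u} [Group Y] [Finite Y] {R : Rz Q M p n G} {R₁ : Rz Q M p a X}
    {R₂ : Rz Q M p b Y} (h₁ : Gr R₁) (h₂ : Gr R₂)
    {j : X × Y →* G} (hj : Function.Injective j) {H : Subgroup G} [Fintype H] (hH : j.range = H) {u : G}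
    (hval : Val1 R R₁ R₂ j u) {x : RS M}
    (hx : x ∈ PGen Q M p) {y₁ y₂ : RS M} (hy₁ : y₁ ∈ Hom Q M a) (hy₂ : y₂ ∈ Hom Q M b) (ψ : H → ℂ)
    (hψ : ∀ (x : X × Y) (h : H), j x = h → ψ h = R₁.om y₁ x.1 * R₂.om y₂ x.2) :
    classInner (pRegularPart p (fun c : H => R.om x (u * (c : G)))) ψ =
      LinearMap.mul' ℂ ℂ (TensorProduct.map
        (frm Q M y₁ ∘ₗ (tauP Q M p).toLinearMap ∘ₗ (PhiF Q M 1).toLinearMap)
        (frm Q M y₂ ∘ₗ (tauP Q M p).toLinearMap) (coP M x)) := by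
  obtain ⟨R₁', hR₁'⟩ := exists_pow_one R₁
  have hGr : Gr R₁' := by
    intro m c hm
    rw [hR₁']
    exact h₁ m c hm
  have hv : Val (f := 1) R R₁' R₂ j u := by
    intro x hx A B hA hB
    rw [hval x hx A B hA hB]
    refine map_coP_congr hx ?_ (fun _ _ => rfl)
    intro y hy
    rw [LinearMap.comp_apply, AlgHom.toLinearMap_apply, evR_apply, evR_apply, hR₁',
      H501.GLn.PhiF_one (PGen_le hy) R.unit]
  have h3 := section_pairing (f := 1) hp hGr h₂ hj hH hv hx (y₁ := y₁) (y₂ := y₂) (by rw [pow_one]; exact hy₁) hy₂ ψ (by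
    intro x h hxh
    rw [hR₁']
    exact hψ x h hxh)
  rw [h3, pow_one]

/-- **The section of `u`.** -/
theorem exists_half (h𝔐 : IsPModular p 𝔐) {R : Rz Q M p n G} {R₁ : Rz Q M p a X} (h₁ : Gr R₁) (hna : n = a + a)
    (hm : n ≤ m) (hlab₁ : R₁.Bij m) {j : X × X →* G} (hj : Function.Injective j) {u : G}
    (hu : ∃ k : ℕ, orderOf u = p ^ k) (hr : j.range = Subgroup.centralizer ({u} : Set G)) (hval : Val1 R R₁ R₁ j u)
    {B : Set (IrrCharacter G)} (hB : IsPBlock 𝔐 B) {χ : IrrCharacter G} (hχ : χ ∈ B) {t : LabZ Q M m n}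
    (ht : R.IsLb χ t) (htp : POnly M p t.t) {δ₀ : ZMod M} (ho : OnlyOn Q M δ₀ t.t) {w : ℕ} (hw0 : 0 < w)
    (hw : H577.GLB.Std.bsz (t.t δ₀) = w + w) :
    ∃ (χ₁ χ₂ : IrrCharacter X) (t₁ t₂ : LabZ Q M m a), R₁.IsLb χ₁ t₁ ∧ R₁.IsLb χ₂ t₂ ∧ OnlyOn Q M δ₀ t₁.t ∧
      OnlyOn Q M δ₀ t₂.t ∧ H577.GLB.Std.bsz (t₁.t δ₀) = w ∧ H577.GLB.Std.bsz (t₂.t δ₀) = w ∧
      IsInducedBlock 𝔐 (Subgroup.centralizer ({u} : Set G)) (prodBlk (Subgroup.centralizer ({u} : Set G)) j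
        (blockOf 𝔐 (χ₁ : X → ℂ)) (blockOf 𝔐 (χ₂ : X → ℂ))) B := by
  classical
  have hp := h𝔐.1
  have : Fact p.Prime := ⟨hp⟩
  have := isPrime_of_isPModular h𝔐
  have := Fintype.ofFinite (Subgroup.centralizer ({u} : Set G))
  have hQ := R.unit
  have hsize := H76.GLB.size_onlyOn hQ t ho
  have hd := RSt.perZ_pos hQ δ₀
  have ha : a = perZ Q M δ₀ * w := by
    rw [hw, mul_add] at hsize
    omega
  subst ha
  have hwm : w + w ≤ m := by
    refine le_trans ?_ hm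
    rw [hsize, hw]
    exact Nat.le_mul_of_pos_left _ hd
  have hδ : PReg M p δ₀ := by
    by_contra h
    have := htp δ₀ h
    omega
  have hδc : PReg M p (canon Q M δ₀) := by
    obtain ⟨i, hi⟩ := RSt.sameZ_canon (Q := Q) δ₀
    exact H76.GLB.pReg_of_same ⟨i, hi⟩ hδ
  have hx : SchP Q M t.t ∈ PGen Q M p := RSt.SchP_mem_PGen t htp
  have hne : cfE Q M 1 (SchP Q M t.t) (MvPolynomial.X (perZ Q M δ₀, canon Q M δ₀) ^ w)
      (MvPolynomial.X (perZ Q M δ₀, canon Q M δ₀) ^ w) ≠ 0 := by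
    rw [H120.GLB.Ctx.cfE_one hQ (PGen_le hx), ← pow_add, ← hw]
    exact RSt.form_SchP_X_pow_ne_zero hQ t ho (by rw [hw]; exact hwm)
  have hspan := RSt.X_pow_mem_span (Q := Q) (m := m) hQ δ₀ (w := w) (by omega)
  obtain ⟨y₁, ⟨t₁, ho₁, hb₁, rfl⟩, y₂, ⟨t₂, ho₂, hb₂, rfl⟩, hpair⟩ := H501.GLn.pairing_ne_zero hp hQ
    (v := (perZ Q M δ₀, canon Q M δ₀)) hδc w w hx hne _ _ hspan hspan
  obtain ⟨χ₁, hχ₁, -⟩ := hlab₁.2 t₁
  obtain ⟨χ₂, hχ₂, -⟩ := hlab₁.2 t₂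
  refine ⟨χ₁, χ₂, t₁, t₂, hχ₁, hχ₂, ho₁, ho₂, hb₁, hb₂, ?_⟩
  obtain ⟨ψ, hψ⟩ := H76.GLB.exists_prodChar hj hr χ₁ χ₂
  obtain ⟨s, hs⟩ := ht
  obtain ⟨s₁, hs₁⟩ := hχ₁
  obtain ⟨s₂, hs₂⟩ := hχ₂
  have h3 := pairing_one hp h₁ h₁ hj hr hval hx (schP_mem_hom hQ t₁) (schP_mem_hom hQ t₂)
    ((((s₁ : ℤ) : ℂ) * ((s₂ : ℤ) : ℂ)) • (ψ : Subgroup.centralizer ({u} : Set G) → ℂ)) (by
      intro x h hxh
      rw [Pi.smul_apply, hψ x h hxh, hs₁, hs₂, smul_eq_mul, Pi.smul_apply, Pi.smul_apply, smul_eq_mul, smul_eq_mul]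
      ring)
  rw [← h3] at hpair
  have hne' : classInner (pRegularPart p (fun c : Subgroup.centralizer ({u} : Set G) => (χ : G → ℂ) (u * (c : G))))
      (ψ : Subgroup.centralizer ({u} : Set G) → ℂ) ≠ 0 := by
    intro h0
    apply hpair
    have h4 : (fun c : Subgroup.centralizer ({u} : Set G) => R.om (SchP Q M t.t) (u * (c : G))) =
        ((s : ℤ) : ℂ) • (fun c : Subgroup.centralizer ({u} : Set G) => (χ : G → ℂ) (u * (c : G))) := by
      funext c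
      rw [hs]
      rfl
    rw [h4, ← Cfsg.Agent.H646.RegInner.regMap_apply, map_smul, Characters.Core.classInner_smul_left,
      Cfsg.Agent.H646.RegInner.regMap_apply, Characters.Core.classInner_smul_right, h0, mul_zero, mul_zero]
  have hind := induced_of_pairing h𝔐 hu rfl hB hχ (isPBlock_blockOf ψ) (mem_blockOf_self ψ) hne'
  rwa [← Cfsg.Agent.H76.GLB.prodBlk_blockOf h𝔐 hj hr χ₁ χ₂ ψ hψ] at hind

/-- **The section of `u`, the same block twice**, if families are blocks for `X`. -/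
theorem exists_half_same (h𝔐 : IsPModular p 𝔐) (hQp : (Q : ZMod p) = 1) {R : Rz Q M p n G} {R₁ : Rz Q M p a X}
    (h₁ : Gr R₁) (hna : n = a + a)
    (hm : n ≤ m) (hlab₁ : R₁.Bij m) (hfam : ∀ (χ χ' : IrrCharacter X) (t t' : LabZ Q M m a), R₁.IsLb χ t →
      R₁.IsLb χ' t' → SameFam Q M p t.t t'.t → χ' ∈ blockOf 𝔐 (χ : X → ℂ))
    {j : X × X →* G} (hj : Function.Injective j) {u : G}
    (hu : ∃ k : ℕ, orderOf u = p ^ k) (hr : j.range = Subgroup.centralizer ({u} : Set G)) (hval : Val1 R R₁ R₁ j u)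
    {B : Set (IrrCharacter G)} (hB : IsPBlock 𝔐 B) {χ : IrrCharacter G} (hχ : χ ∈ B) {t : LabZ Q M m n}
    (ht : R.IsLb χ t) (htp : POnly M p t.t) {δ₀ : ZMod M} (ho : OnlyOn Q M δ₀ t.t) {w : ℕ} (hw0 : 0 < w)
    (hw : H577.GLB.Std.bsz (t.t δ₀) = w + w) :
    ∃ (χ₁ : IrrCharacter X) (t₁ : LabZ Q M m a), R₁.IsLb χ₁ t₁ ∧ POnly M p t₁.t ∧ OnlyOn Q M δ₀ t₁.t ∧
      H577.GLB.Std.bsz (t₁.t δ₀) = w ∧
      IsInducedBlock 𝔐 (Subgroup.centralizer ({u} : Set G)) (prodBlk (Subgroup.centralizer ({u} : Set G)) j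
        (blockOf 𝔐 (χ₁ : X → ℂ)) (blockOf 𝔐 (χ₁ : X → ℂ))) B := by
  classical
  have hp := h𝔐.1
  have := isPrime_of_isPModular h𝔐
  have hδ : PReg M p δ₀ := by
    by_contra h
    have := htp δ₀ h
    omega
  have hPO : ∀ (t : LabZ Q M m a), OnlyOn Q M δ₀ t.t → POnly M p t.t := by
    intro t ht c hc
    by_contra h
    obtain ⟨i, hi⟩ := ht c (Nat.pos_of_ne_zero h)
    exact hc (H76.GLB.pReg_of_same ⟨i, hi⟩ hδ)
  obtain ⟨χ₁, χ₂, t₁, t₂, hχ₁, hχ₂, ho₁, ho₂, hb₁, hb₂, hind⟩ :=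
    exists_half h𝔐 h₁ hna hm hlab₁ hj hu hr hval hB hχ ht htp ho hw0 hw
  refine ⟨χ₁, t₁, hχ₁, hPO t₁ ho₁, ho₁, hb₁, ?_⟩
  have h2 : blockOf 𝔐 (χ₁ : X → ℂ) = blockOf 𝔐 (χ₂ : X → ℂ) := by
    refine isPBlock_eq_blockOf (isPBlock_blockOf χ₁) (hfam χ₁ χ₂ t₁ t₂ hχ₁ hχ₂ ?_)
    rw [H76.GLB.sameFam_iff hp hQp (hPO t₁ ho₁) (hPO t₂ ho₂)]
    intro c
    by_cases hc : SameZ Q M δ₀ c
    · rw [H76.GLB.orb_same t₁ hc, H76.GLB.orb_same t₂ hc, hb₁, hb₂]
    · have h4 : H577.GLB.Std.bsz (t₁.t c) = 0 := by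
        by_contra h
        exact hc (ho₁ c (Nat.pos_of_ne_zero h))
      have h5 : H577.GLB.Std.bsz (t₂.t c) = 0 := by
        by_contra h
        exact hc (ho₂ c (Nat.pos_of_ne_zero h))
      rw [h4, h5]
  rwa [← h2] at hind

end Cfsg.Agent.H139.GUX
end

-- part: H139/GUX/Geo
section
/-!
# S4537: `GU_a × GU_a` in `GU_{2a}`, the swap, the centralizer of `diag(-1, 1)`
-/

set_option autoImplicit false
set_option linter.unusedSectionVars false

namespace Cfsg.Agent.H139.GUX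

open Cfsg Module Cfsg.Agent.ClassicalGeometry Cfsg.Agent.H615.GU Cfsg.Agent.H624.Sl Cfsg.Agent.H166.GUC
open scoped MatrixGroups

universe u

variable {F : Type u} [Field F] [Fintype F] {q a n : ℕ}

/-- the standard isomorphism -/
noncomputable def ee (F : Type u) [Field F] (a : ℕ) : ((Fin a → F) × (Fin a → F)) ≃ₗ[F] (Fin (a + a) → F) :=
  (LinearEquiv.sumArrowLequivProdArrow (Fin a) (Fin a) F F).symm.trans (LinearEquiv.funCongrLeft F F finSumFinEquiv.symm)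

theorem ee_apply (x : (Fin a → F) × (Fin a → F)) (i : Fin (a + a)) :
    ee F a x i = Sum.elim x.1 x.2 (finSumFinEquiv.symm i) := rfl

theorem ee_inl (x : (Fin a → F) × (Fin a → F)) (i : Fin a) : ee F a x (finSumFinEquiv (Sum.inl i)) = x.1 i := by
  rw [ee_apply, Equiv.symm_apply_apply]
  rfl

theorem ee_inr (x : (Fin a → F) × (Fin a → F)) (i : Fin a) : ee F a x (finSumFinEquiv (Sum.inr i)) = x.2 i := by
  rw [ee_apply, Equiv.symm_apply_apply]
  rfl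

theorem herm_ee (x y : (Fin a → F) × (Fin a → F)) :
    hermForm (a + a) F q (ee F a x) (ee F a y) = hermForm a F q x.1 y.1 + hermForm a F q x.2 y.2 := by
  unfold hermForm
  rw [← finSumFinEquiv.sum_comp, Fintype.sum_sum_type]
  simp only [ee_inl, ee_inr]

theorem mulVec_surj (e : ((Fin a → F) × (Fin a → F)) ≃ₗ[F] (Fin n → F)) {g h : GL (Fin n) F}
    (H : ∀ v w, g.1.mulVec (e (v, w)) = h.1.mulVec (e (v, w))) : g = h := by
  refine H901.Sl.ext_mulVec fun x => ?_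
  obtain ⟨⟨v, w⟩, rfl⟩ := e.surjective x
  exact H v w

/-- the swap -/
noncomputable def swp (F : Type u) [Field F] (a : ℕ) : GL (Fin (a + a)) F :=
  (glE F (a + a)).symm (((ee F a).symm.trans (LinearEquiv.prodComm F (Fin a → F) (Fin a → F))).trans (ee F a))

theorem swp_mulVec (v w : Fin a → F) : (swp F a).1.mulVec (ee F a (v, w)) = ee F a (w, v) := by
  rw [← glE_apply, swp, MulEquiv.apply_symm_apply]
  change ee F a (LinearEquiv.prodComm F _ _ ((ee F a).symm (ee F a (v, w)))) = _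
  rw [(ee F a).symm_apply_apply]
  rfl

theorem swp_mem : swp F a ∈ GU (a + a) F q := by
  rw [GUBasic.mem_GU_iff]
  intro u v
  obtain ⟨⟨x, y⟩, rfl⟩ := (ee F a).surjective u
  obtain ⟨⟨x', y'⟩, rfl⟩ := (ee F a).surjective v
  have h1 : ((swp F a : GL (Fin (a + a)) F) : Matrix _ _ F).mulVec (ee F a (x, y)) = ee F a (y, x) := swp_mulVec x y
  have h2 : ((swp F a : GL (Fin (a + a)) F) : Matrix _ _ F).mulVec (ee F a (x', y')) = ee F a (y', x') :=
    swp_mulVec x' y'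
  rw [h1, h2, herm_ee, herm_ee, add_comm]

theorem mul_mulVec' (g h : GL (Fin n) F) (x : Fin n → F) : (g * h).1.mulVec x = g.1.mulVec (h.1.mulVec x) := by
  rw [Units.val_mul, Matrix.mulVec_mulVec]

theorem swp_mul_swp : swp F a * swp F a = 1 := by
  refine mulVec_surj (ee F a) fun v w => ?_
  rw [mul_mulVec', swp_mulVec, swp_mulVec, Units.val_one, Matrix.one_mulVec]

theorem swp_jj (A B : GL (Fin a) F) : swp F a * jj (K := F) (ee F a) (A, B) = jj (K := F) (ee F a) (B, A) * swp F a := by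
  refine mulVec_surj (ee F a) fun v w => ?_
  rw [mul_mulVec', mul_mulVec', jj_mulVec, swp_mulVec, swp_mulVec, jj_mulVec]

theorem jj_mem_iff (hF : Fintype.card F = q ^ 2) (A B : GL (Fin a) F) :
    jj (K := F) (ee F a) (A, B) ∈ GU (a + a) F q ↔ A ∈ GU a F q ∧ B ∈ GU a F q := by
  obtain ⟨σ, hσ⟩ := GUBasic.exists_powHom hF
  have hh := hermForm_hermF hF hσ a
  rw [GUBasic.mem_GU_iff, GUBasic.mem_GU_iff, GUBasic.mem_GU_iff]
  have h2 : ∀ x : (Fin a → F) × (Fin a → F), ((jj (K := F) (ee F a) (A, B) : GL (Fin (a + a)) F) :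
      Matrix _ _ F).mulVec (ee F a x) = ee F a (A.1.mulVec x.1, B.1.mulVec x.2) := fun x => jj_mulVec _ A B x.1 x.2
  constructor
  · intro h
    constructor
    · intro u v
      have h1 := h (ee F a (u, 0)) (ee F a (v, 0))
      rw [h2, h2, herm_ee, herm_ee] at h1
      simpa only [Matrix.mulVec_zero, hh.zero_left, add_zero] using h1
    · intro u v
      have h1 := h (ee F a (0, u)) (ee F a (0, v))
      rw [h2, h2, herm_ee, herm_ee] at h1
      simpa only [Matrix.mulVec_zero, hh.zero_left, zero_add] using h1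
  · rintro ⟨hA, hB⟩ u v
    obtain ⟨x, rfl⟩ := (ee F a).surjective u
    obtain ⟨y, rfl⟩ := (ee F a).surjective v
    rw [h2, h2, herm_ee, herm_ee, hA, hB]

/-- the block diagonal embedding -/
noncomputable def j2 (hF : Fintype.card F = q ^ 2) (a : ℕ) : GU a F q × GU a F q →* GU (a + a) F q where
  toFun x := ⟨jj (K := F) (ee F a) ((x.1 : GL (Fin a) F), (x.2 : GL (Fin a) F)), (jj_mem_iff hF _ _).2 ⟨x.1.2, x.2.2⟩⟩
  map_one' := Subtype.ext (map_one (jj (K := F) (ee F a)))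
  map_mul' x y := Subtype.ext (map_mul (jj (K := F) (ee F a)) ((x.1 : GL (Fin a) F), (x.2 : GL (Fin a) F))
    ((y.1 : GL (Fin a) F), (y.2 : GL (Fin a) F)))

theorem coe_j2 (hF : Fintype.card F = q ^ 2) (x : GU a F q × GU a F q) :
    ((j2 hF a x : GU (a + a) F q) : GL (Fin (a + a)) F) = jj (K := F) (ee F a) ((x.1 : GL (Fin a) F), (x.2 : GL (Fin a) F)) :=
  rfl

theorem j2_injective (hF : Fintype.card F = q ^ 2) : Function.Injective (j2 (F := F) (q := q) hF a) := by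
  rintro ⟨x, y⟩ ⟨x', y'⟩ h
  have h1 := H901.Sl.jj_injective (K := F) (ee F a) (congrArg Subtype.val h)
  rw [Prod.mk.injEq] at h1
  exact Prod.ext (Subtype.ext h1.1) (Subtype.ext h1.2)

/-- the swap in the unitary group -/
noncomputable def sw (F : Type u) [Field F] [Fintype F] (q a : ℕ) : GU (a + a) F q := ⟨swp F a, swp_mem⟩

theorem sw_mul_sw : sw F q a * sw F q a = 1 := Subtype.ext swp_mul_swp

theorem sw_conj (hF : Fintype.card F = q ^ 2) (x y : GU a F q) :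
    sw F q a * j2 hF a (x, y) * (sw F q a)⁻¹ = j2 hF a (y, x) := by
  rw [mul_inv_eq_iff_eq_mul]
  exact Subtype.ext (swp_jj _ _)

theorem odd_q (hF : Fintype.card F = q ^ 2) (h2 : (2 : F) ≠ 0) : Odd q := by
  by_contra h
  rw [Nat.not_odd_iff_even] at h
  apply h2
  have h3 : (2 : ℕ) ∣ Fintype.card F := by
    rw [hF, sq]
    exact Dvd.dvd.mul_right h.two_dvd q
  obtain ⟨r, hr⟩ := CharP.exists F
  have hrp : r.Prime := (CharP.char_is_prime_or_zero F r).resolve_right (CharP.char_ne_zero_of_finite F r)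
  obtain ⟨k, -, hk⟩ := FiniteField.card F r
  rw [hk] at h3
  have h4 := (Nat.prime_dvd_prime_iff_eq Nat.prime_two hrp).1 (Nat.prime_two.dvd_of_dvd_pow h3)
  subst h4
  exact_mod_cast CharP.cast_eq_zero F 2

/-- minus the identity -/
noncomputable def mone (hF : Fintype.card F = q ^ 2) (h2 : (2 : F) ≠ 0) (a : ℕ) : GU a F q :=
  gsc a (-1 : Fˣ) ((odd_q hF h2).add_one.neg_one_pow)

theorem mone_sq (hF : Fintype.card F = q ^ 2) (h2 : (2 : F) ≠ 0) : mone hF h2 a ^ 2 = 1 := by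
  apply Subtype.ext
  change (scl a (-1 : Fˣ)) ^ 2 = 1
  rw [scl, ← map_pow, neg_one_sq, map_one]

theorem orderOf_j2 (hF : Fintype.card F = q ^ 2) (h2 : (2 : F) ≠ 0) :
    ∃ k : ℕ, orderOf (j2 hF a (mone hF h2 a, 1)) = 2 ^ k := by
  have h1 : (j2 hF a (mone hF h2 a, 1)) ^ 2 = 1 := by
    rw [← map_pow, Prod.pow_mk, mone_sq, one_pow]
    exact map_one _
  obtain ⟨i, -, hi⟩ := (Nat.dvd_prime_pow Nat.prime_two).1
    (show orderOf (j2 hF a (mone hF h2 a, 1)) ∣ 2 ^ 1 by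
      rw [pow_one]; exact orderOf_dvd_of_pow_eq_one h1)
  exact ⟨i, hi⟩

theorem centralizer_j2 (hF : Fintype.card F = q ^ 2) (h2 : (2 : F) ≠ 0) :
    Subgroup.centralizer ({j2 hF a (mone hF h2 a, 1)} : Set (GU (a + a) F q)) = (j2 hF a).range := by
  have hz1 : (-1 : Fˣ) ≠ 1 := by
    intro h
    apply h2
    have h1 : ((-1 : Fˣ) : F) = 1 := by rw [h, Units.val_one]
    have h3 : (-1 : F) = 1 := h1
    linear_combination -h3
  have hgen : Algebra.adjoin F {((-1 : Fˣ) : F)} = ⊤ :=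
    Algebra.eq_top_iff.2 fun x => Subalgebra.algebraMap_mem (Algebra.adjoin F {((-1 : Fˣ) : F)}) x
  have hcen := H901.Sl.centralizer_jj (F := F) (K := F) (ee F a) (-1 : Fˣ) hz1 hgen
  ext g
  rw [Subgroup.mem_centralizer_singleton_iff]
  constructor
  · intro h
    have h1 : (g : GL (Fin (a + a)) F) ∈ Subgroup.centralizer ({jj (K := F) (ee F a) (scl a (-1 : Fˣ), 1)} :
        Set (GL (Fin (a + a)) F)) :=
      Subgroup.mem_centralizer_singleton_iff.2 (congrArg Subtype.val h)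
    rw [← hcen] at h1
    obtain ⟨⟨A, B⟩, hAB⟩ := h1
    have h2 : jj (K := F) (ee F a) (A, B) ∈ GU (a + a) F q := by
      rw [hAB]
      exact g.2
    obtain ⟨hA, hB⟩ := (jj_mem_iff hF A B).1 h2
    exact ⟨(⟨A, hA⟩, ⟨B, hB⟩), Subtype.ext hAB⟩
  · rintro ⟨x, rfl⟩
    apply Subtype.ext
    have h1 : jj (K := F) (ee F a) ((x.1 : GL (Fin a) F), (x.2 : GL (Fin a) F)) ∈
        Subgroup.centralizer ({jj (K := F) (ee F a) (scl a (-1 : Fˣ), 1)} : Set (GL (Fin (a + a)) F)) := by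
      rw [← hcen]
      exact ⟨_, rfl⟩
    exact Subgroup.mem_centralizer_singleton_iff.1 h1

theorem det_j2 (hF : Fintype.card F = q ^ 2) (x y : GU a F q) :
    Matrix.GeneralLinearGroup.det ((j2 hF a (x, y) : GU (a + a) F q) : GL (Fin (a + a)) F) =
      Matrix.GeneralLinearGroup.det (x : GL (Fin a) F) * Matrix.GeneralLinearGroup.det (y : GL (Fin a) F) := by
  rw [coe_j2, H901.Sl.det_jj]
  congr 1
  apply Units.ext
  change Algebra.norm F _ = _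
  rw [Algebra.norm_self]
  rfl

theorem mcol_j2 {K : Type*} [Field K] [Algebra F K] (hF : Fintype.card F = q ^ 2) (x y : GU a F q) (c : K) (l : ℕ) :
    mcol (((j2 hF a (x, y) : GU (a + a) F q) : GL (Fin (a + a)) F) : Matrix (Fin (a + a)) (Fin (a + a)) F) c l =
      mcol ((x : GL (Fin a) F) : Matrix (Fin a) (Fin a) F) c l +
        mcol ((y : GL (Fin a) F) : Matrix (Fin a) (Fin a) F) c l := by
  rw [coe_j2, mcol_jj (K := K) (ee F a) (x : GL (Fin a) F) (y : GL (Fin a) F) c l, finrank_self,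
    Finset.sum_range_one, pow_zero, pow_one]

end Cfsg.Agent.H139.GUX
end

-- part: H139/GUX/Twr
section
/-!
# S4537: the splitting of the blocks of even weight of `GU_n(q)`, `p = 2`

* `splitTower_gu` : the hypothesis `SplitTower` of `H577.GUX.exc_tower` for the unitary groups.
-/

set_option autoImplicit false
set_option linter.unusedSectionVars false

open Cfsg
open scoped ComplexConjugate TensorProduct MatrixGroups

namespace Cfsg.Agent.H139.GUX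

open Cfsg.Agent.H577.GLB.Std Cfsg.Agent.H614 Cfsg.Agent.H614.GLn Cfsg.Agent.H623.GLn Cfsg.Agent.H623.GU
open Cfsg.Agent.H577.GLB.Real (coP PhiF PGen frm OnlyOn cfE)
open Cfsg.Agent.H112.GLB Cfsg.Agent.H608.BlockRank
open Cfsg.Agent.Blocks.Local Cfsg.Agent.Blocks.Basic Cfsg.Agent.H624.Sl
open Cfsg.Agent.H615.GU Cfsg.Agent.H166.GUC

universe u

section one

variable {Q : ℤ} {M : ℕ} [NeZero M] {p n a b : ℕ} {G X Y : Type u} [Group G] [Finite G] [Group X] [Finite X]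
  [Group Y] [Finite Y]

/-- the values at `u (A, B)`, no extension of fields -/
theorem val1_of {R : Rz Q M p n G} {R₁ : Rz (Q ^ 1) M p a X} {R₁' : Rz Q M p a X} {R₂ : Rz Q M p b Y}
    {j : X × Y →* G} {u : G} (h : Val (f := 1) R R₁ R₂ j u) (he : ∀ x g, R₁.om x g = R₁'.om x g) :
    Val1 R R₁' R₂ j u := by
  intro x hx A B hA hB
  rw [h x hx A B hA hB]
  refine map_coP_congr hx ?_ (fun _ _ => rfl)
  intro y hy
  rw [LinearMap.comp_apply, AlgHom.toLinearMap_apply, evR_apply, evR_apply, he,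
    H501.GLn.PhiF_one (PGen_le hy) R.unit]

end one

section tow

variable {K : Type u} [Field K] {θ : K →*₀ ℂ} {Q : ℤ} {M : ℕ} [NeZero M] {N p : ℕ} {G : ℕ → Type u}
  [∀ n, Group (G n)] [∀ n, Finite (G n)]

/-- the values at `u (A, B)` for towers, variable exponent -/
theorem tow_val (hp : p.Prime) {f : ℕ} (hf : 0 < f) (h67 : R67 θ Q M p f) (t : Tow θ Q M N p G) {Q₁ : ℤ}
    (hQ₁ : Q₁ = Q ^ f) {N₁ : ℕ} {G₁ : ℕ → Type u} [∀ n, Group (G₁ n)] [∀ n, Finite (G₁ n)] (t₁ : Tow θ Q₁ M N₁ p G₁)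
    {n l k : ℕ} (hn : n ≤ N) (hl : l ≤ N) (hk : k ≤ N₁) (j : G₁ k × G l →* G n) (c : G₁ k) {z : Kˣ} {a₀ : ℕ}
    (hz : z ^ p ^ a₀ = 1) (hz1 : z ≠ 1) (hmin : ∀ j : ℕ, z ^ (Q ^ j) = z ↔ f ∣ j)
    (htyp : ∀ (A : G₁ k) (B : G l) (x : Kˣ) (i : ℕ), (t.T n hn).typ (j (A, B)) (Quotient.mk (orbSetoid K Q) x) i =
      ∑ i' ∈ Finset.range f, (t₁.T k hk).typ A (Quotient.mk (orbSetoid K Q₁) (x ^ (Q ^ i'))) i +
        (t.T l hl).typ B (Quotient.mk (orbSetoid K Q) x) i)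
    (hsh : ∀ (A : G₁ k) (y : Kˣ), (t₁.T k hk).typ (c * A) (Quotient.mk (orbSetoid K Q₁) y) =
      (t₁.T k hk).typ A (Quotient.mk (orbSetoid K Q₁) (z⁻¹ * y))) :
    ∃ R₁ : Rz (Q ^ f) M p k (G₁ k), Val (t.R n hn) R₁ (t.R l hl) j (j (c, 1)) ∧
      ∀ x g, R₁.om x g = H615.GU.evR θ Q₁ M x ((t₁.T k hk).typ g) := by
  subst hQ₁
  exact ⟨(t₁.hyp k hk).rz, val_of hp hf h67 (t.hyp n hn) (t₁.hyp k hk) (t.hyp l hl) j c hz hz1 hmin htyp hsh
    (t₁.preg k hk) (t.preg l hl), fun x g => rfl⟩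

end tow

section gu

variable {F K : Type u} [Field F] [Fintype F] [Field K] [Algebra F K] {θ : K →*₀ ℂ} {q M N : ℕ} [NeZero M]

/-- **The splitting of the blocks of even weight.** -/
theorem splitTower_gu (hF : Fintype.card F = q ^ 2) (h2 : (2 : F) ≠ 0) (h67 : R67 θ (-(q : ℤ)) M 2 1)
    (t : Tow θ (-(q : ℤ)) M N 2 (fun n => GU n F q)) (htyp : ∀ n hn, IsTypU q n (t.T n hn)) {𝔐 : Ideal AlgInt}
    (h𝔐 : IsPModular 2 𝔐) {m : ℕ}
    (hone : ∀ {n : ℕ} (hn : n ≤ N), 0 < n → n ≤ m → ∀ {B : Set (IrrCharacter (GU n F q))}, IsPBlock 𝔐 B →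
      ∀ {χ : IrrCharacter (GU n F q)}, χ ∈ B → ∀ {s : LabZ (-(q : ℤ)) M m n}, (t.R n hn).IsLb χ s →
      ∀ (ψ : IrrCharacter (GU n F q)) (s' : LabZ (-(q : ℤ)) M m n), (t.R n hn).IsLb ψ s' →
      SameFam (-(q : ℤ)) M 2 s.t s'.t → ψ ∈ B) :
    H577.GUX.SplitTower (Q := -(q : ℤ)) (𝒢 := fun n => GU n F q) (fun {n} hn => t.R n hn)
      (fun n => H614.GU.suS F n q) 𝔐 m := by
  classical
  intro n hn hnm B δ₀ w hw0 ⟨hB, χ, hχ, s, hs, hsp, ho, hw⟩
  have := isPrime_of_isPModular h𝔐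
  have hodd := odd_q hF h2
  have hQ : IsUnit ((-(q : ℤ) : ℤ) : ZMod M) := (t.R n hn).unit
  have hsize := H76.GLB.size_onlyOn hQ s ho
  have hd := RSt.perZ_pos hQ δ₀
  obtain ⟨a, ha⟩ : ∃ a, a = perZ (-(q : ℤ)) M δ₀ * w := ⟨_, rfl⟩
  have hna : n = a + a := by
    rw [hsize, hw, ha]
    ring
  have ha0 : 0 < a := ha ▸ Nat.mul_pos hd hw0
  subst hna
  have haN : a ≤ N := by omega
  have ham : a ≤ m := by omega
  -- the eigenvalue
  have hz1 : ((-1 : Kˣ)) ≠ 1 := by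
    intro h
    apply h2
    have h1 : ((-1 : Kˣ) : K) = 1 := by rw [h, Units.val_one]
    have h3 : (-1 : K) = 1 := h1
    have h4 : algebraMap F K 2 = 0 := by
      rw [map_ofNat]
      linear_combination -h3
    rwa [map_eq_zero] at h4
  have hzQ : ∀ j : ℕ, (-1 : Kˣ) ^ ((-(q : ℤ)) ^ j) = -1 := by
    intro j
    have h1 : Odd ((-(q : ℤ)) ^ j) := (((Int.odd_coe_nat q).2 hodd).neg).pow
    exact h1.neg_one_zpow
  have hun : Units.map (algebraMap F K).toMonoidHom (-1 : Fˣ) = -1 := by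
    apply Units.ext
    change algebraMap F K (-1) = -1
    rw [map_neg, map_one]
  obtain ⟨R₁, hval, hom⟩ := tow_val (p := 2) Nat.prime_two (f := 1) one_pos h67 t (pow_one _).symm t hn haN haN
    (j2 hF a) (mone hF h2 a) (z := (-1 : Kˣ)) (a₀ := 1) (by rw [pow_one, neg_one_sq]) hz1
    (fun j => ⟨fun _ => one_dvd j, fun _ => hzQ j⟩) (by
      intro A B' x i
      rw [Finset.sum_range_one, pow_zero, zpow_one, htyp _ hn, htyp _ haN, htyp _ haN]
      exact mcol_j2 hF A B' (x : K) i) (by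
      intro A y
      rw [htyp _ haN, htyp _ haN]
      have h1 := mcol_scl (K := K) (-1 : Fˣ) (A : GL (Fin a) F) y
      rw [hun] at h1
      exact h1)
  have hval1 : Val1 (t.R (a + a) hn) (t.R a haN) (t.R a haN) (j2 hF a) (j2 hF a (mone hF h2 a, 1)) :=
    val1_of hval (fun x g => hom x g)
  have hQ2 : ((-(q : ℤ) : ℤ) : ZMod 2) = 1 := by
    have h1 : Odd (-(q : ℤ)) := ((Int.odd_coe_nat q).2 hodd).neg
    obtain ⟨r, hr⟩ := h1
    rw [hr]
    push_cast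
    have h2' : (2 : ZMod 2) = 0 := rfl
    rw [h2', zero_mul, zero_add]
  obtain ⟨χ₁, s₁, hχ₁, hsp₁, ho₁, hb₁, hind⟩ := exists_half_same (R := t.R (a + a) hn) (R₁ := t.R a haN) h𝔐 hQ2
    (t.gr a haN) rfl hnm (t.bij a m haN ham) (fun χ₁ χ₂ s₁ s₂ h₁ h₂ h₃ => hone haN ha0 ham (isPBlock_blockOf χ₁) (mem_blockOf_self χ₁) h₁ χ₂ s₂
      h₂ h₃) (j2_injective hF) (orderOf_j2 hF h2)
    (centralizer_j2 hF h2).symm hval1 hB hχ hs hsp ho hw0 (by rw [hw]; ring)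
  refine ⟨a, haN, blockOf 𝔐 (χ₁ : GU a F q → ℂ), ha0, ham, ⟨isPBlock_blockOf χ₁, χ₁, mem_blockOf_self χ₁, s₁, hχ₁,
    hsp₁, ho₁, hb₁⟩, ?_⟩
  refine ⟨Subgroup.centralizer ({j2 hF a (mone hF h2 a, 1)} : Set (GU (a + a) F q)), j2 hF a, sw F q a, mone hF h2 a,
    j2_injective hF, (centralizer_j2 hF h2).symm, sw_mul_sw, sw_conj hF, orderOf_j2 hF h2, rfl, hind, ?_⟩
  intro x hx y hy
  rw [H614.GU.mem_suS] at hx hy ⊢
  rw [det_j2, hx, hy, one_mul]

end gu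

section center

variable {F : Type u} [Field F] [Fintype F] {q : ℕ}

end center

end Cfsg.Agent.H139.GUX
end

-- part: H666/GU/PlugB
section
/-!
# S4537: `su_plug`, the bound for `SU N F q` from `hNz` and `helab` only
-/

set_option autoImplicit false
set_option linter.unusedSectionVars false

open Cfsg Polynomial
open scoped ComplexConjugate MatrixGroups

namespace Cfsg.Agent.H666.GU

open Cfsg.Agent.H577.GLB Cfsg.Agent.H577.GLB.Std Cfsg.Agent.H614 Cfsg.Agent.H112.GLB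
open Cfsg.Agent.H615.GU Cfsg.Agent.H421.GU Cfsg.Agent.H666.Clif Cfsg.Agent.H614.GU Cfsg.Agent.H623.GU
open Cfsg.Agent.H608.BlockRank Cfsg.Agent.Blocks.Local Cfsg.Agent.H614.GLn Cfsg.Agent.H577.GUX

universe u

variable {F : Type u} [Field F] [Fintype F] {K : Type u} [Field K] [Algebra F K] {θ : K →*₀ ℂ} {q N M p : ℕ}
  [NeZero M]

/-- **The bound for `SU N F q` from the nonvanishing and the elementary abelian subgroups.** -/
theorem su_plug (C : Ctx F θ N M) (hF : Fintype.card F = q ^ 2) (hpF : p ≠ ringChar F) (hN0 : 0 < N)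
    (t : Tow θ (-(q : ℤ)) M N p (fun n => Cfsg.GU n F q)) (ht : ∀ n (hn : n ≤ N), IsTypU q n (t.T n hn))
    {𝔐 : Ideal AlgInt} (h𝔐 : IsPModular p 𝔐) [𝔐.IsPrime]
    (hNz : ∀ {B : Set (IrrCharacter (Cfsg.GU N F q))}, IsPBlock 𝔐 B → ∀ {χ : IrrCharacter (Cfsg.GU N F q)},
      χ ∈ B → ∀ {l : LabZ (-(q : ℤ)) M N N}, (t.R N (le_refl N)).IsLb χ l → POnly M p l.t →
      ∀ a : ZMod M, SF (-(q : ℤ)) M p l a → ∃ x : Cfsg.GU N F q,
        H624.Sl.Nz 𝔐 ((TLin C hF t ht (le_refl N) hN0).ln a) B x)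
    (helab : ∀ {B : Set (IrrCharacter (Cfsg.GU N F q))}, IsPBlock 𝔐 B → ∀ {χ : IrrCharacter (Cfsg.GU N F q)},
      χ ∈ B → ∀ {l : LabZ (-(q : ℤ)) M N N}, (t.R N (le_refl N)).IsLb χ l → POnly M p l.t →
      ∀ D : Subgroup (Cfsg.GU N F q), IsDefectGroup p 𝔐 B D → ∃ A : Subgroup (Cfsg.GU N F q), A ≤ D ∧
        (∀ x ∈ A, ∀ y ∈ A, x * y = y * x) ∧ (∀ x ∈ A, x ^ p = 1) ∧
        Nat.card A = p ^ totW (-(q : ℤ)) M p l.t)
    (B : Set (IrrCharacter (Cfsg.SU N F q))) (hB : IsPBlock 𝔐 B) (D : Subgroup (Cfsg.SU N F q))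
    (hD : IsDefectGroup p 𝔐 B D) (s : ℕ) (hs : SectionalPRankLE p s D) : blockRank p B ≤ p ^ s := by
  have hone : p = 2 → ∀ {n : ℕ} (hn : n ≤ N), 0 < n → ∀ {m : ℕ}, n ≤ m →
      ∀ {B : Set (IrrCharacter (Cfsg.GU n F q))}, IsPBlock 𝔐 B →
      ∀ {χ : IrrCharacter (Cfsg.GU n F q)}, χ ∈ B → ∀ {l : LabZ (-(q : ℤ)) M m n}, (t.R n hn).IsLb χ l →
      ∀ (ψ : IrrCharacter (Cfsg.GU n F q)) (l' : LabZ (-(q : ℤ)) M m n), (t.R n hn).IsLb ψ l' →
      SameFam (-(q : ℤ)) M p l.t l'.t → ψ ∈ B := by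
    intro hp2 n hn hn0 m hm B hB χ hχ l hl ψ l' hl' hf
    refine sameBlockU C hF hpF t ht h𝔐 ?_ hn hn0 hm hB hχ hl ψ l' hl' hf
    subst hp2
    have h1 := isUnit_Q (natCard_eq hF) Nat.prime_two hpF
    have h2 : ∀ x : ZMod 2, IsUnit x → x = 1 := by decide
    exact h2 _ h1
  refine su_asm C hF hpF hN0 t ht h𝔐 hNz helab
    (fun hp2 {n} hn hn0 {B} hB {χ} hχ {l} hl ψ l' hl' hf => hone hp2 hn hn0 hn hB hχ hl ψ l' hl' hf) ?_ B hB D hD s hs
  intro hp2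
  subst hp2
  refine H139.GUX.splitTower_gu hF ?_ (r67 (ctxU C hF) Nat.prime_two one_pos) t ht h𝔐 (fun {n} hn hn0 hm {B} hB {χ} hχ
    {l} hl ψ l' hl' hf => hone rfl hn hn0 hm hB hχ hl ψ l' hl' hf)
  have h1 := cast_ne_zero_of (F := F) Nat.prime_two hpF
  exact_mod_cast h1

end Cfsg.Agent.H666.GU
end

-- part: H624/SlU/LemTow
section
/-!
# S4537: Lemma A for a tower
-/

set_option autoImplicit false
set_option linter.unusedSectionVars false

open Cfsg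

namespace Cfsg.Agent.H624.SlU

open Cfsg.Agent.H577.GLB.Std Cfsg.Agent.H614 Cfsg.Agent.H614.GLn
open Cfsg.Agent.H112.GLB Cfsg.Agent.H608.BlockRank
open Cfsg.Agent.Blocks.Local Cfsg.Agent.Blocks.Basic Cfsg.Agent.H624.Sl Cfsg.Agent.H623.GU
open Cfsg.Agent.H615.GU (Ty Orb orbSetoid dOrb tdeg)

universe u

variable {K : Type u} [Field K] {θ : K →*₀ ℂ} {Q : ℤ} {M : ℕ} [NeZero M] {N p : ℕ} {G : ℕ → Type u}
  [∀ n, Group (G n)] [∀ n, Finite (G n)]

theorem geoA_of_geoAll {𝔐 : Ideal AlgInt} [𝔐.IsPrime] {t : Tow θ Q M N p G} {ζ : ∀ n, G n →* ℂˣ} {a : ZMod M}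
    {A : ℕ → Prop} (h : GeoAll 𝔐 t ζ a A) : GeoA t.R 𝔐 ζ a (fun n hn => (t.T n hn).typ) A := by
  intro s f k l n hl hn hf hf0 hk hpk hln
  obtain ⟨X₁, i1, i2, T₁, h₁, j, u, c, hd⟩ := h s f k l n hl hn hf hf0 hk hpk hln
  exact ⟨X₁, i1, i2, h₁.rz, j, u, T₁.typ, hd.gr, hd.bij k le_rfl, hd.inj, hd.ppow, hd.range, hd.val, hd.inr, hd.typ,
    fun x y hxy => T₁.sep x y hxy, T₁.deg, hd.conv, hd.twist,
    fun δ θ₀ hδ _ hθ hf => hd.whit δ θ₀ hδ hθ hf⟩

/-- **Lemma A** for a tower. -/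
theorem lemmaA_tow [Finite K] {t : Tow θ Q M N p G} {𝔐 : Ideal AlgInt} [𝔐.IsPrime]
    (hQ : IsUnit (Q : ZMod M)) (hQp : IsUnit (Q : ZMod p)) (h𝔐 : IsPModular p 𝔐)
    (ζ : ∀ n, G n →* ℂˣ) (hζ : ∀ n, n ≤ N → PPrime p (ζ n)) (a : ZMod M)
    (hl : ∀ n (hn : n ≤ N), ∀ x ∈ Hom Q M n,
      (t.R n hn).om (twist Q M a x) = (fun g => ((ζ n g : ℂˣ) : ℂ)) * (t.R n hn).om x) (A : ℕ → Prop)
    (hLA : ∀ n (hn : n ≤ N) (g : G n), (∀ (x : Kˣ) (i : ℕ), (t.T n hn).typ g (Quotient.mk (orbSetoid K Q) x) i ≠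
      (t.T n hn).typ g (Quotient.mk (orbSetoid K Q) x) (i + 1) → A (i + 1)) →
        Subgroup.centralizer ({g} : Set (G n)) ≤ (ζ n).ker)
    (hLA' : ∀ n (hn : n ≤ N) (g : G n), Subgroup.centralizer ({g} : Set (G n)) ≤ (ζ n).ker →
      ∀ (x : Kˣ) (i : ℕ), (t.T n hn).typ g (Quotient.mk (orbSetoid K Q) x) i ≠
        (t.T n hn).typ g (Quotient.mk (orbSetoid K Q) x) (i + 1) → A (i + 1))
    (hgeo : GeoAll 𝔐 t ζ a A) {m n : ℕ} (hn : n ≤ N) (hm : n ≤ m)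
    {B : Set (IrrCharacter (G n))} (hB : IsPBlock 𝔐 B) {χ : IrrCharacter (G n)} (hχ : χ ∈ B) {lab : LabZ Q M m n}
    (ht : (t.R n hn).IsLb χ lab) (ht' : POnly M p lab.t) (ha : SF Q M p lab a) :
    ∃ x, Nz 𝔐 (ζ n) B x := by
  refine lemmaA_abs hQ hQp (fun n m hn hm => t.bij n m hn hm) t.gr h𝔐 ζ hζ a hl (fun n hn => (t.T n hn).typ)
    (fun n hn x y hxy => ?_) (fun n hn x y hxy => (t.T n hn).sep x y hxy) (fun n hn => (t.T n hn).deg) A hLA hLA'
    (geoA_of_geoAll hgeo) _ hn hm hB hχ ht ht' ha rfl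
  obtain ⟨c, rfl⟩ := isConj_iff.1 hxy
  exact ((t.T n hn).conj x c).symm

end Cfsg.Agent.H624.SlU
end

-- part: H624/SlU/HNz
section
/-!
# S4537: the nonvanishing hypothesis `hNz` of `H666.GU.su_asm` from the geometric data
-/

set_option autoImplicit false
set_option linter.unusedSectionVars false

open Cfsg Polynomial
open scoped MatrixGroups

namespace Cfsg.Agent.H624.SlU

open Cfsg.Agent.H577.GLB Cfsg.Agent.H577.GLB.Std Cfsg.Agent.H614 Cfsg.Agent.H112.GLB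
open Cfsg.Agent.H615.GU Cfsg.Agent.H421.GU Cfsg.Agent.H666.Clif Cfsg.Agent.H614.GU Cfsg.Agent.H623.GU
open Cfsg.Agent.H608.BlockRank Cfsg.Agent.Blocks.Local Cfsg.Agent.H614.GLn Cfsg.Agent.H666.GU
open Cfsg.Agent.H624.Sl

universe u

variable {F : Type u} [Field F] [Fintype F] {K : Type u} [Field K] [Algebra F K] {θ : K →*₀ ℂ} {q N M p : ℕ}
  [NeZero M]

theorem ln_eq (C : Ctx F θ N M) (hF : Fintype.card F = q ^ 2)
    (t : Tow θ (-(q : ℤ)) M N p (fun n => Cfsg.GU n F q)) (ht : ∀ n (hn : n ≤ N), IsTypU q n (t.T n hn))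
    {n : ℕ} (hn : n ≤ N) (hn0 : 0 < n) (a : ZMod M) :
    (TLin C hF t ht hn hn0).ln a = dchU n q (alF F θ (-(q : ℤ)) M a) := by
  refine MonoidHom.ext fun g => Units.ext ?_
  have h1 := guLin_ln (natCard_eq hF) (ctxU C hF) hn hn0 (splU C hn) (ht n hn) (t.hyp n hn) a g
  have h2 : ((dchU n q (alF F θ (-(q : ℤ)) M a) g : ℂˣ) : ℂ) =
      ((alF F θ (-(q : ℤ)) M a (Matrix.GeneralLinearGroup.det (g : GL (Fin n) F)) : ℂˣ) : ℂ) := rfl
  rw [h2, alF_coe]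
  exact h1

theorem tw_all [Finite K] (C : Ctx F θ N M) (hF : Fintype.card F = q ^ 2)
    (t : Tow θ (-(q : ℤ)) M N p (fun n => Cfsg.GU n F q)) (ht : ∀ n (hn : n ≤ N), IsTypU q n (t.T n hn))
    {n : ℕ} (hn : n ≤ N) {a : ZMod M} (ha : TorZ (-(q : ℤ)) M 1 a) (x : RS M) (hx : x ∈ Hom (-(q : ℤ)) M n) :
    (t.R n hn).om (twist (-(q : ℤ)) M a x) =
      (fun g => ((dchU n q (alF F θ (-(q : ℤ)) M a) g : ℂˣ) : ℂ)) * (t.R n hn).om x := by
  funext g
  have h2 : ((dchU n q (alF F θ (-(q : ℤ)) M a) g : ℂˣ) : ℂ) =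
      ((alF F θ (-(q : ℤ)) M a (Matrix.GeneralLinearGroup.det (g : GL (Fin n) F)) : ℂˣ) : ℂ) := rfl
  rw [Pi.mul_apply, h2, alF_coe, Tow.R_om, Tow.R_om,
    evR_twist (ctxU C hF).card (ctxU C hF).unit (fun v x => H531.GU.evR_X_mul θ _ M H521.GU.i2s v x) ha
      (hom_le_genR n x hx), H697.GW.linT_eq_GU (splU C hn) (ht n hn) θ M a g]
  rfl

theorem pprime_dchU (C : Ctx F θ N M) (hF : Fintype.card F = q ^ 2)
    (t : Tow θ (-(q : ℤ)) M N p (fun n => Cfsg.GU n F q)) (ht : ∀ n (hn : n ≤ N), IsTypU q n (t.T n hn))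
    (hp : p.Prime) {a : ZMod M} (ha : TorZ (-(q : ℤ)) M 1 a) (hap : PReg M p a) (n : ℕ) (hn : n ≤ N) :
    PPrime p (dchU n q (alF F θ (-(q : ℤ)) M a)) := by
  rcases Nat.eq_zero_or_pos n with h0 | h0
  · subst h0
    refine ⟨1, one_pos, fun h => hp.one_lt.ne' (Nat.dvd_one.1 h), fun g => ?_⟩
    have h1 : (g : GL (Fin 0) F) = 1 := Subsingleton.elim _ _
    have h2 : g = 1 := Subtype.ext h1
    rw [h2, map_one, one_pow]
  · have h1 := (TLin C hF t ht hn h0).ord a ha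
    rw [ln_eq] at h1
    refine ⟨addOrderOf a, addOrderOf_pos a, fun hd => ?_, fun g => ?_⟩
    · exact hp.one_lt.ne' (Nat.dvd_one.1 (hap ▸ Nat.dvd_gcd hd dvd_rfl))
    · rw [← h1]
      have h2 := pow_orderOf_eq_one (dchU n q (alF F θ (-(q : ℤ)) M a))
      exact DFunLike.congr_fun h2 g

/-- the nonvanishing for `GU_N(q)` -/
theorem hNz_of (C : Ctx F θ N M) (hF : Fintype.card F = q ^ 2) (hpF : p ≠ ringChar F) (hN0 : 0 < N)
    (t : Tow θ (-(q : ℤ)) M N p (fun n => Cfsg.GU n F q)) (ht : ∀ n (hn : n ≤ N), IsTypU q n (t.T n hn))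
    {𝔐 : Ideal AlgInt} (h𝔐 : IsPModular p 𝔐) [𝔐.IsPrime]
    (hgeo : ∀ a : ZMod M, TorZ (-(q : ℤ)) M 1 a → PReg M p a →
      GeoAll 𝔐 t (fun n => dchU n q (alF F θ (-(q : ℤ)) M a)) a
        (fun i => ∀ z : Fˣ, alF F θ (-(q : ℤ)) M a (z * (z ^ q)⁻¹) ^ i = 1)) :
    ∀ {B : Set (IrrCharacter (Cfsg.GU N F q))}, IsPBlock 𝔐 B → ∀ {χ : IrrCharacter (Cfsg.GU N F q)},
      χ ∈ B → ∀ {l : LabZ (-(q : ℤ)) M N N}, (t.R N (le_refl N)).IsLb χ l → POnly M p l.t →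
      ∀ a : ZMod M, SF (-(q : ℤ)) M p l a → ∃ x : Cfsg.GU N F q,
        H624.Sl.Nz 𝔐 ((TLin C hF t ht (le_refl N) hN0).ln a) B x := by
  intro B hB χ hχ l hl hl' a ha
  have := C.finK
  have hp : p.Prime := h𝔐.1
  have hta : TorZ (-(q : ℤ)) M 1 a := ha.1.1
  have hpa : PReg M p a := ha.1.2.1
  rw [ln_eq]
  refine lemmaA_tow (t := t) (ctxU C hF).unit (isUnit_Q (natCard_eq hF) hp hpF) h𝔐
    (fun n => dchU n q (alF F θ (-(q : ℤ)) M a)) (fun n hn => pprime_dchU C hF t ht hp hta hpa n hn) a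
    (fun n hn x hx => tw_all C hF t ht hn hta x hx)
    (fun i => ∀ z : Fˣ, alF F θ (-(q : ℤ)) M a (z * (z ^ q)⁻¹) ^ i = 1) ?_ ?_ (hgeo a hta hpa) (le_refl N)
    (le_refl N) hB hχ hl hl' ha
  · intro n hn g hg
    refine H166.GUC.centralizer_le (K := K) hF g
      (splU C hn _ (Matrix.charpoly_monic _) (by rw [Matrix.charpoly_natDegree_eq_dim, Fintype.card_fin]))
      (alF F θ (-(q : ℤ)) M a) fun y i hi => hg y i ?_
    rw [ht n hn g y]
    exact hi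
  · intro n hn g hg y i hi z
    rw [ht n hn g y] at hi
    exact H166.GUC.pow_eq_one hF g (alF F θ (-(q : ℤ)) M a) hg y i hi z

end Cfsg.Agent.H624.SlU
end

-- part: H666/GU/Last
section
/-!
# S4537: the last step

* `elabU` : elementary abelian subgroups of the defect groups of `GU n F q`;
* `su_final` : the bound for `SU N F q`.
-/

set_option autoImplicit false
set_option linter.unusedSectionVars false

open Cfsg
open scoped ComplexConjugate TensorProduct MatrixGroups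

namespace Cfsg.Agent.H666.GU

open Cfsg.Agent.H577.GLB.Std Cfsg.Agent.H614 Cfsg.Agent.H614.GLn Cfsg.Agent.H615.GU
open Cfsg.Agent.H112.GLB Cfsg.Agent.H608.BlockRank Cfsg.Agent.H624.Sl Cfsg.Agent.H166.GUC Cfsg.Agent.H623.GU
open Cfsg.Agent.Blocks.Local Cfsg.Agent.Blocks.Basic

universe u

variable {F : Type u} [Field F] [Fintype F] {K : Type u} [Field K] [Algebra F K] {θ : K →*₀ ℂ} {q N M p : ℕ} [NeZero M]
  {𝔐 : Ideal AlgInt} [𝔐.IsPrime]

/-- elementary abelian subgroups of the defect groups -/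
theorem elabU (h𝔐 : IsPModular p 𝔐) (C : Ctx F θ N M) (hF : Fintype.card F = q ^ 2) (hpF : (p : F) ≠ 0)
    (t : Tow θ (-(q : ℤ)) M N p (fun n => GU n F q)) (ht : ∀ n (hn : n ≤ N), IsTypU q n (t.T n hn)) {n m : ℕ}
    (hn : n ≤ N) (hm : n ≤ m) {B : Set (IrrCharacter (GU n F q))} (hB : IsPBlock 𝔐 B)
    {χ : IrrCharacter (GU n F q)} (hχ : χ ∈ B) {l : LabZ (-(q : ℤ)) M m n} (hl : (t.R n hn).IsLb χ l)
    (hl' : POnly M p l.t) (D : Subgroup (GU n F q)) (hD : IsDefectGroup p 𝔐 B D) :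
    ∃ A : Subgroup (GU n F q), A ≤ D ∧ (∀ x ∈ A, ∀ y ∈ A, x * y = y * x) ∧ (∀ x ∈ A, x ^ p = 1) ∧
      Nat.card A = p ^ totW (-(q : ℤ)) M p l.t := by
  have hp : p.Prime := h𝔐.1
  have := C.finK
  have ctx : CtxQ θ (-(q : ℤ)) M N := ctxU C hF
  have ha1 : TorZ (-(q : ℤ)) M 1 (0 : ZMod M) := by rw [TorZ, mul_zero]
  have ha2 : PReg M p (0 : ZMod M) := by rw [PReg, addOrderOf_zero]; exact Nat.coprime_one_left p
  exact exists_elab ctx.unit (isUnit_neg_q hF hp hpF) (fun n m hn hm => t.bij n m hn hm) (fun n hn => t.gr n hn)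
    (geoAll_gu h𝔐 C hF hpF t ht ha1 ha2).geo h𝔐 hn hm hB hχ hl hl' D hD

/-- **The block rank of `SU N F q`.** -/
theorem su_final (h𝔐 : IsPModular p 𝔐) (C : Ctx F θ N M) (hF : Fintype.card F = q ^ 2) (hpF : p ≠ ringChar F)
    (hN0 : 0 < N) (B : Set (IrrCharacter (Cfsg.SU N F q))) (hB : IsPBlock 𝔐 B) (D : Subgroup (Cfsg.SU N F q))
    (hD : IsDefectGroup p 𝔐 B D) (s : ℕ) (hs : SectionalPRankLE p s D) : blockRank p B ≤ p ^ s := by
  have hp : p.Prime := h𝔐.1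
  have hpF' := cast_ne_zero_of (F := F) hp hpF
  have ht := towGU_typ C hF hp hpF
  exact su_plug C hF hpF hN0 (towGU C hF hp hpF) ht h𝔐
    (H624.SlU.hNz_of C hF hpF hN0 (towGU C hF hp hpF) ht h𝔐 fun a h1 h2 => geoAll_gu h𝔐 C hF hpF' _ ht h1 h2)
    (fun {B} hB {χ} hχ {l} hl hl' D hD => elabU h𝔐 C hF hpF' _ ht le_rfl le_rfl hB hχ hl hl' D hD) B hB D hD s hs

end Cfsg.Agent.H666.GU
end

-- part: S4537
section
set_option autoImplicit false
open Cfsg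

namespace Cfsg.Agent.S4537

/-- Let F be a finite field with q ^ 2 elements, n ≥ 3, and suppose the special unitary group SU(n, q) (the determinant-one isometries of the standard Hermitian form over F) is quasisimple. Let p be a prime different from the characteristic of F and B a p-block of SU(n, q) (relative to a maximal ideal M of the algebraic integers containing p) with a defect group D all of whose sections have p-rank at most s. Then the p-regular rank of B is at most p ^ s. -/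
theorem result {F : Type*} [Field F] [Fintype F] (q n : ℕ) (hF : Fintype.card F = q ^ 2) (hn : 3 ≤ n) (hqs : Cfsg.IsQuasisimple ↥(Cfsg.SU n F q)) (p : ℕ) [Fact p.Prime] (hp : p ≠ ringChar F) (M : Ideal Cfsg.AlgInt) (hM : Cfsg.IsPModular p M) (B : Set (Cfsg.IrrCharacter ↥(Cfsg.SU n F q))) (hB : Cfsg.IsPBlock M B) (D : Subgroup ↥(Cfsg.SU n F q)) (hD : Cfsg.IsDefectGroup p M B D) (s : ℕ) (hs : Cfsg.SectionalPRankLE p s D) : Cfsg.blockRank p B ≤ p ^ s := by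
  have := Cfsg.Agent.Blocks.Local.isPrime_of_isPModular hM
  obtain ⟨K, _, _, θ, M', _, C⟩ := Cfsg.Agent.H120.GLB.Ctx.exists_ctx F n
  exact Cfsg.Agent.H666.GU.su_final hM C hF hp (by omega) B hB D hD s hs

end Cfsg.Agent.S4537
end

private theorem dce_02dbaf65f922 : _root_.True := by
  try have : _root_.True := by simp only [_root_.Cfsg.Agent.H139.GUX.swp.eq_1]
  exact _root_.True.intro
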