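import Mathlib
import Cfsg.Agent.H617.StarFive
import Cfsg.Agent.H617.OlssonMain
import Cfsg.Agent.H809.OddAct
import Cfsg.Agent.H624.FCases_mg
import Cfsg.Agent.H618.FormNine
import Cfsg.Agent.GpLn.Rank
import Cfsg.Agent.H352.L43.GLThree
import Cfsg.Agent.S4539
import Cfsg.Agent.S0908
import Cfsg.Statements.S4542
import Cfsg.Agent.H602.Small.PkgF3
import Cfsg.Agent.H604.Small.PkgF4
set_option linter.all false

-- part: H617/FiveCoreB
section
/-!
# Arithmetic core for an inertial quotient of order five: all nonzero values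
-/

set_option autoImplicit false
set_option linter.unusedSectionVars false

namespace Cfsg.Agent.H617.FiveCore

variable {D : Type*} [Group D] [Fintype D] [DecidableEq D] {X : Type*} [Fintype X]
  [DecidableEq X]

theorem pointwise_even {a b c : ℤ} (ha : a ≠ 0) (hb : b ≠ 0) (hc : c ≠ 0) (hab : (4 : ℤ) ∣ a - b)
    (hac : (4 : ℤ) ∣ a - c) (he : Even a) :
    8 ≤ a * a + b * b + c * c + (a * b + a * c + b * c) := by
  have sq : ∀ t k : ℤ, 0 ≤ k → (k ≤ t ∨ t ≤ -k) → k * k ≤ t * t := by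
    intro t k hk ht
    rcases ht with ht | ht
    · nlinarith
    · nlinarith
  have key : 16 ≤ (a + b) * (a + b) + (a + c) * (a + c) + (b + c) * (b + c) := by
    obtain ⟨k, hk⟩ := he
    have e : ∀ s t : ℤ, 2 ∣ s → 2 ∣ t → s ≠ 0 → t ≠ 0 → (0 < s ↔ 0 < t) →
        16 ≤ (s + t) * (s + t) := by
      intro s t hs ht hs0 ht0 hst
      exact sq (s + t) 4 (by norm_num) (by omega)
    have n : ∀ s : ℤ, 0 ≤ s * s := fun s => mul_self_nonneg s
    have ha2 : (2 : ℤ) ∣ a := ⟨k, by omega⟩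
    have hb2 : (2 : ℤ) ∣ b := by omega
    have hc2 : (2 : ℤ) ∣ c := by omega
    by_cases h1 : (0 < a ↔ 0 < b)
    · have := e a b ha2 hb2 ha hb h1
      have := n (a + c)
      have := n (b + c)
      omega
    · by_cases h2 : (0 < a ↔ 0 < c)
      · have := e a c ha2 hc2 ha hc h2
        have := n (a + b)
        have := n (b + c)
        omega
      · have h3 : (0 < b ↔ 0 < c) := by tauto
        have := e b c hb2 hc2 hb hc h3
        have := n (a + b)
        have := n (a + c)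
        omega
  nlinarith

variable {τ : MulAut D} {v : D} {w : D → X → ℤ} {r : X → X → ℤ} (h : Hyp τ v w r)

include h

/-- Signs and the pointwise lower bound. -/
theorem Hyp.exists_P (z : X → ℤ) (hodd : Odd (∑ χ, ∑ ψ, z χ * z ψ * r χ ψ)) :
    ∃ (s : D → ℤ) (P : X → ℤ), (∀ u, s u * s u = 1) ∧
      (∀ u, u ≠ 1 → u ≠ v → ∀ u', u' ≠ 1 → u' ≠ v → ∀ χ, (4 : ℤ) ∣ s u * w u χ - s u' * w u' χ) ∧
      ∑ χ, P χ = 48 ∧ (∀ χ, 6 ≤ P χ) ∧
      ∀ χ, ∀ u, u ≠ 1 → u ≠ v → Even (w u χ) → 8 ≤ P χ := by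
  set F := Finset.univ.filter (fun u : D => u ≠ 1 ∧ u ≠ v) with hF
  have hmemF : ∀ u, u ∈ F ↔ u ≠ 1 ∧ u ≠ v := fun u => by simp [hF]
  have hFc : F.card = 30 := h.card_filter
  -- an odd entry
  obtain ⟨χ₀, ψ₀, h0⟩ : ∃ χ₀ ψ₀, Odd (r χ₀ ψ₀) := by
    by_contra hno
    push Not at hno
    rw [← Int.not_even_iff_odd] at hodd
    apply hodd
    refine Finset.even_sum _ fun χ _ => Finset.even_sum _ fun ψ _ => ?_
    exact (Int.not_odd_iff_even.1 (hno χ ψ)).mul_left _
  have hw0 : ∀ u ∈ F, Odd (w u χ₀) := by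
    intro u hu
    have h1 := h.mod4 ((hmemF u).1 hu).1 ((hmemF u).1 hu).2 χ₀ ψ₀
    by_contra hno
    rw [Int.not_odd_iff_even] at hno
    obtain ⟨k, hk⟩ := hno
    obtain ⟨q, hq⟩ := h0
    obtain ⟨c, hc⟩ := h1
    rw [hk, hq] at hc
    have h3 : (k + k) * w u ψ₀ = 2 * (k * w u ψ₀) := by ring
    omega
  -- the representatives
  obtain ⟨y₁, hy₁⟩ : F.Nonempty := Finset.card_pos.1 (by omega)
  obtain ⟨y₂, hy₂F, hy₂⟩ : ∃ y ∈ F, y ∉ cls τ v y₁ := by
    refine Finset.exists_mem_notMem_of_card_lt_card ?_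
    have := card_cls τ v y₁
    omega
  obtain ⟨y₃, hy₃F, hy₃⟩ : ∃ y ∈ F, y ∉ cls τ v y₁ ∪ cls τ v y₂ := by
    refine Finset.exists_mem_notMem_of_card_lt_card ?_
    have h1 := card_cls τ v y₁
    have h2 := card_cls τ v y₂
    have h3 := Finset.card_union_le (cls τ v y₁) (cls τ v y₂)
    omega
  rw [Finset.notMem_union] at hy₃
  have horth : ∀ {u u' : D}, u ∈ F → u' ∈ F → u' ∉ cls τ v u → ∑ χ, w u χ * w u' χ = 0 := by
    intro u u' hu hu' hn
    exact h.orth u u' ((hmemF u).1 hu).1 ((hmemF u).1 hu).2 ((hmemF u').1 hu').1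
      ((hmemF u').1 hu').2 (notMem_cls hn)
  -- signs
  let s : D → ℤ := fun u => if w u χ₀ % 4 = 1 then 1 else -1
  have hs : ∀ u, s u * s u = 1 := by
    intro u
    simp only [s]
    split_ifs <;> norm_num
  have hs0 : ∀ u ∈ F, ∃ k : ℤ, s u * w u χ₀ = 4 * k + 1 := by
    intro u hu
    obtain ⟨q, hq⟩ := hw0 u hu
    by_cases h1 : w u χ₀ % 4 = 1
    · have h2 : s u = 1 := if_pos h1
      rw [h2, one_mul]
      exact ⟨w u χ₀ / 4, by omega⟩
    · have h2 : s u = -1 := if_neg h1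
      rw [h2]
      exact ⟨(-w u χ₀) / 4, by omega⟩
  have hcong : ∀ u ∈ F, ∀ χ, (4 : ℤ) ∣ s u * w u χ - r χ χ₀ := by
    intro u hu χ
    obtain ⟨k, hk⟩ := hs0 u hu
    obtain ⟨c, hc⟩ := h.mod4 ((hmemF u).1 hu).1 ((hmemF u).1 hu).2 χ χ₀
    have h1 : w u χ * w u χ₀ = (s u * w u χ) * (s u * w u χ₀) := by
      calc w u χ * w u χ₀ = (s u * s u) * (w u χ * w u χ₀) := by rw [hs, one_mul]
        _ = _ := by ring
    rw [h1, hk] at hc
    refine ⟨c - s u * w u χ * k, ?_⟩
    linear_combination hc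
  have hcong' : ∀ u ∈ F, ∀ u' ∈ F, ∀ χ, (4 : ℤ) ∣ s u * w u χ - s u' * w u' χ := by
    intro u hu u' hu' χ
    have h1 := hcong u hu χ
    have h2 := hcong u' hu' χ
    omega
  have hne : ∀ u ∈ F, ∀ χ, s u * w u χ ≠ 0 := by
    intro u hu χ h0
    apply h.nz u χ ((hmemF u).1 hu).1 ((hmemF u).1 hu).2
    calc w u χ = (s u * s u) * w u χ := by rw [hs, one_mul]
      _ = s u * (s u * w u χ) := by ring
      _ = 0 := by rw [h0, mul_zero]
  have hnorm : ∀ u ∈ F, ∑ χ, (s u * w u χ) * (s u * w u χ) = 16 := by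
    intro u hu
    rw [← h.norm u ((hmemF u).1 hu).1 ((hmemF u).1 hu).2]
    refine Finset.sum_congr rfl fun χ _ => ?_
    calc (s u * w u χ) * (s u * w u χ) = (s u * s u) * (w u χ * w u χ) := by ring
      _ = _ := by rw [hs, one_mul]
  have hprod : ∀ u u', ∑ χ, w u χ * w u' χ = 0 →
      ∑ χ, (s u * w u χ) * (s u' * w u' χ) = 0 := by
    intro u u' h1
    have h2 : ∑ χ, (s u * w u χ) * (s u' * w u' χ) = (s u * s u') * ∑ χ, w u χ * w u' χ := by
      rw [Finset.mul_sum]
      refine Finset.sum_congr rfl fun χ _ => ?_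
      ring
    rw [h2, h1, mul_zero]
  refine ⟨s, fun χ => ((s y₁ * w y₁ χ) * (s y₁ * w y₁ χ) +
      (s y₂ * w y₂ χ) * (s y₂ * w y₂ χ) + (s y₃ * w y₃ χ) * (s y₃ * w y₃ χ) +
      ((s y₁ * w y₁ χ) * (s y₂ * w y₂ χ) + (s y₁ * w y₁ χ) * (s y₃ * w y₃ χ) +
        (s y₂ * w y₂ χ) * (s y₃ * w y₃ χ))), hs,
    fun u hu huv u' hu' huv' χ => hcong' u ((hmemF u).2 ⟨hu, huv⟩) u' ((hmemF u').2 ⟨hu', huv'⟩) χ,
    ?_, ?_, ?_⟩
  · simp only [Finset.sum_add_distrib]
    rw [hnorm y₁ hy₁, hnorm y₂ hy₂F, hnorm y₃ hy₃F, hprod y₁ y₂ (horth hy₁ hy₂F hy₂),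
      hprod y₁ y₃ (horth hy₁ hy₃F hy₃.1), hprod y₂ y₃ (horth hy₂F hy₃F hy₃.2)]
    norm_num
  · intro χ
    exact pointwise (hne y₁ hy₁ χ) (hne y₂ hy₂F χ) (hne y₃ hy₃F χ)
      (hcong' y₁ hy₁ y₂ hy₂F χ) (hcong' y₁ hy₁ y₃ hy₃F χ)
  · intro χ u hu huv hev
    have hev' : Even (s y₁ * w y₁ χ) := by
      have h1 := hcong' y₁ hy₁ u ((hmemF u).2 ⟨hu, huv⟩) χ
      obtain ⟨c, hc⟩ := h1
      obtain ⟨d, hd⟩ := hev
      refine ⟨2 * c + s u * d, ?_⟩
      rw [hd] at hc
      linear_combination hc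
    exact pointwise_even (hne y₁ hy₁ χ) (hne y₂ hy₂F χ) (hne y₃ hy₃F χ)
      (hcong' y₁ hy₁ y₂ hy₂F χ) (hcong' y₁ hy₁ y₃ hy₃F χ) hev'

theorem Hyp.sq_eq (z : X → ℤ) (u : D) : (∑ χ, z χ * w u χ) * (∑ χ, z χ * w u χ) =
    ∑ χ, ∑ ψ, z χ * z ψ * (w u χ * w u ψ) := by
  rw [Finset.sum_mul_sum]
  refine Finset.sum_congr rfl fun χ _ => Finset.sum_congr rfl fun ψ _ => ?_
  ring

theorem Hyp.sq_mod4 (z : X → ℤ) {u : D} (hu : u ≠ 1) (huv : u ≠ v) :
    (4 : ℤ) ∣ (∑ χ, z χ * w u χ) * (∑ χ, z χ * w u χ) - ∑ χ, ∑ ψ, z χ * z ψ * r χ ψ := by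
  rw [h.sq_eq, ← Finset.sum_sub_distrib]
  refine Finset.dvd_sum fun χ _ => ?_
  rw [← Finset.sum_sub_distrib]
  refine Finset.dvd_sum fun ψ _ => ?_
  have h2 := h.mod4 hu huv χ ψ
  have h3 : z χ * z ψ * (w u χ * w u ψ) - z χ * z ψ * r χ ψ =
    z χ * z ψ * (w u χ * w u ψ - r χ ψ) := by ring
  rw [h3]
  exact h2.mul_left _

theorem Hyp.exists_ne : ∃ y : D, y ≠ 1 ∧ y ≠ v := by
  have h1 := h.card_filter
  obtain ⟨y, hy⟩ : (Finset.univ.filter (fun u : D => u ≠ 1 ∧ u ≠ v)).Nonempty :=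
    Finset.card_pos.1 (by omega)
  exact ⟨y, (Finset.mem_filter.1 hy).2⟩

/-- Nonzero values are at least four. -/
theorem Hyp.ge_four (z : X → ℤ) (hpos : 0 < ∑ χ, ∑ ψ, z χ * z ψ * r χ ψ) :
    4 ≤ ∑ χ, ∑ ψ, z χ * z ψ * r χ ψ := by
  by_cases hodd : Odd (∑ χ, ∑ ψ, z χ * z ψ * r χ ψ)
  · have := h.form_mod z hodd
    omega
  · rw [Int.not_odd_iff_even] at hodd
    obtain ⟨y, hy, hyv⟩ := h.exists_ne
    have h1 := h.sq_mod4 z hy hyv
    obtain ⟨k, hk⟩ := hodd
    rcases Int.even_or_odd' (∑ χ, z χ * w y χ) with ⟨j, hj | hj⟩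
    · rw [hj] at h1
      have h2 : 2 * j * (2 * j) = 4 * (j * j) := by ring
      omega
    · rw [hj] at h1
      have h2 : (2 * j + 1) * (2 * j + 1) = 4 * (j * j + j) + 1 := by ring
      omega

theorem Hyp.total (z : X → ℤ) : 160 * ∑ χ, z χ * z χ = 10 * (∑ χ, ∑ ψ, z χ * z ψ * r χ ψ) +
    ∑ u ∈ Finset.univ.filter (fun u : D => u ≠ 1 ∧ u ≠ v),
      (∑ χ, z χ * w u χ) * (∑ χ, z χ * w u χ) := by
  set F := Finset.univ.filter (fun u : D => u ≠ 1 ∧ u ≠ v) with hF
  have h1 : 160 * ∑ χ, z χ * z χ =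
      ∑ χ, ∑ ψ, z χ * z ψ * (if χ = ψ then (160 : ℤ) else 0) := by
    rw [Finset.mul_sum]
    refine Finset.sum_congr rfl fun χ _ => ?_
    simp only [mul_ite, mul_zero]
    rw [Finset.sum_ite_eq]
    simp only [Finset.mem_univ, if_true]
    ring
  rw [h1, Finset.mul_sum, Finset.sum_congr rfl fun u _ => h.sq_eq z u, Finset.sum_comm (s := F),
    ← Finset.sum_add_distrib]
  refine Finset.sum_congr rfl fun χ _ => ?_
  rw [Finset.mul_sum, Finset.sum_comm (s := F), ← Finset.sum_add_distrib]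
  refine Finset.sum_congr rfl fun ψ _ => ?_
  rw [h.tot χ ψ, mul_add, Finset.mul_sum]
  ring

/-- Nonzero values are at least five if the rank is five. -/
theorem Hyp.ge_five (z₀ : X → ℤ) (hodd₀ : Odd (∑ χ, ∑ ψ, z₀ χ * z₀ ψ * r χ ψ))
    (hl : ∑ χ, r χ χ = 16 * 5) (z : X → ℤ) (hpos : 0 < ∑ χ, ∑ ψ, z χ * z ψ * r χ ψ) :
    5 ≤ ∑ χ, ∑ ψ, z χ * z ψ * r χ ψ := by
  set Q := ∑ χ, ∑ ψ, z χ * z ψ * r χ ψ with hQ
  have h4 := h.ge_four z hpos
  by_contra hlt
  have hQ4 : Q = 4 := by omega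
  obtain ⟨s, P, hs, hcong, hP, hP6, hP8⟩ := h.exists_P z₀ hodd₀
  have hX : (Fintype.card X : ℤ) = 8 := by
    have := h.trace
    omega
  -- all entries are odd
  have hodd : ∀ χ, ∀ u, u ≠ 1 → u ≠ v → Odd (w u χ) := by
    intro χ u hu huv
    by_contra hno
    rw [Int.not_odd_iff_even] at hno
    have h1 := hP8 χ u hu huv hno
    have h2 : ∑ ψ ∈ Finset.univ.erase χ, P ψ + P χ = 48 := by
      rw [Finset.sum_erase_add _ _ (Finset.mem_univ χ), hP]
    have h3 : (Finset.univ.erase χ).card • (6 : ℤ) ≤ ∑ ψ ∈ Finset.univ.erase χ, P ψ :=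
      Finset.card_nsmul_le_sum _ _ _ fun ψ _ => hP6 ψ
    rw [Finset.card_erase_of_mem (Finset.mem_univ χ), Finset.card_univ, nsmul_eq_mul] at h3
    have h4 : ((Fintype.card X - 1 : ℕ) : ℤ) = 7 := by omega
    rw [h4] at h3
    omega
  set F := Finset.univ.filter (fun u : D => u ≠ 1 ∧ u ≠ v) with hF
  have hmemF : ∀ u, u ∈ F ↔ u ≠ 1 ∧ u ≠ v := fun u => by simp [hF]
  let W : D → ℤ := fun u => ∑ χ, z χ * w u χ
  have hWeven : ∀ u ∈ F, ∃ k, W u = 2 * k := by
    intro u hu
    have h1 := h.sq_mod4 z ((hmemF u).1 hu).1 ((hmemF u).1 hu).2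
    change (4 : ℤ) ∣ W u * W u - Q at h1
    rw [hQ4] at h1
    rcases Int.even_or_odd' (W u) with ⟨j, hj | hj⟩
    · exact ⟨j, hj⟩
    · rw [hj] at h1
      have h2 : (2 * j + 1) * (2 * j + 1) = 4 * (j * j + j) + 1 := by ring
      omega
  have hch : ∀ u : D, ∃ k : ℤ, u ∈ F → W u = 2 * k := by
    intro u
    by_cases hu : u ∈ F
    · obtain ⟨k, hk⟩ := hWeven u hu
      exact ⟨k, fun _ => hk⟩
    · exact ⟨0, fun h => absurd h hu⟩
  choose V hV using hch
  have hVpar : ∀ u ∈ F, ∀ u' ∈ F, (2 : ℤ) ∣ V u - V u' := by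
    intro u hu u' hu'
    have h1 : (4 : ℤ) ∣ s u * W u - s u' * W u' := by
      have h2 : s u * W u - s u' * W u' = ∑ χ, z χ * (s u * w u χ - s u' * w u' χ) := by
        change s u * (∑ χ, z χ * w u χ) - s u' * (∑ χ, z χ * w u' χ) = _
        rw [Finset.mul_sum, Finset.mul_sum, ← Finset.sum_sub_distrib]
        refine Finset.sum_congr rfl fun χ _ => ?_
        ring
      rw [h2]
      refine Finset.dvd_sum fun χ _ => ?_
      exact (hcong u ((hmemF u).1 hu).1 ((hmemF u).1 hu).2 u' ((hmemF u').1 hu').1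
        ((hmemF u').1 hu').2 χ).mul_left _
    rw [hV u hu, hV u' hu'] at h1
    have hsu : s u = 1 ∨ s u = -1 := by
      have h3 := hs u
      have h4 : (s u - 1) * (s u + 1) = 0 := by linear_combination h3
      rcases mul_eq_zero.1 h4 with h5 | h5
      · exact Or.inl (by omega)
      · exact Or.inr (by omega)
    have hsu' : s u' = 1 ∨ s u' = -1 := by
      have h3 := hs u'
      have h4 : (s u' - 1) * (s u' + 1) = 0 := by linear_combination h3
      rcases mul_eq_zero.1 h4 with h5 | h5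
      · exact Or.inl (by omega)
      · exact Or.inr (by omega)
    rcases hsu with e | e <;> rcases hsu' with e' | e' <;> rw [e, e'] at h1 <;> omega
  have htot := h.total z
  rw [← hF, ← hQ, hQ4] at htot
  have hsumV : ∑ u ∈ F, (∑ χ, z χ * w u χ) * (∑ χ, z χ * w u χ) = 4 * ∑ u ∈ F, V u * V u := by
    rw [Finset.mul_sum]
    refine Finset.sum_congr rfl fun u hu => ?_
    change W u * W u = _
    rw [hV u hu]
    ring
  rw [hsumV] at htot
  obtain ⟨y, hy1, hyv⟩ := h.exists_ne
  have hyF : y ∈ F := (hmemF y).2 ⟨hy1, hyv⟩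
  have hcF : F.card = 30 := h.card_filter
  have hVodd : ∀ u ∈ F, ∃ k, V u = 2 * k + 1 := by
    by_contra hno
    push Not at hno
    obtain ⟨u₀, hu₀, hno⟩ := hno
    have hev : ∀ u ∈ F, ∃ k, V u * V u = 4 * k := by
      intro u hu
      have h1 := hVpar u hu u₀ hu₀
      rcases Int.even_or_odd' (V u₀) with ⟨j, hj | hj⟩
      · rw [hj] at h1
        obtain ⟨c, hc⟩ : ∃ c, V u = 2 * c := ⟨V u / 2, by omega⟩
        exact ⟨c * c, by rw [hc]; ring⟩
      · exact absurd hj (hno j)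
    have hd : (4 : ℤ) ∣ ∑ u ∈ F, V u * V u := Finset.dvd_sum fun u hu => by
      obtain ⟨k, hk⟩ := hev u hu
      exact ⟨k, hk⟩
    omega
  have hWodd : ∀ u : D, ∃ m : ℤ, u ∈ F → V u * V u = 8 * m + 1 := by
    intro u
    by_cases hu : u ∈ F
    · obtain ⟨k, hk⟩ := hVodd u hu
      obtain ⟨j, hj⟩ := Int.even_mul_succ_self k
      refine ⟨j, fun _ => ?_⟩
      rw [hk]
      have h3 : (2 * k + 1) * (2 * k + 1) = 4 * (k * (k + 1)) + 1 := by ring
      rw [h3, hj]
      ring
    · exact ⟨0, fun h => absurd h hu⟩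
  choose m hm using hWodd
  have hvF : ∀ u ∈ F, v * u ∈ F := by
    intro u hu
    obtain ⟨h1, h2⟩ := (hmemF u).1 hu
    refine (hmemF _).2 ⟨fun h3 => h2 ?_, fun h3 => h1 ?_⟩
    · calc u = (v * v) * u := by rw [h.hel, one_mul]
        _ = v * (v * u) := by group
        _ = v := by rw [h3, mul_one]
    · exact mul_left_cancel (a := v) (by rw [h3, mul_one])
  have hvW : ∀ u ∈ F, W (v * u) * W (v * u) = W u * W u := by
    intro u hu
    change (∑ χ, z χ * w (v * u) χ) * (∑ χ, z χ * w (v * u) χ) =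
      (∑ χ, z χ * w u χ) * (∑ χ, z χ * w u χ)
    rw [h.sq_eq, h.sq_eq]
    refine Finset.sum_congr rfl fun χ _ => Finset.sum_congr rfl fun ψ _ => ?_
    rw [h.wv u χ ψ ((hmemF u).1 hu).1 ((hmemF u).1 hu).2]
  have hmv : ∀ u ∈ F, m (v * u) = m u := by
    intro u hu
    have h1 := hm _ (hvF u hu)
    have h2 := hm _ hu
    have h3 := hvW u hu
    rw [hV u hu, hV _ (hvF u hu)] at h3
    have h4 : 2 * V (v * u) * (2 * V (v * u)) = 4 * (V (v * u) * V (v * u)) := by ring
    have h5 : 2 * V u * (2 * V u) = 4 * (V u * V u) := by ring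
    omega
  have heven : (2 : ℤ) ∣ ∑ u ∈ F, m u := by
    refine (ZMod.intCast_zmod_eq_zero_iff_dvd _ 2).1 ?_
    push_cast
    refine Finset.sum_involution (fun u _ => v * u) ?_ ?_ ?_ ?_
    · intro u hu
      rw [hmv u hu]
      generalize (m u : ZMod 2) = t
      revert t
      decide
    · intro u hu _ h1
      exact h.hv1 (mul_right_cancel (b := u) (by rw [h1, one_mul]))
    · intro u hu
      exact hvF u hu
    · intro u hu
      rw [← mul_assoc, h.hel, one_mul]
  rw [Finset.sum_congr rfl fun u hu => hm u hu, Finset.sum_add_distrib, ← Finset.mul_sum,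
    Finset.sum_const, hcF] at htot
  obtain ⟨k, hk⟩ := heven
  rw [hk] at htot
  simp only [nsmul_eq_mul, Nat.cast_ofNat, mul_one] at htot
  -- the parity of the norm
  have hzeven : (2 : ℤ) ∣ ∑ χ, z χ * z χ := by
    have h1 : (2 : ℤ) ∣ ∑ χ, z χ * z χ - W y := by
      change (2 : ℤ) ∣ ∑ χ, z χ * z χ - ∑ χ, z χ * w y χ
      rw [← Finset.sum_sub_distrib]
      refine Finset.dvd_sum fun χ _ => ?_
      obtain ⟨c, hc⟩ := hodd χ y hy1 hyv
      obtain ⟨d, hd⟩ := Int.even_mul_pred_self (z χ)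
      rw [hc]
      refine ⟨d - z χ * c, ?_⟩
      linear_combination hd
    rw [hV y hyF] at h1
    omega
  omega

end Cfsg.Agent.H617.FiveCore
end

-- part: H617/StarFiveB
section
/-!
# Blocks with defect group `2 ^ 5` and inertial quotient of order five: all values
-/

set_option autoImplicit false
set_option linter.unusedSectionVars false

open Cfsg
open scoped ComplexConjugate

namespace Cfsg.Agent.H617.StarFive

open Cfsg.Agent.H651 Cfsg.Agent.H649 Cfsg.Agent.Characters
open Cfsg.Agent.H652.DoubleCount Cfsg.Agent.H645.FusCount Cfsg.Agent.H650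
open Cfsg.Agent.H645.TraceForm Cfsg.Agent.H645.LocMono Cfsg.Agent.H645.Watanabe
open Cfsg.Agent.H652.Ctr Cfsg.Agent.H652.CtrOne Cfsg.Agent.H613.RegGram
open Cfsg.Agent.H613.Contrib Cfsg.Agent.H613.ContribVal Cfsg.Agent.H644.CentralQuot
open Cfsg.Agent.H617.AbelRank Cfsg.Agent.H617.RankOneCol Cfsg.Agent.H617.StarCols
open Cfsg.Agent.H617.StarAut

universe u

variable {G : Type u} [Group G] [Fintype G]

section main

variable {M : Ideal AlgInt} [M.IsPrime] (hM : IsPModular 2 M) {B : Set (IrrCharacter G)}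
  {a : BrauerPairIdx G} (hmax : IsMaximalBrauerPair 2 M B a.1 a.2)

include hM hmax

/-- **The local theorem**. -/
theorem five_local_all (hel : ∀ x ∈ a.1, x * x = 1) (hcard : Nat.card a.1 = 32)
    (hidx : (Subgroup.centralizer (a.1 : Set G)).relIndex (stab a) = 5) {v : G} (hv : v ∈ a.1)
    (hv1 : v ≠ 1) (hvc : ∀ g : G, v * g = g * v)
    (hfix : ∀ w ∈ a.1, (∀ t ∈ stab a, t * w * t⁻¹ = w) → w = 1 ∨ w = v)
    (hU : (Subgroup.zpowers v).Normal) [Fintype (defl (Subgroup.zpowers v) B)] :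
    ∃ r : defl (Subgroup.zpowers v) B → defl (Subgroup.zpowers v) B → ℤ,
      (∀ θ θ', (r θ θ' : ℂ) = 32 * rg 2 (infl (Subgroup.zpowers v) θ : G → ℂ)
        (infl (Subgroup.zpowers v) θ' : G → ℂ)) ∧
      ∀ z : defl (Subgroup.zpowers v) B → ℤ, Odd (∑ χ, ∑ ψ, z χ * z ψ * r χ ψ) →
        blockRank 2 B ≤ 5 ∧ ∀ y : defl (Subgroup.zpowers v) B → ℤ,
          0 < ∑ χ, ∑ ψ, y χ * y ψ * r χ ψ →
          4 ≤ ∑ χ, ∑ ψ, y χ * y ψ * r χ ψ ∧
          (blockRank 2 B = 5 → 5 ≤ ∑ χ, ∑ ψ, y χ * y ψ * r χ ψ) := by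
  classical
  have hvv : v * v = 1 := hel v hv
  have hab : ∀ x ∈ a.1, ∀ y ∈ a.1, x * y = y * x := by
    intro x hx y hy
    have h1 := hel (x * y) (a.1.mul_mem hx hy)
    have h2 : (x * y) * (y * x) = 1 := by
      calc (x * y) * (y * x) = x * (y * y) * x := by group
        _ = 1 := by rw [hel y hy, mul_one, hel x hx]
    exact mul_left_cancel (h1.trans h2.symm)
  have := Core.finite_irr (G := G)
  have := Fintype.ofFinite a.1
  have : Fintype B := Fintype.ofFinite _
  have hel' : ∀ x : a.1, x * x = 1 := fun x => Subtype.ext (hel x x.2)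
  -- the automorphism
  have hcA : Nat.card (autG a) = 5 := by rw [card_autG hM hmax hab, hidx]
  obtain ⟨τ, hτ⟩ : ∃ τ, autG a = Subgroup.zpowers τ := by
    have hF : Fact (Nat.Prime 5) := ⟨by norm_num⟩
    have hcyc : IsCyclic (autG a) := isCyclic_of_prime_card hcA
    exact (Subgroup.isCyclic_iff_exists_zpowers_eq_top (autG a)).1 hcyc |>.imp fun _ h => h.symm
  have h5 : τ ^ 5 = 1 := by
    rw [← hcA, hτ, Nat.card_zpowers, pow_orderOf_eq_one]
  have hfx := fixed_iff hM hmax hab hτ h5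
  set v' : a.1 := ⟨v, hv⟩ with hv'
  have hv'1 : v' ≠ 1 := fun h => hv1 (congrArg Subtype.val h)
  have hτv : τ v' = v' := (hfx v').2 fun t _ => by
    change t * v * t⁻¹ = v
    rw [← hvc]
    group
  have hfix' : ∀ x : a.1, τ x = x → x = 1 ∨ x = v' := by
    intro x hx
    rcases hfix x x.2 ((hfx x).1 hx) with h | h
    · exact Or.inl (Subtype.ext h)
    · exact Or.inr (Subtype.ext h)
  have hmoved : ∀ x : a.1, x ≠ 1 → x ≠ v' → τ x ≠ x := fun x h1 h2 h3 =>
    (hfix' x h3).elim h1 h2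
  have hτinj : ∀ x : a.1, τ x ≠ x → τ (τ x) ≠ τ x := fun x h1 h2 => h1 (τ.injective h2)
  have hvmoved : ∀ x : a.1, τ x ≠ x → τ (v' * x) ≠ v' * x := by
    intro x h1 h2
    rw [map_mul, hτv] at h2
    exact h1 (mul_left_cancel h2)
  -- the columns
  have hcol : ∀ u : a.1, ∃ w : IrrCharacter G → ℤ, τ u ≠ u → ∀ χ ψ : IrrCharacter G,
      (32 : ℂ) * ctr 2 (u : G) (bP 2 M a (u : G)) (χ : G → ℂ) (ψ : G → ℂ) = w χ * w ψ := by
    intro u
    by_cases hu : τ u = u
    · exact ⟨0, fun h => absurd hu h⟩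
    · obtain ⟨w, hw⟩ := exists_col hM hmax hab u.2 (hel u u.2)
        (rank_one_of_prime hM hmax hab (by norm_num) hidx u.2 (fun h => hu ((hfx u).2 h)))
      rw [hcard] at hw
      exact ⟨w, fun _ χ ψ => by rw [← hw χ ψ]; norm_num⟩
  choose W hW using hcol
  choose ε hε1 hε2 hε3 using exists_sign hvv hvc hU
  have hWτ : ∀ u : a.1, τ u ≠ u → ∀ χ ψ : IrrCharacter G,
      W (τ u) χ * W (τ u) ψ = W u χ * W u ψ := by
    intro u hu χ ψ
    have h1 := hW u hu χ ψ
    have h2 := hW (τ u) (hτinj u hu) χ ψ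
    rw [ctr_aut hM hmax hab hτ h5 u (Core.isIrr_isClassFunction χ.2)
      (Core.isIrr_isClassFunction ψ.2), h1] at h2
    exact_mod_cast h2.symm
  have hWv : ∀ u : a.1, τ u ≠ u → ∀ χ ψ : IrrCharacter G,
      W (v' * u) χ * W (v' * u) ψ = ε χ * ε ψ * (W u χ * W u ψ) := by
    intro u hu χ ψ
    have h1 := hW u hu χ ψ
    have h2 := hW (v' * u) (hvmoved u hu) χ ψ
    have h3 := ctr_central_mul hM hmax hab hv hvc u.2 (hε2 χ) (hε2 ψ)
    change (32 : ℂ) * ctr 2 (v * (u : G)) (bP 2 M a (v * (u : G))) (χ : G → ℂ) (ψ : G → ℂ) = _ at h2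
    rw [h3, map_intCast] at h2
    have h4 : ((W (v' * u) χ * W (v' * u) ψ : ℤ) : ℂ) =
        ((ε χ * ε ψ * (W u χ * W u ψ) : ℤ) : ℂ) := by
      push_cast
      rw [← h1, ← h2]
      ring
    exact_mod_cast h4
  have hnz : ∀ u : a.1, τ u ≠ u → ∀ χ : IrrCharacter G, χ ∈ B → W u χ ≠ 0 := by
    intro u hu χ hχ h0
    have h1 := hW u hu χ χ
    rw [h0, Int.cast_zero, zero_mul] at h1
    rcases mul_eq_zero.1 h1 with h2 | h2
    · norm_num at h2
    · exact ctr_self_ne_zero hM hmax hab u.2 hχ h2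
  obtain ⟨χ₀, hχ₀⟩ := Cfsg.Agent.Blocks.Basic.isPBlock_nonempty hmax.1.2.1
  have horth : ∀ u u' : a.1, τ u ≠ u → τ u' ≠ u' → (∀ i < 5, (τ ^ i) u ≠ u') →
      ∑ ψ : B, W u ψ * W u' ψ = 0 := by
    intro u u' hu hu' hne
    have h1 := orth_ctr hM hmax hab hτ h5 hidx hu hu' hne hχ₀ hχ₀
    have h2 : ∑ ψ : B, (((W u χ₀ * W u' χ₀) * (W u ψ * W u' ψ) : ℤ) : ℂ) = 0 := by
      rw [← mul_zero ((32 : ℂ) * 32), ← h1, Finset.mul_sum]
      refine Finset.sum_congr rfl fun ψ _ => ?_
      have e1 := hW u hu χ₀ ψ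
      have e2 := congrArg conj (hW u' hu' χ₀ ψ)
      rw [map_mul, map_mul, map_intCast, map_intCast, map_ofNat] at e2
      push_cast
      linear_combination (-(W u' χ₀ : ℂ) * W u' ψ) * e1 -
        (32 * ctr 2 (u : G) (bP 2 M a (u : G)) (χ₀ : G → ℂ) ((ψ : IrrCharacter G) : G → ℂ)) * e2
    have h3 : (W u χ₀ * W u' χ₀) * ∑ ψ : B, W u ψ * W u' ψ = 0 := by
      rw [Finset.mul_sum]
      exact_mod_cast h2
    rcases mul_eq_zero.1 h3 with h4 | h4
    · exact absurd h4 (mul_ne_zero (hnz u hu χ₀ hχ₀) (hnz u' hu' χ₀ hχ₀))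
    · exact h4
  have hnormB : ∀ u : a.1, τ u ≠ u → ∑ ψ : B, W u ψ * W u ψ = 32 := by
    intro u hu
    have h1 := sum_ctr_self hM hmax u.2
    rw [rank_one_of_prime hM hmax hab (by norm_num) hidx u.2 (fun h => hu ((hfx u).2 h))] at h1
    have h2 : ∑ ψ : B, ((W u ψ * W u ψ : ℤ) : ℂ) = 32 := by
      have h3 : (32 : ℂ) = 32 * ((1 : ℕ) : ℂ) := by norm_num
      rw [h3, ← h1, Finset.mul_sum]
      refine Finset.sum_congr rfl fun ψ _ => ?_
      rw [hW u hu ψ ψ]
      push_cast
      rfl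
    exact_mod_cast h2
  have hsgn : ∀ u u' : a.1, τ u ≠ u → τ u' ≠ u' → (∀ i < 5, (τ ^ i) (v' * u) ≠ u') →
      ∑ ψ : B, ε ψ * (W u ψ * W u' ψ) = 0 := by
    intro u u' hu hu' hne
    have h1 := horth (v' * u) u' (hvmoved u hu) hu' hne
    have h2 : (ε χ₀ * W u χ₀) * ∑ ψ : B, ε ψ * (W u ψ * W u' ψ) = 0 := by
      rw [← mul_zero (W (v' * u) χ₀), ← h1, Finset.mul_sum, Finset.mul_sum]
      refine Finset.sum_congr rfl fun ψ _ => ?_
      have h3 := hWv u hu χ₀ ψ
      linear_combination (-W u' ψ) * h3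
    rcases mul_eq_zero.1 h2 with h4 | h4
    · exfalso
      rcases mul_eq_zero.1 h4 with h5' | h5'
      · rcases hε1 χ₀ with h6 | h6 <;> rw [h6] at h5' <;> norm_num at h5'
      · exact hnz u hu χ₀ hχ₀ h5'
    · exact h4
  have hdefl := fun F : IrrCharacter G → ℤ => sum_defl hvv hvc hU (B := B) hε1 hε2 hε3 F
  -- the Gram matrix
  have hr : ∀ θ θ' : defl (Subgroup.zpowers v) B, ∃ k : ℤ,
      (k : ℂ) = 32 * rg 2 (infl (Subgroup.zpowers v) θ : G → ℂ)
        (infl (Subgroup.zpowers v) θ' : G → ℂ) := by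
    intro θ θ'
    obtain ⟨k, hk⟩ := exists_int_rg (p := 2) hM (B := B)
      (ξ := infl (Subgroup.zpowers v) (θ : IrrCharacter (G ⧸ Subgroup.zpowers v)))
      (mem_defl.1 θ.2) (infl (Subgroup.zpowers v) (θ' : IrrCharacter (G ⧸ Subgroup.zpowers v)))
    refine ⟨k, ?_⟩
    have h1 := pow_blockDefect' hM hmax hab
    rw [hcard] at h1
    have h2 : ((2 : ℕ) : ℂ) ^ blockDefect 2 B = 32 := by exact_mod_cast h1
    rw [← hk, h2]
  choose r hr using hr
  have hc1 : ∀ θ θ' : defl (Subgroup.zpowers v) B,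
      ctr 2 (((1 : a.1) : G)) (bP 2 M a ((1 : a.1) : G))
        (infl (Subgroup.zpowers v) θ : G → ℂ) (infl (Subgroup.zpowers v) θ' : G → ℂ) =
      rg 2 (infl (Subgroup.zpowers v) θ : G → ℂ) (infl (Subgroup.zpowers v) θ' : G → ℂ) :=
    fun θ θ' => ctr_one hM hmax hab θ.2 _
  have hcv : ∀ (u : a.1) (θ θ' : defl (Subgroup.zpowers v) B),
      ctr 2 (((v' * u : a.1) : G)) (bP 2 M a ((v' * u : a.1) : G))
        (infl (Subgroup.zpowers v) θ : G → ℂ) (infl (Subgroup.zpowers v) θ' : G → ℂ) =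
      ctr 2 ((u : G)) (bP 2 M a (u : G))
        (infl (Subgroup.zpowers v) θ : G → ℂ) (infl (Subgroup.zpowers v) θ' : G → ℂ) := by
    intro u θ θ'
    have h1 := ctr_central_mul hM hmax hab hv hvc u.2
      (χ := (infl (Subgroup.zpowers v) θ : G → ℂ)) (ψ := (infl (Subgroup.zpowers v) θ' : G → ℂ))
      (ε := 1) (δ := 1) (fun g => by rw [infl_mul hvv hvc hU, one_mul])
      (fun g => by rw [infl_mul hvv hvc hU, one_mul])
    rw [map_one, one_mul, one_mul] at h1
    exact h1
  have hcv1 : ∀ θ θ' : defl (Subgroup.zpowers v) B,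
      ctr 2 ((v' : G)) (bP 2 M a (v' : G))
        (infl (Subgroup.zpowers v) θ : G → ℂ) (infl (Subgroup.zpowers v) θ' : G → ℂ) =
      rg 2 (infl (Subgroup.zpowers v) θ : G → ℂ) (infl (Subgroup.zpowers v) θ' : G → ℂ) := by
    intro θ θ'
    have h1 := hcv 1 θ θ'
    rw [mul_one, hc1] at h1
    exact h1
  have hne5 : ∀ u : a.1, τ u ≠ u → ∀ i < 5, (τ ^ i) (v' * u) ≠ u := by
    intro u hu i hi h
    have h1 : ∀ i : ℕ, (τ ^ i) v' = v' := by
      intro i
      induction i with
      | zero => rfl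
      | succ n ih => rw [pow_succ', MulAut.mul_apply, ih, hτv]
    rw [map_mul, h1] at h
    have h2 : (τ ^ i) u = v' * u := by
      calc (τ ^ i) u = (v' * v') * (τ ^ i) u := by rw [hel', one_mul]
        _ = v' * (v' * (τ ^ i) u) := by group
        _ = v' * u := by rw [h]
    have h3 : (τ ^ (i + i)) u = u := by
      rw [pow_add, MulAut.mul_apply, h2, map_mul, h1, h]
    rw [pow_mod h5] at h3
    have hs : ∀ n : ℕ, (τ ^ n) u = u → ∀ m : ℕ, (τ ^ (n * m)) u = u := by
      intro n hn m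
      induction m with
      | zero => rw [mul_zero, pow_zero]; rfl
      | succ m ih => rw [Nat.mul_succ, pow_add, MulAut.mul_apply, hn, ih]
    have hgo : ∀ n m : ℕ, (τ ^ n) u = u → n * m % 5 = 1 → False := by
      intro n m hn hm
      have e1 := hs n hn m
      rw [pow_mod h5, hm, pow_one] at e1
      exact hu e1
    interval_cases i
    · rw [pow_zero] at h2
      have h4 : v' = 1 := by
        have h5' : (1 : a.1) * u = v' * u := by rw [one_mul]; exact h2
        exact (mul_right_cancel h5').symm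
      exact hv'1 h4
    · exact hgo 2 3 h3 (by norm_num)
    · exact hgo 4 4 h3 (by norm_num)
    · exact hgo 1 1 h3 (by norm_num)
    · exact hgo 3 2 h3 (by norm_num)
  have hsplit : ∀ f : a.1 → ℂ, ∑ u : a.1, f u = f 1 + f v' +
      ∑ u ∈ Finset.univ.filter (fun u : a.1 => u ≠ 1 ∧ u ≠ v'), f u := by
    intro f
    rw [← Finset.sum_filter_add_sum_filter_not Finset.univ (fun u : a.1 => u ≠ 1 ∧ u ≠ v') f,
      add_comm]
    congr 1
    have h1 : (Finset.univ.filter fun u : a.1 => ¬ (u ≠ 1 ∧ u ≠ v')) = {1, v'} := by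
      ext u
      simp only [Finset.mem_filter, Finset.mem_univ, true_and, Finset.mem_insert,
        Finset.mem_singleton]
      tauto
    rw [h1, Finset.sum_pair hv'1.symm]
  have hyp : FiveCore.Hyp τ v' (fun u (θ : defl (Subgroup.zpowers v) B) =>
      W u (infl (Subgroup.zpowers v) θ)) r := by
    refine
      { hel := hel'
        hcard := hcard
        h5 := h5
        hv1 := hv'1
        hτv := hτv
        hfix := hfix'
        wτ := fun u χ ψ h1 h2 => hWτ u (hmoved u h1 h2) _ _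
        wv := ?_
        line := ?_
        tot := ?_
        norm := ?_
        orth := ?_
        nz := fun u χ h1 h2 => hnz u (hmoved u h1 h2) _ χ.2 }
    · intro u χ ψ h1 h2
      have e1 := hW u (hmoved u h1 h2) (infl (Subgroup.zpowers v) χ) (infl (Subgroup.zpowers v) ψ)
      have e2 := hW (v' * u) (hvmoved u (hmoved u h1 h2)) (infl (Subgroup.zpowers v) χ)
        (infl (Subgroup.zpowers v) ψ)
      rw [hcv, e1] at e2
      exact_mod_cast e2.symm
    · intro x y χ ψ hx1 hxv hy1 hyv hxy1 hxyv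
      obtain ⟨n, hn⟩ := int_ann hM hmax hab hτ h5 hidx
        (adj (adj (adj ⊥ v' hel') x hel') y hel') (infl (Subgroup.zpowers v) χ)
        (infl (Subgroup.zpowers v) ψ)
      rw [index_adj_three hel' hv'1 hx1 hxv hy1 hyv hxy1 hxyv hcard] at hn
      have h2 := sum_adj_three hel' hv'1 hx1 hxv hy1 hyv hxy1 hxyv (fun u : a.1 =>
        ((4 : ℕ) : ℂ) * ((if τ u = u then (5 : ℂ) else 1) * ctr 2 (u : G) (bP 2 M a (u : G))
            (infl (Subgroup.zpowers v) χ : G → ℂ) (infl (Subgroup.zpowers v) ψ : G → ℂ)))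
      have h3 : ∀ u : a.1, (if u ∈ adj (adj (adj ⊥ v' hel') x hel') y hel' then
          ((4 : ℕ) : ℂ) * ((if τ u = u then (5 : ℂ) else 1) * ctr 2 (u : G) (bP 2 M a (u : G))
            (infl (Subgroup.zpowers v) χ : G → ℂ) (infl (Subgroup.zpowers v) ψ : G → ℂ)) else 0) =
          (if u ∈ adj (adj (adj ⊥ v' hel') x hel') y hel' then ((4 : ℕ) : ℂ) else 0) *
            ((if τ u = u then (5 : ℂ) else 1) * ctr 2 (u : G) (bP 2 M a (u : G))
            (infl (Subgroup.zpowers v) χ : G → ℂ) (infl (Subgroup.zpowers v) ψ : G → ℂ)) := by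
        intro u
        split_ifs <;> ring
      rw [Finset.sum_congr rfl fun u _ => h3 u, hn] at h2
      have mx := hmoved x hx1 hxv
      have my := hmoved y hy1 hyv
      have mxy := hmoved (x * y) hxy1 hxyv
      simp only [if_pos (map_one τ), if_pos hτv, if_neg mx, if_neg my, if_neg mxy,
        if_neg (hvmoved x mx), if_neg (hvmoved y my), if_neg (hvmoved (x * y) mxy), hc1, hcv1,
        hcv] at h2
      refine ⟨n, ?_⟩
      have e1 := hW x mx (infl (Subgroup.zpowers v) χ) (infl (Subgroup.zpowers v) ψ)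
      have e2 := hW y my (infl (Subgroup.zpowers v) χ) (infl (Subgroup.zpowers v) ψ)
      have e3 := hW (x * y) mxy (infl (Subgroup.zpowers v) χ) (infl (Subgroup.zpowers v) ψ)
      have h4 : ((5 * r χ ψ + (W x (infl (Subgroup.zpowers v) χ) *
          W x (infl (Subgroup.zpowers v) ψ) + W y (infl (Subgroup.zpowers v) χ) *
          W y (infl (Subgroup.zpowers v) ψ) + W (x * y) (infl (Subgroup.zpowers v) χ) *
          W (x * y) (infl (Subgroup.zpowers v) ψ)) : ℤ) : ℂ) = ((4 * n : ℤ) : ℂ) := by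
        simp only [Nat.cast_ofNat] at h2
        simp only [Int.cast_add, Int.cast_mul, Int.cast_ofNat]
        rw [← e1, ← e2, ← e3, hr, h2]
        ring
      exact_mod_cast h4
    · intro χ ψ
      have h1 := tot hM hmax hab hτ h5 hidx (χ := infl (Subgroup.zpowers v) χ)
        (ψ := infl (Subgroup.zpowers v) ψ) χ.2
      rw [hsplit, if_pos (map_one τ), if_pos hτv, hc1, hcv1] at h1
      have h2 : ∑ u ∈ Finset.univ.filter (fun u : a.1 => u ≠ 1 ∧ u ≠ v'),
          ((if τ u = u then (5 : ℂ) else 1) * ctr 2 (u : G) (bP 2 M a (u : G))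
            (infl (Subgroup.zpowers v) χ : G → ℂ) (infl (Subgroup.zpowers v) ψ : G → ℂ)) * 32 =
          ∑ u ∈ Finset.univ.filter (fun u : a.1 => u ≠ 1 ∧ u ≠ v'),
            ((W u (infl (Subgroup.zpowers v) χ) * W u (infl (Subgroup.zpowers v) ψ) : ℤ) : ℂ) := by
        refine Finset.sum_congr rfl fun u hu => ?_
        have hu' := (Finset.mem_filter.1 hu).2
        have e1 := hmoved u hu'.1 hu'.2
        rw [if_neg e1, one_mul]
        push_cast
        rw [← hW u e1]
        ring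
      have h3 : (infl (Subgroup.zpowers v) (χ : IrrCharacter (G ⧸ Subgroup.zpowers v)) =
          infl (Subgroup.zpowers v) ψ) ↔ χ = ψ :=
        ⟨fun h => Subtype.ext (infl_injective _ h), fun h => by rw [h]⟩
      rw [← Finset.sum_mul] at h2
      have h4 : ((if χ = ψ then (160 : ℤ) else 0 : ℤ) : ℂ) = ((10 * r χ ψ +
          ∑ u ∈ Finset.univ.filter (fun u : a.1 => u ≠ 1 ∧ u ≠ v'),
            W u (infl (Subgroup.zpowers v) χ) * W u (infl (Subgroup.zpowers v) ψ) : ℤ) : ℂ) := by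
        have h5' : (if infl (Subgroup.zpowers v) (χ : IrrCharacter (G ⧸ Subgroup.zpowers v)) =
            infl (Subgroup.zpowers v) ψ then (5 : ℂ) else 0) = if χ = ψ then (5 : ℂ) else 0 := by
          by_cases h : χ = ψ
          · rw [if_pos h, if_pos (h3.2 h)]
          · rw [if_neg h, if_neg (fun h' => h (h3.1 h'))]
        rw [h5'] at h1
        push_cast
        push_cast at h2
        rw [← h2, hr]
        have h6 : (if χ = ψ then (160 : ℂ) else 0) = 32 * (if χ = ψ then (5 : ℂ) else 0) := by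
          split_ifs <;> norm_num
        rw [h6, h1]
        ring
      exact_mod_cast h4
    · intro u h1 h2
      have hu := hmoved u h1 h2
      have h3 := hdefl (fun ψ => W u ψ * W u ψ)
      rw [hnormB u hu, hsgn u u hu hu (hne5 u hu)] at h3
      linarith
    · intro u u' h1 h2 h3 h4 h5'
      have hu := hmoved u h1 h2
      have hu' := hmoved u' h3 h4
      have h6 := hdefl (fun ψ => W u ψ * W u' ψ)
      have h7 : ∀ i : ℕ, (τ ^ i) v' = v' := by
        intro i
        induction i with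
        | zero => rfl
        | succ n ih => rw [pow_succ', MulAut.mul_apply, ih, hτv]
      rw [horth u u' hu hu' (fun i hi => (h5' i hi).1), hsgn u u' hu hu' (fun i hi => by
        rw [map_mul, h7]; exact (h5' i hi).2)] at h6
      linarith
  suffices htr : ∑ χ, r χ χ = 16 * (blockRank 2 B : ℤ) from
    ⟨r, hr, fun z hz => ⟨hyp.rank_le (l := blockRank 2 B) htr z hz, fun y hy =>
      ⟨hyp.ge_four y hy, fun h5 => hyp.ge_five z hz (by rw [htr, h5]; norm_num) y hy⟩⟩⟩
  -- the trace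
  have := Fintype.ofFinite (G ⧸ Subgroup.zpowers v)
  have hcen := zpowers_le_center hvv hvc
  have hpU : IsPGroup 2 (Subgroup.zpowers v) := by
    refine IsPGroup.of_card (n := 1) ?_
    rw [Nat.card_zpowers, pow_one]
    exact orderOf_eq_prime (by rw [pow_two, hvv]) hv1
  have hcU : (Nat.card (Subgroup.zpowers v) : ℂ) = 2 := by
    rw [Nat.card_zpowers, orderOf_eq_prime (by rw [pow_two, hvv]) hv1]
    norm_num
  have h1 := sum_rg_self hM (isPBlock_defl hM hcen hpU hmax.1.2.1)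
  rw [blockRank_defl hM hcen hpU hmax.1.2.1] at h1
  have h2 : ((∑ χ, r χ χ : ℤ) : ℂ) = ((16 * (blockRank 2 B : ℤ) : ℤ) : ℂ) := by
    push_cast
    rw [← h1, Finset.mul_sum]
    refine Finset.sum_congr rfl fun θ _ => ?_
    rw [hr, rg_infl hcen hpU, hcU]
    ring
  exact_mod_cast h2

end main

end Cfsg.Agent.H617.StarFive
end

-- part: H617/BoundFiveB
section
/-!
# `k(B) ≤ |D|` for defect group `2 ^ 5` and local inertial quotients of order five
-/

set_option autoImplicit false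
set_option linter.unusedSectionVars false

open Cfsg
open scoped ComplexConjugate

namespace Cfsg.Agent.H617.BoundFive

open Cfsg.Agent.H651 Cfsg.Agent.H649 Cfsg.Agent.Characters
open Cfsg.Agent.H652.DoubleCount Cfsg.Agent.H645.FusCount Cfsg.Agent.H650
open Cfsg.Agent.H645.TraceForm Cfsg.Agent.H645.LocMono Cfsg.Agent.H645.Watanabe
open Cfsg.Agent.H613.RegGram
open Cfsg.Agent.H613.Contrib Cfsg.Agent.H613.ContribVal Cfsg.Agent.H644.CentralQuot
open Cfsg.Agent.H617.AbelRank Cfsg.Agent.H617.StarCols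
open Cfsg.Agent.H617.StarFive

universe u

variable {G : Type u} [Group G] [Fintype G] {M : Ideal AlgInt}

/-- **The bound.** -/
theorem card_le_five (hM : IsPModular 2 M) {B : Set (IrrCharacter G)} {a : BrauerPairIdx G}
    (hmax : IsMaximalBrauerPair 2 M B a.1 a.2) (hel : ∀ x ∈ a.1, x * x = 1)
    (hcard : Nat.card a.1 = 32) {u : G} (hu : u ∈ a.1) (hu1 : u ≠ 1)
    (hidx : (Subgroup.centralizer (a.1 : Set G)).relIndex
      (stab a ⊓ Subgroup.centralizer ({u} : Set G)) = 5)
    (hfix : ∀ w ∈ a.1, (∀ t ∈ stab a, t * u * t⁻¹ = u → t * w * t⁻¹ = w) → w = 1 ∨ w = u) :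
    Nat.card B ≤ 32 := by
  classical
  have hp2 : Fact (Nat.Prime 2) := ⟨Nat.prime_two⟩
  have hMp := Cfsg.Agent.Blocks.Local.isPrime_of_isPModular hM
  have huu := hel u hu
  have hab : ∀ x ∈ a.1, ∀ y ∈ a.1, x * y = y * x := by
    intro x hx y hy
    have h1 := hel (x * y) (a.1.mul_mem hx hy)
    have h2 : (x * y) * (y * x) = 1 := by
      calc (x * y) * (y * x) = x * (y * y) * x := by group
        _ = 1 := by rw [hel y hy, mul_one, hel x hx]
    exact mul_left_cancel (h1.trans h2.symm)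
  obtain ⟨b, a', hind, -, ha', hmax', hab', hstab⟩ := exists_local hM hmax hab hu
  obtain ⟨H, hH⟩ : ∃ H, H = Subgroup.centralizer ({u} : Set G) := ⟨_, rfl⟩
  rw [← hH] at hidx
  revert b a'
  rw [← hH]
  intro b a' hind ha' hmax' hab' hstab
  have := Fintype.ofFinite H
  have hfinH := Core.finite_irr (G := H)
  have := Fintype.ofFinite (IrrCharacter H)
  have hfinG := Core.finite_irr (G := G)
  have := Fintype.ofFinite (IrrCharacter G)
  have : Fintype b := Fintype.ofFinite b
  have : Fintype B := Fintype.ofFinite B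
  have haH : a.1 ≤ H := by
    intro x hx
    rw [hH, Subgroup.mem_centralizer_singleton_iff]
    exact hab x hx u hu
  obtain ⟨u', hu'⟩ : ∃ u' : H, (u' : G) = u := ⟨⟨u, haH hu⟩, rfl⟩
  have hu'a : u' ∈ a'.1 := by
    rw [ha', Subgroup.mem_subgroupOf, hu']
    exact hu
  have hu'1 : u' ≠ 1 := by
    rintro rfl
    exact hu1 hu'.symm
  have hu'c : ∀ g : H, u' * g = g * u' := by
    intro g
    apply Subtype.ext
    change (u' : G) * g = g * u'
    rw [hu']
    have h1 : (g : G) ∈ Subgroup.centralizer ({u} : Set G) := hH.le g.2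
    exact (Subgroup.mem_centralizer_singleton_iff.1 h1).symm
  have hel' : ∀ x ∈ a'.1, x * x = 1 := by
    intro x hx
    rw [ha', Subgroup.mem_subgroupOf] at hx
    exact Subtype.ext (hel x hx)
  have hcard' : Nat.card a'.1 = 32 := by
    rw [ha', ← hcard]
    exact Nat.card_congr (Subgroup.subgroupOfEquivOfLe haH).toEquiv
  have hU : (Subgroup.zpowers u').Normal := by
    refine ⟨fun x hx g => ?_⟩
    have h1 : Subgroup.zpowers u' ≤ Subgroup.center H := by
      rw [Subgroup.zpowers_le, Subgroup.mem_center_iff]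
      exact fun g => (hu'c g).symm
    rw [Subgroup.mem_center_iff.1 (h1 hx) g, mul_inv_cancel_right]
    exact hx
  have : Fintype (defl (Subgroup.zpowers u') b) := by
    have := Core.finite_irr (G := H ⧸ Subgroup.zpowers u')
    exact Fintype.ofFinite _
  have hCH : Subgroup.centralizer (a.1 : Set G) ≤ H := by
    intro x hx
    rw [hH, Subgroup.mem_centralizer_singleton_iff]
    exact (Subgroup.mem_centralizer_iff.1 hx u hu).symm
  have hC' : Subgroup.centralizer (a'.1 : Set H) =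
      (Subgroup.centralizer (a.1 : Set G)).subgroupOf H := by
    ext x
    rw [Subgroup.mem_subgroupOf, Subgroup.mem_centralizer_iff, Subgroup.mem_centralizer_iff]
    constructor
    · intro h y hy
      have h1 : (⟨y, haH hy⟩ : H) ∈ a'.1 := by
        rw [ha', Subgroup.mem_subgroupOf]
        exact hy
      exact congrArg Subtype.val (h _ h1)
    · intro h y hy
      rw [SetLike.mem_coe, ha', Subgroup.mem_subgroupOf] at hy
      exact Subtype.ext (h y hy)
  have hS' : stab a' = (stab a ⊓ H).subgroupOf H := by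
    ext x
    rw [hstab, Subgroup.mem_subgroupOf, Subgroup.mem_inf]
    exact ⟨fun h => ⟨h, x.2⟩, fun h => h.1⟩
  have hidx' : (Subgroup.centralizer (a'.1 : Set H)).relIndex (stab a') = 5 := by
    rw [hC', hS', Subgroup.relIndex_subgroupOf inf_le_right, hidx]
  have hfix' : ∀ w ∈ a'.1, (∀ t ∈ stab a', t * w * t⁻¹ = w) → w = 1 ∨ w = u' := by
    intro w hw h
    have hw' : (w : G) ∈ a.1 := by
      rw [ha', Subgroup.mem_subgroupOf] at hw
      exact hw
    rcases hfix w hw' (fun t ht htu => by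
      have htH : t ∈ H := by
        rw [hH, Subgroup.mem_centralizer_singleton_iff]
        calc t * u = t * u * t⁻¹ * t := by group
          _ = u * t := by rw [htu]
      exact congrArg Subtype.val (h ⟨t, htH⟩ ((hstab _).2 ht))) with h1 | h1
    · exact Or.inl (Subtype.ext h1)
    · exact Or.inr (Subtype.ext (h1.trans hu'.symm))
  obtain ⟨r, hr, hlocal⟩ := five_local_all hM hmax' hel' hcard' hidx' hu'a hu'1 hu'c hfix' hU
  -- the forms
  have hform := fun χ => exists_form hM hH hu' huu hU hind.1 hr χ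
  choose z hz using hform
  have hdb : ((2 : ℕ) : ℂ) ^ blockDefect 2 b = 32 := by
    have h1 := pow_blockDefect' hM hmax' hab'
    rw [hcard'] at h1
    exact_mod_cast h1
  have hodd : ∀ χ : IrrCharacter G, χ ∈ B → blockHeight 2 B (χ : G → ℂ) = 0 →
      Odd (∑ θ, ∑ θ', z χ θ * z χ θ' * r θ θ') := by
    intro χ hχ h0
    obtain ⟨n, e, hE⟩ := exists_exp (u := u) hH (q := 2 ^ 1) (by rw [pow_one, pow_two, huu])
    have h1 := not_memLocalIdeal_contr hM hE hind hχ hχ h0 h0 (k := 1) (by rw [pow_one]; exact hH)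
    rw [pow_one, hdb, hz, Cfsg.Agent.Blocks.Local.memLocalIdeal_intCast_iff hM] at h1
    rw [← Int.not_even_iff_odd]
    intro h2
    exact h1 (by exact_mod_cast h2.two_dvd)
  obtain ⟨χ₀, hχ₀, hχ₀0⟩ := Cfsg.Agent.Blocks.Blau.exists_blockHeight_eq_zero 2
    (Cfsg.Agent.Blocks.Blau.isPBlock_nonempty hM hmax.1.2.1)
  obtain ⟨hrank, hval⟩ := hlocal (z χ₀) (hodd χ₀ hχ₀ hχ₀0)
  have hord : ∃ i : ℕ, orderOf u = 2 ^ i := ⟨1, by
    rw [pow_one]
    exact orderOf_eq_prime (by rw [pow_two, huu]) hu1⟩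
  have hsum := sum_contr_self hM hord hH hind
  set q : IrrCharacter G → ℤ := fun χ => ∑ θ, ∑ θ', z χ θ * z χ θ' * r θ θ' with hq
  have hqsum : ∑ χ : B, q χ = 32 * blockRank 2 b := by
    have h1 : ((∑ χ : B, q χ : ℤ) : ℂ) = ((32 * (blockRank 2 b : ℤ) : ℤ) : ℂ) := by
      push_cast
      rw [← hsum, Finset.mul_sum]
      refine Finset.sum_congr rfl fun χ _ => ?_
      rw [hz χ]
    exact_mod_cast h1
  have hq0 : ∀ χ : IrrCharacter G, 0 ≤ q χ := by
    intro χ
    have h1 := hz χ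
    rw [contr_self_eq] at h1
    have h2 : ((32 * ∑ η : b, ‖wt 2 u (χ : G → ℂ) ((η : IrrCharacter H) : H → ℂ)‖ ^ 2 : ℝ) : ℂ) =
        ((q χ : ℝ) : ℂ) := by
      push_cast
      push_cast at h1
      rw [h1, hq]
      push_cast
      rfl
    have h3 : (32 * ∑ η : b, ‖wt 2 u (χ : G → ℂ) ((η : IrrCharacter H) : H → ℂ)‖ ^ 2 : ℝ) =
        (q χ : ℝ) := by exact_mod_cast h2
    have h4 : (0 : ℝ) ≤ (q χ : ℝ) := by
      rw [← h3]
      positivity
    exact_mod_cast h4
  have hdB : blockDefect 2 b = blockDefect 2 B := by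
    have h1 := pow_blockDefect' hM hmax' hab'
    have h2 := pow_blockDefect' hM hmax hab
    rw [hcard'] at h1
    rw [hcard] at h2
    exact Nat.pow_right_injective le_rfl (h1.trans h2.symm)
  have hqpos : ∀ χ : B, 0 < q χ := by
    intro χ
    refine lt_of_le_of_ne (hq0 χ) fun h0 => ?_
    have h1 := Cfsg.Agent.H658.contr_self_ne_zero hM hord hH hind hdB χ.2
    have h2 := hz χ
    change _ = ((q χ : ℤ) : ℂ) at h2
    rw [← h0, Int.cast_zero] at h2
    rcases mul_eq_zero.1 h2 with h3 | h3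
    · norm_num at h3
    · exact h1 h3
  have hcount : ∀ m : ℤ, (∀ χ : B, m ≤ q χ) → m * (Nat.card B : ℤ) ≤ ∑ χ : B, q χ := by
    intro m hm
    rw [Nat.card_eq_fintype_card, ← Finset.card_univ, mul_comm, ← nsmul_eq_mul]
    exact Finset.card_nsmul_le_sum _ _ _ fun χ _ => hm χ
  by_cases h5 : blockRank 2 b = 5
  · have h1 := hcount 5 fun χ => (hval (z χ) (hqpos χ)).2 h5
    rw [hqsum, h5] at h1
    push_cast at h1
    omega
  · have h1 := hcount 4 fun χ => (hval (z χ) (hqpos χ)).1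
    rw [hqsum] at h1
    omega

end Cfsg.Agent.H617.BoundFive
end

-- part: H617/OddActRank
section
/-!
# The odd action lemma for abelian 2-groups of rank at most five
-/

set_option autoImplicit false
set_option linter.unusedSectionVars false

namespace Cfsg.Agent.H617.OddActRank

open Cfsg.Agent.H809.OddAct

variable {V : Type*} [CommGroup V] [Finite V]

theorem pow_fix {s : MulAut V} {y : V} (h : s y = y) (n : ℕ) : (s ^ n) y = y := by
  induction n with
  | zero => rfl
  | succ n ih => rw [pow_succ, MulAut.mul_apply, h, ih]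

/-- The telescope. -/
theorem pow_comm (s : MulAut V) (x : V) (h : s (x⁻¹ * s x) = x⁻¹ * s x) (n : ℕ) :
    (s ^ n) x = x * (x⁻¹ * s x) ^ n := by
  induction n with
  | zero => simp
  | succ n ih =>
    have h1 : s x = x * (x⁻¹ * s x) := by group
    calc (s ^ (n + 1)) x = (s ^ n) (s x) := by rw [pow_succ, MulAut.mul_apply]
      _ = (s ^ n) (x * (x⁻¹ * s x)) := by rw [← h1]
      _ = (s ^ n) x * (x⁻¹ * s x) := by rw [map_mul, pow_fix h]
      _ = _ := by rw [ih, pow_succ]; group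

theorem eq_one_of_odd_pow (hV : IsPGroup 2 V) {y : V} {n : ℕ} (hn : Odd n) (h : y ^ n = 1) :
    y = 1 := by
  obtain ⟨k, hk⟩ := (IsPGroup.iff_orderOf.1 hV) y
  have h1 : orderOf y ∣ n := orderOf_dvd_of_pow_eq_one h
  rw [hk] at h1
  have h2 : Nat.Coprime (2 ^ k) n := by
    apply Nat.Coprime.pow_left
    exact (Nat.coprime_two_left).2 hn
  have h3 := Nat.Coprime.eq_one_of_dvd h2 h1
  rw [h3] at hk
  exact orderOf_eq_one_iff.1 hk

theorem fix_of_comm (hV : IsPGroup 2 V) {s : MulAut V} {n : ℕ} (hn : Odd n) (hs : s ^ n = 1)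
    {x : V} (h : s (x⁻¹ * s x) = x⁻¹ * s x) : x⁻¹ * s x = 1 := by
  have h1 := pow_comm s x h n
  rw [hs, MulAut.one_apply] at h1
  have h2 : (x⁻¹ * s x) ^ n = 1 := by
    have h3 : x * 1 = x * (x⁻¹ * s x) ^ n := by rw [mul_one]; exact h1
    exact (mul_left_cancel h3).symm
  exact eq_one_of_odd_pow hV hn h2

/-- The commutator map. -/
def cm (s : MulAut V) : V →* V :=
  MonoidHom.mk' (fun x => x⁻¹ * s x) (fun a b => by
    rw [map_mul, mul_inv]
    exact mul_mul_mul_comm _ _ _ _)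

theorem cm_apply (s : MulAut V) (x : V) : cm s x = x⁻¹ * s x := rfl

theorem range_disj (hV : IsPGroup 2 V) {s : MulAut V} {n : ℕ} (hn : Odd n) (hs : s ^ n = 1)
    {y : V} (hy : y ∈ (cm s).range) (hf : s y = y) : y = 1 := by
  obtain ⟨x, rfl⟩ := hy
  exact fix_of_comm hV hn hs hf

/-- A square of order two in the cyclic group of an element of order at least four. -/
theorem exists_sq (hV : IsPGroup 2 V) {K : Subgroup V} {y : V} (hy : y ∈ K) (hyy : y * y ≠ 1) :
    ∃ w ∈ K, w * w ≠ 1 ∧ (w * w) * (w * w) = 1 := by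
  obtain ⟨k, hk⟩ := (IsPGroup.iff_orderOf.1 hV) y
  have hk2 : 2 ≤ k := by
    by_contra hlt
    have h1 : k ≤ 1 := by omega
    have h2 : orderOf y ∣ 2 := by
      rw [hk]
      exact (pow_dvd_pow 2 h1).trans (by norm_num)
    exact hyy (by rw [← pow_two]; exact orderOf_dvd_iff_pow_eq_one.1 h2)
  have e1 : (y ^ 2 ^ (k - 2)) * (y ^ 2 ^ (k - 2)) = y ^ 2 ^ (k - 1) := by
    rw [← pow_add]
    congr 1
    have : k - 1 = (k - 2) + 1 := by omega
    rw [this, pow_succ]
    ring
  refine ⟨y ^ 2 ^ (k - 2), K.pow_mem hy _, ?_, ?_⟩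
  · rw [e1]
    intro h
    have h1 := orderOf_dvd_of_pow_eq_one h
    rw [hk, Nat.pow_dvd_pow_iff_le_right (by norm_num)] at h1
    omega
  · rw [e1, ← pow_add, ← two_mul, ← pow_succ']
    have : k - 1 + 1 = k := by omega
    rw [this, ← hk, pow_orderOf_eq_one]

/-- The elements of order at most two. -/
def Om (V : Type*) [CommGroup V] : Subgroup V where
  carrier := {x | x * x = 1}
  one_mem' := mul_one 1
  mul_mem' := by
    rintro a b (ha : a * a = 1) (hb : b * b = 1)
    change a * b * (a * b) = 1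
    rw [mul_mul_mul_comm, ha, hb, mul_one]
  inv_mem' := by
    rintro a (ha : a * a = 1)
    change a⁻¹ * a⁻¹ = 1
    rw [← mul_inv, ha, inv_one]

omit [Finite V] in
theorem mem_Om {x : V} : x ∈ Om V ↔ x * x = 1 := Iff.rfl

omit [Finite V] in
theorem apply_mem_Om (s : MulAut V) {x : V} (hx : x ∈ Om V) : s x ∈ Om V := by
  rw [mem_Om] at hx ⊢
  rw [← map_mul, hx, map_one]

/-- Restriction to the elements of order at most two. -/
def res (V : Type*) [CommGroup V] : MulAut V →* MulAut (Om V) where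
  toFun s :=
    { toFun := fun x => ⟨s x, apply_mem_Om s x.2⟩
      invFun := fun x => ⟨s⁻¹ x, apply_mem_Om s⁻¹ x.2⟩
      left_inv := fun x => Subtype.ext (MulAut.inv_apply_self V s x)
      right_inv := fun x => Subtype.ext (MulAut.apply_inv_self V s x)
      map_mul' := fun x y => Subtype.ext (map_mul s (x : V) y) }
  map_one' := rfl
  map_mul' _ _ := rfl

omit [Finite V] in
theorem res_apply (s : MulAut V) (x : Om V) : ((res V s x : Om V) : V) = s x := rfl

/-- A coprime automorphism is faithful on the elements of order at most two. -/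
theorem eq_one_of_res (hV : IsPGroup 2 V) {s : MulAut V} {n : ℕ} (hn : Odd n) (hs : s ^ n = 1)
    (h : res V s = 1) : s = 1 := by
  ext x
  rw [MulAut.one_apply]
  by_contra hx
  have hy : (x⁻¹ * s x) ∈ (cm s).range := ⟨x, rfl⟩
  have hy1 : x⁻¹ * s x ≠ 1 := by
    intro h1
    exact hx (by rw [inv_mul_eq_one] at h1; exact h1.symm)
  have hfix : ∀ v ∈ (cm s).range, v * v = 1 → v = 1 := by
    intro v hv hvv
    refine range_disj hV hn hs hv ?_
    have h1 := res_apply s (⟨v, hvv⟩ : Om V)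
    rw [h, MulAut.one_apply] at h1
    exact h1.symm
  by_cases hyy : (x⁻¹ * s x) * (x⁻¹ * s x) = 1
  · exact hy1 (hfix _ hy hyy)
  · obtain ⟨w, hw, hw1, hw2⟩ := exists_sq hV hy hyy
    exact hw1 (hfix _ ((cm s).range.mul_mem hw hw) hw2)

omit [Finite V] in
theorem mem_St' {A : Subgroup (MulAut V)} {u : V} {s : MulAut V} :
    s ∈ St A u ↔ s ∈ A ∧ s u = u := Iff.rfl

omit [Finite V] in
theorem zpow_fix {s : MulAut V} {x : V} (h : s x = x) (n : ℤ) : (s ^ n) x = x := by
  have h1 : s ∈ MulAction.stabilizer (MulAut V) x := h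
  exact (MulAction.stabilizer (MulAut V) x).zpow_mem h1 n

omit [Finite V] in
theorem fix_of_prime {T : Subgroup (MulAut V)} {p : ℕ} (hp : p.Prime) (h : Nat.card T = p)
    {s : MulAut V} (hs : s ∈ T) (hs1 : s ≠ 1) {x : V} (hx : s x = x) : ∀ t ∈ T, t x = x := by
  intro t ht
  have hF : Fact p.Prime := ⟨hp⟩
  have h1 : (⟨t, ht⟩ : T) ∈ Subgroup.zpowers (⟨s, hs⟩ : T) :=
    mem_zpowers_of_prime_card h fun h2 => hs1 (congrArg Subtype.val h2)
  obtain ⟨n, hn⟩ := h1
  have h2 : s ^ n = t := congrArg Subtype.val hn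
  rw [← h2, zpow_fix hx]

/-- Orders when the commutators are of order at most two. -/
theorem card_fix (hV : IsPGroup 2 V) {σ : MulAut V} (hσ : σ ^ 3 = 1)
    (hR : ∀ y ∈ (cm σ).range, y * y = 1)
    (hW : 4 * Nat.card {x : Om V // σ x = x} = Nat.card (Om V)) :
    4 * Nat.card {x : V // σ x = x} = Nat.card V := by
  classical
  let f : Om V →* V := (cm σ).comp (Om V).subtype
  have hf : ∀ x, f x = (x : V)⁻¹ * σ x := fun _ => rfl
  have hkf : Nat.card f.ker = Nat.card {x : Om V // σ x = x} := by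
    refine Nat.card_congr (Equiv.subtypeEquivRight fun x => ?_)
    rw [MonoidHom.mem_ker, hf, inv_mul_eq_one]
    exact eq_comm
  have hkρ : Nat.card (cm σ).ker = Nat.card {x : V // σ x = x} := by
    refine Nat.card_congr (Equiv.subtypeEquivRight fun x => ?_)
    rw [MonoidHom.mem_ker, cm_apply, inv_mul_eq_one]
    exact eq_comm
  have hfr : Nat.card f.range = 4 := by
    have h1 := Subgroup.card_mul_index f.ker
    rw [Subgroup.index_ker, hkf, ← hW] at h1
    have hpos : 0 < Nat.card {x : Om V // σ x = x} := by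
      have : Nonempty {x : Om V // σ x = x} := ⟨⟨1, map_one σ⟩⟩
      exact Nat.card_pos
    have h2 : Nat.card {x : Om V // σ x = x} * Nat.card f.range =
        Nat.card {x : Om V // σ x = x} * 4 := by rw [h1]; ring
    exact Nat.eq_of_mul_eq_mul_left hpos h2
  have hdisj : ∀ y ∈ (cm σ).range, σ y = y → y = 1 := fun y hy h =>
    range_disj hV (n := 3) (by decide) hσ hy h
  have hrr : (cm σ).range = f.range := by
    apply le_antisymm
    · -- the restriction to the range is injective, hence surjective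
      let g : (cm σ).range → (cm σ).range := fun y => ⟨cm σ y, ⟨y, rfl⟩⟩
      have hg : Function.Injective g := by
        intro y z h
        have h1 : cm σ (y : V) = cm σ z := congrArg Subtype.val h
        have h2 : cm σ ((y : V) * (z : V)⁻¹) = 1 := by rw [map_mul, map_inv, h1, mul_inv_cancel]
        have h3 : ((y : V) * (z : V)⁻¹) = 1 := by
          refine hdisj _ ((cm σ).range.mul_mem y.2 ((cm σ).range.inv_mem z.2)) ?_
          rw [cm_apply, inv_mul_eq_one] at h2
          exact h2.symm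
        exact Subtype.ext (mul_inv_eq_one.1 h3)
      intro y hy
      obtain ⟨z, hz⟩ := (Finite.surjective_of_injective hg) ⟨y, hy⟩
      exact ⟨⟨z, hR z z.2⟩, congrArg Subtype.val hz⟩
    · rintro _ ⟨x, rfl⟩
      exact ⟨x, rfl⟩
  have h1 := Subgroup.card_mul_index (cm σ).ker
  rw [Subgroup.index_ker, hkρ, hrr, hfr] at h1
  rw [← h1, mul_comm]

/-- **Lifting trick**: stabilizers of pairs `(v, y)`, `v` a square, `v` and `y` of order at most
two. -/
theorem exists_lift (A : Subgroup (MulAut V)) (hA : Odd (Nat.card A)) {w u : V}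
    (hw2 : (w * w) * (w * w) = 1) (hu : u * u = 1) :
    ∃ z : V, ∀ s, (s ∈ A ∧ s z = z) ↔ (s ∈ A ∧ s (w * w) = w * w ∧ s u = u) := by
  classical
  set v := w * w with hv
  have := Fintype.ofFinite (St A v)
  set w₀ : V := ∏ s : St A v, (s : MulAut V) w with hw₀
  have hN : Odd (Fintype.card (St A v)) := by
    rw [← Nat.card_eq_fintype_card]
    exact Odd.of_dvd_nat hA (Subgroup.card_dvd_of_le (St_le A v))
  have hw₀2 : w₀ * w₀ = v := by
    rw [hw₀, ← Finset.prod_mul_distrib]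
    have h1 : ∀ s : St A v, (s : MulAut V) w * (s : MulAut V) w = v := by
      intro s
      rw [← map_mul, ← hv, s.2.2]
    rw [Finset.prod_congr rfl fun s _ => h1 s, Finset.prod_const, Finset.card_univ]
    obtain ⟨m, hm⟩ := hN
    rw [hm, pow_succ, pow_mul, pow_two, hw2, one_pow, one_mul]
  have hw₀s : ∀ s ∈ St A v, s w₀ = w₀ := by
    intro s hs
    rw [hw₀, map_prod]
    refine Fintype.prod_equiv (Equiv.mulLeft (⟨s, hs⟩ : St A v)) _ _ fun t => rfl
  refine ⟨w₀ * u, fun s => ⟨?_, ?_⟩⟩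
  · rintro ⟨hs, h⟩
    have h1 : s v = v := by
      have h2 : (w₀ * u) * (w₀ * u) = v := by
        rw [mul_mul_mul_comm, hw₀2, hu, mul_one]
      rw [← h2, map_mul, h]
    refine ⟨hs, h1, ?_⟩
    rw [map_mul, hw₀s s ⟨hs, h1⟩] at h
    exact mul_left_cancel h
  · rintro ⟨hs, h1, h2⟩
    refine ⟨hs, ?_⟩
    rw [map_mul, hw₀s s ⟨hs, h1⟩, h2]

/-- **The odd action lemma** in rank at most five. -/
theorem exists_good_rank (hV : IsPGroup 2 V) (hcard : Nat.card {x : V // x * x = 1} ≤ 32)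
    (A : Subgroup (MulAut V)) (hA : Odd (Nat.card A)) :
    ∃ u : V, ∃ S : Subgroup (MulAut V), (∀ s, s ∈ S ↔ s ∈ A ∧ s u = u) ∧ (Nat.card S = 1 ∨
      (Nat.card S = 3 ∧ 4 * Nat.card {x : V // ∀ s ∈ S, s x = x} = Nat.card V) ∨
      (Nat.card S = 5 ∧ Nat.card V = 32 ∧ (∀ x : V, x * x = 1) ∧ u ≠ 1 ∧
        ∀ x : V, (∀ s ∈ S, s x = x) → x = 1 ∨ x = u)) := by
  classical
  have hpow : ∀ s ∈ A, s ^ Nat.card A = 1 := by
    intro s hs
    have h1 : (⟨s, hs⟩ : A) ^ Nat.card A = 1 := pow_card_eq_one'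
    exact congrArg Subtype.val h1
  have hinj : ∀ s ∈ A, ∀ t ∈ A, res V s = res V t → s = t := by
    intro s hs t ht h
    have h1 : res V (s * t⁻¹) = 1 := by rw [map_mul, map_inv, h, mul_inv_cancel]
    have h2 := eq_one_of_res hV hA (hpow _ (A.mul_mem hs (A.inv_mem ht))) h1
    rwa [mul_inv_eq_one] at h2
  have hWp : IsPGroup 2 (Om V) := hV.to_subgroup _
  have hAW : Odd (Nat.card (A.map (res V))) :=
    Odd.of_dvd_nat hA (Subgroup.card_map_dvd _ (res V))
  obtain ⟨u, S, hS, hc⟩ := exists_good hWp hcard (A.map (res V)) hAW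
  -- the stabilizer upstairs
  have hSeq : (St A (u : V)).map (res V) = S := by
    ext s
    rw [hS, Subgroup.mem_map, Subgroup.mem_map]
    constructor
    · rintro ⟨t, ht, rfl⟩
      exact ⟨⟨t, ht.1, rfl⟩, Subtype.ext ht.2⟩
    · rintro ⟨⟨t, ht, rfl⟩, h⟩
      exact ⟨t, ⟨ht, congrArg Subtype.val h⟩, rfl⟩
  have hScard : Nat.card (St A (u : V)) = Nat.card S := by
    rw [← hSeq]
    refine Nat.card_congr (Equiv.ofBijective (fun s => ⟨res V s.1, ⟨s.1, s.2, rfl⟩⟩) ⟨?_, ?_⟩)
    · intro s t h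
      exact Subtype.ext (hinj _ s.2.1 _ t.2.1 (congrArg Subtype.val h))
    · rintro ⟨_, s, hs, rfl⟩
      exact ⟨⟨s, hs⟩, rfl⟩
  have huu : (u : V) * u = 1 := u.2
  -- a trivial stabilizer from a square
  have hlift : ∀ w : V, (w * w) * (w * w) = 1 → (∀ s ∈ St A (u : V), s (w * w) = w * w → s = 1) →
      ∃ u : V, ∃ S : Subgroup (MulAut V), (∀ s, s ∈ S ↔ s ∈ A ∧ s u = u) ∧ (Nat.card S = 1 ∨
      (Nat.card S = 3 ∧ 4 * Nat.card {x : V // ∀ s ∈ S, s x = x} = Nat.card V) ∨
      (Nat.card S = 5 ∧ Nat.card V = 32 ∧ (∀ x : V, x * x = 1) ∧ u ≠ 1 ∧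
        ∀ x : V, (∀ s ∈ S, s x = x) → x = 1 ∨ x = u)) := by
    intro w hw h
    obtain ⟨z, hz⟩ := exists_lift A hA hw huu
    refine ⟨z, St A z, fun s => Iff.rfl, Or.inl ?_⟩
    rw [Subgroup.card_eq_one, Subgroup.eq_bot_iff_forall]
    intro s hs
    obtain ⟨h1, h2, h3⟩ := (hz s).1 hs
    exact h s ⟨h1, h3⟩ h2
  rcases hc with h1 | ⟨h3, hW⟩ | ⟨h5, h32, hel, hu1, hfix⟩
  · exact ⟨u, St A (u : V), fun s => Iff.rfl, Or.inl (hScard.trans h1)⟩
  · -- order three
    rw [← hScard] at h3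
    have hF3 : Fact (Nat.Prime 3) := ⟨Nat.prime_three⟩
    obtain ⟨σ, hσ, hσ1⟩ : ∃ σ ∈ St A (u : V), σ ≠ 1 := by
      by_contra hno
      push Not at hno
      have h1 : St A (u : V) = ⊥ := (Subgroup.eq_bot_iff_forall _).2 hno
      rw [h1, Subgroup.card_bot] at h3
      norm_num at h3
    have hσ3 : σ ^ 3 = 1 := by
      have h1 : (⟨σ, hσ⟩ : St A (u : V)) ^ Nat.card (St A (u : V)) = 1 := pow_card_eq_one'
      rw [h3] at h1
      exact congrArg Subtype.val h1
    by_cases hex : ∃ y ∈ (cm σ).range, y * y ≠ 1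
    · obtain ⟨y, hy, hyy⟩ := hex
      obtain ⟨w, hw, hw1, hw2⟩ := exists_sq hV hy hyy
      refine hlift w hw2 fun s hs hsw => ?_
      by_contra hs1
      have h1 := fix_of_prime Nat.prime_three h3 hs hs1 hsw σ hσ
      exact hw1 (range_disj hV (n := 3) (by decide) hσ3 ((cm σ).range.mul_mem hw hw) h1)
    · push Not at hex
      refine ⟨u, St A (u : V), fun s => Iff.rfl, Or.inr (Or.inl ⟨h3, ?_⟩)⟩
      have hall : ∀ x : V, (∀ s ∈ St A (u : V), s x = x) ↔ σ x = x := by
        intro x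
        exact ⟨fun h => h σ hσ, fun h => fix_of_prime Nat.prime_three h3 hσ hσ1 h⟩
      have h4 : Nat.card {x : V // ∀ s ∈ St A (u : V), s x = x} =
          Nat.card {x : V // σ x = x} := Nat.card_congr (Equiv.subtypeEquivRight hall)
      rw [h4]
      refine card_fix hV hσ3 hex ?_
      rw [← hW]
      congr 1
      refine Nat.card_congr (Equiv.subtypeEquivRight fun x => ?_)
      rw [← hSeq]
      constructor
      · rintro h _ ⟨s, hs, rfl⟩
        exact Subtype.ext ((hall x).2 h s hs)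
      · intro h
        exact congrArg Subtype.val (h (res V σ) ⟨σ, hσ, rfl⟩)
  · -- order five
    rw [← hScard] at h5
    have hp5 : Nat.Prime 5 := by norm_num
    have hfix' : ∀ x : V, x * x = 1 → (∀ s ∈ St A (u : V), s x = x) → x = 1 ∨ x = u := by
      intro x hx h
      rcases hfix ⟨x, hx⟩ (fun s hs => by
        rw [← hSeq] at hs
        obtain ⟨t, ht, rfl⟩ := hs
        exact Subtype.ext (h t ht)) with h' | h'
      · exact Or.inl (congrArg Subtype.val h')
      · exact Or.inr (congrArg Subtype.val h')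
    have hu1' : (u : V) ≠ 1 := fun h => hu1 (Subtype.ext h)
    by_cases hVW : ∀ x : V, x * x = 1
    · have h6 : Nat.card V = 32 := by
        rw [← h32]
        exact Nat.card_congr ⟨fun x => ⟨x, hVW x⟩, fun x => x, fun _ => rfl, fun _ => rfl⟩
      exact ⟨u, St A (u : V), fun s => Iff.rfl, Or.inr (Or.inr ⟨h5, h6, hVW, hu1',
        fun x hx => hfix' x (hVW x) hx⟩)⟩
    · push Not at hVW
      obtain ⟨y, hyy⟩ := hVW
      obtain ⟨w, -, hw1, hw2⟩ := exists_sq hV (Subgroup.mem_top y) hyy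
      by_cases hex : ∃ w : V, w * w ≠ 1 ∧ (w * w) * (w * w) = 1 ∧ w * w ≠ u
      · obtain ⟨w, hw1, hw2, hwu⟩ := hex
        refine hlift w hw2 fun s hs hsw => ?_
        by_contra hs1
        rcases hfix' (w * w) hw2 (fix_of_prime hp5 h5 hs hs1 hsw) with h | h
        · exact hw1 h
        · exact hwu h
      · push Not at hex
        have hAu : ∀ s ∈ A, s ∈ St A (u : V) := by
          intro s hs
          refine ⟨hs, ?_⟩
          have e1 := hex w hw1 hw2
          rw [← e1, map_mul, e1]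
          refine hex (s w) ?_ ?_
          · rw [← map_mul]
            intro h
            exact hw1 (by rw [← map_one s] at h; exact s.injective h)
          · rw [← map_mul, ← map_mul, hw2, map_one]
        obtain ⟨x, hx1, hxu⟩ : ∃ x : Om V, x ≠ 1 ∧ x ≠ u := by
          by_contra hno
          push Not at hno
          have h7 : Nat.card (Om V) ≤ 2 := by
            have := Fintype.ofFinite (Om V)
            rw [Nat.card_eq_fintype_card, ← Finset.card_univ]
            refine (Finset.card_le_card (t := {1, u}) fun x _ => ?_).trans Finset.card_le_two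
            rw [Finset.mem_insert, Finset.mem_singleton]
            by_cases hx : x = 1
            · exact Or.inl hx
            · exact Or.inr (hno x hx)
          omega
        refine ⟨x, St A (x : V), fun s => Iff.rfl, Or.inl ?_⟩
        rw [Subgroup.card_eq_one, Subgroup.eq_bot_iff_forall]
        intro s hs
        by_contra hs1
        rcases hfix' x x.2 (fix_of_prime hp5 h5 (hAu s hs.1) hs1 hs.2) with h | h
        · exact hx1 (Subtype.ext h)
        · exact hxu (Subtype.ext h)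

end Cfsg.Agent.H617.OddActRank
end

-- part: H617/BrauerAbTwo
section
/-!
# `k(B) ≤ |D|` for `2`-blocks with abelian defect groups of rank at most five
-/

set_option autoImplicit false
set_option linter.unusedSectionVars false

namespace Cfsg.Agent.H617.BrauerAbTwo

open Cfsg Cfsg.Agent.H617.AbelRank Cfsg.Agent.H617.StarAut Cfsg.Agent.H617.OlssonMain
open Cfsg.Agent.H652.DoubleCount Cfsg.Agent.H645.FusCount

universe u

variable {G : Type u} [Group G] [Finite G] {M : Ideal AlgInt}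

theorem exists_good_group {V : Type u} [inst : Group V] [Finite V]
    (hab : ∀ x y : V, x * y = y * x) (hV : IsPGroup 2 V)
    (hcard : Nat.card {x : V // x * x = 1} ≤ 32)
    (A : Subgroup (MulAut V)) (hA : Odd (Nat.card A)) :
    ∃ u : V, ∃ S : Subgroup (MulAut V), (∀ s, s ∈ S ↔ s ∈ A ∧ s u = u) ∧
      (Nat.card S = 1 ∨
        (Nat.card S = 3 ∧ 4 * Nat.card {x : V // ∀ s ∈ S, s x = x} = Nat.card V) ∨
        (Nat.card S = 5 ∧ Nat.card V = 32 ∧ (∀ x : V, x * x = 1) ∧ u ≠ 1 ∧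
          ∀ x : V, (∀ s ∈ S, s x = x) → x = 1 ∨ x = u)) := by
  obtain ⟨C, hC⟩ : ∃ C : CommGroup V, C.toGroup = inst :=
    ⟨{ inst with mul_comm := hab }, rfl⟩
  subst hC
  exact Cfsg.Agent.H617.OddActRank.exists_good_rank hV hcard A hA

/-- **Brauer's bound** for abelian defect groups of rank at most five. -/
theorem card_le_of_rank_five (hM : IsPModular 2 M) {B : Set (IrrCharacter G)}
    {a : BrauerPairIdx G} (hmax : IsMaximalBrauerPair 2 M B a.1 a.2)
    (hab : ∀ x ∈ a.1, ∀ y ∈ a.1, x * y = y * x)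
    (hcard : Nat.card {x : a.1 // x * x = 1} ≤ 32) :
    Nat.card B ≤ Nat.card a.1 := by
  have hp2 : Fact (Nat.Prime 2) := ⟨Nat.prime_two⟩
  have := Fintype.ofFinite G
  have := Cfsg.Agent.Blocks.Local.isPrime_of_isPModular hM
  have hA : Odd (Nat.card (autG a)) := by
    have h1 := not_dvd_card_autG hM hmax hab
    rw [← Nat.not_even_iff_odd, even_iff_two_dvd]
    exact h1
  obtain ⟨u, S, hS, hc⟩ := exists_good_group (fun x y => Subtype.ext (hab x x.2 y y.2))
    hmax.1.1.1 hcard (autG a) hA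
  have hrel := relIndex_inf hM hmax hab u.2 S hS
  rcases hc with h1 | ⟨h3, hW⟩ | ⟨h5, h32, hel, hu1, hfix⟩
  · -- regular orbit
    rw [h1, Subgroup.relIndex_eq_one] at hrel
    refine card_le_of_rank hM hmax hab u.2 ?_
    rw [rank_one_at hM hmax hab u.2 ?_]
    · norm_num
    · intro t ht htu x hx
      have h2 : t ∈ stab a ⊓ Subgroup.centralizer ({(u : G)} : Set G) := by
        refine Subgroup.mem_inf.2 ⟨ht, Subgroup.mem_centralizer_singleton_iff.2 ?_⟩
        calc t * (u : G) = t * u * t⁻¹ * t := by group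
          _ = u * t := by rw [htu]
      have h3 := Subgroup.mem_centralizer_iff.1 (hrel h2) x hx
      rw [← h3]
      group
  · -- order three
    refine card_le_of_rank hM hmax hab u.2 ?_
    refine rank_le_three hM hmax hab u.2 (hrel.trans h3) ?_
    rw [← hW]
    congr 1
    refine Nat.card_congr
      { toFun := fun w => ⟨⟨w.1, w.2.1⟩, fun s hs => ?_⟩
        invFun := fun x => ⟨x.1, x.1.2, fun t ht htu => ?_⟩
        left_inv := fun _ => rfl
        right_inv := fun _ => rfl }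
    · obtain ⟨t, ht, hst⟩ := (mem_autG hM hmax hab).1 ((hS s).1 hs).1
      apply Subtype.ext
      rw [hst]
      refine w.2.2 t ht ?_
      rw [← hst, ((hS s).1 hs).2]
    · obtain ⟨α, hα, h⟩ := exists_autG hM hmax hab ht
      rw [← h, x.2 α ((hS α).2 ⟨hα, Subtype.ext (by rw [h, htu])⟩)]
  · rw [h32]
    refine Cfsg.Agent.H617.BoundFive.card_le_five hM hmax
      (fun x hx => congrArg Subtype.val (hel ⟨x, hx⟩)) h32 u.2 (fun h => hu1 (Subtype.ext h))
      (hrel.trans h5) ?_
    intro w hw h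
    rcases hfix ⟨w, hw⟩ (fun s hs => by
      obtain ⟨t, ht, hst⟩ := (mem_autG hM hmax hab).1 ((hS s).1 hs).1
      apply Subtype.ext
      rw [hst]
      refine h t ht ?_
      rw [← hst, ((hS s).1 hs).2]) with h' | h'
    · exact Or.inl (congrArg Subtype.val h')
    · exact Or.inr (congrArg Subtype.val h')

/-- The elements of order at most two, for a cyclic subgroup of small index. -/
theorem card_sq_le {D : Subgroup G} (hab : ∀ x ∈ D, ∀ y ∈ D, x * y = y * x) {Z : Subgroup G}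
    (hZD : Z ≤ D) (hcyc : IsCyclic Z) {n : ℕ} (hidx : Z.relIndex D ≤ n) :
    Nat.card {x : D // x * x = 1} ≤ 2 * n := by
  classical
  let C : CommGroup D := { (inferInstance : Group D) with
    mul_comm := fun x y => Subtype.ext (hab x x.2 y y.2) }
  let Om : Subgroup D :=
    { carrier := {x | x * x = 1}
      one_mem' := mul_one 1
      mul_mem' := by
        rintro a b (ha : a * a = 1) (hb : b * b = 1)
        change a * b * (a * b) = 1
        have hc : ∀ x y : D, x * y = y * x := fun x y => Subtype.ext (hab x x.2 y y.2)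
        calc a * b * (a * b) = a * (b * a) * b := by group
          _ = a * (a * b) * b := by rw [hc b a]
          _ = (a * a) * (b * b) := by group
          _ = 1 := by rw [ha, hb, mul_one]
      inv_mem' := by
        rintro a (ha : a * a = 1)
        change a⁻¹ * a⁻¹ = 1
        rw [← mul_inv_rev, ha, inv_one] }
  have hOm : Nat.card {x : D // x * x = 1} = Nat.card Om := rfl
  rw [hOm]
  have h1 : Nat.card (Z.subgroupOf D ⊓ Om : Subgroup D) * (Z.subgroupOf D).relIndex Om =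
      Nat.card Om := by
    have h2 := Subgroup.card_mul_index ((Z.subgroupOf D).subgroupOf Om)
    have h3 : Nat.card ((Z.subgroupOf D).subgroupOf Om) =
        Nat.card (Z.subgroupOf D ⊓ Om : Subgroup D) := by
      rw [← Subgroup.inf_subgroupOf_right]
      exact Nat.card_congr (Subgroup.subgroupOfEquivOfLe inf_le_right).toEquiv
    rw [h3] at h2
    exact h2
  have h2 : (Z.subgroupOf D).relIndex Om ≤ n := by
    refine le_trans ?_ hidx
    have h3 : Z.relIndex D = (Z.subgroupOf D).relIndex ⊤ := by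
      rw [Subgroup.relIndex_top_right]
      rfl
    rw [h3]
    refine Subgroup.relIndex_le_of_le_right le_top ?_
    rw [Subgroup.relIndex_top_right]
    exact Subgroup.index_ne_zero_of_finite
  have h3 : Nat.card (Z.subgroupOf D ⊓ Om : Subgroup D) ≤ 2 := by
    have hcyc' : IsCyclic (Z.subgroupOf D) :=
      isCyclic_of_surjective (Subgroup.subgroupOfEquivOfLe hZD).symm.toMonoidHom
        (Subgroup.subgroupOfEquivOfLe hZD).symm.surjective
    have := Fintype.ofFinite (Z.subgroupOf D)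
    have h4 := IsCyclic.card_pow_eq_one_le (α := Z.subgroupOf D) (n := 2) (by norm_num)
    refine le_trans ?_ h4
    rw [← Fintype.card_subtype, ← Nat.card_eq_fintype_card]
    refine Nat.card_le_card_of_injective
      (fun x : (Z.subgroupOf D ⊓ Om : Subgroup D) =>
        (⟨⟨x.1, x.2.1⟩, Subtype.ext (by
          have : (x : D) * x = 1 := x.2.2
          rw [pow_two]
          exact this)⟩ : {y : Z.subgroupOf D // y ^ 2 = 1})) ?_
    intro x y h
    exact Subtype.ext (congrArg (fun z => ((z.1 : Z.subgroupOf D) : D)) h)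
  rw [← h1]
  exact Nat.mul_le_mul h3 h2

/-- **Package G**. -/
theorem card_le_abelian_two (hM : IsPModular 2 M) {B : Set (IrrCharacter G)}
    {a : BrauerPairIdx G} (hmax : IsMaximalBrauerPair 2 M B a.1 a.2)
    (hab : ∀ x ∈ a.1, ∀ y ∈ a.1, x * y = y * x) {Z : Subgroup G} (hZ : Z ≤ a.1)
    (hcyc : IsCyclic Z) (hidx : Z.relIndex a.1 ≤ 16) : Nat.card B ≤ Nat.card a.1 :=
  card_le_of_rank_five hM hmax hab (card_sq_le hab hZ hcyc hidx)

end Cfsg.Agent.H617.BrauerAbTwo
end

-- part: H624/PkgG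
section
/-!
# Package G of S4542
-/

set_option autoImplicit false

open Cfsg

namespace Cfsg.Agent.H624.PkgGProof

universe u

theorem pkgG {M : Ideal AlgInt} (hM : IsPModular 2 M) : AsmMain.PkgG.{u} M := by
  intro G _ _ B D hB hD hab Z hZ hcyc hidx
  have hp : Fact (Nat.Prime 2) := ⟨Nat.prime_two⟩
  have hMp := Cfsg.Agent.Blocks.Local.isPrime_of_isPModular hM
  obtain ⟨e, he⟩ := Cfsg.Agent.H649.exists_pair_of_isDefectGroup hM hB hD
  have hmax := Cfsg.Agent.H644.isMaximalBrauerPair_of_isDefectGroup hM he hD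
  exact Cfsg.Agent.H617.BrauerAbTwo.card_le_abelian_two hM (a := ⟨D, e⟩) hmax hab hZ hcyc hidx

end Cfsg.Agent.H624.PkgGProof
end

-- part: H618/PkgE
section
/-!
# Package E of the assembly of Brauer's bound
-/

set_option autoImplicit false

open Cfsg

namespace Cfsg.Agent.H618.PkgE

universe u

theorem pkgE {M : Ideal AlgInt} (hM : IsPModular 2 M) : Cfsg.Agent.H624.AsmMain.PkgE.{u} M := by
  intro G _ _ B a hmax hcard hel hidx
  have := Fintype.ofFinite G
  have := Cfsg.Agent.Blocks.Local.isPrime_of_isPModular hM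
  exact Cfsg.Agent.H618.FormNine.formBd_nine hM hmax hcard hel hidx

end Cfsg.Agent.H618.PkgE
end

-- part: H699/ThreeAct
section
/-!
# Groups of order prime to three acting on abelian 3-groups with a cyclic subgroup of index nine

* `core`: an invariant elementary abelian subgroup of order nine with cyclic quotient gives an element
  with trivial stabilizer or stabilizer generated by a reflection.
-/

set_option autoImplicit false
set_option linter.unusedSectionVars false

namespace Cfsg.Agent.H699.ThreeAct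

open Subgroup

variable {V : Type*} [CommGroup V] [Finite V]

/-- the stabilizer of `u` in `A` -/
def Stb (A : Subgroup (MulAut V)) (u : V) : Subgroup (MulAut V) where
  carrier := {s | s ∈ A ∧ s u = u}
  one_mem' := ⟨A.one_mem, rfl⟩
  mul_mem' := by
    rintro a b ⟨ha, ha'⟩ ⟨hb, hb'⟩
    exact ⟨A.mul_mem ha hb, by rw [MulAut.mul_apply, hb', ha']⟩
  inv_mem' := by
    rintro a ⟨ha, ha'⟩
    refine ⟨A.inv_mem ha, ?_⟩
    conv_lhs => rw [← ha']
    exact MulAut.inv_apply_self V a u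

theorem mem_Stb {A : Subgroup (MulAut V)} {u : V} {s : MulAut V} : s ∈ Stb A u ↔ s ∈ A ∧ s u = u :=
  Iff.rfl

/-- The conclusion. -/
def Good (A : Subgroup (MulAut V)) : Prop :=
  ∃ v : V, Stb A v = ⊥ ∨ (Nat.card (Stb A v) = 2 ∧
    3 * Nat.card {x : V // ∀ s ∈ Stb A v, s x = x} = Nat.card V)

theorem eq_one_of_pow (hV : IsPGroup 3 V) {m : ℕ} (hm : ¬ 3 ∣ m) {c : V} (h : c ^ m = 1) : c = 1 := by
  obtain ⟨k, hk⟩ := hV c
  have h1 : orderOf c ∣ m := orderOf_dvd_of_pow_eq_one h
  have h2 : orderOf c ∣ 3 ^ k := orderOf_dvd_of_pow_eq_one hk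
  obtain ⟨j, -, hj⟩ := (Nat.dvd_prime_pow Nat.prime_three).1 h2
  rcases Nat.eq_zero_or_pos j with rfl | hj0
  · rw [pow_zero, orderOf_eq_one_iff] at hj
    exact hj
  · exfalso
    rw [hj] at h1
    exact hm ((dvd_pow_self 3 hj0.ne').trans h1)

instance instFiniteMulAut : Finite (MulAut V) :=
  Finite.of_injective (fun a : MulAut V => (a : V → V)) fun _ _ h => MulEquiv.ext (congrFun h)

/-- An automorphism trivial on `W` and on `V/W` is trivial. -/
theorem eq_one_of_triv (hV : IsPGroup 3 V) {A : Subgroup (MulAut V)} (hA : ¬ 3 ∣ Nat.card A)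
    {a : MulAut V} (ha : a ∈ A) (W : Subgroup V) (h1 : ∀ w ∈ W, a w = w)
    (h2 : ∀ x, a x * x⁻¹ ∈ W) : a = 1 := by
  ext x
  have h3 : ∀ n : ℕ, (a ^ n) x = (a x * x⁻¹) ^ n * x := by
    intro n
    induction n with
    | zero => simp
    | succ n ih =>
      rw [pow_succ', MulAut.mul_apply, ih, map_mul, map_pow, h1 _ (h2 x), pow_succ]
      group
  have h4 : a ^ Nat.card A = 1 := by
    have := pow_card_eq_one' (x := (⟨a, ha⟩ : A))
    exact congrArg Subtype.val this
  have h5 := h3 (Nat.card A)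
  rw [h4, MulAut.one_apply] at h5
  have h6 : (a x * x⁻¹) ^ Nat.card A = 1 := by
    exact (right_eq_mul.1 h5)
  have h7 := eq_one_of_pow hV hA h6
  rw [MulAut.one_apply]
  exact mul_inv_eq_one.1 h7

/-- Lifting of fixed points. -/
theorem exists_lift (hV : IsPGroup 3 V) {B : Subgroup (MulAut V)} (hB : ¬ 3 ∣ Nat.card B)
    (W : Subgroup V) (h2 : ∀ b ∈ B, ∀ x, b x * x⁻¹ ∈ W) (x : V) :
    ∃ z, z * x⁻¹ ∈ W ∧ ∀ b ∈ B, b z = z := by
  classical
  have := Fintype.ofFinite B
  set y : V := ∏ b : B, (b : MulAut V) x with hy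
  have hyfix : ∀ b ∈ B, b y = y := by
    intro c hc
    rw [hy, map_prod]
    refine Fintype.prod_equiv (Equiv.mulLeft (⟨c, hc⟩ : B)) _ _ fun b => ?_
    rfl
  have hyW : y * (x ^ Nat.card B)⁻¹ ∈ W := by
    have : y * (x ^ Nat.card B)⁻¹ = ∏ b : B, ((b : MulAut V) x * x⁻¹) := by
      rw [Finset.prod_mul_distrib, Finset.prod_const, Finset.card_univ, Nat.card_eq_fintype_card,
        inv_pow]
    rw [this]
    exact W.prod_mem fun b _ => h2 b b.2 x
  obtain ⟨n, hn⟩ := hV.exists_card_eq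
  have hcop : IsCoprime (Nat.card B : ℤ) (Nat.card V : ℤ) := by
    rw [Nat.isCoprime_iff_coprime, hn]
    exact Nat.Coprime.pow_right _ ((Nat.Prime.coprime_iff_not_dvd Nat.prime_three).2 hB).symm
  obtain ⟨a, b, hab⟩ := hcop
  refine ⟨y ^ a, ?_, fun c hc => by rw [map_zpow, hyfix c hc]⟩
  have hx : x = (x ^ Nat.card B) ^ a := by
    conv_lhs => rw [← zpow_one x, ← hab, zpow_add]
    rw [mul_comm b, zpow_mul x (Nat.card V : ℤ) b, zpow_natCast, pow_card_eq_one', one_zpow, mul_one,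
      mul_comm a, zpow_mul, zpow_natCast]
  have h3 : y ^ a * x⁻¹ = (y * (x ^ Nat.card B)⁻¹) ^ a := by
    conv_lhs => rw [hx]
    rw [mul_zpow, inv_zpow]
  rw [h3]
  exact W.zpow_mem hyW a

theorem exists_ne_one_of_ne_bot {G : Type*} [Group G] {H : Subgroup G} (h : H ≠ ⊥) : ∃ x ∈ H, x ≠ 1 := by
  by_contra hcon
  push Not at hcon
  exact h ((Subgroup.eq_bot_iff_forall H).2 hcon)

/-- In a group of order three two nontrivial elements are equal or inverse. -/
theorem eq_or_inv_of_card_three {Q : Type*} [Group Q] (hQ : Nat.card Q = 3) {q r : Q} (hq : q ≠ 1)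
    (hr : r ≠ 1) : r = q ∨ r * q = 1 := by
  have : Fact (Nat.Prime 3) := ⟨Nat.prime_three⟩
  have h1 : r ∈ Submonoid.powers q := mem_powers_of_prime_card hQ hq
  have h3 : q ^ 3 = 1 := by rw [← hQ]; exact pow_card_eq_one'
  obtain ⟨n, rfl⟩ := h1
  have h2 : q ^ n = q ^ (n % 3) := by
    conv_lhs => rw [← Nat.div_add_mod n 3, pow_add, pow_mul, h3, one_pow, one_mul]
  simp only at hr ⊢
  rw [h2] at hr ⊢
  have h4 : n % 3 < 3 := Nat.mod_lt _ (by norm_num)
  interval_cases n % 3
  · exact absurd (pow_zero q) hr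
  · exact Or.inl (pow_one q)
  · right
    rw [← pow_succ, h3]

/-- the fixed points of the stabilizer -/
def fixSub (A : Subgroup (MulAut V)) (v : V) : Subgroup V where
  carrier := {x | ∀ s ∈ Stb A v, s x = x}
  one_mem' := fun s _ => map_one s
  mul_mem' := by
    intro a b ha hb s hs
    rw [map_mul, ha s hs, hb s hs]
  inv_mem' := by
    intro a ha s hs
    rw [map_inv, ha s hs]

theorem mem_fixSub {A : Subgroup (MulAut V)} {v x : V} : x ∈ fixSub A v ↔ ∀ s ∈ Stb A v, s x = x :=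
  Iff.rfl

theorem good_of_index (hV : IsPGroup 3 V) {A : Subgroup (MulAut V)} (hA : ¬ 3 ∣ Nat.card A) {v : V}
    (hidx : (fixSub A v).index ∣ 3) : Good A := by
  classical
  refine ⟨v, ?_⟩
  by_cases hbot : Stb A v = ⊥
  · exact Or.inl hbot
  right
  obtain ⟨s0, hs0, hs01⟩ := exists_ne_one_of_ne_bot hbot
  set F := fixSub A v with hF
  have h3 : F.index = 3 := by
    rcases (Nat.dvd_prime Nat.prime_three).1 hidx with h | h
    · exfalso
      rw [Subgroup.index_eq_one] at h
      apply hs01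
      ext x
      have : x ∈ F := by rw [h]; trivial
      exact this s0 hs0
    · exact h
  have hcardF : 3 * Nat.card F = Nat.card V := by
    rw [← h3, mul_comm]; exact F.card_mul_index
  have hQ : Nat.card (V ⧸ F) = 3 := h3
  -- an element outside `F`
  obtain ⟨y, hy⟩ : ∃ y, y ∉ F := by
    by_contra hcon
    push Not at hcon
    have : F = ⊤ := by
      rw [eq_top_iff]; intro x _; exact hcon x
    rw [this, Subgroup.index_top] at h3
    omega
  have hyq : (QuotientGroup.mk y : V ⧸ F) ≠ 1 := by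
    intro h
    exact hy ((QuotientGroup.eq_one_iff y).1 h)
  have hgenF : ∀ x : V, ∃ n : ℤ, x * (y ^ n)⁻¹ ∈ F := by
    intro x
    have : Fact (Nat.Prime 3) := ⟨Nat.prime_three⟩
    have h1 : (QuotientGroup.mk x : V ⧸ F) ∈ Subgroup.zpowers (QuotientGroup.mk y : V ⧸ F) :=
      mem_zpowers_of_prime_card hQ hyq
    obtain ⟨n, hn⟩ := h1
    refine ⟨n, ?_⟩
    rw [← QuotientGroup.eq_one_iff]
    simp only at hn
    rw [QuotientGroup.mk_mul, QuotientGroup.mk_inv, QuotientGroup.mk_zpow, hn, mul_inv_cancel]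
  -- an element of the stabilizer acting trivially on `V / F` is trivial
  have key : ∀ s ∈ Stb A v, s y * y⁻¹ ∈ F → s = 1 := by
    intro s hs h
    refine eq_one_of_triv hV hA hs.1 F (fun w hw => hw s hs) fun x => ?_
    obtain ⟨n, hn⟩ := hgenF x
    have h1 : s x * x⁻¹ = (s y * y⁻¹) ^ n := by
      have h2 := hn s hs
      rw [map_mul, map_inv, map_zpow] at h2
      have h4 : s x = x * (y ^ n)⁻¹ * (s y) ^ n := by
        rw [← h2]; group
      rw [h4, mul_zpow, inv_zpow]
      calc x * (y ^ n)⁻¹ * s y ^ n * x⁻¹ = (x * x⁻¹) * (s y ^ n * (y ^ n)⁻¹) := by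
            simp only [mul_assoc, mul_comm, mul_left_comm]
        _ = _ := by rw [mul_inv_cancel, one_mul]
    rw [h1]
    exact F.zpow_mem h n
  have key2 : ∀ s ∈ Stb A v, s ≠ 1 → s y * y ∈ F := by
    intro s hs hs1
    have hsy : s y ∉ F := by
      intro h
      have h1 := h s⁻¹ ((Stb A v).inv_mem hs)
      rw [MulAut.inv_apply_self] at h1
      rw [← h1] at h
      exact hy h
    have hsyq : (QuotientGroup.mk (s y) : V ⧸ F) ≠ 1 := by
      intro h
      exact hsy ((QuotientGroup.eq_one_iff _).1 h)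
    rcases eq_or_inv_of_card_three hQ hyq hsyq with h | h
    · exfalso
      apply hs1
      apply key s hs
      rw [← QuotientGroup.eq_one_iff, QuotientGroup.mk_mul, QuotientGroup.mk_inv, h, mul_inv_cancel]
    · rw [← QuotientGroup.eq_one_iff, QuotientGroup.mk_mul, h]
  have key3 : ∀ s ∈ Stb A v, s ≠ 1 → ∀ t ∈ Stb A v, t ≠ 1 → s * t = 1 := by
    intro s hs hs1 t ht ht1
    have h1 := key2 s hs hs1
    have h2 := key2 t ht ht1
    refine key (s * t) ((Stb A v).mul_mem hs ht) ?_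
    have h3 : s (t y * y) = t y * y := h2 s hs
    rw [map_mul] at h3
    rw [MulAut.mul_apply]
    have h4 : s (t y) * y⁻¹ = (t y * y) * (s y * y)⁻¹ := by
      rw [← h3]
      rw [mul_inv_rev]
      calc s (t y) * y⁻¹ = s (t y) * (s y * (s y)⁻¹) * y⁻¹ := by rw [mul_inv_cancel, mul_one]
        _ = _ := by simp only [mul_assoc, mul_comm, mul_left_comm]
    rw [h4]
    exact F.mul_mem h2 (F.inv_mem h1)
  refine ⟨?_, ?_⟩
  · have hset : ((Stb A v : Subgroup (MulAut V)) : Set (MulAut V)) = {1, s0} := by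
      ext t
      simp only [SetLike.mem_coe, Set.mem_insert_iff, Set.mem_singleton_iff]
      constructor
      · intro ht
        by_cases ht1 : t = 1
        · exact Or.inl ht1
        · right
          have h1 := key3 s0 hs0 hs01 s0 hs0 hs01
          have h2 := key3 s0 hs0 hs01 t ht ht1
          rw [← h1] at h2
          exact mul_left_cancel h2
      · rintro (rfl | rfl)
        · exact (Stb A v).one_mem
        · exact hs0
    have h1 : Nat.card (Stb A v) = Nat.card ((Stb A v : Subgroup (MulAut V)) : Set (MulAut V)) := rfl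
    rw [h1, hset, Nat.card_coe_set_eq, Set.ncard_pair (Ne.symm hs01)]
  · exact hcardF

/-- The main step. -/
theorem core (hV : IsPGroup 3 V) {A : Subgroup (MulAut V)} (hA : ¬ 3 ∣ Nat.card A) {W : Subgroup V}
    (hinv : ∀ a ∈ A, ∀ w ∈ W, a w ∈ W) (hW9 : Nat.card W = 9) (hW3 : ∀ w ∈ W, w ^ 3 = 1) {x0 : V}
    (hgen : ∀ y, ∃ n : ℤ, y * (x0 ^ n)⁻¹ ∈ W) : Good A := by
  classical
  -- the kernel on `V / W`
  let A1 : Subgroup (MulAut V) :=
    { carrier := {a | a ∈ A ∧ ∀ x, a x * x⁻¹ ∈ W}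
      one_mem' := ⟨A.one_mem, fun x => by simp⟩
      mul_mem' := by
        rintro a b ⟨ha, ha'⟩ ⟨hb, hb'⟩
        refine ⟨A.mul_mem ha hb, fun x => ?_⟩
        have := W.mul_mem (ha' (b x)) (hb' x)
        rwa [mul_assoc, inv_mul_cancel_left, ← MulAut.mul_apply] at this
      inv_mem' := by
        rintro a ⟨ha, ha'⟩
        refine ⟨A.inv_mem ha, fun x => ?_⟩
        have := W.inv_mem (ha' (a⁻¹ x))
        rwa [MulAut.apply_inv_self, mul_inv_rev, inv_inv] at this }
  have hA1le : A1 ≤ A := fun a ha => ha.1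
  have hA1 : ¬ 3 ∣ Nat.card A1 := fun h => hA (h.trans (Subgroup.card_dvd_of_le hA1le))
  obtain ⟨z, hzW, hzfix⟩ := exists_lift hV hA1 W (fun b hb => hb.2) x0
  have hW1 : W ≠ ⊥ := by
    intro h
    rw [h, Subgroup.card_bot] at hW9
    omega
  obtain ⟨w, hw, hw1⟩ := exists_ne_one_of_ne_bot hW1
  have hgenz : ∀ y, ∃ n : ℤ, y * (z ^ n)⁻¹ ∈ W := by
    intro y
    obtain ⟨n, hn⟩ := hgen y
    refine ⟨n, ?_⟩
    have h1 : y * (z ^ n)⁻¹ = (y * (x0 ^ n)⁻¹) * ((z * x0⁻¹) ^ n)⁻¹ := by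
      rw [mul_zpow, mul_inv_rev, inv_zpow, inv_inv, mul_assoc, inv_mul_cancel_left]
    rw [h1]
    exact W.mul_mem hn (W.inv_mem (W.zpow_mem hzW n))
  have hgenv : ∀ y, ∃ n : ℤ, y * ((z * w) ^ n)⁻¹ ∈ W := by
    intro y
    obtain ⟨n, hn⟩ := hgenz y
    refine ⟨n, ?_⟩
    have h1 : y * ((z * w) ^ n)⁻¹ = (y * (z ^ n)⁻¹) * (w ^ n)⁻¹ := by
      rw [mul_zpow, mul_inv_rev, mul_assoc, mul_comm (z ^ n)⁻¹]
    rw [h1]
    exact W.mul_mem hn (W.inv_mem (W.zpow_mem hw n))
  -- stabilizer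
  have hStb : ∀ s ∈ Stb A (z * w), s z = z ∧ s w = w := by
    intro s hs
    have hsA1 : s ∈ A1 := by
      refine ⟨hs.1, fun x => ?_⟩
      obtain ⟨n, hn⟩ := hgenv x
      have h1 : s x * x⁻¹ = s (x * ((z * w) ^ n)⁻¹) * (x * ((z * w) ^ n)⁻¹)⁻¹ := by
        rw [map_mul, map_inv, map_zpow, hs.2, mul_inv_rev, inv_inv, mul_assoc, inv_mul_cancel_left]
      rw [h1]
      exact W.mul_mem (hinv s hs.1 _ hn) (W.inv_mem hn)
    have h1 := hzfix s hsA1
    refine ⟨h1, ?_⟩
    have h2 := hs.2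
    rw [map_mul, h1] at h2
    exact mul_left_cancel h2
  -- an element of `W` outside `⟨w⟩`
  have hwcard : Nat.card (zpowers w) = 3 := by
    rw [Nat.card_zpowers]
    exact orderOf_eq_prime (hW3 w hw) hw1
  have hwW : zpowers w ≤ W := by rwa [Subgroup.zpowers_le]
  obtain ⟨y0, hy0, hy0w⟩ : ∃ y0 ∈ W, y0 ∉ zpowers w := by
    by_contra hcon
    push Not at hcon
    have h1 : W ≤ zpowers w := hcon
    have h2 := Subgroup.card_le_of_le h1
    omega
  have hWle : W ≤ zpowers w ⊔ zpowers y0 := by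
    have h1 : zpowers w ⊔ zpowers y0 ≤ W := sup_le hwW (by rwa [Subgroup.zpowers_le])
    have h2 : Nat.card (zpowers w ⊔ zpowers y0 : Subgroup V) ∣ 9 := by
      rw [← hW9]; exact Subgroup.card_dvd_of_le h1
    have h3 : 3 < Nat.card (zpowers w ⊔ zpowers y0 : Subgroup V) := by
      rw [← hwcard]
      have h4 : zpowers w < zpowers w ⊔ zpowers y0 := by
        refine lt_of_le_of_ne le_sup_left fun h => hy0w ?_
        rw [h]
        exact (le_sup_right : zpowers y0 ≤ zpowers w ⊔ zpowers y0) (Subgroup.mem_zpowers y0)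
      exact Set.Finite.card_lt_card (Set.toFinite _) h4
    have h5 : Nat.card (zpowers w ⊔ zpowers y0 : Subgroup V) = 9 := by
      have h6 : (9 : ℕ) = 3 ^ 2 := by norm_num
      rw [h6] at h2
      obtain ⟨k, hk, hk2⟩ := (Nat.dvd_prime_pow Nat.prime_three).1 h2
      rw [hk2] at h3 ⊢
      interval_cases k <;> omega
    exact (Subgroup.eq_of_le_of_card_ge h1 (by omega)).ge
  set C : Subgroup V := zpowers z ⊔ zpowers w with hC
  have hCfix : C ≤ fixSub A (z * w) := by
    rw [hC]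
    refine sup_le ?_ ?_
    · rw [Subgroup.zpowers_le]
      exact fun s hs => (hStb s hs).1
    · rw [Subgroup.zpowers_le]
      exact fun s hs => (hStb s hs).2
  have htop : zpowers y0 ⊔ C = ⊤ := by
    rw [eq_top_iff]
    intro x _
    obtain ⟨n, hn⟩ := hgenz x
    have h1 : x = x * (z ^ n)⁻¹ * z ^ n := by group
    rw [h1]
    refine Subgroup.mul_mem _ ?_ ?_
    · have h2 := hWle hn
      refine (sup_le ?_ ?_ : zpowers w ⊔ zpowers y0 ≤ zpowers y0 ⊔ C) h2
      · exact le_trans (le_sup_right : zpowers w ≤ C) le_sup_right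
      · exact le_sup_left
    · exact (le_sup_right : C ≤ zpowers y0 ⊔ C) ((le_sup_left : zpowers z ≤ C)
        (Subgroup.zpow_mem _ (Subgroup.mem_zpowers z) n))
  have hCidx : C.index ∣ 3 := by
    have h1 : C.relIndex (zpowers y0 ⊔ C) = C.relIndex (zpowers y0) := Subgroup.relIndex_sup_right _ _
    rw [htop, Subgroup.relIndex_top_right] at h1
    rw [h1]
    have h2 : C.relIndex (zpowers y0) ∣ Nat.card (zpowers y0) := Subgroup.relIndex_dvd_card _ _
    refine h2.trans ?_
    rw [Nat.card_zpowers]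
    exact orderOf_dvd_of_pow_eq_one (hW3 y0 hy0)
  exact good_of_index hV hA ((Subgroup.index_dvd_of_le hCfix).trans hCidx)

/-- Maschke's theorem in multiplicative form. -/
theorem exists_complement {A : Subgroup (MulAut V)} (hA : ¬ 3 ∣ Nat.card A) {E T : Subgroup V}
    (hE3 : ∀ x ∈ E, x ^ 3 = 1) (hE : ∀ a ∈ A, ∀ x ∈ E, a x ∈ E) (hT : ∀ a ∈ A, ∀ x ∈ T, a x ∈ T) :
    ∃ W ≤ E, (∀ a ∈ A, ∀ x ∈ W, a x ∈ W) ∧ (∀ x ∈ W, x ∈ T → x = 1) ∧
      ∀ x ∈ E, ∃ t ∈ T, ∃ w ∈ W, x = t * w := by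
  have hp : Fact (Nat.Prime 3) := ⟨Nat.prime_three⟩
  let _ : Module (ZMod 3) (Additive E) := AddCommGroup.zmodModule (n := 3) (by
    intro x
    exact Subtype.ext (hE3 _ (Additive.toMul x).2))
  let φ : A →* (Additive E →ₗ[ZMod 3] Additive E) :=
    { toFun := fun a => AddMonoidHom.toZModLinearMap 3
        { toFun := fun x : Additive E =>
            (Additive.ofMul ⟨a.1 (Additive.toMul x).1, hE a.1 a.2 _ (Additive.toMul x).2⟩ : Additive E)
          map_zero' := by
            apply Subtype.ext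
            exact map_one a.1
          map_add' := by
            intro x y
            apply Subtype.ext
            exact map_mul a.1 _ _ }
      map_one' := rfl
      map_mul' := fun a b => rfl }
  have hφ : ∀ (a : A) (x : E), φ a (Additive.ofMul x) = Additive.ofMul ⟨a.1 x.1, hE a.1 a.2 _ x.2⟩ :=
    fun a x => rfl
  let T' : Submodule (ZMod 3) (Additive E) :=
    AddSubgroup.toZModSubmodule 3 (Subgroup.toAddSubgroup (T.subgroupOf E))
  have hT' : ∀ x : E, Additive.ofMul x ∈ T' ↔ (x : V) ∈ T := fun x => Iff.rfl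
  have hInv : GpLn.Rank.Inv φ T' := by
    intro a w hw
    exact hT a.1 a.2 _ hw
  have hcard : (Nat.card A : ZMod 3) ≠ 0 := by
    intro h
    exact hA ((ZMod.natCast_eq_zero_iff _ _).1 h)
  obtain ⟨W', hW', hcompl⟩ := GpLn.Rank.exists_compl φ hcard T' hInv
  let W : Subgroup V :=
    { carrier := {x | ∃ h : x ∈ E, (Additive.ofMul (⟨x, h⟩ : E) : Additive E) ∈ W'}
      one_mem' := ⟨E.one_mem, W'.zero_mem⟩
      mul_mem' := by
        rintro a b ⟨ha, ha'⟩ ⟨hb, hb'⟩
        exact ⟨E.mul_mem ha hb, W'.add_mem ha' hb'⟩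
      inv_mem' := by
        rintro a ⟨ha, ha'⟩
        exact ⟨E.inv_mem ha, W'.neg_mem ha'⟩ }
  refine ⟨W, fun x hx => hx.1, ?_, ?_, ?_⟩
  · rintro a ha x ⟨hx, hx'⟩
    exact ⟨hE a ha x hx, hW' ⟨a, ha⟩ _ hx'⟩
  · rintro x ⟨hx, hx'⟩ hxT
    have h1 := (Submodule.disjoint_def.1 hcompl.disjoint) _ ((hT' ⟨x, hx⟩).2 hxT) hx'
    exact congrArg (fun y : Additive E => ((Additive.toMul y : E) : V)) h1
  · intro x hx
    have h1 : (Additive.ofMul (⟨x, hx⟩ : E) : Additive E) ∈ T' ⊔ W' := by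
      rw [hcompl.sup_eq_top]; trivial
    obtain ⟨t, ht, w, hw, htw⟩ := Submodule.mem_sup.1 h1
    refine ⟨(Additive.toMul t : E), ht, (Additive.toMul w : E), ⟨(Additive.toMul w).2, hw⟩, ?_⟩
    exact (congrArg (fun y : Additive E => ((Additive.toMul y : E) : V)) htw).symm

theorem exists_index_step {H : Subgroup V} {n : ℕ} (hH : H.index ∣ 3 ^ (n + 1)) :
    ∃ x : V, (zpowers x ⊔ H).index ∣ 3 ^ n := by
  by_cases h : H = ⊤
  · refine ⟨1, ?_⟩
    rw [h, sup_top_eq, Subgroup.index_top]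
    exact one_dvd _
  · obtain ⟨x, hx⟩ : ∃ x, x ∉ H := by
      by_contra hcon
      push Not at hcon
      exact h (by rw [eq_top_iff]; intro x _; exact hcon x)
    refine ⟨x, ?_⟩
    set K := zpowers x ⊔ H with hK
    have h1 : H.relIndex K * K.index = H.index := Subgroup.relIndex_mul_index le_sup_right
    have h2 : H.relIndex K ≠ 1 := by
      intro h2
      rw [Subgroup.relIndex_eq_one] at h2
      exact hx (h2 ((le_sup_left : zpowers x ≤ K) (Subgroup.mem_zpowers x)))
    have h3 : H.relIndex K ∣ 3 ^ (n + 1) := (Dvd.intro _ h1).trans hH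
    obtain ⟨j, hj, hj2⟩ := (Nat.dvd_prime_pow Nat.prime_three).1 h3
    have hj0 : j ≠ 0 := by
      rintro rfl
      exact h2 (by rw [hj2, pow_zero])
    have h4 : 3 * K.index ∣ 3 ^ (n + 1) := by
      refine (Nat.mul_dvd_mul_right ?_ K.index).trans (h1 ▸ hH : H.relIndex K * K.index ∣ 3 ^ (n + 1))
      rw [hj2]
      exact dvd_pow_self 3 hj0
    rw [pow_succ, mul_comm (3 ^ n)] at h4
    exact Nat.dvd_of_mul_dvd_mul_left (by norm_num) h4

theorem frattini (hV : IsPGroup 3 V) {H : Subgroup V} (h : H ⊔ (powMonoidHom 3 : V →* V).range = ⊤) :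
    H = ⊤ := by
  have h1 : ∀ n : ℕ, ∀ x : V, ∃ a ∈ H, ∃ y : V, x = a * y ^ 3 ^ n := by
    intro n
    induction n with
    | zero => exact fun x => ⟨1, H.one_mem, x, by simp⟩
    | succ n ih =>
      intro x
      obtain ⟨a, ha, y, rfl⟩ := ih x
      have h2 : y ∈ H ⊔ (powMonoidHom 3 : V →* V).range := by rw [h]; trivial
      obtain ⟨b, hb, c, ⟨d, rfl⟩, rfl⟩ := Subgroup.mem_sup.1 h2
      refine ⟨a * b ^ 3 ^ n, H.mul_mem ha (H.pow_mem hb _), d, ?_⟩
      rw [powMonoidHom_apply, mul_pow, ← pow_mul, ← pow_succ', mul_assoc]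
  obtain ⟨n, hn⟩ := hV.exists_card_eq
  rw [eq_top_iff]
  intro x _
  obtain ⟨a, ha, y, rfl⟩ := h1 n x
  rw [← hn, pow_card_eq_one', mul_one]
  exact ha

theorem card_ker_ge (hV : IsPGroup 3 V) (hgen : ∀ x y : V, Subgroup.closure {x, y} ≠ ⊤) :
    27 ≤ Nat.card (powMonoidHom 3 : V →* V).ker := by
  have h1 : (powMonoidHom 3 : V →* V).range.index = Nat.card (powMonoidHom 3 : V →* V).ker := by
    have h2 := (powMonoidHom 3 : V →* V).range.card_mul_index
    have h3 := (powMonoidHom 3 : V →* V).ker.card_mul_index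
    rw [Subgroup.index_ker] at h3
    have h4 : 0 < Nat.card (powMonoidHom 3 : V →* V).range := Nat.card_pos
    rw [← h3, mul_comm (Nat.card (powMonoidHom 3 : V →* V).ker)] at h2
    exact Nat.eq_of_mul_eq_mul_left h4 h2
  rw [← h1]
  by_contra hlt
  push Not at hlt
  obtain ⟨n, hn⟩ := hV.exists_card_eq
  have h2 : (powMonoidHom 3 : V →* V).range.index ∣ 3 ^ n := hn ▸ Subgroup.index_dvd_card _
  obtain ⟨j, hj, hj2⟩ := (Nat.dvd_prime_pow Nat.prime_three).1 h2
  have hj3 : j ≤ 2 := by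
    by_contra hcon
    push Not at hcon
    have : 3 ^ 3 ≤ 3 ^ j := Nat.pow_le_pow_right (by norm_num) hcon
    rw [hj2] at hlt
    omega
  have h3 : (powMonoidHom 3 : V →* V).range.index ∣ 3 ^ (1 + 1) := by
    rw [hj2]
    exact pow_dvd_pow 3 hj3
  obtain ⟨x, hx⟩ := exists_index_step h3
  have hx' : (zpowers x ⊔ (powMonoidHom 3 : V →* V).range).index ∣ 3 ^ (0 + 1) := hx
  obtain ⟨y, hy⟩ := exists_index_step hx'
  rw [pow_zero, Nat.dvd_one, Subgroup.index_eq_one, ← sup_assoc] at hy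
  have h4 := frattini hV hy
  apply hgen y x
  rw [← h4, ← Set.singleton_union, Subgroup.closure_union, Subgroup.zpowers_eq_closure,
    Subgroup.zpowers_eq_closure]

/-- `W` invariant elementary, `Z` cyclic of index nine, `W ∩ Z = 1`, `W` of order at least nine. -/
theorem good_of_inf (hV : IsPGroup 3 V) {A : Subgroup (MulAut V)} (hA : ¬ 3 ∣ Nat.card A) {W : Subgroup V}
    (hinv : ∀ a ∈ A, ∀ w ∈ W, a w ∈ W) (hW9 : 9 ≤ Nat.card W) (hW3 : ∀ w ∈ W, w ^ 3 = 1)
    {x0 : V} (hidx : (zpowers x0).index = 9) (hinf : ∀ x ∈ W, x ∈ zpowers x0 → x = 1) : Good A := by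
  have hdis : W ⊓ zpowers x0 = ⊥ := by
    rw [Subgroup.eq_bot_iff_forall]
    exact fun x hx => hinf x hx.1 hx.2
  have h1 : (zpowers x0).relIndex W = Nat.card W := by
    rw [← Subgroup.inf_relIndex_right, inf_comm, hdis, Subgroup.relIndex_bot_left]
  have h2 : Nat.card W ∣ 9 := by
    rw [← h1, ← hidx]
    exact Subgroup.relIndex_dvd_index_of_normal _ _
  have h3 : Nat.card W = 9 := le_antisymm (Nat.le_of_dvd (by norm_num) h2) hW9
  refine core hV hA hinv h3 hW3 (x0 := x0) ?_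
  have hcomp : Subgroup.IsComplement' W (zpowers x0) := by
    apply Subgroup.isComplement'_of_card_mul_and_disjoint
    · rw [h3, ← hidx, mul_comm]
      exact (zpowers x0).card_mul_index
    · rw [disjoint_iff, hdis]
  intro y
  have h4 : y ∈ W ⊔ zpowers x0 := by
    rw [hcomp.sup_eq_top]; trivial
  obtain ⟨w, hw, z, ⟨n, rfl⟩, rfl⟩ := Subgroup.mem_sup.1 h4
  exact ⟨n, by simpa using hw⟩

theorem card_le_three {x0 : V} {U : Subgroup V} (hU : ∀ x ∈ U, x ^ 3 = 1) (hUz : U ≤ zpowers x0) :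
    Nat.card U ≤ 3 := by
  classical
  have := Fintype.ofFinite (zpowers x0)
  have h1 := IsCyclic.card_pow_eq_one_le (α := zpowers x0) (n := 3) (by norm_num)
  refine le_trans ?_ h1
  have h2 : Nat.card U ≤
      Nat.card {a : zpowers x0 // a ∈ (Finset.univ.filter fun a : zpowers x0 => a ^ 3 = 1)} := by
    refine Nat.card_le_card_of_injective (fun x => ⟨⟨x.1, hUz x.2⟩, ?_⟩) ?_
    · rw [Finset.mem_filter]
      exact ⟨Finset.mem_univ _, Subtype.ext (hU x.1 x.2)⟩
    · intro x y hxy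
      apply Subtype.ext
      exact congrArg (fun z => ((z : {a : zpowers x0 // a ∈ (Finset.univ.filter fun a : zpowers x0 =>
        a ^ 3 = 1)}).1 : V)) hxy
  rwa [Nat.card_eq_fintype_card (α := {a : zpowers x0 // _}), Fintype.card_coe] at h2

/-- the case that `V` is not elementary -/
theorem good_of_ne (hV : IsPGroup 3 V) {A : Subgroup (MulAut V)} (hA : ¬ 3 ∣ Nat.card A)
    {x0 : V} (hidx : (zpowers x0).index = 9) (hcube : ∀ x : V, x ^ 3 ∈ zpowers x0)
    (hker : 27 ≤ Nat.card (powMonoidHom 3 : V →* V).ker) {y1 : V} (hy1 : y1 ^ 3 ≠ 1) : Good A := by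
  classical
  have hp : Fact (Nat.Prime 3) := ⟨Nat.prime_three⟩
  set E : Subgroup V := (powMonoidHom 3 : V →* V).ker with hEdef
  have hE3 : ∀ x ∈ E, x ^ 3 = 1 := fun x hx => hx
  have hE : ∀ a ∈ A, ∀ x ∈ E, a x ∈ E := by
    intro a _ x hx
    show a x ^ 3 = 1
    rw [← map_pow, hE3 x hx, map_one]
  set T : Subgroup V := (powMonoidHom 3 : V →* V).range ⊓ E with hTdef
  have hTE : T ≤ E := inf_le_right
  have hTZ : T ≤ zpowers x0 := by
    rintro x ⟨⟨y, rfl⟩, -⟩
    exact hcube y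
  have hTinv : ∀ a ∈ A, ∀ x ∈ T, a x ∈ T := by
    rintro a ha x ⟨⟨y, rfl⟩, hx⟩
    exact ⟨⟨a y, by rw [powMonoidHom_apply, powMonoidHom_apply, map_pow]⟩, hE a ha _ hx⟩
  -- `T` is nontrivial
  have hT1 : T ≠ ⊥ := by
    intro h
    obtain ⟨k, hk⟩ := hV y1
    have h1 : ∀ j, y1 ^ 3 ^ (j + 1) ≠ 1 := by
      intro j
      induction j with
      | zero => simpa using hy1
      | succ j ih =>
        intro h2
        apply ih
        have h3 : y1 ^ 3 ^ (j + 1) ∈ T := by
          refine ⟨⟨y1 ^ 3 ^ j, ?_⟩, ?_⟩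
          · rw [powMonoidHom_apply, ← pow_mul, ← pow_succ]
          · show (y1 ^ 3 ^ (j + 1)) ^ 3 = 1
            rw [← pow_mul, ← pow_succ]
            exact h2
        rw [h, Subgroup.mem_bot] at h3
        exact h3
    have h4 := h1 k
    rw [pow_succ, pow_mul, hk, one_pow] at h4
    exact h4 rfl
  have hTcard : 3 ≤ Nat.card T := by
    obtain ⟨n, hn⟩ := hV.exists_card_eq
    have h1 : Nat.card T ∣ 3 ^ n := hn ▸ Subgroup.card_subgroup_dvd_card T
    obtain ⟨j, -, hj⟩ := (Nat.dvd_prime_pow Nat.prime_three).1 h1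
    have hj0 : j ≠ 0 := by
      rintro rfl
      exact hT1 (Subgroup.eq_bot_of_card_eq T (by rw [hj, pow_zero]))
    rw [hj]
    exact Nat.le_of_dvd (by positivity) (dvd_pow_self 3 hj0)
  -- the elements of order three of `Z` are in `T`
  have hZT : ∀ x ∈ zpowers x0, x ^ 3 = 1 → x ∈ T := by
    have hTZ' : T ≤ zpowers x0 ⊓ E := le_inf hTZ hTE
    have hle : Nat.card (zpowers x0 ⊓ E : Subgroup V) ≤ 3 :=
      card_le_three (fun x hx => hx.2) inf_le_left
    have heq := Subgroup.eq_of_le_of_card_ge hTZ' (hle.trans hTcard)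
    intro x hx hx3
    rw [heq]
    exact ⟨hx, hx3⟩
  have hTcard' : Nat.card T ≤ 3 := card_le_three (fun x hx => hx.2) hTZ
  obtain ⟨W, hWE, hWinv, hWT, hsum⟩ := exists_complement hA hE3 hE hTinv
  refine good_of_inf hV hA hWinv ?_ (fun w hw => hE3 w (hWE hw)) hidx fun x hx hxz => hWT x hx
    (hZT x hxz (hE3 x (hWE hx)))
  -- `|W| ≥ 9`
  have h1 : Nat.card E ≤ Nat.card (T × W) := by
    refine Nat.card_le_card_of_surjective (β := E)
      (fun q => (⟨q.1.1 * q.2.1, E.mul_mem (hTE q.1.2) (hWE q.2.2)⟩ : E)) ?_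
    intro x
    obtain ⟨t, ht, w, hw, htw⟩ := hsum x.1 x.2
    exact ⟨⟨⟨t, ht⟩, ⟨w, hw⟩⟩, Subtype.ext htw.symm⟩
  rw [Nat.card_prod] at h1
  by_contra hcon
  push Not at hcon
  have h2 : Nat.card T * Nat.card W ≤ 3 * 8 := Nat.mul_le_mul hTcard' (by omega)
  omega

/-- elementary case with an invariant line -/
theorem good_of_line (hV : IsPGroup 3 V) {A : Subgroup (MulAut V)} (hA : ¬ 3 ∣ Nat.card A)
    (h3 : ∀ x : V, x ^ 3 = 1) (hV27 : Nat.card V = 27) {x0 : V} (hx0 : x0 ≠ 1)
    (hinv : ∀ a ∈ A, a x0 ∈ zpowers x0) : Good A := by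
  have hTinv : ∀ a ∈ A, ∀ x ∈ zpowers x0, a x ∈ zpowers x0 := by
    rintro a ha x ⟨n, rfl⟩
    simp only [map_zpow]
    exact Subgroup.zpow_mem _ (hinv a ha) n
  obtain ⟨W, -, hWinv, hWT, hsum⟩ := exists_complement (E := ⊤) hA (fun x _ => h3 x) (fun _ _ _ _ => trivial)
    hTinv
  have hT3 : Nat.card (zpowers x0) = 3 := by
    rw [Nat.card_zpowers]
    exact orderOf_eq_prime (h3 x0) hx0
  have hidx : (zpowers x0).index = 9 := by
    have h1 := (zpowers x0).card_mul_index
    rw [hT3, hV27] at h1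
    omega
  refine good_of_inf hV hA hWinv ?_ (fun w _ => h3 w) hidx hWT
  have h1 : Nat.card V ≤ Nat.card (zpowers x0 × W) := by
    refine Nat.card_le_card_of_surjective (β := V) (fun q => (q.1.1 * q.2.1 : V)) ?_
    intro x
    obtain ⟨t, ht, w, hw, htw⟩ := hsum x trivial
    exact ⟨⟨⟨t, ht⟩, ⟨w, hw⟩⟩, htw.symm⟩
  rw [Nat.card_prod, hT3, hV27] at h1
  omega

/-- Fixed points of an automorphism of order thirteen on an invariant subgroup. -/
theorem card_modEq {s : MulAut V} (hs : s ^ 13 = 1) {U : Subgroup V} (hU : ∀ x ∈ U, s x ∈ U) :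
    Nat.card U ≡ Nat.card {x : U // s x = x} [MOD 13] := by
  classical
  have hp : Fact (Nat.Prime 13) := ⟨by norm_num⟩
  have := Fintype.ofFinite U
  let f : Function.End U := fun x => ⟨s x, hU x x.2⟩
  have hf : ∀ n : ℕ, ∀ x : U, ((f ^ n) x : V) = (s ^ n) x := by
    intro n
    induction n with
    | zero => exact fun x => rfl
    | succ n ih =>
      intro x
      rw [pow_succ', pow_succ']
      show s ((f ^ n) x : V) = s ((s ^ n) x)
      rw [ih]
  have hf13 : f ^ 13 ^ 1 = 1 := by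
    funext x
    apply Subtype.ext
    rw [hf, pow_one, hs]
    rfl
  have h1 := Equiv.Perm.card_fixedPoints_modEq (p := 13) hf13
  rw [← Nat.card_eq_fintype_card, ← Nat.card_eq_fintype_card] at h1
  refine h1.trans ?_
  have h2 : Nat.card (Function.fixedPoints f) = Nat.card {x : U // s x = x} := by
    apply Nat.card_congr
    exact Equiv.subtypeEquivRight fun x => by
      constructor
      · intro h
        exact congrArg Subtype.val (h : f x = x)
      · intro h
        exact Subtype.ext h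
  rw [h2]

theorem fpf_of_thirteen {s : MulAut V} (hs : s ^ 13 = 1) (hs1 : s ≠ 1) (hV27 : Nat.card V = 27) :
    ∀ x, s x = x → x = 1 := by
  let F : Subgroup V :=
    { carrier := {x | s x = x}
      one_mem' := map_one s
      mul_mem' := by
        intro a b ha hb
        rw [Set.mem_ofPred_eq] at ha hb ⊢
        rw [map_mul, ha, hb]
      inv_mem' := by
        intro a ha
        rw [Set.mem_ofPred_eq] at ha ⊢
        rw [map_inv, ha] }
  have h1 := card_modEq hs (U := (⊤ : Subgroup V)) fun _ _ => trivial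
  have h2 : Nat.card {x : (⊤ : Subgroup V) // s x = x} = Nat.card F :=
    Nat.card_congr
      { toFun := fun x => ⟨x.1.1, x.2⟩
        invFun := fun x => ⟨⟨x.1, trivial⟩, x.2⟩
        left_inv := fun x => rfl
        right_inv := fun x => rfl }
  rw [h2, Subgroup.card_top, hV27] at h1
  have h3 : Nat.card F ∣ 27 := hV27 ▸ Subgroup.card_subgroup_dvd_card F
  have h4 : Nat.card F ∈ ({1, 3, 9, 27} : Finset ℕ) := by
    have : Nat.card F ∈ Nat.divisors 27 := by simp [h3]
    revert this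
    have h5 : Nat.divisors 27 = {1, 3, 9, 27} := by decide
    rw [h5]
    exact id
  have h5 : Nat.card F = 1 := by
    simp only [Finset.mem_insert, Finset.mem_singleton] at h4
    rcases h4 with h | h | h | h
    · exact h
    · rw [h] at h1; exact absurd h1 (by decide)
    · rw [h] at h1; exact absurd h1 (by decide)
    · exfalso
      have h6 : F = ⊤ := by
        apply Subgroup.eq_top_of_card_eq
        rw [h, hV27]
      apply hs1
      ext x
      have : x ∈ F := by rw [h6]; trivial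
      exact this
  have h6 : F = ⊥ := Subgroup.eq_bot_of_card_eq F h5
  intro x hx
  have : x ∈ F := hx
  rwa [h6, Subgroup.mem_bot] at this

/-- two large subgroups intersect -/
theorem exists_inter (hV27 : Nat.card V = 27) {U : Subgroup V} (hU : 9 ≤ Nat.card U) (s : MulAut V) :
    ∃ b ∈ U, s b ∈ U ∧ b ≠ 1 := by
  by_contra hcon
  push Not at hcon
  have hinj : Function.Injective (fun q : U × U => (q.1.1 * (s q.2.1)⁻¹ : V)) := by
    rintro ⟨a, b⟩ ⟨a', b'⟩ h
    have h1 : (a : V) * (s b)⁻¹ = a' * (s b')⁻¹ := h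
    have h2 : s ((b : V) * (b' : V)⁻¹) = a * (a' : V)⁻¹ := by
      rw [map_mul, map_inv]
      have h3 : (a : V) = a' * (s b')⁻¹ * s b := by rw [← h1]; group
      rw [h3]
      calc s b * (s b')⁻¹ = (a' : V) * (a' : V)⁻¹ * (s b * (s b')⁻¹) := by rw [mul_inv_cancel, one_mul]
        _ = _ := by simp only [mul_comm, mul_left_comm, mul_assoc]
    have h3 := hcon ((b : V) * (b' : V)⁻¹) (U.mul_mem b.2 (U.inv_mem b'.2))
      (by rw [h2]; exact U.mul_mem a.2 (U.inv_mem a'.2))
    rw [h3, map_one] at h2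
    have h4 : (b : V) = b' := mul_inv_eq_one.1 h3
    have h5 : (a : V) = a' := mul_inv_eq_one.1 h2.symm
    exact Prod.ext (Subtype.ext h5) (Subtype.ext h4)
  have h1 := Nat.card_le_card_of_injective _ hinj
  rw [Nat.card_prod, hV27] at h1
  nlinarith

/-- no nontrivial stabilizers in the presence of an element of order thirteen -/
theorem stb_eq_bot {A : Subgroup (MulAut V)} (h3 : ∀ x : V, x ^ 3 = 1)
    (hV27 : Nat.card V = 27) (hA : Nat.card A ∣ 416) (h13 : 13 ∣ Nat.card A) {v : V} (hv : v ≠ 1) :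
    Stb A v = ⊥ := by
  classical
  have hp : Fact (Nat.Prime 13) := ⟨by norm_num⟩
  obtain ⟨P⟩ : Nonempty (Sylow 13 A) := inferInstance
  have hP1 : (P : Subgroup A) ≠ ⊥ := by
    intro h
    have h1 := P.dvd_card_of_dvd_card h13
    rw [h, Subgroup.card_bot] at h1
    omega
  have hP13 : Nat.card (P : Subgroup A) = 13 := by
    obtain ⟨n, hn⟩ := P.isPGroup'.exists_card_eq
    have h1 : 13 ^ n ∣ 416 := (hn ▸ Subgroup.card_subgroup_dvd_card _ : 13 ^ n ∣ Nat.card A).trans hA
    have hn1 : n < 2 := by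
      by_contra hcon
      push Not at hcon
      have h2 : 13 ^ 2 ∣ 416 := (pow_dvd_pow 13 hcon).trans h1
      norm_num at h2
    interval_cases n
    · exact absurd (Subgroup.eq_bot_of_card_eq _ (by rw [hn, pow_zero])) hP1
    · rw [hn, pow_one]
  have hPn : (P : Subgroup A).Normal := by
    have h1 : (P : Subgroup A).index ∣ 32 := by
      have h2 : Nat.card (P : Subgroup A) * (P : Subgroup A).index = Nat.card A :=
        (P : Subgroup A).card_mul_index
      rw [hP13] at h2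
      rw [← h2] at hA
      exact Nat.dvd_of_mul_dvd_mul_left (by norm_num : 0 < 13) hA
    have h2 : Nat.card (Sylow 13 A) ∣ 32 := P.card_dvd_index.trans h1
    have h3 := card_sylow_modEq_one 13 A
    have h4 : Nat.card (Sylow 13 A) = 1 := by
      have h5 : Nat.card (Sylow 13 A) ∈ Nat.divisors 32 := by simp [h2]
      have h6 : Nat.divisors 32 = {1, 2, 4, 8, 16, 32} := by decide
      rw [h6] at h5
      simp only [Finset.mem_insert, Finset.mem_singleton] at h5
      rcases h5 with h | h | h | h | h | h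
      · exact h
      all_goals
        rw [h] at h3
        exact absurd h3 (by decide)
    have h5 : Subsingleton (Sylow 13 A) := by
      rw [Nat.card_eq_one_iff_unique] at h4
      exact h4.1
    exact Sylow.normal_of_subsingleton P
  obtain ⟨s, hsP, hs1⟩ := exists_ne_one_of_ne_bot hP1
  have hpow : ∀ x ∈ (P : Subgroup A), (x : MulAut V) ^ 13 = 1 := by
    intro x hx
    have h1 := pow_card_eq_one' (x := (⟨x, hx⟩ : (P : Subgroup A)))
    rw [hP13] at h1
    exact congrArg (fun y : (P : Subgroup A) => ((y : A) : MulAut V)) h1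
  by_contra hbot
  -- an element of prime order of the stabilizer
  have hc1 : Nat.card (Stb A v) ≠ 1 := fun h => hbot (Subgroup.eq_bot_of_card_eq _ h)
  obtain ⟨q, hq, hqd⟩ := Nat.exists_prime_and_dvd hc1
  have hqF : Fact q.Prime := ⟨hq⟩
  obtain ⟨t', ht'⟩ := exists_prime_orderOf_dvd_card' q hqd
  have htq : orderOf (t' : MulAut V) = q := by rw [Subgroup.orderOf_coe]; exact ht'
  obtain ⟨t, ht⟩ : ∃ t : MulAut V, t = t' := ⟨_, rfl⟩
  have htA : t ∈ A := ht ▸ t'.2.1
  have htv : t v = v := ht ▸ t'.2.2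
  rw [← ht] at htq
  have ht1 : t ≠ 1 := by
    intro h
    rw [h, orderOf_one] at htq
    exact hq.one_lt.ne htq
  have hq2 : q ∣ 416 := by
    refine (hqd.trans (Subgroup.card_dvd_of_le ?_)).trans hA
    exact fun x hx => hx.1
  have hq3 : q = 2 ∨ q = 13 := by
    have h1 : q ∣ 2 ^ 5 * 13 := by norm_num; exact hq2
    rcases hq.dvd_mul.1 h1 with h | h
    · exact Or.inl ((Nat.prime_dvd_prime_iff_eq hq Nat.prime_two).1 (hq.dvd_of_dvd_pow h))
    · exact Or.inr ((Nat.prime_dvd_prime_iff_eq hq (by norm_num)).1 h)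
  rcases hq3 with rfl | rfl
  swap
  · have h1 : t ^ 13 = 1 := by rw [← htq]; exact pow_orderOf_eq_one t
    exact hv (fpf_of_thirteen h1 ht1 hV27 v htv)
  have ht2 : t * t = 1 := by
    rw [← pow_two, ← htq]; exact pow_orderOf_eq_one t
  have htinv : t⁻¹ = t := inv_eq_of_mul_eq_one_left ht2
  have htt : ∀ x, t (t x) = x := by
    intro x
    rw [← MulAut.mul_apply, ht2, MulAut.one_apply]
  -- the commutator
  obtain ⟨c, hc⟩ : ∃ c : A, c = s * (⟨t, htA⟩ * s⁻¹ * (⟨t, htA⟩ : A)⁻¹) := ⟨_, rfl⟩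
  have hcP : c ∈ (P : Subgroup A) := by
    rw [hc]
    exact (P : Subgroup A).mul_mem hsP (hPn.conj_mem _ ((P : Subgroup A).inv_mem hsP) _)
  have hcval : (c : MulAut V) = s * (t * (s : MulAut V)⁻¹ * t⁻¹) := by rw [hc]; rfl
  -- the fixed points and the inverted elements
  let C : Subgroup V :=
    { carrier := {x | t x = x}
      one_mem' := map_one t
      mul_mem' := by
        intro a b ha hb
        rw [Set.mem_ofPred_eq] at ha hb ⊢
        rw [map_mul, ha, hb]
      inv_mem' := by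
        intro a ha
        rw [Set.mem_ofPred_eq] at ha ⊢
        rw [map_inv, ha] }
  let D : Subgroup V :=
    { carrier := {x | t x = x⁻¹}
      one_mem' := by rw [Set.mem_ofPred_eq, map_one, inv_one]
      mul_mem' := by
        intro a b ha hb
        rw [Set.mem_ofPred_eq] at ha hb ⊢
        rw [map_mul, ha, hb, mul_inv]
      inv_mem' := by
        intro a ha
        rw [Set.mem_ofPred_eq] at ha ⊢
        rw [map_inv, ha] }
  have hCD : 27 ≤ Nat.card C * Nat.card D := by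
    rw [← hV27, ← Nat.card_prod]
    refine Nat.card_le_card_of_injective (fun x : V => ((⟨x * t x, ?_⟩, ⟨x * (t x)⁻¹, ?_⟩) : C × D)) ?_
    · show t (x * t x) = x * t x
      rw [map_mul, htt, mul_comm]
    · show t (x * (t x)⁻¹) = (x * (t x)⁻¹)⁻¹
      rw [map_mul, map_inv, htt, mul_inv_rev, inv_inv]
    · intro x y hxy
      have h1 : x * t x = y * t y := congrArg (fun z : C × D => (z.1 : V)) hxy
      have h2 : x * (t x)⁻¹ = y * (t y)⁻¹ := congrArg (fun z : C × D => (z.2 : V)) hxy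
      have h4 : x * x = y * y := by
        have h5 : (x * t x) * (x * (t x)⁻¹) = (y * t y) * (y * (t y)⁻¹) := by rw [h1, h2]
        have h6 : ∀ z : V, (z * t z) * (z * (t z)⁻¹) = z * z := by
          intro z
          rw [mul_mul_mul_comm, mul_inv_cancel, mul_one]
        rwa [h6, h6] at h5
      have h7 : ∀ z : V, z = (z * z)⁻¹ := by
        intro z
        have := h3 z
        rw [pow_succ, pow_two] at this
        exact eq_inv_of_mul_eq_one_right this
      rw [h7 x, h4, ← h7 y]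
  have hdiv : ∀ U : Subgroup V, Nat.card U ∈ ({1, 3, 9, 27} : Finset ℕ) := by
    intro U
    have h3 : Nat.card U ∣ 27 := hV27 ▸ Subgroup.card_subgroup_dvd_card U
    have : Nat.card U ∈ Nat.divisors 27 := by simp [h3]
    revert this
    have h5 : Nat.divisors 27 = {1, 3, 9, 27} := by decide
    rw [h5]
    exact id
  have hfix : ∃ u, u ≠ 1 ∧ (c : MulAut V) u = u := by
    have h9 : 9 ≤ Nat.card C ∨ 9 ≤ Nat.card D := by
      have h1 := hdiv C
      have h2 := hdiv D
      simp only [Finset.mem_insert, Finset.mem_singleton] at h1 h2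
      by_contra hcon
      push Not at hcon
      have h4 : Nat.card C ≤ 3 := by omega
      have h5 : Nat.card D ≤ 3 := by omega
      nlinarith
    rcases h9 with h9 | h9
    · obtain ⟨b, hb, hsb, hb1⟩ := exists_inter hV27 h9 s.1
      refine ⟨s.1 b, fun h => hb1 (s.1.injective (h.trans (map_one _).symm)), ?_⟩
      rw [hcval, MulAut.mul_apply, MulAut.mul_apply, MulAut.mul_apply, htinv]
      rw [show t (s.1 b) = s.1 b from hsb, MulAut.inv_apply_self, show t b = b from hb]
    · obtain ⟨b, hb, hsb, hb1⟩ := exists_inter hV27 h9 s.1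
      refine ⟨s.1 b, fun h => hb1 (s.1.injective (h.trans (map_one _).symm)), ?_⟩
      rw [hcval, MulAut.mul_apply, MulAut.mul_apply, MulAut.mul_apply, htinv]
      rw [show t (s.1 b) = (s.1 b)⁻¹ from hsb, map_inv, MulAut.inv_apply_self, map_inv,
        show t b = b⁻¹ from hb, inv_inv]
  have hc1' : (c : MulAut V) = 1 := by
    by_contra hne
    obtain ⟨u, hu, hcu⟩ := hfix
    exact hu (fpf_of_thirteen (hpow c hcP) hne hV27 u hcu)
  -- `s` and `t` commute
  have hcomm : ∀ x, t (s.1 x) = s.1 (t x) := by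
    intro x
    have h1 : s.1 * t = t * s.1 := by
      have h2 : s.1 * (t * (s : MulAut V)⁻¹ * t⁻¹) = 1 := by rw [← hcval, hc1']
      have h4 : s.1 * t * (t * s.1)⁻¹ = 1 := by rw [← h2]; group
      exact mul_inv_eq_one.1 h4
    rw [← MulAut.mul_apply, ← h1, MulAut.mul_apply]
  have hsv : ∀ x, s.1 x = x → x = 1 :=
    fpf_of_thirteen (hpow s hsP) (fun h => hs1 (Subtype.ext h)) hV27
  have hmod := card_modEq (hpow s hsP) (U := C) (fun x hx => by
    show t (s.1 x) = s.1 x
    rw [hcomm, show t x = x from hx])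
  have h1 : Nat.card {x : C // s.1 x = x} = 1 := by
    rw [Nat.card_eq_one_iff_unique]
    refine ⟨⟨fun a b => ?_⟩, ⟨⟨1, map_one _⟩⟩⟩
    apply Subtype.ext
    apply Subtype.ext
    rw [hsv _ a.2, hsv _ b.2]
  rw [h1] at hmod
  have h2 := hdiv C
  simp only [Finset.mem_insert, Finset.mem_singleton] at h2
  have hvC : v ∈ C := htv
  rcases h2 with h | h | h | h
  · have := Subgroup.eq_bot_of_card_eq C h
    rw [this, Subgroup.mem_bot] at hvC
    exact hv hvC
  · rw [h] at hmod; exact absurd hmod (by decide)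
  · rw [h] at hmod; exact absurd hmod (by decide)
  · apply ht1
    ext x
    have h6 : C = ⊤ := by
      apply Subgroup.eq_top_of_card_eq
      rw [h, hV27]
    have : x ∈ C := by rw [h6]; trivial
    exact this

/-- the set of subgroups of order three -/
def Line (V : Type*) [CommGroup V] : Type _ := {H : Subgroup V // Nat.card H = 3}

noncomputable instance instFiniteLine : Finite (Line V) := by
  unfold Line
  infer_instance

/-- A group of automorphisms acts on the set of subgroups of order three. -/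
noncomputable instance instMulActionLine (A : Subgroup (MulAut V)) : MulAction A (Line V) where
  smul a H := ⟨H.1.map (a.1 : V ≃* V).toMonoidHom, by
    rw [Nat.card_congr (H.1.equivMapOfInjective _ (a.1 : V ≃* V).injective).symm.toEquiv]
    exact H.2⟩
  one_smul H := by
    apply Subtype.ext
    exact Subgroup.map_id (H.1 : Subgroup V)
  mul_smul a b H := by
    apply Subtype.ext
    exact (Subgroup.map_map (H.1 : Subgroup V) (a.1 : V ≃* V).toMonoidHom (b.1 : V ≃* V).toMonoidHom).symm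

theorem smul_val (A : Subgroup (MulAut V)) (a : A) (H : Line V) :
    (a • H).1 = H.1.map (a.1 : V ≃* V).toMonoidHom := rfl

theorem card_line (h3 : ∀ x : V, x ^ 3 = 1) (hV27 : Nat.card V = 27) : Nat.card (Line V) = 13 := by
  classical
  have hp : Fact (Nat.Prime 3) := ⟨Nat.prime_three⟩
  have hz : ∀ (H : Line V) (x : H.1), x ≠ 1 → H.1 = zpowers (x : V) := by
    intro H x hx
    symm
    apply Subgroup.eq_of_le_of_card_ge
    · rw [Subgroup.zpowers_le]; exact x.2
    · rw [H.2, Nat.card_zpowers, orderOf_eq_prime (h3 x) (fun h => hx (Subtype.ext h))]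
  have h1 : Nat.card (Σ H : Line V, {x : H.1 // x ≠ 1}) = Nat.card {x : V // x ≠ 1} := by
    refine Nat.card_congr (Equiv.ofBijective
      (fun p : (Σ H : Line V, {x : H.1 // x ≠ 1}) => (⟨p.2.1.1, fun h => p.2.2 (Subtype.ext h)⟩ : {x : V // x ≠ 1}))
      ⟨?_, ?_⟩)
    · rintro ⟨H, x⟩ ⟨H', x'⟩ h
      have h2 : (x.1.1 : V) = x'.1.1 := congrArg (fun y : {x : V // x ≠ 1} => (y : V)) h
      have h4 : H = H' := by
        apply Subtype.ext
        rw [hz H x.1 x.2, hz H' x'.1 x'.2, h2]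
      subst h4
      have h5 : x = x' := Subtype.ext (Subtype.ext h2)
      rw [h5]
    · rintro ⟨x, hx⟩
      refine ⟨⟨⟨zpowers x, ?_⟩, ⟨⟨x, Subgroup.mem_zpowers x⟩, fun h => hx (congrArg Subtype.val h)⟩⟩, rfl⟩
      rw [Nat.card_zpowers, orderOf_eq_prime (h3 x) hx]
  have h2 : Nat.card (Σ H : Line V, {x : H.1 // x ≠ 1}) = Nat.card (Line V) * 2 := by
    have := Fintype.ofFinite (Line V)
    rw [Nat.card_sigma]
    have h5 : ∀ H : Line V, Nat.card {x : H.1 // x ≠ 1} = 2 := by
      intro H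
      have := Fintype.ofFinite H.1
      rw [Nat.card_eq_fintype_card, Fintype.card_subtype_compl, Fintype.card_subtype_eq,
        ← Nat.card_eq_fintype_card, H.2]
    rw [Finset.sum_congr rfl fun H _ => h5 H, Finset.sum_const, Finset.card_univ, smul_eq_mul,
      Nat.card_eq_fintype_card]
  have h4 : Nat.card {x : V // x ≠ 1} = 26 := by
    have := Fintype.ofFinite V
    rw [Nat.card_eq_fintype_card, Fintype.card_subtype_compl, Fintype.card_subtype_eq,
      ← Nat.card_eq_fintype_card, hV27]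
  rw [h2, h4] at h1
  omega

theorem exists_line {A : Subgroup (MulAut V)} (hA : IsPGroup 2 A) (h3 : ∀ x : V, x ^ 3 = 1)
    (hV27 : Nat.card V = 27) : ∃ x0 : V, x0 ≠ 1 ∧ ∀ a ∈ A, a x0 ∈ zpowers x0 := by
  have hp : Fact (Nat.Prime 3) := ⟨Nat.prime_three⟩
  have hp2 : Fact (Nat.Prime 2) := ⟨Nat.prime_two⟩
  obtain ⟨H, hH⟩ := hA.nonempty_fixed_point_of_prime_not_dvd_card (Line V) (by
    rw [card_line h3 hV27]; norm_num)
  have hHb : H.1 ≠ ⊥ := by
    intro h
    have := H.2
    rw [h, Subgroup.card_bot] at this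
    omega
  obtain ⟨x0, hx0, hx1⟩ := exists_ne_one_of_ne_bot hHb
  refine ⟨x0, hx1, fun a ha => ?_⟩
  have h1 : H.1 = zpowers x0 := by
    symm
    apply Subgroup.eq_of_le_of_card_ge
    · rw [Subgroup.zpowers_le]; exact hx0
    · rw [H.2, Nat.card_zpowers, orderOf_eq_prime (h3 x0) hx1]
  rw [← h1]
  have h2 := congrArg Subtype.val (hH ⟨a, ha⟩)
  rw [smul_val] at h2
  rw [← h2]
  exact ⟨x0, hx0, rfl⟩

/-- the elementary case -/
theorem good_of_elem (hV : IsPGroup 3 V) {A : Subgroup (MulAut V)} (hA : ¬ 3 ∣ Nat.card A)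
    (h3 : ∀ x : V, x ^ 3 = 1) (hV27 : Nat.card V = 27) : Good A := by
  have hp2 : Fact (Nat.Prime 2) := ⟨Nat.prime_two⟩
  obtain ⟨E, hE, θ, hθ, -⟩ := H352.L43.exists_theta (A := V) (fun a b => mul_comm a b)
    (fun a => by rw [← h3 a]; rw [pow_succ, pow_two]) hV27
  have h1 : Nat.card A ∣ 11232 := by
    rw [← H352.L43.card_GL33]
    exact Subgroup.card_dvd_of_injective (θ.comp A.subtype) (hθ.comp A.subtype_injective)
  have h2 : Nat.card A ∣ 416 := by
    have h4 : Nat.card A ∣ 27 * 416 := by norm_num; exact h1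
    refine Nat.Coprime.dvd_of_dvd_mul_left ?_ h4
    have h5 : (27 : ℕ) = 3 ^ 3 := by norm_num
    rw [h5]
    exact Nat.Coprime.pow_right _ ((Nat.Prime.coprime_iff_not_dvd Nat.prime_three).2 hA).symm
  by_cases h13 : 13 ∣ Nat.card A
  · obtain ⟨v, hv⟩ : ∃ v : V, v ≠ 1 := by
      have : Nontrivial V := by
        rw [← Finite.one_lt_card_iff_nontrivial, hV27]; norm_num
      exact exists_ne 1
    exact ⟨v, Or.inl (stb_eq_bot h3 hV27 h2 h13 hv)⟩
  · have h4 : Nat.card A ∣ 2 ^ 5 := by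
      have h5 : Nat.card A ∣ 13 * 2 ^ 5 := by norm_num; exact h2
      refine Nat.Coprime.dvd_of_dvd_mul_left ?_ h5
      exact ((Nat.Prime.coprime_iff_not_dvd (by norm_num)).2 h13).symm
    obtain ⟨j, -, hj⟩ := (Nat.dvd_prime_pow Nat.prime_two).1 h4
    have h5 : IsPGroup 2 A := IsPGroup.of_card hj
    obtain ⟨x0, hx0, hinv⟩ := exists_line h5 h3 hV27
    exact good_of_line hV hA h3 hV27 hx0 hinv

/-- **Main result.** A group of order prime to three acting on an abelian 3-group with a cyclic subgroup of index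
nine which is not generated by two elements. -/
theorem good (hV : IsPGroup 3 V) {A : Subgroup (MulAut V)} (hA : ¬ 3 ∣ Nat.card A) {Z : Subgroup V}
    (hZ : IsCyclic Z) (hidx : Z.index = 9) (hgen : ∀ x y : V, Subgroup.closure {x, y} ≠ ⊤) : Good A := by
  obtain ⟨x0, hx0⟩ : ∃ x0, Z = zpowers x0 := by
    obtain ⟨g, hg⟩ := hZ.exists_generator
    refine ⟨g, le_antisymm ?_ ?_⟩
    · intro x hx
      obtain ⟨n, hn⟩ := hg ⟨x, hx⟩
      exact ⟨n, congrArg Subtype.val hn⟩
    · rw [Subgroup.zpowers_le]; exact g.2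
  subst hx0
  have hcube : ∀ x : V, x ^ 3 ∈ zpowers x0 := by
    intro x
    have hq9 : Nat.card (V ⧸ zpowers x0) = 9 := hidx
    set q : V ⧸ zpowers x0 := QuotientGroup.mk x with hq
    have h1 : orderOf q ∣ 3 ^ 2 := by
      have := orderOf_dvd_natCard q
      rw [hq9] at this
      norm_num
      exact this
    obtain ⟨j, hj, hj2⟩ := (Nat.dvd_prime_pow Nat.prime_three).1 h1
    have hj1 : j ≤ 1 := by
      by_contra hcon
      have hj3 : j = 2 := by omega
      subst hj3
      apply hgen x x0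
      have h2 : ∀ r : V ⧸ zpowers x0, r ∈ zpowers q := by
        have h4 : zpowers q = ⊤ := by
          apply Subgroup.eq_top_of_card_eq
          rw [Nat.card_zpowers, hj2, hq9]
          norm_num
        intro r
        rw [h4]; trivial
      rw [eq_top_iff]
      intro y _
      obtain ⟨n, hn⟩ := h2 (QuotientGroup.mk y)
      have h4 : (x ^ n)⁻¹ * y ∈ zpowers x0 := by
        rw [← QuotientGroup.eq]
        exact hn
      have h5 : y = x ^ n * ((x ^ n)⁻¹ * y) := by group
      rw [h5]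
      refine Subgroup.mul_mem _ (Subgroup.zpow_mem _ (Subgroup.subset_closure (Set.mem_insert _ _)) n) ?_
      have h6 : zpowers x0 ≤ Subgroup.closure {x, x0} := by
        rw [Subgroup.zpowers_le]
        exact Subgroup.subset_closure (Set.mem_insert_of_mem _ rfl)
      exact h6 h4
    have h7 : q ^ 3 = 1 := by
      rw [← orderOf_dvd_iff_pow_eq_one, hj2]
      exact (pow_dvd_pow 3 hj1).trans (by norm_num)
    rw [← QuotientGroup.eq_one_iff, QuotientGroup.mk_pow]
    exact h7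
  have hker := card_ker_ge hV hgen
  by_cases h3 : ∀ x : V, x ^ 3 = 1
  · have h1 : Nat.card (zpowers x0) ≤ 3 := by
      rw [Nat.card_zpowers]
      exact Nat.le_of_dvd (by norm_num) (orderOf_dvd_of_pow_eq_one (h3 x0))
    have h2 := (zpowers x0).card_mul_index
    rw [hidx] at h2
    have h4 : Nat.card (powMonoidHom 3 : V →* V).ker ≤ Nat.card V := Subgroup.card_le_card_group _
    exact good_of_elem hV hA h3 (by omega)
  · push Not at h3
    obtain ⟨y1, hy1⟩ := h3
    exact good_of_ne hV hA hidx hcube hker hy1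

end Cfsg.Agent.H699.ThreeAct
end

-- part: H699/BrauerAbThree
section
/-!
# `k(B) ≤ |D|` for `3`-blocks with an abelian defect group which has a cyclic subgroup of index nine

Package H of the assembly of S4542.
-/

set_option autoImplicit false
set_option linter.unusedSectionVars false

open Cfsg

namespace Cfsg.Agent.H699.BrauerAbThree

open Cfsg.Agent.H617.AbelRank Cfsg.Agent.H617.StarAut
open Cfsg.Agent.H652.DoubleCount Cfsg.Agent.H645.FusCount
open Cfsg.Agent.H624.Asm Cfsg.Agent.H624.AbRank Cfsg.Agent.H649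
open Cfsg.Agent.H699.ThreeAct

universe u

section general

variable {G : Type u} [Group G] [Fintype G] {p : ℕ} [Fact p.Prime] {M : Ideal AlgInt} [M.IsPrime]

variable (hM : IsPModular p M) {B : Set (IrrCharacter G)} {a : BrauerPairIdx G}
  (hmax : IsMaximalBrauerPair p M B a.1 a.2) (hab : ∀ x ∈ a.1, ∀ y ∈ a.1, x * y = y * x)

include hM hmax hab

/-- Rank at most two at some element. -/
theorem card_le_of_rank_two {v : G} (hv : v ∈ a.1) (h : blockRank p (bP p M a v).2 ≤ 2) :
    Nat.card B ≤ Nat.card a.1 := by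
  obtain ⟨b, a', h1, h2, h3, h4, h5, h6⟩ := exists_local hM hmax hab hv
  have := Fintype.ofFinite (Subgroup.centralizer ({v} : Set G))
  have hD := Cfsg.Agent.H644.isDefectGroup_of_isMaximalBrauerPair hM hmax
  have hD' := Cfsg.Agent.H644.isDefectGroup_of_isMaximalBrauerPair hM h4
  rw [h3] at hD'
  rw [← h2] at h
  rw [Cfsg.Agent.S0908.result p M hM B hmax.1.2.1 a.1 hD]
  exact Cfsg.Agent.S4539.result p M hM B hmax.1.2.1 a.1 hD v hv
    (fun d hd => hab d hd v hv) b h1 hD' h

/-- Inertial quotient of order two acting as a reflection, `p = 3`. -/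
theorem rank_le_two_of_two
    (hidx : (Subgroup.centralizer (a.1 : Set G)).relIndex (stab a) = 2)
    (hW : 3 * Nat.card {w : G // w ∈ a.1 ∧ ∀ t ∈ stab a, t * w * t⁻¹ = w} = Nat.card a.1) :
    blockRank p B ≤ 2 := by
  have h1 := card_of_prime hM hmax hab Nat.prime_two hidx
  set W := Nat.card {w : G // w ∈ a.1 ∧ ∀ t ∈ stab a, t * w * t⁻¹ = w} with hWdef
  have hWpos : 0 < W := by
    have hpos : 0 < Nat.card a.1 := Nat.card_pos
    omega
  -- an element outside `W`
  obtain ⟨v, hv, hvn⟩ : ∃ v ∈ a.1, ¬ ∀ t ∈ stab a, t * v * t⁻¹ = v := by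
    by_contra hno
    push Not at hno
    have h2 : W = Nat.card a.1 := Nat.card_congr
      { toFun := fun w => ⟨w.1, w.2.1⟩
        invFun := fun w => ⟨w.1, w.2, hno w.1 w.2⟩
        left_inv := fun _ => rfl
        right_inv := fun _ => rfl }
    omega
  have hrank : blockRank p (bP p M a v).2 = 1 :=
    rank_one_of_prime hM hmax hab Nat.prime_two hidx hv hvn
  have h3 := card_le_of_rank_two hM hmax hab hv (by rw [hrank]; norm_num)
  rw [← hW] at h1 h3
  -- 2 k + W = 2 W l + 3 W, k ≤ 3 W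
  have h4 : W * (2 * blockRank p B) ≤ W * 4 := by nlinarith
  have h5 := Nat.le_of_mul_le_mul_left h4 hWpos
  omega

end general

variable {G : Type u} [Group G] [Finite G] {M : Ideal AlgInt}

/-- Local inertial quotient of order two. -/
theorem rank_le_two (hM : IsPModular 3 M) {B : Set (IrrCharacter G)}
    {a : BrauerPairIdx G} (hmax : IsMaximalBrauerPair 3 M B a.1 a.2)
    (hab : ∀ x ∈ a.1, ∀ y ∈ a.1, x * y = y * x) {u : G} (hu : u ∈ a.1)
    (hidx : (Subgroup.centralizer (a.1 : Set G)).relIndex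
      (stab a ⊓ Subgroup.centralizer ({u} : Set G)) = 2)
    (hW : 3 * Nat.card {w : G // w ∈ a.1 ∧ ∀ t ∈ stab a, t * u * t⁻¹ = u → t * w * t⁻¹ = w} =
      Nat.card a.1) : blockRank 3 (bP 3 M a u).2 ≤ 2 := by
  classical
  have hp2 : Fact (Nat.Prime 3) := ⟨Nat.prime_three⟩
  have := Fintype.ofFinite G
  have hMp := Cfsg.Agent.Blocks.Local.isPrime_of_isPModular hM
  obtain ⟨b, a', hind, hrank, ha', hmax', hab', hstab⟩ := exists_local hM hmax hab hu
  rw [← hrank]
  clear hrank
  obtain ⟨H, hH⟩ : ∃ H, H = Subgroup.centralizer ({u} : Set G) := ⟨_, rfl⟩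
  rw [← hH] at hidx
  revert b a'
  rw [← hH]
  intro b a' hind ha' hmax' hab' hstab
  have := Fintype.ofFinite H
  have haH : a.1 ≤ H := by
    intro x hx
    rw [hH, Subgroup.mem_centralizer_singleton_iff]
    exact hab x hx u hu
  have hC' : Subgroup.centralizer (a'.1 : Set H) =
      (Subgroup.centralizer (a.1 : Set G)).subgroupOf H := by
    ext x
    rw [Subgroup.mem_subgroupOf, Subgroup.mem_centralizer_iff, Subgroup.mem_centralizer_iff]
    constructor
    · intro h y hy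
      have h1 : (⟨y, haH hy⟩ : H) ∈ a'.1 := by
        rw [ha', Subgroup.mem_subgroupOf]
        exact hy
      exact congrArg Subtype.val (h _ h1)
    · intro h y hy
      rw [SetLike.mem_coe, ha', Subgroup.mem_subgroupOf] at hy
      exact Subtype.ext (h y hy)
  have hS' : stab a' = (stab a ⊓ H).subgroupOf H := by
    ext x
    rw [hstab, Subgroup.mem_subgroupOf, Subgroup.mem_inf]
    exact ⟨fun h => ⟨h, x.2⟩, fun h => h.1⟩
  have hidx' : (Subgroup.centralizer (a'.1 : Set H)).relIndex (stab a') = 2 := by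
    rw [hC', hS', Subgroup.relIndex_subgroupOf inf_le_right, hidx]
  refine rank_le_two_of_two hM hmax' hab' hidx' ?_
  have hcard' : Nat.card a'.1 = Nat.card a.1 := by
    rw [ha']
    exact Nat.card_congr (Subgroup.subgroupOfEquivOfLe haH).toEquiv
  rw [hcard', ← hW]
  congr 1
  have htH : ∀ t : G, t * u * t⁻¹ = u → t ∈ H := by
    intro t htu
    rw [hH, Subgroup.mem_centralizer_singleton_iff]
    calc t * u = t * u * t⁻¹ * t := by group
      _ = u * t := by rw [htu]
  have hHt : ∀ t : H, (t : G) * u * (t : G)⁻¹ = u := by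
    intro t
    have h1 : (t : G) ∈ Subgroup.centralizer ({u} : Set G) := hH.le t.2
    rw [Subgroup.mem_centralizer_singleton_iff] at h1
    rw [h1]
    group
  refine Nat.card_congr
    { toFun := fun w => ⟨(w.1 : G), ?_, fun t ht htu => ?_⟩
      invFun := fun w => ⟨⟨w.1, haH w.2.1⟩, ?_, fun t ht => ?_⟩
      left_inv := fun _ => rfl
      right_inv := fun _ => rfl }
  · exact Subgroup.mem_subgroupOf.1 (ha'.le w.2.1)
  · exact congrArg Subtype.val (w.2.2 ⟨t, htH t htu⟩ ((hstab _).2 ht))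
  · rw [ha', Subgroup.mem_subgroupOf]
    exact w.2.1
  · exact Subtype.ext (w.2.2 t ((hstab t).1 ht) (hHt t))

theorem good_group {V : Type u} [inst : Group V] [Finite V]
    (hab : ∀ x y : V, x * y = y * x) (hV : IsPGroup 3 V)
    {Z : Subgroup V} (hZ : IsCyclic Z) (hidx : Z.index = 9)
    (hgen : ∀ x y : V, Subgroup.closure {x, y} ≠ ⊤)
    (A : Subgroup (MulAut V)) (hA : ¬ 3 ∣ Nat.card A) :
    ∃ u : V, ∃ S : Subgroup (MulAut V), (∀ s, s ∈ S ↔ s ∈ A ∧ s u = u) ∧
      (Nat.card S = 1 ∨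
        (Nat.card S = 2 ∧ 3 * Nat.card {x : V // ∀ s ∈ S, s x = x} = Nat.card V)) := by
  obtain ⟨C, hC⟩ : ∃ C : CommGroup V, C.toGroup = inst :=
    ⟨{ inst with mul_comm := hab }, rfl⟩
  subst hC
  obtain ⟨v, hv⟩ := ThreeAct.good hV hA hZ hidx hgen
  refine ⟨v, Stb A v, fun s => mem_Stb, ?_⟩
  rcases hv with h | h
  · left
    rw [h, Subgroup.card_bot]
  · exact Or.inr h

/-- Two generators. -/
theorem card_le_of_pair (hM : IsPModular 3 M) {B : Set (IrrCharacter G)} (hB : IsPBlock M B)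
    {D : Subgroup G} (hD : IsDefectGroup 3 M B D) (hab : ∀ x ∈ D, ∀ y ∈ D, x * y = y * x)
    {x y : G} (hxy : D = Subgroup.closure {x, y}) : Nat.card B ≤ Nat.card D := by
  have hp3 : Fact (Nat.Prime 3) := ⟨Nat.prime_three⟩
  have hx : x ∈ D := by rw [hxy]; exact Subgroup.subset_closure (by simp)
  have hy : y ∈ D := by rw [hxy]; exact Subgroup.subset_closure (by simp)
  obtain ⟨f, U, hU, h, hUx⟩ := exists_situation hM hB hD hx fun w hw => hab w hw x hx
  refine Cfsg.Agent.H624.AsmMain.card_le_cyclic hM h ?_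
  have hle := h.le_cent
  -- the image is generated by the image of `y`
  have hgen : ∀ q ∈ (D.subgroupOf (Subgroup.centralizer ({x} : Set G))).map (QuotientGroup.mk' U),
      q ∈ Subgroup.zpowers (QuotientGroup.mk' U ⟨y, hle hy⟩) := by
    have hle2 : D ≤ ((Subgroup.zpowers (QuotientGroup.mk' U ⟨y, hle hy⟩)).comap
        (QuotientGroup.mk' U)).map (Subgroup.centralizer ({x} : Set G)).subtype := by
      conv_lhs => rw [hxy]
      rw [Subgroup.closure_le]
      rintro w (rfl | rfl)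
      · refine ⟨⟨w, hle hx⟩, ?_, rfl⟩
        rw [SetLike.mem_coe, Subgroup.mem_comap]
        have h1 : QuotientGroup.mk' U ⟨w, hle hx⟩ = 1 := by
          rw [QuotientGroup.mk'_apply, QuotientGroup.eq_one_iff, hUx]
          exact Subgroup.mem_zpowers _
        rw [h1]
        exact Subgroup.one_mem _
      · exact ⟨⟨w, hle hy⟩, Subgroup.mem_zpowers _, rfl⟩
    rintro q ⟨d, hd, rfl⟩
    obtain ⟨c, hc, hcd⟩ := hle2 (Subgroup.mem_subgroupOf.1 hd)
    have h1 : c = d := Subtype.ext hcd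
    rw [← h1]
    exact hc
  have hmem : QuotientGroup.mk' U ⟨y, hle hy⟩ ∈
      (D.subgroupOf (Subgroup.centralizer ({x} : Set G))).map (QuotientGroup.mk' U) :=
    ⟨⟨y, hle hy⟩, Subgroup.mem_subgroupOf.2 hy, rfl⟩
  refine ⟨⟨⟨_, hmem⟩, ?_⟩⟩
  rintro ⟨q, hq⟩
  obtain ⟨n, hn⟩ := hgen q hq
  refine ⟨n, Subtype.ext ?_⟩
  exact hn

/-- **Package H** of S4542. -/
theorem pkgH {M : Ideal AlgInt} (hM : IsPModular 3 M) : Cfsg.Agent.H624.AsmMain.PkgH.{u} M := by
  intro G _ _ B D hB hD hab Z hZD hcyc hidx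
  have hp3 : Fact (Nat.Prime 3) := ⟨Nat.prime_three⟩
  have := Fintype.ofFinite G
  have hMp := Cfsg.Agent.Blocks.Local.isPrime_of_isPModular hM
  by_cases hpair : ∃ x y : G, D = Subgroup.closure {x, y}
  · obtain ⟨x, y, hxy⟩ := hpair
    exact card_le_of_pair hM hB hD hab hxy
  push Not at hpair
  obtain ⟨e, he⟩ := Cfsg.Agent.H649.exists_pair_of_isDefectGroup hM hB hD
  have hmax0 := Cfsg.Agent.H644.isMaximalBrauerPair_of_isDefectGroup hM he hD
  obtain ⟨a, ha⟩ : ∃ a : BrauerPairIdx G, a = ⟨D, e⟩ := ⟨_, rfl⟩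
  have hmax : IsMaximalBrauerPair 3 M B a.1 a.2 := by rw [ha]; exact hmax0
  have haD : a.1 = D := by rw [ha]
  rw [← haD] at hab hpair hidx hZD ⊢
  clear hmax0 he ha haD hD
  have hA : ¬ 3 ∣ Nat.card (autG a) := odd_autG hM hmax hab
  have hgen : ∀ x y : a.1, Subgroup.closure {x, y} ≠ ⊤ := by
    intro x y h
    apply hpair x y
    have h1 := MonoidHom.map_closure a.1.subtype {x, y}
    rw [h, ← MonoidHom.range_eq_map, Subgroup.range_subtype, Set.image_pair] at h1
    exact h1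
  have hcyc' : IsCyclic (Z.subgroupOf a.1) :=
    isCyclic_of_surjective (Subgroup.subgroupOfEquivOfLe hZD).symm.toMonoidHom
      (Subgroup.subgroupOfEquivOfLe hZD).symm.surjective
  obtain ⟨u, S, hS, hc⟩ := good_group (fun x y => Subtype.ext (hab x x.2 y y.2))
    hmax.1.1.1 hcyc' hidx hgen (autG a) hA
  have hrel := relIndex_inf hM hmax hab u.2 S hS
  rcases hc with h1 | ⟨h2, hW⟩
  · -- regular orbit
    rw [h1, Subgroup.relIndex_eq_one] at hrel
    refine card_le_of_rank_two hM hmax hab u.2 ?_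
    rw [rank_one_at hM hmax hab u.2 ?_]
    · norm_num
    · intro t ht htu x hx
      have h2 : t ∈ stab a ⊓ Subgroup.centralizer ({(u : G)} : Set G) := by
        refine Subgroup.mem_inf.2 ⟨ht, Subgroup.mem_centralizer_singleton_iff.2 ?_⟩
        calc t * (u : G) = t * u * t⁻¹ * t := by group
          _ = u * t := by rw [htu]
      have h3 := Subgroup.mem_centralizer_iff.1 (hrel h2) x hx
      rw [← h3]
      group
  · -- order two
    refine card_le_of_rank_two hM hmax hab u.2 ?_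
    refine rank_le_two hM hmax hab u.2 (hrel.trans h2) ?_
    rw [← hW]
    congr 1
    refine Nat.card_congr
      { toFun := fun w => ⟨⟨w.1, w.2.1⟩, fun s hs => ?_⟩
        invFun := fun x => ⟨x.1, x.1.2, fun t ht htu => ?_⟩
        left_inv := fun _ => rfl
        right_inv := fun _ => rfl }
    · obtain ⟨t, ht, hst⟩ := (mem_autG hM hmax hab).1 ((hS s).1 hs).1
      apply Subtype.ext
      rw [hst]
      refine w.2.2 t ht ?_
      rw [← hst, ((hS s).1 hs).2]
    · obtain ⟨α, hα, h⟩ := exists_autG hM hmax hab ht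
      rw [← h, x.2 α ((hS α).2 ⟨hα, Subtype.ext (by rw [h, htu])⟩)]

end Cfsg.Agent.H699.BrauerAbThree
end

-- part: S4542
section
set_option autoImplicit false
open Cfsg

namespace Cfsg.Agent.S4542

/-- Let B be a p-block of the finite group G (relative to a maximal ideal M of the algebraic integers containing p) with defect group D, and suppose D has a cyclic subgroup Z, central in D, of index at most 16 in D. Then B contains at most as many irreducible characters as D has elements (Brauer's k(B) bound holds for B); in particular this covers every 2-block of defect at most 5. -/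
theorem result {G : Type*} [Group G] [Finite G] (p : ℕ) [Fact p.Prime] (M : Ideal Cfsg.AlgInt) (hM : Cfsg.IsPModular p M) (B : Set (Cfsg.IrrCharacter G)) (hB : Cfsg.IsPBlock M B) (D : Subgroup G) (hD : Cfsg.IsDefectGroup p M B D) (Z : Subgroup G) (hZD : Z ≤ D) (hZc : ∀ z ∈ Z, ∀ d ∈ D, z * d = d * z) (hcyc : IsCyclic Z) (hidx : Z.relIndex D ≤ 16) : Nat.card B ≤ Nat.card D := by
  refine Cfsg.Agent.H624.AsmMain.main hM (fun h => ?_) (fun h => ?_) (fun h => ?_) (fun h => ?_)
    hB hD hZD hZc hcyc hidx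
  · subst h
    exact Cfsg.Agent.H618.PkgE.pkgE hM
  · subst h
    exact Cfsg.Agent.H624.FCases.pkgF hM (Cfsg.Agent.H602.Small.pkgF3 hM)
      (Cfsg.Agent.H604.Small.pkgF4 hM) (Cfsg.Agent.H608.F5.pkgF5 hM)
  · subst h
    exact Cfsg.Agent.H624.PkgGProof.pkgG hM
  · subst h
    exact Cfsg.Agent.H699.BrauerAbThree.pkgH hM

end Cfsg.Agent.S4542
end
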