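import Cfsg.Agent.H645.FT.Ess
import Cfsg.Agent.Classification.NormalCyclic
import Cfsg.Agent.TwoFusion.NoNormalFour
import Cfsg.Agent.H777.PGrp
import Mathlib
import Cfsg.Agent.H645.FT.Quot
import Cfsg.Agent.S4540
import Cfsg.Statements.S4544
set_option linter.all false

-- part: H352/FTRed
section
/-!
# S4544, lemma Red (helper352, plan of helper645)

Finite `2`-groups with a cyclic subgroup of index at most `4`.
-/

set_option autoImplicit false
set_option linter.style.haveILetI false

namespace Cfsg.Agent.H352.FTRed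

open Cfsg Cfsg.FusionSystem Cfsg.Agent.H645.FT

section

variable {D : Type*} [Group D]

/-- the involutions of a cyclic group -/
theorem inv_unique [Finite D] {c a b : D} (ha : a ∈ Subgroup.zpowers c) (hb : b ∈ Subgroup.zpowers c)
    (ha1 : a ≠ 1) (hb1 : b ≠ 1) (haa : a * a = 1) (hbb : b * b = 1) : a = b := by
  classical
  haveI : Fintype (Subgroup.zpowers c) := Fintype.ofFinite _
  by_contra hab
  have h1 := IsCyclic.card_pow_eq_one_le (α := Subgroup.zpowers c) (n := 2) (by norm_num)
  have h2 : ({1, ⟨a, ha⟩, ⟨b, hb⟩} : Finset (Subgroup.zpowers c)) ⊆ Finset.univ.filter fun x => x ^ 2 = 1 := by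
    intro x hx
    simp only [Finset.mem_insert, Finset.mem_singleton] at hx
    rw [Finset.mem_filter]
    refine ⟨Finset.mem_univ _, ?_⟩
    rcases hx with rfl | rfl | rfl
    · exact one_pow _
    · exact Subtype.ext (by rw [pow_two]; exact haa)
    · exact Subtype.ext (by rw [pow_two]; exact hbb)
  have h3 : ({1, ⟨a, ha⟩, ⟨b, hb⟩} : Finset (Subgroup.zpowers c)).card = 3 := by
    rw [Finset.card_insert_of_notMem, Finset.card_insert_of_notMem, Finset.card_singleton]
    · rw [Finset.mem_singleton]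
      exact fun h => hab (congrArg Subtype.val h)
    · rw [Finset.mem_insert, Finset.mem_singleton]
      rintro (h | h)
      · exact ha1 (congrArg Subtype.val h).symm
      · exact hb1 (congrArg Subtype.val h).symm
  have h4 := Finset.card_le_card h2
  omega

theorem index_sup_le [Finite D] {A B : Subgroup D} (h : ¬ B ≤ A) (hA : A.index ≤ 4) : (A ⊔ B).index ≤ 2 := by
  have h1 : A.relIndex (A ⊔ B) * (A ⊔ B).index = A.index := Subgroup.relIndex_mul_index le_sup_left
  have h2 : A.relIndex (A ⊔ B) ≠ 1 := fun h2 => h ((sup_le_iff.1 (Subgroup.relIndex_eq_one.1 h2)).2)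
  have h3 : A.relIndex (A ⊔ B) ≠ 0 := Subgroup.index_ne_zero_of_finite
  have h4 : 2 ≤ A.relIndex (A ⊔ B) := by omega
  have h5 := Nat.mul_le_mul_right (A ⊔ B).index h4
  omega

theorem mem_centralizer_iff' {c x : D} : x ∈ Subgroup.centralizer ({c} : Set D) ↔ c * x = x * c := by
  rw [Subgroup.mem_centralizer_iff]
  simp

/-- If all commutators are `1` or `z`, centralizers have index at most `2`. -/
theorem index_centralizer_le [Finite D] {z c : D} (h : ∀ g h : D, g * h * g⁻¹ * h⁻¹ = 1 ∨ g * h * g⁻¹ * h⁻¹ = z) :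
    (Subgroup.centralizer ({c} : Set D)).index ≤ 2 := by
  by_cases hc : ∀ x, c * x = x * c
  · have : Subgroup.centralizer ({c} : Set D) = ⊤ := by
      rw [eq_top_iff]
      exact fun x _ => mem_centralizer_iff'.2 (hc x)
    rw [this, Subgroup.index_top]
    norm_num
  · push Not at hc
    obtain ⟨a, ha⟩ := hc
    have key : ∀ x, x ∉ Subgroup.centralizer ({c} : Set D) → x * c * x⁻¹ = z * c := by
      intro x hx
      rcases h x c with h1 | h1
      · exact absurd (mem_centralizer_iff'.2 (mul_inv_eq_iff_eq_mul.1 (mul_inv_eq_one.1 h1)).symm) hx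
      · exact mul_inv_eq_iff_eq_mul.1 h1
    have h2 : (Subgroup.centralizer ({c} : Set D)).index = 2 := by
      rw [Subgroup.index_eq_two_iff]
      refine ⟨a, fun b => ?_⟩
      by_cases hb : b ∈ Subgroup.centralizer ({c} : Set D)
      · right
        refine ⟨hb, fun h3 => ha (mem_centralizer_iff'.1 ?_)⟩
        have := mul_mem (inv_mem hb) h3
        rwa [inv_mul_cancel_left] at this
      · left
        refine ⟨?_, hb⟩
        have h3 := key b⁻¹ fun h => hb (inv_inv b ▸ inv_mem h)
        have h4 := key a fun h => ha (mem_centralizer_iff'.1 h)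
        rw [inv_inv] at h3
        rw [mem_centralizer_iff']
        calc c * (b * a) = b * (b⁻¹ * c * b) * a := by group
          _ = b * (a * c * a⁻¹) * a := by rw [h3, h4]
          _ = b * a * c := by group
    omega

theorem mem_zpowers_sq {z x : D} (hz : z * z = 1) : x ∈ Subgroup.zpowers z ↔ x = 1 ∨ x = z := by
  constructor
  · intro h
    obtain ⟨k, rfl⟩ := Subgroup.mem_zpowers_iff.1 h
    rcases Int.even_or_odd k with ⟨m, rfl⟩ | ⟨m, rfl⟩
    · left
      rw [← two_mul, zpow_mul, zpow_two, hz, one_zpow]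
    · right
      rw [zpow_add, zpow_mul, zpow_two, hz, one_zpow, one_mul, zpow_one]
  · rintro (rfl | rfl)
    · exact one_mem _
    · exact Subgroup.mem_zpowers _

end

theorem cases {D : Type*} [Group D] [Finite D] (h2 : IsPGroup 2 D) (c : D)
    (hidx : (Subgroup.zpowers c).index ≤ 4) :
    (∃ z ∈ Subgroup.center D, ∃ x : D, (Subgroup.zpowers x ⊔ Subgroup.zpowers z).index ≤ 2) ∨
    (∃ z ∈ Subgroup.center D, (Subgroup.zpowers z).index ≤ 4) ∨
    ((Subgroup.zpowers c).index = 4 ∧ 8 ≤ orderOf c ∧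
      Subgroup.center D ≤ Subgroup.zpowers c ∧ ∃ z ∈ Subgroup.center D, z ≠ 1 ∧ z * z = 1 ∧
      (∃ e : D, e ∉ Subgroup.zpowers c ∧ e * e = 1 ∧ ∀ g, g * e * g⁻¹ = e ∨ g * e * g⁻¹ = z * e) ∧
      ∃ g h : D, g * h * g⁻¹ * h⁻¹ ∉ Subgroup.zpowers z) := by
  haveI : Fact (Nat.Prime 2) := ⟨Nat.prime_two⟩
  -- a central element outside `⟨c⟩`
  by_cases hA : Subgroup.center D ≤ Subgroup.zpowers c
  swap
  · left
    obtain ⟨z, hz, hzc⟩ := Set.not_subset.1 hA
    exact ⟨z, hz, c, index_sup_le (fun h => hzc (h (Subgroup.mem_zpowers z))) hidx⟩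
  have hone : ∀ x : D, (Subgroup.zpowers x).index ≤ 2 →
      ∃ z ∈ Subgroup.center D, ∃ x : D, (Subgroup.zpowers x ⊔ Subgroup.zpowers z).index ≤ 2 := fun x hx =>
    ⟨1, one_mem _, x, by rwa [Subgroup.zpowers_one_eq_bot, sup_bot_eq]⟩
  by_cases hB : (Subgroup.zpowers c).index ≤ 2
  · exact Or.inl (hone c hB)
  by_cases hC : c ∈ Subgroup.center D
  · exact Or.inr (Or.inl ⟨c, hC, hidx⟩)
  have h4 : (Subgroup.zpowers c).index = 4 := by
    obtain ⟨k, hk⟩ := h2.index (Subgroup.zpowers c)
    have : (Subgroup.zpowers c).index ≠ 3 := by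
      intro h3
      rw [h3] at hk
      rcases k with _ | k
      · omega
      · rw [pow_succ] at hk; omega
    omega
  haveI hnt : Nontrivial D := ⟨⟨c, 1, fun h => hC (h ▸ one_mem _)⟩⟩
  -- the central involution
  obtain ⟨z, hzc, hz1, hzz⟩ : ∃ z ∈ Subgroup.center D, z ≠ 1 ∧ z * z = 1 := by
    haveI := h2.center_nontrivial
    have h3 : 2 ∣ Nat.card (Subgroup.center D) := by
      obtain ⟨k, hk⟩ := (IsPGroup.iff_card.1 (h2.to_subgroup (Subgroup.center D)))
      have h5 : 1 < Nat.card (Subgroup.center D) := Finite.one_lt_card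
      rw [hk] at h5 ⊢
      exact dvd_pow_self 2 (by rintro rfl; simp at h5)
    obtain ⟨w, hw⟩ := exists_prime_orderOf_dvd_card' 2 h3
    refine ⟨w, w.2, fun h5 => ?_, ?_⟩
    · have : w = 1 := Subtype.ext h5
      rw [this, orderOf_one] at hw
      omega
    · have h5 := pow_orderOf_eq_one w
      rw [hw, pow_two] at h5
      exact congrArg Subtype.val h5
  have hzC := Subgroup.mem_center_iff.1 hzc
  have huniq : ∀ a ∈ Subgroup.zpowers c, a ≠ 1 → a * a = 1 → a = z := fun a ha ha1 haa =>
    inv_unique ha (hA hzc) ha1 hz1 haa hzz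
  -- a normal four-group
  by_cases hK : ∀ E : Subgroup D, E.Normal → ¬ IsKleinFour E
  · left
    rcases Cfsg.Agent.Classification.NormalCyclic.exists_cyclic_index_two h2
      (fun A hA hAc => Cfsg.Agent.TwoFusion.NoNormalFour.isCyclic_of_no_normal_four h2 hK A hA hAc) with h | ⟨A, hA1, hA2⟩
    · obtain ⟨g, hg⟩ := h.exists_generator
      refine hone g ?_
      have : Subgroup.zpowers g = ⊤ := (Subgroup.eq_top_iff' _).2 hg
      rw [this, Subgroup.index_top]
      norm_num
    · obtain ⟨g, hg⟩ := Subgroup.isCyclic_iff_exists_zpowers_eq_top A |>.1 hA1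
      refine hone g ?_
      rw [hg, hA2]
  push Not at hK
  obtain ⟨K, hKn, hK4⟩ := hK
  have hzK : z ∈ K := by
    obtain ⟨w, hwK, hw1, hwc⟩ := Cfsg.Agent.H777.PGrp.inf_center_ne_bot h2 (N := K) (by
      rintro rfl
      have h5 := hK4.card_four
      rw [Subgroup.card_bot] at h5
      omega) hKn
    have hww : w * w = 1 := congrArg Subtype.val (IsKleinFour.mul_self (⟨w, hwK⟩ : K))
    rw [← huniq w (hA (Subgroup.mem_center_iff.2 hwc)) hw1 hww]
    exact hwK
  obtain ⟨e, heK, he1, hez⟩ : ∃ e ∈ K, e ≠ 1 ∧ e ≠ z := by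
    by_contra hcon
    push Not at hcon
    have h5 : K ≤ Subgroup.zpowers z := fun x hx => (mem_zpowers_sq hzz).2 (by
      by_cases h1 : x = 1
      · exact Or.inl h1
      · exact Or.inr (hcon x hx h1))
    have h6 := Subgroup.card_le_of_le h5
    rw [hK4.card_four, Nat.card_zpowers] at h6
    have h7 : orderOf z ∣ 2 := orderOf_dvd_of_pow_eq_one (by rw [pow_two, hzz])
    have h8 := Nat.le_of_dvd (by norm_num) h7
    omega
  have hee : e * e = 1 := congrArg Subtype.val (IsKleinFour.mul_self (⟨e, heK⟩ : K))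
  have heC : e ∉ Subgroup.zpowers c := fun h => hez (huniq e h he1 hee)
  have hconj : ∀ g, g * e * g⁻¹ = e ∨ g * e * g⁻¹ = z * e := by
    intro g
    by_cases h1 : g * e * g⁻¹ = e
    · exact Or.inl h1
    right
    have h5 : (⟨g * e * g⁻¹, hKn.conj_mem e heK g⟩ : K) = ⟨z, hzK⟩ * ⟨e, heK⟩ := by
      refine IsKleinFour.eq_mul_of_ne_all ?_ ?_ ?_ ?_ ?_ ?_
      · exact fun h => hz1 (congrArg Subtype.val h)
      · exact fun h => he1 (congrArg Subtype.val h)
      · exact fun h => hez (congrArg Subtype.val h).symm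
      · intro h
        have h6 : g * e * g⁻¹ = 1 := congrArg Subtype.val h
        exact he1 (by simpa using h6)
      · intro h
        have h6 : g * e * g⁻¹ = z := congrArg Subtype.val h
        apply hez
        have h7 : e = g⁻¹ * z * g := by rw [← h6]; group
        rw [h7, hzC, inv_mul_cancel_right]
      · exact fun h => h1 (congrArg Subtype.val h)
    exact congrArg Subtype.val h5
  -- the commutators
  have hcomm : ∃ g h : D, g * h * g⁻¹ * h⁻¹ ∉ Subgroup.zpowers z := by
    by_contra hcon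
    push Not at hcon
    have hcon' : ∀ g h : D, g * h * g⁻¹ * h⁻¹ = 1 ∨ g * h * g⁻¹ * h⁻¹ = z := fun g h =>
      (mem_zpowers_sq hzz).1 (hcon g h)
    set M := Subgroup.centralizer ({c} : Set D) with hM
    have hM2 : M.index ≤ 2 := index_centralizer_le hcon'
    obtain ⟨g, hg⟩ : ∃ g, g ∉ M := by
      by_contra h5
      push Not at h5
      exact hC (Subgroup.mem_center_iff.2 fun x => (mem_centralizer_iff'.1 (h5 x)).symm)
    have hM1 : M.index ≠ 1 := fun h5 => hg (Subgroup.index_eq_one.1 h5 ▸ Subgroup.mem_top g)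
    have hM0 : M.index ≠ 0 := Subgroup.index_ne_zero_of_finite
    have hMi : M.index = 2 := by omega
    have hcM : Subgroup.zpowers c ≤ M := by
      rw [Subgroup.zpowers_le]
      exact mem_centralizer_iff'.2 rfl
    have hrel : ((Subgroup.zpowers c).subgroupOf M).index = 2 := by
      have h5 := Subgroup.relIndex_mul_index hcM
      rw [hMi, h4] at h5
      change (Subgroup.zpowers c).relIndex M = 2
      omega
    have hcx : ∀ a ∈ M, ∀ x ∈ Subgroup.zpowers c, a * x = x * a := by
      intro a ha x hx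
      obtain ⟨k, rfl⟩ := Subgroup.mem_zpowers_iff.1 hx
      exact (Commute.zpow_right (show Commute a c from (mem_centralizer_iff'.1 ha).symm) k).eq
    have hMab : ∀ a ∈ M, ∀ b ∈ M, a * b = b * a := by
      intro a ha b hb
      by_cases h5 : a ∈ Subgroup.zpowers c
      · exact (hcx b hb a h5).symm
      by_cases h6 : b ∈ Subgroup.zpowers c
      · exact hcx a ha b h6
      have h7 := Subgroup.mul_mem_iff_of_index_two hrel (a := (⟨a, ha⟩ : M)) (b := (⟨b, hb⟩ : M)⁻¹)
      rw [inv_mem_iff] at h7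
      have h8 : a * b⁻¹ ∈ Subgroup.zpowers c := h7.2 ⟨fun h => absurd h h5, fun h => absurd h h6⟩
      have h9 := hcx b hb _ h8
      calc a * b = a * b⁻¹ * b * b := by group
        _ = b * (a * b⁻¹) * b := by rw [h9]
        _ = b * a := by group
    have hle : M ⊓ Subgroup.centralizer ({g} : Set D) ≤ Subgroup.center D := by
      rintro x ⟨hx1, hx2⟩
      rw [Subgroup.mem_center_iff]
      intro d
      by_cases hd : d ∈ M
      · exact hMab d hd x hx1
      have h5 := (Subgroup.mul_mem_iff_of_index_two hMi (a := d) (b := g⁻¹))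
      rw [inv_mem_iff] at h5
      have h6 : d * g⁻¹ ∈ M := h5.2 ⟨fun h => absurd h hd, fun h => absurd h hg⟩
      have h7 := hMab _ h6 x hx1
      have h8 := mem_centralizer_iff'.1 hx2
      calc d * x = d * g⁻¹ * (g * x) := by group
        _ = d * g⁻¹ * x * g := by rw [h8]; group
        _ = x * d := by rw [h7]; group
    have h5 : (Subgroup.center D).index ≤ 4 := by
      have h6 := Nat.le_of_dvd (Nat.pos_of_ne_zero Subgroup.index_ne_zero_of_finite) (Subgroup.index_dvd_of_le hle)
      have h7 := Subgroup.index_inf_le (H := M) (K := Subgroup.centralizer ({g} : Set D))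
      have h8 : (Subgroup.centralizer ({g} : Set D)).index ≤ 2 := index_centralizer_le hcon'
      have h9 := Nat.mul_le_mul hM2 h8
      omega
    have h6 := Subgroup.relIndex_mul_index hA
    rw [h4] at h6
    have h7 : (Subgroup.center D).relIndex (Subgroup.zpowers c) = 1 := by
      have h8 : (Subgroup.center D).index ≠ 0 := Subgroup.index_ne_zero_of_finite
      omega
    exact hC (Subgroup.relIndex_eq_one.1 h7 (Subgroup.mem_zpowers c))
  by_cases h8 : 8 ≤ orderOf c
  · exact Or.inr (Or.inr ⟨h4, h8, hA, z, hzc, hz1, hzz, ⟨e, heC, hee, hconj⟩, hcomm⟩)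
  -- `|c| = 4`
  left
  have hpow : ∀ x : D, ∃ k, orderOf x = 2 ^ k := fun x => by
    obtain ⟨k, hk⟩ := IsPGroup.iff_orderOf.1 h2 x
    exact ⟨k, hk⟩
  have hoc : orderOf c = 4 := by
    have h5 : orderOf c ≠ 1 := fun h => hC (orderOf_eq_one_iff.1 h ▸ one_mem _)
    have h6 : orderOf c ≠ 2 := by
      intro h
      have h7 := pow_orderOf_eq_one c
      rw [h, pow_two] at h7
      have h9 := huniq c (Subgroup.mem_zpowers c) (fun h => hC (h ▸ one_mem _)) h7
      exact hC (h9 ▸ hzc)
    obtain ⟨k, hk⟩ := hpow c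
    have h7 : k < 3 := by
      by_contra h
      have : 2 ^ 3 ≤ 2 ^ k := Nat.pow_le_pow_right (by norm_num) (by omega)
      omega
    interval_cases k <;> omega
  have hD : Nat.card D = 16 := by
    rw [← Subgroup.card_mul_index (Subgroup.zpowers c), Nat.card_zpowers, hoc, h4]
  obtain ⟨x, hx⟩ : ∃ x : D, x * x ∉ Subgroup.zpowers z := by
    by_contra hcon
    push Not at hcon
    obtain ⟨g, h, hgh⟩ := hcomm
    apply hgh
    have h5 : g * h * g⁻¹ * h⁻¹ = (g * g) * ((g⁻¹ * h) * (g⁻¹ * h)) * (h * h)⁻¹ := by group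
    rw [h5]
    exact mul_mem (mul_mem (hcon g) (hcon _)) (inv_mem (hcon h))
  have hxx : x * x ≠ 1 := fun h => hx (h ▸ one_mem _)
  obtain ⟨k, hk⟩ := hpow x
  have hk2 : 2 ≤ k := by
    by_contra h
    have h5 := pow_orderOf_eq_one x
    rw [hk] at h5
    interval_cases k
    · rw [pow_zero, pow_one] at h5
      exact hxx (by rw [h5, one_mul])
    · rw [pow_one, pow_two] at h5
      exact hxx h5
  have hix := Subgroup.card_mul_index (Subgroup.zpowers x)
  rw [Nat.card_zpowers, hD, hk] at hix
  by_cases hk3 : k = 2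
  · have h5 : (Subgroup.zpowers x).index ≤ 4 := by
      rw [hk3] at hix
      omega
    refine ⟨z, hzc, x, index_sup_le (fun h => ?_) h5⟩
    have h6 : x * x = z := by
      refine inv_unique (c := x) (mul_mem (Subgroup.mem_zpowers x) (Subgroup.mem_zpowers x))
        (h (Subgroup.mem_zpowers z)) hxx hz1 ?_ hzz
      have h7 := pow_orderOf_eq_one x
      rw [hk, hk3] at h7
      rw [← h7]
      simp only [← pow_two, ← pow_mul]
    exact hx (h6 ▸ Subgroup.mem_zpowers _)
  · refine hone x ?_
    have h5 : 2 ^ 3 ≤ 2 ^ k := Nat.pow_le_pow_right (by norm_num) (by omega)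
    nlinarith

end Cfsg.Agent.H352.FTRed
end

-- part: H645/FT/Main
section
/-!
# Blocks with a defect group with a cyclic subgroup of index at most four
-/

set_option autoImplicit false

open Cfsg Cfsg.FusionSystem

namespace Cfsg.Agent.H645.FT

open Cfsg.Agent.H613.SubSys Cfsg.Agent.H613.SubFus

universe u
variable {G : Type u} [Group G] [Finite G] {M : Ideal AlgInt} {B : Set (IrrCharacter G)}
  {D : Subgroup G}

/-- The bound from a major subsection of rank at most three. -/
theorem card_le_of_center (hM : IsPModular 2 M) (hB : IsPBlock M B)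
    (hD : IsDefectGroup 2 M B D) {z : G} (hzD : z ∈ D) (hzc : ∀ d ∈ D, d * z = z * d)
    (hr : ∀ H : Subgroup G, H = Subgroup.centralizer ({z} : Set G) →
      ∀ b : Set (IrrCharacter H), IsPBlock M b → IsDefectGroup 2 M b (D.subgroupOf H) →
        blockRank 2 b ≤ 3) : Nat.card B ≤ Nat.card D := by
  have hp : Fact (Nat.Prime 2) := ⟨Nat.prime_two⟩
  have := Fintype.ofFinite G
  have hMprime := Cfsg.Agent.Blocks.Local.isPrime_of_isPModular hM
  obtain ⟨f, hf⟩ := Cfsg.Agent.H649.exists_pair_of_isDefectGroup hM hB hD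
  have hmax := Cfsg.Agent.H644.isMaximalBrauerPair_of_isDefectGroup hM hf hD
  obtain ⟨F, hF, hsat⟩ := Cfsg.Agent.S4677.result 2 M hM B D f hmax
  set a : BrauerPairIdx G := ⟨D, f⟩ with ha
  have hsub := isSubsec_bel (a := a) hM hmax hzD
  have hfblk : IsPBlock M (bel 2 M a z).2 := isPBlock_bel hM hmax.1.1 hzD
  have hQS : Subgroup.zpowers z ≤ D := Subgroup.zpowers_le.2 hzD
  have hle : D ≤ Subgroup.centralizer ((Subgroup.zpowers z : Subgroup G) : Set G) := by
    intro g hg
    rw [Cfsg.Agent.H613.SubSys.centralizer_zpowers, Subgroup.mem_centralizer_singleton_iff]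
    exact hzc g hg
  have hfc : F.IsFullyCentralized (Subgroup.zpowers z) := by
    refine ⟨hQS, fun R _ => ?_⟩
    have h1 : centralizerIn D (Subgroup.zpowers z) = D := inf_eq_left.2 hle
    rw [h1]
    exact Nat.card_le_card_of_injective _ (Subgroup.inclusion_injective
      (inf_le_left : centralizerIn D R ≤ D))
  have hdef := (Cfsg.Agent.S4678.result 2 M hM B D f hmax F hF (Subgroup.zpowers z)
    (bel 2 M a z).2 hQS hfblk (bel_snd (a := a) hM hmax.1.1 hzD).2).1 hfc
  rw [inf_eq_left.2 hle] at hdef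
  have key : ∀ (H : Subgroup G) (_ : H = Subgroup.centralizer ({z} : Set G))
      (b : Set (IrrCharacter H)), IsInducedBlock M H b B → IsDefectGroup 2 M b (D.subgroupOf H) →
      blockRank 2 b ≤ 3 → Nat.card B ≤ 2 ^ blockDefect 2 B := by
    rintro H rfl b hb hbD hl
    obtain ⟨h1, h2⟩ := Cfsg.Agent.S4540.result M hM B hB D hD z hzD hzc b hb hbD hl
    have h3 := h1.trans h2
    omega
  have hH := Cfsg.Agent.H613.SubSys.centralizer_zpowers z
  rw [Cfsg.Agent.S0908.result 2 M hM B hB D hD]
  exact key _ hH (bel 2 M a z).2 hsub.ind hdef (hr _ hH _ hfblk hdef)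

theorem main (hM : IsPModular 2 M) (hB : IsPBlock M B)
    (hD : IsDefectGroup 2 M B D) (C : Subgroup G) (hCD : C ≤ D) (hcyc : IsCyclic C)
    (hidx : C.relIndex D ≤ 4) : Nat.card B ≤ Nat.card D := by
  have hp : Fact (Nat.Prime 2) := ⟨Nat.prime_two⟩
  have hDp : IsPGroup 2 D := Cfsg.Agent.Blocks.Basic.isPGroup_of_isDefectGroup hD
  -- a generator
  obtain ⟨c, hc⟩ : ∃ c : D, C.subgroupOf D = Subgroup.zpowers c := by
    obtain ⟨g, hg⟩ := hcyc.exists_generator
    refine ⟨⟨g, hCD g.2⟩, ?_⟩
    ext v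
    rw [Subgroup.mem_subgroupOf]
    constructor
    · intro hv
      obtain ⟨k, hk⟩ := Subgroup.mem_zpowers_iff.1 (hg ⟨v, hv⟩)
      refine Subgroup.mem_zpowers_iff.2 ⟨k, Subtype.ext ?_⟩
      have h1 : ((g ^ k : C) : G) = v := congrArg (fun w : C => (w : G)) hk
      rw [← h1]
      rfl
    · intro hv
      obtain ⟨k, rfl⟩ := Subgroup.mem_zpowers_iff.1 hv
      exact C.zpow_mem g.2 k
  have hci : (Subgroup.zpowers c).index ≤ 4 := by
    rw [← hc]; exact hidx
  -- transport to the centralizer
  have hcz : ∀ z ∈ Subgroup.center D, ∀ d ∈ D, d * (z : G) = z * d := by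
    intro z hz d hd
    exact congrArg Subtype.val (Subgroup.mem_center_iff.1 hz ⟨d, hd⟩)
  have hDH : ∀ z ∈ Subgroup.center D, ∀ H : Subgroup G,
      H = Subgroup.centralizer ({(z : G)} : Set G) → D ≤ H := by
    intro z hz H hH g hg
    rw [hH, Subgroup.mem_centralizer_singleton_iff]
    exact hcz z hz g hg
  have hzH : ∀ (z : D) (hz : z ∈ Subgroup.center D) (H : Subgroup G)
      (hH : H = Subgroup.centralizer ({(z : G)} : Set G)),
      Subgroup.inclusion (hDH z hz H hH) z ∈ Subgroup.center H := by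
    intro z hz H hH
    rw [Subgroup.mem_center_iff]
    intro g
    have h1 := g.2
    have h2 : (g : G) ∈ Subgroup.centralizer ({(z : G)} : Set G) := by rw [← hH]; exact h1
    rw [Subgroup.mem_centralizer_singleton_iff] at h2
    exact Subtype.ext h2
  have hrange : ∀ (H : Subgroup G) (hle : D ≤ H),
      (⊤ : Subgroup D).map (Subgroup.inclusion hle) = D.subgroupOf H := by
    intro H hle
    rw [← MonoidHom.range_eq_map, Subgroup.inclusion_range]
  have hrel : ∀ (H : Subgroup G) (hle : D ≤ H) (K : Subgroup D),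
      (K.map (Subgroup.inclusion hle)).relIndex (D.subgroupOf H) = K.index := by
    intro H hle K
    rw [← hrange H hle, Subgroup.relIndex_map_map_of_injective _ _
      (Subgroup.inclusion_injective hle), Subgroup.relIndex_top_right]
  have hpz : ∀ (H : Subgroup G) (hle : D ≤ H) (z : D),
      IsPGroup 2 (Subgroup.zpowers (Subgroup.inclusion hle z)) := by
    intro H hle z
    have h1 : Subgroup.zpowers (Subgroup.inclusion hle z) =
        (Subgroup.zpowers z).map (Subgroup.inclusion hle) := (MonoidHom.map_zpowers _ _).symm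
    rw [h1]
    exact (hDp.to_subgroup _).map _
  rcases Cfsg.Agent.H352.FTRed.cases hDp c hci with ⟨z, hz, x, hx⟩ | ⟨z, hz, hi⟩ |
      ⟨hi, hoc, hcen, z, hz, hz1, hzz, ⟨e, hec, hee, hnorm⟩, g, h, hgh⟩
  · refine card_le_of_center hM hB hD z.2 (hcz z hz) fun H hH b hb hbD => ?_
    have hle := hDH z hz H hH
    refine rank_le_three_of_cyclic hM hb hbD (hzH z hz H hH) (hpz H hle z)
      (x := Subgroup.inclusion hle x) x.2 ?_
    have h1 : Subgroup.zpowers (Subgroup.inclusion hle x) ⊔
        Subgroup.zpowers (Subgroup.inclusion hle z) =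
        (Subgroup.zpowers x ⊔ Subgroup.zpowers z).map (Subgroup.inclusion hle) := by
      rw [Subgroup.map_sup, MonoidHom.map_zpowers, MonoidHom.map_zpowers]
    rw [h1, hrel H hle]
    exact hx
  · refine card_le_of_center hM hB hD z.2 (hcz z hz) fun H hH b hb hbD => ?_
    have hle := hDH z hz H hH
    refine rank_le_three_of_small hM hb hbD (hzH z hz H hH) (hpz H hle z) ?_
    have h1 : Subgroup.zpowers (Subgroup.inclusion hle z) =
        (Subgroup.zpowers z).map (Subgroup.inclusion hle) := (MonoidHom.map_zpowers _ _).symm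
    rw [h1, hrel H hle]
    exact hi
  · refine card_le_of_center hM hB hD z.2 (hcz z hz) fun H hH b hb hbD => ?_
    have hle := hDH z hz H hH
    have hinj := Subgroup.inclusion_injective hle
    have hmz : ∀ v w : D, Subgroup.inclusion hle v ∈ Subgroup.zpowers (Subgroup.inclusion hle w) ↔
        v ∈ Subgroup.zpowers w := by
      intro v w
      rw [← MonoidHom.map_zpowers]
      exact Subgroup.mem_map_iff_mem hinj
    refine rank_le_three_of_config hM hb hbD (z := Subgroup.inclusion hle z)
      (c := Subgroup.inclusion hle c) (e := Subgroup.inclusion hle e) (hzH z hz H hH) ?_ ?_ c.2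
      ((hmz z c).2 (hcen hz)) ?_ ?_ e.2 (fun h1 => hec ((hmz e c).1 h1)) ?_ ?_ ?_
    · intro h1
      exact hz1 (hinj (h1.trans (map_one _).symm))
    · rw [← map_mul, hzz, map_one]
    · rw [orderOf_injective _ hinj]
      exact hoc
    · rw [← MonoidHom.map_zpowers, hrel H hle]
      exact hi
    · rw [← map_mul, hee, map_one]
    · intro v hv
      have hv' : (v : G) ∈ D := hv
      have h2 : v = Subgroup.inclusion hle ⟨v, hv'⟩ := rfl
      rw [h2, ← map_inv, ← map_mul, ← map_mul, ← map_mul]
      rcases hnorm ⟨v, hv'⟩ with h3 | h3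
      · exact Or.inl (congrArg _ h3)
      · exact Or.inr (congrArg _ h3)
    · refine ⟨Subgroup.inclusion hle g, g.2, Subgroup.inclusion hle h, h.2, ?_⟩
      rw [← map_inv, ← map_inv, ← map_mul, ← map_mul, ← map_mul, hmz]
      exact hgh

end Cfsg.Agent.H645.FT
end

-- part: S4544
section
set_option autoImplicit false
open Cfsg

namespace Cfsg.Agent.S4544

/-- Let B be a 2-block of the finite group G (relative to a maximal ideal M of the algebraic integers containing 2) whose defect group D contains a cyclic subgroup of index at most 4 in D. Then B contains at most as many irreducible characters as D has elements. -/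
theorem result {G : Type*} [Group G] [Finite G] (M : Ideal Cfsg.AlgInt) (hM : Cfsg.IsPModular 2 M) (B : Set (Cfsg.IrrCharacter G)) (hB : Cfsg.IsPBlock M B) (D : Subgroup G) (hD : Cfsg.IsDefectGroup 2 M B D) (C : Subgroup G) (hCD : C ≤ D) (hcyc : IsCyclic C) (hidx : C.relIndex D ≤ 4) : Nat.card B ≤ Nat.card D := by
  exact Cfsg.Agent.H645.FT.main hM hB hD C hCD hcyc hidx

end Cfsg.Agent.S4544
end
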