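import Cfsg.Agent.H547.Two.T5
import Cfsg.Agent.H617.Two.Defs
import Cfsg.Agent.S0112
import Cfsg.Agent.S0113
import Mathlib
import Cfsg.Agent.H618.TwoT2
import Cfsg.Agent.H767.EssFrat
import Cfsg.Agent.H530.KulMax
import Cfsg.Agent.Lib.FrattiniPGroup
import Cfsg.Agent.H802.FusEss
import Cfsg.Agent.H802.FusAlp
import Cfsg.Agent.S5080
import Cfsg.Agent.H658.Major
import Cfsg.Agent.H613.CycFus_mg
import Cfsg.Agent.S0973
import Cfsg.Agent.S0908
import Cfsg.Agent.S4540
import Cfsg.Agent.S4677
import Cfsg.Agent.S4686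
import Cfsg.Statements.S4543
import Cfsg.Agent.S4542
import Cfsg.Agent.S4544
set_option linter.all false

-- part: H538/Two/Index
section
/-!
# S4543, T4: `|Q| = 32`, `|R| = 8`
-/

set_option autoImplicit false

namespace Cfsg.Agent.H538.Two

open Subgroup Cfsg.Agent.H617.Two

theorem exists_pow_of_gen {E : Type*} [Group E] [Finite E] {u v : E} (huv : u * v = v * u)
    (hgen : closure ({u, v} : Set E) = ⊤) (x : E) : ∃ i j : ℕ, x = u ^ i * v ^ j := by
  have hc : Commute u v := huv
  have h1 : ∀ (w : E) (i : ℕ), (w ^ i)⁻¹ = w ^ ((orderOf w - 1) * i) := by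
    intro w i
    have hk := orderOf_pos w
    rw [inv_eq_iff_mul_eq_one, ← pow_add]
    have : i + (orderOf w - 1) * i = orderOf w * i := by
      obtain ⟨k, hk'⟩ : ∃ k', orderOf w = k' + 1 := ⟨orderOf w - 1, by omega⟩
      rw [hk']; simp; ring
    rw [this, pow_mul, pow_orderOf_eq_one, one_pow]
  have hx : x ∈ closure ({u, v} : Set E) := by rw [hgen]; trivial
  induction hx using Subgroup.closure_induction with
  | mem x hx =>
    rcases hx with rfl | hx
    · exact ⟨1, 0, by simp⟩
    · rw [Set.mem_singleton_iff] at hx; subst hx; exact ⟨0, 1, by simp⟩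
  | one => exact ⟨0, 0, by simp⟩
  | mul x y _ _ hx hy =>
    obtain ⟨i, j, rfl⟩ := hx
    obtain ⟨k, l, rfl⟩ := hy
    refine ⟨i + k, j + l, ?_⟩
    rw [pow_add, pow_add]
    have := (hc.pow_pow k j).eq
    calc u ^ i * v ^ j * (u ^ k * v ^ l) = u ^ i * (v ^ j * u ^ k) * v ^ l := by group
      _ = u ^ i * (u ^ k * v ^ j) * v ^ l := by rw [← this]
      _ = _ := by group
  | inv x _ hx =>
    obtain ⟨i, j, rfl⟩ := hx
    refine ⟨(orderOf u - 1) * i, (orderOf v - 1) * j, ?_⟩
    rw [mul_inv_rev, (hc.pow_pow ((orderOf u - 1) * i) ((orderOf v - 1) * j)).eq, h1 v j, h1 u i]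

/-- Two commuting generators: the order of a group. -/
theorem card_le_of_gen {E : Type*} [Group E] [Finite E] {u v : E} (huv : u * v = v * u)
    (hgen : closure ({u, v} : Set E) = ⊤) {m n : ℕ} (hu : u ^ m = 1) (hv : v ^ n = 1) (hm : 0 < m)
    (hn : 0 < n) : Nat.card E ≤ m * n := by
  let f : Fin m × Fin n → E := fun p => u ^ (p.1 : ℕ) * v ^ (p.2 : ℕ)
  have hf : Function.Surjective f := by
    intro x
    obtain ⟨i, j, rfl⟩ := exists_pow_of_gen huv hgen x
    refine ⟨(⟨i % m, Nat.mod_lt _ hm⟩, ⟨j % n, Nat.mod_lt _ hn⟩), ?_⟩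
    change u ^ (i % m) * v ^ (j % n) = u ^ i * v ^ j
    have h1 : ∀ (w : E) (k i : ℕ), w ^ k = 1 → w ^ (i % k) = w ^ i := by
      intro w k i hw
      conv_rhs => rw [← Nat.mod_add_div i k, pow_add, pow_mul, hw, one_pow, mul_one]
    rw [h1 u m i hu, h1 v n j hv]
  have := Nat.card_le_card_of_surjective f hf
  simpa using this

theorem T4 {D : Type*} [Group D] [Finite D] (hG : Good D) {Q R : Subgroup D} {y p q : D}
    (h : Str Q R y p q) (hQ : Nat.card Q = 32) : False := by
  have h2 : IsPGroup 2 D := IsPGroup.of_card (n := 6) (by rw [hG.card]; norm_num)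
  have hindex : Q.index = 2 := by
    have := Q.card_mul_index
    rw [hQ, hG.card] at this
    omega
  -- every element is in `Q` or in `y Q`
  have hcov : ∀ N : Subgroup D, R ≤ N → p ∈ N → q ∈ N → y ∈ N → N = ⊤ := by
    intro N hR hp hq hy
    have hQN : Q ≤ N := by
      intro x hx
      obtain ⟨r, hr, h1 | h1 | h1 | h1⟩ := h.cover x hx
      · rw [h1]; exact hR hr
      · rw [h1]; exact N.mul_mem hp (hR hr)
      · rw [h1]; exact N.mul_mem hq (hR hr)
      · rw [h1]; exact N.mul_mem (N.mul_mem hp hq) (hR hr)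
    rw [eq_top_iff]
    intro d _
    by_cases hd : d ∈ Q
    · exact hQN hd
    · have h1 : y⁻¹ * d ∈ Q := by
        rw [Subgroup.mul_mem_iff_of_index_two hindex, inv_mem_iff]
        exact iff_of_false h.yQ hd
      have : d = y * (y⁻¹ * d) := by group
      rw [this]
      exact N.mul_mem hy (hQN h1)
  -- `R` is normal
  have hRtop : normalizer (R : Set D) = ⊤ := by
    refine hcov _ Subgroup.le_normalizer ?_ ?_ ?_
    · refine Subgroup.mem_normalizer_fintype fun r hr => ?_
      have : p * r * p⁻¹ = r := by rw [h.pc r hr]; group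
      rw [this]; exact hr
    · refine Subgroup.mem_normalizer_fintype fun r hr => ?_
      have : q * r * q⁻¹ = r := by rw [h.qc r hr]; group
      rw [this]; exact hr
    · exact Subgroup.mem_normalizer_fintype fun r hr => h.yR r hr
  have hRn : R.Normal := Subgroup.normalizer_eq_top_iff.1 hRtop
  -- `|R| = 8`
  have hR8 : Nat.card R = 8 := by
    have hge : 8 ≤ Nat.card R := by
      let f : Fin 4 × R → Q := fun x => ⟨(![1, p, q, p * q] x.1) * x.2, Q.mul_mem (by
        obtain ⟨i, r⟩ := x
        fin_cases i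
        · exact Q.one_mem
        · exact h.pQ
        · exact h.qQ
        · exact Q.mul_mem h.pQ h.qQ) (h.RQ x.2.2)⟩
      have hf : Function.Surjective f := by
        rintro ⟨x, hx⟩
        obtain ⟨r, hr, h1 | h1 | h1 | h1⟩ := h.cover x hx
        · exact ⟨(0, ⟨r, hr⟩), Subtype.ext (by change 1 * r = x; rw [h1, one_mul])⟩
        · exact ⟨(1, ⟨r, hr⟩), Subtype.ext (by change p * r = x; rw [h1])⟩
        · exact ⟨(2, ⟨r, hr⟩), Subtype.ext (by change q * r = x; rw [h1])⟩
        · exact ⟨(3, ⟨r, hr⟩), Subtype.ext (by change p * q * r = x; rw [h1])⟩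
      have h3 := Nat.card_le_card_of_surjective f hf
      rw [hQ, Nat.card_prod, Nat.card_eq_fintype_card, Fintype.card_fin] at h3
      omega
    have hdvd : Nat.card R ∣ 32 := by rw [← hQ]; exact Subgroup.card_dvd_of_le h.RQ
    have hne32 : Nat.card R ≠ 32 := by
      intro h3
      exact h.pR (by rw [Subgroup.eq_of_le_of_card_ge h.RQ (by rw [h3, hQ])]; exact h.pQ)
    have hne16 : Nat.card R ≠ 16 := by
      intro h3
      have hi : (R.subgroupOf Q).index = 2 := by
        have h4 := (R.subgroupOf Q).card_mul_index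
        rw [Nat.card_congr (Subgroup.subgroupOfEquivOfLe h.RQ).toEquiv, h3, hQ] at h4
        omega
      have h5 := Subgroup.mul_mem_iff_of_index_two hi (a := ⟨p, h.pQ⟩) (b := ⟨q, h.qQ⟩)
      rw [Subgroup.mem_subgroupOf, Subgroup.mem_subgroupOf, Subgroup.mem_subgroupOf] at h5
      exact h.pqR (h5.2 (iff_of_false h.pR h.qR))
    have hle : Nat.card R ≤ 32 := Nat.le_of_dvd (by norm_num) hdvd
    interval_cases hc : Nat.card R <;> first | rfl | omega
  have hRi : R.index = 8 := by
    have := R.card_mul_index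
    rw [hR8, hG.card] at this
    omega
  -- the partner of `q`
  obtain ⟨g, hg⟩ := T0 h2 hG.gen R hRi (q := q) (g := y) (by
    have : y * q * y⁻¹ * q⁻¹ = p := by rw [h.yq]; group
    rw [this]; exact h.pR)
  -- `P = ⟨p⟩` is normal
  set P : Subgroup D := zpowers p with hP
  have hpP : p ∈ P := mem_zpowers p
  have hmemP : ∀ x : D, x * p * x⁻¹ ∈ P → x ∈ normalizer (P : Set D) := by
    intro x hx
    refine Subgroup.mem_normalizer_fintype fun r hr => ?_
    obtain ⟨k, rfl⟩ := Subgroup.mem_zpowers_iff.1 hr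
    have : x * p ^ k * x⁻¹ = (x * p * x⁻¹) ^ k := by rw [conj_zpow]
    rw [this]
    exact P.zpow_mem hx k
  have hqpq : q * p * q⁻¹ = p * p * p := by
    have h1 : p * q = p * p * (q * p) := h.comm
    have h3 : q * p = p * p * p * q := by
      calc q * p = (p * p * (p * p)) * (q * p) := by rw [h.pppp, one_mul]
        _ = p * p * (p * p * (q * p)) := by group
        _ = p * p * (p * q) := by rw [← h1]
        _ = p * p * p * q := by group
    rw [h3]; group
  have hPtop : normalizer (P : Set D) = ⊤ := by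
    refine hcov _ (fun r hr => ?_) ?_ ?_ ?_
    · refine hmemP r ?_
      have : r * p * r⁻¹ = p := by rw [← h.pc r hr]; group
      rw [this]; exact hpP
    · exact Subgroup.le_normalizer hpP
    · refine hmemP q ?_
      rw [hqpq]; exact P.mul_mem (P.mul_mem hpP hpP) hpP
    · refine hmemP y ?_
      rw [h.yp]; exact P.mul_mem (P.mul_mem hpP hpP) hpP
  have hPn : P.Normal := Subgroup.normalizer_eq_top_iff.1 hPtop
  -- `q` is central modulo `P`
  set π : D →* D ⧸ P := QuotientGroup.mk' P with hπ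
  have hπp : π p = 1 := (QuotientGroup.eq_one_iff _).2 hpP
  have hqc : ∀ d : D, π d * π q = π q * π d := by
    have hN : (centralizer {π q}).comap π = ⊤ := by
      refine hcov _ (fun r hr => ?_) ?_ ?_ ?_
      · rw [Subgroup.mem_comap, Subgroup.mem_centralizer_singleton_iff, ← map_mul, ← map_mul,
          h.qc r hr]
      · rw [Subgroup.mem_comap, hπp]; exact Subgroup.one_mem _
      · rw [Subgroup.mem_comap, Subgroup.mem_centralizer_singleton_iff]
      · rw [Subgroup.mem_comap, Subgroup.mem_centralizer_singleton_iff]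
        have : π (y * q * y⁻¹) = π q := by rw [h.yq, map_mul, hπp, one_mul]
        rw [map_mul, map_mul, map_inv, mul_inv_eq_iff_eq_mul] at this
        exact this
    intro d
    have hd : d ∈ (centralizer {π q}).comap π := by rw [hN]; trivial
    rw [Subgroup.mem_comap, Subgroup.mem_centralizer_singleton_iff] at hd
    exact hd
  have hqq : π q ^ 2 = 1 := by
    rw [pow_two, ← map_mul, h.qq, map_mul, hπp, one_mul]
  have hgen' : closure ({π q, π g} : Set (D ⧸ P)) = ⊤ := by
    have h1 : closure ({π q, π g} : Set (D ⧸ P)) = (closure ({q, g} : Set D)).map π := by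
      rw [MonoidHom.map_closure]
      congr 1
      ext x; simp [eq_comm]
    rw [h1, hg, ← MonoidHom.range_eq_map, MonoidHom.range_eq_top]
    exact QuotientGroup.mk'_surjective P
  have hcardP : Nat.card D = Nat.card (D ⧸ P) * Nat.card P :=
    Subgroup.card_eq_card_quotient_mul_card_subgroup P
  have hcardP' : Nat.card P = orderOf p := Nat.card_zpowers p
  have hbound : ∀ n, 0 < n → π g ^ n = 1 → Nat.card (D ⧸ P) ≤ 2 * n := fun n hn hgn =>
    card_le_of_gen (hqc g).symm hgen' hqq hgn (by norm_num) hn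
  have hg8 : π g ^ 8 = 1 := by rw [← map_pow, hG.exp, map_one]
  by_cases hs : p * p = 1
  · have h1 : orderOf p ≤ 2 := Nat.le_of_dvd (by norm_num) (orderOf_dvd_of_pow_eq_one (by
      rw [pow_two, hs]))
    have h3 := hbound 8 (by norm_num) hg8
    rw [hcardP', hG.card] at hcardP
    nlinarith
  · have h1 : orderOf p ≤ 4 := Nat.le_of_dvd (by norm_num) (orderOf_dvd_of_pow_eq_one (by
      have h3 : p ^ 4 = p * p * (p * p) := by rw [pow_succ, pow_succ, pow_two]; group
      rw [h3, h.pppp]))
    have hPQ : P ≤ Q := by rw [hP, Subgroup.zpowers_le]; exact h.pQ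
    have hgQ : g ∉ Q := by
      intro hgQ
      have h3 : closure ({q, g} : Set D) ≤ Q := by
        rw [Subgroup.closure_le]
        rintro x (rfl | hx)
        · exact h.qQ
        · rw [Set.mem_singleton_iff] at hx; subst hx; exact hgQ
      rw [hg, top_le_iff] at h3
      rw [h3, Subgroup.index_top] at hindex
      omega
    -- the centralizer of `y²`
    set C : Subgroup D := centralizer {y * y} with hC
    have hpC : p ∈ C := by
      rw [hC, Subgroup.mem_centralizer_singleton_iff, h.pc _ h.yy]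
    have hqC : q ∈ C := by
      rw [hC, Subgroup.mem_centralizer_singleton_iff, h.qc _ h.yy]
    have hyC : y ∈ C := by
      rw [hC, Subgroup.mem_centralizer_singleton_iff, mul_assoc]
    have hPC : P ≤ C := by rw [hP, Subgroup.zpowers_le]; exact hpC
    obtain ⟨i, j, hij⟩ := exists_pow_of_gen (hqc g).symm hgen' (π y)
    have hmem : (q ^ i * g ^ j)⁻¹ * y ∈ P := by
      rw [← QuotientGroup.eq_one_iff (N := P)]
      change π ((q ^ i * g ^ j)⁻¹ * y) = 1
      rw [map_mul, map_inv, map_mul, map_pow, map_pow, ← hij, inv_mul_cancel]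
    have hjodd : Odd j := by
      rw [← Nat.not_even_iff_odd]
      rintro ⟨k, rfl⟩
      have h3 : g ^ (k + k) ∈ Q := by
        rw [← two_mul, pow_mul]
        exact Q.pow_mem (Subgroup.sq_mem_of_index_two hindex g) k
      apply h.yQ
      have : y = q ^ i * g ^ (k + k) * ((q ^ i * g ^ (k + k))⁻¹ * y) := by group
      rw [this]
      exact Q.mul_mem (Q.mul_mem (Q.pow_mem h.qQ i) h3) (hPQ hmem)
    have hgjC : g ^ j ∈ C := by
      have : g ^ j = (q ^ i)⁻¹ * (y * ((q ^ i * g ^ j)⁻¹ * y)⁻¹) := by group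
      rw [this]
      exact C.mul_mem (C.inv_mem (C.pow_mem hqC i)) (C.mul_mem hyC (C.inv_mem (hPC hmem)))
    obtain ⟨k, hk⟩ := hjodd
    have hgC : g ∈ C := by
      have h3 : g = (g ^ j) ^ j := by
        rw [← pow_mul]
        obtain ⟨m, hm⟩ : ∃ m, j * j = 8 * m + 1 := by
          have : j * j % 8 = 1 := by
            have h4 : j % 8 = 1 ∨ j % 8 = 3 ∨ j % 8 = 5 ∨ j % 8 = 7 := by omega
            rcases h4 with h4 | h4 | h4 | h4 <;> rw [Nat.mul_mod, h4]
          exact ⟨j * j / 8, by omega⟩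
        rw [hm, pow_add, pow_mul, hG.exp, one_pow, one_mul, pow_one]
      rw [h3]; exact C.pow_mem hgjC j
    have hCtop : C = ⊤ := by
      rw [eq_top_iff, ← hg, Subgroup.closure_le]
      rintro x (rfl | hx)
      · exact hqC
      · rw [Set.mem_singleton_iff] at hx; subst hx; exact hgC
    have hyyZ : y * y ∈ center D := by
      rw [Subgroup.mem_center_iff]
      intro d
      have hd : d ∈ C := by rw [hCtop]; trivial
      rw [hC, Subgroup.mem_centralizer_singleton_iff] at hd
      exact hd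
    have hy4 : y ^ 4 = 1 := by
      have h3 : y ^ 4 = y * y * (y * y) := by rw [pow_succ, pow_succ, pow_two]; group
      rw [h3, hG.centre _ hyyZ]
    have hg4 : π g ^ 4 = 1 := by
      have h3 : π y ^ 4 = 1 := by rw [← map_pow, hy4, map_one]
      have hc : Commute (π q) (π g) := (hqc g).symm
      rw [hij, (hc.pow_pow i j).mul_pow, ← pow_mul, ← pow_mul, mul_comm i 4, mul_comm j 4,
        show 4 * i = 2 * (2 * i) by ring, pow_mul, hqq, one_pow, one_mul, hk,
        show 4 * (2 * k + 1) = 8 * k + 4 by ring, pow_add, pow_mul, hg8, one_pow, one_mul] at h3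
      exact h3
    have h3 := hbound 4 (by norm_num) hg4
    rw [hcardP', hG.card] at hcardP
    nlinarith

end Cfsg.Agent.H538.Two
end

-- part: H763/Two/T9
section
/-!
# S4543: T9 and T7b (tasks 2324, 2322 of helper617)
-/

set_option autoImplicit false

namespace Cfsg.Agent.H763.Two

open Subgroup Cfsg.Agent.H617.Two

/-- T9: the case `|Q| = 8` -/
theorem T9 {D : Type*} [Group D] [Finite D] (hG : Good D) {Q : Subgroup D} (hQ : Nat.card Q = 8)
    {z : D} (hz : z ∈ center D) (hz1 : z ≠ 1) (hzQ : z ∈ Q)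
    (hself : ∀ x : D, (∀ q ∈ Q, x * q = q * x ∨ x * q = z * (q * x)) → x ∈ Q) : False := by
  classical
  have : Fact (Nat.Prime 2) := ⟨Nat.prime_two⟩
  have hzz : z * z = 1 := hG.centre z hz
  have hzo : orderOf z = 2 := orderOf_eq_prime (by rw [pow_two]; exact hzz) hz1
  set Z : Subgroup D := zpowers z with hZ
  have hZn : Z.Normal := by
    refine ⟨fun n hn g => ?_⟩
    have h1 : n ∈ center D := (show Z ≤ center D by rw [hZ, zpowers_le]; exact hz) hn
    rw [mem_center_iff.1 h1 g, mul_inv_cancel_right]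
    exact hn
  have hZc : Nat.card Z = 2 := by rw [hZ, Nat.card_zpowers, hzo]
  have hZQ : Z ≤ Q := by rw [hZ, zpowers_le]; exact hzQ
  have hZmem : ∀ x ∈ Z, x = 1 ∨ x = z := by
    intro x hx
    rw [hZ, mem_zpowers_iff_mem_range_orderOf, hzo] at hx
    simp only [Finset.range_add_one, Finset.range_zero, Finset.image_insert, Finset.image_empty, pow_one, pow_zero] at hx
    simp only [Finset.mem_insert, insert_empty_eq, Finset.mem_singleton] at hx
    exact hx.symm
  have hcard : Nat.card (D ⧸ Z) = 2 ^ 5 := by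
    have h1 := card_eq_card_quotient_mul_card_subgroup Z
    rw [hG.card, hZc] at h1
    omega
  let A : Subgroup (D ⧸ Z) := Q.map (QuotientGroup.mk' Z)
  have hA : Nat.card A = 4 := by
    have h1 : Nat.card Q = Nat.card A * Nat.card Z := by
      let f : Q →* D ⧸ Z := (QuotientGroup.mk' Z).comp Q.subtype
      have h2 := card_eq_card_quotient_mul_card_subgroup f.ker
      have h3 : Nat.card (Q ⧸ f.ker) = Nat.card A := by
        rw [Nat.card_congr (QuotientGroup.quotientKerEquivRange f).toEquiv]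
        have : f.range = A := by rw [MonoidHom.range_comp, Q.range_subtype]
        rw [this]
      have h4 : f.ker = Z.subgroupOf Q := by
        rw [← MonoidHom.comap_ker, QuotientGroup.ker_mk']
        rfl
      have h5 : Nat.card (Z.subgroupOf Q) = Nat.card Z := Nat.card_congr (subgroupOfEquivOfLe hZQ).toEquiv
      rw [h3, h4, h5] at h2
      exact h2
    rw [hQ, hZc] at h1
    omega
  have hAcomm : ∀ a ∈ A, ∀ b ∈ A, a * b = b * a := by
    intro a ha b hb
    have h1 : IsMulCommutative A := IsPGroup.isMulCommutative_of_card_eq_prime_sq (p := 2) (by rw [hA]; norm_num)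
    have := h1.is_comm.comm ⟨a, ha⟩ ⟨b, hb⟩
    exact congrArg Subtype.val this
  have hC : centralizer (A : Set (D ⧸ Z)) = A := by
    apply le_antisymm
    · intro x hx
      obtain ⟨x, rfl⟩ := QuotientGroup.mk'_surjective Z x
      refine ⟨x, hself x fun q hq => ?_, rfl⟩
      have h1 := hx (QuotientGroup.mk' Z q) ⟨q, hq, rfl⟩
      rw [← map_mul, ← map_mul, QuotientGroup.mk'_apply, QuotientGroup.mk'_apply, QuotientGroup.eq] at h1
      rcases hZmem _ h1 with h2 | h2
      · left
        rw [inv_mul_eq_one] at h2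
        exact h2.symm
      · right
        rw [inv_mul_eq_iff_eq_mul] at h2
        rw [h2]
        exact mem_center_iff.1 hz _
    · intro x hx y hy
      exact hAcomm y hy x hx
  have h1 := Cfsg.Agent.S0112.result (p := 2) 5 hcard A (by rw [hA]; norm_num) hC
  obtain ⟨C, hC1, hC2⟩ := Cfsg.Agent.S0113.result 5 (by norm_num) hcard h1
  obtain ⟨c, hc⟩ := hC1.exists_generator
  have hcc : Nat.card C = 16 := by
    have := card_mul_index C
    rw [hC2, hcard] at this
    omega
  have hco : orderOf c = 16 := by rw [orderOf_eq_card_of_forall_mem_zpowers hc, hcc]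
  obtain ⟨x, hx⟩ := QuotientGroup.mk'_surjective Z (c : D ⧸ Z)
  have h8 : (c : D ⧸ Z) ^ 8 = 1 := by rw [← hx, ← map_pow, hG.exp, map_one]
  have h8' : c ^ 8 = 1 := Subtype.ext (by simpa using h8)
  have h9 := orderOf_dvd_of_pow_eq_one h8'
  rw [hco] at h9
  omega

/-- T7b: the last case determines `z` -/
theorem T7b {D : Type*} [Group D] [Finite D] (hG : Good D) {Q Q' : Subgroup D} {z z' : D}
    (h : Last Q z) (h' : Last Q' z') (hz : z ∈ center D) (hz' : z' ∈ center D) : z = z' := by
  by_contra hne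
  have hz1 : z ≠ 1 := by
    rintro rfl
    obtain ⟨x, hx, w, hw, hxw⟩ := h.nonab
    rcases h.comm x hx w hw with h1 | h1
    · exact hxw h1
    · rw [one_mul] at h1; exact hxw h1
  have hidx : ∀ {P : Subgroup D}, Nat.card P = 32 → P.index = 2 := by
    intro P hP
    have := card_mul_index P
    rw [hP, hG.card] at this
    omega
  have hi := hidx h.card
  have hi' := hidx h'.card
  have hsq : ∀ x : D, x * x ∈ Q := fun x => mul_self_mem_of_index_two hi x
  have hsq' : ∀ x : D, x * x ∈ Q' := fun x => mul_self_mem_of_index_two hi' x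
  have hcen : ∀ {P : Subgroup D} {u v : D}, Last P u → v ∈ center D → v ∈ P := fun hP hv =>
    hP.cent _ fun q _ => (mem_center_iff.1 hv q).symm
  -- `Q ≠ Q'`
  have hQQ : Q ≠ Q' := by
    rintro rfl
    obtain ⟨x, hx, w, hw, hxw⟩ := h.nonab
    rcases h.comm x hx w hw with h1 | h1
    · exact hxw h1
    · rcases h'.comm x hx w hw with h2 | h2
      · exact hxw h2
      · rw [h1] at h2
        exact hne (mul_right_cancel h2)
  -- the centres
  have hle : ∀ {P P' : Subgroup D} {u u' : D}, Last P u → Last P' u' → u ∈ center D → (∀ x : D, x * x ∈ P') →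
      ∀ x ∈ P, (∀ w ∈ P, x * w = w * x) → x ∈ P' ∧ ∀ w ∈ P', x * w = w * x := by
    intro P P' u u' hP hP' hu hs x hx hxc
    have h1 : x ∈ P' := by
      obtain ⟨v, -, hv | hv⟩ := hP.centre_sq x hx hxc
      · rw [hv]; exact hs v
      · rw [hv]; exact mul_mem (hs v) (hcen hP' hu)
    refine ⟨h1, ?_⟩
    by_contra hcon
    exact hP'.not_centre x h1 hcon (hP.centre_el x hx hxc)
  obtain ⟨x, hx, hxc, hxn⟩ := h.not_central
  apply hxn
  have h1 := hle h h' hz hsq' x hx hxc
  -- `D = Q Q'`
  have hsup : Q ⊔ Q' = ⊤ := by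
    have h2 : Q < Q ⊔ Q' := by
      refine lt_of_le_of_ne le_sup_left fun h3 => ?_
      have h4 : Q' ≤ Q := by rw [h3]; exact le_sup_right
      exact hQQ (eq_of_le_of_card_ge h4 (by rw [h.card, h'.card])).symm
    have h3 := relIndex_mul_index h2.le
    rw [hi] at h3
    have h4 : Q.relIndex (Q ⊔ Q') ≠ 1 := by
      intro h5
      rw [relIndex_eq_one] at h5
      exact h2.not_ge h5
    have h6 : (Q ⊔ Q').index ∣ 2 := Dvd.intro_left _ h3
    rcases (Nat.dvd_prime Nat.prime_two).1 h6 with h7 | h7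
    · exact index_eq_one.1 h7
    · rw [h7] at h3
      omega
  have h2 : Q ⊔ Q' ≤ centralizer ({x} : Set D) := by
    refine sup_le (fun w hw => ?_) (fun w hw => ?_)
    · rw [mem_centralizer_singleton_iff]
      exact (hxc w hw).symm
    · rw [mem_centralizer_singleton_iff]
      exact (h1.2 w hw).symm
  rw [hsup] at h2
  rw [mem_center_iff]
  intro g
  exact mem_centralizer_singleton_iff.1 (h2 (mem_top g))

end Cfsg.Agent.H763.Two
end

-- part: H809/Two/Struct
section
/-!
# S4543, T3: the structure of `Q` (helper809)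
-/

set_option autoImplicit false

namespace Cfsg.Agent.H809.Two.Struct

open Subgroup Cfsg.Agent.H617.Two

section

variable {G : Type*} [Group G] [Finite G] (h2 : IsPGroup 2 G) (α : G →* G) (hα : ∀ g, α (α (α g)) = g)
  (R : Subgroup G) (hR : ∀ x, x ∈ R ↔ α x = x) (hidx : R.index = 4)

omit [Finite G] in
include hα hR in
theorem mem_iff (x : G) : α x ∈ R ↔ x ∈ R := by
  rw [hR, hR]
  constructor
  · intro h
    have h1 : α (α (α x)) = α (α x) := by rw [h, h]
    rw [hα, h] at h1
    exact h1.symm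
  · intro h
    rw [h, h]

omit [Finite G] in
include h2 hα hR in
/-- (i) -/
theorem not_mem {x : G} (hx : x ∉ R) : x⁻¹ * α x ∉ R := by
  intro h
  obtain ⟨v, hv⟩ : ∃ v, v = x⁻¹ * α x := ⟨_, rfl⟩
  rw [← hv] at h
  have hv1 : α v = v := (hR v).1 h
  have h1 : α x = x * v := by rw [hv, mul_inv_cancel_left]
  have h3 : x * (v * v * v) = x := by
    have e2 : α (α x) = x * v * v := by rw [h1, map_mul, h1, hv1]
    have e3 : α (α (α x)) = x * v * v * v := by rw [e2, map_mul, map_mul, h1, hv1]
    rw [hα] at e3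
    rw [← mul_assoc, ← mul_assoc, ← e3]
  have h5 : v ^ 3 = 1 := by
    have : v * v * v = 1 := mul_left_cancel (h3.trans (mul_one x).symm)
    rw [pow_succ, pow_two, this]
  obtain ⟨k, hk⟩ := h2 v
  have h6 : v = 1 := by
    have hco : Nat.Coprime 3 (2 ^ k) := Nat.Coprime.pow_right k (by decide)
    have := pow_gcd_eq_one.2 ⟨h5, hk⟩
    rwa [hco.gcd_eq_one, pow_one] at this
  exact hx ((hR x).2 (by rw [h1, h6, mul_one]))

include h2 hα hR hidx in
/-- (ii) -/
theorem normal : R.Normal := by
  have hf : Fact (Nat.Prime 2) := ⟨Nat.prime_two⟩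
  have hnil : Group.IsNilpotent G := h2.isNilpotent
  have hlt : R < ⊤ := by
    rw [lt_top_iff_ne_top]
    rintro h
    rw [h, index_top] at hidx
    exact absurd hidx (by norm_num)
  have hgrow : R < normalizer (R : Set G) := Group.normalizerCondition_of_isNilpotent R hlt
  rw [← normalizer_eq_top_iff]
  by_contra hne
  set N := normalizer (R : Set G) with hN
  have h1 : R.relIndex N * N.index = 4 := by rw [relIndex_mul_index hgrow.le, hidx]
  have h3 : R.relIndex N ≠ 1 := fun h => hgrow.not_ge (relIndex_eq_one.1 h)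
  have h4 : N.index ≠ 1 := fun h => hne (index_eq_one.1 h)
  have h5 : R.relIndex N = 2 := by
    have h6 : R.relIndex N ∣ 4 := Dvd.intro _ h1
    have h7 : R.relIndex N ≤ 4 := Nat.le_of_dvd (by norm_num) h6
    interval_cases h8 : R.relIndex N
    · omega
    · omega
    · rfl
    · omega
    · omega
  obtain ⟨x, hxN, hxR⟩ := SetLike.exists_of_lt hgrow
  have haN : α x ∈ N := by
    have hmem : ∀ r ∈ R, α x * r * (α x)⁻¹ ∈ R := by
      intro r hr
      have h8 : x * r * x⁻¹ ∈ R := (mem_normalizer_iff.1 hxN r).1 hr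
      have h9 := (hR _).1 h8
      rw [map_mul, map_mul, map_inv, (hR r).1 hr] at h9
      rw [h9]
      exact h8
    rw [hN, mem_normalizer_iff]
    intro r
    refine ⟨hmem r, fun hr => ?_⟩
    have hfin : Finite R := inferInstance
    -- the conjugation is injective on the finite group `R`
    have hsurj : Function.Surjective (fun r : R => (⟨α x * r * (α x)⁻¹, hmem r r.2⟩ : R)) := by
      apply Finite.surjective_of_injective
      intro a b hab
      have := congrArg Subtype.val hab
      exact Subtype.ext (mul_left_cancel (mul_right_cancel this))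
    obtain ⟨r', hr'⟩ := hsurj ⟨_, hr⟩
    have := congrArg Subtype.val hr'
    have h10 : (r' : G) = r := mul_left_cancel (mul_right_cancel this)
    rw [← h10]
    exact r'.2
  have h11 : (R.subgroupOf N).index = 2 := h5
  have haR : α x ∉ R := fun h => hxR ((mem_iff α hα R hR x).1 h)
  have h12 := (mul_mem_iff_of_index_two h11 (a := ⟨x⁻¹, N.inv_mem hxN⟩) (b := ⟨α x, haN⟩)).2
    (by
      rw [mem_subgroupOf, mem_subgroupOf]
      exact ⟨fun h => absurd (R.inv_mem_iff.1 h) hxR, fun h => absurd h haR⟩)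
  exact not_mem h2 α hα R hR hxR h12

include h2 hα hR hidx in
/-- (iii) -/
theorem sq_mem (x : G) : x * x ∈ R := by
  have hn := normal h2 α hα R hR hidx
  by_contra hx
  have hc : Nat.card (G ⧸ R) = 4 := by rw [← index_eq_card, hidx]
  have h1 : orderOf (QuotientGroup.mk' R x) = 4 := by
    have h3 : orderOf (QuotientGroup.mk' R x) ∣ 2 ^ 2 := by
      have := orderOf_dvd_natCard (QuotientGroup.mk' R x)
      rwa [hc] at this
    refine orderOf_eq_prime_pow (p := 2) (n := 1) ?_ (orderOf_dvd_iff_pow_eq_one.1 h3)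
    rw [pow_one, pow_two, ← map_mul]
    intro h
    exact hx ((QuotientGroup.eq_one_iff _).1 h)
  have hfin : Finite (G ⧸ R) := Nat.finite_of_card_ne_zero (by rw [hc]; norm_num)
  have htop : Subgroup.zpowers (QuotientGroup.mk' R x) = ⊤ := by
    apply Subgroup.eq_top_of_card_eq
    rw [Nat.card_zpowers, h1, hc]
  have h4 : QuotientGroup.mk' R (α x) ∈ Subgroup.zpowers (QuotientGroup.mk' R x) := by rw [htop]; exact mem_top _
  obtain ⟨k, hk⟩ := mem_zpowers_iff.1 h4
  have h5 : QuotientGroup.mk' R (α (x * x)) = (QuotientGroup.mk' R x) ^ (2 * k) := by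
    rw [map_mul, map_mul, ← hk, ← zpow_add, two_mul]
  have hx2 : α (x * x) ∉ R := fun h => hx ((mem_iff α hα R hR _).1 h)
  have h6 : ¬ (4 : ℤ) ∣ 2 * k := by
    intro h
    apply hx2
    have h7 : QuotientGroup.mk' R (α (x * x)) = 1 := by
      rw [h5]
      exact orderOf_dvd_iff_zpow_eq_one.1 (by rw [h1]; exact_mod_cast h)
    exact (QuotientGroup.eq_one_iff _).1 h7
  have h8 : (4 : ℤ) ∣ 2 * k - 2 := by omega
  apply not_mem h2 α hα R hR hx
  have h9 : QuotientGroup.mk' R ((x * x)⁻¹ * α (x * x)) = 1 := by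
    rw [map_mul, map_inv, h5, map_mul, ← pow_two, ← zpow_natCast, ← zpow_neg, ← zpow_add]
    apply orderOf_dvd_iff_zpow_eq_one.1
    rw [h1]
    have : ((4 : ℕ) : ℤ) = 4 := rfl
    rw [this]
    have e : -((2 : ℕ) : ℤ) + 2 * k = 2 * k - 2 := by push_cast; ring
    rw [e]
    exact h8
  exact (QuotientGroup.eq_one_iff _).1 h9

/-- a good pair -/
structure F (p q : G) : Prop where
  ap : α p = q
  aq : α q = (p * q)⁻¹
  pR : p ∉ R
  qR : q ∉ R
  pqR : p * q ∉ R
  pp : p * p ∈ R
  qq : q * q = p * p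
  pppp : p * p * (p * p) = 1
  comm : p * q = p * p * (q * p)
  pc : ∀ r ∈ R, p * r = r * p
  qc : ∀ r ∈ R, q * r = r * q

include h2 hα hR hidx in
theorem exists_F {x : G} (hx : x ∉ R) : F α R (x⁻¹ * α x) (α (x⁻¹ * α x)) := by
  have hn := normal h2 α hα R hR hidx
  obtain ⟨p, hp⟩ : ∃ p, p = x⁻¹ * α x := ⟨_, rfl⟩
  rw [← hp]
  have hpR : p ∉ R := by rw [hp]; exact not_mem h2 α hα R hR hx
  have hqR : α p ∉ R := fun h => hpR ((mem_iff α hα R hR _).1 h)
  have hcent : ∀ w : G, ∀ r ∈ R, (w⁻¹ * α w) * r = r * (w⁻¹ * α w) := by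
    intro w r hr
    have h8 : w * r * w⁻¹ ∈ R := hn.conj_mem r hr w
    have h9 := (hR _).1 h8
    rw [map_mul, map_mul, map_inv, (hR r).1 hr] at h9
    -- `α w r (α w)⁻¹ = w r w⁻¹`
    have h10 : α w * r = w * r * w⁻¹ * α w := mul_inv_eq_iff_eq_mul.1 h9
    rw [mul_assoc, h10]
    group
  have hpc : ∀ r ∈ R, p * r = r * p := by rw [hp]; exact hcent x
  have hqc : ∀ r ∈ R, α p * r = r * α p := by
    intro r hr
    have h := hpc r hr
    have h1 := congrArg α h
    rwa [map_mul, map_mul, (hR r).1 hr] at h1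
  have hpqr : p * α p * α (α p) = 1 := by
    rw [hp]
    simp only [map_mul, map_inv, hα]
    group
  have hr : α (α p) = (p * α p)⁻¹ := eq_inv_of_mul_eq_one_right hpqr
  have hpp : p * p ∈ R := sq_mem h2 α hα R hR hidx p
  have hqq : α p * α p = p * p := by
    rw [← map_mul]
    exact (hR _).1 hpp
  have hrr : (p * α p)⁻¹ * (p * α p)⁻¹ = p * p := by
    rw [← hr, ← map_mul, hqq]
    exact (hR _).1 hpp
  obtain ⟨q, hq⟩ : ∃ q, q = α p := ⟨_, rfl⟩
  rw [← hq] at hqR hqc hr hqq hrr
  rw [← hq]
  obtain ⟨s, hs⟩ : ∃ s, s = p * p := ⟨_, rfl⟩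
  rw [← hs] at hpp hqq hrr
  have hps : p * s = s * p := hpc s hpp
  have hqs : q * s = s * q := hqc s hpp
  -- `p q p q = s⁻¹`
  have h1 : p * q * (p * q) = s⁻¹ := by
    rw [← hrr]
    group
  have hqi : q⁻¹ = s⁻¹ * q := by rw [← hqq]; group
  have hpi : p⁻¹ = s⁻¹ * p := by rw [hs]; group
  have hcp : Commute p s := hps
  have hcq : Commute q s := hqs
  -- `q p = s³ p q`
  have h3 : s * s * s * (p * q) = q * p := by
    have h4 : p * q = s⁻¹ * (q⁻¹ * p⁻¹) := by rw [← h1]; group
    rw [h4, hqi, hpi]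
    have e1 : s⁻¹ * q * (s⁻¹ * p) = s⁻¹ * s⁻¹ * (q * p) := by
      rw [mul_assoc, ← mul_assoc q, hcq.inv_right.eq]
      group
    rw [e1]
    group
  have h4 : s * s * s * (s * s * s) = 1 := by
    have hct : Commute p (s * s * s) := (hcp.mul_right hcp).mul_right hcp
    have h5 : p * (s * s * s * (p * q)) = p * (q * p) := by rw [h3]
    have h6 : s * s * s * (s * q) = p * q * p := by
      rw [← mul_assoc, hct.eq, mul_assoc, ← mul_assoc p p, ← hs] at h5
      rw [h5, mul_assoc]
    have h7 : s * s * s * (s * s * s * (s * q)) = s * q := by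
      rw [h6, ← mul_assoc, h3, mul_assoc, ← hs, hqs]
    rw [← mul_assoc] at h7
    exact mul_eq_right.1 h7
  have h5 : s * s = 1 := by
    obtain ⟨k, hk⟩ := h2 s
    have h6 : (s * s) ^ 3 = 1 := by
      rw [← h4]
      simp only [pow_succ, pow_zero, one_mul, mul_assoc]
    have h7 : (s * s) ^ 2 ^ k = 1 := by
      rw [← pow_two, ← pow_mul, mul_comm, pow_mul, hk, one_pow]
    have hco : Nat.Coprime 3 (2 ^ k) := Nat.Coprime.pow_right k (by decide)
    have := pow_gcd_eq_one.2 ⟨h6, h7⟩
    rwa [hco.gcd_eq_one, pow_one] at this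
  have h6 : p * q = s * (q * p) := by
    have e : s * s * s = s := by rw [h5, one_mul]
    rw [← h3, e, ← mul_assoc, h5, one_mul]
  have hpqR : p * q ∉ R := by
    intro h
    apply not_mem h2 α hα R hR hpR
    rw [← hq, hpi, mul_assoc]
    exact R.mul_mem (R.inv_mem hpp) h
  exact
    { ap := hq.symm
      aq := hr
      pR := hpR
      qR := hqR
      pqR := hpqR
      pp := by rw [← hs]; exact hpp
      qq := by rw [hqq, hs]
      pppp := by rw [← hs]; exact h5
      comm := by rw [← hs]; exact h6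
      pc := hpc
      qc := hqc }

include h2 hα hR hidx in
/-- cover -/
theorem cover {p q : G} (h : F α R p q) (x : G) :
    ∃ r ∈ R, x = r ∨ x = p * r ∨ x = q * r ∨ x = p * q * r := by
  have hn := normal h2 α hα R hR hidx
  have hc : Nat.card (G ⧸ R) = 4 := by rw [← index_eq_card, hidx]
  have hfin : Finite (G ⧸ R) := Nat.finite_of_card_ne_zero (by rw [hc]; norm_num)
  have := Fintype.ofFinite (G ⧸ R)
  classical
  have hpp' : p⁻¹ * (p * p) = p := by group
  have hpi : p⁻¹ ∈ R ↔ p ∈ R := R.inv_mem_iff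
  -- the four cosets
  have h1 : ((1 : G) : G ⧸ R) ≠ (p : G ⧸ R) := by
    intro e
    have := QuotientGroup.eq.1 e
    rw [inv_one, one_mul] at this
    exact h.pR this
  have h3 : ((1 : G) : G ⧸ R) ≠ (q : G ⧸ R) := by
    intro e
    have := QuotientGroup.eq.1 e
    rw [inv_one, one_mul] at this
    exact h.qR this
  have h4 : ((1 : G) : G ⧸ R) ≠ ((p * q : G) : G ⧸ R) := by
    intro e
    have := QuotientGroup.eq.1 e
    rw [inv_one, one_mul] at this
    exact h.pqR this
  have h5 : (p : G ⧸ R) ≠ (q : G ⧸ R) := by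
    intro e
    have h6 := QuotientGroup.eq.1 e
    apply h.pqR
    have : p * q = p * p * (p⁻¹ * q) := by group
    rw [this]
    exact R.mul_mem h.pp h6
  have h6 : (p : G ⧸ R) ≠ ((p * q : G) : G ⧸ R) := by
    intro e
    have h6 := QuotientGroup.eq.1 e
    rw [inv_mul_cancel_left] at h6
    exact h.qR h6
  have h7 : (q : G ⧸ R) ≠ ((p * q : G) : G ⧸ R) := by
    intro e
    have h6 := QuotientGroup.eq.1 e
    apply h.pR
    have e1 := hn.conj_mem _ h6 q
    have : p = q * (q⁻¹ * (p * q)) * q⁻¹ := by group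
    rw [this]
    exact e1
  have h8 : ({((1 : G) : G ⧸ R), (p : G ⧸ R), (q : G ⧸ R), ((p * q : G) : G ⧸ R)} :
      Finset (G ⧸ R)) = Finset.univ := by
    apply Finset.eq_univ_of_card
    rw [← Nat.card_eq_fintype_card, hc]
    rw [Finset.card_insert_of_notMem, Finset.card_insert_of_notMem, Finset.card_insert_of_notMem,
      Finset.card_singleton]
    · rw [Finset.mem_singleton]; exact h7
    · rw [Finset.mem_insert, Finset.mem_singleton]; exact not_or.2 ⟨h5, h6⟩
    · rw [Finset.mem_insert, Finset.mem_insert, Finset.mem_singleton]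
      exact not_or.2 ⟨h1, not_or.2 ⟨h3, h4⟩⟩
  have h9 : (x : G ⧸ R) ∈ ({((1 : G) : G ⧸ R), (p : G ⧸ R), (q : G ⧸ R),
      ((p * q : G) : G ⧸ R)} : Finset (G ⧸ R)) := by rw [h8]; exact Finset.mem_univ _
  simp only [Finset.mem_insert, Finset.mem_singleton] at h9
  rcases h9 with h9 | h9 | h9 | h9
  · refine ⟨x, ?_, Or.inl rfl⟩
    have := QuotientGroup.eq.1 h9.symm
    rwa [inv_one, one_mul] at this
  · exact ⟨p⁻¹ * x, QuotientGroup.eq.1 h9.symm, Or.inr (Or.inl (by group))⟩
  · exact ⟨q⁻¹ * x, QuotientGroup.eq.1 h9.symm, Or.inr (Or.inr (Or.inl (by group)))⟩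
  · exact ⟨(p * q)⁻¹ * x, QuotientGroup.eq.1 h9.symm, Or.inr (Or.inr (Or.inr (by group)))⟩

omit [Finite G] in
theorem F.hom_ne {p q : G} (h : F α R p q) [R.Normal] :
    QuotientGroup.mk' R p ≠ 1 ∧ QuotientGroup.mk' R q ≠ 1 ∧
      QuotientGroup.mk' R p ≠ QuotientGroup.mk' R q := by
  refine ⟨fun e => h.pR ((QuotientGroup.eq_one_iff _).1 e), fun e => h.qR ((QuotientGroup.eq_one_iff _).1 e),
    fun e => h.pqR ?_⟩
  have h6 := QuotientGroup.eq.1 e
  have : p * q = p * p * (p⁻¹ * q) := by group
  rw [this]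
  exact R.mul_mem h.pp h6

include h2 hα hR hidx in
theorem exists_fix (β : G →* G) (w : G) (hβα : ∀ g, α (β (α g)) = β g)
    (hββ : ∀ g, β (β g) = w * g * w⁻¹) :
    ∃ p q, F α R p q ∧ p⁻¹ * β p ∈ R := by
  have hn := normal h2 α hα R hR hidx
  have hβR : ∀ r ∈ R, β r ∈ R := by
    intro r hr
    rw [hR]
    have := hβα r
    rwa [(hR r).1 hr] at this
  obtain ⟨x, hx⟩ : ∃ x, x ∉ R := by
    by_contra hne
    push Not at hne
    have : R = ⊤ := by rw [eq_top_iff]; intro x _; exact hne x
    rw [this, index_top] at hidx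
    exact absurd hidx (by norm_num)
  have hF := exists_F h2 α hα R hR hidx hx
  have hax : α x ∉ R := fun h => hx ((mem_iff α hα R hR _).1 h)
  have haax : α (α x) ∉ R := fun h => hax ((mem_iff α hα R hR _).1 h)
  have hF2 := exists_F h2 α hα R hR hidx hax
  have hF3 := exists_F h2 α hα R hR hidx haax
  obtain ⟨p, hp⟩ : ∃ p, p = x⁻¹ * α x := ⟨_, rfl⟩
  have e2 : (α x)⁻¹ * α (α x) = α p := by rw [hp, map_mul, map_inv]
  have e3 : (α (α x))⁻¹ * α (α (α x)) = α (α p) := by rw [hp, map_mul, map_mul, map_inv, map_inv]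
  rw [← hp] at hF
  rw [e2] at hF2
  rw [e3] at hF3
  clear e2 e3
  obtain ⟨q, hq⟩ : ∃ q, q = α p := ⟨_, rfl⟩
  rw [← hq] at hF hF2 hF3
  obtain ⟨P, hP⟩ : ∃ P, P = QuotientGroup.mk' R p := ⟨_, rfl⟩
  obtain ⟨Q, hQ⟩ : ∃ Q, Q = QuotientGroup.mk' R q := ⟨_, rfl⟩
  have hsq : ∀ g : G, QuotientGroup.mk' R g * QuotientGroup.mk' R g = 1 := by
    intro g
    rw [← map_mul]
    exact (QuotientGroup.eq_one_iff _).2 (sq_mem h2 α hα R hR hidx g)
  have hPP : P * P = 1 := by rw [hP]; exact hsq p
  have hQQ : Q * Q = 1 := by rw [hQ]; exact hsq q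
  have hPQPQ : P * Q * (P * Q) = 1 := by rw [hP, hQ, ← map_mul]; exact hsq _
  have hR1 : ∀ r ∈ R, QuotientGroup.mk' R r = 1 := fun r hr => (QuotientGroup.eq_one_iff _).2 hr
  have hPi : P⁻¹ = P := inv_eq_of_mul_eq_one_right hPP
  have hQi : Q⁻¹ = Q := inv_eq_of_mul_eq_one_right hQQ
  have hPQ : P * Q = Q * P := by
    have := eq_inv_of_mul_eq_one_left hPQPQ
    rw [mul_inv_rev, hPi, hQi] at this
    exact this
  have hcomm : ∀ g : G, QuotientGroup.mk' R (w * g * w⁻¹) = QuotientGroup.mk' R g := by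
    intro g
    rw [map_mul, map_mul, map_inv]
    have h1 := hsq w
    have h3 := hsq g
    have h4 := hsq (w * g)
    rw [map_mul] at h4
    have e1 := eq_inv_of_mul_eq_one_left h4
    rw [mul_inv_rev, inv_eq_of_mul_eq_one_right h1, inv_eq_of_mul_eq_one_right h3] at e1
    rw [e1, mul_inv_cancel_right]
  have key : ∀ {p' q' : G}, QuotientGroup.mk' R p' = QuotientGroup.mk' R q' →
      QuotientGroup.mk' R (β p') = QuotientGroup.mk' R (β q') := by
    intro p' q' e
    have h1 := QuotientGroup.eq.1 e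
    have h3 := hβR _ h1
    rw [map_mul, map_inv] at h3
    exact QuotientGroup.eq.2 h3
  obtain ⟨r, hr, hβp⟩ := cover h2 α hα R hR hidx hF (β p)
  have hββp : QuotientGroup.mk' R (β (β p)) = P := by rw [hββ, hcomm, hP]
  rcases hβp with hβp | hβp | hβp | hβp
  · exfalso
    have h1 : QuotientGroup.mk' R (β p) = QuotientGroup.mk' R 1 := by
      rw [hβp, hR1 r hr, map_one]
    have h3 := key h1
    rw [hββp, map_one, map_one] at h3
    exact (hF.hom_ne α R).1 (by rw [← hP]; exact h3)
  · exact ⟨p, q, hF, by rw [hβp, inv_mul_cancel_left]; exact hr⟩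
  · -- `β p = q r`: the third pair
    refine ⟨α q, α (α q), hF3, ?_⟩
    have h1 : QuotientGroup.mk' R (β p) = QuotientGroup.mk' R q := by
      rw [hβp, map_mul, hR1 r hr, mul_one]
    have h3 := key h1
    rw [hββp] at h3
    apply QuotientGroup.eq.1
    change QuotientGroup.mk' R (α q) = QuotientGroup.mk' R (β (α q))
    rw [hF.aq]
    rw [map_inv, map_mul, map_inv β, map_inv, map_mul β, map_mul, h1, ← h3, ← hP, ← hQ, hPQ]
  · -- `β p = p q r`: the second pair
    refine ⟨q, α q, hF2, ?_⟩
    have h1 : QuotientGroup.mk' R (β p) = QuotientGroup.mk' R (p * q) := by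
      rw [hβp, map_mul _ (p * q), hR1 r hr, mul_one]
    have h3 := key h1
    rw [hββp, map_mul β, map_mul, h1, map_mul, ← hP, ← hQ, mul_assoc] at h3
    -- `P = P * (Q * π (β q))`
    have h4 : Q * QuotientGroup.mk' R (β q) = 1 := (left_eq_mul.1 h3)
    apply QuotientGroup.eq.1
    change QuotientGroup.mk' R q = QuotientGroup.mk' R (β q)
    rw [← hQ, ← hQi]
    exact inv_eq_of_mul_eq_one_right h4

include h2 hα hR hidx in
theorem main_abs (β : G →* G) (w : G) (hβα : ∀ g, α (β (α g)) = β g)
    (hββ : ∀ g, β (β g) = w * g * w⁻¹) (hβw : β w = w) :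
    ∃ p q, F α R p q ∧ β p = p * p * p ∧ β q = p * q ∧
      (w ∈ R ∨ (p * q = q * p ∧ ∃ r ∈ R, w = p * r)) := by
  have hn := normal h2 α hα R hR hidx
  obtain ⟨p, q, hF, hfix⟩ := exists_fix h2 α hα R hR hidx β w hβα hββ
  refine ⟨p, q, hF, ?_⟩
  have hβR : ∀ r ∈ R, β r ∈ R := by
    intro r hr
    rw [hR]
    have := hβα r
    rwa [(hR r).1 hr] at this
  obtain ⟨s, hs⟩ : ∃ s, s = p * p := ⟨_, rfl⟩
  have hss : s * s = 1 := by rw [hs]; exact hF.pppp
  have hsR : s ∈ R := by rw [hs]; exact hF.pp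
  have hps : p * s = s * p := hF.pc s hsR
  have hqs : q * s = s * q := hF.qc s hsR
  have hqq : q * q = s := by rw [hs]; exact hF.qq
  have hpq : p * q = s * (q * p) := by rw [hs]; exact hF.comm
  have hpi : p⁻¹ = s * p := by
    rw [inv_eq_iff_mul_eq_one, ← mul_assoc, hps, mul_assoc, ← hs, hss]
  have hqi : q⁻¹ = s * q := by
    rw [inv_eq_iff_mul_eq_one, ← mul_assoc, hqs, mul_assoc, hqq, hss]
  have hqpq : q * p * q = p := by
    rw [mul_assoc, hpq, ← mul_assoc, hqs, mul_assoc, ← mul_assoc q, hqq, ← mul_assoc, hss, one_mul]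
  have hrot : α (α q) = p := by
    rw [hF.aq, map_inv, map_mul, hF.ap, hF.aq, mul_inv_rev, inv_inv, mul_inv_cancel_right]
  have hrot2 : α (α p) = (p * q)⁻¹ := by rw [hF.ap, hF.aq]
  have hpform : p = q⁻¹ * α q := by
    rw [hF.aq, mul_inv_rev, ← mul_assoc, hqi, hpi]
    have : s * q * (s * q) = s := by
      rw [← mul_assoc, mul_assoc s q s, hqs, ← mul_assoc, hss, one_mul, hqq]
    rw [this, ← mul_assoc, hss, one_mul]
  obtain ⟨w', hw'⟩ : ∃ w', w' = β q := ⟨_, rfl⟩
  have hβp : β p = w'⁻¹ * α (α w') := by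
    have e1 : β (α q) = α (α (β q)) := by
      rw [← hβα q]
      rw [hα]
    conv_lhs => rw [hpform]
    rw [map_mul, map_inv, e1, ← hw']
  have hsq : ∀ g : G, QuotientGroup.mk' R g * QuotientGroup.mk' R g = 1 := by
    intro g
    rw [← map_mul]
    exact (QuotientGroup.eq_one_iff _).2 (sq_mem h2 α hα R hR hidx g)
  have hR1 : ∀ r ∈ R, QuotientGroup.mk' R r = 1 := fun r hr => (QuotientGroup.eq_one_iff _).2 hr
  obtain ⟨hP1, hQ1, hPQ1⟩ := hF.hom_ne α R
  obtain ⟨P, hP⟩ : ∃ P, P = QuotientGroup.mk' R p := ⟨_, rfl⟩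
  obtain ⟨Q, hQ⟩ : ∃ Q, Q = QuotientGroup.mk' R q := ⟨_, rfl⟩
  have hPi : P⁻¹ = P := by rw [hP]; exact inv_eq_of_mul_eq_one_right (hsq p)
  have hQi : Q⁻¹ = Q := by rw [hQ]; exact inv_eq_of_mul_eq_one_right (hsq q)
  rw [← hP] at hP1 hPQ1
  rw [← hQ] at hQ1 hPQ1
  have hfix' : QuotientGroup.mk' R (β p) = P := by
    rw [hP]
    exact (QuotientGroup.eq.2 hfix).symm
  obtain ⟨r, hr, hw⟩ := cover h2 α hα R hR hidx hF w'
  have hrr := (hR r).1 hr
  have hβppp : β p = p * p * p ∧ β q = p * q := by
    have hβp' : β p = p⁻¹ := by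
      rcases hw with hw | hw | hw | hw
      · exfalso
        -- `β p = 1`
        rw [hw, hrr, hrr, inv_mul_cancel] at hβp
        rw [hβp, map_one] at hfix'
        exact hP1 hfix'.symm
      · exfalso
        rw [hw, map_mul, hrr, hF.ap, map_mul, hrr, hF.aq] at hβp
        rw [hβp] at hfix'
        simp only [map_mul, map_inv, mul_inv_rev, hR1 r hr, inv_one, mul_one, one_mul, ← hP, ← hQ, hPi,
          hQi] at hfix'
        -- `P * (Q * P) = P`
        have := mul_eq_left.1 hfix'
        have h5 : Q = P⁻¹ := eq_inv_of_mul_eq_one_left this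
        rw [hPi] at h5
        exact hPQ1 h5.symm
      · exfalso
        rw [hw, map_mul, hrr, map_mul, hrr, hrot] at hβp
        rw [hβp] at hfix'
        simp only [map_mul, map_inv, mul_inv_rev, hR1 r hr, inv_one, mul_one, one_mul, ← hP, ← hQ,
          hQi] at hfix'
        exact hQ1 (mul_eq_right.1 hfix')
      · have e1 : α (α (p * q * r)) = q⁻¹ * r := by
          rw [map_mul, map_mul, map_mul, map_mul, hrr, hrr, hrot, hrot2]
          group
        rw [hw, e1] at hβp
        rw [hβp]
        have hpr := hF.pc r hr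
        have hqr := hF.qc r hr
        have h5 : p * q * r = r * (p * q) := by
          rw [mul_assoc, hqr, ← mul_assoc, hpr, mul_assoc]
        rw [h5, mul_inv_rev]
        have h6 : q⁻¹ * r = r * q⁻¹ := by
          rw [inv_mul_eq_iff_eq_mul, ← mul_assoc, hqr, mul_inv_cancel_right]
        rw [h6, mul_assoc, inv_mul_cancel_left, ← mul_inv_rev, ← mul_assoc, hqpq]
    have hp4 : p * p * p = p⁻¹ := by rw [← hs, ← hps, hpi, hps]
    refine ⟨hβp'.trans hp4.symm, ?_⟩
    have h5 : α (β q) = β p := by rw [← hβα p, hF.ap]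
    have h6 : β q = α (α (β p)) := by rw [← h5, hα]
    rw [h6, hβp', map_inv, map_inv, hrot2, inv_inv]
  obtain ⟨hβ1, hβ2⟩ := hβppp
  refine ⟨hβ1, hβ2, ?_⟩
  have hp3 : p * p * p = p⁻¹ := by rw [← hs, ← hps, hpi, hps]
  have hwp : p * w = w * p := by
    have h5 := hββ p
    rw [hβ1, hp3, map_inv, hβ1, hp3, inv_inv] at h5
    exact eq_mul_inv_iff_mul_eq.1 h5
  have hwq : q * w = w * q := by
    have h5 := hββ q
    rw [hβ2, map_mul, hβ1, hβ2, hp3, inv_mul_cancel_left] at h5
    exact eq_mul_inv_iff_mul_eq.1 h5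
  obtain ⟨v, hv, hw2⟩ := cover h2 α hα R hR hidx hF w
  have hvR : QuotientGroup.mk' R (β v) = 1 := hR1 _ (hβR v hv)
  have hβP : QuotientGroup.mk' R (β p) = P := hfix'
  rcases hw2 with hw2 | hw2 | hw2 | hw2
  · exact Or.inl (by rw [hw2]; exact hv)
  · refine Or.inr ⟨?_, v, hv, hw2⟩
    rw [hw2, mul_assoc, ← hF.qc v hv, ← mul_assoc, ← mul_assoc] at hwq
    exact (mul_right_cancel hwq).symm
  · exfalso
    rw [hw2, map_mul, hβ2] at hβw
    have h5 := congrArg (QuotientGroup.mk' R) hβw
    rw [map_mul, map_mul, hvR, map_mul, hR1 v hv, mul_one, mul_one, ← hP, ← hQ] at h5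
    exact hP1 (mul_eq_right.1 h5)
  · exfalso
    rw [hw2, map_mul, map_mul, hβ2] at hβw
    have h5 := congrArg (QuotientGroup.mk' R) hβw
    rw [map_mul, map_mul, hvR, map_mul (QuotientGroup.mk' R) (p * q), hR1 v hv, mul_one, mul_one, hβP, map_mul,
      ← hP, ← hQ] at h5
    exact hP1 (mul_eq_right.1 (mul_left_cancel h5))

end

/-- **T3** -/
theorem T3 {D : Type*} [Group D] [Finite D] (h2 : IsPGroup 2 D) {Q R : Subgroup D} {z y : D}
    {a : D → D} (h : Loc Q z a y) (hR : ∀ x, x ∈ R ↔ x ∈ Q ∧ a x = x)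
    (h4 : Nat.card Q = 4 * Nat.card R) : ∃ y' p q, Str Q R y' p q := by
  have hRQ : R ≤ Q := fun x hx => ((hR x).1 hx).1
  let α : Q →* Q :=
    { toFun := fun g => ⟨a g, h.map g g.2⟩
      map_one' := by
        apply Subtype.ext
        have h1 := h.mul 1 Q.one_mem 1 Q.one_mem
        rw [one_mul] at h1
        exact left_eq_mul.1 h1
      map_mul' := fun g k => Subtype.ext (h.mul g g.2 k k.2) }
  let β : Q →* Q :=
    { toFun := fun g => ⟨y * g * y⁻¹, h.yN g g.2⟩
      map_one' := Subtype.ext (by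
        change y * (1 : D) * y⁻¹ = 1
        rw [mul_one, mul_inv_cancel])
      map_mul' := fun g k => Subtype.ext (by
        change y * ((g : D) * k) * y⁻¹ = (y * g * y⁻¹) * (y * k * y⁻¹)
        group) }
  let w : Q := ⟨y * y, h.yy⟩
  have hα : ∀ g, α (α (α g)) = g := fun g => Subtype.ext (h.cube g g.2)
  have hRα : ∀ x : Q, x ∈ R.subgroupOf Q ↔ α x = x := by
    intro x
    rw [mem_subgroupOf, hR]
    constructor
    · intro h1
      exact Subtype.ext h1.2
    · intro h1
      exact ⟨x.2, congrArg Subtype.val h1⟩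
  have hidx : (R.subgroupOf Q).index = 4 := by
    have h1 := card_mul_index (R.subgroupOf Q)
    have h3 : Nat.card (R.subgroupOf Q) = Nat.card R := Nat.card_congr (subgroupOfEquivOfLe hRQ).toEquiv
    rw [h3, h4, mul_comm] at h1
    exact Nat.eq_of_mul_eq_mul_right Nat.card_pos h1
  have hβα : ∀ g, α (β (α g)) = β g := fun g => Subtype.ext (h.inv g g.2)
  have hββ : ∀ g, β (β g) = w * g * w⁻¹ := by
    intro g
    apply Subtype.ext
    change y * (y * g * y⁻¹) * y⁻¹ = (y * y) * g * (y * y)⁻¹
    group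
  have hβw : β w = w := by
    apply Subtype.ext
    change y * (y * y) * y⁻¹ = y * y
    group
  obtain ⟨p, q, hF, hβp, hβq, hw⟩ :=
    main_abs (h2.to_subgroup Q) α hα (R.subgroupOf Q) hRα hidx β w hβα hββ hβw
  have hyp : y * (p : D) * y⁻¹ = p * p * p := congrArg Subtype.val hβp
  have hyq : y * (q : D) * y⁻¹ = p * q := congrArg Subtype.val hβq
  have hyR : ∀ r ∈ R, y * r * y⁻¹ ∈ R := by
    intro r hr
    have h1 : (⟨r, hRQ hr⟩ : Q) ∈ R.subgroupOf Q := hr
    have h3 : β ⟨r, hRQ hr⟩ ∈ R.subgroupOf Q := by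
      rw [hRα]
      have := hβα ⟨r, hRQ hr⟩
      rwa [(hRα _).1 h1] at this
    exact h3
  have hcover : ∀ x ∈ Q, ∃ r ∈ R, x = r ∨ x = p * r ∨ x = q * r ∨ x = p * q * r := by
    intro x hx
    obtain ⟨r, hr, h1⟩ := cover (h2.to_subgroup Q) α hα (R.subgroupOf Q) hRα hidx hF ⟨x, hx⟩
    refine ⟨r, hr, ?_⟩
    rcases h1 with h1 | h1 | h1 | h1
    · exact Or.inl (congrArg Subtype.val h1)
    · exact Or.inr (Or.inl (congrArg Subtype.val h1))
    · exact Or.inr (Or.inr (Or.inl (congrArg Subtype.val h1)))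
    · exact Or.inr (Or.inr (Or.inr (congrArg Subtype.val h1)))
  have hpc : ∀ r ∈ R, (p : D) * r = r * p := fun r hr =>
    congrArg Subtype.val (hF.pc ⟨r, hRQ hr⟩ hr)
  have hqc : ∀ r ∈ R, (q : D) * r = r * q := fun r hr =>
    congrArg Subtype.val (hF.qc ⟨r, hRQ hr⟩ hr)
  have hpppp : (p : D) * p * (p * p) = 1 := congrArg Subtype.val hF.pppp
  have hqq : (q : D) * q = p * p := congrArg Subtype.val hF.qq
  have hcomm : (p : D) * q = p * p * (q * p) := congrArg Subtype.val hF.comm
  rcases hw with hw | ⟨hc, r, hr, hw⟩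
  · exact ⟨y, p, q,
      { RQ := hRQ
        pQ := p.2
        qQ := q.2
        pR := hF.pR
        qR := hF.qR
        pqR := hF.pqR
        pp := hF.pp
        pppp := hpppp
        qq := hqq
        comm := hcomm
        pc := hpc
        qc := hqc
        cover := hcover
        yQ := h.yQ
        yR := hyR
        yy := hw
        yp := hyp
        yq := hyq }⟩
  · have hc' : (p : D) * q = q * p := congrArg Subtype.val hc
    have hw' : y * y = p * r := congrArg Subtype.val hw
    have hr' : (r : D) ∈ R := hr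
    have hpp1 : (p : D) * p = 1 := by
      rw [← hc'] at hcomm
      exact (right_eq_mul.1 hcomm)
    refine ⟨y * q, p, q,
      { RQ := hRQ
        pQ := p.2
        qQ := q.2
        pR := hF.pR
        qR := hF.qR
        pqR := hF.pqR
        pp := hF.pp
        pppp := hpppp
        qq := hqq
        comm := hcomm
        pc := hpc
        qc := hqc
        cover := hcover
        yQ := fun h1 => h.yQ ((Q.mul_mem_cancel_right q.2).1 h1)
        yR := ?_
        yy := ?_
        yp := ?_
        yq := ?_ }⟩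
    · intro t ht
      have e : y * (q : D) * t * (y * q)⁻¹ = y * t * y⁻¹ := by
        have := hqc t ht
        rw [mul_assoc y, this]
        group
      rw [e]
      exact hyR t ht
    · have e : y * (q : D) * (y * q) = r := by
        have e1 : y * (q : D) * (y * q) = (y * q * y⁻¹) * (y * y) * q := by group
        have e2 : (p : D) * q * (p * r) * q = p * (q * p) * (r * q) := by group
        rw [e1, hyq, hw', e2, ← hc', ← hqc r hr']
        have e3 : (p : D) * (p * q) * (q * r) = p * p * (q * q) * r := by group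
        rw [e3, hqq, hpp1, one_mul, one_mul]
      rw [e]
      exact hr'
    · have e : y * (q : D) * p * (y * q)⁻¹ = y * p * y⁻¹ := by
        rw [mul_assoc y, ← hc']
        group
      rw [e, hyp]
    · have e : y * (q : D) * q * (y * q)⁻¹ = y * q * y⁻¹ := by group
      rw [e, hyq]

end Cfsg.Agent.H809.Two.Struct
end

-- part: H617/Two/EssLast
section
/-!
# S4543: the group theory of an essential subgroup, assembly, second part
-/

set_option autoImplicit false
set_option linter.unusedSectionVars false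

namespace Cfsg.Agent.H617.Two

open Subgroup

variable {D : Type*} [Group D]

/-- The fixed points of `a` in `Q`. -/
def fixSub (Q : Subgroup D) (a : D → D) (hmap : ∀ q ∈ Q, a q ∈ Q)
    (hmul : ∀ q ∈ Q, ∀ r ∈ Q, a (q * r) = a q * a r) : Subgroup D where
  carrier := {x | x ∈ Q ∧ a x = x}
  one_mem' := by
    refine ⟨Q.one_mem, ?_⟩
    have h := hmul 1 Q.one_mem 1 Q.one_mem
    rw [mul_one] at h
    exact (left_eq_mul.1 h)
  mul_mem' := by
    rintro x y ⟨hx, hx'⟩ ⟨hy, hy'⟩
    exact ⟨Q.mul_mem hx hy, by rw [hmul x hx y hy, hx', hy']⟩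
  inv_mem' := by
    rintro x ⟨hx, hx'⟩
    refine ⟨Q.inv_mem hx, ?_⟩
    have h1 : a 1 = 1 := by
      have h := hmul 1 Q.one_mem 1 Q.one_mem
      rw [mul_one] at h
      exact (left_eq_mul.1 h)
    have h2 := hmul x hx x⁻¹ (Q.inv_mem hx)
    rw [mul_inv_cancel, h1, hx'] at h2
    exact (eq_inv_of_mul_eq_one_right h2.symm)

theorem mem_fixSub {Q : Subgroup D} {a : D → D} {hmap : ∀ q ∈ Q, a q ∈ Q}
    {hmul : ∀ q ∈ Q, ∀ r ∈ Q, a (q * r) = a q * a r} {x : D} :
    x ∈ fixSub Q a hmap hmul ↔ x ∈ Q ∧ a x = x := Iff.rfl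

/-- Counting fixed points modulo three. -/
theorem card_fixSub_mod [Finite D] (Q : Subgroup D) (a : D → D) (hmap : ∀ q ∈ Q, a q ∈ Q)
    (hmul : ∀ q ∈ Q, ∀ r ∈ Q, a (q * r) = a q * a r) (hcube : ∀ q ∈ Q, a (a (a q)) = q) :
    Nat.card Q ≡ Nat.card (fixSub Q a hmap hmul) [MOD 3] := by
  classical
  have := Fintype.ofFinite Q
  have h3 : Fact (Nat.Prime 3) := ⟨Nat.prime_three⟩
  let f : Function.End Q := fun q => ⟨a q, hmap q q.2⟩
  have hf : f ^ 3 ^ 1 = 1 := by
    funext q
    exact Subtype.ext (hcube q q.2)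
  have h1 := Equiv.Perm.card_fixedPoints_modEq hf
  rw [Nat.card_eq_fintype_card]
  refine h1.trans ?_
  rw [← Nat.card_eq_fintype_card]
  have h2 : Nat.card f.fixedPoints = Nat.card (fixSub Q a hmap hmul) := by
    refine Nat.card_congr
      { toFun := fun x => ⟨x.1.1, x.1.2, congrArg Subtype.val (show f x.1 = x.1 from x.2)⟩
        invFun := fun x => ⟨⟨x.1, x.2.1⟩, Subtype.ext x.2.2⟩
        left_inv := fun _ => rfl
        right_inv := fun _ => rfl }
  rw [h2]

theorem Good.isPGroup (hG : Good D) : IsPGroup 2 D :=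
  IsPGroup.of_card (n := 6) (by rw [hG.card]; norm_num)

variable [Finite D] {z : D} {Q : Subgroup D} {A : Subgroup (MulAut Q)}

/-- The last case, or nothing. -/
theorem ess_last (hG : Good D) (hz : z ∈ center D) (hz1 : z ≠ 1) (h : Ess z Q A) :
    Last Q z ∧ ∃ w ∈ center D, w ≠ 1 ∧ w ≠ z := by
  have h2 := hG.isPGroup
  have hp : Fact (Nat.Prime 2) := ⟨Nat.prime_two⟩
  have hzz := hG.centre z hz
  have hzQ := h.mem hz
  have hdvd : Nat.card Q ∣ 2 ^ 6 := by
    have h1 := Q.card_subgroup_dvd_card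
    rwa [hG.card] at h1
  obtain ⟨k, hk, hcard⟩ := (Nat.dvd_prime_pow Nat.prime_two).1 hdvd
  have hne : Nat.card Q ≠ 64 := by
    intro h1
    exact h.ne ((Subgroup.card_eq_iff_eq_top Q).1 (h1.trans hG.card.symm))
  have hle := h.not_card_le_four h2 hz hz1 hzz
  have h8 : Nat.card Q ≠ 8 := fun h8 =>
    Cfsg.Agent.H763.Two.T9 hG h8 hz hz1 hzQ fun x hx => h.self hz hzz x hx
  have hcase : Nat.card Q = 16 ∨ Nat.card Q = 32 := by
    interval_cases k
    · exact absurd (by rw [hcard]; norm_num) hle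
    · exact absurd (by rw [hcard]; norm_num) hle
    · exact absurd (by rw [hcard]; norm_num) hle
    · exact absurd (by rw [hcard]; norm_num) h8
    · left; rw [hcard]; norm_num
    · right; rw [hcard]; norm_num
    · exact absurd (by rw [hcard]; norm_num) hne
  obtain ⟨hN, a, y, hL⟩ := Cfsg.Agent.H618.TwoT2.T2 hG hz hz1 h.ne (by rcases hcase with h | h <;> omega) h.cent A
    h.fix (autD Q) (fun β => mem_autD) (fun β hβ => h.conj β hβ) (h.syl _ fun β => mem_autD) h.rad
  set R := fixSub Q a hL.map hL.mul with hR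
  have hRm : ∀ x, x ∈ R ↔ x ∈ Q ∧ a x = x := fun x => mem_fixSub
  have hRQ : R ≤ Q := fun x hx => hx.1
  have hzR : z ∈ R := ⟨hzQ, hL.az⟩
  have hmod := card_fixSub_mod Q a hL.map hL.mul hL.cube
  rw [← hR] at hmod
  have hRdvd : Nat.card R ∣ Nat.card Q := Subgroup.card_dvd_of_le hRQ
  have hR1 : Nat.card R ≠ 1 := by
    intro h1
    have h3 := Subgroup.card_eq_one.1 h1
    rw [h3, Subgroup.mem_bot] at hzR
    exact hz1 hzR
  have hRne : Nat.card R ≠ Nat.card Q := by
    intro h1
    have h3 : R = Q := Subgroup.eq_of_le_of_card_ge hRQ h1.ge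
    obtain ⟨q, hq, hq'⟩ := hL.ne
    rw [← h3] at hq
    exact hq' hq.2
  have hRk : Nat.card R ∣ 2 ^ 6 := hRdvd.trans hdvd
  obtain ⟨j, hj, hjc⟩ := (Nat.dvd_prime_pow Nat.prime_two).1 hRk
  have key : (Nat.card Q = 16 ∧ Nat.card Q = 4 * Nat.card R) ∨
      (Nat.card Q = 32 ∧ Nat.card Q = 4 * Nat.card R) ∨ (Nat.card Q = 32 ∧ Nat.card R = 2) := by
    unfold Nat.ModEq at hmod
    rcases hcase with h16 | h32
    · rw [h16] at hmod hRdvd hRne ⊢
      rw [hjc] at hmod hRdvd hRne hR1 ⊢
      interval_cases j <;> simp at * 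
    · rw [h32] at hmod hRdvd hRne ⊢
      rw [hjc] at hmod hRdvd hRne hR1 ⊢
      interval_cases j <;> simp at *
  rcases key with ⟨h16, h4⟩ | ⟨h32, h4⟩ | ⟨h32, hR2⟩
  · exfalso
    obtain ⟨y', p, q, hS⟩ := Cfsg.Agent.H809.Two.Struct.T3 h2 hL hRm h4
    by_cases hs : p * p = 1
    · exact Cfsg.Agent.H547.Two.T5 hG hS h16 (hN h16) hs
    · exact Cfsg.Agent.H807.S45.T6 hG hS h16 (hN h16) hs hz hz1 hzQ
  · exfalso
    obtain ⟨y', p, q, hS⟩ := Cfsg.Agent.H809.Two.Struct.T3 h2 hL hRm h4
    exact Cfsg.Agent.H538.Two.T4 hG hS h32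
  · refine Cfsg.Agent.H807.S45.T7a hG hL h32 fun x hx hax => ?_
    have hxR : x ∈ R := ⟨hx, hax⟩
    by_contra hcon
    rw [not_or] at hcon
    have h3 : 3 ≤ Nat.card R := by
      classical
      have := Fintype.ofFinite R
      rw [Nat.card_eq_fintype_card]
      have h5 : ({1, ⟨z, hzR⟩, ⟨x, hxR⟩} : Finset R).card = 3 := by
        rw [Finset.card_insert_of_notMem, Finset.card_insert_of_notMem, Finset.card_singleton]
        · rw [Finset.mem_singleton]
          exact fun h => hcon.2 (congrArg Subtype.val h).symm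
        · simp only [Finset.mem_insert, Finset.mem_singleton, not_or]
          exact ⟨fun h => hz1 (congrArg Subtype.val h).symm,
            fun h => hcon.1 (congrArg Subtype.val h).symm⟩
      rw [← h5]
      exact Finset.card_le_univ _
    omega

/-- A good central element exists. -/
theorem exists_good (hG : Good D) :
    ∃ z ∈ center D, z ≠ 1 ∧ ∀ (Q : Subgroup D) (A : Subgroup (MulAut Q)), ¬ Ess z Q A := by
  have hp : Fact (Nat.Prime 2) := ⟨Nat.prime_two⟩
  have h2 := hG.isPGroup
  have hnt : Nontrivial D := by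
    rw [← Finite.one_lt_card_iff_nontrivial, hG.card]
    norm_num
  have hc := h2.center_nontrivial
  obtain ⟨⟨z, hz⟩, hz1⟩ := exists_ne (1 : center D)
  have hz1' : z ≠ 1 := fun h => hz1 (Subtype.ext h)
  by_cases hgood : ∀ (Q : Subgroup D) (A : Subgroup (MulAut Q)), ¬ Ess z Q A
  · exact ⟨z, hz, hz1', hgood⟩
  · push Not at hgood
    obtain ⟨Q, A, hE⟩ := hgood
    obtain ⟨hlast, w, hw, hw1, hwz⟩ := ess_last hG hz hz1' hE
    refine ⟨w, hw, hw1, fun Q' A' hE' => ?_⟩
    obtain ⟨hlast', -⟩ := ess_last hG hw hw1 hE'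
    exact hwz (Cfsg.Agent.H763.Two.T7b hG hlast' hlast hw hz)

end Cfsg.Agent.H617.Two
end

-- part: H887/Two/T8
section
/-!
# S4543, T8: automorphisms of odd order of the groups of order 64 in `Good`

`T8`: a nonabelian group `D` with `Good D` has no nontrivial automorphism of odd order.
-/

set_option autoImplicit false

namespace Cfsg.Agent.H887.Two

open Subgroup Cfsg.Agent.H617.Two
open scoped commutatorElement

variable {D : Type*} [Group D]

/-- a subgroup of index two is determined by its trace on a generating pair -/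
theorem ext_two {a b : D} (hab : closure ({a, b} : Set D) = ⊤) {M M' : Subgroup D}
    (hM : M.index = 2) (hM' : M'.index = 2) (h1 : a ∈ M ↔ a ∈ M') (h2 : b ∈ M ↔ b ∈ M') :
    M = M' := by
  let S : Subgroup D :=
    { carrier := {x | x ∈ M ↔ x ∈ M'}
      one_mem' := by simp
      mul_mem' := by
        intro x y hx hy
        simp only [Set.mem_ofPred_eq] at hx hy ⊢
        rw [mul_mem_iff_of_index_two hM, mul_mem_iff_of_index_two hM', hx, hy]
      inv_mem' := by
        intro x hx
        simp only [Set.mem_ofPred_eq] at hx ⊢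
        rw [inv_mem_iff, inv_mem_iff, hx] }
  have hS : S = ⊤ := by
    rw [eq_top_iff, ← hab, closure_le]
    intro x hx
    rcases hx with rfl | rfl
    · exact h1
    · exact h2
  ext x
  have : x ∈ S := hS ▸ mem_top x
  exact this

theorem not_both {a b : D} (hab : closure ({a, b} : Set D) = ⊤) {M : Subgroup D}
    (hM : M.index = 2) : ¬ (a ∈ M ∧ b ∈ M) := by
  rintro ⟨h1, h2⟩
  have : M = ⊤ := by
    rw [eq_top_iff, ← hab, closure_le]
    intro x hx
    rcases hx with rfl | rfl
    · exact h1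
    · exact h2
  rw [this, index_top] at hM
  omega

open Classical in
/-- there are at most three subgroups of index two -/
theorem pigeon {a b : D} (hab : closure ({a, b} : Set D) = ⊤) {M₁ M₂ M₃ M₄ : Subgroup D}
    (h1 : M₁.index = 2) (h2 : M₂.index = 2) (h3 : M₃.index = 2) (h4 : M₄.index = 2)
    (h12 : M₁ ≠ M₂) (h13 : M₁ ≠ M₃) (h14 : M₁ ≠ M₄) (h23 : M₂ ≠ M₃) (h34 : M₃ ≠ M₄) : M₂ = M₄ := by
  obtain ⟨c, hc⟩ : ∃ c : Subgroup D → ℕ, ∀ M, c M = if a ∈ M then (if b ∈ M then 3 else 1) else
      (if b ∈ M then 2 else 0) := ⟨_, fun _ => rfl⟩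
  have key : ∀ {M M' : Subgroup D}, M.index = 2 → M'.index = 2 → c M = c M' → M = M' := by
    intro M M' hM hM' h
    rw [hc, hc] at h
    apply ext_two hab hM hM'
    · split_ifs at h <;> simp_all
    · split_ifs at h <;> simp_all
  have nb : ∀ {M : Subgroup D}, M.index = 2 → c M ≤ 2 := by
    intro M hM
    have := not_both hab hM
    rw [hc]
    split_ifs <;> simp_all
  have n1 := nb h1
  have n2 := nb h2
  have n3 := nb h3
  have n4 := nb h4
  have e12 : c M₁ ≠ c M₂ := fun h => h12 (key h1 h2 h)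
  have e13 : c M₁ ≠ c M₃ := fun h => h13 (key h1 h3 h)
  have e14 : c M₁ ≠ c M₄ := fun h => h14 (key h1 h4 h)
  have e23 : c M₂ ≠ c M₃ := fun h => h23 (key h2 h3 h)
  have e34 : c M₃ ≠ c M₄ := fun h => h34 (key h3 h4 h)
  exact key h2 h4 (by omega)

/-- the image of a subgroup of index two -/
theorem index_map (α : MulAut D) {M : Subgroup D} (hM : M.index = 2) :
    (M.map α.toMonoidHom).index = 2 := by
  rw [show M.map α.toMonoidHom = M.map (α : D ≃* D).toMonoidHom from rfl]
  rw [← hM]
  exact Subgroup.index_map_of_bijective α.bijective M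

theorem map_map' (α β : MulAut D) (M : Subgroup D) :
    (M.map α.toMonoidHom).map β.toMonoidHom = M.map (β * α : MulAut D).toMonoidHom := by
  rw [Subgroup.map_map]
  rfl

theorem map_pow (α : MulAut D) {M : Subgroup D} (h : M.map α.toMonoidHom = M) (k : ℕ) :
    M.map (α ^ k : MulAut D).toMonoidHom = M := by
  induction k with
  | zero => rw [pow_zero]; exact Subgroup.map_id M
  | succ k ih => rw [pow_succ', ← map_map', ih, h]

/-- an automorphism of odd order whose square stabilizes `M` stabilizes `M` -/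
theorem map_of_sq (α : MulAut D) (ho : Odd (orderOf α)) {M : Subgroup D}
    (h : (M.map α.toMonoidHom).map α.toMonoidHom = M) : M.map α.toMonoidHom = M := by
  obtain ⟨k, hk⟩ := ho
  have h1 : M.map ((α * α) ^ (k + 1) : MulAut D).toMonoidHom = M := by
    apply map_pow
    rw [← map_map', h]
  have h2 : (α * α) ^ (k + 1) = α := by
    rw [← pow_two, ← pow_mul, show 2 * (k + 1) = (2 * k + 1) + 1 by ring, pow_succ, ← hk,
      pow_orderOf_eq_one, one_mul]
  rw [h2] at h1
  exact h1

variable [Finite D] {α : MulAut D}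

/-- a nontrivial automorphism of odd order stabilizes no subgroup of index two -/
theorem no_inv (h2 : IsPGroup 2 D) (hgen : ∃ a b : D, closure ({a, b} : Set D) = ⊤)
    (ho : Odd (orderOf α)) (h1 : α ≠ 1) {M : Subgroup D} (hM : M.index = 2) :
    M.map α.toMonoidHom ≠ M := by
  have : Fact (Nat.Prime 2) := ⟨Nat.prime_two⟩
  intro hMM
  obtain ⟨a, b, hab⟩ := hgen
  have inj : Function.Injective (fun N : Subgroup D => N.map α.toMonoidHom) :=
    Subgroup.map_injective α.injective
  -- all subgroups of index two are invariant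
  have all : ∀ N : Subgroup D, N.index = 2 → N.map α.toMonoidHom = N := by
    intro N hN
    by_contra hne
    have hNM : M ≠ N := by rintro rfl; exact hne hMM
    have hN1 := index_map α hN
    have hN2 := index_map α hN1
    have hNM1 : M ≠ N.map α.toMonoidHom := by
      intro h
      exact hNM (inj (hMM.trans h))
    have hNM2 : M ≠ (N.map α.toMonoidHom).map α.toMonoidHom := by
      intro h
      exact hNM1 (inj (hMM.trans h))
    have := pigeon hab hM hN hN1 hN2 hNM hNM1 hNM2 (Ne.symm hne) (fun h => hne (inj h).symm)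
    exact hne (map_of_sq α ho this.symm)
  apply h1
  apply Cfsg.Agent.H767.EssFrat.eq_one_of_mod_frattini h2 α
    (Nat.Coprime.symm ((Nat.coprime_two_left).2 ho))
  intro x
  rw [frattini, Order.radical, mem_iInf]
  intro K
  rw [mem_iInf]
  intro hK
  have hKi := Cfsg.Agent.Lib.FrattiniPGroup.index_of_coatom h2 hK
  rw [mul_mem_iff_of_index_two hKi, inv_mem_iff]
  have h3 := all K hKi
  constructor
  · intro hx
    rw [← h3]
    exact mem_map_of_mem _ hx
  · intro hx
    rw [← h3] at hx
    obtain ⟨y, hy, hyx⟩ := hx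
    have : y = x := α.injective hyx
    rw [← this]
    exact hy

/-- ... and has order three -/
theorem cube (h2 : IsPGroup 2 D) (hnt : Nontrivial D)
    (hgen : ∃ a b : D, closure ({a, b} : Set D) = ⊤)
    (ho : Odd (orderOf α)) (h1 : α ≠ 1) : α ^ 3 = 1 := by
  have : Fact (Nat.Prime 2) := ⟨Nat.prime_two⟩
  by_contra h3
  have ho3 : Odd (orderOf (α ^ 3)) := Odd.of_dvd_nat ho (orderOf_pow_dvd 3)
  obtain ⟨M, hMc⟩ := (inferInstance : IsCoatomic (Subgroup D)).eq_top_or_exists_le_coatom ⊥
    |>.resolve_left bot_ne_top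
  have hM := Cfsg.Agent.Lib.FrattiniPGroup.index_of_coatom h2 hMc.1
  have g1 := no_inv h2 hgen ho3 h3 hM
  obtain ⟨a, b, hab⟩ := id hgen
  have inj : Function.Injective (fun N : Subgroup D => N.map α.toMonoidHom) :=
    Subgroup.map_injective α.injective
  have hM1 := index_map α hM
  have hM2 := index_map α hM1
  have hM3 := index_map α hM2
  have k1 := no_inv h2 hgen ho h1 hM
  have k2 := no_inv h2 hgen ho h1 hM1
  have k3 := no_inv h2 hgen ho h1 hM2
  have k4 : (M.map α.toMonoidHom).map α.toMonoidHom ≠ M := fun h => k1 (map_of_sq α ho h)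
  have k5 : ((M.map α.toMonoidHom).map α.toMonoidHom).map α.toMonoidHom ≠ M.map α.toMonoidHom :=
    fun h => k4 (inj h)
  have k6 : ((M.map α.toMonoidHom).map α.toMonoidHom).map α.toMonoidHom ≠ M := by
    intro h
    apply g1
    rw [map_map', map_map'] at h
    rw [show α ^ 3 = α * α * α by rw [pow_succ, pow_two]]
    exact h
  exact k6 (pigeon hab hM1 hM hM2 hM3 k1 (Ne.symm k2) (Ne.symm k5) (Ne.symm k4) (Ne.symm k3)).symm

/-- no nontrivial fixed points on the abelianization -/
theorem fix_ab (h2 : IsPGroup 2 D) (hgen : ∃ a b : D, closure ({a, b} : Set D) = ⊤)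
    (ho : Odd (orderOf α)) (h1 : α ≠ 1) (h3 : α ^ 3 = 1) (x : Abelianization D)
    (hx : Abelianization.map α.toMonoidHom x = x) : x = 1 := by
  have : Fact (Nat.Prime 2) := ⟨Nat.prime_two⟩
  by_contra hne
  obtain ⟨β, hβ⟩ : ∃ β : Abelianization D →* Abelianization D,
    β = Abelianization.map α.toMonoidHom := ⟨_, rfl⟩
  rw [← hβ] at hx
  have hof : ∀ d : D, β (Abelianization.of d) = Abelianization.of (α d) := by
    intro d
    rw [hβ]
    rfl
  have hα3 : ∀ d : D, α (α (α d)) = d := by
    intro d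
    have : (α ^ 3) d = d := by rw [h3]; rfl
    exact this
  have hsurj : Function.Surjective (Abelianization.of (G := D)) := QuotientGroup.mk_surjective
  have hβ3 : ∀ y, β (β (β y)) = y := by
    intro y
    obtain ⟨d, rfl⟩ := hsurj y
    rw [hof, hof, hof, hα3]
  let N : Abelianization D →* Abelianization D := MonoidHom.id _ * β * β.comp β
  have hN : ∀ y, N y = y * β y * β (β y) := fun y => rfl
  have hNβ : ∀ y, N (β y) = N y := by
    intro y
    rw [hN, hN, hβ3, mul_comm (β y * β (β y)) y, mul_assoc]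
  have hA2 : IsPGroup 2 (Abelianization D) := h2.to_quotient _
  have hNx : N x ≠ 1 := by
    intro h
    rw [hN, hx, hx] at h
    obtain ⟨k, hk⟩ := IsPGroup.iff_orderOf.1 hA2 x
    have h4 : orderOf x ∣ 3 := by
      apply orderOf_dvd_of_pow_eq_one
      rw [pow_succ, pow_two]
      exact h
    have h5 : orderOf x = 1 := by
      rw [hk] at h4 ⊢
      exact Nat.Coprime.eq_one_of_dvd (Nat.Coprime.pow_left k (by norm_num)) h4
    exact hne (orderOf_eq_one_iff.1 h5)
  have hnt : Nontrivial N.range := by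
    refine ⟨⟨⟨N x, ⟨x, rfl⟩⟩, 1, fun h => hNx (congrArg Subtype.val h)⟩⟩
  obtain ⟨K, hK⟩ := (inferInstance : IsCoatomic (Subgroup N.range)).eq_top_or_exists_le_coatom ⊥
    |>.resolve_left bot_ne_top
  have hKi := Cfsg.Agent.Lib.FrattiniPGroup.index_of_coatom (hA2.to_subgroup N.range) hK.1
  let f : D →* N.range := N.rangeRestrict.comp Abelianization.of
  have hf : Function.Surjective f := N.rangeRestrict_surjective.comp hsurj
  have hfα : ∀ d, f (α d) = f d := by
    intro d
    apply Subtype.ext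
    change N (Abelianization.of (α d)) = N (Abelianization.of d)
    rw [← hof, hNβ]
  have hM : (K.comap f).index = 2 := by rw [index_comap_of_surjective _ hf, hKi]
  apply no_inv h2 hgen ho h1 hM
  ext y
  constructor
  · rintro ⟨d, hd, rfl⟩
    have h6 : f (α d) ∈ K := by rw [hfα]; exact hd
    exact h6
  · intro hy
    refine ⟨α⁻¹ y, ?_, ?_⟩
    · have h6 : f (α⁻¹ y) ∈ K := by
        rw [← hfα, show α (α⁻¹ y) = y from α.apply_symm_apply y]
        exact hy
      exact h6
    · exact α.apply_symm_apply y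

theorem card_ab (h2 : IsPGroup 2 D) (hgen : ∃ a b : D, closure ({a, b} : Set D) = ⊤)
    (ho : Odd (orderOf α)) (h1 : α ≠ 1) (h3 : α ^ 3 = 1) : Nat.card (Abelianization D) % 3 = 1 := by
  classical
  have : Fact (Nat.Prime 3) := ⟨Nat.prime_three⟩
  let f : Function.End (Abelianization D) := fun y => Abelianization.map α.toMonoidHom y
  have hα3 : ∀ d : D, α (α (α d)) = d := by
    intro d
    have : (α ^ 3) d = d := by rw [h3]; rfl
    exact this
  have hf3 : f ^ 3 ^ 1 = 1 := by
    funext y
    obtain ⟨d, rfl⟩ : ∃ d, Abelianization.of d = y := QuotientGroup.mk_surjective y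
    change f (f (f (Abelianization.of d))) = Abelianization.of d
    change Abelianization.of (α (α (α d))) = Abelianization.of d
    rw [hα3]
  let _ := Fintype.ofFinite (Abelianization D)
  have h4 := Equiv.Perm.card_fixedPoints_modEq hf3
  have h5 : Fintype.card f.fixedPoints = 1 := by
    rw [Fintype.card_eq_one_iff]
    refine ⟨⟨1, map_one (Abelianization.map α.toMonoidHom)⟩, ?_⟩
    rintro ⟨y, hy⟩
    exact Subtype.ext (fix_ab h2 hgen ho h1 h3 y hy)
  have h6 := h4
  rw [← Nat.card_eq_fintype_card, ← Nat.card_eq_fintype_card] at h6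
  rw [← Nat.card_eq_fintype_card] at h5
  rw [h5] at h6
  exact h6

omit [Finite D] in
theorem comm_le {a b : D} (hab : closure ({a, b} : Set D) = ⊤) (N : Subgroup D) [N.Normal]
    (h : ⁅a, b⁆ ∈ N) : commutator D ≤ N := by
  have hmk : ∀ x y : D, Commute (QuotientGroup.mk' N x) (QuotientGroup.mk' N y) ↔ ⁅x, y⁆ ∈ N := by
    intro x y
    rw [← QuotientGroup.eq_one_iff (N := N), commute_iff_eq, ← commutatorElement_eq_one_iff_mul_comm]
    rfl
  have top : ∀ x : D, Commute (QuotientGroup.mk' N x) (QuotientGroup.mk' N a) →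
      Commute (QuotientGroup.mk' N x) (QuotientGroup.mk' N b) →
      ∀ y, Commute (QuotientGroup.mk' N x) (QuotientGroup.mk' N y) := by
    intro x h1 h2 y
    have h3 : (centralizer {QuotientGroup.mk' N x}).comap (QuotientGroup.mk' N) = ⊤ := by
      rw [eq_top_iff, ← hab, closure_le]
      intro u hu
      rcases hu with rfl | rfl
      · exact mem_centralizer_singleton_iff.2 h1.symm.eq
      · exact mem_centralizer_singleton_iff.2 h2.symm.eq
    have h4 : y ∈ (centralizer {QuotientGroup.mk' N x}).comap (QuotientGroup.mk' N) :=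
      h3 ▸ mem_top y
    exact (mem_centralizer_singleton_iff.1 h4).symm
  have hcab : Commute (QuotientGroup.mk' N a) (QuotientGroup.mk' N b) := (hmk a b).2 h
  have ha := top a (Commute.refl _) hcab
  have hb := top b hcab.symm (Commute.refl _)
  have hall : ∀ x y, Commute (QuotientGroup.mk' N x) (QuotientGroup.mk' N y) :=
    fun x => top x (ha x).symm (hb x).symm
  rw [commutator_def, commutator_le]
  intro x _ y _
  exact (hmk x y).1 (hall x y)

omit [Finite D] in
theorem mem_zp {z x : D} (hz : z * z = 1) (hx : x ∈ zpowers z) : x = 1 ∨ x = z := by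
  obtain ⟨k, rfl⟩ := mem_zpowers_iff.1 hx
  have h2 : z ^ (2 : ℤ) = 1 := by
    rw [zpow_ofNat, pow_two]
    exact hz
  rcases Int.even_or_odd' k with ⟨m, rfl | rfl⟩
  · left
    rw [zpow_mul, h2, one_zpow]
  · right
    rw [zpow_add, zpow_mul, h2, one_zpow, one_mul, zpow_one]

omit [Finite D] in
theorem card_zp {z : D} (hz : z * z = 1) : Nat.card (zpowers z) ≤ 2 := by
  rw [Nat.card_zpowers]
  exact orderOf_le_of_pow_eq_one (by norm_num) (by rw [pow_two]; exact hz)

/-- **T8** -/
theorem T8 {D : Type*} [Group D] [Finite D] (hG : Good D) (hna : ∃ a b : D, a * b ≠ b * a)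
    (α : MulAut D) (hodd : Odd (orderOf α)) : α = 1 := by
  have : Fact (Nat.Prime 2) := ⟨Nat.prime_two⟩
  by_contra h1
  have hc : Nat.card D = 2 ^ 6 := by rw [hG.card]; norm_num
  have h2 : IsPGroup 2 D := IsPGroup.of_card hc
  have hnt : Nontrivial D := by
    obtain ⟨a, b, hab⟩ := hna
    by_contra hn
    rw [not_nontrivial_iff_subsingleton] at hn
    exact hab (Subsingleton.elim _ _)
  have h3 := cube h2 hnt hG.gen hodd h1
  have h4 := card_ab h2 hG.gen hodd h1 h3
  have h5 : Nat.card (Abelianization D) = (commutator D).index := rfl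
  rw [h5] at h4
  have h6 : (commutator D).index ∣ 2 ^ 6 := hc ▸ index_dvd_card _
  obtain ⟨k, hk6, hk⟩ := (Nat.dvd_prime_pow Nat.prime_two).1 h6
  have hcm := card_mul_index (commutator D)
  rw [hc, hk] at hcm
  rw [hk] at h4
  -- the commutator subgroup of a group with two generators and central commutator
  obtain ⟨a, b, hab⟩ := id hG.gen
  interval_cases k
  · -- index one
    have h7 : commutator D = ⊤ := index_eq_one.1 (by rw [hk]; norm_num)
    have h8 : Group.IsSolvable D := by
      have := h2.isNilpotent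
      infer_instance
    exact (Group.IsSolvable.commutator_lt_top_of_nontrivial D).ne h7
  · norm_num at h4
  · -- index four
    obtain ⟨C, hCi, hC, -⟩ := Cfsg.Agent.H530.Kul.structure_of_index_four hc (by norm_num)
      (by rw [hk]; norm_num)
    have hCc : Nat.card C = 32 := by
      have := card_mul_index C
      rw [hCi, hG.card] at this
      omega
    obtain ⟨g, hg⟩ := hC.exists_generator
    have hg2 : orderOf g = 32 := by
      rw [← hCc]; exact orderOf_eq_card_of_forall_mem_zpowers hg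
    have hg3 : g ^ 8 = 1 := Subtype.ext (by simpa using hG.exp (g : D))
    have := orderOf_dvd_of_pow_eq_one hg3
    rw [hg2] at this
    norm_num at this
  · norm_num at h4
  · -- index sixteen
    have hD4 : Nat.card (commutator D) = 4 := by omega
    obtain ⟨z, hzD, hzc, hz1⟩ :=
      Cfsg.Agent.Transfer.TausskyTwoGroup.exists_ne_one_mem_inf_center h2 (commutator D)
        (by intro h; rw [h, card_bot] at hD4; omega)
    have hzz := hG.centre z hzc
    have hle : zpowers z ≤ commutator D := zpowers_le.2 hzD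
    obtain ⟨c, hcD, hcz⟩ : ∃ c ∈ commutator D, c ∉ zpowers z := by
      by_contra hno
      push Not at hno
      have := Subgroup.card_le_of_le hno
      have := card_zp hzz
      omega
    have hc1 : c ≠ 1 := by rintro rfl; exact hcz (one_mem _)
    have hidx : ((zpowers z).subgroupOf (commutator D)).index = 2 := by
      have h7 := card_mul_index ((zpowers z).subgroupOf (commutator D))
      rw [hD4, Nat.card_congr (subgroupOfEquivOfLe hle).toEquiv, Nat.card_zpowers,
        orderOf_eq_prime (p := 2) (by rw [pow_two]; exact hzz) hz1] at h7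
      omega
    have hcov : ∀ x ∈ commutator D, x = 1 ∨ x = z ∨ x = c ∨ x = c * z := by
      intro x hx
      by_cases hxz : x ∈ zpowers z
      · rcases mem_zp hzz hxz with h | h
        · exact Or.inl h
        · exact Or.inr (Or.inl h)
      · have h7 := (mul_mem_iff_of_index_two hidx (a := ⟨c, hcD⟩⁻¹) (b := ⟨x, hx⟩)).2
          (by rw [inv_mem_iff]; simp only [mem_subgroupOf]; tauto)
        have h8 : c⁻¹ * x ∈ zpowers z := h7
        rcases mem_zp hzz h8 with h | h
        · exact Or.inr (Or.inr (Or.inl (inv_mul_eq_one.1 h).symm))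
        · exact Or.inr (Or.inr (Or.inr (eq_mul_of_inv_mul_eq h)))
    have hCchar : (centralizer (commutator D : Set D)).Characteristic := inferInstance
    have hCmap := characteristic_iff_map_eq.1 hCchar α
    have hCmem : ∀ g : D, g * c = c * g → g ∈ centralizer (commutator D : Set D) := by
      intro g hg
      rw [mem_centralizer_iff]
      intro x hx
      have hgz : g * z = z * g := mem_center_iff.1 hzc g
      rcases hcov x hx with rfl | rfl | rfl | rfl
      · simp
      · exact hgz.symm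
      · exact hg.symm
      · rw [mul_assoc, ← hgz, ← mul_assoc, ← hg, mul_assoc]
    have hconj : ∀ g : D, g * c ≠ c * g → g * c = c * g * z := by
      intro g hg
      have h7 : g * c * g⁻¹ ∈ commutator D := Normal.conj_mem inferInstance c hcD g
      rcases hcov _ h7 with h | h | h | h
      · exact absurd (by simpa [mul_inv_eq_one] using h) hc1
      · exfalso
        have h8 : g * c = z * g := by rw [← h]; group
        rw [← mem_center_iff.1 hzc g] at h8
        exact hcz (mul_left_cancel h8 ▸ mem_zpowers z)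
      · exact absurd (by rw [mul_inv_eq_iff_eq_mul] at h; exact h) hg
      · rw [mul_inv_eq_iff_eq_mul, mul_assoc, ← mem_center_iff.1 hzc g, ← mul_assoc] at h
        exact h
    have hCtop : centralizer (commutator D : Set D) = ⊤ := by
      by_contra hne
      refine no_inv h2 hG.gen hodd h1 ?_ hCmap
      rw [index_eq_two_iff_exists_notMem_and]
      obtain ⟨g, hg⟩ : ∃ g, g ∉ centralizer (commutator D : Set D) := by
        by_contra hno
        push Not at hno
        exact hne (eq_top_iff.2 fun x _ => hno x)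
      refine ⟨g, hg, fun x => ?_⟩
      by_contra hno
      rw [not_or] at hno
      have h7 := hconj g (fun h => hg (hCmem g h))
      have h8 := hconj x (fun h => hno.2 (hCmem x h))
      apply hno.1
      apply hCmem
      calc x * g * c = x * (g * c) := mul_assoc _ _ _
        _ = x * c * (g * z) := by rw [h7]; simp only [mul_assoc]
        _ = c * x * z * (z * g) := by rw [h8, mem_center_iff.1 hzc g]
        _ = c * x * (z * z) * g := by simp only [mul_assoc]
        _ = c * (x * g) := by rw [hzz]; simp only [mul_assoc, one_mul]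
    have hw : ⁅a, b⁆ ∈ commutator D := commutator_mem_commutator (mem_top a) (mem_top b)
    have hwc : ∀ x ∈ commutator D, x ∈ center D := by
      intro x hx
      rw [mem_center_iff]
      intro g
      have h7 : g ∈ centralizer (commutator D : Set D) := hCtop ▸ mem_top g
      exact (mem_centralizer_iff.1 h7 x hx).symm
    have hwn : (zpowers ⁅a, b⁆).Normal := by
      constructor
      intro n hn g
      have h7 : n ∈ center D := hwc n (zpowers_le.2 hw hn)
      rw [mem_center_iff.1 h7 g, mul_assoc, mul_inv_cancel, mul_one]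
      exact hn
    have h7 := Subgroup.card_le_of_le (comm_le hab (zpowers ⁅a, b⁆) (mem_zpowers _))
    have h8 := card_zp (hG.centre _ (hwc _ hw))
    omega
  · norm_num at h4
  · -- abelian
    have h7 : Nat.card (commutator D) = 1 := by omega
    have h8 : commutator D = ⊥ := card_eq_one.1 h7
    obtain ⟨x, y, hxy⟩ := hna
    apply hxy
    have h9 : ⁅x, y⁆ ∈ commutator D := commutator_mem_commutator (mem_top x) (mem_top y)
    rw [h8, mem_bot] at h9
    exact commutatorElement_eq_one_iff_mul_comm.1 h9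

end Cfsg.Agent.H887.Two
end

-- part: H617/Two/Fus
section
/-!
# S4543: a saturated fusion system fixing a good central element is inner
-/

set_option autoImplicit false
set_option linter.unusedSectionVars false

open Cfsg

namespace Cfsg.Agent.H617.Two

open Cfsg.FusionSystem

variable {Ω : Type*} [Group Ω] {S : Subgroup Ω}

/-- An essential subgroup of a system fixing `z` gives a local situation. -/
theorem ess_of_isEssential [Finite S] (hS : IsPGroup 2 S) {F : FusionSystem S}
    (hF : F.IsSaturated 2) {z : Ω} (hzS : z ∈ S)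
    (hfix : ∀ (P : Subgroup Ω) (φ : P →* Ω), φ ∈ F.Hom P → ∀ x : P, (x : Ω) = z → φ x = z)
    {P : Subgroup Ω} (hP : F.IsEssential 2 P) :
    ∃ (Q : Subgroup S) (A : Subgroup (MulAut Q)), Ess (⟨z, hzS⟩ : S) Q A := by
  have hp : Fact (Nat.Prime 2) := ⟨Nat.prime_two⟩
  have hPS : P ≤ S := hP.2.1.1
  have hfinP : Finite P := H802.finite_of_le hPS
  have hfinM : Finite (MulAut P) := inferInstance
  have hfinA : Finite (F.autGroup P) := inferInstance
  have hne : P ≠ S := H802.ne_of_isEssential hS hF hP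
  have hcent : centralizerIn S P ≤ P := hP.1.2 P (H802.isConj_refl F hPS)
  obtain ⟨-, Y, hY⟩ := H802.isFullyAutomized_of_isFullyNormalized hS hF hP.2.1
  have hrad := (S5080.result 2 hS F hF P hP).2
  let e : P.subgroupOf S ≃* P := Subgroup.subgroupOfEquivOfLe hPS
  have he : ∀ q : P.subgroupOf S, ((e q : P) : Ω) = ((q : S) : Ω) := fun q => rfl
  have hes : ∀ x : P, ((e.symm x : P.subgroupOf S) : S).1 = (x : Ω) := fun x => rfl
  let c : MulAut (P.subgroupOf S) ≃* MulAut P := MulAut.congr e
  have hc : ∀ (β : MulAut (P.subgroupOf S)) (x : P), c β x = e (β (e.symm x)) := fun β x => rfl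
  have hc' : ∀ (β : MulAut (P.subgroupOf S)) (q : P.subgroupOf S), c β (e q) = e (β q) :=
    fun β q => by rw [hc, MulEquiv.symm_apply_apply]
  let A : Subgroup (MulAut (P.subgroupOf S)) := (F.autGroup P).comap c.toMonoidHom
  have hA : ∀ β, β ∈ A ↔ c β ∈ F.autGroup P := fun β => Iff.rfl
  refine ⟨P.subgroupOf S, A, ?_⟩
  have hconj : ∀ β : MulAut (P.subgroupOf S),
      (∃ x : S, ∀ q : P.subgroupOf S, ((β q : P.subgroupOf S) : S) = x * q * x⁻¹) ↔
        c β ∈ autInducedBy S P := by
    intro β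
    rw [H802.mem_autInducedBy_iff]
    constructor
    · rintro ⟨x, hx⟩
      refine ⟨x, x.2, fun q => ?_⟩
      rw [hc, he, hx]
      rfl
    · rintro ⟨g, hg, h⟩
      refine ⟨⟨g, hg⟩, fun q => Subtype.ext ?_⟩
      have h1 := h (e q)
      rw [hc', he] at h1
      exact h1
  constructor
  · -- ne
    intro h
    apply hne
    refine le_antisymm hPS ?_
    exact Subgroup.subgroupOf_eq_top.1 h
  · -- cent
    intro x hx
    rw [Subgroup.mem_subgroupOf]
    apply hcent
    refine Subgroup.mem_inf.2 ⟨x.2, Subgroup.mem_centralizer_iff.2 fun q hq => ?_⟩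
    have := hx ⟨q, hPS hq⟩ hq
    exact (congrArg Subtype.val this).symm
  · -- fix
    intro β hβ q hq
    have h1 := (H802.mem_autGroup_iff F hPS _).1 ((hA β).1 hβ)
    have h2 := hfix P _ h1 (e q) (by rw [he, hq])
    have h3 : ((c β (e q) : P) : Ω) = z := h2
    rw [hc', he] at h3
    refine Subtype.ext (Subtype.ext ?_)
    rw [h3, hq]
  · -- conj
    intro β hβ
    exact H802.autInducedBy_le_autGroup F hPS ((hconj β).1 hβ)
  · -- syl
    intro T hT
    have hT' : T = (autInducedBy S P).comap c.toMonoidHom := by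
      ext β
      rw [hT, hconj]
      rfl
    have hidx : T.relIndex A = (autInducedBy S P).relIndex (F.autGroup P) := by
      rw [hT', Subgroup.relIndex_comap]
      congr 1
      exact Subgroup.map_comap_eq_self_of_surjective c.surjective _
    rw [hidx]
    have h1 := Y.not_dvd_index
    rw [hY] at h1
    exact h1
  · -- rad
    intro N hN hN2 β hβ
    let f : A →* F.autGroup P :=
      { toFun := fun β => ⟨c β, β.2⟩
        map_one' := Subtype.ext (map_one c)
        map_mul' := fun a b => Subtype.ext (map_mul c _ _) }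
    have hf : Function.Surjective f := by
      rintro ⟨γ, hγ⟩
      refine ⟨⟨c.symm γ, ?_⟩, Subtype.ext ?_⟩
      · rw [hA, MulEquiv.apply_symm_apply]; exact hγ
      · exact c.apply_symm_apply γ
    have h1 : N.map f ≤ pCore 2 (F.autGroup P) := le_sSup ⟨hN.map f hf, hN2.map f⟩
    have h2 : c β ∈ Inn P := by
      rw [← hrad]
      exact ⟨f β, h1 ⟨β, hβ, rfl⟩, rfl⟩
    obtain ⟨⟨g, hg⟩, hg'⟩ := h2
    refine ⟨⟨g, hPS hg⟩, hg, fun q => Subtype.ext ?_⟩
    have h3 := hc' β q
    rw [← hg'] at h3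
    have h4 := congrArg Subtype.val h3
    rw [he] at h4
    rw [← h4]
    rfl

/-- The fusion system is inner. -/
theorem inner_of_good [Finite S] (hG : Good S) (hna : ∃ a b : S, a * b ≠ b * a)
    {F : FusionSystem S} (hF : F.IsSaturated 2) {z : Ω} (hzS : z ∈ S)
    (hfix : ∀ (P : Subgroup Ω) (φ : P →* Ω), φ ∈ F.Hom P → ∀ x : P, (x : Ω) = z → φ x = z)
    (hgood : ∀ (Q : Subgroup S) (A : Subgroup (MulAut Q)), ¬ Ess (⟨z, hzS⟩ : S) Q A)
    (P : Subgroup Ω) : F.Hom P = (innerFusionSystem S).Hom P := by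
  have hp : Fact (Nat.Prime 2) := ⟨Nat.prime_two⟩
  have hS := hG.isPGroup
  apply Set.Subset.antisymm
  · refine H802.le_of_essential hS hF (innerFusionSystem S) ?_ (fun Q hQ _ => ?_) P
    · -- the automizer of `S` is a 2-group
      have hSn : F.IsFullyNormalized S := by
        refine ⟨le_rfl, fun Q hQ => ?_⟩
        have hQS : Q = S := by
          have h1 := H802.isConj_card_eq hQ
          exact Cfsg.Agent.H802.eq_of_le_card_eq (H802.isConj_le_right hQ) h1.symm
        rw [hQS]
      obtain ⟨-, R, hR⟩ := H802.isFullyAutomized_of_isFullyNormalized hS hF hSn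
      have hpg : IsPGroup 2 (F.autGroup S) := by
        intro γ
        obtain ⟨k, m, hm, hk⟩ := Nat.exists_eq_two_pow_mul_odd
          (n := orderOf (γ : MulAut S)) (orderOf_pos _).ne'
        refine ⟨k, Subtype.ext ?_⟩
        change (γ : MulAut S) ^ 2 ^ k = 1
        apply Cfsg.Agent.H887.Two.T8 hG hna
        have h1 : orderOf ((γ : MulAut S) ^ 2 ^ k) = m := by
          rw [orderOf_pow_of_dvd (by positivity) (by rw [hk]; exact dvd_mul_right _ _), hk]
          exact Nat.mul_div_cancel_left _ (by positivity)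
        rw [h1]
        exact hm
      have htop : (R : Subgroup (F.autGroup S)) = ⊤ := by
        have h1 : IsPGroup 2 (⊤ : Subgroup (F.autGroup S)) := hpg.to_subgroup ⊤
        exact (R.is_maximal' h1 le_top).symm
      rw [htop] at hR
      have h2 : F.autGroup S ≤ autInducedBy S S := Subgroup.subgroupOf_eq_top.1 hR.symm
      exact h2.trans (Cfsg.Agent.H802.autInducedBy_le_autGroup (innerFusionSystem S) le_rfl)
    · exfalso
      obtain ⟨Q', A, hE⟩ := ess_of_isEssential hS hF hzS hfix hQ
      exact hgood Q' A hE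
  · rintro φ ⟨hP, g, hg, hφ⟩
    have h1 := F.conj_mem (g := g) hP hg
    have h2 : φ = conjHom P g := MonoidHom.ext hφ
    rw [h2]
    exact h1

end Cfsg.Agent.H617.Two
end

-- part: H617/Two/Transport
section
/-!
# S4543: transport of `Good` and `Ess` along isomorphisms
-/

set_option autoImplicit false

namespace Cfsg.Agent.H617.Two

open Subgroup

variable {D₁ D₂ : Type*} [Group D₁] [Group D₂]

theorem Good.equiv (ε : D₁ ≃* D₂) (h : Good D₁) : Good D₂ where
  card := by rw [← h.card]; exact (Nat.card_congr ε.toEquiv).symm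
  gen := by
    obtain ⟨a, b, hab⟩ := h.gen
    refine ⟨ε a, ε b, ?_⟩
    have h1 : (closure ({a, b} : Set D₁)).map ε.toMonoidHom = ⊤ := by
      rw [hab, ← MonoidHom.range_eq_map]
      exact MonoidHom.range_eq_top.2 ε.surjective
    rw [MonoidHom.map_closure, Set.image_pair] at h1
    exact h1
  exp := by
    intro x
    have h1 := h.exp (ε.symm x)
    rw [← map_pow, MulEquiv.map_eq_one_iff] at h1
    exact h1
  centre := by
    intro z hz
    have h1 : ε.symm z ∈ center D₁ := by
      rw [mem_center_iff] at hz ⊢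
      intro g
      apply ε.injective
      rw [map_mul, map_mul, ε.apply_symm_apply]
      exact hz _
    have h2 := h.centre _ h1
    rw [← map_mul, MulEquiv.map_eq_one_iff] at h2
    exact h2

theorem Ess.equiv (ε : D₁ ≃* D₂) {z : D₁} {Q : Subgroup D₁} {A : Subgroup (MulAut Q)}
    (h : Ess z Q A) : ∃ (Q₂ : Subgroup D₂) (A₂ : Subgroup (MulAut Q₂)), Ess (ε z) Q₂ A₂ := by
  let e : Q ≃* Q.map ε.toMonoidHom := ε.subgroupMap Q
  have he : ∀ q : Q, ((e q : Q.map ε.toMonoidHom) : D₂) = ε q := fun q => rfl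
  let c : MulAut Q ≃* MulAut (Q.map ε.toMonoidHom) := MulAut.congr e
  have hc' : ∀ (β : MulAut Q) (q : Q), c β (e q) = e (β q) := fun β q => by
    change e (β (e.symm (e q))) = _
    rw [MulEquiv.symm_apply_apply]
  have hmem : ∀ x : D₁, ε x ∈ Q.map ε.toMonoidHom ↔ x ∈ Q := fun x =>
    Subgroup.mem_map_iff_mem ε.injective
  have hconj : ∀ β : MulAut Q,
      (∃ x : D₁, ∀ q : Q, ((β q : Q) : D₁) = x * q * x⁻¹) ↔
        (∃ x : D₂, ∀ q : Q.map ε.toMonoidHom,
          ((c β q : Q.map ε.toMonoidHom) : D₂) = x * q * x⁻¹) := by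
    intro β
    constructor
    · rintro ⟨x, hx⟩
      refine ⟨ε x, fun q => ?_⟩
      obtain ⟨q, rfl⟩ := e.surjective q
      rw [hc', he, he, hx, map_mul, map_mul, map_inv]
    · rintro ⟨x, hx⟩
      refine ⟨ε.symm x, fun q => ?_⟩
      have h1 := hx (e q)
      rw [hc', he, he] at h1
      apply ε.injective
      rw [h1, map_mul, map_mul, map_inv, ε.apply_symm_apply]
  let f : A →* A.map c.toMonoidHom :=
    { toFun := fun β => ⟨c β, ⟨β, β.2, rfl⟩⟩
      map_one' := Subtype.ext (map_one c)
      map_mul' := fun a b => Subtype.ext (map_mul c _ _) }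
  refine ⟨Q.map ε.toMonoidHom, A.map c.toMonoidHom, ?_⟩
  constructor
  · intro h1
    apply h.ne
    rw [eq_top_iff]
    intro x _
    rw [← hmem, h1]
    trivial
  · intro x hx
    obtain ⟨x, rfl⟩ := ε.surjective x
    rw [hmem]
    refine h.cent x fun q hq => ?_
    apply ε.injective
    rw [map_mul, map_mul]
    exact hx _ ((hmem q).2 hq)
  · rintro β ⟨γ, hγ, rfl⟩ q hq
    obtain ⟨q, rfl⟩ := e.surjective q
    rw [he] at hq
    have h1 := h.fix γ hγ q (ε.injective hq)
    change c γ (e q) = e q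
    rw [hc', h1]
  · intro β hβ
    obtain ⟨γ, rfl⟩ := c.surjective β
    exact ⟨γ, h.conj γ ((hconj γ).2 hβ), rfl⟩
  · intro T hT
    have h1 := h.syl (T.comap c.toMonoidHom) (fun β => by
      rw [hconj, Subgroup.mem_comap, ← hT]
      rfl)
    rwa [Subgroup.relIndex_comap] at h1
  · intro N hN hN2 β hβ
    have hfi : Function.Injective f := fun a b hab =>
      Subtype.ext (c.injective (congrArg Subtype.val hab))
    have h1 := h.rad (N.comap f) (hN.comap f) (hN2.comap_of_injective f hfi)
    obtain ⟨γ, hγ, hγβ⟩ := β.2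
    have h2 : f ⟨γ, hγ⟩ = β := Subtype.ext hγβ
    obtain ⟨x, hx, hx'⟩ := h1 ⟨γ, hγ⟩ (by rw [Subgroup.mem_comap, h2]; exact hβ)
    refine ⟨ε x, (hmem x).2 hx, fun q => ?_⟩
    obtain ⟨q, rfl⟩ := e.surjective q
    have h3 : (β : MulAut (Q.map ε.toMonoidHom)) (e q) = e (γ q) := by
      rw [← hγβ]
      exact hc' γ q
    rw [h3, he, he, hx', map_mul, map_mul, map_inv]

end Cfsg.Agent.H617.Two
end

-- part: H617/Two/BlockMain
section
/-!
# S4543: `k(B) ≤ |D|` for a nonabelian `D` with `Good D`
-/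

set_option autoImplicit false
set_option linter.unusedSectionVars false

open Cfsg

namespace Cfsg.Agent.H617.Two

open Cfsg.FusionSystem

universe u

theorem card_le_of_good {G : Type u} [Group G] [Finite G] {M : Ideal AlgInt} (hM : IsPModular 2 M)
    {B : Set (IrrCharacter G)} (hB : IsPBlock M B) {D : Subgroup G} (hD : IsDefectGroup 2 M B D)
    (hG : Good D) (hna : ∃ a b : D, a * b ≠ b * a) : Nat.card B ≤ Nat.card D := by
  classical
  have hp : Fact (Nat.Prime 2) := ⟨Nat.prime_two⟩
  have := Cfsg.Agent.Blocks.Local.isPrime_of_isPModular hM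
  obtain ⟨⟨z, hzD⟩, hz, hz1, hgood⟩ := exists_good hG
  have hzc : ∀ w ∈ D, z * w = w * z := fun w hw =>
    (congrArg Subtype.val (Subgroup.mem_center_iff.1 hz ⟨w, hw⟩)).symm
  obtain ⟨b, -, hb⟩ := (S0973.result 2 M hM B hB D hD).1
  obtain ⟨f, -, hf, hfD, -⟩ := H658.exists_major hM hD hzD hzc hb
  obtain ⟨H, hH⟩ : ∃ H, H = Subgroup.centralizer ({z} : Set G) := ⟨_, rfl⟩
  have hDH : D ≤ Subgroup.centralizer ({z} : Set G) := fun w hw =>
    Subgroup.mem_centralizer_singleton_iff.2 (hzc w hw).symm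
  let ε : D.subgroupOf (Subgroup.centralizer ({z} : Set G)) ≃* D := Subgroup.subgroupOfEquivOfLe hDH
  have hG' := hG.equiv ε.symm
  have := Fintype.ofFinite (Subgroup.centralizer ({z} : Set G))
  obtain ⟨e, he⟩ := H649.exists_pair_of_isDefectGroup hM hf.1 hfD
  have hmax := H644.isMaximalBrauerPair_of_isDefectGroup hM he hfD
  obtain ⟨F, hF, hsat⟩ := S4677.result 2 M hM f _ e hmax
  let z' : Subgroup.centralizer ({z} : Set G) := ⟨z, hDH hzD⟩
  have hz'D : z' ∈ D.subgroupOf (Subgroup.centralizer ({z} : Set G)) := hzD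
  have hna' : ∃ a b : D.subgroupOf (Subgroup.centralizer ({z} : Set G)), a * b ≠ b * a := by
    obtain ⟨a, b, hab⟩ := hna
    refine ⟨ε.symm a, ε.symm b, fun h => hab ?_⟩
    rw [← map_mul, ← map_mul] at h
    exact ε.symm.injective h
  have hinner := inner_of_good hG' hna' hsat (z := z') hz'D (fun P φ hφ x hx => by
      obtain ⟨-, g, hg, -⟩ := (hF.2 P φ).1 hφ
      rw [hg, hx]
      have h1 : g * z' = z' * g := Subtype.ext (Subgroup.mem_centralizer_singleton_iff.1 g.2)
      rw [h1, mul_inv_cancel_right]) (fun Q A hE => by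
      obtain ⟨Q₂, A₂, hE₂⟩ := hE.equiv ε
      exact hgood Q₂ A₂ hE₂)
  have hnil := (S4686.result 2 M hM f _ e hmax F hF).2 hinner
  have hrank := H613.NilRank.rank_one hM hnil
  have h2 := S4540.result M hM B hB D hD z hzD (fun d hd => (hzc d hd).symm) f hf hfD
    (by rw [hrank]; norm_num)
  rw [S0908.result 2 M hM B hB D hD]
  have h3 := h2.1.trans h2.2
  omega

end Cfsg.Agent.H617.Two
end

-- part: H617/Two/Main43
section
/-!
# S4543 from S4542 and S4544
-/

set_option autoImplicit false
set_option linter.unusedSectionVars false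

open Cfsg

namespace Cfsg.Agent.H617.Two

universe u

/-- The statement of S4542 for `p = 2`. -/
def St42 (M : Ideal AlgInt) : Prop :=
  ∀ {G : Type u} [Group G] [Finite G] (B : Set (IrrCharacter G)), IsPBlock M B →
    ∀ D : Subgroup G, IsDefectGroup 2 M B D → ∀ Z : Subgroup G, Z ≤ D →
      (∀ z ∈ Z, ∀ d ∈ D, z * d = d * z) → IsCyclic Z → Z.relIndex D ≤ 16 →
        Nat.card B ≤ Nat.card D

/-- The statement of S4544. -/
def St44 (M : Ideal AlgInt) : Prop :=
  ∀ {G : Type u} [Group G] [Finite G] (B : Set (IrrCharacter G)), IsPBlock M B →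
    ∀ D : Subgroup G, IsDefectGroup 2 M B D → ∀ C : Subgroup G, C ≤ D →
      IsCyclic C → C.relIndex D ≤ 4 → Nat.card B ≤ Nat.card D

/-- Two commuting involutions generate a group of order at most four. -/
theorem card_le_four {D : Type*} [Group D] {a b : D}
    (hgen : Subgroup.closure ({a, b} : Set D) = ⊤) (hab : a * b = b * a) (ha : a * a = 1)
    (hb : b * b = 1) : Nat.card D ≤ 4 := by
  classical
  have key : ∀ x : D, x ∈ ({1, a, b, a * b} : Finset D) := by
    intro x
    have hx : x ∈ Subgroup.closure ({a, b} : Set D) := by rw [hgen]; trivial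
    have ha' : a⁻¹ = a := inv_eq_of_mul_eq_one_right ha
    have hb' : b⁻¹ = b := inv_eq_of_mul_eq_one_right hb
    have hmul : ∀ y ∈ ({1, a, b, a * b} : Finset D), y * a ∈ ({1, a, b, a * b} : Finset D) ∧
        y * b ∈ ({1, a, b, a * b} : Finset D) := by
      intro y hy
      simp only [Finset.mem_insert, Finset.mem_singleton] at hy
      rcases hy with rfl | rfl | rfl | rfl
      · simp
      · simp [ha]
      · simp [hb, hab]
      · have h1 : a * b * a = b := by rw [hab, mul_assoc, ha, mul_one]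
        have h2 : a * b * b = a := by rw [mul_assoc, hb, mul_one]
        rw [h1, h2]
        simp
    refine Subgroup.closure_induction_right (p := fun y _ => y ∈ ({1, a, b, a * b} : Finset D))
      (by simp) ?_ ?_ hx
    · rintro y hy g (rfl | rfl) h1
      · exact (hmul y h1).1
      · exact (hmul y h1).2
    · rintro y hy g (rfl | rfl) h1
      · rw [ha']; exact (hmul y h1).1
      · rw [hb']; exact (hmul y h1).2
  have hfin : Finite D := Finite.of_surjective (fun x : ({1, a, b, a * b} : Finset D) => (x : D))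
    fun x => ⟨⟨x, key x⟩, rfl⟩
  have := Fintype.ofFinite D
  rw [Nat.card_eq_fintype_card]
  have h1 : (Finset.univ : Finset D) ⊆ {1, a, b, a * b} := fun x _ => key x
  refine (Finset.card_le_card h1).trans ?_
  refine (Finset.card_insert_le _ _).trans ?_
  refine (Nat.add_le_add_right (Finset.card_insert_le _ _) 1).trans ?_
  refine (Nat.add_le_add_right (Nat.add_le_add_right (Finset.card_insert_le _ _) 1) 1).trans ?_
  rw [Finset.card_singleton]

theorem relIndex_zpowers {G : Type*} [Group G] [Finite G] {D : Subgroup G} {x : G} (hx : x ∈ D) :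
    orderOf x * (Subgroup.zpowers x).relIndex D = Nat.card D := by
  have h1 : Subgroup.zpowers x ≤ D := by rwa [Subgroup.zpowers_le]
  rw [← Nat.card_zpowers]
  have h2 := Subgroup.card_mul_index ((Subgroup.zpowers x).subgroupOf D)
  rwa [Nat.card_congr (Subgroup.subgroupOfEquivOfLe h1).toEquiv] at h2

theorem main {G : Type u} [Group G] [Finite G] {M : Ideal AlgInt} (hM : IsPModular 2 M)
    (h42 : St42.{u} M) (h44 : St44.{u} M)
    {B : Set (IrrCharacter G)} (hB : IsPBlock M B) {D : Subgroup G} (hD : IsDefectGroup 2 M B D)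
    (hcard : Nat.card D ≤ 64)
    (hgen : ∃ x ∈ D, ∃ y ∈ D, Subgroup.closure ({x, y} : Set G) = D) :
    Nat.card B ≤ Nat.card D := by
  have hp : Fact (Nat.Prime 2) := ⟨Nat.prime_two⟩
  have hc2 : Nat.card D = 2 ^ blockDefect 2 B := S0908.result 2 M hM B hB D hD
  obtain ⟨d, hd⟩ : ∃ d, Nat.card D = 2 ^ d := ⟨_, hc2⟩
  have hDp : IsPGroup 2 D := IsPGroup.of_card hd
  have hd6 : d ≤ 6 := by
    rw [hd] at hcard
    have : 2 ^ d ≤ 2 ^ 6 := hcard
    exact (Nat.pow_le_pow_iff_right (by norm_num)).1 this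
  -- central elements
  have hcen : ∀ z : D, z ∈ Subgroup.center D → Nat.card D ≤ 16 * orderOf (z : G) →
      Nat.card B ≤ Nat.card D := by
    intro z hz hle
    refine h42 B hB D hD (Subgroup.zpowers (z : G)) (by rw [Subgroup.zpowers_le]; exact z.2) ?_
      inferInstance ?_
    · intro w hw w' hw'
      obtain ⟨k, rfl⟩ := Subgroup.mem_zpowers_iff.1 hw
      have h1 := Subgroup.mem_center_iff.1 hz ⟨w', hw'⟩
      have h2 : Commute (z : G) w' := (congrArg Subtype.val h1).symm
      exact h2.zpow_left k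
    · have h1 := relIndex_zpowers z.2
      have h2 : 0 < orderOf (z : G) := orderOf_pos _
      have h3 : orderOf (z : G) * (Subgroup.zpowers (z : G)).relIndex D ≤ orderOf (z : G) * 16 := by
        rw [h1, mul_comm]; exact hle
      exact Nat.le_of_mul_le_mul_left h3 h2
  by_cases hd4 : d ≤ 4
  · refine hcen 1 (Subgroup.one_mem _) ?_
    rw [hd]
    have : 2 ^ d ≤ 2 ^ 4 := Nat.pow_le_pow_right (by norm_num) hd4
    rw [Subgroup.coe_one, orderOf_one]
    omega
  by_cases hd5 : d = 5
  · have hnt : Nontrivial D := by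
      rw [← Finite.one_lt_card_iff_nontrivial, hd, hd5]; norm_num
    obtain ⟨z, hz1⟩ := @exists_ne _ hDp.center_nontrivial 1
    refine hcen z z.2 ?_
    have h1 : 2 ≤ orderOf ((z : D) : G) := by
      have h2 : ((z : D) : G) ≠ 1 := fun h => hz1 (Subtype.ext (Subtype.ext h))
      have h3 : orderOf ((z : D) : G) ≠ 1 := fun h => h2 (orderOf_eq_one_iff.1 h)
      have h4 : 0 < orderOf ((z : D) : G) := orderOf_pos _
      omega
    rw [hd, hd5]
    omega
  have hd6' : d = 6 := by omega
  have h64 : Nat.card D = 64 := by rw [hd, hd6']; norm_num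
  by_cases hZ : ∀ z ∈ Subgroup.center D, z * z = 1
  swap
  · push Not at hZ
    obtain ⟨z, hz, hzz⟩ := hZ
    refine hcen z hz ?_
    rw [h64]
    have h0 : 0 < orderOf (z : G) := orderOf_pos _
    have h1 : orderOf (z : G) ∣ 2 ^ 6 := by
      rw [Subgroup.orderOf_coe]
      have := orderOf_dvd_natCard z
      rwa [h64] at this
    obtain ⟨k, -, hk⟩ := (Nat.dvd_prime_pow Nat.prime_two).1 h1
    have h2 : ¬ k ≤ 1 := by
      intro hk1
      apply hzz
      have h3 : orderOf z ∣ 2 := by
        rw [← Subgroup.orderOf_coe, hk]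
        exact pow_dvd_pow 2 hk1
      rw [← sq]
      exact orderOf_dvd_iff_pow_eq_one.1 h3
    have h3 : 2 ^ 2 ≤ orderOf (z : G) := by
      rw [hk]; exact Nat.pow_le_pow_right (by norm_num) (by omega)
    omega
  by_cases hE : ∀ x : D, x ^ 8 = 1
  swap
  · push Not at hE
    obtain ⟨x, hx⟩ := hE
    refine h44 B hB D hD (Subgroup.zpowers (x : G)) (by rw [Subgroup.zpowers_le]; exact x.2)
      inferInstance ?_
    have h1 : orderOf (x : G) ∣ 2 ^ 6 := by
      rw [Subgroup.orderOf_coe]
      have := orderOf_dvd_natCard x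
      rwa [h64] at this
    obtain ⟨k, -, hk⟩ := (Nat.dvd_prime_pow Nat.prime_two).1 h1
    have h2 : ¬ k ≤ 3 := by
      intro hk1
      apply hx
      have h3 : orderOf x ∣ 8 := by
        rw [← Subgroup.orderOf_coe, hk]
        exact pow_dvd_pow 2 hk1
      exact orderOf_dvd_iff_pow_eq_one.1 h3
    have h3 : 2 ^ 4 ≤ orderOf (x : G) := by
      rw [hk]; exact Nat.pow_le_pow_right (by norm_num) (by omega)
    have h4 := relIndex_zpowers x.2
    rw [h64] at h4
    by_contra hcon
    push Not at hcon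
    have h5 : 16 * 5 ≤ orderOf (x : G) * (Subgroup.zpowers (x : G)).relIndex D :=
      Nat.mul_le_mul (by simpa using h3) hcon
    omega
  obtain ⟨x, hx, y, hy, hxy⟩ := hgen
  have hgen' : Subgroup.closure ({⟨x, hx⟩, ⟨y, hy⟩} : Set D) = ⊤ := by
    have h1 : (Subgroup.closure ({⟨x, hx⟩, ⟨y, hy⟩} : Set D)).map D.subtype = D := by
      rw [MonoidHom.map_closure, Set.image_pair]
      exact hxy
    apply Subgroup.map_injective (Subgroup.subtype_injective D)
    rw [h1, ← MonoidHom.range_eq_map, Subgroup.range_subtype]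
  have hG : Good D := ⟨h64, ⟨_, _, hgen'⟩, hE, hZ⟩
  by_cases hna : ∃ a b : D, a * b ≠ b * a
  · exact card_le_of_good hM hB hD hG hna
  · exfalso
    push Not at hna
    have hcen' : ∀ a : D, a ∈ Subgroup.center D := fun a =>
      Subgroup.mem_center_iff.2 fun g => hna g a
    have h1 := card_le_four hgen' (hna _ _) (hZ _ (hcen' _)) (hZ _ (hcen' _))
    omega

end Cfsg.Agent.H617.Two
end

-- part: S4543
section
set_option autoImplicit false
open Cfsg

namespace Cfsg.Agent.S4543

/-- Let B be a 2-block of the finite group G (relative to a maximal ideal M of the algebraic integers containing 2) whose defect group D has order at most 64 and is generated by two of its elements. Then B contains at most as many irreducible characters as D has elements. -/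
theorem result {G : Type*} [Group G] [Finite G] (M : Ideal Cfsg.AlgInt) (hM : Cfsg.IsPModular 2 M) (B : Set (Cfsg.IrrCharacter G)) (hB : Cfsg.IsPBlock M B) (D : Subgroup G) (hD : Cfsg.IsDefectGroup 2 M B D) (hcard : Nat.card D ≤ 64) (hgen : ∃ x ∈ D, ∃ y ∈ D, Subgroup.closure ({x, y} : Set G) = D) : Nat.card B ≤ Nat.card D := by
  have hp : Fact (Nat.Prime 2) := ⟨Nat.prime_two⟩
  refine Cfsg.Agent.H617.Two.main hM ?_ ?_ hB hD hcard hgen
  · intro G _ _ B hB D hD Z hZD hZc hcyc hidx
    exact Cfsg.Agent.S4542.result 2 M hM B hB D hD Z hZD hZc hcyc hidx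
  · intro G _ _ B hB D hD C hCD hcyc hidx
    exact Cfsg.Agent.S4544.result M hM B hB D hD C hCD hcyc hidx

end Cfsg.Agent.S4543
end
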