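import Cfsg.Statements.S4591
import Cfsg.Agent.H628.PPrimeKer
import Cfsg.Agent.Lib.FrattiniPGroup
import Cfsg.Agent.S0136
set_option linter.all false

set_option autoImplicit false
open Cfsg

namespace Cfsg.Agent.S4591

open Subgroup Cfsg.Agent.H628.PPrimeKer Cfsg.Agent.Blocks Cfsg.Agent.Characters.Core

universe u

variable {G : Type u} [Group G] [Finite G] {p : ℕ} [Fact p.Prime]

/-- `K ∩ P ≤ P'`. -/
theorem inf_le (P : Sylow p G) : ppKer p G ⊓ (P : Subgroup G) ≤
    (commutator (P : Subgroup G)).map (P : Subgroup G).subtype := by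
  rintro x ⟨hxK, hxP⟩
  refine ⟨⟨x, hxP⟩, ?_, rfl⟩
  apply mem_commutator_of_hom
  intro f
  have h1 := ker_under (P : Subgroup G) P.not_dvd_index (p := p)
    (Cfsg.Agent.Characters.Linear.isIrrCharacter_hom f) (by
      rw [Basic.charDegree_of_eq (n := 1) (by simp)]
      exact (Nat.Prime.one_lt Fact.out).ne' ∘ Nat.dvd_one.1) (x := ⟨x, hxP⟩) hxK
  have h2 : ((f ⟨x, hxP⟩ : ℂˣ) : ℂ) = 1 := by simpa using h1
  exact Units.ext h2

/-- `K = O_{p'}(K) (K ∩ P)`. -/
theorem le_sup (P : Sylow p G) : ppKer p G ≤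
    (pPrimeCore p (ppKer p G)).map (ppKer p G).subtype ⊔ (ppKer p G ⊓ (P : Subgroup G)) := by
  have hn := ppKer_normal p G
  have hfr : ppKer p G ⊓ (P : Subgroup G) ≤ (frattini P).map (P : Subgroup G).subtype :=
    (inf_le P).trans (map_mono (Cfsg.Agent.Lib.FrattiniPGroup.commutator_le_frattini P.isPGroup'))
  obtain ⟨L, hLn, hLK, hLc⟩ :=
    Cfsg.Agent.Transfer.TateComplement.exists_complement_of_inf_le_frattini P (ppKer p G) hfr
  have hKA : ppKer p G ≤ ppKer p G ⊔ (P : Subgroup G) := le_sup_left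
  have hPA : (P : Subgroup G) ≤ ppKer p G ⊔ (P : Subgroup G) := le_sup_right
  -- the image of `L` in `K`
  let L1 : Subgroup (ppKer p G) := (L.map (ppKer p G ⊔ (P : Subgroup G) : Subgroup G).subtype).subgroupOf (ppKer p G)
  have hLle : L.map (ppKer p G ⊔ (P : Subgroup G) : Subgroup G).subtype ≤ ppKer p G := by
    rintro _ ⟨l, hl, rfl⟩
    exact mem_subgroupOf.1 (hLK hl)
  have hL1n : L1.Normal := by
    refine ⟨fun n hn' g => ?_⟩
    obtain ⟨l, hl, hln⟩ := mem_subgroupOf.1 hn'
    refine mem_subgroupOf.2 ⟨⟨g, hKA g.2⟩ * l * (⟨g, hKA g.2⟩ : (ppKer p G ⊔ (P : Subgroup G) : Subgroup G))⁻¹, hLn.conj_mem l hl _, ?_⟩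
    rw [map_mul, map_mul, map_inv, hln]
    rfl
  have hL1c : (Nat.card L1).Coprime p := by
    have h1 : Nat.card L1 = Nat.card L := by
      have h2 : Nat.card L1 = Nat.card (L.map (ppKer p G ⊔ (P : Subgroup G) : Subgroup G).subtype) :=
        Nat.card_congr (subgroupOfEquivOfLe hLle).toEquiv
      have h3 : Nat.card L = Nat.card (L.map (ppKer p G ⊔ (P : Subgroup G) : Subgroup G).subtype) :=
        Nat.card_congr (equivMapOfInjective L _ (ppKer p G ⊔ (P : Subgroup G) : Subgroup G).subtype_injective).toEquiv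
      rw [h2, ← h3]
    rw [h1, ← hLc.index_eq_card, Nat.coprime_comm]
    exact (Nat.Prime.coprime_iff_not_dvd Fact.out).2
      (P.subtype hPA).not_dvd_index
  have hL1 : L1 ≤ pPrimeCore p (ppKer p G) := Cfsg.Agent.Lib.Cores.le_pPrimeCore hL1n hL1c
  intro k hk
  obtain ⟨⟨l, x⟩, hlx⟩ := hLc.2 ⟨k, hKA hk⟩
  have h5 : ((l : (ppKer p G ⊔ (P : Subgroup G) : Subgroup G)) : G) * ((x : (ppKer p G ⊔ (P : Subgroup G) : Subgroup G)) : G) = k := congrArg Subtype.val hlx
  have hl : ((l : (ppKer p G ⊔ (P : Subgroup G) : Subgroup G)) : G) ∈ ppKer p G := mem_subgroupOf.1 (hLK l.2)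
  have hxP : ((x : (ppKer p G ⊔ (P : Subgroup G) : Subgroup G)) : G) ∈ (P : Subgroup G) := by
    have h7 : (x : (ppKer p G ⊔ (P : Subgroup G) : Subgroup G)) ∈
        ((P.subtype hPA : Sylow p (ppKer p G ⊔ (P : Subgroup G) : Subgroup G)) :
          Subgroup (ppKer p G ⊔ (P : Subgroup G) : Subgroup G)) := x.2
    exact mem_subgroupOf.1 ((Sylow.coe_subtype P hPA).le h7)
  have hxK : ((x : (ppKer p G ⊔ (P : Subgroup G) : Subgroup G)) : G) ∈ ppKer p G := by
    have h6 : ((x : (ppKer p G ⊔ (P : Subgroup G) : Subgroup G)) : G) = (((l : (ppKer p G ⊔ (P : Subgroup G) : Subgroup G)) : G))⁻¹ * k := by rw [← h5, inv_mul_cancel_left]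
    rw [h6]
    exact mul_mem (inv_mem hl) hk
  rw [← h5]
  refine mul_mem_sup ?_ ⟨hxK, hxP⟩
  refine ⟨⟨_, hl⟩, hL1 ?_, rfl⟩
  exact mem_subgroupOf.2 ⟨(l : (ppKer p G ⊔ (P : Subgroup G) : Subgroup G)), l.2, rfl⟩

/-- `C_L(P) = 1`, `L = O_{p'}(K)`. -/
theorem inf_centralizer (P : Sylow p G) :
    (pPrimeCore p (ppKer p G)).map (ppKer p G).subtype ⊓
      centralizer ((P : Subgroup G) : Set G) = ⊥ := by
  classical
  have hn := ppKer_normal p G
  have hp : p.Prime := Fact.out
  rw [eq_bot_iff]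
  rintro c ⟨hcL, hcC⟩
  rw [mem_bot]
  by_contra hc1
  set C : Subgroup G := centralizer ((P : Subgroup G) : Set G) with hC
  set H : Subgroup G := (P : Subgroup G) ⊔ C with hH
  have hPH : (P : Subgroup G) ≤ H := le_sup_left
  have hCH : C ≤ H := le_sup_right
  have hHN : H ≤ normalizer ((P : Subgroup G) : Set G) :=
    _root_.sup_le le_normalizer (centralizer_le_normalizer _)
  have hPn : ((P : Subgroup G).subgroupOf H).Normal :=
    (normal_subgroupOf_iff_le_normalizer hPH).2 hHN
  have hHi : ¬ p ∣ H.index := fun h =>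
    P.not_dvd_index (h.trans (index_dvd_of_le hPH))
  have hQi : ¬ p ∣ Nat.card (H ⧸ (P : Subgroup G).subgroupOf H) := by
    intro h
    apply P.not_dvd_index
    refine h.trans ?_
    show ((P : Subgroup G).relIndex H) ∣ _
    exact relIndex_dvd_index_of_le hPH
  -- the order of `c` is prime to `p`
  have hcp : (orderOf c).Coprime p := by
    obtain ⟨k, hk, rfl⟩ := hcL
    have h1 : orderOf ((ppKer p G).subtype k) = orderOf k :=
      orderOf_injective _ (ppKer p G).subtype_injective k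
    rw [h1]
    exact (Cfsg.Agent.Lib.Cores.pPrimeCore_coprime (G := ppKer p G) p).coprime_dvd_left
      (Subgroup.orderOf_dvd_natCard _ hk)
  have hcK : c ∈ ppKer p G := by
    obtain ⟨k, hk, rfl⟩ := hcL
    exact k.2
  have hcP : c ∉ (P : Subgroup G) := by
    intro h
    obtain ⟨k, hk⟩ := IsPGroup.iff_orderOf.1 P.isPGroup' ⟨c, h⟩
    rw [orderOf_mk] at hk
    rw [hk] at hcp
    rcases Nat.eq_zero_or_pos k with rfl | hk0
    · rw [pow_zero, orderOf_eq_one_iff] at hk
      exact hc1 hk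
    · rw [Nat.coprime_pow_left_iff hk0, Nat.coprime_self] at hcp
      exact hp.one_lt.ne' hcp
  let x : H := ⟨c, hCH hcC⟩
  let π := QuotientGroup.mk' ((P : Subgroup G).subgroupOf H)
  have hx1 : π x ≠ π 1 := by
    rw [map_one]
    intro h
    exact hcP (mem_subgroupOf.1 ((QuotientGroup.eq_one_iff x).1 h))
  have hnc : ¬ IsConj (π x) (π 1) := by
    rw [map_one] at hx1 ⊢
    intro h
    exact hx1 (isConj_one_left.1 h)
  rw [Cfsg.Agent.S0136.result] at hnc
  push Not at hnc
  obtain ⟨χ, hχ⟩ := hnc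
  have hirr : IsIrrCharacter H ((χ : _ → ℂ) ∘ π) :=
    isIrr_comp π (QuotientGroup.mk'_surjective _) χ.2
  have hdeg : ¬ p ∣ charDegree ((χ : _ → ℂ) ∘ π) := by
    rw [Cfsg.Agent.H710.PPrimeDeg.charDegree_comp]
    intro h
    exact hQi (h.trans (Cfsg.Agent.H710.PPrimeDeg.charDegree_dvd_card χ.2))
  exact hχ (ker_under H hHi hirr hdeg (x := x) hcK)

/-- Let G be a finite group, p a prime and P a Sylow p-subgroup, and let N be the largest normal subgroup of G in which P has trivial centralizer (N is normal with C_N(P) = 1 and contains every normal subgroup with that property). Then the intersection of the kernels of the irreducible characters of G of degree prime to p is the normal core in G of the subgroup N·P' (P' the derived subgroup of P). In particular, when G has no nontrivial normal subgroup of order prime to p, that intersection is the normal core of P'. -/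
theorem result {G : Type*} [Group G] [Finite G] (p : ℕ) [Fact p.Prime] (P : Sylow p G) (N : Subgroup G) [N.Normal]
    (hN : N ⊓ Subgroup.centralizer ((P : Subgroup G) : Set G) = ⊥)
    (hmax : ∀ L : Subgroup G, L.Normal → L ⊓ Subgroup.centralizer ((P : Subgroup G) : Set G) = ⊥ → L ≤ N) :
    {g : G | ∀ χ : Cfsg.IrrCharacter G, ¬ p ∣ Cfsg.charDegree (χ : G → ℂ) → (χ : G → ℂ) g = (χ : G → ℂ) 1} =
      ((N ⊔ ⁅(P : Subgroup G), (P : Subgroup G)⁆).normalCore : Set G) := by
  classical
  have hn := ppKer_normal p G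
  have h1 : {g : G | ∀ χ : Cfsg.IrrCharacter G, ¬ p ∣ Cfsg.charDegree (χ : G → ℂ) →
      (χ : G → ℂ) g = (χ : G → ℂ) 1} = (ppKer p G : Set G) := by
    ext g
    exact mem_ppKer_iff.symm
  rw [h1, SetLike.coe_set_eq]
  apply le_antisymm
  · apply normal_le_normalCore.2
    have hL : ((pPrimeCore p (ppKer p G)).map (ppKer p G).subtype).Normal := by
      have := Cfsg.Agent.Lib.Cores.pPrimeCore_characteristic (G := ppKer p G) p
      infer_instance
    refine (le_sup P).trans (sup_le_sup (hmax _ hL (inf_centralizer P)) ?_)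
    rw [← map_subtype_commutator]
    exact inf_le P
  · intro g hg
    rw [mem_ppKer_iff]
    intro χ hχ
    have hNχ : ∀ n ∈ N, (χ : G → ℂ) n = (χ : G → ℂ) 1 := fun n hn' =>
      apply_of_normal_fpf (P : Subgroup G) P.isPGroup' N hN χ.2 hχ hn'
    have := Fintype.ofFinite N
    obtain ⟨χ', hχ'⟩ := Deflate.exists_deflation N (χ : G → ℂ) χ.2 (by
      rw [Finset.sum_congr rfl fun (x : N) _ => hNχ (x : G) x.2, Finset.sum_const,
        Finset.card_univ, nsmul_eq_mul, ← Nat.card_eq_fintype_card]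
      have hc : (Nat.card N : ℂ) ≠ 0 := by exact_mod_cast Nat.card_pos.ne'
      exact mul_ne_zero hc (Basic.irr_one_ne_zero χ.2))
    let π := QuotientGroup.mk' N
    have hdeg : ¬ p ∣ charDegree (χ' : G ⧸ N → ℂ) := by
      have h2 := Cfsg.Agent.H710.PPrimeDeg.charDegree_comp π (χ' : G ⧸ N → ℂ)
      rw [← h2]
      intro h3
      apply hχ
      rw [hχ']
      exact h3
    set M : Subgroup G := (N ⊔ ⁅(P : Subgroup G), (P : Subgroup G)⁆).normalCore with hM
    have hMn : (M.map π).Normal :=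
      (normalCore_normal _).map π (QuotientGroup.mk'_surjective N)
    have hMle : M.map π ≤ (commutator ((P : Subgroup G).map π)).map
        ((P : Subgroup G).map π).subtype := by
      rw [map_subtype_commutator, ← map_commutator]
      refine (map_mono (normalCore_le _)).trans ?_
      rw [Subgroup.map_sup, QuotientGroup.map_mk'_self, bot_sup_eq]
    have h4 := Cfsg.Agent.H710.PPrimeDeg.apply_eq_of_not_dvd ((P : Subgroup G).map π)
      (P.isPGroup'.map π) (M.map π) hMle χ'.2 hdeg (π g) ⟨g, hg, rfl⟩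
    rw [hχ']
    show (χ' : G ⧸ N → ℂ) (π g) = (χ' : G ⧸ N → ℂ) (π 1)
    rw [h4, map_one]

end Cfsg.Agent.S4591
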