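import Cfsg.Agent.H61.PQ.NegOne_m3
import Cfsg.Agent.H61.PQ.Cd2_m3
import Cfsg.Agent.S1065
import Cfsg.Agent.H996.PQ.BigSum_m3
import Cfsg.Agent.H996.Eight.TabE8a
import Cfsg.Agent.H766.PQ.Cls_mg_m3
import Cfsg.Agent.H755.PQ.TorTw
import Cfsg.Agent.H947.PQ.Own_m3
import Cfsg.Agent.H996.PQ.KqB
import Cfsg.Agent.H792.PQ.KqX
import Cfsg.Agent.Lib.RingK
import Cfsg.Agent.S0000
import Cfsg.Agent.H766.PQ.Alt
import Cfsg.Agent.H355.PQ.CoreUse_m3
import Cfsg.Agent.H990.PQ.Core
import Cfsg.Prelude.Def_Classical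
import Cfsg.Agent.H355.TF.Row
import Cfsg.Agent.H968.PQ.RatOne_m3
import Cfsg.Agent.H137.PQ.RowReeA
import Cfsg.Agent.H404.SzPaw.Tori
import Cfsg.Agent.MTwelve.ElevenBlock_mg
import Cfsg.Agent.H795.PQ.RowsGD_m3
import Cfsg.Agent.H423.PQ.CoKill
import Cfsg.Agent.H642.PQ.Tits
import Cfsg.Statements.S4612
import Cfsg.Agent.H594.PQ.KillE8_m3
import Cfsg.Agent.FastGrp
import Cfsg.Agent.Prune
set_option linter.all false

section
prune_inst 0x7fffebfdfbbf7ddeffff7e3ffeb8dffe33c6cfffefdffb4bffeeeb9fafdfb3921bedfb8f1de0f8ff0ed6e21630b87803fb7eeeffe36fd87ffffdbff45ffbee5ff7ffbd0951d79d340fbc6ffff3f077ce6f3fffffffffffffffffffffffffffbeffbffbfeffff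

-- part: H526/PQ/AsmE8
section
prune_inst 0x1402044082210000004001452001c8393000100000b0001004601020480ce4000020e0080000202004e908030054008111000c002400000040030000002000000280200802cac04100000801080010000000000000000000000000000000004004010000
set_option linter.all false
open scoped Cfsg.Agent.FastGrp

/-- decoders of the packed data (elaboration time only) -/
private noncomputable def pk61d (b S i : Nat) : Nat := Nat.mod (Nat.shiftRight S (Nat.mul b i)) (Nat.shiftLeft (nat_lit 1) b)
private noncomputable def pk61c {α : Type} (t : Nat) (a : α) (f : Nat → α) : α := Nat.rec a (fun k _ => f k) t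
private noncomputable def pk61f {α : Type} (t : Nat) (f : Nat → α) : α := Nat.rec (f Nat.zero) (fun k _ => f (Nat.succ k)) t
private noncomputable def pk61l {α : Type} (f : Nat → α) (s e : Nat) (tl : List α) : List α :=
  pk61f e fun e => Nat.rec tl (fun k ih => List.cons (pk61f (Nat.sub e (Nat.succ k)) f) ih) (Nat.sub e s)
private noncomputable def pk61o {α : Type} (O : (n : Nat) → OfNat α n → α) (I : (n : Nat) → OfNat α n) (t : Nat) : α :=
  pk61c t (O (nat_lit 0) (I (nat_lit 0))) fun k => O (Nat.succ k) (I (Nat.succ k))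
private noncomputable def pk61y (O : (n : Nat) → OfNat Int n → Int) (I : (n : Nat) → OfNat Int n) (G : Int → Int) (t : Nat) : Int := pk61f t fun t =>
  pk61c (Nat.mod t (nat_lit 2)) (pk61o O I (Nat.div t (nat_lit 2))) fun _ => G (pk61o O I (Nat.succ (Nat.div t (nat_lit 2))))

private noncomputable def lq2625fc56bb69 {T : Sort _} (f :
    (type_of% @_root_.List.cons.{0}) →
    (type_of% @_root_.List.nil.{0}) →
    (type_of% @_root_.Cfsg.Agent.H792.PQ.Cert.mk) →
    (type_of% @_root_.Prod.mk.{0, 0}) →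
    ((List (List Int)) → (List (List Int))) →
    (type_of% @_root_.Nat.add) →
    (type_of% @_root_.Nat.shiftLeft) →
    (type_of% @_root_.Cfsg.Agent.H64.Dl.Sph.pEq) →
    (type_of% @_root_.Cfsg.Agent.H996.Eight.Cert.pMul) →
    (type_of% @_root_.Nat.mul) →
    (type_of% @_root_.Cfsg.Agent.H996.PQ.Big.dg) → T) : T :=
  f (@_root_.List.cons.{0}) (@_root_.List.nil.{0}) (@_root_.Cfsg.Agent.H792.PQ.Cert.mk) (@_root_.Prod.mk.{0, 0}) (fun x => x) (@_root_.Nat.add) (@_root_.Nat.shiftLeft) (@_root_.Cfsg.Agent.H64.Dl.Sph.pEq) (@_root_.Cfsg.Agent.H996.Eight.Cert.pMul) (@_root_.Nat.mul) (@_root_.Cfsg.Agent.H996.PQ.Big.dg)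

-- part: H526/PQ/TwoBlk
section
/-!
# S4612, exceptional groups, the prime `2`: congruent eigenvalues (helper526)

For `q` odd the eigenvalues of the double cosets modulo `2` are the values at `1` of the polynomials `lam i c`; if
they agree for two constituents, the constituents are in the same `2`-block.
* `mem_two` : such constituents are in the principal `2`-block;
* `killTwo_blk` : a constituent congruent to the trivial one modulo `2` and outside the principal `l`-block
  excludes the pair `2`, `l`.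
-/

set_option autoImplicit false

namespace Cfsg.Agent.H526.PQ

open Cfsg Cfsg.Agent.H317.PQ Cfsg.Agent.H996.PQ Cfsg.Agent.H792.PQ Cfsg.Agent.H996.Eight.Cert Cfsg.Agent.H64.Dl.Sph

universe u

/-- the constituents `i`, `i'` have the same eigenvalues modulo `2` for `q` odd -/
def Par {m : ℕ} (lam : Fin m → Fin m → List ℤ) (i i' : Fin m) : Prop :=
  ∀ c, evZ 1 (lam i c) % 2 = evZ 1 (lam i' c) % 2

instance {m : ℕ} (lam : Fin m → Fin m → List ℤ) (i i' : Fin m) : Decidable (Par lam i i') := by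
  unfold Par; infer_instance

theorem mem_two {m : ℕ} {P : Pol m} {lam : Fin m → Fin m → List ℤ} {q g : ℕ} (hodd : q % 2 = 1)
    {S : Finset (Fin m)} (T : TstX P lam q 2 g S) {i i' : Fin m} (h : Par lam i i') : i ∈ S ↔ i' ∈ S := by
  apply T.blk
  intro c
  have h1 := h c
  have h2 := evZ_two (x := (q : ℤ)) (by omega) (lam i c)
  have h3 := evZ_two (x := (q : ℤ)) (by omega) (lam i' c)
  have h4 : (evZ q (lam i c) - evZ q (lam i' c)) % 2 = 0 := by omega
  exact Int.dvd_of_emod_eq_zero h4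

/-- **`KillTwo`**: a constituent `i` in the principal `2`-block (congruent eigenvalues) outside the principal
`l`-block -/
theorem killTwo_blk {G : Type u} [Group G] {m : ℕ} {P : Pol m} {lam : Fin m → Fin m → List ℤ} {q : ℕ} (hq : 1 ≤ q)
    (hodd : q % 2 = 1) {i₀ : Fin m}
    (H : ∀ p l : ℕ, p.Prime → l.Prime → Same p l G → SepX P lam q p l (Nat.card G) i₀) {f : ℕ}
    (hf : 2 ≤ f) {C : Cert m} (hC : C.ok P lam f = true) (i : Fin m) (hpar : Par lam i₀ i)
    (hno : i ∈ C.out.map Prod.fst) : KillTwo G q f := by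
  intro l hl hl2 _ h2 hS
  obtain ⟨S, h0, T, T'⟩ := H 2 l Nat.prime_two hl hS
  obtain ⟨t, ht, rfl⟩ := List.mem_map.1 hno
  exact (Cert.good hC hq hl hl2 h2 hf T').2 t ht ((mem_two hodd T hpar).1 h0)

end Cfsg.Agent.H526.PQ
end

-- part: H526/PQ/RowE8
section
/-!
# S4612, the row `E₈(q)`: the tests with the node `7` (helper526)

* `kill_A` : `Kill G q e f` for all pairs `e < f` of orders except `(2,6)`, `(4,12)`, `(5,15)`, `(8,24)`, `(7,9)`,
  `(7,14)`, `(7,18)`, `(9,14)`, `(9,18)`, `(14,18)` (list `LC`); the constituent 3 has defect zero for the primes of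
  orders 7, 9, 14;
* `killTwo` : `KillTwo G q f` for `f ≠ 3` (congruent eigenvalues modulo 2).
-/

set_option autoImplicit false
set_option maxRecDepth 20000

namespace Cfsg.Agent.H526.PQ.E8

open Cfsg Cfsg.Agent.H317.PQ Cfsg.Agent.H996.PQ Cfsg.Agent.H996.Eight.Cert Cfsg.Agent.H64.Dl.Sph Cfsg.Lie
open Cfsg.Agent.H792.PQ

universe u

/-- the orders -/
def es : List ℕ := (beta% delta% lq2625fc56bb69 fun vqc0 vqc1 _ _ _ _ _ _ _ _ _ =>
    (vqc0 2 (vqc0 3 (vqc0 4 (vqc0 5 (vqc0 6 (vqc0 7 (vqc0 8 (vqc0 9 (vqc0 10 (vqc0 12 (vqc0 14 (vqc0 15 (vqc0 18 (vqc0 20 (vqc0 24 (vqc0 30 vqc1)))))))))))))))))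

/-- the certificates for node `7` -/
def CA : ℕ → Cert 5
  | 2 => (beta% delta% lq2625fc56bb69 fun vqc0 vqc1 vqc2 vqc3 _ _ _ _ _ _ _ =>
      (vqc2 (vqc0 (vqc3 0 1) (vqc0 (vqc3 0 2) (vqc0 (vqc3 0 3) vqc1))) (vqc0 (vqc3 4 (vqc3 (vqc0 (-1) vqc1) 4)) vqc1)))
  | 3 => ⟨[(0, 2), (0, 3), (1, 4)], []⟩
  | 4 => (beta% delta% lq2625fc56bb69 fun vqc0 vqc1 vqc2 vqc3 _ _ _ _ _ _ _ =>
      (vqc2 (vqc0 (vqc3 0 2) (vqc0 (vqc3 0 4) vqc1)) (vqc0 (vqc3 1 (vqc3 (vqc0 1 (vqc0 (-1) vqc1)) 2)) (vqc0 (vqc3 3 (vqc3 (vqc0 (-1) (vqc0 (-1) vqc1)) 4)) vqc1))))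
  | 5 => (beta% delta% lq2625fc56bb69 fun vqc0 vqc1 vqc2 vqc3 _ _ _ _ _ _ _ =>
      (vqc2 (vqc0 (vqc3 0 3) (vqc0 (vqc3 1 4) vqc1)) (vqc0 (vqc3 2 (vqc3 (vqc0 (-1) (vqc0 0 (vqc0 (-1) (vqc0 (-1) vqc1)))) 1)) vqc1)))
  | 6 => (beta% delta% lq2625fc56bb69 fun vqc0 vqc1 vqc2 vqc3 _ _ _ _ _ _ _ =>
      (vqc2 (vqc0 (vqc3 0 1) (vqc0 (vqc3 0 2) (vqc0 (vqc3 0 3) vqc1))) (vqc0 (vqc3 4 (vqc3 (vqc0 (-1) vqc1) 4)) vqc1)))
  | 7 => (beta% delta% lq2625fc56bb69 fun vqc0 vqc1 vqc2 vqc3 _ _ _ _ _ _ _ =>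
      (vqc2 vqc1 (vqc0 (vqc3 1 (vqc3 (vqc0 0 (vqc0 (-1) (vqc0 0 (vqc0 (-1) (vqc0 0 (vqc0 (-1) vqc1)))))) 1)) (vqc0 (vqc3 2 (vqc3 (vqc0 0 (vqc0 0 (vqc0 (-1) (vqc0 1 (vqc0 (-1) vqc1))))) 1)) (vqc0 (vqc3 4 (vqc3 (vqc0 (-1) (vqc0 0 (vqc0 (-1) (vqc0 (-1) (vqc0 (-1) (vqc0 (-1) vqc1)))))) 1)) vqc1)))))
  | 8 => (beta% delta% lq2625fc56bb69 fun vqc0 vqc1 vqc2 vqc3 _ _ _ _ _ _ _ =>
      (vqc2 (vqc0 (vqc3 0 2) vqc1) (vqc0 (vqc3 1 (vqc3 (vqc0 (-1) (vqc0 1 (vqc0 1 (vqc0 (-1) vqc1)))) 2)) (vqc0 (vqc3 3 (vqc3 (vqc0 0 (vqc0 1 vqc1)) 2)) (vqc0 (vqc3 4 (vqc3 (vqc0 0 (vqc0 0 (vqc0 1 vqc1))) 2)) vqc1)))))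
  | 9 => (beta% delta% lq2625fc56bb69 fun vqc0 vqc1 vqc2 vqc3 _ _ _ _ _ _ _ =>
      (vqc2 vqc1 (vqc0 (vqc3 1 (vqc3 (vqc0 (-2) (vqc0 0 (vqc0 (-1) (vqc0 (-1) (vqc0 0 (vqc0 (-2) vqc1)))))) 3)) (vqc0 (vqc3 2 (vqc3 (vqc0 (-2) (vqc0 0 (vqc0 (-1) (vqc0 (-1) (vqc0 0 (vqc0 (-2) vqc1)))))) 3)) (vqc0 (vqc3 4 (vqc3 (vqc0 0 (vqc0 (-2) (vqc0 2 (vqc0 (-3) (vqc0 2 (vqc0 (-2) vqc1)))))) 3)) vqc1)))))
  | 10 => (beta% delta% lq2625fc56bb69 fun vqc0 vqc1 vqc2 vqc3 _ _ _ _ _ _ _ =>
      (vqc2 (vqc0 (vqc3 0 1) (vqc0 (vqc3 0 3) vqc1)) (vqc0 (vqc3 2 (vqc3 (vqc0 1 (vqc0 (-2) (vqc0 3 (vqc0 1 vqc1)))) 5)) (vqc0 (vqc3 4 (vqc3 (vqc0 0 (vqc0 0 (vqc0 0 (vqc0 1 vqc1)))) 4)) vqc1))))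
  | 12 => (beta% delta% lq2625fc56bb69 fun vqc0 vqc1 vqc2 vqc3 _ _ _ _ _ _ _ =>
      (vqc2 (vqc0 (vqc3 0 2) (vqc0 (vqc3 0 4) vqc1)) (vqc0 (vqc3 1 (vqc3 (vqc0 0 (vqc0 0 (vqc0 (-1) (vqc0 1 vqc1)))) 2)) (vqc0 (vqc3 3 (vqc3 (vqc0 (-1) (vqc0 0 (vqc0 0 (vqc0 1 vqc1)))) 4)) vqc1))))
  | 14 => (beta% delta% lq2625fc56bb69 fun vqc0 vqc1 vqc2 vqc3 _ _ _ _ _ _ _ =>
      (vqc2 vqc1 (vqc0 (vqc3 1 (vqc3 (vqc0 6 (vqc0 (-5) (vqc0 4 (vqc0 (-3) (vqc0 2 (vqc0 (-1) vqc1)))))) 7)) (vqc0 (vqc3 2 (vqc3 (vqc0 2 (vqc0 (-4) (vqc0 (-1) (vqc0 (-1) (vqc0 3 (vqc0 2 vqc1)))))) 7)) (vqc0 (vqc3 4 (vqc3 (vqc0 1 (vqc0 0 (vqc0 1 (vqc0 (-1) (vqc0 1 (vqc0 (-1) vqc1)))))) 1)) vqc1)))))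
  | 15 => (beta% delta% lq2625fc56bb69 fun vqc0 vqc1 vqc2 vqc3 _ _ _ _ _ _ _ =>
      (vqc2 (vqc0 (vqc3 0 3) (vqc0 (vqc3 1 4) vqc1)) (vqc0 (vqc3 2 (vqc3 (vqc0 0 (vqc0 (-4) (vqc0 3 (vqc0 1 (vqc0 (-3) (vqc0 1 (vqc0 (-2) (vqc0 1 vqc1)))))))) 5)) vqc1)))
  | 18 => (beta% delta% lq2625fc56bb69 fun vqc0 vqc1 vqc2 vqc3 _ _ _ _ _ _ _ =>
      (vqc2 (vqc0 (vqc3 1 2) vqc1) (vqc0 (vqc3 1 (vqc3 (vqc0 2 (vqc0 0 (vqc0 (-1) (vqc0 (-1) (vqc0 0 (vqc0 2 vqc1)))))) 3)) (vqc0 (vqc3 2 (vqc3 (vqc0 2 (vqc0 0 (vqc0 (-1) (vqc0 (-1) (vqc0 0 (vqc0 2 vqc1)))))) 3)) (vqc0 (vqc3 3 (vqc3 (vqc0 2 (vqc0 0 (vqc0 0 (vqc0 (-1) vqc1)))) 3)) (vqc0 (vqc3 4 (vqc3 (vqc0 0 (vqc0 0 (vqc0 0 (vqc0 1 vqc1)))) 1)) vqc1))))))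
  | 20 => (beta% delta% lq2625fc56bb69 fun vqc0 vqc1 vqc2 vqc3 _ _ _ _ _ _ _ =>
      (vqc2 (vqc0 (vqc3 0 4) vqc1) (vqc0 (vqc3 1 (vqc3 (vqc0 0 (vqc0 0 (vqc0 (-1) (vqc0 1 vqc1)))) 2)) (vqc0 (vqc3 2 (vqc3 (vqc0 (-1) (vqc0 1 (vqc0 (-2) (vqc0 2 (vqc0 (-1) (vqc0 1 vqc1)))))) 5)) (vqc0 (vqc3 3 (vqc3 (vqc0 1 (vqc0 0 (vqc0 (-1) (vqc0 1 (vqc0 1 (vqc0 0 (vqc0 (-1) vqc1))))))) 4)) vqc1)))))
  | 24 => (beta% delta% lq2625fc56bb69 fun vqc0 vqc1 vqc2 vqc3 _ _ _ _ _ _ _ =>
      (vqc2 (vqc0 (vqc3 0 2) vqc1) (vqc0 (vqc3 1 (vqc3 (vqc0 1 (vqc0 (-1) (vqc0 1 (vqc0 (-1) (vqc0 (-1) (vqc0 1 vqc1)))))) 2)) (vqc0 (vqc3 3 (vqc3 (vqc0 0 (vqc0 (-2) (vqc0 4 (vqc0 (-4) (vqc0 0 (vqc0 3 (vqc0 1 (vqc0 (-1) vqc1)))))))) 14)) (vqc0 (vqc3 4 (vqc3 (vqc0 (-1) (vqc0 1 (vqc0 0 (vqc0 (-1) (vqc0 2 (vqc0 (-2) (vqc0 2 (vqc0 (-1) vqc1)))))))) 2)) vqc1)))))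
  | 30 => (beta% delta% lq2625fc56bb69 fun vqc0 vqc1 vqc2 vqc3 _ _ _ _ _ _ _ =>
      (vqc2 (vqc0 (vqc3 0 1) vqc1) (vqc0 (vqc3 2 (vqc3 (vqc0 6 (vqc0 4 (vqc0 (-5) (vqc0 (-5) (vqc0 (-3) (vqc0 (-1) (vqc0 0 (vqc0 7 vqc1)))))))) 5)) (vqc0 (vqc3 3 (vqc3 (vqc0 (-2) (vqc0 1 (vqc0 3 (vqc0 (-6) (vqc0 3 (vqc0 1 (vqc0 (-2) vqc1))))))) 30)) (vqc0 (vqc3 4 (vqc3 (vqc0 0 (vqc0 1 (vqc0 (-1) (vqc0 0 (vqc0 (-1) (vqc0 1 vqc1)))))) 2)) vqc1)))))
  | _ => ⟨[], []⟩

/-- the pairs of orders killed by the certificates -/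
noncomputable def LA : List (ℕ × ℕ) :=
  (by
  refine (?fq9001 : (fun (On : (n : Nat) → OfNat Nat n → Nat) (In : (n : Nat) → OfNat Nat n) => ((pk61l (fun i1 => (_root_.Prod.mk (pk61o On In (pk61d (nat_lit 5) 
    (nat_lit 0xc5292949ef7bdce7318c6318a5294a529294a528421084210739ce7398c6318c6318c6294a5294a521084210842108418c6318c6318c6318c42108421084210842) i1)) (pk61o On In (pk61d (nat_lit 5) 
    (nat_lit 0xf7b1ec53d8a4bd8a7b1493ddec524f733d8a315ea49ee6293ec518a47b1493dcc52507f629262906f62927b94941cc5f62927b98a4a0e6293d8a49ee6292839483) i1)))) (nat_lit 0) (nat_lit 104) List.nil) : List (ℕ × ℕ)))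
    = ?xq9001 → (List (ℕ × ℕ))) ?hq9001; (case hq9001 => (set_option maxRecDepth 1000000 in conv => lhs; reduce)); intro _; exact ?xq9001 (@OfNat.ofNat Nat) instOfNatNat : List (ℕ × ℕ))

theorem okA : ∀ e ∈ es, (CA e).ok FullE8a.pol FullE8a.lam e = true := by (delta Cert.ok; simp only [H996.Eight.Kq.chkDvd_eq, H996.Eight.Kq.chkR_eq]; decide +kernel)

theorem noA : ∀ x ∈ LA, ∀ S : Finset (Fin 5), 0 ∈ S → (CA x.1).Good S → (CA x.2).Good S → False :=
  fun x hx => H996.Eight.Kq.no_of
    ((by decide +kernel : ∀ x ∈ LA, H996.Eight.Kq.noK (CA x.1) (CA x.2) 0 = true) x hx)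

theorem memA : ∀ x ∈ LA, x.1 ∈ es ∧ x.2 ∈ es ∧ 2 ≤ x.1 ∧ 2 ≤ x.2 := by decide +kernel

/-- the orders for which the constituent `3` has defect zero, against `5`, `15` -/
theorem noZ : ∀ e ∈ [7, 9, 14], ∀ f ∈ [5, 15], ∀ S : Finset (Fin 5), 0 ∈ S → 3 ∉ S → (CA f).Good S → False := by
  decide +kernel

variable (F : Type u) [Field F] [Fintype F]

theorem kill_cert : ∀ x ∈ LA, Kill ↥(chevE8.group F) (Fintype.card F) x.1 x.2 := fun x hx =>
  kill_of Fintype.card_pos (fun _ _ hp hl hS => FullE8a.sepX hp hl hS) (memA x hx).2.2.1 (memA x hx).2.2.2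
    (okA _ (memA x hx).1) (okA _ (memA x hx).2.1) (noA x hx)

/-! ### orders 7, 9, 14: the constituent `3` has defect zero -/

section DZ

theorem fac_le {r g d N P D : ℕ} (hr : r.Prime) (hr2 : r ≠ 2) (hd : d ≠ 0) (h1 : g = N * P) (h2 : ¬ r ∣ N)
    (h3 : 2 * d = P * D) : g.factorization r ≤ d.factorization r := by
  rw [← hr.pow_dvd_iff_le_factorization hd]
  have h4 : r ^ g.factorization r ∣ N * P := h1 ▸ Nat.ordProj_dvd g r
  have hc : Nat.Coprime (r ^ g.factorization r) N :=
    Nat.Coprime.pow_left _ ((Nat.Prime.coprime_iff_not_dvd hr).2 h2)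
  have h5 : r ^ g.factorization r ∣ P := hc.dvd_of_dvd_mul_left h4
  have h6 : r ^ g.factorization r ∣ 2 * d := h3 ▸ h5.mul_right D
  have hc2 : Nat.Coprime (r ^ g.factorization r) 2 :=
    Nat.Coprime.pow_left _ ((Nat.coprime_primes hr Nat.prime_two).2 hr2)
  exact hc2.dvd_of_dvd_mul_left h6

variable {F}

theorem not_three_of {q r : ℕ} (hq : Fintype.card F = q) (hr : r.Prime) (hr2 : r ≠ 2)
    (hrG : r ∣ Nat.card ↥(chevE8.group F)) {S : Finset (Fin 5)}
    (T : TstX FullE8a.pol FullE8a.lam (Fintype.card F) r (Nat.card ↥(chevE8.group F)) S) {N P : ℕ}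
    (hN : Nat.card ↥(chevE8.group F) = N * P) (hrN : ¬ r ∣ N)
    (hP : (P : ℤ) ∣ evZ q (FullE8a.pol.dn 3)) : (3 : Fin 5) ∉ S := by
  intro h3
  have h4 := T.dz 3 h3 hrG
  have hq2 : 2 ≤ q := by rw [← hq]; exact Fintype.one_lt_card
  rw [hq] at h4
  have hdeg := FullE8a.deg (x := q) hq2 3
  have hden : FullE8a.pol.den 3 = 2 := by decide +kernel
  rw [hden] at hdeg
  have hDn : P ∣ 2 * FullE8a.pol.deg q 3 := by
    rw [← Int.natCast_dvd_natCast]
    push_cast
    push_cast at hdeg
    rw [hdeg]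
    exact hP
  obtain ⟨D, hD⟩ := hDn
  have hd0 : FullE8a.pol.deg q 3 ≠ 0 := by
    intro h0
    have h7 : (0 : ℚ) < ev (q : ℚ) (FullE8a.pol.dn 3) :=
      ev_pos (by exact_mod_cast hq2) (by decide +kernel)
    have h8 := FullE8a.deg (x := q) hq2 3
    rw [h0, Nat.cast_zero, mul_zero] at h8
    have h9 := evZ_cast (q : ℤ) (FullE8a.pol.dn 3)
    rw [← h8] at h9
    push_cast at h9
    rw [← h9] at h7
    exact lt_irrefl _ h7
  exact absurd h4 (not_lt.2 (fac_le hr hr2 hd0 hN hrN hD))

theorem not_three {e r : ℕ} (he7 : e ∈ [7, 9, 14]) (hr : r.Prime) (hr2 : r ≠ 2)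
    (he : ord (Fintype.card F) r = e) (hrG : r ∣ Nat.card ↥(chevE8.group F)) {S : Finset (Fin 5)}
    (T : TstX FullE8a.pol FullE8a.lam (Fintype.card F) r (Nat.card ↥(chevE8.group F)) S) : (3 : Fin 5) ∉ S := by
  obtain ⟨q, hq⟩ : ∃ q, Fintype.card F = q := ⟨_, rfl⟩
  have hq1 : 1 ≤ q := by rw [← hq]; exact Fintype.card_pos
  rw [hq] at he
  have hcard := S1065.result hq
  have he0 : e ≠ 0 := by
    intro h
    rw [h] at he7
    exact absurd he7 (by decide)
  have hn : ∀ n, ¬ e ∣ n → ¬ r ∣ q ^ n - 1 := fun n hn h => hn (by rw [← he, ord_dvd hq1]; exact h)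
  have hy : ∀ n, e ∣ n → r ∣ q ^ n - 1 := fun n hn => by rw [← ord_dvd hq1, he]; exact hn
  have hrq : ¬ r ∣ q := by
    intro h
    have : Fact r.Prime := ⟨hr⟩
    have h0 : (q : ZMod r) = 0 := (ZMod.natCast_eq_zero_iff q r).2 h
    rw [ord, h0, orderOf_zero (ZMod r)] at he
    exact he0 he.symm
  have hrq' : ∀ n, ¬ r ∣ q ^ n := fun n h => hrq (hr.dvd_of_dvd_pow h)
  -- `q ^ n + 1` for `e ∣ n`
  have hp : ∀ n, e ∣ n → ¬ r ∣ q ^ n + 1 := by
    intro n hen h
    have h1 : 1 ≤ q ^ n := Nat.one_le_pow _ _ hq1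
    have h6 : r ∣ (q ^ n + 1) - (q ^ n - 1) := Nat.dvd_sub h (hy n hen)
    have h7 : (q ^ n + 1) - (q ^ n - 1) = 2 := by omega
    rw [h7] at h6
    exact hr2 ((Nat.prime_dvd_prime_iff_eq hr Nat.prime_two).1 h6)
  have hdn := FullE8a.evdn3 (q : ℤ)
  simp only [List.mem_cons, List.not_mem_nil, or_false] at he7
  rcases he7 with rfl | rfl | rfl
  · -- order 7
    refine not_three_of hq hr hr2 hrG T
      (N := q ^ (120:ℕ) * (q ^ (2:ℕ) - 1) * (q ^ (8:ℕ) - 1) * (q ^ (12:ℕ) - 1) * ((q ^ (1:ℕ) - 1) * (q ^ (7:ℕ) + 1)) * (q ^ (18:ℕ) - 1) *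
        (q ^ (20:ℕ) - 1) * (q ^ (24:ℕ) - 1) * (q ^ (30:ℕ) - 1))
      (P := q ^ (6:ℕ) + q ^ (5:ℕ) + q ^ (4:ℕ) + q ^ (3:ℕ) + q ^ (2:ℕ) + q + 1) ?_ ?_ ?_
    · rw [hcard]
      have e14 : q ^ (14:ℕ) - 1 = (q ^ (1:ℕ) - 1) * (q ^ (7:ℕ) + 1) * (q ^ (6:ℕ) + q ^ (5:ℕ) + q ^ (4:ℕ) + q ^ (3:ℕ) + q ^ (2:ℕ) + q + 1) := by
        obtain ⟨t, rfl⟩ : ∃ t, q = t + 1 := ⟨q - 1, by omega⟩
        have h6 : (t + 1) ^ (14:ℕ) = ((t + 1) ^ (1:ℕ) - 1) * ((t + 1) ^ (7:ℕ) + 1) *
            ((t + 1) ^ (6:ℕ) + (t + 1) ^ (5:ℕ) + (t + 1) ^ (4:ℕ) + (t + 1) ^ (3:ℕ) + (t + 1) ^ (2:ℕ) + (t + 1) + 1) + 1 := by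
          rw [pow_one, Nat.add_sub_cancel]
          (set_option synthInstance.maxSize 99999 in exact Cfsg.Agent.Lib.RingK.eqN (by decide +kernel))
        omega
      rw [e14]
      ring
    · simp only [hr.dvd_mul, not_or]
      exact ⟨⟨⟨⟨⟨⟨⟨⟨hrq' _, hn 2 (by norm_num)⟩, hn 8 (by norm_num)⟩, hn 12 (by norm_num)⟩, hn 1 (by norm_num),
        hp 7 dvd_rfl⟩, hn 18 (by norm_num)⟩, hn 20 (by norm_num)⟩, hn 24 (by norm_num)⟩, hn 30 (by norm_num)⟩
    · rw [hdn]
      push_cast
      exact Dvd.intro_left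
        ((q : ℤ) ^ (3:ℕ) * (q ^ (2:ℕ) + 1) ^ (2:ℕ) * (q ^ (4:ℕ) + 1) * (q ^ (6:ℕ) + q ^ (3:ℕ) + 1) * (q ^ (4:ℕ) - q ^ (2:ℕ) + 1) *
          (q ^ (6:ℕ) - q ^ (5:ℕ) + q ^ (4:ℕ) - q ^ (3:ℕ) + q ^ (2:ℕ) - q + 1) * (q ^ (8:ℕ) - q ^ (6:ℕ) + q ^ (4:ℕ) - q ^ (2:ℕ) + 1) * (q ^ (8:ℕ) - q ^ (4:ℕ) + 1) *
          (q ^ (8:ℕ) + q ^ (7:ℕ) - q ^ (5:ℕ) - q ^ (4:ℕ) - q ^ (3:ℕ) + q + 1)) (by (set_option synthInstance.maxSize 99999 in exact Cfsg.Agent.Lib.RingK.eq (by decide +kernel)))
  · -- order 9
    refine not_three_of hq hr hr2 hrG T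
      (N := q ^ (120:ℕ) * (q ^ (2:ℕ) - 1) * (q ^ (8:ℕ) - 1) * (q ^ (12:ℕ) - 1) * (q ^ (14:ℕ) - 1) * ((q ^ (3:ℕ) - 1) * (q ^ (9:ℕ) + 1)) *
        (q ^ (20:ℕ) - 1) * (q ^ (24:ℕ) - 1) * (q ^ (30:ℕ) - 1))
      (P := q ^ (6:ℕ) + q ^ (3:ℕ) + 1) ?_ ?_ ?_
    · rw [hcard]
      have e18 : q ^ (18:ℕ) - 1 = (q ^ (3:ℕ) - 1) * (q ^ (9:ℕ) + 1) * (q ^ (6:ℕ) + q ^ (3:ℕ) + 1) := by
        have h1 : 1 ≤ q ^ (3:ℕ) := Nat.one_le_pow _ _ hq1
        obtain ⟨t, ht⟩ : ∃ t, q ^ (3:ℕ) = t + 1 := ⟨q ^ (3:ℕ) - 1, by omega⟩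
        have e1 : q ^ (18:ℕ) = (t + 1) ^ (6:ℕ) := by rw [← ht]; ring
        have e2 : q ^ (9:ℕ) = (t + 1) ^ (3:ℕ) := by rw [← ht]; ring
        have e3 : q ^ (6:ℕ) = (t + 1) ^ (2:ℕ) := by rw [← ht]; ring
        rw [e1, e2, e3, ht, Nat.add_sub_cancel]
        have h6 : (t + 1) ^ (6:ℕ) = t * ((t + 1) ^ (3:ℕ) + 1) * ((t + 1) ^ (2:ℕ) + (t + 1) + 1) + 1 := by ring
        omega
      rw [e18]
      ring
    · simp only [hr.dvd_mul, not_or]
      exact ⟨⟨⟨⟨⟨⟨⟨⟨hrq' _, hn 2 (by norm_num)⟩, hn 8 (by norm_num)⟩, hn 12 (by norm_num)⟩, hn 14 (by norm_num)⟩,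
        hn 3 (by norm_num), hp 9 dvd_rfl⟩, hn 20 (by norm_num)⟩, hn 24 (by norm_num)⟩, hn 30 (by norm_num)⟩
    · rw [hdn]
      push_cast
      exact Dvd.intro_left
        ((q : ℤ) ^ (3:ℕ) * (q ^ (2:ℕ) + 1) ^ (2:ℕ) * (q ^ (4:ℕ) + 1) * (q ^ (6:ℕ) + q ^ (5:ℕ) + q ^ (4:ℕ) + q ^ (3:ℕ) + q ^ (2:ℕ) + q + 1) *
          (q ^ (4:ℕ) - q ^ (2:ℕ) + 1) *
          (q ^ (6:ℕ) - q ^ (5:ℕ) + q ^ (4:ℕ) - q ^ (3:ℕ) + q ^ (2:ℕ) - q + 1) * (q ^ (8:ℕ) - q ^ (6:ℕ) + q ^ (4:ℕ) - q ^ (2:ℕ) + 1) * (q ^ (8:ℕ) - q ^ (4:ℕ) + 1) *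
          (q ^ (8:ℕ) + q ^ (7:ℕ) - q ^ (5:ℕ) - q ^ (4:ℕ) - q ^ (3:ℕ) + q + 1)) (by (set_option synthInstance.maxSize 99999 in exact Cfsg.Agent.Lib.RingK.eq (by decide +kernel)))
  · -- order 14
    obtain ⟨P, hP⟩ : q + 1 ∣ q ^ (7:ℕ) + 1 := by
      have h := Odd.nat_add_dvd_pow_add_pow q 1 (n := 7) (by decide)
      rwa [one_pow] at h
    have hPZ : (P : ℤ) = (q : ℤ) ^ (6:ℕ) - q ^ (5:ℕ) + q ^ (4:ℕ) - q ^ (3:ℕ) + q ^ (2:ℕ) - q + 1 := by
      have h1 : ((q : ℤ) + 1) ≠ 0 := by positivity
      apply mul_left_cancel₀ h1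
      have h2 : ((q ^ (7:ℕ) + 1 : ℕ) : ℤ) = (((q + 1) * P : ℕ) : ℤ) := by rw [hP]
      push_cast at h2
      rw [← h2]
      ring
    refine not_three_of hq hr hr2 hrG T
      (N := q ^ (120:ℕ) * (q ^ (2:ℕ) - 1) * (q ^ (8:ℕ) - 1) * (q ^ (12:ℕ) - 1) * ((q ^ (7:ℕ) - 1) * (q + 1)) * (q ^ (18:ℕ) - 1) *
        (q ^ (20:ℕ) - 1) * (q ^ (24:ℕ) - 1) * (q ^ (30:ℕ) - 1))
      (P := P) ?_ ?_ ?_
    · rw [hcard]
      have e14 : q ^ (14:ℕ) - 1 = (q ^ (7:ℕ) - 1) * (q + 1) * P := by
        rw [mul_assoc, ← hP]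
        have h1 : 1 ≤ q ^ (7:ℕ) := Nat.one_le_pow _ _ hq1
        obtain ⟨t, ht⟩ : ∃ t, q ^ (7:ℕ) = t + 1 := ⟨q ^ (7:ℕ) - 1, by omega⟩
        have e1 : q ^ (14:ℕ) = (t + 1) ^ (2:ℕ) := by rw [← ht]; ring
        rw [e1, ht, Nat.add_sub_cancel]
        have h6 : (t + 1) ^ (2:ℕ) = t * (t + 1 + 1) + 1 := by ring
        omega
      rw [e14]
      ring
    · have h2 : ¬ r ∣ q + 1 := by
        intro h
        refine hn 2 (by norm_num) (h.trans ⟨q - 1, ?_⟩)
        obtain ⟨t, rfl⟩ : ∃ t, q = t + 1 := ⟨q - 1, by omega⟩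
        have h6 : (t + 1) ^ (2:ℕ) = (t + 1 + 1) * t + 1 := by ring
        rw [Nat.add_sub_cancel]
        omega
      simp only [hr.dvd_mul, not_or]
      exact ⟨⟨⟨⟨⟨⟨⟨⟨hrq' _, hn 2 (by norm_num)⟩, hn 8 (by norm_num)⟩, hn 12 (by norm_num)⟩, hn 7 (by norm_num),
        h2⟩, hn 18 (by norm_num)⟩, hn 20 (by norm_num)⟩, hn 24 (by norm_num)⟩, hn 30 (by norm_num)⟩
    · rw [hdn, hPZ]
      exact Dvd.intro_left
        ((q : ℤ) ^ (3:ℕ) * (q ^ (2:ℕ) + 1) ^ (2:ℕ) * (q ^ (6:ℕ) + q ^ (5:ℕ) + q ^ (4:ℕ) + q ^ (3:ℕ) + q ^ (2:ℕ) + q + 1) * (q ^ (4:ℕ) + 1) *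
          (q ^ (6:ℕ) + q ^ (3:ℕ) + 1) * (q ^ (4:ℕ) - q ^ (2:ℕ) + 1) * (q ^ (8:ℕ) - q ^ (6:ℕ) + q ^ (4:ℕ) - q ^ (2:ℕ) + 1) * (q ^ (8:ℕ) - q ^ (4:ℕ) + 1) *
          (q ^ (8:ℕ) + q ^ (7:ℕ) - q ^ (5:ℕ) - q ^ (4:ℕ) - q ^ (3:ℕ) + q + 1)) (by (set_option synthInstance.maxSize 99999 in exact Cfsg.Agent.Lib.RingK.eq (by decide +kernel)))

end DZ

theorem kill_Z {e f : ℕ} (he : e ∈ [7, 9, 14]) (hf : f ∈ [5, 15]) :
    Kill ↥(chevE8.group F) (Fintype.card F) e f := by
  intro p l hp hl hp2 hl2 _ hpG _ h1 h2 hS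
  obtain ⟨S, h0, T, T'⟩ := FullE8a.sepX hp hl hS
  have hfes : f ∈ es := (by decide : ∀ f ∈ [5, 15], f ∈ es) f hf
  have hf2 : 2 ≤ f := (by decide : ∀ f ∈ [5, 15], 2 ≤ f) f hf
  exact noZ e he f hf S h0 (not_three he hp hp2 h1 hpG T)
    (Cert.good (okA f hfes) Fintype.card_pos hl hl2 h2 hf2 T')

/-- the pairs which are left -/
def LC : List (ℕ × ℕ) :=
  (beta% delta% lq2625fc56bb69 fun vqc0 vqc1 _ vqc3 _ _ _ _ _ _ _ =>
      (vqc0 (vqc3 2 6) (vqc0 (vqc3 4 12) (vqc0 (vqc3 5 15) (vqc0 (vqc3 8 24) (vqc0 (vqc3 7 9) (vqc0 (vqc3 7 14) (vqc0 (vqc3 7 18) (vqc0 (vqc3 9 14) (vqc0 (vqc3 9 18) (vqc0 (vqc3 14 18) vqc1)))))))))))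

/-- **All pairs but those of `LC`.** -/
theorem kill_A : ∀ e ∈ es, ∀ f ∈ es, e < f → (e, f) ∉ LC → Kill ↥(chevE8.group F) (Fintype.card F) e f := by
  intro e he f hf hef hC
  have key : ∀ e ∈ es, ∀ f ∈ es, e < f → (e, f) ∉ LC → (e, f) ∈ LA ∨ (e ∈ [7, 9, 14] ∧ f ∈ [5, 15]) ∨
      (f ∈ [7, 9, 14] ∧ e ∈ [5, 15]) := by decide +kernel
  rcases key e he f hf hef hC with h | ⟨h1, h2⟩ | ⟨h1, h2⟩
  · exact kill_cert F _ h
  · exact kill_Z F h1 h2
  · exact (kill_Z F h1 h2).symm

/-! ### the prime 2 -/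

theorem twoA : ∀ f ∈ es, f ≠ 3 → ∃ i : Fin 5, Par FullE8a.lam 0 i ∧ i ∈ (CA f).out.map Prod.fst := by
  decide +kernel

/-- **The prime `2` against all orders but `3`.** -/
theorem killTwo (h : Fintype.card F % 2 = 1) : ∀ f ∈ es, f ≠ 3 →
    KillTwo ↥(chevE8.group F) (Fintype.card F) f := by
  intro f hf hf3
  obtain ⟨i, h1, h2⟩ := twoA f hf hf3
  have hf' : 2 ≤ f := (by decide : ∀ f ∈ es, 2 ≤ f) f hf
  exact killTwo_blk Fintype.card_pos h (fun _ _ hp hl hS => FullE8a.sepX hp hl hS) hf' (okA f hf) i h1 h2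

end Cfsg.Agent.H526.PQ.E8
end

-- part: H996/PQ/TabE8b
section
/-!
# The large table of the spherical machine: `E₈`, node `0` (helper996, for S4612; made by a program)

2160 states, 10 classes.
-/

set_option autoImplicit false
set_option maxRecDepth 20000

namespace Cfsg.Agent.H996.PQ.TabE8b

open Cfsg.Agent.H967.Sph Cfsg.Agent.H64.Dl.Sph Cfsg.Agent.H996.Eight.Cert Cfsg.Agent.H996.PQ.Big

/-- the Cartan matrix -/
def A (i k : Fin 8) : ℤ := (beta% delta% lq2625fc56bb69 fun vqc0 vqc1 _ _ vqc4 _ _ _ _ _ _ =>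
    (((vqc0 (vqc0 2 (vqc0 0 (vqc0 (-1) (vqc0 0 (vqc0 0 (vqc0 0 (vqc0 0 (vqc0 0 vqc1)))))))) (vqc0 (vqc0 0 (vqc0 2 (vqc0 0 (vqc0 (-1) (vqc0 0 (vqc0 0 (vqc0 0 (vqc0 0 vqc1)))))))) (vqc0 (vqc0 (-1) (vqc0 0 (vqc0 2 (vqc0 (-1) (vqc0 0 (vqc0 0 (vqc0 0 (vqc0 0 vqc1)))))))) (vqc0 (vqc0 0 (vqc0 (-1) (vqc0 (-1) (vqc0 2 (vqc0 (-1) (vqc0 0 (vqc0 0 (vqc0 0 vqc1)))))))) (vqc0 (vqc0 0 (vqc0 0 (vqc0 0 (vqc0 (-1) (vqc0 2 (vqc0 (-1) (vqc0 0 (vqc0 0 vqc1)))))))) (vqc0 (vqc0 0 (vqc0 0 (vqc0 0 (vqc0 0 (vqc0 (-1) (vqc0 2 (vqc0 (-1) (vqc0 0 vqc1)))))))) (vqc0 (vqc0 0 (vqc0 0 (vqc0 0 (vqc0 0 (vqc0 0 (vqc0 (-1) (vqc0 2 (vqc0 (-1) vqc1)))))))) (vqc0 (vqc0 0 (vqc0 0 (vqc0 0 (vqc0 0 (vqc0 0 (vqc0 0 (vqc0 (-1) (vqc0 2 vqc1)))))))) vqc1)))))))) : type_of% (vqc4 _)).getD i vqc1).getD k 0)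

/-- the exponents of the parameters -/
def e (i : Fin 8) : ℕ := ([1, 1, 1, 1, 1, 1, 1, 1] : List ℕ).getD i 0

/-- the encoded table -/
def B : Bg 8 2160 10 where
  V := (by refine (?fq1 : ((beta% delta% lq2625fc56bb69 fun _ _ _ _ _ vqc5 vqc6 _ _ _ _ =>
      vqc5 (vqc5 (vqc5 (vqc5 (vqc5 (nat_lit 0x88887902166988879907396988879803276988878a042769887a870215698879980738698879970326698879890427698878a806376988789904276987a7780426698799770214698798880737698798870325698798790426698797980636698797890425698789970635698789880324698788990427697a7888042669799778042569798977021369798888073669798887032469798879042569798798063569798789042469797997063469797988032369797899042369789887063369789878032269789789032169788988063269788898042768a78888042668997888042568989778042468988977021268988888073568988887032368988879042468988798063468988789042368987997063368987988032268987899042268979887063268979878032168979789032068978988063168978898042168898887063168898878032068898789031f68897988063068897898031e68889878062f68889788062e68888987031d68888898052d68888889)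 (vqc6 (nat_lit 0x6326a88887803216a88878903206a88798806316a887898031f6a87987806306a879788062f6a878987031e6a878898042e6a878889031e6a798878062f6a798788062e6a797987031d6a797898042d6a797889062d6a789877031c6a789788042c6a789779031b6a788987042b6a788978062c6a788897021a6a788889073d6a788888042b6a788799042a6a78799804296a77988804286a698888031d69988878062e69988788062d69987987031c69987898042c69987889062c69979877031b69979788042b69979779031a69978987042a69978978062b69978897021969978889073c69978888042a69978799042969977998042869969888062b69898877031a69898788042a69898779031969897987042969897978062a69897897021869897889073b69897888042969897799042869896998031869889877042869889868062969889787021769889779073a69889778042869889689062869888986021669888978073969888977031769888897063869) (nat_lit 3000))) (vqc6 (vqc5 (nat_lit 0xa78897021a77a78889073d77a78888042b77a78799042a77a77998042977a69888062c77998877031b77998788042b77998779031a77997987042a77997978062b77997897021977997889073c77997888042a77997799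042977996998031977989877042977989868062a77989787021877989779073b77989778042977989689062977988986021777988978073a77988977031877988897063977988879021777988799073a7798879803287798878a042877987a870216779879980739779879970327779879890428779878a806387798789904287797a7780427779799770215779798880738779798870326779798790427779797980637779797890426779789970636779789880325779788990428778a788804277789977804267789897702147789888807377789888703257789887904267789879806367789878904257789799706357789798803247789789904247788988706347788987803237788978903227788898806337788889805226a888887) (vqc6 (nat_lit 0x73c78879977031a78879897063b78879879021978879799073c78879798032a7887978a042a78878a87021878878998073b78878997032978878989042a788788a8063a78878899062d787a8877031c787a8788042c787a8779031b787a7987042b787a7978062c787a7897021a787a7889073d787a7888042b787a7799042a787a6998031a78799877042a78799868062b78799787021978799779073c78799778042a78799689062a78798986021878798978073b78798977031978798897063a78798879021878798799073b7879879803297879878a042978797a87021778797998073a787979970328787979890429787978a806397879789904297878a778042878789977021678789888073978789887032778789879042878789798063878789789042778788997063778788988032678788899031e77a88878062f77a88788062e77a87987031d77a87898042d77a87889062d77a79877031c77a79788042c77a79779031b77a78987042b77a78978062c77)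 (nat_lit 3000))) (nat_lit 6000))) (vqc6 (vqc5 (vqc5 (nat_lit 0x899777062f78899768031e78899679041e78898976062e78898967020b78898887072e78898886084178898877042d78898869041e78898797010a78898789021d7889877a074078898779031d78898699042d7889868a031d78897a77041d78897996010978897988021c78897979073f78897978084078897897062e788977a8021c7889779a073f78897799031c78896a97042c78896a88062d788969a7021b78896999073e78896998042c788968a9031d7888a768062e7888a678031c78889967041c78889886010878889878021b78889869073e78889868083f78889787062d78889698021b7888968a073e78889689062d78888a76083e78888986010778888898032c7888887a031c788887a8063d7888878a062c78887a96021a78887a88073d78887a87031b788879a7063c78887989021a788878a9073d788878a8032b7888789a031b7887a877042b7887a868062c7887a787021a7887a779073d7887a778042b7887a689062b78879986021978879978) (vqc6 (nat_lit 0x4307898877a063078988699042078987a86063078987a77020d78987997073078987996084378987987042f789879790420789878a7010c78987899021f7898788a074278987889031f789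877a9042f7898779a062f78986a97031e789869a8042e7898699904207897a77706307897a768031f7897a679041f78979976062f78979967020c78979887072f78979886084278979877042e78979869041f78979797010b78979789021e7897977a074178979779031e78979699042e7897968a031e78978a77041e78978996010a78978988021d78978979074078978978084178978897062f789787a8021d7897879a074078978799031d78977a97042d78977a88062e789779a7021c78977999073f78977998042d789778a9062e7896a877031d7896a788042d7896a779031c78969987042c78969978062d78969897021b78969889073e78969888042c78969799042b789689980420788a78870630788a7878031f788a7789031e788a6988062f788a6898041f78) (nat_lit 3000))) (vqc6 (vqc5 (nat_lit 0x77a779031d79779987042d79779978062e79779897021c79779889073f79779888042d79779799042c79778998031f796a88780630796a8788062f796a7987031e796a7898042e796a7889062e79699877031d79699788042d79699779031c79698987042c79698978062d79698897021b79698889073e79698888042c79698799042b79697998042a79689888042578a87888042478a79778042378a78977021178a78888073478a78887032278a78879042378a78798063378a78789042278a77997063278a77988032178a77899042178a69887063178a69878032078a69789031f78a68988063078a68898042378998778042278997977021078997888073378997887032178997879042278997798063278997789042178996997063178996988032078996899042178989867020f78989778073278989777032078989769042178989688063178989679020e78988977073178988976031f78988968010d78988879020e78988798073178988797084478988788)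 (vqc6 (nat_lit 0x42279799867021079799778073379799777032179799769042279799688063279799679020f79798977073279798976032079798968010e79798879020f7979879807327979879708457979878804317979877a063179798699042179797a86063179797a77020e797979970731797979960844797979870430797979790421797978a7010d7979789902207979788a0743797978890320797977a904307979779a063079796a97031f797969a8042f7979699904217978a77706317978a76803207978a679042079789976063079789967020d79789887073079789886084379789877042f79789869042079789797010c79789789021f7978977a074279789779031f79789699042f7978968a031f79788a77041f79788996010b79788988021e797889790741797889780842797888970630797887a8021e7978879a074179788799031e79787a97042e79787a88062f797879a7021d79787999074079787998042e797878a9062f7977a877031e7977a788042e79) (nat_lit 3000))) (nat_lit 6000))) (nat_lit 12000))) (vqc6 (vqc5 (vqc5 (vqc5 (nat_lit 0x88967a03127988898606337988896806237988889608487988887801117988878a03227988869a021179887a87073479887a86032279887a780110798879890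211798878a80734798878a708477988789804337988788a0633798877a9032179886a980632798869a804237987a86702117987a77807347987a77703227987a76904237987a68806337987a679021079879977073379879976032179879968010f7987987902107987979807337987979708467987978804327987977a063279879699042279878a86063279878a77020f798789970732798789960845798789870431798789790422798788a7010e7987889902217987888a0744798788890321798787a904317987879a063179877a970320798779a804307987799903207986a87806317986a788063079869987031f79869898042f798698890424797a87780423797a79770211797a78880734797a78870322797a78790423797a77980633797a77890422797a69970632797a69880321797a6899) (vqc6 (nat_lit 0x6287998789702167998788907397998788804277998779904267998699803167997987704267997986806277997978702157997977907387997977804267997968906267997898602147997897807377997897703157997889706367997887902147997879907377997879803257997878a042579977a870213799779980736799779970324799779890425799778a806357997789904257996a77804247996997702127996988807357996988703237996987904247996979806347996978904237996899706337996898803227996889903157989887704257989886806267989878702147989877907377989877804257989868906257989798602137989797807367989797703147989789706357989787902137989779907367989779803247989778a042479896a870212798969980735798969970323798969890424798968a8063479896899062479889876021279889868073579889867031379889787063479889769021279889689073579889688032379)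 (nat_lit 3000))) (vqc6 (vqc5 (nat_lit 0x87799804277a869888062a7a79887703197a79878804297a79877903187a79798704287a79797806297a79789702177a797889073a7a79788804287a79779904277a79699803177a78987704277a78986806287a78978702167a78977907397a78977804277a78968906277a78898602157a78897807387a78897703167a78889706377a78887902157a78879907387a78879803267a78878a04267a787a8702147a78799807377a78799703257a78798904267a7878a806367a78789904267a77a77804257a77997702137a77988807367a77988703247a77987904257a77979806357a77978904247a77899706347a77898803237a77889904267a6a788804257a69977804247a69897702127a69888807357a69888703237a69887904247a69879806347a69878904237a69799706337a69798803227a69789904227a68988706327a68987803217a68978903207a68898806317a688898062979988877031879988788042879988779031779987987042779987978) (vqc6 (nat_lit 0x62f87879897021d87879889074087879888042e87879799042d878789980320877a88780631877a87880630877a7987031f877a7898042f877a7889062f87799877031e87799788042e87799779031d87798987042d87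798978062e87798897021c87798889073f87798888042d87798799042c87797998042b87789888052386a88887063386a88878032286a88789032186a87988063286a87898032086a79878063186a79788063086a78987031f86a78898042f86a78889031f86998878063086998788062f86997987031e86997898042e86997889062e86989877031d86989788042d86989779031c86988987042c86988978062d86988897021b86988889073e86988888042c86988799042b86987998042a86979888042986898888031c7a888878062d7a888788062c7a887987031b7a887898042b7a887889062b7a879877031a7a879788042a7a87977903197a87898704297a878978062a7a87889702187a878889073b7a87888804297a87879904287a) (nat_lit 3000))) (nat_lit 6000))) (vqc6 (vqc5 (vqc5 (nat_lit 0x899777032287899769042387899688063387899679021087898977073387898976032187898968010f8789887902108789879807338789879708468789878804328789877a063287898699042287897a86063287897a77020f878979970732878979960845878979870431878979790422878978a7010e8789789902218789788a0744878978890321878977a904318789779a063187896a970320878969a804308789699904228788a77706328788a76803218788a679042187889976063187889967020e87889887073187889886084487889877043087889869042187889797010d8788978902208788977a07438788977903208788969904308788968a032087888a77042087888996010c87888988021f878889790742878889780843878888970631878887a8021f8788879a074287888799031f87887a97042f87887a880630878879a7021e87887999074187887998042f878878a906308787a877031f8787a788042f8787a779031e87879987042e87879978)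 (vqc6 (nat_lit 0x6248798889608498798887801128798878a03238798869a021287987a87073587987a86032387987a780111879879890212879878a80735879878a708488798789804348798788a0634879877a9032287986a980633879869a804248797a86702128797a77807358797a77703238797a76904248797a68806348797a67902118797997707348797997603228797996801108797987902118797979807348797979708478797978804338797977a063387979699042387978a86063387978a770210879789970733879789960846879789870432879789790423879788a7010f8797889902228797888a0745879788890322879787a904328797879a063287977a970321879779a804318797799903218796a87806328796a7880631879699870320879698980430879698890425878a87780424878a79770212878a78880735878a78870323878a78790424878a77980634878a77890423878a69970633878a69880322878a6899042387899867021187899778073487) (nat_lit 3000))) (vqc6 (vqc5 (nat_lit 0xa87888042887a87799042787a86998031787a79877042787a79868062887a79787021687a79779073987a79778042787a79689062787a78986021587a78978073887a78977031687a78897063787a78879021587a78799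073887a78798032687a7878a042687a77a87021487a77998073787a77997032587a77989042687a778a8063687a77899042687a6a778042587a69977021387a69888073687a69887032487a69879042587a69798063587a69789042487a68997063487a68988032387a6889903168799887704268799886806278799878702158799877907388799877804268799868906268799798602148799797807378799797703158799789706368799787902148799779907378799779803258799778a042587996a870213879969980736879969970324879969890425879968a806358799689906258798987602138798986807368798986703148798978706358798976902138798968907368798968803248798967a031387988986063487988968) (vqc6 (vqc5 (nat_lit 0x73688797a86032488797a780112887979890213887978a80736887978a708498879789804358879788a0635887977a9032388796a980634887969a804258878a86702138878a77807368878a77703248878a76904258878a68806358878a67902128878997707358878997603238878996801118878987902128878979807358878979708488878978804348878977a063488789699042488788a86063488788a770211887889970734887889960847887889870433887889790424887888a701108878889902238878888a0746887888890323887887a904338878879a063388787a970322887879a804328878799903228877a87806338877a7880632887799870321887798980431887798890524886a88870634886a88780323886a87890322886a79880633886a7898032188699878063288699788063188698987032088698898043088698889062a87a88877031987a88788042987a88779031887a87987042887a87978062987a87897021787a87889073a87)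 (vqc6 (nat_lit 0x87a86703168887a78706378887a76902158887a68907388887a68803268887a67a031588879986063688879968062688879896084b8887987801148887978a03258887969a021488878a87073788878a86032588878a780113888789890214888788a80737888788a7084a8887889804368887888a0636888787a9032488877a980635888779a805258886a88706358886a87803248886a7890323888699880634888698980317887a88770427887a88680628887a87870216887a87790739887a87780427887a86890627887a79860215887a79780738887a79770316887a78970637887a78790215887a77990738887a77980326887a778a0426887a6a870214887a69980737887a69970325887a69890426887a68a80636887a689906268879987602148879986807378879986703158879978706368879976902148879968907378879968803258879967a031488798986063588798968062588798896084a8879887801138879878a03248879869a021388797a87) (nat_lit 3000))) (nat_lit 3000))) (nat_lit 6000))) (nat_lit 12000))) (nat_lit 24000))) (vqc6 (vqc5 (vqc5 (vqc5 (vqc5 (nat_lit 0x31a888a7878062b888a7788062a888a69870319888a68980529888a6889031988899768062a8889967803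1888898967041888898886010488898878021788898869073a88898868083b8889878706298889869802178889868a073a88898689062988897a76083a8889798601038889789803288889787a0318888977a806398889778a062888896a96021688896a88073988896a870317888969a70638888969890216888968a90739888968a803278889689a06298888a76703188888a67805288888a66906288888996608398888987601028888978803278888976a03178888969806388888967a031788888a76052788888a67010188888987032688888969083888888896000088888889094e8888888701168888887a0628888887a7084d888887890527888886a906378888869a031688887a96063788887a780627888879a6084c8888798801158888789a0326888877aa052688886aa7063688886a980325888869a906278887a87602158887a868073888) (vqc6 (nat_lit 0x988779031a88988699042a8898868a031a88987a77041a88987996010688987988021988987979073c88987978083d88987897062b889877a802198898779a073c88987799031988986a97042988986a88062a889869a7021888986999073b889869980429889868a9031a8897a768062b8897a678031988979967041988979886010588979878021888979869073b88979868083c88979787062a8897969802188897968a073b88979689062a88978a76083b8897898601048897889803298897887a0319889787a8063a8897878a062988977a96021788977a88073a88977a870318889779a70639889779890217889778a9073a889778a803288897789a03188896a87704288896a86806298896a78702178896a779073a8896a77804288896a68906288896998602168896997807398896997703178896989706388896987902168896979907398896979803278896978a042788968a870215889689980738889689970326889689890427889688a8063788968899)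 (nat_lit 3000))) (vqc6 (vqc5 (nat_lit 0x62a896a78970218896a7889073b896a78880429896a77990428896a6998031889699877042889699868062989699787021789699779073a8969977804288969968906288969898602168969897807398969897703178969889706388969887902168969879907398969879803278969878a042789697a870215896979980738896979970326896979890427896978a806378969789904278968a778042689689977021489689888073789689887032589689879042689689798063689689789042589688997063589688988032489688899041e88a78887062e88a78878031d88a78789031c88a77988062d88a77898031b88a69878062c88a69788062b88a68987031a88a68898052a88a68889041d88997887062d88997878031c88997789031b88996988062c88996898041c88989777062c88989768031b88989679041b88988976062b88988967020888988887072b88988886083e88988877042a88988869041b88988797010788988789021a8898877a073d88) (vqc6 (nat_lit 0x797988021a89797979073d89797978083e89797897062c897977a8021a8979779a073d89797799031a89796a97042a89796a88062b897969a7021989796999073c89796998042a897968a9031b8978a768062c8978a678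031a89789967041a89789886010689789878021989789869073c89789868083d89789787062b8978969802198978968a073c89789689062b89788a76083c89788986010589788898032a8978887a031a897887a8063b8978878a062a89787a96021889787a88073b89787a870319897879a7063a897879890218897878a9073b897878a803298978789a03198977a87704298977a868062a8977a78702188977a779073b8977a77804298977a689062989779986021789779978073a89779977031889779897063989779879021789779799073a8977979803288977978a042889778a870216897789980739897789970327897789890428897788a8063889778899062b896a8877031a896a8788042a896a87790319896a79870429896a7978) (nat_lit 3000))) (nat_lit 6000))) (vqc6 (vqc5 (vqc5 (nat_lit 0x41e8987a777062e8987a768031d8987a679041d89879976062d89879967020a89879887072d89879886084089879877042c89879869041d89879797010989879789021c8987977a073f89879779031c89879699042c8987968a031c89878a77041c89878996010889878988021b89878979073e89878978083f89878897062d898787a8021b8987879a073e89878799031b89877a97042b89877a88062c898779a7021a89877999073d89877998042b898778a9062c8986a877031b8986a788042b8986a779031a89869987042a89869978062b89869897021989869889073c89869888042a89869799042989868998041e897a7887062e897a7878031d897a7789031c897a6988062d897a6898041d89799777062d89799768031c89799679041c89798976062c89798967020989798887072c89798886083f89798877042b89798869041c89798797010889798789021b8979877a073e89798779031b89798699042b8979868a031b89797a77041b89797996010789)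 (vqc6 (nat_lit 0x697988062e8a697898031c8a689878062d8a689788062c8a688987031b8a688898052b8a688889042389987888042289979778042189978977020f89978888073289978887032089978879042189978798063189978789042089977997063089977988031f89977899041f89969887062f89969878031e89969789031d89968988062e89968898042189898778042089897977020e89897888073189897887031f89897879042089897798063089897789041f89896997062f89896988031e89896899041f89889867020d89889778073089889777031e89889769041f89889688062f89889679020c89888977072f89888976031d89888968010b89888879020c89888798072f89888797084289888788042e8988877a062e89888699041e89887a86062e89887a77020b89887997072e89887996084189887987042d89887979041e898878a7010a89887899021d8988788a074089887889031d898877a9042d8988779a062d89886a97031c898869a8042c89886999) (nat_lit 3000))) (vqc6 (vqc5 (nat_lit 0x73a9698977804289698968906289698898602169698897807399698897703179698889706389698887902169698879907399698879803279698878a042796987a87021596987998073896987997032696987989042796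9878a806379698789904279697a7780426969799770214969798880737969798870325969798790426969797980636969797890425969789970635969789880324969788990427968a788804269689977804259689897702139689888807369689888703249689887904259689879806359689878904249689799706349689798803239689789904239688988706339688987803229688978903219688898806329688889804258a87888804248a79788804238a78977804228a78897702108a78888807338a78888703218a78887904228a78879806328a78878904218a78799706318a78798803208a78789904208a77988706308a779878031f8a779789031e8a778988062f8a778898041f8a698887062f8a698878031e8a698789031d8a) (vqc6 (vqc5 (nat_lit 0x7a7888042a977a77990429977a6998031997799877042997799868062a97799787021897799779073b97799778042997799689062997798986021797798978073a97798977031897798897063997798879021797798799073a9779879803289779878a042897797a870216977979980739977979970327977979890428977978a806389779789904289778a778042797789977021597789888073897789887032697789879042797789798063797789789042697788997063697788988032597788899031d96a88878062e96a88788062d96a87987031c96a87898042c96a87889062c96a79877031b96a79788042b96a79779031a96a78987042a96a78978062b96a78897021996a78889073c96a78888042a96a78799042996a77998042896a69888062b96998877031a96998788042a96998779031996997987042996997978062a96997897021896997889073b96997888042996997799042896996998031896989877042896989868062996989787021796989779)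 (vqc6 (nat_lit 0x83f97897897062d978977a8021b9789779a073e97897799031b97896a97042b97896a88062c978969a7021a97896999073d97896998042b978968a9031c9788a768062d9788a678031b97889967041b97889886010797889878021a97889869073d97889868083e97889787062c97889698021a9788968a073d97889689062c97888a76083d97888986010697888898032b9788887a031b978887a8063c9788878a062b97887a96021997887a88073c97887a87031a978879a7063b978879890219978878a9073c978878a8032a9788789a031a9787a877042a9787a868062b9787a78702199787a779073c9787a778042a9787a689062a97879986021897879978073b97879977031997879897063a97879879021897879799073b9787979803299787978a042997878a87021797878998073a978789970328978789890429978788a8063997878899062c977a8877031b977a8788042b977a8779031a977a7987042a977a7978062b977a78970219977a7889073c97) (nat_lit 3000))) (nat_lit 3000))) (nat_lit 6000))) (nat_lit 12000))) (vqc6 (vqc5 (vqc5 (vqc5 (nat_lit 0x97a679041e97979976062e97979967020b97979887072e97979886084197979877042d97979869041e97979797010a97979789021d9797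977a074097979779031d97979699042d9797968a031d97978a77041d97978996010997978988021c97978979073f97978978084097978897062e979787a8021c9797879a073f97978799031c97977a97042c97977a88062d979779a7021b97977999073e97977998042c979778a9062d9796a877031c9796a788042c9796a779031b97969987042b97969978062c97969897021a97969889073d97969888042b97969799042a97968998041f978a7887062f978a7878031e978a7789031d978a6988062e978a6898041e97899777062e97899768031d97899679041d97898976062d97898967020a97898887072d97898886084097898877042c97898869041d97898797010997898789021c9789877a073f97898779031c97898699042c9789868a031c97897a77041c97897996010897897988021b97897979073e97897978) (vqc6 (nat_lit 0x73d98698888042b98698799042a98697998042998689888042497a87888042397a79778042297a78977021097a78888073397a78887032197a78879042297a78798063297a78789042197a77997063197a77988032097a77899042097a69887063097a69878031f97a69789031e97a68988062f97a68898042297998778042197997977020f97997888073297997887032097997879042197997798063197997789042097996997063097996988031f97996899042097989867020e97989778073197989777031f97989769042097989688063097989679020d97988977073097988976031e97988968010c97988879020d97988798073097988797084397988788042f9798877a062f97988699041f97987a86062f97987a77020c97987997072f97987996084297987987042e97987979041f979878a7010b97987899021e9798788a074197987889031e979877a9042e9798779a062e97986a97031d979869a8042d97986999041f9797a777062f9797a768031e97)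 (nat_lit 3000))) (vqc6 (vqc5 (nat_lit 0x797987042f987979790420987978a7010c98797899021f9879788a074298797889031f987977a9042f9879779a062f98796a97031e987969a8042e9879699904209878a77706309878a768031f9878a679041f98789976062f98789967020c98789887072f98789886084298789877042e98789869041f98789797010b98789789021e9878977a074198789779031e98789699042e9878968a031e98788a77041e98788996010a98788988021d98788979074098788978084198788897062f987887a8021d9878879a074098788799031d98787a97042d98787a88062e987879a7021c98787999073f98787998042d987878a9062e9877a877031d9877a788042d9877a779031c98779987042c98779978062d98779897021b98779889073e98779888042c98779799042b98778998031e986a8878062f986a8788062e986a7987031d986a7898042d986a7889062d98699877031c98699788042c98699779031b98698987042b98698978062c98698897021a98698889) (vqc6 (nat_lit 0x7339887a77703219887a76904229887a68806329887a679020f98879977073298879976032098879968010e98879879020f9887979807329887979708459887978804319887977a063198879699042198878a86063198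878a77020e988789970731988789960844988789870430988789790421988788a7010d9887889902209887888a0743988788890320988787a904309887879a063098877a97031f988779a8042f98877999031f9886a87806309886a788062f98869987031e98869898042e988698890423987a87780422987a79770210987a78880733987a78870321987a78790422987a77980632987a77890421987a69970631987a69880320987a6899042198799867020f98799778073298799777032098799769042198799688063198799679020e98798977073198798976031f98798968010d98798879020e9879879807319879879708449879878804309879877a063098798699042098797a86063098797a77020d98797997073098797996084398) (nat_lit 3000))) (nat_lit 6000))) (vqc6 (vqc5 (vqc5 (nat_lit 0x977a870212989779980735989779970323989779890424989778a806349897789904249896a77804239896997702119896988807349896988703229896987904239896979806339896978904229896899706329896898803219896889903149889887704249889886806259889878702139889877907369889877804249889868906249889798602129889797807359889797703139889789706349889787902129889779907359889779803239889778a042398896a870211988969980734988969970322988969890423988968a806339889689906239888987602119888986807349888986703129888978706339888976902119888968907349888968803229888967a03119888898606329888896806229888889608479888887801109888878a03219888869a021098887a87073398887a86032198887a78010f988879890210988878a80733988878a708469888789804329888788a0632988877a9032098886a980631988869a804229887a86702109887a778)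 (vqc6 (nat_lit 0x7379978897703159978889706369978887902149978879907379978879803259978878a042599787a870213997879980736997879970324997879890425997878a806359978789904259977a7780424997799770212997798880735997798870323997798790424997797980634997797890423997789970633997789880322997788990425996a7888042499699778042399698977021199698888073499698887032299698879042399698798063399698789042299697997063299697988032199697899042199689887063199689878032099689789031f9968898806309968889806289898887703179898878804279898877903169898798704269898797806279898789702159898788907389898788804269898779904259898699803159897987704259897986806269897978702149897977907379897977804259897968906259897898602139897897807369897897703149897889706359897887902139897879907369897879803249897878a042498) (nat_lit 3000))) (vqc6 (vqc5 (nat_lit 0x7889880631a77888980426a6a788880425a69978880424a69897780423a69889770211a69888880734a69888870322a69888790423a69887980633a69887890422a69879970632a69879880321a69878990421a6979887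0631a69798780320a6979789031fa69789880630a69788980420a68988870630a6898878031fa6898789031ea6897988062fa6897898031da6889878062ea6889788062da6888987031ca6888898052ca6888889031b99888878062c99888788062b99887987031a99887898042a99887889062a99879877031999879788042999879779031899878987042899878978062999878897021799878889073a99878888042899878799042799877998042699869888062999798877031899798788042899798779031799797987042799797978062899797897021699797889073999797888042799797799042699796998031699789877042699789868062799789787021599789779073899789778042699789689062699788986021499788978) (vqc6 (vqc5 (nat_lit 0x319a79789870429a7978978062aa79788970218a7978889073ba79788880429a79787990428a79779980427a7969888062aa78988770319a78987880429a78987790318a78979870428a78979780629a78978970217a7897889073aa78978880428a78977990427a78969980317a78898770427a78898680628a78897870216a78897790739a78897780427a78896890627a78889860215a78889780738a78889770316a78888970637a78888790215a78887990738a78887980326a788878a0426a7887a870214a78879980737a78879970325a78879890426a78878a80636a78878990426a787a7780425a78799770213a78798880736a78798870324a78798790425a78797980635a78797890424a78789970634a78789880323a78788990426a77a78880425a77997780424a77989770212a77988880735a77988870323a77988790424a77987980634a77987890423a77979970633a77979880322a77978990422a77898870632a77898780321a77897890320a7)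 (vqc6 (nat_lit 0x521a88888870631a88888780320a8888789031fa88879880630a8887898031ea8879878062fa8879788062ea8878987031da8878898042da8878889031da8798878062ea8798788062da8797987031ca8797898042ca8797889062ca8789877031ba8789788042ba8789779031aa8788987042aa8788978062ba87888970219a8788889073ca8788888042aa87887990429a87879980428a87798880427a8698888031ca7988878062da7988788062ca7987987031ba7987898042ba7987889062ba7979877031aa7979788042aa7979779) (nat_lit 3000))) (nat_lit 3000))) (nat_lit 6000))) (nat_lit 12000))) (nat_lit 27000))) (nat_lit 51000)) :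
      ℕ)) = ?xq1 → Nat) ?hq1; (case hq1 => (conv => lhs; whnf)); intro _; exact OfNat.ofNat ?xq1 : Nat)
  S := (by refine (?fq2 : ((beta% delta% lq2625fc56bb69 fun _ _ _ _ _ vqc5 vqc6 _ _ _ _ =>
      vqc5 (vqc5 (vqc5 (vqc5 (vqc5 (vqc5 (nat_lit 0x1f01d81008100d01e02101e01b01e80f08000c01d02001c01d01f80e07f00b01c01c01d01c01c80d07e00a01b01b01b01e01b80c01a06301901a01a01a01a80b01902a01a01801901901980a01802901801901701301880901702801701701801101480801602701601601601601680701502601501501501501280601402501401401400f01780501302401301301101801380401202301201201001201580301102201100e01301700f80201002101000d01201001080100f02000f00c00f01401180000e01f00901100e00e00c7ff00d01e00801000d00a00d7fe00c01d00700f00b00c00e7fd00b01c00600b00c00b00b7fc00a01b00500a00a00d00a7fb00900900e0090090090077fa00800800d0080080050087f900700700c0070060070097f800600600b0040070060067f700500500a0030050080057f60040040040060040010047f50030030030050020030037f40020020020020030020007f30010010010010010040017f2000000000000000000002)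 (vqc6 (nat_lit 0x3e03e03504082f0a003d03d03d03904503f82e09f03c03c03c03804403c82d09e03b03b03b03703b04282c09d03a03a03304303a03782b09c03903903203d04103982a09b03803803103c04003582909a03703703003b03703a82809903603602f03604703682709803503502e03503e03882609703402904903302f03482509603302803a03402d03082409503202703903203203282309403102603803103102e82209303002503703002b03382109202f02403602d03402f82009102e02303502c02e03181f09002d02202d02f03302b81e08f02c02102c02e02c02c81d08e02b02002b02b03002d81c08d01905302902a02a02a81b08c01803402a02802402981a08b01703302802902202581908a01603202702702702781808901503102602602602381708801403002502502002881608701302f02402202902481508601202e02302102302681408501102d01f02402802081308401002c01e02302102181208300f02b01d02002502281108200e01f02201f) (nat_lit 3000))) (vqc6 (vqc5 (nat_lit 0x6e05206005d05805b84e0bf06d05105f05a05c05c84d0be06c05005e05905505d84c0bd06b04f05a05c05a05784b0bc06a04e05905b05405984a0bb06904d05805805d0558490ba06804c05705705705a8480b906704b0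560560560568470b806604a05505405b0588460b70650490530550590548450b606402a0540530530538440b505205d05205204d0508430b405105c05104f0510518420b305005b05004e04a0528410b204f05a04805104f04c8400b104e05904705004904e83f0b004d05804604d05204a83e0af04c05704504c04c04f83d0ae04b05604404b04b04b83c0ad04a05504304905004d83b0ac04905403404a04e04983a0ab04804804f04803f0458390aa04704704e0470360478380a904604604d0420460438370a804504504c04103d0488360a704404404b04003c0448350a604304304a03a0430468340a504204204204604203b8330a40410410410450390418320a304004004004403803e8310a203f03f03f03f04803d8300a103e03e) (vqc6 (nat_lit 0x86e2d707c07c07c07c07907c86d2d607b07b07b07a07b07d86c2d507a07a07807b07a07a86b2d407907907707907c07986a2d307807307a0780750788692d20770720790760770778682d10760710760770760748672d00750700750750780758662cf07406f0740740740768652ce0620780730730700738642cd0610770720710720728632cc06007606e07207106f8622cb05f07506d0700730708612ca05e07406c06f06f0718602c905d06e07106e06906c85f2c805c06d07006b06d06d85e2c705b06c06f06a06606e85d2c605a06b06b06d06b06885c2c505906a06a06c06506a85b2c405806906906906e06685a2c305706806806806806b8592c20560670670670670678582c105506606606506c0698572c005406506406606a0658562bf0530630650640640648552be01a0640630630630638540c507306206206205f0628530c40720610610600610618520c307106005d06106005e8510c207005f05c05f06205f8500c106f05e05b05e05e06084f0c0)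 (nat_lit 3000))) (nat_lit 6000))) (vqc6 (vqc5 (vqc5 (nat_lit 0xa409c5cf0380d309b09409f0a30985ce0370d209a09309e09a09d5cd0360d10990920990aa0995cc0350d00980910980a109b5cb0340cf08c0ac0960920975ca0330ce08b09d0970900935c90320cd08a09c0950950955c80310cc08909b0940940915c70300cb08809a09308e0965c602f0ca0870990900970925c502e0c908609808f0910945c402d0c808509009209608e5c302c0c708408f09108f08f5c202b0c608308e08e0930905c102a08d0b608c08d08d08d5c002908c09708d08b08708c5bf02808b09608b08c0850885be02708a09508a08a08a08a5bd0260890940890890890865bc02508809308808808308b5bb02408709208708508c0875ba0230860910860840860895b902208509008208708b0835b802108408f0810860840845b702008308e0800830880855b601f0820820850820820805b501e08108108408107e0815b401d08008008307f0800825b301c07f07f07f08007f07f5b201b07e07e07e07e08107e86f2d807d07d07d07d07d07b) (vqc6 (nat_lit 0xbb0bb0c00b85ee0571a20af0ba0ba0ba0bd5ed0561a10ae0b90b90b90b95ec0551a00ad0b80b70be0bb5eb05419f0ac0b60b80bc0b75ea05319e08d0b70b60b60b65e90520ed0c00b50b50b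00b35e80510ec0bf0b40b20b40b45e70500eb0be0b30b10ad0b55e604f0ea0bd0ab0b40b20af5e504e0e90bc0aa0b30ac0b15e404d0e80bb0a90b00b50ad5e304c0e70ba0a80af0af0b25e204b0e60b90a70ae0ae0ae5e104a0e50b80a60ac0b30b05e00490e40b70970ad0b10ac5df0480e30ab0b20ab0a20a85de0470e20aa0b10aa0990aa5dd0460e10a90b00a50a90a65dc0450e00a80af0a40a00ab5db0440df0a70ae0a309f0a75da0430de0a60ad09d0a60a95d90420dd0a50a50a90a509e5d80410dc0a40a40a809c0a45d70400db0a30a30a709b0a15d603f0da0a20a20a20ab0a05d503e0d90a10a10a10980a35d403d0d80a00a009c0a80a25d303c0d709f09f09b0a709f5d203b0d609e09e09a09e0a55d103a0d509d0960a609d09a5d00390d409c0950a0) (nat_lit 3000))) (vqc6 (vqc5 (nat_lit 0xa20f80da0da0e30d860d0d90a10f70d90d90d00db60c0d80a00f60d80d40e00da60b0d709f0f50d70d30df0d760a0d609e0f40d60d20d60dd6090d509d0f30ce0de0d50d26080d409c0f20cd0d80dc0d46070d309b0f10cc0d70db0d06060d209a0f00cb0d60d20d56050d10990ef0ca0d10e20d16040d00980ee0c90d00d90d36030cf0970cf0e40ce0ca0cf6020ce0960ce0d50cf0c80cb6010cd0950cd0d40cd0cd0cd6000cc0940cc0d30cc0cc0c95ff0cb0930cb0d20cb0c60ce5fe0ca0920ca0d10c80cf0ca5fd0c90910c90d00c70c90cc5fc0c80900c80c80ca0ce0c65fb0c708f0c70c70c90c70c75fa0c608e0c60c60c60cb0c85f90621ad0c50c50c50c20c55f80611ac0c40c40c30c40c45f70601ab0c30c00c40c30c15f605f1aa0c20bf0c20c50c25f505e1a90c10be0c10c10c35f405d1a80b50c30c00bb0be5f305c1a70b40c20bd0bf0bf5f205b1a60b30c10bc0b80c05f105a1a50b20bd0bf0bd0ba5f00591a40b10bc0be0b70bc5ef0581a30b0)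 (vqc6 (nat_lit 0x62d0f90f90db1070fd0f10f762c0f80f80da1060f81010f662b0f70f70d91050f70ee0f962a0f60f60d81040f20fe0f86290f50f50d71030f10fd0f56280f40f40d61020f00f40fb6270f30f30d50f30fc0f30f06260f20f20d40f20f60fa0f26250f10f10d30f10f50f90ee6240f00f00d20f00f40f00f36230ef0ef0d10ef0ef1000ef6220ee0ee0d00ee0ee0f70f16210ed0b51470ed0ed0e80eb6200ec0b41460ec0ea0ec0ec61f0eb0b31450eb0e90e50ed61e0ea0b21440e30ec0ea0e761d0e90b11430e20eb0e40e961c0e80b01420e10e80ed0e561b0e70af1410e00e70e70ea61a0e60ae1400df0e60e60e66190e50ad13f0de0e40eb0e86180e40ac13e0cf0e50e90e46170e30ab1010ea0e30da0e06160e20aa1000e90e20d10e26150e10a90ff0e80dd0e10de6140e00a80fe0e70dc0d80e36130df0a70fd0e60db0d70df6120de0a60fc0e50d50de0e16110dd0a50fb0dd0e10dd0d66100dc0a40fa0dc0e00d40dc60f0db0a30f90db0df0d30d960e0da) (nat_lit 3000))) (nat_lit 6000))) (nat_lit 12000))) (vqc6 (vqc5 (vqc5 (vqc5 (nat_lit 0x11211964c11811811812911a10611564b11711711712811711711164a11611611612711610d116649115115115126115104118648114114114125114103114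64711311311312410e11311064611211211212310911911264511111111112210811111764411011011012110711011364310f10f10f10f11910910c64210e10e10e10e11310e10a64110d10d10d10d10d11610d64010c10c10c10c10c10210f63f10b10b10b10b10611a10b63e10a10a10a10a10510a10e63d1091091090fb11210f10263c1081081080fa11110810863b1071071070f911010710563a1061061060f810b1181046391051051050f710a1051076381041041040f61041151066371031031030f51031141036361021021020f410210c1096351011010e31201010f80fe6341001000e211f1000ef1006330ff0ff0e111e0fb0ff0fc6320fe0fe0e011d0fa0f61016310fd0fd0df11c0f90f50fd6300fc0fc0de11b0f30fc0ff62f0fb0fb0dd1090ff0fb0f462e0fa0fa0dc1080fe0f20fa) (vqc6 (nat_lit 0x13d13512f13666b13713716413c13412313766a13613616313b12912b13866913513516213513812812d66813413416113413711e13066713313316013313313312e66613213215f13213213212a66513113115e13113112412c66413013015d13013011b13466312f12f15c12f12813812b66212e12e15b12e12712e13366112d12d15a12d12612213566012c12c15912c12512113165f12b12b15812b12013612f65e12a12a15712a11f12a13265d12912915611813612012665c12812815511712f13512265b12712715411612e12712765a12612615311512d11d12965912512515211412c11c12565812412415111312413112165712312315011211e13712365612212214f11111d12d12865512112114e11011c12c12465412012014d10112b12911d65311f11f14c10012a11f11f65211e11e14b0ff12313411b65111d11d14a0fe12212612065011c11c1490fd12112511c64f11b11b1480fc11b13011e64e11a11a11a13a11810b11a64d11911911913910f)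 (nat_lit 3000))) (vqc6 (vqc5 (nat_lit 0x1c712a16914c15715f68a1561c612915616314d1536891551c512815515c16214f6881541c412715415b1541546871531c312615315a14a1566861521c21251521591491526851511c112415115115e14e6841501c012315014b16415068314f1bf12214f14a15a15568214e1be12114e14915915168114d1bd12014415815614a68014c1bc11f14315714c14c67f14b1bb11e14215016114867e14a1ba11d14114f15314d67d1491b911c14014e15214967c1481b811b13f14815d14b67b1471b70ed16814714214567a1461b60ec1671441461466791451b50eb16614313f1476781441b40ea14d1461441416771431b30e914c14513e1436761421b20e814b14214713f6751411b10e714a1411411446741401b00e614914014014067313f1af0e514813e14514267213e1ae0e413e13f14313e67113d13d19213813d13d13b67013c13c19113713c13913c66f13b13b19013613a13b13d66e13a13a18f11a13b13a13a66d13913918e11913913c13966c138138165) (vqc6 (nat_lit 0x6aa1761e617617616f16917c6a91751e517517516817e1786a81741e417416217f17416c6a71731e317316117e16816f6a61721e217216017917d16d6a51711e117115f17817c1696a41701e017015e17717016b6a316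f1df16f15d1761661736a216e1de16e15c16e18316a6a116d1dd16d15b16d17a1726a016c1dc16c15a16c16c17469f16b1db16b15916b16b17069e16a1da16a15816718016e69d1691d916915716617617169c1681d816814717517316669b1671d716714616a17b16769a1661d616614516916f1686991651d513818616215c1636981641d41371851611501646971631d31361841561581656961621d213517416515515a6951611d113417316414b15d6941601d013317216016015b69315f1cf13217115f15f15769215e1ce13117015e15115969115d1cd13016f15d14816169015c1cc12f16e15516515868f15b1cb12e16d15415b16068e15a1ca12d16c15314f16268d1591c912c16b15214e15e68c1581c812b16a14d16315c68b157) (nat_lit 3000))) (nat_lit 6000))) (vqc6 (vqc5 (vqc5 (nat_lit 0x1961996c919527d18619219719b1936c819427c1851911961941946c719327b1841901931981956c619227a13d1951921921906c519127913c19419118e1916c419027813b19318f1901926c318f27713a18f19018f18f6c218e27613918e18e19118e6c118d1fd19c18d18c18818d6c018c1fc19b18318d1861896bf18b1fb19a18218b18b18b6be18a1fa19918118a18a1876bd1891f919818018918418c6bc1881f819717f18618d1886bb1871f719617e18518718a6ba1861f619516518818c1846b91851f51941641871851856b81841f41931631841891866b71831f318318c18316e1806b61821f218218b17d1791826b51811f118118a17c17817e6b41801f018018917b16a1836b317f1ef17f18817417f17f6b217e1ee17e1871731751816b117d1ed17d17d18217217a6b017c1ec17c17c1811711766af17b1eb17b17b18016717b6ae17a1ea17a17a17a16d17d6ad1791e91791791721821796ac1781e81781781711811756ab1771e7177177170177177)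 (vqc6 (nat_lit 0x1d61b31af1b76e82ef1441a51bd1b61b41b16e72ee1431a41bc1b51ae1b36e62ed1421a31bb1b21b71af6e52ec1411a21ba1b11b11b46e42eb1401a11b91b01b01b06e32ea13f1a01b81ae1b51b26e22e913e19f1ae1af1b31ae6e12e80c52021ad1ad1aa1ad6e02e70c42011ac1ab1ac1ac6df2e60c32001a81ac1ab1a96de2e50c21ff1a71aa1ad1aa6dd2e40c11fe1a61a91a91ab6dc2e30c01b71ab1a81a31a66db2e20bf1b61aa1a51a71a76da2e10be1b51a91a41a01a86d92e00bd1b41a51a71a51a26d82df0bc1b31a41a619f1a46d72de0bb1b21a31a31a81a06d62dd0ba1b11a21a21a21a56d52dc0b91b01a11a11a11a16d42db0b81af1a019f1a61a36d32da0b71ae19e1a01a419f6d22d90b619e19f19e19e19e6d119d28519d19c19d19d19d6d019c28418d19d19b19719c6cf19b28318c19b19c1951986ce19a28218b19a19a19a19a6cd19928118a1991991991966cc19828018919819819319b6cb19727f18819719519c1976ca19627e187196194) (nat_lit 3000))) (vqc6 (vqc5 (nat_lit 0x1641d41f51d11c01d470730e1631d31f41c61c81d570630d1621d21e41d51c51ca70530c1611d11e31d41bb1cd70430b1601d01e21d01d01cb70330a15f1cf1e11cf1cf1c770230915e1ce1e01ce1c11c970130815d1c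d1df1cd1b81d170030715c1cc1de1c51d51c86ff30615b1cb1dd1c41cb1d06fe30515a1ca1dc1c31bf1d26fd3041591c91db1c21be1ce6fc3031581c81da1bd1d31cc6fb3021571c71d91bc1c71cf6fa3011561c61c61d31bd1c36f93001551c51c51cc1d21bf6f82ff1541c41c41cb1c41c46f72fe1531c31c31ca1ba1c66f62fd1521c21c21c91b91c26f52fc1511c11c11c11ce1be6f42fb1501c01c01bb1d41c06f32fa14f1bf1bf1ba1ca1c56f22f914e1be1be1b91c91c16f12f814d1bd1b41c81c61ba6f02f714c1bc1b31c71bc1bc6ef2f614b1bb1b21c01d11b86ee2f514a1ba1b11bf1c31bd6ed2f41491b91b01be1c21b96ec2f31481b81af1b81cd1bb6eb2f21471a81d81b71b21b56ea2f11461a71d71b41b61b66e92f01451a6) (vqc6 (vqc5 (nat_lit 0x72732e1832201fc1f31de1f072632d18221f1fb1ed1e91f272532c18121e1fa1ec1e81ee72432b18021d1f91eb1da1f372332a17f21c1f81e41ef1ef72232917e21b1f71e31e51f172132817d21a1ed1f21e21ea72032717c2191ec1f11e11e671f32617b2181eb1f01d71eb71e32517a2171ea1ea1dd1ed71d3241792161e91e21f21e971c3231782151e81e11f11e571b3221772141e71e01e71e771a3211762131e61df1d91ec7193201752121e51d81ee1e871831f1742111d21ef1e41dc71731e1732101d11ee1d81df71631d17220f1d01e91ed1dd71531c17120e1cf1e81ec1d971431b17020d1ce1e71e01db71331a16f20c1cd1e61d61e371231916e20b1cc1de1f31da71131816d20a1cb1dd1ea1e271031716c2091ca1dc1dc1e470f31616b2081c91db1db1e070e31516a2071c81d71f01de70d3141692061c71d61e61e170c3131682051b71e51e31d670b3121672041b61da1eb1d770a3111662031b51d91df1d87093101651d51f61d21cc1d370830f)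 (vqc6 (nat_lit 0x20621974634d2121e522320521b21574534c2111e421121c21120974434b2101e321021b20520c74334a20f1e220f21621a20a74234920e1e120e21521920674134820d1e020d21420d20874034720c1df20c21320321073f34620b1de20b20b22020773e34520a1dd20a20a21720f73d3442091dc20920920921173c3432081db20820820820d73b3422071da20720421d20b73a3412061d920620321320e7393402051d820021221020373833f2041d71ff20721820473733e2031d61fe20620c20573633d2021ad2222021ff20273533c2011ac22120020120173433b2001ab2052012001fe73333a1ff1aa2041ff2021ff7323391fe1a92031fe1fe20073133818d2571fd1fc1f81fd73033718c2561f31fd1f61f972f33618b2551f21fb1fb1fb72e33518a2541f11fa1fa1f772d3341892531f01f91f41fc72c3331882521ef1f61fd1f872b3321872511ee1f51f71fa72a3311862501d51f81fc1f472933018524f1d41f71f51f572832f18424e1d31f41f91f6) (nat_lit 3000))) (nat_lit 3000))) (nat_lit 6000))) (nat_lit 12000))) (nat_lit 24000))) (vqc6 (vqc5 (vqc5 (vqc5 (vqc5 (nat_lit 0x24022922c23976536c23123123123623122d76436b23023023023522123076336a22f22f22f22f23922c7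6236922e22e22e22e22522e76136822d22d22d22822d23176036722c22c22c22223222f75f36622b22b21a23422b22875e36522a22a21923322a22475d36422922921823222222975c36322822821722d22822b75b36222722721622723822775a36122622621522623722375936022522521422522e22575835f22422421322422422a75735e22322321222123522675635d22222220222c22922275535c22122120122323022175435b2201f323f22020b21d75335a21f1f223e21a21621f75235921e1f123d21921521b75135821d1f023c21820722075035721c1ef23b21121c21c74f35621b1ee23a21021221e74e35521a1ed22b21f20f21774d3542191ec22a21e20e21374c3532181eb22921d20421874b3522171ea22821720a21a74a3512161e922720f21f2167493502151e822620e21e21274834f2141e722520d21421474734e2131e622420c) (vqc6 (nat_lit 0x2891f725824f25125478438b2881f625025225624e78338a2871f524f25124f24f7823892861f424e24e25325078138824d26b24d24d24424a78038724c26a24c24c23b24c77f38624b26924b24724b24877e38524a26824a24624224d77d38424926724924524124977c38324826624823f24824b77b38224726523924b24724077a38124626423824a23e24677938024526323724923d24377837f24426223624424d24277737e24326123524323a24577637d24226023423e24a24477537c24125f23323d24924177437b24025e23223c24024777337a23f25d22024823f23c77237923e25c21f24224623e77137823d25b21e24124523a77037723c25a21d24023c23f76f37623b25921c23b24c23b76e37523a25821b23a24323d76d37423923924723922f23276c37323823824623822723876b37223723724523722623576a37123623624423123623476937023523524323022323776836f23423424222b23423676736e23323324122a23323376636d232232)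 (nat_lit 3000))) (vqc6 (vqc5 (nat_lit 0x7a43ab2a827026927027526d7a33aa2a726f26826f26f2727a23a92a626e26726e26e26e7a13a82a526d26626c2732707a03a72a426c25726d27126c79f3a62a324d27226b26226879e3a52a224c27126a25926a79d3a42a124b27026526926679c3a32a024a26f26426026b79b3a229f24926e26325f26779a3a129e24826d25d2662697993a029d24726526926525e79839f29c24626426825c26479739e29b24526326725b26179639d29a24426226226b26079539c29924326126125826379439b29824226025c26826279339a29724125f25b26725f79239929624025e25a25e26579139829523f25626625d25a79039729423e25526026425c78f39629323d25425f26325878e39529223c25325e25a25d78d39429123b25225926a25978c39329023a25125826125b78b39228f1fd26c25625225778a39128e1fc25d25725025378939028d1fb25c25525525578838f28c1fa25b25425425178738e28b1f925a25324e25678638d28a1f825925025725278538c) (vqc6 (nat_lit 0x2992937c35cb2572842a428e28a28f7c25ca25628329528f28828b7c15c925528229428d28d28d7c05c825428129328c28c2897bf5c725328029228b28628e7be5c625227f29128828f28a7bd5c525127e29028728928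c7bc5c425027d28828a28e2867bb5c324f27c2872892872877ba5c224e27b28628628b2887b95c119d2ae2842852852857b85c019c28f28528327f2847b75bf19b28e28328427d2807b65be19a28d2822822822827b55bd19928c28128128127e7b45bc19828b28028027b2837b35bb19728a27f27d28427f7b25ba19628927e27c27e2817b15b919528827a27f28327b7b05b819428727927e27c27c7af5b719328627827b28027d7ae5b619227a27d27a27a2787ad5b519127927c2792762797ac5b419027827b27727827a7ab5b318f2772772782772777aa5b218e2762762762792767a93b02ad2752752752702737a83af2ac2742742722742747a73ae2ab27327327126d2757a63ad2aa27226b27427226f7a53ac2a927126a27326c271) (nat_lit 3000))) (nat_lit 6000))) (vqc6 (vqc5 (vqc5 (nat_lit 0x2ae2b02b42af7e25ea2ae2852af2ae2ae2ae7e15e92752b82ad2ad2a82ab7e05e82742b72ac2aa2ac2ac7df5e72732b62ab2a92a52ad7de5e62722b52a32ac2aa2a77dd5e52712b42a22ab2a42a97dc5e42702b32a12a82ad2a57db5e326f2b22a02a72a72aa7da5e226e2b129f2a62a62a67d95e126d2b029e2a42ab2a87d85e026c2af28f2a52a92a47d75df26b2a32aa2a329a2a07d65de26a2a22a92a22912a27d55dd2692a12a829d2a129e7d45dc2682a02a729c2982a37d35db26729f2a629b29729f7d25da26629e2a529529e2a17d15d926529d29d2a129d2967d05d826429c29c2a029429c7cf5d726329b29b29f2932997ce5d626229a29a29a2a32987cd5d526129929929929029b7cc5d42602982982942a029a7cb5d325f29729729329f2977ca5d225e29629629229629d7c95d125d29528e29e2952927c85d025c29428d29829c2947c75cf25b29328c29729b2907c65ce25a29228b2962922957c55cd25929128a2912a22917c45cc258290289290)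 (vqc6 (nat_lit 0x2e82d32ce2ce2cb2ce2cd0722e72d22cd2cc2cd2cd2cc0712e62d12c92cd2cc2ca2cb0702e52d02c82cb2ce2cb2ca06f2e42cf2c72ca2ca2cc2c906e2e32c92cc2c92c42c72c806d2e22c82cb2c62c82c82c706c2e12c72ca2c52c12c92c606b2e02c62c62c82c62c32c506a2df2c52c52c72c02c52c40692de2c42c42c42c92c12c30682dd2c32c32c32c32c62c20672dc2c22c22c22c22c22c10662db2c12c12c02c72c42c00652da2c02bf2c12c52c02bf0642d92be2c02bf2bf2bf2be0632be2bf2be2be2be2be7f15f92bd2bd2bd2bd2ba2bd7f05f82bc2bc2bc2bb2bc2bc7ef5f72bb2bb2b82bc2bb2b97ee5f62ba2ba2b72ba2bd2ba7ed5f52b92b92b62b92b92bb7ec5f42b82ad2bb2b82b32b67eb5f32b72ac2ba2b52b72b77ea5f22b62ab2b92b42b02b87e95f12b52aa2b52b72b52b27e85f02b42a92b42b62af2b47e75ef2b32a82b32b32b82b07e65ee2b22a72b22b22b22b57e55ed2b12a62b12b12b12b17e45ec2b02a52b02af2b62b37e35eb2af2a4) (nat_lit 3000))) (vqc6 (vqc5 (nat_lit 0x2ed1b22ed2de2f62ed2f22ea2ec1b12ec2dd2f52ec2ec2ef2eb1b02eb2dc2f42eb2eb2eb2ea1af2ea2db2f32e92f02ed2e91ae2e92da2e92ea2ee2e92e81ad2ce33d2e82e82e52e82e71ac2cd33c2e72e62e72e72e61a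b2cc33b2e32e72e62e42e51aa2cb33a2e22e52e82e52e41a92ca3392e12e42e42e62e31a82c92f22e62e32de2e12e21a72c82f12e52e02e22e22e11a62c72f02e42df2db2e32e01a52c62ef2e02e22e02dd2df1a42c52ee2df2e12da2df2de1a32c42ed2de2de2e32db2dd1a22c32ec2dd2dd2dd2e02dc1a12c22eb2dc2dc2dc2dc2db1a02c12ea2db2da2e12de2da19f2c02e92d92db2df2da2d919e2bf2d92da2d92d92d92d807d3ba2d82d82d82d82d62d707c3b92d72d72d72d42d72d607b3b82d62d62d52d62d82d507a3b72d52d32d62d52d52d40793b62d42d22d42d72d42d30783b52ce2d52d32d02d32d20773b42cd2d42d12d22d22d10763b32cc2d12d22d12cf2d00753b22cb2d02d02d32d02cf0743b12ca2cf2cf2cf2d12ce073) (vqc6 (vqc5 (nat_lit 0x30030530c1d130c30c31e30f2f630830b1d030b30b31d30b30b30630a1cf30a30a31c30a30a3023091ce30930931b3092fc3043081cd30830831a3082f330c3071cc3073073193003103033061cb3063063182ff30630b3051ca3053053172fe2fa30d3041c93043043162fd2f93093031c83033033152f830e3073021c73023023142f730230a3011c630130130130e2f82fe3001c530030030030730d2fa2ff1c42ff2ff2ff3062ff2ff2fe1c32fe2fe2fe3052f53012fd1c22fd2fd2fd3042f42fd2fc1c12fc2fc2fc2fc3092f92fb1c02fb2fb2fb2f630f2fb2fa1bf2fa2fa2fa2f53053002f91be2f92f92f92f43042fc2f81bd2f82f82ef3033012f52f71bc2f72f72ee3022f72f72f61bb2f62f62ed2fb30c2f32f51ba2f52f52ec2fa2fe2f82f41b92f42f42eb2f92fd2f42f31b82f32f32ea2f33082f62f21b72f22e33132f22ed2f02f11b62f12e23122ef2f12f12f01b52f02e13112ee2ea2f22ef1b42ef2e02f82f12ef2ec2ee1b32ee2df2f72f02e92ee)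 (vqc6 (nat_lit 0x33532732332932b1f032b35833432631532e32a1ef32a35733331f32a32a3291ee32935633231e32032c3281ed32835532832d31d3253271ec32735432732c31c3213261eb32635332632b3123263251ea3253523253253183283241e932435132431d32d3243231e832335032331c32c3203221e732234f32231b3223223211e632134e32131a3143273201e532034d32031332932331f1e431f34c30d32a31f31731e1e331e34b30c32931331a31d1e231d34a30b32432831831c1e131c34930a32332731431b1e031b34830932231b31631a1df31a34730832131131e3191de31934630731932e3153181dd31834530631832531d3171dc31734430531731731f3161db31634330431631631b3151da31534230331232b3193141d931434130231132131c3131d83133402f232031e3113121d731233f2f13153263123111d631133e2f031431a3133101d531031033130d30730e30f1d430f30f33030c2fb30f30e1d330e30e32f30130331030d1d230d30d31f310) (nat_lit 3000))) (nat_lit 3000))) (nat_lit 6000))) (nat_lit 12000))) (vqc6 (vqc5 (vqc5 (vqc5 (nat_lit 0x3cd31e34b35634034734a20f3cc31d34a35135534534920e3cb31c34935035434134820d3ca31b34834f34834334720c3c931a34734e3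3e34b34620b3c831934634635b34234520a3c731834534535234a3442093c631734434434434c3432083c53163433433433483422073c431534233f3583463412063c331434133e34e3493402053c231333b34d34b33e33f2043c131233a34235333f33e2033c031133934134734033d2023bf2e835d33d33a33d33c2013be2e735c33b33c33c33b2003bd2e634033c33b33933a1ff3bc2e533f33a33d33a3391fe3bb2e433e33933933b3381fd3383923383373333383371fc33739132e3383313343361fb33639032d3363363363351fa33538f32c3353353323341f933438e32b33432f3373331f833338d32a3313383333321f733238c3293303323353311f633138b31033333732f3301f533038a30f33233033032f1f432f38930e32f33433132e1f332e35b33732e31932b32d1f232d35a33632832432d32c1f132c359) (vqc6 (nat_lit 0x36a22f3ec36a36a36a37436736922e3eb36936936936036936822d3ea36836836336836c36722c3e936736735d36d36a36622b3e836635536f36636336522a3e736535436e36535f3642293e636435336d35d3643632283e53633523683633663622273e43623513623733623612263e336135036137235e3602253e236034f36036936035f2243e135f34e35f35f36535e2233e035e34d35c37036135d2223df35d33d36736435d35c2213de35c33c35e36b35c35b2203dd32e37a35b34635835a21f3dc32d37935535135a35921e3db32c37835435035635821d3da32b37735334235b35721c3d932a37634c35735735621b3d832937534b34d35935521a3d732836635a34a3523542193d632736535934934e3532183d532636435833f3533522173d43253633523453553512163d332436234a35a3513502153d232336134935934d34f2143d132236034834f34f34e2133d032135f34734135434d2123cf32035e34035635034c2113ce31f34c35734c34434b210)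 (nat_lit 3000))) (vqc6 (vqc5 (nat_lit 0x38a38a38924e4bf32f38938938e38b38824d40a3a638838837f38538724c4093a538738737638738624b4083a438638238638338524a4073a338538137d3883842494063a238438037c3843832484053a138337a3833863822474043a037438638237b38124640339f37338537938138024540239e37238437837e37f24440139d37137f38837d37e24340039c37037e37538037d2423ff39b36f37938537f37c2413fe39a36e37838437c37b2403fd39936d37737b38237a23f3fc39835b38337a37737923e3fb39735a37d38137937823d3fa39635937c38037537723c3f939535837b37737a37623b3f839435737638737637523a3f739335637537e3783742393f637438237436a36d3732383f53733813733623733722373f43723803723613703712363f337137f36c37136f3702353f237037e36b35e37236f2343f136f37d36636f37136e2333f036e37c36536e36e36d2323ef36d37b36436737436c2313ee36c36c37136c36836b2303ed36b36b37035c36b) (vqc6 (nat_lit 0x3a23a93a93a93a826d4de3a83a13a73ae3ab3a726c4dd3a73923a83ac3a73a626b4dc3883ad3a639d3a33a526a4db3873ac3a53943a53a42694da3863ab3a03a43a13a32684d93853aa39f39b3a63a22674d83843a939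e39a3a23a12664d73833a83983a13a43a02654d63823a03a43a039939f2644d538139f3a339739f39e2634d438039e3a239639c39d2624d337f39d39d3a639b39c2614d237e39c39c39339e39b2604d137d39b3973a339d39a25f4d037c39a3963a239a39925e4cf37b3993953993a039825d4ce37a3913a139839539725c4cd37939039b39f39739625b4cc37838f39a39e39339525a4cb37738e3993953983942594ca37638d3943a53943932584c937538c39339c3963922574c83383a739138d3923912564c733739839238b38e3902554c633639739039039038f2544c533539638f38f38c38e2534c433439538e38939138d2524c333339438b39238d38c2514c233239338a38c38f38b2504c133138b38d39138938a24f4c033038a38c) (nat_lit 3000))) (nat_lit 6000))) (vqc6 (vqc5 (vqc5 (nat_lit 0x3463c83c83c83dd3c43c73c73453c73c73c73d43cc3c63c63443c63c63c63c63ce3c53c53433c53c53c53c53ca3c43c43423c43c43c13da3c83c33c33413c33c33c03d03cb3c23c23403c23bd3cf3cd3c03c13c133f3c13bc3c43d53c13c03c033e3c03bb3c33c93c23bf3bf33d3b53df3bf3bc3bf3be3be33c3b43de3bd3be3be3bd3bd33b3b33c23be3bd3bb3bc3bc33a3b23c13bc3bf3bc3bb3bb3393b13c03bb3bb3bd3ba3ba2d840f3ba3ba3ba3b83b93b92d740e3b93b93b63b93b83b82d640d3b83b73b83ba3b73b72d540c3b53b83b73b73b63b62d440b3b43b63b93b63b53b52d33bf3b73b53b23b53b43b42d23be3b63b33b43b43b33b32d13bd3b33b43b33b13b23b22d03bc3b23b23b53b23b13b12cf3bb3b13b13b13b33b02754e63b03b03b03ab3ae3af2744e53af3af3ad3af3af3ae2734e43ae3ae3ac3a83b03ad2724e33ad3a63af3ad3aa3ac2714e23ac3a53ae3a73ac3ab2704e13ab3a43ab3b03a83aa26f4e03aa3a33aa3aa3ad3a926e4df3a9)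 (vqc6 (nat_lit 0x3e73e73654193d63f03e73e13e63e63644183d53ef3df3e63e53e53634173d43ea3e53e83e43e43624163d33e43f53e43e33e33614153d23e33f43e03e23e23604143d13e23eb3e23e13e135f4133d03e13e13e73e03e035e4123cf3de3f23e33df3df35d4113bf3e93e63df3de3de35c4103be3e03ed3de3dd3dd35b3dd3fc3dd3c83da3dc3dc35a3dc3fb3d73d33dc3db3db3593db3fa3d63d23d83da3da3583da3f93d53c43dd3d93d93573d93f83ce3d93d93d83d83563d83f73cd3cf3db3d73d73553d73e83dc3cc3d43d63d63543d63e73db3cb3d03d53d53533d53e63da3c13d53d43d43523d43e53d43c73d73d33d33513d33e43cc3dc3d33d23d23503d23e33cb3db3cf3d13d134f3d13e23ca3d13d13d03d034e3d03e13c93c33d63cf3cf34d3cf3e03c23d83d23ce3ce34c3ce3ce3d93ce3c63cd3cd34b3cd3cd3d83c23c93cc3cc34a3cc3cc3d33d73c73cb3cb3493cb3cb3d23d63c33ca3ca3483ca3ca3d13ca3c53c93c93473c93c93d03c03cd3c83c8) (nat_lit 3000))) (vqc6 (vqc5 (nat_lit 0x3ff40a4064063844744064023fe4064054053834734053fc4054084044043824723f64084043fd4034033814713f54073fb4034024023804703f44063fa40040140137f46f3f340140a3ff40040037e46e3f24003f740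23ff3ff37d46d3f13fb4074013fe3fe37c46c3f03fa4063fe3fd3fd37b46b3ef3f93fd4043fc3fc37a46a3dd4053fc3f93fb3fb3794693dc3ff4033fb3fa3fa3784683db3fe4023f73f93f93774673da3fd3f93fc3f83f83764663d93f84093f83f73f73754653d83f74003fa3f63f63744284043f63ec3ef3f53f53734274033f53e43f53f43f43724264023f43e33f23f33f33714254013ee3f33f13f23f23704244003ed3e03f43f13f136f4233ff3e83f13f33f03f036e4223fe3e73f03f03ef3ef36d4213fd3e63e93f63ee3ee36c4203ee3f33ee3ea3ed3ed36b41f3ed3f23de3ed3ec3ec36a41e3ec3ec3f63e93eb3eb36941d3eb3eb3e23eb3ea3ea36841c3ea3e53ea3ee3e93e936741b3e93df3ef3ec3e83e836641a3d73f13e83e5) (vqc6 (vqc5 (nat_lit 0x44c4264154244254254253f344b4204254234244244243f244a41f4124264234234233f144941a4234254224224223f04484194224224214214213ef44741841b4284204204203ee43142542041c41f41f41f3ed43042441041f41e41e41e3ec42f41e42841b41d41d41d3eb42e41d41441d41c41c41c3ea42d41741c42041b41b41b3e942c41142141e41a41a41a3e841a42341a4174194194193e74194224194134184184183e64184214114184174174173e541741c41741a4164164163e44164164274164154154153e34154154264124144144143e241441441d4144134134133e14134134134194124124123e04124104244154114114113df40c41b4184114104104103de40b41241f41040f40f40f3ba42b40f40f40d40e40e40e3b942a40e40b40e40d40d40d3b842940c40d40f40c40c40c3b741140d40c40c40b40b40b3b641040b40e40b40a40a38847840a40a4014074094093874774094093f8409408408386476408404408405407407385475407403)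 (vqc6 (nat_lit 0x44544546143d43f44544444444444446043c43344644344344344345444642f44044244244244245344243943e44144144144145243b44144144044044044045143a42c44343f43f43f43f45043144543f43e43e43e43e44f43043244243d43d43d43d43d44543143643c43c43c43c43c44442b43a43b43b43b43b43b44143b43843a43a43a43a43a44042943c43943943943943943944243243843843843843843843843b43743743743743743743743443643643643643643642d43d43543543543543542f44643343443443443443442e43443743343343343343342b44443543243243243243242a43e43943143143143142043f43d42d43043043043041f43e42a43042f42f42f42f41e43544342c42e42e42e42e41d43442e42e42d42d42d42d41c42d43643142c42c42c42c41b42944042f42b42b42b42b40f43343c42942a42a42a42a40e43243042a42942942942940d42c43a42b4284284283f644e42841e4214274274273f544d4274164274264264263f4) (nat_lit 3000))) (nat_lit 3000))) (nat_lit 6000))) (nat_lit 12000))) (nat_lit 27000))) (nat_lit 51000))) (vqc6 (vqc5 (vqc5 (vqc5 (vqc5 (vqc5 (nat_lit 0x4644644644b945f4644614644634634634b845e4624634634624624624b74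464634624604614614614b64454614644614604604604b544446046046245f45f45f49146445d45045f45e45e45e49046345445745e45d45d45d48f45d45f44b45a45c45c45c48e45c45c45c45645b45b45b48d45b45b45245b45a45a45a48c45a45a44945d45945945948b45945944845945845845848a45845345845545745745748945744e45e45745645645648845644d45645c45545545548745544c45545845445445448644345e44e45145345345348544245845344f45245245248444145245b45245145145148344045144745445045045048243f44b45f45044f44f44f48143e44a44f45344e44e44e48042845745444744d44d44d47f42745644d44d44c44c44c47e42645544c44a44b44b44b47d42545045d44944a44a44a47c42444f44a44c44944944947b42344945a44b44844844847a42244845944844744744747942144745144e446446446446462443435444445445) (vqc6 (nat_lit 0x48d48448348350545148348347948648248250445048247d49148248148150344f48147c48148548048050244e47248948647947f47f50144d47148847f47f47e47e50044c47048747e47c47d47d4ff44b46f48248f47b47c47c4fe44a46e48147c47e47b47b4fd44946d47b48c47d47a47a4fc44846c47a48b47a4794794fb44746b4794834804784784fa40a49747846f4754774774f94094964774664774764764f84084954724764734754754f740749447146d4784744744f640649347046c4744734734f540549246a4734764724724f440448047647246b4714714f340347f4754694714704704f240247e47446846e46f46f4f140147d46f47846d46e46e4f040047c46e46547046d46d4ef3ff47b46947546f46c46c4ee3fe47a46847446c46b46b4ed3fd47946746b47246a46a4ec3fc46a47346a4674694694eb3fb46946d4714694684684ea3fa46846c4704654674674e93f946746b46746a4664664e83f84664664774664654654e73f746546546e468)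 (nat_lit 3000))) (vqc6 (vqc5 (nat_lit 0x4a349c4984a84a24a25244a24a24974ad4a64a14a15234a14a14964a14a94a04a05224a048f4ad49749d49f49f52149f48e4a64ac49949e49e52049e48d4a549e49e49d49d51f49d48c4a44944a049c49c51e49c48b4a349349c49b49b51d49b48a49b4a849849a49a51c49a4894954ae49a49949951b4994884944a449f49849851a4984874934a349b4974975194974784a24a04944964965184964774a149649649549551749547649a4ab49249449451649447549949d49749349351549347449849c4934924925144924734924a749549149151345f4b148f48249149049051245e4b048648949048f48f51145d4a049147d48c48e48e51045c49f48e48e48848d48d50f45b49e48d48448d48c48c50e45a49d48c47b48f48b48b50d45949c48b47a48b48a48a50c45849b48548a48748948950b45749a48049048948848850a45649947f48848e48748750945549847e48748a48648650845448649048048348548550745348548a485481484484506452484484) (vqc6 (nat_lit 0x38c4c24c94c04c24c54c15fc38b4c14c14c34c74bf4c05fb38a4c04c04c24c04c04bf5fa3894bf4bf4bf4c44c14be4be5a04b44be4be4be4bc4bd4bd59f4b34bd4bd4ba4bd4bc4bc59e4b24bc4bb4bc4be4bb4bb59d4b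14b94bc4bb4bb4ba4ba59c4b04b84ba4bd4ba4b94b959b4644bb4b94b64b94b84b859a4634ba4b74b84b84b74b75994624b74b84b74b54b64b65984614b64b64b94b64b54b55974604b54b54b54b74b44b45364be4af4b44b44b24b34b35354bd4ae4b34b04b34b24b25344bc4ad4b14b24b44b14b15334bb4914b24b14b14b04b05324ba4904b04b34b04af4af5314af4b44ac4a64ad4ae4ae5304ae4b34ab49a4ae4ad4ad52f4ad4b24a04a24af4ac4ac52e4ac4ac4af49f4a44ab4ab52d4ab4ab4ae4954a74aa4aa52c4aa4aa4aa4aa4a54a94a952b4a94a94a94a94a14a84a852a4a84a84a849b4a34a74a75294a74a74a74924ab4a64a65284a64a649f4af4a24a54a55274a54a549e4a54aa4a44a45264a44a449d4994ac4a34a35254a3) (nat_lit 3000))) (nat_lit 6000))) (vqc6 (vqc5 (vqc5 (nat_lit 0x4e161c3ab53b4da4e14e64de4e061b3aa53a4d94e04e04e34df61a3a95394d84df4df4df4de6193a85384d74dd4e44e14dd6183a75374c84de4e24dd4dc6173a64fa4e34dc4d34d94db6163a54f94e24db4ca4db4da6153a44f84e14d64da4d74d96143a34f74e04d54d14dc4d86133a24f64df4d44d04d84d76123a14f54de4ce4d74da4d66113a04f44d64da4d64cf4d561039f4f34d54d94cd4d54d460f39e4f24d44d84cc4d24d360e39d4f14d34d34dc4d14d260d39c4f04d24d24c94d44d160c39b4ef4d14cd4d94d34d060b39a4ee4d04cc4d84d04cf60a3994ed4cf4cb4cf4d64ce6093984ec4c74d74ce4cb4cd6083974eb4c64d14d54cd4cc6073964ea4c54d04d44c94cb6063954e94c44cf4cb4ce4ca6053944e84c34ca4db4ca4c96043934e74c24c94d24cc4c86033924c84dd4c74c34c84c76023914c74ce4c84c14c44c66013904c64cd4c64c64c64c560038f4c54cc4c54c54c24c45ff38e4c44cb4c44bf4c74c35fe38d4c34ca4c14c84c34c25fd)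 (vqc6 (nat_lit 0x50150150063b47e5004f25095004fe4ff63a47d4ff4f15045114fd4fe63947c4fe4f05034fe5004fd63847b4fd4ef4fd50e4ff4fc63747a4fc4ee4fc50d4fc4fb6364794fb4ed4fb5055024fa6354784dc5194fa4f14f74f96344774db5184f94e84f94f86334764da5174f44f84f54f76324754d95164f34ef4fa4f66314744d85154f24ee4f64f56304734d75144ec4f54f84f462f4724d65024f84f44ed4f362e4714d55014f74eb4f34f262d4704d45004f64ea4f04f162c46f4d34ff4f14fa4ef4f062b46e4d24fe4f04e74f24ef62a46d4d14fd4eb4f74f14ee62946c4d04fc4ea4f64ee4ed62846b4cf4fb4e94ed4f44ec62746a4ce4ec4f54ec4e94eb6264694cd4eb4ef4f34eb4ea6254684cc4ea4ee4f24e74e96244674cb4e94ed4e94ec4e86234664ca4e84e84f94e84e76224654c94e74e74f04ea4e66213b05404e64e64e14e44e56203af53f4e54e34e54e54e461f3ae53e4e44e24de4e64e361e3ad53d4dc4e54e34e04e261d3ac53c4db4e44dd4e2) (nat_lit 3000))) (vqc6 (vqc5 (nat_lit 0x50f52752052051f65a49d54c50e52651652251e65949c54b50d52551551e51d65849b54a50c51d52a51a51c65749a54950b51753051c51b65649954850a51652652151a65549854750951552551d5196544975464fa52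45225165186534965454f95235185185176524955444f851c52d5145166514945434f751b51f5195156504935424f651a51e51551464f4925414f551452951751364e49151353351150451351264d49051253250850b51251164c48f5115225134ff50e51064b48e51052151051050a50f64a48d50f52050f50650f50e64948c50e51f50e4fd51150d64848b50d51e50d4fc50d50c64748a50c51d50750c50950b64648950b51c50251250b50a64548850a51b50150a51050964448750951a50050950c50864348650850851250250550764248550750750c50750350664148450650650650f5065056404835055055054fb50850463f4825045044ff51350450363e4815035034fe50350750263d4805024f450b5084fb50163c47f5014f350a) (vqc6 (nat_lit 0x53f4e556053d53f53f53e67953e4e455f53c53854053d67853d4e354653f53d53a53c67753c4e254553e53753c53b67653b4e154453b54053853a67553a4e054353a53a53d5396745394df5425395395395386735384de54153753e53b5376725374dd53753853c5375366714b458b5315365365345356704b358a53053553253553466f4b258952f53353453653366e4b158851353453353353266d4b058751253253553253166c4af55e53652e52852f53066b4ae55d53552d51c53052f66a4ad55c53452252453152e6694ac55b52e53152152652d6684ab55a52d53051752952c6674aa55952c52c52c52752b6664a955852b52b52b52352a6654a855752a52a51d5255296644a755652952951452d5286634a65555285215315245276624a555452752052752c5266614a455352651f51b52e5256604a355252551e51a52a52465f4a255152451952f52852365e4a155052351852352b52265d4a054f51152f51951f52165c49f54e51052852e51b52065b49e54d)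 (nat_lit 3000))) (nat_lit 6000))) (nat_lit 12000))) (vqc6 (vqc5 (vqc5 (vqc5 (nat_lit 0x55e69955e53157f55b55555c55d69855d53057e55a54955d55c69755c52f57d54f55155e55b69655b52e56d55e54e55355a69555a52d56c55d54455655969455952c56b55955955455869355852b56a55855855055769255752a56955754a55255669155652956855654155a55569055552856754e55e55155468f55452756654d55455955368e55352656554c54855b55268d55252556454b54755755168c55152456354655c55555068b55052356254555055854f68a54f52254f55c54654c54e68954e52154e55555b54854d68854d52054d55454d54d54c68754c51f54c55354354f54b68654b51e54b55254254b54a68554a51d54a54a55754754968454951c54954455d54954868354851b54854355354e54768254751a54754255254a54668154651953d55154f54354568054551853c55054554554467f54451753b54955a54154367e54351653a54854c54654267d54251553954754b54254167c54151453854155654454067b5404e656154053b53e53f67a) (vqc6 (nat_lit 0x57e57e57d6b857d58c55c57d58257f57c6b757c57c58557c56757957b6b657b57b58457657257b57a6b557a57a5835755715775796b457957958257456357c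5786b357857858156d5785785776b257757758056c56e57a5766b157657657657b56b5735756b057557557557a56a56f5746af5745745745795605745736ae5735735735735665765726ad57257257256b57b5725716ac57157157156a57a56e5706ab57057057056957057056f6aa56f56f56f56856257556e6a956e56e56e56157757156d6a856d56d55b57856d56556c6a756c56c55a57756156856b6a656b56b55957257656656a6a556a56a5585715755625696a45695695575705695645686a356856855656f55f56c5676a256756755556757c5635666a156656655456657356b5656a056556555356556556d56469f56456455256456456956369e56356355156057956756269d56256255055f56f56a56169c56156154056e56c55f56069b56056053f56357456055f69a55f55f53e562568561) (nat_lit 3000))) (vqc6 (vqc5 (nat_lit 0x59b59e59d59d59c7f74ba5a159a59c59f59c59b7f64b959b59d59b59859b59a7f54b859a59c59959a59a5997f44b759959959a5995975987f34b659859859859b5985977f24b55975975975975995966d15b05965955965965965956d05af5865965945905955946cf5ae58559459558e5915936ce5ad5845935935935935926cd5ac58359259259258f5916cc5ab58259159158c5945906cb5aa58159058e59559058f6ca5a958058f58d58f59258e6c95a857f58b59059458c58d6c85a757e58a58f58d58d58c6c75a657d58958c59158e58b6c65a553658e58b58b58958a6c55a453558d58a58758a5896c45a353458c58858958b5886c35a25335885895885885876c25a153258758758a5875866c15865955865855815865856c058559457c58657f5825846bf58459357b5845845845836be58359257a5835835805826bd58259157958257d5855816bc58159057857f5865815806bb58058f57757e58058357f6ba57f58e55e58158557d57e6b957e58d55d580)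 (vqc6 (nat_lit 0x5bc5c75bc5bc5b75bf08727f5bb5c65bb5b95c05bb08627e5ba5c55ba5b85ba5bd08527d5b95c45b65bb5bf5b708427c5b85c35b55ba5b85b808327b5b75c25b45b75bc5b908227a5b65b65b95b65b65b40812795b55b55b85b55b25b50802785b45b45b75b35b45b607f2775b35b35b35b45b35b307e2765b25b25b25b25b55b25b180c5b15b05b15b15b15b15b080b5965b15af5b05b05b05af80a5955af5b05ae5aa5af5ae8095945ae5ae5af5a85ab5ad8085935ad5ad5ad5ad5ad5ac8075925ac5ac5ac5ac5a95ab8065915ab5ab5ab5a65ae5aa8055905aa5aa5a85af5aa5a980458f5a95a95a75a95ac5a880358e5a85a55aa5ae5a65a780258d5a75a45a95a75a75a680158c5a65a35a65ab5a85a580058b5a05a85a55a55a35a47ff58a59f5a75a45a15a45a37fe58959e5a65a25a35a55a27fd58859d5a25a35a25a25a17fc58759c5a15a15a45a15a07fb4be5a55a05a05a059e59f7fa4bd5a459f59f59c59f59e7f94bc5a359e59d59e5a059d7f84bb5a2) (nat_lit 3000))) (nat_lit 6000))) (vqc6 (vqc5 (vqc5 (nat_lit 0xa729f6135db5e25d75d35db0a629e6125da5e15d15da5dd0a529d6115d95d95dd5d95d20a429c6105d85d85dc5d05d80a329b60f5d75d75db5cf5d50a229a60e5d65d65d65df5d40a12996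0d5d55d55d55cc5d70a029860c5d45d45d05dc5d609f29760b5d35d35cf5db5d309e29660a5d25d25ce5d25d909d2956095d15ca5da5d15ce09c2946085d05c95d45d85d009b2936075cf5c85d35d75cc09a2926065ce5c75d25ce5d10992916055cd5c65cd5de5cd0982906045cc5c55cc5d55cf09728f6035c05e05ca5c65cb09628e6025bf5d15cb5c45c709528d6015be5d05c95c95c909428c6005bd5cf5c85c85c509328b5ff5bc5ce5c75c25ca09228a5fe5bb5cd5c45cb5c60912895fd5ba5cc5c35c55c80902885fc5b95c45c65ca5c208f2875fb5b85c35c55c35c308e2865fa5b75c25c25c75c408d2855c15ea5c05c15c15c108c2845c05cb5c15bf5bb5c008b2835bf5ca5bf5c05b95bc08a2825be5c95be5be5be5be0892815bd5c85bd5bd5bd5ba088280) (vqc6 (nat_lit 0x5fb5fb0c64bf5c25fa5fa5fa5ff5fc0c52bd6e15f95f95f95f65f90c42bc6e05f85f85f75f85f80c32bb6df5f75f45f85f75f50c22ba6de5f65f35f65f95f60c12b96dd5f55f25f55f55f70c02b86dc5e95f75f45ef5f20bf2b76db5e85f65f15f35f30be2b66da5e75f55f05ec5f40bd2b56d95e65f15f35f15ee0bc2b46d85e55f05f25eb5f00bb2b36d75e45ef5ef5f45ec0ba2b26d65e35ee5ee5ee5f10b92b16d55e25ed5ed5ed5ed0b82b06d45e15ec5eb5f25ef0b72af6d35e05ea5ec5f05eb0b62ae6d25c15eb5ea5ea5ea0b52ad6215f45e95e95e45e70b42ac6205f35e85e65e85e80b32ab61f5f25e75e55e15e90b22aa61e5f15df5e85e65e30b12a961d5f05de5e75e05e50b02a861c5ef5dd5e45e95e10af2a761b5ee5dc5e35e35e60ae2a661a5ed5db5e25e25e20ad2a56195ec5da5e05e75e40ac2a46185eb5cb5e15e55e00ab2a36175df5e65df5d65dc0aa2a26165de5e55de5cd5de0a92a16155dd5e45d95dd5da0a82a06145dc5e35d85d45df)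 (nat_lit 3000))) (vqc6 (vqc5 (nat_lit 0x61361a61a61a0e54de5e167361261861f61c0e44dd5e067260361961d6180e34dc5df63561e61760e6140e24db5de63461d6166056160e14da5dd63361c6116156120e04d95dc63261b61060c6170df4d85db63161a60f60b6130de4d75da6306196096126150dd4d65d962f61161561160a0dc4d55d862e6106146086100db4d45d762d60f61360760d0da4d35d662c60e60e61760c0d94d25d562b60d60d60460f0d84d15d462a60c60861460e0d74d05d362960b60761360b0d64cf5d262860a60660a6110d54ce5d16276026126096060d44cd5d062660160c6106080d34cc5cf62560060b60f6040d24cb5ce6245ff60a6066090d14ca5cd6235fe6056166050d04c95cc6225fd60460d6070cf4c85cb6036186025fe6030ce4c75ca6026096035fc5ff0cd4c65c96016086016016010cc4c55c86006076006005fd0cb4c45c75ff6065ff5fa6020ca4c35c65fe6055fc6035fe0c94c25c55fd6045fb5fd6000c84c15c45fc5fc5fe6025fa0c74c05c35fb5fb5fd) (vqc6 (vqc5 (nat_lit 0x63963962b63e63963b1044fd63863862a63864963a1034fc6376376296376486371024fb63663662863664063d1014fa63561765463562c6321004f96346166536346236340ff4f863361565262f6336300fe4f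763261465162e62a6350fd4f663161365062d6296310fc4f563061264f6276306330fb4f462f61163d63362f6280fa4f362e61063c63262662e0f94f262d60f63b63162562b0f84f162c60e63a62c63562a0f74f062b60d63962b62262d0f64ef62a60c63862663262c0f54ee62960b6376256316290f44ed62860a63662462862f0f34ec6276096276306276240f24eb62660862662a62e6260f14ea62560762562962d6220f04e96246066246286246270ef4e86236056236236346230ee4e762260462262262b6250ed4e65e967b62162161c61f0ec4e55e867a62061e6206200eb4e45e767961f61d6196210ea4e35e667861762061e61b0e94e25e567761661f61861d0e84e15e467661561c6216190e74e05e367561461b61b61e0e64df5e2674) (vqc6 (nat_lit 0x12451d65868564765866565512351c65768464665266b65712251b65668364565166165c12151a65568264465066065812051965468163565f65d65111f51865368063465e65365311e51765267f63365766864f11d51665167e63265665a65411c51565067d63165565965011b51464f67c63064f66465211a51364e64e66e64c63f64e11951264d64d66d64364664d11851164c64c65d64e63a64911751064b64b65c64b64b64511650f64a64a65b64a64164a11550e64964965a64963864c11450d64864865964863764811350c64764765864264764411250b64664665763d64d64611150a64564565663c64564b11050964464465563b64464710f50864364364364d63d64010e50764264264264764263e10d50664164164164164a64110c50564064064064063664310b50463f63f63f63a64e63f10a50363e63e63e63963e64210950263d63d62f64664363610850163c63c62e64563c63c10750063b63b62d64463b6391064ff63a63a62c63f64c6381054fe)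 (nat_lit 3000))) (nat_lit 3000))) (nat_lit 6000))) (nat_lit 12000))) (nat_lit 24000))) (vqc6 (vqc5 (vqc5 (vqc5 (vqc5 (nat_lit 0x67867514353c6e761d68067967267714253b6e661c67f67667b67314153a6e561b67e6756756781405396e461a67d67467467413f5386e361967c67267967613e5376e261867267367767213d5366716c666c67167166f13c5356706c566b67066d67013b53466f6c466a66e66f67113a53366e6c364e66f66e66e13953266d6c264d66d67066d13853166c69967166966366a13753066b69867066865766b13652f66a69766f65d65f66c13552e66969666966c65c66113452d66869566866b65266413352c66769466766766766213252b66669366666666665e13152a66569266566565866013052966469166466464f66812f52866369066365c66c65f12e52766268f66265b66266712d52666168e66165a65666912c52566068d66065965566512b52465f68c65f65466a66312a52365e68b65e65365e66612952265d68a64c66a65465a12852165c68964b66366965612752065b68864a66265b65b12651f65a68764966165165d12551e659686648660650659) (vqc6 (nat_lit 0x6b868a68c69916255b7066696a869968968e16155a7056686a769867f6911605597046676a669469468f1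5f5587036666a569369368b15e5577026656a469268568d15d5567016646a369167c69515c5557006636a268969968c15b5546ff6626a168868f69415a5536fe6616a06876836961595526fd66069f6866826921585516fc65f69e6816976901575506fb65e69d68068b69315654f6fa65d68a69768168715554e6f965c68969069668315454d6f865b68868f68868815354c6f765a68768e67e68a15254b6f665968668d67d68615154a6f56586856856926821505496f465768467f69868414f5486f365668367e68e68914e5476f265568267d68d68514d5466f165467868c68a67e14c5456f065367768b68068014b5446ef65267668469567c14a5436ee6516756836876811495426ed65067468268667d1485416ec64f67367c69167f1475406eb62169c67b67667914653f6ea62069b67867a67a14553e6e961f69a67767367b14453d6e861e68167a) (nat_lit 3000))) (vqc6 (vqc5 (nat_lit 0x7266b66bf6b16ad6b618157a7256b56be6b06ac6b21805797246b46bd6af69e6b717f5787236b36bc6a86b36b317e5777226b26bb6a76a96b517d5767216b16b16b66a66ae17c5757206b06b06b56a56aa17b57471f6af6af6b469b6af17a57371e6ae6ae6ae6a16b117957271d6ad6ad6a66b66ad17857171c6ac6ac6a56b56a917757071b6ab6ab6a46ab6ab17656f71a6aa6aa6a369d6b017556e7196a96a969c6b26ac17456d7186a86966b36a86a017356c7176a76956b269c6a317256b7166a66946ad6b16a117156a7156a56936ac6b069d1705697146a46926ab6a469f16f5687136a36916aa69a6a716e5677126a26906a26b769e16d5667116a168f6a16ae6a616c5657106a068e6a06a06a816b56470f69f68d69f69f6a416a56370e69e68c69b6b46a216956270d69d68b69a6aa6a516856170c69c67b6a96a769a16756070b69b67a69e6af69b16655f70a69a67969d6a369c16555e70966c6ba69669069716455d70866b6b969568469816355c70766a)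 (vqc6 (nat_lit 0x1a16d55ed6e46d56d56d56d51a06d45ec6e36d46d36da6d719f6d35eb6e26d26d46d86d319e6d25ea6d26d36d26d26d219d5967b96d16d06d16d16d119c5957b86c16d16cf6cb6d019b5947b76c06cf6d06c96cc19a5937b66bf6ce6ce6ce6ce1995927b56be6cd6cd6cd6ca1985917b46bd6cc6cc6c76cf1975907b36bc6cb6c96d06cb19658f7b26bb6ca6c86ca6cd19558e7b16ba6c66cb6cf6c719458d7b06b96c56ca6c86c819358c7af6b86c46c76cc6c919258b7ae6716c96c66c66c419158a7ad6706c86c56c26c51905897ac66f6c76c36c46c618f5887ab66e6c36c46c36c318e5877aa66d6c26c26c56c218d5867316d06c16c06bc6c118c5857306cf6b76c16ba6bd18b58472f6ce6b66bf6bf6bf18a58372e6cd6b56be6be6bb18958272d6cc6b46bd6b86c018858172c6cb6b36ba6c16bc18758072b6ca6b26b96bb6be18657f72a6c96996bc6c06b818557e7296c86986bb6b96b918457d7286c76976b86bd6ba18357c7276b76c06b76a26b418257b) (nat_lit 3000))) (nat_lit 6000))) (vqc6 (vqc5 (vqc5 (nat_lit 0x7026f21c06f46846f46f46ef7086f41bf6f36836f36f36ee6fe6f91be6f26826f26f26ed6fd6f51bd6f16816f16e86fc6fa6ee1bc6f06806f06e76fb6f06f01bb6ef67f6ef6e66f47056ec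1ba6ee67e6ee6e56f36f76f11b96ed67d6ed6e46f26f66ed1b86ec67c6ec6e36ec7016ef1b76eb67b6dc70c6eb6e66e91b66ea67a6db70b6e86ea6ea1b56e96796da70a6e76e36eb1b46e86786d96f16ea6e86e51b36e76776d86f06e96e26e71b26e66766d76ef6e66eb6e31b16e56756d66ee6e56e56e81b06e46746d56ed6e46e46e41af6e36736d46ec6e26e96e61ae6e26726d36e26e36e76e21ad6e15f97366e16e16de6e11ac6e05f87356e06df6e06e01ab6df5f77346dc6e06df6dd1aa6de5f67336db6de6e16de1a96dd5f57326da6dd6dd6df1a86dc5f46eb6df6dc6d76da1a76db5f36ea6de6d96db6db1a66da5f26e96dd6d86d46dc1a56d95f16e86d96db6d96d61a46d85f06e76d86da6d36d81a36d75ef6e66d76d76dc6d41a26d65ee6e56d66d66d66d9) (vqc6 (nat_lit 0x70271b71470f1df7136a374070171a70a7171de7126a273f70071272770e1dd7116a173e6ff71171e7161dc7106a073d6fe7107107181db70f69f73c6fd70f70f7141da70e69e73b6fc70b7247121d970d69d73a6fb70a71a7151d870c69c7396eb71971770a1d770b69b7386ea70e71f70b1d670a69a7376e970d71370c1d570969970972a7067007071d47086987087297056f47081d37076977077286fa6fc7091d27066967067187096f96fe1d17056957057177086ef7011d07046947047167047046ff1cf7036937037157037036fb1ce7026927027147026f56fd1cd7016917017137016ec7051cc7006907007126f97096fc1cb6ff68f6ff7116f86ff7041ca6fe68e6fe7106f76f37061c96fd68d6fd70f6f66f27021c86fc68c6fc70e6f17077001c76fb68b6fb70d6f06fb7031c66fa68a6fa6fa7076f16f71c56f96896f96f97007066f31c46f86886f86f86ff6f86f81c36f76876f76f76fe6ee6fa1c26f66866f66f66fd6ed6f61c16f56856f56f56f5)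 (nat_lit 3000))) (vqc6 (vqc5 (nat_lit 0x7336de7387337367331fe7327326dd7377327327341fd7316c178b73173072c7311fc7306c078a72773172a72d1fb72f6bf78972672f72f72f1fa72e6be78872572e72e72b1f972d6bd78772472d7287301f872c6bc78672372a73172c1f772b6bb78572272972b72e1f672a6ba78470972c7307281f57296b978370872b7297291f47286b878270772872d72a1f37276b77547307277127241f27266b675372f72171d7261f17256b575272e72071c7221f07246b475172d71f70e7271ef7236b375072c7187237231ee7226b274f72b7177197251ed7216b174e72172671671e1ec7206b074d72072571571a1eb71f6af74c71f72470b71f1ea71e6ae74b71e71e7117211e971d6ad74a71d71672671d1e871c6ac74971c7157257191e771b6ab74871b71471b71b1e671a6aa74771a71370d7201e57196a974671970c72271c1e47186a87457067237187101e37176a774470572270c7131e27166a674370471d7217111e17156a574270371c72070d1e07146a4741) (vqc6 (vqc5 (nat_lit 0x21e75275272577174d74974f21d75175172477074c73b75421c75075072376f74575075021b74f74f72276e74474675221a74e74e72175f75374374b21974d74d72075e75274274721874c74c71f75d75173874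c21774b74b71e75c74b73e74e21674a74a71d75b74375374a21574974971c75a74275274621474874871b75974174874821374774771a75874073a74d21274674671975773974f74921174574571874575074573d21074474471774474f73974020f74374371674374a74e73e20e74274271574274974d73a20d74174171474174874173c20c74074071374074773774420b73f73f71273f73f75473b20a73e73e71173e73e74b74320973d73d71073d73d73d74520873c73c70f73c73c73c74120773b73b70e73b73875173f20673a73a70d73a73774774220573973970c73474674473720473873870b73373b74c73820373773770a73273a7407392027367366e17567367337362017357356e07557347357352007347346df7397357347321ff733) (vqc6 (nat_lit 0x77a77223d77177178f75277577976e23c77077078e75177477077323b76f76f78d75076f78076f23a76e76e78c74f76e77777123976d76d76d77b76d76376623876c76c76c77a76c75b76c23776b76b76b77976b75a76923676a76a76a77876576a76823576976976977776475776b23476876876877675f76876a23376776776777575e76776723276676676677475d76076d23176576576576576a76576123076476476476476975576422f76376376376376376d76022e76276276276276275976222d76176176176175c76176522c76076076076075676676322b75f75f75f74e76875f75c22a75e75e75e74d76775e75822975d75d75d74c76675675d22875c75c75c74b76175c75f22775b75b75b74a75b76c75b22675a75a75a74975a76b75722575975975974875976275922475875875874775875875e22375775775774675576975a22275675675673676075d75622175575575573575776475522075475472777375473f75121f75375372677274e74a753)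 (nat_lit 3000))) (nat_lit 3000))) (nat_lit 6000))) (nat_lit 12000))) (vqc6 (vqc5 (vqc5 (vqc5 (nat_lit 0x78a79a79178e25c7907c877278979479879025b78f7c777178879379778c25a78e7c677078779278e79125978d7c576f78678d79e78d25878c7c476e78578c79578f25778b7c37317a078a78678b25678a7c273079178b7847872557897c172f7907897897892547887c072e78f7887887852537877bf72d78e78778278a2527867be72c78d78478b7862517857bd72b78c7837857882507847bc72a78478678a78224f7837bb72978378578378324e7827ba72878278278778424d78178179f78178177877e24c78078079e78078076f78024b77f77f79d77f77b77f77c24a77e77e79c77e77a77678124977d77d79b77d77977577d24877c77c79a77c77377c77f24777b77b79976d77f77b77424677a77a79876c77e77277a24577977979776b77d77177724477877879676a77878177624377777779576977776e77924277677679476877277e77824177577579376777177d77524077477479276677077477b23f77377379175477c77377023e772772790753776) (vqc6 (nat_lit 0x6c87bb7ad7b27b07b027b8126c77ba7ac7af7b47b127a8116c67ae7b17ae7ae7ac2798106c57ad7b07ad7aa7ad27880f6c47ac7af7ab7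ac7ae27780e6c37ab7ab7ac7ab7ab27680d6c27aa7aa7aa7ad7aa2757a97e17a97a97a97a47a72747a87e07a87a87a67a87a82737a77df7a77a77a57a17a92727a67de7a679f7a87a67a32717a57dd7a579e7a77a07a52707a47dc7a479d7a47a97a126f7a37db7a379c7a37a37a626e7a27da7a279b7a27a27a226d7a17d97a179a7a07a77a426c7a07d87a078b7a17a57a026b79f7d77817a679f79679c26a79e7d67807a579e78d79e26979d7d577f7a479979d79a26879c7d477e7a379879479f26779b7d377d7a279779379b26679a7d277c7a179179a79d2657997d177b79979d7997922647987d077a79879c7907982637977cf77979779b78f7952627967ce77879679679f7942617957cd77779579578c7972607947cc77679479079c79625f7937cb77579378f79b79325e7927ca77479278e79279925d7917c9773) (nat_lit 3000))) (vqc6 (vqc5 (nat_lit 0x29b8327977cf7cf7d37c77cd29a8317967ce7ce7ce7d77cc2998307957cd7cd7cd7c47cf29882f7947cc7cc7c87d47ce29782e7937cb7cb7c77d37cb29682d7927ca7ca7c67ca7d129582c7917c97c27d27c97c629482b7907c87c17cc7d07c829382a78f7c77c07cb7cf7c429282978e7c67bf7ca7c67c929182878d7c57be7c57d67c529082778c7c47bd7c47cd7c728f82678b7b87d87c27be7c328e82578a7b77c97c37bc7bf28d8247897b67c87c17c17c128c8237887b57c77c07c07bd28b8227877b47c67bf7ba7c228a8217867b37c57bc7c37be2898207857b27c47bb7bd7c028881f7847b17bc7be7c27ba28781e7837b07bb7bd7bb7bb28681d7827af7ba7ba7bf7bc28581c6d17e27b87b97b97b928481b6d07c37b97b77b37b828381a6cf7c27b77b87b17b42828196ce7c17b67b67b67b62818186cd7c07b57b57b57b22808176cc7bf7b47b47af7b727f8166cb7be7b37b17b87b327e8156ca7bd7b27b07b27b527d8146c97bc7ae7b37b77af27c813)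 (vqc6 (nat_lit 0x7ef7ed2ba8517ee7ee7eb7ee7f17ee2b98507ed7ed7ea7ed7ed7ef2b884f7ec7e17ef7ec7e77ea2b784e7eb7e07ee7e97eb7eb2b684d7ea7df7ed7e87e47ec2b584c7e97de7e97eb7e97e62b484b7e87dd7e87ea7e37e82b384a7e77dc7e77e77ec7e42b28497e67db7e67e67e67e92b18487e57da7e57e57e57e52b08477e47d97e47e37ea7e72af8467e37d87e27e47e87e32ae8457e27b97e37e27e27e22ad8447a97ec7e17e17dc7df2ac8437a87eb7e07de7e07e02ab8427a77ea7df7dd7d97e12aa8417a67e97d77e07de7db2a98407a57e87d67df7d87dd2a883f7a47e77d57dc7e17d92a783e7a37e67d47db7db7de2a683d7a27e57d37da7da7da2a583c7a17e47d27d87df7dc2a483b7a07e37c37d97dd7d82a383a79f7d77de7d77ce7d42a283979e7d67dd7d67c57d62a183879d7d57dc7d17d57d22a083779c7d47db7d07cc7d729f83679b7d37da7cf7cb7d329e83579a7d27d97c97d27d529d8347997d17d17d57d17ca29c8337987d07d07d47c87d0) (nat_lit 3000))) (nat_lit 6000))) (vqc6 (vqc5 (vqc5 (nat_lit 0x80e80f80e80e01b7aa7fc80d80d80d81080d01a5b185580b80c80c80c80c0195b081c80c80a80b80b80b0185af81b80a80b80980580a0175ae81a80980980a8038060165ad819808808808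8088080155ac8188078078078078040145ab8178068068068018090135aa81680580580380a8050125a98158048048028048070115a88148038008058098010105a78138027ff80480280200f5a68128017fe80180680300e5a58117fb8038008007fe00d5a48107fa8027ff7fc7ff00c5a380f7f98017fd7fe80000b5a280e7f87fd7fe7fd7fd00a5a180d7f77fc7fc7ff7fc0095a07fb8007fb7fb7fb7f900859f7fa7ff7fa7fa7f77fa00759e7f97fe7f97f87f97fb00659d7f87fd7f67f97f87f800559c7f77fc7f57f77fa7f700459b7f67f67f87f67f37f600359a7f57f57f77f47f57f50025997f47f47f47f57f47f20015987f37f37f37f37f67f30005977f27f27f27f27f27f42bd8547f17f17f17f17ee7f12bc8537f07f07f07ef7f07f02bb8527ef7ef7ec7f0) (vqc6 (nat_lit 0x82d82d82d82982d83403a7c982c82c82583582c8290397c882b82b82482f83382b0387c782a82a82382e8328270377c682982982282d82982c0367c58288288218288398280357c482782782082783082a0347c382681b83b8258218260337c282581a82c82681f8220327c182481982b8248248240317c082381882a8238238200307bf82281782982281d82502f7be82181682881f82682102e7bd82081582781e82082302d7bc81f81481f82182581d02c7bb81e81381e82081e81e02b7ba81d81281d81d82281f02a7b980b84581b81c81c81c0297b880a82681c81a81681b0287b780982581a81b8148170277b68088248198198198190267b58078238188188188150257b480682281781781281a0247b380582181681481b8160237b28048208158138158180227b180381f81181681a8120217b080281e8108158138130207af80181d80f81281781401f7ae80081181481181180f01e7ad7ff81081381080d81001d7ac7fe80f81280e80f81101c7ab7fd80e)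 (nat_lit 3000))) (vqc6 (vqc5 (nat_lit 0x5a7e985d84184c84e84c8490597e885c84084b84d84684b0587e785b83f84a84a84f8470577e685a83e84984984984c0567e585983d8488488488480557e485883c84784684d84a0547e385783b84584784b8460537e285681c8468458458450527e184484f84484483f8420517e084384e8438418438430507df84284d84284083c84404f7de84184c83a84384183e04e7dd84084b83984283b84004d7dc83f84a83883f84483c04c7db83e84983783e83e84104b7da83d84883683d83d83d04a7d983c84783583b84283f0497d883b84682683c84083b0487d783a83a84183a8318370477d68398398408398288390467d583883883f8348388350457d483783783e83382f83a0447d383683683d83282e8360437d283583583c82c8358380427d183483483483883482d0417d083383383383782b8330407cf83283283283682a83003f7ce83183183183183a82f03e7cd83083083083082783203d7cc82f82f82f82b83783103c7cb82e82e82e82a83682e03b7ca) (vqc6 (vqc5 (nat_lit 0x86c86c07986b86b86b86986b86e86b07886a86a86586c86a86786a07786986986486b86886986907686886886386886986886607586786786286786786a86707486686686186686686686807386585486a865865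86286507286485386986486386486407186385286886086486386107086285186785f86286586206f86185086685e86186186306e86084f86086386085b85e06d85f84e85f86285d85f85f06c85e84d85e86185c85886006b85d84c85d85d85f85d85a06a85c84b85c85c85e85785c06985b84a85b85b85b86085806885a84985a85a85a85a85d06785984885985985985985906685884785885885785e85b06585784685785685885c85706485684585585785685685606385580c8568558558558550627f18658548548548518540617f08648538538528538530607ef86385284f85385285005f7ee86285184e85185485105e7ed86185084d85085085205d7ec86084485284f84a84d05c7eb85f84385184c84e84e05b7ea85e84285084b84784f) (vqc6 (nat_lit 0x7d86f86f86f86f86f86f86d07c86e86e86e86e86e86b86e07b86d86d86d86d86c86d86f07a86c86c86c86a86d) (nat_lit 3000))) (nat_lit 3000))) (nat_lit 6000))) (nat_lit 12000))) (nat_lit 27000))) (nat_lit 51000))) (nat_lit 105000)) :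
      ℕ)) = ?xq2 → Nat) ?hq2; (case hq2 => (conv => lhs; whnf)); intro _; exact OfNat.ofNat ?xq2 : Nat)
  w := 12
  R := 0x4374394a976386f45c7654aa43b438
  o := 1080
  cK k := ([46, 68, 91, 135, 110, 84, 57, 29] : List ℤ).getD k 0

theorem hS0 : B.cSa 0 2 256 1 = true := by decide +kernel

theorem hS1 : B.cSa 1 32 4096 1 = true := by decide +kernel

theorem hC1 : B.cCa 1 = true := by decide +kernel

theorem hS2 : B.cSa 2 512 4097 1 = true := by decide +kernel

theorem hC2 : B.cCa 2 = true := by decide +kernel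

theorem hS3 : B.cSa 3 8192 65808 1 = true := by decide +kernel

theorem hC3 : B.cCa 3 = true := by decide +kernel

theorem hS4 : B.cSa 4 131072 1052672 1 = true := by decide +kernel

theorem hC4 : B.cCa 4 = true := by decide +kernel

theorem hS5 : B.cSa 5 2097152 16842752 1 = true := by decide +kernel

theorem hC5 : B.cCa 5 = true := by decide +kernel

theorem hS6 : B.cSa 6 33554432 269484032 1 = true := by decide +kernel

theorem hC6 : B.cCa 6 = true := by decide +kernel

theorem hS7 : B.cSa 7 536870912 16777216 1 = true := by decide +kernel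

theorem hC7 : B.cCa 7 = true := by decide +kernel

theorem hD : B.cD = true := by decide +kernel

theorem hI : B.cI = true := by decide +kernel

theorem hR : B.cR = true := by decide +kernel

theorem hQ : B.cQ 0 = true := by decide +kernel

theorem okB : B.Ok A 0 e where
  hA := by decide +kernel
  hc := by decide +kernel
  ho := by decide +kernel
  hv := by decide +kernel
  hw := by decide +kernel
  hS i := match i with
    | 0 => ⟨_, _, by decide +kernel, by decide +kernel, hS0⟩
    | 1 => ⟨_, _, by decide +kernel, by decide +kernel, hS1⟩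
    | 2 => ⟨_, _, by decide +kernel, by decide +kernel, hS2⟩
    | 3 => ⟨_, _, by decide +kernel, by decide +kernel, hS3⟩
    | 4 => ⟨_, _, by decide +kernel, by decide +kernel, hS4⟩
    | 5 => ⟨_, _, by decide +kernel, by decide +kernel, hS5⟩
    | 6 => ⟨_, _, by decide +kernel, by decide +kernel, hS6⟩
    | 7 => ⟨_, _, by decide +kernel, by decide +kernel, hS7⟩
  hC i := match i with
    | 0 => fun h => absurd rfl h
    | 1 => fun _ => hC1
    | 2 => fun _ => hC2
    | 3 => fun _ => hC3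
    | 4 => fun _ => hC4
    | 5 => fun _ => hC5
    | 6 => fun _ => hC6
    | 7 => fun _ => hC7
  hD := hD
  hI := hI
  hR := hR
  hQ := hQ

theorem hA2 : ∀ i, A i i = 2 := by decide +kernel

/-- the sums over the states -/
def Z : ℕ := (by refine (?fq3 : ((beta% delta% lq2625fc56bb69 fun _ _ _ _ _ vqc5 vqc6 _ _ _ _ =>
    vqc5 (vqc5 (vqc5 (vqc5 (vqc5 (nat_lit 0x1000000000000000000000000000000000000000000000000000000000000000000000000000000000000000000000000000000000000000000000000000000000000000000000000000000000000000000000000000000000000000000000000000000000000000000000000000000000000000000000000000000000000000000000000000000000000000000000000000000000000000000000000000000000000000000000000000000000000000000000000000000000000000000000000000000000000000000000000000000000000000000000000000000000000000000000000000000000000000000) (vqc6 (vqc5 (nat_lit 0x0) (vqc6 (nat_lit 0x0) (nat_lit 3000))) (nat_lit 3000))) (vqc6 (vqc5 (vqc5 (nat_lit 0x0) (vqc6 (nat_lit 0x0) (nat_lit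 3000))) (vqc6 (vqc5 (nat_lit 0x0) (vqc6 (nat_lit 0x1002002003003003002002001001000000000000000000000000000000000000000000000000000000000000000000000000000000000000000000000000000000000000000000000000000000000000000000000000000000000000000000000000000000000000000000000000000000000000000000000000000000000000000000000001000000000000000000000000000000000000000000000000000000000000000000000000000000000000000000000000000000000000000000000000000000000000000000000000000000000000000000000000000000000000000000000000000000000000000000000000000000000000000000000000000000000000000000000000000000000000000000000000000000000000000000000000000000000000000000000000000000000000000000000000000000000000000000000000000000000000000000000000000000000000000000000000000000000000000000000000000000000000000000000000) (nat_lit 3000))) (nat_lit 6000))) (nat_lit 9000))) (vqc6 (vqc5 (vqc5 (vqc5 (nat_lit 0x1001002003004004005004004003002001001000000000000000000000000000000000000000000000000000000000000000000000000000000000000000000000000000000000000000000000000000000000000000000000000000000000000000000000000000000000000000000000000000000000000000000000000000000000000000000000000000000000000000000000000000000000000000000000000000000000000000000000000000000000000000000000000000000000000000000000000000000000000000000000000000000000000000000000000000000000000000000000000000000000000000000000000001)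 (vqc6 (nat_lit 0x1001001001001001001000000000000000000000000000000000000000000000000000000000000000000000000000000000000000000000000000000000000000000000000000000000000000000000000000000000000000000000000000000000000000000000000000000000000000000) (nat_lit 3000))) (vqc6 (vqc5 (nat_lit 0x0) (vqc6 (nat_lit 0x0) (nat_lit 3000))) (nat_lit 6000))) (vqc6 (vqc5 (vqc5 (nat_lit 0x0) (vqc6 (nat_lit 0x0) (nat_lit 3000))) (vqc6 (vqc5 (nat_lit 0x600900b00d00d00d00b009006004002001000000000000000000000000000000000000000000000000000000000000000000000000000000000000000000000000000000000000000000000000000000000000000000000000000000000000000000000000000000000000000000000000000000000000000000001001002003004004005004004003002001001000000000000000000000000000000000000000000000000000000000000000000000000000000000000000000000000000000000000000000000000000000000000000000000000000000000000000000000000000000000000000000000000000000000000000000000000000000000000000000000000000000000000000000000000000000000000000000000000000000000000000000000000000000000000000000000000000000000000000000000000000000000000000000000000000000000000000000000000000000000000000000000000000000000000000000000000000000000)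 (vqc6 (nat_lit 0x100200400600900b00d00d00d00b009006004002001000000000000000000000000000000000000000000000000000000000000000000000000000000000000000000000000000000000000000000000000000000000000000000000000000000000000000000000000000000000000000000000000000000000000000000000000000000000000000000000000000000000000000000000000000000000000000000000000000000000000000000000000000000000000000000000000000000000000000000000000000000000000000000000000000000000000000000000000000000000000000000000000000000000000001002004) (nat_lit 3000))) (nat_lit 6000))) (nat_lit 12000))) (nat_lit 21000))) (vqc6 (vqc5 (vqc5 (vqc5 (vqc5 (nat_lit 0x1001002003004004005004004003002001001000000000000000000000000000000000000000000000000000000000000000000000000000000000000000000000000000000000000000000000000000000000000000000000000000000000000000000000000000000000000000000000000000) (vqc6 (nat_lit 0x0) (nat_lit 3000))) (vqc6 (vqc5 (nat_lit 0x0) (vqc6 (nat_lit 0x0) (nat_lit 3000))) (nat_lit 6000))) (vqc6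 (vqc5 (vqc5 (nat_lit 0x1001001001001001000000000000000000000000000000000000000000000000000000000000000000000000000000000000000000000000000000000000000000000000000000000000000000000000000000000000000000000000000000000000000000000000000000000000000000000000000000000000000000000000000000000000000000000000000000000000000000000000000000000000000000000000000000000000000000000000000000000000000000000000000000000000000000000000000000000000000000000000000000000000000000000000000000000000000000000000000000000000000000000000000000000000000000000000000000000000000000000000000000000000000000000000000000000000000000000000000000000000000000000000000000000000000000000000000000000000000000000000000000000000000000000000000000000000000000000000000000000000000000000000000000000000) (vqc6 (nat_lit 0x400700b00e01101201301100e00a00700400200000000000000000000000000000000000000000000000000000000000000000000000000000000000000000000000000000000000000000000000000000000000000000000000000000000000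000000000000000000000000000000000000000000000000000000100200400600900b00d00d00d00b009006004002001000000000000000000000000000000000000000000000000000000000000000000000000000000000000000000000000000000000000000000000000000000000000000000000000000000000000000000000000000000000000000000000000000000000000000000000000000000000000000000000000000000000000000000000000000000000000000000000000000000000000000000000000000000000000000000000000000000000000000000000000000000000000000000000000000000000000000000000000000000000000000000000000000000000000000000000000001) (nat_lit 3000))) (vqc6 (vqc5 (nat_lit 0x100200400700a00d01001101101000d00a007004002001000000000000000000000000000000000000000000000000000000000000000000000000000000000000000000000000000000000000000000000000000000000000000000000000000000000000000000000000000000000000000000000000000000000000000000000000000000000000000000000000000000000000000000000000000000000000000000000000000000000000000000000000000000000000000000000000000000000000000000000000000000000000000000000000000000000000000000000000000000000000000000000000000000001002)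 (vqc6 (nat_lit 0x1002003004005006006005004003002001000000000000000000000000000000000000000000000000000000000000000000000000000000000000000000000000000000000000000000000000000000000000000000000000000000000000000000000000000000000000000000000000000000000000000000000000000000000000000000000000000000000000000000000000000000000000000000000000000000000000000000000000000000000000000000000000000000000000000000000000000000000000000000000000000000000000000000000000000000000000000000000000000000000000000000000000001001001001001001001000000000000000000000000000000000000000000000000000000000000000000000000000000000000000000000000000000000000000000000000000000000000000000000000000000000000000000000000000000000000000000) (nat_lit 3000))) (nat_lit 6000))) (nat_lit 12000))) (vqc6 (vqc5 (vqc5 (vqc5 (nat_lit 0x0) (vqc6 (nat_lit 0x0) (nat_lit 3000))) (vqc6 (vqc5 (nat_lit 0x0) (vqc6 (nat_lit 0x200300400400500400400300200100100000000000000000000000000000000000000000000000000000000000000000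0000000000000000000000000000000000000000000000000000000000000000000000000000000000000000000000000000000000000000000000000000000000000000000000000000000000000000000000000000000000000000000000000000000000000000000000000000000000000000000000000000000000000000000000000000000000000000000000000000000000000000000000000000000000000000000000000000000000000000000000000000000000000000000000000000000000000000000000000000000000000000000000000000000000000000000000000000000000000000000000000000000000000000000000000000000000000000000000000000000000000000000000000000000000000000000000000000000000000000000000000000000000000000000000000000000000000000000000000000) (nat_lit 3000))) (nat_lit 6000))) (vqc6 (vqc5 (vqc5 (nat_lit 0x100200500800d01101601801a01801601100d00800500200100000000000000000000000000000000000000000000000000000000000000000000000000000000000000000000000000000000000000000000000000000000000000000000000000000000000000000000000000000000000000000000000000000000000100200400700a00d01001101101000d00a007004002001000000000000000000000000000000000000000000000000000000000000000000000000000000000000000000000000000000000000000000000000000000000000000000000000000000000000000000000000000000000000000000000000000000000000000000000000000000000000000000000000000000000000000000000000000000000000000000000000000000000000000000000000000000000000000000000000000000000000000000000000000000000000000000000000000000000000000000000000000000000000000000000000000000000000001001)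 (vqc6 (nat_lit 0x0) (nat_lit 3000))) (vqc6 (vqc5 (nat_lit 0x100100200300400400500400400300200100100000000000000000000000000000000000000000000000000000000000000000000000000000000000000000000000000000000000000000000000000000000000000000000000000000000000000000000000000000000000000000000000000000000000000000000000000000000000000000000000000000000000000000000000000000000000000000000000000000000000000000000000000000000000000000000000000000000000000000000000000000000000000000000000000000000000000000000000000000000000000000000000000000000000000100200400700a00d01001101101000d00a007004002001000000000000000000000000000000000000000000000000000000000000000000000000000000000000000000000000000000000000000000000000000000000000000000000000000000000000000000) (vqc6 (nat_lit 0x0) (nat_lit 3000))) (nat_lit 6000))) (nat_lit 12000))) (nat_lit 24000))) (nat_lit 45000))) (vqc6 (vqc5 (vqc5 (vqc5 (vqc5 (vqc5 (nat_lit 0x0) (vqc6 (nat_lit 0x0) (nat_lit 3000))) (vqc6 (vqc5 (nat_lit 0x10010010010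01001001000000000000000000000000000000000000000000000000000000000000000000000000000000000000000000000000000000000000000000000000000000000000000000000000000000000000000000000000000000000000000000000000000000000000000000000000000000000000000000000000000000000000000000000000000000000000000000000000000000000000000000000000000000000000000000000000000000000000000000000000000000000000000000000000000000000000000000000000000000000000000000000000000000000000000000000000000000000000000000000000000000000000000000000000000000000000000000000000000000000000000000000000000000000000000000000000000000000000000000000000000000000000000000000000000000000000000000000000000000000000000000000000000000000000000000000000000000000000) (vqc6 (nat_lit 0x0) (nat_lit 3000))) (nat_lit 6000))) (vqc6 (vqc5 (vqc5 (nat_lit 0x1001001001001001001000000000000000000000000000000000000000000000000000000000000000000000000000000000000000000000000000000000000000000000000000000000000000000000000000000000000000000000000000000000000000000000000000000000000000000000000000000000000000000000000000000000000000000000000000000000000000000000000000000000000000000000000000000000000000000000000000000000000000000000000000000000000000000000000000000000000000000000000000)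 (vqc6 (nat_lit 0x0) (nat_lit 3000))) (vqc6 (vqc5 (nat_lit 0x0) (vqc6 (nat_lit 0x0) (nat_lit 3000))) (nat_lit 6000))) (nat_lit 12000))) (vqc6 (vqc5 (vqc5 (vqc5 (nat_lit 0x0) (vqc6 (nat_lit 0x100200400700a00d01001101101000d00a007004002001000000000000000000000000000000000000000000000000000000000000000000000000000000000000000000000000000000000000000000000000000000000000000000000000000000000000000000000000000000000000000000000000000000000000000000000000000000000000000000000000000000000000000000000000000000000000000000000000000000000000000000000000000000000000000000000000000000000000000000000000000000000000000000000000000000000000000000000000000000000000000000000000000000000000000001002003004005006006005004003002001000000000000000000000000000000000000000000000000000000000000000000000000000000000000000000000000000000000000000000000000000000000000000000000000000000000000000000000000000000000000000000000000000000000) (nat_lit 3000))) (vqc6 (vqc5 (nat_lit 0x200400700a00e0110130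1201100e00b007004002001000000000000000000000000000000000000000000000000000000000000000000000000000000000000000000000000000000000000000000000000000000000000000000000000000000000000000000000000000000000000000000000000000000000000000000000000000001001001001001001001000000000000000000000000000000000000000000000000000000000000000000000000000000000000000000000000000000000000000000000000000000000000000000000000000000000000000000000000000000000000000000000000000000000000000000000000000000000000000000000000000000000000000000000000000000000000000000000000000000000000000000000000000000000000000000000000000000000000000000000000000000000000000000000000000000000000000000000000000000000) (vqc6 (nat_lit 0x100200400600900b00d00d00d00b009006004002001000000000000000000000000000000000000000000000000000000000000000000000000000000000000000000000000000000000000000000000000000000000000000000000000000000000000000000000000000000000000000000000000000000000000000000000000000000000000000000000000000000000000000000000000000000000000000000000000000000000000000000000000000000000000000000000000000000000000000000000000000000000000000000000000000000000000)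 (nat_lit 3000))) (nat_lit 6000))) (vqc6 (vqc5 (vqc5 (nat_lit 0x1001001001001001001000000000000000000000000000000000000000000000000000000000000000000000000000000000000000000000000000000000000000000000000000000000000000000000000000) (vqc6 (nat_lit 0x0) (nat_lit 3000))) (vqc6 (vqc5 (nat_lit 0x0) (vqc6 (nat_lit 0x0) (nat_lit 3000))) (nat_lit 6000))) (nat_lit 12000))) (nat_lit 24000))) (vqc6 (vqc5 (vqc5 (vqc5 (vqc5 (nat_lit 0x1001002003004004005004004003002001001000000000000000000000000000000000000000000000000000000000000000000000000000000000000000000000000000000000000000000000000000000000000000000000000000000000000000000000000000000000000000000000000) (vqc6 (nat_lit 0x100200400600900b00d00d00d00b00900600400200100000000000000000000000000000000000000000000000000000000000000000000000000000000000000000000000000000000000000000000000000000000000000000000000000000000000000000000000000000000000000000000000000000000000000000100200400600900b00d00d00d00b009006004002001000000000000000000000000000000000000000000000000000000000000000000000000000000000000000000000000000000000000000000000000000000000000000000000000000000000000000000000000000000000000000000000000000000000000000000000000000000000000000000000000000000000000000000000000000000000000000000000000000000000000000000000000000000000000000000000000000000000000000000000000000000000000000000000000000000000000000000)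 (nat_lit 3000))) (vqc6 (vqc5 (nat_lit 0x1001002003004004005004004003002001001000000000000000000000000000000000000000000000000000000000000000000000000000000000000000000000000000000000000000000000000000000000000000000000000000000000000000000000000000000000000000000000000000000000000000000000000000000000000000000000000000000000000000000000000000000000000000000000000000000000000000000000000000000000000000000000000000000000000000000000000000000000000000000000000000000000000) (vqc6 (nat_lit 0x0) (nat_lit 3000))) (nat_lit 6000))) (vqc6 (vqc5 (vqc5 (nat_lit 0x0) (vqc6 (nat_lit 0x0) (nat_lit 3000))) (vqc6 (vqc5 (nat_lit 0x0) (vqc6 (nat_lit 0x1001001001001001001000000000000000000000000000000000000000000000000000000000000000000000000000000000000000000000000000000000000000000000000000000000000000000000000000000000000000000000000000000000000000000000000000000000000000000000000000000000000000000000000000000000000000000000000000000000000000000000000000000000000000000000000000000000000000000000000000000000000000000000000000000000000000000000000000000000000000000000000000000000000000000000000000000000000000000000000000000000000000000000000000000000000000000000000000000000000000000000000000000000000000000000000000000000000000000000000000000000000000000000000000000000000000000000000000000000000000000000000000000000000000000000)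 (nat_lit 3000))) (nat_lit 6000))) (nat_lit 12000))) (vqc6 (vqc5 (vqc5 (vqc5 (nat_lit 0x1001002002003003003002002001001000000000000000000000000000000000000000000000000000000000000000000000000000000000000000000000000000000000000000000000000000000000000000000000000000000000000000000000000000000000000000000000000000000000000000000000000000001001002003004004005004004003002001001000000000000000000000000000000000000000000000000000000000000000000000000000000000000000000000000000000000000000000000000000000000000000000000000000000000000000000000000000000000000000000000000000000000000000000000000000000000000000000000000000000000000000000000000000000000000000000000000000000000000000000000000000000000000000000000000000000000000000000000000000000000000000000000000000000000000000000) (vqc6 (nat_lit 0x1000000000000000000000000000000000000000000000000000000000000000000000000000000000000000000000000000000000000000000000000000000000000000000000000000000000000000000000000000000000000000000000000000000000000000000000000000000000000000000000000000000000000000000000000000000000000000000000000000000000000000000000000000000000000000000000000000000000000000000000000000000000000000000000000000000000000000000000000000000000)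 (nat_lit 3000))) (vqc6 (vqc5 (nat_lit 0x0) (vqc6 (nat_lit 0x0) (nat_lit 3000))) (nat_lit 6000))) (vqc6 (vqc5 (vqc5 (nat_lit 0x0) (vqc6 (nat_lit 0x0) (nat_lit 3000))) (vqc6 (vqc5 (nat_lit 0x0) (vqc6 (nat_lit 0x1000000000000000000000000000000000000000000000000000000000000000000000000000000000000000000000000000000000000000000000000000000000000000000000000000000000000000000000000000000000000000000000000000000000000000000000000000000000000000000000000000000000000000000000000000000000000000000000000000000000000000000000000000000000000000000000000000000000000000000000000000000000000000000000000000000000000000000000000000000000000000) (nat_lit 3000))) (nat_lit 6000))) (nat_lit 12000))) (nat_lit 24000))) (nat_lit 48000))) (nat_lit 93000)) :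
    ℕ)) = ?xq3 → Nat) ?hq3; (case hq3 => (conv => lhs; whnf)); intro _; exact OfNat.ofNat ?xq3 : Nat)

theorem hZ : B.cZ 12 12 79 0 Z = true := by decide +kernel

/-- the table -/
noncomputable def tab : Tab A 0 2160 10 := B.tab A 0 e okB hA2

noncomputable def matL : List (List (List ℤ)) :=
  (by
  refine (?fq9002 : (fun (Oz : (n : Nat) → OfNat Int n → Int) (Iz : (n : Nat) → OfNat Int n) (Gz : Int → Int) => ((pk61l (fun i1 => (pk61l (fun i2 => ((fun g2 : Nat → Nat => pk61l (fun i3 => (pk61y Oz Iz Gz (pk61d (nat_lit 6) (Nat.add 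
    (nat_lit 0x210831261c79e71648818004504504304100100000000000000000000000000000000000000000000000000000000000000000210831259a69a59230810200000000000000000000000000000000000000000000000000000000000000000000000208418820a20818408200000000000000000000000000000000000000000000000000000000000000000208208208200000000000000000000000000000000000000000000000000000000000000000000000000000000000008420c49669a69648c2040800000000000000000000000000000000000000000000000000000000000000000000001083967a6b2aa246902000431c50c304104000000000000000000000000000000000000000000000000000208208208200000000000000000000000000000000000000000000000000000000000008420e51a8228a069438810200000000000000000000000000000000000000000000000000000000210620a30c288184080000000000000000000000000000000000000000000000000002082082082000000000000000000000000000000000000000000000000000000000000080000000001000000000000000000000000000000000000000000000000002082082082000000000000000000000000000000000000000000000000002084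18820a2081840820000000000000000000000000000000000000000000000000000000000000000021083946a08a281a50e2040800000000000000000000000000000000000000000000000000000000842906a4bb4eb6caa7122800c31c30c30400400000000000000000000000000000000000021083946a08a281a50e20408000000000000000000000000000000000000000008210620828820610208000000000000000000000000000000000000210620a30c2881840800000000000000000000000000000000000000000000000000020820820820000000000000000000000000000000000000000000000000021083946a08a281a50e20408000000000000000000000000000000000000000008420e59e928aa88183880831430c104100000000000000000000000000210831259a69a59230810200000000000000000000000000008208208208000000000000000000000000008210620828820610208000000000000000000000000000000000000210831259a69a59230810200000000000000000000000000008420c49671a71850c28208104100100000000000008210620828820610208000000000000208208208200000000000000000000000000208418820a208184082000000000000082104186184102082040080080) (Nat.shiftLeft 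
    (nat_lit 0x8100000000000000000000000000000000000000000000000000000000000000000000000000000000000000000000000000000000000000000000008000000000000000000000000000000000000000000000000000000000000000000000000000000000000000000000000000000000000000000000200000000000000000000000000000000000000000000000000000000000000000000000000000000000000000000000000000000000000000000008210418818618408204000104004000100000000000000000000000000000000000000000000000000000000000000000000000000000000000008210620828820610208000000000000000000000000000000000000000000000000000000000000000000000000000000000000000008208208208000000000000000000000000000000000000000000000000000000000000000000000000000000000000208418820a2081840820000000000000000000) (nat_lit 8000))) i3))) (g2 i2) (g2 (Nat.succ i2)) List.nil) fun j => (pk61d (nat_lit 11) 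
    (nat_lit 0x712d859cf39e73ce79cf39e73ce79cf125d6b1d53ea7d4fa9f53ea7d4fa9f41e61c8590b13626c4d89b13626c0e7a0e5db433360ac1582b0560ac1582ad655aab542a8550aa1542a8549a8610c1e737865ccb99732e65ccb969282458778ce16c2d85b0b616c2d85b0910e01501f83f07e0fc1f83f07e0fc13812008008010020040080100200400800000) j))) (Nat.mul (nat_lit 10) i1) (Nat.mul (nat_lit 10) (Nat.succ i1)) List.nil)) (nat_lit 0) (nat_lit 10) List.nil) : List (List (List ℤ))))
    = ?xq9002 → (List (List (List ℤ)))) ?hq9002; (case hq9002 => (set_option maxRecDepth 1000000 in conv => lhs; reduce)); intro _; exact ?xq9002 (@OfNat.ofNat Int) (@instOfNat) (@Neg.neg Int Int.instNegInt) : List (List (List ℤ)))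

noncomputable def bbL : List (List (List ℤ)) :=
  (by
  refine (?fq9003 : (fun (Oz : (n : Nat) → OfNat Int n → Int) (Iz : (n : Nat) → OfNat Int n) (Gz : Int → Int) => ((pk61l (fun i1 => (pk61l (fun i2 => ((fun g2 : Nat → Nat => pk61l (fun i3 => (pk61y Oz Iz Gz (pk61d (nat_lit 4) 
    (nat_lit 0x20020220020001001101001222446888aaaa888644222200000000000000000000002244686664221001101001224688a88642200022222222224222000000000000000024688a8640001101001246888642000022242222000000000000000000000022446442200000000000004468886222110100120000002246666422000222222222446666664422200000002002020000010100122244666666442222222000000000000000000024686420000000000000248aaa64211010012468642000222222222200000000000000000200000000000000002246666422000000000022468866421010012244644220222242220000000000000000246888642000000000024688884221001222422222222220000000000000000224688a886422000000022446664422212222446888aaaa8886442220) i3))) (g2 i2) (g2 (Nat.succ i2)) List.nil) fun j => (pk61d (nat_lit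 10) 
    (nat_lit 0x26e95e41906419064190641906418aa14811fd7f5fd7f5fd7f5fd7f5e674dc6719bf6fdbf6fdbf6fda8649815e96d59d6759d6759d6759d504fd3f4bd2f4bd2f4bd2f46104410f43a8e6398e6398e6398cf2f8aa2689023c8f23c8f23c8f23c7819457140501405014050140500e4250601705c1705c1705c1705c1700000) j))) (Nat.mul (nat_lit 10) i1) (Nat.mul (nat_lit 10) (Nat.succ i1)) List.nil)) (nat_lit 0) (nat_lit 10) List.nil) : List (List (List ℤ))))
    = ?xq9003 → (List (List (List ℤ)))) ?hq9003; (case hq9003 => (set_option maxRecDepth 1000000 in conv => lhs; reduce)); intro _; exact ?xq9003 (@OfNat.ofNat Int) (@instOfNat) (@Neg.neg Int Int.instNegInt) : List (List (List ℤ)))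

noncomputable def kL : List (List ℤ) :=
  (by
  refine (?fq9004 : (fun (Oz : (n : Nat) → OfNat Int n → Int) (Iz : (n : Nat) → OfNat Int n) (Gz : Int → Int) => ((pk61l (fun i1 => ((fun g1 : Nat → Nat => pk61l (fun i2 => (pk61y Oz Iz Gz (pk61d (nat_lit 7) 
    (nat_lit 0x400000000000000000000000000000000000000000000000000000000000000000000000000000000000000000000000000000000000000000000000000000000000000000204082040c20408142850a102040608101020400000000000000000000000000000000000000000000000000000000000000000000000000000000000000000000000000081040c286122868f2248a1428509111e345090c141820204000000000000000000000000000000000000000000000000000000000000000000000000000041030a1c50e2250c1b3c810204078d98284470a0e14182020000000000000000000000000000000000000000000000000000000000001020408102080810204081000000000000000000000000000000000000000000000000000000000004082081840c1e4cc1b3e8d2a650992a33e6cc131e30406080808100000000000000000000000000000000000000000002081850e287112860d9e40810203c6cc1422385070a0c10100000000000000000000000000000004082061430914347912450a14284888f1a284860a0c101020000000000000004081040818408102850a14204080c102020408002)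 i2))) (g1 i1) (g1 (Nat.succ i1)) List.nil) fun j => (pk61d (nat_lit 9) 
    (nat_lit 0x7c343538633940691e0600200) j))) (nat_lit 0) (nat_lit 10) List.nil) : List (List ℤ)))
    = ?xq9004 → (List (List ℤ))) ?hq9004; (case hq9004 => (set_option maxRecDepth 1000000 in conv => lhs; reduce)); intro _; exact ?xq9004 (@OfNat.ofNat Int) (@instOfNat) (@Neg.neg Int Int.instNegInt) : List (List ℤ))

noncomputable def mat (c c' : Fin 10) : List ℤ := (matL.getD c []).getD c' []

noncomputable def kk (c : Fin 10) : List ℤ := kL.getD c []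

noncomputable def bb (c c' : Fin 10) : List ℤ := (bbL.getD c []).getD c' []

theorem hmat : ∀ c c' : Fin 10, pEq (Bg.matZ 12 79 Z (e 0) c c') (mat c c') = true := by (delta Bg.matZ; simp only [H996.Eight.Kq.pEq_eq]; decide +kernel)

theorem hkk : ∀ c : Fin 10, pEq (Bg.kZ 12 79 Z c) (kk c) = true := by (delta Bg.kZ; simp only [H996.Eight.Kq.pEq_eq]; decide +kernel)

theorem hB : ∀ r c, (beta% delta% lq2625fc56bb69 fun vqc0 vqc1 _ _ _ _ _ vqc7 vqc8 _ _ =>
    vqc7 (vqc8 (kk r) (bb r c)) (vqc8 (vqc0 1 (vqc0 1 (vqc0 1 (vqc0 2 (vqc0 2 (vqc0 3 (vqc0 4 (vqc0 4 (vqc0 4 (vqc0 5 (vqc0 5 (vqc0 5 (vqc0 5 (vqc0 4 (vqc0 4 (vqc0 4 (vqc0 3 (vqc0 2 (vqc0 2 (vqc0 1 (vqc0 1 (vqc0 1 vqc1)))))))))))))))))))))) (mat r c)) :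
    Bool) = true := by (simp only [H996.Eight.Kq.pEq_eq]; decide +kernel)

/-- the data -/
noncomputable def data : Data A 0 2160 10 where
  t := tab
  e := e
  wl := B.wl
  mat := mat
  kk := kk
  ff := (beta% delta% lq2625fc56bb69 fun vqc0 vqc1 _ _ _ _ _ _ _ _ _ =>
      (vqc0 1 (vqc0 1 (vqc0 1 (vqc0 2 (vqc0 2 (vqc0 3 (vqc0 4 (vqc0 4 (vqc0 4 (vqc0 5 (vqc0 5 (vqc0 5 (vqc0 5 (vqc0 4 (vqc0 4 (vqc0 4 (vqc0 3 (vqc0 2 (vqc0 2 (vqc0 1 (vqc0 1 (vqc0 1 vqc1)))))))))))))))))))))))
  bb := bb
  chkM := okB.chkM (by decide) (by decide) hZ hA2 hmat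
  chkK := okB.chkK (by decide) (by decide) hZ hA2 hkk
  chkF := by decide +kernel
  chkP := by (simp only [H996.Eight.Kq.pPos_eq]; decide +kernel)
  chkB := hB
  wo := okB.hw
  ws := okB.wl_st

end Cfsg.Agent.H996.PQ.TabE8b
end

-- part: H996/PQ/FullE8b
section
/-!
# Full certificate: `E₈`, node `0` (helper996, for S4612; made by a program)

`|G : P| = 1*q^0*P2^2*P3^2*P4*P5*P6^2*P8*P9*P10*P12*P14*P15*P18*P20*P24*P30`, number of the long root subgroups `1*q^0*P2*P3*P4^2*P5*P6*P8*P10*P12*P15*P20*P24*P30` (`Pn` the cyclotomic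
polynomials at `q`). Constituents (degree, `D`):
* `0`: degree `1*q^0 / 1`, `D = 0`
* `1`: degree `1*q^1*P4^2*P8*P12*P20*P24 / 1`, `D = 1*q^28*P2*P3*P5*P6*P10*P15*P30`
* `2`: degree `1*q^2*P5*P7*P10*P14*P15*P20*P30 / 1`, `D = 1*q^28*P2*P3*P4^2*P6*P8*P12^2*P24`
* `3`: degree `1*q^3*P4^2*P7*P8*P9*P12*P14*P20*P24*P30 / 2`, `D = 1*q^27*P2*P3*P5*P6*P10*P15*(-1 + 1*q + 2*q^2 + 1*q^3 + -1*q^4 + -1*q^5 + -1*q^6 + 1*q^8 + 1*q^9)`
* `4`: degree `1*q^3*P2^4*P6^2*P7*P8*P10^2*P14*P18*P24*P30 / 2`, `D = 1*q^27*P3*P4^2*P5*P12*P15*P20`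
* `5`: degree `1*q^4*P5^2*P8^2*P10*P14*P15*P18*P20*P24*P30 / 2`, `D = 1*q^27*P2*P3*P4^2*P6*P9*P12*(-1 + 1*q + 1*q^2 + -1*q^4 + 1*q^6 + 1*q^7 + -1*q^8 + -1*q^9 + 1*q^11)`
* `6`: degree `1*q^4*P5*P7*P8^2*P9*P10^2*P15*P20*P24*P30 / 2`, `D = 1*q^27*P2*P3*P4^2*P6*P12*P18*(1 + 1*q + -1*q^2 + 1*q^4 + -1*q^6 + 1*q^7 + 1*q^8 + -1*q^9 + 1*q^11)`
* `7`: degree `1*q^5*P4^2*P5*P7*P8^2*P10*P12*P14*P15*P20*P24*P30 / 1`, `D = 1*q^28*P2*P3*P6*(2 + 3*q^6 + 1*q^8 + 3*q^12 + 1*q^14 + 2*q^18 + 1*q^24)`
* `8`: degree `1*q^6*P2^4*P5^2*P6^2*P8*P10^2*P14*P15*P18*P20*P24*P30 / 2`, `D = 1*q^28*P3*P4^2*P7*P12*(1 + -1*q + -1*q^2 + 3*q^3 + -1*q^4 + -2*q^5 + 2*q^6 + 1*q^7 + -2*q^8 + 2*q^10 + -1*q^11 + -1*q^12 + 1*q^13)`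
* `9`: degree `1*q^6*P4^2*P5^2*P7*P8*P10^2*P12*P15*P18*P20*P24*P30 / 2`, `D = 1*q^28*P2*P3*P6*P14*(1 + 1*q + 2*q^2 + 1*q^3 + -1*q^4 + 1*q^5 + 3*q^6 + 1*q^7 + 1*q^8 + -1*q^10 + 1*q^11 + 2*q^12 + 1*q^17 + 1*q^18)`
-/

set_option autoImplicit false
set_option maxRecDepth 20000

namespace Cfsg.Agent.H996.PQ.FullE8b

open Cfsg.Agent.H996.PQ.Big Cfsg.Agent.H967.Sph Cfsg.Agent.H64.Dl.Sph Cfsg.Agent.H996.Eight Cfsg.Agent.H996.Eight.Cert

theorem hcls : TabE8b.data.t.cls TabE8b.data.t.o = 0 := by decide +kernel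

/-- degree `1*q^0 / 1` -/
def c0 : Crt 10 where
  th := (beta% delta% lq2625fc56bb69 fun vqc0 vqc1 _ _ _ _ _ _ _ _ _ =>
      (vqc0 0 (vqc0 1 (vqc0 1 (vqc0 1 (vqc0 2 (vqc0 2 (vqc0 3 (vqc0 4 (vqc0 4 (vqc0 4 (vqc0 5 (vqc0 5 (vqc0 5 (vqc0 5 (vqc0 4 (vqc0 4 (vqc0 4 (vqc0 3 (vqc0 2 (vqc0 2 (vqc0 1 (vqc0 1 (vqc0 1 vqc1))))))))))))))))))))))))
  nu c := (beta% delta% lq2625fc56bb69 fun vqc0 vqc1 _ _ vqc4 _ _ _ _ _ _ =>
      ((vqc0 (vqc0 1 vqc1) (vqc0 (vqc0 1 vqc1) (vqc0 (vqc0 1 vqc1) (vqc0 (vqc0 1 vqc1) (vqc0 (vqc0 1 vqc1) (vqc0 (vqc0 1 vqc1) (vqc0 (vqc0 1 vqc1) (vqc0 (vqc0 1 vqc1) (vqc0 (vqc0 1 vqc1) (vqc0 (vqc0 1 vqc1) vqc1)))))))))) : type_of% (vqc4 _)).getD c vqc1)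
  steps := []
  dn := [1]
  den := 1

/-- degree `1*q^1*P4^2*P8*P12*P20*P24 / 1` -/
def c1 : Crt 10 where
  th := (beta% delta% lq2625fc56bb69 fun vqc0 vqc1 _ _ _ _ _ _ _ _ _ =>
      (vqc0 (-1) (vqc0 0 (vqc0 0 (vqc0 0 (vqc0 1 (vqc0 1 (vqc0 2 (vqc0 3 (vqc0 4 (vqc0 4 (vqc0 5 (vqc0 5 (vqc0 5 (vqc0 5 (vqc0 4 (vqc0 3 (vqc0 3 (vqc0 2 (vqc0 1 (vqc0 1 vqc1)))))))))))))))))))))
  nu c := (beta% delta% lq2625fc56bb69 fun vqc0 vqc1 _ _ vqc4 _ _ _ _ _ _ =>
      ((vqc0 (vqc0 0 (vqc0 0 (vqc0 0 (vqc0 0 (vqc0 0 (vqc0 0 (vqc0 0 (vqc0 0 (vqc0 0 (vqc0 0 (vqc0 0 (vqc0 0 (vqc0 0 (vqc0 0 (vqc0 0 (vqc0 1 (vqc0 1 (vqc0 0 (vqc0 0 (vqc0 0 (vqc0 0 (vqc0 1 (vqc0 1 vqc1))))))))))))))))))))))) (vqc0 (vqc0 0 (vqc0 0 (vqc0 0 (vqc0 0 (vqc0 0 (vqc0 0 (vqc0 0 (vqc0 0 (vqc0 0 (vqc0 0 (vqc0 0 (vqc0 0 (vqc0 0 (vqc0 0 (vqc0 (-1) (vqc0 0 (vqc0 1 (vqc0 1 (vqc0 1 (vqc0 1 vqc1)))))))))))))))))))) (vqc0 (vqc0 0 (vqc0 0 (vqc0 0 (vqc0 0 (vqc0 0 (vqc0 0 (vqc0 0 (vqc0 0 (vqc0 0 (vqc0 0 (vqc0 0 (vqc0 (-1) (vqc0 (-1)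 (vqc0 0 (vqc0 0 (vqc0 1 (vqc0 2 (vqc0 1 vqc1)))))))))))))))))) (vqc0 (vqc0 0 (vqc0 0 (vqc0 0 (vqc0 0 (vqc0 0 (vqc0 0 (vqc0 0 (vqc0 0 (vqc0 0 (vqc0 (-1) (vqc0 (-1) (vqc0 (-1) (vqc0 0 (vqc0 1 (vqc0 1 (vqc0 1 (vqc0 1 vqc1))))))))))))))))) (vqc0 (vqc0 0 (vqc0 0 (vqc0 0 (vqc0 0 (vqc0 0 (vqc0 0 (vqc0 0 (vqc0 0 (vqc0 (-1) (vqc0 (-2) (vqc0 (-1) (vqc0 0 (vqc0 1 (vqc0 2 (vqc0 1 vqc1))))))))))))))) (vqc0 (vqc0 0 (vqc0 0 (vqc0 0 (vqc0 0 (vqc0 0 (vqc0 0 (vqc0 (-1) (vqc0 (-1) (vqc0 0 (vqc0 0 (vqc0 0 (vqc0 0 (vqc0 0 (vqc0 0 (vqc0 0 (vqc0 1 (vqc0 1 vqc1))))))))))))))))) (vqc0 (vqc0 0 (vqc0 0 (vqc0 0 (vqc0 0 (vqc0 0 (vqc0 0 (vqc0 (-1) (vqc0 (-1) (vqc0 (-1) (vqc0 (-1) (vqc0 0 (vqc0 1 (vqc0 1 (vqc0 1 vqc1)))))))))))))) (vqc0 (vqc0 0 (vqc0 0 (vqc0 0 (vqc0 0 (vqc0 0 (vqc0 (-1) (vqc0 (-2) (vqc0 (-1) (vqc0 0 (vqc0 0 (vqc0 1 (vqc0 1 vqc1)))))))))))) (vqc0 (vqc0 0 (vqc0 0 (vqc0 0 (vqc0 (-1) (vqc0 (-1) (vqc0 (-1) (vqc0 (-1) (vqc0 0 (vqc0 1 vqc1))))))))) (vqc0 (vqc0 (-1) (vqc0 (-1) (vqc0 0 (vqc0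 0 (vqc0 0 (vqc0 0 (vqc0 (-1) (vqc0 (-1) vqc1)))))))) vqc1)))))))))) : type_of% (vqc4 _)).getD c vqc1)
  steps := []
  dn := (beta% delta% lq2625fc56bb69 fun vqc0 vqc1 _ _ _ _ _ _ _ _ _ =>
      (vqc0 0 (vqc0 1 (vqc0 0 (vqc0 0 (vqc0 0 (vqc0 0 (vqc0 0 (vqc0 1 (vqc0 0 (vqc0 0 (vqc0 0 (vqc0 1 (vqc0 0 (vqc0 1 (vqc0 0 (vqc0 0 (vqc0 0 (vqc0 1 (vqc0 0 (vqc0 1 (vqc0 0 (vqc0 0 (vqc0 0 (vqc0 1 (vqc0 0 (vqc0 0 (vqc0 0 (vqc0 0 (vqc0 0 (vqc0 1 vqc1)))))))))))))))))))))))))))))))
  den := 1

/-- degree `1*q^2*P5*P7*P10*P14*P15*P20*P30 / 1` -/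
def c2 : Crt 10 where
  th := (beta% delta% lq2625fc56bb69 fun vqc0 vqc1 _ _ _ _ _ _ _ _ _ =>
      (vqc0 (-1) (vqc0 0 (vqc0 0 (vqc0 (-1) (vqc0 0 (vqc0 0 (vqc0 1 (vqc0 2 (vqc0 3 (vqc0 3 (vqc0 4 (vqc0 5 (vqc0 4 (vqc0 4 (vqc0 3 (vqc0 2 (vqc0 2 (vqc0 1 vqc1)))))))))))))))))))
  nu c := ([(let yq402 : List ℤ := (let yq403 : List ℤ := (let yq404 : List ℤ := %[2, 1, 1, 1, 1, 1 | []];
  %[2, 2, 2, 2, 3 | yq404]);
  (let yq405 : type_of% yq403 := %[1, 1, 1, 2, 3 | yq403];
  %[0, 0, 0, 1, 1 | yq405]));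
  (let yq406 : type_of% yq402 := (let yq407 : type_of% yq402 := %[0, 0, 0, 0, 0, 0 | yq402];
  %[0, 0, 0, 0, 0 | yq407]);
  (let yq408 : type_of% yq406 := %[0, 0, 0, 0, 0 | yq406];
  %[0, 0, 0, 0, 0 | yq408]))), (let yq409 : List ℤ := (let yq410 : List ℤ := (let yq411 : List ℤ := %[2, 2, 2, 2, 1 | []];
  %[0, 0, 1, 3, 2 | yq411]);
  (let yq412 : type_of% yq410 := %[0, -1, 0, 0, 0 | yq410];
  %[0, 0, 0, 0 | yq412]));
  (let yq413 : type_of% yq409 := (let yq414 : type_of% yq409 := %[0, 0, 0, 0, 0 | yq409];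
  %[0, 0, 0, 0 | yq414]);
  (let yq415 : type_of% yq413 := %[0, 0, 0, 0, 0 | yq413];
  %[0, 0, 0, 0 | yq415]))), (let yq416 : List ℤ := (let yq417 : List ℤ := (let yq418 : List ℤ := %[1, 3, 3, 2, 1 | []];
  %[0, 0, 0, 0 | yq418]);
  (let yq419 : type_of% yq417 := %[-1, -2, -3, -1 | yq417];
  %[0, 0, 1, 0 | yq419]));
  (let yq420 : type_of% yq416 := (let yq421 : type_of% yq416 := %[0, 0, 0, 0, 0 | yq416];
  %[0, 0, 0, 0 | yq421]);
  (let yq422 : type_of% yq420 := %[0, 0, 0, 0 | yq420];
  %[0, 0, 0, 0 | yq422]))), (beta% delta% lq2625fc56bb69 fun vqc0 vqc1 _ _ _ _ _ _ _ _ _ =>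
      (vqc0 0 (vqc0 0 (vqc0 0 (vqc0 0 (vqc0 0 (vqc0 0 (vqc0 0 (vqc0 0 (vqc0 0 (vqc0 0 (vqc0 0 (vqc0 0 (vqc0 0 (vqc0 0 (vqc0 0 (vqc0 1 (vqc0 1 (vqc0 1 (vqc0 (-1) (vqc0 (-1) (vqc0 (-2) (vqc0 (-2) (vqc0 (-2) (vqc0 (-3) (vqc0 (-1) (vqc0 0 (vqc0 0 (vqc0 1 (vqc0 1 (vqc0 2 (vqc0 2 (vqc0 1 vqc1)))))))))))))))))))))))))))))))) :
      List ℤ), (beta% delta% lq2625fc56bb69 fun vqc0 vqc1 _ _ _ _ _ _ _ _ _ =>
      (vqc0 0 (vqc0 0 (vqc0 0 (vqc0 0 (vqc0 0 (vqc0 0 (vqc0 0 (vqc0 0 (vqc0 0 (vqc0 0 (vqc0 0 (vqc0 0 (vqc0 0 (vqc0 1 (vqc0 2 (vqc0 2 (vqc0 1 (vqc0 (-1) (vqc0 (-3) (vqc0 (-2) (vqc0 (-2) (vqc0 (-2) (vqc0 (-2) (vqc0 (-3) (vqc0 (-1) (vqc0 1 (vqc0 2 (vqc0 2 (vqc0 1 vqc1))))))))))))))))))))))))))))) :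
      List ℤ), (beta% delta% lq2625fc56bb69 fun vqc0 vqc1 _ _ _ _ _ _ _ _ _ =>
      (vqc0 0 (vqc0 0 (vqc0 0 (vqc0 0 (vqc0 0 (vqc0 0 (vqc0 0 (vqc0 0 (vqc0 0 (vqc0 0 (vqc0 1 (vqc0 1 (vqc0 1 (vqc0 0 (vqc0 0 (vqc0 0 (vqc0 0 (vqc0 0 (vqc0 (-2) (vqc0 (-1) (vqc0 (-2) (vqc0 (-2) (vqc0 (-1) (vqc0 (-2) (vqc0 0 (vqc0 0 (vqc0 0 (vqc0 0 (vqc0 0 (vqc0 1 (vqc0 1 (vqc0 1 vqc1)))))))))))))))))))))))))))))))) :
      List ℤ), (beta% delta% lq2625fc56bb69 fun vqc0 vqc1 _ _ _ _ _ _ _ _ _ =>
      (vqc0 0 (vqc0 0 (vqc0 0 (vqc0 0 (vqc0 0 (vqc0 0 (vqc0 0 (vqc0 0 (vqc0 0 (vqc0 0 (vqc0 1 (vqc0 2 (vqc0 2 (vqc0 1 (vqc0 1 (vqc0 0 (vqc0 0 (vqc0 (-1) (vqc0 (-3) (vqc0 (-2) (vqc0 (-2) (vqc0 (-2) (vqc0 (-1) (vqc0 (-1) (vqc0 1 (vqc0 1 (vqc0 1 vqc1))))))))))))))))))))))))))) :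
      List ℤ), (beta% delta% lq2625fc56bb69 fun vqc0 vqc1 _ _ _ _ _ _ _ _ _ =>
      (vqc0 0 (vqc0 0 (vqc0 0 (vqc0 0 (vqc0 0 (vqc0 0 (vqc0 0 (vqc0 0 (vqc0 1 (vqc0 2 (vqc0 3 (vqc0 3 (vqc0 1 (vqc0 0 (vqc0 0 (vqc0 0 (vqc0 0 (vqc0 (-1) (vqc0 (-3) (vqc0 (-2) (vqc0 (-1) (vqc0 0 (vqc0 1 vqc1))))))))))))))))))))))) :
      List ℤ), (beta% delta% lq2625fc56bb69 fun vqc0 vqc1 _ _ _ _ _ _ _ _ _ =>
      (vqc0 0 (vqc0 0 (vqc0 0 (vqc0 0 (vqc0 0 (vqc0 1 (vqc0 2 (vqc0 2 (vqc0 2 (vqc0 2 (vqc0 2 (vqc0 3 (vqc0 1 (vqc0 0 (vqc0 0 (vqc0 0 (vqc0 0 (vqc0 0 (vqc0 (-1) vqc1))))))))))))))))))) :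
      List ℤ), (beta% delta% lq2625fc56bb69 fun vqc0 vqc1 _ _ _ _ _ _ _ _ _ =>
      (vqc0 1 (vqc0 1 (vqc0 1 (vqc0 1 (vqc0 1 (vqc0 2 (vqc0 3 (vqc0 2 (vqc0 2 (vqc0 2 (vqc0 2 (vqc0 3 (vqc0 2 (vqc0 1 (vqc0 1 (vqc0 1 (vqc0 1 (vqc0 1 vqc1)))))))))))))))))) :
      List ℤ)] : List (List ℤ)).getD c []
  steps := []
  dn := (let yq423 : List ℤ := (let yq424 : List ℤ := (let yq425 : List ℤ := %[0, 1, 0, 0, 0, 1 | []];
  %[0, 2, 0, 1, 0, 1 | yq425]);
  (let yq426 : type_of% yq424 := %[0, 3, 0, 1, 0, 2 | yq424];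
  %[0, 3, 0, 2, 0, 2 | yq426]));
  (let yq427 : type_of% yq423 := (let yq428 : type_of% yq423 := %[0, 3, 0, 2, 0, 2 | yq423];
  %[0, 2, 0, 2, 0, 1 | yq428]);
  (let yq429 : type_of% yq427 := %[0, 1, 0, 1, 0, 1 | yq427];
  %[0, 0, 1, 0, 0 | yq429])))
  den := 1

/-- degree `1*q^3*P4^2*P7*P8*P9*P12*P14*P20*P24*P30 / 2` -/
def c3 : Crt 10 where
  th := (beta% delta% lq2625fc56bb69 fun vqc0 vqc1 _ _ _ _ _ _ _ _ _ =>
      (vqc0 (-1) (vqc0 0 (vqc0 0 (vqc0 (-1) (vqc0 0 (vqc0 (-1) (vqc0 0 (vqc0 1 (vqc0 0 (vqc0 0 (vqc0 1 (vqc0 1 (vqc0 1 (vqc0 1 (vqc0 0 (vqc0 1 (vqc0 1 vqc1))))))))))))))))))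
  nu c := ([(let yq430 : List ℤ := (let yq431 : List ℤ := (let yq432 : List ℤ := %[8, 6, 5, 4, 3, 2, 1 | []];
  %[9, 9, 9, 9, 9, 9 | yq432]);
  (let yq433 : type_of% yq431 := %[2, 3, 4, 5, 6, 8 | yq431];
  %[0, 0, 0, 0, 0, 1 | yq433]));
  (let yq434 : type_of% yq430 := (let yq435 : type_of% yq430 := %[0, 0, 0, 0, 0, 0, 0 | yq430];
  %[0, 0, 0, 0, 0, 0 | yq435]);
  (let yq436 : type_of% yq434 := %[0, 0, 0, 0, 0, 0 | yq434];
  %[0, 0, 0, 0, 0, 0 | yq436]))), (let yq437 : List ℤ := (let yq438 : List ℤ := (let yq439 : List ℤ := %[2, 2, 2, 2, 2, 1 | []];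
  %[-1, -1, -1, 1, 2 | yq439]);
  (let yq440 : type_of% yq438 := %[0, 0, -1, -1, -1, -1 | yq438];
  %[0, 0, 0, 0, 0 | yq440]));
  (let yq441 : type_of% yq437 := (let yq442 : type_of% yq437 := %[0, 0, 0, 0, 0, 0 | yq437];
  %[0, 0, 0, 0, 0 | yq442]);
  (let yq443 : type_of% yq441 := %[0, 0, 0, 0, 0, 0 | yq441];
  %[0, 0, 0, 0, 0 | yq443]))), (let yq444 : List ℤ := (let yq445 : List ℤ := (let yq446 : List ℤ := %[-2, 0, 1, 1, 1 | []];
  %[-2, -2, -2, -2, -2 | yq446]);
  (let yq447 : type_of% yq445 := %[1, 1, 1, 0, -2 | yq445];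
  %[0, 0, 0, 0, 0 | yq447]));
  (let yq448 : type_of% yq444 := (let yq449 : type_of% yq444 := %[0, 0, 0, 0, 0 | yq444];
  %[0, 0, 0, 0, 0 | yq449]);
  (let yq450 : type_of% yq448 := %[0, 0, 0, 0, 0 | yq448];
  %[0, 0, 0, 0, 0 | yq450]))), (let yq451 : List ℤ := (let yq452 : List ℤ := (let yq453 : List ℤ := %[-1, -1, 0, 1, 1 | []];
  %[1, -1, -1, -1, -1 | yq453]);
  (let yq454 : type_of% yq452 := %[2, 2, 2, 2, 2 | yq452];
  %[0, -1, 0, 1 | yq454]));
  (let yq455 : type_of% yq451 := (let yq456 : type_of% yq451 := %[0, 0, 0, 0, 0 | yq451];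
  %[0, 0, 0, 0, 0 | yq456]);
  (let yq457 : type_of% yq455 := %[0, 0, 0, 0, 0 | yq455];
  %[0, 0, 0, 0 | yq457]))), (let yq458 : List ℤ := (let yq459 : List ℤ := (let yq460 : List ℤ := %[0, -2, -2, -2, -1 | []];
  %[1, 1, 1, 1 | yq460]);
  (let yq461 : type_of% yq459 := %[-2, 0, 1, 1 | yq459];
  %[0, -1, -2, -2 | yq461]));
  (let yq462 : type_of% yq458 := (let yq463 : type_of% yq458 := %[0, 0, 0, 0 | yq458];
  %[0, 0, 0, 0 | yq463]);
  (let yq464 : type_of% yq462 := %[0, 0, 0, 0 | yq462];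
  %[0, 0, 0, 0 | yq464]))), (let yq465 : List ℤ := (let yq466 : List ℤ := (let yq467 : List ℤ := %[2, 1, 1, 1, 1 | []];
  %[7, 5, 5, 4, 3 | yq467]);
  (let yq468 : type_of% yq466 := %[9, 9, 9, 9, 8 | yq466];
  %[5, 5, 7, 8 | yq468]));
  (let yq469 : type_of% yq465 := (let yq470 : type_of% yq465 := %[1, 1, 2, 3, 4 | yq465];
  %[0, 0, 0, 1, 1 | yq470]);
  (let yq471 : type_of% yq469 := %[0, 0, 0, 0, 0 | yq469];
  %[0, 0, 0, 0 | yq471]))), (beta% delta% lq2625fc56bb69 fun vqc0 vqc1 _ _ _ _ _ _ _ _ _ =>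
      (vqc0 0 (vqc0 0 (vqc0 0 (vqc0 0 (vqc0 0 (vqc0 0 (vqc0 0 (vqc0 0 (vqc0 0 (vqc0 0 (vqc0 0 (vqc0 0 (vqc0 1 (vqc0 1 (vqc0 0 (vqc0 (-1) (vqc0 (-1) (vqc0 (-1) (vqc0 (-1) (vqc0 (-1) (vqc0 (-1) (vqc0 1 (vqc0 2 (vqc0 2 (vqc0 2 (vqc0 2 (vqc0 2 (vqc0 1 (vqc0 0 (vqc0 (-1) vqc1)))))))))))))))))))))))))))))) :
      List ℤ), (beta% delta% lq2625fc56bb69 fun vqc0 vqc1 _ _ _ _ _ _ _ _ _ =>
      (vqc0 0 (vqc0 0 (vqc0 0 (vqc0 0 (vqc0 0 (vqc0 0 (vqc0 0 (vqc0 0 (vqc0 0 (vqc0 0 (vqc0 1 (vqc0 1 (vqc0 1 (vqc0 0 (vqc0 (-2) (vqc0 (-2) (vqc0 (-2) (vqc0 (-2) (vqc0 (-2) (vqc0 (-2) (vqc0 (-2) (vqc0 0 (vqc0 1 (vqc0 1 (vqc0 1 vqc1))))))))))))))))))))))))) :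
      List ℤ), (beta% delta% lq2625fc56bb69 fun vqc0 vqc1 _ _ _ _ _ _ _ _ _ =>
      (vqc0 0 (vqc0 0 (vqc0 0 (vqc0 0 (vqc0 0 (vqc0 0 (vqc0 1 (vqc0 2 (vqc0 2 (vqc0 2 (vqc0 2 (vqc0 2 (vqc0 2 (vqc0 1 (vqc0 (-1) (vqc0 (-1) (vqc0 (-1) (vqc0 (-1) (vqc0 (-1) (vqc0 (-1) (vqc0 (-1) vqc1))))))))))))))))))))) :
      List ℤ), (beta% delta% lq2625fc56bb69 fun vqc0 vqc1 _ _ _ _ _ _ _ _ _ =>
      (vqc0 1 (vqc0 2 (vqc0 3 (vqc0 4 (vqc0 5 (vqc0 6 (vqc0 8 (vqc0 9 (vqc0 9 (vqc0 9 (vqc0 9 (vqc0 9 (vqc0 9 (vqc0 8 (vqc0 6 (vqc0 5 (vqc0 4 (vqc0 3 (vqc0 2 (vqc0 1 vqc1)))))))))))))))))))) :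
      List ℤ)] : List (List ℤ)).getD c []
  steps := []
  dn := (let yq472 : List ℤ := (let yq473 : List ℤ := (let yq474 : List ℤ := (let yq475 : List ℤ := %[1, 1, 1, 1 | []];
  %[2, 2, 0, 1 | yq475]);
  %[4, 4, 4, 1, 3, 1, 2 | yq474]);
  (let yq476 : type_of% yq473 := %[1, 6, 5, 6, 2, 5, 1 | yq473];
  %[7, 0, 7, 5, 7, 4, 7 | yq476]));
  (let yq477 : type_of% yq472 := (let yq478 : type_of% yq472 := (let yq479 : type_of% yq472 := %[7, 4, 7, 5 | yq472];
  %[6, 5, 6, 1 | yq479]);
  %[1, 4, 4, 4, 1, 5, 2 | yq478]);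
  (let yq480 : type_of% yq477 := %[1, 0, 2, 2, 2, 1, 3 | yq477];
  %[0, 0, 0, 1, 1, 1, 1 | yq480])))
  den := 2

/-- degree `1*q^3*P2^4*P6^2*P7*P8*P10^2*P14*P18*P24*P30 / 2` -/
def c4 : Crt 10 where
  th := (beta% delta% lq2625fc56bb69 fun vqc0 vqc1 _ _ _ _ _ _ _ _ _ =>
      (vqc0 (-1) (vqc0 0 (vqc0 0 (vqc0 (-1) (vqc0 0 (vqc0 (-1) (vqc0 0 (vqc0 1 (vqc0 2 (vqc0 2 (vqc0 3 (vqc0 3 (vqc0 3 (vqc0 3 (vqc0 2 (vqc0 1 (vqc0 1 vqc1))))))))))))))))))
  nu c := ([(let yq481 : List ℤ := (let yq482 : List ℤ := (let yq483 : List ℤ := %[9, 7, 5, 3, 2, 2, 1 | []];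
  %[16, 16, 16, 16, 14, 11, 10 | yq483]);
  (let yq484 : type_of% yq482 := %[7, 9, 10, 11, 14, 16, 16 | yq482];
  %[0, 0, 1, 2, 2, 3, 5 | yq484]));
  (let yq485 : type_of% yq481 := (let yq486 : type_of% yq481 := %[0, 0, 0, 0, 0, 0, 0 | yq481];
  %[0, 0, 0, 0, 0, 0, 0 | yq486]);
  (let yq487 : type_of% yq485 := %[0, 0, 0, 0, 0, 0, 0 | yq485];
  %[0, 0, 0, 0, 0, 0, 0 | yq487]))), (let yq488 : List ℤ := (let yq489 : List ℤ := (let yq490 : List ℤ := %[9, 8, 7, 5, 3, 2, 1 | []];
  %[2, 2, 5, 8, 9, 9 | yq490]);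
  (let yq491 : type_of% yq489 := %[0, -1, -2, -2, -1, 1 | yq489];
  %[0, 0, 0, 0, -1, -1 | yq491]));
  (let yq492 : type_of% yq488 := (let yq493 : type_of% yq488 := %[0, 0, 0, 0, 0, 0, 0 | yq488];
  %[0, 0, 0, 0, 0, 0 | yq493]);
  (let yq494 : type_of% yq492 := %[0, 0, 0, 0, 0, 0 | yq492];
  %[0, 0, 0, 0, 0, 0 | yq494]))), (let yq495 : List ℤ := (let yq496 : List ℤ := (let yq497 : List ℤ := %[6, 5, 4, 4, 3, 1 | []];
  %[-6, -6, -4, -1, 1, 4 | yq497]);
  (let yq498 : type_of% yq496 := %[0, -1, -2, -4, -7, -7 | yq496];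
  %[0, 0, 1, 1, 0 | yq498]));
  (let yq499 : type_of% yq495 := (let yq500 : type_of% yq495 := %[0, 0, 0, 0, 0, 0 | yq495];
  %[0, 0, 0, 0, 0, 0 | yq500]);
  (let yq501 : type_of% yq499 := %[0, 0, 0, 0, 0, 0 | yq499];
  %[0, 0, 0, 0, 0 | yq501]))), (let yq502 : List ℤ := (let yq503 : List ℤ := (let yq504 : List ℤ := %[1, 3, 3, 1, 1, 1 | []];
  %[-8, -7, -4, -1, 0 | yq504]);
  (let yq505 : type_of% yq503 := %[2, 0, -3, -6, -7, -8 | yq503];
  %[2, 3, 2, 3, 4 | yq505]));
  (let yq506 : type_of% yq502 := (let yq507 : type_of% yq502 := %[0, 0, 0, 0, -1, 0 | yq502];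
  %[0, 0, 0, 0, 0 | yq507]);
  (let yq508 : type_of% yq506 := %[0, 0, 0, 0, 0, 0 | yq506];
  %[0, 0, 0, 0, 0 | yq508]))), (let yq509 : List ℤ := (let yq510 : List ℤ := (let yq511 : List ℤ := %[-3, -1, 1, 2, 1 | []];
  %[-6, -7, -6, -6, -5 | yq511]);
  (let yq512 : type_of% yq510 := %[6, 7, 6, 2, -2 | yq510];
  %[-1, 1, 3, 5, 6 | yq512]));
  (let yq513 : type_of% yq509 := (let yq514 : type_of% yq509 := %[0, 0, 0, -1, -2 | yq509];
  %[0, 0, 0, 0, 0 | yq514]);
  (let yq515 : type_of% yq513 := %[0, 0, 0, 0, 0 | yq513];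
  %[0, 0, 0, 0 | yq515]))), (let yq516 : List ℤ := (let yq517 : List ℤ := (let yq518 : List ℤ := %[0, 1, 1, 0, 1, 1 | []];
  %[-4, -4, -3, -2, -1 | yq518]);
  (let yq519 : type_of% yq517 := %[0, 0, -2, -4, -5, -5 | yq517];
  %[4, 5, 5, 4, 2 | yq519]));
  (let yq520 : type_of% yq516 := (let yq521 : type_of% yq516 := %[-1, 0, 1, 2, 3, 4 | yq516];
  %[0, -1, -1, 0, -1 | yq521]);
  (let yq522 : type_of% yq520 := %[0, 0, 0, 0, 0, 0 | yq520];
  %[0, 0, 0, 0, 0 | yq522]))), (let yq523 : List ℤ := (let yq524 : List ℤ := (let yq525 : List ℤ := %[-2, -3, -2, 0, 1 | []];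
  %[0, -2, -4, -3 | yq525]);
  (let yq526 : type_of% yq524 := %[8, 8, 7, 6, 3 | yq524];
  %[0, 1, 4, 7 | yq526]));
  (let yq527 : type_of% yq523 := (let yq528 : type_of% yq523 := %[-1, -1, -3, -3, -1 | yq523];
  %[0, 0, 0, -1 | yq528]);
  (let yq529 : type_of% yq527 := %[0, 0, 0, 0, 0 | yq527];
  %[0, 0, 0, 0 | yq529]))), (beta% delta% lq2625fc56bb69 fun vqc0 vqc1 _ _ _ _ _ _ _ _ _ =>
      (vqc0 0 (vqc0 0 (vqc0 0 (vqc0 0 (vqc0 0 (vqc0 0 (vqc0 0 (vqc0 0 (vqc0 0 (vqc0 0 (vqc0 (-1) (vqc0 (-3) (vqc0 (-4) (vqc0 (-4) (vqc0 (-5) (vqc0 (-6) (vqc0 (-4) (vqc0 (-1) (vqc0 1 (vqc0 4 (vqc0 6 (vqc0 6 (vqc0 7 (vqc0 7 (vqc0 4 (vqc0 2 (vqc0 1 (vqc0 0 (vqc0 0 (vqc0 (-1) (vqc0 (-1) vqc1))))))))))))))))))))))))))))))) :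
      List ℤ), (beta% delta% lq2625fc56bb69 fun vqc0 vqc1 _ _ _ _ _ _ _ _ _ =>
      (vqc0 0 (vqc0 0 (vqc0 0 (vqc0 0 (vqc0 0 (vqc0 0 (vqc0 (-1) (vqc0 (-2) (vqc0 (-3) (vqc0 (-5) (vqc0 (-7) (vqc0 (-8) (vqc0 (-9) (vqc0 (-9) (vqc0 (-9) (vqc0 (-8) (vqc0 (-5) (vqc0 (-2) (vqc0 (-2) (vqc0 (-1) (vqc0 1 (vqc0 2 (vqc0 2 (vqc0 1 (vqc0 0 (vqc0 1 (vqc0 1 vqc1))))))))))))))))))))))))))) :
      List ℤ), (beta% delta% lq2625fc56bb69 fun vqc0 vqc1 _ _ _ _ _ _ _ _ _ =>
      (vqc0 (-1) (vqc0 (-2) (vqc0 (-2) (vqc0 (-3) (vqc0 (-5) (vqc0 (-7) (vqc0 (-9) (vqc0 (-10) (vqc0 (-11) (vqc0 (-14) (vqc0 (-16) (vqc0 (-16) (vqc0 (-16) (vqc0 (-16) (vqc0 (-16) (vqc0 (-16) (vqc0 (-14) (vqc0 (-11) (vqc0 (-10) (vqc0 (-9) (vqc0 (-7) (vqc0 (-5) (vqc0 (-3) (vqc0 (-2) (vqc0 (-2) (vqc0 (-1) vqc1)))))))))))))))))))))))))) :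
      List ℤ)] : List (List ℤ)).getD c []
  steps := []
  dn := (let yq530 : List ℤ := (let yq531 : List ℤ := (let yq532 : List ℤ := (let yq533 : List ℤ := %[1, 1, 1, 1 | []];
  %[2, 2, 2, 1 | yq533]);
  %[4, 4, 4, 3, 3, 3, 2 | yq532]);
  (let yq534 : type_of% yq531 := %[7, 6, 5, 6, 6, 5, 5 | yq531];
  %[7, 8, 7, 7, 7, 6, 7 | yq534]));
  (let yq535 : type_of% yq530 := (let yq536 : type_of% yq530 := (let yq537 : type_of% yq530 := %[7, 6, 7, 7 | yq530];
  %[6, 5, 6, 7 | yq537]);
  %[3, 4, 4, 4, 5, 5, 6 | yq536]);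
  (let yq538 : type_of% yq535 := %[1, 2, 2, 2, 2, 3, 3 | yq535];
  %[0, 0, 0, 1, 1, 1, 1 | yq538])))
  den := 2

/-- degree `1*q^4*P5^2*P8^2*P10*P14*P15*P18*P20*P24*P30 / 2` -/
def c5 : Crt 10 where
  th := (beta% delta% lq2625fc56bb69 fun vqc0 vqc1 _ _ _ _ _ _ _ _ _ =>
      (vqc0 (-1) (vqc0 0 (vqc0 0 (vqc0 (-1) (vqc0 0 (vqc0 (-1) (vqc0 (-1) (vqc0 0 (vqc0 (-1) (vqc0 (-1) (vqc0 0 (vqc0 (-1) (vqc0 0 (vqc0 0 (vqc0 (-1) vqc1))))))))))))))))
  nu c := ([(let yq539 : List ℤ := (let yq540 : List ℤ := (let yq541 : List ℤ := %[5, 5, 4, 3, 2, 1 | []];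
  %[1, 2, 3, 4, 5, 5 | yq541]);
  (let yq542 : type_of% yq540 := %[0, 0, 0, 0, 0, 0 | yq540];
  %[0, 0, 0, 0, 0, 0 | yq542]));
  (let yq543 : type_of% yq539 := (let yq544 : type_of% yq539 := %[0, 0, 0, 0, 0, 0 | yq539];
  %[0, 0, 0, 0, 0, 0 | yq544]);
  (let yq545 : type_of% yq543 := %[0, 0, 0, 0, 0, 0 | yq543];
  %[0, 0, 0, 0, 0, 0 | yq545]))), (let yq546 : List ℤ := (let yq547 : List ℤ := (let yq548 : List ℤ := %[-1, -1, -1, -1, -1 | []];
  %[0, 0, 0, 0, 0 | yq548]);
  (let yq549 : type_of% yq547 := %[0, 0, 0, 0, 0 | yq547];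
  %[0, 0, 0, 0, 0 | yq549]));
  (let yq550 : type_of% yq546 := (let yq551 : type_of% yq546 := %[0, 0, 0, 0, 0 | yq546];
  %[0, 0, 0, 0, 0 | yq551]);
  (let yq552 : type_of% yq550 := %[0, 0, 0, 0, 0 | yq550];
  %[0, 0, 0, 0, 0 | yq552]))), (let yq553 : List ℤ := (let yq554 : List ℤ := (let yq555 : List ℤ := %[0, 1, 1, 1, 1 | []];
  %[0, 0, 0, 0 | yq555]);
  (let yq556 : type_of% yq554 := %[0, 0, 0, 0, 0 | yq554];
  %[0, 0, 0, 0 | yq556]));
  (let yq557 : type_of% yq553 := (let yq558 : type_of% yq553 := %[0, 0, 0, 0, 0 | yq553];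
  %[0, 0, 0, 0 | yq558]);
  (let yq559 : type_of% yq557 := %[0, 0, 0, 0 | yq557];
  %[0, 0, 0, 0 | yq559]))), (beta% delta% lq2625fc56bb69 fun vqc0 vqc1 _ _ _ _ _ _ _ _ _ =>
      (vqc0 0 (vqc0 0 (vqc0 0 (vqc0 0 (vqc0 0 (vqc0 0 (vqc0 0 (vqc0 0 (vqc0 0 (vqc0 0 (vqc0 0 (vqc0 0 (vqc0 0 (vqc0 0 (vqc0 0 (vqc0 0 (vqc0 0 (vqc0 0 (vqc0 0 (vqc0 0 (vqc0 0 (vqc0 0 (vqc0 0 (vqc0 0 (vqc0 0 (vqc0 0 (vqc0 (-1) (vqc0 (-1) (vqc0 (-1) (vqc0 (-1) (vqc0 (-1) vqc1))))))))))))))))))))))))))))))) :
      List ℤ), (beta% delta% lq2625fc56bb69 fun vqc0 vqc1 _ _ _ _ _ _ _ _ _ =>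
      (vqc0 0 (vqc0 0 (vqc0 0 (vqc0 0 (vqc0 0 (vqc0 0 (vqc0 0 (vqc0 0 (vqc0 0 (vqc0 0 (vqc0 0 (vqc0 0 (vqc0 0 (vqc0 0 (vqc0 0 (vqc0 0 (vqc0 0 (vqc0 0 (vqc0 0 (vqc0 0 (vqc0 0 (vqc0 0 (vqc0 1 (vqc0 1 (vqc0 1 (vqc0 1 vqc1)))))))))))))))))))))))))) :
      List ℤ), (beta% delta% lq2625fc56bb69 fun vqc0 vqc1 _ _ _ _ _ _ _ _ _ =>
      (vqc0 0 (vqc0 0 (vqc0 0 (vqc0 0 (vqc0 0 (vqc0 0 (vqc0 0 (vqc0 0 (vqc0 0 (vqc0 0 (vqc0 0 (vqc0 0 (vqc0 0 (vqc0 0 (vqc0 0 (vqc0 0 (vqc0 0 (vqc0 0 (vqc0 1 (vqc0 2 (vqc0 3 (vqc0 4 (vqc0 5 (vqc0 5 (vqc0 5 (vqc0 5 (vqc0 4 (vqc0 3 (vqc0 2 (vqc0 1 vqc1)))))))))))))))))))))))))))))) :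
      List ℤ), (beta% delta% lq2625fc56bb69 fun vqc0 vqc1 _ _ _ _ _ _ _ _ _ =>
      (vqc0 0 (vqc0 0 (vqc0 0 (vqc0 0 (vqc0 0 (vqc0 0 (vqc0 0 (vqc0 0 (vqc0 0 (vqc0 0 (vqc0 0 (vqc0 0 (vqc0 0 (vqc0 0 (vqc0 0 (vqc0 0 (vqc0 0 (vqc0 (-1) (vqc0 (-1) (vqc0 (-1) (vqc0 (-1) (vqc0 (-1) vqc1)))))))))))))))))))))) :
      List ℤ), (beta% delta% lq2625fc56bb69 fun vqc0 vqc1 _ _ _ _ _ _ _ _ _ =>
      (vqc0 0 (vqc0 0 (vqc0 0 (vqc0 0 (vqc0 0 (vqc0 0 (vqc0 0 (vqc0 0 (vqc0 0 (vqc0 0 (vqc0 0 (vqc0 0 (vqc0 0 (vqc0 1 (vqc0 1 (vqc0 1 (vqc0 1 vqc1))))))))))))))))) :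
      List ℤ), (beta% delta% lq2625fc56bb69 fun vqc0 vqc1 _ _ _ _ _ _ _ _ _ =>
      (vqc0 0 (vqc0 0 (vqc0 0 (vqc0 0 (vqc0 0 (vqc0 0 (vqc0 0 (vqc0 0 (vqc0 (-1) (vqc0 (-1) (vqc0 (-1) (vqc0 (-1) (vqc0 (-1) vqc1))))))))))))) :
      List ℤ), [1, 2, 3, 4, 5, 5, 5, 5, 4, 3, 2, 1]] : List (List ℤ)).getD c []
  steps := []
  dn := (let yq560 : List ℤ := (let yq561 : List ℤ := (let yq562 : List ℤ := (let yq563 : List ℤ := %[2, -1, 0, 0, 1 | []];
  %[3, -1, 2, -1 | yq563]);
  (let yq564 : type_of% yq562 := %[-3, 6, -2, 4, -3 | yq562];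
  %[-4, 9, -6, 5 | yq564]));
  (let yq565 : type_of% yq561 := (let yq566 : type_of% yq561 := %[12, -9, 11, -6, 9 | yq561];
  %[13, -9, 14, -6 | yq566]);
  (let yq567 : type_of% yq565 := %[15, -7, 16, -11 | yq565];
  %[15, -11, 16, -11 | yq567])));
  (let yq568 : type_of% yq560 := (let yq569 : type_of% yq560 := (let yq570 : type_of% yq560 := %[-9, 13, -11, 16, -7 | yq560];
  %[-9, 12, -6, 14 | yq570]);
  (let yq571 : type_of% yq569 := %[-4, 9, -6, 11 | yq569];
  %[-3, 5, -6, 9 | yq571]));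
  (let yq572 : type_of% yq568 := (let yq573 : type_of% yq568 := %[3, -3, 4, -2, 6 | yq568];
  %[2, -1, 2, -1 | yq573]);
  (let yq574 : type_of% yq572 := %[1, 0, 0, -1 | yq572];
  %[0, 0, 0, 0 | yq574]))))
  den := 2

/-- degree `1*q^4*P5*P7*P8^2*P9*P10^2*P15*P20*P24*P30 / 2` -/
def c6 : Crt 10 where
  th := (beta% delta% lq2625fc56bb69 fun vqc0 vqc1 _ _ _ _ _ _ _ _ _ =>
      (vqc0 (-1) (vqc0 0 (vqc0 0 (vqc0 (-1) (vqc0 0 (vqc0 (-1) (vqc0 (-1) (vqc0 0 (vqc0 1 (vqc0 1 (vqc0 2 (vqc0 3 (vqc0 2 (vqc0 2 (vqc0 1 vqc1))))))))))))))))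
  nu c := ([(let yq575 : List ℤ := (let yq576 : List ℤ := (let yq577 : List ℤ := (let yq578 : List ℤ := %[1, 1, 1, 1 | []];
  %[3, 4, 3, 2 | yq578]);
  %[3, 3, 4, 5, 5, 4, 3 | yq577]);
  (let yq579 : type_of% yq576 := %[1, 1, 1, 1, 2, 3, 4 | yq576];
  %[0, 0, 0, 0, 0, 0, 0 | yq579]));
  (let yq580 : type_of% yq575 := (let yq581 : type_of% yq575 := (let yq582 : type_of% yq575 := %[0, 0, 0, 0 | yq575];
  %[0, 0, 0, 0 | yq582]);
  %[0, 0, 0, 0, 0, 0, 0 | yq581]);
  (let yq583 : type_of% yq580 := %[0, 0, 0, 0, 0, 0, 0 | yq580];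
  %[0, 0, 0, 0, 0, 0, 0 | yq583]))), (let yq584 : List ℤ := (let yq585 : List ℤ := (let yq586 : List ℤ := %[1, 1, 1, 2, 2, 2, 1 | []];
  %[0, 0, -1, -1, -1, 1 | yq586]);
  (let yq587 : type_of% yq585 := %[0, 0, 0, 0, -1, 0 | yq585];
  %[0, 0, 0, 0, 0, 0 | yq587]));
  (let yq588 : type_of% yq584 := (let yq589 : type_of% yq584 := %[0, 0, 0, 0, 0, 0, 0 | yq584];
  %[0, 0, 0, 0, 0, 0 | yq589]);
  (let yq590 : type_of% yq588 := %[0, 0, 0, 0, 0, 0 | yq588];
  %[0, 0, 0, 0, 0, 0 | yq590]))), (let yq591 : List ℤ := (let yq592 : List ℤ := (let yq593 : List ℤ := %[-4, -2, 0, 2, 2, 1 | []];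
  %[0, 0, 0, 0, -1, -3 | yq593]);
  (let yq594 : type_of% yq592 := %[0, 0, 0, 0, 1, 0 | yq592];
  %[0, 0, 0, 0, 0 | yq594]));
  (let yq595 : type_of% yq591 := (let yq596 : type_of% yq591 := %[0, 0, 0, 0, 0, 0 | yq591];
  %[0, 0, 0, 0, 0 | yq596]);
  (let yq597 : type_of% yq595 := %[0, 0, 0, 0, 0, 0 | yq595];
  %[0, 0, 0, 0, 0 | yq597]))), (let yq598 : List ℤ := (let yq599 : List ℤ := (let yq600 : List ℤ := %[-3, -3, -2, 0, 0, 1 | []];
  %[1, 3, 1, 1, -1 | yq600]);
  (let yq601 : type_of% yq599 := %[0, -1, 0, 0, 2 | yq599];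
  %[0, 0, 0, 0, 0 | yq601]));
  (let yq602 : type_of% yq598 := (let yq603 : type_of% yq598 := %[0, 0, 0, 0, 0 | yq598];
  %[0, 0, 0, 0, 0 | yq603]);
  (let yq604 : type_of% yq602 := %[0, 0, 0, 0, 0 | yq602];
  %[0, 0, 0, 0, 0 | yq604]))), (let yq605 : List ℤ := (let yq606 : List ℤ := (let yq607 : List ℤ := %[-2, -4, -2, 0, 1 | []];
  %[2, 7, 7, 2 | yq607]);
  (let yq608 : type_of% yq606 := %[1, 0, -2, -4, -2 | yq606];
  %[0, 0, 0, 0 | yq608]));
  (let yq609 : type_of% yq605 := (let yq610 : type_of% yq605 := %[0, 0, 0, 0, 0 | yq605];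
  %[0, 0, 0, 0 | yq610]);
  (let yq611 : type_of% yq609 := %[0, 0, 0, 0, 0 | yq609];
  %[0, 0, 0, 0 | yq611]))), (let yq612 : List ℤ := (let yq613 : List ℤ := (let yq614 : List ℤ := %[0, -1, -1, -1, -1 | []];
  %[0, 1, -1, 0, -1 | yq614]);
  (let yq615 : type_of% yq613 := %[-1, 1, 0, 1, 1 | yq613];
  %[-1, -1, 0, -1, 0 | yq615]));
  (let yq616 : type_of% yq612 := (let yq617 : type_of% yq612 := %[0, 0, 0, -1, -1 | yq612];
  %[0, 0, 0, 0, 0 | yq617]);
  (let yq618 : type_of% yq616 := %[0, 0, 0, 0, 0 | yq616];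
  %[0, 0, 0, 0, 0 | yq618]))), (beta% delta% lq2625fc56bb69 fun vqc0 vqc1 _ _ _ _ _ _ _ _ _ =>
      (vqc0 0 (vqc0 0 (vqc0 0 (vqc0 0 (vqc0 0 (vqc0 0 (vqc0 0 (vqc0 0 (vqc0 0 (vqc0 0 (vqc0 0 (vqc0 0 (vqc0 0 (vqc0 0 (vqc0 0 (vqc0 0 (vqc0 0 (vqc0 1 (vqc0 0 (vqc0 0 (vqc0 (-2) (vqc0 (-3) (vqc0 (-3) (vqc0 (-1) (vqc0 1 (vqc0 1 (vqc0 3 (vqc0 1 (vqc0 2 (vqc0 0 (vqc0 0 (vqc0 (-1) vqc1)))))))))))))))))))))))))))))))) :
      List ℤ), (beta% delta% lq2625fc56bb69 fun vqc0 vqc1 _ _ _ _ _ _ _ _ _ =>
      (vqc0 0 (vqc0 0 (vqc0 0 (vqc0 0 (vqc0 0 (vqc0 0 (vqc0 0 (vqc0 0 (vqc0 0 (vqc0 0 (vqc0 0 (vqc0 0 (vqc0 0 (vqc0 1 (vqc0 2 (vqc0 2 (vqc0 0 (vqc0 (-2) (vqc0 (-4) (vqc0 (-3) (vqc0 (-1) (vqc0 0 (vqc0 0 (vqc0 0 (vqc0 0 (vqc0 0 (vqc0 1 vqc1))))))))))))))))))))))))))) :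
      List ℤ), (beta% delta% lq2625fc56bb69 fun vqc0 vqc1 _ _ _ _ _ _ _ _ _ =>
      (vqc0 0 (vqc0 0 (vqc0 0 (vqc0 0 (vqc0 0 (vqc0 0 (vqc0 0 (vqc0 0 (vqc0 1 (vqc0 2 (vqc0 2 (vqc0 2 (vqc0 1 (vqc0 1 (vqc0 1 (vqc0 1 (vqc0 (-1) (vqc0 (-1) (vqc0 (-1) (vqc0 0 (vqc0 0 (vqc0 0 (vqc0 (-1) vqc1))))))))))))))))))))))) :
      List ℤ), (beta% delta% lq2625fc56bb69 fun vqc0 vqc1 _ _ _ _ _ _ _ _ _ =>
      (vqc0 1 (vqc0 1 (vqc0 1 (vqc0 1 (vqc0 2 (vqc0 3 (vqc0 4 (vqc0 3 (vqc0 3 (vqc0 4 (vqc0 5 (vqc0 5 (vqc0 4 (vqc0 3 (vqc0 3 (vqc0 4 (vqc0 3 (vqc0 2 (vqc0 1 (vqc0 1 (vqc0 1 (vqc0 1 vqc1)))))))))))))))))))))) :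
      List ℤ)] : List (List ℤ)).getD c []
  steps := []
  dn := (let yq619 : List ℤ := (let yq620 : List ℤ := (let yq621 : List ℤ := (let yq622 : List ℤ := %[2, 1, 0, 0, 1 | []];
  %[3, 1, 2, 1 | yq622]);
  (let yq623 : type_of% yq621 := %[3, 6, 2, 4, 3 | yq621];
  %[4, 9, 6, 5 | yq623]));
  (let yq624 : type_of% yq620 := (let yq625 : type_of% yq620 := %[12, 9, 11, 6, 9 | yq620];
  %[13, 9, 14, 6 | yq625]);
  (let yq626 : type_of% yq624 := %[15, 7, 16, 11 | yq624];
  %[15, 11, 16, 11 | yq626])));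
  (let yq627 : type_of% yq619 := (let yq628 : type_of% yq619 := (let yq629 : type_of% yq619 := %[9, 13, 11, 16, 7 | yq619];
  %[9, 12, 6, 14 | yq629]);
  (let yq630 : type_of% yq628 := %[4, 9, 6, 11 | yq628];
  %[3, 5, 6, 9 | yq630]));
  (let yq631 : type_of% yq627 := (let yq632 : type_of% yq627 := %[3, 3, 4, 2, 6 | yq627];
  %[2, 1, 2, 1 | yq632]);
  (let yq633 : type_of% yq631 := %[1, 0, 0, 1 | yq631];
  %[0, 0, 0, 0 | yq633]))))
  den := 2

/-- degree `1*q^5*P4^2*P5*P7*P8^2*P10*P12*P14*P15*P20*P24*P30 / 1` -/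
def c7 : Crt 10 where
  th := (beta% delta% lq2625fc56bb69 fun vqc0 vqc1 _ _ _ _ _ _ _ _ _ =>
      (vqc0 (-1) (vqc0 0 (vqc0 0 (vqc0 (-1) (vqc0 0 (vqc0 (-1) (vqc0 (-1) (vqc0 0 (vqc0 0 (vqc0 0 (vqc0 1 (vqc0 1 (vqc0 1 (vqc0 1 vqc1)))))))))))))))
  nu c := ([(let yq634 : List ℤ := (let yq635 : List ℤ := (let yq636 : List ℤ := (let yq637 : List ℤ := %[1, 1, 1, 1 | []];
  %[3, 4, 3, 2 | yq637]);
  (let yq638 : type_of% yq636 := %[5, 5, 4, 3 | yq636];
  %[4, 3, 3, 4 | yq638]));
  (let yq639 : type_of% yq635 := (let yq640 : type_of% yq635 := %[1, 1, 2, 3 | yq635];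
  %[0, 0, 1, 1 | yq640]);
  %[0, 0, 0, 0, 0, 0, 0 | yq639]));
  (let yq641 : type_of% yq634 := (let yq642 : type_of% yq634 := (let yq643 : type_of% yq634 := %[0, 0, 0, 0 | yq634];
  %[0, 0, 0, 0 | yq643]);
  %[0, 0, 0, 0, 0, 0, 0 | yq642]);
  (let yq644 : type_of% yq641 := (let yq645 : type_of% yq641 := %[0, 0, 0, 0 | yq641];
  %[0, 0, 0, 0 | yq645]);
  %[0, 0, 0, 0, 0, 0, 0 | yq644]))), (let yq646 : List ℤ := (let yq647 : List ℤ := (let yq648 : List ℤ := %[1, 0, 0, 0, 1, 1, 1 | []];
  %[0, 0, 0, -1, -1, -1 | yq648]);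
  (let yq649 : type_of% yq647 := %[0, 0, 0, 0, 0, 0, -1 | yq647];
  %[0, 0, 0, 0, 0, 0 | yq649]));
  (let yq650 : type_of% yq646 := (let yq651 : type_of% yq646 := %[0, 0, 0, 0, 0, 0, 0 | yq646];
  %[0, 0, 0, 0, 0, 0 | yq651]);
  (let yq652 : type_of% yq650 := %[0, 0, 0, 0, 0, 0, 0 | yq650];
  %[0, 0, 0, 0, 0, 0 | yq652]))), (let yq653 : List ℤ := (let yq654 : List ℤ := (let yq655 : List ℤ := %[0, -2, -2, -1, 0, 1 | []];
  %[1, 0, 0, 0, 0, 1 | yq655]);
  (let yq656 : type_of% yq654 := %[0, 0, 0, 0, 0, 0 | yq654];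
  %[0, 0, 0, 0, 0 | yq656]));
  (let yq657 : type_of% yq653 := (let yq658 : type_of% yq653 := %[0, 0, 0, 0, 0, 0 | yq653];
  %[0, 0, 0, 0, 0, 0 | yq658]);
  (let yq659 : type_of% yq657 := %[0, 0, 0, 0, 0, 0 | yq657];
  %[0, 0, 0, 0, 0 | yq659]))), (let yq660 : List ℤ := (let yq661 : List ℤ := (let yq662 : List ℤ := %[1, 2, 0, -1, -1 | []];
  %[0, 0, 1, 0, 1 | yq662]);
  (let yq663 : type_of% yq661 := %[0, 0, 0, 0, -1 | yq661];
  %[0, 0, 0, 0, 0 | yq663]));
  (let yq664 : type_of% yq660 := (let yq665 : type_of% yq660 := %[0, 0, 0, 0, 0 | yq660];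
  %[0, 0, 0, 0, 0 | yq665]);
  (let yq666 : type_of% yq664 := %[0, 0, 0, 0, 0 | yq664];
  %[0, 0, 0, 0, 0 | yq666]))), (let yq667 : List ℤ := (let yq668 : List ℤ := (let yq669 : List ℤ := %[2, 2, 1, 0, -1 | []];
  %[-1, -2, -2, 0 | yq669]);
  (let yq670 : type_of% yq668 := %[0, 0, 0, 1, 0 | yq668];
  %[0, 0, 0, 0 | yq670]));
  (let yq671 : type_of% yq667 := (let yq672 : type_of% yq667 := %[0, 0, 0, 0, 0 | yq667];
  %[0, 0, 0, 0 | yq672]);
  (let yq673 : type_of% yq671 := %[0, 0, 0, 0, 0 | yq671];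
  %[0, 0, 0, 0 | yq673]))), (let yq674 : List ℤ := (let yq675 : List ℤ := (let yq676 : List ℤ := %[1, 0, 1, 1, 1 | []];
  %[0, 0, 0, 1, 1 | yq676]);
  (let yq677 : type_of% yq675 := %[-1, 0, -1, -1, -1 | yq675];
  %[0, 0, 0, -1, -1 | yq677]));
  (let yq678 : type_of% yq674 := (let yq679 : type_of% yq674 := %[0, 0, 0, 0, 0 | yq674];
  %[0, 0, 0, 0, 0 | yq679]);
  (let yq680 : type_of% yq678 := %[0, 0, 0, 0, 0 | yq678];
  %[0, 0, 0, 0 | yq680]))), (beta% delta% lq2625fc56bb69 fun vqc0 vqc1 _ _ _ _ _ _ _ _ _ =>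
      (vqc0 0 (vqc0 0 (vqc0 0 (vqc0 0 (vqc0 0 (vqc0 0 (vqc0 0 (vqc0 0 (vqc0 0 (vqc0 0 (vqc0 0 (vqc0 0 (vqc0 0 (vqc0 0 (vqc0 0 (vqc0 0 (vqc0 0 (vqc0 0 (vqc0 0 (vqc0 0 (vqc0 0 (vqc0 1 (vqc0 1 (vqc0 0 (vqc0 (-2) (vqc0 (-1) (vqc0 (-1) (vqc0 0 (vqc0 (-1) (vqc0 0 (vqc0 0 (vqc0 1 vqc1)))))))))))))))))))))))))))))))) :
      List ℤ), (beta% delta% lq2625fc56bb69 fun vqc0 vqc1 _ _ _ _ _ _ _ _ _ =>
      (vqc0 0 (vqc0 0 (vqc0 0 (vqc0 0 (vqc0 0 (vqc0 0 (vqc0 0 (vqc0 0 (vqc0 0 (vqc0 0 (vqc0 0 (vqc0 0 (vqc0 0 (vqc0 0 (vqc0 0 (vqc0 (-1) (vqc0 0 (vqc0 1 (vqc0 2 (vqc0 2 (vqc0 0 (vqc0 (-1) (vqc0 0 (vqc0 0 (vqc0 0 (vqc0 0 (vqc0 (-1) vqc1))))))))))))))))))))))))))) :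
      List ℤ), (beta% delta% lq2625fc56bb69 fun vqc0 vqc1 _ _ _ _ _ _ _ _ _ =>
      (vqc0 0 (vqc0 0 (vqc0 0 (vqc0 0 (vqc0 0 (vqc0 0 (vqc0 0 (vqc0 0 (vqc0 0 (vqc0 (-1) (vqc0 (-1) (vqc0 (-1) (vqc0 0 (vqc0 0 (vqc0 0 (vqc0 (-1) (vqc0 1 (vqc0 1 (vqc0 1 (vqc0 0 (vqc0 0 (vqc0 0 (vqc0 1 vqc1))))))))))))))))))))))) :
      List ℤ), (beta% delta% lq2625fc56bb69 fun vqc0 vqc1 _ _ _ _ _ _ _ _ _ =>
      (vqc0 (-1) (vqc0 (-1) (vqc0 (-1) (vqc0 (-1) (vqc0 (-2) (vqc0 (-3) (vqc0 (-4) (vqc0 (-3) (vqc0 (-3) (vqc0 (-4) (vqc0 (-5) (vqc0 (-5) (vqc0 (-4) (vqc0 (-3) (vqc0 (-3) (vqc0 (-4) (vqc0 (-3) (vqc0 (-2) (vqc0 (-1) (vqc0 (-1) (vqc0 (-1) (vqc0 (-1) vqc1)))))))))))))))))))))) :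
      List ℤ)] : List (List ℤ)).getD c []
  steps := []
  dn := (let yq681 : List ℤ := (let yq682 : List ℤ := (let yq683 : List ℤ := (let yq684 : List ℤ := %[2, 0, 1, 0, 1 | []];
  %[0, 4, 0, 4, 0 | yq684]);
  (let yq685 : type_of% yq683 := %[10, 0, 10, 0, 7 | yq683];
  %[18, 0, 15, 0 | yq685]));
  (let yq686 : type_of% yq682 := (let yq687 : type_of% yq682 := %[0, 25, 0, 18, 0 | yq682];
  %[0, 26, 0, 26 | yq687]);
  (let yq688 : type_of% yq686 := %[31, 0, 31, 0, 33 | yq686];
  %[31, 0, 36, 0 | yq688])));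
  (let yq689 : type_of% yq681 := (let yq690 : type_of% yq681 := (let yq691 : type_of% yq681 := %[0, 33, 0, 31, 0 | yq681];
  %[25, 0, 26, 0, 26 | yq691]);
  (let yq692 : type_of% yq690 := %[0, 18, 0, 18, 0 | yq690];
  %[0, 10, 0, 15 | yq692]));
  (let yq693 : type_of% yq689 := (let yq694 : type_of% yq689 := %[4, 0, 7, 0, 10 | yq689];
  %[2, 0, 4, 0 | yq694]);
  (let yq695 : type_of% yq693 := %[0, 1, 0, 1, 0 | yq693];
  %[0, 0, 0, 0 | yq695]))))
  den := 1

/-- degree `1*q^6*P2^4*P5^2*P6^2*P8*P10^2*P14*P15*P18*P20*P24*P30 / 2` -/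
def c8 : Crt 10 where
  th := [-1, 0, 0, -1, 0, -1, -1, 0, 0, -1, 0, -1]
  nu c := ([(let yq696 : List ℤ := (let yq697 : List ℤ := (let yq698 : List ℤ := (let yq699 : List ℤ := %[5, 3, 2, 1 | []];
  %[13, 11, 9, 7 | yq699]);
  (let yq700 : type_of% yq698 := %[14, 15, 15, 14 | yq698];
  %[7, 9, 11, 13 | yq700]));
  (let yq701 : type_of% yq697 := (let yq702 : type_of% yq697 := %[1, 2, 3, 5 | yq697];
  %[0, 0, 0, 0 | yq702]);
  %[0, 0, 0, 0, 0, 0, 0 | yq701]));
  (let yq703 : type_of% yq696 := (let yq704 : type_of% yq696 := (let yq705 : type_of% yq696 := %[0, 0, 0, 0 | yq696];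
  %[0, 0, 0, 0 | yq705]);
  (let yq706 : type_of% yq704 := %[0, 0, 0, 0 | yq704];
  %[0, 0, 0, 0 | yq706]));
  (let yq707 : type_of% yq703 := (let yq708 : type_of% yq703 := %[0, 0, 0, 0 | yq703];
  %[0, 0, 0, 0 | yq708]);
  %[0, 0, 0, 0, 0, 0, 0 | yq707]))), (let yq709 : List ℤ := (let yq710 : List ℤ := (let yq711 : List ℤ := %[-2, -2, -2, -2, -2, -1, -1 | []];
  %[0, 0, 0, -1, -1, -1 | yq711]);
  (let yq712 : type_of% yq710 := %[0, 0, 0, 0, 0, 0, 0 | yq710];
  %[0, 0, 0, 0, 0, 0 | yq712]));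
  (let yq713 : type_of% yq709 := (let yq714 : type_of% yq709 := %[0, 0, 0, 0, 0, 0, 0 | yq709];
  %[0, 0, 0, 0, 0, 0 | yq714]);
  (let yq715 : type_of% yq713 := %[0, 0, 0, 0, 0, 0 | yq713];
  %[0, 0, 0, 0, 0, 0 | yq715]))), (let yq716 : List ℤ := (let yq717 : List ℤ := (let yq718 : List ℤ := %[1, 1, 2, 1, 1, 1 | []];
  %[0, 0, 0, 0, 1 | yq718]);
  (let yq719 : type_of% yq717 := %[0, 0, 0, 0, 0, 0 | yq717];
  %[0, 0, 0, 0, 0 | yq719]));
  (let yq720 : type_of% yq716 := (let yq721 : type_of% yq716 := %[0, 0, 0, 0, 0, 0 | yq716];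
  %[0, 0, 0, 0, 0 | yq721]);
  (let yq722 : type_of% yq720 := %[0, 0, 0, 0, 0, 0 | yq720];
  %[0, 0, 0, 0, 0 | yq722]))), (let yq723 : List ℤ := (let yq724 : List ℤ := (let yq725 : List ℤ := %[-1, -1, -1, -1, -1 | []];
  %[0, 0, 0, 0, 0 | yq725]);
  (let yq726 : type_of% yq724 := %[0, 0, 0, 0, 0 | yq724];
  %[0, 0, 0, 0 | yq726]));
  (let yq727 : type_of% yq723 := (let yq728 : type_of% yq723 := %[0, 0, 0, 0, 0 | yq723];
  %[0, 0, 0, 0 | yq728]);
  (let yq729 : type_of% yq727 := %[0, 0, 0, 0, 0 | yq727];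
  %[0, 0, 0, 0 | yq729]))), (let yq730 : List ℤ := (let yq731 : List ℤ := (let yq732 : List ℤ := %[1, 0, 0, -1, -1 | []];
  %[0, 0, 0, 1 | yq732]);
  (let yq733 : type_of% yq731 := %[0, 0, 0, 0 | yq731];
  %[0, 0, 0, 0 | yq733]));
  (let yq734 : type_of% yq730 := (let yq735 : type_of% yq730 := %[0, 0, 0, 0, 0 | yq730];
  %[0, 0, 0, 0 | yq735]);
  (let yq736 : type_of% yq734 := %[0, 0, 0, 0 | yq734];
  %[0, 0, 0, 0 | yq736]))), [], (beta% delta% lq2625fc56bb69 fun vqc0 vqc1 _ _ _ _ _ _ _ _ _ =>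
      (vqc0 0 (vqc0 0 (vqc0 0 (vqc0 0 (vqc0 0 (vqc0 0 (vqc0 0 (vqc0 0 (vqc0 0 (vqc0 0 (vqc0 0 (vqc0 0 (vqc0 0 (vqc0 0 (vqc0 0 (vqc0 0 (vqc0 0 (vqc0 0 (vqc0 0 (vqc0 0 (vqc0 0 (vqc0 0 (vqc0 0 (vqc0 0 (vqc0 0 (vqc0 1 (vqc0 1 (vqc0 1 (vqc0 1 (vqc0 1 vqc1)))))))))))))))))))))))))))))) :
      List ℤ), (beta% delta% lq2625fc56bb69 fun vqc0 vqc1 _ _ _ _ _ _ _ _ _ =>
      (vqc0 0 (vqc0 0 (vqc0 0 (vqc0 0 (vqc0 0 (vqc0 0 (vqc0 0 (vqc0 0 (vqc0 0 (vqc0 0 (vqc0 0 (vqc0 0 (vqc0 0 (vqc0 0 (vqc0 0 (vqc0 0 (vqc0 0 (vqc0 0 (vqc0 (-1) (vqc0 (-1) (vqc0 (-1) (vqc0 (-2) (vqc0 (-1) (vqc0 (-1) (vqc0 (-1) vqc1))))))))))))))))))))))))) :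
      List ℤ), (beta% delta% lq2625fc56bb69 fun vqc0 vqc1 _ _ _ _ _ _ _ _ _ =>
      (vqc0 0 (vqc0 0 (vqc0 0 (vqc0 0 (vqc0 0 (vqc0 0 (vqc0 0 (vqc0 0 (vqc0 0 (vqc0 0 (vqc0 0 (vqc0 1 (vqc0 1 (vqc0 2 (vqc0 2 (vqc0 2 (vqc0 2 (vqc0 2 (vqc0 1 (vqc0 1 (vqc0 1 vqc1))))))))))))))))))))) :
      List ℤ), (beta% delta% lq2625fc56bb69 fun vqc0 vqc1 _ _ _ _ _ _ _ _ _ =>
      (vqc0 (-1) (vqc0 (-2) (vqc0 (-3) (vqc0 (-5) (vqc0 (-7) (vqc0 (-9) (vqc0 (-11) (vqc0 (-13) (vqc0 (-14) (vqc0 (-15) (vqc0 (-15) (vqc0 (-14) (vqc0 (-13) (vqc0 (-11) (vqc0 (-9) (vqc0 (-7) (vqc0 (-5) (vqc0 (-3) (vqc0 (-2) (vqc0 (-1) vqc1)))))))))))))))))))) :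
      List ℤ)] : List (List ℤ)).getD c []
  steps := []
  dn := (let yq737 : List ℤ := (let yq738 : List ℤ := (let yq739 : List ℤ := (let yq740 : List ℤ := %[2, 1, 0, 1, 1 | []];
  %[3, 3, 3, 1, 1 | yq740]);
  (let yq741 : type_of% yq739 := %[5, 7, 6, 4, 4 | yq739];
  %[13, 8, 9, 11, 7 | yq741]));
  (let yq742 : type_of% yq738 := (let yq743 : type_of% yq738 := %[16, 15, 15, 12, 13 | yq738];
  %[21, 23, 17, 17, 19 | yq743]);
  (let yq744 : type_of% yq742 := %[23, 20, 24, 23, 17 | yq742];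
  %[20, 23, 24, 22, 24 | yq744])));
  (let yq745 : type_of% yq737 := (let yq746 : type_of% yq737 := (let yq747 : type_of% yq737 := %[23, 21, 17, 23, 24 | yq737];
  %[15, 16, 19, 17, 17 | yq747]);
  (let yq748 : type_of% yq746 := %[8, 13, 13, 12, 15 | yq746];
  %[7, 5, 7, 11, 9 | yq748]));
  (let yq749 : type_of% yq745 := (let yq750 : type_of% yq745 := %[3, 3, 4, 4, 6 | yq745];
  %[1, 2, 1, 1, 3 | yq750]);
  (let yq751 : type_of% yq749 := %[0, 0, 1, 1, 0 | yq749];
  %[0, 0, 0, 0 | yq751]))))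
  den := 2

/-- degree `1*q^6*P4^2*P5^2*P7*P8*P10^2*P12*P15*P18*P20*P24*P30 / 2` -/
def c9 : Crt 10 where
  th := [-1, 0, 0, -1, 0, -1, -1, 0, 0, -1, 0, 1]
  nu c := ([(let yq752 : List ℤ := (let yq753 : List ℤ := (let yq754 : List ℤ := (let yq755 : List ℤ := %[9, 6, 4, 2, 1 | []];
  %[26, 21, 17, 12 | yq755]);
  (let yq756 : type_of% yq754 := %[41, 40, 37, 34, 30 | yq754];
  %[34, 37, 40, 41 | yq756]));
  (let yq757 : type_of% yq753 := (let yq758 : type_of% yq753 := %[12, 17, 21, 26, 30 | yq753];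
  %[2, 4, 6, 9 | yq758]);
  (let yq759 : type_of% yq757 := %[0, 0, 0, 1 | yq757];
  %[0, 0, 0, 0 | yq759])));
  (let yq760 : type_of% yq752 := (let yq761 : type_of% yq752 := (let yq762 : type_of% yq752 := %[0, 0, 0, 0, 0 | yq752];
  %[0, 0, 0, 0 | yq762]);
  (let yq763 : type_of% yq761 := %[0, 0, 0, 0, 0 | yq761];
  %[0, 0, 0, 0 | yq763]));
  (let yq764 : type_of% yq760 := (let yq765 : type_of% yq760 := %[0, 0, 0, 0, 0 | yq760];
  %[0, 0, 0, 0 | yq765]);
  (let yq766 : type_of% yq764 := %[0, 0, 0, 0 | yq764];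
  %[0, 0, 0, 0 | yq766])))), (let yq767 : List ℤ := (let yq768 : List ℤ := (let yq769 : List ℤ := (let yq770 : List ℤ := %[0, 1, 1, 1 | []];
  %[-4, -2, -2, 0 | yq770]);
  %[-2, -3, -3, -5, -4, -5, -4 | yq769]);
  (let yq771 : type_of% yq768 := (let yq772 : type_of% yq768 := %[0, -1, -1, -2 | yq768];
  %[0, 0, 0, 0 | yq772]);
  %[0, 0, 0, 0, 0, 0, 0 | yq771]));
  (let yq773 : type_of% yq767 := (let yq774 : type_of% yq767 := (let yq775 : type_of% yq767 := %[0, 0, 0, 0 | yq767];
  %[0, 0, 0, 0 | yq775]);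
  %[0, 0, 0, 0, 0, 0, 0 | yq774]);
  (let yq776 : type_of% yq773 := %[0, 0, 0, 0, 0, 0, 0 | yq773];
  %[0, 0, 0, 0, 0, 0, 0 | yq776]))), (let yq777 : List ℤ := (let yq778 : List ℤ := (let yq779 : List ℤ := %[1, 0, -2, -2, -2, -1, -1 | []];
  %[2, 2, 2, 2, 3, 2 | yq779]);
  (let yq780 : type_of% yq778 := %[0, 0, 0, 0, 0, 1, 1 | yq778];
  %[0, 0, 0, 0, 0, 0 | yq780]));
  (let yq781 : type_of% yq777 := (let yq782 : type_of% yq777 := %[0, 0, 0, 0, 0, 0, 0 | yq777];
  %[0, 0, 0, 0, 0, 0 | yq782]);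
  (let yq783 : type_of% yq781 := %[0, 0, 0, 0, 0, 0, 0 | yq781];
  %[0, 0, 0, 0, 0, 0 | yq783]))), (let yq784 : List ℤ := (let yq785 : List ℤ := (let yq786 : List ℤ := %[2, 2, 3, 2, 3, 1 | []];
  %[-1, -2, -1, -2, 0, -1 | yq786]);
  (let yq787 : type_of% yq785 := %[0, 0, 0, 0, 0, -1 | yq785];
  %[0, 0, 0, 0, 0 | yq787]));
  (let yq788 : type_of% yq784 := (let yq789 : type_of% yq784 := %[0, 0, 0, 0, 0, 0 | yq784];
  %[0, 0, 0, 0, 0 | yq789]);
  (let yq790 : type_of% yq788 := %[0, 0, 0, 0, 0, 0 | yq788];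
  %[0, 0, 0, 0, 0 | yq790]))), (let yq791 : List ℤ := (let yq792 : List ℤ := (let yq793 : List ℤ := %[-3, -1, 0, 1, 1, 1 | []];
  %[0, -1, -3, -3, -3 | yq793]);
  (let yq794 : type_of% yq792 := %[0, 0, 1, 1, 1 | yq792];
  %[0, 0, 0, 0, 0 | yq794]));
  (let yq795 : type_of% yq791 := (let yq796 : type_of% yq791 := %[0, 0, 0, 0, 0, 0 | yq791];
  %[0, 0, 0, 0, 0 | yq796]);
  (let yq797 : type_of% yq795 := %[0, 0, 0, 0, 0 | yq795];
  %[0, 0, 0, 0, 0 | yq797]))), (let yq798 : List ℤ := (let yq799 : List ℤ := (let yq800 : List ℤ := %[-6, -6, -4, -4, -2, -2 | []];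
  %[-6, -8, -8, -8, -8 | yq800]);
  (let yq801 : type_of% yq799 := %[0, -2, -2, -4, -4, -6 | yq799];
  %[0, 0, 0, 0, 0 | yq801]));
  (let yq802 : type_of% yq798 := (let yq803 : type_of% yq798 := %[0, 0, 0, 0, 0, 0 | yq798];
  %[0, 0, 0, 0, 0 | yq803]);
  (let yq804 : type_of% yq802 := %[0, 0, 0, 0, 0 | yq802];
  %[0, 0, 0, 0, 0 | yq804]))), (let yq805 : List ℤ := (let yq806 : List ℤ := (let yq807 : List ℤ := %[-2, -1, -2, -1, -1 | []];
  %[3, 2, 2, -1, 0 | yq807]);
  (let yq808 : type_of% yq806 := %[0, 0, 1, 3, 2 | yq806];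
  %[0, 0, 0, 0 | yq808]));
  (let yq809 : type_of% yq805 := (let yq810 : type_of% yq805 := %[0, 0, 0, 0, 0 | yq805];
  %[0, 0, 0, 0, 0 | yq810]);
  (let yq811 : type_of% yq809 := %[0, 0, 0, 0, 0 | yq809];
  %[0, 0, 0, 0 | yq811]))), (let yq812 : List ℤ := (let yq813 : List ℤ := (let yq814 : List ℤ := %[2, 2, 2, 1, 1 | []];
  %[1, 2, 3, 2 | yq814]);
  (let yq815 : type_of% yq813 := %[-2, -2, -2, 0 | yq813];
  %[0, 0, -1, -1 | yq815]));
  (let yq816 : type_of% yq812 := (let yq817 : type_of% yq812 := %[0, 0, 0, 0 | yq812];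
  %[0, 0, 0, 0 | yq817]);
  (let yq818 : type_of% yq816 := %[0, 0, 0, 0 | yq816];
  %[0, 0, 0, 0 | yq818]))), (beta% delta% lq2625fc56bb69 fun vqc0 vqc1 _ _ _ _ _ _ _ _ _ =>
      (vqc0 0 (vqc0 0 (vqc0 0 (vqc0 0 (vqc0 0 (vqc0 0 (vqc0 0 (vqc0 0 (vqc0 0 (vqc0 0 (vqc0 0 (vqc0 1 (vqc0 1 (vqc0 1 (vqc0 0 (vqc0 0 (vqc0 (-2) (vqc0 (-2) (vqc0 (-4) (vqc0 (-4) (vqc0 (-5) (vqc0 (-4) (vqc0 (-5) (vqc0 (-3) (vqc0 (-3) (vqc0 (-2) (vqc0 (-2) (vqc0 (-1) (vqc0 (-1) vqc1))))))))))))))))))))))))))))) :
      List ℤ), (beta% delta% lq2625fc56bb69 fun vqc0 vqc1 _ _ _ _ _ _ _ _ _ =>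
      (vqc0 1 (vqc0 2 (vqc0 4 (vqc0 6 (vqc0 9 (vqc0 12 (vqc0 17 (vqc0 21 (vqc0 26 (vqc0 30 (vqc0 34 (vqc0 37 (vqc0 40 (vqc0 41 (vqc0 41 (vqc0 40 (vqc0 37 (vqc0 34 (vqc0 30 (vqc0 26 (vqc0 21 (vqc0 17 (vqc0 12 (vqc0 9 (vqc0 6 (vqc0 4 (vqc0 2 (vqc0 1 vqc1)))))))))))))))))))))))))))) :
      List ℤ)] : List (List ℤ)).getD c []
  steps := []
  dn := (let yq819 : List ℤ := (let yq820 : List ℤ := (let yq821 : List ℤ := (let yq822 : List ℤ := %[2, 1, 2, 1, 1 | []];
  %[3, 7, 3, 5, 1 | yq822]);
  (let yq823 : type_of% yq821 := %[17, 7, 14, 4, 8 | yq821];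
  %[13, 28, 9, 19, 7 | yq823]));
  (let yq824 : type_of% yq820 := (let yq825 : type_of% yq820 := %[44, 15, 33, 12, 31 | yq820];
  %[21, 47, 17, 45, 19 | yq825]);
  (let yq826 : type_of% yq824 := %[55, 20, 54, 23, 57 | yq824];
  %[20, 55, 24, 62, 24 | yq826])));
  (let yq827 : type_of% yq819 := (let yq828 : type_of% yq819 := (let yq829 : type_of% yq819 := %[47, 21, 57, 23, 54 | yq819];
  %[15, 44, 19, 45, 17 | yq829]);
  (let yq830 : type_of% yq828 := %[28, 13, 31, 12, 33 | yq828];
  %[7, 17, 7, 19, 9 | yq830]));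
  (let yq831 : type_of% yq827 := (let yq832 : type_of% yq827 := %[7, 3, 8, 4, 14 | yq827];
  %[1, 2, 1, 5, 3 | yq832]);
  (let yq833 : type_of% yq831 := %[0, 0, 1, 1, 2 | yq831];
  %[0, 0, 0, 0 | yq833]))))
  den := 2

/-- the certificates -/
def C (i : Fin 10) : Crt 10 := ([c0, c1, c2, c3, c4, c5, c6, c7, c8, c9] : List (Crt 10)).getD i c0

theorem okA : ∀ i, ok1 (C i) (TabE8b.data.t.cls TabE8b.data.t.o) TabE8b.data.bb TabE8b.data.kk := by
  rw [hcls]
  delta ok1
  simp only [H996.Eight.Kq.pEq_eq, H996.Eight.Kq.pZero_eq, H996.Eight.Kq.pPos_eq]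
  decide +kernel

theorem dvdA : ∀ i, pDvd (C i).den (C i).dn := by decide +kernel

theorem neA : ∀ i k, i < k → pNV (pAdd (C i).th (pNeg (C k).th)) = true := by (simp only [H996.Eight.Kq.pNV_eq]; decide +kernel)

/-- the polynomials -/
def pol : Pol 10 where
  N := (let yq834 : List ℤ := (let yq835 : List ℤ := (let yq836 : List ℤ := (let yq837 : List ℤ := %[2, 1, 1, 1, 1 | []];
  %[5, 5, 4, 3, 2 | yq837]);
  (let yq838 : type_of% yq836 := %[13, 11, 10, 8, 7 | yq836];
  %[23, 21, 19, 17, 14 | yq838]));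
  (let yq839 : type_of% yq835 := (let yq840 : type_of% yq835 := %[36, 34, 31, 28, 26 | yq835];
  %[49, 46, 44, 41, 38 | yq840]);
  (let yq841 : type_of% yq839 := %[57, 57, 54, 52, 50 | yq839];
  %[62, 60, 60, 59, 59 | yq841])));
  (let yq842 : type_of% yq834 := (let yq843 : type_of% yq834 := (let yq844 : type_of% yq834 := %[57, 59, 59, 60, 60 | yq834];
  %[49, 50, 52, 54, 57 | yq844]);
  (let yq845 : type_of% yq843 := %[36, 38, 41, 44, 46 | yq843];
  %[23, 26, 28, 31, 34 | yq845]));
  (let yq846 : type_of% yq842 := (let yq847 : type_of% yq842 := %[13, 14, 17, 19, 21 | yq842];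
  %[5, 7, 8, 10, 11 | yq847]);
  (let yq848 : type_of% yq846 := %[2, 2, 3, 4, 5 | yq846];
  %[1, 1, 1, 1 | yq848]))))
  dn i := (C i).dn
  den i := (C i).den
  D i := ([[], (let yq849 : List ℤ := (let yq850 : List ℤ := (let yq851 : List ℤ := (let yq852 : List ℤ := %[1, 1, 1, 1 | []];
  %[1, 1, 1, 1 | yq852]);
  %[1, 1, 1, 1, 1, 1, 1 | yq851]);
  (let yq853 : type_of% yq850 := %[1, 1, 1, 1, 1, 1, 1 | yq850];
  %[1, 1, 1, 1, 1, 1, 1 | yq853]));
  (let yq854 : type_of% yq849 := (let yq855 : type_of% yq849 := (let yq856 : type_of% yq849 := %[0, 0, 0, 1 | yq849];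
  %[0, 0, 0, 0 | yq856]);
  %[0, 0, 0, 0, 0, 0, 0 | yq855]);
  (let yq857 : type_of% yq854 := %[0, 0, 0, 0, 0, 0, 0 | yq854];
  %[0, 0, 0, 0, 0, 0, 0 | yq857]))), (let yq858 : List ℤ := (let yq859 : List ℤ := (let yq860 : List ℤ := (let yq861 : List ℤ := %[1, 1, 1, 1 | []];
  %[2, 2, 1, 1 | yq861]);
  %[2, 2, 2, 2, 2, 2, 2 | yq860]);
  (let yq862 : type_of% yq859 := %[2, 2, 2, 2, 2, 2, 2 | yq859];
  %[1, 1, 1, 1, 1, 2, 2 | yq862]));
  (let yq863 : type_of% yq858 := (let yq864 : type_of% yq858 := (let yq865 : type_of% yq858 := %[0, 0, 0, 1 | yq858];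
  %[0, 0, 0, 0 | yq865]);
  %[0, 0, 0, 0, 0, 0, 0 | yq864]);
  (let yq866 : type_of% yq863 := %[0, 0, 0, 0, 0, 0, 0 | yq863];
  %[0, 0, 0, 0, 0, 0, 0 | yq866]))), (let yq867 : List ℤ := (let yq868 : List ℤ := (let yq869 : List ℤ := (let yq870 : List ℤ := %[1, 1, 1, 1 | []];
  %[2, 2, 1, 1 | yq870]);
  %[3, 3, 3, 3, 3, 2, 2 | yq869]);
  (let yq871 : type_of% yq868 := %[2, 3, 3, 3, 3, 3, 4 | yq868];
  %[1, 1, 1, 1, 2, 2, 2 | yq871]));
  (let yq872 : type_of% yq867 := (let yq873 : type_of% yq867 := (let yq874 : type_of% yq867 := %[0, 0, -1, 1 | yq867];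
  %[0, 0, 0, 0 | yq874]);
  %[0, 0, 0, 0, 0, 0, 0 | yq873]);
  (let yq875 : type_of% yq872 := %[0, 0, 0, 0, 0, 0, 0 | yq872];
  %[0, 0, 0, 0, 0, 0, 0 | yq875]))), (let yq876 : List ℤ := (let yq877 : List ℤ := (let yq878 : List ℤ := (let yq879 : List ℤ := %[1, 1, 1, 1 | []];
  %[2, 2, 1, 1 | yq879]);
  %[3, 3, 3, 3, 3, 2, 2 | yq878]);
  (let yq880 : type_of% yq877 := %[2, 3, 3, 3, 3, 3, 2 | yq877];
  %[1, 1, 1, 1, 2, 2, 2 | yq880]));
  (let yq881 : type_of% yq876 := (let yq882 : type_of% yq876 := (let yq883 : type_of% yq876 := %[0, 0, 1, 1 | yq876];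
  %[0, 0, 0, 0 | yq883]);
  %[0, 0, 0, 0, 0, 0, 0 | yq882]);
  (let yq884 : type_of% yq881 := %[0, 0, 0, 0, 0, 0, 0 | yq881];
  %[0, 0, 0, 0, 0, 0, 0 | yq884]))), (let yq885 : List ℤ := (let yq886 : List ℤ := (let yq887 : List ℤ := (let yq888 : List ℤ := %[1, 1, 1, 1 | []];
  %[2, 2, 1, 1 | yq888]);
  %[4, 4, 4, 3, 3, 2, 2 | yq887]);
  (let yq889 : type_of% yq886 := %[4, 4, 4, 5, 5, 5, 5 | yq886];
  %[0, 0, 1, 1, 1, 3, 3 | yq889]));
  (let yq890 : type_of% yq885 := (let yq891 : type_of% yq885 := (let yq892 : type_of% yq885 := %[0, 0, -1, 0 | yq885];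
  %[0, 0, 0, 0 | yq892]);
  %[0, 0, 0, 0, 0, 0, 0 | yq891]);
  (let yq893 : type_of% yq890 := %[0, 0, 0, 0, 0, 0, 0 | yq890];
  %[0, 0, 0, 0, 0, 0, 0 | yq893]))), (let yq894 : List ℤ := (let yq895 : List ℤ := (let yq896 : List ℤ := (let yq897 : List ℤ := %[1, 1, 1, 1 | []];
  %[2, 2, 1, 1 | yq897]);
  %[4, 4, 4, 3, 3, 2, 2 | yq896]);
  (let yq898 : type_of% yq895 := %[4, 4, 4, 3, 3, 3, 3 | yq895];
  %[2, 2, 1, 1, 1, 3, 3 | yq898]));
  (let yq899 : type_of% yq894 := (let yq900 : type_of% yq894 := (let yq901 : type_of% yq894 := %[0, 0, 1, 2 | yq894];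
  %[0, 0, 0, 0 | yq901]);
  %[0, 0, 0, 0, 0, 0, 0 | yq900]);
  (let yq902 : type_of% yq899 := %[0, 0, 0, 0, 0, 0, 0 | yq899];
  %[0, 0, 0, 0, 0, 0, 0 | yq902]))), (let yq903 : List ℤ := (let yq904 : List ℤ := (let yq905 : List ℤ := (let yq906 : List ℤ := %[1, 1, 1, 1 | []];
  %[2, 2, 1, 1 | yq906]);
  %[4, 4, 4, 3, 3, 2, 2 | yq905]);
  (let yq907 : type_of% yq904 := %[4, 4, 4, 4, 4, 4, 4 | yq904];
  %[2, 2, 2, 2, 2, 3, 3 | yq907]));
  (let yq908 : type_of% yq903 := (let yq909 : type_of% yq903 := (let yq910 : type_of% yq903 := %[0, 0, 0, 2 | yq903];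
  %[0, 0, 0, 0 | yq910]);
  %[0, 0, 0, 0, 0, 0, 0 | yq909]);
  (let yq911 : type_of% yq908 := %[0, 0, 0, 0, 0, 0, 0 | yq908];
  %[0, 0, 0, 0, 0, 0, 0 | yq911]))), (let yq912 : List ℤ := (let yq913 : List ℤ := (let yq914 : List ℤ := (let yq915 : List ℤ := %[1, 1, 1, 1 | []];
  %[2, 2, 1, 1 | yq915]);
  %[4, 4, 4, 3, 3, 2, 2 | yq914]);
  (let yq916 : type_of% yq913 := %[4, 5, 5, 6, 5, 5, 4 | yq913];
  %[1, 1, 2, 2, 3, 4, 4 | yq916]));
  (let yq917 : type_of% yq912 := (let yq918 : type_of% yq912 := (let yq919 : type_of% yq912 := %[0, 0, 0, 1 | yq912];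
  %[0, 0, 0, 0 | yq919]);
  %[0, 0, 0, 0, 0, 0, 0 | yq918]);
  (let yq920 : type_of% yq917 := %[0, 0, 0, 0, 0, 0, 0 | yq917];
  %[0, 0, 0, 0, 0, 0, 0 | yq920]))), (let yq921 : List ℤ := (let yq922 : List ℤ := (let yq923 : List ℤ := (let yq924 : List ℤ := %[1, 1, 1, 1 | []];
  %[2, 2, 1, 1 | yq924]);
  %[4, 4, 4, 3, 3, 2, 2 | yq923]);
  (let yq925 : type_of% yq922 := %[4, 5, 5, 4, 5, 5, 4 | yq922];
  %[1, 3, 2, 2, 3, 4, 4 | yq925]));
  (let yq926 : type_of% yq921 := (let yq927 : type_of% yq921 := (let yq928 : type_of% yq921 := %[0, 0, 0, 1 | yq921];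
  %[0, 0, 0, 0 | yq928]);
  %[0, 0, 0, 0, 0, 0, 0 | yq927]);
  (let yq929 : type_of% yq926 := %[0, 0, 0, 0, 0, 0, 0 | yq926];
  %[0, 0, 0, 0, 0, 0, 0 | yq929])))] : List (List ℤ)).getD i []
  o := 0
  nu i := (C i).nu

/-- the long roots -/
def rt : RTab 8 120 where
  V := 2100020286289708022728750121353947231689149176131912325417323069374807835891849100212416534538317675140526809684235181136627093156390183586601159224906995976684953872587104286477133692106859835989227407083354270609659533458284018605019031941012835377317560878819079989014503705857133098782434834491039744480946571953879089108643472542769077949406607736255405738470995239103581405806692099376381953985693141059592821474177949835009960827225527723761209748605186542473985172662065636952808873603149327288232329761821657623959632822807653143402132655831391129433987407290990579474021911603171787917649960784558302928180037753895779246618086883096189853616253652864584241164493512303419004158779014873642243254498171001062346406103240086406459520261836198760589318237630660607998698669433018161389460301660248809362897346120954833972953025103501505969479269799359877178924907819785695329615596822525807244550432347535851609482138115802707504598757478167818025249219205395213804627611311169833732175970007928304449087461746399482570597277503037777165807227478115674304167790169080502056825462612882845951152388383556341601143829362856222719976197678130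
  S := 379641324877289132531753629483053924759733850626063568893015585748143539540913460626016448848449392455015988917053831487039813472676020777317618597228547071204047055953240318804501397905277000809127511732008709665546486628137359600870099242627111399549311877935468773062763625392811417574586448631265913269418072273693051356870053437757974324249356829309254808238468067458916917241035192710110129307998131667702307353595372881667600179351904064870377931308036771323878300000465351786599358769805116577236104910453367700248184253021001637330937057129117775806185216134305854507725236107923627025287055061220137953641136844018872786571130107655902410749557488485221557545987901109189829004774287940115074235574881690251482064268240130837017949655727548564539868048049647486604998728461226288847391977365593078001724112773274399530944848423733708675497857746310075554460116214030081940725108148721271158349950402916037767526223563908037562146397348664427949162017877641016446348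41920777784623825056507901052245862211404481912062454441857053460485649249957665169850872102099617962262259078746246886911897722716885634923679540340337649136224750688742446138458630344752424238765666029135826170624611029734259488452111917757494626167823548513568369493151367573398015727958946783305540912284834006391897162114537245094320408762560821931451942498792004387182322219561378478310746534722832780729317632069631632896706654587793177122548916204528288775605457817920583318587907247449777632270206174712264099206329841450720056604412030537277818290311714285638257484454359457787492349741240893493099450832805834057354528303103699219245284802748997963372541380474543996577477459297022974654748853517404185174313443294452498134724178859696958810458557047278580754513114713129462866000487085367316697915884752765001477457896981703876872532363579271126882088938781910550161137719550952602048717317641132121721705323170325083560520739322861792047887464197118276286402434105223954094095428346582152005043375095793794894731264691667198103078956383480262451067729861313944682399277178187383245537826734191548547704281695918876679895641493826707236656393219554167524455867580563545380663329866731180367081429897166105803270439538666786787144180493493933796065651233245941144571489219885261475449335650542796179662459423036761761959116800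
  P := 3121748549592383900151901456947904276636282735688336713846040764147481848205762391658192120977814351001631776467453447822990223950601748483360103
  Q := 13874437610526695962725170992555491339111331048330517811971874069178033946499607815107366135974999265753046658973962260165513092096006614417408

/-- the sums for the long roots -/
def Z2 : ℕ := 0x100100100100200200300300400400500500600600600600700700600600600600500500400400300300200200100100100100000000000000000000000000000000000000000000000000000000000000000000000000000000000000000000000000000000000000000000000000000000000000000000000000000000000000100100100200300400500700800a00c00e01001201401601801901a01b01c01c01c01b01a01901801601401201000e00c00a00800700500400300200100100100000000000000000000000000000000000000000000000000000000000000000000000000000000000000000000000000000000000000000000000000000000000000000000000100100200200400500700800b00d01001301601901c02002302702902c02e03203203403403603503603403303103002e02c02902602402201f01c01a01701501301100e00d00b00a008007005005004003002002001001001001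

/-- the classes of the long root elements -/
def kap (n : ℕ) : Fin 10 := ([0, 1, 5] : List (Fin 10)).getD n 0

def al (k : Fin 8) : ℕ := ([2, 3, 4, 6, 5, 4, 3, 2] : List ℕ).getD k 0

def VV (c : Fin 10) : List ℤ := ([(let yq930 : List ℤ := (let yq931 : List ℤ := (let yq932 : List ℤ := (let yq933 : List ℤ := %[2, 2, 1, 1 | []];
  %[8, 7, 5, 4 | yq933]);
  (let yq934 : type_of% yq932 := %[19, 16, 13, 11 | yq932];
  %[32, 28, 25, 22 | yq934]));
  (let yq935 : type_of% yq931 := (let yq936 : type_of% yq931 := %[44, 41, 39, 35 | yq931];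
  %[52, 50, 50, 46 | yq936]);
  %[49, 51, 52, 54, 53, 54, 52 | yq935]));
  (let yq937 : type_of% yq930 := (let yq938 : type_of% yq930 := (let yq939 : type_of% yq930 := %[41, 44, 46, 48 | yq930];
  %[31, 34, 36, 38 | yq939]);
  %[14, 17, 19, 21, 23, 26, 28 | yq938]);
  (let yq940 : type_of% yq937 := (let yq941 : type_of% yq937 := %[8, 10, 11, 13 | yq937];
  %[4, 5, 5, 7 | yq941]);
  %[1, 1, 1, 1, 2, 2, 3 | yq940]))), (let yq942 : List ℤ := (let yq943 : List ℤ := (let yq944 : List ℤ := (let yq945 : List ℤ := %[3, 2, 1, 1, 1 | []];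
  %[8, 7, 5, 4 | yq945]);
  (let yq946 : type_of% yq944 := %[18, 16, 14, 12, 10 | yq944];
  %[25, 24, 22, 20 | yq946]));
  (let yq947 : type_of% yq943 := (let yq948 : type_of% yq943 := %[28, 28, 28, 27, 26 | yq943];
  %[24, 25, 26, 27 | yq948]);
  (let yq949 : type_of% yq947 := %[14, 16, 18, 20, 22 | yq947];
  %[7, 8, 10, 12 | yq949])));
  (let yq950 : type_of% yq942 := (let yq951 : type_of% yq942 := (let yq952 : type_of% yq942 := %[1, 2, 3, 4, 5 | yq942];
  %[0, 0, 1, 1 | yq952]);
  (let yq953 : type_of% yq951 := %[0, 0, 0, 0, 0 | yq951];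
  %[0, 0, 0, 0 | yq953]));
  (let yq954 : type_of% yq950 := (let yq955 : type_of% yq950 := %[0, 0, 0, 0, 0 | yq950];
  %[0, 0, 0, 0 | yq955]);
  (let yq956 : type_of% yq954 := %[0, 0, 0, 0, 0 | yq954];
  %[0, 0, 0, 0 | yq956])))), [], [], [], (let yq957 : List ℤ := (let yq958 : List ℤ := (let yq959 : List ℤ := (let yq960 : List ℤ := %[2, 1, 1, 1, 1 | []];
  %[4, 4, 3, 3, 2 | yq960]);
  (let yq961 : type_of% yq959 := %[6, 6, 6, 5, 5 | yq959];
  %[6, 6, 7, 7, 6 | yq961]));
  (let yq962 : type_of% yq958 := (let yq963 : type_of% yq958 := %[4, 5, 5, 6, 6 | yq958];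
  %[2, 2, 3, 3, 4 | yq963]);
  (let yq964 : type_of% yq962 := %[0, 1, 1, 1, 1 | yq962];
  %[0, 0, 0, 0, 0 | yq964])));
  (let yq965 : type_of% yq957 := (let yq966 : type_of% yq957 := (let yq967 : type_of% yq957 := %[0, 0, 0, 0, 0 | yq957];
  %[0, 0, 0, 0, 0 | yq967]);
  (let yq968 : type_of% yq966 := %[0, 0, 0, 0, 0 | yq966];
  %[0, 0, 0, 0, 0 | yq968]));
  (let yq969 : type_of% yq965 := (let yq970 : type_of% yq965 := %[0, 0, 0, 0, 0 | yq965];
  %[0, 0, 0, 0, 0 | yq970]);
  (let yq971 : type_of% yq969 := %[0, 0, 0, 0, 0 | yq969];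
  %[0, 0, 0, 0 | yq971])))), [], [], [], []] : List (List ℤ)).getD c []

theorem hV : TabE8b.B.cV 12 12 79 al 232 3 Z2 = true := by
  have h : Bg.dotN al = (beta% delta% lq2625fc56bb69 fun _ _ _ _ _ vqc5 _ _ _ vqc9 vqc10 =>
      fun e => vqc5 (vqc9 2 (vqc10 0 e)) (vqc5 (vqc9 3 (vqc10 1 e)) (vqc5 (vqc9 4 (vqc10 2 e))
        (vqc5 (vqc9 6 (vqc10 3 e)) (vqc5 (vqc9 5 (vqc10 4 e)) (vqc5 (vqc9 4 (vqc10 5 e)) (vqc5 (vqc9 3 (vqc10 6 e))
        (vqc5 (vqc9 2 (vqc10 7 e)) 0))))))) :
      ℕ → ℕ) := rfl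
  delta Bg.cV
  rw [h]
  decide +kernel

theorem hVV : ChkC (rclL TabE8b.data.t ![2, 3, 4, 6, 5, 4, 3, 2] kap) TabE8b.data.wl VV :=
  TabE8b.okB.chkC (by decide) (by decide) TabE8b.hZ TabE8b.hA2 (al := al) (by decide +kernel) (T0 := 232) (D := 3)
    (by decide +kernel) hV (o := 0) (by decide +kernel) (by decide +kernel)

theorem hkap : rt.clsOk TabE8b.data.t kap := by decide +kernel

theorem hrt : rt.Ok TabE8b.A ![2, 3, 4, 6, 5, 4, 3, 2] := FullE8a.full.hZ

def FF : List ℤ := (let yq972 : List ℤ := (let yq973 : List ℤ := (let yq974 : List ℤ := %[0, 0, 0, 0, 1, 1 | []];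
  %[0, 0, 0, 1, 1 | yq974]);
  (let yq975 : type_of% yq973 := %[0, 0, 0, 0, 0, 0 | yq973];
  %[0, 0, 0, 0, 0 | yq975]));
  (let yq976 : type_of% yq972 := (let yq977 : type_of% yq972 := %[0, 0, 0, 0, 0, 0 | yq972];
  %[0, 0, 0, 0, 0 | yq977]);
  (let yq978 : type_of% yq976 := %[0, 0, 0, 0, 0, 0 | yq976];
  %[0, 0, 0, 0, 0 | yq978])))

def cf (i : Fin 10) : List ℤ := ([(let yq979 : List ℤ := (let yq980 : List ℤ := (let yq981 : List ℤ := %[0, 0, 0, 0, 2, 2 | []];
  %[0, 0, 0, 2, 2 | yq981]);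
  (let yq982 : type_of% yq980 := %[0, 0, 0, 0, 0, 0 | yq980];
  %[0, 0, 0, 0, 0 | yq982]));
  (let yq983 : type_of% yq979 := (let yq984 : type_of% yq979 := %[0, 0, 0, 0, 0, 0 | yq979];
  %[0, 0, 0, 0, 0 | yq984]);
  (let yq985 : type_of% yq983 := %[0, 0, 0, 0, 0, 0 | yq983];
  %[0, 0, 0, 0, 0 | yq985]))), (let yq986 : List ℤ := (let yq987 : List ℤ := (let yq988 : List ℤ := %[2, 0, 0, 0, 0, 0, 2 | []];
  %[2, 0, 2, 0, 0, 0 | yq988]);
  (let yq989 : type_of% yq987 := %[0, 2, 0, 2, 0, 0, 0 | yq987];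
  %[0, 0, 0, 2, 0, 0 | yq989]));
  (let yq990 : type_of% yq986 := (let yq991 : type_of% yq986 := %[0, 0, 0, 0, 2, 0, 0 | yq986];
  %[0, 0, 0, 0, 0, 0 | yq991]);
  (let yq992 : type_of% yq990 := %[0, 0, 0, 0, 0, 0 | yq990];
  %[0, 0, 0, 0, 0, 0 | yq992]))), (let yq993 : List ℤ := (let yq994 : List ℤ := (let yq995 : List ℤ := %[0, -2, 2, 0, -2, 0, 2 | []];
  %[-4, 2, 4, -4, 0, 4 | yq995]);
  (let yq996 : type_of% yq994 := %[0, 6, 0, -4, 4, 0 | yq994];
  %[4, 2, -4, 0, 4, -4 | yq996]));
  (let yq997 : type_of% yq993 := (let yq998 : type_of% yq993 := %[2, -2, 0, 4, 0, -4 | yq993];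
  %[0, 0, 2, 0, -2, 0 | yq998]);
  (let yq999 : type_of% yq997 := %[0, 0, 0, 0, 0, 0 | yq997];
  %[0, 0, 0, 0, 0, 0 | yq999]))), (let yq1000 : List ℤ := (let yq1001 : List ℤ := (let yq1002 : List ℤ := %[2, -1, 0, 0, -1, 0, 1 | []];
  %[0, -1, 1, -2, -1, 2 | yq1002]);
  (let yq1003 : type_of% yq1001 := %[1, 0, 0, 1, -3, 1, 3 | yq1001];
  %[0, 0, 1, 1, -2, 1 | yq1003]));
  (let yq1004 : type_of% yq1000 := (let yq1005 : type_of% yq1000 := %[1, -1, 0, 3, 1, -3, 1 | yq1000];
  %[0, -1, 2, 2, -1, -2 | yq1005]);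
  (let yq1006 : type_of% yq1004 := %[0, 0, 0, 1, 0, -1, 0 | yq1004];
  %[0, 0, 0, 0, 0, 0 | yq1006]))), (let yq1007 : List ℤ := (let yq1008 : List ℤ := (let yq1009 : List ℤ := %[0, -1, -1, 0, 0, 1 | []];
  %[-2, -2, 0, 1, 2, 1 | yq1009]);
  (let yq1010 : type_of% yq1008 := %[-1, 0, 2, 2, 1, 0 | yq1008];
  %[2, 2, 0, -1, -2 | yq1010]));
  (let yq1011 : type_of% yq1007 := (let yq1012 : type_of% yq1007 := %[1, 0, -2, -2, 0, 1 | yq1007];
  %[0, -1, -1, 0, 1, 2 | yq1012]);
  (let yq1013 : type_of% yq1011 := %[0, 0, 0, 0, 1, 0 | yq1011];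
  %[0, 0, 0, 0, 0 | yq1013]))), (let yq1014 : List ℤ := (let yq1015 : List ℤ := (let yq1016 : List ℤ := (let yq1017 : List ℤ := %[3, 0, -1, -1, 1 | []];
  %[1, -2, 0, -1 | yq1017]);
  (let yq1018 : type_of% yq1016 := %[2, -2, 4, -1 | yq1016];
  %[9, -2, 1, -4 | yq1018]));
  (let yq1019 : type_of% yq1015 := (let yq1020 : type_of% yq1015 := %[6, -6, 0, -4 | yq1015];
  %[2, -6, 9, -3 | yq1020]);
  (let yq1021 : type_of% yq1019 := %[11, -4, 7, -7 | yq1019];
  %[11, -7, 0, -7 | yq1021])));
  (let yq1022 : type_of% yq1014 := (let yq1023 : type_of% yq1014 := (let yq1024 : type_of% yq1014 := %[2, -7, 7, -4 | yq1014];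
  %[6, -3, 9, -6 | yq1024]);
  (let yq1025 : type_of% yq1023 := %[9, -4, 0, -6 | yq1023];
  %[2, -4, 1, -2 | yq1025]));
  (let yq1026 : type_of% yq1022 := (let yq1027 : type_of% yq1022 := %[1, -1, 4, -2 | yq1022];
  %[3, -1, 0, -2 | yq1027]);
  (let yq1028 : type_of% yq1026 := %[1, -1, -1, 0 | yq1026];
  %[0, 0, 0, 0 | yq1028])))), (let yq1029 : List ℤ := (let yq1030 : List ℤ := (let yq1031 : List ℤ := %[1, -1, 1, 1, -1, 0, 1 | []];
  %[1, 1, 0, 2, 0, -1, 1 | yq1031]);
  (let yq1032 : type_of% yq1030 := %[-1, 2, 1, -1, 3, 1, -1 | yq1030];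
  %[0, 0, 2, 0, 0, 4, 0 | yq1032]));
  (let yq1033 : type_of% yq1029 := (let yq1034 : type_of% yq1029 := %[3, -1, 1, 2, -1, 0, 4 | yq1029];
  %[0, 2, 0, 1, 1, -1, 1 | yq1034]);
  (let yq1035 : type_of% yq1033 := %[-1, 1, 1, -1, 1, 1, -1 | yq1033];
  %[0, 0, 0, 0, 1, 0 | yq1035]))), (let yq1036 : List ℤ := (let yq1037 : List ℤ := (let yq1038 : List ℤ := (let yq1039 : List ℤ := %[0, 0, 0, 2 | []];
  %[2, 4, -2, 0 | yq1039]);
  %[0, 4, 4, -4, 4, 0, 0 | yq1038]);
  (let yq1040 : type_of% yq1037 := %[-8, 4, 6, 4, -2, 8, -4 | yq1037];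
  %[8, -8, 8, 4, 2, 0, 8 | yq1040]));
  (let yq1041 : type_of% yq1036 := (let yq1042 : type_of% yq1036 := %[6, 4, -8, 8, 0, 2, 4 | yq1036];
  %[4, 4, 0, -4, 8, -2, 4 | yq1042]);
  (let yq1043 : type_of% yq1041 := %[-2, 4, 2, 0, 0, 4, -4 | yq1041];
  %[0, 0, 2, 0, 0, 0, 0 | yq1043]))), (let yq1044 : List ℤ := (let yq1045 : List ℤ := (let yq1046 : List ℤ := (let yq1047 : List ℤ := %[0, -2, 0, 1 | []];
  %[1, 0, 0, 2 | yq1047]);
  (let yq1048 : type_of% yq1046 := %[0, 1, -1, -1 | yq1046];
  %[-1, -2, 2, 1 | yq1048]));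
  (let yq1049 : type_of% yq1045 := (let yq1050 : type_of% yq1045 := %[2, -3, 0, 4 | yq1045];
  %[1, 3, -1, 1 | yq1050]);
  %[-4, 2, 4, -2, 0, 2, -2 | yq1049]));
  (let yq1051 : type_of% yq1044 := (let yq1052 : type_of% yq1044 := (let yq1053 : type_of% yq1044 := %[0, -2, 4, 2 | yq1044];
  %[3, 1, -2, 2 | yq1053]);
  %[-1, 4, 0, -3, 2, 1, -1 | yq1052]);
  (let yq1054 : type_of% yq1051 := (let yq1055 : type_of% yq1051 := %[0, 1, 2, -2 | yq1051];
  %[1, -1, -1, 1 | yq1055]);
  %[1, 0, -2, 0, 2, 0, 0 | yq1054]))), (let yq1056 : List ℤ := (let yq1057 : List ℤ := (let yq1058 : List ℤ := %[3, 1, 0, -1, -1, 0, 1 | []];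
  %[0, 4, 1, 0, -2, -2, 0 | yq1058]);
  (let yq1059 : type_of% yq1057 := %[-3, -1, 4, 1, 1, -2, -2 | yq1057];
  %[-4, -2, 4, 2, 3, -2 | yq1059]));
  (let yq1060 : type_of% yq1056 := (let yq1061 : type_of% yq1056 := %[-1, -3, -2, 3, 2, 4, -2 | yq1056];
  %[0, -2, -2, 1, 1, 4 | yq1061]);
  (let yq1062 : type_of% yq1060 := %[3, 0, -2, -2, 0, 1, 4 | yq1060];
  %[1, 0, -1, -1, 0, 1 | yq1062])))] : List (List ℤ)).getD i []

noncomputable def NL : List ℤ :=
  (by
  refine (?fq9005 : (fun (Oz : (n : Nat) → OfNat Int n → Int) (Iz : (n : Nat) → OfNat Int n) (Gz : Int → Int) => ((pk61l (fun i1 => (pk61y Oz Iz Gz (pk61d (nat_lit 5) 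
    (nat_lit 0x421084221084319084214a6318c739ce73a10739ce7398c6314a42108318842104210842) i1))) (nat_lit 0) (nat_lit 58) List.nil) : List ℤ))
    = ?xq9005 → (List ℤ)) ?hq9005; (case hq9005 => (set_option maxRecDepth 1000000 in conv => lhs; reduce)); intro _; exact ?xq9005 (@OfNat.ofNat Int) (@instOfNat) (@Neg.neg Int Int.instNegInt) : List ℤ)

theorem hneA : ∀ i i', i < i' → pNV (pAdd (pScale (C i).den (C i').dn) (pNeg (pScale (C i').den (C i).dn))) = true ∨
    ∃ c, pNV (pAdd (pMul ((C i).nu c) ((C i').nu 0))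
      (pNeg (pMul ((C i').nu c) ((C i).nu 0)))) = true := by (simp only [H996.Eight.Kq.pNV_eq]; decide +kernel)

theorem hN : pEq (pSum TabE8b.kk) pol.N = true := by decide +kernel

/-- **The full certificate.** -/
noncomputable def full : Full TabE8b.A 0 2160 10 ![2, 3, 4, 6, 5, 4, 3, 2] where
  Da := TabE8b.data
  C := C
  i₀ := 0
  P := pol
  hP := ⟨rfl, rfl, rfl, hcls.symm⟩
  hN := hN
  triv := ⟨by decide +kernel, rfl, rfl⟩
  ok i _ := ⟨okA i, dvdA i⟩
  uq i _ := uq_of_spec C _ _ (fun i => (okA i).1) (fun i => (okA i).2.2.1) neA i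
  FF := FF
  LL := 2
  cf := cf
  hF := by decide +kernel
  hcf := by
    rw [hcls]
    simp only [H996.Eight.Kq.pEq_eq]
    decide +kernel
  hsum := by
    rw [hcls]
    simp only [H996.Eight.Kq.pEq_eq, H996.Eight.Kq.pZero_eq]
    decide +kernel
  hne := by
    rw [hcls]
    exact hneA
  NL := NL
  nr := 120
  nz := ⟨by decide⟩
  Z := rt
  hZ := hrt
  kap := kap
  hkap := hkap
  VV := VV
  hVV := hVV
  hD := by
    rw [hcls]
    simp only [H996.Eight.Kq.pEq_eq]
    decide +kernel

end Cfsg.Agent.H996.PQ.FullE8b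
end

-- part: H996/PQ/RowE8b
section
/-!
# The separation theorem and the polynomials: `E₈(q)`, node `0` (helper996, for S4612; made by a program)
-/

set_option autoImplicit false
set_option maxRecDepth 20000

namespace Cfsg.Agent.H996.PQ.FullE8b

open Cfsg Cfsg.Agent.H317.PQ Cfsg.Agent.H64.Dl.Sph Cfsg.Agent.H996.Eight Cfsg.Agent.H996.Eight.Cert Cfsg.Agent.H35.ExcIdx
open Cfsg.Lie Cfsg.Agent.ChevalleyStructure.CoxeterGeomTypes Cfsg.Agent.Nodes.RGDChev

universe u

theorem evdn6 (x : ℤ) : evZ x (pol.dn 6) = x ^ (4:ℕ) * (x ^ (4:ℕ) + x ^ (3:ℕ) + x ^ (2:ℕ) + x + 1) * (x ^ (6:ℕ) + x ^ (5:ℕ) + x ^ (4:ℕ) + x ^ (3:ℕ) + x ^ (2:ℕ) + x + 1) * (x ^ (4:ℕ) + 1) ^ (2:ℕ) * (x ^ (6:ℕ) + x ^ (3:ℕ) + 1) * (x ^ (4:ℕ) - x ^ (3:ℕ) + x ^ (2:ℕ) - x + 1) ^ (2:ℕ) * (x ^ (8:ℕ) - x ^ (7:ℕ) + x ^ (5:ℕ) - x ^ (4:ℕ) + x ^ (3:ℕ) - x + 1) * (x ^ (8:ℕ) - x ^ (6:ℕ) + x ^ (4:ℕ) - x ^ (2:ℕ) + 1) * (x ^ (8:ℕ) - x ^ (4:ℕ) + 1) * (x ^ (8:ℕ) + x ^ (7:ℕ) - x ^ (5:ℕ) - x ^ (4:ℕ) - x ^ (3:ℕ) + x + 1) := by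
  show evZ x (let yq1072 : List ℤ := (let yq1073 : List ℤ := (let yq1074 : List ℤ := (let yq1075 : List ℤ := %[2, 1, 0, 0, 1 | []];
  %[3, 1, 2, 1 | yq1075]);
  (let yq1076 : type_of% yq1074 := %[3, 6, 2, 4, 3 | yq1074];
  %[4, 9, 6, 5 | yq1076]));
  (let yq1077 : type_of% yq1073 := (let yq1078 : type_of% yq1073 := %[12, 9, 11, 6, 9 | yq1073];
  %[13, 9, 14, 6 | yq1078]);
  (let yq1079 : type_of% yq1077 := %[15, 7, 16, 11 | yq1077];
  %[15, 11, 16, 11 | yq1079])));
  (let yq1080 : type_of% yq1072 := (let yq1081 : type_of% yq1072 := (let yq1082 : type_of% yq1072 := %[9, 13, 11, 16, 7 | yq1072];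
  %[9, 12, 6, 14 | yq1082]);
  (let yq1083 : type_of% yq1081 := %[4, 9, 6, 11 | yq1081];
  %[3, 5, 6, 9 | yq1083]));
  (let yq1084 : type_of% yq1080 := (let yq1085 : type_of% yq1080 := %[3, 3, 4, 2, 6 | yq1080];
  %[2, 1, 2, 1 | yq1085]);
  (let yq1086 : type_of% yq1084 := %[1, 0, 0, 1 | yq1084];
  %[0, 0, 0, 0 | yq1086])))) = _
  simp only [evZ]
  (set_option synthInstance.maxSize 99999 in exact Cfsg.Agent.Lib.RingK.eq (by decide +kernel))

/-- the degrees: `evdn` -/
theorem deg {x : ℕ} (hx : 2 ≤ x) (i : Fin 10) : (pol.den i : ℤ) * (pol.deg x i : ℤ) = evZ x (pol.dn i) :=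
  full.degZ hx i

theorem hA : cartanOf chevE8 8 = TabE8b.A := FullE8a.hA

/-- the eigenvalues of the double cosets: row `i` (constituent), column `c` (double coset) -/
def lamL : List (List (List ℤ)) :=
  let y0 : List (List (List ℤ)) := (by
  refine (?fq9006 : (fun (Oz : (n : Nat) → OfNat Int n → Int) (Iz : (n : Nat) → OfNat Int n) (Gz : Int → Int) => (pk61l (fun i0 => (pk61l (fun i1 => ((fun g1 : Nat → Nat => pk61l (fun i2 => (pk61y Oz Iz Gz (pk61d (nat_lit 3) 
    (nat_lit 0x80000000000000000000000000008041201080000000000000000002092500449040000000000000049248592c800000000000030000000000000100832792c20100000000b259024924000004125011248200204024100a) i2))) (g1 i1) (g1 (Nat.succ i1)) List.nil) fun j => (pk61d (nat_lit 8) 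
    (nat_lit 0xebc6a17f614e331f0d0100) j))) (nat_lit 0) (nat_lit 10) List.nil)) (nat_lit 0) (nat_lit 1) List.nil : List (List (List ℤ))))
    = ?xq9006 → (List (List (List ℤ)))) ?hq9006; (case hq9006 => (set_option maxRecDepth 1000000 in conv => lhs; reduce)); intro _; exact ?xq9006 (@OfNat.ofNat Int) (@instOfNat) (@Neg.neg Int Int.instNegInt) : List (List (List ℤ)))
  let y1 : List (List (List ℤ)) := (by
  refine (?fq9007 : (fun (Oz : (n : Nat) → OfNat Int n → Int) (Iz : (n : Nat) → OfNat Int n) (Gz : Int → Int) (tl : List (List (List ℤ))) => (pk61l (fun i0 => (pk61l (fun i1 => ((fun g1 : Nat → Nat => pk61l (fun i2 => (pk61y Oz Iz Gz (pk61d (nat_lit 5) 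
    (nat_lit 0x4000000000000000000000000000000000000000000000400080210002008000000000000000000000000000000010042108c03084210040000000000000000000000008421084410842108000000000000000000000100020004400880010002000000000000021084211842108420000000004010842200821084010000080200042008001104000000000000000000000000000000000000000000000000080010042000010842000000000000000000000000000000000401084211088831882000200000000000000000000000042108012a56938c0221040000000000000000000021080008420000000000000000000010000431906000a7294600004000000000000046308088531461002108400000000080008ca538c211084210040000421080000420080011080000000000000000000000000000000000000000000000000000080010042010886210400000000000000000000000000000000000200842000a95bda9180c6310400000000000000000000000001084045425450133acda70084200000000000000000001084221104208421000000000000000000020046549406a6b9aa180549461008000000000000108403b6759a40aa4a0a200210800000000110c6300696bd69280021080200002210c41080108020004420000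00000000000000000000000000000000000000000000000002000401080210040008000000000000000000000000000000000008021088411884308841084010000000000000000000000000042118ca729d2749ca728c61084000000000000000000084210844108421080000000000000000000802208c6229066190a218c22080200000000000002108c65394e93a4e53946308420000000004010844208c421844208420080000400080210042008001104000000000000000000000000000000000000000000000000000000000000400080200463294a5184200000000000000000000000000000000000000001004002198c8418820ce95ace51840000000000000000000000000000080129d6b49c4ca73dec410029ce71842000000000000000000002000010842100842108000040000000000000000000842100a97def79a40aa6318828c00842100000000000000211108418077dfbddcd614298c418400800000000110c86314820ceb7bd6b28c001004000042218c6310820040100022) i2))) (g1 i1) (g1 (Nat.succ i1)) List.nil) fun j => (pk61d (nat_lit 11) 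
    (nat_lit 0x15cea7529a0f3a674cce9752a24e49b8e712e134057daf3ddbba2728e4db433d62abc56aab4530a053927148c86cf99cf366648bb15f2a053c8f0ed17e2543984d05804800800) j))) (Nat.mul (nat_lit 10) i0) (Nat.mul (nat_lit 10) (Nat.succ i0)) List.nil)) (nat_lit 0) (nat_lit 5) tl : List (List (List ℤ))))
    = ?xq9007 → (List (List (List ℤ)))) ?hq9007; (case hq9007 => (set_option maxRecDepth 1000000 in conv => lhs; reduce)); intro _; exact ?xq9007 (@OfNat.ofNat Int) (@instOfNat) (@Neg.neg Int Int.instNegInt) y0 : List (List (List ℤ)))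
  (by
  refine (?fq9008 : (fun (Oz : (n : Nat) → OfNat Int n → Int) (Iz : (n : Nat) → OfNat Int n) (Gz : Int → Int) (tl : List (List (List ℤ))) => (pk61l (fun i0 => (pk61l (fun i1 => ((fun g1 : Nat → Nat => pk61l (fun i2 => (pk61y Oz Iz Gz (pk61d (nat_lit 7) (Nat.add 
    (nat_lit 0x1040c18304021c99b429d3a3323400a2468d1828385060400000000000000000000000000000000000081020000081020c08102000020408000000000000000000000000000000000082061438710181018f3a9d6b35a9ce8f06106101c3850608080000000000000000000000020c287143068d121400699469d3a1364c381081830608080000000000000010410308143060b1418180871a3478d121c1810000100000010408184081420306080800002000010404000000000000000000000000000000000000000000000000000000000000000000000000000000000000000000000000000000000000000800000040830a1c38912244870a141810200000000000000000000000000000000000000000000000000000000000000000000000000000081040c2040a1018103123cb9d3e8d1a13a6498f121418100000000000000000000000000000000000000000000000000000000000820818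40b1a3870c12140469946ad7b15ea519b2634383020000000000000000000000000000000000000000000010204081020400001020408102040000000000000000000000000000000000000000001040c30918409952e58990140c1499f4aad6a94a7cb911614181000000000000000000000000000000082081c50e2454c19305890d0e0424897366cc951e2c383020000000000000000000041030a2050d1e44912203c6080a0804287121c385060408000000020410306102850a1420406080810000000820400000000000000000000000000000000000000000000000000000000000000000000000000000000000000000000000000000000000000000000000000000000000000000204082040c20408142850a102040608101020400000000000000000000000000000000000000000000000000000000000000000000000000000000000000000000000000081040c286122868f2248a1428509111e345090c141820204000000000000000000000000000000000000000000000000000000000000000000000000000041030a1c50e2250c1b3c810204078d98284470a0e14182020000000000000000000000000000000000000000000000000000000000001020408102080810204081000000000000000000000000000000000000000000000000000000000004082081840c1e4cc1b3e8d2a650992a33e6cc131e30406080808100000000000000000000000000000000000000000002081850e287112860d9e40810203c6cc1422385070a0c10100000000000000000000000000000004082061430914347912450a14284888f1a284860a0c101020000000000000004081040818408102850a14204080c102020408002)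 (Nat.shiftLeft 
    (nat_lit 0x800000000000000000000000000000000000000000000000000000000000000000000000000000000000008000040010008000040810200081000000000000000000000000000000000000000000000000000000000200080000004183061c187060c1810000002000800000000000000000000000000000000000000000400204102081420308101010100001830200000000810000000000000000000000000000020000002040810208081020408000000800000000000000000000000000040810a0c285060c1800004201000018306142830a040810000000000000000000020400000000418300000820820406102840408081000200000000000004001000000083060c3830e0c183020000004001000000102000810204000020004001000008204000000000000000000000000000000000000000000000000000000000000000000000000000000000000000000000001000008000082060c20508101820404000000000000000000000000000000000000000000000000000000000000000001000004187123478d1a1c0861850b18305080c1010100000000000) (nat_lit 8000))) i2))) (g1 i1) (g1 (Nat.succ i1)) List.nil) fun j => (pk61d (nat_lit 11) 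
    (nat_lit 0x653c457c6e1d99aef54698516a0b41266c968c50ce07be5784e99ca3936a6c4d6baa24f492d122053e27c0d09532183385006907806000800) j))) (Nat.mul (nat_lit 10) i0) (Nat.mul (nat_lit 10) (Nat.succ i0)) List.nil)) (nat_lit 0) (nat_lit 4) tl : List (List (List ℤ))))
    = ?xq9008 → (List (List (List ℤ)))) ?hq9008; (case hq9008 => (set_option maxRecDepth 1000000 in conv => lhs; reduce)); intro _; exact ?xq9008 (@OfNat.ofNat Int) (@instOfNat) (@Neg.neg Int Int.instNegInt) y1 : List (List (List ℤ)))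

/-- the eigenvalue of the double coset `c` on the constituent `i` -/
def lam (i c : Fin 10) : List ℤ := (lamL.getD i []).getD c []

theorem lam_ok : full.Lam lam := by
  show ∀ i c, pEq (pMul (lam i c) (full.P.nu i full.P.o)) (pMul (full.Da.kk c) (full.P.nu i c)) = true
  (simp only [H996.Eight.Kq.pEq_eq]; decide +kernel)

/-- **The extended theorem.** -/
theorem sepX {K : Type u} [Field K] [Fintype K] {p l : ℕ} (hp : p.Prime) (hl : l.Prime)
    (hS : Same p l ↥(chevE8.group K)) : SepX pol lam (Fintype.card K) p l (Nat.card ↥(chevE8.group K)) 0 :=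
  split_sepX hpE8 K hA full lam_ok (by decide +kernel)
    H241.PQ.hi_E8 TabE8a.data (by decide +kernel) (by decide +kernel) hp hl hS

end Cfsg.Agent.H996.PQ.FullE8b
end

-- part: H526/PQ/RowE8b
section
/-!
# S4612, the row `E₈(q)`: the tests with the node `0` (helper526)

`kill_B` : `Kill G q e f` for `(7,9)`, `(7,14)`, `(7,18)`, `(9,14)`, `(9,18)`, `(14,18)`; the constituent 6 has defect
zero for the primes of order 7.
-/

set_option autoImplicit false
set_option maxRecDepth 20000

namespace Cfsg.Agent.H526.PQ.E8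

open Cfsg Cfsg.Agent.H317.PQ Cfsg.Agent.H996.PQ Cfsg.Agent.H996.Eight.Cert Cfsg.Agent.H64.Dl.Sph Cfsg.Lie
open Cfsg.Agent.H792.PQ

universe u

/-- the certificates for node `0` -/
def CB : ℕ → Cert 10
  | 7 => (beta% delta% lq2625fc56bb69 fun vqc0 vqc1 vqc2 vqc3 _ _ _ _ _ _ _ =>
      (vqc2 vqc1 (vqc0 (vqc3 5 (vqc3 (vqc0 0 (vqc0 (-1) (vqc0 0 (vqc0 (-1) (vqc0 0 (vqc0 (-1) vqc1)))))) 1)) (vqc0 (vqc3 9 (vqc3 (vqc0 3 (vqc0 (-1) (vqc0 2 (vqc0 (-2) (vqc0 1 (vqc0 4 vqc1)))))) 14)) vqc1))))
  | 9 => (beta% delta% lq2625fc56bb69 fun vqc0 vqc1 vqc2 vqc3 _ _ _ _ _ _ _ =>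
      (vqc2 (vqc0 (vqc3 0 5) vqc1) (vqc0 (vqc3 9 (vqc3 (vqc0 (-2) (vqc0 0 (vqc0 (-1) (vqc0 (-1) (vqc0 0 (vqc0 (-2) vqc1)))))) 3)) vqc1)))
  | 14 => (beta% delta% lq2625fc56bb69 fun vqc0 vqc1 vqc2 vqc3 _ _ _ _ _ _ _ =>
      (vqc2 (vqc0 (vqc3 0 9) vqc1) (vqc0 (vqc3 6 (vqc3 (vqc0 6 (vqc0 (-5) (vqc0 4 (vqc0 (-3) (vqc0 2 (vqc0 (-1) vqc1)))))) 7)) vqc1)))
  | 18 => (beta% delta% lq2625fc56bb69 fun vqc0 vqc1 vqc2 vqc3 _ _ _ _ _ _ _ =>
      (vqc2 (vqc0 (vqc3 0 6) vqc1) (vqc0 (vqc3 5 (vqc3 (vqc0 2 (vqc0 0 (vqc0 (-1) (vqc0 (-2) (vqc0 1 (vqc0 1 vqc1)))))) 6)) vqc1)))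
  | _ => ⟨[], []⟩

/-- the pairs of orders killed by the certificates -/
def LB : List (ℕ × ℕ) := [(7, 9), (7, 14), (9, 14), (9, 18), (14, 18)]

theorem okB : ∀ e ∈ [7, 9, 14, 18], (CB e).ok FullE8b.pol FullE8b.lam e = true := by (delta Cert.ok; simp only [H996.Eight.Kq.chkDvd_eq, H996.Eight.Kq.chkR_eq]; decide +kernel)

theorem noB : ∀ x ∈ LB, ∀ S : Finset (Fin 10), 0 ∈ S → (CB x.1).Good S → (CB x.2).Good S → False := by
  intro x hx S h0 h1 h2
  simp only [LB, List.mem_cons, List.not_mem_nil, or_false] at hx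
  rcases hx with rfl | rfl | rfl | rfl | rfl
  · exact h1.2 (5, [0, -1, 0, -1, 0, -1], 1) (by decide) ((h2.1 (0, 5) (by decide)).1 h0)
  · exact h1.2 (9, [3, -1, 2, -2, 1, 4], 14) (by decide) ((h2.1 (0, 9) (by decide)).1 h0)
  · exact h1.2 (9, [-2, 0, -1, -1, 0, -2], 3) (by decide) ((h2.1 (0, 9) (by decide)).1 h0)
  · exact h2.2 (5, [2, 0, -1, -2, 1, 1], 6) (by decide) ((h1.1 (0, 5) (by decide)).1 h0)
  · exact h1.2 (6, [6, -5, 4, -3, 2, -1], 7) (by decide) ((h2.1 (0, 6) (by decide)).1 h0)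

theorem memB : ∀ x ∈ LB, x.1 ∈ [7, 9, 14, 18] ∧ x.2 ∈ [7, 9, 14, 18] ∧ 2 ≤ x.1 ∧ 2 ≤ x.2 := by decide

variable (F : Type u) [Field F] [Fintype F]

theorem kill_certB : ∀ x ∈ LB, Kill ↥(chevE8.group F) (Fintype.card F) x.1 x.2 := fun x hx =>
  kill_of Fintype.card_pos (fun _ _ hp hl hS => FullE8b.sepX hp hl hS) (memB x hx).2.2.1 (memB x hx).2.2.2
    (okB _ (memB x hx).1) (okB _ (memB x hx).2.1) (noB x hx)

/-! ### order 7: the constituent `6` has defect zero -/

variable {F}

theorem not_six {r : ℕ} (hr : r.Prime) (hr2 : r ≠ 2)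
    (he : ord (Fintype.card F) r = 7) (hrG : r ∣ Nat.card ↥(chevE8.group F)) {S : Finset (Fin 10)}
    (T : TstX FullE8b.pol FullE8b.lam (Fintype.card F) r (Nat.card ↥(chevE8.group F)) S) : (6 : Fin 10) ∉ S := by
  obtain ⟨q, hq⟩ : ∃ q, Fintype.card F = q := ⟨_, rfl⟩
  have hq1 : 1 ≤ q := by rw [← hq]; exact Fintype.card_pos
  rw [hq] at he
  have hcard := S1065.result hq
  have hn : ∀ n, ¬ 7 ∣ n → ¬ r ∣ q ^ n - 1 := fun n hn h => hn (by rw [← he, ord_dvd hq1]; exact h)
  have hy : ∀ n, 7 ∣ n → r ∣ q ^ n - 1 := fun n hn => by rw [← ord_dvd hq1, he]; exact hn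
  have hrq : ¬ r ∣ q := by
    intro h
    have : Fact r.Prime := ⟨hr⟩
    have h0 : (q : ZMod r) = 0 := (ZMod.natCast_eq_zero_iff q r).2 h
    rw [ord, h0, orderOf_zero (ZMod r)] at he
    exact absurd he (by norm_num)
  have hrq' : ∀ n, ¬ r ∣ q ^ n := fun n h => hrq (hr.dvd_of_dvd_pow h)
  -- `q ^ n + 1` for `e ∣ n`
  have hp : ∀ n, 7 ∣ n → ¬ r ∣ q ^ n + 1 := by
    intro n hen h
    have h1 : 1 ≤ q ^ n := Nat.one_le_pow _ _ hq1
    have h6 : r ∣ (q ^ n + 1) - (q ^ n - 1) := Nat.dvd_sub h (hy n hen)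
    have h7 : (q ^ n + 1) - (q ^ n - 1) = 2 := by omega
    rw [h7] at h6
    exact hr2 ((Nat.prime_dvd_prime_iff_eq hr Nat.prime_two).1 h6)
  have hN : Nat.card ↥(chevE8.group F) =
      (q ^ (120:ℕ) * (q ^ (2:ℕ) - 1) * (q ^ (8:ℕ) - 1) * (q ^ (12:ℕ) - 1) * ((q ^ (1:ℕ) - 1) * (q ^ (7:ℕ) + 1)) * (q ^ (18:ℕ) - 1) *
        (q ^ (20:ℕ) - 1) * (q ^ (24:ℕ) - 1) * (q ^ (30:ℕ) - 1)) * (q ^ (6:ℕ) + q ^ (5:ℕ) + q ^ (4:ℕ) + q ^ (3:ℕ) + q ^ (2:ℕ) + q + 1) := by
    rw [hcard]
    have e14 : q ^ (14:ℕ) - 1 = (q ^ (1:ℕ) - 1) * (q ^ (7:ℕ) + 1) * (q ^ (6:ℕ) + q ^ (5:ℕ) + q ^ (4:ℕ) + q ^ (3:ℕ) + q ^ (2:ℕ) + q + 1) := by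
      obtain ⟨t, rfl⟩ : ∃ t, q = t + 1 := ⟨q - 1, by omega⟩
      have h6 : (t + 1) ^ (14:ℕ) = ((t + 1) ^ (1:ℕ) - 1) * ((t + 1) ^ (7:ℕ) + 1) *
          ((t + 1) ^ (6:ℕ) + (t + 1) ^ (5:ℕ) + (t + 1) ^ (4:ℕ) + (t + 1) ^ (3:ℕ) + (t + 1) ^ (2:ℕ) + (t + 1) + 1) + 1 := by
        rw [pow_one, Nat.add_sub_cancel]
        (set_option synthInstance.maxSize 99999 in exact Cfsg.Agent.Lib.RingK.eqN (by decide +kernel))
      omega
    rw [e14]
    ring
  have hrN : ¬ r ∣ (q ^ (120:ℕ) * (q ^ (2:ℕ) - 1) * (q ^ (8:ℕ) - 1) * (q ^ (12:ℕ) - 1) * ((q ^ (1:ℕ) - 1) * (q ^ (7:ℕ) + 1)) *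
      (q ^ (18:ℕ) - 1) * (q ^ (20:ℕ) - 1) * (q ^ (24:ℕ) - 1) * (q ^ (30:ℕ) - 1)) := by
    simp only [hr.dvd_mul, not_or]
    exact ⟨⟨⟨⟨⟨⟨⟨⟨hrq' _, hn 2 (by norm_num)⟩, hn 8 (by norm_num)⟩, hn 12 (by norm_num)⟩, hn 1 (by norm_num),
      hp 7 dvd_rfl⟩, hn 18 (by norm_num)⟩, hn 20 (by norm_num)⟩, hn 24 (by norm_num)⟩, hn 30 (by norm_num)⟩
  have hP : ((q ^ (6:ℕ) + q ^ (5:ℕ) + q ^ (4:ℕ) + q ^ (3:ℕ) + q ^ (2:ℕ) + q + 1 : ℕ) : ℤ) ∣ evZ q (FullE8b.pol.dn 6) := by
    rw [FullE8b.evdn6 (q : ℤ)]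
    push_cast
    exact Dvd.intro_left
      ((q : ℤ) ^ (4:ℕ) * (q ^ (4:ℕ) + q ^ (3:ℕ) + q ^ (2:ℕ) + q + 1) * (q ^ (4:ℕ) + 1) ^ (2:ℕ) * (q ^ (6:ℕ) + q ^ (3:ℕ) + 1) *
        (q ^ (4:ℕ) - q ^ (3:ℕ) + q ^ (2:ℕ) - q + 1) ^ (2:ℕ) * (q ^ (8:ℕ) - q ^ (7:ℕ) + q ^ (5:ℕ) - q ^ (4:ℕ) + q ^ (3:ℕ) - q + 1) *
        (q ^ (8:ℕ) - q ^ (6:ℕ) + q ^ (4:ℕ) - q ^ (2:ℕ) + 1) * (q ^ (8:ℕ) - q ^ (4:ℕ) + 1) *
        (q ^ (8:ℕ) + q ^ (7:ℕ) - q ^ (5:ℕ) - q ^ (4:ℕ) - q ^ (3:ℕ) + q + 1)) (by (set_option synthInstance.maxSize 99999 in exact Cfsg.Agent.Lib.RingK.eq (by decide +kernel)))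
  intro h3
  have h4 := T.dz 6 h3 hrG
  have hq2 : 2 ≤ q := by rw [← hq]; exact Fintype.one_lt_card
  rw [hq] at h4
  have hdeg := FullE8b.deg (x := q) hq2 6
  have hden : FullE8b.pol.den 6 = 2 := by decide +kernel
  rw [hden] at hdeg
  have hDn : (q ^ (6:ℕ) + q ^ (5:ℕ) + q ^ (4:ℕ) + q ^ (3:ℕ) + q ^ (2:ℕ) + q + 1) ∣ 2 * FullE8b.pol.deg q 6 := by
    rw [← Int.natCast_dvd_natCast]
    push_cast
    push_cast at hdeg hP
    rw [hdeg]
    exact hP
  obtain ⟨D, hD⟩ := hDn
  have hd0 : FullE8b.pol.deg q 6 ≠ 0 := by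
    intro h0
    have h7 : (0 : ℚ) < ev (q : ℚ) (FullE8b.pol.dn 6) :=
      ev_pos (by exact_mod_cast hq2) (by decide +kernel)
    have h8 := FullE8b.deg (x := q) hq2 6
    rw [h0, Nat.cast_zero, mul_zero] at h8
    have h9 := evZ_cast (q : ℤ) (FullE8b.pol.dn 6)
    rw [← h8] at h9
    push_cast at h9
    rw [← h9] at h7
    exact lt_irrefl _ h7
  exact absurd h4 (not_lt.2 (fac_le hr hr2 hd0 hN hrN hD))

variable (F)

theorem kill_7_18 : Kill ↥(chevE8.group F) (Fintype.card F) 7 18 := by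
  intro p l hp hl hp2 hl2 _ hpG _ h1 h2 hS
  obtain ⟨S, h0, T, T'⟩ := FullE8b.sepX hp hl hS
  have g := Cert.good (okB 18 (by decide)) Fintype.card_pos hl hl2 h2 (by norm_num) T'
  exact not_six hp hp2 h1 hpG T ((g.1 (0, 6) (by decide)).1 h0)

/-- the pairs killed by node `0` -/
def LD : List (ℕ × ℕ) := [(7, 9), (7, 14), (7, 18), (9, 14), (9, 18), (14, 18)]

theorem kill_B : ∀ x ∈ LD, Kill ↥(chevE8.group F) (Fintype.card F) x.1 x.2 := by
  intro x hx
  by_cases h : x = (7, 18)
  · subst h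
    exact kill_7_18 F
  · exact kill_certB F x ((by decide : ∀ x ∈ LD, x ≠ (7, 18) → x ∈ LB) x hx h)

end Cfsg.Agent.H526.PQ.E8
end

-- part: H526/PQ/AsmE8
section
/-!
# S4612, the row `E₈(q)`: assembly (helper526)

`row_of` : the row from the left-over pairs `LC` and the pair `2`, order 3; `row_of'` : from the pairs `(2,6)`, `(4,12)`,
`(5,15)`, `(8,24)` and the pair `2`, order 3.
-/

set_option autoImplicit false

namespace Cfsg.Agent.H526.PQ.E8

open Cfsg Cfsg.Agent.H317.PQ Cfsg.Lie

theorem hes {F : Type*} [Field F] [Fintype F] {r : ℕ} [hC : CharP F r] (p : ℕ) (hp : p.Prime)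
    (hpG : p ∣ Nat.card ↥(chevE8.group F)) :
    p = r ∨ p ∣ Fintype.card F - 1 ∨ ord (Fintype.card F) p ∈ es := by
  obtain ⟨q, hq⟩ : ∃ q, Fintype.card F = q := ⟨_, rfl⟩
  have hq1 : 1 ≤ q := by rw [← hq]; exact Fintype.card_pos
  rw [S1065.result hq] at hpG
  rw [hq]
  by_cases hpq : p ∣ q
  · left
    obtain ⟨n, hr, hn⟩ := FiniteField.card F r
    rw [hq] at hn
    rw [hn] at hpq
    exact (Nat.prime_dvd_prime_iff_eq hp hr).1 (hp.dvd_of_dvd_pow hpq)
  right
  have key : ∀ d, p ∣ q ^ d - 1 → 0 < d → d ∈ [2, 8, 12, 14, 18, 20, 24, 30] → p ∣ q - 1 ∨ ord q p ∈ es := by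
    intro d hd hd0 hdm
    rw [← ord_dvd hq1] at hd
    have h0 := Nat.pos_of_dvd_of_pos hd hd0
    have hle := Nat.le_of_dvd hd0 hd
    rw [← ord_eq_one hq1]
    have dec : ∀ d ∈ [2, 8, 12, 14, 18, 20, 24, 30], ∀ n ≤ d, n ∣ d → n = 1 ∨ n ∈ es := by decide +kernel
    exact dec d hdm _ hle hd
  simp only [hp.dvd_mul] at hpG
  rcases hpG with (((((((h | h) | h) | h) | h) | h) | h) | h) | h
  · exact absurd (hp.dvd_of_dvd_pow h) hpq
  all_goals exact key _ h (by norm_num) (by simp)

/-- **The row `E₈(q)`** from the left-over pairs. -/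
theorem row_of {F : Type} [Field F] [Fintype F]
    (hLC : ∀ x ∈ LC, Kill ↥(chevE8.group F) (Fintype.card F) x.1 x.2)
    (h3 : Fintype.card F % 2 = 1 → KillTwo ↥(chevE8.group F) (Fintype.card F) 3) : Row ↥(chevE8.group F) := by
  obtain ⟨r, hr⟩ := CharP.exists F
  have hrp : r.Prime := CharP.char_is_prime F r
  have hlie : IsLieTypeChar r ↥(chevE8.group F) := by
    refine Or.inr (Or.inr (Or.inr (Or.inr (Or.inr (Or.inr (Or.inl ⟨F, inferInstance, inferInstance, hr, ?_⟩))))))
    exact Or.inr (Or.inr (Or.inr (Or.inr ⟨MulEquiv.refl _⟩)))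
  refine row_of_kill (r := r) (q := Fintype.card F) ?_ (fun l hl hlr hlG => H947.PQ.row_own hrp hl hlr hlie hlG)
    lin_E8 linTwo_E8 es (fun p hp hpG => hes p hp hpG) ?_ ?_
  · intro p hp hpq
    obtain ⟨n, hr', hn⟩ := FiniteField.card F r
    rw [hn] at hpq
    exact (Nat.prime_dvd_prime_iff_eq hp hr').1 (hp.dvd_of_dvd_pow hpq)
  · intro e he f hf hef
    rcases hef.lt_or_eq with h | rfl
    · by_cases hm : (e, f) ∈ LC
      · exact hLC _ hm
      · exact kill_A F e he f hf h hm
    · exact H755.PQ.tor_E8 F e he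
  · intro h4 f hf
    by_cases hf3 : f = 3
    · subst hf3
      exact h3 (by omega)
    · exact killTwo F (by omega) f hf hf3

/-- **The row `E₈(q)`** from the four left-over pairs. -/
theorem row_of' {F : Type} [Field F] [Fintype F]
    (h26 : Kill ↥(chevE8.group F) (Fintype.card F) 2 6)
    (h412 : Kill ↥(chevE8.group F) (Fintype.card F) 4 12)
    (h515 : Kill ↥(chevE8.group F) (Fintype.card F) 5 15)
    (h824 : Kill ↥(chevE8.group F) (Fintype.card F) 8 24)
    (h3 : Fintype.card F % 2 = 1 → KillTwo ↥(chevE8.group F) (Fintype.card F) 3) : Row ↥(chevE8.group F) := by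
  refine row_of ?_ h3
  intro x hx
  have key : ∀ x ∈ LC, x = (2, 6) ∨ x = (4, 12) ∨ x = (5, 15) ∨ x = (8, 24) ∨ x ∈ LD := by decide
  rcases key x hx with rfl | rfl | rfl | rfl | h
  · exact h26
  · exact h412
  · exact h515
  · exact h824
  · exact kill_B F x h

end Cfsg.Agent.H526.PQ.E8
end

private theorem dce_309f5f587d2f : _root_.True := by
  try have : _root_.True := by simp only [_root_.Cfsg.Agent.H526.PQ.E8.LB.eq_1]
  exact _root_.True.intro
end

-- part: H638/PQ/Final
section
prune_inst 0x10000000000000000000000000000001000000000000000000000000000000000000000000000000000000000000100000000000000000000000000000000000000000000000000000000000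
set_option linter.all false
open scoped Cfsg.Agent.FastGrp

-- part: H638/PQ/Asm
section
/-!
# S4612: the final assembly over the list of the finite simple groups (helper638)

* `row_of_cross` : a row from the pairs of cross characteristic;
* `Rows` : the rows, on the concrete groups;
* `main` : S4612 from `Rows`.
-/

set_option autoImplicit false

open Cfsg Cfsg.Agent

namespace Cfsg.Agent.H638.PQ.Asm

open Cfsg.Agent.H317.PQ Cfsg.Lie

universe u

/-- the rows -/
structure Rows : Prop where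
  psl : ∀ (F : Type) [Field F] [Fintype F] (n : ℕ), 2 ≤ n → (n = 2 → 4 ≤ Fintype.card F) →
    Row (Matrix.ProjectiveSpecialLinearGroup (Fin n) F)
  psp : ∀ (F : Type) [Field F] [Fintype F] (m : ℕ), 2 ≤ m → (m = 2 → 3 ≤ Fintype.card F) → Row (PSp m F)
  psu : ∀ (F : Type) [Field F] [Fintype F] (n q : ℕ), Fintype.card F = q ^ 2 → 3 ≤ n → ¬ (n = 3 ∧ q = 2) →
    Row (PSU n F q)
  odd : ∀ (F : Type) [Field F] [Fintype F] (m : ℕ), 3 ≤ m → Odd (Fintype.card F) → Row (POmega F (quadFormOdd m F))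
  plus : ∀ (F : Type) [Field F] [Fintype F] (m : ℕ), 4 ≤ m → Row (POmega F (quadFormPlus m F))
  minus : ∀ (F : Type) [Field F] [Fintype F] (m : ℕ) (a b : F), 4 ≤ m →
    (∀ z₁ z₂ : F, z₁ ^ 2 + a * z₁ * z₂ + b * z₂ ^ 2 = 0 → z₁ = 0 ∧ z₂ = 0) →
    Row (POmega F (quadFormMinus (m - 1) F a b))
  G2 : ∀ (F : Type) [Field F] [Fintype F], 3 ≤ Fintype.card F → Row (chevG2.group F)
  F4 : ∀ (F : Type) [Field F] [Fintype F], Row (chevF4.group F)
  E6 : ∀ (F : Type) [Field F] [Fintype F], Row (chevE6.group F)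
  E7 : ∀ (F : Type) [Field F] [Fintype F], Row (chevE7.group F)
  E8 : ∀ (F : Type) [Field F] [Fintype F], Row (chevE8.group F)
  twE6 : ∀ (K : Type) [Field K] [Fintype K] (q : ℕ), IsPrimePow q → Fintype.card K = q ^ 2 → Row (twistedE6 K q)
  twD4 : ∀ (K : Type) [Field K] [Fintype K] (q : ℕ), IsPrimePow q → Fintype.card K = q ^ 3 → Row (twistedD4 K q)
  suz : ∀ (F : Type) [Field F] [Fintype F] (m : ℕ), 1 ≤ m → Fintype.card F = 2 ^ (2 * m + 1) →
    Row (Cfsg.Lie.Sz F (2 ^ (m + 1)))
  ree : ∀ (K : Type) [Field K] [Fintype K] (m : ℕ), 1 ≤ m → Fintype.card K = 3 ^ (2 * m + 1) →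
    Row (twistedG2 K (3 ^ m))
  twF4 : ∀ (K : Type) [Field K] [Fintype K] (m : ℕ), 1 ≤ m → Fintype.card K = 2 ^ (2 * m + 1) →
    Row (twistedF4 K (2 ^ m))

/-- the row of every non-abelian finite simple group -/
theorem Rows.row (R : Rows) (htits : ∀ (S : Type u) [Group S] [Finite S] [IsSimpleGroup S], IsoTits S → Row S)
    (hspor : ∀ (S : Type u) [Group S] [Finite S] [IsSimpleGroup S], IsSporadicGroup S → Row S)
    (S : Type u) [Group S] [Finite S] [IsSimpleGroup S] (hna : ¬ IsMulCommutative S) : Row S := by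
  rcases Cfsg.Agent.S0000.result (G := S) with h | h | h | h | h | h | h | h | h | h
  · exfalso
    apply hna
    have : Fact (Nat.card S).Prime := ⟨h⟩
    have hc : IsCyclic S := isCyclic_of_prime_card rfl
    exact ⟨⟨fun a b => (IsCyclic.commGroup (α := S)).mul_comm a b⟩⟩
  · obtain ⟨n, hn, ⟨e⟩⟩ := h
    exact H766.PQ.Row.of_equiv e.symm (H766.PQ.row_alt hn)
  · obtain ⟨F, iF, iF', n, hn, hn2, ⟨e⟩⟩ := h
    exact H766.PQ.Row.of_equiv e.symm (R.psl F n hn hn2)
  · obtain ⟨F, iF, iF', n, hn, hn2, ⟨e⟩⟩ := h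
    exact H766.PQ.Row.of_equiv e.symm (R.psp F n hn hn2)
  · obtain ⟨F, iF, iF', n, q, hq, hn, hn2, ⟨e⟩⟩ := h
    exact H766.PQ.Row.of_equiv e.symm (R.psu F n q hq hn hn2)
  · obtain ⟨F, iF, iF', n, hn, hn2, ⟨e⟩⟩ := h
    exact H766.PQ.Row.of_equiv e.symm (R.odd F n hn hn2)
  · obtain ⟨F, iF, iF', n, hn, ⟨e⟩⟩ := h
    exact H766.PQ.Row.of_equiv e.symm (R.plus F n hn)
  · obtain ⟨F, iF, iF', n, a, b, hn, hab, ⟨e⟩⟩ := h
    exact H766.PQ.Row.of_equiv e.symm (R.minus F n a b hn hab)
  · rcases h with h | h | h | h | h | h | h | h | h | h | h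
    · obtain ⟨F, iF, iF', hF, ⟨e⟩⟩ := h
      exact H766.PQ.Row.of_equiv e.symm (R.G2 F hF)
    · obtain ⟨F, iF, iF', ⟨e⟩⟩ := h
      exact H766.PQ.Row.of_equiv e.symm (R.F4 F)
    · obtain ⟨F, iF, iF', ⟨e⟩⟩ := h
      exact H766.PQ.Row.of_equiv e.symm (R.E6 F)
    · obtain ⟨F, iF, iF', ⟨e⟩⟩ := h
      exact H766.PQ.Row.of_equiv e.symm (R.E7 F)
    · obtain ⟨F, iF, iF', ⟨e⟩⟩ := h
      exact H766.PQ.Row.of_equiv e.symm (R.E8 F)
    · obtain ⟨F, iF, iF', q, hq, hF, ⟨e⟩⟩ := h
      exact H766.PQ.Row.of_equiv e.symm (R.twE6 F q hq hF)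
    · obtain ⟨F, iF, iF', q, hq, hF, ⟨e⟩⟩ := h
      exact H766.PQ.Row.of_equiv e.symm (R.twD4 F q hq hF)
    · obtain ⟨F, iF, iF', m, hm, hF, ⟨e⟩⟩ := h
      exact H766.PQ.Row.of_equiv e.symm (R.suz F m hm hF)
    · obtain ⟨F, iF, iF', m, hm, hF, ⟨e⟩⟩ := h
      exact H766.PQ.Row.of_equiv e.symm (R.ree F m hm hF)
    · obtain ⟨F, iF, iF', m, hm, hF, ⟨e⟩⟩ := h
      exact H766.PQ.Row.of_equiv e.symm (R.twF4 F m hm hF)
    · exact htits S h
  · exact hspor S h

/-- **S4612 from the rows** -/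
theorem main (R : Rows) (htits : ∀ (S : Type u) [Group S] [Finite S] [IsSimpleGroup S], IsoTits S → Row S)
    (hspor : ∀ (S : Type u) [Group S] [Finite S] [IsSimpleGroup S], IsSporadicGroup S → Row S)
    {G : Type u} [Group G] [Finite G] (p q : ℕ) [Fact p.Prime] [Fact q.Prime] (hpq : p ≠ q) (hp : p ∣ Nat.card G)
    (hq : q ∣ Nat.card G) (Mp Mq : Ideal Cfsg.AlgInt) (hMp : Cfsg.IsPModular p Mp) (hMq : Cfsg.IsPModular q Mq) :
    Cfsg.principalBlock Mp G ≠ Cfsg.principalBlock Mq G :=
  H451.PQ.main (fun S _ _ _ hna => R.row htits hspor S hna) p q hpq hp hq Mp Mq hMp hMq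

end Cfsg.Agent.H638.PQ.Asm
end

-- part: H355/PQ/Main
section
/-!
# S4612, the row of `PSL_n`: the orders of `|F|` modulo `p` and `q` are both at least 2 (helper355)
-/

set_option autoImplicit false
set_option linter.unusedSectionVars false

open Cfsg Module MulAction

namespace Cfsg.Agent.H355.PQ

open Cfsg.Agent.H317.PQ Cfsg.Agent.H329.PQ Cfsg.Agent.H766.PQ Cfsg.Agent.H358.A3
open Cfsg.Agent.H791.PQL (det_el_eq_one dvd_card_SL)
open Cfsg.Agent.H729.PQD0 (same_of_surjective)
open Cfsg.Agent.H423.PQ (chain_of_orbits)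
open Cfsg.Agent.H16.PQL (card_orbits_Gr)
open Cfsg.Agent.H29.PQL (card_Gr_lt)
open Cfsg.Agent.H219.PQL (inv_el exists_inv_el)
open Cfsg.Agent.H975.PQL (pq_red)

universe u v

theorem exists_chain (F : Type u) [Field F] [Finite F] (V : Type v) [AddCommGroup V] [Module F V]
    [FiniteDimensional F V] (hV : 2 ≤ finrank F V) : ∃ χ : ℕ → IrrCharacter (SpecialLinearGroup F V), Chain F V χ := by
  have : Finite (SpecialLinearGroup F V) := finite_SL
  obtain ⟨χ, h1, h2⟩ := chain_of_orbits (G := SpecialLinearGroup F V) (fun k => Gr F V k) (finrank F V / 2)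
    (fun j k hjk hk => card_orbits_Gr hjk (by omega) hV) (fun k hk => card_Gr_lt (by omega))
  refine ⟨χ, fun i j hi hj h => h1 i j (by omega) (by omega) h, fun k hk g => ?_⟩
  rw [← h2 k (by omega) g, card_fixedBy_Gr]

/-- the trivial character -/
def oneI (G : Type u) [Group G] : IrrCharacter G := ⟨fun _ => 1, Blocks.Basic.isIrrCharacter_one⟩

theorem one_mem_B0 {G : Type u} [Group G] {p : ℕ} : oneI G ∈ B0 p G := by
  intro M hM
  have : Fact p.Prime := ⟨hM.1⟩
  have : M.IsPrime := Blocks.Local.isPrime_of_isPModular hM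
  exact Blocks.PrincipalSection.one_mem_principalBlock

theorem PQ_subset {G : Type u} [Group G] [Finite G] {p q : ℕ} (hq : q.Prime) (h : PQ p q G) :
    B0 q G ⊆ B0 p G := by
  intro ψ hψ
  obtain ⟨M, hM⟩ := Blocks.ExistsModular.exists_isPModular hq
  have h1 : SameBlock M (oneI G : G → ℂ) (ψ : G → ℂ) := hψ M hM
  exact h M hM (oneI G) ψ h1 one_mem_B0

section

variable {F : Type} [Field F] [Finite F]

theorem same_SL {V : Type} [AddCommGroup V] [Module F V] [FiniteDimensional F V] {n p q : ℕ} (hp : p.Prime)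
    (hq : q.Prime) (hp1 : ¬ p ∣ Nat.card F - 1) (hq1 : ¬ q ∣ Nat.card F - 1) (hn : finrank F V = n)
    (hS : Same p q (Matrix.ProjectiveSpecialLinearGroup (Fin n) F)) : Same p q (SpecialLinearGroup F V) := by
  have : Finite (SpecialLinearGroup F V) := finite_SL
  exact same_of_surjective hp hq (toPSL_surjective hn) (not_dvd_card_of_le_center hp hp1 (ker_toPSL hn))
    (not_dvd_card_of_le_center hq hq1 (ker_toPSL hn)) hS

/-- the orders `f < e` -/
theorem part_two_lt {n p q e f : ℕ} (hp : p.Prime) (hq : q.Prime) (hpq : p ≠ q) (hpF : ¬ p ∣ Nat.card F)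
    (hqF : ¬ q ∣ Nat.card F) (hf2 : 2 ≤ f) (hfe : f < e) (hen : e ≤ n)
    (he : ∀ d : ℕ, p ∣ Nat.card F ^ d - 1 ↔ e ∣ d) (hf : ∀ d : ℕ, q ∣ Nat.card F ^ d - 1 ↔ f ∣ d) :
    ¬ Same p q (Matrix.ProjectiveSpecialLinearGroup (Fin n) F) := by
  classical
  intro hS
  have hp1 : ¬ p ∣ Nat.card F - 1 := by
    intro h1
    have h2 := Nat.le_of_dvd one_pos ((he 1).1 (by rwa [pow_one]))
    omega
  have hq1 : ¬ q ∣ Nat.card F - 1 := by
    intro h1
    have h2 := Nat.le_of_dvd one_pos ((hf 1).1 (by rwa [pow_one]))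
    omega
  have hndvd : ¬ f ∣ e := not_dvd_of_same hp hq hpq (by omega) hf2 hen he hf hS
  have hS' : ∀ (V : Type) [AddCommGroup V] [Module F V] [FiniteDimensional F V], finrank F V = n →
      Same p q (SpecialLinearGroup F V) := fun V _ _ _ hn => same_SL hp hq hp1 hq1 hn hS
  obtain ⟨K, _, _, ζ, h⟩ := exists_dat F hp (by omega) he
  have := h.finK
  have : FiniteDimensional F K := Module.Finite.of_finite
  -- the numbers
  set! w := n / e with hw
  set! a := n % e with ha
  set! m := n / f with hm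
  set! b := n % f with hb
  have hnw : n = e * w + a := (Nat.div_add_mod n e).symm
  have hnm : n = f * m + b := (Nat.div_add_mod n f).symm
  have hae : a < e := Nat.mod_lt _ (by omega)
  have hbf : b < f := Nat.mod_lt _ (by omega)
  have hw1 : 1 ≤ w := Nat.div_pos hen (by omega)
  have hm1 : 1 ≤ m := Nat.div_pos (by omega) (by omega)
  have hew : e ≤ e * w := Nat.le_mul_of_pos_right _ hw1
  have hfm : f ≤ f * m := Nat.le_mul_of_pos_right _ hm1
  -- the reductions
  have hPQ1 : PQ p q (SpecialLinearGroup F (Sp K w (Fin a → F))) := by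
    have : Finite (SpecialLinearGroup F (Sp K w (Fin a → F))) := finite_SL
    exact PQ.of_same hq (hS' _ (by rw [finrank_Sp h, finrank_fin_fun]; omega))
  have haf : a < f := by
    by_contra hcon
    have h1 := pq_red h (by omega) hw1 hq hpq hPQ1
    have : Finite (SpecialLinearGroup F (Fin a → F)) := finite_SL
    have h2 := PQ.core hp hq hpq h1 ⊤ (by
      rw [Subgroup.card_top, dvd_card_SL hp hpF he (by omega), finrank_fin_fun]
      omega)
    rw [Subgroup.card_top, dvd_card_SL hq hqF hf hf2, finrank_fin_fun] at h2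
    omega
  have hPQ2 : PQ p q (SpecialLinearGroup F (Fin (e + a) → F)) := by
    by_cases hw2 : w = 1
    · have : Finite (SpecialLinearGroup F (Fin (e + a) → F)) := finite_SL
      exact PQ.of_same hq (hS' _ (by rw [finrank_fin_fun]; rw [hw2] at hnw; omega))
    · obtain ⟨w', hw'⟩ : ∃ w', w = w' + 1 := ⟨w - 1, by omega⟩
      have h1 : PQ p q (SpecialLinearGroup F (Sp K w' (Fin (e + a) → F))) := by
        have : Finite (SpecialLinearGroup F (Sp K w' (Fin (e + a) → F))) := finite_SL
        refine PQ.of_same hq (hS' _ ?_)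
        rw [finrank_Sp h, finrank_fin_fun, hnw, hw']
        ring
      exact pq_red h (by omega) (by omega) hq hpq h1
  -- the characters of `SL_n`
  obtain ⟨χ, hχ⟩ := exists_chain F (Fin n → F) (by rw [finrank_fin_fun]; omega)
  have hsame : Same p q (SpecialLinearGroup F (Fin n → F)) := hS' _ (finrank_fin_fun F)
  have hB : B0 p (SpecialLinearGroup F (Fin n → F)) = B0 q (SpecialLinearGroup F (Fin n → F)) := hsame
  have hfr : finrank F (Fin n → F) = n := finrank_fin_fun F
  have F1p : ∀ k, 1 ≤ k → k < e → 2 * k ≤ n → k ≠ a + 1 → χ k ∉ B0 p (SpecialLinearGroup F (Fin n → F)) :=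
    fun k h1 h2 h3 h4 => not_mem_B0 hp hpF (by omega) he (hfr.trans hnw) hae hχ h1 h2 (by rw [hfr]; exact h3) h4
  have F1q : ∀ k, 1 ≤ k → k < f → 2 * k ≤ n → k ≠ b + 1 → χ k ∉ B0 q (SpecialLinearGroup F (Fin n → F)) :=
    fun k h1 h2 h3 h4 => not_mem_B0 hq hqF (by omega) hf (hfr.trans hnm) hbf hχ h1 h2 (by rw [hfr]; exact h3) h4
  have hab : a = b := by
    by_cases ha1 : a + 1 < f
    · have h1 : χ (a + 1) ∈ B0 p (SpecialLinearGroup F (Fin n → F)) :=
        mem_B0 hp hpF he (hfr.trans hnw) (by omega) (by rw [hfr]; omega) hχ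
      by_contra hne
      rw [hB] at h1
      exact F1q (a + 1) (by omega) ha1 (by omega) (by omega) h1
    · by_contra hne
      have h1 : χ (b + 1) ∈ B0 q (SpecialLinearGroup F (Fin n → F)) :=
        mem_B0 hq hqF hf (hfr.trans hnm) (by (clear * - hnw hnm hbf haf hfr ha1 hne; omega)) (by rw [hfr]; (clear * - hfe hnw hbf hew ha1; omega)) hχ
      rw [← hB] at h1
      exact F1p (b + 1) (by omega) (by omega) (by (clear * - hfe hnw hbf hew ha1; omega)) (by omega) h1
  by_cases ha1 : a + 1 < f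
  · -- `fix_ge`
    have hmm : 2 ≤ m := by
      by_contra hcon
      have : m = 1 := by omega
      rw [this] at hnm
      omega
    have hf2m : f * 2 ≤ f * m := Nat.mul_le_mul_left _ hmm
    have hbmem : χ (b + 1) ∈ B0 q (SpecialLinearGroup F (Fin n → F)) :=
      mem_B0 hq hqF hf (hfr.trans hnm) (by omega) (by rw [hfr]; omega) hχ
    have hfmem : χ f ∉ B0 q (SpecialLinearGroup F (Fin n → F)) := by
      rw [← hB]
      exact F1p f (by omega) hfe (by omega) (by omega)
    obtain ⟨K', _, _, ζ', h'⟩ := exists_dat F hq (by omega) hf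
    have := h'.finK
    have : FiniteDimensional F K' := Module.Finite.of_finite
    obtain ⟨r, hr⟩ := CharP.exists F
    have hfin : finrank F (Fin n → F) = finrank F (Sp K' m (Fin b → F)) := by
      rw [finrank_Sp h', finrank_fin_fun, finrank_fin_fun]
      exact hnm
    obtain ⟨g, hg1, hg2, -⟩ := exists_elt (LinearEquiv.ofFinrankEq (Fin n → F) (Sp K' m (Fin b → F)) hfin)
      ⟨el ζ' (LinearEquiv.refl F (Fin b → F)), det_el_eq_one h' (by omega) (by simp)⟩
    have hinv : ∀ k, k < f → inv k (g.1 : (Fin n → F) →ₗ[F] (Fin n → F)) =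
        inv k ((LinearEquiv.refl F (Fin b → F) : (Fin b → F) ≃ₗ[F] (Fin b → F)) : (Fin b → F) →ₗ[F] (Fin b → F)) := by
      intro k hk
      rw [hg1]
      exact inv_el h' hqF (r := r) _ ⟨0, by simp; rfl⟩ hk
    have hel : ∀ j : ℕ, (el (w := m) ζ' (LinearEquiv.refl F (Fin b → F))) ^ j = el (ζ' ^ j) (LinearEquiv.refl F _) := by
      intro j
      induction j with
      | zero =>
        rw [pow_zero, pow_zero]
        apply LinearEquiv.ext
        intro v
        rw [el_apply]
        simp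
      | succ m ih =>
        rw [pow_succ, ih]
        apply LinearEquiv.ext
        intro v
        change el (ζ' ^ m) (LinearEquiv.refl F _) (el ζ' (LinearEquiv.refl F _) v) = _
        rw [el_apply, el_apply, el_apply, pow_succ]
        simp [mul_assoc]
    have hgq : g ^ q = 1 := by
      apply hg2
      apply Subtype.ext
      change (el ζ' (LinearEquiv.refl F (Fin b → F))) ^ q = 1
      rw [hel, ← h'.ord, pow_orderOf_eq_one]
      apply LinearEquiv.ext
      intro v
      rw [el_apply]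
      simp
    have : Finite (SpecialLinearGroup F (Fin n → F)) := finite_SL
    have hord : ∃ k : ℕ, orderOf g = q ^ k := by
      have h1 := orderOf_dvd_of_pow_eq_one hgq
      rcases (Nat.dvd_prime hq).1 h1 with h1 | h1
      · exact ⟨0, by rw [h1, pow_zero]⟩
      · exact ⟨1, by rw [h1, pow_one]⟩
    -- an invariant subspace of dimension `f`
    obtain ⟨x⟩ : Nonempty {W : Submodule F (Fin n → F) // finrank F W = f ∧
        W.map (g.1 : (Fin n → F) →ₗ[F] (Fin n → F)) = W} := by
      have h1 : 0 < inv f (g.1 : (Fin n → F) →ₗ[F] (Fin n → F)) := by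
        rw [hg1]
        obtain ⟨W, hW1, hW2⟩ := exists_inv_el (w := m) h' hm1 (LinearEquiv.refl F (Fin b → F))
        have : Finite (Sp K' m (Fin b → F)) := Module.finite_of_finite F
        have : Nonempty {W : Submodule F (Sp K' m (Fin b → F)) // finrank F W = f ∧
          W.map ((el ζ' (LinearEquiv.refl F (Fin b → F)) : Sp K' m (Fin b → F) ≃ₗ[F] Sp K' m (Fin b → F)) :
            Sp K' m (Fin b → F) →ₗ[F] Sp K' m (Fin b → F)) = W} := ⟨⟨W, hW1, hW2⟩⟩
        exact Nat.card_pos
      by_contra hcon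
      rw [not_nonempty_iff] at hcon
      unfold inv at h1
      rw [Nat.card_of_isEmpty] at h1
      exact lt_irrefl _ h1
    let S : Finset (Fin (f + 1)) := Finset.univ.filter fun i => χ i ∈ B0 q (SpecialLinearGroup F (Fin n → F))
    obtain ⟨c, hc1, hc2⟩ := Cfsg.Agent.H739.PQ.fix_ge hq (hχ.mf (k := f) (by rw [hfr]; omega)) S
      (fun i => by simp [S]) hord (n := 1) (fun _ => (⟨x.1, x.2.1⟩ : Gr F (Fin n → F) f))
      (fun _ => Subtype.ext x.2.2) (fun i j hij => absurd (Subsingleton.elim i j) hij)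
    have hSeq : S = {⟨0, by omega⟩, ⟨b + 1, by omega⟩} := by
      ext i
      simp only [S, Finset.mem_filter, Finset.mem_univ, true_and, Finset.mem_insert, Finset.mem_singleton]
      constructor
      · intro hi
        by_contra hne
        push Not at hne
        have hi0 : (i : ℕ) ≠ 0 := fun h => hne.1 (Fin.ext h)
        have hib : (i : ℕ) ≠ b + 1 := fun h => hne.2 (Fin.ext h)
        by_cases hif : (i : ℕ) = f
        · rw [hif] at hi
          exact hfmem hi
        · exact F1q i (by omega) (by omega) (by omega) hib hi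
      · rintro (rfl | rfl)
        · have h4 : χ 0 = oneI _ :=
            Subtype.ext (funext fun g => hχ.zero g)
          change χ 0 ∈ _
          rw [h4]
          exact one_mem_B0
        · exact hbmem
    rw [hSeq, Finset.sum_pair (by intro h; have := congrArg Fin.val h; simp at this)] at hc1
    change (χ 0 : SpecialLinearGroup F (Fin n → F) → ℂ) g + (χ (b + 1) : SpecialLinearGroup F (Fin n → F) → ℂ) g = _
      at hc1
    rw [hχ.zero, hχ.succ (by rw [hfr]; (clear * - hfe hnw hew hab ha1; omega)), hinv _ (by omega), hinv _ (by omega),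
      inv_eq_zero_of_lt _ (by rw [finrank_fin_fun]; omega)] at hc1
    have hbb : inv b ((LinearEquiv.refl F (Fin b → F) : (Fin b → F) ≃ₗ[F] (Fin b → F)) :
        (Fin b → F) →ₗ[F] (Fin b → F)) = 1 := by
      have := inv_finrank (F := F) (LinearEquiv.refl F (Fin b → F))
      rwa [finrank_fin_fun] at this
    rw [hbb] at hc1
    have : (c : ℂ) = 0 := by rw [← hc1]; simp
    have : c = 0 := by exact_mod_cast this
    omega
  · -- `a = f - 1`
    have haf1 : a + 1 = f := by (clear * - hnw hnm haf hfr hab ha1; omega)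
    set n' := e + a with hn'
    have hdm := Nat.div_add_mod e f
    have hh1 : e % f ≠ 0 := fun h => hndvd (Nat.dvd_of_mod_eq_zero h)
    have hh2 : e % f < f := Nat.mod_lt _ (by omega)
    set! hh := e % f with hhdef; rewrite [← hhdef] at hh2 hh1 hdm
    have hefge : 1 ≤ e / f := Nat.div_pos hfe.le (by omega)
    obtain ⟨χ', hχ'⟩ := exists_chain F (Fin n' → F) (by rw [finrank_fin_fun]; (clear * - hf2 hfe hnw hnm haf hfr hab ha1 hdm; omega))
    have hfr' : finrank F (Fin n' → F) = n' := finrank_fin_fun F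
    have h1 : χ' (hh - 1 + 1) ∈ B0 q (SpecialLinearGroup F (Fin n' → F)) := by
      refine mem_B0 hq hqF hf (w := e / f + 1) (a := hh - 1) ?_ (by (clear * - hndvd hh2; omega)) (by rw [hfr']; (clear * - hfe ha1 hh2; omega)) hχ'
      rw [hfr', hn', Nat.mul_add, mul_one]
      (clear * - hndvd haf ha1 hdm; omega)
    have : Finite (SpecialLinearGroup F (Fin n' → F)) := finite_SL
    have h2 := PQ_subset hq hPQ2 h1
    refine not_mem_B0 hp hpF (by (clear * - hfe haf; omega)) he (w := 1) (a := a) ?_ hae hχ' (by omega) (by (clear * - hfe hh2; omega)) (by rw [hfr']; (clear * - hfe ha1 hh2; omega))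
      (by (clear * - hndvd ha1 hh2; omega)) h2
    rw [hfr', mul_one]

/-- **Part II** : both orders are at least 2 -/
theorem part_two {n p q e f : ℕ} (hp : p.Prime) (hq : q.Prime) (hpq : p ≠ q) (hpF : ¬ p ∣ Nat.card F)
    (hqF : ¬ q ∣ Nat.card F) (he2 : 2 ≤ e) (hf2 : 2 ≤ f) (hen : e ≤ n) (hfn : f ≤ n)
    (he : ∀ d : ℕ, p ∣ Nat.card F ^ d - 1 ↔ e ∣ d) (hf : ∀ d : ℕ, q ∣ Nat.card F ^ d - 1 ↔ f ∣ d) :
    ¬ Same p q (Matrix.ProjectiveSpecialLinearGroup (Fin n) F) := by
  intro hS
  rcases lt_trichotomy f e with h1 | h1 | h1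
  · exact part_two_lt hp hq hpq hpF hqF hf2 h1 hen he hf hS
  · exact not_dvd_of_same hp hq hpq he2 hf2 hen he hf hS (by rw [h1])
  · exact part_two_lt hq hp hpq.symm hqF hpF he2 h1 hfn hf he hS.symm

end

end Cfsg.Agent.H355.PQ
end

-- part: H355/PQ/RowPSL
section
/-!
# S4612: the row of `PSL_n` (helper355)
-/

set_option autoImplicit false
set_option linter.unusedSectionVars false

open Cfsg Module

namespace Cfsg.Agent.H355.PQ

open Cfsg.Agent.H317.PQ Cfsg.Agent.H329.PQ Cfsg.Agent.H766.PQ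
open Cfsg.Agent.H791.PQL (dvd_card_SL)
open Cfsg.Agent.H154.PQL (row_lin2)
open Cfsg.Agent.H528.PQL (row_lin1)

section

variable {F : Type} [Field F] [Finite F]

theorem card_dvd {n : ℕ} : Nat.card (Matrix.ProjectiveSpecialLinearGroup (Fin n) F) ∣
    Nat.card (SpecialLinearGroup F (Fin n → F)) :=
  Subgroup.card_dvd_of_surjective (toPSL (finrank_fin_fun F)) (toPSL_surjective _)

/-- the condition of Part I -/
def Lin (F : Type) (q : ℕ) : Prop := (q ≠ 2 ∧ q ∣ Nat.card F - 1) ∨ (q = 2 ∧ 4 ∣ Nat.card F - 1)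

theorem row_cross_aux {n : ℕ} (hn : 2 ≤ n) {p q r : ℕ} (hp : p.Prime) (hq : q.Prime) (hpq : p ≠ q) [CharP F r]
    (hpr : p ≠ r) (hqr : q ≠ r) (hpG : p ∣ Nat.card (Matrix.ProjectiveSpecialLinearGroup (Fin n) F))
    (hqG : q ∣ Nat.card (Matrix.ProjectiveSpecialLinearGroup (Fin n) F)) (hp2 : p ≠ 2) :
    ¬ Same p q (Matrix.ProjectiveSpecialLinearGroup (Fin n) F) := by
  have : Fact r.Prime := ⟨CharP.char_is_prime F r⟩
  intro hS
  have hnd : ∀ l : ℕ, l.Prime → l ≠ r → ¬ l ∣ Nat.card F := by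
    intro l hl hlr hdvd
    have := Fintype.ofFinite F
    obtain ⟨k, -, hk⟩ := FiniteField.card F r
    rw [Nat.card_eq_fintype_card, hk] at hdvd
    exact hlr ((Nat.prime_dvd_prime_iff_eq hl Fact.out).1 (hl.dvd_of_dvd_pow hdvd))
  have hpF := hnd p hp hpr
  have hqF := hnd q hq hqr
  have hF0 : 0 < Nat.card F := Nat.card_pos
  by_cases h1 : Lin F q
  · exact row_lin1 hn hp hq hpq hpr hqr h1 hS
  by_cases h2 : Lin F p
  · exact row_lin1 hn hq hp hpq.symm hqr hpr h2 hS.symm
  unfold Lin at h1 h2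
  push Not at h1 h2
  obtain ⟨e, he0, he⟩ := exists_ord hp hF0 hpF
  have hp1 : ¬ p ∣ Nat.card F - 1 := h2.1 hp2
  have he2 : 2 ≤ e := by
    by_contra hcon
    have : e = 1 := by omega
    subst this
    exact hp1 (by simpa only [_root_.pow_one] using (he 1).2 dvd_rfl)
  have hen : e ≤ n := by
    have h3 := (dvd_card_SL (V := Fin n → F) hp hpF he he2).1 (hpG.trans card_dvd)
    rwa [finrank_fin_fun] at h3
  by_cases hq2 : q = 2
  · subst hq2
    have h4 : Nat.card F % 4 = 3 := by
      have h5 := h1.2 rfl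
      have h6 : ¬ 2 ∣ Nat.card F := hqF
      omega
    by_cases hev : Even e
    · exact core_two hp hp2 he2 hev hen he h4 hS
    · have hodd := Nat.not_even_iff_odd.1 hev
      have he3 : 3 ≤ e := by
        obtain ⟨k, hk⟩ := hodd
        omega
      exact row_lin2 (by omega) hp hp2 hpr h4 he he3 hodd hS
  · obtain ⟨f, hf0, hf⟩ := exists_ord hq hF0 hqF
    have hf2 : 2 ≤ f := by
      by_contra hcon
      have : f = 1 := by omega
      subst this
      exact h1.1 hq2 (by simpa only [_root_.pow_one] using (hf 1).2 dvd_rfl)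
    have hfn : f ≤ n := by
      have h3 := (dvd_card_SL (V := Fin n → F) hq hqF hf hf2).1 (hqG.trans card_dvd)
      rwa [finrank_fin_fun] at h3
    exact part_two hp hq hpq hpF hqF he2 hf2 hen hfn he hf hS

/-- different primes, both different from the characteristic -/
theorem row_cross {n : ℕ} (hn : 2 ≤ n) {p q r : ℕ} (hp : p.Prime) (hq : q.Prime) (hpq : p ≠ q) [CharP F r]
    (hpr : p ≠ r) (hqr : q ≠ r) (hpG : p ∣ Nat.card (Matrix.ProjectiveSpecialLinearGroup (Fin n) F))
    (hqG : q ∣ Nat.card (Matrix.ProjectiveSpecialLinearGroup (Fin n) F)) :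
    ¬ Same p q (Matrix.ProjectiveSpecialLinearGroup (Fin n) F) := by
  by_cases hp2 : p = 2
  · intro hS
    exact row_cross_aux hn hq hp hpq.symm hqr hpr hqG hpG (by rw [← hp2]; exact hpq.symm) hS.symm
  · exact row_cross_aux hn hp hq hpq hpr hqr hpG hqG hp2

end

/-- **The row of `PSL_n`.** -/
theorem row_psl (F : Type) [Field F] [Fintype F] {n : ℕ} (hn : 2 ≤ n) (hn2 : n = 2 → 4 ≤ Fintype.card F) :
    Row (Matrix.ProjectiveSpecialLinearGroup (Fin n) F) := by
  obtain ⟨r, hr⟩ := CharP.exists F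
  have hrp : r.Prime := CharP.char_is_prime F r
  have hLie : IsLieTypeChar r (Matrix.ProjectiveSpecialLinearGroup (Fin n) F) :=
    Or.inl ⟨F, inferInstance, inferInstance, hr, n, hn, hn2, ⟨MulEquiv.refl _⟩⟩
  intro p q hp hq hpq hpG hqG hS
  by_cases hpr : p = r
  · subst hpr
    exact H947.PQ.row_own hp hq hpq.symm hLie hqG hS
  by_cases hqr : q = r
  · subst hqr
    exact H947.PQ.row_own hq hp hpq hLie hpG hS.symm
  exact row_cross (r := r) hn hp hq hpq hpr hqr hpG hqG hS

end Cfsg.Agent.H355.PQ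
end

-- part: H355/TF/RowTwF
section
/-!
# S4612, the row `²F₄(q)`, `q ≥ 8` (helper355)
-/

set_option autoImplicit false

open Cfsg Cfsg.Agent

namespace Cfsg.Agent.H355.TF

open Cfsg.Agent.H317.PQ

/-- **The row `²F₄(q)`.** -/
theorem row_twF (K : Type) [Field K] [Fintype K] (m : ℕ) (hm : 1 ≤ m) (hK : Fintype.card K = 2 ^ (2 * m + 1)) :
    Row ↥(Lie.twistedF4 K (2 ^ m)) := by
  obtain ⟨P, χ, hX, hP, h0, h1, h2, h3, h4⟩ := H638.PQ.TwFMF.exists_mf (K := K) hm hK
    (Q := 2 * (2 ^ m) ^ 2) (r := 2 * 2 ^ m) (by ring) (by ring)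
  have hfin : Finite ↥(Lie.twistedF4 K (2 ^ m)) := inferInstance
  refine (row_of_mf hm hK hX ?_ fun i => ?_ :)
  · show ((Nat.card (_ ⧸ P) : ℕ) : ℤ) = _
    rw [← Subgroup.index]
    rw [hP]
    unfold NX TB Cp Cm DD Ep Em
    ring
  · generalize (2 : ℤ) ^ m = b at *
    fin_cases i
    · show (charDegree (χ 0 : ↥(Lie.twistedF4 K (2 ^ m)) → ℂ) : ℤ) = 1
      rw [h0]; rfl
    · show (charDegree (χ 1 : ↥(Lie.twistedF4 K (2 ^ m)) → ℂ) : ℤ) = d1 b
      rw [h1]; unfold d1 DD Ep Em; ring
    · show (charDegree (χ 2 : ↥(Lie.twistedF4 K (2 ^ m)) → ℂ) : ℤ) = d2 b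
      refine mul_left_cancel₀ (show (4 : ℤ) ≠ 0 by norm_num) (h2.trans ?_)
      unfold d2 TB Cm DD Ep; ring
    · show (charDegree (χ 3 : ↥(Lie.twistedF4 K (2 ^ m)) → ℂ) : ℤ) = d3 b
      refine mul_left_cancel₀ (show (4 : ℤ) ≠ 0 by norm_num) (h3.trans ?_)
      unfold d3 TB Cp DD Em; ring
    · show (charDegree (χ 4 : ↥(Lie.twistedF4 K (2 ^ m)) → ℂ) : ℤ) = d4 b
      refine mul_left_cancel₀ (show (2 : ℤ) ≠ 0 by norm_num) (h4.trans ?_)
      unfold d4 Cp Cm Ep Em; ring

end Cfsg.Agent.H355.TF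
end

-- part: H137/PQ/RowSz
section
/-!
# S4612: the row `Sz(q)` (helper137)
-/

set_option autoImplicit false

open Cfsg

namespace Cfsg.Agent.H137.PQ

open Cfsg.Agent.H317.PQ Subgroup

universe u

theorem fac_le {c r u v d : ℕ} (hr : r.Prime) (hc0 : c ≠ 0) (hc : c = u * v) (hv : ¬ r ∣ v) (hd : d ≠ 0) (hud : u ∣ d) :
    c.factorization r ≤ d.factorization r := by
  have hu : u ≠ 0 := by rintro rfl; exact hc0 (by rw [hc, zero_mul])
  have hv0 : v ≠ 0 := by rintro rfl; exact hv (dvd_zero _)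
  rw [hc, Nat.factorization_mul hu hv0, Finsupp.add_apply, Nat.factorization_eq_zero_of_not_dvd hv, add_zero]
  exact (Nat.factorization_le_iff_dvd hu hd).2 hud r

theorem not_dvd_index_of {G : Type*} [Group G] {A : Subgroup G} {r u v : ℕ} (hG : Nat.card G = u * v)
    (hA : Nat.card A = u) (hu : u ≠ 0) (hv : ¬ r ∣ v) : ¬ r ∣ A.index := by
  have h1 := A.card_mul_index
  rw [hG, hA] at h1
  rw [Nat.eq_of_mul_eq_mul_left (Nat.pos_of_ne_zero hu) h1]
  exact hv

section arith

variable {k t a b r : ℕ}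

theorem sz_ab (ht : t + 1 = 8 * k ^ 2) (ha : a = 8 * k ^ 2 + 4 * k + 1) (hb : b + 4 * k = 8 * k ^ 2 + 1) :
    a * b = (8 * k ^ 2) ^ 2 + 1 := by
  have hb' : (b : ℤ) = 8 * k ^ 2 + 1 - 4 * k := by
    have : ((b + 4 * k : ℕ) : ℤ) = ((8 * k ^ 2 + 1 : ℕ) : ℤ) := by rw [hb]
    push_cast at this
    linarith only [hb]
  zify
  rw [ha, hb']
  push_cast
  ring

theorem sz_coprime (hr : r.Prime) (hk : ∃ n, k = 2 ^ n) (hr2 : r ≠ 2) : ¬ r ∣ 8 * k ^ 2 := by
  obtain ⟨n, rfl⟩ := hk
  intro h
  apply hr2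
  have h1 : 8 * (2 ^ n) ^ 2 = 2 ^ (2 * n + 3) := by ring
  rw [h1] at h
  exact (Nat.prime_dvd_prime_iff_eq hr Nat.prime_two).1 (hr.dvd_of_dvd_pow h)

theorem sz_t (hr : r.Prime) (hr2 : r ≠ 2) (ht : t + 1 = 8 * k ^ 2) (h1 : r ∣ t) (h2 : r ∣ (8 * k ^ 2) ^ 2 + 1) : False := by
  rw [← ht] at h2
  have h3 : (t + 1) ^ 2 + 1 = t * (t + 2) + 2 := by ring
  rw [h3] at h2
  have h4 : r ∣ 2 := (Nat.dvd_add_right (h1.mul_right _)).1 h2
  exact hr2 ((Nat.prime_dvd_prime_iff_eq hr Nat.prime_two).1 h4)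

theorem sz_ab' (hr : r.Prime) (hk : ∃ n, k = 2 ^ n) (hr2 : r ≠ 2) (ha : a = 8 * k ^ 2 + 4 * k + 1)
    (hb : b + 4 * k = 8 * k ^ 2 + 1) (h1 : r ∣ a) (h2 : r ∣ b) : False := by
  have h3 : a = b + 8 * k := by omega
  rw [h3] at h1
  have h4 : r ∣ 8 * k := (Nat.dvd_add_right h2).1 h1
  exact sz_coprime hr hk hr2 (by rw [pow_two, ← mul_assoc]; exact h4.mul_right _)

end arith

/-- **the row `Sz(q)`** -/
theorem row_sz {S : Type u} [Group S] (h : Lie.IsoSuzuki S) : Row S := by
  have h0 := h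
  obtain ⟨F, _, _, m, hm, hF, ⟨e⟩⟩ := h
  have hfinS : Finite S := Finite.of_equiv _ e.toEquiv.symm
  intro p l hp hl hpl hpG hlG hS
  have hlie : IsLieTypeChar 2 S := Or.inr (Or.inr (Or.inr (Or.inr (Or.inr (Or.inr (Or.inr (Or.inr (Or.inl ⟨rfl, h0⟩))))))))
  by_cases hp2 : p = 2
  · subst hp2
    exact H947.PQ.row_own Nat.prime_two hl (Ne.symm hpl) hlie hlG hS
  by_cases hl2 : l = 2
  · subst hl2
    exact H947.PQ.row_own Nat.prime_two hp hpl hlie hpG hS.symm
  have hsim : IsSimpleGroup S := H400.LieSimple.isSimple_of_lie hlie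
  have : Fact (Nat.Prime 2) := ⟨Nat.prime_two⟩
  have hperf : commutator S = ⊤ := H330.Gow.perfect_of_split (H330.Gow.hasSplit_of_ab
    (H716.SplitAb.hasSplitAb_of_lie Nat.prime_two hlie))
  obtain ⟨e'⟩ := OddCyclic.ClaimC.SzIso.iso hm hF
  obtain ⟨T, A, B, D⟩ := H404.SzPaw.exists_tori hm hF
  have f : S ≃* Sz F m := e.trans e'.symm
  have hfin : Finite (Sz F m) := Finite.of_equiv _ f.toEquiv
  -- numbers
  obtain ⟨k, hk⟩ : ∃ k, k = 2 ^ (m - 1) := ⟨_, rfl⟩
  have hk' : ∃ n, k = 2 ^ n := ⟨_, hk⟩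
  have hk0 : 1 ≤ k := hk ▸ Nat.one_le_two_pow
  have hq : 2 ^ (2 * m + 1) = 8 * k ^ 2 := by
    obtain ⟨j, rfl⟩ : ∃ j, m = j + 1 := ⟨m - 1, by omega⟩
    rw [hk, Nat.add_sub_cancel]
    ring
  have hr : 2 ^ (m + 1) = 4 * k := by
    obtain ⟨j, rfl⟩ : ∃ j, m = j + 1 := ⟨m - 1, by omega⟩
    rw [hk, Nat.add_sub_cancel]
    ring
  have hkk : k ≤ k ^ 2 := by nlinarith only []
  obtain ⟨t, ht⟩ : ∃ t, t + 1 = 8 * k ^ 2 := ⟨8 * k ^ 2 - 1, by omega⟩
  obtain ⟨a, ha⟩ : ∃ a, a = 8 * k ^ 2 + 4 * k + 1 := ⟨_, rfl⟩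
  obtain ⟨b, hb⟩ : ∃ b, b + 4 * k = 8 * k ^ 2 + 1 := ⟨8 * k ^ 2 + 1 - 4 * k, by (clear * - hkk; omega)⟩
  have hab := sz_ab ht ha hb
  have ht0 : t ≠ 0 := by omega
  have ha0 : a ≠ 0 := by omega
  have hb0 : b ≠ 0 := by omega
  have hcard : Nat.card (Sz F m) = (8 * k ^ 2) ^ 2 * (a * b) * t := by
    rw [D.kS, hq, hab, show 8 * k ^ 2 - 1 = t by omega]
  have hcT : Nat.card T = t := by have := D.kT; omega
  have hcA : Nat.card A = a := by rw [D.kA, hq, hr, ha]
  have hcB : Nat.card B = b := by have := D.kB; omega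
  have hc0 : Nat.card S ≠ 0 := Nat.card_pos.ne'
  have hSS : Nat.card S = Nat.card (Sz F m) := Nat.card_congr f.toEquiv
  -- the three cases for an odd prime
  have hdvd : ∀ r : ℕ, r.Prime → r ≠ 2 → r ∣ Nat.card S → r ∣ t ∨ r ∣ a ∨ r ∣ b := by
    intro r hr hr2 h
    rw [hSS, hcard] at h
    rcases (Nat.Prime.dvd_mul hr).1 h with h | h
    · rcases (Nat.Prime.dvd_mul hr).1 h with h | h
      · exact absurd (hr.dvd_of_dvd_pow h) (sz_coprime hr hk' hr2)
      · exact Or.inr ((Nat.Prime.dvd_mul hr).1 h)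
    · exact Or.inl h
  have hT : ∀ r : ℕ, r.Prime → r ≠ 2 → r ∣ t → ¬ r ∣ (8 * k ^ 2) ^ 2 * (a * b) := by
    intro r hr hr2 h1 h2
    rcases (Nat.Prime.dvd_mul hr).1 h2 with h | h
    · exact absurd (hr.dvd_of_dvd_pow h) (sz_coprime hr hk' hr2)
    · exact sz_t hr hr2 ht h1 (hab ▸ h)
  have hA : ∀ r : ℕ, r.Prime → r ≠ 2 → r ∣ a → ¬ r ∣ (8 * k ^ 2) ^ 2 * b * t := by
    intro r hr hr2 h1 h2
    rcases (Nat.Prime.dvd_mul hr).1 h2 with h | h
    · rcases (Nat.Prime.dvd_mul hr).1 h with h | h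
      · exact absurd (hr.dvd_of_dvd_pow h) (sz_coprime hr hk' hr2)
      · exact sz_ab' hr hk' hr2 ha hb h1 h
    · exact sz_t hr hr2 ht h (hab ▸ h1.mul_right b)
  have hB : ∀ r : ℕ, r.Prime → r ≠ 2 → r ∣ b → ¬ r ∣ (8 * k ^ 2) ^ 2 * a * t := by
    intro r hr hr2 h1 h2
    rcases (Nat.Prime.dvd_mul hr).1 h2 with h | h
    · rcases (Nat.Prime.dvd_mul hr).1 h with h | h
      · exact absurd (hr.dvd_of_dvd_pow h) (sz_coprime hr hk' hr2)
      · exact sz_ab' hr hk' hr2 ha hb h h1
    · exact sz_t hr hr2 ht h (hab ▸ h1.mul_left a)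
  have eT : Nat.card (Sz F m) = t * ((8 * k ^ 2) ^ 2 * (a * b)) := by rw [hcard]; ring
  have eA : Nat.card (Sz F m) = a * ((8 * k ^ 2) ^ 2 * b * t) := by rw [hcard]; ring
  have eB : Nat.card (Sz F m) = b * ((8 * k ^ 2) ^ 2 * a * t) := by rw [hcard]; ring
  have hS' : Same p l (Sz F m) := H766.PQ.Same.of_equiv f hS
  -- odd degrees
  have hdeg : ∀ χ : IrrCharacter S, ¬ 2 ∣ charDegree (χ : S → ℂ) → ((χ : S → ℂ) = fun _ => 1) ∨
      charDegree (χ : S → ℂ) = a * b ∨ charDegree (χ : S → ℂ) = t * a ∨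
      charDegree (χ : S → ℂ) = t * b := by
    intro χ hχ
    have h1 : charDegree (χ : S → ℂ) ∈ charDegrees S := ⟨χ, rfl⟩
    rw [H678.SuzGraph.mem_charDegrees hm hF ⟨e⟩ k t a b hk ht ha hb] at h1
    have e4 : 64 * k ^ 4 = (8 * k ^ 2) ^ 2 := by ring
    rcases h1 with h1 | h1 | h1 | h1 | h1 | h1
    · left
      by_contra hne
      exact absurd (MTwelve.ElevenBlock.one_lt_charDegree hperf χ.2 hne) (by rw [h1]; exact lt_irrefl 1)
    · exact absurd (h1 ▸ ⟨32 * k ^ 4, by ring⟩) hχ
    · right; left; rw [h1, hab, e4]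
    · right; right; left; exact h1
    · right; right; right; exact h1
    · exact absurd (h1 ▸ ⟨t * k, by ring⟩) hχ
  have key : ∀ p l : ℕ, p.Prime → l.Prime → p ≠ 2 → l ≠ 2 → p ∣ Nat.card S → l ∣ Nat.card S →
      (p ∣ t ∧ l ∣ a ∨ p ∣ t ∧ l ∣ b ∨ p ∣ a ∧ l ∣ b) → ¬ Same p l S := by
    intro p l hp hl hp2 hl2 hpG hlG h
    refine not_same_mod hp hl Nat.prime_two hpG hlG fun χ hχ => ?_
    rcases hdeg χ hχ with h1 | h1 | h1 | h1
    · exact Or.inl h1
    · right; right
      rw [h1]
      rcases h with ⟨-, h⟩ | ⟨-, h⟩ | ⟨-, h⟩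
      · exact fac_le hl hc0 (hSS.trans eA) (hA l hl hl2 h) (mul_ne_zero ha0 hb0) (dvd_mul_right _ _)
      · exact fac_le hl hc0 (hSS.trans eB) (hB l hl hl2 h) (mul_ne_zero ha0 hb0) (dvd_mul_left _ _)
      · exact fac_le hl hc0 (hSS.trans eB) (hB l hl hl2 h) (mul_ne_zero ha0 hb0) (dvd_mul_left _ _)
    · right; left
      rw [h1]
      rcases h with ⟨h, -⟩ | ⟨h, -⟩ | ⟨h, -⟩
      · exact fac_le hp hc0 (hSS.trans eT) (hT p hp hp2 h) (mul_ne_zero ht0 ha0) (dvd_mul_right _ _)
      · exact fac_le hp hc0 (hSS.trans eT) (hT p hp hp2 h) (mul_ne_zero ht0 ha0) (dvd_mul_right _ _)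
      · exact fac_le hp hc0 (hSS.trans eA) (hA p hp hp2 h) (mul_ne_zero ht0 ha0) (dvd_mul_left _ _)
    · rw [h1]
      rcases h with ⟨h, -⟩ | ⟨h, -⟩ | ⟨-, h⟩
      · exact Or.inr (Or.inl (fac_le hp hc0 (hSS.trans eT) (hT p hp hp2 h) (mul_ne_zero ht0 hb0) (dvd_mul_right _ _)))
      · exact Or.inr (Or.inl (fac_le hp hc0 (hSS.trans eT) (hT p hp hp2 h) (mul_ne_zero ht0 hb0) (dvd_mul_right _ _)))
      · exact Or.inr (Or.inr (fac_le hl hc0 (hSS.trans eB) (hB l hl hl2 h) (mul_ne_zero ht0 hb0) (dvd_mul_left _ _)))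
  have ab : ∀ X : Subgroup (Sz F m), IsCyclic X → IsMulCommutative X := fun X hX =>
    ⟨⟨(IsCyclic.commGroup (α := X)).mul_comm⟩⟩
  rcases hdvd p hp hp2 hpG with h1 | h1 | h1 <;> rcases hdvd l hl hl2 hlG with h2 | h2 | h2
  · exact H990.PQ.Same.core_abelian hp hl hpl hS' T (ab T D.cyT) (not_dvd_index_of eT hcT ht0 (hT p hp hp2 h1))
      (hcT ▸ h2)
  · exact key p l hp hl hp2 hl2 hpG hlG (Or.inl ⟨h1, h2⟩) hS
  · exact key p l hp hl hp2 hl2 hpG hlG (Or.inr (Or.inl ⟨h1, h2⟩)) hS
  · exact key l p hl hp hl2 hp2 hlG hpG (Or.inl ⟨h2, h1⟩) hS.symm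
  · exact H990.PQ.Same.core_abelian hp hl hpl hS' A (ab A D.cyA) (not_dvd_index_of eA hcA ha0 (hA p hp hp2 h1))
      (hcA ▸ h2)
  · exact key p l hp hl hp2 hl2 hpG hlG (Or.inr (Or.inr ⟨h1, h2⟩)) hS
  · exact key l p hl hp hl2 hp2 hlG hpG (Or.inr (Or.inl ⟨h2, h1⟩)) hS.symm
  · exact key l p hl hp hl2 hp2 hlG hpG (Or.inr (Or.inr ⟨h2, h1⟩)) hS.symm
  · exact H990.PQ.Same.core_abelian hp hl hpl hS' B (ab B D.cyB) (not_dvd_index_of eB hcB hb0 (hB p hp hp2 h1))
      (hcB ▸ h2)

end Cfsg.Agent.H137.PQ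
end

-- part: H137/PQ/RowReeB
section
/-!
# S4612: the row `²G₂(q)`, part B (helper137)

The primes `2` and `l ∣ q² - q + 1`.
-/

set_option autoImplicit false
set_option linter.unusedSectionVars false

open Cfsg

namespace Cfsg.Agent.H137.PQ.Ree

open Cfsg.Agent.H317.PQ Subgroup Cfsg.Agent.LieRecognition
open Cfsg.Agent.LieRecognition.ReeAbs Cfsg.Agent.LieRecognition.ReeSylowThree
  Cfsg.Agent.LieRecognition.ReeSplit
open Cfsg.Agent.H88 Cfsg.Agent.H732.RankOneGG Cfsg.Agent.H732.DegRee Cfsg.Agent.H315.EightRee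
open Cfsg.Agent.LieRecognition.RankOneAbstract (Data)
open Cfsg.Agent.H710.Cuspidal

universe u v

section ree

variable {K : Type u} [Field K] [Fintype K] {G : Type v} [Group G] {m : ℕ} {U : K → K → K → G} {h : Kˣ → G} {n : G}

/-- the constituents of the induced quadratic character -/
theorem exists_theta' [Fintype G] (D : ReeAbs.Data m U h n) (hm : 1 ≤ m) (hK : Fintype.card K = 3 ^ (2 * m + 1))
    (hG : commutator G = ⊤) : ∃ θ₁ θ₂ : IrrCharacter G,
      charDegree (θ₁ : G → ℂ) * (3 ^ (2 * m + 1) + 1) = (3 ^ (2 * m + 1)) ^ 3 + 1 ∧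
      charDegree (θ₁ : G → ℂ) + charDegree (θ₂ : G → ℂ) = (3 ^ (2 * m + 1)) ^ 3 + 1 ∧
      ∃ f : bSub D →* ℂˣ, (∀ x, f x ^ 2 = 1) ∧
        ∀ g : G, indFun (bSub D) (fun u => ((f u : ℂˣ) : ℂ)) g = (θ₁ : G → ℂ) g + (θ₂ : G → ℂ) g := by
  classical
  have : Finite (IrrCharacter G) := Characters.Core.finite_irr
  have := Fintype.ofFinite (IrrCharacter G)
  have Dl := ReeSetup.local_of_data D hK
  have R := RkRee.rank_one D
  have hp3 : Fact (Nat.Prime 3) := ⟨Nat.prime_three⟩
  have hP := isPGroup D hK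
  have h8 := three_pow_odd_mod m
  have hcU : Nat.card (uSub D) = (3 ^ (2 * m + 1)) ^ 3 := by rw [card_uSub D, hK]
  have hnt : Nontrivial (uSub D) := by
    rw [← Finite.one_lt_card_iff_nontrivial, hcU]
    exact Nat.one_lt_pow (by norm_num) (by omega)
  obtain ⟨ψ, hψ⟩ := H670.PSing.exists_linear_ne_one hP
  have hA : aSub D ≤ bSub D := by
    intro x hx
    exact ((hT D x).1 (aSub_le D hx)).1
  have hcA := card_aSub D hK
  obtain ⟨f, hf, hf1, hfA⟩ := exists_quad D hK
  obtain ⟨θ₁, θ₂, hne, c1, c2, m1, m2, g1, g2, hsum⟩ := _root_.Cfsg.Agent.H732.RankOneGG.exists_split R (hT D) f hf ψ hψ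
  have e1 := modEq_one R f hf.1 m1 (by rw [c1]; exact one_ne_zero) (aSub D) hA (regular D hK) hfA
  have e2 := modEq_one R f hf.1 m2 (by rw [c2]; exact one_ne_zero) (aSub D) hA (regular D hK) hfA
  have e3 := modEq_p hP m1 (by
    intro ν hν
    obtain ⟨x, rfl⟩ := H732.ReeLin.trans D hK hm hψ hν
    rw [mu_tw]; exact g1)
  rw [hcA] at e1 e2
  rw [hcU] at hsum
  have hpos : 1 ≤ charDegree (θ₁ : G → ℂ) := Blocks.Basic.charDegree_pos θ₁.2
  have hpos2 : 1 ≤ charDegree (θ₂ : G → ℂ) := Blocks.Basic.charDegree_pos θ₂.2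
  have hnl : charDegree (θ₁ : G → ℂ) ≠ 1 := by
    intro h1
    have h2 : (θ₁ : G → ℂ) 1 = 1 := by rw [Blocks.Basic.irr_one_eq_charDegree θ₁.2, h1, Nat.cast_one]
    obtain ⟨φ, hφ⟩ := Characters.Linear.exists_hom_of_isIrrCharacter θ₁.2 h2
    have h3 : φ = 1 := by
      have h4 : commutator G ≤ φ.ker := Abelianization.commutator_subset_ker φ
      rw [hG, top_le_iff] at h4
      ext g
      have h5 : g ∈ φ.ker := by rw [h4]; trivial
      rw [MonoidHom.mem_ker.1 h5]; rfl
    have h5 := mu_spec (bSub D) f θ₁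
    rw [c1] at h5
    have h6 : (fun u : bSub D => (θ₁ : G → ℂ) u) = fun u => ((1 : bSub D →* ℂˣ) u : ℂ) := by
      ext u
      rw [hφ, h3]; rfl
    rw [h6, inner_hom, if_neg hf1] at h5
    norm_num at h5
  have hdvd : ∀ χ : IrrCharacter G, charDegree (χ : G → ℂ) ∣
      (3 ^ (2 * m + 1)) ^ 3 * (3 ^ (2 * m + 1) - 1) * ((3 ^ (2 * m + 1)) ^ 3 + 1) := by
    intro χ
    rw [← Dl.card_G]
    exact Blocks.Knorr.charDegree_dvd χ.2
  refine ⟨θ₁, θ₂, ?_, hsum, f, ?_, fun g => ind_eq_add R (hT D) f hf hne c1 c2 g⟩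
  · exact deg_arith (k := 2 * m + 1) (c := (3 ^ (2 * m + 1) - 1) / 2) (by omega) rfl (by (clear * - hK h8; omega)) (by omega) e1 e2 e3
      (by omega) hpos2 hsum (hdvd θ₁) (hdvd θ₂)
  · intro x
    obtain ⟨a, ha⟩ := hom_val D hf.1 x
    rw [ha]
    exact inv_sq D hf a

/-- **the primes `2` and `l ∣ q² - q + 1`** -/
theorem kill_two [Finite G] (D : ReeAbs.Data m U h n) (hm : 1 ≤ m) (hK : Fintype.card K = 3 ^ (2 * m + 1))
    (hG : commutator G = ⊤) {l : ℕ} (hl : l.Prime) (hd : l ∣ (3 ^ (2 * m + 1)) ^ 2 - 3 ^ (2 * m + 1) + 1) :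
    ¬ Same 2 l G := by
  classical
  have := Fintype.ofFinite G
  intro hS
  have Dl := ReeSetup.local_of_data D hK
  have ar := ReeClass.arith m
  have hcG := Dl.card_G
  have hc0 : Nat.card G ≠ 0 := Nat.card_pos.ne'
  obtain ⟨θ₁, θ₂, hd1, hs, f, hf, hind⟩ := exists_theta' D hm hK hG
  rw [ar.cube] at hd1 hs hcG
  obtain ⟨l2, l3, lq, lq1, lq2⟩ := ar.prime_Q hl hd
  generalize 3 ^ (2 * m + 1) = q at *
  generalize q ^ 2 - q + 1 = Q at *
  have hq0 : 0 < q + 1 := by omega
  have hd1' : charDegree (θ₁ : G → ℂ) = Q := by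
    rw [mul_comm] at hd1
    exact Nat.eq_of_mul_eq_mul_left hq0 hd1
  have hd2' : charDegree (θ₂ : G → ℂ) = Q * q := by
    have : (q + 1) * Q = Q * q + Q := by ring
    rw [hd1'] at hs
    omega
  have hcG' : Nat.card G = Q * (q ^ 3 * (q - 1) * (q + 1)) := by rw [hcG]; ring
  have hndvd : ¬ l ∣ q ^ 3 * (q - 1) * (q + 1) := by
    intro h
    rcases (Nat.Prime.dvd_mul hl).1 h with h | h
    · rcases (Nat.Prime.dvd_mul hl).1 h with h | h
      · exact lq (hl.dvd_of_dvd_pow h)
      · exact lq1 h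
    · exact lq2 h
  have hlG : l ∣ Nat.card G := by rw [hcG']; exact hd.mul_right _
  have hzero : ∀ χ : IrrCharacter G, χ = θ₁ ∨ χ = θ₂ → χ ∉ B0 l G := by
    rintro χ hχ hB
    have h1 := H766.PQ.not_defect_zero hl hlG hB
    have h0 : charDegree (χ : G → ℂ) ≠ 0 := by
      have := Blocks.Basic.charDegree_pos χ.2
      omega
    have h2 := fac_le hl hc0 hcG' hndvd h0 (by
      rcases hχ with rfl | rfl
      · rw [hd1']
      · rw [hd2']; exact dvd_mul_right _ _)
    omega
  -- the sum over the elements of odd order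
  have hsum := H809.PQ.sum_reg (bSub D) f _ (fun g => indFun_fin _ _ g) 2
  have hne : ∑ x : bSub D with ¬ 2 ∣ orderOf x, ((f x : ℂˣ) : ℂ) ≠ 0 := by
    have h1 : ∑ x : bSub D with ¬ 2 ∣ orderOf x, ((f x : ℂˣ) : ℂ) = ∑ x : bSub D with ¬ 2 ∣ orderOf x, (1 : ℂ) := by
      refine Finset.sum_congr rfl fun x hx => ?_
      simp only [Finset.mem_filter, Finset.mem_univ, true_and] at hx
      have h2 : orderOf (f x) ∣ 2 := orderOf_dvd_of_pow_eq_one (hf x)
      have h3 : orderOf (f x) ∣ orderOf x := orderOf_map_dvd f x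
      have h4 : Nat.Coprime (orderOf x) 2 := ((Nat.Prime.coprime_iff_not_dvd Nat.prime_two).2 hx).symm
      have h5 : orderOf (f x) = 1 := Nat.eq_one_of_dvd_coprimes h4 h3 h2
      rw [orderOf_eq_one_iff.1 h5, Units.val_one]
    rw [h1, Finset.sum_const, nsmul_eq_mul, mul_one]
    have h6 : (1 : bSub D) ∈ Finset.univ.filter fun x : bSub D => ¬ 2 ∣ orderOf x := by
      simp only [Finset.mem_filter, Finset.mem_univ, true_and, orderOf_one]
      norm_num
    exact_mod_cast (Finset.card_pos.2 ⟨1, h6⟩).ne'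
  have hne2 : ∑ g : G with ¬ 2 ∣ orderOf g, (θ₁ : G → ℂ) g ≠ 0 ∨ ∑ g : G with ¬ 2 ∣ orderOf g, (θ₂ : G → ℂ) g ≠ 0 := by
    by_contra hcon
    push Not at hcon
    have h1 : ∑ g : G with ¬ 2 ∣ orderOf g, indFun (bSub D) (fun u => ((f u : ℂˣ) : ℂ)) g = 0 := by
      rw [Finset.sum_congr rfl fun g _ => hind g, Finset.sum_add_distrib, hcon.1, hcon.2, add_zero]
    rw [h1] at hsum
    have hHc : (Nat.card (bSub D) : ℂ)⁻¹ ≠ 0 := inv_ne_zero (by exact_mod_cast Nat.card_pos.ne')
    have hGc : (Fintype.card G : ℂ) ≠ 0 := by exact_mod_cast Fintype.card_ne_zero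
    exact mul_ne_zero hHc (mul_ne_zero hGc hne) hsum.symm
  have hB : B0 2 G = B0 l G := hS
  rcases hne2 with h1 | h1
  · refine hzero θ₁ (Or.inl rfl) ?_
    rw [← hB]
    exact fun M hM => H809.PQ.mem_principal_of_sum Nat.prime_two hM θ₁ h1
  · refine hzero θ₂ (Or.inr rfl) ?_
    rw [← hB]
    exact fun M hM => H809.PQ.mem_principal_of_sum Nat.prime_two hM θ₂ h1

end ree

end Cfsg.Agent.H137.PQ.Ree
end

-- part: H137/PQ/RowRee
section
/-!
# S4612: the row `²G₂(q)` (helper137)
-/

set_option autoImplicit false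
set_option linter.unusedSectionVars false

open Cfsg

namespace Cfsg.Agent.H137.PQ.Ree

open Cfsg.Agent.H317.PQ Subgroup Cfsg.Agent.LieRecognition
open Cfsg.Agent.LieRecognition.ReeAbs Cfsg.Agent.LieRecognition.ReeSylowThree
  Cfsg.Agent.LieRecognition.ReeSplit Cfsg.Agent.LieRecognition.ReeTorusB Cfsg.Agent.LieRecognition.ReeInv

universe u v

section cyc

variable {G : Type*} [Group G] [Finite G]

/-- a cyclic subgroup with `C(x) = A` for `x ≠ 1`: the normalizers of its subgroups -/
theorem norm_eq {A A₀ : Subgroup G} (hcyc : IsCyclic A) (hA : ∀ x ∈ A, x ≠ 1 → centralizer {x} = A) (h0 : A₀ ≤ A)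
    (h1 : A₀ ≠ ⊥) : normalizer (A₀ : Set G) = normalizer (A : Set G) := by
  classical
  apply le_antisymm
  · intro g hg
    obtain ⟨⟨x, hx⟩, hx1'⟩ := Subgroup.ne_bot_iff_exists_ne_one.1 h1
    have hx1 : x ≠ 1 := fun h => hx1' (Subtype.ext h)
    have hy : g * x * g⁻¹ ∈ A₀ := (Subgroup.mem_normalizer_iff.1 hg x).1 hx
    have hy1 : g * x * g⁻¹ ≠ 1 := by
      intro h
      exact hx1 (conj_eq_one_iff.1 h)
    apply mem_normalizer_of_forall
    intro z hz
    rw [← hA _ (h0 hy) hy1, mem_centralizer_singleton_iff]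
    rw [← hA x (h0 hx) hx1, mem_centralizer_singleton_iff] at hz
    calc g * z * g⁻¹ * (g * x * g⁻¹) = g * (z * x) * g⁻¹ := by group
      _ = g * (x * z) * g⁻¹ := by rw [hz]
      _ = g * x * g⁻¹ * (g * z * g⁻¹) := by group
  · intro g hg
    have := Fintype.ofFinite A
    have hd : 0 < Nat.card A₀ := Nat.card_pos
    have key : ∀ w ∈ A, w ^ Nat.card A₀ = 1 → w ∈ A₀ := by
      intro w hw hw1
      have h2 := IsCyclic.card_pow_eq_one_le (α := A) hd
      have h3 : (Finset.univ.filter fun a : A => (a : G) ∈ A₀) ⊆ Finset.univ.filter fun a : A => a ^ Nat.card A₀ = 1 := by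
        intro a ha
        simp only [Finset.mem_filter, Finset.mem_univ, true_and] at ha ⊢
        apply Subtype.ext
        have h4 : (⟨a, ha⟩ : A₀) ^ Nat.card A₀ = 1 := pow_card_eq_one'
        have h5 : (a : G) ^ Nat.card A₀ = 1 := congrArg Subtype.val h4
        exact h5
      have h4 : (Finset.univ.filter fun a : A => (a : G) ∈ A₀).card = Nat.card A₀ := by
        rw [← Fintype.card_subtype, ← Nat.card_eq_fintype_card]
        refine Nat.card_congr ⟨fun a => ⟨a.1, a.2⟩, fun a => ⟨⟨a.1, h0 a.2⟩, a.2⟩, fun a => rfl, fun a => rfl⟩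
      have h5 := Finset.eq_of_subset_of_card_le h3 (by rw [h4]; exact h2)
      have h6 : (⟨w, hw⟩ : A) ∈ Finset.univ.filter fun a : A => a ^ Nat.card A₀ = 1 := by
        simp only [Finset.mem_filter, Finset.mem_univ, true_and]
        exact Subtype.ext hw1
      rw [← h5] at h6
      simpa only [_root_.Finset.mem_filter, _root_.Finset.mem_univ, _root_.true_and] using h6
    apply mem_normalizer_of_forall
    intro z hz
    apply key
    · exact (Subgroup.mem_normalizer_iff.1 hg z).1 (h0 hz)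
    · have h4 : (⟨z, hz⟩ : A₀) ^ Nat.card A₀ = 1 := pow_card_eq_one'
      have h5 : z ^ Nat.card A₀ = 1 := congrArg Subtype.val h4
      rw [conj_pow, h5, mul_one, mul_inv_cancel]

/-- the inertial index of a cyclic Sylow subgroup inside a torus -/
theorem exists_cyc {p e : ℕ} (hp : p.Prime) {A C : Subgroup G} (hcyc : IsCyclic A) (hpA : p ∣ Nat.card A)
    (hi : ¬ p ∣ A.index) (hAC : A ≤ C) (hcomm : ∀ x ∈ C, ∀ y ∈ C, x * y = y * x)
    (hC : ∀ x ∈ A, x ≠ 1 → centralizer {x} = C)
    (hN : ∀ A₀ ≤ A, A₀ ≠ ⊥ → Nat.card (normalizer (A₀ : Set G)) = e * Nat.card C) :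
    ∃ P : Sylow p G, IsCyclic (P : Subgroup G) ∧
      (centralizer ((P : Subgroup G) : Set G)).relIndex (normalizer ((P : Subgroup G) : Set G)) = e := by
  classical
  have : Fact p.Prime := ⟨hp⟩
  obtain ⟨Q⟩ : Nonempty (Sylow p A) := inferInstance
  have hP : IsPGroup p ((Q : Subgroup A).map A.subtype) := Q.isPGroup'.map _
  have hi' : ¬ p ∣ ((Q : Subgroup A).map A.subtype).index := by
    rw [Subgroup.index_map_subtype]
    intro h
    rcases (Nat.Prime.dvd_mul hp).1 h with h | h
    · exact Q.not_dvd_index h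
    · exact hi h
  obtain ⟨P, hPe⟩ : ∃ P : Sylow p G, (P : Subgroup G) = (Q : Subgroup A).map A.subtype :=
    ⟨hP.toSylow hi', rfl⟩
  have hle : (P : Subgroup G) ≤ A := by
    rw [hPe]; exact Subgroup.map_subtype_le _
  have hne : (P : Subgroup G) ≠ ⊥ := by
    intro h
    have h1 : p ∣ Nat.card (P : Subgroup G) := P.dvd_card_of_dvd_card (hpA.trans (Subgroup.card_subgroup_dvd_card A))
    rw [h, Subgroup.card_bot] at h1
    exact hp.one_lt.ne' (Nat.dvd_one.1 h1)
  have hcen : centralizer ((P : Subgroup G) : Set G) = C := by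
    apply le_antisymm
    · obtain ⟨⟨x, hx⟩, hx1'⟩ := Subgroup.ne_bot_iff_exists_ne_one.1 hne
      have hx1 : x ≠ 1 := fun h => hx1' (Subtype.ext h)
      rw [← hC x (hle hx) hx1]
      exact Subgroup.centralizer_le (Set.singleton_subset_iff.2 hx)
    · intro c hc
      rw [Subgroup.mem_centralizer_iff]
      intro y hy
      exact hcomm y (hAC (hle hy)) c hc
  refine ⟨P, ?_, ?_⟩
  · have := hcyc
    exact isCyclic_of_injective (Subgroup.inclusion hle) (Subgroup.inclusion_injective hle)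
  · have h1 := hN _ hle hne
    have h2 : centralizer ((P : Subgroup G) : Set G) ≤ normalizer ((P : Subgroup G) : Set G) :=
      Subgroup.centralizer_le_normalizer _
    have h3 := ((centralizer ((P : Subgroup G) : Set G)).subgroupOf (normalizer ((P : Subgroup G) : Set G))).card_mul_index
    rw [Nat.card_congr (Subgroup.subgroupOfEquivOfLe h2).toEquiv, h1, mul_comm e, hcen] at h3
    rw [hcen]
    exact Nat.eq_of_mul_eq_mul_left Nat.card_pos h3

end cyc

/-- the order of the torus -/
theorem card_EA {G : Type*} [Group G] [Finite G] {L : Type*} [Group L] {q : ℕ} {a : G} {f : L →* G}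
    {i j u t₀ : L} {T : Subgroup L} (S : Setup G L q a f i j u t₀ T) : Nat.card S.EA = q + 1 := by
  apply le_antisymm _ (H732.ReeClasses.card_EA_ge S)
  have h1 : Function.Surjective (fun p : S.V × S.A => (⟨(p.1 : G) * (p.2 : G), p.1, p.1.2, p.2, p.2.2, rfl⟩ : S.EA)) := by
    rintro ⟨_, e, he, r, hr, rfl⟩
    exact ⟨(⟨e, he⟩, ⟨r, hr⟩), rfl⟩
  have h2 := Nat.card_le_card_of_surjective _ h1
  rw [Nat.card_prod, S.card_V, S.card_A] at h2
  have := S.q8
  omega

section ree

variable {K : Type u} [Field K] [Fintype K] {G : Type v} [Group G] {m : ℕ} {U : K → K → K → G} {h : Kˣ → G} {n : G}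

theorem ab_mul {m : ℕ} (hm : 1 ≤ m) : (3 ^ (2 * m + 1) - 3 ^ (m + 1) + 1) * (3 ^ (2 * m + 1) + 3 ^ (m + 1) + 1) =
    (3 ^ (2 * m + 1)) ^ 2 - 3 ^ (2 * m + 1) + 1 := by
  have ar := ReeClass.arith m
  have hle : 3 ^ (m + 1) + 1 ≤ 3 ^ (2 * m + 1) := Nat.pow_lt_pow_right (by norm_num) (by omega)
  have hr : (3 ^ (m + 1)) ^ 2 = 3 * 3 ^ (2 * m + 1) := by ring
  obtain ⟨c, hc⟩ := Nat.exists_eq_add_of_le (Nat.le_of_succ_le hle)
  have hQ := ar.Q_eq
  generalize 3 ^ (2 * m + 1) = q at *
  generalize 3 ^ (m + 1) = r at *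
  have e1 : q - r + 1 = c + 1 := by omega
  rw [e1]
  have e2 : (c + 1) * (q + r + 1) + q = q ^ 2 + 1 := by
    rw [hc]
    have h3 : r ^ 2 = 3 * (r + c) := by rw [hr, hc]
    linarith only [hr, hc]
  omega

/-- **the primes dividing `q³ + 1`** -/
theorem cyc_six [Finite G] (D : ReeAbs.Data m U h n) (hm : 1 ≤ m) (hK : Fintype.card K = 3 ^ (2 * m + 1))
    (hG : commutator G = ⊤)
    (hcyc : ∀ x : G, x ≠ 1 → orderOf x ∣ (3 ^ (2 * m + 1)) ^ 2 - 3 ^ (2 * m + 1) + 1 →
      IsCyclic (centralizer {x}) ∧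
        Nat.card (normalizer (centralizer {x} : Set G)) ∣ 6 * Nat.card (centralizer {x}))
    {p : ℕ} (hp : p.Prime) (hp2 : p ≠ 2) (hd : p ∣ (3 ^ (2 * m + 1)) ^ 3 + 1) :
    (∃ P : Sylow p G, IsCyclic (P : Subgroup G) ∧
      (centralizer ((P : Subgroup G) : Set G)).relIndex (normalizer ((P : Subgroup G) : Set G)) = 6) ∧
      (p ∣ 3 ^ (2 * m + 1) + 1 → ¬ Same p 2 G) := by
  classical
  have : CharP K 3 := ReeAbs.charP_three hK
  have Dl := ReeSetup.local_of_data D hK
  have ar := ReeClass.arith m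
  obtain ⟨f, t₀, S⟩ := ReeSetup.exists_setup D hK hG Dl
  obtain ⟨A, B, hcA, hcB, cA, cB, nA, nB, zA, zB, -⟩ := ReeSetup.exists_tori D hm hK hG hcyc
  have hcG := Dl.card_G
  have hab := ab_mul hm
  have h8 := ar.q8
  have hEA := card_EA S
  have hSA := S.card_A
  have hSN := S.card_N
  have hle : 3 ^ (m + 1) + 1 ≤ 3 ^ (2 * m + 1) := Nat.pow_lt_pow_right (by norm_num) (by omega)
  have hp3 : p ≠ 3 := by
    rintro rfl
    exact ar.three_not.2.2.2 hd
  have hpr : ¬ p ∣ 3 ^ (m + 1) := fun hh => hp3 ((Nat.prime_dvd_prime_iff_eq hp Nat.prime_three).1 (hp.dvd_of_dvd_pow hh))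
  have hpq : ¬ p ∣ 3 ^ (2 * m + 1) := fun hh => hp3 ((Nat.prime_dvd_prime_iff_eq hp Nat.prime_three).1 (hp.dvd_of_dvd_pow hh))
  have hpQ := fun hh => ar.prime_Q (p := p) hp hh
  rw [ar.cube] at hd hcG
  have comm_of : ∀ {X : Subgroup G}, IsCyclic X → ∀ x ∈ X, ∀ y ∈ X, x * y = y * x := by
    intro X hX x hx y hy
    have h1 := (IsCyclic.commGroup (α := X)).mul_comm ⟨x, hx⟩ ⟨y, hy⟩
    exact congrArg Subtype.val h1
  have hp4 : ¬ p ∣ 4 := fun hh => hp2 ((Nat.prime_dvd_prime_iff_eq hp Nat.prime_two).1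
    (hp.dvd_of_dvd_pow (show p ∣ 2 ^ 2 from hh)))
  have hsub := ar.sub_one
  generalize (3 ^ (2 * m + 1)) ^ 2 - 3 ^ (2 * m + 1) + 1 = Q at *
  have hq1 : ∀ hh : p ∣ 3 ^ (2 * m + 1) + 1, ¬ p ∣ 3 ^ (2 * m + 1) - 1 := by
    intro hh h2
    have h3 := Nat.dvd_sub hh h2
    have h4 : 3 ^ (2 * m + 1) + 1 - (3 ^ (2 * m + 1) - 1) = 2 := by (clear * - hsub; omega)
    rw [h4] at h3
    exact hp2 ((Nat.prime_dvd_prime_iff_eq hp Nat.prime_two).1 h3)
  have hcase : p ∣ 3 ^ (2 * m + 1) + 1 → ¬ p ∣ (3 ^ (2 * m + 1)) ^ 3 * (3 ^ (2 * m + 1) - 1) * Q := by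
    intro hh h1
    rcases (Nat.Prime.dvd_mul hp).1 h1 with h1 | h1
    · rcases (Nat.Prime.dvd_mul hp).1 h1 with h1 | h1
      · exact hpq (hp.dvd_of_dvd_pow h1)
      · exact hq1 hh h1
    · exact (hpQ h1).2.2.2.2 hh
  have hindEA : p ∣ 3 ^ (2 * m + 1) + 1 → ¬ p ∣ S.EA.index := by
    intro hh
    refine not_dvd_index_of (u := 3 ^ (2 * m + 1) + 1) (v := (3 ^ (2 * m + 1)) ^ 3 * (3 ^ (2 * m + 1) - 1) * Q) ?_ hEA
      (by omega) (hcase hh)
    rw [hcG]; ring
  refine ⟨?_, ?_⟩
  · rcases (Nat.Prime.dvd_mul hp).1 hd with h1 | h1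
    · have h4 : 3 ^ (2 * m + 1) + 1 = ((3 ^ (2 * m + 1) + 1) / 4) * 4 := by (clear * - h8; omega)
      have h5 : p ∣ (3 ^ (2 * m + 1) + 1) / 4 := by
        rw [h4] at h1
        exact ((Nat.Prime.dvd_mul hp).1 h1).resolve_right hp4
      refine exists_cyc hp (A := S.A) (C := S.EA) S.cyclic_A (by rw [hSA]; exact h5) ?_ S.A_le_EA
        (fun x hx y hy => S.EA_comm hx hy) (fun x hx hx1 => ?_) (fun A₀ h2 h3 => ?_)
      · refine not_dvd_index_of (u := (3 ^ (2 * m + 1) + 1) / 4)
          (v := 4 * ((3 ^ (2 * m + 1)) ^ 3 * (3 ^ (2 * m + 1) - 1) * Q)) ?_ hSA (by omega) ?_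
        · rw [hcG]
          conv_lhs => rw [show (3 ^ (2 * m + 1) + 1) * Q = ((3 ^ (2 * m + 1) + 1) / 4 * 4) * Q by rw [← h4]]
          ring
        · intro h2
          exact ((Nat.Prime.dvd_mul hp).1 h2).elim hp4 (hcase h1)
      · apply le_antisymm
        · intro y hy
          rw [mem_centralizer_singleton_iff] at hy
          exact S.cent_x hx hx1 hy
        · intro y hy
          rw [mem_centralizer_singleton_iff]
          exact S.EA_comm hy (S.A_le_EA hx)
      · rw [S.normalizer_eq h2 h3, hSN, hEA]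
    · obtain ⟨-, -, -, n1, n2⟩ := hpQ h1
      have hbase : ¬ p ∣ (3 ^ (2 * m + 1)) ^ 3 * (3 ^ (2 * m + 1) - 1) * (3 ^ (2 * m + 1) + 1) := by
        intro h2
        rcases (Nat.Prime.dvd_mul hp).1 h2 with h2 | h2
        · rcases (Nat.Prime.dvd_mul hp).1 h2 with h2 | h2
          · exact hpq (hp.dvd_of_dvd_pow h2)
          · exact n1 h2
        · exact n2 h2
      have hnab : ¬ (p ∣ 3 ^ (2 * m + 1) - 3 ^ (m + 1) + 1 ∧ p ∣ 3 ^ (2 * m + 1) + 3 ^ (m + 1) + 1) := by
        rintro ⟨h2, h3⟩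
        have h4 := Nat.dvd_sub h3 h2
        have h5 : 3 ^ (2 * m + 1) + 3 ^ (m + 1) + 1 - (3 ^ (2 * m + 1) - 3 ^ (m + 1) + 1) = 2 * 3 ^ (m + 1) := by (clear * - hle; omega)
        rw [h5] at h4
        rcases (Nat.Prime.dvd_mul hp).1 h4 with h4 | h4
        · exact hp2 ((Nat.prime_dvd_prime_iff_eq hp Nat.prime_two).1 h4)
        · exact hpr h4
      rw [← hab] at h1
      rcases (Nat.Prime.dvd_mul hp).1 h1 with h2 | h2
      · refine exists_cyc hp (A := A) (C := A) hcA (by rw [cA]; exact h2) ?_ le_rfl (comm_of hcA) zA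
          (fun A₀ h3 h4 => ?_)
        · refine not_dvd_index_of (u := 3 ^ (2 * m + 1) - 3 ^ (m + 1) + 1)
            (v := ((3 ^ (2 * m + 1)) ^ 3 * (3 ^ (2 * m + 1) - 1) * (3 ^ (2 * m + 1) + 1)) *
              (3 ^ (2 * m + 1) + 3 ^ (m + 1) + 1)) ?_ cA (by omega) ?_
          · rw [hcG, ← hab]; ring
          · intro h3
            exact ((Nat.Prime.dvd_mul hp).1 h3).elim hbase (fun h3 => hnab ⟨h2, h3⟩)
        · rw [norm_eq hcA zA h3 h4, nA, cA]
      · refine exists_cyc hp (A := B) (C := B) hcB (by rw [cB]; exact h2) ?_ le_rfl (comm_of hcB) zB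
          (fun A₀ h3 h4 => ?_)
        · refine not_dvd_index_of (u := 3 ^ (2 * m + 1) + 3 ^ (m + 1) + 1)
            (v := ((3 ^ (2 * m + 1)) ^ 3 * (3 ^ (2 * m + 1) - 1) * (3 ^ (2 * m + 1) + 1)) *
              (3 ^ (2 * m + 1) - 3 ^ (m + 1) + 1)) ?_ cB (by (clear * -; omega)) ?_
          · rw [hcG, ← hab]; ring
          · intro h3
            exact ((Nat.Prime.dvd_mul hp).1 h3).elim hbase (fun h3 => hnab ⟨h3, h2⟩)
        · rw [norm_eq hcB zB h3 h4, nB, cB]
  · intro h1 hS
    refine H990.PQ.Same.core_abelian hp Nat.prime_two hp2 hS S.EA ⟨⟨fun x y => Subtype.ext (S.EA_comm x.2 y.2)⟩⟩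
      (hindEA h1) ?_
    rw [hEA]
    omega

end ree

/-- **the row `²G₂(q)`** -/
theorem row_ree' {K : Type} [Field K] [Fintype K] {m : ℕ} (hm : 1 ≤ m) (hK : Fintype.card K = 3 ^ (2 * m + 1))
    [Finite ↥(Cfsg.Lie.twistedG2 K (3 ^ m))] {p l : ℕ} (hp : p.Prime) (hl : l.Prime) (hpl : p ≠ l) (hp3 : p ≠ 3) (hl3 : l ≠ 3)
    (hpG : p ∣ Nat.card ↥(Cfsg.Lie.twistedG2 K (3 ^ m))) (hlG : l ∣ Nat.card ↥(Cfsg.Lie.twistedG2 K (3 ^ m))) :
    ¬ Same p l ↥(Cfsg.Lie.twistedG2 K (3 ^ m)) := by
  intro hS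
  have D := Cfsg.Agent.LieRecognition.ReeFinal.data hK
  have hG := Cfsg.Agent.S1116.result hK hm
  have hcyc : ∀ x : ↥(Cfsg.Lie.twistedG2 K (3 ^ m)), x ≠ 1 →
      orderOf x ∣ (3 ^ (2 * m + 1)) ^ 2 - 3 ^ (2 * m + 1) + 1 → IsCyclic (centralizer {x}) ∧
        Nat.card (normalizer (centralizer {x} : Set ↥(Cfsg.Lie.twistedG2 K (3 ^ m)))) ∣
          6 * Nat.card (centralizer {x}) := fun x hx hx1 => ReeTorusTw.isCyclic_centralizer hK hx hx1
  have hcard := Cfsg.Agent.LieRecognition.ReeFinal.card hK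
  have ar := ReeClass.arith m
  have hdvd : ∀ r : ℕ, r.Prime → r ≠ 3 → r ∣ Nat.card ↥(Cfsg.Lie.twistedG2 K (3 ^ m)) →
      r = 2 ∨ (r ≠ 2 ∧ r ∣ 3 ^ (2 * m + 1) - 1) ∨ (r ≠ 2 ∧ r ∣ (3 ^ (2 * m + 1)) ^ 3 + 1) := by
    intro r hr hr3 h
    by_cases hr2 : r = 2
    · exact Or.inl hr2
    right
    rw [hcard] at h
    rcases (Nat.Prime.dvd_mul hr).1 h with h | h
    · rcases (Nat.Prime.dvd_mul hr).1 h with h | h
      · exact absurd ((Nat.prime_dvd_prime_iff_eq hr Nat.prime_three).1 (hr.dvd_of_dvd_pow (hr.dvd_of_dvd_pow h))) hr3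
      · exact Or.inl ⟨hr2, h⟩
    · exact Or.inr ⟨hr2, h⟩
  have key2 : ∀ r : ℕ, r.Prime → r ≠ 2 → r ∣ (3 ^ (2 * m + 1)) ^ 3 + 1 → ¬ Same 2 r ↥(Cfsg.Lie.twistedG2 K (3 ^ m)) := by
    intro r hr hr2 hd hS
    obtain ⟨-, h1⟩ := cyc_six D hm hK hG hcyc hr hr2 hd
    rw [ar.cube] at hd
    rcases (Nat.Prime.dvd_mul hr).1 hd with h2 | h2
    · exact h1 h2 hS.symm
    · exact kill_two D hm hK hG hr h2 hS
  rcases hdvd p hp hp3 hpG with rfl | ⟨hp2, h1⟩ | ⟨hp2, h1⟩ <;>
    rcases hdvd l hl hl3 hlG with rfl | ⟨hl2, h2⟩ | ⟨hl2, h2⟩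
  · exact hpl rfl
  · exact kill_lin D hK hl hp hl2 hpl.symm hp3 h2 hS.symm
  · exact key2 l hl hl2 h2 hS
  · exact kill_lin D hK hp hl hp2 hpl hl3 h1 hS
  · exact kill_lin D hK hp hl hp2 hpl hl3 h1 hS
  · exact kill_lin D hK hp hl hp2 hpl hl3 h1 hS
  · exact key2 p hp hp2 h1 hS.symm
  · exact kill_lin D hK hl hp hl2 hpl.symm hp3 h2 hS.symm
  · have : Fact p.Prime := ⟨hp⟩
    have : Fact l.Prime := ⟨hl⟩
    obtain ⟨⟨P, hP, eP⟩, -⟩ := cyc_six D hm hK hG hcyc hp hp2 h1
    obtain ⟨⟨L, hL, eL⟩, -⟩ := cyc_six D hm hK hG hcyc hl hl2 h2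
    exact not_same_cyc hpl P L hP hL hpG hlG eP eL hS

end Cfsg.Agent.H137.PQ.Ree

namespace Cfsg.Agent.H137.PQ

open Cfsg.Agent.H317.PQ

universe u

/-- **the row `²G₂(q)`** -/
theorem row_ree {S : Type u} [Group S] (h : Lie.IsoRee S) : Row S := by
  have h0 := h
  obtain ⟨K, _, _, m, hm, hK, ⟨e⟩⟩ := h
  have hfin : Finite ↥(Cfsg.Lie.twistedG2 K (3 ^ m)) := by
    apply Nat.finite_of_card_ne_zero
    rw [Cfsg.Agent.LieRecognition.ReeFinal.card hK]
    have h1 : 0 < 3 ^ (2 * m + 1) := by positivity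
    have h2 : 0 < 3 ^ (2 * m + 1) - 1 := by
      have : 3 ^ 1 ≤ 3 ^ (2 * m + 1) := Nat.pow_le_pow_right (by norm_num) (by omega)
      omega
    positivity
  have hfinS : Finite S := Finite.of_equiv _ e.toEquiv.symm
  intro p l hp hl hpl hpG hlG hS
  have hlie : IsLieTypeChar 3 S :=
    Or.inr (Or.inr (Or.inr (Or.inr (Or.inr (Or.inr (Or.inr (Or.inr (Or.inr (Or.inr ⟨rfl, h0⟩)))))))))
  by_cases hp3 : p = 3
  · subst hp3
    exact H947.PQ.row_own Nat.prime_three hl (Ne.symm hpl) hlie hlG hS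
  by_cases hl3 : l = 3
  · subst hl3
    exact H947.PQ.row_own Nat.prime_three hp hpl hlie hpG hS.symm
  have hc := Nat.card_congr e.toEquiv
  exact Ree.row_ree' hm hK hp hl hpl hp3 hl3 (hc ▸ hpG) (hc ▸ hlG) (H766.PQ.Same.of_equiv e hS)

end Cfsg.Agent.H137.PQ
end

-- part: H638/PQ/Final
section
/-!
# S4612: all the rows plugged in (helper638)

`rows` : the structure `Asm.Rows` from the open inputs.
-/

set_option autoImplicit false

open Cfsg Cfsg.Agent

namespace Cfsg.Agent.H638.PQ.Final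

open Cfsg.Agent.H317.PQ Cfsg.Lie

universe u

theorem row_E6 (K : Type) [Field K] [Fintype K] : Row ↥(chevE6.group K) :=
  H632.PQ.row_E6_of K (H423.PQ.kill_E6 K 3 (by decide)) (H423.PQ.kill_E6 K 6 (by decide))

theorem row_2E6 (K : Type) [Field K] [Fintype K] (q : ℕ) (hq : IsPrimePow q) (hK : Fintype.card K = q ^ 2) :
    Row ↥(twistedE6 K q) :=
  H632.PQ.row_2E6_of hq hK (H423.PQ.kill_TwE_a hq hK 6 (by decide)) (H423.PQ.kill_TwE_b hq hK 12 (by decide))

/-- **all the rows** -/
theorem rows (h8 : ∀ (F : Type) [Field F] [Fintype F], Row ↥(chevE8.group F)) :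
    H638.PQ.Asm.Rows where
  psl F _ _ n hn hn2 := H355.PQ.row_psl F hn hn2
  psp F _ _ m hm h := H766.PQ.classical.psp F m hm h
  psu F _ _ n q hF hn h := H766.PQ.classical.psu F n q hF hn h
  odd F _ _ m hm h := H766.PQ.classical.pOdd F m hm h
  plus F _ _ m hm := H766.PQ.classical.pPlus F m hm
  minus F _ _ m a b hm hab := H766.PQ.classical.pMinus F m a b hm hab
  G2 F _ _ h := H795.PQ.row_G2 F h
  F4 F _ _ := H604.PQ.row_F4 F
  E6 F _ _ := row_E6 F
  E7 F _ _ := H792.PQ.E7.row_E7 F
  E8 F _ _ := h8 F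
  twE6 K _ _ q hq hK := row_2E6 K q hq hK
  twD4 K _ _ q hq hK := H795.PQ.row_3D4 K hq hK
  suz F _ _ m hm hF := H137.PQ.row_sz ⟨F, inferInstance, inferInstance, m, hm, hF, ⟨MulEquiv.refl _⟩⟩
  ree K _ _ m hm hK := H137.PQ.row_ree ⟨K, inferInstance, inferInstance, m, hm, hK, ⟨MulEquiv.refl _⟩⟩
  twF4 K _ _ m hm hK := H355.TF.row_twF K m hm hK

/-- **S4612 from the open rows** -/
theorem main (h8 : ∀ (F : Type) [Field F] [Fintype F], Row ↥(chevE8.group F))
    (hspor : ∀ (S : Type u) [Group S] [Finite S] [IsSimpleGroup S], IsSporadicGroup S → Row S)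
    {G : Type u} [Group G] [Finite G] (p q : ℕ) [Fact p.Prime] [Fact q.Prime] (hpq : p ≠ q) (hp : p ∣ Nat.card G)
    (hq : q ∣ Nat.card G) (Mp Mq : Ideal Cfsg.AlgInt) (hMp : Cfsg.IsPModular p Mp) (hMq : Cfsg.IsPModular q Mq) :
    Cfsg.principalBlock Mp G ≠ Cfsg.principalBlock Mq G :=
  H638.PQ.Asm.main (rows h8) (fun _ _ _ _ h => H642.PQ.Tits.row_tits h) hspor p q hpq hp hq Mp Mq hMp hMq

end Cfsg.Agent.H638.PQ.Final
end
end
end

-- part: S4612
section
set_option linter.all false

set_option autoImplicit false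
open Cfsg

namespace Cfsg.Agent.S4612

/-- the row of `E₈` -/
theorem row_E8 (F : Type) [Field F] [Fintype F] : H317.PQ.Row ↥(Cfsg.Lie.chevE8.group F) :=
  H526.PQ.E8.row_of' (H632.PQ.kill_E8_26 F) (H594.PQ.KillE8.kill_E8_4_12 F) (H594.PQ.KillE8.kill_E8_5_15 F)
    (H594.PQ.KillE8.kill_E8_8_24 F) (H632.PQ.killTwo_E8_3 F)

/-- Let G be a finite group and p ≠ q primes both dividing the order of G, with maximal ideals M_p over p and M_q over q of the algebraic integers. Then the principal p-block and the principal q-block of G are different sets of irreducible characters. -/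
theorem result {G : Type*} [Group G] [Finite G] (p q : ℕ) [Fact p.Prime] [Fact q.Prime] (hpq : p ≠ q) (hp : p ∣ Nat.card G) (hq : q ∣ Nat.card G) (Mp Mq : Ideal Cfsg.AlgInt) (hMp : Cfsg.IsPModular p Mp) (hMq : Cfsg.IsPModular q Mq) :
    Cfsg.principalBlock Mp G ≠ Cfsg.principalBlock Mq G := by
  exact H638.PQ.Final.main row_E8 (fun S _ _ _ h => H642.PQ.Spor.spor_row h) p q hpq hp hq Mp Mq hMp hMq

end Cfsg.Agent.S4612
end
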