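import Cfsg.Statements.S4621
import Cfsg.Agent.H578.BaseTwo
set_option linter.all false

set_option autoImplicit false
open Cfsg

namespace Cfsg.Agent.S4621

/-- Let F be a finite field of odd characteristic, V a finite-dimensional vector space over F, and G a finite solvable group acting faithfully and linearly on V with the order of G coprime to the number of vectors of V. Then there are two vectors x, y ∈ V such that the only element of G fixing both x and y is the identity. -/
theorem result {F : Type*} [Field F] [Fintype F] (hF : ringChar F ≠ 2) {V : Type*} [AddCommGroup V] [Module F V] [FiniteDimensional F V] [Finite V]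
    {G : Type*} [Group G] [Finite G] [Group.IsSolvable G] (ρ : Representation F G V) (hfaith : Function.Injective ρ) (hcop : (Nat.card G).Coprime (Nat.card V)) :
    ∃ x y : V, ∀ g : G, ρ g x = x → ρ g y = y → g = 1 := by
  let _ : MulDistribMulAction G (Multiplicative V) :=
    { smul := fun g v => Multiplicative.ofAdd (ρ g (Multiplicative.toAdd v))
      one_smul := fun v => by
        change Multiplicative.ofAdd (ρ 1 (Multiplicative.toAdd v)) = v
        rw [map_one]; rfl
      mul_smul := fun g h v => by
        change Multiplicative.ofAdd (ρ (g * h) (Multiplicative.toAdd v)) = _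
        rw [map_mul]; rfl
      smul_one := fun g => map_zero (ρ g)
      smul_mul := fun g v w => map_add (ρ g) (Multiplicative.toAdd v) (Multiplicative.toAdd w) }
  obtain ⟨x, y, h⟩ := Cfsg.Agent.H578.CopAct.base_two (A := G) (K := Multiplicative V)
    inferInstance hcop
  refine ⟨Multiplicative.toAdd x, Multiplicative.toAdd y, fun g hx hy => ?_⟩
  apply hfaith
  rw [map_one]
  apply LinearMap.ext
  intro z
  exact h g hx hy (Multiplicative.ofAdd z)

end Cfsg.Agent.S4621
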