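import Mathlib
import Cfsg.Agent.H665.OddCent
import Cfsg.Agent.H665.NoPQ
import Cfsg.Agent.PermutationGroups.SylowFixed
import Cfsg.Agent.Lib.MinNormal
import Cfsg.Agent.Lib.SubnormalJoin
import Cfsg.Agent.PLocal.PSolvable
import Cfsg.Agent.S0043
import Cfsg.Prelude.Def_Involutions
import Cfsg.Agent.H665.Psl2Char
import Cfsg.Agent.S0280
import Cfsg.Prelude.Def_Exceptional
import Cfsg.Statements.S4745
import Cfsg.Agent.S0205
import Cfsg.Agent.S0222
import Cfsg.Agent.FastGrp
import Cfsg.Agent.Prune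
set_option linter.all false
prune_inst 0x7f00000000000000000000000000000000000000000000000000000000000000000000000000000000000000000000000000000000000000000000000000000000000000000000000000000000000000003fffffffffffffffffffffffffffbeffbdffffffff
open scoped Cfsg.Agent.FastGrp

-- part: H665/TransPow
section
/-!
# Transitive groups of degree `p ^ r` with centralizers of `p`-elements of odd order

Let `G` be faithful and transitive on `p ^ r` points, let `C_G(x)` have odd order for the nonidentity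
`p`-elements `x` and suppose `G` has no irreducible character of `p`-defect zero.

* `free` : nonidentity `p`-elements have no fixed points; `card_sylow` : Sylow `p`-subgroups have
  order `p ^ r`.
* `existsUnique_fixed` : involutions have exactly one fixed point.
* `eq_bot_of_normal` : normal subgroups of order prime to `p` are trivial.
* `two_pow_dvd` : if `2 ^ k` divides `|G|` then it divides `p ^ r - 1`.
-/

set_option autoImplicit false

namespace Cfsg.Agent.H665.TransPow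

open Cfsg Cfsg.Agent.H665.OddCent Cfsg.Agent.H665.NoPQ

variable {G Ω : Type*} [Group G] [Finite G] [MulAction G Ω] [FaithfulSMul G Ω]
  [MulAction.IsPretransitive G Ω] {p r : ℕ} [hp : Fact p.Prime]

include hp in
theorem comm_of_sylow (hC : OddCent p G) (h2 : 2 ∣ Nat.card G) (hno : ¬ HasDZ p G)
    (P : Sylow p G) {x y : G} (hx : x ∈ (P : Subgroup G)) (hy : y ∈ (P : Subgroup G)) :
    x * y = y * x := by
  obtain ⟨t, -, -, h⟩ := exists_invol_inverts_sylow hC h2 hno P
  exact comm_of_inverts h hx hy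

theorem free (hC : OddCent p G) (h2 : 2 ∣ Nat.card G) (hno : ¬ HasDZ p G)
    (hΩ : Nat.card Ω = p ^ r) {x : G} (hx : ∃ k : ℕ, orderOf x = p ^ k) {ω : Ω}
    (hω : x • ω = ω) : x = 1 := by
  obtain ⟨k, hk⟩ := hx
  have hz : IsPGroup p (Subgroup.zpowers x) := IsPGroup.of_card (n := k) (by
    rw [Nat.card_zpowers, hk])
  obtain ⟨P, hP⟩ := hz.exists_le_sylow
  have hxP : x ∈ (P : Subgroup G) := hP (Subgroup.mem_zpowers x)
  have htr : MulAction.IsPretransitive P Ω :=
    Cfsg.Agent.PermutationGroups.SylowFixed.sylow_isPretransitive hΩ P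
  refine FaithfulSMul.eq_of_smul_eq_smul (α := Ω) fun ω' => ?_
  obtain ⟨y, rfl⟩ := htr.exists_smul_eq ω ω'
  show x • ((y : G) • ω) = (1 : G) • ((y : G) • ω)
  rw [← mul_smul, comm_of_sylow hC h2 hno P hxP y.2, mul_smul, hω, one_smul]

theorem card_sylow (hC : OddCent p G) (h2 : 2 ∣ Nat.card G) (hno : ¬ HasDZ p G)
    (hΩ : Nat.card Ω = p ^ r) (P : Sylow p G) : Nat.card (P : Subgroup G) = p ^ r := by
  have htr : MulAction.IsPretransitive P Ω :=
    Cfsg.Agent.PermutationGroups.SylowFixed.sylow_isPretransitive hΩ P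
  have hne : Nonempty Ω := by
    have : 0 < Nat.card Ω := by rw [hΩ]; exact pow_pos hp.out.pos _
    exact (Nat.card_pos_iff.1 this).1
  obtain ⟨ω⟩ := hne
  rw [← hΩ]
  refine Nat.card_congr (Equiv.ofBijective (fun x : (P : Subgroup G) => (x : G) • ω) ⟨?_, ?_⟩)
  · intro x y hxy
    have h1 : ((y⁻¹ * x : (P : Subgroup G)) : G) • ω = ω := by
      rw [Subgroup.coe_mul, mul_smul]
      have : (x : G) • ω = (y : G) • ω := hxy
      rw [this, ← mul_smul, ← Subgroup.coe_mul, inv_mul_cancel, Subgroup.coe_one, one_smul]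
    obtain ⟨k, hk⟩ := IsPGroup.iff_orderOf.1 P.isPGroup' (y⁻¹ * x)
    have h2 := free hC h2 hno hΩ ⟨k, by rw [← hk, Subgroup.orderOf_coe]⟩ h1
    have h3 : y⁻¹ * x = 1 := Subtype.ext h2
    exact (inv_mul_eq_one.1 h3).symm
  · intro ω'
    obtain ⟨y, rfl⟩ := htr.exists_smul_eq ω ω'
    exact ⟨y, rfl⟩

theorem fixed_unique (hp2 : p ≠ 2) (hC : OddCent p G) (h2 : 2 ∣ Nat.card G) (hno : ¬ HasDZ p G)
    (hΩ : Nat.card Ω = p ^ r) {t : G} (ht : t * t = 1) (ht1 : t ≠ 1) {ω ω' : Ω}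
    (h : t • ω = ω) (h' : t • ω' = ω') : ω = ω' := by
  obtain ⟨u, hu, hup, htu⟩ := exists_inverted_of_no_defectZero hC hno ht ht1
  obtain ⟨P, hP⟩ := exists_sylow_inverted hC ht ht1 hu hup htu
  have htr : MulAction.IsPretransitive P Ω :=
    Cfsg.Agent.PermutationGroups.SylowFixed.sylow_isPretransitive hΩ P
  obtain ⟨y, rfl⟩ := htr.exists_smul_eq ω ω'
  have h1 : t • ((y : G) • ω) = (y : G) • ω := h'
  have h3 : (y : G)⁻¹ • ω = (y : G) • ω := by
    rw [← hP y y.2]
    calc (t * (y : G) * t⁻¹) • ω = (t * (y : G) * t⁻¹) • (t • ω) := by rw [h]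
      _ = t • ((y : G) • ω) := by rw [← mul_smul, ← mul_smul]; congr 1; group
      _ = (y : G) • ω := h1
  have h4 : ((y * y : (P : Subgroup G)) : G) • ω = ω := by
    rw [Subgroup.coe_mul, mul_smul, ← h3, ← mul_smul, mul_inv_cancel, one_smul]
  obtain ⟨k, hk⟩ := IsPGroup.iff_orderOf.1 P.isPGroup' (y * y)
  have h5 := free hC h2 hno hΩ ⟨k, by rw [← hk, Subgroup.orderOf_coe]⟩ h4
  have h6 : y * y = 1 := Subtype.ext h5
  obtain ⟨j, hj⟩ := IsPGroup.iff_orderOf.1 P.isPGroup' y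
  have h7 : orderOf y ∣ 2 := orderOf_dvd_of_pow_eq_one (by rw [pow_two]; exact h6)
  have h8 : orderOf y = 1 := by
    rw [hj] at h7 ⊢
    have : Nat.Coprime (p ^ j) 2 :=
      Nat.Coprime.pow_left _ ((Nat.coprime_primes hp.out Nat.prime_two).2 hp2)
    exact Nat.eq_one_of_dvd_coprimes this dvd_rfl h7
  rw [orderOf_eq_one_iff] at h8
  rw [h8]
  show ω = ((1 : (P : Subgroup G)) : G) • ω
  rw [Subgroup.coe_one, one_smul]

include hp in
theorem odd_card (hp2 : p ≠ 2) (hΩ : Nat.card Ω = p ^ r) : ¬ 2 ∣ Nat.card Ω := by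
  rw [hΩ]
  intro h
  exact hp2 ((Nat.prime_dvd_prime_iff_eq Nat.prime_two hp.out).1
    (Nat.prime_two.dvd_of_dvd_pow h)).symm

omit [Finite G] [FaithfulSMul G Ω] hp in
/-- A normal subgroup acts with orbits of `p`-power size. -/
theorem orbit_card_dvd (hΩ : Nat.card Ω = p ^ r) (N : Subgroup G) [N.Normal] (ω : Ω) :
    Nat.card (MulAction.orbit N ω) ∣ p ^ r := by
  have h1 := (MulAction.IsBlock.orbit_of_normal (N := N) ω).ncard_dvd_card (G := G)
    (MulAction.nonempty_orbit ω)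
  rw [hΩ] at h1
  exact h1

omit [Finite G] in
theorem eq_bot_of_normal (hΩ : Nat.card Ω = p ^ r) (N : Subgroup G) [N.Normal]
    (hN : ¬ p ∣ Nat.card N) : N = ⊥ := by
  rw [Subgroup.eq_bot_iff_forall]
  intro x hx
  refine FaithfulSMul.eq_of_smul_eq_smul (α := Ω) fun ω => ?_
  rw [one_smul]
  have h1 := orbit_card_dvd hΩ N ω
  have h2 : Nat.card (MulAction.orbit N ω) ∣ Nat.card N := by
    have h3 := MulAction.index_stabilizer N ω
    have h4 := (MulAction.stabilizer N ω).index_dvd_card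
    rw [h3] at h4
    exact h4
  have h3 : Nat.card (MulAction.orbit N ω) = 1 := by
    refine Nat.eq_one_of_dvd_coprimes (?_ : (p ^ r).Coprime (Nat.card N)) h1 h2
    exact Nat.Coprime.pow_left _ ((hp.out.coprime_iff_not_dvd).2 hN)
  have h4 : Subsingleton (MulAction.orbit N ω) := (Nat.card_eq_one_iff_unique.1 h3).1
  have h5 : (⟨x • ω, ⟨⟨x, hx⟩, rfl⟩⟩ : MulAction.orbit N ω) = ⟨ω, MulAction.mem_orbit_self ω⟩ :=
    Subsingleton.elim _ _
  exact congrArg Subtype.val h5

include hp in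
omit [Finite G] [FaithfulSMul G Ω] in
/-- An involution fixes a point in each orbit of a normal subgroup. -/
theorem exists_fixed (hp2 : p ≠ 2) (hΩ : Nat.card Ω = p ^ r) (N : Subgroup G) [N.Normal] (ω : Ω)
    {T : Subgroup G} (hT : IsPGroup 2 T) (hTN : T ≤ N) :
    ∃ ω' ∈ MulAction.orbit N ω, ∀ t ∈ T, t • ω' = ω' := by
  have h1 := orbit_card_dvd hΩ N ω
  have : Fact (Nat.Prime 2) := ⟨Nat.prime_two⟩
  have hpos : 0 < Nat.card Ω := by rw [hΩ]; exact pow_pos hp.out.pos _
  have hfin : Finite Ω := (Nat.card_pos_iff.1 hpos).2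
  have h2 : ¬ 2 ∣ Nat.card (MulAction.orbit N ω) := fun h =>
    odd_card hp2 hΩ (hΩ ▸ h.trans h1)
  let _ : MulAction T (MulAction.orbit N ω) :=
    MulAction.compHom _ (Subgroup.inclusion hTN)
  have hT' : IsPGroup 2 T := hT
  obtain ⟨x, hx⟩ := hT'.nonempty_fixed_point_of_prime_not_dvd_card (MulAction.orbit N ω) h2
  refine ⟨x, x.2, fun t ht => ?_⟩
  have h3 := hx ⟨t, ht⟩
  exact congrArg Subtype.val h3

/-- If `2 ^ k` divides `|G|` then it divides `p ^ r - 1`. -/
theorem two_pow_dvd (hp2 : p ≠ 2) (hC : OddCent p G) (h2 : 2 ∣ Nat.card G) (hno : ¬ HasDZ p G)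
    (hΩ : Nat.card Ω = p ^ r) {k : ℕ} (hk : 2 ^ k ∣ Nat.card G) : 2 ^ k ∣ p ^ r - 1 := by
  classical
  have : Fact (Nat.Prime 2) := ⟨Nat.prime_two⟩
  obtain ⟨T, hT⟩ := Sylow.exists_subgroup_card_pow_prime 2 hk
  have hT2 : IsPGroup 2 T := IsPGroup.of_card hT
  have hpos : 0 < Nat.card Ω := by rw [hΩ]; exact pow_pos hp.out.pos _
  have hfin : Finite Ω := (Nat.card_pos_iff.1 hpos).2
  obtain ⟨ω⟩ := (Nat.card_pos_iff.1 hpos).1
  have : Fintype T := Fintype.ofFinite T
  have : Fintype Ω := Fintype.ofFinite Ω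
  have hfix : ∀ t : T, t ≠ 1 → Fintype.card (MulAction.fixedBy Ω t) = 1 := by
    intro t ht
    rw [Fintype.card_eq_one_iff]
    have : (⊤ : Subgroup G).Normal := inferInstance
    obtain ⟨ω', -, hω'⟩ := exists_fixed hp2 hΩ (⊤ : Subgroup G) ω hT2 le_top
    refine ⟨⟨ω', hω' t t.2⟩, ?_⟩
    rintro ⟨y, hy⟩
    apply Subtype.ext
    -- an involution in the group generated by `t`
    obtain ⟨j, hj⟩ := IsPGroup.iff_orderOf.1 hT2 t
    have hj0 : j ≠ 0 := by
      rintro rfl
      exact ht (orderOf_eq_one_iff.1 (by simpa using hj))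
    obtain ⟨i, rfl⟩ : ∃ i, j = i + 1 := ⟨j - 1, by omega⟩
    have hs : orderOf ((t : G) ^ (2 ^ i)) = 2 := by
      have h3 : orderOf (t : G) = 2 ^ (i + 1) := by rw [Subgroup.orderOf_coe, hj]
      rw [orderOf_pow_of_dvd (by positivity) (by rw [h3]; exact pow_dvd_pow _ (by omega)), h3]
      rw [pow_succ]
      exact Nat.mul_div_cancel_left 2 (by positivity)
    have hs1 : (t : G) ^ (2 ^ i) ≠ 1 := by
      intro h
      rw [h, orderOf_one] at hs
      exact absurd hs (by norm_num)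
    have hss : (t : G) ^ (2 ^ i) * (t : G) ^ (2 ^ i) = 1 := by
      have h4 := pow_orderOf_eq_one ((t : G) ^ (2 ^ i))
      rw [hs, pow_two] at h4
      exact h4
    have hpow : ∀ z : Ω, (t : G) • z = z → ∀ n : ℕ, (t : G) ^ n • z = z := by
      intro z hz n
      induction n with
      | zero => rw [pow_zero, one_smul]
      | succ n ih => rw [pow_succ, mul_smul, hz, ih]
    exact fixed_unique hp2 hC h2 hno hΩ hss hs1 (hpow y hy _) (hpow ω' (hω' t t.2) _)
  have hburn := MulAction.sum_card_fixedBy_eq_card_orbits_mul_card_group T Ω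
  have hone : Fintype.card (MulAction.fixedBy Ω (1 : T)) = p ^ r := by
    rw [← hΩ, Nat.card_eq_fintype_card]
    refine Fintype.card_congr (Equiv.subtypeUnivEquiv fun x => ?_)
    exact one_smul _ _
  rw [← Finset.add_sum_erase _ _ (Finset.mem_univ (1 : T)), hone,
    Finset.sum_congr rfl (fun t ht => hfix t (Finset.ne_of_mem_erase ht)), Finset.sum_const,
    Finset.card_erase_of_mem (Finset.mem_univ _), Finset.card_univ, smul_eq_mul, mul_one] at hburn
  have hTc : Fintype.card T = 2 ^ k := by rw [← hT, Nat.card_eq_fintype_card]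
  rw [hTc] at hburn
  have h5 : 1 ≤ p ^ r := Nat.one_le_pow _ _ hp.out.pos
  have h6 : 1 ≤ 2 ^ k := Nat.one_le_two_pow
  have h7 : 2 ^ k ∣ (p ^ r - 1) + 2 ^ k := by
    refine ⟨Fintype.card (Quotient (MulAction.orbitRel T Ω)), ?_⟩
    rw [mul_comm, ← hburn]
    (clear * - hΩ hk hpos; omega)
  exact (Nat.dvd_add_left dvd_rfl).1 h7

end Cfsg.Agent.H665.TransPow
end

-- part: H665/TransPowArith
section
/-!
# Arithmetic of the orders of the Bender groups

A prime power `p ^ r`, `p` odd, dividing the order of one of the groups `PSL₂(q)`, `Sz(q)`, `PSU₃(q)`,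
`q` even, and congruent to one modulo the order of a Sylow `2`-subgroup, is `q + 1`, with the group
`PSL₂(q)`.
-/

set_option autoImplicit false

namespace Cfsg.Agent.H665.TransPowArith

/-- A prime power dividing a product of two coprime-at-`p` factors. -/
theorem dvd_of_dvd_mul {p r a b : ℕ} (hp : p.Prime) (h : p ^ r ∣ a * b) (hb : ¬ p ∣ b) :
    p ^ r ∣ a :=
  Nat.Coprime.dvd_of_dvd_mul_right (Nat.Coprime.pow_left _ ((hp.coprime_iff_not_dvd).2 hb)) h

theorem le_of_dvd_sub {p r q : ℕ} (hp : p.Prime) (hr : 1 ≤ r) (h : q ∣ p ^ r - 1) :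
    q + 1 ≤ p ^ r := by
  have h1 : 1 < p ^ r := Nat.one_lt_pow (by omega) hp.one_lt
  have h2 := Nat.le_of_dvd (by omega) h
  omega

theorem psl {p r q : ℕ} (hp : p.Prime) (hp2 : p ≠ 2) (hr : 1 ≤ r) (hq : ¬ p ∣ q) (h4 : 4 ≤ q)
    (h1 : q ∣ p ^ r - 1) (h2 : p ^ r ∣ q * (q ^ 2 - 1)) : p ^ r = q + 1 := by
  obtain ⟨t, rfl⟩ : ∃ t, q = t + 1 := ⟨q - 1, by omega⟩
  have e : (t + 1) ^ 2 - 1 = t * (t + 2) := by
    apply Nat.sub_eq_of_eq_add; ring
  rw [e, mul_comm] at h2
  have h3 := dvd_of_dvd_mul hp h2 hq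
  have h5 := le_of_dvd_sub hp hr h1
  by_cases ht : p ∣ t
  · exfalso
    have h6 : ¬ p ∣ t + 2 := fun h => hp2 ((Nat.prime_dvd_prime_iff_eq hp Nat.prime_two).1
      ((Nat.dvd_add_right ht).1 h))
    have h7 := Nat.le_of_dvd (by omega) (dvd_of_dvd_mul hp h3 h6)
    omega
  · rw [mul_comm] at h3
    have h7 := Nat.le_of_dvd (by omega) (dvd_of_dvd_mul hp h3 ht)
    omega

theorem suz {p r m : ℕ} (hp : p.Prime) (hp2 : p ≠ 2) (hr : 1 ≤ r) (hm : 1 ≤ m)
    (h1 : (2 ^ (2 * m + 1)) ^ 2 ∣ p ^ r - 1)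
    (h2 : p ^ r ∣ (2 ^ (2 * m + 1)) ^ 2 * ((2 ^ (2 * m + 1)) ^ 2 + 1) * (2 ^ (2 * m + 1) - 1)) :
    False := by
  set s := 2 ^ m with hs
  have hs2 : 2 ≤ s := by
    calc 2 = 2 ^ 1 := by norm_num
      _ ≤ 2 ^ m := Nat.pow_le_pow_right (by norm_num) hm
  have hps : ¬ p ∣ 2 ^ m := fun h => hp2
    ((Nat.prime_dvd_prime_iff_eq hp Nat.prime_two).1 (hp.dvd_of_dvd_pow h))
  have e : 2 ^ (2 * m + 1) = 2 * s ^ 2 := by rw [hs]; ring
  rw [e] at h1 h2
  have hq : ¬ p ∣ (2 * s ^ 2) ^ 2 := by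
    intro h
    have h3 := hp.dvd_of_dvd_pow h
    rcases hp.dvd_mul.1 h3 with h | h
    · exact hp2 ((Nat.prime_dvd_prime_iff_eq hp Nat.prime_two).1 h)
    · exact hps (hp.dvd_of_dvd_pow h)
  rw [mul_assoc, mul_comm] at h2
  have h3 := dvd_of_dvd_mul hp h2 hq
  have h5 := le_of_dvd_sub hp hr h1
  obtain ⟨t, ht⟩ : ∃ t, 2 * s ^ 2 = t + 1 := ⟨2 * s ^ 2 - 1, by
    have : 0 < s ^ 2 := by positivity
    omega⟩
  have ht1 : 2 * s ^ 2 - 1 = t := by omega
  rw [ht1] at h3
  have ht0 : 0 < t := by nlinarith only [hs2, ht]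
  by_cases htd : p ∣ t
  · have h6 : ¬ p ∣ (2 * s ^ 2) ^ 2 + 1 := by
      intro h
      rw [ht] at h
      have h7 : p ∣ t * (t + 2) + 2 := by
        convert h using 1; ring
      exact hp2 ((Nat.prime_dvd_prime_iff_eq hp Nat.prime_two).1
        ((Nat.dvd_add_right (Dvd.dvd.mul_right htd _)).1 h7))
    rw [mul_comm] at h3
    have h7 := Nat.le_of_dvd ht0 (dvd_of_dvd_mul hp h3 h6)
    rw [ht] at h5
    nlinarith only [h5, h7]
  · have h6 := dvd_of_dvd_mul hp h3 htd
    have h7 := Nat.le_of_dvd (by positivity) h6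
    have h8 : p ^ r = (2 * s ^ 2) ^ 2 + 1 := le_antisymm h7 h5
    obtain ⟨u, hu⟩ : ∃ u, s = u + 2 := ⟨s - 2, by omega⟩
    -- the two factors
    have hA : (2 * u * u + 6 * u + 5) * (2 * u * u + 10 * u + 13) = p ^ r := by
      rw [h8, hu]; ring
    have hA1 : p ∣ 2 * u * u + 6 * u + 5 := by
      obtain ⟨k, -, hk⟩ := (Nat.dvd_prime_pow hp).1 (Dvd.intro _ hA)
      have hk0 : k ≠ 0 := by rintro rfl; rw [pow_zero] at hk; omega
      rw [hk]; exact dvd_pow_self p hk0
    have hB1 : p ∣ 2 * u * u + 10 * u + 13 := by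
      obtain ⟨k, -, hk⟩ := (Nat.dvd_prime_pow hp).1 (Dvd.intro_left _ hA)
      have hk0 : k ≠ 0 := by rintro rfl; rw [pow_zero] at hk; omega
      rw [hk]; exact dvd_pow_self p hk0
    have h9 : p ∣ 4 * s := by
      have h10 := Nat.dvd_sub hB1 hA1
      have h11 : 2 * u * u + 10 * u + 13 - (2 * u * u + 6 * u + 5) = 4 * s := by
        rw [hu]; (clear * -; omega)
      rwa [h11] at h10
    rcases hp.dvd_mul.1 h9 with h | h
    · exact hp2 ((Nat.prime_dvd_prime_iff_eq hp Nat.prime_two).1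
        (hp.dvd_of_dvd_pow (show p ∣ 2 ^ 2 by norm_num; exact h)))
    · exact hps h

theorem psu {p r t N : ℕ} (hp : p.Prime) (hp2 : p ≠ 2) (hr : 1 ≤ r) (hq : ¬ p ∣ t + 1)
    (h4 : 4 ≤ t + 1) (h1 : (t + 1) ^ 3 ∣ p ^ r - 1) (h2 : p ^ r ∣ N)
    (hN : Nat.gcd 3 (t + 2) * N = (t + 1) ^ 3 * (t * ((t + 2) ^ 2 * (t ^ 2 + t + 1)))) : False := by
  have h5 := le_of_dvd_sub hp hr h1
  have hq3 : ¬ p ∣ (t + 1) ^ 3 := fun h => hq (hp.dvd_of_dvd_pow h)
  have key : ∀ j, p ^ j ∣ Nat.gcd 3 (t + 2) * N → p ^ j ∣ t * ((t + 2) ^ 2 * (t ^ 2 + t + 1)) := by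
    intro j hj
    rw [hN, mul_comm] at hj
    exact dvd_of_dvd_mul hp hj hq3
  have hr2 : p ^ r ∣ Nat.gcd 3 (t + 2) * N := Dvd.dvd.mul_left h2 _
  by_cases ht : p ∣ t
  · -- `p` divides `q - 1`
    have h6 : ¬ p ∣ (t + 2) ^ 2 * (t ^ 2 + t + 1) := by
      intro h
      rcases hp.dvd_mul.1 h with h | h
      · exact hp2 ((Nat.prime_dvd_prime_iff_eq hp Nat.prime_two).1
          ((Nat.dvd_add_right ht).1 (hp.dvd_of_dvd_pow h)))
      · have h7 : p ∣ t * (t + 1) + 1 := by convert h using 1; ring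
        exact hp.one_lt.ne' (Nat.dvd_one.1 ((Nat.dvd_add_right (Dvd.dvd.mul_right ht _)).1 h7))
    have h7 := Nat.le_of_dvd (by omega) (dvd_of_dvd_mul hp (key r hr2) h6)
    nlinarith only [h5, h7, _root_.sq_nonneg (↑t : ℤ), _root_.Nat.cast_nonneg (α := ℤ) (t)]
  · have h6 : ∀ j, p ^ j ∣ Nat.gcd 3 (t + 2) * N → p ^ j ∣ (t + 2) ^ 2 * (t ^ 2 + t + 1) := by
      intro j hj
      have := key j hj
      rw [mul_comm] at this
      exact dvd_of_dvd_mul hp this ht
    have hlast : p ^ r ∣ (t + 2) ^ 2 ∨ p ^ r ∣ t ^ 2 + t + 1 := by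
      by_cases hpt : p ∣ t + 2
      swap
      · right
        have h7 : ¬ p ∣ (t + 2) ^ 2 := fun h => hpt (hp.dvd_of_dvd_pow h)
        have h8 := h6 r hr2
        rw [mul_comm] at h8
        exact dvd_of_dvd_mul hp h8 h7
      left
      by_cases hp3 : p = 3
      · subst hp3
        have hg : Nat.gcd 3 (t + 2) = 3 := Nat.gcd_eq_left hpt
        have h7 := h6 (r + 1) (by rw [hg, pow_succ, mul_comm]; exact Nat.mul_dvd_mul_left 3 h2)
        obtain ⟨v, hv⟩ := hpt
        have hv1 : 1 ≤ v := by omega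
        -- `t ^ 2 + t + 1 = 3 * (3 * v * (v - 1) + 1)`
        obtain ⟨w, rfl⟩ : ∃ w, v = w + 1 := ⟨v - 1, by omega⟩
        have ht' : t = 3 * w + 1 := by omega
        have e : t ^ 2 + t + 1 = 3 * (3 * (w * (w + 1)) + 1) := by rw [ht']; ring
        rw [e, show (t + 2) ^ 2 * (3 * (3 * (w * (w + 1)) + 1)) =
          3 * ((t + 2) ^ 2 * (3 * (w * (w + 1)) + 1)) by ring, pow_succ, mul_comm (3 ^ r) 3] at h7
        have h8 := Nat.dvd_of_mul_dvd_mul_left (by norm_num) h7
        exact dvd_of_dvd_mul hp h8 (by omega)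
      · have h7 : ¬ p ∣ t ^ 2 + t + 1 := by
          intro h
          obtain ⟨v, hv⟩ := hpt
          have h8 : p ∣ (t + 2) * (t + 2) := Dvd.dvd.mul_right ⟨v, hv⟩ _
          have h9 : (t + 2) * (t + 2) = (t ^ 2 + t + 1) + 3 * (t + 1) := by ring
          rw [h9] at h8
          have h10 := (Nat.dvd_add_right h).1 h8
          rcases hp.dvd_mul.1 h10 with h11 | h11
          · exact hp3 ((Nat.prime_dvd_prime_iff_eq hp Nat.prime_three).1 h11)
          · exact hq h11
        exact dvd_of_dvd_mul hp (h6 r hr2) h7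
    rcases hlast with h | h
    · have h7 := Nat.le_of_dvd (by positivity) h
      nlinarith only [h4, h5, h7]
    · have h7 := Nat.le_of_dvd (by (clear * -; positivity)) h
      nlinarith only [h5, h7]

end Cfsg.Agent.H665.TransPowArith
end

-- part: H665/TransPowMain
section
/-!
# Transitive groups of degree `p ^ r`: without characters of `p`-defect zero they are `p`-solvable

`isPSolvable` : let `G` be faithful and transitive on `p ^ r` points, `p` odd, `r ≥ 1`, of even order,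
let the centralizers of the nonidentity `p`-elements have odd order, and suppose that `G` has no
irreducible character of `p`-defect zero.  Then `G` is `p`-solvable.

The Odd Order Theorem (S0205) and Bender's theorem for simple groups (S0222) enter as the hypotheses
`OddOrder` and `Bender`.
-/

set_option autoImplicit false

namespace Cfsg.Agent.H665.TransPow

open Cfsg Cfsg.Agent.H665.OddCent Cfsg.Agent.H665.NoPQ Cfsg.Agent.Blocks.Basic

universe u v

/-- The Odd Order Theorem, as in S0205. -/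
def OddOrder : Prop :=
  ∀ (X : Type u) [Group X] [Finite X], Odd (Nat.card X) → Group.IsSolvable X

/-- Bender's theorem for simple groups, as in S0222. -/
def Bender : Prop :=
  ∀ (X : Type u) [Group X] [Finite X] [IsSimpleGroup X], (∃ a b : X, a * b ≠ b * a) →
    ∀ H : Subgroup X, Cfsg.IsStronglyEmbedded H →
    (∃ (F : Type) (_ : Field F) (_ : Fintype F), CharP F 2 ∧ 4 ≤ Fintype.card F ∧
      Nonempty (X ≃* Matrix.ProjectiveSpecialLinearGroup (Fin 2) F)) ∨ Cfsg.IsSuzuki X ∨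
    (∃ (F : Type) (_ : Field F) (_ : Fintype F) (q : ℕ), Fintype.card F = q ^ 2 ∧ Even q ∧ 4 ≤ q ∧
      Nonempty (X ≃* Cfsg.PSU 3 F q))

variable {G : Type u} {Ω : Type v} [Group G] [Finite G]

/-- A nontrivial normal `p`-subgroup makes `G` `p`-solvable. -/
theorem isPSolvable_of_normal_pGroup (hOO : OddOrder.{u}) {p : ℕ} [hp : Fact p.Prime] (hC : OddCent p G)
    (h2 : 2 ∣ Nat.card G) (hno : ¬ HasDZ p G) (K : Subgroup G) [K.Normal] (hK : IsPGroup p K)
    (hK0 : K ≠ ⊥) : IsPSolvable p G := by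
  obtain ⟨⟨x, hxK⟩, hx⟩ := Subgroup.ne_bot_iff_exists_ne_one.1 hK0
  have hx1 : x ≠ 1 := fun h => hx (Subtype.ext h)
  obtain ⟨k, hk⟩ := IsPGroup.iff_orderOf.1 hK ⟨x, hxK⟩
  rw [Subgroup.orderOf_mk] at hk
  set C := Subgroup.centralizer (K : Set G) with hCdef
  have hCn : C.Normal := inferInstance
  have hodd : Odd (Nat.card C) := by
    refine Odd.of_dvd_nat (hC x hx1 ⟨k, hk⟩) (Subgroup.card_dvd_of_le ?_)
    exact Subgroup.centralizer_le (by simpa using hxK)
  have hsol : Group.IsSolvable C := hOO _ hodd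
  obtain ⟨P⟩ : Nonempty (Sylow p G) := inferInstance
  have hKP : K ≤ (P : Subgroup G) := hK.le_sylow_of_normal P
  have hPC : (P : Subgroup G) ≤ C := by
    intro y hy
    rw [hCdef, Subgroup.mem_centralizer_iff]
    intro z hz
    exact comm_of_sylow hC h2 hno P (hKP hz) hy
  refine Cfsg.Agent.Lib.PSolvable.IsPSolvable_of_extension p C
    (Cfsg.Agent.Lib.PSolvable.IsPSolvable_of_solvable p) ?_
  refine Cfsg.Agent.PLocal.PSolvable.isPSolvable_of_coprime ?_
  have h3 : Nat.card (G ⧸ C) = C.index := rfl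
  rw [h3, Nat.coprime_comm, hp.out.coprime_iff_not_dvd]
  intro h4
  exact P.not_dvd_index (h4.trans (Subgroup.index_dvd_of_le hPC))

/-- A minimal normal subgroup of order divisible by `2` and `p` is simple and not abelian. -/
theorem simple_of_minimal {p : ℕ} [hp : Fact p.Prime] (hC : OddCent p G)
    (M : Subgroup G) [M.Normal] (hM : M ≠ ⊥)
    (hmin : ∀ N : Subgroup G, N.Normal → N ≤ M → N = ⊥ ∨ N = M)
    (h2 : 2 ∣ Nat.card M) (hpM : p ∣ Nat.card M) :
    IsSimpleGroup M ∧ ∃ a b : M, a * b ≠ b * a := by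
  classical
  have : Fact (Nat.Prime 2) := ⟨Nat.prime_two⟩
  have hnc : ∀ a b : M, orderOf a = 2 → orderOf b = p → a * b ≠ b * a := by
    intro a b ha hb hab
    have h3 : orderOf (a : G) = 2 := by rw [Subgroup.orderOf_coe, ha]
    have h4 : orderOf (b : G) = p := by rw [Subgroup.orderOf_coe, hb]
    refine not_commute_invol hC (t := (a : G)) (x := (b : G)) ?_ ?_ ?_ ⟨1, by rw [h4, pow_one]⟩
      (congrArg Subtype.val hab)
    · rw [← pow_two, ← h3, pow_orderOf_eq_one]
    · intro h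
      rw [h, orderOf_one] at h3
      exact absurd h3 (by norm_num)
    · intro h
      rw [h, orderOf_one] at h4
      exact hp.out.one_lt.ne h4
  obtain ⟨T, m, -, hT, hm, ⟨e⟩⟩ := Cfsg.Agent.Lib.MinNormal.exists_mulEquiv_pi M hM hmin
  have hcard : Nat.card M = Nat.card T ^ m := by
    rw [Nat.card_congr e.toEquiv, Nat.card_fun, Nat.card_fin]
  have h2T : 2 ∣ Nat.card T := Nat.prime_two.dvd_of_dvd_pow (hcard ▸ h2)
  have hpT : p ∣ Nat.card T := hp.out.dvd_of_dvd_pow (hcard ▸ hpM)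
  obtain ⟨t, ht⟩ := exists_prime_orderOf_dvd_card' 2 h2T
  obtain ⟨x, hx⟩ := exists_prime_orderOf_dvd_card' p hpT
  have hm1 : m = 1 := by
    by_contra hne
    have hlt : 1 < m := by omega
    let i : Fin m := ⟨0, by omega⟩
    let j : Fin m := ⟨1, hlt⟩
    have hij : i ≠ j := by
      intro h
      exact absurd (congrArg Fin.val h) (by simp [i, j])
    have h3 : orderOf (e.symm (Pi.mulSingle i t)) = 2 := by
      rw [MulEquiv.orderOf_eq, ← ht]
      exact orderOf_injective (MonoidHom.mulSingle (fun _ : Fin m => (T : Type _)) i)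
        (fun a b h => Pi.mulSingle_injective (M := fun _ : Fin m => (T : Type _)) i h) t
    have h4 : orderOf (e.symm (Pi.mulSingle j x)) = p := by
      rw [MulEquiv.orderOf_eq, ← hx]
      exact orderOf_injective (MonoidHom.mulSingle (fun _ : Fin m => (T : Type _)) j)
        (fun a b h => Pi.mulSingle_injective (M := fun _ : Fin m => (T : Type _)) j h) x
    refine hnc _ _ h3 h4 ?_
    rw [← map_mul, ← map_mul]
    congr 1
    exact (Pi.mulSingle_commute (f := fun _ : Fin m => (T : Type _)) hij t x)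
  subst hm1
  have e' : M ≃* T := e.trans (MulEquiv.funUnique (Fin 1) T)
  have hsimple : IsSimpleGroup M := by
    have := hT
    exact e'.isSimpleGroup_congr.2 hT
  refine ⟨hsimple, e'.symm t, e'.symm x, hnc _ _ ?_ ?_⟩
  · rw [MulEquiv.orderOf_eq, ht]
  · rw [MulEquiv.orderOf_eq, hx]

variable [MulAction G Ω] [FaithfulSMul G Ω] [MulAction.IsPretransitive G Ω] {p r : ℕ}
  [hp : Fact p.Prime]

/-- A minimal normal subgroup is simple nonabelian and has even order, or `G` is `p`-solvable. -/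
theorem exists_simple (hOO : OddOrder.{u}) (hC : OddCent p G) (h2 : 2 ∣ Nat.card G)
    (hno : ¬ HasDZ p G) (hΩ : Nat.card Ω = p ^ r) :
    IsPSolvable p G ∨ ∃ M : Subgroup G, M.Normal ∧ 2 ∣ Nat.card M ∧ IsSimpleGroup M ∧
      ∃ a b : M, a * b ≠ b * a := by
  have hnt : Nontrivial G := by
    by_contra h
    rw [not_nontrivial_iff_subsingleton] at h
    rw [Nat.card_of_subsingleton (1 : G)] at h2
    omega
  obtain ⟨M, hMn, hM0, hmin⟩ := Cfsg.Agent.Lib.SubnormalJoin.exists_minimal_normal G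
  have hpM : p ∣ Nat.card M := by
    by_contra h
    exact hM0 (eq_bot_of_normal hΩ M h)
  by_cases h2M : 2 ∣ Nat.card M
  · right
    exact ⟨M, hMn, h2M, simple_of_minimal hC M hM0 hmin h2M hpM⟩
  left
  have hodd : Odd (Nat.card M) := by
    rw [← Nat.not_even_iff_odd, even_iff_two_dvd]; exact h2M
  have hsol : Group.IsSolvable M := hOO _ hodd
  have hMnt : Nontrivial M := (Subgroup.nontrivial_iff_ne_bot M).2 hM0
  have hps : IsPSolvable p M := Cfsg.Agent.Lib.PSolvable.IsPSolvable_of_solvable p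
  refine isPSolvable_of_normal_pGroup hOO hC h2 hno M ?_ hM0
  have haux : ∀ K : Subgroup M, K.Characteristic → K ≠ ⊥ → K.map M.subtype = M := by
    intro K hK hK0
    have h3 : (K.map M.subtype).Normal := inferInstance
    rcases hmin _ h3 (Subgroup.map_subtype_le K) with h | h
    · exact absurd ((Subgroup.map_eq_bot_iff_of_injective K (Subgroup.subtype_injective M)).1 h) hK0
    · exact h
  rcases Cfsg.Agent.Lib.PSolvable.exists_core_ne_bot p hps with h | h
  · have h4 := haux _ (Cfsg.Agent.Lib.PSolvable.pCore_characteristic p) h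
    rw [← h4]
    exact (Cfsg.Agent.Lib.HallHigman.pCore_isPGroup p).map _
  · exfalso
    have h4 := haux _ (Cfsg.Agent.Lib.PSolvable.pPrimeCore_characteristic p) h
    have h5 : (Nat.card (pPrimeCore p M)).Coprime p :=
      Cfsg.Agent.Lib.HallHigman.pPrimeCore_coprime p
    rw [← h4, Subgroup.card_map_of_injective (Subgroup.subtype_injective _)] at hpM
    exact hp.out.one_lt.ne' (Nat.eq_one_of_dvd_coprimes h5 hpM dvd_rfl)

omit [Finite G] [MulAction G Ω] [FaithfulSMul G Ω] [MulAction.IsPretransitive G Ω] hp in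
/-- Order of `PSU(3, q)`. -/
theorem card_psu_three {F : Type*} [Field F] [Fintype F] {t : ℕ}
    (hF : Fintype.card F = (t + 1) ^ 2) :
    Nat.gcd 3 (t + 2) * Nat.card (Cfsg.PSU 3 F (t + 1))
      = (t + 1) ^ 3 * (t * ((t + 2) ^ 2 * (t ^ 2 + t + 1))) := by
  have h := Cfsg.Agent.S0280.result (F := F) hF 3 (by norm_num)
  rw [Finset.prod_range_succ, Finset.prod_range_succ, Finset.prod_range_one] at h
  have e1 : (t + 1) ^ (1 + 1) - 1 = t * (t + 2) := by
    apply Nat.sub_eq_of_eq_add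
    ring
  have e3 : (t + 1) ^ (2 + 1) + 1 = (t + 2) * (t ^ 2 + t + 1) := by ring
  rw [if_pos (by decide), if_neg (by decide), if_pos (by decide), e1, e3] at h
  apply Nat.eq_of_mul_eq_mul_left (Nat.succ_pos (t + 1))
  change (t + 2) * _ = (t + 2) * _
  have e4 : t + 1 + 1 = t + 2 := rfl
  rw [e4] at h
  calc (t + 2) * (Nat.gcd 3 (t + 2) * Nat.card (Cfsg.PSU 3 F (t + 1)))
      = Nat.gcd 3 (t + 2) * ((t + 2) * Nat.card (Cfsg.PSU 3 F (t + 1))) := by ring
    _ = _ := by
      rw [h]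
      norm_num
      ring

/-- **Main theorem.** -/
theorem isPSolvable (hOO : OddOrder.{u}) (hB : Bender.{u}) (hp2 : p ≠ 2) (hr : 1 ≤ r) (hC : OddCent p G) (h2 : 2 ∣ Nat.card G)
    (hno : ¬ HasDZ p G) (hΩ : Nat.card Ω = p ^ r) : IsPSolvable p G := by
  classical
  have : Fact (Nat.Prime 2) := ⟨Nat.prime_two⟩
  rcases exists_simple hOO hC h2 hno hΩ with h | ⟨M, hMn, h2M, hMs, hna⟩
  · exact h
  exfalso
  have hpos : 0 < Nat.card Ω := by rw [hΩ]; exact pow_pos hp.out.pos _
  have hfin : Finite Ω := (Nat.card_pos_iff.1 hpos).2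
  obtain ⟨ω⟩ := (Nat.card_pos_iff.1 hpos).1
  -- an involution of `M`
  obtain ⟨t, ht⟩ := exists_prime_orderOf_dvd_card' 2 h2M
  have hinv : ∀ s : M, orderOf s = 2 → (s : G) * s = 1 ∧ (s : G) ≠ 1 := by
    intro s hs
    have h3 : orderOf (s : G) = 2 := by rw [Subgroup.orderOf_coe, hs]
    refine ⟨by rw [← pow_two, ← h3, pow_orderOf_eq_one], ?_⟩
    intro h
    rw [h, orderOf_one] at h3
    exact absurd h3 (by norm_num)
  -- `M` is transitive
  have htM : IsPGroup 2 (Subgroup.zpowers (t : G)) := isPGroup_two_zpowers (hinv t ht).1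
  have htle : Subgroup.zpowers (t : G) ≤ M := by
    rw [Subgroup.zpowers_le]; exact t.2
  have htrM : MulAction.IsPretransitive M Ω := by
    constructor
    intro a b
    obtain ⟨a', ha', hfa⟩ := exists_fixed hp2 hΩ M a htM htle
    obtain ⟨b', hb', hfb⟩ := exists_fixed hp2 hΩ M b htM htle
    have hab : a' = b' := fixed_unique hp2 hC h2 hno hΩ (hinv t ht).1 (hinv t ht).2
      (hfa _ (Subgroup.mem_zpowers _)) (hfb _ (Subgroup.mem_zpowers _))
    subst hab
    obtain ⟨x, rfl⟩ := ha'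
    obtain ⟨y, hy⟩ := hb'
    refine ⟨y⁻¹ * x, ?_⟩
    have hy' : y • b = x • a := hy
    rw [mul_smul, ← hy', inv_smul_smul]
  have hdiv : p ^ r ∣ Nat.card M := by
    have h3 := MulAction.index_stabilizer_of_transitive M ω
    rw [← hΩ, ← h3]
    exact (MulAction.stabilizer M ω).index_dvd_card
  have hrN : (Nat.card G).factorization p = r := by
    obtain ⟨P⟩ : Nonempty (Sylow p G) := inferInstance
    have h3 := card_sylow hC h2 hno hΩ P
    rw [P.card_eq_multiplicity] at h3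
    exact Nat.pow_right_injective hp.out.two_le h3
  have htwo : ∀ k, 2 ^ k ∣ Nat.card M → 2 ^ k ∣ p ^ r - 1 := fun k hk =>
    two_pow_dvd hp2 hC h2 hno hΩ (hk.trans (Subgroup.card_subgroup_dvd_card M))
  have hp2' : ∀ k, ¬ p ∣ 2 ^ k := fun k h => hp2
    ((Nat.prime_dvd_prime_iff_eq hp.out Nat.prime_two).1 (hp.out.dvd_of_dvd_pow h))
  -- point stabilizers are strongly embedded
  have hse : IsStronglyEmbedded (MulAction.stabilizer M ω) := by
    refine ⟨?_, ?_, ?_⟩
    · intro h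
      have h3 := MulAction.index_stabilizer_of_transitive M ω
      rw [h, Subgroup.index_top, hΩ] at h3
      exact (Nat.one_lt_pow (by omega) hp.out.one_lt).ne h3
    · have h3 := (MulAction.stabilizer M ω).card_mul_index
      rw [MulAction.index_stabilizer_of_transitive M ω] at h3
      rw [even_iff_two_dvd]
      rcases Nat.prime_two.dvd_mul.1 (h3 ▸ h2M) with h | h
      · exact h
      · exact absurd h (odd_card hp2 hΩ)
    · intro g hg
      rw [← Nat.not_even_iff_odd, even_iff_two_dvd]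
      intro hd
      obtain ⟨⟨s, hs12⟩, hs⟩ := exists_prime_orderOf_dvd_card' 2 hd
      rw [Subgroup.orderOf_mk] at hs
      obtain ⟨hs1, u, hu, hus⟩ := hs12
      apply hg
      rw [MulAction.mem_stabilizer_iff]
      refine fixed_unique hp2 hC h2 hno hΩ (hinv s hs).1 (hinv s hs).2 ?_ hs1
      have hu' : u • ω = ω := hu
      have hus' : g * u * g⁻¹ = s := hus
      show s • (g • ω) = g • ω
      rw [← hus', mul_smul, inv_smul_smul, mul_smul, hu']
  rcases hB _ hna _ hse with ⟨F, _, _, hchar, h4, ⟨e⟩⟩ | hsz |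
    ⟨F, _, _, q, hF, hq, hq4, ⟨e⟩⟩
  · -- `PSL₂`
    have h20 : (2 : F) = 0 := by
      have := CharP.cast_eq_zero F 2
      exact_mod_cast this
    obtain ⟨n, hn2, hn⟩ := FiniteField.card F 2
    have heven : Even (Fintype.card F) := by
      rw [hn, even_iff_two_dvd]
      exact dvd_pow_self 2 n.pos.ne'
    have hcard : Nat.card M = Fintype.card F * (Fintype.card F ^ 2 - 1) := by
      rw [Nat.card_congr e.toEquiv,
        Cfsg.Agent.ClassicalGeometry.PSL2Basic.card_PSL2_even (F := F) (heven := heven)]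
    have hq : p ^ r = Fintype.card F + 1 := by
      refine TransPowArith.psl hp.out hp2 hr (hn ▸ hp2' _) h4 ?_ (hcard ▸ hdiv)
      rw [hn]
      exact htwo _ (by rw [hcard, ← hn]; exact Dvd.intro _ rfl)
    obtain ⟨ψ, hψ⟩ := Psl2Char.exists_irr_psl_two h20 h4
    obtain ⟨θ, hθ⟩ := Psl2Char.exists_irr_of_equiv e ψ
    obtain ⟨χ, hχ⟩ := Psl2Char.exists_over_dvd M θ
    rw [hθ, hψ, ← hq] at hχ
    refine hno ⟨χ, ?_⟩
    have hd : charDegree (χ : G → ℂ) ∣ Nat.card G := Cfsg.Agent.Blocks.Knorr.charDegree_dvd χ.2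
    have hd0 : charDegree (χ : G → ℂ) ≠ 0 := (charDegree_pos χ.2).ne'
    refine le_antisymm ((Nat.factorization_le_iff_dvd hd0 Nat.card_pos.ne').2 hd p) ?_
    rw [hrN]
    exact (hp.out.pow_dvd_iff_le_factorization hd0).1 hχ
  · -- Suzuki groups
    obtain ⟨-, m, hm, hcard⟩ := hsz
    refine TransPowArith.suz hp.out hp2 hr hm ?_ (hcard ▸ hdiv)
    rw [← pow_mul]
    refine htwo _ ?_
    rw [hcard, pow_mul, mul_assoc]
    exact Dvd.intro _ rfl
  · -- `PSU₃`
    obtain ⟨t', rfl⟩ : ∃ t', q = t' + 1 := ⟨q - 1, by omega⟩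
    -- `q` is a power of two
    obtain ⟨k, hk⟩ : ∃ k, t' + 1 = 2 ^ k := by
      obtain ⟨ℓ, hℓ⟩ := CharP.exists F
      obtain ⟨n, hn2, hn⟩ := FiniteField.card F ℓ
      have h2ℓ : 2 ∣ ℓ ^ (n : ℕ) := by
        rw [← hn, hF]
        exact (even_iff_two_dvd.1 hq).trans (dvd_pow_self _ (by norm_num))
      have h2ℓ' : 2 = ℓ := (Nat.prime_dvd_prime_iff_eq Nat.prime_two hn2).1
        (Nat.prime_two.dvd_of_dvd_pow h2ℓ)
      obtain ⟨k, -, hk⟩ := (Nat.dvd_prime_pow Nat.prime_two).1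
        (show t' + 1 ∣ 2 ^ (n : ℕ) by rw [h2ℓ', ← hn, hF]; exact dvd_pow_self _ (by norm_num))
      exact ⟨k, hk⟩
    have hc := card_psu_three (F := F) hF
    rw [← Nat.card_congr e.toEquiv] at hc
    have h3div : (2 ^ k) ^ 3 ∣ Nat.card M := by
      have h5 : Nat.Coprime ((2 ^ k) ^ 3) (Nat.gcd 3 (t' + 2)) := by
        refine Nat.Coprime.pow_left _ (Nat.Coprime.pow_left _ ?_)
        exact Nat.Coprime.coprime_dvd_right (Nat.gcd_dvd_left 3 _) (by norm_num)
      refine h5.dvd_of_dvd_mul_left ?_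
      rw [hc, hk]
      exact Dvd.intro _ rfl
    refine TransPowArith.psu hp.out hp2 hr (hk ▸ hp2' _) hq4 ?_ hdiv hc
    rw [hk, ← pow_mul]
    exact htwo _ (by rw [pow_mul]; exact h3div)

end Cfsg.Agent.H665.TransPow
end

-- part: S4745
section
set_option autoImplicit false
open Cfsg

namespace Cfsg.Agent.S4745

/-- Let p be an odd prime and G a finite group of even order divisible by p in which the centralizer of every non-identity p-element has odd order, and suppose G acts faithfully and transitively on a set with p ^ r elements, r ≥ 1. Then either G has an irreducible character of p-defect zero, or G is p-solvable and has an irreducible character of 2-defect zero. -/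
theorem result {G Ω : Type*} [Group G] [Finite G] [MulAction G Ω] [FaithfulSMul G Ω] [Fintype Ω] (htr : MulAction.IsPretransitive G Ω) (p : ℕ) [Fact p.Prime] (hp2 : p ≠ 2) (hpG : p ∣ Nat.card G) (h2G : 2 ∣ Nat.card G) (hC : ∀ g : G, g ≠ 1 → (∃ k : ℕ, orderOf g = p ^ k) → Odd (Nat.card ↥(Subgroup.centralizer ({g} : Set G)))) (r : ℕ) (hr : 1 ≤ r) (hΩ : Fintype.card Ω = p ^ r) : (∃ χ : Cfsg.IrrCharacter G, (Cfsg.charDegree (χ : G → ℂ)).factorization p = (Nat.card G).factorization p) ∨ (Cfsg.IsPSolvable p G ∧ ∃ χ : Cfsg.IrrCharacter G, (Cfsg.charDegree (χ : G → ℂ)).factorization 2 = (Nat.card G).factorization 2) := by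
  by_cases h : Cfsg.Agent.H665.NoPQ.HasDZ p G
  · exact Or.inl h
  right
  have := htr
  have hps := Cfsg.Agent.H665.TransPow.isPSolvable (G := G) (Ω := Ω)
    (fun X _ _ h => Cfsg.Agent.S0205.result (G := X) h)
    (fun X _ _ _ hna H hH => Cfsg.Agent.S0222.result (G := X) hna H hH) hp2 hr hC h2G h
    (by rw [Nat.card_eq_fintype_card, hΩ])
  refine ⟨hps, ?_⟩
  have : Fact (Nat.Prime 2) := ⟨Nat.prime_two⟩
  have hG : ∀ y : G, ¬ p * 2 ∣ orderOf y := by
    refine Cfsg.Agent.H665.NoPQ.not_dvd_orderOf fun g hg hk => ?_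
    have h1 := hC g hg hk
    rw [← Nat.not_even_iff_odd, even_iff_two_dvd] at h1
    exact h1
  rcases Cfsg.Agent.H665.NoPQ.exists_defectZero_of_pSolvable p 2 hp2 _ G rfl hG hps with h1 | h1
  · exact absurd h1 h
  · exact h1

end Cfsg.Agent.S4745
end
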