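import Cfsg.Statements.S4762
import Cfsg.Agent.H669.Basic
import Cfsg.Agent.SolvableStructure.SystemNormalizer
import Cfsg.Agent.J2.ExtQuot
import Cfsg.Agent.Transfer.Extraspecial
import Cfsg.Agent.CharactersDeep.Extraspecial
set_option linter.all false

set_option autoImplicit false
open Cfsg
open scoped commutatorElement

namespace Cfsg.Agent.S4762

open Cfsg.Agent.Characters.Core Cfsg.Agent.Characters.Linear Cfsg.Agent.H669.Basic

universe u

variable {G : Type u} [Group G] [Finite G]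

/-- A nilpotent group with exactly one irreducible character of degree divisible by `p` is a
`p`-group. -/
theorem isPGroup_of_unique [Group.IsNilpotent G] (p : ℕ) [hp : Fact p.Prime]
    {χ : G → ℂ} (hχ : IsIrrCharacter G χ) (h1 : p ∣ charDegree χ)
    (huniq : ∀ ψ : G → ℂ, IsIrrCharacter G ψ → p ∣ charDegree ψ → ψ = χ) : IsPGroup p G := by
  classical
  obtain ⟨k, hk⟩ := Cfsg.Agent.SolvableStructure.SystemNormalizer.exists_index_pPrimeCore
    (G := G) hp.out
  set H := Cfsg.pPrimeCore p G with hH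
  have hHc : (Nat.card H).Coprime p := Cfsg.Agent.Lib.Cores.pPrimeCore_coprime (G := G) p
  let P : Sylow p G := default
  have hPn : (P : Subgroup G).Normal := by
    have h0 : ∀ (p : ℕ) (_ : Fact p.Prime) (P : Sylow p G), (P : Subgroup G).Normal :=
      ((Group.isNilpotent_of_finite_tfae (G := G)).out 0 3).mp ‹_›
    exact h0 p hp P
  have hdisj : Disjoint H (P : Subgroup G) := by
    refine Subgroup.disjoint_of_coprime_natCard ?_
    obtain ⟨n, hn⟩ := IsPGroup.iff_card.1 P.2
    rw [hn]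
    exact Nat.Coprime.pow_right _ hHc
  -- `P ⊔ H = ⊤`
  have htop : H ⊔ (P : Subgroup G) = ⊤ := by
    rw [← Subgroup.index_eq_one]
    have h2 : (H ⊔ (P : Subgroup G)).index ∣ p ^ k := hk ▸ Subgroup.index_dvd_of_le le_sup_left
    have h3 : (H ⊔ (P : Subgroup G)).index ∣ (P : Subgroup G).index :=
      Subgroup.index_dvd_of_le le_sup_right
    have h4 : ¬ p ∣ (P : Subgroup G).index := P.not_dvd_index
    rcases (Nat.dvd_prime_pow hp.out).1 h2 with ⟨j, -, hj⟩
    rcases Nat.eq_zero_or_pos j with rfl | hj0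
    · simpa using hj
    · exact absurd ((hj ▸ dvd_pow_self p hj0.ne').trans h3) h4
  -- the quotient `G / H` is not commutative
  have hQ : IsPGroup p (G ⧸ H) := by
    rw [IsPGroup.iff_card]
    exact ⟨k, by rw [← hk]; rfl⟩
  have hnc : ∃ a b : G ⧸ H, a * b ≠ b * a := by
    by_contra hcon
    push Not at hcon
    -- `P` is central
    have hPc : (P : Subgroup G) ≤ Subgroup.center G := by
      intro x hx
      rw [Subgroup.mem_center_iff]
      intro g
      have hc : g * x * g⁻¹ * x⁻¹ = 1 := by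
        have e1 : g * x * g⁻¹ * x⁻¹ ∈ (P : Subgroup G) :=
          mul_mem (hPn.conj_mem x hx g) (inv_mem hx)
        have e2 : g * x * g⁻¹ * x⁻¹ ∈ H := by
          rw [← QuotientGroup.eq_one_iff]
          have := hcon (g : G ⧸ H) (x : G ⧸ H)
          show ((g : G ⧸ H) * x * (g : G ⧸ H)⁻¹ * (x : G ⧸ H)⁻¹) = 1
          rw [this]; group
        have := hdisj.le_bot ⟨e2, e1⟩
        simpa using this
      rw [mul_inv_eq_one, mul_inv_eq_iff_eq_mul] at hc
      exact hc
    have h2 : charDegree χ ∣ (P : Subgroup G).index :=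
      (charDegree_dvd_index_center hχ).trans (Subgroup.index_dvd_of_le hPc)
    exact P.not_dvd_index (h1.trans h2)
  obtain ⟨ψ0, hψ0, h2⟩ := exists_dvd_of_pGroup hQ hnc
  have hψ := isIrr_mk H hψ0
  have h3 : p ∣ charDegree (ψ0 ∘ QuotientGroup.mk' H) := by rw [charDegree_comp]; exact h2
  -- `H = 1`
  have hHbot : H = ⊥ := by
    by_contra hne
    have hnt : Nontrivial (G ⧸ (P : Subgroup G)) := by
      rw [QuotientGroup.nontrivial_iff]
      intro hPt
      apply hne
      rw [hPt] at hdisj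
      simpa using hdisj
    obtain ⟨f, hf⟩ := exists_hom_ne_one (G := G ⧸ (P : Subgroup G))
    apply hf
    have h4 := isIrr_hom_mul (f.comp (QuotientGroup.mk' (P : Subgroup G))) hψ
    have h5 := huniq _ h4 (by rw [charDegree_hom_mul]; exact h3)
    have h6 := huniq _ hψ h3
    have h7 : ∀ h ∈ H, f (h : G ⧸ (P : Subgroup G)) = 1 := by
      intro h hh
      have e1 := congrFun (h5.trans h6.symm) h
      have e2 : (ψ0 ∘ QuotientGroup.mk' H) h = (charDegree ψ0 : ℂ) := by
        show ψ0 (h : G ⧸ H) = _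
        rw [(QuotientGroup.eq_one_iff h).2 hh, charDegree_eq hψ0]
      have e3 : (charDegree ψ0 : ℂ) ≠ 0 := by exact_mod_cast (charDegree_pos hψ0).ne'
      rw [e2] at e1
      have e4 : ((f (h : G ⧸ (P : Subgroup G)) : ℂˣ) : ℂ) * (charDegree ψ0 : ℂ)
          = (charDegree ψ0 : ℂ) := e1
      have e5 : ((f (h : G ⧸ (P : Subgroup G)) : ℂˣ) : ℂ) = 1 := by
        have := mul_right_cancel₀ e3 (e4.trans (one_mul _).symm)
        exact this
      exact Units.ext e5
    have h8 : (f.comp (QuotientGroup.mk' (P : Subgroup G))).ker = ⊤ := by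
      rw [eq_top_iff, ← htop, sup_le_iff]
      constructor
      · intro h hh
        exact h7 h hh
      · intro x hx
        show f (x : G ⧸ (P : Subgroup G)) = 1
        rw [(QuotientGroup.eq_one_iff x).2 hx, map_one]
    refine MonoidHom.ext fun q => ?_
    obtain ⟨g, rfl⟩ := QuotientGroup.mk_surjective q
    have : g ∈ (f.comp (QuotientGroup.mk' (P : Subgroup G))).ker := h8 ▸ Subgroup.mem_top g
    have h9 : f (g : G ⧸ (P : Subgroup G)) = 1 := this
    rw [h9]; rfl
  rw [IsPGroup.iff_card]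
  refine ⟨k, ?_⟩
  rw [← hk, hHbot, Subgroup.index_bot]

/-- For a `p`-group: the degrees. -/
theorem index_add_sq {p : ℕ} [hp : Fact p.Prime] (hG : IsPGroup p G)
    {χ : G → ℂ} (hχ : IsIrrCharacter G χ) (h1 : p ∣ charDegree χ)
    (huniq : ∀ ψ : G → ℂ, IsIrrCharacter G ψ → p ∣ charDegree ψ → ψ = χ) :
    (commutator G).index + charDegree χ ^ 2 = Nat.card G := by
  classical
  have := finite_irr (G := G)
  have := Fintype.ofFinite (IrrCharacter G)
  have h2 := Cfsg.Agent.CharDeep.PowerDegrees.sum_sq (G := G)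
  have h3 : ∀ ψ : IrrCharacter G, ¬ p ∣ charDegree (ψ : G → ℂ) → (ψ : G → ℂ) 1 = 1 := by
    intro ψ hψ
    obtain ⟨n, hn⟩ := IsPGroup.iff_card.1 hG
    have h4 := charDegree_dvd_card ψ.2
    rw [hn, Nat.dvd_prime_pow hp.out] at h4
    obtain ⟨k, -, hk⟩ := h4
    have hk0 : k = 0 := by
      by_contra hne
      exact hψ (hk ▸ dvd_pow_self p hne)
    rw [charDegree_eq ψ.2, hk, hk0]; simp
  have h4 : ∀ ψ : IrrCharacter G, (ψ : G → ℂ) 1 ≠ 1 → ψ = ⟨χ, hχ⟩ := by
    intro ψ hψ
    apply Subtype.ext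
    refine huniq ψ ψ.2 ?_
    by_contra hcon
    exact hψ (h3 ψ hcon)
  have h5 : (χ 1 : ℂ) ≠ 1 := by
    rw [charDegree_eq hχ]
    intro h
    have : charDegree χ = 1 := by exact_mod_cast h
    rw [this] at h1
    exact hp.out.one_lt.ne' (Nat.dvd_one.1 h1)
  rw [← Finset.sum_filter_add_sum_filter_not Finset.univ
    (fun ψ : IrrCharacter G => (ψ : G → ℂ) 1 = 1)] at h2
  have h6 : Finset.univ.filter (fun ψ : IrrCharacter G => ¬ (ψ : G → ℂ) 1 = 1)
      = {⟨χ, hχ⟩} := by
    ext ψ
    simp only [Finset.mem_filter, Finset.mem_univ, true_and, Finset.mem_singleton]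
    constructor
    · exact h4 ψ
    · rintro rfl; exact h5
  rw [h6, Finset.sum_singleton] at h2
  have h7 : ∑ ψ ∈ Finset.univ.filter (fun ψ : IrrCharacter G => (ψ : G → ℂ) 1 = 1),
      (ψ : G → ℂ) 1 ^ 2 = ((commutator G).index : ℂ) := by
    rw [← card_hom_eq_index_commutator G, Nat.card_congr (linearEquiv G),
      Nat.card_eq_fintype_card, Fintype.card_subtype, Finset.card_eq_sum_ones]
    push_cast
    refine Finset.sum_congr rfl fun ψ hψ => ?_
    have h5 : (ψ : G → ℂ) 1 = 1 := by simpa using hψ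
    rw [h5]; simp
  rw [h7] at h2
  have h8 : (χ 1 : ℂ) = (charDegree χ : ℂ) := charDegree_eq hχ
  have h9 : ((commutator G).index : ℂ) + (charDegree χ : ℂ) ^ 2 = (Nat.card G : ℂ) := by
    rw [← h8]; exact h2
  exact_mod_cast h9

/-- Arithmetic: `p ^ m + (p ^ a) ^ 2 = p ^ m * c` with `c` a power of `p`. -/
theorem arith {p m a b : ℕ} (hp : p.Prime)
    (h : p ^ m + (p ^ a) ^ 2 = p ^ m * p ^ b) : p = 2 ∧ b = 1 ∧ m = 2 * a := by
  have hb : 0 < b := by
    rcases Nat.eq_zero_or_pos b with rfl | hb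
    · have : 0 < (p ^ a) ^ 2 := pow_pos (pow_pos hp.pos _) _
      rw [pow_zero, mul_one] at h
      omega
    · exact hb
  have h1 : (p ^ a) ^ 2 = p ^ m * (p ^ b - 1) := by
    rw [Nat.mul_sub, mul_one]; omega
  have h2 : p ^ b - 1 ∣ p ^ (a * 2) := by
    rw [pow_mul, h1]; exact dvd_mul_left _ _
  obtain ⟨j, -, hj⟩ := (Nat.dvd_prime_pow hp).1 h2
  have h3 : j = 0 := by
    by_contra hne
    have e1 : p ∣ p ^ b - 1 := hj ▸ dvd_pow_self p hne
    have e2 : p ∣ p ^ b := dvd_pow_self p hb.ne'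
    have e3 : 1 ≤ p ^ b := Nat.one_le_pow _ _ hp.pos
    have e4 : p ∣ 1 := by
      have := Nat.dvd_sub e2 e1
      rwa [Nat.sub_sub_self e3] at this
    exact hp.one_lt.ne' (Nat.dvd_one.1 e4)
  have h4 : p ^ b = 2 := by
    rw [h3, pow_zero] at hj
    have : 1 ≤ p ^ b := Nat.one_le_pow _ _ hp.pos
    omega
  have h5 : p = 2 := by
    have : p ∣ 2 := h4 ▸ dvd_pow_self p hb.ne'
    exact (Nat.prime_dvd_prime_iff_eq hp Nat.prime_two).1 this
  subst h5
  have h6 : b = 1 := by
    have : 2 ^ b = 2 ^ 1 := by rw [h4]; rfl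
    exact Nat.pow_right_injective le_rfl this
  refine ⟨rfl, h6, ?_⟩
  rw [hj, h3, pow_zero, mul_one, ← pow_mul] at h1
  have := Nat.pow_right_injective le_rfl h1
  omega

/-- `g` killed by all homomorphisms to `ℂˣ` is in the commutator subgroup. -/
theorem mem_commutator_of_forall {g : G} (h : ∀ f : G →* ℂˣ, f g = 1) : g ∈ commutator G := by
  classical
  by_contra hcon
  have h1 : (QuotientGroup.mk' (commutator G) g : Abelianization G) ≠ 1 := by
    intro h2
    exact hcon ((QuotientGroup.eq_one_iff g).1 h2)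
  have h3 : HasEnoughRootsOfUnity ℂ (Monoid.exponent (Abelianization G)) := inferInstance
  obtain ⟨φ, hφ⟩ := CommGroup.exists_apply_ne_one_of_hasEnoughRootsOfUnity
    (Abelianization G) ℂ h1
  exact hφ (h (φ.comp Abelianization.of))

theorem two_of_unique (hG : IsPGroup 2 G) (hcard : Nat.card (commutator G) = 2)
    {χ : G → ℂ} (hχ : IsIrrCharacter G χ) (h1 : 2 ∣ charDegree χ)
    (huniq : ∀ ψ : G → ℂ, IsIrrCharacter G ψ → 2 ∣ charDegree ψ → ψ = χ) :
    IsExtraspecial 2 G := by
  have h2 : Fact (Nat.Prime 2) := ⟨Nat.prime_two⟩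
  -- `G' ≤ Z(G)`
  have hle : commutator G ≤ Subgroup.center G := by
    intro z hz
    by_cases hz1 : z = 1
    · rw [hz1]; exact one_mem _
    rw [Subgroup.mem_center_iff]
    intro g
    have e1 : g * z * g⁻¹ ∈ commutator G := (inferInstance : (commutator G).Normal).conj_mem z hz g
    obtain ⟨x, y, hxy, hun⟩ := Nat.card_eq_two_iff.1 hcard
    have e3 : ∀ w : commutator G, w = x ∨ w = y := by
      intro w
      have : w ∈ ({x, y} : Set (commutator G)) := hun ▸ Set.mem_univ w
      simpa using this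
    have e4 : (⟨g * z * g⁻¹, e1⟩ : commutator G) = ⟨z, hz⟩ := by
      have ne1 : (⟨z, hz⟩ : commutator G) ≠ 1 := fun h => hz1 (congrArg Subtype.val h)
      have ne2 : (⟨g * z * g⁻¹, e1⟩ : commutator G) ≠ 1 := by
        intro h
        apply hz1
        have h' : g * z * g⁻¹ = 1 := congrArg Subtype.val h
        have : z = g⁻¹ * (g * z * g⁻¹) * g := by group
        rw [this, h']; group
      rcases e3 1 with h | h <;> rcases e3 ⟨z, hz⟩ with h' | h' <;>
        rcases e3 ⟨g * z * g⁻¹, e1⟩ with h'' | h'' <;> simp_all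
    have e5 : g * z * g⁻¹ = z := congrArg Subtype.val e4
    exact mul_inv_eq_iff_eq_mul.1 e5
  obtain ⟨c, hc, -⟩ := Cfsg.Agent.CharactersDeep.Extraspecial.exists_central_hom hχ
  -- `Z(G) ≤ G'`
  have hge : Subgroup.center G ≤ commutator G := by
    intro z hz
    refine mem_commutator_of_forall fun f => ?_
    have e1 := congrFun (huniq _ (isIrr_hom_mul f hχ) (by rw [charDegree_hom_mul]; exact h1)) z
    have e2 : χ z ≠ 0 := by
      have := hc 1 ⟨z, hz⟩
      rw [one_mul] at this
      have e3 : χ z = χ 1 * (c ⟨z, hz⟩ : ℂ) := this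
      rw [e3]
      exact mul_ne_zero (isIrr_apply_one_ne_zero hχ) (Units.ne_zero _)
    have e3 : ((f z : ℂˣ) : ℂ) = 1 := mul_right_cancel₀ e2 (e1.trans (one_mul _).symm)
    exact Units.ext e3
  have heq : Subgroup.center G = commutator G := le_antisymm hge hle
  have hcardZ : Nat.card (Subgroup.center G) = 2 := by rw [heq]; exact hcard
  refine Cfsg.Agent.J2.ExtQuot.isExtraspecial_two hG hcardZ ?_ ?_
  · intro x
    rw [Subgroup.mem_center_iff]
    intro y
    have e1 : ⁅x⁻¹, y⁆ ∈ commutator G :=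
      Subgroup.commutator_mem_commutator (Subgroup.mem_top _) (Subgroup.mem_top _)
    have e2 : ⁅x⁻¹, y⁆ ∈ Subgroup.center G := hle e1
    have e3 : ⁅x⁻¹, y⁆ ^ 2 = 1 := by
      have := pow_card_eq_one' (x := (⟨_, e1⟩ : commutator G))
      rw [hcard] at this
      exact congrArg Subtype.val this
    have e4 : y * x * y⁻¹ = x * ⁅x⁻¹, y⁆ := by rw [commutatorElement_def]; group
    have e5 : y * x ^ 2 * y⁻¹ = x ^ 2 := by
      calc y * x ^ 2 * y⁻¹ = (y * x * y⁻¹) * (y * x * y⁻¹) := by rw [pow_two]; group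
        _ = (x * ⁅x⁻¹, y⁆) * (x * ⁅x⁻¹, y⁆) := by rw [e4]
        _ = x * (⁅x⁻¹, y⁆ * x) * ⁅x⁻¹, y⁆ := by group
        _ = x * (x * ⁅x⁻¹, y⁆) * ⁅x⁻¹, y⁆ := by rw [Subgroup.mem_center_iff.1 e2 x]
        _ = x ^ 2 * ⁅x⁻¹, y⁆ ^ 2 := by rw [pow_two, pow_two]; simp only [mul_assoc]
        _ = x ^ 2 := by rw [e3, mul_one]
    exact mul_inv_eq_iff_eq_mul.1 e5
  · by_contra hcon
    push Not at hcon
    have : commutator G = ⊥ := by
      rw [eq_bot_iff, commutator_def, Subgroup.commutator_le]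
      intro a _ b _
      rw [Subgroup.mem_bot, commutatorElement_eq_one_iff_mul_comm]
      exact hcon a b
    rw [this] at hcard
    simp at hcard

theorem unique_of_extraspecial (hG : IsExtraspecial 2 G) {χ ψ : G → ℂ}
    (hχ : IsIrrCharacter G χ) (h1 : 2 ∣ charDegree χ)
    (hψ : IsIrrCharacter G ψ) (h2 : 2 ∣ charDegree ψ) : χ = ψ := by
  classical
  have hF : Fact (Nat.Prime 2) := ⟨Nat.prime_two⟩
  have := Fintype.ofFinite G
  have hZ := Cfsg.Agent.Transfer.Extraspecial.card_center hG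
  have hle : commutator G ≤ Subgroup.center G :=
    (Cfsg.Agent.Transfer.Extraspecial.commutator_eq_center hG).le
  have key : ∀ {χ : G → ℂ}, IsIrrCharacter G χ → 2 ∣ charDegree χ →
      (∀ x ∉ Subgroup.center G, χ x = 0) ∧ (∀ z ∈ Subgroup.center G, z ≠ 1 → χ z = - χ 1) ∧
        2 * charDegree χ ^ 2 = Nat.card G := by
    intro χ hχ h1
    obtain ⟨c, hc, hc1⟩ := Cfsg.Agent.CharactersDeep.Extraspecial.exists_central_hom hχ
    have hcne : c ≠ 1 := by
      intro h
      have := hc1 hle h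
      rw [charDegree_eq hχ] at this
      have h3 : charDegree χ = 1 := by exact_mod_cast this
      rw [h3] at h1
      omega
    have hcz : ∀ z : Subgroup.center G, z ≠ 1 → c z ≠ 1 := fun z hz =>
      Cfsg.Agent.CharactersDeep.Extraspecial.hom_ne_one_of_prime_card hZ c hcne hz
    have hvan : ∀ x ∉ Subgroup.center G, χ x = 0 := fun x hx =>
      Cfsg.Agent.CharactersDeep.Extraspecial.eq_zero_of_notMem_center hle
        (isIrr_isClassFunction hχ) (fun z => (c z : ℂ))
        (fun z hz h => hcz z hz (Units.ext h)) hc hx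
    have hval : ∀ z : Subgroup.center G, χ z = χ 1 * c z := by
      intro z
      have := hc 1 z
      rwa [one_mul] at this
    refine ⟨hvan, ?_, ?_⟩
    · intro z hz hz1
      have e1 := hval ⟨z, hz⟩
      have e2 : (c ⟨z, hz⟩ : ℂ) ^ 2 = 1 := by
        have e3 : (⟨z, hz⟩ : Subgroup.center G) ^ 2 = 1 := by
          have := pow_card_eq_one' (x := (⟨z, hz⟩ : Subgroup.center G))
          rwa [hZ] at this
        have e4 : (c ⟨z, hz⟩) ^ 2 = 1 := by rw [← map_pow, e3, map_one]
        have := congrArg Units.val e4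
        simpa using this
      have e3 : (c ⟨z, hz⟩ : ℂ) ≠ 1 := fun h =>
        hcz ⟨z, hz⟩ (fun h' => hz1 (congrArg Subtype.val h')) (Units.ext h)
      have e4 : (c ⟨z, hz⟩ : ℂ) = -1 := by
        rcases sq_eq_one_iff.1 e2 with h | h
        · exact absurd h e3
        · exact h
      have e5 : χ z = χ 1 * (c ⟨z, hz⟩ : ℂ) := e1
      rw [e5, e4]; ring
    · have e1 := Cfsg.Agent.CharactersDeep.Extraspecial.classInner_of_center (χ 1) c hvan hval
      rw [classInner_irr_self hχ, hZ, charDegree_eq hχ] at e1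
      have e2 : (Nat.card G : ℂ) ≠ 0 := card_ne_zero_complex
      field_simp at e1
      have e3 : (2 * (charDegree χ : ℂ) ^ 2) = (Nat.card G : ℂ) := by
        rw [e1]
        simp only [map_natCast, Nat.cast_ofNat]
        ring
      exact_mod_cast e3
  obtain ⟨a1, a2, a3⟩ := key hχ h1
  obtain ⟨b1, b2, b3⟩ := key hψ h2
  have hdeg : charDegree χ = charDegree ψ := by
    have : charDegree χ ^ 2 = charDegree ψ ^ 2 := by omega
    exact Nat.pow_left_injective (by norm_num : 2 ≠ 0) this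
  have h1' : χ 1 = ψ 1 := by rw [charDegree_eq hχ, charDegree_eq hψ, hdeg]
  funext x
  by_cases hx : x ∈ Subgroup.center G
  · by_cases hx1 : x = 1
    · rw [hx1, h1']
    · rw [a2 x hx hx1, b2 x hx hx1, h1']
  · rw [a1 x hx, b1 x hx]

/-- Let p be a prime and G a finite nilpotent group. Then G has exactly one irreducible complex character of degree divisible by p if and only if p = 2 and G is an extraspecial 2-group. -/
theorem result {G : Type*} [Group G] [Finite G] [Group.IsNilpotent G] (p : ℕ) [Fact p.Prime] : Nat.card {χ : Cfsg.IrrCharacter G // p ∣ Cfsg.charDegree (χ : G → ℂ)} = 1 ↔ (p = 2 ∧ Cfsg.IsExtraspecial 2 G) := by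
  have hp : p.Prime := Fact.out
  constructor
  · intro hone
    obtain ⟨χ, hχ, h1, huniq⟩ := exists_unique hone
    have hG := isPGroup_of_unique p hχ h1 huniq
    have h2 := index_add_sq hG hχ h1 huniq
    obtain ⟨n, hn⟩ := IsPGroup.iff_card.1 hG
    have h3 := (commutator G).card_mul_index
    obtain ⟨b, -, hb⟩ := (Nat.dvd_prime_pow hp).1 (hn ▸ Subgroup.card_subgroup_dvd_card (commutator G))
    obtain ⟨m, -, hm⟩ := (Nat.dvd_prime_pow hp).1 (hn ▸ Subgroup.index_dvd_card (commutator G))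
    obtain ⟨a, -, ha⟩ := (Nat.dvd_prime_pow hp).1 (hn ▸ charDegree_dvd_card hχ)
    have h4 : p ^ m + (p ^ a) ^ 2 = p ^ m * p ^ b := by
      rw [← hm, ← ha, ← hb, h2, mul_comm, h3]
    obtain ⟨h5, h6, -⟩ := arith hp h4
    subst h5
    refine ⟨rfl, two_of_unique hG ?_ hχ h1 huniq⟩
    rw [hb, h6, pow_one]
  · rintro ⟨rfl, hE⟩
    have hpg : IsPGroup 2 G := hE.1.1
    obtain ⟨χ, hχ, h1⟩ := exists_dvd_of_pGroup hpg (by
      by_contra hcon
      push Not at hcon
      have h3 := Cfsg.Agent.Transfer.Extraspecial.card_commutator hE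
      have : commutator G = ⊥ := by
        rw [eq_bot_iff, commutator_def, Subgroup.commutator_le]
        intro a _ b _
        rw [Subgroup.mem_bot, commutatorElement_eq_one_iff_mul_comm]
        exact hcon a b
      rw [this] at h3
      simp at h3)
    exact card_eq_one hχ h1 fun ψ hψ h2 => unique_of_extraspecial hE hψ h2 hχ h1

end Cfsg.Agent.S4762
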