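import Cfsg.Statements.S4779
import Cfsg.Agent.H673.Disc
set_option linter.all false

set_option autoImplicit false
set_option linter.style.haveILetI false
open Cfsg

namespace Cfsg.Agent.S4779

/-- Let N be a solvable normal subgroup of the finite group G contained in the derived subgroup of G, and consider the common-divisor graph on the relative degree set cd(G|N) (degrees of irreducible complex characters of G whose kernel does not contain N, two distinct degrees adjacent when not coprime). If this graph has two vertices that are not joined by any path, then there is a vertex a₀ such that any two distinct vertices in the component of a₀ are adjacent, and any two distinct vertices outside that component are adjacent or have a common neighbour (one component is complete, the other has diameter at most 2). -/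
theorem result {G : Type*} [Group G] [Finite G] (N : Subgroup G) [N.Normal] [Group.IsSolvable N] (hNG : N ≤ commutator G) (hdisc : ¬ (Cfsg.commonDivisorGraph.induce (Cfsg.relCharDegrees N)).Preconnected) : ∃ a₀ : ↥(Cfsg.relCharDegrees N), (∀ b c : ↥(Cfsg.relCharDegrees N), (Cfsg.commonDivisorGraph.induce (Cfsg.relCharDegrees N)).Reachable a₀ b → (Cfsg.commonDivisorGraph.induce (Cfsg.relCharDegrees N)).Reachable a₀ c → b ≠ c → (Cfsg.commonDivisorGraph.induce (Cfsg.relCharDegrees N)).Adj b c) ∧ (∀ b c : ↥(Cfsg.relCharDegrees N), ¬ (Cfsg.commonDivisorGraph.induce (Cfsg.relCharDegrees N)).Reachable a₀ b → ¬ (Cfsg.commonDivisorGraph.induce (Cfsg.relCharDegrees N)).Reachable a₀ c → b ≠ c → (Cfsg.commonDivisorGraph.induce (Cfsg.relCharDegrees N)).Adj b c ∨ ∃ d : ↥(Cfsg.relCharDegrees N), (Cfsg.commonDivisorGraph.induce (Cfsg.relCharDegrees N)).Adj b d ∧ (Cfsg.commonDivisorGraph.induce (Cfsg.relCharDegrees N)).Adj d c) := by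
  classical
  have hs : Group.IsSolvable N := inferInstance
  unfold SimpleGraph.Preconnected at hdisc
  push Not at hdisc
  obtain ⟨⟨x, hx⟩, ⟨y, hy⟩, hxy⟩ := hdisc
  have hxy' : ¬ H672.Conn N x y := fun ⟨_, _, h⟩ => hxy h
  have hN' : ⁅N, N⁆ < N := H673.commutator_lt_of_solvable hs (H673.ne_bot_of_mem_rel hx)
  have hm1 : ⁅N, N⁆.relIndex N ≠ 1 := fun h => hN'.not_ge (Subgroup.relIndex_eq_one.1 h)
  obtain ⟨r, hr, hrm⟩ := Nat.exists_prime_and_dvd hm1
  haveI : Fact r.Prime := ⟨hr⟩
  have key : ∀ {x y : ℕ} (hx : x ∈ relCharDegrees N) (hy : y ∈ relCharDegrees N),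
      ¬ H672.Conn N x y → r ∣ x → ∃ a₀ : ↥(Cfsg.relCharDegrees N), (∀ b c : ↥(Cfsg.relCharDegrees N), (Cfsg.commonDivisorGraph.induce (Cfsg.relCharDegrees N)).Reachable a₀ b → (Cfsg.commonDivisorGraph.induce (Cfsg.relCharDegrees N)).Reachable a₀ c → b ≠ c → (Cfsg.commonDivisorGraph.induce (Cfsg.relCharDegrees N)).Adj b c) ∧ (∀ b c : ↥(Cfsg.relCharDegrees N), ¬ (Cfsg.commonDivisorGraph.induce (Cfsg.relCharDegrees N)).Reachable a₀ b → ¬ (Cfsg.commonDivisorGraph.induce (Cfsg.relCharDegrees N)).Reachable a₀ c → b ≠ c → (Cfsg.commonDivisorGraph.induce (Cfsg.relCharDegrees N)).Adj b c ∨ ∃ d : ↥(Cfsg.relCharDegrees N), (Cfsg.commonDivisorGraph.induce (Cfsg.relCharDegrees N)).Adj b d ∧ (Cfsg.commonDivisorGraph.induce (Cfsg.relCharDegrees N)).Adj d c) := by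
    intro x y hx hy hxy hrx
    have hadj : ∀ (b c : ↥(Cfsg.relCharDegrees N)), b ≠ c → ¬ Nat.Coprime b.1 c.1 →
        (Cfsg.commonDivisorGraph.induce (Cfsg.relCharDegrees N)).Adj b c := by
      intro b c hbc hcop
      rw [SimpleGraph.comap_adj]
      refine ⟨fun h => hbc (Subtype.ext h), ?_⟩
      have h1 : Nat.gcd b.1 c.1 ≠ 1 := hcop
      have h2 : 0 < Nat.gcd b.1 c.1 := Nat.gcd_pos_of_pos_left _ (H672.relCharDegrees_pos b.2)
      change 1 < Nat.gcd b.1 c.1
      omega
    have hside : ∀ b : ↥(Cfsg.relCharDegrees N),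
        (Cfsg.commonDivisorGraph.induce (Cfsg.relCharDegrees N)).Reachable ⟨x, hx⟩ b → r ∣ b.1 := by
      intro b hb
      by_contra h
      exact H673.not_conn_side hNG hrm hx hy hxy b.2 hrx h ⟨hx, b.2, hb⟩
    refine ⟨⟨x, hx⟩, ?_, ?_⟩
    · intro b c hb hc hbc
      exact hadj b c hbc fun h =>
        hr.one_lt.ne' (Nat.eq_one_of_dvd_coprimes h (hside b hb) (hside c hc))
    · intro b c hb hc hbc
      have hnot : ∀ b : ↥(Cfsg.relCharDegrees N),
        ¬ (Cfsg.commonDivisorGraph.induce (Cfsg.relCharDegrees N)).Reachable ⟨x, hx⟩ b →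
          ¬ r ∣ b.1 := by
        intro b hb hrb
        obtain ⟨_, _, h⟩ := H672.Conn.of_dvd hx b.2 hr.one_lt hrx hrb
        exact hb h
      obtain ⟨d, hd, h1, h2⟩ := H673.disc_aux (Nat.card N) N rfl hs hNG hx hy hxy hr hrm hrx
        b.1 b.2 c.1 c.2 (hnot b hb) (hnot c hc)
      by_cases hbd : b = ⟨d, hd⟩
      · left
        exact hadj b c hbc (by rw [hbd]; exact h2)
      by_cases hdc : (⟨d, hd⟩ : ↥(Cfsg.relCharDegrees N)) = c
      · left
        exact hadj b c hbc (by rw [← hdc]; exact h1)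
      right
      exact ⟨⟨d, hd⟩, hadj b _ hbd h1, hadj _ c hdc h2⟩
  rcases (H672.xor_of_not_conn hNG hrm hx hy hxy').1 with h | h
  · exact key hx hy hxy' h.1
  · exact key hy hx (fun h' => hxy' h'.symm) h.1

end Cfsg.Agent.S4779
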