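import Cfsg.Agent.H769.OZ.SpIso
import Cfsg.Agent.H695.OneZero.RankOne_m3
import Cfsg.Agent.H639.OZ.Asm_mg_m3
import Cfsg.Agent.H699.SpSixMain
import Cfsg.Agent.H849.OZ.Bad_m3
import Cfsg.Agent.H121.OZ.JTwoCls_m3
import Cfsg.Agent.H730.OZ.Asm
import Cfsg.Agent.S0245
import Cfsg.Agent.S0270
import Mathlib
import Cfsg.Agent.H530.OZ.RowF_m3
import Cfsg.Agent.MinSimple.SelfCentFour
import Cfsg.Agent.H237.OSevenG
import Cfsg.Agent.FooteOrth.Spin
import Cfsg.Agent.UGT.U2.Rec.Congr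
import Cfsg.Agent.Lib.MatDec
import Cfsg.Agent.H279.OZ.Kaw
import Cfsg.Agent.Nodes.RGDTwAll
import Cfsg.Agent.H769.OZ.OmB_m3
import Cfsg.Agent.H644.OZ.OmTD_m3
import Cfsg.Agent.Nodes.TypeD
import Cfsg.Agent.H128.OZ.EightEA_m3
import Cfsg.Agent.H161.G2Emb
import Cfsg.Agent.S0142
import Cfsg.Agent.Characters.Values
import Cfsg.Agent.H541.PRegG2
import Cfsg.Agent.H638.G2Iso
import Cfsg.Agent.H174.Ore.DegTh
import Cfsg.Agent.MonsterX.ThOneClass
import Cfsg.Agent.H730.OZ.Known_m3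
import Cfsg.Agent.H961.SepFi23
import Cfsg.Agent.H345.RecCo3
import Cfsg.Agent.H49.CoStab
import Cfsg.Agent.H715.Fpr.M23_m3
import Cfsg.Agent.H968.TwoM22Fact
import Cfsg.Agent.H30.OZ.HeDat_m3
import Cfsg.Agent.H175.Eight.J1
import Cfsg.Agent.H417.JFourDeg
import Cfsg.Agent.H680.ONThirtyOne_m3
import Cfsg.Agent.H204.Ore.LyMain
import Cfsg.Agent.H215.CC.LyThirtySeven
import Cfsg.Agent.H417.JThreeCols
import Cfsg.Agent.H257.OZ.SuzFacts
import Cfsg.Agent.H34.SporTool2_m3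
import Cfsg.Agent.H715.Mon.Norm_m3
import Cfsg.Agent.H954.DR.CentB
import Cfsg.Agent.OrdDiv.Table
import Cfsg.Agent.H995.CopCoprime
import Cfsg.Agent.H121.OZ.JTwo
import Cfsg.Agent.H448.Van.RkFin_m3
import Cfsg.Agent.H448.Van.Rows
import Cfsg.Agent.H695.OneZero.DetMain_mg_m3
import Cfsg.Agent.H678.SuzGraph
import Cfsg.Agent.H438.SzMax
import Cfsg.Agent.H381.SzSpec
import Cfsg.Agent.H393.Iso.TitsJ4
import Cfsg.Agent.H547.SelfCent.Tits
import Cfsg.Agent.H403.TitsSixteen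
import Cfsg.Agent.SmallSimple.BrauerTypesBasic
import Cfsg.Agent.H603.SporElim
import Cfsg.Agent.H628.Sq.TwFMain
import Cfsg.Agent.S0165
import Cfsg.Agent.S0000
import Cfsg.Agent.H985.VZ.GTwo_m3
import Cfsg.Statements.S4842
import Cfsg.Agent.FastGrp
import Cfsg.Agent.Prune
set_option linter.all false

section
prune_inst 0x7f9ca9f9aba821dfdfbf7e3fa6d8cdfc11800fffa4dff94b7fe0619f0bdf030009c5f3850de010fe0e56421410a87803f97eeeffe26bdc7ffffd5ff41ffbee0fa5e7b50851948c340f380ffe03f0778a6f3ffffffffffffffffffff7ffffffbeffbdf3feffff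

-- part: H366/OZ/SpFinal_mg
section
prune_inst 0x20440600500c002000000000040001e02c2000000000b080000a2080004800c4000000e20b00001020800000400340008100000000000000000000400011c0581008000000200010c46000800000041000000000000000000000080000000000020c010000
set_option linter.all false
open scoped Cfsg.Agent.FastGrp

-- part: H477/OZ/Med
section
/-!
# Elements of prime order in isometry groups, no restriction on the dimension (S4842, helper477)

`Med y r`: `y` of prime order `r`, `r` not dividing `|K|`.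
* `Med.isCompl`, `Med.nondeg_com`, `Med.glue`, `Med.inner` : as for `Big`;
* `roots_le` : the number of powers of `y` which are roots of a polynomial on an irreducible subspace;
* `exists_cp` : the characteristic polynomial.
-/

set_option autoImplicit false
set_option linter.unusedSectionVars false

namespace Cfsg.Agent.H477.OZ

open Module Polynomial Cfsg.Agent.H477.HC

universe u v

variable {K : Type u} [Field K] {V : Type v} [AddCommGroup V] [Module K V]

/-- the polynomials `p` with `p(y) = 0` on `W` -/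
noncomputable def annW (y : V ≃ₗ[K] V) (W : Submodule K V) : Ideal K[X] where
  carrier := {p | ∀ u ∈ W, aeval (y : V →ₗ[K] V) p u = 0}
  zero_mem' := fun u _ => by simp
  add_mem' := by
    intro a b ha hb u hu
    rw [map_add, LinearMap.add_apply, ha u hu, hb u hu, add_zero]
  smul_mem' := by
    intro c a ha u hu
    rw [smul_eq_mul, map_mul]
    show aeval (y : V →ₗ[K] V) c (aeval (y : V →ₗ[K] V) a u) = 0
    rw [ha u hu, map_zero]

theorem mem_annW {y : V ≃ₗ[K] V} {W : Submodule K V} {p : K[X]} :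
    p ∈ annW y W ↔ ∀ u ∈ W, aeval (y : V →ₗ[K] V) p u = 0 := Iff.rfl

theorem aeval_stable {f : V →ₗ[K] V} {W : Submodule K V} (hst : ∀ u ∈ W, f u ∈ W) (s : K[X]) :
    ∀ u ∈ W, aeval f s u ∈ W := by
  have hpw : ∀ n : ℕ, ∀ u ∈ W, (f ^ n) u ∈ W := by
    intro n
    induction n with
    | zero => intro u hu; exact hu
    | succ n ih => intro u hu; rw [pow_succ']; exact hst _ (ih u hu)
  induction s using Polynomial.induction_on' with
  | add p q hp hq => intro u hu; rw [map_add]; exact W.add_mem (hp u hu) (hq u hu)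
  | monomial n a =>
    intro u hu
    rw [aeval_monomial]
    exact W.smul_mem a (hpw n u hu)

/-- the characteristic polynomial on a stable subspace -/
theorem exists_cp [FiniteDimensional K V] {f : V →ₗ[K] V} {W : Submodule K V} (hst : ∀ u ∈ W, f u ∈ W) :
    ∃ m : K[X], m ≠ 0 ∧ m.natDegree = finrank K W ∧ ∀ u ∈ W, aeval f m u = 0 := by
  let f' : W →ₗ[K] W := f.restrict hst
  have hpw : ∀ (n : ℕ) (u : W), (((f' ^ n) u : W) : V) = (f ^ n) (u : V) := by
    intro n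
    induction n with
    | zero => intro u; rfl
    | succ n ih =>
      intro u
      rw [pow_succ, pow_succ]
      show (((f' ^ n) (f' u) : W) : V) = (f ^ n) (f (u : V))
      rw [ih]
      rfl
  have key : ∀ (s : K[X]) (u : W), ((aeval f' s u : W) : V) = aeval f s (u : V) := by
    intro s
    induction s using Polynomial.induction_on' with
    | add p q hp hq =>
      intro u
      rw [map_add, map_add, LinearMap.add_apply, LinearMap.add_apply, Submodule.coe_add, hp, hq]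
    | monomial n a =>
      intro u
      rw [aeval_monomial, aeval_monomial]
      show ((a • ((f' ^ n) u) : W) : V) = a • ((f ^ n) (u : V))
      rw [Submodule.coe_smul, hpw]
  refine ⟨f'.charpoly, f'.charpoly_monic.ne_zero, f'.charpoly_natDegree, fun u hu => ?_⟩
  have h1 := key f'.charpoly ⟨u, hu⟩
  rw [LinearMap.aeval_self_charpoly] at h1
  exact h1.symm

/-- **Counting the roots** among the powers of `y`. -/
theorem roots_le {y : V ≃ₗ[K] V} {r : ℕ} (hr : r.Prime) (hyr : y ^ r = 1) {W : Submodule K V}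
    (hst : ∀ u ∈ W, y u ∈ W) (hirr : ∀ S ≤ W, (∀ s ∈ S, y s ∈ S) → S ≠ ⊥ → S = W) (hne : W ≠ ⊥)
    (hfix : ∀ u ∈ W, y u = u → u = 0) {m : K[X]} (hm : m ≠ 0) (A : Finset ℕ)
    (hA : ∀ i ∈ A, ∀ j ∈ A, i ≡ j [MOD r] → i = j)
    (hroot : ∀ i ∈ A, ∀ u ∈ W, aeval (((y ^ i : V ≃ₗ[K] V)) : V →ₗ[K] V) m u = 0) : A.card ≤ m.natDegree := by
  classical
  obtain ⟨u₀, hu₀, h0⟩ := Submodule.exists_mem_ne_zero_of_ne_bot hne
  have hP : (annW y W).IsPrime := by
    refine ⟨?_, ?_⟩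
    · intro h1
      have h2 : (1 : K[X]) ∈ annW y W := h1 ▸ Submodule.mem_top
      have h3 := h2 u₀ hu₀
      rw [map_one] at h3
      exact h0 h3
    · intro a b hab
      by_cases hb : b ∈ annW y W
      · exact Or.inr hb
      · left
        rw [mem_annW] at hb
        push Not at hb
        obtain ⟨u, hu, hbu⟩ := hb
        have h1 : LinearMap.ker (aeval (y : V →ₗ[K] V) a) ⊓ W = W := by
          refine hirr _ inf_le_right ?_ ?_
          · rintro s ⟨hs1, hs2⟩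
            refine ⟨?_, hst s hs2⟩
            rw [SetLike.mem_coe, LinearMap.mem_ker] at hs1 ⊢
            rw [aeval_comm, hs1, map_zero]
          · intro hbot
            have h2 : aeval (y : V →ₗ[K] V) b u ∈ LinearMap.ker (aeval (y : V →ₗ[K] V) a) ⊓ W := by
              refine ⟨?_, aeval_stable (f := (y : V →ₗ[K] V)) hst b u hu⟩
              have h3 := hab u hu
              rw [map_mul] at h3
              exact h3
            rw [hbot, Submodule.mem_bot] at h2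
            exact hbu h2
        intro v hv
        rw [← h1] at hv
        exact hv.1
  have hdom : IsDomain (K[X] ⧸ annW y W) := Ideal.Quotient.isDomain (annW y W)
  let q : K[X] →+* K[X] ⧸ annW y W := Ideal.Quotient.mk (annW y W)
  have hq : ∀ a b : K[X], q a = q b ↔ ∀ u ∈ W, aeval (y : V →ₗ[K] V) a u = aeval (y : V →ₗ[K] V) b u := by
    intro a b
    rw [Ideal.Quotient.eq, mem_annW]
    refine forall₂_congr fun u hu => ?_
    rw [map_sub, LinearMap.sub_apply, sub_eq_zero]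
  have hyX : ∀ n : ℕ, aeval (y : V →ₗ[K] V) (X ^ n : K[X]) = ((y ^ n : V ≃ₗ[K] V) : V →ₗ[K] V) := by
    intro n
    rw [map_pow, aeval_X, lin_pow]
  have hXr : q X ^ r = 1 := by
    rw [← map_pow, ← map_one q, hq]
    intro u hu
    rw [hyX, hyr, map_one]
    rfl
  have hX1 : q X ≠ 1 := by
    intro h1
    rw [← map_one q, hq] at h1
    have h2 := h1 u₀ hu₀
    rw [aeval_X, map_one] at h2
    exact h0 (hfix u₀ hu₀ h2)
  have hord : orderOf (q X) = r := orderOf_eq_prime hXr hX1 (hp := ⟨hr⟩)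
  let φ : K →+* K[X] ⧸ annW y W := q.comp C
  have hφ : Function.Injective φ := φ.injective
  let M : (K[X] ⧸ annW y W)[X] := m.map φ
  have hM0 : M ≠ 0 := (Polynomial.map_ne_zero_iff hφ).2 hm
  have hroots : ∀ i ∈ A, q X ^ i ∈ M.roots := by
    intro i hi
    rw [mem_roots hM0, IsRoot.def, eval_map, ← map_pow]
    have h1 : eval₂ φ (q (X ^ i)) m = q (m.comp (X ^ i)) := by
      rw [Polynomial.comp, hom_eval₂]
    rw [h1, ← map_zero q, hq]
    intro u hu
    rw [map_zero, aeval_comp, hyX, hroot i hi u hu]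
    rfl
  have hX0 : IsUnit (q X) := IsUnit.of_pow_eq_one hXr hr.ne_zero
  have hcard : A.card ≤ M.roots.toFinset.card := by
    refine Finset.card_le_card_of_injOn (fun i => q X ^ i) (fun i hi => ?_) ?_
    · exact Multiset.mem_toFinset.2 (hroots i hi)
    · intro i hi j hj hij
      refine hA i hi j hj ?_
      obtain ⟨x, hx⟩ := hX0
      have h1 : x ^ i = x ^ j := by
        apply Units.ext
        rw [Units.val_pow_eq_pow_val, Units.val_pow_eq_pow_val, hx]
        exact hij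
      have h2 : orderOf x = r := by rw [← orderOf_units, hx, hord]
      rw [← h2]
      exact (pow_eq_pow_iff_modEq.1 h1 :)
  have h5 : M.roots.toFinset.card ≤ M.natDegree := (Multiset.toFinset_card_le _).trans (card_roots' M)
  have h6 : M.natDegree ≤ m.natDegree := natDegree_map_le
  omega

/-- an element of prime order not dividing `|K|` -/
structure Med (y : V ≃ₗ[K] V) (r : ℕ) : Prop where
  prime : r.Prime
  ord : orderOf y = r
  ndvd : ¬ r ∣ Nat.card K

variable [Finite K] [FiniteDimensional K V]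

section

variable {y : V ≃ₗ[K] V} {r : ℕ} (h : Med y r)

include h

theorem Med.pow_eq : y ^ r = 1 := by rw [← h.ord, pow_orderOf_eq_one]

theorem Med.r_ne : (r : K) ≠ 0 := cast_ne_zero h.prime h.ndvd

theorem Med.inf_eq : fixS y ⊓ comS y = ⊥ := by
  rw [Submodule.eq_bot_iff]
  rintro v ⟨hv1, hv2⟩
  rw [SetLike.mem_coe, mem_fixS] at hv1
  obtain ⟨u, hu⟩ := mem_comS.1 hv2
  have h1 : ∀ j : ℕ, (y ^ j) u = u + (j : K) • v := by
    intro j
    induction j with
    | zero => simp only [_root_.pow_zero, _root_.LinearEquiv.coe_one, _root_.id_eq, _root_.Nat.cast_zero, _root_.zero_smul, _root_.add_zero]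
    | succ j ih =>
      rw [pow_apply_succ, ih, map_add, map_smul, hv1]
      have : y u = u + v := by rw [← hu]; abel
      rw [this]
      push_cast
      rw [add_smul, one_smul]
      abel
  have h2 := h1 r
  rw [h.pow_eq] at h2
  have h3 : (r : K) • v = 0 := by
    have : u = u + (r : K) • v := h2
    exact (add_eq_left.1 this.symm)
  exact (smul_eq_zero.1 h3).resolve_left h.r_ne

theorem Med.isCompl : IsCompl (comS y) (fixS y) := by
  rw [isCompl_comm]
  have h1 := h.inf_eq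
  refine ⟨disjoint_iff.2 h1, codisjoint_iff.2 ?_⟩
  apply Submodule.eq_top_of_finrank_eq
  have h2 := Submodule.finrank_sup_add_finrank_inf_eq (fixS y) (comS y)
  rw [h1, finrank_bot, add_zero] at h2
  have h3 : finrank K (comS y) + finrank K (fixS y) = finrank K V :=
    LinearMap.finrank_range_add_finrank_ker ((y : V →ₗ[K] V) - 1)
  rw [h2, add_comm, h3]

theorem Med.comS_stable (u : V) (hu : u ∈ comS y) : y u ∈ comS y := by
  obtain ⟨w, rfl⟩ := mem_comS.1 hu
  exact ⟨y w, by simp only [_root_.LinearMap.sub_apply, _root_.LinearEquiv.coe_coe, _root_.Module.End.one_apply, _root_.map_sub]⟩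

theorem Med.comS_fix (u : V) (hu : u ∈ comS y) (hf : y u = u) : u = 0 := by
  have : u ∈ fixS y ⊓ comS y := ⟨mem_fixS.2 hf, hu⟩
  rwa [h.inf_eq, Submodule.mem_bot] at this

theorem Med.comS_ne : comS y ≠ ⊥ := by
  intro h0
  have h1 : y = 1 := by
    ext v
    have h2 : y v - v ∈ comS y := ⟨v, rfl⟩
    rw [h0, Submodule.mem_bot, sub_eq_zero] at h2
    exact h2
  have h2 := h.ord
  rw [h1, orderOf_one] at h2
  exact h.prime.one_lt.ne h2

/-- the dimension of stable subspaces of the commutator space -/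
theorem Med.dvd_finrank (S : Submodule K V) (hS : S ≤ comS y) (hst : ∀ s ∈ S, y s ∈ S) :
    orderOf (Nat.card K : ZMod r) ∣ finrank K S :=
  ord_dvd_finrank h.prime S (fun s _ => by rw [h.pow_eq]; rfl) hst fun s hs => h.comS_fix s (hS hs)

/-- stable subspaces of dimension `D` are irreducible -/
theorem Med.irr {W : Submodule K V} (hW : W ≤ comS y) (hd : finrank K W = orderOf (Nat.card K : ZMod r))
    (S : Submodule K V) (hS : S ≤ W) (hst : ∀ s ∈ S, y s ∈ S) (hne : S ≠ ⊥) : S = W := by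
  obtain ⟨k, hk⟩ := h.dvd_finrank S (hS.trans hW) hst
  have h1 : finrank K S ≠ 0 := fun h0 => hne (Submodule.finrank_eq_zero.1 h0)
  have h2 : 1 ≤ k := by
    rcases Nat.eq_zero_or_pos k with rfl | h2
    · exact absurd (by rw [hk, mul_zero]) h1
    · exact h2
  apply Submodule.eq_of_le_of_finrank_le hS
  rw [hd, hk]
  exact Nat.le_mul_of_pos_right _ h2

end

section

variable {F : CForm K V} {y : F.iso} {r : ℕ} (h : Med (y : V ≃ₗ[K] V) r)

include h

theorem Med.decomp (x : V) : ∃ a ∈ comS (y : V ≃ₗ[K] V), ∃ b ∈ fixS (y : V ≃ₗ[K] V), a + b = x :=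
  Submodule.mem_sup.1 (h.isCompl.sup_eq_top ▸ Submodule.mem_top : x ∈ comS (y : V ≃ₗ[K] V) ⊔ fixS (y : V ≃ₗ[K] V))

theorem Med.ext {a b : F.iso} (h1 : ∀ u ∈ comS (y : V ≃ₗ[K] V), (a : V ≃ₗ[K] V) u = (b : V ≃ₗ[K] V) u)
    (h2 : ∀ u ∈ fixS (y : V ≃ₗ[K] V), (a : V ≃ₗ[K] V) u = (b : V ≃ₗ[K] V) u) : a = b := by
  refine Subtype.ext (LinearEquiv.ext fun v => ?_)
  obtain ⟨x, hx, w, hw, rfl⟩ := h.decomp v
  rw [map_add, map_add, h1 x hx, h2 w hw]

theorem Med.nondeg_com (u : V) (hu : u ∈ comS (y : V ≃ₗ[K] V)) (h0 : ∀ v ∈ comS (y : V ≃ₗ[K] V), F.B v u = 0) :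
    u = 0 := by
  refine F.nondeg u fun x => ?_
  obtain ⟨a, ha, b, hb, rfl⟩ := h.decomp x
  rw [F.B_add_right, F.B_eq_zero (h0 a ha), B_com_fix F hu hb, add_zero]

/-- glueing isometries of the two parts -/
theorem Med.glue (a b : V →ₗ[K] V) (ha : ∀ u ∈ comS (y : V ≃ₗ[K] V), a u ∈ comS (y : V ≃ₗ[K] V))
    (hb : ∀ w ∈ fixS (y : V ≃ₗ[K] V), b w ∈ fixS (y : V ≃ₗ[K] V))
    (haB : ∀ u ∈ comS (y : V ≃ₗ[K] V), ∀ v ∈ comS (y : V ≃ₗ[K] V), F.B (a u) (a v) = F.B u v)
    (haQ : ∀ u ∈ comS (y : V ≃ₗ[K] V), F.Q (a u) = F.Q u)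
    (hbB : ∀ u ∈ fixS (y : V ≃ₗ[K] V), ∀ v ∈ fixS (y : V ≃ₗ[K] V), F.B (b u) (b v) = F.B u v)
    (hbQ : ∀ u ∈ fixS (y : V ≃ₗ[K] V), F.Q (b u) = F.Q u) :
    ∃ t : F.iso, (∀ u ∈ comS (y : V ≃ₗ[K] V), (t : V ≃ₗ[K] V) u = a u) ∧
      ∀ w ∈ fixS (y : V ≃ₗ[K] V), (t : V ≃ₗ[K] V) w = b w := by
  have hcompl := h.isCompl
  generalize hU : comS (y : V ≃ₗ[K] V) = U at *
  generalize hW : fixS (y : V ≃ₗ[K] V) = W at *
  let pU : V →ₗ[K] V := U.subtype ∘ₗ U.projectionOnto W hcompl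
  let f : V →ₗ[K] V := a ∘ₗ pU + b ∘ₗ (1 - pU)
  have hpU : ∀ u ∈ U, pU u = u := fun u hu => by
    show ((U.projectionOnto W hcompl) u : V) = u
    have := Submodule.projectionOnto_apply_left hcompl ⟨u, hu⟩
    exact congrArg Subtype.val this
  have hpW : ∀ w ∈ W, pU w = 0 := fun w hw => by
    show ((U.projectionOnto W hcompl) w : V) = 0
    have := Submodule.projectionOnto_apply_right hcompl ⟨w, hw⟩
    exact congrArg Subtype.val this
  have hfU : ∀ u ∈ U, f u = a u := fun u hu => by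
    show a (pU u) + b (u - pU u) = a u
    rw [hpU u hu, sub_self, map_zero, add_zero]
  have hfW : ∀ w ∈ W, f w = b w := fun w hw => by
    show a (pU w) + b (w - pU w) = b w
    rw [hpW w hw, sub_zero, map_zero, zero_add]
  have hdec : ∀ x : V, ∃ u ∈ U, ∃ w ∈ W, u + w = x := fun x =>
    Submodule.mem_sup.1 (hcompl.sup_eq_top ▸ Submodule.mem_top : x ∈ U ⊔ W)
  have hUW : ∀ {u w : V}, u ∈ U → w ∈ W → F.B u w = 0 := fun hu hw => by subst hU hW; exact B_com_fix F hu hw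
  have hWU : ∀ {u w : V}, u ∈ U → w ∈ W → F.B w u = 0 := fun hu hw => by subst hU hW; exact B_fix_com F hu hw
  have hQUW : ∀ {u w : V}, u ∈ U → w ∈ W → F.Q (u + w) = F.Q u + F.Q w := fun hu hw => by
    subst hU hW; exact Q_com_fix F hu hw
  obtain ⟨t, ht⟩ := F.exists_iso f (by
      intro x x'
      obtain ⟨u, hu, w, hw, rfl⟩ := hdec x
      obtain ⟨u', hu', w', hw', rfl⟩ := hdec x'
      rw [map_add, map_add, hfU u hu, hfU u' hu', hfW w hw, hfW w' hw', F.B_add_left, F.B_add_left,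
        F.B_add_right, F.B_add_right, F.B_add_right, F.B_add_right, haB u hu u' hu', hbB w hw w' hw',
        hUW (ha u hu) (hb w' hw'), hWU (ha u' hu') (hb w hw), hUW hu hw', hWU hu' hw]) (by
      intro x
      obtain ⟨u, hu, w, hw, rfl⟩ := hdec x
      rw [map_add, hfU u hu, hfW w hw, hQUW (ha u hu) (hb w hw), hQUW hu hw, haQ u hu, hbQ w hw])
  exact ⟨t, fun u hu => by rw [ht, hfU u hu], fun w hw => by rw [ht, hfW w hw]⟩

/-- an isometry stabilizing the fixed space stabilizes the commutator space -/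
theorem Med.stable_com {g : F.iso} (hg : ∀ w ∈ fixS (y : V ≃ₗ[K] V), (g : V ≃ₗ[K] V) w ∈ fixS (y : V ≃ₗ[K] V)) (u : V)
    (hu : u ∈ comS (y : V ≃ₗ[K] V)) : (g : V ≃ₗ[K] V) u ∈ comS (y : V ≃ₗ[K] V) := by
  have hsurj : ∀ w ∈ fixS (y : V ≃ₗ[K] V), ∃ w' ∈ fixS (y : V ≃ₗ[K] V), (g : V ≃ₗ[K] V) w' = w := by
    intro w hw
    have h1 : (fixS (y : V ≃ₗ[K] V)).map ((g : V ≃ₗ[K] V) : V →ₗ[K] V) = fixS (y : V ≃ₗ[K] V) := by
      apply Submodule.eq_of_le_of_finrank_eq
      · rintro _ ⟨x, hx, rfl⟩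
        exact hg x hx
      · exact LinearEquiv.finrank_map_eq (g : V ≃ₗ[K] V) _
    rw [← h1] at hw
    obtain ⟨x, hx, hxw⟩ := hw
    exact ⟨x, hx, hxw⟩
  obtain ⟨a, ha, b, hb, hab⟩ := h.decomp ((g : V ≃ₗ[K] V) u)
  have hb0 : b = 0 := by
    refine F.nondeg b fun x => ?_
    obtain ⟨c, hc, d, hd, rfl⟩ := h.decomp x
    obtain ⟨d', hd', rfl⟩ := hsurj d hd
    have h1 : F.B b ((g : V ≃ₗ[K] V) d') = 0 := by
      have h2 : b = (g : V ≃ₗ[K] V) u - a := by rw [← hab]; abel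
      rw [h2, F.B_sub_left, F.iso_B, B_com_fix F hu hd', B_com_fix F ha hd, sub_zero]
    rw [F.B_add_right, h1, B_fix_com F hc hb, add_zero]
  rw [← hab, hb0, add_zero]
  exact ha

theorem Med.Ky_fix {k : F.iso} (hk : k ∈ Ky F y) {w : V} (hw : w ∈ fixS (y : V ≃ₗ[K] V)) :
    (k : V ≃ₗ[K] V) w ∈ fixS (y : V ≃ₗ[K] V) := by
  obtain ⟨a, ha, b, hb, hab⟩ := h.decomp ((k : V ≃ₗ[K] V) w)
  have h1 : a = 0 := by
    refine h.nondeg_com a ha fun u hu => ?_
    have h2 : F.B u ((k : V ≃ₗ[K] V) w) = 0 := by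
      rw [← hk u hu, F.iso_B]
      exact B_com_fix F hu hw
    rw [← hab, F.B_add_right, B_com_fix F hu hb, add_zero] at h2
    exact h2
  rw [← hab, h1, zero_add]
  exact hb

theorem Med.Ky_comm {k : F.iso} (hk : k ∈ Ky F y) : Commute k y := by
  refine h.ext (fun u hu => ?_) fun w hw => ?_
  · rw [mul_apply, mul_apply, hk u hu, hk _ (h.comS_stable u hu)]
  · rw [mul_apply, mul_apply, mem_fixS.1 hw, mem_fixS.1 (h.Ky_fix hk hw)]

theorem Med.orderOf_eq : orderOf y = r := by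
  have := h.ord
  rwa [Subgroup.orderOf_coe] at this

/-- inner action on `Ky` -/
theorem Med.inner {n : F.iso} (hn : ∃ i : ℕ, ¬ r ∣ i ∧ n * y * n⁻¹ = y ^ i) :
    ∃ c ∈ Ky F y, ∀ k ∈ Ky F y, n * k * n⁻¹ = c * k * c⁻¹ := by
  obtain ⟨i, hi, hni⟩ := hn
  have hny : n * y = y ^ i * n := by rw [← hni, inv_mul_cancel_right]
  obtain ⟨j, hj⟩ : ∃ j : ℕ, (y ^ i) ^ j = y := by
    have h1 : (orderOf y).Coprime i := by
      rw [h.orderOf_eq]
      exact (Nat.Prime.coprime_iff_not_dvd h.prime).2 hi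
    exact exists_pow_eq_self_of_coprime h1.symm
  have hpow : ∀ (x : F.iso) (m : ℕ) (w : V), w ∈ fixS (x : V ≃ₗ[K] V) → w ∈ fixS ((x ^ m : F.iso) : V ≃ₗ[K] V) := by
    intro x m w hw
    rw [mem_fixS] at hw ⊢
    induction m with
    | zero => rfl
    | succ m ih =>
      rw [pow_succ, mul_apply, hw, ih]
  have hfix : ∀ w ∈ fixS (y : V ≃ₗ[K] V), (n : V ≃ₗ[K] V) w ∈ fixS (y : V ≃ₗ[K] V) := by
    intro w hw
    have h1 : (n : V ≃ₗ[K] V) w ∈ fixS ((y ^ i : F.iso) : V ≃ₗ[K] V) :=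
      fixS_conj (x := (y : V ≃ₗ[K] V)) (x' := ((y ^ i : F.iso) : V ≃ₗ[K] V)) (g := (n : V ≃ₗ[K] V)) (fun v => by
        rw [← mul_apply, hny, mul_apply]) hw
    have h2 := hpow _ j _ h1
    rwa [hj] at h2
  have hcom := h.stable_com hfix
  obtain ⟨c, hc1, hc2⟩ := h.glue (LinearMap.id) ((n : V ≃ₗ[K] V) : V →ₗ[K] V) (fun u hu => hu) hfix
    (fun _ _ _ _ => rfl) (fun _ _ => rfl) (fun u _ v _ => F.iso_B n u v) (fun u _ => F.iso_Q n u)
  have hcK : c ∈ Ky F y := fun u hu => hc1 u hu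
  have hm1 : ∀ w ∈ fixS (y : V ≃ₗ[K] V), ((c⁻¹ * n : F.iso) : V ≃ₗ[K] V) w = w := by
    intro w hw
    rw [mul_apply]
    have h1 : (n : V ≃ₗ[K] V) w = (c : V ≃ₗ[K] V) w := (hc2 w hw).symm
    rw [h1]
    exact coe_inv_apply F c w
  have hm2 : ∀ u ∈ comS (y : V ≃ₗ[K] V), ((c⁻¹ * n : F.iso) : V ≃ₗ[K] V) u ∈ comS (y : V ≃ₗ[K] V) := by
    intro u hu
    rw [mul_apply, Subgroup.inv_mem _ hcK _ (hcom u hu)]
    exact hcom u hu
  refine ⟨c, hcK, fun k hk => ?_⟩
  have hmk : Commute (c⁻¹ * n) k := by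
    refine h.ext (fun u hu => ?_) fun w hw => ?_
    · rw [mul_apply F (c⁻¹ * n), mul_apply F k, hk u hu, hk _ (hm2 u hu)]
    · rw [mul_apply F (c⁻¹ * n), mul_apply F k, hm1 w hw, hm1 _ (h.Ky_fix hk hw)]
  calc n * k * n⁻¹ = c * ((c⁻¹ * n) * k) * (c⁻¹ * n)⁻¹ * c⁻¹ := by group
    _ = c * (k * (c⁻¹ * n)) * (c⁻¹ * n)⁻¹ * c⁻¹ := by rw [hmk.eq]
    _ = c * k * c⁻¹ := by group

end

end Cfsg.Agent.H477.OZ
end

-- part: H477/OZ/PspThirteen
section
/-!
# `PSp_8(3)` and the prime 13 (S4842, helper477)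

`y` of order 13 in `Sp_8(3)`: `dim [V,y] = 6` and `y` is an element of `GL_1(27)` on a totally isotropic subspace.
* `T13.finrank_com` : `dim [V,y] = 6`;
* `T13.mem_Ky` : the `3`-elements of `C(y)` are trivial on `[V,y]`;
* `T13.no_sq` : `y` is not conjugate to `y ^ 2`;
* `cong_psp8_three` : `CongS 3 13 {9, -3} (PSp_8(3))`.
-/

set_option autoImplicit false
set_option linter.unusedSectionVars false

open Cfsg Cfsg.Agent.H730.OZ

namespace Cfsg.Agent.H477.OZ

open Module Polynomial Cfsg.Agent.H477.HC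

universe u v

section

variable {K : Type u} [Field K] {V : Type v} [AddCommGroup V] [Module K V]

theorem nil_ker {N : V →ₗ[K] V} {n : ℕ} (hN : N ^ n = 0) {S : Submodule K V} (hS : ∀ s ∈ S, N s ∈ S) (hne : S ≠ ⊥) :
    LinearMap.ker N ⊓ S ≠ ⊥ := by
  intro hb
  have h1 : ∀ s ∈ S, N s = 0 → s = 0 := by
    intro s hs h0
    have : s ∈ LinearMap.ker N ⊓ S := ⟨h0, hs⟩
    rwa [hb, Submodule.mem_bot] at this
  have h2 : ∀ k : ℕ, ∀ s ∈ S, (N ^ k) s ∈ S := by
    intro k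
    induction k with
    | zero => intro s hs; exact hs
    | succ k ih => intro s hs; rw [pow_succ']; exact hS _ (ih s hs)
  have h3 : ∀ k : ℕ, ∀ s ∈ S, (N ^ k) s = 0 → s = 0 := by
    intro k
    induction k with
    | zero => intro s _ hs; exact hs
    | succ k ih =>
      intro s hs h0
      rw [pow_succ'] at h0
      exact ih s hs (h1 _ (h2 k s hs) h0)
  obtain ⟨u₀, hu₀, h0⟩ := Submodule.exists_mem_ne_zero_of_ne_bot hne
  exact h0 (h3 n u₀ hu₀ (by rw [hN]; rfl))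

theorem nil_map {N : V →ₗ[K] V} {n : ℕ} (hN : N ^ n = 0) {S : Submodule K V} (hne : S ≠ ⊥) : S.map N ≠ S := by
  intro h
  have h1 : ∀ k : ℕ, S.map (N ^ k) = S := by
    intro k
    induction k with
    | zero => exact Submodule.map_id S
    | succ k ih =>
      rw [pow_succ', Module.End.mul_eq_comp, Submodule.map_comp, ih, h]
  have h2 := h1 n
  rw [hN, Submodule.map_zero] at h2
  exact hne h2.symm

theorem frob [Finite K] {q : ℕ} (hK : Nat.card K = q) (f : V →ₗ[K] V) (m : K[X]) : aeval (f ^ q) m = (aeval f m) ^ q := by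
  have := Fintype.ofFinite K
  rw [Nat.card_eq_fintype_card] at hK
  rw [← hK, ← Polynomial.expand_aeval, FiniteField.expand_card, map_pow]

theorem ord13 : orderOf ((3 : ℕ) : ZMod 13) = 3 := by
  have : Fact (Nat.Prime 3) := ⟨Nat.prime_three⟩
  exact orderOf_eq_prime (by decide) (by decide)

theorem ipow_apply {F : CForm K V} (y : F.iso) {n : ℕ} (h : y ^ (n + 1) = 1) :
    ((y⁻¹ : F.iso) : V ≃ₗ[K] V) = (y : V ≃ₗ[K] V) ^ n := by
  have h1 : y⁻¹ = y ^ n := by
    rw [inv_eq_iff_mul_eq_one, ← pow_succ']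
    exact h
  rw [h1]
  rfl

end

namespace T13

variable {K : Type u} [Field K] {V : Type v} [AddCommGroup V] [Module K V] [Finite K] [FiniteDimensional K V]
variable {F : CForm K V} {y : F.iso} (h : Med (y : V ≃ₗ[K] V) 13) (hK : Nat.card K = 3) (hσ : ∀ a, F.σ a = a)

include h hK

theorem y13 : y ^ (12 + 1) = 1 := by
  have h1 := pow_orderOf_eq_one y
  rwa [h.orderOf_eq] at h1

theorem stable_inv {W : Submodule K V} (hst : ∀ u ∈ W, (y : V ≃ₗ[K] V) u ∈ W) (m : K[X]) :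
    ∀ u ∈ W, aeval (((y⁻¹ : F.iso) : V ≃ₗ[K] V) : V →ₗ[K] V) m u ∈ W := by
  rw [ipow_apply y (y13 h hK)]
  refine aeval_stable (fun u hu => ?_) m
  have hpw : ∀ n : ℕ, ∀ u ∈ W, ((y : V ≃ₗ[K] V) ^ n) u ∈ W := by
    intro n
    induction n with
    | zero => intro u hu; exact hu
    | succ n ih => intro u hu; rw [pow_apply_succ]; exact hst _ (ih u hu)
  exact hpw 12 u hu

theorem ord : orderOf (Nat.card K : ZMod 13) = 3 := by rw [hK]; exact ord13

/-- the irreducible modules are not selfdual -/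
theorem no_dual {W : Submodule K V} (hW : W ≤ comS (y : V ≃ₗ[K] V)) (hst : ∀ u ∈ W, (y : V ≃ₗ[K] V) u ∈ W)
    (hd : finrank K W = 3) {m : K[X]} (hm0 : m ≠ 0) (hmd : m.natDegree = 3)
    (hm : ∀ u ∈ W, aeval ((y : V ≃ₗ[K] V) : V →ₗ[K] V) m u = 0) :
    ¬ ∀ u ∈ W, aeval (((y⁻¹ : F.iso) : V ≃ₗ[K] V) : V →ₗ[K] V) m u = 0 := by
  intro hinv
  have hne : W ≠ ⊥ := by
    rintro rfl
    rw [finrank_bot] at hd
    omega
  have h3 : ∀ f : V →ₗ[K] V, (∀ u ∈ W, aeval f m u = 0) → ∀ u ∈ W, aeval (f ^ 3) m u = 0 := by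
    intro f hf u hu
    rw [frob hK, pow_succ]
    show ((aeval f m) ^ 2) (aeval f m u) = 0
    rw [hf u hu, map_zero]
  have hle := roots_le (y := (y : V ≃ₗ[K] V)) h.prime h.pow_eq hst (h.irr hW (by rw [hd, ord h hK])) hne
    (fun u hu => h.comS_fix u (hW hu)) hm0 {1, 3, 9, 12} (by decide) (by
      intro i hi u hu
      simp only [Finset.mem_insert, Finset.mem_singleton] at hi
      rcases hi with rfl | rfl | rfl | rfl
      · rw [pow_one]; exact hm u hu
      · rw [lin_pow]; exact h3 _ hm u hu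
      · rw [show 9 = 3 * 3 from rfl, lin_pow, pow_mul]
        exact h3 _ (h3 _ hm) u hu
      · rw [← ipow_apply y (y13 h hK)]
        exact hinv u hu)
  rw [hmd] at hle
  have : ({1, 3, 9, 12} : Finset ℕ).card = 4 := by decide
  omega

include hσ

/-- the commutator space has dimension 6 -/
theorem finrank_com (hV : finrank K V = 8) : finrank K (comS (y : V ≃ₗ[K] V)) = 6 := by
  obtain ⟨k, hk⟩ := h.dvd_finrank _ le_rfl h.comS_stable
  rw [ord h hK] at hk
  have h1 := Submodule.finrank_le (comS (y : V ≃ₗ[K] V))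
  rw [hV] at h1
  have h2 : finrank K (comS (y : V ≃ₗ[K] V)) ≠ 0 := fun h0 => h.comS_ne (Submodule.finrank_eq_zero.1 h0)
  have h3 : finrank K (comS (y : V ≃ₗ[K] V)) ≠ 3 := by
    intro h3
    obtain ⟨m, hm0, hmd, hm⟩ := exists_cp (f := ((y : V ≃ₗ[K] V) : V →ₗ[K] V)) (W := comS (y : V ≃ₗ[K] V)) h.comS_stable
    refine no_dual h hK le_rfl h.comS_stable h3 hm0 (by rw [hmd, h3]) hm fun u hu => ?_
    refine h.nondeg_com _ (stable_inv h hK h.comS_stable m u hu) fun v hv => ?_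
    rw [← adj_poly F hσ, hm v hv, F.B_zero_left]
  omega

theorem dims (hV : finrank K V = 8) {S : Submodule K V} (hS : S ≤ comS (y : V ≃ₗ[K] V))
    (hst : ∀ s ∈ S, (y : V ≃ₗ[K] V) s ∈ S) (h0 : S ≠ ⊥) (h1 : S ≠ comS (y : V ≃ₗ[K] V)) : finrank K S = 3 := by
  obtain ⟨k, hk⟩ := h.dvd_finrank S hS hst
  rw [ord h hK] at hk
  have h6 := finrank_com h hK hσ hV
  have h2 : finrank K S < 6 := by
    rw [← h6]
    exact Submodule.finrank_lt_finrank_of_lt (lt_of_le_of_ne hS h1)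
  have h3 : finrank K S ≠ 0 := fun h0' => h0 (Submodule.finrank_eq_zero.1 h0')
  omega

/-- the `3`-elements commuting with `y` -/
theorem mem_Ky (hV : finrank K V = 8) {g : F.iso} (hg : Commute g y) {j : ℕ} (hj : g ^ 3 ^ j = 1) : g ∈ Ky F y := by
  have hp3 : Fact (Nat.Prime 3) := ⟨Nat.prime_three⟩
  have hchar : CharP K 3 := by
    have := Fintype.ofFinite K
    exact charP_of_card_eq_prime (by rw [← Nat.card_eq_fintype_card, hK])
  set! U := comS (y : V ≃ₗ[K] V) with hU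
  set! N : V →ₗ[K] V := ((g : V ≃ₗ[K] V) : V →ₗ[K] V) - 1 with hNdef
  have hNv : ∀ v, N v = (g : V ≃ₗ[K] V) v - v := fun v => rfl
  have hNy : ∀ v, N ((y : V ≃ₗ[K] V) v) = (y : V ≃ₗ[K] V) (N v) := by
    intro v
    rw [hNv, hNv, map_sub, comm_apply F hg]
  have hUne : U ≠ ⊥ := h.comS_ne
  obtain ⟨u₀, hu₀, h0⟩ := Submodule.exists_mem_ne_zero_of_ne_bot hUne
  have hNU : ∀ u ∈ U, N u ∈ U := by
    intro u hu
    exact U.sub_mem (comS_conj (fun v => comm_apply F hg v) hu) hu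
  have hN0 : N ^ 3 ^ j = 0 := by
    have hp2 : CharP (V →ₗ[K] V) 3 := by
      have : Nontrivial V := ⟨u₀, 0, h0⟩
      exact charP_of_injective_algebraMap (algebraMap K (Module.End K V)).injective 3
    have h3 : Commute ((g : V ≃ₗ[K] V) : V →ₗ[K] V) 1 := Commute.one_right _
    have h4 := sub_pow_char_pow_of_commute (R := Module.End K V) (p := 3) (n := j) h3
    rw [one_pow] at h4
    have h5 : (((g : V ≃ₗ[K] V) : V →ₗ[K] V)) ^ 3 ^ j = 1 := by
      rw [← lin_pow]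
      have h6 : (g : V ≃ₗ[K] V) ^ 3 ^ j = 1 := congrArg Subtype.val hj
      rw [h6]
      rfl
    rw [h5, sub_self] at h4
    exact h4
  -- the kernel on `U`
  by_cases hW : LinearMap.ker N ⊓ U = U
  · intro u hu
    have h1 : u ∈ LinearMap.ker N ⊓ U := by rw [hW]; exact hu
    exact sub_eq_zero.1 h1.1
  exfalso
  set W := LinearMap.ker N ⊓ U with hWdef
  have hWst : ∀ s ∈ W, (y : V ≃ₗ[K] V) s ∈ W := by
    rintro s ⟨hs1, hs2⟩
    refine ⟨?_, h.comS_stable s hs2⟩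
    rw [SetLike.mem_coe, LinearMap.mem_ker] at hs1 ⊢
    rw [hNy, hs1, map_zero]
  have hWd : finrank K W = 3 := dims h hK hσ hV inf_le_right hWst (nil_ker hN0 hNU hUne) hW
  have hMle : U.map N ≤ U := by
    rintro _ ⟨u, hu, rfl⟩
    exact hNU u hu
  have hMst : ∀ s ∈ U.map N, (y : V ≃ₗ[K] V) s ∈ U.map N := by
    rintro _ ⟨u, hu, rfl⟩
    exact ⟨(y : V ≃ₗ[K] V) u, h.comS_stable u hu, hNy u⟩
  have hMne : U.map N ≠ ⊥ := by
    intro hb
    apply hW
    refine le_antisymm inf_le_right fun u hu => ⟨?_, hu⟩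
    have h1 : N u ∈ U.map N := ⟨u, hu, rfl⟩
    rw [hb, Submodule.mem_bot] at h1
    exact h1
  have hMd : finrank K (U.map N) = 3 := dims h hK hσ hV hMle hMst hMne (nil_map hN0 hUne)
  have hMW : U.map N = W := by
    have h1 : LinearMap.ker N ⊓ U.map N = U.map N := by
      refine h.irr hMle (by rw [hMd, ord h hK]) _ inf_le_right ?_ ?_
      · rintro s ⟨hs1, hs2⟩
        refine ⟨?_, hMst s hs2⟩
        rw [SetLike.mem_coe, LinearMap.mem_ker] at hs1 ⊢
        rw [hNy, hs1, map_zero]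
      · exact nil_ker hN0 (fun s hs => ⟨s, hMle hs, rfl⟩) hMne
    apply Submodule.eq_of_le_of_finrank_eq
    · intro s hs
      rw [← h1] at hs
      exact ⟨hs.1, hMle hs.2⟩
    · rw [hMd, hWd]
  obtain ⟨m, hm0, hmd, hm⟩ := exists_cp (f := ((y : V ≃ₗ[K] V) : V →ₗ[K] V)) (W := W) hWst
  -- `m(y) U ≤ W`
  have hmU : ∀ u ∈ U, aeval ((y : V ≃ₗ[K] V) : V →ₗ[K] V) m u ∈ W := by
    intro u hu
    refine ⟨?_, aeval_stable (f := ((y : V ≃ₗ[K] V) : V →ₗ[K] V)) h.comS_stable m u hu⟩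
    have h1 : Commute (N : Module.End K V) (aeval ((y : V ≃ₗ[K] V) : V →ₗ[K] V) m) :=
      commute_aeval (LinearMap.ext hNy) m
    have h2 : N (aeval ((y : V ≃ₗ[K] V) : V →ₗ[K] V) m u) = aeval ((y : V ≃ₗ[K] V) : V →ₗ[K] V) m (N u) :=
      LinearMap.congr_fun h1.eq u
    rw [SetLike.mem_coe, LinearMap.mem_ker, h2]
    refine hm _ ?_
    rw [← hMW]
    exact ⟨u, hu, rfl⟩
  -- `W` is totally isotropic
  have hWW : ∀ w ∈ W, ∀ w' ∈ W, F.B w w' = 0 := by
    intro w hw w' hw'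
    rw [← hMW] at hw
    obtain ⟨v, hv, rfl⟩ := hw
    have hgw : (g : V ≃ₗ[K] V) w' = w' := sub_eq_zero.1 hw'.1
    rw [hNv, F.B_sub_left]
    conv_lhs => arg 1; rw [← hgw, F.iso_B]
    rw [sub_self]
  refine no_dual h hK inf_le_right hWst hWd hm0 (by rw [hmd, hWd]) hm fun u hu => ?_
  refine h.nondeg_com _ (stable_inv h hK h.comS_stable m u hu.2) fun v hv => ?_
  rw [← adj_poly F hσ]
  exact hWW _ (hmU v hv) u hu

/-- `y` is not conjugate to its square -/
theorem no_sq (hV : finrank K V = 8) : ¬ ∃ g : F.iso, g * y * g⁻¹ = y ^ 2 := by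
  rintro ⟨g, hg⟩
  set! U := comS (y : V ≃ₗ[K] V) with hU
  have hgy : ∀ v, (g : V ≃ₗ[K] V) ((y : V ≃ₗ[K] V) v) = ((y ^ 2 : F.iso) : V ≃ₗ[K] V) ((g : V ≃ₗ[K] V) v) := by
    intro v
    rw [← mul_apply, ← mul_apply, ← hg, inv_mul_cancel_right]
  have hsq : ∀ v, ((y ^ 2 : F.iso) : V ≃ₗ[K] V) v = (y : V ≃ₗ[K] V) ((y : V ≃ₗ[K] V) v) := by
    intro v
    rw [pow_two, mul_apply]
  have hgU : ∀ u ∈ U, (g : V ≃ₗ[K] V) u ∈ U := by
    intro u hu
    have h1 := comS_conj (x := (y : V ≃ₗ[K] V)) (x' := ((y ^ 2 : F.iso) : V ≃ₗ[K] V)) (g := (g : V ≃ₗ[K] V)) hgy hu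
    obtain ⟨v, hv⟩ := mem_comS.1 h1
    rw [← hv, hsq]
    have h2 : (y : V ≃ₗ[K] V) ((y : V ≃ₗ[K] V) v) - v =
        ((y : V ≃ₗ[K] V) ((y : V ≃ₗ[K] V) v) - (y : V ≃ₗ[K] V) v) + ((y : V ≃ₗ[K] V) v - v) := by abel
    rw [h2]
    exact U.add_mem ⟨_, rfl⟩ ⟨_, rfl⟩
  have hmap : U.map ((g : V ≃ₗ[K] V) : V →ₗ[K] V) = U := by
    apply Submodule.eq_of_le_of_finrank_eq
    · rintro _ ⟨u, hu, rfl⟩
      exact hgU u hu
    · exact LinearEquiv.finrank_map_eq (g : V ≃ₗ[K] V) _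
  obtain ⟨m, hm0, hmd, hm⟩ := exists_cp (f := ((y : V ≃ₗ[K] V) : V →ₗ[K] V)) (W := U) h.comS_stable
  rw [finrank_com h hK hσ hV] at hmd
  -- doubling
  have hstep : ∀ k : ℕ, (∀ u ∈ U, aeval (((y : V ≃ₗ[K] V) ^ k : V ≃ₗ[K] V) : V →ₗ[K] V) m u = 0) →
      ∀ u ∈ U, aeval (((y : V ≃ₗ[K] V) ^ (k * 2) : V ≃ₗ[K] V) : V →ₗ[K] V) m u = 0 := by
    intro k hk u hu
    rw [← hmap] at hu
    obtain ⟨u', hu', rfl⟩ := hu
    have e1 : ∀ v, (g : V ≃ₗ[K] V) (((y : V ≃ₗ[K] V) ^ k) v) = ((y : V ≃ₗ[K] V) ^ (k * 2)) ((g : V ≃ₗ[K] V) v) := by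
      have e2 : g * y ^ k = y ^ (k * 2) * g := by
        have e3 : g * y ^ k * g⁻¹ = y ^ (k * 2) := by rw [← conj_pow, hg, ← pow_mul, mul_comm]
        rw [← e3, inv_mul_cancel_right]
      intro v
      have e4 := congrArg (fun x : F.iso => (x : V ≃ₗ[K] V) v) e2
      exact e4
    have e5 : ∀ s : K[X], ∀ v, (g : V ≃ₗ[K] V) (aeval (((y : V ≃ₗ[K] V) ^ k : V ≃ₗ[K] V) : V →ₗ[K] V) s v) =
        aeval (((y : V ≃ₗ[K] V) ^ (k * 2) : V ≃ₗ[K] V) : V →ₗ[K] V) s ((g : V ≃ₗ[K] V) v) := by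
      intro s
      have hpw : ∀ n : ℕ, ∀ v, (g : V ≃ₗ[K] V) (((((y : V ≃ₗ[K] V) ^ k : V ≃ₗ[K] V) : V →ₗ[K] V) ^ n) v) =
          ((((y : V ≃ₗ[K] V) ^ (k * 2) : V ≃ₗ[K] V) : V →ₗ[K] V) ^ n) ((g : V ≃ₗ[K] V) v) := by
        intro n
        induction n with
        | zero => intro v; rfl
        | succ n ih =>
          intro v
          rw [pow_succ, pow_succ]
          show (g : V ≃ₗ[K] V) (((((y : V ≃ₗ[K] V) ^ k : V ≃ₗ[K] V) : V →ₗ[K] V) ^ n) (((y : V ≃ₗ[K] V) ^ k) v)) =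
            ((((y : V ≃ₗ[K] V) ^ (k * 2) : V ≃ₗ[K] V) : V →ₗ[K] V) ^ n) (((y : V ≃ₗ[K] V) ^ (k * 2)) ((g : V ≃ₗ[K] V) v))
          rw [ih, e1]
      induction s using Polynomial.induction_on' with
      | add p q hp hq =>
        intro v
        rw [map_add, map_add, LinearMap.add_apply, LinearMap.add_apply, map_add, hp, hq]
      | monomial n a =>
        intro v
        rw [aeval_monomial, aeval_monomial]
        show (g : V ≃ₗ[K] V) (a • ((((y : V ≃ₗ[K] V) ^ k : V ≃ₗ[K] V) : V →ₗ[K] V) ^ n) v) =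
          a • ((((y : V ≃ₗ[K] V) ^ (k * 2) : V ≃ₗ[K] V) : V →ₗ[K] V) ^ n) ((g : V ≃ₗ[K] V) v)
        rw [map_smul, hpw]
    show aeval (((y : V ≃ₗ[K] V) ^ (k * 2) : V ≃ₗ[K] V) : V →ₗ[K] V) m ((g : V ≃ₗ[K] V) u') = 0
    rw [← e5, hk u' hu', map_zero]
  have hall : ∀ i : ℕ, ∀ u ∈ U, aeval (((y : V ≃ₗ[K] V) ^ (2 ^ i) : V ≃ₗ[K] V) : V →ₗ[K] V) m u = 0 := by
    intro i
    induction i with
    | zero => intro u hu; rw [pow_zero, pow_one]; exact hm u hu
    | succ i ih => rw [pow_succ]; exact hstep _ ih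
  -- an irreducible subspace
  obtain ⟨W, hWU, hWst, hWne, hWirr⟩ : ∃ W ≤ U, (∀ u ∈ W, (y : V ≃ₗ[K] V) u ∈ W) ∧ W ≠ ⊥ ∧
      ∀ S ≤ W, (∀ s ∈ S, (y : V ≃ₗ[K] V) s ∈ S) → S ≠ ⊥ → S = W := by
    by_cases hex : ∃ W ≤ U, (∀ u ∈ W, (y : V ≃ₗ[K] V) u ∈ W) ∧ finrank K W = 3
    · obtain ⟨W, h1, h2, h3⟩ := hex
      refine ⟨W, h1, h2, ?_, h.irr h1 (by rw [h3, ord h hK])⟩
      rintro rfl
      rw [finrank_bot] at h3
      omega
    · refine ⟨U, le_rfl, h.comS_stable, h.comS_ne, fun S hS hst hne => ?_⟩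
      by_contra hSU
      exact hex ⟨S, hS, hst, dims h hK hσ hV hS hst hne hSU⟩
  have hle := roots_le (y := (y : V ≃ₗ[K] V)) h.prime h.pow_eq hWst hWirr hWne
    (fun u hu => h.comS_fix u (hWU hu)) hm0 ((Finset.range 12).image (2 ^ ·)) (by decide +kernel) (by
      intro i hi u hu
      obtain ⟨k, -, rfl⟩ := Finset.mem_image.1 hi
      exact hall k u (hWU hu))
  rw [hmd] at hle
  have : ((Finset.range 12).image (2 ^ ·)).card = 12 := by decide
  omega

variable [Finite F.iso]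

theorem not_dvd_Ky (hV : finrank K V = 8) : ¬ 13 ∣ Nat.card (Ky F y) := by
  intro hd
  have := Fact.mk h.prime
  obtain ⟨z, hz⟩ := exists_prime_orderOf_dvd_card' 13 hd
  have hz1 : orderOf (z : F.iso) = 13 := by rw [Subgroup.orderOf_coe, hz]
  have hm : Med (((z : F.iso)) : V ≃ₗ[K] V) 13 := ⟨h.prime, by rw [Subgroup.orderOf_coe]; exact hz1, h.ndvd⟩
  have h1 := finrank_com hm hK hσ hV
  have h2 := finrank_com h hK hσ hV
  have h3 := Submodule.finrank_add_eq_of_isCompl hm.isCompl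
  rw [h1, hV] at h3
  have h4 : comS (y : V ≃ₗ[K] V) ≤ fixS ((z : F.iso) : V ≃ₗ[K] V) := fun u hu => mem_fixS.2 (z.2 u hu)
  have h5 := Submodule.finrank_mono h4
  omega

/-- `y k₀` and `y² k₀` are not conjugate modulo the kernel -/
theorem not_conj {S : Type*} [Group S] {π : F.iso →* S} (hπ : Function.Surjective π)
    (hker : π.ker ≤ Subgroup.center F.iso) (hkr : ¬ 13 ∣ Nat.card π.ker) (hV : finrank K V = 8)
    {k₀ : F.iso} (hk₀ : k₀ ∈ Ky F y) : ¬ IsConj (π (y * k₀)) (π (y ^ 2 * k₀)) := by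
  intro hc
  obtain ⟨g, c, hcZ, hg⟩ := conj_of_isConj hπ hc
  obtain ⟨a, s, hs, hGs⟩ := Nat.exists_eq_pow_mul_and_not_dvd (Nat.card_pos (α := F.iso)).ne' 13 (by norm_num)
  have hord : ∀ x : F.iso, ¬ 13 ∣ orderOf x → x ^ s = 1 := by
    intro x hx
    have h1 : orderOf x ∣ 13 ^ a * s := hGs ▸ orderOf_dvd_natCard x
    have h2 : (orderOf x).Coprime (13 ^ a) := ((Nat.Prime.coprime_iff_not_dvd h.prime).2 hx).symm.pow_right a
    exact orderOf_dvd_iff_pow_eq_one.1 (h2.dvd_of_dvd_mul_left h1)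
  have hk1 : k₀ ^ s = 1 := by
    refine hord k₀ fun hd => not_dvd_Ky h hK hσ hV (hd.trans ?_)
    have := orderOf_dvd_natCard (⟨k₀, hk₀⟩ : Ky F y)
    rwa [Subgroup.orderOf_mk] at this
  have hc1 : c ^ s = 1 := by
    refine hord c fun hd => hkr (hd.trans ?_)
    have := orderOf_dvd_natCard (⟨c, hcZ⟩ : π.ker)
    rwa [Subgroup.orderOf_mk] at this
  have hky := h.Ky_comm hk₀
  have e1 : (g * (y * k₀) * g⁻¹) ^ s = g * y ^ s * g⁻¹ := by
    rw [conj_pow, hky.symm.mul_pow, hk1, mul_one]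
  have e2 : (c * (y ^ 2 * k₀)) ^ s = (y ^ 2) ^ s := by
    have h3 : Commute c (y ^ 2 * k₀) := (Subgroup.mem_center_iff.1 (hker hcZ) _).symm
    rw [h3.mul_pow, hc1, one_mul, (hky.symm.pow_left 2).mul_pow, hk1, mul_one]
  have e3 : g * y ^ s * g⁻¹ = (y ^ 2) ^ s := by rw [← e1, hg, e2]
  obtain ⟨j, hj⟩ : ∃ j : ℕ, (y ^ s) ^ j = y := by
    have h1 : (orderOf y).Coprime s := by
      rw [h.orderOf_eq]
      exact (Nat.Prime.coprime_iff_not_dvd h.prime).2 hs
    exact exists_pow_eq_self_of_coprime h1.symm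
  refine no_sq h hK hσ hV ⟨g, ?_⟩
  calc g * y * g⁻¹ = (g * y ^ s * g⁻¹) ^ j := by rw [conj_pow, hj]
    _ = y ^ 2 := by rw [e3, ← pow_mul, ← pow_mul, mul_comm 2, pow_mul, pow_mul, hj]

end T13

/-- **The prime 13 for `PSp_8(3)`.** -/
theorem cong_psp8_three {S : Type u} [Group S] [Finite S] {F : Type} [Field F] [Fintype F] (e : S ≃* PSp 4 F)
    (hF : Fintype.card F = 3) : CongS 3 13 {9, -3} S := by
  intro χ hχ h0 m ε hε hs
  have h13 : Nat.Prime 13 := by norm_num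
  have hrf : Fact (Nat.Prime 13) := ⟨h13⟩
  have hp3 : Fact (Nat.Prime 3) := ⟨Nat.prime_three⟩
  obtain ⟨π, hπ, hker, hkc⟩ := H366.OZ.exists_pi e (by norm_num)
  have hK : Nat.card F = 3 := by rw [Nat.card_eq_fintype_card, hF]
  have hkc2 : Nat.card π.ker = 2 := by rw [hkc, hF]; rfl
  have hfin : Finite (CForm.spF F 4).iso := finite_iso _
  have hV : finrank F (Fin 4 ⊕ Fin 4 → F) = 8 := by
    rw [Module.finrank_fintype_fun_eq_card, Fintype.card_sum, Fintype.card_fin]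
  have hσ : ∀ a, (CForm.spF F 4).σ a = a := fun a => by simp
  have hQ0 : ∀ v, (CForm.spF F 4).Q v = 0 := fun v => by simp
  have hcard : Nat.card (CForm.spF F 4).iso = 13 * (3 ^ 16 * (8 * 80 * 56 * 6560)) := by
    rw [card_spF, hK]
    simp only [Finset.prod_range_succ, Finset.prod_range_zero]
    norm_num
  have hkr : ¬ 13 ∣ Nat.card π.ker := by rw [hkc2]; norm_num
  have hkp : ¬ 3 ∣ Nat.card π.ker := by rw [hkc2]; norm_num
  let R : Sylow 13 (CForm.spF F 4).iso := default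
  have hRc : Nat.card (R : Subgroup (CForm.spF F 4).iso) = 13 := by
    rw [Sylow.card_eq_multiplicity]
    have h1 : (Nat.card (CForm.spF F 4).iso).factorization 13 = 1 := by
      rw [hcard, Nat.factorization_mul (by norm_num) (by norm_num), Finsupp.add_apply,
        Nat.Prime.factorization_self h13, Nat.factorization_eq_zero_of_not_dvd (by norm_num)]
    rw [h1, pow_one]
  have hcyc : (IsCyclic (R : Subgroup (CForm.spF F 4).iso) :) := isCyclic_of_prime_card hRc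
  obtain ⟨⟨y, hyR⟩, hgen⟩ := hcyc.exists_generator
  have hyo : orderOf y = 13 := by
    have h1 := orderOf_eq_card_of_forall_mem_zpowers hgen
    rw [hRc, Subgroup.orderOf_mk] at h1
    exact h1
  have hRz : ∀ t ∈ (R : Subgroup (CForm.spF F 4).iso), t ∈ Subgroup.zpowers y := by
    intro t ht
    obtain ⟨k, hk⟩ := Subgroup.mem_zpowers_iff.1 (hgen ⟨t, ht⟩)
    exact Subgroup.mem_zpowers_iff.2 ⟨k, congrArg Subtype.val hk⟩
  have hC : Subgroup.centralizer ({y} : Set (CForm.spF F 4).iso) ≤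
      Subgroup.centralizer ((R : Subgroup (CForm.spF F 4).iso) : Set _) := by
    intro c hc
    rw [Subgroup.mem_centralizer_iff]
    intro t ht
    obtain ⟨k, rfl⟩ := Subgroup.mem_zpowers_iff.1 (hRz t ht)
    have hcy : Commute c y := Subgroup.mem_centralizer_singleton_iff.1 hc
    exact (hcy.symm.zpow_left k).eq
  have h : Med (y : (Fin 4 ⊕ Fin 4 → F) ≃ₗ[F] (Fin 4 ⊕ Fin 4 → F)) 13 :=
    ⟨h13, by rw [Subgroup.orderOf_coe]; exact hyo, by rw [hK]; norm_num⟩
  have h6 := T13.finrank_com h hK hσ hV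
  have hfix : finrank F (fixS (y : (Fin 4 ⊕ Fin 4 → F) ≃ₗ[F] (Fin 4 ⊕ Fin 4 → F))) = 2 := by
    have h1 := Submodule.finrank_add_eq_of_isCompl h.isCompl
    rw [h6, hV] at h1
    omega
  have hKC : Ky (CForm.spF F 4) y ≤ Subgroup.centralizer ((R : Subgroup (CForm.spF F 4).iso) : Set _) := by
    intro g hg
    exact hC (Subgroup.mem_centralizer_singleton_iff.2 (h.Ky_comm hg).eq)
  have hKN : ∀ g ∈ Subgroup.normalizer ((R : Subgroup (CForm.spF F 4).iso) : Set _), ∃ c ∈ Ky (CForm.spF F 4) y,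
      ∀ x ∈ Ky (CForm.spF F 4) y, g * x * g⁻¹ = c * x * c⁻¹ := by
    intro g hg
    apply h.inner
    have h1 : g * y * g⁻¹ ∈ (R : Subgroup (CForm.spF F 4).iso) := (Subgroup.mem_normalizer_iff.1 hg y).1 hyR
    obtain ⟨i, hi⟩ := mem_powers_iff_mem_zpowers.2 (hRz _ h1)
    refine ⟨i, fun hd => ?_, hi.symm⟩
    have h4 : y ^ i = 1 := by
      rw [← orderOf_dvd_iff_pow_eq_one, hyo]
      exact hd
    have h5 : y = 1 := by
      have h6 : g * y * g⁻¹ = 1 := by rw [← hi]; exact h4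
      have : y = g⁻¹ * (g * y * g⁻¹) * g := by group
      rw [this, h6]; group
    rw [h5, orderOf_one] at hyo
    exact absurd hyo (by norm_num)
  have hpK : ∀ v, Commute y v → v ∈ pSet 3 (CForm.spF F 4).iso → v ∈ Ky (CForm.spF F 4) y := by
    intro v hv hvp
    obtain ⟨j, hj⟩ := (pSet_iff Nat.prime_three).1 hvp
    exact T13.mem_Ky h hK hσ hV hv.symm hj
  have hnot : ∀ k₀ ∈ Ky (CForm.spF F 4) y, ¬ IsConj (π (y * k₀)) (π (y ^ 2 * k₀)) := fun k₀ hk₀ =>
    T13.not_conj h hK hσ hπ hker hkr hV hk₀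
  have hnd : Nat.card (Subgroup.centralizer ({y} : Set (CForm.spF F 4).iso)) ≠ 13 * Nat.card π.ker ∨
      ∃ m : ℕ, ¬ 13 ∣ m ∧ ¬ IsConj (π y) (π y ^ m) := by
    right
    refine ⟨2, by norm_num, ?_⟩
    have h1 := hnot 1 (Subgroup.one_mem _)
    rwa [mul_one, mul_one, map_pow] at h1
  have h2 : ∀ k₀ ∈ Ky (CForm.spF F 4) y, ∃ y₁ ∈ R, ∃ t₁ ∈ (Subgroup.centralizer ((R : Subgroup (CForm.spF F 4).iso) : Set _) : _),
      ∃ y₂ ∈ R, ∃ t₂ ∈ Subgroup.centralizer ((R : Subgroup (CForm.spF F 4).iso) : Set _),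
      Subgroup.centralizer ({y₁} : Set _) ≤ Subgroup.centralizer ((R : Subgroup (CForm.spF F 4).iso) : Set _) ∧
      (∀ x ∈ Ky (CForm.spF F 4) y, t₁ * x = x * t₁) ∧ ¬ 13 ∣ orderOf t₁ ∧
      Subgroup.centralizer ({y₂} : Set _) ≤ Subgroup.centralizer ((R : Subgroup (CForm.spF F 4).iso) : Set _) ∧
      (∀ x ∈ Ky (CForm.spF F 4) y, t₂ * x = x * t₂) ∧ ¬ 13 ∣ orderOf t₂ ∧
      ¬ IsConj (π (y₁ * t₁ * k₀)) (π (y₂ * t₂ * k₀)) := by
    intro k₀ hk₀
    have ho1 : ¬ 13 ∣ orderOf (1 : (CForm.spF F 4).iso) := by rw [orderOf_one]; norm_num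
    refine ⟨y, hyR, 1, Subgroup.one_mem _, y ^ 2, Subgroup.pow_mem _ hyR 2, 1, Subgroup.one_mem _, hC,
      fun x _ => by rw [one_mul, mul_one], ho1, ?_, fun x _ => by rw [one_mul, mul_one], ho1, ?_⟩
    · intro c hc
      refine hC ?_
      rw [Subgroup.mem_centralizer_singleton_iff] at hc ⊢
      have h1 : Commute c (y ^ 2) := hc
      have h2 := h1.pow_right 7
      have h3 : (y ^ 2) ^ 7 = y := by
        rw [← pow_mul, show 2 * 7 = 13 + 1 from rfl, pow_succ, ← hyo, pow_orderOf_eq_one, one_mul]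
      rw [h3] at h2
      exact h2.eq
    · rw [mul_one, mul_one]
      exact hnot k₀ hk₀
  obtain ⟨f, -, hf⟩ := tr_gen hπ hker Nat.prime_three (by norm_num : (13 : ℕ) ≠ 3) hkp hkr R hcyc hyo hyR hC hnd _
    hKC (T13.not_dvd_Ky h hK hσ hV) hKN hpK h2 hχ h0 hs
  have ho : ∀ u ∈ comS (y : (Fin 4 ⊕ Fin 4 → F) ≃ₗ[F] (Fin 4 ⊕ Fin 4 → F)),
      ∀ w ∈ fixS (y : (Fin 4 ⊕ Fin 4 → F) ≃ₗ[F] (Fin 4 ⊕ Fin 4 → F)), (CForm.spF F 4).B u w = 0 :=
    fun _ hu _ hw => B_com_fix _ hu hw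
  have hKmem : ∀ g : (CForm.spF F 4).iso, g ∈ Ky (CForm.spF F 4) y ↔
      ∀ u ∈ comS (y : (Fin 4 ⊕ Fin 4 → F) ≃ₗ[F] (Fin 4 ⊕ Fin 4 → F)),
        (g : (Fin 4 ⊕ Fin 4 → F) ≃ₗ[F] (Fin 4 ⊕ Fin 4 → F)) u = u := fun g => Iff.rfl
  rcases H845.OZ.psum_13 (CForm.spF F 4) h.isCompl ho hσ hQ0 hfix hKmem hK f with h9 | h9
  · refine ⟨9, Or.inl rfl, hf 9 ?_⟩
    rw [H845.OZ.psum] at h9
    rw [h9]
    norm_num
  · refine ⟨-3, Or.inr rfl, hf (-3) ?_⟩
    rw [H845.OZ.psum] at h9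
    rw [h9]
    norm_num

end Cfsg.Agent.H477.OZ
end

-- part: H366/OZ/SpAsm
section
/-!
# S4842: the rows `PSp₆(q)`, `q ≥ 4`, and `PSp₈(q)`, `q ≥ 3` (helper366)
-/

set_option autoImplicit false
set_option linter.unusedSectionVars false

namespace Cfsg.Agent.H366.OZ

open CoxeterSystem Cfsg Cfsg.Agent.Characters Cfsg.Agent.ChevalleyStructure.CoxeterGeom Cfsg.Agent.Tits.Roots
open Cfsg.Agent.Nodes.TypeC Cfsg.Agent.H604.OZ
open Cfsg.Agent.Nodes Cfsg.Agent.Nodes.Comb Cfsg.Agent.Nodes.Reps Cfsg.Agent.Nodes.WittRoot Cfsg.Agent.Nodes.BNOf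
open Cfsg.Agent.Nodes.WittRGD Cfsg.Agent.Nodes.WittAll Cfsg.Agent.Nodes.LeviDec
open Cfsg.Agent.TitsThree Cfsg.Agent.TitsThree.Siegel Cfsg.Agent.TitsThree.WittFrame
  Cfsg.Agent.TitsThree.WittWeyl Cfsg.Agent.TitsThree.FrameCN Cfsg.Agent.TitsThree.SpIdent
open Cfsg.Agent.H985.VZ Cfsg.Agent.H631.VZ Cfsg.Agent.H769.OZ Cfsg.Agent.H730.OZ

/-- all root groups have order `q` -/
theorem qq_sp {F : Type*} [Field F] [Finite F] {p : ℕ} [Fact p.Prime] [CharP F p] {m : ℕ}
    (hA : AmbT (frame m F) p (KInstSp.model m F).I) (i : Fin m) :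
    qq (WittModel.X (KInstSp.model m F)) i = Nat.card F := by
  by_cases h1 : (i : ℕ) + 1 < m
  · exact qq_short (KInstSp.model m F) (i := i) (j := ⟨i + 1, h1⟩) rfl hA
  · exact qq_long (F := F) (p := p) (i := i) h1 hA

/-- the value `x = 6` for `PSp₆(q)` -/
theorem false_psp3 (F : Type) [Field F] [Fintype F] (hq : 4 ≤ Fintype.card F) {p a : ℕ} (hp : p.Prime) (ha : 0 < a)
    (hF : Fintype.card F = p ^ a) (χ : PSp 3 F → ℂ) (hχ : IsIrrCharacter (PSp 3 F) χ) (hz : OneZero χ)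
    (hS : ∑ᶠ u ∈ pSet p (PSp 3 F), χ u = (p : ℂ) ^ (a * 6) * χ 1) : False := by
  have hpf : Fact p.Prime := ⟨hp⟩
  have hch : CharP F p := Cfsg.Agent.H128.OZ.charP_of hp hF
  have cs := (CoxeterMatrix.B 3).toCoxeterSystem
  have hA : AmbT (frame 3 F) p (KInstSp.model 3 F).I := AmbT.of_amb WittU.amb_Sp p
  have R := rgdC_model (KInstSp.model 3 F) hA (p0 := adm 1) one_ne_zero cs
  have hG := GG_eq (F := F) 3 (by norm_num) cs
  have hT := T_comm (F := F) 3
  have hc : Nat.card F = Fintype.card F := Nat.card_eq_fintype_card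
  obtain ⟨t, t', h1, h2, h3, h4, h5⟩ := psp_last_HD (p := p) hA cs (Or.inl rfl) (by omega) (i := (2 : Fin 3)) rfl
  obtain ⟨s, s', k1, k2, k3, k4, k5⟩ := psp_pen_HD (p := p) hA cs (Or.inr ⟨rfl, by omega⟩) (i := (1 : Fin 3)) rfl
  obtain ⟨r, hr, hr1, hr2, hr3⟩ := nd_psp (MulEquiv.refl (PSp 3 F)) (by norm_num) hp hF (by omega) (by omega)
  rw [hF] at hr1 hr2
  exact Cfsg.Agent.H639.OZ.false_three false R hp hG hT (td_sp hA) ha (fun i => by rw [qq_sp hA i, hc, hF])
    ⟨t, t', ⟨h1, h4⟩, ⟨h2, h5⟩, h3⟩ ⟨s, s', ⟨k1, k4⟩, ⟨k2, k5⟩, k3⟩ hχ hz hS ⟨r, hr, hr1, hr2, hr3 χ hχ hz⟩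

/-- the value `x = 8` for `PSp₈(q)` -/
theorem false_psp4 (F : Type) [Field F] [Fintype F] (hq : 3 ≤ Fintype.card F) {p a : ℕ} (hp : p.Prime) (ha : 0 < a)
    (hF : Fintype.card F = p ^ a) (χ : PSp 4 F → ℂ) (hχ : IsIrrCharacter (PSp 4 F) χ) (hz : OneZero χ)
    (hS : ∑ᶠ u ∈ pSet p (PSp 4 F), χ u = (p : ℂ) ^ (a * 8) * χ 1) : False := by
  have hpf : Fact p.Prime := ⟨hp⟩
  have hch : CharP F p := Cfsg.Agent.H128.OZ.charP_of hp hF
  have cs := (CoxeterMatrix.B 4).toCoxeterSystem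
  have hA : AmbT (frame 4 F) p (KInstSp.model 4 F).I := AmbT.of_amb WittU.amb_Sp p
  have R := rgdC_model (KInstSp.model 4 F) hA (p0 := adm 1) one_ne_zero cs
  have hG := GG_eq (F := F) 4 (by norm_num) cs
  have hT := T_comm (F := F) 4
  have hc : Nat.card F = Fintype.card F := Nat.card_eq_fintype_card
  obtain ⟨t, t', h1, h2, h3, h4, h5⟩ := psp_last_HD (p := p) hA cs (Or.inr rfl) (by omega) (i := (3 : Fin 4)) rfl
  obtain ⟨s, s', k1, k2, k3, k4, k5⟩ := psp_pen_HD (p := p) hA cs (Or.inl ⟨rfl, by omega⟩) (i := (2 : Fin 4)) rfl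
  obtain ⟨r, hr, hr1, hr2, hr3⟩ := nd_psp (MulEquiv.refl (PSp 4 F)) (by norm_num) hp hF (by omega) (by omega)
  rw [hF] at hr1 hr2
  exact Cfsg.Agent.H639.OZ.false_four false R hp hG hT (td_sp hA) ha (fun i => by rw [qq_sp hA i, hc, hF])
    ⟨t, t', ⟨h1, h4⟩, ⟨h2, h5⟩, h3⟩ ⟨s, s', ⟨k1, k4⟩, ⟨k2, k5⟩, k3⟩ hχ hz hS ⟨r, hr, hr1, hr2, hr3 χ hχ hz⟩

/-- **The row `PSp₆(q)`, `q ≥ 4`.** -/
theorem row_psp6 (F : Type) [Field F] [Fintype F] (hq : 4 ≤ Fintype.card F) (hs : IsSimpleGroup (PSp 3 F)) :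
    Row (PSp 3 F) := by
  obtain ⟨p, hp⟩ := CharP.exists F
  obtain ⟨a, hpp, hF⟩ := FiniteField.card F p
  exact H448.OZ.row_psp3 hs (MulEquiv.refl _) hq hpp a.pos hF
    fun χ hχ hz hS => false_psp3 F hq hpp a.pos hF χ hχ hz hS

/-- **The row `PSp₈(q)`, `q ≥ 3`.** -/
theorem row_psp8 (F : Type) [Field F] [Fintype F] (hq : 3 ≤ Fintype.card F) (hs : IsSimpleGroup (PSp 4 F)) :
    Row (PSp 4 F) := by
  obtain ⟨p, hp⟩ := CharP.exists F
  obtain ⟨a, hpp, hF⟩ := FiniteField.card F p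
  exact H448.OZ.row_psp4_of hs (MulEquiv.refl _) hq hpp a.pos hF
    (fun h => H477.OZ.cong_psp8_three (MulEquiv.refl _) h)
    fun χ hχ hz hS => false_psp4 F hq hpp a.pos hF χ hχ hz hS

end Cfsg.Agent.H366.OZ
end

-- part: H656/OZ/SpSixTwo
section
/-!
# S4842: the row `PSp₆(2)` (helper656)

`G = Sp₆(2)`, `|G| = 2⁹ 3⁴ 5 7`. Two rational classes of elements of order 8 with centralizers of order 16 (they are
distinguished by the number of vectors `v` with `(v, y v) = 0`: 24 and 40), a rational element of order 9 which is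
self-centralizing, elements of order 15 and 7. Let `χ` vanish exactly on the class of `x`, `c = |C(x)| ≥ 4`, `d = χ(1)`.
`2 ∣ d`: the excess of the two classes of order 8 is `3/16` each. `5 ∣ d`: elements of order 5 and 15 are conjugate to `x`.
`3 ∣ d`: the excess of the element of order 9 is `8/9`, so `x` is conjugate to it, `c = 9`, `d² ≡ 1 (mod 5, 7)`, `d = 3ᵇ`.
Otherwise `d = 7`, `x` has order 7, `c ≥ 7 > 5`, `7² ≡ 1 (mod 5)`.
-/

set_option autoImplicit false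
set_option linter.unusedSectionVars false

open Cfsg Matrix Cfsg.Agent.ClassicalGeometry.SympBasic
open Cfsg.Agent.H699.SpSix

namespace Cfsg.Agent.H656.OZ

/-! ### Cyclic vectors -/

/-- `p` is a cyclic vector of `y` -/
def Cyc (y : GG) (p : VV) : Prop :=
  ∀ j : Fin 3 ⊕ Fin 3, ∃ c : Fin 6 → ZMod 2, (Pi.single j 1 : VV) = ∑ i : Fin 6, c i • act (y ^ (i : ℕ)) p

theorem cyc_of {y : GG} {p : VV} (T : Fin 6 → VV) (h0 : T 0 = p) (h1 : act y (T 0) = T 1) (h2 : act y (T 1) = T 2)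
    (h3 : act y (T 2) = T 3) (h4 : act y (T 3) = T 4) (h5 : act y (T 4) = T 5)
    (hs : ∀ j : Fin 3 ⊕ Fin 3, ∃ c : Fin 6 → ZMod 2, (Pi.single j 1 : VV) = ∑ i : Fin 6, c i • T i) : Cyc y p := by
  have hp : ∀ n : ℕ, act (y ^ (n + 1)) p = act y (act (y ^ n) p) := fun n => by rw [pow_succ', act_mul]
  have e0 : act (y ^ 0) p = T 0 := by rw [pow_zero, act_one, h0]
  have e1 : act (y ^ 1) p = T 1 := by rw [hp 0, e0, h1]
  have e2 : act (y ^ 2) p = T 2 := by rw [hp 1, e1, h2]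
  have e3 : act (y ^ 3) p = T 3 := by rw [hp 2, e2, h3]
  have e4 : act (y ^ 4) p = T 4 := by rw [hp 3, e3, h4]
  have e5 : act (y ^ 5) p = T 5 := by rw [hp 4, e4, h5]
  have h : ∀ i : Fin 6, act (y ^ (i : ℕ)) p = T i := by
    intro i
    fin_cases i
    exacts [e0, e1, e2, e3, e4, e5]
  intro j
  obtain ⟨c, hc⟩ := hs j
  exact ⟨c, by rw [hc]; exact Finset.sum_congr rfl fun i _ => by rw [h i]⟩

theorem eq_of_act {y : GG} {p : VV} (hcy : Cyc y p) {a b : GG} (ha : a * y = y * a) (hb : b * y = y * b)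
    (h : act a p = act b p) : a = b := by
  have hpow : ∀ z : GG, z * y = y * z → ∀ n : ℕ, act z (act (y ^ n) p) = act (y ^ n) (act z p) := by
    intro z hz n
    have : Commute z y := hz
    rw [← act_mul, ← act_mul, (this.pow_right n).eq]
  have hs : ∀ j, act a (Pi.single j 1) = act b (Pi.single j 1) := by
    intro j
    obtain ⟨c, hc⟩ := hcy j
    rw [hc, act_sum, act_sum]
    refine Finset.sum_congr rfl fun i _ => ?_
    rw [act_smul, act_smul, hpow a ha, hpow b hb, h]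
  apply act_ext
  intro v
  have hv : v = ∑ j, v j • (Pi.single j 1 : VV) := by
    ext k
    simp [Finset.sum_apply, Pi.single_apply]
  rw [hv, act_sum, act_sum]
  exact Finset.sum_congr rfl fun j _ => by rw [act_smul, act_smul, hs]

/-- the centralizer of an element with a cyclic vector -/
theorem cent_le {y : GG} {p : VV} (hcy : Cyc y p) {B : ℕ}
    (himg : (Finset.univ.filter fun u : VV => bil u (act y u) = bil p (act y p) ∧
      bil u (act y (act y u)) = bil p (act y (act y p)) ∧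
      bil u (act y (act y (act y u))) = bil p (act y (act y (act y p)))).card ≤ B) :
    Nat.card (Subgroup.centralizer ({y} : Set GG)) ≤ B := by
  classical
  refine le_trans ?_ himg
  rw [← Fintype.card_subtype, ← Nat.card_eq_fintype_card]
  refine Nat.card_le_card_of_injective (fun x : Subgroup.centralizer ({y} : Set GG) =>
    (⟨act x.1 p, ?_⟩ : {u : VV // bil u (act y u) = bil p (act y p) ∧
      bil u (act y (act y u)) = bil p (act y (act y p)) ∧
      bil u (act y (act y (act y u))) = bil p (act y (act y (act y p)))})) ?_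
  · have hx : x.1 * y = y * x.1 := (Subgroup.mem_centralizer_singleton_iff.1 x.2)
    have h1 : ∀ v, act y (act x.1 v) = act x.1 (act y v) := fun v => by
      rw [← act_mul, ← act_mul, hx]
    refine ⟨?_, ?_, ?_⟩
    · rw [h1, bil_act]
    · rw [h1, h1, bil_act]
    · rw [h1, h1, h1, bil_act]
  · intro a b hab
    have h2 : act a.1 p = act b.1 p := congrArg Subtype.val hab
    exact Subtype.ext (eq_of_act hcy (Subgroup.mem_centralizer_singleton_iff.1 a.2)
      (Subgroup.mem_centralizer_singleton_iff.1 b.2) h2)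

/-- the number of vectors orthogonal to their image -/
noncomputable def nv (y : GG) : ℕ := Nat.card {v : VV // bil v (act y v) = 0}

theorem nv_conj {a b : GG} (h : IsConj a b) : nv a = nv b := by
  obtain ⟨c, rfl⟩ := isConj_iff.1 h
  refine Nat.card_congr ⟨fun v => ⟨act c v.1, ?_⟩, fun v => ⟨act c⁻¹ v.1, ?_⟩, fun v => ?_, fun v => ?_⟩
  · have h1 : act (c * a * c⁻¹) (act c v.1) = act c (act a v.1) := by
      rw [act_mul, act_mul, act_inv_act]
    rw [h1, bil_act]; exact v.2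
  · have h1 : act a (act c⁻¹ v.1) = act c⁻¹ (act (c * a * c⁻¹) v.1) := by
      rw [act_mul, act_mul, act_inv_act]
    rw [h1, bil_act]; exact v.2
  · exact Subtype.ext (act_inv_act c v.1)
  · exact Subtype.ext (act_act_inv c v.1)

/-! ### The elements -/

/-- order 8 -/
def ya : GG := ⟨fromBlocks !![1, 1, 1; 1, 0, 0; 1, 1, 1] !![1, 1, 0; 1, 0, 0; 1, 0, 1] !![1, 0, 1; 0, 1, 1; 0, 0, 1] !![1, 0, 1; 1, 0, 0; 0, 1, 1], by
  rw [SymplecticGroup.mem_iff]; decide +kernel⟩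
def ta3 : GG := ⟨fromBlocks !![1, 0, 0; 1, 1, 0; 0, 0, 0] !![0, 0, 0; 0, 0, 0; 0, 0, 1] !![0, 0, 0; 0, 0, 0; 0, 0, 1] !![1, 1, 0; 0, 1, 0; 0, 0, 0], by
  rw [SymplecticGroup.mem_iff]; decide +kernel⟩
def ta5 : GG := ⟨fromBlocks !![1, 1, 0; 1, 1, 1; 0, 0, 1] !![1, 1, 1; 0, 1, 0; 0, 1, 1] !![0, 1, 0; 0, 1, 0; 0, 1, 1] !![0, 0, 1; 1, 0, 1; 1, 1, 1], by
  rw [SymplecticGroup.mem_iff]; decide +kernel⟩
/-- order 8 -/
def yb : GG := ⟨fromBlocks !![0, 1, 0; 1, 0, 1; 0, 0, 1] !![1, 0, 1; 0, 0, 1; 1, 1, 0] !![0, 0, 1; 0, 0, 1; 1, 1, 0] !![1, 0, 0; 0, 1, 0; 1, 1, 1], by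
  rw [SymplecticGroup.mem_iff]; decide +kernel⟩
def tb3 : GG := ⟨fromBlocks !![1, 0, 1; 0, 1, 1; 0, 0, 1] !![1, 0, 0; 0, 1, 0; 0, 0, 0] !![0, 0, 1; 0, 0, 1; 1, 1, 0] !![1, 0, 0; 0, 1, 0; 0, 0, 1], by
  rw [SymplecticGroup.mem_iff]; decide +kernel⟩
def tb5 : GG := ⟨fromBlocks !![1, 0, 0; 0, 1, 0; 0, 0, 1] !![1, 0, 0; 0, 1, 0; 0, 0, 0] !![0, 0, 0; 0, 0, 0; 0, 0, 0] !![1, 0, 0; 0, 1, 0; 0, 0, 1], by
  rw [SymplecticGroup.mem_iff]; decide +kernel⟩
/-- order 9 -/
def yc : GG := ⟨fromBlocks !![0, 0, 0; 1, 1, 1; 0, 0, 1] !![1, 1, 0; 0, 1, 1; 0, 1, 0] !![0, 1, 1; 0, 0, 1; 1, 1, 1] !![1, 0, 1; 1, 1, 0; 0, 0, 0], by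
  rw [SymplecticGroup.mem_iff]; decide +kernel⟩
def tc2 : GG := ⟨fromBlocks !![1, 1, 1; 0, 1, 1; 0, 0, 1] !![0, 0, 1; 0, 0, 1; 0, 1, 0] !![0, 0, 0; 0, 1, 1; 0, 0, 1] !![1, 0, 0; 1, 1, 1; 0, 0, 1], by
  rw [SymplecticGroup.mem_iff]; decide +kernel⟩
/-- order 15 -/
def yd : GG := ⟨fromBlocks !![1, 0, 1; 0, 0, 0; 1, 1, 0] !![0, 1, 1; 1, 1, 1; 0, 1, 1] !![1, 1, 0; 0, 0, 1; 1, 0, 1] !![1, 0, 1; 0, 1, 1; 0, 0, 1], by
  rw [SymplecticGroup.mem_iff]; decide +kernel⟩

theorem ya_pow : ya ^ 8 = 1 := by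
  apply Subtype.ext; rw [SubmonoidClass.coe_pow]; unfold ya; (set_option synthInstance.maxSize 20000 in open scoped Cfsg.Agent.Lib.MatDec in decide +kernel)
theorem yb_pow : yb ^ 8 = 1 := by
  apply Subtype.ext; rw [SubmonoidClass.coe_pow]; unfold yb; (set_option synthInstance.maxSize 20000 in open scoped Cfsg.Agent.Lib.MatDec in decide +kernel)
theorem yc_pow : yc ^ 9 = 1 := by
  apply Subtype.ext; rw [SubmonoidClass.coe_pow]; unfold yc; (set_option synthInstance.maxSize 20000 in open scoped Cfsg.Agent.Lib.MatDec in decide +kernel)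
theorem ya_four : ya ^ 4 ≠ 1 := by
  intro h
  have h1 := congrArg Subtype.val h
  rw [SubmonoidClass.coe_pow] at h1
  revert h1
  unfold ya; decide +kernel
theorem yb_four : yb ^ 4 ≠ 1 := by
  intro h
  have h1 := congrArg Subtype.val h
  rw [SubmonoidClass.coe_pow] at h1
  revert h1
  unfold yb; decide +kernel
theorem yc_three : yc ^ 3 ≠ 1 := by
  intro h
  have h1 := congrArg Subtype.val h
  rw [SubmonoidClass.coe_pow] at h1
  revert h1
  unfold yc; decide +kernel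


/-! ### Cyclic vectors, centralizers -/

theorem cyc_ya : Cyc ya (Sum.elim ![1, 0, 0] ![0, 0, 0]) := by
  refine cyc_of (![Sum.elim ![1, 0, 0] ![0, 0, 0], Sum.elim ![1, 1, 1] ![1, 0, 0], Sum.elim ![0, 0, 0] ![1, 1, 1],
    Sum.elim ![0, 1, 0] ![0, 1, 0], Sum.elim ![0, 0, 1] ![0, 1, 1], Sum.elim ![0, 0, 0] ![0, 1, 1]] : Fin 6 → VV)
    rfl ?_ ?_ ?_ ?_ ?_ ?_
  · unfold act ya; decide +kernel
  · unfold act ya; decide +kernel
  · unfold act ya; decide +kernel
  · unfold act ya; decide +kernel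
  · unfold act ya; decide +kernel
  · decide +kernel

theorem cyc_yb : Cyc yb (Sum.elim ![0, 0, 0] ![1, 0, 0]) := by
  refine cyc_of (![Sum.elim ![0, 0, 0] ![1, 0, 0], Sum.elim ![1, 0, 1] ![1, 0, 1], Sum.elim ![0, 1, 0] ![0, 1, 1],
    Sum.elim ![0, 1, 1] ![0, 1, 1], Sum.elim ![0, 0, 0] ![1, 0, 1], Sum.elim ![0, 1, 1] ![1, 0, 0]] : Fin 6 → VV)
    rfl ?_ ?_ ?_ ?_ ?_ ?_
  · unfold act yb; decide +kernel
  · unfold act yb; decide +kernel
  · unfold act yb; decide +kernel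
  · unfold act yb; decide +kernel
  · unfold act yb; decide +kernel
  · decide +kernel

theorem cyc_yc : Cyc yc (Sum.elim ![1, 0, 0] ![0, 0, 0]) := by
  refine cyc_of (![Sum.elim ![1, 0, 0] ![0, 0, 0], Sum.elim ![0, 1, 0] ![0, 0, 1], Sum.elim ![0, 0, 0] ![0, 0, 1],
    Sum.elim ![0, 1, 0] ![1, 0, 0], Sum.elim ![1, 1, 0] ![0, 1, 1], Sum.elim ![1, 0, 1] ![0, 1, 0]] : Fin 6 → VV)
    rfl ?_ ?_ ?_ ?_ ?_ ?_
  · unfold act yc; decide +kernel
  · unfold act yc; decide +kernel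
  · unfold act yc; decide +kernel
  · unfold act yc; decide +kernel
  · unfold act yc; decide +kernel
  · decide +kernel

theorem cent_ya : Nat.card (Subgroup.centralizer ({ya} : Set GG)) ≤ 16 := by
  refine cent_le cyc_ya ?_
  unfold act ya
  decide +kernel

theorem cent_yb : Nat.card (Subgroup.centralizer ({yb} : Set GG)) ≤ 16 := by
  refine cent_le cyc_yb ?_
  unfold act yb
  decide +kernel

theorem cent_yc : Nat.card (Subgroup.centralizer ({yc} : Set GG)) ≤ 9 := by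
  refine cent_le cyc_yc ?_
  unfold act yc
  decide +kernel

theorem nv_eq (y : GG) : nv y = (Finset.univ.filter fun v : VV => bil v (act y v) = 0).card := by
  rw [nv, Nat.card_eq_fintype_card, Fintype.card_subtype]

theorem nv_ya : nv ya = 24 := by
  rw [nv_eq]; unfold act ya; decide +kernel

theorem nv_yb : nv yb = 40 := by
  rw [nv_eq]; unfold act yb; decide +kernel

theorem not_conj_ab : ¬ IsConj ya yb := fun h => by
  have := nv_conj h
  rw [nv_ya, nv_yb] at this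
  omega

/-! ### Rationality -/

theorem mat_ext {a b : GG} (h : (a : Matrix (Fin 3 ⊕ Fin 3) (Fin 3 ⊕ Fin 3) (ZMod 2)) = b) : a = b := Subtype.ext h

theorem ta3_conj : ta3 * ya = ya ^ 3 * ta3 := by
  apply mat_ext
  simp only [Submonoid.coe_mul, SubmonoidClass.coe_pow]
  unfold ta3 ya
  (set_option synthInstance.maxSize 20000 in open scoped Cfsg.Agent.Lib.MatDec in decide +kernel)
theorem ta5_conj : ta5 * ya = ya ^ 5 * ta5 := by
  apply mat_ext
  simp only [Submonoid.coe_mul, SubmonoidClass.coe_pow]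
  unfold ta5 ya
  (set_option synthInstance.maxSize 20000 in open scoped Cfsg.Agent.Lib.MatDec in decide +kernel)
theorem tb3_conj : tb3 * yb = yb ^ 3 * tb3 := by
  apply mat_ext
  simp only [Submonoid.coe_mul, SubmonoidClass.coe_pow]
  unfold tb3 yb
  (set_option synthInstance.maxSize 20000 in open scoped Cfsg.Agent.Lib.MatDec in decide +kernel)
theorem tb5_conj : tb5 * yb = yb ^ 5 * tb5 := by
  apply mat_ext
  simp only [Submonoid.coe_mul, SubmonoidClass.coe_pow]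
  unfold tb5 yb
  (set_option synthInstance.maxSize 20000 in open scoped Cfsg.Agent.Lib.MatDec in decide +kernel)
theorem tc2_conj : tc2 * yc = yc ^ 2 * tc2 := by
  apply mat_ext
  simp only [Submonoid.coe_mul, SubmonoidClass.coe_pow]
  unfold tc2 yc
  (set_option synthInstance.maxSize 20000 in open scoped Cfsg.Agent.Lib.MatDec in decide +kernel)

theorem rat_eight {G : Type*} [Group G] {y s t : G} (h8 : y ^ 8 = 1) (h3 : s * y = y ^ 3 * s) (h5 : t * y = y ^ 5 * t)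
    {k : ℕ} (hk : k % 2 = 1) : IsConj y (y ^ k) := by
  have e3 : MulAut.conj s y = y ^ 3 := by rw [MulAut.conj_apply, h3, mul_inv_cancel_right]
  have e5 : MulAut.conj t y = y ^ 5 := by rw [MulAut.conj_apply, h5, mul_inv_cancel_right]
  have h : k % 8 = 1 ∨ k % 8 = 3 ∨ k % 8 = 5 ∨ k % 8 = 7 := by (clear * - hk; solve | lia | omega)
  rw [pow_eq_pow_mod k h8]
  rcases h with h | h | h | h <;> rw [h]
  · rw [pow_one]
  · exact isConj_iff.2 ⟨s, e3⟩
  · exact isConj_iff.2 ⟨t, e5⟩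
  · refine isConj_iff.2 ⟨s * t, ?_⟩
    have h1 : MulAut.conj (s * t) y = y ^ 7 := by
      rw [map_mul, MulAut.mul_apply, e5, map_pow, e3, ← pow_mul, pow_eq_pow_mod _ h8]
    exact h1

theorem rat_nine {G : Type*} [Group G] {y t : G} (h9 : y ^ 9 = 1) (h2 : t * y = y ^ 2 * t)
    {k : ℕ} (hk : ¬ k % 3 = 0) : IsConj y (y ^ k) := by
  have e : ∀ i : ℕ, MulAut.conj (t ^ i) y = y ^ (2 ^ i) := by
    intro i
    induction i with
    | zero => simp
    | succ i ih =>
      rw [pow_succ' t, map_mul, MulAut.mul_apply, ih, map_pow, MulAut.conj_apply, h2, mul_inv_cancel_right,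
        ← pow_mul, pow_succ' 2]
  have key : ∀ i : ℕ, k % 9 = 2 ^ i % 9 → IsConj y (y ^ k) := fun i hi => by
    refine isConj_iff.2 ⟨t ^ i, ?_⟩
    rw [pow_eq_pow_mod k h9, hi, ← pow_eq_pow_mod _ h9]
    exact e i
  have h : k % 9 = 1 ∨ k % 9 = 2 ∨ k % 9 = 4 ∨ k % 9 = 8 ∨ k % 9 = 7 ∨ k % 9 = 5 := by (clear * - hk; solve | lia | omega)
  rcases h with h | h | h | h | h | h
  · exact key 0 (by rw [h]; rfl)
  · exact key 1 (by rw [h]; rfl)
  · exact key 2 (by rw [h]; rfl)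
  · exact key 3 (by rw [h]; rfl)
  · exact key 4 (by rw [h]; rfl)
  · exact key 5 (by rw [h]; rfl)

theorem card_GG : Nat.card GG = 1451520 := by
  rw [Cfsg.Agent.S0245.result (F := ZMod 2) (ZMod.card 2) 3]
  decide

theorem odd_of_coprime {k : ℕ} (hk : k.Coprime (Nat.card GG)) : k % 2 = 1 := by
  rw [card_GG] at hk
  have h : k.Coprime 2 := Nat.Coprime.coprime_dvd_right (by norm_num) hk
  have := (Nat.Prime.coprime_iff_not_dvd Nat.prime_two).1 h.symm
  omega

theorem three_of_coprime {k : ℕ} (hk : k.Coprime (Nat.card GG)) : ¬ k % 3 = 0 := by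
  rw [card_GG] at hk
  have h : k.Coprime 3 := Nat.Coprime.coprime_dvd_right (by norm_num) hk
  have := (Nat.Prime.coprime_iff_not_dvd Nat.prime_three).1 h.symm
  omega

theorem rat_ya (k : ℕ) (hk : k.Coprime (Nat.card GG)) : IsConj ya (ya ^ k) :=
  rat_eight ya_pow ta3_conj ta5_conj (odd_of_coprime hk)
theorem rat_yb (k : ℕ) (hk : k.Coprime (Nat.card GG)) : IsConj yb (yb ^ k) :=
  rat_eight yb_pow tb3_conj tb5_conj (odd_of_coprime hk)
theorem rat_yc (k : ℕ) (hk : k.Coprime (Nat.card GG)) : IsConj yc (yc ^ k) :=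
  rat_nine yc_pow tc2_conj (three_of_coprime hk)

/-! ### Orders -/

theorem orderOf_ya : orderOf ya = 8 := orderOf_eq_prime_pow (p := 2) (n := 2) ya_four ya_pow
theorem orderOf_yb : orderOf yb = 8 := orderOf_eq_prime_pow (p := 2) (n := 2) yb_four yb_pow
theorem orderOf_yc : orderOf yc = 9 := orderOf_eq_prime_pow (p := 3) (n := 1) (by simpa only [_root_.pow_one, _root_.ne_eq] using yc_three) yc_pow

theorem dvd_cent {G : Type*} [Group G] [Finite G] {x : G} :
    orderOf x ∣ Nat.card (Subgroup.centralizer ({x} : Set G)) := by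
  rw [← Nat.card_zpowers]
  exact Subgroup.card_dvd_of_le (by rw [Subgroup.zpowers_le, Subgroup.mem_centralizer_singleton_iff])

theorem orderOf_g7 : orderOf g7 = 7 := by
  have : Fact (Nat.Prime 7) := ⟨by norm_num⟩
  exact orderOf_eq_prime g7_pow g7_ne

theorem yd_pow : yd ^ 15 = 1 := by
  apply Subtype.ext; rw [SubmonoidClass.coe_pow]; unfold yd; (set_option synthInstance.maxSize 20000 in open scoped Cfsg.Agent.Lib.MatDec in decide +kernel)
theorem yd_three : yd ^ 3 ≠ 1 := by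
  intro h
  have h1 := congrArg Subtype.val h
  rw [SubmonoidClass.coe_pow] at h1
  revert h1
  unfold yd; decide +kernel
theorem yd_five : yd ^ 5 ≠ 1 := by
  intro h
  have h1 := congrArg Subtype.val h
  rw [SubmonoidClass.coe_pow] at h1
  revert h1
  unfold yd; decide +kernel

theorem orderOf_yd3 : orderOf (yd ^ 3) = 5 := by
  have : Fact (Nat.Prime 5) := ⟨by norm_num⟩
  exact orderOf_eq_prime (by rw [← pow_mul]; exact yd_pow) yd_three

theorem orderOf_yd5 : orderOf (yd ^ 5) = 3 := by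
  have : Fact (Nat.Prime 3) := ⟨by norm_num⟩
  exact orderOf_eq_prime (by rw [← pow_mul]; exact yd_pow) yd_five

theorem dvd_yd : 15 ∣ orderOf yd := by
  have h5 : 5 ∣ orderOf yd := by
    have := orderOf_pow_dvd (x := yd) 3
    rwa [orderOf_yd3] at this
  have h3 : 3 ∣ orderOf yd := by
    have := orderOf_pow_dvd (x := yd) 5
    rwa [orderOf_yd5] at this
  exact Nat.Coprime.mul_dvd_of_dvd_of_dvd (m := 3) (n := 5) (by decide) h3 h5

/-! ### The row -/

section main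

open Cfsg.Agent.H732.VZ Cfsg.Agent.H30.OZ

theorem cent_ge {x y : GG} (h : IsConj x y) {n : ℕ} (hn : orderOf y = n) :
    n ≤ Nat.card (Subgroup.centralizer ({x} : Set GG)) := by
  have h1 := dvd_cent (x := x)
  rw [H604.OZ.orderOf_eq_of_conj h, hn] at h1
  exact Nat.le_of_dvd Nat.card_pos h1

theorem none_GG {χ : IrrCharacter GG} {x : GG} (h : _root_.Cfsg.Agent.H732.VZ.One χ x) : False := by
  classical
  have hN := card_GG
  have hc4 : 4 ≤ Nat.card (Subgroup.centralizer ({x} : Set GG)) :=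
    H604.OZ.four_le_cent h (by rw [hN]; norm_num) (by rw [hN]; norm_num)
  have hd1 := H604.OZ.one_lt_deg h
  have hdN := H604.OZ.deg_dvd χ
  have hN5 : (5 : ℕ) ^ 1 ∣ Nat.card GG := by rw [hN]; norm_num
  have hN5' : ¬ (5 : ℕ) ^ (1 + 1) ∣ Nat.card GG := by rw [hN]; norm_num
  have hN7 : (7 : ℕ) ^ 1 ∣ Nat.card GG := by rw [hN]; norm_num
  have hN7' : ¬ (7 : ℕ) ^ (1 + 1) ∣ Nat.card GG := by rw [hN]; norm_num
  have p5 : Nat.Prime 5 := by norm_num
  have p7 : Nat.Prime 7 := by norm_num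
  -- the degree is odd
  have h2 : ¬ 2 ∣ charDegree (χ : GG → ℂ) := by
    intro h2
    have Ia := isIntegral_div_of_elt rat_ya Nat.prime_two (k := 3) ya_pow h2
    have Ib := isIntegral_div_of_elt rat_yb Nat.prime_two (k := 3) yb_pow h2
    by_cases hxa : IsConj x ya
    · have hxb : ¬ IsConj x yb := fun hb => not_conj_ab (hxa.symm.trans hb)
      exact (_root_.Cfsg.Agent.H30.OZ.ex_rat rat_yb (ne_of_one h hxb) (n := 2) (by norm_num) Ib cent_yb).false h
        (cent_ge hxa orderOf_ya) (by norm_num) (by norm_num)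
    · have Ea := _root_.Cfsg.Agent.H30.OZ.ex_rat rat_ya (ne_of_one h hxa) (n := 2) (by norm_num) Ia cent_ya
      by_cases hxb : IsConj x yb
      · exact Ea.false h (cent_ge hxb orderOf_yb) (by norm_num) (by norm_num)
      · have Eb := _root_.Cfsg.Agent.H30.OZ.ex_rat rat_yb (ne_of_one h hxb) (n := 2) (by norm_num) Ib cent_yb
        exact (Ea.union Eb (disj_cls not_conj_ab)).false h hc4 (by norm_num) (by norm_num)
  have hd : charDegree (χ : GG → ℂ) ∣ 2835 := by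
    have h1 : (charDegree (χ : GG → ℂ)).Coprime (2 ^ 9) :=
      Nat.Coprime.pow_right _ ((Nat.Prime.coprime_iff_not_dvd Nat.prime_two).2 h2).symm
    refine h1.dvd_of_dvd_mul_left ?_
    rw [hN] at hdN
    exact hdN
  -- prime to 5
  have h5 : ¬ 5 ∣ charDegree (χ : GG → ℂ) := by
    intro h5
    have h5' : 5 ^ 1 ∣ charDegree (χ : GG → ℂ) := by rwa [pow_one]
    have e1 := H604.OZ.conj_of_singular h p5 hN5 hN5' h5' (g := yd ^ 3) (by rw [orderOf_yd3])
    have e2 := H604.OZ.conj_of_singular h p5 hN5 hN5' h5' (g := yd) ((by norm_num : 5 ∣ 15).trans dvd_yd)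
    have e3 := H604.OZ.orderOf_eq_of_conj (e1.symm.trans e2)
    rw [orderOf_yd3] at e3
    have e4 := dvd_yd
    rw [← e3] at e4
    omega
  -- prime to 3
  have h3 : ¬ 3 ∣ charDegree (χ : GG → ℂ) := by
    intro h3
    by_cases hx : IsConj x yc
    · have hc : 9 ≤ Nat.card (Subgroup.centralizer ({x} : Set GG)) := cent_ge hx orderOf_yc
      have e5 := H733.OZ.pow_dvd h p5 hN5 hN5' (lt_of_lt_of_le (by norm_num) hc)
      have e7 := H733.OZ.pow_dvd h p7 hN7 hN7' (lt_of_lt_of_le (by norm_num) hc)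
      have key : ∀ d ∈ Nat.divisors 2835, ¬ 5 ∣ d → 5 ∣ d ^ 2 - 1 → 7 ∣ d ^ 2 - 1 → d ≤ 1 := by
        decide +kernel
      have := key _ (Nat.mem_divisors.2 ⟨hd, by norm_num⟩) h5 (by simpa only [_root_.pow_one] using e5) (by simpa only [_root_.pow_one] using e7)
      omega
    · have Ic := isIntegral_div_of_elt rat_yc Nat.prime_three (k := 2) yc_pow h3
      exact (_root_.Cfsg.Agent.H30.OZ.ex_rat rat_yc (ne_of_one h hx) (n := 3) (by norm_num) Ic cent_yc).false h hc4 (by norm_num)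
        (by norm_num)
  have key : ∀ d ∈ Nat.divisors 2835, ¬ 5 ∣ d → ¬ 3 ∣ d → d = 1 ∨ d = 7 := by
    decide +kernel
  rcases key _ (Nat.mem_divisors.2 ⟨hd, by norm_num⟩) h5 h3 with h1 | h7
  · omega
  have e1 := H604.OZ.conj_of_singular h p7 hN7 hN7' (by rw [h7]; norm_num) (g := g7) (by rw [orderOf_g7])
  have hc : 7 ≤ Nat.card (Subgroup.centralizer ({x} : Set GG)) := cent_ge e1 orderOf_g7
  have e5 := H733.OZ.pow_dvd h p5 hN5 hN5' (lt_of_lt_of_le (by norm_num) hc)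
  rw [h7] at e5
  revert e5
  norm_num

end main

theorem row_GG : H730.OZ.Row GG := H604.OZ.row_of fun _ _ h => none_GG h

universe u

/-- **S4842, the row `PSp₆(2)`.** -/
theorem row_psp62 {S : Type u} [Group S] [Finite S] {F : Type} [Field F] [Fintype F] (hF : Fintype.card F = 2)
    (e : S ≃* PSp 3 F) : H730.OZ.Row S := by
  obtain ⟨e1⟩ := exists_equiv hF
  let e2 : Matrix.symplecticGroup (Fin 3) F ≃* PSp 3 F :=
    MulEquiv.ofBijective _ (center_quot_bijective hF (by norm_num))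
  exact H730.OZ.Row.congr ((e.trans e2.symm).trans e1) row_GG

end Cfsg.Agent.H656.OZ
end

-- part: H366/OZ/SpFinal
section
/-!
# S4842: the family `IsPSp` (helper366)
-/

set_option autoImplicit false

open Cfsg

namespace Cfsg.Agent.H366.OZ

universe u

/-- **The symplectic groups.** -/
theorem row_isPSp {S : Type u} [Group S] [Finite S] (hs : IsSimpleGroup S) (h : IsPSp S) : Cfsg.Agent.H730.OZ.Row S := by
  refine row_isPSp_of (pspRows_of row_psp6 (fun F _ _ hF _ => ?_) row_psp8 (fun F _ _ hF hs' => ?_)) hs h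
  · have : Finite (PSp 3 F) := inferInstance
    exact Cfsg.Agent.H656.OZ.row_psp62 hF (MulEquiv.refl _)
  · have : Finite (PSp 6 F) := inferInstance
    exact Cfsg.Agent.H348.OZ.row_psp12_two hs' hF ⟨MulEquiv.refl _⟩

end Cfsg.Agent.H366.OZ
end

-- part: H328/OZ/SevenData
section
/-!
# Isometries of order 7 and 13 in dimension seven over the field with three elements (helper328, S4842)

The form is `x₀² + ∑ xᵢ yᵢ`. `a7`, `a13`: isometries with a cyclic vector; `a7T`, `a13T`: the images of the cyclic vector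
under commuting isometries (56 and 52 vectors); `ff`: a product of six reflections commuting with `a7`.
-/

set_option autoImplicit false
set_option maxRecDepth 100000

open Matrix

namespace Cfsg.Agent.H328.OZ.SevenData

/-- the index type -/
abbrev I := Unit ⊕ (Fin 3 ⊕ Fin 3)

/-- the matrices -/
abbrev M7 := Matrix I I (ZMod 3)

/-- a vector -/
def vec (a b c d e f g : ZMod 3) : I → ZMod 3 := Sum.elim (fun _ => a) (Sum.elim ![b, c, d] ![e, f, g])

/-- a matrix from its rows -/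
def mat (a b c d e f g : I → ZMod 3) : M7 := Matrix.of (Sum.elim (fun _ => a) (Sum.elim ![b, c, d] ![e, f, g]))

/-- the coordinates -/
abbrev T7 : Type := ZMod 3 × ZMod 3 × ZMod 3 × ZMod 3 × ZMod 3 × ZMod 3 × ZMod 3

/-- the vector with given coordinates -/
def vec7 (a : T7) : I → ZMod 3 := vec a.1 a.2.1 a.2.2.1 a.2.2.2.1 a.2.2.2.2.1 a.2.2.2.2.2.1 a.2.2.2.2.2.2

/-- the coordinates of a vector -/
def co7 (b : I → ZMod 3) : T7 :=
  (b (.inl ()), b (.inr (.inl 0)), b (.inr (.inl 1)), b (.inr (.inl 2)), b (.inr (.inr 0)), b (.inr (.inr 1)),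
    b (.inr (.inr 2)))

theorem vec_co7 (b : I → ZMod 3) : vec7 (co7 b) = b := by
  funext i
  rcases i with ⟨⟩ | i | i
  · rfl
  · fin_cases i <;> rfl
  · fin_cases i <;> rfl

theorem co7_inj : Function.Injective co7 := fun a b h => by
  rw [← vec_co7 a, ← vec_co7 b, h]

/-- the sum over the residues -/
def sdS (g : ℕ → ℕ) : ℕ := g 0 + g 1 + g 2

theorem sdSum (g : ℕ → ℕ) : ∑ x : ZMod 3, g x.val = sdS g := Fin.sum_univ_three fun x : ZMod 3 => g x.val

/-- the number of solutions of a condition on the coordinates -/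
def sdC (p : ℕ → ℕ → ℕ → ℕ → ℕ → ℕ → ℕ → Bool) : ℕ :=
  sdS fun a => sdS fun b => sdS fun c => sdS fun d => sdS fun e => sdS fun f => sdS fun g => bif p a b c d e f g then 1 else 0

theorem sdCard (P : T7 → Prop) [DecidablePred P] (p : ℕ → ℕ → ℕ → ℕ → ℕ → ℕ → ℕ → Bool)
    (h : ∀ a : T7, P a ↔ p a.1.val a.2.1.val a.2.2.1.val a.2.2.2.1.val a.2.2.2.2.1.val a.2.2.2.2.2.1.val
      a.2.2.2.2.2.2.val = true) : (Finset.univ.filter P).card = sdC p := by
  rw [Finset.card_filter]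
  have h1 : ∀ a : T7, (if P a then 1 else 0 : ℕ) = bif p a.1.val a.2.1.val a.2.2.1.val a.2.2.2.1.val a.2.2.2.2.1.val
      a.2.2.2.2.2.1.val a.2.2.2.2.2.2.val then 1 else 0 := by
    intro a
    rw [Bool.cond_eq_ite]
    exact if_congr (h a) rfl rfl
  rw [Finset.sum_congr rfl fun a _ => h1 a]
  simp only [Fintype.sum_prod_type]
  unfold sdC
  rw [← sdSum]; refine Finset.sum_congr rfl fun a _ => ?_
  rw [← sdSum]; refine Finset.sum_congr rfl fun b _ => ?_
  rw [← sdSum]; refine Finset.sum_congr rfl fun c _ => ?_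
  rw [← sdSum]; refine Finset.sum_congr rfl fun d _ => ?_
  rw [← sdSum]; refine Finset.sum_congr rfl fun e _ => ?_
  rw [← sdSum]; refine Finset.sum_congr rfl fun f _ => ?_
  rw [← sdSum]

theorem sdDot (a b c d e f g a' b' c' d' e' f' g' : ZMod 3) : vec a b c d e f g ⬝ᵥ vec a' b' c' d' e' f' g' =
    a * a' + b * b' + c * c' + d * d' + e * e' + f * f' + g * g' := by
  simp only [vec, dotProduct, Fin.sum_univ_three, _root_.Fintype.sum_sum_type, _root_.Finset.univ_unique, _root_.PUnit.default_eq_unit, _root_.Sum.elim_inl, _root_.Finset.sum_const, _root_.Finset.card_singleton, _root_.one_smul, _root_.Sum.elim_inr, _root_.Fin.isValue, _root_.Matrix.cons_val_zero, _root_.Matrix.cons_val_one, _root_.Matrix.cons_val]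
  ring

theorem sdMul (a b c d e f g v : I → ZMod 3) : mat a b c d e f g *ᵥ v =
    vec (a ⬝ᵥ v) (b ⬝ᵥ v) (c ⬝ᵥ v) (d ⬝ᵥ v) (e ⬝ᵥ v) (f ⬝ᵥ v) (g ⬝ᵥ v) := by
  funext i
  rcases i with ⟨⟩ | i | i
  · rfl
  · fin_cases i <;> rfl
  · fin_cases i <;> rfl

theorem sdCast (n k : ℕ) (hk : k < 3) : ((n : ℕ) : ZMod 3) = ((k : ℕ) : ZMod 3) ↔ (n % 3 == k) = true := by
  rw [ZMod.natCast_eq_natCast_iff', beq_iff_eq, Nat.mod_eq_of_lt hk]

/-- the Gram matrix -/
def Gm : M7 := mat (vec 2 0 0 0 0 0 0) (vec 0 0 0 0 1 0 0) (vec 0 0 0 0 0 1 0) (vec 0 0 0 0 0 0 1)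
  (vec 0 1 0 0 0 0 0) (vec 0 0 1 0 0 0 0) (vec 0 0 0 1 0 0 0)

/-- an element of order 7 -/
def a7 : M7 := mat (vec 1 0 0 2 0 0 0) (vec 0 1 1 0 0 0 0) (vec 1 0 0 1 0 0 2) (vec 0 2 2 0 2 1 0) (vec 0 0 1 0 1 0 0) (vec 0 0 0 2 0 0 0) (vec 0 0 1 0 0 0 0)

/-- its inverse -/
def a7i : M7 := mat (vec 1 0 0 0 0 2 0) (vec 0 1 0 0 0 0 2) (vec 0 0 0 0 0 0 1) (vec 0 0 0 0 0 2 0) (vec 0 0 0 0 1 0 2) (vec 0 1 0 1 1 0 2) (vec 1 0 2 0 0 1 0)

/-- the cyclic basis -/
def a7E : M7 := mat (vec 0 0 1 2 1 2 0) (vec 0 0 0 2 2 0 0) (vec 0 0 2 0 1 0 0) (vec 0 2 2 1 2 2 0) (vec 1 1 1 0 0 1 1) (vec 0 0 1 1 2 1 1) (vec 0 0 0 2 0 1 0)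

/-- the inverse -/
def a7Ei : M7 := mat (vec 0 2 2 1 1 2 1) (vec 1 1 2 2 0 0 0) (vec 1 1 0 0 0 0 1) (vec 2 1 2 0 0 0 2) (vec 1 1 1 0 0 0 1) (vec 2 1 2 0 0 0 0) (vec 2 1 0 0 0 1 1)

/-- the form `(x, z ^ 1 y)` -/
def a7M1 : M7 := mat (vec 2 0 0 1 0 0 0) (vec 0 0 1 0 1 0 0) (vec 0 0 0 2 0 0 0) (vec 0 0 1 0 0 0 0) (vec 0 1 1 0 0 0 0) (vec 1 0 0 1 0 0 2) (vec 0 2 2 0 2 1 0)

/-- the form `(x, z ^ 2 y)` -/
def a7M2 : M7 := mat (vec 2 2 2 1 2 1 0) (vec 1 0 1 1 1 0 2) (vec 0 1 1 0 1 2 0) (vec 1 0 0 1 0 0 2) (vec 1 1 1 1 0 0 2) (vec 1 2 1 2 2 1 0) (vec 2 2 1 1 2 0 1)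

/-- the form `(x, z ^ 3 y)` -/
def a7M3 : M7 := mat (vec 1 1 0 2 1 1 1) (vec 2 2 2 0 0 1 2) (vec 1 1 2 2 1 0 2) (vec 1 2 1 2 2 1 0) (vec 2 0 2 0 2 1 2) (vec 2 0 2 2 0 2 2) (vec 0 1 1 2 1 1 2)

/-- the power 2 -/
def a7P2 : M7 := mat (vec 1 1 1 2 1 2 0) (vec 1 1 1 1 0 0 2) (vec 1 2 1 2 2 1 0) (vec 2 2 1 1 2 0 1) (vec 1 0 1 1 1 0 2) (vec 0 1 1 0 1 2 0) (vec 1 0 0 1 0 0 2)

/-- the power 4 -/
def a7P4 : M7 := mat (vec 2 1 2 2 1 1 0) (vec 1 0 1 2 2 0 1) (vec 1 1 0 1 1 2 1) (vec 1 2 2 0 2 2 2) (vec 1 2 1 2 0 0 1) (vec 0 2 2 1 2 2 1) (vec 2 0 2 2 0 2 2)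

/-- the power 6 -/
def a7P6 : M7 := mat (vec 1 0 0 0 0 2 0) (vec 0 1 0 0 0 0 2) (vec 0 0 0 0 0 0 1) (vec 0 0 0 0 0 2 0) (vec 0 0 0 0 1 0 2) (vec 0 1 0 1 1 0 2) (vec 1 0 2 0 0 1 0)

theorem a7_inv : a7 * a7i = 1 := by decide +kernel

theorem a7_inv' : a7i * a7 = 1 := by decide +kernel

theorem a7_gram : a7ᵀ * (Gm * a7) = Gm := by decide +kernel

theorem a7_E : a7E * a7Ei = 1 := by decide +kernel

theorem a7_M1 : Gm * a7 = a7M1 := by decide +kernel

theorem a7_M2 : a7M1 * a7 = a7M2 := by decide +kernel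

theorem a7_M3 : a7M2 * a7 = a7M3 := by decide +kernel

theorem a7_P2 : a7 * a7 = a7P2 := by decide +kernel

theorem a7_P4 : a7P2 * a7P2 = a7P4 := by decide +kernel

theorem a7_P6 : a7P4 * a7P2 = a7P6 := by decide +kernel

theorem a7_P7 : a7P6 * a7 = 1 := by decide +kernel

theorem a7_pow : a7 ^ 7 = 1 := by
  have h2 : a7 ^ 2 = a7P2 := by rw [pow_two, a7_P2]
  have h4 : a7 ^ 4 = a7P4 := by rw [show (4 : ℕ) = 2 + 2 from rfl, pow_add, h2, a7_P4]
  have h6 : a7 ^ 6 = a7P6 := by rw [show (6 : ℕ) = 4 + 2 from rfl, pow_add, h4, h2, a7_P6]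
  rw [show (7 : ℕ) = 6 + 1 from rfl, pow_add, h6, pow_one, a7_P7]

/-- the cyclic vector -/
def a7v : I → ZMod 3 := vec 0 0 0 0 1 0 0

/-- the vectors with the same products -/
def a7T : Finset T7 := Finset.univ.filter fun a =>
  vec7 a ⬝ᵥ (Gm *ᵥ vec7 a) = 0 ∧ vec7 a ⬝ᵥ (a7M1 *ᵥ vec7 a) = 0 ∧
    vec7 a ⬝ᵥ (a7M2 *ᵥ vec7 a) = 0 ∧ vec7 a ⬝ᵥ (a7M3 *ᵥ vec7 a) = 2

/-- the form `Gm` -/
def sdN0 (a b c d e f g : ℕ) : ℕ :=
  2 * a * a + 2 * b * e + 2 * c * f + 2 * d * g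

theorem sdN0_eq (x : T7) : vec7 x ⬝ᵥ (Gm *ᵥ vec7 x) =
    ((sdN0 x.1.val x.2.1.val x.2.2.1.val x.2.2.2.1.val x.2.2.2.2.1.val x.2.2.2.2.2.1.val x.2.2.2.2.2.2.val : ℕ) : ZMod 3) := by
  obtain ⟨a, b, c, d, e, f, g⟩ := x
  simp only [sdN0, Gm, vec7, sdMul, sdDot, Nat.cast_add, Nat.cast_mul, ZMod.natCast_zmod_val, Nat.cast_ofNat]
  ring

/-- the form `a7M1` -/
def a7N1 (a b c d e f g : ℕ) : ℕ :=
  2 * a * a + a * d + a * f + b * c + 2 * b * e + 2 * b * g + 3 * c * d + c * e + 2 * c * g + d * f + 2 * e * g + 3 * f * g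

theorem a7N1_eq (x : T7) : vec7 x ⬝ᵥ (a7M1 *ᵥ vec7 x) =
    ((a7N1 x.1.val x.2.1.val x.2.2.1.val x.2.2.2.1.val x.2.2.2.2.1.val x.2.2.2.2.2.1.val x.2.2.2.2.2.2.val : ℕ) : ZMod 3) := by
  obtain ⟨a, b, c, d, e, f, g⟩ := x
  simp only [a7N1, a7M1, vec7, sdMul, sdDot, Nat.cast_add, Nat.cast_mul, ZMod.natCast_zmod_val, Nat.cast_ofNat]
  ring

/-- the form `a7M2` -/
def a7N2 (a b c d e f g : ℕ) : ℕ :=
  2 * a * a + 3 * a * b + 2 * a * c + 2 * a * d + 3 * a * e + 2 * a * f + 2 * a * g + 2 * b * c + b * d + 2 * b * e + 2 * b * f + 4 * b * g + c * c + 2 * c * e + 3 * c * f + c * g + d * d + d * e + 2 * d * f + 3 * d * g + 2 * e * f + 4 * e * g + f * f + g * g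

theorem a7N2_eq (x : T7) : vec7 x ⬝ᵥ (a7M2 *ᵥ vec7 x) =
    ((a7N2 x.1.val x.2.1.val x.2.2.1.val x.2.2.2.1.val x.2.2.2.2.1.val x.2.2.2.2.2.1.val x.2.2.2.2.2.2.val : ℕ) : ZMod 3) := by
  obtain ⟨a, b, c, d, e, f, g⟩ := x
  simp only [a7N2, a7M2, vec7, sdMul, sdDot, Nat.cast_add, Nat.cast_mul, ZMod.natCast_zmod_val, Nat.cast_ofNat]
  ring

/-- the form `a7M3` -/
def a7N3 (a b c d e f g : ℕ) : ℕ :=
  a * a + 3 * a * b + a * c + 3 * a * d + 3 * a * e + 3 * a * f + a * g + 2 * b * b + 3 * b * c + 2 * b * d + b * f + 3 * b * g + 2 * c * c + 3 * c * d + 3 * c * e + 2 * c * f + 3 * c * g + 2 * d * d + 2 * d * e + 3 * d * f + 2 * d * g + 2 * e * e + e * f + 3 * e * g + 2 * f * f + 3 * f * g + 2 * g * g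

theorem a7N3_eq (x : T7) : vec7 x ⬝ᵥ (a7M3 *ᵥ vec7 x) =
    ((a7N3 x.1.val x.2.1.val x.2.2.1.val x.2.2.2.1.val x.2.2.2.2.1.val x.2.2.2.2.2.1.val x.2.2.2.2.2.2.val : ℕ) : ZMod 3) := by
  obtain ⟨a, b, c, d, e, f, g⟩ := x
  simp only [a7N3, a7M3, vec7, sdMul, sdDot, Nat.cast_add, Nat.cast_mul, ZMod.natCast_zmod_val, Nat.cast_ofNat]
  ring

/-- the four conditions -/
def a7Test (a b c d e f g : ℕ) : Bool :=
  (sdN0 a b c d e f g % 3 == 0) && ((a7N1 a b c d e f g % 3 == 0) &&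
    ((a7N2 a b c d e f g % 3 == 0) && (a7N3 a b c d e f g % 3 == 2)))

theorem a7_count : sdC a7Test = 56 := by decide +kernel

theorem a7_card : a7T.card = 56 := by
  rw [← a7_count]
  refine sdCard _ _ fun x => ?_
  rw [sdN0_eq, a7N1_eq, a7N2_eq, a7N3_eq]
  simp only [a7Test, Bool.and_eq_true, ← sdCast _ _ (by norm_num : 0 < 3), ← sdCast _ _ (by norm_num : 2 < 3)]
  push_cast
  rfl

theorem a7_v0 : a7v ⬝ᵥ (Gm *ᵥ a7v) = 0 := by decide +kernel

theorem a7_v1 : a7v ⬝ᵥ (a7M1 *ᵥ a7v) = 0 := by decide +kernel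

theorem a7_v2 : a7v ⬝ᵥ (a7M2 *ᵥ a7v) = 0 := by decide +kernel

theorem a7_v3 : a7v ⬝ᵥ (a7M3 *ᵥ a7v) = 2 := by decide +kernel

theorem a7_col0 : (fun i => a7E i (Sum.inl ())) = a7v := by decide +kernel

theorem a7_col1 : (fun i => a7E i (Sum.inr (Sum.inl 0))) = a7 *ᵥ (fun i => a7E i (Sum.inl ())) := by decide +kernel

theorem a7_col2 : (fun i => a7E i (Sum.inr (Sum.inl 1))) = a7 *ᵥ (fun i => a7E i (Sum.inr (Sum.inl 0))) := by decide +kernel

theorem a7_col3 : (fun i => a7E i (Sum.inr (Sum.inl 2))) = a7 *ᵥ (fun i => a7E i (Sum.inr (Sum.inl 1))) := by decide +kernel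

theorem a7_col4 : (fun i => a7E i (Sum.inr (Sum.inr 0))) = a7 *ᵥ (fun i => a7E i (Sum.inr (Sum.inl 2))) := by decide +kernel

theorem a7_col5 : (fun i => a7E i (Sum.inr (Sum.inr 1))) = a7 *ᵥ (fun i => a7E i (Sum.inr (Sum.inr 0))) := by decide +kernel

theorem a7_col6 : (fun i => a7E i (Sum.inr (Sum.inr 2))) = a7 *ᵥ (fun i => a7E i (Sum.inr (Sum.inr 1))) := by decide +kernel

theorem a7_col (j : I) : ∃ n : ℕ, (fun i => a7E i j) = a7 ^ n *ᵥ a7v := by
  have h0 : (fun i => a7E i (Sum.inl ())) = a7 ^ 0 *ᵥ a7v := by rw [pow_zero, one_mulVec, a7_col0]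
  have h1 : (fun i => a7E i (Sum.inr (Sum.inl 0))) = a7 ^ 1 *ᵥ a7v := by
    rw [a7_col1, h0, mulVec_mulVec, ← pow_succ']
  have h2 : (fun i => a7E i (Sum.inr (Sum.inl 1))) = a7 ^ 2 *ᵥ a7v := by
    rw [a7_col2, h1, mulVec_mulVec, ← pow_succ']
  have h3 : (fun i => a7E i (Sum.inr (Sum.inl 2))) = a7 ^ 3 *ᵥ a7v := by
    rw [a7_col3, h2, mulVec_mulVec, ← pow_succ']
  have h4 : (fun i => a7E i (Sum.inr (Sum.inr 0))) = a7 ^ 4 *ᵥ a7v := by
    rw [a7_col4, h3, mulVec_mulVec, ← pow_succ']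
  have h5 : (fun i => a7E i (Sum.inr (Sum.inr 1))) = a7 ^ 5 *ᵥ a7v := by
    rw [a7_col5, h4, mulVec_mulVec, ← pow_succ']
  have h6 : (fun i => a7E i (Sum.inr (Sum.inr 2))) = a7 ^ 6 *ᵥ a7v := by
    rw [a7_col6, h5, mulVec_mulVec, ← pow_succ']
  rcases j with ⟨⟩ | j | j
  · exact ⟨0, h0⟩
  · fin_cases j
    · exact ⟨1, h1⟩
    · exact ⟨2, h2⟩
    · exact ⟨3, h3⟩
  · fin_cases j
    · exact ⟨4, h4⟩
    · exact ⟨5, h5⟩
    · exact ⟨6, h6⟩

/-- an element of order 13 -/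
def a13 : M7 := mat (vec 1 0 0 0 0 0 0) (vec 0 0 0 1 0 0 0) (vec 0 1 0 2 0 0 0) (vec 0 0 1 2 0 0 0) (vec 0 0 0 0 1 1 1) (vec 0 0 0 0 1 0 0) (vec 0 0 0 0 0 1 0)

/-- its inverse -/
def a13i : M7 := mat (vec 1 0 0 0 0 0 0) (vec 0 1 1 0 0 0 0) (vec 0 1 0 1 0 0 0) (vec 0 1 0 0 0 0 0) (vec 0 0 0 0 0 1 0) (vec 0 0 0 0 0 0 1) (vec 0 0 0 0 1 2 2)

/-- the cyclic basis -/
def a13E : M7 := mat (vec 1 1 1 1 1 1 1) (vec 0 1 2 0 2 0 1) (vec 0 2 2 2 1 2 2) (vec 1 2 0 2 0 1 1) (vec 0 1 2 0 0 2 2) (vec 1 0 1 2 0 0 2) (vec 0 1 0 1 2 0 0)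

/-- the inverse -/
def a13Ei : M7 := mat (vec 2 2 0 0 2 2 0) (vec 0 0 2 0 1 0 2) (vec 1 0 0 2 0 0 1) (vec 1 2 0 0 1 2 2) (vec 1 2 2 0 2 2 0) (vec 0 0 2 2 2 1 2) (vec 2 0 0 2 1 2 2)

/-- the form `(x, z ^ 1 y)` -/
def a13M1 : M7 := mat (vec 2 0 0 0 0 0 0) (vec 0 0 0 0 1 1 1) (vec 0 0 0 0 1 0 0) (vec 0 0 0 0 0 1 0) (vec 0 0 0 1 0 0 0) (vec 0 1 0 2 0 0 0) (vec 0 0 1 2 0 0 0)

/-- the form `(x, z ^ 2 y)` -/
def a13M2 : M7 := mat (vec 2 0 0 0 0 0 0) (vec 0 0 0 0 2 2 1) (vec 0 0 0 0 1 1 1) (vec 0 0 0 0 1 0 0) (vec 0 0 1 2 0 0 0) (vec 0 0 2 2 0 0 0) (vec 0 1 2 0 0 0 0)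

/-- the form `(x, z ^ 3 y)` -/
def a13M3 : M7 := mat (vec 2 0 0 0 0 0 0) (vec 0 0 0 0 1 0 2) (vec 0 0 0 0 2 2 1) (vec 0 0 0 0 1 1 1) (vec 0 1 2 0 0 0 0) (vec 0 2 2 2 0 0 0) (vec 0 2 0 2 0 0 0)

/-- the power 2 -/
def a13P2 : M7 := mat (vec 1 0 0 0 0 0 0) (vec 0 0 1 2 0 0 0) (vec 0 0 2 2 0 0 0) (vec 0 1 2 0 0 0 0) (vec 0 0 0 0 2 2 1) (vec 0 0 0 0 1 1 1) (vec 0 0 0 0 1 0 0)

/-- the power 4 -/
def a13P4 : M7 := mat (vec 1 0 0 0 0 0 0) (vec 0 2 0 2 0 0 0) (vec 0 2 2 1 0 0 0) (vec 0 0 2 0 0 0 0) (vec 0 0 0 0 1 0 1) (vec 0 0 0 0 1 0 2) (vec 0 0 0 0 2 2 1)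

/-- the power 8 -/
def a13P8 : M7 := mat (vec 1 0 0 0 0 0 0) (vec 0 1 1 1 0 0 0) (vec 0 2 0 0 0 0 0) (vec 0 1 1 2 0 0 0) (vec 0 0 0 0 0 2 2) (vec 0 0 0 0 2 1 0) (vec 0 0 0 0 0 2 1)

/-- the power 12 -/
def a13P12 : M7 := mat (vec 1 0 0 0 0 0 0) (vec 0 1 1 0 0 0 0) (vec 0 1 0 1 0 0 0) (vec 0 1 0 0 0 0 0) (vec 0 0 0 0 0 1 0) (vec 0 0 0 0 0 0 1) (vec 0 0 0 0 1 2 2)

theorem a13_inv : a13 * a13i = 1 := by decide +kernel

theorem a13_inv' : a13i * a13 = 1 := by decide +kernel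

theorem a13_gram : a13ᵀ * (Gm * a13) = Gm := by decide +kernel

theorem a13_E : a13E * a13Ei = 1 := by decide +kernel

theorem a13_M1 : Gm * a13 = a13M1 := by decide +kernel

theorem a13_M2 : a13M1 * a13 = a13M2 := by decide +kernel

theorem a13_M3 : a13M2 * a13 = a13M3 := by decide +kernel

theorem a13_P2 : a13 * a13 = a13P2 := by decide +kernel

theorem a13_P4 : a13P2 * a13P2 = a13P4 := by decide +kernel

theorem a13_P8 : a13P4 * a13P4 = a13P8 := by decide +kernel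

theorem a13_P12 : a13P8 * a13P4 = a13P12 := by decide +kernel

theorem a13_P13 : a13P12 * a13 = 1 := by decide +kernel

theorem a13_pow : a13 ^ 13 = 1 := by
  have h2 : a13 ^ 2 = a13P2 := by rw [pow_two, a13_P2]
  have h4 : a13 ^ 4 = a13P4 := by rw [show (4 : ℕ) = 2 + 2 from rfl, pow_add, h2, a13_P4]
  have h8 : a13 ^ 8 = a13P8 := by rw [show (8 : ℕ) = 4 + 4 from rfl, pow_add, h4, a13_P8]
  have h12 : a13 ^ 12 = a13P12 := by rw [show (12 : ℕ) = 8 + 4 from rfl, pow_add, h8, h4, a13_P12]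
  rw [show (13 : ℕ) = 12 + 1 from rfl, pow_add, h12, pow_one, a13_P13]

/-- the cyclic vector -/
def a13v : I → ZMod 3 := vec 1 0 0 1 0 1 0

/-- the vectors with the same products -/
def a13T : Finset T7 := Finset.univ.filter fun a =>
  vec7 a ⬝ᵥ (Gm *ᵥ vec7 a) = 2 ∧ vec7 a ⬝ᵥ (a13M1 *ᵥ vec7 a) = 2 ∧
    vec7 a ⬝ᵥ (a13M2 *ᵥ vec7 a) = 1 ∧ vec7 a ⬝ᵥ (a13M3 *ᵥ vec7 a) = 2

/-- the form `a13M1` -/
def a13N1 (a b c d e f g : ℕ) : ℕ :=
  2 * a * a + b * e + 2 * b * f + b * g + c * e + c * g + d * e + 3 * d * f + 2 * d * g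

theorem a13N1_eq (x : T7) : vec7 x ⬝ᵥ (a13M1 *ᵥ vec7 x) =
    ((a13N1 x.1.val x.2.1.val x.2.2.1.val x.2.2.2.1.val x.2.2.2.2.1.val x.2.2.2.2.2.1.val x.2.2.2.2.2.2.val : ℕ) : ZMod 3) := by
  obtain ⟨a, b, c, d, e, f, g⟩ := x
  simp only [a13N1, a13M1, vec7, sdMul, sdDot, Nat.cast_add, Nat.cast_mul, ZMod.natCast_zmod_val, Nat.cast_ofNat]
  ring

/-- the form `a13M2` -/
def a13N2 (a b c d e f g : ℕ) : ℕ :=
  2 * a * a + 2 * b * e + 2 * b * f + 2 * b * g + 2 * c * e + 3 * c * f + 3 * c * g + 3 * d * e + 2 * d * f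

theorem a13N2_eq (x : T7) : vec7 x ⬝ᵥ (a13M2 *ᵥ vec7 x) =
    ((a13N2 x.1.val x.2.1.val x.2.2.1.val x.2.2.2.1.val x.2.2.2.2.1.val x.2.2.2.2.2.1.val x.2.2.2.2.2.2.val : ℕ) : ZMod 3) := by
  obtain ⟨a, b, c, d, e, f, g⟩ := x
  simp only [a13N2, a13M2, vec7, sdMul, sdDot, Nat.cast_add, Nat.cast_mul, ZMod.natCast_zmod_val, Nat.cast_ofNat]
  ring

/-- the form `a13M3` -/
def a13N3 (a b c d e f g : ℕ) : ℕ :=
  2 * a * a + 2 * b * e + 2 * b * f + 4 * b * g + 4 * c * e + 4 * c * f + c * g + d * e + 3 * d * f + 3 * d * g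

theorem a13N3_eq (x : T7) : vec7 x ⬝ᵥ (a13M3 *ᵥ vec7 x) =
    ((a13N3 x.1.val x.2.1.val x.2.2.1.val x.2.2.2.1.val x.2.2.2.2.1.val x.2.2.2.2.2.1.val x.2.2.2.2.2.2.val : ℕ) : ZMod 3) := by
  obtain ⟨a, b, c, d, e, f, g⟩ := x
  simp only [a13N3, a13M3, vec7, sdMul, sdDot, Nat.cast_add, Nat.cast_mul, ZMod.natCast_zmod_val, Nat.cast_ofNat]
  ring

/-- the four conditions -/
def a13Test (a b c d e f g : ℕ) : Bool :=
  (sdN0 a b c d e f g % 3 == 2) && ((a13N1 a b c d e f g % 3 == 2) &&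
    ((a13N2 a b c d e f g % 3 == 1) && (a13N3 a b c d e f g % 3 == 2)))

theorem a13_count : sdC a13Test = 52 := by decide +kernel

theorem a13_card : a13T.card = 52 := by
  rw [← a13_count]
  refine sdCard _ _ fun x => ?_
  rw [sdN0_eq, a13N1_eq, a13N2_eq, a13N3_eq]
  simp only [a13Test, Bool.and_eq_true, ← sdCast _ _ (by norm_num : 2 < 3), ← sdCast _ _ (by norm_num : 1 < 3)]
  push_cast
  rfl

theorem a13_v0 : a13v ⬝ᵥ (Gm *ᵥ a13v) = 2 := by decide +kernel

theorem a13_v1 : a13v ⬝ᵥ (a13M1 *ᵥ a13v) = 2 := by decide +kernel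

theorem a13_v2 : a13v ⬝ᵥ (a13M2 *ᵥ a13v) = 1 := by decide +kernel

theorem a13_v3 : a13v ⬝ᵥ (a13M3 *ᵥ a13v) = 2 := by decide +kernel

theorem a13_col0 : (fun i => a13E i (Sum.inl ())) = a13v := by decide +kernel

theorem a13_col1 : (fun i => a13E i (Sum.inr (Sum.inl 0))) = a13 *ᵥ (fun i => a13E i (Sum.inl ())) := by decide +kernel

theorem a13_col2 : (fun i => a13E i (Sum.inr (Sum.inl 1))) = a13 *ᵥ (fun i => a13E i (Sum.inr (Sum.inl 0))) := by decide +kernel

theorem a13_col3 : (fun i => a13E i (Sum.inr (Sum.inl 2))) = a13 *ᵥ (fun i => a13E i (Sum.inr (Sum.inl 1))) := by decide +kernel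

theorem a13_col4 : (fun i => a13E i (Sum.inr (Sum.inr 0))) = a13 *ᵥ (fun i => a13E i (Sum.inr (Sum.inl 2))) := by decide +kernel

theorem a13_col5 : (fun i => a13E i (Sum.inr (Sum.inr 1))) = a13 *ᵥ (fun i => a13E i (Sum.inr (Sum.inr 0))) := by decide +kernel

theorem a13_col6 : (fun i => a13E i (Sum.inr (Sum.inr 2))) = a13 *ᵥ (fun i => a13E i (Sum.inr (Sum.inr 1))) := by decide +kernel

theorem a13_col (j : I) : ∃ n : ℕ, (fun i => a13E i j) = a13 ^ n *ᵥ a13v := by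
  have h0 : (fun i => a13E i (Sum.inl ())) = a13 ^ 0 *ᵥ a13v := by rw [pow_zero, one_mulVec, a13_col0]
  have h1 : (fun i => a13E i (Sum.inr (Sum.inl 0))) = a13 ^ 1 *ᵥ a13v := by
    rw [a13_col1, h0, mulVec_mulVec, ← pow_succ']
  have h2 : (fun i => a13E i (Sum.inr (Sum.inl 1))) = a13 ^ 2 *ᵥ a13v := by
    rw [a13_col2, h1, mulVec_mulVec, ← pow_succ']
  have h3 : (fun i => a13E i (Sum.inr (Sum.inl 2))) = a13 ^ 3 *ᵥ a13v := by
    rw [a13_col3, h2, mulVec_mulVec, ← pow_succ']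
  have h4 : (fun i => a13E i (Sum.inr (Sum.inr 0))) = a13 ^ 4 *ᵥ a13v := by
    rw [a13_col4, h3, mulVec_mulVec, ← pow_succ']
  have h5 : (fun i => a13E i (Sum.inr (Sum.inr 1))) = a13 ^ 5 *ᵥ a13v := by
    rw [a13_col5, h4, mulVec_mulVec, ← pow_succ']
  have h6 : (fun i => a13E i (Sum.inr (Sum.inr 2))) = a13 ^ 6 *ᵥ a13v := by
    rw [a13_col6, h5, mulVec_mulVec, ← pow_succ']
  rcases j with ⟨⟩ | j | j
  · exact ⟨0, h0⟩
  · fin_cases j
    · exact ⟨1, h1⟩
    · exact ⟨2, h2⟩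
    · exact ⟨3, h3⟩
  · fin_cases j
    · exact ⟨4, h4⟩
    · exact ⟨5, h5⟩
    · exact ⟨6, h6⟩

/-- an isometry of order 4 and spinor norm `-1` commuting with `a7` -/
def ff : M7 := mat (vec 0 1 0 0 1 0 0) (vec 1 2 0 0 1 0 0) (vec 0 0 0 2 0 0 0) (vec 0 0 1 0 0 0 0) (vec 1 1 0 0 2 0 0) (vec 0 0 0 0 0 0 2) (vec 0 0 0 0 0 1 0)

/-- a vector -/
def fv0 : I → ZMod 3 := vec 1 0 0 0 0 0 0

theorem fv0_Q : fv0 (.inl ()) ^ 2 + ∑ i : Fin 3, fv0 (.inr (.inl i)) * fv0 (.inr (.inr i)) = 1 := by decide +kernel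

/-- the matrix of the reflection -/
def fR0 : M7 := mat (vec 2 0 0 0 0 0 0) (vec 0 1 0 0 0 0 0) (vec 0 0 1 0 0 0 0) (vec 0 0 0 1 0 0 0) (vec 0 0 0 0 1 0 0) (vec 0 0 0 0 0 1 0) (vec 0 0 0 0 0 0 1)

theorem fR0_eq : 1 - (1 : ZMod 3) • vecMulVec fv0 (Gm *ᵥ fv0) = fR0 := by decide +kernel

/-- a vector -/
def fv1 : I → ZMod 3 := vec 1 2 0 0 2 0 0

theorem fv1_Q : fv1 (.inl ()) ^ 2 + ∑ i : Fin 3, fv1 (.inr (.inl i)) * fv1 (.inr (.inr i)) = -1 := by decide +kernel

/-- the matrix of the reflection -/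
def fR1 : M7 := mat (vec 0 2 0 0 2 0 0) (vec 1 2 0 0 1 0 0) (vec 0 0 1 0 0 0 0) (vec 0 0 0 1 0 0 0) (vec 1 1 0 0 2 0 0) (vec 0 0 0 0 0 1 0) (vec 0 0 0 0 0 0 1)

theorem fR1_eq : 1 - (-1 : ZMod 3) • vecMulVec fv1 (Gm *ᵥ fv1) = fR1 := by decide +kernel

/-- a partial product -/
def fP1 : M7 := mat (vec 0 1 0 0 1 0 0) (vec 1 2 0 0 1 0 0) (vec 0 0 1 0 0 0 0) (vec 0 0 0 1 0 0 0) (vec 1 1 0 0 2 0 0) (vec 0 0 0 0 0 1 0) (vec 0 0 0 0 0 0 1)

theorem fP1_eq : fR0 * fR1 = fP1 := by decide +kernel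

/-- a vector -/
def fv2 : I → ZMod 3 := vec 0 0 1 0 0 1 0

theorem fv2_Q : fv2 (.inl ()) ^ 2 + ∑ i : Fin 3, fv2 (.inr (.inl i)) * fv2 (.inr (.inr i)) = 1 := by decide +kernel

/-- the matrix of the reflection -/
def fR2 : M7 := mat (vec 1 0 0 0 0 0 0) (vec 0 1 0 0 0 0 0) (vec 0 0 0 0 0 2 0) (vec 0 0 0 1 0 0 0) (vec 0 0 0 0 1 0 0) (vec 0 0 2 0 0 0 0) (vec 0 0 0 0 0 0 1)

theorem fR2_eq : 1 - (1 : ZMod 3) • vecMulVec fv2 (Gm *ᵥ fv2) = fR2 := by decide +kernel

/-- a partial product -/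
def fP2 : M7 := mat (vec 0 1 0 0 1 0 0) (vec 1 2 0 0 1 0 0) (vec 0 0 0 0 0 2 0) (vec 0 0 0 1 0 0 0) (vec 1 1 0 0 2 0 0) (vec 0 0 2 0 0 0 0) (vec 0 0 0 0 0 0 1)

theorem fP2_eq : fP1 * fR2 = fP2 := by decide +kernel

/-- a vector -/
def fv3 : I → ZMod 3 := vec 0 0 1 2 0 1 2

theorem fv3_Q : fv3 (.inl ()) ^ 2 + ∑ i : Fin 3, fv3 (.inr (.inl i)) * fv3 (.inr (.inr i)) = -1 := by decide +kernel

/-- the matrix of the reflection -/
def fR3 : M7 := mat (vec 1 0 0 0 0 0 0) (vec 0 1 0 0 0 0 0) (vec 0 0 2 2 0 1 2) (vec 0 0 2 2 0 2 1) (vec 0 0 0 0 1 0 0) (vec 0 0 1 2 0 2 2) (vec 0 0 2 1 0 2 2)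

theorem fR3_eq : 1 - (-1 : ZMod 3) • vecMulVec fv3 (Gm *ᵥ fv3) = fR3 := by decide +kernel

/-- a partial product -/
def fP3 : M7 := mat (vec 0 1 0 0 1 0 0) (vec 1 2 0 0 1 0 0) (vec 0 0 2 1 0 1 1) (vec 0 0 2 2 0 2 1) (vec 1 1 0 0 2 0 0) (vec 0 0 1 1 0 2 1) (vec 0 0 2 1 0 2 2)

theorem fP3_eq : fP2 * fR3 = fP3 := by decide +kernel

/-- a vector -/
def fv4 : I → ZMod 3 := vec 0 0 1 0 0 2 0

theorem fv4_Q : fv4 (.inl ()) ^ 2 + ∑ i : Fin 3, fv4 (.inr (.inl i)) * fv4 (.inr (.inr i)) = -1 := by decide +kernel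

/-- the matrix of the reflection -/
def fR4 : M7 := mat (vec 1 0 0 0 0 0 0) (vec 0 1 0 0 0 0 0) (vec 0 0 0 0 0 1 0) (vec 0 0 0 1 0 0 0) (vec 0 0 0 0 1 0 0) (vec 0 0 1 0 0 0 0) (vec 0 0 0 0 0 0 1)

theorem fR4_eq : 1 - (-1 : ZMod 3) • vecMulVec fv4 (Gm *ᵥ fv4) = fR4 := by decide +kernel

/-- a partial product -/
def fP4 : M7 := mat (vec 0 1 0 0 1 0 0) (vec 1 2 0 0 1 0 0) (vec 0 0 1 1 0 2 1) (vec 0 0 2 2 0 2 1) (vec 1 1 0 0 2 0 0) (vec 0 0 2 1 0 1 1) (vec 0 0 2 1 0 2 2)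

theorem fP4_eq : fP3 * fR4 = fP4 := by decide +kernel

/-- a vector -/
def fv5 : I → ZMod 3 := vec 0 0 1 2 0 2 1

theorem fv5_Q : fv5 (.inl ()) ^ 2 + ∑ i : Fin 3, fv5 (.inr (.inl i)) * fv5 (.inr (.inr i)) = 1 := by decide +kernel

/-- the matrix of the reflection -/
def fR5 : M7 := mat (vec 1 0 0 0 0 0 0) (vec 0 1 0 0 0 0 0) (vec 0 0 2 2 0 2 1) (vec 0 0 2 2 0 1 2) (vec 0 0 0 0 1 0 0) (vec 0 0 2 1 0 2 2) (vec 0 0 1 2 0 2 2)

theorem fR5_eq : 1 - (1 : ZMod 3) • vecMulVec fv5 (Gm *ᵥ fv5) = fR5 := by decide +kernel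

theorem ff_eq : fP4 * fR5 = ff := by decide +kernel

theorem ff_comm : ff * a7 = a7 * ff := by decide +kernel

end Cfsg.Agent.H328.OZ.SevenData
end

-- part: H328/OZ/Nine
section
/-!
# One vanishing class: simple groups of order `2^9 3^9 5 7 13` (helper328, S4842)

`row_nine`: the elements of order 13 and 7 leave the degrees 27, 729, 64, 1728. Burnside's theorem excludes the first
three. For 1728 the zero `x` has `|C(x)| ≤ 5`: it is a 2-element or a 5-element; if there is an involution `t` with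
`|G : C(t)|` prime to 10 then `|C(x)| = 4`, the Sylow 2-subgroup has commutator index four, a cyclic subgroup of index
two, and `G` has no elementary abelian subgroup of order eight.
-/

set_option autoImplicit false
set_option maxRecDepth 100000

open Cfsg Cfsg.Agent.Characters Cfsg.Agent.H732.VZ Cfsg.Agent.H604.OZ

namespace Cfsg.Agent.H328.OZ.Nine

universe u

/-! ### group theory -/

section gen

variable {G : Type u} [Group G]

theorem mem_cent {g z : G} : g ∈ Subgroup.centralizer ({z} : Set G) ↔ g * z = z * g :=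
  Subgroup.mem_centralizer_singleton_iff

/-- a `p`-element is conjugate into a subgroup of index prime to `p` -/
theorem exists_conj_mem [Finite G] {p : ℕ} (hp : p.Prime) {M : Subgroup G} (hM : ¬ p ∣ M.index) {x : G} {k : ℕ}
    (hx : x ^ p ^ k = 1) : ∃ y ∈ M, IsConj x y := by
  have : Fact p.Prime := ⟨hp⟩
  have hP : IsPGroup p (Subgroup.zpowers x) := by
    intro g
    obtain ⟨n, hn⟩ := Subgroup.mem_zpowers_iff.1 g.2
    refine ⟨k, ?_⟩
    apply Subtype.ext
    change (g : G) ^ p ^ k = 1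
    rw [← hn, ← zpow_natCast, ← zpow_mul, mul_comm, zpow_mul, zpow_natCast, hx, one_zpow]
  have hfin : Finite (G ⧸ M) := inferInstance
  have h1 := hP.nonempty_fixed_point_of_prime_not_dvd_card (G ⧸ M) (by rwa [← Subgroup.index_eq_card])
  obtain ⟨q, hq⟩ := h1
  obtain ⟨g, rfl⟩ := QuotientGroup.mk_surjective q
  have h2 := hq ⟨x, Subgroup.mem_zpowers x⟩
  have h3 : (QuotientGroup.mk (x * g) : G ⧸ M) = QuotientGroup.mk g := h2
  rw [eq_comm, QuotientGroup.eq] at h3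
  refine ⟨_, h3, isConj_iff.2 ⟨g⁻¹, ?_⟩⟩
  group

/-- the index of the commutator subgroup is at most the order of a centralizer -/
theorem index_commutator_le [Finite G] (x : G) :
    (commutator G).index ≤ Nat.card (Subgroup.centralizer ({x} : Set G)) := by
  have hmem : ∀ g : G, g * x * g⁻¹ * x⁻¹ ∈ commutator G := fun g =>
    Subgroup.commutator_mem_commutator (Subgroup.mem_top g) (Subgroup.mem_top x)
  let f : G ⧸ Subgroup.centralizer ({x} : Set G) → ↥(commutator G) := fun q =>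
    Quotient.liftOn' q (fun g => ⟨g * x * g⁻¹ * x⁻¹, hmem g⟩) (by
      intro a b hab
      have h1 : a⁻¹ * b ∈ Subgroup.centralizer ({x} : Set G) := QuotientGroup.leftRel_apply.1 hab
      have h2 := mem_cent.1 h1
      apply Subtype.ext
      change a * x * a⁻¹ * x⁻¹ = b * x * b⁻¹ * x⁻¹
      have h3 : a * x * a⁻¹ = b * x * b⁻¹ := by
        calc a * x * a⁻¹ = a * (x * (a⁻¹ * b)) * b⁻¹ := by group
          _ = a * (a⁻¹ * b * x) * b⁻¹ := by rw [h2]
          _ = b * x * b⁻¹ := by group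
      rw [h3])
  have hf : Function.Injective f := by
    intro p q hpq
    obtain ⟨a, rfl⟩ := QuotientGroup.mk_surjective p
    obtain ⟨b, rfl⟩ := QuotientGroup.mk_surjective q
    have h1 : a * x * a⁻¹ * x⁻¹ = b * x * b⁻¹ * x⁻¹ := congrArg Subtype.val hpq
    have h3 : a * x * a⁻¹ = b * x * b⁻¹ := mul_right_cancel h1
    apply QuotientGroup.eq.2
    rw [mem_cent]
    calc a⁻¹ * b * x = a⁻¹ * (b * x * b⁻¹) * b := by group
      _ = a⁻¹ * (a * x * a⁻¹) * b := by rw [h3]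
      _ = x * (a⁻¹ * b) := by group
  have h1 := Nat.card_le_card_of_injective f hf
  rw [← Subgroup.index_eq_card] at h1
  have h2 := Subgroup.card_mul_index (commutator G)
  have h3 := Subgroup.card_mul_index (Subgroup.centralizer ({x} : Set G))
  have h4 : 0 < Nat.card (commutator G) := Nat.card_pos
  have h5 : 0 < (Subgroup.centralizer ({x} : Set G)).index := Nat.pos_of_ne_zero Subgroup.index_ne_zero_of_finite
  by_contra hlt
  push Not at hlt
  have h6 : Nat.card (Subgroup.centralizer ({x} : Set G)) * (Subgroup.centralizer ({x} : Set G)).index <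
      (commutator G).index * (Subgroup.centralizer ({x} : Set G)).index := Nat.mul_lt_mul_of_pos_right hlt h5
  have h7 : (commutator G).index * (Subgroup.centralizer ({x} : Set G)).index ≤
      (commutator G).index * Nat.card (commutator G) := Nat.mul_le_mul_left _ h1
  rw [h3, ← h2] at h6
  rw [mul_comm (commutator G).index (Nat.card (commutator G))] at h7
  omega

/-- three independent commuting involutions -/
def E8 (a b c : G) : Prop :=
  a * a = 1 ∧ b * b = 1 ∧ c * c = 1 ∧ a * b = b * a ∧ a * c = c * a ∧ b * c = c * b ∧ a ≠ 1 ∧ b ≠ 1 ∧ c ≠ 1 ∧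
    a ≠ b ∧ a ≠ c ∧ b ≠ c ∧ c ≠ a * b

theorem E8.map {a b c : G} (h : E8 a b c) {H : Type*} [Group H] (f : G →* H) (hf : Function.Injective f) :
    E8 (f a) (f b) (f c) := by
  obtain ⟨h1, h2, h3, h4, h5, h6, h7, h8, h9, h10, h11, h12, h13⟩ := h
  refine ⟨by rw [← map_mul, h1, map_one], by rw [← map_mul, h2, map_one], by rw [← map_mul, h3, map_one],
    by rw [← map_mul, h4, map_mul], by rw [← map_mul, h5, map_mul], by rw [← map_mul, h6, map_mul], ?_, ?_, ?_, ?_,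
    ?_, ?_, ?_⟩
  · exact fun h => h7 (hf (by rw [h, map_one]))
  · exact fun h => h8 (hf (by rw [h, map_one]))
  · exact fun h => h9 (hf (by rw [h, map_one]))
  · exact fun h => h10 (hf h)
  · exact fun h => h11 (hf h)
  · exact fun h => h12 (hf h)
  · exact fun h => h13 (hf (by rw [h, map_mul]))

/-- a cyclic group has at most one involution -/
theorem eq_of_cyclic [Finite G] (C : Subgroup G) [IsCyclic C] {a b : G} (ha : a ∈ C) (hb : b ∈ C) (haa : a * a = 1)
    (hbb : b * b = 1) (ha1 : a ≠ 1) (hb1 : b ≠ 1) : a = b := by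
  classical
  by_contra hab
  have := Fintype.ofFinite C
  have h1 := IsCyclic.card_pow_eq_one_le (α := C) (n := 2) (by norm_num)
  have h2 : ({1, ⟨a, ha⟩, ⟨b, hb⟩} : Finset C) ⊆ Finset.univ.filter fun x : C => x ^ 2 = 1 := by
    intro x hx
    simp only [Finset.mem_insert, Finset.mem_singleton] at hx
    rw [Finset.mem_filter]
    refine ⟨Finset.mem_univ _, ?_⟩
    rcases hx with rfl | rfl | rfl
    · exact one_pow 2
    · exact Subtype.ext (by rw [pow_two]; exact haa)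
    · exact Subtype.ext (by rw [pow_two]; exact hbb)
  have h3 : ({1, ⟨a, ha⟩, ⟨b, hb⟩} : Finset C).card = 3 := by
    rw [Finset.card_insert_of_notMem, Finset.card_insert_of_notMem, Finset.card_singleton]
    · rw [Finset.mem_singleton]
      exact fun h => hab (congrArg Subtype.val h)
    · simp only [Finset.mem_insert, Finset.mem_singleton, not_or]
      exact ⟨fun h => ha1 (congrArg Subtype.val h).symm, fun h => hb1 (congrArg Subtype.val h).symm⟩
  have h4 := Finset.card_le_card h2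
  rw [h3] at h4
  omega

/-- no elementary abelian subgroup of order eight if there is a cyclic subgroup of index two -/
theorem no_E8_of_cyclic [Finite G] {C : Subgroup G} (hC : IsCyclic C) (h2 : C.index = 2) {a b c : G} (h : E8 a b c) :
    False := by
  obtain ⟨h1, h2', h3, h4, h5, h6, h7, h8, h9, h10, h11, h12, h13⟩ := h
  have hm : ∀ {u v : G}, u ∉ C → v ∉ C → u * v ∈ C := fun {u v} hu hv =>
    (Subgroup.mul_mem_iff_of_index_two h2).2 ⟨fun h => absurd h hu, fun h => absurd h hv⟩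
  have sq : ∀ {u v : G}, u * u = 1 → v * v = 1 → u * v = v * u → (u * v) * (u * v) = 1 := by
    intro u v hu hv huv
    calc (u * v) * (u * v) = u * (v * u) * v := by group
      _ = u * (u * v) * v := by rw [huv]
      _ = (u * u) * (v * v) := by group
      _ = 1 := by rw [hu, hv, one_mul]
  have ne : ∀ {u v : G}, v * v = 1 → u ≠ v → u * v ≠ 1 := by
    intro u v hv huv h
    apply huv
    calc u = u * v * v := by rw [mul_assoc, hv, mul_one]
      _ = v := by rw [h, one_mul]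
  by_cases ha : a ∈ C <;> by_cases hb : b ∈ C <;> by_cases hc : c ∈ C
  · exact h10 (eq_of_cyclic C ha hb h1 h2' h7 h8)
  · exact h10 (eq_of_cyclic C ha hb h1 h2' h7 h8)
  · exact h11 (eq_of_cyclic C ha hc h1 h3 h7 h9)
  · have h := eq_of_cyclic C (hm hb hc) ha (sq h2' h3 h6) h1 (ne h3 h12) h7
    apply h13
    calc c = b * b * c := by rw [h2', one_mul]
      _ = b * (b * c) := by group
      _ = b * a := by rw [h]
      _ = a * b := h4.symm
  · exact h12 (eq_of_cyclic C hb hc h2' h3 h8 h9)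
  · have h := eq_of_cyclic C (hm ha hc) hb (sq h1 h3 h5) h2' (ne h3 h11) h8
    apply h13
    calc c = a * a * c := by rw [h1, one_mul]
      _ = a * (a * c) := by group
      _ = a * b := by rw [h]
  · exact h13 (eq_of_cyclic C hc (hm ha hb) h3 (sq h1 h2' h4) h9 (ne h2' h10))
  · have h := eq_of_cyclic C (hm ha hb) (hm ha hc) (sq h1 h2' h4) (sq h1 h3 h5) (ne h2' h10) (ne h3 h11)
    exact h12 (mul_left_cancel h)

/-- the subgroup generated by commuting involutions -/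
theorem isPGroup_closure {a b c : G} (h : E8 a b c) : IsPGroup 2 (Subgroup.closure ({a, b, c} : Set G)) := by
  obtain ⟨h1, h2, h3, h4, h5, h6, -⟩ := h
  have hcomm : ∀ x ∈ ({a, b, c} : Set G), ∀ y ∈ ({a, b, c} : Set G), x * y = y * x := by
    intro x hx y hy
    simp only [Set.mem_insert_iff, Set.mem_singleton_iff] at hx hy
    rcases hx with rfl | rfl | rfl <;> rcases hy with rfl | rfl | rfl <;>
      first | rfl | assumption | (symm; assumption)
  have hco := (Subgroup.isMulCommutative_closure hcomm).is_comm.comm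
  intro x
  refine ⟨1, ?_⟩
  rw [pow_one]
  obtain ⟨x, hx⟩ := x
  induction hx using Subgroup.closure_induction with
  | mem x hx =>
    apply Subtype.ext
    simp only [Set.mem_insert_iff, Set.mem_singleton_iff] at hx
    change x ^ 2 = 1
    rw [pow_two]
    rcases hx with rfl | rfl | rfl
    · exact h1
    · exact h2
    · exact h3
  | one => exact Subtype.ext (one_pow 2)
  | mul x y hx hy hx2 hy2 =>
    have h7 : (⟨x * y, mul_mem hx hy⟩ : Subgroup.closure ({a, b, c} : Set G)) = ⟨x, hx⟩ * ⟨y, hy⟩ := rfl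
    have h8 : (⟨x, hx⟩ : Subgroup.closure ({a, b, c} : Set G)) * ⟨y, hy⟩ = ⟨y, hy⟩ * ⟨x, hx⟩ := hco _ _
    rw [h7, Commute.mul_pow h8, hx2, hy2, mul_one]
  | inv x hx hx2 =>
    have h7 : (⟨x⁻¹, inv_mem hx⟩ : Subgroup.closure ({a, b, c} : Set G)) = ⟨x, hx⟩⁻¹ := rfl
    rw [h7, inv_pow, hx2, inv_one]

/-- **a 2-element with centralizer of order at most four**: no elementary abelian subgroup of order eight -/
theorem no_E8 [Finite G] {x : G} {k : ℕ} (hx : x ^ 2 ^ k = 1)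
    (hc : Nat.card (Subgroup.centralizer ({x} : Set G)) ≤ 4) (h8 : 8 ∣ Nat.card G) {a b c : G} (h : E8 a b c) : False := by
  have : Fact (Nat.Prime 2) := ⟨Nat.prime_two⟩
  have hP : IsPGroup 2 (Subgroup.zpowers x) := by
    intro g
    obtain ⟨n, hn⟩ := Subgroup.mem_zpowers_iff.1 g.2
    refine ⟨k, ?_⟩
    apply Subtype.ext
    change (g : G) ^ 2 ^ k = 1
    rw [← hn, ← zpow_natCast, ← zpow_mul, mul_comm, zpow_mul, zpow_natCast, hx, one_zpow]
  obtain ⟨P, hxP⟩ := hP.exists_le_sylow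
  have hx' : x ∈ (P : Subgroup G) := hxP (Subgroup.mem_zpowers x)
  have hcP : Nat.card (Subgroup.centralizer ({(⟨x, hx'⟩ : (P : Subgroup G))} : Set (P : Subgroup G))) ≤ 4 := by
    refine le_trans (Nat.card_le_card_of_injective
      (fun y : Subgroup.centralizer ({(⟨x, hx'⟩ : (P : Subgroup G))} : Set (P : Subgroup G)) =>
        (⟨((y : (P : Subgroup G)) : G), mem_cent.2 (congrArg Subtype.val (mem_cent.1 y.2))⟩ :
          Subgroup.centralizer ({x} : Set G))) ?_) hc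
    intro y y' hyy
    have h9 : ((y : (P : Subgroup G)) : G) = ((y' : (P : Subgroup G)) : G) := by
      have h10 := Subtype.ext_iff.1 hyy
      exact h10
    exact Subtype.ext (Subtype.ext h9)
  have hi := (index_commutator_le (⟨x, hx'⟩ : (P : Subgroup G))).trans hcP
  -- the order of `P`
  have hcard : 8 ∣ Nat.card (P : Subgroup G) := by
    have h1 := P.card_eq_multiplicity
    rw [h1]
    exact (Nat.Prime.pow_dvd_iff_dvd_ordProj Nat.prime_two Nat.card_pos.ne' (k := 3)).1 h8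
  obtain ⟨n, hn⟩ := IsPGroup.iff_card.1 P.2
  have hna : ¬ ∀ u v : (P : Subgroup G), u * v = v * u := by
    intro hcomm
    have h1 : Subgroup.centralizer ({(⟨x, hx'⟩ : (P : Subgroup G))} : Set (P : Subgroup G)) = ⊤ := by
      rw [eq_top_iff]
      intro g _
      rw [mem_cent]
      exact hcomm _ _
    rw [h1, Nat.card_congr Subgroup.topEquiv.toEquiv] at hcP
    have := Nat.le_of_dvd Nat.card_pos hcard
    omega
  have h4 := MinSimple.SelfCentFour.four_le_index P.2 hna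
  obtain ⟨C, hC, hC2⟩ := Transfer.TausskyTwoGroup.exists_isCyclic_index_two n hn (by omega)
  -- the elementary abelian group in `P`
  obtain ⟨Q, hQ⟩ := (isPGroup_closure h).exists_le_sylow
  obtain ⟨g, hg⟩ := MulAction.exists_smul_eq G Q P
  have hmem : ∀ y ∈ Subgroup.closure ({a, b, c} : Set G), g * y * g⁻¹ ∈ (P : Subgroup G) := by
    intro y hy
    rw [← hg, Sylow.coe_subgroup_smul]
    exact Subgroup.smul_mem_pointwise_smul y (MulAut.conj g) (Q : Subgroup G) (hQ hy)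
  have ha : g * a * g⁻¹ ∈ (P : Subgroup G) := hmem a (Subgroup.subset_closure (by simp))
  have hb : g * b * g⁻¹ ∈ (P : Subgroup G) := hmem b (Subgroup.subset_closure (by simp))
  have hcc : g * c * g⁻¹ ∈ (P : Subgroup G) := hmem c (Subgroup.subset_closure (by simp))
  have h5 : E8 (g * a * g⁻¹) (g * b * g⁻¹) (g * c * g⁻¹) :=
    h.map (MulAut.conj g).toMonoidHom (MulAut.conj g).injective
  have h6 : E8 (⟨_, ha⟩ : (P : Subgroup G)) ⟨_, hb⟩ ⟨_, hcc⟩ := by
    obtain ⟨h1, h2, h3, h4, h5, h6, h7, h8, h9, h10, h11, h12, h13⟩ := h5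
    refine ⟨Subtype.ext h1, Subtype.ext h2, Subtype.ext h3, Subtype.ext h4, Subtype.ext h5, Subtype.ext h6,
      fun h => h7 (congrArg Subtype.val h), fun h => h8 (congrArg Subtype.val h), fun h => h9 (congrArg Subtype.val h),
      fun h => h10 (congrArg Subtype.val h), fun h => h11 (congrArg Subtype.val h),
      fun h => h12 (congrArg Subtype.val h), fun h => h13 (congrArg Subtype.val h)⟩
  exact no_E8_of_cyclic hC hC2 h6

end gen

/-! ### the row -/

theorem val_N : Cfsg.Agent.H417.Divs.val [(2, 9), (3, 9), (5, 1), (7, 1), (13, 1)] = 4585351680 := by decide +kernel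

/-- **Simple groups of order `2^9 3^9 5 7 13`.** -/
theorem row_nine {G : Type u} [Group G] [Finite G] [IsSimpleGroup G] (hN : Nat.card G = 4585351680) {z7 z13 t : G}
    (hz7 : orderOf z7 = 7) (hc7 : Nat.card (Subgroup.centralizer ({z7} : Set G)) = 14)
    (hz13 : orderOf z13 = 13) (hc13 : Nat.card (Subgroup.centralizer ({z13} : Set G)) ≤ 13)
    (ht1 : t ≠ 1) (htt : t * t = 1) (hct : Nat.card (Subgroup.centralizer ({t} : Set G)) = 13063680)
    {a b c : G} (hE : E8 a b c) : H730.OZ.Row G := by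
  refine row_of fun χ x h => ?_
  have hna : ¬ IsMulCommutative G := by
    intro h
    have h2 : Subgroup.centralizer ({z7} : Set G) = ⊤ := by
      rw [eq_top_iff]
      intro g _
      rw [mem_cent]
      exact h.is_comm.comm g z7
    rw [h2, Nat.card_congr Subgroup.topEquiv.toEquiv, hN] at hc7
    omega
  have hti : (Subgroup.centralizer ({t} : Set G)).index = 351 := by
    have h1 := Subgroup.card_mul_index (Subgroup.centralizer ({t} : Set G))
    rw [hct, hN] at h1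
    omega
  have h4 : 4 ≤ cent x := four_le_cent h (by rw [hN]; norm_num) (by rw [hN]; norm_num)
  have hiso : ∀ r ∈ [7, 13], charDegree (χ : G → ℂ) % r = 0 ∨
      charDegree (χ : G → ℂ) % r = 1 ∨ charDegree (χ : G → ℂ) % r = r - 1 := by
    intro r hr
    simp only [List.mem_cons, List.not_mem_nil, or_false] at hr
    rcases hr with rfl | rfl
    · exact Or.inr (H672.OZ.two_mod_of h (by norm_num) le_rfl (by rw [hN]; norm_num) (by rw [hN]; norm_num)
        (by rw [hN]; norm_num) hz7 hc7 h4)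
    · exact H672.OZ.iso_mod_of h (by norm_num) (by norm_num) (by rw [hN]; norm_num) (by rw [hN]; norm_num) hz13 hc13 h4
  have hm := H672.OZ.mem_of_sieve4 h hN val_N
    (by
      intro x hx
      simp only [List.mem_cons, List.not_mem_nil, or_false] at hx
      rcases hx with rfl | rfl | rfl | rfl | rfl <;> norm_num)
    (by decide +kernel) h4 hiso (D := [27, 729, 64, 1728]) (by decide +kernel)
  have := Fintype.ofFinite G
  -- Burnside at 3
  have burn3 : ∀ k : ℕ, charDegree (χ : G → ℂ) = 3 ^ k → 3 ^ 9 ≤ cent x := by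
    intro k hk
    obtain ⟨g, hg, hgi⟩ := exists_central (G := G) (r := 3) Nat.prime_three (by rw [hN]; norm_num)
    have hg1 : g ≠ 1 := by
      rintro rfl
      rw [orderOf_one] at hg
      omega
    have h0 := eq_zero_of_coprime hna χ h.zero hg1 (by
      rw [hk]
      exact ((Nat.Prime.coprime_iff_not_dvd Nat.prime_three).2 hgi).symm.pow_right k)
    have hcon := h.uniq g h0
    rw [H672.OZ.cent_eq_of_conj hcon]
    refine Nat.le_of_dvd Nat.card_pos ?_
    have h5 := Subgroup.card_mul_index (Subgroup.centralizer ({g} : Set G))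
    refine (Nat.Coprime.pow_left 9 ((Nat.Prime.coprime_iff_not_dvd Nat.prime_three).2 hgi)).dvd_of_dvd_mul_right ?_
    rw [h5, hN]
    norm_num
  simp only [List.mem_cons, List.not_mem_nil, or_false] at hm
  rcases hm with hd | hd | hd | hd
  · have h5 := H672.OZ.cent_le_of h hN (r := 5) (n := 1) (by norm_num) hd (by norm_num) (by norm_num) (by norm_num)
    have h6 := burn3 3 hd
    norm_num only [] at h5 h6
    omega
  · have h5 := H672.OZ.cent_le_of h hN (r := 2) (n := 9) (by norm_num) hd (by norm_num) (by norm_num) (by norm_num)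
    have h6 := burn3 6 hd
    norm_num only [] at h5 h6
    omega
  · have h5 := H672.OZ.cent_le_of h hN (r := 2) (n := 9) (by norm_num) hd (by norm_num) (by norm_num) (by norm_num)
    have h0 := eq_zero_of_coprime hna χ h.zero ht1 (by rw [hd, hti]; norm_num)
    have h7 := H672.OZ.cent_eq_of_conj (h.uniq _ h0)
    change cent t = 13063680 at hct
    norm_num only [] at h5
    omega
  · have h5 := H672.OZ.cent_le_of h hN (r := 5) (n := 1) (by norm_num) hd (by norm_num) (by norm_num) (by norm_num)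
    rw [pow_one] at h5
    have h6 : x ^ cent x = 1 := by
      rw [← orderOf_dvd_iff_pow_eq_one]
      exact Subgroup.orderOf_dvd_natCard _ (mem_cent.2 rfl)
    rcases (by omega : cent x = 4 ∨ cent x = 5) with h7 | h7
    · rw [h7] at h6
      exact no_E8 (k := 2) h6 (le_of_eq h7) (by rw [hN]; norm_num) hE
    · rw [h7] at h6
      obtain ⟨y, hy, hxy⟩ := exists_conj_mem (p := 5) (k := 1) (by norm_num) (M := Subgroup.centralizer ({t} : Set G))
        (by rw [hti]; norm_num) (by rw [pow_one]; exact h6)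
      have h8 := H672.OZ.cent_eq_of_conj hxy
      have h9 : orderOf t = 2 := by
        have : Fact (Nat.Prime 2) := ⟨Nat.prime_two⟩
        exact orderOf_eq_prime (by rw [pow_two]; exact htt) ht1
      have h10 : orderOf t ∣ cent y := Subgroup.orderOf_dvd_natCard _ (mem_cent.2 (mem_cent.1 hy).symm)
      rw [h9, ← h8, h7] at h10
      omega

end Cfsg.Agent.H328.OZ.Nine
end

-- part: H328/OZ/OSevenThree
section
/-!
# One vanishing class: `PΩ₇(3)` (helper328, S4842)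

The centralizers of elements of order 7 and 13 by a count of images of a cyclic vector; `row_o7_3`.
-/

set_option autoImplicit false
set_option linter.unusedSectionVars false

open Cfsg QuadraticMap Module Matrix
open Cfsg.Agent.LieClassical.OrthCore Cfsg.Agent.LieClassical.OrthTrans
  Cfsg.Agent.LieClassical.OrthFinite Cfsg.Agent.LieClassical.OrthForms
open Cfsg.Agent.H237.OSeven (w u0 Qp Qm Qu Q_w Q_u0 refl_p refl_u zz zz_mem zz_conj)
open Cfsg.Agent.H237.OSevenC (good two_ne det_E card_E v0 z0 zE card_cent field_cases)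
open Cfsg.Agent.FooteOrth (sg sg_refl det_refl mem_E_iff)
open Cfsg.Agent.H328.OZ.SevenData Cfsg.Agent.H328.OZ.Nine

namespace Cfsg.Agent.H328.OZ.OSevenThree

universe u

local instance : Fact (Nat.Prime 3) := ⟨Nat.prime_three⟩

/-- the space -/
abbrev V := I → ZMod 3

/-- the form -/
abbrev QF : QuadraticForm (ZMod 3) V := oddForm 3 (ZMod 3)

theorem hF3 : Nat.card (ZMod 3) = 3 := Nat.card_zmod 3

theorem polar_mat (u v : V) : polar QF u v = u ⬝ᵥ (Gm *ᵥ v) := by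
  rw [polar_oddForm]
  simp only [dotProduct, mulVec, Fintype.sum_sum_type, Fin.sum_univ_three, Finset.univ_unique, Finset.sum_singleton,
    PUnit.default_eq_unit, Gm, SevenData.mat, SevenData.vec, Matrix.of_apply, Sum.elim_inl, Sum.elim_inr, Matrix.cons_val_zero,
    Matrix.cons_val_one, Matrix.cons_val]
  ring

theorem Q_mat (v : V) : QF v = 2 * (v ⬝ᵥ (Gm *ᵥ v)) := by
  rw [← polar_mat, polar_self', ← mul_assoc, show (2 * 2 : ZMod 3) = 1 from by decide, one_mul]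

/-! ### linear equivalences from matrices -/

/-- a linear equivalence -/
noncomputable def toE {A B : M7} (h : A * B = 1) (h' : B * A = 1) : V ≃ₗ[ZMod 3] V :=
  LinearEquiv.ofLinearMap (toLin' A) (toLin' B) (by rw [← toLin'_mul, h, toLin'_one])
    (by rw [← toLin'_mul, h', toLin'_one])

theorem mem_O_of {A : M7} {g : V ≃ₗ[ZMod 3] V} (hg : ∀ x, g x = A *ᵥ x) (h : Aᵀ * (Gm * A) = Gm) : g ∈ O QF := by
  rw [mem_O]
  intro x
  rw [hg, Q_mat, Q_mat, ← vecMul_transpose, ← dotProduct_mulVec, vecMul_transpose, mulVec_mulVec, mulVec_mulVec,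
    Matrix.mul_assoc, h]

theorem pow_apply {A : M7} {g : V ≃ₗ[ZMod 3] V} (hg : ∀ x, g x = A *ᵥ x) (n : ℕ) (x : V) : (g ^ n) x = A ^ n *ᵥ x := by
  induction n with
  | zero => rw [pow_zero, pow_zero, one_mulVec]; rfl
  | succ n ih => rw [pow_succ', pow_succ', ← mulVec_mulVec, ← ih, ← hg]; rfl

theorem refl_mat {v : V} (hv : QF v ≠ 0) {s : ZMod 3} (hs : QF v = s) (x : V) :
    refl QF v hv x = (1 - s⁻¹ • vecMulVec v (Gm *ᵥ v)) *ᵥ x := by
  rw [refl_apply, hs, sub_mulVec, one_mulVec, smul_mulVec, polar_comm, polar_mat, mul_smul]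
  congr 2
  rw [vecMulVec_mulVec, dotProduct_comm, op_smul_eq_smul]

/-! ### the count -/

/-- two isometries commuting with `z` which agree on a cyclic vector are equal -/
theorem eq_of_cyclic {A : M7} {z : V ≃ₗ[ZMod 3] V} (hzA : ∀ x, z x = A *ᵥ x) {v : V} {Em Ei : M7} (hE : Em * Ei = 1)
    (hcol : ∀ j, ∃ n : ℕ, (fun i => Em i j) = A ^ n *ᵥ v) {g h : V ≃ₗ[ZMod 3] V} (hg : g * z = z * g)
    (hh : h * z = z * h) (hv : g v = h v) : g = h := by
  have hpow : ∀ {k : V ≃ₗ[ZMod 3] V}, k * z = z * k → ∀ n : ℕ, k (A ^ n *ᵥ v) = A ^ n *ᵥ k v := by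
    intro k hk n
    have h1 : Commute k z := hk
    rw [← pow_apply hzA, ← pow_apply hzA]
    exact DFunLike.congr_fun (h1.pow_right n).eq v
  apply LinearEquiv.ext
  intro x
  have h1 : x = Em *ᵥ (Ei *ᵥ x) := by rw [mulVec_mulVec, hE, one_mulVec]
  have h2 : ∀ y : V, Em *ᵥ y = ∑ j, y j • (fun i => Em i j) := by
    intro y
    funext i
    rw [Finset.sum_apply]
    simp only [mulVec, dotProduct, Pi.smul_apply, smul_eq_mul]
    exact Finset.sum_congr rfl fun j _ => mul_comm _ _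
  rw [h1, h2, map_sum, map_sum]
  refine Finset.sum_congr rfl fun j _ => ?_
  obtain ⟨n, hn⟩ := hcol j
  rw [map_smul, map_smul, hn, hpow hg, hpow hh, hv]

theorem count {A : M7} {z : V ≃ₗ[ZMod 3] V} (hzA : ∀ x, z x = A *ᵥ x) (hz : z ∈ E QF) {v : V} {Em Ei : M7}
    (hE : Em * Ei = 1) (hcol : ∀ j, ∃ n : ℕ, (fun i => Em i j) = A ^ n *ᵥ v) (T : Finset T7)
    (hT : ∀ b : V, (∀ n : ℕ, b ⬝ᵥ (Gm *ᵥ (A ^ n *ᵥ b)) = v ⬝ᵥ (Gm *ᵥ (A ^ n *ᵥ v))) → co7 b ∈ T)
    (t : Fin 4 → V ≃ₗ[ZMod 3] V) (htO : ∀ i, t i ∈ O QF) (htz : ∀ i, t i * z = z * t i)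
    (hinj : Function.Injective fun i => (LinearEquiv.det (t i), sg QF ⟨t i, htO i⟩)) :
    4 * Nat.card (Subgroup.centralizer ({(⟨z, hz⟩ : E QF)} : Set (E QF))) ≤ T.card := by
  have hfin : Finite (E QF) := Nat.finite_of_card_ne_zero (by rw [(card_E hF3).1]; norm_num)
  have hcomm : ∀ g : Subgroup.centralizer ({(⟨z, hz⟩ : E QF)} : Set (E QF)),
      ((g : E QF) : V ≃ₗ[ZMod 3] V) * z = z * ((g : E QF) : V ≃ₗ[ZMod 3] V) := fun g =>
    congrArg Subtype.val (Nine.mem_cent.1 g.2)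
  have hc2 : ∀ (g : Subgroup.centralizer ({(⟨z, hz⟩ : E QF)} : Set (E QF))) (i : Fin 4),
      (((g : E QF) : V ≃ₗ[ZMod 3] V) * t i) * z = z * (((g : E QF) : V ≃ₗ[ZMod 3] V) * t i) := by
    intro g i
    rw [mul_assoc, htz, ← mul_assoc, hcomm, mul_assoc]
  have hmem : ∀ (g : Subgroup.centralizer ({(⟨z, hz⟩ : E QF)} : Set (E QF))) (i : Fin 4),
      co7 ((((g : E QF) : V ≃ₗ[ZMod 3] V) * t i) v) ∈ T := by
    intro g i
    refine hT _ fun n => ?_
    have h1 : ((((g : E QF) : V ≃ₗ[ZMod 3] V) * t i)) ∈ O QF := mul_mem (E_le_O (g : E QF).2) (htO i)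
    have h2 : Commute (((g : E QF) : V ≃ₗ[ZMod 3] V) * t i) z := hc2 g i
    have h3 := DFunLike.congr_fun (h2.pow_right n).eq v
    have h4 : (z ^ n) ((((g : E QF) : V ≃ₗ[ZMod 3] V) * t i) v) = (((g : E QF) : V ≃ₗ[ZMod 3] V) * t i) ((z ^ n) v) :=
      h3.symm
    rw [← polar_mat, ← polar_mat, ← pow_apply hzA, ← pow_apply hzA, h4, polar_map h1]
  have h0 : 4 * Nat.card (Subgroup.centralizer ({(⟨z, hz⟩ : E QF)} : Set (E QF))) =
      Nat.card (Subgroup.centralizer ({(⟨z, hz⟩ : E QF)} : Set (E QF)) × Fin 4) := by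
    rw [Nat.card_prod, Nat.card_fin, mul_comm]
  rw [h0, ← Nat.card_eq_finsetCard T]
  refine Nat.card_le_card_of_injective (fun p => (⟨_, hmem p.1 p.2⟩ : T)) ?_
  rintro ⟨g, i⟩ ⟨g', j⟩ hgg
  have h1 := co7_inj (Subtype.ext_iff.1 hgg)
  have h2 := eq_of_cyclic hzA hE hcol (hc2 g i) (hc2 g' j) h1
  have h3 : i = j := by
    apply hinj
    have hdet := congrArg LinearEquiv.det h2
    rw [map_mul, map_mul, det_E (good hF3) (g : E QF).2, det_E (good hF3) (g' : E QF).2, one_mul, one_mul] at hdet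
    have hs : ∀ (k : Subgroup.centralizer ({(⟨z, hz⟩ : E QF)} : Set (E QF))) (l : Fin 4),
        sg QF ⟨((k : E QF) : V ≃ₗ[ZMod 3] V) * t l, mul_mem (E_le_O (k : E QF).2) (htO l)⟩ = sg QF ⟨t l, htO l⟩ := by
      intro k l
      have e1 : (⟨((k : E QF) : V ≃ₗ[ZMod 3] V) * t l, mul_mem (E_le_O (k : E QF).2) (htO l)⟩ : O QF) =
          ⟨((k : E QF) : V ≃ₗ[ZMod 3] V), E_le_O (k : E QF).2⟩ * ⟨t l, htO l⟩ := rfl
      rw [e1, map_mul, ((mem_E_iff (good hF3) (two_ne hF3) (E_le_O (k : E QF).2)).1 (k : E QF).2).2, one_mul]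
    have hsg : sg QF ⟨t i, htO i⟩ = sg QF ⟨t j, htO j⟩ := by
      rw [← hs g i, ← hs g' j]
      congr 1
      exact Subtype.ext h2
    exact Prod.ext hdet hsg
  subst h3
  have h4 := mul_right_cancel h2
  rw [Subtype.ext (Subtype.ext h4)]

/-- isometries of odd order -/
theorem mem_E_of_pow {g : V ≃ₗ[ZMod 3] V} (hg : g ∈ O QF) {k : ℕ} (hk : g ^ (2 * k + 1) = 1) : g ∈ E QF := by
  rw [mem_E_iff (good hF3) (two_ne hF3) hg]
  constructor
  · have h1 : (LinearEquiv.det g) ^ (2 * k + 1) = 1 := by rw [← map_pow, hk, map_one]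
    have h2 : ∀ u : (ZMod 3)ˣ, u ^ 2 = 1 := by decide
    rw [pow_succ, pow_mul, h2, one_pow, one_mul] at h1
    exact h1
  · have h1 : (sg QF ⟨g, hg⟩) ^ (2 * k + 1) = 1 := by
      rw [← map_pow, show (⟨g, hg⟩ : O QF) ^ (2 * k + 1) = 1 from Subtype.ext hk, map_one]
    rw [pow_succ, pow_mul, Int.units_sq, one_pow, one_mul] at h1
    exact h1

/-! ### `-1` -/

theorem neg_mem : (LinearEquiv.neg (ZMod 3) : V ≃ₗ[ZMod 3] V) ∈ O QF := by
  rw [mem_O]
  intro x
  exact QuadraticMap.map_neg _ x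

theorem det_neg : LinearEquiv.det (LinearEquiv.neg (ZMod 3) : V ≃ₗ[ZMod 3] V) = -1 := by
  have h := det_E (good hF3) (zz_mem (good hF3))
  rw [zz, map_mul, det_refl] at h
  have h2 : ∀ u : (ZMod 3)ˣ, u * -1 = 1 → u = -1 := by decide
  exact h2 _ h

theorem sg_neg : sg QF ⟨LinearEquiv.neg (ZMod 3), neg_mem⟩ = 1 := by
  classical
  have h := ((mem_E_iff (good hF3) (two_ne hF3) (E_le_O (zz_mem (good hF3)))).1 (zz_mem (good hF3))).2
  have e1 : (⟨zz QF (w 0 (-1)) (Qm 0), E_le_O (zz_mem (good hF3))⟩ : O QF) =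
      ⟨LinearEquiv.neg (ZMod 3), neg_mem⟩ * ⟨refl QF (w 0 (-1)) (Qm 0), refl_mem_O ((by exact Qm 0))⟩ := rfl
  rw [e1, map_mul, sg_refl (two_ne hF3) (Qm 0), if_neg] at h
  · rwa [mul_one] at h
  · rw [Q_w]
    decide

theorem neg_comm (g : V ≃ₗ[ZMod 3] V) : LinearEquiv.neg (ZMod 3) * g = g * LinearEquiv.neg (ZMod 3) := by
  apply LinearEquiv.ext
  intro x
  show -(g x) = g (-x)
  rw [map_neg]

/-- a reflection in a vector fixed by `g` -/
theorem refl_comm' {g : V ≃ₗ[ZMod 3] V} (hg : g ∈ O QF) {v : V} (hv : QF v ≠ 0) (hgv : g v = v) :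
    refl QF v hv * g = g * refl QF v hv := by
  have h := refl_conj hg hv (by rw [hgv]; exact hv)
  have h1 : refl QF (g v) (by rw [hgv]; exact hv) = refl QF v hv := by
    congr 1
  rw [h1] at h
  exact (mul_inv_eq_iff_eq_mul.1 h).symm

/-! ### the element of order 13 -/

/-- the element of order 13 -/
noncomputable def z13 : V ≃ₗ[ZMod 3] V := toE a13_inv a13_inv'

theorem z13_apply (x : V) : z13 x = a13 *ᵥ x := rfl

theorem z13_mem_O : z13 ∈ O QF := mem_O_of z13_apply a13_gram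

theorem z13_pow : z13 ^ 13 = 1 := by
  apply LinearEquiv.ext
  intro x
  rw [pow_apply z13_apply, a13_pow, one_mulVec]
  rfl

theorem z13_mem : z13 ∈ E QF := mem_E_of_pow z13_mem_O (k := 6) z13_pow

theorem z13_ne : z13 ≠ 1 := by
  intro h
  have h1 := DFunLike.congr_fun h a13v
  have h2 : a13 *ᵥ a13v ≠ a13v := by decide +kernel
  exact h2 h1

theorem z13_u0 : z13 u0 = u0 := by
  have h2 : a13 *ᵥ vec 1 0 0 0 0 0 0 = vec 1 0 0 0 0 0 0 := by decide +kernel
  have h3 : (u0 : V) = vec 1 0 0 0 0 0 0 := by decide +kernel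
  rw [h3]
  exact h2

/-- **`|C(z)| ≤ 13`** -/
theorem z13_cent : Nat.card (Subgroup.centralizer ({(⟨z13, z13_mem⟩ : E QF)} : Set (E QF))) ≤ 13 := by
  classical
  have hr : refl QF u0 Qu ∈ O QF := refl_mem_O (by exact Qu)
  have h := count (A := a13) z13_apply z13_mem a13_E a13_col a13T (by
      intro b hb
      have e1 : ∀ x : V, Gm *ᵥ (a13 ^ 1 *ᵥ x) = a13M1 *ᵥ x := by
        intro x
        rw [mulVec_mulVec, pow_one, a13_M1]
      have e2 : ∀ x : V, Gm *ᵥ (a13 ^ 2 *ᵥ x) = a13M2 *ᵥ x := by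
        intro x
        rw [mulVec_mulVec, pow_succ, pow_one, ← Matrix.mul_assoc, a13_M1, a13_M2]
      have e3 : ∀ x : V, Gm *ᵥ (a13 ^ 3 *ᵥ x) = a13M3 *ᵥ x := by
        intro x
        rw [mulVec_mulVec, pow_succ, pow_succ, pow_one, ← Matrix.mul_assoc, ← Matrix.mul_assoc, a13_M1, a13_M2,
          a13_M3]
      have h0 := hb 0
      have h1 := hb 1
      have h2 := hb 2
      have h3 := hb 3
      rw [pow_zero, one_mulVec, one_mulVec, a13_v0] at h0
      rw [e1, e1, a13_v1] at h1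
      rw [e2, e2, a13_v2] at h2
      rw [e3, e3, a13_v3] at h3
      rw [a13T, Finset.mem_filter, vec_co7]
      exact ⟨Finset.mem_univ _, h0, h1, h2, h3⟩)
    ![1, LinearEquiv.neg (ZMod 3), refl QF u0 Qu, LinearEquiv.neg (ZMod 3) * refl QF u0 Qu]
    (by
      intro i
      fin_cases i
      · exact one_mem _
      · exact neg_mem
      · exact hr
      · exact mul_mem neg_mem hr)
    (by
      have hc := refl_comm' z13_mem_O Qu z13_u0
      intro i
      fin_cases i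
      · exact (one_mul _).trans (mul_one _).symm
      · exact neg_comm _
      · exact hc
      · change LinearEquiv.neg (ZMod 3) * refl QF u0 Qu * z13 = z13 * (LinearEquiv.neg (ZMod 3) * _root_.Cfsg.Agent.LieClassical.OrthCore.refl QF u0 Qu)
        rw [mul_assoc, hc, ← mul_assoc, neg_comm, mul_assoc])
    (by
      have hsr : sg QF ⟨refl QF u0 Qu, hr⟩ = -1 := by
        rw [sg_refl (two_ne hF3) Qu, if_pos]
        rw [Q_u0]
        decide
      have hdr : LinearEquiv.det (refl QF (u0 : V) Qu) = -1 := det_refl Qu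
      have hs2 : sg QF ⟨LinearEquiv.neg (ZMod 3) * refl QF u0 Qu, mul_mem neg_mem hr⟩ = -1 := by
        have e1 : (⟨LinearEquiv.neg (ZMod 3) * refl QF u0 Qu, mul_mem neg_mem hr⟩ : O QF) =
          ⟨LinearEquiv.neg (ZMod 3), neg_mem⟩ * ⟨refl QF u0 Qu, hr⟩ := rfl
        rw [e1, map_mul, sg_neg, hsr, one_mul]
      have hd2 : LinearEquiv.det (LinearEquiv.neg (ZMod 3) * refl QF (u0 : V) Qu) = 1 := by
        rw [map_mul, det_neg, hdr]
        decide
      have hs1 : sg QF ⟨(1 : V ≃ₗ[ZMod 3] V), one_mem _⟩ = 1 := map_one (sg QF)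
      have hd1 : LinearEquiv.det (1 : V ≃ₗ[ZMod 3] V) = 1 := map_one _
      have n1 : (1 : (ZMod 3)ˣ) ≠ -1 := by decide
      have n2 : (1 : ℤˣ) ≠ -1 := by decide
      intro i j hij
      have h1 := congrArg Prod.fst hij
      have h2 := congrArg Prod.snd hij
      fin_cases i <;> fin_cases j <;> first | rfl | exfalso
      · exact n1 (hd1.symm.trans (h1.trans det_neg))
      · exact n1 (hd1.symm.trans (h1.trans hdr))
      · exact n2 (hs1.symm.trans (h2.trans hs2))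
      · exact n1 (hd1.symm.trans (h1.symm.trans det_neg))
      · exact n2 (sg_neg.symm.trans (h2.trans hsr))
      · exact n1 (hd2.symm.trans (h1.symm.trans det_neg))
      · exact n1 (hd1.symm.trans (h1.symm.trans hdr))
      · exact n2 (sg_neg.symm.trans (h2.symm.trans hsr))
      · exact n1 (hd2.symm.trans (h1.symm.trans hdr))
      · exact n2 (hs1.symm.trans (h2.symm.trans hs2))
      · exact n1 (hd2.symm.trans (h1.trans det_neg))
      · exact n1 (hd2.symm.trans (h1.trans hdr)))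
  rw [a13_card] at h
  omega

/-! ### the element of order 7 -/

/-- the element of order 7 -/
noncomputable def z7 : V ≃ₗ[ZMod 3] V := toE a7_inv a7_inv'

theorem z7_apply (x : V) : z7 x = a7 *ᵥ x := rfl

theorem z7_mem_O : z7 ∈ O QF := mem_O_of z7_apply a7_gram

theorem z7_pow : z7 ^ 7 = 1 := by
  apply LinearEquiv.ext
  intro x
  rw [pow_apply z7_apply, a7_pow, one_mulVec]
  rfl

theorem z7_mem : z7 ∈ E QF := mem_E_of_pow z7_mem_O (k := 3) z7_pow

theorem z7_ne : z7 ≠ 1 := by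
  intro h
  have h1 := DFunLike.congr_fun h a7v
  have h2 : a7 *ᵥ a7v ≠ a7v := by decide +kernel
  exact h2 h1

theorem z7_v0 : z7 (v0 (ZMod 3)) = v0 (ZMod 3) := by
  have h2 : a7 *ᵥ vec 0 1 0 0 2 0 0 = vec 0 1 0 0 2 0 0 := by decide +kernel
  have h3 : v0 (ZMod 3) = vec 0 1 0 0 2 0 0 := by
    change w 0 (-1) = _
    decide +kernel
  rw [h3]
  exact h2

theorem QF_eq (v : V) : QF v = v (.inl ()) ^ 2 + ∑ i : Fin 3, v (.inr (.inl i)) * v (.inr (.inr i)) :=
  Cfsg.Agent.H237.OSeven.Q_eq v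

theorem q0 : QF fv0 = 1 := (QF_eq _).trans fv0_Q
theorem q1 : QF fv1 = -1 := (QF_eq _).trans fv1_Q
theorem q2 : QF fv2 = 1 := (QF_eq _).trans fv2_Q
theorem q3 : QF fv3 = -1 := (QF_eq _).trans fv3_Q
theorem q4 : QF fv4 = -1 := (QF_eq _).trans fv4_Q
theorem q5 : QF fv5 = 1 := (QF_eq _).trans fv5_Q

theorem ne_of_one {v : V} (h : QF v = 1) : QF v ≠ 0 := by rw [h]; exact one_ne_zero

theorem ne_of_neg {v : V} (h : QF v = -1) : QF v ≠ 0 := by rw [h]; exact neg_ne_zero.2 one_ne_zero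

theorem refl_one {v : V} (h : QF v = 1) {R : M7} (hR : 1 - (1 : ZMod 3) • vecMulVec v (Gm *ᵥ v) = R) (x : V) :
    refl QF v (ne_of_one h) x = R *ᵥ x := by
  rw [refl_mat _ h, inv_one, hR]

theorem refl_neg {v : V} (h : QF v = -1) {R : M7} (hR : 1 - (-1 : ZMod 3) • vecMulVec v (Gm *ᵥ v) = R) (x : V) :
    refl QF v (ne_of_neg h) x = R *ᵥ x := by
  rw [refl_mat _ h, inv_neg, inv_one, hR]

theorem sg_one {v : V} (h : QF v = 1) : sg QF ⟨refl QF v (ne_of_one h), refl_mem_O _⟩ = -1 := by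
  classical
  rw [sg_refl (two_ne hF3), if_pos]
  rw [h]
  decide

theorem sg_neg1 {v : V} (h : QF v = -1) : sg QF ⟨refl QF v (ne_of_neg h), refl_mem_O _⟩ = 1 := by
  classical
  rw [sg_refl (two_ne hF3), if_neg]
  rw [h]
  decide

/-- the product of the six reflections, as an isometry -/
noncomputable def Fo : O QF :=
  ⟨refl QF fv0 (ne_of_one q0), refl_mem_O _⟩ * ⟨refl QF fv1 (ne_of_neg q1), refl_mem_O _⟩ *
    ⟨refl QF fv2 (ne_of_one q2), refl_mem_O _⟩ * ⟨refl QF fv3 (ne_of_neg q3), refl_mem_O _⟩ *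
    ⟨refl QF fv4 (ne_of_neg q4), refl_mem_O _⟩ * ⟨refl QF fv5 (ne_of_one q5), refl_mem_O _⟩

/-- the isometry of order 4 -/
noncomputable def Fm : V ≃ₗ[ZMod 3] V := (Fo : V ≃ₗ[ZMod 3] V)

theorem Fm_mem : Fm ∈ O QF := Fo.2

theorem Fm_apply (x : V) : Fm x = ff *ᵥ x := by
  change refl QF fv0 (ne_of_one q0) (refl QF fv1 (ne_of_neg q1) (refl QF fv2 (ne_of_one q2)
    (refl QF fv3 (ne_of_neg q3) (refl QF fv4 (ne_of_neg q4) (refl QF fv5 (ne_of_one q5) x))))) = _
  rw [refl_one q0 fR0_eq, refl_neg q1 fR1_eq, refl_one q2 fR2_eq, refl_neg q3 fR3_eq, refl_neg q4 fR4_eq,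
    refl_one q5 fR5_eq]
  simp only [mulVec_mulVec]
  rw [← ff_eq, ← fP4_eq, ← fP3_eq, ← fP2_eq, ← fP1_eq]
  simp only [Matrix.mul_assoc]

theorem sg_Fm : sg QF ⟨Fm, Fm_mem⟩ = -1 := by
  change sg QF Fo = -1
  rw [Fo, map_mul, map_mul, map_mul, map_mul, map_mul, sg_one q0, sg_neg1 q1, sg_one q2, sg_neg1 q3, sg_neg1 q4,
    sg_one q5]
  decide

theorem det_Fm : LinearEquiv.det Fm = 1 := by
  change LinearEquiv.det (refl QF fv0 (ne_of_one q0) * refl QF fv1 (ne_of_neg q1) * refl QF fv2 (ne_of_one q2) *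
    refl QF fv3 (ne_of_neg q3) * refl QF fv4 (ne_of_neg q4) * refl QF fv5 (ne_of_one q5)) = 1
  rw [map_mul, map_mul, map_mul, map_mul, map_mul, det_refl, det_refl, det_refl, det_refl, det_refl, det_refl]
  decide

theorem Fm_comm : Fm * z7 = z7 * Fm := by
  apply LinearEquiv.ext
  intro x
  change Fm (z7 x) = z7 (Fm x)
  rw [Fm_apply, z7_apply, z7_apply, Fm_apply, mulVec_mulVec, mulVec_mulVec, ff_comm]

/-- **`|C(z)| ≤ 14`** -/
theorem z7_cent_le : Nat.card (Subgroup.centralizer ({(⟨z7, z7_mem⟩ : E QF)} : Set (E QF))) ≤ 14 := by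
  classical
  have h := count (A := a7) z7_apply z7_mem a7_E a7_col a7T (by
      intro b hb
      have e1 : ∀ x : V, Gm *ᵥ (a7 ^ 1 *ᵥ x) = a7M1 *ᵥ x := by
        intro x
        rw [mulVec_mulVec, pow_one, a7_M1]
      have e2 : ∀ x : V, Gm *ᵥ (a7 ^ 2 *ᵥ x) = a7M2 *ᵥ x := by
        intro x
        rw [mulVec_mulVec, pow_succ, pow_one, ← Matrix.mul_assoc, a7_M1, a7_M2]
      have e3 : ∀ x : V, Gm *ᵥ (a7 ^ 3 *ᵥ x) = a7M3 *ᵥ x := by
        intro x
        rw [mulVec_mulVec, pow_succ, pow_succ, pow_one, ← Matrix.mul_assoc, ← Matrix.mul_assoc, a7_M1, a7_M2,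
          a7_M3]
      have h0 := hb 0
      have h1 := hb 1
      have h2 := hb 2
      have h3 := hb 3
      rw [pow_zero, one_mulVec, one_mulVec, a7_v0] at h0
      rw [e1, e1, a7_v1] at h1
      rw [e2, e2, a7_v2] at h2
      rw [e3, e3, a7_v3] at h3
      rw [a7T, Finset.mem_filter, vec_co7]
      exact ⟨Finset.mem_univ _, h0, h1, h2, h3⟩)
    ![1, LinearEquiv.neg (ZMod 3), Fm, LinearEquiv.neg (ZMod 3) * Fm]
    (by
      intro i
      fin_cases i
      · exact one_mem _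
      · exact neg_mem
      · exact Fm_mem
      · exact mul_mem neg_mem Fm_mem)
    (by
      have hc := Fm_comm
      intro i
      fin_cases i
      · exact (one_mul _).trans (mul_one _).symm
      · exact neg_comm _
      · exact hc
      · change LinearEquiv.neg (ZMod 3) * Fm * z7 = z7 * (LinearEquiv.neg (ZMod 3) * Fm)
        rw [mul_assoc, hc, ← mul_assoc, neg_comm, mul_assoc])
    (by
      have hs2 : sg QF ⟨LinearEquiv.neg (ZMod 3) * Fm, mul_mem neg_mem Fm_mem⟩ = -1 := by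
        have e1 : (⟨LinearEquiv.neg (ZMod 3) * Fm, mul_mem neg_mem Fm_mem⟩ : O QF) =
          ⟨LinearEquiv.neg (ZMod 3), neg_mem⟩ * ⟨Fm, Fm_mem⟩ := rfl
        rw [e1, map_mul, sg_neg, sg_Fm, one_mul]
      have hd2 : LinearEquiv.det (LinearEquiv.neg (ZMod 3) * Fm) = -1 := by
        rw [map_mul, det_neg, det_Fm, mul_one]
      have hs1 : sg QF ⟨(1 : V ≃ₗ[ZMod 3] V), one_mem _⟩ = 1 := map_one (sg QF)
      have hd1 : LinearEquiv.det (1 : V ≃ₗ[ZMod 3] V) = 1 := map_one _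
      have n1 : (1 : (ZMod 3)ˣ) ≠ -1 := by decide
      have n2 : (1 : ℤˣ) ≠ -1 := by decide
      intro i j hij
      have h1 := congrArg Prod.fst hij
      have h2 := congrArg Prod.snd hij
      fin_cases i <;> fin_cases j <;> first | rfl | exfalso
      · exact n1 (hd1.symm.trans (h1.trans det_neg))
      · exact n2 (hs1.symm.trans (h2.trans sg_Fm))
      · exact n1 (hd1.symm.trans (h1.trans hd2))
      · exact n1 (hd1.symm.trans (h1.symm.trans det_neg))
      · exact n1 (det_Fm.symm.trans (h1.symm.trans det_neg))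
      · exact n2 (sg_neg.symm.trans (h2.trans hs2))
      · exact n2 (hs1.symm.trans (h2.symm.trans sg_Fm))
      · exact n1 (det_Fm.symm.trans (h1.trans det_neg))
      · exact n1 (det_Fm.symm.trans (h1.trans hd2))
      · exact n1 (hd1.symm.trans (h1.symm.trans hd2))
      · exact n2 (sg_neg.symm.trans (h2.symm.trans hs2))
      · exact n1 (det_Fm.symm.trans (h1.symm.trans hd2)))
  rw [a7_card] at h
  omega

/-! ### an elementary abelian subgroup of order eight -/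

/-- the product of the reflections in `w i 1` and `u0` -/
noncomputable def ee (i : Fin 3) : E QF := ⟨refl QF (w i 1) (Qp i) * refl QF u0 Qu,
  (good hF3).refl_mul_refl_mem Qu (Qp i) (by rw [Q_w, Q_u0])⟩

theorem ee_apply (i : Fin 3) (x : V) : ((ee i : E QF) : V ≃ₗ[ZMod 3] V) x =
    refl QF (w i 1) (Qp i) (refl QF u0 Qu x) := rfl

theorem refl_mul_self' {v : V} (hv : QF v ≠ 0) : refl QF v hv * refl QF v hv = 1 := refl_mul_self hv

theorem comm_wu (i : Fin 3) : refl QF (w i 1) (Qp i) * refl QF u0 Qu = refl QF u0 Qu * refl QF (w i 1) (Qp i) := by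
  refine refl_comm ((by exact Qp i)) (by exact Qu) ?_
  rw [Cfsg.Agent.H237.OSeven.polar_w]
  simp [u0]

theorem comm_ww (i j : Fin 3) : refl QF (w i 1) (Qp i) * refl QF (w j 1) (Qp j) =
    refl QF (w j 1) (Qp j) * refl QF (w i 1) (Qp i) := by
  by_cases hij : i = j
  · subst hij
    rfl
  · refine refl_comm ((by exact Qp i)) ((by exact Qp j)) ?_
    rw [Cfsg.Agent.H237.OSeven.polar_w]
    simp [w, hij]

theorem ee_mul_self (i : Fin 3) : ee i * ee i = 1 := by
  apply Subtype.ext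
  change (refl QF (w i 1) (Qp i) * refl QF u0 Qu) * (refl QF (w i 1) (Qp i) * refl QF u0 Qu) = 1
  nth_rewrite 2 [comm_wu]
  rw [mul_assoc, ← mul_assoc (refl QF u0 Qu), refl_mul_self', one_mul, refl_mul_self']

theorem ee_mul (i j : Fin 3) : ((ee i * ee j : E QF) : V ≃ₗ[ZMod 3] V) =
    refl QF (w i 1) (Qp i) * refl QF (w j 1) (Qp j) := by
  change (refl QF (w i 1) (Qp i) * refl QF u0 Qu) * (refl QF (w j 1) (Qp j) * refl QF u0 Qu) = _
  rw [comm_wu j, mul_assoc, ← mul_assoc (refl QF u0 Qu), refl_mul_self', one_mul]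

theorem ee_comm (i j : Fin 3) : ee i * ee j = ee j * ee i := by
  apply Subtype.ext
  rw [ee_mul, ee_mul, comm_ww]

theorem refl_u_w (j : Fin 3) : refl QF u0 Qu (w j 1) = w j 1 := by
  rw [refl_u]
  simp [w]

theorem ee_self (i : Fin 3) : ((ee i : E QF) : V ≃ₗ[ZMod 3] V) (w i 1) (.inr (.inl i)) = -1 := by
  rw [ee_apply, refl_u_w, refl_p]
  simp [w]

theorem ee_other {i j : Fin 3} (h : i ≠ j) : ((ee i : E QF) : V ≃ₗ[ZMod 3] V) (w j 1) = w j 1 := by
  rw [ee_apply, refl_u_w, refl_p]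
  simp [w, h]

theorem w_one (i : Fin 3) : (w i 1 : V) (.inr (.inl i)) = 1 := by simp [w]

theorem e8 : E8 (ee 0) (ee 1) (ee 2) := by
  have n1 : (-1 : ZMod 3) ≠ 1 := by decide
  have hne : ∀ i : Fin 3, ee i ≠ 1 := by
    intro i h
    have h1 := ee_self i
    rw [h] at h1
    change (w i 1 : V) (.inr (.inl i)) = -1 at h1
    rw [w_one] at h1
    exact n1 h1.symm
  have hne2 : ∀ i j : Fin 3, i ≠ j → ee i ≠ ee j := by
    intro i j hij h
    have h1 := ee_self i
    rw [h, ee_other (Ne.symm hij), w_one] at h1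
    exact n1 h1.symm
  refine ⟨ee_mul_self 0, ee_mul_self 1, ee_mul_self 2, ee_comm 0 1, ee_comm 0 2, ee_comm 1 2, hne 0, hne 1, hne 2,
    hne2 0 1 (by decide), hne2 0 2 (by decide), hne2 1 2 (by decide), ?_⟩
  intro h
  have h1 := ee_self 2
  rw [h] at h1
  change ((ee 0 : E QF) : V ≃ₗ[ZMod 3] V) (((ee 1 : E QF) : V ≃ₗ[ZMod 3] V) (w 2 1)) (.inr (.inl 2)) = -1 at h1
  rw [ee_other (by decide), ee_other (by decide), w_one] at h1
  exact n1 h1.symm

/-! ### the row -/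

theorem z7_cent : Nat.card (Subgroup.centralizer ({(⟨z7, z7_mem⟩ : E QF)} : Set (E QF))) = 14 := by
  have hfin : Finite (E QF) := Nat.finite_of_card_ne_zero (by rw [(card_E hF3).1]; norm_num)
  have h1 := z7_cent_le
  have h7 : 7 ∣ Nat.card (Subgroup.centralizer ({(⟨z7, z7_mem⟩ : E QF)} : Set (E QF))) := by
    have : Fact (Nat.Prime 7) := ⟨by norm_num⟩
    have h2 : orderOf (⟨z7, z7_mem⟩ : E QF) = 7 :=
      orderOf_eq_prime (Subtype.ext z7_pow) (fun h => z7_ne (congrArg Subtype.val h))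
    nth_rewrite 1 [← h2]
    exact Subgroup.orderOf_dvd_natCard _ (Nine.mem_cent.2 rfl)
  have h2 : 2 ∣ Nat.card (Subgroup.centralizer ({(⟨z7, z7_mem⟩ : E QF)} : Set (E QF))) := by
    have : Fact (Nat.Prime 2) := ⟨Nat.prime_two⟩
    obtain ⟨-, z, hz1, hz2, -, -⟩ := Cfsg.Agent.H237.OSevenG.dat_E hF3
    have h3 : orderOf (zE hF3) = 2 := by
      refine orderOf_eq_prime ?_ ?_
      · rw [pow_two]
        exact Subtype.ext (Cfsg.Agent.H237.OSeven.zz_mul_self _)
      · intro h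
        have h4 : zz QF (v0 (ZMod 3)) (Qm 0) = 1 := congrArg Subtype.val h
        have h5 := det_neg
        have h6 : (LinearEquiv.neg (ZMod 3) : V ≃ₗ[ZMod 3] V) = refl QF (v0 (ZMod 3)) (Qm 0) := by
          have h7 := eq_inv_of_mul_eq_one_left h4
          rw [h7]
          exact (refl_inv ((by exact Qm 0)))
        have h8 := DFunLike.congr_fun h6 (u0 : V)
        have h9 : refl QF (v0 (ZMod 3)) (Qm 0) (u0 : V) = u0 := by
          rw [Cfsg.Agent.H237.OSeven.refl_m]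
          simp [u0]
        rw [h9] at h8
        have h10 := congrFun h8 (.inl ())
        change -(u0 : V) (.inl ()) = (u0 : V) (.inl ()) at h10
        revert h10
        decide
    rw [← h3]
    refine Subgroup.orderOf_dvd_natCard _ (Nine.mem_cent.2 ?_)
    apply Subtype.ext
    change zz QF (v0 (ZMod 3)) (Qm 0) * z7 = z7 * zz QF (v0 (ZMod 3)) (Qm 0)
    rw [zz, mul_assoc, refl_comm' z7_mem_O (Qm 0) z7_v0, ← mul_assoc, neg_comm, mul_assoc]
  have hpos : 0 < Nat.card (Subgroup.centralizer ({(⟨z7, z7_mem⟩ : E QF)} : Set (E QF))) := Nat.card_pos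
  (clear * - h1 h7 h2 hpos; solve | lia | omega)

/-- **`Ω₇(3)`.** -/
theorem row_E {S : Type u} [Group S] [Finite S] (hs : IsSimpleGroup S) (e : E QF ≃* S) : H730.OZ.Row S := by
  have hs' := hs
  have hN := (card_E hF3).1
  have h13 : orderOf (e ⟨z13, z13_mem⟩) = 13 := by
    have : Fact (Nat.Prime 13) := ⟨by norm_num⟩
    rw [MulEquiv.orderOf_eq]
    exact orderOf_eq_prime (Subtype.ext z13_pow) (fun h => z13_ne (congrArg Subtype.val h))
  have h7 : orderOf (e ⟨z7, z7_mem⟩) = 7 := by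
    have : Fact (Nat.Prime 7) := ⟨by norm_num⟩
    rw [MulEquiv.orderOf_eq]
    exact orderOf_eq_prime (Subtype.ext z7_pow) (fun h => z7_ne (congrArg Subtype.val h))
  obtain ⟨-, z, hz1, hz2, hz3, -⟩ := Cfsg.Agent.H237.OSevenG.dat_E hF3
  refine row_nine (G := S) (by rw [← Nat.card_congr e.toEquiv, hN]) h7 ?_ h13 ?_ (t := e z)
    (fun h => hz2 (e.injective (by rw [h, map_one]))) (by rw [← map_mul, hz1, map_one]) ?_
    (e8.map e.toMonoidHom e.injective)
  · rw [Cfsg.Agent.H237.OSevenG.card_cent_congr]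
    exact z7_cent
  · rw [Cfsg.Agent.H237.OSevenG.card_cent_congr]
    exact z13_cent
  · rw [Cfsg.Agent.H237.OSevenG.card_cent_congr]
    exact hz3

/-- **`PΩ₇(3)`.** -/
theorem row_o7_3 {S : Type u} [Group S] [Finite S] (hs : IsSimpleGroup S) {F : Type} [Field F] [Fintype F]
    (hF : Fintype.card F = 3) (e : S ≃* POmega F (quadFormOdd 3 F)) : H730.OZ.Row S := by
  obtain ⟨σ⟩ := Cfsg.Agent.H237.OSeven.ringEquiv (F := F) (by rw [Nat.card_eq_fintype_card, hF])
  obtain ⟨f⟩ := Cfsg.Agent.UGT.U2.Rec.Congr.nonempty_POmegaOdd σ 3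
  obtain ⟨-, ⟨k⟩⟩ := card_E hF3
  exact row_E hs ((e.trans f).trans k).symm

end Cfsg.Agent.H328.OZ.OSevenThree
end

private theorem dce_75acdb972dcd : _root_.True := by
  try have : _root_.True := by simp only [_root_.Cfsg.Agent.H328.OZ.SevenData.mat.eq_1]
  try have : _root_.True := by simp only [_root_.Cfsg.Agent.H328.OZ.SevenData.Gm.eq_1]
  try have : _root_.True := by simp only [_root_.Cfsg.Agent.H328.OZ.SevenData.a7N2.eq_1]
  try have : _root_.True := by simp only [_root_.Cfsg.Agent.H328.OZ.SevenData.a13T.eq_1]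
  try have : _root_.True := by simp only [_root_.Cfsg.Agent.H328.OZ.SevenData.a7T.eq_1]
  try have : _root_.True := by simp only [_root_.Cfsg.Agent.H328.OZ.SevenData.vec.eq_1]
  try have : _root_.True := by simp only [_root_.Cfsg.Agent.H328.OZ.SevenData.a13M1.eq_1]
  try have : _root_.True := by simp only [_root_.Cfsg.Agent.H328.OZ.SevenData.sdN0.eq_1]
  try have : _root_.True := by simp only [_root_.Cfsg.Agent.H328.OZ.SevenData.vec7.eq_1]
  try have : _root_.True := by simp only [_root_.Cfsg.Agent.H328.OZ.SevenData.a13N2.eq_1]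
  try have : _root_.True := by simp only [_root_.Cfsg.Agent.H328.OZ.SevenData.a7M1.eq_1]
  try have : _root_.True := by simp only [_root_.Cfsg.Agent.H328.OZ.SevenData.a7N3.eq_1]
  try have : _root_.True := by simp only [_root_.Cfsg.Agent.H328.OZ.SevenData.a13N1.eq_1]
  try have : _root_.True := by simp only [_root_.Cfsg.Agent.H328.OZ.SevenData.a7M2.eq_1]
  try have : _root_.True := by simp only [_root_.Cfsg.Agent.H328.OZ.SevenData.a7N1.eq_1]
  try have : _root_.True := by simp only [_root_.Cfsg.Agent.H328.OZ.OSevenThree.Fo.eq_1]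
  try have : _root_.True := by simp only [_root_.Cfsg.Agent.H328.OZ.SevenData.a7M3.eq_1]
  try have : _root_.True := by simp only [_root_.Cfsg.Agent.H328.OZ.SevenData.a13M3.eq_1]
  try have : _root_.True := by simp only [_root_.Cfsg.Agent.H328.OZ.SevenData.a7Test.eq_1]
  try have : _root_.True := by simp only [_root_.Cfsg.Agent.H328.OZ.SevenData.a13N3.eq_1]
  try have : _root_.True := by simp only [_root_.Cfsg.Agent.H656.OZ.nv.eq_1]
  try have : _root_.True := by simp only [_root_.Cfsg.Agent.H328.OZ.SevenData.a13M2.eq_1]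
  try have : _root_.True := by simp only [_root_.Cfsg.Agent.H237.OSeven.zz.eq_1]
  try have : _root_.True := by simp only [_root_.Cfsg.Agent.H328.OZ.SevenData.a13Test.eq_1]
  exact _root_.True.intro
end

-- part: H448/Van/RowE8
section
set_option linter.all false

/-!
# S4842: the row `E₈` without hypotheses (helper448, endgame of helper695)
-/

set_option autoImplicit false

open Cfsg

namespace Cfsg.Agent.H448.Van

universe u

/-- **`E₈(q)`**, all `q`. -/
theorem row_e8 {S : Type u} [Group S] [Finite S] (hs : IsSimpleGroup S) (h : Lie.IsoE8 S) : H730.OZ.Row S := by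
  obtain ⟨F, i1, i2, ⟨e⟩⟩ := h
  obtain ⟨p, hc⟩ := CharP.exists F
  obtain ⟨a, hp, ha⟩ := FiniteField.card F p
  have : Fact p.Prime := ⟨hp⟩
  have hs' : IsSimpleGroup ↥(Lie.chevE8.group F) := (MulEquiv.isSimpleGroup_congr e).1 hs
  exact H730.OZ.Row.congr e (H730.OZ.Row.of_none (H695.OneZero.none_E8_of' hs' hp a.pos ha
    (H279.OZ.kaw_of_hasRGD hp (Nodes.RGDChev.hasRGD_E8 F p)) fun r hr ho => rankOneAt_E8 hp a.pos ha hr ho))

end Cfsg.Agent.H448.Van
end

-- part: H639/OZ/OmAsm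
section
prune_inst 0x80000000000000c010000
set_option linter.all false
open scoped Cfsg.Agent.FastGrp

/-!
# S4842: the rows `Ω_7(q)`, `q ≥ 5`, and `Ω_9(q)`, `q` odd (helper639)
-/

set_option autoImplicit false
set_option linter.unusedSectionVars false

open Cfsg

namespace Cfsg.Agent.H639.OZ

open CoxeterSystem Cfsg.Agent.ChevalleyStructure.CoxeterGeom Cfsg.Agent.Tits.Roots Cfsg.Agent.Nodes.TypeC
open Cfsg.Agent.Nodes Cfsg.Agent.Nodes.Comb Cfsg.Agent.Nodes.Reps Cfsg.Agent.Nodes.WittRoot Cfsg.Agent.Nodes.BNOf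
open Cfsg.Agent.Nodes.WittRGD Cfsg.Agent.Nodes.RGDLib Cfsg.Agent.Nodes.WittAll
open Cfsg.Agent.TitsThree Cfsg.Agent.TitsThree.Siegel Cfsg.Agent.TitsThree.WittFrame
  Cfsg.Agent.TitsThree.WittWeyl Cfsg.Agent.TitsThree.FrameCN
open Cfsg.Agent.Nodes.Bruhat Cfsg.Agent.H985.VZ Cfsg.Agent.H200.VZ Cfsg.Agent.H730.OZ
open QuadraticMap Cfsg.Agent.LieClassical Cfsg.Agent.LieClassical.OrthCore Cfsg.Agent.LieClassical.OrthForms
open Cfsg.Agent.TitsThree.KSideO Cfsg.Agent.TitsThree.WBridge Cfsg.Agent.Nodes.WittU Cfsg.Agent.Nodes.WittInst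
open Cfsg.Agent.H644.OZ

universe u

/-- two non-conjugate elliptic elements with `HD` -/
def TwoO (m : ℕ) (F : Type) [Field F] [Finite F] (h2 : (2 : F) ≠ 0) (hG : LieClassical.OrthTrans.Good (oddForm m F))
    (hp : ∃ p : (toFrame (wodd m F)).Adm, p.c ≠ 0) {p0 : (toFrame (wodd m F)).Adm} (hp0 : p0.c ≠ 0) (i : Fin m) :
    Prop :=
  ∃ t t' : Cfsg.POmega F ⇑(oddForm m F),
    (Ell (CoxeterMatrix.B m).toCoxeterSystem (isCartan m) (WittModel.T (model (wodd m F) hG hp))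
        (WittModel.X (model (wodd m F) hG hp)) {i}ᶜ t ∧
      HD (CoxeterMatrix.B m).toCoxeterSystem (isCartan m) (WittModel.T (model (wodd m F) hG hp))
        (WittModel.nw (model (wodd m F) hG hp) (amb_O_of_two _ h2) p0) (WittModel.X (model (wodd m F) hG hp))
        (hh (model (wodd m F) hG hp) (fun _ => rfl) (amb_O_of_two _ h2) hp0) {i}ᶜ t) ∧
    (Ell (CoxeterMatrix.B m).toCoxeterSystem (isCartan m) (WittModel.T (model (wodd m F) hG hp))
        (WittModel.X (model (wodd m F) hG hp)) {i}ᶜ t' ∧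
      HD (CoxeterMatrix.B m).toCoxeterSystem (isCartan m) (WittModel.T (model (wodd m F) hG hp))
        (WittModel.nw (model (wodd m F) hG hp) (amb_O_of_two _ h2) p0) (WittModel.X (model (wodd m F) hG hp))
        (hh (model (wodd m F) hG hp) (fun _ => rfl) (amb_O_of_two _ h2) hp0) {i}ᶜ t') ∧ ¬ IsConj t t'

theorem two_ne_zero_of_odd {F : Type} [Field F] [Fintype F] (ho : Odd (Fintype.card F)) : (2 : F) ≠ 0 := by
  intro h
  obtain ⟨p, hp⟩ := CharP.exists F
  have h1 : p ∣ 2 := (CharP.cast_eq_zero_iff F p 2).1 (by exact_mod_cast h)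
  have hpp := CharP.char_is_prime F p
  have h3 : p = 2 := (Nat.prime_dvd_prime_iff_eq hpp Nat.prime_two).1 h1
  subst h3
  obtain ⟨a, -, ha⟩ := FiniteField.card F 2
  rw [ha] at ho
  exact absurd ho (by rw [Nat.not_odd_iff_even]; exact (even_two).pow_of_ne_zero a.ne_zero)

/-- **the row `Ω_7(q)`, `q ≥ 5` odd** -/
theorem row_om7_of {F : Type} [Field F] [Fintype F] (ho : Odd (Fintype.card F)) (h5 : 5 ≤ Fintype.card F)
    (hE : ∀ (h2 : (2 : F) ≠ 0) (hG : LieClassical.OrthTrans.Good (oddForm 3 F))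
      (hp : ∃ p : (toFrame (wodd 3 F)).Adm, p.c ≠ 0) {p0 : (toFrame (wodd 3 F)).Adm} (hp0 : p0.c ≠ 0),
      TwoO 3 F h2 hG hp hp0 2 ∧ TwoO 3 F h2 hG hp hp0 1)
    {S : Type u} [Group S] [Finite S] (hs : IsSimpleGroup S) (e : S ≃* POmega F (quadFormOdd 3 F)) : Row S := by
  have h2 := two_ne_zero_of_odd ho
  obtain ⟨p, hp⟩ := CharP.exists F
  have hpp : Fact p.Prime := ⟨CharP.char_is_prime F p⟩
  obtain ⟨a, -, ha⟩ := FiniteField.card F p
  have hG := Cfsg.Agent.H410.OZ.good_odd (m := 3) h2 (by norm_num)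
  have hP := Cfsg.Agent.H410.OZ.adm_odd 3 F
  obtain ⟨p0, hp0⟩ := hP
  have hP : ∃ p : (toFrame (wodd 3 F)).Adm, p.c ≠ 0 := ⟨p0, hp0⟩
  have e1 : Cfsg.POmega F ⇑(oddForm 3 F) ≃* POmega F (quadFormOdd 3 F) := by rw [coe_oddForm]
  have hfin : Finite (Cfsg.POmega F ⇑(oddForm 3 F)) := Finite.of_injective _ (e1.trans e.symm).injective
  have hs1 : IsSimpleGroup (Cfsg.POmega F ⇑(oddForm 3 F)) := (e1.trans e.symm).isSimpleGroup_congr.2 hs
  obtain ⟨hE1, hE2⟩ := hE h2 hG hP hp0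
  have hrow : Row (Cfsg.POmega F ⇑(oddForm 3 F)) := by
    refine Cfsg.Agent.H448.OZ.row_seven hs1 e1 ho h5 hpp.out a.pos ha fun χ hχ hz hS => ?_
    obtain ⟨r, hr1, hr2, hr3, hr4⟩ := Cfsg.Agent.H366.OZ.nd_oodd ho le_rfl e1 hpp.out ha
    rw [ha] at hr2 hr3
    exact false_three true (Cfsg.Agent.H769.OZ.rgd_om hG hP (CoxeterMatrix.B 3).toCoxeterSystem h2 hp0) hpp.out
      (Cfsg.Agent.H769.OZ.GG_om hG hP _ (by norm_num)) (Cfsg.Agent.H769.OZ.T_comm_om h2 hG hP)
      (td_O h2 hG hP (by norm_num) (fun _ => rfl) _ hp0 hp0) a.pos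
      (fun i => by rw [Cfsg.Agent.H769.OZ.qq_om, Nat.card_eq_fintype_card, ha]) hE1 hE2 hχ hz hS
      ⟨r, hr1, hr2, hr3, hr4 χ hχ hz⟩
  exact Row.congr (e.trans e1.symm) hrow

/-- **the row `Ω_9(q)`, `q` odd** -/
theorem row_om9_of {F : Type} [Field F] [Fintype F] (ho : Odd (Fintype.card F))
    (hE : ∀ (h2 : (2 : F) ≠ 0) (hG : LieClassical.OrthTrans.Good (oddForm 4 F))
      (hp : ∃ p : (toFrame (wodd 4 F)).Adm, p.c ≠ 0) {p0 : (toFrame (wodd 4 F)).Adm} (hp0 : p0.c ≠ 0),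
      TwoO 4 F h2 hG hp hp0 3 ∧ TwoO 4 F h2 hG hp hp0 2)
    {S : Type u} [Group S] [Finite S] (hs : IsSimpleGroup S) (e : S ≃* POmega F (quadFormOdd 4 F)) : Row S := by
  have h2 := two_ne_zero_of_odd ho
  obtain ⟨p, hp⟩ := CharP.exists F
  have hpp : Fact p.Prime := ⟨CharP.char_is_prime F p⟩
  obtain ⟨a, -, ha⟩ := FiniteField.card F p
  have hG := Cfsg.Agent.H410.OZ.good_odd (m := 4) h2 (by norm_num)
  have hP := Cfsg.Agent.H410.OZ.adm_odd 4 F
  obtain ⟨p0, hp0⟩ := hP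
  have hP : ∃ p : (toFrame (wodd 4 F)).Adm, p.c ≠ 0 := ⟨p0, hp0⟩
  have e1 : Cfsg.POmega F ⇑(oddForm 4 F) ≃* POmega F (quadFormOdd 4 F) := by rw [coe_oddForm]
  have hfin : Finite (Cfsg.POmega F ⇑(oddForm 4 F)) := Finite.of_injective _ (e1.trans e.symm).injective
  have hs1 : IsSimpleGroup (Cfsg.POmega F ⇑(oddForm 4 F)) := (e1.trans e.symm).isSimpleGroup_congr.2 hs
  obtain ⟨hE1, hE2⟩ := hE h2 hG hP hp0
  have hrow : Row (Cfsg.POmega F ⇑(oddForm 4 F)) := by
    refine Cfsg.Agent.H448.OZ.row_nine hs1 e1 ho hpp.out a.pos ha fun χ hχ hz hS => ?_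
    obtain ⟨r, hr1, hr2, hr3, hr4⟩ := Cfsg.Agent.H366.OZ.nd_oodd ho (by norm_num : 3 ≤ 4) e1 hpp.out ha
    rw [ha] at hr2 hr3
    exact false_four true (Cfsg.Agent.H769.OZ.rgd_om hG hP (CoxeterMatrix.B 4).toCoxeterSystem h2 hp0) hpp.out
      (Cfsg.Agent.H769.OZ.GG_om hG hP _ (by norm_num)) (Cfsg.Agent.H769.OZ.T_comm_om h2 hG hP)
      (td_O h2 hG hP (by norm_num) (fun _ => rfl) _ hp0 hp0) a.pos
      (fun i => by rw [Cfsg.Agent.H769.OZ.qq_om, Nat.card_eq_fintype_card, ha]) hE1 hE2 hχ hz hS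
      ⟨r, hr1, hr2, hr3, hr4 χ hχ hz⟩
  exact Row.congr (e.trans e1.symm) hrow

section Final

variable {F : Type} [Field F] [Fintype F]

/-- **the row `Ω_7(q)`, `q ≥ 5` odd** -/
theorem row_om7 {S : Type u} [Group S] [Finite S] (hs : IsSimpleGroup S) (h5 : 5 ≤ Fintype.card F)
    (ho : Odd (Fintype.card F)) (e : S ≃* POmega F (quadFormOdd 3 F)) : Row S := by
  refine row_om7_of ho h5 (fun h2 hG hp p0 hp0 => ⟨?_, ?_⟩) hs e
  · obtain ⟨t, t', a, b, c, d, e⟩ := odd_last_HD (CoxeterMatrix.B 3).toCoxeterSystem h2 hG hp hp0 (Or.inl rfl)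
      (i := (2 : Fin 3)) rfl
    exact ⟨t, t', ⟨a, d⟩, ⟨b, e⟩, c⟩
  · obtain ⟨t, t', a, b, c, d, e⟩ := odd_pen3_HD (CoxeterMatrix.B 3).toCoxeterSystem h2 hG hp hp0
      (by rw [Nat.card_eq_fintype_card]; omega) (i := (1 : Fin 3)) rfl
    exact ⟨t, t', ⟨a, d⟩, ⟨b, e⟩, c⟩

/-- **the row `Ω_9(q)`, `q` odd** -/
theorem row_om9 {S : Type u} [Group S] [Finite S] (hs : IsSimpleGroup S)
    (ho : Odd (Fintype.card F)) (e : S ≃* POmega F (quadFormOdd 4 F)) : Row S := by
  refine row_om9_of ho (fun h2 hG hp p0 hp0 => ⟨?_, ?_⟩) hs e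
  · obtain ⟨t, t', a, b, c, d, e⟩ := odd_last_HD (CoxeterMatrix.B 4).toCoxeterSystem h2 hG hp hp0 (Or.inr rfl)
      (i := (3 : Fin 4)) rfl
    exact ⟨t, t', ⟨a, d⟩, ⟨b, e⟩, c⟩
  · obtain ⟨t, t', a, b, c, d, e⟩ := odd_pen_HD (CoxeterMatrix.B 4).toCoxeterSystem h2 hG hp hp0 rfl
      (i := (2 : Fin 4)) rfl
    exact ⟨t, t', ⟨a, d⟩, ⟨b, e⟩, c⟩

end Final

end Cfsg.Agent.H639.OZ
end

-- part: H128/OZ/PlusDone_mg
section
prune_inst 0x6310025004d0000040000000240201e02a2000420000800000002020007880c220080a020202000020a0080050031006811000000420000000a000000011900800000020081080000020010000080400000000000000000000000000000000000000000000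
set_option linter.all false
open scoped Cfsg.Agent.FastGrp

-- part: H639/OZ/DEnd
section
/-!
# S4842: `PΩ⁺_8`, the Hecke end for `x = 12` (helper639)

`M = TypeD.M 2` (centre `1`), `V^B ≠ 0`, `d = dim V^B`, `k_i = dim V^{P_i}`.

* `finrank_eq_of_three` : `k_i = k_j` if `M i j = 3`;
* `word_dfour` : `w0 = (s_0 s_2 s_3 s_1)^3`;
* `d4_dim`  : `d = 2 k_i` if `∑ χ = ± p^(12 a) χ(1)`;
* `d4_zero` : `χ = 0` on `Ell {i}`;
* `d4_even` : `χ ∈ 2 ℤ` on `Ell {x, 1, y}` (type `A_3`).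
-/

set_option autoImplicit false
set_option linter.unusedSectionVars false

open Cfsg

namespace Cfsg.Agent.H639.OZ

open CoxeterSystem Cfsg.Agent.ChevalleyStructure.CoxeterGeom Cfsg.Agent.Tits.Roots Cfsg.Agent.Tits.Core
  Cfsg.Agent.Tits.Exchange Cfsg.Agent.Nodes.Reps Cfsg.Agent.Nodes.BNOf Cfsg.Agent.Nodes.StabComb
  Cfsg.Agent.Nodes.Bruhat Cfsg.Agent.Nodes.OppDec Cfsg.Agent.Nodes.LeviDec Cfsg.Agent.H985.VZ Module
  Cfsg.Agent.H200.VZ Cfsg.Agent.H898.VZ Cfsg.Agent.H644.OZ Cfsg.Agent.H694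

universe u v

section lin

variable {E : Type*} [AddCommGroup E] [Module ℂ E]

/-- `T` is injective -/
theorem Quad.inj {T : Module.End ℂ E} {q : ℕ} (h : Quad T q) (hq : 0 < q) : Function.Injective T := by
  rw [← LinearMap.ker_eq_bot, eq_bot_iff]
  intro v hv
  have h1 := h.sq v
  rw [LinearMap.mem_ker.1 hv, map_zero, smul_zero, zero_add] at h1
  exact (smul_eq_zero.1 h1.symm).resolve_left (by exact_mod_cast hq.ne')

/-- `(S T) (ker (S - q)) ⊆ ker (T - q)` -/
theorem finrank_le_of_braid [FiniteDimensional ℂ E] {S T : Module.End ℂ E} {q : ℕ} (hq : 0 < q) (hS : Quad S q)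
    (hT : Quad T q) (hb : S * T * S = T * S * T) : finrank ℂ (Fq S q) ≤ finrank ℂ (Fq T q) := by
  have hb' : ∀ w, S (T (S w)) = T (S (T w)) := fun w => congrArg (fun f : Module.End ℂ E => f w) hb
  have h1 : ∀ v ∈ Fq S q, (S * T) v ∈ Fq T q := by
    intro v hv
    rw [mem_Fq, Module.End.mul_apply, ← hb', mem_Fq.1 hv, map_smul, map_smul]
  refine LinearMap.finrank_le_finrank_of_injective (f := (S * T).restrict h1) ?_
  intro v w hvw
  have h2 := congrArg Subtype.val hvw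
  exact Subtype.ext (hT.inj hq (hS.inj hq h2))

end lin

section

variable {I W : Type*} {Y : Type u} [Fintype I] [DecidableEq I] [Group W] [Group Y] {M : CoxeterMatrix I}
  {cs : CoxeterSystem M W} {A : I → I → ℤ} {h : IsCartan M A} {p : ℕ} {T : Subgroup Y} {n : I → Y}
  {X : (I → ℤ) → Subgroup Y} {V : Type v} [AddCommGroup V] [Module ℂ V] {ρ : Representation ℂ Y V}
  (R : RGD cs h p T n X) [Finite W] [Finite Y] [FiniteDimensional ℂ V]

include R

theorem finrank_le_of_three {i j : I} (hm : M i j = 3) :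
    finrank ℂ (fx ρ (PJ cs h T X {i})) ≤ finrank ℂ (fx ρ (PJ cs h T X {j})) := by
  rw [← finrank_Fq R i, ← finrank_Fq R j, ← qq_eq R hm]
  exact finrank_le_of_braid Nat.card_pos (quad R i) (by rw [qq_eq R hm]; exact quad R j) (braid_three R hm)

theorem finrank_eq_of_three {i j : I} (hm : M i j = 3) :
    finrank ℂ (fx ρ (PJ cs h T X {i})) = finrank ℂ (fx ρ (PJ cs h T X {j})) :=
  le_antisymm (finrank_le_of_three R hm) (finrank_le_of_three R (by rw [M.symmetric]; exact hm))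

/-- `χ` on `Ell {i}` -/
theorem char_A1 (hG : GG cs h T X = ⊤) (hρ : ρ.IsIrreducible) (h0 : fx ρ (RGD.B cs h T X) ≠ ⊥) {i : I} {t : Y}
    (ht : Ell cs h T X {i} t) : ρ.character t =
      2 * finrank ℂ (fx ρ (PJ cs h T X {i})) - finrank ℂ (fx ρ (RGD.B cs h T X)) := by
  rw [char_of_cert R hG hρ h0 ht cert_A1 (![∅, {i}] : Fin 2 → Set I) ?_ ?_ ?_ ?_ (nd_A1 cs h i)]
  · change ∑ k : Fin 2, _ * ((dP cs h T X ρ _ : ℕ) : ℂ) = 2 * ((dP cs h T X ρ {i} : ℕ) : ℂ) - _
    have f0 : dP cs h T X ρ ∅ = finrank ℂ (fx ρ (RGD.B cs h T X)) := by unfold dP; rw [PJ_empty R]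
    rw [Fin.sum_univ_two]
    simp only [Matrix.cons_val_zero, Matrix.cons_val_one, cA1, f0]
    push_cast
    ring
  · intro k
    fin_cases k <;> simp
  · rfl
  · rfl
  · intro k hk hS
    have hne : i ∈ ({i} : Set I) := rfl
    fin_cases k
    · rw [← hS] at hne; simp at hne
    · exact hk rfl

/-- `χ` on `Ell A_3` -/
theorem char_A3 (hG : GG cs h T X = ⊤) (hρ : ρ.IsIrreducible) (h0 : fx ρ (RGD.B cs h T X) ≠ ⊥) {x y z : I}
    (hxy : M x y = 3) (hyz : M y z = 3) (hxz : M x z = 2) {t : Y}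
    (ht : Ell cs h T X {x, y, z} t) : ρ.character t =
      4 * finrank ℂ (fx ρ (PJ cs h T X {x, y, z})) - 4 * finrank ℂ (fx ρ (PJ cs h T X {x, y})) -
        2 * finrank ℂ (fx ρ (PJ cs h T X {x, z})) + 4 * finrank ℂ (fx ρ (PJ cs h T X {x})) -
        finrank ℂ (fx ρ (RGD.B cs h T X)) := by
  have h1 : x ≠ y := fun e => by rw [e, M.diagonal] at hxy; omega
  have h2 : y ≠ z := fun e => by rw [e, M.diagonal] at hyz; omega
  have h3 : x ≠ z := fun e => by rw [e, M.diagonal] at hxz; omega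
  rw [char_of_cert R hG hρ h0 ht cert_A3 (![∅, {x}, {x, z}, {x, y}, {x, y, z}] : Fin 5 → Set I) ?_ ?_ ?_ ?_
    (nd_A3 cs h hxy hyz hxz)]
  · have e2 : (![∅, {x}, {x, z}, {x, y}, {x, y, z}] : Fin 5 → Set I) 2 = {x, z} := rfl
    have e3 : (![∅, {x}, {x, z}, {x, y}, {x, y, z}] : Fin 5 → Set I) 3 = {x, y} := rfl
    have e4 : (![∅, {x}, {x, z}, {x, y}, {x, y, z}] : Fin 5 → Set I) 4 = {x, y, z} := rfl
    have c2 : cA3 2 = -2 := rfl
    have c3 : cA3 3 = -4 := rfl
    have c4 : cA3 4 = 4 := rfl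
    have c0 : cA3 0 = -1 := rfl
    have c1 : cA3 1 = 4 := rfl
    change ∑ k : Fin 5, _ * ((dP cs h T X ρ _ : ℕ) : ℂ) = 4 * ((dP cs h T X ρ {x, y, z} : ℕ) : ℂ) -
      4 * ((dP cs h T X ρ {x, y} : ℕ) : ℂ) - 2 * ((dP cs h T X ρ {x, z} : ℕ) : ℂ) +
      4 * ((dP cs h T X ρ {x} : ℕ) : ℂ) - _
    have f0 : dP cs h T X ρ ∅ = finrank ℂ (fx ρ (RGD.B cs h T X)) := by unfold dP; rw [PJ_empty R]
    rw [Fin.sum_univ_five]
    simp only [e2, e3, e4, c0, c1, c2, c3, c4, Matrix.cons_val_zero, Matrix.cons_val_one, f0]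
    push_cast
    ring
  · intro k
    fin_cases k
    · exact Set.empty_subset _
    · intro w hw; exact Or.inl hw
    · rintro w (rfl | rfl)
      · exact Or.inl rfl
      · exact Or.inr (Or.inr rfl)
    · rintro w (rfl | rfl)
      · exact Or.inl rfl
      · exact Or.inr (Or.inl rfl)
    · exact subset_rfl
  · rfl
  · rfl
  · intro k hk hS
    have hy : y ∈ ({x, y, z} : Set I) := Or.inr (Or.inl rfl)
    have hz : z ∈ ({x, y, z} : Set I) := Or.inr (Or.inr rfl)
    fin_cases k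
    · rw [← hS] at hy; exact hy
    · rw [← hS] at hy; exact h1.symm hy
    · rw [← hS] at hy
      rcases hy with e | e
      · exact h1.symm e
      · exact h2 e
    · rw [← hS] at hz
      rcases hz with e | e
      · exact h3.symm e
      · exact h2.symm e
    · exact hk rfl

end

/-- the letters -/
def letD (t : ℕ) : Fin 4 := (![0, 2, 3, 1] : Fin 4 → Fin 4) (Fin.ofNat 4 t)

def stD (t : ℕ) : Fin 4 → ℤ :=
  (![![1, 1, 1, 1], ![-1, 2, 1, 1], ![-1, 3, -1, 1], ![-1, 4, -1, -1], ![3, -4, 3, 3], ![-3, -1, 3, 3],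
    ![-3, 2, -3, 3], ![-3, 5, -3, -3], ![2, -5, 2, 2], ![-2, -3, 2, 2], ![-2, -1, -2, 2], ![-2, 1, -2, -2],
    ![-1, -1, -1, -1]] : Fin 13 → Fin 4 → ℤ) (Fin.ofNat 13 t)

/-- the Cartan matrix of type `D_4` -/
def cartD : Fin 4 → Fin 4 → ℤ := ![![2, -1, 0, 0], ![-1, 2, -1, -1], ![0, -1, 2, 0], ![0, -1, 0, 2]]

theorem isCartanD : IsCartan (Cfsg.Agent.Nodes.TypeD.M 2) cartD :=
  ⟨by decide, by intro i j hij; fin_cases i <;> fin_cases j <;> first | exact absurd rfl hij | decide⟩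

theorem word_dfour {W : Type*} [Group W] [Finite W] (cs : CoxeterSystem (Cfsg.Agent.Nodes.TypeD.M 2) W) :
    cs.IsReduced ((List.range 12).map letD) ∧ cs.wordProd ((List.range 12).map letD) = w0 cs :=
  word_w0 cs isCartanD letD stD (by decide) (by decide) (by decide +kernel) (by decide)

theorem count_dfour : ∀ i, ((List.range 12).map letD).count i = 3 := by decide

section

variable {W : Type*} {Y : Type u} [Group W] [Group Y] [Finite W] [Finite Y] {p : ℕ} {T : Subgroup Y}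
  {V : Type v} [AddCommGroup V] [Module ℂ V] {ρ : Representation ℂ Y V} [FiniteDimensional ℂ V]
  {cs : CoxeterSystem (Cfsg.Agent.Nodes.TypeD.M 2) W} {A : Fin 4 → Fin 4 → ℤ}
  {h : IsCartan (Cfsg.Agent.Nodes.TypeD.M 2) A} {n : Fin 4 → Y} {X : (Fin 4 → ℤ) → Subgroup Y} (R : RGD cs h p T n X)

include R

theorem d4_k (i : Fin 4) : finrank ℂ (fx ρ (PJ cs h T X {i})) = finrank ℂ (fx ρ (PJ cs h T X {1})) := by
  fin_cases i
  · exact finrank_eq_of_three R (by decide)
  · rfl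
  · exact finrank_eq_of_three R (by decide)
  · exact finrank_eq_of_three R (by decide)

/-- `m d = 24 a k` -/
theorem d4_det (hp : p.Prime) (hG : GG cs h T X = ⊤) (hρ : ρ.IsIrreducible) (h0 : fx ρ (RGD.B cs h T X) ≠ ⊥)
    {m : ℕ} {e : ℤ} (he : e = 1 ∨ e = -1)
    (hS : ∑ᶠ g ∈ Cfsg.Agent.H730.OZ.pSet p Y, ρ.character g = (e : ℂ) * (p : ℂ) ^ m * ρ.character 1)
    {a : ℕ} (hq : ∀ i, qq X i = p ^ a) (i : Fin 4) :
    m * finrank ℂ (fx ρ (RGD.B cs h T X)) = 24 * a * finrank ℂ (fx ρ (PJ cs h T X {i})) := by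
  have h1 := (Cfsg.Agent.H695.OneZero.Det.det_formula_count R hp hG hρ h0 he hS (a := fun _ => a) hq).2 _
    (word_dfour cs).1 (word_dfour cs).2
  rw [h1, Finset.sum_congr rfl fun j _ => by rw [count_dfour j]]
  change 2 * ∑ j, 3 * (a * dP cs h T X ρ {j}) = 24 * a * dP cs h T X ρ {i}
  have hk : ∀ j, dP cs h T X ρ {j} = dP cs h T X ρ {1} := fun j => d4_k R j
  rw [Finset.sum_congr rfl fun j _ => by rw [hk j], Finset.sum_const, Finset.card_univ, Fintype.card_fin, hk i,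
    smul_eq_mul]
  ring

/-- **`x = 12`: `d = 2 k`** -/
theorem d4_dim (hp : p.Prime) (hG : GG cs h T X = ⊤) (hρ : ρ.IsIrreducible) (h0 : fx ρ (RGD.B cs h T X) ≠ ⊥)
    {m : ℕ} {e : ℤ} (he : e = 1 ∨ e = -1)
    (hS : ∑ᶠ g ∈ Cfsg.Agent.H730.OZ.pSet p Y, ρ.character g = (e : ℂ) * (p : ℂ) ^ m * ρ.character 1)
    {a : ℕ} (ha : 0 < a) (hq : ∀ i, qq X i = p ^ a) (hm : m = 12 * a) (i : Fin 4) :
    finrank ℂ (fx ρ (RGD.B cs h T X)) = 2 * finrank ℂ (fx ρ (PJ cs h T X {i})) := by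
  have h1 := d4_det R hp hG hρ h0 he hS hq i
  rw [hm] at h1
  refine Nat.eq_of_mul_eq_mul_left (show 0 < 12 * a by positivity) ?_
  rw [h1]
  ring

/-- **`x = 12`: `χ = 0` on `Ell {i}`** -/
theorem d4_zero (hp : p.Prime) (hG : GG cs h T X = ⊤) (hρ : ρ.IsIrreducible) (h0 : fx ρ (RGD.B cs h T X) ≠ ⊥)
    {m : ℕ} {e : ℤ} (he : e = 1 ∨ e = -1)
    (hS : ∑ᶠ g ∈ Cfsg.Agent.H730.OZ.pSet p Y, ρ.character g = (e : ℂ) * (p : ℂ) ^ m * ρ.character 1)
    {a : ℕ} (ha : 0 < a) (hq : ∀ i, qq X i = p ^ a) (hm : m = 12 * a) {i : Fin 4} {t : Y}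
    (ht : Ell cs h T X {i} t) : ρ.character t = 0 := by
  rw [char_A1 R hG hρ h0 ht, d4_dim R hp hG hρ h0 he hS ha hq hm i]
  push_cast
  ring

/-- **`x = 12`: `χ` is even on `Ell A_3`** -/
theorem d4_even (hp : p.Prime) (hG : GG cs h T X = ⊤) (hρ : ρ.IsIrreducible) (h0 : fx ρ (RGD.B cs h T X) ≠ ⊥)
    {m : ℕ} {e : ℤ} (he : e = 1 ∨ e = -1)
    (hS : ∑ᶠ g ∈ Cfsg.Agent.H730.OZ.pSet p Y, ρ.character g = (e : ℂ) * (p : ℂ) ^ m * ρ.character 1)
    {a : ℕ} (ha : 0 < a) (hq : ∀ i, qq X i = p ^ a) (hm : m = 12 * a) {x z : Fin 4} (hx : x ≠ 1) (hz : z ≠ 1)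
    (hxz : x ≠ z) {t : Y} (ht : Ell cs h T X {x, 1, z} t) : ∃ c : ℤ, ρ.character t = 2 * (c : ℂ) := by
  have h1 : ∀ x z : Fin 4, x ≠ 1 → z ≠ 1 → x ≠ z → Cfsg.Agent.Nodes.TypeD.M 2 x 1 = 3 ∧
      Cfsg.Agent.Nodes.TypeD.M 2 1 z = 3 ∧ Cfsg.Agent.Nodes.TypeD.M 2 x z = 2 := by
    intro x z hx hz hxz
    fin_cases x <;> fin_cases z <;>
      first
        | exact absurd rfl hx
        | exact absurd rfl hz
        | exact absurd rfl hxz
        | decide
  obtain ⟨h2, h3, h4⟩ := h1 x z hx hz hxz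
  rw [char_A3 R hG hρ h0 h2 h3 h4 ht, d4_dim R hp hG hρ h0 he hS ha hq hm x]
  refine ⟨2 * finrank ℂ (fx ρ (PJ cs h T X {x, 1, z})) - 2 * finrank ℂ (fx ρ (PJ cs h T X {x, 1})) -
    finrank ℂ (fx ρ (PJ cs h T X {x, z})) + finrank ℂ (fx ρ (PJ cs h T X {x})), ?_⟩
  push_cast
  ring

end

end Cfsg.Agent.H639.OZ
end

-- part: H128/OZ/EightHec
section
/-!
# S4842, row `POmega⁺₈ (q)`, `q ≥ 3`: the Hecke facts (helper128)
-/

set_option autoImplicit false

namespace Cfsg.Agent.H128.OZ.Asm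

open Cfsg Module Polynomial
open Cfsg.Agent.Characters
open Cfsg.Agent.ChevalleyStructure.CoxeterGeom Cfsg.Agent.Tits.Roots
open Cfsg.Agent.Nodes.Comb Cfsg.Agent.Nodes.Reps Cfsg.Agent.Nodes.BNOf
open Cfsg.Agent.Nodes.RGDLib Cfsg.Agent.Nodes.WittAll Cfsg.Agent.Nodes.WittU Cfsg.Agent.Nodes.RGDChev
open Cfsg.Agent.LieClassical Cfsg.Agent.LieClassical.OrthCore Cfsg.Agent.LieClassical.OrthTrans
open Cfsg.Agent.LieClassical.OrthSimple Cfsg.Agent.LieClassical.OrthFinite Cfsg.Agent.LieClassical.OrthForms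
open Cfsg.Agent.TitsThree.KSideO
open Cfsg.Agent.Nodes.TypeD Cfsg.Agent.Nodes.WittInst Cfsg.Agent.Nodes Cfsg.Agent.Nodes.Bruhat Cfsg.Agent.Nodes.StabComb
open Cfsg.Agent.Nodes.LeviDec Cfsg.Agent.H985.VZ Cfsg.Agent.H730.OZ Cfsg.Agent.H530.OZ
open Cfsg.Agent.Nodes.TypeC (wt ng ng_ng)
open Cfsg.Agent.H158.OZ Cfsg.Agent.H292.OZ Cfsg.Agent.H224.OZ.Q3 Cfsg.Agent.H639.OZ

seal _root_.Finset.sum _root_.dotProduct in
/-- the order of the root groups -/
theorem qq4 (F : Type) [Field F] [Fintype F] (i : Fin 4) : qq (X4 F) i = Fintype.card F := by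
  rw [← Nat.card_eq_fintype_card]
  have hm : ∀ t : F, (F8 F).X (i, true) (nx (n := 2) i) t ∈ E (Q8 F) := fun t => (amb_plus 4).X_mem _ _ _
  have hac : ((i, true) : Fin 4 × Bool).1 ≠ (nx (n := 2) i).1 := ok_nx (n := 2) i
  refine (Nat.card_congr (Equiv.ofBijective (fun t : F => (⟨pi4 F ⟨_, hm t⟩,
    (mem_XS hac (ee_sr (n := 2) i)).2 ⟨t, hm t, rfl⟩⟩ : X4 F (sr i))) ⟨?_, ?_⟩)).symm
  · intro t t' h
    have h1 : pi4 F ⟨_, hm t⟩ = pi4 F ⟨_, hm t'⟩ := congrArg Subtype.val h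
    obtain ⟨a, ha⟩ := pi4_ker F (⟨_, hm t⟩ * (⟨_, hm t'⟩)⁻¹) (by
      (rewrite [MonoidHom.mem_ker]; (conv => enter [@2]; rw [map_mul]); (conv => enter [@2, @6]; rw [map_inv]); (conv => enter [@2, @5]; rw [h1]); (conv => enter [@2]; rw [mul_inv_cancel])))
    have e : ((⟨_, hm t⟩ * (⟨_, hm t'⟩)⁻¹ : E (Q8 F)) : V8 F ≃ₗ[F] V8 F) = (F8 F).X (i, true) (nx (n := 2) i) (t - t') := by
      rw [sub_eq_add_neg, (F8 F).X_add, (F8 F).X_neg]
      rfl
    have h2 : ∀ v, (F8 F).X (i, true) (nx (n := 2) i) (t - t') v = a • v := fun v => by rw [← e]; exact ha v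
    have c1 : (co (ng (nx (n := 2) i)) (_root_.Cfsg.Agent.H158.OZ.bb (i, true)) : F) = 0 := by
      rw [co_bb, if_neg]
      intro h3
      exact hac (congrArg Prod.fst h3).symm
    have c2 : (co (ng (i, true)) (_root_.Cfsg.Agent.H158.OZ.bb (i, true)) : F) = 0 := by
      rw [co_bb, if_neg]
      intro h3
      have h4 := congrArg Prod.snd h3
      simp [ng] at h4
    have h3 := h2 (_root_.Cfsg.Agent.H158.OZ.bb (i, true))
    rw [X8 hac, c1, c2, mul_zero, zero_smul, zero_smul, add_zero, sub_zero] at h3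
    have ha1 : a = 1 := by
      have h4 := congrArg (co (i, true)) h3
      rw [map_smul, co_bb, if_pos rfl, smul_eq_mul, mul_one] at h4
      exact h4.symm
    have h4 := congrArg (co (i, true)) (h2 (_root_.Cfsg.Agent.H158.OZ.bb (ng (nx (n := 2) i))))
    have c3 : (co (i, true) (_root_.Cfsg.Agent.H158.OZ.bb (ng (nx (n := 2) i))) : F) = 0 := by
      rw [co_bb, if_neg]
      intro h3
      have h4 : i = (ng (nx (n := 2) i)).1 := congrArg Prod.fst h3
      exact hac h4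
    have c4 : (co (i, true) (_root_.Cfsg.Agent.H158.OZ.bb (nx (n := 2) i)) : F) = 0 := by
      rw [co_bb, if_neg]
      intro h3
      exact hac (congrArg Prod.fst h3)
    rw [X8 hac, map_sub, map_add, map_smul, map_smul, map_smul, c3, c4, co_bb, co_bb, if_pos rfl, if_pos rfl] at h4
    simp only [smul_eq_mul, mul_one, mul_zero, zero_add, sub_zero] at h4
    exact sub_eq_zero.1 h4
  · rintro ⟨s, hs⟩
    obtain ⟨t, hmt, rfl⟩ := (mem_XS hac (ee_sr (n := 2) i)).1 hs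
    exact ⟨t, rfl⟩

section

variable {F : Type} [Field F] [Fintype F] {N : ℕ} {ρ : Representation ℂ (YY F) (Fin N → ℂ)} (hρ : ρ.IsIrreducible)
  (hB : fx ρ (RGD.B cs4 (isCartan 2) (T4 F) (X4 F)) ≠ ⊥) {p f : ℕ} (hp : p.Prime) (hcard : Fintype.card F = p ^ f)
  (hsum : ∑ᶠ u ∈ pSet p (YY F), ρ.character u = (p : ℂ) ^ (12 * f) * ρ.character 1)

include hρ hB hp hcard hsum

theorem val0 {t : YY F} (ht : El4 F {0} t) : ρ.character t = 0 := by
  have hpf : Fact p.Prime := ⟨hp⟩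
  have hf : 0 < f := by
    rcases Nat.eq_zero_or_pos f with h | h
    · rw [h, pow_zero] at hcard
      have := Fintype.one_lt_card (α := F)
      omega
    · exact h
  have hch : CharP F p := by
    obtain ⟨p', hch'⟩ := CharP.exists F
    obtain ⟨⟨f', hf'⟩, hp', hcard'⟩ := FiniteField.card F p'
    have h1 : p ∣ p' ^ f' := by
      have h2 : Fintype.card F = p' ^ f' := hcard'
      rw [← h2, hcard]
      exact dvd_pow_self p hf.ne'
    have h2 := (Nat.prime_dvd_prime_iff_eq hp hp').1 (hp.dvd_of_dvd_pow h1)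
    rw [h2]
    exact hch'
  have : Finite (M 2).Group := _root_.Cfsg.Agent.Nodes.TypeD.finite_W cs4
  have : Finite (V8 F ≃ₗ[F] V8 F) :=
    Finite.of_injective (fun g : V8 F ≃ₗ[F] V8 F => (g : V8 F → V8 F)) DFunLike.coe_injective
  have : Finite (YY F) := Finite.of_surjective _ (pi4_surj F)
  exact d4_zero (rgd4 F (p := p)) hp (gg4 F) hρ hB (e := 1) (Or.inl rfl) (m := 12 * f)
    (by simp only [hsum, Int.cast_one, one_mul]) hf (fun i => (qq4 F i).trans hcard) rfl ht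

theorem even012 {t : YY F} (ht : El4 F {0, 1, 2} t) : ∃ k : ℤ, ρ.character t = 2 * k := by
  have hpf : Fact p.Prime := ⟨hp⟩
  have hf : 0 < f := by
    rcases Nat.eq_zero_or_pos f with h | h
    · rw [h, pow_zero] at hcard
      have := Fintype.one_lt_card (α := F)
      omega
    · exact h
  have hch : CharP F p := by
    obtain ⟨p', hch'⟩ := CharP.exists F
    obtain ⟨⟨f', hf'⟩, hp', hcard'⟩ := FiniteField.card F p'
    have h1 : p ∣ p' ^ f' := by
      have h2 : Fintype.card F = p' ^ f' := hcard'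
      rw [← h2, hcard]
      exact dvd_pow_self p hf.ne'
    have h2 := (Nat.prime_dvd_prime_iff_eq hp hp').1 (hp.dvd_of_dvd_pow h1)
    rw [h2]
    exact hch'
  have : Finite (M 2).Group := _root_.Cfsg.Agent.Nodes.TypeD.finite_W cs4
  have : Finite (V8 F ≃ₗ[F] V8 F) :=
    Finite.of_injective (fun g : V8 F ≃ₗ[F] V8 F => (g : V8 F → V8 F)) DFunLike.coe_injective
  have : Finite (YY F) := Finite.of_surjective _ (pi4_surj F)
  exact d4_even (rgd4 F (p := p)) hp (gg4 F) hρ hB (e := 1) (Or.inl rfl) (m := 12 * f)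
    (by simp only [hsum, Int.cast_one, one_mul]) hf (fun i => (qq4 F i).trans hcard) rfl (by decide) (by decide) (by decide) ht

end

end Cfsg.Agent.H128.OZ.Asm
end

-- part: H631/VZ/DicEight
section
/-!
# S4842, `PΩ⁺_8(q)`: the dictionary of the torus characters of helper158's model (helper631)

* `hz i t` : the diagonal element `t ^ ⟨z, α_i^∨⟩`; `hh π i : Fˣ →* TSS π`;
* `tco` : `TCo (TypeD.A 2) (TSS π) (nS π) (hh π)`; `dic` : the dictionary;
* `VB_eight` : `V^U = V^B ≠ 0` from elliptic elements of `L_{01}`, `L_{012}`, `L_{013}`.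
-/

set_option autoImplicit false
set_option linter.unusedSectionVars false
set_option linter.unusedSimpArgs false

open Cfsg

namespace Cfsg.Agent.H631.VZ.Eight

open CoxeterSystem Cfsg.Agent.ChevalleyStructure.CoxeterGeom Cfsg.Agent.Tits.Roots
open Cfsg.Agent.Nodes Cfsg.Agent.Nodes.Comb Cfsg.Agent.Nodes.Reps Cfsg.Agent.Nodes.WittRoot Cfsg.Agent.Nodes.BNOf
open Cfsg.Agent.Nodes.RGDLib Cfsg.Agent.Nodes.WittAll Cfsg.Agent.Nodes.WittU Cfsg.Agent.Nodes.WittInst
open Cfsg.Agent.Nodes.StabComb Cfsg.Agent.Nodes.Bruhat Cfsg.Agent.Nodes.LeviDec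
open Cfsg.Agent.Nodes.TypeC (wt ng ng_ng wt_apply)
open Cfsg.Agent.Nodes.TypeD
open Cfsg.Agent.TitsThree Cfsg.Agent.TitsThree.Siegel Cfsg.Agent.TitsThree.WittFrame Cfsg.Agent.TitsThree.WittWeyl
  Cfsg.Agent.TitsThree.WBridge Cfsg.Agent.TitsThree.KSideO
open Cfsg.Agent.LieClassical Cfsg.Agent.LieClassical.OrthCore Cfsg.Agent.LieClassical.OrthTrans
open Cfsg.Agent.LieClassical.OrthForms QuadraticMap
open Cfsg.Agent.H158.OZ Cfsg.Agent.H985.VZ

universe u v

/-! ### exponents -/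

/-- the value of the coroot `α_i^∨` on a signed index -/
def ex (i : Fin 4) (z : Fin 4 × Bool) : ℤ := Cf (n := 2) i (wt z)

theorem ex_eq : ∀ (i : Fin 4) (z : Fin 4 × Bool), ex i z =
    if z = (i, true) then 1 else if z = ng (nx (n := 2) i) then -1 else if z = ng (i, true) then -1 else
      if z = nx (n := 2) i then 1 else 0 := by
  decide +kernel

theorem ex_sg (i j : Fin 4) (z : Fin 4 × Bool) : ex i (sg (n := 2) j z) = ex i z - TypeD.A 2 i j * ex j z := by
  unfold ex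
  rw [wt_sg, sub_eq_add_neg, ← neg_smul, Cf_add, Cf_smul]
  unfold TypeD.A
  ring

theorem ex_val : ∀ i j : Fin 4, ex i (j, true) = (![![1, -1, 0, 0], ![0, 1, -1, 0], ![0, 0, 1, -1], ![0, 0, 1, 1]] :
    Fin 4 → Fin 4 → ℤ) i j := by
  decide +kernel

theorem ex_ng (i : Fin 4) (z : Fin 4 × Bool) : ex i (ng z) = - ex i z := by
  revert i z
  decide +kernel

/-! ### diagonal elements -/

section diag

variable {F : Type u} [Field F]

theorem hX_apply (i : Fin 4) (t : Fˣ) (z : Fin 4 × Bool) :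
    (nX (F8 F) (i, true) (nx (n := 2) i) (t : F) * (WittRGDD.nn (F8 F) i)⁻¹) (bb z) =
      ((t ^ ex i z : Fˣ) : F) • (bb z : V8 F) := by
  have hxy : ((i, true) : Fin 4 × Bool).1 ≠ (nx (n := 2) i).1 := ok_nx (n := 2) i
  have hη : ∀ x, (F8 F).η x = 1 := by
    intro x
    unfold Frame.η
    split_ifs <;> rfl
  have ht : (t : F) ≠ 0 := t.ne_zero
  have hinv : ∀ v w : V8 F, WittRGDD.nn (F8 F) i w = v → (WittRGDD.nn (F8 F) i)⁻¹ v = w := by
    intro v w h
    rw [← h]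
    exact (WittRGDD.nn (F8 F) i).symm_apply_apply w
  have n1 : ∀ t : F, t ≠ 0 → nX (F8 F) (i, true) (nx (n := 2) i) t (bb (i, true)) = -(t⁻¹ • bb (ng (nx (n := 2) i))) :=
    fun t ht => nX_apply_self (F8 F) hxy ht
  have n2 : ∀ t : F, t ≠ 0 → nX (F8 F) (i, true) (nx (n := 2) i) t (bb (ng (nx (n := 2) i))) = t • bb (i, true) :=
    fun t ht => nX_apply_neg (F8 F) hxy ht
  have n3 : ∀ t : F, t ≠ 0 → nX (F8 F) (i, true) (nx (n := 2) i) t (bb (ng (i, true))) = -(t • bb (nx (n := 2) i)) := by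
    intro t ht
    refine (nX_apply_neg' (F8 F) hxy ht).trans ?_
    rw [hη, hη]
    change -(((1 : F)⁻¹ * 1 * 1 * t) • _) = _
    rw [inv_one, one_mul, one_mul, one_mul]
  have n4 : ∀ t : F, t ≠ 0 → nX (F8 F) (i, true) (nx (n := 2) i) t (bb (nx (n := 2) i)) = t⁻¹ • bb (ng (i, true)) := by
    intro t ht
    refine (nX_apply_self' (F8 F) hxy ht).trans ?_
    rw [hη, hη]
    change ((1 : F)⁻¹ * 1 * 1 * t)⁻¹ • _ = _
    rw [inv_one, one_mul, one_mul, one_mul]
    rfl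
  have e1 : ∀ v : V8 F, (nX (F8 F) (i, true) (nx (n := 2) i) (t : F) * (WittRGDD.nn (F8 F) i)⁻¹) v =
      nX (F8 F) (i, true) (nx (n := 2) i) (t : F) ((WittRGDD.nn (F8 F) i)⁻¹ v) := fun _ => rfl
  rw [e1, ex_eq]
  by_cases h1 : z = (i, true)
  · rw [if_pos h1, h1, zpow_one, hinv _ (bb (ng (nx (n := 2) i))) ((n2 1 one_ne_zero).trans (one_smul _ _)), n2 _ ht]
  by_cases h2 : z = ng (nx (n := 2) i)
  · rw [if_neg h1, if_pos h2, h2, hinv _ (-bb (i, true)) (by
      rw [map_neg]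
      exact (congrArg _ (n1 1 one_ne_zero)).trans (by rw [inv_one, one_smul, _root_.neg_neg])), map_neg, n1 _ ht,
      _root_.neg_neg, zpow_neg_one, Units.val_inv_eq_inv_val]
  by_cases h4 : z = ng (i, true)
  · rw [if_neg h1, if_neg h2, if_pos h4, h4, hinv _ (bb (nx (n := 2) i)) ((n4 1 one_ne_zero).trans (by
      rw [inv_one, one_smul])), n4 _ ht, zpow_neg_one, Units.val_inv_eq_inv_val]
  by_cases h5 : z = nx (n := 2) i
  · rw [if_neg h1, if_neg h2, if_neg h4, if_pos h5, h5, hinv _ (-bb (ng (i, true))) (by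
      rw [map_neg]
      exact (congrArg _ (n3 1 one_ne_zero)).trans (by rw [one_smul, _root_.neg_neg])), map_neg, n3 _ ht,
      _root_.neg_neg, zpow_one]
  have hz1 : z.1 ≠ ((i, true) : Fin 4 × Bool).1 := by
    intro h6
    rcases Cfsg.Agent.Nodes.WittRGD.eq_or_ng h6 with h7 | h7
    · exact h1 h7
    · exact h4 h7
  have hz2 : z.1 ≠ (nx (n := 2) i).1 := by
    intro h6
    rcases Cfsg.Agent.Nodes.WittRGD.eq_or_ng h6 with h7 | h7
    · exact h5 h7
    · exact h2 h7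
  rw [if_neg h1, if_neg h2, if_neg h4, if_neg h5, zpow_zero, Units.val_one, one_smul,
    hinv _ (bb z) (nX_apply_of_ne (F8 F) hxy hz1 hz2 1)]
  exact nX_apply_of_ne (F8 F) hxy hz1 hz2 _

/-- the coroot elements -/
noncomputable def hz (i : Fin 4) (t : Fˣ) : E (Q8 F) :=
  ⟨nX (F8 F) (i, true) (nx (n := 2) i) (t : F) * (WittRGDD.nn (F8 F) i)⁻¹,
    mul_mem (WittRGDD.nX_mem (amb_plus 4) _ _ _) (inv_mem (WittRGDD.nn_mem (amb_plus 4) i))⟩

theorem hz_bb (i : Fin 4) (t : Fˣ) (z : Fin 4 × Bool) :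
    (hz i t : V8 F ≃ₗ[F] V8 F) (bb z) = ((t ^ ex i z : Fˣ) : F) • (bb z : V8 F) := hX_apply i t z

theorem ext_E {g k : E (Q8 F)} (h : ∀ x, (g : V8 F ≃ₗ[F] V8 F) (bb x) = (k : V8 F ≃ₗ[F] V8 F) (bb x)) : g = k :=
  Subtype.ext (ext_bb h)

theorem mul_bb (g k : E (Q8 F)) (x : Fin 4 × Bool) :
    ((g * k : E (Q8 F)) : V8 F ≃ₗ[F] V8 F) (bb x) = (g : V8 F ≃ₗ[F] V8 F) ((k : V8 F ≃ₗ[F] V8 F) (bb x)) := rfl

theorem hz_mul (i : Fin 4) (s t : Fˣ) : hz i (s * t) = (hz i s * hz i t : E (Q8 F)) := by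
  refine ext_E fun x => ?_
  rw [mul_bb, hz_bb, hz_bb, map_smul, hz_bb, smul_smul, mul_zpow, Units.val_mul, mul_comm]

theorem hz_one (i : Fin 4) : hz i 1 = (1 : E (Q8 F)) := by
  refine ext_E fun x => ?_
  rw [hz_bb, one_zpow, Units.val_one, one_smul]
  rfl

theorem hz_MS (i : Fin 4) (t : Fˣ) : MS (F8 F) ((hz i t : E (Q8 F)) : V8 F ≃ₗ[F] V8 F) (fun x => x) 1 :=
  ((ms_nX rfl (fun _ => rfl) i t.ne_zero).mul ((ms_nn rfl (fun _ => rfl) i).inv (pm_sg i) (sg_sg i)) (pm_sg i)).congr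
    (fun x => sg_sg i x) (by ring)

end diag

/-! ### the coordinates of the torus -/

section tor

variable {F : Type u} [Field F] {S : Type v} [Group S] (π : E (Q8 F) →* S)

/-- the coroot homomorphisms -/
noncomputable def hh (i : Fin 4) : Fˣ →* TSS π where
  toFun t := ⟨π (hz i t), mem_TSS.2 ⟨_, hz_MS i t, rfl⟩⟩
  map_one' := Subtype.ext ((congrArg π (hz_one i)).trans (map_one π))
  map_mul' s t := Subtype.ext ((congrArg π (hz_mul i s t)).trans (map_mul π _ _))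

theorem conj_hz (i j : Fin 4) (x : Fˣ) :
    (⟨WittRGDD.nn (F8 F) j, WittRGDD.nn_mem (amb_plus 4) j⟩ : E (Q8 F)) * hz i x *
      (⟨WittRGDD.nn (F8 F) j, WittRGDD.nn_mem (amb_plus 4) j⟩ : E (Q8 F))⁻¹ = hz i x * hz j (x ^ (-(TypeD.A 2 i j))) := by
  rw [mul_inv_eq_iff_eq_mul]
  refine ext_E fun z => ?_
  rw [mul_bb, mul_bb]
  obtain ⟨l, hl, e⟩ := WittRGDD.mono_nn (Fr := F8 F) j z
  have e' : WittRGDD.nn (F8 F) j (bb z) = l • bb (sg (n := 2) j z) := e
  change WittRGDD.nn (F8 F) j ((hz i x : V8 F ≃ₗ[F] V8 F) (bb z)) = (hz i x : V8 F ≃ₗ[F] V8 F)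
    ((hz j (x ^ (-(TypeD.A 2 i j))) : V8 F ≃ₗ[F] V8 F) (WittRGDD.nn (F8 F) j (bb z)))
  rw [hz_bb, map_smul, e', map_smul, hz_bb, map_smul, map_smul, hz_bb, smul_smul, smul_smul, smul_smul]
  congr 1
  have h1 : x ^ ex i z = (x ^ (-(TypeD.A 2 i j))) ^ ex j (sg (n := 2) j z) * x ^ ex i (sg (n := 2) j z) := by
    rw [← zpow_mul, ← zpow_add]
    congr 1
    rw [ex_sg i j z, ex_sg j j z]
    have h2 : TypeD.A 2 j j = 2 := (isCartan 2).diag j
    rw [h2]
    ring
  rw [h1, Units.val_mul]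
  ring

/-- **the coordinates of the torus** -/
theorem tco : Cfsg.Agent.H650.OZ.TCo (TypeD.A 2) (TSS π) (nS π) (hh π) where
  gen := by
    rw [eq_top_iff]
    rintro ⟨s, hs⟩ -
    obtain ⟨z, ⟨c, hc1, hc2, hc3⟩, rfl⟩ := mem_TSS.1 hs
    rw [one_mul] at hc3
    obtain ⟨r, hr⟩ := hc3
    have hne : ∀ x, c x ≠ 0 := fun x h0 => by
      have := hc1 x
      rw [h0, zero_mul] at this
      exact zero_ne_one this
    have hprod : ∏ i, c (i, true) ≠ 0 := Finset.prod_ne_zero_iff.2 fun i _ => hne _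
    have hr0 : r ≠ 0 := by
      rintro rfl
      rw [zero_mul] at hr
      exact hprod hr
    have hfour : c (0, true) * c (1, true) * c (2, true) * c (3, true) = r * r := by
      rw [← hr]
      exact (Fin.prod_univ_four fun i : Fin 4 => c (i, true)).symm
    let u0 : Fˣ := Units.mk0 (c (0, true)) (hne _)
    let u1 : Fˣ := Units.mk0 (c (0, true) * c (1, true)) (mul_ne_zero (hne _) (hne _))
    let u2 : Fˣ := Units.mk0 (r * (c (3, true))⁻¹) (mul_ne_zero hr0 (inv_ne_zero (hne _)))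
    let u3 : Fˣ := Units.mk0 r hr0
    have hz' : z = hz 0 u0 * hz 1 u1 * hz 2 u2 * hz 3 u3 := by
      refine ext_E fun x => ?_
      have hx : (z : V8 F ≃ₗ[F] V8 F) (bb x) = c x • bb x := hc2 x
      rw [hx, mul_bb, hz_bb, map_smul, mul_bb, hz_bb, map_smul, mul_bb, hz_bb, map_smul, hz_bb, smul_smul, smul_smul,
        smul_smul]
      congr 1
      have key : ∀ j : Fin 4, c (j, true) = ((u3 ^ ex 3 (j, true) : Fˣ) : F) * ((u2 ^ ex 2 (j, true) : Fˣ) : F) *
          ((u1 ^ ex 1 (j, true) : Fˣ) : F) * ((u0 ^ ex 0 (j, true) : Fˣ) : F) := by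
        have h0 := hne (0, true)
        have h1 := hne (1, true)
        have h2 := hne (2, true)
        have h3 := hne (3, true)
        intro j
        rw [ex_val, ex_val, ex_val, ex_val]
        fin_cases j
        · simp [u0, u1, u2, u3]
        · simp only [u0, u1, u2, u3, _root_.Nat.reduceAdd, _root_.Fin.mk_one, _root_.Fin.isValue, _root_.Int.reduceNeg, _root_.Matrix.cons_val', _root_.Matrix.cons_val_one, _root_.Matrix.cons_val_zero, _root_.Matrix.cons_val_fin_one, _root_.Matrix.cons_val, _root_.zpow_ofNat, _root_.pow_zero, _root_.Units.val_one, _root_.Units.mk0_mul, _root_.mul_one, _root_.pow_one, _root_.Units.val_mul, _root_.Units.val_mk0, _root_.one_mul, _root_.zpow_neg, _root_.Units.val_inv_eq_inv_val]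
          field_simp
        · simp only [u0, u1, u2, u3, _root_.Nat.reduceAdd, _root_.Fin.reduceFinMk, _root_.Fin.isValue, _root_.Int.reduceNeg, _root_.Matrix.cons_val', _root_.Matrix.cons_val, _root_.Matrix.cons_val_fin_one, _root_.Matrix.cons_val_one, _root_.zpow_ofNat, _root_.pow_one, _root_.Units.val_mk0, _root_.Units.mk0_mul, _root_.Matrix.cons_val_zero, _root_.Units.val_mul, _root_.zpow_neg, _root_.mul_inv_rev, _root_.Units.val_inv_eq_inv_val, _root_.pow_zero, _root_.Units.val_one, _root_.mul_one]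
          field_simp
          linear_combination hfour
        · simp [u0, u1, u2, u3]
          field_simp
      obtain ⟨j, b⟩ := x
      cases b
      · have h1 : c (j, false) = (c (j, true))⁻¹ := eq_inv_of_mul_eq_one_left (hc1 (j, false))
        have h2 : ((j, false) : Fin 4 × Bool) = ng (j, true) := rfl
        rw [h1, key j, h2, ex_ng, ex_ng, ex_ng, ex_ng, zpow_neg, zpow_neg, zpow_neg, zpow_neg,
          Units.val_inv_eq_inv_val, Units.val_inv_eq_inv_val, Units.val_inv_eq_inv_val, Units.val_inv_eq_inv_val,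
          mul_inv, mul_inv, mul_inv]
      · exact key j
    have hmem : ∀ (i : Fin 4) (t : Fˣ), hh π i t ∈ ⨆ i, (hh π i).range := fun i t =>
      Subgroup.mem_iSup_of_mem i ⟨t, rfl⟩
    have h1 : (⟨π z, hs⟩ : TSS π) = hh π 0 u0 * hh π 1 u1 * hh π 2 u2 * hh π 3 u3 := by
      apply Subtype.ext
      change π z = π (hz 0 u0) * π (hz 1 u1) * π (hz 2 u2) * π (hz 3 u3)
      rw [← map_mul, ← map_mul, ← map_mul, ← hz']
    rw [h1]
    exact mul_mem (mul_mem (mul_mem (hmem _ _) (hmem _ _)) (hmem _ _)) (hmem _ _)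
  conj i j x := by
    rw [← map_zpow]
    change nS π j * π (hz i x) * (nS π j)⁻¹ = π (hz i x) * π (hz j (x ^ (-(TypeD.A 2 i j))))
    rw [← map_mul π (hz i x), ← conj_hz, map_mul, map_mul, map_inv]
    rfl

variable {π}

/-- **`V^U = V^B ≠ 0`** for helper158's model -/
theorem VB_eight [Finite F] [Finite S] (hπ : Function.Surjective π) (hk : π.ker ≤ Subgroup.center (E (Q8 F))) {p : ℕ}
    [Fact p.Prime] [CharP F p] {W : Type*} [Group W] [Finite W] (cs : CoxeterSystem (TypeD.M 2) W)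
    {V : Type*} [AddCommGroup V] [Module ℂ V] [FiniteDimensional ℂ V] {ρ : Representation ℂ S V}
    (hρ : ρ.IsIrreducible) {t t' t'' : S} (ht : Ell cs (isCartan 2) (TSS π) (XS π) {0, 1} t) (hχ : ρ.character t ≠ 0)
    (ht' : Ell cs (isCartan 2) (TSS π) (XS π) {0, 1, 2} t') (hχ' : ρ.character t' ≠ 0)
    (ht'' : Ell cs (isCartan 2) (TSS π) (XS π) {0, 1, 3} t'') (hχ'' : ρ.character t'' ≠ 0) :
    VU cs (isCartan 2) (XS π) ρ ≠ ⊥ ∧ VU cs (isCartan 2) (XS π) ρ = fx ρ (RGD.B cs (isCartan 2) (TSS π) (XS π)) ∧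
      ∀ l : TSS π →* ℂˣ, Vl cs (isCartan 2) (TSS π) (XS π) ρ l ≠ ⊥ → l = 1 :=
  VB_D4 (tco π) (RS (p := p) hk cs) (GGS hπ cs) TSS_comm hρ ht hχ ht' hχ' ht'' hχ''

end tor

end Cfsg.Agent.H631.VZ.Eight
end

-- part: H128/OZ/EightFin
section
/-!
# S4842, row `POmega⁺₈ (q)`, `q ≥ 3`, from two classes of elliptic elements of type `{0, 1, 3}` (helper128)
-/

set_option autoImplicit false

namespace Cfsg.Agent.H128.OZ.Asm

open Cfsg Module Polynomial
open Cfsg.Agent.Characters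
open Cfsg.Agent.ChevalleyStructure.CoxeterGeom Cfsg.Agent.Tits.Roots
open Cfsg.Agent.Nodes.Comb Cfsg.Agent.Nodes.Reps Cfsg.Agent.Nodes.BNOf
open Cfsg.Agent.Nodes.RGDLib Cfsg.Agent.Nodes.WittAll Cfsg.Agent.Nodes.WittU Cfsg.Agent.Nodes.RGDChev
open Cfsg.Agent.LieClassical Cfsg.Agent.LieClassical.OrthCore Cfsg.Agent.LieClassical.OrthTrans
open Cfsg.Agent.LieClassical.OrthSimple Cfsg.Agent.LieClassical.OrthFinite Cfsg.Agent.LieClassical.OrthForms
open Cfsg.Agent.TitsThree.KSideO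
open Cfsg.Agent.Nodes.TypeD Cfsg.Agent.Nodes.WittInst Cfsg.Agent.Nodes Cfsg.Agent.Nodes.Bruhat Cfsg.Agent.Nodes.StabComb
open Cfsg.Agent.Nodes.LeviDec Cfsg.Agent.H985.VZ Cfsg.Agent.H730.OZ Cfsg.Agent.H530.OZ
open Cfsg.Agent.H158.OZ Cfsg.Agent.H292.OZ Cfsg.Agent.H224.OZ.Q3 Cfsg.Agent.H639.OZ Cfsg.Agent.H631.VZ.Eight

universe u

/-- two classes of elliptic elements of type `{0, 1, 3}` -/
def Two013 (F : Type) [Field F] [Finite F] : Prop :=
  ∃ t t' : YY F, El4 F {0, 1, 3} t ∧ El4 F {0, 1, 3} t' ∧ ¬ IsConj t t'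

seal _root_.Finset.sum _root_.dotProduct in
/-- **The main step** -/
theorem main' {F : Type} [Field F] [Fintype F] (H : Two013 F) (h3 : 3 ≤ Fintype.card F) {p f : ℕ} (hp : p.Prime)
    [CharP F p] (hcard : Fintype.card F = p ^ f) {χ : YY F → ℂ} (hχ : IsIrrCharacter (YY F) χ) (h0 : OneZero χ)
    (hsum : ∑ᶠ u ∈ pSet p (YY F), χ u = (p : ℂ) ^ (12 * f) * χ 1) : False := by
  have hpf : Fact p.Prime := ⟨hp⟩
  have : Finite (M 2).Group := _root_.Cfsg.Agent.Nodes.TypeD.finite_W cs4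
  have : Finite (V8 F ≃ₗ[F] V8 F) :=
    Finite.of_injective (fun g : V8 F ≃ₗ[F] V8 F => (g : V8 F → V8 F)) DFunLike.coe_injective
  have : Finite (YY F) := Finite.of_surjective _ (pi4_surj F)
  obtain ⟨N, ρ, hρ, rfl⟩ := hχ
  obtain ⟨t, ht, h1⟩ := exists_ne_of_two h0 ((ea F).two01 h3)
  obtain ⟨t', ht', h1'⟩ := exists_ne_of_two h0 ((ea F).two012 h3)
  obtain ⟨t'', ht'', h1''⟩ := exists_ne_of_two h0 H
  have hB : fx ρ (RGD.B cs4 (isCartan 2) (T4 F) (X4 F)) ≠ ⊥ := by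
    obtain ⟨h2, h3, -⟩ := VB_eight (pi4_surj F) (ker_le (pi4_ker F)) (p := p) cs4 hρ ht h1 ht' h1' ht'' h1''
    rw [← h3]
    exact h2
  rcases h3.lt_or_eq with h4 | h4
  · obtain ⟨s, hs, h5⟩ := exists_ne_of_two h0 ((ea F).two0 h4)
    exact h5 (val0 hρ hB hp hcard hsum hs)
  · obtain ⟨z, s, hz, hs, hz', hs'⟩ := (ea F).elts3 h4.symm
    refine H224.OZ.Q3.q3_end (hG := hG F) (by rw [Nat.card_eq_fintype_card]; exact h4.symm) (MulEquiv.refl (YY F))
      ⟨N, ρ, hρ, rfl⟩ h0 hz hs ?_ ?_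
    · exact val0 hρ hB hp hcard hsum hs'
    · exact even012 hρ hB hp hcard hsum hz'

/-- **The row `POmega⁺₈ (q)`, `q ≥ 3`** -/
theorem plusEight_of' (H : ∀ {F : Type} [Field F] [Fintype F], 3 ≤ Fintype.card F → Two013 F) : PlusEight.{u} := by
  intro S _ _ hs F _ _ h3 e
  obtain ⟨p, hch⟩ := CharP.exists F
  obtain ⟨⟨f, hf⟩, hp, hcard⟩ := FiniteField.card F p
  simp only [PNat.mk_coe] at hcard
  have hpf : Fact p.Prime := ⟨hp⟩
  have e' : S ≃* YY F := by
    show S ≃* Cfsg.POmega F ⇑(plusForm 4 F)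
    rw [coe_plusForm]
    exact e
  have hfin : Finite (YY F) := Finite.of_equiv S e'.toEquiv
  have hsY : IsSimpleGroup (YY F) := e'.symm.isSimpleGroup
  have hK : Kaw p (YY F) := by
    refine Cfsg.Agent.H279.OZ.kaw_of_hasRGD hp ?_
    show HasRGD p (Cfsg.POmega F ⇑(plusForm 4 F))
    rw [coe_plusForm]
    exact hasRGD_PO_plus 1
  have eY : YY F ≃* Cfsg.POmega F (quadFormPlus 4 F) := by
    show Cfsg.POmega F ⇑(plusForm 4 F) ≃* _
    rw [coe_plusForm]
  refine Cfsg.Agent.H730.OZ.Row.congr e' (Cfsg.Agent.H730.OZ.Row.of_none fun χ hχ h0 => ?_)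
  obtain ⟨m, ε, hε, hsum⟩ := hK.sum χ hχ
  obtain ⟨rfl, rfl⟩ := H559.OZ.x12 hsY h3 eY hp hcard hK hχ h0 hε hsum
  refine main' (H h3) h3 hp hcard hχ h0 ?_
  rw [hsum, Int.cast_one, one_mul]

end Cfsg.Agent.H128.OZ.Asm
end

-- part: H128/OZ/EightRho
section
/-!
# S4842, row `POmega⁺₈ (q)`, `q ≥ 3`: conjugation by `e₃ ↔ f₃` and the elliptic elements of type `{0, 1, 3}` (helper128)
-/

set_option autoImplicit false

namespace Cfsg.Agent.H128.OZ.Asm

open Cfsg Module Polynomial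
open Cfsg.Agent.Characters
open Cfsg.Agent.ChevalleyStructure.CoxeterGeom Cfsg.Agent.Tits.Roots
open Cfsg.Agent.Nodes.Comb Cfsg.Agent.Nodes.Reps Cfsg.Agent.Nodes.BNOf
open Cfsg.Agent.Nodes.RGDLib Cfsg.Agent.Nodes.WittAll Cfsg.Agent.Nodes.WittU Cfsg.Agent.Nodes.RGDChev
open Cfsg.Agent.LieClassical Cfsg.Agent.LieClassical.OrthCore Cfsg.Agent.LieClassical.OrthTrans
open Cfsg.Agent.LieClassical.OrthSimple Cfsg.Agent.LieClassical.OrthFinite Cfsg.Agent.LieClassical.OrthForms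
open Cfsg.Agent.TitsThree.KSideO
open Cfsg.Agent.Nodes.TypeD Cfsg.Agent.Nodes.WittInst Cfsg.Agent.Nodes Cfsg.Agent.Nodes.Bruhat Cfsg.Agent.Nodes.StabComb
open Cfsg.Agent.Nodes.LeviDec Cfsg.Agent.H985.VZ Cfsg.Agent.H730.OZ Cfsg.Agent.H530.OZ
open Cfsg.Agent.Nodes.TypeC (wt ng ng_ng)
open Cfsg.Agent.H158.OZ Cfsg.Agent.H292.OZ Cfsg.Agent.H224.OZ.EllDat

section rho

/-- the involution of the signed indices -/
def tau (x : Fin 4 × Bool) : Fin 4 × Bool := if x.1 = 3 then ng x else x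

theorem tau_tau : ∀ x, tau (tau x) = x := by decide

theorem r1_tau : ∀ x, r1 (tau x) = r2 x := by decide

theorem DI3_tau : ∀ x, DB 3 (tau x) = DB 2 x := by decide

variable (F : Type*) [Field F]

/-- `e₃ ↔ f₃` -/
def rho : V8 F ≃ₗ[F] V8 F := LinearEquiv.funCongrLeft F F (Equiv.swap (Sum.inl 3) (Sum.inr 3))

variable {F}

theorem co_rho (x : Fin 4 × Bool) (v : V8 F) : co x (rho F v) = co (tau x) v := by
  have h : (Equiv.swap (Sum.inl 3) (Sum.inr 3) : Equiv.Perm (Fin 4 ⊕ Fin 4)) (ix x) = ix (tau x) := by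
    revert x
    decide
  show v ((Equiv.swap (Sum.inl 3) (Sum.inr 3) : Equiv.Perm (Fin 4 ⊕ Fin 4)) (ix x)) = v (ix (tau x))
  rw [h]

theorem rho_rho (v : V8 F) : rho F (rho F v) = v := co_ext fun x => by rw [co_rho, co_rho, tau_tau]

theorem rho_sq : rho F * rho F = 1 := LinearEquiv.ext rho_rho

theorem rho_inv : (rho F)⁻¹ = rho F := inv_eq_of_mul_eq_one_left rho_sq

theorem rho_bb (x : Fin 4 × Bool) : rho F (_root_.Cfsg.Agent.H158.OZ.bb x) = _root_.Cfsg.Agent.H158.OZ.bb (tau x) := co_ext fun y => by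
  rw [co_rho, co_bb, co_bb]
  refine if_congr ⟨?_, ?_⟩ rfl rfl
  · rintro rfl
    rw [tau_tau]
  · rintro rfl
    rw [tau_tau]

theorem rho_mem_O : rho F ∈ O (Q8 F) := by
  rw [mem_O]
  intro v
  rw [Q8_apply, Q8_apply]
  refine Finset.sum_congr rfl fun i _ => ?_
  rw [co_rho, co_rho]
  by_cases hi : i = 3
  · subst hi
    exact mul_comm _ _
  · have h : ∀ b, tau (i, b) = (i, b) := fun b => if_neg hi
    rw [h, h]

theorem rho_mem_SZ {Z Z' : Set (Fin 4 × Bool)} (h : ∀ x, x ∈ Z' ↔ tau x ∈ Z) {v : V8 F} :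
    rho F v ∈ SZ Z' ↔ v ∈ SZ Z := by
  rw [mem_SZ, mem_SZ]
  constructor
  · intro h1 x hx
    have h2 := h1 (tau x) (by rw [h, tau_tau]; exact hx)
    rwa [co_rho, tau_tau] at h2
  · intro h1 x hx
    rw [co_rho]
    exact h1 _ fun h2 => hx ((h x).2 h2)

theorem UF_tau {r r' : Fin 4 × Bool → ℕ} (h : ∀ x, r (tau x) = r' x) {u : V8 F ≃ₗ[F] V8 F} (hu : u ∈ UF r') :
    rho F * u * rho F ∈ UF r := by
  rw [mem_UF] at hu ⊢
  intro k v hv
  have h' : ∀ x, r' (tau x) = r x := fun x => by rw [← h, tau_tau]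
  have h1 : rho F v ∈ SZ {x | r' x < k + 1} := (rho_mem_SZ fun x => by
    change r' x < k + 1 ↔ r (tau x) < k + 1
    rw [h]).2 hv
  have h2 := hu k _ h1
  have h3 : (rho F * u * rho F) v - v = rho F (u (rho F v) - rho F v) := by
    rw [map_sub, rho_rho]
    rfl
  rw [h3]
  exact (rho_mem_SZ fun x => by
    change r x < k ↔ r' (tau x) < k
    rw [h']).2 h2

/-- conjugation by `rho` -/
def rhoE (z : E (Q8 F)) : E (Q8 F) := ⟨rho F * z.1 * (rho F)⁻¹, conj_mem_E rho_mem_O z.2⟩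

theorem rhoE_val (z : E (Q8 F)) : (rhoE z).1 = rho F * z.1 * rho F := by
  show rho F * z.1 * (rho F)⁻¹ = _
  rw [rho_inv]

theorem rhoE_mul (z w : E (Q8 F)) : rhoE (z * w) = rhoE z * rhoE w := by
  apply Subtype.ext
  show rho F * (z.1 * w.1) * (rho F)⁻¹ = (rho F * z.1 * (rho F)⁻¹) * (rho F * w.1 * (rho F)⁻¹)
  group

theorem rhoE_inv (z : E (Q8 F)) : rhoE z⁻¹ = (rhoE z)⁻¹ := by
  apply Subtype.ext
  show rho F * (z.1)⁻¹ * (rho F)⁻¹ = (rho F * z.1 * (rho F)⁻¹)⁻¹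
  group

theorem rhoE_rhoE (z : E (Q8 F)) : rhoE (rhoE z) = z := by
  apply Subtype.ext
  rw [rhoE_val, rhoE_val]
  calc rho F * (rho F * z.1 * rho F) * rho F = (rho F * rho F) * z.1 * (rho F * rho F) := by group
    _ = z.1 := by rw [rho_sq, one_mul, mul_one]

theorem rhoE_scalar {z : E (Q8 F)} {a : F} (h : ∀ v, (z : V8 F ≃ₗ[F] V8 F) v = a • v) : rhoE z = z := by
  apply Subtype.ext
  rw [rhoE_val]
  apply LinearEquiv.ext
  intro v
  show rho F (z.1 (rho F v)) = z.1 v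
  rw [h, h, map_smul, rho_rho]

section main

variable [Finite F] {S : Type*} [Group S] {π : E (Q8 F) →* S} {W : Type*} [Group W]
  {cs : CoxeterSystem (TypeD.M 2) W}
  (hk : ∀ z : E (Q8 F), z ∈ π.ker → ∃ a : F, ∀ v, (z : V8 F ≃ₗ[F] V8 F) v = a • v)

include hk

/-- non-conjugacy -/
theorem not_conj_rho (hπ : Function.Surjective π) {z w : E (Q8 F)} (h : ∀ y : S, y * π z * y⁻¹ ≠ π w) (y : S) :
    y * π (rhoE z) * y⁻¹ ≠ π (rhoE w) := by
  intro h1
  obtain ⟨g, rfl⟩ := hπ y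
  have h2 : g * rhoE z * g⁻¹ * (rhoE w)⁻¹ ∈ π.ker := by
    rw [MonoidHom.mem_ker, map_mul, map_inv, map_mul, map_mul, map_inv, h1, mul_inv_cancel]
  obtain ⟨a, ha⟩ := hk _ h2
  have h3 : rhoE (g * rhoE z * g⁻¹ * (rhoE w)⁻¹) = rhoE g * z * (rhoE g)⁻¹ * w⁻¹ := by
    simp only [rhoE_mul, rhoE_mul, rhoE_mul, rhoE_inv, rhoE_inv, rhoE_rhoE, rhoE_rhoE]
  rw [← rhoE_scalar ha, h3, MonoidHom.mem_ker, map_mul, map_inv, map_mul, map_mul, map_inv, mul_inv_eq_one] at h2
  exact h _ h2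

/-- **ellipticity of type `{0, 1, 3}`** -/
theorem ell_rho (hπ : Function.Surjective π) {p : ℕ} [Fact p.Prime] [CharP F p] {z : E (Q8 F)} {s : Fin 4 → F}
    {f f' : F[X]} (D : Dat 4 s (z : V8 F ≃ₗ[F] V8 F) f f') :
    Ell cs (isCartan 2) (TSS π) (XS π) {0, 1, 3} (π (rhoE z)) := by
  have hv : ∀ v, (rhoE z : V8 F ≃ₗ[F] V8 F) v = rho F ((z : V8 F ≃ₗ[F] V8 F) (rho F v)) := fun v => by
    rw [rhoE_val]
    rfl
  have key1 : ∀ i : Fin 4, i ∉ ({0, 1, 3} : Set (Fin 4)) → i = 2 := by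
    intro i
    (revert i; simp only [_root_.Fin.forall_fin_succ, Fin.isValue, _root_.Set.mem_insert_iff, _root_.Set.mem_singleton_iff, _root_.not_or, _root_.and_imp, _root_.not_true_eq_false, _root_.zero_ne_one, _root_.not_false_eq_true, Fin.reduceEq, _root_.imp_false, _root_.imp_self, _root_.Fin.succ_ne_zero, _root_.forall_const, _root_.Fin.succ_zero_eq_one, _root_.Fin.succ_one_eq_two, Fin.reduceSucc, _root_.IsEmpty.forall_iff, _root_.and_self])
  refine ell_of (p := p) dt2 hk hπ (fun x => ?_) ?_ ⟨(0, true), rfl⟩ (fun u hu hzu => ?_) (ZJ := DI 2) ?_ ?_ ?_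
  · rw [hv, rho_bb]
    refine (rho_mem_SZ (Z := {y | r1 y = r1 (tau x)}) fun y => ?_).2 (hz_four D (tau x))
    change r2 y = r2 x ↔ r1 (tau y) = r1 (tau x)
    rw [r1_tau, r1_tau]
  · intro i hi x hx y hy
    have key : ∀ x y : Fin 4 × Bool, DB 2 x = true → r2 y = r2 x → DB 2 y = true := by decide
    have h3 := key1 i hi
    subst h3
    exact key x y hx hy
  · have h1 : rho F * (u : V8 F ≃ₗ[F] V8 F) * rho F = 1 := by
      refine hc_four D (UF_tau (r := r1) r1_tau hu) ?_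
      have h2 : (rhoE z).1 * (u : V8 F ≃ₗ[F] V8 F) = u * (rhoE z).1 := hzu
      rw [rhoE_val] at h2
      calc (z : V8 F ≃ₗ[F] V8 F) * (rho F * (u : V8 F ≃ₗ[F] V8 F) * rho F)
          = (rho F * rho F) * z.1 * (rho F * (u : V8 F ≃ₗ[F] V8 F) * rho F) := by rw [rho_sq, one_mul]
        _ = rho F * (rho F * z.1 * rho F * (u : V8 F ≃ₗ[F] V8 F)) * rho F := by group
        _ = rho F * ((u : V8 F ≃ₗ[F] V8 F) * (rho F * z.1 * rho F)) * rho F := by rw [h2]
        _ = (rho F * (u : V8 F ≃ₗ[F] V8 F) * rho F) * z.1 * (rho F * rho F) := by group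
        _ = _ := by rw [rho_sq, mul_one]
    calc (u : V8 F ≃ₗ[F] V8 F) = (rho F * rho F) * u * (rho F * rho F) := by rw [rho_sq, one_mul, mul_one]
      _ = rho F * (rho F * (u : V8 F ≃ₗ[F] V8 F) * rho F) * rho F := by group
      _ = 1 := by rw [h1, mul_one, rho_sq]
  · intro x
    constructor
    · intro hx j hj
      rw [key1 j hj]
      exact hx
    · intro h
      exact h 2 (by simp)
  · have key : ∀ i : Fin 4, i ≠ 2 → (∃ x, DB 2 x = true ∧ DB i x = true) ∧ ∃ y, DB 2 y = true ∧ ¬ DB i y = true := by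
      decide
    intro i hi
    exact key i (by rintro rfl; simp at hi)
  · intro D' h1 h2
    have hDI : ∀ x, x ∈ DI 2 ↔ tau x ∈ DI 3 := fun x => by
      change DB 2 x = true ↔ DB 3 (tau x) = true
      rw [DI3_tau]
    have h3 := hirr_four D (D'.comap ((rho F : V8 F ≃ₗ[F] V8 F) : V8 F →ₗ[F] V8 F)) (fun v hv' => ?_) (fun v hv' => ?_)
    · rcases h3 with h3 | h3
      · left
        rw [eq_bot_iff]
        intro v hv'
        have h4 : rho F v ∈ D'.comap ((rho F : V8 F ≃ₗ[F] V8 F) : V8 F →ₗ[F] V8 F) := by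
          rw [Submodule.mem_comap]
          show rho F (rho F v) ∈ D'
          rw [rho_rho]
          exact hv'
        rw [h3, Submodule.mem_bot] at h4
        rw [Submodule.mem_bot, ← rho_rho v, h4, map_zero]
      · right
        refine le_antisymm h1 fun v hv' => ?_
        have h4 : rho F v ∈ D'.comap ((rho F : V8 F ≃ₗ[F] V8 F) : V8 F →ₗ[F] V8 F) := by
          rw [h3]
          refine (rho_mem_SZ (Z := DI 2) fun x => ?_).2 hv'
          rw [hDI, tau_tau]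
        have h5 : rho F (rho F v) ∈ D' := h4
        rwa [rho_rho] at h5
    · have h4 : rho F v ∈ D' := hv'
      exact (rho_mem_SZ hDI).1 (h1 h4)
    · have h4 : rho F v ∈ D' := hv'
      have h5 := h2 _ h4
      rw [hv, rho_rho] at h5
      exact h5

end main

end rho

/-- two classes of elliptic elements of type `{0, 1, 3}` -/
theorem two013 {F : Type} [Field F] [Fintype F] (h3 : 3 ≤ Fintype.card F) : Two013 F := by
  obtain ⟨p, hch⟩ := CharP.exists F
  obtain ⟨⟨f, hf⟩, hp, hcard⟩ := FiniteField.card F p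
  have hpf : Fact p.Prime := ⟨hp⟩
  obtain ⟨z, f, f', f₂, f₂', h1, h2, -, h4⟩ := _root_.Cfsg.Agent.H292.OZ.exists_four (hG F) (by rw [Nat.card_eq_fintype_card]; exact h3)
  exact ⟨_, _, ell_rho (p := p) (pi4_ker F) (pi4_surj F) h1, ell_rho (p := p) (pi4_ker F) (pi4_surj F) h2,
    not_isConj (not_conj_rho (pi4_ker F) (pi4_surj F) h4)⟩

end Cfsg.Agent.H128.OZ.Asm
end

-- part: H128/OZ/PlusDone
section
/-!
# S4842: the family `POmega⁺` (helper128)
-/

set_option autoImplicit false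

namespace Cfsg.Agent.H128.OZ

universe u

/-- **The row `POmega⁺₈ (q)`, `q ≥ 3`** -/
theorem plusEight : PlusEight.{u} := Asm.plusEight_of' fun h => Asm.two013 h

/-- **The family `POmega⁺`** -/
theorem row_pomegaPlus {S : Type u} [Group S] [Finite S] (hs : IsSimpleGroup S) (h : Cfsg.IsPOmegaPlus S) :
    Cfsg.Agent.H730.OZ.Row S := row_isPOmegaPlus plusEight hs h

end Cfsg.Agent.H128.OZ
end

-- part: H245/OZ/OctCent
section
/-!
# Centralizers of explicit elements of `G₂(q)` (octonion model, helper245, for S4842)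

`K` a field, `G = Cfsg.Lie.G2 K`.

* `elt` : the element of `G` with a given matrix (multiplicativity checked on the basis);
* `map_o`, `map_tr`, `map_nm`, `map_bl`, `map_T` : invariants;
* `card_cent_le` : `|C(y)| ≤ N` by counting the possible images of a vector `e`;
* `not_conj` : non conjugacy.
-/

set_option autoImplicit false

namespace Cfsg.Agent.H245.OZ.Oc

open Cfsg.Lie Cfsg.Agent.H161.Oct Matrix

variable {K : Type} [Field K]

/-- the matrix of an element -/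
abbrev mt (g : Cfsg.Lie.G2 K) : Matrix (Fin 8) (Fin 8) K := ((g : GL (Fin 8) K) : Matrix (Fin 8) (Fin 8) K)

theorem mt_mul (g h : Cfsg.Lie.G2 K) : mt (g * h) = mt g * mt h := rfl

theorem mt_one : mt (1 : Cfsg.Lie.G2 K) = 1 := rfl

theorem mt_pow (g : Cfsg.Lie.G2 K) (n : ℕ) : mt (g ^ n) = mt g ^ n := by
  induction n with
  | zero => rw [pow_zero, pow_zero, mt_one]
  | succ n ih => rw [pow_succ, pow_succ, mt_mul, ih]

theorem mt_inj {g h : Cfsg.Lie.G2 K} (e : mt g = mt h) : g = h := Subtype.ext (Units.ext e)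

theorem map_mul (g : Cfsg.Lie.G2 K) (x y : V K) : mt g *ᵥ zornMul x y = zornMul (mt g *ᵥ x) (mt g *ᵥ y) := g.2 x y

theorem map_bl (g : Cfsg.Lie.G2 K) (x y : V K) : bl (mt g *ᵥ x) (mt g *ᵥ y) = bl x y :=
  Cfsg.Agent.H161.Oct.map_bl (f := toE K g.1) (toE_mem.2 g.2) x y

/-- the element with a given matrix -/
def elt (M N : Matrix (Fin 8) (Fin 8) K) (h1 : M * N = 1) (h2 : N * M = 1)
    (hz : ∀ i j : Fin 8, M *ᵥ zornMul (Pi.single i 1) (Pi.single j 1) =
      zornMul (M *ᵥ Pi.single i 1) (M *ᵥ Pi.single j 1)) : Cfsg.Lie.G2 K :=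
  ⟨⟨M, N, h1, h2⟩, by
    intro x y
    have hx : x = ∑ i, x i • (Pi.single i 1 : V K) := by
      ext j
      simp [Finset.sum_apply, Pi.single_apply]
    have hy : y = ∑ i, y i • (Pi.single i 1 : V K) := by
      ext j
      simp [Finset.sum_apply, Pi.single_apply]
    have h3 : ∀ u v : V K, zornMul u v = zL K u v := fun _ _ => rfl
    change M *ᵥ zornMul x y = zornMul (M *ᵥ x) (M *ᵥ y)
    rw [hx, hy]
    simp only [h3, map_sum, map_smul, LinearMap.sum_apply, LinearMap.smul_apply, Matrix.mulVec_sum, Matrix.mulVec_smul]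
    refine Finset.sum_congr rfl fun j _ => ?_
    (with_reducible congr 1)
    refine Finset.sum_congr rfl fun i _ => ?_
    congr 1
    exact hz i j⟩

/-- all basis vectors are fixed -/
theorem eq_one_of_single {g : Cfsg.Lie.G2 K} (h : ∀ j : Fin 8, mt g *ᵥ (Pi.single j 1 : V K) = Pi.single j 1) : g = 1 := by
  apply mt_inj
  rw [mt_one]
  ext i j
  have h1 := congrFun (h j) i
  rw [Matrix.mulVec_single_one] at h1
  change mt g i j = _ at h1
  rw [h1, Matrix.one_apply, Pi.single_apply]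

theorem fix_mul {g : Cfsg.Lie.G2 K} {u v : V K} (hu : mt g *ᵥ u = u) (hv : mt g *ᵥ v = v) :
    mt g *ᵥ zornMul u v = zornMul u v := by rw [map_mul, hu, hv]

/-- commuting matrices -/
theorem mt_comm {g y : Cfsg.Lie.G2 K} (h : g * y = y * g) : Commute (mt g) (mt y) := by
  have := congrArg mt h
  exact this

variable [Finite K]

/-- **The order of a centralizer**: the elements commuting with `y` are determined by the image of `e`. -/
theorem card_cent_le {y : Cfsg.Lie.G2 K} (e : V K) {P : Type} [Fintype P] (f : P → V K)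
    (hS : ∀ g : Cfsg.Lie.G2 K, g * y = y * g → ∃ p, f p = mt g *ᵥ e)
    (hinj : ∀ g : Cfsg.Lie.G2 K, g * y = y * g → mt g *ᵥ e = e → g = 1) {N : ℕ} (hN : Fintype.card P ≤ N) :
    Nat.card (Subgroup.centralizer ({y} : Set (Cfsg.Lie.G2 K))) ≤ N := by
  classical
  have hc : ∀ g : Subgroup.centralizer ({y} : Set (Cfsg.Lie.G2 K)), (g : Cfsg.Lie.G2 K) * y = y * g := fun g =>
    Subgroup.mem_centralizer_singleton_iff.1 g.2
  choose F hF using fun g : Subgroup.centralizer ({y} : Set (Cfsg.Lie.G2 K)) => hS g (hc g)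
  have hFi : Function.Injective F := by
    intro g h e1
    have e2 : mt (g : Cfsg.Lie.G2 K) *ᵥ e = mt (h : Cfsg.Lie.G2 K) *ᵥ e := by rw [← hF, ← hF, e1]
    have e3 : mt ((h : Cfsg.Lie.G2 K)⁻¹ * (g : Cfsg.Lie.G2 K)) *ᵥ e = e := by
      rw [mt_mul, ← Matrix.mulVec_mulVec, e2, Matrix.mulVec_mulVec, ← mt_mul, inv_mul_cancel, mt_one, Matrix.one_mulVec]
    have e5 : ((h : Cfsg.Lie.G2 K)⁻¹ * (g : Cfsg.Lie.G2 K)) * y = y * ((h : Cfsg.Lie.G2 K)⁻¹ * (g : Cfsg.Lie.G2 K)) := by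
      have e6 : (h : Cfsg.Lie.G2 K)⁻¹ * y = y * (h : Cfsg.Lie.G2 K)⁻¹ := by
        rw [inv_mul_eq_iff_eq_mul, ← mul_assoc, hc h, mul_assoc, mul_inv_cancel, mul_one]
      rw [mul_assoc, hc g, ← mul_assoc, e6, mul_assoc]
    have e4 := hinj _ e5 e3
    exact Subtype.ext (inv_mul_eq_one.1 e4).symm
  refine (Nat.card_le_card_of_injective F hFi).trans ?_
  rwa [Nat.card_eq_fintype_card]

end Cfsg.Agent.H245.OZ.Oc
end

-- part: H245/OZ/GThree
section
/-!
# An element of order 8 of `G₂(3)` (helper245, for S4842)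
-/

set_option autoImplicit false

namespace Cfsg.Agent.H245.OZ.GThree

open Cfsg.Lie Cfsg.Agent.H161.Oct Matrix Cfsg.Agent.H245.OZ.Oc

instance factThreeG : Fact (Nat.Prime 3) := ⟨Nat.prime_three⟩

/-- equality of vectors -/
theorem veq {u v : Fin 8 → ZMod 3} (h0 : u 0 = v 0) (h1 : u 1 = v 1) (h2 : u 2 = v 2) (h3 : u 3 = v 3)
    (h4 : u 4 = v 4) (h5 : u 5 = v 5) (h6 : u 6 = v 6) (h7 : u 7 = v 7) : u = v := by
  funext i
  fin_cases i
  · exact h0
  · exact h1
  · exact h2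
  · exact h3
  · exact h4
  · exact h5
  · exact h6
  · exact h7

/-- order 8 -/
def yM : Matrix (Fin 8) (Fin 8) (ZMod 3) :=
  !![1, 0, 0, 0, 0, 0, 0, 0;
     0, 0, 1, 0, 0, 0, 0, 0;
     0, 1, 1, 0, 0, 0, 0, 0;
     0, 0, 0, 2, 0, 0, 0, 0;
     0, 0, 0, 0, 2, 1, 0, 0;
     0, 0, 0, 0, 1, 0, 0, 0;
     0, 0, 0, 0, 0, 0, 2, 0;
     0, 0, 0, 0, 0, 0, 0, 1]

/-- the inverse -/
def yN : Matrix (Fin 8) (Fin 8) (ZMod 3) :=
  !![1, 0, 0, 0, 0, 0, 0, 0;
     0, 2, 1, 0, 0, 0, 0, 0;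
     0, 1, 0, 0, 0, 0, 0, 0;
     0, 0, 0, 2, 0, 0, 0, 0;
     0, 0, 0, 0, 0, 1, 0, 0;
     0, 0, 0, 0, 1, 1, 0, 0;
     0, 0, 0, 0, 0, 0, 2, 0;
     0, 0, 0, 0, 0, 0, 0, 1]

/-- `g y g⁻¹ = y³` -/
def gM : Matrix (Fin 8) (Fin 8) (ZMod 3) :=
  !![1, 0, 0, 0, 0, 0, 0, 0;
     0, 0, 1, 0, 0, 0, 0, 0;
     0, 2, 0, 0, 0, 0, 0, 0;
     0, 0, 0, 1, 0, 0, 0, 0;
     0, 0, 0, 0, 0, 1, 0, 0;
     0, 0, 0, 0, 2, 0, 0, 0;
     0, 0, 0, 0, 0, 0, 1, 0;
     0, 0, 0, 0, 0, 0, 0, 1]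

/-- the inverse -/
def gN : Matrix (Fin 8) (Fin 8) (ZMod 3) :=
  !![1, 0, 0, 0, 0, 0, 0, 0;
     0, 0, 2, 0, 0, 0, 0, 0;
     0, 1, 0, 0, 0, 0, 0, 0;
     0, 0, 0, 1, 0, 0, 0, 0;
     0, 0, 0, 0, 0, 2, 0, 0;
     0, 0, 0, 0, 1, 0, 0, 0;
     0, 0, 0, 0, 0, 0, 1, 0;
     0, 0, 0, 0, 0, 0, 0, 1]

theorem y1 : yM * yN = 1 := by decide +kernel
theorem y2 : yN * yM = 1 := by decide +kernel
theorem g1 : gM * gN = 1 := by decide +kernel
theorem g2 : gN * gM = 1 := by decide +kernel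

theorem yz : ∀ i j : Fin 8, yM *ᵥ zornMul (Pi.single i 1) (Pi.single j 1) =
    zornMul (yM *ᵥ Pi.single i 1) (yM *ᵥ Pi.single j 1) := by decide +kernel
theorem gz : ∀ i j : Fin 8, gM *ᵥ zornMul (Pi.single i 1) (Pi.single j 1) =
    zornMul (gM *ᵥ Pi.single i 1) (gM *ᵥ Pi.single j 1) := by decide +kernel

/-- order 8 -/
def y : Cfsg.Lie.G2 (ZMod 3) := elt yM yN y1 y2 yz
/-- the conjugating element -/
def g : Cfsg.Lie.G2 (ZMod 3) := elt gM gN g1 g2 gz

theorem y8 : yM ^ 8 = 1 := by decide +kernel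
theorem y4 : yM ^ 4 ≠ 1 := by decide +kernel
theorem gy : gM * yM = yM ^ 3 * gM := by decide +kernel

theorem orderOf_y : orderOf y = 8 :=
  orderOf_eq_prime_pow (p := 2) (n := 2)
    (fun h => y4 (by have := congrArg Oc.mt h; rwa [mt_pow, mt_one] at this))
    (mt_inj (by rw [mt_pow, mt_one]; exact y8))

theorem conj_y : IsConj y (y ^ 3) := by
  refine isConj_iff.2 ⟨g, ?_⟩
  rw [mul_inv_eq_iff_eq_mul]
  apply mt_inj
  rw [mt_mul, mt_mul, mt_pow]
  exact gy

/-- the first projection -/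
def d1 : Fin 8 → ZMod 3 := ![1, 0, 0, 1, 1, 1, 1, 1]
/-- the second projection -/
def d2 : Fin 8 → ZMod 3 := ![1, 1, 1, 1, 0, 0, 1, 1]

theorem p1 : (yM ^ 3 + yM ^ 4 - yM ^ 5) = diagonal d1 := by decide +kernel
theorem p2 : (yM ^ 4 + yM ^ 5 - yM ^ 3) = diagonal d2 := by decide +kernel

theorem hP1 (h : Cfsg.Lie.G2 (ZMod 3)) (hh : h * y = y * h) : Commute (Oc.mt h) (diagonal d1) := by
  rw [← p1]
  have hc : Commute (Oc.mt h) yM := (mt_comm hh :)
  exact ((hc.pow_right 3).add_right (hc.pow_right 4)).sub_right (hc.pow_right 5)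

theorem hP2 (h : Cfsg.Lie.G2 (ZMod 3)) (hh : h * y = y * h) : Commute (Oc.mt h) (diagonal d2) := by
  rw [← p2]
  have hc : Commute (Oc.mt h) yM := (mt_comm hh :)
  exact ((hc.pow_right 4).add_right (hc.pow_right 5)).sub_right (hc.pow_right 3)

theorem mul_zero_of (d : Fin 8 → ZMod 3) (h : Cfsg.Lie.G2 (ZMod 3)) (hc : Commute (Oc.mt h) (diagonal d))
    (v : V (ZMod 3)) (hv : diagonal d *ᵥ v = 0) (i : Fin 8) : d i * (Oc.mt h *ᵥ v) i = 0 := by
  have h0 : (diagonal d : Matrix (Fin 8) (Fin 8) (ZMod 3)) *ᵥ (Oc.mt h *ᵥ v) = 0 := by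
    rw [Matrix.mulVec_mulVec, ← hc.eq, ← Matrix.mulVec_mulVec, hv, Matrix.mulVec_zero]
  have := congrFun h0 i
  rwa [Matrix.mulVec_diagonal] at this

theorem d1v : diagonal d1 *ᵥ (Pi.single 1 1 : V (ZMod 3)) = 0 := by decide +kernel
theorem d2v : diagonal d2 *ᵥ (Pi.single 4 1 : V (ZMod 3)) = 0 := by decide +kernel

theorem im1 (h : Cfsg.Lie.G2 (ZMod 3)) (hh : h * y = y * h) :
    ∃ p : {p : ZMod 3 × ZMod 3 // p ≠ 0}, (![0, p.1.1, p.1.2, 0, 0, 0, 0, 0] : V (ZMod 3)) =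
      Oc.mt h *ᵥ (Pi.single 1 1 : V (ZMod 3)) := by
  obtain ⟨w, hw⟩ : ∃ w, w = Oc.mt h *ᵥ (Pi.single 1 1 : V (ZMod 3)) := ⟨_, rfl⟩
  have hz : ∀ i, d1 i * w i = 0 := fun i => by
    rw [hw]
    exact mul_zero_of d1 h (hP1 h hh) _ d1v i
  have z0 : w 0 = 0 := (one_mul _).symm.trans (hz 0)
  have z3 : w 3 = 0 := (one_mul _).symm.trans (hz 3)
  have z4 : w 4 = 0 := (one_mul _).symm.trans (hz 4)
  have z5 : w 5 = 0 := (one_mul _).symm.trans (hz 5)
  have z6 : w 6 = 0 := (one_mul _).symm.trans (hz 6)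
  have z7 : w 7 = 0 := (one_mul _).symm.trans (hz 7)
  refine ⟨⟨(w 1, w 2), fun h2 => ?_⟩, ?_⟩
  · have h3 : w = 0 := veq z0 (congrArg Prod.fst h2) (congrArg Prod.snd h2) z3 z4 z5 z6 z7
    have h4 : (Oc.mt h⁻¹) *ᵥ w = Pi.single 1 1 := by
      rw [hw, Matrix.mulVec_mulVec, ← mt_mul, inv_mul_cancel, mt_one, Matrix.one_mulVec]
    rw [h3, Matrix.mulVec_zero] at h4
    exact absurd (congrFun h4 1) (by decide)
  · exact (veq z0.symm rfl rfl z3.symm z4.symm z5.symm z6.symm z7.symm : (![0, w 1, w 2, 0, 0, 0, 0, 0] : V (ZMod 3)) = w).trans hw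

theorem e12 : yM *ᵥ (Pi.single 1 1 : V (ZMod 3)) = Pi.single 2 1 := by decide +kernel
theorem e45 : (yM - 2) *ᵥ (Pi.single 4 1 : V (ZMod 3)) = Pi.single 5 1 := by decide +kernel
theorem m6 : zornMul (Pi.single 1 1 : V (ZMod 3)) (Pi.single 2 1) = Pi.single 6 1 := by decide +kernel
theorem m3 : zornMul (Pi.single 5 1 : V (ZMod 3)) (Pi.single 4 1) = Pi.single 3 1 := by decide +kernel
theorem m0 : zornMul (Pi.single 1 1 : V (ZMod 3)) (Pi.single 4 1) = Pi.single 0 1 := by decide +kernel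
theorem m7 : zornMul (Pi.single 4 1 : V (ZMod 3)) (Pi.single 1 1) = Pi.single 7 1 := by decide +kernel

theorem blw1 (w : V (ZMod 3)) : bl w (Pi.single 1 1) = - w 4 := by
  simp [bl]

theorem blw2 (w : V (ZMod 3)) : bl w (Pi.single 2 1) = - w 5 := by
  simp [bl]

theorem f2_of (h : Cfsg.Lie.G2 (ZMod 3)) (hh : h * y = y * h)
    (f1 : Oc.mt h *ᵥ (Pi.single 1 1 : V (ZMod 3)) = Pi.single 1 1) :
    Oc.mt h *ᵥ (Pi.single 2 1 : V (ZMod 3)) = Pi.single 2 1 := by
  have hc : Commute (Oc.mt h) yM := (mt_comm hh :)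
  rw [← e12, Matrix.mulVec_mulVec, hc.eq, ← Matrix.mulVec_mulVec, f1]

theorem f4_of (h : Cfsg.Lie.G2 (ZMod 3)) (hh : h * y = y * h)
    (f1 : Oc.mt h *ᵥ (Pi.single 1 1 : V (ZMod 3)) = Pi.single 1 1)
    (f2 : Oc.mt h *ᵥ (Pi.single 2 1 : V (ZMod 3)) = Pi.single 2 1) :
    Oc.mt h *ᵥ (Pi.single 4 1 : V (ZMod 3)) = Pi.single 4 1 := by
  obtain ⟨w, hw⟩ : ∃ w, w = Oc.mt h *ᵥ (Pi.single 4 1 : V (ZMod 3)) := ⟨_, rfl⟩
  have hz : ∀ i, d2 i * w i = 0 := fun i => by
    rw [hw]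
    exact mul_zero_of d2 h (hP2 h hh) _ d2v i
  have z0 : w 0 = 0 := (one_mul _).symm.trans (hz 0)
  have z1 : w 1 = 0 := (one_mul _).symm.trans (hz 1)
  have z2 : w 2 = 0 := (one_mul _).symm.trans (hz 2)
  have z3 : w 3 = 0 := (one_mul _).symm.trans (hz 3)
  have z6 : w 6 = 0 := (one_mul _).symm.trans (hz 6)
  have z7 : w 7 = 0 := (one_mul _).symm.trans (hz 7)
  have b1 := _root_.Cfsg.Agent.H245.OZ.Oc.map_bl h (Pi.single 4 1 : V (ZMod 3)) (Pi.single 1 1)
  have b2 := _root_.Cfsg.Agent.H245.OZ.Oc.map_bl h (Pi.single 4 1 : V (ZMod 3)) (Pi.single 2 1)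
  rw [← hw, f1, blw1 w, blw1 (Pi.single 4 1), neg_inj] at b1
  rw [← hw, f2, blw2 w, blw2 (Pi.single 4 1), neg_inj] at b2
  exact hw.symm.trans (veq z0 z1 z2 z3 b1 b2 z6 z7)

theorem eq_one_of_im (h : Cfsg.Lie.G2 (ZMod 3)) (hh : h * y = y * h)
    (f1 : Oc.mt h *ᵥ (Pi.single 1 1 : V (ZMod 3)) = Pi.single 1 1) : h = 1 := by
  have hc : Commute (Oc.mt h) yM := (mt_comm hh :)
  have f2 := f2_of h hh f1
  have f4 := f4_of h hh f1 f2
  have f5 : Oc.mt h *ᵥ (Pi.single 5 1 : V (ZMod 3)) = Pi.single 5 1 := by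
    have hc' : Commute (Oc.mt h) (yM - 2) := hc.sub_right (Commute.ofNat_right _ 2)
    rw [← e45, Matrix.mulVec_mulVec, hc'.eq, ← Matrix.mulVec_mulVec, f4]
  have f6 := fix_mul f1 f2
  have f3 := fix_mul f5 f4
  have f0 := fix_mul f1 f4
  have f7 := fix_mul f4 f1
  rw [m6] at f6
  rw [m3] at f3
  rw [m0] at f0
  rw [m7] at f7
  apply eq_one_of_single
  intro j
  fin_cases j
  · exact f0
  · exact f1
  · exact f2
  · exact f3
  · exact f4
  · exact f5
  · exact f6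
  · exact f7

theorem cent_y : Nat.card (Subgroup.centralizer ({y} : Set (Cfsg.Lie.G2 (ZMod 3)))) ≤ 8 :=
  card_cent_le (P := {p : ZMod 3 × ZMod 3 // p ≠ 0}) (Pi.single 1 1)
    (fun p => ![0, p.1.1, p.1.2, 0, 0, 0, 0, 0]) (fun h hh => im1 h hh) (fun h hh he => eq_one_of_im h hh he)
    (by decide +kernel)

end Cfsg.Agent.H245.OZ.GThree
end

-- part: H245/OZ/Burn
section
/-!
# S4842: degrees which are powers of a prime (helper245)

* `zero_of_coprime` : `χ(1)` prime to the size of the class of `t ≠ 1` : `χ(t) = 0`;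
* `dvd_cent` : `χ(1)` a power of the prime `r`: `|G|_r` divides `|C(x)|`.
-/

set_option autoImplicit false

open Cfsg Cfsg.Agent.Characters Cfsg.Agent.H686.CharKit Cfsg.Agent.H732.VZ Cfsg.Agent.H604.OZ

namespace Cfsg.Agent.H245.OZ

universe u

variable {G : Type u} [Group G] [Finite G] {χ : IrrCharacter G} {x : G}

/-- Burnside -/
theorem zero_of_coprime [IsSimpleGroup G] (h : _root_.Cfsg.Agent.H732.VZ.One χ x) {t : G} (ht : t ≠ 1)
    (hc : Nat.Coprime (charDegree (χ : G → ℂ)) (Subgroup.centralizer ({t} : Set G)).index) :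
    (χ : G → ℂ) t = 0 := by
  have hd := one_lt_deg h
  have hdeg := charDegree_irr χ
  obtain ⟨n, ρ, hρ, hχ⟩ := χ.2
  have h4 : charDegree (χ : G → ℂ) = Module.finrank ℂ (Fin n → ℂ) := by
    rw [← hχ, Representation.char_one] at hdeg
    rw [← hχ]
    exact_mod_cast hdeg
  rw [h4] at hc hd
  rcases S0142.result ρ t hc with h1 | h1
  · rw [← hχ]; exact h1
  · exfalso
    obtain ⟨w, hw⟩ := (Values.norm_character_eq_iff ρ t).1 h1
    have hinv : ∀ a : G, ρ a⁻¹ * ρ a = 1 := fun a => by rw [← map_mul, inv_mul_cancel, map_one]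
    have hinv' : ∀ a : G, ρ a * ρ a⁻¹ = 1 := fun a => by rw [← map_mul, mul_inv_cancel, map_one]
    -- the normal subgroup of the elements acting as scalars
    let N : Subgroup G :=
      { carrier := {g | ∃ c : ℂ, ρ g = c • (1 : (Fin n → ℂ) →ₗ[ℂ] (Fin n → ℂ))}
        mul_mem' := by
          rintro a b ⟨c, hc⟩ ⟨d, hd⟩
          exact ⟨c * d, by rw [map_mul, hc, hd, smul_mul_smul_comm, one_mul]⟩
        one_mem' := ⟨1, by rw [map_one, one_smul]⟩
        inv_mem' := by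
          rintro a ⟨c, hc⟩
          have h2 := hinv a
          rw [hc, mul_smul_comm, mul_one] at h2
          by_cases h0 : c = 0
          · refine ⟨0, ?_⟩
            rw [h0, zero_smul] at h2
            rw [zero_smul, ← mul_one (ρ a⁻¹), ← h2, mul_zero]
          · exact ⟨c⁻¹, by rw [← h2, smul_smul, inv_mul_cancel₀ h0, one_smul]⟩ }
    have hN : N.Normal := by
      refine ⟨fun a ha b => ?_⟩
      obtain ⟨c, hc⟩ := ha
      refine ⟨c, ?_⟩
      rw [map_mul, map_mul, hc, mul_smul_comm, mul_one, smul_mul_assoc, hinv']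
    have htop : N = ⊤ := by
      rcases hN.eq_bot_or_eq_top with h2 | h2
      · exact absurd (Subgroup.mem_bot.1 (h2 ▸ (show t ∈ N from ⟨w, hw⟩))) ht
      · exact h2
    obtain ⟨c, hc⟩ : x ∈ N := htop ▸ Subgroup.mem_top x
    have h2 := h.zero
    rw [← hχ, Representation.character, hc, map_smul, LinearMap.trace_one, smul_eq_mul] at h2
    have h3 : c ≠ 0 := by
      rintro rfl
      have h4 := hinv' x
      rw [hc, zero_smul, zero_mul] at h4
      have h5 : (1 : (Fin n → ℂ) →ₗ[ℂ] (Fin n → ℂ)) ≠ 0 := by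
        have : Nontrivial (Fin n → ℂ) := Module.nontrivial_of_finrank_pos (R := ℂ) (by omega)
        exact one_ne_zero
      exact h5 h4.symm
    have h4 : (Module.finrank ℂ (Fin n → ℂ) : ℂ) ≠ 0 := by
      have : Module.finrank ℂ (Fin n → ℂ) ≠ 0 := by omega
      exact_mod_cast this
    exact mul_ne_zero h3 h4 h2

/-- **The degree is a power of the prime `r`**: the order of a Sylow `r`-subgroup divides `|C(x)|`. -/
theorem dvd_cent [IsSimpleGroup G] (h : _root_.Cfsg.Agent.H732.VZ.One χ x) {r n a : ℕ} (hr : r.Prime) (hn : n ≠ 0) (h1 : r ^ n ∣ Nat.card G)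
    (hd : charDegree (χ : G → ℂ) = r ^ a) : r ^ n ∣ cent x := by
  classical
  have hF : Fact r.Prime := ⟨hr⟩
  let P : Sylow r G := default
  have hPr : r ^ n ∣ Nat.card (P : Subgroup G) := P.pow_dvd_card_of_pow_dvd_card h1
  have hPnt : Nontrivial (P : Subgroup G) := by
    rw [← Finite.one_lt_card_iff_nontrivial]
    exact lt_of_lt_of_le (Nat.one_lt_pow hn hr.one_lt) (Nat.le_of_dvd Nat.card_pos hPr)
  have hZ := P.2.center_nontrivial
  obtain ⟨z, hz⟩ := exists_ne (1 : Subgroup.center (P : Subgroup G))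
  have hz1 : ((z : (P : Subgroup G)) : G) ≠ 1 := fun h => hz (Subtype.ext (Subtype.ext h))
  have hPz : (P : Subgroup G) ≤ Subgroup.centralizer ({((z : (P : Subgroup G)) : G)} : Set G) := by
    intro g hg
    rw [H672.OZ.mem_cent]
    exact congrArg Subtype.val (Subgroup.mem_center_iff.1 z.2 ⟨g, hg⟩)
  have hidx : ¬ r ∣ (Subgroup.centralizer ({((z : (P : Subgroup G)) : G)} : Set G)).index := fun hdv =>
    P.not_dvd_index (hdv.trans (Subgroup.index_dvd_of_le hPz))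
  have h0 := zero_of_coprime h hz1 (by
    rw [hd]
    exact Nat.Coprime.pow_left a ((Nat.Prime.coprime_iff_not_dvd hr).2 hidx))
  rw [H672.OZ.cent_eq_of_conj (h.uniq _ h0)]
  exact hPr.trans (Subgroup.card_dvd_of_le hPz)

end Cfsg.Agent.H245.OZ
end

-- part: H245/OZ/GThreeRow
section
/-!
# S4842: `G₂(3)` (helper245)

`|G| = 2⁶ 3⁶ 7 13`. The primes 7 and 13 are isolated; the sieve leaves the degrees 14, 27, 168, 378. The degree 27 is
a power of 3: `729 ∣ |C(x)|`, impossible. The others are divisible by 14: `x` has order 7, `|C(x)| = 7`, and the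
elements `y` of order 8 (`|C(y)| = 8`, `y ~ y³`) give `14 ≤ 8`.
-/

set_option autoImplicit false
set_option maxRecDepth 100000

open Cfsg Cfsg.Agent.Characters Cfsg.Agent.H732.VZ Cfsg.Agent.H604.OZ

namespace Cfsg.Agent.H245.OZ

universe u

/-- a generator of an isolated torus of prime order -/
theorem exists_gen {G : Type u} [Group G] [Finite G] {m : ℕ} (h : H541.PRegTorus.Iso G m 3 6)
    (h3 : 3 < m) : ∃ z : G, orderOf z = m ∧ Nat.card (Subgroup.centralizer ({z} : Set G)) ≤ m := by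
  obtain ⟨T, hc, hT, hC, -⟩ := h
  obtain ⟨z, hz, ho⟩ := H541.PRegTorus.exists_orderOf hc (hT.symm ▸ dvd_refl m)
  have ho' : orderOf z = m := ho.trans hT
  refine ⟨z, ho', ?_⟩
  rw [hC z hz, hT]
  intro h1
  have h2 := orderOf_dvd_of_pow_eq_one h1
  rw [ho'] at h2
  have := Nat.le_of_dvd (by norm_num) h2
  omega

/-- the row from the class facts -/
theorem row_G2_three_of_facts {G : Type u} [Group G] [Finite G] [IsSimpleGroup G] (hN : Nat.card G = 4245696)
    {z z' y : G} (hz : orderOf z = 7) (hCz : Nat.card (Subgroup.centralizer ({z} : Set G)) ≤ 7)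
    (hz' : orderOf z' = 13) (hCz' : Nat.card (Subgroup.centralizer ({z'} : Set G)) ≤ 13)
    (hy : orderOf y = 8) (hCy : Nat.card (Subgroup.centralizer ({y} : Set G)) ≤ 8) (hy3 : IsConj y (y ^ 3)) :
    H730.OZ.Row G := by
  refine row_of fun χ x h => ?_
  have h4 : 4 ≤ cent x := four_le_cent h (by rw [hN]; norm_num) (by rw [hN]; norm_num)
  have hiso : ∀ r ∈ [7, 13], charDegree (χ : G → ℂ) % r = 0 ∨
      charDegree (χ : G → ℂ) % r = 1 ∨ charDegree (χ : G → ℂ) % r = r - 1 := by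
    intro r hr
    simp only [List.mem_cons, List.not_mem_nil, or_false] at hr
    rcases hr with rfl | rfl
    · exact H672.OZ.iso_mod_of h (by norm_num) (by norm_num) (by rw [hN]; norm_num) (by rw [hN]; norm_num)
        hz hCz h4
    · exact H672.OZ.iso_mod_of h (by norm_num) (by norm_num) (by rw [hN]; norm_num) (by rw [hN]; norm_num)
        hz' hCz' h4
  have hm := H672.OZ.mem_of_sieve4 h hN (l := [(2,6),(3,6),(7,1),(13,1)]) (by decide +kernel)
    (by
      intro x hx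
      simp only [List.mem_cons, List.not_mem_nil, or_false] at hx
      rcases hx with rfl | rfl | rfl | rfl <;> norm_num)
    (by decide +kernel) h4 hiso (D := [14, 27, 168, 378]) (by decide +kernel)
  have key : 14 ∣ charDegree (χ : G → ℂ) → False := by
    intro h14
    obtain ⟨hx7, hc7, -⟩ := H672.OZ.full h (r := 7) (n := 1) (by norm_num) (by norm_num) (by rw [hN]; norm_num)
      (by rw [hN]; norm_num) (by rw [pow_one]; exact dvd_trans (by norm_num) h14)
    have h2 : 2 ∣ charDegree (χ : G → ℂ) := dvd_trans (by norm_num) h14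
    have hxy : ¬ IsConj x y := by
      intro hxy
      have h6 := orderOf_eq_of_conj hxy
      rw [hx7, hy] at h6
      omega
    have hcop : ∀ m : ℕ, m.Coprime (Nat.card G) → ¬ 2 ∣ m := by
      intro m hm h6
      have h7 : 2 ∣ Nat.card G := by rw [hN]; norm_num
      exact absurd (Nat.dvd_gcd h6 h7) (by rw [hm]; norm_num)
    have hmod : ∀ m : ℕ, y ^ m = y ^ (m % 8) := fun m => by
      rw [← hy, pow_mod_orderOf]
    have h57 : IsConj (y ^ 7) (y ^ 5) := by
      have h8 := H849.OZ.isConj_pow hy3 5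
      rw [← pow_mul, hmod (3 * 5)] at h8
      exact h8.symm
    have h1or : ∀ m : ℕ, m.Coprime (Nat.card G) → IsConj (y ^ m) y ∨ IsConj (y ^ m) (y ^ 5) := by
      intro m hm
      have h6 := hcop m hm
      have h7 : m % 8 = 1 ∨ m % 8 = 3 ∨ m % 8 = 5 ∨ m % 8 = 7 := by (clear * - h6; (solve | lia | omega))
      rw [hmod m]
      rcases h7 with h7 | h7 | h7 | h7 <;> rw [h7]
      · left; rw [pow_one]
      · left; exact hy3.symm
      · right; exact IsConj.refl _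
      · right; exact h57
    have hcx : (7 : ℝ) ≤ cent x := by
      have : 7 ≤ cent x := by rw [hc7]; norm_num
      exact_mod_cast this
    have hcy : (cent y : ℝ) ≤ 8 := by exact_mod_cast hCy
    by_cases hyy : IsConj y (y ^ 5)
    · have h6 := H849.OZ.one_orb h (T := {1}) (y := y) (H849.OZ.galOrb_one fun m hm =>
        (h1or m hm).elim id fun h7 => h7.trans hyy.symm) (r := 2) (by norm_num) h2 ⟨3, by rw [hy]; norm_num⟩
        hxy (b := 4) (by norm_num) (by norm_num)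
      rw [Finset.card_singleton] at h6
      norm_num only [] at h6
      linarith only [hcx, hcy, h6]
    · have h6 := H849.OZ.one_orb h (T := {1, 5}) (y := y) (H849.OZ.galOrb_two (by rw [hN]; norm_num) hyy h1or)
        (r := 2) (by norm_num) h2 ⟨3, by rw [hy]; norm_num⟩ hxy (b := 2) (by norm_num) (by norm_num)
      rw [show (({1, 5} : Finset ℕ).card) = 2 from rfl] at h6
      norm_num only [] at h6
      linarith only [hcx, hcy, h6]
  simp only [List.mem_cons, List.not_mem_nil, or_false] at hm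
  rcases hm with hd | hd | hd | hd
  · exact key (by rw [hd])
  · have h6 := dvd_cent h (r := 3) (n := 6) (a := 3) (by norm_num) (by norm_num) (by rw [hN]; norm_num)
      (by rw [hd]; norm_num)
    have h7 := H672.OZ.cent_le_of h hN (r := 2) (n := 6) (by norm_num) hd (by norm_num) (by norm_num) (by norm_num)
    have h8 := Nat.le_of_dvd (by omega) h6
    norm_num only [] at h7 h8
    omega
  · exact key (by rw [hd]; norm_num)
  · exact key (by rw [hd]; norm_num)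

theorem card_g2three : Nat.card (Cfsg.Lie.G2 (ZMod 3)) = 4245696 := by
  have h := H638.G2Iso.card_G2 (F := ZMod 3)
  rw [Nat.card_zmod] at h
  rw [h]
  norm_num

theorem card_chev_three : Nat.card ↥(Cfsg.Lie.chevG2.group (ZMod 3)) = 4245696 := by
  have h := Cfsg.Agent.S1059.result (F := ZMod 3) (q := 3) (ZMod.card 3)
  rw [h]
  norm_num

theorem iso13 : H541.PRegTorus.Iso ↥(Cfsg.Lie.chevG2.group (ZMod 3)) 13 3 6 :=
  H541.PRegG2.tor3 (F := ZMod 3) (q := 3) (ZMod.card 3) le_rfl (M := 326592)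
    (card_chev_three.trans (by norm_num)) (by norm_num)

theorem iso7 : H541.PRegTorus.Iso ↥(Cfsg.Lie.chevG2.group (ZMod 3)) 7 3 6 :=
  H541.PRegG2.tor6 (F := ZMod 3) (q := 3) (ZMod.card 3) le_rfl (M := 606528)
    (card_chev_three.trans (by norm_num)) (by norm_num)

theorem iso13' : H541.PRegTorus.Iso (Cfsg.Lie.G2 (ZMod 3)) 13 3 6 := by
  obtain ⟨f⟩ := H638.G2Iso.equiv (F := ZMod 3)
  exact H541.PRegTorus.Iso.congr (S := ↥(Cfsg.Lie.chevG2.group (ZMod 3))) f.symm iso13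

theorem iso7' : H541.PRegTorus.Iso (Cfsg.Lie.G2 (ZMod 3)) 7 3 6 := by
  obtain ⟨f⟩ := H638.G2Iso.equiv (F := ZMod 3)
  exact H541.PRegTorus.Iso.congr (S := ↥(Cfsg.Lie.chevG2.group (ZMod 3))) f.symm iso7

theorem finite_g2three : Finite (Cfsg.Lie.G2 (ZMod 3)) :=
  Nat.finite_of_card_ne_zero (by rw [card_g2three]; norm_num)

theorem row_lie (hs : IsSimpleGroup (Cfsg.Lie.G2 (ZMod 3))) : H730.OZ.Row (Cfsg.Lie.G2 (ZMod 3)) := by
  have hfin := finite_g2three
  obtain ⟨z, hz, hCz⟩ := exists_gen iso7' (by norm_num)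
  obtain ⟨z', hz', hCz'⟩ := exists_gen iso13' (by norm_num)
  exact row_G2_three_of_facts card_g2three hz hCz hz' hCz' GThree.orderOf_y GThree.cent_y GThree.conj_y

/-- **`G₂(3)`.** -/
theorem row_G2_three {S : Type u} [Group S] [Finite S] (hs : IsSimpleGroup S) {F : Type} [Field F] [Fintype F]
    (hF : Fintype.card F = 3) (e : S ≃* Cfsg.Lie.chevG2.group F) : H730.OZ.Row S := by
  obtain ⟨f2⟩ := H638.G2Iso.equiv (F := ZMod 3)
  have g : F ≃+* ZMod 3 := FiniteField.ringEquivOfCardEq (K := F) (K' := ZMod 3) (by rw [hF, ZMod.card])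
  have f : S ≃* Cfsg.Lie.G2 (ZMod 3) :=
    (e.trans (ChevStructure.FieldMap.groupEquivOfRingEquiv Cfsg.Lie.chevG2 g)).trans f2.symm
  exact H730.OZ.Row.congr (by exact f) (row_lie (MulEquiv.isSimpleGroup f.symm))

end Cfsg.Agent.H245.OZ
end

-- part: H355/GT/Final
section
/-!
# The row `G₂(q)` (helper355, S4842), hypothesis-free
-/

set_option autoImplicit false

open Cfsg

namespace Cfsg.Agent.H355.GT

open Cfsg.Lie Cfsg.Agent.H730.OZ

universe u

/-- **the row `G₂(q)`** -/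
theorem row_g2 {S : Type u} [Group S] [Finite S] (hs : IsSimpleGroup S) (h : Lie.IsoChevG2 S) :
    Row S :=
  row_g2_of_three (fun hs _ _ _ hF e => H245.OZ.row_G2_three hs hF e) hs h

end Cfsg.Agent.H355.GT
end
end

-- part: H849/OZ/RowSpor
section
prune_inst 0x41560654059e2020400000592112038244e0005b000280800f8a40b42020fff228082a900ec801900120aa20100050020001000d0400000000000000000040501000012041100a10840001800108401000000000000000000000080000004100420c010000
set_option linter.all false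
open scoped Cfsg.Agent.FastGrp

-- part: H289/OZ/Tools
section
/-!
# One vanishing class: fused subgroups, congruences, several classes (helper289, S4842)

* `pow_conj`  : `|N(⟨y⟩)| = (p - 1) |C(y)|`, `y` of order `p`: `y` is rational;
* `fused`     : `S ≤ G`, all non-identity elements conjugate to `y`, `χ(y) = k`: `|S| ∣ χ(1) - k`;
* `congr_int` : `g`, `g ^ j` with the same `r'`-part: `r ∣ χ(g) - χ(g ^ j)`;
* `pow_dvd`   : `r ^ a ∣ χ(1)`, `r` prime to `|G : C(y)|`: `r ^ a ∣ χ(y)`.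
-/

set_option autoImplicit false

open Cfsg Cfsg.Agent.Characters Cfsg.Agent.H732.VZ Cfsg.Agent.H604.OZ

namespace Cfsg.Agent.H289.OZ

open Subgroup

universe u

theorem pow_conj {G : Type u} [Group G] [Finite G] {y : G} {p c : ℕ} (hp : p.Prime) (hy : orderOf y = p)
    (hc : Nat.card (centralizer ({y} : Set G)) = c) (hN : Nat.card (normalizer (zpowers y : Set G)) = (p - 1) * c) {m : ℕ}
    (hm : m.Coprime p) : IsConj (y ^ m) y := by
  classical
  obtain ⟨N, hNN⟩ : ∃ N : Subgroup G, N = normalizer (zpowers y : Set G) := ⟨_, rfl⟩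
  rw [← hNN] at hN
  have hmem : ∀ g ∈ N, g * y * g⁻¹ ∈ zpowers y := by
    intro g hg
    rw [hNN] at hg
    exact (Subgroup.mem_normalizer_iff.1 hg y).1 (mem_zpowers y)
  let act : MulAction N G := MulAction.compHom G (MulAut.conj.comp N.subtype)
  have hsm : ∀ (g : N) (u : G), g • u = g * u * (g : G)⁻¹ := fun g u => rfl
  have hle : centralizer ({y} : Set G) ≤ N := by
    intro g hg
    rw [hNN, Subgroup.mem_normalizer_iff]
    have h1 : g * y = y * g := mem_centralizer_singleton_iff.1 hg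
    have h2 : ∀ k : ℤ, g * y ^ k * g⁻¹ = y ^ k := fun k => by
      have h3 : Commute g y := h1
      rw [(h3.zpow_right k).eq, mul_inv_cancel_right]
    intro u
    constructor
    · intro hu
      obtain ⟨k, rfl⟩ := mem_zpowers_iff.1 hu
      rw [h2]
      exact hu
    · intro hu
      obtain ⟨k, hk⟩ := mem_zpowers_iff.1 hu
      have h3 : u = y ^ k := by
        have h4 : u = g⁻¹ * (g * u * g⁻¹) * g := by group
        rw [h4, ← hk]
        have h5 : Commute g⁻¹ y := Commute.inv_left h1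
        rw [(h5.zpow_right k).eq, inv_mul_cancel_right]
      rw [h3]
      exact zpow_mem (mem_zpowers y) k
  have hstab : Nat.card (MulAction.stabilizer N y) = c := by
    have h1 : (MulAction.stabilizer N y).map N.subtype = centralizer ({y} : Set G) := by
      ext g
      constructor
      · rintro ⟨n, hn, rfl⟩
        have h2 : (n : G) * y * (n : G)⁻¹ = y := hn
        exact mem_centralizer_singleton_iff.2 (mul_inv_eq_iff_eq_mul.1 h2)
      · intro hg
        refine ⟨⟨g, hle hg⟩, ?_, rfl⟩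
        show g * y * g⁻¹ = y
        rw [mem_centralizer_singleton_iff.1 hg, mul_inv_cancel_right]
    rw [← hc, ← h1]
    exact (Subgroup.card_map_of_injective N.subtype_injective).symm
  have hpos : 0 < c := by rw [← hc]; exact Nat.card_pos
  have horb : (MulAction.orbit N y).ncard = p - 1 := by
    have h1 := (MulAction.stabilizer N y).card_mul_index
    rw [hstab, MulAction.index_stabilizer, hN, mul_comm (p - 1)] at h1
    exact Nat.eq_of_mul_eq_mul_left hpos h1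
  have hT : (((zpowers y : Subgroup G) : Set G) \ {1}).ncard = p - 1 := by
    rw [Set.ncard_sdiff_singleton_of_mem (one_mem _)]
    congr 1
    rw [← Nat.card_coe_set_eq]
    exact (Nat.card_zpowers y).trans hy
  have hsub : MulAction.orbit N y ⊆ ((zpowers y : Subgroup G) : Set G) \ {1} := by
    rintro _ ⟨g, rfl⟩
    refine ⟨hmem g g.2, ?_⟩
    intro h1
    have h2 : (g : G) * y * (g : G)⁻¹ = 1 := h1
    rw [conj_eq_one_iff] at h2
    rw [h2, orderOf_one] at hy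
    exact hp.one_lt.ne hy
  have heq := Set.eq_of_subset_of_ncard_le hsub (by rw [hT, horb]) (Set.toFinite _)
  have hin : y ^ m ∈ MulAction.orbit N y := by
    rw [heq]
    refine ⟨pow_mem (mem_zpowers y) m, ?_⟩
    intro h1
    have h2 : y ^ m = 1 := h1
    have h3 := orderOf_dvd_of_pow_eq_one h2
    rw [hy] at h3
    exact (Nat.Prime.coprime_iff_not_dvd hp).1 hm.symm h3
  obtain ⟨g, hg⟩ := hin
  refine (isConj_iff.2 ⟨(g : G), ?_⟩ : IsConj y (y ^ m)).symm
  exact hg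

variable {G : Type u} [Group G] [Finite G] {χ : IrrCharacter G}

/-- a fused subgroup -/
theorem fused {S : Subgroup G} {y : G} (hS : ∀ u ∈ S, u ≠ 1 → IsConj u y) {k : ℤ} (hk : (χ : G → ℂ) y = k) {n : ℕ}
    (hn : Nat.card S = n) : (n : ℤ) ∣ (charDegree (χ : G → ℂ) : ℤ) - k := by
  obtain ⟨m, hm⟩ := H174.Ore.fused_sum hS χ
  rw [hk, hn] at hm
  have h1 : ((charDegree (χ : G → ℂ) : ℤ) - k : ℤ) = n * (m - k) := by
    have : (((charDegree (χ : G → ℂ) : ℤ) - k : ℤ) : ℂ) = ((n * (m - k) : ℤ) : ℂ) := by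
      push_cast
      linear_combination hm
    exact_mod_cast this
  exact ⟨m - k, h1⟩

/-- congruence for commuting elements -/
theorem congr_int {g : G} {r : ℕ} (hr : r.Prime) {j n : ℕ} (hj : (g ^ j) ^ (r ^ n) = g ^ (r ^ n)) {k l : ℤ}
    (hk : (χ : G → ℂ) g = k) (hl : (χ : G → ℂ) (g ^ j) = l) : (r : ℤ) ∣ k - l := by
  obtain ⟨M, hM⟩ := Blocks.ExistsModular.exists_isPModular hr
  have h1 := H849.OZ.av_sub_mem (χ := χ) hr hM.2.1.isPrime hM.2.2 g hj
  have h2 : Cfsg.Agent.H732.VZ.av χ g - Cfsg.Agent.H732.VZ.av χ (g ^ j) = ((k - l : ℤ) : AlgInt) := by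
    apply Subtype.ext
    rw [AddSubgroupClass.coe_sub, Cfsg.Agent.H732.VZ.av_coe, Cfsg.Agent.H732.VZ.av_coe, hk, hl]
    simp
  rw [h2, int_mem_iff hr hM.2.1.isPrime hM.2.2] at h1
  exact h1

/-- divisibility for central elements of a Sylow subgroup -/
theorem pow_dvd {y : G} {r a : ℕ} (hr : r.Prime) (hd : r ^ a ∣ charDegree (χ : G → ℂ))
    (hi : ¬ r ∣ (Subgroup.centralizer ({y} : Set G)).index) {k : ℤ} (hk : (χ : G → ℂ) y = k) : ((r ^ a : ℕ) : ℤ) ∣ k := by
  have h1 := H849.OZ.rat_dvd_deg y hk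
  have h2 : ((r ^ a : ℕ) : ℤ) ∣ ((Subgroup.centralizer ({y} : Set G)).index : ℤ) * k :=
    (Int.natCast_dvd_natCast.2 hd).trans h1
  refine IsCoprime.dvd_of_dvd_mul_left ?_ h2
  rw [Nat.isCoprime_iff_coprime]
  exact Nat.Coprime.pow_left _ ((Nat.Prime.coprime_iff_not_dvd hr).2 hi)

theorem not_conj {x y : G} (h : One χ x) {k : ℤ} (hk : (χ : G → ℂ) y = k) (h0 : k ≠ 0) : ¬ IsConj x y := by
  intro hx
  obtain ⟨c, hc⟩ := isConj_iff.1 hx
  have h2 : (χ : G → ℂ) y = 0 := by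
    rw [← hc, (Core.isIrr_isClassFunction χ.2) x c]
    exact h.zero
  rw [hk] at h2
  exact h0 (by exact_mod_cast h2)

/-- one rational class -/
theorem one_k {x y : G} (h : One χ x) (hy : ∀ m : ℕ, m.Coprime (Nat.card G) → IsConj (y ^ m) y) {k : ℤ}
    (hk : (χ : G → ℂ) y = k) : k = 0 ∨ cent x * (k.natAbs ^ 2 - 1) ≤ cent y := by
  by_cases h0 : k = 0
  · exact Or.inl h0
  · exact Or.inr (H849.OZ.one_class h hy hk (not_conj h hk h0) (n := k.natAbs) (Int.natAbs_dvd.2 dvd_rfl))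

/-- one rational class, bounds: `c0 ≤ |C(x)|`, `|C(y)| ≤ c1`, `c1 < c0 ((b + 1) ^ 2 - 1)` -/
theorem one_le {x y : G} (h : One χ x) (hy : ∀ m : ℕ, m.Coprime (Nat.card G) → IsConj (y ^ m) y) {k : ℤ}
    (hk : (χ : G → ℂ) y = k) {c0 c1 : ℕ} (h0 : c0 ≤ cent x) (h1 : cent y ≤ c1) (b : ℕ)
    (hb : c1 < c0 * ((b + 1) ^ 2 - 1)) : k = 0 ∨ k.natAbs ≤ b := by
  rcases one_k h hy hk with h2 | h2
  · exact Or.inl h2
  · right
    by_contra hlt
    have h3 : (b + 1) ^ 2 - 1 ≤ k.natAbs ^ 2 - 1 := Nat.sub_le_sub_right (Nat.pow_le_pow_left (by omega) 2) 1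
    have h4 := Nat.mul_le_mul h0 h3
    omega

/-- several rational classes of elements of different orders -/
theorem excess_fin {n : ℕ} {x : G} (h : One χ x) (y : Fin n → G) (k : Fin n → ℤ)
    (hy : ∀ i, ∀ m : ℕ, m.Coprime (Nat.card G) → IsConj (y i ^ m) (y i)) (hk : ∀ i, (χ : G → ℂ) (y i) = k i)
    (hk0 : ∀ i, k i ≠ 0) (hord : ∀ i j, i ≠ j → orderOf (y i) ≠ orderOf (y j)) :
    (cent x : ℝ) * ∑ i, ((k i : ℝ) ^ 2 - 1) / cent (y i) ≤ 1 :=
  H849.OZ.excess_rat h Finset.univ y k (fun i _ => hy i) (fun i _ => hk i) (fun i _ => not_conj h (hk i) (hk0 i))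
    (fun i _ j _ hij hc => hord i j hij (H604.OZ.orderOf_eq_of_conj hc))

end Cfsg.Agent.H289.OZ
end

-- part: H289/OZ/Th
section
/-!
# One vanishing class: the Thompson group (helper289, S4842)

The sieve leaves 45 degrees.  The Sylow 5-subgroup `P` (order 125) is fused, `|C(z)| = 3000`; the elements of order 13 are
rational with `|C| = 39`: these kill all degrees but 1935360 and 41990400.  The last two are killed by the excess inequality
with the classes 5A, 13A, 2A, 10A.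
-/

set_option autoImplicit false
set_option maxRecDepth 100000

open Cfsg Cfsg.Agent.Characters Cfsg.Agent.H732.VZ Cfsg.Agent.H604.OZ

namespace Cfsg.Agent.H289.OZ

open Subgroup

universe u

/-- in a finite group with an involution `s` which is the only involution commuting with `s`, all involutions are conjugate -/
theorem conj_of_uniq {H : Type*} [Group H] [Finite H] {s t : H} (hs : orderOf s = 2) (ht : orderOf t = 2)
    (hu : ∀ u : H, orderOf u = 2 → u * s = s * u → u = s) : ∃ g : H, g * s * g⁻¹ = t := by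
  have hss : s * s = 1 := by rw [← pow_two, ← hs, pow_orderOf_eq_one]
  have htt : t * t = 1 := by rw [← pow_two, ← ht, pow_orderOf_eq_one]
  have hsi : s⁻¹ = s := inv_eq_of_mul_eq_one_left hss
  have hti : t⁻¹ = t := inv_eq_of_mul_eq_one_left htt
  have hinv : ∀ j : ℕ, s * (s * t) ^ j * s⁻¹ = ((s * t) ^ j)⁻¹ := by
    intro j
    rw [← conj_pow, ← inv_pow]
    congr 1
    rw [mul_inv_rev, hsi, hti, ← mul_assoc, hss, one_mul]
  have hpos : 0 < orderOf (s * t) := orderOf_pos _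
  rcases Nat.even_or_odd (orderOf (s * t)) with ⟨k, hk⟩ | ⟨k, hk⟩
  · have hk0 : 0 < k := by omega
    have h1 : (s * t) ^ k * (s * t) ^ k = 1 := by rw [← pow_add, ← hk, pow_orderOf_eq_one]
    have h2 : (s * t) ^ k ≠ 1 := pow_ne_one_of_lt_orderOf hk0.ne' (by omega)
    have h3 : orderOf ((s * t) ^ k) = 2 := by
      have : Fact (Nat.Prime 2) := ⟨Nat.prime_two⟩
      exact orderOf_eq_prime (by rw [pow_two]; exact h1) h2
    have h4 := hu _ h3 (by
      have h5 := hinv k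
      rw [inv_eq_of_mul_eq_one_left h1, mul_inv_eq_iff_eq_mul] at h5
      exact h5.symm)
    have h5 : s * (s * t) = s * t * s := by
      have h6 : Commute ((s * t) ^ k) (s * t) := (Commute.refl _).pow_left k
      rw [h4] at h6
      exact h6
    have h7 : t * s = s * t := by
      rw [← mul_assoc, hss, one_mul] at h5
      calc t * s = s * t * s * s := by rw [← h5]
        _ = s * t := by rw [mul_assoc, hss, mul_one]
    exact ⟨1, by rw [one_mul, inv_one, mul_one]; exact (hu t ht h7).symm⟩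
  · refine ⟨(s * t) ^ k, ?_⟩
    have h1 : s * ((s * t) ^ k)⁻¹ = (s * t) ^ k * s := by
      have h2 := hinv k
      rw [mul_inv_eq_iff_eq_mul] at h2
      have h3 : s * ((s * t) ^ k)⁻¹ * ((s * t) ^ k) = (s * t) ^ k * s * ((s * t) ^ k) := by
        rw [inv_mul_cancel_right, mul_assoc, h2, mul_inv_cancel_left]
      exact mul_right_cancel h3
    rw [mul_assoc, h1, ← mul_assoc, ← pow_add]
    have h4 : (s * t) ^ (k + k) * (s * t) = 1 := by
      rw [← pow_succ, ← two_mul, ← hk, pow_orderOf_eq_one]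
    rw [eq_inv_of_mul_eq_one_left h4, mul_inv_rev, hsi, hti, mul_assoc, hss, mul_one]

section ten

variable {K : Type u} [Group K] [Finite K] {x y z a : K} (D : H49.ThFive.Dat x y z a)
include D

theorem oa : orderOf a = 2 := by
  have h := D.loc.os
  rwa [Subgroup.orderOf_mk] at h

theorem w_six : (z * a) ^ 6 = z := by
  have h1 : Commute z a := D.az.symm
  rw [h1.mul_pow, show a ^ 6 = (a ^ 2) ^ 3 by rw [← pow_mul], ← oa D, pow_orderOf_eq_one, one_pow, mul_one,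
    show z ^ 6 = z ^ 5 * z by rw [← pow_succ], ← D.oz, pow_orderOf_eq_one, one_mul]

theorem w_five : (z * a) ^ 5 = a := by
  have h1 : Commute z a := D.az.symm
  have h2 : z ^ 5 = 1 := by rw [← D.oz, pow_orderOf_eq_one]
  have h3 : a ^ 2 = 1 := by rw [← oa D, pow_orderOf_eq_one]
  rw [h1.mul_pow, h2, one_mul, show a ^ 5 = (a ^ 2) ^ 2 * a by rw [← pow_mul, ← pow_succ], h3, one_pow, one_mul]

theorem card_w : Nat.card (centralizer ({z * a} : Set K)) = 120 := by
  obtain ⟨N, L⟩ := D.loc.exists_LC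
  have h1 := L.orbit.2
  rw [← h1, ← Subgroup.card_map_of_injective (centralizer ({z} : Set K)).subtype_injective]
  congr 2
  have key : ∀ g : K, g ∈ centralizer ({z * a} : Set K) ↔ (g * z = z * g ∧ g * a = a * g) := by
    intro g
    rw [mem_centralizer_singleton_iff]
    constructor
    · intro h
      have h2 : Commute g (z * a) := h
      have h3 := h2.pow_right 6
      have h4 := h2.pow_right 5
      rw [w_six D] at h3
      rw [w_five D] at h4
      exact ⟨h3, h4⟩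
    · rintro ⟨h2, h3⟩
      exact (Commute.mul_right (show Commute g z from h2) (show Commute g a from h3)).eq
  ext g
  rw [key g]
  constructor
  · rintro ⟨h2, h3⟩
    refine ⟨⟨g, mem_centralizer_singleton_iff.2 h2⟩, ?_, rfl⟩
    exact mem_centralizer_singleton_iff.2 (Subtype.ext h3)
  · rintro ⟨v, hv, rfl⟩
    exact ⟨mem_centralizer_singleton_iff.1 v.2, congrArg Subtype.val (mem_centralizer_singleton_iff.1 hv)⟩

theorem rat_w {m : ℕ} (hm2 : ¬ 2 ∣ m) (hm5 : ¬ 5 ∣ m) : IsConj ((z * a) ^ m) (z * a) := by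
  have hf5 : Nat.Prime 5 := by norm_num
  have h1 : Commute z a := D.az.symm
  have hz : orderOf (z ^ m) = 5 := by
    rw [Nat.Coprime.orderOf_pow, D.oz]
    rw [D.oz]
    exact (Nat.Prime.coprime_iff_not_dvd hf5).2 hm5
  have ha : a ^ m = a := by
    obtain ⟨k, rfl⟩ : ∃ k, m = 2 * k + 1 := ⟨m / 2, by omega⟩
    rw [pow_succ, pow_mul, ← oa D, pow_orderOf_eq_one, one_pow, one_mul]
  obtain ⟨g, hg⟩ := D.all hz
  have ht : g * a * g⁻¹ * z = z * (g * a * g⁻¹) := by
    rw [← hg]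
    have h2 : a * z ^ m = z ^ m * a := ((show Commute a z from D.az).pow_right m).eq
    calc g * a * g⁻¹ * (g * z ^ m * g⁻¹) = g * (a * z ^ m) * g⁻¹ := by group
      _ = g * (z ^ m * a) * g⁻¹ := by rw [h2]
      _ = g * z ^ m * g⁻¹ * (g * a * g⁻¹) := by group
  have hot : orderOf (g * a * g⁻¹) = 2 := by
    rw [← MulAut.conj_apply, MulEquiv.orderOf_eq, oa D]
  obtain ⟨c, hc⟩ := conj_of_uniq (H := centralizer ({z} : Set K)) (s := ⟨a, mem_centralizer_singleton_iff.2 D.az⟩)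
    (t := ⟨g * a * g⁻¹, mem_centralizer_singleton_iff.2 ht⟩) D.loc.os (by rw [Subgroup.orderOf_mk]; exact hot) D.loc.uniq
  have hc1 : (c : K) * a * (c : K)⁻¹ = g * a * g⁻¹ := congrArg Subtype.val hc
  have hc2 : (c : K) * z = z * c := mem_centralizer_singleton_iff.1 c.2
  refine isConj_iff.2 ⟨(c : K)⁻¹ * g, ?_⟩
  rw [h1.mul_pow, ha]
  have hc3 : (c : K)⁻¹ * z * c = z := by rw [mul_assoc, ← hc2, inv_mul_cancel_left]
  calc (c : K)⁻¹ * g * (z ^ m * a) * ((c : K)⁻¹ * g)⁻¹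
      = (c : K)⁻¹ * (g * z ^ m * g⁻¹) * (g * a * g⁻¹) * c := by group
    _ = (c : K)⁻¹ * z * (c * a * (c : K)⁻¹) * c := by rw [hg, ← hc1]
    _ = (c : K)⁻¹ * z * c * a := by group
    _ = z * a := by rw [hc3]

theorem ow : orderOf (z * a) = 10 := by
  have h1 : Commute z a := D.az.symm
  rw [h1.orderOf_mul_eq_mul_orderOf_of_coprime (by rw [D.oz, oa D]; norm_num), D.oz, oa D]

end ten

theorem row_th' [Finite Spor.Th] : H730.OZ.Row Spor.Th := by
  have hN : Nat.card Spor.Th = 90745943887872000 := H174.Ore.Th.card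
  have hs : IsSimpleGroup Spor.Th := H174.Ore.Th.simple
  obtain ⟨_, x₀, y₀, z, a, D⟩ := H49.ThFive.exists_dat
  have h13 : ∀ {y : Spor.Th}, orderOf y = 13 → Nat.card (centralizer ({y} : Set Spor.Th)) = 39 :=
    fun hy => H174.Ore.Th.cent_thirteen hy
  obtain ⟨t, ht⟩ := H174.Ore.Th.exists_ord (r := 13) (by norm_num) (by norm_num)
  obtain ⟨f, hf⟩ := H174.Ore.Th.exists_emb
  have hNt : Nat.card (normalizer (zpowers t : Set Spor.Th)) = (13 - 1) * 39 := by
    have h1 : Nat.card (centralizer (zpowers t : Set Spor.Th)) = 39 := by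
      rw [← h13 ht, zpowers_eq_closure, centralizer_closure]
    have h2 := H444.ThLoc.cn13 (R := zpowers t) (by rw [Nat.card_zpowers, ht])
    have h3 : Nat.card (centralizer (zpowers t : Set Spor.Th)) = 39 := h1
    simp only [List.mem_cons, List.not_mem_nil, or_false, Prod.mk.injEq] at h2
    rcases h2 with ⟨h4, h5⟩ | ⟨h4, h5⟩ | ⟨h4, h5⟩ | ⟨h4, h5⟩ | ⟨h4, h5⟩ | ⟨h4, h5⟩
    · exact h5
    all_goals
      exfalso
      have h6 := h3.symm.trans h4
      norm_num at h6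
  have rt : ∀ m : ℕ, m.Coprime (Nat.card Spor.Th) → IsConj (t ^ m) t := fun m hm =>
    pow_conj (by norm_num) ht (h13 ht) hNt (Nat.Coprime.coprime_dvd_right (by rw [hN]; norm_num) hm)
  have rz : ∀ m : ℕ, m.Coprime (Nat.card Spor.Th) → IsConj (z ^ m) z := fun m hm => by
    obtain ⟨g, hg⟩ := D.all (u := z ^ m) (by
      rw [Nat.Coprime.orderOf_pow (Nat.Coprime.coprime_dvd_left (orderOf_dvd_natCard z) hm.symm), D.oz])
    exact isConj_iff.2 ⟨g, hg⟩
  have h2N : ∀ m : ℕ, m.Coprime (Nat.card Spor.Th) → ¬ 2 ∣ m ∧ ¬ 5 ∣ m := fun m hm =>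
    ⟨fun h => by
      have := Nat.Coprime.eq_one_of_dvd (Nat.Coprime.coprime_dvd_left h hm) (by rw [hN]; norm_num)
      norm_num at this, fun h => by
      have := Nat.Coprime.eq_one_of_dvd (Nat.Coprime.coprime_dvd_left h hm) (by rw [hN]; norm_num)
      norm_num at this⟩
  have rw' : ∀ m : ℕ, m.Coprime (Nat.card Spor.Th) → IsConj ((z * a) ^ m) (z * a) := fun m hm =>
    rat_w D (h2N m hm).1 (h2N m hm).2
  have ra : ∀ m : ℕ, m.Coprime (Nat.card Spor.Th) → IsConj (a ^ m) a := fun m hm => by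
    obtain ⟨k, hk⟩ : ∃ k, m = 2 * k + 1 := ⟨m / 2, by have := (h2N m hm).1; omega⟩
    rw [hk, pow_succ, pow_mul, ← oa D, pow_orderOf_eq_one, one_pow, one_mul]
  have ca : Nat.card (centralizer ({a} : Set Spor.Th)) = 92897280 :=
    Cfsg.Agent.MonsterX.ThOneClass.card_centralizer (oa D)
  refine row_of fun χ x h => ?_
  have h4 : 4 ≤ cent x := four_le_cent h (by rw [hN]; norm_num) (by rw [hN]; norm_num)
  have hiso : ∀ r ∈ [19, 31], charDegree (χ : Spor.Th → ℂ) % r = 0 ∨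
      charDegree (χ : Spor.Th → ℂ) % r = 1 ∨ charDegree (χ : Spor.Th → ℂ) % r = r - 1 := by
    intro r hr
    simp only [List.mem_cons, List.not_mem_nil, or_false] at hr
    rcases hr with rfl | rfl
    · exact H672.OZ.iso_mod h (by norm_num) (by norm_num) (by rw [hN]; norm_num) (by rw [hN]; norm_num)
        (by rw [hN]; norm_num) (fun y hy => (H829.Pw.th_cent19 hf hy).1) h4
    · exact H672.OZ.iso_mod h (by norm_num) (by norm_num) (by rw [hN]; norm_num) (by rw [hN]; norm_num)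
        (by rw [hN]; norm_num) (fun y hy => H829.Pw.th_cent31 hf hy) h4
  have hm := H672.OZ.mem_of_sieve h hN (l := [(2,15),(3,10),(5,3),(7,2),(13,1),(19,1),(31,1)]) (by decide +kernel)
    (by
      intro x hx
      simp only [List.mem_cons, List.not_mem_nil, or_false] at hx
      rcases hx with rfl | rfl | rfl | rfl | rfl | rfl | rfl <;> norm_num)
    (by decide +kernel) h4 hiso (D := [342, 1425, 1520, 3192, 6480, 10260, 10944, 13300, 21546, 45600, 48640, 69255, 73872, 89775, 95760, 102144, 307800, 328320, 350208, 425600, 498636, 646380, 689472, 1459200, 1556480, 1935360, 2077650, 2216160, 2363904, 2872800, 3064320, 3268608, 4363065, 4653936, 9849600, 10077696, 10506240, 13619200, 14959080, 15956352, 19391400, 20684160, 22063104, 41990400, 66484800]) (_root_.Cfsg.Agent.H672.OZ.LowExp.all_of (by decide +kernel))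
  -- the values
  obtain ⟨k5, hk5⟩ := H849.OZ.rat (χ := χ) rz
  obtain ⟨k13, hk13⟩ := H849.OZ.rat (χ := χ) rt
  obtain ⟨k2, hk2⟩ := H849.OZ.rat (χ := χ) ra
  obtain ⟨k10, hk10⟩ := H849.OZ.rat (χ := χ) rw'
  have c5 : cent z = 3000 := D.card_C
  have c13 : cent t = 39 := h13 ht
  have cw : cent (z * a) = 120 := card_w D
  have m5 := fused (S := H49.ThFive.PP x₀ y₀ z) (fun u hu hu1 => isConj_iff.2 (D.conj_z hu hu1)) hk5 D.card_P
  have m13 := fused (χ := χ) (S := zpowers t) (y := t) (fun u hu hu1 => by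
    obtain ⟨j, rfl⟩ := (mem_powers_iff_mem_zpowers (x := t) (y := u)).2 hu
    refine pow_conj (p := 13) (by norm_num) ht (h13 ht) hNt ?_
    rw [Nat.coprime_comm]
    refine (Nat.Prime.coprime_iff_not_dvd (by norm_num)).2 fun hd => hu1 ?_
    obtain ⟨i, rfl⟩ := hd
    show t ^ (13 * i) = 1
    rw [pow_mul, ← ht, pow_orderOf_eq_one, one_pow]) hk13 (by rw [Nat.card_zpowers, ht])
  have b5 := one_le h rz hk5 h4 c5.le 27 (by norm_num)
  have b13 := one_le h rt hk13 h4 c13.le 3 (by norm_num)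
  have b19 : 19 ∣ charDegree (χ : Spor.Th → ℂ) → (k5 = 0 ∨ k5.natAbs ≤ 12) ∧ (k13 = 0 ∨ k13.natAbs ≤ 1) := by
    intro hd
    have h5 := (H672.OZ.full h (r := 19) (n := 1) (by norm_num) (by norm_num) (by rw [hN]; norm_num)
      (by rw [hN]; norm_num) (by rw [pow_one]; exact hd)).2.1
    rw [pow_one] at h5
    exact ⟨one_le h rz hk5 h5.ge c5.le 12 (by norm_num), one_le h rt hk13 h5.ge c13.le 1 (by norm_num)⟩
  have hd2 : charDegree (χ : Spor.Th → ℂ) = 1935360 ∨ charDegree (χ : Spor.Th → ℂ) = 41990400 := by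
    generalize charDegree (χ : Spor.Th → ℂ) = d at hm m5 m13 b19 ⊢
    simp only [List.mem_cons, List.not_mem_nil, or_false] at hm
    rcases hm with rfl | rfl | rfl | rfl | rfl | rfl | rfl | rfl | rfl | rfl | rfl | rfl | rfl | rfl | rfl | rfl | rfl | rfl | rfl | rfl | rfl | rfl | rfl | rfl | rfl | rfl | rfl | rfl | rfl | rfl | rfl | rfl | rfl | rfl | rfl | rfl | rfl | rfl | rfl | rfl | rfl | rfl | rfl | rfl | rfl <;> first | exact Or.inl rfl | exact Or.inr rfl | (exfalso; omega)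
  have h4R : (4 : ℝ) ≤ cent x := by exact_mod_cast h4
  rcases hd2 with hd | hd
  · -- 1935360
    rw [hd] at m5 m13
    have e5 : k5 = -15 := by omega
    have e13 : k13 = -2 := by omega
    have m2 : ((2 ^ 11 : ℕ) : ℤ) ∣ k2 := pow_dvd (r := 2) (a := 11) Nat.prime_two (by rw [hd]; norm_num) (by
      have h5 := (centralizer ({a} : Set Spor.Th)).card_mul_index
      rw [ca, hN] at h5
      intro h6
      obtain ⟨j, hj⟩ := h6
      rw [hj] at h5
      omega) hk2
    have n2 : k2 ≠ 0 := by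
      intro h0
      have hx : IsConj x a := h.uniq a (by rw [hk2, h0]; simp)
      have h5 : cent x = 92897280 := (H672.OZ.cent_eq_of_conj hx).trans ca
      have h6 := cent_mul_le h
      rw [h5, hd, hN] at h6
      norm_num at h6
    have p10 : (2 : ℤ) ∣ k10 - k5 := by
      have := congr_int (χ := χ) (g := z * a) (r := 2) (j := 6) (n := 1) Nat.prime_two (by
        rw [w_six D, pow_one, (show Commute z a from D.az.symm).mul_pow]
        have h3 : a ^ 2 = 1 := by rw [← oa D, pow_orderOf_eq_one]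
        rw [h3, mul_one]) hk10 (l := k5) (by rw [w_six D, hk5])
      exact_mod_cast this
    have q10 : (5 : ℤ) ∣ k10 - k2 := by
      have := congr_int (χ := χ) (g := z * a) (r := 5) (j := 5) (n := 1) (by norm_num) (by
        rw [← pow_mul, pow_one, show 5 * 5 = 10 * 2 + 5 by norm_num, pow_add, pow_mul, ← ow D, pow_orderOf_eq_one,
          one_pow, one_mul]) hk10 (l := k2) (by rw [w_five D, hk2])
      exact_mod_cast this
    have n10 : k10 ≠ 0 := by omega
    have hex := excess_fin h ![z, t, a, z * a] ![k5, k13, k2, k10]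
      (fun i => by fin_cases i <;> assumption) (fun i => by fin_cases i <;> assumption)
      (fun i => by
        fin_cases i
        · show k5 ≠ 0
          omega
        · show k13 ≠ 0
          omega
        · exact n2
        · exact n10)
      (by
        have hord : ∀ i, orderOf (![z, t, a, z * a] i) = ![5, 13, 2, 10] i := by
          intro i
          fin_cases i
          exacts [D.oz, ht, oa D, ow D]
        intro i j hij
        rw [hord, hord]
        revert i j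
        decide)
    rw [Fin.sum_univ_four] at hex
    have hex' : (cent x : ℝ) * (((k5 : ℝ) ^ 2 - 1) / cent z + ((k13 : ℝ) ^ 2 - 1) / cent t +
      ((k2 : ℝ) ^ 2 - 1) / cent a + ((k10 : ℝ) ^ 2 - 1) / cent (z * a)) ≤ 1 := hex
    rw [c5, c13, show cent a = 92897280 from ca, cw, e5, e13] at hex'
    push_cast at hex'
    have h10 : (1 : ℝ) ≤ (k10 : ℝ) ^ 2 := by
      have : (1 : ℤ) ≤ k10 ^ 2 := by
        have : 0 < k10 ^ 2 := by positivity
        omega
      exact_mod_cast this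
    have hcase : (4096 : ℤ) ≤ |k2| ∨ ((2048 : ℤ) ≤ |k2| ∧ (3 : ℤ) ≤ |k10|) := by
      obtain ⟨j, hj⟩ := m2
      norm_num at hj
      rcases le_or_gt (4096 : ℤ) |k2| with h5 | h5
      · exact Or.inl h5
      · right
        rw [abs_lt] at h5
        have hj1 : j = 1 ∨ j = -1 := by omega
        rcases hj1 with rfl | rfl
        · rw [hj]
          refine ⟨by norm_num, ?_⟩
          rw [hj] at q10
          rw [le_abs]
          omega
        · rw [hj]
          refine ⟨by norm_num, ?_⟩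
          rw [hj] at q10
          rw [le_abs]
          omega
    have hS : (0.2504 : ℝ) ≤ ((-15) ^ 2 - 1) / 3000 + ((-2) ^ 2 - 1) / 39 + ((k2 : ℝ) ^ 2 - 1) / 92897280 +
        ((k10 : ℝ) ^ 2 - 1) / 120 := by
      rcases hcase with h5 | ⟨h5, h6⟩
      · have h7 : (4096 : ℝ) ^ 2 ≤ (k2 : ℝ) ^ 2 := by
          rw [← sq_abs (k2 : ℝ)]
          have : (4096 : ℝ) ≤ |(k2 : ℝ)| := by exact_mod_cast h5
          gcongr
        norm_num at h7 ⊢
        linarith
      · have h7 : (2048 : ℝ) ^ 2 ≤ (k2 : ℝ) ^ 2 := by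
          rw [← sq_abs (k2 : ℝ)]
          have : (2048 : ℝ) ≤ |(k2 : ℝ)| := by exact_mod_cast h5
          gcongr
        have h8 : (3 : ℝ) ^ 2 ≤ (k10 : ℝ) ^ 2 := by
          rw [← sq_abs (k10 : ℝ)]
          have : (3 : ℝ) ≤ |(k10 : ℝ)| := by exact_mod_cast h6
          gcongr
        norm_num at h7 h8 ⊢
        linarith
    have h9 := mul_le_mul h4R hS (by norm_num) (by linarith)
    linarith
  · -- 41990400
    rw [hd] at m5 m13
    have e5 : k5 = 25 := by omega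
    have e13 : k13 = -3 := by omega
    have hex := excess_fin h ![z, t] ![k5, k13]
      (fun i => by fin_cases i <;> assumption) (fun i => by fin_cases i <;> assumption)
      (fun i => by
        fin_cases i
        · show k5 ≠ 0
          omega
        · show k13 ≠ 0
          omega)
      (by
        have hord : ∀ i, orderOf (![z, t] i) = ![5, 13] i := by
          intro i
          fin_cases i
          exacts [D.oz, ht]
        intro i j hij
        rw [hord, hord]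
        revert i j
        decide)
    rw [Fin.sum_univ_two] at hex
    have hex' : (cent x : ℝ) * (((k5 : ℝ) ^ 2 - 1) / cent z + ((k13 : ℝ) ^ 2 - 1) / cent t) ≤ 1 := hex
    rw [c5, c13, e5, e13] at hex'
    norm_num at hex'
    linarith

/-- **S4842, the Thompson group.** -/
theorem row_th {S : Type u} [Group S] [Finite S] (_hs : IsSimpleGroup S) (h : Spor.IsoTh S) : H730.OZ.Row S := by
  obtain ⟨e⟩ := h
  have hfin : Finite Spor.Th := Finite.of_equiv _ e.toEquiv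
  exact H730.OZ.Row.congr e row_th'

end Cfsg.Agent.H289.OZ
end

-- part: H328/OZ/Fi23
section
/-!
# One vanishing class: `Fi23` (helper328, for S4842)

The primes 17, 23 are isolated; the degree is `± 1` modulo 13 (`mod_of_invol`: the centralizer of an element of order 13
and a transposition has order 26; T4 if `13 < |C(x)|`); the sieve with T4 leaves no degree.
-/

set_option autoImplicit false
set_option maxRecDepth 100000
set_option linter.constructorNameAsVariable false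

open Cfsg Subgroup Cfsg.Agent.Characters Cfsg.Agent.H732.VZ Cfsg.Agent.H604.OZ

namespace Cfsg.Agent.H328.OZ.Fi23

open Cfsg.Agent.Lib.PermNet Cfsg.Agent.Fischer.Fi23Hom Cfsg.Agent.LThreeFi23
open Cfsg.Agent.H839 Cfsg.Agent.H839.Fi23
open Cfsg.Agent.H838.Fi23 (SL el_mem)

universe u

abbrev G : Type := Cfsg.Spor.Fi23

theorem card : Nat.card G = 4089470473293004800 := Cfsg.Agent.S1697.result.2

theorem orderOf_y13 : orderOf (elw y13) = 13 := by
  have := card_y13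
  rwa [Nat.card_zpowers] at this

theorem cent_zpowers (x : G) : centralizer ((zpowers x : Subgroup G) : Set G) = centralizer ({x} : Set G) :=
  Cfsg.Agent.H904.SylOne.centralizer_zpowers_eq x

theorem card_cent_y13 : Nat.card (centralizer ({elw y13} : Set G)) = 78 := by
  have h := (H961.SepFi23.data13 card_y13).1
  rwa [cent_zpowers] at h

theorem mem_S3 {l : Lt} (h : l ∈ L3) : el l ∈ SL L3 := el_mem h

/-- the centralizer of an element of order 13 and of a transposition -/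
theorem card_inf : Nat.card (centralizer ({elw y13} : Set G) ⊓ centralizer ({el .z} : Set G) : Subgroup G) ≤ 2 * 13 := by
  have hle : centralizer ({elw y13} : Set G) ⊓ centralizer ({el .z} : Set G) ≤ centralizer ({elw y13} : Set G) :=
    inf_le_left
  have h1 := Subgroup.card_dvd_of_le hle
  rw [card_cent_y13] at h1
  have hz : el .z ∈ SL L3 := mem_S3 (by simp [L3])
  have hj : el .j ∈ SL L3 := mem_S3 (by simp [L3])
  -- 2 and 13 divide the order
  have h2 : 2 ∣ Nat.card (centralizer ({elw y13} : Set G) ⊓ centralizer ({el .z} : Set G) : Subgroup G) := by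
    have h3 : el .z ∈ centralizer ({elw y13} : Set G) ⊓ centralizer ({el .z} : Set G) :=
      ⟨mem_centralizer_singleton_iff.2 (S3_comm_y13 hz).symm, mem_centralizer_singleton_iff.2 rfl⟩
    have h4 := Subgroup.orderOf_dvd_natCard _ h3
    have h5 := card_z
    rw [Nat.card_zpowers] at h5
    rwa [h5] at h4
  have h13 : 13 ∣ Nat.card (centralizer ({elw y13} : Set G) ⊓ centralizer ({el .z} : Set G) : Subgroup G) := by
    have h3 : elw y13 ∈ centralizer ({elw y13} : Set G) ⊓ centralizer ({el .z} : Set G) :=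
      ⟨mem_centralizer_singleton_iff.2 rfl, mem_centralizer_singleton_iff.2 (S3_comm_y13 hz)⟩
    have h4 := Subgroup.orderOf_dvd_natCard _ h3
    rwa [orderOf_y13] at h4
  have h26 : 26 ∣ Nat.card (centralizer ({elw y13} : Set G) ⊓ centralizer ({el .z} : Set G) : Subgroup G) :=
    Nat.Coprime.mul_dvd_of_dvd_of_dvd (by norm_num) h2 h13
  have hne : Nat.card (centralizer ({elw y13} : Set G) ⊓ centralizer ({el .z} : Set G) : Subgroup G) ≠ 78 := by
    intro h
    have h3 := Subgroup.eq_of_le_of_card_ge hle (by rw [h, card_cent_y13])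
    have h4 : el .j ∈ centralizer ({elw y13} : Set G) := mem_centralizer_singleton_iff.2 (S3_comm_y13 hj).symm
    rw [← h3] at h4
    have h5 : el .j * el .z = el .z * el .j := mem_centralizer_singleton_iff.1 h4.2
    have h6 := (fix_pt_iff (el .z) .j).2 h5.symm
    have h7 := m_0
    rw [ptw_eq, elw_one, show rho (el .z) 8006 = 8006 from h6, Nat.beq_refl] at h7
    exact Bool.noConfusion h7
  obtain ⟨k, hk⟩ := h26
  rw [hk] at h1 hne ⊢
  have h5 : k ∣ 3 := Nat.dvd_of_mul_dvd_mul_left (by norm_num : 0 < 26) (by simpa using h1)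
  rcases (Nat.dvd_prime (by norm_num)).1 h5 with rfl | rfl
  · norm_num
  · exact absurd rfl hne

theorem row_fi23' [Finite G] : H730.OZ.Row G := by
  have hN : Nat.card G = 4089470473293004800 := card
  have hs : IsSimpleGroup G := Cfsg.Agent.S1697.result.1
  refine row_of fun χ x h => ?_
  have h4 : 4 ≤ cent x := four_le_cent h (by rw [hN]; norm_num) (by rw [hN]; norm_num)
  have hsq : ¬ 13 ^ 2 ∣ Nat.card G := by rw [hN]; norm_num
  have hx : ¬ 13 ∣ orderOf x := by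
    rcases Nat.lt_or_ge 13 (cent x) with h1 | h1
    · exact H733.OZ.not_dvd_orderOf h (r := 13) (n := 1) (by norm_num) (by rw [hN]; norm_num) (by rw [hN]; norm_num)
        (by rw [pow_one]; exact h1)
    · exact H849.OZ.not_dvd_of_le (by norm_num) hsq orderOf_y13 (by rw [card_cent_y13]; norm_num) h1
  have h13 := H593.OZ.mod_of_invol (z := elw y13) (t := el .z) (p := 13) (by norm_num) (by norm_num) hsq
    (by rw [hN]; norm_num) orderOf_y13
    (by have h5 := card_z; rwa [Nat.card_zpowers] at h5) (S3_comm_y13 (mem_S3 (by simp [L3]))) card_inf h hx h4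
  have hiso : ∀ r ∈ [17, 23, 13], charDegree (χ : G → ℂ) % r = 0 ∨
      charDegree (χ : G → ℂ) % r = 1 ∨ charDegree (χ : G → ℂ) % r = r - 1 := by
    intro r hr
    simp only [List.mem_cons, List.not_mem_nil, or_false] at hr
    rcases hr with rfl | rfl | rfl
    · refine H672.OZ.iso_mod h (by norm_num) (by norm_num) (by rw [hN]; norm_num) (by rw [hN]; norm_num)
        (by rw [hN]; norm_num) (fun y hy => ?_) h4
      have h5 := (H961.SepFi23.data17 (R := zpowers y) (by rw [Nat.card_zpowers, hy])).1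
      rwa [cent_zpowers] at h5
    · refine H672.OZ.iso_mod h (by norm_num) (by norm_num) (by rw [hN]; norm_num) (by rw [hN]; norm_num)
        (by rw [hN]; norm_num) (fun y hy => ?_) h4
      have h5 := (H961.SepFi23.data23 (R := zpowers y) (by rw [Nat.card_zpowers, hy])).1
      rwa [cent_zpowers] at h5
    · exact Or.inr h13
  have hm := H672.OZ.mem_of_sieve4 h hN (l := [(2,18),(3,13),(5,2),(7,1),(11,1),(13,1),(17,1),(23,1)])
    (by decide +kernel)
    (by
      intro x hx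
      simp only [List.mem_cons, List.not_mem_nil, or_false] at hx
      rcases hx with rfl | rfl | rfl | rfl | rfl | rfl | rfl | rfl <;> norm_num)
    (by decide +kernel) h4 hiso (D := []) (_root_.Cfsg.Agent.H672.OZ.LowExp.all_of4 (by decide +kernel))
  exact List.not_mem_nil hm

/-- **`Fi23`.** -/
theorem row_fi23 {S : Type u} [Group S] [Finite S] (_hs : IsSimpleGroup S) (h : Spor.IsoFi23 S) : H730.OZ.Row S := by
  obtain ⟨e⟩ := h
  have hfin : Finite G := Finite.of_equiv _ e.toEquiv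
  exact H730.OZ.Row.congr e row_fi23'

end Cfsg.Agent.H328.OZ.Fi23
end

-- part: H490/OZ/CoThree
section
/-!
# One vanishing class: `Co₃` (helper490, S4842)
-/

set_option autoImplicit false
set_option maxRecDepth 100000

open Cfsg Cfsg.Agent.Characters Cfsg.Agent.H732.VZ Cfsg.Agent.H604.OZ Cfsg.Agent.H672.OZ

namespace Cfsg.Agent.H490.OZ

universe u

theorem row_co3' : H730.OZ.Row Spor.Co3 := by
  have hN : Nat.card Spor.Co3 = 495766656000 := H345.RecCo.card_co3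
  have hfin : Finite Spor.Co3 := H345.RecCo.finite_co3
  have hs : IsSimpleGroup Spor.Co3 := H49.CoStab.simple_co3
  refine row_of fun χ x h => ?_
  have h4 : 4 ≤ cent x := four_le_cent h (by rw [hN]; norm_num) (by rw [hN]; norm_num)
  have h11 : charDegree (χ : Spor.Co3 → ℂ) % 11 = 1 ∨ charDegree (χ : Spor.Co3 → ℂ) % 11 = 11 - 1 :=
    mod_two h (by norm_num) (by norm_num) (by rw [hN]; norm_num) (by rw [hN]; norm_num) (by rw [hN]; norm_num)
      (fun y hy => H345.RecCo.co3_cent_11 hy) h4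
  have hiso : ∀ r ∈ [7, 11, 23], charDegree (χ : Spor.Co3 → ℂ) % r = 0 ∨
      charDegree (χ : Spor.Co3 → ℂ) % r = 1 ∨ charDegree (χ : Spor.Co3 → ℂ) % r = r - 1 := by
    intro r hr
    simp only [List.mem_cons, List.not_mem_nil, or_false] at hr
    rcases hr with rfl | rfl | rfl
    · exact Or.inr (mod_six h (by norm_num) (by norm_num) (by rw [hN]; norm_num) (by rw [hN]; norm_num)
        (by rw [hN]; norm_num) (fun y hy => H345.RecCo.co3_cent_seven hy) (fun g hg => H345.RecCo.co3_n42 ⟨g, hg⟩) h4)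
    · exact Or.inr h11
    · exact iso_mod h (by norm_num) (by norm_num) (by rw [hN]; norm_num) (by rw [hN]; norm_num) (by rw [hN]; norm_num)
        (fun y hy => H345.RecCo.co3_cent_23 hy) h4
  have hm := mem_of_sieve h hN (l := [(2, 10), (3, 7), (5, 3), (7, 1), (11, 1), (23, 1)]) (by decide +kernel)
    (by
      intro x hx
      simp only [List.mem_cons, List.not_mem_nil, or_false] at hx
      rcases hx with rfl | rfl | rfl | rfl | rfl | rfl <;> norm_num)
    (by decide +kernel) h4 hiso (D := [22, 3520, 3564, 6600]) (_root_.Cfsg.Agent.H672.OZ.LowExp.all_of (by decide +kernel))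
  simp only [List.mem_cons, List.not_mem_nil, or_false] at hm
  rcases hm with hm | hm | hm | hm <;> rw [hm] at h11 <;> norm_num at h11

/-- **`Co₃`.** -/
theorem row_co3 {S : Type u} [Group S] [Finite S] (_hs : IsSimpleGroup S) (h : Spor.IsoCo3 S) : H730.OZ.Row S := by
  obtain ⟨e⟩ := h
  have hfin : Finite Spor.Co3 := Finite.of_equiv _ e.toEquiv
  exact H730.OZ.Row.congr e row_co3'

end Cfsg.Agent.H490.OZ
end

-- part: H672/OZ/Mathieu
section
/-!
# One vanishing class: `M₂₃`, `M₂₄` (helper672, S4842)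

The order of the group, the isolated primes 11, 23 (helper849's T5), T4 (helper733) and `Full` leave no degree.
-/

set_option autoImplicit false
set_option maxRecDepth 100000

open Cfsg Cfsg.Agent.Characters Cfsg.Agent.H732.VZ Cfsg.Agent.H604.OZ

namespace Cfsg.Agent.H672.OZ

universe u

open Cfsg.Agent.H715.Fpr.MathData in
/-- the order of the centralizer of an element of prime order -/
theorem card_cent_zpowers {G : Type u} [Group G] {p C N : ℕ}
    (h : ∀ {R : Subgroup G}, Nat.card R = p → Nat.card (Subgroup.centralizer (R : Set G)) = C ∧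
      Nat.card (Subgroup.normalizer (R : Set G)) = N) {y : G} (hy : orderOf y = p) :
    Nat.card (Subgroup.centralizer ({y} : Set G)) = C := by
  have h1 : Subgroup.centralizer ((Subgroup.zpowers y : Subgroup G) : Set G) = Subgroup.centralizer ({y} : Set G) := by
    rw [Subgroup.zpowers_eq_closure, Subgroup.centralizer_closure]
  rw [← h1]
  exact (h (R := Subgroup.zpowers y) (by rw [Nat.card_zpowers, hy])).1

theorem row_m24' [Finite M24] : H730.OZ.Row M24 := by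
  have hN : Nat.card M24 = 244823040 := H715.Fpr.MathData.card24
  have hs : IsSimpleGroup M24 := H715.Fpr.MathData.simple24
  refine row_of fun χ x h => ?_
  have h4 : 4 ≤ cent x := four_le_cent h (by rw [hN]; norm_num) (by rw [hN]; norm_num)
  have hiso : ∀ r ∈ [11, 23], charDegree (χ : M24 → ℂ) % r = 0 ∨
      charDegree (χ : M24 → ℂ) % r = 1 ∨ charDegree (χ : M24 → ℂ) % r = r - 1 := by
    intro r hr
    simp only [List.mem_cons, List.not_mem_nil, or_false] at hr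
    rcases hr with rfl | rfl
    · exact iso_mod h (by norm_num) (by norm_num) (by rw [hN]; norm_num) (by rw [hN]; norm_num) (by rw [hN]; norm_num)
        (fun y hy => card_cent_zpowers H715.Fpr.MathData.cn24_11 hy) h4
    · exact iso_mod h (by norm_num) (by norm_num) (by rw [hN]; norm_num) (by rw [hN]; norm_num) (by rw [hN]; norm_num)
        (fun y hy => card_cent_zpowers H715.Fpr.MathData.cn24_23 hy) h4
  have hm := mem_of_sieve4 h hN (l := [(2,10),(3,3),(5,1),(7,1),(11,1),(23,1)]) (by decide +kernel)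
    (by
      intro x hx
      simp only [List.mem_cons, List.not_mem_nil, or_false] at hx
      rcases hx with rfl | rfl | rfl | rfl | rfl | rfl <;> norm_num)
    (by decide +kernel) h4 hiso (D := []) (_root_.Cfsg.Agent.H672.OZ.LowExp.all_of4 (by decide +kernel))
  exact List.not_mem_nil hm

/-- **`M₂₄`.** -/
theorem row_m24 {S : Type u} [Group S] [Finite S] (_hs : IsSimpleGroup S) (h : Spor.IsoM24 S) : H730.OZ.Row S := by
  obtain ⟨e⟩ := h
  have hfin : Finite M24 := Finite.of_equiv _ e.toEquiv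
  exact H730.OZ.Row.congr e row_m24'

theorem row_m23' [Finite Spor.M23] : H730.OZ.Row Spor.M23 := by
  have hN : Nat.card Spor.M23 = 10200960 := H715.Fpr.MathData.card23
  have hs : IsSimpleGroup Spor.M23 := H715.Fpr.MathData.simple23
  refine row_of fun χ x h => ?_
  have h4 : 4 ≤ cent x := four_le_cent h (by rw [hN]; norm_num) (by rw [hN]; norm_num)
  have hiso : ∀ r ∈ [11, 23], charDegree (χ : Spor.M23 → ℂ) % r = 0 ∨
      charDegree (χ : Spor.M23 → ℂ) % r = 1 ∨ charDegree (χ : Spor.M23 → ℂ) % r = r - 1 := by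
    intro r hr
    simp only [List.mem_cons, List.not_mem_nil, or_false] at hr
    rcases hr with rfl | rfl
    · exact iso_mod h (by norm_num) (by norm_num) (by rw [hN]; norm_num) (by rw [hN]; norm_num) (by rw [hN]; norm_num)
        (fun y hy => card_cent_zpowers H715.Fpr.MathData.cn23_11 hy) h4
    · exact iso_mod h (by norm_num) (by norm_num) (by rw [hN]; norm_num) (by rw [hN]; norm_num) (by rw [hN]; norm_num)
        (fun y hy => card_cent_zpowers H715.Fpr.MathData.cn23_23 hy) h4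
  have hm := mem_of_sieve4 h hN (l := [(2,7),(3,2),(5,1),(7,1),(11,1),(23,1)]) (by decide +kernel)
    (by
      intro x hx
      simp only [List.mem_cons, List.not_mem_nil, or_false] at hx
      rcases hx with rfl | rfl | rfl | rfl | rfl | rfl <;> norm_num)
    (by decide +kernel) h4 hiso (D := []) (_root_.Cfsg.Agent.H672.OZ.LowExp.all_of4 (by decide +kernel))
  exact List.not_mem_nil hm

/-- **`M₂₃`.** -/
theorem row_m23 {S : Type u} [Group S] [Finite S] (_hs : IsSimpleGroup S) (h : Spor.IsoM23 S) : H730.OZ.Row S := by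
  obtain ⟨e⟩ := h
  have hfin : Finite Spor.M23 := Finite.of_equiv _ e.toEquiv
  exact H730.OZ.Row.congr e row_m23'

end Cfsg.Agent.H672.OZ
end

-- part: H399/OZ/Math
section
/-!
# One vanishing class: `M₁₁`, `M₁₂`, `M₂₂` (helper399, S4842)

The sieve leaves the degrees 10, 12 for `M₁₁`, 12, 32, 144 for `M₁₂`, 120 for `M₂₂`. They are excluded by the value
at an element of order 4 (`|C| = 8`), of order 8 (`|C| = 8`), of order 3 (`|C| = 36`), respectively.
-/

set_option autoImplicit false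
set_option maxRecDepth 100000

open Cfsg Cfsg.Agent.Characters Cfsg.Agent.H732.VZ Cfsg.Agent.H604.OZ Cfsg.Agent.H672.OZ

namespace Cfsg.Agent.H399.OZ

universe u

/-! ### `M₂₂` -/

theorem row_m22' [Finite Spor.M22] : H730.OZ.Row Spor.M22 := by
  have hN : Nat.card Spor.M22 = 443520 := H715.Fpr.MathData.card22
  have hs : IsSimpleGroup Spor.M22 := H715.Fpr.MathData.simple22
  refine row_of fun χ x h => ?_
  have h4 : 4 ≤ cent x := four_le_cent h (by rw [hN]; norm_num) (by rw [hN]; norm_num)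
  have hiso : ∀ r ∈ [7, 11], charDegree (χ : Spor.M22 → ℂ) % r = 0 ∨
      charDegree (χ : Spor.M22 → ℂ) % r = 1 ∨ charDegree (χ : Spor.M22 → ℂ) % r = r - 1 := by
    intro r hr
    simp only [List.mem_cons, List.not_mem_nil, or_false] at hr
    rcases hr with rfl | rfl
    · exact iso_mod h (by norm_num) (by norm_num) (by rw [hN]; norm_num) (by rw [hN]; norm_num) (by rw [hN]; norm_num)
        (fun y hy => card_cent_zpowers H715.Fpr.MathData.cn22_7 hy) h4
    · exact iso_mod h (by norm_num) (by norm_num) (by rw [hN]; norm_num) (by rw [hN]; norm_num) (by rw [hN]; norm_num)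
        (fun y hy => card_cent_zpowers H715.Fpr.MathData.cn22_11 hy) h4
  have hm := mem_of_sieve4 h hN (l := [(2,7),(3,2),(5,1),(7,1),(11,1)]) (by decide +kernel)
    (by
      intro x hx
      simp only [List.mem_cons, List.not_mem_nil, or_false] at hx
      rcases hx with rfl | rfl | rfl | rfl | rfl <;> norm_num)
    (by decide +kernel) h4 hiso (D := [120]) (_root_.Cfsg.Agent.H672.OZ.LowExp.all_of4 (by decide +kernel))
  have hd : charDegree (χ : Spor.M22 → ℂ) = 120 := by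
    simpa only [List.mem_cons, List.not_mem_nil, or_false] using hm
  have hf := full h (r := 5) (n := 1) (by norm_num) (by norm_num) (by rw [hN]; norm_num) (by rw [hN]; norm_num)
    (by rw [hd]; norm_num)
  obtain ⟨-, ⟨s, -, -, a1, -, -, -, a5, a6, -, -⟩, -⟩ := H968.TwoM22.three
  have hy : ∀ m : ℕ, m.Coprime (Nat.card Spor.M22) → IsConj (s ^ m) s := fun m hm => (a6 _ (by
    rw [Nat.Coprime.orderOf_pow (Nat.Coprime.coprime_dvd_left (_root_.orderOf_dvd_natCard s) hm.symm), a1])).symm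
  have h2 : cent s = 36 := a5
  have h3 : cent x = 5 ^ 1 := hf.2.1
  have hx : ¬ IsConj x s := fun hc => by
    have h1 := cent_eq_of_conj hc
    rw [h2, h3] at h1
    norm_num at h1
  have h1 := H849.OZ.one_prime h Nat.prime_three (by rw [hd]; norm_num) ⟨1, by rw [a1, pow_one]⟩ hy hx
  rw [h2, h3] at h1
  norm_num at h1

/-- **`M₂₂`.** -/
theorem row_m22 {S : Type u} [Group S] [Finite S] (_hs : IsSimpleGroup S) (h : Spor.IsoM22 S) : H730.OZ.Row S := by
  obtain ⟨e⟩ := h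
  have hfin : Finite Spor.M22 := Finite.of_equiv _ e.toEquiv
  exact H730.OZ.Row.congr e row_m22'

/-! ### `M₁₂` -/

/-- A coprime exponent is odd. -/
theorem odd_of_coprime {N m : ℕ} (h2 : 2 ∣ N) (hm : m.Coprime N) : ¬ 2 ∣ m := fun h =>
  Nat.not_coprime_of_dvd_of_dvd (by norm_num : 1 < 2) h h2 hm

theorem row_m12' [Finite Spor.M12] : H730.OZ.Row Spor.M12 := by
  have hN : Nat.card Spor.M12 = 95040 := H715.Fpr.MathData.card12
  have hs : IsSimpleGroup Spor.M12 := H715.Fpr.MathData.simple12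
  refine row_of fun χ x h => ?_
  have h4 : 4 ≤ cent x := four_le_cent h (by rw [hN]; norm_num) (by rw [hN]; norm_num)
  have hiso : ∀ r ∈ [11], charDegree (χ : Spor.M12 → ℂ) % r = 0 ∨
      charDegree (χ : Spor.M12 → ℂ) % r = 1 ∨ charDegree (χ : Spor.M12 → ℂ) % r = r - 1 := by
    intro r hr
    simp only [List.mem_cons, List.not_mem_nil, or_false] at hr
    rcases hr with rfl
    exact iso_mod h (by norm_num) (by norm_num) (by rw [hN]; norm_num) (by rw [hN]; norm_num) (by rw [hN]; norm_num)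
        (fun y hy => card_cent_zpowers H715.Fpr.MathData.cn12_11 hy) h4
  have hm := mem_of_sieve4 h hN (l := [(2,6),(3,3),(5,1),(11,1)]) (by decide +kernel)
    (by
      intro x hx
      simp only [List.mem_cons, List.not_mem_nil, or_false] at hx
      rcases hx with rfl | rfl | rfl | rfl <;> norm_num)
    (by decide +kernel) h4 hiso (D := [12, 32, 144]) (_root_.Cfsg.Agent.H672.OZ.LowExp.all_of4 (by decide +kernel))
  have hd : charDegree (χ : Spor.M12 → ℂ) = 12 ∨ charDegree (χ : Spor.M12 → ℂ) = 32 ∨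
      charDegree (χ : Spor.M12 → ℂ) = 144 := by
    simpa only [List.mem_cons, List.not_mem_nil, or_false] using hm
  have h5 : cent x ≤ 5 := by
    rcases hd with hd | hd | hd
    · exact cent_le_of h hN (r := 5) (n := 1) (by norm_num) hd (by norm_num) (by norm_num) (by norm_num)
    · exact cent_le_of h hN (r := 5) (n := 1) (by norm_num) hd (by norm_num) (by norm_num) (by norm_num)
    · have h1 := cent_mul_sq_le h
      rw [hN, hd] at h1
      omega
  obtain ⟨y, hy, hcy, hrat⟩ := exists_y12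
  have h2 : 2 ∣ charDegree (χ : Spor.M12 → ℂ) := by omega
  have h8 : 8 ≤ cent y := by
    rw [← hy]
    exact Nat.le_of_dvd Nat.card_pos (Subgroup.orderOf_dvd_natCard _ (mem_cent.2 rfl))
  have h1 := H849.OZ.one_prime h Nat.prime_two h2 ⟨3, by rw [hy]; norm_num⟩
    (fun m hm => hrat m (odd_of_coprime (by rw [hN]; norm_num) hm)) (fun hc => by
      have h3 := cent_eq_of_conj hc
      omega)
  have h3 : cent y ≤ 8 := hcy
  omega

/-- **`M₁₂`.** -/
theorem row_m12 {S : Type u} [Group S] [Finite S] (_hs : IsSimpleGroup S) (h : Spor.IsoM12 S) : H730.OZ.Row S := by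
  obtain ⟨e⟩ := h
  have hfin : Finite Spor.M12 := Finite.of_equiv _ e.toEquiv
  exact H730.OZ.Row.congr e row_m12'

/-! ### `M₁₁` -/

theorem row_m11' [Finite Spor.M11] : H730.OZ.Row Spor.M11 := by
  have hN : Nat.card Spor.M11 = 7920 := H715.Fpr.MathData.card11
  have hs : IsSimpleGroup Spor.M11 := H715.Fpr.MathData.simple11
  refine row_of fun χ x h => ?_
  have h4 : 4 ≤ cent x := four_le_cent h (by rw [hN]; norm_num) (by rw [hN]; norm_num)
  have hiso : ∀ r ∈ [11], charDegree (χ : Spor.M11 → ℂ) % r = 0 ∨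
      charDegree (χ : Spor.M11 → ℂ) % r = 1 ∨ charDegree (χ : Spor.M11 → ℂ) % r = r - 1 := by
    intro r hr
    simp only [List.mem_cons, List.not_mem_nil, or_false] at hr
    rcases hr with rfl
    exact iso_mod h (by norm_num) (by norm_num) (by rw [hN]; norm_num) (by rw [hN]; norm_num) (by rw [hN]; norm_num)
        (fun y hy => card_cent_zpowers H715.Fpr.MathData.cn11_11 hy) h4
  have hm := mem_of_sieve4 h hN (l := [(2,4),(3,2),(5,1),(11,1)]) (by decide +kernel)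
    (by
      intro x hx
      simp only [List.mem_cons, List.not_mem_nil, or_false] at hx
      rcases hx with rfl | rfl | rfl | rfl <;> norm_num)
    (by decide +kernel) h4 hiso (D := [10, 12]) (_root_.Cfsg.Agent.H672.OZ.LowExp.all_of4 (by decide +kernel))
  have hd : charDegree (χ : Spor.M11 → ℂ) = 10 ∨ charDegree (χ : Spor.M11 → ℂ) = 12 := by
    simpa only [List.mem_cons, List.not_mem_nil, or_false] using hm
  have h5 : cent x ≤ 5 := by
    rcases hd with hd | hd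
    · exact cent_le_of h hN (r := 5) (n := 1) (by norm_num) hd (by norm_num) (by norm_num) (by norm_num)
    · exact cent_le_of h hN (r := 5) (n := 1) (by norm_num) hd (by norm_num) (by norm_num) (by norm_num)
  obtain ⟨y, hy, hcy, hrat⟩ := exists_y11
  have h2 : 2 ∣ charDegree (χ : Spor.M11 → ℂ) := by omega
  have h8 : cent y = 8 := hcy
  have h1 := H849.OZ.one_prime h Nat.prime_two h2 ⟨2, by rw [hy]; norm_num⟩
    (fun m hm => hrat m (odd_of_coprime (by rw [hN]; norm_num) hm)) (fun hc => by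
      have h3 := cent_eq_of_conj hc
      omega)
  omega

/-- **`M₁₁`.** -/
theorem row_m11 {S : Type u} [Group S] [Finite S] (_hs : IsSimpleGroup S) (h : Spor.IsoM11 S) : H730.OZ.Row S := by
  obtain ⟨e⟩ := h
  have hfin : Finite Spor.M11 := Finite.of_equiv _ e.toEquiv
  exact H730.OZ.Row.congr e row_m11'

end Cfsg.Agent.H399.OZ
end

-- part: H672/OZ/Rows
section
/-!
# One vanishing class: `J₁`, `J₄`, `O'N`, `Ly` (helper672, S4842)

The order of the group, the isolated primes (helper849's T5) and `Full` leave no degree.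
-/

set_option autoImplicit false
set_option maxRecDepth 100000

open Cfsg Cfsg.Agent.Characters Cfsg.Agent.H732.VZ Cfsg.Agent.H604.OZ

namespace Cfsg.Agent.H672.OZ

universe u

/-! ### `J₄` -/

theorem row_j4' [Finite Spor.J4] : H730.OZ.Row Spor.J4 := by
  have hN : Nat.card Spor.J4 = 86775571046077562880 := H417.JFourDeg.card_K
  have hs : IsSimpleGroup Spor.J4 := (KFacts.J4.Base.exists_full H417.JFourDeg.isoK).2.1
  refine row_of fun χ x h => ?_
  have h4 : 4 ≤ cent x := four_le_cent h (by rw [hN]; norm_num) (by rw [hN]; norm_num)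
  have hiso : ∀ r ∈ [23, 29, 31, 37, 43], charDegree (χ : Spor.J4 → ℂ) % r = 0 ∨
      charDegree (χ : Spor.J4 → ℂ) % r = 1 ∨ charDegree (χ : Spor.J4 → ℂ) % r = r - 1 := by
    intro r hr
    simp only [List.mem_cons, List.not_mem_nil, or_false] at hr
    rcases hr with rfl | rfl | rfl | rfl | rfl
    · exact iso_mod h (by norm_num) (by norm_num) (by rw [hN]; norm_num) (by rw [hN]; norm_num) (by rw [hN]; norm_num)
        (H417.JFourDeg.cent_of fun P hP => (H859.BigNum.data23 hP).1) h4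
    · exact iso_mod h (by norm_num) (by norm_num) (by rw [hN]; norm_num) (by rw [hN]; norm_num) (by rw [hN]; norm_num)
        (H417.JFourDeg.cent_of fun P hP => (H859.BigNum.data29' hP).1) h4
    · exact iso_mod h (by norm_num) (by norm_num) (by rw [hN]; norm_num) (by rw [hN]; norm_num) (by rw [hN]; norm_num)
        (H417.JFourDeg.cent_of fun P hP => (H859.BigNum.data31 hP).1) h4
    · exact iso_mod h (by norm_num) (by norm_num) (by rw [hN]; norm_num) (by rw [hN]; norm_num) (by rw [hN]; norm_num)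
        (H417.JFourDeg.cent_of fun P hP => (H859.BigNum.data37 hP).1) h4
    · exact iso_mod h (by norm_num) (by norm_num) (by rw [hN]; norm_num) (by rw [hN]; norm_num) (by rw [hN]; norm_num)
        (H417.JFourDeg.cent_of fun P hP => (H859.BigNum.data43 hP).1) h4
  have hm := mem_of_sieve h hN (l := H417.JFourList.lJ) (by decide +kernel) H417.JFourList.primes_ok
    (by decide +kernel) h4 hiso (D := []) (_root_.Cfsg.Agent.H672.OZ.LowExp.all_of (by decide +kernel))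
  exact List.not_mem_nil hm

/-- **`J₄`.** -/
theorem row_j4 {S : Type u} [Group S] [Finite S] (_hs : IsSimpleGroup S) (h : Spor.IsoJ4 S) : H730.OZ.Row S := by
  obtain ⟨e⟩ := h
  have hfin : Finite Spor.J4 := Finite.of_equiv _ e.toEquiv
  exact H730.OZ.Row.congr e row_j4'

/-! ### `O'N` -/

theorem row_on' [Finite Spor.ON] : H730.OZ.Row Spor.ON := by
  have hN : Nat.card Spor.ON = 460815505920 := KFacts.ON.OneClass.card_ON
  have hs : IsSimpleGroup Spor.ON := KFacts.ON.OneClass.hs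
  refine row_of fun χ x h => ?_
  have h4 : 4 ≤ cent x := four_le_cent h (by rw [hN]; norm_num) (by rw [hN]; norm_num)
  have hiso : ∀ r ∈ [11, 19, 31], charDegree (χ : Spor.ON → ℂ) % r = 0 ∨
      charDegree (χ : Spor.ON → ℂ) % r = 1 ∨ charDegree (χ : Spor.ON → ℂ) % r = r - 1 := by
    intro r hr
    simp only [List.mem_cons, List.not_mem_nil, or_false] at hr
    rcases hr with rfl | rfl | rfl
    · exact iso_mod h (by norm_num) (by norm_num) (by rw [hN]; norm_num) (by rw [hN]; norm_num) (by rw [hN]; norm_num)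
        (fun y hy => H474.ONC.card_cent_eleven hy) h4
    · exact iso_mod h (by norm_num) (by norm_num) (by rw [hN]; norm_num) (by rw [hN]; norm_num) (by rw [hN]; norm_num)
        (fun y hy => H680.ONThirtyOne.card_cent_nineteen hy) h4
    · exact iso_mod h (by norm_num) (by norm_num) (by rw [hN]; norm_num) (by rw [hN]; norm_num) (by rw [hN]; norm_num)
        (fun y hy => H680.ONThirtyOne.card_cent hy) h4
  have hm := mem_of_sieve h hN (l := [(2,9),(3,4),(5,1),(7,3),(11,1),(19,1),(31,1)]) (by decide +kernel)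
    (by
      intro x hx
      simp only [List.mem_cons, List.not_mem_nil, or_false] at hx
      rcases hx with rfl | rfl | rfl | rfl | rfl | rfl | rfl <;> norm_num)
    (by decide +kernel) h4 hiso (D := []) (_root_.Cfsg.Agent.H672.OZ.LowExp.all_of (by decide +kernel))
  exact List.not_mem_nil hm

/-- **`O'N`.** -/
theorem row_on {S : Type u} [Group S] [Finite S] (_hs : IsSimpleGroup S) (h : Spor.IsoON S) : H730.OZ.Row S := by
  obtain ⟨e⟩ := h
  have hfin : Finite Spor.ON := Finite.of_equiv _ e.toEquiv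
  exact H730.OZ.Row.congr e row_on'

/-! ### `Ly` -/

theorem row_ly' (hK : H995.CopEngine.AllKnown.{0}) [Finite Spor.Ly] : H730.OZ.Row Spor.Ly := by
  have hN : Nat.card Spor.Ly = 51765179004000000 := Cfsg.Agent.Ly.Setup.card_ly
  have hs : IsSimpleGroup Spor.Ly := Cfsg.Agent.Ly.Setup.isSimple_ly
  refine row_of fun χ x h => ?_
  have h4 : 4 ≤ cent x := four_le_cent h (by rw [hN]; norm_num) (by rw [hN]; norm_num)
  have hiso : ∀ r ∈ [31, 37, 67], charDegree (χ : Spor.Ly → ℂ) % r = 0 ∨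
      charDegree (χ : Spor.Ly → ℂ) % r = 1 ∨ charDegree (χ : Spor.Ly → ℂ) % r = r - 1 := by
    intro r hr
    simp only [List.mem_cons, List.not_mem_nil, or_false] at hr
    rcases hr with rfl | rfl | rfl
    · exact iso_mod h (by norm_num) (by norm_num) (by rw [hN]; norm_num) (by rw [hN]; norm_num) (by rw [hN]; norm_num)
        (fun y hy => H204.Ore.LySmall.card31 hy) h4
    · exact iso_mod h (by norm_num) (by norm_num) (by rw [hN]; norm_num) (by rw [hN]; norm_num) (by rw [hN]; norm_num)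
        (fun y hy => H215.CC.LyThirtySeven.card_centralizer hK ⟨MulEquiv.refl _⟩ hy) h4
    · exact iso_mod h (by norm_num) (by norm_num) (by rw [hN]; norm_num) (by rw [hN]; norm_num) (by rw [hN]; norm_num)
        (fun y hy => H204.Ore.LySmall.card67 hy) h4
  have hm := mem_of_sieve h hN (l := [(2,8),(3,7),(5,6),(7,1),(11,1),(31,1),(37,1),(67,1)]) (by decide +kernel)
    (by
      intro x hx
      simp only [List.mem_cons, List.not_mem_nil, or_false] at hx
      rcases hx with rfl | rfl | rfl | rfl | rfl | rfl | rfl | rfl <;> norm_num)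
    (by decide +kernel) h4 hiso (D := []) (_root_.Cfsg.Agent.H672.OZ.LowExp.all_of (by decide +kernel))
  exact List.not_mem_nil hm

/-- **`Ly`** (with the classification, for the centralizer of an element of order 37). -/
theorem row_ly (hK : H995.CopEngine.AllKnown.{0}) {S : Type u} [Group S] [Finite S] (_hs : IsSimpleGroup S)
    (h : Spor.IsoLy S) : H730.OZ.Row S := by
  obtain ⟨e⟩ := h
  have hfin : Finite Spor.Ly := Finite.of_equiv _ e.toEquiv
  exact H730.OZ.Row.congr e (row_ly' hK)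

/-! ### `J₁` -/

theorem row_j1' [Finite Spor.J1] : H730.OZ.Row Spor.J1 := by
  have hc := H413.JOneLocal.card_J1
  have hL := H413.JOneLocal.isLocal
  have hsim : IsSimpleGroup Spor.J1 := SporadicB.J1.Main.isJ1.1
  refine row_of fun χ x h => ?_
  have f7 : Fact (Nat.Prime 7) := ⟨by norm_num⟩
  have f11 : Fact (Nat.Prime 11) := ⟨by norm_num⟩
  have f19 : Fact (Nat.Prime 19) := ⟨by norm_num⟩
  obtain ⟨P7, hP7, ⟨D⟩⟩ := H417.BlockCount.exists_SC (G := Spor.J1) 7 (by norm_num) (by rw [hc]; norm_num)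
    (by rw [hc]; norm_num) (fun y hy => by
      rw [H417.JOneDeg.card_cent hL hc (by rw [hy]; unfold H413.JOneSpec.Big; tauto), hy]) (e := 6) (t := 1)
    (by rw [hc]) (by norm_num)
  obtain ⟨Q, hQ, ⟨E⟩⟩ := H417.BlockCount.exists_SC (G := Spor.J1) 11 (by norm_num) (by rw [hc]; norm_num)
    (by rw [hc]; norm_num) (fun y hy => by
      rw [H417.JOneDeg.card_cent hL hc (by rw [hy]; unfold H413.JOneSpec.Big; tauto), hy]) (e := 10) (t := 1)
    (by rw [hc]) (by norm_num)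
  obtain ⟨R, hR, ⟨F⟩⟩ := H417.BlockCount.exists_SC (G := Spor.J1) 19 (by norm_num) (by rw [hc]; norm_num)
    (by rw [hc]; norm_num) (fun y hy => by
      rw [H417.JOneDeg.card_cent hL hc (by rw [hy]; unfold H413.JOneSpec.Big; tauto), hy]) (e := 6) (t := 3)
    (by rw [hc]) (by norm_num)
  have hdg : M23Order.Base.dg χ = charDegree (χ : Spor.J1 → ℂ) := rfl
  have h2 := H417.BlockCount.mod_cases D (by norm_num) (by norm_num) (by norm_num) χ
  have h3 := H417.BlockCount.mod_cases E (by norm_num) (by norm_num) (by norm_num) χ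
  have h5 := H417.BlockCount.mod_cases F (by norm_num) (by norm_num) (by norm_num) χ
  rw [hdg] at h2 h3 h5
  have h6 := okd_of h hc (c0 := 1) (l := [(2,3),(3,1),(5,1),(7,1),(11,1),(19,1)]) (iso := []) (by decide +kernel)
    H417.JOneDeg.primes_ok (by decide +kernel) Nat.card_pos (by simp)
  have h1 := H417.Divs.all_divs [(2,3),(3,1),(5,1),(7,1),(11,1),(19,1)] H417.JOneDeg.primes_ok (N := 175560)
    (by decide +kernel)
    (f := fun d => !(okd 175560 1 [(2,3),(3,1),(5,1),(7,1),(11,1),(19,1)] [] d) || (!(H417.JFourList.okm 7 6 d) ||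
      (!(H417.JFourList.okm 11 10 d) || !(H417.JFourList.okm 19 6 d)))) (by decide +kernel)
    (d := charDegree (χ : Spor.J1 → ℂ)) (by rw [← hc]; exact deg_dvd χ)
  rw [h6, H417.JFourList.okm_of h2, H417.JFourList.okm_of h3, H417.JFourList.okm_of h5] at h1
  exact absurd h1 (by decide)

/-- **`J₁`.** -/
theorem row_j1 {S : Type u} [Group S] [Finite S] (_hs : IsSimpleGroup S) (h : Spor.IsoJ1 S) : H730.OZ.Row S := by
  obtain ⟨e⟩ := h
  have hfin : Finite Spor.J1 := Finite.of_equiv _ e.toEquiv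
  exact H730.OZ.Row.congr e row_j1'

end Cfsg.Agent.H672.OZ
end

-- part: H672/OZ/JThree
section
/-!
# One vanishing class: `J₃` (helper672, S4842)

The sieve leaves the degrees 18 and 324; the values at the elements of order 4 and 8 (`|C| = 96, 8`) exclude them.

* `cent_of_val` : `χ y = v`, `v` a nonzero integer: `c (v² - 1) ≤ |C(y)|`.
-/

set_option autoImplicit false
set_option maxRecDepth 100000

open Cfsg Cfsg.Agent.Characters Cfsg.Agent.H732.VZ Cfsg.Agent.H604.OZ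

namespace Cfsg.Agent.H672.OZ

universe u

section val

variable {G : Type u} [Group G] [Finite G] {χ : IrrCharacter G} {x : G}

omit [Finite G] in
/-- The order of a conjugacy class. -/
theorem card_class_mul (y : G) : Nat.card {g : G // IsConj y g} * cent y = Nat.card G := by
  rw [← CentralCharacter.index_centralizer_eq_card, mul_comm, Subgroup.card_mul_index]

/-- A nonzero integral value `v` at `y`: `c (v² - 1) ≤ |C(y)|`. -/
theorem cent_of_val (h : One χ x) {y : G} {v : ℤ} (hv : (χ : G → ℂ) y = v) (h0 : v ≠ 0) :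
    cent x * (v.natAbs ^ 2 - 1) ≤ cent y := by
  classical
  have := Fintype.ofFinite G
  let Y : Finset G := Finset.univ.filter fun g : G => (χ : G → ℂ) g = v
  have hmem : ∀ g : G, g ∈ Y ↔ (χ : G → ℂ) g = v := fun g => by simp [Y]
  have hvC : (v : ℂ) ≠ 0 := by exact_mod_cast h0
  have hn : 0 < v.natAbs := Int.natAbs_pos.2 h0
  have h1 := excess χ (Y := Y) (fun g hg k hk => by
      rw [hmem] at hg ⊢
      obtain ⟨σ, hσ⟩ := GaloisBasic.exists_ringEquiv_of_coprime (G := G) hk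
      rw [← hσ _ (Core.isIrr_isCharacter χ.2) g, hg, map_intCast]) (fun g hg => by
      rw [(hmem g).1 hg]
      exact hvC) (r := v.natAbs) hn (fun g hg => by
      rw [(hmem g).1 hg]
      rcases Int.natAbs_eq v with h2 | h2
      · have h3 : (v : ℂ) = ((v.natAbs : ℕ) : ℂ) := by
          have h4 := congrArg (Int.cast : ℤ → ℂ) h2
          rwa [Int.cast_natCast] at h4
        rw [h3, div_self (by exact_mod_cast hn.ne')]
        exact isIntegral_one
      · have h3 : (v : ℂ) = -((v.natAbs : ℕ) : ℂ) := by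
          have h4 := congrArg (Int.cast : ℤ → ℂ) h2
          rwa [Int.cast_neg, Int.cast_natCast] at h4
        rw [h3, neg_div, div_self (by exact_mod_cast hn.ne')]
        exact isIntegral_one.neg)
  have h2 := card_zeros h
  have h3 : Nat.card {g : G // IsConj y g} ≤ Y.card := by
    rw [← Nat.card_eq_finsetCard Y]
    refine Nat.card_le_card_of_injective (fun g => (⟨g.1, ?_⟩ : Y)) ?_
    · rw [hmem]
      obtain ⟨c, hc⟩ := isConj_iff.1 g.2
      rw [← hc, Core.isIrr_isClassFunction χ.2 y c]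
      exact hv
    · intro a b hab
      exact Subtype.ext (congrArg (fun z : Y => (z : G)) hab)
  have h4 := card_class_mul (G := G) y
  have h5 : Y.card * (v.natAbs ^ 2 - 1) ≤ (Finset.univ.filter fun g : G => (χ : G → ℂ) g = 0).card := by
    rw [Nat.mul_sub, mul_one]
    omega
  have h6 := (Nat.mul_le_mul_right (v.natAbs ^ 2 - 1) h3).trans h5
  -- `k (v² - 1) ≤ z`, `k |C(y)| = N = z c`
  have hN : 0 < Nat.card G := Nat.card_pos
  change _ * cent x = _ at h2
  have h7 : Nat.card {g : G // IsConj y g} * (cent x * (v.natAbs ^ 2 - 1))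
      ≤ Nat.card {g : G // IsConj y g} * cent y := by
    rw [h4, ← h2]
    calc Nat.card {g : G // IsConj y g} * (cent x * (v.natAbs ^ 2 - 1))
        = Nat.card {g : G // IsConj y g} * (v.natAbs ^ 2 - 1) * cent x := by ring
      _ ≤ (Finset.univ.filter fun g : G => (χ : G → ℂ) g = 0).card * cent x := Nat.mul_le_mul_right _ h6
  refine Nat.le_of_mul_le_mul_left h7 ?_
  rcases Nat.eq_zero_or_pos (Nat.card {g : G // IsConj y g}) with h8 | h8
  · rw [h8, zero_mul] at h4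
    omega
  · exact h8

end val

open Cfsg.Agent.J3Type.CodeTab Cfsg.Agent.J3Type.CodeFacts Cfsg.Agent.J3Type.CodeGroup
open Cfsg.Agent.J3Type.CharTools Cfsg.Agent.J3Type.CharRow Cfsg.Agent.J3Type.CharOrder

/-- **`J₃`.** -/
theorem row_j3 {S : Type u} [Group S] [Finite S] (hs : IsSimpleGroup S) (h : Spor.IsoJ3 S) : H730.OZ.Row S := by
  have hN : Nat.card S = 50232960 := (H898.J3Cent.base h).2.1
  refine row_of fun χ x ho => ?_
  have h4 : 4 ≤ cent x := four_le_cent ho (by rw [hN]; norm_num) (by rw [hN]; norm_num)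
  have hiso : ∀ r ∈ [17, 19], charDegree (χ : S → ℂ) % r = 0 ∨
      charDegree (χ : S → ℂ) % r = 1 ∨ charDegree (χ : S → ℂ) % r = r - 1 := by
    intro r hr
    simp only [List.mem_cons, List.not_mem_nil, or_false] at hr
    rcases hr with rfl | rfl
    · exact iso_mod ho (by norm_num) (by norm_num) (by rw [hN]; norm_num) (by rw [hN]; norm_num) (by rw [hN]; norm_num)
        (fun y hy => (H898.J3Cent.seventeen h hy).1) h4
    · exact iso_mod ho (by norm_num) (by norm_num) (by rw [hN]; norm_num) (by rw [hN]; norm_num) (by rw [hN]; norm_num)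
        (fun y hy => H898.J3Cent.card_nineteen h hy) h4
  have hm := mem_of_sieve ho hN (l := [(2,7),(3,5),(5,1),(17,1),(19,1)]) (by decide +kernel)
    (by
      intro x hx
      simp only [List.mem_cons, List.not_mem_nil, or_false] at hx
      rcases hx with rfl | rfl | rfl | rfl | rfl <;> norm_num)
    (by decide +kernel) h4 hiso (D := [18, 324]) (_root_.Cfsg.Agent.H672.OZ.LowExp.all_of (by decide +kernel))
  obtain ⟨t, D, hD, hall⟩ := H417.JThreeCols.exists_coded_iso h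
  obtain ⟨ζ, hζ, hsq⟩ := exists_sqrt_five
  obtain ⟨V, R⟩ := exists_row hD hall hζ hsq χ.2
  have hcc := cc_y hD (j := 26163) (by rw [hN])
  have c2 : cent (D 1) = 96 := hcc 2
  have c4 : cent (D 97) = 8 := hcc 4
  have hV0 : V 0 = (charDegree (χ : S → ℂ) : ℤ) := by
    have h1 := R.e0
    rw [← H686.CharKit.charDegree_irr χ] at h1
    exact_mod_cast h1.symm
  have r1 := R.c1
  have r4 := R.c4
  have r8 := R.c8
  have hd : charDegree (χ : S → ℂ) = 18 ∨ charDegree (χ : S → ℂ) = 324 := by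
    simpa only [List.mem_cons, List.not_mem_nil, or_false] using hm
  -- the value at the elements of order 8
  have hv4 : V 4 = 0 := by
    by_contra hne
    have h1 := cent_of_val ho R.e4 hne
    rw [c4] at h1
    have h2 : (2 : ℤ) ∣ V 4 := by
      rcases hd with hd | hd <;> rw [hd] at hV0 <;> push_cast at hV0 <;> omega
    have h3 : 2 ≤ (V 4).natAbs := by omega
    have h5 : 3 ≤ (V 4).natAbs ^ 2 - 1 := by
      have : 2 ^ 2 ≤ (V 4).natAbs ^ 2 := Nat.pow_le_pow_left h3 2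
      omega
    have h6 := Nat.mul_le_mul h4 h5
    omega
  have hc8 : cent x = 8 := by
    rw [cent_eq_of_conj (ho.uniq (D 97) (by rw [R.e4, hv4]; simp)), c4]
  rcases hd with hd | hd
  · have h1 := H733.OZ.cent_le ho (r := 5) (n := 1) (by norm_num) (by rw [hN]; norm_num) (by rw [hN]; norm_num)
      (by rw [hd]; norm_num)
    omega
  · have h2 : (4 : ℤ) ∣ V 2 := by
      rw [hd] at hV0
      push_cast at hV0
      omega
    have hv2 : V 2 ≠ 0 := by
      intro h0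
      have h3 := cent_eq_of_conj (ho.uniq (D 1) (by rw [R.e2, h0]; simp))
      omega
    have h1 := cent_of_val ho R.e2 hv2
    rw [c2, hc8] at h1
    have h3 : 4 ≤ (V 2).natAbs := by omega
    have h5 : 4 ^ 2 ≤ (V 2).natAbs ^ 2 := Nat.pow_le_pow_left h3 2
    omega

end Cfsg.Agent.H672.OZ
end

-- part: H257/OZ/SuzRow
section
/-!
# One vanishing class: `Suz` (helper257, S4842)

All centralizers have order at least 11; the order of the group and the primes 7, 11, 13 leave eight degrees, all even. A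
rational element of order 8 with centralizer of order 32 must be a zero; the degree is then `± 1` modulo 25 squared.
-/

set_option autoImplicit false
set_option maxRecDepth 100000

open Cfsg Cfsg.Agent.Characters Cfsg.Agent.H732.VZ Cfsg.Agent.H604.OZ Cfsg.Agent.H672.OZ Subgroup

namespace Cfsg.Agent.H257.OZ

universe u

theorem row_suz' [Finite Spor.Suz] : H730.OZ.Row Spor.Suz := by
  classical
  have hN : Nat.card Spor.Suz = 448345497600 := Cfsg.Agent.SporadicRecognition.SuzOrder.card_Suz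
  have hs : IsSimpleGroup Spor.Suz := Cfsg.Agent.SporadicRecognition.SuzOrder.simple
  refine row_of fun χ x h => ?_
  have h11 : 11 ≤ cent x := SuzF.eleven_le x
  have h4 : 4 ≤ cent x := by omega
  have hiso : ∀ r ∈ [7, 11, 13], charDegree (χ : Spor.Suz → ℂ) % r = 0 ∨
      charDegree (χ : Spor.Suz → ℂ) % r = 1 ∨ charDegree (χ : Spor.Suz → ℂ) % r = r - 1 := by
    intro r hr
    simp only [List.mem_cons, List.not_mem_nil, or_false] at hr
    rcases hr with rfl | rfl | rfl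
    · have h1 := H733.OZ.pow_dvd h (r := 7) (n := 1) (by norm_num) (by rw [hN]; norm_num) (by rw [hN]; norm_num)
        (by rw [pow_one]; omega)
      rw [pow_one] at h1
      have h2 := one_lt_deg h
      have h3 : ∀ d : ℕ, 1 < d → 7 ∣ d ^ 2 - 1 → d % 7 = 0 ∨ d % 7 = 1 ∨ d % 7 = 7 - 1 := by
        intro d hd hdv
        have h4 : 1 ≤ d ^ 2 := Nat.one_le_pow _ _ (by omega)
        have h5 : d ^ 2 % 7 = 1 := by omega
        have h6 : d ^ 2 % 7 = (d % 7) ^ 2 % 7 := Nat.pow_mod _ _ _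
        have h7 : d % 7 < 7 := Nat.mod_lt _ (by norm_num)
        rw [h6] at h5
        generalize d % 7 = e at h5 h7
        interval_cases e <;> simp_all
      exact h3 _ h2 h1
    · obtain ⟨z, hz, hC⟩ := SuzF.eleven
      rcases H849.OZ.iso (p := 11) (by norm_num) (by norm_num) (by rw [hN]; norm_num) (by rw [hN]; norm_num) hz hC h h4
        with h1 | h1 | h1
      · exact Or.inr (Or.inl h1)
      · exact Or.inr (Or.inr h1)
      · exact Or.inl (Nat.mod_eq_zero_of_dvd h1.1)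
    · obtain ⟨z, hz, hC⟩ := SuzF.thirteen
      rcases H849.OZ.iso (p := 13) (by norm_num) (by norm_num) (by rw [hN]; norm_num) (by rw [hN]; norm_num) hz hC h h4
        with h1 | h1 | h1
      · exact Or.inr (Or.inl h1)
      · exact Or.inr (Or.inr h1)
      · exact Or.inl (Nat.mod_eq_zero_of_dvd h1.1)
  have hm := mem_of_sieve h hN (l := [(2,13),(3,7),(5,2),(7,1),(11,1),(13,1)]) (by decide +kernel)
    (by
      intro x hx
      simp only [List.mem_cons, List.not_mem_nil, or_false] at hx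
      rcases hx with rfl | rfl | rfl | rfl | rfl | rfl <;> norm_num)
    (by decide +kernel) h11 hiso (D := [1728, 2430, 792, 50688, 21384, 2640, 168960, 71280]) (_root_.Cfsg.Agent.H672.OZ.LowExp.all_of (by decide +kernel))
  have h2 : 2 ∣ charDegree (χ : Spor.Suz → ℂ) := by
    have key : ∀ d ∈ [1728, 2430, 792, 50688, 21384, 2640, 168960, 71280], 2 ∣ d := by decide
    exact key _ hm
  obtain ⟨y, hy, hyC, hy3, hy5⟩ := SuzF.eight
  have hr8 := rat_eight hy hy3 hy5 (by rw [hN]; norm_num)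
  have hyC' : cent y = 32 := hyC
  have hxy : IsConj x y := by
    by_contra hne
    have := H849.OZ.one_prime h Nat.prime_two h2 ⟨3, by rw [hy]; norm_num⟩ hr8 hne
    omega
  have hc : cent x = 32 := by rw [cent_eq_of_conj hxy, hyC']
  have h25 := H733.OZ.pow_dvd h (r := 5) (n := 2) (by norm_num) (by rw [hN]; norm_num) (by rw [hN]; norm_num)
    (by rw [hc]; norm_num)
  have key : ∀ d ∈ [1728, 2430, 792, 50688, 21384, 2640, 168960, 71280], ¬ 5 ^ 2 ∣ d ^ 2 - 1 := by decide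
  exact key _ hm h25

/-- **`Suz`.** -/
theorem row_suz {S : Type u} [Group S] [Finite S] (_hs : IsSimpleGroup S) (h : Spor.IsoSuz S) : H730.OZ.Row S := by
  obtain ⟨e⟩ := h
  have hfin : Finite Spor.Suz := Finite.of_equiv _ e.toEquiv
  exact H730.OZ.Row.congr e row_suz'

end Cfsg.Agent.H257.OZ
end

-- part: H601/OZ/RowB
section
/-!
# One vanishing class: the Baby Monster (helper601, S4842)

`|C(z)| = 38, 46, 31, 47` for `z` of order `19, 23, 31, 47` (helper715, helper954), the theorems of helper849 on primes which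
divide the order once and `not_full` (helper672) leave no degree.
-/

set_option autoImplicit false
set_option maxRecDepth 100000

open Cfsg Cfsg.Agent.Characters Cfsg.Agent.H732.VZ Cfsg.Agent.H604.OZ Cfsg.Agent.H672.OZ

namespace Cfsg.Agent.H601.OZ

universe u

/-- the order -/
abbrev NB : ℕ := 4154781481226426191177580544000000

/-- the primes -/
theorem prime_cases {r : ℕ} (hr : r.Prime) (h : r ∣ NB) : r = 2 ∨ r = 3 ∨ r = 5 ∨ r = 7 ∨ r = 11 ∨ r = 13 ∨ r = 17 ∨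
    r = 19 ∨ r = 23 ∨ r = 31 ∨ r = 47 := by
  have e : NB = 2 ^ 41 * (3 ^ 13 * (5 ^ 6 * (7 ^ 2 * (11 * (13 * (17 * (19 * (23 * (31 * 47))))))))) := by norm_num
  rw [e] at h
  have k : ∀ {s : ℕ}, s.Prime → r ∣ s → r = s := fun hs h => (Nat.prime_dvd_prime_iff_eq hr hs).1 h
  rcases hr.dvd_mul.1 h with h | h
  · exact .inl (k (by norm_num) (hr.dvd_of_dvd_pow h))
  rcases hr.dvd_mul.1 h with h | h
  · exact .inr (.inl (k (by norm_num) (hr.dvd_of_dvd_pow h)))
  rcases hr.dvd_mul.1 h with h | h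
  · exact .inr (.inr (.inl (k (by norm_num) (hr.dvd_of_dvd_pow h))))
  rcases hr.dvd_mul.1 h with h | h
  · exact .inr (.inr (.inr (.inl (k (by norm_num) (hr.dvd_of_dvd_pow h)))))
  rcases hr.dvd_mul.1 h with h | h
  · exact .inr (.inr (.inr (.inr (.inl (k (by norm_num) h)))))
  rcases hr.dvd_mul.1 h with h | h
  · exact .inr (.inr (.inr (.inr (.inr (.inl (k (by norm_num) h))))))
  rcases hr.dvd_mul.1 h with h | h
  · exact .inr (.inr (.inr (.inr (.inr (.inr (.inl (k (by norm_num) h)))))))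
  rcases hr.dvd_mul.1 h with h | h
  · exact .inr (.inr (.inr (.inr (.inr (.inr (.inr (.inl (k (by norm_num) h))))))))
  rcases hr.dvd_mul.1 h with h | h
  · exact .inr (.inr (.inr (.inr (.inr (.inr (.inr (.inr (.inl (k (by norm_num) h)))))))))
  rcases hr.dvd_mul.1 h with h | h
  · exact .inr (.inr (.inr (.inr (.inr (.inr (.inr (.inr (.inr (.inl (k (by norm_num) h))))))))))
  · exact .inr (.inr (.inr (.inr (.inr (.inr (.inr (.inr (.inr (.inr (k (by norm_num) h))))))))))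

/-- `d = ± 1` modulo `r` -/
def pm (r d : ℕ) : Bool := Nat.beq (Nat.mod d r) 1 || Nat.beq (Nat.mod d r) (Nat.sub r 1)

/-- the test -/
def tst (d : ℕ) : Bool := Nat.ble d 1 || !(pm 47 d && (pm 31 d && (pm 23 d && pm 19 d)))

theorem sieve : Cfsg.Agent.H635.Spor.allF NB tst [(2, 40), (3, 12), (5, 5), (7, 1)] 1 = true := by decide +kernel

theorem pm_of {r d : ℕ} (h : d % r = 1 ∨ d % r = r - 1) : pm r d = true := by
  unfold pm
  rw [Bool.or_eq_true]
  rcases h with h | h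
  · exact .inl (by rw [Nat.beq_eq]; exact h)
  · exact .inr (by rw [Nat.beq_eq]; exact h)

/-- **The Baby Monster** (with the classification, for the centralizers of elements of order 19, 23, 31). -/
theorem row_b (hK : H995.CopEngine.AllKnown.{0}) {S : Type u} [Group S] [Finite S] (_ : IsSimpleGroup S)
    (hS : Spor.IsoB S) : H730.OZ.Row S := by
  have hN : Nat.card S = NB := NotCT.Orders.b hS
  have h3 : Cfsg.Agent.H715.Mon.Grp.SThree.{0} := Cfsg.Agent.H715.Mon.Grp.sThree ⟨OrdDiv.table, hK⟩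
  refine row_of fun χ x h => ?_
  have h4 : 4 ≤ cent x := four_le_cent h (by rw [hN]; norm_num) (by rw [hN]; norm_num)
  have hdN := deg_dvd χ
  have hd1 := one_lt_deg h
  have hsq := cent_mul_sq_le h
  -- no full powers
  have nf : ∀ r n : ℕ, r.Prime → n ≠ 0 → r ^ n ∣ NB → ¬ r ^ (n + 1) ∣ NB → (1 + NB / r ^ n) % r ^ n ≠ 0 →
      ¬ r ^ n ∣ charDegree (χ : S → ℂ) := fun r n hr hn h1 h2 h5 =>
    not_full h hr hn (by rw [hN]; exact h1) (by rw [hN]; exact h2) (by rw [hN]; exact h5)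
  have n2 := nf 2 41 (by norm_num) (by norm_num) (by norm_num) (by norm_num) (by norm_num)
  have n3 := nf 3 13 (by norm_num) (by norm_num) (by norm_num) (by norm_num) (by norm_num)
  have n5 := nf 5 6 (by norm_num) (by norm_num) (by norm_num) (by norm_num) (by norm_num)
  have n7 := nf 7 2 (by norm_num) (by norm_num) (by norm_num) (by norm_num) (by norm_num)
  have n11 := nf 11 1 (by norm_num) (by norm_num) (by norm_num) (by norm_num) (by norm_num)
  have n13 := nf 13 1 (by norm_num) (by norm_num) (by norm_num) (by norm_num) (by norm_num)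
  have n17 := nf 17 1 (by norm_num) (by norm_num) (by norm_num) (by norm_num) (by norm_num)
  have n31 := nf 31 1 (by norm_num) (by norm_num) (by norm_num) (by norm_num) (by norm_num)
  have n47 := nf 47 1 (by norm_num) (by norm_num) (by norm_num) (by norm_num) (by norm_num)
  -- isolated primes
  have i31 := iso_mod h (p := 31) (by norm_num) (by norm_num) (by rw [hN]; norm_num) (by rw [hN]; norm_num)
    (by rw [hN]; norm_num) (fun y hy => Cfsg.Agent.H715.Mon.Exact.B.cent31 h3 hS hy) h4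
  have i47 := iso_mod h (p := 47) (by norm_num) (by norm_num) (by rw [hN]; norm_num) (by rw [hN]; norm_num)
    (by rw [hN]; norm_num) (fun y hy => Cfsg.Agent.H954.DR.CentB.cent47 hS hy) h4
  -- `|C(z)| = 2 p`
  have two : ∀ p : ℕ, p.Prime → 7 ≤ p → p ∣ NB → ¬ p ^ 2 ∣ NB → NB ≠ p →
      (∀ z : S, orderOf z = p → Nat.card (Subgroup.centralizer ({z} : Set S)) = 2 * p) →
      charDegree (χ : S → ℂ) % p = 1 ∨ charDegree (χ : S → ℂ) % p = p - 1 := by
    intro p hp h7 hd h2 hG hC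
    have hF : Fact p.Prime := ⟨hp⟩
    obtain ⟨z, hz⟩ := exists_prime_orderOf_dvd_card' (G := S) p (by rw [hN]; exact hd)
    have hx : ¬ p ∣ orderOf x := by
      rcases Nat.lt_or_ge p (cent x) with h5 | h5
      · exact H733.OZ.not_dvd_orderOf h hp (n := 1) (by rw [pow_one, hN]; exact hd) (by rw [hN]; exact h2)
          (by rw [pow_one]; exact h5)
      · exact H849.OZ.not_dvd_of_le hp (by rw [hN]; exact h2) hz (by rw [hC z hz]; omega) h5
    exact H849.OZ.mod_of_two hp h7 (by rw [hN]; exact h2) (by rw [hN]; exact hG) hz (hC z hz) h hx h4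
  have m19 := two 19 (by norm_num) (by norm_num) (by norm_num) (by norm_num) (by norm_num)
    (fun z hz => Cfsg.Agent.H715.Mon.Exact.B.cent19 h3 hS hz)
  have m23 := two 23 (by norm_num) (by norm_num) (by norm_num) (by norm_num) (by norm_num)
    (fun z hz => Cfsg.Agent.H715.Mon.Exact.B.cent23 h3 hS hz)
  rw [hN] at hdN hsq
  generalize hd : charDegree (χ : S → ℂ) = d at *
  have m31 : d % 31 = 1 ∨ d % 31 = 31 - 1 := i31.resolve_left fun h5 => n31 (by
    rw [pow_one]; exact Nat.dvd_of_mod_eq_zero h5)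
  have m47 : d % 47 = 1 ∨ d % 47 = 47 - 1 := i47.resolve_left fun h5 => n47 (by
    rw [pow_one]; exact Nat.dvd_of_mod_eq_zero h5)
  have hlt : d * d < NB := by
    have h5 : cent x * d ^ 2 ≤ NB + cent x := hsq
    have h6 : cent x * (d ^ 2 - 1) ≤ NB := by
      rw [Nat.mul_sub, mul_one]
      omega
    have h7 : 4 * (d ^ 2 - 1) ≤ NB := (Nat.mul_le_mul_right _ h4).trans h6
    rw [pow_two] at h7
    have h8 : NB = 4154781481226426191177580544000000 := rfl
    omega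
  have hs := Cfsg.Agent.H635.Spor.allF_sound (N := NB) (f := tst) [(2, 40), (3, 12), (5, 5), (7, 1)] 1 d
    (by
      intro x hx
      simp only [List.mem_cons, List.not_mem_nil, or_false] at hx
      rcases hx with rfl | rfl | rfl | rfl <;> norm_num)
    (by omega)
    (by
      intro r hr hrd
      rcases prime_cases hr (hrd.trans hdN) with rfl | rfl | rfl | rfl | rfl | rfl | rfl | rfl | rfl | rfl | rfl
      · simp
      · simp
      · simp
      · simp
      · exact absurd hrd (by rwa [pow_one] at n11)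
      · exact absurd hrd (by rwa [pow_one] at n13)
      · exact absurd hrd (by rwa [pow_one] at n17)
      · omega
      · omega
      · omega
      · omega)
    (by
      intro x hx
      simp only [List.mem_cons, List.not_mem_nil, or_false] at hx
      rcases hx with rfl | rfl | rfl | rfl
      · exact n2
      · exact n3
      · exact n5
      · exact n7)
    sieve (by rwa [one_mul])
  rw [one_mul, tst, pm_of m47, pm_of m31, pm_of m23, pm_of m19] at hs
  have h5 : Nat.ble d 1 = false := by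
    rw [← Bool.not_eq_true, Nat.ble_eq]
    omega
  rw [h5] at hs
  exact absurd hs (by decide)

end Cfsg.Agent.H601.OZ
end

-- part: H849/OZ/RowSpor
section
/-!
# S4842: the sporadic groups (helper849)
-/

set_option autoImplicit false

open Cfsg

namespace Cfsg.Agent.H849.OZ.RowSpor

open Cfsg.Agent

universe u

/-- **The sporadic groups.** -/
theorem row_sporadic (hK : H995.CopEngine.AllKnown.{0})
    {S : Type u} [Group S] [Finite S] (hs : IsSimpleGroup S) (h : IsSporadicGroup S) : H730.OZ.Row S := by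
  have h3 : Cfsg.Agent.H715.Mon.Grp.SThree.{0} := Cfsg.Agent.H715.Mon.Grp.sThree ⟨OrdDiv.table, hK⟩
  rcases h with h | h | h | h | h | h | h | h | h | h | h | h | h | h | h | h | h | h | h | h | h | h | h | h | h | h
  · exact H399.OZ.row_m11 hs h
  · exact H399.OZ.row_m12 hs h
  · exact H399.OZ.row_m22 hs h
  · exact H672.OZ.row_m23 hs h
  · exact H672.OZ.row_m24 hs h
  · exact H672.OZ.row_j1 hs h
  · exact H121.OZ.JTwo.row_j2 hs h
  · exact H672.OZ.row_j3 hs h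
  · exact H672.OZ.row_j4 hs h
  · exact H678.OZ.row_co1 hs h
  · exact H490.OZ.row_co2 hs h
  · exact H490.OZ.row_co3 hs h
  · exact H257.OZ.row_mcl hs h
  · exact H109.OZ.row_hs hs h
  · exact H257.OZ.row_suz hs h
  · exact H30.OZ.row_he hs h
  · exact H446.OZ.Ru.row_ru hs h
  · exact H672.OZ.row_on hs h
  · exact H672.OZ.row_ly hK hs h
  · exact H320.OZ.row_fi22 hs h
  · exact H328.OZ.Fi23.row_fi23 hs h
  · exact H593.OZ.row_fi24 hs h
  · exact H604.OZ.HN.row_hn hs h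
  · exact H289.OZ.row_th hs h
  · exact H601.OZ.row_b hK hs h
  · exact H733.OZ.Mon.row_m_of hK h3 hs h

end Cfsg.Agent.H849.OZ.RowSpor
end

private theorem dce_a4a9cbfbf743 : _root_.True := by
  try have : _root_.True := by simp only [_root_.Cfsg.Agent.H601.OZ.tst.eq_1]
  exact _root_.True.intro
end

-- part: H730/OZ/MainOf
section
prune_inst 0x6346001000de2000400000590032022046c0004b00000080048c20a400201220200808000068010080a0a800100050020000000800000000000000000000504010020120490080000420010001080400000000000000000000000800000000004208000000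
set_option linter.all false
open scoped Cfsg.Agent.FastGrp

-- part: H730/OZ/Exc
section
/-!
# S4842: the rows `E₆`, `E₇`, `²E₆` without hypotheses (helper730)
-/

set_option autoImplicit false

open Cfsg

namespace Cfsg.Agent.H730.OZ

universe u

theorem row_e6 {S : Type u} [Group S] [Finite S] (hs : IsSimpleGroup S) (h : Lie.IsoChevE6 S) : Row S := by
  obtain ⟨F, i1, i2, ⟨e⟩⟩ := h
  obtain ⟨p, hc⟩ := CharP.exists F
  obtain ⟨a, hp, ha⟩ := FiniteField.card F p
  have : Fact p.Prime := ⟨hp⟩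
  have hs' : IsSimpleGroup ↥(Lie.chevE6.group F) := (MulEquiv.isSimpleGroup_congr e).1 hs
  exact Row.congr e (Row.of_none (H448.Van.none_E6 hs' hp a.pos ha
    (H279.OZ.kaw_of_hasRGD hp (Nodes.RGDChev.hasRGD_E6 F p))))

theorem row_e7 {S : Type u} [Group S] [Finite S] (hs : IsSimpleGroup S) (h : Lie.IsoE7 S) : Row S := by
  obtain ⟨F, i1, i2, ⟨e⟩⟩ := h
  obtain ⟨p, hc⟩ := CharP.exists F
  obtain ⟨a, hp, ha⟩ := FiniteField.card F p
  have : Fact p.Prime := ⟨hp⟩
  have hs' : IsSimpleGroup ↥(Lie.chevE7.group F) := (MulEquiv.isSimpleGroup_congr e).1 hs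
  exact Row.congr e (Row.of_none (H448.Van.none_E7 hs' hp a.pos ha
    (H279.OZ.kaw_of_hasRGD hp (Nodes.RGDChev.hasRGD_E7 F p))))

theorem row_te6 {S : Type u} [Group S] [Finite S] (hs : IsSimpleGroup S) (h : Lie.Iso2E6 S) : Row S := by
  obtain ⟨K, i1, i2, q, hq, hK, ⟨e⟩⟩ := h
  obtain ⟨p, hc⟩ := CharP.exists K
  obtain ⟨b, hp, hb⟩ := FiniteField.card K p
  obtain ⟨r, a, hr, ha, rfl⟩ := hq
  have hr' : r.Prime := hr.nat_prime
  have hrp : r = p := by
    have h1 : r ∣ p ^ (b : ℕ) := by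
      rw [← hb, hK]
      exact (dvd_pow_self r ha.ne').trans (dvd_pow_self _ two_ne_zero)
    exact (Nat.prime_dvd_prime_iff_eq hr' hp).1 (hr'.dvd_of_dvd_pow h1)
  subst hrp
  have : Fact r.Prime := ⟨hr'⟩
  have hs' : IsSimpleGroup ↥(Lie.twistedE6 K (r ^ a)) := (MulEquiv.isSimpleGroup_congr e).1 hs
  exact Row.congr e (Row.of_none (H448.Van.none_2E6 hs' hr' ha rfl hK
    (H279.OZ.kaw_of_hasRGD hr' (Nodes.RGDTwE6.hasRGD (hr'.isPrimePow.pow ha.ne') hK r))))

end Cfsg.Agent.H730.OZ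
end

-- part: H845/OZ/RowOdd
section
/-!
# S4842: the dispatcher for `POmega_{2n+1}(q)`, `q` odd (helper845)

From the rows `n = 3`, `n = 4`, `n ≥ 5` (hypotheses in the form of helper205).
-/

set_option autoImplicit false

open Cfsg

namespace Cfsg.Agent.H845.OZ

open Cfsg.Agent.H730.OZ

universe u

/-- **The dispatcher** with the rows `n = 3`, `n = 4` and `n ≥ 5`. -/
theorem row_isPOmegaOdd
    (h3 : ∀ {S : Type u} [Group S] [Finite S], IsSimpleGroup S → ∀ {F : Type} [Field F] [Fintype F],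
      Odd (Fintype.card F) → (S ≃* POmega F (quadFormOdd 3 F)) → Row S)
    (h4 : ∀ {S : Type u} [Group S] [Finite S], IsSimpleGroup S → ∀ {F : Type} [Field F] [Fintype F],
      Odd (Fintype.card F) → (S ≃* POmega F (quadFormOdd 4 F)) → Row S)
    (h5 : ∀ {S : Type u} [Group S] [Finite S], IsSimpleGroup S → ∀ {F : Type} [Field F] [Fintype F] {n : ℕ}, 5 ≤ n →
      Odd (Fintype.card F) → (S ≃* POmega F (quadFormOdd n F)) → Row S)
    {S : Type u} [Group S] [Finite S] (hs : IsSimpleGroup S) (hS : IsPOmegaOdd S) : Row S := by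
  obtain ⟨F, _, _, n, hn, ho, ⟨e⟩⟩ := hS
  obtain rfl | rfl | h : n = 3 ∨ n = 4 ∨ 5 ≤ n := by omega
  · exact h3 hs ho e
  · exact h4 hs ho e
  · exact h5 hs h ho e

end Cfsg.Agent.H845.OZ
end

-- part: H730/OZ/FamOdd
section
/-!
# S4842: the odd-dimensional orthogonal groups (helper730)
-/

set_option autoImplicit false

open Cfsg

namespace Cfsg.Agent.H730.OZ

universe u

/-- The family `IsPOmegaOdd`. -/
theorem row_isPOmegaOdd_rest
    (h33 : ∀ {S : Type u} [Group S] [Finite S], IsSimpleGroup S → ∀ {F : Type} [Field F] [Fintype F],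
      Fintype.card F = 3 → (S ≃* POmega F (quadFormOdd 3 F)) → Row S)
    (h3 : ∀ {S : Type u} [Group S] [Finite S], IsSimpleGroup S → ∀ {F : Type} [Field F] [Fintype F],
      5 ≤ Fintype.card F → Odd (Fintype.card F) → (S ≃* POmega F (quadFormOdd 3 F)) → Row S)
    (h4 : ∀ {S : Type u} [Group S] [Finite S], IsSimpleGroup S → ∀ {F : Type} [Field F] [Fintype F],
      Odd (Fintype.card F) → (S ≃* POmega F (quadFormOdd 4 F)) → Row S)
    (h5 : ∀ {S : Type u} [Group S] [Finite S], IsSimpleGroup S → ∀ {F : Type} [Field F] [Fintype F] {n : ℕ}, 5 ≤ n →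
      Odd (Fintype.card F) → (S ≃* POmega F (quadFormOdd n F)) → Row S)
    {S : Type u} [Group S] [Finite S] (hs : IsSimpleGroup S) (h : IsPOmegaOdd S) : Row S := by
  refine Cfsg.Agent.H845.OZ.row_isPOmegaOdd (fun hs' F _ _ ho e => ?_) h4 h5 hs h
  rcases Nat.lt_or_ge (Fintype.card F) 5 with h6 | h6
  · have h7 : Fintype.card F = 3 := by
      have h8 : 1 < Fintype.card F := Fintype.one_lt_card
      obtain ⟨k, hk⟩ := ho
      omega
    exact h33 hs' h7 e
  · exact h3 hs' h6 ho e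

end Cfsg.Agent.H730.OZ
end

-- part: H670/OneZ/RowF
section
/-!
# The row `PSL_n(q)`, `n ≥ 2`, of S4842, modulo `PSL_6(2)` and `PSL_7(2)` (helper670)
-/

set_option autoImplicit false

namespace Cfsg.Agent.H670.OneZ

open Cfsg Cfsg.Agent.H730.OZ

universe u

/-- **The family `IsPSL`**, modulo `PSL_6(2)` and `PSL_7(2)`. -/
theorem row_isPSL {S : Type u} [Group S] [Finite S] (hs : IsSimpleGroup S) (h : Cfsg.IsPSL S)
    (h6 : ∀ (F : Type) [Field F] [Fintype F], Fintype.card F = 2 → Row (Matrix.ProjectiveSpecialLinearGroup (Fin 6) F))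
    (h7 : ∀ (F : Type) [Field F] [Fintype F], Fintype.card F = 2 → Row (Matrix.ProjectiveSpecialLinearGroup (Fin 7) F)) :
    Row S := by
  obtain ⟨F, iF, iT, n, hn, hn2, ⟨e⟩⟩ := h
  have : Fact (Nat.Prime 7) := ⟨by norm_num⟩
  rcases Nat.lt_or_ge n 3 with h3 | h3
  · obtain rfl : n = 2 := by omega
    exact Cfsg.Agent.H846.OZ.row_psl2 (hn2 rfl) e
  · exact row_psl hs h3 e (fun _ _ => Cfsg.Agent.H846.OZ.row_psl2 (by rw [ZMod.card]; norm_num) (MulEquiv.refl _))
      (fun _ hF => h6 F hF) (fun _ hF => h7 F hF)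

end Cfsg.Agent.H670.OneZ
end

-- part: H670/OneZ/RowG
section
/-!
# The row `IsPSL` of S4842, without hypotheses (helper670, helper732)
-/

set_option autoImplicit false

namespace Cfsg.Agent.H670.OneZ

open Cfsg Cfsg.Agent.H730.OZ

universe u

/-- **The family `IsPSL`.** -/
theorem row_isPSL_all {S : Type u} [Group S] [Finite S] (hs : IsSimpleGroup S) (h : Cfsg.IsPSL S) : Row S :=
  row_isPSL hs h (fun F _ _ hF => Cfsg.Agent.H732.OZ.row_l62 F hF) (fun F _ _ hF => Cfsg.Agent.H732.OZ.row_l72 F hF)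

end Cfsg.Agent.H670.OneZ
end

-- part: H224/OZ/Sz
section
/-!
# S4842: the Suzuki groups (helper224)
-/

set_option autoImplicit false

open Cfsg Cfsg.Agent.H730.OZ

namespace Cfsg.Agent.H224.OZ

universe u

section arith

variable {k t a b : ℕ}

theorem cop_a (ha : a = 8 * k ^ 2 + 4 * k + 1) : Nat.Coprime a (8 * k) := by
  have h1 : Nat.Coprime a k := by
    rw [ha, show 8 * k ^ 2 + 4 * k + 1 = 1 + (8 * k + 4) * k by ring, Nat.coprime_add_mul_right_left]
    exact Nat.coprime_one_left _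
  have h2 : Nat.Coprime a 2 := by
    rw [Nat.coprime_two_right]
    exact ⟨4 * k ^ 2 + 2 * k, by rw [ha]; ring⟩
  exact Nat.Coprime.mul_right (by rw [show 8 = 2 ^ 3 by norm_num]; exact h2.pow_right 3) h1

theorem cop_b (hk : 1 ≤ k) (hb : b + 4 * k = 8 * k ^ 2 + 1) : Nat.Coprime b (8 * k) := by
  have hb' : b = 1 + (8 * k - 4) * k := by
    obtain ⟨c, rfl⟩ := Nat.exists_eq_add_of_le hk
    have h1 : 8 * (1 + c) - 4 = 8 * c + 4 := by omega
    rw [h1]
    linarith only [hb]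
  have h1 : Nat.Coprime b k := by
    rw [hb', Nat.coprime_add_mul_right_left]
    exact Nat.coprime_one_left _
  have h2 : Nat.Coprime b 2 := by
    rw [Nat.coprime_two_right]
    exact ⟨(4 * k - 2) * k, by rw [hb', show 8 * k - 4 = 2 * (4 * k - 2) by omega]; ring⟩
  exact Nat.Coprime.mul_right (by rw [show 8 = 2 ^ 3 by norm_num]; exact h2.pow_right 3) h1

theorem cop_ab (hk : 1 ≤ k) (ha : a = 8 * k ^ 2 + 4 * k + 1) (hb : b + 4 * k = 8 * k ^ 2 + 1) : Nat.Coprime a b := by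
  have h1 : a = 8 * k + b := by omega
  rw [h1, Nat.coprime_add_self_left, Nat.coprime_comm]
  exact cop_b hk hb

theorem mul_ab (ha : a = 8 * k ^ 2 + 4 * k + 1) (hb : b + 4 * k = 8 * k ^ 2 + 1) :
    a * b = 64 * k ^ 4 + 1 := by
  have h1 : (a : ℤ) = 8 * k ^ 2 + 4 * k + 1 := by rw [ha]; push_cast; ring
  have h2 : (b : ℤ) = 8 * k ^ 2 - 4 * k + 1 := by
    have : ((b + 4 * k : ℕ) : ℤ) = ((8 * k ^ 2 + 1 : ℕ) : ℤ) := by rw [hb]
    push_cast at this
    linarith only [hb]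
  have h3 : ((a * b : ℕ) : ℤ) = ((64 * k ^ 4 + 1 : ℕ) : ℤ) := by
    push_cast
    rw [h1, h2]
    ring
  exact_mod_cast h3

theorem cop_t (hk : 1 ≤ k) (ht : t + 1 = 8 * k ^ 2) : Nat.Coprime t (8 * k) ∧ Nat.Coprime t (64 * k ^ 4 + 1) := by
  have h2 : Nat.Coprime t 2 := by
    rw [Nat.coprime_two_right]
    obtain ⟨c, hc⟩ : ∃ c, 8 * k ^ 2 = 2 * c := ⟨4 * k ^ 2, by ring⟩
    have : 1 ≤ k ^ 2 := Nat.one_le_pow _ _ hk
    exact ⟨c - 1, by omega⟩
  refine ⟨Nat.Coprime.mul_right (by rw [show 8 = 2 ^ 3 by norm_num]; exact h2.pow_right 3) ?_, ?_⟩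
  · apply Nat.coprime_of_dvd
    intro r hr h3 h4
    have h5 : r ∣ t + 1 := by rw [ht]; exact dvd_mul_of_dvd_right (dvd_pow h4 (by norm_num)) _
    have h6 : r ∣ 1 := (Nat.dvd_add_right h3).1 h5
    exact hr.one_lt.ne' (Nat.dvd_one.1 h6)
  · have h3 : 64 * k ^ 4 + 1 = (t + 2) * t + 2 := by
      have : 64 * k ^ 4 = (t + 1) ^ 2 := by rw [ht]; ring
      rw [this]; ring
    rw [h3, Nat.coprime_mul_right_add_right]
    exact h2

/-- `t = 2 ^ (2 m + 1) - 1` is divisible by two primes or by a prime `r`, `3 ∣ r - 1`. -/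
theorem exists_r {m : ℕ} (hm : 1 ≤ m) (ht : t + 1 = 2 ^ (2 * m + 1)) :
    (∃ r s, r.Prime ∧ s.Prime ∧ r ≠ s ∧ r ∣ t ∧ s ∣ t) ∨ ∃ r, r.Prime ∧ r ∣ t ∧ 3 ∣ r - 1 := by
  have h8 : 8 ≤ 2 ^ (2 * m + 1) := by
    calc 8 = 2 ^ 3 := by norm_num
      _ ≤ 2 ^ (2 * m + 1) := Nat.pow_le_pow_right (by norm_num) (by omega)
  obtain ⟨r, hr, hrt⟩ := Nat.exists_prime_and_dvd (n := t) (by omega)
  by_cases h : ∃ s, s.Prime ∧ r ≠ s ∧ s ∣ t
  · obtain ⟨s, hs, hrs, hst⟩ := h
    exact Or.inl ⟨r, s, hr, hs, hrs, hrt, hst⟩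
  · push Not at h
    right
    refine ⟨r, hr, hrt, ?_⟩
    have h1 : t = r ^ t.primeFactorsList.length := Nat.eq_prime_pow_of_unique_prime_dvd (by omega) (fun {d} hd hdt => by
      by_contra hne
      exact h d hd (fun e => hne e.symm) hdt)
    set j := t.primeFactorsList.length
    -- modulo 4 and modulo 3
    have h4 : t % 4 = 3 := by
      have : 2 ^ (2 * m + 1) % 4 = 0 := by
        obtain ⟨m, rfl⟩ := Nat.exists_eq_add_of_le hm
        rw [show 2 * (1 + m) + 1 = 2 + (2 * m + 1) by ring, pow_add]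
        omega
      omega
    have h3 : t % 3 = 1 := by
      have : 2 ^ (2 * m + 1) % 3 = 2 := by
        rw [pow_succ, pow_mul, Nat.mul_mod, Nat.pow_mod]
        norm_num
      (clear * - ht this; omega)
    have hodd : r % 4 = 1 ∨ r % 4 = 3 := by
      have h2 : ¬ 2 ∣ r := fun h2 => by
        have := h2.trans hrt
        (clear * - h4 this; omega)
      omega
    have hr3 : r % 3 = 1 ∨ r % 3 = 2 := by
      have h2 : ¬ 3 ∣ r := fun h2 => by
        have := h2.trans hrt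
        omega
      omega
    rcases Nat.even_or_odd j with ⟨c, hc⟩ | ⟨c, hc⟩
    · exfalso
      have h5 : r ^ j % 4 = 1 := by
        rw [hc, ← two_mul, pow_mul, Nat.pow_mod, pow_two, Nat.mul_mod]
        rcases hodd with h | h <;> rw [h] <;> norm_num
      (clear * - h1 h4 h5; omega)
    · have h5 : r ^ j % 3 = r % 3 := by
        rw [hc, pow_succ, pow_mul, Nat.mul_mod, Nat.pow_mod, pow_two, Nat.mul_mod r r]
        rcases hr3 with h | h <;> rw [h] <;> norm_num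
      have := hr.one_lt
      (clear * - h1 h3 h5; omega)

end arith

/-- **The Suzuki groups.** -/
theorem row_sz {S : Type u} [Group S] [Finite S] (_hs : IsSimpleGroup S) (h : Lie.IsoSuzuki S) : Row S := by
  obtain ⟨F, _, _, m, hm, hF, he⟩ := h
  intro χ hχ h0
  exfalso
  revert h0
  obtain ⟨k, hk⟩ : ∃ k, k = 2 ^ (m - 1) := ⟨_, rfl⟩
  have hk1 : 1 ≤ k := by rw [hk]; exact Nat.one_le_two_pow
  have hk2 : 1 ≤ k ^ 2 := Nat.one_le_pow _ _ hk1
  have hkk : k ≤ k ^ 2 := by nlinarith only []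
  obtain ⟨t, ht⟩ : ∃ t, t + 1 = 8 * k ^ 2 := ⟨8 * k ^ 2 - 1, by omega⟩
  obtain ⟨a, ha⟩ : ∃ a, a = 8 * k ^ 2 + 4 * k + 1 := ⟨_, rfl⟩
  obtain ⟨b, hb⟩ : ∃ b, b + 4 * k = 8 * k ^ 2 + 1 := ⟨8 * k ^ 2 + 1 - 4 * k, by omega⟩
  have hq : 2 ^ (2 * m + 1) = 8 * k ^ 2 := by
    obtain ⟨c, rfl⟩ := Nat.exists_eq_add_of_le hm
    rw [hk, Nat.add_sub_cancel_left]
    ring
  have hab := mul_ab ha hb
  have cab := cop_ab hk1 ha hb
  have ca := cop_a ha
  have cb := cop_b hk1 hb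
  obtain ⟨ct, ctab⟩ := cop_t hk1 ht
  rw [← hab] at ctab
  have cta : Nat.Coprime t a := ctab.coprime_dvd_right (Dvd.intro _ rfl)
  have ctb : Nat.Coprime t b := ctab.coprime_dvd_right (Dvd.intro_left _ rfl)
  have hcard : Nat.card S = (8 * k ^ 2) ^ 2 * t * (a * b) := by
    obtain ⟨e⟩ := he
    rw [Nat.card_congr e.toEquiv, H438.SzMax.card_sz hF, hq, hab]
    have h1 : 8 * k ^ 2 - 1 = t := by omega
    rw [h1]
    ring
  have p2 : ∀ {x : ℕ}, Nat.Coprime x (8 * k) → Nat.Coprime x ((8 * k ^ 2) ^ 2) := by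
    intro x hx
    have h1 : (8 * k ^ 2) ^ 2 ∣ (8 * k) ^ 4 := ⟨64, by ring⟩
    exact (hx.pow_right 4).coprime_dvd_right h1
  have hfac : ∀ {A B E : ℕ}, Nat.card S = A * B * E → A.Coprime B → A.Coprime E → B.Coprime E → A * B ∣ charDegree χ →
      1 < A → 1 < B → ¬ OneZero χ := fun h1 h2 h3 h4 h5 h6 h7 =>
    not_of_coprime hχ h1 h2 h3 h4 ((Dvd.intro _ rfl).trans h5) ((Dvd.intro_left _ rfl).trans h5) h6 h7
  have hdeg := (H678.SuzGraph.mem_charDegrees hm hF he k t a b hk ht ha hb (charDegree χ)).1 ⟨⟨χ, hχ⟩, rfl⟩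
  rcases hdeg with h | h | h | h | h | h
  · -- the principal character
    rintro ⟨x, hx, -⟩
    have h1 : χ 1 = 1 := by
      rw [← H686.CharKit.charDegree_cast (Characters.Core.isIrr_isCharacter hχ), h, Nat.cast_one]
    obtain ⟨φ, hφ⟩ := Characters.Linear.exists_hom_of_isIrrCharacter hχ h1
    rw [hφ] at hx
    exact (φ x).ne_zero hx
  · -- Steinberg
    obtain ⟨e⟩ := he
    obtain ⟨-, s, -, hs4, -⟩ := H381.SzSpec.exists_five (F := F) (m := m) hF
    have hs : orderOf (e.symm s) = 4 := by rw [MulEquiv.orderOf_eq, hs4]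
    have hs2 : orderOf (e.symm s ^ 2) = 2 := by
      rw [orderOf_pow_of_dvd (by norm_num) (by rw [hs]; norm_num), hs]
    have hA : Nat.card S = (8 * k ^ 2) ^ 2 * (t * (a * b)) := by rw [hcard]; ring
    have hAC : Nat.Coprime ((8 * k ^ 2) ^ 2) (t * (a * b)) :=
      Nat.Coprime.mul_right (p2 ct).symm (Nat.Coprime.mul_right (p2 ca).symm (p2 cb).symm)
    have hAd : (8 * k ^ 2) ^ 2 ∣ charDegree χ := ⟨1, by rw [h]; ring⟩
    have h2A : 2 ∣ (8 * k ^ 2) ^ 2 := ⟨32 * k ^ 4, by ring⟩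
    exact not_of_two (zero_of_factor hχ hA hAC hAd Nat.prime_two h2A (x := e.symm s) (by rw [hs]; norm_num))
      (zero_of_factor hχ hA hAC hAd Nat.prime_two h2A (x := e.symm s ^ 2) (by rw [hs2])) (by rw [hs, hs2]; norm_num)
  · refine hfac (A := a) (B := b) (E := (8 * k ^ 2) ^ 2 * t) (by rw [hcard]; ring) cab
      (Nat.Coprime.mul_right (p2 ca) cta.symm) (Nat.Coprime.mul_right (p2 cb) ctb.symm) (by rw [hab, h]) (by omega) (by omega)
  · refine hfac (A := t) (B := a) (E := (8 * k ^ 2) ^ 2 * b) (by rw [hcard]; ring) cta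
      (Nat.Coprime.mul_right (p2 ct) ctb) (Nat.Coprime.mul_right (p2 ca) cab) (by rw [h]) (by omega) (by omega)
  · refine hfac (A := t) (B := b) (E := (8 * k ^ 2) ^ 2 * a) (by rw [hcard]; ring) ctb
      (Nat.Coprime.mul_right (p2 ct) cta) (Nat.Coprime.mul_right (p2 cb) cab.symm) (by rw [h]) (by omega) (by omega)
  · -- `2 k (q - 1)`
    have hA : Nat.card S = t * ((8 * k ^ 2) ^ 2 * (a * b)) := by rw [hcard]; ring
    have hAC : Nat.Coprime t ((8 * k ^ 2) ^ 2 * (a * b)) := Nat.Coprime.mul_right (p2 ct) ctab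
    have hAd : t ∣ charDegree χ := by rw [h]; exact Dvd.intro _ rfl
    rcases exists_r hm (ht.trans hq.symm) with ⟨r, s, hr, hs, hrs, hrt, hst⟩ | ⟨r, hr, hrt, hr3⟩
    · exact not_of_factors hχ hA hAC hA hAC hAd hAd hr hs hrs hrt hst
    · obtain ⟨z, hz⟩ := exists_order (G := S) hr (by rw [hA]; exact dvd_mul_of_dvd_left hrt _)
      have hz0 := zero_of_factor hχ hA hAC hAd hr hrt (x := z) (by rw [hz])
      have h3 : ¬ r - 1 ∣ Nat.card S := by
        intro h1
        have h2 := hr3.trans h1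
        rw [hcard] at h2
        have h4 : (8 * k ^ 2) % 3 = 2 := by
          rw [← hq, pow_succ, pow_mul, Nat.mul_mod, Nat.pow_mod]
          norm_num
        have h5 : (8 * k ^ 2) ^ 2 % 3 = 1 := by rw [Nat.pow_mod, h4]
        have h6 : t % 3 = 1 := by (clear * - ht h4; omega)
        have h7 : a * b % 3 = 2 := by
          rw [hab, show 64 * k ^ 4 = (8 * k ^ 2) ^ 2 by ring]
          (clear * - h5; omega)
        rcases (Nat.Prime.dvd_mul Nat.prime_three).1 h2 with h8 | h8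
        · rcases (Nat.Prime.dvd_mul Nat.prime_three).1 h8 with h9 | h9 <;> (clear * - h5 h9 h6; omega)
        · (clear * - h7 h8; omega)
      have h4 : ∃ y ∈ Subgroup.zpowers z, orderOf y = r ∧ ¬ IsConj z y := by
        by_contra hcon
        push Not at hcon
        exact h3 (sub_one_dvd hr hz hcon)
      obtain ⟨y, -, hy, hzy⟩ := h4
      exact not_of_nconj hz0 (zero_of_factor hχ hA hAC hAd hr hrt (x := y) (by rw [hy])) hzy

end Cfsg.Agent.H224.OZ
end

-- part: H289/OZ/Tits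
section
/-!
# One vanishing class: the Tits group (helper289, S4842)

The sieve leaves the degrees 12, 40, 64, 90, 144, 480, 768.  The Sylow 5-subgroups are elementary abelian of order 25, all
elements of order 5 are conjugate with centralizers of order 50: the value `k` of `χ` at these elements satisfies
`χ(1) + 24 k ≡ 0 (mod 25)` and, by the excess inequality, `4 (k² - 1) ≤ 50`.
-/

set_option autoImplicit false
set_option maxRecDepth 100000

open Cfsg Cfsg.Agent.Characters Cfsg.Agent.H732.VZ Cfsg.Agent.H604.OZ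

namespace Cfsg.Agent.H289.OZ

universe u v

/-! ### the elements of order five -/

/-- the facts on the elements of order five -/
structure F5 (G : Type u) [Group G] : Prop where
  conj : ∀ a b : G, orderOf a = 5 → orderOf b = 5 → IsConj a b
  ex : ∃ P : Subgroup G, Nat.card P = 25 ∧ ∀ a ∈ P, a ^ 5 = 1

theorem F5.congr {G : Type u} {H : Type v} [Group G] [Group H] (e : G ≃* H) (h : F5 H) : F5 G where
  conj a b ha hb := (H730.OZ.isConj_map_iff e a b).1 (h.conj _ _ (by rw [e.orderOf_eq, ha]) (by rw [e.orderOf_eq, hb]))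
  ex := by
    obtain ⟨P, hP, hP5⟩ := h.ex
    refine ⟨P.comap e.toMonoidHom, ?_, fun a ha => ?_⟩
    · rw [← hP]
      have h1 : P.comap e.toMonoidHom = P.map e.symm.toMonoidHom := by
        ext a
        constructor
        · intro ha
          exact ⟨e a, ha, e.symm_apply_apply a⟩
        · rintro ⟨b, hb, rfl⟩
          show e (e.symm b) ∈ P
          rwa [e.apply_symm_apply]
      rw [h1]
      exact Subgroup.card_map_of_injective e.symm.injective
    · have h1 := hP5 _ ha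
      apply e.injective
      rw [map_pow, map_one]
      exact h1

open Cfsg.Agent.Omega.TwoF.Tits Cfsg.Agent.Omega.TwoF.Scalar Cfsg.Agent.Omega.TwoF.Orb
  Cfsg.Agent.ChevalleyStructure.Tits.Main Cfsg.Agent.CpAutTits

theorem f5_of_hyp {G : Type u} [Group G] [Finite G] {P : Subgroup G} (h : Hyp P) : F5 G where
  conj _ _ ha hb := isConj_iff.2 (h.exists_conj ha hb)
  ex := ⟨P, h.cardP, h.exp⟩

theorem f5_C {L' : Type} [Group L'] (X : Subgroup L') (e : C ≃* ↥X)
    (hten : ∀ y : ↥X, orderOf y = 5 → ∀ i, orderOf i = 2 → i * y = y * i →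
      Nat.card ↥(Subgroup.centralizer ({y} : Set ↥X) ⊓ Subgroup.centralizer ({i} : Set ↥X)) = 10)
    (hex : ∃ y i : ↥X, orderOf y = 5 ∧ orderOf i = 2 ∧ i * y = y * i) : F5 C := by
  have h := Row.hyp_of_ten (G := C) e hten hex
  exact f5_of_hyp (Fus.hyp h.1 h.2)

theorem f5_aux {L : Type*} [Group L] (K K' : Subgroup L) (hK : K = K') {L' : Type} [Group L'] (X : Subgroup L')
    (e : Nonempty (↥(_root_.commutator K) ≃* ↥X))
    (hten : ∀ y : ↥X, orderOf y = 5 → ∀ i, orderOf i = 2 → i * y = y * i →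
      Nat.card ↥(Subgroup.centralizer ({y} : Set ↥X) ⊓ Subgroup.centralizer ({i} : Set ↥X)) = 10)
    (hex : ∃ y i : ↥X, orderOf y = 5 ∧ orderOf i = 2 ∧ i * y = y * i)
    (h : ↥(_root_.commutator K') ≃* ↥X →
      (∀ y : ↥X, orderOf y = 5 → ∀ i, orderOf i = 2 → i * y = y * i →
        Nat.card ↥(Subgroup.centralizer ({y} : Set ↥X) ⊓ Subgroup.centralizer ({i} : Set ↥X)) = 10) →
      (∃ y i : ↥X, orderOf y = 5 ∧ orderOf i = 2 ∧ i * y = y * i) → F5 ↥(_root_.commutator K')) :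
    F5 ↥(_root_.commutator K) := by
  subst hK
  obtain ⟨e⟩ := e
  exact h e hten hex

theorem ex_TT : ∃ y i : ↥Cfsg.Agent.TitsK.TT, orderOf y = 5 ∧ orderOf i = 2 ∧ i * y = y * i :=
  ⟨Ten.facts.xT, Ten.facts.zT, Ten.facts.order_x, Ten.facts.order_z, Ten.facts.comm_zx⟩

theorem f5_titsGroup : F5 Cfsg.Lie.TitsGroup :=
  f5_aux (Cfsg.Lie.twistedF4 (ZMod 2) 1) _
    Cfsg.Agent.ChevalleyStructure.Tits.Main.T0_eq_H0 Cfsg.Agent.TitsK.TT
    Cfsg.Agent.TitsK.exists_equiv Ten.facts.ten ex_TT (f5_C Cfsg.Agent.TitsK.TT)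

theorem transp {X : Type*} [Group X] (K : Subgroup X) {G : Type*} [Group G] (e : Nonempty (G ≃* _root_.commutator K))
    (h : F5 ↥(_root_.commutator K)) : F5 G := by
  obtain ⟨e⟩ := e
  exact h.congr e

theorem f5_tits {S : Type u} [Group S] (h : Lie.IsoTits S) : F5 S := transp _ h f5_titsGroup

/-! ### the value at the elements of order five -/

theorem sum_five {G : Type u} [Group G] [Finite G] (F : F5 G) (χ : IrrCharacter G) {y : G} (hy : orderOf y = 5)
    {k : ℤ} (hk : (χ : G → ℂ) y = k) : ∃ m : ℕ, (charDegree (χ : G → ℂ) : ℤ) + 24 * k = 25 * m := by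
  classical
  obtain ⟨P, hP, hP5⟩ := F.ex
  have := Fintype.ofFinite P
  obtain ⟨m, hm⟩ := SmallSimple.BrauerTypesBasic.exists_mult P (Core.isIrr_isCharacter χ.2)
  refine ⟨m, ?_⟩
  have h1 : ∀ p : P, (χ : G → ℂ) p = (if p = 1 then (charDegree (χ : G → ℂ) : ℂ) - k else 0) + k := by
    intro p
    by_cases hp : p = 1
    · rw [if_pos hp, hp]
      rw [sub_add_cancel, H686.CharKit.charDegree_irr χ]
      rfl
    · rw [if_neg hp, zero_add, ← hk]
      have h5 : orderOf (p : G) = 5 := by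
        have : Fact (Nat.Prime 5) := ⟨by norm_num⟩
        refine orderOf_eq_prime (hP5 p p.2) fun h => hp (Subtype.ext h)
      obtain ⟨c, hc⟩ := isConj_iff.1 (F.conj y p hy h5)
      rw [← hc]
      exact (Core.isIrr_isClassFunction χ.2) y c
  rw [Finset.sum_congr rfl fun p _ => h1 p, Finset.sum_add_distrib, Finset.sum_ite_eq' Finset.univ (1 : P),
    if_pos (Finset.mem_univ _), Finset.sum_const, Finset.card_univ, ← Nat.card_eq_fintype_card, hP, nsmul_eq_mul] at hm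
  have h2 : (((charDegree (χ : G → ℂ) : ℤ) + 24 * k : ℤ) : ℂ) = ((25 * m : ℤ) : ℂ) := by
    push_cast
    push_cast at hm
    rw [← hm]
    ring
  exact_mod_cast h2

/-- **S4842, the Tits group.** -/
theorem row_tits {S : Type u} [Group S] [Finite S] (hs : IsSimpleGroup S) (h : Lie.IsoTits S) : H730.OZ.Row S := by
  have hN : Nat.card S = 17971200 := Cfsg.Agent.NotCT.Orders.tits h
  have h50 := (Cfsg.Agent.CpAutTits.Row.out h).cent
  have F := f5_tits h
  refine row_of fun χ x h1 => ?_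
  have h4 : 4 ≤ cent x := four_le_cent h1 (by rw [hN]; norm_num) (by rw [hN]; norm_num)
  have hiso : ∀ r ∈ [13], charDegree (χ : S → ℂ) % r = 0 ∨
      charDegree (χ : S → ℂ) % r = 1 ∨ charDegree (χ : S → ℂ) % r = r - 1 := by
    intro r hr
    simp only [List.mem_cons, List.not_mem_nil, or_false] at hr
    subst hr
    exact H672.OZ.iso_mod h1 (by norm_num) (by norm_num) (by rw [hN]; norm_num) (by rw [hN]; norm_num) (by rw [hN]; norm_num)
      (fun y hy => Cfsg.Agent.H547.SelfCent.tits h hs (Cfsg.Agent.H393.Iso.na_tits h) hy) h4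
  have hm := H672.OZ.mem_of_sieve h1 hN (l := [(2,11),(3,3),(5,2),(13,1)]) (by decide +kernel)
    (by
      intro x hx
      simp only [List.mem_cons, List.not_mem_nil, or_false] at hx
      rcases hx with rfl | rfl | rfl | rfl <;> norm_num)
    (by decide +kernel) h4 hiso (D := [12, 40, 64, 90, 144, 480, 768]) (by decide +kernel)
  have : Fact (Nat.Prime 5) := ⟨by norm_num⟩
  obtain ⟨y, hy⟩ := exists_prime_orderOf_dvd_card' (G := S) 5 (by rw [hN]; norm_num)
  have hrat : ∀ m : ℕ, m.Coprime (Nat.card S) → IsConj (y ^ m) y := fun m hm =>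
    F.conj _ _ (by rw [Nat.Coprime.orderOf_pow (Nat.Coprime.coprime_dvd_left (orderOf_dvd_natCard y) hm.symm), hy]) hy
  obtain ⟨k, hk⟩ := H849.OZ.rat (χ := χ) hrat
  obtain ⟨m, hm25⟩ := sum_five F χ hy hk
  have hk3 : ¬ IsConj x y → k.natAbs ≤ 3 := by
    intro hx
    have h2 := H849.OZ.one_class h1 hrat hk hx (n := k.natAbs) (Int.natAbs_dvd.2 dvd_rfl)
    have h3 : cent y = 50 := h50 y hy
    rw [h3] at h2
    by_contra hlt
    have h5 : 4 ≤ k.natAbs := by omega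
    have h6 : 15 ≤ k.natAbs ^ 2 - 1 := by
      have : 16 ≤ k.natAbs ^ 2 := by nlinarith only [hlt]
      omega
    have h7 := Nat.mul_le_mul h4 h6
    omega
  have hk4 : k.natAbs ≤ 3 := by
    by_cases hx : IsConj x y
    · have h2 : (χ : S → ℂ) y = 0 := by
        obtain ⟨c, hc⟩ := isConj_iff.1 hx
        rw [← hc, (Core.isIrr_isClassFunction χ.2) x c]
        exact h1.zero
      rw [hk] at h2
      have h3 : k = 0 := by exact_mod_cast h2
      rw [h3]
      norm_num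
    · exact hk3 hx
  generalize charDegree (χ : S → ℂ) = d at hm hm25
  simp only [List.mem_cons, List.not_mem_nil, or_false] at hm
  omega

end Cfsg.Agent.H289.OZ
end

-- part: H654/OZ/Deg
section
/-!
# S4842, row `²F₄(q)`: the degree of a character with `dim V^B = 1` (helper654)
-/

set_option autoImplicit false
set_option linter.unusedSectionVars false

namespace Cfsg.Agent.H654.OZ

open Cfsg Module Cfsg.Agent.H985.VZ Cfsg.Agent.SplitTwo.ZS
open Cfsg.Agent.KFacts.TwF4 Cfsg.Agent.KFacts.TwF4.Arc Cfsg.Agent.KFacts.TwF4.SylU Cfsg.Agent.KFacts.TwF4.TorEx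
open Cfsg.Agent.KFacts.TwF4.Full Cfsg.Agent.KFacts.TwF4.Irr
open Cfsg.Agent.H42.Deg.F4 Cfsg.Agent.H628.Sq.TwFNorm Cfsg.Agent.H628.Sq.TwFHC
open Cfsg.Agent.H42.Deg.F4B (PB)

universe u v

section words

variable {Y : Type*} [Group Y]

theorem alt_inv {a b : Y} (ha : a⁻¹ = a) (hb : b⁻¹ = b) : ∀ l : ℕ, l ≤ 8 →
    (alt a b l)⁻¹ = if l % 2 = 0 then alt b a l else alt a b l := by
  intro l hl
  interval_cases l <;> simp [alt, ha, hb, mul_assoc]

theorem cal_even (c d : ℂ) : ∀ l : ℕ, l ≤ 8 → l % 2 = 0 → cal c d l = cal d c l := by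
  intro l hl h
  interval_cases l <;> simp_all only [cal, _root_.zero_le, _root_.Nat.zero_mod, _root_.Nat.one_le_ofNat, _root_.Nat.mod_succ, _root_.one_ne_zero, _root_.Nat.reduceLeDiff, _root_.Nat.mod_self, _root_.mul_one, _root_.Nat.reduceMod, _root_.Std.le_refl] <;> ring

end words

variable {F : Type*} [Field F] {σ : F →+* F} {G : Type u} [Group G] (S : Full σ G) [Finite F] [Fintype G]
  {V : Type v} [AddCommGroup V] [Module ℂ V] [FiniteDimensional ℂ V] {ρ : Representation ℂ G V}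

/-- **the degree formula** -/
theorem deg_formula [ρ.IsIrreducible] (hF : ∃ c : Fˣ, c ≠ 1) (hG : Nat.card G = Nat.card F ^ 12 * (Nat.card F - 1) *
    (Nat.card F ^ 3 + 1) * (Nat.card F ^ 4 - 1) * (Nat.card F ^ 6 + 1)) (h1 : finrank ℂ (fx ρ (BB S)) = 1) :
    ∃ c d : ℂ, (c = 1 ∨ c = -(Nat.card F : ℂ)⁻¹) ∧ (d = 1 ∨ d = -((Nat.card F ^ 2 : ℕ) : ℂ)⁻¹) ∧
      (((Nat.card F - 1) ^ 2 * Nat.card F ^ 12 : ℕ) : ℂ) * ((1 + (Nat.card F : ℂ) * c ^ 2) *
        (1 + (Nat.card F : ℂ) ^ 2 * d ^ 2) * (1 + ((Nat.card F : ℂ) * c ^ 2) * ((Nat.card F : ℂ) ^ 2 * d ^ 2) +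
          (((Nat.card F : ℂ) * c ^ 2) * ((Nat.card F : ℂ) ^ 2 * d ^ 2)) ^ 2 +
          (((Nat.card F : ℂ) * c ^ 2) * ((Nat.card F : ℂ) ^ 2 * d ^ 2)) ^ 3)) * (finrank ℂ V : ℂ) = Nat.card G := by
  classical
  have R := r2 S hF
  obtain ⟨v, hv0, hv⟩ := finrank_eq_one_iff'.1 h1
  have hl : ∀ u ∈ fx ρ (BB S), ∃ a : ℂ, u = a • (v : V) := by
    intro u hu
    obtain ⟨a, ha⟩ := hv ⟨u, hu⟩
    exact ⟨a, (congrArg Subtype.val ha).symm⟩
  have hv0' : (v : V) ≠ 0 := fun h => hv0 (Subtype.ext h)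
  obtain ⟨c, hc, hc'⟩ : ∃ c : ℂ, (c = 1 ∨ c = -(Nat.card F : ℂ)⁻¹) ∧ av ρ (BB S) (ρ S.n1 v) = c • (v : V) := by
    rcases coef R.BP₁ R.n₁P R.bru₁ R.q₁0 R.c₁ v.2 hl with ⟨-, h⟩ | h
    · exact ⟨1, Or.inl rfl, h⟩
    · exact ⟨_, Or.inr rfl, h⟩
  obtain ⟨d, hd, hd'⟩ : ∃ d : ℂ, (d = 1 ∨ d = -((Nat.card F ^ 2 : ℕ) : ℂ)⁻¹) ∧
      av ρ (BB S) (ρ S.n2 v) = d • (v : V) := by
    rcases coef R.BP₂ R.n₂P R.bru₂ R.q₂0 R.c₂ v.2 hl with ⟨-, h⟩ | h
    · exact ⟨1, Or.inl rfl, h⟩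
    · exact ⟨_, Or.inr rfl, h⟩
  refine ⟨c, d, hc, hd, ?_⟩
  have hw := R.words v.2 hc' hd'
  -- values on the words and their inverses
  have w1 : ∀ i, av ρ (BB S) (ρ (wd S i) v) = fv c d i • (v : V) := by
    rintro ⟨b, l, hl⟩
    cases b
    · exact (hw (l + 1) (by omega)).1
    · exact (hw l (by omega)).2
  have w2 : ∀ i, av ρ (BB S) (ρ (wd S i)⁻¹ v) = fv c d i • (v : V) := by
    rintro ⟨b, l, hl⟩
    cases b
    · show av ρ (BB S) (ρ (alt S.n1 S.n2 (l + 1))⁻¹ v) = cal c d (l + 1) • (v : V)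
      rw [alt_inv (Arc.n1_inv S) (Arc.n2_inv S) _ (by omega)]
      split_ifs with h
      · rw [(hw (l + 1) (by omega)).2, cal_even c d _ (by omega) h]
      · exact (hw (l + 1) (by omega)).1
    · show av ρ (BB S) (ρ (alt S.n2 S.n1 l)⁻¹ v) = cal d c l • (v : V)
      rw [alt_inv (Arc.n2_inv S) (Arc.n1_inv S) _ (by omega)]
      split_ifs with h
      · rw [(hw l (by omega)).1, cal_even c d _ (by omega) h]
      · exact (hw l (by omega)).2
  choose idx u hu b hb hg using cell S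
  have e1 : ∀ g, av ρ (BB S) (ρ g v) = fv c d (idx g) • (v : V) := by
    intro g
    conv_lhs => rw [hg g]
    rw [map_mul, map_mul, Module.End.mul_apply, Module.End.mul_apply, v.2 _ (hb g), av_rho ρ (Jd_le S _ (hu g)), w1]
  have e2 : ∀ g, fv c d (idx g⁻¹) = fv c d (idx g) := by
    intro g
    have h2 := e1 g⁻¹
    have h3 : g⁻¹ = (b g)⁻¹ * ((wd S (idx g))⁻¹ * (u g)⁻¹) := by
      conv_lhs => rw [hg g]
      group
    rw [h3, map_mul, map_mul, Module.End.mul_apply, Module.End.mul_apply, v.2 _ (inv_mem (Jd_le S _ (hu g))),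
      av_rho ρ (inv_mem (hb g)), w2, ← h3] at h2
    have h4 : (fv c d (idx g) - fv c d (idx g⁻¹)) • (v : V) = 0 := by rw [sub_smul, h2, sub_self]
    exact (sub_eq_zero.1 ((smul_eq_zero.1 h4).resolve_right hv0')).symm
  have h2 := degree h1 v.2 hv0' e1
  have h3 : ∑ g : G, fv c d (idx g) * fv c d (idx g⁻¹) = ∑ g : G, (fun i => fv c d i * fv c d i) (idx g) :=
    Finset.sum_congr rfl fun g _ => by rw [e2]
  rw [h3, sum_cells (BB S) (Jd S) (wd S) idx (fun g => ⟨u g, hu g, b g, hb g, hg g⟩) (order S hG)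
    (fun i => fv c d i * fv c d i)] at h2
  rw [← h2]
  congr 1
  rw [← poinc, Finset.mul_sum]
  refine Finset.sum_congr rfl fun i _ => ?_
  rw [(card_J18 S).2.2.2 i, card_BB]
  unfold ee
  push_cast
  ring

end Cfsg.Agent.H654.OZ
end

-- part: H654/OZ/TwF4
section
/-!
# S4842: the row of `²F₄(q)`, `q > 2` (helper654)
-/

set_option autoImplicit false
set_option linter.unusedSectionVars false

open scoped ComplexConjugate

namespace Cfsg.Agent.H654.OZ

open Cfsg Cfsg.Agent.SplitTwo Cfsg.Agent.SplitTwo.ZS Cfsg.Agent.TitsThree.RankTwoZ Cfsg.Agent.SplitTwo.RootSysZ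
open Cfsg.Agent.KFacts.TwF4 Cfsg.Agent.KFacts.TwF4.Arc Cfsg.Agent.KFacts.TwF4.SylU Cfsg.Agent.KFacts.TwF4.TorEx
open Cfsg.Agent.KFacts.TwF4.Full Cfsg.Agent.KFacts.TwF4.Irr
open Cfsg.Agent.H42.Deg.F4 Cfsg.Agent.H628.Sq.TwFNorm Cfsg.Agent.H628.Sq.TwFHC Cfsg.Agent.H628.Sq.Lin
open Cfsg.Agent.OddOrderCharacters.Clifford Cfsg.Agent.Characters
open Cfsg.Agent.H42.Deg.F4B (PB L4_le_PB)
open Cfsg.Agent.H985.VZ Module

universe u

section lin

variable {F : Type*} [Field F] {σ : F →+* F} {G : Type u} [Group G] (S : Full σ G) [Finite F] [Finite G]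

/-- a reflection fixing `θ` -/
theorem exists_fix {n w : G} {e : ℤ} (hn : Re S n e) (hw : Dih S w) {X : Subgroup G} (θ : BB S →* ℂˣ)
    (h : ∀ c ∈ S.T ⊔ X, ∀ (h1 : w⁻¹ * c * w ∈ BB S) (h2 : w⁻¹ * (n⁻¹ * c * n) * w ∈ BB S), n⁻¹ * c * n ∈ S.T ⊔ X →
      θ ⟨_, h2⟩ = θ ⟨_, h1⟩) :
    ∃ y c, Re S y c ∧ (c - e) % 2 = 0 ∧ ∀ t (ht : t ∈ S.T), ∃ h' : y⁻¹ * t * y ∈ S.T,
      θ ⟨_, T_le_BB S h'⟩ = θ ⟨t, T_le_BB S ht⟩ := by
  have key : ∀ c, Re S (w⁻¹ * n * w) c → ∀ t (ht : t ∈ S.T), ∃ h' : (w⁻¹ * n * w)⁻¹ * t * (w⁻¹ * n * w) ∈ S.T,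
      θ ⟨_, T_le_BB S h'⟩ = θ ⟨t, T_le_BB S ht⟩ := by
    intro c hc t ht
    have hwi : Dih S w⁻¹ := by
      obtain ⟨a, ha | ha⟩ := hw
      · exact ⟨_, Or.inl ha.inv⟩
      · exact ⟨_, Or.inr ha.inv⟩
    have h1 : w * t * w⁻¹ ∈ S.T := by
      have := hwi.tor ht
      rwa [inv_inv] at this
    have h2 : n⁻¹ * (w * t * w⁻¹) * n ∈ S.T := hn.tor h1
    have h3 : w⁻¹ * (n⁻¹ * (w * t * w⁻¹) * n) * w ∈ S.T := hw.tor h2
    have e1 : w⁻¹ * (w * t * w⁻¹) * w = t := by group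
    have e2 : w⁻¹ * (n⁻¹ * (w * t * w⁻¹) * n) * w = (w⁻¹ * n * w)⁻¹ * t * (w⁻¹ * n * w) := by group
    have h4 : w⁻¹ * (w * t * w⁻¹) * w ∈ BB S := by rw [e1]; exact T_le_BB S ht
    have h5 := h _ (Subgroup.mem_sup_left h1) h4 (T_le_BB S h3) (Subgroup.mem_sup_left h2)
    refine ⟨e2 ▸ h3, ?_⟩
    have f1 : (⟨_, h4⟩ : BB S) = ⟨t, T_le_BB S ht⟩ := Subtype.ext e1
    have f2 : (⟨_, T_le_BB S h3⟩ : BB S) = ⟨_, T_le_BB S (e2 ▸ h3 : (w⁻¹ * n * w)⁻¹ * t * (w⁻¹ * n * w) ∈ S.T)⟩ :=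
      Subtype.ext e2
    rw [f1, f2] at h5
    exact h5
  obtain ⟨a, ha | ha⟩ := hw
  · have h1 : Re S (w⁻¹ * n * w) (-a + e - a) := (ha.inv.mulRe hn).mulRo ha
    exact ⟨_, _, h1, by omega, key _ h1⟩
  · have h1 : Re S (w⁻¹ * n * w) (a - e + a) := (ha.inv.mul hn).mulRe ha
    exact ⟨_, _, h1, by omega, key _ h1⟩

/-- **a linear character fixed by reflections of both types is trivial** -/
theorem lin_one (θ : BB S →* ℂˣ) (hU : ∀ u (hu : u ∈ J S.XZ 1 8), θ ⟨u, J_le_BB S hu⟩ = 1) {y y' : G} {c c' : ℤ}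
    (hy : Re S y c) (hy' : Re S y' c') (hc : (c - 5) % 2 = 0) (hc' : (c' - 4) % 2 = 0)
    (h : ∀ t (ht : t ∈ S.T), ∃ h' : y⁻¹ * t * y ∈ S.T, θ ⟨_, T_le_BB S h'⟩ = θ ⟨t, T_le_BB S ht⟩)
    (h' : ∀ t (ht : t ∈ S.T), ∃ h' : y'⁻¹ * t * y' ∈ S.T, θ ⟨_, T_le_BB S h'⟩ = θ ⟨t, T_le_BB S ht⟩) : θ = 1 := by
  let P : G → Prop := fun g => ∀ t (ht : t ∈ S.T), ∃ h' : g⁻¹ * t * g ∈ S.T,
    θ ⟨_, T_le_BB S h'⟩ = θ ⟨t, T_le_BB S ht⟩
  have hP : ∀ g h, P g → P h → P (g * h) := by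
    intro g h hg hh t ht
    obtain ⟨a1, a2⟩ := hg t ht
    obtain ⟨b1, b2⟩ := hh _ a1
    have e : (g * h)⁻¹ * t * (g * h) = h⁻¹ * (g⁻¹ * t * g) * h := by group
    have e1 : (g * h)⁻¹ * t * (g * h) ∈ S.T := e ▸ b1
    refine ⟨e1, ?_⟩
    rw [← a2, ← b2]
    congr 1
    exact Subtype.ext e
  have p1 : P (y * y') := hP _ _ h h'
  have p2 := hP _ _ p1 p1
  have p3 := hP _ _ p2 p2
  have r1 : Ro S (y * y') (c - c') := hy.mul hy'
  have r2 := r1.mul r1
  have r3 := r2.mul r2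
  have r4 : Ro S (y * y' * (y * y') * (y * y' * (y * y'))) 4 := r3.cong (by
    obtain ⟨j, hj⟩ : ∃ j, c - c' = 2 * j + 1 := ⟨(c - c') / 2, by omega⟩
    rw [hj, ZMod.intCast_eq_intCast_iff_dvd_sub]
    exact ⟨-j, by push_cast; ring⟩)
  have hsq : ∀ t (ht : t ∈ S.T), θ ⟨t, T_le_BB S ht⟩ * θ ⟨t, T_le_BB S ht⟩ = 1 := by
    intro t ht
    obtain ⟨a1, a2⟩ := p3 t ht
    have e : (⟨_, T_le_BB S a1⟩ : BB S) = ⟨t, T_le_BB S ht⟩⁻¹ :=
      Subtype.ext (Cfsg.Agent.H42.Deg.F4St.inv_of_rot8 S r4 ht)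
    rw [e, map_inv] at a2
    nth_rw 1 [← a2]
    exact inv_mul_cancel _
  have hT : ∀ t (ht : t ∈ S.T), θ ⟨t, T_le_BB S ht⟩ = 1 := by
    intro t ht
    obtain ⟨c, d, rfl⟩ := S.mem_T.1 ht
    obtain ⟨a, ha⟩ := exists_sq S c
    obtain ⟨b, hb⟩ := exists_sq S d
    have hs : S.h a b ∈ S.T := S.mem_T.2 ⟨a, b, rfl⟩
    have e : (⟨S.h c d, T_le_BB S ht⟩ : BB S) = ⟨S.h a b, T_le_BB S hs⟩ * ⟨S.h a b, T_le_BB S hs⟩ :=
      Subtype.ext (by
        show S.h c d = S.h a b * S.h a b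
        rw [S.h_mul, ha, hb])
    rw [e, map_mul]
    exact hsq _ hs
  refine MonoidHom.ext fun ⟨x, hx⟩ => ?_
  obtain ⟨t, ht, u, hu, rfl⟩ := BB_form hx
  have e : (⟨t * u, hx⟩ : BB S) = ⟨t, T_le_BB S ht⟩ * ⟨u, J_le_BB S hu⟩ := rfl
  rw [e, map_mul, hT t ht, hU _ hu, one_mul]
  rfl

end lin

/-! ### arithmetic -/

/-- two primes -/
theorem two_primes' {k m : ℕ} (hm : 1 ≤ m) (hk : k + 1 = 2 ^ (2 * m + 1)) :
    ∃ r s : ℕ, r.Prime ∧ s.Prime ∧ r ≠ s ∧ r ∣ (k + 1) ^ 6 + 1 ∧ s ∣ (k + 1) ^ 3 + 1 ∧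
      (¬ r ∣ k + 1 ∧ ¬ r ∣ k ∧ ¬ r ∣ k + 2 ∧ ¬ r ∣ (k + 1) ^ 2 + 1) ∧
      (¬ s ∣ k + 1 ∧ ¬ s ∣ k ∧ ¬ s ∣ k + 2 ∧ ¬ s ∣ (k + 1) ^ 2 + 1) := by
  obtain ⟨h3, h4, -, h2⟩ := three_dvd hm
  rw [← hk] at h3 h4 h2
  obtain ⟨j, hj⟩ : ∃ j, k = 3 * j + 1 := ⟨k / 3, by omega⟩
  have hk7 : 7 ≤ k := by
    have : 2 ^ 3 ≤ 2 ^ (2 * m + 1) := Nat.pow_le_pow_right (by norm_num) (by omega)
    omega
  have hj1 : 1 ≤ j := by omega
  obtain ⟨r, hr, hr1⟩ := Nat.exists_prime_and_dvd (n := (k + 1) ^ 4 - (k + 1) ^ 2 + 1) (by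
    rw [Cfsg.Agent.H628.Sq.TwFMain.eqN]
    have : 0 < (k + 1) ^ 2 * (k * (k + 2)) := by positivity
    omega)
  obtain ⟨a1, a2, a3, a4⟩ := Cfsg.Agent.H628.Sq.TwFMain.prime_aux hr hr1
  rw [← pow_two] at a4
  rw [Cfsg.Agent.H628.Sq.TwFMain.eqN] at hr1
  obtain ⟨s, hs, hs1⟩ := Nat.exists_prime_and_dvd (n := 3 * j ^ 2 + 3 * j + 1) (by (clear * - hj1; omega))
  have hs3 : s ≠ 3 := by
    rintro rfl
    (clear * - hs1; omega)
  have hs2 : s ∣ k * (k + 1) + 1 := by
    have e : k * (k + 1) + 1 = 3 * (3 * j ^ 2 + 3 * j + 1) := by rw [hj]; ring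
    rw [e]
    exact hs1.mul_left 3
  have b1 : ¬ s ∣ k + 1 := fun h => hs.one_lt.ne' (Nat.dvd_one.1 ((Nat.dvd_add_right (h.mul_left _)).1 hs2))
  have b2 : ¬ s ∣ k := fun h => hs.one_lt.ne' (Nat.dvd_one.1 ((Nat.dvd_add_right (h.mul_right _)).1 hs2))
  have b3 : ¬ s ∣ k + 2 := by
    intro h
    have e : k * (k + 1) + 1 + (k + 2) = (k + 2) * k + 3 := by ring
    have h5 : s ∣ (k + 2) * k + 3 := e ▸ dvd_add hs2 h
    exact hs3 ((Nat.prime_dvd_prime_iff_eq hs Nat.prime_three).1 ((Nat.dvd_add_right (h.mul_right _)).1 h5))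
  have b4 : ¬ s ∣ (k + 1) ^ 2 + 1 := by
    intro h
    have e : (k + 1) ^ 2 + 1 = (k * (k + 1) + 1) + (k + 1) := by ring
    rw [e] at h
    exact b1 ((Nat.dvd_add_right hs2).1 h)
  refine ⟨r, s, hr, hs, ?_, ?_, ?_, ⟨a1, a2, a3, a4⟩, b1, b2, b3, b4⟩
  · rintro rfl
    have e : (k + 1) ^ 2 * (k * (k + 2)) + 1 + 2 * k = (k * (k + 1) + 1) * (k ^ 2 + 3 * k + 1) := by ring
    have h5 : r ∣ 2 * k := (Nat.dvd_add_right hr1).1 (e ▸ hs2.mul_right _)
    rcases hr.dvd_mul.1 h5 with h | h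
    · have h6 := (Nat.prime_dvd_prime_iff_eq hr Nat.prime_two).1 h
      subst h6
      exact a1 h2
    · exact a2 h
  · have e : (k + 1) ^ 6 + 1 = ((k + 1) ^ 2 + 1) * ((k + 1) ^ 2 * (k * (k + 2)) + 1) := by ring
    rw [e]
    exact hr1.mul_left _
  · have e : (k + 1) ^ 3 + 1 = (k + 2) * (k * (k + 1) + 1) := by ring
    rw [e]
    exact hs2.mul_left _

/-- zeros at the `r`-singular elements -/
theorem zero_of {G : Type u} [Group G] [Finite G] {V : Type*} [AddCommGroup V] [Module ℂ V] [FiniteDimensional ℂ V]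
    (ρ : Representation ℂ G V) [ρ.IsIrreducible] {M : ℕ} (h : M * finrank ℂ V = Nat.card G) {r : ℕ} (hr : r.Prime)
    (hrM : ¬ r ∣ M) {x : G} (hx : r ∣ orderOf x) : ρ.character x = 0 := by
  refine Cfsg.Agent.S0165.result ρ r ((Nat.card G).factorization r) hr (Nat.ordProj_dvd _ _)
    (Nat.pow_succ_factorization_not_dvd Nat.card_pos.ne' hr) ?_ x hx
  have h1 : r ^ (Nat.card G).factorization r ∣ M * finrank ℂ V := by
    rw [h]
    exact Nat.ordProj_dvd _ _
  exact (Nat.Coprime.pow_left _ ((Nat.Prime.coprime_iff_not_dvd hr).2 hrM)).dvd_of_dvd_mul_left h1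

/-- the arithmetic of the four cases -/
theorem four_cases {k n N : ℕ} {c d : ℂ} (hk : 0 < k) (hN : N = (k + 1) ^ 12 * k * ((k + 1) ^ 3 + 1) *
    ((k + 1) ^ 4 - 1) * ((k + 1) ^ 6 + 1)) (hc : c = 1 ∨ c = -((k + 1 : ℕ) : ℂ)⁻¹)
    (hd : d = 1 ∨ d = -(((k + 1) ^ 2 : ℕ) : ℂ)⁻¹)
    (h : ((k ^ 2 * (k + 1) ^ 12 : ℕ) : ℂ) * ((1 + ((k + 1 : ℕ) : ℂ) * c ^ 2) * (1 + ((k + 1 : ℕ) : ℂ) ^ 2 * d ^ 2) *
        (1 + (((k + 1 : ℕ) : ℂ) * c ^ 2) * (((k + 1 : ℕ) : ℂ) ^ 2 * d ^ 2) +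
          ((((k + 1 : ℕ) : ℂ) * c ^ 2) * (((k + 1 : ℕ) : ℂ) ^ 2 * d ^ 2)) ^ 2 +
          ((((k + 1 : ℕ) : ℂ) * c ^ 2) * (((k + 1 : ℕ) : ℂ) ^ 2 * d ^ 2)) ^ 3)) * (n : ℂ) = N) :
    n = 1 ∨
      (k ^ 2 * (k + 1) ^ 7 * (k + 2) * ((k + 1) ^ 2 + 1) * ((k + 2) * ((k + 1) ^ 2 + 1))) * n = N ∨
      (k ^ 2 * (k + 1) ^ 11 * (k + 2) * ((k + 1) ^ 2 + 1) * ((k + 2) * ((k + 1) ^ 2 + 1))) * n = N ∨
      (k ^ 2 * (k + 2) * ((k + 1) ^ 2 + 1) * (((k + 1) ^ 3 + 1) * ((k + 1) ^ 6 + 1))) * n = N := by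
  have hq : ((k + 1 : ℕ) : ℂ) ≠ 0 := by exact_mod_cast (Nat.succ_ne_zero k)
  have hq' : (k : ℂ) + 1 ≠ 0 := by exact_mod_cast hq
  rcases hc with rfl | rfl <;> rcases hd with rfl | rfl
  · left
    have e1 : ((k ^ 2 * (k + 1) ^ 12 * ((1 + (k + 1)) * (1 + (k + 1) ^ 2) * (1 + (k + 1) ^ 3 + (k + 1) ^ 6 +
        (k + 1) ^ 9)) * n : ℕ) : ℂ) = N := by
      rw [← h]
      push_cast
      ring
    have e2 : k ^ 2 * (k + 1) ^ 12 * ((1 + (k + 1)) * (1 + (k + 1) ^ 2) * (1 + (k + 1) ^ 3 + (k + 1) ^ 6 +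
        (k + 1) ^ 9)) * n = N := by exact_mod_cast e1
    have e3 : N = k ^ 2 * (k + 1) ^ 12 * ((1 + (k + 1)) * (1 + (k + 1) ^ 2) * (1 + (k + 1) ^ 3 + (k + 1) ^ 6 +
        (k + 1) ^ 9)) := by
      rw [hN, Cfsg.Agent.H42.Deg.F4Two.eq4]
      ring
    rw [e3] at e2
    have e4 : 0 < k ^ 2 * (k + 1) ^ 12 * ((1 + (k + 1)) * (1 + (k + 1) ^ 2) * (1 + (k + 1) ^ 3 + (k + 1) ^ 6 +
        (k + 1) ^ 9)) := by positivity
    exact Nat.eq_of_mul_eq_mul_left e4 (e2.trans (mul_one _).symm)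
  · right; left
    have e1 : (((k ^ 2 * (k + 1) ^ 7 * (k + 2) * ((k + 1) ^ 2 + 1) * ((k + 2) * ((k + 1) ^ 2 + 1))) * n : ℕ) : ℂ) = N := by
      rw [← h]
      push_cast
      field_simp
      ring
    exact_mod_cast e1
  · right; right; left
    have e1 : (((k ^ 2 * (k + 1) ^ 11 * (k + 2) * ((k + 1) ^ 2 + 1) * ((k + 2) * ((k + 1) ^ 2 + 1))) * n : ℕ) : ℂ) =
        N := by
      rw [← h]
      push_cast
      field_simp
      ring
    exact_mod_cast e1
  · right; right; right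
    have e1 : (((k ^ 2 * (k + 2) * ((k + 1) ^ 2 + 1) * (((k + 1) ^ 3 + 1) * ((k + 1) ^ 6 + 1))) * n : ℕ) : ℂ) = N := by
      rw [← h]
      push_cast
      field_simp
      ring
    exact_mod_cast e1

section main

variable {F : Type*} [Field F] {σ : F →+* F} {G : Type u} [Group G] (S : Full σ G) [Finite F] [Finite G]

theorem e_orders : orderOf (S.e 0 0 1) = 2 ∧ orderOf (S.e 0 1 0) = 4 := by
  have : Fact (Nat.Prime 2) := ⟨Nat.prime_two⟩
  have h2 := S.two
  have h11 : (1 : F) + 1 = 0 := by rw [one_add_one_eq_two]; exact h2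
  have o2 : orderOf (S.e 0 0 1) = 2 := by
    refine orderOf_eq_prime ?_ ?_
    · rw [pow_two, S.e_mul, zero_mul, add_zero, add_zero, h11, S.e_zero]
    · intro h
      exact one_ne_zero (S.e_eq_one h).2
  have sq : S.e 0 1 0 ^ 2 = S.e 0 0 1 := by
    rw [pow_two, S.e_mul, map_one, mul_one, add_zero, zero_add, h11]
  refine ⟨o2, ?_⟩
  have h3 : orderOf (S.e 0 1 0) = 2 ^ (1 + 1) := by
    refine orderOf_eq_prime_pow ?_ ?_
    · rw [pow_one, sq]
      intro h
      exact one_ne_zero (S.e_eq_one h).2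
    · rw [pow_succ, pow_mul, pow_one, sq, ← o2, pow_orderOf_eq_one]
  exact h3

include S in
/-- **no irreducible character of `²F₄(q)` vanishes on exactly one class** -/
theorem none {m : ℕ} (hm : 1 ≤ m) (hq : Nat.card F = 2 ^ (2 * m + 1)) (hF : ∃ c : Fˣ, c ≠ 1)
    (hG : Nat.card G = Nat.card F ^ 12 * (Nat.card F - 1) * (Nat.card F ^ 3 + 1) * (Nat.card F ^ 4 - 1) *
      (Nat.card F ^ 6 + 1)) {χ : G → ℂ} (hχ : IsIrrCharacter G χ) (h : H730.OZ.OneZero χ) : False := by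
  classical
  let _ : Fintype G := Fintype.ofFinite G
  have := Fintype.ofFinite (PP S)
  have := Fintype.ofFinite (PB S)
  have := Fintype.ofFinite (BB S)
  have := Fintype.ofFinite (J S.XZ 2 8)
  have := Fintype.ofFinite (J S.XZ 1 7)
  have := Fintype.ofFinite (J S.XZ 1 8)
  have := Fintype.ofFinite ↥(S.T ⊔ S.LO)
  have := Fintype.ofFinite ↥(S.T ⊔ L4 S)
  have := Fintype.ofFinite ((S.T ⊔ S.XZ 1).subgroupOf (S.T ⊔ S.LO))
  have := Fintype.ofFinite ((S.T ⊔ S.XZ 8).subgroupOf (S.T ⊔ L4 S))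
  obtain ⟨x₀, hx0, hx1⟩ := h
  -- zeros have the same order
  have same : ∀ x y, χ x = 0 → χ y = 0 → orderOf x = orderOf y := by
    have key : ∀ x, χ x = 0 → orderOf x = orderOf x₀ := by
      intro x hx
      obtain ⟨c, hc⟩ := isConj_iff.1 (hx1 x hx)
      rw [← hc]
      exact (MulAut.conj c).orderOf_eq x₀
    intro x y hx hy
    rw [key x hx, key y hy]
  have D1 := frP S
  have D2 := frB S hF
  obtain ⟨z, b, b', hz, hzf, k1, k1', ho, hoz, h3⟩ := el_one S hm hq hF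
  obtain ⟨y, c, c', hy, hyf, k2, k2', ho', hoy, h3'⟩ := el_two S hm hq hF
  -- elements vanish if there are no fixed vectors
  have van : ∀ (P R : Subgroup G) [Fintype R], (∀ g ∈ P, ∀ r ∈ R, g * r * g⁻¹ ∈ R) → ∑ r : R, χ r = 0 →
      ∀ t ∈ P, (∀ r ∈ R, t * r = r * t → r = 1) → χ t = 0 := by
    intro P R _ hn h0 t ht hf
    obtain ⟨n, ρ, hρ, rfl⟩ := hχ
    refine H710.Cuspidal.zero_of_regular ρ R h0 (x := t) (fun u => ⟨hn t ht u, fun hu => ?_⟩) hf
    have := hn t⁻¹ (inv_mem ht) _ hu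
    rwa [show t⁻¹ * (t * u * t⁻¹) * t⁻¹⁻¹ = u by group] at this
  have h28 : ∑ r : J S.XZ 2 8, χ r ≠ 0 := by
    intro h0
    have a1 := van (PP S) (J S.XZ 2 8) D1.norm h0 z (T_le_PP S hz) fun r hr hc =>
      hzf r hr (by rw [hc, mul_inv_cancel_right])
    have a2 := van (PP S) (J S.XZ 2 8) D1.norm h0 (z * b) (D1.LP k1.mem) k1.free
    exact hoz (same _ _ a2 a1)
  have h17 : ∑ r : J S.XZ 1 7, χ r ≠ 0 := by
    intro h0
    have a1 := van (PB S) (J S.XZ 1 7) D2.norm h0 y (Cfsg.Agent.H42.Deg.F4B.T_le_PB S hy) fun r hr hc =>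
      hyf r hr (by rw [hc, mul_inv_cancel_right])
    have a2 := van (PB S) (J S.XZ 1 7) D2.norm h0 (y * c) (D2.LP k2.mem) k2.free
    exact hoy (same _ _ a2 a1)
  have h18 := sum_J_ne S hχ h28 h17
  -- a linear character
  have hrc : IsCharacter (BB S) fun g : BB S => χ g := Core.isCharacter_comp (BB S).subtype (Core.isIrr_isCharacter hχ)
  let U' : Subgroup (BB S) := (J S.XZ 1 8).subgroupOf (BB S)
  have := Fintype.ofFinite U'
  obtain ⟨θ, hθU, hθ⟩ := exists_lin hrc U' (fun g u hu => by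
      rw [Subgroup.mem_subgroupOf] at hu ⊢
      exact BB_norm S g.2 hu) (fun h k => by
      obtain ⟨u, hu, e⟩ := BB_comm S h.2 k.2
      exact ⟨⟨u, J_le_BB S hu⟩, Subgroup.mem_subgroupOf.2 hu, Subtype.ext e⟩) (by
      intro h0
      apply h18
      rw [← h0]
      exact Fintype.sum_equiv (Subgroup.subgroupOfEquivOfLe (J_le_BB S)).toEquiv.symm _ _ fun k => rfl)
  have hθU' : ∀ u (hu : u ∈ J S.XZ 1 8), θ ⟨u, J_le_BB S hu⟩ = 1 := fun u hu => hθU _ (Subgroup.mem_subgroupOf.2 hu)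
  -- elliptic elements with nonzero values
  obtain ⟨t1, ht1, hχ1⟩ : ∃ t, El (J S.XZ 2 8) (S.T ⊔ S.LO) (S.T ⊔ S.XZ 1) t ∧ χ t ≠ 0 := by
    by_cases h0 : χ (z * b) = 0
    · exact ⟨_, k1', fun h1 => ho (same _ _ h0 h1)⟩
    · exact ⟨_, k1, h0⟩
  obtain ⟨t2, ht2, hχ2⟩ : ∃ t, El (J S.XZ 1 7) (S.T ⊔ L4 S) (S.T ⊔ S.XZ 8) t ∧ χ t ≠ 0 := by
    by_cases h0 : χ (y * c) = 0
    · exact ⟨_, k2', fun h1 => ho' (same _ _ h0 h1)⟩
    · exact ⟨_, k2, h0⟩
  obtain ⟨w, hw, hwc⟩ := D1.lin_fix ht1 hχ θ hθ hχ1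
  obtain ⟨w', hw', hwc'⟩ := D2.lin_fix ht2 hχ θ hθ hχ2
  obtain ⟨y1, c1, r1, r1', f1⟩ := exists_fix S (re1 S) hw θ hwc
  obtain ⟨y2, c2, r2', r2'', f2⟩ := exists_fix S (re2 S) hw' θ hwc'
  have hθ1 : θ = 1 := lin_one S θ hθU' r1 r2' r1' r2'' f1 f2
  have hB : ∑ b : BB S, χ b ≠ 0 := by
    intro h0
    apply hθ
    rw [hθ1, classInner_apply]
    have e : ∑ g : BB S, χ g * conj ((((1 : BB S →* ℂˣ) g : ℂˣ)) : ℂ) = ∑ b : BB S, χ b :=
      Finset.sum_congr rfl fun g _ => by simp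
    rw [e, h0, mul_zero]
  -- the values
  have v1 := D1.val_one k1 hχ hB
  have v1' := D1.val_one k1' hχ hB
  have v2 := D2.val_one k2 hχ hB
  have v2' := D2.val_one k2' hχ hB
  obtain ⟨n, ρ, hρ, rfl⟩ := hχ
  have R := r2 S hF
  have hdim : ∀ (H : Subgroup G) [Fintype H], (finrank ℂ (fx ρ H) : ℂ) = (Nat.card H : ℂ)⁻¹ * ∑ h : H, ρ.character h := by
    intro H _
    have := trace_el_eq ρ H 1
    rw [eig_one] at this
    rw [this]
    congr 1
    exact Finset.sum_congr rfl fun x _ => by simp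
  have n1 : 2 * finrank ℂ (fx ρ (PP S)) ≠ finrank ℂ (fx ρ (BB S)) := by
    intro h0
    have h1 : 2 * (finrank ℂ (fx ρ (PP S)) : ℂ) = finrank ℂ (fx ρ (BB S)) := by exact_mod_cast h0
    rw [← hdim, ← hdim, h1, sub_self] at v1 v1'
    exact ho (same _ _ v1 v1')
  have hd2 : ¬ 2 ≤ finrank ℂ (fx ρ (BB S)) := fun h2 => n1 (R.half h2).1
  have hd0 : finrank ℂ (fx ρ (BB S)) ≠ 0 := by
    intro h0
    have h1 := hdim (BB S)
    rw [h0, Nat.cast_zero, eq_comm] at h1
    exact hB ((mul_eq_zero.1 h1).resolve_left (inv_ne_zero card_ne_zero'))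
  have hd1 : finrank ℂ (fx ρ (BB S)) = 1 := by omega
  obtain ⟨c, d, hc, hd, hform⟩ := deg_formula S (ρ := ρ) hF hG hd1
  obtain ⟨k, hk⟩ : ∃ k, Nat.card F = k + 1 := ⟨Nat.card F - 1, by have : 0 < Nat.card F := Nat.card_pos; omega⟩
  have hk7 : 0 < k := by
    have : 2 ^ 3 ≤ 2 ^ (2 * m + 1) := Nat.pow_le_pow_right (by norm_num) (by omega)
    omega
  rw [hk] at hG hc hd hform
  rw [Nat.add_sub_cancel] at hG hform
  have hkm : k + 1 = 2 ^ (2 * m + 1) := by rw [← hk, hq]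
  obtain ⟨r, s, hr, hs, hrs, hrd, hsd, ⟨ra, rb, rc, rd⟩, sa, sb, sc, sd⟩ := two_primes' hm hkm
  -- the mixed cases
  have mixed : ∀ e : ℕ, (k ^ 2 * (k + 1) ^ e * (k + 2) * ((k + 1) ^ 2 + 1) * ((k + 2) * ((k + 1) ^ 2 + 1))) *
      finrank ℂ (Fin n → ℂ) = Nat.card G → False := by
    intro e he
    have nd : ∀ r : ℕ, r.Prime → ¬ r ∣ k + 1 → ¬ r ∣ k → ¬ r ∣ k + 2 → ¬ r ∣ (k + 1) ^ 2 + 1 →
        ¬ r ∣ k ^ 2 * (k + 1) ^ e * (k + 2) * ((k + 1) ^ 2 + 1) * ((k + 2) * ((k + 1) ^ 2 + 1)) := by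
      intro r hr a1 a2 a3 a4 h
      simp only [hr.dvd_mul] at h
      rcases h with (((h | h) | h) | h) | h | h
      · exact a2 (hr.dvd_of_dvd_pow h)
      · exact a1 (hr.dvd_of_dvd_pow h)
      · exact a3 h
      · exact a4 h
      · exact a3 h
      · exact a4 h
    have : Fact r.Prime := ⟨hr⟩
    have : Fact s.Prime := ⟨hs⟩
    obtain ⟨x, hx⟩ := exists_prime_orderOf_dvd_card' (G := G) r (by
      rw [hG]
      exact hrd.mul_left _)
    obtain ⟨x', hx'⟩ := exists_prime_orderOf_dvd_card' (G := G) s (by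
      rw [hG]
      exact ((hsd.mul_left _).mul_right _).mul_right _)
    have z1 := zero_of ρ he hr (nd r hr ra rb rc rd) (x := x) (by rw [hx])
    have z2 := zero_of ρ he hs (nd s hs sa sb sc sd) (x := x') (by rw [hx'])
    have := same _ _ z1 z2
    rw [hx, hx'] at this
    exact hrs this
  rcases four_cases hk7 hG hc hd hform with h | h | h | h
  · -- the trivial character
    have h1 : ρ.character 1 = 1 := by rw [Representation.char_one, h, Nat.cast_one]
    obtain ⟨f, hf⟩ := Characters.Linear.exists_hom_of_isIrrCharacter (Core.isIrrCharacter_of_rep ρ hρ) h1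
    rw [hf] at hx0
    exact (f x₀).ne_zero hx0
  · exact mixed 7 h
  · exact mixed 11 h
  · -- the Steinberg character
    have h2k : 2 ∣ k + 1 := by rw [hkm]; exact dvd_pow_self 2 (by omega)
    have nd : ¬ 2 ∣ k ^ 2 * (k + 2) * ((k + 1) ^ 2 + 1) * (((k + 1) ^ 3 + 1) * ((k + 1) ^ 6 + 1)) := by
      intro h
      have o1 : ∀ e : ℕ, ¬ 2 ∣ (k + 1) ^ (e + 1) + 1 := by
        intro e h4
        have : 2 ∣ (k + 1) ^ (e + 1) := h2k.trans (dvd_pow_self _ (by omega))
        omega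
      simp only [Nat.prime_two.dvd_mul] at h
      rcases h with ((h | h) | h) | h | h
      · have := Nat.prime_two.dvd_of_dvd_pow h
        omega
      · omega
      · exact o1 1 h
      · exact o1 2 h
      · exact o1 5 h
    obtain ⟨o2, o4⟩ := e_orders S
    have z1 := zero_of ρ h Nat.prime_two nd (x := S.e 0 0 1) (by rw [o2])
    have z2 := zero_of ρ h Nat.prime_two nd (x := S.e 0 1 0) (by rw [o4]; norm_num)
    have := same _ _ z1 z2
    rw [o2, o4] at this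
    omega

end main

/-- **the row of `²F₄(q)`, `q > 2`, of S4842** -/
theorem row_TwF4 {S : Type u} [Group S] [Finite S] (h : Lie.Iso2F4 S) : H730.OZ.Row S := by
  intro χ hχ hz
  exfalso
  obtain ⟨K, _, _, m, hm, hK, ⟨e⟩⟩ := h
  have hch := Cfsg.Agent.ChevalleyStructure.TwF4.Twisted.charP_two hK
  have hfin : Finite ↥(Lie.twistedF4 K (2 ^ m)) := Finite.of_equiv S e.toEquiv
  obtain ⟨φ, hφ⟩ := Cfsg.Agent.ChevalleyStructure.TwF4.TwistedFix.exists_rln hK
  have hcard := Cfsg.Agent.S1068.result hK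
  have hq : Nat.card K = 2 ^ (2 * m + 1) := by rw [Nat.card_eq_fintype_card, hK]
  refine none (Cfsg.Agent.KFacts.TwF4.Inst.full hK hφ) hm hq (exists_unit hm hK) ?_
    (Core.isIrr_comp e.symm.toMonoidHom e.symm.surjective hχ) ?_
  · rw [hcard, hq]
  · obtain ⟨x, hx, hx'⟩ := hz
    refine ⟨e x, ?_, fun y hy => ?_⟩
    · show χ (e.symm (e x)) = 0
      rw [e.symm_apply_apply, hx]
    · obtain ⟨c, hc⟩ := isConj_iff.1 (hx' (e.symm y) hy)
      exact isConj_iff.2 ⟨e c, by rw [← map_inv, ← map_mul, ← map_mul, hc, e.apply_symm_apply]⟩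

end Cfsg.Agent.H654.OZ
end

-- part: H730/OZ/MainOf
section
/-!
# S4842: all rows, modulo the structure `Open` (helper730)
-/

set_option autoImplicit false

open Cfsg

namespace Cfsg.Agent.H730.OZ

universe u

/-- The rows not yet landed. -/
structure Open : Prop where
  om3 : ∀ {S : Type u} [Group S] [Finite S], IsSimpleGroup S → ∀ {F : Type} [Field F] [Fintype F],
      5 ≤ Fintype.card F → Odd (Fintype.card F) → (S ≃* POmega F (quadFormOdd 3 F)) → Row S
  om4 : ∀ {S : Type u} [Group S] [Finite S], IsSimpleGroup S → ∀ {F : Type} [Field F] [Fintype F],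
      Odd (Fintype.card F) → (S ≃* POmega F (quadFormOdd 4 F)) → Row S

/-- All rows. -/
theorem rows_of (H : Open.{u}) : Rows.{u} where
  alt := fun _ h => row_alternating h
  psl := fun hs h => Cfsg.Agent.H670.OneZ.row_isPSL_all hs h
  psp := fun hs h => Cfsg.Agent.H366.OZ.row_isPSp hs h
  psu := fun hs h => Cfsg.Agent.H876.OZU.row_isPSU hs h
  oodd := fun hs h => row_isPOmegaOdd_rest
    (fun hs' _ _ _ hF e => Cfsg.Agent.H328.OZ.OSevenThree.row_o7_3 hs' hF e) H.om3 H.om4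
    (fun hs' _ _ _ _ hn ho e => Cfsg.Agent.H205.OZ.row_omega_odd hs' hn ho e) hs h
  oplus := fun hs h => Cfsg.Agent.H128.OZ.row_pomegaPlus hs h
  ominus := fun hs h => Cfsg.Agent.H530.OZ.row_isPOmegaMinus hs h
  g2 := fun hs h => Cfsg.Agent.H355.GT.row_g2 hs h
  f4 := fun hs h => Cfsg.Agent.H320.OZ.row_F4 hs h
  e6 := fun hs h => row_e6 hs h
  e7 := fun hs h => row_e7 hs h
  e8 := fun hs h => Cfsg.Agent.H448.Van.row_e8 hs h
  te6 := fun hs h => row_te6 hs h
  td4 := fun hs h => Cfsg.Agent.H866.OZ.row_td4 hs h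
  sz := fun hs h => Cfsg.Agent.H224.OZ.row_sz hs h
  ree := fun _ h => Cfsg.Agent.H956.OZ.Ree.row_ree h
  tf4 := fun _ h => Cfsg.Agent.H654.OZ.row_TwF4 h
  tits := fun hs h => Cfsg.Agent.H289.OZ.row_tits hs h
  spor := fun hs h => Cfsg.Agent.H849.OZ.RowSpor.row_sporadic (fun _ _ _ _ => Cfsg.Agent.S0000.result) hs h

end Cfsg.Agent.H730.OZ
end
end

-- part: H730/OZ/Main
section
set_option linter.all false

/-!
# S4842: all rows (helper730)
-/

set_option autoImplicit false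

open Cfsg

namespace Cfsg.Agent.H730.OZ

universe u

theorem all_rows : Rows.{u} := rows_of
  { om3 := fun hs _ _ _ hF ho e => Cfsg.Agent.H639.OZ.row_om7 hs hF ho e
    om4 := fun hs _ _ _ ho e => Cfsg.Agent.H639.OZ.row_om9 hs ho e }

end Cfsg.Agent.H730.OZ
end
end

-- part: S4842
section
set_option linter.all false

set_option autoImplicit false
open Cfsg

namespace Cfsg.Agent.S4842

/-- Let G be a finite non-abelian simple group with an irreducible character χ that vanishes on exactly one conjugacy class. Then either G is isomorphic to PSL₂(5) and χ has degree 3, or G is isomorphic to PSL₂(7) and χ has degree 3, or G is isomorphic to PSL₂(2^a) for some a ≥ 2 and χ has degree 2^a. -/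
theorem result {G : Type*} [Group G] [Finite G] [IsSimpleGroup G] (hna : ¬ IsMulCommutative G) (χ : Cfsg.IrrCharacter G) (hχ : Nat.card {C : ConjClasses G // ∃ g ∈ C.carrier, (χ : G → ℂ) g = 0} = 1) :
    (∃ (F : Type) (_ : Field F) (_ : Fintype F), Fintype.card F = 5 ∧ Nonempty (G ≃* Matrix.ProjectiveSpecialLinearGroup (Fin 2) F) ∧ Cfsg.charDegree (χ : G → ℂ) = 3) ∨
      (∃ (F : Type) (_ : Field F) (_ : Fintype F), Fintype.card F = 7 ∧ Nonempty (G ≃* Matrix.ProjectiveSpecialLinearGroup (Fin 2) F) ∧ Cfsg.charDegree (χ : G → ℂ) = 3) ∨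
      (∃ (F : Type) (_ : Field F) (_ : Fintype F) (a : ℕ), 2 ≤ a ∧ Fintype.card F = 2 ^ a ∧ Nonempty (G ≃* Matrix.ProjectiveSpecialLinearGroup (Fin 2) F) ∧ Cfsg.charDegree (χ : G → ℂ) = 2 ^ a) := by
  exact Cfsg.Agent.H730.OZ.Row.concl
    (Cfsg.Agent.H730.OZ.row_known Cfsg.Agent.H730.OZ.all_rows inferInstance Cfsg.Agent.S0000.result hna) χ hχ

end Cfsg.Agent.S4842
end
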