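import Mathlib
import Cfsg.Agent.H689.Arith
import Cfsg.Agent.ClassicalGeometry.PSL2Basic
import Cfsg.Agent.S0292
import Cfsg.Agent.S0293
import Cfsg.Agent.S0294
import Cfsg.Agent.LieClassical.OmegaCenter
import Cfsg.Agent.ClassicalGeometry.IsoTransfer
import Cfsg.Agent.ClassicalGeometry.OrthDickson
import Cfsg.Agent.J4M.BitMat
import Cfsg.Agent.ChevalleyStructure.SparseAct
import Cfsg.Prelude.Def_ChevE7
import Cfsg.Agent.H689.ExcSix
import Cfsg.Agent.H689.SporNorm
import Cfsg.Agent.SporadicStructure.DodecadM12
import Cfsg.Agent.Schreier.MTwelve
import Cfsg.Agent.BpSpor.CoThreeCent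
import Cfsg.Agent.SporRec.Co3.Model
import Cfsg.Agent.SporadicRecognition.HSAssemble
import Cfsg.Agent.CoOneType.Thirteen
import Cfsg.Agent.OddHalf.Small.Mathieu
import Cfsg.Agent.H603.SporElim
import Cfsg.Agent.StdG24.Iso6
import Cfsg.Agent.KFacts.J2.Facts
import Cfsg.Agent.Held.HeldCardEq_m3
import Cfsg.Agent.SporadicRecognition.HeldCard
import Cfsg.Agent.CTwoTab.Ru
import Cfsg.Agent.GTwoRows.ON
import Cfsg.Agent.S1170
import Cfsg.Agent.KFacts.HN.Sheet
import Cfsg.Agent.KFacts.HN.PCard
import Cfsg.Agent.H811.SuzCov_mg
import Cfsg.Agent.CpAutSuz.Local
import Cfsg.Prelude.Def_Spor_B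
import Cfsg.Agent.H689.SporCo12
import Cfsg.Agent.BabyM.Instance
import Cfsg.Agent.BabyM.AbsFinal
import Cfsg.Agent.BM.Fi22O_m3
import Cfsg.Agent.Schreier.CoTwoStab
import Cfsg.Prelude.Def_Spor_M
import Cfsg.Agent.Schreier.ChevIso_m3
import Cfsg.Agent.MonsterX.Frames.J8D_m3
import Cfsg.Agent.MonsterX.LinesInst
import Cfsg.Agent.MonsterX.InstanceFinal_m3
import Cfsg.Agent.MonsterX.CertAsm_mg
import Cfsg.Agent.MonsterP.NodesDone
import Cfsg.Agent.BM.KHAll
import Cfsg.Agent.H689.Sp6Two
import Cfsg.Agent.H689.Rat
import Cfsg.Agent.H446.ExtraAct
import Cfsg.Agent.Transfer.TateComplement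
import Cfsg.Agent.Transfer.TausskyTwoGroup
import Cfsg.Agent.H669.Basic
import Cfsg.Prelude.Def_Solvable
import Cfsg.Agent.S0035
import Cfsg.Agent.S0039
import Cfsg.Agent.S0042
import Cfsg.Agent.S0146
import Cfsg.Agent.S0171
import Cfsg.Agent.Solvable.FpfCyclic
import Cfsg.Agent.H678.Codeg
import Cfsg.Agent.S0068
import Cfsg.Agent.SmallSimple.OrderEight
import Cfsg.Agent.S4762
import Cfsg.Statements.S4846
import Cfsg.Agent.S0000
import Cfsg.Agent.FastGrp
import Cfsg.Agent.Prune
set_option linter.all false

section
prune_inst 0x7ff0bcf9afa82ddedfff7e3faed9ddfc3180cfffacdff94bffec61bf2fdf230209c523a509e010fc0e76421410a87803f97eeeffe26bdc7ffffd5ff41ffbee0fe5f7b50851968c340fbc2fff03f07f8e6f3fffffffffffffffffffffffffffbeffbffbfeffff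

-- part: H689/ClaSp_mg
section
prune_inst 0xd0102505150010000004000040001c839300000000080000000400000480cc0000008820b000200800000004003c002811000080420000000a000000011d01800000000000000000000000000000010000000000000000000000000000000000004010000
set_option linter.all false
open scoped Cfsg.Agent.FastGrp

-- part: H689/ClaTwo
section
/-!
# `PSL(2, q)` and `PSp(2m, q)`, `q` odd; `PSL(2, 2^f)`, `PSp(4, 2^f)`
-/

set_option autoImplicit false
set_option linter.unusedSectionVars false

open Cfsg Matrix

namespace Cfsg.Agent.H689

universe u

/-- An automorphism of a group induces one on the quotient by the center. -/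
theorem exists_aut_quotient {L : Type*} [Group L] (α : L ≃* L) :
    ∃ β : (L ⧸ Subgroup.center L) ≃* (L ⧸ Subgroup.center L), ∀ x : L, β (x : L ⧸ Subgroup.center L) =
      ((α x : L) : L ⧸ Subgroup.center L) := by
  refine ⟨QuotientGroup.congr (Subgroup.center L) (Subgroup.center L) α ?_, fun x => rfl⟩
  ext y
  constructor
  · rintro ⟨x, hx, rfl⟩
    rw [SetLike.mem_coe, Subgroup.mem_center_iff] at hx
    rw [Subgroup.mem_center_iff]
    intro g
    obtain ⟨g, rfl⟩ := α.surjective g
    exact (map_mul α g x).symm.trans ((congrArg α (hx g)).trans (map_mul α x g))
  · intro hy
    rw [Subgroup.mem_center_iff] at hy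
    refine ⟨α.symm y, ?_, by simp⟩
    rw [SetLike.mem_coe, Subgroup.mem_center_iff]
    intro g
    apply α.injective
    simpa only [_root_.map_mul, _root_.MulEquiv.apply_symm_apply] using hy (α g)

/-- Nonconjugacy criterion via an automorphism. -/
theorem not_ratl_of_aut {L : Type*} [Group L] (α : L ≃* L) (x : L)
    (h : ∀ g : L, ∀ z ∈ Subgroup.center L, g * x * g⁻¹ * z ≠ α x) :
    ¬ Ratl (L ⧸ Subgroup.center L) := by
  intro hR
  obtain ⟨β, hβ⟩ := exists_aut_quotient α
  obtain ⟨g, hg⟩ := isConj_iff.1 (hR.aut β (x : L ⧸ Subgroup.center L))
  obtain ⟨g, rfl⟩ := QuotientGroup.mk_surjective g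
  rw [hβ] at hg
  have h1 : ((g * x * g⁻¹ : L) : L ⧸ Subgroup.center L) = ((α x : L) : L ⧸ Subgroup.center L) := hg
  rw [QuotientGroup.eq] at h1
  exact h g _ h1 (by group)

theorem exists_nonsquare_unit (F : Type*) [Field F] [Fintype F] (h2 : (2 : F) ≠ 0) :
    ∃ ν : F, ν ≠ 0 ∧ ∀ a : F, a * a ≠ ν := by
  have h : ringChar F ≠ 2 := by
    intro h
    apply h2
    have := ringChar.Nat.cast_ringChar (R := F)
    rw [h] at this
    exact_mod_cast this
  obtain ⟨ν, hν⟩ := FiniteField.exists_nonsquare h
  refine ⟨ν, ?_, ?_⟩
  · rintro rfl
    exact hν (IsSquare.zero)
  · intro a ha
    exact hν ⟨a, ha.symm⟩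

/-- Conjugation of `SL` by an element of `GL`. -/
def slAut {n : ℕ} {F : Type*} [Field F] (d : GL (Fin n) F) :
    _root_.Matrix.SpecialLinearGroup (Fin n) F ≃* _root_.Matrix.SpecialLinearGroup (Fin n) F where
  toFun x := ⟨(d : Matrix (Fin n) (Fin n) F) * x * ((d⁻¹ : GL (Fin n) F) : Matrix (Fin n) (Fin n) F), by
    rw [det_mul, det_mul, x.2, mul_one, ← det_mul, ← Units.val_mul, mul_inv_cancel, Units.val_one,
      det_one]⟩
  invFun x := ⟨((d⁻¹ : GL (Fin n) F) : Matrix (Fin n) (Fin n) F) * x * (d : Matrix (Fin n) (Fin n) F), by
    rw [det_mul, det_mul, x.2, mul_one, ← det_mul, ← Units.val_mul, inv_mul_cancel, Units.val_one,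
      det_one]⟩
  left_inv x := by
    apply Subtype.ext
    show ((d⁻¹ : GL (Fin n) F) : Matrix (Fin n) (Fin n) F) * ((d : Matrix (Fin n) (Fin n) F) *
      (x : Matrix (Fin n) (Fin n) F) * ((d⁻¹ : GL (Fin n) F) : Matrix (Fin n) (Fin n) F)) *
        (d : Matrix (Fin n) (Fin n) F) = x
    have h1 : ((d⁻¹ : GL (Fin n) F) : Matrix (Fin n) (Fin n) F) * (d : Matrix (Fin n) (Fin n) F) = 1 := by
      rw [← Units.val_mul, inv_mul_cancel, Units.val_one]
    rw [show ((d⁻¹ : GL (Fin n) F) : Matrix (Fin n) (Fin n) F) * ((d : Matrix (Fin n) (Fin n) F) *
      (x : Matrix (Fin n) (Fin n) F) * ((d⁻¹ : GL (Fin n) F) : Matrix (Fin n) (Fin n) F)) *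
        (d : Matrix (Fin n) (Fin n) F) = (((d⁻¹ : GL (Fin n) F) : Matrix (Fin n) (Fin n) F) *
          (d : Matrix (Fin n) (Fin n) F)) * x * (((d⁻¹ : GL (Fin n) F) : Matrix (Fin n) (Fin n) F) *
          (d : Matrix (Fin n) (Fin n) F)) by simp only [mul_assoc], h1, one_mul, mul_one]
  right_inv x := by
    apply Subtype.ext
    show (d : Matrix (Fin n) (Fin n) F) * (((d⁻¹ : GL (Fin n) F) : Matrix (Fin n) (Fin n) F) *
      (x : Matrix (Fin n) (Fin n) F) * (d : Matrix (Fin n) (Fin n) F)) *
        ((d⁻¹ : GL (Fin n) F) : Matrix (Fin n) (Fin n) F) = x
    have h1 : (d : Matrix (Fin n) (Fin n) F) * ((d⁻¹ : GL (Fin n) F) : Matrix (Fin n) (Fin n) F) = 1 := by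
      rw [← Units.val_mul, mul_inv_cancel, Units.val_one]
    rw [show (d : Matrix (Fin n) (Fin n) F) * (((d⁻¹ : GL (Fin n) F) : Matrix (Fin n) (Fin n) F) *
      (x : Matrix (Fin n) (Fin n) F) * (d : Matrix (Fin n) (Fin n) F)) *
        ((d⁻¹ : GL (Fin n) F) : Matrix (Fin n) (Fin n) F) = ((d : Matrix (Fin n) (Fin n) F) *
          ((d⁻¹ : GL (Fin n) F) : Matrix (Fin n) (Fin n) F)) * x * ((d : Matrix (Fin n) (Fin n) F) *
          ((d⁻¹ : GL (Fin n) F) : Matrix (Fin n) (Fin n) F)) by simp only [mul_assoc], h1, one_mul,
      mul_one]
  map_mul' x y := by
    apply Subtype.ext
    show (d : Matrix (Fin n) (Fin n) F) * ((x : Matrix (Fin n) (Fin n) F) * y) *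
        ((d⁻¹ : GL (Fin n) F) : Matrix (Fin n) (Fin n) F) =
      ((d : Matrix (Fin n) (Fin n) F) * x * ((d⁻¹ : GL (Fin n) F) : Matrix (Fin n) (Fin n) F)) *
      ((d : Matrix (Fin n) (Fin n) F) * y * ((d⁻¹ : GL (Fin n) F) : Matrix (Fin n) (Fin n) F))
    have h1 : ((d⁻¹ : GL (Fin n) F) : Matrix (Fin n) (Fin n) F) * (d : Matrix (Fin n) (Fin n) F) = 1 := by
      rw [← Units.val_mul, inv_mul_cancel, Units.val_one]
    rw [show ((d : Matrix (Fin n) (Fin n) F) * x * ((d⁻¹ : GL (Fin n) F) : Matrix (Fin n) (Fin n) F)) *
      ((d : Matrix (Fin n) (Fin n) F) * y * ((d⁻¹ : GL (Fin n) F) : Matrix (Fin n) (Fin n) F)) =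
      (d : Matrix (Fin n) (Fin n) F) * x * (((d⁻¹ : GL (Fin n) F) : Matrix (Fin n) (Fin n) F) *
      (d : Matrix (Fin n) (Fin n) F)) * y * ((d⁻¹ : GL (Fin n) F) : Matrix (Fin n) (Fin n) F) by
        simp only [mul_assoc], h1, mul_one]
    simp only [mul_assoc]

theorem coe_slAut {n : ℕ} {F : Type*} [Field F] (d : GL (Fin n) F) (x : _root_.Matrix.SpecialLinearGroup (Fin n) F) :
    ((slAut d x : _root_.Matrix.SpecialLinearGroup (Fin n) F) : Matrix (Fin n) (Fin n) F) =
      (d : Matrix (Fin n) (Fin n) F) * x * ((d⁻¹ : GL (Fin n) F) : Matrix (Fin n) (Fin n) F) := rfl

/-- `PSL 2 q`, `q` odd. -/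
theorem not_ratl_psl_two {F : Type} [Field F] [Fintype F] (h2 : (2 : F) ≠ 0) :
    ¬ Ratl (ProjectiveSpecialLinearGroup (Fin 2) F) := by
  obtain ⟨ν, hν0, hν⟩ := exists_nonsquare_unit F h2
  have hdet : det !![ν, 0; 0, 1] = ν := by rw [det_fin_two_of]; ring
  let d : GL (Fin 2) F := GeneralLinearGroup.mkOfDetNeZero !![ν, 0; 0, 1] (by rw [hdet]; exact hν0)
  let x : _root_.Matrix.SpecialLinearGroup (Fin 2) F := ⟨!![1, 1; 0, 1], by rw [det_fin_two_of]; ring⟩
  refine not_ratl_of_aut (L := _root_.Matrix.SpecialLinearGroup (Fin 2) F) (slAut d) x ?_
  intro g z hz hgz
  have e1 : (slAut d x : Matrix (Fin 2) (Fin 2) F) * (d : Matrix (Fin 2) (Fin 2) F) =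
      (d : Matrix (Fin 2) (Fin 2) F) * x := by
    rw [coe_slAut, mul_assoc, ← Units.val_mul, inv_mul_cancel, Units.val_one, mul_one]
  -- `z` is scalar
  rw [Matrix.SpecialLinearGroup.mem_center_iff] at hz
  obtain ⟨c, hc2, hcz⟩ := hz
  have hc : c ^ 2 = 1 := by simpa only [_root_.sq_eq_one_iff, _root_.Fintype.card_fin] using hc2
  have e2 : (g : Matrix (Fin 2) (Fin 2) F) * x * z * d = (slAut d x : Matrix (Fin 2) (Fin 2) F) * g * d := by
    have h3 : g * x * z = slAut d x * g := by
      have hzc : z * g = g * z := by
        have : z ∈ Subgroup.center (_root_.Matrix.SpecialLinearGroup (Fin 2) F) := by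
          rw [Matrix.SpecialLinearGroup.mem_center_iff]; exact ⟨c, hc2, hcz⟩
        exact ((Subgroup.mem_center_iff.1 this) g).symm
      rw [← hgz]
      calc g * x * z = g * x * (g⁻¹ * (g * z)) := by group
        _ = g * x * g⁻¹ * z * g := by rw [← hzc]; group
    have h4 : (g : Matrix (Fin 2) (Fin 2) F) * x * z = (slAut d x : Matrix (Fin 2) (Fin 2) F) * g :=
      congrArg Subtype.val h3
    rw [h4]
  have hx : (x : Matrix (Fin 2) (Fin 2) F) = !![1, 1; 0, 1] := rfl
  have hd : (d : Matrix (Fin 2) (Fin 2) F) = !![ν, 0; 0, 1] := rfl
  have hdi : (slAut d x : Matrix (Fin 2) (Fin 2) F) = !![1, ν; 0, 1] := by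
    have h5 : (slAut d x : Matrix (Fin 2) (Fin 2) F) * !![ν, 0; 0, 1] = !![1, ν; 0, 1] * !![ν, 0; 0, 1] := by
      rw [← hd, e1, hx, hd]
      ext i j
      (revert i j; simp only [Matrix.mul_apply, Fin.sum_univ_two, _root_.Fin.forall_fin_succ, _root_.Matrix.of_apply, _root_.Matrix.cons_val', _root_.Matrix.cons_val_fin_one, Fin.isValue, _root_.Matrix.cons_val_zero, _root_.Matrix.cons_val_one, _root_.mul_one, _root_.MulZeroClass.mul_zero, _root_.add_zero, _root_.Matrix.cons_val_succ, _root_.zero_add, _root_.forall_const, _root_.one_mul, _root_.and_self, _root_.MulZeroClass.zero_mul, _root_.implies_true])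
    have h6 : IsUnit (!![ν, 0; 0, 1] : Matrix (Fin 2) (Fin 2) F) := by
      rw [isUnit_iff_isUnit_det, hdet]; exact isUnit_iff_ne_zero.2 hν0
    exact h6.mul_right_cancel h5
  have hz' : (z : Matrix (Fin 2) (Fin 2) F) = c • (1 : Matrix (Fin 2) (Fin 2) F) := by
    rw [← hcz]; ext i j; simp [Matrix.scalar_apply, Matrix.diagonal_apply, Matrix.one_apply]
  have e3 : (g : Matrix (Fin 2) (Fin 2) F) * !![1, 1; 0, 1] * (c • (1 : Matrix (Fin 2) (Fin 2) F)) =
      !![1, ν; 0, 1] * (g : Matrix (Fin 2) (Fin 2) F) := by
    have h6 : IsUnit (d : Matrix (Fin 2) (Fin 2) F) := Units.isUnit d
    have h7 := h6.mul_right_cancel e2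
    rw [hx, hz', hdi] at h7
    exact h7
  have hdg : (g : Matrix (Fin 2) (Fin 2) F) 0 0 * (g : Matrix (Fin 2) (Fin 2) F) 1 1 -
      (g : Matrix (Fin 2) (Fin 2) F) 0 1 * (g : Matrix (Fin 2) (Fin 2) F) 1 0 = 1 := by
    rw [← det_fin_two]; exact g.2
  have a00 := congrFun (congrFun e3 0) 0
  have a01 := congrFun (congrFun e3 0) 1
  have a10 := congrFun (congrFun e3 1) 0
  have a11 := congrFun (congrFun e3 1) 1
  simp only [Matrix.mul_apply, Fin.sum_univ_two, Matrix.smul_apply, _root_.Fin.isValue, _root_.Matrix.of_apply, _root_.Matrix.cons_val', _root_.Matrix.cons_val_fin_one, _root_.Matrix.cons_val_zero, _root_.Matrix.cons_val_one, _root_.smul_eq_mul, _root_.mul_one, _root_.MulZeroClass.mul_zero, _root_.add_zero, _root_.Matrix.one_apply_eq, _root_.ne_eq, _root_.one_ne_zero, _root_.not_false_eq_true, _root_.Matrix.one_apply_ne, _root_.one_mul, _root_.zero_ne_one, _root_.zero_add, _root_.MulZeroClass.zero_mul] at a00 a01 a10 a11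
  set a := (g : Matrix (Fin 2) (Fin 2) F) 0 0
  set b := (g : Matrix (Fin 2) (Fin 2) F) 0 1
  set e := (g : Matrix (Fin 2) (Fin 2) F) 1 0
  set f := (g : Matrix (Fin 2) (Fin 2) F) 1 1
  have hc' : (c - 1) * (c + 1) = 0 := by linear_combination hc
  rcases mul_eq_zero.1 hc' with h1 | h1
  · have hc1 : c = 1 := by linear_combination h1
    subst hc1
    have he : ν * e = 0 := by linear_combination -a00
    have he0 : e = 0 := (mul_eq_zero.1 he).resolve_left hν0
    have haf : a * f = 1 := by rw [he0] at hdg; linear_combination hdg
    have ha : a = ν * f := by linear_combination a01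
    have hf0 : f ≠ 0 := by rintro hf; rw [hf, mul_zero] at haf; exact zero_ne_one haf
    apply hν f⁻¹
    have h5 : ν * (f * f) = 1 := by rw [ha] at haf; linear_combination haf
    field_simp
    linear_combination -h5
  · have hc1 : c = -1 := by linear_combination h1
    subst hc1
    have he : (2 : F) * e = 0 := by linear_combination -a10
    have he0 : e = 0 := (mul_eq_zero.1 he).resolve_left h2
    have hf : (2 : F) * f = 0 := by rw [he0] at a11; linear_combination -a11
    have hf0 : f = 0 := (mul_eq_zero.1 hf).resolve_left h2
    rw [he0, hf0] at hdg
    simp at hdg

/-- `PSL 2 q`, `q = 2 ^ f ≥ 4`. -/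
theorem not_orat_psl_two_even {F : Type} [Field F] [Fintype F] [CharP F 2]
    (h4 : 4 ≤ Fintype.card F) : ¬ ORat 2 (ProjectiveSpecialLinearGroup (Fin 2) F) := by
  classical
  obtain ⟨f, -, hf⟩ := FiniteField.card F 2
  set f : ℕ := (f : ℕ) with hfdef
  have hf2 : 2 ≤ f := by
    by_contra hlt
    have : f = 0 ∨ f = 1 := by omega
    rcases this with h | h <;> rw [h] at hf <;> rw [hf] at h4 <;> norm_num at h4
  obtain ⟨r, hr, hr3, hdvd⟩ : ∃ r : ℕ, r.Prime ∧ 3 < r ∧ r ∣ Fintype.card F ^ 2 - 1 := by
    by_cases h3 : f = 3
    · refine ⟨7, by norm_num, by norm_num, ?_⟩
      rw [hf, h3]; norm_num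
    · obtain ⟨r, hr⟩ := exists_ppd (q := 2) (k := 2 * f) le_rfl (by omega) (by omega)
      refine ⟨r, hr.prime, by have := hr.le (by omega); omega, ?_⟩
      rw [hf, ← pow_mul, mul_comm]
      exact (hr.iff _).2 dvd_rfl
  have h20 : (2 : F) = 0 := by exact_mod_cast CharP.cast_eq_zero F 2
  have hrF : (r : F) ≠ 0 := by
    intro h0
    have := (CharP.cast_eq_zero_iff F 2 r).1 h0
    have := (Nat.prime_dvd_prime_iff_eq Nat.prime_two hr).1 this
    omega
  have hcop : r.Coprime 2 := by
    rw [Nat.coprime_primes hr Nat.prime_two]
    omega
  refine not_orat_of_rep (L := _root_.Matrix.SpecialLinearGroup (Fin 2) F)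
    (SpecialLinearGroup.toGL (n := Fin 2) (R := F)) hr hrF ?_ ?_ (Subgroup.center _) le_rfl ?_ ?_ hcop
  · rw [ClassicalGeometry.PSL2Basic.card_SL2]
    exact hdvd.mul_left _
  · have h1 : (SpecialLinearGroup.toGL (n := Fin 2) (R := F)).ker = ⊥ := by
      rw [MonoidHom.ker_eq_bot_iff]
      exact SpecialLinearGroup.toGL_injective
    rw [h1, Subgroup.card_bot]
    exact fun h => hr.one_lt.ne' (Nat.dvd_one.1 h)
  · rw [ClassicalGeometry.PSL2Basic.card_center_SL2_even h20]
    exact fun h => hr.one_lt.ne' (Nat.dvd_one.1 h)
  · rw [Fintype.card_fin]
    omega

/-- `PSp 4 q`, `q = 2 ^ f ≥ 4`. -/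
theorem not_orat_psp_two_even {F : Type} [Field F] [Fintype F] [CharP F 2]
    (h4 : 3 ≤ Fintype.card F) : ¬ ORat 2 (PSp 2 F) := by
  classical
  obtain ⟨f, -, hf⟩ := FiniteField.card F 2
  set f : ℕ := (f : ℕ) with hfdef
  have hf2 : 2 ≤ f := by
    by_contra hlt
    have : f = 0 ∨ f = 1 := by omega
    rcases this with h | h <;> rw [h] at hf <;> rw [hf] at h4 <;> norm_num at h4
  obtain ⟨r, hr⟩ := exists_ppd (q := 2) (k := 4 * f) le_rfl (by omega) (by omega)
  have hrl := hr.le (by omega)
  have hrF : (r : F) ≠ 0 := by
    intro h0
    have := (CharP.cast_eq_zero_iff F 2 r).1 h0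
    have := (Nat.prime_dvd_prime_iff_eq Nat.prime_two hr.prime).1 this
    omega
  have hcop : r.Coprime 2 := by
    rw [Nat.coprime_primes hr.prime Nat.prime_two]
    omega
  refine not_orat_of_rep (L := symplecticGroup (Fin 2) F) (d := Fin 2 ⊕ Fin 2)
    (F := F) ((Units.map ((symplecticGroup (Fin 2) F).subtype)).comp toUnits.toMonoidHom)
    hr.prime hrF ?_ ?_ (Subgroup.center _) le_rfl ?_ ?_ hcop
  · rw [S0245.result (F := F) rfl 2]
    refine Dvd.dvd.mul_left ?_ _
    refine Dvd.dvd.trans ?_ (Finset.dvd_prod_of_mem _ (Finset.mem_range.2 (show 1 < 2 by omega)))
    rw [hf, ← pow_mul, show f * (2 * (1 + 1)) = 4 * f by ring]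
    exact (hr.iff _).2 dvd_rfl
  · have h1 : ((Units.map ((symplecticGroup (Fin 2) F).subtype)).comp
        (toUnits (G := symplecticGroup (Fin 2) F)).toMonoidHom).ker = ⊥ := by
      rw [MonoidHom.ker_eq_bot_iff]
      intro a b hab
      exact Subtype.ext (congrArg (fun u : GL (Fin 2 ⊕ Fin 2) F =>
        (u : Matrix (Fin 2 ⊕ Fin 2) (Fin 2 ⊕ Fin 2) F)) hab)
    rw [h1, Subgroup.card_bot]
    exact fun h => hr.prime.one_lt.ne' (Nat.dvd_one.1 h)
  · rw [S0246.result (F := F) rfl 2 (by omega)]
    intro h
    have h1 := Nat.le_of_dvd (Nat.gcd_pos_of_pos_left _ (by omega)) h
    have h2 := Nat.gcd_le_left (Fintype.card F - 1) (show 0 < 2 by omega)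
    omega
  · rw [Fintype.card_sum, Fintype.card_fin]
    omega

end Cfsg.Agent.H689
end

-- part: H689/ClaSp
section
/-!
# `PSp(2m, q)`, `q` odd
-/

set_option autoImplicit false
set_option linter.unusedSectionVars false

open Cfsg Matrix

namespace Cfsg.Agent.H689

universe u

section

variable {m : ℕ} {F : Type*} [Field F]

/-- the similitude -/
def simD (m : ℕ) (ν : F) : Matrix (Fin m ⊕ Fin m) (Fin m ⊕ Fin m) F := fromBlocks (ν • 1) 0 0 1

theorem simD_mul (ν μ : F) : simD m ν * simD m μ = simD m (ν * μ) := by
  simp only [simD, fromBlocks_multiply, smul_smul, mul_comm, _root_.Algebra.mul_smul_comm, _root_.mul_one, _root_.MulZeroClass.mul_zero, _root_.add_zero, _root_.smul_zero, _root_.zero_add]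

theorem simD_one : simD m (1 : F) = 1 := by
  simp [simD, fromBlocks_one]

theorem simD_J (ν : F) : simD m ν * Matrix.J (Fin m) F * (simD m ν)ᵀ = ν • Matrix.J (Fin m) F := by
  simp only [simD, Matrix.J, fromBlocks_multiply, fromBlocks_transpose, fromBlocks_smul, _root_.MulZeroClass.mul_zero, _root_.mul_one, _root_.add_zero, _root_.mul_neg, _root_.zero_add, _root_.neg_zero, _root_.Matrix.transpose_smul, _root_.Matrix.transpose_one, _root_.Matrix.transpose_zero, _root_.Algebra.mul_smul_comm, _root_.smul_zero, _root_.smul_neg]

theorem sim_mem {ν : F} (hν : ν ≠ 0) {A : Matrix (Fin m ⊕ Fin m) (Fin m ⊕ Fin m) F}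
    (hA : A ∈ symplecticGroup (Fin m) F) : simD m ν * A * simD m ν⁻¹ ∈ symplecticGroup (Fin m) F := by
  rw [SymplecticGroup.mem_iff] at hA ⊢
  calc simD m ν * A * simD m ν⁻¹ * Matrix.J (Fin m) F * (simD m ν * A * simD m ν⁻¹)ᵀ
      = simD m ν * (A * (simD m ν⁻¹ * Matrix.J (Fin m) F * (simD m ν⁻¹)ᵀ) * Aᵀ) * (simD m ν)ᵀ := by
        simp only [transpose_mul, mul_assoc]
    _ = ν⁻¹ • (simD m ν * (A * Matrix.J (Fin m) F * Aᵀ) * (simD m ν)ᵀ) := by
        rw [simD_J]; simp only [Matrix.mul_smul, Matrix.smul_mul]
    _ = Matrix.J (Fin m) F := by
        rw [hA, simD_J, smul_smul, inv_mul_cancel₀ hν, one_smul]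

/-- conjugation by a similitude -/
def spAut {ν : F} (hν : ν ≠ 0) : symplecticGroup (Fin m) F ≃* symplecticGroup (Fin m) F where
  toFun x := ⟨simD m ν * x.1 * simD m ν⁻¹, sim_mem hν x.2⟩
  invFun x := ⟨simD m ν⁻¹ * x.1 * simD m ν, by
    have := sim_mem (m := m) (inv_ne_zero hν) x.2
    rwa [inv_inv] at this⟩
  left_inv x := by
    apply Subtype.ext
    show simD m ν⁻¹ * (simD m ν * x.1 * simD m ν⁻¹) * simD m ν = x.1
    calc simD m ν⁻¹ * (simD m ν * x.1 * simD m ν⁻¹) * simD m ν =
        (simD m ν⁻¹ * simD m ν) * x.1 * (simD m ν⁻¹ * simD m ν) := by simp only [mul_assoc]
      _ = x.1 := by rw [simD_mul, inv_mul_cancel₀ hν, simD_one, one_mul, mul_one]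
  right_inv x := by
    apply Subtype.ext
    show simD m ν * (simD m ν⁻¹ * x.1 * simD m ν) * simD m ν⁻¹ = x.1
    calc simD m ν * (simD m ν⁻¹ * x.1 * simD m ν) * simD m ν⁻¹ =
        (simD m ν * simD m ν⁻¹) * x.1 * (simD m ν * simD m ν⁻¹) := by simp only [mul_assoc]
      _ = x.1 := by rw [simD_mul, mul_inv_cancel₀ hν, simD_one, one_mul, mul_one]
  map_mul' x y := by
    apply Subtype.ext
    show simD m ν * (x.1 * y.1) * simD m ν⁻¹ =
      (simD m ν * x.1 * simD m ν⁻¹) * (simD m ν * y.1 * simD m ν⁻¹)
    calc simD m ν * (x.1 * y.1) * simD m ν⁻¹ =
        simD m ν * x.1 * 1 * y.1 * simD m ν⁻¹ := by simp only [mul_assoc, one_mul]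
      _ = simD m ν * x.1 * (simD m ν⁻¹ * simD m ν) * y.1 * simD m ν⁻¹ := by
          rw [simD_mul, inv_mul_cancel₀ hν, simD_one]
      _ = _ := by simp only [mul_assoc]

/-- a transvection -/
def tvM (m : ℕ) (i : Fin m) (a : F) : Matrix (Fin m ⊕ Fin m) (Fin m ⊕ Fin m) F :=
  fromBlocks 1 (a • diagonal (Pi.single i 1)) 0 1

theorem tvM_mem (i : Fin m) (a : F) : tvM m i a ∈ symplecticGroup (Fin m) F := by
  rw [SymplecticGroup.mem_iff]
  simp [tvM, Matrix.J, fromBlocks_multiply, fromBlocks_transpose, ← smul_add]

theorem tvM_mul (i : Fin m) (a b : F) : tvM m i a * tvM m i b = tvM m i (a + b) := by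
  simp [tvM, fromBlocks_multiply, add_smul, add_comm]

theorem tvM_pow (i : Fin m) (a : F) (k : ℕ) : tvM m i a ^ k = tvM m i (k * a) := by
  induction k with
  | zero => simp only [tvM, fromBlocks_one, _root_.pow_zero, _root_.Nat.cast_zero, _root_.MulZeroClass.zero_mul, _root_.zero_smul]
  | succ k ih => rw [pow_succ, ih, tvM_mul]; congr 1; push_cast; ring

theorem sim_tv (i : Fin m) {ν : F} (hν : ν ≠ 0) (a : F) :
    simD m ν * tvM m i a * simD m ν⁻¹ = tvM m i (ν * a) := by
  simp [simD, tvM, fromBlocks_multiply, smul_smul, hν, mul_comm]

theorem quad_tv (i : Fin m) (a : F) (w : Fin m ⊕ Fin m → F) :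
    w ⬝ᵥ (Matrix.J (Fin m) F * (tvM m i a - 1)) *ᵥ w = a * (w (Sum.inr i) * w (Sum.inr i)) := by
  have h1 : Matrix.J (Fin m) F * (tvM m i a - 1) =
      fromBlocks 0 0 0 (a • diagonal (Pi.single i 1)) := by
    rw [← fromBlocks_one, tvM, sub_eq_add_neg, fromBlocks_neg, fromBlocks_add]
    simp [Matrix.J, fromBlocks_multiply]
  rw [h1, fromBlocks_mulVec]
  simp only [dotProduct, Fintype.sum_sum_type, Matrix.smul_mulVec, mulVec_diagonal, Pi.single_apply, _root_.Matrix.zero_mulVec, _root_.add_zero, _root_.zero_add, _root_.Sum.elim_inl, _root_.Pi.zero_apply, _root_.MulZeroClass.mul_zero, _root_.Finset.sum_const_zero, _root_.Sum.elim_inr, _root_.Pi.smul_apply, _root_.Function.comp_apply, _root_.ite_mul, _root_.one_mul, _root_.MulZeroClass.zero_mul, _root_.smul_eq_mul, _root_.mul_ite, _root_.Finset.sum_ite_eq', _root_.Finset.mem_univ, ↓ _root_.reduceIte]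
  ring

end

/-- `PSp (2m) q`, `q` odd. -/
theorem not_ratl_psp_odd {F : Type} [Field F] [Fintype F] (h2 : (2 : F) ≠ 0) {m : ℕ} (hm : 1 ≤ m) :
    ¬ Ratl (PSp m F) := by
  obtain ⟨ν, hν0, hν⟩ := exists_nonsquare_unit F h2
  let i : Fin m := ⟨0, hm⟩
  let x : symplecticGroup (Fin m) F := ⟨tvM m i 1, tvM_mem i 1⟩
  refine not_ratl_of_aut (L := symplecticGroup (Fin m) F) (spAut hν0) x ?_
  intro g z hz hgz
  -- `z = 1`
  have hx' : ((spAut hν0 x : symplecticGroup (Fin m) F) : Matrix _ _ F) = tvM m i ν := by
    show simD m ν * tvM m i 1 * simD m ν⁻¹ = _
    rw [sim_tv i hν0, mul_one]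
  have hp : (ringChar F).Prime := CharP.char_is_prime F (ringChar F)
  have hxp : x ^ ringChar F = 1 := by
    apply Subtype.ext
    show (tvM m i 1 : Matrix _ _ F) ^ ringChar F = 1
    rw [tvM_pow, ringChar.Nat.cast_ringChar]
    simp [tvM, fromBlocks_one]
  have hx'p : (spAut hν0 x) ^ ringChar F = 1 := by rw [← map_pow, hxp, map_one]
  have hz1 : z = 1 := by
    have hc : Commute (g * x * g⁻¹) z := (Subgroup.mem_center_iff.1 hz _)
    have h1 : z ^ ringChar F = 1 := by
      have := congrArg (· ^ ringChar F) hgz
      simp only [hc.mul_pow, conj_pow, hxp, mul_one, mul_inv_cancel, one_mul, hx'p] at this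
      exact this
    have h3 : z ^ 2 = 1 := by
      have h4 : Nat.card (Subgroup.center (symplecticGroup (Fin m) F)) ∣ 2 := by
        rw [S0246.result (F := F) rfl m hm]; exact Nat.gcd_dvd_left _ _
      have h5 := pow_card_eq_one' (x := (⟨z, hz⟩ : Subgroup.center (symplecticGroup (Fin m) F)))
      have h6 : z ^ Nat.card (Subgroup.center (symplecticGroup (Fin m) F)) = 1 :=
        congrArg Subtype.val h5
      obtain ⟨k, hk⟩ := h4
      rw [hk, pow_mul, h6, one_pow]
    have hne : ringChar F ≠ 2 := by
      intro h
      apply h2
      have := ringChar.Nat.cast_ringChar (R := F)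
      rw [h] at this
      exact_mod_cast this
    have h7 := Nat.dvd_gcd (orderOf_dvd_of_pow_eq_one h1) (orderOf_dvd_of_pow_eq_one h3)
    rw [((Nat.coprime_primes hp Nat.prime_two).2 hne).gcd_eq_one] at h7
    exact orderOf_eq_one_iff.1 (Nat.dvd_one.1 h7)
  rw [hz1, mul_one] at hgz
  have hgx : g.1 * tvM m i 1 = tvM m i ν * g.1 := by
    have h8 : g * x = spAut hν0 x * g := by rw [← hgz]; group
    have h9 := congrArg Subtype.val h8
    rw [← hx']
    exact h9
  have hgJ : g.1ᵀ * Matrix.J (Fin m) F * g.1 = Matrix.J (Fin m) F :=
    SymplecticGroup.mem_iff'.1 g.2
  let w : Fin m ⊕ Fin m → F := Pi.single (Sum.inr i) 1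
  have q1 := quad_tv i 1 w
  have q2 := quad_tv i ν (g.1 *ᵥ w)
  have key : (g.1 *ᵥ w) ⬝ᵥ (Matrix.J (Fin m) F * (tvM m i ν - 1)) *ᵥ
      (g.1 *ᵥ w) = w ⬝ᵥ (Matrix.J (Fin m) F * (tvM m i 1 - 1)) *ᵥ w := by
    rw [mulVec_mulVec, ← vecMul_transpose, ← dotProduct_mulVec, mulVec_mulVec]
    congr 2
    have e1 : (tvM m i ν - 1) * g.1 = g.1 * (tvM m i 1 - 1) := by
      rw [sub_mul, mul_sub, hgx, one_mul, mul_one]
    rw [mul_assoc (Matrix.J (Fin m) F), e1, ← mul_assoc, ← mul_assoc, hgJ]
  rw [key, q1] at q2
  apply hν ((g.1 *ᵥ w) (Sum.inr i))⁻¹
  have hw : w (Sum.inr i) = 1 := by simp [w]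
  rw [hw] at q2
  set b := (g.1 *ᵥ w) (Sum.inr i)
  have hb : b ≠ 0 := by
    intro hb
    rw [hb] at q2
    simp at q2
  field_simp
  linear_combination q2

end Cfsg.Agent.H689
end

-- part: H689/ClaOrth
section
/-!
# Orthogonal groups are not rational
-/

set_option autoImplicit false
set_option linter.unusedSectionVars false

open Cfsg Matrix

namespace Cfsg.Agent.H689

universe u

open Cfsg.Agent.LieClassical.OmegaReindex Cfsg.Agent.LieClassical.OmegaCenter

theorem not_orat_omega {ι : Type} [Fintype ι] [DecidableEq ι] {F : Type} [Field F] [Finite F]
    (Q : QuadraticForm F (ι → F)) (hQ : (QuadraticMap.polarBilin Q).Nondegenerate)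
    (hn : 3 ≤ Fintype.card ι) (hs : ∃ u : ι → F, u ≠ 0 ∧ Q u = 0) {r : ℕ} (hr : r.Prime)
    (hrF : (r : F) ≠ 0) (hd : r ∣ Nat.card (POmega F ⇑Q)) (hl : Fintype.card ι + 1 < r) {n : ℕ}
    (hrn : r.Coprime n) : ¬ ORat n (POmega F ⇑Q) := by
  have hFr : Fact r.Prime := ⟨hr⟩
  refine not_orat_of_rep (L := Omega F ⇑Q) (F := F) (d := ι)
    ((isometryGroup F ⇑Q).subtype.comp (Omega F ⇑Q).subtype)
    hr hrF (hd.trans (Subgroup.card_quotient_dvd_card _)) ?_ (Subgroup.center _) le_rfl ?_ hl hrn
  · have h1 : ((isometryGroup F ⇑Q).subtype.comp (Omega F ⇑Q).subtype).ker = ⊥ := by
      rw [MonoidHom.ker_eq_bot_iff]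
      exact (isometryGroup F ⇑Q).subtype_injective.comp (Omega F ⇑Q).subtype_injective
    rw [h1, Subgroup.card_bot]
    exact fun h => hr.one_lt.ne' (Nat.dvd_one.1 h)
  · intro h
    obtain ⟨z, hz⟩ := exists_prime_orderOf_dvd_card' (G := Subgroup.center (Omega F ⇑Q)) r h
    have h1 := (mem_center_omega_iff Q hQ hn hs (z : Omega F ⇑Q)).1 z.2
    have h2 : (z : Omega F ⇑Q) ^ 2 = 1 := by
      apply omega_ext
      have h3 : omegaMat ((z : Omega F ⇑Q) ^ 2) = omegaMat (z : Omega F ⇑Q) * omegaMat (z : Omega F ⇑Q) := by
        rw [pow_two]; rfl
      rw [h3]
      rcases h1 with h1 | h1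
      · rw [h1]; exact mul_one _
      · rw [h1, neg_mul_neg]; exact mul_one _
    have h3 : orderOf (z : Omega F ⇑Q) = r := by rw [Subgroup.orderOf_coe]; exact hz
    have h4 := orderOf_dvd_of_pow_eq_one h2
    rw [h3] at h4
    have := Nat.le_of_dvd (by omega) h4
    omega

/-- `PΩ (2m+1) q`, `q` odd, `m ≥ 3`. -/
theorem not_orat_oodd {F : Type} [Field F] [Fintype F] (p : ℕ) [CharP F p] {m : ℕ} (hm : 3 ≤ m)
    (ho : Odd (Fintype.card F)) : ¬ ORat p (POmega F (quadFormOdd m F)) := by
  obtain ⟨k, hk3, hkm, hok, hk2⟩ : ∃ k, 3 ≤ k ∧ k ≤ m ∧ Odd k ∧ m ≤ k + 1 := by
    rcases Nat.even_or_odd m with h | h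
    · obtain ⟨j, hj⟩ := h
      exact ⟨m - 1, by omega, by omega, ⟨j - 1, by omega⟩, by omega⟩
    · exact ⟨m, hm, le_rfl, h, by omega⟩
  have h2 : (2 : F) ≠ 0 := LieClassical.PomegaCard.odd_card_iff.1 ho
  have hq : 2 ≤ Fintype.card F := Fintype.one_lt_card
  obtain ⟨r, hr, hrl⟩ := exists_large hq hk3 hok (by
    rintro ⟨h3, h4⟩
    rw [h3] at ho
    revert ho; decide)
  obtain ⟨k', hk', hr, hd⟩ : ∃ k', 3 ≤ k' ∧ Ppd (Fintype.card F) k' r ∧ k' ∣ 2 * k := by
    rcases hr with hr | hr
    · exact ⟨k, hk3, hr, Dvd.intro_left _ rfl⟩
    · exact ⟨2 * k, by omega, hr, dvd_rfl⟩
  have hcard : Fintype.card (Unit ⊕ (Fin m ⊕ Fin m)) = 2 * m + 1 := by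
    simp only [_root_.Fintype.card_sum, _root_.Fintype.card_unique, _root_.Fintype.card_fin]
    ring
  have hdvd : r ∣ 2 * Nat.card (POmega F (quadFormOdd m F)) := by
    rw [S0292.result (F := F) rfl ho m hm]
    refine Dvd.dvd.mul_left ?_ _
    refine Dvd.dvd.trans ?_ (Finset.dvd_prod_of_mem _ (Finset.mem_range.2
      (show k - 1 < m by omega)))
    rw [Nat.sub_add_cancel (by omega)]
    exact (hr.iff _).2 hd
  have hdvd' : r ∣ Nat.card (POmega F (quadFormOdd m F)) := by
    rcases hr.prime.dvd_mul.1 hdvd with h | h
    · have := Nat.le_of_dvd (by omega) h; omega
    · exact h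
  rw [← LieClassical.QuadForms.coe_oddForm] at hdvd' ⊢
  refine not_orat_omega (LieClassical.QuadForms.oddForm m F) (S0292.oddForm_nondegenerate h2 m)
    (by omega) (S0292.exists_singular (by omega)) hr.prime (ne_zero_of_ppd hr) hdvd' ?_
    (coprime_of_ppd hr p)
  rw [hcard]; omega

theorem exists_even_large {q m : ℕ} (hq : 2 ≤ q) (hm : 4 ≤ m) (h2 : ¬ (q = 2 ∧ m ≤ 5)) :
    ∃ r k, 3 ≤ k ∧ k ≤ m - 1 ∧ (∃ k', 3 ≤ k' ∧ Ppd q k' r ∧ k' ∣ 2 * k) ∧ 2 * m + 1 < r := by
  obtain ⟨k, hk3, hkm, hok, hk2⟩ : ∃ k, 3 ≤ k ∧ k ≤ m - 1 ∧ Odd k ∧ m ≤ k + 2 := by
    rcases Nat.even_or_odd m with h | h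
    · obtain ⟨j, hj⟩ := h
      exact ⟨m - 1, by omega, by omega, ⟨j - 1, by omega⟩, by omega⟩
    · obtain ⟨j, hj⟩ := h
      exact ⟨m - 2, by omega, by omega, ⟨j - 1, by omega⟩, by omega⟩
  obtain ⟨r, hr, hrl⟩ := exists_large hq hk3 hok (by
    rintro ⟨h3, h4⟩
    exact h2 ⟨h3, by omega⟩)
  refine ⟨r, k, hk3, hkm, ?_, by omega⟩
  rcases hr with hr | hr
  · exact ⟨k, hk3, hr, Dvd.intro_left _ rfl⟩
  · exact ⟨2 * k, by omega, hr, dvd_rfl⟩

/-- `PΩ⁺ (2m) q`, `m ≥ 4`, not `q = 2`, `m ≤ 5`. -/
theorem not_orat_oplus {F : Type} [Field F] [Fintype F] (p : ℕ) [CharP F p] {m : ℕ} (hm : 4 ≤ m)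
    (h2 : ¬ (Fintype.card F = 2 ∧ m ≤ 5)) : ¬ ORat p (POmega F (quadFormPlus m F)) := by
  have hq : 2 ≤ Fintype.card F := Fintype.one_lt_card
  obtain ⟨r, k, hk3, hkm, ⟨k', hk', hr, hd⟩, hrl⟩ := exists_even_large hq hm h2
  have hcard : Fintype.card (Fin m ⊕ Fin m) = 2 * m := by simp only [_root_.Fintype.card_sum, _root_.Fintype.card_fin]; ring
  have hdvd : r ∣ Nat.card (POmega F (quadFormPlus m F)) := by
    have h := S0293.result (F := F) rfl m hm
    have h1 : r ∣ Nat.gcd 4 (Fintype.card F ^ m - 1) * Nat.card (POmega F (quadFormPlus m F)) := by
      rw [h]
      refine Dvd.dvd.mul_left ?_ _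
      refine Dvd.dvd.trans ?_ (Finset.dvd_prod_of_mem _ (Finset.mem_range.2
        (show k - 1 < m - 1 by omega)))
      rw [Nat.sub_add_cancel (by omega)]
      exact (hr.iff _).2 hd
    refine (hr.prime.dvd_mul.1 h1).resolve_left fun h => ?_
    have := Nat.le_of_dvd (by omega) (h.trans (Nat.gcd_dvd_left _ _))
    omega
  rw [← coe_quadPlus]
  refine not_orat_omega (quadPlus m F) quadPlus_nondegenerate (by omega)
    (quadPlus_isotropic (by omega)) hr.prime (ne_zero_of_ppd hr) ?_ ?_ (coprime_of_ppd hr p)
  · rw [coe_quadPlus]; exact hdvd
  · rw [hcard]; omega

/-- `PΩ⁻ (2m) q`, `m ≥ 4`, not `q = 2`, `m ≤ 5`. -/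
theorem not_orat_ominus {F : Type} [Field F] [Fintype F] (p : ℕ) [CharP F p] {m : ℕ} (hm : 4 ≤ m)
    (h2 : ¬ (Fintype.card F = 2 ∧ m ≤ 5)) (a b : F)
    (hab : ∀ z₁ z₂ : F, z₁ ^ 2 + a * z₁ * z₂ + b * z₂ ^ 2 = 0 → z₁ = 0 ∧ z₂ = 0) :
    ¬ ORat p (POmega F (quadFormMinus (m - 1) F a b)) := by
  have hq : 2 ≤ Fintype.card F := Fintype.one_lt_card
  obtain ⟨r, k, hk3, hkm, ⟨k', hk', hr, hd⟩, hrl⟩ := exists_even_large hq hm h2
  have hcard : Fintype.card ((Fin (m - 1) ⊕ Fin (m - 1)) ⊕ Fin 2) = 2 * m := by
    simp only [Fintype.card_sum, Fintype.card_fin]; omega
  have hdvd : r ∣ Nat.card (POmega F (quadFormMinus (m - 1) F a b)) := by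
    have h := S0294.result (F := F) rfl m hm a b hab
    have h1 : r ∣ Nat.gcd 4 (Fintype.card F ^ m + 1) *
        Nat.card (POmega F (quadFormMinus (m - 1) F a b)) := by
      rw [h]
      refine Dvd.dvd.mul_left ?_ _
      refine Dvd.dvd.trans ?_ (Finset.dvd_prod_of_mem _ (Finset.mem_range.2
        (show k - 1 < m - 1 by omega)))
      rw [Nat.sub_add_cancel (by omega)]
      exact (hr.iff _).2 hd
    refine (hr.prime.dvd_mul.1 h1).resolve_left fun h => ?_
    have := Nat.le_of_dvd (by omega) (h.trans (Nat.gcd_dvd_left _ _))
    omega
  rw [← coe_quadMinus]
  refine not_orat_omega (quadMinus (m - 1) F a b) (quadMinus_nondegenerate hab) (by omega)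
    (quadMinus_isotropic (by omega) a b) hr.prime (ne_zero_of_ppd hr) ?_ ?_ (coprime_of_ppd hr p)
  · rw [coe_quadMinus]; exact hdvd
  · rw [hcard]; omega

end Cfsg.Agent.H689
end

-- part: H689/ClaSmall
section
/-!
# Classical groups over the field with two elements: the prime 17
-/

set_option autoImplicit false
set_option linter.unusedSectionVars false

open Cfsg Matrix

namespace Cfsg.Agent.H689

open Cfsg.Agent.LieClassical.OmegaReindex Cfsg.Agent.LieClassical.OmegaCenter

theorem ppd17 : Ppd 2 8 17 := by
  refine ⟨by norm_num, ?_, by norm_num, by norm_num⟩
  intro m
  rw [Lib.Zsigmondy.dvd_pow_sub_one_iff (by norm_num)]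
  have : orderOf ((2 : ℕ) : ZMod 17) = 8 := by
    have h1 : orderOf (2 : ZMod 17) = 2 ^ 3 := orderOf_eq_prime_pow (p := 2) (n := 2) (by decide)
      (by decide)
    exact_mod_cast h1
  rw [this]

/-- `Sp 8 2`. -/
theorem not_orat_psp_eight {F : Type} [Field F] [Fintype F] (p : ℕ) [CharP F p]
    (h2 : Fintype.card F = 2) : ¬ ORat p (PSp 4 F) := by
  classical
  have hr : Ppd (Fintype.card F) 8 17 := by rw [h2]; exact ppd17
  have hdvd' : 17 ∣ Nat.card (symplecticGroup (Fin 4) F) := by
    rw [S0245.result (F := F) rfl 4]
    refine Dvd.dvd.mul_left ?_ _
    refine Dvd.dvd.trans ?_ (Finset.dvd_prod_of_mem _ (Finset.mem_range.2 (show 3 < 4 by omega)))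
    exact (hr.iff _).2 (by norm_num)
  refine not_orat_of_rep (L := symplecticGroup (Fin 4) F) (d := Fin 4 ⊕ Fin 4)
    (F := F) ((Units.map ((symplecticGroup (Fin 4) F).subtype)).comp toUnits.toMonoidHom)
    hr.prime (ne_zero_of_ppd hr) hdvd' ?_ (Subgroup.center _) le_rfl ?_ ?_ (coprime_of_ppd hr p)
  · have h1 : ((Units.map ((symplecticGroup (Fin 4) F).subtype)).comp
        (toUnits (G := symplecticGroup (Fin 4) F)).toMonoidHom).ker = ⊥ := by
      rw [MonoidHom.ker_eq_bot_iff]
      intro a b hab
      exact Subtype.ext (congrArg (fun u : GL (Fin 4 ⊕ Fin 4) F =>
        (u : Matrix (Fin 4 ⊕ Fin 4) (Fin 4 ⊕ Fin 4) F)) hab)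
    rw [h1, Subgroup.card_bot]
    exact fun h => hr.prime.one_lt.ne' (Nat.dvd_one.1 h)
  · rw [S0246.result (F := F) rfl 4 (by omega)]
    exact fun h4 => hr.not_dvd_sub_one (by omega) (h4.trans (Nat.gcd_dvd_right _ _))
  · rw [Fintype.card_sum, Fintype.card_fin]
    omega

/-- `Ω⁺ 10 2`. -/
theorem not_orat_oplus_ten {F : Type} [Field F] [Fintype F] (p : ℕ) [CharP F p]
    (h2 : Fintype.card F = 2) : ¬ ORat p (POmega F (quadFormPlus 5 F)) := by
  have hr : Ppd (Fintype.card F) 8 17 := by rw [h2]; exact ppd17
  have hcard : Fintype.card (Fin 5 ⊕ Fin 5) = 10 := by simp
  have hdvd : 17 ∣ Nat.card (POmega F (quadFormPlus 5 F)) := by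
    have h := S0293.result (F := F) rfl 5 (by omega)
    have h1 : 17 ∣ Nat.gcd 4 (Fintype.card F ^ 5 - 1) * Nat.card (POmega F (quadFormPlus 5 F)) := by
      rw [h]
      refine Dvd.dvd.mul_left ?_ _
      refine Dvd.dvd.trans ?_ (Finset.dvd_prod_of_mem _ (Finset.mem_range.2
        (show 3 < 5 - 1 by omega)))
      exact (hr.iff _).2 (by norm_num)
    refine (hr.prime.dvd_mul.1 h1).resolve_left fun h => ?_
    have := Nat.le_of_dvd (by omega) (h.trans (Nat.gcd_dvd_left _ _))
    omega
  rw [← coe_quadPlus]
  refine not_orat_omega (quadPlus 5 F) quadPlus_nondegenerate (by omega)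
    (quadPlus_isotropic (by omega)) hr.prime (ne_zero_of_ppd hr) ?_ ?_ (coprime_of_ppd hr p)
  · rw [coe_quadPlus]; exact hdvd
  · rw [hcard]; omega

/-- `Ω⁻ 8 2` and `Ω⁻ 10 2`. -/
theorem not_orat_ominus_two {F : Type} [Field F] [Fintype F] (p : ℕ) [CharP F p]
    (h2 : Fintype.card F = 2) {m : ℕ} (hm : m = 4 ∨ m = 5) (a b : F)
    (hab : ∀ z₁ z₂ : F, z₁ ^ 2 + a * z₁ * z₂ + b * z₂ ^ 2 = 0 → z₁ = 0 ∧ z₂ = 0) :
    ¬ ORat p (POmega F (quadFormMinus (m - 1) F a b)) := by
  have hr : Ppd (Fintype.card F) 8 17 := by rw [h2]; exact ppd17
  have hcard : Fintype.card ((Fin (m - 1) ⊕ Fin (m - 1)) ⊕ Fin 2) = 2 * m := by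
    simp only [Fintype.card_sum, Fintype.card_fin]; omega
  have hdvd : 17 ∣ Nat.card (POmega F (quadFormMinus (m - 1) F a b)) := by
    have h := S0294.result (F := F) rfl m (by omega) a b hab
    have h1 : 17 ∣ Nat.gcd 4 (Fintype.card F ^ m + 1) *
        Nat.card (POmega F (quadFormMinus (m - 1) F a b)) := by
      rw [h]
      rcases hm with rfl | rfl
      · refine Dvd.dvd.mul_right ?_ _
        refine Dvd.dvd.mul_left ?_ _
        rw [h2]; norm_num
      · refine Dvd.dvd.mul_left ?_ _
        refine Dvd.dvd.trans ?_ (Finset.dvd_prod_of_mem _ (Finset.mem_range.2
          (show 3 < 5 - 1 by omega)))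
        exact (hr.iff _).2 (by norm_num)
    refine (hr.prime.dvd_mul.1 h1).resolve_left fun h => ?_
    have := Nat.le_of_dvd (by omega) (h.trans (Nat.gcd_dvd_left _ _))
    omega
  rw [← coe_quadMinus]
  refine not_orat_omega (quadMinus (m - 1) F a b) (quadMinus_nondegenerate hab) (by omega)
    (quadMinus_isotropic (by omega) a b) hr.prime (ne_zero_of_ppd hr) ?_ ?_ (coprime_of_ppd hr p)
  · rw [coe_quadMinus]; exact hdvd
  · rw [hcard]; omega

end Cfsg.Agent.H689
end

-- part: H689/O8Plus
section
/-!
# `Ω⁺ 8 2` has an automorphism which does not preserve the classes
-/

set_option autoImplicit false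
set_option linter.unusedSectionVars false

open Cfsg Matrix Polynomial

namespace Cfsg.Agent.H689

universe u

theorem not_ratl_of_index_two {Γ : Type u} [Group Γ] [Finite Γ] (Ω : Subgroup Γ) [Ω.Normal]
    (hidx : Ω.index = 2) (hZ : Nat.card (Subgroup.center Ω) = 1) (g : Γ) {m : ℕ} (hm : Odd m)
    (hg : g ^ m = 1) (hC : ∀ c : Γ, c * g = g * c → c ^ m = 1) :
    ¬ Ratl (Ω ⧸ Subgroup.center Ω) := by
  intro h
  have hbot : Subgroup.center Ω = ⊥ := Subgroup.card_eq_one.1 hZ
  have h1 : Ratl Ω := h.of_equiv
    ((QuotientGroup.quotientMulEquivOfEq hbot).trans QuotientGroup.quotientBot)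
  have hodd : ∀ c : Γ, c ^ m = 1 → c ∈ Ω := by
    intro c hc
    obtain ⟨k, hk⟩ := hm
    have h2 : c ^ 2 ∈ Ω := by
      have := Ω.pow_index_mem c
      rwa [hidx] at this
    have h3 : c * (c ^ 2) ^ k = 1 := by
      rw [← pow_mul, ← pow_succ', ← hk, hc]
    have h4 : c = ((c ^ 2) ^ k)⁻¹ := eq_inv_of_mul_eq_one_left h3
    rw [h4]
    exact Ω.inv_mem (Ω.pow_mem h2 k)
  obtain ⟨r, hr⟩ : ∃ r : Γ, r ∉ Ω := by
    by_contra hno
    push Not at hno
    have : Ω = ⊤ := eq_top_iff.2 (fun x _ => hno x)
    rw [this, Subgroup.index_top] at hidx
    norm_num at hidx
  have hgΩ : g ∈ Ω := hodd g hg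
  obtain ⟨t, ht⟩ := isConj_iff.1 (h1.aut (MulAut.conjNormal r) ⟨g, hgΩ⟩)
  have h2 : (t : Γ) * g * (t : Γ)⁻¹ = r * g * r⁻¹ := by
    have h3 := congrArg Subtype.val ht
    rw [MulAut.conjNormal_apply] at h3
    exact h3
  apply hr
  have h3 : (r⁻¹ * t) * g = g * (r⁻¹ * t) := by
    calc (r⁻¹ * t) * g = r⁻¹ * (t * g * (t : Γ)⁻¹) * t := by group
      _ = r⁻¹ * (r * g * r⁻¹) * t := by rw [h2]
      _ = g * (r⁻¹ * t) := by group
  have h4 := hodd _ (hC _ h3)
  have h5 : r⁻¹ ∈ Ω := by
    have h6 := Ω.mul_mem h4 (Ω.inv_mem t.2)
    rwa [mul_assoc, mul_inv_cancel, mul_one] at h6
  have h6 := Ω.inv_mem h5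
  rwa [inv_inv] at h6

theorem commute_pow {K : Type*} [Field K] [Fintype K] {ι : Type*} [Fintype ι] [DecidableEq ι]
    (G C : Matrix ι ι K) {k : ℕ} (hG : G ^ (Fintype.card K ^ k) = G) (v : ι → K)
    (hv : ∀ j, ∃ p : K[X], (aeval G p).mulVec v = Pi.single j 1) (hC : C * G = G * C) :
    C ^ (Fintype.card K ^ k) = C := by
  classical
  have hw : ∀ w : ι → K, ∃ p : K[X], (aeval G p).mulVec v = w := by
    intro w
    choose p hp using hv
    refine ⟨∑ j, Polynomial.C (w j) * p j, ?_⟩
    rw [map_sum, Matrix.sum_mulVec]
    have h1 : ∀ j, (aeval G (Polynomial.C (w j) * p j)).mulVec v = w j • Pi.single j (1 : K) := by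
      intro j
      rw [map_mul, aeval_C, ← Matrix.mulVec_mulVec, hp, Algebra.algebraMap_eq_smul_one,
        Matrix.smul_mulVec, Matrix.one_mulVec]
    rw [Finset.sum_congr rfl (fun j _ => h1 j)]
    ext i
    simp only [Finset.sum_apply, Pi.single_apply, _root_.Pi.smul_apply, _root_.smul_eq_mul, _root_.mul_ite, _root_.mul_one, _root_.MulZeroClass.mul_zero, _root_.Finset.sum_ite_eq, _root_.Finset.mem_univ, ↓ _root_.reduceIte]
  obtain ⟨p, hp⟩ := hw (C.mulVec v)
  have hcomm : ∀ s : K[X], C * aeval G s = aeval G s * C := by
    intro s
    induction s using Polynomial.induction_on' with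
    | add a b ha hb => rw [map_add, mul_add, ha, hb, add_mul]
    | monomial n a =>
      rw [aeval_monomial]
      have h1 : C * G ^ n = G ^ n * C := ((show Commute C G from hC).pow_right n).eq
      rw [← mul_assoc, (Algebra.commutes a C).symm, mul_assoc, h1, mul_assoc]
  have hCp : C = aeval G p := by
    apply Matrix.toLin'.injective
    refine LinearMap.ext (fun w => ?_)
    obtain ⟨s, rfl⟩ := hw w
    rw [Matrix.toLin'_apply, Matrix.toLin'_apply, Matrix.mulVec_mulVec, hcomm,
      ← Matrix.mulVec_mulVec, ← hp, Matrix.mulVec_mulVec, Matrix.mulVec_mulVec, ← map_mul,
      ← map_mul, mul_comm]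
  have hexp : ∀ j : ℕ, p ^ (Fintype.card K ^ j) = expand K (Fintype.card K ^ j) p := by
    intro j
    induction j with
    | zero => rw [pow_zero, pow_one, expand_one]
    | succ j ih =>
      rw [pow_succ, pow_mul, ih, ← FiniteField.expand_card, expand_expand, mul_comm]
  rw [hCp, ← map_pow, hexp, expand_aeval, hG]

namespace OEight

/-- Bool to `ZMod 2` -/
def bz (b : Bool) : ZMod 2 := cond b 1 0

/-- the position of a coordinate -/
def cd : Fin 4 ⊕ Fin 4 → ℕ
  | Sum.inl i => i
  | Sum.inr i => 4 + i

/-- the matrix with the given bits -/
def mt (A : ℕ) : Matrix (Fin 4 ⊕ Fin 4) (Fin 4 ⊕ Fin 4) (ZMod 2) :=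
  Matrix.of fun i j => bz (A.testBit (8 * cd i + cd j))

theorem sq0 : mt 0x4020109004020908 * mt 0x4020109004020908 = mt 0x201090d002090c04 := by
  decide +kernel

theorem sq1 : mt 0x201090d002090c04 * mt 0x201090d002090c04 = mt 0x90d0f0e00c060b09 := by
  decide +kernel

theorem sq2 : mt 0x90d0f0e00c060b09 * mt 0x90d0f0e00c060b09 = mt 0x70a050b00a0d0e05 := by
  decide +kernel

theorem sq3 : mt 0x70a050b00a0d0e05 * mt 0x70a050b00a0d0e05 = mt 0x4020109004020908 := by
  decide +kernel

/-- the element of order 15 -/
def G : Matrix (Fin 4 ⊕ Fin 4) (Fin 4 ⊕ Fin 4) (ZMod 2) := mt 0x4020109004020908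

theorem G_pow : G ^ (2 ^ 4) = G := by
  have h1 : ∀ M : Matrix (Fin 4 ⊕ Fin 4) (Fin 4 ⊕ Fin 4) (ZMod 2),
      M ^ (2 ^ 4) = (((M ^ 2) ^ 2) ^ 2) ^ 2 := by
    intro M
    rw [← pow_mul, ← pow_mul, ← pow_mul]
    congr 1
  rw [h1, pow_two, pow_two, pow_two, pow_two, G, sq0, sq1, sq2, sq3]

/-- the inverse -/
def H : Matrix (Fin 4 ⊕ Fin 4) (Fin 4 ⊕ Fin 4) (ZMod 2) := mt 0x3080402001080403

theorem G_mul_H : G * H = 1 := by decide +kernel

theorem H_mul_G : H * G = 1 := by decide +kernel

/-- Krylov vectors -/
def kv (i : ℕ) : Fin 4 ⊕ Fin 4 → ZMod 2 := fun a => bz ((0xebfc763318844221).testBit (8 * i + cd a))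

/-- coefficients -/
def cf (j : Fin 4 ⊕ Fin 4) (i : ℕ) : ZMod 2 := bz ((0x79e1adf2fa7de3ac).testBit (8 * cd j + i))

theorem kv_succ : ∀ i < 7, G.mulVec (kv i) = kv (i + 1) := by decide +kernel

theorem kv_sum : ∀ j : Fin 4 ⊕ Fin 4, ∑ i : Fin 8, cf j i • kv i = Pi.single j 1 := by
  decide +kernel

theorem kv_eq : ∀ i < 8, (G ^ i).mulVec (kv 0) = kv i := by
  intro i
  induction i with
  | zero => intro _; rw [pow_zero, Matrix.one_mulVec]
  | succ i ih =>
    intro h
    rw [pow_succ', ← Matrix.mulVec_mulVec, ih (by omega), kv_succ i (by omega)]

theorem exists_poly (j : Fin 4 ⊕ Fin 4) :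
    ∃ p : (ZMod 2)[X], (aeval G p).mulVec (kv 0) = Pi.single j 1 := by
  refine ⟨∑ i : Fin 8, Polynomial.C (cf j i) * X ^ (i : ℕ), ?_⟩
  rw [← kv_sum j, map_sum, Matrix.sum_mulVec]
  refine Finset.sum_congr rfl (fun i _ => ?_)
  rw [map_mul, aeval_C, map_pow, aeval_X, ← Matrix.mulVec_mulVec, kv_eq i i.2,
    Algebra.algebraMap_eq_smul_one, Matrix.smul_mulVec, Matrix.one_mulVec]

theorem G_isom : ∀ v : Fin 4 ⊕ Fin 4 → ZMod 2,
    quadFormPlus 4 (ZMod 2) (G.mulVec v) = quadFormPlus 4 (ZMod 2) v := by
  intro v
  have h1 : ∀ i j : Fin 4, (∑ k : Fin 4, G (Sum.inl k) (Sum.inl i) * G (Sum.inr k) (Sum.inr j)) =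
      if i = j then 1 else 0 := by decide +kernel
  have h2 : ∀ k i : Fin 4, G (Sum.inl k) (Sum.inr i) = 0 := by decide +kernel
  have h3 : ∀ k i : Fin 4, G (Sum.inr k) (Sum.inl i) = 0 := by decide +kernel
  have h4 : ∀ k, G.mulVec v (Sum.inl k) = ∑ i, G (Sum.inl k) (Sum.inl i) * v (Sum.inl i) := by
    intro k
    simp [Matrix.mulVec, dotProduct, Fintype.sum_sum_type, h2]
  have h5 : ∀ k, G.mulVec v (Sum.inr k) = ∑ i, G (Sum.inr k) (Sum.inr i) * v (Sum.inr i) := by
    intro k
    simp [Matrix.mulVec, dotProduct, Fintype.sum_sum_type, h3]
  unfold quadFormPlus
  have h6 : ∀ k, G.mulVec v (Sum.inl k) * G.mulVec v (Sum.inr k) =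
      ∑ i, ∑ j, (v (Sum.inl i) * v (Sum.inr j)) *
        (G (Sum.inl k) (Sum.inl i) * G (Sum.inr k) (Sum.inr j)) := by
    intro k
    rw [h4, h5, Finset.sum_mul_sum]
    refine Finset.sum_congr rfl (fun i _ => Finset.sum_congr rfl (fun j _ => ?_))
    ring
  rw [Finset.sum_congr rfl (fun k _ => h6 k), Finset.sum_comm]
  refine Finset.sum_congr rfl (fun i _ => ?_)
  rw [Finset.sum_comm]
  have h7 : ∀ j, ∑ k, (v (Sum.inl i) * v (Sum.inr j)) *
      (G (Sum.inl k) (Sum.inl i) * G (Sum.inr k) (Sum.inr j)) =
      if i = j then v (Sum.inl i) * v (Sum.inr j) else 0 := by
    intro j
    rw [← Finset.mul_sum, h1]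
    split_ifs <;> simp
  rw [Finset.sum_congr rfl (fun j _ => h7 j)]
  simp

end OEight

open QuadraticMap Cfsg.Agent.LieClassical.OmegaReindex Cfsg.Agent.LieClassical.OmegaCenter
  Cfsg.Agent.ClassicalGeometry.IsoTransfer in
theorem not_ratl_oplus_eight {F : Type} [Field F] [Fintype F] (hF : Fintype.card F = 2) :
    ¬ Ratl (POmega F (quadFormPlus 4 F)) := by
  classical
  have h20 : (2 : F) = 0 := by
    have h1 : ((Fintype.card F : ℕ) : F) = 0 := FiniteField.cast_card_eq_zero F
    rw [hF] at h1
    exact_mod_cast h1
  have hcard : Fintype.card (Fin 4 ⊕ Fin 4) = 8 := by simp
  -- the element over the prime field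
  let g2 : isometryGroup (ZMod 2) (quadFormPlus 4 (ZMod 2)) :=
    ⟨⟨OEight.G, OEight.H, OEight.G_mul_H, OEight.H_mul_G⟩,
      mem_isometryGroup_iff.2 OEight.G_isom⟩
  have hpow : ∀ c : isometryGroup (ZMod 2) (quadFormPlus 4 (ZMod 2)), c * g2 = g2 * c →
      c ^ 15 = 1 := by
    intro c hc
    have h1 : ((c : GL (Fin 4 ⊕ Fin 4) (ZMod 2)) : Matrix (Fin 4 ⊕ Fin 4) (Fin 4 ⊕ Fin 4) (ZMod 2)) *
        OEight.G = OEight.G *
        ((c : GL (Fin 4 ⊕ Fin 4) (ZMod 2)) : Matrix (Fin 4 ⊕ Fin 4) (Fin 4 ⊕ Fin 4) (ZMod 2)) :=
      congrArg (fun u : isometryGroup (ZMod 2) (quadFormPlus 4 (ZMod 2)) =>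
        ((u : GL (Fin 4 ⊕ Fin 4) (ZMod 2)) :
          Matrix (Fin 4 ⊕ Fin 4) (Fin 4 ⊕ Fin 4) (ZMod 2))) hc
    have h2 := commute_pow (k := 4) OEight.G _ (by rw [ZMod.card]; exact OEight.G_pow)
      (OEight.kv 0) OEight.exists_poly h1
    rw [ZMod.card] at h2
    have h3 : c ^ 16 = c := by
      apply Subtype.ext
      apply Units.ext
      exact h2
    have h4 : c ^ 15 * c = 1 * c := by rw [← pow_succ, h3, one_mul]
    exact mul_right_cancel h4
  -- the transfer
  obtain ⟨e⟩ : Nonempty (F ≃+* ZMod 2) := by
    have h1 : Fintype.card F = Fintype.card (ZMod 2) := by rw [hF, ZMod.card]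
    exact ⟨FiniteField.ringEquivOfCardEq h1⟩
  let E := isometryGroupCongr e (quadFormPlus 4 F) (quadFormPlus 4 (ZMod 2)) (by
    intro v
    unfold quadFormPlus
    rw [map_sum]
    simp)
  have hfin : Finite (isometryGroup F (quadFormPlus 4 F)) := inferInstance
  have hidx : (Omega F (quadFormPlus 4 F)).index = 2 := by
    have h1 := ClassicalGeometry.OrthDickson.index_commutator_two (quadPlus 4 F) h20
      quadPlus_nondegenerate (Or.inr (by rw [hcard]; norm_num))
    rw [coe_quadPlus] at h1
    exact h1
  have hZ : Nat.card (Subgroup.center (Omega F (quadFormPlus 4 F))) = 1 := by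
    have h1 := card_center_omega_two h20 (quadPlus 4 F) quadPlus_nondegenerate
      (by rw [hcard]; norm_num) (quadPlus_isotropic (by norm_num))
    rw [coe_quadPlus] at h1
    exact h1
  refine not_ratl_of_index_two (Omega F (quadFormPlus 4 F)) hidx hZ (E.symm g2) (m := 15)
    (by decide) ?_ ?_
  · rw [← map_pow, hpow g2 rfl, map_one]
  · intro c hc
    apply E.injective
    rw [map_pow, map_one]
    apply hpow
    rw [← E.apply_symm_apply g2, ← map_mul, hc, map_mul]

end Cfsg.Agent.H689
end

-- part: H689/E7Data
section
/-!
# Packed matrices of root elements of `E₇(2)`: the computations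
-/

set_option autoImplicit false
set_option maxRecDepth 100000

namespace Cfsg.Agent.H689.ESeven

open Cfsg.Lie Cfsg.Agent.ChevalleyStructure.SparseAct Cfsg.Agent.J4M.BitMat

/-- a column modulo two -/
def colN : List (ℕ × ℕ × ℤ) → ℕ
  | [] => 0
  | q :: L => Nat.xor (if q.2.2.natAbs % 2 = 1 then 2 ^ q.1 else 0) (colN L)

/-- the transpose of `x_r(1)`, packed -/
def tr (r : ℕ) : ℕ := dig 133 (fun j => colN (col chevE7 r j) % 2 ^ 133) 133

/-- the trace of a packed matrix -/
def trN (A : ℕ) (k : ℕ) : Bool :=
  Nat.rec (motive := fun _ => Bool) false (fun k acc => Bool.xor acc (Nat.testBit A (134 * k))) k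

/-- literal -/
def T52 : ℕ := 0x1000000000000000000000000000000000600000000000000000000000000000000100000000000000000000000000000000040000000000000000000000000000000010000000000000000000000000000000004000000000000000000000000000000001000000000000000000000000000000000400000000000000000000000000000000100000000000000000000000000000000040000000000000000000000000000000010000000000000000000000000000000004100000000000000000000000000000001040000000000000000000000000000000410000000000000000000000000000000104000000000000000000000000000000041000000000000000000000000000000010400000000000000000000000000000004000000000000000000000000000000001000000000000000000000000000000000400000000000000000000000000000000100000000000000000000000000000000040000000000000000000000000000000010000000000000000000000000000000004000000000000000000000000000000001000000000000000000000000000000000400000000000000000000000000000000100000000000000000000000000000000040000000000000000000000000000000010000000000000000000000000000000004000000000000000000000000000000001000000000000000000000000000000000600000000000000000000000000000000100000000000000000000000000000000040000000000000000000000000000000010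00000000000000000000000000000000400000000000000000000000000000000100000000000000000000000000000000040000000000000000000000000000000010000000000000000000000000000000004400000000000000000000000000000001100000000000000000000000000000000440000000000000000000000000000000110000000000000000000000000000000040000000000000000000000000000000010000000000000000000000000000000004000000000000000000000000000000001000000000000000000000000000000000400000000000000000000000000000000108000000000000000000000000000000042000000000000000000000000000000010800000000000000000000000000000004200000000000000000000000000000001000008000000000000040000000000000400000000000000000000000000000000100000000000000000000000000000000040000000000000000000000000000000010000000000000000000000000000000004000000000000000000000000000000001000000000000000000000000000000000400000000000000000000000000000000100000000000000000000000000000000040000000000000000000000000000000010000000000000000000000000000000004000000000000000000000000000000001000000000000000000000000000000000400000000000000000000000000000000100000000000000000000000000000000040000000000000000000000000000000010000000000000000000000000000000004200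00000000000000000000000000000108000000000000000000000000000000042000000000000000000000000000000010800000000000000000000000000000004000000000000000000000000000000001000000000000000000000000000000000400000000000000000000000000000000100000000000000000000000000000000040000000000000000000000000000000010000000000000000000000000000000004400000000000000000000000000000001100000000000000000000000000000000440000000000000000000000000000000110000000000000000000000000000000040000000000000000000000000000000010000000000000000000000000000000004000000000000000000000000000000001000000000000000000000000000000000400000000000000000000000000000000100000000000000000000000000000000040000000000000000000000000000000010000000000000000000000000000000004000000000000000000000000000000001000000000000000000000000000000000600000000000000000000000000000000100000000000000000000000000000000040000000000000000000000000000000010000000000000000000000000000000004000000000000000000000000000000001000000000000000000000000000000000400000000000000000000000000000000100000000000000000000000000000000040000000000000000000000000000000010000000000000000000000000000000004100000000000000000000000000000001040000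00000000000000000000000000041000000000000000000000000000000010400000000000000000000000000000004100000000000000000000000000000001040000000000000000000000000000000400000000000000000000000000000000100000000000000000000000000000000040000000000000000000000000000000010000000000000000000000000000000004000000000000000000000000000000001000000000000000000000000000000000400000000000000000000000000000000100000000000000000000000000000000040000000000000000000000000000000010000000000000000000000000000000004000000000000000000000000000000001000000000000000000000000000000000400000000000000000000000000000000100000000000000000000000000000000060000000000000000000000000000000010000000000000000000000000000000004000000000000000000000000000000001000000000000000000000000000000000400000000000000000000000000000000100000000000000000004000000000000040000000000000000000000000000000010000000000000000000000000000000004000000000000000000800000000000001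

/-- literal -/
def T56 : ℕ := 0x1000000000000000000000000000000000400000000000000000000000000000000180000000000000000000000000000000040000000000000000000000000000000010000000000000000000000000000000004000000000000000000000000000000001000000000000000000000000000000000400000000000000000000000000000000120000000000000000000000000000000048000000000000000000000000000000012000000000000000000000000000000004000000000000000000000000000000001000000000000000000000000000000000400000000000000000000000000000000100000000000000000000000000000000040000000000000000000000000000000010000000000000000000000000000000004000000000000000000000000000000001000000000000000000000000000000000400000000000000000000000000000000120000000000000000000000000000000048000000000000000000000000000000012000000000000000000000000000000004000000000000000000000000000000001000000000000000000000000000000000400000000000000000000000000000000100000000000000000000000000000000040000000000000000000000000000000010000000000000000000000000000000004000000000000000000000000000000001800000000000000000000000000000000400000000000000000000000000000000100000000000000000000000000000000040000000000000000000000000000000010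00000000000000000000000000000000400000000000000000000000000000000120000000000000000000000000000000048000000000000000000000000000000012000000000000000000000000000000004000000000000000000000000000000001000000000000000000000000000000000400000000000000000000000000000000100000000000000000000000000000000040000000000000000000000000000000010000000000000000000000000000000004000000000000000000000000000000001800000000000000000000000000000000400000000000000000000000000000000100000000000000000000000000000000040000000000000000000000000000000010000000000000000000000000000000006000000000000000000000000000000001000000000000000000000000000000000440000000000000000000000000000000110000000000000000000000000000000044000000000000000000000000000000010008000000000000008000000000000004000000000000000000000000000000001000000000000000000000000000000000400000000000000000000000000000000100000000000000000000000000000000040000000000000000000000000000000010000000000000000000000000000000004000000000000000000000000000000001000000000000000000000000000000000400000000000000000000000000000000110000000000000000000000000000000044000000000000000000000000000000011000000000000000000000000000000004000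00000000000000000000000000000100000000000000000000000000000000040000000000000000000000000000000010000000000000000000000000000000006000000000000000000000000000000001000000000000000000000000000000000400000000000000000000000000000000100000000000000000000000000000000040000000000000000000000000000000018000000000000000000000000000000004000000000000000000000000000000001000000000000000000000000000000000400000000000000000000000000000000100000000000000000000000000000000040000000000000000000000000000000012000000000000000000000000000000004800000000000000000000000000000001200000000000000000000000000000000400000000000000000000000000000000100000000000000000000000000000000040000000000000000000000000000000010000000000000000000000000000000004000000000000000000000000000000001000000000000000000000000000000000400000000000000000000000000000000180000000000000000000000000000000040000000000000000000000000000000010000000000000000000000000000000004000000000000000000000000000000001000000000000000000000000000000000400000000000000000000000000000000120000000000000000000000000000000048000000000000000000000000000000012000000000000000000000000000000004000000000000000000000000000000001000000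00000000000000000000000000040000000000000000000000000000000010000000000000000000000000000000004000000000000000000000000000000001000000000000000000000000000000000400000000000000000000000000000000100000000000000000000000000000000040000000000000000000000000000000012000000000000000000000000000000004800000000000000000000000000000001200000000000000000000000000000000400000000000000000000000000000000100000000000000000000000000000000040000000000000000000000000000000010000000000000000000000000000000004000000000000000000000000000000001000000000000000000000000000000000400000000000000000000000000000000180000000000000000000000000000000040000000000000000000000000000000010000000000000000000000000000000004000000000000000000000000000000001000000000000000000000000000000000400000000000000000080000000000000100000000000000000000000000000000040000000000000000020000000000000010000000000000000010000000000000004000000000000000000000000000000001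

/-- literal -/
def T59 : ℕ := 0x1000000000000000000000000000000000400000000000000000000000000000000100000000000000000000000000000000060000000000000000000000000000000010000000000000000000000000000000004000000000000000000000000000000001000000000000000000000000000000000600000000000000000000000000000000100000000000000000000000000000000040000000000000000000000000000000010000000000000000000000000000000004000000000000000000000000000000001400000000000000000000000000000000500000000000000000000000000000000100000000000000000000000000000000040000000000000000000000000000000010000000000000000000000000000000004000000000000000000000000000000001400000000000000000000000000000000500000000000000000000000000000000100000000000000000000000000000000040000000000000000000000000000000010000000000000000000000000000000004000000000000000000000000000000001000000000000000000000000000000000600000000000000000000000000000000100000000000000000000000000000000040000000000000000000000000000000010000000000000000000000000000000006000000000000000000000000000000001000000000000000000000000000000000400000000000000000000000000000000100000000000000000000000000000000040000000000000000000000000000000014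00000000000000000000000000000000500000000000000000000000000000000100000000000000000000000000000000040000000000000000000000000000000010000000000000000000000000000000004000000000000000000000000000000001000000000000000000000000000000000600000000000000000000000000000000100000000000000000000000000000000040000000000000000000000000000000010000000000000000000000000000000006000000000000000000000000000000001000000000000000000000000000000000400000000000000000000000000000000100000000000000000000000000000000040000000000000000000000000000000018000000000000000000000000000000004000000000000000000000000000000001000000000000000000000000000000000400000000000000000000000000000000100000000000000000000000000000000060000000000000000000000000000000010000000000000000000000000000000004800000000000000000000000000000001200000000000000000000000000000000408000000000000002000000000000000100000000000000000000000000000000040000000000000000000000000000000010000000000000000000000000000000004000000000000000000000000000000001200000000000000000000000000000000480000000000000000000000000000000100000000000000000000000000000000040000000000000000000000000000000010000000000000000000000000000000006000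00000000000000000000000000000100000000000000000000000000000000040000000000000000000000000000000010000000000000000000000000000000004000000000000000000000000000000001800000000000000000000000000000000400000000000000000000000000000000100000000000000000000000000000000040000000000000000000000000000000010000000000000000000000000000000006000000000000000000000000000000001000000000000000000000000000000000400000000000000000000000000000000100000000000000000000000000000000060000000000000000000000000000000010000000000000000000000000000000004000000000000000000000000000000001000000000000000000000000000000000400000000000000000000000000000000140000000000000000000000000000000050000000000000000000000000000000010000000000000000000000000000000004000000000000000000000000000000001000000000000000000000000000000000400000000000000000000000000000000100000000000000000000000000000000060000000000000000000000000000000010000000000000000000000000000000004000000000000000000000000000000001000000000000000000000000000000000600000000000000000000000000000000100000000000000000000000000000000040000000000000000000000000000000010000000000000000000000000000000004000000000000000000000000000000001400000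00000000000000000000000000050000000000000000000000000000000010000000000000000000000000000000004000000000000000000000000000000001000000000000000000000000000000000400000000000000000000000000000000140000000000000000000000000000000050000000000000000000000000000000010000000000000000000000000000000004000000000000000000000000000000001000000000000000000000000000000000400000000000000000000000000000000100000000000000000000000000000000060000000000000000000000000000000010000000000000000000000000000000004000000000000000000000000000000001000000000000000000000000000000000600000000000000000000000000000000100000000000000000000000000000000040000000000000000000000000000000010000000000000000000000000000000004000000000000000000000000000000001000000000000000000800000000000000400000000000000000000000000000000100000000000000000200000000000000040000000000000000000000000000000010000000000000000000000000000000004000000000000000000000000000000001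

/-- literal -/
def T61 : ℕ := 0x1000000000000000000000000000000000400000000000000000000000000000000100000000000000000000000000000000040000000000000000000000000000000018000000000000000000000000000000004000000000000000000000000000000001000000000000000000000000000000000400000000000000000000000000000000180000000000000000000000000000000040000000000000000000000000000000010000000000000000000000000000000006000000000000000000000000000000001000000000000000000000000000000000400000000000000000000000000000000100000000000000000000000000000000060000000000000000000000000000000010000000000000000000000000000000006000000000000000000000000000000001000000000000000000000000000000000400000000000000000000000000000000100000000000000000000000000000000060000000000000000000000000000000010000000000000000000000000000000004000000000000000000000000000000001800000000000000000000000000000000400000000000000000000000000000000100000000000000000000000000000000040000000000000000000000000000000018000000000000000000000000000000004000000000000000000000000000000001000000000000000000000000000000000400000000000000000000000000000000100000000000000000000000000000000060000000000000000000000000000000010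00000000000000000000000000000000400000000000000000000000000000000100000000000000000000000000000000060000000000000000000000000000000010000000000000000000000000000000004000000000000000000000000000000001800000000000000000000000000000000400000000000000000000000000000000100000000000000000000000000000000040000000000000000000000000000000018000000000000000000000000000000004000000000000000000000000000000001000000000000000000000000000000000400000000000000000000000000000000100000000000000000000000000000000060000000000000000000000000000000010000000000000000000000000000000004000000000000000000000000000000001000000000000000000000000000000000400000000000000000000000000000000180000000000000000000000000000000040000000000000000000000000000000010000000000000000000000000000000004000000000000000000000000000000001800000000000000000000000000000000400000000000000000000000000000000140000000000000000000000000000000048000000000000001000000000000000010000000000000000000000000000000005000000000000000000000000000000001000000000000000000000000000000000400000000000000000000000000000000180000000000000000000000000000000040000000000000000000000000000000010000000000000000000000000000000004000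00000000000000000000000000000180000000000000000000000000000000040000000000000000000000000000000010000000000000000000000000000000004000000000000000000000000000000001000000000000000000000000000000000600000000000000000000000000000000100000000000000000000000000000000040000000000000000000000000000000010000000000000000000000000000000004000000000000000000000000000000001800000000000000000000000000000000400000000000000000000000000000000100000000000000000000000000000000040000000000000000000000000000000018000000000000000000000000000000004000000000000000000000000000000001000000000000000000000000000000000600000000000000000000000000000000100000000000000000000000000000000040000000000000000000000000000000010000000000000000000000000000000006000000000000000000000000000000001000000000000000000000000000000000400000000000000000000000000000000100000000000000000000000000000000040000000000000000000000000000000018000000000000000000000000000000004000000000000000000000000000000001000000000000000000000000000000000400000000000000000000000000000000180000000000000000000000000000000040000000000000000000000000000000010000000000000000000000000000000006000000000000000000000000000000001000000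00000000000000000000000000040000000000000000000000000000000010000000000000000000000000000000006000000000000000000000000000000001000000000000000000000000000000000600000000000000000000000000000000100000000000000000000000000000000040000000000000000000000000000000010000000000000000000000000000000006000000000000000000000000000000001000000000000000000000000000000000400000000000000000000000000000000180000000000000000000000000000000040000000000000000000000000000000010000000000000000000000000000000004000000000000000000000000000000001800000000000000000000000000000000400000000000000000000000000000000100000000000000000000000000000000040000000000000000000000000000000010000000000000000000000000000000004000000000000000004000000000000001000000000000000000000000000000000400000000000000001000000000000000100000000000000000000000000000000040000000000000000000000000000000010000000000000000000000000000000004000000000000000000000000000000001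

/-- literal -/
def T62 : ℕ := 0x1000000000000000000000000000000000400000000000000000000000000000000100000000000000000000000000000000040000000000000000000000000000000010000000000000000000000000000000006000000000000000000000000000000001000000000000000000000000000000000400000000000000000000000000000000100000000000000000000000000000000060000000000000000000000000000000010000000000000000000000000000000004000000000000000000000000000000001800000000000000000000000000000000400000000000000000000000000000000180000000000000000000000000000000040000000000000000000000000000000010000000000000000000000000000000004000000000000000000000000000000001800000000000000000000000000000000400000000000000000000000000000000180000000000000000000000000000000040000000000000000000000000000000010000000000000000000000000000000006000000000000000000000000000000001000000000000000000000000000000000400000000000000000000000000000000100000000000000000000000000000000060000000000000000000000000000000010000000000000000000000000000000004000000000000000000000000000000001000000000000000000000000000000000400000000000000000000000000000000100000000000000000000000000000000040000000000000000000000000000000018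00000000000000000000000000000000400000000000000000000000000000000180000000000000000000000000000000040000000000000000000000000000000010000000000000000000000000000000006000000000000000000000000000000001000000000000000000000000000000000400000000000000000000000000000000100000000000000000000000000000000060000000000000000000000000000000010000000000000000000000000000000004000000000000000000000000000000001000000000000000000000000000000000400000000000000000000000000000000180000000000000000000000000000000040000000000000000000000000000000010000000000000000000000000000000004000000000000000000000000000000001000000000000000000000000000000000600000000000000000000000000000000100000000000000000000000000000000040000000000000000000000000000000010000000000000000000000000000000006000000000000000000000000000000001000000000000000000000000000000000400000000000000000000000000000000180000000000000000000000000000000040000000000000000000000000000000018000000000000001000000000000000004000000000000000000000000000000001800000000000000000000000000000000400000000000000000000000000000000100000000000000000000000000000000060000000000000000000000000000000010000000000000000000000000000000004000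00000000000000000000000000000100000000000000000000000000000000060000000000000000000000000000000010000000000000000000000000000000004000000000000000000000000000000001000000000000000000000000000000000400000000000000000000000000000000180000000000000000000000000000000040000000000000000000000000000000010000000000000000000000000000000004000000000000000000000000000000001000000000000000000000000000000000600000000000000000000000000000000100000000000000000000000000000000040000000000000000000000000000000010000000000000000000000000000000006000000000000000000000000000000001000000000000000000000000000000000400000000000000000000000000000000180000000000000000000000000000000040000000000000000000000000000000018000000000000000000000000000000004000000000000000000000000000000001000000000000000000000000000000000400000000000000000000000000000000100000000000000000000000000000000040000000000000000000000000000000010000000000000000000000000000000006000000000000000000000000000000001000000000000000000000000000000000400000000000000000000000000000000100000000000000000000000000000000060000000000000000000000000000000010000000000000000000000000000000004000000000000000000000000000000001800000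00000000000000000000000000040000000000000000000000000000000018000000000000000000000000000000004000000000000000000000000000000001000000000000000000000000000000000400000000000000000000000000000000180000000000000000000000000000000040000000000000000000000000000000018000000000000000000000000000000004000000000000000000000000000000001000000000000000000000000000000000600000000000000000000000000000000100000000000000000000000000000000040000000000000000000000000000000010000000000000000000000000000000006000000000000000000000000000000001000000000000000000000000000000000400000000000000000000000000000000100000000000000000000000000000000040000000000000000000000000000000010000000000000000000000000000000004000000000000000000000000000000001000000000000000004000000000000000400000000000000000000000000000000100000000000000000000000000000000040000000000000000000000000000000010000000000000000000000000000000004000000000000000000000000000000001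

/-- literal -/
def T63 : ℕ := 0x1000000000000000000000000000000000400000000000000000000000000000000100000000000000000000000000000000040000000000000000000000000000000010000000000000000000000000000000004000000000000000000000000000000003000000000000000000000000000000000400000000000000000000000000000000100000000000000000000000000000000040000000000000000000000000000000030000000000000000000000000000000004000000000000000000000000000000001000000000000000000000000000000000c000000000000000000000000000000001000000000000000000000000000000000c0000000000000000000000000000000010000000000000000000000000000000004000000000000000000000000000000001000000000000000000000000000000000c000000000000000000000000000000001000000000000000000000000000000000c0000000000000000000000000000000010000000000000000000000000000000004000000000000000000000000000000003000000000000000000000000000000000400000000000000000000000000000000100000000000000000000000000000000040000000000000000000000000000000030000000000000000000000000000000004000000000000000000000000000000001000000000000000000000000000000000400000000000000000000000000000000100000000000000000000000000000000040000000000000000000000000000000010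00000000000000000000000000000000c000000000000000000000000000000001000000000000000000000000000000000c00000000000000000000000000000000100000000000000000000000000000000040000000000000000000000000000000030000000000000000000000000000000004000000000000000000000000000000001000000000000000000000000000000000400000000000000000000000000000000300000000000000000000000000000000040000000000000000000000000000000010000000000000000000000000000000004000000000000000000000000000000001000000000000000000000000000000000c00000000000000000000000000000000100000000000000000000000000000000040000000000000000000000000000000010000000000000000000000000000000004000000000000000000000000000000003000000000000000000000000000000000400000000000000000000000000000000100000000000000000000000000000000040000000000000000000000000000000030000000000000000000000000000000004000000000000000000000000000000001000000000000000000000000000000000c000000000000000000000000000000001000000000000000000000000000000000c000000000000000800000000000000001000000000000000000000000000000000c00000000000000000000000000000000100000000000000000000000000000000040000000000000000000000000000000030000000000000000000000000000000004000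000000000000000000000000000001000000000000000000000000000000000400000000000000000000000000000000300000000000000000000000000000000040000000000000000000000000000000010000000000000000000000000000000004000000000000000000000000000000001000000000000000000000000000000000c00000000000000000000000000000000100000000000000000000000000000000040000000000000000000000000000000010000000000000000000000000000000004000000000000000000000000000000003000000000000000000000000000000000400000000000000000000000000000000100000000000000000000000000000000040000000000000000000000000000000030000000000000000000000000000000004000000000000000000000000000000001000000000000000000000000000000000c000000000000000000000000000000001000000000000000000000000000000000c000000000000000000000000000000001000000000000000000000000000000000400000000000000000000000000000000100000000000000000000000000000000040000000000000000000000000000000010000000000000000000000000000000004000000000000000000000000000000003000000000000000000000000000000000400000000000000000000000000000000100000000000000000000000000000000040000000000000000000000000000000030000000000000000000000000000000004000000000000000000000000000000001000000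000000000000000000000000000c000000000000000000000000000000001000000000000000000000000000000000c0000000000000000000000000000000010000000000000000000000000000000004000000000000000000000000000000001000000000000000000000000000000000c000000000000000000000000000000001000000000000000000000000000000000c000000000000000000000000000000001000000000000000000000000000000000400000000000000000000000000000000300000000000000000000000000000000040000000000000000000000000000000010000000000000000000000000000000004000000000000000000000000000000003000000000000000000000000000000000400000000000000000000000000000000100000000000000000000000000000000040000000000000000000000000000000010000000000000000000000000000000004000000000000000000000000000000001000000000000000008000000000000000400000000000000000000000000000000100000000000000000000000000000000040000000000000000000000000000000010000000000000000000000000000000004000000000000000000000000000000001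

/-- literal -/
def T64 : ℕ := 0x100000000000000000000000000000000040000000000000000000000000000000010000000000000000000000000000000004000000000000000000000000000000001000000000000000000000000000000000c0000000000000000000000000000000010000000000000000000000000000000004000000000000000000000000000000001000000000000000000000000000000000c0000000000000000000000000000000010000000000000000000000000000000004000000000000000000000000000000003000000000000000000000000000000000400000000000000000000000000000000100000000000000000000000000000000040000000000000000000000000000000030000000000000000000000000000000004000000000000000000000000000000003000000000000000000000000000000000400000000000000000000000000000000100000000000000000000000000000000040000000000000000000000000000000030000000000000000000000000000000004000000000000000000000000000000001000000000000000000000000000000000c0000000000000000000000000000000010000000000000000000000000000000004000000000000000000000000000000001000000000000000000000000000000000c000000000000000000000000000000001000000000000000000000000000000000400000000000000000000000000000000100000000000000000000000000000000040000000000000000000000000000000030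00000000000000000000000000000000400000000000000000000000000000000100000000000000000000000000000000040000000000000000000000000000000030000000000000000000000000000000004000000000000000000000000000000001000000000000000000000000000000000c0000000000000000000000000000000010000000000000000000000000000000004000000000000000000000000000000001000000000000000000000000000000000c0000000000000000000000000000000010000000000000000000000000000000004000000000000000000000000000000001000000000000000000000000000000000400000000000000000000000000000000300000000000000000000000000000000040000000000000000000000000000000010000000000000000000000000000000004000000000000000000000000000000001000000000000000000000000000000000c0000000000000000000000000000000010000000000000000000000000000000004000000000000000000000000000000001000000000000000000000000000000000c000000000000000000000000000000001000000000000000000000000000000000400000000000000000000000000000000500000000000000000000000000000000040000000000000000000000000000000090000000000000002000000000000000014000000000000000000000000000000001000000000000000000000000000000000c0000000000000000000000000000000010000000000000000000000000000000004000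000000000000000000000000000001000000000000000000000000000000000c0000000000000000000000000000000010000000000000000000000000000000004000000000000000000000000000000001000000000000000000000000000000000400000000000000000000000000000000300000000000000000000000000000000040000000000000000000000000000000010000000000000000000000000000000004000000000000000000000000000000001000000000000000000000000000000000c0000000000000000000000000000000010000000000000000000000000000000004000000000000000000000000000000001000000000000000000000000000000000c00000000000000000000000000000000100000000000000000000000000000000040000000000000000000000000000000030000000000000000000000000000000004000000000000000000000000000000001000000000000000000000000000000000400000000000000000000000000000000300000000000000000000000000000000040000000000000000000000000000000010000000000000000000000000000000004000000000000000000000000000000001000000000000000000000000000000000c0000000000000000000000000000000010000000000000000000000000000000004000000000000000000000000000000001000000000000000000000000000000000c0000000000000000000000000000000010000000000000000000000000000000004000000000000000000000000000000003000000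000000000000000000000000000400000000000000000000000000000000100000000000000000000000000000000040000000000000000000000000000000030000000000000000000000000000000004000000000000000000000000000000003000000000000000000000000000000000400000000000000000000000000000000100000000000000000000000000000000040000000000000000000000000000000030000000000000000000000000000000004000000000000000000000000000000001000000000000000000000000000000000c0000000000000000000000000000000010000000000000000000000000000000004000000000000000000000000000000001000000000000000000000000000000000c00000000000000000000000000000000100000000000000000000000000000000040000000000000000000000000000000010000000000000000000000000000000004000000000000000020000000000000001000000000000000000000000000000000400000000000000008000000000000000100000000000000000000000000000000040000000000000000000000000000000010000000000000000000000000000000004000000000000000000000000000000001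

/-- literal -/
def T66 : ℕ := 0x1000000000000000000000000000000000400000000000000000000000000000000100000000000000000000000000000000040000000000000000000000000000000030000000000000000000000000000000004000000000000000000000000000000001000000000000000000000000000000000400000000000000000000000000000000300000000000000000000000000000000040000000000000000000000000000000010000000000000000000000000000000004000000000000000000000000000000001000000000000000000000000000000000400000000000000000000000000000000500000000000000000000000000000000140000000000000000000000000000000010000000000000000000000000000000004000000000000000000000000000000001000000000000000000000000000000000400000000000000000000000000000000500000000000000000000000000000000140000000000000000000000000000000010000000000000000000000000000000004000000000000000000000000000000001000000000000000000000000000000000400000000000000000000000000000000300000000000000000000000000000000040000000000000000000000000000000010000000000000000000000000000000004000000000000000000000000000000003000000000000000000000000000000000400000000000000000000000000000000100000000000000000000000000000000040000000000000000000000000000000010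0000000000000000000000000000000040000000000000000000000000000000050000000000000000000000000000000014000000000000000000000000000000001000000000000000000000000000000000400000000000000000000000000000000100000000000000000000000000000000040000000000000000000000000000000030000000000000000000000000000000004000000000000000000000000000000001000000000000000000000000000000000400000000000000000000000000000000300000000000000000000000000000000040000000000000000000000000000000010000000000000000000000000000000004000000000000000000000000000000001000000000000000000000000000000000c000000000000000000000000000000001000000000000000000000000000000000400000000000000000000000000000000100000000000000000000000000000000040000000000000000000000000000000030000000000000000000000000000000004000000000000000000000000000000001000000000000000000000000000000000400000000000000000000000000000000900000000000000000000000000000000240000000000000000000000000000000010000000000000000000000000000000004000000000000000000000000000000001000000000000000000000000000000000400000000000000000000000000000008100000000000000040000000000000000240000000000000000000000000000000090000000000000000000000000000000004000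00000000000000000000000000000300000000000000000000000000000000040000000000000000000000000000000010000000000000000000000000000000004000000000000000000000000000000001000000000000000000000000000000000c00000000000000000000000000000000100000000000000000000000000000000040000000000000000000000000000000010000000000000000000000000000000004000000000000000000000000000000003000000000000000000000000000000000400000000000000000000000000000000100000000000000000000000000000000040000000000000000000000000000000030000000000000000000000000000000004000000000000000000000000000000001000000000000000000000000000000000400000000000000000000000000000000100000000000000000000000000000000040000000000000000000000000000000050000000000000000000000000000000014000000000000000000000000000000001000000000000000000000000000000000400000000000000000000000000000000100000000000000000000000000000000040000000000000000000000000000000030000000000000000000000000000000004000000000000000000000000000000001000000000000000000000000000000000400000000000000000000000000000000300000000000000000000000000000000040000000000000000000000000000000010000000000000000000000000000000004000000000000000000000000000000001000000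00000000000000000000000000040000000000000000000000000000000050000000000000000000000000000000014000000000000000000000000000000001000000000000000000000000000000000400000000000000000000000000000000100000000000000000000000000000000040000000000000000000000000000000050000000000000000000000000000000014000000000000000000000000000000001000000000000000000000000000000000400000000000000000000000000000000100000000000000000000000000000000040000000000000000000000000000000030000000000000000000000000000000004000000000000000000000000000000001000000000000000000000000000000000400000000000000000000000000000000300000000000000000000000000000000040000000000000000000000000000000010000000000000000000000000000000004000000000000000000000000000000001000000000000000040000000000000000400000000000000000000000000000000100000000000000010000000000000000040000000000000000000000000000000010000000000000000000000000000000004000000000000000000000000000000001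

/-- literal -/
def T69 : ℕ := 0x10000000000000000000000000000000004000000000000000000000000000000001000000000000000000000000000000000c0000000000000000000000000000000010000000000000000000000000000000004000000000000000000000000000000001000000000000000000000000000000000400000000000000000000000000000000100000000000000000000000000000000040000000000000000000000000000000010000000000000000000000000000000024000000000000000000000000000000009000000000000000000000000000000002400000000000000000000000000000000100000000000000000000000000000000040000000000000000000000000000000010000000000000000000000000000000004000000000000000000000000000000001000000000000000000000000000000000400000000000000000000000000000000100000000000000000000000000000000040000000000000000000000000000000010000000000000000000000000000000024000000000000000000000000000000009000000000000000000000000000000002400000000000000000000000000000000100000000000000000000000000000000040000000000000000000000000000000010000000000000000000000000000000004000000000000000000000000000000001000000000000000000000000000000000c00000000000000000000000000000000100000000000000000000000000000000040000000000000000000000000000000010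00000000000000000000000000000000400000000000000000000000000000000100000000000000000000000000000000040000000000000000000000000000000010000000000000000000000000000000024000000000000000000000000000000009000000000000000000000000000000002400000000000000000000000000000000100000000000000000000000000000000040000000000000000000000000000000010000000000000000000000000000000004000000000000000000000000000000001000000000000000000000000000000000c00000000000000000000000000000000100000000000000000000000000000000040000000000000000000000000000000010000000000000000000000000000000004000000000000000000000000000000003000000000000000000000000000000000400000000000000000000000000000000100000000000000000000000000000000040000000000000000000000000000000010000000000000000000000000000000044000000000000000000000000000000011000000000000000000000000000000004400000000000000000000000000000000100000000000000000000000000000000040000000000000000000000000000000010000000000000000000000000000000004000000000000000000000000000000001000000000000000000000000000000000400000000000000000000000000000000100000000000000000000000000000000040000000000000000000000000000000010000000000000000000000000000008004000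0000000000040000000000000000110000000000000000000000000000000044000000000000000000000000000000011000000000000000000000000000000000400000000000000000000000000000000300000000000000000000000000000000040000000000000000000000000000000010000000000000000000000000000000004000000000000000000000000000000001000000000000000000000000000000000c0000000000000000000000000000000010000000000000000000000000000000004000000000000000000000000000000001000000000000000000000000000000000400000000000000000000000000000000100000000000000000000000000000000040000000000000000000000000000000010000000000000000000000000000000024000000000000000000000000000000009000000000000000000000000000000002400000000000000000000000000000000100000000000000000000000000000000040000000000000000000000000000000010000000000000000000000000000000004000000000000000000000000000000001000000000000000000000000000000000c0000000000000000000000000000000010000000000000000000000000000000004000000000000000000000000000000001000000000000000000000000000000000400000000000000000000000000000000100000000000000000000000000000000040000000000000000000000000000000010000000000000000000000000000000024000000000000000000000000000000009000000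000000000000000000000000002400000000000000000000000000000000100000000000000000000000000000000040000000000000000000000000000000010000000000000000000000000000000004000000000000000000000000000000001000000000000000000000000000000000400000000000000000000000000000000100000000000000000000000000000000040000000000000000000000000000000010000000000000000000000000000000024000000000000000000000000000000009000000000000000000000000000000002400000000000000000000000000000000100000000000000000000000000000000040000000000000000000000000000000010000000000000000000000000000000004000000000000000000000000000000001000000000000000000000000000000000c0000000000000000000000000000000010000000000000000000000000000000004000000000000000000000000000000001000000000000000000000000000000000400000000000000100000000000000000100000000000000000000000000000000040000000000000040000000000000000010000000000000020000000000000000004000000000000000000000000000000001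

/-- literal -/
def T73 : ℕ := 0x1000000000000000000000000000000000400000000000000000000000000000000300000000000000000000000000000000040000000000000000000000000000000010000000000000000000000000000000004000000000000000000000000000000001000000000000000000000000000000000400000000000000000000000000000000100000000000000000000000000000000040000000000000000000000000000000010000000000000000000000000000000004000000000000000000000000000000001000000000000000000000000000000000400000000000000000000000000000000100000000000000000000000000000000040000000000000000000000000000000010000000000000000000000000000000104000000000000000000000000000000041000000000000000000000000000000010400000000000000000000000000000004100000000000000000000000000000001040000000000000000000000000000000410000000000000000000000000000000004000000000000000000000000000000001000000000000000000000000000000000400000000000000000000000000000000100000000000000000000000000000000040000000000000000000000000000000010000000000000000000000000000000004000000000000000000000000000000001000000000000000000000000000000000400000000000000000000000000000000300000000000000000000000000000000040000000000000000000000000000000010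00000000000000000000000000000000400000000000000000000000000000000100000000000000000000000000000000040000000000000000000000000000000010000000000000000000000000000000004000000000000000000000000000000001000000000000000000000000000000000400000000000000000000000000000000100000000000000000000000000000000440000000000000000000000000000000110000000000000000000000000000000044000000000000000000000000000000011000000000000000000000000000000000400000000000000000000000000000000100000000000000000000000000000000040000000000000000000000000000000010000000000000000000000000000000004000000000000000000000000000000001000000000000000000000000000000008400000000000000000000000000000002100000000000000000000000000000000840000000000000000000000000000000210000000000000000000000000000000004000000000000000000000000000000001000000000000000000000000000000000400000000000000000000000000000000100000000000000000000000000000000040000000000000000000000000000000010000000000000000000000000000000004000000000000000000000000000000001000000000000000000000000000000000400000000000000000000000000000000100000000000000000000000000000000040000000000000000000000000000000010000000000000000000000000000000004000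00000000000000000000000000000100000000000000000000000000000000040000000000000000000000000000000010000000000000000000000000000800004000000000000020000000000000000021000000000000000000000000000000008400000000000000000000000000000002100000000000000000000000000000000840000000000000000000000000000000010000000000000000000000000000000004000000000000000000000000000000001000000000000000000000000000000000400000000000000000000000000000000100000000000000000000000000000000440000000000000000000000000000000110000000000000000000000000000000044000000000000000000000000000000011000000000000000000000000000000000400000000000000000000000000000000100000000000000000000000000000000040000000000000000000000000000000010000000000000000000000000000000004000000000000000000000000000000001000000000000000000000000000000000400000000000000000000000000000000300000000000000000000000000000000040000000000000000000000000000000010000000000000000000000000000000004000000000000000000000000000000001000000000000000000000000000000000400000000000000000000000000000000100000000000000000000000000000000040000000000000000000000000000000010000000000000000000000000000000004000000000000000000000000000000001000000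00000000000000000000000000040000000000000000000000000000000010000000000000000000000000000000004000000000000000000000000000000001000000000000000000000000000000010400000000000000000000000000000004100000000000000000000000000000001040000000000000000000000000000000410000000000000000000000000000000104000000000000000000000000000000041000000000000000000000000000000000400000000000000000000000000000000100000000000000000000000000000000040000000000000000000000000000000010000000000000000000000000000000004000000000000000000000000000000001000000000000000000000000000000000400000000000000000000000000000000100000000000000000000000000000000040000000000000000000000000000000030000000000000000000000000000000004000000000000000000000000000000001000000000000000000000000000000000400000000000000000000000000000000100000000000000800000000000000000040000000000000000000000000000000010000000000000000000000000000000004000000000000100000000000000000001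

/-- literal -/
def P1 : ℕ := 0x1000000000000000000000000000000000400000000000000000000000000000000100000000000000000000000000000000040000000000000000000000000000000010000000000000000000000000000000002000000000000000000000000000000003000000000000000000000000000000000400000000000000000000000000000000100000000000000000000000000000000020000000000000000000000000000000030000000000000000000000000000000004000000000000000000000000000000000800000000000000000000000000000000c000000000000000000000000000000000800000000000000000000000000000000c0000000000000000000000000000000010000000000000000000000000000000004000000000000000000000000000000000800000000000000000000000000000000c000000000000000000000000000000000800000000000000000000000000000000c00000000000000000000000000000000100000000000000000000000000000000020000000000000000000000000000000030000000000000000000000000000000004000000000000000000000000000000001000000000000000000000000000000000200000000000000000000000000000000300000000000000000000000000000000040000000000000000000000000000000010000000000000000000000000000000004000000000000000000000000000000001000000000000000000000000000000000400000000000000000000000000000000080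0000000000000000000000000000000c000000000000000000000000000000000800000000000000000000000000000000c00000000000000000000000000000000100000000000000000000000000000000020000000000000000000000000000000030000000000000000000000000000000004000000000000000000000000000000001000000000000000000000000000000000200000000000000000000000000000000300000000000000000000000000000000040000000000000000000000000000000010000000000000000000000000000000004000000000000000000000000000000000800000000000000000000000000000000c00000000000000000000000000000000100000000000000000000000000000000040000000000000000000000000000000010000000000000000000000000000000002000000000000000000000000000000003000000000000000000000000000000000400000000000000000000000000000000100000000000000000000000000000000020000000000000000000000000000000030000000000000000000000000000000004000000000000000000000000000000000800000000000000000000000000000000c000000000000000000000000000000000800000000000000000000000000000000c000000000000000800000000000000000800000000000000000000000000000000c000000000000000000000000000000001000000000000000000000000000000000200000000000000000000000000000000300000000000000000000000000000000040000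00000000000000000000000000001000000000000000000000000000000000200000000000000000000000000000000300000000000000000000000000000000040000000000000000000000000000000010000000000000000000000000000000004000000000000000000000000000000000800000000000000000000000000000000c00000000000000000000000000000000100000000000000000000000000000000040000000000000000000000000000000010000000000000000000000000000000002000000000000000000000000000000003000000000000000000000000000000000400000000000000000000000000000000100000000000000000000000000000000020000000000000000000000000000000030000000000000000000000000000000004000000000000000000000000000000000800000000000000000000000000000000c000000000000000000000000000000000800000000000000000000000000000000c0000000000000000000000000000000010000000000000000000000000000000004000000000000000000000000000000001000000000000000000000000000000000400000000000000000000000000000000100000000000000000000000000000000020000000000000000000000000000000030000000000000000000000000000000004000000000000000000000000000000001000000000000000000000000000000000200000000000000000000000000000000300000000000000000000000000000000040000000000000000000000000000000008000000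00000000000000000000000000c000000000000000000000000000000000800000000000000000000000000000000c0000000000000000000000000000000010000000000000000000000000000000004000000000000000000000000000000000800000000000000000000000000000000c000000000000000000000000000000000800000000000000000000000000000000c000000000000000000000000000000001000000000000000000000000000000000200000000000000000000000000000000300000000000000000000000000000000040000000000000000000000000000000010000000000000000000000000000000002000000000000000000000000000000003000000000000000000000000000000000400000000000000000000000000000000100000000000000000000000000000000040000000000000000000000000000000010000000000000000000000000000000004000000000000000000000000000000001000000000000000004000000000000000c00000000000000000000000000000000100000000000000000000000000000000040000000000000000000000000000000010000000000000000000000000000000004000000000000000000000000000000001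

/-- literal -/
def P2 : ℕ := 0x1000000000000000000000000000000000400000000000000000000000000000000100000000000000000000000000000000040000000000000000000000000000000010000000000000000000000000000000002000000000000000000000000000000007000000000000000000000000000000000400000000000000000000000000000000100000000000000000000000000000000020000000000000000000000000000000070000000000000000000000000000000004000000000000000000000000000000000800000000000000000000000000000001c000000000000000000000000000000000800000000000000000000000000000000c0000000000000000000000000000000030000000000000000000000000000000004000000000000000000000000000000000800000000000000000000000000000001c000000000000000000000000000000000800000000000000000000000000000000c0000000000000000000000000000000030000000000000000000000000000000002000000000000000000000000000000003000000000000000000000000000000000c0000000000000000000000000000000010000000000000000000000000000000002000000000000000000000000000000003000000000000000000000000000000000c0000000000000000000000000000000010000000000000000000000000000000004000000000000000000000000000000001000000000000000000000000000000000400000000000000000000000000000000080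0000000000000000000000000000001c000000000000000000000000000000000800000000000000000000000000000000c0000000000000000000000000000000030000000000000000000000000000000002000000000000000000000000000000003000000000000000000000000000000000c0000000000000000000000000000000010000000000000000000000000000000002000000000000000000000000000000003000000000000000000000000000000000c0000000000000000000000000000000010000000000000000000000000000000004000000000000000000000000000000000800000000000000000000000000000000c00000000000000000000000000000000300000000000000000000000000000000040000000000000000000000000000000010000000000000000000000000000000002000000000000000000000000000000003000000000000000000000000000000000c0000000000000000000000000000000010000000000000000000000000000000002000000000000000000000000000000003000000000000000000000000000000000c000000000000000000000000000000000800000000000000000000000000000000c000000000000000000000000000000000800000000000000000000000000000003c000000000000000800000000000000002800000000000000000000000000000005c000000000000001000000000000000001000000000000000000000000000000000200000000000000000000000000000000700000000000000000000000000000000040000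00000000000000000000000000001000000000000000000000000000000000200000000000000000000000000000000700000000000000000000000000000000040000000000000000000000000000000010000000000000000000000000000000004000000000000000000000000000000000800000000000000000000000000000001c00000000000000000000000000000000100000000000000000000000000000000040000000000000000000000000000000010000000000000000000000000000000002000000000000000000000000000000007000000000000000000000000000000000400000000000000000000000000000000100000000000000000000000000000000020000000000000000000000000000000070000000000000000000000000000000004000000000000000000000000000000000800000000000000000000000000000001c000000000000000000000000000000000800000000000000000000000000000000c0000000000000000000000000000000030000000000000000000000000000000004000000000000000000000000000000001000000000000000000000000000000000400000000000000000000000000000000100000000000000000000000000000000020000000000000000000000000000000070000000000000000000000000000000004000000000000000000000000000000001000000000000000000000000000000000200000000000000000000000000000000700000000000000000000000000000000040000000000000000000000000000000008000000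00000000000000000000000001c000000000000000000000000000000000800000000000000000000000000000000c0000000000000000000000000000000030000000000000000000000000000000004000000000000000000000000000000000800000000000000000000000000000001c000000000000000000000000000000000800000000000000000000000000000000c0000000000000000000000000000000030000000000000000000000000000000002000000000000000000000000000000003000000000000000000000000000000000c0000000000000000000000000000000010000000000000000000000000000000002000000000000000000000000000000003000000000000000000000000000000000c00000000000000000000000000000000100000000000000000000000000000000040000000000000000000000000000000010000000000000000000000000000000004000000000000000020000000000000001000000000000000014000000000000000c00000000000000008000000000000000100000000000000000000000000000000040000000000000000000000000000000010000000000000000000000000000000004000000000000000000000000000000001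

/-- literal -/
def P3 : ℕ := 0x10000000000000000000000000000000004000000000000000000000000000000001000000000000000000000000000000000400000000000000000000000000000000180000000000000000000000000000000020000000000000000000000000000000050000000000000000000000000000000004000000000000000000000000000000001800000000000000000000000000000000200000000000000000000000000000000500000000000000000000000000000000060000000000000000000000000000000008000000000000000000000000000000014000000000000000000000000000000000c00000000000000000000000000000000e00000000000000000000000000000000200000000000000000000000000000000060000000000000000000000000000000008000000000000000000000000000000014000000000000000000000000000000000c00000000000000000000000000000000e00000000000000000000000000000000200000000000000000000000000000000030000000000000000000000000000000038000000000000000000000000000000008000000000000000000000000000000001000000000000000000000000000000000300000000000000000000000000000000380000000000000000000000000000000080000000000000000000000000000000010000000000000000000000000000000004000000000000000000000000000000001000000000000000000000000000000000600000000000000000000000000000000080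00000000000000000000000000000014000000000000000000000000000000000c00000000000000000000000000000000e00000000000000000000000000000000200000000000000000000000000000000030000000000000000000000000000000038000000000000000000000000000000008000000000000000000000000000000001000000000000000000000000000000000300000000000000000000000000000000380000000000000000000000000000000080000000000000000000000000000000010000000000000000000000000000000004000000000000000000000000000000000c00000000000000000000000000000000e00000000000000000000000000000000200000000000000000000000000000000040000000000000000000000000000000010000000000000000000000000000000003000000000000000000000000000000003800000000000000000000000000000000800000000000000000000000000000000100000000000000000000000000000000030000000000000000000000000000000038000000000000000000000000000000008000000000000000000000000000000000900000000000000020000000000000000e800000000000000100000000000000000a000000000000000000000000000000035000000000000000c000000000000000020000000000000000000000000000000050000000000000000000000000000000001800000000000000000000000000000000200000000000000000000000000000000500000000000000000000000000000000040000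000000000000000000000000000018000000000000000000000000000000002000000000000000000000000000000005000000000000000000000000000000000400000000000000000000000000000000100000000000000000000000000000000060000000000000000000000000000000008000000000000000000000000000000014000000000000000000000000000000001000000000000000000000000000000000400000000000000000000000000000000180000000000000000000000000000000020000000000000000000000000000000050000000000000000000000000000000004000000000000000000000000000000001800000000000000000000000000000000200000000000000000000000000000000500000000000000000000000000000000060000000000000000000000000000000008000000000000000000000000000000014000000000000000000000000000000000c00000000000000000000000000000000e0000000000000000000000000000000020000000000000000000000000000000004000000000000000000000000000000001000000000000000000000000000000000400000000000000000000000000000000180000000000000000000000000000000020000000000000000000000000000000050000000000000000000000000000000004000000000000000000000000000000001800000000000000000000000000000000200000000000000000000000000000000500000000000000000000000000000000060000000000000000000000000000000008000000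000000000000000000000000014000000000000000000000000000000000c00000000000000000000000000000000e00000000000000000000000000000000200000000000000000000000000000000060000000000000000000000000000000008000000000000000000000000000000014000000000000000000000000000000000c00000000000000000000000000000000e000000000000000000000000000000002000000000000000000000000000000000300000000000000000000000000000000380000000000000000000000000000000080000000000000000000000000000000010000000000000000000000000000000003000000000000000000000000000000003800000000000000000000000000000000800000000000000000000000000000000100000000000000000000000000000000040000000000000000000000000000000010000000000000000000000000000000004000000000000000020000000000000001800000000000000015000000000000000800000000000000008000000000000000300000000000000000000000000000000040000000000000000000000000000000010000000000000000000000000000000004000000000000000000000000000000001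

/-- literal -/
def P4 : ℕ := 0x100000000000000000000000000000000040000000000000000000000000000000010000000000000000000000000000000004000000000000000000000000000000003800000000000000000000000000000000200000000000000000000000000000000d0000000000000000000000000000000004000000000000000000000000000000003800000000000000000000000000000000200000000000000000000000000000000d00000000000000000000000000000000060000000000000000000000000000000008000000000000000000000000000000014000000000000000000000000000000002c00000000000000000000000000000003e00000000000000000000000000000000a00000000000000000000000000000000060000000000000000000000000000000008000000000000000000000000000000014000000000000000000000000000000002c00000000000000000000000000000003e00000000000000000000000000000000a00000000000000000000000000000000030000000000000000000000000000000038000000000000000000000000000000008000000000000000000000000000000003000000000000000000000000000000000300000000000000000000000000000000380000000000000000000000000000000080000000000000000000000000000000030000000000000000000000000000000004000000000000000000000000000000001000000000000000000000000000000000600000000000000000000000000000000080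00000000000000000000000000000014000000000000000000000000000000002c00000000000000000000000000000003e00000000000000000000000000000000a00000000000000000000000000000000030000000000000000000000000000000038000000000000000000000000000000008000000000000000000000000000000003000000000000000000000000000000000300000000000000000000000000000000380000000000000000000000000000000080000000000000000000000000000000030000000000000000000000000000000004000000000000000000000000000000000c00000000000000000000000000000000e000000000000000000000000000000002000000000000000000000000000000000c0000000000000000000000000000000010000000000000000000000000000000003000000000000000000000000000000003800000000000000000000000000000000800000000000000000000000000000000300000000000000000000000000000000030000000000000000000000000000000038000000000000000000000000000000008000000000000000000000000000000006900000000000000020000000000000007e800000000000000100000000000000000a0000000000000000000000000000001f5000000000000000c000000000000000020000000000000000000000000000000250000000000000000000000000000000085800000000000000400000000000000001200000000000000000000000000000020d00000000000000100000000000000000040000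00000000000000000000000000003800000000000000000000000000000000200000000000000000000000000000000d0000000000000000000000000000000004000000000000000000000000000000001000000000000000000000000000000000e00000000000000000000000000000000080000000000000000000000000000000340000000000000000000000000000000010000000000000000000000000000000004000000000000000000000000000000003800000000000000000000000000000000200000000000000000000000000000000d0000000000000000000000000000000004000000000000000000000000000000003800000000000000000000000000000000200000000000000000000000000000000d00000000000000000000000000000000060000000000000000000000000000000008000000000000000000000000000000014000000000000000000000000000000002c00000000000000000000000000000003e00000000000000000000000000000000a00000000000000000000000000000000040000000000000000000000000000000010000000000000000000000000000000004000000000000000000000000000000003800000000000000000000000000000000200000000000000000000000000000000d0000000000000000000000000000000004000000000000000000000000000000003800000000000000000000000000000000200000000000000000000000000000000d00000000000000000000000000000000060000000000000000000000000000000008000000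000000000000000000000000014000000000000000000000000000000002c00000000000000000000000000000003e00000000000000000000000000000000a00000000000000000000000000000000060000000000000000000000000000000008000000000000000000000000000000014000000000000000000000000000000002c00000000000000000000000000000003e00000000000000000000000000000000a0000000000000000000000000000000003000000000000000000000000000000003800000000000000000000000000000000800000000000000000000000000000000300000000000000000000000000000000030000000000000000000000000000000038000000000000000000000000000000008000000000000000000000000000000003000000000000000000000000000000000400000000000000000000000000000000100000000000000000000000000000000040000000000000001a0000000000000001800000000000000095000000000000000800000000000000068000000000000000300000000000000010000000000000000040000000000000000000000000000000010000000000000000000000000000000004000000000000000000000000000000001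

/-- literal -/
def P5 : ℕ := 0x10000000000000000000000000000000004000000000000000000000000000000001000000000000000000000000000000000c000000000000000000000000000000007800000000000000000000000000000000200000000000000000000000000000001d0000000000000000000000000000000004000000000000000000000000000000003800000000000000000000000000000000200000000000000000000000000000000d000000000000000000000000000000003600000000000000000000000000000000480000000000000000000000000000000b4000000000000000000000000000000012c0000000000000000000000000000001be00000000000000000000000000000004a00000000000000000000000000000000060000000000000000000000000000000008000000000000000000000000000000014000000000000000000000000000000002c00000000000000000000000000000003e00000000000000000000000000000000a000000000000000000000000000000001b00000000000000000000000000000001f800000000000000000000000000000004800000000000000000000000000000001300000000000000000000000000000000030000000000000000000000000000000038000000000000000000000000000000008000000000000000000000000000000003000000000000000000000000000000000c000000000000000000000000000000001000000000000000000000000000000000600000000000000000000000000000000080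00000000000000000000000000000014000000000000000000000000000000002c00000000000000000000000000000003e00000000000000000000000000000000a000000000000000000000000000000001b00000000000000000000000000000001f800000000000000000000000000000004800000000000000000000000000000001300000000000000000000000000000000030000000000000000000000000000000038000000000000000000000000000000008000000000000000000000000000000003000000000000000000000000000000000c000000000000000000000000000000000c00000000000000000000000000000000e000000000000000000000000000000002000000000000000000000000000000000c00000000000000000000000000000000300000000000000000000000000000000030000000000000000000000000000000038000000000000000000000000000000008000000000000000000000000000000003000000000000000000000000000000003300000000000000000000000000000003b8000000000000000000000000000000088000000000000000000000000000000066900000000000000020000000000000077e800000000000000100000000000000000a000000000000000000000000000001df5000000000000000c000000000000000020000000000000000000000000000002250000000000000000000000000000000c85800000000000000400000000000000001200000000000000000000000000000320d00000000000000100000000000000080040000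0000000000400000000000000401b800000000000002000000000000000002200000000000000000000000000001005d0000000000000080000000000000000004000000000000000000000000000000003000000000000000000000000000000001e0000000000000000000000000000000008000000000000000000000000000000074000000000000000000000000000000001000000000000000000000000000000000c000000000000000000000000000000007800000000000000000000000000000000200000000000000000000000000000001d0000000000000000000000000000000004000000000000000000000000000000003800000000000000000000000000000000200000000000000000000000000000000d000000000000000000000000000000003600000000000000000000000000000000480000000000000000000000000000000b4000000000000000000000000000000012c0000000000000000000000000000001be00000000000000000000000000000004a0000000000000000000000000000000004000000000000000000000000000000001000000000000000000000000000000000c000000000000000000000000000000007800000000000000000000000000000000200000000000000000000000000000001d0000000000000000000000000000000004000000000000000000000000000000003800000000000000000000000000000000200000000000000000000000000000000d00000000000000000000000000000000360000000000000000000000000000000048000000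0000000000000000000000000b4000000000000000000000000000000012c0000000000000000000000000000001be00000000000000000000000000000004a00000000000000000000000000000000060000000000000000000000000000000008000000000000000000000000000000014000000000000000000000000000000002c00000000000000000000000000000003e00000000000000000000000000000000a000000000000000000000000000000001b00000000000000000000000000000001f800000000000000000000000000000004800000000000000000000000000000001300000000000000000000000000000000030000000000000000000000000000000038000000000000000000000000000000008000000000000000000000000000000003000000000000000000000000000000000c00000000000000000000000000000000100000000000000000000000000000000040000000000000019a0000000000000001800000000000000895000000000000000800000000000000768000000000000000300000000000000110000000000000000040000000000000040000000000000000010000000000000020000000000000000004000000000000000000000000000000001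

/-- literal -/
def P6 : ℕ := 0x10000000000000000000000000000000004000000000000000000000000000000001800000000000000000000000000000000800000000000000000000000000000000580000000000000000000000000000000020000000000000000000000000000000150000000000000000000000000000000004000000000000000000000000000000003b00000000000000000000000000000000240000000000000000000000000000000da00000000000000000000000000000003000000000000000000000000000000000400000000000000000000000000000000a0000000000000000000000000000000010c00000000000000000000000000000018e00000000000000000000000000000004200000000000000000000000000000000060000000000000000000000000000000008000000000000000000000000000000014000000000000000000000000000000002d80000000000000000000000000000003fc0000000000000000000000000000000a400000000000000000000000000000001800000000000000000000000000000001c0000000000000000000000000000000040000000000000000000000000000000011000000000000000000000000000000000300000000000000000000000000000000380000000000000000000000000000000080000000000000000000000000000000038000000000000000000000000000000008000000000000000000000000000000001000000000000000000000000000000000600000000000000000000000000000000080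00000000000000000000000000000014000000000000000000000000000000002d80000000000000000000000000000003fc0000000000000000000000000000000a400000000000000000000000000000001800000000000000000000000000000001c0000000000000000000000000000000040000000000000000000000000000000011000000000000000000000000000000000300000000000000000000000000000000380000000000000000000000000000000080000000000000000000000000000000038000000000000000000000000000000008000000000000000000000000000000000c00000000000000000000000000000000e000000000000000000000000000000002000000000000000000000000000000000e0000000000000000000000000000000020000000000000000000000000000000003300000000000000000000000000000003b80000000000000000000000000000000880000000000000000000000000000000320080000000000000080000000000000300000000000000000000000000000000380000000000000000000000000000000080000000000000000000000000000000060900000000000000020000000000000070e800000000000000100000000000000000a000000000000000000000000000001c35000000000000000c000000000000000020000000000000000000000000000002050000000000000000000000000000000c05980000000000000600000000000000001220000000000000000000000000000300d50000000000000180000000000000080000000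000000000000000000000000040180000000000000000000000000000000020000000000000000000000000000010050000000000000000000000000000000000600000000000000000000000000000000200000000000000000000000000000000160000000000000000000000000000000008000000000000000000000000000000054000000000000000000000000000000001800000000000000000000000000000000800000000000000000000000000000000580000000000000000000000000000000020000000000000000000000000000000150000000000000000000000000000000004000000000000000000000000000000003b00000000000000000000000000000000240000000000000000000000000000000da00000000000000000000000000000003000000000000000000000000000000000400000000000000000000000000000000a0000000000000000000000000000000010c00000000000000000000000000000018e0000000000000000000000000000000420000000000000000000000000000000004000000000000000000000000000000001800000000000000000000000000000000800000000000000000000000000000000580000000000000000000000000000000020000000000000000000000000000000150000000000000000000000000000000004000000000000000000000000000000003b00000000000000000000000000000000240000000000000000000000000000000da0000000000000000000000000000000300000000000000000000000000000000040000000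0000000000000000000000000a0000000000000000000000000000000010c00000000000000000000000000000018e00000000000000000000000000000004200000000000000000000000000000000060000000000000000000000000000000008000000000000000000000000000000014000000000000000000000000000000002d80000000000000000000000000000003fc0000000000000000000000000000000a400000000000000000000000000000001800000000000000000000000000000001c00000000000000000000000000000000400000000000000000000000000000000110000000000000000000000000000000003000000000000000000000000000000003800000000000000000000000000000000800000000000000000000000000000000380000000000000000000000000000000080000000000000000000000000000000010000000000000000000000000000000004000000000000001820000000000000001800000000000000815000000000000000800000000000000708000000000000000380000000000000100000000000000000040000000000000040000000000000000030000000000000020000000000000000014000000000000000000000000000000001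

/-- literal -/
def P7 : ℕ := 0x10000000000000000000000000000000006000000000000000000000000000000001800000000000000000000000000000000800000000000000000000000000000000580000000000000000000000000000000020000000000000000000000000000000150000000000000000000000000000000004000000000000000000000000000000003b0c000000000000000000000000000000241000000000000000000000000000000da28000000000000000000000000000003000000000000000000000000000000000400000000000000000000000000000000a0000000000000000000000000000000010c30000000000000000000000000000018e38000000000000000000000000000004208000000000000000000000000000000060000000000000000000000000000000008000000000000000000000000000000014000000000000000000000000000000002d80000000000000000000000000000003fc0000000000000000000000000000000a400000000000000000000000000000001800000000000000000000000000000001c000000000000000000000000000000004000000000000000000000000000000001100000000000000000000000000000000030000000000000000000000000000000038000000000000000000000000000000008000000000000000000000000000000003c000000000000000000000000000000008000000000000000000000000000000001000000000000000000000000000000000600000000000000000000000000000000080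00000000000000000000000000000014000000000000000000000000000000002d98000000000000000000000000000003fdc000000000000000000000000000000a440000000000000000000000000000001800000000000000000000000000000001c0000000000000000000000000000000040000000000000000000000000000000011100000000000000000000000000000000300000000000000000000000000000000380000000000000000000000000000000080000000000000000000000000000000038000000000000000000000000000000008000000000000000000000000000000000c60000000000000000000000000000000e700000000000000000000000000000002100000000000000000000000000000000e6000100000000000000800000000000021000000000000000000000000000000003300000000000000000000000000000003b8000000000000000000000000000000088000000000000000000000000000000032008c000000000000080000000000000300000000000000000000000000000000380000000000000000000000000000000080000000000000000000000000000000060900000000000000020000000000000070e800000000000000100000000000000000a000000000000000000000000000001c35000000000000000c000000000000000020000000000000000000000000000002050000000000000000000000000000000c059ac000000000000600000000000000001221000000000000000000000000000300d5a800000000000180000000000000080000000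000000000000000000000000040180000000000000000000000000000000020000000000000000000000000000010050000000000000000000000000000000000600000000000000000000000000000000200000000000000000000000000000000160000000000000000000000000000000008000000000000000000000000000000054000000000000000000000000000000001880000000000000000000000000000000800000000000000000000000000000000598000000000000000000000000000000022000000000000000000000000000000155000000000000000000000000000000004000000000000000000000000000000003b00000000000000000000000000000000240000000000000000000000000000000da00000000000000000000000000000003000000000000000000000000000000000400000000000000000000000000000000a0000000000000000000000000000000010c00000000000000000000000000000018e0000000000000000000000000000000420000000000000000000000000000000006000000000000000000000000000000001800000000000000000000000000000000800000000000000000000000000000000580000000000000000000000000000000020000000000000000000000000000000150000000000000000000000000000000004000000000000000000000000000000003b0c000000000000000000000000000000241000000000000000000000000000000da2800000000000000000000000000000300000000000000000000000000000000040000000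0000000000000000000000000a0000000000000000000000000000000010c30000000000000000000000000000018e38000000000000000000000000000004208000000000000000000000000000000060000000000000000000000000000000008000000000000000000000000000000014000000000000000000000000000000002d80000000000000000000000000000003fc0000000000000000000000000000000a400000000000000000000000000000001800000000000000000000000000000001c000000000000000000000000000000004000000000000000000000000000000001100000000000000000000000000000000030000000000000000000000000000000038000000000000000000000000000000008000000000000000000000000000000003c0000000000000000000000000000000080000000000000000000000000000000010000000000000000000000000000000004000000000000001820000000000000001800000000000000815000000000000000800000000000000708008000000000000380000000000000100004000000000000040000000000000040002000000000000030000000000000020001000000000000014000000000000000000800000000000001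

/-- literal -/
def P8 : ℕ := 0x10000000000000000000000000000000006000000000000000000000000000000001c00000000000000000000000000000000800000000000000000000000000000000580000000000000000000000000000000020000000000000000000000000000000150000000000000000000000000000000006000000000000000000000000000000002b4d0000000000000000000000000000002514000000000000000000000000000009aaa000000000000000000000000000003000000000000000000000000000000000400000000000000000000000000000000a0000000000000000000000000000000010c30000000000000000000000000000018e3800000000000000000000000000000420800000000000000000000000000000006800000000000000000000000000000000a0000000000000000000000000000000150000000000000000000000000000000025c00000000000000000000000000000033e00000000000000000000000000000008400000000000000000000000000000001800000000000000000000000000000001c00000000000000000000000000000000400000000000000000000000000000000110000000000000000000000000000000003800000000000000000000000000000003c000000000000000000000000000000008000000000000000000000000000000002c0000000000000000000000000000000080000000000000000000000000000000010000000000000000000000000000000006800000000000000000000000000000000a0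000000000000000000000000000000150000000000000000000000000000000025dc0000000000000000000000000000033fe0000000000000000000000000000008440000000000000000000000000000001800000000000000000000000000000001c00000000000000000000000000000000400000000000000000000000000000000111000000000000000000000000000000003800000000000000000000000000000003c0000000000000000000000000000000080000000000000000000000000000000028000000000000000000000000000000008000000000000000000000000000000000e70000000000000000000000000000000f780000000000000000000000000000002100000000000000000000000000000000a4000100000000000000800000000000021000000000000000000000000000000003b42000000000000000800000000000003fe10000000000000004000000000000008900000000000000000000000000000002200ce0000000000001800000000000003800000000000000000000000000000003c0000000000000000000000000000000080000000000000000000000000000000070960000000000000020000000000000078eb00000000000000100000000000000000a400000000000000000000000000001e35a00000000000000c0000000000000000200000000000000000000000000000020500000000000000000000000000000008041ac00000000000060000000000000000102100000000000000000000000000020085a800000000000180000000000000080000000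000000000000000000000000040180000000000000000000000000000000020000000000000000000000000000010050000000000000000000000000000000000700000000000000000000000000000000200000000000000000000000000000000160000000000000000000000000000000008000000000000000000000000000000054000000000000000000000000000000001cc0000000000000000000000000000000800000000000000000000000000000000598000000000000000000000000000000022000000000000000000000000000000155000000000000000000000000000000006000000000000000000000000000000002b400000000000000000000000000000002500000000000000000000000000000009a80000000000000000000000000000003000000000000000000000000000000000400000000000000000000000000000000a0000000000000000000000000000000010c00000000000000000000000000000018e0000000000000000000000000000000420000000000000000000000000000000006000000000000000000000000000000001c00000000000000000000000000000000800000000000000000000000000000000580000000000000000000000000000000020000000000000000000000000000000150000000000000000000000000000000006000000000000000000000000000000002b4d0000000000000000000000000000002514000000000000000000000000000009aaa00000000000000000000000000000300000000000000000000000000000000040000000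0000000000000000000000000a0000000000000000000000000000000010c30000000000000000000000000000018e3800000000000000000000000000000420800000000000000000000000000000006800000000000000000000000000000000a0000000000000000000000000000000150000000000000000000000000000000025c00000000000000000000000000000033e00000000000000000000000000000008400000000000000000000000000000001800000000000000000000000000000001c00000000000000000000000000000000400000000000000000000000000000000110000000000000000000000000000000003800000000000000000000000000000003c000000000000000000000000000000008000000000000000000000000000000002c0000000000000000000000000000000080000000000000000000000000000000010000000000000000000000000000000004000000000000001c21000000000000001800000000000000815200000000000000800000000000000608008000000000000380000000000000180204000000000000040000000000000040102000000000000030000000000000020081000000000000014000000000000000000800000000000001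

/-- literal -/
def P9 : ℕ := 0x10000000000000000000000000000000002000000000000000000000000000000003c00000000000000000000000000000001800000000000000000000000000000000d8000000000000000000000000000000002000000000000000000000000000000035000000000000000000000000000000000600000000000000000000000000000000280d000000000000000000000000000000201400000000000000000000000000000902a000000000000000000000000000003000000000000000000000000000000000400000000000000000000000000000000a0000000000000000000000000000000010030000000000000000000000000000018038000000000000000000000000000004008000000000000000000000000000001a6800000000000000000000000000000028a0000000000000000000000000000005550000000000000000000000000000000925c00000000000000000000000000000cb3e00000000000000000000000000000208400000000000000000000000000000061800000000000000000000000000000071c00000000000000000000000000000010400000000000000000000000000000004110000000000000000000000000000000003800000000000000000000000000000003c00000000000000000000000000000000800000000000000000000000000000000240000000000000000000000000000000080000000000000000000000000000000030000000000000000000000000000000006800000000000000000000000000000000a0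0000000000000000000000000000001500000000000000000000000000000000241c00000000000000000000000000000321e0000000000000000000000000000008040000000000000000000000000000001800000000000000000000000000000001c0000000000000000000000000000000040000000000000000000000000000000010100000000000000000000000000000003b80000000000000000000000000000003fc0000000000000000000000000000000880000000000000000000000000000000228000000000000000000000000000000088000000000000000000000000000000000070000000000000000000000000000000078000000000000000000000000000000010000000000000000000000000000000004000100000000000000000000000000001000000000000000000000000000000073b4200000000000000080000000000007bfe100000000000000040000000000001089000000000000000000000000000000422000e0000000000001c0000000000007380000000000000000000000000000007bc0000000000000000000000000000001080000000000000000000000000000000e70960000000000000020000000000000f78eb00000000000000100000000000000000a40000000000000000000000000003de35a00000000000000c00000000000000002000000000000000000000000000004205000000000000000000000000000001080402c00000000000070000000000000000100100000000000000000000000000420080a8000000000001c0000000000001080000000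000000000000000000000000840180000000000000000000000000000000020000000000000000000000000000210050000000000000000000000000000080006700000000000002000000000000040000200000000000001000000000000020000d600000000000008000000000000000001080000000000000000000000000080002d40000000000002000000000000000000010c000000000000000000000000000000080000000000000000000000000000000041800000000000000000000000000000000200000000000000000000000000000010500000000000000000000000000000006600000000000000000000000000000002ab400000000000000000000000000000022500000000000000000000000000000099a8000000000000000000000000000003300000000000000000000000000000000440000000000000000000000000000000aa0000000000000000000000000000000110c00000000000000000000000000000198e0000000000000000000000000000004420000000000000000000000000000000002000000000000000000000000000000003c00000000000000000000000000000001800000000000000000000000000000000d8000000000000000000000000000000002000000000000000000000000000000035000000000000000000000000000000000600000000000000000000000000000000280d000000000000000000000000000000201400000000000000000000000000000902a00000000000000000000000000000300000000000000000000000000000000040000000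0000000000000000000000000a0000000000000000000000000000000010030000000000000000000000000000018038000000000000000000000000000004008000000000000000000000000000001a6800000000000000000000000000000028a0000000000000000000000000000005550000000000000000000000000000000925c00000000000000000000000000000cb3e00000000000000000000000000000208400000000000000000000000000000061800000000000000000000000000000071c00000000000000000000000000000010400000000000000000000000000000004110000000000000000000000000000000003800000000000000000000000000000003c00000000000000000000000000000000800000000000000000000000000000000240000000000000000000000000000000080000000000000000000000000000000030000000000000000000000000000000004000000000000039c2100000000000000180000000000001081520000000000000080000000000000c6080080000000000003c000000000000318020400000000000006000000000000084010200000000000002000000000000042008100000000000001c000000000000000000800000000000005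

/-- literal -/
def Q2 : ℕ := 0x10000000000000000000000000000000007800000000000000000000000000000002a000000000000000000000000000000016000000000000000000000000000000006c00000000000000000000000000000006a00000000000000000000000000000002f000000000000000000000000000000000301a00000000000000000000000000000377f5c000000000000000000000000000139b3e000000000000000000000000000051edf0000000000000000000000000000581f00000000000000000000000000000240a800000000000000000000000000000603c00000000000000000000000000000947bb0000000000000000000000000000431c60000000000000000000000000000259cfc0000000000000000000000000000dbe8e00000000000000000000000000006cf4f000000000000000000000000000000e0780000000000000000000000000001269140000000000000000000000000000b7daa00000000000000000000000000005b6d00000000000000000000000000000122a580000000000000000000000000000d87b000000000000000000000000000006cbde0000000000000000000000000000124b50000000000000000000000000000000004a00000000000000000000000000000003900000000000000000000000000000001e000000000000000000000000000000004c0000000000000000000000000000000120000000000000000000000000000000070000000000000000000000000000000006e0e00000000000000000000000000000330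f0000000000000000000000000000003878000000000000000000000000000008a760000000000000000000000000000051d5000000000000000000000000000002aff000000000000000000000000000000885800000000000000000000000000000603000000000000000000000000000000321e00000000000000000000000000000082680000000000000000000000000000024c4000000000000000000000000000001fbe000000000000000000000000000000ffe000000000000000000000000000000255000000000000000000000000000000091c000000000000000000000000000000001299040e0000000000000c000000000000e77c0070000000000000e0000000000007bfe100000000000000040000000000001289019c00000000000008000000000000422000e0000000000001c00000000000090421028000000000000600000000000070394014000000000000f0000000000003c1ca4000000000000006000000000000090400a50000000000003c000000000000904820300000000000006000000000000703e001800000000000070000000000003c1f080000000000000020000000000000098430d800000000000700000000000000773c06c00000000000200000000000004a44142a000000000001f000000000000381ff00f000000000000b8000000000001ef1ad0000000000000060000000000000f07ff8000000000000028000000000000011082f6000000000000e000000000000128140b500000000000008000000000000904a0f78000000000003c0000000000002010003000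0000000000e000000000000008860360000000000000000000000000084010150000000000003800000000000040218078000000000001c0000000000001800152800000000000060000000000000c00131800000000000030000000000000020077b00000000000010000000000000310055a8000000000000400000000000018003fbc0000000000006000000000000000000016ad0000000000000000000000000000008600000000000000000000000000000006dfe0000000000000000000000000000013350000000000000000000000000000013f78000000000000000000000000000003068000000000000000000000000000006e89000000000000000000000000000003f5680000000000000000000000000000050b400000000000000000000000000000de7c00000000000000000000000000000672a00000000000000000000000000000060f000000000000000000000000000001bebc00000000000000000000000000000dfcc000000000000000000000000000006bed0000000000000000000000000000000007800000000000000000000000000000002a000000000000000000000000000000016000000000000000000000000000000006c00000000000000000000000000000006a00000000000000000000000000000002f000000000000000000000000000000000301a00000000000000000000000000000377f5c000000000000000000000000000139b3e000000000000000000000000000051edf0000000000000000000000000000581f00000000000000000000000000000240a80000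0000000000000000000000000603c00000000000000000000000000000947bb0000000000000000000000000000431c60000000000000000000000000000259cfc0000000000000000000000000000dbe8e00000000000000000000000000006cf4f000000000000000000000000000000e0780000000000000000000000000001269140000000000000000000000000000b7daa00000000000000000000000000005b6d00000000000000000000000000000122a580000000000000000000000000000d87b000000000000000000000000000006cbde0000000000000000000000000000124b50000000000000000000000000000000004a00000000000000000000000000000003900000000000000000000000000000001e000000000000000000000000000000004c000000000000000000000000000000012000000000000000000000000000000007000000000000000000000000000000000400000000000003ba3bc340000000000004000000000000383fa615000000000000580000000000009fafbc60000000000004c0000000000006834861800000000000000000000000001c48532c00000000000020000000000000e2429960000000000001c00000000000031004ce00000000000009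

/-- literal -/
def Q4 : ℕ := 0x100000000000000000000000000000000042000000000000000000000000000000025000000000000000000000000000000005800000000000000000000000000000007000000000000000000000000000000004400000000000000000000000000000001100000000000000000000000000000000004c02800000000000000000000000000012009000000000000000000000000000000300200000000000000000000000000004082000000000000000000000000000005fc4b800000000000000000000000000001800800000000000000000000000000016492000000000000000000000000000003781300000000000000000000000000006945000000000000000000000000000000c104000000000000000000000000000017f5f600000000000000000000000000000f80b00000000000000000000000000005937a80000000000000000000000000001fe16c0000000000000000000000000001a5508000000000000000000000000000070c5100000000000000000000000000005fc8d8000000000000000000000000000000ddc000000000000000000000000000164a240000000000000000000000000000d29530000000000000000000000000000000006200000000000000000000000000000002700000000000000000000000000000001980000000000000000000000000000000dc00000000000000000000000000000007600000000000000000000000000000001d0000000000000000000000000000000004d8b0000000000000000000000000000000c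080000000000000000000000000000132a8000000000000000000000000000001b06000000000000000000000000000004488000000000000000000000000000000611000000000000000000000000000000c61400000000000000000000000000000dddc000000000000000000000000000003044000000000000000000000000000001f33000000000000000000000000000001f05800000000000000000000000000000ddfa000000000000000000000000000007cf7000000000000000000000000000003d7a800000000000000000000000000001bbcc00000000000000000000000000000000180020008000000000007c00000000000098000884000000000003e00000000000064008042000000000001f00000000000036004221000000000000f8000000000001d0028108000000000007c000000000000c00d0014000000000003e0000000000004c04154a000000000001f000000000000320340a5000000000000f8000000000001b01a5528000000000007c0000000000000063002c000000000002000000000000000210ed6000000000001c0000000000000018c16b000000000000800000000000000cd800e0000000000000000000000000004c82670000000000000400000000000060010004000000000000f00000000000001200231000000000000f000000000000190040210000000000003c000000000000060100c4000000000003c00000000000003761338000000000000200000000000036008442000000000000780000000000000d02118800000000000780000000000000073c5ac00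0000000002000000000000003be033800000000000060000000000003a00a042000000000000780000000000000e028188000000000007800000000000070056814000000000000e0000000000000018ec16000000000000c00000000000000ed081c00000000000020000000000000e0012010000000000003c00000000000003814844000000000000000000000000000000000400800000000000000000000000000000581200000000000000000000000000000704a000000000000000000000000000000600800000000000000000000000000001110000000000000000000000000000000585e00000000000000000000000000000716a000000000000000000000000000000e0280000000000000000000000000000115080000000000000000000000000000005fc000000000000000000000000000002c11000000000000000000000000000000164800000000000000000000000000001c25000000000000000000000000000000069400000000000000000000000000000448100000000000000000000000000000000042000000000000000000000000000000025000000000000000000000000000000005800000000000000000000000000000007000000000000000000000000000000004400000000000000000000000000000001100000000000000000000000000000000004c02800000000000000000000000000012009000000000000000000000000000000300200000000000000000000000000004082000000000000000000000000000005fc4b8000000000000000000000000000018008000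00000000000000000000000016492000000000000000000000000000003781300000000000000000000000000006945000000000000000000000000000000c104000000000000000000000000000017f5f600000000000000000000000000000f80b00000000000000000000000000005937a80000000000000000000000000001fe16c0000000000000000000000000001a5508000000000000000000000000000070c5100000000000000000000000000005fc8d8000000000000000000000000000000ddc000000000000000000000000000164a240000000000000000000000000000d29530000000000000000000000000000000006200000000000000000000000000000002700000000000000000000000000000001980000000000000000000000000000000dc00000000000000000000000000000007600000000000000000000000000000001d000000000000000000000000000000000400000000000004f0188a6000000000001f000000000000279b85de000000000000080000000000000c1e37b80000000000048000000000000e86e5f3800000000000160000000000004c0605480000000000018000000000000260302a4000000000000cc000000000000e00290080000000000001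

/-- literal -/
def Q5 : ℕ := 0x10000000000000000000000000000000004a00000000000000000000000000000001300000000000000000000000000000000200000000000000000000000000000000e800000000000000000000000000000002200000000000000000000000000000000900000000000000000000000000000000020c10800000000000000000000000000031eabc0000000000000000000000000000408a20000000000000000000000000000966af000000000000000000000000000024c1280000000000000000000000000001020800000000000000000000000000000110080000000000000000000000000000e2ef500000000000000000000000000004e7578000000000000000000000000000248a9000000000000000000000000000008345a000000000000000000000000000000041000000000000000000000000000000116800000000000000000000000000008144800000000000000000000000000012c80000000000000000000000000000000011200000000000000000000000000002053280000000000000000000000000000228b40000000000000000000000000000004480000000000000000000000000000921120000000000000000000000000000000004600000000000000000000000000000001200000000000000000000000000000001380000000000000000000000000000000b800000000000000000000000000000006e000000000000000000000000000000026000000000000000000000000000000000418900000000000000000000000000000041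100000000000000000000000000000116a40000000000000000000000000000050ee0000000000000000000000000000055e000000000000000000000000000000112b80000000000000000000000000000122a8000000000000000000000000000008a52000000000000000000000000000004488000000000000000000000000000003b6b80000000000000000000000000000020cc000000000000000000000000000008b40000000000000000000000000000000013000000000000000000000000000001120000000000000000000000000000001124c00000000000000000000000000000000110100528000000000007c0000000000004805028000000000000000000000000004c04154a000000000001f0000000000002e021aa0000000000000c0000000000001b01a5528000000000007c000000000000040201cc000000000003c000000000000010080c0000000000000e00000000000001208673000000000000f00000000000000b05b3000000000000078000000000000000802100000000000000000000000000000201000000000000000000000000000000208840000000000000000000000000118840ad000000000000040000000000004a200500000000000001c00000000000002000062000000000001e000000000000000841200000000000000000000000000009001188000000000007800000000000000400ca400000000000380000000000005ee94a80000000000000200000000000001601220000000000000f000000000000000a099000000000000070000000000000000c221000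000000000000000000000006f710ab4000000000000d00000000000001a04231000000000000f000000000000000c21948000000000007000000000000004821980000000000003c000000000000000411000000000000000000000000000273085400000000000001000000000000009001100000000000007800000000000000400c80000000000003800000000000000000001351c000000000000000000000000000002004000000000000000000000000000007d6d0000000000000000000000000000022a100000000000000000000000000000090a800000000000000000000000000000020c000000000000000000000000000004e5900000000000000000000000000000004080000000000000000000000000000009640000000000000000000000000000022480000000000000000000000000000001020000000000000000000000000000000110000000000000000000000000000011b24000000000000000000000000000004cb20000000000000000000000000000002480000000000000000000000000000000004a00000000000000000000000000000001300000000000000000000000000000000200000000000000000000000000000000e800000000000000000000000000000002200000000000000000000000000000000900000000000000000000000000000000020c10800000000000000000000000000031eabc0000000000000000000000000000408a20000000000000000000000000000966af000000000000000000000000000024c128000000000000000000000000000102080000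0000000000000000000000000110080000000000000000000000000000e2ef500000000000000000000000000004e7578000000000000000000000000000248a9000000000000000000000000000008345a000000000000000000000000000000041000000000000000000000000000000116800000000000000000000000000008144800000000000000000000000000012c80000000000000000000000000000000011200000000000000000000000000002053280000000000000000000000000000228b40000000000000000000000000000004480000000000000000000000000000921120000000000000000000000000000000004600000000000000000000000000000001200000000000000000000000000000001380000000000000000000000000000000b800000000000000000000000000000006e0000000000000000000000000000000260000000000000000000000000000000004000000000000001208212000000000001e00000000000027b0c57a0000000000001800000000000139946ed00000000000014000000000000068b3bcc000000000002c0000000000004f4599a6000000000000e00000000000027a2ccd30000000000007c00000000000130105500000000000007d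

/-- literal -/
def Q10 : ℕ := 0x10000000000000000000000000000000002c00000000000000000000000000000000b00000000000000000000000000000001d000000000000000000000000000000008c00000000000000000000000000000003400000000000000000000000000000000d0000000000000000000000000000000005eff380000000000000000000000000002f76380000000000000000000000000000007ce00000000000000000000000000000037000000000000000000000000000007e6f780000000000000000000000000003340000000000000000000000000000001bb94e0000000000000000000000000000cd1ef00000000000000000000000000006eeff000000000000000000000000000000029c000000000000000000000000000168b040000000000000000000000000000b2400000000000000000000000000000006fbb80000000000000000000000000002c960800000000000000000000000000001b81c00000000000000000000000000000037700000000000000000000000000001b20000000000000000000000000000003627f40000000000000000000000000001be8000000000000000000000000000000df5fd0000000000000000000000000000000006400000000000000000000000000000002500000000000000000000000000000000e000000000000000000000000000000007400000000000000000000000000000001c00000000000000000000000000000003a0000000000000000000000000000000004d39000000000000000000000000000003e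70000000000000000000000000000001b83800000000000000000000000000000f9f2000000000000000000000000000006e1c000000000000000000000000000000007000000000000000000000000000000f78000000000000000000000000000000564e0000000000000000000000000000014e0000000000000000000000000000000a73800000000000000000000000000000c10000000000000000000000000000000de7a000000000000000000000000000006ee000000000000000000000000000000377e800000000000000000000000000000fe800000000000000000000000000000000000c1c06000000000000038000000000000048a3058000000000000000000000000001c25800000000000000800000000000000e12c160000000000004000000000000003016600000000000001800000000000000630580000000000002000000000000000210c16000000000001c000000000000000c7600000000000000600000000000000063b0580000000000030000000000000ce620500000000000001c0000000000004a61083400000000000030000000000001cec2400000000000000600000000000019006030000000000000400000000000009002180c000000000003e00000000000003310280000000000000e00000000000000120a0d000000000000e00000000000000761200000000000000300000000000000035680000000000000080000000000003800ec06000000000000f00000000000000ec241a00000000000060000000000000006ad0680000000000010000000000000399095000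0000000000040000000000001c006cc0000000000000000000000000000642540000000000000100000000000000020dd0000000000000100000000000000073c580000000000002000000000000077b94280000000000000e0000000000003a00f060000000000000800000000000000ee50a000000000000038000000000000007d46800000000000030000000000000000000000bdc00000000000000000000000000000b6680000000000000000000000000000058c700000000000000000000000000000019a0000000000000000000000000000000ddc000000000000000000000000000005d92000000000000000000000000000002c1800000000000000000000000000000016480000000000000000000000000000000dc00000000000000000000000000000c9b2000000000000000000000000000006800000000000000000000000000000001bbe800000000000000000000000000001a36400000000000000000000000000000683e00000000000000000000000000000037d0000000000000000000000000000000002c00000000000000000000000000000000b00000000000000000000000000000001d000000000000000000000000000000008c00000000000000000000000000000003400000000000000000000000000000000d0000000000000000000000000000000005eff380000000000000000000000000002f76380000000000000000000000000000007ce00000000000000000000000000000037000000000000000000000000000007e6f7800000000000000000000000000033400000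00000000000000000000000001bb94e0000000000000000000000000000cd1ef00000000000000000000000000006eeff000000000000000000000000000000029c000000000000000000000000000168b040000000000000000000000000000b2400000000000000000000000000000006fbb80000000000000000000000000002c960800000000000000000000000000001b81c00000000000000000000000000000037700000000000000000000000000001b20000000000000000000000000000003627f40000000000000000000000000001be8000000000000000000000000000000df5fd0000000000000000000000000000000006400000000000000000000000000000002500000000000000000000000000000000e000000000000000000000000000000007400000000000000000000000000000001c00000000000000000000000000000003a0000000000000000000000000000000004000000000000002578b74000000000001c0000000000001d30f21a00000000000060000000000000076290d0000000000000c00000000000073a04de8000000000001e000000000000038f2f40000000000000a00000000000001c797a00000000000005c0000000000000e1d06000000000000025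

/-- literal -/
def Q11 : ℕ := 0x10000000000000000000000000000000001600000000000000000000000000000000400000000000000000000000000000000e800000000000000000000000000000009000000000000000000000000000000001a000000000000000000000000000000033000000000000000000000000000000000001348000000000000000000000000000026000000000000000000000000000000000012000000000000000000000000000009a6c00000000000000000000000000005ef348000000000000000000000000000000dc000000000000000000000000000017bdfc00000000000000000000000000000dc0900000000000000000000000000005fd360000000000000000000000000000037df80000000000000000000000000000910000000000000000000000000000000002200000000000000000000000000000245268000000000000000000000000000022000000000000000000000000000000083000000000000000000000000000000008a2d00000000000000000000000000006811000000000000000000000000000002bd9340000000000000000000000000001a03e00000000000000000000000000000df62d00000000000000000000000000000000048000000000000000000000000000000016000000000000000000000000000000012800000000000000000000000000000009800000000000000000000000000000003a0000000000000000000000000000000340000000000000000000000000000000004d200000000000000000000000000000000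0900000000000000000000000000000134ac000000000000000000000000000000240000000000000000000000000000004d80000000000000000000000000000000099800000000000000000000000000001b8480000000000000000000000000000025d6000000000000000000000000000006e1c000000000000000000000000000003779800000000000000000000000000001100000000000000000000000000000000934000000000000000000000000000000441a0000000000000000000000000000022d0000000000000000000000000000001e86800000000000000000000000000000000000843000000000000007000000000000000211d80000000000001800000000000000210c16000000000001c00000000000000108760000000000000e00000000000000063b0580000000000030000000000000000820000000000000000000000000000000211000000000000000000000000000000208040000000000000000000000000000104400000000000000000000000000004c82800000000000003800000000000001529740000000000000200000000000001320a1d000000000000e000000000000120104000000000000000000000000000058042200000000000000000000000000000241400000000000001c00000000000016a04660000000000000700000000000000090506800000000000700000000000009482184c000000000003e0000000000004c041100000000000000000000000000000120ba0000000000000e000000000000139043300000000000007800000000000003b568740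000000000008000000000000380210080000000000007000000000000000d5a0d00000000000020000000000000e703b098000000000003c000000000000000c2000000000000000000000000000003769400000000000001c000000000000340308000000000000000000000000000000da50000000000000070000000000000d683180000000000000200000000000000000000000980000000000000000000000000000005ee000000000000000000000000000002c2600000000000000000000000000000001b800000000000000000000000000000bb60000000000000000000000000000000244000000000000000000000000000001000000000000000000000000000000000011000000000000000000000000000000441800000000000000000000000000000ea44000000000000000000000000000000340000000000000000000000000000003bcf800000000000000000000000000000d08800000000000000000000000000000ba0c00000000000000000000000000000375f0000000000000000000000000000000001600000000000000000000000000000000400000000000000000000000000000000e800000000000000000000000000000009000000000000000000000000000000001a000000000000000000000000000000033000000000000000000000000000000000001348000000000000000000000000000026000000000000000000000000000000000012000000000000000000000000000009a6c00000000000000000000000000005ef348000000000000000000000000000000dc000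000000000000000000000000017bdfc00000000000000000000000000000dc0900000000000000000000000000005fd360000000000000000000000000000037df80000000000000000000000000000910000000000000000000000000000000002200000000000000000000000000000245268000000000000000000000000000022000000000000000000000000000000083000000000000000000000000000000008a2d00000000000000000000000000006811000000000000000000000000000002bd9340000000000000000000000000001a03e00000000000000000000000000000df62d00000000000000000000000000000000048000000000000000000000000000000016000000000000000000000000000000012800000000000000000000000000000009800000000000000000000000000000003a000000000000000000000000000000034000000000000000000000000000000000400000000000004a539b40000000000001c000000000000240b43a40000000000001800000000000129801d20000000000007400000000000004cc0e90000000000003400000000000000339c0800000000000140000000000000019ce04000000000000ac00000000000000c63000000000000004d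

/-- literal -/
def Q22 : ℕ := 0x10000000000000000000000000000000004600000000000000000000000000000002400000000000000000000000000000000700000000000000000000000000000000bc00000000000000000000000000000001400000000000000000000000000000003100000000000000000000000000000000007606800000000000000000000000000003e03000000000000000000000000000001e81a00000000000000000000000000007146100000000000000000000000000000280180000000000000000000000000000240340000000000000000000000000001ca3e600000000000000000000000000000d00f0000000000000000000000000000628f1800000000000000000000000000029064800000000000000000000000000001780a000000000000000000000000000009000000000000000000000000000000075f228000000000000000000000000000009014000000000000000000000000000177cca0000000000000000000000000000ab64500000000000000000000000000000480280000000000000000000000000003802c000000000000000000000000000001248a0000000000000000000000000000a92d50000000000000000000000000000000000400000000000000000000000000000002d00000000000000000000000000000001b000000000000000000000000000000007c00000000000000000000000000000004200000000000000000000000000000001400000000000000000000000000000000001610000000000000000000000000000000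d0000000000000000000000000000001ddec0000000000000000000000000000001c2000000000000000000000000000007d79000000000000000000000000000003dad800000000000000000000000000000040400000000000000000000000000000500c00000000000000000000000000000491b00000000000000000000000000000348f800000000000000000000000000000028000000000000000000000000000000bc140000000000000000000000000000048a00000000000000000000000000000009550000000000000000000000000000012028000000000000000000000000000000000100003000000000000000000000000000b002d80c000000000003e0000000000006c018cc000000000000100000000000001e0076630000000000007800000000000100040018000000000007c0000000000000800020000000000000000000000000005804100800000000000070000000000003603088000000000000000000000000000f0084420000000000001c000000000000000007000000000000000000000000000002d581c0000000000004000000000000001b8dc00000000000006000000000000010000f000000000000000000000000000b05af83c00000000000360000000000000000028000000000000000000000000002d601211000000000000f800000000000000c42a000000000000030000000000000de810880000000000003c0000000000003c1affde000000000000b000000000000000c254a00000000000060000000000000f70291880000000000004000000000000004a00380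0000000000000000000000004025001e000000000001f0000000000000010800a0000000000000000000000000108000088000000000007c00000000000050042000000000000000000000000000000121800000000000000c00000000000014094e000000000000006000000000000000402000000000000003000000000000052810800000000000000000000000000000000000701800000000000000000000000000000703e00000000000000000000000000000301e00000000000000000000000000000140c8000000000000000000000000000012304000000000000000000000000000007048000000000000000000000000000002c260000000000000000000000000000014120000000000000000000000000000015408000000000000000000000000000007016000000000000000000000000000000024000000000000000000000000000001dc5800000000000000000000000000000a0b400000000000000000000000000000f796000000000000000000000000000002a890000000000000000000000000000000004600000000000000000000000000000002400000000000000000000000000000000700000000000000000000000000000000bc00000000000000000000000000000001400000000000000000000000000000003100000000000000000000000000000000007606800000000000000000000000000003e03000000000000000000000000000001e81a000000000000000000000000000071461000000000000000000000000000002801800000000000000000000000000002403400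00000000000000000000000001ca3e600000000000000000000000000000d00f0000000000000000000000000000628f1800000000000000000000000000029064800000000000000000000000000001780a000000000000000000000000000009000000000000000000000000000000075f228000000000000000000000000000009014000000000000000000000000000177cca0000000000000000000000000000ab64500000000000000000000000000000480280000000000000000000000000003802c000000000000000000000000000001248a0000000000000000000000000000a92d50000000000000000000000000000000000400000000000000000000000000000002d00000000000000000000000000000001b000000000000000000000000000000007c00000000000000000000000000000004200000000000000000000000000000001400000000000000000000000000000000040000000000000042948540000000000002000000000000360f6bea00000000000080000000000001b0b711700000000000060000000000000803cb728000000000001600000000000068048c08000000000000f0000000000003402460400000000000074000000000000a0023000000000000003d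

/-- literal -/
def Q23 : ℕ := 0x100000000000000000000000000000000048000000000000000000000000000000026000000000000000000000000000000003800000000000000000000000000000008800000000000000000000000000000006200000000000000000000000000000001900000000000000000000000000000000000a00800000000000000000000000000000400000000000000000000000000000004288200000000000000000000000000002444900000000000000000000000000000060080000000000000000000000000001c51840000000000000000000000000000fd8da000000000000000000000000000061c41000000000000000000000000000036624800000000000000000000000000032a81000000000000000000000000000000300200000000000000000000000000007003000000000000000000000000000003f61b00000000000000000000000000001061040000000000000000000000000000910920000000000000000000000000000eef06000000000000000000000000000038c2880000000000000000000000000001fb16c0000000000000000000000000000fdf0c0000000000000000000000000000a650200000000000000000000000000000000008000000000000000000000000000000006000000000000000000000000000000016800000000000000000000000000000008800000000000000000000000000000003e00000000000000000000000000000003500000000000000000000000000000000000200000000000000000000000000000005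010000000000000000000000000000002d8c0000000000000000000000000000010400000000000000000000000000000009200000000000000000000000000000014b88000000000000000000000000000001888000000000000000000000000000000d86000000000000000000000000000007d790000000000000000000000000000034f88000000000000000000000000000003008000000000000000000000000000001b4600000000000000000000000000000760c0000000000000000000000000000024d8800000000000000000000000000001eed40000000000000000000000000000000002000400000000000000000000000000001800220000000000000000000000000005804100800000000000070000000000002202008000000000000000000000000000f0084420000000000001c0000000000001000300000000000000000000000000000c00198000000000000000000000000002c02ac060000000000003800000000000110140600000000000000000000000000000003800000000000000000000000000000001dc000000000000000000000000000002be07000000000000c000000000000020002000000000000000000000000000018001100000000000000000000000000008400400000000000000000000000000000200320000000000000100000000000016b009088000000000007c00000000000005d04864000000000003800000000000044010080000000000000000000000000023000020000000000000f00000000000000880090000000000000780000000000000005fb9c0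0000000000100000000000003c004884000000000000f0000000000001ee0523100000000000008000000000000076299c80000000000008000000000000d00e3018000000000001e00000000000000079c0e00000000000100000000000003400840200000000000078000000000001ad021088000000000007c00000000000006e10864000000000003800000000000000000000201000000000000000000000000000000380c000000000000000000000000000001804000000000000000000000000000002a810000000000000000000000000000019488000000000000000000000000000003806000000000000000000000000000001004000000000000000000000000000002ec180000000000000000000000000000196cc00000000000000000000000000000380a000000000000000000000000000001dc30000000000000000000000000000000fd800000000000000000000000000001320400000000000000000000000000000c92200000000000000000000000000000660800000000000000000000000000000000048000000000000000000000000000000026000000000000000000000000000000003800000000000000000000000000000008800000000000000000000000000000006200000000000000000000000000000001900000000000000000000000000000000000a00800000000000000000000000000000400000000000000000000000000000004288200000000000000000000000000002444900000000000000000000000000000060080000000000000000000000000001c518400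00000000000000000000000000fd8da000000000000000000000000000061c41000000000000000000000000000036624800000000000000000000000000032a81000000000000000000000000000000300200000000000000000000000000007003000000000000000000000000000003f61b00000000000000000000000000001061040000000000000000000000000000910920000000000000000000000000000eef06000000000000000000000000000038c2880000000000000000000000000001fb16c0000000000000000000000000000fdf0c0000000000000000000000000000a650200000000000000000000000000000000008000000000000000000000000000000006000000000000000000000000000000016800000000000000000000000000000008800000000000000000000000000000003e000000000000000000000000000000035000000000000000000000000000000000400000000000000c00004000000000000020000000000002a20a6220000000000000800000000000160112710000000000007c000000000000780eb098000000000002e0000000000005404498400000000000080000000000002a0224c20000000000004c000000000001a01840200000000000001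

theorem tr_52 : tr 52 = T52 := by decide +kernel

theorem tr_56 : tr 56 = T56 := by decide +kernel

theorem tr_59 : tr 59 = T59 := by decide +kernel

theorem tr_61 : tr 61 = T61 := by decide +kernel

theorem tr_62 : tr 62 = T62 := by decide +kernel

theorem tr_63 : tr 63 = T63 := by decide +kernel

theorem tr_64 : tr 64 = T64 := by decide +kernel

theorem tr_66 : tr 66 = T66 := by decide +kernel

theorem tr_69 : tr 69 = T69 := by decide +kernel

theorem tr_73 : tr 73 = T73 := by decide +kernel

theorem mul_P1 : bmul 133 133 T62 T63 = P1 := by decide +kernel

theorem mul_P2 : bmul 133 133 P1 T64 = P2 := by decide +kernel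

theorem mul_P3 : bmul 133 133 P2 T61 = P3 := by decide +kernel

theorem mul_P4 : bmul 133 133 P3 T66 = P4 := by decide +kernel

theorem mul_P5 : bmul 133 133 P4 T69 = P5 := by decide +kernel

theorem mul_P6 : bmul 133 133 P5 T56 = P6 := by decide +kernel

theorem mul_P7 : bmul 133 133 P6 T52 = P7 := by decide +kernel

theorem mul_P8 : bmul 133 133 P7 T59 = P8 := by decide +kernel

theorem mul_P9 : bmul 133 133 P8 T73 = P9 := by decide +kernel

theorem mul_Q2 : bmul 133 133 P9 P9 = Q2 := by decide +kernel

theorem mul_Q4 : bmul 133 133 Q2 Q2 = Q4 := by decide +kernel

theorem mul_Q5 : bmul 133 133 Q4 P9 = Q5 := by decide +kernel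

theorem mul_Q10 : bmul 133 133 Q5 Q5 = Q10 := by decide +kernel

theorem mul_Q11 : bmul 133 133 Q10 P9 = Q11 := by decide +kernel

theorem mul_Q22 : bmul 133 133 Q11 Q11 = Q22 := by decide +kernel

theorem mul_Q23 : bmul 133 133 Q22 P9 = Q23 := by decide +kernel

theorem tr_x : trN P9 133 = false := by decide +kernel

theorem tr_y : trN Q23 133 = true := by decide +kernel

end Cfsg.Agent.H689.ESeven
end

-- part: H689/E7Two
section
/-!
# `E₇(2)` has an element which is not rational
-/

set_option autoImplicit false

open Cfsg

namespace Cfsg.Agent.H689.ESeven

open Cfsg.Lie Cfsg.Agent.ChevalleyStructure.SparseAct Cfsg.Agent.J4M.BitMat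
  Cfsg.Agent.ChevalleyStructure.Elts

theorem intCast_zmod_two (z : ℤ) : ((z : ℤ) : ZMod 2) = bz (decide (z.natAbs % 2 = 1)) := by
  have h1 : ((z % 2 : ℤ) : ZMod 2) = (z : ZMod 2) := ZMod.intCast_mod z 2
  rw [← h1]
  rcases Int.emod_two_eq_zero_or_one z with h | h
  · have h2 : z.natAbs % 2 = 0 := by omega
    rw [h, h2]
    rfl
  · have h2 : z.natAbs % 2 = 1 := by omega
    rw [h, h2]
    rfl

theorem bz_colN (i : ℕ) : ∀ L : List (ℕ × ℕ × ℤ), bz ((colN L).testBit i) =
    (L.map fun q => if q.1 = i then ((q.2.2 : ℤ) : ZMod 2) else 0).sum
  | [] => by simp [colN, bz]
  | q :: L => by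
    rw [colN, List.map_cons, List.sum_cons, ← bz_colN i L]
    change bz ((_ ^^^ _ : ℕ).testBit i) = _
    rw [Nat.testBit_xor, bz_xor]
    congr 1
    rw [intCast_zmod_two]
    by_cases h : q.2.2.natAbs % 2 = 1
    · rw [if_pos h, Nat.testBit_two_pow]
      by_cases h2 : q.1 = i
      · simp [h, h2]
      · simp [h2, bz]
    · rw [if_neg h, Nat.zero_testBit]
      by_cases h2 : q.1 = i
      · simp [h, h2]
      · simp [h2, bz]

theorem bz_tr (r : ℕ) {i j : ℕ} (hi : i < 133) (hj : j < 133) :
    bz ((tr r).testBit (133 * j + i)) =
      ((col chevE7 r j).map fun q => if q.1 = i then ((q.2.2 : ℤ) : ZMod 2) else 0).sum := by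
  rw [tr, testBit_dig 133 (by norm_num) _ (fun i => Nat.mod_lt _ (by positivity)), ← bz_colN]
  have h1 : (133 * j + i) / 133 = j := by omega
  have h2 : (133 * j + i) % 133 = i := by omega
  have h3 : 133 * j + i < 133 * 133 := by omega
  rw [h1, h2, Nat.testBit_mod_two_pow]
  simp [h3, hi]

theorem rank_add : chevE7.rank + chevE7.nroots = 133 := by decide

/-- the position of a coordinate -/
def pos (i : chevE7.Idx) : Fin 133 := ⟨code chevE7 i, by
  have := code_lt chevE7 i
  rw [rank_add] at this
  exact this⟩

theorem pos_bijective : Function.Bijective pos := by
  constructor
  · intro a b hab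
    exact code_injective chevE7 (congrArg Fin.val hab)
  · intro j
    obtain ⟨i, hi⟩ := exists_code chevE7 (j := j.val) (by rw [rank_add]; exact j.2)
    exact ⟨i, Fin.ext hi⟩

/-- the coordinates -/
noncomputable def E : chevE7.Idx ≃ Fin 133 := Equiv.ofBijective pos pos_bijective

theorem E_val (i : chevE7.Idx) : (E i : ℕ) = code chevE7 i := rfl

variable {F : Type*} [Field F] [CharP F 2]

/-- the embedding of the prime field -/
noncomputable def φ (F : Type*) [Field F] [CharP F 2] : ZMod 2 →+* F :=
  ZMod.castHom (dvd_refl 2) F

/-- the matrix over `F` belonging to a packed matrix -/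
noncomputable def Psi (F : Type*) [Field F] [CharP F 2] (A : Matrix (Fin 133) (Fin 133) (ZMod 2)) :
    Matrix chevE7.Idx chevE7.Idx F :=
  fun a b => φ F (A (E b) (E a))

theorem Psi_mul (A B : Matrix (Fin 133) (Fin 133) (ZMod 2)) :
    Psi F (A * B) = Psi F B * Psi F A := by
  ext a b
  rw [Matrix.mul_apply]
  change φ F ((A * B) (E b) (E a)) = _
  rw [Matrix.mul_apply, map_sum, ← Equiv.sum_comp E]
  refine Finset.sum_congr rfl (fun c _ => ?_)
  rw [map_mul, mul_comm]
  rfl

theorem Psi_one : Psi F (1 : Matrix (Fin 133) (Fin 133) (ZMod 2)) = 1 := by
  ext a b
  change φ F ((1 : Matrix (Fin 133) (Fin 133) (ZMod 2)) (E b) (E a)) = _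
  rw [Matrix.one_apply, Matrix.one_apply]
  by_cases h : a = b
  · rw [if_pos h, if_pos (by rw [h]), map_one]
  · rw [if_neg h, if_neg (fun h2 => h (E.injective h2).symm), map_zero]

theorem Psi_pow (A : Matrix (Fin 133) (Fin 133) (ZMod 2)) (n : ℕ) :
    Psi F (A ^ n) = Psi F A ^ n := by
  induction n with
  | zero => rw [pow_zero, pow_zero, Psi_one]
  | succ n ih => rw [pow_succ, Psi_mul, ih, pow_succ']

theorem trace_Psi (A : Matrix (Fin 133) (Fin 133) (ZMod 2)) :
    (Psi F A).trace = φ F A.trace := by
  rw [Matrix.trace, Matrix.trace, map_sum, ← Equiv.sum_comp E]
  rfl

theorem x_eq (r : Fin chevE7.nroots) : chevE7.xMat F r 1 = Psi F (toMat 133 133 (tr r.val)) := by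
  ext row c
  rw [xMat_apply]
  change _ = φ F (bz ((tr r.val).testBit (133 * (E c : ℕ) + (E row : ℕ))))
  rw [bz_tr r.val (E row).2 (E c).2, E_val, E_val, map_list_sum, List.map_map]
  congr 1
  refine List.map_congr_left (fun q _ => ?_)
  simp only [Function.comp, one_pow, mul_one]
  split_ifs
  · rw [map_intCast]
  · rw [map_zero]

theorem trace_toMat (A : ℕ) : (toMat 133 133 A).trace = bz (trN A 133) := by
  have h : ∀ k : ℕ, bz (trN A k) = ∑ i ∈ Finset.range k, bz (A.testBit (134 * i)) := by
    intro k
    induction k with
    | zero => simp [trN, bz]
    | succ k ih =>
      rw [Finset.sum_range_succ, ← ih, ← bz_xor]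
      rfl
  rw [h, Matrix.trace, Finset.sum_range]
  refine Finset.sum_congr rfl (fun i _ => ?_)
  change bz (A.testBit (133 * (i : ℕ) + (i : ℕ))) = _
  congr 2
  ring

theorem inList : InList chevE7 := by simp [InList]

/-- the root element as a matrix -/
theorem coe_x {r : ℕ} (hr : r < chevE7.nroots) {T : ℕ} (hT : tr r = T) :
    ((xG inList r (1 : F) : GL chevE7.Idx F) : Matrix chevE7.Idx chevE7.Idx F) =
      Psi F (toMat 133 133 T) := by
  rw [coe_xG, x_of_lt hr, x_eq, hT]

/-- the element -/
noncomputable def x0 (F : Type*) [Field F] : GL chevE7.Idx F :=
  xG inList 73 1 * (xG inList 59 1 * (xG inList 52 1 * (xG inList 56 1 * (xG inList 69 1 *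
    (xG inList 66 1 * (xG inList 61 1 * (xG inList 64 1 * (xG inList 63 1 *
      xG inList 62 1))))))))

theorem x0_mem : x0 F ∈ chevE7.group F := by
  unfold x0
  repeat' apply Subgroup.mul_mem
  all_goals exact xG_mem_group inList _ _

theorem toMat_eq {A B C : ℕ} (h : bmul 133 133 A B = C) :
    toMat 133 133 A * toMat 133 133 B = toMat 133 133 C := by
  rw [← toMat_bmul 133 133 (by norm_num), h]

theorem coe_x0 : (x0 F : Matrix chevE7.Idx chevE7.Idx F) = Psi F (toMat 133 133 P9) := by
  unfold x0
  have hn : chevE7.nroots = 126 := rfl
  simp only [Units.val_mul]
  rw [coe_x (by rw [hn]; norm_num) tr_73, coe_x (by rw [hn]; norm_num) tr_59,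
    coe_x (by rw [hn]; norm_num) tr_52, coe_x (by rw [hn]; norm_num) tr_56,
    coe_x (by rw [hn]; norm_num) tr_69, coe_x (by rw [hn]; norm_num) tr_66,
    coe_x (by rw [hn]; norm_num) tr_61, coe_x (by rw [hn]; norm_num) tr_64,
    coe_x (by rw [hn]; norm_num) tr_63, coe_x (by rw [hn]; norm_num) tr_62]
  rw [← Psi_mul, toMat_eq mul_P1, ← Psi_mul, toMat_eq mul_P2, ← Psi_mul, toMat_eq mul_P3,
    ← Psi_mul, toMat_eq mul_P4, ← Psi_mul, toMat_eq mul_P5, ← Psi_mul, toMat_eq mul_P6,
    ← Psi_mul, toMat_eq mul_P7, ← Psi_mul, toMat_eq mul_P8, ← Psi_mul, toMat_eq mul_P9]

theorem pow_eq : toMat 133 133 P9 ^ 23 = toMat 133 133 Q23 := by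
  have h : toMat 133 133 P9 ^ 23 =
      ((((toMat 133 133 P9 * toMat 133 133 P9) * (toMat 133 133 P9 * toMat 133 133 P9)) *
        toMat 133 133 P9) * (((toMat 133 133 P9 * toMat 133 133 P9) *
        (toMat 133 133 P9 * toMat 133 133 P9)) * toMat 133 133 P9) * toMat 133 133 P9) *
      ((((toMat 133 133 P9 * toMat 133 133 P9) * (toMat 133 133 P9 * toMat 133 133 P9)) *
        toMat 133 133 P9) * (((toMat 133 133 P9 * toMat 133 133 P9) *
        (toMat 133 133 P9 * toMat 133 133 P9)) * toMat 133 133 P9) * toMat 133 133 P9) *
      toMat 133 133 P9 := by
    generalize toMat 133 133 P9 = M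
    noncomm_ring
  rw [h, toMat_eq mul_Q2, toMat_eq mul_Q4, toMat_eq mul_Q5, toMat_eq mul_Q10, toMat_eq mul_Q11,
    toMat_eq mul_Q22, toMat_eq mul_Q23]

theorem not_ratl_two {F : Type*} [Field F] [Fintype F] (hF : Fintype.card F = 2) :
    ¬ Ratl (chevE7.group F) := by
  intro h
  have hF2 : CharP F 2 := by
    obtain ⟨p, hp⟩ := CharP.exists F
    have hpp : Fact p.Prime := ⟨CharP.char_is_prime F p⟩
    obtain ⟨n, -, hn⟩ := FiniteField.card F p
    rw [hF] at hn
    have h1 : p ∣ 2 := hn ▸ dvd_pow_self p n.pos.ne'
    have h2 : p = 2 := ((Nat.prime_dvd_prime_iff_eq hpp.out Nat.prime_two).1 h1)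
    rwa [h2] at hp
  have hc := S1064.result (F := F) hF
  have hcop : Nat.Coprime 23 (Nat.card (chevE7.group F)) := by
    refine Nat.Coprime.coprime_dvd_right (Dvd.intro_left _ hc) ?_
    decide +kernel
  obtain ⟨g, hg⟩ := isConj_iff.1 (h.pow ⟨x0 F, x0_mem⟩ 23 hcop)
  have h1 : (g : GL chevE7.Idx F) * x0 F * (g : GL chevE7.Idx F)⁻¹ = x0 F ^ 23 :=
    congrArg Subtype.val hg
  have h2 := congrArg (fun u : GL chevE7.Idx F => (u : Matrix chevE7.Idx chevE7.Idx F).trace) h1
  simp only [Units.val_mul, Units.val_pow_eq_pow_val] at h2
  rw [Matrix.trace_mul_comm, ← mul_assoc, ← Units.val_mul, inv_mul_cancel, Units.val_one, one_mul,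
    coe_x0, ← Psi_pow, pow_eq, trace_Psi, trace_Psi, trace_toMat, trace_toMat, tr_x, tr_y] at h2
  have h3 : bz false = bz true := (φ F).injective h2
  exact absurd (bz_inj h3) (by decide)

end Cfsg.Agent.H689.ESeven

namespace Cfsg.Agent.H689

open Cfsg.Lie in
/-- `E₇(q)` -/
theorem not_ratl_e7 {F : Type*} [Field F] [Fintype F] : ¬ Ratl (chevE7.group F) :=
  fun h => ESeven.not_ratl_two (card_e7 h) h

end Cfsg.Agent.H689
end

-- part: H689/MathPerm
section
/-!
# `M₁₂`, `M₂₄`, `J₁`
-/

set_option autoImplicit false
set_option linter.unusedSectionVars false

open Cfsg

namespace Cfsg.Agent.H689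

universe u

/-- The centralizer of an element of prime order `r` in a group of permutations of at most
`r + 1` points. -/
theorem mem_zpowers_of_comm {Ω : Type*} [Fintype Ω] {r : ℕ} (hr : r.Prime)
    (hΩ : Fintype.card Ω ≤ r + 1) {x c : Equiv.Perm Ω} (hx : orderOf x = r) (hc : x * c = c * x) :
    c ∈ Subgroup.zpowers x := by
  classical
  obtain ⟨a, ha⟩ : ∃ a, x a ≠ a := by
    by_contra h
    push Not at h
    have : x = 1 := Equiv.ext h
    rw [this, orderOf_one] at hx
    exact hr.one_lt.ne hx
  -- the orbit of a moved point
  have horb : ∀ b, x b ≠ b → Function.Injective (fun i : Fin r => (x ^ (i : ℕ)) b) := by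
    intro b hb i j hij
    by_contra hne
    wlog hlt : (i : ℕ) < j generalizing i j
    · exact this hij.symm (Ne.symm hne)
        (lt_of_le_of_ne (not_lt.1 hlt) (fun h => hne (Fin.ext h.symm)))
    have h1 : (x ^ ((j : ℕ) - i)) b = b := by
      have h2 : (x ^ (i : ℕ)) ((x ^ ((j : ℕ) - i)) b) = (x ^ (i : ℕ)) b := by
        rw [← Equiv.Perm.mul_apply, ← pow_add, Nat.add_sub_cancel' hlt.le]
        exact hij.symm
      exact (x ^ (i : ℕ)).injective h2
    have h3 : ((j : ℕ) - i).Coprime (orderOf x) := by
      rw [hx, Nat.coprime_comm, hr.coprime_iff_not_dvd]
      intro h4
      have := Nat.le_of_dvd (by omega) h4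
      have := j.2
      omega
    have h4 : x ∈ Subgroup.zpowers (x ^ ((j : ℕ) - i)) := mem_zpowers_pow_iff.2 h3
    obtain ⟨k, hk⟩ := h4
    change (x ^ ((j : ℕ) - i)) ^ k = x at hk
    apply hb
    have h5 : ((x ^ ((j : ℕ) - i)) ^ k) b = b := by
      have h6 : x ^ ((j : ℕ) - i) ∈ MulAction.stabilizer (Equiv.Perm Ω) b := h1
      exact Subgroup.zpow_mem _ h6 k
    rwa [hk] at h5
  have hcomm : ∀ (i : ℕ) (b : Ω), c ((x ^ i) b) = (x ^ i) (c b) := by
    intro i b
    have h1 : x ^ i * c = c * x ^ i := ((show Commute x c from hc).pow_left i).eq
    rw [← Equiv.Perm.mul_apply, ← Equiv.Perm.mul_apply, h1]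
  have hca : x (c a) ≠ c a := by
    intro h1
    have h2 := hcomm 1 a
    rw [pow_one, h1] at h2
    exact ha (c.injective h2)
  -- all moved points are in one orbit
  have hmov : ∀ b, x b ≠ b → ∃ i : ℕ, b = (x ^ i) a := by
    intro b hb
    by_contra hno
    push Not at hno
    have hinj : Function.Injective (Sum.elim (fun i : Fin r => (x ^ (i : ℕ)) a)
        (fun i : Fin r => (x ^ (i : ℕ)) b)) := by
      rintro (i | i) (j | j) hij
      · exact congrArg Sum.inl (horb a ha hij)
      · exfalso
        simp only [Sum.elim_inl, Sum.elim_inr] at hij
        apply hno ((r - j) + i)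
        rw [pow_add, Equiv.Perm.mul_apply, hij, ← Equiv.Perm.mul_apply, ← pow_add,
          Nat.sub_add_cancel j.2.le, ← hx, pow_orderOf_eq_one]
        rfl
      · exfalso
        simp only [Sum.elim_inl, Sum.elim_inr] at hij
        apply hno ((r - i) + j)
        rw [pow_add, Equiv.Perm.mul_apply, ← hij, ← Equiv.Perm.mul_apply, ← pow_add,
          Nat.sub_add_cancel i.2.le, ← hx, pow_orderOf_eq_one]
        rfl
      · exact congrArg Sum.inr (horb b hb hij)
    have h1 := Fintype.card_le_of_injective _ hinj
    rw [Fintype.card_sum, Fintype.card_fin] at h1
    have := hr.two_le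
    omega
  obtain ⟨i, hi⟩ := hmov (c a) hca
  -- `c = x ^ i`
  have hmoved : ∀ b, x b ≠ b → c b = (x ^ i) b := by
    intro b hb
    obtain ⟨j, rfl⟩ := hmov b hb
    rw [hcomm, hi, ← Equiv.Perm.mul_apply, ← Equiv.Perm.mul_apply, ← pow_add, ← pow_add, add_comm]
  have hfix : ∀ b, x b = b → c b = (x ^ i) b := by
    intro b hb
    have hb' : (x ^ i) b = b := by
      have h6 : x ∈ MulAction.stabilizer (Equiv.Perm Ω) b := hb
      exact Subgroup.pow_mem _ h6 i
    rw [hb']
    by_contra hne
    -- two fixed points and a full orbit
    have hcb : x (c b) = c b := by
      have := hcomm 1 b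
      rw [pow_one, hb] at this
      exact this.symm
    have hinj : Function.Injective (Sum.elim (fun i : Fin r => (x ^ (i : ℕ)) a)
        (fun j : Fin 2 => if j = 0 then b else c b)) := by
      have hfx : ∀ y, x y = y → ∀ i : ℕ, (x ^ i) a ≠ y := by
        intro y hy i h1
        have h2 : x ((x ^ i) a) = (x ^ i) a := by rw [h1, hy]
        rw [← Equiv.Perm.mul_apply, ← pow_succ', pow_succ, Equiv.Perm.mul_apply] at h2
        exact ha ((x ^ i).injective h2)
      rintro (i | i) (j | j) hij
      · exact congrArg Sum.inl (horb a ha hij)
      · exfalso
        simp only [Sum.elim_inl, Sum.elim_inr] at hij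
        split_ifs at hij
        · exact hfx b hb _ hij
        · exact hfx _ hcb _ hij
      · exfalso
        simp only [Sum.elim_inl, Sum.elim_inr] at hij
        split_ifs at hij
        · exact hfx b hb _ hij.symm
        · exact hfx _ hcb _ hij.symm
      · simp only [Sum.elim_inr] at hij
        congr 1
        have hne' : b ≠ c b := fun h => hne h.symm
        fin_cases i <;> fin_cases j <;> simp_all only [_root_.ne_eq, _root_.Equiv.Perm.apply_pow_apply_eq_iff, _root_.not_false_eq_true, _root_.Fin.zero_eta, _root_.Fin.isValue, ↓ _root_.reduceIte, _root_.Fin.mk_one, _root_.one_ne_zero]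
    have h1 := Fintype.card_le_of_injective _ hinj
    rw [Fintype.card_sum, Fintype.card_fin, Fintype.card_fin] at h1
    omega
  refine ⟨i, ?_⟩
  change x ^ (i : ℤ) = c
  rw [zpow_natCast]
  ext b
  by_cases hb : x b = b
  · exact (hfix b hb).symm
  · exact (hmoved b hb).symm

theorem not_ratl_of_perm {G : Type u} [Group G] [Finite G] {Ω : Type*} [Fintype Ω]
    (φ : G →* Equiv.Perm Ω) (hφ : Function.Injective φ) (r N : ℕ) (hr : r.Prime)
    (hΩ : Fintype.card Ω ≤ r + 1) (hN : Nat.card G = r * N) (hrN : ¬ r ∣ N)
    (h1 : (1 + N) % r ≠ 0) : ¬ Ratl G := by
  intro h
  obtain ⟨x, hx, k, s, hk, hs, hs1⟩ := sylow_arith (h.orat 1) hr (Nat.coprime_one_right r)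
    (by rw [hN]; exact dvd_mul_right _ _)
    (by
      rw [hN]
      intro h1
      exact hrN (Nat.dvd_of_mul_dvd_mul_left hr.pos h1))
  have hx' : orderOf (φ x) = r := by rw [orderOf_injective φ hφ, hx]
  have hC : Subgroup.centralizer ({x} : Set G) = Subgroup.zpowers x := by
    apply le_antisymm
    · intro c hc
      rw [Subgroup.mem_centralizer_singleton_iff] at hc
      obtain ⟨i, hi⟩ := mem_zpowers_of_comm hr hΩ hx' (c := φ c) (by
        rw [← map_mul, ← map_mul, hc])
      refine ⟨i, hφ ?_⟩
      change φ (x ^ i) = φ c
      rw [map_zpow]
      exact hi
    · rw [Subgroup.zpowers_le, Subgroup.mem_centralizer_singleton_iff]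
  rw [hC, Nat.card_zpowers, hx] at hk
  have hk1 : k = 1 := by
    have : r * 1 = r * k := by rw [mul_one]; exact hk
    exact (Nat.eq_of_mul_eq_mul_left hr.pos this).symm
  subst hk1
  have h2 : N = s * (r - 1) := by
    rw [hN] at hs
    refine Nat.eq_of_mul_eq_mul_left hr.pos ?_
    rw [hs]; ring
  apply h1
  have h3 : 1 + N ≡ 1 + 1 * (r - 1) [MOD r] := by
    rw [h2]
    exact (hs1.mul_right _).add_left 1
  have h4 : 1 + 1 * (r - 1) = r := by have := hr.two_le; omega
  rw [h4] at h3
  have h5 : (1 + N) % r = r % r := h3
  rw [h5, Nat.mod_self]

theorem not_ratl_m24 {G : Type u} [Group G] [Finite G] (h : Spor.IsoM24 G) : ¬ Ratl G := by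
  have hc := NotCT.Orders.m24 h
  obtain ⟨e⟩ := h
  exact not_ratl_of_perm (M24.subtype.comp e.toMonoidHom)
    (Subtype.val_injective.comp e.injective) 23 10644480 (by norm_num) (by decide)
    (by rw [hc]) (by norm_num) (by norm_num)

open scoped Pointwise in
theorem mem_dodecad_iff {g : Equiv.Perm GolayPt} (hg : g ∈ Spor.M12) (x : GolayPt) :
    g x ∈ Spor.squareDodecad ↔ x ∈ Spor.squareDodecad := by
  have h : g • Spor.squareDodecad = Spor.squareDodecad := hg.2
  constructor
  · intro h1
    rw [← h] at h1
    rw [Finset.mem_smul_finset] at h1
    obtain ⟨y, hy, hyx⟩ := h1
    have : y = x := g.injective hyx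
    exact this ▸ hy
  · intro h1
    rw [← h, Finset.mem_smul_finset]
    exact ⟨x, h1, rfl⟩

/-- The action on the dodecad. -/
def dodHom : Spor.M12 →* Equiv.Perm {x : GolayPt // x ∈ Spor.squareDodecad} where
  toFun g := (g : Equiv.Perm GolayPt).subtypePerm (fun x => mem_dodecad_iff g.2 x)
  map_one' := by ext x; rfl
  map_mul' a b := by ext x; rfl

theorem card_sqD : Spor.squareDodecad.card = 12 := by decide +kernel

open scoped Pointwise in
theorem dodHom_injective : Function.Injective dodHom := by
  rw [injective_iff_map_eq_one]
  intro g hg
  have hfix : ∀ x ∈ Spor.squareDodecad, (g : Equiv.Perm GolayPt) x = x := by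
    intro x hx
    have h1 := congrArg (fun p : Equiv.Perm {x : GolayPt // x ∈ Spor.squareDodecad} =>
      ((p ⟨x, hx⟩ : {x : GolayPt // x ∈ Spor.squareDodecad}) : GolayPt)) hg
    exact h1
  obtain ⟨T, hT, hTc⟩ := Finset.exists_subset_card_eq (s := Spor.squareDodecad) (n := 5)
    (by rw [card_sqD]; norm_num)
  let a : Fin 5 → GolayPt := fun i => (T.equivFinOfCardEq hTc).symm i
  have ha : Function.Injective a := Subtype.val_injective.comp (Equiv.injective _)
  have hat : ∀ i, a i ∈ Spor.squareDodecad := fun i => hT ((T.equivFinOfCardEq hTc).symm i).2
  obtain ⟨k, -, hk⟩ := SporadicStructure.DodecadM12.exists_unique_dodecad_map _ _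
    Schreier.MTwelve.squareDodecad_mem Schreier.MTwelve.squareDodecad_mem a a ha ha hat hat
  have h1 := hk (g : Equiv.Perm GolayPt) ⟨g.2.1, g.2.2, fun i => hfix _ (hat i)⟩
  have h2 := hk 1 ⟨one_mem _, one_smul _ _, fun i => rfl⟩
  exact Subtype.ext (h1.trans h2.symm)

theorem not_ratl_m12 {G : Type u} [Group G] [Finite G] (h : Spor.IsoM12 G) : ¬ Ratl G := by
  have hc := NotCT.Orders.m12 h
  obtain ⟨e⟩ := h
  exact not_ratl_of_perm (dodHom.comp e.toMonoidHom)
    (dodHom_injective.comp e.injective) 11 8640 (by norm_num)
    (by rw [Fintype.card_coe, card_sqD])
    (by rw [hc]) (by norm_num) (by norm_num)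

theorem not_ratl_j1 {G : Type u} [Group G] [Finite G] (h : Spor.IsoJ1 G) : ¬ Ratl G := by
  have hc := NotCT.Orders.j1 h
  intro hR
  obtain ⟨x, hx, k, s, hk, hs, hs1⟩ := sylow_arith (r := 19) (hR.orat 1) (by norm_num)
    (Nat.coprime_one_right _) (by rw [hc]; norm_num) (by rw [hc]; norm_num)
  rw [hc] at hs
  have h1 : 18 ∣ 175560 := by
    refine ⟨s * (19 * k), ?_⟩
    rw [hs]; ring
  norm_num at h1

end Cfsg.Agent.H689
end

-- part: H689/SporCo3
section
/-!
# `Co₃`
-/

set_option autoImplicit false
set_option linter.unusedSectionVars false

open Cfsg Subgroup

namespace Cfsg.Agent.H689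

universe u

theorem not_orat_of_perm {G : Type u} [Group G] [Finite G] {Ω : Type*} [Fintype Ω]
    (φ : G →* Equiv.Perm Ω) (hφ : Function.Injective φ) {n : ℕ} (r N : ℕ) (hr : r.Prime)
    (hrn : r.Coprime n) (hΩ : Fintype.card Ω ≤ r + 1) (hN : Nat.card G = r * N) (hrN : ¬ r ∣ N)
    (h1 : (1 + N) % r ≠ 0) : ¬ ORat n G := by
  refine not_orat_of_self hr hrn hN hrN (fun x hx => ?_) (fun h => h1 h.2)
  have hx' : orderOf (φ x) = r := by rw [orderOf_injective φ hφ, hx]
  have hC : Subgroup.centralizer ({x} : Set G) = Subgroup.zpowers x := by
    apply le_antisymm
    · intro c hc
      rw [Subgroup.mem_centralizer_singleton_iff] at hc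
      obtain ⟨i, hi⟩ := mem_zpowers_of_comm hr hΩ hx' (c := φ c) (by
        rw [← map_mul, ← map_mul, hc])
      refine ⟨i, hφ ?_⟩
      change φ (x ^ i) = φ c
      rw [map_zpow]
      exact hi
    · rw [Subgroup.zpowers_le, Subgroup.mem_centralizer_singleton_iff]
  rw [hC, Nat.card_zpowers, hx]

theorem not_orat_m12 {G : Type u} [Group G] [Finite G] (h : Spor.IsoM12 G) : ¬ ORat 2 G := by
  have hc := NotCT.Orders.m12 h
  obtain ⟨e⟩ := h
  exact not_orat_of_perm (dodHom.comp e.toMonoidHom)
    (dodHom_injective.comp e.injective) 11 8640 (by norm_num) (by norm_num)
    (by rw [Fintype.card_coe, card_sqD])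
    (by rw [hc]) (by norm_num) (by norm_num)

open SigZero in
theorem not_ratl_co3 {G : Type u} [Group G] [Finite G] (h : Spor.IsoCo3 G) : ¬ Ratl G := by
  intro hR
  obtain ⟨e⟩ := h
  obtain ⟨e1⟩ := CoThree.exists_equiv

  have E : G ≃* CoThreeB.K := e.trans (SporRec.Co3.Model.equivCo3.symm.trans e1.symm)
  have : Finite CoThreeB.K := Finite.of_equiv _ E.toEquiv
  have hz : orderOf CoThreeB.wK = 2 :=
    orderOf_eq_prime (by rw [pow_two]; exact CoThreeB.wK_sq) CoThreeB.wK_ne
  have h1 : ORat 2 CoThreeB.C := (hR.of_equiv E).cent hz
  have h2 := h1.of_surjective CoThreeB.proj CoThreeB.proj_surj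
  exact not_orat_m12 ⟨MulEquiv.refl _⟩ h2

end Cfsg.Agent.H689
end

-- part: H689/SporHS
section
/-!
# `HS`
-/

set_option autoImplicit false
set_option linter.unusedSectionVars false

open Cfsg Subgroup

namespace Cfsg.Agent.H689

universe u

section data

open MulAction Cfsg.Agent.Leech.Co0Elts Cfsg.Agent.SporadicRecognition.RankThree
  Cfsg.Agent.SporadicRecognition.TwoEmb Cfsg.Agent.SporadicRecognition.HSRank
  Cfsg.Agent.SporadicRecognition.HSParam Cfsg.Agent.SporadicRecognition.RankThreeOf
  Cfsg.Agent.SporadicA.Co0Mono

/-- the inclusion in `M24` -/
def incl22 : Spor.M22 →* M24 := Subgroup.inclusion (fun _ h => h.1.1)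

theorem incl22_none (σ : Spor.M22) : (incl22 σ : Equiv.Perm GolayPt) none = none := σ.2.1.2

theorem incl22_zero (σ : Spor.M22) : (incl22 σ : Equiv.Perm GolayPt) (some 0) = some 0 := σ.2.2

theorem symm22_none (σ : Spor.M22) (p : GolayPt) :
    ((incl22 σ : Equiv.Perm GolayPt).symm p = none) ↔ p = none := by
  rw [Equiv.symm_apply_eq, incl22_none]

theorem symm22_zero (σ : Spor.M22) (p : GolayPt) :
    ((incl22 σ : Equiv.Perm GolayPt).symm p = some 0) ↔ p = some 0 := by
  rw [Equiv.symm_apply_eq, incl22_zero]

theorem smul22_V (σ : Spor.M22) : permCo0 (incl22 σ) • Spor.leechV = Spor.leechV := by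
  apply Subtype.ext
  funext p
  rw [permCo0_smul, SporadicA.Co0Mono.permMap_apply]
  show (if (incl22 σ : Equiv.Perm GolayPt).symm p = none then (-5 : ℤ) else -1) =
    if p = none then -5 else -1
  by_cases h2 : p = none
  · rw [if_pos h2, if_pos ((symm22_none σ p).2 h2)]
  · rw [if_neg h2, if_neg (fun h3 => h2 ((symm22_none σ p).1 h3))]

theorem smul22_U (σ : Spor.M22) : permCo0 (incl22 σ) • Spor.leechU = Spor.leechU := by
  apply Subtype.ext
  funext p
  rw [permCo0_smul, SporadicA.Co0Mono.permMap_apply]
  show (if (incl22 σ : Equiv.Perm GolayPt).symm p = none ∨
    (incl22 σ : Equiv.Perm GolayPt).symm p = some 0 then (4 : ℤ)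
    else 0) = if p = none ∨ p = some 0 then 4 else 0
  by_cases h2 : p = none ∨ p = some 0
  · rw [if_pos h2, if_pos (h2.imp (symm22_none σ p).2 (symm22_zero σ p).2)]
  · rw [if_neg h2, if_neg (fun h3 => h2 (h3.imp (symm22_none σ p).1 (symm22_zero σ p).1))]

theorem smul22_U' (σ : Spor.M22) : permCo0 (incl22 σ) • Spor.leechU' = Spor.leechU' := by
  apply Subtype.ext
  funext p
  rw [permCo0_smul, SporadicA.Co0Mono.permMap_apply]
  show (if (incl22 σ : Equiv.Perm GolayPt).symm p = none then (4 : ℤ)
    else if (incl22 σ : Equiv.Perm GolayPt).symm p = some 0 then -4 else 0) =
    if p = none then 4 else if p = some 0 then -4 else 0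
  by_cases h2 : p = none
  · rw [if_pos h2, if_pos ((symm22_none σ p).2 h2)]
  · rw [if_neg h2, if_neg (fun h3 => h2 ((symm22_none σ p).1 h3))]
    by_cases h3 : p = some 0
    · rw [if_pos h3, if_pos ((symm22_zero σ p).2 h3)]
    · rw [if_neg h3, if_neg (fun h4 => h3 ((symm22_zero σ p).1 h4))]

/-- The rank 3 action of the Higman–Sims group, with the Mathieu group as the stabilizer. -/
theorem hs_data : ∃ (H Y : Type) (_ : Group H) (_ : MulAction H Y) (_ : Finite Y) (a b c : Y),
    IsRankThree H a b c 22 77 ∧ Nat.card H = 44352000 ∧ Nonempty (H ≃* Spor.HS) ∧
    ∃ f : Spor.M22 →* H, Function.Injective f ∧ ∀ σ, f σ • a = a := by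
  classical
  obtain ⟨hs, hc⟩ := Cfsg.Agent.S0405.result _ _ norm_v norm_w dot_vw
  obtain ⟨h1, h2⟩ := Cfsg.Agent.S1583.result _ _ norm_v norm_w dot_vw
  set v : ↥leechLattice := Spor.leechV with hv
  set w : ↥leechLattice := -(Spor.leechV + Spor.leechU') with hw
  set X : Set ↥leechLattice := {x : ↥leechLattice | sqNorm (x : GolayPt → ℤ) = 32 ∧
    dotInt (v : GolayPt → ℤ) (x : GolayPt → ℤ) = 24 ∧
    dotInt (w : GolayPt → ℤ) (x : GolayPt → ℤ) = -24} with hXdef
  have hX : ∀ g ∈ K v w, ∀ x ∈ X, g • x ∈ X := by
    rintro g ⟨hgv, hgw⟩ x ⟨hx1, hx2, hx3⟩
    refine ⟨?_, ?_, ?_⟩
    · rw [Leech.Co0Elts.sqNorm_smul]; exact hx1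
    · have := dotInt_smul g v x
      rw [show g • v = v from hgv] at this
      rw [this]; exact hx2
    · have := dotInt_smul g w x
      rw [show g • w = w from hgw] at this
      rw [this]; exact hx3
  obtain ⟨x0, hx0, hx0U⟩ : ∃ x0 ∈ X, x0 = -Spor.leechU := by
    refine ⟨-Spor.leechU, ⟨?_, ?_, ?_⟩, rfl⟩
    · show sqNorm (-Spor.vecU) = 32
      decide
    · show dotInt Spor.vecV (-Spor.vecU) = 24
      decide
    · show dotInt (-(Spor.vecV + Spor.vecU')) (-Spor.vecU) = -24
      decide
  obtain ⟨h3, h4, h5⟩ := Cfsg.Agent.S1584.result v w x0 norm_v norm_w dot_vw hx0
  let _ := act (K v w) X hX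
  obtain ⟨b, c, hr⟩ := exists_isRankThree (K v w) X hX (k := 22) (l := 77) (by rw [h1])
    (by norm_num) (by norm_num)
    (by norm_num) ⟨x0, hx0⟩ (fun y => dotInt (x0 : GolayPt → ℤ) (y : GolayPt → ℤ) = 8)
    (by
      intro x hx x' hx'
      obtain ⟨g, hg1, hg2, hg3⟩ := h2 x hx x' hx'
      exact ⟨g, ⟨hg1, hg2⟩, hg3⟩)
    (by
      intro g hg hg0 y hy
      have := dotInt_smul g x0 y
      rw [show g • x0 = x0 from hg0] at this
      rw [this]; exact hy)
    (by
      intro h
      have h6 : dotInt (x0 : GolayPt → ℤ) (x0 : GolayPt → ℤ) = 32 := by
        rw [← hx0.1]
        exact Finset.sum_congr rfl fun i _ => (sq _).symm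
      have h7 : dotInt (x0 : GolayPt → ℤ) (x0 : GolayPt → ℤ) = 8 := h
      omega)
    h3 h4
    (by
      intro y hy y' hy' hne hne' h
      obtain ⟨g, hg1, hg2, hg3, hg4⟩ := h5 y hy y' hy' hne hne' h
      exact ⟨g, ⟨hg1, hg2⟩, hg3, hg4⟩)
  have hfinX : X.Finite := Set.finite_of_ncard_pos (by rw [h1]; norm_num)
  have : Finite ↥X := hfinX.to_subtype
  have hK : ∀ σ : Spor.M22, permCo0 (incl22 σ) ∈ K v w := by
    intro σ
    rw [hw, ← k_eq]
    exact ⟨smul22_V σ, smul22_U' σ⟩
  refine ⟨↥(K v w), ↥X, inferInstance, act (K v w) X hX, inferInstance, ⟨x0, hx0⟩, b, c, hr, hc,
    ⟨hsEquiv.symm⟩, (permCo0.comp incl22).codRestrict (K v w) hK, ?_, ?_⟩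
  · intro σ τ h
    have h6 : permCo0 (incl22 σ) = permCo0 (incl22 τ) := congrArg Subtype.val h
    exact Subgroup.inclusion_injective _ (Cfsg.Agent.CoOneType.Thirteen.permCo0_injective h6)
  · intro σ
    apply Subtype.ext
    show permCo0 (incl22 σ) • x0 = x0
    rw [hx0U, smul_neg_co0, smul22_U]

end data

theorem card_centralizer_conj {G : Type*} [Group G] (x g : G) :
    Nat.card (Subgroup.centralizer ({g * x * g⁻¹} : Set G)) =
      Nat.card (Subgroup.centralizer ({x} : Set G)) := by
  refine Nat.card_congr
    { toFun := fun c => ⟨g⁻¹ * c * g, ?_⟩
      invFun := fun c => ⟨g * c * g⁻¹, ?_⟩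
      left_inv := ?_
      right_inv := ?_ }
  · have h := Subgroup.mem_centralizer_singleton_iff.1 c.2
    rw [Subgroup.mem_centralizer_singleton_iff]
    calc g⁻¹ * (c : G) * g * x = g⁻¹ * ((c : G) * (g * x * g⁻¹)) * g := by group
      _ = g⁻¹ * ((g * x * g⁻¹) * (c : G)) * g := by rw [h]
      _ = x * (g⁻¹ * (c : G) * g) := by group
  · have h := Subgroup.mem_centralizer_singleton_iff.1 c.2
    rw [Subgroup.mem_centralizer_singleton_iff]
    calc g * (c : G) * g⁻¹ * (g * x * g⁻¹) = g * ((c : G) * x) * g⁻¹ := by group
      _ = g * (x * (c : G)) * g⁻¹ := by rw [h]
      _ = (g * x * g⁻¹) * (g * (c : G) * g⁻¹) := by group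
  · intro c
    apply Subtype.ext
    change g * (g⁻¹ * (c : G) * g) * g⁻¹ = c
    group
  · intro c
    apply Subtype.ext
    change g⁻¹ * (g * (c : G) * g⁻¹) * g = c
    group

open MulAction Cfsg.Agent.SporadicRecognition.RankThree in
theorem not_orat_of_rank {H Y : Type} [Group H] [MulAction H Y] [Finite Y] {a b c : Y}
    (h : IsRankThree H a b c 22 77) (hcard : Nat.card H = 44352000) (f : Spor.M22 →* H)
    (hf : Function.Injective f) (hfix : ∀ σ, f σ • a = a) : ¬ ORat 1 H := by
  classical
  intro hR
  have hfin : Finite H := Nat.finite_of_card_ne_zero (by rw [hcard]; norm_num)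
  have htr := h.trans
  have hY : Nat.card Y = 100 := h.cardX
  -- the point stabilizer
  have hKcard : Nat.card (stabilizer H a) = 443520 := by
    have h1 := (stabilizer H a).card_mul_index
    rw [MulAction.index_stabilizer, MulAction.orbit_eq_univ, Set.ncard_univ, hY, hcard] at h1
    omega
  have hM : Nat.card Spor.M22 = 443520 := NotCT.Orders.m22 ⟨MulEquiv.refl _⟩
  have hMfin : Finite Spor.M22 := Nat.finite_of_card_ne_zero (by rw [hM]; norm_num)
  have hct : IsCharacteristicTwoType (stabilizer H a) := by
    refine OddHalf.Small.Mathieu.m22 ⟨(MulEquiv.ofBijective
      (f.codRestrict (stabilizer H a) hfix) ?_).symm⟩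
    rw [Nat.bijective_iff_injective_and_card]
    refine ⟨fun s t hst => hf (congrArg Subtype.val hst), by rw [hM, hKcard]⟩
  -- the stabilizers of two points
  have hKb : ¬ 11 ∣ Nat.card (stabilizer (stabilizer H a) b) := by
    have h1 := (stabilizer (stabilizer H a) b).card_mul_index
    rw [MulAction.index_stabilizer, h.cb, hKcard] at h1
    have h2 : Nat.card (stabilizer (stabilizer H a) b) = 20160 := by omega
    rw [h2]
    norm_num
  have hKc : ¬ 11 ∣ Nat.card (stabilizer (stabilizer H a) c) := by
    have h1 := (stabilizer (stabilizer H a) c).card_mul_index
    rw [MulAction.index_stabilizer, h.cc, hKcard] at h1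
    have h2 : Nat.card (stabilizer (stabilizer H a) c) = 5760 := by omega
    rw [h2]
    norm_num
  have hcase : ∀ (x : H) (b' y : Y), orderOf x = 11 → x • a = a → x • y = y →
      Orb H a b' a y → ¬ 11 ∣ Nat.card (stabilizer (stabilizer H a) b') → False := by
    rintro x b' y hx hxa hxy ⟨g, hga, hgb⟩ hno
    apply hno
    have h1 : g⁻¹ * x * g ∈ stabilizer H a := by
      rw [mem_stabilizer_iff, mul_smul, mul_smul, hga, hxa, inv_smul_eq_iff, hga]
    have h2 : (⟨g⁻¹ * x * g, h1⟩ : stabilizer H a) ∈ stabilizer (stabilizer H a) b' := by
      rw [mem_stabilizer_iff]
      change (g⁻¹ * x * g) • b' = b'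
      rw [mul_smul, mul_smul, hgb, hxy, inv_smul_eq_iff, hgb]
    have h3 : orderOf (⟨⟨g⁻¹ * x * g, h1⟩, h2⟩ : stabilizer (stabilizer H a) b') = 11 := by
      rw [← Subgroup.orderOf_coe, ← Subgroup.orderOf_coe]
      change orderOf (g⁻¹ * x * g) = 11
      rw [← hx]
      have h4 := orderOf_injective (MulAut.conj g⁻¹).toMonoidHom (MulAut.conj g⁻¹).injective x
      rw [← h4]
      change _ = orderOf (g⁻¹ * x * g⁻¹⁻¹)
      rw [inv_inv]
    rw [← h3]
    exact _root_.orderOf_dvd_natCard _
  have huniq : ∀ (x : H), orderOf x = 11 → x • a = a → ∀ y : Y, x • y = y → y = a := by
    intro x hx hxa y hxy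
    rcases h.cases_base y with h1 | h1 | h1
    · exact h1
    · exact (hcase x b y hx hxa hxy h1 hKb).elim
    · exact (hcase x c y hx hxa hxy h1 hKc).elim
  have hexists : ∀ x : H, orderOf x = 11 → ∃ y : Y, x • y = y := by
    intro x hx
    have : Fact (Nat.Prime 11) := ⟨by norm_num⟩
    have hp : IsPGroup 11 (Subgroup.zpowers x) := by
      refine IsPGroup.of_card (n := 1) ?_
      rw [Nat.card_zpowers, hx, pow_one]
    have h1 := hp.card_modEq_card_fixedPoints Y
    rw [hY] at h1
    have h2 : Nonempty (fixedPoints (Subgroup.zpowers x) Y) := by
      by_contra hno
      rw [not_nonempty_iff] at hno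
      rw [Nat.card_of_isEmpty] at h1
      exact absurd h1 (by decide)
    obtain ⟨y, hy⟩ := h2
    exact ⟨y, hy ⟨x, Subgroup.mem_zpowers x⟩⟩
  refine not_orat_of_centralizer (G := H) (n := 1) (r := 11) (N := 4032000) (by norm_num)
    (by norm_num) (by rw [hcard]) (by norm_num) (fun k => k ∣ 63) ?_ ?_ hR
  · intro x0 k hx0 hk0
    -- conjugate
    obtain ⟨y, hy⟩ := hexists x0 hx0
    obtain ⟨g, hg⟩ := MulAction.exists_smul_eq H y a
    obtain ⟨x, hx⟩ : ∃ x, x = g * x0 * g⁻¹ := ⟨_, rfl⟩
    have hxo : orderOf x = 11 := by
      rw [hx, ← hx0]
      exact orderOf_injective (MulAut.conj g).toMonoidHom (MulAut.conj g).injective x0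
    have hk : Nat.card (Subgroup.centralizer ({x} : Set H)) = 11 * k := by
      rw [hx, card_centralizer_conj, hk0]
    have hxa : x • a = a := by
      rw [hx, ← hg, mul_smul, mul_smul, inv_smul_smul, hy]
    -- the normalizer
    have hN : Subgroup.normalizer ((Subgroup.zpowers x : Subgroup H) : Set H) ≤
        stabilizer H a := by
      intro n hn
      rw [mem_stabilizer_iff]
      apply huniq x hxo hxa
      have h1 : n⁻¹ * x * n ∈ Subgroup.zpowers x := by
        have h2 := (Subgroup.mem_normalizer_iff.1 (inv_mem hn) x).1 (Subgroup.mem_zpowers x)
        simpa using h2
      obtain ⟨i, hi⟩ := h1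
      have h3 : (n⁻¹ * x * n) • a = a := by
        have h4 : x ^ i ∈ stabilizer H a := Subgroup.zpow_mem _ hxa i
        change x ^ i = n⁻¹ * x * n at hi
        rw [← hi]
        exact h4
      rw [mul_smul, mul_smul, inv_smul_eq_iff] at h3
      exact h3
    have hdvd : k ∣ 4032 := by
      have h1 := Subgroup.card_dvd_of_le hN
      rw [orat_card_normalizer hR (by norm_num) (by norm_num) hxo, hk, hKcard] at h1
      have h2 : 110 * k ∣ 110 * 4032 := by
        have h3 : (11 - 1) * (11 * k) = 110 * k := by ring
        rw [h3] at h1
        exact h1
      exact Nat.dvd_of_mul_dvd_mul_left (by norm_num) h2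
    have hodd : ¬ 2 ∣ k := by
      intro h2
      have : Fact (Nat.Prime 2) := ⟨Nat.prime_two⟩
      obtain ⟨u, hu⟩ := exists_prime_orderOf_dvd_card'
        (G := Subgroup.centralizer ({x} : Set H)) 2 (by rw [hk]; exact h2.mul_left _)
      have hux : (u : H) * x = x * u := Subgroup.mem_centralizer_singleton_iff.1 u.2
      have hua : (u : H) • a = a := by
        apply huniq x hxo hxa
        rw [← mul_smul, ← hux, mul_smul, hxa]
      obtain ⟨j, hj1, hj2, hj3⟩ := dvd_of_comm hct (x := ⟨x, hxa⟩) (u := ⟨(u : H), hua⟩)
        (r := 11) (a := 7) (by norm_num) (by norm_num)
        (by rw [← Subgroup.orderOf_coe]; exact hxo)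
        (by rw [← Subgroup.orderOf_coe]; change orderOf (u : H) = 2; rw [Subgroup.orderOf_coe, hu])
        (Subtype.ext hux.symm) (by rw [hKcard]; norm_num)
      interval_cases j <;> revert hj3 <;> decide
    have h3 : k ∣ 64 * 63 := hdvd
    refine Nat.Coprime.dvd_of_dvd_mul_left ?_ h3
    have h4 : Nat.Coprime k 2 := (Nat.coprime_comm.1 ((Nat.Prime.coprime_iff_not_dvd
      Nat.prime_two).2 hodd))
    exact h4.pow_right 6
  · intro k hk
    have h1 : ∀ k ∈ Nat.divisors 63, (11 - 1) * k ∣ 4032000 → (k + 4032000) % 11 ≠ 0 := by
      decide +kernel
    exact h1 k (Nat.mem_divisors.2 ⟨hk, by norm_num⟩)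

theorem not_ratl_hs {G : Type u} [Group G] [Finite G] (h : Spor.IsoHS G) : ¬ Ratl G := by
  intro hR
  obtain ⟨e⟩ := h
  obtain ⟨H, Y, _, _, _, a, b, c, h1, h2, ⟨e2⟩, f, hf, hfix⟩ := hs_data
  have hfin : Finite H := Nat.finite_of_card_ne_zero (by rw [h2]; norm_num)
  exact not_orat_of_rank h1 h2 f hf hfix ((hR.of_equiv (e.trans e2.symm)).orat 1)

end Cfsg.Agent.H689
end

private theorem dce_fdfc60ffe381 : _root_.True := by
  try have : _root_.True := by simp only [_root_.Cfsg.Agent.H689.ESeven.tr.eq_1]
  try have : _root_.True := by simp only [_root_.Cfsg.Agent.H689.ESeven.colN.eq_def]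
  try have : _root_.True := by simp only [_root_.Cfsg.Agent.H689.ESeven.colN.eq_2]
  try have : _root_.True := by simp only [_root_.Cfsg.Agent.H689.ESeven.φ.congr_simp]
  try have : _root_.True := by simp only [_root_.Cfsg.Agent.H689.ESeven.Psi.congr_simp]
  try have : _root_.True := by simp only [_root_.Cfsg.Agent.H689.tvM.eq_1]
  try have : _root_.True := by simp only [_root_.Cfsg.Agent.H689.simD.eq_1]
  try have : _root_.True := by simp only [_root_.Cfsg.Agent.H689.OEight.G.eq_1]
  try have : _root_.True := by simp only [_root_.Cfsg.Agent.H689.ESeven.trN.eq_1]
  try have : _root_.True := by simp only [_root_.Cfsg.Agent.H689.spAut.congr_simp]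
  try have : _root_.True := by simp only [_root_.Cfsg.Agent.H689.ESeven.colN.eq_1]
  exact _root_.True.intro
end

-- part: H689/Final
section
prune_inst 0xe0006405410002000004051240203ce7d30004320068000008a408000d888f620d80a9608ca011080a0222854035006811000010420000000a000400011801a0808040068308000024000f000004010000000000000000000000000000000004004010000
set_option linter.all false
open scoped Cfsg.Agent.FastGrp

-- part: H689/Psu4
section
/-!
# `PSU 4 2`
-/

set_option autoImplicit false
set_option linter.unusedSectionVars false

open Cfsg Matrix

namespace Cfsg.Agent.H689

universe u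

theorem not_orat_psu_four {F : Type} [Field F] [Fintype F] (hF : Fintype.card F = 2 ^ 2) :
    ¬ ORat 1 (PSU 4 F 2) := by
  classical
  intro h
  -- a primitive cube root of unity
  obtain ⟨w, hw0, hw1⟩ : ∃ w : F, w ≠ 0 ∧ w ≠ 1 := by
    by_contra hno
    push Not at hno
    have h1 : (Finset.univ : Finset F) ⊆ {0, 1} := by
      intro x _
      rw [Finset.mem_insert, Finset.mem_singleton]
      by_cases hx : x = 0
      · exact Or.inl hx
      · exact Or.inr (hno x hx)
    have h2 := Finset.card_le_card h1
    rw [Finset.card_univ, hF] at h2
    have h3 := Finset.card_insert_le (0 : F) {1}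
    rw [Finset.card_singleton] at h3
    omega
  have hw3 : w ^ 3 = 1 := by
    have h1 := FiniteField.pow_card_sub_one_eq_one w hw0
    rw [hF] at h1
    exact h1
  have h20 : (2 : F) = 0 := by
    have h1 : ((Fintype.card F : ℕ) : F) = 0 := FiniteField.cast_card_eq_zero F
    rw [hF] at h1
    have h2 : (2 : F) * 2 = 0 := by
      rw [← h1]
      push_cast
      norm_num
    rcases mul_eq_zero.1 h2 with h3 | h3 <;> exact h3
  let dv : Fin 4 → F := ![w, w, w, 1]
  have hdv : ∀ i, dv i ^ 3 = 1 := by
    intro i
    fin_cases i <;> simp [dv, hw3]
  have hdet : (Matrix.diagonal dv).det = 1 := by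
    rw [Matrix.det_diagonal, Fin.prod_univ_four]
    change w * w * w * 1 = 1
    rw [mul_one, ← hw3]
    ring
  let D0 : _root_.Matrix.SpecialLinearGroup (Fin 4) F := ⟨Matrix.diagonal dv, hdet⟩
  have hD0 : D0 ∈ SU 4 F 2 := by
    intro u v
    change hermForm 4 F 2 (Matrix.diagonal dv *ᵥ u) (Matrix.diagonal dv *ᵥ v) = _
    unfold hermForm
    refine Finset.sum_congr rfl (fun i _ => ?_)
    rw [Matrix.mulVec_diagonal, Matrix.mulVec_diagonal]
    calc dv i * u i * (dv i * v i) ^ 2 = dv i ^ 3 * (u i * v i ^ 2) := by ring
      _ = u i * v i ^ 2 := by rw [hdv, one_mul]
  let D : SU 4 F 2 := ⟨D0, hD0⟩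
  have hD3 : D ^ 3 = 1 := by
    apply Subtype.ext
    apply Subtype.ext
    change (Matrix.diagonal dv) ^ 3 = 1
    rw [Matrix.diagonal_pow]
    have : dv ^ 3 = fun _ => 1 := funext hdv
    rw [this]
    exact Matrix.diagonal_one
  have ho : orderOf D ∣ 3 := orderOf_dvd_of_pow_eq_one hD3
  have hZ : Nat.card (Subgroup.center (SU 4 F 2)) = 1 := by
    rw [S0279.result hF 4 (by norm_num)]
    norm_num
  have hoq : orderOf (D : PSU 4 F 2) ∣ 3 :=
    (orderOf_map_dvd (QuotientGroup.mk' (Subgroup.center (SU 4 F 2))) D).trans ho
  have h1 := h (D : PSU 4 F 2) (Nat.coprime_one_right _) 2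
    ((show Nat.Coprime 2 3 by norm_num).coprime_dvd_right hoq)
  have h2 : IsConj D (D ^ 2) := isConj_of_quotient (Subgroup.center (SU 4 F 2)) le_rfl
    (by rw [hZ]; exact Nat.coprime_one_right _) h1
  obtain ⟨g, hg⟩ := isConj_iff.1 h2
  let φ : SU 4 F 2 →* Matrix (Fin 4) (Fin 4) F := (slToMat 4 F).comp (SU 4 F 2).subtype
  have h3 : φ g * φ D * φ g⁻¹ = φ D ^ 2 := by
    rw [← map_mul, ← map_mul, ← map_pow, hg]
  have h4 : (φ D).trace = (φ D ^ 2).trace := by
    rw [← h3, Matrix.trace_mul_comm, ← mul_assoc, ← map_mul, inv_mul_cancel, map_one, one_mul]
  have h5 : φ D = Matrix.diagonal dv := rfl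
  rw [h5, Matrix.diagonal_pow, Matrix.trace_diagonal, Matrix.trace_diagonal,
    Fin.sum_univ_four, Fin.sum_univ_four] at h4
  change w + w + w + 1 = w ^ 2 + w ^ 2 + w ^ 2 + 1 ^ 2 at h4
  have h6 : w * (w - 1) = 0 := by
    linear_combination h4 + (2 * w ^ 2 - 2 * w) * h20
  rcases mul_eq_zero.1 h6 with h7 | h7
  · exact hw0 h7
  · exact hw1 (sub_eq_zero.1 h7)

end Cfsg.Agent.H689
end

-- part: H689/ExcG4
section
/-!
# `G₂(4)`
-/

set_option autoImplicit false
set_option linter.unusedSectionVars false

open Cfsg Cfsg.Lie Matrix

namespace Cfsg.Agent.H689

universe u

theorem not_ratl_g2_four {F : Type u} [Field F] [Fintype F] (hF : Fintype.card F = 4) :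
    ¬ Ratl (chevG2.group F) := by
  intro h
  obtain ⟨e⟩ := StdG24.Iso6.equiv_chev F hF
  have hfin : Finite StdG24.Mod6.L := Finite.of_equiv _ e.symm.toEquiv
  have h1 : ORat 1 StdG24.Mod6.L := (h.orat 1).of_equiv e.symm
  refine not_orat_of_inj StdG24.Mod6.L.subtype Subtype.val_injective (r := 13) (by norm_num) ?_ ?_
    (by decide) (Nat.coprime_one_right _) h1
  · refine natCast_ne_zero_of_not_dvd_card (by norm_num) ?_
    decide
  · rw [Nat.card_congr e.toEquiv, S1059.result (F := F) hF]; decide +kernel

/-- `G₂(q)`, `q ≥ 3` -/
theorem not_ratl_g2 {F : Type u} [Field F] [Fintype F] (hF : 3 ≤ Fintype.card F) :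
    ¬ Ratl (chevG2.group F) := by
  intro h
  rcases card_g2 h with h1 | h1 | h1
  · omega
  · exact not_ratl_g2_three h1 h
  · exact not_ratl_g2_four h1 h

end Cfsg.Agent.H689
end

-- part: H689/SporJ2
section
/-!
# `J₂`
-/

set_option autoImplicit false
set_option linter.unusedSectionVars false

open Cfsg Subgroup

namespace Cfsg.Agent.H689

universe u

open Cfsg.Agent.J2Type Cfsg.Agent.KFacts.J2.Basic in
theorem not_ratl_j2 {G : Type u} [Group G] [Finite G] (h : Spor.IsoJ2 G) : ¬ Ratl G := by
  intro hR
  obtain ⟨t, u, Q, v, ρ, D⟩ := KFacts.J2.Facts.exists_dat_of h
  have ht : orderOf t = 2 := orderOf_eq_prime (by rw [pow_two, D.tt]) D.t_ne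
  have h1 := hR.cent ht
  let f : centralizer ({t} : Set G) →* alternatingGroup (Fin 5) :=
    { toFun := fun c => ⟨(ρ c).σ, Equiv.Perm.mem_alternatingGroup.2 ((D.M.range _).1 ⟨c, rfl⟩).1⟩
      map_one' := by
        apply Subtype.ext
        change (ρ 1).σ = 1
        rw [map_one]; rfl
      map_mul' := by
        intro a b
        apply Subtype.ext
        change (ρ (a * b)).σ = (ρ a).σ * (ρ b).σ
        rw [map_mul]; rfl }
  apply alt5
  refine h1.of_surjective f ?_
  rintro ⟨s, hs⟩
  obtain ⟨c, hc⟩ := (D.M.range ⟨s, fun _ => 0⟩).2
    ⟨Equiv.Perm.mem_alternatingGroup.1 hs, by simp⟩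
  refine ⟨c, Subtype.ext ?_⟩
  change (ρ c).σ = s
  rw [hc]

end Cfsg.Agent.H689
end

-- part: H689/SporHe
section
/-!
# `He`
-/

set_option autoImplicit false
set_option linter.unusedSectionVars false

open Cfsg Subgroup

namespace Cfsg.Agent.H689

universe u

theorem not_orat_sl32 : ¬ ORat 2 (Matrix.SpecialLinearGroup (Fin 3) (ZMod 2)) := by
  intro h
  exact not_orat_psl (F := ZMod 2) 2 (n := 3) le_rfl
    (h.of_surjective (QuotientGroup.mk' _) (QuotientGroup.mk'_surjective _))

theorem not_ratl_he {G : Type u} [Group G] [Finite G] (h : Spor.IsoHe G) : ¬ Ratl G := by
  intro hR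
  obtain ⟨e⟩ := h
  have : Finite Spor.He := Finite.of_equiv _ e.toEquiv
  have hz : orderOf (KFacts.He.Bound.z : Spor.He) = 2 := by
    have : Fact (Nat.Prime 2) := ⟨Nat.prime_two⟩
    refine orderOf_eq_prime ?_ KFacts.He.Hyp.z_ne_one
    rw [pow_two, ← KFacts.He.AutP.zx KFacts.He.Cent.emb]
    exact KFacts.He.AutP.sqp KFacts.He.Cent.emb KFacts.He.AutP.c04 (by decide +kernel)
  have h1 := (hR.of_equiv e).cent hz
  exact not_orat_sl32 ((h1.of_equiv KFacts.He.Cent.iso.symm).of_surjective
    SporadicRecognition.HeldModel.toL3 SporadicRecognition.HeldModel.toL3_surjective)

end Cfsg.Agent.H689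
end

-- part: H689/SporRu
section
/-!
# `Ru`
-/

set_option autoImplicit false
set_option linter.unusedSectionVars false

open Cfsg Subgroup

namespace Cfsg.Agent.H689

universe u

theorem not_orat_sz8 {L : Type u} [Group L] [Finite L] (h : Lie.IsoSuzuki L)
    (hc : Nat.card L = 29120) : ¬ ORat 2 L := by
  obtain ⟨F, _, _, m, hm, hF, ⟨e⟩⟩ := h
  refine not_orat_of_inj ((Lie.Sz F (2 ^ (m + 1))).subtype.comp e.toMonoidHom)
    (Subtype.val_injective.comp e.injective) (r := 13) (by norm_num)
    (natCast_ne_zero_of_not_dvd_card (by norm_num) ?_) (by rw [hc]; norm_num)
    (by rw [Fintype.card_fin]; omega) (by norm_num)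
  rw [hF]
  intro h1
  have := (Nat.prime_dvd_prime_iff_eq (by norm_num) (by norm_num)).1
    ((by norm_num : Nat.Prime 13).dvd_of_dvd_pow h1)
  omega

theorem not_ratl_ru {G : Type u} [Group G] [Finite G] (h : Spor.IsoRu G) : ¬ Ratl G := by
  intro hR
  obtain ⟨C, hsz, hc⟩ := CTwoTab.Ru.exists_core_sz h
  have ha : ((1, 0) : RuB.A4) ≠ 0 := by decide
  have hv1 : C.v (1, 0) ≠ 1 := fun h1 => ha (C.v_eq_one h1)
  have hz : orderOf (C.v (1, 0)) = 2 := by
    have : Fact (Nat.Prime 2) := ⟨Nat.prime_two⟩
    exact orderOf_eq_prime (by rw [pow_two]; exact C.v_sq _) hv1
  have h1 := hR.cent hz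
  have key : ∀ g : centralizer ({C.v (1, 0)} : Set G), ∃ l : C.L, ∃ b, (g : G) = C.v b * l := by
    intro g
    obtain ⟨b, l, hl, hg⟩ := C.cent _ ha g (Subgroup.mem_centralizer_singleton_iff.1 g.2)
    exact ⟨⟨l, hl⟩, b, hg⟩
  choose f b hf using key
  have huniq : ∀ (b b' : RuB.A4) (l l' : C.L), C.v b * (l : G) = C.v b' * l' → l = l' := by
    intro b b' l l' h2
    have h3 : C.v (b' + b) = (l' : G) * (l : G)⁻¹ := by
      rw [C.v_add, eq_mul_inv_iff_mul_eq, mul_assoc, h2, ← mul_assoc, C.v_sq, one_mul]
    have h4 : C.v (b' + b) ∈ C.L := by
      rw [h3]
      exact C.L.mul_mem l'.2 (C.L.inv_mem l.2)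
    have h5 := C.v_notin _ h4
    rw [h5] at h3
    have h6 : C.v 0 = 1 := by
      have h7 := C.v_add 0 0
      rw [add_zero] at h7
      exact (mul_eq_left.1 h7.symm)
    rw [h6] at h3
    exact Subtype.ext (mul_inv_eq_one.1 h3.symm).symm
  have hmul : ∀ x y, f (x * y) = f x * f y := by
    intro x y
    refine huniq (b (x * y)) (b x + b y) _ _ ?_
    rw [← hf, C.v_add]
    change (x : G) * (y : G) = C.v (b x) * C.v (b y) * ((f x : G) * (f y : G))
    rw [hf x, hf y]
    have h2 := C.v_comm (b y) (f x) (f x).2
    calc C.v (b x) * (f x : G) * (C.v (b y) * (f y : G)) =
        C.v (b x) * ((f x : G) * C.v (b y)) * (f y : G) := by group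
      _ = C.v (b x) * (C.v (b y) * (f x : G)) * (f y : G) := by rw [h2]
      _ = _ := by group
  let φ : centralizer ({C.v (1, 0)} : Set G) →* C.L := MonoidHom.mk' f hmul
  refine not_orat_sz8 hsz hc (h1.of_surjective φ ?_)
  intro l
  have hl : (l : G) ∈ centralizer ({C.v (1, 0)} : Set G) :=
    Subgroup.mem_centralizer_singleton_iff.2 (C.v_comm _ l l.2).symm
  refine ⟨⟨l, hl⟩, ?_⟩
  refine huniq (b ⟨l, hl⟩) 0 _ _ ?_
  have h6 : C.v 0 = 1 := by
    have h7 := C.v_add 0 0
    rw [add_zero] at h7
    exact (mul_eq_left.1 h7.symm)
  rw [h6, one_mul]
  exact (hf ⟨l, hl⟩).symm

end Cfsg.Agent.H689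
end

-- part: H689/SporON
section
/-!
# `ON`
-/

set_option autoImplicit false
set_option linter.unusedSectionVars false

open Cfsg Subgroup

namespace Cfsg.Agent.H689

universe u

theorem ORat.of_pow {n k : ℕ} {G : Type u} [Group G] (h : ORat (n ^ k) G) : ORat n G :=
  fun x hx m hm => h x (Nat.Coprime.pow_right k hx) m hm

open Cfsg.Agent.KFacts.ON.Words Cfsg.Agent.KFacts.ON.Struct in
theorem not_ratl_on {G : Type u} [Group G] [Finite G] (h : Spor.IsoON G) : ¬ Ratl G := by
  intro hR
  obtain ⟨e⟩ := h
  have : Finite Spor.ON := Finite.of_equiv _ e.toEquiv
  have hz : orderOf (v : Spor.ON) = 2 ^ 2 := by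
    have : Fact (Nat.Prime 2) := ⟨Nat.prime_two⟩
    refine orderOf_eq_prime_pow ?_ ?_
    · rw [pow_one, pow_two, vv]
      exact f_ne_one
    · rw [pow_succ, pow_one, pow_mul, pow_two v, vv, pow_two]
      exact ff
  have h1 : ORat 2 (J : Subgroup Spor.ON) := ((hR.of_equiv e).cent hz).of_pow
  obtain ⟨F, _, _, hF, ⟨f⟩⟩ := GTwoRows.ONQuot.quot S1170.result
  have hch : CharP F 2 := by
    obtain ⟨p, hp⟩ := CharP.exists F
    have hpp : Fact p.Prime := ⟨CharP.char_is_prime F p⟩
    obtain ⟨n, -, hn⟩ := FiniteField.card F p
    rw [hF] at hn
    have h2 : p ∣ 4 := by
      rw [hn]
      exact dvd_pow_self p n.2.ne'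
    have h3 : p ∣ 2 := hpp.out.dvd_of_dvd_pow (show p ∣ 2 ^ 2 from h2)
    have h4 := (Nat.prime_dvd_prime_iff_eq hpp.out Nat.prime_two).1 h3
    subst h4
    exact hp
  exact not_orat_psl (F := F) 2 (n := 3) le_rfl ((h1.of_surjective (QuotientGroup.mk' _)
    (QuotientGroup.mk'_surjective _)).of_equiv f)

end Cfsg.Agent.H689
end

-- part: H689/SporHN
section
/-!
# `HN`
-/

set_option autoImplicit false
set_option linter.unusedSectionVars false

open Cfsg Subgroup

namespace Cfsg.Agent.H689

universe u

open Cfsg.Agent.KFacts.HN Cfsg.Agent.HN.XQuot in
theorem orat_a5_of_lq (h : ORat 2 Lq) : ORat 2 (alternatingGroup (Fin 5)) := by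
  intro a ha m hm
  have h1 : orderOf (φA a) = orderOf a := orderOf_injective φA φA_inj a
  obtain ⟨g, hg⟩ := isConj_iff.1 (h (φA a) (by rw [h1]; exact ha) m (by rw [h1]; exact hm))
  rw [← map_pow] at hg
  rcases LL_or g with hL | ⟨y, hy, rfl⟩
  · obtain ⟨c, d, rfl⟩ := mem_LL.1 hL
    refine isConj_iff.2 ⟨c, φA_inj ?_⟩
    rw [← hg, map_mul, map_mul, map_inv]
    have h2 := comm_AB a d
    calc φA c * φA a * (φA c)⁻¹ = φA c * (φA a * φB d) * (φB d)⁻¹ * (φA c)⁻¹ := by group
      _ = φA c * (φB d * φA a) * (φB d)⁻¹ * (φA c)⁻¹ := by rw [h2]
      _ = _ := by group
  · -- the element is conjugate to an element of the second factor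
    obtain ⟨c, d, rfl⟩ := mem_LL.1 hy
    obtain ⟨c', d', h11⟩ := mem_LL.1 e11_mem
    have h2 : e [1] * φA a * (e [1])⁻¹ = e [1, 1] * φB a * (e [1, 1])⁻¹ := by
      rw [φB_apply, show ([1, 1] : List ℕ) = [1] ++ [1] from rfl, e_append]; group
    have hB : ∀ p q b : alternatingGroup (Fin 5), φA p * φB q * φB b * (φA p * φB q)⁻¹ =
        φB (q * b * q⁻¹) := by
      intro p q b
      have h3 := comm_AB p (q * b * q⁻¹)
      rw [map_mul, map_mul, map_inv] at h3
      calc φA p * φB q * φB b * (φA p * φB q)⁻¹ =
          φA p * (φB q * φB b * (φB q)⁻¹) * (φA p)⁻¹ := by group
        _ = (φB q * φB b * (φB q)⁻¹) * φA p * (φA p)⁻¹ := by rw [h3]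
        _ = _ := by rw [map_mul, map_mul, map_inv]; group
    have h3 : φA c * φB d * e [1] * φA a * (φA c * φB d * e [1])⁻¹ =
        φB (d * (d' * a * d'⁻¹) * d⁻¹) := by
      calc φA c * φB d * e [1] * φA a * (φA c * φB d * e [1])⁻¹ =
          (φA c * φB d) * (e [1] * φA a * (e [1])⁻¹) * (φA c * φB d)⁻¹ := by group
        _ = (φA c * φB d) * φB (d' * a * d'⁻¹) * (φA c * φB d)⁻¹ := by rw [h2, ← h11, hB]
        _ = _ := hB _ _ _
    rw [h3] at hg
    have h4 := (A_inter_B hg.symm).2
    have h5 : a = 1 := by
      have h6 : d' * a * d'⁻¹ = 1 := by
        have := congrArg (fun z => d⁻¹ * z * d) h4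
        simpa only [mul_assoc, _root_.inv_mul_cancel_left, _root_.inv_mul_cancel, _root_.mul_one] using this
      have := congrArg (fun z => d'⁻¹ * z * d') h6
      simpa [mul_assoc] using this
    rw [h5, one_pow]

open Cfsg.Agent.KFacts.HN Cfsg.Agent.HN.XQuot Cfsg.Agent.HN.XWords in
theorem not_ratl_hn {G : Type u} [Group G] [Finite G] (h : Spor.IsoHN G) : ¬ Ratl G := by
  intro hR
  obtain ⟨f⟩ := h
  have : Finite Spor.HN := Finite.of_equiv _ f.toEquiv
  have hz : orderOf (W0 : Spor.HN) = 2 :=
    orderOf_eq_prime (by rw [pow_two]; exact W0_sq) W0_ne
  have h1 := (hR.of_equiv f).cent hz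
  have h2 : ORat 2 (KK (W0 : Spor.HN)) :=
    h1.of_surjective (QuotientGroup.mk' _) (QuotientGroup.mk'_surjective _)
  have h3 : ORat 2 Lq := h2.of_surjective (QuotientGroup.mk' _) (QuotientGroup.mk'_surjective _)
  exact alt5 (orat_a5_of_lq h3)

end Cfsg.Agent.H689
end

-- part: H689/SporSuz
section
/-!
# `Suz`
-/

set_option autoImplicit false
set_option linter.unusedSectionVars false

open Cfsg Subgroup

namespace Cfsg.Agent.H689

universe u

theorem charP_of_card {F : Type} [Field F] [Fintype F] {p k : ℕ} (hp : p.Prime)
    (hF : Fintype.card F = p ^ k) : CharP F p := by
  obtain ⟨r, hr⟩ := CharP.exists F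
  have hrp : Fact r.Prime := ⟨CharP.char_is_prime F r⟩
  obtain ⟨n, -, hn⟩ := FiniteField.card F r
  rw [hF] at hn
  have h2 : r ∣ p ^ k := by
    rw [hn]
    exact dvd_pow_self r n.2.ne'
  have h3 : r ∣ p := hrp.out.dvd_of_dvd_pow h2
  have h4 := (Nat.prime_dvd_prime_iff_eq hrp.out hp).1 h3
  subst h4
  exact hr

theorem not_ratl_suz {G : Type u} [Group G] [Finite G] (h : Spor.IsoSuz G) : ¬ Ratl G := by
  intro hR
  obtain ⟨f⟩ := h
  have : Finite Spor.Suz := Finite.of_equiv _ f.toEquiv
  have h1 := (hR.of_equiv f).cent CpAutSuz.Local.orderOf_y0
  obtain ⟨g, hg, -⟩ := H811.SuzCov.cov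
  obtain ⟨F, _, _, hF, ⟨e⟩⟩ := H811.PsuH.psu
  have hch : CharP F 3 := charP_of_card (k := 2) Nat.prime_three (by rw [hF]; norm_num)
  exact not_orat_psu (F := F) 3 (n := 4) (q := 3) (by rw [hF]; norm_num) (by norm_num) (by norm_num)
    ((h1.of_surjective g hg).of_equiv e)

end Cfsg.Agent.H689
end

-- part: H689/SporB
section
/-!
# The Baby Monster
-/

set_option autoImplicit false
set_option linter.unusedSectionVars false

open Cfsg Subgroup

namespace Cfsg.Agent.H689

universe u

open BabyM BabyM.Model in
theorem not_ratl_bmodel {W : Type} [AddCommGroup W] [Module ℚ W] {M : BData W} {K₀ : Type}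
    [Group K₀] (A : BAll M K₀) (e : K₀ ≃* Spor.Co2) : ¬ Ratl M.G := by
  intro h
  have hf := A.finite_G
  have hzG : M.z ∈ M.G := A.C_le_G (A.grp.Q_le A.grp.z_mem)
  let z : M.G := ⟨M.z, hzG⟩
  have hz : orderOf z = 2 := by
    refine orderOf_eq_prime ?_ ?_
    · rw [pow_two]
      exact Subtype.ext A.grp.z_sq
    · intro h1
      exact A.grp.z_ne (congrArg Subtype.val h1)
  have h1 := h.cent hz
  obtain ⟨π, hπ, -⟩ := A.grp.quot
  let j : Subgroup.centralizer ({z} : Set M.G) →* M.C :=
    { toFun := fun g => ⟨((g : M.G) : W ≃ₗ[ℚ] W), A.cent_z _ (g : M.G).2 (by
        have h2 := Subgroup.mem_centralizer_singleton_iff.1 g.2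
        exact congrArg Subtype.val h2)⟩
      map_one' := rfl
      map_mul' := fun _ _ => rfl }
  have hj : Function.Surjective j := by
    intro c
    refine ⟨⟨⟨(c : W ≃ₗ[ℚ] W), A.C_le_G c.2⟩, ?_⟩, rfl⟩
    rw [Subgroup.mem_centralizer_singleton_iff]
    exact Subtype.ext (A.grp.z_comm _ c.2)
  have h2 := h1.of_surjective (π.comp j) (hπ.comp hj)
  have : Finite K₀ := Finite.of_surjective (π.comp j) (hπ.comp hj)
  exact not_orat_co2 ⟨e⟩ h2

theorem not_ratl_b {G : Type u} [Group G] [Finite G] [hsim : IsSimpleGroup G] (h : Spor.IsoB G) :
    ¬ Ratl G := by
  intro hR
  obtain ⟨e⟩ := h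
  have hB : IsSimpleGroup Spor.BabyMonster := e.symm.isSimpleGroup_congr.2 hsim
  have hs : Function.Surjective (BM.StageW.hom BabyM.Instance.all BabyM.Instance.ok) :=
    BM.StageW.hom_surjective BabyM.Instance.all BabyM.Instance.ok
      (BM.StageWSurj.closure_x BabyM.Instance.all BabyM.Instance.ok)
  have hi : Function.Injective (BM.StageW.hom BabyM.Instance.all BabyM.Instance.ok) := by
    rw [← MonoidHom.ker_eq_bot_iff]
    rcases (inferInstance :
      (BM.StageW.hom BabyM.Instance.all BabyM.Instance.ok).ker.Normal).eq_bot_or_eq_top with h | h
    · exact h
    · exfalso
      have h1 := BabyM.Instance.all.simple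
      obtain ⟨x, hx⟩ := exists_ne (1 : BabyM.Inst.M.G)
      obtain ⟨y, rfl⟩ := hs x
      apply hx
      have : y ∈ (BM.StageW.hom BabyM.Instance.all BabyM.Instance.ok).ker := by
        rw [h]; exact Subgroup.mem_top _
      exact this
  have E : G ≃* BabyM.Inst.M.G := e.trans (MulEquiv.ofBijective _ ⟨hi, hs⟩)
  obtain ⟨e2⟩ := Schreier.CoTwoStab.exists_equiv _ BabyM.GroupInst.dt_l₀
  exact not_ratl_bmodel BabyM.Instance.all e2 (hR.of_equiv E)

end Cfsg.Agent.H689
end

-- part: H689/SporM
section
/-!
# The Monster
-/

set_option autoImplicit false
set_option linter.unusedSectionVars false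

open Cfsg Subgroup

namespace Cfsg.Agent.H689

universe u

open MonsterX MonsterX.Model MonsterX.MainBasic MonsterX.MainSimple in
theorem not_ratl_mmodel {W : Type} [AddCommGroup W] [Module ℚ W] {M : MData W}
    (hG : MGroup M Spor.Co1) (hR : MRep M) (hL : MLat M) (hO : MOrbit M) (hT : MTrans M) :
    ¬ Ratl M.G := by
  intro h
  have hf := G_finite hO
  have hz : orderOf (zG hG) = 2 := by
    refine orderOf_eq_prime ?_ ?_
    · rw [pow_two]
      exact Subtype.ext hG.z_sq
    · intro h1
      exact hG.z_ne (congrArg Subtype.val h1)
  have hmem := mem_cent_iff hG hR hL hO hT
  have h1 := h.cent hz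
  obtain ⟨π, hs, -⟩ := hG.quot
  let ι : Subgroup.centralizer ({zG hG} : Set M.G) →* M.C :=
    { toFun := fun x => ⟨(x : M.G), (hmem _).1 x.2⟩
      map_one' := rfl
      map_mul' := fun _ _ => rfl }
  have hι : Function.Surjective ι := fun c => ⟨⟨⟨c, C_le c.2⟩, (hmem _).2 c.2⟩, rfl⟩
  have h2 := h1.of_surjective (π.comp ι) (hs.comp hι)
  have : Finite Spor.Co1 := Finite.of_surjective (π.comp ι) (hs.comp hι)
  exact not_orat_co1 ⟨MulEquiv.refl _⟩ h2

open MonsterX MonsterX.Model in
/-- `MOrbit` for the concrete data. -/
theorem mOrbit : MOrbit InstData.M :=
  MonsterX.Instance.mOrbit OrbDone.closed OrbDone.disjoint KStabSpan.X_span OrbDone.card_X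
    OrbDone.card_pairs KStabDone.stab

theorem not_ratl_m {G : Type u} [Group G] [Finite G] [hsim : IsSimpleGroup G] (h : Spor.IsoM G) :
    ¬ Ratl G := by
  intro hR
  obtain ⟨e⟩ := h
  have hM : IsSimpleGroup Spor.Monster := e.symm.isSimpleGroup_congr.2 hsim
  have h1 := MonsterX.MainSimple.isSimple MonsterX.Instance.mGroup MonsterX.Instance.mRep
    MonsterX.Instance.mLat mOrbit MonsterX.Instance.mTrans
  have : Nontrivial MonsterX.InstData.M.G := h1.toNontrivial
  obtain ⟨e1⟩ := Schreier.MonsterIso.equiv_of_simple (MonsterP.NodesDone.prel mOrbit)
    (MonsterP.NodesDone.zrel mOrbit) (MonsterP.NodesDone.gen mOrbit BM.KHAll.isB)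
  exact not_ratl_mmodel MonsterX.Instance.mGroup MonsterX.Instance.mRep
    MonsterX.Instance.mLat mOrbit MonsterX.Instance.mTrans (hR.of_equiv (e.trans e1))

end Cfsg.Agent.H689
end

-- part: H689/Final
section
/-!
# No known nonabelian finite simple group satisfies `Ratl`
-/

set_option autoImplicit false

open Cfsg

namespace Cfsg.Agent.H689

universe u

theorem exists_charP (F : Type*) [Field F] [Fintype F] : ∃ p : ℕ, p.Prime ∧ CharP F p := by
  obtain ⟨p, hp⟩ := CharP.exists F
  exact ⟨p, CharP.char_is_prime F p, hp⟩

theorem card_eq_two_or {F : Type*} [Field F] [Fintype F] (h : (2 : F) = 0) : CharP F 2 := by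
  exact CharTwo.of_one_ne_zero_of_two_eq_zero one_ne_zero h

theorem not_ratl_psl {G : Type u} [Group G] (h : IsPSL G) : ¬ Ratl G := by
  obtain ⟨F, _, _, n, hn, h2, ⟨e⟩⟩ := h
  intro hR
  have hR' := hR.of_equiv e
  obtain ⟨p, hp, hchar⟩ := exists_charP F
  rcases Nat.lt_or_ge n 3 with hn3 | hn3
  · have hn2 : n = 2 := by omega
    subst hn2
    by_cases h20 : (2 : F) = 0
    · have : CharP F 2 := card_eq_two_or h20
      exact not_orat_psl_two_even (h2 rfl) (hR'.orat 2)
    · exact not_ratl_psl_two h20 hR'
  · exact not_orat_psl p hn3 (hR'.orat p)

theorem not_ratl_isPSp {G : Type u} [Group G] (h : IsPSp G) : ¬ Ratl G := by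
  obtain ⟨F, _, _, m, hm, h2, ⟨e⟩⟩ := h
  intro hR
  have hR' := hR.of_equiv e
  obtain ⟨p, hp, hchar⟩ := exists_charP F
  rcases Nat.lt_or_ge m 3 with hm3 | hm3
  · have hm2 : m = 2 := by omega
    subst hm2
    by_cases h20 : (2 : F) = 0
    · have : CharP F 2 := card_eq_two_or h20
      exact not_orat_psp_two_even (h2 rfl) (hR'.orat 2)
    · exact not_ratl_psp_odd h20 (by omega) hR'
  · by_cases h3 : Fintype.card F = 2 ∧ m ≤ 4
    · obtain ⟨h3, h4⟩ := h3
      rcases Nat.lt_or_ge m 4 with h5 | h5
      · have hm2 : m = 3 := by omega
        subst hm2
        exact not_ratl_psp_six h3 hR'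
      · have hm2 : m = 4 := by omega
        subst hm2
        exact not_orat_psp_eight p h3 (hR'.orat p)
    · exact not_orat_psp p hm3 h3 (hR'.orat p)

theorem not_ratl_isPSU {G : Type u} [Group G] (h : IsPSU G) : ¬ Ratl G := by
  obtain ⟨F, _, _, n, q, hF, hn, h2, ⟨e⟩⟩ := h
  intro hR
  have hR' := hR.of_equiv e
  obtain ⟨p, hp, hchar⟩ := exists_charP F
  by_cases h3 : q = 2 ∧ n ≤ 4
  · obtain ⟨h3, h4⟩ := h3
    subst h3
    have h5 : n = 4 := by
      have : ¬ n = 3 := fun h => h2 ⟨h, rfl⟩
      omega
    subst h5
    exact not_orat_psu_four hF (hR'.orat 1)
  · exact not_orat_psu p hF hn h3 (hR'.orat p)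

theorem not_ratl_isOdd {G : Type u} [Group G] (h : IsPOmegaOdd G) : ¬ Ratl G := by
  obtain ⟨F, _, _, m, hm, ho, ⟨e⟩⟩ := h
  intro hR
  obtain ⟨p, hp, hchar⟩ := exists_charP F
  exact not_orat_oodd p hm ho ((hR.of_equiv e).orat p)

theorem not_ratl_isPlus {G : Type u} [Group G] (h : IsPOmegaPlus G) : ¬ Ratl G := by
  obtain ⟨F, _, _, m, hm, ⟨e⟩⟩ := h
  intro hR
  have hR' := hR.of_equiv e
  obtain ⟨p, hp, hchar⟩ := exists_charP F
  by_cases h3 : Fintype.card F = 2 ∧ m ≤ 5
  · obtain ⟨h3, h4⟩ := h3
    rcases Nat.lt_or_ge m 5 with h5 | h5
    · have hm2 : m = 4 := by omega
      subst hm2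
      exact not_ratl_oplus_eight h3 hR'
    · have hm2 : m = 5 := by omega
      subst hm2
      exact not_orat_oplus_ten p h3 (hR'.orat p)
  · exact not_orat_oplus p hm h3 (hR'.orat p)

theorem not_ratl_isMinus {G : Type u} [Group G] (h : IsPOmegaMinus G) : ¬ Ratl G := by
  obtain ⟨F, _, _, m, a, b, hm, hab, ⟨e⟩⟩ := h
  intro hR
  have hR' := hR.of_equiv e
  obtain ⟨p, hp, hchar⟩ := exists_charP F
  by_cases h3 : Fintype.card F = 2 ∧ m ≤ 5
  · exact not_orat_ominus_two p h3.1 (by omega) a b hab (hR'.orat p)
  · exact not_orat_ominus p hm h3 a b hab (hR'.orat p)

theorem not_ratl_exc {G : Type u} [Group G] [Finite G] (h : IsExceptionalLieType G) : ¬ Ratl G := by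
  rcases h with h | h | h | h | h | h | h | h | h | h | h
  · obtain ⟨F, _, _, hF, ⟨e⟩⟩ := h
    exact fun hR => not_ratl_g2 hF (hR.of_equiv e)
  · obtain ⟨F, _, _, ⟨e⟩⟩ := h
    exact fun hR => not_ratl_f4 (hR.of_equiv e)
  · obtain ⟨F, _, _, ⟨e⟩⟩ := h
    exact fun hR => not_ratl_e6 (hR.of_equiv e)
  · obtain ⟨F, _, _, ⟨e⟩⟩ := h
    exact fun hR => not_ratl_e7 (hR.of_equiv e)
  · obtain ⟨F, _, _, ⟨e⟩⟩ := h
    exact fun hR => not_ratl_e8 (hR.of_equiv e)
  · obtain ⟨K, _, _, q, hq, hK, ⟨e⟩⟩ := h
    intro hR
    have hR' := hR.of_equiv e
    have h2 := card_te6 hq hK hR'
    subst h2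
    exact not_ratl_te6_two hK hR'
  · obtain ⟨K, _, _, q, hq, hK, ⟨e⟩⟩ := h
    exact fun hR => not_ratl_td4 hq hK (hR.of_equiv e)
  · obtain ⟨F, _, _, m, hm, hF, ⟨e⟩⟩ := h
    exact fun hR => not_ratl_sz hm hF (hR.of_equiv e)
  · obtain ⟨F, _, _, m, hm, hF, ⟨e⟩⟩ := h
    exact fun hR => not_ratl_ree hm hF (hR.of_equiv e)
  · obtain ⟨F, _, _, m, hm, hF, ⟨e⟩⟩ := h
    exact fun hR => not_ratl_tf4 hm hF (hR.of_equiv e)
  · exact not_ratl_tits h

theorem not_ratl_spor {G : Type u} [Group G] [Finite G] [IsSimpleGroup G] (h : IsSporadicGroup G) :
    ¬ Ratl G := by
  rcases h with h | h | h | h | h | h | h | h | h | h | h | h | h | h | h | h | h | h | h | h | h | h | h | h | h | h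
  · exact not_ratl_m11 h
  · exact not_ratl_m12 h
  · exact not_ratl_m22 h
  · exact not_ratl_m23 h
  · exact not_ratl_m24 h
  · exact not_ratl_j1 h
  · exact not_ratl_j2 h
  · exact not_ratl_j3 h
  · exact not_ratl_j4 h
  · exact fun hR => not_orat_co1 h (hR.orat 2)
  · exact fun hR => not_orat_co2 h (hR.orat 2)
  · exact not_ratl_co3 h
  · exact not_ratl_mcl h
  · exact not_ratl_hs h
  · exact not_ratl_suz h
  · exact not_ratl_he h
  · exact not_ratl_ru h
  · exact not_ratl_on h
  · exact not_ratl_ly h
  · exact not_ratl_fi22 h
  · exact not_ratl_fi23 h
  · exact not_ratl_fi24 h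
  · exact not_ratl_hn h
  · exact not_ratl_th h
  · exact not_ratl_b h
  · exact not_ratl_m h

/-- **No known nonabelian simple group satisfies `Ratl`.** -/
theorem not_ratl_known {G : Type u} [Group G] [Finite G] [IsSimpleGroup G]
    (hp : ¬ (Nat.card G).Prime) (h : IsKnownSimple' G) : ¬ Ratl G := by
  rcases h with h | h | h | h | h | h | h | h | h | h
  · exact absurd h hp
  · obtain ⟨n, hn, ⟨e⟩⟩ := h
    exact fun hR => not_ratl_alt hn (hR.of_equiv e)
  · exact not_ratl_psl h
  · exact not_ratl_isPSp h
  · exact not_ratl_isPSU h
  · exact not_ratl_isOdd h
  · exact not_ratl_isPlus h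
  · exact not_ratl_isMinus h
  · exact not_ratl_exc h
  · exact not_ratl_spor h

/-- A nontrivial finite group has a simple quotient. -/
theorem exists_simple_quotient (G : Type u) [Group G] [Finite G] [Nontrivial G] :
    ∃ M : Subgroup G, ∃ _ : M.Normal, IsSimpleGroup (G ⧸ M) := by
  classical
  obtain ⟨M, hM, hmax⟩ : ∃ M : Subgroup G, (M.Normal ∧ M ≠ ⊤) ∧
      ∀ N : Subgroup G, N.Normal ∧ N ≠ ⊤ → M ≤ N → N = M := by
    have hfin : Set.Finite {N : Subgroup G | N.Normal ∧ N ≠ ⊤} := Set.toFinite _
    obtain ⟨M, hM⟩ := hfin.exists_maximal ⟨⊥, Subgroup.normal_bot, bot_ne_top⟩
    exact ⟨M, hM.1, fun N hN hMN => le_antisymm (hM.2 hN hMN) hMN⟩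
  have := hM.1
  refine ⟨M, hM.1, ?_⟩
  have hnt : Nontrivial (G ⧸ M) := by
    rw [QuotientGroup.nontrivial_iff]
    exact hM.2
  refine ⟨fun H hH => ?_⟩
  have h1 : (H.comap (QuotientGroup.mk' M)).Normal := hH.comap _
  have hle : M ≤ H.comap (QuotientGroup.mk' M) := by
    intro x hx
    rw [Subgroup.mem_comap, QuotientGroup.mk'_apply, (QuotientGroup.eq_one_iff x).2 hx]
    exact H.one_mem
  by_cases h2 : H.comap (QuotientGroup.mk' M) = ⊤
  · right
    rw [eq_top_iff]
    intro y _
    obtain ⟨x, rfl⟩ := QuotientGroup.mk'_surjective M y
    have : x ∈ H.comap (QuotientGroup.mk' M) := by rw [h2]; exact Subgroup.mem_top x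
    exact this
  · left
    have h3 := hmax _ ⟨h1, h2⟩ hle
    rw [eq_bot_iff]
    intro y hy
    obtain ⟨x, rfl⟩ := QuotientGroup.mk'_surjective M y
    have : x ∈ H.comap (QuotientGroup.mk' M) := hy
    rw [h3] at this
    rw [Subgroup.mem_bot]
    exact (QuotientGroup.eq_one_iff x).2 this

theorem map_commutator_of_surjective_top {G H : Type*} [Group G] [Group H] (f : G →* H)
    (hf : Function.Surjective f) (h : commutator G = ⊤) : commutator H = ⊤ := by
  have h1 : (commutator G).map f = commutator H := by
    rw [commutator_def, Subgroup.map_commutator, Subgroup.map_top_of_surjective f hf, commutator_def]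
  rw [← h1, h, Subgroup.map_top_of_surjective f hf]

/-- **A finite group with distinct nonlinear character degrees is not perfect.** -/
theorem DD.not_perfect {G : Type u} [Group G] [Finite G] [Nontrivial G]
    (hK : ∀ (S : Type u) [Group S] [Finite S] [IsSimpleGroup S], IsKnownSimple' S) (h : DD G) :
    commutator G ≠ ⊤ := by
  intro hp
  obtain ⟨M, hM, hs⟩ := exists_simple_quotient G
  have h1 : DD (G ⧸ M) := h.quotient M
  have h2 : commutator (G ⧸ M) = ⊤ := by
    have h3 := map_commutator_of_surjective_top (QuotientGroup.mk' M) (QuotientGroup.mk'_surjective M) hp
    exact h3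
  refine not_ratl_known ?_ (hK _) (h1.ratl h2)
  intro hprime
  have : Fact (Nat.card (G ⧸ M)).Prime := ⟨hprime⟩
  have hcyc : IsCyclic (G ⧸ M) := isCyclic_of_prime_card rfl
  have hcomm : commutator (G ⧸ M) = ⊥ := by
    rw [commutator_def, Subgroup.commutator_eq_bot_iff_le_centralizer]
    intro x _
    rw [Subgroup.mem_centralizer_iff]
    intro y _
    have hc : IsMulCommutative (G ⧸ M) := IsCyclic.isMulCommutative
    exact hc.is_comm.comm y x
  rw [hcomm] at h2
  exact bot_ne_top h2

end Cfsg.Agent.H689
end
end

-- part: S4846
section
prune_inst 0x4200000080010000000051000200024400004300020000019a00d00000653220d8001404c803c000a0a220100010000000000c00000000000000400000100000088100411000000000006001002000000000000000000000000000000041004000000000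
set_option linter.all false
open scoped Cfsg.Agent.FastGrp

-- part: H689/PPart
section
/-!
# Groups with distinct nonlinear degrees: Sylow subgroups

* `DD.inf_commutator`: for a prime `p` dividing `|G : G'|`, `P ⊓ G' = P'`;
* `DD.exists_complement`: such a group has a normal `p`-complement (Tate);
* `DD.pGroup`: a `p`-group with the property is commutative or an extraspecial 2-group.
-/

set_option autoImplicit false

open scoped ComplexConjugate commutatorElement
open Cfsg Cfsg.Agent.Characters Cfsg.Agent.H686.CharKit Subgroup

namespace Cfsg.Agent.H689

universe u

variable {G : Type u} [Group G]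

/-- The index of the derived subgroup is at most the order of a centralizer. -/
theorem index_commutator_le {P : Type u} [Group P] [Finite P] (x : P) :
    (commutator P).index ≤ Nat.card (centralizer ({x} : Set P)) := by
  -- the conjugates of `x` lie in `x P'`
  have h1 : (centralizer ({x} : Set P)).index ≤ Nat.card (commutator P) := by
    have hinj : Function.Injective (fun q : P ⧸ centralizer ({x} : Set P) =>
        (⟨⁅q.out, x⁆, commutator_mem_commutator (mem_top _) (mem_top _)⟩ : commutator P)) := by
      intro a b hab
      have h2 : ⁅a.out, x⁆ = ⁅b.out, x⁆ := congrArg Subtype.val hab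
      have h3 : a.out * x * a.out⁻¹ = b.out * x * b.out⁻¹ := by
        have := congrArg (· * x) h2
        simpa only [commutatorElement_def, _root_.inv_mul_cancel_right] using this
      rw [← a.out_eq, ← b.out_eq, QuotientGroup.eq, mem_centralizer_singleton_iff]
      have h4 : a.out⁻¹ * b.out * x = x * (a.out⁻¹ * b.out) := by
        have : b.out * x = a.out * x * a.out⁻¹ * b.out := by rw [h3]; group
        rw [mul_assoc, this]; group
      exact h4
    have := Nat.card_le_card_of_injective _ hinj
    rwa [← Subgroup.index_eq_card] at this
  have h2 := (centralizer ({x} : Set P)).card_mul_index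
  have h3 := (commutator P).card_mul_index
  have h4 : 0 < Nat.card (commutator P) := Nat.card_pos
  by_contra hlt
  push Not at hlt
  have : Nat.card (centralizer ({x} : Set P)) * (centralizer ({x} : Set P)).index <
      (commutator P).index * Nat.card (commutator P) :=
    Nat.mul_lt_mul_of_lt_of_le hlt h1 (Nat.pos_of_ne_zero (by positivity))
  rw [h2, mul_comm, h3] at this
  exact lt_irrefl _ this

variable [Finite G]

/-- For a prime `p` dividing `|G : G'|`, `P ⊓ G' = P'` (`P` a Sylow `p`-subgroup). -/
theorem DD.inf_commutator (h : DD G) {p : ℕ} [hp : Fact p.Prime] (hd : p ∣ (commutator G).index)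
    (P : Sylow p G) :
    (commutator P).map (P : Subgroup G).subtype = (P : Subgroup G) ⊓ commutator G := by
  have hle : (commutator P).map (P : Subgroup G).subtype ≤ (P : Subgroup G) ⊓ commutator G := by
    refine le_inf (map_subtype_le _) ?_
    rw [commutator_def, map_commutator]
    exact commutator_mono le_top le_top
  -- an element of `P` outside `G'`
  have hnot : ¬ (P : Subgroup G) ≤ commutator G := by
    intro hc
    have h1 := Subgroup.index_dvd_of_le hc
    exact P.not_dvd_index (hd.trans h1)
  obtain ⟨g, hgP, hg⟩ := SetLike.not_le_iff_exists.1 hnot
  have h1 := h.card_centralizer hg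
  -- the centralizer in `P`
  let x : P := ⟨g, hgP⟩
  have h2 : (commutator P).index ≤ Nat.card (centralizer ({x} : Set P)) := index_commutator_le x
  have hmap : (centralizer ({x} : Set P)).map (P : Subgroup G).subtype ≤
      centralizer ({g} : Set G) := by
    rintro _ ⟨y, hy, rfl⟩
    rw [SetLike.mem_coe, mem_centralizer_singleton_iff] at hy
    rw [mem_centralizer_singleton_iff]
    exact congrArg Subtype.val hy
  have h3 : Nat.card (centralizer ({x} : Set P)) ∣ (commutator G).index := by
    rw [← h1, Nat.card_congr ((centralizer ({x} : Set P)).equivMapOfInjective _
      (P : Subgroup G).subtype_injective).toEquiv]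
    exact card_dvd_of_le hmap
  -- it is a power of `p`
  obtain ⟨k, hk⟩ : ∃ k, Nat.card (centralizer ({x} : Set P)) = p ^ k :=
    (IsPGroup.iff_card.1 (P.isPGroup'.to_subgroup _))
  obtain ⟨n, hn⟩ : ∃ n, Nat.card P = p ^ n := IsPGroup.iff_card.1 P.isPGroup'
  obtain ⟨m, hm⟩ : ∃ m, Nat.card ((P : Subgroup G) ⊓ commutator G : Subgroup G) = p ^ m :=
    IsPGroup.iff_card.1 (P.isPGroup'.to_le inf_le_left)
  obtain ⟨l, hl⟩ : ∃ l, Nat.card (commutator P) = p ^ l :=
    (IsPGroup.iff_card.1 (P.isPGroup'.to_subgroup _))
  have hcard : Nat.card ((commutator P).map (P : Subgroup G).subtype) = p ^ l := by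
    rw [← hl]
    exact (Nat.card_congr ((commutator P).equivMapOfInjective _
      (P : Subgroup G).subtype_injective).toEquiv).symm
  refine Subgroup.eq_of_le_of_card_ge hle ?_
  rw [hcard, hm]
  -- `k + m ≤ n`
  have h4 : p ^ (k + m) ∣ Nat.card G := by
    rw [← (commutator G).card_mul_index, pow_add, mul_comm (p ^ k)]
    refine mul_dvd_mul ?_ (hk ▸ h3)
    rw [← hm]
    exact card_dvd_of_le inf_le_right
  have h5 : k + m ≤ n := by
    have h6 : p ^ (k + m) ∣ Nat.card P := by
      rw [P.card_eq_multiplicity]
      exact pow_dvd_pow p ((hp.out.pow_dvd_iff_le_factorization Nat.card_pos.ne').1 h4)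
    rw [hn] at h6
    exact (Nat.pow_dvd_pow_iff_le_right hp.out.one_lt).1 h6
  have h6 : (commutator P).index * p ^ l = p ^ n := by
    rw [← hl, ← hn, mul_comm]; exact (commutator P).card_mul_index
  rw [hk] at h2
  have h7 : p ^ n ≤ p ^ (k + l) := by
    rw [← h6, pow_add]; exact Nat.mul_le_mul_right _ h2
  have h8 : n ≤ k + l := (Nat.pow_le_pow_iff_right hp.out.one_lt).1 h7
  exact Nat.pow_le_pow_right hp.out.pos (by omega)

/-- A group with the property has a normal `p`-complement for every prime `p` dividing
`|G : G'|`. -/
theorem DD.exists_complement (h : DD G) {p : ℕ} [hp : Fact p.Prime]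
    (hd : p ∣ (commutator G).index) (P : Sylow p G) :
    ∃ K : Subgroup G, K.Normal ∧ K.IsComplement' (P : Subgroup G) := by
  classical
  set k : ℕ := ordCompl[p] (commutator G).index with hk
  have hcop : p.Coprime k := Nat.coprime_ordCompl hp.out (index_ne_zero_of_finite)
  let f : G →* Abelianization G := (powMonoidHom k).comp Abelianization.of
  have hf : ∀ g, f g = Abelianization.of g ^ k := fun g => rfl
  have hcard : Nat.card (Abelianization G) = (commutator G).index := rfl
  -- the range of `f` is a `p`-group
  have hrange : IsPGroup p f.range := by
    intro y
    obtain ⟨y, g, rfl⟩ := y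
    refine ⟨(commutator G).index.factorization p, ?_⟩
    apply Subtype.ext
    show (f g) ^ _ = 1
    rw [hf, ← pow_mul, mul_comm, hk, Nat.ordProj_mul_ordCompl_eq_self, ← hcard]
    exact pow_card_eq_one'
  have hMP : f.ker ⊔ (P : Subgroup G) = ⊤ := by
    obtain ⟨j, hj⟩ := IsPGroup.iff_card.1 hrange
    have h1 : (f.ker ⊔ (P : Subgroup G)).index ∣ p ^ j := by
      rw [← hj, ← index_ker]
      exact index_dvd_of_le le_sup_left
    obtain ⟨i, -, hi⟩ := (Nat.dvd_prime_pow hp.out).1 h1
    have h2 : (f.ker ⊔ (P : Subgroup G)).index ∣ (P : Subgroup G).index :=
      index_dvd_of_le le_sup_right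
    rw [← index_eq_one, hi]
    rcases Nat.eq_zero_or_pos i with h0 | h0
    · rw [h0, pow_zero]
    · exact absurd ((dvd_pow_self p h0.ne').trans (hi ▸ h2)) P.not_dvd_index
  have hδ : ∀ (δ : P →* Multiplicative (ZMod p)) (x : P), (x : G) ∈ f.ker → δ x = 1 := by
    intro δ x hx
    have h1 : (x : G) ∈ commutator G := by
      rw [← Abelianization.ker_of, MonoidHom.mem_ker]
      have h2 : Abelianization.of (x : G) ^ k = 1 := hx
      obtain ⟨n, hn⟩ := P.isPGroup' x
      have h3 : Abelianization.of (x : G) ^ p ^ n = 1 := by
        rw [← map_pow]
        have : (x : G) ^ p ^ n = 1 := by exact_mod_cast congrArg Subtype.val hn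
        rw [this, map_one]
      have h4 := Nat.Coprime.pow_left n hcop
      have h5 := Nat.dvd_gcd (orderOf_dvd_of_pow_eq_one h3) (orderOf_dvd_of_pow_eq_one h2)
      rw [Nat.Coprime.gcd_eq_one h4] at h5
      exact orderOf_eq_one_iff.1 (Nat.dvd_one.1 h5)
    have h2 : (x : G) ∈ (commutator P).map (P : Subgroup G).subtype := by
      rw [h.inf_commutator hd P]
      exact ⟨x.2, h1⟩
    obtain ⟨y, hy, hyx⟩ := h2
    have h3 : y = x := Subtype.ext hyx
    rw [h3] at hy
    have : commutator P ≤ δ.ker := by
      rw [commutator_def, Subgroup.commutator_le]
      intro a _ b _
      rw [MonoidHom.mem_ker, map_commutatorElement]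
      exact commutatorElement_eq_one_iff_mul_comm.2 (mul_comm _ _)
    exact this hy
  obtain ⟨K, hKn, -, hK⟩ := Transfer.TateComplement.exists_normal_complement P f.ker hMP hδ
  exact ⟨K, hKn, hK⟩

/-- The sum of the squares of the degrees of the nonlinear irreducible characters. -/
theorem sum_nonlinear [Fintype (IrrCharacter G)] :
    ∑ χ ∈ Finset.univ.filter (fun χ : IrrCharacter G => charDegree (χ : G → ℂ) ≠ 1),
      charDegree (χ : G → ℂ) ^ 2 + (commutator G).index = Nat.card G := by
  classical
  rw [← sum_deg_sq (G := G), ← Finset.sum_filter_add_sum_filter_not Finset.univ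
    (fun χ : IrrCharacter G => charDegree (χ : G → ℂ) ≠ 1)]
  congr 1
  rw [← Linear.card_hom_eq_index_commutator G, Nat.card_congr (Linear.linearEquiv G),
    Nat.card_eq_fintype_card, Fintype.card_subtype, Finset.card_eq_sum_ones]
  have : (Finset.univ.filter fun χ : IrrCharacter G => ¬ charDegree (χ : G → ℂ) ≠ 1) =
      Finset.univ.filter fun χ : IrrCharacter G => (χ : G → ℂ) 1 = 1 := by
    ext χ
    simp only [Finset.mem_filter, Finset.mem_univ, true_and, not_not]
    exact charDegree_eq_one_iff χ
  rw [this]
  refine Finset.sum_congr rfl fun χ hχ => ?_
  rw [(charDegree_eq_one_iff χ).2 (Finset.mem_filter.1 hχ).2, one_pow]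

/-- A number-theoretic lemma: powers `p ^ (2 a)` with distinct `a`, summing to `p ^ n - p ^ m`. -/
theorem arith {ι : Type*} [DecidableEq ι] (s : Finset ι) (hs : s.Nonempty) (a : ι → ℕ)
    (ha : Set.InjOn a s) {p n m : ℕ} (hp : p.Prime)
    (h : ∑ i ∈ s, (p ^ a i) ^ 2 + p ^ m = p ^ n) :
    p = 2 ∧ n = m + 1 ∧ s.card = 1 ∧ ∀ i ∈ s, 2 * a i = m := by
  obtain ⟨i₀, hi₀, hmin⟩ := s.exists_min_image a hs
  have h1 : ∃ t, ∑ i ∈ s, (p ^ a i) ^ 2 = p ^ (2 * a i₀) + p ^ (2 * a i₀ + 2) * t ∧
      (t = 0 → s.card = 1) := by
    have h2 : p ^ (2 * a i₀ + 2) ∣ ∑ i ∈ s.erase i₀, (p ^ a i) ^ 2 := by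
      refine Finset.dvd_sum fun i hi => ?_
      rw [Finset.mem_erase] at hi
      rw [← pow_mul]
      refine pow_dvd_pow p ?_
      have := hmin i hi.2
      have h3 : a i ≠ a i₀ := fun h3 => hi.1 (ha hi.2 hi₀ h3)
      omega
    obtain ⟨t, ht⟩ := h2
    refine ⟨t, ?_, ?_⟩
    · rw [← Finset.add_sum_erase s _ hi₀, ht, ← pow_mul, mul_comm (a i₀)]
    · intro h0
      rw [h0, mul_zero] at ht
      rw [Finset.card_eq_one]
      refine ⟨i₀, Finset.eq_singleton_iff_unique_mem.2 ⟨hi₀, fun i hi => ?_⟩⟩
      by_contra hne
      have h3 := Finset.sum_eq_zero_iff.1 ht i (Finset.mem_erase.2 ⟨hne, hi⟩)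
      exact absurd h3 (pow_ne_zero _ (pow_ne_zero _ hp.ne_zero))
  obtain ⟨t, ht, ht0⟩ := h1
  rw [ht] at h
  have hp0 := hp.pos
  have hlt : p ^ m < p ^ n := by
    have : 0 < p ^ (2 * a i₀) := pow_pos hp0 _
    omega
  have hlt2 : p ^ (2 * a i₀) < p ^ n := by
    have : 0 < p ^ m := pow_pos hp0 _
    omega
  have hmn : m < n := (Nat.pow_lt_pow_iff_right hp.one_lt).1 hlt
  have han : 2 * a i₀ < n := (Nat.pow_lt_pow_iff_right hp.one_lt).1 hlt2
  have hm : m = 2 * a i₀ := by
    rcases lt_trichotomy m (2 * a i₀) with hc | hc | hc
    · exfalso
      have h3 : p ^ (m + 1) ∣ p ^ m := by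
        have h4 : p ^ (m + 1) ∣ p ^ (2 * a i₀) + p ^ (2 * a i₀ + 2) * t + p ^ m := by
          rw [h]; exact pow_dvd_pow p (by omega)
        refine (Nat.dvd_add_right ?_).1 h4
        exact dvd_add (pow_dvd_pow p (by omega)) ((pow_dvd_pow p (by omega)).mul_right t)
      exact absurd ((Nat.pow_dvd_pow_iff_le_right hp.one_lt).1 h3) (by omega)
    · exact hc
    · exfalso
      have h3 : p ^ (2 * a i₀ + 1) ∣ p ^ (2 * a i₀) := by
        have h4 : p ^ (2 * a i₀ + 1) ∣ (p ^ (2 * a i₀ + 2) * t + p ^ m) + p ^ (2 * a i₀) := by
          have : (p ^ (2 * a i₀ + 2) * t + p ^ m) + p ^ (2 * a i₀) = p ^ n := by omega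
          rw [this]; exact pow_dvd_pow p (by omega)
        refine (Nat.dvd_add_right ?_).1 h4
        exact dvd_add ((pow_dvd_pow p (by omega)).mul_right t) (pow_dvd_pow p (by omega))
      exact absurd ((Nat.pow_dvd_pow_iff_le_right hp.one_lt).1 h3) (by omega)
  obtain ⟨d, hd⟩ : ∃ d, n = m + (d + 1) := ⟨n - m - 1, by omega⟩
  have h3 : 2 + p ^ 2 * t = p ^ (d + 1) := by
    have h4 : p ^ m * (2 + p ^ 2 * t) = p ^ m * p ^ (d + 1) := by
      rw [← pow_add p m (d + 1), ← hd, ← h, ← hm]
      ring
    exact Nat.eq_of_mul_eq_mul_left (pow_pos hp0 _) h4
  have h4 : d = 0 := by
    by_contra hne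
    obtain ⟨e, he⟩ : ∃ e, d = e + 1 := ⟨d - 1, by omega⟩
    have h5 : p ^ 2 ∣ 2 := by
      have : p ^ 2 ∣ p ^ 2 * t + 2 := by
        rw [add_comm, h3, he]
        exact pow_dvd_pow p (by omega)
      exact (Nat.dvd_add_right (Dvd.intro t rfl)).1 this
    have h6 := Nat.le_of_dvd (by norm_num) h5
    have h7 := hp.two_le
    nlinarith only [h6, h7]
  rw [h4, zero_add, pow_one] at h3
  have h5 : t = 0 := by
    by_contra hne
    have h6 : 1 ≤ t := Nat.one_le_iff_ne_zero.2 hne
    have h7 := hp.two_le
    nlinarith only [h3, Nat.mul_le_mul_left (p ^ 2) h6]
  have h6 : s.card = 1 := ht0 h5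
  refine ⟨by rw [h5] at h3; omega, by omega, h6, ?_⟩
  obtain ⟨j, hj⟩ := Finset.card_eq_one.1 h6
  intro i hi
  rw [hj, Finset.mem_singleton] at hi hi₀
  rw [hi, ← hi₀, ← hm]

/-- A `p`-group with the property is commutative or an extraspecial 2-group. -/
theorem DD.pGroup (h : DD G) {p : ℕ} [hp : Fact p.Prime] (hG : IsPGroup p G) :
    (∀ a b : G, a * b = b * a) ∨ (p = 2 ∧ IsExtraspecial 2 G) := by
  classical
  have := Fintype.ofFinite G
  have := Core.finite_irr (G := G)
  have := Fintype.ofFinite (IrrCharacter G)
  by_cases hab : ∀ a b : G, a * b = b * a
  · exact Or.inl hab
  right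
  obtain ⟨n, hn⟩ := IsPGroup.iff_card.1 hG
  obtain ⟨l, hl⟩ : ∃ l, Nat.card (commutator G) = p ^ l := IsPGroup.iff_card.1 (hG.to_subgroup _)
  have hmul := (commutator G).card_mul_index
  obtain ⟨m, -, hm⟩ : ∃ m ≤ n, (commutator G).index = p ^ m := by
    refine (Nat.dvd_prime_pow hp.out).1 ?_
    rw [← hn, ← hmul]; exact Dvd.intro_left _ rfl
  set S := Finset.univ.filter (fun χ : IrrCharacter G => charDegree (χ : G → ℂ) ≠ 1) with hS
  have hsum := sum_nonlinear (G := G)
  rw [← hS, hm, hn] at hsum
  -- degrees are powers of `p`
  have hdeg : ∀ χ : IrrCharacter G, ∃ a, charDegree (χ : G → ℂ) = p ^ a := by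
    intro χ
    have h1 : charDegree (χ : G → ℂ) ∣ Nat.card G :=
      H669.Basic.charDegree_dvd_card χ.2
    rw [hn] at h1
    obtain ⟨a, -, ha⟩ := (Nat.dvd_prime_pow hp.out).1 h1
    exact ⟨a, ha⟩
  choose a ha using hdeg
  have hinj : Set.InjOn a (S : Set (IrrCharacter G)) := by
    intro χ hχ ψ hψ hab
    by_contra hne
    have h1 : charDegree (χ : G → ℂ) ≠ 1 := (Finset.mem_filter.1 hχ).2
    exact h χ ψ hne h1 (by rw [ha, ha, hab])
  have hne : S.Nonempty := by
    by_contra hcon
    rw [Finset.not_nonempty_iff_eq_empty] at hcon
    rw [hcon, Finset.sum_empty, zero_add] at hsum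
    have h1 : Nat.card (commutator G) = 1 := by
      rw [hm, hn, hsum] at hmul
      exact Nat.eq_of_mul_eq_mul_right (pow_pos hp.out.pos n) (by rw [hmul, one_mul])
    rw [Subgroup.card_eq_one] at h1
    apply hab
    intro x y
    have h2 : ⁅x, y⁆ ∈ commutator G := commutator_mem_commutator (mem_top _) (mem_top _)
    rw [h1, mem_bot] at h2
    exact commutatorElement_eq_one_iff_mul_comm.1 h2
  have hsum' : ∑ χ ∈ S, (p ^ a χ) ^ 2 + p ^ m = p ^ n := by
    rw [← hsum]
    congr 1
    exact Finset.sum_congr rfl fun χ _ => by rw [ha]
  obtain ⟨hp2, hnm, hcard, hall⟩ := arith S hne a hinj hp.out hsum'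
  obtain ⟨χ, hχ⟩ := Finset.card_eq_one.1 hcard
  have hχS : χ ∈ S := by rw [hχ]; exact Finset.mem_singleton_self χ
  have hχ1 : (χ : G → ℂ) 1 ≠ 1 := by
    rw [Ne, ← charDegree_eq_one_iff]
    exact (Finset.mem_filter.1 hχS).2
  have hcom : Nat.card (commutator G) = p := by
    rw [hm, hn, hnm, pow_succ, mul_comm] at hmul
    exact Nat.eq_of_mul_eq_mul_left (pow_pos hp.out.pos m) hmul
  -- the derived subgroup is central
  have hcz : commutator G ≤ center G := by
    have h1 : commutator G ≠ ⊥ := by
      intro h0
      rw [h0, card_bot] at hcom
      exact hp.out.one_lt.ne hcom
    obtain ⟨Z, hZ1, hZ2, hZ3⟩ := Transfer.TausskyTwoGroup.exists_central_card_prime_le hG _ h1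
    have h5 : Z = commutator G := Subgroup.eq_of_le_of_card_ge hZ1 (by rw [hcom, hZ3])
    rw [← h5]; exact hZ2
  have hzc : center G ≤ commutator G := by
    intro z hz
    by_contra hcon
    have h1 := h.card_centralizer hcon
    have h2 : centralizer ({z} : Set G) = ⊤ := by
      rw [eq_top_iff]
      intro x _
      rw [mem_centralizer_singleton_iff]
      exact mem_center_iff.1 hz x
    rw [h2, card_top, hn, hm, hnm] at h1
    have := Nat.pow_right_injective hp.out.two_le h1
    omega
  have heq : commutator G = center G := le_antisymm hcz hzc
  subst hp2
  refine ⟨rfl, H446.ExtraAct.isExtraspecial_of hG heq ?_ ?_⟩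
  · intro y
    rw [mem_center_iff]
    intro x
    have h1 : ⁅x, y⁆ ∈ commutator G := commutator_mem_commutator (mem_top _) (mem_top _)
    have h2 : ⁅x, y⁆ * ⁅x, y⁆ = 1 := by
      have := pow_card_eq_one' (x := (⟨⁅x, y⁆, h1⟩ : commutator G))
      rw [hcom] at this
      have h3 := congrArg Subtype.val this
      rw [← pow_two]
      exact h3
    have h3 := mem_center_iff.1 (hcz h1)
    have h4 : x * y * x⁻¹ = ⁅x, y⁆ * y := by rw [commutatorElement_def]; group
    have h5 : x * (y * y) * x⁻¹ = y * y := by
      calc x * (y * y) * x⁻¹ = (x * y * x⁻¹) * (x * y * x⁻¹) := by group
        _ = ⁅x, y⁆ * (y * ⁅x, y⁆) * y := by rw [h4]; group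
        _ = (⁅x, y⁆ * ⁅x, y⁆) * (y * y) := by rw [h3 y]; group
        _ = y * y := by rw [h2, one_mul]
    rw [pow_two]
    exact mul_inv_eq_iff_eq_mul.1 h5
  · rw [← heq, hcom]

end Cfsg.Agent.H689
end

-- part: H689/Frob
section
/-!
# Frobenius groups: a small kit

`Frob K H`: `K` is normal, `H` is a complement, both nontrivial, and nonidentity elements of `H`
commute with no nonidentity element of `K`.
-/

set_option autoImplicit false
set_option linter.unusedSectionVars false

open scoped ComplexConjugate Pointwise
open Cfsg Cfsg.Agent.Characters Cfsg.Agent.H686.CharKit Subgroup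

namespace Cfsg.Agent.H689

universe u

variable {G : Type u} [Group G]

/-- `G = K ⋊ H` is a Frobenius group with kernel `K` and complement `H`. -/
structure Frob (K H : Subgroup G) : Prop where
  normal : K.Normal
  compl : K.IsComplement' H
  neK : K ≠ ⊥
  neH : H ≠ ⊥
  fpf : ∀ h ∈ H, h ≠ 1 → ∀ k ∈ K, h * k = k * h → k = 1

variable {K H : Subgroup G}

theorem Frob.card_mul (F : Frob K H) : Nat.card K * Nat.card H = Nat.card G :=
  F.compl.card_mul_card

variable [Finite G]

theorem Frob.isFC (F : Frob K H) : IsFrobeniusComplement H := by
  have := F.normal
  rw [S0039.result K H F.compl F.neK F.neH]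
  intro h hh h1
  rw [eq_bot_iff]
  intro k hk
  rw [mem_inf, mem_centralizer_singleton_iff] at hk
  exact F.fpf h hh h1 k hk.1 hk.2.symm

theorem Frob.kernel (F : Frob K H) : frobeniusKernel H = (K : Set G) := by
  have := F.normal
  obtain ⟨N, hN, hNn, hNc⟩ := S0035.result H F.isFC
  have hle : K ≤ N := by
    intro k hk
    rw [← SetLike.mem_coe, hN]
    by_cases h1 : k = 1
    · exact Or.inl h1
    · refine Or.inr fun g hg => h1 ?_
      rw [mem_pointwise_smul_iff_inv_smul_mem] at hg
      have h2 : (MulAut.conj g)⁻¹ • k ∈ K := by
        rw [← map_inv, MulAut.smul_def, MulAut.conj_apply]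
        exact this.conj_mem k hk g⁻¹
      have h3 : (MulAut.conj g)⁻¹ • k ∈ (K ⊓ H : Subgroup G) := ⟨h2, hg⟩
      rw [F.compl.disjoint.eq_bot, mem_bot] at h3
      have h4 : (MulAut.conj g)⁻¹ • k = (MulAut.conj g)⁻¹ • (1 : G) := by rw [h3, smul_one]
      exact smul_left_cancel _ h4
  have hcard : Nat.card K = Nat.card N := by
    have h1 := F.compl.card_mul_card
    have h2 := hNc.card_mul_card
    exact Nat.eq_of_mul_eq_mul_right Nat.card_pos (h1.trans h2.symm)
  rw [← hN, Subgroup.eq_of_le_of_card_ge hle hcard.ge]

theorem Frob.nilpotent (F : Frob K H) : Group.IsNilpotent K := by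
  obtain ⟨N, hN, -, hNn⟩ := S0042.result H F.isFC
  rw [F.kernel] at hN
  have : N = K := SetLike.coe_injective hN
  rwa [this] at hNn

/-- Elements outside the kernel are conjugate into the complement. -/
theorem Frob.exists_conj (F : Frob K H) {x : G} (hx : x ∉ K) : ∃ g : G, g⁻¹ * x * g ∈ H := by
  have h1 : x ∉ frobeniusKernel H := by rw [F.kernel]; exact hx
  have h2 : ¬ (x = 1 ∨ ∀ g : G, x ∉ MulAut.conj g • H) := h1
  push Not at h2
  obtain ⟨g, hg⟩ := h2.2
  refine ⟨g, ?_⟩
  rw [mem_pointwise_smul_iff_inv_smul_mem] at hg
  rw [← map_inv, MulAut.smul_def, MulAut.conj_apply, inv_inv] at hg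
  exact hg

/-- The centralizer of a nonidentity element of the kernel is in the kernel. -/
theorem Frob.centralizer_le (F : Frob K H) {k : G} (hk : k ∈ K) (h1 : k ≠ 1) :
    centralizer ({k} : Set G) ≤ K := by
  intro y hy
  by_contra hyK
  obtain ⟨g, hg⟩ := F.exists_conj hyK
  rw [mem_centralizer_singleton_iff] at hy
  have hy1 : g⁻¹ * y * g ≠ 1 := by
    intro h
    apply hyK
    have : y = 1 := by
      have := congrArg (fun z => g * z * g⁻¹) h
      simpa only [mul_assoc, _root_.mul_inv_cancel_left, _root_.mul_inv_cancel, _root_.mul_one] using this
    rw [this]; exact one_mem K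
  have h2 := F.fpf _ hg hy1 (g⁻¹ * k * g) (by simpa using F.normal.conj_mem k hk g⁻¹) (by
    have : g⁻¹ * y * g * (g⁻¹ * k * g) = g⁻¹ * (y * k) * g := by group
    rw [this, hy]; group)
  apply h1
  have := congrArg (fun z => g * z * g⁻¹) h2
  simpa [mul_assoc] using this

/-- Passing to a quotient by a normal subgroup properly contained in the kernel. -/
theorem Frob.quotient (F : Frob K H) (M : Subgroup G) [hM : M.Normal] (hMK : M < K) :
    Frob (K.map (QuotientGroup.mk' M)) (H.map (QuotientGroup.mk' M)) where
  normal := F.normal.map _ (QuotientGroup.mk'_surjective M)
  compl := by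
    refine isComplement'_of_disjoint_and_mul_eq_univ ?_ ?_
    · rw [disjoint_def]
      rintro _ ⟨k, hk, rfl⟩ ⟨h, hh, hkh⟩
      have h1 : k⁻¹ * h ∈ M := by
        rw [← QuotientGroup.eq]; exact hkh.symm
      have h2 : h ∈ K := by
        have := K.mul_mem hk (hMK.le h1)
        simpa using this
      have h3 : h ∈ (K ⊓ H : Subgroup G) := ⟨h2, hh⟩
      rw [F.compl.disjoint.eq_bot, mem_bot] at h3
      rw [← hkh, h3, map_one]
    · rw [Set.eq_univ_iff_forall]
      intro y
      obtain ⟨x, rfl⟩ := QuotientGroup.mk'_surjective M y
      obtain ⟨⟨⟨k, hk⟩, ⟨h, hh⟩⟩, hx, -⟩ := F.compl.existsUnique x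
      refine ⟨QuotientGroup.mk' M k, ⟨k, hk, rfl⟩, QuotientGroup.mk' M h, ⟨h, hh, rfl⟩, ?_⟩
      show QuotientGroup.mk' M k * QuotientGroup.mk' M h = QuotientGroup.mk' M x
      rw [← map_mul]
      exact congrArg _ hx
  neK := by
    intro h
    rw [Subgroup.map_eq_bot_iff, QuotientGroup.ker_mk'] at h
    exact hMK.not_ge h
  neH := by
    intro h
    rw [Subgroup.map_eq_bot_iff, QuotientGroup.ker_mk'] at h
    apply F.neH
    rw [eq_bot_iff]
    intro x hx
    have h3 : x ∈ (K ⊓ H : Subgroup G) := ⟨hMK.le (h hx), hx⟩
    rwa [F.compl.disjoint.eq_bot] at h3
  fpf := by
    rintro _ ⟨h, hh, rfl⟩ hne _ ⟨k, hk, rfl⟩ hcomm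
    have h1 : h ≠ 1 := by rintro rfl; exact hne (map_one _)
    -- `m ↦ m⁻¹ * (h * m * h⁻¹)` is injective, hence surjective on `M`
    let f : M → M := fun m => ⟨(m : G)⁻¹ * (h * m * h⁻¹),
      M.mul_mem (M.inv_mem m.2) (hM.conj_mem m m.2 h)⟩
    have key : ∀ a b : G, a ∈ K → b ∈ K → a⁻¹ * (h * a * h⁻¹) = b⁻¹ * (h * b * h⁻¹) → a = b := by
      intro a b ha hb hab
      have h2 : h * (b * a⁻¹) = b * a⁻¹ * h := by
        have h3 : h * a * h⁻¹ = a * (b⁻¹ * (h * b * h⁻¹)) := by rw [← hab]; group
        have h4 : h * a * h⁻¹ * h * b⁻¹ = a * b⁻¹ * h := by rw [h3]; group
        have h5 : h * (a * b⁻¹) = a * b⁻¹ * h := by rw [← h4]; group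
        have h6 : (a * b⁻¹)⁻¹ * (h * (a * b⁻¹)) * (a * b⁻¹)⁻¹ =
          (a * b⁻¹)⁻¹ * (a * b⁻¹ * h) * (a * b⁻¹)⁻¹ := by rw [h5]
        have h7 : (a * b⁻¹)⁻¹ * h = h * (a * b⁻¹)⁻¹ := by
          calc (a * b⁻¹)⁻¹ * h = (a * b⁻¹)⁻¹ * (h * (a * b⁻¹)) * (a * b⁻¹)⁻¹ := by group
            _ = (a * b⁻¹)⁻¹ * (a * b⁻¹ * h) * (a * b⁻¹)⁻¹ := h6
            _ = h * (a * b⁻¹)⁻¹ := by group
        have h8 : (a * b⁻¹)⁻¹ = b * a⁻¹ := by group
        rw [← h8]; exact h7.symm
      have h3 := F.fpf h hh h1 (b * a⁻¹) (K.mul_mem hb (K.inv_mem ha)) h2
      exact (mul_inv_eq_one.1 h3).symm
    have hinj : Function.Injective f := by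
      intro a b hab
      exact Subtype.ext (key a b (hMK.le a.2) (hMK.le b.2) (congrArg Subtype.val hab))
    have hsurj := Finite.surjective_of_injective hinj
    have h2 : k⁻¹ * (h * k * h⁻¹) ∈ M := by
      rw [← QuotientGroup.ker_mk' M, MonoidHom.mem_ker]
      simp only [map_mul, map_inv]
      rw [hcomm]
      group
    obtain ⟨m, hm⟩ := hsurj ⟨_, h2⟩
    have h3 : (m : G) = k := key m k (hMK.le m.2) hk (congrArg Subtype.val hm)
    rw [← h3]
    exact (QuotientGroup.eq_one_iff (m : G)).2 m.2

/-- An irreducible character of `G` not containing `K` in its kernel is induced from `K`. -/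
theorem Frob.exists_ind [Fintype G] (F : Frob K H) (χ : IrrCharacter G) (hχ : ¬ K ≤ chKer χ) :
    ∃ τ : IrrCharacter K, indFun K (τ : K → ℂ) = (χ : G → ℂ) ∧
      (χ : G → ℂ) 1 = Nat.card H * (τ : K → ℂ) 1 := by
  classical
  have := F.normal
  have : Fintype K := Fintype.ofFinite K
  have := Core.finite_irr (G := K)
  have := Fintype.ofFinite (IrrCharacter K)
  have hres : IsCharacter K (fun k : K => (χ : G → ℂ) k) :=
    Core.isCharacter_comp K.subtype (Core.isIrr_isCharacter χ.2)
  obtain ⟨m, hm⟩ := Core.exists_nat_comb hres
  have hex : ∃ τ : IrrCharacter K, (τ : K → ℂ) ≠ 1 ∧ m τ ≠ 0 := by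
    by_contra hcon
    push Not at hcon
    apply hχ
    intro k hk
    rw [mem_chKer]
    have h1 : ∀ x : K, (χ : G → ℂ) x = ∑ ψ : IrrCharacter K, (m ψ : ℂ) := by
      intro x
      have h0 : (χ : G → ℂ) x = (∑ ψ : IrrCharacter K, m ψ • (ψ : K → ℂ)) x := congrFun hm x
      rw [h0, Finset.sum_apply]
      refine Finset.sum_congr rfl fun ψ _ => ?_
      by_cases hψ : (ψ : K → ℂ) = 1
      · rw [Pi.smul_apply, hψ]; simp
      · rw [hcon ψ hψ]; simp
    have h2 := h1 ⟨k, hk⟩
    have h3 := h1 1
    rw [← h3] at h2
    exact h2
  obtain ⟨τ, hτ1, hτm⟩ := hex
  have hind : IsIrrCharacter G (indFun K (τ : K → ℂ)) :=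
    S0171.result K H F.compl.disjoint.eq_bot F.compl.sup_eq_top F.fpf τ τ.2 hτ1
  have hinner : classInner (indFun K (τ : K → ℂ)) (χ : G → ℂ) ≠ 0 := by
    rw [S0146.result K _ _ (Core.isIrr_isClassFunction χ.2)]
    have h1 : classInner (fun k : K => (χ : G → ℂ) k) (τ : K → ℂ) = m τ := by
      rw [hm, Core.classInner_sum_nsmul_irr]
    rw [← Core.classInner_conj_symm, h1]
    simpa using hτm
  have heq : indFun K (τ : K → ℂ) = (χ : G → ℂ) := by
    by_contra hne
    exact hinner (Core.classInner_irr_ne hind χ.2 hne)
  refine ⟨τ, heq, ?_⟩
  rw [← heq, Core.indFun_apply]
  have h1 : ∀ x : G, extendByZero K (τ : K → ℂ) (x⁻¹ * 1 * x) = (τ : K → ℂ) 1 := by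
    intro x
    have : x⁻¹ * 1 * x = 1 := by group
    rw [this, Core.extendByZero_of_mem K _ (one_mem K)]
    rfl
  simp_rw [h1]
  rw [Finset.sum_const, Finset.card_univ, ← Nat.card_eq_fintype_card, nsmul_eq_mul,
    ← F.compl.card_mul_card]
  have : (Nat.card K : ℂ) ≠ 0 := Nat.cast_ne_zero.2 Nat.card_pos.ne'
  push_cast
  field_simp

/-- The sum of the squares of the degrees of the irreducible characters of `G` not containing
`N` in the kernel. -/
theorem sum_not_ker [Fintype (IrrCharacter G)] (N : Subgroup G) [N.Normal]
    [DecidablePred fun χ : IrrCharacter G => N ≤ chKer χ] :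
    ∑ χ ∈ Finset.univ.filter (fun χ : IrrCharacter G => ¬ N ≤ chKer χ),
      charDegree (χ : G → ℂ) ^ 2 + N.index = Nat.card G := by
  classical
  have := Core.finite_irr (G := G ⧸ N)
  have := Fintype.ofFinite (IrrCharacter (G ⧸ N))
  rw [← sum_deg_sq (G := G), ← Finset.sum_filter_add_sum_filter_not Finset.univ
    (fun χ : IrrCharacter G => N ≤ chKer χ), add_comm]
  congr 1
  have h1 : N.index = Nat.card (G ⧸ N) := rfl
  rw [h1, ← sum_deg_sq (G := G ⧸ N), Finset.sum_filter]
  rw [← Finset.sum_filter, Finset.sum_subtype (p := fun χ : IrrCharacter G => N ≤ chKer χ)
    (Finset.univ.filter fun χ : IrrCharacter G => N ≤ chKer χ) (by simp only [_root_.Finset.mem_filter, _root_.Finset.mem_univ, _root_.true_and, _root_.implies_true])]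
  rw [← Equiv.sum_comp (inflEquiv N)]
  exact Finset.sum_congr rfl fun ψ _ => rfl

end Cfsg.Agent.H689
end

-- part: H689/FrobMain
section
/-!
# Frobenius groups with distinct nonlinear degrees

* `Frob.abelian_kernel`: commutative kernel: `|K| = |H| + 1`, `K` is elementary abelian;
* `Frob.kernel_comm`: the kernel is commutative.
-/

set_option autoImplicit false
set_option linter.unusedSectionVars false

open scoped ComplexConjugate Pointwise commutatorElement
open Cfsg Cfsg.Agent.Characters Cfsg.Agent.H686.CharKit Subgroup

namespace Cfsg.Agent.H689

universe u

variable {G : Type u} [Group G] {K H : Subgroup G} [Finite G]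

theorem Frob.one_lt_card (F : Frob K H) : 1 < Nat.card H := by
  have h1 := F.neH
  rcases Nat.lt_or_ge 1 (Nat.card H) with h | h
  · exact h
  · have : Nat.card H = 1 := le_antisymm h Nat.card_pos
    exact absurd ((Subgroup.card_eq_one).1 this) h1

theorem Frob.index_kernel (F : Frob K H) : K.index = Nat.card H := by
  have h1 := F.card_mul
  rw [← K.card_mul_index] at h1
  exact (Nat.eq_of_mul_eq_mul_left Nat.card_pos h1).symm

theorem Frob.not_comm_iff (F : Frob K H) {k : G} (hk : k ∈ K) (h1 : k ≠ 1) {h : G} (hh : h ∈ H)
    (hc : h * k = k * h) : h = 1 := by
  by_contra hne
  exact h1 (F.fpf h hh hne k hk hc)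

/-- If the kernel is commutative, `|K| = |H| + 1`. -/
theorem Frob.card_eq (F : Frob K H) (h : DD G) (hK : ∀ a ∈ K, ∀ b ∈ K, a * b = b * a) :
    Nat.card K = Nat.card H + 1 := by
  classical
  have := Fintype.ofFinite G
  have := Core.finite_irr (G := G)
  have := Fintype.ofFinite (IrrCharacter G)
  have := F.normal
  have hsum := sum_not_ker (G := G) K
  set X := Finset.univ.filter (fun χ : IrrCharacter G => ¬ K ≤ chKer χ) with hX
  have hKc : ∀ τ : IrrCharacter K, (τ : K → ℂ) 1 = 1 := by
    intro τ
    have hc : charDegree (τ : K → ℂ) ^ 2 ≤ (center K).index :=
      H678.Codeg.sq_charDegree_le_index_center τ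
    have htop : center K = ⊤ := by
      rw [eq_top_iff]
      intro x _
      rw [mem_center_iff]
      intro y
      exact Subtype.ext (hK y y.2 x x.2)
    rw [htop, index_top] at hc
    have h0 := charDegree_pos τ
    have h1 : charDegree (τ : K → ℂ) = 1 := by nlinarith only [hc, h0]
    exact (charDegree_eq_one_iff τ).1 h1
  have hdeg : ∀ χ ∈ X, charDegree (χ : G → ℂ) = Nat.card H := by
    intro χ hχ
    obtain ⟨τ, -, hτ⟩ := F.exists_ind χ (Finset.mem_filter.1 hχ).2
    rw [hKc τ, mul_one, ← charDegree_irr] at hτ
    exact_mod_cast hτ
  have hone : X.card ≤ 1 := by
    rw [Finset.card_le_one]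
    intro χ hχ ψ hψ
    by_contra hne
    refine h χ ψ hne ?_ ?_
    · rw [hdeg χ hχ]; exact F.one_lt_card.ne'
    · rw [hdeg χ hχ, hdeg ψ hψ]
  have h1 : ∑ χ ∈ X, charDegree (χ : G → ℂ) ^ 2 = X.card * Nat.card H ^ 2 := by
    rw [Finset.sum_congr rfl fun χ hχ => by rw [hdeg χ hχ], Finset.sum_const, smul_eq_mul]
  rw [h1, F.index_kernel, ← F.card_mul] at hsum
  have h2 : X.card * Nat.card H + 1 = Nat.card K := by
    have h3 : (X.card * Nat.card H + 1) * Nat.card H = Nat.card K * Nat.card H := by
      rw [← hsum]; ring
    exact Nat.eq_of_mul_eq_mul_right Nat.card_pos h3
  have h3 : 1 < Nat.card K := by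
    rcases Nat.lt_or_ge 1 (Nat.card K) with h | h
    · exact h
    · exact absurd ((Subgroup.card_eq_one).1 (le_antisymm h Nat.card_pos)) F.neK
  have h4 : X.card = 1 := by
    rcases Nat.eq_zero_or_pos X.card with h0 | h0
    · rw [h0] at h2; omega
    · omega
  rw [h4, one_mul] at h2
  exact h2.symm

/-- If `|K| = |H| + 1`, the complement is transitive on the nonidentity elements of the kernel. -/
theorem Frob.transitive (F : Frob K H) (hc : Nat.card K = Nat.card H + 1) {a b : G} (ha : a ∈ K)
    (hb : b ∈ K) (ha1 : a ≠ 1) (hb1 : b ≠ 1) : ∃ h ∈ H, h * a * h⁻¹ = b := by
  classical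
  have := Fintype.ofFinite G
  let f : H → {k : K // k ≠ 1} := fun h => ⟨⟨h * a * (h : G)⁻¹, F.normal.conj_mem a ha h⟩, by
    intro h1
    apply ha1
    have h2 : (h : G) * a * (h : G)⁻¹ = 1 := congrArg Subtype.val h1
    simpa only [_root_.conj_eq_one_iff] using h2⟩
  have hinj : Function.Injective f := by
    intro x y hxy
    have h1 : (x : G) * a * (x : G)⁻¹ = y * a * (y : G)⁻¹ :=
      congrArg (fun z => ((z.1 : K) : G)) hxy
    have h2 : ((y : G)⁻¹ * x) * a = a * ((y : G)⁻¹ * x) := by
      calc ((y : G)⁻¹ * x) * a = (y : G)⁻¹ * (x * a * (x : G)⁻¹) * x := by group
        _ = (y : G)⁻¹ * (y * a * (y : G)⁻¹) * x := by rw [h1]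
        _ = a * ((y : G)⁻¹ * x) := by group
    have h3 := F.not_comm_iff ha ha1 (H.mul_mem (H.inv_mem y.2) x.2) h2
    exact Subtype.ext (inv_mul_eq_one.1 h3).symm
  have hcard : Nat.card H = Nat.card {k : K // k ≠ 1} := by
    have h1 : Nat.card {k : K // k ≠ 1} = Nat.card K - 1 := by
      rw [Nat.card_eq_fintype_card, Nat.card_eq_fintype_card, Fintype.card_subtype_compl,
        Fintype.card_subtype_eq]
    rw [h1, hc]; rfl
  have hsurj : Function.Surjective f :=
    (Function.Injective.bijective_of_nat_card_le hinj hcard.ge).2
  obtain ⟨h, hh⟩ := hsurj ⟨⟨b, hb⟩, fun h => hb1 (congrArg Subtype.val h)⟩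
  exact ⟨h, h.2, congrArg (fun z => ((z.1 : K) : G)) hh⟩

/-- If `|K| = |H| + 1` then all elements of the kernel have order dividing one prime `q`, and `|K|`
is a power of `q`. -/
theorem Frob.exists_prime (F : Frob K H) (hc : Nat.card K = Nat.card H + 1) :
    ∃ q n : ℕ, q.Prime ∧ (∀ k ∈ K, k ^ q = 1) ∧ Nat.card K = q ^ n := by
  have h1 : Nat.card K ≠ 1 := by
    have := F.one_lt_card
    omega
  obtain ⟨q, hq, hqd⟩ := Nat.exists_prime_and_dvd h1
  haveI : Fact q.Prime := ⟨hq⟩
  obtain ⟨x, hx⟩ := exists_prime_orderOf_dvd_card' q hqd
  have hx1 : (x : G) ≠ 1 := by
    intro h
    have : x = 1 := Subtype.ext h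
    rw [this, orderOf_one] at hx
    exact hq.one_lt.ne hx
  have hxq : (x : G) ^ q = 1 := by
    have := pow_orderOf_eq_one x
    rw [hx] at this
    exact congrArg Subtype.val this
  have hall : ∀ k ∈ K, k ^ q = 1 := by
    intro k hk
    by_cases hk1 : k = 1
    · rw [hk1, one_pow]
    obtain ⟨h, -, hh⟩ := F.transitive hc x.2 hk hx1 hk1
    rw [← hh, conj_pow, hxq]; group
  have hp : IsPGroup q K := by
    intro k
    refine ⟨1, ?_⟩
    rw [pow_one]
    exact Subtype.ext (hall k k.2)
  obtain ⟨n, hn⟩ := IsPGroup.iff_card.1 hp
  exact ⟨q, n, hq, hall, hn⟩

end Cfsg.Agent.H689
end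

-- part: H689/FrobCore
section
/-!
# Frobenius groups with distinct nonlinear degrees have a commutative kernel
-/

set_option autoImplicit false
set_option linter.unusedSectionVars false

open scoped ComplexConjugate Pointwise commutatorElement
open Cfsg Cfsg.Agent.Characters Cfsg.Agent.H686.CharKit Subgroup

namespace Cfsg.Agent.H689

universe u

/-- Sums of distinct powers. -/
theorem sum_pow_lt {ι : Type*} [DecidableEq ι] (s : Finset ι) (a : ι → ℕ) (ha : Set.InjOn a s)
    {b M : ℕ} (hb : 2 ≤ b) (hM : ∀ i ∈ s, a i < M) : (b - 1) * ∑ i ∈ s, b ^ a i < b ^ M := by
  have h1 : ∑ i ∈ s, b ^ a i = ∑ j ∈ s.image a, b ^ j :=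
    (Finset.sum_image (fun x hx y hy hxy => ha hx hy hxy)).symm
  have h2 : s.image a ⊆ Finset.range M := by
    intro j hj
    obtain ⟨i, hi, rfl⟩ := Finset.mem_image.1 hj
    exact Finset.mem_range.2 (hM i hi)
  have h3 : ∑ j ∈ s.image a, b ^ j ≤ ∑ j ∈ Finset.range M, b ^ j :=
    Finset.sum_le_sum_of_subset h2
  have h4 : (b - 1) * ∑ j ∈ Finset.range M, b ^ j = b ^ M - 1 := by
    rw [mul_comm]; exact Nat.geomSum_eq hb M ▸ Nat.div_mul_cancel (by
      have := Nat.sub_dvd_pow_sub_pow b 1 M
      simpa only [_root_.one_pow] using this)
  have h5 : 0 < b ^ M := pow_pos (by omega) M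
  rw [h1]
  calc (b - 1) * ∑ j ∈ s.image a, b ^ j ≤ (b - 1) * ∑ j ∈ Finset.range M, b ^ j :=
        Nat.mul_le_mul_left _ h3
    _ = b ^ M - 1 := h4
    _ < b ^ M := by omega

/-- The arithmetic of the degrees over the derived subgroup of the kernel. -/
theorem arith_core {ι : Type*} [DecidableEq ι] (s : Finset ι) (a : ι → ℕ) (ha : Set.InjOn a s)
    {q n l : ℕ} (hq : 2 ≤ q) (hn : 1 ≤ n) (hl : 1 ≤ l) (hbd : ∀ i ∈ s, 2 * a i ≤ n)
    (h : (q ^ n - 1) * ∑ i ∈ s, (q ^ a i) ^ 2 + q ^ n = q ^ (n + l)) :
    n ≤ l ∧ ∃ i, s = {i} := by
  have hqn : 2 ≤ q ^ n := le_trans hq (Nat.le_self_pow (by omega) q)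
  have hql : 2 ≤ q ^ l := le_trans hq (Nat.le_self_pow (by omega) q)
  set T := ∑ i ∈ s, (q ^ a i) ^ 2 with hT
  have hTb : T = ∑ i ∈ s, (q ^ 2) ^ a i := by
    rw [hT]; refine Finset.sum_congr rfl fun i _ => ?_
    rw [← pow_mul, ← pow_mul, mul_comm]
  have hb : 2 ≤ q ^ 2 := by nlinarith only [hq]
  -- the equation in the form `(q^n - 1) T = q^n (q^l - 1)`
  have heq : (q ^ n - 1) * T = q ^ n * (q ^ l - 1) := by
    rw [Nat.mul_sub, mul_one, ← pow_add]
    omega
  have hdvd : q ^ n - 1 ∣ q ^ l - 1 := by
    have h1 : q ^ n - 1 ∣ q ^ n * (q ^ l - 1) := ⟨T, heq.symm⟩
    refine (Nat.Coprime.dvd_of_dvd_mul_left ?_ h1)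
    have : (q ^ n - 1 + 1).Coprime (q ^ n - 1) := by simp only [_root_.Nat.coprime_self_add_left, _root_.Nat.coprime_one_left_eq_true]
    rw [Nat.sub_add_cancel (by omega)] at this
    exact this.symm
  have hle : n ≤ l := by
    have h1 := Nat.le_of_dvd (by omega) hdvd
    by_contra hlt
    push Not at hlt
    have := Nat.pow_lt_pow_right (by omega : 1 < q) hlt
    omega
  refine ⟨hle, ?_⟩
  have hTn : q ^ n ≤ T := by
    have h1 : q ^ n - 1 ≤ q ^ l - 1 := Nat.le_of_dvd (by omega) hdvd
    have h2 : (q ^ n - 1) * q ^ n ≤ (q ^ n - 1) * T := by
      rw [heq, mul_comm]
      exact Nat.mul_le_mul_left _ h1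
    exact Nat.le_of_mul_le_mul_left h2 (by omega)
  -- `n` is even and the largest possible exponent occurs
  have hex : ∃ i ∈ s, 2 * a i = n := by
    by_contra hcon
    push Not at hcon
    -- all `a i < M` where `2 M = n` or `2 M = n + 1`
    rcases Nat.even_or_odd' n with ⟨m, hm | hm⟩
    · have h1 := sum_pow_lt s a ha hb (M := m) (fun i hi => by
        have := hbd i hi
        have := hcon i hi
        omega)
      rw [← hTb, ← pow_mul, ← hm] at h1
      have h2 : 1 * q ^ n ≤ (q ^ 2 - 1) * T :=
        Nat.mul_le_mul (by omega) hTn
      omega
    · have h1 := sum_pow_lt s a ha hb (M := m + 1) (fun i hi => by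
        have := hbd i hi
        omega)
      have h3 : (q ^ 2) ^ (m + 1) = q ^ n * q := by
        rw [← pow_mul, hm, ← pow_succ]; congr 1
      rw [← hTb, h3] at h1
      have h2 : q ^ n * q ≤ (q ^ 2 - 1) * T := by
        rw [mul_comm]
        refine Nat.mul_le_mul ?_ hTn
        have : q + 1 ≤ q ^ 2 := by nlinarith only [hq]
        omega
      omega
  obtain ⟨i₀, hi₀, hi⟩ := hex
  set T' := ∑ i ∈ s.erase i₀, (q ^ 2) ^ a i with hT'
  have hTT : T = q ^ n + T' := by
    rw [hTb, ← Finset.add_sum_erase s _ hi₀, ← hT', ← pow_mul, hi]
  have hT'lt : T' < q ^ n := by
    have h1 := sum_pow_lt (s.erase i₀) a (ha.mono (Finset.coe_subset.2 (Finset.erase_subset _ _))) hb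
      (M := a i₀) (fun i hi' => by
        rw [Finset.mem_erase] at hi'
        have h2 := hbd i hi'.2
        have h3 : a i ≠ a i₀ := fun h => hi'.1 (ha hi'.2 hi₀ h)
        omega)
    rw [← hT', ← pow_mul, hi] at h1
    have h2 : 1 * T' ≤ (q ^ 2 - 1) * T' := Nat.mul_le_mul_right _ (by omega)
    omega
  have hln : l = n := by
    by_contra hne
    have h1 : n + 1 ≤ l := by omega
    have h2 : q ^ n * 2 ≤ q ^ l := by
      calc q ^ n * 2 ≤ q ^ n * q := Nat.mul_le_mul_left _ hq
        _ = q ^ (n + 1) := (pow_succ q n).symm
        _ ≤ q ^ l := Nat.pow_le_pow_right (by omega) h1
    have h3 : q ^ n * (q ^ n * 2 - 1) ≤ (q ^ n - 1) * T := by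
      rw [heq]; exact Nat.mul_le_mul_left _ (by omega)
    have h4 : (q ^ n - 1) * T ≤ (q ^ n - 1) * (q ^ n * 2) := Nat.mul_le_mul_left _ (by omega)
    obtain ⟨c, hc⟩ : ∃ c, q ^ n = c + 1 := ⟨q ^ n - 1, by omega⟩
    rw [hc] at h3 h4
    have h5 := h3.trans h4
    have h6 : (c + 1) * 2 - 1 = 2 * c + 1 := by (clear * - hc; omega)
    have h7 : c + 1 - 1 = c := by omega
    rw [h6, h7] at h5
    linarith only [h5]
  have hT0 : T' = 0 := by
    rw [hln, mul_comm (q ^ n)] at heq
    have := Nat.eq_of_mul_eq_mul_left (by omega) heq
    omega
  refine ⟨i₀, Finset.eq_singleton_iff_unique_mem.2 ⟨hi₀, fun i hi' => ?_⟩⟩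
  by_contra hne
  have h3 := Finset.sum_eq_zero_iff.1 hT0 i (Finset.mem_erase.2 ⟨hne, hi'⟩)
  exact absurd h3 (pow_ne_zero _ (by positivity))

variable {G : Type u} [Group G] {K H : Subgroup G} [Finite G]

/-- Sums over the irreducible characters with `N` in the kernel. -/
theorem sum_ker [Fintype (IrrCharacter G)] (N : Subgroup G) [N.Normal]
    [Fintype (IrrCharacter (G ⧸ N))]
    [DecidablePred fun χ : IrrCharacter G => N ≤ chKer χ] {R : Type*} [AddCommMonoid R]
    (F : IrrCharacter G → R) :
    ∑ χ ∈ Finset.univ.filter (fun χ : IrrCharacter G => N ≤ chKer χ), F χ =
      ∑ ψ : IrrCharacter (G ⧸ N), F (infl N ψ) := by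
  classical
  rw [Finset.sum_subtype (p := fun χ : IrrCharacter G => N ≤ chKer χ)
    (Finset.univ.filter fun χ : IrrCharacter G => N ≤ chKer χ) (by simp only [_root_.Finset.mem_filter, _root_.Finset.mem_univ, _root_.true_and, _root_.implies_true])]
  rw [← Equiv.sum_comp (inflEquiv N)]
  exact Finset.sum_congr rfl fun ψ _ => rfl

/-- If exactly one irreducible character does not contain `N` in the kernel, the centralizers of the
elements `x` outside `N` are as small as in the quotient. -/
theorem card_centralizer_of_singleton (N : Subgroup G) [N.Normal] (χ₀ : IrrCharacter G)
    (h : ∀ χ : IrrCharacter G, ¬ N ≤ chKer χ ↔ χ = χ₀) {x : G} (hx : x ∉ N) :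
    Nat.card (centralizer ({x} : Set G)) =
      Nat.card (centralizer ({(x : G ⧸ N)} : Set (G ⧸ N))) := by
  classical
  have := Fintype.ofFinite G
  have := Core.finite_irr (G := G)
  have := Fintype.ofFinite (IrrCharacter G)
  have := Core.finite_irr (G := G ⧸ N)
  have := Fintype.ofFinite (IrrCharacter (G ⧸ N))
  have hx1 : x ≠ 1 := fun h => hx (h ▸ one_mem N)
  have hxN : (x : G ⧸ N) ≠ 1 := fun h => hx ((QuotientGroup.eq_one_iff x).1 h)
  have hfil : Finset.univ.filter (fun χ : IrrCharacter G => ¬ N ≤ chKer χ) = {χ₀} := by
    ext χ
    simp only [Finset.mem_filter, Finset.mem_univ, true_and, Finset.mem_singleton]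
    exact h χ
  -- `χ₀ x = 0`
  have h0 : (χ₀ : G → ℂ) x = 0 := by
    have h1 := col_orth (G := G) x 1
    rw [if_neg (by rw [isConj_one_left]; exact hx1),
      ← Finset.sum_filter_add_sum_filter_not Finset.univ
      (fun χ : IrrCharacter G => N ≤ chKer χ), hfil, Finset.sum_singleton, sum_ker N] at h1
    have h2 := col_orth (G := G ⧸ N) (x : G ⧸ N) 1
    rw [if_neg (by rw [isConj_one_left]; exact hxN)] at h2
    have h3 : ∑ ψ : IrrCharacter (G ⧸ N), (infl N ψ : G → ℂ) x * conj ((infl N ψ : G → ℂ) 1) = 0 := by
      rw [← h2]
      exact Finset.sum_congr rfl fun ψ _ => rfl
    rw [h3, zero_add] at h1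
    rcases mul_eq_zero.1 h1 with h4 | h4
    · exact h4
    · rw [map_eq_zero] at h4
      exact absurd h4 (Core.isIrr_apply_one_ne_zero χ₀.2)
  have h1 := sum_normSq (G := G) x
  have h2 := sum_normSq (G := G ⧸ N) (x : G ⧸ N)
  rw [← Finset.sum_filter_add_sum_filter_not Finset.univ
      (fun χ : IrrCharacter G => N ≤ chKer χ), hfil, Finset.sum_singleton, sum_ker N, h0, map_zero,
      add_zero] at h1
  have h3 : (Nat.card (centralizer ({x} : Set G)) : ℝ) =
      Nat.card (centralizer ({(x : G ⧸ N)} : Set (G ⧸ N))) := by
    rw [← h1, ← h2]
    exact Finset.sum_congr rfl fun ψ _ => rfl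
  exact_mod_cast h3

/-- The core case: `⁅K, K⁆` a minimal normal subgroup. -/
theorem Frob.core (F : Frob K H) (h : DD G) (hne : ⁅K, K⁆ ≠ ⊥)
    (hmin : ∀ N : Subgroup G, N.Normal → N ≤ ⁅K, K⁆ → N = ⊥ ∨ N = ⁅K, K⁆) : False := by
  classical
  have := Fintype.ofFinite G
  have := Core.finite_irr (G := G)
  have := Fintype.ofFinite (IrrCharacter G)
  have hKn := F.normal
  have hnil := F.nilpotent
  set L : Subgroup G := ⁅K, K⁆ with hL
  have hLn : L.Normal := commutator_normal K K
  have hLK : L ≤ K := commutator_le_left K K
  -- commutators inside the nilpotent group `K`
  have hcom : ∀ Q : Subgroup G, Q.Normal → Q ≤ K → Q ≠ ⊥ → ⁅Q, K⁆ < Q := by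
    intro Q hQ hQK hQ1
    have h1 : (Q.subgroupOf K).Normal := inferInstance
    have h2 : Q.subgroupOf K ≠ ⊥ := by
      rw [Ne, subgroupOf_eq_bot, disjoint_iff, inf_eq_left.2 hQK]
      exact hQ1
    have h3 := Transfer.TateComplement.commutator_top_lt_of_isNilpotent (Q.subgroupOf K) h2
    have h4 : (⁅Q.subgroupOf K, (⊤ : Subgroup K)⁆).map K.subtype = ⁅Q, K⁆ := by
      rw [map_commutator, map_subgroupOf_eq_of_le hQK, ← MonoidHom.range_eq_map, K.range_subtype]
    have h5 : (Q.subgroupOf K).map K.subtype = Q := map_subgroupOf_eq_of_le hQK
    rw [← h4]
    conv_rhs => rw [← h5]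
    exact (map_lt_map_iff_of_injective K.subtype_injective).2 h3
  have hLlt : L < K := hcom K hKn le_rfl F.neK
  -- `L` is centralized by `K`
  have hLK1 : ⁅L, K⁆ = ⊥ := by
    have h1 := hcom L hLn hLK hne
    rcases hmin ⁅L, K⁆ (commutator_normal L K) h1.le with h2 | h2
    · exact h2
    · exact absurd h2 h1.ne
  have hcen : ∀ x ∈ L, ∀ y ∈ K, x * y = y * x := by
    intro x hx y hy
    have h1 : ⁅x, y⁆ ∈ ⁅L, K⁆ := commutator_mem_commutator hx hy
    rw [hLK1, mem_bot] at h1
    exact commutatorElement_eq_one_iff_mul_comm.1 h1
  -- the quotient
  have FQ := F.quotient L hLlt
  have hDQ : DD (G ⧸ L) := h.quotient L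
  have hKQ : ∀ a ∈ K.map (QuotientGroup.mk' L), ∀ b ∈ K.map (QuotientGroup.mk' L),
      a * b = b * a := by
    rintro _ ⟨a, ha, rfl⟩ _ ⟨b, hb, rfl⟩
    rw [← map_mul, ← map_mul]
    apply QuotientGroup.eq.2
    have : (a * b)⁻¹ * (b * a) = ⁅b⁻¹, a⁻¹⁆ := by rw [commutatorElement_def]; group
    rw [this]
    exact commutator_mem_commutator (K.inv_mem hb) (K.inv_mem ha)
  have hcQ := FQ.card_eq hDQ hKQ
  obtain ⟨q, n, hq, hqpow, hqn⟩ := FQ.exists_prime hcQ
  have : Fact q.Prime := ⟨hq⟩
  -- orders
  have hH : Nat.card (H.map (QuotientGroup.mk' L)) = Nat.card H := by
    rw [← FQ.index_kernel, ← F.index_kernel]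
    exact index_map_eq K (QuotientGroup.mk'_surjective L)
      (by rw [QuotientGroup.ker_mk']; exact hLK) 
  have hGL : L.index = q ^ n * Nat.card H := by
    have h1 := FQ.card_mul
    rw [hqn, hH] at h1
    rw [h1]; rfl
  have hHq : Nat.card H = q ^ n - 1 := by
    rw [hH, hqn] at hcQ
    omega
  have hn1 : 1 ≤ n := by
    rcases Nat.eq_zero_or_pos n with h0 | h0
    · rw [h0, pow_zero] at hHq
      have := F.one_lt_card
      omega
    · exact h0
  -- `L` is a `q`-group
  have hLab : ∀ x ∈ L, ∀ y ∈ L, x * y = y * x := fun x hx y hy => hcen x hx y (hLK hy)
  have hcomq : ∀ a ∈ K, ∀ b ∈ K, ⁅a, b⁆ ^ q = 1 := by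
    intro a ha b hb
    have hc : ⁅a, b⁆ ∈ L := commutator_mem_commutator ha hb
    have h1 : ∀ k : ℕ, a ^ k * b * (a ^ k)⁻¹ = ⁅a, b⁆ ^ k * b := by
      intro k
      induction k with
      | zero => simp
      | succ k ih =>
        have h2 : a * ⁅a, b⁆ ^ k * a⁻¹ = ⁅a, b⁆ ^ k := by
          rw [← hcen _ (L.pow_mem hc k) a ha]; group
        calc a ^ (k + 1) * b * (a ^ (k + 1))⁻¹ = a * (a ^ k * b * (a ^ k)⁻¹) * a⁻¹ := by
              rw [pow_succ']; group
          _ = (a * ⁅a, b⁆ ^ k * a⁻¹) * (a * b * a⁻¹) := by rw [ih]; group
          _ = ⁅a, b⁆ ^ k * (⁅a, b⁆ * b) := by rw [h2, commutatorElement_def]; group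
          _ = ⁅a, b⁆ ^ (k + 1) * b := by rw [pow_succ]; group
    have h2 : a ^ q ∈ L := by
      rw [← QuotientGroup.eq_one_iff]
      exact hqpow _ ⟨a, ha, rfl⟩
    have h3 := h1 q
    rw [hcen _ h2 b hb, mul_assoc, mul_inv_cancel, mul_one] at h3
    exact (mul_eq_right.1 h3.symm)
  have hLq : ∀ x ∈ L, x ^ q = 1 := by
    -- the set of `x ∈ L` with `x ^ q = 1` is a normal subgroup containing the commutators
    let N : Subgroup G :=
      { carrier := {x | x ∈ L ∧ x ^ q = 1}
        one_mem' := ⟨one_mem L, one_pow q⟩
        mul_mem' := by
          rintro x y ⟨hx, hxq⟩ ⟨hy, hyq⟩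
          refine ⟨L.mul_mem hx hy, ?_⟩
          rw [(show Commute x y from hLab x hx y hy).mul_pow, hxq, hyq, one_mul]
        inv_mem' := by
          rintro x ⟨hx, hxq⟩
          exact ⟨L.inv_mem hx, by rw [inv_pow, hxq, inv_one]⟩ }
    have hle : L ≤ N := by
      rw [hL, Subgroup.commutator_le]
      intro a ha b hb
      exact ⟨commutator_mem_commutator ha hb, hcomq a ha b hb⟩
    intro x hx
    exact (hle hx).2
  have hLp : IsPGroup q L := by
    intro x
    refine ⟨1, ?_⟩
    rw [pow_one]
    exact Subtype.ext (hLq x x.2)
  obtain ⟨l, hl⟩ := IsPGroup.iff_card.1 hLp
  have hl1 : 1 ≤ l := by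
    rcases Nat.eq_zero_or_pos l with h0 | h0
    · rw [h0, pow_zero, Subgroup.card_eq_one] at hl
      exact absurd hl hne
    · exact h0
  have hKcard : Nat.card K = q ^ (n + l) := by
    have h1 := L.card_mul_index
    rw [hGL, hl, ← F.card_mul] at h1
    have h2 : q ^ (n + l) * Nat.card H = Nat.card K * Nat.card H := by
      rw [← h1, pow_add]; ring
    exact (Nat.eq_of_mul_eq_mul_right Nat.card_pos h2).symm
  have hGcard : Nat.card G = q ^ (n + l) * Nat.card H := by rw [← F.card_mul, hKcard]
  -- degrees
  have hindex : (center K).index ≤ q ^ n := by
    have h1 : L.subgroupOf K ≤ center K := by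
      intro x hx
      rw [mem_center_iff]
      intro y
      exact Subtype.ext (hcen x hx y y.2).symm
    have h2 : (L.subgroupOf K).index = q ^ n := by
      have h3 := (L.subgroupOf K).card_mul_index
      have h4 : Nat.card (L.subgroupOf K) = q ^ l := by
        rw [← hl]; exact Nat.card_congr (subgroupOfEquivOfLe hLK).toEquiv
      rw [h4, hKcard, pow_add, mul_comm] at h3
      exact Nat.eq_of_mul_eq_mul_right (pow_pos hq.pos l) h3
    rw [← h2]
    exact Nat.le_of_dvd (Nat.pos_of_ne_zero index_ne_zero_of_finite) (index_dvd_of_le h1)
  have hdeg : ∀ χ : IrrCharacter G, ∃ a, ¬ L ≤ chKer χ →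
      charDegree (χ : G → ℂ) = Nat.card H * q ^ a ∧ 2 * a ≤ n := by
    intro χ
    by_cases hχ : L ≤ chKer χ
    · exact ⟨0, fun hc => absurd hχ hc⟩
    obtain ⟨τ, -, hτ⟩ := F.exists_ind χ (fun hc => hχ (hLK.trans hc))
    have h1 : charDegree (τ : K → ℂ) ∣ Nat.card K := H669.Basic.charDegree_dvd_card τ.2
    rw [hKcard] at h1
    obtain ⟨a, -, ha⟩ := (Nat.dvd_prime_pow hq).1 h1
    refine ⟨a, fun _ => ⟨?_, ?_⟩⟩
    · rw [← charDegree_irr, ← charDegree_irr, ha] at hτ
      exact_mod_cast hτ
    · have h2 := (H678.Codeg.sq_charDegree_le_index_center τ).trans hindex
      rw [ha, ← pow_mul, mul_comm] at h2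
      exact (Nat.pow_le_pow_iff_right hq.one_lt).1 h2
  choose a ha using hdeg
  set Y := Finset.univ.filter (fun χ : IrrCharacter G => ¬ L ≤ chKer χ) with hY
  have hinj : Set.InjOn a (Y : Set (IrrCharacter G)) := by
    intro χ hχ ψ hψ hab
    by_contra hne'
    have h1 := ha χ (Finset.mem_filter.1 hχ).2
    have h2 := ha ψ (Finset.mem_filter.1 hψ).2
    refine h χ ψ hne' ?_ (by rw [h1.1, h2.1, hab])
    rw [h1.1]
    have h3 := F.one_lt_card
    have h4 : 0 < q ^ a χ := pow_pos hq.pos _
    nlinarith only [h3, h4]
  have hsum := sum_not_ker (G := G) L
  rw [← hY, hGL, hGcard] at hsum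
  have hsum2 : (q ^ n - 1) * ∑ χ ∈ Y, (q ^ a χ) ^ 2 + q ^ n = q ^ (n + l) := by
    have h1 : ∑ χ ∈ Y, charDegree (χ : G → ℂ) ^ 2 =
        Nat.card H * (Nat.card H * ∑ χ ∈ Y, (q ^ a χ) ^ 2) := by
      rw [Finset.mul_sum, Finset.mul_sum]
      refine Finset.sum_congr rfl fun χ hχ => ?_
      rw [(ha χ (Finset.mem_filter.1 hχ).2).1]; ring
    rw [h1] at hsum
    have h2 : Nat.card H * (Nat.card H * ∑ χ ∈ Y, (q ^ a χ) ^ 2 + q ^ n) =
        Nat.card H * q ^ (n + l) := by rw [mul_comm _ (q ^ (n + l)), ← hsum]; ring
    rw [← hHq]
    exact Nat.eq_of_mul_eq_mul_left Nat.card_pos h2
  obtain ⟨hnl, χ₀, hχ₀⟩ := arith_core Y a hinj hq.two_le hn1 hl1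
    (fun χ hχ => (ha χ (Finset.mem_filter.1 hχ).2).2) hsum2
  -- the contradiction
  obtain ⟨x, hxK, hxL⟩ := SetLike.exists_of_lt hLlt
  have h1 := card_centralizer_of_singleton L χ₀ (fun χ => by
    have : χ ∈ Y ↔ χ = χ₀ := by rw [hχ₀, Finset.mem_singleton]
    rw [← this, hY, Finset.mem_filter]
    exact ⟨fun h => ⟨Finset.mem_univ _, h⟩, fun h => h.2⟩) hxL
  have hxL1 : (x : G ⧸ L) ≠ 1 := fun h => hxL ((QuotientGroup.eq_one_iff x).1 h)
  have h2 : Nat.card (centralizer ({(x : G ⧸ L)} : Set (G ⧸ L))) ≤ q ^ n := by
    rw [← hqn]
    exact card_le_of_le (FQ.centralizer_le ⟨x, hxK, rfl⟩ hxL1)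
  have h3 : L < centralizer ({x} : Set G) := by
    refine lt_of_le_of_ne ?_ ?_
    · intro y hy
      rw [mem_centralizer_singleton_iff]
      exact hcen y hy x hxK
    · intro heq
      apply hxL
      rw [heq, mem_centralizer_singleton_iff]
  have h4 : Nat.card L < Nat.card (centralizer ({x} : Set G)) := by
    by_contra hcon
    push Not at hcon
    exact h3.ne (Subgroup.eq_of_le_of_card_ge h3.le hcon)
  rw [h1, hl] at h4
  have h5 := Nat.pow_le_pow_right hq.pos hnl
  omega

/-- The kernel of a Frobenius group with distinct nonlinear degrees is commutative. -/
theorem Frob.kernel_comm (F : Frob K H) (h : DD G) : ∀ a ∈ K, ∀ b ∈ K, a * b = b * a := by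
  by_contra hcon
  have hKn := F.normal
  have hne : ⁅K, K⁆ ≠ ⊥ := by
    intro h0
    apply hcon
    intro a ha b hb
    have h1 : ⁅a, b⁆ ∈ ⁅K, K⁆ := commutator_mem_commutator ha hb
    rw [h0, mem_bot] at h1
    exact commutatorElement_eq_one_iff_mul_comm.1 h1
  have hLn : (⁅K, K⁆ : Subgroup G).Normal := commutator_normal K K
  have hLK : ⁅K, K⁆ ≤ K := commutator_le_left K K
  -- a normal subgroup maximal among those properly contained in `⁅K, K⁆`
  obtain ⟨M, hM⟩ := (Set.toFinite {M : Subgroup G | M.Normal ∧ M < ⁅K, K⁆}).exists_maximal
    ⟨⊥, inferInstance, bot_lt_iff_ne_bot.2 hne⟩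
  have hMn : M.Normal := hM.prop.1
  have hMlt : M < ⁅K, K⁆ := hM.prop.2
  have hMK : M < K := lt_of_lt_of_le hMlt hLK
  have FQ := F.quotient M hMK
  have hmap : ⁅K.map (QuotientGroup.mk' M), K.map (QuotientGroup.mk' M)⁆ =
      (⁅K, K⁆ : Subgroup G).map (QuotientGroup.mk' M) := (map_commutator K K _).symm
  refine FQ.core (h.quotient M) ?_ ?_
  · rw [hmap]
    intro h0
    rw [Subgroup.map_eq_bot_iff, QuotientGroup.ker_mk'] at h0
    exact hMlt.not_ge h0
  · intro N hN hNle
    rw [hmap] at hNle ⊢
    have h1 : (N.comap (QuotientGroup.mk' M)).Normal := hN.comap _
    have h2 : M ≤ N.comap (QuotientGroup.mk' M) := by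
      intro x hx
      rw [mem_comap, QuotientGroup.mk'_apply, (QuotientGroup.eq_one_iff x).2 hx]
      exact one_mem N
    have h3 : N.comap (QuotientGroup.mk' M) ≤ ⁅K, K⁆ := by
      intro x hx
      obtain ⟨y, hy, hyx⟩ := hNle hx
      have : y⁻¹ * x ∈ M := QuotientGroup.eq.1 hyx
      have := (⁅K, K⁆ : Subgroup G).mul_mem hy (hMlt.le this)
      simpa using this
    have h4 : (N.comap (QuotientGroup.mk' M)).map (QuotientGroup.mk' M) = N :=
      map_comap_eq_self_of_surjective (QuotientGroup.mk'_surjective M) N
    rcases eq_or_lt_of_le h3 with h5 | h5
    · right
      rw [← h4, h5]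
    · left
      have h6 : N.comap (QuotientGroup.mk' M) ≤ M := hM.le_of_ge ⟨h1, h5⟩ h2
      rw [← h4, Subgroup.map_eq_bot_iff, QuotientGroup.ker_mk']
      exact h6

end Cfsg.Agent.H689
end

-- part: H689/NonPerf
section
/-!
# Non-perfect groups with distinct nonlinear degrees
-/

set_option autoImplicit false
set_option linter.unusedSectionVars false

open scoped ComplexConjugate commutatorElement
open Cfsg Cfsg.Agent.Characters Cfsg.Agent.H686.CharKit Subgroup

namespace Cfsg.Agent.H689

universe u

variable {G : Type u} [Group G] [Finite G] {K H : Subgroup G}

/-- A commutative Frobenius complement is cyclic. -/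
theorem Frob.isCyclic_of_comm (F : Frob K H) (hc : ∀ a ∈ H, ∀ b ∈ H, a * b = b * a) :
    IsCyclic H := by
  have := F.normal
  have : Nontrivial K := (nontrivial_iff_ne_bot K).2 F.neK
  have := F.nilpotent
  let φ : H →* MulAut K := (MulAut.conjNormal (H := K)).comp H.subtype
  refine Solvable.FpfCyclic.isCyclic_of_fpf_nilpotent
    (fun a b => Subtype.ext (hc a a.2 b b.2)) φ ?_
  intro a ha v hv
  have h1 : (a : G) * v * (a : G)⁻¹ = v := congrArg Subtype.val hv
  exact Subtype.ext (F.fpf a a.2 (fun h => ha (Subtype.ext h)) v v.2
    (mul_inv_eq_iff_eq_mul.1 h1))

/-- Case 1: all relevant Sylow subgroups are commutative. -/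
theorem DD.case1 (h : DD G) (hnc : ¬ ∀ a b : G, a * b = b * a) (hnp : commutator G ≠ ⊤)
    (hab : ∀ p : ℕ, p.Prime → p ∣ (commutator G).index →
      ∀ P : Sylow p G, ∀ a b : P, a * b = b * a) :
    ∃ K H : Subgroup G, Frob K H ∧ IsCyclic H := by
  have hcop : (Nat.card (commutator G)).Coprime (commutator G).index := by
    by_contra hcon
    obtain ⟨p, hp, h1, h2⟩ := Nat.Prime.not_coprime_iff_dvd.1 hcon
    have : Fact p.Prime := ⟨hp⟩
    obtain ⟨x, hx⟩ := exists_prime_orderOf_dvd_card' (G := commutator G) p h1
    have hx' : orderOf (x : G) = p := by rw [Subgroup.orderOf_coe]; exact hx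
    have hpg : IsPGroup p (zpowers (x : G)) := by
      rw [IsPGroup.iff_card]
      exact ⟨1, by rw [pow_one, Nat.card_zpowers, hx']⟩
    obtain ⟨P, hP⟩ := hpg.exists_le_sylow
    have h3 := h.inf_commutator h2 P
    have h4 : commutator P = ⊥ := by
      rw [eq_bot_iff, commutator_def, Subgroup.commutator_le]
      intro a _ b _
      rw [mem_bot]
      exact commutatorElement_eq_one_iff_mul_comm.2 (hab p hp h2 P a b)
    rw [h4, Subgroup.map_bot] at h3
    have h5 : (x : G) ∈ (P : Subgroup G) ⊓ commutator G := ⟨hP (mem_zpowers _), x.2⟩
    rw [← h3, mem_bot] at h5
    rw [h5, orderOf_one] at hx'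
    exact hp.one_lt.ne hx'
  obtain ⟨A, hA⟩ := exists_right_complement'_of_coprime hcop
  have hcard : Nat.card A = (commutator G).index := hA.symm.index_eq_card.symm
  have hcomm : ∀ a ∈ A, ∀ b ∈ A, a * b = b * a := by
    intro a ha b hb
    have h1 : ⁅a, b⁆ ∈ commutator G ⊓ A :=
      ⟨commutator_mem_commutator (mem_top _) (mem_top _), by
        rw [commutatorElement_def]
        exact A.mul_mem (A.mul_mem (A.mul_mem ha hb) (A.inv_mem ha)) (A.inv_mem hb)⟩
    rw [hA.disjoint.eq_bot, mem_bot] at h1
    exact commutatorElement_eq_one_iff_mul_comm.1 h1
  have hF : Frob (commutator G) A := by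
    refine ⟨inferInstance, hA, ?_, ?_, ?_⟩
    · intro h0
      apply hnc
      intro a b
      have h1 : ⁅a, b⁆ ∈ commutator G := commutator_mem_commutator (mem_top _) (mem_top _)
      rw [h0, mem_bot] at h1
      exact commutatorElement_eq_one_iff_mul_comm.1 h1
    · intro h0
      rw [h0, card_bot] at hcard
      exact hnp (index_eq_one.1 hcard.symm)
    · intro a ha ha1 k hk hak
      have h1 : a ∉ commutator G := by
        intro hc
        have h2 : a ∈ commutator G ⊓ A := ⟨hc, ha⟩
        rw [hA.disjoint.eq_bot, mem_bot] at h2
        exact ha1 h2
      have h2 := h.card_centralizer h1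
      have h3 : A ≤ centralizer ({a} : Set G) := by
        intro b hb
        rw [mem_centralizer_singleton_iff]
        exact hcomm b hb a ha
      have h4 : A = centralizer ({a} : Set G) :=
        Subgroup.eq_of_le_of_card_ge h3 (by rw [h2, hcard])
      have h6 : k ∈ centralizer ({a} : Set G) := mem_centralizer_singleton_iff.2 hak.symm
      rw [← h4] at h6
      have h5 : k ∈ commutator G ⊓ A := ⟨hk, h6⟩
      rw [hA.disjoint.eq_bot, mem_bot] at h5
      exact h5
  exact ⟨_, _, hF, hF.isCyclic_of_comm hcomm⟩

/-- A fixed-point-free map whose square is trivial inverts. -/
theorem inverts (C : Subgroup G) (x : G) (hx : ∀ c ∈ C, x * c * x⁻¹ ∈ C)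
    (h2 : ∀ c ∈ C, x * (x * c * x⁻¹) * x⁻¹ = c) (hfpf : ∀ c ∈ C, x * c = c * x → c = 1) :
    ∀ c ∈ C, x * c * x⁻¹ = c⁻¹ := by
  let φ : C →* C :=
    { toFun := fun c => ⟨x * c * x⁻¹, hx c c.2⟩
      map_one' := by ext; simp
      map_mul' := by intro a b; ext; simp only [mul_assoc, _root_.Subgroup.coe_mul, _root_.mul_assoc, _root_.MulMemClass.mk_mul_mk, _root_.inv_mul_cancel_left] }
  have hφ : MonoidHom.FixedPointFree φ := by
    intro c hc
    have h1 : x * (c : G) * x⁻¹ = c := congrArg Subtype.val hc
    exact Subtype.ext (hfpf c c.2 (mul_inv_eq_iff_eq_mul.1 h1))
  have hinv : Function.Involutive φ := fun c => Subtype.ext (h2 c c.2)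
  intro c hc
  exact congrArg Subtype.val (congrFun (hφ.coe_eq_inv_of_involutive hinv) ⟨c, hc⟩)

/-- The core of case 2. -/
theorem case2_core (K P : Subgroup G) (hKn : K.Normal) (hK : K.IsComplement' P) (hK1 : K ≠ ⊥)
    (hodd : ∀ k ∈ K, ∀ m : ℕ, k ^ 2 ^ m = 1 → k = 1) (hcom : commutator P = center P)
    (hcen : Nat.card (center P) = 2) (hP : ¬ ∀ a b : P, a * b = b * a)
    (hnon : ∀ x : P, x ∉ center P → ∀ k ∈ K, (x : G) * k = k * x → k = 1) :
    Frob K P ∧ Nonempty (P ≃* QuaternionGroup 2) := by
  classical
  have hsq : ∀ x : P, x * x ∈ center P := by
    intro y
    rw [mem_center_iff]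
    intro x
    have h1 : ⁅x, y⁆ ∈ commutator P := commutator_mem_commutator (mem_top _) (mem_top _)
    have h1' : ⁅x, y⁆ ∈ center P := by rw [← hcom]; exact h1
    have h2 : ⁅x, y⁆ * ⁅x, y⁆ = 1 := by
      have := pow_card_eq_one' (x := (⟨⁅x, y⁆, h1'⟩ : center P))
      rw [hcen] at this
      have h3 := congrArg Subtype.val this
      rw [← pow_two]
      exact h3
    have h3 := mem_center_iff.1 h1'
    have h4 : x * y * x⁻¹ = ⁅x, y⁆ * y := by rw [commutatorElement_def]; group
    have h5 : x * (y * y) * x⁻¹ = y * y := by
      calc x * (y * y) * x⁻¹ = (x * y * x⁻¹) * (x * y * x⁻¹) := by group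
        _ = ⁅x, y⁆ * (y * ⁅x, y⁆) * y := by rw [h4]; group
        _ = (⁅x, y⁆ * ⁅x, y⁆) * (y * y) := by rw [h3 y]; group
        _ = y * y := by rw [h2, one_mul]
    exact mul_inv_eq_iff_eq_mul.1 h5
  have htwo : ∀ x ∈ center P, ∀ y ∈ center P, x ≠ 1 → y = 1 ∨ y = x := by
    intro x hx y hy hx1
    by_contra hcon
    push Not at hcon
    have h1 : ({1, ⟨x, hx⟩, ⟨y, hy⟩} : Finset (center P)).card = 3 := by
      rw [Finset.card_insert_of_notMem, Finset.card_insert_of_notMem, Finset.card_singleton]
      · rw [Finset.mem_singleton]
        exact fun h => hcon.2 (congrArg Subtype.val h).symm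
      · rw [Finset.mem_insert, Finset.mem_singleton]
        rintro (h | h)
        · exact hx1 (congrArg Subtype.val h).symm
        · exact hcon.1 (congrArg Subtype.val h).symm
    have := Fintype.ofFinite (center P)
    have h2 := Finset.card_le_univ ({1, ⟨x, hx⟩, ⟨y, hy⟩} : Finset (center P))
    rw [h1, ← Nat.card_eq_fintype_card, hcen] at h2
    omega
  have hF : Frob K P := by
    refine ⟨hKn, hK, hK1, ?_, ?_⟩
    · intro h0
      apply hP
      intro a b
      have ha : (a : G) = 1 := mem_bot.1 (h0.le a.2)
      have hb : (b : G) = 1 := mem_bot.1 (h0.le b.2)
      exact Subtype.ext (by simp [ha, hb])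
    · intro x hx hx1 k hk hxk
      by_cases hxc : (⟨x, hx⟩ : P) ∈ center P
      swap
      · exact hnon ⟨x, hx⟩ hxc k hk hxk
      let C : Subgroup G := K ⊓ centralizer ({x} : Set G)
      have hkC : k ∈ C := ⟨hk, mem_centralizer_singleton_iff.2 hxk.symm⟩
      have hnorm : ∀ y : P, ∀ c ∈ C, (y : G) * c * (y : G)⁻¹ ∈ C := by
        rintro y c ⟨hc, hcx⟩
        refine ⟨hKn.conj_mem c hc y, mem_centralizer_singleton_iff.2 ?_⟩
        have h1 : (y : G) * x = x * y := congrArg Subtype.val (mem_center_iff.1 hxc y)
        have h2 := mem_centralizer_singleton_iff.1 hcx
        have h3 : (y : G)⁻¹ * x = x * (y : G)⁻¹ := by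
          rw [inv_mul_eq_iff_eq_mul, ← mul_assoc, h1]; group
        calc (y : G) * c * (y : G)⁻¹ * x = y * (c * ((y : G)⁻¹ * x)) := by group
          _ = y * (c * x) * (y : G)⁻¹ := by rw [h3]; group
          _ = (y * x) * c * (y : G)⁻¹ := by rw [h2]; group
          _ = x * (y * c * (y : G)⁻¹) := by rw [h1]; group
      have hinv : ∀ y : P, y ∉ center P → ∀ c ∈ C, (y : G) * c * (y : G)⁻¹ = c⁻¹ := by
        intro y hy
        refine inverts C y (hnorm y) ?_ ?_
        · rintro c ⟨hc, hcx⟩
          have h2 := mem_centralizer_singleton_iff.1 hcx
          have h1 : ((y : G) * y) * c = c * (y * y) := by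
            rcases htwo _ hxc _ (hsq y) (fun h => hx1 (congrArg Subtype.val h)) with h3 | h3
            · have h4 : (y : G) * y = 1 := congrArg Subtype.val h3
              rw [h4, one_mul, mul_one]
            · have h4 : (y : G) * y = x := congrArg Subtype.val h3
              rw [h4, h2]
          calc (y : G) * (y * c * (y : G)⁻¹) * (y : G)⁻¹ = ((y : G) * y) * c * ((y : G) * y)⁻¹ := by
                group
            _ = c := by rw [h1]; group
        · rintro c ⟨hc, -⟩ hcy
          exact hnon y hy c hc hcy
      -- two noncommuting elements
      push Not at hP
      obtain ⟨a, b, hab⟩ := hP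
      have ha : a ∉ center P := fun h => hab (mem_center_iff.1 h b).symm
      have hb : b ∉ center P := fun h => hab (mem_center_iff.1 h a)
      have hab' : a * b ∉ center P := by
        intro h
        apply hab
        have := mem_center_iff.1 h a
        have h2 : a * (a * b) = a * (b * a) := by rw [this]; group
        exact mul_left_cancel h2
      have h1 := hinv _ hab' k hkC
      have h2 := hinv b hb k hkC
      have h3 := hinv a ha k⁻¹ (C.inv_mem hkC)
      have h4 : k = k⁻¹ := by
        calc k = (a : G) * k⁻¹ * (a : G)⁻¹ := by rw [h3, inv_inv]
          _ = (a : G) * (b * k * (b : G)⁻¹) * (a : G)⁻¹ := by rw [h2]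
          _ = ((a * b : P) : G) * k * ((a * b : P) : G)⁻¹ := by
              rw [Subgroup.coe_mul]; group
          _ = k⁻¹ := h1
      refine hodd k hk 1 ?_
      rw [pow_one, pow_two]
      nth_rewrite 2 [h4]
      exact mul_inv_cancel k
  refine ⟨hF, ?_⟩
  -- the unique involution
  have h2P : 2 ∣ Nat.card P := by rw [← hcen]; exact card_subgroup_dvd_card _
  obtain ⟨⟨s, hsP, hs2, hsu, -⟩, -⟩ := S0068.result K P hK hF.neK (by
    intro x hx hx1
    rw [eq_bot_iff]
    rintro k ⟨hk, hkx⟩
    exact hF.fpf x hx hx1 k hk (mem_centralizer_singleton_iff.1 hkx).symm) h2P
  have hs1 : s ≠ 1 := by rintro rfl; rw [orderOf_one] at hs2; omega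
  have hinv : ∀ x : P, x * x = 1 → x = 1 ∨ (x : G) = s := by
    intro x hx
    by_cases hx1 : x = 1
    · exact Or.inl hx1
    · refine Or.inr (hsu x x.2 ?_)
      rw [Subgroup.orderOf_coe]
      exact orderOf_eq_prime (by rw [pow_two]; exact hx) hx1
  have hsc : (⟨s, hsP⟩ : P) ∈ center P := by
    obtain ⟨t, ht⟩ := exists_prime_orderOf_dvd_card' (G := center P) 2 (by rw [hcen])
    have h1 : orderOf ((t : P) : G) = 2 := by
      rw [Subgroup.orderOf_coe, Subgroup.orderOf_coe]; exact ht
    have h2 := hsu _ (t : P).2 h1
    have h3 : (⟨s, hsP⟩ : P) = t := Subtype.ext h2.symm
    rw [h3]; exact t.2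
  have hcard : Nat.card P = 8 := by
    push Not at hP
    obtain ⟨a, b, hab⟩ := hP
    have ha : a ∉ center P := fun h => hab (mem_center_iff.1 h b).symm
    have hs1' : (⟨s, hsP⟩ : P) ≠ 1 := fun h => hs1 (congrArg Subtype.val h)
    have hss : (⟨s, hsP⟩ : P) * ⟨s, hsP⟩ = 1 := by
      have := pow_orderOf_eq_one s
      rw [hs2, pow_two] at this
      exact Subtype.ext this
    have haa : a * a = ⟨s, hsP⟩ := by
      rcases htwo _ hsc _ (hsq a) hs1' with h1 | h1
      · exfalso
        rcases hinv a h1 with h2 | h2
        · exact ha (h2 ▸ one_mem _)
        · have h3 : a = ⟨s, hsP⟩ := Subtype.ext h2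
          exact ha (h3 ▸ hsc)
      · exact h1
    have hsub : ∀ y : P, y ∈ centralizer ({a} : Set P) →
        y ∈ ({1, ⟨s, hsP⟩, a⁻¹, ⟨s, hsP⟩ * a⁻¹} : Set P) := by
      intro y hy
      rw [mem_centralizer_singleton_iff] at hy
      rcases htwo _ hsc _ (hsq y) hs1' with h1 | h1
      · rcases hinv y h1 with h2 | h2
        · exact Or.inl h2
        · exact Or.inr (Or.inl (Subtype.ext h2))
      · have h2 : (y * a) * (y * a) = 1 := by
          calc (y * a) * (y * a) = y * (a * y) * a := by group
            _ = (y * y) * (a * a) := by rw [← hy]; group
            _ = 1 := by rw [h1, haa, hss]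
        rcases hinv _ h2 with h3 | h3
        · exact Or.inr (Or.inr (Or.inl (eq_inv_of_mul_eq_one_left h3)))
        · refine Or.inr (Or.inr (Or.inr ?_))
          have h4 : y * a = ⟨s, hsP⟩ := Subtype.ext h3
          rw [Set.mem_singleton_iff, ← h4]; group
    have hle : Nat.card (centralizer ({a} : Set P)) ≤ 4 := by
      have h1 : (centralizer ({a} : Set P) : Set P) ⊆
          ((({1, ⟨s, hsP⟩, a⁻¹, ⟨s, hsP⟩ * a⁻¹} : Finset P)) : Set P) := by
        intro y hy
        have := hsub y hy
        simpa only [_root_.Finset.coe_insert, _root_.Finset.coe_singleton, _root_.Set.mem_insert_iff, _root_.Set.mem_singleton_iff] using this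
      have h2 := Set.ncard_le_ncard h1 (Finset.finite_toSet _)
      rw [Set.ncard_coe_finset] at h2
      exact h2.trans Finset.card_le_four
    have h1 := (index_commutator_le a).trans hle
    have h2 := (commutator P).card_mul_index
    rw [hcom, hcen, ← hcom] at h2
    have h4 : 4 ∣ Nat.card (centralizer ({a} : Set P)) := by
      have h5 : orderOf a = 2 ^ 2 := by
        refine orderOf_eq_prime_pow ?_ ?_
        · rw [pow_one, pow_two, haa]; exact hs1'
        · rw [pow_succ, pow_one, pow_mul, pow_two a, haa, pow_two, hss]
      have h6 : zpowers a ≤ centralizer ({a} : Set P) := by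
        rw [zpowers_le, mem_centralizer_singleton_iff]
      have h7 := card_dvd_of_le h6
      rw [Nat.card_zpowers, h5] at h7
      exact h7
    have h5 : centralizer ({a} : Set P) ≠ ⊤ := by
      intro h6
      have h7 : b ∈ centralizer ({a} : Set P) := by rw [h6]; exact mem_top _
      rw [mem_centralizer_singleton_iff] at h7
      exact hab h7.symm
    have h6 := (centralizer ({a} : Set P)).card_mul_index
    have h7 : 1 < (centralizer ({a} : Set P)).index := by
      have h8 : (centralizer ({a} : Set P)).index ≠ 0 := index_ne_zero_of_finite
      have h9 : (centralizer ({a} : Set P)).index ≠ 1 := fun h => h5 (index_eq_one.1 h)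
      omega
    have h8 : 4 ≤ Nat.card (centralizer ({a} : Set P)) := Nat.le_of_dvd Nat.card_pos h4
    have h9 : 8 ≤ Nat.card P := by rw [← h6]; nlinarith only [h7, h8]
    omega
  rcases SmallSimple.OrderEight.dihedral_or_quaternion_of_card_eight hcard (by
    intro h1; exact hP (fun a b => h1.is_comm.comm a b)) with ⟨⟨f⟩⟩ | h1
  · exfalso
    have h1 : ∀ d : DihedralGroup 4, d * d = 1 → d ≠ 1 → f.symm d = ⟨s, hsP⟩ := by
      intro d hd hd1
      rcases hinv (f.symm d) (by rw [← map_mul, hd, map_one]) with h2 | h2
      · exact absurd (f.symm.injective (h2.trans (map_one f.symm).symm)) hd1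
      · exact Subtype.ext h2
    have h2 := (h1 (DihedralGroup.r 2) (by decide) (by decide)).trans
      (h1 (DihedralGroup.sr 0) (by decide) (by decide)).symm
    exact absurd (f.symm.injective h2) (by decide)
  · exact h1

/-- Case 2: some relevant Sylow subgroup is not commutative. -/
theorem DD.case2 (h : DD G) {p : ℕ} [hp : Fact p.Prime] (hd : p ∣ (commutator G).index)
    (P : Sylow p G) (hP : ¬ ∀ a b : P, a * b = b * a) :
    IsExtraspecial 2 G ∨
      ∃ K H : Subgroup G, Frob K H ∧ Nonempty (H ≃* QuaternionGroup 2) := by
  obtain ⟨K, hKn, hK⟩ := h.exists_complement hd P
  let e : G ⧸ K ≃* P := hK.symm.QuotientMulEquiv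
  have hDP : DD (P : Subgroup G) :=
    h.of_surjective (e.toMonoidHom.comp (QuotientGroup.mk' K))
      (e.surjective.comp (QuotientGroup.mk'_surjective K))
  rcases hDP.pGroup P.isPGroup' with h1 | ⟨rfl, hext⟩
  · exact absurd h1 hP
  have hKc : K ≤ commutator G := h.le_commutator K (by
    intro h2
    apply hP
    intro a b
    have := h2 (e.symm a) (e.symm b)
    rw [← map_mul, ← map_mul] at this
    exact e.symm.injective this)
  -- the index of the derived subgroup
  have hidx : (commutator G).index = (commutator P).index := by
    have h2 : (commutator (G ⧸ K)).index = (commutator G).index := by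
      have h3 : (commutator G).map (QuotientGroup.mk' K) = commutator (G ⧸ K) := by
        rw [commutator_def, commutator_def, map_commutator, ← MonoidHom.range_eq_map,
          (MonoidHom.range_eq_top).2 (QuotientGroup.mk'_surjective K)]
      rw [← h3]
      exact index_map_eq _ (QuotientGroup.mk'_surjective K) (by
        rw [QuotientGroup.ker_mk']; exact hKc)
    rw [← h2]
    have h4 : (commutator (G ⧸ K)).map (e : (G ⧸ K) →* P) = commutator P := by
      rw [commutator_def, commutator_def, map_commutator, ← MonoidHom.range_eq_map,
        (MonoidHom.range_eq_top).2 e.surjective]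
    rw [← h4, index_map_equiv]
  by_cases hK1 : K = ⊥
  · left
    subst hK1
    exact H446.ExtraAct.isExtraspecial_of_equiv
      (e.symm.trans (QuotientGroup.quotientBot)) hext
  right
  obtain ⟨⟨-, -, hcom⟩, hcen⟩ := hext
  obtain ⟨n, hn⟩ := IsPGroup.iff_card.1 P.isPGroup'
  have hodd : ∀ k ∈ K, ∀ m : ℕ, k ^ 2 ^ m = 1 → k = 1 := by
    intro k hk m hm
    have h2 : Nat.card K = (P : Subgroup G).index := hK.index_eq_card.symm
    have h3 : ¬ 2 ∣ Nat.card K := by rw [h2]; exact P.not_dvd_index
    have h4 : orderOf k ∣ 2 ^ m := orderOf_dvd_of_pow_eq_one hm
    have h5 : orderOf k ∣ Nat.card K := by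
      rw [show k = ((⟨k, hk⟩ : K) : G) from rfl, Subgroup.orderOf_coe]
      exact orderOf_dvd_natCard _
    obtain ⟨i, -, hi⟩ := (Nat.dvd_prime_pow Nat.prime_two).1 h4
    rcases Nat.eq_zero_or_pos i with h0 | h0
    · rw [h0, pow_zero] at hi
      exact orderOf_eq_one_iff.1 hi
    · exact absurd ((dvd_pow_self 2 h0.ne').trans (hi ▸ h5)) h3
  have hinf := h.inf_commutator hd P
  -- noncentral elements of `P` act fixed point freely
  have hnon : ∀ x : P, x ∉ center P → ∀ k ∈ K, (x : G) * k = k * x → k = 1 := by
    intro x hx k hk hxk
    have h1 : (x : G) ∉ commutator G := by
      intro hc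
      have h2 : (x : G) ∈ (commutator P).map (P : Subgroup G).subtype := by
        rw [hinf]; exact ⟨x.2, hc⟩
      obtain ⟨y, hy, hyx⟩ := h2
      have h3 : y = x := Subtype.ext hyx
      rw [h3, hcom] at hy
      exact hx hy
    have h2 := h.card_centralizer h1
    have h3 : (commutator P).index ∣ 2 ^ n := by
      rw [← hn]; exact index_dvd_card _
    obtain ⟨i, -, hi⟩ := (Nat.dvd_prime_pow Nat.prime_two).1 h3
    rw [hidx, hi] at h2
    have h4 : k ∈ centralizer ({(x : G)} : Set G) := mem_centralizer_singleton_iff.2 hxk.symm
    have h5 : (⟨k, h4⟩ : centralizer ({(x : G)} : Set G)) ^ 2 ^ i = 1 := by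
      rw [← h2]; exact pow_card_eq_one'
    exact hodd k hk i (congrArg Subtype.val h5)
  obtain ⟨h1, h2⟩ := case2_core K (P : Subgroup G) hKn hK hK1 hodd hcom hcen hP hnon
  exact ⟨K, P, h1, h2⟩

/-- Non-perfect groups with distinct nonlinear degrees. -/
theorem DD.nonperfect (h : DD G) (hnc : ¬ ∀ a b : G, a * b = b * a) (hnp : commutator G ≠ ⊤) :
    IsExtraspecial 2 G ∨
      ∃ K H : Subgroup G, Frob K H ∧ (Nonempty (H ≃* QuaternionGroup 2) ∨ IsCyclic H) := by
  by_cases hab : ∀ p : ℕ, p.Prime → p ∣ (commutator G).index →
      ∀ P : Sylow p G, ∀ a b : P, a * b = b * a
  · obtain ⟨K, H, hF, hc⟩ := h.case1 hnc hnp hab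
    exact Or.inr ⟨K, H, hF, Or.inr hc⟩
  · push Not at hab
    obtain ⟨p, hp, hd, P, a, b, hab⟩ := hab
    have : Fact p.Prime := ⟨hp⟩
    rcases h.case2 hd P (fun hc => hab (hc a b)) with h1 | ⟨K, H, hF, hc⟩
    · exact Or.inl h1
    · exact Or.inr ⟨K, H, hF, Or.inl hc⟩

/-- The form of the statement. -/
theorem DD.nonperfect' (h : DD G) (hnp : commutator G ≠ ⊤) :
    (IsMulCommutative G ∨ IsExtraspecial 2 G ∨
        ∃ (H K : Subgroup G) (q n : ℕ), q.Prime ∧ IsFrobeniusComplement H ∧
          frobeniusKernel H = (K : Set G) ∧ K.Normal ∧
          IsElementaryAbelian q K ∧ Nat.card K = q ^ n ∧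
          ((Nonempty (H ≃* QuaternionGroup 2) ∧ q ^ n = 9) ∨
            (IsCyclic H ∧ Nat.card H = q ^ n - 1))) := by
  by_cases hc : ∀ a b : G, a * b = b * a
  · exact Or.inl ⟨⟨hc⟩⟩
  rcases h.nonperfect hc hnp with h1 | ⟨K, H, F, h1⟩
  · exact Or.inr (Or.inl h1)
  refine Or.inr (Or.inr ?_)
  have hK := F.kernel_comm h
  have hcard := F.card_eq h hK
  obtain ⟨q, n, hq, hpow, hn⟩ := F.exists_prime hcard
  refine ⟨H, K, q, n, hq, F.isFC, F.kernel, F.normal,
    ⟨⟨⟨fun a b => Subtype.ext (hK a a.2 b b.2)⟩⟩, hpow⟩, hn, ?_⟩
  rcases h1 with h1 | h1
  · left
    refine ⟨h1, ?_⟩
    obtain ⟨e⟩ := h1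
    rw [← hn, hcard, Nat.card_congr e.toEquiv, Nat.card_eq_fintype_card, QuaternionGroup.card]
  · right
    exact ⟨h1, by omega⟩

end Cfsg.Agent.H689
end

-- part: H689/Conv
section
/-!
# The groups of the conclusion have distinct nonlinear degrees
-/

set_option autoImplicit false
set_option linter.unusedSectionVars false

open scoped ComplexConjugate commutatorElement Pointwise
open Cfsg Cfsg.Agent.Characters Cfsg.Agent.H686.CharKit Subgroup

namespace Cfsg.Agent.H689

universe u

variable {G : Type u} [Group G] [Finite G] {K H : Subgroup G}

theorem charDegree_of_comm (hK : ∀ a b : G, a * b = b * a) (τ : IrrCharacter G) :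
    charDegree (τ : G → ℂ) = 1 := by
  have hc : charDegree (τ : G → ℂ) ^ 2 ≤ (center G).index :=
    H678.Codeg.sq_charDegree_le_index_center τ
  have htop : center G = ⊤ := by
    rw [eq_top_iff]
    intro x _
    rw [mem_center_iff]
    intro y
    exact hK y x
  rw [htop, index_top] at hc
  have h0 := charDegree_pos τ
  nlinarith

theorem DD.of_comm (hc : ∀ a b : G, a * b = b * a) : DD G :=
  fun χ _ _ h => absurd (charDegree_of_comm hc χ) h

theorem DD.of_extraspecial (hG : IsExtraspecial 2 G) : DD G := by
  have h2 : ∀ χ : IrrCharacter G, charDegree (χ : G → ℂ) ≠ 1 → 2 ∣ charDegree (χ : G → ℂ) := by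
    intro χ hχ
    obtain ⟨⟨hp, -, -⟩, -⟩ := hG
    have : Fact (Nat.Prime 2) := ⟨Nat.prime_two⟩
    obtain ⟨n, hn⟩ := IsPGroup.iff_card.1 hp
    have h1 : charDegree (χ : G → ℂ) ∣ Nat.card G := H669.Basic.charDegree_dvd_card χ.2
    rw [hn] at h1
    obtain ⟨a, -, ha⟩ := (Nat.dvd_prime_pow Nat.prime_two).1 h1
    rw [ha] at hχ ⊢
    refine dvd_pow_self 2 ?_
    rintro rfl
    exact hχ (pow_zero 2)
  intro χ ψ hne hχ heq
  apply hne
  exact Subtype.ext (S4762.unique_of_extraspecial hG χ.2 (h2 χ hχ) ψ.2 (h2 ψ (by rw [← heq]; exact hχ)))

theorem DD.of_card_eight (hc : Nat.card G = 8) : DD G := by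
  classical
  have := Fintype.ofFinite G
  have := Core.finite_irr (G := G)
  have := Fintype.ofFinite (IrrCharacter G)
  intro χ ψ hne hχ heq
  have hsum := sum_nonlinear (G := G)
  have h1 : ({χ, ψ} : Finset (IrrCharacter G)) ⊆
      Finset.univ.filter (fun χ : IrrCharacter G => charDegree (χ : G → ℂ) ≠ 1) := by
    intro x hx
    rw [Finset.mem_insert, Finset.mem_singleton] at hx
    rw [Finset.mem_filter]
    rcases hx with rfl | rfl
    · exact ⟨Finset.mem_univ _, hχ⟩
    · exact ⟨Finset.mem_univ _, by rw [← heq]; exact hχ⟩
  have h2 := Finset.sum_le_sum_of_subset (f := fun χ : IrrCharacter G =>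
    charDegree (χ : G → ℂ) ^ 2) h1
  rw [Finset.sum_pair hne] at h2
  rw [hc] at hsum
  have h3 : 0 < (commutator G).index := Nat.pos_of_ne_zero index_ne_zero_of_finite
  have h4 := charDegree_pos χ
  have h5 : 2 ≤ charDegree (χ : G → ℂ) := by omega
  have h6 : 2 ≤ charDegree (ψ : G → ℂ) := by rw [← heq]; exact h5
  have h7 : 4 ≤ charDegree (χ : G → ℂ) ^ 2 := by nlinarith only [h5]
  have h8 : 4 ≤ charDegree (ψ : G → ℂ) ^ 2 := by nlinarith only [heq, h7]
  omega

/-- Frobenius groups with commutative kernel of order `|H| + 1`. -/
theorem Frob.dd (F : Frob K H) (hK : ∀ a ∈ K, ∀ b ∈ K, a * b = b * a)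
    (hcard : Nat.card K = Nat.card H + 1) (hq : letI := F.normal; DD (G ⧸ K)) : DD G := by
  classical
  have := Fintype.ofFinite G
  have := Core.finite_irr (G := G)
  have := Fintype.ofFinite (IrrCharacter G)
  have := F.normal
  have := Core.finite_irr (G := G ⧸ K)
  have := Fintype.ofFinite (IrrCharacter (G ⧸ K))
  have hsum := sum_not_ker (G := G) K
  set X := Finset.univ.filter (fun χ : IrrCharacter G => ¬ K ≤ chKer χ) with hX
  have hKc : ∀ τ : IrrCharacter K, (τ : K → ℂ) 1 = 1 := fun τ =>
    (charDegree_eq_one_iff τ).1 (charDegree_of_comm (fun a b => Subtype.ext (hK a a.2 b b.2)) τ)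
  have hdeg : ∀ χ : IrrCharacter G, ¬ K ≤ chKer χ → charDegree (χ : G → ℂ) = Nat.card H := by
    intro χ hχ
    obtain ⟨τ, -, hτ⟩ := F.exists_ind χ hχ
    rw [hKc τ, mul_one, ← charDegree_irr] at hτ
    exact_mod_cast hτ
  have h1 : ∑ χ ∈ X, charDegree (χ : G → ℂ) ^ 2 = X.card * Nat.card H ^ 2 := by
    rw [Finset.sum_congr rfl fun χ hχ => by rw [hdeg χ (Finset.mem_filter.1 hχ).2],
      Finset.sum_const, smul_eq_mul]
  have hH := F.one_lt_card
  have hone : X.card = 1 := by
    rw [h1, F.index_kernel, ← F.card_mul, hcard] at hsum
    have h3 : X.card * Nat.card H ^ 2 = 1 * Nat.card H ^ 2 := by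
      have : (Nat.card H + 1) * Nat.card H = Nat.card H ^ 2 + Nat.card H := by ring
      rw [this] at hsum
      omega
    exact Nat.eq_of_mul_eq_mul_right (by positivity) h3
  -- degrees of the characters with `K` in the kernel
  have hlt : ∀ χ : IrrCharacter G, K ≤ chKer χ → charDegree (χ : G → ℂ) < Nat.card H := by
    intro χ hχ
    obtain ⟨ψ, rfl⟩ := exists_infl K χ hχ
    have h2 := sum_deg_sq (G := G ⧸ K)
    have h3 : charDegree (ψ : G ⧸ K → ℂ) ^ 2 ≤ Nat.card (G ⧸ K) := by
      rw [← h2]
      exact Finset.single_le_sum (f := fun ψ : IrrCharacter (G ⧸ K) =>
        charDegree (ψ : G ⧸ K → ℂ) ^ 2) (fun _ _ => Nat.zero_le _) (Finset.mem_univ ψ)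
    have h4 : Nat.card (G ⧸ K) = Nat.card H := F.index_kernel
    rw [h4] at h3
    have h5 : charDegree (infl K ψ : G → ℂ) = charDegree (ψ : G ⧸ K → ℂ) := rfl
    rw [h5]
    nlinarith only [hH, h3]
  intro χ ψ hne hχ heq
  by_cases h2 : K ≤ chKer χ
  · have h3 : K ≤ chKer ψ := by
      by_contra h4
      have h5 := hlt χ h2
      rw [heq, hdeg ψ h4] at h5
      exact lt_irrefl _ h5
    obtain ⟨χ', rfl⟩ := exists_infl K χ h2
    obtain ⟨ψ', rfl⟩ := exists_infl K ψ h3
    exact hq χ' ψ' (fun h => hne (by rw [h])) hχ heq
  · have h3 : ¬ K ≤ chKer ψ := by
      intro h4
      have h5 := hlt ψ h4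
      rw [← heq, hdeg χ h2] at h5
      exact lt_irrefl _ h5
    obtain ⟨θ, hθ⟩ := Finset.card_eq_one.1 hone
    have h4 : χ ∈ X := Finset.mem_filter.2 ⟨Finset.mem_univ _, h2⟩
    have h5 : ψ ∈ X := Finset.mem_filter.2 ⟨Finset.mem_univ _, h3⟩
    rw [hθ, Finset.mem_singleton] at h4 h5
    exact hne (h4.trans h5.symm)

theorem Frob.of_isFC (hH : IsFrobeniusComplement H) (hK : frobeniusKernel H = (K : Set G)) :
    Frob K H := by
  obtain ⟨N, hN, hNn, hNc⟩ := S0035.result H hH
  have hNK : N = K := SetLike.coe_injective (hN.trans hK)
  subst hNK
  have hne : N ≠ ⊥ := by
    rintro rfl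
    have := hNc.sup_eq_top
    rw [bot_sup_eq] at this
    exact hH.2.1 this
  refine ⟨hNn, hNc, hne, hH.1, ?_⟩
  intro h hh h1 k hk hhk
  have h2 := (S0039.result N H hNc hne hH.1).1 hH h hh h1
  have h3 : k ∈ N ⊓ centralizer {h} := ⟨hk, mem_centralizer_singleton_iff.2 hhk.symm⟩
  rw [h2, mem_bot] at h3
  exact h3

/-- The converse direction. -/
theorem DD.of_concl (h : (IsMulCommutative G ∨ IsExtraspecial 2 G ∨
        ∃ (H K : Subgroup G) (q n : ℕ), q.Prime ∧ IsFrobeniusComplement H ∧
          frobeniusKernel H = (K : Set G) ∧ K.Normal ∧
          IsElementaryAbelian q K ∧ Nat.card K = q ^ n ∧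
          ((Nonempty (H ≃* QuaternionGroup 2) ∧ q ^ n = 9) ∨
            (IsCyclic H ∧ Nat.card H = q ^ n - 1)))) : DD G := by
  rcases h with h | h | ⟨H, K, q, n, hq, hH, hK, hKn, hel, hcard, h⟩
  · exact DD.of_comm (fun a b => h.is_comm.comm a b)
  · exact DD.of_extraspecial h
  have F := Frob.of_isFC hH hK
  have hKc : ∀ a ∈ K, ∀ b ∈ K, a * b = b * a := fun a ha b hb =>
    congrArg Subtype.val (hel.1.is_comm.comm ⟨a, ha⟩ ⟨b, hb⟩)
  let e : G ⧸ K ≃* H := F.compl.symm.QuotientMulEquiv
  rcases h with ⟨⟨f⟩, h9⟩ | ⟨hc, hcH⟩
  · have h8 : Nat.card H = 8 := by
      rw [Nat.card_congr f.toEquiv, Nat.card_eq_fintype_card, QuaternionGroup.card]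
    refine F.dd hKc (by rw [hcard, h9, h8]) (DD.of_card_eight ?_)
    rw [Nat.card_congr e.toEquiv, h8]
  · have hqn : 0 < q ^ n := pow_pos hq.pos n
    refine F.dd hKc (by rw [hcard, hcH]; omega) (DD.of_comm ?_)
    intro a b
    apply e.injective
    rw [map_mul, map_mul]
    obtain ⟨g, hg⟩ := hc.exists_generator
    obtain ⟨i, hi⟩ := hg (e a)
    obtain ⟨j, hj⟩ := hg (e b)
    simp only at hi hj
    rw [← hi, ← hj, ← zpow_add, ← zpow_add, add_comm]

end Cfsg.Agent.H689
end

-- part: S4846
section
set_option autoImplicit false
open Cfsg

namespace Cfsg.Agent.S4846

/-- For a finite group G the following are equivalent: (i) distinct irreducible characters of degree greater than 1 have distinct degrees; (ii) G is commutative, or G is an extraspecial 2-group, or G has a Frobenius complement H whose Frobenius kernel is an elementary abelian normal subgroup K of prime-power order q^n with either H isomorphic to the quaternion group of order 8 and q^n = 9, or H cyclic of order q^n − 1. -/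
theorem result {G : Type*} [Group G] [Finite G] :
    (∀ χ ψ : Cfsg.IrrCharacter G, χ ≠ ψ → Cfsg.charDegree (χ : G → ℂ) ≠ 1 → Cfsg.charDegree (χ : G → ℂ) ≠ Cfsg.charDegree (ψ : G → ℂ)) ↔
      (IsMulCommutative G ∨ Cfsg.IsExtraspecial 2 G ∨
        ∃ (H K : Subgroup G) (q n : ℕ), q.Prime ∧ Cfsg.IsFrobeniusComplement H ∧ Cfsg.frobeniusKernel H = (K : Set G) ∧ K.Normal ∧
          Cfsg.IsElementaryAbelian q K ∧ Nat.card K = q ^ n ∧
          ((Nonempty (H ≃* QuaternionGroup 2) ∧ q ^ n = 9) ∨ (IsCyclic H ∧ Nat.card H = q ^ n - 1))) := by
  constructor
  · intro h
    have hDD : Cfsg.Agent.H689.DD G := h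
    rcases subsingleton_or_nontrivial G with hs | hn
    · exact Or.inl ⟨⟨fun a b => Subsingleton.elim _ _⟩⟩
    · exact hDD.nonperfect' (hDD.not_perfect (fun S _ _ _ => Cfsg.Agent.S0000.result))
  · intro h
    exact Cfsg.Agent.H689.DD.of_concl h

end Cfsg.Agent.S4846
end

private theorem dce_7c2ab07f5de0 : _root_.True := by
  try have : _root_.True := by simp only [_root_.Cfsg.Agent.H686.CharKit.chKer.congr_simp]
  exact _root_.True.intro
end
end
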