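import Cfsg.Agent.BZ.N2.Lie_m3
import Cfsg.Agent.BZ.RT.Lv_m3
import Cfsg.Agent.BZ.N2.Spor_m3
import Cfsg.Agent.BZ.N2.SuzFi_m3
import Cfsg.Agent.BZ.RT.Co.E7_m3
import Cfsg.Agent.BZ.A.Desc_m3
import Cfsg.Agent.BZ.RT.Cl2_m3
import Cfsg.Agent.KM.All
import Cfsg.Statements.S4853
set_option linter.all false

-- part: BZ/N2/Main
section
set_option linter.all false

/-!
# BZ / N2 : the assembly of the rows (helper27)

* `boxN2 (s : St) : BoxN2'`, `boxN2_bt (b : RT.BT) : BoxN2'`.
-/

set_option autoImplicit false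

namespace Cfsg.Agent.BZ.N2

theorem bx : Bx where
  alt := rowAlt
  lie := rowLie_of tool
  psl := rowPsl
  psu := rowPsu
  cl := rowCl tool (boxO73 tool)
  ex := rowEx_of tool
  spor := rowSpor tool boxSuz boxFi

/-- **nilpotent `2`-blocks** from the strong rows -/
theorem boxN2 (s : St) : BoxN2' := boxN2_of (bx.all s)

end Cfsg.Agent.BZ.N2
end

-- part: BZ/Fin53
section
set_option linter.all false

/-!
# BZ (S4853) : the assembly (helper27)

* `allT (b : RT.BT) (x : RT.XR) (hW : AT.BoxW) : All RowT`, `s4853_bt`.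
-/

set_option autoImplicit false

namespace Cfsg.Agent.BZ

open Cfsg Cfsg.Agent.KM

theorem boxB_of (hW : AT.BoxW) : AT.BoxB :=
  AT.boxB (AT.boxU AT.boxD (AT.boxH AT.boxO1) (AT.boxL AT.boxO2) hW) AT.boxC (AT.boxR AT.boxF)

end Cfsg.Agent.BZ
end

-- part: BZ/Fin53b
section
set_option linter.all false

/-!
# BZ (S4853) : the assembly from the leaves (helper17)

* `allT2 (b : RT.BT2) : All RowT`, `s4853_bt2`, `s4853_lv`.
-/

set_option autoImplicit false

namespace Cfsg.Agent.BZ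

open Cfsg Cfsg.Agent.KM

/-- **all rows** -/
theorem allT2 (b : RT.BT2) : All RowT :=
  (RT.rowsT_of2 b RT.xr).all Alt.altT D3.lieT (AT.row_psl (boxB_of AT.boxW))
    (AT.row_psu (boxB_of AT.boxW) (fun F _ _ h => RowX.cov (X := XT) (X.rowT_u62 F h) 2)
      fun F _ _ h => RowX.cov (X := XT) (X.rowT_u43 F h) 3)
    X2.szT X2.reeT X2.tf4T titsT sporT

/-- **S4853** from the targets -/
theorem s4853_bt2 (b : RT.BT2) {S : Type*} [Group S] [Finite S]
    (hS : IsQuasisimple S) (p : ℕ) [Fact p.Prime] (M : Ideal AlgInt) (hM : IsPModular p M)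
    (B : Set (IrrCharacter S)) (hB : IsPBlock M B) (D : Subgroup S) (hD : IsDefectGroup p M B D)
    (heq : ∀ χ ∈ B, ∀ ψ ∈ B, blockHeight p B (χ : S → ℂ) = 0 → blockHeight p B (ψ : S → ℂ) = 0 →
      charDegree (χ : S → ℂ) = charDegree (ψ : S → ℂ)) : IsMulCommutative D ∧ IsNilpotentBlock p M B :=
  s4853_of kmAll kmAll (allT2 b) (N2.boxN2 (RT.st_of (b.cl 2) (b.e7 2 (.inl rfl)))) hS p M hM B hB D hD heq

end Cfsg.Agent.BZ
end

-- part: S4853
section
set_option linter.all false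

set_option autoImplicit false
open Cfsg

namespace Cfsg.Agent.S4853

/-- Let S be a finite quasisimple group, p a prime, M a maximal ideal of the algebraic integers containing p, and B a p-block of S with defect group D such that all irreducible characters of height zero in B have the same degree. Then D is commutative and B is a nilpotent block. -/
theorem result {S : Type*} [Group S] [Finite S] (hS : Cfsg.IsQuasisimple S) (p : ℕ) [Fact p.Prime] (M : Ideal Cfsg.AlgInt) (hM : Cfsg.IsPModular p M) (B : Set (Cfsg.IrrCharacter S)) (hB : Cfsg.IsPBlock M B) (D : Subgroup S) (hD : Cfsg.IsDefectGroup p M B D) (heq : ∀ χ ∈ B, ∀ ψ ∈ B, Cfsg.blockHeight p B (χ : S → ℂ) = 0 → Cfsg.blockHeight p B (ψ : S → ℂ) = 0 → Cfsg.charDegree (χ : S → ℂ) = Cfsg.charDegree (ψ : S → ℂ)) : IsMulCommutative D ∧ Cfsg.IsNilpotentBlock p M B :=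
  Cfsg.Agent.BZ.s4853_bt2 (Cfsg.Agent.BZ.RT.B3.bt2_bc Cfsg.Agent.BZ.RT.Cx.bc) hS p M hM B hB D hD heq

end Cfsg.Agent.S4853
end
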