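import Cfsg.Agent.H934.HeisE6_m3
import Cfsg.Agent.H324.Hall.FamOrth
import Cfsg.Agent.H727.Orth.SporTool
import Cfsg.Agent.S2119
import Cfsg.Agent.H934.HeisTwE6
import Cfsg.Agent.H934.HeisE7
import Cfsg.Agent.H934.HeisE8
import Cfsg.Agent.H638.G2Iso
import Cfsg.Agent.H161.G2Elems
import Cfsg.Agent.S0248
import Cfsg.Agent.S2121
import Cfsg.Agent.S2122
import Cfsg.Agent.S2123
import Cfsg.Agent.S2124
import Cfsg.Agent.S2125
import Cfsg.Agent.S2127
import Cfsg.Agent.S2129
import Cfsg.Agent.S2130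
import Cfsg.Agent.S2332
import Cfsg.Agent.S2342
import Cfsg.Agent.S2343
import Cfsg.Agent.H119.SUBound
import Cfsg.Agent.S2392
import Cfsg.Agent.S0256
import Mathlib
import Cfsg.Agent.Classification.RTwo.UThreeThree
import Cfsg.Agent.H694.Good
import Cfsg.Agent.H727.Orth.TwoPart
import Cfsg.Agent.H727.Orth.TitsRow_m3
import Cfsg.Agent.H727.Orth.PSL2
import Cfsg.Agent.H894.CompSimp_m3
import Cfsg.Agent.S0822
import Cfsg.Agent.S0253
import Cfsg.Agent.S0254
import Cfsg.Agent.OddHalf.Known
import Cfsg.Agent.SporadicA.J2Hundred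
import Cfsg.Agent.H121.Cyc.Mathieu
import Cfsg.Agent.H298.EOFiveTest
import Cfsg.Agent.MTwelve.SmallDegree
import Cfsg.Agent.J2.HundredGens
import Cfsg.Agent.S1619
import Cfsg.Agent.H603.SporElim
import Cfsg.Agent.H687.HeRow
import Cfsg.Agent.H253.TwoComm.Cent
import Cfsg.Agent.H732.DS.McLDeg
import Cfsg.Agent.H175.BdSp_m3
import Cfsg.Agent.H346.CoxA
import Cfsg.Agent.H920.FiTwoMain
import Cfsg.Agent.H661.SporHN
import Cfsg.Agent.HN.AutHS
import Cfsg.Agent.H921.SporM24
import Cfsg.Agent.H4.JT.Two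
import Cfsg.Agent.H921.SporSuz
import Cfsg.Agent.H921.SporHN
import Cfsg.Agent.H921.SporON11
import Cfsg.Agent.H253.Orth.J3
import Cfsg.Statements.S4869
import Cfsg.Agent.S0000
import Cfsg.Agent.FastGrp
import Cfsg.Agent.Prune
set_option linter.all false

section
prune_inst 0x7ffca9fbeae829dedfff7e3fa698cffc31808fffe6dff94bffe06bbf0bdf030209e1fb8509e018fe0e76e23410b87813fbfffeffe06ff87ffffdbff41ffbee4fe5f73508519488340f3c2ffe03f0778e6f3fffffffffffffffffffffffffffbeffbffbfeffff

-- part: H715/HeisDeg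
section
set_option linter.all false
open scoped Cfsg.Agent.FastGrp

/-!
# Degrees of complex representations of groups with a special subgroup

`sq_le`: `|Q| ≤ (dim V)² |Z|` if `Z` acts nontrivially on `V`, `Q` special with centre `Z` (`Heis.Hyp`);
`bigDeg_of_data`: the resulting bound for the degrees of a simple group.
-/

set_option autoImplicit false
set_option linter.unusedSectionVars false

open Module

namespace Cfsg.Agent.H715.HeisDeg

open Cfsg.Agent.H934.Heis Cfsg.Agent.H934.HeisData Cfsg.Agent.H934.HeisRoot Cfsg.Agent.H324.Hall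

section eigen

variable {V : Type*} [AddCommGroup V] [Module ℂ V] [FiniteDimensional ℂ V]

/-- An operator of finite order different from `1` has an eigenvalue different from `1`. -/
theorem exists_eigen (T : Module.End ℂ V) {n : ℕ} (hn : 0 < n) (hT : T ^ n = 1) (h1 : T ≠ 1) :
    ∃ μ : ℂ, μ ≠ 1 ∧ ∃ v : V, v ≠ 0 ∧ T v = μ • v := by
  set W : Submodule ℂ V := LinearMap.range (T - 1) with hW
  have hne : W ≠ ⊥ := by
    intro h
    apply h1
    rw [hW, LinearMap.range_eq_bot, sub_eq_zero] at h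
    exact h
  have hnt : Nontrivial W := Submodule.nontrivial_iff_ne_bot.2 hne
  have hst : ∀ w ∈ W, T w ∈ W := by
    rintro _ ⟨u, rfl⟩
    refine ⟨T u, ?_⟩
    simp only [LinearMap.sub_apply, Module.End.one_apply, map_sub]
  obtain ⟨μ, hμ⟩ := Module.End.exists_eigenvalue (T.restrict hst)
  obtain ⟨v, hv⟩ := hμ.exists_hasEigenvector
  have hv1 : T (v : V) = μ • (v : V) := congrArg Subtype.val hv.apply_eq_smul
  have hv0 : (v : V) ≠ 0 := fun h => hv.2 (Subtype.ext h)
  refine ⟨μ, ?_, v, hv0, hv1⟩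
  rintro rfl
  rw [one_smul] at hv1
  obtain ⟨w, hw⟩ := v.2
  have hw1 : T w = w + (v : V) := by
    rw [← hw, LinearMap.sub_apply, Module.End.one_apply]
    abel
  have h2 : ∀ k : ℕ, (T ^ k) w = w + (k : ℂ) • (v : V) := by
    intro k
    induction k with
    | zero => simp
    | succ k ih =>
      rw [pow_succ', Module.End.mul_apply, ih, map_add, map_smul, hw1, hv1, Nat.cast_succ, add_smul, one_smul]
      abel
  have h3 := h2 n
  rw [hT, Module.End.one_apply, left_eq_add, smul_eq_zero] at h3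
  rcases h3 with h3 | h3
  · exact hn.ne' (Nat.cast_eq_zero.1 h3)
  · exact hv0 h3

end eigen

variable {P : Type*} [Group P] [Finite P] {Z Q : Subgroup P}

/-- **The bound.** -/
theorem sq_le (h : Hyp Z Q) {V : Type*} [AddCommGroup V] [Module ℂ V] [FiniteDimensional ℂ V]
    (ρ : Representation ℂ P V) {z₀ : P} (hz₀ : z₀ ∈ Z) (h0 : ρ z₀ ≠ 1) :
    Nat.card Q ≤ finrank ℂ V ^ 2 * Nat.card Z := by
  classical
  obtain ⟨μ, hμ, v, hv, hv1⟩ := exists_eigen (ρ z₀) (orderOf_pos z₀)
    (by rw [← map_pow, pow_orderOf_eq_one, map_one]) h0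
  set E : Submodule ℂ V := Module.End.eigenspace (ρ z₀) μ with hE
  have hmem : ∀ w, w ∈ E ↔ ρ z₀ w = μ • w := fun w => Module.End.mem_eigenspace_iff
  have hst : ∀ g : P, ∀ w ∈ E, ρ g w ∈ E := by
    intro g w hw
    rw [hmem] at hw ⊢
    rw [← Module.End.mul_apply, ← map_mul, ← h.central _ hz₀ g, map_mul, Module.End.mul_apply, hw, map_smul]
  let τ : P →* Module.End ℂ E :=
    { toFun := fun g => (ρ g).restrict (hst g)
      map_one' := by ext w; simp
      map_mul' := fun a b => by ext w; simp }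
  have hτz : ∀ w : E, τ z₀ w = μ • w := fun w => Subtype.ext ((hmem _).1 w.2)
  -- traces
  have htr : ∀ x ∈ Q, x ∉ Z → LinearMap.trace ℂ E (τ x) = 0 := by
    intro x hx hxZ
    obtain ⟨y, hy, hxy⟩ := h.special x hx hxZ z₀ hz₀
    have h1 : x * y = z₀ * (y * x) := by
      rw [← hxy]; group
    have h2 : τ x * τ y = μ • (τ y * τ x) := by
      rw [← map_mul, ← map_mul, h1, map_mul]
      ext w
      rw [Module.End.mul_apply, hτz, LinearMap.smul_apply]
    have h3 : τ x = μ • (τ y * τ x * τ y⁻¹) := by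
      rw [← smul_mul_assoc, ← h2, mul_assoc, ← map_mul, mul_inv_cancel, map_one, mul_one]
    have h4 : LinearMap.trace ℂ E (τ x) = μ * LinearMap.trace ℂ E (τ x) := by
      conv_lhs => rw [h3]
      rw [map_smul, smul_eq_mul, mul_assoc (τ y), LinearMap.trace_mul_comm, mul_assoc, ← map_mul, inv_mul_cancel,
        map_one, mul_one]
    have h5 : (1 - μ) * LinearMap.trace ℂ E (τ x) = 0 := by
      linear_combination h4
    rcases mul_eq_zero.1 h5 with h6 | h6
    · exact absurd (sub_eq_zero.1 h6).symm hμ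
    · exact h6
  have hEnt : Nontrivial E := ⟨⟨⟨v, (hmem v).2 hv1⟩, 0, fun h' => hv (congrArg Subtype.val h')⟩⟩
  have hd : (finrank ℂ E : ℂ) ≠ 0 := Nat.cast_ne_zero.2 finrank_pos.ne'
  -- independence
  let ι := Q ⧸ (Z.subgroupOf Q)
  have : Fintype ι := Fintype.ofFinite ι
  let m : ι → Module.End ℂ E := fun c => τ ((c.out : Q) : P)
  have hli : LinearIndependent ℂ m := by
    rw [Fintype.linearIndependent_iff]
    intro g hg c
    have h1 := congrArg (fun T => LinearMap.trace ℂ E (T * τ ((c.out : Q) : P)⁻¹)) hg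
    simp only [zero_mul, map_zero, Finset.sum_mul, map_sum, smul_mul_assoc, map_smul, smul_eq_mul] at h1
    rw [Finset.sum_eq_single c] at h1
    · simp only [m] at h1
      rw [← map_mul, mul_inv_cancel, map_one, LinearMap.trace_one] at h1
      rcases mul_eq_zero.1 h1 with h2 | h2
      · exact h2
      · exact absurd h2 hd
    · intro b _ hb
      simp only [m]
      rw [← map_mul, htr, mul_zero]
      · exact Q.mul_mem (b.out : Q).2 (Q.inv_mem (c.out : Q).2)
      · intro hZ
        apply hb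
        have h2 : ((c.out : Q) : ι) = ((b.out : Q) : ι) := by
          rw [QuotientGroup.eq, Subgroup.mem_subgroupOf]
          have h3 := h.central _ hZ ((c.out : Q) : P)⁻¹
          have h4 : (((c.out : Q)⁻¹ * (b.out : Q) : Q) : P) =
              ((b.out : Q) : P) * ((c.out : Q) : P)⁻¹ := by
            show ((c.out : Q) : P)⁻¹ * ((b.out : Q) : P) = _
            calc ((c.out : Q) : P)⁻¹ * ((b.out : Q) : P)
                = ((c.out : Q) : P)⁻¹ * (((b.out : Q) : P) * ((c.out : Q) : P)⁻¹) * ((c.out : Q) : P) := by group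
              _ = _ := by rw [h3]; group
          rw [h4]
          exact hZ
        rw [QuotientGroup.out_eq', QuotientGroup.out_eq'] at h2
        exact h2.symm
    · intro h2
      exact absurd (Finset.mem_univ c) h2
  have h1 := hli.fintype_card_le_finrank
  rw [Module.finrank_linearMap] at h1
  have h2 : Nat.card ι * Nat.card (Z.subgroupOf Q) = Nat.card Q := by
    rw [mul_comm]
    exact (Z.subgroupOf Q).card_mul_index
  have h3 : Nat.card (Z.subgroupOf Q) = Nat.card Z := Nat.card_congr (Subgroup.subgroupOfEquivOfLe h.le).toEquiv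
  have h4 : finrank ℂ E ≤ finrank ℂ V := Submodule.finrank_le E
  rw [← h2, h3, Nat.card_eq_fintype_card (α := ι)]
  refine Nat.mul_le_mul_right _ (h1.trans ?_)
  rw [pow_two]
  exact Nat.mul_le_mul h4 h4

/-- **Degrees of a simple group with the data of a special subgroup.** -/
theorem bigDeg_of_data {Γ : Type*} [Group Γ] [Finite Γ] {V A K : Type*} [AddCommGroup V] [AddCommGroup A]
    [Nontrivial A] (D : Data Γ V A K) {X : Type*} [Group X] [IsSimpleGroup X] (π : Γ →* X) {a : A}
    (ha : π (D.z a) ≠ 1) {d : ℕ} (hd : d ^ 2 < Nat.card V) : BigDeg X d := by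
  intro m σ hσ
  have hker : σ.ker = ⊥ := by
    rcases (inferInstance : σ.ker.Normal).eq_bot_or_eq_top with h1 | h1
    · exact h1
    · exfalso
      apply hσ
      ext1 t
      have : t ∈ σ.ker := by rw [h1]; trivial
      exact this
  have hinj : Function.Injective σ := (MonoidHom.ker_eq_bot_iff σ).1 hker
  let ρ : Representation ℂ D.Pg (Fin m → ℂ) := repOf (σ.comp (π.comp D.Pg.subtype))
  have hA : Finite A := Finite.of_injective D.z fun a b hab => by
    have h1 : D.z (a - b) = 1 := by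
      rw [sub_eq_add_neg, D.z_add, D.z_neg, hab, mul_inv_cancel]
    exact sub_eq_zero.1 (D.z_inj _ h1)
  have h1 := sq_le D.hyp ρ (z₀ := ⟨D.z a, D.z_mem a⟩) ⟨a, rfl⟩ (by
    intro h
    rw [show ρ ⟨D.z a, D.z_mem a⟩ = repOf (σ.comp (π.comp D.Pg.subtype)) ⟨D.z a, D.z_mem a⟩ from rfl, repOf_eq_one] at h
    exact ha (hinj (by rw [map_one]; exact h)))
  rw [D.card_QQ, D.card_ZZ, finrank_fin_fun] at h1
  have h2 : Nat.card V ≤ m ^ 2 := Nat.le_of_mul_le_mul_right h1 Nat.card_pos
  exact lt_of_pow_lt_pow_left₀ 2 (Nat.zero_le _) (hd.trans_le h2)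

end Cfsg.Agent.H715.HeisDeg
end

-- part: H727/Orth/Alt_mg
section
prune_inst 0x150041101500000000000580310020206400009000200000c90002400a01410040028140040000081000800000040000000000300000000000000400000101000880020430400000000016800084010000000000000000000000000000000000004010000
set_option linter.all false
open scoped Cfsg.Agent.FastGrp

-- part: H727/Orth/Alt
section
/-!
# The alternating groups

`evenO_alt` : `EvenO (alternatingGroup (Fin n))` for `n ≥ 5`, `n ≠ 6`, from a cycle of length `n - 2` or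
`n - 3`.
-/

set_option autoImplicit false
set_option linter.unusedSectionVars false
set_option linter.style.haveILetI false

namespace Cfsg.Agent.H727.Orth

open Cfsg Subgroup Equiv Equiv.Perm

theorem exists_cycle {n r : ℕ} (hr : 2 ≤ r) (hrn : r ≤ n) :
    ∃ y : Perm (Fin n), y.cycleType = {r} := by
  apply (Equiv.Perm.exists_with_cycleType_iff (Fin n)).2
  rw [Multiset.sum_singleton, Fintype.card_fin]
  refine ⟨hrn, fun a ha => ?_⟩
  rw [Multiset.mem_singleton] at ha
  rw [ha]
  exact hr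

theorem sign_cycle {n r : ℕ} {y : Perm (Fin n)} (hy : y.cycleType = {r}) (hodd : Odd r) : sign y = 1 := by
  rw [sign_of_cycleType, hy, Multiset.sum_singleton, Multiset.card_singleton]
  exact (hodd.add_one).neg_one_pow

/-- The centralizer of an odd cycle in the alternating group. -/
theorem card_centralizer_cycle {n r : ℕ} {y : Perm (Fin n)} (hy : y.cycleType = {r})
    (hrn : r + 2 ≤ n) (h4 : ¬ 4 ∣ (n - r).factorial * r) (hm : y ∈ alternatingGroup (Fin n)) :
    Odd (Nat.card (centralizer ({(⟨y, hm⟩ : alternatingGroup (Fin n))} : Set (alternatingGroup (Fin n))))) := by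
  classical
  have hc : Nat.card (centralizer ({y} : Set (Perm (Fin n)))) = (n - r).factorial * r := by
    rw [nat_card_centralizer, hy]
    simp only [_root_.Fintype.card_fin, _root_.Multiset.sum_singleton, _root_.Multiset.prod_singleton, _root_.Multiset.toFinset_singleton, _root_.Multiset.nodup_singleton, _root_.Finset.prod_singleton, _root_.Multiset.mem_singleton, _root_.Multiset.count_eq_one_of_mem, _root_.Nat.factorial_one, _root_.mul_one]
  set C := centralizer ({y} : Set (Perm (Fin n))) with hC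
  -- the even elements of the centralizer
  have h1 : Nat.card (centralizer ({(⟨y, hm⟩ : alternatingGroup (Fin n))} : Set (alternatingGroup (Fin n)))) =
      Nat.card ((sign.ker).subgroupOf C) := by
    refine Nat.card_congr ⟨fun u => ⟨⟨(u : alternatingGroup (Fin n)), ?_⟩, ?_⟩,
      fun u => ⟨⟨(u : C), ?_⟩, ?_⟩, fun u => ?_, fun u => ?_⟩
    · rw [hC, mem_centralizer_singleton_iff]
      exact congrArg Subtype.val (mem_centralizer_singleton_iff.1 u.2)
    · exact mem_alternatingGroup.1 (u : alternatingGroup (Fin n)).2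
    · exact mem_alternatingGroup.2 (mem_subgroupOf.1 u.2)
    · rw [mem_centralizer_singleton_iff]
      exact Subtype.ext (mem_centralizer_singleton_iff.1 (u : C).2)
    · rfl
    · rfl
  -- an odd element of the centralizer
  have hsupp : y.support.card = r := by
    rw [← sum_cycleType, hy, Multiset.sum_singleton]
  obtain ⟨a, ha, b, hb, hab⟩ : ∃ a ∈ y.supportᶜ, ∃ b ∈ y.supportᶜ, a ≠ b := by
    rw [← Finset.one_lt_card]
    rw [Finset.card_compl, hsupp, Fintype.card_fin]
    omega
  have hsw : swap a b ∈ C := by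
    rw [hC, mem_centralizer_singleton_iff]
    have hd : _root_.Equiv.Perm.Disjoint (swap a b) y := by
      rw [disjoint_iff_disjoint_support, support_swap hab]
      rw [Finset.disjoint_left]
      intro x hx
      rw [Finset.mem_insert, Finset.mem_singleton] at hx
      rcases hx with rfl | rfl
      · exact Finset.mem_compl.1 ha
      · exact Finset.mem_compl.1 hb
    exact hd.commute.eq
  have h2 : ((sign.ker).subgroupOf C).index = 2 := by
    have h3 : ((sign.ker).subgroupOf C) = (sign.comp C.subtype).ker := rfl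
    rw [h3, Subgroup.index_ker]
    have h5 : (sign.comp C.subtype).range = ⊤ := by
      rw [eq_top_iff]
      intro z _
      rcases Int.units_eq_one_or z with rfl | rfl
      · exact one_mem _
      · exact ⟨⟨swap a b, hsw⟩, sign_swap hab⟩
    rw [h5, Subgroup.card_top]
    simp
  have h3 := ((sign.ker).subgroupOf C).card_mul_index
  rw [h2, hc, ← h1] at h3
  rw [← Nat.not_even_iff_odd]
  rintro ⟨k, hk⟩
  apply h4
  rw [← h3, hk]
  exact ⟨k, by ring⟩

theorem center_alt {n : ℕ} (hn : 5 ≤ n) : center (alternatingGroup (Fin n)) = ⊥ := by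
  apply alternatingGroup.center_eq_bot
  rw [Nat.card_eq_fintype_card, Fintype.card_fin]
  omega

/-- **The alternating groups.** -/
theorem evenO_alt {n : ℕ} (hn : 5 ≤ n) (h6 : n ≠ 6) : EvenO (alternatingGroup (Fin n)) := by
  classical
  obtain ⟨r, hr3, hrn, hodd, h4⟩ : ∃ r, 3 ≤ r ∧ r + 2 ≤ n ∧ Odd r ∧ ¬ 4 ∣ (n - r).factorial * r := by
    rcases Nat.even_or_odd n with he | ho
    · refine ⟨n - 3, by obtain ⟨k, hk⟩ := he; omega, by omega, ?_, ?_⟩
      · obtain ⟨k, hk⟩ := he
        exact ⟨k - 2, by omega⟩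
      · obtain ⟨k, hk⟩ := he
        rw [show n - (n - 3) = 3 by omega, show Nat.factorial 3 = 6 from rfl]
        omega
    · refine ⟨n - 2, by omega, by omega, ?_, ?_⟩
      · obtain ⟨k, hk⟩ := ho
        exact ⟨k - 1, by omega⟩
      · obtain ⟨k, hk⟩ := ho
        rw [show n - (n - 2) = 2 by omega, show Nat.factorial 2 = 2 from rfl]
        omega
  obtain ⟨y, hy⟩ := exists_cycle (n := n) (show 2 ≤ r by omega) (by omega)
  have hm : y ∈ alternatingGroup (Fin n) := mem_alternatingGroup.2 (sign_cycle hy hodd)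
  have hsupp : y.support.card = r := by
    rw [← sum_cycleType, hy, Multiset.sum_singleton]
  have hsm : y.support.card + 2 ≤ Fintype.card (Fin n) := by
    rw [hsupp, Fintype.card_fin]
    exact hrn
  have hy1 : (⟨y, hm⟩ : alternatingGroup (Fin n)) ≠ 1 := by
    intro h
    have h1 : y = 1 := congrArg Subtype.val h
    rw [h1, cycleType_one] at hy
    exact absurd hy.symm (Multiset.singleton_ne_zero r)
  refine evenO_of_inv (center_alt hn) (y := ⟨y, hm⟩) ⟨⊥, locS_of_odd hy1 ?_
    (card_centralizer_cycle hy hrn h4 hm)⟩ fun α => ?_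
  · refine alternatingGroup.isConj_of ?_ hsm
    rw [isConj_iff_cycleType_eq]
    show y.cycleType = (y⁻¹).cycleType
    rw [cycleType_inv]
  · obtain ⟨σ, rfl⟩ := (S2119.result n (by omega) h6).2 α
    refine alternatingGroup.isConj_of ?_ hsm
    rw [isConj_iff]
    exact ⟨σ, (MulAut.conjNormal_apply σ _).symm⟩

end Cfsg.Agent.H727.Orth
end

-- part: H715/LieBase
section
/-!
# Rows of Lie type of `PartB`: the conclusion from a linear model
-/

set_option autoImplicit false
set_option linter.unusedSectionVars false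

open Module Cfsg

universe u

namespace Cfsg.Agent.H715.Lie

open Cfsg.Agent.H324.Hall

/-- `p f ≤ p ^ f` -/
theorem mul_le_pow {p f : ℕ} (hp : 2 ≤ p) (hf : 1 ≤ f) : p * f ≤ p ^ f := by
  obtain ⟨k, rfl⟩ : ∃ k, f = k + 1 := ⟨f - 1, by omega⟩
  rw [pow_succ, mul_comm]
  exact Nat.mul_le_mul_right _ (by
    have h1 : k + 1 ≤ 2 ^ k := Nat.lt_two_pow_self
    exact h1.trans (Nat.pow_le_pow_left hp k))

theorem three_mul_le {p f : ℕ} (hp : 3 ≤ p) (hf : 1 ≤ f) : 3 * f ≤ p ^ f :=
  (Nat.mul_le_mul_right _ hp).trans (mul_le_pow (by omega) hf)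

/-- Characteristic and degree. -/
theorem exists_f {F : Type*} [Field F] [Fintype F] {p : ℕ} [CharP F p] (hp : p.Prime) :
    ∃ f : ℕ, 1 ≤ f ∧ Fintype.card F = p ^ f := by
  obtain ⟨n, -, h⟩ := FiniteField.card F p
  exact ⟨n, n.pos, h⟩

section

variable {T : Type u} [Group T] [Finite T] [IsSimpleGroup T] {Y : Subgroup T} {n : ℕ} {S : Type u} [Group S]
  [IsSimpleGroup S] {A : Subgroup (MulAut T)}

/-- The conclusion from an isomorphism of `T` with a linear group. -/
theorem goal_of_sub (f : Frame T Y n S A) {ι : Type*} [Fintype ι] [DecidableEq ι] {F : Type*} [Field F] [Finite F]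
    {p : ℕ} [CharP F p] (hp : p.Prime) (hpY : ¬ p ∣ Nat.card Y) (X : Subgroup (Matrix.GeneralLinearGroup ι F))
    (e : T ≃* X) {o : ℕ} (ho : OutLe X o) (hb : BigDeg X (o * Fintype.card ι)) : Goal Y A f.conj_mem := by
  let φ : Representation F X (ι → F) :=
    { toFun := fun x => Matrix.toLin' ((x : Matrix.GeneralLinearGroup ι F) : Matrix ι ι F)
      map_one' := by
        rw [Subgroup.coe_one, Units.val_one, Matrix.toLin'_one]
        rfl
      map_mul' := fun x y => by
        rw [Subgroup.coe_mul, Units.val_mul, Matrix.toLin'_mul]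
        rfl }
  obtain ⟨a, b, hab⟩ := f.nc
  refine f.goal_of_rep e hp hpY φ ?_ ho (by rwa [Module.finrank_fintype_fun_eq_card])
  by_contra hcon
  push Not at hcon
  have h1 : ∀ x : X, x = 1 := by
    intro x
    have h2 : Matrix.toLin' ((x : Matrix.GeneralLinearGroup ι F) : Matrix ι ι F) = Matrix.toLin' 1 := by
      rw [Matrix.toLin'_one]
      exact hcon x
    exact Subtype.ext (Units.ext (Matrix.toLin'.injective h2))
  exact hab (e.injective ((h1 (e (a * b))).trans (h1 (e (b * a))).symm))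

end

theorem bigDeg_of_bound {X : Type*} [Group X] [Finite X] [IsSimpleGroup X] (hX : ∃ a b : X, a * b ≠ b * a) {d D : ℕ}
    (h : ∀ (k : ℕ) (ρ : Representation ℂ X (Fin k → ℂ)), ρ.IsIrreducible → 2 ≤ k → D ≤ k) (hd : d < D) : BigDeg X d :=
  bigDeg_of_irr (commutator_eq_top hX) (MonoidHom.id X) (exists_ne (1 : X)) fun k ρ hρ hk =>
    lt_of_lt_of_le hd (h k ρ hρ hk)

end Cfsg.Agent.H715.Lie
end

-- part: H715/HeisF4
section
/-!
# The special group `q^{1+8}` of the long roots in `F₄(q)`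
-/

set_option autoImplicit false

namespace Cfsg.Agent.H715.HeisF4

open Cfsg.Lie Cfsg.Agent.ChevalleyStructure.Elts Cfsg.Agent.H934.HeisRoot Cfsg.Agent.H934.HeisChev

/-- list look-up -/
def at' {α : Type} (d : α) : List α → ℕ → α
  | [], _ => d
  | a :: _, 0 => a
  | _ :: l, n + 1 => at' d l n

/-- decode: 0 is `none` -/
def dec8 (a : ℕ) : Option (Fin 8) := if h : 1 ≤ a ∧ a ≤ 8 then some ⟨a - 1, by omega⟩ else none

/-- The tables of the long roots of `F₄`. -/
def tab : HTab 8 6 where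
  S := fun i => at' 0 [24, 26, 31, 32, 42, 43, 45, 46] i
  th := 47
  B := fun i => at' 0 [25, 30, 41, 22, 17, 6] i
  opp := fun i => ⟨7 - i, by omega⟩
  e := fun i => at' 0 [-1, -1, 1, -1, 1, -1, 1, 1] i
  next := fun b i => dec8 (at' 0 (at' [] [[2, 0, 4, 0, 6, 0, 8, 0], [3, 4, 0, 0, 7, 8, 0, 0], [5, 6, 7, 8, 0, 0, 0, 0],
    [0, 1, 0, 3, 0, 5, 0, 7], [0, 0, 1, 2, 0, 0, 5, 6], [0, 0, 0, 0, 1, 2, 3, 4]] b) i)
  cc := fun b i => at' 0 (at' [] [[1, 1, -1, 1, -1, 1, -1, 1], [1, -1, 1, 1, 1, 1, 1, 1], [1, -1, 1, 1, 1, 1, 1, 1],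
    [1, 1, 1, -1, 1, -1, 1, -1], [1, 1, 1, -1, 1, 1, 1, 1], [1, 1, 1, 1, 1, -1, 1, 1]] b) i
  ng := fun b => ⟨((b : ℕ) + 3) % 6, Nat.mod_lt _ (by norm_num)⟩
  p := 3

/-- path from the vertex `i` to the vertex `j` of the cube -/
def path (i j : Fin 8) : List (Fin 6) :=
  (if i.val % 2 = 0 ∧ j.val % 2 = 1 then [0] else if i.val % 2 = 1 ∧ j.val % 2 = 0 then [3] else []) ++
  (if i.val / 2 % 2 = 0 ∧ j.val / 2 % 2 = 1 then [1] else if i.val / 2 % 2 = 1 ∧ j.val / 2 % 2 = 0 then [4] else []) ++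
  (if i.val / 4 = 0 ∧ j.val / 4 = 1 then [2] else if i.val / 4 = 1 ∧ j.val / 4 = 0 then [5] else [])

theorem tab_ok : tab.Ok chevF4 where
  S_lt := by decide +kernel
  th_lt := by decide +kernel
  B_lt := by decide +kernel
  th_ne := by decide +kernel
  th_ne' := by decide +kernel
  S_ne := by decide +kernel
  opp_ne := by decide +kernel
  opp_opp := by decide +kernel
  e_sq := by decide +kernel
  B_ne := by decide +kernel
  c_sq := by decide +kernel
  B_comm := by decide +kernel
  ng_spec := by decide +kernel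
  p_lt := by decide +kernel
  p_th := by decide +kernel
  iso := fun i => ⟨path i (tab.opp i), tab.opp i, by revert i; decide +kernel⟩
  conn := fun i j => ⟨path i j, by revert i j; decide +kernel⟩

theorem hD : InList chevF4 := by simp [InList]

end Cfsg.Agent.H715.HeisF4
end

-- part: H715/HeisDegTw
section
/-!
# Degrees of complex representations of `²E₆(q)`
-/

set_option autoImplicit false
set_option linter.unusedSectionVars false

open Module

namespace Cfsg.Agent.H715.HeisDeg

open Cfsg.Agent.H934.Heis Cfsg.Agent.H934.HeisData Cfsg.Agent.H934.HeisRoot Cfsg.Agent.H934.HeisTw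
  Cfsg.Agent.H324.Hall

section

variable {Γ V A K : Type*} [Group Γ] [AddCommGroup V] [AddCommGroup A] {D : Data Γ V A K} {σ : Γ →* Γ}
  {G : Subgroup Γ} {φ : A → A} {sV : V → V}

theorem card_Zg_le (T : TwData D σ G φ sV) [Finite A] :
    Nat.card (D.Zg.subgroupOf (TwData.Q0 D G)) ≤ Nat.card {a : A // φ a = a} := by
  choose f hf using fun z : D.Zg.subgroupOf (TwData.Q0 D G) => z.2
  refine Nat.card_le_card_of_injective
    (fun z => (⟨f z, T.fix_z (a := f z) (by
      have h1 : D.z (f z) = ((z : TwData.Q0 D G) : Γ) := hf z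
      rw [h1]
      exact (z : TwData.Q0 D G).2.1)⟩ : {a : A // φ a = a})) ?_
  intro z w h
  have h1 : f z = f w := congrArg Subtype.val h
  have h2 : D.z (f z) = ((z : TwData.Q0 D G) : Γ) := hf z
  have h3 : D.z (f w) = ((w : TwData.Q0 D G) : Γ) := hf w
  apply Subtype.ext
  apply Subtype.ext
  rw [← h2, ← h3, h1]

theorem bigDeg_of_tw [Finite Γ] [Nontrivial A] (T : TwData D σ G φ sV) {X0 : Type*} [Group X0] [IsSimpleGroup X0]
    (π : G →* X0) {a0 : A} (h0 : φ a0 = a0) (ha0 : π ⟨D.z a0, T.z_mem a0 h0⟩ ≠ 1) {d : ℕ}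
    (hd : d ^ 2 < Nat.card {v : V // sV v = v}) : BigDeg X0 d := by
  have hA : Finite A := Finite.of_injective D.z fun a b hab => z_injective D hab
  intro m τ hτ
  have hker : τ.ker = ⊥ := by
    rcases (inferInstance : τ.ker.Normal).eq_bot_or_eq_top with h1 | h1
    · exact h1
    · exfalso
      apply hτ
      ext1 t
      have : t ∈ τ.ker := by rw [h1]; trivial
      exact this
  have hinj : Function.Injective τ := (MonoidHom.ker_eq_bot_iff τ).1 hker
  let ρ : Representation ℂ (TwData.Q0 D G) (Fin m → ℂ) :=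
    repOf (τ.comp (π.comp (Subgroup.inclusion (TwData.Q0_le (D := D) (G := G)))))
  have hmem : (⟨D.z a0, T.z_mem a0 h0, D.z_mem_Qg a0⟩ : TwData.Q0 D G) ∈ D.Zg.subgroupOf (TwData.Q0 D G) := ⟨a0, rfl⟩
  have h1 := sq_le T.hyp ρ hmem (by
    intro h
    have h2 := (repOf_eq_one (τ.comp (π.comp (Subgroup.inclusion (TwData.Q0_le (D := D) (G := G))))) _).1 h
    exact ha0 (hinj (by rw [map_one]; exact h2)))
  rw [finrank_fin_fun] at h1
  have h2 := T.card_Q.trans (h1.trans (Nat.mul_le_mul_left _ (card_Zg_le T)))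
  have hne : Nonempty {a : A // φ a = a} := ⟨⟨a0, h0⟩⟩
  have h3 : Nat.card {v : V // sV v = v} ≤ m ^ 2 := Nat.le_of_mul_le_mul_right h2 Nat.card_pos
  exact lt_of_pow_lt_pow_left₀ 2 (Nat.zero_le _) (hd.trans_le h3)

end

section

variable {F Γ ι κ : Type*} [Field F] [Fintype F] [Group Γ] [Fintype ι] [DecidableEq ι] (R : RH Γ F ι κ)

/-- The bound for root elements over a finite field. -/
theorem bigDeg_final [Finite Γ] (σ : Γ →* Γ) (G : Subgroup Γ) (φ : F →+* F) (ρ : Equiv.Perm ι) (ε : ι → F) {q n : ℕ}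
    (hq : 1 < q) (hn : 1 < n) (hφ : ∀ x, φ x = x ^ q) (hF : Fintype.card F = q ^ n)
    (sig_x : ∀ i t, σ (R.x i t) = R.x (ρ i) (ε i * φ t)) (sig_z : ∀ t, σ (R.z t) = R.z (φ t))
    (fix : ∀ g ∈ G, σ g = g) (z_mem : ∀ a, φ a = a → R.z a ∈ G)
    (hVn : ∀ v, (sV φ ρ ε)^[n] v = v)
    (lift0 : ∀ i t, ∃ a, R.X (tr (sV φ ρ ε) n (Pi.single i t)) * R.z a ∈ G)
    {X0 : Type*} [Group X0] [IsSimpleGroup X0]
    (π : G →* X0) (hπ : Function.Injective π) {d : ℕ} (hd : d ^ 2 < q ^ Fintype.card ι) : BigDeg X0 d := by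
  obtain ⟨b, hb⟩ := exists_distinct hq hn hφ hF
  obtain ⟨b0, hb0⟩ := exists_tr_one (by omega) hb (iterate_frob_n hφ hF)
  have T := of_trace R σ G φ ρ ε n sig_x sig_z fix z_mem hVn hb0 lift0
  have h1 : φ 1 = 1 := map_one φ
  have hc2 : q ^ Fintype.card ι ≤ Nat.card {v : ι → F // sV φ ρ ε v = v} := by
    have h3 := card_le_pow (M := ι → F) (by omega) hb (s := sV φ ρ ε) (sV_smul φ ρ ε) hVn
    rw [Nat.card_fun, Nat.card_eq_fintype_card (α := F), Nat.card_eq_fintype_card (α := ι), hF, ← pow_mul, mul_comm,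
      pow_mul] at h3
    exact le_of_pow_le_pow_left₀ (by omega) (by omega) h3
  refine bigDeg_of_tw T π h1 (fun h => ?_) (hd.trans_le hc2)
  have h3 : (⟨R.z 1, z_mem 1 h1⟩ : G) = 1 := hπ (by rw [map_one]; exact h)
  exact one_ne_zero (R.z_inj 1 (congrArg Subtype.val h3))

end

section

open Cfsg.Lie
open Cfsg.Agent.ChevalleyStructure
open Cfsg.Agent.ChevalleyStructure.Elts hiding x_add x_zero x_eq_one_iff
open Cfsg.Agent.ChevalleyStructure.TwE6Basic
open Cfsg.Agent.ChevalleyStructure.TwE6BN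
open Cfsg.Agent.H934.HeisTwE6

universe u

/-- **The bound for `²E₆(q)`.** -/
theorem bigDeg_2E6 {K : Type u} [Field K] [Fintype K] {q : ℕ} (hq : IsPrimePow q) (hK : Fintype.card K = q ^ 2)
    [hs : IsSimpleGroup ↥(Cfsg.Lie.twistedE6 K q)] {d : ℕ} (hd : d ^ 2 < q ^ 20) :
    BigDeg ↥(Cfsg.Lie.twistedE6 K q) d := by
  classical
  obtain ⟨φ, hφ, hqq⟩ := exists_frob hq hK
  have : Finite (GL chevE6.Idx K) := inferInstance
  exact bigDeg_final (R K) (sg φ) (twistedE6 K q) φ rhoI (fun i => (eps i : K)) hq.one_lt (n := 2) (by norm_num) hφ hK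
    (sig_R φ) (sig_z φ) (fun g hg => twisted_le_fix φ hφ hqq hg) (z_mem hφ hqq)
    (sV_two fun t => by rw [hφ, hφ, hqq])
    (fun i t => lift_two (R K) (lift hφ hqq i t)) (MonoidHom.id _) Function.injective_id (by rwa [Fintype.card_fin])

end

end Cfsg.Agent.H715.HeisDeg
end

-- part: H715/LieExc
section
/-!
# Rows of Lie type of `PartB`: the exceptional groups in odd characteristic not dividing `|Y|`
-/

set_option autoImplicit false
set_option linter.unusedSectionVars false

open Module Cfsg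

universe u

namespace Cfsg.Agent.H715.Lie

open Cfsg.Agent.H324.Hall Cfsg.Agent.H715.HeisDeg Cfsg.Lie Cfsg.Agent.H934.HeisRoot Cfsg.Agent.H934.HeisChev
  Cfsg.Agent.ChevalleyStructure.Elts

/-- Degrees of a Chevalley group with a special group of root elements. -/
theorem bigDeg_tab {D : ChevalleyDatum} (hD : InList D) {n k : ℕ} (T : HTab n k) (ok : T.Ok D) {F : Type*} [Field F]
    [Fintype F] [IsSimpleGroup ↥(D.group F)] {d : ℕ} (hd : d ^ 2 < Fintype.card F ^ n) : BigDeg ↥(D.group F) d := by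
  classical
  have : Finite (Matrix.GeneralLinearGroup D.Idx F) := inferInstance
  refine bigDeg_of_data (T.rh hD ok F).toData (MonoidHom.id ↥(D.group F)) (a := (1 : F)) ?_ ?_
  · intro h
    exact one_ne_zero (xe_eq_one hD ok.th_lt h)
  · rwa [Nat.card_fun, Nat.card_eq_fintype_card (α := F), Nat.card_eq_fintype_card (α := Fin n), Fintype.card_fin]

theorem sq_lt {c p f n : ℕ} (hc : c ^ 2 < 3 ^ n) (h2 : 2 ≤ n) (hp : 3 ≤ p) (hf : 1 ≤ f) :
    (c * f) ^ 2 < (p ^ f) ^ n := by
  have h1 := three_mul_le hp hf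
  have h3 : 3 ≤ p ^ f := by omega
  have h4 : c ^ 2 * (3 * f) ^ 2 < 3 ^ n * (p ^ f) ^ 2 := by
    calc c ^ 2 * (3 * f) ^ 2 ≤ c ^ 2 * (p ^ f) ^ 2 := Nat.mul_le_mul_left _ (Nat.pow_le_pow_left h1 2)
      _ < 3 ^ n * (p ^ f) ^ 2 := Nat.mul_lt_mul_of_pos_right hc (by positivity)
  obtain ⟨m, rfl⟩ : ∃ m, n = m + 2 := ⟨n - 2, by omega⟩
  have h5 : 3 ^ m * (p ^ f) ^ 2 ≤ (p ^ f) ^ (m + 2) := by
    rw [pow_add (p ^ f)]
    exact Nat.mul_le_mul_right _ (Nat.pow_le_pow_left h3 m)
  have h6 : 9 * (c * f) ^ 2 < 9 * (3 ^ m * (p ^ f) ^ 2) := by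
    calc 9 * (c * f) ^ 2 = c ^ 2 * (3 * f) ^ 2 := by ring
      _ < 3 ^ (m + 2) * (p ^ f) ^ 2 := h4
      _ = _ := by ring
  omega

section

variable {T : Type u} [Group T] [Finite T] [IsSimpleGroup T] {Y : Subgroup T} {n : ℕ} {S : Type u} [Group S]
  [IsSimpleGroup S] {A : Subgroup (MulAut T)}

theorem simple_of {X : Type*} [Group X] (e : T ≃* X) : IsSimpleGroup X :=
  have : Nontrivial X := e.symm.toEquiv.nontrivial
  IsSimpleGroup.isSimpleGroup_of_surjective e.toMonoidHom e.surjective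

theorem nc_of {X : Type*} [Group X] (e : T ≃* X) (h : ∃ a b : T, a * b ≠ b * a) : ∃ a b : X, a * b ≠ b * a := by
  obtain ⟨a, b, hab⟩ := h
  exact ⟨e a, e b, fun h => hab (e.injective (by rw [map_mul, map_mul, h]))⟩

variable {p : ℕ} (hp : p.Prime) (hp3 : 3 ≤ p) (hpY : ¬ p ∣ Nat.card Y)

include hp hp3 hpY

theorem row_e8 (f : Frame T Y n S A) {F : Type} [Field F] [Fintype F] [CharP F p] (e : T ≃* chevE8.group F) :
    Goal Y A f.conj_mem := by
  obtain ⟨d, hd, hF⟩ := exists_f (F := F) hp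
  have := Fact.mk hp
  have hs := simple_of e
  refine goal_of_sub f hp hpY _ e (o := d) (le_of_eq (Cfsg.Agent.S2125.result p d hF)) ?_
  refine bigDeg_tab Cfsg.Agent.H934.HeisE8.hD Cfsg.Agent.H934.HeisE8.tab Cfsg.Agent.H934.HeisE8.tab_ok ?_
  have h1 : Fintype.card chevE8.Idx = 248 := by
    rw [Fintype.card_sum, Fintype.card_fin, Fintype.card_fin]; rfl
  rw [h1, hF, mul_comm]
  exact sq_lt (by norm_num) (by norm_num) hp3 hd

theorem row_e7 (f : Frame T Y n S A) {F : Type} [Field F] [Fintype F] [CharP F p] (e : T ≃* chevE7.group F) :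
    Goal Y A f.conj_mem := by
  obtain ⟨d, hd, hF⟩ := exists_f (F := F) hp
  have := Fact.mk hp
  have hs := simple_of e
  refine goal_of_sub f hp hpY _ e (o := 2 * d) ?_ ?_
  · refine (le_of_eq (Cfsg.Agent.S2124.result p d hF)).trans ?_
    exact Nat.mul_le_mul_right _ (Nat.le_of_dvd (by norm_num) (Nat.gcd_dvd_left 2 (p ^ d - 1)))
  refine bigDeg_tab Cfsg.Agent.H934.HeisE7.hD Cfsg.Agent.H934.HeisE7.tab Cfsg.Agent.H934.HeisE7.tab_ok ?_
  have h1 : Fintype.card chevE7.Idx = 133 := by
    rw [Fintype.card_sum, Fintype.card_fin, Fintype.card_fin]; rfl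
  rw [h1, hF, show 2 * d * 133 = 266 * d by ring]
  exact sq_lt (by norm_num) (by norm_num) hp3 hd

theorem row_e6 (f : Frame T Y n S A) {F : Type} [Field F] [Fintype F] [CharP F p] (e : T ≃* chevE6.group F) :
    Goal Y A f.conj_mem := by
  obtain ⟨d, hd, hF⟩ := exists_f (F := F) hp
  have := Fact.mk hp
  have hs := simple_of e
  refine goal_of_sub f hp hpY _ e (o := 6 * d) ?_ ?_
  · refine (le_of_eq (Cfsg.Agent.S2123.result p d hF)).trans ?_
    apply Nat.mul_le_mul_right
    have := Nat.le_of_dvd (by norm_num) (Nat.gcd_dvd_left 3 (p ^ d - 1))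
    omega
  refine bigDeg_tab Cfsg.Agent.H934.HeisE6.hD Cfsg.Agent.H934.HeisE6.tab Cfsg.Agent.H934.HeisE6.tab_ok ?_
  have h1 : Fintype.card chevE6.Idx = 78 := by
    rw [Fintype.card_sum, Fintype.card_fin, Fintype.card_fin]; rfl
  rw [h1, hF, show 6 * d * 78 = 468 * d by ring]
  exact sq_lt (by norm_num) (by norm_num) hp3 hd

theorem row_f4 (f : Frame T Y n S A) {F : Type} [Field F] [Fintype F] [CharP F p] (e : T ≃* chevF4.group F) :
    Goal Y A f.conj_mem := by
  obtain ⟨d, hd, hF⟩ := exists_f (F := F) hp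
  have := Fact.mk hp
  have hs := simple_of e
  refine goal_of_sub f hp hpY _ e (o := d) ?_ ?_
  · refine (le_of_eq (Cfsg.Agent.S2122.result p d hF)).trans ?_
    have h1 : Nat.gcd 2 p = 1 := by
      rw [← Nat.coprime_iff_gcd_eq_one, Nat.coprime_primes Nat.prime_two hp]
      omega
    rw [h1, one_mul]
  refine bigDeg_tab HeisF4.hD HeisF4.tab HeisF4.tab_ok ?_
  have h1 : Fintype.card chevF4.Idx = 52 := by
    rw [Fintype.card_sum, Fintype.card_fin, Fintype.card_fin]; rfl
  rw [h1, hF, mul_comm]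
  exact sq_lt (by norm_num) (by norm_num) hp3 hd

theorem row_2e6 (f : Frame T Y n S A) {K : Type} [Field K] [Fintype K] [CharP K p] {q : ℕ} (hq : IsPrimePow q)
    (hK : Fintype.card K = q ^ 2) (e : T ≃* twistedE6 K q) : Goal Y A f.conj_mem := by
  obtain ⟨d, hd, hF⟩ := exists_f (F := K) hp
  have := Fact.mk hp
  have hs := simple_of e
  obtain ⟨p', d', hp', hd', rfl⟩ := hq
  have hp'' := Nat.prime_iff.2 hp'
  have hpp : p' = p := by
    have h1 : p' ∣ p ^ d := by
      rw [← hF, hK, ← pow_mul]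
      exact dvd_pow_self _ (by positivity)
    exact (Nat.prime_dvd_prime_iff_eq hp'' hp).1 (hp''.dvd_of_dvd_pow h1)
  subst hpp
  have hK' : Fintype.card K = p' ^ (2 * d') := by rw [hK, ← pow_mul, mul_comm]
  refine goal_of_sub f hp hpY _ e (o := 6 * d') ?_ ?_
  · refine (le_of_eq (Cfsg.Agent.S2130.result p' d' hK' hd')).trans ?_
    apply Nat.mul_le_mul_right
    have := Nat.le_of_dvd (by norm_num) (Nat.gcd_dvd_left 3 (p' ^ d' + 1))
    omega
  refine bigDeg_2E6 (hp''.isPrimePow.pow (by omega)) hK ?_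
  have h1 : Fintype.card chevE6.Idx = 78 := by
    rw [Fintype.card_sum, Fintype.card_fin, Fintype.card_fin]; rfl
  rw [h1, show 6 * d' * 78 = 468 * d' by ring]
  exact sq_lt (by norm_num) (by norm_num) hp3 hd'

theorem row_3d4 (f : Frame T Y n S A) {K : Type} [Field K] [Fintype K] [CharP K p] {q : ℕ} (hq : IsPrimePow q)
    (hK : Fintype.card K = q ^ 3) (e : T ≃* twistedD4 K q) : Goal Y A f.conj_mem := by
  obtain ⟨d, hd, hF⟩ := exists_f (F := K) hp
  have := Fact.mk hp
  have hs := simple_of e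
  have hX := nc_of e f.nc
  have hfin : Finite ↥(twistedD4 K q) := Finite.of_equiv T e.toEquiv
  have hbd := Cfsg.Agent.S2342.result q hq hK
  obtain ⟨p', d', hp', hd', rfl⟩ := hq
  have hp'' := Nat.prime_iff.2 hp'
  have hpp : p' = p := by
    have h1 : p' ∣ p ^ d := by
      rw [← hF, hK, ← pow_mul]
      exact dvd_pow_self _ (by positivity)
    exact (Nat.prime_dvd_prime_iff_eq hp'' hp).1 (hp''.dvd_of_dvd_pow h1)
  subst hpp
  have hK' : Fintype.card K = p' ^ (3 * d') := by rw [hK, ← pow_mul, mul_comm]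
  refine goal_of_sub f hp hpY _ e (o := 3 * d') (le_of_eq (Cfsg.Agent.S2129.result p' d' hK' hd')) ?_
  refine bigDeg_of_bound hX hbd ?_
  have h1 : Fintype.card chevD4.Idx = 28 := by
    rw [Fintype.card_sum, Fintype.card_fin, Fintype.card_fin]; rfl
  rw [h1]
  have h2 := three_mul_le hp3 hd'
  set q := p' ^ d' with hq
  have h3 : 3 ≤ q := by omega
  have h4 : 28 < q ^ 4 - q ^ 2 + 1 := by
    have h5 : q ^ 4 = q ^ 2 * q ^ 2 := by ring
    have h6 : 9 ≤ q ^ 2 := by nlinarith only [hd', h2]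
    have h7 : q ^ 2 + 72 ≤ q ^ 4 := by rw [h5]; nlinarith only [h6]
    omega
  calc 3 * d' * 28 ≤ q * 28 := Nat.mul_le_mul_right _ h2
    _ < _ := Nat.mul_lt_mul_of_pos_left h4 (by omega)

end

section

variable {T : Type u} [Group T] [Finite T] [IsSimpleGroup T] {Y : Subgroup T} {n : ℕ} {S : Type u} [Group S]
  [IsSimpleGroup S] {A : Subgroup (MulAut T)}

theorem row_ree (hpY : ¬ 3 ∣ Nat.card Y) (f : Frame T Y n S A) (h : Cfsg.Lie.IsoRee T) : Goal Y A f.conj_mem := by
  obtain ⟨K, _, _, m, hm, hK, ⟨e⟩⟩ := h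
  have := Fact.mk Nat.prime_three
  have : CharP K 3 := charP_of_card_eq_prime_pow hK
  have hs := simple_of e
  have hX := nc_of e f.nc
  have hfin : Finite ↥(twistedG2 K (3 ^ m)) := Finite.of_equiv T e.toEquiv
  have hbd := Cfsg.Agent.S2343.result m hm hK
  refine goal_of_sub f Nat.prime_three hpY _ e (o := 2 * m + 1) (le_of_eq (Cfsg.Agent.S2127.result hm hK)) ?_
  refine bigDeg_of_bound hX hbd ?_
  have h1 : Fintype.card chevG2.Idx = 14 := by
    rw [Fintype.card_sum, Fintype.card_fin, Fintype.card_fin]; rfl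
  rw [h1]
  have h2 : 3 * (2 * m + 1) ≤ 3 ^ (2 * m + 1) := three_mul_le le_rfl (by omega)
  have h27 : 27 ≤ 3 ^ (2 * m + 1) := by
    calc 27 = 3 ^ 3 := by norm_num
      _ ≤ _ := Nat.pow_le_pow_right (by norm_num) (by omega)
  set q := 3 ^ (2 * m + 1) with hq
  have h5 : 27 * q ≤ q ^ 2 := by rw [pow_two]; exact Nat.mul_le_mul_right _ h27
  omega

end

/-! ### `G₂(q)` -/

section

open Cfsg.Agent.H161.Oct

/-- the homomorphism from `SL₃(q)` -/
noncomputable def slG2 (F : Type*) [Field F] : Matrix.SpecialLinearGroup (Fin 3) F →* ↥(Cfsg.Lie.G2 F) where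
  toFun P := ⟨(toE F).symm (slM F P), by
    rw [← toE_mem, MulEquiv.apply_symm_apply]; exact slM_mem P⟩
  map_one' := by
    apply Subtype.ext
    show (toE F).symm (slM F 1) = 1
    rw [map_one, map_one]
  map_mul' P Q := by
    apply Subtype.ext
    show (toE F).symm (slM F (P * Q)) = (toE F).symm (slM F P) * (toE F).symm (slM F Q)
    rw [map_mul, map_mul]

theorem slG2_inj (F : Type*) [Field F] : Function.Injective (slG2 F) := by
  intro P Q h
  have h1 : (toE F).symm (slM F P) = (toE F).symm (slM F Q) := congrArg Subtype.val h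
  exact slM_inj ((toE F).symm.injective h1)

theorem bigDeg_g2 {F : Type*} [Field F] [Fintype F] (h3 : 3 ≤ Fintype.card F) (h4 : Fintype.card F ≠ 4)
    [IsSimpleGroup ↥(Cfsg.Lie.G2 F)] {d : ℕ} (hd : d < Fintype.card F ^ 2 + Fintype.card F) :
    BigDeg ↥(Cfsg.Lie.G2 F) d := by
  classical
  have hbd := (Cfsg.Agent.S2332.result (F := F) 3 le_rfl ⟨by simp; omega, by simpa using h4, by simp, by simp⟩).1
  have hperf : commutator (Matrix.SpecialLinearGroup (Fin 3) F) = ⊤ := Cfsg.Agent.S0248.result 3 le_rfl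
  obtain ⟨P, hP⟩ : ∃ P : Matrix.SpecialLinearGroup (Fin 3) F, P ≠ 1 := by
    refine ⟨⟨Matrix.transvection 0 1 1, Matrix.det_transvection_of_ne _ _ (by decide) _⟩, fun h => ?_⟩
    have h1 := congrFun (congrFun (congrArg Subtype.val h) 0) 1
    simp [Matrix.transvection] at h1
  refine bigDeg_of_irr hperf (slG2 F) ⟨P, fun h => hP (slG2_inj F (by rw [h, map_one]))⟩ fun k ρ hρ hk => ?_
  refine hd.trans_le (le_trans ?_ (hbd k ρ hρ hk))
  rw [Nat.le_div_iff_mul_le (by omega)]
  obtain ⟨q, hq⟩ : ∃ q, Fintype.card F = q + 1 := ⟨Fintype.card F - 1, by omega⟩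
  rw [hq, Nat.add_sub_cancel]
  have : (q + 1) ^ 3 = ((q + 1) ^ 2 + (q + 1)) * q + (q + 1) := by ring
  omega

end

section

variable {T : Type u} [Group T] [Finite T] [IsSimpleGroup T] {Y : Subgroup T} {n : ℕ} {S : Type u} [Group S]
  [IsSimpleGroup S] {A : Subgroup (MulAut T)}

theorem row_g2 {p : ℕ} (hp : p.Prime) (hp3 : 3 ≤ p) (hpY : ¬ p ∣ Nat.card Y) (tab : OrdDiv.OrderTable.{u})
    (hS : IsKnownSimple' S) (f : Frame T Y n S A) {F : Type} [Field F] [Fintype F] [CharP F p]
    (e : T ≃* chevG2.group F) : Goal Y A f.conj_mem := by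
  obtain ⟨d, hd, hF⟩ := exists_f (F := F) hp
  have := Fact.mk hp
  have h0 := three_mul_le hp3 hd
  have h3 : 3 ≤ p ^ d := by omega
  by_cases hq3 : Fintype.card F = 3
  · exfalso
    have hN : Nat.card T = 4245696 := by
      rw [Nat.card_congr e.toEquiv, tab.g2 F, hq3]
      norm_num
    exact f.false_of_nil tab hS hN [(2, 6), (3, 6), (7, 1), (13, 1)] (by decide +kernel) (by norm_num)
      (by decide +kernel)
  have hout := Cfsg.Agent.S2121.result p d hF h3
  obtain ⟨e'⟩ := Cfsg.Agent.H638.G2Iso.equiv (F := F)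
  have e2 : T ≃* ↥(Cfsg.Lie.G2 F) := e.trans e'.symm
  have hs := simple_of e2
  refine goal_of_sub f hp hpY _ e2 (o := if p = 3 then 2 * d else d) (OutLe.congr e' (le_of_eq hout)) ?_
  rw [Fintype.card_fin]
  have hodd : Odd p := hp.odd_of_ne_two (by omega)
  have hoq : Odd (Fintype.card F) := by rw [hF]; exact hodd.pow
  refine bigDeg_g2 (by rw [hF]; exact h3) (by rintro h; rw [h] at hoq; exact absurd hoq (by decide)) ?_
  rw [hF] at hq3 hoq ⊢
  have h5 : 5 ≤ p ^ d := by
    obtain ⟨k, hk⟩ := hoq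
    omega
  have h6 : (if p = 3 then 2 * d else d) ≤ 2 * d := by split_ifs <;> omega
  set q := p ^ d with hq
  have h7 : 5 * q ≤ q ^ 2 := by rw [pow_two]; exact Nat.mul_le_mul_right _ h5
  have h8 : (if p = 3 then 2 * d else d) * 8 ≤ 2 * d * 8 := Nat.mul_le_mul_right _ h6
  omega

end

end Cfsg.Agent.H715.Lie
end

-- part: H612/DegEight
section
/-!
# Degrees of the simple groups of Lie type of odd characteristic

`bigDeg_lie` : a simple group of Lie type of odd characteristic other than `PSL(2, q)` and of order different from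
`25920` and `6048` has no nontrivial complex representation of degree `≤ 7`.
`deg_ge` : hence its nonprincipal irreducible characters have degree at least `8`.
-/

set_option autoImplicit false
set_option linter.unusedSectionVars false
set_option maxRecDepth 100000

open Module Cfsg

namespace Cfsg.Agent.H612.DegEight

open Cfsg.Agent.LieClassical.OrthCore Cfsg.Agent.LieClassical.OrthTrans
  Cfsg.Agent.LieClassical.OrthFinite Cfsg.Agent.LieClassical.OrthForms
  Cfsg.Agent.H122.OrthWt Cfsg.Agent.H122.OrthRep Cfsg.Agent.H122.OrthStep Cfsg.Agent.H122.OrthIso Cfsg.Agent.H122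
open Cfsg.Agent.OrdDiv Cfsg.Agent.H324.Hall Cfsg.Agent.H715.HeisDeg Cfsg.Lie Cfsg.Agent.H715.Lie Cfsg.Agent.H715

universe u v

variable {T : Type u} [Group T] [Finite T] [IsSimpleGroup T]

theorem exists_quot {Γ : Type v} [Group Γ] (e : T ≃* Γ ⧸ Subgroup.center Γ) :
    ∃ φ : Γ →* T, Function.Surjective φ ∧ (∃ g, φ g ≠ 1) ∧ φ.ker ≤ Subgroup.center Γ := by
  have hs : Function.Surjective (e.symm.toMonoidHom.comp (QuotientGroup.mk' (Subgroup.center Γ))) :=
    e.symm.surjective.comp (QuotientGroup.mk'_surjective _)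
  refine ⟨_, hs, ?_, fun g hg => ?_⟩
  · obtain ⟨t, ht⟩ := _root_.exists_ne (1 : T)
    obtain ⟨g, hg⟩ := hs t
    exact ⟨g, by rw [hg]; exact ht⟩
  · have h2 : e.symm (QuotientGroup.mk g) = 1 := hg
    rw [EmbeddingLike.map_eq_one_iff] at h2
    exact (QuotientGroup.eq_one_iff g).1 h2

theorem ringChar_ne {F : Type*} [Field F] [Fintype F] {p : ℕ} (hp : p.Prime) [CharP F p] :
    ringChar ℂ ≠ ringChar F := by
  rw [ringChar.eq F p, ringChar.eq_zero]
  exact hp.ne_zero.symm

variable {p : ℕ} (hp : p.Prime) (hp2 : p ≠ 2)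

include hp hp2

theorem odd_card {F : Type*} [Field F] [Fintype F] [CharP F p] : Odd (Fintype.card F) := by
  obtain ⟨a, ha, hF⟩ := exists_pow F p
  rw [hF]
  exact Odd.pow (hp.odd_of_ne_two hp2)

theorem three_le {F : Type*} [Field F] [Fintype F] [CharP F p] : 3 ≤ Fintype.card F := by
  have h1 := odd_card hp hp2 (F := F)
  have h2 := Fintype.one_lt_card (α := F)
  obtain ⟨k, hk⟩ := h1
  omega

theorem row_psl {F : Type} [Field F] [Fintype F] [CharP F p] {m : ℕ} (hm : 3 ≤ m)
    (e : T ≃* Matrix.ProjectiveSpecialLinearGroup (Fin m) F) : BigDeg T 7 := by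
  obtain ⟨φ, -, -, hφ⟩ := exists_quot (Γ := Matrix.SpecialLinearGroup (Fin m) F) e
  have h3 := three_le hp hp2 (F := F)
  refine bigDeg_of_ker φ hφ (b := Fintype.card F ^ (m - 1) - 1)
    (fun k ρ hρ => S2392.result rfl m hm (ringChar_ne hp) ρ hρ) ?_
  have h4 : 3 ^ 2 ≤ Fintype.card F ^ (m - 1) :=
    (Nat.pow_le_pow_right (by norm_num) (by omega)).trans (Nat.pow_le_pow_left h3 _)
  omega

theorem row_psp {F : Type} [Field F] [Fintype F] [CharP F p] {m : ℕ} (hm : 2 ≤ m)
    (h4 : m = 2 → Fintype.card F ≠ 3) (e : T ≃* PSp m F) : BigDeg T 7 := by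
  obtain ⟨φ, -, -, hφ⟩ := exists_quot (Γ := Matrix.symplecticGroup (Fin m) F) e
  have h3 := three_le hp hp2 (F := F)
  have hodd := odd_card hp hp2 (F := F)
  refine bigDeg_of_ker φ hφ (b := Fintype.card F ^ (m - 1) * (Fintype.card F - 1) / 2)
    (fun k ρ hρ => S2393.result rfl hodd m hm (ringChar_ne hp) ρ hρ) ?_
  rw [Nat.lt_div_iff_mul_lt (by norm_num)]
  rcases hm.eq_or_lt with rfl | hm
  · have h5 : 5 ≤ Fintype.card F := by
      have := h4 rfl
      obtain ⟨k, hk⟩ := hodd
      omega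
    have h6 : 5 * 4 ≤ Fintype.card F ^ (2 - 1) * (Fintype.card F - 1) := by
      rw [show 2 - 1 = 1 from rfl, pow_one]
      exact Nat.mul_le_mul h5 (by omega)
    omega
  · have h5 : 3 ^ 2 * 2 ≤ Fintype.card F ^ (m - 1) * (Fintype.card F - 1) :=
      Nat.mul_le_mul ((Nat.pow_le_pow_right (by norm_num) (by omega)).trans (Nat.pow_le_pow_left h3 _)) (by omega)
    omega

theorem row_omega {F : Type} [Field F] [Fintype F] [CharP F p] {ι : Type} [Fintype ι] [DecidableEq ι]
    {Q : QuadraticForm F (ι → F)} (hG : _root_.Cfsg.Agent.LieClassical.OrthTrans.Good Q) (e : T ≃* POmega F ⇑Q) {W : Type} [AddCommGroup W] [Module F W]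
    [Fintype W] {Q0 : QuadraticForm F W} (hiso : IsoQ Q (HQ (HQ Q0))) (hQ0 : Nondeg Q0) (hd : 3 ≤ finrank F W) :
    BigDeg T 7 := by
  have h3 := three_le hp hp2 (F := F)
  have hb : BigDeg (Omega F ⇑Q) 7 := by
    refine bigDeg_omega hG hiso hQ0 hd ?_
    have h4 : Fintype.card W = Fintype.card F ^ finrank F W := Module.card_eq_pow_finrank
    rw [h4]
    have h5 : 3 ^ 3 * 2 ≤ Fintype.card F ^ finrank F W * (Fintype.card F - 1) :=
      Nat.mul_le_mul ((Nat.pow_le_pow_right (by norm_num) hd).trans (Nat.pow_le_pow_left h3 _)) (by omega)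
    omega
  obtain ⟨φ, hφ, -, -⟩ := exists_quot (Γ := Omega F ⇑Q) e
  exact hb.of_surj φ hφ

theorem row_odd {F : Type} [Field F] [Fintype F] [CharP F p] {m : ℕ} (hm : 3 ≤ m)
    (e : T ≃* POmega F (quadFormOdd m F)) : BigDeg T 7 := by
  have h2 : (2 : F) ≠ 0 := by
    intro h
    have h3 : ((2 : ℕ) : F) = 0 := by exact_mod_cast h
    rw [CharP.cast_eq_zero_iff F p] at h3
    exact hp2 ((Nat.prime_dvd_prime_iff_eq hp Nat.prime_two).1 h3)
  obtain ⟨k, rfl⟩ : ∃ k, m = k + 2 := ⟨m - 2, by omega⟩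
  rw [← coe_oddForm] at e
  have hG : _root_.Cfsg.Agent.LieClassical.OrthTrans.Good (oddForm (k + 2) F) := good_of_finite (nondeg_oddForm _ _ h2) (by
    rw [Module.finrank_fintype_fun_eq_card, Fintype.card_sum, Fintype.card_sum, Fintype.card_fin, Fintype.card_unit]
    omega)
  refine row_omega hp hp2 hG e (Q0 := oddForm k F) ((isoQ_odd (k + 1)).trans (isoQ_odd k).hq) (nondeg_oddForm _ _ h2)
    ?_
  rw [Module.finrank_fintype_fun_eq_card, Fintype.card_sum, Fintype.card_sum, Fintype.card_fin, Fintype.card_unit]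
  omega

theorem row_plus {F : Type} [Field F] [Fintype F] [CharP F p] {m : ℕ} (hm : 4 ≤ m)
    (e : T ≃* POmega F (quadFormPlus m F)) : BigDeg T 7 := by
  obtain ⟨k, rfl⟩ : ∃ k, m = k + 2 := ⟨m - 2, by omega⟩
  rw [← coe_plusForm] at e
  have hG : _root_.Cfsg.Agent.LieClassical.OrthTrans.Good (plusForm (k + 2) F) := good_of_finite (nondeg_plusForm _ _) (by
    rw [Module.finrank_fintype_fun_eq_card, Fintype.card_sum, Fintype.card_fin]
    omega)
  refine row_omega hp hp2 hG e (Q0 := plusForm k F) ((isoQ_plus (k + 1)).trans (isoQ_plus k).hq) (nondeg_plusForm _ _)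
    ?_
  rw [Module.finrank_fintype_fun_eq_card, Fintype.card_sum, Fintype.card_fin]
  omega

theorem row_minus {F : Type} [Field F] [Fintype F] [CharP F p] {m : ℕ} (hm : 4 ≤ m) (c d : F)
    (hcd : ∀ z₁ z₂ : F, z₁ ^ 2 + c * z₁ * z₂ + d * z₂ ^ 2 = 0 → z₁ = 0 ∧ z₂ = 0)
    (e : T ≃* POmega F (quadFormMinus (m - 1) F c d)) : BigDeg T 7 := by
  obtain ⟨k, rfl⟩ : ∃ k, m = k + 3 := ⟨m - 3, by omega⟩
  have hk : k + 3 - 1 = k + 2 := by omega
  rw [hk, ← coe_minusForm] at e
  have hG : _root_.Cfsg.Agent.LieClassical.OrthTrans.Good (minusForm (k + 2) F c d) := good_of_finite (nondeg_minusForm _ _ _ _ hcd) (by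
    rw [Module.finrank_fintype_fun_eq_card, Fintype.card_sum, Fintype.card_sum, Fintype.card_fin, Fintype.card_fin]
    omega)
  refine row_omega hp hp2 hG e (Q0 := minusForm k F c d) ((isoQ_minus (k + 1) c d).trans (isoQ_minus k c d).hq)
    (nondeg_minusForm _ _ _ _ hcd) ?_
  rw [Module.finrank_fintype_fun_eq_card, Fintype.card_sum, Fintype.card_sum, Fintype.card_fin, Fintype.card_fin]
  omega

theorem row_psu {F : Type} [Field F] [Fintype F] [CharP F p] {m q : ℕ} (hq : Fintype.card F = q ^ 2) (hm : 3 ≤ m)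
    (h33 : ¬ (m = 3 ∧ q = 3)) (e : T ≃* PSU m F q) : BigDeg T 7 := by
  have hodd := odd_card hp hp2 (F := F)
  rw [hq] at hodd
  have hqo : Odd q := by
    rcases Nat.even_or_odd q with h | h
    · exact absurd hodd (Nat.not_odd_iff_even.2 (h.pow_of_ne_zero two_ne_zero))
    · exact h
  have h1 := Fintype.one_lt_card (α := F)
  have h3 : 3 ≤ q := by
    obtain ⟨k, hk⟩ := hqo
    rcases k with _ | k
    · rw [hq, hk] at h1
      norm_num at h1
    · omega
  have hperf : commutator (SU m F q) = ⊤ := GpUn.perfect_SU hq hm (by omega)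
  obtain ⟨φ, -, hφ, -⟩ := exists_quot (Γ := SU m F q) e
  refine bigDeg_of_irr hperf φ hφ fun k ρ hρ hk => ?_
  have h4 := Cfsg.Agent.H119.SUBound.bound hq hm (by omega) ρ hρ (by simpa only [_root_.Module.finrank_fintype_fun_eq_card, _root_.Fintype.card_fin] using hk)
  rw [Module.finrank_fin_fun] at h4
  refine lt_of_lt_of_le ?_ h4
  obtain ⟨n, rfl⟩ : ∃ n, m = n + 2 := ⟨m - 2, by omega⟩
  have h5 : (q - 1) * q ^ n ≤ Cfsg.Agent.H119.bd q (n + 2) := Nat.le_add_right _ _
  refine lt_of_lt_of_le ?_ h5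
  rcases (show 1 ≤ n by omega).eq_or_lt with rfl | hn
  · have hq3 : q ≠ 3 := fun h => h33 ⟨rfl, h⟩
    have h5 : 5 ≤ q := by
      obtain ⟨k, hk⟩ := hqo
      omega
    have h6 : 4 * 5 ≤ (q - 1) * q ^ 1 := Nat.mul_le_mul (by omega) (by rw [pow_one]; exact h5)
    omega
  · have h6 : 2 * 3 ^ 2 ≤ (q - 1) * q ^ n :=
      Nat.mul_le_mul (by omega) ((Nat.pow_le_pow_right (by norm_num) hn).trans (Nat.pow_le_pow_left h3 _))
    omega

omit hp hp2 in
theorem lt_pow {q n : ℕ} (hq : 3 ≤ q) (hn : 4 ≤ n) : 7 ^ 2 < q ^ n := by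
  have h1 : 3 ^ 4 ≤ q ^ n := (Nat.pow_le_pow_right (by norm_num) hn).trans (Nat.pow_le_pow_left hq _)
  omega

omit hp hp2 in
theorem simple_of {X : Type*} [Group X] (e : T ≃* X) : IsSimpleGroup X :=
  have : Nontrivial X := e.symm.toEquiv.nontrivial
  IsSimpleGroup.isSimpleGroup_of_surjective e.toMonoidHom e.surjective

theorem row_e8 {F : Type} [Field F] [Fintype F] [CharP F p] (e : T ≃* chevE8.group F) : BigDeg T 7 := by
  have hs := simple_of e
  exact BigDeg.congr e (bigDeg_tab Cfsg.Agent.H934.HeisE8.hD Cfsg.Agent.H934.HeisE8.tab Cfsg.Agent.H934.HeisE8.tab_ok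
    (lt_pow (three_le hp hp2) (by norm_num)))

theorem row_e7 {F : Type} [Field F] [Fintype F] [CharP F p] (e : T ≃* chevE7.group F) : BigDeg T 7 := by
  have hs := simple_of e
  exact BigDeg.congr e (bigDeg_tab Cfsg.Agent.H934.HeisE7.hD Cfsg.Agent.H934.HeisE7.tab Cfsg.Agent.H934.HeisE7.tab_ok
    (lt_pow (three_le hp hp2) (by norm_num)))

theorem row_e6 {F : Type} [Field F] [Fintype F] [CharP F p] (e : T ≃* chevE6.group F) : BigDeg T 7 := by
  have hs := simple_of e
  exact BigDeg.congr e (bigDeg_tab Cfsg.Agent.H934.HeisE6.hD Cfsg.Agent.H934.HeisE6.tab Cfsg.Agent.H934.HeisE6.tab_ok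
    (lt_pow (three_le hp hp2) (by norm_num)))

theorem row_f4 {F : Type} [Field F] [Fintype F] [CharP F p] (e : T ≃* chevF4.group F) : BigDeg T 7 := by
  have hs := simple_of e
  exact BigDeg.congr e (bigDeg_tab HeisF4.hD HeisF4.tab HeisF4.tab_ok (lt_pow (three_le hp hp2) (by norm_num)))

theorem row_g2 {F : Type} [Field F] [Fintype F] [CharP F p] (e : T ≃* chevG2.group F) : BigDeg T 7 := by
  obtain ⟨e'⟩ := Cfsg.Agent.H638.G2Iso.equiv (F := F)
  have e2 : T ≃* ↥(Cfsg.Lie.G2 F) := e.trans e'.symm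
  have hs := simple_of e2
  have h3 := three_le hp hp2 (F := F)
  have hodd := odd_card hp hp2 (F := F)
  refine BigDeg.congr e2 (bigDeg_g2 h3 (by rintro h; rw [h] at hodd; exact absurd hodd (by decide)) ?_)
  have h4 : 3 ^ 2 ≤ Fintype.card F ^ 2 := Nat.pow_le_pow_left h3 _
  omega

theorem le_of_sq {K : Type} [Field K] [Fintype K] [CharP K p] {q n : ℕ} (hK : Fintype.card K = q ^ n) : 3 ≤ q := by
  have hodd := odd_card hp hp2 (F := K)
  have h1 := Fintype.one_lt_card (α := K)
  by_contra h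
  have h2 : q = 0 ∨ q = 1 ∨ q = 2 := by omega
  rcases Nat.eq_zero_or_pos n with hn | hn
  · rw [hK, hn, pow_zero] at h1
    omega
  rcases h2 with rfl | rfl | rfl
  · rw [hK, zero_pow (by omega)] at h1
    omega
  · rw [hK, one_pow] at h1
    omega
  · rw [hK] at hodd
    exact absurd hodd (Nat.not_odd_iff_even.2 (even_two.pow_of_ne_zero (by omega)))

theorem row_2e6 {K : Type} [Field K] [Fintype K] [CharP K p] {q : ℕ} (hq : IsPrimePow q)
    (hK : Fintype.card K = q ^ 2) (e : T ≃* twistedE6 K q) : BigDeg T 7 := by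
  have hs := simple_of e
  exact BigDeg.congr e (bigDeg_2E6 hq hK (lt_pow (le_of_sq hp hp2 hK) (by norm_num)))

omit hp hp2 in
theorem nc_of {X : Type*} [Group X] (e : T ≃* X) (h : ∃ a b : T, a * b ≠ b * a) : ∃ a b : X, a * b ≠ b * a := by
  obtain ⟨a, b, hab⟩ := h
  exact ⟨e a, e b, fun h => hab (e.injective (by rw [map_mul, map_mul, h]))⟩

theorem row_3d4 (hT : ∃ a b : T, a * b ≠ b * a) {K : Type} [Field K] [Fintype K] [CharP K p] {q : ℕ}
    (hq : IsPrimePow q) (hK : Fintype.card K = q ^ 3) (e : T ≃* twistedD4 K q) : BigDeg T 7 := by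
  have hs := simple_of e
  have hX := nc_of e hT
  have hfin : Finite ↥(twistedD4 K q) := Finite.of_equiv T e.toEquiv
  have hbd := Cfsg.Agent.S2342.result q hq hK
  have h3 := le_of_sq hp hp2 hK
  refine BigDeg.congr e (bigDeg_of_bound hX hbd ?_)
  have h4 : 3 < q ^ 4 - q ^ 2 + 1 := by
    have h5 : q ^ 4 = q ^ 2 * q ^ 2 := by ring
    have h6 : 9 ≤ q ^ 2 := by nlinarith only [h3]
    have h7 : q ^ 2 + 72 ≤ q ^ 4 := by rw [h5]; nlinarith only [h6]
    omega
  calc 7 < 3 * 3 := by norm_num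
    _ ≤ _ := Nat.mul_le_mul h3 h4.le

omit hp hp2 in
theorem row_ree (hT : ∃ a b : T, a * b ≠ b * a) (h : Cfsg.Lie.IsoRee T) : BigDeg T 7 := by
  obtain ⟨K, _, _, m, hm, hK, ⟨e⟩⟩ := h
  have hs := simple_of e
  have hX := nc_of e hT
  have hfin : Finite ↥(twistedG2 K (3 ^ m)) := Finite.of_equiv T e.toEquiv
  have hbd := Cfsg.Agent.S2343.result m hm hK
  refine BigDeg.congr e (bigDeg_of_bound hX hbd ?_)
  have h27 : 27 ≤ 3 ^ (2 * m + 1) := by
    calc 27 = 3 ^ 3 := by norm_num
      _ ≤ _ := Nat.pow_le_pow_right (by norm_num) (by omega)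
  set q := 3 ^ (2 * m + 1) with hq
  have h5 : 27 * q ≤ q ^ 2 := by rw [pow_two]; exact Nat.mul_le_mul_right _ h27
  omega

/-- **The degrees of the simple groups of Lie type of odd characteristic**, exceptions as isomorphism types. -/
theorem bigDeg_lie_iso (hT : ∃ a b : T, a * b ≠ b * a) (h : IsLieTypeChar p T)
    (h1 : ¬ ∃ (F : Type) (_ : Field F) (_ : Fintype F), Nonempty (T ≃* Matrix.ProjectiveSpecialLinearGroup (Fin 2) F))
    (h2 : ¬ ∃ (F : Type) (_ : Field F) (_ : Fintype F), Fintype.card F = 3 ∧ Nonempty (T ≃* PSp 2 F))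
    (h3 : ¬ ∃ (F : Type) (_ : Field F) (_ : Fintype F), Fintype.card F = 9 ∧ Nonempty (T ≃* PSU 3 F 3)) :
    BigDeg T 7 := by
  rcases h with ⟨F, _, _, _, n, hn, -, ⟨e⟩⟩ | ⟨F, _, _, _, m, hm, -, ⟨e⟩⟩ | ⟨F, _, _, _, n, q, hq, hn, -, ⟨e⟩⟩ |
    ⟨F, _, _, _, m, hm, -, ⟨e⟩⟩ | ⟨F, _, _, _, m, hm, ⟨e⟩⟩ | ⟨F, _, _, _, m, a, b, hm, hab, ⟨e⟩⟩ |
    ⟨F, _, _, _, h⟩ | ⟨K, _, _, _, q, hq, h⟩ | ⟨h, -⟩ | ⟨h, -⟩ | ⟨-, h⟩
  · rcases hn.eq_or_lt with rfl | hn
    · exact absurd ⟨F, inferInstance, inferInstance, ⟨e⟩⟩ h1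
    · exact row_psl hp hp2 hn e
  · exact row_psp hp hp2 hm (fun h4 h5 => by subst h4; exact h2 ⟨F, inferInstance, inferInstance, h5, ⟨e⟩⟩) e
  · exact row_psu hp hp2 hq hn (by
      rintro ⟨rfl, rfl⟩
      exact h3 ⟨F, inferInstance, inferInstance, hq, ⟨e⟩⟩) e
  · exact row_odd hp hp2 hm e
  · exact row_plus hp hp2 hm e
  · exact row_minus hp hp2 hm a b hab e
  · rcases h with ⟨-, ⟨e⟩⟩ | ⟨⟨e⟩⟩ | ⟨⟨e⟩⟩ | ⟨⟨e⟩⟩ | ⟨⟨e⟩⟩
    · exact row_g2 hp hp2 e
    · exact row_f4 hp hp2 e
    · exact row_e6 hp hp2 e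
    · exact row_e7 hp hp2 e
    · exact row_e8 hp hp2 e
  · rcases h with ⟨hK, ⟨e⟩⟩ | ⟨hK, ⟨e⟩⟩
    · exact row_2e6 hp hp2 hq hK e
    · exact row_3d4 hp hp2 hT hq hK e
  · exact absurd h hp2
  · exact absurd h hp2
  · exact row_ree hT h

omit hp hp2 in
/-- Nonprincipal irreducible characters of even degree have degree greater than `d` when all the nontrivial
representations do. -/
theorem lt_charDegree {X : Type u} [Group X] [Finite X] {d : ℕ} (h : BigDeg X d) (θ : X → ℂ)
    (hθ : IsIrrCharacter X θ) (h1 : charDegree θ ≠ 1) : d < charDegree θ := by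
  obtain ⟨n, ρ, hρ, hθ'⟩ := id hθ
  have hn : charDegree θ = n := by
    unfold charDegree
    rw [← hθ', Representation.char_one, Module.finrank_fin_fun]
    simp
  rw [hn] at h1 ⊢
  obtain ⟨f, hf⟩ := exists_gl ρ
  have hf1 : f ≠ 1 := by
    intro hf1
    apply h1
    have h2 : ∀ x, θ x = n := by
      intro x
      have h3 : ρ x = 1 := (hf x).1 (by rw [hf1]; rfl)
      rw [← hθ']
      unfold Representation.character
      rw [h3]
      simp only [_root_.LinearMap.trace_one, _root_.Module.finrank_fintype_fun_eq_card, _root_.Fintype.card_fin]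
    let _ : Fintype X := Fintype.ofFinite X
    have h3 := Cfsg.Agent.Characters.Core.classInner_irr_self hθ
    unfold classInner at h3
    have h4 : ((n : ℂ) * n) = 1 := by
      have h5 : (Nat.card X : ℂ) ≠ 0 := by
        exact_mod_cast Nat.card_pos.ne'
      rw [← h3]
      simp only [h2, Complex.conj_natCast, Finset.sum_const, Finset.card_univ, ← Nat.card_eq_fintype_card,
        nsmul_eq_mul]
      field_simp
    have h6 : n * n = 1 := by exact_mod_cast h4
    exact Nat.eq_one_of_mul_eq_one_left h6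
  have h7 := h _ f hf1
  rwa [Module.finrank_fin_fun] at h7

/-- **(E)** The same with the exceptions given as isomorphism types. -/
theorem deg8_of_lie_odd_iso (hT : ∃ a b : T, a * b ≠ b * a) (h : IsLieTypeChar p T)
    (h1 : ¬ ∃ (F : Type) (_ : Field F) (_ : Fintype F), Nonempty (T ≃* Matrix.ProjectiveSpecialLinearGroup (Fin 2) F))
    (h2 : ¬ ∃ (F : Type) (_ : Field F) (_ : Fintype F), Fintype.card F = 3 ∧ Nonempty (T ≃* PSp 2 F))
    (h3 : ¬ ∃ (F : Type) (_ : Field F) (_ : Fintype F), Fintype.card F = 9 ∧ Nonempty (T ≃* PSU 3 F 3))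
    (θ : T → ℂ) (hθ : IsIrrCharacter T θ) (he : Even (charDegree θ)) : 8 ≤ charDegree θ :=
  lt_charDegree (bigDeg_lie_iso hp hp2 hT h h1 h2 h3) θ hθ (fun h => by rw [h] at he; exact absurd he (by decide))

end Cfsg.Agent.H612.DegEight
end
end

-- part: H727/Orth/Table
section
prune_inst 0x21004000112200000000001460001c62d20000020048000008400a000ec10c600000a860a81005100080808400300040000000a000400000040000000118018008000204b148a108100010000000000000000000000000000000000000000000000000000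
set_option linter.all false
open scoped Cfsg.Agent.FastGrp

-- part: H727/Orth/AltDeg
section
/-!
# Degrees of the alternating groups

`deg8_alt` : the irreducible characters of even degree of `alternatingGroup (Fin n)`, `n ≥ 8`, have degree
at least eight.
-/

set_option autoImplicit false
set_option linter.unusedSectionVars false
set_option linter.style.haveILetI false

namespace Cfsg.Agent.H727.Orth

open Cfsg Equiv Equiv.Perm
open Cfsg.Agent.H324.Hall

universe u

theorem deg8_of_bigDeg {X : Type u} [Group X] [Finite X] (h : BigDeg X 6) : Deg8 X := by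
  intro θ h1 h2
  have h3 := Cfsg.Agent.H612.DegEight.lt_charDegree h θ h1 (fun h => by rw [h] at h2; exact absurd h2 (by decide))
  obtain ⟨k, hk⟩ := h2
  omega

theorem simple_alt {n : ℕ} (hn : 5 ≤ n) : IsSimpleGroup (alternatingGroup (Fin n)) := by
  apply alternatingGroup.isSimpleGroup
  rw [Nat.card_eq_fintype_card, Fintype.card_fin]
  exact hn

theorem bigDeg_alt_eight : BigDeg (alternatingGroup (Fin 8)) 6 := by
  have h5 : IsSimpleGroup (alternatingGroup (Fin 8)) := simple_alt (by norm_num)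
  obtain ⟨e⟩ := Cfsg.Agent.S0256.result (F := ZMod 2) (ZMod.card 2)
  obtain ⟨φ, -, -, hφ⟩ := Cfsg.Agent.H612.DegEight.exists_quot (Γ := Matrix.SpecialLinearGroup (Fin 4) (ZMod 2))
    (T := alternatingGroup (Fin 8)) e.symm
  refine bigDeg_of_ker φ hφ (b := Fintype.card (ZMod 2) ^ (4 - 1) - 1)
    (fun k ρ hρ => S2392.result rfl 4 (by norm_num) ?_ ρ hρ) ?_
  · exact Cfsg.Agent.H612.DegEight.ringChar_ne (F := ZMod 2) Nat.prime_two
  · rw [ZMod.card]
    norm_num

/-- the embedding of alternating groups -/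
theorem exists_alt_hom {k n : ℕ} (hkn : k ≤ n) :
    ∃ f : alternatingGroup (Fin k) →* alternatingGroup (Fin n), Function.Injective f := by
  classical
  let e : Fin k ≃ {i : Fin n // i ∈ Set.range (Fin.castLE hkn)} :=
    Equiv.ofInjective _ (Fin.castLE_injective hkn)
  let f : Perm (Fin k) →* Perm (Fin n) := Equiv.Perm.extendDomainHom e
  have hf : Function.Injective f := Equiv.Perm.extendDomainHom_injective e
  have hs : ∀ g : Perm (Fin k), sign (f g) = sign g := fun g => Equiv.Perm.sign_extendDomain g e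
  let F : alternatingGroup (Fin k) →* alternatingGroup (Fin n) :=
    (f.comp (alternatingGroup (Fin k)).subtype).codRestrict (alternatingGroup (Fin n)) (fun g => by
      rw [mem_alternatingGroup, MonoidHom.comp_apply, hs]
      exact mem_alternatingGroup.1 g.2)
  refine ⟨F, ?_⟩
  intro a b hab
  apply Subtype.ext
  apply hf
  exact congrArg Subtype.val hab

theorem deg8_alt {n : ℕ} (hn : 8 ≤ n) : Deg8 (alternatingGroup (Fin n)) := by
  have h5 : IsSimpleGroup (alternatingGroup (Fin n)) := simple_alt (by omega)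
  obtain ⟨f, hf⟩ := exists_alt_hom hn
  refine deg8_of_bigDeg (BigDeg.of_hom f ?_ bigDeg_alt_eight)
  have h8 : IsSimpleGroup (alternatingGroup (Fin 8)) := simple_alt (by norm_num)
  obtain ⟨g, hg⟩ := exists_ne (1 : alternatingGroup (Fin 8))
  exact ⟨g, fun h => hg (hf (by rw [h, map_one]))⟩

/-- **The alternating groups of degree at least eight.** -/
theorem orthRow_alt {n : ℕ} (hn : 8 ≤ n) : OrthRow (alternatingGroup (Fin n)) :=
  (evenO_alt (by omega) (by omega)).orthRow (deg8_alt hn)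

end Cfsg.Agent.H727.Orth
end

-- part: H727/Orth/AltSeven
section
/-!
# The alternating group of degree seven

`orthRow_seven` : the character of degree fourteen, the difference of the permutation characters on the pairs
of points and on the points.
-/

set_option autoImplicit false
set_option linter.unusedSectionVars false
set_option linter.style.haveILetI false

namespace Cfsg.Agent.H727.Orth.Seven

open Cfsg Equiv Equiv.Perm
open scoped ComplexConjugate
open Cfsg.Agent.Characters.Core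
open Cfsg.Agent.H705.StrongLin (ind ind_eq real_of_ind)
open Cfsg.Agent.H694 (mu mu_eq irr_mu_spec RChar rchar_irr rchar_perm permC permC_one classInner_permC)

/-- counting orbits by an invariant -/
theorem card_orbits_of {G X : Type*} [Group G] [MulAction G X] {k : ℕ} (F : X → Fin k) (r : Fin k → X)
    (hinv : ∀ (g : G) x, F (g • x) = F x) (hr : ∀ i, F (r i) = i)
    (hex : ∀ x, ∃ g : G, g • r (F x) = x) : Nat.card (MulAction.orbitRel.Quotient G X) = k := by
  let f : MulAction.orbitRel.Quotient G X → Fin k := Quotient.lift F (by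
    rintro a b ⟨g, hg⟩
    rw [← hg]
    exact hinv g b)
  have hf : Function.Bijective f := by
    constructor
    · intro a b
      refine Quotient.inductionOn₂ a b fun x y hxy => ?_
      have h1 : F x = F y := hxy
      obtain ⟨g, hg⟩ := hex x
      obtain ⟨h, hh⟩ := hex y
      apply Quotient.sound
      show ∃ _, _
      refine ⟨g * h⁻¹, ?_⟩
      show (g * h⁻¹) • y = x
      rw [← hh, mul_smul, inv_smul_smul, ← h1, hg]
    · intro i
      exact ⟨Quotient.mk _ (r i), hr i⟩
  rw [Nat.card_congr (Equiv.ofBijective f hf), Nat.card_eq_fintype_card, Fintype.card_fin]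

/-- the pairs of points -/
abbrev X2 : Type := {s : Finset (Fin 7) // s.card = 2}

instance actX2 : MulAction (Perm (Fin 7)) X2 where
  smul g s := ⟨s.1.map g.toEmbedding, by rw [Finset.card_map, s.2]⟩
  one_smul s := Subtype.ext (by
    show s.1.map (Function.Embedding.refl (Fin 7)) = s.1
    exact Finset.map_refl)
  mul_smul g h s := Subtype.ext (by
    show s.1.map (g * h : Perm (Fin 7)).toEmbedding = (s.1.map h.toEmbedding).map g.toEmbedding
    rw [Finset.map_map]
    rfl)

theorem smul_val' (g : alternatingGroup (Fin 7)) (s : X2) :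
    (g • s).1 = s.1.map (g : Perm (Fin 7)).toEmbedding := rfl

/-- the alternating group is four times transitive -/
theorem exists_four (a b c d : Fin 7) (hab : a ≠ b) (hac : a ≠ c) (had : a ≠ d) (hbc : b ≠ c)
    (hbd : b ≠ d) (hcd : c ≠ d) : ∃ g : alternatingGroup (Fin 7),
      (g : Perm (Fin 7)) 0 = a ∧ (g : Perm (Fin 7)) 1 = b ∧ (g : Perm (Fin 7)) 2 = c ∧
      (g : Perm (Fin 7)) 3 = d := by
  have h5 : MulAction.IsMultiplyPretransitive (alternatingGroup (Fin 7)) (Fin 7) (Nat.card (Fin 7) - 2) :=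
    alternatingGroup.isMultiplyPretransitive (Fin 7)
  have h4 : MulAction.IsMultiplyPretransitive (alternatingGroup (Fin 7)) (Fin 7) 4 := by
    apply MulAction.isMultiplyPretransitive_of_le (n := Nat.card (Fin 7) - 2)
    · rw [Nat.card_eq_fintype_card, Fintype.card_fin]
      norm_num
    · exact Nat.sub_le _ _
  let x : Fin 4 ↪ Fin 7 := ⟨![0, 1, 2, 3], by decide⟩
  let y : Fin 4 ↪ Fin 7 := ⟨![a, b, c, d], by
    intro i j hij
    fin_cases i <;> fin_cases j <;> simp_all⟩
  obtain ⟨g, hg⟩ := MulAction.isMultiplyPretransitive_iff.1 h4 x y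
  have h : ∀ i, (g : Perm (Fin 7)) (x i) = y i := fun i => by
    rw [← hg]
    rfl
  exact ⟨g, h 0, h 1, h 2, h 3⟩

theorem exists_three (a b c : Fin 7) (hab : a ≠ b) (hac : a ≠ c) (hbc : b ≠ c) :
    ∃ g : alternatingGroup (Fin 7),
      (g : Perm (Fin 7)) 0 = a ∧ (g : Perm (Fin 7)) 1 = b ∧ (g : Perm (Fin 7)) 2 = c := by
  obtain ⟨d, hd⟩ : ∃ d, d ∉ ({a, b, c} : Finset (Fin 7)) := by
    by_contra hno
    push Not at hno
    have h1 : (Finset.univ : Finset (Fin 7)) ⊆ {a, b, c} := fun x _ => hno x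
    have h2 := Finset.card_le_card h1
    have h3 : ({a, b, c} : Finset (Fin 7)).card ≤ 3 := Finset.card_le_three
    rw [Finset.card_univ, Fintype.card_fin] at h2
    omega
  simp only [Finset.mem_insert, Finset.mem_singleton, not_or] at hd
  obtain ⟨g, h0, h1, h2, -⟩ := exists_four a b c d hab hac (Ne.symm hd.1) hbc (Ne.symm hd.2.1) (Ne.symm hd.2.2)
  exact ⟨g, h0, h1, h2⟩

theorem exists_two (a b : Fin 7) (hab : a ≠ b) : ∃ g : alternatingGroup (Fin 7),
      (g : Perm (Fin 7)) 0 = a ∧ (g : Perm (Fin 7)) 1 = b := by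
  obtain ⟨d, hd⟩ : ∃ d, d ∉ ({a, b} : Finset (Fin 7)) := by
    by_contra hno
    push Not at hno
    have h1 : (Finset.univ : Finset (Fin 7)) ⊆ {a, b} := fun x _ => hno x
    have h2 := Finset.card_le_card h1
    have h3 : ({a, b} : Finset (Fin 7)).card ≤ 2 := Finset.card_le_two
    rw [Finset.card_univ, Fintype.card_fin] at h2
    omega
  simp only [Finset.mem_insert, Finset.mem_singleton, not_or] at hd
  obtain ⟨g, h0, h1, -⟩ := exists_three a b d hab (Ne.symm hd.1) (Ne.symm hd.2)
  exact ⟨g, h0, h1⟩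

theorem exists_pair (s : X2) : ∃ a b, a ≠ b ∧ s.1 = {a, b} := Finset.card_eq_two.1 s.2

theorem smul_eq {g : alternatingGroup (Fin 7)} {u v a b : Fin 7} (h : ({u, v} : Finset (Fin 7)).card = 2)
    (s : X2) (hs : s.1 = {a, b}) (h1 : (g : Perm (Fin 7)) u = a) (h2 : (g : Perm (Fin 7)) v = b) :
    g • (Subtype.mk {u, v} h : X2) = s := by
  apply Subtype.ext
  rw [smul_val', hs, ← h1, ← h2]
  ext x
  simp

/-- points × points -/
theorem orb11 : Nat.card (MulAction.orbitRel.Quotient (alternatingGroup (Fin 7)) (Fin 7 × Fin 7)) = 2 := by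
  refine card_orbits_of (fun x => if x.1 = x.2 then 0 else 1) ![(0, 0), (0, 1)] ?_ ?_ ?_
  · intro g x
    have : ((g • x).1 = (g • x).2) ↔ x.1 = x.2 := by
      show (g : Perm (Fin 7)) x.1 = (g : Perm (Fin 7)) x.2 ↔ _
      rw [EmbeddingLike.apply_eq_iff_eq]
    simp only [this]
  · intro i
    fin_cases i <;> rfl
  · rintro ⟨a, b⟩
    by_cases hab : a = b
    · subst hab
      obtain ⟨c, hc⟩ := exists_ne a
      obtain ⟨g, h0, -⟩ := exists_two a c hc.symm
      refine ⟨g, ?_⟩
      rw [if_pos rfl]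
      exact Prod.ext h0 h0
    · obtain ⟨g, h0, h1⟩ := exists_two a b hab
      refine ⟨g, ?_⟩
      rw [if_neg hab]
      exact Prod.ext h0 h1

theorem mem_smul_iff (g : alternatingGroup (Fin 7)) (s : X2) (i : Fin 7) :
    g • i ∈ (g • s).1 ↔ i ∈ s.1 := by
  rw [smul_val']
  show (g : Perm (Fin 7)) i ∈ _ ↔ _
  exact Finset.mem_map' _

/-- the pair of the first two points -/
def s01 : X2 := ⟨{0, 1}, by decide⟩

theorem exists_rep1 (s : X2) (i : Fin 7) : ∃ g : alternatingGroup (Fin 7),
    g • s01 = s ∧ g • (if i ∈ s.1 then (0 : Fin 7) else 2) = i := by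
  obtain ⟨a, b, hab, hs⟩ := exists_pair s
  by_cases hi : i ∈ s.1
  · rw [if_pos hi]
    rw [hs, Finset.mem_insert, Finset.mem_singleton] at hi
    rcases hi with rfl | rfl
    · obtain ⟨g, h0, h1⟩ := exists_two i b hab
      exact ⟨g, smul_eq _ s hs h0 h1, h0⟩
    · obtain ⟨g, h0, h1⟩ := exists_two i a hab.symm
      exact ⟨g, smul_eq _ s (hs.trans (Finset.pair_comm a i)) h0 h1, h0⟩
  · rw [if_neg hi]
    rw [hs, Finset.mem_insert, Finset.mem_singleton, not_or] at hi
    obtain ⟨g, h0, h1, h2⟩ := exists_three a b i hab (Ne.symm hi.1) (Ne.symm hi.2)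
    exact ⟨g, smul_eq _ s hs h0 h1, h2⟩

/-- pairs × points -/
theorem orb21 : Nat.card (MulAction.orbitRel.Quotient (alternatingGroup (Fin 7)) (X2 × Fin 7)) = 2 := by
  refine card_orbits_of (fun x => if x.2 ∈ x.1.1 then 0 else 1) ![(s01, 0), (s01, 2)] ?_ ?_ ?_
  · intro g x
    have : ((g • x).2 ∈ (g • x).1.1) ↔ x.2 ∈ x.1.1 := mem_smul_iff g x.1 x.2
    simp only [this]
  · intro i
    fin_cases i <;> rfl
  · rintro ⟨s, i⟩
    obtain ⟨g, h1, h2⟩ := exists_rep1 s i
    refine ⟨g, ?_⟩
    by_cases hi : i ∈ s.1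
    · rw [if_pos hi] at h2
      simp only [hi, if_true]
      exact Prod.ext h1 h2
    · rw [if_neg hi] at h2
      simp only [hi, if_false]
      exact Prod.ext h1 h2

theorem card_inter_smul (g : alternatingGroup (Fin 7)) (s t : X2) :
    ((g • s).1 ∩ (g • t).1).card = (s.1 ∩ t.1).card := by
  rw [smul_val', smul_val', ← Finset.map_inter, Finset.card_map]

theorem card_inter_lt (s t : X2) : (s.1 ∩ t.1).card < 3 := by
  have h1 := Finset.card_le_card (Finset.inter_subset_left : s.1 ∩ t.1 ⊆ s.1)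
  rw [s.2] at h1
  omega

def t2 : X2 := ⟨{0, 2}, by decide⟩
def t23 : X2 := ⟨{2, 3}, by decide⟩

/-- pairs × pairs -/
theorem orb22 : Nat.card (MulAction.orbitRel.Quotient (alternatingGroup (Fin 7)) (X2 × X2)) = 3 := by
  refine card_orbits_of (fun x => ⟨(x.1.1 ∩ x.2.1).card, card_inter_lt _ _⟩)
    ![(s01, t23), (s01, t2), (s01, s01)] ?_ ?_ ?_
  · intro g x
    exact Fin.ext (card_inter_smul g x.1 x.2)
  · intro i
    fin_cases i <;> rfl
  · rintro ⟨s, t⟩
    obtain ⟨a, b, hab, hs⟩ := exists_pair s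
    obtain ⟨c, d, hcd, ht⟩ := exists_pair t
    -- the second pair in the position of the first
    have key : ∀ (a b : Fin 7), a ≠ b → s.1 = {a, b} → a ∈ t.1 → b ∉ t.1 →
        ∃ g : alternatingGroup (Fin 7), g • (s01, t2) = (s, t) := by
      intro a b hab hs ha hb
      have h1 : ∃ e, t.1 = {a, e} ∧ a ≠ e := by
        rw [ht, Finset.mem_insert, Finset.mem_singleton] at ha
        rcases ha with rfl | rfl
        · exact ⟨d, ht, hcd⟩
        · exact ⟨c, ht.trans (Finset.pair_comm _ _), hcd.symm⟩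
      obtain ⟨e, he, hae⟩ := h1
      have hbe : b ≠ e := by
        rintro rfl
        rw [he] at hb
        simp at hb
      obtain ⟨g, h0, h1, h2⟩ := exists_three a b e hab hae hbe
      exact ⟨g, Prod.ext (smul_eq _ s hs h0 h1) (smul_eq _ t he h0 h2)⟩
    by_cases ha : a ∈ t.1 <;> by_cases hb : b ∈ t.1
    · have hst : s = t := by
        apply Subtype.ext
        apply Finset.eq_of_subset_of_card_le
        · rw [hs]
          intro x hx
          rw [Finset.mem_insert, Finset.mem_singleton] at hx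
          rcases hx with rfl | rfl
          · exact ha
          · exact hb
        · rw [s.2, t.2]
      subst hst
      have hF : (⟨(s.1 ∩ s.1).card, card_inter_lt _ _⟩ : Fin 3) = 2 := by
        apply Fin.ext
        show (s.1 ∩ s.1).card = 2
        rw [Finset.inter_self, s.2]
      obtain ⟨g, h0, h1⟩ := exists_two a b hab
      refine ⟨g, ?_⟩
      show g • ![(s01, t23), (s01, t2), (s01, s01)] (⟨(s.1 ∩ s.1).card, card_inter_lt _ _⟩ : Fin 3) = (s, s)
      rw [hF]
      exact Prod.ext (smul_eq _ s hs h0 h1) (smul_eq _ s hs h0 h1)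
    · have hF : (⟨(s.1 ∩ t.1).card, card_inter_lt _ _⟩ : Fin 3) = 1 := by
        apply Fin.ext
        show (s.1 ∩ t.1).card = 1
        rw [hs, Finset.insert_inter_of_mem ha, Finset.singleton_inter_of_notMem hb]
        rfl
      obtain ⟨g, hg⟩ := key a b hab hs ha hb
      refine ⟨g, ?_⟩
      show g • ![(s01, t23), (s01, t2), (s01, s01)] (⟨(s.1 ∩ t.1).card, card_inter_lt _ _⟩ : Fin 3) = (s, t)
      rw [hF]
      exact hg
    · have hF : (⟨(s.1 ∩ t.1).card, card_inter_lt _ _⟩ : Fin 3) = 1 := by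
        apply Fin.ext
        show (s.1 ∩ t.1).card = 1
        rw [hs, Finset.pair_comm, Finset.insert_inter_of_mem hb, Finset.singleton_inter_of_notMem ha]
        rfl
      obtain ⟨g, hg⟩ := key b a hab.symm (hs.trans (Finset.pair_comm _ _)) hb ha
      refine ⟨g, ?_⟩
      show g • ![(s01, t23), (s01, t2), (s01, s01)] (⟨(s.1 ∩ t.1).card, card_inter_lt _ _⟩ : Fin 3) = (s, t)
      rw [hF]
      exact hg
    · have hF : (⟨(s.1 ∩ t.1).card, card_inter_lt _ _⟩ : Fin 3) = 0 := by
        apply Fin.ext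
        show (s.1 ∩ t.1).card = 0
        rw [hs, Finset.insert_inter_of_notMem ha, Finset.singleton_inter_of_notMem hb]
        rfl
      have hac : a ≠ c := by
        rintro rfl
        rw [ht] at ha
        simp at ha
      have had : a ≠ d := by
        rintro rfl
        rw [ht] at ha
        simp at ha
      have hbc : b ≠ c := by
        rintro rfl
        rw [ht] at hb
        simp at hb
      have hbd : b ≠ d := by
        rintro rfl
        rw [ht] at hb
        simp at hb
      obtain ⟨g, h0, h1, h2, h3⟩ := exists_four a b c d hab hac had hbc hbd hcd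
      refine ⟨g, ?_⟩
      show g • ![(s01, t23), (s01, t2), (s01, s01)] (⟨(s.1 ∩ t.1).card, card_inter_lt _ _⟩ : Fin 3) = (s, t)
      rw [hF]
      exact Prod.ext (smul_eq _ s hs h0 h1) (smul_eq _ t ht h2 h3)

theorem card_X2 : Nat.card X2 = 21 := by
  rw [Nat.card_eq_fintype_card, Fintype.card_finset_len, Fintype.card_fin]
  rfl

/-- the difference of the permutation characters -/
noncomputable def fS : alternatingGroup (Fin 7) → ℂ :=
  permC (alternatingGroup (Fin 7)) X2 - permC (alternatingGroup (Fin 7)) (Fin 7)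

theorem orb12 : Nat.card (MulAction.orbitRel.Quotient (alternatingGroup (Fin 7)) (Fin 7 × X2)) = 2 := by
  refine card_orbits_of (fun x => if x.1 ∈ x.2.1 then 0 else 1) ![(0, s01), (2, s01)] ?_ ?_ ?_
  · intro g x
    have : ((g • x).1 ∈ (g • x).2.1) ↔ x.1 ∈ x.2.1 := mem_smul_iff g x.2 x.1
    simp only [this]
  · intro i
    fin_cases i <;> rfl
  · rintro ⟨i, s⟩
    obtain ⟨g, h1, h2⟩ := exists_rep1 s i
    refine ⟨g, ?_⟩
    by_cases hi : i ∈ s.1
    · rw [if_pos hi] at h2
      simp only [hi, if_true]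
      exact Prod.ext h2 h1
    · rw [if_neg hi] at h2
      simp only [hi, if_false]
      exact Prod.ext h2 h1

theorem norm_fS [Fintype (alternatingGroup (Fin 7))] : classInner fS fS = 1 := by
  rw [fS, classInner_sub_left, classInner_sub_right, classInner_sub_right, classInner_permC,
    classInner_permC, classInner_permC, classInner_permC, orb11, orb12, orb21, orb22]
  norm_num

theorem fS_one : fS 1 = 14 := by
  rw [fS, Pi.sub_apply, permC_one, permC_one, card_X2, Nat.card_eq_fintype_card, Fintype.card_fin]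
  norm_num

theorem deg_fS : charDegree fS = 14 := by
  rw [charDegree, fS_one]
  norm_num

theorem irr_fS : IsIrrCharacter (alternatingGroup (Fin 7)) fS := by
  classical
  haveI := Fintype.ofFinite (alternatingGroup (Fin 7))
  have hg : IsGeneralizedCharacter (alternatingGroup (Fin 7)) fS :=
    ⟨_, _, Cfsg.Agent.S0157.isCharacter_fixedBy X2, Cfsg.Agent.S0157.isCharacter_fixedBy (Fin 7), rfl⟩
  rcases isIrr_of_generalized hg norm_fS with h | h
  · exact h
  · exfalso
    obtain ⟨n, ρ, -, hρ⟩ := h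
    have h1 := congrFun hρ 1
    rw [Representation.char_one, Module.finrank_fin_fun, Pi.neg_apply, fS_one] at h1
    have h2 : ((n : ℝ) : ℂ) = ((-14 : ℝ) : ℂ) := by
      push_cast
      exact h1
    have h3 := Complex.ofReal_injective h2
    have h4 : (0 : ℝ) ≤ n := Nat.cast_nonneg n
    linarith

/-- **The alternating group of degree seven.** -/
theorem orthRow_seven : OrthRow (alternatingGroup (Fin 7)) := by
  classical
  have hc := center_alt (n := 7) (by norm_num)
  haveI := Fintype.ofFinite (MulAut (alternatingGroup (Fin 7)))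
  haveI := Fintype.ofFinite (⊤ : Subgroup (MulAut (alternatingGroup (Fin 7))))
  let e : Perm (Fin 7) ≃* MulAut (alternatingGroup (Fin 7)) :=
    MulEquiv.ofBijective MulAut.conjNormal (S2119.result 7 (by norm_num) (by norm_num))
  have hπ : RChar (permC (Perm (Fin 7)) X2 - permC (Perm (Fin 7)) (Fin 7)) :=
    (rchar_perm X2).sub (rchar_perm (Fin 7))
  have hπ' := hπ.comp (e.symm.toMonoidHom.comp
    (⊤ : Subgroup (MulAut (alternatingGroup (Fin 7)))).subtype)
  have hNJ : ∀ s : alternatingGroup (Fin 7), MulAut.conj s ∈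
      (⊤ : Subgroup (MulAut (alternatingGroup (Fin 7)))) := fun s => Subgroup.mem_top _
  have hres : (fun s : alternatingGroup (Fin 7) => (fun x => (permC (Perm (Fin 7)) X2 -
      permC (Perm (Fin 7)) (Fin 7)) ((e.symm.toMonoidHom.comp
    (⊤ : Subgroup (MulAut (alternatingGroup (Fin 7)))).subtype) x)) ⟨MulAut.conj s, hNJ s⟩) = fS := by
    funext s
    have h1 : e.symm (MulAut.conj s) = (s : Perm (Fin 7)) := by
      rw [MulEquiv.symm_apply_eq]
      refine MulEquiv.ext fun x => Subtype.ext ?_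
      show _ = ((MulAut.conjNormal (s : Perm (Fin 7)) x : alternatingGroup (Fin 7)) : Perm (Fin 7))
      rw [MulAut.conjNormal_apply]
      rfl
    show (permC (Perm (Fin 7)) X2 - permC (Perm (Fin 7)) (Fin 7)) (e.symm (MulAut.conj s)) = fS s
    rw [h1]
    rfl
  have hS : RChar fS := by
    rw [← hres]
    exact hπ'.comp (toJ ⊤ hNJ)
  have hind : ind fS = 1 := by
    rcases Cfsg.Agent.H694.ind_cases irr_fS with h | h | h
    · obtain ⟨g, hg⟩ := (Cfsg.Agent.H694.ind_eq_zero_iff irr_fS).1 h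
      exact absurd (Complex.conj_eq_iff_im.1 (hS.real g)) hg
    · exact h
    · obtain ⟨n, hn⟩ := hS.even fS irr_fS h
      rw [norm_fS] at hn
      have : (1 : ℤ) = 2 * n := by exact_mod_cast hn
      omega
  have hmu : mu fS fS = 1 := mu_eq (by rw [norm_fS]; norm_num)
  refine ⟨fS, irr_fS, by rw [deg_fS]; decide, by rw [deg_fS]; norm_num, fun _ => by rw [deg_fS]; norm_num,
    oext_of_real hc irr_fS hind ⊤ hNJ hπ' ?_ ?_⟩
  · rw [hres, hmu]
    exact odd_one
  · rw [Subgroup.relIndex_top_left]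
    exact odd_one

end Cfsg.Agent.H727.Orth.Seven
end

-- part: H612/UThreeLin
section
/-!
# The Borel subgroup of `SU₃(3)` in an orthogonal module of dimension 6

The linear algebra: `A`, `B` generate an extraspecial group of order 27 with centre generated by `X`, `S` has
order 8, inverts `X`, and `S ^ 2` maps `A` to `B` and `B` to `A⁻¹`. If `S` has determinant one, the space has no
nondegenerate invariant symmetric form.
-/

set_option autoImplicit false

namespace Cfsg.Agent.H612.UThreeLin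

open Module

variable {V : Type*} [AddCommGroup V] [Module ℂ V]

/-- The relations. -/
structure Rel (A B X S : V →ₗ[ℂ] V) : Prop where
  a3 : ∀ v, A (A (A v)) = v
  b3 : ∀ v, B (B (B v)) = v
  ab : ∀ v, A (B v) = X (B (A v))
  xa : ∀ v, X (A v) = A (X v)
  xb : ∀ v, X (B v) = B (X v)
  x3 : ∀ v, X (X (X v)) = v
  xs : ∀ v, X (S v) = S (X (X v))
  s8 : ∀ v, S (S (S (S (S (S (S (S v))))))) = v
  sa : ∀ v, S (S (A v)) = B (S (S v))
  sb : ∀ v, S (S (B v)) = A (A (S (S v)))

theorem exists_omega : ∃ ω : ℂ, ω ^ 2 + ω + 1 = 0 := by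
  obtain ⟨z, hz⟩ := IsAlgClosed.exists_pow_nat_eq (-3 : ℂ) (n := 2) (by norm_num)
  refine ⟨(-1 + z) / 2, ?_⟩
  linear_combination hz / 4

variable {A B X S : V →ₗ[ℂ] V}

/-- An eigenvector of `X`. -/
theorem exists_x (h : Rel A B X S) {ω : ℂ} (hω : ω ^ 2 + ω + 1 = 0) {v₀ : V} (hv₀ : X v₀ ≠ v₀) :
    ∃ u : V, u ≠ 0 ∧ X u = ω • u := by
  have h3 : ω ^ 3 = 1 := by linear_combination (ω - 1) * hω
  by_cases h1 : v₀ + ω ^ 2 • X v₀ + ω • X (X v₀) = 0
  · by_cases h2 : v₀ + ω • X v₀ + ω ^ 2 • X (X v₀) = 0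
    · exfalso
      have h4 : (ω ^ 2 - ω) • (X v₀ - X (X v₀)) = 0 := by
        have : (ω ^ 2 - ω) • (X v₀ - X (X v₀)) = (v₀ + ω ^ 2 • X v₀ + ω • X (X v₀)) -
            (v₀ + ω • X v₀ + ω ^ 2 • X (X v₀)) := by module
        rw [this, h1, h2, sub_zero]
      have h5 : ω ^ 2 - ω ≠ 0 := by
        intro h0
        have h6 : ω * (ω - 1) = 0 := by linear_combination h0
        rcases mul_eq_zero.1 h6 with h6 | h6
        · rw [h6] at hω
          norm_num at hω
        · have h7 : ω = 1 := by linear_combination h6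
          rw [h7] at hω
          norm_num at hω
      rcases smul_eq_zero.1 h4 with h4 | h4
      · exact h5 h4
      · have h6 : X v₀ = X (X v₀) := sub_eq_zero.1 h4
        have h7 := congrArg (fun w => X (X w)) h6
        beta_reduce at h7
        rw [h.x3] at h7
        exact hv₀ h7.symm
    · refine ⟨S (v₀ + ω • X v₀ + ω ^ 2 • X (X v₀)), ?_, ?_⟩
      · intro h0
        apply h2
        have h4 := h.s8 (v₀ + ω • X v₀ + ω ^ 2 • X (X v₀))
        rw [h0] at h4
        simp only [map_zero] at h4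
        exact h4.symm
      · rw [h.xs, ← map_smul]
        simp only [map_add, map_smul, h.x3]
        linear_combination (norm := module) - (h3 • S (X (X v₀)))
  · refine ⟨_, h1, ?_⟩
    simp only [map_add, map_smul, h.x3]
    linear_combination (norm := module) - (h3 • (X v₀))

/-- The vector `f₀`. -/
theorem exists_f (h : Rel A B X S) {ω : ℂ} (hω : ω ^ 2 + ω + 1 = 0) {v₀ : V} (hv₀ : X v₀ ≠ v₀) :
    ∃ (f : V) (ε : ℂ), f ≠ 0 ∧ A f = f ∧ X f = ω • f ∧ S (S (S (S f))) = ε • f ∧ ε ^ 2 = 1 := by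
  have h3 : ω ^ 3 = 1 := by linear_combination (ω - 1) * hω
  obtain ⟨u, hu, hXu⟩ := exists_x h hω hv₀
  -- an eigenvector of `A`
  obtain ⟨k, p, hp, hXp, hAp⟩ : ∃ (k : ℕ) (p : V), p ≠ 0 ∧ X p = ω • p ∧ A p = ω ^ k • p := by
    have hX1 : ∀ k : ℕ, X (u + ω ^ (2 * k) • A u + ω ^ k • A (A u)) =
        ω • (u + ω ^ (2 * k) • A u + ω ^ k • A (A u)) := by
      intro k
      simp only [map_add, map_smul, h.xa, hXu, smul_add]
      module
    have hA1 : ∀ k : ℕ, A (u + ω ^ (2 * k) • A u + ω ^ k • A (A u)) =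
        ω ^ k • (u + ω ^ (2 * k) • A u + ω ^ k • A (A u)) := by
      intro k
      simp only [map_add, map_smul, h.a3]
      have h4 : ω ^ (3 * k) = 1 := by rw [pow_mul, h3, one_pow]
      linear_combination (norm := (match_scalars <;> ring)) -(h4 • A u)
    by_contra hcon
    push Not at hcon
    have e : ∀ k : ℕ, u + ω ^ (2 * k) • A u + ω ^ k • A (A u) = 0 := by
      intro k
      by_contra hne
      exact hcon k _ hne (hX1 k) (hA1 k)
    have e0 := e 0
    have e1 := e 1
    have e2 := e 2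
    have h5 : (3 : ℂ) • u = 0 := by
      have h6 : ω ^ 4 = ω := by linear_combination ω * h3
      linear_combination (norm := (match_scalars <;> ring_nf)) e0 + e1 + e2 - (h6 • A u) - hω • A u - hω • A (A u)
    rcases smul_eq_zero.1 h5 with h5 | h5
    · norm_num at h5
    · exact hu h5
  -- make the eigenvalue one
  have step : ∀ j : ℕ, ∃ q : V, q ≠ 0 ∧ X q = ω • q ∧ A q = ω ^ (k + j) • q := by
    intro j
    induction j with
    | zero => exact ⟨p, hp, hXp, hAp⟩
    | succ j ih =>
      obtain ⟨q, hq, hXq, hAq⟩ := ih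
      refine ⟨B q, ?_, ?_, ?_⟩
      · intro h0
        apply hq
        have h4 := h.b3 q
        rw [h0] at h4
        simp only [map_zero] at h4
        exact h4.symm
      · rw [h.xb, hXq, map_smul]
      · rw [h.ab, hAq, map_smul, map_smul, h.xb, hXq, map_smul, smul_smul]
        congr 1
  obtain ⟨q, hq, hXq, hAq⟩ := step (2 * k)
  rw [show k + 2 * k = 3 * k by ring, pow_mul, h3, one_pow, one_smul] at hAq
  -- an eigenvector of `S ^ 4`
  have hT : A (S (S (S (S q)))) = S (S (S (S q))) := by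
    have h4 : S (S (S (S (A (A q))))) = A (S (S (S (S q)))) := by
      rw [h.sa, h.sb, h.sa, h.sb, h.a3]
    rw [← h4, hAq, hAq]
  have hX2 : ∀ v, X (S (S v)) = S (S (X v)) := by
    intro v
    have h4 := h.xs (X (S v))
    have h5 : X (S (S v)) = S (X (X (S v))) := h.xs (S v)
    rw [h5, h.xs, h.xs, h.x3]
  have hXT : X (S (S (S (S q)))) = ω • S (S (S (S q))) := by
    rw [hX2, hX2, hXq]
    simp only [map_smul]
  by_cases h4 : q + S (S (S (S q))) = 0
  · refine ⟨q, -1, hq, hAq, hXq, ?_, by norm_num⟩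
    rw [neg_one_smul]
    exact (neg_eq_of_add_eq_zero_right h4).symm
  · refine ⟨q + S (S (S (S q))), 1, h4, ?_, ?_, ?_, by norm_num⟩
    · rw [map_add, hAq, hT]
    · rw [map_add, hXq, hXT, smul_add]
    · simp only [map_add]
      rw [h.s8, one_smul, add_comm]

theorem det_anti (M : Matrix (Fin 3) (Fin 3) ℂ) :
    (Matrix.fromBlocks 0 M (1 : Matrix (Fin 3) (Fin 3) ℂ) 0).det = - M.det := by
  have h1 : (Matrix.fromBlocks (1 : Matrix (Fin 3) (Fin 3) ℂ) 1 0 1) *
      Matrix.fromBlocks 0 M (1 : Matrix (Fin 3) (Fin 3) ℂ) 0 =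
      Matrix.fromBlocks (1 : Matrix (Fin 3) (Fin 3) ℂ) M 1 0 := by
    rw [Matrix.fromBlocks_multiply]
    simp
  have h2 := congrArg Matrix.det h1
  rw [Matrix.det_mul, Matrix.det_fromBlocks_zero₂₁, Matrix.det_one, one_mul, one_mul,
    Matrix.det_fromBlocks_one₁₁] at h2
  rw [h2, one_mul, zero_sub, Matrix.det_neg, Fintype.card_fin]
  ring

/-- **No invariant symmetric form.** -/
theorem no_form (h : Rel A B X S) (h6 : finrank ℂ V = 6) {v₀ : V} (hv₀ : X v₀ ≠ v₀)
    (hdet : LinearMap.det S = 1) (F : V →ₗ[ℂ] V →ₗ[ℂ] ℂ) (hsym : ∀ v w, F v w = F w v)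
    (hFS : ∀ v w, F (S v) (S w) = F v w) (hFX : ∀ v w, F (X v) (X w) = F v w)
    (hnd : ∀ v, (∀ w, F v w = 0) → v = 0) : False := by
  obtain ⟨ω, hω⟩ := exists_omega
  have h3 : ω ^ 3 = 1 := by linear_combination (ω - 1) * hω
  have h4 : ω ^ 4 = ω := by linear_combination ω * h3
  have hne : ω ^ 2 - ω ≠ 0 := by
    intro h0
    have h6 : ω * (ω - 1) = 0 := by linear_combination h0
    rcases mul_eq_zero.1 h6 with h6 | h6
    · rw [h6] at hω
      norm_num at hω
    · have h7 : ω = 1 := by linear_combination h6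
      rw [h7] at hω
      norm_num at hω
  obtain ⟨f, ε, hf, hAf, hXf, hTf, hε⟩ := exists_f h hω hv₀
  have hAf1 : A (B f) = ω • B f := by rw [h.ab, hAf, h.xb, hXf, map_smul]
  have hXf1 : X (B f) = ω • B f := by rw [h.xb, hXf, map_smul]
  have hAf2 : A (B (B f)) = (-1 - ω) • B (B f) := by
    rw [h.ab, hAf1, map_smul, map_smul, h.xb, hXf1, map_smul, smul_smul]
    congr 1
    linear_combination hω
  have hXf2 : X (B (B f)) = ω • B (B f) := by rw [h.xb, hXf1, map_smul]
  have hXS : ∀ v, X v = ω • v → X (S v) = (-1 - ω) • S v := by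
    intro v hv
    rw [h.xs, hv, map_smul, hv, smul_smul, map_smul]
    congr 1
    linear_combination hω
  have hSinj : ∀ v, S v = 0 → v = 0 := by
    intro v hv
    have h5 := h.s8 v
    rw [hv] at h5
    simp only [map_zero] at h5
    exact h5.symm
  have hBinj : ∀ v, B v = 0 → v = 0 := by
    intro v hv
    have h5 := h.b3 v
    rw [hv] at h5
    simp only [map_zero] at h5
    exact h5.symm
  have hf1 : B f ≠ 0 := fun h0 => hf (hBinj _ h0)
  have hf2 : B (B f) ≠ 0 := fun h0 => hf1 (hBinj _ h0)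
  -- independence of the first three vectors
  have ind3 : ∀ a b c : ℂ, a • f + b • B f + c • B (B f) = 0 → a = 0 ∧ b = 0 ∧ c = 0 := by
    intro a b c h0
    have h1 := congrArg A h0
    have h2 := congrArg A h1
    simp only [map_add, map_smul, map_zero, hAf, hAf1, hAf2] at h1 h2
    have e0 : (3 * a) • f = 0 := by
      linear_combination (norm := module) h0 + h1 + h2 - (b * hω) • B f - (c * hω) • B (B f)
    have e1 : (3 * b) • B f = 0 := by
      linear_combination (norm := module) h0 + (-1 - ω) • h1 + ω • h2 - (b * (ω - 2) * hω) • B f -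
        (c * (ω + 2) * hω) • B (B f)
    have e2 : (3 * c) • B (B f) = 0 := by
      linear_combination (norm := module) h0 + ω • h1 + (-1 - ω) • h2 + (b * (ω - 1) * hω) • B f +
        (c * (ω + 3) * hω) • B (B f)
    refine ⟨?_, ?_, ?_⟩
    · have := (smul_eq_zero.1 e0).resolve_right hf
      linear_combination this / 3
    · have := (smul_eq_zero.1 e1).resolve_right hf1
      linear_combination this / 3
    · have := (smul_eq_zero.1 e2).resolve_right hf2
      linear_combination this / 3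
  have h12 : -1 - 2 * ω ≠ 0 := by
    intro h0
    have h1 : ω = -1 / 2 := by linear_combination -h0 / 2
    rw [h1] at hω
    norm_num at hω
  have ind6 : ∀ a b c a' b' c' : ℂ, a • f + b • B f + c • B (B f) +
      (a' • S f + b' • S (B f) + c' • S (B (B f))) = 0 →
      (a = 0 ∧ b = 0 ∧ c = 0) ∧ (a' = 0 ∧ b' = 0 ∧ c' = 0) := by
    intro a b c a' b' c' h0
    have h1 := congrArg X h0
    simp only [map_add, map_smul, map_zero, hXf, hXf1, hXf2, hXS _ hXf, hXS _ hXf1, hXS _ hXf2] at h1
    have h2 : (-1 - 2 * ω) • (a' • S f + b' • S (B f) + c' • S (B (B f))) = 0 := by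
      linear_combination (norm := module) h1 - ω • h0
    have h5 := (smul_eq_zero.1 h2).resolve_left h12
    rw [h5, add_zero] at h0
    refine ⟨ind3 _ _ _ h0, ind3 _ _ _ (hSinj _ ?_)⟩
    simpa only [map_add, map_smul] using h5
  -- the basis
  let v : Fin 3 ⊕ Fin 3 → V := Sum.elim ![f, B f, B (B f)] ![S f, S (B f), S (B (B f))]
  have hli : LinearIndependent ℂ v := by
    rw [Fintype.linearIndependent_iff]
    intro g hg
    rw [Fintype.sum_sum_type, Fin.sum_univ_three, Fin.sum_univ_three] at hg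
    obtain ⟨⟨h1, h2, h5⟩, h7, h8, h9⟩ := ind6 _ _ _ _ _ _ hg
    rintro (i | i)
    · fin_cases i
      exacts [h1, h2, h5]
    · fin_cases i
      exacts [h7, h8, h9]
  have : FiniteDimensional ℂ V := FiniteDimensional.of_finrank_pos (by omega)
  let bs : Basis (Fin 3 ⊕ Fin 3) ℂ V := basisOfLinearIndependentOfCardEqFinrank hli (by simp [h6])
  have hbs : ∀ i, bs i = v i := fun i => by
    rw [coe_basisOfLinearIndependentOfCardEqFinrank]
  have hexp : ∀ w : V, ∃ a b c a' b' c' : ℂ, w = a • f + b • B f + c • B (B f) +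
      (a' • S f + b' • S (B f) + c' • S (B (B f))) := by
    intro w
    have h1 := bs.sum_repr w
    rw [Fintype.sum_sum_type, Fin.sum_univ_three, Fin.sum_univ_three] at h1
    simp only [hbs] at h1
    exact ⟨_, _, _, _, _, _, h1.symm⟩
  -- the action of `S ^ 2`
  obtain ⟨c, hc⟩ : ∃ c : ℂ, S (S f) = c • f + c • B f + c • B (B f) := by
    obtain ⟨a, b, c, a', b', c', hw⟩ := hexp (S (S f))
    have h1 : X (S (S f)) = ω • S (S f) := by
      rw [h.xs, h.xs, h.xs, h.x3, hXf, map_smul, map_smul]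
    have h2 : B (S (S f)) = S (S f) := by rw [← h.sa, hAf]
    rw [hw] at h1 h2
    simp only [map_add, map_smul, hXf, hXf1, hXf2, hXS _ hXf, hXS _ hXf1, hXS _ hXf2] at h1
    obtain ⟨-, h5, h7, h8⟩ := ind6 0 0 0 ((-1 - 2 * ω) * a') ((-1 - 2 * ω) * b') ((-1 - 2 * ω) * c')
      (by linear_combination (norm := module) h1)
    have ha' := (mul_eq_zero.1 h5).resolve_left h12
    have hb' := (mul_eq_zero.1 h7).resolve_left h12
    have hc' := (mul_eq_zero.1 h8).resolve_left h12
    subst ha' hb' hc'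
    simp only [zero_smul, add_zero] at hw h2
    simp only [map_add, map_smul, h.b3] at h2
    obtain ⟨h9, h10, -⟩ := ind3 (c - a) (a - b) (b - c) (by linear_combination (norm := module) h2)
    have h11 : c = a := by linear_combination h9
    have h12 : b = a := by linear_combination -h10
    exact ⟨a, by rw [hw, h11, h12]⟩
  have hc1 : S (S (B f)) = c • f + (c * (-1 - ω)) • B f + (c * ω) • B (B f) := by
    rw [h.sb, hc]
    simp only [map_add, map_smul, hAf, hAf1, hAf2]
    linear_combination (norm := module) (c * hω) • B f + (c * hω) • B (B f)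
  have hc2 : S (S (B (B f))) = c • f + (c * ω) • B f + (c * (-1 - ω)) • B (B f) := by
    rw [h.sb, hc1]
    simp only [map_add, map_smul, hAf, hAf1, hAf2]
    linear_combination (norm := module) -(c * ω * hω) • B f + (c * (ω + 1) * hω) • B (B f)
  -- the determinant
  have hM : LinearMap.toMatrix bs bs S = Matrix.fromBlocks 0
      !![c, c, c; c, c * (-1 - ω), c * ω; c, c * ω, c * (-1 - ω)] (1 : Matrix (Fin 3) (Fin 3) ℂ) 0 := by
    have hcol : ∀ (j : Fin 3 ⊕ Fin 3) (M : Matrix (Fin 3 ⊕ Fin 3) (Fin 3 ⊕ Fin 3) ℂ),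
        S (v j) = ∑ i, M i j • v i → ∀ i, LinearMap.toMatrix bs bs S i j = M i j := by
      intro j M hj i
      rw [LinearMap.toMatrix_apply, hbs, hj, map_sum, Finsupp.finsetSum_apply]
      rw [Finset.sum_eq_single i]
      · rw [map_smul, ← hbs, Finsupp.smul_apply, Basis.repr_self, Finsupp.single_eq_same, smul_eq_mul,
          mul_one]
      · intro k _ hk
        rw [map_smul, ← hbs, Finsupp.smul_apply, Basis.repr_self, Finsupp.single_eq_of_ne hk.symm,
          smul_zero]
      · intro hi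
        exact absurd (Finset.mem_univ _) hi
    ext i j
    apply hcol
    rw [Fintype.sum_sum_type, Fin.sum_univ_three, Fin.sum_univ_three]
    rcases j with j | j
    · fin_cases j <;> simp [v, Matrix.fromBlocks]
    · (revert j; simp only [v, Matrix.fromBlocks, hc, hc1, hc2, _root_.Fin.forall_fin_succ, _root_.Sum.elim_inr, Fin.isValue, _root_.Matrix.of_apply, _root_.Sum.elim_inl, _root_.Matrix.cons_val', _root_.Matrix.cons_val_fin_one, _root_.Matrix.cons_val_zero, _root_.Matrix.cons_val_one, _root_.Matrix.cons_val, _root_.Matrix.zero_apply, _root_.zero_smul, _root_.add_zero, _root_.Matrix.cons_val_succ, _root_.implies_true, _root_.and_self])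
  have hdM : (!![c, c, c; c, c * (-1 - ω), c * ω; c, c * ω, c * (-1 - ω)] : Matrix (Fin 3) (Fin 3) ℂ).det =
      3 * c ^ 3 * (1 + 2 * ω) := by
    rw [Matrix.det_fin_three]
    simp only [_root_.Fin.isValue, _root_.Matrix.of_apply, _root_.Matrix.cons_val', _root_.Matrix.cons_val_zero, _root_.Matrix.cons_val_fin_one, _root_.Matrix.cons_val_one, _root_.Matrix.cons_val]
    ring
  rw [← LinearMap.det_toMatrix bs, hM, det_anti, hdM] at hdet
  have hε3 : 3 * c ^ 2 = ε := by
    have h1 : S (S (S (S f))) = (3 * c ^ 2) • f := by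
      rw [hc]
      simp only [map_add, map_smul, hc, hc1, hc2]
      module
    rw [hTf] at h1
    obtain ⟨h2, -, -⟩ := ind3 (ε - 3 * c ^ 2) 0 0 (by linear_combination (norm := module) h1)
    linear_combination -h2
  have hdet2 : -ε * (c * (1 + 2 * ω)) = 1 := by
    rw [← hε3]
    linear_combination hdet
  have hsq : (1 + 2 * ω) ^ 2 = -3 := by linear_combination 4 * hω
  have hε1 : ε = -1 := by
    have h1 : (-ε * (c * (1 + 2 * ω))) ^ 2 = 1 := by rw [hdet2, one_pow]
    have h2 : ε ^ 2 * c ^ 2 * (1 + 2 * ω) ^ 2 = 1 := by linear_combination h1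
    rw [hε, hsq] at h2
    linear_combination -h2 - hε3
  have hc3 : c * (1 + 2 * ω) = 1 := by
    rw [hε1] at hdet2
    linear_combination hdet2
  have hc4 : 3 * c ^ 2 = -1 := by rw [hε3, hε1]
  have hg : S (S (B f - B (B f))) = -(B f - B (B f)) := by
    rw [map_sub, map_sub, hc1, hc2]
    linear_combination (norm := module) -(hc3 • B f) + hc3 • B (B f)
  have hgT : S (S (S (S (B f - B (B f))))) = B f - B (B f) := by
    rw [hg, map_neg, map_neg, hg, neg_neg]
  have hp : S (S (S (S (B f + B (B f))))) = -(B f + B (B f)) := by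
    rw [map_add, map_add, hc1, hc2]
    simp only [map_add, map_smul, hc, hc1, hc2]
    linear_combination (norm := module) hc4 • B f + hc4 • B (B f)
  have hfT : S (S (S (S f))) = -f := by rw [hTf, hε1, neg_one_smul]
  have k1 : F (B f - B (B f)) (S (B f - B (B f))) = 0 := by
    have h1 := hFS (B f - B (B f)) (S (B f - B (B f)))
    rw [hg, map_neg, hsym (S _)] at h1
    linear_combination -h1 / 2
  have kT : ∀ w, S (S (S (S w))) = -w → F (B f - B (B f)) (S w) = 0 := by
    intro w hw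
    have h1 : F (S (S (S (S (B f - B (B f)))))) (S (S (S (S (S w))))) = F (B f - B (B f)) (S w) := by
      rw [hFS, hFS, hFS, hFS]
    rw [hgT, hw, map_neg, map_neg] at h1
    linear_combination -h1 / 2
  have kX : ∀ w, X w = ω • w → F (B f - B (B f)) w = 0 := by
    intro w hw
    have h1 := hFX (B f - B (B f)) w
    rw [map_sub, hXf1, hXf2, ← smul_sub, hw, map_smul, map_smul, LinearMap.smul_apply, smul_eq_mul,
      smul_eq_mul] at h1
    have h2 : (-2 - ω) * F (B f - B (B f)) w = 0 := by linear_combination h1 - hω * F (B f - B (B f)) w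
    refine (mul_eq_zero.1 h2).resolve_left fun h0 => ?_
    have h5 : ω = -2 := by linear_combination -h0
    rw [h5] at hω
    norm_num at hω
  have hzero : B f - B (B f) = 0 := by
    apply hnd
    intro w
    obtain ⟨a, b, c, a', b', c', hw⟩ := hexp w
    have h1 := kT f hfT
    have h2 := kT _ hp
    rw [map_add, map_add] at h2
    have h5 := k1
    rw [map_sub S, map_sub (F _)] at h5
    rw [hw]
    simp only [map_add (F _), map_smul (F _), smul_eq_mul]
    rw [kX f hXf, kX _ hXf1, kX _ hXf2, h1]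
    linear_combination (b' / 2) * (h2 + h5) + (c' / 2) * (h2 - h5)
  obtain ⟨-, h1, -⟩ := ind3 0 1 (-1) (by linear_combination (norm := module) hzero)
  exact one_ne_zero h1

end Cfsg.Agent.H612.UThreeLin
end

-- part: H612/UThree
section
/-!
# The orthogonal characters of `PSU₃(3)`

`psu33_ind` : an irreducible character of `PSU₃(3)` of even degree and of indicator one has degree at least `8`.
-/

set_option autoImplicit false

namespace Cfsg.Agent.H612.UThree

open Cfsg Module
open Cfsg.Agent.Classification.RTwo.UThreeThree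
open Cfsg.Agent.H612.UThreeLin
open Cfsg.Agent.H705.StrongLin (ind ind_eq)

/-- The element of order 8. -/
def matS : Matrix (Fin 3) (Fin 3) K9 :=
  !![⟨0, 0⟩, ⟨0, 0⟩, ⟨1, 0⟩; ⟨0, 0⟩, ⟨0, 1⟩, ⟨0, 0⟩; ⟨0, 1⟩, ⟨0, 0⟩, ⟨0, 0⟩]

/-- The element of order 3. -/
def matP : Matrix (Fin 3) (Fin 3) K9 :=
  !![⟨0, 0⟩, ⟨2, 1⟩, ⟨1, 1⟩; ⟨1, 1⟩, ⟨1, 0⟩, ⟨0, 1⟩; ⟨1, 2⟩, ⟨0, 1⟩, ⟨2, 0⟩]

/-- Its image. -/
def matQ : Matrix (Fin 3) (Fin 3) K9 :=
  !![⟨0, 0⟩, ⟨1, 1⟩, ⟨1, 1⟩; ⟨2, 1⟩, ⟨1, 0⟩, ⟨2, 0⟩; ⟨1, 2⟩, ⟨1, 0⟩, ⟨2, 0⟩]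

/-- The central element. -/
def matX : Matrix (Fin 3) (Fin 3) K9 :=
  !![⟨1, 2⟩, ⟨0, 0⟩, ⟨2, 1⟩; ⟨0, 0⟩, ⟨1, 0⟩, ⟨0, 0⟩; ⟨1, 1⟩, ⟨0, 0⟩, ⟨1, 1⟩]

theorem isGood_S : IsGood matS := by decide +kernel
theorem isGood_P : IsGood matP := by decide +kernel
theorem isGood_Q : IsGood matQ := by decide +kernel
theorem isGood_X : IsGood matX := by decide +kernel

theorem e1 : matP * (matP * matP) = 1 := by decide +kernel
theorem e2 : matQ * (matQ * matQ) = 1 := by decide +kernel
theorem e3 : matP * matQ = matX * (matQ * matP) := by decide +kernel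
theorem e4 : matX * matP = matP * matX := by decide +kernel
theorem e5 : matX * matQ = matQ * matX := by decide +kernel
theorem e6 : matX * (matX * matX) = 1 := by decide +kernel
theorem e7 : matX * matS = matS * (matX * matX) := by decide +kernel
theorem e8 : matS * (matS * (matS * (matS * (matS * (matS * (matS * matS)))))) = 1 := by decide +kernel
theorem e9 : matS * (matS * matP) = matQ * (matS * matS) := by decide +kernel
theorem e10 : matS * (matS * matQ) = matP * (matP * (matS * matS)) := by decide +kernel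
theorem e11 : matX ≠ 1 := by decide +kernel

/-- The relations in a group. -/
structure RelG {G : Type*} [Group G] (a b x s : G) : Prop where
  a3 : a * (a * a) = 1
  b3 : b * (b * b) = 1
  ab : a * b = x * (b * a)
  xa : x * a = a * x
  xb : x * b = b * x
  x3 : x * (x * x) = 1
  xs : x * s = s * (x * x)
  s8 : s * (s * (s * (s * (s * (s * (s * s)))))) = 1
  sa : s * (s * a) = b * (s * s)
  sb : s * (s * b) = a * (a * (s * s))
  ne : x ≠ 1

theorem relG_SU : RelG isGood_P.su isGood_Q.su isGood_X.su isGood_S.su where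
  a3 := su_ext e1
  b3 := su_ext e2
  ab := su_ext e3
  xa := su_ext e4
  xb := su_ext e5
  x3 := su_ext e6
  xs := su_ext e7
  s8 := su_ext e8
  sa := su_ext e9
  sb := su_ext e10
  ne := fun h => e11 (congrArg (fun x : Cfsg.SU 3 K9 3 =>
    ((x : Matrix.SpecialLinearGroup (Fin 3) K9) : Matrix (Fin 3) (Fin 3) K9)) h)

theorem RelG.map {G H : Type*} [Group G] [Group H] (e : G ≃* H) {a b x s : G} (h : RelG a b x s) :
    RelG (e a) (e b) (e x) (e s) where
  a3 := by rw [← map_mul, ← map_mul, h.a3, map_one]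
  b3 := by rw [← map_mul, ← map_mul, h.b3, map_one]
  ab := by rw [← map_mul, ← map_mul, ← map_mul, h.ab]
  xa := by rw [← map_mul, ← map_mul, h.xa]
  xb := by rw [← map_mul, ← map_mul, h.xb]
  x3 := by rw [← map_mul, ← map_mul, h.x3, map_one]
  xs := by rw [← map_mul, ← map_mul, ← map_mul, h.xs]
  s8 := by simp only [← map_mul]; rw [h.s8, map_one]
  sa := by simp only [← map_mul]; rw [h.sa]
  sb := by simp only [← map_mul]; rw [h.sb]
  ne := fun h1 => h.ne (e.injective (by rw [h1, map_one]))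

theorem RelG.rel {G V : Type*} [Group G] [AddCommGroup V] [Module ℂ V] (ρ : Representation ℂ G V)
    {a b x s : G} (h : RelG a b x s) : _root_.Cfsg.Agent.H612.UThreeLin.Rel (ρ a) (ρ b) (ρ x) (ρ s) := by
  have key : ∀ {g k : G}, g = k → ∀ v, ρ g v = ρ k v := fun h v => by rw [h]
  constructor
  · intro v
    simpa only [_root_.map_mul, _root_.Module.End.mul_apply, _root_.map_one, _root_.Module.End.one_apply] using key h.a3 v
  · intro v
    simpa only [_root_.map_mul, _root_.Module.End.mul_apply, _root_.map_one, _root_.Module.End.one_apply] using key h.b3 v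
  · intro v
    simpa only [_root_.map_mul, _root_.Module.End.mul_apply] using key h.ab v
  · intro v
    simpa using key h.xa v
  · intro v
    simpa using key h.xb v
  · intro v
    simpa using key h.x3 v
  · intro v
    simpa using key h.xs v
  · intro v
    simpa only [_root_.map_mul, _root_.Module.End.mul_apply, _root_.map_one, _root_.Module.End.one_apply] using key h.s8 v
  · intro v
    simpa only [_root_.map_mul, _root_.Module.End.mul_apply] using key h.sa v
  · intro v
    simpa only [_root_.map_mul, _root_.Module.End.mul_apply] using key h.sb v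

universe u

theorem no_six {G : Type u} [Group G] [Finite G] [IsSimpleGroup G] (hperf : commutator G = ⊤) {a b x s : G}
    (h : RelG a b x s) {θ : G → ℂ} (hθ : IsIrrCharacter G θ) (h1 : ind θ = 1) : charDegree θ ≠ 6 := by
  intro h6
  let _ : Fintype G := Fintype.ofFinite G
  obtain ⟨n, ρ, hρ, hθ'⟩ := id hθ
  have hn : n = 6 := by
    rw [← h6]
    unfold charDegree
    rw [← hθ', Representation.char_one, Module.finrank_fin_fun]
    simp
  subst hn
  -- the kernel
  have hx : ∃ v, ρ x v ≠ v := by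
    by_contra hcon
    push Not at hcon
    let N : Subgroup G := ρ.asGroupHom.ker
    have hxN : x ∈ N := by
      rw [MonoidHom.mem_ker]
      apply Units.ext
      refine LinearMap.ext fun v => ?_
      exact hcon v
    have hN : N = ⊤ := by
      rcases IsSimpleGroup.eq_bot_or_eq_top_of_normal N inferInstance with h2 | h2
      · rw [h2] at hxN
        exact absurd (Subgroup.mem_bot.1 hxN) h.ne
      · exact h2
    have h2 : ∀ g, θ g = 6 := by
      intro g
      have h3 : g ∈ N := hN ▸ Subgroup.mem_top g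
      rw [MonoidHom.mem_ker] at h3
      have h4 : ρ g = 1 := congrArg Units.val h3
      rw [← hθ']
      unfold Representation.character
      rw [h4]
      simp
    have h3 := Cfsg.Agent.Characters.Core.classInner_irr_self hθ
    unfold classInner at h3
    have h4 : ((6 : ℂ) * 6) = 1 := by
      have h5 : (Nat.card G : ℂ) ≠ 0 := by exact_mod_cast Nat.card_pos.ne'
      rw [← h3]
      simp only [h2, Finset.sum_const, Finset.card_univ, ← Nat.card_eq_fintype_card, nsmul_eq_mul, map_ofNat]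
      field_simp
    norm_num at h4
  obtain ⟨v₀, hv₀⟩ := hx
  -- the determinant
  have hdet : LinearMap.det (ρ s) = 1 := by
    let f : G →* ℂ := (LinearMap.det : ((Fin 6 → ℂ) →ₗ[ℂ] (Fin 6 → ℂ)) →* ℂ).comp ρ
    have h2 : s ∈ (MonoidHom.toHomUnits f).ker := by
      have h3 := Abelianization.commutator_subset_ker (MonoidHom.toHomUnits f)
      rw [hperf] at h3
      exact h3 (Subgroup.mem_top _)
    rw [MonoidHom.mem_ker] at h2
    have h3 := congrArg Units.val h2
    exact h3
  -- the form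
  rw [← hθ'] at h1
  have := hρ
  obtain ⟨F, hF, hFs⟩ := Cfsg.Agent.H694.exists_form ρ one_ne_zero h1
  have hFb := Cfsg.Agent.S0158.bijective_of_ne_zero ρ F hF
  have hinv : ∀ (g : G) (v w : Fin 6 → ℂ), F (ρ g v) (ρ g w) = F v w := by
    intro g v w
    exact Cfsg.Agent.S0158.dual_swap ρ F g v w
  refine no_form (h.rel ρ) (by simp) hv₀ hdet F.toLinearMap (fun v w => ?_) (fun v w => hinv s v w)
    (fun v w => hinv x v w) fun v hv => ?_
  · have := hFs v w
    rw [one_mul] at this
    exact this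
  · apply hFb.1
    have h3 : F v = 0 := LinearMap.ext fun w => hv w
    exact h3.trans (map_zero F.toLinearMap).symm

open Cfsg.Agent.H612.DegEight Cfsg.Agent.OrdDiv Cfsg.Agent.H324.Hall Cfsg.Agent.H715.HeisDeg Cfsg.Agent.H715.Lie Cfsg.Agent.H715

/-- Nontrivial representations have dimension at least `6`. -/
theorem bigDeg {T : Type u} [Group T] [Finite T] [IsSimpleGroup T] {F : Type} [Field F] [Fintype F]
    (hF : Fintype.card F = 9) (e : T ≃* PSU 3 F 3) : BigDeg T 5 := by
  have hq : Fintype.card F = 3 ^ 2 := by rw [hF]; norm_num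
  have hperf : commutator (SU 3 F 3) = ⊤ := Cfsg.Agent.GpUn.perfect_SU hq le_rfl (by omega)
  obtain ⟨φ, -, hφ, -⟩ := exists_quot (Γ := SU 3 F 3) e
  refine bigDeg_of_irr hperf φ hφ fun k ρ hρ hk => ?_
  have h4 := Cfsg.Agent.H119.SUBound.bound hq le_rfl (by omega) ρ hρ (by simpa only [_root_.Module.finrank_fintype_fun_eq_card, _root_.Fintype.card_fin] using hk)
  rw [Module.finrank_fin_fun] at h4
  refine lt_of_lt_of_le ?_ h4
  have h5 : (3 - 1) * 3 ^ 1 ≤ Cfsg.Agent.H119.bd 3 (1 + 2) := Nat.le_add_right _ _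
  exact lt_of_lt_of_le (by norm_num) h5

/-- **(F)** Orthogonal characters of even degree of `PSU₃(3)` have degree at least `8`. -/
theorem deg8_of_equiv {T : Type u} [Group T] [Finite T] [IsSimpleGroup T] {F : Type} [Field F] [Fintype F]
    (hF : Fintype.card F = 9) (e : T ≃* PSU 3 F 3) (θ : T → ℂ) (hθ : IsIrrCharacter T θ) (h1 : ind θ = 1)
    (he : Even (charDegree θ)) : 8 ≤ charDegree θ := by
  have h5 : 5 < charDegree θ :=
    lt_charDegree (bigDeg hF e) θ hθ (fun h => by rw [h] at he; exact absurd he (by decide))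
  have hcard : Fintype.card F = Fintype.card K9 := by rw [hF, card_k9]
  obtain ⟨e'⟩ : Nonempty (F ≃+* K9) := ⟨FiniteField.ringEquivOfCardEq hcard⟩
  let E : T ≃* Cfsg.SU 3 K9 3 :=
    e.trans ((psuEquiv hF).trans (Cfsg.Agent.LieClassical.FieldTransfer.suCongr 3 3 e'))
  have hr := relG_SU.map E.symm
  have hnc : ∃ a b : T, a * b ≠ b * a := by
    by_contra hcon
    push Not at hcon
    have h2 := hr.xs
    rw [hcon] at h2
    have h3 := mul_left_cancel h2
    have h4 : E.symm isGood_X.su = 1 := by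
      have h6 := hr.x3
      rw [← h3] at h6
      have h7 : E.symm isGood_X.su * E.symm isGood_X.su = 1 := h6
      rw [← h3] at h7
      exact h7
    exact hr.ne h4
  have hperf : commutator T = ⊤ := by
    rcases IsSimpleGroup.eq_bot_or_eq_top_of_normal (commutator T) inferInstance with h2 | h2
    · exfalso
      obtain ⟨a, b, hab⟩ := hnc
      apply hab
      have h3 : a * b * a⁻¹ * b⁻¹ ∈ commutator T := Subgroup.commutator_mem_commutator (Subgroup.mem_top _) (Subgroup.mem_top _)
      rw [h2, Subgroup.mem_bot] at h3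
      rw [mul_inv_eq_one, mul_inv_eq_iff_eq_mul] at h3
      exact h3
    · exact h2
  have h6 := no_six hperf hr hθ h1
  obtain ⟨k, hk⟩ := he
  omega

end Cfsg.Agent.H612.UThree
end

-- part: H727/Orth/Table
section
/-!
# Rows: alternating groups, Lie type, Tits
-/

set_option autoImplicit false
set_option linter.unusedSectionVars false
set_option linter.style.haveILetI false

namespace Cfsg.Agent.H727.Orth

open Cfsg
open Cfsg.Agent.Characters.Core
open Cfsg.Agent.H705.StrongLin (ind)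

universe u

variable {S : Type u} [Group S] [Finite S] [IsSimpleGroup S]

theorem not_comm_of (hS : ¬ IsMulCommutative S) : ¬ ∀ a b : S, a * b = b * a :=
  fun h => hS ⟨⟨h⟩⟩

theorem row_psl2 (hS : ¬ IsMulCommutative S) {F : Type} [Field F] [Fintype F]
    (e : S ≃* Matrix.ProjectiveSpecialLinearGroup (Fin 2) F) : OrthRow S := by
  classical
  have hc := center_eq_bot hS
  have h60 : 60 ≤ Nat.card S := H894.sixty_le hS
  have hfin : Finite (Matrix.ProjectiveSpecialLinearGroup (Fin 2) F) := Finite.of_equiv S e.toEquiv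
  rw [Nat.card_congr e.toEquiv] at h60
  rcases Nat.even_or_odd (Fintype.card F) with hev | hodd
  · obtain ⟨p, hp⟩ := CharP.exists F
    have hpp : p.Prime := (CharP.char_is_prime_or_zero F p).resolve_right (CharP.char_ne_zero_of_finite F p)
    have h2 : p = 2 := by
      have : Fact p.Prime := ⟨hpp⟩
      obtain ⟨n, -, hn⟩ := FiniteField.card F p
      rw [hn] at hev
      by_contra h
      exact (Nat.not_even_iff_odd.2 (hpp.odd_of_ne_two h).pow) hev
    subst h2
    refine orthRow_lie_two hS (Or.inl ⟨F, inferInstance, inferInstance, hp, 2, le_rfl, fun _ => ?_, ⟨e⟩⟩)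
    by_contra h
    have h3 : Fintype.card F = 2 := by
      have h4 : 1 < Fintype.card F := Fintype.one_lt_card
      obtain ⟨k, hk⟩ := hev
      omega
    have h5 : Nat.card (Matrix.ProjectiveSpecialLinearGroup (Fin 2) F) ≤
        Nat.card (Matrix.SpecialLinearGroup (Fin 2) F) :=
      Nat.card_le_card_of_surjective _ (QuotientGroup.mk'_surjective _)
    have h6 : Nat.card (Matrix.SpecialLinearGroup (Fin 2) F) ≤ Nat.card (Matrix (Fin 2) (Fin 2) F) :=
      Nat.card_le_card_of_injective _ Subtype.val_injective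
    have h7 : Nat.card (Matrix (Fin 2) (Fin 2) F) = 16 := by
      show Nat.card (Fin 2 → Fin 2 → F) = 16
      rw [Nat.card_fun, Nat.card_fun, Nat.card_eq_fintype_card (α := F), h3, Nat.card_eq_fintype_card,
        Fintype.card_fin]
      norm_num
    omega
  · refine OrthRow.congr e.symm (orthRow_psl2 hodd ?_ (center_bot_of_equiv e hc))
    by_contra h
    have h3 : Fintype.card F = 3 := by
      have h4 : 1 < Fintype.card F := Fintype.one_lt_card
      obtain ⟨k, hk⟩ := hodd
      omega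
    have hcard := Cfsg.Agent.SmallSimple.PSLTwoPart.card_psl_two_odd hodd
    rw [h3] at hcard
    omega

theorem row_alt (hS : ¬ IsMulCommutative S) (h : IsAlternating S) : OrthRow S := by
  obtain ⟨n, hn, ⟨e⟩⟩ := h
  rcases Nat.lt_or_ge n 8 with h8 | h8
  · interval_cases n
    · have : Fact (Nat.Prime 5) := ⟨by norm_num⟩
      obtain ⟨f⟩ := Cfsg.Agent.S0253.result (F := ZMod 5) (ZMod.card 5)
      exact row_psl2 hS (e.trans f.symm)
    · have : Fact (Nat.Prime 3) := ⟨by norm_num⟩
      letI : Fintype (GaloisField 3 2) := Fintype.ofFinite _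
      obtain ⟨f⟩ := Cfsg.Agent.S0254.result (F := GaloisField 3 2) (by
        rw [← Nat.card_eq_fintype_card, GaloisField.card 3 2 (by norm_num)]
        norm_num)
      exact row_psl2 hS (e.trans f.symm)
    · exact OrthRow.congr e.symm Seven.orthRow_seven
  · exact OrthRow.congr e.symm (orthRow_alt h8)

theorem row_psp23 (hS : ¬ IsMulCommutative S) {F : Type} [Field F] [Fintype F] (hF : Fintype.card F = 3)
    (e : S ≃* PSp 2 F) : OrthRow S := by
  letI iF : Fintype (GaloisField 2 2) := Fintype.ofFinite _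
  have hK : Fintype.card (GaloisField 2 2) = 4 := by
    rw [← Nat.card_eq_fintype_card, GaloisField.card 2 2 (by norm_num)]
    norm_num
  obtain ⟨f⟩ := Cfsg.Agent.S0822.result (F := GaloisField 2 2) (K := F) hK hF
  refine orthRow_lie_two hS (Or.inr (Or.inr (Or.inl ⟨GaloisField 2 2, inferInstance, inferInstance, inferInstance, 4, 2, ?_,
    by norm_num, by norm_num, ⟨e.trans f.symm⟩⟩)))
  rw [hK]
  norm_num

theorem row_lie_odd (hS : ¬ IsMulCommutative S) {p : ℕ} (hp : p.Prime) (hp2 : p ≠ 2)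
    (h : IsLieTypeChar p S) : OrthRow S := by
  have hc := center_eq_bot hS
  have hna := not_comm_of hS
  push Not at hna
  by_cases h1 : ∃ (F : Type) (_ : Field F) (_ : Fintype F),
      Nonempty (S ≃* Matrix.ProjectiveSpecialLinearGroup (Fin 2) F)
  · obtain ⟨F, _, _, ⟨e⟩⟩ := h1
    exact row_psl2 hS e
  by_cases h2 : ∃ (F : Type) (_ : Field F) (_ : Fintype F), Fintype.card F = 3 ∧ Nonempty (S ≃* PSp 2 F)
  · obtain ⟨F, _, _, hF, ⟨e⟩⟩ := h2
    exact row_psp23 hS hF e
  obtain ⟨θ, h3, h4, h5, h6⟩ := evenO_lie_odd hc hp hp2 h h1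
  have h7 : 8 ≤ charDegree θ := by
    by_cases h8 : ∃ (F : Type) (_ : Field F) (_ : Fintype F), Fintype.card F = 9 ∧ Nonempty (S ≃* PSU 3 F 3)
    · obtain ⟨F, _, _, hF, ⟨e⟩⟩ := h8
      exact H612.UThree.deg8_of_equiv hF e θ h3 h4 h5
    · exact H612.DegEight.deg8_of_lie_odd_iso hp hp2 hna h h1 h2 h8 θ h3 h5
  exact ⟨θ, h3, h5, by omega, fun _ => h7, h6⟩

theorem row_tits (hS : ¬ IsMulCommutative S) (h : Lie.IsoTits S) : OrthRow S :=
  (tits_evenO h (center_eq_bot hS)).orthRow (SporOne.tits_deg8 h (not_comm_of hS))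

/-- **The reduction to the sporadic groups.** -/
theorem row_of_known (hS : ¬ IsMulCommutative S) (h : IsKnownSimple' S)
    (hsp : IsSporadicGroup S → OrthRow S) : OrthRow S := by
  rcases Cfsg.Agent.OddHalf.Known.classify hS h with h | ⟨p, hp, hp2, h⟩ | (h | h) | h
  · exact row_alt hS h
  · exact row_lie_odd hS hp hp2 h
  · exact orthRow_lie_two hS h
  · exact row_tits hS h
  · exact hsp h

end Cfsg.Agent.H727.Orth
end

private theorem dce_ece3e5f0fa0d : _root_.True := by
  try have : _root_.True := by simp only [_root_.Cfsg.Agent.H727.Orth.Seven.fS.eq_1]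
  exact _root_.True.intro
end

-- part: S4869
section
prune_inst 0x15000110080002000000059451001c4286000090000b0000d1000f420686586040020720c8000d181000200400300000000000800040000004000000011800808000000081480008200019000000010000000000000000000000000000041000004010000
set_option linter.all false
open scoped Cfsg.Agent.FastGrp

-- part: H253/Orth/J2Sixteen
section
/-!
# An elementary abelian subgroup of order 16 of the Hall-Janko group (helper253)

`elt i` (`i < 16`): `elt i * elt j = elt (i xor j)`; `elt 1`, `elt 2`, `elt 3` are conjugate to `pA`, the other twelve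
nontrivial elements are conjugate to `pD`.
-/

set_option autoImplicit false
set_option maxRecDepth 100000

namespace Cfsg.Agent.H253.Orth.J2

open Equiv Cfsg.Agent.SporadicA.PermTab Cfsg.Agent.SporadicA.J2Data Cfsg.Agent.SporadicA.J2Hundred

/-- the generators -/
noncomputable def pg : ℕ → Perm (Fin 100)
  | 0 => pA
  | 1 => pB
  | 2 => pC
  | 3 => pD
  | _ => pE

/-- their tables -/
def tg : ℕ → ℕ
  | 0 => tA
  | 1 => tB
  | 2 => tC
  | 3 => tD
  | _ => tE

theorem pg_val : ∀ (k : ℕ) (i : Fin 100), ((pg k i : Fin 100) : ℕ) = lk (tg k) i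
  | 0, _ => rfl
  | 1, _ => rfl
  | 2, _ => rfl
  | 3, _ => rfl
  | _ + 4, _ => rfl

theorem pg_mem : ∀ k : ℕ, pg k ∈ G
  | 0 => mA
  | 1 => mB
  | 2 => mC
  | 3 => mD
  | _ + 4 => mE

theorem tg_sq : ∀ k : ℕ, chkInv 100 (tg k) (tg k) = true
  | 0 => iA
  | 1 => iB
  | 2 => iC
  | 3 => iD
  | _ + 4 => iE

theorem pg_sq (k : ℕ) : pg k * pg k = 1 := by
  ext i
  rw [Perm.mul_apply, Perm.one_apply, pg_val, pg_val]
  exact (chkInv_spec (tg_sq k) i).2.2.1

theorem pg_inv (k : ℕ) : (pg k)⁻¹ = pg k := inv_eq_of_mul_eq_one_left (pg_sq k)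

/-- the element of a word -/
noncomputable def wp (w : List ℕ) : Perm (Fin 100) := (w.map pg).prod

/-- its values -/
def we (w : List ℕ) (i : ℕ) : ℕ := List.rec i (fun k _ ih => lk (tg k) ih) w

theorem wp_cons (k : ℕ) (w : List ℕ) : wp (k :: w) = pg k * wp w := by
  rw [wp, List.map_cons, List.prod_cons]
  rfl

theorem wp_val (w : List ℕ) (i : Fin 100) : ((wp w i : Fin 100) : ℕ) = we w i := by
  induction w with
  | nil => rfl
  | cons k w ih =>
    rw [wp_cons, Perm.mul_apply, pg_val, ih]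
    rfl

theorem wp_append (v w : List ℕ) : wp (v ++ w) = wp v * wp w := by
  rw [wp, wp, wp, List.map_append, List.prod_append]

theorem wp_mem (w : List ℕ) : wp w ∈ G := by
  induction w with
  | nil => exact one_mem _
  | cons k w ih =>
    rw [wp_cons]
    exact mul_mem (pg_mem k) ih

theorem wp_reverse (w : List ℕ) : wp w.reverse = (wp w)⁻¹ := by
  induction w with
  | nil => simp [wp]
  | cons k w ih =>
    rw [List.reverse_cons, wp_append, ih, wp_cons, wp_cons, mul_inv_rev, pg_inv]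
    simp [wp]

/-- the conjugating words -/
def cw : ℕ → List ℕ
  | 0 => []
  | 1 => [0, 1, 0, 1]
  | 2 => [3, 2, 1]
  | 3 => [3, 0, 1, 2, 1, 0, 1]
  | 4 => [4, 0, 1, 0, 1, 2]
  | 5 => [4, 3, 0, 1, 0, 1, 2]
  | 6 => [0, 1, 2, 3, 0, 1, 2, 3, 4, 2, 1, 0, 1, 2, 3, 2]
  | 7 => [2, 1, 0, 1, 2, 3, 2, 3, 4, 1, 2, 3, 2]
  | 8 => [3, 2, 3, 4, 1, 2]
  | 9 => [3, 4, 2, 3, 2, 3, 1, 2, 3, 4, 2, 1, 0, 1, 2, 3, 2]
  | 10 => [3, 2, 3, 4, 3, 1, 2]
  | 11 => [2, 3, 0, 1, 2, 3, 4, 2, 1, 0, 1, 2, 3, 1, 2]
  | 12 => [3, 0, 1, 2, 3, 4, 1, 0, 1, 2]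
  | 13 => [2, 3, 1, 2, 3, 4, 0, 1, 0, 1, 2, 3, 0, 1, 2]
  | 14 => [2, 0, 1, 0, 1, 2, 3, 2, 3, 4, 1, 2, 3, 0, 1, 2]
  | _ => [3, 0, 1, 2, 3, 4, 3, 1, 0, 1, 2]

/-- the tables of the sixteen elements -/
def vt : ℕ → ℕ
  | 0 => 0xc6188308600be1782e85c0b61682c8580ae1582a8540a61482885009e1382684c0961282484808e118228440861082084007e0f81e83c0760e81c83806e0d81a8340660c81883005e0b81682c0560a81482804e098128240460881082003e0780e81c0360680c81802e0580a8140260480881001e0380680c0160280480800e0180280400600800800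
  | 1 => 0xae100208600be1781a83c08a09c2c0590c60602a82505e0cc280510381282604d096138140210560a82d84407a1083086207c0fc2185c0740ec1b03806e0e42e8340a40b8180310a60c80f01508e118148490b40982a0230480882401f0400b40e84f03406c0c85602c05c160140180340700a01e0440901300a0400300800e0240580000600401004
  | 2 => 0xae0ac1d8600be0500882004a09c0d01b0c6144220450940cc2b0180580bc1b03909614c2480d0801182a0550601081d04701804c1881f0c21042603806e134070340a40581e84309c05c0504f0c40a8148280b40982d8240460640905c0780400e8150b01641105005c0c80e05e07c0842e81e01e0d42403f00a0b4000080060100580600e00800809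
  | 3 => 0xc611c1d0600be0500701f0a81680d81a0ae1402205b09c1480c05602a14c1c8360960bc140120c40a8128550621081d82b026030180200821842683806e1300883406605c2183d0940580801c0801181484904e098228230480640683c0b80280e82c0b2160110510640b82785e07e1201a82d01e1741083e016078020080060000280900e00401006
  | 4 => 0xb41342d83406e01c168590c218c2e03c04e0f40c83a03802c1883005e0b0310400700541503f0720a0208220300a42284c0900842b05804a1502384b0be0ac0f06000a0242885009e0182e84e06c124210460ae0741d8020021101f01a0360d41305303e0802a8430080002500302404c0500e0100400600d0a40441900f0bc0b81981702809011816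
  | 5 => 0x4e1302283406e01c0f05808215c1e05c0b410c0c83b09e014180310a6054200620700b02303e06c124308220ac0a42d84d0421200c0590a80941584b0be11c16860016018280510380241a84a0720a02102a0c60741d0010041101f81b0341741302f04007c2a83d0000102700301a03008011010028098120660381700f0bc0c82901602808c12017
  | 6 => 0x4e0d81283406e00c0501a07615c1001f0b40c41104102a0141e84309c13c158470700701500c0980a01d0190a00a42a03901a0482881b0b61142004b0be188080600160002b0180580100882f09a124210460c607430802002154098590b00381304a0781702203000c024298070420f8168350100781f8480661740b00f02805c2902e0bc09011832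
  | 7 => 0xb40e42a03406e00c0801b07418c0f82004e0c01106105802c2183d0940702382b07013c2301309a1241d8190a20a4128360240342801a08a16c3104b0be1000506000a0100c05602a000070530980a02102a0ae07420801004154060580b20441304e0b80f022031012018178070900fc0f05d0100b41f0210a40d40b80f028058198320bc08c1202e
  | 8 => 0xa416c2684b0840882e05d0c402c1681e0660fc0184702e18c060130000c8308410c00b81183d0a80082000704217c260450ac0602403506c0e41d0340520ec1e0380ae1380681202c1282c80904a0041b82400a020158280921782181101c160078040200280a03e0a60bc030190a00c01001b03a07c188510b4068160260880541381c0aa1181504f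
  | 9 => 0x661142604b0840881e0350800140f02d0a40f80182b02c15c0980c0080b8208610c00c81204304a0043100709017c2685b0301581085d0720d81d8340520e82e0380c61280900d02e1382c0060a80081b823016020238490501781e80e022164078000140400a03f05e14c048190a20c40f81a03a0801805004e06c0a8260880b02d04f0aa0a82301c
  | 10 => 0x660941b04b08406410011056014050100a40300384005c15c1f83e0120581d83a0c005c1183108a0082380302417c1c8540a21400680e09a130208340521840f8380c60bc2402106414c0d0000b60041b824016020310280920501805d06a06c0780603c0b42f0130941380202203010c2e05803a0f01e85604e164278260aa0702d0150881181502c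
  | 11 => 0xa41501c84b0840640f80e08e02c0800a06604c0386206418c1f03f00c05c1d03b0c0058120300b60041580301a17c1b0250a01440901109813430834052104100380ae14c1084805c0bc0d80408a0081b82300a02020049050050188350ba0680780905a0782f00c09c128000220ac0f41e05903a170218180b41600e0260aa13c1382c0880a823015
  | 12 => 0x16184310380521102c82d09a1482e83500a1200a0390081680681202c0242d845068018008560740902605e07c0dc2004107a10c1f81e05611c2a0600840942c04b04e0b0060130000542e03207608c2f80206603c1b04605401c0c00a0200f00401701c0440182103813c170550601400d01f04c06c288310c60802701d0441282b8530320a02482f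
  | 13 => 0xa104200380521102c01e0980cc1a85d0160840a03600009c0900d02e0182285b0680240101807608c2685e07e0dc310610860f41f02d08e0ac128600841502c84b0b40540980c0080b01e02e0740902f8010a403c1c82a08c01c2b010014170040160220380184809e070190550621440d82004c068280300ae07c2501d0441383182f03212414053
  | 14 => 0xa0ec158380521540d00a06c0cc0880e0160342f04c00c09c2402106400012854068010008510820901c8140260dc2383a0620c0060100c41002286008416c0d84b0b413c1f83e012070100160c208c2f8020a403c2684605400c2802d03c07c0402e06a1740381202a0b00b8440860602c83c04c1602b03d0ae1701781d03214c3184a0440a02484e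
  | _ => 0x160e8238380521540d8100721480701100a0482f04d0121681084805c0102a025068000010500c208c1b0140180dc1583b0600c40980a0801882d8600841140d04b04e0701f03f00c13c0f8170820902f80106603c2602a08c00c2881e05a080040320ba0d40380d0580540b04407a1582c05c04c1640c0430c60f02981d0320bc2b84e0441241404a

/-- the classes -/
def bc : ℕ → ℕ
  | 0 => 0
  | 1 => 0
  | 2 => 0
  | 3 => 0
  | _ => 3

/-- the words of the elements -/
def vw (i : ℕ) : List ℕ := cw i ++ bc i :: (cw i).reverse

theorem chk1 : allB (fun i => allB (fun k => Nat.beq (we (vw (Nat.succ i)) k) (lk (vt (Nat.succ i)) k)) 100) 15 = true := by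
  decide +kernel

theorem chk2 : allB (fun i => allB (fun j => allB (fun k => Nat.beq (lk (vt i) (lk (vt j) k))
    (lk (vt (Nat.xor i j)) k)) 100) 16) 16 = true := by
  decide +kernel

theorem chk3 : allB (fun i => not (Nat.beq (lk (vt (Nat.succ i)) 0) 0)) 15 = true := by
  decide +kernel

theorem chk0 : allB (fun k => Nat.beq (lk (vt 0) k) k) 100 = true := by
  decide +kernel

/-- the elements -/
noncomputable def elt (i : ℕ) : Perm (Fin 100) := if i = 0 then 1 else wp (vw i)

theorem elt_val {i : ℕ} (hi : i < 16) (k : Fin 100) : ((elt i k : Fin 100) : ℕ) = lk (vt i) k := by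
  by_cases h : i = 0
  · subst h
    have := Nat.eq_of_beq_eq_true ((allB_iff _ _).1 chk0 k k.2)
    rw [this, elt, if_pos rfl]
    rfl
  · obtain ⟨j, rfl⟩ := Nat.exists_eq_succ_of_ne_zero h
    rw [elt, if_neg h, wp_val]
    exact Nat.eq_of_beq_eq_true ((allB_iff _ _).1 ((allB_iff _ _).1 chk1 j (by omega)) k k.2)

theorem elt_mem (i : ℕ) : elt i ∈ G := by
  unfold elt
  split_ifs
  · exact one_mem _
  · exact wp_mem _

theorem elt_mul {i j : ℕ} (hi : i < 16) (hj : j < 16) : elt i * elt j = elt (i ^^^ j) := by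
  have hx : i ^^^ j < 16 := Nat.xor_lt_two_pow (n := 4) hi hj
  ext k
  rw [Perm.mul_apply, elt_val hi, elt_val hj, elt_val hx]
  exact Nat.eq_of_beq_eq_true ((allB_iff _ _).1 ((allB_iff _ _).1 ((allB_iff _ _).1 chk2 i hi) j hj) k k.2)

theorem elt_ne_one {i : ℕ} (h0 : i ≠ 0) (hi : i < 16) : elt i ≠ 1 := by
  intro h
  obtain ⟨j, rfl⟩ := Nat.exists_eq_succ_of_ne_zero h0
  have h1 := elt_val hi 0
  rw [h] at h1
  have h2 := (allB_iff _ _).1 chk3 j (by omega)
  have h3 : lk (vt (Nat.succ j)) 0 = 0 := h1.symm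
  rw [h3] at h2
  exact absurd h2 (by decide)

theorem elt_conj {i : ℕ} (h0 : i ≠ 0) : elt i = wp (cw i) * pg (bc i) * (wp (cw i))⁻¹ := by
  rw [elt, if_neg h0, vw, wp_append, wp_cons, wp_reverse, mul_assoc]

end Cfsg.Agent.H253.Orth.J2
end

-- part: H253/Orth/Deg
section
/-!
# Degrees at least eight: `M11`, `M12`, `M22`, `J2`, `HS`, `McL` (S4869, helper253)
-/

set_option autoImplicit false

namespace Cfsg.Agent.H253.Orth

open Cfsg Subgroup
open Cfsg.Agent.Characters.Core
open Cfsg.Agent.H727.Orth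
open Cfsg.Agent.H122 (MinDeg)

universe u

variable {S : Type u} [Group S] [Finite S]

/-- degrees of nontrivial representations -/
theorem deg8_of_rep (h : ∀ (n : ℕ) (ρ : Representation ℂ S (Fin n → ℂ)), (∃ g, ρ g ≠ 1) → Even n → 8 ≤ n) :
    Deg8 S := by
  intro θ hθ he
  obtain ⟨n, ρ, hρ, rfl⟩ := hθ
  have hd : charDegree ρ.character = n := by
    unfold charDegree
    rw [Representation.char_one]
    simp only [_root_.Module.finrank_fintype_fun_eq_card, _root_.Fintype.card_fin, _root_.Complex.natCast_re, _root_.Nat.floor_natCast]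
  rw [hd] at he ⊢
  refine h n ρ ?_ he
  by_contra hno
  push Not at hno
  have h1 : ρ.character = fun _ => (n : ℂ) := by
    funext g
    rw [Representation.character, hno]
    simp only [_root_.LinearMap.trace_one, _root_.Module.finrank_fintype_fun_eq_card, _root_.Fintype.card_fin]
  have := Fintype.ofFinite S
  have h2 : classInner ρ.character ρ.character = 1 :=
    classInner_irr_self (⟨n, ρ, hρ, rfl⟩ : IsIrrCharacter S ρ.character)
  rw [h1, classInner_def] at h2
  simp only [map_natCast, Finset.sum_const, Finset.card_univ, nsmul_eq_mul, ← Nat.card_eq_fintype_card] at h2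
  have h3 : (Nat.card S : ℂ) ≠ 0 := by exact_mod_cast Nat.card_pos.ne'
  rw [← mul_assoc, inv_mul_cancel₀ h3, one_mul] at h2
  have h4 : n * n = 1 := by exact_mod_cast h2
  have h5 : n = 1 := Nat.eq_one_of_mul_eq_one_left h4
  rw [h5] at he
  exact absurd he (by decide)

theorem deg8_of_minDeg {b : ℕ} (hb : 7 ≤ b) (h : MinDeg S b) : Deg8 S :=
  deg8_of_rep fun n ρ hρ he => by
    have h1 := h (Fin n → ℂ) ρ hρ
    rw [Module.finrank_fin_fun] at h1
    obtain ⟨k, hk⟩ := he
    omega

theorem sum_sixteen (x y z : ℂ) : ∑ i : Fin 16, (if i = 0 then x else if i < 4 then y else z) =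
    x + 3 * y + 12 * z := by
  have h : ∀ g : Fin 16 → ℂ, ∑ i, g i = g 0 + (g 1 + g 2 + g 3) + (g 4 + g 5 + g 6 + g 7 + g 8 + g 9 + g 10 + g 11 +
      g 12 + g 13 + g 14 + g 15) := by
    intro g
    simp only [Fin.sum_univ_succ, Fin.sum_univ_zero]
    have e : ∀ i : Fin 16, g i = g i := fun _ => rfl
    change g 0 + (g 1 + (g 2 + (g 3 + (g 4 + (g 5 + (g 6 + (g 7 + (g 8 + (g 9 + (g 10 + (g 11 + (g 12 + (g 13 + (g 14 +
      (g 15 + 0))))))))))))))) = _
    ring
  rw [h]
  have h0 : ∀ i : Fin 16, 4 ≤ i → (if i = 0 then x else if i < 4 then y else z) = z := by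
    intro i hi
    rw [if_neg (by rintro rfl; exact absurd hi (by decide)), if_neg (not_lt.2 hi)]
  rw [h0 4 (by decide), h0 5 (by decide), h0 6 (by decide), h0 7 (by decide), h0 8 (by decide), h0 9 (by decide),
    h0 10 (by decide), h0 11 (by decide), h0 12 (by decide), h0 13 (by decide), h0 14 (by decide), h0 15 (by decide),
    if_pos rfl, if_neg (by decide), if_pos (by decide), if_neg (by decide), if_pos (by decide), if_neg (by decide),
    if_pos (by decide)]
  ring

/-- An elementary abelian subgroup of order sixteen, with three conjugate and twelve conjugate involutions. -/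
theorem le_of_sixteen [IsSimpleGroup S] (hna : ¬ ∀ a b : S, a * b = b * a) (f : Fin 16 → S) (h0 : f 0 = 1)
    (hmul : ∀ i j : Fin 16, ∃ k, f i * f j = f k) (hsq : ∀ i, f i * f i = 1) (hinj : Function.Injective f) (a b : S)
    (ha : ∀ i : Fin 16, i ≠ 0 → i < 4 → IsConj a (f i)) (hb : ∀ i : Fin 16, 4 ≤ i → IsConj b (f i))
    {n : ℕ} (ρ : Representation ℂ S (Fin n → ℂ)) (hρ : ∃ g, ρ g ≠ 1) : 8 ≤ n := by
  classical
  have hcl : ∀ x y : S, IsConj x y → ρ.character x = ρ.character y := by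
    intro x y hxy
    obtain ⟨g, hg⟩ := isConj_iff.1 hxy
    rw [← hg, Representation.char_conj]
  have h1 : ρ.character 1 = (n : ℂ) := by
    rw [Representation.char_one, Module.finrank_fin_fun]
  have hχ : IsCharacter S ρ.character := ⟨n, ρ, rfl⟩
  let B : Subgroup S :=
    { carrier := Set.range f
      mul_mem' := by
        rintro _ _ ⟨i, rfl⟩ ⟨j, rfl⟩
        obtain ⟨k, hk⟩ := hmul i j
        exact ⟨k, hk.symm⟩
      one_mem' := ⟨0, h0⟩
      inv_mem' := by
        rintro _ ⟨i, rfl⟩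
        exact ⟨i, (inv_eq_of_mul_eq_one_left (hsq i)).symm⟩ }
  let e : Fin 16 ≃ B := Equiv.ofInjective f hinj
  have : Fintype B := Fintype.ofEquiv _ e
  have hcard : Nat.card B = 16 := by
    rw [← Nat.card_congr e, Nat.card_eq_fintype_card, Fintype.card_fin]
  obtain ⟨m, hm⟩ := Cfsg.Agent.H298.EOFiveTest.exists_sum (isCharacter_comp B.subtype hχ)
  rw [hcard, ← Equiv.sum_comp e] at hm
  have h2 : ∀ i : Fin 16, (ρ.character ∘ B.subtype) (e i) = if i = 0 then (n : ℂ) else
      if i < 4 then ρ.character a else ρ.character b := by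
    intro i
    show ρ.character (f i) = _
    split_ifs with h h'
    · rw [h, h0, h1]
    · exact (hcl _ _ (ha i h h')).symm
    · exact (hcl _ _ (hb i (not_lt.1 h'))).symm
  rw [Finset.sum_congr rfl fun i _ => h2 i, sum_sixteen] at hm
  have ha2 : a ^ 2 = 1 := by
    obtain ⟨g, hg⟩ := isConj_iff.1 (ha 1 (by decide) (by decide)).symm
    have h3 := hsq 1
    rw [← hg, pow_two]
    calc g * f 1 * g⁻¹ * (g * f 1 * g⁻¹) = g * (f 1 * f 1) * g⁻¹ := by group
      _ = 1 := by rw [h3]; group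
  have hb2 : b ^ 2 = 1 := by
    obtain ⟨g, hg⟩ := isConj_iff.1 (hb 4 (by decide)).symm
    have h3 := hsq 4
    rw [← hg, pow_two]
    calc g * f 4 * g⁻¹ * (g * f 4 * g⁻¹) = g * (f 4 * f 4) * g⁻¹ := by group
      _ = 1 := by rw [h3]; group
  have hperf := commutator_top_of_simple hna
  obtain ⟨i, hi⟩ := Cfsg.Agent.MTwelve.SmallDegree.character_eq_add_four_mul hperf hχ ha2
  obtain ⟨j, hj⟩ := Cfsg.Agent.MTwelve.SmallDegree.character_eq_add_four_mul hperf hχ hb2
  obtain ⟨c, d, hc, hd⟩ := Cfsg.Agent.MTwelve.SmallDegree.exists_eq_sub_of_sq_eq_one hχ ha2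
  rw [h1] at hi hj hc
  have ha1 : a ≠ 1 := by
    intro h
    have h3 : IsConj (1 : S) (f 1) := h ▸ ha 1 (by decide) (by decide)
    have h4 : f 1 = f 0 := by rw [h0, isConj_one_right.1 h3]
    exact absurd (hinj h4) (by decide)
  -- the two elements
  have e1 : (n : ℤ) = c - d + 4 * i := by
    have : (n : ℂ) = (c - d : ℂ) + 4 * i := by rw [← hd]; exact hi
    exact_mod_cast this
  have e2 : (n : ℤ) = c + d := by exact_mod_cast hc
  have e3 : ρ.character b = n - 4 * j := by rw [hj]; ring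
  have e4 : ρ.character a = n - 4 * i := by rw [hi]; ring
  rw [e3, e4] at hm
  have e5 : (n : ℤ) + 3 * (n - 4 * i) + 12 * (n - 4 * j) = 16 * m := by exact_mod_cast hm
  have hi0 : i ≠ 0 := by
    rintro rfl
    have h3 : ρ.character a = (Module.finrank ℂ (Fin n → ℂ) : ℂ) := by
      rw [e4, Module.finrank_fin_fun]; simp
    rw [Cfsg.Agent.Characters.Values.character_eq_finrank_iff] at h3
    -- the kernel is trivial
    let K : Subgroup S := MonoidHom.ker ρ
    have hK : K.Normal := inferInstance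
    rcases hK.eq_bot_or_eq_top with h | h
    · exact ha1 (Subgroup.mem_bot.1 (h ▸ (MonoidHom.mem_ker.2 h3 : a ∈ K)))
    · obtain ⟨g, hg⟩ := hρ
      exact hg (MonoidHom.mem_ker.1 (h ▸ Subgroup.mem_top g : g ∈ K))
  omega

open Cfsg.Agent.SporadicA.J2Hundred in
theorem deg8_j2_perm (hs : IsSimpleGroup G) (hna : ¬ ∀ a b : G, a * b = b * a) : Deg8 G := by
  refine deg8_of_rep fun n ρ hρ _ => ?_
  refine le_of_sixteen hna (fun i => ⟨J2.elt i, J2.elt_mem i⟩) ?_ ?_ ?_ ?_ ⟨J2.pg 0, J2.pg_mem 0⟩ ⟨J2.pg 3, J2.pg_mem 3⟩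
    ?_ ?_ ρ hρ
  · exact Subtype.ext (show J2.elt 0 = 1 from if_pos rfl)
  · intro i j
    exact ⟨⟨(i : ℕ) ^^^ j, Nat.xor_lt_two_pow (n := 4) i.2 j.2⟩, Subtype.ext (J2.elt_mul i.2 j.2)⟩
  · intro i
    refine Subtype.ext ((J2.elt_mul i.2 i.2).trans ?_)
    rw [Nat.xor_self]
    exact if_pos rfl
  · intro i j hij
    by_contra hne
    have h1 : J2.elt i = J2.elt j := congrArg Subtype.val hij
    have h2 : J2.elt ((i : ℕ) ^^^ j) = 1 := by
      rw [← J2.elt_mul i.2 j.2, h1, J2.elt_mul j.2 j.2, Nat.xor_self]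
      exact if_pos rfl
    refine J2.elt_ne_one ?_ (Nat.xor_lt_two_pow (n := 4) i.2 j.2) h2
    intro h
    exact hne (Fin.ext (Nat.xor_eq_zero_iff.1 h))
  · intro i h0 h4
    refine isConj_iff.2 ⟨⟨J2.wp (J2.cw i), J2.wp_mem _⟩, Subtype.ext ?_⟩
    have h0' : (i : ℕ) ≠ 0 := fun h => h0 (Fin.ext h)
    have h4' : (i : ℕ) < 4 := h4
    show J2.wp (J2.cw i) * J2.pg 0 * (J2.wp (J2.cw i))⁻¹ = J2.elt i
    rw [J2.elt_conj h0']
    have : J2.bc i = 0 := by
      revert h4'
      generalize (i : ℕ) = k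
      intro hk
      interval_cases k <;> rfl
    rw [this]
  · intro i h4
    have h4' : 4 ≤ (i : ℕ) := h4
    refine isConj_iff.2 ⟨⟨J2.wp (J2.cw i), J2.wp_mem _⟩, Subtype.ext ?_⟩
    show J2.wp (J2.cw i) * J2.pg 3 * (J2.wp (J2.cw i))⁻¹ = J2.elt i
    rw [J2.elt_conj (by omega)]
    have : J2.bc i = 3 := by
      obtain ⟨k, hk⟩ := Nat.exists_eq_add_of_le h4'
      rw [hk, add_comm]
      rfl
    rw [this]

/-! ### The groups -/

theorem deg8_m11 {K : Type u} [Group K] [IsSimpleGroup K] [Finite K] (h : Spor.IsoM11 K) : Deg8 K :=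
  deg8_of_minDeg (by norm_num) (H121.Cyc.m11 h)

theorem deg8_m12 {K : Type u} [Group K] [IsSimpleGroup K] [Finite K] (h : Spor.IsoM12 K) : Deg8 K :=
  deg8_of_minDeg (by norm_num) (H121.Cyc.m12 h)

theorem deg8_m22 {K : Type u} [Group K] [IsSimpleGroup K] [Finite K] (h : Spor.IsoM22 K) : Deg8 K :=
  deg8_of_minDeg (by norm_num) (H121.Cyc.m22 h)

theorem deg8_hs {K : Type u} [Group K] [IsSimpleGroup K] [Finite K] (h : Spor.IsoHS K) : Deg8 K :=
  deg8_of_minDeg (by norm_num) (H121.Cyc.hs h)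

theorem deg8_mcl {K : Type u} [Group K] [IsSimpleGroup K] [Finite K] (h : Spor.IsoMcL K) : Deg8 K :=
  deg8_of_minDeg (by norm_num) (H121.Cyc.mcl h)

theorem deg8_j2 {K : Type u} [Group K] [IsSimpleGroup K] [Finite K] (h : Spor.IsoJ2 K) : Deg8 K := by
  have hn := NotCT.Orders.j2 h
  have hna := Cfsg.Agent.H253.TC.not_comm_of_card hn (by norm_num) (p := 7) (by norm_num) (by norm_num) (by norm_num)
  obtain ⟨e⟩ := h
  obtain ⟨f⟩ := Cfsg.Agent.J2.HundredGens.J2_iso Cfsg.Agent.S1619.result.2.2.2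
  have e' : Cfsg.Agent.SporadicA.J2Hundred.G ≃* K := (e.trans f).symm
  have hs : IsSimpleGroup Cfsg.Agent.SporadicA.J2Hundred.G := e'.isSimpleGroup
  exact Deg8.congr e' (deg8_j2_perm hs fun hab => hna fun a b => e'.symm.injective (by
    rw [map_mul, map_mul, hab]))

end Cfsg.Agent.H253.Orth
end

-- part: H253/Orth/He
section
/-!
# The Held group: an even-degree orthogonal character (S4869, helper253)

The permutation character of degree 8330 has norm 7, and the class of the point stabilizers is invariant under all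
automorphisms.
-/

set_option autoImplicit false

namespace Cfsg.Agent.H253.Orth

open Cfsg Subgroup
open Cfsg.Agent.Characters.Core
open Cfsg.Agent.H727.Orth
open Cfsg.Agent.H694 (RChar rchar_perm permC permC_one)

universe u

/-- **Invariant permutation characters** with an odd parity. -/
theorem evenO_of_points {S : Type u} [Group S] [Finite S] [Fintype S] (hc : Subgroup.center S = ⊥) {X : Type*} [Finite X]
    (St : X → Subgroup S) (hinj : Function.Injective St)
    (haut : ∀ (α : MulAut S) (x : X), ∃ y, (St x).map (α : S ≃* S).toMonoidHom = St y)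
    (hnorm : ∀ (s : S) (x : X), (St x).map (MulAut.conj s).toMonoidHom = St x ↔ s ∈ St x) {a : ℤ}
    (ha : classInner (fun s : S => (Nat.card {x : X // s ∈ St x} : ℂ)) (fun s => (Nat.card {x : X // s ∈ St x} : ℂ)) = a)
    (hab : Odd (a + Nat.card X)) : EvenO S := by
  classical
  have := Fintype.ofFinite (MulAut S)
  let 𝒳 : Set (Subgroup S) := Set.range St
  have h𝒳 : ∀ α : S ≃* S, ∀ H ∈ 𝒳, H.map α.toMonoidHom ∈ 𝒳 := by
    rintro α _ ⟨x, rfl⟩
    obtain ⟨y, hy⟩ := haut α x
    exact ⟨y, hy.symm⟩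
  let _ := actAut 𝒳 h𝒳
  have : Finite 𝒳 := Subtype.finite
  let e : X ≃ 𝒳 := Equiv.ofInjective St hinj
  have hπ : RChar (permC (MulAut S) 𝒳) := rchar_perm 𝒳
  have : Fintype (⊤ : Subgroup (MulAut S)) := Fintype.ofFinite _
  have hπ' : RChar (fun x : (⊤ : Subgroup (MulAut S)) => permC (MulAut S) 𝒳 (x : MulAut S)) :=
    hπ.comp (Subgroup.subtype ⊤)
  have hres : ∀ s : S, permC (MulAut S) 𝒳 (MulAut.conj s) = (Nat.card {x : X // s ∈ St x} : ℂ) := by
    intro s
    rw [permC]
    congr 1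
    symm
    refine Nat.card_congr (e.subtypeEquiv fun x => ?_)
    rw [MulAction.mem_fixedBy, ← hnorm]
    constructor
    · intro h
      exact Subtype.ext h
    · intro h
      exact congrArg Subtype.val h
  obtain ⟨θ, h1, h2, h3, -, h5⟩ := oext_of_parity hc ⊤ (by rw [Subgroup.index_top]; exact odd_one)
    (fun s => Subgroup.mem_top _) hπ' (a := a) (b := (Nat.card 𝒳 : ℤ)) (by
      show classInner (fun s : S => permC (MulAut S) 𝒳 (MulAut.conj s))
        (fun s : S => permC (MulAut S) 𝒳 (MulAut.conj s)) = _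
      rw [funext hres]
      exact ha) (by
      show permC (MulAut S) 𝒳 1 = _
      rw [permC_one]
      push_cast
      rfl) (by
      rw [← Nat.card_congr e]
      exact hab)
  exact ⟨θ, h1, h2, h3, h5⟩

/-- the norm of a sum of distinct irreducible characters -/
theorem norm_sum_irr {S : Type u} [Group S] [Fintype S] {r : ℕ} {χ : Fin r → S → ℂ}
    (h1 : ∀ s, IsIrrCharacter S (χ s)) (h2 : ∀ s t, s ≠ t → χ s ≠ χ t) :
    classInner (∑ s, χ s) (∑ s, χ s) = (r : ℂ) := by
  classical
  rw [classInner_sum_left]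
  have h : ∀ s : Fin r, classInner (χ s) (∑ t, χ t) = 1 := by
    intro s
    rw [classInner_sum_right, Finset.sum_eq_single s]
    · exact classInner_irr_self (h1 s)
    · intro t _ hts
      exact classInner_irr_ne (h1 s) (h1 t) (h2 s t hts.symm)
    · intro h
      exact absurd (Finset.mem_univ s) h
  rw [Finset.sum_congr rfl fun s _ => h s]
  simp only [_root_.Finset.sum_const, _root_.Finset.card_univ, _root_.Fintype.card_fin, _root_.nsmul_eq_mul, _root_.mul_one]

end Cfsg.Agent.H253.Orth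

namespace Cfsg.Agent.H253.Orth.He

open Cfsg Cfsg.Spor Cfsg.Spor.He Cfsg.Agent.Lib.PermNet Cfsg.Agent.Lib.PermNetOrbit Cfsg.Agent.H687.HeNetData
  Cfsg.Agent.H687.He8330 Cfsg.Agent.H997.OutHe Cfsg.Agent.FixBN.HeStab Cfsg.Agent.H687.HeRow
open Cfsg.Agent.SporRec.CosetBulk (rangeCheck lt_iff_of_rangeCheck)

/-- the point stabilizers -/
noncomputable def St (i : Fin 8330) : Subgroup Cfsg.Spor.He where
  carrier := {g | phi g i = i}
  one_mem' := by
    show phi 1 i = i
    rw [map_one]; rfl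
  mul_mem' := by
    intro a b (ha : phi a i = i) (hb : phi b i = i)
    show phi (a * b) i = i
    rw [map_mul, Equiv.Perm.mul_apply, hb, ha]
  inv_mem' := by
    intro a (ha : phi a i = i)
    show phi a⁻¹ i = i
    rw [map_inv, Equiv.Perm.inv_eq_iff_eq, ha]

theorem mem_St {g : Cfsg.Spor.He} {i : Fin 8330} : g ∈ St i ↔ phi g i = i := Iff.rfl

theorem map_St {t : Equiv.Perm ℕ} (ht : ∀ i, t i < 8330 ↔ i < 8330) {α : Cfsg.Spor.He ≃* Cfsg.Spor.He}
    (h : ∀ g, t * phi g = phi (α g) * t) (i : Fin 8330) :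
    (St i).map α.toMonoidHom = St ⟨t i, (ht i).2 i.2⟩ := by
  ext g
  rw [mem_St]
  constructor
  · rintro ⟨k, hk, rfl⟩
    have h1 := congrArg (fun p : Equiv.Perm ℕ => p i) (h k)
    simp only [Equiv.Perm.mul_apply] at h1
    rw [mem_St.1 hk] at h1
    exact h1.symm
  · intro hg
    refine ⟨α.symm g, ?_, α.apply_symm_apply g⟩
    show phi (α.symm g) i = i
    have h1 := congrArg (fun p : Equiv.Perm ℕ => p i) (h (α.symm g))
    simp only [Equiv.Perm.mul_apply, MulEquiv.apply_symm_apply] at h1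
    have h2 : phi g (t i) = t i := hg
    rw [h2] at h1
    exact t.injective h1

theorem map_conj (g : Cfsg.Spor.He) (i : Fin 8330) :
    (St i).map (MulAut.conj g).toMonoidHom = St ⟨phi g i, (phi_lt_iff g i).2 i.2⟩ := by
  refine map_St (phi_lt_iff g) (fun k => ?_) i
  rw [MulAut.conj_apply, ← map_mul, ← map_mul, inv_mul_cancel_right]

theorem chk_moved : ((List.range 7).all fun i => (Nat.beq i 0 || (wordsK.any fun w =>
    !(Nat.beq (ptWord (w.map net) (yy i)) (yy i))))) = true := by decide +kernel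

/-- only `0` is fixed by the stabilizer of `0` -/
theorem eq_zero {p : ℕ} (hp : p < 8330) (h : ∀ g ∈ HH, phi g p = p) : p = 0 := by
  obtain ⟨i, hi⟩ := coverU p hp
  obtain ⟨k, hk, hkp⟩ := (orb i i.2 p).1 hi
  have h1 : yy i = p := by
    have h2 := h k⁻¹ (inv_mem hk)
    rw [map_inv, Equiv.Perm.inv_eq_iff_eq] at h2
    exact (phi k).injective (by rw [hkp, ← h2])
  by_cases h0 : (i : ℕ) = 0
  · rw [← h1, h0]; rfl
  · exfalso
    have h3 := chk_moved
    rw [List.all_eq_true] at h3
    have h4 := h3 i (List.mem_range.2 i.2)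
    rw [Bool.or_eq_true] at h4
    rcases h4 with h4 | h4
    · exact h0 (Nat.eq_of_beq_eq_true h4)
    · rw [List.any_eq_true] at h4
      obtain ⟨w, hw, h5⟩ := h4
      rw [ptWord_eq (wok w), ← phi_wd, h1, h _ (wd_mem hw)] at h5
      simp at h5

theorem St_injective : Function.Injective St := by
  intro i j hij
  obtain ⟨g, hg⟩ := trans i i.2
  have h1 : (St i).map (MulAut.conj g⁻¹).toMonoidHom = (St j).map (MulAut.conj g⁻¹).toMonoidHom := by rw [hij]
  rw [map_conj, map_conj] at h1
  have h2 : phi g⁻¹ i = 0 := by rw [map_inv, Equiv.Perm.inv_eq_iff_eq, hg]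
  have h3 : phi g⁻¹ j = 0 := by
    refine eq_zero ((phi_lt_iff _ _).2 j.2) fun k hk => ?_
    have h4 : k ∈ St ⟨phi g⁻¹ i, (phi_lt_iff g⁻¹ i).2 i.2⟩ := by
      show phi k (phi g⁻¹ i) = phi g⁻¹ i
      rw [h2]
      exact (index_HH.2.1 k).2 hk
    rw [h1] at h4
    exact h4
  exact Fin.ext ((phi g⁻¹).injective (h2.trans h3.symm))

theorem map_aut (σ : MulAut Cfsg.Spor.He) (i : Fin 8330) :
    ∃ j, (St i).map (σ : Cfsg.Spor.He ≃* Cfsg.Spor.He).toMonoidHom = St j := by
  have hconj : ∀ (τ : MulAut Cfsg.Spor.He), τ ∈ (MulAut.conj : Cfsg.Spor.He →* MulAut Cfsg.Spor.He).range →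
      ∀ i, ∃ j, (St i).map (τ : Cfsg.Spor.He ≃* Cfsg.Spor.He).toMonoidHom = St j := by
    rintro _ ⟨k, rfl⟩ i
    exact ⟨_, map_conj k i⟩
  rcases KFacts.He.Outer.index_le_two (K := Cfsg.Spor.He) ⟨MulEquiv.refl _⟩ with h | h
  · rw [Subgroup.index_eq_one] at h
    exact hconj σ (by rw [h]; exact Subgroup.mem_top σ) i
  · by_cases hσ : σ ∈ (MulAut.conj : Cfsg.Spor.He →* MulAut Cfsg.Spor.He).range
    · exact hconj σ hσ i
    · have hr : rho ∉ (MulAut.conj : Cfsg.Spor.He →* MulAut Cfsg.Spor.He).range := by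
        rintro ⟨k, hk⟩
        exact rho_outer k hk.symm
      have h1 : σ * rho ∈ (MulAut.conj : Cfsg.Spor.He →* MulAut Cfsg.Spor.He).range := by
        rw [Subgroup.mul_mem_iff_of_index_two h]
        exact ⟨fun h => absurd h hσ, fun h => absurd h hr⟩
      have h2 := map_St (lt_iff_of_rangeCheck okT rangeT) (α := rho) phi_rho i
      obtain ⟨j, hj⟩ := hconj _ h1 ⟨_, (lt_iff_of_rangeCheck okT rangeT i).2 i.2⟩
      refine ⟨j, ?_⟩
      rw [← hj, ← h2, Subgroup.map_map]
      congr 1
      refine MonoidHom.ext fun k => ?_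
      show σ k = (σ * rho) (rho k)
      have h3 : rho (rho k) = k := DFunLike.congr_fun rho_sq k
      rw [MulAut.mul_apply, h3]

open Cfsg.Agent.H727.Orth Cfsg.Agent.Characters.Core in
theorem evenO : EvenO Cfsg.Spor.He := by
  have hs : IsSimpleGroup Cfsg.Spor.He := KFacts.He.Cent.simpleHe
  have hn : Nat.card Cfsg.Spor.He = 4030387200 := KFacts.He.Cent.card_He
  have hna := Cfsg.Agent.H253.TC.not_comm_of_card hn (by norm_num) (p := 17) (by norm_num) (by norm_num) (by norm_num)
  have := Fintype.ofFinite Cfsg.Spor.He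
  obtain ⟨χ, h1, h2, -, h4⟩ := exists_chars
  refine evenO_of_points (center_bot_of_simple hna) St St_injective map_aut ?_ (a := 7) ?_ ?_
  · intro s x
    rw [map_conj, St_injective.eq_iff, Fin.ext_iff]
    rfl
  · have h5 : (fun s : Cfsg.Spor.He => (Nat.card {x : Fin 8330 // s ∈ St x} : ℂ)) = ∑ s, χ s := by
      funext g
      rw [Finset.sum_apply, h4]
      rfl
    rw [h5, norm_sum_irr h1 h2]
    norm_num
  · rw [Nat.card_eq_fintype_card, Fintype.card_fin]
    decide

end Cfsg.Agent.H253.Orth.He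

namespace Cfsg.Agent.H253.Orth

universe v

open Cfsg Cfsg.Agent.H727.Orth

/-- **The Held group.** -/
theorem evenO_he {K : Type v} [Group K] [Finite K] (h : Spor.IsoHe K) : EvenO K := by
  obtain ⟨e⟩ := h
  exact EvenO.congr e.symm He.evenO

end Cfsg.Agent.H253.Orth
end

-- part: H253/Orth/McL
section
/-!
# The McLaughlin group: an even-degree orthogonal character (S4869, helper253)

The 24-dimensional character of the stabilizer of the triangle in `Co₀`, which is the automorphism group of `McL`.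
-/

set_option autoImplicit false

namespace Cfsg.Agent.H253.Orth.McL

open Cfsg Cfsg.Spor Subgroup Cfsg.Agent.H419.LeechIrr Cfsg.Agent.Co2Type.Mono Cfsg.Agent.SporadicStructure.Co0Base
open Cfsg.Agent.SigZeroCo2.Lin
open Cfsg.Agent.Characters.Core
open Cfsg.Agent.H694 (RChar mu mu_eq)
open Cfsg.Agent.H705.StrongLin (ind)
open Representation

/-! ### The form -/

theorem matC_orth (g : Co0) : (matC g).transpose * matC g = 1 := by
  ext i j
  rw [Matrix.mul_apply, Matrix.one_apply]
  have h1 := co0_dotInt g (e8 i) (e8 j)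
  have h2 : dotInt ((e8 i : leechLattice) : GolayPt → ℤ) ((e8 j : leechLattice) : GolayPt → ℤ) =
      if i = j then 64 else 0 := by
    rw [e8_coe, e8_coe, dotInt]
    by_cases h : i = j
    · subst h
      rw [if_pos rfl, Finset.sum_eq_single i]
      · rw [Pi.single_eq_same]; norm_num
      · intro k _ hk
        rw [Pi.single_eq_of_ne hk, zero_mul]
      · intro h; exact absurd (Finset.mem_univ i) h
    · rw [if_neg h]
      refine Finset.sum_eq_zero fun k _ => ?_
      by_cases hk : k = i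
      · subst hk
        rw [Pi.single_eq_of_ne h, mul_zero]
      · rw [Pi.single_eq_of_ne hk, zero_mul]
  rw [h2, dotInt] at h1
  have h3 : ∀ k : GolayPt, (matC g).transpose i k * matC g k j =
      ((((((g • e8 i : leechLattice) : GolayPt → ℤ) k * ((g • e8 j : leechLattice) : GolayPt → ℤ) k : ℤ)) : ℂ)) / 64 := by
    intro k
    simp only [Matrix.transpose_apply, matC, mat, Matrix.map_apply]
    push_cast
    simp only [_root_.map_intCast, _root_.eq_ratCast, _root_.Rat.cast_ofNat]
    ring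
  rw [Finset.sum_congr rfl fun k _ => h3 k, ← Finset.sum_div, ← Int.cast_sum, h1]
  split_ifs <;> norm_num

theorem repC_dot (g : Co0) (v w : GolayPt → ℂ) : repC g v ⬝ᵥ repC g w = v ⬝ᵥ w := by
  show (Matrix.toLin' (matC g)) v ⬝ᵥ (Matrix.toLin' (matC g)) w = v ⬝ᵥ w
  rw [Matrix.toLin'_apply, Matrix.toLin'_apply, Matrix.dotProduct_mulVec, ← Matrix.vecMul_transpose,
    Matrix.vecMul_vecMul, matC_orth, Matrix.vecMul_one]

section rchar

variable {G : Type*} [Group G] (f : G →* Co0)

/-- the symmetric form -/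
noncomputable def dform : (GolayPt → ℂ) →ₗ[ℂ] Module.Dual ℂ (GolayPt → ℂ) :=
  LinearMap.mk₂ ℂ (fun v w => v ⬝ᵥ w) (fun _ _ _ => add_dotProduct _ _ _) (fun _ _ _ => smul_dotProduct _ _ _)
    (fun _ _ _ => dotProduct_add _ _ _) (fun _ _ _ => dotProduct_smul _ _ _)

noncomputable def F : IntertwiningMap (rp f) (Representation.dual (rp f)) :=
  LinearMap.intertwiningMap_of_isIntertwiningMap (rp f) (Representation.dual (rp f)) dform (by
    intro h v
    apply LinearMap.ext
    intro w
    have h1 := repC_dot (f h) v (repC (f h)⁻¹ w)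
    rw [← Module.End.mul_apply, ← map_mul, mul_inv_cancel, map_one, Module.End.one_apply] at h1
    simp only [Representation.dual_apply, Module.Dual.transpose_apply, LinearMap.coe_comp, Function.comp_apply]
    show repC (f h) v ⬝ᵥ w = v ⬝ᵥ repC (f h⁻¹) w
    rw [map_inv]
    exact h1)

theorem F_apply (v w : GolayPt → ℂ) : F f v w = v ⬝ᵥ w := rfl

theorem rchar_lchi [Fintype G] : RChar (lchi f) where
  cf := isCharacter_isClassFunction (isCharacter_lchi f)
  int ψ hψ := by
    obtain ⟨n, hn⟩ := classInner_isNat (isCharacter_lchi f) (isIrr_isCharacter hψ)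
    exact ⟨n, by rw [hn]; push_cast; rfl⟩
  real g := by
    show (starRingEnd ℂ) ((tr8 (f g) : ℂ) / 8) = (tr8 (f g) : ℂ) / 8
    rw [map_div₀, map_intCast, Complex.conj_ofNat]
  even ψ hψ hi := by
    obtain ⟨m, σ, hσ, rfl⟩ := hψ
    obtain ⟨B, hB, hBs⟩ := Cfsg.Agent.H694.exists_form σ (ε := -1) (by norm_num) hi
    have heven := Cfsg.Agent.H694.Alt.even_mult (rp f) σ (F f) (fun v hv => by
        have h1 : ∀ w : GolayPt → ℂ, v ⬝ᵥ w = 0 := fun w => by
          rw [← F_apply f, hv]; rfl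
        exact dotProduct_eq_zero v h1) (ε := 1) (fun v w => by
        rw [F_apply, F_apply, one_mul, dotProduct_comm]) B hB hBs (by norm_num)
    obtain ⟨k, hk⟩ := heven
    refine ⟨k, ?_⟩
    have h4 := classInner_character (rp f) σ
    rw [hk, ← lchi_eq] at h4
    rw [h4]
    push_cast
    ring

end rchar

/-! ### The automorphism group -/

open Cfsg.Agent.H997.OutMcL Cfsg.Agent.H34.SporMcL

/-- the stabilizer of the triangle -/
def NN : Subgroup (Equiv.Perm leechLattice) where
  carrier := {c | c ∈ Co0 ∧ c leechV = leechV ∧ (c leechU = leechU ∧ c W = W ∨ c leechU = W ∧ c W = leechU)}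
  one_mem' := ⟨one_mem _, rfl, Or.inl ⟨rfl, rfl⟩⟩
  mul_mem' := by
    rintro a b ⟨ha, haV, haU⟩ ⟨hb, hbV, hbU⟩
    refine ⟨mul_mem ha hb, by rw [Equiv.Perm.mul_apply, hbV, haV], ?_⟩
    simp only [Equiv.Perm.mul_apply]
    rcases haU with ⟨h1, h2⟩ | ⟨h1, h2⟩ <;> rcases hbU with ⟨h3, h4⟩ | ⟨h3, h4⟩ <;> rw [h3, h4, h1, h2]
    · exact Or.inl ⟨rfl, rfl⟩
    · exact Or.inr ⟨rfl, rfl⟩
    · exact Or.inr ⟨rfl, rfl⟩
    · exact Or.inl ⟨rfl, rfl⟩
  inv_mem' := by
    rintro a ⟨ha, haV, haU⟩
    refine ⟨inv_mem ha, by rw [Equiv.Perm.inv_eq_iff_eq, haV], ?_⟩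
    simp only [Equiv.Perm.inv_eq_iff_eq]
    rcases haU with ⟨h1, h2⟩ | ⟨h1, h2⟩
    · exact Or.inl ⟨h1.symm, h2.symm⟩
    · exact Or.inr ⟨h2.symm, h1.symm⟩

theorem mcl_le : McL ≤ NN := fun x hx => by
  have h := mem_McL.1 hx
  exact ⟨h.1, h.2.1, Or.inl ⟨h.2.2, by rw [map_W h.1 h.2.1, h.2.2]; rfl⟩⟩

theorem le_normalizer : NN ≤ normalizer (McL : Set (Equiv.Perm leechLattice)) := by
  rintro c ⟨hc, hV, ⟨hU, -⟩ | ⟨hU, hW⟩⟩
  · exact Subgroup.le_normalizer (mem_McL.2 ⟨hc, hV, hU⟩)
  · exact mem_normalizer hc hV hU hW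

/-- the action on `McL` -/
def Phi : NN →* MulAut McL := (Subgroup.normalizerMonoidHom McL).comp (Subgroup.inclusion le_normalizer)

theorem center_mcl : Subgroup.center McL = ⊥ := by
  obtain ⟨hfin, hsimple, hcard, ⟨L⟩⟩ := TypeM.FactsMcL.exists_mt_mcl
  rcases IsSimpleGroup.eq_bot_or_eq_top_of_normal (Subgroup.center McL) inferInstance with h | h
  · exact h
  · exfalso
    have hcomm : ∀ a b : McL, a * b = b * a := fun a b =>
      (Subgroup.mem_center_iff.1 (by rw [h]; trivial : b ∈ Subgroup.center McL) a)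
    let _ : CommGroup McL := { (inferInstance : Group McL) with mul_comm := hcomm }
    have hp := IsSimpleGroup.prime_card (α := McL)
    rw [hcard] at hp
    revert hp
    norm_num

theorem Phi_injective : Function.Injective Phi := by
  rw [injective_iff_map_eq_one]
  rintro ⟨c, hc, hV, h⟩ h1
  rcases h with ⟨hU, hW⟩ | ⟨hU, hW⟩
  · have hcM : c ∈ McL := mem_McL.2 ⟨hc, hV, hU⟩
    have hz : (⟨c, hcM⟩ : McL) ∈ Subgroup.center McL := by
      rw [Subgroup.mem_center_iff]
      intro x
      apply Subtype.ext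
      have h2 := congrArg (fun β : MulAut McL => ((β x : McL) : Equiv.Perm leechLattice)) h1
      have h3 : c * (x : Equiv.Perm leechLattice) * c⁻¹ = x := h2
      show (x : Equiv.Perm leechLattice) * c = c * x
      conv_lhs => rw [← h3]
      group
    rw [center_mcl, Subgroup.mem_bot] at hz
    exact Subtype.ext (show c = 1 from congrArg (fun y : McL => (y : Equiv.Perm leechLattice)) hz)
  · exfalso
    refine outer_ne hc hV hU hW (le_normalizer ⟨hc, hV, Or.inr ⟨hU, hW⟩⟩) 1 ?_
    rw [map_one]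
    exact h1

theorem Phi_surjective : Function.Surjective Phi := by
  intro σ
  obtain ⟨f, hf, hV, hU, hW⟩ := Cfsg.Agent.H997.OutMcL.exists_swap
  have hn := mem_normalizer hf hV hU hW
  by_cases h : σ ∈ (MulAut.conj : McL →* MulAut McL).range
  · obtain ⟨k, rfl⟩ := h
    exact ⟨⟨k, mcl_le k.2⟩, rfl⟩
  · have hi : (MulAut.conj : McL →* MulAut McL).range.index = 2 := card_out
    have h1 : Subgroup.normalizerMonoidHom McL ⟨f, hn⟩ ∉ (MulAut.conj : McL →* MulAut McL).range := by
      rintro ⟨k, hk⟩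
      exact outer_ne hf hV hU hW hn k hk.symm
    have h2 : (Subgroup.normalizerMonoidHom McL ⟨f, hn⟩)⁻¹ ∉ (MulAut.conj : McL →* MulAut McL).range :=
      fun h3 => h1 (by simpa only [_root_.MonoidHom.mem_range, _root_.Subtype.exists, _root_.inv_inv] using inv_mem h3)
    have h3 := (Subgroup.mul_mem_iff_of_index_two hi (a := (Subgroup.normalizerMonoidHom McL ⟨f, hn⟩)⁻¹) (b := σ)).2
      ⟨fun h4 => absurd h4 h2, fun h4 => absurd h4 h⟩
    obtain ⟨k, hk⟩ := h3
    have h4 : σ = Subgroup.normalizerMonoidHom McL ⟨f, hn⟩ * MulAut.conj k := by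
      rw [hk, mul_inv_cancel_left]
    have hfN : f ∈ NN := ⟨hf, hV, Or.inr ⟨hU, hW⟩⟩
    refine ⟨⟨f, hfN⟩ * ⟨k, mcl_le k.2⟩, ?_⟩
    rw [map_mul, h4]
    rfl

/-- the automorphism group of `McL` -/
noncomputable def ePhi : NN ≃* MulAut McL := MulEquiv.ofBijective Phi ⟨Phi_injective, Phi_surjective⟩

theorem NN_le : NN ≤ Co0 := fun _ h => h.1

/-- its embedding in `Co₀` -/
noncomputable def gg : MulAut McL →* Co0 :=
  (Subgroup.inclusion NN_le).comp ePhi.symm.toMonoidHom

theorem gg_conj (x : McL) : gg (MulAut.conj x) = ⟨x, (mem_McL.1 x.2).1⟩ := by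
  have h1 : MulAut.conj x = ePhi ⟨x, mcl_le x.2⟩ := rfl
  have h2 : ePhi.symm (MulAut.conj x) = ⟨x, mcl_le x.2⟩ := by rw [h1, MulEquiv.symm_apply_apply]
  show Subgroup.inclusion NN_le (ePhi.symm (MulAut.conj x)) = _
  rw [h2]
  rfl

open Cfsg.Agent.H713.Spor.McL Cfsg.Agent.SporadicRecognition.HSRank Cfsg.Agent.H727.Orth in
theorem evenO : EvenO McL := by
  obtain ⟨hfin, hsimple, hcard, ⟨L⟩⟩ := TypeM.FactsMcL.exists_mt_mcl
  have := Fintype.ofFinite McL
  have := Fintype.ofFinite (MulAut McL)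
  obtain ⟨μ, -, hμ⟩ := exists_22
  have hμd := Cfsg.Agent.H713.Spor.HS.degree_of_lchi hμ
  obtain ⟨α, hα⟩ : ∃ α : IrrCharacter McL, (α : McL → ℂ) = (μ : ↥(K (-leechV) leechU) → ℂ) ∘ mclEquiv :=
    ⟨⟨_, isIrr_comp mclEquiv.toMonoidHom mclEquiv.surjective μ.2⟩, rfl⟩
  have hαd : charDegree (α : McL → ℂ) = 22 := by
    rw [hα]
    have := H687.charDegree_comp mclEquiv.toMonoidHom (μ : ↥(K (-leechV) leechU) → ℂ)
    rw [show (μ : ↥(K (-leechV) leechU) → ℂ) ∘ mclEquiv = (μ : ↥(K (-leechV) leechU) → ℂ) ∘ mclEquiv.toMonoidHom from rfl,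
      this]
    omega
  have hval : ∀ y : McL, lchi gg (MulAut.conj y) = 2 + (α : McL → ℂ) y := by
    intro y
    have h2 := hμ (mclEquiv y)
    have h3 : lchi (K (-leechV) leechU).subtype (mclEquiv y) =
        (Co2Type.Mono.tr8 (⟨y, (mem_McL.1 y.2).1⟩ : Co0) : ℂ) / 8 := rfl
    rw [h3] at h2
    show (tr8 (gg (MulAut.conj y)) : ℂ) / 8 = _
    rw [gg_conj, hα, h2]
    simp
  have hfun : (fun s : McL => lchi gg (MulAut.conj s)) = (2 : ℂ) • (1 : McL → ℂ) + (α : McL → ℂ) := by
    funext s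
    rw [hval]
    simp
  have hα1 : (α : McL → ℂ) ≠ 1 := by
    intro h
    rw [h] at hαd
    have : charDegree (1 : McL → ℂ) = 1 := by
      unfold charDegree
      simp
    omega
  have hinner : classInner (fun s : McL => lchi gg (MulAut.conj s)) (α : McL → ℂ) = ((1 : ℤ) : ℂ) := by
    rw [hfun, classInner_add_left, classInner_smul_left, classInner_irr_ne isIrr_one α.2 (Ne.symm hα1),
      classInner_irr_self α.2]
    simp
  have hR : RChar (lchi gg) := rchar_lchi gg
  have hR' : RChar (fun s : McL => lchi gg (MulAut.conj s)) := hR.comp (MulAut.conj : McL →* MulAut McL)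
  -- the indicator
  have hreal : _root_.Cfsg.Agent.H705.StrongLin.ind (α : McL → ℂ) ≠ 0 := by
    intro h
    obtain ⟨g, hg⟩ := (Cfsg.Agent.H694.ind_eq_zero_iff α.2).1 h
    apply hg
    have h1 := hval g
    have h2 : (α : McL → ℂ) g = ((tr8 (gg (MulAut.conj g)) : ℤ) : ℂ) / 8 - 2 := by
      rw [eq_sub_iff_add_eq, add_comm]
      exact h1.symm
    rw [h2]
    have h3 : (((tr8 (gg (MulAut.conj g)) : ℤ) : ℂ) / 8 - 2) = (((tr8 (gg (MulAut.conj g)) : ℝ) / 8 - 2 : ℝ) : ℂ) := by
      push_cast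
      rfl
    rw [h3, Complex.ofReal_im]
  have hind : _root_.Cfsg.Agent.H705.StrongLin.ind (α : McL → ℂ) = 1 := by
    rcases Cfsg.Agent.H694.ind_cases α.2 with h | h | h
    · exact absurd h hreal
    · exact h
    · exfalso
      obtain ⟨n, hn⟩ := hR'.even _ α.2 h
      rw [hinner] at hn
      have : (1 : ℤ) = 2 * n := by exact_mod_cast hn
      omega
  have hJf : Fintype (⊤ : Subgroup (MulAut McL)) := Fintype.ofFinite _
  refine ⟨α, α.2, hind, by rw [hαd]; decide, ?_⟩
  refine oext_of_real center_mcl α.2 hind ⊤ (fun _ => Subgroup.mem_top _)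
    (π := fun x : (⊤ : Subgroup (MulAut McL)) => lchi gg (x : MulAut McL)) (hR.comp (Subgroup.subtype ⊤)) ?_ ?_
  · show Odd (mu (fun s : McL => lchi gg (MulAut.conj s)) (α : McL → ℂ))
    rw [mu_eq hinner]
    exact odd_one
  · rw [Subgroup.relIndex_top_left]
    exact odd_one

end Cfsg.Agent.H253.Orth.McL

namespace Cfsg.Agent.H253.Orth

universe v

open Cfsg Cfsg.Agent.H727.Orth

/-- **The McLaughlin group.** -/
theorem evenO_mcl {K : Type v} [Group K] [Finite K] (h : Spor.IsoMcL K) : EvenO K := by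
  obtain ⟨e⟩ := h
  have : Finite Spor.McL := Finite.of_equiv _ e.toEquiv
  exact EvenO.congr e.symm McL.evenO

end Cfsg.Agent.H253.Orth
end

-- part: H139/Orth/OrbOne
section
/-!
# `Orb r (r - 1) S` and `r ∥ |S|`: the elements of order `r` form one class
-/

set_option autoImplicit false

namespace Cfsg.Agent.H139.Orth

open Subgroup Cfsg.Agent.H921.Spor Cfsg.Agent.H727.Orth
open scoped Pointwise

universe u

/-- a homomorphism-like function on a cyclic group of prime order -/
theorem exists_fun {T : Type u} [Group T] {r k : ℕ} (hr : r.Prime) {e : T} (he : orderOf e = r)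
    (hk : e ^ r ^ k = 1) : ∃ f : T → ZMod (r ^ k),
      (∀ a ∈ zpowers e, ∀ b ∈ zpowers e, f (a * b) = f a + f b) ∧ f e ≠ 0 := by
  classical
  have hk0 : k ≠ 0 := by
    rintro rfl
    rw [pow_zero, pow_one] at hk
    rw [hk, orderOf_one] at he
    exact hr.one_lt.ne he
  obtain ⟨j, rfl⟩ : ∃ j, k = j + 1 := ⟨k - 1, by omega⟩
  -- the value at a power
  have hfin : ∀ x ∈ zpowers e, ∃ n : ℕ, e ^ n = x := by
    intro x hx
    have hfo : IsOfFinOrder e := orderOf_pos_iff.1 (he ▸ hr.pos)
    have := (hfo.mem_powers_iff_mem_zpowers).2 hx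
    exact this
  let f : T → ZMod (r ^ (j + 1)) := fun x =>
    if hx : x ∈ zpowers e then (((hfin x hx).choose * r ^ j : ℕ) : ZMod (r ^ (j + 1))) else 0
  have hf : ∀ n : ℕ, f (e ^ n) = ((n * r ^ j : ℕ) : ZMod (r ^ (j + 1))) := by
    intro n
    have hx : e ^ n ∈ zpowers e := npow_mem_zpowers e n
    have h1 : f (e ^ n) = (((hfin _ hx).choose * r ^ j : ℕ) : ZMod (r ^ (j + 1))) := dif_pos hx
    rw [h1]
    have h2 := (hfin _ hx).choose_spec
    rw [pow_inj_mod, he] at h2
    rw [ZMod.natCast_eq_natCast_iff]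
    have h3 : (hfin _ hx).choose ≡ n [MOD r] := h2
    rw [pow_succ']
    exact Nat.ModEq.mul_right' _ h3
  refine ⟨f, ?_, ?_⟩
  · intro a ha b hb
    obtain ⟨n, rfl⟩ := hfin a ha
    obtain ⟨m, rfl⟩ := hfin b hb
    rw [← pow_add, hf, hf, hf]
    push_cast
    ring
  · have h1 := hf 1
    rw [pow_one, one_mul] at h1
    rw [h1]
    intro h2
    rw [ZMod.natCast_eq_zero_iff] at h2
    have h3 := Nat.le_of_dvd (pow_pos hr.pos j) h2
    have h4 : r ^ j < r ^ (j + 1) := Nat.pow_lt_pow_right hr.one_lt (Nat.lt_succ_self j)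
    omega

/-- **One class**, from the powers of one element. -/
theorem isConj_of_zpowers {S : Type u} [Group S] [Finite S] {r : ℕ} (hr : r.Prime)
    (hsq : ¬ r ^ 2 ∣ Nat.card S) {e₀ : S} (ho : orderOf e₀ = r)
    (key : ∀ z ∈ zpowers e₀, z ≠ 1 → IsConj e₀ z) :
    ∀ y z : S, orderOf y = r → orderOf z = r → IsConj y z := by
  have hfact : Fact r.Prime := ⟨hr⟩
  have hsyl : ∀ y : S, orderOf y = r → IsConj e₀ y := by
    intro y hy
    obtain ⟨m, hm⟩ : ∃ m, Nat.card S = r * m := (ho ▸ _root_.orderOf_dvd_natCard e₀ : r ∣ Nat.card S)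
    have hfac : (Nat.card S).factorization r = 1 := by
      apply le_antisymm
      · by_contra hge
        exact hsq ((hr.pow_dvd_iff_le_factorization Nat.card_pos.ne').2 (by omega))
      · exact (hr.pow_dvd_iff_le_factorization Nat.card_pos.ne').1 (by rw [pow_one, hm]; exact dvd_mul_right _ _)
    let P : Sylow r S := Sylow.ofCard (zpowers e₀) (by rw [hfac, pow_one, Nat.card_zpowers, ho])
    let Q : Sylow r S := Sylow.ofCard (zpowers y) (by rw [hfac, pow_one, Nat.card_zpowers, hy])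
    obtain ⟨g, hg⟩ := MulAction.exists_smul_eq S Q P
    have h1 : g * y * g⁻¹ ∈ zpowers e₀ := by
      have h2 : MulAut.conj g • y ∈ MulAut.conj g • (Q : Subgroup S) :=
        Subgroup.smul_mem_pointwise_smul _ _ _ (mem_zpowers y)
      rw [← Sylow.coe_subgroup_smul] at h2
      have h3 : ((g • Q : Sylow r S) : Subgroup S) = zpowers e₀ := by rw [hg]; rfl
      rw [h3] at h2
      exact h2
    have h2 : g * y * g⁻¹ ≠ 1 := by
      intro h3
      rw [conj_eq_one_iff.1 h3, orderOf_one] at hy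
      exact hr.one_lt.ne hy
    exact (key _ h1 h2).trans (isConj_iff.2 ⟨g⁻¹, by group⟩)
  exact fun y z hy hz => (hsyl y hy).symm.trans (hsyl z hz)

/-- **One class.** -/
theorem isConj_of_orb {S : Type u} [Group S] [Finite S] {r : ℕ} (hr : r.Prime)
    (hsq : ¬ r ^ 2 ∣ Nat.card S) (h : Orb r (r - 1) S) :
    ∀ y z : S, orderOf y = r → orderOf z = r → IsConj y z := by
  classical
  have hfact : Fact r.Prime := ⟨hr⟩
  obtain ⟨E, e₀, k, hfin, hE, hEr, he₀, he₁, hd⟩ := h
  -- `E` has order `r`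
  have hEp : IsPGroup r E := fun x => ⟨k, Subtype.ext (hEr x x.2)⟩
  obtain ⟨n, hn⟩ := IsPGroup.iff_card.1 hEp
  have hn2 : n < 2 := by
    by_contra hge
    exact hsq ((pow_dvd_pow r (not_lt.1 hge)).trans (hn ▸ Subgroup.card_subgroup_dvd_card E))
  have hn0 : n ≠ 0 := by
    rintro rfl
    rw [pow_zero, Subgroup.card_eq_one] at hn
    rw [hn, mem_bot] at he₀
    exact he₁ he₀
  have hn1 : n = 1 := by omega
  rw [hn1, pow_one] at hn
  have ho : orderOf e₀ = r := by
    have h1 : orderOf (⟨e₀, he₀⟩ : E) ∣ r := hn ▸ _root_.orderOf_dvd_natCard _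
    rw [Subgroup.orderOf_mk] at h1
    rcases (Nat.dvd_prime hr).1 h1 with h2 | h2
    · exact absurd (orderOf_eq_one_iff.1 h2) he₁
    · exact h2
  have hEz : E = zpowers e₀ := by
    symm
    apply Subgroup.eq_of_le_of_card_ge (zpowers_le.2 he₀)
    rw [hn, Nat.card_zpowers, ho]
  obtain ⟨f, hf, hf0⟩ := exists_fun hr ho (hEr e₀ he₀)
  obtain ⟨F, hFc, hFn, hFd⟩ := hd f (by rw [hEz]; exact hf) hf0
  -- the conjugates of `e₀`
  let Z : Finset S := F.image fun s => s * e₀ * s⁻¹
  have hZc : Z.card = r - 1 := by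
    rw [← hFc]
    apply Finset.card_image_of_injOn
    intro s hs t ht hst
    by_contra hne
    obtain ⟨e, he, h1⟩ := hFd s hs t ht hne
    apply h1
    rw [hEz] at he
    obtain ⟨i, rfl⟩ := mem_zpowers_iff.1 he
    have h2 : ∀ s : S, s * e₀ ^ i * s⁻¹ = (s * e₀ * s⁻¹) ^ i := fun s => (conj_zpow).symm
    have hst' : s * e₀ * s⁻¹ = t * e₀ * t⁻¹ := hst
    rw [h2, h2, hst']
  have key : ∀ x ∈ E, x ≠ 1 → ∃ s : S, s * e₀ * s⁻¹ = x := by
    have hEfin : (E : Set S).Finite := Set.toFinite _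
    let W : Finset S := hEfin.toFinset.erase 1
    have hWc : W.card = r - 1 := by
      rw [Finset.card_erase_of_mem (hEfin.mem_toFinset.2 E.one_mem), ← Set.ncard_eq_toFinset_card _ hEfin]
      change Nat.card E - 1 = r - 1
      rw [hn]
    have hZW : Z ⊆ W := by
      intro x hx
      obtain ⟨s, hs, rfl⟩ := Finset.mem_image.1 hx
      rw [Finset.mem_erase, hEfin.mem_toFinset]
      refine ⟨?_, hFn s hs e₀ he₀⟩
      intro h1
      exact he₁ (conj_eq_one_iff.1 h1)
    have hZW' : Z = W := Finset.eq_of_subset_of_card_le hZW (by rw [hZc, hWc])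
    intro x hx hx1
    have h1 : x ∈ W := Finset.mem_erase.2 ⟨hx1, hEfin.mem_toFinset.2 hx⟩
    rw [← hZW'] at h1
    obtain ⟨s, -, hs⟩ := Finset.mem_image.1 h1
    exact ⟨s, hs⟩
  have hz : ∀ z ∈ zpowers e₀, z ≠ 1 → IsConj e₀ z := by
    intro z hz hz1
    obtain ⟨s, hs⟩ := key z (hEz ▸ hz) hz1
    exact isConj_iff.2 ⟨s, hs⟩
  exact isConj_of_zpowers hr hsq ho hz

/-- **The row from a configuration.** -/
theorem evenO_of_orb {S : Type u} [Group S] [Finite S] (hc : Subgroup.center S = ⊥) {r : ℕ} (hr : r.Prime)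
    (hr2 : r ≠ 2) (hsq : ¬ r ^ 2 ∣ Nat.card S) (h : Orb r (r - 1) S) : EvenO S := by
  have hfact : Fact r.Prime := ⟨hr⟩
  have hdvd : r ∣ Nat.card S := by
    obtain ⟨E, e₀, k, hfin, hE, hEr, he₀, he₁, hd⟩ := h
    have h1 : orderOf e₀ ∣ r ^ k := orderOf_dvd_of_pow_eq_one (hEr e₀ he₀)
    obtain ⟨i, -, hi⟩ := (Nat.dvd_prime_pow hr).1 h1
    have hi0 : i ≠ 0 := by
      rintro rfl
      rw [pow_zero] at hi
      exact he₁ (orderOf_eq_one_iff.1 hi)
    exact (dvd_pow_self r hi0).trans (hi ▸ _root_.orderOf_dvd_natCard e₀)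
  obtain ⟨y, hy⟩ := exists_prime_orderOf_dvd_card' r hdvd
  exact evenO_of_once hc hr hr2 hsq hy fun z hz => isConj_of_orb hr hsq h y z hy hz

/-- An element of order `r` conjugate to all its nontrivial powers. -/
def RootP (r : ℕ) (S : Type*) [Group S] : Prop :=
  ∃ x : S, orderOf x = r ∧ ∀ z ∈ zpowers x, z ≠ 1 → IsConj x z

theorem RootP.map_injective {r : ℕ} {S T : Type*} [Group S] [Group T] (h : RootP r S) (f : S →* T)
    (hf : Function.Injective f) : RootP r T := by
  obtain ⟨x, hx, hz⟩ := h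
  refine ⟨f x, by rw [orderOf_injective f hf, hx], ?_⟩
  intro z hz' hz1
  obtain ⟨i, rfl⟩ := mem_zpowers_iff.1 hz'
  rw [← map_zpow] at hz1 ⊢
  exact MonoidHom.map_isConj f (hz _ (zpow_mem_zpowers x i) (fun h1 => hz1 (by rw [h1, map_one])))

theorem RootP.of_pow {r : ℕ} {S : Type*} [Group S] (hr : r.Prime) {x t : S} (hx : x ^ r = 1) (hx1 : x ≠ 1)
    {g : ℕ} (ht : t * x = x ^ g * t) (hg : ∀ k < r, k ≠ 0 → ∃ j < r, g ^ j % r = k) : RootP r S := by
  have hfact : Fact r.Prime := ⟨hr⟩
  have ho : orderOf x = r := orderOf_eq_prime hx hx1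
  have ht' : t * x * t⁻¹ = x ^ g := by rw [ht, mul_inv_cancel_right]
  have key : ∀ j : ℕ, t ^ j * x * (t ^ j)⁻¹ = x ^ g ^ j := by
    intro j
    induction j with
    | zero => simp
    | succ j ih =>
      have h1 : t ^ (j + 1) * x * (t ^ (j + 1))⁻¹ = t * (t ^ j * x * (t ^ j)⁻¹) * t⁻¹ := by
        rw [pow_succ']
        group
      rw [h1, ih, ← conj_pow, ht', ← pow_mul, pow_succ']
  refine ⟨x, ho, ?_⟩
  intro z hz hz1
  have hfo : IsOfFinOrder x := orderOf_pos_iff.1 (ho ▸ hr.pos)
  obtain ⟨n, hn⟩ := (hfo.mem_powers_iff_mem_zpowers).2 hz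
  have hn' : x ^ n = z := hn
  have h1 : n % r ≠ 0 := by
    intro h2
    apply hz1
    rw [← hn', ← ho] at *
    rw [← pow_mod_orderOf, h2, pow_zero]
  obtain ⟨j, -, hj⟩ := hg (n % r) (Nat.mod_lt _ hr.pos) h1
  rw [isConj_iff]
  refine ⟨t ^ j, ?_⟩
  rw [key, ← hn', ← pow_mod_orderOf, ho, hj, ← ho, pow_mod_orderOf]

theorem RootP.isConj {r : ℕ} {S : Type u} [Group S] [Finite S] (h : RootP r S) (hr : r.Prime)
    (hsq : ¬ r ^ 2 ∣ Nat.card S) : ∀ y z : S, orderOf y = r → orderOf z = r → IsConj y z := by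
  obtain ⟨x, hx, hz⟩ := h
  exact isConj_of_zpowers hr hsq hx hz

theorem RootP.evenO {S : Type u} [Group S] [Finite S] (hc : Subgroup.center S = ⊥) {r : ℕ} (hr : r.Prime)
    (hr2 : r ≠ 2) (hsq : ¬ r ^ 2 ∣ Nat.card S) (h : RootP r S) : EvenO S := by
  have h1 := h.isConj hr hsq
  obtain ⟨x, hx, -⟩ := h
  exact evenO_of_once hc hr hr2 hsq hx fun z hz => h1 x z hx hz

end Cfsg.Agent.H139.Orth
end

-- part: H139/Orth/FiFour
section
/-!
# `Fi24'`: the elements of order 11 form one class

The path of length 10 of the graph `Y542` gives `Perm (Fin 11) → Fi24`; the end node of the short arm commutes with it, so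
a Frobenius group of order 110 of `Perm (Fin 11)` gives one in the commutator subgroup.
-/

set_option autoImplicit false
set_option linter.unusedSectionVars false
set_option linter.style.haveILetI false

namespace Cfsg.Agent.H139.Orth.FiFour

open Cfsg Cfsg.Spor Cfsg.Agent.H921.Spor.Fi Equiv

/-- the 11-cycle -/
def x11 : Perm (Fin 11) := finRotate 11

/-- multiplication by 2, a 10-cycle -/
def t11 : Perm (Fin 11) := swap (1 : Fin 11) 2 * swap (2 : Fin 11) 4 * swap (4 : Fin 11) 8 * swap (8 : Fin 11) 5 * swap (5 : Fin 11) 10 * swap (10 : Fin 11) 9 * swap (9 : Fin 11) 7 *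
  swap (7 : Fin 11) 3 * swap (3 : Fin 11) 6

/-- an element conjugating the 11-cycle -/
def g11 : Perm (Fin 11) := swap (2 : Fin 11) 10 * swap (3 : Fin 11) 9 * swap (4 : Fin 11) 8 * swap (5 : Fin 11) 7

theorem x11_pow : x11 ^ 11 = 1 := by decide +kernel
theorem conj11 : t11 * x11 = x11 ^ 2 * t11 := by decide +kernel
theorem e11 : swap (1 : Fin 11) 2 * swap (0 : Fin 11) 1 = x11 * (g11 * x11 * g11⁻¹) := by decide +kernel

/-- the generators -/
abbrev gF (x : Fi24.Gen) : Fi24 := gn Fi24.edges Fi24.extra x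

theorem gsq (x : Fi24.Gen) : gF x * gF x = 1 := by
  have hx : x ∈ coxNodes Fi24.edges := by cases x <;> decide
  have h5 := rel (extra := Fi24.extra) hx hx
  have h6 : coxLabel Fi24.edges x x = 1 := by simp [coxLabel]
  rwa [h6, pow_one] at h5

theorem gcomm {x y : Fi24.Gen} (h : coxLabel Fi24.edges x y = 2) : gF x * gF y = gF y * gF x := by
  have hx : x ∈ coxNodes Fi24.edges := by cases x <;> decide
  have hy : y ∈ coxNodes Fi24.edges := by cases y <;> decide
  have h2 := rel (extra := Fi24.extra) hx hy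
  rw [h] at h2
  have h5 : gF x * gF y = (gF x * gF y)⁻¹ := eq_inv_of_mul_eq_one_left (by rw [← pow_two]; exact h2)
  rw [h5, mul_inv_rev, inv_eq_of_mul_eq_one_left (gsq x), inv_eq_of_mul_eq_one_left (gsq y)]

theorem gbraid {x y : Fi24.Gen} (h : coxLabel Fi24.edges x y = 3) :
    gF x * gF y * gF x = gF y * gF x * gF y := by
  have hx : x ∈ coxNodes Fi24.edges := by cases x <;> decide
  have hy : y ∈ coxNodes Fi24.edges := by cases y <;> decide
  have h2 := rel (extra := Fi24.extra) hx hy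
  rw [h] at h2
  have h3 : (gF x * gF y * gF x) * (gF y * gF x * gF y) = 1 := by
    rw [← h2]
    change _ = (gF x * gF y) ^ 3
    simp only [pow_succ, pow_zero, one_mul, mul_assoc]
  have h4 : gF x * gF y * gF x = (gF y * gF x * gF y)⁻¹ := eq_inv_of_mul_eq_one_left h3
  rw [h4, mul_inv_rev, mul_inv_rev, inv_eq_of_mul_eq_one_left (gsq x), inv_eq_of_mul_eq_one_left (gsq y),
    mul_assoc]

theorem lab3 : ∀ i : Fin 9, coxLabel Fi24.edges (f24 i) (f24 (i + 1)) = 3 := by decide

theorem lab2 : ∀ i j : Fin 10, (i : ℕ) + 1 < j → coxLabel Fi24.edges (f24 i) (f24 j) = 2 := by decide +kernel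

theorem labi : ∀ i : Fin 10, coxLabel Fi24.edges .i (f24 i) = 2 := by decide

theorem relA : Cfsg.Agent.H346.CoxA.Rel 10 (fun i => gF (f24 i)) where
  sq i _ := gsq _
  braid i hi := gbraid (lab3 ⟨i, by omega⟩)
  comm i j hij hj := gcomm (lab2 ⟨i, by omega⟩ ⟨j, hj⟩ hij)

/-- the abelianization of the generators -/
theorem ab_eq (x y : Fi24.Gen) :
    Abelianization.of (gF x) = Abelianization.of (gF y) := by
  have hn : ∀ x : Fi24.Gen, x ∈ coxNodes Fi24.edges := by intro x; cases x <;> decide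
  have hstep : ∀ x y : Fi24.Gen, coxLabel Fi24.edges x y = 3 →
      Abelianization.of (gF x) = Abelianization.of (gF y) := by
    intro x y h
    have h1 := adj_mem (extra := Fi24.extra) (hn x) (hn y) h
    rw [← Abelianization.ker_of, MonoidHom.mem_ker, map_mul] at h1
    have h2 : Abelianization.of (gF y) * Abelianization.of (gF y) = 1 := by
      rw [← map_mul, gsq, map_one]
    exact (eq_inv_of_mul_eq_one_left h1).trans (eq_inv_of_mul_eq_one_left h2).symm
  have key : ∀ x : Fi24.Gen, Abelianization.of (gF x) = Abelianization.of (gF .d) := by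
    have hc : Abelianization.of (gF .c) = Abelianization.of (gF .d) := hstep _ _ (by decide)
    have hb : Abelianization.of (gF .b) = Abelianization.of (gF .d) := (hstep _ .c (by decide)).trans hc
    have ha : Abelianization.of (gF .a) = Abelianization.of (gF .d) := (hstep _ .b (by decide)).trans hb
    have hk : Abelianization.of (gF .k) = Abelianization.of (gF .d) := (hstep _ .a (by decide)).trans ha
    have hl : Abelianization.of (gF .l) = Abelianization.of (gF .d) := (hstep _ .k (by decide)).trans hk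
    have he : Abelianization.of (gF .e) = Abelianization.of (gF .d) := hstep _ _ (by decide)
    have hf : Abelianization.of (gF .f) = Abelianization.of (gF .d) := (hstep _ .e (by decide)).trans he
    have hg : Abelianization.of (gF .g) = Abelianization.of (gF .d) := (hstep _ .f (by decide)).trans hf
    have hj : Abelianization.of (gF .j) = Abelianization.of (gF .d) := (hstep _ .g (by decide)).trans hg
    have hh : Abelianization.of (gF .h) = Abelianization.of (gF .d) := hstep _ _ (by decide)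
    have hi : Abelianization.of (gF .i) = Abelianization.of (gF .d) := (hstep _ .h (by decide)).trans hh
    intro x
    cases x
    · exact hl
    · exact hk
    · exact ha
    · exact hb
    · exact hc
    · rfl
    · exact he
    · exact hf
    · exact hg
    · exact hj
    · exact hh
    · exact hi
  rw [key x, key y]

/-- **`11 : 10` in `Fi24'`.** -/
theorem rootP (hnc : ∃ g h : Fi24', g * h ≠ h * g) : RootP 11 Fi24' := by
  have hp : Nat.Prime 11 := by norm_num
  obtain ⟨f, hf⟩ := Cfsg.Agent.H346.CoxA.exists_hom 10 _ relA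
  have h0 : f (swap (0 : Fin 11) 1) = gF (f24 0) := hf 0
  have h1 : f (swap (1 : Fin 11) 2) = gF (f24 1) := hf 1
  -- parity
  have hsw : ∀ a b : Fin 11, a ≠ b → Abelianization.of (f (swap a b)) = Abelianization.of (gF .d) := by
    intro a b hab
    have h2 : IsConj (swap a b) (swap (0 : Fin 11) 1) := Perm.isConj_swap hab (by decide)
    have h3 := MonoidHom.map_isConj (Abelianization.of.comp f) h2
    rw [isConj_iff_eq] at h3
    change Abelianization.of (f (swap a b)) = Abelianization.of (f (swap (0 : Fin 11) 1)) at h3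
    rw [h3, h0, ab_eq]
  have hε : Abelianization.of (gF .d) * Abelianization.of (gF .d) = 1 := by
    rw [← map_mul, gsq, map_one]
  have hε2 : Abelianization.of (gF .d) ^ 2 = 1 := by rw [pow_two, hε]
  have hxm : f x11 ∈ commutator Fi24 := by
    have e : x11 = swap (0 : Fin 11) 1 * swap (1 : Fin 11) 2 * swap (2 : Fin 11) 3 * swap (3 : Fin 11) 4 * swap (4 : Fin 11) 5 * swap (5 : Fin 11) 6 * swap (6 : Fin 11) 7 * swap (7 : Fin 11) 8 *
      swap (8 : Fin 11) 9 * swap (9 : Fin 11) 10 := by decide +kernel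
    rw [← Abelianization.ker_of, MonoidHom.mem_ker, e]
    simp only [map_mul]
    rw [hsw 0 1 (by decide), hsw 1 2 (by decide), hsw 2 3 (by decide), hsw 3 4 (by decide), hsw 4 5 (by decide),
      hsw 5 6 (by decide), hsw 6 7 (by decide), hsw 7 8 (by decide), hsw 8 9 (by decide), hsw 9 10 (by decide)]
    simp only [mul_assoc, hε, mul_one]
  have htm : f t11 * gF .i ∈ commutator Fi24 := by
    rw [← Abelianization.ker_of, MonoidHom.mem_ker, t11]
    simp only [map_mul]
    rw [hsw 1 2 (by decide), hsw 2 4 (by decide), hsw 4 8 (by decide), hsw 8 5 (by decide), hsw 5 10 (by decide),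
      hsw 10 9 (by decide), hsw 9 7 (by decide), hsw 7 3 (by decide), hsw 3 6 (by decide), ab_eq .i .d]
    simp only [mul_assoc, hε, mul_one]
  -- the node `i` commutes with the image
  have hic : ∀ p : Perm (Fin 11), gF .i * f p = f p * gF .i := by
    intro p
    have hp : p ∈ Submonoid.closure (Set.range fun i : Fin 10 => swap i.castSucc i.succ) := by
      rw [Perm.mclosure_swap_castSucc_succ]; trivial
    induction hp using Submonoid.closure_induction with
    | mem x hx =>
      obtain ⟨i, rfl⟩ := hx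
      rw [hf i]
      exact gcomm (labi i)
    | one => simp
    | mul x y _ _ hx hy => rw [map_mul, ← mul_assoc, hx, mul_assoc, hy, ← mul_assoc]
  have hx1 : f x11 ≠ 1 := by
    intro hx
    apply Fi24_ne hnc
    have h2 : gF (f24 1) * gF (f24 0) = 1 := by
      rw [← h0, ← h1, ← map_mul, e11, map_mul, map_mul, map_mul, hx, map_inv]
      group
    have h3 : gF (f24 1) = (gF (f24 0))⁻¹ := eq_inv_of_mul_eq_one_left h2
    change gF (f24 0) * gF (f24 1) = 1
    rw [h3, mul_inv_cancel]
  refine RootP.of_pow hp (x := (⟨f x11, hxm⟩ : Fi24')) (t := ⟨f t11 * gF .i, htm⟩) (g := 2) ?_ ?_ ?_ (by decide)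
  · apply Subtype.ext
    change f x11 ^ 11 = 1
    rw [← map_pow, x11_pow, map_one]
  · intro h
    exact hx1 (congrArg Subtype.val h)
  · apply Subtype.ext
    change f t11 * gF .i * f x11 = f x11 ^ 2 * (f t11 * gF .i)
    rw [mul_assoc, hic, ← mul_assoc, ← map_mul, conj11, map_mul, map_pow, mul_assoc]

end Cfsg.Agent.H139.Orth.FiFour
end

-- part: H139/Orth/SporTwo
section
/-!
# Sporadic groups with an outer automorphism of order two: rows of the even-degree orthogonal
character theorem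

`M12, M22` (elements of order 5), `J2, HS, Fi22, HN` (order 7), `Suz, ON, Fi24'` (order 11): the elements of this order
are one class.
-/

set_option autoImplicit false
set_option linter.unusedSectionVars false
set_option linter.style.haveILetI false

namespace Cfsg.Agent.H139.Orth

open Cfsg Subgroup Cfsg.Agent.H921.Spor Cfsg.Agent.H727.Orth Cfsg.Agent.NotCT

universe u

variable {S : Type u} [Group S] [Finite S]

/-- the row from an isomorphism -/
theorem evenO_of_orb_equiv {T : Type*} [Group T] (e : S ≃* T) (hc : Subgroup.center S = ⊥) {r : ℕ}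
    (hr : r.Prime) (hr2 : r ≠ 2) (hsq : ¬ r ^ 2 ∣ Nat.card S) (h : Orb r (r - 1) T) : EvenO S :=
  evenO_of_orb hc hr hr2 hsq (h.of_equiv' e)

theorem exists_ne [IsSimpleGroup S] (hc : Subgroup.center S = ⊥) : ∃ a b : S, a * b ≠ b * a := by
  by_contra hno
  push Not at hno
  have h1 : Subgroup.center S = ⊤ := by
    rw [eq_top_iff]
    intro x _
    rw [mem_center_iff]
    exact fun g => hno g x
  rw [hc] at h1
  exact bot_ne_top h1

theorem exists_ne_equiv [IsSimpleGroup S] {T : Type*} [Group T] (e : S ≃* T) (hc : Subgroup.center S = ⊥) :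
    ∃ a b : T, a * b ≠ b * a := by
  obtain ⟨a, b, hab⟩ := exists_ne hc
  refine ⟨e a, e b, fun h => hab (e.injective ?_)⟩
  rw [map_mul, map_mul, h]

theorem simple_equiv [IsSimpleGroup S] {T : Type*} [Group T] (e : S ≃* T) : IsSimpleGroup T :=
  (MulEquiv.isSimpleGroup_congr e).1 inferInstance

/-! ### `M12`, `M22` -/

theorem M12_five : Conf 5 4 Spor.M12 :=
  M24.conf_of_chk (X := 923525504613438217231349507977981984) (A := 816096643313514173455979035738121248)
    (B := 816923151502440406496064250233270304) (N := 4) (ls := [2]) (by norm_num) (by norm_num) (by norm_num)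
    (by intro l hl h1 h2; interval_cases l <;> revert h1 h2 <;> decide) (by decide +kernel)
    (M24.mem_M12 (by decide +kernel)) (M24.mem_M12 (by decide +kernel))

theorem M22_five : Conf 5 4 Spor.M22 :=
  M24.conf_of_chk (X := 963887893057966430096954263890970656) (A := 963755080457121623166422060909598016)
    (B := 980618359438650805479072710695368000) (N := 4) (ls := [2]) (by norm_num) (by norm_num) (by norm_num)
    (by intro l hl h1 h2; interval_cases l <;> revert h1 h2 <;> decide) (by decide +kernel)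
    (M24.mem_M22 (by decide +kernel)) (M24.mem_M22 (by decide +kernel))

theorem m12_evenO (h : Cfsg.Spor.IsoM12 S) (hc : Subgroup.center S = ⊥) : EvenO S := by
  have hn := Orders.m12 h
  obtain ⟨e⟩ := h
  exact evenO_of_orb_equiv e hc (r := 5) (by norm_num) (by norm_num) (by rw [hn]; norm_num)
    (M12_five.orb (by norm_num))

theorem m22_evenO (h : Cfsg.Spor.IsoM22 S) (hc : Subgroup.center S = ⊥) : EvenO S := by
  have hn := Orders.m22 h
  obtain ⟨e⟩ := h
  exact evenO_of_orb_equiv e hc (r := 5) (by norm_num) (by norm_num) (by rw [hn]; norm_num)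
    (M22_five.orb (by norm_num))

/-! ### `J2`, `Suz`, `HN`, `ON`, `Fi22` -/

theorem j2_evenO (h : Cfsg.Spor.IsoJ2 S) (hc : Subgroup.center S = ⊥) : EvenO S := by
  have hn := Orders.j2 h
  obtain ⟨e⟩ := h
  exact evenO_of_orb_equiv e hc (r := 7) (by norm_num) (by norm_num) (by rw [hn]; norm_num) J2.J2_seven

theorem suz_evenO (h : Cfsg.Spor.IsoSuz S) (hc : Subgroup.center S = ⊥) : EvenO S := by
  have hn := Orders.suz h
  obtain ⟨e⟩ := h
  exact evenO_of_orb_equiv e hc (r := 11) (by norm_num) (by norm_num) (by rw [hn]; norm_num)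
    (Suz.Suz_eleven.orb (by norm_num))

theorem hn_evenO [IsSimpleGroup S] (h : Cfsg.Spor.IsoHN S) (hc : Subgroup.center S = ⊥) : EvenO S := by
  have hn := Orders.hn h
  obtain ⟨e⟩ := h
  exact evenO_of_orb_equiv e hc (r := 7) (by norm_num) (by norm_num) (by rw [hn]; norm_num)
    ((HN.HN_seven (simple_equiv e)).orb (by norm_num))

theorem on_evenO [IsSimpleGroup S] (h : Cfsg.Spor.IsoON S) (hc : Subgroup.center S = ⊥) : EvenO S := by
  have hn := Orders.on h
  obtain ⟨e⟩ := h
  exact evenO_of_orb_equiv e hc (r := 11) (by norm_num) (by norm_num) (by rw [hn]; norm_num)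
    (ON.ON_eleven (simple_equiv e))

theorem fi22_evenO [IsSimpleGroup S] (h : Cfsg.Spor.IsoFi22 S) (hc : Subgroup.center S = ⊥) : EvenO S := by
  have hn := Orders.fi22 h
  obtain ⟨e⟩ := h
  exact evenO_of_orb_equiv e hc (r := 7) (by norm_num) (by norm_num) (by rw [hn]; norm_num)
    ((Fi.Fi22_seven (exists_ne_equiv e hc)).orb (by norm_num))

/-! ### `HS` -/

namespace HS

open Cfsg.Agent.SporadicA.PermTab Cfsg.Agent.H661.Spor.Tab Cfsg.Agent.HN.HS100 Equiv

/-- Two lists of tables with the same product. -/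
def chkE (n : ℕ) (L M : List ℕ) : Bool := allB (fun i => Nat.beq (ev L i) (ev M i)) n

theorem eq_of_chk {n : ℕ} {g h : Perm (Fin n)} {L M : List ℕ} (hg : ∀ i : Fin n, (g i : ℕ) = ev L i)
    (hh : ∀ i : Fin n, (h i : ℕ) = ev M i) (hL : chkE n L M = true) : g = h := by
  refine Equiv.ext fun i => Fin.ext ?_
  rw [hg i, hh i]
  exact Nat.eq_of_beq_eq_true ((allB_iff _ _).1 hL i i.2)

theorem ev_mul {n : ℕ} {g h : Perm (Fin n)} {L M : List ℕ} (hg : ∀ i : Fin n, (g i : ℕ) = ev L i)
    (hh : ∀ i : Fin n, (h i : ℕ) = ev M i) (i : Fin n) : ((g * h) i : ℕ) = ev (M ++ L) i := by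
  rw [ev_append, ← hh, ← hg]
  rfl

theorem rootP {n : ℕ} {G : Subgroup (Perm (Fin n))} {X U : List ℕ} (hX : ∀ P ∈ X, InG G P)
    (hU : ∀ P ∈ U, InG G P) {r g : ℕ} (hr : r.Prime) (hg : ∀ k < r, k ≠ 0 → ∃ j < r, g ^ j % r = k)
    (h1 : chkE n (rp X r) [] = true) (i : Fin n) (h2 : Nat.beq (ev X i) i = false)
    (h3 : chkE n (X ++ U) (U ++ rp X g) = true) : RootP r G := by
  obtain ⟨x, hx, hx'⟩ := exists_ev X hX
  obtain ⟨u, hu, hu'⟩ := exists_ev U hU
  refine RootP.of_pow hr (x := (⟨x, hx⟩ : G)) (t := ⟨u, hu⟩) (g := g) ?_ ?_ ?_ hg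
  · apply Subtype.ext
    exact eq_of_chk (ev_rp hx' r) (fun i => rfl) h1
  · intro h4
    have h5 : x = 1 := congrArg Subtype.val h4
    have h6 := hx' i
    rw [h5] at h6
    have h7 : ((1 : Perm (Fin n)) i : ℕ) = i := rfl
    rw [h7] at h6
    rw [← h6] at h2
    simp at h2
  · apply Subtype.ext
    exact eq_of_chk (ev_mul hu' hx') (ev_mul (ev_rp hx' g) hu') h3

theorem rootP_Q : RootP 7 Q :=
  rootP (X := [tX, Cfsg.Agent.H661.Spor.HS.T]) (U := [tY, tX, tY, tW, tW, tW, tW, tX, tW]) (g := 5)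
    (fun P hP => by
      rcases List.mem_cons.1 hP with rfl | hP
      · exact inX
      · rw [List.mem_singleton] at hP
        subst hP
        exact Cfsg.Agent.H661.Spor.HS.inT)
    (fun P hP => by
      have h1 : P = tX ∨ P = tY ∨ P = tW := by
        simp only [List.mem_cons, List.not_mem_nil, or_false] at hP
        tauto
      rcases h1 with rfl | rfl | rfl
      · exact inX
      · exact inY
      · exact inW)
    (by norm_num) (by decide) (by decide +kernel) 0 (by decide +kernel) (by decide +kernel)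

theorem rootP_HS : RootP 7 Cfsg.Spor.HS := by
  obtain ⟨⟨e⟩, -⟩ := Cfsg.Agent.HN.AutHS.nonempty_Q
  exact rootP_Q.map_injective e.toMonoidHom e.injective

end HS

theorem hs_evenO (h : Cfsg.Spor.IsoHS S) (hc : Subgroup.center S = ⊥) : EvenO S := by
  have hn := Orders.hs h
  obtain ⟨e⟩ := h
  exact RootP.evenO hc (r := 7) (by norm_num) (by norm_num) (by rw [hn]; norm_num)
    (HS.rootP_HS.map_injective e.symm.toMonoidHom e.symm.injective)

/-! ### `Fi24'` -/

theorem fi24_evenO [IsSimpleGroup S] (h : Cfsg.Spor.IsoFi24' S) (hc : Subgroup.center S = ⊥) : EvenO S := by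
  have hn := Orders.fi24 h
  obtain ⟨e⟩ := h
  exact RootP.evenO hc (r := 11) (by norm_num) (by norm_num) (by rw [hn]; norm_num)
    ((FiFour.rootP (exists_ne_equiv e hc)).map_injective e.symm.toMonoidHom e.symm.injective)

end Cfsg.Agent.H139.Orth
end

-- part: H727/Orth/SporAll
section
/-!
# Rows: the sporadic groups
-/

set_option autoImplicit false
set_option linter.unusedSectionVars false

namespace Cfsg.Agent.H727.Orth

open Cfsg
open Cfsg.Agent.H727.Orth.SporOne

universe u

variable {S : Type u} [Group S] [Finite S] [IsSimpleGroup S]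

/-- **The sporadic groups.** -/
theorem row_sporadic (hS : ¬ IsMulCommutative S) (h : IsSporadicGroup S) : OrthRow S := by
  have hc := center_eq_bot hS
  have hna := not_comm_of hS
  rcases h with h | h | h | h | h | h | h | h | h | h | h | h | h | h | h | h | h | h |
      h | h | h | h | h | h | h | h
  · exact (m11_evenO h hc).orthRow (H253.Orth.deg8_m11 h)
  · exact (H139.Orth.m12_evenO h hc).orthRow (H253.Orth.deg8_m12 h)
  · exact (H139.Orth.m22_evenO h hc).orthRow (H253.Orth.deg8_m22 h)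
  · exact (m23_evenO h hc).orthRow (m23_deg8 h hna)
  · exact (m24_evenO h hc).orthRow (m24_deg8 h hna)
  · exact (j1_evenO h hc).orthRow (j1_deg8 h hna)
  · exact (H139.Orth.j2_evenO h hc).orthRow (H253.Orth.deg8_j2 h)
  · exact (H253.Orth.evenO_j3 h).orthRow (j3_deg8 h hna)
  · exact (j4_evenO h hc).orthRow (j4_deg8 h hna)
  · exact (co1_evenO h hc).orthRow (co1_deg8 h hna)
  · exact (co2_evenO h hc).orthRow (co2_deg8 h hna)
  · exact (co3_evenO h hc).orthRow (co3_deg8 h hna)
  · exact (H253.Orth.evenO_mcl h).orthRow (H253.Orth.deg8_mcl h)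
  · exact (H139.Orth.hs_evenO h hc).orthRow (H253.Orth.deg8_hs h)
  · exact (H139.Orth.suz_evenO h hc).orthRow (suz_deg8 h hna)
  · exact (H253.Orth.evenO_he h).orthRow (he_deg8 h hna)
  · exact (ru_evenO h hc).orthRow (ru_deg8 h hna)
  · exact (H139.Orth.on_evenO h hc).orthRow (on_deg8 h hna)
  · exact (ly_evenO h hc).orthRow (ly_deg8 h hna)
  · exact (H139.Orth.fi22_evenO h hc).orthRow (fi22_deg8 h hna)
  · exact (fi23_evenO h hc).orthRow (fi23_deg8 h hna)
  · exact (H139.Orth.fi24_evenO h hc).orthRow (fi24_deg8 h hna)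
  · exact (H139.Orth.hn_evenO h hc).orthRow (hn_deg8 h hna)
  · exact (th_evenO h hc).orthRow (th_deg8 h hna)
  · exact (b_evenO h hc).orthRow (b_deg8 h hna)
  · exact (m_evenO h hc).orthRow (m_deg8 h hna)

end Cfsg.Agent.H727.Orth
end

-- part: S4869
section
set_option autoImplicit false
open Cfsg

namespace Cfsg.Agent.S4869

/-- Let S be a finite non-abelian simple group and view S inside its automorphism group A through inner automorphisms. Then S has an irreducible complex character θ of even degree at least 4 such that, for the stabilizer I of θ in A (the automorphisms a with θ ∘ a = θ), there is an irreducible character of I with Frobenius–Schur indicator +1 whose restriction to the inner automorphisms is θ. If S does not have order 60, θ can moreover be chosen of degree at least 8. -/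
theorem result {S : Type*} [Group S] [Finite S] [IsSimpleGroup S] (hS : ¬ IsMulCommutative S) : ∃ θ : Cfsg.IrrCharacter S, 2 ∣ Cfsg.charDegree (θ : S → ℂ) ∧ 4 ≤ Cfsg.charDegree (θ : S → ℂ) ∧ (Nat.card S ≠ 60 → 8 ≤ Cfsg.charDegree (θ : S → ℂ)) ∧ ∀ I : Subgroup (MulAut S), (∀ a : MulAut S, a ∈ I ↔ ∀ s : S, (θ : S → ℂ) (a s) = (θ : S → ℂ) s) → ∀ hI : (MulAut.conj : S →* MulAut S).range ≤ I, ∃ ψ : Cfsg.IrrCharacter ↥I, (Nat.card ↥I : ℂ)⁻¹ * ∑ᶠ g : ↥I, (ψ : ↥I → ℂ) (g * g) = 1 ∧ ∀ s : S, (ψ : ↥I → ℂ) (Subgroup.inclusion hI ⟨MulAut.conj s, ⟨s, rfl⟩⟩) = (θ : S → ℂ) s := by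
  exact Cfsg.Agent.H727.Orth.of_row (Cfsg.Agent.H727.Orth.row_of_known hS Cfsg.Agent.S0000.result
    (Cfsg.Agent.H727.Orth.row_sporadic hS))

end Cfsg.Agent.S4869
end

private theorem dce_82dc6ee6fde4 : _root_.True := by
  try have : _root_.True := by simp only [_root_.Cfsg.Agent.H253.Orth.J2.vw.eq_1]
  try have : _root_.True := by simp only [_root_.Cfsg.Agent.H139.Orth.FiFour.t11.eq_1]
  try have : _root_.True := by simp only [_root_.Cfsg.Agent.H253.Orth.J2.wp.eq_1]
  try have : _root_.True := by simp only [_root_.Cfsg.Agent.H253.Orth.J2.elt.eq_1]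
  exact _root_.True.intro
end
end
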