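import Cfsg.Agent.S0907
import Cfsg.Agent.S4665
import Cfsg.Agent.CharactersDeep.ColumnBessel
import Cfsg.Agent.Characters.SchurBound
import Cfsg.Agent.Blocks.PrincipalSection
import Cfsg.Agent.H633.Unique
import Mathlib
import Cfsg.Agent.S4510
import Cfsg.Agent.H775.S4790.Quot
import Cfsg.Agent.H352.S4790.Kap
import Cfsg.Agent.Characters.ClassMul
import Cfsg.Agent.Blocks.Central
import Cfsg.Agent.H816.BT.Two
import Cfsg.Agent.H436.B7
import Cfsg.Agent.H877.BSgnDeg
import Cfsg.Agent.H594.LB.Mu_m3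
import Cfsg.Agent.H634.OneP.Main
import Cfsg.Agent.H979.OddB
import Cfsg.Agent.H490.Lb.BEnum_m3
import Cfsg.Agent.H319.LB.Three_mg_m3
import Cfsg.Agent.H319.One.Main_m3
import Cfsg.Agent.OrdDiv.Table
import Cfsg.Agent.H319.One.ExcRows_mg_m3
import Cfsg.Agent.J3Type.CharTools
import Cfsg.Agent.H49.ThFiveDat_m3
import Cfsg.Agent.H697.PSolvB
import Cfsg.Agent.H142.GmnBlock
import Cfsg.Agent.H415.Palfy.Ext
import Cfsg.Agent.H593.IMRank
import Cfsg.Agent.H970.CycOne
import Cfsg.Agent.H657.PrinQuot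
import Cfsg.Agent.H653.ThE.Cyc
import Cfsg.Agent.Blocks.UniqueBlock
import Cfsg.Agent.S4605
import Cfsg.Agent.H495.LB.Full_m3
import Cfsg.Agent.H676.Deg.LocM
import Cfsg.Agent.S3331
import Cfsg.Agent.H546.MElevenB_m3
import Cfsg.Agent.H999.ONIMThree
import Cfsg.Agent.H820.K6.ASix
import Cfsg.Agent.H771.KTools_m3
import Cfsg.Agent.H723.TI.Cyc
import Cfsg.Agent.TwoFusion.SLTwoFacts
import Cfsg.Agent.PLocal.PSolvable
import Cfsg.Agent.Lib.PSolvable
import Cfsg.Agent.S4819
import Cfsg.Agent.S0919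
import Cfsg.Agent.S0936
import Cfsg.Agent.S4652
import Cfsg.Agent.Blocks.Local
import Cfsg.Agent.H650.E27Central
import Cfsg.Agent.H973.KB.Cyc_m3
import Cfsg.Agent.H642.SolvRank
import Cfsg.Agent.J2Type.SylowSeven
import Cfsg.Agent.H634.Cols
import Cfsg.Agent.H491.PB.Th
import Cfsg.Agent.H871.Th7.Main
import Cfsg.Agent.H399.Two.Th
import Cfsg.Agent.H653.ThE.P5
import Cfsg.Agent.H492.ThRat
import Cfsg.Agent.KFacts.Th.Main
import Cfsg.Agent.S0000
import Cfsg.Agent.Blocks.Osima
import Cfsg.Agent.Blocks.Knorr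
import Cfsg.Agent.H439.CC.Mult_m3
import Cfsg.Agent.OddOrderCharacters.Clifford
import Cfsg.Agent.OddOrderCharacters.IndRes
import Cfsg.Agent.Characters.Linear
import Cfsg.Agent.H40.OC.Cor_m3
import Cfsg.Agent.H45.GG.Series_m3
import Cfsg.Agent.H116.RatB0.RowRgd
import Cfsg.Agent.H116.RatB0.StExc_m3
import Cfsg.Agent.H632.LB.Mat
import Cfsg.Agent.H116.RatB0.TabE6
import Cfsg.Statements.S4879
import Cfsg.Agent.H996.Eight.Kq
import Cfsg.Agent.FastGrp
import Cfsg.Agent.Prune
set_option linter.all false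

section
prune_inst 0x7fdcfcfaaba80ddedfff7e3ff6d9cffc10c08fffe6dff943bfe0219f8f9f030209c56b850de040fe0e66e21410b87813f97eceffe06bdc7ffffd5df41ffbee0fe5f7350811d48c240f340ffe03f0778e6f3fffffffffffffffffffffffffffbeffbffbfeffff

-- part: H642/Lb/Ten_mg
section
prune_inst 0x2003044400b2210000000009041003812c4000090002004003ca00502000253400902010009801911100002000004002002100020400000000a200000000401000800100010000000200000001000010000000000000000000000000000041004004010000
set_option linter.all false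
open scoped Cfsg.Agent.FastGrp

-- part: H642/Lb/Ten
section
/-!
# S4879, row `Th`, `p = 7` (helper642): `k(B₀) ≥ 10` from degrees

* `exists_val` : all nonidentity elements of the subgroup `P` of order `n` conjugate to `x`: `χ(x)` is an
  integer congruent to `χ(1)` modulo `n`;
* `val_eq` : it is determined by `χ(1)` if `4 |C(x)| < ...`;
* `sum_mul` : the orthogonality relation of the principal block for `1, x`;
* `known_lt` : eight (or any number `m`) of members of the principal block with known degrees and values: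
  `m + 2 ≤ k(B₀)` if the defect of the relation is not a product `d v`, `d ∣ |G|`.
-/

set_option autoImplicit false

open Cfsg Subgroup
open scoped ComplexConjugate

namespace Cfsg.Agent.H642.Lb

open Cfsg.Agent.Blocks.Basic

universe u

variable {G : Type u} [Group G]

theorem exists_val [Finite G] (P : Subgroup G) {n : ℕ} (hn : Nat.card P = n) (h2 : 2 ≤ n) {x : G}
    (hconj : ∀ y ∈ P, y ≠ 1 → IsConj x y) (χ : IrrCharacter G) :
    ∃ v : ℤ, (χ : G → ℂ) x = v ∧ (n : ℤ) ∣ (charDegree (χ : G → ℂ) : ℤ) - v := by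
  classical
  have := Fintype.ofFinite G
  have := Fintype.ofFinite P
  obtain ⟨a, ha⟩ := S4665.sum_subgroup P χ
  have hd : (χ : G → ℂ) 1 = (charDegree (χ : G → ℂ) : ℂ) := irr_one_eq_charDegree χ.2
  have hval : ∀ y : P, y ∈ Finset.univ.erase (1 : P) → (χ : G → ℂ) y = (χ : G → ℂ) x := by
    intro y hy
    have h1 : (y : G) ≠ 1 := fun e => (Finset.mem_erase.1 hy).1 (Subtype.ext e)
    obtain ⟨c, hc⟩ := isConj_iff.1 (hconj y y.2 h1)
    rw [← hc]
    exact Characters.Core.isIrr_isClassFunction χ.2 _ _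
  have hcard : (Finset.univ.erase (1 : P)).card = n - 1 := by
    rw [Finset.card_erase_of_mem (Finset.mem_univ _), Finset.card_univ, ← Nat.card_eq_fintype_card, hn]
  rw [← Finset.add_sum_erase _ _ (Finset.mem_univ (1 : P)), Finset.sum_congr rfl hval, Finset.sum_const,
    hcard, nsmul_eq_mul, hn] at ha
  have e1 : ((1 : P) : G) = 1 := rfl
  rw [e1, hd] at ha
  have hn1 : ((n - 1 : ℕ) : ℂ) ≠ 0 := by
    have : n - 1 ≠ 0 := by omega
    exact_mod_cast this
  have hq : (χ : G → ℂ) x = ((((n : ℚ) * a - charDegree (χ : G → ℂ)) / ((n - 1 : ℕ) : ℚ) : ℚ) : ℂ) := by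
    push_cast
    rw [eq_div_iff hn1]
    linear_combination ha
  obtain ⟨v, hv⟩ := Characters.SchurBound.exists_int_of_rat
    (CharactersDeep.AChar.isIntegral_isCharacter (irr_isCharacter χ.2) x) hq
  refine ⟨v, hv, (a : ℤ) - v, ?_⟩
  rw [hv] at ha
  have h3 : (charDegree (χ : G → ℂ) : ℤ) + ((n - 1 : ℕ) : ℤ) * v = n * a := by exact_mod_cast ha
  have h4 : ((n - 1 : ℕ) : ℤ) = (n : ℤ) - 1 := by
    rw [Nat.cast_sub (by omega), Nat.cast_one]
  rw [h4] at h3
  linear_combination h3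

/-- the value is small -/
theorem sq_le [Finite G] {x : G} {χ : IrrCharacter G} {v : ℤ} (hv : (χ : G → ℂ) x = v) {c : ℕ}
    (hc : Nat.card (centralizer ({x} : Set G)) = c) : v ^ 2 ≤ c := by
  have h1 := Cfsg.Agent.CharactersDeep.ColumnBessel.sum_norm_sq_le {χ} x
  rw [Finset.sum_singleton, hv, hc] at h1
  have h2 : ‖(v : ℂ)‖ ^ 2 = ((v ^ 2 : ℤ) : ℝ) := by
    rw [Complex.norm_intCast, sq_abs]
    push_cast
    rfl
  rw [h2] at h1
  exact_mod_cast h1

/-- the orthogonality relation of the principal block -/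
theorem sum_mul [Finite G] {p : ℕ} [Fact p.Prime] {M : Ideal AlgInt} (hM : IsPModular p M) {x : G}
    (hx : p ∣ orderOf x) (v : IrrCharacter G → ℤ) (hv : ∀ χ : IrrCharacter G, (χ : G → ℂ) x = v χ)
    (s : Finset (IrrCharacter G)) (hs : (s : Set (IrrCharacter G)) = principalBlock M G) :
    ∑ χ ∈ s, (charDegree (χ : G → ℂ) : ℤ) * v χ = 0 := by
  have hp : p.Prime := Fact.out
  have hMp := Cfsg.Agent.Blocks.Local.isPrime_of_isPModular hM
  have h1 := S0907.result p M hM (principalBlock M G) Blocks.PrincipalSection.isPBlock_principalBlock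
    1 x (by rw [orderOf_one]; exact hp.one_lt.ne' ∘ Nat.dvd_one.1) hx
  rw [← hs, finsum_mem_coe_finset] at h1
  have h2 : ∑ χ ∈ s, (((charDegree (χ : G → ℂ) : ℤ) * v χ : ℤ) : ℂ) = 0 := by
    rw [← h1]
    refine Finset.sum_congr rfl fun χ _ => ?_
    rw [hv, irr_one_eq_charDegree χ.2, map_intCast]
    push_cast
    rfl
  exact_mod_cast h2

/-- **The count.** -/
theorem card_ge [Finite G] {p : ℕ} [Fact p.Prime] {M : Ideal AlgInt} (hM : IsPModular p M) {x : G}
    (hx : p ∣ orderOf x) (v : IrrCharacter G → ℤ) (hv : ∀ χ : IrrCharacter G, (χ : G → ℂ) x = v χ)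
    {m : ℕ} (c : Fin m → IrrCharacter G) (hinj : Function.Injective c)
    (hmem : ∀ i, c i ∈ principalBlock M G)
    (hne : ∑ i, (charDegree (c i : G → ℂ) : ℤ) * v (c i) ≠ 0)
    (hno : ∀ ψ : IrrCharacter G, (charDegree (ψ : G → ℂ) : ℤ) * v ψ ≠
      - ∑ i, (charDegree (c i : G → ℂ) : ℤ) * v (c i)) :
    m + 2 ≤ Nat.card (principalBlock M G) := by
  classical
  have := Characters.Core.finite_irr (G := G)
  have hfin : (principalBlock M G).Finite := Set.toFinite _
  set s := hfin.toFinset with hs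
  have hsB : (s : Set (IrrCharacter G)) = principalBlock M G := hfin.coe_toFinset
  have h0 := sum_mul hM hx v hv s hsB
  set K := Finset.univ.image c with hK
  have hKs : K ⊆ s := by
    intro ψ hψ
    obtain ⟨i, -, rfl⟩ := Finset.mem_image.1 hψ
    exact hfin.mem_toFinset.2 (hmem i)
  have hKc : K.card = m := by
    rw [hK, Finset.card_image_of_injective _ hinj, Finset.card_univ, Fintype.card_fin]
  have hKsum : ∑ χ ∈ K, (charDegree (χ : G → ℂ) : ℤ) * v χ =
      ∑ i, (charDegree (c i : G → ℂ) : ℤ) * v (c i) := by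
    rw [hK, Finset.sum_image fun a _ b _ h => hinj h]
  rw [← Finset.sum_sdiff hKs, hKsum] at h0
  have hcs : Nat.card (principalBlock M G) = s.card := by
    rw [hs, Nat.card_coe_set_eq, Set.ncard_eq_toFinset_card _ hfin]
  rw [hcs]
  by_contra hlt
  push Not at hlt
  have h1 : (s \ K).card ≤ 1 := by
    rw [Finset.card_sdiff_of_subset hKs, hKc]
    omega
  rcases Nat.le_one_iff_eq_zero_or_eq_one.1 h1 with h2 | h2
  · rw [Finset.card_eq_zero.1 h2, Finset.sum_empty, zero_add] at h0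
    exact hne h0
  · obtain ⟨ψ, hψ⟩ := Finset.card_eq_one.1 h2
    rw [hψ, Finset.sum_singleton] at h0
    exact hno ψ (by linarith only [h0])

end Cfsg.Agent.H642.Lb
end

-- part: H185/AR/F
section
/-!
# The formula (F) for almost `p`-rational characters of `p'`-degree in the principal block (S4791, S4927; helper185)

`P` a Sylow `p`-subgroup, `O` the subgroup of the `p`-regular elements of `C(P)` (`OP p P O`), `aO O χ` the multiplicity of the
trivial character of `O` in `χ`.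

* `aO_principal` : `aO O χ ≡ χ(1) (mod p)` for `χ` in the principal block;
* `dvd_aO` : `p ∣ aO O χ` for `χ` not in the principal block;
* `F_congr` : `∑ c χ * aO O χ ≡ ∑_{χ ∈ X0} c χ * χ(1) (mod p)` for integers `c χ` constant on the orbits of `J`;
* `exists_member`, `card_le` : pairwise orthogonal `J`-fixed characters `ψ` with `p ∤ [ψ_O, 1_O]` give different members of
  `X0 = {χ ∈ Irr(B₀(G)) : p ∤ χ(1), χ almost p-rational}`.
-/

set_option autoImplicit false

open scoped ComplexConjugate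
open Cfsg Cfsg.Agent.Characters Cfsg.Agent.Blocks.Local
open Cfsg.Agent.H697.Alm (AlmRat)

namespace Cfsg.Agent.H185.AR

universe u

variable {G : Type u} [Group G] {p : ℕ}

/-- `O` is the set of the `p`-regular elements of `C(P)` -/
structure OP (p : ℕ) (P O : Subgroup G) : Prop where
  le : O ≤ Subgroup.centralizer (P : Set G)
  cop : ¬ p ∣ Nat.card O
  all : ∀ x ∈ Subgroup.centralizer (P : Set G), ¬ p ∣ orderOf x → x ∈ O

variable [Finite G] [hp : Fact p.Prime]

/-- sums over `P`-invariant sets -/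
theorem fixed_sum [Fintype G] (P : Sylow p G) {f : G → ℂ} (hint : ∀ u, IsIntegral ℤ (f u))
    (hinv : ∀ x ∈ (P : Subgroup G), ∀ u, f (x * u * x⁻¹) = f u) (S : G → Prop) [DecidablePred S]
    [DecidablePred (fun u : G => u ∈ Subgroup.centralizer ((P : Subgroup G) : Set G))]
    (hS : ∀ x ∈ (P : Subgroup G), ∀ u, S (x * u * x⁻¹) ↔ S u) :
    ∃ r : ℂ, IsIntegral ℤ r ∧ ∑ u with S u, f u =
      ∑ u with (S u ∧ u ∈ Subgroup.centralizer ((P : Subgroup G) : Set G)), f u + p * r := by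
  classical
  letI : MulAction (P : Subgroup G) G :=
    MulAction.compHom G ((MulAut.conj : G →* MulAut G).comp (P : Subgroup G).subtype)
  have hsm : ∀ (x : (P : Subgroup G)) (u : G), x • u = x * u * (x : G)⁻¹ := fun x u => rfl
  have hcen : ∀ x ∈ (P : Subgroup G), ∀ u, x * u * x⁻¹ ∈ Subgroup.centralizer ((P : Subgroup G) : Set G) ↔
      u ∈ Subgroup.centralizer ((P : Subgroup G) : Set G) := by
    have key : ∀ x ∈ (P : Subgroup G), ∀ u, u ∈ Subgroup.centralizer ((P : Subgroup G) : Set G) → x * u * x⁻¹ = u := by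
      intro x hx u hu
      rw [Subgroup.mem_centralizer_iff.1 hu x hx, mul_inv_cancel_right]
    intro x hx u
    constructor
    · intro h
      have h1 := key x⁻¹ ((P : Subgroup G).inv_mem hx) _ h
      have h2 : x⁻¹ * (x * u * x⁻¹) * x⁻¹⁻¹ = u := by group
      rw [h2] at h1
      rw [h1]
      exact h
    · intro h
      rw [key x hx u h]
      exact h
  obtain ⟨r, hr, hs⟩ := DefectZero.sum_eq_of_dvd_orbit (H := (P : Subgroup G)) (X := G)
    (integralClosure ℤ ℂ).toSubring p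
    (fun u => if S u ∧ u ∉ Subgroup.centralizer ((P : Subgroup G) : Set G) then f u else 0)
    (by
      intro x u
      simp only [hsm]
      rw [hinv x x.2 u]
      exact if_congr (and_congr (hS x x.2 u) (not_congr (hcen x x.2 u))) rfl rfl)
    (by
      intro u
      by_cases h : S u ∧ u ∉ Subgroup.centralizer ((P : Subgroup G) : Set G)
      · simp only [if_pos h]
        exact hint u
      · simp only [if_neg h]
        exact Subring.zero_mem _)
    (by
      intro u hu
      have h : S u ∧ u ∉ Subgroup.centralizer ((P : Subgroup G) : Set G) := by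
        by_contra h
        exact hu (if_neg h)
      obtain ⟨n, hn⟩ := P.isPGroup'.card_orbit u
      rcases Nat.eq_zero_or_pos n with rfl | hn0
      · exfalso
        apply h.2
        rw [pow_zero] at hn
        rw [Subgroup.mem_centralizer_iff]
        intro x hx
        have h1 := (Nat.card_eq_one_iff_unique.1 hn).1
        have h2 := h1.elim ⟨(⟨x, hx⟩ : (P : Subgroup G)) • u, MulAction.mem_orbit u _⟩ ⟨u, MulAction.mem_orbit_self u⟩
        have h3 : x * u * x⁻¹ = u := congrArg Subtype.val h2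
        rw [mul_inv_eq_iff_eq_mul] at h3
        exact h3
      · rw [hn]
        exact dvd_pow_self p hn0.ne')
  refine ⟨r, hr, ?_⟩
  rw [← hs, Finset.sum_filter, Finset.sum_filter, ← Finset.sum_add_distrib]
  refine Finset.sum_congr rfl fun u _ => ?_
  by_cases h1 : S u
  · by_cases h2 : u ∈ Subgroup.centralizer ((P : Subgroup G) : Set G)
    · rw [if_pos h1, if_pos ⟨h1, h2⟩, if_neg (fun h => h.2 h2), add_zero]
    · rw [if_pos h1, if_neg (fun h => h2 h.2), if_pos ⟨h1, h2⟩, zero_add]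
  · rw [if_neg h1, if_neg (fun h => h1 h.1), if_neg (fun h => h1 h.1), add_zero]

/-- the multiplicity of the trivial character of `O` in `χ` -/
noncomputable def aO (O : Subgroup G) (χ : G → ℂ) : ℕ :=
  ⌊((Nat.card O : ℂ)⁻¹ * ∑ᶠ y : O, χ y).re⌋₊

theorem aO_eq [Fintype G] (O : Subgroup G) [Fintype O] {χ : G → ℂ} (hχ : IsCharacter G χ) :
    ∑ y : O, χ y = (Nat.card O : ℂ) * aO O χ := by
  obtain ⟨n, hn⟩ := Core.classInner_isNat (Core.isCharacter_comp O.subtype hχ) (Core.isCharacter_one (G := O))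
  have h0 : (Nat.card O : ℂ) ≠ 0 := by exact_mod_cast Nat.card_pos.ne'
  have h1 : (Nat.card O : ℂ)⁻¹ * ∑ y : O, χ y = n := by
    rw [← hn, Core.classInner_def]
    congr 1
    refine Finset.sum_congr rfl fun y _ => ?_
    simp
  have h2 : aO O χ = n := by
    unfold aO
    rw [finsum_eq_sum_of_fintype, h1, Complex.natCast_re, Nat.floor_natCast]
  rw [h2, ← h1, mul_inv_cancel_left₀ h0]

/-- the main identity -/
theorem key_id [Fintype G] (P : Sylow p G) {O : Subgroup G} [Fintype O] (hO : OP p (P : Subgroup G) O) {χ : G → ℂ}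
    (hχ : IsIrrCharacter G χ) {w : G} (hw : ¬ p ∣ orderOf w) :
    ∃ (n : ℕ) (r r' : ℂ), IsIntegral ℤ r ∧ IsIntegral ℤ r' ∧
      centralChar χ w * ∑ y : O, χ y = n * (∑ y : O, χ y) + p * r ∧
      ((Subgroup.centralizer ({w} : Set G)).index : ℂ) = n + p * r' := by
  classical
  have hc := Core.isIrr_isCharacter hχ
  have hconj : ∀ x u : G, IsConj w (x * u * x⁻¹) ↔ IsConj w u := by
    intro x u
    have h : IsConj u (x * u * x⁻¹) := isConj_iff.2 ⟨x, rfl⟩
    exact ⟨fun h1 => h1.trans h.symm, fun h1 => h1.trans h⟩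
  have hyc : ∀ y : O, ∀ x ∈ (P : Subgroup G), x * (y : G) = y * x := fun y x hx =>
    Subgroup.mem_centralizer_iff.1 (hO.le y.2) x hx
  obtain ⟨r, hr, h1⟩ := fixed_sum P (f := fun u => ∑ y : O, χ (u * y))
    (fun u => IsIntegral.sum _ fun y _ => GaloisBasic.isIntegral_apply hc _)
    (by
      intro x hx u
      refine Finset.sum_congr rfl fun y _ => ?_
      have h2 : x * u * x⁻¹ * (y : G) = x * (u * y) * x⁻¹ := by
        have h3 : x⁻¹ * (y : G) = y * x⁻¹ := hyc y x⁻¹ ((P : Subgroup G).inv_mem hx)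
        rw [mul_assoc, h3]
        group
      rw [h2]
      exact Core.isIrr_isClassFunction hχ _ _) (fun u => IsConj w u) (fun x _ u => hconj x u)
  obtain ⟨r', hr', h2⟩ := fixed_sum P (f := fun _ => 1) (fun u => isIntegral_one) (fun _ _ _ => rfl)
    (fun u => IsConj w u) (fun x _ u => hconj x u)
  refine ⟨(Finset.univ.filter fun u : G => IsConj w u ∧ u ∈ Subgroup.centralizer ((P : Subgroup G) : Set G)).card,
    r, r', hr, hr', ?_, ?_⟩
  · have h3 : ∑ u with IsConj w u, ∑ y : O, χ (u * y) = centralChar χ w * ∑ y : O, χ y := by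
      rw [Finset.sum_comm, Finset.mul_sum]
      refine Finset.sum_congr rfl fun y _ => ?_
      rw [ClassMul.sum_class_char_mul hχ]
      unfold centralChar
      ring
    have h4 : ∑ u with (IsConj w u ∧ u ∈ Subgroup.centralizer ((P : Subgroup G) : Set G)), ∑ y : O, χ (u * y) =
        (Finset.univ.filter fun u : G => IsConj w u ∧ u ∈ Subgroup.centralizer ((P : Subgroup G) : Set G)).card *
          ∑ y : O, χ y := by
      rw [Finset.sum_congr rfl (g := fun _ => ∑ y : O, χ y), Finset.sum_const, nsmul_eq_mul]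
      intro u hu
      rw [Finset.mem_filter] at hu
      have hu' : u ∈ O := by
        refine hO.all u hu.2.2 ?_
        obtain ⟨c, hcc⟩ := isConj_iff.1 hu.2.1
        rw [← hcc]
        have : orderOf (c * w * c⁻¹) = orderOf w := (MulAut.conj c).orderOf_eq w
        rw [this]
        exact hw
      exact Fintype.sum_equiv (Equiv.mulLeft (⟨u, hu'⟩ : O)) _ _ fun y => rfl
    rw [← h3, h1, h4]
  · have h3 := ClassMul.card_filter_isConj (G := G) w
    rw [Finset.sum_const, Finset.sum_const, nsmul_eq_mul, nsmul_eq_mul, mul_one, mul_one] at h2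
    rw [← h3]
    convert h2 using 2

/-- conjugates in the centralizer of `P` -/
theorem exists_conj_mem (P : Sylow p G) {O : Subgroup G} (hO : OP p (P : Subgroup G) O) {x : G} (hx : ¬ p ∣ orderOf x)
    (hd : (Nat.card (Subgroup.centralizer ({x} : Set G))).factorization p = (Nat.card G).factorization p) :
    ∃ w ∈ O, IsConj w x := by
  set C := Subgroup.centralizer ({x} : Set G) with hC
  obtain ⟨Q⟩ : Nonempty (Sylow p C) := inferInstance
  have hQc : Nat.card ((Q : Subgroup C).map C.subtype) = p ^ (Nat.card G).factorization p := by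
    rw [← hd, ← Q.card_eq_multiplicity]
    exact (Nat.card_congr (Subgroup.equivMapOfInjective _ C.subtype (Subgroup.subtype_injective _)).toEquiv).symm
  let Q' : Sylow p G := Sylow.ofCard ((Q : Subgroup C).map C.subtype) hQc
  obtain ⟨g, hg⟩ := MulAction.exists_smul_eq G Q' P
  have hQ' : ∀ q ∈ (Q' : Subgroup G), q * x = x * q := by
    rintro q ⟨q', -, rfl⟩
    exact (Subgroup.mem_centralizer_singleton_iff.1 q'.2)
  refine ⟨g * x * g⁻¹, hO.all _ ?_ ?_, (isConj_iff.2 ⟨g, rfl⟩ : IsConj x _).symm⟩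
  · rw [Subgroup.mem_centralizer_iff]
    intro y hy
    have hy' : y ∈ (P : Subgroup G) := hy
    rw [← hg, Sylow.coe_subgroup_smul] at hy'
    obtain ⟨q, hq, rfl⟩ := hy'
    have h1 := hQ' q hq
    show g * q * g⁻¹ * (g * x * g⁻¹) = g * x * g⁻¹ * (g * q * g⁻¹)
    calc g * q * g⁻¹ * (g * x * g⁻¹) = g * (q * x) * g⁻¹ := by group
      _ = g * (x * q) * g⁻¹ := by rw [h1]
      _ = g * x * g⁻¹ * (g * q * g⁻¹) := by group
  · have : orderOf (g * x * g⁻¹) = orderOf x := (MulAut.conj g).orderOf_eq x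
    rw [this]
    exact hx

theorem blockDefect_eq {M : Ideal AlgInt} (hM : IsPModular p M) {χ : IrrCharacter G} (hχ : ¬ p ∣ charDegree (χ : G → ℂ)) :
    blockDefect p (blockOf M (χ : G → ℂ)) = (Nat.card G).factorization p := by
  have := isPrime_of_isPModular hM
  unfold blockDefect
  have h1 : sInf ((fun χ : IrrCharacter G => (charDegree (χ : G → ℂ)).factorization p) '' blockOf M (χ : G → ℂ)) = 0 := by
    rw [Nat.sInf_eq_zero]
    left
    exact ⟨χ, Blocks.Basic.mem_blockOf_self χ, Nat.factorization_eq_zero_of_not_dvd hχ⟩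
  rw [h1, Nat.sub_zero]

theorem charDegree_one' : charDegree (fun _ : G => (1 : ℂ)) = 1 := by
  unfold charDegree
  simp

/-- **characters outside the principal block** -/
theorem dvd_aO {M : Ideal AlgInt} (hM : IsPModular p M) (P : Sylow p G) {O : Subgroup G} (hO : OP p (P : Subgroup G) O)
    {χ : IrrCharacter G} (hχ : χ ∉ principalBlock M G) (hd : ¬ p ∣ charDegree (χ : G → ℂ)) : p ∣ aO O (χ : G → ℂ) := by
  classical
  have := isPrime_of_isPModular hM
  have := Fintype.ofFinite G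
  by_contra ha
  apply hχ
  have hc := Core.isIrr_isCharacter χ.2
  have hT := aO_eq O hc
  have hTn : ¬ p ∣ Nat.card O * aO O (χ : G → ℂ) := by
    intro h
    rcases (Nat.Prime.dvd_mul hp.out).1 h with h | h
    · exact hO.cop h
    · exact ha h
  let ε : IrrCharacter G := ⟨fun _ => 1, Blocks.Basic.isIrrCharacter_one⟩
  have hε : ¬ p ∣ charDegree (ε : G → ℂ) := by
    show ¬ p ∣ charDegree (fun _ : G => (1 : ℂ))
    rw [charDegree_one']
    exact hp.out.one_lt.ne' ∘ Nat.dvd_one.1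
  have hkey : ∀ w ∈ O, MemLocalIdeal M (centralChar (ε : G → ℂ) w - centralChar (χ : G → ℂ) w) := by
    intro w hw
    have hwp : ¬ p ∣ orderOf w := fun h => hO.cop (h.trans (by
      have := orderOf_dvd_natCard (⟨w, hw⟩ : O)
      rwa [Subgroup.orderOf_mk] at this))
    obtain ⟨n, r, r', hr, hr', h1, h2⟩ := key_id P hO χ.2 hwp
    rw [hT] at h1
    have h3 : centralChar (ε : G → ℂ) w = ((Subgroup.centralizer ({w} : Set G)).index : ℂ) := by
      show ((Subgroup.centralizer ({w} : Set G)).index : ℂ) * 1 / 1 = _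
      rw [mul_one, div_one]
    have hTn' : MemLocalRing M (((Nat.card O * aO O (χ : G → ℂ) : ℕ) : ℂ)⁻¹) := memLocalRing_inv_natCast hM hTn
    have h0 : ((Nat.card O * aO O (χ : G → ℂ) : ℕ) : ℂ) ≠ 0 := by
      have : Nat.card O * aO O (χ : G → ℂ) ≠ 0 := fun h => hTn (h ▸ dvd_zero p)
      exact_mod_cast this
    have h4 : centralChar (ε : G → ℂ) w - centralChar (χ : G → ℂ) w =
        (p : ℂ) * r' - (p : ℂ) * r * ((Nat.card O * aO O (χ : G → ℂ) : ℕ) : ℂ)⁻¹ := by
      rw [h3, h2]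
      have h5 : centralChar (χ : G → ℂ) w = n + (p : ℂ) * r * ((Nat.card O * aO O (χ : G → ℂ) : ℕ) : ℂ)⁻¹ := by
        apply mul_right_cancel₀ h0
        rw [add_mul, mul_assoc ((p : ℂ) * r), inv_mul_cancel₀ h0, mul_one]
        push_cast
        exact h1
      rw [h5]
      ring
    rw [h4]
    refine memLocalIdeal_sub (memLocalIdeal_mul_right (memLocalIdeal_p hM) (memLocalRing_of_isIntegral hr')) ?_
    exact memLocalIdeal_mul_right (memLocalIdeal_mul_right (memLocalIdeal_p hM) (memLocalRing_of_isIntegral hr)) hTn'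
  have hS : SameBlock M (ε : G → ℂ) (χ : G → ℂ) := by
    refine (S4510.result p M hM _ ε χ (blockDefect_eq hM hε) (blockDefect_eq hM hd)).2 fun x hx hxd => ?_
    obtain ⟨w, hw, hwx⟩ := exists_conj_mem P hO hx hxd
    rw [← Blocks.Basic.centralChar_isConj ε.2 hwx, ← Blocks.Basic.centralChar_isConj χ.2 hwx]
    exact hkey w hw
  exact hS

/-! ### The action of `J` -/

/-- the members of `X0` -/
def X0 (p : ℕ) (M : Ideal AlgInt) (G : Type u) [Group G] : Set (IrrCharacter G) :=
  {χ | χ ∈ principalBlock M G ∧ ¬ p ∣ charDegree (χ : G → ℂ) ∧ AlmRat p (χ : G → ℂ)}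

end Cfsg.Agent.H185.AR
end

-- part: H160/BL/Mem
section
/-!
# Members of the principal 7-block of the Baby Monster (helper160)

`P` a Sylow 7-subgroup of the Baby Monster: `C(P) = P × ⟨t₁, t₂⟩`, where `t₁, t₂` are commuting transpositions.

* `mem_of_mod` : an irreducible character `χ` with `7 ∤ χ(1)`, `χ(t) ≡ χ(1)` modulo 7 for the transpositions `t`, is in the
  principal 7-block;
* `mem_chi2`, `mem_alpha` : the characters of degrees `96255`, `9550635` are in the principal 7-block.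
-/

set_option autoImplicit false
set_option linter.constructorNameAsVariable false
set_option linter.unusedSectionVars false

namespace Cfsg.Agent.H160.BL

open Cfsg Cfsg.Agent.Characters Cfsg.Agent.Characters.Core
open Cfsg.Agent.BabyM.Model Cfsg.Agent.BabyM.Inst Cfsg.Agent.H995.BSch Cfsg.Agent.H995.BSchVal
  Cfsg.Agent.H877.BSgn Cfsg.Agent.H816.IMEig Cfsg.Agent.H816.IMEig.Col Cfsg.Agent.H816.BT.Sgn
  Cfsg.Agent.H816.BT.Abs Cfsg.Agent.H816.BT.Ops Cfsg.Agent.H816.BT.Pw Cfsg.Agent.H816.BT.Sch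
  Cfsg.Agent.H816.BT.Even Cfsg.Agent.H816.BT.Main Cfsg.Agent.H816.BT.Two
open Cfsg.Agent.H185.AR
open Subgroup (centralizer mem_centralizer_singleton_iff mem_centralizer_iff)
open scoped BigOperators ComplexConjugate

universe u

/-! ### The 7-regular elements of `C(P)` -/

section abs

variable {L : Type u} [Group L]

/-- the four-group `{1, a, b, a b}` -/
def four (a b : L) (ha2 : a * a = 1) (hb2 : b * b = 1) (hc : a * b = b * a) : Subgroup L where
  carrier := {y | y = 1 ∨ y = a ∨ y = b ∨ y = a * b}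
  one_mem' := Or.inl rfl
  mul_mem' := by
    have h1 : a * (a * b) = b := by rw [← mul_assoc, ha2, one_mul]
    have h2 : b * (a * b) = a := by rw [hc, ← mul_assoc, hb2, one_mul]
    have h3 : a * b * a = b := by rw [hc, mul_assoc, ha2, mul_one]
    have h4 : a * b * b = a := by rw [mul_assoc, hb2, mul_one]
    have h5 : a * b * (a * b) = 1 := by rw [mul_assoc, h2, ha2]
    rintro x y (rfl | rfl | rfl | rfl) (rfl | rfl | rfl | rfl)
    · exact Or.inl (mul_one _)
    · exact Or.inr (Or.inl (one_mul _))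
    · exact Or.inr (Or.inr (Or.inl (one_mul _)))
    · exact Or.inr (Or.inr (Or.inr (one_mul _)))
    · exact Or.inr (Or.inl (mul_one _))
    · exact Or.inl ha2
    · exact Or.inr (Or.inr (Or.inr rfl))
    · exact Or.inr (Or.inr (Or.inl h1))
    · exact Or.inr (Or.inr (Or.inl (mul_one _)))
    · exact Or.inr (Or.inr (Or.inr hc.symm))
    · exact Or.inl hb2
    · exact Or.inr (Or.inl h2)
    · exact Or.inr (Or.inr (Or.inr (mul_one _)))
    · exact Or.inr (Or.inr (Or.inl h3))
    · exact Or.inr (Or.inl h4)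
    · exact Or.inl h5
  inv_mem' := by
    have h2 : b * (a * b) = a := by rw [hc, ← mul_assoc, hb2, one_mul]
    have h5 : a * b * (a * b) = 1 := by rw [mul_assoc, h2, ha2]
    rintro x (rfl | rfl | rfl | rfl)
    · exact Or.inl inv_one
    · exact Or.inr (Or.inl (inv_eq_of_mul_eq_one_left ha2))
    · exact Or.inr (Or.inr (Or.inl (inv_eq_of_mul_eq_one_left hb2)))
    · exact Or.inr (Or.inr (Or.inr (inv_eq_of_mul_eq_one_left h5)))

variable {a b : L} {ha2 : a * a = 1} {hb2 : b * b = 1} {hc : a * b = b * a}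

/-- the parametrization of the four-group -/
def par4 (a b : L) (ha2 : a * a = 1) (hb2 : b * b = 1) (hc : a * b = b * a) : Fin 4 → four a b ha2 hb2 hc :=
  ![⟨1, Or.inl rfl⟩, ⟨a, Or.inr (Or.inl rfl)⟩, ⟨b, Or.inr (Or.inr (Or.inl rfl))⟩,
    ⟨a * b, Or.inr (Or.inr (Or.inr rfl))⟩]

theorem par4_bij (ha1 : a ≠ 1) (hb1 : b ≠ 1) (hab : a ≠ b) : Function.Bijective (par4 a b ha2 hb2 hc) := by
  have h1 : a * b ≠ 1 := by
    intro h
    apply hab
    calc a = a * (b * b) := by rw [hb2, mul_one]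
      _ = a * b * b := by rw [mul_assoc]
      _ = b := by rw [h, one_mul]
  have h2 : a * b ≠ a := fun h => hb1 (mul_eq_left.1 h)
  have h3 : a * b ≠ b := fun h => ha1 (mul_eq_right.1 h)
  constructor
  · intro i j hij
    have h := congrArg Subtype.val hij
    fin_cases i <;> fin_cases j <;>
      first
        | rfl
        | exact absurd h.symm ha1
        | exact absurd h.symm hb1
        | exact absurd h.symm h1
        | exact absurd h ha1
        | exact absurd h hb1
        | exact absurd h h1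
        | exact absurd h hab
        | exact absurd h.symm hab
        | exact absurd h h2
        | exact absurd h.symm h2
        | exact absurd h h3
        | exact absurd h.symm h3
  · rintro ⟨y, hy⟩
    rcases hy with rfl | rfl | rfl | rfl
    · exact ⟨0, rfl⟩
    · exact ⟨1, rfl⟩
    · exact ⟨2, rfl⟩
    · exact ⟨3, rfl⟩

theorem card_four (ha1 : a ≠ 1) (hb1 : b ≠ 1) (hab : a ≠ b) : Nat.card (four a b ha2 hb2 hc) = 4 := by
  rw [← Nat.card_congr (Equiv.ofBijective _ (par4_bij (ha2 := ha2) (hb2 := hb2) (hc := hc) ha1 hb1 hab)),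
    Nat.card_fin]

theorem sum_four (ha1 : a ≠ 1) (hb1 : b ≠ 1) (hab : a ≠ b) [Fintype (four a b ha2 hb2 hc)] (χ : L → ℂ) :
    ∑ y : four a b ha2 hb2 hc, χ y = χ 1 + χ a + χ b + χ (a * b) := by
  rw [← Function.Bijective.sum_comp (par4_bij (ha2 := ha2) (hb2 := hb2) (hc := hc) ha1 hb1 hab)
    (fun y : four a b ha2 hb2 hc => χ y), Fin.sum_univ_four]
  rfl

variable [Finite L]

/-- the 7-regular elements of `C(P)` -/
theorem op_four {P : Subgroup L} (hP : Nat.card P = 49) (hC : Nat.card ↥(centralizer (P : Set L)) ∣ 4 * 49)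
    (ha : a ∈ centralizer (P : Set L)) (hb : b ∈ centralizer (P : Set L)) (ha1 : a ≠ 1) (hb1 : b ≠ 1) (hab : a ≠ b) :
    OP 7 P (four a b ha2 hb2 hc) := by
  have h7 : Fact (Nat.Prime 7) := ⟨by norm_num⟩
  have h4 := card_four (ha2 := ha2) (hb2 := hb2) (hc := hc) ha1 hb1 hab
  have hle : four a b ha2 hb2 hc ≤ centralizer (P : Set L) := by
    rintro y (rfl | rfl | rfl | rfl)
    · exact one_mem _
    · exact ha
    · exact hb
    · exact mul_mem ha hb
  have hcomm : ∀ u ∈ P, ∀ v ∈ P, u * v = v * u := by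
    intro u hu v hv
    have h1 : IsMulCommutative P := IsPGroup.isMulCommutative_of_card_eq_prime_sq (p := 7) (by rw [hP]; norm_num)
    exact congrArg Subtype.val (h1.is_comm.comm (⟨u, hu⟩ : P) ⟨v, hv⟩)
  have hPle : P ≤ centralizer (P : Set L) := fun u hu => mem_centralizer_iff.2 fun v hv => hcomm v hv u hu
  have p49 : ∀ u ∈ P, u ^ 49 = 1 := by
    intro u hu
    have h1 : (⟨u, hu⟩ : P) ^ Nat.card P = 1 := pow_card_eq_one'
    rw [hP] at h1
    exact congrArg Subtype.val h1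
  have p4 : ∀ u ∈ four a b ha2 hb2 hc, u ^ 4 = 1 := by
    intro u hu
    have h1 : (⟨u, hu⟩ : four a b ha2 hb2 hc) ^ Nat.card (four a b ha2 hb2 hc) = 1 := pow_card_eq_one'
    rw [h4] at h1
    exact congrArg Subtype.val h1
  have hcop : ∀ u : L, u ^ 49 = 1 → u ^ 4 = 1 → u = 1 := by
    intro u h1 h2
    have h3 := Nat.dvd_gcd (orderOf_dvd_of_pow_eq_one h1) (orderOf_dvd_of_pow_eq_one h2)
    rw [show Nat.gcd 49 4 = 1 by norm_num, Nat.dvd_one, orderOf_eq_one_iff] at h3
    exact h3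
  refine ⟨hle, by rw [h4]; norm_num, ?_⟩
  intro x hx hx7
  -- the product map
  let f : P × four a b ha2 hb2 hc → centralizer (P : Set L) := fun q =>
    ⟨(q.1 : L) * q.2, mul_mem (hPle q.1.2) (hle q.2.2)⟩
  have hf : Function.Injective f := by
    rintro ⟨u, v⟩ ⟨u', v'⟩ h
    have h1 : (u : L) * v = u' * v' := congrArg Subtype.val h
    have h2 : (u' : L)⁻¹ * u = v' * (v : L)⁻¹ := by
      rw [eq_mul_inv_iff_mul_eq, mul_assoc, h1, inv_mul_cancel_left]
    have h3 : (u' : L)⁻¹ * u = 1 := by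
      refine hcop _ (p49 _ (P.mul_mem (P.inv_mem u'.2) u.2)) ?_
      rw [h2]
      exact p4 _ (mul_mem v'.2 (inv_mem v.2))
    have h4 : v' * (v : L)⁻¹ = 1 := by rw [← h2]; exact h3
    have h5 : (u : L) = u' := (inv_mul_eq_one.1 h3).symm
    have h6 : (v : L) = v' := (mul_inv_eq_one.1 h4).symm
    exact Prod.ext (Subtype.ext h5) (Subtype.ext h6)
  have hcard : Nat.card (P × four a b ha2 hb2 hc) = 4 * 49 := by
    rw [Nat.card_prod, hP, h4]
  have hbij : Function.Bijective f := by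
    rw [Nat.bijective_iff_injective_and_card]
    refine ⟨hf, ?_⟩
    refine le_antisymm (Nat.card_le_card_of_injective f hf) ?_
    rw [hcard]
    exact Nat.le_of_dvd (by norm_num) hC
  obtain ⟨⟨u, v⟩, huv⟩ := hbij.2 ⟨x, hx⟩
  have hxe : (u : L) * v = x := congrArg Subtype.val huv
  have huvc : (u : L) * v = v * u := mem_centralizer_iff.1 (hle v.2) u u.2
  -- the order of `x` divides 4
  have hx4 : x ^ 4 = 1 := by
    have h1 : x ^ (4 * 49) = 1 := by
      rw [← hxe, (show Commute (u : L) (v : L) from huvc).mul_pow, mul_comm 4 49, pow_mul, p49 _ u.2, one_pow, one_mul,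
        mul_comm 49 4, pow_mul, p4 _ v.2, one_pow]
    have h2 : orderOf x ∣ 4 := by
      refine Nat.Coprime.dvd_of_dvd_mul_right ?_ (orderOf_dvd_of_pow_eq_one h1)
      rw [show 49 = 7 ^ 2 by norm_num]
      exact Nat.Coprime.pow_right 2 (Nat.coprime_comm.1 ((Nat.Prime.coprime_iff_not_dvd h7.out).2 hx7))
    exact orderOf_dvd_iff_pow_eq_one.1 h2
  have hu1 : (u : L) = 1 := by
    refine hcop _ (p49 _ u.2) ?_
    have h1 : x ^ 4 = (u : L) ^ 4 * (v : L) ^ 4 := by
      rw [← hxe, (show Commute (u : L) (v : L) from huvc).mul_pow]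
    rw [hx4, p4 _ v.2, mul_one] at h1
    exact h1.symm
  rw [← hxe, hu1, one_mul]
  exact v.2

/-- **membership in the principal block** -/
theorem mem_of_sum {M : Ideal AlgInt} (hM : IsPModular 7 M) (P : Sylow 7 L) (hP : Nat.card (P : Subgroup L) = 49)
    (hC : Nat.card ↥(centralizer ((P : Subgroup L) : Set L)) ∣ 4 * 49) (ha2 : a * a = 1) (hb2 : b * b = 1)
    (hc : a * b = b * a)
    (ha : a ∈ centralizer ((P : Subgroup L) : Set L)) (hb : b ∈ centralizer ((P : Subgroup L) : Set L))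
    (ha1 : a ≠ 1) (hb1 : b ≠ 1) (hab : a ≠ b) {χ : IrrCharacter L} (hd : ¬ 7 ∣ charDegree (χ : L → ℂ)) {s : ℤ}
    (hs : (χ : L → ℂ) 1 + (χ : L → ℂ) a + (χ : L → ℂ) b + (χ : L → ℂ) (a * b) = s) (hs7 : ¬ 7 ∣ s) :
    χ ∈ principalBlock M L := by
  classical
  have h7 : Fact (Nat.Prime 7) := ⟨by norm_num⟩
  have := Fintype.ofFinite L
  by_contra hno
  have hO := op_four (ha2 := ha2) (hb2 := hb2) (hc := hc) hP hC ha hb ha1 hb1 hab
  obtain ⟨k, hk⟩ := dvd_aO hM P hO hno hd
  have h1 := aO_eq (four a b ha2 hb2 hc) (isIrr_isCharacter χ.2)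
  rw [sum_four ha1 hb1 hab, hs, hk, card_four ha1 hb1 hab] at h1
  apply hs7
  refine ⟨4 * k, ?_⟩
  have h2 : ((s : ℤ) : ℂ) = ((7 * (4 * k) : ℤ) : ℂ) := by
    rw [h1]; push_cast; ring
  exact_mod_cast h2

end abs

/-! ### The model -/

noncomputable local instance instFintypeX : Fintype (_root_.Cfsg.Agent.H877.BSgn.X0 M) := Fintype.ofFinite _

theorem isoM : Spor.IsoB ↥M.G := ⟨BM.KHAll.iso.symm⟩

theorem facM : (Nat.card ↥M.G).factorization 7 = 2 := by
  rw [BabyM.Instance.all.card_G]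
  have h7 : Nat.Prime 7 := by norm_num
  rw [show (4154781481226426191177580544000000 : ℕ) = 7 ^ 2 * 84791458800539310024032256000000 by norm_num,
    Nat.factorization_mul (by norm_num) (by norm_num), Finsupp.add_apply, h7.factorization_pow, Finsupp.single_eq_same,
    Nat.factorization_eq_zero_of_not_dvd (by norm_num)]

theorem card_syl (P : Sylow 7 ↥M.G) : Nat.card (P : Subgroup ↥M.G) = 49 := by
  have h7 : Fact (Nat.Prime 7) := ⟨by norm_num⟩
  rw [P.card_eq_multiplicity, facM]; norm_num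

theorem ks (u : Fin 8) : ∑ w, t8 u w =
    (![1, 1, 3968055, 3968055, 2370830336, 2370830336, 46227456, 22348085760] : Fin 8 → ℕ) u := by
  revert u
  decide +kernel

theorem ks_ne (u : Fin 8) :
    (![1, 1, 3968055, 3968055, 2370830336, 2370830336, 46227456, 22348085760] : Fin 8 → ℕ) u ≠ 0 := by
  revert u
  decide

/-- two commuting transpositions which commute with `P` -/
theorem exists_config (P : Sylow 7 ↥M.G) : ∃ x y : _root_.Cfsg.Agent.H877.BSgn.X0 M, cc M x y = 6 ∧
    tX x ∈ centralizer ((P : Subgroup ↥M.G) : Set ↥M.G) ∧ tX y ∈ centralizer ((P : Subgroup ↥M.G) : Set ↥M.G) := by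
  have h7 : Fact (Nat.Prime 7) := ⟨by norm_num⟩
  have hPp : IsPGroup 7 (P : Subgroup ↥M.G) := P.isPGroup'
  have hX : Nat.card (_root_.Cfsg.Agent.H877.BSgn.X0 M) = 27143910000 := card_X0 BabyM.Instance.all
  obtain ⟨x, hx⟩ := hPp.nonempty_fixed_point_of_prime_not_dvd_card (X0 M) (by rw [hX]; norm_num)
  have hfix : ∀ u : (P : Subgroup ↥M.G), u • x = x := fun u => hx u
  let Y : SubMulAction (P : Subgroup ↥M.G) (X0 M) :=
    { carrier := {y | cc M x y = 6}
      smul_mem' := by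
        intro g y hy
        show cc M x ((g : ↥M.G) • y) = 6
        have h1 : cc M ((g : ↥M.G) • x) ((g : ↥M.G) • y) = cc M x y := isCol.inv _ _ _
        have h2 : (g : ↥M.G) • x = x := hfix g
        rw [h2] at h1
        rw [h1]
        exact hy }
  have hY : Nat.card Y = 46227456 := by
    have h1 := kk_eq8 x 6
    rw [ks] at h1
    exact h1
  obtain ⟨y, hy⟩ := hPp.nonempty_fixed_point_of_prime_not_dvd_card Y (by rw [hY]; norm_num)
  have key : ∀ z : _root_.Cfsg.Agent.H877.BSgn.X0 M, (∀ u ∈ (P : Subgroup ↥M.G), u • z = z) →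
      tX z ∈ centralizer ((P : Subgroup ↥M.G) : Set ↥M.G) := by
    intro z hz
    rw [mem_centralizer_iff]
    intro u hu
    have h1 := tX_smul u z
    rw [hz u hu] at h1
    calc u * tX z = u * tX z * u⁻¹ * u := by group
      _ = tX z * u := by rw [← h1]
  refine ⟨x, y, y.2, key x fun u hu => hfix ⟨u, hu⟩, key y fun u hu => ?_⟩
  have h1 : (⟨u, hu⟩ : (P : Subgroup ↥M.G)) • y = y := hy ⟨u, hu⟩
  exact congrArg Subtype.val h1

theorem cc_symm (x y : _root_.Cfsg.Agent.H877.BSgn.X0 M) : cc M x y = cc M y x := isCol.symm x y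

theorem tX_ne_one {x y : _root_.Cfsg.Agent.H877.BSgn.X0 M} (h : cc M x y = 6) : tX x ≠ 1 := by
  intro h0
  have h1 := cc_t x y
  rw [h0, one_smul, isCol.self, h] at h1
  exact absurd h1 (by decide)

theorem tX_ne {x y : _root_.Cfsg.Agent.H877.BSgn.X0 M} (h : cc M x y = 6) : tX x ≠ tX y := by
  intro h0
  have h1 := cc_t x y
  have h2 := cc_t y y
  rw [h0, h2, h, isCol.self] at h1
  exact absurd h1 (by decide)

theorem tX_comm {x y : _root_.Cfsg.Agent.H877.BSgn.X0 M} (h : cc M x y = 6) : tX x * tX y = tX y * tX x :=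
  comm_of' (Or.inr (Or.inr (by rw [h]; decide)))

/-- **The value on the product of two commuting transpositions modulo 7.** -/
theorem tt_mod {χ : ↥M.G → ℂ} (hχ : IsIrrCharacter ↥M.G χ) {n a b : ℤ} (hn : χ 1 = n) {x y : _root_.Cfsg.Agent.H877.BSgn.X0 M}
    (ha : χ (tX x) = a) (hn7 : ¬ 7 ∣ n) (hmod : 7 ∣ a - n) (hxy : cc M x y = 6) (hb : χ (tX x * tX y) = b) :
    7 ∣ b - n := by
  classical
  have := Fintype.ofFinite ↥M.G
  have h1 := H165.Vr.sum_act_irr htr tX_smul x hχ
  have hex : ∀ u : Fin 8, ∃ z : _root_.Cfsg.Agent.H877.BSgn.X0 M, cc M x z = u := by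
    intro u
    have h2 := kk_eq8 x u
    rw [ks] at h2
    have h4 : Nat.card {z // cc M x z = u} ≠ 0 := by
      rw [show Nat.card {z // cc M x z = u} = kk (cc M) x u from rfl, h2]
      exact ks_ne u
    obtain ⟨⟨z, hz⟩⟩ := (Nat.card_ne_zero.1 h4).1
    exact ⟨z, hz⟩
  choose z hz using hex
  have hcf : ∀ z' : X0 M, χ (tX z' * tX x) = χ (tX (z (cc M x z')) * tX x) := by
    intro z'
    obtain ⟨g, h2, h3⟩ := isCol.tr x z' x (z (cc M x z')) (by rw [hz])
    have h4 : tX (z (cc M x z')) * tX x = g * (tX z' * tX x) * g⁻¹ := by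
      rw [← h3, tX_smul]
      conv_lhs => rw [← h2, tX_smul]
      group
    rw [h4]
    exact (isIrr_isClassFunction hχ _ _).symm
  have h2 := H165.Vr.sum_colour (cc M x) (f := fun z' => χ (tX z' * tX x)) (w := fun u => χ (tX (z u) * tX x)) hcf
    (k := ![1, 1, 3968055, 3968055, 2370830336, 2370830336, 46227456, 22348085760]) (fun u => by
      rw [← ks u]; exact kk_eq8 x u)
  rw [h2] at h1
  have e0 : χ (tX (z 0) * tX x) = n := by
    have h3 : x = z 0 := (isCol.diag x (z 0)).1 (hz 0)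
    rw [← h3, tX_sq, hn]
  have e1 : χ (tX (z 1) * tX x) = n := by
    have h3 : tX x = tX (z 1) := tX_congr (pm_of_par (by rw [hz]; decide))
    rw [← h3, tX_sq, hn]
  have e6 : χ (tX (z 6) * tX x) = b := by
    have h3 := hcf y
    rw [hxy] at h3
    rw [← h3, ← tX_comm hxy, hb]
  simp only [Fin.sum_univ_eight] at h1
  simp only [e0, e1, e6, hn, ha] at h1
  have hint : ∀ g, IsIntegral ℤ (χ g) := fun g => GaloisBasic.isIntegral_apply (isIrr_isCharacter hχ) g
  obtain ⟨r, hr⟩ : ∃ r : ℂ, r = -((n : ℂ) * (566865 * (χ (tX (z 2) * tX x) + χ (tX (z 3) * tX x)) +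
    338690048 * (χ (tX (z 4) * tX x) + χ (tX (z 5) * tX x)) + 3192583680 * χ (tX (z 7) * tX x))) := ⟨_, rfl⟩
  have hri : IsIntegral ℤ r := by
    rw [hr]
    have c : ∀ m : ℤ, IsIntegral ℤ (m : ℂ) := fun m => isIntegral_algebraMap
    have c1 : IsIntegral ℤ (566865 : ℂ) := by exact_mod_cast c 566865
    have c2 : IsIntegral ℤ (338690048 : ℂ) := by exact_mod_cast c 338690048
    have c3 : IsIntegral ℤ (3192583680 : ℂ) := by exact_mod_cast c 3192583680
    exact (((c n).mul (((c1.mul ((hint _).add (hint _))).add (c2.mul ((hint _).add (hint _)))).add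
      (c3.mul (hint _))))).neg
  have h7r : 7 * r = ((n * (2 * n + 46227456 * b) - 27143910000 * a ^ 2 : ℤ) : ℂ) := by
    rw [cardX] at h1
    rw [hr]
    push_cast
    simp at h1
    linear_combination (-1 : ℂ) * h1
  obtain ⟨s, hs⟩ := GaloisBasic.exists_int_of_isIntegral hri ⟨((n * (2 * n + 46227456 * b) - 27143910000 * a ^ 2 : ℤ) : ℚ) / 7, by
    rw [Rat.cast_div, Rat.cast_intCast, ← h7r]
    push_cast
    ring⟩
  have h3 : n * (2 * n + 46227456 * b) - 27143910000 * a ^ 2 = 7 * s := by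
    have : ((n * (2 * n + 46227456 * b) - 27143910000 * a ^ 2 : ℤ) : ℂ) = ((7 * s : ℤ) : ℂ) := by
      rw [← h7r, hs]; push_cast; ring
    exact_mod_cast this
  obtain ⟨k, hk⟩ := hmod
  have hak : a = n + 7 * k := by linarith only [hk]
  have h4 : 7 ∣ (2 * n) * (b - n) := by
    refine ⟨s - 6603922 * n * b + 3877701428 * n ^ 2 + 27143910000 * (2 * k * n + 7 * k ^ 2), ?_⟩
    rw [hak] at h3
    linear_combination h3
  have h7p : Prime (7 : ℤ) := by norm_num
  rcases h7p.dvd_or_dvd h4 with h | h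
  · rcases h7p.dvd_or_dvd h with h | h
    · norm_num at h
    · exact absurd h hn7
  · exact h

/-- **Members of the principal 7-block of the Baby Monster.** -/
theorem mem_of_mod {I : Ideal AlgInt} (hI : IsPModular 7 I) {χ : IrrCharacter ↥M.G} {n a : ℤ}
    (hn : (χ : ↥M.G → ℂ) 1 = n) (ha : ∀ x : _root_.Cfsg.Agent.H877.BSgn.X0 M, (χ : ↥M.G → ℂ) (tX x) = a) (hn7 : ¬ 7 ∣ n) (hmod : 7 ∣ a - n) :
    χ ∈ principalBlock I ↥M.G := by
  have h7 : Fact (Nat.Prime 7) := ⟨by norm_num⟩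
  obtain ⟨P⟩ : Nonempty (Sylow 7 ↥M.G) := inferInstance
  obtain ⟨x, y, hxy, hx, hy⟩ := exists_config P
  have hP := card_syl P
  have hyx : cc M y x = 6 := by rw [cc_symm]; exact hxy
  have htt : tX x * tX y * (tX x * tX y) = 1 := sq_of (Or.inr (Or.inr (by rw [hxy]; decide)))
  obtain ⟨b, hb⟩ := H165.Vr.int_of_sq (isIrr_isCharacter χ.2) htt
  have hbn := tt_mod χ.2 hn (ha x) hn7 hmod hxy hb
  have hd : ¬ 7 ∣ charDegree (χ : ↥M.G → ℂ) := by
    intro h
    apply hn7
    have h1 : n = (charDegree (χ : ↥M.G → ℂ) : ℤ) := by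
      have h2 := Blocks.Basic.irr_one_eq_charDegree χ.2
      rw [hn] at h2
      exact_mod_cast h2
    rw [h1]
    exact_mod_cast h
  refine mem_of_sum hI P hP (H436.B7.card_cent isoM hP) (tX_sq x) (tX_sq y) (tX_comm hxy) hx hy (tX_ne_one hxy)
    (tX_ne_one hyx) (tX_ne hxy) hd (s := n + a + a + b) (by rw [hn, ha, ha, hb]; push_cast; ring) ?_
  intro h
  apply hn7
  have h7p : Prime (7 : ℤ) := by norm_num
  have h4 : 7 ∣ 4 * n := by
    have h5 : 4 * n = (n + a + a + b) - 2 * (a - n) - (b - n) := by ring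
    rw [h5]
    exact dvd_sub (dvd_sub h (Dvd.dvd.mul_left hmod 2)) hbn
  rcases h7p.dvd_or_dvd h4 with h | h
  · norm_num at h
  · exact h

theorem mem_e2 {I : Ideal AlgInt} (hI : IsPModular 7 I) :
    (⟨ch e2, ch_irr datE2⟩ : IrrCharacter ↥M.G) ∈ principalBlock I ↥M.G :=
  mem_of_mod hI (n := 96255) (a := 4863) (by show ch e2 1 = _; rw [ch_one datE2]; norm_num)
    (fun x => by show ch e2 (tX x) = _; rw [t_e2]; norm_num) (by norm_num) (by norm_num)

theorem mem_al {I : Ideal AlgInt} (hI : IsPModular 7 I) :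
    (⟨al2, irrAl⟩ : IrrCharacter ↥M.G) ∈ principalBlock I ↥M.G :=
  mem_of_mod hI (n := 9550635) (a := 119339) (by show al2 1 = _; rw [al2_one]; norm_num)
    (fun x => by show al2 (tX x) = _; rw [al2_t]; norm_num) (by norm_num) (by norm_num)

end Cfsg.Agent.H160.BL
end

-- part: H160/BL/EvenB
section
/-!
# The even spherical functions of degree `4275362520`, `9287037474` in the signed scheme of the Baby Monster (helper160)
-/

set_option autoImplicit false
set_option linter.constructorNameAsVariable false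

namespace Cfsg.Agent.H160.BL.EvenB

open Cfsg.Agent.BabyM.Inst Cfsg.Agent.H816.IMEig Cfsg.Agent.H816.IMEig.Col Cfsg.Agent.H877.BSgn

/-- The spherical function of degree `4275362520`. -/
noncomputable def e4 : Fin 8 → ℂ := ![1, 1, 43/88179, 43/88179, -31/2315264, -31/2315264, -7/40128, 47/15519504]

theorem eig_e4 : Eig (3 : Fin 8) 0 t8 (1935) e4 where
  one := rfl
  eig := by
    intro u
    rw [kk3]
    fin_cases u
    all_goals
      simp only [Fin.sum_univ_eight]
      simp [t8, e4]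
      try norm_num only []
  uniq := by
    intro φ h
    rw [kk3] at h
    have h0 := h 0
    have h1 := h 1
    have h2 := h 2
    have h3 := h 3
    have h4 := h 4
    have h5 := h 5
    have h6 := h 6
    have h7 := h 7
    simp only [Fin.sum_univ_eight] at h0 h1 h2 h3 h4 h5 h6 h7
    simp [t8] at h0 h1 h2 h3 h4 h5 h6 h7
    intro u
    fin_cases u
    · simp [e4]
    · simp [e4]
      linear_combination (943823/1706400000) * h0 + (-943823/1706400000) * h1 + (-1541/87026400000) * h2 + (1541/87026400000) * h3 + (13/116035200000) * h4 + (-13/116035200000) * h5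
    · simp [e4]
      linear_combination (2387317/8851096800000) * h0 + (-1541/87026400000) * h1 + (-66263/7673900925600000) * h2 + (66263/7673900925600000) * h3 + (43/787066761600000) * h4 + (-43/787066761600000) * h5
    · simp [e4]
      linear_combination (1/3968055) * h0
    · simp [e4]
      linear_combination (-8904692791/1261611432345600000) * h0 + (1453309/3161933414400000) * h1 + (4807099/21447394349875200000) * h2 + (-1449599/21447394349875200000) * h3 + (-2164009/1568723701019443200000) * h4 + (4489771/3660355302378700800000) * h5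
    · simp [e4]
      linear_combination (-26290044581/3784834297036800000) * h0 + (9891557/28457400729600000) * h1 + (32718227/193026549148876800000) * h2 + (-2500727/193026549148876800000) * h3 + (-9009533/32943197721408307200000) * h4 + (3973283/32943197721408307200000) * h5
    · simp [e4]
      linear_combination (-2520887659787/27748162790092800000) * h0 + (748308743/132766329139200000) * h1 + (353596439/128650572935884800000) * h2 + (-481698329/1415156302294732800000) * h3 + (-223888301/15095000557810483200000) * h4 + (6465641/1372272777982771200000) * h5 + (1/3128674222080) * h6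
    · simp [e4]
      linear_combination (360126808541/228331956575923200000) * h0 + (-1174739/12005465932800000) * h1 + (-50513777/1058629980488371200000) * h2 + (68814047/11644929785372083200000) * h3 + (351473/1364973454695628800000) * h4 + (-71051/868619471169945600000) * h5

end Cfsg.Agent.H160.BL.EvenB
end

-- part: H160/BL/Mem4
section
/-!
# Four members of the principal 7-block of the Baby Monster (helper160)

`members` : the irreducible characters `1`, `96255`, `9550635`, `4275362520` (and `9287037474`) of the Baby Monster are in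
the principal 7-block.
-/

set_option autoImplicit false
set_option linter.constructorNameAsVariable false
set_option linter.unusedSectionVars false

namespace Cfsg.Agent.H160.BL

open Cfsg Cfsg.Agent.Characters Cfsg.Agent.Characters.Core
open Cfsg.Agent.BabyM.Model Cfsg.Agent.BabyM.Inst Cfsg.Agent.H995.BSch Cfsg.Agent.H995.BSchVal
  Cfsg.Agent.H877.BSgn Cfsg.Agent.H816.IMEig Cfsg.Agent.H816.IMEig.Col Cfsg.Agent.H816.BT.Sgn
  Cfsg.Agent.H816.BT.Abs Cfsg.Agent.H816.BT.Ops Cfsg.Agent.H816.BT.Pw Cfsg.Agent.H816.BT.Sch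
  Cfsg.Agent.H816.BT.Even Cfsg.Agent.H816.BT.Main Cfsg.Agent.H816.BT.Two Cfsg.Agent.H160.BL.EvenB
open scoped BigOperators ComplexConjugate

universe u

def qe4 : Fin 8 → ℚ := ![1, 1, 43/88179, 43/88179, -31/2315264, -31/2315264, -7/40128, 47/15519504]

theorem datE4 : Dat 1935 e4 qe4 4275362520 (17250 / 2717) where
  eig := eig_e4
  rat u := by (revert u; simp only [e4, qe4, _root_.Fin.forall_fin_succ, Fin.isValue, _root_.Matrix.cons_val_zero, _root_.Rat.cast_one, _root_.Matrix.cons_val_succ, _root_.Rat.cast_div, _root_.Rat.cast_ofNat, _root_.Rat.cast_neg, _root_.Matrix.cons_val_fin_one, _root_.implies_true, _root_.and_self])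
  sum := by decide +kernel
  deg := by norm_num

theorem t_e4 (x : X0 M) : ch e4 (tX x) = 10237656 := by
  rw [ch_t datE4 x (v := 10237656) (by decide +kernel)]; norm_num

theorem mem_e4 {I : Ideal AlgInt} (hI : IsPModular 7 I) :
    (⟨ch e4, ch_irr datE4⟩ : IrrCharacter ↥M.G) ∈ principalBlock I ↥M.G :=
  mem_of_mod hI (n := 4275362520) (a := 10237656) (by show ch e4 1 = _; rw [ch_one datE4]; norm_num)
    (fun x => by show ch e4 (tX x) = _; rw [t_e4]; norm_num) (by norm_num) (by norm_num)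

end Cfsg.Agent.H160.BL
end

private theorem dce_3e345689bfd4 : _root_.True := by
  try have : _root_.True := by simp only [_root_.Cfsg.Agent.H160.BL.qe4.eq_1]
  try have : _root_.True := by simp only [_root_.Cfsg.Agent.H160.BL.EvenB.e4.eq_1]
  exact _root_.True.intro
end

-- part: H141/LB/Glue
section
prune_inst 0x4010000
set_option linter.all false
open scoped Cfsg.Agent.FastGrp

/-!
# S4879, row of the Baby Monster, `p = 7`: glue (helper141)

`seven_le` : `7 ≤ l(B₀)` from the arithmetical theorem, the matrix `Q` with an abstract basis, four known characters of the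
principal block (values modulo `49`) and the relations at the elements of order `11`.
-/

set_option autoImplicit false

namespace Cfsg.Agent.H141.LB

open Cfsg Subgroup
open Cfsg.Agent.H741.Lb (OneC QMat)
open Cfsg.Agent.Blocks.Basic

universe u

/-- The arithmetical statement. -/
def Arith : Prop :=
  ∀ {I : Type u} [Fintype I] (q : I → Fin 3 → ℤ),
    (∀ i j, ∑ x, q x i * q x j = 7 * ((if i = j then 1 else 0) + 2)) →
    ∀ {x1 x2 x3 x4 : I}, x1 ≠ x2 → x1 ≠ x3 → x1 ≠ x4 → x2 ≠ x3 → x2 ≠ x4 → x3 ≠ x4 → q x1 = ![1, 0, 0] →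
    ∀ (a b : ℤ), a % 7 = 1 → b % 7 = 1 → (q x2 0 + a * q x2 1 + b * q x2 2) % 49 = 19 →
    (q x3 0 + a * q x3 1 + b * q x3 2) % 49 = 45 → (q x4 0 + a * q x4 1 + b * q x4 2) % 49 = 16 →
    ∀ (r : Fin 3 → I → ℤ), (∀ t x, r t x = 0 ∨ r t x = 1 ∨ r t x = -1) → (∀ s t x, s ≠ t → r s x = 0 ∨ r t x = 0) →
    (∀ t, r t x1 = (![1, 0, 0] : Fin 3 → ℤ) t) → (∀ t, r t x2 = (![0, 1, 0] : Fin 3 → ℤ) t) →
    (∀ t, r t x3 = (![0, 0, 1] : Fin 3 → ℤ) t) → (∀ t, r t x4 = 0) → (∀ t j, ∑ x, r t x * q x j = 0) →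
    10 ≤ Fintype.card I

variable {G : Type u} [Group G] [Finite G] {M : Ideal AlgInt}

/-- The relations at an element of order `11`. -/
def Rel11 (M : Ideal AlgInt) (q : IrrCharacter G → Fin 3 → ℤ) (i0 χ2 α : IrrCharacter G) : Prop :=
  ∃ r : Fin 3 → IrrCharacter G → ℤ, (∀ t x, r t x = 0 ∨ r t x = 1 ∨ r t x = -1) ∧
    (∀ s t x, s ≠ t → r s x = 0 ∨ r t x = 0) ∧
    (∀ t, r t i0 = (![1, 0, 0] : Fin 3 → ℤ) t) ∧ (∀ t, r t χ2 = (![0, 1, 0] : Fin 3 → ℤ) t) ∧
    (∀ t, r t α = (![0, 0, 1] : Fin 3 → ℤ) t) ∧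
    (∀ χ : IrrCharacter G, 11 ∣ charDegree (χ : G → ℂ) → ∀ t, r t χ = 0) ∧
    ∀ t j, ∑ᶠ χ ∈ principalBlock M G, r t χ * q χ j = 0

theorem finsum_block {B : Set (IrrCharacter G)} [Fintype B] (F : IrrCharacter G → ℤ) :
    ∑ᶠ χ ∈ B, F χ = ∑ χ : B, F χ := by
  rw [← finsum_set_coe_eq_finsum_mem, finsum_eq_sum_of_fintype]

/-- **`l(B₀) ≥ 7`.** -/
theorem seven_le (hA : Arith.{u}) (hM : IsPModular 7 M) [Fact (Nat.Prime 7)] (hone : OneC 7 G) (P : Sylow 7 G)
    (hP : Nat.card P = 7 ^ 2) (hel : ∀ x ∈ (P : Subgroup G), x ^ 7 = 1) {x : G} (hx : x ∈ (P : Subgroup G))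
    (hx1 : x ≠ 1)
    (h3 : (centralizer ((P : Subgroup G) : Set G)).relIndex
      (normalizer ((P : Subgroup G) : Set G) ⊓ centralizer ({x} : Set G)) = 3)
    {i0 χ2 α χ4 : IrrCharacter G} (m0 : i0 ∈ principalBlock M G) (m2 : χ2 ∈ principalBlock M G)
    (m3 : α ∈ principalBlock M G) (m4 : χ4 ∈ principalBlock M G)
    (d0 : charDegree (i0 : G → ℂ) = 1) (d2 : charDegree (χ2 : G → ℂ) = 96255)
    (d3 : charDegree (α : G → ℂ) = 9550635) (d4 : charDegree (χ4 : G → ℂ) = 4275362520)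
    {f : Fin 3 → centralizer ({x} : Set G) → ℂ} {q : IrrCharacter G → Fin 3 → ℤ} (Q : QMat 7 3 2 M x f q)
    (q0 : q i0 = ![1, 0, 0]) {a b : ℤ} (ha : a % 7 = 1) (hb : b % 7 = 1)
    (hv : ∀ χ ∈ principalBlock M G, (χ : G → ℂ) x = ((q χ 0 + a * q χ 1 + b * q χ 2 : ℤ) : ℂ))
    (hr : Rel11 M q i0 χ2 α) : 7 ≤ blockRank 7 (principalBlock M G) := by
  classical
  have := Characters.Core.finite_irr (G := G)
  have hF : Fintype (principalBlock M G) := Fintype.ofFinite _
  have hx7 : orderOf x = 7 := orderOf_eq_prime (hel x hx) hx1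
  have hconj : ∀ y ∈ (P : Subgroup G), y ≠ 1 → IsConj x y := fun y hy hy1 =>
    hone x y hx1 hy1 ⟨1, by rw [hx7, pow_one]⟩ ⟨1, by rw [orderOf_eq_prime (hel y hy) hy1, pow_one]⟩
  have hcong : ∀ χ ∈ principalBlock M G, (49 : ℤ) ∣ (charDegree (χ : G → ℂ) : ℤ) - (q χ 0 + a * q χ 1 + b * q χ 2) := by
    intro χ hχ
    obtain ⟨v, h1, h2⟩ := H642.Lb.exists_val (P : Subgroup G) (n := 49) (by rw [show (49 : ℕ) = 7 ^ 2 by norm_num]; exact hP)
      (by norm_num) hconj χ
    rw [hv χ hχ] at h1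
    have h3 : q χ 0 + a * q χ 1 + b * q χ 2 = v := by exact_mod_cast h1
    rw [h3]
    exact_mod_cast h2
  obtain ⟨r, r1, r2, r3, r4, r5, r6, r7⟩ := hr
  have ne_of : ∀ {χ ψ : IrrCharacter G}, charDegree (χ : G → ℂ) ≠ charDegree (ψ : G → ℂ) → χ ≠ ψ := by
    rintro χ _ h rfl
    exact h rfl
  have h10 : 10 ≤ Fintype.card (principalBlock M G) := by
    refine hA (fun χ : principalBlock M G => q χ) ?_ (x1 := ⟨i0, m0⟩) (x2 := ⟨χ2, m2⟩) (x3 := ⟨α, m3⟩) (x4 := ⟨χ4, m4⟩)
      ?_ ?_ ?_ ?_ ?_ ?_ q0 a b ha hb ?_ ?_ ?_ (fun t χ => r t χ) (fun t χ => r1 t χ) (fun s t χ h => r2 s t χ h)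
      r3 r4 r5 (fun t => r6 χ4 (by rw [d4]; norm_num) t) ?_
    · intro i j
      have h1 := Q.gram i j
      rw [finsum_block] at h1
      rw [h1]
      split_ifs <;> norm_num
    · exact fun h => ne_of (by rw [d0, d2]; norm_num) (congrArg Subtype.val h)
    · exact fun h => ne_of (by rw [d0, d3]; norm_num) (congrArg Subtype.val h)
    · exact fun h => ne_of (by rw [d0, d4]; norm_num) (congrArg Subtype.val h)
    · exact fun h => ne_of (by rw [d2, d3]; norm_num) (congrArg Subtype.val h)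
    · exact fun h => ne_of (by rw [d2, d4]; norm_num) (congrArg Subtype.val h)
    · exact fun h => ne_of (by rw [d3, d4]; norm_num) (congrArg Subtype.val h)
    · have h1 := hcong χ2 m2
      rw [d2] at h1
      show (q χ2 0 + a * q χ2 1 + b * q χ2 2) % 49 = 19
      generalize q χ2 0 + a * q χ2 1 + b * q χ2 2 = w at h1
      omega
    · have h1 := hcong α m3
      rw [d3] at h1
      show (q α 0 + a * q α 1 + b * q α 2) % 49 = 45
      generalize q α 0 + a * q α 1 + b * q α 2 = w at h1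
      omega
    · have h1 := hcong χ4 m4
      rw [d4] at h1
      show (q χ4 0 + a * q χ4 1 + b * q χ4 2) % 49 = 16
      generalize q χ4 0 + a * q χ4 1 + b * q χ4 2 = w at h1
      omega
    · intro t j
      have h1 := r7 t j
      rwa [finsum_block] at h1
  rw [← Nat.card_eq_fintype_card] at h10
  have h4 := H723.LbC.card_eq_of_oneClass hM (fun y z hy hy1 hz hz1 => hone y z hy1 hz1 hy hz) (x := x)
    ⟨1, by rw [hx7, pow_one]⟩ hx1
  rw [H963.OneP.RankEq.rank_eq hM (by norm_num) P hP hel hx hx1, h3] at h4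
  omega

end Cfsg.Agent.H141.LB
end

-- part: H141/LB/RowB
section
prune_inst 0x4010000
set_option linter.all false
open scoped Cfsg.Agent.FastGrp

/-!
# S4879, the row of the Baby Monster, `p = 7` (helper141)
-/

set_option autoImplicit false

namespace Cfsg.Agent.H141.LB.RowB

open Cfsg Subgroup
open Cfsg.Agent.H741.Lb (OneC QMat Row)
open Cfsg.Agent.Blocks.Basic

universe u

/-- a group between `B` and its automorphism group -/
theorem iso_of {G : Type u} [Group G] (T : Subgroup G) [T.Normal] (hT : Spor.IsoB T)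
    (hC : ∀ g : G, (∀ t ∈ T, Commute g t) → g = 1) : Spor.IsoB G := by
  have htop : T = ⊤ := by
    rw [eq_top_iff]
    intro g _
    obtain ⟨k, hk⟩ := H979.BTrans.inner_b hT (MulAut.conjNormal g)
    have h1 : (k : G)⁻¹ * g = 1 := by
      apply hC
      intro t ht
      have h4 := congrArg Subtype.val (hk ⟨t, ht⟩)
      rw [MulAut.conjNormal_apply, Subgroup.coe_mul, Subgroup.coe_mul, Subgroup.coe_inv] at h4
      change g * t * g⁻¹ = (k : G) * t * (k : G)⁻¹ at h4
      show (k : G)⁻¹ * g * t = t * ((k : G)⁻¹ * g)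
      have h5 : g * t = (k : G) * t * (k : G)⁻¹ * g := by
        rw [← h4, inv_mul_cancel_right]
      rw [mul_assoc, h5]
      group
    have h2 : g = (k : G) := by
      have := congrArg ((k : G) * ·) h1
      simpa using this
    rw [h2]
    exact k.2
  subst htop
  obtain ⟨e⟩ := hT
  exact ⟨Subgroup.topEquiv.symm.trans e⟩

/-- the exponent of a Sylow subgroup -/
theorem exponent {G : Type u} [Group G] [Finite G] {p : ℕ} [hp : Fact p.Prime] (hone : OneC p G) (P : Sylow p G)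
    (hP : Nat.card P = p ^ 2) : ∀ x ∈ (P : Subgroup G), x ^ p = 1 := by
  intro x hx
  by_cases hx1 : x = 1
  · rw [hx1, one_pow]
  · obtain ⟨y, hy⟩ := exists_prime_orderOf_dvd_card' (G := G) p
      ((Dvd.intro_left p (by rw [← sq, ← hP])).trans (Subgroup.card_subgroup_dvd_card (P : Subgroup G)))
    have hy1 : y ≠ 1 := by
      rintro rfl
      rw [orderOf_one] at hy
      exact hp.out.one_lt.ne hy
    obtain ⟨k, hk⟩ := IsPGroup.iff_orderOf.1 P.isPGroup' ⟨x, hx⟩
    rw [Subgroup.orderOf_mk] at hk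
    obtain ⟨c, hc⟩ := isConj_iff.1 (hone y x hy1 hx1 ⟨1, by rw [hy, pow_one]⟩ ⟨k, hk⟩)
    have h1 : orderOf x = p := by
      rw [← hc, ← hy]
      exact MulEquiv.orderOf_eq (MulAut.conj c) y
    rw [← h1]
    exact pow_orderOf_eq_one x

section model

open Cfsg.Agent.BabyM.Model Cfsg.Agent.BabyM.Inst Cfsg.Agent.H995.BSch Cfsg.Agent.H995.BSchVal
  Cfsg.Agent.H877.BSgn Cfsg.Agent.H816.IMEig Cfsg.Agent.H816.IMEig.Col Cfsg.Agent.H816.BT.Sgn
  Cfsg.Agent.H816.BT.Abs Cfsg.Agent.H816.BT.Ops Cfsg.Agent.H816.BT.Pw Cfsg.Agent.H816.BT.Sch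
  Cfsg.Agent.H816.BT.Even Cfsg.Agent.H816.BT.Main Cfsg.Agent.H816.BT.Two Cfsg.Agent.H160.BL.EvenB Cfsg.Agent.H160.BL
open Cfsg.Agent.Characters.Core (isIrr_comp)

/-- The known members of the principal block, with the values of two of them at a transposition. -/
theorem exists_members {S : Type u} [Group S] (h : Spor.IsoB S) {I : Ideal AlgInt} (hI : IsPModular 7 I) :
    ∃ (i₀ χ₂ α χ₄ : IrrCharacter S) (t : S), (i₀ : S → ℂ) = (fun _ => 1) ∧ (χ₂ : S → ℂ) 1 = 96255 ∧
      (α : S → ℂ) 1 = 9550635 ∧ (χ₄ : S → ℂ) 1 = 4275362520 ∧ i₀ ∈ principalBlock I S ∧ χ₂ ∈ principalBlock I S ∧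
      α ∈ principalBlock I S ∧ χ₄ ∈ principalBlock I S ∧ orderOf t = 2 ∧
      11 ∣ Nat.card (centralizer ({t} : Set S)) ∧ (χ₂ : S → ℂ) t = ((4863 : ℤ) : ℂ) ∧
      (α : S → ℂ) t = ((119339 : ℤ) : ℂ) := by
  obtain ⟨f⟩ : Nonempty (S ≃* ↥M.G) := by
    obtain ⟨e⟩ := h
    exact ⟨e.trans Cfsg.Agent.BM.KHAll.iso⟩
  have hfin : Finite S := Finite.of_equiv _ f.symm.toEquiv
  have := Blocks.Local.isPrime_of_isPModular hI
  have m0 : (⟨fun _ => 1, Blocks.Basic.isIrrCharacter_one⟩ : IrrCharacter S) ∈ principalBlock I S :=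
    Blocks.Basic.mem_blockOf_self (⟨fun _ => 1, Blocks.Basic.isIrrCharacter_one⟩ : IrrCharacter S)
  have m2 := H493.RatB.mem_principalBlock_comp f (mem_e2 hI)
  have ma := H493.RatB.mem_principalBlock_comp f (mem_al hI)
  have m4 := H493.RatB.mem_principalBlock_comp f (mem_e4 hI)
  let x : X0 M := QuotientGroup.mk 1
  refine ⟨⟨fun _ => 1, Blocks.Basic.isIrrCharacter_one⟩,
    ⟨_, isIrr_comp (f : S →* ↥M.G) f.surjective (ch_irr datE2)⟩,
    ⟨_, isIrr_comp (f : S →* ↥M.G) f.surjective irrAl⟩,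
    ⟨_, isIrr_comp (f : S →* ↥M.G) f.surjective (ch_irr datE4)⟩, f.symm (tX x), rfl, ?_, ?_, ?_, m0, m2, ma, m4,
    ?_, ?_, ?_, ?_⟩
  · show ch e2 (f 1) = _
    rw [map_one, ch_one datE2]; norm_num
  · show al2 (f 1) = _
    rw [map_one, al2_one]
  · show ch e4 (f 1) = _
    rw [map_one, ch_one datE4]; norm_num
  · rw [MulEquiv.orderOf_eq]
    refine orderOf_eq_prime (by rw [pow_two]; exact tX_sq x) ?_
    rw [tX_mk, one_mul, inv_one, mul_one]
    exact fun h => BabyM.Instance.all.rep.t₀_ne (congrArg Subtype.val h)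
  · have h1 : Nat.card (conjugatesOf (f.symm (tX x))) = 13571955000 := by
      rw [Cfsg.Agent.BM.KH.card_conj_equiv f, f.apply_symm_apply, tX_mk, one_mul, inv_one, mul_one]
      exact BabyM.Instance.all.card_class BabyM.Instance.tr
    have h2 : (centralizer ({f.symm (tX x)} : Set S)).index = 13571955000 := by
      rw [← h1, Nat.card_coe_set_eq, H659.BFC.ncard_conjugatesOf]
    have h3 := (centralizer ({f.symm (tX x)} : Set S)).card_mul_index
    rw [h2, H465.LB.card_B h] at h3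
    omega
  · show ch e2 (f (f.symm (tX x))) = _
    rw [f.apply_symm_apply, t_e2]; norm_num
  · show al2 (f (f.symm (tX x))) = _
    rw [f.apply_symm_apply, al2_t]; norm_num

end model

/-- **The row.** -/
theorem row_of (B : H940.Eng.Base) {M : Ideal AlgInt} (hM : IsPModular 7 M) :
    Row.{u} 7 M (fun S _ => Spor.IsoB S) := by
  intro G _ _ T _ hC _ hone hS hT
  have h7 : Fact (Nat.Prime 7) := ⟨by norm_num⟩
  have hB := iso_of T hT hC
  obtain ⟨P⟩ : Nonempty (Sylow 7 G) := inferInstance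
  have hP := hS P
  have hel := exponent hone P hP
  obtain ⟨x, hx⟩ := exists_prime_orderOf_dvd_card' (G := P) 7 (by rw [hP]; norm_num)
  have hx7 : orderOf (x : G) = 7 := by rwa [Subgroup.orderOf_coe]
  have hx1 : (x : G) ≠ 1 := by
    intro h
    rw [h, orderOf_one] at hx7
    norm_num at hx7
  have hr := H465.LB.relIndex_three hB hone P x.2 hx1
  obtain ⟨f, q, a, b, Q, q0, ha, hb, hv⟩ := H608.Lb.exists_qab hM hone P hP x.2 hx1 hr
  obtain ⟨i₀, χ₂, α, χ₄, t, e0, e2, e3, e4, m0, m2, m3, m4, ht, htc, v2, v3⟩ := exists_members hB hM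
  have hd : ∀ (χ : IrrCharacter G) (n : ℕ), (χ : G → ℂ) 1 = n → charDegree (χ : G → ℂ) = n := by
    intro χ n h
    rw [irr_one_eq_charDegree χ.2] at h
    exact_mod_cast h
  have d2 := hd χ₂ 96255 (by rw [e2]; norm_num)
  have d3 := hd α 9550635 (by rw [e3]; norm_num)
  obtain ⟨r, r1, r2, r3, r4, r5, r6, r7⟩ := H495.LB.BEl.eleven B hB hM (by norm_num) (by norm_num)
    (x := (x : G)) (q := q) (f := f) ⟨⟨1, by rw [hx7, pow_one]⟩, hx1, Q.row, fun a ha => congrFun (Q.indep a ha)⟩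
    (χ₂ := χ₂) (χ₃ := α) ht htc (by rw [d2]) v2 (by norm_num) (by rw [d3]) v3 (by norm_num)
  have hrel : Rel11 M q i₀ χ₂ α := by
    refine ⟨r, r1, fun s t χ hst => r2 χ s t hst, ?_, ?_, ?_, fun χ h t => r4 χ h t, r3⟩
    · intro t
      have h1 := r5 i₀ e0
      fin_cases t
      · exact h1
      · exact (r2 i₀ 0 1 (by decide)).resolve_left (by rw [h1]; norm_num)
      · exact (r2 i₀ 0 2 (by decide)).resolve_left (by rw [h1]; norm_num)
    · intro t
      fin_cases t
      · exact (r2 χ₂ 1 0 (by decide)).resolve_left (by rw [r6]; norm_num)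
      · exact r6
      · exact (r2 χ₂ 1 2 (by decide)).resolve_left (by rw [r6]; norm_num)
    · intro t
      fin_cases t
      · exact (r2 α 2 0 (by decide)).resolve_left (by rw [r7]; norm_num)
      · exact (r2 α 2 1 (by decide)).resolve_left (by rw [r7]; norm_num)
      · exact r7
  exact seven_le H490.BA.arith hM hone P hP hel x.2 hx1 hr m0 m2 m3 m4 (hd i₀ 1 (by rw [e0]; norm_num))
    d2 d3 (hd χ₄ 4275362520 (by rw [e4]; norm_num)) Q (q0 i₀ e0) ha hb hv hrel

end Cfsg.Agent.H141.LB.RowB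
end

-- part: H710/LB5/FiveOf
section
prune_inst 0x10300104032002000000001040000030000000000040000080a001020000000000028800080001080002000000040008110000800200000000000000000501000000140080090008820018000080000000000000000000000000000000000000000000000
set_option linter.all false
open scoped Cfsg.Agent.FastGrp

-- part: H319/One/Names
section
/-!
# S4879: the classification half with the names of the groups (helper319)
-/

set_option autoImplicit false

namespace Cfsg.Agent.H319.One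

open Cfsg Cfsg.Agent.OrdDiv

universe u

/-- The possibilities, with names. -/
def OutcomeN (p n : ℕ) (S : Type u) [Group S] : Prop :=
  (∃ (F : Type) (_ : Field F) (_ : Fintype F), Fintype.card F = p ^ n ∧
    Nonempty (S ≃* Matrix.ProjectiveSpecialLinearGroup (Fin 2) F)) ∨
  (p = 7 ∧ n = 2 ∧ Loc 7 3 S ∧ (Spor.IsoTh S ∨ Spor.IsoB S ∨
    ∃ (F : Type) (_ : Field F) (_ : Fintype F), Nonempty (S ≃* ↥(Lie.chevF4.group F)) ∧
      (orderOf ((Fintype.card F : ℕ) : ZMod 7) = 3 ∨ orderOf ((Fintype.card F : ℕ) : ZMod 7) = 6))) ∨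
  (p = 11 ∧ n = 2 ∧ Loc 11 5 S ∧ (Spor.IsoM S ∨
    ∃ (F : Type) (_ : Field F) (_ : Fintype F), Nonempty (S ≃* ↥(Lie.chevE8.group F)) ∧
      (orderOf ((Fintype.card F : ℕ) : ZMod 11) = 5 ∨ orderOf ((Fintype.card F : ℕ) : ZMod 11) = 10))) ∨
  (p = 11 ∧ n = 2 ∧ Lie.Iso2F4 S ∧
    ∀ x g : S, orderOf x = 11 → ∀ j : ℕ, (j = 3 ∨ j = 4 ∨ j = 5 ∨ j = 9) → g * x * g⁻¹ ≠ x ^ j)

/-- **The classification half, with names.** -/
theorem mainN {S : Type u} [Group S] [Finite S] [IsSimpleGroup S] (hk : IsKnownSimple' S)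
    (hK0 : ∀ (X : Type) [Group X] [Finite X] [IsSimpleGroup X], IsKnownSimple' X) {p n : ℕ} [hp : Fact p.Prime]
    (h : Hyp p n S) : OutcomeN p n S := by
  classical
  have own : IsLieTypeChar p S → OutcomeN p n S := fun hS => Or.inl (H333.OwnOne.own h hS)
  have spo : ∀ (g : Grp), g ∈ spor.map (fun x => x.1) → Real g S → OutcomeN p n S := fun g hg hr => by
    obtain ⟨x, hx, rfl⟩ := List.mem_map.1 hg
    rcases H447.One.Spor.row_spor h hx hr with ⟨h1, h2, h3 | h3⟩ | ⟨h1, h2, h3⟩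
    · rw [h3] at hr
      exact Or.inr (Or.inl ⟨h1, h2, H478.Loc.loc_isoTh hr, Or.inl hr⟩)
    · rw [h3] at hr
      exact Or.inr (Or.inl ⟨h1, h2, H478.Loc.loc_isoB hr, Or.inr (Or.inl hr)⟩)
    · rw [h3] at hr
      exact Or.inr (Or.inr (Or.inl ⟨h1, h2, H478.Loc.loc_isoM OrdDiv.table hK0 hr, Or.inl hr⟩))
  rcases hk with h' | h' | h' | h' | h' | h' | h' | h' | h' | h'
  · exfalso
    have h1 : (Nat.card S).Prime := h'
    have h2 : p ^ 2 ∣ Nat.card S := (pow_dvd_pow p h.two).trans h.dvd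
    have h3 : p ∣ Nat.card S := (dvd_pow_self p two_ne_zero).trans h2
    have h4 := (Nat.prime_dvd_prime_iff_eq hp.out h1).1 h3
    rw [← h4] at h2
    have h5 := Nat.le_of_dvd hp.out.pos h2
    have h6 := hp.out.two_le
    nlinarith only [h5, h6]
  · obtain ⟨m, hm, ⟨e⟩⟩ := h'
    exact (H600.OneAlt.row_alt (h.congr e)).elim
  · obtain ⟨F, i1, i2, m, hm, hm2, ⟨e⟩⟩ := h'
    by_cases hpF : p ∣ Fintype.card F
    · exact own (Or.inl ⟨F, i1, i2, H333.OwnOne.charP_of_dvd hpF, m, hm, hm2, ⟨e⟩⟩)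
    · exact (H491.One.row_psl hm hpF (h.congr e)).elim
  · obtain ⟨F, i1, i2, m, hm, hm2, ⟨e⟩⟩ := h'
    by_cases hpF : p ∣ Fintype.card F
    · exact own (Or.inr (Or.inl ⟨F, i1, i2, H333.OwnOne.charP_of_dvd hpF, m, hm, hm2, ⟨e⟩⟩))
    · exact (H267.One.row_psp hm hpF (h.congr e)).elim
  · obtain ⟨F, i1, i2, m, q, hF, hm, hm2, ⟨e⟩⟩ := h'
    by_cases hpF : p ∣ q
    · have hpF' : p ∣ Fintype.card F := by rw [hF]; exact hpF.trans (dvd_pow_self q two_ne_zero)
      exact own (Or.inr (Or.inr (Or.inl ⟨F, i1, i2, H333.OwnOne.charP_of_dvd hpF', m, q, hF, hm, hm2, ⟨e⟩⟩)))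
    · exact (H144.One.row_psu hF hm hm2 hpF (h.congr e)).elim
  · obtain ⟨F, i1, i2, m, hm, ho, ⟨e⟩⟩ := h'
    by_cases hpF : p ∣ Fintype.card F
    · exact own (Or.inr (Or.inr (Or.inr (Or.inl ⟨F, i1, i2, H333.OwnOne.charP_of_dvd hpF, m, hm, ho, ⟨e⟩⟩))))
    · exact (H156.One.row_oodd hm ho hpF (h.congr e)).elim
  · obtain ⟨F, i1, i2, m, hm, ⟨e⟩⟩ := h'
    by_cases hpF : p ∣ Fintype.card F
    · exact own (Or.inr (Or.inr (Or.inr (Or.inr (Or.inl ⟨F, i1, i2, H333.OwnOne.charP_of_dvd hpF, m, hm, ⟨e⟩⟩)))))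
    · rcases Nat.lt_or_ge m 5 with h4 | h4
      · have h5 : m = 4 := by omega
        subst h5
        obtain ⟨e'⟩ : Nonempty (↥(Lie.chevD4.group F) ≃* POmega F (quadFormPlus 4 F)) := S1082.result
        exact (ExcRows.d4_false (cast_ne_zero hpF) (h.congr (e.trans e'.symm))).elim
      · exact (H156.One.row_oplus h4 hpF (h.congr e)).elim
  · obtain ⟨F, i1, i2, m, a, b, hm, hab, ⟨e⟩⟩ := h'
    by_cases hpF : p ∣ Fintype.card F
    · exact own (Or.inr (Or.inr (Or.inr (Or.inr (Or.inr (Or.inl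
        ⟨F, i1, i2, H333.OwnOne.charP_of_dvd hpF, m, a, b, hm, hab, ⟨e⟩⟩))))))
    · exact (H156.One.row_ominus hm hab hpF (h.congr e)).elim
  · rcases h' with h' | h' | h' | h' | h' | h' | h' | h' | h' | h' | h'
    · obtain ⟨F, i1, i2, hq, ⟨e⟩⟩ := h'
      by_cases hpF : p ∣ Fintype.card F
      · exact own (Or.inr (Or.inr (Or.inr (Or.inr (Or.inr (Or.inr (Or.inl
          ⟨F, i1, i2, H333.OwnOne.charP_of_dvd hpF, Or.inl ⟨hq, ⟨e⟩⟩⟩)))))))
      · exact (ExcRows.g2_false (cast_ne_zero hpF) (h.congr e)).elim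
    · obtain ⟨F, i1, i2, ⟨e⟩⟩ := h'
      by_cases hpF : p ∣ Fintype.card F
      · exact own (Or.inr (Or.inr (Or.inr (Or.inr (Or.inr (Or.inr (Or.inl
          ⟨F, i1, i2, H333.OwnOne.charP_of_dvd hpF, Or.inr (Or.inl ⟨e⟩)⟩)))))))
      · obtain ⟨h1, h2, h3⟩ := ExcRows.f4_row OrdDiv.table (cast_ne_zero hpF) (h.congr e)
        subst h1
        exact Or.inr (Or.inl ⟨rfl, h2, (H210.EL.loc_f4 h3).congr e.symm, Or.inr (Or.inr ⟨F, i1, i2, ⟨e⟩, h3⟩)⟩)
    · obtain ⟨F, i1, i2, ⟨e⟩⟩ := h'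
      by_cases hpF : p ∣ Fintype.card F
      · exact own (Or.inr (Or.inr (Or.inr (Or.inr (Or.inr (Or.inr (Or.inl
          ⟨F, i1, i2, H333.OwnOne.charP_of_dvd hpF, Or.inr (Or.inr (Or.inl ⟨e⟩))⟩)))))))
      · exact (ExcRows.e6_false OrdDiv.table (cast_ne_zero hpF) (h.congr e)).elim
    · obtain ⟨F, i1, i2, ⟨e⟩⟩ := h'
      by_cases hpF : p ∣ Fintype.card F
      · exact own (Or.inr (Or.inr (Or.inr (Or.inr (Or.inr (Or.inr (Or.inl
          ⟨F, i1, i2, H333.OwnOne.charP_of_dvd hpF, Or.inr (Or.inr (Or.inr (Or.inl ⟨e⟩)))⟩)))))))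
      · exact (ExcRows.e7_false OrdDiv.table (cast_ne_zero hpF) (h.congr e)).elim
    · obtain ⟨F, i1, i2, ⟨e⟩⟩ := h'
      by_cases hpF : p ∣ Fintype.card F
      · exact own (Or.inr (Or.inr (Or.inr (Or.inr (Or.inr (Or.inr (Or.inl
          ⟨F, i1, i2, H333.OwnOne.charP_of_dvd hpF, Or.inr (Or.inr (Or.inr (Or.inr ⟨e⟩)))⟩)))))))
      · have hpF' := cast_ne_zero hpF
        have h' := h.congr e
        by_cases hp5 : p = 5
        · exfalso
          subst hp5
          have h6 := H795.NotAbRows.e8_five (F := F) (by exact_mod_cast hpF')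
          obtain ⟨P⟩ : Nonempty (Sylow 5 ↥(Lie.chevE8.group F)) := inferInstance
          exact h6 P ⟨⟨fun a b => Subtype.ext (h'.comm P P.2 a a.2 b b.2)⟩⟩
        · obtain ⟨h1, h2, h3⟩ := ExcRows.e8_row OrdDiv.table hpF' h' hp5
          subst h1
          exact Or.inr (Or.inr (Or.inl ⟨rfl, h2, (H210.EL.loc_e8 h3).congr e.symm, Or.inr ⟨F, i1, i2, ⟨e⟩, h3⟩⟩))
    · obtain ⟨F, i1, i2, q, hq, hF, ⟨e⟩⟩ := h'
      by_cases hpF : p ∣ Fintype.card F
      · exact own (Or.inr (Or.inr (Or.inr (Or.inr (Or.inr (Or.inr (Or.inr (Or.inl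
          ⟨F, i1, i2, H333.OwnOne.charP_of_dvd hpF, q, hq, Or.inl ⟨hF, ⟨e⟩⟩⟩))))))))
      · exact (ExcRows.te6_false OrdDiv.table (cast_ne_zero hpF) hq hF (h.congr e)).elim
    · obtain ⟨F, i1, i2, q, hq, hF, ⟨e⟩⟩ := h'
      by_cases hpF : p ∣ Fintype.card F
      · exact own (Or.inr (Or.inr (Or.inr (Or.inr (Or.inr (Or.inr (Or.inr (Or.inl
          ⟨F, i1, i2, H333.OwnOne.charP_of_dvd hpF, q, hq, Or.inr ⟨hF, ⟨e⟩⟩⟩))))))))
      · exact (ExcRows.td4_false (cast_ne_zero hpF) hq hF (h.congr e)).elim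
    · exact (H488.One.SzRee.row_sz h' h).elim
    · exact (H488.One.SzRee.row_ree h' h).elim
    · have h'' := h'
      obtain ⟨F, i1, i2, m, hm, hF, ⟨e⟩⟩ := h'
      have h1 := h.congr e
      obtain ⟨h2, h3⟩ := H969.TwF.row_twF4 hm hF h1
      subst h2 h3
      refine Or.inr (Or.inr (Or.inr ⟨rfl, rfl, h'', fun x g hx j hj hg => ?_⟩))
      refine H969.TwF.no_conj hm hF h1 (x := e x) (g := e g) (by rw [e.orderOf_eq, hx]) hj ?_
      rw [← map_inv, ← map_mul, ← map_mul, hg, map_pow]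
    · exact spo .tits (by decide) h'
  · rcases h' with h' | h' | h' | h' | h' | h' | h' | h' | h' | h' | h' | h' | h' | h' | h' | h' | h' | h' | h' | h' |
      h' | h' | h' | h' | h' | h'
    · exact spo .m11 (by decide) h'
    · exact spo .m12 (by decide) h'
    · exact spo .m22 (by decide) h'
    · exact spo .m23 (by decide) h'
    · exact spo .m24 (by decide) h'
    · exact spo .j1 (by decide) h'
    · exact spo .j2 (by decide) h'
    · exact spo .j3 (by decide) h'
    · exact spo .j4 (by decide) h'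
    · exact spo .co1 (by decide) h'
    · exact spo .co2 (by decide) h'
    · exact spo .co3 (by decide) h'
    · exact spo .mcl (by decide) h'
    · exact spo .hs (by decide) h'
    · exact spo .suz (by decide) h'
    · exact spo .he (by decide) h'
    · exact spo .ru (by decide) h'
    · exact spo .on (by decide) h'
    · exact spo .ly (by decide) h'
    · exact spo .fi22 (by decide) h'
    · exact spo .fi23 (by decide) h'
    · exact spo .fi24 (by decide) h'
    · exact spo .hn (by decide) h'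
    · exact spo .th (by decide) h'
    · exact spo .b (by decide) h'
    · exact spo .m (by decide) h'

end Cfsg.Agent.H319.One
end

-- part: H756/LB/Small
section
/-!
# S4879, box (H): a Frobenius-stable subspace contains words of small support over the prime field
-/

set_option autoImplicit false

namespace Cfsg.Agent.H756.LB

/-- **Words of small support.** A Frobenius-stable subspace `U` of `K^B` that does not vanish at the coordinate `o`
contains a word `w` with integral values, `w_o = 1`, and at most `|B| - dim U` further nonzero coordinates. -/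
theorem exists_small {K : Type*} [Field K] {p : ℕ} [Fact p.Prime] [CharP K p] {B : Type*} [Fintype B]
    (U : Submodule K (B → K)) (hfrob : ∀ v ∈ U, (fun b => v b ^ p) ∈ U) (o : B) (ho : ∃ v ∈ U, v o ≠ 0) :
    ∃ w : B → ℤ, w o = 1 ∧ (fun b => ((w b : ℤ) : K)) ∈ U ∧
      Nat.card {b : B // b ≠ o ∧ ((w b : ℤ) : K) ≠ 0} + Module.finrank K U ≤ Fintype.card B := by
  classical
  obtain ⟨I, _, _, a, φ, ha, hφ⟩ := H25.IsoFrob.exists_coord U
  have hI : Fintype.card I = Module.finrank K U := by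
    rw [φ.finrank_eq, Module.finrank_pi]
  set u : I → U := fun i => φ.symm (Pi.single i 1) with hu
  have hua : ∀ i j, (u i : B → K) (a j) = (Pi.single i 1 : I → K) j := by
    intro i j
    rw [← hφ, hu]
    simp
  have hp0 : p ≠ 0 := (Fact.out : p.Prime).ne_zero
  have hfix : ∀ i b, (u i : B → K) b ^ p = (u i : B → K) b := by
    intro i
    have h1 : φ ⟨_, hfrob _ (u i).2⟩ = φ (u i) := by
      ext j
      rw [hφ, hφ]
      simp only [hua]
      by_cases h : j = i
      · subst h; simp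
      · simp [h, hp0]
    have h2 := congrArg Subtype.val (φ.injective h1)
    intro b
    exact congrFun h2 b
  -- a basis vector that does not vanish at `o`
  obtain ⟨i, hi⟩ : ∃ i, (u i : B → K) o ≠ 0 := by
    by_contra hcon
    push Not at hcon
    obtain ⟨v, hv, hvo⟩ := ho
    apply hvo
    have h1 : (⟨v, hv⟩ : U) = ∑ i, v (a i) • u i := by
      apply φ.injective
      ext j
      rw [map_sum]
      simp only [map_smul, Finset.sum_apply, Pi.smul_apply, hφ, hua, smul_eq_mul]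
      simp only [Pi.single_apply, _root_.mul_ite, _root_.mul_one, _root_.MulZeroClass.mul_zero, _root_.Finset.sum_ite_eq, _root_.Finset.mem_univ, ↓ _root_.reduceIte]
    have h2 := congrFun (congrArg Subtype.val h1) o
    have h3 : ((∑ i, v (a i) • u i : U) : B → K) o = ∑ i, v (a i) * (u i : B → K) o := by
      rw [AddSubmonoidClass.coe_finsetSum, Finset.sum_apply]
      rfl
    rw [h3] at h2
    have h4 : v o = ∑ i, v (a i) * (u i : B → K) o := h2
    rw [h4]
    exact Finset.sum_eq_zero fun i _ => by rw [hcon i, mul_zero]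
  set c : K := (u i : B → K) o with hc
  have hcp : c ^ p = c := hfix i o
  have hval : ∀ b, ∃ n : ℤ, (n : K) = c⁻¹ * (u i : B → K) b := by
    intro b
    rw [← mem_bot_iff_intCast p K, Subfield.mem_bot_iff_pow_eq_self K p, mul_pow, inv_pow, hcp, hfix]
  choose n hn using hval
  let w : B → ℤ := fun b => if b = o then 1 else n b
  have hw : ∀ b, ((w b : ℤ) : K) = c⁻¹ * (u i : B → K) b := by
    intro b
    by_cases hb : b = o
    · subst hb
      show (((if b = b then 1 else n b : ℤ)) : K) = _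
      rw [if_pos rfl, Int.cast_one, ← hc, inv_mul_cancel₀ hi]
    · show (((if b = o then 1 else n b : ℤ)) : K) = _
      rw [if_neg hb, hn]
  refine ⟨w, if_pos rfl, ?_, ?_⟩
  · have h1 : (fun b => ((w b : ℤ) : K)) = c⁻¹ • (u i : B → K) := by
      funext b
      rw [hw, Pi.smul_apply, smul_eq_mul]
    rw [h1]
    exact U.smul_mem _ (u i).2
  · -- the zeros
    have h1 : ∀ j, j ≠ i → ((w (a j) : ℤ) : K) = 0 := by
      intro j hj
      rw [hw, hua, Pi.single_eq_of_ne hj, mul_zero]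
    have h2 : ∀ j, j ≠ i → a j ≠ o := by
      intro j hj h3
      apply hi
      rw [hc, ← h3, hua, Pi.single_eq_of_ne hj]
    -- injection of `I` into the complement
    rw [← hI, Nat.card_eq_fintype_card]
    let f : I → {b : B // ¬ (b ≠ o ∧ ((w b : ℤ) : K) ≠ 0)} := fun j =>
      if h : j = i then ⟨o, fun h' => h'.1 rfl⟩ else ⟨a j, fun h' => h'.2 (h1 j h)⟩
    have hf : Function.Injective f := by
      intro j k hjk
      by_cases hj : j = i
      · by_cases hk : k = i
        · rw [hj, hk]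
        · exfalso
          have h5 : ((f j : {b : B // ¬ (b ≠ o ∧ ((w b : ℤ) : K) ≠ 0)}) : B) = f k := congrArg _ hjk
          simp only [f, dif_pos hj, dif_neg hk] at h5
          exact h2 k hk h5.symm
      · by_cases hk : k = i
        · exfalso
          have h5 : ((f j : {b : B // ¬ (b ≠ o ∧ ((w b : ℤ) : K) ≠ 0)}) : B) = f k := congrArg _ hjk
          simp only [f, dif_neg hj, dif_pos hk] at h5
          exact h2 j hj h5
        · have h5 : ((f j : {b : B // ¬ (b ≠ o ∧ ((w b : ℤ) : K) ≠ 0)}) : B) = f k := congrArg _ hjk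
          simp only [f, dif_neg hj, dif_neg hk] at h5
          exact ha h5
    have h6 := Fintype.card_le_of_injective f hf
    have h7 := Fintype.card_subtype_compl (fun b : B => b ≠ o ∧ ((w b : ℤ) : K) ≠ 0)
    have h8 := Fintype.card_subtype_le (fun b : B => b ≠ o ∧ ((w b : ℤ) : K) ≠ 0)
    have h9 : Fintype.card {b : B // ¬ (b ≠ o ∧ ((w b : ℤ) : K) ≠ 0)} =
        Fintype.card B - Fintype.card {b : B // b ≠ o ∧ ((w b : ℤ) : K) ≠ 0} := by
      convert h7
    omega

end Cfsg.Agent.H756.LB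
end

-- part: H756/LB/Word
section
/-!
# S4879, box (H), piece (H3): integral words of small support in the code of a `p`-section
-/

set_option autoImplicit false

open Cfsg IsLocalRing ComplexConjugate

namespace Cfsg.Agent.H756.LB

open Cfsg.Agent.H657 Cfsg.Agent.H634.OneP Cfsg.Agent.Blocks.Basic

universe u

variable {G : Type u} [Group G] [Finite G] {p : ℕ} [hp : Fact p.Prime] {M : Ideal AlgInt}
  {V : ValuationSubring ℂ}

/-- Block orthogonality modulo `V` between the section of `x` and an arbitrary `p`-regular element. -/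
theorem ortho_all (hM : IsPModular p M) (hV : Above M V) {x : G} (hx : ∃ k : ℕ, orderOf x = p ^ k)
    (hx1 : x ≠ 1) (s : Subgroup.centralizer ({x} : Set G)) (g : G) (hs : ¬ p ∣ orderOf s)
    (hg : ¬ p ∣ orderOf g) :
    ∑ᶠ χ ∈ principalBlock M G, rd V (χ : G → ℂ) s * rd V (χ : G → ℂ) g = 0 := by
  classical
  have : Finite (IrrCharacter G) := Characters.Core.finite_irr
  have := Fintype.ofFinite (IrrCharacter G)
  have hc : Commute x (s : G) := (Subgroup.mem_centralizer_singleton_iff.1 s.2).symm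
  have h1 : p ∣ orderOf (x * s)⁻¹ := by
    rw [orderOf_inv]
    obtain ⟨k, hk⟩ := hx
    have hk0 : k ≠ 0 := by
      rintro rfl
      exact hx1 (orderOf_eq_one_iff.1 (by rw [hk, pow_zero]))
    have hcop : Nat.Coprime (orderOf x) (orderOf (s : G)) := by
      rw [hk, Subgroup.orderOf_coe]
      exact Nat.Coprime.pow_left _ ((Nat.Prime.coprime_iff_not_dvd hp.out).2 hs)
    rw [hc.orderOf_mul_eq_mul_orderOf_of_coprime hcop, hk]
    exact (dvd_pow_self p hk0).mul_right _
  have h2 := Cfsg.Agent.S0907.result p M hM (principalBlock M G)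
    Blocks.PrincipalSection.isPBlock_principalBlock g (x * s)⁻¹ hg h1
  have ha : ∀ (χ : IrrCharacter G) (g : G), ∃ v : V, (χ : G → ℂ) g = v := by
    intro χ g
    obtain ⟨d, μ, h⟩ := H352.OneP.exists_lift hV χ g
    exact ⟨_, by rw [← h 1, pow_one]⟩
  choose a ha using ha
  have h3 : ∀ χ : IrrCharacter G, (χ : G → ℂ) g * conj ((χ : G → ℂ) (x * s)⁻¹) =
      ((a χ g * a χ (x * s) : V) : ℂ) := by
    intro χ
    rw [Characters.Core.isCharacter_apply_inv (Characters.Core.isIrr_isCharacter χ.2), Complex.conj_conj, ha, ha]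
    rfl
  simp only [h3] at h2
  rw [finsum_mem_eq_toFinset_sum] at h2 ⊢
  have h4 : (∑ χ ∈ (principalBlock M G).toFinset, a χ g * a χ (x * s) : V) = 0 := by
    apply Subtype.ext
    push_cast
    push_cast at h2
    exact h2
  have h5 := congrArg (residue V) h4
  rw [map_sum, map_zero] at h5
  rw [← h5]
  refine Finset.sum_congr rfl fun χ _ => ?_
  rw [map_mul, ← H352.OneP.rd_eq (ha χ g), ← H352.OneP.rd_eq (ha χ (x * s)),
    H352.OneP.rd_section hM hV χ hc hx, mul_comm]

/-- **(H3).** -/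
theorem exists_word (hM : IsPModular p M) (hV : Above M V) {x : G} (hx : ∃ k : ℕ, orderOf x = p ^ k) (hx1 : x ≠ 1)
    (hst : ∀ ψ ∈ principalBlock M (Subgroup.centralizer ({x} : Set G)),
      ∀ s s' : Subgroup.centralizer ({x} : Set G), ¬ p ∣ orderOf s → IsConj (s : G) (s' : G) →
        rd V (ψ : Subgroup.centralizer ({x} : Set G) → ℂ) s' =
          rd V (ψ : Subgroup.centralizer ({x} : Set G) → ℂ) s) (e : ℕ)
    (he : e ≤ blockRank p (principalBlock M (Subgroup.centralizer ({x} : Set G))))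
    [Fintype (IrrCharacter G)] :
    ∃ w : IrrCharacter G → ℤ, (∀ χ, χ ∉ principalBlock M G → w χ = 0) ∧
      w (⟨fun _ => 1, isIrrCharacter_one⟩ : IrrCharacter G) = 1 ∧
      Nat.card {χ : IrrCharacter G // χ ≠ (⟨fun _ => 1, isIrrCharacter_one⟩ : IrrCharacter G) ∧
        ¬ (p : ℤ) ∣ w χ} + e ≤ Nat.card (principalBlock M G) ∧
      (p : ℤ) ∣ ∑ χ, w χ ^ 2 ∧
      ∀ g : G, ¬ p ∣ orderOf g → ∑ χ, (w χ : ResidueField V) * rd V (χ : G → ℂ) g = 0 := by
  classical
  have : CharP (ResidueField V) p := hV.charP hM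
  have := Fintype.ofFinite (principalBlock M G)
  have := Fintype.ofFinite {s : Subgroup.centralizer ({x} : Set G) // ¬ p ∣ orderOf s}
  set one : IrrCharacter G := ⟨fun _ => 1, isIrrCharacter_one⟩ with hone
  have hprime : M.IsPrime := hM.2.1.isPrime
  have hmem : one ∈ principalBlock M G := Blocks.PrincipalSection.one_mem_principalBlock
  let A : Matrix {s : Subgroup.centralizer ({x} : Set G) // ¬ p ∣ orderOf s} (principalBlock M G)
    (ResidueField V) := fun s χ => rd V ((χ : IrrCharacter G) : G → ℂ) ((s : Subgroup.centralizer ({x} : Set G)) : G)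
  have hsum : ∀ F : IrrCharacter G → ResidueField V,
      ∑ χ : principalBlock M G, F χ = ∑ᶠ χ ∈ principalBlock M G, F χ := by
    intro F
    rw [finsum_mem_eq_finite_toFinset_sum _ (Set.toFinite _)]
    exact (Finset.sum_subtype _ (fun χ => Set.Finite.mem_toFinset _) _).symm
  have hcard : Fintype.card (principalBlock M G) = Nat.card (principalBlock M G) :=
    Nat.card_eq_fintype_card.symm
  set U := Submodule.span (ResidueField V) (Set.range A.row) with hU
  -- orthogonality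
  have hort : ∀ v ∈ U, ∀ g : G, ¬ p ∣ orderOf g →
      ∑ χ : principalBlock M G, v χ * rd V ((χ : IrrCharacter G) : G → ℂ) g = 0 := by
    intro v hv g hg
    induction hv using Submodule.span_induction with
    | mem v hv =>
      obtain ⟨s, rfl⟩ := hv
      have h1 := ortho_all hM hV hx hx1 s.1 g s.2 hg
      rw [← hsum fun χ => rd V (χ : G → ℂ) ((s.1 : Subgroup.centralizer ({x} : Set G)) : G) *
        rd V (χ : G → ℂ) g] at h1
      exact h1
    | zero => simp only [_root_.Pi.zero_apply, _root_.MulZeroClass.zero_mul, _root_.Finset.sum_const_zero]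
    | add v v' _ _ h h' =>
      simp only [Pi.add_apply, add_mul, Finset.sum_add_distrib, h, h', add_zero]
    | smul c v _ h =>
      have : ∀ χ : principalBlock M G, (c • v) χ * rd V ((χ : IrrCharacter G) : G → ℂ) g =
          c * (v χ * rd V ((χ : IrrCharacter G) : G → ℂ) g) := fun χ => by
        rw [Pi.smul_apply, smul_eq_mul]; ring
      rw [Finset.sum_congr rfl fun b _ => this b, ← Finset.mul_sum, h, mul_zero]
  have hiso : ∀ v ∈ U, ∀ w ∈ U, ∑ χ : principalBlock M G, v χ * w χ = 0 := by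
    intro v hv w hw
    induction hw using Submodule.span_induction with
    | mem w hw =>
      obtain ⟨s, rfl⟩ := hw
      have hs : ¬ p ∣ orderOf ((s.1 : Subgroup.centralizer ({x} : Set G)) : G) := by
        rw [Subgroup.orderOf_coe]; exact s.2
      exact hort v hv _ hs
    | zero => simp only [_root_.Pi.zero_apply, _root_.MulZeroClass.mul_zero, _root_.Finset.sum_const_zero]
    | add w w' _ _ h h' =>
      simp only [Pi.add_apply, mul_add, Finset.sum_add_distrib, h, h', add_zero]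
    | smul c w _ h =>
      have : ∀ χ : principalBlock M G, v χ * (c • w) χ = c * (v χ * w χ) := fun χ => by
        rw [Pi.smul_apply, smul_eq_mul]; ring
      rw [Finset.sum_congr rfl fun b _ => this b, ← Finset.mul_sum, h, mul_zero]
  -- Frobenius
  have hfrob : ∀ v ∈ U, (fun b => v b ^ p) ∈ U := by
    intro v hv
    induction hv using Submodule.span_induction with
    | mem v hv =>
      obtain ⟨s, rfl⟩ := hv
      refine Submodule.subset_span ⟨⟨s.1 ^ p, ?_⟩, ?_⟩
      · intro h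
        exact s.2 (h.trans (orderOf_pow_dvd p))
      · funext χ
        show rd V ((χ : IrrCharacter G) : G → ℂ) ((s.1 ^ p : Subgroup.centralizer ({x} : Set G)) : G) =
          rd V ((χ : IrrCharacter G) : G → ℂ) ((s.1 : Subgroup.centralizer ({x} : Set G)) : G) ^ p
        rw [H352.OneP.frob_mod hM hV, Subgroup.coe_pow]
    | zero =>
      have h0 : (fun b => (0 : principalBlock M G → ResidueField V) b ^ p) = 0 := by
        funext b
        simp [hp.out.ne_zero]
      rw [h0]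
      exact Submodule.zero_mem _
    | add v w _ _ h h' =>
      have h0 : (fun b => (v + w) b ^ p) = (fun b => v b ^ p) + fun b => w b ^ p := by
        funext b
        exact add_pow_char _ _ p
      rw [h0]
      exact Submodule.add_mem _ h h'
    | smul c v _ h =>
      have h0 : (fun b => (c • v) b ^ p) = c ^ p • fun b => v b ^ p := by
        funext b
        rw [Pi.smul_apply, Pi.smul_apply, smul_eq_mul, smul_eq_mul, mul_pow]
      rw [h0]
      exact Submodule.smul_mem _ _ h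
  -- the dimension
  have hdim : e ≤ Module.finrank (ResidueField V) U := by
    rw [hU, ← Matrix.rank_eq_finrank_span_row, Matrix.rank_eq_finrank_span_cols]
    refine he.trans ((H973.RankMod.rank_mod hM hV).trans (Submodule.finrank_mono ?_))
    rw [Submodule.span_le]
    rintro _ ⟨ψ, hψ, rfl⟩
    obtain ⟨a, ha⟩ := _root_.Cfsg.Agent.H634.OneP.exists_lift hM hV hx hψ (hst ψ hψ)
    have h1 : (fun s : {s : Subgroup.centralizer ({x} : Set G) // ¬ p ∣ orderOf s} =>
        rd V (ψ : Subgroup.centralizer ({x} : Set G) → ℂ) s) = ∑ χ : principalBlock M G, a χ • A.col χ := by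
      funext s
      rw [ha s s.2, Finset.sum_apply, ← hsum fun χ => a χ * rd V (χ : G → ℂ) ((s.1 : Subgroup.centralizer ({x} : Set G)) : G)]
      rfl
    show (fun s : {s : Subgroup.centralizer ({x} : Set G) // ¬ p ∣ orderOf s} =>
        rd V (ψ : Subgroup.centralizer ({x} : Set G) → ℂ) s) ∈ _
    rw [h1]
    exact Submodule.sum_mem _ fun χ _ => Submodule.smul_mem _ _ (Submodule.subset_span ⟨χ, rfl⟩)
  -- the coordinate of the trivial character
  have hnz : ∃ v ∈ U, v ⟨one, hmem⟩ ≠ 0 := by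
    have h1 : ¬ p ∣ orderOf (1 : Subgroup.centralizer ({x} : Set G)) := by
      rw [orderOf_one]
      exact hp.out.one_lt.ne' ∘ Nat.dvd_one.1
    refine ⟨_, Submodule.subset_span ⟨⟨1, h1⟩, rfl⟩, ?_⟩
    show rd V ((one : IrrCharacter G) : G → ℂ) _ ≠ 0
    have h2 : ((one : IrrCharacter G) : G → ℂ)
        ((1 : Subgroup.centralizer ({x} : Set G)) : G) = ((1 : V) : ℂ) := by
      rw [hone]; rfl
    rw [H352.OneP.rd_eq h2, map_one]
    exact one_ne_zero
  obtain ⟨w, hw1, hwU, hwc⟩ := exists_small (p := p) U hfrob ⟨one, hmem⟩ hnz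
  let W : IrrCharacter G → ℤ := fun χ => if h : χ ∈ principalBlock M G then w ⟨χ, h⟩ else 0
  have hW : ∀ χ : principalBlock M G, W χ = w χ := fun χ => dif_pos χ.2
  have hW0 : ∀ χ, χ ∉ principalBlock M G → W χ = 0 := fun χ h => dif_neg h
  have hint : ∀ n : ℤ, ((n : ℤ) : ResidueField V) = 0 ↔ (p : ℤ) ∣ n := fun n =>
    CharP.intCast_eq_zero_iff (ResidueField V) p n
  have hsub : ∀ F : IrrCharacter G → ResidueField V, (∀ χ, χ ∉ principalBlock M G → F χ = 0) →
      ∑ χ, F χ = ∑ χ : principalBlock M G, F χ := by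
    intro F hF
    rw [hsum, finsum_mem_ite]
    refine Finset.sum_congr rfl fun χ _ => ?_
    split_ifs with h
    · rfl
    · exact hF χ h
  refine ⟨W, hW0, ?_, ?_, ?_, ?_⟩
  · rw [show W one = w ⟨one, hmem⟩ from dif_pos hmem, hw1]
  · -- the count
    rw [← hcard]
    refine le_trans (Nat.add_le_add ?_ hdim) hwc
    refine Nat.card_le_card_of_injective (fun χ : {χ : IrrCharacter G // χ ≠ one ∧ ¬ (p : ℤ) ∣ W χ} =>
      (⟨⟨χ.1, ?_⟩, ?_, ?_⟩ : {b : principalBlock M G // b ≠ ⟨one, hmem⟩ ∧ ((w b : ℤ) : ResidueField V) ≠ 0})) ?_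
    · by_contra h
      exact χ.2.2 (by rw [hW0 _ h]; exact dvd_zero _)
    · intro h
      exact χ.2.1 (congrArg Subtype.val h)
    · intro h
      rw [hint] at h
      apply χ.2.2
      have h1 : χ.1 ∈ principalBlock M G := by
        by_contra h
        exact χ.2.2 (by rw [hW0 _ h]; exact dvd_zero _)
      rw [show W χ.1 = w ⟨χ.1, h1⟩ from dif_pos h1]
      exact h
    · intro χ χ' h
      have h1 := congrArg (fun z => ((z.1 : principalBlock M G) : IrrCharacter G)) h
      exact Subtype.ext h1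
  · -- the square
    rw [← hint]
    push_cast
    rw [hsub (fun χ => ((W χ : ℤ) : ResidueField V) ^ 2) (fun χ h => by rw [hW0 χ h]; simp)]
    rw [← hiso _ hwU _ hwU]
    refine Finset.sum_congr rfl fun χ _ => ?_
    rw [hW, sq]
  · intro g hg
    rw [hsub (fun χ => ((W χ : ℤ) : ResidueField V) * rd V (χ : G → ℂ) g)
      (fun χ h => by rw [hW0 χ h]; simp)]
    rw [← hort _ hwU g hg]
    refine Finset.sum_congr rfl fun χ _ => ?_
    rw [hW]

end Cfsg.Agent.H756.LB
end

-- part: H261/LB/Const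
section
/-!
# S4879 (H2): a generalized character with values in `{0, p}` only, if all `p`-elements `≠ 1` are conjugate and `|P| = p ^ 2`

* `gen v g = ∑ v(χ) χ(g)`; `gen_pow_congr` : `gen v g ^ l = gen v (g ^ l) mod l`;
* `gen_pow` : values in `{0, p}` are constant on `g ^ m`, `m` prime to `p`;
* `false_of_vals` : then `p` divides `v(1_G)`.
-/

set_option autoImplicit false

open Cfsg

namespace Cfsg.Agent.H261.LB

open Cfsg.Agent.J3Type.CharTools Cfsg.Agent.Blocks.Basic

universe u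

variable {G : Type u} [Group G] [Finite G] [Fintype (IrrCharacter G)]

/-- the generalized character with coefficients `v` -/
noncomputable def gen (v : IrrCharacter G → ℤ) (g : G) : ℂ := ∑ χ, (v χ : ℂ) * (χ : G → ℂ) g

theorem gen_pow_congr (v : IrrCharacter G → ℤ) (g : G) {l : ℕ} (hl : l.Prime) :
    ∃ β : ℂ, IsIntegral ℤ β ∧ gen v g ^ l = gen v (g ^ l) + l * β := by
  have hint : ∀ (χ : IrrCharacter G) (g : G), IsIntegral ℤ ((χ : G → ℂ) g) := fun χ g =>
    Characters.GaloisBasic.isIntegral_apply (irr_isCharacter χ.2) g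
  obtain ⟨β, hβ, e⟩ := sum_pow_prime Finset.univ (fun χ : IrrCharacter G => (v χ : ℂ) * (χ : G → ℂ) g)
    (fun χ => (isIntegral_int _).mul (hint χ g)) hl
  have h : ∀ χ : IrrCharacter G, ∃ γ : ℂ, IsIntegral ℤ γ ∧
      ((v χ : ℂ) * (χ : G → ℂ) g) ^ l = (v χ : ℂ) * (χ : G → ℂ) (g ^ l) + l * γ := by
    intro χ
    obtain ⟨γ, hγ, e1⟩ := pow_congr (irr_isCharacter χ.2) g hl
    obtain ⟨k, hk⟩ := int_pow_congr (v χ) hl
    have hk' : (v χ : ℂ) ^ l = v χ + l * k := by
      have : ((v χ ^ l - v χ : ℤ) : ℂ) = ((l * k : ℤ) : ℂ) := by rw [hk]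
      push_cast at this
      rw [← this]
      ring
    refine ⟨v χ * γ + k * ((χ : G → ℂ) (g ^ l)) + l * k * γ, ?_, ?_⟩
    · exact (((isIntegral_int _).mul hγ).add ((isIntegral_int _).mul (hint χ _))).add
        (((isIntegral_nat _).mul (isIntegral_int _)).mul hγ)
    · rw [mul_pow, e1, hk']
      ring
  choose γ hγ e' using h
  refine ⟨∑ χ, γ χ + β, (IsIntegral.sum _ fun χ _ => hγ χ).add hβ, ?_⟩
  unfold gen
  rw [e, Finset.sum_congr rfl fun χ _ => e' χ, Finset.sum_add_distrib, ← Finset.mul_sum]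
  ring

omit [Finite G] in
theorem gen_conj (v : IrrCharacter G → ℤ) {g g' : G} (h : IsConj g g') : gen v g = gen v g' :=
  Finset.sum_congr rfl fun χ _ => by rw [class_eq (irr_isCharacter χ.2) h]

variable {p : ℕ} [hp : Fact p.Prime]

theorem gen_prime {v : IrrCharacter G → ℤ} (h : ∀ g : G, gen v g = 0 ∨ gen v g = p) (g : G) {l : ℕ} (hl : l.Prime)
    (hlp : l ≠ p) : gen v (g ^ l) = gen v g := by
  obtain ⟨β, hβ, e⟩ := gen_pow_congr v g hl
  rcases h g with h1 | h1 <;> rcases h (g ^ l) with h2 | h2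
  · rw [h1, h2]
  · exfalso
    rw [h1, h2, zero_pow hl.ne_zero] at e
    have h3 : (((p : ℕ) : ℤ) : ℂ) = l * (-β) := by
      push_cast
      rw [mul_neg, eq_neg_iff_add_eq_zero]
      exact e.symm
    have h4 := dvd_of_integral hl.ne_zero hβ.neg h3
    exact hlp ((Nat.prime_dvd_prime_iff_eq hl hp.out).1 (by exact_mod_cast h4))
  · exfalso
    rw [h1, h2, zero_add] at e
    have h3 : (((p ^ l : ℕ) : ℤ) : ℂ) = l * β := by
      push_cast
      exact e
    have h4 := dvd_of_integral hl.ne_zero hβ h3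
    exact hlp ((Nat.prime_dvd_prime_iff_eq hl hp.out).1 (hl.dvd_of_dvd_pow (by exact_mod_cast h4)))
  · rw [h1, h2]

theorem gen_pow {v : IrrCharacter G → ℤ} (h : ∀ g : G, gen v g = 0 ∨ gen v g = p) :
    ∀ (m : ℕ) (g : G), m ≠ 0 → ¬ p ∣ m → gen v (g ^ m) = gen v g := by
  intro m
  induction m using Nat.strong_induction_on with
  | _ m ih =>
    intro g hm hpm
    by_cases h1 : m = 1
    · rw [h1, pow_one]
    have hl := Nat.minFac_prime h1
    obtain ⟨k, hk⟩ := Nat.minFac_dvd m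
    have hk0 : k ≠ 0 := by
      rintro rfl
      rw [mul_zero] at hk
      exact hm hk
    have hlt : k < m := by
      conv_rhs => rw [hk]
      have := hl.two_le
      have := Nat.pos_of_ne_zero hk0
      nlinarith
    have hlp : m.minFac ≠ p := by
      intro h2
      exact hpm (h2 ▸ Nat.minFac_dvd m)
    have hpk : ¬ p ∣ k := fun h2 => hpm (by
      rw [hk]
      exact Dvd.dvd.mul_left h2 _)
    have h2 : g ^ m = (g ^ m.minFac) ^ k := by
      rw [← pow_mul, ← hk]
    rw [h2, ih k hlt _ hk0 hpk, gen_prime h g hl hlp]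

/-- **(H2)** -/
theorem false_of_vals (P : Sylow p G) (hP : Nat.card P = p ^ 2)
    (hconj : ∀ x y : G, x ≠ 1 → y ≠ 1 → (∃ k : ℕ, orderOf x = p ^ k) → (∃ k : ℕ, orderOf y = p ^ k) → IsConj x y)
    (v : IrrCharacter G → ℤ) (hv : ¬ (p : ℤ) ∣ v (⟨fun _ => 1, isIrrCharacter_one⟩ : IrrCharacter G))
    (h : ∀ g : G, ∑ χ, (v χ : ℂ) * (χ : G → ℂ) g = 0 ∨ ∑ χ, (v χ : ℂ) * (χ : G → ℂ) g = p) : False := by
  classical
  have := Fintype.ofFinite G
  have h' : ∀ g : G, gen v g = 0 ∨ gen v g = p := h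
  have hp1 := hp.out.one_lt
  have hpos : 0 < p := hp.out.pos
  -- a `p`-element
  have hne : (P : Subgroup G) ≠ ⊥ := by
    intro h0
    have h1 : Nat.card P = 1 := by
      rw [h0, Subgroup.card_bot]
    rw [hP] at h1
    nlinarith only [hp1, h1]
  obtain ⟨⟨x, hxP⟩, hx1'⟩ := Subgroup.ne_bot_iff_exists_ne_one.1 hne
  have hx1 : x ≠ 1 := fun h0 => hx1' (Subtype.ext h0)
  have hPp : ∀ y ∈ (P : Subgroup G), ∃ k : ℕ, orderOf y = p ^ k := by
    intro y hy
    obtain ⟨k, hk⟩ := (IsPGroup.iff_orderOf.mp P.2) ⟨y, hy⟩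
    exact ⟨k, by rw [← hk, ← Subgroup.orderOf_coe]⟩
  have hval : ∀ y ∈ (P : Subgroup G), y ≠ 1 → gen v y = gen v x := fun y hy hy1 =>
    gen_conj v (hconj y x hy1 hx1 (hPp y hy) (hPp x hxP))
  -- the sum over `P`
  have hsum : ∃ n : ℤ, gen v 1 + ((p : ℂ) ^ 2 - 1) * gen v x = (p : ℂ) ^ 2 * n := by
    have h1 : ∀ χ : IrrCharacter G, ∃ n : ℕ, ∑ y : (P : Subgroup G), (χ : G → ℂ) y = (Nat.card (P : Subgroup G) : ℂ) * n :=
      fun χ => S4665.sum_subgroup _ χ
    choose n hn using h1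
    refine ⟨∑ χ, v χ * n χ, ?_⟩
    have h2 : ∑ y : (P : Subgroup G), gen v (y : G) = (p : ℂ) ^ 2 * ((∑ χ, v χ * n χ : ℤ) : ℂ) := by
      unfold gen
      rw [Finset.sum_comm]
      push_cast
      rw [Finset.mul_sum]
      refine Finset.sum_congr rfl fun χ _ => ?_
      rw [← Finset.mul_sum, hn]
      have h3 : (Nat.card (P : Subgroup G) : ℂ) = (p : ℂ) ^ 2 := by
        have : Nat.card (P : Subgroup G) = p ^ 2 := hP
        rw [this]
        push_cast
        rfl
      rw [h3]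
      ring
    have h4 : ∀ y ∈ (Finset.univ : Finset (P : Subgroup G)).erase 1, gen v (y : G) = gen v x := fun y hy =>
      hval _ y.2 fun h0 => (Finset.mem_erase.1 hy).1 (Subtype.ext h0)
    rw [← h2, ← Finset.add_sum_erase Finset.univ _ (Finset.mem_univ (1 : (P : Subgroup G))),
      Finset.sum_congr rfl h4, Finset.sum_const,
      Finset.card_erase_of_mem (Finset.mem_univ _), Finset.card_univ, ← Nat.card_eq_fintype_card]
    have h3 : Nat.card (P : Subgroup G) = p ^ 2 := hP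
    rw [h3, nsmul_eq_mul, Nat.cast_sub (Nat.one_le_pow _ _ hpos)]
    push_cast
    rfl
  -- `gen v` is constant
  have h1x : gen v 1 = gen v x := by
    obtain ⟨n, hn⟩ := hsum
    rcases h' 1 with h1 | h1 <;> rcases h' x with h2 | h2
    · rw [h1, h2]
    · exfalso
      rw [h1, h2, zero_add] at hn
      have h3 : ((p : ℤ) ^ 2 - 1) * p = (p : ℤ) ^ 2 * n := by exact_mod_cast hn
      have hp0 : (p : ℤ) ≠ 0 := by exact_mod_cast hp.out.ne_zero
      have h4 : ((p : ℤ) ^ 2 - 1) = p * n := by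
        refine mul_right_cancel₀ hp0 ?_
        rw [h3]
        ring
      have h5 : (p : ℤ) ∣ 1 := ⟨p - n, by linear_combination (-1 : ℤ) * h4⟩
      have h6 : p ∣ 1 := by exact_mod_cast h5
      exact hp1.ne' (Nat.dvd_one.1 h6)
    · exfalso
      rw [h1, h2, mul_zero, add_zero] at hn
      have h3 : (p : ℤ) = (p : ℤ) ^ 2 * n := by exact_mod_cast hn
      have hp0 : (p : ℤ) ≠ 0 := by exact_mod_cast hp.out.ne_zero
      have h4 : (1 : ℤ) = p * n := by
        refine mul_right_cancel₀ hp0 ?_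
        rw [one_mul]
        conv_lhs => rw [h3]
        ring
      have h6 : p ∣ 1 := by
        have : (p : ℤ) ∣ 1 := ⟨n, h4⟩
        exact_mod_cast this
      exact hp1.ne' (Nat.dvd_one.1 h6)
    · rw [h1, h2]
  have hconst : ∀ g : G, gen v g = gen v 1 := by
    intro g
    obtain ⟨a, m, hm, hgm⟩ := Nat.exists_eq_pow_mul_and_not_dvd (orderOf_pos g).ne' p hp.out.ne_one
    have hm0 : m ≠ 0 := by
      rintro rfl
      exact hm (dvd_zero p)
    rw [← gen_pow h' m g hm0 hm]
    by_cases h1 : g ^ m = 1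
    · rw [h1]
    · rw [h1x]
      refine gen_conj v (hconj _ x h1 hx1 ⟨a, ?_⟩ (hPp x hxP))
      rw [orderOf_pow_of_dvd hm0 (hgm ▸ dvd_mul_left m _), hgm, Nat.mul_div_cancel _ (Nat.pos_of_ne_zero hm0)]
  -- the coefficient of the trivial character
  have h1 : ∑ g : G, gen v g = (Nat.card G : ℂ) * v (⟨fun _ => 1, isIrrCharacter_one⟩ : IrrCharacter G) := by
    unfold gen
    rw [Finset.sum_comm, Finset.sum_eq_single (⟨fun _ => 1, isIrrCharacter_one⟩ : IrrCharacter G)]
    · rw [← Finset.mul_sum, Finset.sum_const, Finset.card_univ, nsmul_eq_mul, mul_one, ← Nat.card_eq_fintype_card,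
        mul_comm]
    · intro χ _ hχ
      have h2 := Characters.Core.classInner_irr_ne χ.2 (isIrrCharacter_one (G := G)) (fun h0 => hχ (Subtype.ext h0))
      rw [Characters.Core.classInner_def] at h2
      have h3 : ∑ g : G, (χ : G → ℂ) g = 0 := by
        have h4 := (mul_eq_zero.1 h2).resolve_left (inv_ne_zero Characters.Core.card_ne_zero_complex)
        rw [← h4]
        refine Finset.sum_congr rfl fun g _ => ?_
        simp
      rw [← Finset.mul_sum, h3, mul_zero]
    · intro h0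
      exact absurd (Finset.mem_univ _) h0
  rw [Finset.sum_congr rfl fun g _ => hconst g, Finset.sum_const, Finset.card_univ, nsmul_eq_mul,
    ← Nat.card_eq_fintype_card] at h1
  have h2 := mul_left_cancel₀ Characters.Core.card_ne_zero_complex h1
  apply hv
  rcases h' 1 with h3 | h3
  · rw [h3] at h2
    have h4 : (0 : ℤ) = v (⟨fun _ => 1, isIrrCharacter_one⟩ : IrrCharacter G) := by exact_mod_cast h2
    rw [← h4]
    exact dvd_zero _
  · rw [h3] at h2
    have h4 : (p : ℤ) = v (⟨fun _ => 1, isIrrCharacter_one⟩ : IrrCharacter G) := by exact_mod_cast h2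
    rw [← h4]

end Cfsg.Agent.H261.LB
end

-- part: H696/LB/Five
section
/-!
# S4879, box (H): `p = 5`, `|P| = 25`, one class of `5`-elements: `5 ≤ l(B₀)` (helper696)
-/

set_option autoImplicit false
set_option linter.unusedSectionVars false

open Cfsg IsLocalRing

namespace Cfsg.Agent.H696.LB

open Cfsg.Agent.Characters.Core Cfsg.Agent.Blocks Cfsg.Agent.Blocks.Basic Cfsg.Agent.Blocks.Local
open Cfsg.Agent.H657 Cfsg.Agent.H634.OneP

universe u

variable {G : Type u} [Group G] [Finite G]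

instance fact_five : Fact (Nat.Prime 5) := ⟨by norm_num⟩

/-- the members of the principal block of `C_G(x)` are `N_G(⟨x⟩)`-invariant -/
theorem triv_five {M : Ideal AlgInt} (hM : IsPModular 5 M) (P : Sylow 5 G) (hP : Nat.card P = 25)
    (hel : ∀ x ∈ (P : Subgroup G), x ^ 5 = 1) {x : G} (hx : x ∈ (P : Subgroup G)) (hx1 : x ≠ 1) :
    ∀ ψ ∈ principalBlock M (Subgroup.centralizer ({x} : Set G)),
      ∀ n ∈ Subgroup.normalizer ((Subgroup.zpowers x : Subgroup G) : Set G),
      ∀ s s' : Subgroup.centralizer ({x} : Set G), ¬ 5 ∣ orderOf s → (s' : G) = n * s * n⁻¹ →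
        (ψ : Subgroup.centralizer ({x} : Set G) → ℂ) s' =
          (ψ : Subgroup.centralizer ({x} : Set G) → ℂ) s := by
  intro ψ hψ n hn s s' hs hss
  have hP' : Nat.card P = 5 ^ 2 := by rw [hP]; norm_num
  have hr := H963.OneP.RankEq.rank_eq hM (by norm_num) P hP' hel hx hx1
  set e₀ := (Subgroup.centralizer ((P : Subgroup G) : Set G)).relIndex
    (Subgroup.normalizer ((P : Subgroup G) : Set G) ⊓ Subgroup.centralizer ({x} : Set G)) with he
  have he0 : e₀ ≠ 0 := by
    rw [he]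
    exact Subgroup.index_ne_zero_of_finite
  rcases Nat.lt_or_ge e₀ 2 with h2 | h2
  · have h1 : e₀ = 1 := by omega
    rw [h1] at hr
    have hs' : ¬ 5 ∣ orderOf s' := by
      have h3 : orderOf s' = orderOf s := by
        rw [← Subgroup.orderOf_coe, ← Subgroup.orderOf_coe s, hss]
        exact orderOf_injective (MulAut.conj n).toMonoidHom (MulAut.conj n).injective _
      rwa [h3]
    rw [const_of_rank_one hM hr hψ hs', const_of_rank_one hM hr hψ hs]
  · exact H426.OneP.triv_of normalTriv hM (by norm_num) P hP' hel hx hx1 (by rw [← he]; omega) hψ hn s s' hs hss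

/-- **`p = 5`, `|P| = 25`.** -/
theorem five_le {M : Ideal AlgInt} (hM : IsPModular 5 M) (P : Sylow 5 G) (hP : Nat.card P = 25)
    (hconj : ∀ x y : G, x ≠ 1 → y ≠ 1 → (∃ k : ℕ, orderOf x = 5 ^ k) → (∃ k : ℕ, orderOf y = 5 ^ k) → IsConj x y) :
    5 ≤ blockRank 5 (principalBlock M G) := by
  classical
  have := finite_irr (G := G)
  have := Fintype.ofFinite (IrrCharacter G)
  have hP' : Nat.card P = 5 ^ 2 := by rw [hP]; norm_num
  obtain ⟨⟨x, hx, hxo⟩, hel⟩ := hel_of P (by rw [hP]; norm_num) hconj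
  have hx1 : x ≠ 1 := by
    rintro rfl
    rw [orderOf_one] at hxo
    omega
  have hxk : ∃ k : ℕ, orderOf x = 5 ^ k := ⟨1, by rw [hxo, pow_one]⟩
  obtain ⟨V, hV⟩ := exists_above hM
  have hch : CharP (ResidueField V) 5 := hV.charP hM
  have htriv := triv_five hM P hP hel hx hx1
  obtain ⟨w, hw0, hw1, hwc, hwd, hwr⟩ := Cfsg.Agent.H756.LB.exists_word hM hV hxk hx1
    (fun ψ hψ s s' hs hc => H417.OneP.stable hM hV P hP' hxo hψ (htriv ψ hψ) s s' hs hc) _ le_rfl
  have hcard := card_eq_of_one hM hconj hx1 hxk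
  -- the multiples of the word
  have key : ∀ t : ℤ, 0 < t → t < 3 → 5 * t < ∑ χ : IrrCharacter G, r5 (t * w χ) ^ 2 := by
    intro t ht0 ht3
    have hr5 : ∀ z : ℤ, (5 : ℤ) ∣ r5 z - z := fun z => by unfold r5; omega
    have hv0 : ∀ χ, χ ∉ principalBlock M G → r5 (t * w χ) = 0 := by
      intro χ hχ
      rw [hw0 χ hχ, mul_zero]
      rfl
    have hcast : ∀ z : ℤ, ((r5 z : ℤ) : ResidueField V) = (z : ResidueField V) := by
      intro z
      rw [← sub_eq_zero, ← Int.cast_sub, CharP.intCast_eq_zero_iff (ResidueField V) 5]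
      exact_mod_cast hr5 z
    have hreg : ∀ g : G, ¬ 5 ∣ orderOf g →
        ∑ χ : IrrCharacter G, ((r5 (t * w χ) : ℤ) : ResidueField V) * rd V (χ : G → ℂ) g = 0 := by
      intro g hg
      have h1 := congrArg (fun z => (t : ResidueField V) * z) (hwr g hg)
      simp only [mul_zero, Finset.mul_sum] at h1
      rw [← h1]
      refine Finset.sum_congr rfl fun χ _ => ?_
      rw [hcast, Int.cast_mul, mul_assoc]
    have hloc := local_all hM hV hconj hxo htriv (fun χ => r5 (t * w χ)) hv0 hreg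
    have hone : r5 (t * w ⟨fun _ => 1, isIrrCharacter_one⟩) = t := by
      rw [hw1, mul_one]
      unfold r5
      omega
    have h1 := Cfsg.Agent.H193.LB.le_sq hM (fun χ => r5 (t * w χ)) (by exact_mod_cast hloc)
    simp only [hone] at h1
    rw [abs_of_pos ht0] at h1
    rcases lt_or_eq_of_le h1 with h2 | h2
    · exact_mod_cast h2
    · exfalso
      have h3 := Cfsg.Agent.H193.LB.vals_of_eq hM (fun χ => r5 (t * w χ)) (by exact_mod_cast hloc)
        (by simp only [hone]; exact h2)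
      refine Cfsg.Agent.H261.LB.false_of_vals P hP' hconj (fun χ => r5 (t * w χ)) ?_ h3
      simp only [hone]
      intro h4
      push_cast at h4
      omega
  have hdvd : ∀ t : ℤ, (5 : ℤ) ∣ ∑ χ : IrrCharacter G, r5 (t * w χ) ^ 2 := by
    intro t
    have h1 : (5 : ℤ) ∣ t ^ 2 * ∑ χ : IrrCharacter G, w χ ^ 2 := Dvd.dvd.mul_left (by exact_mod_cast hwd) _
    have h2 : (5 : ℤ) ∣ ∑ χ : IrrCharacter G, (r5 (t * w χ) ^ 2 - (t * w χ) ^ 2) := by
      refine Finset.dvd_sum fun χ _ => ?_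
      have h3 : (5 : ℤ) ∣ r5 (t * w χ) - t * w χ := by unfold r5; omega
      have h4 : r5 (t * w χ) ^ 2 - (t * w χ) ^ 2 = (r5 (t * w χ) - t * w χ) * (r5 (t * w χ) + t * w χ) := by ring
      rw [h4]
      exact Dvd.dvd.mul_right h3 _
    rw [Finset.sum_sub_distrib] at h2
    have h3 : ∑ χ : IrrCharacter G, (t * w χ) ^ 2 = t ^ 2 * ∑ χ : IrrCharacter G, w χ ^ 2 := by
      rw [Finset.mul_sum]
      exact Finset.sum_congr rfl fun χ _ => by ring
    rw [h3] at h2
    have h4 := dvd_add h2 h1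
    rwa [sub_add_cancel] at h4
  have k1 := key 1 (by norm_num) (by norm_num)
  have k2 := key 2 (by norm_num) (by norm_num)
  have d1 := hdvd 1
  have d2 := hdvd 2
  simp only [one_mul] at k1 d1
  have hfin := count_end w ⟨fun _ => 1, isIrrCharacter_one⟩ hw1 (by omega) (by omega)
  have hwc' : Nat.card {χ : IrrCharacter G // χ ≠ ⟨fun _ => 1, isIrrCharacter_one⟩ ∧ ¬ (5 : ℤ) ∣ w χ} +
      blockRank 5 (principalBlock M (Subgroup.centralizer ({x} : Set G))) ≤ Nat.card (principalBlock M G) := by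
    exact_mod_cast hwc
  omega

end Cfsg.Agent.H696.LB
end

-- part: H243/LB/ThFive
section
/-!
# S4879, the Thompson group and the prime 5 (helper243)

`th_five` : in `Th` there is an element `x` of order 5 whose centralizer has a normal 5-subgroup `Q` of order 125
containing its centralizer in `C(x)`, and `C(x)` has elements of order 2, 3, 4 and 6.
-/

set_option autoImplicit false
set_option linter.unusedSectionVars false

namespace Cfsg.Agent.H243.LB

open Cfsg Subgroup Cfsg.Agent.H49.ThFive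

universe u

section local_part

variable {H : Type u} [Group H] [Finite H] {x y z s : H} {N : Subgroup H} (h : LC x y z s N)
include h

/-- `N = P` -/
theorem N_eq (hH : Nat.card H = 3000) : PP x y z = N := by
  apply Subgroup.eq_of_le_of_card_ge h.PN
  have := h.card_H
  rw [h.toLoc.card_P]
  omega

/-- `C(P) ≤ P` -/
theorem cent_le (hH : Nat.card H = 3000) {g : H} (hgx : g * x = x * g) (hgy : g * y = y * g) : g ∈ PP x y z := by
  have hNn := h.core.normal
  have hN := N_eq h hH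
  -- `g = p c`
  have h1 : g ∈ N ⊔ centralizer ({s} : Set H) := by
    rw [h.core.sup]
    exact mem_top _
  rw [mem_sup_of_normal_left] at h1
  obtain ⟨p, hp, c, hc, hpc⟩ := h1
  rw [← hN] at hp
  have hcs : c * s = s * c := mem_centralizer_singleton_iff.1 hc
  -- `s g s⁻¹` commutes with `x` and `y`
  have hPn := h.P_normal
  have hss : s * s = 1 := h.toSit.ss
  have hs1 : s⁻¹ = s := inv_eq_of_mul_eq_one_left hss
  have key : ∀ w : H, s * w * s⁻¹ = w⁻¹ → g * w = w * g → (s * g * s⁻¹) * w = w * (s * g * s⁻¹) := by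
    intro w hw hgw
    have e1 : s * w⁻¹ * s⁻¹ = w := by
      have : s * w⁻¹ * s⁻¹ = (s * w * s⁻¹)⁻¹ := by group
      rw [this, hw, inv_inv]
    have e2 : g * w⁻¹ = w⁻¹ * g := ((show Commute g w from hgw).inv_right).eq
    calc s * g * s⁻¹ * w = s * g * s⁻¹ * (s * w⁻¹ * s⁻¹) := by rw [e1]
      _ = s * (g * w⁻¹) * s⁻¹ := by group
      _ = s * (w⁻¹ * g) * s⁻¹ := by rw [e2]
      _ = (s * w⁻¹ * s⁻¹) * (s * g * s⁻¹) := by group
      _ = _ := by rw [e1]
  obtain ⟨e, he⟩ : ∃ e : H, e = p * (s * p * s⁻¹)⁻¹ := ⟨_, rfl⟩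
  have heg : e = g * (s * g * s⁻¹)⁻¹ := by
    have e1 : s * g * s⁻¹ = (s * p * s⁻¹) * c := by
      rw [← hpc]
      calc s * (p * c) * s⁻¹ = (s * p * s⁻¹) * (s * c * s⁻¹) := by group
        _ = _ := by rw [← hcs, mul_inv_cancel_right]
    rw [e1, he, ← hpc]
    group
  have hex : ∀ w : H, s * w * s⁻¹ = w⁻¹ → g * w = w * g → Commute e w := by
    intro w hw hgw
    rw [heg]
    exact (show Commute g w from hgw).mul_left (show Commute _ w from key w hw hgw).inv_left
  -- `p ∈ ⟨e⟩ ⟨z⟩`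
  have hp5 : p ^ 5 = 1 := h.exp hp
  have hpe : (e ^ 3)⁻¹ * p ∈ zpowers z := by
    have hZ := h.core.toSit.normalZ
    rw [← QuotientGroup.eq_one_iff]
    obtain ⟨q, hq⟩ : ∃ q : H →* H ⧸ zpowers z, q = QuotientGroup.mk' (zpowers z) := ⟨_, rfl⟩
    have h1 : q (s * p * s⁻¹) = (q p)⁻¹ := by
      have h2 := h.core.quot.1 (q p) ⟨p, h.PN hp, by rw [hq]⟩
      rw [map_mul, map_mul, map_inv]
      rw [← hq] at h2
      exact h2
    have h2 : q p ^ 5 = 1 := by rw [← map_pow, hp5, map_one]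
    have h3 : q ((e ^ 3)⁻¹ * p) = 1 := by
      rw [he, map_mul, map_inv, map_pow, map_mul, map_inv, h1, inv_inv]
      have h4 : ((q p * q p) ^ 3)⁻¹ * q p = (q p ^ 5)⁻¹ := by
        rw [← pow_two, ← pow_mul]
        group
      rw [h4, h2, inv_one]
    rw [hq] at h3
    exact h3
  obtain ⟨k, hk⟩ := mem_zpowers_iff.1 hpe
  have hpw : ∀ w : H, s * w * s⁻¹ = w⁻¹ → g * w = w * g → Commute p w := by
    intro w hw hgw
    have e1 : p = e ^ 3 * z ^ k := by rw [hk]; group
    rw [e1]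
    exact ((hex w hw hgw).pow_left 3).mul_left ((show Commute w z from h.toLoc.zcomm w).symm.zpow_left k)
  have hcw : ∀ w : H, s * w * s⁻¹ = w⁻¹ → g * w = w * g → c * w = w * c := by
    intro w hw hgw
    have e1 : c = p⁻¹ * g := by rw [← hpc]; group
    rw [e1]
    exact (hpw w hw hgw).inv_left.mul_left hgw
  have hcz : c ∈ zpowers z := h.cent_P hcs (hcw x h.sx hgx) (hcw y h.sy hgy)
  rw [← hpc]
  exact mul_mem hp (h.toLoc.ZP hcz)

/-- the elements of order 2, 3, 4, 6 -/
theorem exists_elt : ∀ n ∈ ({2, 3, 4, 6} : Finset ℕ), ∃ t : H, orderOf t = n := by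
  have h120 : Nat.card ↥(centralizer ({s} : Set H)) = 120 := h.orbit.2
  have hos : orderOf s = 2 := h.toSit.os
  have hss : s * s = 1 := h.toSit.ss
  have h2F : Fact (Nat.Prime 2) := ⟨Nat.prime_two⟩
  have h3F : Fact (Nat.Prime 3) := ⟨Nat.prime_three⟩
  obtain ⟨t, ht⟩ := exists_prime_orderOf_dvd_card' (G := ↥(centralizer ({s} : Set H))) 3 (by rw [h120]; norm_num)
  have ht3 : orderOf (t : H) = 3 := by rw [Subgroup.orderOf_coe, ht]
  have hts : Commute (t : H) s := mem_centralizer_singleton_iff.1 t.2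
  intro n hn
  simp only [Finset.mem_insert, Finset.mem_singleton] at hn
  rcases hn with rfl | rfl | rfl | rfl
  · exact ⟨s, hos⟩
  · exact ⟨t, ht3⟩
  · -- a subgroup of order 4
    obtain ⟨K, hK⟩ := Sylow.exists_subgroup_card_pow_prime (G := ↥(centralizer ({s} : Set H))) 2 (n := 2)
      (by rw [h120]; norm_num)
    by_contra hne
    push Not at hne
    have h4 : ∀ u : K, (u : ↥(centralizer ({s} : Set H))) = 1 ∨ (((u : ↥(centralizer ({s} : Set H))) : H)) = s := by
      intro u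
      have h5 : orderOf (((u : ↥(centralizer ({s} : Set H))) : H)) ∣ 2 ^ 2 := by
        rw [Subgroup.orderOf_coe, Subgroup.orderOf_coe, ← hK]
        exact _root_.orderOf_dvd_natCard u
      obtain ⟨m, hm, hm'⟩ := (Nat.dvd_prime_pow Nat.prime_two).1 h5
      interval_cases m
      · left
        rw [pow_zero, orderOf_eq_one_iff] at hm'
        exact Subtype.ext hm'
      · right
        exact h.uniq _ (by rw [hm', pow_one])
          (mem_centralizer_singleton_iff.1 (u : ↥(centralizer ({s} : Set H))).2)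
      · exact absurd hm' (hne _)
    have h6 : Nat.card K ≤ 2 := by
      have h7 : Nat.card K ≤ Nat.card ({1, s} : Set H) := by
        refine Nat.card_le_card_of_injective (fun u : K => (⟨((u : ↥(centralizer ({s} : Set H))) : H), ?_⟩ : ({1, s} : Set H))) ?_
        · rcases h4 u with h5 | h5
          · left
            rw [h5]
            rfl
          · right
            exact h5
        · intro u v huv
          have h8 : ((u : ↥(centralizer ({s} : Set H))) : H) = ((v : ↥(centralizer ({s} : Set H))) : H) :=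
            congrArg (fun w : ({1, s} : Set H) => (w : H)) huv
          exact Subtype.ext (Subtype.ext h8)
      refine h7.trans ?_
      rw [Nat.card_coe_set_eq]
      exact (Set.ncard_insert_le 1 {s}).trans (by rw [Set.ncard_singleton])
    rw [hK] at h6
    norm_num at h6
  · refine ⟨s * t, ?_⟩
    rw [hts.symm.orderOf_mul_eq_mul_orderOf_of_coprime (by rw [hos, ht3]; norm_num), hos, ht3]

end local_part

section glob

variable {K : Type u} [Group K] [Finite K] {x y z a : K}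

/-- **the centralizer of an element of order 5** -/
theorem dat_five (D : Dat x y z a) :
    orderOf z = 5 ∧ ∃ Q : Subgroup K, Nat.card Q = 125 ∧ IsPGroup 5 Q ∧ Q ≤ centralizer ({z} : Set K) ∧
      (∀ g : K, g * z = z * g → ∀ u ∈ Q, g * u * g⁻¹ ∈ Q) ∧
      (∀ g : K, g * z = z * g → (∀ u ∈ Q, g * u = u * g) → g ∈ Q) ∧
      ∀ n ∈ ({2, 3, 4, 6} : Finset ℕ), ∃ s : K, s * z = z * s ∧ orderOf s = n := by
  obtain ⟨N, hN⟩ := D.loc.exists_LC
  refine ⟨D.oz, PP x y z, D.card_P, D.isP, fun u hu => mem_centralizer_singleton_iff.2 (D.PC hu),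
    fun g hg u hu => D.norm hg hu, ?_, ?_⟩
  · intro g hg hgP
    have h1 := cent_le hN D.card_C (g := ⟨g, mem_centralizer_singleton_iff.2 hg⟩)
      (Subtype.ext (hgP x D.xP)) (Subtype.ext (hgP y D.yP))
    rw [← D.map_PP]
    exact ⟨_, h1, rfl⟩
  · intro n hn
    obtain ⟨t, ht⟩ := exists_elt hN n hn
    exact ⟨t, mem_centralizer_singleton_iff.1 t.2, by rw [Subgroup.orderOf_coe, ht]⟩

end glob

/-- **the Thompson group and the prime 5** -/
theorem th_five {T : Type u} [Group T] [Finite T] (h : Spor.IsoTh T) :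
    ∃ x : T, orderOf x = 5 ∧ ∃ Q : Subgroup T, Nat.card Q = 125 ∧ IsPGroup 5 Q ∧ Q ≤ centralizer ({x} : Set T) ∧
      (∀ g : T, g * x = x * g → ∀ u ∈ Q, g * u * g⁻¹ ∈ Q) ∧
      (∀ g : T, g * x = x * g → (∀ u ∈ Q, g * u = u * g) → g ∈ Q) ∧
      ∀ n ∈ ({2, 3, 4, 6} : Finset ℕ), ∃ s : T, s * x = x * s ∧ orderOf s = n := by
  obtain ⟨e⟩ := h
  obtain ⟨hfin, x, y, z, a, D⟩ := exists_dat
  obtain ⟨hz, Q, hQ, hQp, hQC, hn, hc, hs⟩ := dat_five D
  let f : Spor.Th ≃* T := e.symm
  refine ⟨f z, ?_, Q.map f.toMonoidHom, ?_, hQp.map _, ?_, ?_, ?_, ?_⟩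
  · rw [MulEquiv.orderOf_eq, hz]
  · rw [Subgroup.card_map_of_injective f.injective, hQ]
  · rintro _ ⟨u, hu, rfl⟩
    have h1 := mem_centralizer_singleton_iff.1 (hQC hu)
    refine mem_centralizer_singleton_iff.2 ?_
    change f u * f z = f z * f u
    rw [← map_mul, h1, map_mul]
  · intro g hg
    obtain ⟨k, rfl⟩ := f.surjective g
    rintro _ ⟨u, hu, rfl⟩
    refine ⟨k * u * k⁻¹, hn k (f.injective (by rw [map_mul, hg, map_mul])) u hu, ?_⟩
    change f (k * u * k⁻¹) = f k * f u * (f k)⁻¹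
    rw [map_mul, map_mul, map_inv]
  · intro g hg hgQ
    obtain ⟨k, rfl⟩ := f.surjective g
    refine ⟨k, hc k (f.injective (by rw [map_mul, hg, map_mul])) (fun u hu => f.injective ?_), rfl⟩
    have := hgQ (f u) ⟨u, hu, rfl⟩
    rw [map_mul, this, map_mul]
  · intro n hnn
    obtain ⟨s, hsz, hsn⟩ := hs n hnn
    exact ⟨f s, by rw [← map_mul, hsz, map_mul], by rw [MulEquiv.orderOf_eq, hsn]⟩

end Cfsg.Agent.H243.LB
end

-- part: H271/LB/PSolv
section
/-!
# S4879: the `p`-solvable groups (helper271)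

* `concl_of_quot` : the conclusion of S4879 passes from `G ⧸ pPrimeCore p G` to `G`;
* `psolv_core` : the `p`-solvable groups with trivial `p'`-core;
* `psolv` : all `p`-solvable groups.
-/

set_option autoImplicit false

namespace Cfsg.Agent.H271.LB

open Cfsg Subgroup

universe u

/-- The rank of the set of all characters. -/
theorem blockRank_univ {G : Type u} [Group G] [Finite G] (p : ℕ) :
    blockRank p (Set.univ : Set (IrrCharacter G)) = Nat.card (H697.Pk.PReg p G) := by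
  classical
  refine le_antisymm (H970.CycOne.blockRank_univ_le (G := G) p) ?_
  have := Fintype.ofFinite (H697.Pk.PReg p G)
  rw [Nat.card_eq_fintype_card]
  refine H593.IMRank.card_le_blockRank p (fun c : H697.Pk.PReg p G => c.2.choose) (fun c => c.2.choose_spec.2) ?_
  intro c d h
  have h1 := ConjClasses.mk_eq_mk_iff_isConj.2 h
  rw [c.2.choose_spec.1, d.2.choose_spec.1] at h1
  exact Subtype.ext h1

variable {p : ℕ} [hp : Fact p.Prime] {M : Ideal AlgInt}

end Cfsg.Agent.H271.LB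
end

-- part: H243/LB/ThLoc
section
/-!
# S4879, the Thompson group and the prime 5: the principal block of the centralizer (helper243)

* `univ_of_centralizer_le` : a group with a normal `p`-subgroup containing its centralizer has one block;
* `th_loc` : the centralizer `C` of an element of order 5 in `Th`: the rank of its principal block is the number of its
  classes of 5-regular elements, and it has elements of order 1, 2, 3, 4, 6.
-/

set_option autoImplicit false

namespace Cfsg.Agent.H243.LB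

open Cfsg Subgroup

universe u

/-- A group with a normal `p`-subgroup containing its centralizer has one block. -/
theorem univ_of_centralizer_le {p : ℕ} {M : Ideal AlgInt} (hM : IsPModular p M) {C : Type u} [Group C] [Finite C]
    (Q : Subgroup C) [Q.Normal] (hQ : IsPGroup p Q) (hc : ∀ g : C, (∀ u ∈ Q, g * u = u * g) → g ∈ Q) :
    principalBlock M C = Set.univ := by
  rw [Set.eq_univ_iff_forall]
  intro χ
  exact Blocks.UniqueBlock.sameBlock_of_centralizer_le hM Q hQ
    (fun g hg => hc g fun u hu => (mem_centralizer_iff.1 hg u hu).symm)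
    ⟨fun _ => 1, Cfsg.Agent.Blocks.Basic.isIrrCharacter_one⟩ χ

/-- The rank of the principal block. -/
theorem rank_of_centralizer_le {p : ℕ} [Fact p.Prime] {M : Ideal AlgInt} (hM : IsPModular p M) {C : Type u} [Group C]
    [Finite C] (Q : Subgroup C) [Q.Normal] (hQ : IsPGroup p Q) (hc : ∀ g : C, (∀ u ∈ Q, g * u = u * g) → g ∈ Q) :
    blockRank p (principalBlock M C) = Nat.card (H697.Pk.PReg p C) := by
  rw [univ_of_centralizer_le hM Q hQ hc]
  exact H271.LB.blockRank_univ p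

/-- **The centralizer of an element of order 5 of the Thompson group.** -/
theorem th_loc {M : Ideal AlgInt} (hM : IsPModular 5 M) {T : Type u} [Group T] [Finite T] (h : Spor.IsoTh T) :
    ∃ x : T, orderOf x = 5 ∧
      blockRank 5 (principalBlock M ↥(centralizer ({x} : Set T))) =
        Nat.card (H697.Pk.PReg 5 ↥(centralizer ({x} : Set T))) ∧
      ∃ t : Fin 5 → ↥(centralizer ({x} : Set T)), (∀ i, ¬ 5 ∣ orderOf (t i)) ∧
        Function.Injective fun i => orderOf (t i) := by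
  have : Fact (Nat.Prime 5) := ⟨by norm_num⟩
  obtain ⟨x, hx, Q, -, hQp, hQC, hn, hc, hs⟩ := th_five h
  refine ⟨x, hx, ?_, ?_⟩
  · have hnorm : (Q.subgroupOf (centralizer ({x} : Set T))).Normal :=
      ⟨fun u hu g => by
        rw [mem_subgroupOf] at hu ⊢
        exact hn g (mem_centralizer_singleton_iff.1 g.2) u hu⟩
    refine rank_of_centralizer_le hM (Q.subgroupOf (centralizer ({x} : Set T))) ?_ ?_
    · exact hQp.of_equiv (Subgroup.subgroupOfEquivOfLe hQC).symm
    · intro g hg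
      rw [mem_subgroupOf]
      refine hc g (mem_centralizer_singleton_iff.1 g.2) fun u hu => ?_
      exact congrArg Subtype.val (hg ⟨u, hQC hu⟩ hu)
  · have hs' : ∀ n ∈ ({2, 3, 4, 6} : Finset ℕ), ∃ s : ↥(centralizer ({x} : Set T)), orderOf s = n := by
      intro n hnn
      obtain ⟨s, hsx, hsn⟩ := hs n hnn
      exact ⟨⟨s, mem_centralizer_singleton_iff.2 hsx⟩, by rw [Subgroup.orderOf_mk, hsn]⟩
    obtain ⟨s2, h2⟩ := hs' 2 (by simp)
    obtain ⟨s3, h3⟩ := hs' 3 (by simp)
    obtain ⟨s4, h4⟩ := hs' 4 (by simp)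
    obtain ⟨s6, h6⟩ := hs' 6 (by simp)
    have key : ∀ i, orderOf ((![1, s2, s3, s4, s6] : Fin 5 → ↥(centralizer ({x} : Set T))) i) =
        (![1, 2, 3, 4, 6] : Fin 5 → ℕ) i := by
      intro i
      fin_cases i
      · exact orderOf_one
      · exact h2
      · exact h3
      · exact h4
      · exact h6
    refine ⟨![1, s2, s3, s4, s6], ?_, ?_⟩
    · intro i
      rw [key]
      revert i
      decide
    · intro i j hij
      simp only [key] at hij
      revert i j
      decide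

theorem centralizer_zpowers {T : Type u} [Group T] (x : T) :
    centralizer ((zpowers x : Subgroup T) : Set T) = centralizer ({x} : Set T) := by
  rw [zpowers_eq_closure, centralizer_closure]

/-- The same with a subgroup of order 5. -/
theorem th_loc' {M : Ideal AlgInt} (hM : IsPModular 5 M) {T : Type u} [Group T] [Finite T] (h : Spor.IsoTh T) :
    ∃ Q : Subgroup T, IsPGroup 5 Q ∧
      blockRank 5 (principalBlock M ↥(centralizer (Q : Set T))) =
        Nat.card (H697.Pk.PReg 5 ↥(centralizer (Q : Set T))) ∧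
      ∃ t : Fin 5 → ↥(centralizer (Q : Set T)), (∀ i, ¬ 5 ∣ orderOf (t i)) ∧
        Function.Injective fun i => orderOf (t i) := by
  obtain ⟨x, hx, h1⟩ := th_loc hM h
  refine ⟨zpowers x, IsPGroup.of_card (n := 1) (by rw [Nat.card_zpowers, hx, pow_one]), ?_⟩
  rw [centralizer_zpowers]
  exact h1

end Cfsg.Agent.H243.LB
end

-- part: H243/LB/ThRow
section
/-!
# S4879, the Thompson group and the prime 5: the row (helper243)
-/

set_option autoImplicit false

namespace Cfsg.Agent.H243.LB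

open Cfsg Subgroup

universe u

/-- **The Thompson group and the prime 5.** -/
theorem th_row {M : Ideal AlgInt} (hM : IsPModular 5 M) {G : Type u} [Group G] [Finite G] (T : Subgroup G) [T.Normal]
    (e : Spor.IsoTh T) : 5 ≤ blockRank 5 (principalBlock M G) := by
  have : Fact (Nat.Prime 5) := ⟨by norm_num⟩
  obtain ⟨Q, hQ, hr, t, ht, hinj⟩ := th_loc' hM e
  have h1 := H319.LB.stab hM T Q hQ t ht (by
    intro i j hij hc
    apply hij
    apply hinj
    obtain ⟨g, hg⟩ := isConj_iff.1 hc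
    have h2 : orderOf (g * (((t i : ↥(centralizer (Q : Set ↥T))) : ↥T) : G) * g⁻¹) =
        orderOf (((t i : ↥(centralizer (Q : Set ↥T))) : ↥T) : G) :=
      orderOf_injective (MulAut.conj g).toMonoidHom (MulAut.conj g).injective _
    rw [hg] at h2
    change orderOf (t i) = orderOf (t j)
    rw [← Subgroup.orderOf_coe, ← Subgroup.orderOf_coe (t i : ↥T), ← h2, Subgroup.orderOf_coe, Subgroup.orderOf_coe])
  rw [hr] at h1
  omega

end Cfsg.Agent.H243.LB
end

-- part: H710/LB5/FiveOf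
section
/-!
# S4879, `p = 5`: the almost simple groups (helper710, for helper319)

`rowAS_five_of` : `RowAS 5 M` from the classification and the row `PSL₂(5ⁿ)`.
-/

set_option autoImplicit false

namespace Cfsg.Agent.H710.LB5

open Cfsg Subgroup Cfsg.Agent.H319.One

universe u

local instance fact_five : Fact (Nat.Prime 5) := ⟨Nat.prime_five⟩

/-- the row `PSL₂(5ⁿ)` -/
def Psl2Row (M : Ideal AlgInt) : Prop :=
  ∀ (G : Type u) [Group G] [Finite G], H741.One.OneC 5 G → ∀ (T : Subgroup G) [T.Normal],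
    (∀ g : G, (∀ t ∈ T, Commute g t) → g = 1) → (∀ x : G, (∃ k : ℕ, orderOf x = 5 ^ k) → x ∈ T) →
    ∀ (F : Type) [Field F] [Fintype F] (n : ℕ), Fintype.card F = 5 ^ n → 2 ≤ n →
      Nonempty (↥T ≃* Matrix.ProjectiveSpecialLinearGroup (Fin 2) F) → 5 ≤ blockRank 5 (principalBlock M G)

/-- The hypothesis of the classification half, `p = 5`, `|P| ≥ 125`. -/
theorem hyp_five {G : Type u} [Group G] [Finite G] (h3 : 3 ≤ (Nat.card G).factorization 5)
    (hconj : H741.One.OneC 5 G)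
    (hEA : ∀ P : Sylow 5 G, IsElementaryAbelian 5 (P : Subgroup G)) (T : Subgroup G) [T.Normal]
    (hTp : ∀ x : G, (∃ k : ℕ, orderOf x = 5 ^ k) → x ∈ T) :
    Hyp 5 ((Nat.card G).factorization 5) ↥T := by
  have hp' := Nat.prime_five
  have hG0 : Nat.card G ≠ 0 := Nat.card_pos.ne'
  have hT0 : Nat.card ↥T ≠ 0 := Nat.card_pos.ne'
  have hle : ∀ P : Sylow 5 G, (P : Subgroup G) ≤ T := fun P x hx => hTp x (H741.One.isPElt P.isPGroup' hx)
  have hpow : ∀ (x : G) (k : ℕ), x ^ 5 ^ k = 1 → x ^ 5 = 1 := by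
    intro x k hk
    have h1 : IsPGroup 5 ↥(zpowers x) := by
      obtain ⟨m, -, hm⟩ := (Nat.dvd_prime_pow hp').1 (orderOf_dvd_of_pow_eq_one hk)
      exact IsPGroup.of_card (n := m) (by rw [Nat.card_zpowers, hm])
    obtain ⟨P, hP⟩ := h1.exists_le_sylow
    exact (hEA P).2 x (hP (mem_zpowers x))
  refine ⟨le_rfl, by omega, fun _ => h3, ?_, ?_, ?_, ?_⟩
  · intro x y hx hy
    have hx' : orderOf (x : G) = 5 := by rw [Subgroup.orderOf_coe, hx]
    have hy' : orderOf (y : G) = 5 := by rw [Subgroup.orderOf_coe, hy]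
    have hne : ∀ z : G, orderOf z = 5 → z ≠ 1 := by
      rintro z hz rfl
      rw [orderOf_one] at hz
      omega
    obtain ⟨g, hg⟩ := isConj_iff.1 (hconj x y (hne _ hx') (hne _ hy') ⟨1, by rw [pow_one, hx']⟩
      ⟨1, by rw [pow_one, hy']⟩)
    refine ⟨MulAut.conjNormal g, Subtype.ext ?_⟩
    rw [MulAut.conjNormal_apply, hg]
  · intro P
    have h1 : Nat.card ↥(P : Subgroup ↥T) = 5 ^ (Nat.card ↥T).factorization 5 := P.card_eq_multiplicity
    rw [h1]
    congr 1
    obtain ⟨Q⟩ : Nonempty (Sylow 5 G) := inferInstance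
    have h2 : Nat.card ↥(Q : Subgroup G) = 5 ^ (Nat.card G).factorization 5 := Q.card_eq_multiplicity
    apply le_antisymm
    · exact (Nat.factorization_le_iff_dvd hT0 hG0).2 (Subgroup.card_subgroup_dvd_card T) 5
    · rw [← hp'.pow_dvd_iff_le_factorization hT0, ← h2]
      exact Subgroup.card_dvd_of_le (hle Q)
  · intro Q hQ a ha b hb
    obtain ⟨P, hP⟩ := (hQ.map T.subtype).exists_le_sylow
    have h1 := (hEA P).1
    have h2 := h1.is_comm.comm ⟨(a : G), hP ⟨a, ha, rfl⟩⟩ ⟨(b : G), hP ⟨b, hb, rfl⟩⟩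
    have h3 : (a : G) * (b : G) = (b : G) * (a : G) := congrArg Subtype.val h2
    exact Subtype.ext h3
  · intro x k hx
    have h1 : (x : G) ^ 5 ^ k = 1 := congrArg Subtype.val hx
    exact Subtype.ext (hpow x k h1)

/-- **`RowAS` for `p = 5`.** -/
theorem rowAS_five_of {M : Ideal AlgInt} (hM : IsPModular 5 M)
    (hK : ∀ (S : Type u) [Group S] [Finite S], IsSimpleGroup S → IsKnownSimple' S)
    (hK0 : ∀ (X : Type) [Group X] [Finite X] [IsSimpleGroup X], IsKnownSimple' X)
    (hPSL : Psl2Row.{u} M) : H319.LB.RowAS.{u} 5 M := by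
  intro G _ _ hconj hp2 T hTn hTs hTc hTC hTp
  have hna : ¬ IsMulCommutative ↥T := by
    intro h
    obtain ⟨x, hx⟩ := exists_ne (1 : ↥T)
    apply hx
    apply Subtype.ext
    refine hTc x x.2 fun t ht => ?_
    exact congrArg Subtype.val (h.is_comm.comm x ⟨t, ht⟩)
  have hG0 : Nat.card G ≠ 0 := Nat.card_pos.ne'
  have hf2 : 2 ≤ (Nat.card G).factorization 5 := (Nat.prime_five.pow_dvd_iff_le_factorization hG0).1 hp2
  obtain ⟨P⟩ : Nonempty (Sylow 5 G) := inferInstance
  by_cases h2 : (Nat.card G).factorization 5 = 2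
  · refine H696.LB.five_le hM P ?_ hconj
    rw [P.card_eq_multiplicity, h2]
    norm_num
  by_cases hEA : ∀ P : Sylow 5 G, IsElementaryAbelian 5 (P : Subgroup G)
  · have hyp := hyp_five (by omega) hconj hEA T hTp
    rcases mainN (hK ↥T hTs) hK0 hyp with ⟨F, i1, i2, hF, e⟩ | ⟨h5, -⟩ | ⟨h5, -⟩ | ⟨h5, -⟩
    · exact hPSL G hconj T hTC hTp F _ hF hf2 e
    · omega
    · omega
    · omega
  · push Not at hEA
    obtain ⟨P, hP⟩ := hEA
    have hcl : H567.ClassSizeP.PClass 5 ↥T := H567.ClassSizeP.PClass.normal (H631.OneC.pclass hconj) T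
    have hPna : ¬ IsMulCommutative (P : Subgroup G) := fun h =>
      hP ⟨h, fun x hx => H631.OneC.pow_eq_one hconj (H631.exists_orderOf P.isPGroup' hx)⟩
    have hQ : ∃ Q : Sylow 5 ↥T, ¬ IsMulCommutative (Q : Subgroup ↥T) := by
      have hPT : (P : Subgroup G) ≤ T := fun x hx => hTp x (H741.One.isPElt P.isPGroup' hx)
      refine ⟨P.subtype hPT, fun h => hPna ⟨⟨fun a b => ?_⟩⟩⟩
      have h1 := h.is_comm.comm ⟨⟨(a : G), hPT a.2⟩, a.2⟩ ⟨⟨(b : G), hPT b.2⟩, b.2⟩
      exact Subtype.ext (congrArg (fun z => ((z : ↥T) : G)) (congrArg Subtype.val h1))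
    rcases H631.input_of hK ↥T hTs hna 5 Nat.prime_five (by norm_num) hcl hQ with ⟨h5, -⟩ | ⟨-, h5⟩
    · omega
    · exact H243.LB.th_row hM T h5

end Cfsg.Agent.H710.LB5
end
end

-- part: H495/LB/MSev
section
set_option linter.all false
open scoped Cfsg.Agent.FastGrp

/-!
# The columns of tool (R) for the Monster, `r = 17` (helper495, for S4879)

`seventeen` : the three columns (characters of degree 1, 8, 6 of `L₃(2)`), orthogonal to the rows of `B₀(11)`.
-/

set_option autoImplicit false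
set_option maxRecDepth 100000

namespace Cfsg.Agent.H495.LB.MSev

open Cfsg Subgroup
open Cfsg.Agent.SmallSimple.ThetaSetup
open Cfsg.Agent.H241.NH Cfsg.Agent.H241.Mon
open Cfsg.Agent.H676.Deg Cfsg.Agent.H676.Deg.LocM

theorem local17 : ∃ (_ : Fact (Nat.Prime 17)) (P : Sylow 17 Gam) (K : Subgroup Gam), Nat.card P = 17 ∧
    IsComp 17 (P : Subgroup Gam) K ∧ Nat.card K = 168 ∧ IsSimpleGroup K ∧ H442.ZerosSmall.Deg7 K ∧
    (centralizer ((P : Subgroup Gam) : Set Gam)).relIndex (normalizer ((P : Subgroup Gam) : Set Gam)) = 16 := by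
  have h3 : Cfsg.Agent.H715.Mon.Grp.SThree.{0} := fun _ _ _ X hX hC => S3331.result X hX hC
  have h17 := RowM.fact17
  have hs17 : ¬ 17 ^ 2 ∣ Nat.card Gam := by rw [card_G]; norm_num
  obtain ⟨y, hy⟩ := exists_prime_orderOf_dvd_card' (G := Gam) 17 (by rw [card_G]; norm_num)
  obtain ⟨P, K, -, h4, h5, h6, ⟨e⟩⟩ := exists_K hs17 hy (c := 168) (by rw [Cfsg.Agent.H715.Mon.Exact.card17 h3 hy])
  obtain ⟨f⟩ := Cfsg.Agent.H715.Mon.Norm.iso17 h3 hy
  have hsim := Cfsg.Agent.H377.TwoConv.simple_L7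
  have hfin : Finite (Matrix.ProjectiveSpecialLinearGroup (Fin 2) (ZMod 7)) := Finite.of_equiv _ f.toEquiv
  exact ⟨h17, P, K, h4, h5, h6, (e.trans f).isSimpleGroup,
    deg7_congr (e.trans f).symm (H442.ZerosSmall.deg7 (ZMod.card 7)),
    (Cfsg.Agent.H715.Mon.Norm.relIndex_eq (by norm_num) hs17
      (fun _ hx => Cfsg.Agent.H715.Mon.Exact.card17 h3 hx) (e := 16) (by norm_num) (by rw [card_G]) h4).1⟩

/-- **The columns at 17.** -/
theorem seventeen {p : ℕ} {M : Ideal AlgInt} (hM : IsPModular p M) (hp : p ≠ 17) (hp168 : ¬ p ∣ 168) {c : ℕ} {x : Gam}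
    {q : IrrCharacter Gam → Fin c → ℤ} {f : Fin c → centralizer ({x} : Set Gam) → ℂ} (D : RowsP p M x q f) :
    ∃ a : Fin 3 → IrrCharacter Gam → ℤ, Sev Gam a ∧ ∀ i j, ∑ᶠ χ ∈ principalBlock M Gam, a i χ * q χ j = 0 := by
  obtain ⟨_, P, K, h1, h2, h3, h4, h5, h6⟩ := local17
  exact exists_cols h2 h1 h3 h4 h5 h6 hM hp hp168 D

end Cfsg.Agent.H495.LB.MSev
end

-- part: H34/LB/MFin
section
prune_inst 0x4010000
set_option linter.all false
open scoped Cfsg.Agent.FastGrp

/-!
# S4879, the Monster, `p = 11`: the assembly (helper34)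

* `min` : the inputs `MIn`;
* `row_of_three` : the row from the geometry `MThree`.
-/

set_option autoImplicit false
set_option maxRecDepth 100000

namespace Cfsg.Agent.H34.LB

open Cfsg Subgroup Cfsg.Agent.MonsterX
open Cfsg.Agent.H436.M23.Abs (El)
open Cfsg.Agent.H816.MSch
open Cfsg.Agent.H493.RatB (RatV)
open Cfsg.Agent.H608.Lb
open Cfsg.Agent.Characters.Core

universe u

/-- the geometry of the involutions of class 2A on the axes (helper722) -/
def MThree : Prop := ∀ t : ↥InstData.M.G, LThreeB.Row.TA t → ∃ z : XT, ∀ x : XT, c x (t • x) = Cfsg.Agent.H878.LB.sq (c z x)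

section abs

variable {G : Type u} [Group G] [Finite G]

theorem finsum_block (B : Set (IrrCharacter G)) [Fintype ↥B] (F : IrrCharacter G → ℤ) :
    ∑ᶠ χ ∈ B, F χ = ∑ y : ↥B, F y.1 := by
  rw [← finsum_set_coe_eq_finsum_mem, finsum_eq_sum_of_fintype]

theorem dg_ne : ∀ i j : Fin 7, dg i = dg j → i = j := by decide +kernel

theorem dg_eleven : ∀ n : Fin 7, ¬ (11 : ℤ) ∣ dg n := by decide +kernel

theorem v2_zero : v2 0 = 1 := rfl

theorem dg_zero : dg 0 = 1 := rfl

theorem dg_mod : (dg 0 % 17 = 1 ∧ dg 1 % 17 = 6 ∧ dg 2 % 17 = 8 ∧ dg 3 % 17 = 0 ∧ dg 4 % 17 = 1 ∧ dg 5 % 17 = 16 ∧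
    dg 6 % 17 = 0) := by decide +kernel

/-- the values of the columns at the known characters -/
theorem known_of_sev {a : Fin 3 → IrrCharacter G → ℤ} (S : Cfsg.Agent.H495.LB.Sev G a) {χ : IrrCharacter G} {n : Fin 7}
    (hχ : (charDegree (χ : G → ℂ) : ℤ) = dg n) (hr : RatV (χ : G → ℂ)) {t : G} (ht : orderOf t = 2)
    (h17 : 17 ∣ Nat.card (centralizer ({t} : Set G))) (hv : (χ : G → ℂ) t = ((v2 n : ℤ) : ℂ)) (s : Fin 3) :
    a s χ = ka s n := by
  obtain ⟨m0, m1, m2, m3, m4, m5, m6⟩ := dg_mod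
  have hz : ∀ {i j : Fin 3}, i ≠ j → a i χ ≠ 0 → a j χ = 0 := fun hij h => (S.disj χ _ _ hij).resolve_left h
  fin_cases n
  · have hd : (charDegree (χ : G → ℂ) : ℤ) = dg 0 := hχ
    have h0 : a 0 χ = 1 := S.one χ hr (by omega)
    fin_cases s
    · exact h0
    · exact hz (i := 0) (j := 1) (by decide) (by rw [h0]; decide)
    · exact hz (i := 0) (j := 2) (by decide) (by rw [h0]; decide)
  · have hd : (charDegree (χ : G → ℂ) : ℤ) = dg 1 := hχ
    have h0 : a 2 χ = 1 := S.six χ hr (by omega) ⟨t, v2 1, ht, h17, hv, by decide⟩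
    fin_cases s
    · exact hz (i := 2) (j := 0) (by decide) (by rw [h0]; decide)
    · exact hz (i := 2) (j := 1) (by decide) (by rw [h0]; decide)
    · exact h0
  · have hd : (charDegree (χ : G → ℂ) : ℤ) = dg 2 := hχ
    have h0 : a 1 χ = 1 := S.eight χ hr (by omega)
    fin_cases s
    · exact hz (i := 1) (j := 0) (by decide) (by rw [h0]; decide)
    · exact h0
    · exact hz (i := 1) (j := 2) (by decide) (by rw [h0]; decide)
  · have hd : (charDegree (χ : G → ℂ) : ℤ) = dg 3 := hχ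
    have h0 := S.zero χ (by omega)
    fin_cases s
    · exact h0 0
    · exact h0 1
    · exact h0 2
  · have hd : (charDegree (χ : G → ℂ) : ℤ) = dg 4 := hχ
    have h0 : a 0 χ = 1 := S.one χ hr (by omega)
    fin_cases s
    · exact h0
    · exact hz (i := 0) (j := 1) (by decide) (by rw [h0]; decide)
    · exact hz (i := 0) (j := 2) (by decide) (by rw [h0]; decide)
  · have hd : (charDegree (χ : G → ℂ) : ℤ) = dg 5 := hχ
    have h0 : a 0 χ = -1 := S.neg χ hr (by omega)
    fin_cases s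
    · exact h0
    · exact hz (i := 0) (j := 1) (by decide) (by rw [h0]; decide)
    · exact hz (i := 0) (j := 2) (by decide) (by rw [h0]; decide)
  · have hd : (charDegree (χ : G → ℂ) : ℤ) = dg 6 := hχ
    have h0 := S.zero χ (by omega)
    fin_cases s
    · exact h0 0
    · exact h0 1
    · exact h0 2

end abs

theorem min (h3 : MThree) {M : Ideal AlgInt} (hM : IsPModular 11 M) [Finite ↥InstData.M.G] : MIn M ↥InstData.M.G := by
  classical
  have : Fact (Nat.Prime 11) := ⟨by norm_num⟩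
  obtain ⟨x, a, t, L, hL, ha, ht, hTA, hta, hxa, hxt⟩ := Cfsg.Agent.H436.LB.MQ.exists_el
  have := Fintype.ofFinite L
  obtain ⟨u, Φ, q, hS, hLoc, hC, hu1, hut, hq1, hc1, hc2, hg, hB0⟩ :=
    Cfsg.Agent.H436.LB.MQ.exists_q hL hM ha ht hta hxa hxt
  refine ⟨⟨x, hS.ord, (rank_cent hM hS hLoc).le⟩, ?_⟩
  intro hfB
  obtain ⟨χ₀, hχ1₀, hχr₀, hχv₀⟩ := Cfsg.Agent.H878.LB.exists_chars
  obtain ⟨z, hz⟩ := h3 t hTA
  have hχt₀ := hχv₀ t z hz
  -- the seven characters, the first one is the trivial one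
  obtain ⟨χ, hχ0, hχ1, hχr, hχt⟩ : ∃ χ : Fin 7 → IrrCharacter ↥InstData.M.G,
      ((χ 0 : ↥InstData.M.G → ℂ) = 1) ∧ (∀ n, (χ n : ↥InstData.M.G → ℂ) 1 = ((dg n : ℤ) : ℂ)) ∧
      (∀ n, RatV (χ n : ↥InstData.M.G → ℂ)) ∧ ∀ n, (χ n : ↥InstData.M.G → ℂ) t = ((v2 n : ℤ) : ℂ) := by
    refine ⟨fun n => if n = 0 then ⟨1, isIrr_one⟩ else χ₀ n, ?_, ?_, ?_, ?_⟩
    · simp only [if_true]
    · intro n
      by_cases hn : n = 0
      · subst hn
        simp [dg_zero]
      · simp only [if_neg hn]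
        exact hχ1₀ n
    · intro n
      by_cases hn : n = 0
      · subst hn
        intro g
        exact ⟨1, by simp⟩
      · simp only [if_neg hn]
        exact hχr₀ n
    · intro n
      by_cases hn : n = 0
      · subst hn
        simp [v2_zero]
      · simp only [if_neg hn]
        exact hχt₀ n
  have hdeg : ∀ n, (charDegree (χ n : ↥InstData.M.G → ℂ) : ℤ) = dg n := by
    intro n
    have h1 := hχ1 n
    rw [Blocks.Basic.irr_one_eq_charDegree (χ n).2] at h1
    exact_mod_cast h1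
  have hmem : ∀ n, χ n ∈ principalBlock M ↥InstData.M.G := by
    intro n
    apply hB0
    intro h1
    apply dg_eleven n
    rw [← hdeg n]
    exact_mod_cast h1
  have h17 : 17 ∣ Nat.card (centralizer ({t} : Set ↥InstData.M.G)) := by
    have h1 := BpSpor.MBigModel.card_cent_t hTA
    rw [h1]
    norm_num
  -- the columns
  obtain ⟨π, hπ, -, -⟩ := hS.proj
  have hQ := hC.qmat hM hS hLoc π hπ
  have hR : Cfsg.Agent.H495.LB.RowsP 11 M x q (fun j c => ((Cfsg.Agent.H436.M23.Tab.E j : ℤ) : ℂ) * (u j : L → ℂ) (π c)) :=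
    ⟨⟨1, by rw [hS.ord, pow_one]⟩, by
      rintro rfl
      have h1 := hS.ord
      rw [orderOf_one] at h1
      omega, hQ.row, fun b hb j => congrFun (hQ.indep b hb) j⟩
  obtain ⟨b, hb, hrel⟩ := Cfsg.Agent.H495.LB.MSev.seventeen hM (by norm_num) (by norm_num) hR
  exact ⟨{
    q := fun y => q y.1
    gram := fun i j => by rw [← hg i j, finsum_block]
    c := fun n => ⟨χ n, hmem n⟩
    inj := fun i j hij => dg_ne i j (by
      have h1 : χ i = χ j := congrArg Subtype.val hij
      rw [← hdeg i, ← hdeg j, h1])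
    one := hq1 _ hχ0
    cong1 := fun n => hc1 _ (hmem n) _ (hχ1 n)
    cong2 := fun n => hc2 _ (hmem n) _ (hχt n)
    a := fun s y => b s y.1
    ha := fun s y => hb.val s y.1
    disj := fun s s' hs y => by
      rcases hb.disj y.1 s s' hs with h | h
      · rw [h, zero_mul]
      · rw [h, mul_zero]
    rel := fun s j => by rw [← hrel s j, finsum_block]
    known := fun s n => known_of_sev hb (hdeg n) (hχr n) ht h17 (hχt n) s }⟩

/-- **The row of the Monster**, from the geometry `MThree`. -/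
theorem row_of_three (h3 : MThree) {M : Ideal AlgInt} (hM : IsPModular 11 M) :
    Cfsg.Agent.H741.Lb.Row.{u} 11 M (fun S _ => Spor.IsoM S) := by
  have hf : Finite ↥InstData.M.G := BpSpor.MBigModel.finite
  exact row_m Cfsg.Agent.H591.LB.mnum hM hf (min h3 hM)

end Cfsg.Agent.H34.LB
end

-- part: H34/LB/MDone
section
set_option linter.all false

/-!
# S4879, the row of the Monster, `p = 11` (helper34)
-/

set_option autoImplicit false

namespace Cfsg.Agent.H34.LB

open Cfsg Subgroup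

universe u

/-- **The row of the Monster.** -/
theorem row {M : Ideal AlgInt} (hM : IsPModular 11 M) : Cfsg.Agent.H741.Lb.Row.{u} 11 M (fun S _ => Spor.IsoM S) :=
  row_of_three (fun _ ht => Cfsg.Agent.H529.LB.MSq.m3 ht) hM

end Cfsg.Agent.H34.LB
end

-- part: H741/Lb/Final_mg
section
prune_inst 0x2000010400800120000000080010002004400009000208400cc0002040a0003000000010001001001000a028000000008120000c0000000000020040000010000088814002001000882001e000080000000000000000000000000000000000004000000000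
set_option linter.all false
open scoped Cfsg.Agent.FastGrp

-- part: H185/LB/ON
section
/-!
# S4879: the row O'N, `p = 3` (helper185)

`Q = P` of order 9, `C(P) / P = A₆`: four classes of orders 1, 2, 4, 5 and at most five classes of `3`-regular elements.
-/

set_option autoImplicit false

namespace Cfsg.Agent.H185.LB

open Subgroup Cfsg
open Cfsg.Spor (ON)
open Cfsg.Agent.H820.K6.ASix (A6 t1 t2 sgt1 sgt2 ct1 ct2)
open Cfsg.Agent.H697.Pk (PReg)

universe u

/-- at most five classes of `3`-regular elements in `A₆` -/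
theorem card_reg_A6 : Nat.card (PReg 3 A6) ≤ 5 := by
  classical
  have h7 : Nat.card (ConjClasses A6) ≤ 7 := Cfsg.Agent.H525.AltK.alt_six
  let pr : ConjClasses A6 → Prop := fun c => ∃ g : A6, ConjClasses.mk g = c ∧ ¬ 3 ∣ orderOf g
  have hsum : Nat.card {c // pr c} + Nat.card {c // ¬ pr c} = Nat.card (ConjClasses A6) := by
    rw [← Nat.card_sum]
    exact Nat.card_congr (Equiv.sumCompl pr)
  let a : A6 := ⟨t1, Equiv.Perm.mem_alternatingGroup.2 sgt1⟩
  let b : A6 := ⟨t2, Equiv.Perm.mem_alternatingGroup.2 sgt2⟩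
  have ha : orderOf a = 3 := by
    change orderOf (⟨t1, _⟩ : A6) = 3
    rw [Subgroup.orderOf_mk, ← Equiv.Perm.lcm_cycleType, ct1]
    decide
  have hb : orderOf b = 3 := by
    change orderOf (⟨t2, _⟩ : A6) = 3
    rw [Subgroup.orderOf_mk, ← Equiv.Perm.lcm_cycleType, ct2]
    decide
  have hna : ∀ x : A6, orderOf x = 3 → ¬ pr (ConjClasses.mk x) := by
    rintro x hx ⟨g, hg, hg3⟩
    obtain ⟨c, hc⟩ := isConj_iff.1 (ConjClasses.mk_eq_mk_iff_isConj.1 hg)
    apply hg3
    have h1 : orderOf (c * g * c⁻¹) = orderOf g := by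
      rw [← MulAut.conj_apply]
      exact orderOf_injective (MulAut.conj c).toMonoidHom (MulAut.conj c).injective g
    rw [hc, hx] at h1
    rw [← h1]
  have hne : (ConjClasses.mk a) ≠ ConjClasses.mk b := by
    intro h
    obtain ⟨c, hc⟩ := isConj_iff.1 (ConjClasses.mk_eq_mk_iff_isConj.1 h)
    have h1 : IsConj (t1 : Equiv.Perm (Fin 6)) t2 :=
      isConj_iff.2 ⟨(c : Equiv.Perm (Fin 6)), congrArg (fun z : A6 => (z : Equiv.Perm (Fin 6))) hc⟩
    rw [Equiv.Perm.isConj_iff_cycleType_eq, ct1, ct2] at h1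
    revert h1
    decide
  have h2 : 2 ≤ Nat.card {c // ¬ pr c} := by
    have : Nontrivial {c // ¬ pr c} :=
      ⟨⟨_, hna a ha⟩, ⟨_, hna b hb⟩, fun h => hne (congrArg Subtype.val h)⟩
    exact Finite.one_lt_card
  have h3 : Nat.card (PReg 3 A6) = Nat.card {c // pr c} := rfl
  omega

/-- `C(P)` maps onto `A₆` with kernel `P`. -/
theorem exists_hom : ∃ φ : ↥(centralizer (H999.ONThreeHyp.P : Set ON)) →* A6, Function.Surjective φ ∧ IsPGroup 3 φ.ker := by
  have hfin := Cfsg.Agent.KFacts.ON.Cent.finite_ON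
  have : Fact (Nat.Prime 3) := ⟨Nat.prime_three⟩
  have hyp := H999.ONThreeHyp.hyp
  have hn : (H999.ONThreeHyp.P.subgroupOf (ONType.OddCent.XX H999.ONThreeHyp.P)).Normal := hyp.normal
  have hs := hyp.simple_LL
  obtain ⟨e, -⟩ := hyp.exists_equiv
  have e1 : ONType.OddCent.LL H999.ONThreeHyp.P ≃* commutator (ONType.OddCent.XX H999.ONThreeHyp.P) :=
    ((commutator (ONType.OddCent.XX H999.ONThreeHyp.P)).equivMapOfInjective _
      (ONType.OddCent.XX H999.ONThreeHyp.P).subtype_injective).symm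
  obtain ⟨e'⟩ := Cfsg.Agent.Classification.Order360Iso.nonempty_mulEquiv_alternating
    (G := ONType.OddCent.LL H999.ONThreeHyp.P) hyp.card_LL
  let E := (e1.trans e).symm.trans e'
  let F : ↥(ONType.OddCent.XX H999.ONThreeHyp.P) →* A6 :=
    E.toMonoidHom.comp (QuotientGroup.mk' (H999.ONThreeHyp.P.subgroupOf (ONType.OddCent.XX H999.ONThreeHyp.P)))
  have hker : F.ker ≤ H999.ONThreeHyp.P.subgroupOf (ONType.OddCent.XX H999.ONThreeHyp.P) := by
    intro x hx
    rw [MonoidHom.mem_ker] at hx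
    have h1 : E (QuotientGroup.mk' _ x) = E 1 := hx.trans (map_one E).symm
    have h2 := E.injective h1
    rwa [QuotientGroup.mk'_apply, QuotientGroup.eq_one_iff] at h2
  have hF : Function.Surjective F := E.surjective.comp (QuotientGroup.mk'_surjective _)
  refine ⟨F, hF, ?_⟩
  · intro x
    refine ⟨1, ?_⟩
    apply Subtype.ext
    apply Subtype.ext
    have h1 := mem_subgroupOf.1 (hker x.2)
    have h2 := H999.ONThreeHyp.pow_three h1
    rw [pow_one]
    exact h2

/-- The equivalence of centralizers. -/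
theorem exists_data {S : Type u} [Group S] (e : Spor.IsoON S) :
    ∃ Q : Subgroup S, IsPGroup 3 Q ∧ ∃ φ : ↥(centralizer (Q : Set S)) →* A6,
      Function.Surjective φ ∧ IsPGroup 3 φ.ker := by
  obtain ⟨f⟩ := e
  obtain ⟨φ, hφ, hk⟩ := exists_hom
  have hmem : ∀ c : S, c ∈ centralizer ((H999.ONThreeHyp.P.comap f.toMonoidHom : Subgroup S) : Set S) ↔
      f c ∈ centralizer (H999.ONThreeHyp.P : Set ON) := by
    intro c
    rw [mem_centralizer_iff, mem_centralizer_iff]
    constructor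
    · intro h g hg
      have h1 := h (f.symm g) (by
        change f (f.symm g) ∈ H999.ONThreeHyp.P
        rw [f.apply_symm_apply]
        exact hg)
      have h2 := congrArg f h1
      rwa [map_mul, map_mul, f.apply_symm_apply] at h2
    · intro h g hg
      apply f.injective
      rw [map_mul, map_mul]
      exact h (f g) hg
  let ψ : ↥(centralizer ((H999.ONThreeHyp.P.comap f.toMonoidHom : Subgroup S) : Set S)) →*
      ↥(centralizer (H999.ONThreeHyp.P : Set ON)) :=
    (f.toMonoidHom.comp (centralizer _).subtype).codRestrict _ fun c => (hmem c).1 c.2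
  have hψ : Function.Surjective ψ := by
    rintro ⟨g, hg⟩
    refine ⟨⟨f.symm g, (hmem _).2 (by rw [f.apply_symm_apply]; exact hg)⟩, Subtype.ext ?_⟩
    exact f.apply_symm_apply g
  refine ⟨H999.ONThreeHyp.P.comap f.toMonoidHom, ?_, φ.comp ψ, hφ.comp hψ, ?_⟩
  · rintro ⟨g, hg⟩
    refine ⟨1, Subtype.ext ?_⟩
    apply f.injective
    have h1 := H999.ONThreeHyp.pow_three (x := f g) hg
    rw [pow_one]
    change f (g ^ 3) = f 1
    rw [map_pow, h1, map_one]
  · rintro ⟨g, hg⟩
    obtain ⟨k, hk'⟩ := hk ⟨ψ g, hg⟩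
    refine ⟨k, Subtype.ext (Subtype.ext ?_)⟩
    apply f.injective
    have h1 := congrArg Subtype.val (congrArg Subtype.val hk')
    change f ((g : S) ^ 3 ^ k) = f 1
    rw [map_pow, map_one]
    exact h1

/-- lifting an order through a homomorphism with `3`-kernel -/
theorem exists_order {C : Type*} [Group C] [Finite C] (φ : C →* A6) (hφ : Function.Surjective φ) (hk : IsPGroup 3 φ.ker)
    {m : ℕ} (hm : m ∈ ({1, 2, 4, 5} : Finset ℕ)) : ∃ y : C, orderOf y = m := by
  have : Fact (Nat.Prime 3) := ⟨Nat.prime_three⟩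
  obtain ⟨h3, y, hy⟩ := Cfsg.Agent.H820.K6.ASix.orders m hm
  obtain ⟨g, hg, hg3⟩ := Cfsg.Agent.H697.Pk.exists_lift (p := 3) φ hφ (q := y) (by rw [hy]; exact h3)
  refine ⟨g, Nat.dvd_antisymm ?_ ?_⟩
  · have h1 : g ^ m ∈ φ.ker := by
      rw [MonoidHom.mem_ker, map_pow, hg, ← hy, pow_orderOf_eq_one]
    obtain ⟨k, hk'⟩ := hk ⟨g ^ m, h1⟩
    have h2 : (g ^ m) ^ 3 ^ k = 1 := congrArg Subtype.val hk'
    have h4 : orderOf g ∣ m * 3 ^ k := orderOf_dvd_of_pow_eq_one (by rw [pow_mul]; exact h2)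
    exact (Nat.Coprime.pow_right k ((Nat.Prime.coprime_iff_not_dvd Nat.prime_three).2 hg3).symm).dvd_of_dvd_mul_right h4
  · rw [← hy, ← hg]
    exact orderOf_map_dvd φ g

/-- **The row O'N, `p = 3`.** -/
theorem on_row {M : Ideal AlgInt} (hM : IsPModular 3 M) {G : Type u} [Group G] [Finite G] (T : Subgroup G) [T.Normal]
    (e : Spor.IsoON T) : 3 ≤ blockRank 3 (principalBlock M G) := by
  classical
  have h3F : Fact (Nat.Prime 3) := ⟨Nat.prime_three⟩
  obtain ⟨Q, hQ, φ, hφ, hk⟩ := exists_data e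
  have hr : 4 ≤ blockRank 3 (principalBlock M ↥(centralizer (Q : Set ↥T))) :=
    (Cfsg.Agent.H820.K6.ASix.rank hM).trans (Cfsg.Agent.H820.K6.rank_le_of_surj hM φ hφ)
  have hc : Nat.card (PReg 3 ↥(centralizer (Q : Set ↥T))) ≤ 5 := by
    rw [← Cfsg.Agent.H697.Pk.card_quotient_eq φ.ker hk,
      Cfsg.Agent.H697.Pk.card_congr (QuotientGroup.quotientKerEquivOfSurjective φ hφ)]
    exact card_reg_A6
  let o : Fin 4 → ℕ := ![1, 2, 4, 5]
  have ho : ∀ i, o i ∈ ({1, 2, 4, 5} : Finset ℕ) := by decide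
  have ho3 : ∀ i, ¬ 3 ∣ o i := by decide
  have hinj : ∀ i j, o i = o j → i = j := by decide
  choose t ht using fun i => exists_order φ hφ hk (ho i)
  have h := Cfsg.Agent.H319.LB.stab hM T Q hQ t (fun i => by rw [ht i]; exact ho3 i) (fun i j hij h => by
    apply hij
    apply hinj
    obtain ⟨c, hc⟩ := isConj_iff.1 h
    have h1 : orderOf (c * (((t i : ↥(centralizer (Q : Set ↥T))) : ↥T) : G) * c⁻¹) =
        orderOf (((t i : ↥(centralizer (Q : Set ↥T))) : ↥T) : G) := by
      rw [← MulAut.conj_apply]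
      exact orderOf_injective (MulAut.conj c).toMonoidHom (MulAut.conj c).injective _
    rw [hc, Subgroup.orderOf_coe, Subgroup.orderOf_coe, Subgroup.orderOf_coe, Subgroup.orderOf_coe, ht, ht] at h1
    exact h1.symm)
  omega

end Cfsg.Agent.H185.LB
end

-- part: H243/LB/Psl
section
/-!
# S4879: `PSL₂(pⁿ)`, `n ≥ 2` (helper243)

* `ti` : the Sylow `p`-subgroups are TI;
* `psl2_of_rank` : the row, from the TI equality of the ranks.
-/

set_option autoImplicit false
set_option linter.unusedSectionVars false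

namespace Cfsg.Agent.H243.LB

open Cfsg Subgroup Matrix
open scoped Pointwise
open Cfsg.Agent.H741.One (OneC)
open Cfsg.Agent.H319.One.PslA Cfsg.Agent.H319.One.PslB Cfsg.Agent.ClassicalGeometry.PSL2Basic

universe u

section mat

variable {F : Type} [Field F]

/-- the diagonal matrices -/
def dh (F : Type) [Field F] : Fˣ →* _root_.Matrix.SpecialLinearGroup (Fin 2) F where
  toFun a := ⟨!![(a : F), 0; 0, ((a⁻¹ : Fˣ) : F)], by simp [Matrix.det_fin_two]⟩
  map_one' := by
    apply Subtype.ext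
    change !![((1 : Fˣ) : F), 0; 0, (((1 : Fˣ)⁻¹ : Fˣ) : F)] = 1
    simp [Matrix.one_fin_two]
  map_mul' a b := by
    apply Subtype.ext
    change !![((a * b : Fˣ) : F), 0; 0, (((a * b)⁻¹ : Fˣ) : F)] =
      !![(a : F), 0; 0, ((a⁻¹ : Fˣ) : F)] * !![(b : F), 0; 0, ((b⁻¹ : Fˣ) : F)]
    rw [Matrix.mul_fin_two]
    ext i j
    (revert i j; simp [mul_comm, _root_.Fin.forall_fin_succ])

theorem dh_uu (a : Fˣ) : dh F a * uu 1 = uu ((a : F) ^ 2) * dh F a := by
  apply Subtype.ext
  change !![(a : F), 0; 0, ((a⁻¹ : Fˣ) : F)] * !![1, 1; 0, 1] =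
    !![1, (a : F) ^ 2; 0, 1] * !![(a : F), 0; 0, ((a⁻¹ : Fˣ) : F)]
  rw [Matrix.mul_fin_two, Matrix.mul_fin_two]
  ext i j
  (revert i j; simp [pow_two, _root_.Fin.forall_fin_succ])

/-- the entry (0,0) -/
theorem sq_of_dh {a : Fˣ} {b : F} (h : dh F a = uu b ∨ dh F a = -uu b) : a ^ 2 = 1 := by
  rcases h with h | h
  · have h2 : (a : F) = 1 := congrFun (congrFun (congrArg Subtype.val h) 0) 0
    apply Units.ext
    rw [Units.val_pow_eq_pow_val, h2, one_pow, Units.val_one]
  · have h2 : (a : F) = -1 := congrFun (congrFun (congrArg Subtype.val h) 0) 0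
    apply Units.ext
    rw [Units.val_pow_eq_pow_val, h2, Units.val_one]
    ring

variable [Fintype F] {X : Type u} [Group X] [Finite X] {p n : ℕ} (e : X ≃* ProjectiveSpecialLinearGroup (Fin 2) F)

/-- the centralizer of the transvection -/
theorem eq_of_commute (hodd : Odd (Fintype.card F)) {g : X} (h : Commute g (pr e (uu 1))) :
    ∃ b : F, g = pr e (uu b) := by
  obtain ⟨s, rfl⟩ := pr_surj e g
  have h1 : pr e (s * uu 1 * s⁻¹ * (uu 1)⁻¹) = 1 := by
    rw [map_mul, map_mul, map_mul, map_inv, map_inv, h.eq]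
    group
  obtain ⟨b, rfl | rfl⟩ := comm_uu ((two_ne_zero_iff_odd F).2 hodd) ((pr_eq_one e).1 h1)
  · exact ⟨b, rfl⟩
  · exact ⟨b, pr_neg e _⟩

/-- the centralizer of the transvection is abelian -/
theorem comm_of_commute (hodd : Odd (Fintype.card F)) {g h : X} (hg : Commute g (pr e (uu 1)))
    (hh : Commute h (pr e (uu 1))) : Commute g h := by
  obtain ⟨b, rfl⟩ := eq_of_commute e hodd hg
  obtain ⟨c, rfl⟩ := eq_of_commute e hodd hh
  show pr e (uu b) * pr e (uu c) = pr e (uu c) * pr e (uu b)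
  rw [← map_mul, ← map_mul, uu_mul, uu_mul, add_comm]

/-- the torus element -/
theorem dvd_of_commute (hodd : Odd (Fintype.card F)) {a : Fˣ} {k : ℕ}
    (h : Commute (pr e (dh F a) ^ k) (pr e (uu 1))) : orderOf a ∣ 2 * k := by
  rw [← map_pow, ← map_pow] at h
  have h1 : pr e (dh F (a ^ k) * uu 1 * (dh F (a ^ k))⁻¹ * (uu 1)⁻¹) = 1 := by
    rw [map_mul, map_mul, map_mul, map_inv, map_inv, h.eq]
    group
  obtain ⟨b, hb⟩ := comm_uu ((two_ne_zero_iff_odd F).2 hodd) ((pr_eq_one e).1 h1)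
  apply orderOf_dvd_of_pow_eq_one
  rw [mul_comm, pow_mul]
  exact sq_of_dh hb

end mat

section grp

variable {G : Type u} [Group G] [Finite G] {p n : ℕ} [Fact p.Prime] {T : Subgroup G} [T.Normal]
  {F : Type} [Field F] [Fintype F] (e : T ≃* ProjectiveSpecialLinearGroup (Fin 2) F)

/-- the transvection in `G` -/
noncomputable def x0 : G := (pr e (uu 1) : T)

theorem order_x0 (hF : Fintype.card F = p ^ n) : orderOf (x0 e) = p := by
  unfold x0
  rw [Subgroup.orderOf_coe]
  exact orderOf_x0 e hF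

theorem x0_ne (hF : Fintype.card F = p ^ n) : x0 e ≠ 1 := by
  intro h
  have h1 := order_x0 e hF
  rw [h, orderOf_one] at h1
  exact (Fact.out : p.Prime).one_lt.ne h1

variable (hconj : OneC p G) (hF : Fintype.card F = p ^ n) (hodd : Odd (Fintype.card F))
include e hconj hF hodd

theorem pow_of_comm {x : G} (hx : x ≠ 1) (hxp : ∃ k : ℕ, orderOf x = p ^ k) {g : G} (hg : g ∈ T) (h : Commute g x) :
    g ^ p = 1 := by
  obtain ⟨c, hc⟩ := isConj_iff.1 (hconj x (x0 e) hx (x0_ne e hF) hxp ⟨1, by rw [order_x0 e hF, pow_one]⟩)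
  have hgT : c * g * c⁻¹ ∈ T := (inferInstance : T.Normal).conj_mem g hg c
  have h1 : Commute (⟨c * g * c⁻¹, hgT⟩ : T) (pr e (uu 1)) := by
    apply Subtype.ext
    change c * g * c⁻¹ * x0 e = x0 e * (c * g * c⁻¹)
    rw [← hc]
    calc c * g * c⁻¹ * (c * x * c⁻¹) = c * (g * x) * c⁻¹ := by group
      _ = c * (x * g) * c⁻¹ := by rw [h.eq]
      _ = _ := by group
  have h2 := congrArg Subtype.val (pow_of_commute e hF hodd h1)
  change (c * g * c⁻¹) ^ p = 1 at h2
  rw [conj_pow] at h2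
  exact conj_eq_one_iff.1 h2

theorem comm_of_comm {x : G} (hx : x ≠ 1) (hxp : ∃ k : ℕ, orderOf x = p ^ k) {g h : G} (hg : g ∈ T) (hh : h ∈ T)
    (hgx : Commute g x) (hhx : Commute h x) : Commute g h := by
  obtain ⟨c, hc⟩ := isConj_iff.1 (hconj x (x0 e) hx (x0_ne e hF) hxp ⟨1, by rw [order_x0 e hF, pow_one]⟩)
  have hgT : c * g * c⁻¹ ∈ T := (inferInstance : T.Normal).conj_mem g hg c
  have hhT : c * h * c⁻¹ ∈ T := (inferInstance : T.Normal).conj_mem h hh c
  have key : ∀ (w : G) (hw : c * w * c⁻¹ ∈ T), Commute w x → Commute (⟨c * w * c⁻¹, hw⟩ : T) (pr e (uu 1)) := by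
    intro w hw hwx
    apply Subtype.ext
    change c * w * c⁻¹ * x0 e = x0 e * (c * w * c⁻¹)
    rw [← hc]
    calc c * w * c⁻¹ * (c * x * c⁻¹) = c * (w * x) * c⁻¹ := by group
      _ = c * (x * w) * c⁻¹ := by rw [hwx.eq]
      _ = _ := by group
  have h1 := congrArg Subtype.val (comm_of_commute e hodd (key g hgT hgx) (key h hhT hhx)).eq
  change c * g * c⁻¹ * (c * h * c⁻¹) = c * h * c⁻¹ * (c * g * c⁻¹) at h1
  have h2 : c * (g * h) * c⁻¹ = c * (h * g) * c⁻¹ := by
    calc c * (g * h) * c⁻¹ = c * g * c⁻¹ * (c * h * c⁻¹) := by group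
      _ = c * h * c⁻¹ * (c * g * c⁻¹) := h1
      _ = _ := by group
  exact mul_left_cancel (mul_right_cancel h2)

variable (hTp : ∀ x : G, (∃ k : ℕ, orderOf x = p ^ k) → x ∈ T)
include hTp

theorem le_T (P : Sylow p G) : (P : Subgroup G) ≤ T := by
  intro x hx
  apply hTp
  obtain ⟨k, hk⟩ := (IsPGroup.iff_orderOf.1 P.isPGroup') ⟨x, hx⟩
  exact ⟨k, by rw [← hk]; exact Subgroup.orderOf_coe (⟨x, hx⟩ : (P : Subgroup G))⟩

theorem sylow_comm (P : Sylow p G) {g h : G} (hg : g ∈ (P : Subgroup G)) (hh : h ∈ (P : Subgroup G)) :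
    Commute g h := by
  have hp : p.Prime := Fact.out
  have hne : Nontrivial (P : Subgroup G) := by
    rw [Subgroup.nontrivial_iff_ne_bot]
    apply P.ne_bot_of_dvd_card
    rw [← order_x0 e hF]
    exact _root_.orderOf_dvd_natCard _
  have := P.isPGroup'.center_nontrivial
  obtain ⟨⟨z, hzc⟩, hz1⟩ := exists_ne (1 : center (P : Subgroup G))
  have hz : ((z : (P : Subgroup G)) : G) ≠ 1 := by
    intro h1
    exact hz1 (Subtype.ext (Subtype.ext h1))
  obtain ⟨k, hk⟩ := (IsPGroup.iff_orderOf.1 P.isPGroup') z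
  have hzp : ∃ k : ℕ, orderOf ((z : (P : Subgroup G)) : G) = p ^ k := ⟨k, by rw [Subgroup.orderOf_coe, hk]⟩
  have hcz : ∀ w : (P : Subgroup G), Commute (w : G) (z : G) := fun w =>
    congrArg Subtype.val (mem_center_iff.1 hzc w)
  exact comm_of_comm e hconj hF hodd hz hzp (le_T e hconj hF hodd hTp P hg) (le_T e hconj hF hodd hTp P hh)
    (hcz ⟨g, hg⟩) (hcz ⟨h, hh⟩)

/-- a Sylow subgroup is the centralizer of its nontrivial elements -/
theorem sylow_eq (P : Sylow p G) {x : G} (hx : x ∈ (P : Subgroup G)) (hx1 : x ≠ 1) :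
    T ⊓ centralizer ({x} : Set G) = P := by
  have hxp : ∃ k : ℕ, orderOf x = p ^ k := by
    obtain ⟨k, hk⟩ := (IsPGroup.iff_orderOf.1 P.isPGroup') ⟨x, hx⟩
    exact ⟨k, by rw [← hk]; exact (Subgroup.orderOf_coe (⟨x, hx⟩ : (P : Subgroup G))).symm ▸ rfl⟩
  apply P.is_maximal'
  · intro g
    refine ⟨1, Subtype.ext ?_⟩
    rw [pow_one]
    exact pow_of_comm e hconj hF hodd hx1 hxp g.2.1 (mem_centralizer_singleton_iff.1 g.2.2)
  · intro g hg
    exact ⟨le_T e hconj hF hodd hTp P hg, mem_centralizer_singleton_iff.2 (sylow_comm e hconj hF hodd hTp P hg hx).eq⟩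

/-- **the Sylow subgroups are TI** -/
theorem ti (P : Sylow p G) : H723.TI.TIs P := by
  intro g hg
  by_contra hne
  apply hg
  obtain ⟨⟨x, hx⟩, hx1'⟩ := Subgroup.ne_bot_iff_exists_ne_one.1 hne
  have hx1 : x ≠ 1 := fun h => hx1' (Subtype.ext h)
  have h1 := sylow_eq e hconj hF hodd hTp P hx.1 hx1
  have h2 := sylow_eq e hconj hF hodd hTp (g • P) (x := x) (by rw [Sylow.coe_subgroup_smul]; exact hx.2) hx1
  rw [h1] at h2
  have h3 : g • P = P := Sylow.ext h2.symm
  exact Sylow.smul_eq_iff_mem_normalizer.1 h3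

end grp

section five

/-- the elements of `SL₂(5)` have order less than 60 -/
theorem order_lt (g : _root_.Matrix.SpecialLinearGroup (Fin 2) (ZMod 5)) : orderOf g < 60 := by
  have : Fact (Nat.Prime 5) := ⟨by norm_num⟩
  by_contra h
  push Not at h
  have hcard : Nat.card (_root_.Matrix.SpecialLinearGroup (Fin 2) (ZMod 5)) = 120 := by
    rw [card_SL2, ZMod.card]
    norm_num
  have hperf := Cfsg.Agent.TwoFusion.SLTwoFacts.commutator_eq_top (F := ZMod 5) (by rw [ZMod.card]; norm_num)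
  have h1 := (zpowers g).card_mul_index
  rw [Nat.card_zpowers, hcard] at h1
  have h2 : (zpowers g).index ≤ 2 := by
    by_contra h3
    push Not at h3
    have := Nat.mul_le_mul h h3
    omega
  have h0 : (zpowers g).index ≠ 0 := Subgroup.index_ne_zero_of_finite
  have h3 : zpowers g = ⊤ := by
    rcases (by omega : (zpowers g).index = 1 ∨ (zpowers g).index = 2) with h4 | h4
    · exact Subgroup.index_eq_one.1 h4
    · have hn : (zpowers g).Normal := Subgroup.normal_of_index_eq_two h4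
      have hq : Nat.card (_root_.Matrix.SpecialLinearGroup (Fin 2) (ZMod 5) ⧸ zpowers g) = 2 := h4
      have : Fact (Nat.Prime 2) := ⟨Nat.prime_two⟩
      have hc : IsCyclic (_root_.Matrix.SpecialLinearGroup (Fin 2) (ZMod 5) ⧸ zpowers g) := isCyclic_of_prime_card hq
      rw [eq_top_iff, ← hperf, _root_.commutator_def, Subgroup.commutator_le]
      intro a _ b _
      rw [← QuotientGroup.eq_one_iff]
      obtain ⟨c, hc⟩ := hc.exists_generator
      obtain ⟨i, hi⟩ := hc (QuotientGroup.mk' _ a)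
      obtain ⟨j, hj⟩ := hc (QuotientGroup.mk' _ b)
      change QuotientGroup.mk' (zpowers g) _ = 1
      rw [map_commutatorElement, commutatorElement_eq_one_iff_commute, ← hi, ← hj]
      exact ((Commute.refl c).zpow_left i).zpow_right j
  have h4 : _root_.commutator (_root_.Matrix.SpecialLinearGroup (Fin 2) (ZMod 5)) ≤ ⊥ := by
    rw [_root_.commutator_def, Subgroup.commutator_le]
    intro a _ b _
    have ha : a ∈ zpowers g := by rw [h3]; exact mem_top _
    have hb : b ∈ zpowers g := by rw [h3]; exact mem_top _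
    obtain ⟨i, rfl⟩ := ha
    obtain ⟨j, rfl⟩ := hb
    rw [mem_bot, commutatorElement_eq_one_iff_commute]
    exact ((Commute.refl g).zpow_left i).zpow_right j
  rw [hperf] at h4
  have h5 : Nat.card (⊤ : Subgroup (_root_.Matrix.SpecialLinearGroup (Fin 2) (ZMod 5))) ≤
      Nat.card (⊥ : Subgroup (_root_.Matrix.SpecialLinearGroup (Fin 2) (ZMod 5))) := Subgroup.card_le_of_le h4
  rw [Subgroup.card_top, Subgroup.card_bot, hcard] at h5
  omega

end five

section final

variable {G : Type u} [Group G] [Finite G] {p n : ℕ} [Fact p.Prime] {M : Ideal AlgInt}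

/-- **The row, from the equality of the ranks.** -/
theorem psl2_of_rank (hM : IsPModular p M) (hconj : OneC p G) (T : Subgroup G) [T.Normal]
    (hTp : ∀ x : G, (∃ k : ℕ, orderOf x = p ^ k) → x ∈ T)
    {F : Type} [Field F] [Fintype F] (hF : Fintype.card F = p ^ n) (h2 : 2 ≤ n) (h3 : 3 ≤ p)
    (e : ↥T ≃* ProjectiveSpecialLinearGroup (Fin 2) F) (P : Sylow p G) (hxP : x0 e ∈ (P : Subgroup G))
    (hr : blockRank p (principalBlock M G) =
      blockRank p (principalBlock M (normalizer ((P : Subgroup G) : Set G))))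
    (hN1 : OneC p (normalizer ((P : Subgroup G) : Set G))) : p ≤ blockRank p (principalBlock M G) := by
  classical
  have hp : p.Prime := Fact.out
  have hodd : Odd (Fintype.card F) := by
    rw [hF]
    exact (hp.odd_of_ne_two (by omega)).pow
  have hti : H723.TI.TIs P := ti e hconj hF hodd hTp P
  obtain ⟨N, hNd⟩ : ∃ N : Subgroup G, N = normalizer ((P : Subgroup G) : Set G) := ⟨_, rfl⟩
  rw [← hNd] at hr hN1
  have hPN : (P : Subgroup G) ≤ N := by rw [hNd]; exact le_normalizer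
  obtain ⟨PN, hPNd⟩ : ∃ PN : Subgroup N, PN = (P : Subgroup G).subgroupOf N := ⟨_, rfl⟩
  have hPNn : PN.Normal := by
    constructor
    intro u hu g
    rw [hPNd, mem_subgroupOf] at hu ⊢
    have hg : (g : G) ∈ normalizer ((P : Subgroup G) : Set G) := by
      rw [← hNd]
      exact g.2
    exact (mem_normalizer_iff.1 hg _).1 hu
  have hPNp : IsPGroup p PN := by
    rw [hPNd]
    exact P.isPGroup'.of_equiv (Subgroup.subgroupOfEquivOfLe hPN).symm
  have hPNi : ¬ p ∣ PN.index := by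
    rw [hPNd]
    exact (P.subtype hPN).not_dvd_index
  have hPNc : Nat.card PN = Nat.card P := by
    rw [hPNd]
    exact Nat.card_congr (Subgroup.subgroupOfEquivOfLe hPN).toEquiv
  -- the `p'`-core
  obtain ⟨O, hO⟩ : ∃ O : Subgroup N, O = pPrimeCore p N := ⟨_, rfl⟩
  have hOn : O.Normal := by rw [hO]; exact Lib.Cores.pPrimeCore_normal p
  have hOc : (Nat.card O).Coprime p := by rw [hO]; exact Lib.Cores.pPrimeCore_coprime (G := N) p
  have hOp : ¬ p ∣ Nat.card O := (Nat.Prime.coprime_iff_not_dvd hp).1 hOc.symm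
  have hlz : H319.LB.lz p M N = H319.LB.lz p M (N ⧸ O) := H319.LB.lz_quot hM O hOp
  obtain ⟨m, hm⟩ := IsPGroup.iff_card.1 hPNp
  have hdisj : Disjoint O PN := by
    apply Subgroup.disjoint_of_coprime_natCard
    rw [hm]
    exact hOc.pow_right m
  -- the order
  have hq : Fintype.card F ∣ Nat.card G :=
    ((H319.One.PslB.dvd_card e).trans (Subgroup.card_subgroup_dvd_card _)).trans (Subgroup.card_subgroup_dvd_card T)
  have hp2 : p ^ 2 ∣ Nat.card P := by
    apply Sylow.pow_dvd_card_of_pow_dvd_card P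
    exact ((pow_dvd_pow p h2).trans (by rw [hF])).trans hq
  have hR2 : p ^ 2 ∣ Nat.card (N ⧸ O) := by
    have h4 : p ^ 2 ∣ Nat.card N := by
      rw [← hPNc] at hp2
      exact hp2.trans (Subgroup.card_subgroup_dvd_card _)
    rw [Subgroup.card_eq_card_quotient_mul_card_subgroup O] at h4
    exact (Nat.Coprime.pow_left 2 hOc.symm).dvd_of_dvd_mul_right h4
  have hf : Function.Surjective (QuotientGroup.mk' O) := QuotientGroup.mk'_surjective _
  have hR1 : OneC p (N ⧸ O) := H697.PSolvA.hconj_map _ hf hN1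
  have hRc : pPrimeCore p (N ⧸ O) = ⊥ := by
    subst hO
    exact Lib.Cores.pPrimeCore_quotient_pPrimeCore (G := N) p
  have hNs : IsPSolvable p N := by
    refine Cfsg.Agent.Lib.PSolvable.IsPSolvable_of_quotient p PN (Or.inl ⟨m, hm⟩) ?_
    refine Cfsg.Agent.PLocal.PSolvable.isPSolvable_of_coprime ?_
    exact ((Nat.Prime.coprime_iff_not_dvd hp).2 hPNi).symm
  have hRs : IsPSolvable p (N ⧸ O) := Cfsg.Agent.Lib.PSolvable.IsPSolvable_of_surjective p hNs _ hf
  rcases H319.LB.goal_psolv hM hRs hRc hR2 hR1 with h | ⟨h11, -, hcard, H, -, ⟨φ⟩⟩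
  · rw [hr]
    rw [← hlz] at h
    exact h
  exfalso
  -- the torus element
  obtain ⟨a, ha⟩ := IsCyclic.exists_generator (α := Fˣ)
  have hoa : orderOf a = Fintype.card F - 1 := by
    rw [orderOf_eq_card_of_forall_mem_zpowers ha, Nat.card_units, Nat.card_eq_fintype_card]
  obtain ⟨y, hy⟩ : ∃ y : G, y = ((pr e (dh F a) : T) : G) := ⟨_, rfl⟩
  have hyN : y ∈ N := by
    rw [hNd]
    by_contra hyn
    have h4 := hti y hyn
    have h5 : y * x0 e * y⁻¹ = ((pr e (uu ((a : F) ^ 2)) : T) : G) := by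
      rw [hy]
      unfold x0
      rw [← Subgroup.coe_mul, ← Subgroup.coe_inv, ← Subgroup.coe_mul, ← map_mul, ← map_inv, ← map_mul, dh_uu,
        mul_inv_cancel_right]
    have h6 : y * x0 e * y⁻¹ ∈ (P : Subgroup G) := by
      rw [← sylow_eq e hconj hF hodd hTp P hxP (x0_ne e hF), h5]
      refine ⟨SetLike.coe_mem _, mem_centralizer_singleton_iff.2 ?_⟩
      unfold x0
      rw [← Subgroup.coe_mul, ← Subgroup.coe_mul, ← map_mul, ← map_mul, uu_mul, uu_mul, add_comm]
    have h7 : y * x0 e * y⁻¹ ∈ (P : Subgroup G) ⊓ (MulAut.conj y • (P : Subgroup G)) :=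
      ⟨h6, ⟨x0 e, hxP, rfl⟩⟩
    rw [h4, mem_bot, conj_eq_one_iff] at h7
    exact x0_ne e hF h7
  subst h11
  obtain ⟨Pb, hPb⟩ : ∃ Pb : Subgroup (N ⧸ O), Pb = PN.map (QuotientGroup.mk' O) := ⟨_, rfl⟩
  have hPbn : Pb.Normal := by rw [hPb]; exact hPNn.map _ hf
  have hPbp : IsPGroup 11 Pb := by rw [hPb]; exact hPNp.map _
  have hPbi : ¬ 11 ∣ Pb.index := by
    intro h4
    apply hPNi
    refine h4.trans ?_
    rw [hPb]
    exact Subgroup.index_map_dvd PN hf
  have hPbc : Nat.card Pb = 121 := by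
    obtain ⟨k, hk⟩ := IsPGroup.iff_card.1 hPbp
    have h4 := Pb.card_mul_index
    rw [hcard] at h4
    apply Nat.dvd_antisymm
    · have h5 : Nat.card Pb ∣ 121 * 120 := Dvd.intro _ h4
      rw [hk] at h5 ⊢
      exact (Nat.Coprime.pow_left k (by norm_num : Nat.Coprime 11 120)).dvd_of_dvd_mul_right h5
    · have h5 : 11 ^ 2 ∣ Nat.card Pb * Pb.index := by rw [h4]; norm_num
      exact (Nat.Coprime.pow_left 2 ((Nat.Prime.coprime_iff_not_dvd hp).2 hPbi)).dvd_of_dvd_mul_right h5
  have hQc : Nat.card ((N ⧸ O) ⧸ Pb) = 120 := by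
    have h4 := Subgroup.card_eq_card_quotient_mul_card_subgroup Pb
    rw [hcard, hPbc] at h4
    omega
  have hHc : Nat.card H = 120 := by
    have : Fact (Nat.Prime 5) := ⟨by norm_num⟩
    rw [Nat.card_congr φ.toEquiv, card_SL2, ZMod.card]
    norm_num
  obtain ⟨ψ, hψ⟩ : ∃ ψ : H →* (N ⧸ O) ⧸ Pb, ψ = (QuotientGroup.mk' Pb).comp H.subtype := ⟨_, rfl⟩
  have hψi : Function.Injective ψ := by
    rw [injective_iff_map_eq_one]
    intro u hu
    rw [hψ] at hu
    have h4 : (u : N ⧸ O) ∈ Pb := (QuotientGroup.eq_one_iff _).1 hu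
    have h5 : (u : N ⧸ O) ∈ H ⊓ Pb := ⟨u.2, h4⟩
    rw [disjoint_iff.1 (Subgroup.disjoint_of_coprime_natCard (by rw [hHc, hPbc]; norm_num))] at h5
    exact Subtype.ext h5
  have hψb : Function.Bijective ψ :=
    (Nat.bijective_iff_injective_and_card ψ).2 ⟨hψi, by rw [hHc, hQc]⟩
  obtain ⟨w, hw⟩ := hψb.2 (QuotientGroup.mk' Pb (QuotientGroup.mk' O ⟨y, hyN⟩))
  have how : orderOf (φ w) = orderOf (QuotientGroup.mk' Pb (QuotientGroup.mk' O ⟨y, hyN⟩)) := by
    rw [MulEquiv.orderOf_eq, ← hw, orderOf_injective ψ hψi]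
  have hlt := order_lt (φ w)
  rw [how] at hlt
  obtain ⟨k, hk⟩ : ∃ k, k = orderOf (QuotientGroup.mk' Pb (QuotientGroup.mk' O ⟨y, hyN⟩)) := ⟨_, rfl⟩
  rw [← hk] at hlt
  have hk0 : 0 < k := by rw [hk]; exact orderOf_pos _
  have hdvd : Fintype.card F - 1 ∣ 2 * k := by
    rw [← hoa]
    apply dvd_of_commute e hodd
    have h4 : (QuotientGroup.mk' Pb (QuotientGroup.mk' O ⟨y, hyN⟩)) ^ k = 1 := by rw [hk]; exact pow_orderOf_eq_one _
    rw [← map_pow] at h4
    have h5 : (QuotientGroup.mk' O ⟨y, hyN⟩) ^ k ∈ Pb := (QuotientGroup.eq_one_iff _).1 h4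
    rw [hPb, ← map_pow] at h5
    obtain ⟨u, hu, hu'⟩ := h5
    have h6 : u⁻¹ * (⟨y, hyN⟩ : N) ^ k ∈ O := QuotientGroup.eq.1 hu'
    have hx0N : x0 e ∈ N := hPN hxP
    have hx0P : (⟨x0 e, hx0N⟩ : N) ∈ PN := by rw [hPNd]; exact hxP
    have h7 : Commute (u⁻¹ * (⟨y, hyN⟩ : N) ^ k) ⟨x0 e, hx0N⟩ :=
      Subgroup.commute_of_normal_of_disjoint O PN hOn hPNn hdisj _ _ h6 hx0P
    have h8 : Commute u ⟨x0 e, hx0N⟩ := by
      apply Subtype.ext
      have hu2 : (u : G) ∈ (P : Subgroup G) := by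
        rw [hPNd] at hu
        exact hu
      exact (sylow_comm e hconj hF hodd hTp P hu2 hxP).eq
    have h9 : Commute ((⟨y, hyN⟩ : N) ^ k) ⟨x0 e, hx0N⟩ := by
      have h10 : (⟨y, hyN⟩ : N) ^ k = u * (u⁻¹ * (⟨y, hyN⟩ : N) ^ k) := by group
      rw [h10]
      exact h8.mul_left h7
    have h10 := congrArg Subtype.val h9.eq
    change y ^ k * x0 e = x0 e * y ^ k at h10
    apply Subtype.ext
    rw [hy] at h10
    exact h10
  have hle := Nat.le_of_dvd (by omega) hdvd
  have h121 : 11 ^ 2 ≤ Fintype.card F := by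
    rw [hF]
    exact Nat.pow_le_pow_right (by norm_num) h2
  norm_num at h121
  omega

end final

end Cfsg.Agent.H243.LB
end

-- part: H723/Lb/TI
section
/-!
# S4879, groups with a TI Sylow `p`-subgroup (helper723)

* `rank_ti` : `l(B_0(G)) = l(B_0(N_G(P)))`;
* `oneClass_ti` : if all nontrivial `p`-elements of `G` are conjugate, the same is true in `N_G(P)`.
-/

set_option autoImplicit false
set_option linter.unusedSectionVars false

open Subgroup Cfsg
open scoped Pointwise

namespace Cfsg.Agent.H723.Lb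

universe u

/-- all nontrivial `p`-elements are conjugate -/
def OneClass (p : ℕ) (G : Type u) [Group G] : Prop :=
  ∀ x y : G, x ≠ 1 → y ≠ 1 → (∃ k : ℕ, orderOf x = p ^ k) → (∃ k : ℕ, orderOf y = p ^ k) → IsConj x y

variable {G : Type u} [Group G] [Finite G] {p : ℕ} [Fact p.Prime]

/-- **TI Sylow subgroups: the rank of the principal block is local.** -/
theorem rank_ti {M : Ideal AlgInt} (hM : IsPModular p M) (P : Sylow p G) (hTI : Cfsg.Agent.H723.TI.TIs P) :
    blockRank p (principalBlock M G) =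
      blockRank p (principalBlock M (Subgroup.normalizer ((P : Subgroup G) : Set G))) := by
  have := Fintype.ofFinite G
  have hP : (P : Subgroup G) ≤ Subgroup.normalizer ((P : Subgroup G) : Set G) := Subgroup.le_normalizer
  have hC : Subgroup.centralizer ((P : Subgroup G) : Set G) ≤ Subgroup.normalizer ((P : Subgroup G) : Set G) :=
    Subgroup.centralizer_le_normalizer _
  have hb : IsPBlock M (principalBlock M (Subgroup.normalizer ((P : Subgroup G) : Set G))) :=
    Blocks.PrincipalSection.isPBlock_principalBlock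
  have hdef := S0919.result p M hM (P : Subgroup G) _ P.2 hP hC le_rfl _ hb
  have hind := (S0936.result p M hM _ _ hdef).2 rfl
  exact S4819.result p M hM P hTI _ Blocks.PrincipalSection.isPBlock_principalBlock
    ((S4652.result p M hM (P : Subgroup G)).2 ⟨P, rfl⟩) _ hind

/-- **one class of `p`-elements is inherited by `N_G(P)`** -/
theorem oneClass_ti (P : Sylow p G) (hTI : Cfsg.Agent.H723.TI.TIs P) (h : OneClass p G) :
    OneClass p (Subgroup.normalizer ((P : Subgroup G) : Set G)) := by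
  have key : ∀ x : Subgroup.normalizer ((P : Subgroup G) : Set G), (∃ k : ℕ, orderOf x = p ^ k) →
      (x : G) ∈ (P : Subgroup G) := by
    rintro x ⟨k, hk⟩
    have hx : orderOf (x : G) = p ^ k := by rw [Subgroup.orderOf_coe, hk]
    have hz : IsPGroup p (Subgroup.zpowers (x : G)) := by
      apply IsPGroup.of_card (n := k)
      rw [Nat.card_zpowers, hx]
    have h1 : Subgroup.zpowers (x : G) ≤ Subgroup.normalizer ((P : Subgroup G) : Set G) := by
      rw [Subgroup.zpowers_le]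
      exact x.2
    have h2 : Subgroup.zpowers (x : G) ≤ (P : Subgroup G) := by
      have h3 : Subgroup.zpowers (x : G) ⊓ Subgroup.normalizer ((P : Subgroup G) : Set G) =
          Subgroup.zpowers (x : G) ⊓ P := hz.inf_normalizer_sylow P
      rw [inf_eq_left.2 h1] at h3
      rw [h3]
      exact inf_le_right
    exact h2 (Subgroup.mem_zpowers _)
  intro x y hx hy hxp hyp
  have hx' : ((x : G)) ≠ 1 := fun e => hx (Subtype.ext e)
  have hy' : ((y : G)) ≠ 1 := fun e => hy (Subtype.ext e)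
  obtain ⟨g, hg⟩ := isConj_iff.1 (h (x : G) y hx' hy' (by rwa [Subgroup.orderOf_coe]) (by rwa [Subgroup.orderOf_coe]))
  have hgN : g ∈ Subgroup.normalizer ((P : Subgroup G) : Set G) := by
    by_contra hcon
    have h1 : (y : G) ∈ (P : Subgroup G) ⊓ (MulAut.conj g • (P : Subgroup G)) := by
      refine Subgroup.mem_inf.2 ⟨key y hyp, ?_⟩
      rw [Subgroup.mem_pointwise_smul_iff_inv_smul_mem, ← map_inv, MulAut.smul_def, MulAut.conj_apply, inv_inv, ← hg]
      have h2 : g⁻¹ * (g * (x : G) * g⁻¹) * g = x := by group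
      rw [h2]
      exact key x hxp
    rw [hTI g hcon, Subgroup.mem_bot] at h1
    exact hy' h1
  exact isConj_iff.2 ⟨⟨g, hgN⟩, Subtype.ext hg⟩

end Cfsg.Agent.H723.Lb
end

-- part: H243/LB/PslRow
section
/-!
# S4879: the row `PSL₂(pⁿ)`, `n ≥ 2` (helper243)
-/

set_option autoImplicit false

namespace Cfsg.Agent.H243.LB

open Cfsg Subgroup

universe u

/-- **The row `PSL₂(pⁿ)`.** -/
theorem psl2_row {G : Type u} [Group G] [Finite G] {p : ℕ} [Fact p.Prime] {M : Ideal AlgInt} (hM : IsPModular p M)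
    (hconj : H741.One.OneC p G) (T : Subgroup G) [T.Normal] (_hTC : ∀ g : G, (∀ t ∈ T, Commute g t) → g = 1)
    (hTp : ∀ x : G, (∃ k : ℕ, orderOf x = p ^ k) → x ∈ T) {F : Type} [Field F] [Fintype F] {n : ℕ}
    (hF : Fintype.card F = p ^ n) (h2 : 2 ≤ n) (h3 : 3 ≤ p)
    (e : ↥T ≃* Matrix.ProjectiveSpecialLinearGroup (Fin 2) F) : p ≤ blockRank p (principalBlock M G) := by
  have hp : p.Prime := Fact.out
  have hodd : Odd (Fintype.card F) := by
    rw [hF]
    exact (hp.odd_of_ne_two (by omega)).pow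
  have hz : IsPGroup p (zpowers (x0 e)) := by
    refine IsPGroup.of_card (n := 1) ?_
    rw [Nat.card_zpowers, order_x0 e hF, pow_one]
  obtain ⟨P, hP⟩ := hz.exists_le_sylow
  have hti : H723.TI.TIs P := ti e hconj hF hodd hTp P
  exact psl2_of_rank hM hconj T hTp hF h2 h3 e P (hP (mem_zpowers _)) (H723.Lb.rank_ti hM P hti)
    (H723.Lb.oneClass_ti P hti hconj)

end Cfsg.Agent.H243.LB
end

-- part: H642/Lb/RankC
section
/-!
# S4879, row `Th`, `p = 7` (helper642): `l(B₀(C_G(x))) ≤ 3`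

`rank_cent_le` : `|C_G(x)| = 1176 = 8 · 3 · 49`, one class of elements of order 14, one of elements of order 28,
no element of order 56, `3 ∤ |C_G(y)|` for `y` of order 14: `l(B₀(C_G(x))) ≤ 3`.
-/

set_option autoImplicit false

open Cfsg Subgroup

namespace Cfsg.Agent.H642.Lb

universe u

variable {G : Type u} [Group G]

/-- `l(B) ≤` the number of representatives of the `p`-regular classes. -/
theorem blockRank_le_reps [Finite G] {p : ℕ} (B : Set (IrrCharacter G)) {ι : Type*} [Fintype ι] (r : ι → G)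
    (hR : ∀ g : G, ¬ p ∣ orderOf g → ∃ i, ∃ x : G, x * g * x⁻¹ = r i) : blockRank p B ≤ Fintype.card ι := by
  classical
  have := Fintype.ofFinite G
  have hf : Fintype (⊥ : Subgroup G) := Fintype.ofFinite _
  have hN : (⊥ : Subgroup G).Normal := inferInstance
  refine H642.SolvRank.blockRank_le (N := (⊥ : Subgroup G)) (θ := fun _ => 1)
    Blocks.Basic.isIrrCharacter_one (fun _ _ => rfl) ?_ r ?_
  · intro χ _ h
    rw [Characters.Core.classInner_def] at h
    have h1 : ∑ g : (⊥ : Subgroup G), (χ : G → ℂ) g * (starRingEnd ℂ) 1 = (χ : G → ℂ) 1 := by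
      rw [Fintype.sum_subsingleton _ (1 : (⊥ : Subgroup G)), map_one, mul_one]
      rfl
    rw [h1, mul_eq_zero] at h
    rcases h with h | h
    · exact (inv_ne_zero Characters.Core.card_ne_zero_complex) h
    · exact Blocks.Basic.irr_one_ne_zero χ.2 h
  · intro g hg
    obtain ⟨i, x, hx⟩ := hR g hg
    exact ⟨i, 1, x, by rw [hx]; simp only [_root_.OneMemClass.coe_one, _root_.one_mul]⟩

section reps

variable [Finite G] {x : G} (hx : orderOf x = 7)

include hx

theorem order_mul {g : G} (hg : g ∈ centralizer ({x} : Set G)) (h7 : ¬ 7 ∣ orderOf g) :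
    orderOf (x * g) = 7 * orderOf g := by
  have hc : Commute x g := (mem_centralizer_singleton_iff.1 hg).symm
  have h7p : Nat.Prime 7 := by norm_num
  rw [hc.orderOf_mul_eq_mul_orderOf_of_coprime, hx]
  rw [hx]
  exact (Nat.Prime.coprime_iff_not_dvd h7p).2 h7

/-- conjugacy in the section -/
theorem conj_of {n : ℕ} (hn : n = 2 ∨ n = 4) (hcj : ∀ g g' : G, orderOf g = 7 * n → orderOf g' = 7 * n → IsConj g g')
    (g g' : centralizer ({x} : Set G)) (hg : orderOf g = n) (hg' : orderOf g' = n) :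
    ∃ c : centralizer ({x} : Set G), c * g * c⁻¹ = g' := by
  have h4 : n ∣ 4 := by rcases hn with rfl | rfl <;> norm_num
  have hn7 : ¬ 7 ∣ n := by rcases hn with rfl | rfl <;> norm_num
  have ho : orderOf (x * (g : G)) = 7 * n := by
    rw [order_mul hx g.2 (by rw [Subgroup.orderOf_coe, hg]; exact hn7), Subgroup.orderOf_coe, hg]
  have ho' : orderOf (x * (g' : G)) = 7 * n := by
    rw [order_mul hx g'.2 (by rw [Subgroup.orderOf_coe, hg']; exact hn7), Subgroup.orderOf_coe, hg']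
  obtain ⟨c, hc⟩ := isConj_iff.1 (hcj _ _ ho ho')
  have hx7 : x ^ 7 = 1 := by rw [← hx]; exact pow_orderOf_eq_one x
  have key : ∀ y : centralizer ({x} : Set G), orderOf y = n →
      (x * (y : G)) ^ 8 = x ∧ (x * (y : G)) ^ 21 = y := by
    intro y hy
    have hcm : Commute x (y : G) := (mem_centralizer_singleton_iff.1 y.2).symm
    have hy4 : (y : G) ^ 4 = 1 := by
      apply orderOf_dvd_iff_pow_eq_one.1
      rw [Subgroup.orderOf_coe, hy]
      exact h4
    constructor
    · rw [hcm.mul_pow]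
      have e1 : x ^ 8 = x := by rw [pow_succ, hx7, one_mul]
      have e2 : (y : G) ^ 8 = 1 := by rw [show 8 = 4 * 2 by norm_num, pow_mul, hy4, one_pow]
      rw [e1, e2, mul_one]
    · rw [hcm.mul_pow]
      have e1 : x ^ 21 = 1 := by rw [show 21 = 7 * 3 by norm_num, pow_mul, hx7, one_pow]
      have e2 : (y : G) ^ 21 = y := by rw [show 21 = 4 * 5 + 1 by norm_num, pow_succ, pow_mul, hy4, one_pow, one_mul]
      rw [e1, e2, one_mul]
  have h1 : c * x * c⁻¹ = x := by
    have h : (c * (x * (g : G)) * c⁻¹) ^ 8 = (x * (g' : G)) ^ 8 := by rw [hc]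
    rw [(key g' hg').1, conj_pow, (key g hg).1] at h
    exact h
  have h2 : c * (g : G) * c⁻¹ = g' := by
    have h : (c * (x * (g : G)) * c⁻¹) ^ 21 = (x * (g' : G)) ^ 21 := by rw [hc]
    rw [(key g' hg').2, conj_pow, (key g hg).2] at h
    exact h
  refine ⟨⟨c, mem_centralizer_singleton_iff.2 ?_⟩, Subtype.ext h2⟩
  calc c * x = c * x * c⁻¹ * c := by group
    _ = x * c := by rw [h1]

end reps

/-- the elements of order three -/
theorem conj_three {C : Type*} [Group C] [Finite C] (h9 : ¬ 9 ∣ Nat.card C) {s g : C} (hs : orderOf s = 3)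
    (hg : orderOf g = 3) : ∃ c : C, c * g * c⁻¹ = s ∨ c * g * c⁻¹ = s⁻¹ := by
  have h3 : Fact (Nat.Prime 3) := ⟨by norm_num⟩
  have hcard : ∀ y : C, orderOf y = 3 → Nat.card (zpowers y) = 3 ^ (Nat.card C).factorization 3 := by
    intro y hy
    have hd : 3 ∣ Nat.card C := by rw [← hy]; exact _root_.orderOf_dvd_natCard y
    have h1 : (Nat.card C).factorization 3 = 1 := by
      have h2 : 1 ≤ (Nat.card C).factorization 3 :=
        (Nat.Prime.dvd_iff_one_le_factorization h3.out Nat.card_pos.ne').1 hd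
      have h4 : ¬ 2 ≤ (Nat.card C).factorization 3 := by
        intro h
        exact h9 ((h3.out.pow_dvd_iff_le_factorization Nat.card_pos.ne').2 h)
      omega
    rw [h1, Nat.card_zpowers, hy, pow_one]
  let S : Sylow 3 C := Sylow.ofCard (zpowers s) (hcard s hs)
  let T : Sylow 3 C := Sylow.ofCard (zpowers g) (hcard g hg)
  obtain ⟨c, hc⟩ := MulAction.exists_smul_eq C T S
  have hmem : c * g * c⁻¹ ∈ zpowers s := by
    have h1 : (c • T : Sylow 3 C) = S := hc
    have h2 : c * g * c⁻¹ ∈ ((c • T : Sylow 3 C) : Subgroup C) := ⟨g, mem_zpowers g, rfl⟩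
    rw [h1] at h2
    exact h2
  refine ⟨c, ?_⟩
  obtain ⟨k, hk⟩ := mem_zpowers_iff.1 hmem
  have hs3 : s ^ (3 : ℤ) = 1 := by
    have := pow_orderOf_eq_one s
    rw [hs] at this
    exact_mod_cast this
  have hk3 : s ^ k = s ^ (k % 3) := by
    conv_lhs => rw [← Int.emod_add_mul_ediv k 3, zpow_add, zpow_mul, hs3, one_zpow, mul_one]
  have hne : c * g * c⁻¹ ≠ 1 := by
    intro h
    have h1 : g = 1 := by
      have h2 : g = c⁻¹ * (c * g * c⁻¹) * c := by group
      rw [h2, h]
      group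
    rw [h1, orderOf_one] at hg
    omega
  have h0 := Int.emod_nonneg k (show (3 : ℤ) ≠ 0 by norm_num)
  have h1 := Int.emod_lt_of_pos k (show (0 : ℤ) < 3 by norm_num)
  have h2 : k % 3 = 0 ∨ k % 3 = 1 ∨ k % 3 = 2 := by omega
  rw [← hk, hk3]
  rcases h2 with h2 | h2 | h2
  · exfalso
    apply hne
    rw [← hk, hk3, h2, zpow_zero]
  · left
    rw [h2, zpow_one]
  · right
    rw [h2]
    have h5 : s ^ (2 : ℤ) * s = 1 := by
      rw [← hs3]
      group
    exact eq_inv_of_mul_eq_one_left h5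

theorem rank_cent_le [Finite G] {M : Ideal AlgInt} (hM : IsPModular 7 M) {x : G} (hx : orderOf x = 7)
    (hc : Nat.card (centralizer ({x} : Set G)) = 1176)
    (h14 : ∀ g g' : G, orderOf g = 14 → orderOf g' = 14 → IsConj g g')
    (h28 : ∀ g g' : G, orderOf g = 28 → orderOf g' = 28 → IsConj g g')
    (h56 : ∀ g : G, orderOf g ≠ 56)
    (h3 : ∀ g : G, orderOf g = 14 → ¬ 3 ∣ Nat.card (centralizer ({g} : Set G))) :
    blockRank 7 (principalBlock M (centralizer ({x} : Set G))) ≤ 3 := by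
  classical
  have h7p : Nat.Prime 7 := by norm_num
  have h7f : Fact (Nat.Prime 7) := ⟨h7p⟩
  set C := centralizer ({x} : Set G) with hC
  -- at most five classes
  let rep : ℕ → C := fun n => if h : ∃ g : C, orderOf g = n then h.choose else 1
  have hrep : ∀ (n : ℕ) (g : C), orderOf g = n → orderOf (rep n) = n := by
    intro n g hg
    have h : ∃ g : C, orderOf g = n := ⟨g, hg⟩
    show orderOf (if h : ∃ g : C, orderOf g = n then h.choose else 1) = n
    rw [dif_pos h]
    exact h.choose_spec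
  have h5 : blockRank 7 (principalBlock M C) ≤ 5 := by
    have h := blockRank_le_reps (p := 7) (principalBlock M C) (ι := Fin 5)
      ![1, rep 2, rep 4, rep 3, (rep 3)⁻¹] ?_
    · rwa [Fintype.card_fin] at h
    intro g hg
    have hcop : Nat.Coprime (orderOf g) 49 :=
      (Nat.Coprime.pow_right 2 ((Nat.Prime.coprime_iff_not_dvd h7p).2 hg).symm)
    have hd : orderOf g ∣ 24 := by
      have h1 : orderOf g ∣ 24 * 49 := by
        have := _root_.orderOf_dvd_natCard g
        rwa [hc] at this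
      exact hcop.dvd_of_dvd_mul_right h1
    have h6 : ¬ 6 ∣ orderOf g := by
      intro h6
      obtain ⟨k, hk⟩ := h6
      have hk0 : k ≠ 0 := by
        rintro rfl
        exact (orderOf_pos g).ne' (by rw [hk])
      have ht : orderOf (g ^ (3 * k)) = 2 := by
        rw [orderOf_pow_of_dvd (by positivity) ⟨2, by rw [hk]; ring⟩, hk]
        rw [show 6 * k = 2 * (3 * k) by ring]
        exact Nat.mul_div_cancel _ (by positivity)
      have hs : orderOf (g ^ (2 * k)) = 3 := by
        rw [orderOf_pow_of_dvd (by positivity) ⟨3, by rw [hk]; ring⟩, hk]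
        rw [show 6 * k = 3 * (2 * k) by ring]
        exact Nat.mul_div_cancel _ (by positivity)
      have ho : orderOf (x * ((g ^ (3 * k) : C) : G)) = 14 := by
        rw [order_mul hx (g ^ (3 * k)).2 (by rw [Subgroup.orderOf_coe, ht]; norm_num), Subgroup.orderOf_coe, ht]
      apply h3 _ ho
      have hmem : ((g ^ (2 * k) : C) : G) ∈ centralizer ({x * ((g ^ (3 * k) : C) : G)} : Set G) := by
        rw [mem_centralizer_singleton_iff]
        have e1 : ((g ^ (2 * k) : C) : G) * x = x * ((g ^ (2 * k) : C) : G) :=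
          mem_centralizer_singleton_iff.1 (g ^ (2 * k)).2
        have e2 : ((g ^ (2 * k) : C) : G) * ((g ^ (3 * k) : C) : G) =
            ((g ^ (3 * k) : C) : G) * ((g ^ (2 * k) : C) : G) := by
          rw [← Subgroup.coe_mul, ← Subgroup.coe_mul, ← pow_add, ← pow_add, add_comm]
        rw [← mul_assoc, e1, mul_assoc, e2, mul_assoc]
      have h2 := _root_.orderOf_dvd_natCard (⟨_, hmem⟩ : centralizer ({x * ((g ^ (3 * k) : C) : G)} : Set G))
      rwa [Subgroup.orderOf_mk, Subgroup.orderOf_coe, hs] at h2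
    have h24 : orderOf g ≤ 24 := Nat.le_of_dvd (by norm_num) hd
    have hcase : orderOf g = 1 ∨ orderOf g = 2 ∨ orderOf g = 4 ∨ orderOf g = 3 ∨ orderOf g = 8 := by
      generalize orderOf g = o at *
      interval_cases o <;> first | (clear * - hg hd h6; omega) | (exfalso; revert hd; decide) | (exfalso; revert h6; decide)
    rcases hcase with ho | ho | ho | ho | ho
    · refine ⟨0, 1, ?_⟩
      rw [orderOf_eq_one_iff.1 ho]
      show 1 * 1 * 1⁻¹ = (1 : C)
      group
    · obtain ⟨c, hcc⟩ := conj_of hx (n := 2) (Or.inl rfl) h14 g (rep 2) ho (hrep 2 g ho)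
      exact ⟨1, c, hcc⟩
    · obtain ⟨c, hcc⟩ := conj_of hx (n := 4) (Or.inr rfl) h28 g (rep 4) ho (hrep 4 g ho)
      exact ⟨2, c, hcc⟩
    · obtain ⟨c, hcc⟩ := conj_three (C := C) (by rw [hc]; norm_num) (s := rep 3) (g := g) (hrep 3 g ho) ho
      rcases hcc with hcc | hcc
      · exact ⟨3, c, hcc⟩
      · exact ⟨4, c, hcc⟩
    · exfalso
      apply h56 (x * (g : G))
      rw [order_mul hx g.2 (by rw [Subgroup.orderOf_coe, ho]; norm_num), Subgroup.orderOf_coe, ho]
  -- the quotient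
  have hxC : x ∈ C := by rw [hC, mem_centralizer_singleton_iff]
  let z : C := ⟨x, hxC⟩
  have hz : orderOf z = 7 := by rw [Subgroup.orderOf_mk, hx]
  set U : Subgroup C := zpowers z with hU
  have hUc : U ≤ Subgroup.center C := by
    rw [hU, Subgroup.zpowers_le, Subgroup.mem_center_iff]
    intro g
    exact Subtype.ext (Subgroup.mem_centralizer_singleton_iff.1 g.2)
  have hUn : U.Normal := ⟨fun a ha g => by
    rw [Subgroup.mem_center_iff.1 (hUc ha) g, mul_inv_cancel_right]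
    exact ha⟩
  have hUcard : Nat.card U = 7 := by rw [hU, Nat.card_zpowers, hz]
  have hUp : IsPGroup 7 U := IsPGroup.of_card (n := 1) (by rw [hUcard, pow_one])
  have hrk := H650.E27.blockRank_quot hM hUc hUp
  have hq : Nat.card (C ⧸ U) = 168 := by
    have h1 := Subgroup.card_eq_card_quotient_mul_card_subgroup U
    rw [hc, hUcard] at h1
    omega
  obtain ⟨P⟩ : Nonempty (Sylow 7 (C ⧸ U)) := inferInstance
  have hP : Nat.card (P : Subgroup (C ⧸ U)) = 7 := by
    have h1 := P.card_eq_multiplicity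
    rw [hq] at h1
    have h2 : (168 : ℕ).factorization 7 = 1 := by
      have h3 : 7 ∣ 168 := by norm_num
      have h4 : ¬ 7 ^ 2 ∣ 168 := by norm_num
      have h5 := (Nat.Prime.dvd_iff_one_le_factorization h7p (by norm_num : 168 ≠ 0)).1 h3
      have h6 : ¬ 2 ≤ (168 : ℕ).factorization 7 := fun h =>
        h4 ((h7p.pow_dvd_iff_le_factorization (by norm_num : 168 ≠ 0)).2 h)
      omega
    rw [h2, pow_one] at h1
    exact h1
  have hcyc : IsCyclic (P : Subgroup (C ⧸ U)) := isCyclic_of_prime_card hP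
  have hrc := H734.KB.rank_cyclic hM P hcyc (by rw [hq]; norm_num)
  have hdv := J2Type.SylowSeven.relIndex_dvd_of_card_prime (P : Subgroup (C ⧸ U)) h7p hP
  rw [← hrc, ← hrk] at hdv
  generalize blockRank 7 (principalBlock M C) = e at *
  have : e ∣ 6 := hdv
  interval_cases e <;> first | omega | (exfalso; revert this; decide)

end Cfsg.Agent.H642.Lb
end

-- part: H642/Lb/Th
section
/-!
# S4879, row (D): `Th`, `p = 7` (helper642)

The principal 7-block of `Th` contains characters of degrees `1, 30875, 61256, 2450240, 4881384, 51684750, 767637,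
767637`, with values `1, 5, 6, -5, 4, -9, 3, 3` at the elements `x` of order 7; `∑ χ(1) χ(x) = 0` gives
`k(B₀) ≥ 10`, and `l(B₀(C(x))) ≤ 3`, so `l(B₀) ≥ 7`.
-/

set_option autoImplicit false

open Cfsg Subgroup
open scoped ComplexConjugate

namespace Cfsg.Agent.H642.Lb.Th

open Cfsg.Agent.Blocks.Basic

universe u

theorem card_th : Nat.card Spor.Th = 90745943887872000 := H399.Two.Th.card_th

instance fin_th : Finite Spor.Th := H399.Two.Th.finite_th

instance seven_fact : Fact (Nat.Prime 7) := ⟨by norm_num⟩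

/-- the order of a 7-element -/
theorem order_of_seven {g : Spor.Th} {k : ℕ} (h : orderOf g = 7 ^ k) (h1 : g ≠ 1) : orderOf g = 7 := by
  rcases k with _ | _ | k
  · rw [pow_zero, orderOf_eq_one_iff] at h
    exact absurd h h1
  · rw [h]
    norm_num
  · exfalso
    apply H871.Th7.no49 (g ^ 7 ^ k)
    rw [orderOf_pow_of_dvd (by positivity) (by rw [h]; exact ⟨49, by ring⟩), h,
      show (7 : ℕ) ^ (k + 1 + 1) = 49 * 7 ^ k by ring]
    exact Nat.mul_div_cancel _ (by positivity)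

theorem conj_seven {g g' : Spor.Th} (hg : orderOf g = 7) (hg' : orderOf g' = 7) : IsConj g g' :=
  (H871.Th7.conj7 g hg).trans (H871.Th7.conj7 g' hg').symm

/-- a Sylow 7-subgroup -/
theorem exists_sylow : ∃ (P : Subgroup Spor.Th) (x : Spor.Th), Nat.card P = 49 ∧ orderOf x = 7 ∧
    ∀ y ∈ P, y ≠ 1 → IsConj x y := by
  obtain ⟨P⟩ : Nonempty (Sylow 7 Spor.Th) := inferInstance
  obtain ⟨x, hx⟩ := exists_prime_orderOf_dvd_card' (G := Spor.Th) 7 (by rw [card_th]; norm_num)
  refine ⟨P, x, ?_, hx, fun y hy hy1 => ?_⟩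
  · have h7p : Nat.Prime 7 := by norm_num
    have h0 : (90745943887872000 : ℕ) ≠ 0 := by norm_num
    have h1 := P.card_eq_multiplicity
    rw [card_th] at h1
    have h2 := (h7p.pow_dvd_iff_le_factorization (k := 2) h0).1 (by norm_num)
    have h3 : ¬ 3 ≤ (90745943887872000 : ℕ).factorization 7 := fun h => by
      have h4 := (h7p.pow_dvd_iff_le_factorization (k := 3) h0).2 h
      norm_num at h4
    have h5 : (90745943887872000 : ℕ).factorization 7 = 2 := by omega
    rw [h5] at h1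
    exact h1
  · obtain ⟨k, hk⟩ := IsPGroup.iff_orderOf.1 P.isPGroup' ⟨y, hy⟩
    rw [Subgroup.orderOf_mk] at hk
    exact conj_seven hx (order_of_seven hk hy1)

theorem mem_of {M : Ideal AlgInt} (hM : IsPModular 7 M) {χ : IrrCharacter Spor.Th} {d : ℕ}
    (h : charDegree (χ : Spor.Th → ℂ) = d) (hd : ¬ 7 ∣ d) : χ ∈ principalBlock M Spor.Th := by
  by_contra hc
  have h1 := H491.PB.Th.nb_7 M hM χ hc
  rw [h, pow_one] at h1
  exact hd h1

theorem exists_two : ∃ χ : IrrCharacter Spor.Th, charDegree (χ : Spor.Th → ℂ) = 2450240 := by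
  obtain ⟨χ, hχ, -⟩ := H492.ThRat.val_2450240
  refine ⟨χ, ?_⟩
  rw [irr_one_eq_charDegree χ.2] at hχ
  exact_mod_cast hχ

theorem exists_pair : ∃ χ χ' : IrrCharacter Spor.Th, χ ≠ χ' ∧ charDegree (χ : Spor.Th → ℂ) = 767637 ∧
    charDegree (χ' : Spor.Th → ℂ) = 767637 := by
  obtain ⟨θ, hθ, h1, -, -, h31⟩ := H653.ThE.exists_theta
  refine ⟨⟨θ, hθ⟩, ⟨fun g => conj (θ g), Characters.Core.isIrr_conj hθ⟩, ?_, ?_, ?_⟩
  · intro h
    have hfact : Fact (Nat.Prime 31) := ⟨by norm_num⟩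
    obtain ⟨y, hy⟩ := exists_prime_orderOf_dvd_card' (G := Spor.Th) 31 (by rw [card_th]; norm_num)
    have h2 := congrFun (congrArg Subtype.val h) y
    have h3 : conj (θ y) = θ y := h2.symm
    obtain ⟨r, hr⟩ := Complex.conj_eq_iff_real.1 h3
    have h4 := h31 y hy
    rw [hr] at h4
    have h5 : r ^ 2 + r + 8 = 0 := by exact_mod_cast h4
    linarith only [h5, sq_nonneg (2 * r + 1)]
  · have h2 := irr_one_eq_charDegree hθ
    rw [h1] at h2
    exact_mod_cast h2.symm
  · have h2 := irr_one_eq_charDegree (Characters.Core.isIrr_conj hθ)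
    rw [h1, map_ofNat] at h2
    exact_mod_cast h2.symm

/-- the degrees -/
def D : Fin 8 → ℕ := ![1, 30875, 61256, 2450240, 4881384, 51684750, 767637, 767637]

theorem D_inj : ∀ i j : Fin 8, i ≠ j → D i = D j → (i = 6 ∧ j = 7) ∨ (i = 7 ∧ j = 6) := by decide +kernel

theorem D_seven : ∀ i : Fin 8, ¬ 7 ∣ D i := by decide +kernel

theorem ten_le {M : Ideal AlgInt} (hM : IsPModular 7 M) : 10 ≤ Nat.card (principalBlock M Spor.Th) := by
  classical
  obtain ⟨P, x, hP, hx, hconj⟩ := exists_sylow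
  choose v hv hd using exists_val P hP (by norm_num) hconj
  have hsq : ∀ χ : IrrCharacter Spor.Th, v χ ^ 2 ≤ 1176 := fun χ => by
    exact_mod_cast sq_le (hv χ) (H871.Th7.card7 x hx)
  have hle : ∀ χ : IrrCharacter Spor.Th, -34 ≤ v χ ∧ v χ ≤ 34 := fun χ => by
    have := hsq χ
    constructor <;> nlinarith only [this]
  obtain ⟨χa, ha⟩ := H399.Two.Th.deg_a
  obtain ⟨χb, hb⟩ := H399.Two.Th.deg_b
  obtain ⟨χc, hc⟩ := H399.Two.Th.deg_c
  obtain ⟨χd, hd'⟩ := H399.Two.Th.deg_d
  obtain ⟨χe, he⟩ := exists_two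
  obtain ⟨θ, θ', hne, ht, ht'⟩ := exists_pair
  let c : Fin 8 → IrrCharacter Spor.Th := ![⟨fun _ => 1, isIrrCharacter_one⟩, χb, χa, χe, χc, χd, θ, θ']
  have hone : charDegree ((⟨fun _ => 1, isIrrCharacter_one⟩ : IrrCharacter Spor.Th) : Spor.Th → ℂ) = 1 := by
    have h2 := irr_one_eq_charDegree (isIrrCharacter_one (G := Spor.Th))
    exact_mod_cast h2.symm
  have hD : ∀ i, charDegree (c i : Spor.Th → ℂ) = D i := by
    intro i
    fin_cases i
    · exact hone
    · exact hb
    · exact ha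
    · exact he
    · exact hc
    · exact hd'
    · exact ht
    · exact ht'
  have hinj : Function.Injective c := by
    intro i j hij
    by_contra hn
    have h1 : D i = D j := by rw [← hD i, ← hD j, hij]
    rcases D_inj i j hn h1 with ⟨rfl, rfl⟩ | ⟨rfl, rfl⟩
    · exact hne hij
    · exact hne hij.symm
  have hval : ∀ i, v (c i) = (![1, 5, 6, -5, 4, -9, 3, 3] : Fin 8 → ℤ) i := by
    intro i
    have h1 := hd (c i)
    rw [hD i] at h1
    have h2 := hle (c i)
    generalize v (c i) = w at h1 h2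
    fin_cases i
    · change ((49 : ℕ) : ℤ) ∣ ((1 : ℕ) : ℤ) - w at h1
      show w = 1
      omega
    · change ((49 : ℕ) : ℤ) ∣ ((30875 : ℕ) : ℤ) - w at h1
      show w = 5
      omega
    · change ((49 : ℕ) : ℤ) ∣ ((61256 : ℕ) : ℤ) - w at h1
      show w = 6
      omega
    · change ((49 : ℕ) : ℤ) ∣ ((2450240 : ℕ) : ℤ) - w at h1
      show w = -5
      omega
    · change ((49 : ℕ) : ℤ) ∣ ((4881384 : ℕ) : ℤ) - w at h1
      show w = 4
      omega
    · change ((49 : ℕ) : ℤ) ∣ ((51684750 : ℕ) : ℤ) - w at h1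
      show w = -9
      omega
    · change ((49 : ℕ) : ℤ) ∣ ((767637 : ℕ) : ℤ) - w at h1
      show w = 3
      omega
    · change ((49 : ℕ) : ℤ) ∣ ((767637 : ℕ) : ℤ) - w at h1
      show w = 3
      omega
  have hsum : ∑ i, (charDegree (c i : Spor.Th → ℂ) : ℤ) * v (c i) = -452760680 := by
    rw [Finset.sum_congr rfl fun i _ => by rw [hD i, hval i]]
    decide +kernel
  refine card_ge hM (by rw [hx]) v hv c hinj (fun i => mem_of hM (hD i) (D_seven i)) ?_ ?_
  · rw [hsum]
    norm_num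
  · intro ψ
    rw [hsum]
    have h1 := hd ψ
    obtain ⟨h2, h3⟩ := hle ψ
    have h4 : (0 : ℤ) ≤ (charDegree (ψ : Spor.Th → ℂ) : ℤ) := Int.natCast_nonneg _
    generalize v ψ = w at *
    generalize (charDegree (ψ : Spor.Th → ℂ) : ℤ) = d at *
    intro h5
    have h6 : ((49 : ℕ) : ℤ) ∣ d - w := h1
    interval_cases w <;> (clear * - h4 h1 h5; omega)

/-- **`l(B₀) ≥ 7` for `Th`, `p = 7`.** -/
theorem seven_le {M : Ideal AlgInt} (hM : IsPModular 7 M) : 7 ≤ blockRank 7 (principalBlock M Spor.Th) := by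
  classical
  obtain ⟨x, hx⟩ := exists_prime_orderOf_dvd_card' (G := Spor.Th) 7 (by rw [card_th]; norm_num)
  have h10 := ten_le hM
  have hx1 : x ≠ 1 := by
    rintro rfl
    rw [orderOf_one] at hx
    omega
  have h3 : blockRank 7 (principalBlock M (centralizer ({x} : Set Spor.Th))) ≤ 3 :=
    rank_cent_le hM hx (H871.Th7.card7 x hx)
      (fun g g' hg hg' => (H871.Th7.conj14 g hg).trans (H871.Th7.conj14 g' hg').symm)
      (fun g g' hg hg' => (H871.Th7.conj28 g hg).trans (H871.Th7.conj28 g' hg').symm)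
      H871.Th7.no56 H871.Th7.c14
  have hk := H634.Cols.card_principal_eq hM {(1 : Spor.Th), x} ?_ ?_
  · rw [Finset.sum_pair (Ne.symm hx1),
      H650.E27.blockRank_centralizer_of_central (one_mem (Subgroup.center Spor.Th))] at hk
    omega
  · intro y hy
    rcases Finset.mem_insert.1 hy with rfl | hy
    · exact ⟨0, by rw [orderOf_one, pow_zero]⟩
    · rw [Finset.mem_singleton.1 hy]
      exact ⟨1, by rw [hx, pow_one]⟩
  · rintro g ⟨k, hk⟩
    by_cases hg : g = 1
    · refine ⟨1, ⟨Finset.mem_insert_self _ _, by rw [hg]⟩, ?_⟩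
      rintro y ⟨-, hy⟩
      rw [hg, isConj_one_right] at hy
      exact hy
    · have h7 := order_of_seven hk hg
      refine ⟨x, ⟨Finset.mem_insert_of_mem (Finset.mem_singleton_self _), conj_seven h7 hx⟩, ?_⟩
      rintro y ⟨hy, hyc⟩
      rcases Finset.mem_insert.1 hy with rfl | hy
      · exfalso
        exact hg (isConj_one_left.1 hyc)
      · exact Finset.mem_singleton.1 hy

/-- a group between `Th` and its automorphism group -/
theorem equiv_of {G : Type u} [Group G] (T : Subgroup G) [T.Normal] (e : T ≃* Spor.Th)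
    (hC : ∀ g : G, (∀ t ∈ T, Commute g t) → g = 1) : Nonempty (G ≃* Spor.Th) := by
  have htop : T = ⊤ := by
    rw [eq_top_iff]
    intro g _
    obtain ⟨k, hk⟩ := KFacts.Th.Main.inner ((e.symm.trans (MulAut.conjNormal g)).trans e)
    have h1 : ((e.symm k : T) : G)⁻¹ * g = 1 := by
      apply hC
      intro t ht
      have h2 : ∀ t : T, MulAut.conjNormal g t = e.symm k * t * (e.symm k)⁻¹ := by
        intro t
        have h3 := DFunLike.congr_fun hk (e t)
        change e (MulAut.conjNormal g (e.symm (e t))) = k * e t * k⁻¹ at h3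
        rw [MulEquiv.symm_apply_apply] at h3
        apply e.injective
        rw [h3, map_mul, map_mul, map_inv, MulEquiv.apply_symm_apply]
      have h4 := congrArg Subtype.val (h2 ⟨t, ht⟩)
      rw [MulAut.conjNormal_apply, Subgroup.coe_mul, Subgroup.coe_mul, Subgroup.coe_inv] at h4
      change g * t * g⁻¹ = ((e.symm k : T) : G) * t * ((e.symm k : T) : G)⁻¹ at h4
      show ((e.symm k : T) : G)⁻¹ * g * t = t * (((e.symm k : T) : G)⁻¹ * g)
      have h5 : g * t = ((e.symm k : T) : G) * t * ((e.symm k : T) : G)⁻¹ * g := by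
        rw [← h4, inv_mul_cancel_right]
      rw [mul_assoc, h5]
      group
    have h2 : g = ((e.symm k : T) : G) := by
      have := congrArg (((e.symm k : T) : G) * ·) h1
      simpa using this
    rw [h2]
    exact (e.symm k).2
  subst htop
  exact ⟨Subgroup.topEquiv.symm.trans e⟩

/-- **ROW (D) of S4879.** -/
theorem row {M : Ideal AlgInt} (hM : IsPModular 7 M) : H741.Lb.Row.{u} 7 M Spor.IsoTh := by
  intro G _ _ T _ hC _ _ _ hT
  obtain ⟨e⟩ := hT
  obtain ⟨f⟩ := equiv_of T e hC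
  rw [H590.RankSum.rank_congr f]
  exact seven_le hM

end Cfsg.Agent.H642.Lb.Th
end

-- part: H741/Lb/Final
section
/-!
# S4879: assembly from the row `E₈(q)` (helper741)

`rowAS` : `RowAS p M` from the row `E₈(q)` (`p = 11`); `goal` : S4879 from it.
-/

set_option autoImplicit false

namespace Cfsg.Agent.H741.Lb

open Cfsg Subgroup

universe u

variable {p : ℕ} [hp : Fact p.Prime] {M : Ideal AlgInt}

/-- **`RowAS` from the row `E₈(q)`.** -/
theorem rowAS (hM : IsPModular p M) (hE8 : p = 11 → Row.{u} p M fun S _ => QE8 S) : H319.LB.RowAS.{u} p M := by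
  have hp' := hp.out
  have hcase : p = 2 ∨ p = 3 ∨ p = 5 ∨ 7 ≤ p := by
    rcases Nat.lt_or_ge p 7 with h | h
    · have h2 := hp'.two_le
      interval_cases p
      · simp
      · simp
      · exact absurd hp' (by decide)
      · simp
      · exact absurd hp' (by decide)
    · exact Or.inr (Or.inr (Or.inr h))
  rcases hcase with rfl | rfl | rfl | h7
  · exact H271.LB.rowAS_two hM
  · exact H319.LB.rowAS_three_of hM
      (fun G _ _ h P => (S4605.result 3 h P).imp id (fun h => ⟨h.2.1, by simpa only [_root_.Nat.reducePow] using h.2.2.1⟩))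
      (fun _ _ _ _ => S0000.result)
      (fun G _ _ h T _ hTC hTp F _ _ n hF hn ⟨e⟩ => H243.LB.psl2_row hM h T hTC hTp hF hn (by norm_num) e)
      (fun G _ _ T _ e => H185.LB.on_row hM T e)
  · exact H710.LB5.rowAS_five_of hM (fun S _ _ hS => by
        haveI := hS
        exact S0000.result)
      (fun X _ _ _ => S0000.result)
      (fun G _ _ h T _ hTC hTp F _ _ n hF hn ⟨e⟩ => H243.LB.psl2_row hM h T hTC hTp hF hn (by norm_num) e)
  · refine rowAS_big h7
      (fun X _ _ hX P => (S4605.result p hX P).resolve_right (by rintro ⟨h | h, -⟩ <;> omega))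
      (fun S _ _ _ n h => H319.One.mainN S0000.result (fun X _ _ _ => S0000.result) h)
      (fun G _ _ T _ hTC hTp hconj F _ _ n hF hn ⟨e⟩ => H243.LB.psl2_row hM hconj T hTC hTp hF hn (by omega) e)
      ?_ ?_ ?_ ?_ hE8 ?_
    · rintro rfl
      exact H642.Lb.Th.row hM
    · rintro rfl
      exact H141.LB.RowB.row_of ⟨OrdDiv.table, fun _ _ _ _ => S0000.result⟩ hM
    · rintro rfl
      exact H23.LB.row_F4 hM
    · rintro rfl
      exact H34.LB.row hM
    · rintro rfl
      exact H743.LB.rowQ hM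

/-- **S4879 from the row `E₈(q)`.** -/
theorem goal (hM : IsPModular p M) (hE8 : p = 11 → Row.{u} p M fun S _ => QE8 S)
    {G : Type u} [Group G] [Finite G] (hdiv : p ∣ Nat.card G) (hconj : H741.One.OneC p G) (P : Sylow p G) :
    H319.LB.Goal p M G P :=
  H319.LB.main_of_row hM (rowAS hM hE8) hdiv hconj P

end Cfsg.Agent.H741.Lb
end

-- part: H596/LB/Abs
section
/-!
# S4879, row E8, p = 11: a second constituent of a projective character in the principal block (helper596)

* `dvd_of_unique` : if `χ₀` is the only member of the principal block with `[χ|U, ψ] ≠ 0` (`U` a `p'`-subgroup, `ψ` linear) and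
  `[χ₀|U, ψ] = 1`, then `p ∣ χ₀(1)` (for `p ∣ |G|`);
* `unique_of_one` : `[1_B^G|U, ψ] = 1` implies that at most one irreducible `χ` has `[χ|U, ψ] ≠ 0` and `[χ, 1_B^G] ≠ 0`.
-/

set_option autoImplicit false
set_option linter.unusedSectionVars false

open scoped ComplexConjugate

namespace Cfsg.Agent.H596.LB

open Cfsg Cfsg.Agent.Blocks Cfsg.Agent.Characters.Core Cfsg.Agent.H439.CC
open Cfsg.Agent.OddOrderCharacters.Clifford

universe u

variable {G : Type u} [Group G] {ℓ : ℕ} {M : Ideal AlgInt}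

/-- the degree of the unique constituent in the principal block of a projective character is divisible by `p` -/
theorem dvd_of_unique [Fintype G] (hM : IsPModular ℓ M) (U : Subgroup G) [Fintype ↥U] (hU : ¬ ℓ ∣ Nat.card U)
    (hG : ℓ ∣ Nat.card G) (ψ : ↥U →* ℂˣ) (χ₀ : IrrCharacter G) (h0 : χ₀ ∈ principalBlock M G)
    (h1 : classInner ((χ₀ : G → ℂ) ∘ U.subtype) (fun u : ↥U => (ψ u : ℂ)) = 1)
    (h2 : ∀ χ : IrrCharacter G, χ ∈ principalBlock M G →
      classInner ((χ : G → ℂ) ∘ U.subtype) (fun u : ↥U => (ψ u : ℂ)) ≠ 0 → χ = χ₀) :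
    ℓ ∣ charDegree (χ₀ : G → ℂ) := by
  classical
  have := finite_irr (G := G)
  have := Fintype.ofFinite (IrrCharacter G)
  have hP : M.IsPrime := Local.isPrime_of_isPModular hM
  have hB : IsPBlock M (principalBlock M G) := ⟨⟨1, isIrr_one⟩, rfl⟩
  have hGC : (Nat.card G : ℂ) ≠ 0 := by exact_mod_cast Nat.card_pos.ne'
  have hUC : (Nat.card U : ℂ) ≠ 0 := by exact_mod_cast Nat.card_pos.ne'
  set B := principalBlock M G with hBdef
  have e1 : ∑ χ : IrrCharacter G, (if χ ∈ B then (χ : G → ℂ) 1 *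
      classInner ((χ : G → ℂ) ∘ U.subtype) (fun u : ↥U => (ψ u : ℂ)) else 0) = (χ₀ : G → ℂ) 1 := by
    rw [Finset.sum_eq_single χ₀]
    · rw [if_pos h0, h1, mul_one]
    · intro χ _ hne
      by_cases hχ : χ ∈ B
      · rw [if_pos hχ]
        by_cases h3 : classInner ((χ : G → ℂ) ∘ U.subtype) (fun u : ↥U => (ψ u : ℂ)) = 0
        · rw [h3, mul_zero]
        · exact absurd (h2 χ hχ h3) hne
      · rw [if_neg hχ]
    · intro hc
      exact absurd (Finset.mem_univ _) hc
  have e2 : ∀ χ : IrrCharacter G, (if χ ∈ B then (χ : G → ℂ) 1 *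
      classInner ((χ : G → ℂ) ∘ U.subtype) (fun u : ↥U => (ψ u : ℂ)) else 0) =
      (Nat.card U : ℂ)⁻¹ * ∑ u : ↥U, (if χ ∈ B then (χ : G → ℂ) 1 * conj ((χ : G → ℂ) (u : G)⁻¹) else 0) *
        conj (ψ u : ℂ) := by
    intro χ
    by_cases hχ : χ ∈ B
    · simp only [if_pos hχ]
      rw [classInner_def, mul_left_comm, Finset.mul_sum]
      congr 1
      refine Finset.sum_congr rfl fun u _ => ?_
      rw [isCharacter_apply_inv (isIrr_isCharacter χ.2), Complex.conj_conj, Function.comp_apply, Subgroup.coe_subtype,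
        mul_assoc]
    · simp only [if_neg hχ, zero_mul, Finset.sum_const_zero, mul_zero]
  have e3 : (χ₀ : G → ℂ) 1 = (Nat.card G : ℂ) * ((Nat.card U : ℂ)⁻¹ * ∑ u : ↥U, blockCoeff B (u : G)⁻¹ *
      conj (ψ u : ℂ)) := by
    rw [Fintype.sum_congr _ _ e2] at e1
    rw [← e1, ← Finset.mul_sum, Finset.sum_comm, mul_left_comm]
    congr 1
    rw [Finset.mul_sum]
    refine Fintype.sum_congr _ _ fun u => ?_
    rw [← Finset.sum_mul, Osima.blockCoeff_eq_sum, ← mul_assoc, ← mul_assoc, mul_inv_cancel₀ hGC, one_mul]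
  have hint : ∀ u : ↥U, IsIntegral ℤ (conj (ψ u : ℂ)) := by
    intro u
    have h5 : (conj (ψ u : ℂ)) ^ Nat.card U = 1 := by
      rw [← map_pow, ← Units.val_pow_eq_pow_val, ← map_pow, pow_card_eq_one', map_one, Units.val_one, map_one]
    exact IsIntegral.of_pow Nat.card_pos (by rw [h5]; exact isIntegral_one)
  have h3 : MemLocalIdeal M ((χ₀ : G → ℂ) 1) := by
    rw [e3]
    refine Local.memLocalIdeal_mul_right ?_ (Local.memLocalRing_mul (Local.memLocalRing_inv_natCast hM hU)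
      (Local.memLocalRing_sum fun u _ => Local.memLocalRing_mul (Osima.memLocalRing_blockCoeff hM hB _)
        (Local.memLocalRing_of_isIntegral (hint u))))
    exact (Local.memLocalIdeal_natCast_iff hM _).2 hG
  rw [Knorr.charDegree_eq χ₀.2] at h3
  exact (Local.memLocalIdeal_natCast_iff hM _).1 h3

theorem mu_eq_classInner [Fintype G] (B : Subgroup G) [Fintype ↥B] (χ : G → ℂ) :
    mu B χ = classInner (χ ∘ B.subtype) (1 : ↥B → ℂ) := by
  rw [mu, classInner_def, finsum_eq_sum_of_fintype]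
  congr 1
  refine Finset.sum_congr rfl fun x _ => ?_
  rw [Pi.one_apply, map_one, mul_one]
  rfl

/-- at most one constituent -/
theorem unique_of_one [Fintype G] (U B : Subgroup G) [Fintype ↥U] [Fintype ↥B] (ψ : ↥U →* ℂˣ)
    (h : classInner (indFun B (1 : ↥B → ℂ) ∘ U.subtype) (fun u : ↥U => (ψ u : ℂ)) = 1) (χ χ' : IrrCharacter G)
    (h1 : classInner ((χ : G → ℂ) ∘ U.subtype) (fun u : ↥U => (ψ u : ℂ)) ≠ 0) (h2 : mu B (χ : G → ℂ) ≠ 0)
    (h1' : classInner ((χ' : G → ℂ) ∘ U.subtype) (fun u : ↥U => (ψ u : ℂ)) ≠ 0) (h2' : mu B (χ' : G → ℂ) ≠ 0) :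
    χ = χ' := by
  classical
  have := finite_irr (G := G)
  have := Fintype.ofFinite (IrrCharacter G)
  have hψ : IsCharacter ↥U (fun u : ↥U => (ψ u : ℂ)) := Cfsg.Agent.Characters.Linear.isCharacter_hom ψ
  have hf : IsCharacter G (indFun B (1 : ↥B → ℂ)) := Cfsg.Agent.OddOrderCharacters.IndRes.isCharacter_indFun B isCharacter_one
  obtain ⟨m, hm⟩ := exists_nat_comb hf
  have hk : ∀ η : IrrCharacter G, ∃ k : ℕ, classInner ((η : G → ℂ) ∘ U.subtype) (fun u : ↥U => (ψ u : ℂ)) = k :=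
    fun η => classInner_isNat (isCharacter_comp U.subtype (isIrr_isCharacter η.2)) hψ
  choose k hk using hk
  have hmm : ∀ η : IrrCharacter G, mu B (η : G → ℂ) ≠ 0 → m η ≠ 0 := by
    intro η hη h0
    apply hη
    have h3 : classInner (indFun B (1 : ↥B → ℂ)) (η : G → ℂ) = m η := by
      rw [hm, classInner_sum_nsmul_irr]
    rw [classInner_indFun B _ _ (isIrr_isClassFunction η.2), h0, Nat.cast_zero] at h3
    rw [mu_eq_classInner, ← classInner_conj_symm]
    have h4 : ((η : G → ℂ) ∘ B.subtype) = fun x : ↥B => (η : G → ℂ) x := rfl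
    rw [h4, h3, map_zero]
  have hsum : ∑ η : IrrCharacter G, m η * k η = 1 := by
    have h3 : (indFun B (1 : ↥B → ℂ) ∘ U.subtype) = ∑ η : IrrCharacter G, (m η : ℂ) • ((η : G → ℂ) ∘ U.subtype) := by
      funext u
      rw [Function.comp_apply, hm, Finset.sum_apply, Finset.sum_apply]
      refine Finset.sum_congr rfl fun η _ => ?_
      rw [Pi.smul_apply, Pi.smul_apply, Function.comp_apply, nsmul_eq_mul, smul_eq_mul]
    rw [h3, classInner_sum_left] at h
    have h4 : ((∑ η : IrrCharacter G, m η * k η : ℕ) : ℂ) = 1 := by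
      rw [← h, Nat.cast_sum]
      refine Finset.sum_congr rfl fun η _ => ?_
      rw [classInner_smul_left, hk, Nat.cast_mul]
    exact_mod_cast h4
  by_contra hne
  have hk1 : k χ ≠ 0 := fun h0 => h1 (by rw [hk, h0, Nat.cast_zero])
  have hk2 : k χ' ≠ 0 := fun h0 => h1' (by rw [hk, h0, Nat.cast_zero])
  have h5 : m χ * k χ + m χ' * k χ' ≤ ∑ η : IrrCharacter G, m η * k η := by
    rw [← Finset.sum_pair (f := fun η : IrrCharacter G => m η * k η) hne]
    exact Finset.sum_le_sum_of_subset (Finset.subset_univ _)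
  have h6 : 1 ≤ m χ * k χ := Nat.one_le_iff_ne_zero.2 (mul_ne_zero (hmm χ h2) hk1)
  have h7 : 1 ≤ m χ' * k χ' := Nat.one_le_iff_ne_zero.2 (mul_ne_zero (hmm χ' h2') hk2)
  omega

end Cfsg.Agent.H596.LB
end

-- part: H596/LB/GG
section
/-!
# S4879, row E8, p = 11: the Gelfand-Graev character (helper596)

* `exists_nd` : a nondegenerate linear character of `U`, for every root group datum (`X i` is a nontrivial `p`-group);
* `inner_B` : `[1_B^Y|U, ψ] = 1`;
* `exists_nonPS` : if `ℓ` divides the indices of all proper standard parabolic subgroups, the principal `ℓ`-block contains a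
  character which is not a constituent of `1_B^Y`.
-/

set_option autoImplicit false
set_option linter.unusedSectionVars false

open scoped ComplexConjugate

namespace Cfsg.Agent.H596.LB

open Cfsg CoxeterSystem Cfsg.Agent.ChevalleyStructure.CoxeterGeom Cfsg.Agent.Tits.Roots Cfsg.Agent.Tits.Core
  Cfsg.Agent.Tits.Exchange Cfsg.Agent.Nodes.Reps Cfsg.Agent.Nodes.BNOf Cfsg.Agent.Nodes.StabComb
  Cfsg.Agent.Nodes.Bruhat Cfsg.Agent.Nodes.OppDec Cfsg.Agent.Nodes.LeviDec
  Cfsg.Agent.Characters.Core Cfsg.Agent.H148.GG Cfsg.Agent.H439.CC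
open Cfsg.Agent.OddOrderCharacters.Clifford
open Cfsg.Agent.H116.RatB0 (hgen_of_GG exists_char_PJ mem_of_alt)

universe u

variable {I W Y : Type*} [Fintype I] [DecidableEq I] [Group W] [Group Y] {M : CoxeterMatrix I}
  {cs : CoxeterSystem M W} {A : I → I → ℤ} {h : IsCartan M A} {p : ℕ} {T : Subgroup Y} {n : I → Y}
  {X : (I → ℤ) → Subgroup Y}

theorem eq_w0_of_rep [Finite W] (h : IsCartan M A) {w : W} (hw : ∀ i, ¬ 0 ≤ rep cs h w (sr i)) : w = w0 cs := by
  have hlt : ∀ i, cs.length (w * cs.simple i) < cs.length w := by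
    intro i
    by_contra hcon
    exact hw i ((lt_iff' cs h w i).1 (lt_of_le_of_ne (not_lt.1 hcon) (cs.length_mul_simple_ne w i).symm))
  have h1 := isLongest_w0 cs
  -- the length of `w0 w⁻¹`
  by_contra hne
  have h2 : w⁻¹ * w0 cs ≠ 1 := fun h3 => hne (inv_mul_eq_one.1 h3)
  obtain ⟨i, hi⟩ := cs.exists_leftDescent_of_ne_one h2
  have hi' : cs.length (cs.simple i * (w⁻¹ * w0 cs)) < cs.length (w⁻¹ * w0 cs) := hi
  have h4 := (h1.2 w⁻¹ (mem_WJ_univ cs _)).2
  have h5 := (h1.2 (cs.simple i * w⁻¹) (mem_WJ_univ cs _)).2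
  have h6 := hlt i
  have h7 : cs.length (cs.simple i * w⁻¹) = cs.length (w * cs.simple i) := by
    rw [← cs.length_inv, mul_inv_rev, inv_inv, cs.inv_simple]
  have h8 : cs.length w⁻¹ = cs.length w := cs.length_inv w
  rw [mul_assoc] at h5
  omega


variable (R : RGD cs h p T n X)

include R

/-- the Mackey terms of `1_B^Y` vanish outside of the big cell -/
theorem mk_eq_zero [Finite W] {ψ : ↥(UJ cs h X Set.univ) →* ℂˣ} [Fintype ↥(UJ cs h X Set.univ)]
    (hψ : Nd cs h X Set.univ ψ) {w : W} (hw : w ≠ w0 cs) {m : Y} (hm : Rp cs R.nsys w m) :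
    _root_.Cfsg.Agent.H148.GG.mk (UJ cs h X Set.univ) (RGD.B cs h T X) 1 ψ m = 0 := by
  classical
  obtain ⟨i, hi⟩ : ∃ i, 0 ≤ rep cs h w⁻¹ (sr i) := by
    by_contra hcon
    push Not at hcon
    have h1 := eq_w0_of_rep h hcon
    apply hw
    rw [← inv_inv w, h1, w0_inv]
  obtain ⟨v, hv', hv, hne⟩ := hψ.ne i (Set.mem_univ i)
  have h1 : m⁻¹ * v * m ∈ RGD.B cs h T X := RGD.U_le_B (RGD.le_Sup (S := RGD.Pos cs h)
    ⟨(isRoot_sr cs h i).act _, hi⟩ (R.conj_mem' hm (isRoot_sr cs h i) hv))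
  have h2 : _root_.Cfsg.Agent.H148.GG.mk (UJ cs h X Set.univ) (RGD.B cs h T X) 1 ψ m =
      conj (ψ ⟨v, hv'⟩ : ℂ) * _root_.Cfsg.Agent.H148.GG.mk (UJ cs h X Set.univ) (RGD.B cs h T X) 1 ψ m := by
    conv_lhs => rw [H148.GG.mk]
    rw [H148.GG.mk, Finset.mul_sum, ← Equiv.sum_comp (Equiv.mulLeft (⟨v, hv'⟩ : ↥(UJ cs h X Set.univ)))]
    refine Finset.sum_congr rfl fun u _ => ?_
    have e1 : ((Equiv.mulLeft (⟨v, hv'⟩ : ↥(UJ cs h X Set.univ)) u : ↥(UJ cs h X Set.univ)) : Y) = v * u := rfl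
    have e2 : ψ (Equiv.mulLeft (⟨v, hv'⟩ : ↥(UJ cs h X Set.univ)) u) = ψ ⟨v, hv'⟩ * ψ u := map_mul ψ _ _
    have e3 : m⁻¹ * (v * (u : Y)) * m = (m⁻¹ * v * m) * (m⁻¹ * u * m) := by group
    rw [e1, e2, e3, Units.val_mul, map_mul]
    by_cases hu : m⁻¹ * (u : Y) * m ∈ RGD.B cs h T X
    · rw [extendByZero_of_mem _ _ hu, extendByZero_of_mem _ _ (mul_mem h1 hu), Pi.one_apply, Pi.one_apply]
      ring
    · rw [extendByZero_of_notMem _ _ hu, extendByZero_of_notMem]
      · ring
      · intro h3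
        apply hu
        have := mul_mem (inv_mem h1) h3
        rwa [inv_mul_cancel_left] at this
  have h3 : (1 - conj (ψ ⟨v, hv'⟩ : ℂ)) * _root_.Cfsg.Agent.H148.GG.mk (UJ cs h X Set.univ) (RGD.B cs h T X) 1 ψ m = 0 := by
    rw [sub_mul, one_mul, ← h2, sub_self]
  rcases mul_eq_zero.1 h3 with h4 | h4
  · exfalso
    apply hne
    have h5 : conj (ψ ⟨v, hv'⟩ : ℂ) = 1 := (sub_eq_zero.1 h4).symm
    have h6 : (ψ ⟨v, hv'⟩ : ℂ) = 1 := by
      rw [← Complex.conj_conj (ψ ⟨v, hv'⟩ : ℂ), h5, map_one]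
    exact Units.ext h6
  · exact h4

/-- **`[1_B^Y|U, ψ] = 1`** -/
theorem inner_B [Finite W] [Fintype Y] (hG : GG cs h T X = ⊤) {ψ : ↥(UJ cs h X Set.univ) →* ℂˣ}
    [Fintype ↥(UJ cs h X Set.univ)] [Fintype ↥(RGD.B cs h T X)] (hψ : Nd cs h X Set.univ ψ) :
    classInner (indFun (RGD.B cs h T X) (1 : ↥(RGD.B cs h T X) → ℂ) ∘ (UJ cs h X Set.univ).subtype)
      (fun u : ↥(UJ cs h X Set.univ) => (ψ u : ℂ)) = 1 := by
  classical
  obtain ⟨k, hk⟩ := exists_rp cs R.nsys (w0 cs)
  have hcl : IsClassFunction ↥(RGD.B cs h T X) (1 : ↥(RGD.B cs h T X) → ℂ) := fun _ _ => rfl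
  have : Fintype (ds (UJ cs h X Set.univ) (RGD.B cs h T X) k) := Fintype.ofFinite _
  have hone : ∀ u : ↥(UJ cs h X Set.univ), k⁻¹ * (u : Y) * k ∈ RGD.B cs h T X → u = 1 := by
    intro u hu
    have hu1 : (u : Y) ∈ RGD.Sup X (RGD.Pos cs h) := UJ_univ (cs := cs) (h := h) (X := X) ▸ u.2
    have h1 := mem_PW_of_conj R hk hu1 hu
    have h2 : PW cs h (w0 cs)⁻¹ = ∅ := by
      rw [Set.eq_empty_iff_forall_notMem]
      rintro x ⟨hx, h0, h0'⟩
      rw [w0_inv] at h0'
      exact (hx.act (w0 cs)).not_pos_neg h0' (rep_w0_nonpos hx h0)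
    rw [h2, Sup_empty, Subgroup.mem_bot] at h1
    exact Subtype.ext h1
  rw [classInner_res_ind (UJ cs h X Set.univ) (RGD.B cs h T X) hcl ψ k ?_]
  · have h3 : _root_.Cfsg.Agent.H148.GG.mk (UJ cs h X Set.univ) (RGD.B cs h T X) 1 ψ k = 1 := by
      rw [H148.GG.mk, Finset.sum_eq_single 1]
      · rw [map_one, Units.val_one, map_one, mul_one, extendByZero_of_mem _ _ (by
          rw [Subgroup.coe_one, mul_one, inv_mul_cancel]; exact one_mem _), Pi.one_apply]
      · intro u _ hu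
        rw [extendByZero_of_notMem _ _ fun h4 => hu (hone u h4), zero_mul]
      · intro hc
        exact absurd (Finset.mem_univ _) hc
    have h4 : Fintype.card (ds (UJ cs h X Set.univ) (RGD.B cs h T X) k) = 1 := by
      rw [Fintype.card_eq_one_iff]
      refine ⟨1, fun y => Subtype.ext ?_⟩
      exact hone y.1 y.2
    rw [h3, h4, Nat.cast_one, inv_one, one_mul]
  · intro x hx
    have hxL : x ∈ LJ cs h T X Set.univ := by
      rw [LJ_univ, hG]
      trivial
    obtain ⟨w, -, u₁, hu₁, m, hm, u₂, hu₂, rfl⟩ := exists_UNU R hxL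
    have hu₂B : u₂ ∈ RGD.B cs h T X := by
      rw [UJ_univ] at hu₂
      exact RGD.U_le_B hu₂
    rw [mk_mul _ _ hcl ψ hu₁ hu₂B]
    refine mk_eq_zero R hψ ?_ hm
    rintro rfl
    apply hx
    have h5 : k⁻¹ * m ∈ T := by
      have := hk.inv.mul hm
      rw [inv_mul_cancel] at this
      exact this.mem_of_one
    refine ⟨u₁, hu₁, k⁻¹ * m * u₂, mul_mem (RGD.T_le_B h5) hu₂B, by group⟩

/-- a nondegenerate linear character -/
theorem exists_nd [Finite W] [Finite Y] [Fact p.Prime] : ∃ ψ : ↥(UJ cs h X Set.univ) →* ℂˣ, Nd cs h X Set.univ ψ := by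
  classical
  have hex : ∀ i, ∃ f : ↥(X (sr i)) →* ℂˣ, f ≠ 1 := by
    intro i
    have hpg := R.pgrp i
    have hnt : Nontrivial ↥(X (sr i)) := by
      rw [Subgroup.nontrivial_iff_ne_bot]
      intro h0
      apply R.notp i
      have h1 : X (-sr i) = ⊥ := by
        rw [← rep_simple_sr (h := h) (cs := cs) i, ← R.conj i _ (isRoot_sr cs h i), h0]
        exact Subgroup.map_bot _
      rw [h0, h1, sup_bot_eq]
      exact IsPGroup.of_bot
    have hnil := hpg.isNilpotent
    have hlt := Group.IsSolvable.commutator_lt_top_of_nontrivial ↥(X (sr i))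
    obtain ⟨a, -, ha⟩ := SetLike.exists_of_lt hlt
    have hne : Abelianization.of a ≠ 1 := by
      intro h1
      apply ha
      rw [← Abelianization.ker_of]
      exact h1
    obtain ⟨φ, hφ⟩ := CommGroup.exists_apply_ne_one_of_hasEnoughRootsOfUnity (Abelianization ↥(X (sr i))) ℂ hne
    refine ⟨φ.comp Abelianization.of, fun h1 => hφ ?_⟩
    exact DFunLike.congr_fun h1 a
  choose f hf using hex
  refine ⟨(∏ i, (f i).comp (H40.OC.cor R i)).comp (Subgroup.inclusion (UJ_le_U Set.univ)), ?_, ?_⟩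
  · intro x hx hxs u hu' hu
    rw [MonoidHom.comp_apply, MonoidHom.finsetProd_apply]
    refine Finset.prod_eq_one fun i _ => ?_
    rw [MonoidHom.comp_apply]
    have e : H40.OC.cor R i (Subgroup.inclusion (Cfsg.Agent.Nodes.Bruhat.UJ_le_U Set.univ) ⟨u, hu'⟩) = 1 :=
      H40.OC.cor_V R i (RGD.le_Sup (S := RGD.PosNe cs h i) ⟨hx.1, hx.2.1, hxs i⟩ hu) _
    rw [e, map_one]
  · intro i _
    obtain ⟨u, hu⟩ : ∃ u, f i u ≠ 1 := by
      by_contra hcon
      push Not at hcon
      exact hf i (MonoidHom.ext hcon)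
    have h2 : (u : Y) ∈ UJ cs h X Set.univ := RGD.le_Sup (S := PosJ cs h Set.univ) (sr_mem_PosJ (Set.mem_univ i)) u.2
    refine ⟨u, h2, u.2, ?_⟩
    rw [MonoidHom.comp_apply, MonoidHom.finsetProd_apply, Finset.prod_eq_single i]
    · rw [MonoidHom.comp_apply]
      have e : H40.OC.cor R i (Subgroup.inclusion (Cfsg.Agent.Nodes.Bruhat.UJ_le_U Set.univ) ⟨u, h2⟩) = u :=
        H40.OC.cor_X R i u.2 _
      rw [e]
      exact hu
    · intro j _ hj
      rw [MonoidHom.comp_apply]
      have e : H40.OC.cor R j (Subgroup.inclusion (Cfsg.Agent.Nodes.Bruhat.UJ_le_U Set.univ) ⟨u, h2⟩) = 1 :=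
        H40.OC.cor_ne R hj u.2 _
      rw [e, map_one]
    · intro hc
      exact absurd (Finset.mem_univ i) hc

/-- **A member of the principal block outside of the principal series**, if `ℓ` divides the indices of all proper
standard parabolic subgroups. -/
theorem exists_nonPS [Finite W] [Finite Y] [hp : Fact p.Prime] [Nonempty I] (hG : GG cs h T X = ⊤) {ℓ : ℕ}
    [hl : Fact ℓ.Prime] (hlp : ℓ ≠ p) {MM : Ideal AlgInt} (hM : IsPModular ℓ MM)
    (hJ : ∀ J : Finset I, J ≠ Finset.univ → ℓ ∣ (PJ cs h T X (J : Set I)).index) :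
    ∃ χ : IrrCharacter Y, χ ∈ principalBlock MM Y ∧ ∀ J : Set I, mu (PJ cs h T X J) (χ : Y → ℂ) = 0 := by
  classical
  have := Fintype.ofFinite Y
  obtain ⟨h1, h2⟩ := H167.AltRGD.exists_char_alt R (hgen_of_GG R hG)
  simp only [H116.RatB0.sup_eq_PJ R hG] at h1 h2
  obtain ⟨χ, hχ⟩ : ∃ χ : IrrCharacter Y, (χ : Y → ℂ) = fun g => ∑ K ∈ (Finset.univ : Finset I).powerset,
      (-1 : ℂ) ^ K.card * fixedPointCharacter (PJ cs h T X (K : Set I)) g := ⟨⟨_, h1⟩, rfl⟩
  have hval : ∀ b ∈ RGD.B cs h T X, (χ : Y → ℂ) b =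
      (Nat.card {u : RGD.Sup X (RGD.Pos cs h) // (u : Y)⁻¹ * b * u ∈ T} : ℂ) := fun b hb => by
    rw [hχ]; exact h2 b hb
  have hdeg : charDegree (χ : Y → ℂ) = Nat.card (RGD.Sup X (RGD.Pos cs h)) := by
    have h3 : (charDegree (χ : Y → ℂ) : ℂ) = (χ : Y → ℂ) 1 := (Blocks.Knorr.charDegree_eq χ.2).symm
    rw [hval 1 (one_mem _)] at h3
    have h4 : charDegree (χ : Y → ℂ) = Nat.card {u : RGD.Sup X (RGD.Pos cs h) // (u : Y)⁻¹ * 1 * u ∈ T} := by
      exact_mod_cast h3
    rw [h4]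
    exact Nat.card_congr ⟨fun u => u.1, fun u => ⟨u, by rw [mul_one, inv_mul_cancel]; exact one_mem T⟩, fun u => rfl,
      fun u => rfl⟩
  have hnd : ¬ ℓ ∣ Nat.card (RGD.Sup X (RGD.Pos cs h)) := by
    obtain ⟨k, hk⟩ := IsPGroup.iff_card.1 R.isPGroup_Upos
    rw [hk]
    intro h4
    exact hlp ((Nat.prime_dvd_prime_iff_eq hl.out hp.out).1 (hl.out.dvd_of_dvd_pow h4))
  have hmem : χ ∈ principalBlock MM Y := by
    refine mem_of_alt hM (Finset.univ : Finset I).powerset (fun K => (-1 : ℤ) ^ K.card)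
      (fun K => PJ cs h T X (K : Set I)) χ ?_ (by rw [hdeg]; exact hnd) ?_
    · intro g
      rw [hχ]
      refine Finset.sum_congr rfl fun K _ => ?_
      push_cast
      rfl
    · intro K _
      by_cases hK : K = Finset.univ
      · refine Or.inr ?_
        rw [hK, Finset.coe_univ, H554.RG.PJ_univ R hG]
      · exact Or.inl (hJ K hK)
  obtain ⟨ψ, hψ⟩ := exists_nd R
  have : Fintype ↥(UJ cs h X Set.univ) := Fintype.ofFinite _
  have : Fintype ↥(RGD.B cs h T X) := Fintype.ofFinite _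
  have hUU : Nat.card ↥(UJ cs h X Set.univ) = Nat.card (RGD.Sup X (RGD.Pos cs h)) := by rw [UJ_univ]
  have hUC : (Nat.card ↥(UJ cs h X Set.univ) : ℂ) ≠ 0 := by exact_mod_cast Nat.card_pos.ne'
  have hu : ∀ u : ↥(UJ cs h X Set.univ), u ≠ 1 → (χ : Y → ℂ) u = 0 := by
    intro u hu
    have hu1 : (u : Y) ∈ RGD.Sup X (RGD.Pos cs h) := UJ_univ (cs := cs) (h := h) (X := X) ▸ u.2
    rw [hval u (RGD.U_le_B hu1)]
    have h5 : IsEmpty {v : RGD.Sup X (RGD.Pos cs h) // (v : Y)⁻¹ * (u : Y) * v ∈ T} := by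
      refine ⟨fun v => hu ?_⟩
      have h60 : ((v.1 : Y)⁻¹ * (u : Y) * v.1) ∈ RGD.Sup X (RGD.Pos cs h) :=
        mul_mem (mul_mem (inv_mem v.1.2) hu1) v.1.2
      have h6 : ((v.1 : Y)⁻¹ * (u : Y) * v.1) ∈ RGD.Sup X (RGD.Pos cs h) ⊓ T := ⟨h60, v.2⟩
      rw [U_inf_T R, Subgroup.mem_bot] at h6
      apply Subtype.ext
      have h7 : (u : Y) = v.1 * ((v.1 : Y)⁻¹ * (u : Y) * v.1) * (v.1 : Y)⁻¹ := by group
      rw [h7, h6, mul_one, mul_inv_cancel]
      rfl
    rw [Nat.card_of_isEmpty, Nat.cast_zero]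
  have h0 : (χ : Y → ℂ) 1 = (Nat.card ↥(UJ cs h X Set.univ) : ℂ) := by
    rw [Blocks.Knorr.charDegree_eq χ.2, hdeg, hUU]
  have hinn : classInner ((χ : Y → ℂ) ∘ (UJ cs h X Set.univ).subtype) (fun u : ↥(UJ cs h X Set.univ) => (ψ u : ℂ)) = 1 := by
    rw [classInner_def, Finset.sum_eq_single 1]
    · rw [Function.comp_apply, Subgroup.coe_subtype, Subgroup.coe_one, h0, map_one, Units.val_one, map_one, mul_one,
        inv_mul_cancel₀ hUC]
    · intro u _ hne
      rw [Function.comp_apply, Subgroup.coe_subtype, hu u hne, zero_mul]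
    · intro hc
      exact absurd (Finset.mem_univ _) hc
  have hmuB : mu (RGD.B cs h T X) (χ : Y → ℂ) ≠ 0 := by
    have hBC : (Nat.card ↥(RGD.B cs h T X) : ℂ) ≠ 0 := by exact_mod_cast Nat.card_pos.ne'
    rw [mu, finsum_eq_sum_of_fintype]
    refine mul_ne_zero (inv_ne_zero hBC) ?_
    rw [Fintype.sum_congr _ _ fun b : ↥(RGD.B cs h T X) => hval b b.2, ← Nat.cast_sum]
    intro h8
    have h9 : ∑ b : ↥(RGD.B cs h T X), Nat.card {u : RGD.Sup X (RGD.Pos cs h) // (u : Y)⁻¹ * (b : Y) * u ∈ T} = 0 := by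
      exact_mod_cast h8
    rw [Finset.sum_eq_zero_iff] at h9
    have h10 := h9 1 (Finset.mem_univ _)
    have h11 : 0 < Nat.card {u : RGD.Sup X (RGD.Pos cs h) // (u : Y)⁻¹ * ((1 : ↥(RGD.B cs h T X)) : Y) * u ∈ T} := by
      have : Nonempty {u : RGD.Sup X (RGD.Pos cs h) // (u : Y)⁻¹ * ((1 : ↥(RGD.B cs h T X)) : Y) * u ∈ T} :=
        ⟨⟨1, by rw [Subgroup.coe_one, Subgroup.coe_one, inv_one, mul_one, mul_one]; exact one_mem T⟩⟩
      exact Nat.card_pos
    omega
  by_contra hcon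
  push Not at hcon
  have hall : ∀ η : IrrCharacter Y, η ∈ principalBlock MM Y → mu (RGD.B cs h T X) (η : Y → ℂ) ≠ 0 := by
    intro η hη
    obtain ⟨J, hJ'⟩ := hcon η hη
    exact mu_mono η B_le_PJ hJ'
  have hYl : ℓ ∣ Nat.card Y := by
    refine (hJ ∅ ?_).trans (Subgroup.index_dvd_card _)
    intro h12
    obtain ⟨i⟩ := ‹Nonempty I›
    have := Finset.mem_univ i
    rw [← h12] at this
    exact absurd this (Finset.notMem_empty i)
  have h13 := dvd_of_unique hM (UJ cs h X Set.univ) (by rw [hUU]; exact hnd) hYl ψ χ hmem hinn fun η hη h14 =>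
    unique_of_one (UJ cs h X Set.univ) (RGD.B cs h T X) ψ (inner_B R hG hψ) η χ h14 (hall η hη)
      (by rw [hinn]; exact one_ne_zero) hmuB
  rw [hdeg] at h13
  exact hnd h13

end Cfsg.Agent.H596.LB
end

-- part: H596/LB/GGE8
section
/-!
# S4879, row E8, p = 11: a member of the principal block outside of the principal series (helper596)

* `exists_nonPS_E8` : `ℓ ∣ Φ_m(q)`, `m ∈ {2, 3, 4, 5, 6, 8, 10, 12, 15, 20, 24, 30}`.
-/

set_option autoImplicit false
set_option linter.unusedSectionVars false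

namespace Cfsg.Agent.H596.LB

open Cfsg CoxeterSystem Cfsg.Agent.ChevalleyStructure.CoxeterGeom Cfsg.Agent.Tits.Roots Cfsg.Agent.Tits.Core
  Cfsg.Agent.Tits.RootComb Cfsg.Agent.Nodes.Reps Cfsg.Agent.Nodes.BNOf
  Cfsg.Agent.Nodes.StabComb Cfsg.Agent.Nodes.Bruhat Cfsg.Agent.Nodes.LeviDec Cfsg.Agent.H35.Poin
  Cfsg.Agent.H35.PoinNum Cfsg.Agent.H35.ExcIdx Cfsg.Agent.H134.StrP
  Cfsg.Agent.ChevalleyStructure.CoxeterGeomTypes Cfsg.Lie
open Cfsg.Agent.Nodes.RGDChev Cfsg.Agent.ChevalleyStructure.NPerm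
open Cfsg.Agent.H116.RatB0
open Cfsg.Agent.H554.RG
open Cfsg.Agent.H439.CC (mu)

section Gen

universe u

variable {D : ChevalleyDatum} {l : ℕ} {M : CoxeterMatrix (Fin l)} (hp : IsType D l M) (K : Type u) [Field K]
  [Fintype K] {r f : ℕ} (hr : r.Prime) (hf : f ≠ 0) (hK : Fintype.card K = r ^ f) [CharP K r]

include hr hf hK in
theorem nonPS_of_parOrd [Nonempty (Fin l)] {g : ℕ} (hg : g ∣ r ^ f - 1)
    (hT : g * Nat.card (D.diagonalSubgroup K) = (r ^ f - 1) ^ D.rank) {dS : List ℕ} {N : ℕ}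
    (hdS : ∀ d ∈ dS, 0 < d ∧ d < N) (hS : ∃ b, g * Nat.card (D.group K) = r ^ b * pr (r ^ f) dS)
    {p m : ℕ} [hp' : Fact p.Prime] (hpr : p ≠ r) (hpm : (p : ℤ) ∣ E (r ^ f) m) (hm : m < N)
    (hall : ∀ k : Fin l, ∃ (J : List (Fin l)) (dJ : List ℕ), (∀ j, j ∈ J ↔ j ≠ k) ∧
      ((∀ (_ : Finite M.Group), RGD M.toCoxeterSystem hp.isCartan r (TT D K)
        (fun i => (⟨nn hp K i, nn_mem_group hp i⟩ : ↥(D.group K))) (XX D l K) →
        (∀ i, Nat.card (XX D l K (sr i)) = r ^ f) →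
        ParOrd M.toCoxeterSystem hp.isCartan (TT D K) (XX D l K) (r ^ f) l J dJ)) ∧
      (∀ d ∈ dJ, 0 < d ∧ d < N) ∧ (∀ m < N, cnt dJ m ≤ cnt dS m) ∧ cnt dJ m < cnt dS m)
    {MM : Ideal AlgInt} (hM : IsPModular p MM) :
    ∃ χ : IrrCharacter (D.group K), χ ∈ principalBlock MM (D.group K) ∧
      ∀ J : Set (Fin l), _root_.Cfsg.Agent.H439.CC.mu (PJ M.toCoxeterSystem hp.isCartan (TT D K) (XX D l K) J) (χ : D.group K → ℂ) = 0 := by
  have : Fact r.Prime := ⟨hr⟩
  have hfin := finite_W hp M.toCoxeterSystem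
  have hR := rgd (K := K) hp M.toCoxeterSystem r
  have h2 := two_le hr hf
  have hc : ∀ i, Nat.card (XX D l K (sr i)) = r ^ f := fun i => by
    rw [card_XX hp K M.toCoxeterSystem (isRoot_sr _ _ i), Nat.card_eq_fintype_card, hK]
  refine exists_nonPS hR (GG_eq_top hp K _) hpr hM fun J hJ' => ?_
  obtain ⟨k, hk⟩ : ∃ k, k ∉ J := by
    by_contra hcon
    push Not at hcon
    exact hJ' (Finset.eq_univ_iff_forall.2 hcon)
  have hidx : p ∣ (PJ M.toCoxeterSystem hp.isCartan (TT D K) (XX D l K) {j | j ≠ k}).index := by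
    obtain ⟨J, dJ, e1, e2, e3, e4, e5⟩ := hall k
    have h3 : ({j | j ≠ k} : Set (Fin l)) = {j | j ∈ J} := by
      ext j
      exact (e1 j).symm
    rw [h3]
    exact dvd_idx h2 hdS e3 (idx_of_parOrd hp K hr hf hK _ hg hT (fun d hd => (hdS d hd).1) hS (e2 hfin hR hc)) e4 hpm hm e5
  refine hidx.trans (Subgroup.index_dvd_of_le (PJ_mono hR ?_))
  intro j hj hjk
  subst hjk
  exact hk hj

end Gen

universe u

variable {K : Type u} [Field K] [Fintype K] {p : ℕ} [Fact p.Prime] (hpK : (p : K) ≠ 0)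

include hpK in
/-- **The eleventh member for `E₈(q)`.** -/
theorem exists_nonPS_E8 {m : ℕ} (hm : m ∈ [2, 3, 4, 5, 6, 8, 10, 12, 15, 20, 24, 30])
    (hd : (p : ℤ) ∣ E (Fintype.card K) m) {MM : Ideal AlgInt} (hM : IsPModular p MM) :
    ∃ χ : IrrCharacter (chevE8.group K), χ ∈ principalBlock MM (chevE8.group K) ∧
      ∀ J : Set (Fin 8), _root_.Cfsg.Agent.H439.CC.mu (PJ CoxeterMatrix.E₈.toCoxeterSystem hpE8.isCartan (TT chevE8 K) (XX chevE8 8 K) J)
        (χ : chevE8.group K → ℂ) = 0 := by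
  obtain ⟨r, f, _, hr, hf, hK⟩ := exists_pow K
  rw [hK] at hd
  have h2 := two_le hr hf
  refine nonPS_of_parOrd hpE8 K hr hf hK (g := 1) (one_dvd _)
    (by rw [← hK]; exact Cfsg.Agent.S1035.result rfl (chevE8, 1) (by simp only [_root_.List.mem_cons, _root_.Prod.mk.injEq, _root_.and_true, _root_.List.not_mem_nil, _root_.or_false, _root_.true_or, _root_.or_true]))
    (dS := [2, 8, 12, 14, 18, 20, 24, 30]) (N := 31) (by decide) ⟨f * 120, ?_⟩ (ne_of_cast K hpK) hd ?_ ?_ hM
  · have h3 := Cfsg.Agent.S1065.result hK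
    rw [pow_mul]
    simp only [pr_cons, pr_nil]
    rw [one_mul, h3]
    ring
  · clear hd; revert m; decide
  · intro k
    fin_cases k
    · exact ⟨_, _, by decide, fun _ R hs => oE8_1234567 R h2 hs, by decide, by decide +kernel, by clear hd; revert m; decide⟩
    · exact ⟨_, _, by decide, fun _ R hs => oE8_0234567 R h2 hs, by decide, by decide +kernel, by clear hd; revert m; decide⟩
    · exact ⟨_, _, by decide, fun _ R hs => oE8_0134567 R h2 hs, by decide, by decide +kernel, by clear hd; revert m; decide⟩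
    · exact ⟨_, _, by decide, fun _ R hs => oE8_0124567 R h2 hs, by decide, by decide +kernel, by clear hd; revert m; decide⟩
    · exact ⟨_, _, by decide, fun _ R hs => oE8_0123567 R h2 hs, by decide, by decide +kernel, by clear hd; revert m; decide⟩
    · exact ⟨_, _, by decide, fun _ R hs => oE8_0123467 R h2 hs, by decide, by decide +kernel, by clear hd; revert m; decide⟩
    · exact ⟨_, _, by decide, fun _ R hs => oE8_0123457 R h2 hs, by decide, by decide +kernel, by clear hd; revert m; decide⟩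
    · exact ⟨_, _, by decide, fun _ R hs => oE8_0123456 R h2 hs, by decide, by decide +kernel, by clear hd; revert m; decide⟩

end Cfsg.Agent.H596.LB
end

private theorem dce_1dfdd62bab4f : _root_.True := by
  try have : _root_.True := by simp only [_root_.Cfsg.Agent.H148.GG.mk.eq_1]
  exact _root_.True.intro
end

-- part: S4879
section
prune_inst 0x303051447f2212000018009263003e72f6000192006b8400ece003060b098b62a9032f20aba011090088a2c410340028130000f00200000000200c00011d01a088810602b129a00c960019800084000000000000000000000000000000000004000000000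
set_option linter.all false
open scoped Cfsg.Agent.FastGrp

-- part: H23/LB/CertTen
section
/-!
# S4879, row `E₈(q)`, `p = 11`: the certificate for `q` of order 10 (helper23)

`cert_ten` : the eleven members of the principal block of helper632's `ten_E8` in the form of helper970's `Cert`.
-/

set_option autoImplicit false

namespace Cfsg.Agent.H23.LB

open Cfsg Cfsg.Lie

universe u v

theorem cert_ten (K : Type v) [Field K] [Fintype K] {M : Ideal AlgInt} (hM : IsPModular 11 M)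
    (hd : orderOf ((Fintype.card K : ℕ) : ZMod 11) = 10) : H970.LB.E8.Cert M K := by
  have h11 : Fact (Nat.Prime 11) := ⟨by norm_num⟩
  have hpK : ¬ 11 ∣ Fintype.card K := by
    intro h
    rw [(ZMod.natCast_eq_zero_iff _ _).2 h, orderOf_eq_zero_iff'.2 (fun n hn => by
      rw [zero_pow hn.ne']; exact zero_ne_one)] at hd
    exact absurd hd (by norm_num)
  obtain ⟨P, χ, h1, h2, -, h3, h4⟩ := H632.LB.Val.Join.ten_E8 K hM hpK hd fun L hL =>
    H970.LB.E8.not_dvd_ten K hd (J := (L : Set (Fin 8))) 3 (fun h => by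
      rcases hL with hL | hL
      · exact absurd (hL (Finset.mem_coe.1 h)) (by decide)
      · exact absurd (hL (Finset.mem_coe.1 h)) (by decide)) (by decide) (by decide)
  exact ⟨11, P, χ, le_rfl, fun i => Or.inr (let ⟨L, hL⟩ := h2 i; ⟨(L : Set (Fin 8)), hL⟩), h1, h3, h4⟩

end Cfsg.Agent.H23.LB
end

-- part: H632/LB/Five
section
/-!
# `E₈`, `11 ∣ Φ₅(q)`: the 10 x 10 matrices (helper632, for S4879; made by a program)

* `ent (V, b) K` : the multiplicity at `K` of a member with table `V` (`b = false`) or of its dual (`b = true`);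
* `detC` : `1, 8, 84, 112, 567, 1344` and the duals of `1, 84, 567, 1344`;
* `detA` : `1, 84, 567, 1344, 28` and the duals;
* `det_snoc` : one more row and column.
-/

set_option autoImplicit false
set_option linter.unusedSectionVars false
set_option maxRecDepth 20000

namespace Cfsg.Agent.H632.LB.Val.Five

open Cfsg.Agent.H632.LB.Val.Mat

/-- a column: a table and whether the dual is meant -/
def ent (c : ℕ × Bool) (K : Finset (Fin 8)) : ℤ := if c.2 then dl c.1 K else (look c.1 K : ℤ)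

/-- a matrix -/
def mk10 (L : List (List ℤ)) : Matrix (Fin 10) (Fin 10) ℤ := Matrix.of fun i j => (L.getD i []).getD j 0

theorem det_ne10 {A B : Matrix (Fin 10) (Fin 10) ℤ} {d : ℤ} (hd : d ≠ 0)
    (h : ∀ i j, (∑ k, A i k * B k j) = if i = j then d else 0) : A.det ≠ 0 := by
  have h1 : A * B = Matrix.diagonal fun _ => d := by
    ext i j
    rw [Matrix.mul_apply, h, Matrix.diagonal_apply]
  intro h2
  have h3 := congrArg Matrix.det h1
  rw [Matrix.det_mul, h2, zero_mul, Matrix.det_diagonal, Finset.prod_const] at h3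
  exact pow_ne_zero _ hd h3.symm

/-- one more row and column -/
theorem det_snoc {n : ℕ} {B : Matrix (Fin (n + 1)) (Fin (n + 1)) ℂ} (h0 : ∀ i : Fin n, B i.castSucc (Fin.last n) = 0)
    (h1 : B (Fin.last n) (Fin.last n) ≠ 0) (h2 : (B.submatrix Fin.castSucc Fin.castSucc).det ≠ 0) : B.det ≠ 0 := by
  rw [Matrix.det_succ_column B (Fin.last n), Fin.sum_univ_castSucc,
    Finset.sum_eq_zero (fun i _ => by rw [h0, mul_zero, zero_mul]), zero_add]
  refine mul_ne_zero (mul_ne_zero (pow_ne_zero _ (neg_ne_zero.2 one_ne_zero)) h1) ?_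
  rw [Fin.succAbove_last]
  exact h2

/-- the sets of nodes for `C` -/
def rowsC : Fin 10 → Finset (Fin 8) :=
  ![∅, {0}, {0, 1}, {0, 2}, {0, 1, 2}, {0, 1, 4}, {0, 1, 2, 4}, {0, 2, 4, 5}, {0, 4, 5, 6}, {0, 1, 2, 4, 5}]

theorem inn_rowsC : ∀ i, Inn (rowsC i) := by decide +kernel

/-- the columns: `1, 8, 84, 112, 567, 1344` and the duals of `1, 84, 567, 1344` -/
def colC : Fin 10 → ℕ × Bool := ![(V1, false), (V8, false), (V84, false), (V112, false), (V567, false), (V1344, false),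
  (V1, true), (V84, true), (V567, true), (V1344, true)]

/-- the matrix -/
def EM (rows : Fin 10 → Finset (Fin 8)) (col : Fin 10 → ℕ × Bool) : Matrix (Fin 10) (Fin 10) ℤ :=
  Matrix.of fun i j => ent (col j) (rows i)

/-- the matrix for `C` -/
def LC : List (List ℤ) :=
  [[1, 8, 84, 112, 567, 1344, 1, 84, 567, 1344],
    [1, 7, 63, 84, 378, 840, 0, 21, 189, 504],
    [1, 6, 47, 62, 246, 520, 0, 5, 57, 184],
    [1, 6, 42, 57, 216, 420, 0, 0, 27, 84],
    [1, 5, 31, 41, 135, 255, 0, 0, 6, 29],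
    [1, 5, 35, 45, 156, 320, 0, 1, 15, 64],
    [1, 4, 23, 29, 82, 155, 0, 0, 1, 9],
    [1, 4, 20, 26, 69, 120, 0, 0, 0, 4],
    [1, 4, 19, 25, 65, 107, 0, 0, 0, 1],
    [1, 3, 15, 18, 40, 73, 0, 0, 0, 1]]

/-- the multiple of the inverse -/
def IC : List (List ℤ) :=
  [[0, 2070, -11298, -672, 19110, 13020, -39060, 12600, -14490, 20160],
    [0, 1440, -12384, 2304, -14400, 31680, -17280, -34560, 43200, 0],
    [0, -690, 3558, -528, -3090, -3300, 9900, -15000, 11550, -2400],
    [0, 0, 1440, 0, 4320, -7200, 0, 23040, -21600, 0],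
    [0, -90, 430, -160, -10, -260, 780, -3240, 2550, 0],
    [0, 105, -667, 112, -95, 1130, -1230, 420, -15, 240],
    [1440, -13590, 44514, 7776, -31590, -58140, 66420, 42120, -38790, -20160],
    [0, 690, -4006, -464, 2290, 6980, -7980, -5160, 5250, 2400],
    [0, 90, -494, 224, -310, 580, -300, 360, -150, 0],
    [0, -105, 651, -96, 15, -1050, 990, 300, -465, -240]]

theorem EMC' : ∀ i j : Fin 10, ((EM rowsC colC i j : ℤ) == (mk10 LC i j : ℤ)) = true := by decide +kernel

theorem EMC : EM rowsC colC = mk10 LC := by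
  ext i j
  exact eq_of_beq (EMC' i j)

theorem invC : ∀ i j, (∑ k, mk10 LC i k * mk10 IC k j) = if i = j then 1440 else 0 := by decide +kernel

/-- **The determinant, `1, 8, 84, 112, 567, 1344` and the duals of `1, 84, 567, 1344`.** -/
theorem detC : (EM rowsC colC).det ≠ 0 := by
  rw [EMC]
  exact det_ne10 (by norm_num) invC

end Cfsg.Agent.H632.LB.Val.Five
end

-- part: H594/LB/Link112
section
/-!
# `E₈`: `8` and `112` are in the same block modulo `Φ₅` (helper594, S4879)

* `exists_35`, `exists_112` : the constituents (node `7`);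
* `five_8_112` : `8 ~ 112` if `l ∣ Φ₅ (x)`.
-/

set_option autoImplicit false
set_option linter.unusedSectionVars false
set_option maxRecDepth 20000

namespace Cfsg.Agent.H594.LB.Link112

open Cfsg Cfsg.Agent.H967.Sph Cfsg.Agent.H64.Dl.Sph Cfsg.Agent.H996.Eight Cfsg.Agent.H996.Eight.Cert Cfsg.Agent.H996.PQ
  Cfsg.Agent.Blocks.Basic Cfsg.Agent.Blocks.Local Cfsg.Agent.H790.PQ Cfsg.Agent.H594.PQ Cfsg.Agent.H594.LB.LamTab
  Cfsg.Agent.H594.LB.Mem
open Cfsg.Agent.H154.PQE8 (lam_spec)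
open CoxeterSystem Cfsg.Agent.ChevalleyStructure.CoxeterGeom Cfsg.Agent.Tits.Roots Cfsg.Agent.Tits.Core
  Cfsg.Agent.Nodes.Reps Cfsg.Agent.Nodes.BNOf Cfsg.Agent.Nodes.Bruhat Cfsg.Agent.Nodes.LeviDec
open scoped BigOperators

universe u

/-- the eigenvalues of `112` at node `7` -/
def lam7_112 (c : Fin 5) : List ℤ := ([[1], [-1, 0, 0, 0, 0, -1, 0, 0, 0, -1, 0, 0, 0, 0, 1], [0, 0, 0, 0, 0, 1, 0, 0, 0, 1, 0, 0, 0, 1, -1, 0, 0, 0, -1, 0, 0, 0, -1], [0, 0, 0, 0, 0, 0, 0, 0, 0, 0, 0, 0, 0, -1, 0, 0, 0, 0, 1, 0, 0, 0, 1, 0, 0, 0, 0, 1], [0, 0, 0, 0, 0, 0, 0, 0, 0, 0, 0, 0, 0, 0, 0, 0, 0, 0, 0, 0, 0, 0, 0, 0, 0, 0, 0, -1]] : List (List ℤ)).getD c []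

/-- quotients -/
def s112 (c : Fin 5) : List ℤ := ([[], [0, 0, 0, 0, 0, -1, 0, 0, 0, -1, -1, 0, 0, 0, -1, -1, 0, 0, 0, -1], [0, 0, 0, 0, 0, 1, 0, 0, 0, 1, 1, 0, 0, 1, 0, 1, 0, 0, 0, 0, 0, 0, -1, 0, -1, 0, 0, -1, -1, 0, 0, 0, -1], [0, 0, 0, 0, 0, 0, 0, 0, 0, 0, 0, 0, 0, -1, 1, 0, 0, 0, 0, 1, 0, 0, 1, 0, 1, 0, 0, 2, 0, 0, 0, 0, 2, -1, 0, 0, 0, 1, -1], [0, 0, 0, 0, 0, 0, 0, 0, 0, 0, 0, 0, 0, 0, 0, 0, 0, 0, 0, 0, 0, 0, 0, 0, 0, 0, 0, -1, 1, 0, 0, 0, -1, 1, 0, 0, 0, -1, 1]] : List (List ℤ)).getD c []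

theorem lam7_112_ok : ∀ c, pEq (pMul (lam7_112 c) (TabE8a.c4.nu 0)) (pMul (TabE8a.data.kk c) (TabE8a.c4.nu c)) = true := by
  (simp only [Cfsg.Agent.H996.Eight.Kq.pEq_eq]; decide +kernel)

/-- `8 ~ 112` modulo `Φ₅` -/
theorem d112 : ∀ c, pEq (lam7_112 c) (pAdd (lam7_8 c) (pMul [1, 1, 1, 1, 1] (s112 c))) = true := by (simp only [Cfsg.Agent.H996.Eight.Kq.pEq_eq]; decide +kernel)

theorem pos112 : pPos (TabE8a.c4.nu 0) = true := by (simp only [Cfsg.Agent.H996.Eight.Kq.pPos_eq]; decide +kernel)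

variable {W : Type*} {Y : Type u} [Group W] [Finite W] [Group Y] [Finite Y]
    {M : CoxeterMatrix (Fin 8)} {cs : CoxeterSystem M W} {h : IsCartan M TabE8c.A} {p : ℕ} {T : Subgroup Y}
    {n : Fin 8 → Y} {X : (Fin 8 → ℤ) → Subgroup Y} (R : RGD cs h p T n X) (hG : GG cs h T X = ⊤)

variable {x : ℕ} (hx : 2 ≤ x) (hq : ∀ i, Nat.card (X (sr i)) = x) {l : ℕ} {M' : Ideal AlgInt}
  (hM : IsPModular l M')

include hx hq in
/-- the constituent `112` -/
theorem exists_112 : ∃ χ : Y → ℂ, Is7 R hG x TabE8a.c4 χ := Mu.exists_c7 R hG hx hq 4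

include hx in
theorem val112 (c : Fin 5) :
    ev (x : ℚ) (dataP.kk c) * (ev x (TabE8a.c4.nu c) / ev x (TabE8a.c4.nu 0)) = ev x (lam7_112 c) :=
  lam_spec (C := TabE8a.c4) (o := 0) (kk := TabE8a.data.kk) pos112 lam7_112_ok hx c

include hx hq hM in
/-- **`8 ~ 112` modulo `Φ₅`** -/
theorem five_8_112 (hd : (l : ℤ) ∣ evZ x [1, 1, 1, 1, 1]) {χ ψ : Y → ℂ} {d d' : ℕ}
    (H : HasVal R hG tabP χ d (fun c => ev x (TabE8a.c1.nu c) / ev x (TabE8a.c1.nu 0)))
    (H' : HasVal R hG tabP ψ d' (fun c => ev x (TabE8a.c4.nu c) / ev x (TabE8a.c4.nu 0))) :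
    SameBlock M' χ ψ :=
  same_of R hG dataP (hqP hq) H H' (val8 hx) (val112 hx) d112 hd hM

end Cfsg.Agent.H594.LB.Link112
end

-- part: H632/LB/FiveC
section
/-!
# `E₈(q)`, `11 ∣ Φ₅(q)`: eleven members of the principal block from `8` (helper632, for S4879)

The members `1, 8, 84, 112, 567, 1344`, the duals of `1, 84, 567, 1344`, and a member outside of the principal series.
* `join` : the matrix with one more row and column;
* `five_c` : for a root group datum, from `8 ∈ B₀`.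
-/

set_option autoImplicit false
set_option linter.unusedSectionVars false
set_option maxRecDepth 20000

namespace Cfsg.Agent.H632.LB.Val.Join

open CoxeterSystem Cfsg Cfsg.Agent.Characters.Core
open Cfsg.Agent.H967.Sph Cfsg.Agent.H64.Dl.Sph Cfsg.Agent.H996.Eight Cfsg.Agent.H996.Eight.Cert Cfsg.Agent.H996.PQ
  Cfsg.Agent.H790.PQ Cfsg.Agent.H594.PQ Cfsg.Agent.H594.LB.LamTab Cfsg.Agent.H329.LB Cfsg.Agent.H594.LB.Mem
  Cfsg.Agent.H594.LB.Mu
open Cfsg.Agent.ChevalleyStructure.CoxeterGeom Cfsg.Agent.Tits.Roots Cfsg.Agent.Tits.Core Cfsg.Agent.Tits.Exchange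
  Cfsg.Agent.Nodes.Reps Cfsg.Agent.Nodes.BNOf Cfsg.Agent.Nodes.StabComb
  Cfsg.Agent.Nodes.Bruhat Cfsg.Agent.Nodes.LeviDec
open Cfsg.Agent.H439.CC (mu)
open Cfsg.Agent.H157.HK (Wt Z)
open Cfsg.Agent.H116.HeckeU (IsWt)
open Cfsg.Agent.H656.LB (alt IsSt one' one'_mem mu_one' dual_mem)
open Cfsg.Agent.H632.LB (Fam)
open Cfsg.Agent.H632.LB.Val.Five
open Cfsg.Agent.Blocks.Basic Cfsg.Agent.Blocks.Local
open Cfsg.Lie Cfsg.Agent.ChevalleyStructure Cfsg.Agent.ChevalleyStructure.CoxeterGeomTypes Cfsg.Agent.Nodes.RGDChev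
  Cfsg.Agent.H35.ExcIdx

universe u v

section Gen

variable {W : Type v} {Y : Type u} [Group W] [Finite W] [Group Y] [Finite Y]
    {M : CoxeterMatrix (Fin 8)} {cs : CoxeterSystem M W} {A : Fin 8 → Fin 8 → ℤ} {h : IsCartan M A}
    {T : Subgroup Y} {X : (Fin 8 → ℤ) → Subgroup Y} {l : ℕ} (hl : l.Prime) {M' : Ideal AlgInt}

theorem ent_dual {V : ℕ} {χ χ' : IrrCharacter Y}
    (hχ : ∀ K, Inn K → mu (PJ cs h T X (K : Set (Fin 8))) (χ : Y → ℂ) = ((ent (V, false) K : ℤ) : ℂ))
    (hD : ∀ K : Finset (Fin 8), mu (PJ cs h T X (K : Set (Fin 8))) (χ' : Y → ℂ) =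
      alt (fun K => mu (PJ cs h T X (K : Set (Fin 8))) (χ : Y → ℂ)) K) (K : Finset (Fin 8)) (hK : Inn K) :
    mu (PJ cs h T X (K : Set (Fin 8))) (χ' : Y → ℂ) = ((ent (V, true) K : ℤ) : ℂ) := by
  have h1 : ∀ K, Inn K → mu (PJ cs h T X (K : Set (Fin 8))) (χ : Y → ℂ) = ((look V K : ℕ) : ℂ) := by
    intro K hK
    rw [hχ K hK]
    show (((look V K : ℕ) : ℤ) : ℂ) = _
    push_cast
    rfl
  exact Mat.mu_dl h1 (fun K _ => hD K) hK

theorem ent_look {V : ℕ} {χ : Y → ℂ} (hχ : ∀ K, Inn K → mu (PJ cs h T X (K : Set (Fin 8))) χ = ((look V K : ℕ) : ℂ))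
    (K : Finset (Fin 8)) (hK : Inn K) : mu (PJ cs h T X (K : Set (Fin 8))) χ = ((ent (V, false) K : ℤ) : ℂ) := by
  rw [hχ K hK]
  show _ = (((look V K : ℕ) : ℤ) : ℂ)
  push_cast
  rfl

include hl in
/-- **The join.** -/
theorem join {rows : Fin 10 → Finset (Fin 8)} {col : Fin 10 → ℕ × Bool} (hin : ∀ i, Inn (rows i))
    (hdet : (EM rows col).det ≠ 0) (hne : ∀ j, ent (col j) ∅ ≠ 0) {χ : Fin 10 → IrrCharacter Y}
    (hent : ∀ j (K : Finset (Fin 8)), Inn K → mu (PJ cs h T X (K : Set (Fin 8))) (χ j : Y → ℂ) = ((ent (col j) K : ℤ) : ℂ))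
    (hB : ∀ j, χ j ∈ principalBlock M' Y) {η : IrrCharacter Y} (hη : η ∈ principalBlock M' Y)
    (h0 : ∀ J : Set (Fin 8), mu (PJ cs h T X J) (η : Y → ℂ) = 0)
    (hcard : ∀ i, ¬ l ∣ Nat.card (PJ cs h T X (rows i : Set (Fin 8)))) :
    ∃ (P : Fin 11 → Subgroup Y) (χ' : Fin 11 → IrrCharacter Y), (∀ i, ¬ l ∣ Nat.card (P i)) ∧
      (∀ i, (∃ K : Finset (Fin 8), P i = PJ cs h T X (K : Set (Fin 8))) ∨ P i = ⊥) ∧
      (∀ j, mu (PJ cs h T X ∅) (χ' j : Y → ℂ) ≠ 0 ∨ ∀ J, mu (PJ cs h T X J) (χ' j : Y → ℂ) = 0) ∧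
      (∀ j, χ' j ∈ principalBlock M' Y) ∧ (Matrix.of fun i j => mu (P i) (χ' j : Y → ℂ)).det ≠ 0 := by
  refine ⟨Fin.snoc (α := fun _ => Subgroup Y) (fun i => PJ cs h T X (rows i : Set (Fin 8))) ⊥,
    Fin.snoc (α := fun _ => IrrCharacter Y) χ η, fun i => ?_, fun i => ?_, fun j => ?_, fun j => ?_, ?_⟩
  · refine Fin.lastCases ?_ (fun i => ?_) i
    · rw [Fin.snoc_last, Subgroup.card_bot]
      exact hl.one_lt.ne' ∘ Nat.dvd_one.1
    · rw [Fin.snoc_castSucc]
      exact hcard i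
  · refine Fin.lastCases ?_ (fun i => ?_) i
    · rw [Fin.snoc_last]
      exact Or.inr rfl
    · rw [Fin.snoc_castSucc]
      exact Or.inl ⟨rows i, rfl⟩
  · refine Fin.lastCases ?_ (fun j => ?_) j
    · rw [Fin.snoc_last]
      exact Or.inr h0
    · rw [Fin.snoc_castSucc]
      left
      have h1 := hent j ∅ inn_empty
      rw [Finset.coe_empty] at h1
      rw [h1]
      exact_mod_cast hne j
  · refine Fin.lastCases ?_ (fun j => ?_) j
    · rw [Fin.snoc_last]
      exact hη
    · rw [Fin.snoc_castSucc]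
      exact hB j
  · refine det_snoc (fun i => ?_) ?_ (det_cast hdet fun i j => ?_)
    · rw [Matrix.of_apply, Fin.snoc_castSucc, Fin.snoc_last]
      exact h0 _
    · rw [Matrix.of_apply, Fin.snoc_last, Fin.snoc_last, H116.HeckeU.mu_bot]
      exact isIrr_apply_one_ne_zero η.2
    · rw [Matrix.submatrix_apply, Matrix.of_apply, Fin.snoc_castSucc, Fin.snoc_castSucc]
      exact hent j _ (hin i)

end Gen

section Rgd

variable {W : Type v} {Y : Type u} [Group W] [Finite W] [Group Y] [Finite Y]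
    {M : CoxeterMatrix (Fin 8)} {cs : CoxeterSystem M W} {h : IsCartan M TabE8c.A} {p : ℕ} {T : Subgroup Y}
    {n : Fin 8 → Y} {X : (Fin 8 → ℤ) → Subgroup Y} (R : RGD cs h p T n X) (hG : GG cs h T X = ⊤)
    (hF : Fam cs h) {x : ℕ} (hx : 2 ≤ x) (hq : ∀ i, Nat.card (X (sr i)) = x) {l : ℕ} (hl : l.Prime)
    {M' : Ideal AlgInt} (hM : IsPModular l M')

theorem ne_C : ∀ j, ent (colC j) ∅ ≠ 0 := by decide +kernel

include hF hx hq hl hM in
/-- **Modulo `Φ₅`, from `8`.** -/
theorem five_c (hd : (l : ℤ) ∣ evZ x [1, 1, 1, 1, 1])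
    (h8 : ∀ χ : Y → ℂ, Is7 R hG x TabE8a.c1 χ → SameBlock M' (1 : Y → ℂ) χ) {χ1 : IrrCharacter Y}
    (h1 : IsSt (fun J => PJ cs h T X J) χ1) (h2 : χ1 ∈ principalBlock M' Y)
    {η : IrrCharacter Y} (hη : η ∈ principalBlock M' Y)
    (h0 : ∀ J : Set (Fin 8), mu (PJ cs h T X J) (η : Y → ℂ) = 0)
    (hcard : ∀ K : Finset (Fin 8), Inn K → ¬ l ∣ Nat.card (PJ cs h T X (K : Set (Fin 8)))) :
    ∃ (P : Fin 11 → Subgroup Y) (χ : Fin 11 → IrrCharacter Y), (∀ i, ¬ l ∣ Nat.card (P i)) ∧
      (∀ i, (∃ K : Finset (Fin 8), P i = PJ cs h T X (K : Set (Fin 8))) ∨ P i = ⊥) ∧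
      (∀ j, mu (PJ cs h T X ∅) (χ j : Y → ℂ) ≠ 0 ∨ ∀ J, mu (PJ cs h T X J) (χ j : Y → ℂ) = 0) ∧
      (∀ j, χ j ∈ principalBlock M' Y) ∧ (Matrix.of fun i j => mu (P i) (χ j : Y → ℂ)).det ≠ 0 := by
  classical
  let _ : Fintype W := Fintype.ofFinite W
  let _ : Fintype Y := Fintype.ofFinite Y
  let _ : Fintype (Y ⧸ RGD.B cs h T X) := Fintype.ofFinite _
  have hpr : M'.IsPrime := hM.2.1.isPrime
  have : Nonempty (Y ⧸ RGD.B cs h T X) := ⟨QuotientGroup.mk 1⟩
  have hgen := H116.RatB0.hgen_of_GG R hG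
  obtain ⟨Δ, hiso, htr, hP⟩ := H116.HeckeU.exists_bldg_PJ R hgen
  obtain ⟨τ, hτ⟩ := H116.HeckeU.exists_wt_of Δ fun x x' w => H116.HeckeU.card_indep Δ hiso htr x x' w
  obtain ⟨c84, c567, c1344, ⟨H84, H567, H1344⟩, ⟨B84, B567, B1344⟩⟩ := members_five R hG hx hq hl hM hd
  obtain ⟨f8, H8'⟩ := exists_8 R hG hx hq
  set c8 : IrrCharacter Y := ⟨f8, H8'.irr⟩ with hc8
  have H8 : Is7 R hG x TabE8a.c1 c8 := H8'
  have B8 : c8 ∈ principalBlock M' Y := h8 c8 H8
  obtain ⟨f112, H112'⟩ := H594.LB.Link112.exists_112 R hG hx hq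
  set c112 : IrrCharacter Y := ⟨f112, H112'.irr⟩ with hc112
  have H112 : Is7 R hG x TabE8a.c4 c112 := H112'
  have B112 : c112 ∈ principalBlock M' Y := by
    have e1 : SameBlock M' (1 : Y → ℂ) (c8 : Y → ℂ) := B8
    have e2 : SameBlock M' (c8 : Y → ℂ) (c112 : Y → ℂ) := H594.LB.Link112.five_8_112 R hG hx hq hM hd H8 H112
    have e3 : SameBlock M' (1 : Y → ℂ) (c112 : Y → ℂ) := Cfsg.Agent.Blocks.Basic.sameBlock_trans e1 e2
    exact e3
  set m : Fin 6 → IrrCharacter Y := ![one' Y, c8, c84, c112, c567, c1344] with hm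
  have hmu : ∀ j K, Inn K → mu (PJ cs h T X (K : Set (Fin 8))) (m j : Y → ℂ) = ((look (Mat.VV5 j) K : ℕ) : ℂ) :=
    Mat.mu_five R hG hF hx hq (χ := fun j => (m j : Y → ℂ)) rfl H8 H84 H112 H567 H1344
  have hb : ∀ i, mu (PJ cs h T X ∅) (m i : Y → ℂ) ≠ 0 := fun i => mu_empty_ne (hmu i ∅ inn_empty) (look_ne5 i)
  have s84 : H526.LB.SL Δ τ M' (1 : Y → ℂ) (c84 : Y → ℂ) := H739.LB.sl_five_84 R hG Δ hiso htr hP hτ hx hq hM hd H84
  have s567 : H526.LB.SL Δ τ M' (1 : Y → ℂ) (c567 : Y → ℂ) :=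
    H739.LB.sl_five_567 R hG Δ hiso htr hP hτ hx hq hl hM hd H567
  have s1344 : H526.LB.SL Δ τ M' (1 : Y → ℂ) (c1344 : Y → ℂ) :=
    H739.LB.sl_five_1344 R hG Δ hiso htr hP hτ hx hq hl hM hd H1344
  have s0 : H526.LB.SL Δ τ M' (1 : Y → ℂ) (one' Y : Y → ℂ) :=
    H526.LB.SL.trans hiso htr hτ (QuotientGroup.mk 1) (fun J => PJ cs h T X J) hP (ψ := ⟨c84, hb 2⟩) s84
      (H526.LB.SL.symm s84)
  obtain ⟨d0, D0, E0⟩ := dual_mem Δ hiso htr hτ (QuotientGroup.mk 1) (fun J => PJ cs h T X J) hP h1 h2 (one' Y) (hb 0) s0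
  obtain ⟨d84, D84, E84⟩ := dual_mem Δ hiso htr hτ (QuotientGroup.mk 1) (fun J => PJ cs h T X J) hP h1 h2 c84 (hb 2) s84
  obtain ⟨d567, D567, E567⟩ := dual_mem Δ hiso htr hτ (QuotientGroup.mk 1) (fun J => PJ cs h T X J) hP h1 h2 c567 (hb 4) s567
  obtain ⟨d1344, D1344, E1344⟩ := dual_mem Δ hiso htr hτ (QuotientGroup.mk 1) (fun J => PJ cs h T X J) hP h1 h2 c1344
    (hb 5) s1344
  refine join hl (χ := ![one' Y, c8, c84, c112, c567, c1344, d0, d84, d567, d1344]) inn_rowsC detC ne_C ?_ ?_ hη h0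
    fun i => hcard _ (inn_rowsC i)
  · intro j
    fin_cases j
    · exact ent_look (hmu 0)
    · exact ent_look (hmu 1)
    · exact ent_look (hmu 2)
    · exact ent_look (hmu 3)
    · exact ent_look (hmu 4)
    · exact ent_look (hmu 5)
    · exact ent_dual (ent_look (hmu 0)) E0
    · exact ent_dual (ent_look (hmu 2)) E84
    · exact ent_dual (ent_look (hmu 4)) E567
    · exact ent_dual (ent_look (hmu 5)) E1344
  · intro j
    fin_cases j
    exacts [one'_mem Y M', B8, B84, B112, B567, B1344, D0, D84, D567, D1344]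

end Rgd

theorem ev_five {q : ℕ} (hd : orderOf ((q : ℕ) : ZMod 11) = 5) : ((11 : ℕ) : ℤ) ∣ evZ q [1, 1, 1, 1, 1] := by
  have : Fact (Nat.Prime 11) := ⟨by norm_num⟩
  have h1 : ((q : ZMod 11)) ^ 5 = 1 := by rw [← hd]; exact pow_orderOf_eq_one _
  have h3 : ((q : ZMod 11)) - 1 ≠ 0 := fun h => by
    have h4 : ((q : ZMod 11)) = 1 := sub_eq_zero.1 h
    rw [h4, orderOf_one] at hd
    exact absurd hd (by decide)
  have h6 : ((q : ZMod 11) - 1) * ((q : ZMod 11) ^ 4 + (q : ZMod 11) ^ 3 + (q : ZMod 11) ^ 2 + q + 1) = 0 := by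
    have : ((q : ZMod 11) - 1) * ((q : ZMod 11) ^ 4 + (q : ZMod 11) ^ 3 + (q : ZMod 11) ^ 2 + q + 1) =
      (q : ZMod 11) ^ 5 - 1 := by ring
    rw [this, h1, sub_self]
  have h7 := (mul_eq_zero.1 h6).resolve_left h3
  rw [← ZMod.intCast_zmod_eq_zero_iff_dvd]
  have h8 : evZ (q : ℤ) [1, 1, 1, 1, 1] = (q : ℤ) ^ 4 + q ^ 3 + q ^ 2 + q + 1 := by
    simp only [evZ]
    ring
  rw [h8]
  push_cast
  exact h7

end Cfsg.Agent.H632.LB.Val.Join
end

-- part: H596/LB/GGFive
section
/-!
# S4879, row E8, p = 11: the member outside of the principal series, in terms of the order of `q` (helper596)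
-/

set_option autoImplicit false
set_option linter.unusedSectionVars false

namespace Cfsg.Agent.H596.LB

open Cfsg CoxeterSystem Cfsg.Agent.ChevalleyStructure.CoxeterGeom Cfsg.Agent.Tits.Roots Cfsg.Agent.Tits.Core
  Cfsg.Agent.Nodes.Bruhat Cfsg.Agent.Nodes.LeviDec Cfsg.Agent.H35.Poin
  Cfsg.Agent.H35.PoinNum Cfsg.Agent.H35.ExcIdx
  Cfsg.Agent.ChevalleyStructure.CoxeterGeomTypes Cfsg.Lie
open Cfsg.Agent.Nodes.RGDChev
open Cfsg.Agent.H116.RatB0
open Cfsg.Agent.H439.CC (mu)

universe u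

/-- **The eleventh member, `q` of order `5` or `10` modulo `11`.** -/
theorem exists_nonPS_ord {K : Type u} [Field K] [Fintype K]
    (hd : orderOf ((Fintype.card K : ℕ) : ZMod 11) = 5 ∨ orderOf ((Fintype.card K : ℕ) : ZMod 11) = 10)
    {MM : Ideal AlgInt} (hM : IsPModular 11 MM) :
    ∃ χ : IrrCharacter (chevE8.group K), χ ∈ principalBlock MM (chevE8.group K) ∧
      ∀ J : Set (Fin 8), mu (PJ CoxeterMatrix.E₈.toCoxeterSystem hpE8.isCartan (TT chevE8 K) (XX chevE8 8 K) J)
        (χ : chevE8.group K → ℂ) = 0 := by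
  have h11 : Fact (Nat.Prime 11) := ⟨by norm_num⟩
  have h0 : ¬ 11 ∣ Fintype.card K := by
    intro h1
    have h2 : ((Fintype.card K : ℕ) : ZMod 11) = 0 := (ZMod.natCast_eq_zero_iff _ _).2 h1
    rw [h2] at hd
    have h3 : orderOf (0 : ZMod 11) = 0 := orderOf_zero _
    omega
  have hpK : ((11 : ℕ) : K) ≠ 0 := by
    intro h1
    obtain ⟨r, hr⟩ := CharP.exists K
    have h2 := (CharP.cast_eq_zero_iff K r 11).1 h1
    have hrp : r.Prime := (CharP.char_is_prime_or_zero K r).resolve_right (CharP.char_ne_zero_of_finite K r)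
    have h3 : r = 11 := (Nat.prime_dvd_prime_iff_eq hrp h11.out).1 h2
    subst h3
    obtain ⟨n, -, hn⟩ := FiniteField.card K 11
    exact h0 (by rw [hn]; exact dvd_pow_self 11 n.ne_zero)
  have h4 := dvd_E (p := 11) h0
  rcases hd with h5 | h5 <;> rw [h5] at h4
  · exact exists_nonPS_E8 hpK (by simp) h4 hM
  · exact exists_nonPS_E8 hpK (by simp) h4 hM

end Cfsg.Agent.H596.LB
end

-- part: H632/LB/FiveK
section
/-!
# `E₈(q)`, `q` of order `5` modulo `11`: the certificate from `8` (helper632, for S4879)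

* `five_cA` : for a root group datum of a Cartan matrix `A = TabE8c.A`, from the local data and the cell counts;
* `cert_of` : the certificate from eleven members;
* `cert_five_c` : for `E₈(q)`.
-/

set_option autoImplicit false
set_option linter.unusedSectionVars false
set_option maxRecDepth 20000

namespace Cfsg.Agent.H632.LB.Val.Join

open CoxeterSystem Cfsg Cfsg.Agent.Characters.Core
open Cfsg.Agent.H967.Sph Cfsg.Agent.H64.Dl.Sph Cfsg.Agent.H996.Eight Cfsg.Agent.H996.Eight.Cert Cfsg.Agent.H996.PQ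
  Cfsg.Agent.H790.PQ Cfsg.Agent.H594.PQ Cfsg.Agent.H594.LB.LamTab Cfsg.Agent.H329.LB Cfsg.Agent.H594.LB.Mem
  Cfsg.Agent.H594.LB.Mu
open Cfsg.Agent.ChevalleyStructure.CoxeterGeom Cfsg.Agent.Tits.Roots Cfsg.Agent.Tits.Core Cfsg.Agent.Tits.Exchange
  Cfsg.Agent.Nodes.Reps Cfsg.Agent.Nodes.BNOf Cfsg.Agent.Nodes.StabComb
  Cfsg.Agent.Nodes.Bruhat Cfsg.Agent.Nodes.LeviDec
open Cfsg.Agent.H439.CC (mu)
open Cfsg.Agent.H656.LB (alt IsSt one' one'_mem mu_one' dual_mem)
open Cfsg.Agent.H632.LB (Fam)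
open Cfsg.Agent.H632.LB.Val.Five
open Cfsg.Agent.H596.L8 (Loc8 CellC five_8_of)
open Cfsg.Agent.H970.LB.E8 (Cert PE not_dvd_five)
open Cfsg.Agent.Blocks.Basic Cfsg.Agent.Blocks.Local
open Cfsg.Lie Cfsg.Agent.ChevalleyStructure Cfsg.Agent.ChevalleyStructure.CoxeterGeomTypes Cfsg.Agent.Nodes.RGDChev
  Cfsg.Agent.H35.ExcIdx

universe u v

theorem five_cA {W : Type v} {Y : Type u} [Group W] [Finite W] [Group Y] [Finite Y]
    {M : CoxeterMatrix (Fin 8)} {cs : CoxeterSystem M W} {A : Fin 8 → Fin 8 → ℤ} {h : IsCartan M A} {p : ℕ}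
    {T : Subgroup Y} {n : Fin 8 → Y} {X : (Fin 8 → ℤ) → Subgroup Y} (R : RGD cs h p T n X) (hG : GG cs h T X = ⊤)
    (hA : A = TabE8c.A) (hF : Fam cs h)
    {x : ℕ} (hx : 2 ≤ x) (hq : ∀ i, Nat.card (X (sr i)) = x) {l : ℕ} (hl : l.Prime) {M' : Ideal AlgInt}
    (hM : IsPModular l M') (hd : (l : ℤ) ∣ evZ x [1, 1, 1, 1, 1])
    (hcell : ∀ (h' : IsCartan M TabE8c.A) (R' : RGD cs h' p T n X) (hG' : GG cs h' T X = ⊤), CellC R' hG' x)
    (hL : Loc8 cs h T X l) {χ1 : IrrCharacter Y}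
    (h1 : IsSt (fun J => PJ cs h T X J) χ1) (h2 : χ1 ∈ principalBlock M' Y)
    {η : IrrCharacter Y} (hη : η ∈ principalBlock M' Y)
    (h0 : ∀ J : Set (Fin 8), mu (PJ cs h T X J) (η : Y → ℂ) = 0)
    (hcard : ∀ K : Finset (Fin 8), Inn K → ¬ l ∣ Nat.card (PJ cs h T X (K : Set (Fin 8)))) :
    ∃ (P : Fin 11 → Subgroup Y) (χ : Fin 11 → IrrCharacter Y), (∀ i, ¬ l ∣ Nat.card (P i)) ∧
      (∀ i, (∃ K : Finset (Fin 8), P i = PJ cs h T X (K : Set (Fin 8))) ∨ P i = ⊥) ∧
      (∀ j, mu (PJ cs h T X ∅) (χ j : Y → ℂ) ≠ 0 ∨ ∀ J, mu (PJ cs h T X J) (χ j : Y → ℂ) = 0) ∧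
      (∀ j, χ j ∈ principalBlock M' Y) ∧ (Matrix.of fun i j => mu (P i) (χ j : Y → ℂ)).det ≠ 0 := by
  subst hA
  exact five_c R hG hF hx hq hl hM hd (fun χ H => five_8_of R hG (hcell h R hG) hx hq hl hM hd hL H) h1 h2 hη h0 hcard

/-- the orders of the parabolic subgroups -/
theorem hcard_five (K : Type u) [Field K] [Fintype K] (hd : orderOf ((Fintype.card K : ℕ) : ZMod 11) = 5)
    (L : Finset (Fin 8)) (hL : Inn L) : ¬ 11 ∣ Nat.card (PE K (L : Set (Fin 8))) := by
  have h11 : Fact (Nat.Prime 11) := ⟨by norm_num⟩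
  refine not_dvd_five K hd (L := [0, 1, 2, 4, 5, 6]) (by simp [H970.LB.E8.maxFive]) fun j hj => ?_
  have h1 : j ∈ L := hj
  rcases hL with h | h
  · have h2 := h h1
    clear h h1 hj hd
    revert j
    decide
  · have h2 := h h1
    clear h h1 hj hd
    revert j
    decide

/-- the certificate from eleven members -/
theorem cert_of {K : Type u} [Field K] [Fintype K] {M' : Ideal AlgInt}
    (H : ∃ (P : Fin 11 → Subgroup ↥(chevE8.group K)) (χ : Fin 11 → IrrCharacter ↥(chevE8.group K)),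
      (∀ i, ¬ 11 ∣ Nat.card (P i)) ∧
      (∀ i, (∃ L : Finset (Fin 8), P i = PJ CoxeterMatrix.E₈.toCoxeterSystem
        hpE8.isCartan (TT chevE8 K) (XX chevE8 8 K) (L : Set (Fin 8))) ∨ P i = ⊥) ∧
      (∀ j, mu (PJ CoxeterMatrix.E₈.toCoxeterSystem hpE8.isCartan (TT chevE8 K) (XX chevE8 8 K) ∅)
        (χ j : ↥(chevE8.group K) → ℂ) ≠ 0 ∨ ∀ J, mu (PJ CoxeterMatrix.E₈.toCoxeterSystem hpE8.isCartan (TT chevE8 K)
          (XX chevE8 8 K) J) (χ j : ↥(chevE8.group K) → ℂ) = 0) ∧
      (∀ j, χ j ∈ principalBlock M' ↥(chevE8.group K)) ∧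
      (Matrix.of fun i j => mu (P i) (χ j : ↥(chevE8.group K) → ℂ)).det ≠ 0) : Cert M' K := by
  obtain ⟨P, χ, h1, h2, -, h3, h4⟩ := H
  exact ⟨11, P, χ, le_rfl, fun i => (h2 i).symm.imp id fun ⟨L, hL⟩ => ⟨_, hL⟩, h1, h3, h4⟩

/-- **`E₈(q)`, `q` of order `5` modulo `11`.** -/
theorem cert_five_c (K : Type u) [Field K] [Fintype K] {M' : Ideal AlgInt} (hM : IsPModular 11 M')
    (hd : orderOf ((Fintype.card K : ℕ) : ZMod 11) = 5)
    (hcell : ∀ [Finite CoxeterMatrix.E₈.Group] [Finite ↥(chevE8.group K)] (r : ℕ) (h' : IsCartan CoxeterMatrix.E₈ TabE8c.A)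
      (R' : RGD CoxeterMatrix.E₈.toCoxeterSystem h' r (TT chevE8 K)
        (fun i => (⟨nn hpE8 K i, nn_mem_group hpE8 i⟩ : ↥(chevE8.group K))) (XX chevE8 8 K))
      (hG' : GG CoxeterMatrix.E₈.toCoxeterSystem h' (TT chevE8 K) (XX chevE8 8 K) = ⊤), CellC R' hG' (Fintype.card K)) :
    Cert M' K := by
  obtain ⟨r, hr⟩ := CharP.exists K
  have : Fact r.Prime := ⟨CharP.char_is_prime K r⟩
  have h11 : Fact (Nat.Prime 11) := ⟨by norm_num⟩
  have := finite_W hpE8 CoxeterMatrix.E₈.toCoxeterSystem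
  have := finite_group chevE8 K
  have hpK : ¬ 11 ∣ Fintype.card K := H970.LB.E8.not_dvd_card_q K hd (by norm_num)
  obtain ⟨χ1, e1, -, -, e2⟩ := H498.RP.exists_st_chev hpE8 K
  have hmem : χ1 ∈ principalBlock M' ↥(chevE8.group K) := e2 11 M' hM hpK fun J hJ =>
    H543.XZ.idx_E8 hpK (by rw [hd]; decide) J hJ
  obtain ⟨η, hη, h0⟩ := H596.LB.exists_nonPS_ord (Or.inl hd) hM
  exact cert_of (five_cA (rgd (K := K) hpE8 CoxeterMatrix.E₈.toCoxeterSystem r)
    (GG_eq_top hpE8 K CoxeterMatrix.E₈.toCoxeterSystem) hA_E8 (fam_split hpE8 _) Fintype.one_lt_card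
    (fun i => by rw [card_XX hpE8 K CoxeterMatrix.E₈.toCoxeterSystem (isRoot_sr _ _ i), Nat.card_eq_fintype_card])
    h11.out hM (ev_five hd) (hcell r) (H596.L8.loc8 K hd) e1 hmem hη h0 (hcard_five K hd))

end Cfsg.Agent.H632.LB.Val.Join
end

-- part: H741/Lb/E8Fin
section
/-!
# S4879, row `E₈(q)`, `p = 11`, in the form of the hub (helper741)

`row_E8_of` : the row from the certificates for `q` of order 5 modulo 11.
-/

set_option autoImplicit false

namespace Cfsg.Agent.H741.Lb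

open Cfsg Cfsg.Lie

universe u

/-- **The row `E₈(q)` from the certificates for `q` of order 5.** -/
theorem row_E8_of [hp : Fact (Nat.Prime 11)] {M : Ideal AlgInt} (hM : IsPModular 11 M)
    (h5 : ∀ (K : Type) [Field K] [Fintype K], orderOf ((Fintype.card K : ℕ) : ZMod 11) = 5 → H970.LB.E8.Cert M K) :
    Row.{u} 11 M (fun S _ => QE8 S) := by
  intro G _ _ T _ hTC hTp hone hP hQ
  obtain ⟨F, i1, i2, he, -⟩ := hQ
  exact H970.LB.E8.row_of_cert hM F (h5 F) (fun h => H23.LB.cert_ten F hM h) G T hTC hTp hone hP he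

end Cfsg.Agent.H741.Lb
end

-- part: H741/Lb/E8Row
section
/-!
# S4879, the row `E₈(q)`, `p = 11` (helper741)
-/

set_option autoImplicit false

namespace Cfsg.Agent.H741.Lb

open CoxeterSystem Cfsg Cfsg.Lie Cfsg.Agent.ChevalleyStructure Cfsg.Agent.ChevalleyStructure.CoxeterGeom
  Cfsg.Agent.ChevalleyStructure.CoxeterGeomTypes Cfsg.Agent.Nodes.RGDChev Cfsg.Agent.H35.ExcIdx
  Cfsg.Agent.Tits.Roots Cfsg.Agent.Tits.Core

universe u

/-- **The row `E₈(q)`.** -/
theorem row_E8 [hp : Fact (Nat.Prime 11)] {M : Ideal AlgInt} (hM : IsPModular 11 M) :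
    Row.{u} 11 M (fun S _ => QE8 S) :=
  row_E8_of hM fun K _ _ hd => Cfsg.Agent.H632.LB.Val.Join.cert_five_c K hM hd fun r h' R' hG' =>
    cellC R' hG' fun i => by
      rw [card_XX hpE8 K CoxeterMatrix.E₈.toCoxeterSystem (isRoot_sr _ _ i), Nat.card_eq_fintype_card]

end Cfsg.Agent.H741.Lb
end

-- part: S4879
section
set_option autoImplicit false
open Cfsg

namespace Cfsg.Agent.S4879

/-- Let p be a prime, G a finite group of order divisible by p in which all non-identity p-elements are conjugate, M a maximal ideal of the algebraic integers containing p, B₀ the principal p-block of G and l(B₀) its p-regular rank (the number of irreducible Brauer characters in it). Then l(B₀) ≥ p; or l(B₀) = p − 1, a Sylow p-subgroup P has order p and its centralizer has index p − 1 in its normalizer; or p = 11, l(B₀) = 9, and the quotient of G by its largest normal subgroup of order prime to 11 has order 121·120 and is a Frobenius group with complement isomorphic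 to SL(2,5). -/
theorem result {G : Type*} [Group G] [Finite G] (p : ℕ) [Fact p.Prime] (hdiv : p ∣ Nat.card G) (hconj : ∀ x y : G, x ≠ 1 → y ≠ 1 → (∃ k : ℕ, orderOf x = p ^ k) → (∃ k : ℕ, orderOf y = p ^ k) → IsConj x y) (M : Ideal Cfsg.AlgInt) (hM : Cfsg.IsPModular p M) (P : Sylow p G) : p ≤ Cfsg.blockRank p (Cfsg.principalBlock M G) ∨ (Cfsg.blockRank p (Cfsg.principalBlock M G) = p - 1 ∧ Nat.card (P : Subgroup G) = p ∧ (Subgroup.centralizer ((P : Subgroup G) : Set G)).relIndex (Subgroup.normalizer ((P : Subgroup G) : Set G)) = p - 1) ∨ (p = 11 ∧ Cfsg.blockRank p (Cfsg.principalBlock M G) = 9 ∧ (Nat.card (G ⧸ Cfsg.pPrimeCore p G) = 121 * 120 ∧ ∃ H : Subgroup (G ⧸ Cfsg.pPrimeCore p G), Cfsg.IsFrobeniusComplement H ∧ Nonempty (↥H ≃* Matrix.SpecialLinearGroup (Fin 2) (ZMod 5)))) := by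
  refine Cfsg.Agent.H741.Lb.goal hM (fun h => ?_) hdiv hconj P
  subst h
  exact Cfsg.Agent.H741.Lb.row_E8 hM

end Cfsg.Agent.S4879
end
end
end
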