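import Mathlib
import Cfsg.Agent.H504.ZerosLie
import Cfsg.Agent.LieClassical.SympCenter
import Cfsg.Agent.S0270
import Cfsg.Agent.H93.Classical
import Cfsg.Agent.H674.TwelvePSU
import Cfsg.Agent.S0822
import Cfsg.Agent.H701.ZerosCols
import Cfsg.Agent.H681.ZerosPSL2
import Cfsg.Agent.H206.ZPslBase
import Cfsg.Agent.S0249
import Cfsg.Agent.H956.ZerosPSU3_mg
import Cfsg.Agent.H455.ZeroTools
import Cfsg.Agent.H328.KSpor
import Cfsg.Agent.H713.Spor.Fi22
import Cfsg.Agent.H723.Spor.Th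
import Cfsg.Agent.H393.Iso.He
import Cfsg.Agent.H504.ZerosRows
import Cfsg.Agent.H504.ZerosExc
import Cfsg.Agent.H504.ZerosG23
import Cfsg.Agent.H504.ZerosD4
import Cfsg.Agent.H701.ZerosAlt
import Cfsg.Agent.H681.ZerosPSL3
import Cfsg.Agent.H621.Zer.Main_m3
import Cfsg.Agent.H442.ZerosTwisted
import Cfsg.Agent.H701.ZerosMathieu
import Cfsg.Agent.H153.ZerosHS
import Cfsg.Agent.H153.ZerosMcL
import Cfsg.Agent.H713.Two.HeClasses
import Cfsg.Agent.H868.Dl.RuCls
import Cfsg.Agent.H153.ZerosSuz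
import Cfsg.Agent.H153.ZerosON
import Cfsg.Agent.H153.ZerosCo1_mg_m3
import Cfsg.Agent.H455.ZerosLy
import Cfsg.Statements.S4895
import Cfsg.Agent.S0000
import Cfsg.Agent.H676.Deg.Res
import Cfsg.Agent.Lib.DetFast
import Cfsg.Agent.Lib.MatLitD
import Cfsg.Agent.FastGrp
import Cfsg.Agent.Prune
set_option linter.all false

section
prune_inst 0x7f00000000000000000000000000000000000000000000000000000000000000000000000000000000000000000000000000000000000000000000000000000000000000000000000000000000000000003fffffffffffffffffffffffffffbeffbdffffffff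

-- part: H956/ZerosPSp4
section
set_option linter.all false
open scoped Cfsg.Agent.FastGrp

-- part: H956/PSing
section
/-!
# `p`-singular matrices modulo scalars

`pow_ne_smul` : if `f(M) ≠ 0` and `f(M) ^ k = 0` for a polynomial `f`, then no power `M ^ o` with `p ∤ o` is a
nonzero scalar (`p` the characteristic); so `p` divides the order of the image of `M` modulo scalars.
-/

set_option autoImplicit false

namespace Cfsg.Agent.H956.PSing

open Matrix Polynomial

variable {F : Type*} [Field F] {ι : Type*} [Fintype ι] [DecidableEq ι]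

/-- a matrix that is not semisimple has no scalar power with exponent prime to `p` -/
theorem pow_ne_smul {p : ℕ} [CharP F p] {M : Matrix ι ι F} {f : F[X]} {k o : ℕ} (h0 : aeval M f ≠ 0)
    (hk : aeval M f ^ k = 0) (hp : ¬ p ∣ o) {c : F} (hc : c ≠ 0) : M ^ o ≠ c • (1 : Matrix ι ι F) := by
  intro h
  apply h0
  have h1 : (X ^ o - C c : F[X]).Separable := separable_X_pow_sub_C' p o c hp hc
  have h2 : minpoly F M ∣ X ^ o - C c := by
    rw [minpoly.dvd_iff, map_sub, map_pow, aeval_X, aeval_C, h, Algebra.algebraMap_eq_smul_one, sub_self]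
  have h3 : Squarefree (minpoly F M) := h1.squarefree.squarefree_of_dvd h2
  have hk0 : k ≠ 0 := by
    rintro rfl
    rw [pow_zero] at hk
    have h4 : (aeval M f : Matrix ι ι F) = aeval M f * 1 := (mul_one _).symm
    rw [hk, mul_zero] at h4
    exact h0 h4
  have h4 : minpoly F M ∣ f ^ k := by
    rw [minpoly.dvd_iff, map_pow, hk]
  exact (minpoly.dvd_iff).1 ((h3.dvd_pow_iff_dvd hk0).1 h4)

/-- an element of a group whose image modulo scalars has order prime to `p` -/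
theorem dvd_of_poly {p : ℕ} [CharP F p] {G H : Type*} [Group G] [Group H] (g : G →* Matrix ι ι F) (π : G →* H)
    (hπ : ∀ x : G, π x = 1 → ∃ c : F, c ≠ 0 ∧ g x = c • (1 : Matrix ι ι F)) (x : G) {f : F[X]} {k : ℕ}
    (h0 : aeval (g x) f ≠ 0) (hk : aeval (g x) f ^ k = 0) : p ∣ orderOf (π x) := by
  by_contra hp
  obtain ⟨c, hc, h⟩ := hπ (x ^ orderOf (π x)) (by rw [map_pow, pow_orderOf_eq_one])
  rw [map_pow] at h
  exact pow_ne_smul h0 hk hp hc h

/-- the same with the coefficients of a cubic polynomial -/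
theorem dvd_of_cubic {p : ℕ} [CharP F p] {G H : Type*} [Group G] [Group H] (g : G →* Matrix ι ι F) (π : G →* H)
    (hπ : ∀ x : G, π x = 1 → ∃ c : F, c ≠ 0 ∧ g x = c • (1 : Matrix ι ι F)) (x : G) (a b c d : F)
    (h0 : a • (g x * g x * g x) + b • (g x * g x) + c • g x + d • (1 : Matrix ι ι F) ≠ 0)
    (hk : (a • (g x * g x * g x) + b • (g x * g x) + c • g x + d • (1 : Matrix ι ι F)) *
      (a • (g x * g x * g x) + b • (g x * g x) + c • g x + d • (1 : Matrix ι ι F)) *
      ((a • (g x * g x * g x) + b • (g x * g x) + c • g x + d • (1 : Matrix ι ι F)) *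
      (a • (g x * g x * g x) + b • (g x * g x) + c • g x + d • (1 : Matrix ι ι F))) = 0) :
    p ∣ orderOf (π x) := by
  have h1 : aeval (g x) (C a * X ^ 3 + C b * X ^ 2 + C c * X + C d : F[X]) =
      a • (g x * g x * g x) + b • (g x * g x) + c • g x + d • (1 : Matrix ι ι F) := by
    simp only [map_add, map_mul, aeval_X, aeval_C, Algebra.algebraMap_eq_smul_one, Matrix.smul_mul,
      one_mul, pow_succ, pow_zero]
  refine dvd_of_poly g π hπ x (f := C a * X ^ 3 + C b * X ^ 2 + C c * X + C d) (k := 4) ?_ ?_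
  · rw [h1]; exact h0
  · rw [h1, show (4 : ℕ) = 2 * 2 by norm_num, pow_mul, pow_two, pow_two]
    exact hk

end Cfsg.Agent.H956.PSing
end

-- part: H956/PSpFam
section
/-!
# Families of `p`-singular elements of `PSp_2m(F)`

`big_of_fam` : nine elements of `Sp_2m(F)` with non-scalar-similar matrices and `p`-singular images.
`big_of_list` : the same with decidable data.
-/

set_option autoImplicit false

namespace Cfsg.Agent.H956.PSpFam

open Matrix Polynomial Cfsg.Agent.LieClassical Cfsg.Agent.H504.Zeros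

variable {F : Type*} [Field F] {m : ℕ}

/-- the matrix of an element of `Sp` -/
def cs : symplecticGroup (Fin m) F →* Matrix (Fin m ⊕ Fin m) (Fin m ⊕ Fin m) F := (symplecticGroup (Fin m) F).subtype

/-- the projection `Sp → PSp` -/
def ps : symplecticGroup (Fin m) F →* Cfsg.PSp m F := QuotientGroup.mk' _

theorem ps_surjective : Function.Surjective (ps : symplecticGroup (Fin m) F →* Cfsg.PSp m F) :=
  QuotientGroup.mk'_surjective _

theorem ps_eq_one_iff (x : symplecticGroup (Fin m) F) :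
    ps x = 1 ↔ x ∈ Subgroup.center (symplecticGroup (Fin m) F) :=
  QuotientGroup.eq_one_iff x

/-- scalars in `Sp` -/
theorem scalar_of_ps (hm : 1 ≤ m) (x : symplecticGroup (Fin m) F) (h : ps x = 1) :
    ∃ c : F, c * c = 1 ∧ cs x = c • (1 : Matrix (Fin m ⊕ Fin m) (Fin m ⊕ Fin m) F) := by
  rw [ps_eq_one_iff, SympCenter.mem_center_iff] at h
  obtain ⟨c, hc⟩ := h
  refine ⟨c, ?_, hc⟩
  apply SympCenter.sq_eq_one_of_smul_mem hm
  rw [← hc]
  exact x.2

theorem scalar_of_ps' (hm : 1 ≤ m) (x : symplecticGroup (Fin m) F) (h : ps x = 1) :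
    ∃ c : F, c ≠ 0 ∧ cs x = c • (1 : Matrix (Fin m ⊕ Fin m) (Fin m ⊕ Fin m) F) := by
  obtain ⟨c, hc, h1⟩ := scalar_of_ps hm x h
  refine ⟨c, ?_, h1⟩
  rintro rfl
  rw [mul_zero] at hc
  exact zero_ne_one hc

/-- similarity up to sign -/
def Sim (M N : Matrix (Fin m ⊕ Fin m) (Fin m ⊕ Fin m) F) : Prop :=
  ∃ (P Q : Matrix (Fin m ⊕ Fin m) (Fin m ⊕ Fin m) F) (c : F), P * Q = 1 ∧ Q * P = 1 ∧ c * c = 1 ∧
    N = c • (P * M * Q)

theorem sim_of_isConj (hm : 1 ≤ m) {x y : symplecticGroup (Fin m) F} (h : IsConj (ps x) (ps y)) :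
    Sim (cs x) (cs y) := by
  obtain ⟨c, h5⟩ := isConj_iff.1 h
  obtain ⟨g, rfl⟩ := ps_surjective c
  have h6 : ps ((g * x * g⁻¹)⁻¹ * y) = 1 := by
    rw [map_mul, map_inv, map_mul, map_mul, map_inv, h5]
    simp
  obtain ⟨c, hc, h7⟩ := scalar_of_ps hm _ h6
  refine ⟨cs g, cs g⁻¹, c, ?_, ?_, hc, ?_⟩
  · rw [← map_mul, mul_inv_cancel, map_one]
  · rw [← map_mul, inv_mul_cancel, map_one]
  · have h8 : cs y = cs (g * x * g⁻¹) * cs ((g * x * g⁻¹)⁻¹ * y) := by
      rw [← map_mul cs, mul_inv_cancel_left]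
    rw [h8, h7, Matrix.mul_smul, mul_one, map_mul, map_mul]

theorem Sim.trace {M N : Matrix (Fin m ⊕ Fin m) (Fin m ⊕ Fin m) F} (h : Sim M N) :
    ∃ c : F, c * c = 1 ∧ N.trace = c * M.trace := by
  obtain ⟨P, Q, c, h1, h2, hc, rfl⟩ := h
  exact ⟨c, hc, by rw [Matrix.trace_smul, Matrix.trace_mul_cycle, h2, one_mul, smul_eq_mul]⟩

theorem Sim.trace_sq {M N : Matrix (Fin m ⊕ Fin m) (Fin m ⊕ Fin m) F} (h : Sim M N) :
    N.trace ^ 2 = M.trace ^ 2 := by
  obtain ⟨c, hc, h1⟩ := h.trace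
  rw [h1]
  linear_combination (M.trace ^ 2) * hc

theorem Sim.trace_mul_self {M N : Matrix (Fin m ⊕ Fin m) (Fin m ⊕ Fin m) F} (h : Sim M N) :
    (N * N).trace = (M * M).trace := by
  obtain ⟨P, Q, c, h1, h2, hc, rfl⟩ := h
  have h3 : P * M * Q * (P * M * Q) = P * (M * M) * Q := by
    calc P * M * Q * (P * M * Q) = P * M * (Q * P) * M * Q := by simp only [mul_assoc]
      _ = _ := by rw [h2, mul_one]; simp only [mul_assoc]
  rw [smul_mul_smul_comm, hc, one_smul, h3, Matrix.trace_mul_cycle, h2, one_mul]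

/-- similarity up to sign through an algebra homomorphism -/
theorem Sim.exists_hom {M N : Matrix (Fin m ⊕ Fin m) (Fin m ⊕ Fin m) F} (h : Sim M N) :
    ∃ φ : Matrix (Fin m ⊕ Fin m) (Fin m ⊕ Fin m) F →ₐ[F] Matrix (Fin m ⊕ Fin m) (Fin m ⊕ Fin m) F,
      Function.Injective φ ∧ (N = φ M ∨ N = -φ M) := by
  obtain ⟨P, Q, c, h1, h2, hc, rfl⟩ := h
  let φ : Matrix (Fin m ⊕ Fin m) (Fin m ⊕ Fin m) F →ₐ[F] Matrix (Fin m ⊕ Fin m) (Fin m ⊕ Fin m) F :=
    { toFun := fun X => P * X * Q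
      map_one' := by rw [mul_one, h1]
      map_mul' := fun X Y => by
        calc P * (X * Y) * Q = P * X * (1 * Y) * Q := by rw [one_mul]; simp only [mul_assoc]
          _ = P * X * Q * (P * Y * Q) := by rw [← h2]; simp only [mul_assoc]
      map_zero' := by rw [mul_zero, zero_mul]
      map_add' := fun X Y => by rw [mul_add, add_mul]
      commutes' := fun r => by
        rw [Algebra.algebraMap_eq_smul_one, Matrix.mul_smul, mul_one, Matrix.smul_mul, h1] }
  refine ⟨φ, ?_, ?_⟩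
  · intro X Y hXY
    have h3 : P * X * Q = P * Y * Q := hXY
    calc X = (Q * P) * X * (Q * P) := by rw [h2, one_mul, mul_one]
      _ = Q * (P * X * Q) * P := by simp only [mul_assoc]
      _ = Q * (P * Y * Q) * P := by rw [h3]
      _ = (Q * P) * Y * (Q * P) := by simp only [mul_assoc]
      _ = Y := by rw [h2, one_mul, mul_one]
  · rcases mul_self_eq_one_iff.1 hc with rfl | rfl
    · exact Or.inl (one_smul _ _)
    · exact Or.inr (by rw [neg_smul, one_smul]; rfl)

variable {p : ℕ}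

/-- **families of `p`-singular elements** -/
theorem big_of_fam {F : Type} [Field F] [Fintype F] [CharP F p] {m : ℕ} (hm : 2 ≤ m)
    (h2 : m = 2 → 3 ≤ Fintype.card F) {ι : Type} [Fintype ι] (x : ι → symplecticGroup (Fin m) F)
    (hx : ∀ i j, Sim (cs (x i)) (cs (x j)) → i = j) (hs : ∀ i, p ∣ orderOf (ps (x i)))
    (h9 : 9 ≤ Fintype.card ι) : Big (Cfsg.PSp m F) := by
  classical
  have hp : p.Prime := by
    obtain ⟨n, h, -⟩ := FiniteField.card F p
    exact h
  have : Finite (symplecticGroup (Fin m) F) := Subtype.finite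
  have hsimp : IsSimpleGroup (Cfsg.PSp m F) := Cfsg.Agent.S0270.result m hm h2
  have hL : IsLieTypeChar p (Cfsg.PSp m F) :=
    Or.inr (Or.inl ⟨F, inferInstance, inferInstance, inferInstance, m, hm, h2, ⟨MulEquiv.refl _⟩⟩)
  have hinj : ∀ i j, IsConj (ps (x i)) (ps (x j)) → i = j := fun i j h => hx i j (sim_of_isConj (by omega) h)
  refine big_of_lie hp hL (Finset.univ.image fun i => ps (x i)) ?_ ?_ ?_
  · intro g hg h hh hc
    obtain ⟨i, -, rfl⟩ := Finset.mem_image.1 hg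
    obtain ⟨j, -, rfl⟩ := Finset.mem_image.1 hh
    rw [hinj i j hc]
  · intro g hg
    obtain ⟨i, -, rfl⟩ := Finset.mem_image.1 hg
    exact hs i
  · rw [Finset.card_image_of_injective]
    · exact h9
    · intro i j hij
      have h4 : ps (x i) = ps (x j) := hij
      exact hinj i j (by rw [h4])

/-- the polynomial `a M³ + b M² + c M + d` -/
def cub {K : Type} [Field K] (M : Matrix (Fin m ⊕ Fin m) (Fin m ⊕ Fin m) K) (t : K × K × K × K) :
    Matrix (Fin m ⊕ Fin m) (Fin m ⊕ Fin m) K :=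
  t.1 • (M * M * M) + t.2.1 • (M * M) + t.2.2.1 • M + t.2.2.2 • (1 : Matrix (Fin m ⊕ Fin m) (Fin m ⊕ Fin m) K)

/-- symplectic and not semisimple -/
def good {K : Type} [Field K] [DecidableEq K]
    (x : Matrix (Fin m ⊕ Fin m) (Fin m ⊕ Fin m) K × (K × K × K × K)) : Bool :=
  decide (x.1 * J (Fin m) K * x.1ᵀ = J (Fin m) K) && decide (cub x.1 x.2 ≠ 0) &&
    decide (cub x.1 x.2 * cub x.1 x.2 * (cub x.1 x.2 * cub x.1 x.2) = 0)

/-- **lists of `p`-singular elements** -/
theorem big_of_list {K : Type} [Field K] [Fintype K] [DecidableEq K] [CharP K p] {m : ℕ} (hm : 2 ≤ m)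
    (h2 : m = 2 → 3 ≤ Fintype.card K) {α : Type} (f : Matrix (Fin m ⊕ Fin m) (Fin m ⊕ Fin m) K → α)
    (hf : ∀ M N, Sim M N → f N = f M)
    (l : List (Matrix (Fin m ⊕ Fin m) (Fin m ⊕ Fin m) K × (K × K × K × K)))
    (hl : ∀ x ∈ l, good x = true) (hnd : (l.map fun x => f x.1).Nodup) (h9 : 9 ≤ l.length) :
    Big (Cfsg.PSp m K) := by
  have hg : ∀ i : Fin l.length, ((l.get i).1 * J (Fin m) K * (l.get i).1ᵀ = J (Fin m) K ∧
      cub (l.get i).1 (l.get i).2 ≠ 0) ∧ cub (l.get i).1 (l.get i).2 * cub (l.get i).1 (l.get i).2 *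
        (cub (l.get i).1 (l.get i).2 * cub (l.get i).1 (l.get i).2) = 0 := by
    intro i
    have h := hl (l.get i) (List.get_mem l i)
    rwa [good, Bool.and_eq_true, Bool.and_eq_true, decide_eq_true_eq, decide_eq_true_eq,
      decide_eq_true_eq] at h
  refine big_of_fam (p := p) hm h2 (ι := Fin l.length)
    (fun i => ⟨(l.get i).1, SymplecticGroup.mem_iff.2 (hg i).1.1⟩) ?_ ?_ (by rw [Fintype.card_fin]; exact h9)
  · intro i j hij
    have h4 : f (l.get i).1 = f (l.get j).1 := (hf _ _ hij).symm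
    have h5 := List.nodup_iff_injective_get.1 hnd
    have h6 : (l.map fun x => f x.1).get (i.cast (by simp)) = (l.map fun x => f x.1).get (j.cast (by simp)) := by
      simpa using h4
    have h7 := h5 h6
    exact Fin.ext (by simpa [Fin.ext_iff] using h7)
  · intro i
    exact PSing.dvd_of_cubic cs ps (scalar_of_ps' (by omega)) _ _ _ _ _ (hg i).1.2 (hg i).2

end Cfsg.Agent.H956.PSpFam
end

-- part: H956/ZerosPSp4
section
/-!
# Zeros of characters: `PSp_4(q)`, `q ≥ 3` (S4895)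
-/

set_option autoImplicit false
set_option maxRecDepth 20000

namespace Cfsg.Agent.H956.ZerosPSp4

open Matrix Cfsg.Agent.LieClassical Cfsg.Agent.H504.Zeros Cfsg.Agent.H956.PSpFam

section Inv

variable {K : Type} [Field K] [DecidableEq K] {m : ℕ}

/-- `±M` is unipotent with `(M ∓ 1) ^ 2 = 0` -/
def b1 (M : Matrix (Fin m ⊕ Fin m) (Fin m ⊕ Fin m) K) : Bool :=
  decide ((M - 1) * (M - 1) = 0 ∨ (M + 1) * (M + 1) = 0)

/-- `(M ^ 2 - 1) (M ∓ 1) = 0` -/
def b2 (M : Matrix (Fin m ⊕ Fin m) (Fin m ⊕ Fin m) K) : Bool :=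
  decide ((M * M - 1) * (M - 1) = 0 ∨ (M * M - 1) * (M + 1) = 0)

theorem b1_sim {M N : Matrix (Fin m ⊕ Fin m) (Fin m ⊕ Fin m) K} (h : Sim M N) : b1 N = b1 M := by
  obtain ⟨φ, hφ, h1⟩ := h.exists_hom
  have e1 : (M - 1) * (M - 1) = 0 ↔ (φ M - 1) * (φ M - 1) = 0 := by
    rw [← map_eq_zero_iff φ hφ]; simp only [map_mul, map_sub, map_one]
  have e2 : (M + 1) * (M + 1) = 0 ↔ (φ M + 1) * (φ M + 1) = 0 := by
    rw [← map_eq_zero_iff φ hφ]; simp only [map_mul, map_add, map_one]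
  rw [b1, b1, decide_eq_decide, e1, e2]
  rcases h1 with h1 | h1
  · rw [h1]
  · rw [h1, show (-φ M + 1) * (-φ M + 1) = (φ M - 1) * (φ M - 1) by noncomm_ring,
      show (-φ M - 1) * (-φ M - 1) = (φ M + 1) * (φ M + 1) by noncomm_ring, or_comm]

theorem b2_sim {M N : Matrix (Fin m ⊕ Fin m) (Fin m ⊕ Fin m) K} (h : Sim M N) : b2 N = b2 M := by
  obtain ⟨φ, hφ, h1⟩ := h.exists_hom
  have e1 : (M * M - 1) * (M - 1) = 0 ↔ (φ M * φ M - 1) * (φ M - 1) = 0 := by
    rw [← map_eq_zero_iff φ hφ]; simp only [map_mul, map_sub, map_one]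
  have e2 : (M * M - 1) * (M + 1) = 0 ↔ (φ M * φ M - 1) * (φ M + 1) = 0 := by
    rw [← map_eq_zero_iff φ hφ]; simp only [map_mul, map_add, map_sub, map_one]
  rw [b2, b2, decide_eq_decide, e1, e2]
  rcases h1 with h1 | h1
  · rw [h1]
  · rw [h1, show (-φ M * -φ M - 1) * (-φ M + 1) = -((φ M * φ M - 1) * (φ M - 1)) by noncomm_ring,
      show (-φ M * -φ M - 1) * (-φ M - 1) = -((φ M * φ M - 1) * (φ M + 1)) by noncomm_ring, neg_eq_zero,
      neg_eq_zero, or_comm]

/-- invariants -/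
def inv (M : Matrix (Fin m ⊕ Fin m) (Fin m ⊕ Fin m) K) : K × K × Bool × Bool :=
  (M.trace * M.trace, (M * M).trace, b1 M, b2 M)

theorem inv_sim (M N : Matrix (Fin m ⊕ Fin m) (Fin m ⊕ Fin m) K) (h : Sim M N) : inv N = inv M := by
  have h1 := h.trace_sq
  rw [pow_two, pow_two] at h1
  rw [inv, inv, b1_sim h, b2_sim h, h.trace_mul_self, h1]

end Inv

section Odd

variable (K : Type) [Field K] [DecidableEq K]

/-- the direct sum of the companion matrices of `(X - 1) ^ 2` and `X ^ 2 - s X + 1` -/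
def g (s : K) : Matrix (Fin 2 ⊕ Fin 2) (Fin 2 ⊕ Fin 2) K × (K × K × K × K) :=
  (fromBlocks 0 (-1) 1 !![2, 0; 0, s],
    if s = 2 then (0, 0, 1, -1) else if s = -2 then (0, 1, 0, -1) else (1, -(s + 1), s + 1, -1))

/-- a regular unipotent element -/
def R : Matrix (Fin 2 ⊕ Fin 2) (Fin 2 ⊕ Fin 2) K × (K × K × K × K) :=
  (fromBlocks !![1, 1; 0, 1] !![0, 1; 0, 1] 0 !![1, 0; -1, 1], (0, 0, 1, -1))

/-- the direct sum of a unipotent element and `-1` -/
def D : Matrix (Fin 2 ⊕ Fin 2) (Fin 2 ⊕ Fin 2) K × (K × K × K × K) :=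
  (fromBlocks !![0, 0; 0, -1] !![-1, 0; 0, 0] !![1, 0; 0, 0] !![2, 0; 0, -1], (0, 1, 0, -1))

/-- an element with minimal polynomial `(X ^ 2 - t X + 1) ^ 2` if `1 + 4 = 0` -/
def T (t : K) : Matrix (Fin 2 ⊕ Fin 2) (Fin 2 ⊕ Fin 2) K × (K × K × K × K) :=
  (fromBlocks 0 (-1) 1 !![t + 1, 2; 2, t - 1], (0, 1, -t, 1))

end Odd

instance fact5 : Fact (Nat.Prime 5) := ⟨by norm_num⟩
instance fact7 : Fact (Nat.Prime 7) := ⟨by norm_num⟩

def l5 : List (Matrix (Fin 2 ⊕ Fin 2) (Fin 2 ⊕ Fin 2) (ZMod 5) × (ZMod 5 × ZMod 5 × ZMod 5 × ZMod 5)) :=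
  [g (ZMod 5) 0, g (ZMod 5) 1, g (ZMod 5) 2, g (ZMod 5) 3, g (ZMod 5) 4, R (ZMod 5), D (ZMod 5),
    T (ZMod 5) 0, T (ZMod 5) 1]

def l7 : List (Matrix (Fin 2 ⊕ Fin 2) (Fin 2 ⊕ Fin 2) (ZMod 7) × (ZMod 7 × ZMod 7 × ZMod 7 × ZMod 7)) :=
  [g (ZMod 7) 0, g (ZMod 7) 1, g (ZMod 7) 2, g (ZMod 7) 3, g (ZMod 7) 4, g (ZMod 7) 5, g (ZMod 7) 6,
    R (ZMod 7), D (ZMod 7)]

section Fast

set_option genSizeOf false in set_option genInjectivity false in
private structure Cd (K : Type) [CommRing K] where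
  dec : ℕ → K
  enc : K → ℕ
  dot : ℕ → ℕ → ℕ → ℕ → ℕ → ℕ → ℕ → ℕ → ℕ
  eq : ℕ → ℕ → Bool
  de : ∀ x, dec (enc x) = x
  hdot : ∀ a b c d e f g h,
    dec (dot a b c d e f g h) = dec a * dec b + dec c * dec d + dec e * dec f + dec g * dec h
  heq : ∀ a b, eq a b = true ↔ dec a = dec b

private noncomputable def al4 (f : ℕ → Bool) : Bool :=
  Bool.rec false (Bool.rec false (Bool.rec false (f (nat_lit 3)) (f (nat_lit 2))) (f (nat_lit 1))) (f (nat_lit 0))

private theorem al4_iff {f : ℕ → Bool} : al4 f = true ↔ ∀ i : Fin 4, f i.1 = true := by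
  have : al4 f = (f 0 && (f 1 && (f 2 && f 3))) := by
    show @Bool.rec (fun _ => Bool) false (@Bool.rec (fun _ => Bool) false (@Bool.rec (fun _ => Bool) false (f 3) (f 2))
      (f 1)) (f 0) = _
    cases f 0 <;> cases f 1 <;> cases f 2 <;> rfl
  rw [this, Bool.and_eq_true, Bool.and_eq_true, Bool.and_eq_true, Fin.forall_fin_succ, Fin.forall_fin_succ,
    Fin.forall_fin_two]
  rfl

variable {K ι : Type} [CommRing K] (C : Cd K) (e : ι ≃ Fin 4)

private def toM (A : ℕ → ℕ → ℕ) : Matrix ι ι K := of fun i j => C.dec (A (e i).1 (e j).1)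
private def ofM (M : Matrix ι ι K) (i j : ℕ) : ℕ := C.enc (M (e.symm (Fin.ofNat 4 i)) (e.symm (Fin.ofNat 4 j)))
private def fmul (A B : ℕ → ℕ → ℕ) (i j : ℕ) : ℕ :=
  C.dot (A i (nat_lit 0)) (B (nat_lit 0) j) (A i (nat_lit 1)) (B (nat_lit 1) j) (A i (nat_lit 2)) (B (nat_lit 2) j)
    (A i (nat_lit 3)) (B (nat_lit 3) j)
private def flin (a b c d : K) (A B D E : ℕ → ℕ → ℕ) (i j : ℕ) : ℕ :=
  C.dot (C.enc a) (A i j) (C.enc b) (B i j) (C.enc c) (D i j) (C.enc d) (E i j)
private noncomputable def feq (A B : ℕ → ℕ → ℕ) : Bool := al4 fun i => al4 fun j => C.eq (A i j) (B i j)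

private theorem al4_e {f : ℕ → Bool} : al4 f = true ↔ ∀ i, f (e i).1 = true :=
  al4_iff.trans (e.forall_congr_right (q := fun i => f i.1 = true)).symm

private theorem toM_ofM (M : Matrix ι ι K) : toM C e (ofM C e M) = M := by
  ext i j
  have h : ∀ x : Fin 4, Fin.ofNat 4 x.1 = x := fun x => Fin.ext (Nat.mod_eq_of_lt x.2)
  show C.dec (C.enc (M (e.symm (Fin.ofNat 4 (e i).1)) (e.symm (Fin.ofNat 4 (e j).1)))) = _
  rw [C.de, h, h, e.symm_apply_apply, e.symm_apply_apply]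

private theorem toM_lin (a b c d : K) (A B D E : ℕ → ℕ → ℕ) : toM C e (flin C a b c d A B D E) =
    a • toM C e A + b • toM C e B + c • toM C e D + d • toM C e E := by
  ext i j
  refine (C.hdot _ _ _ _ _ _ _ _).trans ?_
  rw [C.de, C.de, C.de, C.de]
  rfl

private theorem toM_mul [Fintype ι] (A B : ℕ → ℕ → ℕ) : toM C e (fmul C A B) = toM C e A * toM C e B := by
  ext i j
  rw [Matrix.mul_apply]
  refine Eq.trans ?_ (e.sum_comp fun k => C.dec (A (e i).1 k.1) * C.dec (B k.1 (e j).1)).symm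
  rw [Fin.sum_univ_four]
  exact C.hdot _ _ _ _ _ _ _ _

private theorem feq_eq {A B : ℕ → ℕ → ℕ} {M N : Matrix ι ι K} (h : toM C e A = M) (k : toM C e B = N)
    [d : Decidable (M = N)] : decide (M = N) = feq C A B := by
  rw [Bool.eq_iff_iff, decide_eq_true_iff, ← h, ← k]
  refine Matrix.ext_iff.symm.trans (Iff.symm ((al4_e e).trans (forall_congr' fun i => ?_)))
  refine (al4_e e).trans (forall_congr' fun j => ?_)
  exact C.heq _ _

private def cz (p : ℕ) [NeZero p] : Cd (ZMod p) where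
  dec := Nat.cast
  enc := ZMod.val
  dot a b c d e f g h :=
    Nat.mod (Nat.add (Nat.add (Nat.add (Nat.mul a b) (Nat.mul c d)) (Nat.mul e f)) (Nat.mul g h)) p
  eq a b := Nat.beq (Nat.mod a p) (Nat.mod b p)
  de := ZMod.natCast_zmod_val
  hdot a b c d e f g h := by
    show (((a * b + c * d + e * f + g * h) % p : ℕ) : ZMod p) = _
    rw [ZMod.natCast_mod, Nat.cast_add, Nat.cast_add, Nat.cast_add, Nat.cast_mul, Nat.cast_mul, Nat.cast_mul,
      Nat.cast_mul]
  heq a b := by rw [Nat.beq_eq]; exact (ZMod.natCast_eq_natCast_iff' a b p).symm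

end Fast

section FastGood

variable {K : Type} [Field K] [DecidableEq K] (C : Cd K)

private abbrev e4 : Fin 2 ⊕ Fin 2 ≃ Fin 4 := finSumFinEquiv

private noncomputable def gd2 (A T J Z D : ℕ → ℕ → ℕ) : Bool :=
  feq C (fmul C (fmul C A J) T) J && !feq C D Z && feq C (fmul C (fmul C D D) (fmul C D D)) Z

private noncomputable def gd1 (a b c d : K) (A T : ℕ → ℕ → ℕ) : Bool :=
  gd2 C A T (ofM C e4 (J (Fin 2) K)) (ofM C e4 0)
    (flin C a b c d (fmul C (fmul C A A) A) (fmul C A A) A (ofM C e4 1))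

private theorem good_eq : good (m := 2) (K := K) =
    fun x => gd1 C x.2.1 x.2.2.1 x.2.2.2.1 x.2.2.2.2 (ofM C e4 x.1) fun i j => ofM C e4 x.1 j i := by
  funext x
  have h : toM C e4 (flin C x.2.1 x.2.2.1 x.2.2.2.1 x.2.2.2.2 (fmul C (fmul C (ofM C e4 x.1) (ofM C e4 x.1))
      (ofM C e4 x.1)) (fmul C (ofM C e4 x.1) (ofM C e4 x.1)) (ofM C e4 x.1) (ofM C e4 1)) = cub x.1 x.2 := by
    rw [toM_lin, toM_mul, toM_mul, toM_ofM, toM_ofM]; rfl
  have h1 : toM C e4 (fun i j => ofM C e4 x.1 j i) = x.1ᵀ := toM_ofM C e4 x.1ᵀ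
  exact congrArg₂ and (congrArg₂ and (feq_eq C e4 (by rw [toM_mul, toM_mul, h1, toM_ofM, toM_ofM]) (toM_ofM C e4 _))
    (decide_not.trans (congrArg not (feq_eq C e4 h (toM_ofM C e4 0)))))
    (feq_eq C e4 (by rw [toM_mul, toM_mul, h]) (toM_ofM C e4 0))

end FastGood

theorem good5 : l5.all good = true := by rw [good_eq (cz 5)]; decide +kernel
theorem good7 : l7.all good = true := by rw [good_eq (cz 7)]; decide +kernel
theorem nodup5 : (l5.map fun x => inv x.1).Nodup := by decide +kernel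
theorem nodup7 : (l7.map fun x => inv x.1).Nodup := by decide +kernel

/-- `q = 5` -/
theorem big_five {F : Type} [Field F] [Fintype F] (hF : Fintype.card F = 5) : Big (Cfsg.PSp 2 F) := by
  refine Big.of_equiv (FieldTransfer.pspCongr 2 (ZMod.ringEquivOfPrime F (by norm_num) hF).symm) ?_
  exact big_of_list (p := 5) le_rfl (fun _ => by rw [ZMod.card]; norm_num) inv inv_sim l5
    (fun M hM => List.all_eq_true.1 good5 M hM) nodup5 (by decide)

/-- `q = 7` -/
theorem big_seven {F : Type} [Field F] [Fintype F] (hF : Fintype.card F = 7) : Big (Cfsg.PSp 2 F) := by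
  refine Big.of_equiv (FieldTransfer.pspCongr 2 (ZMod.ringEquivOfPrime F (by norm_num) hF).symm) ?_
  exact big_of_list (p := 7) le_rfl (fun _ => by rw [ZMod.card]; norm_num) inv inv_sim l7
    (fun M hM => List.all_eq_true.1 good7 M hM) nodup7 (by decide)

/-! ### `q = 4` -/

section Four

open Cfsg.Agent.H674.ExplicitCases

/-- rank at most one -/
theorem vecMulVec_of_minors {K ι : Type*} [Field K] {X : Matrix ι ι K}
    (h : ∀ i j k l, X i j * X k l = X i l * X k j) : ∃ a b : ι → K, X = vecMulVec a b := by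
  by_cases h0 : X = 0
  · refine ⟨0, 0, ?_⟩
    rw [h0]
    ext i j
    simp [vecMulVec_apply]
  · obtain ⟨i0, j0, hij⟩ : ∃ i j, X i j ≠ 0 := by
      by_contra hcon
      push Not at hcon
      exact h0 (Matrix.ext hcon)
    refine ⟨fun i => X i j0, fun j => X i0 j / X i0 j0, ?_⟩
    ext i j
    rw [vecMulVec_apply, mul_div_assoc', eq_div_iff hij]
    exact h _ _ _ _

/-- `M - 1` has rank at most one -/
def rk1 {K : Type} [Field K] [DecidableEq K] (M : Matrix (Fin 2 ⊕ Fin 2) (Fin 2 ⊕ Fin 2) K) : Bool :=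
  decide (∀ i j k l, (M - 1) i j * (M - 1) k l = (M - 1) i l * (M - 1) k j)

/-- invariants -/
def inv4 {K : Type} [Field K] [DecidableEq K] (cl : List K) (M : Matrix (Fin 2 ⊕ Fin 2) (Fin 2 ⊕ Fin 2) K) :
    K × List Bool × Bool × Bool :=
  (M.trace, cl.map (fun c => decide (M * M * (M * M) + c • (M * M) + 1 = 0)), decide (M * M = 1), rk1 M)

section Inv4

variable {K : Type} [Field K] [DecidableEq K]

theorem rk1_aux {M P Q : Matrix (Fin 2 ⊕ Fin 2) (Fin 2 ⊕ Fin 2) K} (h1 : P * Q = 1)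
    (h : rk1 M = true) : rk1 (P * M * Q) = true := by
  rw [rk1, decide_eq_true_eq] at h ⊢
  obtain ⟨a, b, hab⟩ := vecMulVec_of_minors h
  have h2 : P * M * Q - 1 = vecMulVec (P *ᵥ a) (b ᵥ* Q) := by
    have h3 : P * M * Q - 1 = P * (M - 1) * Q := by
      rw [mul_sub, sub_mul, mul_one, h1]
    rw [h3, hab, mul_vecMulVec, vecMulVec_mul]
  intro i j k l
  rw [h2]
  simp only [vecMulVec_apply]
  ring

theorem inv4_sim (hK : ∀ c : K, c * c = 1 → c = 1) (cl : List K)
    (M N : Matrix (Fin 2 ⊕ Fin 2) (Fin 2 ⊕ Fin 2) K) (h : Sim M N) : inv4 cl N = inv4 cl M := by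
  have ht : N.trace = M.trace := by
    obtain ⟨c, hc, h1⟩ := h.trace
    rw [h1, hK c hc, one_mul]
  have h0 : rk1 N = rk1 M := by
    obtain ⟨P, Q, c, h1, h2, hc, rfl⟩ := h
    rw [hK c hc, one_smul, Bool.eq_iff_iff]
    constructor
    · intro h3
      have h4 := rk1_aux (P := Q) (Q := P) h2 h3
      rwa [show Q * (P * M * Q) * P = M by
        calc Q * (P * M * Q) * P = (Q * P) * M * (Q * P) := by simp only [mul_assoc]
          _ = M := by rw [h2, one_mul, mul_one]] at h4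
    · exact rk1_aux h1
  obtain ⟨φ, hφ, h1⟩ := h.exists_hom
  have h2 : N = φ M := by
    rcases h1 with h1 | h1
    · exact h1
    · have h3 : (-1 : K) = 1 := hK _ (by ring)
      rw [h1, ← one_smul K (-φ M), smul_neg, ← neg_smul, h3, one_smul]
  have e1 : ∀ c : K, N * N * (N * N) + c • (N * N) + 1 = 0 ↔ M * M * (M * M) + c • (M * M) + 1 = 0 := by
    intro c
    have h3 : N * N * (N * N) + c • (N * N) + 1 = φ (M * M * (M * M) + c • (M * M) + 1) := by
      rw [h2, map_add, map_add, map_smul, map_mul, map_mul, map_one]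
    rw [h3]
    exact map_eq_zero_iff φ hφ
  have e2 : N * N = 1 ↔ M * M = 1 := by
    have h3 : N * N = φ (M * M) := by rw [h2, map_mul]
    have h4 : (1 : Matrix (Fin 2 ⊕ Fin 2) (Fin 2 ⊕ Fin 2) K) = φ 1 := (map_one φ).symm
    rw [h3]
    conv_lhs => rw [h4]
    exact hφ.eq_iff
  rw [inv4, inv4, h0, ht, decide_eq_decide.2 e2]
  exact congrArg (fun l => (M.trace, l, decide (M * M = 1), rk1 M))
    (List.map_congr_left fun c _ => decide_eq_decide.2 (e1 c))

end Inv4

theorem sq_eq (c : F4) (h : c * c = 1) : c = 1 := by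
  revert c; decide +kernel

/-- the elements of `Sp_4(4)` -/
def l4 : List (Matrix (Fin 2 ⊕ Fin 2) (Fin 2 ⊕ Fin 2) F4 × (F4 × F4 × F4 × F4)) :=
  [g F4 ⟨0, 0⟩, g F4 ⟨1, 0⟩, g F4 ⟨0, 1⟩, g F4 ⟨1, 1⟩,
    (fromBlocks !![0, 0; 0, 1] !![1, 0; 0, 0] !![1, 0; 0, 0] !![0, 0; 0, 1], (0, 0, 1, 1)),
    (fromBlocks 0 (-1) 1 !![1, 1; 1, 1], (0, 0, 1, 1)),
    (fromBlocks 0 (-1) 1 !![⟨0, 0⟩, 1; 1, ⟨0, 0⟩], (0, 1, ⟨1, 0⟩, 1)),
    (fromBlocks 0 (-1) 1 !![⟨1, 1⟩, 1; 1, ⟨1, 1⟩], (0, 1, ⟨0, 1⟩, 1)),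
    (fromBlocks 0 (-1) 1 !![⟨0, 1⟩, 1; 1, ⟨0, 1⟩], (0, 1, ⟨1, 1⟩, 1))]

private def d4 (n : ℕ) : F4 := ⟨(n % 4 % 2 : ℕ), (n % 4 / 2 : ℕ)⟩
private def m4 (a b : ℕ) : ℕ :=
  Nat.shiftRight (nat_lit 2625168384) (Nat.add (Nat.mul (nat_lit 8) (Nat.mod a (nat_lit 4))) (Nat.mul (nat_lit 2) (Nat.mod b (nat_lit 4))))
private theorem d4_mod (a : ℕ) : d4 (a % 4) = d4 a := by
  show (⟨(a % 4 % 4 % 2 : ℕ), (a % 4 % 4 / 2 : ℕ)⟩ : F4) = _
  rw [Nat.mod_mod]; rfl
private theorem d4_all : ∀ a < 4, ∀ b < 4, d4 (a ^^^ b) = d4 a + d4 b ∧ d4 (2625168384 >>> (8 * a + 2 * b)) = d4 a * d4 b ∧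
    (a = b ↔ d4 a = d4 b) := by decide +kernel
private theorem d4_xor (a b : ℕ) : d4 (Nat.xor a b) = d4 a + d4 b := by
  rw [← d4_mod, ← d4_mod a, ← d4_mod b, ← (d4_all _ (Nat.mod_lt _ (by decide)) _ (Nat.mod_lt _ (by decide))).1]
  exact congrArg d4 (Nat.xor_mod_two_pow (n := 2))
private theorem d4_mul (a b : ℕ) : d4 (m4 a b) = d4 a * d4 b := by
  rw [← d4_mod a, ← d4_mod b]
  exact (d4_all _ (Nat.mod_lt _ (by decide)) _ (Nat.mod_lt _ (by decide))).2.1
private def c4 : Cd F4 where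
  dec := d4
  enc x := Nat.add x.re.val (Nat.mul (nat_lit 2) x.im.val)
  dot a b c d e f g h := Nat.xor (Nat.xor (Nat.xor (m4 a b) (m4 c d)) (m4 e f)) (m4 g h)
  eq a b := Nat.beq (Nat.mod a (nat_lit 4)) (Nat.mod b (nat_lit 4))
  de := by decide +kernel
  hdot a b c d e f g h := by rw [d4_xor, d4_xor, d4_xor, d4_mul, d4_mul, d4_mul, d4_mul]
  heq a b := by
    rw [Nat.beq_eq, ← d4_mod a, ← d4_mod b]
    exact (d4_all _ (Nat.mod_lt _ (by decide)) _ (Nat.mod_lt _ (by decide))).2.2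

theorem good4 : l4.all good = true := by rw [good_eq c4]; decide +kernel
private noncomputable def rk2 (A : ℕ → ℕ → ℕ) : Bool := al4 fun i => al4 fun j => al4 fun k => al4 fun l =>
  c4.eq (m4 (A i j) (A k l)) (m4 (A i l) (A k j))
private noncomputable def iv4 (cl : List F4) (t : F4) (A B I Z : ℕ → ℕ → ℕ) : F4 × List Bool × Bool × Bool :=
  (t, cl.map fun c => feq c4 (flin c4 1 c 1 0 (fmul c4 B B) B I I) Z, feq c4 B I, rk2 (flin c4 1 (-1) 0 0 A I I I))
private theorem inv4_eq (cl : List F4) (M : Matrix (Fin 2 ⊕ Fin 2) (Fin 2 ⊕ Fin 2) F4) : inv4 cl M =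
    iv4 cl M.trace (ofM c4 e4 M) (fmul c4 (ofM c4 e4 M) (ofM c4 e4 M)) (ofM c4 e4 1) (ofM c4 e4 0) := by
  have h : toM c4 e4 (fmul c4 (ofM c4 e4 M) (ofM c4 e4 M)) = M * M := by rw [toM_mul, toM_ofM]
  have h1 : toM c4 e4 (flin c4 1 (-1) 0 0 (ofM c4 e4 M) (ofM c4 e4 1) (ofM c4 e4 1) (ofM c4 e4 1)) = M - 1 := by
    rw [toM_lin, toM_ofM, toM_ofM, zero_smul, add_zero, add_zero, one_smul, neg_smul, one_smul, sub_eq_add_neg]
  refine Prod.ext rfl (Prod.ext (List.map_congr_left fun c _ => feq_eq c4 e4 ?_ (toM_ofM c4 e4 0))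
    (Prod.ext (feq_eq c4 e4 h (toM_ofM c4 e4 1)) ?_))
  · rw [toM_lin, toM_mul, h, toM_ofM, zero_smul, add_zero, one_smul, one_smul]
  · show decide _ = rk2 _
    rw [Bool.eq_iff_iff, decide_eq_true_iff, ← h1]
    refine Iff.symm ((al4_e e4).trans (forall_congr' fun i => ?_))
    refine (al4_e e4).trans (forall_congr' fun j => ?_)
    refine (al4_e e4).trans (forall_congr' fun k => ?_)
    refine (al4_e e4).trans (forall_congr' fun l => ?_)
    exact (c4.heq _ _).trans (Eq.congr (d4_mul _ _) (d4_mul _ _))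
theorem nodup4 : (l4.map fun x => inv4 [⟨0, 0⟩, ⟨1, 0⟩, ⟨0, 1⟩, ⟨1, 1⟩] x.1).Nodup := by
  simp only [inv4_eq]; decide +kernel

/-- `q = 4` -/
theorem big_four {F : Type} [Field F] [Fintype F] (hF : Fintype.card F = 4) : Big (Cfsg.PSp 2 F) := by
  have h4 : Fintype.card F4 = 2 ^ 2 := Cfsg.Agent.H674.Explicit.card_QF 2 1 1
  have : Fact (Nat.Prime 2) := ⟨by norm_num⟩
  have hch : CharP F4 2 := charP_of_card_eq_prime_pow h4
  refine Big.of_equiv (FieldTransfer.pspCongr 2 (FiniteField.ringEquivOfCardEq (hF.trans h4.symm))) ?_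
  exact big_of_list (p := 2) le_rfl (fun _ => by rw [h4]; norm_num) _ (inv4_sim sq_eq _) l4
    (fun M hM => List.all_eq_true.1 good4 M hM) nodup4 (by decide)

end Four

/-! ### `q ≥ 8` -/

section Large

open Cfsg.Agent.H93.PspCharpoly

/-- a Jordan block for the eigenvalue one -/
theorem dvd_of_vec {F ι : Type*} [Field F] [Fintype ι] [DecidableEq ι] {p : ℕ} [CharP F p]
    {M : Matrix ι ι F} {v w : ι → F} (hv : M *ᵥ v = v + w) (hw : M *ᵥ w = w) (hw0 : w ≠ 0) {o : ℕ} {c : F}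
    (h : M ^ o = c • (1 : Matrix ι ι F)) : p ∣ o := by
  have h1 : ∀ k : ℕ, (M ^ k) *ᵥ w = w := by
    intro k
    induction k with
    | zero => rw [pow_zero, Matrix.one_mulVec]
    | succ k ih => rw [pow_succ, ← Matrix.mulVec_mulVec, hw, ih]
  have h2 : ∀ k : ℕ, (M ^ k) *ᵥ v = v + (k : F) • w := by
    intro k
    induction k with
    | zero => rw [pow_zero, Matrix.one_mulVec, Nat.cast_zero, zero_smul, add_zero]
    | succ k ih =>
      rw [pow_succ, ← Matrix.mulVec_mulVec, hv, Matrix.mulVec_add, ih, h1, Nat.cast_add, Nat.cast_one,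
        add_smul, one_smul, add_assoc]
  have h3 := h1 o
  rw [h, Matrix.smul_mulVec, Matrix.one_mulVec] at h3
  have hc : c = 1 := by
    have h4 : (c - 1) • w = 0 := by rw [sub_smul, one_smul, h3, sub_self]
    rcases smul_eq_zero.1 h4 with h5 | h5
    · exact sub_eq_zero.1 h5
    · exact absurd h5 hw0
  have h4 := h2 o
  rw [h, hc, one_smul, Matrix.one_mulVec] at h4
  have h5 : (o : F) • w = 0 := by
    have := congrArg (fun u => u - v) h4
    simpa only [_root_.smul_eq_zero, _root_.add_sub_cancel_left, _root_.sub_self] using this.symm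
  rcases smul_eq_zero.1 h5 with h6 | h6
  · exact (CharP.cast_eq_zero_iff F p o).1 h6
  · exact absurd h6 hw0

variable {F : Type} [Field F]

/-- the element `mS S` -/
def el2 (a b d : F) : symplecticGroup (Fin 2) F := ⟨mS (s2 a b d), mS_mem (s2_transpose a b d)⟩

/-- an eigenvector of `S` for the eigenvalue two -/
theorem dvd_el2 {p : ℕ} [CharP F p] {a b d : F} {u : Fin 2 → F} (hu : s2 a b d *ᵥ u = (2 : F) • u)
    (hu0 : u ≠ 0) : p ∣ orderOf (ps (el2 a b d)) := by
  obtain ⟨c, -, h⟩ := scalar_of_ps' (by norm_num : 1 ≤ 2) (el2 a b d ^ orderOf (ps (el2 a b d)))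
    (by rw [map_pow, pow_orderOf_eq_one])
  rw [map_pow] at h
  refine dvd_of_vec (M := cs (el2 a b d)) (v := Sum.elim u 0) (w := Sum.elim (-u) u) ?_ ?_ ?_ h
  · show mS (s2 a b d) *ᵥ _ = _
    rw [mS, fromBlocks_mulVec]
    ext i
    rcases i with i | i
    · simp only [Sum.elim_inl, Function.comp_def, Pi.add_apply, Sum.elim_inr]
      simp only [Matrix.zero_mulVec, Matrix.neg_mulVec, Matrix.one_mulVec, Pi.zero_apply, Pi.neg_apply]
      ring
    · simp
  · show mS (s2 a b d) *ᵥ _ = _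
    rw [mS, fromBlocks_mulVec]
    ext i
    rcases i with i | i
    · simp only [Sum.elim_inl, Function.comp_def, Sum.elim_inr, Pi.add_apply]
      simp only [Matrix.zero_mulVec, Matrix.neg_mulVec, Matrix.one_mulVec, Pi.zero_apply, Pi.neg_apply]
      ring
    · have := congrFun hu i
      simp only [Sum.elim_inr, Function.comp_def, Pi.add_apply, Sum.elim_inl, Matrix.one_mulVec]
      rw [this]
      simp
      ring
  · intro h0
    apply hu0
    ext i
    exact congrFun h0 (Sum.inr i)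

theorem tr_blocks (A B C D : Matrix (Fin 2) (Fin 2) F) : (fromBlocks A B C D).trace = A.trace + D.trace := by
  simp [Matrix.trace, Fintype.sum_sum_type]

theorem trace_mS (S : Matrix (Fin 2) (Fin 2) F) : (mS S).trace = S.trace := by
  rw [mS, tr_blocks, trace_zero, zero_add]

theorem trace_mS_sq (S : Matrix (Fin 2) (Fin 2) F) : (mS S * mS S).trace = (S * S).trace - 4 := by
  rw [mS, fromBlocks_multiply, tr_blocks]
  simp only [mul_zero, mul_one, zero_add, mul_neg, trace_neg, trace_add, trace_one,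
    Fintype.card_fin]
  norm_num only []
  ring

theorem sigma_eq {σ τ : F} (h : Sim (cs (el2 2 0 σ)) (cs (el2 2 0 τ))) : σ = τ := by
  obtain ⟨c, hc, h1⟩ := h.trace
  have h2 := h.trace_mul_self
  have e1 : ∀ s : F, (cs (el2 2 0 s)).trace = 2 + s := by
    intro s
    show (mS (s2 2 0 s)).trace = _
    rw [trace_mS, s2, trace_fin_two]
    simp
  have e2 : ∀ s : F, (cs (el2 2 0 s) * cs (el2 2 0 s)).trace = s ^ 2 := by
    intro s
    show (mS (s2 2 0 s) * mS (s2 2 0 s)).trace = _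
    rw [trace_mS_sq, s2, trace_fin_two]
    simp only [_root_.Fin.isValue, _root_.Matrix.cons_mul, _root_.Nat.succ_eq_add_one, _root_.Nat.reduceAdd, _root_.Matrix.vecMul_cons, _root_.Matrix.head_cons, _root_.Matrix.smul_cons, _root_.smul_eq_mul, _root_.MulZeroClass.mul_zero, _root_.Matrix.smul_empty, _root_.Matrix.tail_cons, _root_.zero_smul, _root_.Matrix.empty_vecMul, _root_.add_zero, _root_.zero_add, _root_.Matrix.empty_mul, _root_.Equiv.symm_apply_apply, _root_.Matrix.of_apply, _root_.Matrix.cons_val', _root_.Matrix.cons_val_zero, _root_.Matrix.cons_val_fin_one, _root_.Matrix.cons_val_one]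
    ring
  rw [e1, e1] at h1
  rw [e2, e2] at h2
  by_cases h20 : (2 : F) = 0
  · have hc1 : c = 1 := by
      have : (c - 1) ^ 2 = 0 := by linear_combination hc + (1 - c) * h20
      exact sub_eq_zero.1 (pow_eq_zero_iff two_ne_zero |>.1 this)
    rw [hc1] at h1
    linear_combination -h1
  · have h3 : (2 + τ) ^ 2 = (2 + σ) ^ 2 := by
      rw [h1]
      linear_combination ((2 + σ) ^ 2) * hc
    have h4 : (2 : F) * (2 * (τ - σ)) = 0 := by linear_combination h3 - h2
    rcases mul_eq_zero.1 h4 with h5 | h5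
    · exact absurd h5 h20
    · rcases mul_eq_zero.1 h5 with h6 | h6
      · exact absurd h6 h20
      · exact (sub_eq_zero.1 h6).symm

theorem dvd_sigma {p : ℕ} [CharP F p] (s : F) : p ∣ orderOf (ps (el2 2 0 s)) := by
  refine dvd_el2 (u := ![1, 0]) ?_ ?_
  · ext i
    (revert i; simp only [s2, Matrix.mulVec, dotProduct, _root_.Fin.forall_fin_succ, _root_.Matrix.of_apply, _root_.Matrix.cons_val', _root_.Matrix.cons_val_fin_one, _root_.Fin.sum_univ_two, Fin.isValue, _root_.Matrix.cons_val_zero, _root_.mul_one, _root_.Matrix.cons_val_one, _root_.MulZeroClass.mul_zero, _root_.add_zero, _root_.Pi.smul_apply, _root_.smul_eq_mul, _root_.Matrix.cons_val_succ, _root_.implies_true, _root_.and_self])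
  · intro h
    have := congrFun h 0
    simp at this

/-- `q ≥ 9` -/
theorem big_nine {F : Type} [Field F] [Fintype F] (h9 : 9 ≤ Fintype.card F) : Big (Cfsg.PSp 2 F) := by
  obtain ⟨p, hp⟩ := CharP.exists F
  exact big_of_fam (p := p) le_rfl (fun _ => by omega) (fun s : F => el2 2 0 s) (fun i j h => sigma_eq h)
    (fun s => dvd_sigma s) h9

/-- `q = 8` -/
theorem big_eight {F : Type} [Field F] [Fintype F] (h8 : Fintype.card F = 8) : Big (Cfsg.PSp 2 F) := by
  have h2 : Fact (Nat.Prime 2) := ⟨by norm_num⟩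
  have hch : CharP F 2 := charP_of_card_eq_prime_pow (p := 2) (f := 3) (by rw [h8]; norm_num)
  have h20 : (2 : F) = 0 := CharTwo.two_eq_zero
  have h11 : (1 : F) + 1 = 0 := by rw [one_add_one_eq_two, h20]
  -- the regular unipotent element
  have key : ∀ s : F, ¬ Sim (cs (el2 2 0 s)) (cs (el2 (1 : F) 1 1)) := by
    intro s h
    obtain ⟨c, hc, h1⟩ := h.trace
    obtain ⟨φ, hφ, h3⟩ := h.exists_hom
    have h4 : cs (el2 (1 : F) 1 1) = φ (cs (el2 2 0 s)) := by
      rcases h3 with h3 | h3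
      · exact h3
      · have h5 : (-1 : F) = 1 := by linear_combination -h11
        rw [h3, ← one_smul F (-φ _), smul_neg, ← neg_smul, h5, one_smul]
    have hc1 : c = 1 := by
      have : (c - 1) ^ 2 = 0 := by linear_combination hc + (1 - c) * h20
      exact sub_eq_zero.1 (pow_eq_zero_iff two_ne_zero |>.1 this)
    have hs : s = 0 := by
      have e1 : (cs (el2 2 0 s)).trace = 2 + s := by
        show (mS (s2 2 0 s)).trace = _
        rw [trace_mS, s2, trace_fin_two]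
        simp
      have e2 : (cs (el2 (1 : F) 1 1)).trace = 1 + 1 := by
        show (mS (s2 1 1 1)).trace = _
        rw [trace_mS, s2, trace_fin_two]
        simp
      rw [e1, e2, hc1] at h1
      linear_combination -h1
    subst hs
    have e3 : (cs (el2 (2 : F) 0 0) - 1) * (cs (el2 (2 : F) 0 0) - 1) = 0 := by
      show (mS (s2 2 0 0) - 1) * (mS (s2 2 0 0) - 1) = 0
      have h6 : s2 (2 : F) 0 0 = 0 := by
        ext i j
        (revert i j; simp only [s2, h20, _root_.Fin.forall_fin_succ, _root_.Matrix.of_apply, _root_.Matrix.cons_val', _root_.Matrix.cons_val_fin_one, _root_.Matrix.zero_apply, Fin.isValue, _root_.Matrix.cons_val_zero, _root_.Matrix.cons_val_succ, _root_.forall_const, _root_.and_self, _root_.implies_true])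
      rw [h6, mS, ← fromBlocks_one, sub_eq_add_neg, fromBlocks_neg, fromBlocks_add, fromBlocks_multiply]
      rw [← fromBlocks_zero]
      have h7 : (-(1 : Matrix (Fin 2) (Fin 2) F)) = 1 := by
        ext i j
        (revert i j; simp only [_root_.Fin.forall_fin_succ, _root_.Matrix.neg_apply, _root_.IsEmpty.forall_iff, _root_.and_true, _root_.Matrix.one_apply_eq, Nat.reduceAdd, Fin.isValue, _root_.Fin.succ_zero_eq_one, _root_.ne_eq, _root_.zero_ne_one, _root_.not_false_eq_true, _root_.Matrix.one_apply_ne, _root_.neg_zero, _root_.Fin.succ_ne_zero, _root_.true_and, _root_.and_self]) <;> (repeat' with_reducible apply And.intro) <;> linear_combination -h11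
      have h8 : (1 : Matrix (Fin 2) (Fin 2) F) + 1 = 0 := by
        ext i j
        (revert i j; simp only [h11, _root_.Fin.forall_fin_succ, _root_.Matrix.add_apply, _root_.Matrix.zero_apply, _root_.IsEmpty.forall_iff, _root_.and_true, _root_.Matrix.one_apply_eq, Nat.reduceAdd, Fin.isValue, _root_.Fin.succ_zero_eq_one, _root_.ne_eq, _root_.zero_ne_one, _root_.not_false_eq_true, _root_.Matrix.one_apply_ne, _root_.add_zero, _root_.and_self, _root_.Fin.succ_ne_zero, _root_.true_and])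
      congr 1 <;> simp only [h7, h8, _root_.zero_add, _root_.mul_one, _root_.neg_zero, _root_.add_zero]
    have e4 : (cs (el2 (1 : F) 1 1) - 1) * (cs (el2 (1 : F) 1 1) - 1) = 0 := by
      rw [h4, ← map_one φ, ← map_sub, ← map_mul, e3, map_zero]
    have e5 := congrFun (congrFun e4 (Sum.inl 0)) (Sum.inr 1)
    simp [cs, el2, mS, s2, Matrix.mul_apply, Fin.sum_univ_two] at e5
  refine big_of_fam (p := 2) le_rfl (fun _ => by omega)
    (fun o : Option F => o.elim (el2 (1 : F) 1 1) (fun s => el2 2 0 s)) ?_ ?_ ?_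
  · rintro (_ | i) (_ | j) h
    · rfl
    · exfalso
      refine key j ?_
      obtain ⟨P, Q, c, h1, h2, hc, h3⟩ := h
      refine ⟨Q, P, c, h2, h1, hc, ?_⟩
      have h4 : cs (el2 2 0 j) = c • (P * cs (el2 (1 : F) 1 1) * Q) := h3
      rw [h4, Matrix.mul_smul, Matrix.smul_mul, smul_smul, hc, one_smul]
      calc cs (el2 (1 : F) 1 1) = (Q * P) * cs (el2 (1 : F) 1 1) * (Q * P) := by rw [h2, one_mul, mul_one]
        _ = _ := by simp only [mul_assoc]
    · exact absurd h (key i)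
    · rw [sigma_eq h]
  · rintro (_ | s)
    · refine dvd_el2 (u := ![1, 1]) ?_ ?_
      · ext i
        fin_cases i <;> simp [s2, Matrix.mulVec, dotProduct, h11, h20]
      · intro h
        have := congrFun h 0
        simp at this
    · exact dvd_sigma s
  · rw [Fintype.card_option, h8]

end Large

/-! ### `q = 3` -/

section Three

open Cfsg.Agent.H674.ExplicitCases Cfsg.Agent.H674.Explicit Cfsg.Agent.H674.SUTools Cfsg.Agent.H674.SUBlock

/-- nine `3`-singular elements of `SU_4(2)` -/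
def lu : List (Matrix (Fin 4) (Fin 4) F4) :=
  [!![⟨0, 1⟩, 0, 0, 0; 0, ⟨1, 1⟩, 0, 0; 0, 0, 1, 0; 0, 0, 0, 1],
   !![⟨0, 1⟩, 0, 0, 0; 0, ⟨0, 1⟩, 0, 0; 0, 0, ⟨0, 1⟩, 0; 0, 0, 0, 1],
   !![⟨1, 1⟩, 0, 0, 0; 0, ⟨1, 1⟩, 0, 0; 0, 0, ⟨1, 1⟩, 0; 0, 0, 0, 1],
   !![⟨0, 1⟩, 0, 0, 0; 0, ⟨0, 1⟩, 0, 0; 0, 0, ⟨1, 1⟩, 0; 0, 0, 0, ⟨1, 1⟩],
   !![0, ⟨0, 1⟩, 0, 0; ⟨0, 1⟩, 0, 0, 0; 0, 0, ⟨0, 1⟩, 0; 0, 0, 0, 1],
   !![0, ⟨1, 1⟩, 0, 0; ⟨1, 1⟩, 0, 0, 0; 0, 0, ⟨1, 1⟩, 0; 0, 0, 0, 1],
   !![0, 1, 0, 0; 1, 0, 0, 0; 0, 0, ⟨0, 1⟩, 0; 0, 0, 0, ⟨1, 1⟩],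
   !![0, ⟨0, 1⟩, 0, 0; ⟨0, 1⟩, 0, 0, 0; 0, 0, ⟨1, 1⟩, 0; 0, 0, 0, ⟨1, 1⟩],
   !![0, 0, ⟨0, 1⟩, 0; 1, 0, 0, 0; 0, 1, 0, 0; 0, 0, 0, ⟨1, 1⟩]]

/-- order divisible by three -/
def sing (M : Matrix (Fin 4) (Fin 4) F4) : Bool := decide (M ^ 18 = 1) && decide (M ^ 2 ≠ 1)

private abbrev r4 : Fin 4 ≃ Fin 4 := Equiv.refl _
private def mn (A : ℕ → ℕ → ℕ) (i k j l : ℕ) : ℕ := Nat.xor (m4 (A i j) (A k l)) (m4 (A i l) (A k j))
private def dt (S T : ℕ → ℕ → ℕ) : ℕ :=
  Nat.xor (c4.dot (S 0 1) (T 2 3) (S 0 2) (T 1 3) (S 0 3) (T 1 2) (S 1 2) (T 0 3))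
    (Nat.xor (m4 (S 1 3) (T 0 2)) (m4 (S 2 3) (T 0 1)))

private theorem det4 {K : Type} [CommRing K] (M : Matrix (Fin 4) (Fin 4) K) (S T : Fin 4 → Fin 4 → K)
    (hS : ∀ j l, S j l = M 0 j * M 1 l - M 0 l * M 1 j) (hT : ∀ j l, T j l = M 2 j * M 3 l - M 2 l * M 3 j) :
    S 0 1 * T 2 3 - S 0 2 * T 1 3 + S 0 3 * T 1 2 + S 1 2 * T 0 3 - S 1 3 * T 0 2 + S 2 3 * T 0 1 = M.det := by
  have h : (Fin.succ 0 : Fin 4) = 1 ∧ (Fin.succ 1 : Fin 4) = 2 ∧ (Fin.succ 2 : Fin 4) = 3 ∧
    Fin.succAbove (0 : Fin 4) 0 = 1 ∧ Fin.succAbove (0 : Fin 4) 1 = 2 ∧ Fin.succAbove (0 : Fin 4) 2 = 3 ∧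
    Fin.succAbove (1 : Fin 4) 0 = 0 ∧ Fin.succAbove (1 : Fin 4) 1 = 2 ∧ Fin.succAbove (1 : Fin 4) 2 = 3 ∧
    Fin.succAbove (2 : Fin 4) 0 = 0 ∧ Fin.succAbove (2 : Fin 4) 1 = 1 ∧ Fin.succAbove (2 : Fin 4) 2 = 3 ∧
    Fin.succAbove (3 : Fin 4) 0 = 0 ∧ Fin.succAbove (3 : Fin 4) 1 = 1 ∧ Fin.succAbove (3 : Fin 4) 2 = 2 ∧
    (0 : Fin 4).1 = 0 ∧ (1 : Fin 4).1 = 1 ∧ (2 : Fin 4).1 = 2 ∧ (3 : Fin 4).1 = 3 := by decide
  rw [det_succ_row_zero, Fin.sum_univ_four]
  simp only [det_fin_three, submatrix_apply, h, hS, hT]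
  ring

private theorem dt_eq (A : ℕ → ℕ → ℕ) : d4 (dt (mn A 0 1) (mn A 2 3)) = (toM c4 r4 A).det := by
  have hn : ∀ x : F4, -x = x := by decide +kernel
  have hm : ∀ i k j l, d4 (mn A i k j l) = d4 (A i j) * d4 (A k l) - d4 (A i l) * d4 (A k j) := fun i k j l => by
    rw [sub_eq_add_neg, hn, ← d4_mul, ← d4_mul]; exact d4_xor _ _
  have h1 : ∀ a b c d e f : F4, a + b + c + d + (e + f) = a - b + c + d - e + f := fun a b c d e f => by
    rw [sub_eq_add_neg, sub_eq_add_neg, hn, hn, add_assoc _ e]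
  refine ((d4_xor _ _).trans (congrArg₂ (· + ·) (c4.hdot _ _ _ _ _ _ _ _) ((d4_xor _ _).trans
    (congrArg₂ (· + ·) (d4_mul _ _) (d4_mul _ _))))).trans ((h1 _ _ _ _ _ _).trans ?_)
  exact det4 (toM c4 r4 A) (fun j l => d4 (mn A 0 1 j.1 l.1)) (fun j l => d4 (mn A 2 3 j.1 l.1))
    (fun j l => hm 0 1 j.1 l.1) fun j l => hm 2 3 j.1 l.1

private noncomputable def gl1 (A B I : ℕ → ℕ → ℕ) : Bool :=
  c4.eq (dt (mn A 0 1) (mn A 2 3)) (c4.enc 1) && feq c4 (fmul c4 (fun i j => A j i) fun i j => m4 (A i j) (A i j)) I &&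
    (feq c4 (fmul c4 (fmul c4 (fmul c4 (fmul c4 B B) (fmul c4 B B)) (fmul c4 (fmul c4 B B) (fmul c4 B B))) B) I &&
      !feq c4 B I)

private theorem sq_toM (M : Matrix (Fin 4) (Fin 4) F4) : toM c4 r4 (fmul c4 (ofM c4 r4 M) (ofM c4 r4 M)) = M ^ 2 := by
  rw [toM_mul, toM_ofM, pow_two]

private theorem sing_eq (M : Matrix (Fin 4) (Fin 4) F4) : (Cfsg.Agent.H674.Explicit.good 2 M && sing M) =
    gl1 (ofM c4 r4 M) (fmul c4 (ofM c4 r4 M) (ofM c4 r4 M)) (ofM c4 r4 1) := by
  have h1 : toM c4 r4 (fun i j => ofM c4 r4 M j i) = Mᵀ := toM_ofM c4 r4 Mᵀ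
  have h2 : toM c4 r4 (fun i j => m4 (ofM c4 r4 M i j) (ofM c4 r4 M i j)) = M.map fun x => x ^ 2 := by
    conv_rhs => rw [← toM_ofM c4 r4 M]
    exact Matrix.ext fun i j => (d4_mul _ _).trans (pow_two _).symm
  refine congrArg₂ and (congrArg₂ and ?_ (feq_eq c4 r4 (by rw [toM_mul, h1, h2]) (toM_ofM c4 r4 1)))
    (congrArg₂ and (feq_eq c4 r4 ?_ (toM_ofM c4 r4 1))
      (decide_not.trans (congrArg not (feq_eq c4 r4 (sq_toM M) (toM_ofM c4 r4 1)))))
  · rw [Bool.eq_iff_iff, decide_eq_true_iff]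
    have h3 := dt_eq (ofM c4 r4 M)
    rw [toM_ofM] at h3
    exact ((c4.heq _ _).trans (Eq.congr h3 (c4.de 1))).symm
  · rw [toM_mul, toM_mul, toM_mul, toM_mul, sq_toM, ← pow_add, ← pow_add, ← pow_add, ← pow_add]

theorem good_lu : lu.all (fun M => Cfsg.Agent.H674.Explicit.good 2 M && sing M) = true :=
  (congrArg lu.all (funext sing_eq)).trans (by decide +kernel)

private theorem inv_eq : (Cfsg.Agent.H674.Explicit.inv [3, 6] : Matrix (Fin 4) (Fin 4) F4 → _) = fun M =>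
    (fun B I => (M.trace, [feq c4 B I, feq c4 (fmul c4 B B) I]))
      (fmul c4 (fmul c4 (ofM c4 r4 M) (ofM c4 r4 M)) (ofM c4 r4 M)) (ofM c4 r4 1) := by
  funext M
  have h : toM c4 r4 (fmul c4 (fmul c4 (ofM c4 r4 M) (ofM c4 r4 M)) (ofM c4 r4 M)) = M ^ 3 := by
    rw [toM_mul, sq_toM, toM_ofM, ← pow_succ]
  exact Prod.ext rfl (congrArg₂ List.cons (feq_eq c4 r4 h (toM_ofM c4 r4 1))
    (congrArg (List.cons · []) (feq_eq c4 r4 (by rw [toM_mul, h, ← pow_add]) (toM_ofM c4 r4 1))))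

theorem nodup_lu : (lu.map (Cfsg.Agent.H674.Explicit.inv [3, 6])).Nodup := by rw [inv_eq]; decide +kernel

theorem big_su42 : Big (Cfsg.PSU 4 F4 2) := by
  classical
  have h4 : Fintype.card F4 = 2 ^ 2 := Cfsg.Agent.H674.Explicit.card_QF 2 1 1
  have : Fact (Nat.Prime 3) := ⟨by norm_num⟩
  obtain ⟨e⟩ := Cfsg.Agent.S0822.result (F := F4) (K := ZMod 3) (by rw [h4]; norm_num) (ZMod.card 3)
  have hsimp : IsSimpleGroup (Cfsg.PSp 2 (ZMod 3)) :=
    Cfsg.Agent.S0270.result 2 le_rfl (fun _ => by rw [ZMod.card])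
  have hsimp' : IsSimpleGroup (Cfsg.PSU 4 F4 2) := e.isSimpleGroup
  have hL : IsLieTypeChar 3 (Cfsg.PSU 4 F4 2) :=
    Or.inr (Or.inl ⟨ZMod 3, inferInstance, inferInstance, inferInstance, 2, le_rfl,
      (fun _ => by rw [ZMod.card]), ⟨e⟩⟩)
  -- the centre of `SU_4(2)` is trivial
  have hpr : Function.Injective (pr : Cfsg.SU 4 F4 2 →* Cfsg.PSU 4 F4 2) := by
    rw [injective_iff_map_eq_one]
    intro x hx
    rw [pr_eq_one_iff] at hx
    have h5 : Nat.card (Subgroup.center (Cfsg.SU 4 F4 2)) = 1 := by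
      rw [Cfsg.Agent.S0279.result h4 4 (by norm_num)]
      norm_num
    rw [Subgroup.card_eq_one] at h5
    rw [h5] at hx
    exact Subgroup.mem_bot.1 hx
  have hg : ∀ i : Fin lu.length, Cfsg.Agent.H674.Explicit.good 2 (lu.get i) = true ∧ sing (lu.get i) = true := by
    intro i
    have h := List.all_eq_true.1 good_lu (lu.get i) (List.get_mem lu i)
    rwa [Bool.and_eq_true] at h
  choose x hx using fun i => exists_of_good h4 (hg i).1
  have hinj : ∀ i j, IsConj (pr (x i)) (pr (x j)) → i = j := by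
    intro i j hij
    have h6 : IsConj (x i) (x j) := by
      obtain ⟨c, hc⟩ := isConj_iff.1 hij
      obtain ⟨d, rfl⟩ := pr_surjective c
      refine isConj_iff.2 ⟨d, hpr ?_⟩
      rw [map_mul, map_mul, map_inv, hc]
    obtain ⟨P, Q, h1, h2, h3⟩ := exists_similar h6
    have h7 : Cfsg.Agent.H674.Explicit.inv [3, 6] (lu.get i) = Cfsg.Agent.H674.Explicit.inv [3, 6] (lu.get j) := by
      rw [← hx i, ← hx j, h3, inv_conj [3, 6] P Q _ h1 h2]
    have h5 := List.nodup_iff_injective_get.1 nodup_lu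
    have h8 : (lu.map (Cfsg.Agent.H674.Explicit.inv [3, 6])).get (i.cast (by simp)) =
        (lu.map (Cfsg.Agent.H674.Explicit.inv [3, 6])).get (j.cast (by simp)) := by
      simpa using h7
    have h9 := h5 h8
    exact Fin.ext (by simpa [Fin.ext_iff] using h9)
  refine big_of_lie (by norm_num : Nat.Prime 3) hL (Finset.univ.image fun i => pr (x i)) ?_ ?_ ?_
  · intro g hg h hh hc
    obtain ⟨i, -, rfl⟩ := Finset.mem_image.1 hg
    obtain ⟨j, -, rfl⟩ := Finset.mem_image.1 hh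
    rw [hinj i j hc]
  · intro g hg'
    obtain ⟨i, -, rfl⟩ := Finset.mem_image.1 hg'
    rw [orderOf_injective _ hpr, ← orderOf_cm, hx i]
    have h1 := (hg i).2
    rw [sing, Bool.and_eq_true, decide_eq_true_eq, decide_eq_true_eq] at h1
    by_contra h3
    have h5 : orderOf (lu.get i) ∣ 2 * 3 ^ 2 := orderOf_dvd_of_pow_eq_one h1.1
    have h6 : (orderOf (lu.get i)).Coprime (3 ^ 2) :=
      Nat.Coprime.pow_right _ ((Nat.coprime_comm.1 ((Nat.Prime.coprime_iff_not_dvd (by norm_num)).2 h3)))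
    have h7 := h6.dvd_of_dvd_mul_right h5
    exact h1.2 (orderOf_dvd_iff_pow_eq_one.1 h7)
  · rw [Finset.card_image_of_injective]
    · decide
    · intro i j hij
      have h4 : pr (x i) = pr (x j) := hij
      exact hinj i j (by rw [h4])

/-- `q = 3` -/
theorem big_three {F : Type} [Field F] [Fintype F] (hF : Fintype.card F = 3) : Big (Cfsg.PSp 2 F) := by
  have h4 : Fintype.card F4 = 2 ^ 2 := Cfsg.Agent.H674.Explicit.card_QF 2 1 1
  obtain ⟨e⟩ := Cfsg.Agent.S0822.result (F := F4) (K := F) (by rw [h4]; norm_num) hF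
  exact Big.of_equiv e.symm big_su42

end Three

/-- **`PSp_4(q)`, `q ≥ 3`** (task 802) -/
theorem big_psp4 {F : Type} [Field F] [Fintype F] (h : 3 ≤ Fintype.card F) : Big (Cfsg.PSp 2 F) := by
  have h6 : Fintype.card F ≠ 6 := by
    intro hF
    obtain ⟨p, hp⟩ := CharP.exists F
    obtain ⟨k, hpp, hk⟩ := FiniteField.card F p
    rw [hF] at hk
    have h3 : 2 = p := (Nat.prime_dvd_prime_iff_eq (by norm_num) hpp).1
      (Nat.Prime.dvd_of_dvd_pow (by norm_num) (hk ▸ (by norm_num : 2 ∣ 6)))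
    have h4 : 3 = p := (Nat.prime_dvd_prime_iff_eq (by norm_num) hpp).1
      (Nat.Prime.dvd_of_dvd_pow (by norm_num) (hk ▸ (by norm_num : 3 ∣ 6)))
    omega
  rcases Nat.lt_or_ge (Fintype.card F) 9 with h9 | h9
  · have : Fintype.card F = 3 ∨ Fintype.card F = 4 ∨ Fintype.card F = 5 ∨ Fintype.card F = 7 ∨
        Fintype.card F = 8 := by omega
    rcases this with h | h | h | h | h
    · exact big_three h
    · exact big_four h
    · exact big_five h
    · exact big_seven h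
    · exact big_eight h
  · exact big_nine h9

end Cfsg.Agent.H956.ZerosPSp4
end

private theorem dce_d3dedbd8a2e3 : _root_.True := by
  try have : _root_.True := by simp only [_root_.Cfsg.Agent.H956.ZerosPSp4.rk1.eq_1]
  try have : _root_.True := by simp only [_root_.Cfsg.Agent.H956.PSpFam.cs.eq_1]
  try have : _root_.True := by simp only [_root_.Cfsg.Agent.H956.ZerosPSp4.inv4.eq_1]
  try have : _root_.True := by simp only [_root_.Cfsg.Agent.H956.ZerosPSp4.sing.eq_1]
  try have : _root_.True := by simp only [_root_.Cfsg.Agent.H956.ZerosPSp4.b1.eq_1]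
  try have : _root_.True := by simp only [_root_.Cfsg.Agent.H956.ZerosPSp4.inv.eq_1]
  try have : _root_.True := by simp only [_root_.Cfsg.Agent.H956.ZerosPSp4.el2.eq_1]
  try have : _root_.True := by simp only [_root_.Cfsg.Agent.H956.ZerosPSp4.b2.eq_1]
  try have : _root_.True := by simp only [_root_.Cfsg.Agent.H956.PSpFam.good.eq_1]
  exact _root_.True.intro
end

-- part: S4895
section
set_option linter.all false
open scoped Cfsg.Agent.FastGrp

-- part: H681/ZerosCol
section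
/-!
Columns of the character table grouped by element orders (S4895).
-/

set_option autoImplicit false

namespace Cfsg.Agent.H681.ZerosCol

open Cfsg Cfsg.Agent.H504.Zeros Cfsg.Agent.H504.ZeroTI
open Cfsg.Agent.Characters.Core

universe u

/-- `n` non-conjugate elements with orders in `O` and at most `b` non-zero entries in the columns. -/
def Col (G : Type u) [Group G] (O : Finset ℕ) (n b : ℕ) : Prop :=
  ∃ s : Finset G, NonConj s ∧ s.card = n ∧ ∑ g ∈ s, nv g ≤ b ∧ ∀ g ∈ s, orderOf g ∈ O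

variable {G : Type u} [Group G]

theorem orderOf_eq_of_isConj {g h : G} (hc : IsConj g h) : orderOf g = orderOf h := by
  obtain ⟨c, rfl⟩ := isConj_iff.1 hc
  exact ((MulAut.conj c).orderOf_eq g).symm

theorem Col.union {O O' : Finset ℕ} {n n' b b' : ℕ} (h : Col G O n b) (h' : Col G O' n' b')
    (hd : Disjoint O O') : Col G (O ∪ O') (n + n') (b + b') := by
  classical
  obtain ⟨s, hs, hn, hb, ho⟩ := h
  obtain ⟨t, ht, hn', hb', ho'⟩ := h'
  have hne : ∀ g ∈ s, ∀ h ∈ t, orderOf g ≠ orderOf h := by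
    intro g hg h hh he
    exact Finset.disjoint_left.1 hd (ho g hg) (he ▸ ho' h hh)
  have hdisj : Disjoint s t := by
    refine Finset.disjoint_left.2 fun g hg hg' => ?_
    exact hne g hg g hg' rfl
  refine ⟨s ∪ t, ?_, ?_, ?_, ?_⟩
  · intro g hg h hh hc
    rcases Finset.mem_union.1 hg with hg | hg <;> rcases Finset.mem_union.1 hh with hh | hh
    · exact hs g hg h hh hc
    · exact absurd (orderOf_eq_of_isConj hc) (hne g hg h hh)
    · exact absurd (orderOf_eq_of_isConj hc).symm (hne h hh g hg)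
    · exact ht g hg h hh hc
  · rw [Finset.card_union_of_disjoint hdisj, hn, hn']
  · rw [Finset.sum_union hdisj]
    omega
  · intro g hg
    rcases Finset.mem_union.1 hg with hg | hg
    · exact Finset.mem_union_left _ (ho g hg)
    · exact Finset.mem_union_right _ (ho' g hg)

theorem col_one {x : G} {r b : ℕ} (hx : orderOf x = r) (hb : nv x ≤ b) : Col G {r} 1 b := by
  refine ⟨{x}, ?_, Finset.card_singleton _, by rwa [Finset.sum_singleton], ?_⟩
  · intro g hg h hh _
    rw [Finset.mem_singleton.1 hg, Finset.mem_singleton.1 hh]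
  · intro g hg
    rw [Finset.mem_singleton.1 hg, hx]
    exact Finset.mem_singleton_self _

theorem col_cc [Finite G] {A : Subgroup G} (hA : CC A) {r n e m : ℕ} (hr : r.Prime)
    (ha : Nat.card A = r) (hn : Nat.card G = r * n) (he : n % r = e) (hm : 2 ≤ m)
    (hem : r = e * m + 1) : Col G {r} m (m * (e + m)) := by
  have h1 := eIdx_eq_mod hA (by rw [ha]; exact hr.one_lt) (n := n) (by rw [hn, ha])
  rw [ha, he] at h1
  have hem' : Nat.card A = eIdx A * m + 1 := by rw [ha, h1, hem]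
  obtain ⟨s, hs, hsc, hsA⟩ := exists_reps hA hem'
  refine ⟨s, hs, hsc, ?_, ?_⟩
  · rw [← hsc, ← smul_eq_mul, ← Finset.sum_const, hsc, ← h1]
    exact Finset.sum_le_sum fun g hg => nv_le_of_cc hA hm hem' (hsA g hg).1 (hsA g hg).2
  · intro g hg
    have h3 : orderOf g ∣ r := by
      have := orderOf_dvd_natCard (⟨g, (hsA g hg).1⟩ : A)
      rwa [← Subgroup.orderOf_coe, ha] at this
    rcases (Nat.dvd_prime hr).1 h3 with h4 | h4
    · exact absurd (orderOf_eq_one_iff.1 h4) (hsA g hg).2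
    · rw [h4]
      exact Finset.mem_singleton_self _

theorem Col.big [Finite G] {O : Finset ℕ} {n b k : ℕ} (h : Col G O n b)
    (hk : k ≤ Nat.card (ConjClasses G)) (hn : 1 ≤ n) (hb : 7 + b ≤ (n - 1) * k) : Big G := by
  obtain ⟨s, hs, hsn, hsb, -⟩ := h
  refine big_of_cols s hs nv (fun g _ => le_rfl) k hk (by omega) ?_
  rw [hsn]
  omega

end Cfsg.Agent.H681.ZerosCol
end

-- part: H681/ZerosPSL2E
section
/-!
Zeros in the character table of `PSL(2, 11)` (S4895, row PSL2).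
-/

set_option autoImplicit false

namespace Cfsg.Agent.H681.ZerosPSL2

open Cfsg Cfsg.Agent.H504.Zeros Cfsg.Agent.H504.ZeroTI Cfsg.Agent.ClassicalGeometry.PSLTorus
open Cfsg.Agent.Characters.Core Cfsg.Agent.H681.ZerosCol Cfsg.Agent.SmallSimple.SelfCentSum
open scoped MatrixGroups

universe u

/-- an involution with centralizer of order twelve in a group with eight classes -/
theorem nv_involution {G : Type u} [Group G] [Finite G] {t : G} (ht : orderOf t = 2)
    (hk : Nat.card (ConjClasses G) = 8)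
    (hc : Nat.card (Subgroup.centralizer ({t} : Set G)) = 12) : nv t ≤ 7 := by
  classical
  have := finite_irr (G := G)
  have := Fintype.ofFinite (IrrCharacter G)
  have hint : ∀ χ : IrrCharacter G, ∃ k : ℤ, (χ : G → ℂ) t = k := by
    intro χ
    refine Cfsg.Agent.J3Type.CharTools.int_of_conj (isIrr_isCharacter χ.2) t ?_
    intro m hm
    rw [ht, Nat.coprime_two_right, Nat.odd_iff] at hm
    have h1 : t ^ m = t := by
      rw [← pow_mod_orderOf, ht, hm, pow_one]
    rw [h1]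
  choose v hv using hint
  have hsum : ∑ χ : IrrCharacter G, (v χ) ^ 2 = 12 := by
    have h1 := sum_norm_sq (G := G) t
    rw [hc] at h1
    have h2 : ((∑ χ : IrrCharacter G, (v χ) ^ 2 : ℤ) : ℝ) = ((12 : ℤ) : ℝ) := by
      push_cast
      rw [show (12 : ℝ) = ((12 : ℕ) : ℝ) by norm_num, ← h1]
      refine Finset.sum_congr rfl fun χ _ => ?_
      rw [hv, Complex.norm_intCast, sq_abs]
    exact_mod_cast h2
  have hcard : Fintype.card (IrrCharacter G) = 8 := by
    rw [← hk, ← card_irr, Nat.card_eq_fintype_card]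
  by_contra hlt
  push Not at hlt
  have hN : nv t = (Finset.univ.filter fun χ : IrrCharacter G => (χ : G → ℂ) t ≠ 0).card := by
    rw [nv, Nat.card_eq_fintype_card, Fintype.card_subtype]
  have hall : ∀ χ : IrrCharacter G, v χ ≠ 0 := by
    intro χ h0
    have h1 : (Finset.univ.filter fun χ : IrrCharacter G => (χ : G → ℂ) t ≠ 0).card <
        (Finset.univ : Finset (IrrCharacter G)).card := by
      refine Finset.card_lt_card ?_
      rw [Finset.filter_ssubset]
      exact ⟨χ, Finset.mem_univ _, by rw [hv, h0]; simp⟩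
    rw [Finset.card_univ, hcard, ← hN] at h1
    omega
  have h1 : ∀ χ : IrrCharacter G, 1 ≤ (v χ) ^ 2 := fun χ => by
    have := hall χ
    have : 0 < (v χ) ^ 2 := by positivity
    omega
  have h2 : ∀ χ : IrrCharacter G, (v χ) ^ 2 = 1 ∨ (v χ) ^ 2 = 4 := by
    intro χ
    have h3 : (v χ) ^ 2 ≤ 5 := by
      have h4 : ∑ ψ ∈ Finset.univ.erase χ, (v ψ) ^ 2 + (v χ) ^ 2 = 12 := by
        rw [← hsum, Finset.sum_erase_add _ _ (Finset.mem_univ χ)]
      have h5 : (7 : ℤ) ≤ ∑ ψ ∈ Finset.univ.erase χ, (v ψ) ^ 2 := by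
        have h6 : ∑ ψ ∈ Finset.univ.erase χ, (1 : ℤ) ≤ ∑ ψ ∈ Finset.univ.erase χ, (v ψ) ^ 2 :=
          Finset.sum_le_sum fun ψ _ => h1 ψ
        rw [Finset.sum_const, Finset.card_erase_of_mem (Finset.mem_univ _), Finset.card_univ, hcard] at h6
        simpa only [_root_.Finset.mem_univ, _root_.Finset.sum_erase_eq_sub, _root_.ge_iff_le, _root_.Nat.add_one_sub_one, _root_.Int.nsmul_eq_mul, _root_.Nat.cast_ofNat, _root_.mul_one] using h6
      omega
    have h4 : v χ ≤ 2 := by nlinarith only [h3]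
    have h5 : -2 ≤ v χ := by nlinarith only [h3]
    have h6 := hall χ
    interval_cases v χ <;> simp_all only [_root_.Subtype.forall, _root_.ne_eq, _root_.one_le_sq_iff_one_le_abs, _root_.Int.reduceNeg, _root_.even_two, _root_.Even.neg_pow, _root_.Int.reducePow, _root_.Int.reduceLE, _root_.neg_le_self_iff, _root_.Nat.ofNat_nonneg, _root_.Std.le_refl, _root_.neg_eq_zero, _root_.OfNat.ofNat_ne_zero, _root_.not_false_eq_true, _root_.OfNat.ofNat_ne_one, _root_.or_true, _root_.one_pow, _root_.Nat.one_le_ofNat, _root_.Int.neg_ofNat_le_ofNat, _root_.neg_le_neg_iff, _root_.one_ne_zero, _root_.OfNat.one_ne_ofNat, _root_.or_false, _root_.zero_pow, _root_.Left.neg_nonpos_iff, _root_.not_true_eq_false]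
  have h3 : ∑ χ : IrrCharacter G, ((v χ) ^ 2 : ZMod 3) = ∑ χ : IrrCharacter G, (1 : ZMod 3) := by
    refine Finset.sum_congr rfl fun χ _ => ?_
    rcases h2 χ with h | h
    · have : (((v χ) ^ 2 : ℤ) : ZMod 3) = ((1 : ℤ) : ZMod 3) := by rw [h]
      push_cast at this
      exact this
    · have : (((v χ) ^ 2 : ℤ) : ZMod 3) = ((4 : ℤ) : ZMod 3) := by rw [h]
      push_cast at this
      rw [this]
      decide
  have h4 : ∑ χ : IrrCharacter G, ((v χ) ^ 2 : ZMod 3) = ((12 : ℤ) : ZMod 3) := by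
    rw [← hsum]
    push_cast
    rfl
  rw [h4, Finset.sum_const, Finset.card_univ, hcard] at h3
  revert h3
  decide

variable {F : Type} [Field F] [Fintype F]

/-- the unipotent subgroup -/
def uS (F : Type) [Field F] : Multiplicative F →* Matrix.SpecialLinearGroup (Fin 2) F where
  toFun a := ⟨!![1, a.toAdd; 0, 1], by simp [Matrix.det_fin_two]⟩
  map_one' := by
    apply Subtype.ext
    ext i j
    (revert i j; simp only [_root_.Fin.forall_fin_succ, _root_.toAdd_one, _root_.Matrix.of_apply, _root_.Matrix.cons_val', _root_.Matrix.cons_val_fin_one, _root_.Matrix.SpecialLinearGroup.coe_one, Fin.isValue, _root_.Matrix.cons_val_zero, _root_.Matrix.cons_val_succ, _root_.IsEmpty.forall_iff, _root_.and_true, _root_.Matrix.one_apply_eq, Nat.reduceAdd, _root_.Fin.succ_zero_eq_one, _root_.ne_eq, _root_.zero_ne_one, _root_.not_false_eq_true, _root_.Matrix.one_apply_ne, _root_.and_self, _root_.Fin.succ_ne_zero, _root_.true_and])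
  map_mul' a b := by
    apply Subtype.ext
    change !![1, (a * b).toAdd; 0, 1] = !![1, a.toAdd; 0, 1] * !![1, b.toAdd; 0, 1]
    rw [Matrix.mul_fin_two]
    simp [add_comm]

def uH (F : Type) [Field F] : Multiplicative F →* Matrix.ProjectiveSpecialLinearGroup (Fin 2) F :=
  (pr F).comp (uS F)

omit [Fintype F] in
theorem u00 (a : Multiplicative F) : (uS F a : Matrix (Fin 2) (Fin 2) F) 0 0 = 1 := rfl
omit [Fintype F] in
theorem u01 (a : Multiplicative F) : (uS F a : Matrix (Fin 2) (Fin 2) F) 0 1 = a.toAdd := rfl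
omit [Fintype F] in
theorem u10 (a : Multiplicative F) : (uS F a : Matrix (Fin 2) (Fin 2) F) 1 0 = 0 := rfl
omit [Fintype F] in
theorem u11 (a : Multiplicative F) : (uS F a : Matrix (Fin 2) (Fin 2) F) 1 1 = 1 := rfl

omit [Fintype F] in
theorem uH_injective (h2 : (2 : F) ≠ 0) : Function.Injective (uH F) := by
  rw [injective_iff_map_eq_one]
  intro a ha
  have h1 : pr F (uS F a) = 1 := ha
  rw [pr_eq_one_iff] at h1
  rcases h1 with h | h
  · have := congrArg (fun g : Matrix.SpecialLinearGroup (Fin 2) F => (g : Matrix (Fin 2) (Fin 2) F) 0 1) h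
    have h3 : a.toAdd = 0 := this
    exact toAdd_eq_zero.1 h3
  · exfalso
    have := congrArg (fun g : Matrix.SpecialLinearGroup (Fin 2) F => (g : Matrix (Fin 2) (Fin 2) F) 0 0) h
    have h3 : (1 : F) = -1 := this
    apply h2
    linear_combination h3

omit [Fintype F] in
theorem centralizer_uH (h2 : (2 : F) ≠ 0) {a : Multiplicative F} (ha : a ≠ 1) :
    Subgroup.centralizer ({uH F a} : Set (Matrix.ProjectiveSpecialLinearGroup (Fin 2) F)) =
      (uH F).range := by
  have ha0 : a.toAdd ≠ 0 := fun h => ha (toAdd_eq_zero.1 h)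
  apply le_antisymm
  · intro y hy
    obtain ⟨B, rfl⟩ := pr_surjective F y
    have hxy : uH F a * pr F B = pr F B * uH F a := by
      rw [Subgroup.mem_centralizer_iff] at hy
      exact hy _ rfl
    have h5 : pr F (uS F a * B) = pr F (B * uS F a) := by
      rw [map_mul, map_mul]
      exact hxy
    rw [pr_eq_iff] at h5
    have ent : ∀ {X Y : SL(2, F)}, X = Y → ∀ i j, X i j = Y i j := fun h i j => by rw [h]
    have hdet := B.det_coe
    rw [Matrix.det_fin_two] at hdet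
    have hL : ∀ i j, (uS F a * B) i j =
        (uS F a : Matrix (Fin 2) (Fin 2) F) i 0 * B 0 j +
        (uS F a : Matrix (Fin 2) (Fin 2) F) i 1 * B 1 j := by
      intro i j
      rw [Matrix.SpecialLinearGroup.coe_mul, Matrix.mul_apply, Fin.sum_univ_two]
    have hR : ∀ i j, (B * uS F a) i j =
        B i 0 * (uS F a : Matrix (Fin 2) (Fin 2) F) 0 j +
        B i 1 * (uS F a : Matrix (Fin 2) (Fin 2) F) 1 j := by
      intro i j
      rw [Matrix.SpecialLinearGroup.coe_mul, Matrix.mul_apply, Fin.sum_univ_two]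
    rcases h5 with h5 | h5
    · have e00 := ent h5 0 0
      have e01 := ent h5 0 1
      rw [hL, hR, u00, u01, u10] at e00
      rw [hL, hR, u00, u01, u11] at e01
      have h10 : B 1 0 = 0 := by
        have h8 : a.toAdd * B 1 0 = 0 := by linear_combination e00
        exact (mul_eq_zero.1 h8).resolve_left ha0
      have h11 : B 1 1 = B 0 0 := by
        have h8 : a.toAdd * (B 1 1 - B 0 0) = 0 := by linear_combination e01
        exact sub_eq_zero.1 ((mul_eq_zero.1 h8).resolve_left ha0)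
      have h12 : B 0 0 * B 0 0 = 1 := by
        rw [h10, h11] at hdet
        linear_combination hdet
      rcases mul_self_eq_one_iff.1 h12 with h7 | h7
      · refine ⟨Multiplicative.ofAdd (B 0 1), ?_⟩
        show pr F _ = pr F B
        congr 1
        apply Subtype.ext
        ext i j
        fin_cases i <;> fin_cases j
        · exact h7.symm
        · rfl
        · exact h10.symm
        · exact (h11.trans h7).symm
      · refine ⟨Multiplicative.ofAdd (-(B 0 1)), ?_⟩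
        show pr F _ = pr F B
        rw [pr_eq_iff]
        right
        apply Subtype.ext
        ext i j
        fin_cases i <;> fin_cases j
        · show (1 : F) = - B 0 0
          rw [h7, neg_neg]
        · rfl
        · show (0 : F) = - B 1 0
          rw [h10, neg_zero]
        · show (1 : F) = - B 1 1
          rw [h11, h7, neg_neg]
    · exfalso
      have hn : ∀ i j, (-(B * uS F a)) i j = -((B * uS F a) i j) := fun i j => rfl
      have e10 := ent h5 1 0
      have e00 := ent h5 0 0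
      have e11 := ent h5 1 1
      rw [hL, hn, hR, u00, u10, u11] at e10
      rw [hL, hn, hR, u00, u01, u10] at e00
      rw [hL, hn, hR, u01, u10, u11] at e11
      have h10 : B 1 0 = 0 := by
        have h8 : 2 * B 1 0 = 0 := by linear_combination e10
        exact (mul_eq_zero.1 h8).resolve_left h2
      have h00 : B 0 0 = 0 := by
        rw [h10] at e00
        have h8 : 2 * B 0 0 = 0 := by linear_combination e00
        exact (mul_eq_zero.1 h8).resolve_left h2
      rw [h10, h00] at hdet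
      simp at hdet
  · rintro _ ⟨b, rfl⟩
    rw [Subgroup.mem_centralizer_iff]
    intro z hz
    rw [Set.mem_singleton_iff] at hz
    rw [hz, ← map_mul, ← map_mul, mul_comm]

theorem dih_center : ∀ x : DihedralGroup 6, x ∈ Subgroup.center (DihedralGroup 6) → x ^ 2 = 1 := by
  intro x hx
  rw [Subgroup.mem_center_iff] at hx
  revert x
  decide +kernel

theorem dih_cube : ∀ x : DihedralGroup 6, x ^ 2 ≠ 1 → x ^ 3 ≠ 1 → ∀ y, x ^ 3 * y = y * x ^ 3 := by
  decide +kernel

theorem big_eleven (h : Fintype.card F = 11) :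
    Big (Matrix.ProjectiveSpecialLinearGroup (Fin 2) F) := by
  have hodd : Odd (Fintype.card F) := by rw [h]; decide
  have h2 : (2 : F) ≠ 0 := (two_ne_zero_iff_odd F).2 hodd
  have hG : Nat.card (Matrix.ProjectiveSpecialLinearGroup (Fin 2) F) = 660 := by
    have := Cfsg.Agent.ClassicalGeometry.PSL2Basic.card_PSL2_odd (F := F) hodd
    rw [h] at this
    omega
  have hk : Nat.card (ConjClasses (Matrix.ProjectiveSpecialLinearGroup (Fin 2) F)) = 8 := by
    have := Cfsg.Agent.H525.PslK.psl2_odd (F := F) hodd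
    rw [h] at this
    omega
  -- order five
  have c5 : Col (Matrix.ProjectiveSpecialLinearGroup (Fin 2) F) {5} 2 (2 * (2 + 2)) := by
    have hc := card_range_dH (F := F) h2
    rw [h] at hc
    exact col_cc (cc_split (F := F) (by rw [h])) (n := 132) (by norm_num) (by omega) (by rw [hG])
      (by norm_num) le_rfl (by norm_num)
  -- order eleven
  have c11 : Col (Matrix.ProjectiveSpecialLinearGroup (Fin 2) F) {11} 2 (2 * (5 + 2)) := by
    have hcard : Nat.card (uH F).range = 11 := by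
      rw [Nat.card_congr (MonoidHom.ofInjective (uH_injective h2)).toEquiv.symm,
        Nat.card_congr (Multiplicative.toAdd (α := F)), Nat.card_eq_fintype_card, h]
    have hCC : CC (uH F).range := by
      constructor
      · rintro _ ⟨a, rfl⟩ _ ⟨b, rfl⟩
        rw [← map_mul, ← map_mul, mul_comm]
      · rintro _ ⟨a, rfl⟩ ha
        exact centralizer_uH h2 fun h => ha (by rw [h, map_one])
    exact col_cc hCC (n := 60) (by norm_num) hcard (by rw [hG]) (by norm_num) le_rfl (by norm_num)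
  -- the non-split torus
  obtain ⟨C, H, hCH, hi, hcyc, hcard, ⟨e⟩, hTI⟩ := exists_psl_torus F
  rw [h] at hcard e
  rw [show (11 + 1) / Nat.gcd 2 (11 - 1) = 6 by norm_num] at hcard e
  have hC : ∀ a ∈ C, ∀ b ∈ C, a * b = b * a := by
    intro a ha b hb
    have : (⟨a, ha⟩ : C) * ⟨b, hb⟩ = ⟨b, hb⟩ * ⟨a, ha⟩ := mul_comm' _ _
    exact congrArg Subtype.val this
  obtain ⟨c, hc⟩ := IsCyclic.exists_ofOrder_eq_natCard (α := C)
  rw [hcard] at hc
  have hcC : (c : Matrix.ProjectiveSpecialLinearGroup (Fin 2) F) ∈ C := c.2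
  have hord : orderOf (c : Matrix.ProjectiveSpecialLinearGroup (Fin 2) F) = 6 := by
    rw [Subgroup.orderOf_coe, hc]
  generalize (c : Matrix.ProjectiveSpecialLinearGroup (Fin 2) F) = x at hcC hord
  have hcent : ∀ y ∈ C, y ^ 2 ≠ 1 → nv y ≤ 6 := by
    intro y hy hy2
    refine (nv_le_card_centralizer y).trans ?_
    rw [cent_eq hC hCH hi e hTI hy (fun h => hy2 (by rw [h, one_pow])) ?_, hcard]
    intro h
    apply hy2
    have h3 := dih_center _ h
    rw [← map_pow, MulEquiv.map_eq_one_iff] at h3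
    exact congrArg Subtype.val h3
  have ne : ∀ {k : ℕ}, ¬ 6 ∣ k → x ^ k ≠ 1 := by
    intro k hk h
    exact hk (hord ▸ orderOf_dvd_of_pow_eq_one h)
  have c6 : Col (Matrix.ProjectiveSpecialLinearGroup (Fin 2) F) {6} 1 6 :=
    col_one hord (hcent x hcC (ne (by norm_num)))
  have c3 : Col (Matrix.ProjectiveSpecialLinearGroup (Fin 2) F) {3} 1 6 := by
    refine col_one (x := x ^ 2) ?_ (hcent _ (C.pow_mem hcC 2) ?_)
    · rw [orderOf_pow, hord]
      norm_num
    · rw [← pow_mul]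
      exact ne (by norm_num)
  have c2 : Col (Matrix.ProjectiveSpecialLinearGroup (Fin 2) F) {2} 1 7 := by
    have h3 : orderOf (x ^ 3) = 2 := by
      rw [orderOf_pow, hord]
      norm_num
    refine col_one h3 (nv_involution h3 hk ?_)
    have hx3 : x ^ 3 ∈ C := C.pow_mem hcC 3
    have hCe : Subgroup.centralizer ({x ^ 3} : Set (Matrix.ProjectiveSpecialLinearGroup (Fin 2) F)) = H := by
      apply le_antisymm
      · intro y hy
        by_contra hyH
        apply ne (k := 3) (by norm_num)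
        refine hTI y hyH _ hx3 ?_
        rw [Subgroup.mem_centralizer_iff] at hy
        rw [mul_assoc, hy _ rfl, inv_mul_cancel_left]
        exact hx3
      · intro y hy
        rw [Subgroup.mem_centralizer_iff]
        intro z hz
        rw [Set.mem_singleton_iff] at hz
        rw [hz]
        have h5 := dih_cube (e ⟨x, hCH hcC⟩) ?_ ?_ (e ⟨y, hy⟩)
        · rw [← map_pow, ← map_mul, ← map_mul] at h5
          exact congrArg Subtype.val (e.injective h5)
        · rw [← map_pow, Ne, MulEquiv.map_eq_one_iff]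
          intro h6
          exact ne (k := 2) (by norm_num) (congrArg Subtype.val h6)
        · rw [← map_pow, Ne, MulEquiv.map_eq_one_iff]
          intro h6
          exact ne (k := 3) (by norm_num) (congrArg Subtype.val h6)
    rw [hCe]
    have h6 := Subgroup.card_mul_index (C.subgroupOf H)
    have h7 : (C.subgroupOf H).index = 2 := hi
    rw [h7, Nat.card_congr (Subgroup.subgroupOfEquivOfLe hCH).toEquiv, hcard] at h6
    omega
  have hall := (((c5.union c11 (by decide)).union c6 (by decide)).union c3 (by decide)).union c2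
    (by decide)
  exact hall.big (k := 8) hk.ge (by norm_num) (by norm_num)

/-- **`PSL(2, q)`, `q ≥ 8`, `q ≠ 9`.** -/
theorem big_psl2 {F : Type} [Field F] [Fintype F] (h8 : 8 ≤ Fintype.card F) (h9 : Fintype.card F ≠ 9) :
    Big (Matrix.ProjectiveSpecialLinearGroup (Fin 2) F) := by
  rcases Nat.even_or_odd (Fintype.card F) with he | ho
  · exact big_even he h8
  · rw [Nat.odd_iff] at ho
    have hnot : Fintype.card F ≠ 15 := by
      intro h
      have h1 := FiniteField.isPrimePow_card F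
      rw [h] at h1
      have : ¬ IsPrimePow 15 := by
        rw [isPrimePow_iff_unique_prime_dvd]
        rintro ⟨p, -, hp⟩
        have h3 := hp 3 ⟨by norm_num, by norm_num⟩
        have h5 := hp 5 ⟨by norm_num, by norm_num⟩
        omega
      exact this h1
    have h4 : Fintype.card F % 4 = 1 ∨ Fintype.card F % 4 = 3 := by omega
    rcases h4 with h4 | h4
    · exact big_one h4 (by omega)
    · by_cases h11 : Fintype.card F = 11
      · exact big_eleven h11
      · exact big_three h4 (by omega)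

end Cfsg.Agent.H681.ZerosPSL2
end

-- part: H206/ZPslM
section
/-!
# Non-conjugate `p`-singular elements of `PSL_4(q)` and `PSL_5(q)`: explicit matrices (S4895, task 800)
-/

set_option autoImplicit false

namespace Cfsg.Agent.H206.ZPsl

open Matrix Polynomial

variable {F : Type*} [Field F] {n : ℕ}

/-! ### more on `Sim` -/

theorem Sim.ne_zero {z : F} (hn : n ≠ 0) (h : z ^ n = 1) : z ≠ 0 := by
  rintro rfl
  rw [zero_pow hn] at h
  exact zero_ne_one h

theorem Sim.symm {a b : Matrix (Fin n) (Fin n) F} (hn : n ≠ 0) (h : Sim a b) : Sim b a := by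
  obtain ⟨z, u, hz, rfl⟩ := h
  have hz0 := Sim.ne_zero hn hz
  refine ⟨z⁻¹, u⁻¹, by rw [inv_pow, hz, inv_one], ?_⟩
  rw [mul_smul_comm, smul_mul_assoc, smul_smul, inv_mul_cancel₀ hz0, one_smul, inv_inv, ← mul_assoc, ← mul_assoc,
    Units.inv_mul, one_mul, mul_assoc, Units.inv_mul, mul_one]

theorem Sim.trace_eq {a b : Matrix (Fin n) (Fin n) F} (h : Sim a b) : ∃ z : F, z ^ n = 1 ∧ a.trace = z * b.trace := by
  obtain ⟨z, u, hz, rfl⟩ := h
  refine ⟨z, hz, ?_⟩
  rw [trace_smul, trace_mul_comm, ← mul_assoc, Units.inv_mul, one_mul, smul_eq_mul]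

theorem Sim.mulVec {a b : Matrix (Fin n) (Fin n) F} (h : Sim a b) : ∃ (z : F) (u : (Matrix (Fin n) (Fin n) F)ˣ),
    z ^ n = 1 ∧ ∀ (c : F) (v : Fin n → F), b *ᵥ v = c • v →
      a *ᵥ ((u : Matrix (Fin n) (Fin n) F) *ᵥ v) = (z * c) • ((u : Matrix (Fin n) (Fin n) F) *ᵥ v) := by
  obtain ⟨z, u, hz, rfl⟩ := h
  refine ⟨z, u, hz, fun c v hv => ?_⟩
  rw [smul_mulVec, mulVec_mulVec, mul_assoc, mul_assoc, Units.inv_mul, mul_one, ← mulVec_mulVec, hv, mulVec_smul, smul_smul]

theorem unit_mulVec_eq_zero (u : (Matrix (Fin n) (Fin n) F)ˣ) {v : Fin n → F}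
    (h : (u : Matrix (Fin n) (Fin n) F) *ᵥ v = 0) : v = 0 := by
  have h1 : ((u⁻¹ : (Matrix (Fin n) (Fin n) F)ˣ) : Matrix (Fin n) (Fin n) F) *ᵥ ((u : Matrix (Fin n) (Fin n) F) *ᵥ v) = 0 := by
    rw [h, mulVec_zero]
  rwa [mulVec_mulVec, Units.inv_mul, one_mulVec] at h1

/-- a matrix without eigenvectors against one with an eigenvector -/
theorem Sim.absurd_eig {a b : Matrix (Fin n) (Fin n) F} (h : Sim a b) (ha : ∀ (c : F) (v : Fin n → F), a *ᵥ v = c • v → v = 0)
    {c : F} {v : Fin n → F} (hb : b *ᵥ v = c • v) (hv : v ≠ 0) : False := by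
  obtain ⟨z, u, hz, h1⟩ := h.mulVec
  exact hv (unit_mulVec_eq_zero u (ha _ _ (h1 c v hb)))

/-- a matrix with one dimensional eigenspaces against one with a two dimensional eigenspace -/
theorem Sim.absurd_two {a b : Matrix (Fin n) (Fin n) F} (h : Sim a b)
    (ha : ∀ c : F, ∃ i : Fin n, ∀ v : Fin n → F, a *ᵥ v = c • v → v i = 0 → v = 0)
    {c : F} {v w : Fin n → F} (hv : b *ᵥ v = c • v) (hw : b *ᵥ w = c • w)
    (hvw : ∀ s t : F, s • v + t • w = 0 → s = 0 ∧ t = 0) : False := by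
  obtain ⟨z, u, hz, h1⟩ := h.mulVec
  obtain ⟨i, hi⟩ := ha (z * c)
  set v' := (u : Matrix (Fin n) (Fin n) F) *ᵥ v with hv'
  set w' := (u : Matrix (Fin n) (Fin n) F) *ᵥ w with hw'
  have h2 := h1 c v hv
  have h3 := h1 c w hw
  rw [← hv'] at h2
  rw [← hw'] at h3
  have h4 : (w' i) • v' + (-(v' i)) • w' = 0 := by
    apply hi
    · rw [mulVec_add, mulVec_smul, mulVec_smul, h2, h3, smul_add, smul_smul, smul_smul, smul_smul, smul_smul,
        mul_comm (w' i), mul_comm (-(v' i))]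
    · simp only [Pi.add_apply, Pi.smul_apply, smul_eq_mul]
      ring
  have h5 : (u : Matrix (Fin n) (Fin n) F) *ᵥ ((w' i) • v + (-(v' i)) • w) = 0 := by
    rw [mulVec_add, mulVec_smul, mulVec_smul]
    exact h4
  obtain ⟨h6, h7⟩ := hvw _ _ (unit_mulVec_eq_zero u h5)
  have h8 : v' = 0 := hi v' h2 (neg_eq_zero.1 h7)
  have h9 : v = 0 := unit_mulVec_eq_zero u h8
  have h10 := (hvw 1 0 (by rw [h9, smul_zero, zero_smul, add_zero])).1
  exact one_ne_zero h10

/-! ### families -/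

/-- a family of pairwise non-conjugate `p`-singular elements of `PSL_n(F)` -/
structure Fam (F : Type*) [Field F] (n : ℕ) (ι : Type*) where
  f : ι → Matrix (Fin n) (Fin n) F
  det : ∀ i, (f i).det = 1
  inj : ∀ i j, Sim (f i) (f j) → i = j
  sing : ∀ i (m : ℕ) (z : F), z ≠ 0 → (f i) ^ m = z • 1 → (m : F) = 0

/-- the union of two families -/
def Fam.sum {ι κ : Type*} (A : Fam F n ι) (B : Fam F n κ) (hn : n ≠ 0) (h : ∀ i j, ¬ Sim (A.f i) (B.f j)) :
    Fam F n (ι ⊕ κ) where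
  f := Sum.elim A.f B.f
  det := by
    rintro (i | i)
    · exact A.det i
    · exact B.det i
  inj := by
    rintro (i | i) (j | j) hs
    · exact congrArg Sum.inl (A.inj i j hs)
    · exact absurd hs (h i j)
    · exact absurd (hs.symm hn) (h j i)
    · exact congrArg Sum.inr (B.inj i j hs)
  sing := by
    rintro (i | i)
    · exact A.sing i
    · exact B.sing i

/-- unipotent elements -/
def famU (F : Type*) [Field F] (n : ℕ) {ι : Type*} (S : ι → Finset ℕ) (hn : n ≠ 0) (hne : ∀ i, (S i).Nonempty)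
    (hS : ∀ i, ∀ j ∈ S i, j + 1 < n)
    (hinj : ∀ i j, (S i).card = (S j).card →
      ((S i).filter fun a => a + 1 ∈ S i).card = ((S j).filter fun a => a + 1 ∈ S j).card → i = j) : Fam F n ι where
  f i := U F n (S i)
  det i := det_U _
  inj i j h := by
    obtain ⟨h1, h2⟩ := inv_of_sim_U hn (hS i) (hS j) h
    exact hinj i j h1 h2
  sing i m z _ h := singular_U (hS i) (hne i) h

/-- the Jordan types used for `n ≥ 6` -/
def S9 : Fin 9 → Finset ℕ := ![{0}, {0, 2}, {0, 1}, {0, 2, 4}, {0, 1, 3}, {0, 1, 2}, {0, 1, 3, 4}, {0, 1, 2, 3}, {0, 1, 2, 3, 4}]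

/-- the Jordan types used for `n = 5` -/
def S6 : Fin 6 → Finset ℕ := ![{0}, {0, 2}, {0, 1}, {0, 1, 3}, {0, 1, 2}, {0, 1, 2, 3}]

/-- the Jordan types used for `n = 4` -/
def S4 : Fin 4 → Finset ℕ := ![{0}, {0, 2}, {0, 1}, {0, 1, 2}]

def famU9 (F : Type*) [Field F] (n : ℕ) (hn : 6 ≤ n) : Fam F n (Fin 9) :=
  famU F n S9 (by omega) (by decide) (fun i j hj => by
    have : ∀ i, ∀ j ∈ S9 i, j + 1 < 6 := by decide
    have := this i j hj
    omega) (by decide +kernel)

def famU6 (F : Type*) [Field F] : Fam F 5 (Fin 6) :=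
  famU F 5 S6 (by omega) (by decide) (by decide) (by decide)

def famU4 (F : Type*) [Field F] : Fam F 4 (Fin 4) :=
  famU F 4 S4 (by omega) (by decide) (by decide) (by decide)

theorem trace_U (S : Finset ℕ) : (U F n S).trace = n := by
  rw [trace]
  simp only [diag_apply, U_apply_self, Finset.sum_const, Finset.card_univ, Fintype.card_fin, nsmul_eq_mul, mul_one]

theorem isCoprime_aux {z : F} (hz : z ≠ 1) (m k : ℕ) : IsCoprime ((X - C 1 : F[X]) ^ m) ((X - C z) ^ k) :=
  (Polynomial.isCoprime_X_sub_C_of_isUnit_sub (by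
    rw [isUnit_iff_ne_zero]
    exact sub_ne_zero.2 (Ne.symm hz))).pow

/-! ### `n = 4` -/

/-- `J_2(1) ⊕ s(t)` -/
def M4 (t : F) : Matrix (Fin 4) (Fin 4) F := !![1, 1, 0, 0; 0, 1, 0, 0; 0, 0, 0, -1; 0, 0, 1, t]

theorem charpoly_M4 (t z : F) : (z • M4 t).charpoly = (X - C z) ^ 2 * (X ^ 2 - C (z * t) * X + C (z ^ 2)) := by
  rw [Matrix.charpoly, det_succ_row_zero]
  simp only [charmatrix, M4, det_succ_row_zero, Fin.sum_univ_succ, submatrix, Fin.succAbove, Matrix.scalar, _root_.Nat.succ_eq_add_one, _root_.Nat.reduceAdd, _root_.Matrix.charmatrix, _root_.Matrix.scalar, _root_.Pi.constRingHom_eq_algebraMap, _root_.RingHom.coe_comp, _root_.Function.comp_apply, _root_.Matrix.diagonalRingHom_apply, _root_.Cfsg.Agent.H206.ZPsl.M4, _root_.Matrix.smul_of, _root_.Matrix.smul_cons, _root_.smul_eq_mul, _root_.mul_one, _root_.MulZeroClass.mul_zero, _root_.Matrix.smul_empty, _root_.mul_neg, _root_.RingHom.mapMatrix_apply, _root_.Fin.isValue, _root_.Matrix.sub_apply,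 _root_.Matrix.map_apply, _root_.Matrix.of_apply, _root_.Matrix.cons_val', _root_.Matrix.cons_val_fin_one, _root_.Matrix.cons_val_zero, _root_.Matrix.submatrix, _root_.Fin.succAbove, _root_.Matrix.cons_val_succ, _root_.Matrix.det_succ_row_zero, _root_.Fin.succ_zero_eq_one, _root_.Fin.succ_one_eq_two, _root_.Matrix.det_unique, _root_.Fin.default_eq_zero, _root_.Fin.reduceSucc, _root_.Fin.castSucc_zero, _root_.Fin.sum_univ_succ, _root_.Fin.coe_ofNat_eq_mod, _root_.Nat.zero_mod, _root_.pow_zero, _root_.one_mul, _root_.lt_self_iff_false, ↓ _root_.reduceIte, _root_.Fin.castSucc_one, _root_.Finset.univ_unique, _root_.Fin.val_succ, _root_.Fin.val_eq_zero, _root_.zero_add, _root_.pow_one, _root_.Fin.castSucc_succ, _root_.neg_mul, _root_.neg_sub, _root_.Fin.succ_pos, _root_.Finset.sum_singleton, _root_.not_lt_zero, _root_.Fin.reduceCastSucc, _root_.even_two, _root_.Even.neg_pow, _root_.one_pow, _root_.Fin.reduceLT, _root_.Matrix.diagonal_apply_eq,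 _root_.Pi.algebraMap_apply, _root_.Algebra.algebraMap_self, _root_.RingHom.id_apply, _root_.Matrix.cons_val_one, _root_.Matrix.cons_val, _root_.map_zero, _root_.sub_zero, _root_.map_mul, _root_.map_neg, _root_.ne_eq, _root_.Fin.reduceEq, _root_.not_false_eq_true, _root_.Matrix.diagonal_apply_ne, _root_.zero_sub, _root_.neg_neg, _root_.sub_self, _root_.MulZeroClass.zero_mul, _root_.add_zero, _root_.neg_zero, _root_.one_ne_zero, _root_.Finset.sum_const_zero, _root_.map_pow]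
  ring

theorem det_M4 (t : F) : (M4 t).det = 1 := by
  (simp only [M4, submatrix, _root_.Cfsg.Agent.H206.ZPsl.M4, _root_.Matrix.submatrix, ↓ _root_.reduceIte, _root_.pow_one, _root_.one_pow, Cfsg.Agent.Lib.MatLit.d])

theorem trace_M4 (t : F) : (M4 t).trace = 2 + t := by
  simp only [trace, M4, Fin.sum_univ_succ, _root_.Matrix.trace, _root_.Cfsg.Agent.H206.ZPsl.M4, _root_.Matrix.diag_apply, _root_.Matrix.of_apply, _root_.Matrix.cons_val', _root_.Matrix.cons_val_fin_one, _root_.Fin.sum_univ_succ, _root_.Fin.isValue, _root_.Matrix.cons_val_zero, _root_.Matrix.cons_val_succ, _root_.Finset.univ_unique, _root_.Fin.default_eq_zero, _root_.Finset.sum_const, _root_.Finset.card_singleton, _root_.one_smul, _root_.zero_add]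
  ring

theorem quad_monic (s d : F) : (X ^ 2 - C s * X + C d : F[X]).Monic := by
  have h : (X ^ 2 - C s * X + C d : F[X]) = X ^ 2 + (C (-s) * X + C d) := by
    rw [C_neg]
    ring
  rw [h]
  exact monic_X_pow_add (lt_of_le_of_lt degree_linear_le (by norm_num))

theorem quad_natDegree (s d : F) : (X ^ 2 - C s * X + C d : F[X]).natDegree = 2 := by
  compute_degree!

/-- a monic quadratic divisible by a square -/
theorem quad_eq {s d z : F} (h : (X - C z : F[X]) ^ 2 ∣ X ^ 2 - C s * X + C d) : s = 2 * z ∧ d = z ^ 2 := by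
  have h1 := eq_of_monic_of_dvd_of_natDegree_le ((monic_X_sub_C z).pow 2) (quad_monic s d) h (by
    rw [quad_natDegree, natDegree_pow, natDegree_X_sub_C])
  have h2 := congrArg (Polynomial.eval 0) h1
  have h4 := congrArg (Polynomial.eval 1) h1
  simp only [eval_add, eval_sub, eval_mul, eval_pow, eval_X, eval_C] at h2 h4
  have h5 : d = z ^ 2 := by linear_combination h2
  refine ⟨?_, h5⟩
  rw [h5] at h4
  linear_combination -h4

theorem sim_M4 {t t' : F} (h : Sim (M4 t) (M4 t')) : t = t' := by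
  obtain ⟨z, u, hz, hab⟩ := h
  have h1 : (M4 t).charpoly = (z • M4 t').charpoly := by
    rw [hab, ← charpoly_conj u (z • M4 t'), mul_smul_comm, smul_mul_assoc]
  by_cases hz1 : z = 1
  · subst hz1
    have h2 : Sim1 (M4 t) (M4 t') := ⟨u, by rw [hab, one_smul]⟩
    have h3 := h2.trace_eq
    rw [trace_M4, trace_M4] at h3
    exact add_left_cancel h3
  · have h2 := charpoly_M4 t 1
    rw [one_smul] at h2
    rw [h2, charpoly_M4] at h1
    have h3 : (X - C 1 : F[X]) ^ 2 ∣ X ^ 2 - C (z * t') * X + C (z ^ 2) :=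
      (isCoprime_aux hz1 2 2).dvd_of_dvd_mul_left (h1 ▸ dvd_mul_right _ _)
    have h4 : (X - C z : F[X]) ^ 2 ∣ X ^ 2 - C (1 * t) * X + C (1 ^ 2) :=
      (isCoprime_aux hz1 2 2).symm.dvd_of_dvd_mul_left (h1.symm ▸ dvd_mul_right _ _)
    obtain ⟨h5, h6⟩ := quad_eq h3
    obtain ⟨h7, h8⟩ := quad_eq h4
    have h9 : z ≠ 0 := by
      rintro rfl
      simp at h6
    rw [one_mul] at h7
    apply mul_left_cancel₀ h9
    rw [h7, h5]
    linear_combination 2 * h6

theorem sing_M4 (t : F) {m : ℕ} {z : F} (h : (M4 t) ^ m = z • 1) : (m : F) = 0 := by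
  refine cast_eq_zero_of_vec (b := 1) one_ne_zero (v := ![0, 1, 0, 0]) (w := ![1, 0, 0, 0]) ?_ ?_ ?_ h
  · ext i
    (revert i; simp only [M4, mulVec, dotProduct, Fin.sum_univ_succ, _root_.Fin.forall_fin_succ, _root_.Nat.succ_eq_add_one, Nat.reduceAdd, _root_.Matrix.of_apply, _root_.Matrix.cons_val', _root_.Matrix.cons_val_fin_one, Fin.isValue, _root_.Matrix.cons_val_zero, _root_.MulZeroClass.mul_zero, _root_.Matrix.cons_val_succ, _root_.mul_one, _root_.Finset.univ_unique, _root_.Fin.default_eq_zero, _root_.Finset.sum_const_zero, _root_.add_zero, _root_.zero_add, _root_.one_smul, _root_.Pi.add_apply, _root_.implies_true, _root_.and_self])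
  · ext i
    (revert i; simp only [M4, mulVec, dotProduct, Fin.sum_univ_succ, _root_.Fin.forall_fin_succ, _root_.Nat.succ_eq_add_one, Nat.reduceAdd, _root_.Matrix.of_apply, _root_.Matrix.cons_val', _root_.Matrix.cons_val_fin_one, Fin.isValue, _root_.Matrix.cons_val_zero, _root_.mul_one, _root_.Matrix.cons_val_succ, _root_.MulZeroClass.mul_zero, _root_.Finset.univ_unique, _root_.Fin.default_eq_zero, _root_.Finset.sum_const_zero, _root_.add_zero, _root_.Pi.smul_apply, _root_.smul_eq_mul, _root_.one_mul, _root_.implies_true, _root_.and_self])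
  · intro h0
    have := congrFun h0 0
    simp at this

/-- the elements `J_2(1) ⊕ s(t)`, `t ≠ 2` -/
def famM4 (F : Type*) [Field F] : Fam F 4 {t : F // t ≠ 2} where
  f t := M4 (t : F)
  det _ := det_M4 _
  inj _ _ h := Subtype.ext (sim_M4 h)
  sing _ _ _ _ h := sing_M4 _ h

theorem eval_M4 (t z : F) : (z • M4 t).charpoly.eval z = 0 := by
  rw [charpoly_M4]
  simp

theorem not_sim_U_M4 {S : Finset ℕ} {t : F} (ht : t ≠ 2) : ¬ Sim (U F 4 S) (M4 t) := by
  intro h
  have h1 := (h.sim1_U (by omega) (eval_M4 t)).trace_eq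
  rw [trace_U, trace_M4] at h1
  push_cast at h1
  exact ht (by linear_combination -h1)

/-- the ten or more elements for `n = 4` -/
def fam4 (F : Type*) [Field F] : Fam F 4 (Fin 4 ⊕ {t : F // t ≠ 2}) :=
  (famU4 F).sum (famM4 F) (by omega) fun _ j => not_sim_U_M4 j.2

/-- the eigenspaces of `M4 t` are lines -/
theorem M4_eig {t : F} (ht : t ≠ 2) (c : F) :
    ∃ i : Fin 4, ∀ v : Fin 4 → F, M4 t *ᵥ v = c • v → v i = 0 → v = 0 := by
  by_cases hc : c = 1
  · subst hc
    refine ⟨0, fun v hv h0 => ?_⟩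
    have e0 := congrFun hv 0
    have e1 := congrFun hv 1
    have e2 := congrFun hv 2
    have e3 := congrFun hv 3
    simp only [M4, mulVec, dotProduct, Fin.sum_univ_succ, _root_.Matrix.mulVec, _root_.dotProduct, _root_.Cfsg.Agent.H206.ZPsl.M4, _root_.Fin.isValue, _root_.Matrix.of_apply, _root_.Matrix.cons_val', _root_.Matrix.cons_val_fin_one, _root_.Matrix.cons_val_zero, _root_.Fin.sum_univ_succ, _root_.one_mul, _root_.Matrix.cons_val_succ, _root_.Fin.succ_zero_eq_one, _root_.Fin.succ_one_eq_two, _root_.MulZeroClass.zero_mul, _root_.Finset.univ_unique, _root_.Fin.default_eq_zero, _root_.Finset.sum_const_zero, _root_.add_zero, _root_.Pi.smul_apply, _root_.smul_eq_mul, _root_.add_eq_left, _root_.Matrix.cons_val_one, _root_.zero_add, _root_.Matrix.cons_val, _root_.neg_mul, _root_.Finset.sum_neg_distrib, _root_.Finset.sum_singleton, _root_.Fin.reduceSucc] at e0 e1 e2 e3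
    have h3 : (t - 2) * v 3 = 0 := by
      have : v 2 = - v 3 := e2.symm
      rw [this] at e3
      linear_combination e3
    have h3' : v 3 = 0 := (mul_eq_zero.1 h3).resolve_left (sub_ne_zero.2 ht)
    have h2' : v 2 = 0 := by rw [← e2, h3', neg_zero]
    ext i
    fin_cases i
    · exact h0
    · exact e0
    · exact h2'
    · exact h3'
  · refine ⟨2, fun v hv h0 => ?_⟩
    have e0 := congrFun hv 0
    have e1 := congrFun hv 1
    have e2 := congrFun hv 2
    have e3 := congrFun hv 3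
    simp only [M4, mulVec, dotProduct, Fin.sum_univ_succ, _root_.Matrix.mulVec, _root_.dotProduct, _root_.Cfsg.Agent.H206.ZPsl.M4, _root_.Fin.isValue, _root_.Matrix.of_apply, _root_.Matrix.cons_val', _root_.Matrix.cons_val_fin_one, _root_.Matrix.cons_val_zero, _root_.Fin.sum_univ_succ, _root_.one_mul, _root_.Matrix.cons_val_succ, _root_.Fin.succ_zero_eq_one, _root_.Fin.succ_one_eq_two, _root_.MulZeroClass.zero_mul, _root_.Finset.univ_unique, _root_.Fin.default_eq_zero, _root_.Finset.sum_const_zero, _root_.add_zero, _root_.Pi.smul_apply, _root_.smul_eq_mul, _root_.Matrix.cons_val_one, _root_.zero_add, _root_.Matrix.cons_val, _root_.neg_mul, _root_.Finset.sum_neg_distrib, _root_.Finset.sum_singleton, _root_.Fin.reduceSucc] at e0 e1 e2 e3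
    have h1 : v 1 = 0 := by
      have : (1 - c) * v 1 = 0 := by linear_combination e1
      exact (mul_eq_zero.1 this).resolve_left (sub_ne_zero.2 (Ne.symm hc))
    have h0' : v 0 = 0 := by
      have : (1 - c) * v 0 = 0 := by linear_combination e0 - h1
      exact (mul_eq_zero.1 this).resolve_left (sub_ne_zero.2 (Ne.symm hc))
    have h3' : v 3 = 0 := by
      rw [h0, mul_zero, neg_eq_zero] at e2
      exact e2
    ext i
    fin_cases i
    · exact h0'
    · exact h1
    · exact h0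
    · exact h3'

/-- `J_2(1) ⊕ (-1, -1)` -/
def E4 (F : Type*) [Field F] : Matrix (Fin 4) (Fin 4) F := !![1, 1, 0, 0; 0, 1, 0, 0; 0, 0, -1, 0; 0, 0, 0, -1]

theorem charpoly_E4 (z : F) : (z • E4 F).charpoly = (X - C z) ^ 2 * (X + C z) ^ 2 := by
  rw [Matrix.charpoly, det_succ_row_zero]
  simp only [charmatrix, E4, det_succ_row_zero, Fin.sum_univ_succ, submatrix, Fin.succAbove, Matrix.scalar, _root_.Nat.succ_eq_add_one, _root_.Nat.reduceAdd, _root_.Matrix.charmatrix, _root_.Matrix.scalar, _root_.Pi.constRingHom_eq_algebraMap, _root_.RingHom.coe_comp, _root_.Function.comp_apply, _root_.Matrix.diagonalRingHom_apply, _root_.Cfsg.Agent.H206.ZPsl.E4, _root_.Matrix.smul_of, _root_.Matrix.smul_cons, _root_.smul_eq_mul, _root_.mul_one, _root_.MulZeroClass.mul_zero, _root_.Matrix.smul_empty, _root_.mul_neg, _root_.RingHom.mapMatrix_apply, _root_.Fin.isValue, _root_.Matrix.sub_apply, _root_.Matrix.map_apply, _root_.Matrix.of_apply, _root_.Matrix.cons_val',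 _root_.Matrix.cons_val_fin_one, _root_.Matrix.cons_val_zero, _root_.Matrix.submatrix, _root_.Fin.succAbove, _root_.Matrix.cons_val_succ, _root_.Matrix.det_succ_row_zero, _root_.Fin.succ_zero_eq_one, _root_.Fin.succ_one_eq_two, _root_.Matrix.det_unique, _root_.Fin.default_eq_zero, _root_.Fin.reduceSucc, _root_.Fin.castSucc_zero, _root_.Fin.sum_univ_succ, _root_.Fin.coe_ofNat_eq_mod, _root_.Nat.zero_mod, _root_.pow_zero, _root_.one_mul, _root_.lt_self_iff_false, ↓ _root_.reduceIte, _root_.Fin.castSucc_one, _root_.Finset.univ_unique, _root_.Fin.val_succ, _root_.Fin.val_eq_zero, _root_.zero_add, _root_.pow_one, _root_.Fin.castSucc_succ, _root_.neg_mul, _root_.neg_sub, _root_.Fin.succ_pos, _root_.Finset.sum_singleton, _root_.not_lt_zero, _root_.Fin.reduceCastSucc, _root_.even_two, _root_.Even.neg_pow, _root_.one_pow, _root_.Fin.reduceLT, _root_.Matrix.diagonal_apply_eq, _root_.Pi.algebraMap_apply, _root_.Algebra.algebraMap_self, _root_.RingHom.id_apply,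 _root_.Matrix.cons_val_one, _root_.Matrix.cons_val, _root_.map_neg, _root_.sub_neg_eq_add, _root_.map_zero, _root_.ne_eq, _root_.Fin.reduceEq, _root_.not_false_eq_true, _root_.Matrix.diagonal_apply_ne, _root_.sub_self, _root_.add_zero, _root_.MulZeroClass.zero_mul, _root_.one_ne_zero, _root_.Finset.sum_const_zero]
  ring

theorem det_E4 : (E4 F).det = 1 := by
  (simp only [E4, submatrix, _root_.Cfsg.Agent.H206.ZPsl.E4, _root_.Matrix.submatrix, ↓ _root_.reduceIte, _root_.pow_one, _root_.one_pow, Cfsg.Agent.Lib.MatLit.d])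

theorem trace_E4 : (E4 F).trace = 0 := by
  simp [trace, E4, Fin.sum_univ_succ]

theorem sing_E4 {m : ℕ} {z : F} (h : (E4 F) ^ m = z • 1) : (m : F) = 0 := by
  refine cast_eq_zero_of_vec (b := 1) one_ne_zero (v := ![0, 1, 0, 0]) (w := ![1, 0, 0, 0]) ?_ ?_ ?_ h
  · ext i
    (revert i; simp only [E4, mulVec, dotProduct, Fin.sum_univ_succ, _root_.Fin.forall_fin_succ, _root_.Nat.succ_eq_add_one, Nat.reduceAdd, _root_.Matrix.of_apply, _root_.Matrix.cons_val', _root_.Matrix.cons_val_fin_one, Fin.isValue, _root_.Matrix.cons_val_zero, _root_.MulZeroClass.mul_zero, _root_.Matrix.cons_val_succ, _root_.mul_one, _root_.Finset.univ_unique, _root_.Fin.default_eq_zero, _root_.Finset.sum_const_zero, _root_.add_zero, _root_.zero_add, _root_.one_smul, _root_.Pi.add_apply, _root_.implies_true, _root_.and_self])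
  · ext i
    (revert i; simp only [E4, mulVec, dotProduct, Fin.sum_univ_succ, _root_.Fin.forall_fin_succ, _root_.Nat.succ_eq_add_one, Nat.reduceAdd, _root_.Matrix.of_apply, _root_.Matrix.cons_val', _root_.Matrix.cons_val_fin_one, Fin.isValue, _root_.Matrix.cons_val_zero, _root_.mul_one, _root_.Matrix.cons_val_succ, _root_.MulZeroClass.mul_zero, _root_.Finset.univ_unique, _root_.Fin.default_eq_zero, _root_.Finset.sum_const_zero, _root_.add_zero, _root_.Pi.smul_apply, _root_.smul_eq_mul, _root_.one_mul, _root_.implies_true, _root_.and_self])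
  · intro h0
    have := congrFun h0 0
    simp at this

def famE4 (F : Type*) [Field F] : Fam F 4 Unit where
  f _ := E4 F
  det _ := det_E4
  inj _ _ _ := rfl
  sing _ _ _ _ h := sing_E4 h

theorem not_sim_U_E4 {S : Finset ℕ} (h4 : (4 : F) ≠ 0) : ¬ Sim (U F 4 S) (E4 F) := by
  intro h
  have h1 := (h.sim1_U (by omega) (fun z => by rw [charpoly_E4]; simp)).trace_eq
  rw [trace_U, trace_E4] at h1
  push_cast at h1
  exact h4 h1

theorem not_sim_M4_E4 {t : F} (ht : t ≠ 2) : ¬ Sim (M4 t) (E4 F) := by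
  intro h
  refine h.absurd_two (M4_eig ht) (c := -1) (v := ![0, 0, 1, 0]) (w := ![0, 0, 0, 1]) ?_ ?_ ?_
  · ext i
    (revert i; simp only [E4, mulVec, dotProduct, Fin.sum_univ_succ, _root_.Fin.forall_fin_succ, _root_.Matrix.of_apply, _root_.Matrix.cons_val', _root_.Matrix.cons_val_fin_one, Fin.isValue, _root_.Matrix.cons_val_zero, _root_.MulZeroClass.mul_zero, _root_.Matrix.cons_val_succ, _root_.mul_one, _root_.Finset.univ_unique, _root_.Fin.default_eq_zero, _root_.Finset.sum_const_zero, _root_.add_zero, _root_.zero_add, _root_.Pi.smul_apply, _root_.smul_eq_mul, _root_.neg_mul, _root_.one_mul, _root_.neg_zero, _root_.implies_true, _root_.and_self])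
  · ext i
    (revert i; simp only [E4, mulVec, dotProduct, Fin.sum_univ_succ, _root_.Fin.forall_fin_succ, _root_.Matrix.of_apply, _root_.Matrix.cons_val', _root_.Matrix.cons_val_fin_one, Fin.isValue, _root_.Matrix.cons_val_zero, _root_.MulZeroClass.mul_zero, _root_.Matrix.cons_val_succ, _root_.Finset.univ_unique, _root_.Fin.default_eq_zero, _root_.mul_one, _root_.Finset.sum_const, _root_.Finset.card_singleton, _root_.one_smul, _root_.zero_add, _root_.Pi.smul_apply, _root_.smul_eq_mul, _root_.neg_mul, _root_.one_mul, _root_.neg_zero, _root_.implies_true, _root_.and_self])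
  · intro s t hst
    have h2 := congrFun hst 2
    have h3 := congrFun hst 3
    simp at h2 h3
    exact ⟨h2, h3⟩

/-- `[[s, 1], [0, s]]`, `s` the companion matrix of `X² - t X + c` -/
def D4 (c t : F) : Matrix (Fin 4) (Fin 4) F := !![0, -c, 1, 0; 1, t, 0, 1; 0, 0, 0, -c; 0, 0, 1, t]

theorem charpoly_D4 (c t z : F) : (z • D4 c t).charpoly = (X ^ 2 - C (z * t) * X + C (z ^ 2 * c)) ^ 2 := by
  rw [Matrix.charpoly, det_succ_row_zero]
  simp only [charmatrix, D4, det_succ_row_zero, Fin.sum_univ_succ, submatrix, Fin.succAbove, Matrix.scalar, _root_.Nat.succ_eq_add_one, _root_.Nat.reduceAdd, _root_.Matrix.charmatrix, _root_.Matrix.scalar, _root_.Pi.constRingHom_eq_algebraMap, _root_.RingHom.coe_comp, _root_.Function.comp_apply, _root_.Matrix.diagonalRingHom_apply, _root_.Cfsg.Agent.H206.ZPsl.D4, _root_.Matrix.smul_of, _root_.Matrix.smul_cons, _root_.smul_eq_mul, _root_.MulZeroClass.mul_zero, _root_.mul_neg, _root_.mul_one, _root_.Matrix.smul_empty,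 _root_.RingHom.mapMatrix_apply, _root_.Fin.isValue, _root_.Matrix.sub_apply, _root_.Matrix.map_apply, _root_.Matrix.of_apply, _root_.Matrix.cons_val', _root_.Matrix.cons_val_fin_one, _root_.Matrix.cons_val_zero, _root_.Matrix.submatrix, _root_.Fin.succAbove, _root_.Matrix.cons_val_succ, _root_.Matrix.det_succ_row_zero, _root_.Fin.succ_zero_eq_one, _root_.Fin.succ_one_eq_two, _root_.Matrix.det_unique, _root_.Fin.default_eq_zero, _root_.Fin.reduceSucc, _root_.Fin.castSucc_zero, _root_.Fin.sum_univ_succ, _root_.Fin.coe_ofNat_eq_mod, _root_.Nat.zero_mod, _root_.pow_zero, _root_.one_mul, _root_.lt_self_iff_false, ↓ _root_.reduceIte, _root_.Fin.castSucc_one, _root_.Finset.univ_unique, _root_.Fin.val_succ, _root_.Fin.val_eq_zero, _root_.zero_add, _root_.pow_one, _root_.Fin.castSucc_succ, _root_.neg_mul, _root_.neg_sub, _root_.Fin.succ_pos, _root_.Finset.sum_singleton, _root_.not_lt_zero, _root_.Fin.reduceCastSucc, _root_.even_two, _root_.Even.neg_pow,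 _root_.one_pow, _root_.Fin.reduceLT, _root_.Matrix.diagonal_apply_eq, _root_.Pi.algebraMap_apply, _root_.Algebra.algebraMap_self, _root_.RingHom.id_apply, _root_.map_zero, _root_.sub_zero, _root_.Matrix.cons_val_one, _root_.map_mul, _root_.Matrix.cons_val, _root_.map_neg, _root_.ne_eq, _root_.Fin.reduceEq, _root_.not_false_eq_true, _root_.Matrix.diagonal_apply_ne, _root_.zero_sub, _root_.neg_neg, _root_.sub_self, _root_.MulZeroClass.zero_mul, _root_.add_zero, _root_.neg_zero, _root_.one_ne_zero, _root_.Finset.sum_neg_distrib, _root_.zero_ne_one, _root_.sub_neg_eq_add, _root_.Fin.lt_one_iff, _root_.map_pow]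
  ring

theorem det_D4 (c t : F) : (D4 c t).det = c ^ 2 := by
  simp only [D4, det_succ_row_zero, Fin.sum_univ_succ, submatrix, Fin.succAbove, _root_.Cfsg.Agent.H206.ZPsl.D4, _root_.Matrix.det_succ_row_zero, _root_.Nat.succ_eq_add_one, _root_.Nat.reduceAdd, _root_.Fin.isValue, _root_.Matrix.of_apply, _root_.Matrix.cons_val', _root_.Matrix.cons_val_fin_one, _root_.Matrix.cons_val_zero, _root_.Matrix.submatrix, _root_.Fin.succAbove, _root_.Matrix.cons_val_succ, _root_.Matrix.det_unique, _root_.Fin.default_eq_zero, _root_.Fin.castSucc_zero, _root_.Fin.succ_zero_eq_one, _root_.Fin.sum_univ_succ, _root_.Fin.coe_ofNat_eq_mod, _root_.Nat.zero_mod, _root_.pow_zero, _root_.one_mul, _root_.lt_self_iff_false, ↓ _root_.reduceIte, _root_.Fin.castSucc_one, _root_.Fin.succ_one_eq_two, _root_.Finset.univ_unique, _root_.Fin.val_succ, _root_.Fin.val_eq_zero, _root_.zero_add, _root_.pow_one, _root_.Fin.castSucc_succ, _root_.neg_mul, _root_.Fin.succ_pos, _root_.Finset.sum_neg_distrib,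 _root_.Finset.sum_singleton, _root_.not_lt_zero, _root_.Fin.reduceCastSucc, _root_.Fin.reduceSucc, _root_.even_two, _root_.Even.neg_pow, _root_.one_pow, _root_.Fin.reduceLT, _root_.MulZeroClass.mul_zero, _root_.Matrix.cons_val_one, _root_.Matrix.cons_val, _root_.MulZeroClass.zero_mul, _root_.mul_one, _root_.neg_neg, _root_.neg_zero, _root_.add_zero, _root_.mul_neg, _root_.Fin.lt_one_iff, _root_.Fin.reduceEq, _root_.Finset.sum_const_zero]
  ring

theorem trace_D4 (c t : F) : (D4 c t).trace = 2 * t := by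
  simp only [trace, D4, Fin.sum_univ_succ, _root_.Matrix.trace, _root_.Cfsg.Agent.H206.ZPsl.D4, _root_.Matrix.diag_apply, _root_.Matrix.of_apply, _root_.Matrix.cons_val', _root_.Matrix.cons_val_fin_one, _root_.Fin.sum_univ_succ, _root_.Fin.isValue, _root_.Matrix.cons_val_zero, _root_.Matrix.cons_val_succ, _root_.Finset.univ_unique, _root_.Fin.default_eq_zero, _root_.Finset.sum_const, _root_.Finset.card_singleton, _root_.one_smul, _root_.zero_add]
  ring

theorem D4_eig {c t : F} (hr : ∀ x : F, x ^ 2 - t * x + c ≠ 0) (a : F) (v : Fin 4 → F) (h : D4 c t *ᵥ v = a • v) : v = 0 := by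
  have e0 := congrFun h 0
  have e1 := congrFun h 1
  have e2 := congrFun h 2
  have e3 := congrFun h 3
  simp only [D4, mulVec, dotProduct, Fin.sum_univ_succ, _root_.Matrix.mulVec, _root_.dotProduct, _root_.Cfsg.Agent.H206.ZPsl.D4, _root_.Fin.isValue, _root_.Matrix.of_apply, _root_.Matrix.cons_val', _root_.Matrix.cons_val_fin_one, _root_.Matrix.cons_val_zero, _root_.Fin.sum_univ_succ, _root_.MulZeroClass.zero_mul, _root_.Matrix.cons_val_succ, _root_.Fin.succ_zero_eq_one, _root_.neg_mul, _root_.Fin.succ_one_eq_two, _root_.one_mul, _root_.Finset.univ_unique, _root_.Fin.default_eq_zero, _root_.Finset.sum_const_zero, _root_.add_zero, _root_.zero_add, _root_.Pi.smul_apply, _root_.smul_eq_mul, _root_.Matrix.cons_val_one, _root_.Finset.sum_singleton, _root_.Fin.reduceSucc, _root_.Matrix.cons_val, _root_.Finset.sum_neg_distrib] at e0 e1 e2 e3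
  have h3 : v 3 = 0 := by
    have : (a ^ 2 - t * a + c) * v 3 = 0 := by linear_combination -e2 - a * e3
    exact (mul_eq_zero.1 this).resolve_left (hr a)
  have h2 : v 2 = 0 := by
    rw [h3] at e3
    linear_combination e3
  have h1 : v 1 = 0 := by
    have : (a ^ 2 - t * a + c) * v 1 = 0 := by linear_combination -e0 - a * e1 + h2 + a * h3
    exact (mul_eq_zero.1 this).resolve_left (hr a)
  have h0 : v 0 = 0 := by
    linear_combination e1 - t * h1 - h3 + a * h1
  ext i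
  fin_cases i
  · exact h0
  · exact h1
  · exact h2
  · exact h3

/-- the `p`-singularity of `S + N` -/
theorem sing_add {A : Type*} [Ring A] [Algebra F A] {S N E : A} (h1 : S * N = N * S) (h2 : N * N = 0) (h3 : E * S = S * E)
    (h4 : E * N = N) (h5 : N * E = 0) (hN : N ≠ 0) {m : ℕ} {z : F} (hz : z ≠ 0) (h : (S + N) ^ m = z • 1) : (m : F) = 0 := by
  have h6 : ∀ k : ℕ, S * (S + N) ^ k = S ^ (k + 1) + (k : F) • (S ^ k * N) := by
    intro k
    induction k with
    | zero => simp only [_root_.pow_zero, _root_.mul_one, _root_.zero_add, _root_.pow_one, _root_.Nat.cast_zero, _root_.one_mul, _root_.zero_smul, _root_.add_zero]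
    | succ k ih =>
      rw [pow_succ (S + N), ← mul_assoc, ih, add_mul, mul_add, mul_add, smul_mul_assoc, smul_mul_assoc, mul_assoc (S ^ k),
        mul_assoc (S ^ k), h2, ← h1, ← mul_assoc (S ^ k), ← pow_succ, ← pow_succ, mul_zero, smul_zero, add_zero]
      push_cast
      rw [add_smul, one_smul, add_assoc]
      congr 1
      rw [add_comm]
  have h7 : ∀ k : ℕ, (S + N) ^ k * N = S ^ k * N := by
    intro k
    induction k with
    | zero => simp
    | succ k ih =>
      rw [pow_succ, mul_assoc, add_mul, h2, add_zero, h1, ← mul_assoc, ih, mul_assoc, ← h1, ← mul_assoc, ← pow_succ]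
  have h8 : ∀ k : ℕ, E * S ^ k = S ^ k * E := fun k => ((Commute.pow_right (show Commute E S from h3) k)).eq
  have h9 := h6 m
  rw [h, mul_smul_comm, mul_one] at h9
  have h10 : (m : F) • (S ^ m * N) = 0 := by
    have e1 : E * (z • S) = (z • S) * E := by rw [mul_smul_comm, h3, smul_mul_assoc]
    rw [h9, mul_add, add_mul, h8, mul_smul_comm, ← mul_assoc, h8, mul_assoc (S ^ m) E N, h4, smul_mul_assoc,
      mul_assoc (S ^ m) N E, h5, mul_zero, smul_zero, add_zero] at e1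
    exact left_eq_add.1 e1.symm
  have h11 := h7 m
  rw [h, smul_mul_assoc, one_mul] at h11
  rw [← h11, smul_smul, smul_eq_zero] at h10
  rcases h10 with h10 | h10
  · exact (mul_eq_zero.1 h10).resolve_right hz
  · exact absurd h10 hN

theorem sing_D4 {c t : F} {m : ℕ} {z : F} (hz : z ≠ 0) (h : (D4 c t) ^ m = z • 1) : (m : F) = 0 := by
  let S : Matrix (Fin 4) (Fin 4) F := !![0, -c, 0, 0; 1, t, 0, 0; 0, 0, 0, -c; 0, 0, 1, t]
  let N : Matrix (Fin 4) (Fin 4) F := !![0, 0, 1, 0; 0, 0, 0, 1; 0, 0, 0, 0; 0, 0, 0, 0]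
  let E : Matrix (Fin 4) (Fin 4) F := !![1, 0, 0, 0; 0, 1, 0, 0; 0, 0, 0, 0; 0, 0, 0, 0]
  have hD : D4 c t = S + N := by
    ext i j
    (revert i j; simp only [D4, S, N, _root_.Fin.forall_fin_succ, _root_.Matrix.of_apply, _root_.Matrix.cons_val', _root_.Matrix.cons_val_fin_one, _root_.Matrix.add_apply, Fin.isValue, _root_.Matrix.cons_val_zero, _root_.left_eq_add, _root_.Matrix.cons_val_succ, _root_.forall_const, _root_.and_self_left, _root_.zero_add, _root_.add_zero, _root_.and_self, _root_.implies_true])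
  rw [hD] at h
  refine sing_add (S := S) (N := N) (E := E) ?_ ?_ ?_ ?_ ?_ ?_ hz h
  · ext i j
    (revert i j; simp only [S, N, mul_apply, Fin.sum_univ_succ, _root_.Fin.forall_fin_succ, _root_.Matrix.of_apply, _root_.Matrix.cons_val', _root_.Matrix.cons_val_fin_one, Fin.isValue, _root_.Matrix.cons_val_zero, _root_.Matrix.cons_val_succ, _root_.Finset.univ_unique, _root_.Fin.default_eq_zero, _root_.Finset.sum_const, _root_.Finset.card_singleton, _root_.one_smul, _root_.MulZeroClass.mul_zero, _root_.add_zero, _root_.mul_one, _root_.zero_add, _root_.mul_neg, _root_.forall_const, _root_.true_and, _root_.MulZeroClass.zero_mul, _root_.neg_zero, _root_.one_mul, _root_.and_self, _root_.implies_true])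
  · ext i j
    (revert i j; simp only [N, mul_apply, Fin.sum_univ_succ, _root_.Fin.forall_fin_succ, _root_.Matrix.of_apply, _root_.Matrix.cons_val', _root_.Matrix.cons_val_fin_one, Fin.isValue, _root_.Matrix.cons_val_zero, _root_.Matrix.cons_val_succ, _root_.Finset.univ_unique, _root_.Fin.default_eq_zero, _root_.Finset.sum_const, _root_.Finset.card_singleton, _root_.one_smul, _root_.Matrix.zero_apply, _root_.MulZeroClass.mul_zero, _root_.add_zero, _root_.mul_one, _root_.zero_add, _root_.forall_const, _root_.and_self, _root_.true_and, _root_.implies_true])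
  · ext i j
    (revert i j; simp only [S, E, mul_apply, Fin.sum_univ_succ, _root_.Fin.forall_fin_succ, _root_.Matrix.of_apply, _root_.Matrix.cons_val', _root_.Matrix.cons_val_fin_one, Fin.isValue, _root_.Matrix.cons_val_zero, _root_.Matrix.cons_val_succ, _root_.Finset.univ_unique, _root_.Fin.default_eq_zero, _root_.Finset.sum_const, _root_.Finset.card_singleton, _root_.one_smul, _root_.MulZeroClass.mul_zero, _root_.mul_one, _root_.add_zero, _root_.zero_add, _root_.mul_neg, _root_.forall_const, _root_.true_and, _root_.one_mul, _root_.MulZeroClass.zero_mul, _root_.neg_zero, _root_.and_self, _root_.implies_true])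
  · ext i j
    (revert i j; simp only [E, N, mul_apply, Fin.sum_univ_succ, _root_.Fin.forall_fin_succ, _root_.Matrix.of_apply, _root_.Matrix.cons_val', _root_.Matrix.cons_val_fin_one, Fin.isValue, _root_.Matrix.cons_val_zero, _root_.Matrix.cons_val_succ, _root_.Finset.univ_unique, _root_.Fin.default_eq_zero, _root_.Finset.sum_const, _root_.Finset.card_singleton, _root_.one_smul, _root_.MulZeroClass.mul_zero, _root_.add_zero, _root_.mul_one, _root_.zero_add, _root_.implies_true, _root_.and_self, _root_.and_true])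
  · ext i j
    (revert i j; simp only [E, N, mul_apply, Fin.sum_univ_succ, _root_.Fin.forall_fin_succ, _root_.Matrix.of_apply, _root_.Matrix.cons_val', _root_.Matrix.cons_val_fin_one, Fin.isValue, _root_.Matrix.cons_val_zero, _root_.Matrix.cons_val_succ, _root_.Finset.univ_unique, _root_.Fin.default_eq_zero, _root_.Finset.sum_const, _root_.Finset.card_singleton, _root_.one_smul, _root_.Matrix.zero_apply, _root_.mul_one, _root_.MulZeroClass.mul_zero, _root_.add_zero, _root_.zero_add, _root_.implies_true, _root_.and_self, _root_.and_true])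
  · intro h0
    have := congrFun (congrFun h0 0) 2
    simp [N] at this

/-- `e_0` is an eigenvector -/
theorem D4_not_sim {c t : F} (hr : ∀ x : F, x ^ 2 - t * x + c ≠ 0) {b : Matrix (Fin 4) (Fin 4) F}
    (hb : b *ᵥ ![1, 0, 0, 0] = (1 : F) • ![1, 0, 0, 0]) : ¬ Sim b (D4 c t) := by
  intro h
  refine (h.symm (by omega)).absurd_eig (D4_eig hr) hb ?_
  intro h0
  have := congrFun h0 0
  simp at this

end Cfsg.Agent.H206.ZPsl
end

-- part: H206/ZerosPSLn
section
/-!
# Row `PSL_n(q)`, `n ≥ 4`, of S4895 (task 800)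

* `big_psl` : `PSL_n(F)` is `Big` for `n ≥ 4`, `(n, q) ≠ (4, 2)`: nine non-conjugate `p`-singular elements.
-/

set_option autoImplicit false

namespace Cfsg.Agent.H206.ZPsl

open Matrix Polynomial

section five

variable {F : Type*} [Field F]

/-- `J_3(1) ⊕ s(t)` (`c = 1`), `J_2(1) ⊕ 1 ⊕ s(t)` (`c = 0`) -/
def M5 (c t : F) : Matrix (Fin 5) (Fin 5) F := !![1, 1, 0, 0, 0; 0, 1, c, 0, 0; 0, 0, 1, 0, 0; 0, 0, 0, 0, -1; 0, 0, 0, 1, t]

theorem charpoly_M5 (c t z : F) : (z • M5 c t).charpoly = (X - C z) ^ 3 * (X ^ 2 - C (z * t) * X + C (z ^ 2)) := by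
  rw [Matrix.charpoly, det_succ_row_zero]
  simp only [charmatrix, M5, det_succ_row_zero, Fin.sum_univ_succ, submatrix, Fin.succAbove, Matrix.scalar, _root_.Nat.succ_eq_add_one, _root_.Nat.reduceAdd, _root_.Matrix.charmatrix, _root_.Matrix.scalar, _root_.Pi.constRingHom_eq_algebraMap, _root_.RingHom.coe_comp, _root_.Function.comp_apply, _root_.Matrix.diagonalRingHom_apply, _root_.Cfsg.Agent.H206.ZPsl.M5, _root_.Matrix.smul_of, _root_.Matrix.smul_cons, _root_.smul_eq_mul, _root_.mul_one, _root_.MulZeroClass.mul_zero, _root_.Matrix.smul_empty, _root_.mul_neg, _root_.RingHom.mapMatrix_apply, _root_.Fin.isValue, _root_.Matrix.sub_apply, _root_.Matrix.map_apply, _root_.Matrix.of_apply, _root_.Matrix.cons_val', _root_.Matrix.cons_val_fin_one, _root_.Matrix.cons_val_zero, _root_.Matrix.submatrix, _root_.Fin.succAbove, _root_.Matrix.cons_val_succ, _root_.Matrix.det_succ_row_zero, _root_.Fin.succ_zero_eq_one, _root_.Fin.succ_one_eq_two, _root_.Fin.reduceSucc,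 _root_.Matrix.det_unique, _root_.Fin.default_eq_zero, _root_.Fin.castSucc_zero, _root_.Fin.sum_univ_succ, _root_.Fin.coe_ofNat_eq_mod, _root_.Nat.zero_mod, _root_.pow_zero, _root_.one_mul, _root_.lt_self_iff_false, ↓ _root_.reduceIte, _root_.Fin.castSucc_one, _root_.Finset.univ_unique, _root_.Fin.val_succ, _root_.Fin.val_eq_zero, _root_.zero_add, _root_.pow_one, _root_.Fin.castSucc_succ, _root_.neg_mul, _root_.neg_sub, _root_.Fin.succ_pos, _root_.Finset.sum_singleton, _root_.not_lt_zero, _root_.Fin.reduceCastSucc, _root_.even_two, _root_.Even.neg_pow, _root_.one_pow, _root_.Fin.reduceLT, _root_.Fin.lt_one_iff, _root_.Fin.reduceEq, _root_.Matrix.diagonal_apply_eq, _root_.Pi.algebraMap_apply, _root_.Algebra.algebraMap_self, _root_.RingHom.id_apply, _root_.Matrix.cons_val_one, _root_.Matrix.cons_val, _root_.map_zero, _root_.sub_zero, _root_.map_mul, _root_.map_neg, _root_.ne_eq, _root_.not_false_eq_true, _root_.Matrix.diagonal_apply_ne, _root_.zero_sub,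 _root_.neg_neg, _root_.sub_self, _root_.MulZeroClass.zero_mul, _root_.add_zero, _root_.neg_zero, _root_.one_ne_zero, _root_.Finset.sum_const_zero, _root_.map_pow]
  ring

theorem det_M5 (c t : F) : (M5 c t).det = 1 := by
  (simp only [M5, submatrix, _root_.Cfsg.Agent.H206.ZPsl.M5, _root_.Matrix.submatrix, ↓ _root_.reduceIte, _root_.pow_one, _root_.one_pow, Cfsg.Agent.Lib.MatLit.d])

theorem trace_M5 (c t : F) : (M5 c t).trace = 3 + t := by
  simp only [trace, M5, Fin.sum_univ_succ, _root_.Matrix.trace, _root_.Cfsg.Agent.H206.ZPsl.M5, _root_.Matrix.diag_apply, _root_.Matrix.of_apply, _root_.Matrix.cons_val', _root_.Matrix.cons_val_fin_one, _root_.Fin.sum_univ_succ, _root_.Fin.isValue, _root_.Matrix.cons_val_zero, _root_.Matrix.cons_val_succ, _root_.Finset.univ_unique, _root_.Fin.default_eq_zero, _root_.Finset.sum_const, _root_.Finset.card_singleton, _root_.one_smul, _root_.zero_add]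
  ring

theorem sing_M5 (c t : F) {m : ℕ} {z : F} (h : (M5 c t) ^ m = z • 1) : (m : F) = 0 := by
  refine cast_eq_zero_of_vec (b := 1) one_ne_zero (v := ![0, 1, 0, 0, 0]) (w := ![1, 0, 0, 0, 0]) ?_ ?_ ?_ h
  · ext i
    (revert i; simp only [M5, mulVec, dotProduct, Fin.sum_univ_succ, _root_.Fin.forall_fin_succ, _root_.Nat.succ_eq_add_one, Nat.reduceAdd, _root_.Matrix.of_apply, _root_.Matrix.cons_val', _root_.Matrix.cons_val_fin_one, Fin.isValue, _root_.Matrix.cons_val_zero, _root_.MulZeroClass.mul_zero, _root_.Matrix.cons_val_succ, _root_.mul_one, _root_.Finset.univ_unique, _root_.Fin.default_eq_zero, _root_.Finset.sum_const_zero, _root_.add_zero, _root_.zero_add, _root_.one_smul, _root_.Pi.add_apply, _root_.implies_true, _root_.and_self])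
  · ext i
    (revert i; simp only [M5, mulVec, dotProduct, Fin.sum_univ_succ, _root_.Fin.forall_fin_succ, _root_.Nat.succ_eq_add_one, Nat.reduceAdd, _root_.Matrix.of_apply, _root_.Matrix.cons_val', _root_.Matrix.cons_val_fin_one, Fin.isValue, _root_.Matrix.cons_val_zero, _root_.mul_one, _root_.Matrix.cons_val_succ, _root_.MulZeroClass.mul_zero, _root_.Finset.univ_unique, _root_.Fin.default_eq_zero, _root_.Finset.sum_const_zero, _root_.add_zero, _root_.Pi.smul_apply, _root_.smul_eq_mul, _root_.one_mul, _root_.implies_true, _root_.and_self])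
  · intro h0
    have := congrFun h0 0
    simp at this

theorem sim1_M5 {c c' t t' : F} (h : Sim (M5 c t) (M5 c' t')) : Sim1 (M5 c t) (M5 c' t') := by
  refine h.sim1_of_eval (fun z _ _ h1 => ?_) (by omega)
  by_contra hz1
  have h2 := charpoly_M5 c t 1
  rw [one_smul] at h2
  rw [h2, charpoly_M5] at h1
  have h3 : (X - C 1 : F[X]) ^ 3 ∣ X ^ 2 - C (z * t') * X + C (z ^ 2) :=
    (isCoprime_aux hz1 3 3).dvd_of_dvd_mul_left (h1 ▸ dvd_mul_right _ _)
  have h4 := natDegree_le_of_dvd h3 (quad_monic _ _).ne_zero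
  rw [quad_natDegree, natDegree_pow, natDegree_X_sub_C] at h4
  omega

theorem eval_M5 (c t z : F) : (z • M5 c t).charpoly.eval z = 0 := by
  rw [charpoly_M5]
  simp

theorem not_sim_U_M5 {S : Finset ℕ} {c t : F} (ht : t ≠ 2) : ¬ Sim (U F 5 S) (M5 c t) := by
  intro h
  have h1 := (h.sim1_U (by omega) (eval_M5 c t)).trace_eq
  rw [trace_U, trace_M5] at h1
  push_cast at h1
  exact ht (by linear_combination -h1)

/-- the eigenspaces of `M5 1 t` are lines -/
theorem M5_eig {t : F} (ht : t ≠ 2) (c : F) :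
    ∃ i : Fin 5, ∀ v : Fin 5 → F, M5 1 t *ᵥ v = c • v → v i = 0 → v = 0 := by
  by_cases hc : c = 1
  · subst hc
    refine ⟨0, fun v hv h0 => ?_⟩
    have e0 := congrFun hv 0
    have e1 := congrFun hv 1
    have e3 := congrFun hv 3
    have e4 := congrFun hv 4
    simp only [M5, mulVec, dotProduct, Fin.sum_univ_succ, _root_.Matrix.mulVec, _root_.dotProduct, _root_.Cfsg.Agent.H206.ZPsl.M5, _root_.Fin.isValue, _root_.Matrix.of_apply, _root_.Matrix.cons_val', _root_.Matrix.cons_val_fin_one, _root_.Matrix.cons_val_zero, _root_.Fin.sum_univ_succ, _root_.one_mul, _root_.Matrix.cons_val_succ, _root_.Fin.succ_zero_eq_one, _root_.Fin.succ_one_eq_two, _root_.MulZeroClass.zero_mul, _root_.Fin.reduceSucc, _root_.Finset.univ_unique, _root_.Fin.default_eq_zero, _root_.Finset.sum_const_zero, _root_.add_zero, _root_.Pi.smul_apply, _root_.smul_eq_mul, _root_.add_eq_left, _root_.Matrix.cons_val_one, _root_.zero_add, _root_.Matrix.cons_val, _root_.neg_mul,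 _root_.Finset.sum_neg_distrib, _root_.Finset.sum_singleton] at e0 e1 e3 e4
    have h3 : (t - 2) * v 4 = 0 := by
      have : v 3 = - v 4 := e3.symm
      rw [this] at e4
      linear_combination e4
    have h4' : v 4 = 0 := (mul_eq_zero.1 h3).resolve_left (sub_ne_zero.2 ht)
    have h3' : v 3 = 0 := by rw [← e3, h4', neg_zero]
    ext i
    fin_cases i
    · exact h0
    · exact e0
    · exact e1
    · exact h3'
    · exact h4'
  · refine ⟨3, fun v hv h0 => ?_⟩
    have e0 := congrFun hv 0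
    have e1 := congrFun hv 1
    have e2 := congrFun hv 2
    have e3 := congrFun hv 3
    simp only [M5, mulVec, dotProduct, Fin.sum_univ_succ, _root_.Matrix.mulVec, _root_.dotProduct, _root_.Cfsg.Agent.H206.ZPsl.M5, _root_.Fin.isValue, _root_.Matrix.of_apply, _root_.Matrix.cons_val', _root_.Matrix.cons_val_fin_one, _root_.Matrix.cons_val_zero, _root_.Fin.sum_univ_succ, _root_.one_mul, _root_.Matrix.cons_val_succ, _root_.Fin.succ_zero_eq_one, _root_.Fin.succ_one_eq_two, _root_.MulZeroClass.zero_mul, _root_.Fin.reduceSucc, _root_.Finset.univ_unique, _root_.Fin.default_eq_zero, _root_.Finset.sum_const_zero, _root_.add_zero, _root_.Pi.smul_apply, _root_.smul_eq_mul, _root_.Matrix.cons_val_one, _root_.zero_add, _root_.Matrix.cons_val, _root_.neg_mul, _root_.Finset.sum_neg_distrib, _root_.Finset.sum_singleton] at e0 e1 e2 e3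
    have hne : (1 - c) ≠ 0 := sub_ne_zero.2 (Ne.symm hc)
    have h2 : v 2 = 0 := by
      have : (1 - c) * v 2 = 0 := by linear_combination e2
      exact (mul_eq_zero.1 this).resolve_left hne
    have h1 : v 1 = 0 := by
      have : (1 - c) * v 1 = 0 := by linear_combination e1 - h2
      exact (mul_eq_zero.1 this).resolve_left hne
    have h0' : v 0 = 0 := by
      have : (1 - c) * v 0 = 0 := by linear_combination e0 - h1
      exact (mul_eq_zero.1 this).resolve_left hne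
    have h4' : v 4 = 0 := by
      rw [h0, mul_zero, neg_eq_zero] at e3
      exact e3
    ext i
    fin_cases i
    · exact h0'
    · exact h1
    · exact h2
    · exact h0
    · exact h4'

theorem not_sim_M5 {t t' : F} (ht : t ≠ 2) : ¬ Sim (M5 1 t) (M5 0 t') := by
  intro h
  refine h.absurd_two (M5_eig ht) (c := 1) (v := ![1, 0, 0, 0, 0]) (w := ![0, 0, 1, 0, 0]) ?_ ?_ ?_
  · ext i
    (revert i; simp only [M5, mulVec, dotProduct, Fin.sum_univ_succ, _root_.Fin.forall_fin_succ, _root_.Matrix.of_apply, _root_.Matrix.cons_val', _root_.Matrix.cons_val_fin_one, Fin.isValue, _root_.Matrix.cons_val_zero, _root_.mul_one, _root_.Matrix.cons_val_succ, _root_.MulZeroClass.mul_zero, _root_.Finset.univ_unique, _root_.Fin.default_eq_zero, _root_.Finset.sum_const_zero, _root_.add_zero, _root_.Pi.smul_apply, _root_.smul_eq_mul, _root_.one_mul, _root_.implies_true, _root_.and_self])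
  · ext i
    (revert i; simp only [M5, mulVec, dotProduct, Fin.sum_univ_succ, _root_.Fin.forall_fin_succ, _root_.Matrix.of_apply, _root_.Matrix.cons_val', _root_.Matrix.cons_val_fin_one, Fin.isValue, _root_.Matrix.cons_val_zero, _root_.MulZeroClass.mul_zero, _root_.Matrix.cons_val_succ, _root_.mul_one, _root_.Finset.univ_unique, _root_.Fin.default_eq_zero, _root_.Finset.sum_const_zero, _root_.add_zero, _root_.zero_add, _root_.Pi.smul_apply, _root_.smul_eq_mul, _root_.one_mul, _root_.implies_true, _root_.and_self])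
  · intro s t hst
    have h2 := congrFun hst 0
    have h3 := congrFun hst 2
    simp at h2 h3
    exact ⟨h2, h3⟩

def famM5 (F : Type*) [Field F] (c : F) : Fam F 5 {t : F // t ≠ 2} where
  f t := M5 c (t : F)
  det _ := det_M5 _ _
  inj _ _ h := by
    have h1 := (sim1_M5 h).trace_eq
    rw [trace_M5, trace_M5] at h1
    exact Subtype.ext (add_left_cancel h1)
  sing _ _ _ _ h := sing_M5 _ _ h

/-- the `6 + 2 (q - 1)` elements for `n = 5` -/
def fam5 (F : Type*) [Field F] : Fam F 5 (Fin 6 ⊕ ({t : F // t ≠ 2} ⊕ {t : F // t ≠ 2})) :=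
  (famU6 F).sum ((famM5 F 1).sum (famM5 F 0) (by omega) fun i _ => not_sim_M5 i.2) (by omega) (by
    rintro i (j | j)
    · exact not_sim_U_M5 j.2
    · exact not_sim_U_M5 j.2)

/-- `J_2(1) ⊕ C(X³ - X - 1)` -/
def G5 (F : Type*) [Field F] : Matrix (Fin 5) (Fin 5) F :=
  !![1, 1, 0, 0, 0; 0, 1, 0, 0, 0; 0, 0, 0, 0, 1; 0, 0, 1, 0, 1; 0, 0, 0, 1, 0]

theorem charpoly_G5 : (G5 F).charpoly = (X - C 1) ^ 2 * (X ^ 3 - X - 1) := by
  rw [Matrix.charpoly, det_succ_row_zero]
  simp only [charmatrix, G5, det_succ_row_zero, Fin.sum_univ_succ, submatrix, Fin.succAbove, Matrix.scalar, _root_.Nat.succ_eq_add_one, _root_.Nat.reduceAdd, _root_.Matrix.charmatrix, _root_.Matrix.scalar, _root_.Pi.constRingHom_eq_algebraMap, _root_.RingHom.coe_comp, _root_.Function.comp_apply, _root_.Matrix.diagonalRingHom_apply, _root_.Cfsg.Agent.H206.ZPsl.G5, _root_.RingHom.mapMatrix_apply, _root_.Fin.isValue, _root_.Matrix.sub_apply, _root_.Matrix.map_apply, _root_.Matrix.of_apply,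 _root_.Matrix.cons_val', _root_.Matrix.cons_val_fin_one, _root_.Matrix.cons_val_zero, _root_.Matrix.submatrix, _root_.Fin.succAbove, _root_.Matrix.cons_val_succ, _root_.Matrix.det_succ_row_zero, _root_.Fin.succ_zero_eq_one, _root_.Fin.succ_one_eq_two, _root_.Fin.reduceSucc, _root_.Matrix.det_unique, _root_.Fin.default_eq_zero, _root_.Fin.castSucc_zero, _root_.Fin.sum_univ_succ, _root_.Fin.coe_ofNat_eq_mod, _root_.Nat.zero_mod, _root_.pow_zero, _root_.one_mul, _root_.lt_self_iff_false, ↓ _root_.reduceIte, _root_.Fin.castSucc_one, _root_.Finset.univ_unique, _root_.Fin.val_succ, _root_.Fin.val_eq_zero, _root_.zero_add, _root_.pow_one, _root_.Fin.castSucc_succ, _root_.neg_mul, _root_.neg_sub, _root_.Fin.succ_pos, _root_.Finset.sum_singleton, _root_.not_lt_zero, _root_.Fin.reduceCastSucc, _root_.even_two, _root_.Even.neg_pow, _root_.one_pow, _root_.Fin.reduceLT, _root_.Fin.lt_one_iff, _root_.Fin.reduceEq, _root_.Matrix.diagonal_apply_eq, _root_.Pi.algebraMap_apply,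 _root_.Algebra.algebraMap_self, _root_.RingHom.id_apply, _root_.map_one, _root_.Matrix.cons_val_one, _root_.Matrix.cons_val, _root_.map_zero, _root_.sub_zero, _root_.ne_eq, _root_.not_false_eq_true, _root_.Matrix.diagonal_apply_ne, _root_.zero_sub, _root_.mul_neg, _root_.mul_one, _root_.sub_self, _root_.MulZeroClass.mul_zero, _root_.add_zero, _root_.MulZeroClass.zero_mul, _root_.neg_zero, _root_.neg_neg, _root_.one_ne_zero, _root_.Finset.sum_const_zero]
  ring

theorem det_G5 : (G5 F).det = 1 := by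
  (simp only [G5, submatrix, _root_.Cfsg.Agent.H206.ZPsl.G5, _root_.Matrix.submatrix, ↓ _root_.reduceIte, _root_.pow_one, _root_.one_pow, Cfsg.Agent.Lib.MatLit.d])

theorem trace_G5 : (G5 F).trace = 2 := by
  simp only [trace, G5, Fin.sum_univ_succ, _root_.Matrix.trace, _root_.Cfsg.Agent.H206.ZPsl.G5, _root_.Matrix.diag_apply, _root_.Matrix.of_apply, _root_.Matrix.cons_val', _root_.Matrix.cons_val_fin_one, _root_.Fin.sum_univ_succ, _root_.Fin.isValue, _root_.Matrix.cons_val_zero, _root_.Matrix.cons_val_succ, _root_.Finset.univ_unique, _root_.Fin.default_eq_zero, _root_.Finset.sum_const_zero, _root_.add_zero]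
  ring

theorem sing_G5 {m : ℕ} {z : F} (h : (G5 F) ^ m = z • 1) : (m : F) = 0 := by
  refine cast_eq_zero_of_vec (b := 1) one_ne_zero (v := ![0, 1, 0, 0, 0]) (w := ![1, 0, 0, 0, 0]) ?_ ?_ ?_ h
  · ext i
    (revert i; simp only [G5, mulVec, dotProduct, Fin.sum_univ_succ, _root_.Fin.forall_fin_succ, _root_.Nat.succ_eq_add_one, Nat.reduceAdd, _root_.Matrix.of_apply, _root_.Matrix.cons_val', _root_.Matrix.cons_val_fin_one, Fin.isValue, _root_.Matrix.cons_val_zero, _root_.MulZeroClass.mul_zero, _root_.Matrix.cons_val_succ, _root_.mul_one, _root_.Finset.univ_unique, _root_.Fin.default_eq_zero, _root_.Finset.sum_const_zero, _root_.add_zero, _root_.zero_add, _root_.one_smul, _root_.Pi.add_apply, _root_.implies_true, _root_.and_self])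
  · ext i
    (revert i; simp only [G5, mulVec, dotProduct, Fin.sum_univ_succ, _root_.Fin.forall_fin_succ, _root_.Nat.succ_eq_add_one, Nat.reduceAdd, _root_.Matrix.of_apply, _root_.Matrix.cons_val', _root_.Matrix.cons_val_fin_one, Fin.isValue, _root_.Matrix.cons_val_zero, _root_.mul_one, _root_.Matrix.cons_val_succ, _root_.MulZeroClass.mul_zero, _root_.Finset.univ_unique, _root_.Fin.default_eq_zero, _root_.Finset.sum_const_zero, _root_.add_zero, _root_.Pi.smul_apply, _root_.smul_eq_mul, _root_.one_mul, _root_.implies_true, _root_.and_self])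
  · intro h0
    have := congrFun h0 0
    simp at this

def famG5 (F : Type*) [Field F] : Fam F 5 Unit where
  f _ := G5 F
  det _ := det_G5
  inj _ _ _ := rfl
  sing _ _ _ _ h := sing_G5 h

/-- over the field of two elements -/
theorem Sim.sim1_of_two {n : ℕ} (hn : n ≠ 0) (h2 : ∀ z : F, z ≠ 0 → z = 1) {a b : Matrix (Fin n) (Fin n) F} (h : Sim a b) :
    Sim1 a b :=
  h.sim1_of_eval (fun z hz _ _ => h2 z hz) hn

theorem not_sim_U_G5 {S : Finset ℕ} (h2 : ∀ z : F, z ≠ 0 → z = 1) : ¬ Sim (U F 5 S) (G5 F) := by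
  intro h
  have h1 := (h.sim1_of_two (by omega) h2).trace_eq
  rw [trace_U, trace_G5] at h1
  push_cast at h1
  have h3 : (3 : F) = 0 := by linear_combination h1
  by_cases h4 : (2 : F) = 0
  · exact one_ne_zero (α := F) (by linear_combination h3 - h4)
  · have := h2 2 h4
    have h5 : (1 : F) = 0 := by linear_combination this
    exact one_ne_zero h5

theorem not_sim_M5_G5 {c t : F} (h2 : ∀ z : F, z ≠ 0 → z = 1) : ¬ Sim (M5 c t) (G5 F) := by
  intro h
  have h1 := (h.sim1_of_two (by omega) h2).charpoly_eq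
  have h3 := charpoly_M5 c t 1
  rw [one_smul] at h3
  rw [h3, charpoly_G5, pow_succ, mul_assoc] at h1
  have h4 := mul_left_cancel₀ (pow_ne_zero 2 (X_sub_C_ne_zero (1 : F))) h1
  have h5 := congrArg (Polynomial.eval 1) h4
  simp at h5

end five

/-! ### the groups -/

section groups

open Cfsg Cfsg.Agent.H504.Zeros

variable {F : Type} [Field F] [Fintype F]

open Classical in
theorem big_of_fam {n : ℕ} (hn : 3 ≤ n) {ι : Type} [Fintype ι] (A : Fam F n ι) (hc : 9 ≤ Fintype.card ι) :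
    Big (Matrix.ProjectiveSpecialLinearGroup (Fin n) F) := by
  obtain ⟨p, hp⟩ := CharP.exists F
  have hpp : p.Prime := (CharP.char_is_prime_or_zero F p).resolve_right (CharP.char_ne_zero_of_finite F p)
  have hs : IsSimpleGroup (Matrix.ProjectiveSpecialLinearGroup (Fin n) F) := Cfsg.Agent.S0249.result n hn
  have hlie : IsLieTypeChar p (Matrix.ProjectiveSpecialLinearGroup (Fin n) F) :=
    Or.inl ⟨F, inferInstance, inferInstance, hp, n, by omega, fun h => by omega, ⟨MulEquiv.refl _⟩⟩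
  let g : ι → Matrix.ProjectiveSpecialLinearGroup (Fin n) F := fun i => mk ⟨A.f i, A.det i⟩
  have hg : ∀ i j, IsConj (g i) (g j) → i = j := fun i j h => A.inj i j (sim_of_isConj h)
  refine big_of_lie hpp hlie (Finset.univ.image g) ?_ ?_ ?_
  · intro a ha b hb hab
    obtain ⟨i, -, rfl⟩ := Finset.mem_image.1 ha
    obtain ⟨j, -, rfl⟩ := Finset.mem_image.1 hb
    rw [hg i j hab]
  · intro a ha
    obtain ⟨i, -, rfl⟩ := Finset.mem_image.1 ha
    exact dvd_orderOf fun m z hz h => A.sing i m z hz h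
  · rw [Finset.card_image_of_injective _ (fun i j h => hg i j (by rw [h]))]
    exact hc

theorem card_ne_two [Fintype {t : F // t ≠ 2}] : Fintype.card {t : F // t ≠ 2} = Fintype.card F - 1 := by
  classical
  rw [Fintype.card_subtype_compl, Fintype.card_subtype_eq]

omit [Fintype F] in
theorem U_e0 (S : Finset ℕ) : U F 4 S *ᵥ ![1, 0, 0, 0] = (1 : F) • ![1, 0, 0, 0] := by
  ext i
  have h0 : (U F 4 S *ᵥ ![1, 0, 0, 0]) i = U F 4 S i 0 := by
    simp [mulVec, dotProduct, Fin.sum_univ_succ]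
  rw [h0]
  (revert i; simp only [U, P, _root_.Fin.forall_fin_succ, Fin.isValue, _root_.Matrix.add_apply, _root_.Fin.coe_ofNat_eq_mod, _root_.Nat.zero_mod, _root_.Nat.right_eq_add, _root_.Nat.add_eq_zero_iff, _root_.Fin.val_eq_zero_iff, _root_.one_ne_zero, _root_.and_false, _root_.false_and, ↓reduceIte, _root_.add_zero, _root_.Nat.succ_eq_add_one, Nat.reduceAdd, _root_.Pi.smul_apply, _root_.smul_eq_mul, _root_.one_mul, _root_.Matrix.one_apply_eq, _root_.Matrix.cons_val_zero, _root_.implies_true, _root_.ne_eq, _root_.Fin.succ_ne_zero, _root_.not_false_eq_true, _root_.Matrix.one_apply_ne, _root_.Matrix.cons_val_succ, _root_.Fin.succ_zero_eq_one, _root_.Fin.succ_one_eq_two, _root_.Matrix.cons_val_fin_one, _root_.and_self])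

theorem fam4_e0 (i : Fin 4 ⊕ {t : F // t ≠ 2}) : (fam4 F).f i *ᵥ ![1, 0, 0, 0] = (1 : F) • ![1, 0, 0, 0] := by
  rcases i with i | i
  · exact U_e0 _
  · change M4 (i : F) *ᵥ _ = _
    ext i
    (revert i; simp only [M4, mulVec, dotProduct, Fin.sum_univ_succ, _root_.Fin.forall_fin_succ, _root_.ne_eq, _root_.Matrix.of_apply, _root_.Matrix.cons_val', _root_.Matrix.cons_val_fin_one, Fin.isValue, _root_.Matrix.cons_val_zero, _root_.mul_one, _root_.Matrix.cons_val_succ, _root_.MulZeroClass.mul_zero, _root_.Finset.univ_unique, _root_.Fin.default_eq_zero, _root_.Finset.sum_const_zero, _root_.add_zero, _root_.Nat.succ_eq_add_one, Nat.reduceAdd, _root_.Pi.smul_apply, _root_.smul_eq_mul, _root_.one_mul, _root_.implies_true, _root_.and_self])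

/-- adding a family of elements without eigenvectors -/
def famD {κ : Type} (c t : κ → F) (hc : ∀ i, c i ^ 2 = 1) (hr : ∀ i, ∀ x : F, x ^ 2 - t i * x + c i ≠ 0)
    (hinj : ∀ i j, Sim (D4 (c i) (t i)) (D4 (c j) (t j)) → i = j) : Fam F 4 κ where
  f i := D4 (c i) (t i)
  det i := by rw [det_D4, hc]
  inj := hinj
  sing _ _ _ hz h := sing_D4 hz h

theorem two_eq_zero_of_card_four (hF : Fintype.card F = 4) : (2 : F) = 0 := by
  have h := FiniteField.cast_card_eq_zero F
  rw [hF] at h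
  push_cast at h
  have h1 : (2 : F) ^ 2 = 0 := by linear_combination h
  exact pow_eq_zero_iff two_ne_zero |>.1 h1

theorem big_four_three (hF : Fintype.card F = 3) : Big (Matrix.ProjectiveSpecialLinearGroup (Fin 4) F) := by
  classical
  have h3 : (3 : F) = 0 := by
    have h := FiniteField.cast_card_eq_zero F
    rw [hF] at h
    exact_mod_cast h
  have h4 : (4 : F) ≠ 0 := fun h => one_ne_zero (α := F) (by linear_combination h - h3)
  have h2 : (2 : F) ≠ 0 := fun h => one_ne_zero (α := F) (by linear_combination h3 - h)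
  have hpow : ∀ x : F, x ^ 3 = x := fun x => by
    have := FiniteField.pow_card x
    rwa [hF] at this
  have hr1 : ∀ x : F, x ^ 2 - 0 * x + 1 ≠ 0 := by
    intro x hx
    have e1 : x = 0 := by linear_combination x * h3 - x * hx + hpow x
    rw [e1] at hx
    exact one_ne_zero (α := F) (by linear_combination hx)
  have hr2 : ∀ x : F, x ^ 2 - 1 * x + (-1) ≠ 0 := by
    intro x hx
    have e1 : x = -1 := by linear_combination hpow x - (x + 1) * hx
    rw [e1] at hx
    exact one_ne_zero (α := F) (by linear_combination hx)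
  have hn12 : ¬ Sim (D4 (1 : F) 0) (D4 (-1 : F) 1) := by
    intro h
    obtain ⟨z, hz, ht⟩ := h.trace_eq
    rw [trace_D4, trace_D4, mul_zero, mul_one] at ht
    rcases mul_eq_zero.1 ht.symm with h5 | h5
    · exact Sim.ne_zero (by omega) hz h5
    · exact h2 h5
  let B : Fam F 4 Bool := famD (fun b => if b then 1 else -1) (fun b => if b then 0 else 1)
    (by rintro (_ | _) <;> simp only [_root_.Bool.false_eq_true, ↓ _root_.reduceIte, _root_.even_two, _root_.Even.neg_pow, _root_.one_pow]) (by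
      rintro (_ | _)
      · simpa only [_root_.Bool.false_eq_true, ↓ _root_.reduceIte, _root_.one_mul, _root_.ne_eq] using hr2
      · simpa only [↓ _root_.reduceIte, _root_.MulZeroClass.zero_mul, _root_.sub_zero, _root_.ne_eq] using hr1) (by
      rintro (_ | _) (_ | _) h
      · rfl
      · exact absurd (Sim.symm (by omega) h) (by simpa using hn12)
      · exact absurd h (by simpa using hn12)
      · rfl)
  have hrB : ∀ b : Bool, ∀ x : F, x ^ 2 - (if b then (0 : F) else 1) * x + (if b then (1 : F) else -1) ≠ 0 := by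
    rintro (_ | _)
    · simpa only [_root_.Bool.false_eq_true, ↓ _root_.reduceIte, _root_.one_mul, _root_.ne_eq] using hr2
    · simpa only [↓ _root_.reduceIte, _root_.MulZeroClass.zero_mul, _root_.sub_zero, _root_.ne_eq] using hr1
  let A : Fam F 4 ((Fin 4 ⊕ {t : F // t ≠ 2}) ⊕ Unit) := (fam4 F).sum (famE4 F) (by omega) (by
    rintro (i | i) _
    · exact not_sim_U_E4 h4
    · exact not_sim_M4_E4 i.2)
  refine big_of_fam (by omega) (A.sum B (by omega) ?_) ?_
  · rintro (i | i) b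
    · exact D4_not_sim (hrB b) (fam4_e0 i)
    · refine D4_not_sim (hrB b) ?_
      change E4 F *ᵥ _ = _
      ext i
      (revert i; simp only [E4, mulVec, dotProduct, Fin.sum_univ_succ, _root_.Fin.forall_fin_succ, _root_.Matrix.of_apply, _root_.Matrix.cons_val', _root_.Matrix.cons_val_fin_one, Fin.isValue, _root_.Matrix.cons_val_zero, _root_.mul_one, _root_.Matrix.cons_val_succ, _root_.MulZeroClass.mul_zero, _root_.Finset.univ_unique, _root_.Fin.default_eq_zero, _root_.Finset.sum_const_zero, _root_.add_zero, _root_.Nat.succ_eq_add_one, Nat.reduceAdd, _root_.Pi.smul_apply, _root_.smul_eq_mul, _root_.one_mul, _root_.implies_true, _root_.and_self])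
  · rw [Fintype.card_sum, Fintype.card_sum, Fintype.card_sum, card_ne_two, hF]
    simp

theorem big_four_four (hF : Fintype.card F = 4) : Big (Matrix.ProjectiveSpecialLinearGroup (Fin 4) F) := by
  classical
  have h2 := two_eq_zero_of_card_four hF
  have hpow : ∀ x : F, x ^ 4 = x := fun x => by
    have := FiniteField.pow_card x
    rwa [hF] at this
  obtain ⟨w, hw⟩ : ∃ w : F, w ^ 2 + w + 1 = 0 := by
    by_contra hcon
    push Not at hcon
    have h5 : ∀ x : F, x = 0 ∨ x = 1 := by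
      intro x
      by_contra hx
      push Not at hx
      apply hcon x
      have h6 : x * ((x - 1) * (x ^ 2 + x + 1)) = 0 := by linear_combination hpow x
      rcases mul_eq_zero.1 h6 with h7 | h7
      · exact absurd h7 hx.1
      · exact (mul_eq_zero.1 h7).resolve_left (sub_ne_zero.2 hx.2)
    have h6 : Fintype.card F ≤ 2 := by
      rw [← Finset.card_univ]
      refine (Finset.card_le_card (t := {0, 1}) fun x _ => ?_).trans Finset.card_le_two
      rcases h5 x with h7 | h7 <;> simp only [h7, _root_.Finset.mem_insert, _root_.Finset.mem_singleton, _root_.zero_ne_one, _root_.or_false, _root_.one_ne_zero, _root_.or_true]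
    omega
  have hr : ∀ t : F, t ^ 2 + t + 1 = 0 → ∀ x : F, x ^ 2 - t * x + 1 ≠ 0 := by
    intro t ht x hx
    -- `x ^ 4 = x + t ^ 2 + 1`
    have h5 : t ^ 3 = 1 := by linear_combination (t - 1) * ht
    have h6 : t ^ 2 + 1 = 0 := by
      have e2 : x ^ 2 = t * x + 1 := by linear_combination hx - h2
      have e4 : x ^ 4 = x + t ^ 2 + 1 := by
        have : x ^ 4 = (t * x + 1) ^ 2 := by rw [← e2]; ring
        rw [this]
        linear_combination t ^ 2 * e2 + x * h5 + t * x * h2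
      rw [hpow x] at e4
      linear_combination -e4
    have h7 : t = 0 := by linear_combination ht - h6
    rw [h7] at h6
    exact one_ne_zero (α := F) (by linear_combination h6)
  have hsim : ∀ t t' : F, Sim (D4 1 t) (D4 1 t') → t = t' := by
    intro t t' h
    obtain ⟨z, hz, h5⟩ := h.charpoly_eq
    rw [hpow z] at hz
    subst hz
    have h6 := charpoly_D4 1 t 1
    rw [one_smul] at h6
    rw [h6, charpoly_D4] at h5
    have h7 := congrArg (Polynomial.eval 1) h5
    simp only [_root_.one_mul, _root_.one_pow, _root_.mul_one, _root_.map_one, _root_.Polynomial.eval_pow, _root_.Polynomial.eval_add, _root_.Polynomial.eval_sub, _root_.Polynomial.eval_X, _root_.Polynomial.eval_mul, _root_.Polynomial.eval_C, _root_.Polynomial.eval_one] at h7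
    have h8 : (t - t') ^ 2 = 0 := by linear_combination h7 + (2 * (t - t') + t' ^ 2 - t * t') * h2
    exact sub_eq_zero.1 (pow_eq_zero_iff two_ne_zero |>.1 h8)
  have hw' : (w + 1) ^ 2 + (w + 1) + 1 = 0 := by linear_combination hw + (w + 1) * h2
  let tt : Bool → F := fun b => if b then w else w + 1
  have htt : ∀ b, tt b ^ 2 + tt b + 1 = 0 := by
    rintro (_ | _)
    · simpa only [tt, _root_.Bool.false_eq_true, ↓ _root_.reduceIte] using hw'
    · simpa only [tt, ↓ _root_.reduceIte] using hw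
  let B : Fam F 4 Bool := famD (fun _ => 1) tt (fun _ => one_pow 2) (fun b => hr _ (htt b)) (by
    intro i j h
    have h5 := hsim _ _ h
    rcases i with _ | _ <;> rcases j with _ | _ <;> simp [tt] at h5 ⊢)
  refine big_of_fam (by omega) ((fam4 F).sum B (by omega) ?_) ?_
  · intro i b
    exact D4_not_sim (hr _ (htt b)) (fam4_e0 i)
  · rw [Fintype.card_sum, Fintype.card_sum, card_ne_two, hF]
    simp

theorem big_four_five (hF : Fintype.card F = 5) : Big (Matrix.ProjectiveSpecialLinearGroup (Fin 4) F) := by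
  classical
  have h5 : (5 : F) = 0 := by
    have h := FiniteField.cast_card_eq_zero F
    rw [hF] at h
    exact_mod_cast h
  have hpow : ∀ x : F, x ^ 5 = x := fun x => by
    have := FiniteField.pow_card x
    rwa [hF] at this
  have hr : ∀ x : F, x ^ 2 - 1 * x + 1 ≠ 0 := by
    intro x hx
    have h3 : x ^ 3 = -1 := by linear_combination (x + 1) * hx
    have h6 : x * (x + 1) = 0 := by linear_combination -hpow x + x ^ 2 * h3
    rcases mul_eq_zero.1 h6 with h7 | h7
    · rw [h7] at hx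
      exact one_ne_zero (α := F) (by linear_combination hx)
    · have h8 : x = -1 := by linear_combination h7
      rw [h8] at hx
      exact one_ne_zero (α := F) (by linear_combination 2 * hx - h5)
  let B : Fam F 4 Unit := famD (fun _ => 1) (fun _ => 1) (fun _ => one_pow 2) (fun _ => hr) (fun _ _ _ => rfl)
  refine big_of_fam (by omega) ((fam4 F).sum B (by omega) ?_) ?_
  · intro i b
    exact D4_not_sim hr (fam4_e0 i)
  · rw [Fintype.card_sum, Fintype.card_sum, card_ne_two, hF]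
    simp

theorem big_four (hF : 3 ≤ Fintype.card F) : Big (Matrix.ProjectiveSpecialLinearGroup (Fin 4) F) := by
  classical
  rcases (by omega : Fintype.card F = 3 ∨ Fintype.card F = 4 ∨ Fintype.card F = 5 ∨ 6 ≤ Fintype.card F) with h | h | h | h
  · exact big_four_three h
  · exact big_four_four h
  · exact big_four_five h
  · refine big_of_fam (by omega) (fam4 F) ?_
    rw [Fintype.card_sum, card_ne_two, Fintype.card_fin]
    omega

theorem big_five : Big (Matrix.ProjectiveSpecialLinearGroup (Fin 5) F) := by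
  classical
  by_cases hF : 3 ≤ Fintype.card F
  · refine big_of_fam (by omega) (fam5 F) ?_
    rw [Fintype.card_sum, Fintype.card_sum, card_ne_two, Fintype.card_fin]
    omega
  · have h1 : 1 < Fintype.card F := Fintype.one_lt_card
    have hF2 : Fintype.card F = 2 := by omega
    have h2 : ∀ z : F, z ≠ 0 → z = 1 := by
      intro z hz
      have := FiniteField.pow_card_sub_one_eq_one z hz
      rwa [hF2, show 2 - 1 = 1 by rfl, pow_one] at this
    refine big_of_fam (by omega) ((fam5 F).sum (famG5 F) (by omega) ?_) ?_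
    · rintro (i | i | i) _
      · exact not_sim_U_G5 h2
      · exact not_sim_M5_G5 h2
      · exact not_sim_M5_G5 h2
    · rw [Fintype.card_sum, Fintype.card_sum, Fintype.card_sum, card_ne_two, hF2]
      simp

/-- **Row `PSL_n(q)`, `n ≥ 4`.** -/
theorem big_psl {F : Type} [Field F] [Fintype F] {n : ℕ} (hn : 4 ≤ n) (h : n = 4 → 3 ≤ Fintype.card F) :
    Cfsg.Agent.H504.Zeros.Big (Matrix.ProjectiveSpecialLinearGroup (Fin n) F) := by
  rcases (by omega : n = 4 ∨ n = 5 ∨ 6 ≤ n) with h4 | h5 | h6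
  · subst h4
    exact big_four (h rfl)
  · subst h5
    exact big_five
  · exact big_of_fam (by omega) (famU9 F n h6) (by rw [Fintype.card_fin])

end groups

end Cfsg.Agent.H206.ZPsl
end

-- part: H279/ZerosPSU43
section
/-!
# S4895, row `PSU_4(3)`

The class of regular unipotent elements of `GU_4(3)` splits into four classes of `SU_4(3)`.
-/

set_option autoImplicit false
set_option maxRecDepth 20000
open Cfsg

namespace Cfsg.Agent.H279.ZerosPSU43

open Matrix Cfsg.Agent.H504.Zeros Cfsg.Agent.H279.ZerosTools Cfsg.Agent.H279.ZerosPSU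
open Cfsg.Agent.LieClassical Cfsg.Agent.H674.SUTools Cfsg.Agent.H674.SUBlock
open Cfsg.Agent.H674.Explicit Cfsg.Agent.H674.ExplicitCases Cfsg.Agent.H674.TwelvePSU

/-- a regular unipotent element -/
def X9 : Matrix (Fin 4) (Fin 4) F9 :=
  !![⟨0, 0⟩, ⟨2, 1⟩, ⟨0, 1⟩, ⟨0, 1⟩; ⟨0, 0⟩, ⟨0, 0⟩, ⟨1, 1⟩, ⟨2, 2⟩; ⟨1, 0⟩, ⟨0, 0⟩, ⟨0, 0⟩, ⟨0, 0⟩; ⟨0, 0⟩, ⟨2, 2⟩, ⟨1, 0⟩, ⟨1, 0⟩]

/-- its Jordan basis -/
def B : Matrix (Fin 4) (Fin 4) F9 :=
  !![⟨2, 1⟩, ⟨2, 2⟩, ⟨0, 1⟩, ⟨0, 0⟩; ⟨0, 1⟩, ⟨1, 1⟩, ⟨2, 2⟩, ⟨0, 0⟩; ⟨2, 1⟩, ⟨0, 1⟩, ⟨0, 0⟩, ⟨0, 0⟩; ⟨0, 2⟩, ⟨0, 2⟩, ⟨0, 0⟩, ⟨1, 0⟩]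

def Bi : Matrix (Fin 4) (Fin 4) F9 :=
  !![⟨2, 1⟩, ⟨2, 0⟩, ⟨1, 1⟩, ⟨0, 0⟩; ⟨2, 0⟩, ⟨1, 1⟩, ⟨0, 0⟩, ⟨0, 0⟩; ⟨1, 0⟩, ⟨0, 1⟩, ⟨0, 1⟩, ⟨0, 0⟩; ⟨2, 1⟩, ⟨2, 0⟩, ⟨2, 1⟩, ⟨1, 0⟩]

def U : Matrix (Fin 4) (Fin 4) F9 := !![1, 1, 0, 0; 0, 1, 1, 0; 0, 0, 1, 1; 0, 0, 0, 1]

def G : Matrix (Fin 4) (Fin 4) F9 :=
  !![0, 0, 0, ⟨0, 2⟩; 0, 0, ⟨0, 1⟩, ⟨0, 2⟩; 0, ⟨0, 2⟩, 0, 0; ⟨0, 1⟩, ⟨0, 1⟩, 0, ⟨1, 0⟩]

theorem hB : B * Bi = 1 := by decide +kernel
theorem hU : Bi * X9 * B = U := by decide +kernel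
theorem hG' : Bᵀ * B.map (fun x => x ^ 3) = G := by decide +kernel
theorem hG : Bᵀ * B.map (GUOrder.frob h9) = G := hG'

theorem det_one_of_comm {z : Matrix (Fin 4) (Fin 4) F9} (h1 : zᵀ * z.map (GUOrder.frob h9) = 1)
    (h2 : z * X9 = X9 * z) : z.det = 1 := by
  obtain ⟨w, hw⟩ : ∃ w, w = Bi * z * B := ⟨_, rfl⟩
  have hwz : z = B * w * Bi := by
    rw [hw]
    calc z = (B * Bi) * z * (B * Bi) := by rw [hB, one_mul, mul_one]
      _ = _ := by simp only [mul_assoc]
  have hwU : w * U = U * w := by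
    rw [hw, ← hU]
    calc Bi * z * B * (Bi * X9 * B) = Bi * (z * ((B * Bi) * X9)) * B := by simp only [mul_assoc]
      _ = Bi * (X9 * ((B * Bi) * z)) * B := by rw [hB, one_mul, one_mul, h2]
      _ = _ := by simp only [mul_assoc]
  have hdet : z.det = w.det := by
    rw [hwz, Matrix.det_mul, Matrix.det_mul, mul_right_comm, ← Matrix.det_mul, hB, Matrix.det_one, one_mul]
  have hwG : wᵀ * G * w.map (GUOrder.frob h9) = G := by
    have h3 : w.map (GUOrder.frob h9) = Bi.map (GUOrder.frob h9) * z.map (GUOrder.frob h9) *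
        B.map (GUOrder.frob h9) := by
      rw [hw, Matrix.map_mul, Matrix.map_mul]
    have h4 : Biᵀ * Bᵀ = 1 := by rw [← Matrix.transpose_mul, hB, Matrix.transpose_one]
    have h5 : B.map (GUOrder.frob h9) * Bi.map (GUOrder.frob h9) = 1 := by
      rw [← Matrix.map_mul, hB, Matrix.map_one _ (map_zero _) (map_one _)]
    rw [h3, hw, Matrix.transpose_mul, Matrix.transpose_mul, ← hG]
    calc Bᵀ * (zᵀ * Biᵀ) * (Bᵀ * B.map (GUOrder.frob h9)) * (Bi.map (GUOrder.frob h9) *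
          z.map (GUOrder.frob h9) * B.map (GUOrder.frob h9)) =
        Bᵀ * (zᵀ * ((Biᵀ * Bᵀ) * ((B.map (GUOrder.frob h9) * Bi.map (GUOrder.frob h9)) *
          z.map (GUOrder.frob h9)))) * B.map (GUOrder.frob h9) := by simp only [mul_assoc]
      _ = _ := by rw [h4, h5, one_mul, one_mul, h1, mul_one]
  have e : ∀ i j, (w * U) i j = (U * w) i j := fun i j => by rw [hwU]
  have e00 := e 0 0
  have e10 := e 1 0
  have e20 := e 2 0
  have e30 := e 3 0
  have e01 := e 0 1
  have e11 := e 1 1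
  have e21 := e 2 1
  have e31 := e 3 1
  have e02 := e 0 2
  have e12 := e 1 2
  have e22 := e 2 2
  have e32 := e 3 2
  have e03 := e 0 3
  have e13 := e 1 3
  have e23 := e 2 3
  have e33 := e 3 3
  simp only [Matrix.mul_apply, Fin.sum_univ_four, U, _root_.Cfsg.Agent.H279.ZerosPSU43.U, _root_.Fin.isValue, _root_.Matrix.mul_apply, _root_.Matrix.of_apply, _root_.Matrix.cons_val', _root_.Matrix.cons_val_zero, _root_.Matrix.cons_val_fin_one, _root_.Fin.sum_univ_four, _root_.mul_one, _root_.Matrix.cons_val_one, _root_.MulZeroClass.mul_zero, _root_.add_zero, _root_.Matrix.cons_val, _root_.one_mul, _root_.MulZeroClass.zero_mul, _root_.left_eq_add, _root_.zero_add, _root_.add_eq_right] at e00 e10 e20 e30 e01 e11 e21 e31 e02 e12 e22 e32 e03 e13 e23 e33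
  have f10 : w 1 0 = 0 := e00
  have f20 : w 2 0 = 0 := e10
  have f30 : w 3 0 = 0 := e20
  have f31 : w 3 1 = 0 := e32
  have f32 : w 3 2 = 0 := e33
  have f21 : w 2 1 = 0 := by linear_combination f10 - e11
  have f11 : w 1 1 = w 0 0 := by linear_combination -e01
  have f22 : w 2 2 = w 0 0 := by linear_combination -e01 - e12
  have f33 : w 3 3 = w 0 0 := by linear_combination -e01 - e12 - e23
  have htri : w.BlockTriangular id := by
    intro i j hij
    fin_cases i <;> fin_cases j <;> first | exact f10 | exact f20 | exact f30 | exact f21 | exact f31 | exact f32 | exact absurd hij (by decide)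
  have hd : w.det = w 0 0 ^ 4 := by
    rw [Matrix.det_of_upperTriangular htri, Fin.prod_univ_four, f11, f22, f33]
    ring
  have hg := congrFun (congrFun hwG 0) 3
  have hg2 : (wᵀ * G * w.map (GUOrder.frob h9)) 0 3 = w 0 0 * (⟨0, 2⟩ : F9) * w 0 0 ^ 3 := by
    simp only [Matrix.mul_apply, Fin.sum_univ_four, Matrix.transpose_apply, f10, f20, f30, Matrix.map_apply,
      GUOrder.frob_apply, f33]
    simp [G]
  rw [hg2] at hg
  have hg3 : (⟨0, 2⟩ : F9) * w 0 0 ^ 4 = (⟨0, 2⟩ : F9) * 1 := by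
    have hg4 : G 0 3 = (⟨0, 2⟩ : F9) := rfl
    rw [hg4] at hg
    rw [mul_one]
    calc (⟨0, 2⟩ : F9) * w 0 0 ^ 4 = w 0 0 * (⟨0, 2⟩ : F9) * w 0 0 ^ 3 := by ring
      _ = _ := hg
  have h02 : (⟨0, 2⟩ : F9) ≠ 0 := by decide
  rw [hdet, hd]
  exact mul_left_cancel₀ h02 hg3

/-- four diagonal matrices -/
def D : Fin 4 → Matrix (Fin 4) (Fin 4) F9
  | 0 => !![⟨1, 0⟩, ⟨0, 0⟩, ⟨0, 0⟩, ⟨0, 0⟩; ⟨0, 0⟩, ⟨1, 0⟩, ⟨0, 0⟩, ⟨0, 0⟩; ⟨0, 0⟩, ⟨0, 0⟩, ⟨1, 0⟩, ⟨0, 0⟩; ⟨0, 0⟩, ⟨0, 0⟩, ⟨0, 0⟩, ⟨1, 0⟩]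
  | 1 => !![⟨0, 1⟩, ⟨0, 0⟩, ⟨0, 0⟩, ⟨0, 0⟩; ⟨0, 0⟩, ⟨1, 0⟩, ⟨0, 0⟩, ⟨0, 0⟩; ⟨0, 0⟩, ⟨0, 0⟩, ⟨1, 0⟩, ⟨0, 0⟩; ⟨0, 0⟩, ⟨0, 0⟩, ⟨0, 0⟩, ⟨1, 0⟩]
  | 2 => !![⟨2, 0⟩, ⟨0, 0⟩, ⟨0, 0⟩, ⟨0, 0⟩; ⟨0, 0⟩, ⟨1, 0⟩, ⟨0, 0⟩, ⟨0, 0⟩; ⟨0, 0⟩, ⟨0, 0⟩, ⟨1, 0⟩, ⟨0, 0⟩; ⟨0, 0⟩, ⟨0, 0⟩, ⟨0, 0⟩, ⟨1, 0⟩]
  | 3 => !![⟨0, 2⟩, ⟨0, 0⟩, ⟨0, 0⟩, ⟨0, 0⟩; ⟨0, 0⟩, ⟨1, 0⟩, ⟨0, 0⟩, ⟨0, 0⟩; ⟨0, 0⟩, ⟨0, 0⟩, ⟨1, 0⟩, ⟨0, 0⟩; ⟨0, 0⟩, ⟨0, 0⟩, ⟨0, 0⟩, ⟨1, 0⟩]

/-- their inverses -/
def Di : Fin 4 → Matrix (Fin 4) (Fin 4) F9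
  | 0 => D 0
  | 1 => D 3
  | 2 => D 2
  | 3 => D 1

/-- four conjugates under `GU_4(3)` -/
def gg : Fin 4 → Matrix (Fin 4) (Fin 4) F9
  | 0 => !![⟨0, 0⟩, ⟨2, 1⟩, ⟨0, 1⟩, ⟨0, 1⟩; ⟨0, 0⟩, ⟨0, 0⟩, ⟨1, 1⟩, ⟨2, 2⟩; ⟨1, 0⟩, ⟨0, 0⟩, ⟨0, 0⟩, ⟨0, 0⟩; ⟨0, 0⟩, ⟨2, 2⟩, ⟨1, 0⟩, ⟨1, 0⟩]
  | 1 => !![⟨0, 0⟩, ⟨2, 2⟩, ⟨2, 0⟩, ⟨2, 0⟩; ⟨0, 0⟩, ⟨0, 0⟩, ⟨1, 1⟩, ⟨2, 2⟩; ⟨0, 2⟩, ⟨0, 0⟩, ⟨0, 0⟩, ⟨0, 0⟩; ⟨0, 0⟩, ⟨2, 2⟩, ⟨1, 0⟩, ⟨1, 0⟩]
  | 2 => !![⟨0, 0⟩, ⟨1, 2⟩, ⟨0, 2⟩, ⟨0, 2⟩; ⟨0, 0⟩, ⟨0, 0⟩, ⟨1, 1⟩, ⟨2, 2⟩; ⟨2, 0⟩, ⟨0, 0⟩, ⟨0, 0⟩, ⟨0, 0⟩; ⟨0, 0⟩, ⟨2, 2⟩, ⟨1, 0⟩, ⟨1, 0⟩]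
  | 3 => !![⟨0, 0⟩, ⟨1, 1⟩, ⟨1, 0⟩, ⟨1, 0⟩; ⟨0, 0⟩, ⟨0, 0⟩, ⟨1, 1⟩, ⟨2, 2⟩; ⟨0, 1⟩, ⟨0, 0⟩, ⟨0, 0⟩, ⟨0, 0⟩; ⟨0, 0⟩, ⟨2, 2⟩, ⟨1, 0⟩, ⟨1, 0⟩]

private noncomputable def _root_.Cfsg.Agent.LsF.f120444_0 : {f // @Cfsg.Agent.H279.ZerosPSU43.gg = f} := ⟨_, by first | (delta Cfsg.Agent.H279.ZerosPSU43.gg; rewrite [Cfsg.Agent.LsF.mof_pat, Cfsg.Agent.LsF.vecCons_eq]; (try delta Cfsg.Agent.H279.ZerosPSU43.D.match_1); (try delta Fin.casesOn Nat.casesOn Nat.le.casesOn); exact rfl) | exact rfl⟩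
private noncomputable def _root_.Cfsg.Agent.LsF.f120444_1 : {f // @Cfsg.Agent.H279.ZerosPSU43.D = f} := ⟨_, by first | (delta Cfsg.Agent.H279.ZerosPSU43.D; rewrite [Cfsg.Agent.LsF.mof_pat, Cfsg.Agent.LsF.vecCons_eq]; (try delta Cfsg.Agent.H279.ZerosPSU43.D.match_1); (try delta Fin.casesOn Nat.casesOn Nat.le.casesOn); exact rfl) | exact rfl⟩
private noncomputable def _root_.Cfsg.Agent.LsF.f120444_2 : {f // @Cfsg.Agent.H279.ZerosPSU43.X9 = f} := ⟨_, by first | (delta Cfsg.Agent.H279.ZerosPSU43.X9; rewrite [Cfsg.Agent.LsF.mof_pat, Cfsg.Agent.LsF.vecCons_eq]; exact rfl) | exact rfl⟩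
private noncomputable def _root_.Cfsg.Agent.LsF.f120444_3 : {f // @Cfsg.Agent.H279.ZerosPSU43.Di = f} := ⟨_, by first | (delta Cfsg.Agent.H279.ZerosPSU43.Di; rewrite [Cfsg.Agent.LsF.f120444_1.2]; (try delta Cfsg.Agent.H279.ZerosPSU43.D.match_1); (try delta Fin.casesOn Nat.casesOn Nat.le.casesOn); exact rfl) | exact rfl⟩
theorem gg_eq (a : Fin 4) : gg a = D a * X9 * Di a := by
  revert a; (refine of_decide_eq_true ?_; (try (rewrite [Cfsg.Agent.LsF.mmulF_pat, Cfsg.Agent.LsF.f120444_0.2, Cfsg.Agent.LsF.f120444_1.2, Cfsg.Agent.LsF.f120444_2.2, Cfsg.Agent.LsF.f120444_3.2, Cfsg.Agent.LsF.zdecEq_eq, Cfsg.Agent.LsF.finFintype_eq, Cfsg.Agent.LsF.dMat_eq, Cfsg.Agent.LsF.instZAdd_pat, Cfsg.Agent.LsF.instZMul_pat, Cfsg.Agent.LsF.zACM_pat, Cfsg.Agent.LsF.dForallFin_eq, Cfsg.Agent.LsF.decide_eq])); decide +kernel)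

/-- the other elements -/
def ff : Fin 5 → Matrix (Fin 4) (Fin 4) F9
  | 0 => !![⟨1, 1⟩, ⟨1, 1⟩, ⟨0, 0⟩, ⟨0, 0⟩; ⟨2, 1⟩, ⟨1, 2⟩, ⟨0, 0⟩, ⟨0, 0⟩; ⟨0, 0⟩, ⟨0, 0⟩, ⟨1, 0⟩, ⟨0, 0⟩; ⟨0, 0⟩, ⟨0, 0⟩, ⟨0, 0⟩, ⟨1, 0⟩]
  | 1 => !![⟨1, 1⟩, ⟨1, 1⟩, ⟨0, 0⟩, ⟨0, 0⟩; ⟨2, 1⟩, ⟨1, 2⟩, ⟨0, 0⟩, ⟨0, 0⟩; ⟨0, 0⟩, ⟨0, 0⟩, ⟨1, 1⟩, ⟨1, 1⟩; ⟨0, 0⟩, ⟨0, 0⟩, ⟨2, 1⟩, ⟨1, 2⟩]
  | 2 => !![⟨0, 0⟩, ⟨1, 0⟩, ⟨0, 0⟩, ⟨0, 0⟩; ⟨0, 0⟩, ⟨0, 0⟩, ⟨1, 0⟩, ⟨0, 0⟩; ⟨1, 0⟩, ⟨0, 0⟩, ⟨0, 0⟩, ⟨0, 0⟩; ⟨0, 0⟩, ⟨0, 0⟩, ⟨0, 0⟩, ⟨1, 0⟩]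
  | 3 => !![⟨1, 1⟩, ⟨1, 1⟩, ⟨0, 0⟩, ⟨0, 0⟩; ⟨2, 1⟩, ⟨1, 2⟩, ⟨0, 0⟩, ⟨0, 0⟩; ⟨0, 0⟩, ⟨0, 0⟩, ⟨2, 0⟩, ⟨0, 0⟩; ⟨0, 0⟩, ⟨0, 0⟩, ⟨0, 0⟩, ⟨2, 0⟩]
  | 4 => !![⟨1, 1⟩, ⟨1, 1⟩, ⟨0, 0⟩, ⟨0, 0⟩; ⟨2, 1⟩, ⟨1, 2⟩, ⟨0, 0⟩, ⟨0, 0⟩; ⟨0, 0⟩, ⟨0, 0⟩, ⟨0, 1⟩, ⟨0, 0⟩; ⟨0, 0⟩, ⟨0, 0⟩, ⟨0, 0⟩, ⟨0, 2⟩]

/-- all nine -/
def M : Fin 5 ⊕ Fin 4 → Matrix (Fin 4) (Fin 4) F9 := Sum.elim ff gg

private noncomputable def _root_.Cfsg.Agent.LsF.f120444_4 : {f // @Cfsg.Agent.H674.Explicit.good = f} := ⟨_, by first | (delta Cfsg.Agent.H674.Explicit.good; rewrite [Cfsg.Agent.LsF.det_eq, Cfsg.Agent.LsF.finFintype_eq, Cfsg.Agent.LsF.dMat_eq, Cfsg.Agent.LsF.instMHMul_eq, Cfsg.Agent.LsF.transpose_eq, Cfsg.Agent.LsF.instMOne_eq, Cfsg.Agent.LsF.mmap_eq, Cfsg.Agent.LsF.and_eq, Cfsg.Agent.LsF.dFinEq_eq, Cfsg.Agent.LsF.decide_eq]; exact rfl) | exact rfl⟩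
private noncomputable def _root_.Cfsg.Agent.LsF.f120444_5 : {f // @Cfsg.Agent.H279.ZerosPSU43.ff = f} := ⟨_, by first | (delta Cfsg.Agent.H279.ZerosPSU43.ff; rewrite [Cfsg.Agent.LsF.mof_pat, Cfsg.Agent.LsF.vecCons_eq]; (try delta Cfsg.Agent.H279.ZerosPSU43.ff.match_1); (try delta Fin.casesOn Nat.casesOn Nat.le.casesOn); exact rfl) | exact rfl⟩
private noncomputable def _root_.Cfsg.Agent.LsF.f120444_6 : {f // @Cfsg.Agent.H279.ZerosPSU43.M = f} := ⟨_, by first | (delta Cfsg.Agent.H279.ZerosPSU43.M; rewrite [Cfsg.Agent.LsF.f120444_5.2, Cfsg.Agent.LsF.f120444_0.2]; exact rfl) | exact rfl⟩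
theorem good_M : ∀ i, good 3 (M i) = true := by (refine of_decide_eq_true ?_; (try (rewrite [Cfsg.Agent.LsF.f120444_4.2, Cfsg.Agent.LsF.f120444_6.2, Cfsg.Agent.LsF.zdecEq_eq, Cfsg.Agent.LsF.finFintype_eq, Cfsg.Agent.LsF.dForall_eq, Cfsg.Agent.LsF.dBoolEq_eq, Cfsg.Agent.LsF.decide_eq])); decide +kernel)

/-- invariants -/
def lab : Fin 5 ⊕ Fin 4 → List Bool :=
  Sum.elim ![[true, true, true], [true, true, true], [true, true, true], [false, true, false],
    [false, false, false]] (fun _ => [false, false, true])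

private noncomputable def _root_.Cfsg.Agent.LsF.f120444_7 : {f // @Cfsg.Agent.H674.Explicit.isSc = f} := ⟨_, by first | (delta Cfsg.Agent.H674.Explicit.isSc; rewrite [Cfsg.Agent.LsF.finFintype_eq, Cfsg.Agent.LsF.dMat_eq, Cfsg.Agent.LsF.instMOne_eq, Cfsg.Agent.LsF.dFinEq_eq, Cfsg.Agent.LsF.decide_eq]; exact rfl) | exact rfl⟩
private noncomputable def _root_.Cfsg.Agent.LsF.f120444_8 : {f // @Cfsg.Agent.H674.Explicit.exps = f} := ⟨_, by first | (delta Cfsg.Agent.H674.Explicit.exps; rewrite [Cfsg.Agent.LsF.f120444_7.2, Cfsg.Agent.LsF.finFintype_eq, Cfsg.Agent.LsF.map_eq, Cfsg.Agent.LsF.dFinEq_eq]; exact rfl) | exact rfl⟩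
private noncomputable def _root_.Cfsg.Agent.LsF.f120444_9 : {f // @Cfsg.Agent.H279.ZerosPSU43.lab = f} := ⟨_, by first | (delta Cfsg.Agent.H279.ZerosPSU43.lab; rewrite [Cfsg.Agent.LsF.vecCons_eq]; exact rfl) | exact rfl⟩
theorem exps_M : ∀ i, exps [3, 6, 9] (M i) = lab i := by (refine of_decide_eq_true ?_; (try (rewrite [Cfsg.Agent.LsF.f120444_8.2, Cfsg.Agent.LsF.f120444_6.2, Cfsg.Agent.LsF.f120444_9.2, Cfsg.Agent.LsF.zdecEq_eq, Cfsg.Agent.LsF.finFintype_eq, Cfsg.Agent.LsF.dForall_eq, Cfsg.Agent.LsF.dBoolEq_eq, Cfsg.Agent.LsF.dListEq_eq, Cfsg.Agent.LsF.decide_eq])); decide +kernel)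

theorem lab_cases : ∀ i j, lab i = lab j →
    i = j ∨ (∃ a b : Fin 3, i = Sum.inl (Fin.castLE (by norm_num) a) ∧ j = Sum.inl (Fin.castLE (by norm_num) b)) ∨
      (∃ a b : Fin 4, i = Sum.inr a ∧ j = Sum.inr b) := by
  decide +kernel

theorem nsc_M : ∀ i, isSc (M i ^ 4) = false := by (refine of_decide_eq_true ?_; (try (rewrite [Cfsg.Agent.LsF.mpowF_pat, Cfsg.Agent.LsF.f120444_7.2, Cfsg.Agent.LsF.f120444_6.2, Cfsg.Agent.LsF.zdecEq_eq, Cfsg.Agent.LsF.finFintype_eq, Cfsg.Agent.LsF.dForall_eq, Cfsg.Agent.LsF.dBoolEq_eq, Cfsg.Agent.LsF.decide_eq])); decide +kernel)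

theorem cube_ff (a : Fin 3) : ff (Fin.castLE (by norm_num) a) ^ 3 = 1 := by
  revert a; (refine of_decide_eq_true ?_; (try (rewrite [Cfsg.Agent.LsF.mpowF_pat, Cfsg.Agent.LsF.f120444_5.2, Cfsg.Agent.LsF.zdecEq_eq, Cfsg.Agent.LsF.finFintype_eq, Cfsg.Agent.LsF.dMat_eq, Cfsg.Agent.LsF.instMOne_eq, Cfsg.Agent.LsF.dFinEq_eq, Cfsg.Agent.LsF.dForallFin_eq, Cfsg.Agent.LsF.decide_eq])); decide +kernel)

theorem nine_gg (a : Fin 4) : gg a ^ 9 = 1 := by
  revert a; (refine of_decide_eq_true ?_; (try (rewrite [Cfsg.Agent.LsF.mpowF_pat, Cfsg.Agent.LsF.f120444_0.2, Cfsg.Agent.LsF.zdecEq_eq, Cfsg.Agent.LsF.finFintype_eq, Cfsg.Agent.LsF.dMat_eq, Cfsg.Agent.LsF.instMOne_eq, Cfsg.Agent.LsF.dFinEq_eq, Cfsg.Agent.LsF.dForallFin_eq, Cfsg.Agent.LsF.decide_eq])); decide +kernel)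

theorem ff0 : ff 0 - 1 = vecMulVec ![⟨0, 1⟩, ⟨2, 1⟩, 0, 0] ![1, ⟨1, 2⟩, 0, 0] := by decide +kernel

theorem R1_ff0 : R1 (ff 0 - 1) := ⟨_, _, ff0⟩

theorem nR1_ff1 : ¬ R1 (ff 1 - 1) := not_R1 0 2 0 2 (by decide +kernel)

theorem nR1_ff2 : ¬ R1 (ff 2 - 1) := not_R1 0 1 0 1 (by decide +kernel)

theorem sq_ff1 : (ff 1 - 1) * (ff 1 - 1) = 0 := by decide +kernel

theorem sq_ff2 : (ff 2 - 1) * (ff 2 - 1) ≠ 0 := by decide +kernel

theorem Di_mul (a : Fin 4) : Di a * D a = 1 := by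
  revert a; (refine of_decide_eq_true ?_; (try (rewrite [Cfsg.Agent.LsF.mmulF_pat, Cfsg.Agent.LsF.f120444_3.2, Cfsg.Agent.LsF.f120444_1.2, Cfsg.Agent.LsF.zdecEq_eq, Cfsg.Agent.LsF.finFintype_eq, Cfsg.Agent.LsF.dMat_eq, Cfsg.Agent.LsF.instMOne_eq, Cfsg.Agent.LsF.instZAdd_pat, Cfsg.Agent.LsF.instZMul_pat, Cfsg.Agent.LsF.zACM_pat, Cfsg.Agent.LsF.dFinEq_eq, Cfsg.Agent.LsF.dForallFin_eq, Cfsg.Agent.LsF.decide_eq])); decide +kernel)

theorem isom_D' (a : Fin 4) : (D a)ᵀ * (D a).map (fun x => x ^ 3) = 1 := by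
  revert a; (refine of_decide_eq_true ?_; (try (rewrite [Cfsg.Agent.LsF.mmulF_pat, Cfsg.Agent.LsF.f120444_1.2, Cfsg.Agent.LsF.zdecEq_eq, Cfsg.Agent.LsF.finFintype_eq, Cfsg.Agent.LsF.dMat_eq, Cfsg.Agent.LsF.transpose_eq, Cfsg.Agent.LsF.instMOne_eq, Cfsg.Agent.LsF.mmap_eq, Cfsg.Agent.LsF.instZAdd_pat, Cfsg.Agent.LsF.instZMul_pat, Cfsg.Agent.LsF.zACM_pat, Cfsg.Agent.LsF.dFinEq_eq, Cfsg.Agent.LsF.dForallFin_eq, Cfsg.Agent.LsF.decide_eq])); decide +kernel)

theorem isom_Di' (a : Fin 4) : (Di a)ᵀ * (Di a).map (fun x => x ^ 3) = 1 := by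
  revert a; (refine of_decide_eq_true ?_; (try (rewrite [Cfsg.Agent.LsF.mmulF_pat, Cfsg.Agent.LsF.f120444_3.2, Cfsg.Agent.LsF.zdecEq_eq, Cfsg.Agent.LsF.finFintype_eq, Cfsg.Agent.LsF.dMat_eq, Cfsg.Agent.LsF.transpose_eq, Cfsg.Agent.LsF.instMOne_eq, Cfsg.Agent.LsF.mmap_eq, Cfsg.Agent.LsF.instZAdd_pat, Cfsg.Agent.LsF.instZMul_pat, Cfsg.Agent.LsF.zACM_pat, Cfsg.Agent.LsF.dFinEq_eq, Cfsg.Agent.LsF.dForallFin_eq, Cfsg.Agent.LsF.decide_eq])); decide +kernel)

theorem det_D : ∀ a b : Fin 4, (D a).det * (Di b).det = 1 → a = b := by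
  (refine of_decide_eq_true ?_; (try (rewrite [Cfsg.Agent.LsF.f120444_1.2, Cfsg.Agent.LsF.f120444_3.2, Cfsg.Agent.LsF.det_eq, Cfsg.Agent.LsF.zdecEq_eq, Cfsg.Agent.LsF.finFintype_eq, Cfsg.Agent.LsF.instZAdd_pat, Cfsg.Agent.LsF.instZMul_pat, Cfsg.Agent.LsF.dFinEq_eq, Cfsg.Agent.LsF.dForallFin_eq, Cfsg.Agent.LsF.dAllP_eq, Cfsg.Agent.LsF.decide_eq])); decide +kernel)

theorem six_ff3 : ff 3 ^ 6 = 1 := by (refine of_decide_eq_true ?_; (try (rewrite [Cfsg.Agent.LsF.mpowF_pat, Cfsg.Agent.LsF.f120444_5.2, Cfsg.Agent.LsF.zdecEq_eq, Cfsg.Agent.LsF.finFintype_eq, Cfsg.Agent.LsF.dMat_eq, Cfsg.Agent.LsF.instMOne_eq, Cfsg.Agent.LsF.dFinEq_eq, Cfsg.Agent.LsF.decide_eq])); decide +kernel)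

theorem twelve_ff4 : ff 4 ^ 12 = 1 := by (refine of_decide_eq_true ?_; (try (rewrite [Cfsg.Agent.LsF.mpowF_pat, Cfsg.Agent.LsF.f120444_5.2, Cfsg.Agent.LsF.zdecEq_eq, Cfsg.Agent.LsF.finFintype_eq, Cfsg.Agent.LsF.dMat_eq, Cfsg.Agent.LsF.instMOne_eq, Cfsg.Agent.LsF.dFinEq_eq, Cfsg.Agent.LsF.decide_eq])); decide +kernel)

theorem pow36 : ∀ i, M i ^ 36 = 1 := by
  have h3 : ∀ A : Matrix (Fin 4) (Fin 4) F9, A ^ 3 = 1 → A ^ 36 = 1 := fun A h => by
    rw [show 36 = 3 * 12 by norm_num, pow_mul, h, one_pow]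
  rintro (a | a)
  · fin_cases a
    · exact h3 _ (cube_ff 0)
    · exact h3 _ (cube_ff 1)
    · exact h3 _ (cube_ff 2)
    · show ff 3 ^ 36 = 1
      rw [show 36 = 6 * 6 by norm_num, pow_mul, six_ff3, one_pow]
    · show ff 4 ^ 36 = 1
      rw [show 36 = 12 * 3 by norm_num, pow_mul, twelve_ff4, one_pow]
  · show gg a ^ 36 = 1
    rw [show 36 = 9 * 4 by norm_num, pow_mul, nine_gg, one_pow]

/-- the elements of `SU_4(3)` -/
theorem exists_el (i : Fin 5 ⊕ Fin 4) : ∃ x : Cfsg.SU 4 F9 3, cm x = M i := exists_of_good h9 (good_M i)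

theorem c_eq_one {c : F9} (h4 : c ^ 4 = 1) {k : ℕ} (hk : k = 3 ∨ k = 9) (h : c ^ k = 1) : c = 1 := by
  rcases hk with rfl | rfl
  · calc c = c ^ 3 * c := by rw [h, one_mul]
      _ = 1 := by rw [← pow_succ, h4]
  · calc c = (c ^ 4) ^ 2 * c := by rw [h4, one_pow, one_mul]
      _ = 1 := by rw [← pow_mul, ← pow_succ, h]

theorem conj_cases {x y : Cfsg.SU 4 F9 3} {i j : Fin 5 ⊕ Fin 4} (hx : cm x = M i) (hy : cm y = M j)
    (h : IsConj (pr x) (pr y)) : i = j := by
  obtain ⟨c, g, hc4, -, hc⟩ := sim_of_pr' h9 (by norm_num) h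
  have hc0 : c ≠ 0 := by
    rintro rfl
    rw [zero_pow (by norm_num)] at hc4
    exact zero_ne_one hc4
  have h1 : cm g * cm g⁻¹ = 1 := by rw [← map_mul, mul_inv_cancel, map_one]
  have h2 : cm g⁻¹ * cm g = 1 := by rw [← map_mul, inv_mul_cancel, map_one]
  rw [hx, hy] at hc
  have h3 : exps [3, 6, 9] (M i) = exps [3, 6, 9] (M j) := by
    rw [hc, exps_smul _ hc0, exps_conj _ h1 h2]
  rw [exps_M, exps_M] at h3
  have hone : ∀ k : ℕ, k = 3 ∨ k = 9 → M i ^ k = 1 → M j ^ k = 1 → c = 1 := by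
    intro k hk h5 h6
    rw [hc, smul_pow, conj_pow3 h1 h2, h5, mul_one, h1] at h6
    have h7 := congrFun (congrFun h6 0) 0
    rw [Matrix.smul_apply, Matrix.one_apply_eq, smul_eq_mul, mul_one] at h7
    exact c_eq_one hc4 hk h7
  rcases lab_cases i j h3 with h4 | ⟨a, b, rfl, rfl⟩ | ⟨a, b, rfl, rfl⟩
  · exact h4
  · have hc1 := hone 3 (Or.inl rfl) (cube_ff a) (cube_ff b)
    rw [hc1, one_smul] at hc
    have h5 : ff (Fin.castLE (by norm_num) b) = cm g * ff (Fin.castLE (by norm_num) a) * cm g⁻¹ := hc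
    have h6 : ff (Fin.castLE (by norm_num) b) - 1 = cm g * (ff (Fin.castLE (by norm_num) a) - 1) * cm g⁻¹ := by
      rw [h5, mul_sub, sub_mul, mul_one, h1]
    have h6' : ff (Fin.castLE (by norm_num) a) - 1 = cm g⁻¹ * (ff (Fin.castLE (by norm_num) b) - 1) * cm g := by
      rw [h6]
      calc ff (Fin.castLE (by norm_num) a) - 1 = (cm g⁻¹ * cm g) * (ff (Fin.castLE (by norm_num) a) - 1) *
            (cm g⁻¹ * cm g) := by rw [h2, one_mul, mul_one]
        _ = _ := by simp only [mul_assoc]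
    have r1 : R1 (ff (Fin.castLE (by norm_num) a) - 1) → R1 (ff (Fin.castLE (by norm_num) b) - 1) := fun h7 => by
      rw [h6]; exact h7.conj _ _
    have r1' : R1 (ff (Fin.castLE (by norm_num) b) - 1) → R1 (ff (Fin.castLE (by norm_num) a) - 1) := fun h7 => by
      rw [h6']; exact h7.conj _ _
    have s1 : (ff (Fin.castLE (by norm_num) a) - 1) * (ff (Fin.castLE (by norm_num) a) - 1) = 0 →
        (ff (Fin.castLE (by norm_num) b) - 1) * (ff (Fin.castLE (by norm_num) b) - 1) = 0 := fun h7 => by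
      rw [h6]
      calc _ = cm g * ((ff (Fin.castLE (by norm_num) a) - 1) * ((cm g⁻¹ * cm g) *
            (ff (Fin.castLE (by norm_num) a) - 1))) * cm g⁻¹ := by simp only [mul_assoc]
        _ = 0 := by rw [h2, one_mul, h7, mul_zero, zero_mul]
    have s1' : (ff (Fin.castLE (by norm_num) b) - 1) * (ff (Fin.castLE (by norm_num) b) - 1) = 0 →
        (ff (Fin.castLE (by norm_num) a) - 1) * (ff (Fin.castLE (by norm_num) a) - 1) = 0 := fun h7 => by
      rw [h6']
      calc _ = cm g⁻¹ * ((ff (Fin.castLE (by norm_num) b) - 1) * ((cm g * cm g⁻¹) *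
            (ff (Fin.castLE (by norm_num) b) - 1))) * cm g := by simp only [mul_assoc]
        _ = 0 := by rw [h1, one_mul, h7, mul_zero, zero_mul]
    clear h6' h6 h5 hc h3 hx hy hone
    fin_cases a <;> fin_cases b
    · rfl
    · exact (nR1_ff1 (r1 R1_ff0)).elim
    · exact (nR1_ff2 (r1 R1_ff0)).elim
    · exact (nR1_ff1 (r1' R1_ff0)).elim
    · rfl
    · exact (sq_ff2 (s1 sq_ff1)).elim
    · exact (nR1_ff2 (r1' R1_ff0)).elim
    · exact (sq_ff2 (s1' sq_ff1)).elim
    · rfl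
  · have hc1 := hone 9 (Or.inr rfl) (nine_gg a) (nine_gg b)
    rw [hc1, one_smul] at hc
    have h5 : D b * X9 * Di b = cm g * (D a * X9 * Di a) * cm g⁻¹ := by
      rw [← gg_eq, ← gg_eq]
      exact hc
    have h6 : (Di b * cm g * D a) * X9 = X9 * (Di b * cm g * D a) := by
      calc (Di b * cm g * D a) * X9 = Di b * (cm g * (D a * X9 * Di a) * cm g⁻¹) * cm g * D a := by
            have : Di b * (cm g * (D a * X9 * Di a) * cm g⁻¹) * cm g * D a =
                Di b * (cm g * (D a * X9 * Di a) * (cm g⁻¹ * cm g)) * D a := by simp only [mul_assoc]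
            rw [this, h2, mul_one]
            have : Di b * (cm g * (D a * X9 * Di a)) * D a = Di b * cm g * D a * X9 * (Di a * D a) := by
              simp only [mul_assoc]
            rw [this, Di_mul, mul_one]
        _ = Di b * (D b * X9 * Di b) * cm g * D a := by rw [← h5]
        _ = (Di b * D b) * X9 * (Di b * cm g * D a) := by simp only [mul_assoc]
        _ = _ := by rw [Di_mul, one_mul]
    have h7 : (Di b * cm g * D a)ᵀ * (Di b * cm g * D a).map (GUOrder.frob h9) = 1 := by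
      have e1 : (D a)ᵀ * (D a).map (GUOrder.frob h9) = 1 := isom_D' a
      have e2 : (Di b)ᵀ * (Di b).map (GUOrder.frob h9) = 1 := isom_Di' b
      have e3 := cm_isom h9 g
      rw [Matrix.map_mul, Matrix.map_mul, Matrix.transpose_mul, Matrix.transpose_mul]
      calc (D a)ᵀ * ((cm g)ᵀ * (Di b)ᵀ) * ((Di b).map (GUOrder.frob h9) * (cm g).map (GUOrder.frob h9) *
            (D a).map (GUOrder.frob h9)) = (D a)ᵀ * ((cm g)ᵀ * (((Di b)ᵀ * (Di b).map (GUOrder.frob h9)) *
            (cm g).map (GUOrder.frob h9))) * (D a).map (GUOrder.frob h9) := by simp only [mul_assoc]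
        _ = 1 := by rw [e2, one_mul, e3, mul_one, e1]
    have h8 := det_one_of_comm h7 h6
    rw [Matrix.det_mul, Matrix.det_mul, det_cm, mul_one, mul_comm] at h8
    rw [det_D a b h8]

theorem big : Big (Cfsg.PSU 4 F9 3) := by
  have hs : IsSimpleGroup (Cfsg.PSU 4 F9 3) := S0283.result h9 _ (by norm_num) (by norm_num)
  have : CharP F9 3 := by
    have : Fact (Nat.Prime 3) := ⟨by norm_num⟩
    refine charP_of_card_eq_prime_pow (f := 2) ?_
    exact h9
  choose x hx using exists_el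
  refine big_of_fam (p := 3) (by norm_num) (isLie (p := 3) h9 le_rfl) (fun i => pr (x i))
    (fun i j h => conj_cases (hx i) (hx j) h) (fun i => ?_) (by simp)
  refine dvd_of_pow (a := 2) (m := 4) (by norm_num) ?_ (pr_pow_ne h9 (by norm_num) fun c hc => ?_)
  · rw [← map_pow]
    have h1 : x i ^ (3 ^ 2 * 4) = 1 := (cm_pow_eq_one_iff _ _).1 (by rw [hx]; exact pow36 i)
    rw [h1, map_one]
  · have h1 := nsc_M i
    rw [← hx, hc] at h1
    have h2 : isSc (c • (1 : Matrix (Fin 4) (Fin 4) F9)) = true := (isSc_iff _).2 ⟨c, rfl⟩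
    rw [h2] at h1
    exact Bool.noConfusion h1

/-- `PSU_4(3)` -/
theorem big_psu43 {F : Type} [Field F] [Fintype F] (hF : Fintype.card F = 3 ^ 2) : Big (Cfsg.PSU 4 F 3) :=
  Big.of_equiv (FieldTransfer.psuCongr 4 3 (FiniteField.ringEquivOfCardEq (hF.trans h9.symm))) big

end Cfsg.Agent.H279.ZerosPSU43
end

-- part: H279/ZerosPSU
section
/-!
# S4895, row `PSU_n(q)`, `n ≥ 4`
-/

set_option autoImplicit false

namespace Cfsg.Agent.H279.ZerosPSU

/-- **S4895, row `PSU_n(q)`, `n ≥ 4`** -/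
theorem big_psu {F : Type} [Field F] [Fintype F] {n q : ℕ} (hF : Fintype.card F = q ^ 2) (hn : 4 ≤ n) :
    Cfsg.Agent.H504.Zeros.Big (Cfsg.PSU n F q) := by
  have h2 : 2 ≤ q := LieClassical.HermBasic.two_le hF
  rcases Nat.eq_or_lt_of_le h2 with rfl | h3
  · exact ZerosPSU2.big_psu2 hF hn
  · rcases Nat.eq_or_lt_of_le hn with rfl | h5
    · rcases Nat.eq_or_lt_of_le h3 with h | h4
      · obtain rfl : q = 3 := h.symm
        exact ZerosPSU43.big_psu43 hF
      · exact big_four hF h4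
    · exact big_five hF h3 h5

end Cfsg.Agent.H279.ZerosPSU
end

-- part: H279/ZerosPSp
section
/-!
# S4895, row `PSp_2m(q)`, `m ≥ 3`
-/

set_option autoImplicit false

namespace Cfsg.Agent.H279.ZerosPSp

open Cfsg Cfsg.Agent.H504.Zeros Cfsg.Agent.H279.ZerosTools Matrix Polynomial
open Cfsg.Agent.H93 Cfsg.Agent.H93.PspCharpoly Cfsg.Agent.H93.PspTwo Cfsg.Agent.LieClassical

universe u

variable {F : Type u} [Field F]

/-- similarity of matrices -/
def Sim {n : Type*} [Fintype n] [DecidableEq n] (A B : Matrix n n F) : Prop :=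
  ∃ u : (Matrix n n F)ˣ, B = u.1 * A * u⁻¹.1

/-- conjugacy in `PSp` -/
theorem sim_of_mk {m : ℕ} (hm : 1 ≤ m) {x y : symplecticGroup (Fin m) F}
    (h : IsConj (x : PSp m F) (y : PSp m F)) : ∃ a : F, a * a = 1 ∧ Sim x.1 (a • y.1) := by
  obtain ⟨g, hg⟩ := isConj_iff.1 h
  obtain ⟨g, rfl⟩ := QuotientGroup.mk_surjective g
  have h2 : (QuotientGroup.mk (g * x * g⁻¹) : PSp m F) = QuotientGroup.mk y := by
    simpa only [_root_.QuotientGroup.mk_mul, _root_.QuotientGroup.mk_inv] using hg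
  rw [eq_comm, QuotientGroup.eq] at h2
  obtain ⟨a, ha⟩ := (SympCenter.mem_center_iff m _).1 h2
  have ha1 : a * a = 1 := SympCenter.sq_eq_one_of_smul_mem hm (ha ▸ (y⁻¹ * (g * x * g⁻¹)).2)
  refine ⟨a, ha1, ?_⟩
  have h3 : IsConj x (y * (y⁻¹ * (g * x * g⁻¹))) := isConj_iff.2 ⟨g, by group⟩
  obtain ⟨u, hu⟩ := exists_unit_of_isConj h3
  refine ⟨u, ?_⟩
  rw [← hu]
  show a • y.1 = y.1 * (y⁻¹ * (g * x * g⁻¹)).1
  rw [ha, Matrix.mul_smul, Matrix.mul_one]

theorem Sim.charpoly {n : Type*} [Fintype n] [DecidableEq n] {A B : Matrix n n F} (h : Sim A B) :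
    A.charpoly = B.charpoly := by
  obtain ⟨u, hu⟩ := h
  rw [hu, Matrix.coe_units_inv]
  exact (Matrix.charpoly_units_conj u A).symm

theorem Sim.rank {n : Type*} [Fintype n] [DecidableEq n] {A B : Matrix n n F} (h : Sim A B) :
    (A - 1).rank = (B - 1).rank := by
  obtain ⟨u, hu⟩ := h
  have h1 : B - 1 = u.1 * (A - 1) * u⁻¹.1 := by
    rw [hu, mul_sub, sub_mul, mul_one, Units.mul_inv]
  rw [h1, Matrix.rank_mul_eq_left_of_isUnit_det, Matrix.rank_mul_eq_right_of_isUnit_det]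
  · exact (Matrix.isUnit_iff_isUnit_det _).1 u.isUnit
  · exact (Matrix.isUnit_iff_isUnit_det _).1 u⁻¹.isUnit

/-- a matrix of `Sp` with a Jordan block of size two is `p`-singular in `PSp` -/
theorem dvd_order {p : ℕ} [CharP F p] {m : ℕ} {x : symplecticGroup (Fin m) F}
    {v w : Fin m ⊕ Fin m → F} (hv : x.1 *ᵥ v = v + w) (hw : x.1 *ᵥ w = w) (hw0 : w ≠ 0) :
    p ∣ orderOf (x : PSp m F) := by
  have h1 : ((x ^ orderOf (x : PSp m F) : symplecticGroup (Fin m) F) : PSp m F) = 1 := by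
    rw [QuotientGroup.mk_pow, pow_orderOf_eq_one]
  rw [QuotientGroup.eq_one_iff] at h1
  obtain ⟨a, ha⟩ := (SympCenter.mem_center_iff m _).1 h1
  exact dvd_of_pow_eq_smul (p := p) hv hw hw0 (k := orderOf (x : PSp m F)) ha

/-- `mS S` has a Jordan block if `2` is an eigenvalue of `S` -/
theorem mS_mulVec {m : ℕ} {S : Matrix (Fin m) (Fin m) F} {w : Fin m → F} (h : S *ᵥ w = (2 : F) • w) :
    mS S *ᵥ (Sum.elim (0 : Fin m → F) w) = Sum.elim (0 : Fin m → F) w + Sum.elim (-w) w ∧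
      mS S *ᵥ (Sum.elim (-w) w) = Sum.elim (-w) w := by
  have h2 : (2 : F) • w = w + w := two_smul F w
  constructor
  · rw [mS, fromBlocks_mulVec]
    ext (i | i)
    · simp [Matrix.neg_mulVec]
    · simp [h, h2]
  · rw [mS, fromBlocks_mulVec]
    ext (i | i)
    · simp [Matrix.neg_mulVec]
    · simp [h, h2]

/-- extension of a vector by zeros -/
def xv {d : ℕ} (k : ℕ) (w : Fin d → F) : Fin (d + k) → F :=
  fun i => Sum.elim w (0 : Fin k → F) (finSumFinEquiv.symm i)

theorem ext_mulVec {d : ℕ} (k : ℕ) {S : Matrix (Fin d) (Fin d) F} {w : Fin d → F} {a : F}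
    (h : S *ᵥ w = a • w) : PspCharpoly.ext k S *ᵥ xv k w = a • xv k w := by
  have h1 : fromBlocks S 0 0 (0 : Matrix (Fin k) (Fin k) F) *ᵥ (Sum.elim w (0 : Fin k → F)) =
      a • (Sum.elim w (0 : Fin k → F)) := by
    rw [fromBlocks_mulVec]
    ext (i | i)
    · simp [h]
    · simp
  funext i
  have h2 := congrFun h1 (finSumFinEquiv.symm i)
  have h3 : (PspCharpoly.ext k S *ᵥ xv k w) i = (fromBlocks S 0 0 (0 : Matrix (Fin k) (Fin k) F) *ᵥ
      (Sum.elim w (0 : Fin k → F))) (finSumFinEquiv.symm i) := by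
    have h5 : xv k w ∘ (finSumFinEquiv.symm : Fin (d + k) ≃ Fin d ⊕ Fin k).symm =
        Sum.elim w (0 : Fin k → F) := by
      funext j
      simp [xv]
    rw [PspCharpoly.ext, Matrix.reindex_apply, Matrix.submatrix_mulVec_equiv, h5]
    rfl
  rw [h3, h2]
  rfl

/-- `el k S` is `p`-singular if `2` is an eigenvalue of `S` -/
theorem dvd_el {p : ℕ} [CharP F p] {d : ℕ} (k : ℕ) {S : Matrix (Fin d) (Fin d) F} (hS : Sᵀ = S)
    {w : Fin d → F} (hw : w ≠ 0) (h : S *ᵥ w = (2 : F) • w) :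
    p ∣ orderOf ((el k S hS : symplecticGroup (Fin (d + k)) F) : PSp (d + k) F) := by
  obtain ⟨h1, h2⟩ := mS_mulVec (ext_mulVec k h)
  refine dvd_order (x := el k S hS) h1 h2 ?_
  intro h3
  apply hw
  funext i
  have h4 := congrFun h3 (Sum.inr (Fin.castAdd k i))
  simpa [xv] using h4

/-- the symmetric matrix `(2) ⊕ [b, v; v, c]` -/
theorem s3_mulVec (b c v : F) : (s3 2 b c 0 v 0) *ᵥ (![1, 0, 0] : Fin 3 → F) =
    (2 : F) • (![1, 0, 0] : Fin 3 → F) := by
  ext i
  (revert i; simp only [s3, Matrix.mulVec, dotProduct, Fin.sum_univ_three, _root_.Fin.forall_fin_succ, _root_.Matrix.of_apply, _root_.Matrix.cons_val', _root_.Matrix.cons_val_fin_one, Fin.isValue, _root_.Matrix.cons_val_zero, _root_.mul_one, _root_.Matrix.cons_val_one, _root_.MulZeroClass.mul_zero, _root_.add_zero, _root_.Matrix.cons_val, _root_.Nat.succ_eq_add_one, Nat.reduceAdd, _root_.Pi.smul_apply, _root_.smul_eq_mul, _root_.Matrix.cons_val_succ, _root_.implies_true, _root_.and_self])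

theorem e0_ne : (![1, 0, 0] : Fin 3 → F) ≠ 0 := fun h => one_ne_zero (congrFun h 0)

section Fam

variable [Fintype F]

/-- `q²` elements of `Sp_2m(q)` with a Jordan block, `m ≥ 3`, with different characteristic polynomials -/
theorem exists_fam (k : ℕ) : ∃ f : F × F → symplecticGroup (Fin (3 + k)) F,
    (∀ p, (f p).1.charpoly = ((X ^ 2 + 1) ^ 3 - C (2 + p.1) * X * (X ^ 2 + 1) ^ 2
      + C (2 * p.1 + p.2) * X ^ 2 * (X ^ 2 + 1) - C (2 * p.2) * X ^ 3) * (X ^ 2 + 1) ^ k) ∧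
    (∀ (p : ℕ) [CharP F p] (i : F × F), p ∣ orderOf (f i : PSp (3 + k) F)) ∧
    ∀ i, ∃ S, (f i).1 = mS S := by
  choose a b d h1 h2 using exists_s2 (F := F)
  refine ⟨fun p => el k (s3 2 (a p.1 p.2) (d p.1 p.2) 0 (b p.1 p.2) 0) (s3_transpose _ _ _ _ _ _),
    fun p => ?_, fun p _ i => dvd_el k _ e0_ne (s3_mulVec _ _ _), fun i => ⟨_, rfl⟩⟩
  rw [charpoly_el, det_pS_s3]
  have e1 : (2 : F) + a p.1 p.2 + d p.1 p.2 = 2 + p.1 := by rw [add_assoc, h1]
  have e2 : 2 * a p.1 p.2 + 2 * d p.1 p.2 + a p.1 p.2 * d p.1 p.2 - 0 ^ 2 - b p.1 p.2 ^ 2 - 0 ^ 2 =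
      2 * p.1 + p.2 := by
    have := h1 p.1 p.2
    have := h2 p.1 p.2
    linear_combination 2 * h1 p.1 p.2 + h2 p.1 p.2
  have e3 : 2 * a p.1 p.2 * d p.1 p.2 + 2 * 0 * b p.1 p.2 * 0 - 2 * b p.1 p.2 ^ 2 -
      a p.1 p.2 * 0 ^ 2 - d p.1 p.2 * 0 ^ 2 = 2 * p.2 := by
    linear_combination 2 * h2 p.1 p.2
  rw [e1, e2, e3]

theorem fam_inj {t δ t' δ' : F}
    (h : ((X ^ 2 + 1) ^ 3 - C (2 + t) * X * (X ^ 2 + 1) ^ 2
      + C (2 * t + δ) * X ^ 2 * (X ^ 2 + 1) - C (2 * δ) * X ^ 3 : F[X]) =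
      (X ^ 2 + 1) ^ 3 - C (2 + t') * X * (X ^ 2 + 1) ^ 2
      + C (2 * t' + δ') * X ^ 2 * (X ^ 2 + 1) - C (2 * δ') * X ^ 3) : t = t' ∧ δ = δ' := by
  obtain ⟨h1, h2, -⟩ := poly3_inj h
  have h3 := add_left_cancel h1
  rw [h3] at h2
  exact ⟨h3, add_left_cancel h2⟩

end Fam

section Large

variable {F : Type} [Field F] [Fintype F]

theorem isLie {p m : ℕ} [CharP F p] (hm : 3 ≤ m) : IsLieTypeChar p (PSp m F) :=
  Or.inr (Or.inl ⟨F, inferInstance, inferInstance, inferInstance, m, by omega, fun h => by omega, ⟨MulEquiv.refl _⟩⟩)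

theorem big_four {p : ℕ} [CharP F p] (hp : p.Prime) (k : ℕ) (hq : 4 ≤ Fintype.card F) :
    Big (PSp (3 + k) F) := by
  have : Finite (symplecticGroup (Fin (3 + k)) F) := Subtype.finite
  have hs : IsSimpleGroup (PSp (3 + k) F) := S0270.result (3 + k) (by omega) (fun h => by omega)
  obtain ⟨f, hf, hp', -⟩ := exists_fam (F := F) k
  obtain ⟨s, h1, h2, h3⟩ := exists_nine (Subgroup.center (symplecticGroup (Fin (3 + k)) F)) f
    (fun i j hij => by
      have h3 := charpoly_eq_of_isConj hij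
      rw [hf, hf] at h3
      obtain ⟨h4, h5⟩ := fam_inj (mul_right_cancel₀ (pow_ne_zero _ x2_ne) h3)
      exact Prod.ext h4 h5)
    (by
      rw [SympCenter.card_center (by omega), Nat.card_prod, Nat.card_eq_fintype_card]
      rcases Nat.eq_or_lt_of_le hq with h2 | h2
      · rw [← h2]
        norm_num
      · have h3 : Nat.gcd 2 (Fintype.card F - 1) ≤ 2 := Nat.gcd_le_left _ (by norm_num)
        nlinarith)
  refine big_of_lie hp (isLie (p := p) (by omega)) s h1 (fun g hg => ?_) h2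
  obtain ⟨i, rfl⟩ := h3 g hg
  exact hp' p i

end Large

/-! ### The field with three elements -/

/-- the rank of `a mS S - 1` is at least `m` -/
theorem le_rank {m : ℕ} (S : Matrix (Fin m) (Fin m) F) {a : F} (ha : a ≠ 0) :
    m ≤ (a • mS S - 1).rank := by
  let g : (Fin m → F) →ₗ[F] (Fin m ⊕ Fin m → F) :=
    { toFun := fun x => (a • mS S - 1) *ᵥ Sum.elim x (0 : Fin m → F)
      map_add' := fun x y => by
        rw [← Matrix.mulVec_add]
        congr 1
        ext (i | i) <;> simp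
      map_smul' := fun c x => by
        rw [RingHom.id_apply, ← Matrix.mulVec_smul]
        congr 1
        ext (i | i) <;> simp }
  have hg : Function.Injective g := by
    rw [injective_iff_map_eq_zero]
    intro x hx
    funext i
    have h2 := congrFun hx (Sum.inr i)
    have h3 : g x (Sum.inr i) = a * x i := by
      show ((a • mS S - 1) *ᵥ Sum.elim x (0 : Fin m → F)) (Sum.inr i) = a * x i
      rw [Matrix.sub_mulVec, Matrix.smul_mulVec, Matrix.one_mulVec, mS, fromBlocks_mulVec]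
      simp
    rw [h3] at h2
    exact (mul_eq_zero.1 h2).resolve_left ha
  have hr : LinearMap.range g ≤ LinearMap.range (a • mS S - 1).mulVecLin := by
    rintro _ ⟨x, rfl⟩
    exact ⟨Sum.elim x (0 : Fin m → F), rfl⟩
  have h2 := Submodule.finrank_mono hr
  rw [LinearMap.finrank_range_of_inj hg, Module.finrank_fin_fun] at h2
  exact h2

/-- the transvection is `p`-singular -/
theorem dvd_tt {p : ℕ} [CharP F p] {r n : ℕ} (hr : 0 < r) (hn : 0 < n) :
    p ∣ orderOf ((tt r n : symplecticGroup (Fin n) F) : PSp n F) := by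
  let e : Fin n → F := Pi.single ⟨0, hn⟩ 1
  have he : dd (F := F) r n *ᵥ e = e := by
    rw [dd]
    funext i
    rw [Matrix.mulVec_diagonal]
    by_cases hi : i = ⟨0, hn⟩
    · subst hi
      simp [hr]
    · simp [e, hi]
  refine dvd_order (x := tt r n) (v := Sum.elim (0 : Fin n → F) e) (w := Sum.elim e (0 : Fin n → F)) ?_ ?_ ?_
  · show fromBlocks 1 (dd r n) 0 1 *ᵥ _ = _
    rw [fromBlocks_mulVec]
    ext (i | i)
    · simp [he]
    · simp
  · show fromBlocks 1 (dd r n) 0 1 *ᵥ _ = _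
    rw [fromBlocks_mulVec]
    ext (i | i)
    · simp
    · simp
  · intro h
    have h1 := congrFun h (Sum.inl ⟨0, hn⟩)
    simp [e] at h1

theorem even_card {m : ℕ} (A : Matrix (Fin m ⊕ Fin m) (Fin m ⊕ Fin m) F) :
    ((-1 : F) • A).charpoly = A.charpoly.comp (-X) := by
  rw [charpoly_smul A (neg_ne_zero.2 one_ne_zero), Fintype.card_sum, Fintype.card_fin, ← two_mul,
    pow_mul, neg_one_sq, one_pow, C_1, one_mul, inv_neg, inv_one, C_neg, C_1, neg_one_mul]

/-- the charpoly of `-x` -/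
theorem comp_neg (t δ : F) (k : ℕ) : (((X ^ 2 + 1) ^ 3 - C (2 + t) * X * (X ^ 2 + 1) ^ 2
      + C (2 * t + δ) * X ^ 2 * (X ^ 2 + 1) - C (2 * δ) * X ^ 3) * (X ^ 2 + 1) ^ k : F[X]).comp (-X) =
    ((X ^ 2 + 1) ^ 3 - C (-(2 + t)) * X * (X ^ 2 + 1) ^ 2
      + C (2 * t + δ) * X ^ 2 * (X ^ 2 + 1) - C (-(2 * δ)) * X ^ 3) * (X ^ 2 + 1) ^ k := by
  simp only [mul_comp, add_comp, sub_comp, pow_comp, X_comp, C_comp, one_comp, C_neg]
  ring

section Three

variable {F : Type} [Field F] [Fintype F]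

theorem zmod_three : ∀ y : ZMod 3, y = 0 ∨ y = 1 ∨ y = 2 := by decide

theorem univ_three (hq : Fintype.card F = 3) (x : F) : x = 0 ∨ x = 1 ∨ x = 2 := by
  classical
  have : Fact (Nat.Prime 3) := ⟨by norm_num⟩
  let e := ZMod.ringEquivOfPrime F (p := 3) (by norm_num) hq
  have h := zmod_three
  rcases h (e.symm x) with h | h | h
  · left
    rw [← e.apply_symm_apply x, h, map_zero]
  · right; left
    rw [← e.apply_symm_apply x, h, map_one]
  · right; right
    rw [← e.apply_symm_apply x, h, map_ofNat]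

theorem big_three (k : ℕ) (hq : Fintype.card F = 3) : Big (PSp (3 + k) F) := by
  classical
  have : Finite (symplecticGroup (Fin (3 + k)) F) := Subtype.finite
  have : CharP F 3 := by
    have : Fact (Nat.Prime 3) := ⟨by norm_num⟩
    exact charP_of_card_eq_prime hq
  have h3 : (3 : F) = 0 := by
    have := CharP.cast_eq_zero F 3
    exact_mod_cast this
  have hs : IsSimpleGroup (PSp (3 + k) F) := S0270.result (3 + k) (by omega) (fun h => by omega)
  have h20 : (2 : F) ≠ 0 := fun h => one_ne_zero (α := F) (by linear_combination h3 - h)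
  obtain ⟨f, hf, hp', hf'⟩ := exists_fam (F := F) k
  have hnone : ∀ i (a' : F), a' * a' = 1 → ¬ Sim (f i).1 (a' • (tt (F := F) 1 (3 + k)).1) := by
    intro i a' ha' h
    have ha0 : a' ≠ 0 := left_ne_zero_of_mul_eq_one ha'
    obtain ⟨u, hu⟩ := h
    have h3 : Sim (a' • (f i).1) (tt (F := F) 1 (3 + k)).1 := ⟨u, by
      rw [Matrix.mul_smul, Matrix.smul_mul, ← hu, smul_smul, ha', one_smul]⟩
    have h4 := h3.rank
    rw [rank_tt (by omega)] at h4
    obtain ⟨S, hS⟩ := hf' i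
    rw [hS] at h4
    have h5 := le_rank S ha0
    omega
  have hsome : ∀ i j : F × F, i ≠ (2, 1) → j ≠ (2, 1) → ∀ a' : F, a' * a' = 1 →
      Sim (f i).1 (a' • (f j).1) → i = j := by
    intro i j hi hj a' ha' h
    have h5 := h.charpoly
    rcases mul_self_eq_one_iff.1 ha' with rfl | rfl
    · rw [one_smul, hf, hf] at h5
      obtain ⟨h6, h7⟩ := fam_inj (mul_right_cancel₀ (pow_ne_zero _ x2_ne) h5)
      exact Prod.ext h6 h7
    · rw [even_card, hf, hf, comp_neg] at h5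
      obtain ⟨h6, h7, h8⟩ := poly3_inj (mul_right_cancel₀ (pow_ne_zero _ x2_ne) h5)
      have h9 : j.2 = -i.2 := mul_left_cancel₀ h20 (by linear_combination h8)
      have h10 : i.1 = 1 + i.2 := by
        linear_combination 2 * h6 + h7 - 2 * h9 - (i.1 - j.2 + 3) * h3
      have h11 : j.1 = 1 - i.2 := by linear_combination h6 - h10 - 2 * h3
      rcases univ_three hq i.2 with h12 | h12 | h12
      · exact Prod.ext (by rw [h10, h11, h12]; ring) (by rw [h9, h12, neg_zero])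
      · exact (hi (Prod.ext (by rw [h10, h12]; norm_num) h12)).elim
      · refine (hj (Prod.ext ?_ ?_)).elim
        · show j.1 = 2
          rw [h11, h12]
          linear_combination -h3
        · show j.2 = 1
          rw [h9, h12]
          linear_combination -h3
  refine big_of_fam (p := 3) (by norm_num) (isLie (p := 3) (by omega)) (ι := Option {p : F × F // p ≠ (2, 1)})
    (fun i => match i with
      | none => ((tt 1 (3 + k) : symplecticGroup (Fin (3 + k)) F) : PSp (3 + k) F)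
      | some p => ((f p.1 : symplecticGroup (Fin (3 + k)) F) : PSp (3 + k) F)) ?_ ?_ ?_
  · rintro (_ | i) (_ | j) hij
    · rfl
    · obtain ⟨a', ha', h⟩ := sim_of_mk (by omega) hij.symm
      exact (hnone _ _ ha' h).elim
    · obtain ⟨a', ha', h⟩ := sim_of_mk (by omega) hij
      exact (hnone _ _ ha' h).elim
    · obtain ⟨a', ha', h⟩ := sim_of_mk (by omega) hij
      exact congrArg some (Subtype.ext (hsome _ _ i.2 j.2 _ ha' h))
  · rintro (_ | i)
    · exact dvd_tt (by norm_num) (by omega)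
    · exact hp' 3 i
  · have h13 : Fintype.card {p : F × F // p ≠ (2, 1)} = 8 := by
      rw [Fintype.card_subtype_compl]
      simp [hq]
    rw [Fintype.card_option, h13]

end Three

/-! ### The field with two elements -/

/-- `x + x⁻¹` for `x = mS S` -/
def dS {m : ℕ} (S : Matrix (Fin m) (Fin m) F) : Matrix (Fin m ⊕ Fin m) (Fin m ⊕ Fin m) F :=
  fromBlocks S 0 0 S

theorem dS_mul {m : ℕ} (S T : Matrix (Fin m) (Fin m) F) : dS S * dS T = dS (S * T) := by
  rw [dS, dS, fromBlocks_multiply, dS]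
  simp

theorem dS_inj {m : ℕ} {S T : Matrix (Fin m) (Fin m) F} (h : dS S = dS T) : S = T :=
  (fromBlocks_inj.1 h).1

theorem dS_zero {m : ℕ} : dS (0 : Matrix (Fin m) (Fin m) F) = 0 := fromBlocks_zero

theorem mS_sq {m : ℕ} (S : Matrix (Fin m) (Fin m) F) : mS S * mS S + 1 = mS S * dS S := by
  rw [mS, dS, fromBlocks_multiply, fromBlocks_multiply, ← fromBlocks_one, fromBlocks_add]
  congr 1 <;> simp

theorem ext_mul {d : ℕ} (k : ℕ) (S T : Matrix (Fin d) (Fin d) F) :
    PspCharpoly.ext k S * PspCharpoly.ext k T = PspCharpoly.ext k (S * T) := by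
  rw [PspCharpoly.ext, PspCharpoly.ext, PspCharpoly.ext, Matrix.reindex_apply, Matrix.reindex_apply,
    Matrix.submatrix_mul_equiv, fromBlocks_multiply, Matrix.reindex_apply]
  simp only [_root_.Matrix.mul_zero, _root_.add_zero, _root_.Matrix.zero_mul, _root_.MulZeroClass.mul_zero]

theorem ext_inj {d : ℕ} (k : ℕ) {S T : Matrix (Fin d) (Fin d) F}
    (h : PspCharpoly.ext k S = PspCharpoly.ext k T) : S = T :=
  (fromBlocks_inj.1 ((Matrix.reindex finSumFinEquiv finSumFinEquiv).injective h)).1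

theorem ext_zero {d : ℕ} (k : ℕ) : PspCharpoly.ext k (0 : Matrix (Fin d) (Fin d) F) = 0 := by
  rw [PspCharpoly.ext, fromBlocks_zero, Matrix.reindex_apply, Matrix.submatrix_zero]
  rfl

theorem sim_D {m : ℕ} {x y : symplecticGroup (Fin m) F} {D D' : Matrix (Fin m ⊕ Fin m) (Fin m ⊕ Fin m) F}
    (h : Sim x.1 y.1) (hx : x.1 * x.1 + 1 = x.1 * D) (hy : y.1 * y.1 + 1 = y.1 * D') :
    ∃ P Q : Matrix (Fin m ⊕ Fin m) (Fin m ⊕ Fin m) F, Q * P = 1 ∧ D' = P * D * Q ∧ P * Q = 1 := by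
  obtain ⟨u, hu⟩ := h
  have hP : u.1 * u⁻¹.1 = 1 := Units.mul_inv u
  have hQ : u⁻¹.1 * u.1 = 1 := Units.inv_mul u
  refine ⟨u.1, u⁻¹.1, hQ, ?_, hP⟩
  have h1 : (y⁻¹ : symplecticGroup (Fin m) F).1 * y.1 = 1 := by
    rw [← Submonoid.coe_mul, inv_mul_cancel, Submonoid.coe_one]
  have h2 : y.1 * D' = y.1 * (u.1 * D * u⁻¹.1) := by
    rw [← hy]
    have h3 : y.1 * (u.1 * D * u⁻¹.1) = u.1 * (x.1 * D) * u⁻¹.1 := by
      calc y.1 * (u.1 * D * u⁻¹.1) = u.1 * x.1 * (u⁻¹.1 * u.1) * D * u⁻¹.1 := by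
            rw [hu]; noncomm_ring
        _ = _ := by rw [hQ]; noncomm_ring
    have h4 : y.1 * y.1 = u.1 * (x.1 * x.1) * u⁻¹.1 := by
      calc y.1 * y.1 = u.1 * x.1 * (u⁻¹.1 * u.1) * x.1 * u⁻¹.1 := by
            rw [hu]; noncomm_ring
        _ = _ := by rw [hQ]; noncomm_ring
    rw [h3, ← hx, mul_add, add_mul, mul_one, hP, h4]
  calc D' = ((y⁻¹ : symplecticGroup (Fin m) F).1 * y.1) * D' := by rw [h1, one_mul]
    _ = ((y⁻¹ : symplecticGroup (Fin m) F).1 * y.1) * (u.1 * D * u⁻¹.1) := by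
        rw [mul_assoc, h2, ← mul_assoc]
    _ = _ := by rw [h1, one_mul]

theorem sim_dS {d k : ℕ} {S T : Matrix (Fin d) (Fin d) F} {hS : Sᵀ = S} {hT : Tᵀ = T}
    (h : Sim (el k S hS).1 (el k T hT).1) : (S * S = 0 → T * T = 0) ∧ (S * S = S → T * T = T) := by
  obtain ⟨P, Q, hQP, hD, hPQ⟩ := sim_D h (mS_sq _) (mS_sq _)
  have h1 : dS (PspCharpoly.ext k (T * T)) = P * dS (PspCharpoly.ext k (S * S)) * Q := by
    rw [← ext_mul, ← ext_mul, ← dS_mul, ← dS_mul, hD]
    calc P * dS (PspCharpoly.ext k S) * Q * (P * dS (PspCharpoly.ext k S) * Q) =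
        P * dS (PspCharpoly.ext k S) * (Q * P) * dS (PspCharpoly.ext k S) * Q := by noncomm_ring
      _ = _ := by rw [hQP]; noncomm_ring
  constructor
  · intro h2
    rw [h2, ext_zero, dS_zero, mul_zero, zero_mul, ← dS_zero, ← ext_zero] at h1
    exact ext_inj k (dS_inj h1)
  · intro h2
    rw [h2, ← hD] at h1
    exact ext_inj k (dS_inj h1)

/-- six symmetric matrices -/
def six (F : Type*) [Field F] : Fin 6 → Matrix (Fin 3) (Fin 3) F :=
  ![s3 1 1 0 1 0 0, s3 0 0 0 1 1 0, s3 1 0 0 0 0 0, s3 1 1 1 0 1 0, s3 1 1 0 0 0 0, s3 0 1 0 0 1 0]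

theorem six_transpose (i : Fin 6) : (six F i)ᵀ = six F i := by
  fin_cases i <;> exact s3_transpose _ _ _ _ _ _

/-- their invariants -/
def tri (F : Type*) [Field F] : Fin 6 → F × F × F :=
  ![(0, 0, 0), (0, 0, 0), (1, 0, 0), (1, 0, 0), (0, 1, 0), (1, 1, 0)]

theorem det_six [CharP F 2] (i : Fin 6) : (pS (six F i)).det = (X ^ 2 + 1) ^ 3 - C (tri F i).1 * X * (X ^ 2 + 1) ^ 2
      + C (tri F i).2.1 * X ^ 2 * (X ^ 2 + 1) - C (tri F i).2.2 * X ^ 3 := by
  have h2 : (2 : F) = 0 := CharTwo.two_eq_zero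
  have key : ∀ (a b c u v w e1 e2 e3 : F), a + b + c = e1 → a * b + a * c + b * c - u ^ 2 - v ^ 2 - w ^ 2 = e2 →
      a * b * c + 2 * u * v * w - a * v ^ 2 - b * w ^ 2 - c * u ^ 2 = e3 →
      (pS (s3 a b c u v w)).det = (X ^ 2 + 1) ^ 3 - C e1 * X * (X ^ 2 + 1) ^ 2
      + C e2 * X ^ 2 * (X ^ 2 + 1) - C e3 * X ^ 3 := by
    intro a b c u v w e1 e2 e3 h1 h2 h3
    rw [det_pS_s3, h1, h2, h3]
  fin_cases i
  · exact key _ _ _ _ _ _ 0 0 0 (by linear_combination h2) (by ring) (by ring)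
  · exact key _ _ _ _ _ _ 0 0 0 (by ring) (by linear_combination -h2) (by ring)
  · exact key _ _ _ _ _ _ 1 0 0 (by ring) (by ring) (by ring)
  · exact key _ _ _ _ _ _ 1 0 0 (by linear_combination h2) (by linear_combination h2) (by ring)
  · exact key _ _ _ _ _ _ 0 1 0 (by linear_combination h2) (by ring) (by ring)
  · exact key _ _ _ _ _ _ 1 1 0 (by ring) (by linear_combination -h2) (by ring)

/-- kernel vectors -/
theorem six_sing [CharP F 2] (i : Fin 6) : ∃ w : Fin 3 → F, w ≠ 0 ∧ six F i *ᵥ w = (2 : F) • w := by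
  have h2 : (2 : F) = 0 := CharTwo.two_eq_zero
  have h11 : (1 : F) + 1 = 0 := CharTwo.add_self_eq_zero 1
  have h1 : ∀ w : Fin 3 → F, w 0 = 1 ∨ w 1 = 1 ∨ w 2 = 1 → w ≠ 0 := by
    rintro w (h | h | h) rfl <;> simp at h
  rw [h2]
  fin_cases i
  · refine ⟨![0, 0, 1], h1 _ (by simp), ?_⟩
    ext j
    (revert j; simp only [six, s3, Matrix.mulVec, dotProduct, Fin.sum_univ_three, _root_.Fin.forall_fin_succ, _root_.Fin.zero_eta, Fin.isValue, _root_.Matrix.cons_val_zero, _root_.Matrix.of_apply, _root_.Matrix.cons_val', _root_.Matrix.cons_val_fin_one, _root_.MulZeroClass.mul_zero, _root_.Matrix.cons_val_one, _root_.add_zero, _root_.Matrix.cons_val, _root_.mul_one, _root_.zero_add, _root_.Pi.smul_apply, _root_.smul_eq_mul, _root_.MulZeroClass.zero_mul, _root_.Matrix.cons_val_succ, _root_.implies_true, _root_.and_self])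
  · refine ⟨![1, 0, 1], h1 _ (by simp), ?_⟩
    ext j
    (revert j; simp only [six, s3, Matrix.mulVec, dotProduct, Fin.sum_univ_three, h11, _root_.Fin.forall_fin_succ, _root_.Fin.mk_one, Fin.isValue, _root_.Matrix.cons_val_one, _root_.Matrix.cons_val_zero, _root_.Matrix.of_apply, _root_.Matrix.cons_val', _root_.Matrix.cons_val_fin_one, _root_.mul_one, _root_.MulZeroClass.mul_zero, _root_.add_zero, _root_.Matrix.cons_val, _root_.Pi.smul_apply, _root_.smul_eq_mul, _root_.MulZeroClass.zero_mul, _root_.Matrix.cons_val_succ, _root_.implies_true, _root_.and_self])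
  · refine ⟨![0, 0, 1], h1 _ (by simp), ?_⟩
    ext j
    (revert j; simp only [six, s3, Matrix.mulVec, dotProduct, Fin.sum_univ_three, _root_.Fin.forall_fin_succ, Fin.reduceFinMk, _root_.Matrix.cons_val, _root_.Matrix.of_apply, _root_.Matrix.cons_val', _root_.Matrix.cons_val_fin_one, Fin.isValue, _root_.Matrix.cons_val_zero, _root_.MulZeroClass.mul_zero, _root_.Matrix.cons_val_one, _root_.add_zero, _root_.mul_one, _root_.zero_add, _root_.Pi.smul_apply, _root_.smul_eq_mul, _root_.MulZeroClass.zero_mul, _root_.Matrix.cons_val_succ, _root_.implies_true, _root_.and_self])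
  · refine ⟨![0, 1, 1], h1 _ (by simp), ?_⟩
    ext j
    (revert j; simp only [six, s3, Matrix.mulVec, dotProduct, Fin.sum_univ_three, h11, _root_.Fin.forall_fin_succ, Fin.reduceFinMk, _root_.Matrix.cons_val, _root_.Matrix.of_apply, _root_.Matrix.cons_val', _root_.Matrix.cons_val_fin_one, Fin.isValue, _root_.Matrix.cons_val_zero, _root_.MulZeroClass.mul_zero, _root_.Matrix.cons_val_one, _root_.mul_one, _root_.zero_add, _root_.Pi.smul_apply, _root_.smul_eq_mul, _root_.MulZeroClass.zero_mul, _root_.add_zero, _root_.Matrix.cons_val_succ, _root_.implies_true, _root_.and_self])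
  · refine ⟨![0, 0, 1], h1 _ (by simp), ?_⟩
    ext j
    (revert j; simp only [six, s3, Matrix.mulVec, dotProduct, Fin.sum_univ_three, _root_.Fin.forall_fin_succ, Fin.reduceFinMk, _root_.Matrix.cons_val, _root_.Matrix.of_apply, _root_.Matrix.cons_val', _root_.Matrix.cons_val_fin_one, Fin.isValue, _root_.Matrix.cons_val_zero, _root_.MulZeroClass.mul_zero, _root_.Matrix.cons_val_one, _root_.add_zero, _root_.mul_one, _root_.zero_add, _root_.Pi.smul_apply, _root_.smul_eq_mul, _root_.MulZeroClass.zero_mul, _root_.Matrix.cons_val_succ, _root_.implies_true, _root_.and_self])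
  · refine ⟨![1, 0, 0], h1 _ (by simp), ?_⟩
    ext j
    (revert j; simp only [six, s3, Matrix.mulVec, dotProduct, Fin.sum_univ_three, _root_.Fin.forall_fin_succ, Fin.reduceFinMk, _root_.Matrix.cons_val, _root_.Matrix.of_apply, _root_.Matrix.cons_val', _root_.Matrix.cons_val_fin_one, Fin.isValue, _root_.Matrix.cons_val_zero, _root_.mul_one, _root_.Matrix.cons_val_one, _root_.MulZeroClass.mul_zero, _root_.add_zero, _root_.Pi.smul_apply, _root_.smul_eq_mul, _root_.MulZeroClass.zero_mul, _root_.Matrix.cons_val_succ, _root_.implies_true, _root_.and_self])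

theorem six_ne (i : Fin 6) : six F i ≠ 0 := by
  intro h
  fin_cases i
  · have := congrFun (congrFun h 0) 0
    simp [six, s3] at this
  · have := congrFun (congrFun h 0) 1
    simp [six, s3] at this
  · have := congrFun (congrFun h 0) 0
    simp [six, s3] at this
  · have := congrFun (congrFun h 0) 0
    simp [six, s3] at this
  · have := congrFun (congrFun h 0) 0
    simp [six, s3] at this
  · have := congrFun (congrFun h 1) 1
    simp [six, s3] at this

theorem six_sq0 [CharP F 2] : six F 0 * six F 0 = 0 := by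
  have h11 : (1 : F) + 1 = 0 := CharTwo.add_self_eq_zero 1
  ext i j
  (revert i j; simp only [six, s3, Matrix.mul_apply, Fin.sum_univ_three, h11, _root_.Fin.forall_fin_succ, Fin.isValue, _root_.Matrix.cons_val_zero, _root_.Matrix.of_apply, _root_.Matrix.cons_val', _root_.Matrix.cons_val_fin_one, _root_.Matrix.cons_val_one, _root_.Matrix.cons_val, _root_.Matrix.zero_apply, _root_.mul_one, _root_.MulZeroClass.mul_zero, _root_.add_zero, _root_.Matrix.cons_val_succ, _root_.implies_true, _root_.and_true, _root_.and_self])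

theorem six_sq1 : six F 1 * six F 1 ≠ 0 := by
  intro h
  have := congrFun (congrFun h 0) 0
  simp [six, s3, Matrix.mul_apply, Fin.sum_univ_three] at this

theorem six_sq2 : six F 2 * six F 2 = six F 2 := by
  ext i j
  (revert i j; simp only [six, s3, Matrix.mul_apply, Fin.sum_univ_three, _root_.Fin.forall_fin_succ, Fin.isValue, _root_.Matrix.cons_val, _root_.Matrix.of_apply, _root_.Matrix.cons_val', _root_.Matrix.cons_val_fin_one, _root_.Matrix.cons_val_zero, _root_.Matrix.cons_val_one, _root_.mul_one, _root_.MulZeroClass.mul_zero, _root_.add_zero, _root_.Matrix.cons_val_succ, _root_.forall_const, _root_.and_self, _root_.true_and, _root_.implies_true])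

theorem six_sq3 [CharP F 2] : six F 3 * six F 3 ≠ six F 3 := by
  have h11 : (1 : F) + 1 = 0 := CharTwo.add_self_eq_zero 1
  intro h
  have := congrFun (congrFun h 1) 1
  simp [six, s3, Matrix.mul_apply, Fin.sum_univ_three, h11] at this

theorem sim_symm {n : Type*} [Fintype n] [DecidableEq n] {A B : Matrix n n F} (h : Sim A B) : Sim B A := by
  obtain ⟨u, hu⟩ := h
  refine ⟨u⁻¹, ?_⟩
  rw [hu, inv_inv]
  calc A = (u⁻¹.1 * u.1) * A * (u⁻¹.1 * u.1) := by rw [Units.inv_mul, one_mul, mul_one]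
    _ = _ := by noncomm_ring

theorem tri_cases (i j : Fin 6) (h : (tri F i).1 = (tri F j).1) (h' : (tri F i).2.1 = (tri F j).2.1) :
    i = j ∨ (i = 0 ∧ j = 1) ∨ (i = 1 ∧ j = 0) ∨ (i = 2 ∧ j = 3) ∨ (i = 3 ∧ j = 2) := by
  fin_cases i <;> fin_cases j <;> simp [tri] at h h' ⊢

theorem six_inj [CharP F 2] {k : ℕ} {i j : Fin 6}
    (h : Sim (el k (six F i) (six_transpose i)).1 (el k (six F j) (six_transpose j)).1) : i = j := by
  have h1 := h.charpoly
  rw [charpoly_el, charpoly_el, det_six, det_six] at h1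
  obtain ⟨h2, h3, -⟩ := poly3_inj (mul_right_cancel₀ (pow_ne_zero _ x2_ne) h1)
  have h4 := sim_dS h
  have h5 := sim_dS (sim_symm h)
  clear h1 h
  rcases tri_cases i j h2 h3 with h | ⟨rfl, rfl⟩ | ⟨rfl, rfl⟩ | ⟨rfl, rfl⟩ | ⟨rfl, rfl⟩
  · exact h
  · exact absurd (h4.1 six_sq0) six_sq1
  · exact absurd (h5.1 six_sq0) six_sq1
  · exact absurd (h4.2 six_sq2) six_sq3
  · exact absurd (h5.2 six_sq2) six_sq3

section Two

variable {F : Type} [Field F] [Fintype F]

theorem big_two (k : ℕ) (hq : Fintype.card F = 2) : Big (PSp (3 + k) F) := by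
  classical
  have : Finite (symplecticGroup (Fin (3 + k)) F) := Subtype.finite
  have hchar : CharP F 2 := by
    have : Fact (Nat.Prime 2) := ⟨Nat.prime_two⟩
    exact charP_of_card_eq_prime hq
  have hs : IsSimpleGroup (PSp (3 + k) F) := S0270.result (3 + k) (by omega) (fun h => by omega)
  have hone : ∀ a : F, a * a = 1 → a = 1 := by
    intro a ha
    rcases mul_self_eq_one_iff.1 ha with rfl | rfl
    · rfl
    · exact CharTwo.neg_eq 1
  let g : Fin 3 ⊕ Fin 6 → symplecticGroup (Fin (3 + k)) F :=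
    Sum.elim (fun r => tt (r.1 + 1) (3 + k)) (fun i => el k (six F i) (six_transpose i))
  have hg : ∀ i j, Sim (g i).1 (g j).1 → i = j := by
    have hne : ∀ (r : Fin 3) (i : Fin 6),
        ¬ Sim (tt (F := F) (r.1 + 1) (3 + k)).1 (el k (six F i) (six_transpose i)).1 := by
      intro r i h
      have h0 : (tt (F := F) (r.1 + 1) (3 + k)).1 * (tt (F := F) (r.1 + 1) (3 + k)).1 + 1 =
          (tt (F := F) (r.1 + 1) (3 + k)).1 * 0 := by
        have h1 : (tt (F := F) (r.1 + 1) (3 + k)).1 * (tt (F := F) (r.1 + 1) (3 + k)).1 = 1 :=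
          congrArg Subtype.val (tt_sq (F := F) (r.1 + 1) (3 + k))
        rw [h1, mul_zero]
        ext i j
        rw [Matrix.add_apply, CharTwo.add_self_eq_zero, Matrix.zero_apply]
      obtain ⟨P, Q, -, hD, -⟩ := sim_D h h0 (mS_sq _)
      rw [mul_zero, zero_mul, ← dS_zero, ← ext_zero] at hD
      exact six_ne i (ext_inj k (dS_inj hD))
    rintro (r | i) (r' | j) h
    · have h4 := h.rank
      have h5 : ((tt (F := F) (r.1 + 1) (3 + k)).1 - 1).rank = ((tt (F := F) (r'.1 + 1) (3 + k)).1 - 1).rank := h4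
      rw [rank_tt (by omega), rank_tt (by omega)] at h5
      exact congrArg _ (Fin.ext (by omega))
    · exact (hne _ _ h).elim
    · exact (hne _ _ (sim_symm h)).elim
    · exact congrArg _ (six_inj h)
  refine big_of_fam (p := 2) (by norm_num) (isLie (p := 2) (by omega))
    (fun i => (g i : PSp (3 + k) F)) ?_ ?_ (by simp)
  · intro i j hij
    obtain ⟨a, ha, h⟩ := sim_of_mk (by omega) hij
    rw [hone a ha, one_smul] at h
    exact hg i j h
  · rintro (r | i)
    · exact dvd_tt (by omega) (by omega)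
    · obtain ⟨w, hw, hw'⟩ := six_sing (F := F) i
      exact dvd_el k (six_transpose i) hw hw'

end Two

/-- **S4895, row `PSp_2m(q)`, `m ≥ 3`** -/
theorem big_psp {F : Type} [Field F] [Fintype F] {m : ℕ} (hm : 3 ≤ m) :
    Cfsg.Agent.H504.Zeros.Big (Cfsg.PSp m F) := by
  obtain ⟨k, rfl⟩ := Nat.exists_eq_add_of_le hm
  obtain ⟨p, hc⟩ := CharP.exists F
  have hp : p.Prime := CharP.char_is_prime F p
  rcases lt_or_ge (Fintype.card F) 4 with h | h
  · have h1 : 1 < Fintype.card F := Fintype.one_lt_card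
    have h2 : Fintype.card F = 2 ∨ Fintype.card F = 3 := by omega
    rcases h2 with h2 | h2
    · exact big_two k h2
    · exact big_three k h2
  · exact big_four hp k h

end Cfsg.Agent.H279.ZerosPSp
end

-- part: H455/ZerosFi22
section
/-!
# S4895: the row of `Fi₂₂` (helper455)
-/

set_option autoImplicit false

namespace Cfsg.Agent.H455.ZerosFi22

open Cfsg Cfsg.Agent.H504.Zeros Cfsg.Agent.H92.KTools Cfsg.Agent.H455.ZeroTools

/-- **The row of `Fi₂₂`.** -/
theorem fi22 {S : Type*} [Group S] (h : Cfsg.Spor.IsoFi22 S) : Big S := by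
  obtain ⟨e⟩ := h
  refine Big.of_equiv e ?_
  have e1 : Cfsg.Spor.Fi22 ≃* Cfsg.Spor.Fi22 := MulEquiv.refl _
  have hc : Nat.card Cfsg.Spor.Fi22 = 64561751654400 := Cfsg.Agent.H713.Spor.Fi22.card_fi22 e1
  have hfin : Finite Cfsg.Spor.Fi22 := Nat.finite_of_card_ne_zero (by rw [hc]; norm_num)
  have h11 : Fact (Nat.Prime 11) := ⟨by norm_num⟩
  have h13 : Fact (Nat.Prime 13) := ⟨by norm_num⟩
  obtain ⟨x, hx⟩ := exists_prime_orderOf_dvd_card' (G := Cfsg.Spor.Fi22) 13 (by rw [hc]; norm_num)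
  obtain ⟨φ, hφ⟩ := Cfsg.Agent.H328.KSpor.s8_fi22
  have key : ∀ (m : Multiset ℕ) {n : ℕ}, m.sum ≤ 8 → (∀ a ∈ m, 2 ≤ a) → m.lcm = n →
      HasOrd Cfsg.Spor.Fi22 n :=
    fun m _ h1 h2 h3 => h3 ▸ (Cfsg.Agent.H328.KSpor.hasOrd_perm m h1 h2).of_injective φ hφ
  obtain ⟨t, ht, htc, hto⟩ := exists_of_lists (G := Cfsg.Spor.Fi22)
    {1, 2, 3, 4, 5, 6, 7, 8, 10, 11, 12, 15, 22} (fun n => if n = 11 then 2 else 1) (by
      intro n hn
      simp only [Finset.mem_insert, Finset.mem_singleton] at hn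
      rcases hn with rfl | rfl | rfl | rfl | rfl | rfl | rfl | rfl | rfl | rfl | rfl | rfl | rfl
      · exact one_list (hasOrd_one _)
      · exact one_list (key {2} (by decide) (by decide) (by decide))
      · exact one_list (key {3} (by decide) (by decide) (by decide))
      · exact one_list (key {4} (by decide) (by decide) (by decide))
      · exact one_list (key {5} (by decide) (by decide) (by decide))
      · exact one_list (key {6} (by decide) (by decide) (by decide))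
      · exact one_list (key {7} (by decide) (by decide) (by decide))
      · exact one_list (key {8} (by decide) (by decide) (by decide))
      · exact one_list (key {2, 5} (by decide) (by decide) (by decide))
      · obtain ⟨y, hy⟩ := exists_prime_orderOf_dvd_card' (G := Cfsg.Spor.Fi22) 11 (by rw [hc]; norm_num)
        exact two_list hy (by rw [orderOf_inv, hy]) (Cfsg.Agent.H713.Spor.Fi22.not_real e1 hy)
      · exact one_list (key {3, 4} (by decide) (by decide) (by decide))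
      · exact one_list (key {3, 5} (by decide) (by decide) (by decide))
      · exact one_list (Cfsg.Agent.H713.Spor.Fi22.exists_22 e1))
  exact big_of_isolated_out (r := 13) (n := 4966288588800) (e := 6) (m := 2) (by norm_num) hx
    (Cfsg.Agent.H713.Spor.Fi22.cent_13 e1 hx) (by rw [hc]) (by norm_num) (by norm_num) (by norm_num) t ht
    (fun g hg h => absurd (h ▸ hto g hg) (by decide)) (by rw [htc]; decide)

end Cfsg.Agent.H455.ZerosFi22
end

-- part: H455/ZerosTh
section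
/-!
# S4895: the row of Th (helper455)

Elements of the centralizer of an involution, as words in the letters of the C-oracle.
-/

set_option autoImplicit false
set_option maxRecDepth 100000

namespace Cfsg.Agent.H455.ZerosTh

open Cfsg Subgroup Cfsg.Agent.H504.Zeros Cfsg.Agent.H92.KTools Cfsg.Agent.H455.ZeroTools Cfsg.Agent.H455.FewDZ
open Cfsg.Agent.Th.Base Cfsg.Agent.Th.Word Cfsg.Agent.Th.RelWords Cfsg.Agent.Th.PermTab
  Cfsg.Agent.Th.KOracle Cfsg.Agent.Th.KPerm Cfsg.Agent.Th.NineAct Cfsg.Agent.Th.CStruct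
  Cfsg.Agent.Th.COracleDef Cfsg.Agent.Th.COracleSound
open Cfsg.Agent.KFacts.Th.Mask Cfsg.Agent.KFacts.Th.Struct

universe u

/-- powers of words -/
def rep (w : List ℕ) : ℕ → List ℕ
  | 0 => []
  | n + 1 => w ++ rep w n

section

variable {G : Type u} [Group G] {γ : ℕ → G}

theorem ev_rep (w : List ℕ) (n : ℕ) : ev γ (rep w n) = ev γ w ^ n := by
  induction n with
  | zero => simp [rep]
  | succ n ih =>
    show ev γ (w ++ rep w n) = _
    rw [ev_append, ih, pow_succ']

variable (h : Ctx γ)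
include h

theorem ne_one_of_move {w : List ℕ} (hw : ∀ x ∈ w, isC x = true) {p : ℕ} (hp : p < 9) (hm : tr act9 w p ≠ p) :
    ev γ w ≠ 1 := by
  obtain ⟨f, -, -, hf⟩ := h.exists_epi
  intro h1
  have h2 := hf w hw
  have h3 : (⟨ev γ w, ev_mem_sub hw⟩ : sub γ isC) = 1 := Subtype.ext h1
  rw [h3, map_one] at h2
  have h4 := ev_rho_inv_apply isTab9 hw ⟨p, hp⟩
  rw [← h2] at h4
  apply hm
  rw [← h4]
  simp only [_root_.OneMemClass.coe_one, _root_.inv_one, _root_.Equiv.Perm.coe_one, _root_.id_eq]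

theorem ne_one_of_a {w : List ℕ} (hw : corc (w ++ [1]) = true) : ev γ w ≠ 1 := by
  intro h1
  have h2 := corc_sound h.inv h.C hw
  rw [ev_append, h1, one_mul, ev_singleton] at h2
  exact h.a1 h2

/-- the order of a word: `p = 2` through the central involution, the odd primes through `A9` -/
def ordChk (w : List ℕ) (n : ℕ) (L : List ℕ) : Bool :=
  corc (rep w n) && corc (rep w (n / 2) ++ [1]) &&
    L.all fun q => (List.range 9).any fun p => !(Nat.beq (tr act9 (rep w (n / q)) p) p)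

omit [Group G] h in
theorem mem_rep {w : List ℕ} {f : ℕ → Bool} (hw : ∀ x ∈ w, f x = true) (n : ℕ) : ∀ x ∈ rep w n, f x = true := by
  induction n with
  | zero => simp [rep]
  | succ n ih =>
    intro x hx
    rcases List.mem_append.1 hx with hx | hx
    · exact hw x hx
    · exact ih x hx

theorem hasOrd_word {w : List ℕ} {n : ℕ} {L : List ℕ} (hw : allL isC w = true) (hn : 0 < n)
    (hL : ∀ q : ℕ, q.Prime → q ∣ n → q = 2 ∨ q ∈ L) (hc : ordChk w n L = true) : HasOrd G n := by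
  unfold ordChk at hc
  rw [Bool.and_eq_true, Bool.and_eq_true, List.all_eq_true] at hc
  obtain ⟨⟨h1, h2⟩, h3⟩ := hc
  have hw' := (allL_iff _ _).1 hw
  refine ⟨ev γ w, orderOf_eq_of_pow_and_pow_div_prime hn ?_ ?_⟩
  · rw [← ev_rep]
    exact corc_sound h.inv h.C h1
  · intro q hq hqn
    rw [← ev_rep]
    rcases hL q hq hqn with rfl | hq'
    · exact ne_one_of_a h h2
    · have h4 := h3 q hq'
      rw [List.any_eq_true] at h4
      obtain ⟨p, hp, hm⟩ := h4
      refine ne_one_of_move h (mem_rep hw' _) (List.mem_range.1 hp) fun h5 => ?_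
      rw [h5, Nat.beq_refl] at hm
      exact absurd hm (by decide)

theorem ab_ne : γ 1 * γ 2 ≠ 1 := by
  intro hab
  have h2 : γ 2 = γ 1 := by
    have h3 := h.K.b2
    rw [pow_two] at h3
    rw [eq_inv_of_mul_eq_one_left hab]
    exact (inv_eq_of_mul_eq_one_left h3).symm
  have hle : sub γ isK ≤ sub γ isC := by
    unfold sub
    rw [closure_le]
    rintro z ⟨x, hx, rfl⟩
    by_cases hx2 : x = 2
    · rw [hx2, h2]
      exact subset_closure ⟨1, rfl, rfl⟩
    · refine subset_closure ⟨x, ?_, rfl⟩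
      rw [isK_iff] at hx
      rw [isC_iff]
      omega
  have h4 := Subgroup.card_dvd_of_le hle
  rw [h.cardK, h.cardC] at h4
  norm_num at h4

theorem hasOrd_21 : HasOrd G 21 := by
  have : Fact (Nat.Prime 3) := ⟨by norm_num⟩
  have : Fact (Nat.Prime 7) := ⟨by norm_num⟩
  have h3 : orderOf (γ 1 * γ 2) = 3 := orderOf_eq_prime h.K.ab3 (ab_ne h)
  have h7 : orderOf (γ 6) = 7 := by
    refine orderOf_eq_prime h.K.s7 ?_
    have h1 := ne_one_of_move h (w := [6]) (by decide) (p := 2) (by norm_num) (by decide +kernel)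
    rwa [ev_singleton] at h1
  have ha : γ 1 * γ 6 = γ 6 * γ 1 := by
    have h1 := h.K.sa
    have h2 : γ 1 * γ 6 * ((γ 6)⁻¹ * (γ 1)⁻¹ * γ 6 * γ 1) = γ 6 * γ 1 := by group
    rwa [h1, mul_one] at h2
  have hb : γ 2 * γ 6 = γ 6 * γ 2 := by
    have h1 := h.K.sb
    have h2 : γ 2 * γ 6 * ((γ 6)⁻¹ * (γ 2)⁻¹ * γ 6 * γ 2) = γ 6 * γ 2 := by group
    rwa [h1, mul_one] at h2
  have hc : Commute (γ 1 * γ 2) (γ 6) := by
    show γ 1 * γ 2 * γ 6 = γ 6 * (γ 1 * γ 2)
    rw [mul_assoc, hb, ← mul_assoc, ha, mul_assoc]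
  exact HasOrd.mul_of_commute h3 h7 hc (by norm_num)

theorem hasOrd_36 : HasOrd G 36 :=
  hasOrd_word h (w := [4, 5, 10, 7]) (L := [3]) (by decide) (by norm_num) (fun q hq hd => by
    have h1 : q ∣ 2 ^ 2 * 3 ^ 2 := hd
    rcases hq.dvd_mul.1 h1 with h2 | h2
    · exact Or.inl ((Nat.prime_dvd_prime_iff_eq hq Nat.prime_two).1 (hq.dvd_of_dvd_pow h2))
    · rw [(Nat.prime_dvd_prime_iff_eq hq Nat.prime_three).1 (hq.dvd_of_dvd_pow h2)]
      exact Or.inr (by simp)) (by decide +kernel)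

theorem hasOrd_24 : HasOrd G 24 :=
  hasOrd_word h (w := [3, 4, 8]) (L := [3]) (by decide) (by norm_num) (fun q hq hd => by
    have h1 : q ∣ 2 ^ 3 * 3 := hd
    rcases hq.dvd_mul.1 h1 with h2 | h2
    · exact Or.inl ((Nat.prime_dvd_prime_iff_eq hq Nat.prime_two).1 (hq.dvd_of_dvd_pow h2))
    · rw [(Nat.prime_dvd_prime_iff_eq hq Nat.prime_three).1 h2]
      exact Or.inr (by simp)) (by decide +kernel)

theorem hasOrd_28 : HasOrd G 28 :=
  hasOrd_word h (w := [3, 4, 5, 7]) (L := [7]) (by decide) (by norm_num) (fun q hq hd => by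
    have h1 : q ∣ 2 ^ 2 * 7 := hd
    rcases hq.dvd_mul.1 h1 with h2 | h2
    · exact Or.inl ((Nat.prime_dvd_prime_iff_eq hq Nat.prime_two).1 (hq.dvd_of_dvd_pow h2))
    · rw [(Nat.prime_dvd_prime_iff_eq hq (by norm_num)).1 h2]
      exact Or.inr (by simp)) (by decide +kernel)

theorem hasOrd_20 : HasOrd G 20 :=
  hasOrd_word h (w := [4, 6, 8, 10]) (L := [5]) (by decide) (by norm_num) (fun q hq hd => by
    have h1 : q ∣ 2 ^ 2 * 5 := hd
    rcases hq.dvd_mul.1 h1 with h2 | h2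
    · exact Or.inl ((Nat.prime_dvd_prime_iff_eq hq Nat.prime_two).1 (hq.dvd_of_dvd_pow h2))
    · rw [(Nat.prime_dvd_prime_iff_eq hq (by norm_num)).1 h2]
      exact Or.inr (by simp)) (by decide +kernel)

theorem hasOrd_30 : HasOrd G 30 :=
  hasOrd_word h (w := [4, 5, 7, 11]) (L := [3, 5]) (by decide) (by norm_num) (fun q hq hd => by
    have h1 : q ∣ 2 * (3 * 5) := hd
    rcases hq.dvd_mul.1 h1 with h2 | h2
    · exact Or.inl ((Nat.prime_dvd_prime_iff_eq hq Nat.prime_two).1 h2)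
    · rcases hq.dvd_mul.1 h2 with h2 | h2
      · rw [(Nat.prime_dvd_prime_iff_eq hq Nat.prime_three).1 h2]
        exact Or.inr (by simp)
      · rw [(Nat.prime_dvd_prime_iff_eq hq (by norm_num)).1 h2]
        exact Or.inr (by simp)) (by decide +kernel)

end

theorem chk31 : chk 90745943887872000 31 = true := by decide +kernel

/-- the orders which are used -/
def S : Finset ℕ := {1, 2, 3, 4, 6, 9, 12, 18, 36, 8, 24, 7, 14, 28, 5, 10, 15, 30, 20, 21, 13, 19}

theorem orders {n : ℕ} (hn : n ∈ S) : HasOrd Spor.Th n := by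
  have hc : Nat.card Spor.Th = 90745943887872000 := Cfsg.Agent.H723.Spor.Th.card_th
  have hfin : Finite Spor.Th := Nat.finite_of_card_ne_zero (by rw [hc]; norm_num)
  have h := Cfsg.Agent.KFacts.Th.Main.ctx
  have hp : ∀ p : ℕ, p.Prime → p ∣ 90745943887872000 → HasOrd Spor.Th p :=
    fun p hp hd => hasOrd_prime hp (by rw [hc]; exact hd)
  have key : ∀ n ∈ S, n ∣ 36 ∨ n ∣ 24 ∨ n ∣ 28 ∨ n ∣ 20 ∨ n ∣ 30 ∨ n ∣ 21 ∨ n = 13 ∨ n = 19 := by decide +kernel
  rcases key n hn with h1 | h1 | h1 | h1 | h1 | h1 | rfl | rfl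
  · exact (hasOrd_36 h).of_dvd h1 (by norm_num)
  · exact (hasOrd_24 h).of_dvd h1 (by norm_num)
  · exact (hasOrd_28 h).of_dvd h1 (by norm_num)
  · exact (hasOrd_20 h).of_dvd h1 (by norm_num)
  · exact (hasOrd_30 h).of_dvd h1 (by norm_num)
  · exact (hasOrd_21 h).of_dvd h1 (by norm_num)
  · exact hp 13 (by norm_num) (by norm_num)
  · exact hp 19 (by norm_num) (by norm_num)

/-- **The row of Th.** -/
theorem th {S' : Type*} [Group S'] (h : Cfsg.Spor.IsoTh S') : Big S' := by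
  obtain ⟨e⟩ := h
  refine Big.of_equiv e ?_
  have hc : Nat.card Spor.Th = 90745943887872000 := Cfsg.Agent.H723.Spor.Th.card_th
  have hfin : Finite Spor.Th := Nat.finite_of_card_ne_zero (by rw [hc]; norm_num)
  have h31 : Fact (Nat.Prime 31) := ⟨by norm_num⟩
  have h13 : Fact (Nat.Prime 13) := ⟨by norm_num⟩
  obtain ⟨u, hu, hu'⟩ : ∃ y : Spor.Th, 13 ∣ orderOf y ∧ orderOf y ≠ 13 := by
    refine Cfsg.Agent.H713.exists_orderOf_of_not_dvd ?_ ?_
    · rw [hc]; exact Cfsg.Agent.H713.factorization_eq_one (by norm_num) (by norm_num)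
    · rw [hc]; norm_num
  set k := orderOf u with hk
  have hkS : k ∉ S := by
    intro h
    have h1 : ∀ n ∈ S, 13 ∣ n → n = 13 := by decide
    exact hu' (h1 k h hu)
  have hna : Cfsg.Agent.H393.Iso.NA 31 Spor.Th := by
    refine Cfsg.Agent.H393.Iso.NA.of_card fun t ht => ?_
    rw [MonsterX.ThOneClass.card_centralizer ht]
    norm_num
  have hk31 : k ≠ 31 := by
    intro h
    rw [h] at hu
    exact absurd hu (by norm_num)
  refine big_of_orders_few (r := 31) (n := 2927288512512000) (e := 15) (m := 2)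
    Cfsg.Agent.H723.Spor.Th.hasDZ_31 hc (by norm_num) (by norm_num) (by norm_num)
    (by norm_num) (by norm_num) hna chk31 (insert k S) ?_ ?_ ?_
  · intro n hn
    rcases Finset.mem_insert.1 hn with rfl | hn
    · exact ⟨u, rfl⟩
    · exact orders hn
  · rw [Finset.mem_insert, not_or]
    exact ⟨Ne.symm hk31, by decide⟩
  · rw [Finset.card_insert_of_notMem hkS]
    decide

end Cfsg.Agent.H455.ZerosTh
end

-- part: H504/ZerosAll
section
/-!
# S4895: all rows
-/

set_option autoImplicit false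

namespace Cfsg.Agent.H504.Zeros

open Cfsg

universe u

theorem rows_all : Rows where
  alt := fun n hn => Cfsg.Agent.H701.ZAlt.big_alt hn
  psl2 := fun F _ _ h8 h9 => Cfsg.Agent.H681.ZerosPSL2.big_psl2 h8 h9
  psl3 := fun F _ _ h => Cfsg.Agent.H681.ZerosPSL3.big_psl3 h
  psl := fun F _ _ n hn h => Cfsg.Agent.H206.ZPsl.big_psl hn h
  psp4 := fun F _ _ h => Cfsg.Agent.H956.ZerosPSp4.big_psp4 h
  psp := fun F _ _ m hm => Cfsg.Agent.H279.ZerosPSp.big_psp hm
  psu3 := fun F _ _ q hF hq => Cfsg.Agent.H956.ZerosPSU3.big_psu3 hF hq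
  psu := fun F _ _ n q hF hn => Cfsg.Agent.H279.ZerosPSU.big_psu hF hn
  oodd := fun F _ _ m hm ho => Cfsg.Agent.H621.Zer.big_oodd hm ho
  oplus := fun F _ _ m hm => Cfsg.Agent.H621.Zer.big_oplus hm
  ominus := fun F _ _ m a b hm hab => Cfsg.Agent.H621.Zer.big_ominus a b hm hab
  g2 := fun F _ _ h => Cfsg.Agent.H504.ZerosG23.big_g2 h
  f4 := fun F _ _ => ZerosExc.big_f4
  e6 := fun F _ _ => Cfsg.Agent.H605.ZerosE6.big_e6
  e7 := fun F _ _ => Cfsg.Agent.H224.ZerosE7.big_e7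
  e8 := fun F _ _ => ZerosExc.big_e8
  te6 := fun K _ _ q hq hK => Cfsg.Agent.H605.ZerosE6.big_te6 hq hK
  td4 := fun K _ _ q hq hK => Cfsg.Agent.H504.ZerosD4.big_td4 hq hK
  sz := fun K _ _ m hm hK => Cfsg.Agent.H442.ZerosTwisted.big_sz hm hK
  ree := fun K _ _ m hm hK => Cfsg.Agent.H442.ZerosTwisted.big_ree hm hK
  tf4 := fun K _ _ m hm hK => Cfsg.Agent.H442.ZerosTwisted.big_tf4 hm hK

theorem tits_all : TitsRow.{u} := fun h => Cfsg.Agent.H442.ZerosTwisted.big_tits h

theorem spor_all : SporRows.{u} := by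
  intro S _ h
  rcases h with h | h | h | h | h | h | h | h | h | h | h | h | h | h | h | h | h | h | h | h | h | h |
    h | h | h | h
  · exact Cfsg.Agent.H701.ZMathieu.m11 h
  · exact Cfsg.Agent.H701.ZMathieu.m12 h
  · exact Cfsg.Agent.H701.ZMathieu.m22 h
  · exact Cfsg.Agent.H701.ZMathieu.m23 h
  · exact Cfsg.Agent.H701.ZMathieu.m24 h
  · exact Cfsg.Agent.H442.ZerosJanko.j1 h
  · exact Cfsg.Agent.H442.ZerosJanko.j2 h
  · exact Cfsg.Agent.H442.ZerosJanko.j3 h
  · exact Cfsg.Agent.H442.ZerosJanko.j4 h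
  · exact Cfsg.Agent.H153.Zeros.co1 h
  · exact Cfsg.Agent.H153.Zeros.co2 h
  · exact Cfsg.Agent.H153.Zeros.co3 h
  · exact Cfsg.Agent.H153.Zeros.mcl h
  · exact Cfsg.Agent.H153.Zeros.hs h
  · exact Cfsg.Agent.H153.Zeros.suz h
  · exact Cfsg.Agent.H153.Zeros.he h
  · exact Cfsg.Agent.H153.Zeros.ru h
  · exact Cfsg.Agent.H153.Zeros.on h
  · exact Cfsg.Agent.H455.ZerosLy.ly h
  · exact Cfsg.Agent.H455.ZerosFi22.fi22 h
  · exact Cfsg.Agent.H455.ZerosFi23.fi23 h
  · exact Cfsg.Agent.H455.ZerosFi24.fi24 h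
  · exact Cfsg.Agent.H455.ZerosHN.hn h
  · exact Cfsg.Agent.H455.ZerosTh.th h
  · exact Cfsg.Agent.H455.ZerosB.b h
  · exact Cfsg.Agent.H455.ZerosM.m h

end Cfsg.Agent.H504.Zeros
end

-- part: S4895
section
set_option autoImplicit false
open Cfsg

namespace Cfsg.Agent.S4895

/-- Let G be a finite non-abelian simple group. For each non-linear irreducible complex character χ count the conjugacy classes on which χ vanishes, less one, and add these numbers over all non-linear χ. The total is at most 7 if and only if G is isomorphic to the alternating group of degree 5, to PSL(2,7), or to the alternating group of degree 6. -/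
theorem result {G : Type*} [Group G] [Finite G] [IsSimpleGroup G] (hG : ¬ IsMulCommutative G) : Nat.card {x : Cfsg.IrrCharacter G × ConjClasses G // Cfsg.charDegree (x.1 : G → ℂ) ≠ 1 ∧ ∀ g : G, ConjClasses.mk g = x.2 → (x.1 : G → ℂ) g = 0} ≤ 7 + Nat.card {χ : Cfsg.IrrCharacter G // Cfsg.charDegree (χ : G → ℂ) ≠ 1} ↔ (Nonempty (G ≃* ↥(alternatingGroup (Fin 5))) ∨ Nonempty (G ≃* Matrix.ProjectiveSpecialLinearGroup (Fin 2) (ZMod 7)) ∨ Nonempty (G ≃* ↥(alternatingGroup (Fin 6)))) := by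
  have hle : ∀ {X : Type _} [Group X], Nat.card (Cfsg.Agent.H504.Zeros.ZP X) ≤
      7 + Nat.card (Cfsg.Agent.H504.Zeros.NL X) ↔ ¬ Cfsg.Agent.H504.Zeros.Big X := by
    intro X _
    unfold Cfsg.Agent.H504.Zeros.Big
    omega
  have hle0 : ∀ {X : Type} [Group X], Nat.card (Cfsg.Agent.H504.Zeros.ZP X) ≤
      7 + Nat.card (Cfsg.Agent.H504.Zeros.NL X) ↔ ¬ Cfsg.Agent.H504.Zeros.Big X := by
    intro X _
    unfold Cfsg.Agent.H504.Zeros.Big
    omega
  refine Iff.trans (hle (X := G)) ⟨fun h => ?_, fun h => ?_⟩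
  · by_contra hcon
    push Not at hcon
    exact h (Cfsg.Agent.H504.Zeros.big_of_known Cfsg.Agent.H504.Zeros.rows_all
      Cfsg.Agent.H504.Zeros.spor_all Cfsg.Agent.H504.Zeros.tits_all (Cfsg.Agent.S0000.result (G := G)) hG
      (not_nonempty_iff.2 hcon.1) (not_nonempty_iff.2 hcon.2.1) (not_nonempty_iff.2 hcon.2.2))
  · intro hB
    rcases h with h | h | h <;> obtain ⟨e⟩ := h
    · exact hle0.1 Cfsg.Agent.H442.ZerosSmall.le_a5 (Cfsg.Agent.H504.Zeros.Big.of_equiv e.symm hB)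
    · exact hle0.1 Cfsg.Agent.H442.ZerosSmall.le_l7 (Cfsg.Agent.H504.Zeros.Big.of_equiv e.symm hB)
    · exact hle0.1 Cfsg.Agent.H442.ZerosSmall.le_a6 (Cfsg.Agent.H504.Zeros.Big.of_equiv e.symm hB)

end Cfsg.Agent.S4895
end

private theorem dce_b200b59d4557 : _root_.True := by
  try have : _root_.True := by simp only [_root_.Cfsg.Agent.H206.ZPsl.E4.eq_1]
  try have : _root_.True := by simp only [_root_.Cfsg.Agent.H279.ZerosPSp.tri.eq_1]
  try have : _root_.True := by simp only [_root_.Cfsg.Agent.H206.ZPsl.M5.eq_1]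
  try have : _root_.True := by simp only [_root_.Cfsg.Agent.H206.ZPsl.G5.eq_1]
  try have : _root_.True := by simp only [_root_.Cfsg.Agent.H279.ZerosPSp.xv.eq_1]
  try have : _root_.True := by simp only [_root_.Cfsg.Agent.H455.ZerosTh.rep.eq_def]
  try have : _root_.True := by simp only [_root_.Cfsg.Agent.H206.ZPsl.M4.eq_1]
  try have : _root_.True := by simp only [_root_.Cfsg.Agent.H279.ZerosPSU43.G.eq_1]
  try have : _root_.True := by simp only [_root_.Cfsg.Agent.H279.ZerosPSU43.U.eq_1]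
  try have : _root_.True := by simp only [_root_.Cfsg.Agent.H279.ZerosPSp.dS.eq_1]
  try have : _root_.True := by simp only [_root_.Cfsg.Agent.H455.ZerosTh.rep.eq_2]
  try have : _root_.True := by simp only [_root_.Cfsg.Agent.H279.ZerosPSp.six.eq_1]
  try have : _root_.True := by simp only [_root_.Cfsg.Agent.H206.ZPsl.D4.eq_1]
  try have : _root_.True := by simp only [_root_.Cfsg.Agent.H455.ZerosTh.rep.eq_1]
  exact _root_.True.intro
end
end
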