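import Cfsg.Agent.HZ.L.E7.Row
import Cfsg.Agent.HZ.L.U.Ok_m3
import Cfsg.Agent.HZ.BoxN_m3
import Cfsg.Agent.HZ.L.CL.Spin
import Cfsg.Agent.HZ.L.X.FrB_m3
import Cfsg.Statements.S4909
import Cfsg.Agent.Prune
set_option linter.all false

section
prune_inst 0x7f00000000000000000000000000000000000000000000000000000000000000000000000000000000000000000000000000000000000000000000000000000000000000000000000000000000000000003fffffffffffffffffffffffffffbeffbdffffffff

-- part: HZ/L/E7/Main
section
set_option linter.all false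

/-!
# HZ/L/E7: the row of the groups `E₇(q)`, `q` odd (helper22)
-/

set_option autoImplicit false

namespace Cfsg.Agent.HZ.L.E7

open Cfsg

/-- **the row `E₇`** -/
theorem rowE7 : HZ.Row (ODD.ChevO Lie.chevE7) := rowE7_of Row.boxRow pk

end Cfsg.Agent.HZ.L.E7
end

-- part: HZ/L/Fin0
section
set_option linter.all false

/-!
# HZ/L: the box `BoxL` from the missing rows (helper66)
-/

set_option autoImplicit false

namespace Cfsg.Agent.HZ.L

open Cfsg Cfsg.Agent.ODD

theorem boxL_of (hR : ∀ (p : ℕ) [Fact p.Prime], p ≠ 2 → Res p SL.L) (g2 : Row (ChevO Lie.chevG2)) (f4 : Row (ChevO Lie.chevF4))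
    (e6 : Row (ChevO Lie.chevE6)) (e8 : Row (ChevO Lie.chevE8)) (tw : Row TwE6O) (d4 : Row TwD4O) : BoxL where
  psl := SL.psl_of (SL.hh_SL hR)
  psu := SL.psu_of (SL.hh_SU hR)
  psp := CL.rowPsp pk
  podd := CL.rowPodd_of (CL.top pk)
  plus := CL.rowPlus_of (CL.top pk)
  minus := CL.rowMinus_of (CL.top pk)
  g2 := g2
  f4 := f4
  e6 := e6
  e7 := E7.rowE7
  e8 := e8
  tw := tw
  d4 := d4

end Cfsg.Agent.HZ.L
end
end

-- part: S4909
section
set_option linter.all false

set_option autoImplicit false
open Cfsg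

namespace Cfsg.Agent.S4909

/-- Let G be a finite group, M a maximal ideal of the algebraic integers containing 2, and χ an irreducible complex character of G of height zero in its 2-block. Let n be the least positive integer such that every value of χ lies in the field generated over ℚ by a primitive n-th root of unity (the conductor of χ), and write n = 2^a·m with m odd. Then a primitive 2^a-th root of unity lies in the field generated over ℚ by a primitive m-th root of unity together with the values of χ. -/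
theorem result {G : Type*} [Group G] [Finite G] (M : Ideal Cfsg.AlgInt) (hM : Cfsg.IsPModular 2 M) (χ : Cfsg.IrrCharacter G) (h0 : Cfsg.blockHeight 2 (Cfsg.blockOf M (χ : G → ℂ)) (χ : G → ℂ) = 0) (n : ℕ) (hn : 0 < n) (hin : ∀ g : G, (χ : G → ℂ) g ∈ IntermediateField.adjoin ℚ ({Complex.exp (2 * Real.pi * Complex.I / (n))} : Set ℂ)) (hmin : ∀ k : ℕ, 0 < k → (∀ g : G, (χ : G → ℂ) g ∈ IntermediateField.adjoin ℚ ({Complex.exp (2 * Real.pi * Complex.I / (k))} : Set ℂ)) → n ≤ k) : Complex.exp (2 * Real.pi * Complex.I / (2 ^ n.factorization 2)) ∈ IntermediateField.adjoin ℚ ({Complex.exp (2 * Real.pi * Complex.I / (n / 2 ^ n.factorization 2))} ∪ Set.range (χ : G → ℂ)) :=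
  open Cfsg.Agent.HZ Cfsg.Agent.HZ.L in
  s4909_of_hh hM (hh_of_boxL (boxL_of (T3.res pk) (U.rowG2' pk) (U.rowF4' pk) (U.rowE6' pk) (U.rowE8' pk) (U.rowTw' pk)
    (U.rowD4' pk)) hM G) χ h0 n hn hin hmin

end Cfsg.Agent.S4909
end
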