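import Cfsg.Agent.TAB.Use.Defs_m3
import Cfsg.Agent.TAB.Sm2.Tits
import Cfsg.Agent.TAB.Sm2.M11_m3
import Cfsg.Agent.TAB.Sm2.M24_m3
import Cfsg.Agent.TAB.J1.Main
import Cfsg.Agent.TAB.J2.Main
import Cfsg.Agent.TAB.J3.Main
import Cfsg.Agent.TAB.J4.Main_m3
import Cfsg.Agent.TAB.Co1.Main
import Cfsg.Agent.TAB.Co2.Main
import Cfsg.Agent.TAB.J4.RkD_m3
import Cfsg.Agent.TAB.HN.CertB_m3
import Cfsg.Agent.TAB.Suz.Main
import Cfsg.Agent.TAB.He.Main
import Cfsg.Agent.TAB.F22.FxC_m3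
import Cfsg.Agent.TAB.ON.Main
import Cfsg.Agent.TAB.Ly.Main
import Cfsg.Agent.TAB.Th.Main
import Cfsg.Agent.TAB.B.Fin.Main_m3
import Cfsg.Agent.VAN.Rk.TD4_mg_m3
import Cfsg.Agent.DL.Ex.Fin_m3
import Cfsg.Agent.DL.Rows.Data_m3
import Cfsg.Agent.H695.OneZero.DetMain_mg_m3
import Cfsg.Agent.H985.VZ.GTwo_m3
import Cfsg.Agent.H849.OZ.Bad_m3
import Cfsg.Agent.Blocks.ClassSum
import Cfsg.Agent.H395.Jordan
import Cfsg.Agent.Blocks.RegularCount
import Cfsg.Agent.PermutationGroups.Subdegree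
import Cfsg.Agent.H754.XZ.Inter_m3
import Cfsg.Agent.VAN.Rk.Chev
import Cfsg.Agent.S0000
import Cfsg.Agent.S1068
import Cfsg.Agent.TAB.F42.G.Out
import Cfsg.Agent.TAB.F23C.Main
import Cfsg.Agent.TAB.F24.Use_m3
import Cfsg.Agent.TAB.F24C.DMain_m3
import Cfsg.Agent.TAB.F42.G.Main
import Cfsg.Agent.TAB.HN.Main
import Cfsg.Statements.S4942
import Cfsg.Agent.FastGrp
import Cfsg.Agent.Prune
set_option linter.all false

-- part: VAN/Fin/Two
section
prune_inst 0x7fdcfff8afacbddfffff7e3ffedddffc11c0cfffe6dffb437fe9eb9f0b9f03e51dcdfba51de4d0ff8ed6e0b410b87853fb7eeeffee6bdc7ffffd5ff41ffbee5ff7ffb50951d080240fbc2fff93f06f8e7f3fffffffffffffffffffffffffffffffffffffffff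
set_option linter.all false
open scoped Cfsg.Agent.FastGrp

-- part: VAN/Fin/SporA
section
/-! # S4942: the sporadic rows, first part (helper82) -/

set_option autoImplicit false

namespace Cfsg.Agent.VAN.Fin

universe u

theorem tits : Row.{u} (fun G _ => Lie.IsoTits G) := fun _ _ _ _ _ h => h.elim fun e => TAB.Sm2.Tits.van.of_equiv e.symm

theorem m11 : Row.{u} (fun G _ => Spor.IsoM11 G) := fun _ _ _ _ _ h => h.elim fun e => TAB.Sm2.M11.van.of_equiv e.symm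

theorem m12 : Row.{u} (fun G _ => Spor.IsoM12 G) := fun _ _ _ _ _ h => h.elim fun e => TAB.Sm2.M12.van.of_equiv e.symm

theorem m22 : Row.{u} (fun G _ => Spor.IsoM22 G) := fun _ _ _ _ _ h => h.elim fun e => TAB.Sm2.M22.van.of_equiv e.symm

theorem m23 : Row.{u} (fun G _ => Spor.IsoM23 G) := fun _ _ _ _ _ h => h.elim fun e => TAB.Sm2.M23.van.of_equiv e.symm

theorem m24 : Row.{u} (fun G _ => Spor.IsoM24 G) := fun _ _ _ _ _ h => h.elim fun e => TAB.Sm2.M24.van.of_equiv e.symm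

theorem j1 : Row.{u} (fun G _ => Spor.IsoJ1 G) := fun _ _ _ _ _ h => h.elim fun e => TAB.J1.van.of_equiv e.symm

theorem j2 : Row.{u} (fun G _ => Spor.IsoJ2 G) := fun _ _ _ _ _ h => h.elim fun e => TAB.J2.van.of_equiv e.symm

theorem j3 : Row.{u} (fun G _ => Spor.IsoJ3 G) := fun _ _ _ _ _ h => TAB.J3.van h

theorem j4 : Row.{u} (fun G _ => Spor.IsoJ4 G) := fun _ _ _ _ _ h => h.elim fun e => TAB.J4.van.of_equiv e.symm

theorem co1 : Row.{u} (fun G _ => Spor.IsoCo1 G) := fun _ _ _ _ _ h => h.elim fun e => TAB.Co1.van.of_equiv e.symm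

theorem co2 : Row.{u} (fun G _ => Spor.IsoCo2 G) := fun _ _ _ _ _ h => h.elim fun e => TAB.Co2.van.of_equiv e.symm

theorem co3 : Row.{u} (fun G _ => Spor.IsoCo3 G) := fun _ _ _ _ _ h => h.elim fun e => TAB.Co3.van.of_equiv e.symm

theorem mcl : Row.{u} (fun G _ => Spor.IsoMcL G) := fun _ _ _ _ _ h => h.elim fun e => TAB.McL.van.of_equiv e.symm

theorem hs : Row.{u} (fun G _ => Spor.IsoHS G) := fun _ _ _ _ _ h => h.elim fun e => TAB.HS.van.of_equiv e.symm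

theorem suz : Row.{u} (fun G _ => Spor.IsoSuz G) := fun _ _ _ _ _ h => h.elim fun e => TAB.Suz.van.of_equiv e.symm

theorem he : Row.{u} (fun G _ => Spor.IsoHe G) := fun _ _ _ _ _ h => h.elim fun e => TAB.He.van.of_equiv e.symm

theorem ru : Row.{u} (fun G _ => Spor.IsoRu G) := fun _ _ _ _ _ h => h.elim fun e => TAB.Ru.van.of_equiv e.symm

theorem on : Row.{u} (fun G _ => Spor.IsoON G) := fun _ _ _ _ _ h => h.elim fun e => TAB.ON.van.of_equiv e.symm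

theorem ly : Row.{u} (fun G _ => Spor.IsoLy G) := fun _ _ _ _ _ h => h.elim fun e => TAB.Ly.van.of_equiv e.symm

theorem fi22 : Row.{u} (fun G _ => Spor.IsoFi22 G) := fun _ _ _ _ _ h => h.elim fun e => TAB.F22.van.of_equiv e.symm

theorem th : Row.{u} (fun G _ => Spor.IsoTh G) := fun _ _ _ _ _ h => h.elim fun e => TAB.Th.van.of_equiv e.symm

theorem m : Row.{u} (fun G _ => Spor.IsoM G) := fun _ _ _ _ _ h => h.elim fun e => TAB.M.van.of_equiv e.symm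

theorem spor_of (fi23 : Row.{u} fun G _ => Spor.IsoFi23 G) (fi24 : Row.{u} fun G _ => Spor.IsoFi24' G)
    (hn : Row.{u} fun G _ => Spor.IsoHN G) (b : Row.{u} fun G _ => Spor.IsoB G) : SporRows.{u} :=
  ⟨tits, m11, m12, m22, m23, m24, j1, j2, j3, j4, co1, co2, co3, mcl,
    hs, suz, he, ru, on, ly, fi22, fi23, fi24, hn, th, b, m⟩

end Cfsg.Agent.VAN.Fin
end

-- part: VAN/E/Cert
section
/-!
# S4942: certificates for centralisers of relative rank one in split groups (helper5)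

`Cf.ok` : a word `w`, a functional `f` with `f ∘ w ≡ q f` modulo `Φ(q)` which vanishes only on the roots spanned by two
simple roots; `rc_of_cert` : the configuration `RC`.
-/

set_option autoImplicit false
set_option linter.unusedSectionVars false

namespace Cfsg.Agent.VAN.E

open CoxeterSystem Cfsg.Agent.ChevalleyStructure.CoxeterGeom Cfsg.Agent.Tits.Roots Cfsg.Agent.DL.Rows.Cert
  Cfsg.Agent.DL Cfsg.Agent.DL.Base

universe u

/-- `R ∪ -R` contains all roots -/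
def rootsOK (T : Ty) (R : List (List ℤ)) : Bool :=
  ((List.range T.l).all fun i => R.contains (T.unit i)) &&
  R.all fun v => v.length == T.l && (List.range T.l).all fun j => forceL (T.reflV j v) fun u =>
    R.contains u || forceL (psmul (-1) u) fun u' => R.contains u'

/-- the data of a certificate -/
structure Cf where
  wd : List ℕ
  gt : List ℤ
  a : ℕ
  b : ℕ
  B : ℕ
  xs : List (List ℤ)
  Us : List (List ℤ)

def Cf.val (S : Cf) (v : List ℤ) : List ℤ := S.xs.map (dot v)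

def Cf.ok (T : Ty) (R : List (List ℤ)) (S : Cf) : Bool :=
  (S.wd.all (· < T.l) && decide (S.a < T.l) && decide (S.b < T.l)) &&
  ((List.range T.l).all fun i => forceL (S.wd.foldr T.reflV (T.unit i)) fun u => u.length == T.l &&
    (red1 S.gt (padd (S.val u) (0 :: psmul (-1) (S.val (T.unit i))))).all (· == 0)) &&
  (S.wd.foldr T.reflV (T.unit S.a) == T.unit S.b && S.wd.foldr T.reflV (T.unit S.b) == T.unit S.a) &&
  ((S.val (T.unit S.a)).all (· == 0) && (S.val (T.unit S.b)).all (· == 0)) &&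
  (S.Us.length == R.length && (R.zip S.Us).all fun z => z.1 == T.unit S.a || z.1 == T.unit S.b ||
    (S.a != S.b && z.1 == mkv T.l fun j => get (T.unit S.a) j + get (T.unit S.b) j) ||
    forceI (lead (redn (S.gt.length - 1) S.gt (forceL (S.val z.1) fun P => pmul z.2 P))) fun c =>
      c != 0 && ((S.B ^ 30 : ℕ) : ℤ) % c == 0)

theorem dvd_of_red1 {gt Q : List ℤ} (h : (red1 gt Q).all (· == 0) = true) (q : ℤ) :
    peval (1 :: gt) q ∣ peval Q q := by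
  cases Q with
  | nil => exact dvd_zero _
  | cons a Q =>
    have h1 := peval_zeros q h
    change peval (forceL (padd Q (psmul (-a) gt)) id) q = 0 at h1
    rw [forceL_eq, id, peval_padd, peval_psmul] at h1
    refine ⟨a, ?_⟩
    rw [peval_cons, peval_cons]
    simp only [Int.cast_id] at h1 ⊢
    linear_combination q * h1

theorem toF_neg (l : ℕ) (u : List ℤ) : toF l (psmul (-1) u) = -toF l u := by
  funext i
  simp only [toF, DL.Rows.Cert.get, psmul, List.getD_eq_getElem?_getD, List.getElem?_map, Pi.neg_apply]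
  cases u[(i : ℕ)]? <;> simp

theorem toF_unit (T : Ty) (i : Fin T.l) : toF T.l (T.unit i) = sr i := by
  funext j
  rw [Ty.unit, toF_mkv, sr, Pi.single_apply]
  simp only [Fin.ext_iff]

section Sound

variable {T : Ty} {W : Type} [Group W] [Finite W] {M : CoxeterMatrix (Fin T.l)} (cs : CoxeterSystem M W)
  {A : Fin T.l → Fin T.l → ℤ} (h : IsCartan M A) (hA : ∀ i j, A i j = DL.Rows.Cert.get (T.row i) j)
  (hT : T.ok = true) {R : List (List ℤ)} (hR : rootsOK T R = true)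

include hA hT hR

theorem root_mem {c : Fin T.l → ℤ} (hc : IsRoot cs h c) :
    ∃ v ∈ R, v.length = T.l ∧ (c = toF T.l v ∨ c = -toF T.l v) := by
  simp only [rootsOK, Bool.and_eq_true, List.all_eq_true, beq_iff_eq, forceL_eq, Bool.or_eq_true,
    List.contains_iff_mem] at hR
  obtain ⟨w, i, rfl⟩ := hc
  induction w using cs.simple_induction_left with
  | one =>
    have h1 := hR.1 i (List.mem_range.2 i.2)
    exact ⟨_, h1, (hR.2 _ h1).1, Or.inl (by rw [map_one, Module.End.one_apply, toF_unit])⟩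
  | mul_simple_left w j ih =>
    obtain ⟨v, hv, -, e⟩ := ih
    have h1 := toF_reflV hA hT j v
    rw [rep_mul_apply, rep_simple]
    rcases (hR.2 v hv).2 j (List.mem_range.2 j.2) with h2 | h2
    · refine ⟨_, h2, (hR.2 _ h2).1, e.imp (fun e => ?_) fun e => ?_⟩
      · rw [e, h1]
      · rw [e, h1, map_neg]
    · refine ⟨_, h2, (hR.2 _ h2).1, e.symm.imp (fun e => ?_) fun e => ?_⟩
      · rw [e, toF_neg, h1, map_neg]
      · rw [e, toF_neg, h1, neg_neg]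

theorem Cf.sound {S : Cf} (hS : S.ok T R = true) {r : ℕ} (hr : r.Prime) (hB : ¬ r ∣ S.B) {q : ℤ}
    (hq : (r : ℤ) ∣ peval (1 :: S.gt) q) : ∃ (a b : Fin T.l) (f : (Fin T.l → ℤ) →+ ℤ), a.1 = S.a ∧ b.1 = S.b ∧
      (∀ i, (r : ℤ) ∣ f (rep cs h (wordEl cs S.wd) (sr i)) - q * f (sr i)) ∧ f (sr a) = 0 ∧ f (sr b) = 0 ∧
      rep cs h (wordEl cs S.wd) (sr a) = sr b ∧ rep cs h (wordEl cs S.wd) (sr b) = sr a ∧
      ∀ c, IsRoot cs h c → 0 ≤ c → (r : ℤ) ∣ f c → c = sr a ∨ c = sr b ∨ (a ≠ b ∧ c = sr a + sr b) := by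
  simp only [Cf.ok, Bool.and_eq_true, decide_eq_true_eq, beq_iff_eq] at hS
  obtain ⟨⟨⟨⟨⟨⟨s1, ha⟩, hb⟩, s2⟩, s3, s4⟩, s5, s6⟩, s7, s8⟩ := hS
  let f : (Fin T.l → ℤ) →+ ℤ := AddMonoidHom.mk' (fun b => ∑ i, b i * vec T.l q S.xs i) fun x y => by
    simp only [Pi.add_apply, add_mul, Finset.sum_add_distrib]
  have hf : ∀ v : List ℤ, v.length = T.l → f (toF T.l v) = peval (S.val v) q := fun v hv => dot_vec hv q S.xs
  have hu : ∀ i : Fin T.l, f (sr i) = peval (S.val (T.unit i)) q := fun i => by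
    rw [← toF_unit, hf (T.unit i) (length_mkv _ _)]
  have hw : ∀ i : Fin T.l, rep cs h (wordEl cs S.wd) (sr i) = toF T.l (S.wd.foldr T.reflV (T.unit i)) := fun i => by
    rw [toF_word cs h hA hT s1, toF_unit]
  refine ⟨⟨_, ha⟩, ⟨_, hb⟩, f, rfl, rfl, fun i => ?_, (hu _).trans (peval_zeros q s5), (hu _).trans (peval_zeros q s6),
    by rw [hw, s3, ← toF_unit], by rw [hw, s4, ← toF_unit], fun c hc h0 hd => ?_⟩
  · have h1 := List.all_eq_true.1 s2 i (List.mem_range.2 i.2)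
    rw [forceL_eq, Bool.and_eq_true, beq_iff_eq] at h1
    have h2 := hq.trans (dvd_of_red1 h1.2 q)
    rw [peval_padd, peval_cons, peval_psmul] at h2
    rw [hw, hf _ h1.1, hu]
    refine (h2.trans (dvd_of_eq ?_))
    push_cast
    ring
  obtain ⟨v, hv, hl, e⟩ := root_mem cs h hA hT hR hc
  have hd' : (r : ℤ) ∣ peval (S.val v) q := by
    rcases e with e | e
    · rwa [e, hf _ hl] at hd
    · rwa [e, map_neg, dvd_neg, hf _ hl] at hd
  have h1 : 0 ≤ toF T.l v → c = toF T.l v := fun h1 =>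
    e.resolve_right fun e => hc.not_pos_neg h0 (e ▸ neg_nonpos.2 h1)
  obtain ⟨n, hn, rfl⟩ := List.getElem_of_mem hv
  have hn' : n < S.Us.length := s7 ▸ hn
  have h3 := List.all_eq_true.1 s8 (R[n], S.Us[n]) (by
    rw [← List.getElem_zip (h := by rw [List.length_zip]; omega)]
    exact List.getElem_mem _)
  simp only [forceI_eq, forceL_eq, Bool.and_eq_true, Bool.or_eq_true, bne_iff_ne, beq_iff_eq] at h3
  have ea := toF_unit T ⟨_, ha⟩
  have eb := toF_unit T ⟨_, hb⟩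
  rcases h3 with ((h3 | h3) | h3) | h3
  · rw [h3, ea] at h1
    exact Or.inl (h1 (sr_nonneg _))
  · rw [h3, eb] at h1
    exact Or.inr (Or.inl (h1 (sr_nonneg _)))
  · have h4 : toF T.l R[n] = sr ⟨_, ha⟩ + sr ⟨_, hb⟩ := by
      rw [h3.2, ← ea, ← eb]
      exact funext fun i => toF_mkv _ _ _
    rw [h4] at h1
    exact Or.inr (Or.inr ⟨fun e => h3.1 (congrArg Fin.val e), h1 (add_nonneg (sr_nonneg _) (sr_nonneg _))⟩)
  · have := Fact.mk hr
    have hg : peval (1 :: S.gt) (q : ZMod r) = 0 := by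
      rw [← peval_cast]
      exact (ZMod.intCast_zmod_eq_zero_iff_dvd _ _).2 hq
    have h4 : peval (S.val R[n]) (q : ZMod r) = 0 := by
      rw [← peval_cast]
      exact (ZMod.intCast_zmod_eq_zero_iff_dvd _ _).2 hd'
    have h5 := lead_eq_zero (ne_zero_of_root hg) (peval_redn hg (S.gt.length - 1)
      (Q := pmul S.Us[n] (S.val R[n])) (by rw [peval_pmul, h4, mul_zero]))
    have h6 := ((ZMod.intCast_zmod_eq_zero_iff_dvd _ _).1 h5).trans (Int.dvd_of_emod_eq_zero h3.2)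
    exact absurd (hr.dvd_of_dvd_pow (Int.natCast_dvd_natCast.1 h6)) hB

end Sound

open Cfsg.Lie Cfsg.Agent.ChevalleyStructure Cfsg.Agent.ChevalleyStructure.CoxeterGeomTypes
  Cfsg.Agent.Nodes.RGDChev Cfsg.Agent.BpExc.TowChev Cfsg.Agent.DL.Ex

/-- **The configuration from a certificate.** -/
theorem rc_of_cert {T : Ty} {C : ChevalleyDatum} {M : CoxeterMatrix (Fin T.l)} (hp : IsType C T.l M)
    (hA : ∀ i j, cartanOf C T.l i j = DL.Rows.Cert.get (T.row i) j) (hT : T.ok = true) {R : List (List ℤ)}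
    (hR : rootsOK T R = true) {S : Cf} (hS : S.ok T R = true) {p : ℕ} [Fact p.Prime] {k : Type} [Field k] [CharP k p]
    [IsAlgClosed k] (hk : LocFin k) {e : ℕ} (he : 0 < e) {H : Type u} [Group H] [Finite H] {ι : H →* ↥(C.group k)}
    {T0 : Subgroup ↥(C.group k)} (O : Over (frobA hp.inList p e) ⊤ T0 ι 1) {r : ℕ} (hr : r.Prime) (hrp : r ≠ p) (hrk : T.l + 1 < r)
    (hB : ¬ r ∣ S.B) (hq : (r : ℤ) ∣ peval (1 :: S.gt) ((p : ℤ) ^ e)) :
    ∃ (z : H) (U V : Subgroup _) (n0 : _), RC p r (e * if S.a = S.b then 1 else 3) z U V n0 ∧ (S.a = S.b → Tr U V) := by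
  let D := chev (p := p) hp hk he
  have : Finite M.Group := D.fW
  obtain ⟨a, b, f, ea, eb, h1, h2, h3, h4, h5, h6⟩ := Cf.sound M.toCoxeterSystem hp.isCartan hA hT hR hS hr hB hq
  obtain ⟨y, hy, hw⟩ := D.exists_type (wordEl M.toCoxeterSystem S.wd)
  have hF : y⁻¹ * frobA hp.inList p e y ∈ D.NN := ⟨_, hw⟩
  have hg : ∀ c, (D.conj hy hF).g c = rep M.toCoxeterSystem hp.isCartan (wordEl M.toCoxeterSystem S.wd) c :=
    fun c => by rw [D.conj_g, hw.pr_eq]; rfl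
  have hψ : ∀ c, D.ψ c = ((p : ℤ) ^ e) • c := fun c => funext fun i => Rows.ψ_apply (D := D) (π := id) (fun _ => rfl) c i
  have h7 : ∀ c, (r : ℤ) ∣ f (rep M.toCoxeterSystem hp.isCartan (wordEl M.toCoxeterSystem S.wd) c) - p ^ e * f c :=
    fun c => by
      have e1 : f (rep M.toCoxeterSystem hp.isCartan (wordEl M.toCoxeterSystem S.wd) c) =
          ∑ i, c i * f (rep M.toCoxeterSystem hp.isCartan (wordEl M.toCoxeterSystem S.wd) (sr i)) :=
        D.map_eq_sum (f.comp (rep M.toCoxeterSystem hp.isCartan (wordEl M.toCoxeterSystem S.wd)).toAddMonoidHom) c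
      have e2 : f c = ∑ i, c i * f (sr i) := D.map_eq_sum f c
      rw [e1, e2, Finset.mul_sum, ← Finset.sum_sub_distrib]
      refine Finset.dvd_sum fun i _ => ?_
      rw [mul_left_comm, ← mul_sub]
      exact (h1 i).mul_left _
  have h7' : ∀ c : Fin T.l → ℤ, (r : ℤ) ∣ f (((p : ℤ) ^ e) • rep M.toCoxeterSystem hp.isCartan
      (wordEl M.toCoxeterSystem S.wd)⁻¹ c) - f c := fun c => by
    have h8 := h7 (rep M.toCoxeterSystem hp.isCartan (wordEl M.toCoxeterSystem S.wd)⁻¹ c)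
    rwa [rep_apply_inv, ← dvd_neg, neg_sub, ← smul_eq_mul, ← map_zsmul] at h8
  have h45 : 0 ≤ rep M.toCoxeterSystem hp.isCartan (wordEl M.toCoxeterSystem S.wd) (sr a + sr b) := by
    rw [map_add, h4, h5]
    exact add_nonneg (sr_nonneg _) (sr_nonneg _)
  obtain ⟨z, U, V, n0, h8, h9⟩ := exists_rc (D.conj hy hF) ι O.inj (fun y => by rw [← O.range_eq]; rfl)
    (fun b => ⟨b, rfl⟩) (a := e) ⟨he, 1, one_pos, fun y => by rw [pow_one, mul_one]; exact coe_frobA hp.inList p e y⟩ hr hrp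
    ((congrArg (· + 1) (Fintype.card_fin _)).trans_lt hrk) f (fun c => by
      rw [Rows.conj_ψ, hw.pr_eq, hψ]
      exact h7' c)
    (α := sr a) (β := sr b) ⟨isRoot_sr _ _ a, sr_nonneg _, h2 ▸ dvd_zero _⟩
    ⟨isRoot_sr _ _ b, sr_nonneg _, h3 ▸ dvd_zero _⟩ ((hg _).trans h4) ((hg _).trans h5) (h45.trans_eq (hg _).symm)
    (if a = b then [sr a] else [sr a, sr b, sr a + sr b]) (fun c hc h0 hd => by
      split_ifs with hab
      · rcases h6 c hc h0 hd with e | e | e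
        · exact List.mem_singleton.2 e
        · exact List.mem_singleton.2 (hab ▸ e)
        · exact absurd hab e.1
      · rcases h6 c hc h0 hd with e | e | e
        · exact e ▸ List.mem_cons_self
        · exact e ▸ List.mem_cons_of_mem _ List.mem_cons_self
        · exact e.2 ▸ List.mem_cons_of_mem _ (List.mem_cons_of_mem _ List.mem_cons_self))
    (fun c hc => by
      split_ifs at hc with hab
      · exact Or.inl (List.mem_singleton.1 hc)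
      · exact (List.mem_cons.1 hc).imp id fun hc => (List.mem_cons.1 hc).imp id List.mem_singleton.1)
  have hab : S.a = S.b ↔ a = b := by rw [← ea, ← eb, Fin.ext_iff]
  refine ⟨z, U, V, n0, ?_, fun h => h9 a (if_pos (hab.1 h))⟩
  convert h8 using 2
  simp only [hab]
  split_ifs <;> rfl

end Cfsg.Agent.VAN.E
end

-- part: VAN/E/DatE8
section
/-!
# S4942: the certificates for `E₈` (helper5, generated)
-/

set_option autoImplicit false

namespace Cfsg.Agent.VAN.E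

open Cfsg.Agent.DL.Rows.Cert

def rtE8 : List (List ℤ) :=
    (let yq1 : List (List ℤ) := (let yq2 : List (List ℤ) := (let yq3 : List (List ℤ) := (let yq4 : List (List ℤ) := (let yq5 : List (List ℤ) := %[[2, 3, 4, 6, 5, 3, 2, 1], [2, 3, 4, 6, 5, 4, 2, 1], [2, 3, 4, 6, 5, 4, 3, 1],
    [2, 3, 4, 6, 5, 4, 3, 2] | []];
  %[[2, 3, 3, 5, 4, 3, 2, 1], [2, 2, 4, 5, 4, 3, 2, 1], [2, 3, 4, 5, 4, 3,
    2, 1], [2, 3, 4, 6, 4, 3, 2, 1] | yq5]);
  %[[1, 2, 2, 4, 4, 3, 2, 1], [2, 2,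
    3, 4, 3, 3, 2, 1], [1, 2, 3, 4, 4, 3, 2, 1], [2, 2, 3, 4, 4, 3, 2, 1], [1, 2, 3, 5, 4, 3, 2, 1], [2, 2, 3, 5,
    4, 3, 2, 1], [1, 3, 3, 5, 4, 3, 2, 1] | yq4]);
  (let yq6 : type_of% yq3 := (let yq7 : type_of% yq3 := %[[1, 2, 3, 4, 3, 2, 2, 1],
    [1, 2, 2, 4, 3, 3, 2, 1], [2, 2, 3, 4, 3, 2, 2, 1], [1, 2, 3, 4, 3, 3, 2, 1] | yq3];
  %[[1, 2, 3, 4, 3, 2,
    1, 1], [1, 2, 2, 4, 3, 2, 2, 1], [1, 2, 2, 3, 3, 3, 2, 1], [2, 2, 3, 4, 3, 2, 1, 1] | yq7]);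
  %[[1, 2, 2, 3, 2, 2, 2, 1], [1, 1, 2, 3, 3, 2, 2, 1], [1, 2, 3, 4, 3, 2, 1, 0], [1, 2, 2, 4,
    3, 2, 1, 1], [1, 2, 2, 3, 3, 2, 2, 1], [1, 1, 2, 3, 3, 3, 2, 1], [2, 2, 3, 4, 3, 2, 1, 0] | yq6]));
  (let yq8 : type_of% yq2 := (let yq9 : type_of% yq2 := (let yq10 : type_of% yq2 := %[[1, 1, 2, 3, 3, 2, 1, 1], [1, 1, 2, 3, 2, 2, 2, 1], [1, 2, 2, 4, 3, 2, 1, 0], [1, 2,
    2, 3, 3, 2, 1, 1] | yq2];
  %[[1, 1, 2, 3, 2, 2, 1, 1], [1, 1, 2, 2, 2, 2, 2, 1], [1, 2, 2, 3, 3, 2, 1, 0],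
    [1, 2, 2, 3, 2, 2, 1, 1] | yq10]);
  %[[1, 1, 2, 3, 2, 2, 1, 0], [1, 1, 2, 3,
    2, 1, 1, 1], [1, 1, 2, 2, 2, 2, 1, 1], [1, 1, 1, 2, 2, 2, 2, 1], [1, 2, 2, 3, 2, 2, 1, 0], [1, 2, 2, 3, 2, 1,
    1, 1], [1, 1, 2, 3, 3, 2, 1, 0] | yq9]);
  (let yq11 : type_of% yq8 := (let yq12 : type_of% yq8 := %[[1, 1, 2, 2, 2, 1, 1, 1], [1, 1,
    1, 2, 2, 2, 1, 1], [0, 1, 1, 2, 2, 2, 2, 1], [1, 2, 2, 3, 2, 1, 1, 0] | yq8];
  %[[0, 1, 1, 2, 2, 2, 1, 1],
    [1, 2, 2, 3, 2, 1, 0, 0], [1, 1, 2, 3, 2, 1, 1, 0], [1, 1, 2, 2, 2, 2, 1, 0] | yq12]);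
  %[[0, 1, 1, 2, 2, 2, 1, 0], [0, 1, 1, 2, 2, 1, 1, 1], [1, 1, 2, 3, 2, 1, 0, 0], [1, 1, 2, 2, 2, 1,
    1, 0], [1, 1, 2, 2, 1, 1, 1, 1], [1, 1, 1, 2, 2, 2, 1, 0], [1, 1, 1, 2, 2, 1, 1, 1] | yq11])));
  (let yq13 : type_of% yq1 := (let yq14 : type_of% yq1 := (let yq15 : type_of% yq1 := (let yq16 : type_of% yq1 := %[[1, 1, 2, 2, 2, 1, 0, 0], [1, 1, 2, 2, 1, 1, 1, 0], [1, 1, 1, 2, 2, 1, 1, 0], [1, 1, 1, 2,
    1, 1, 1, 1] | yq1];
  %[[1, 1, 1, 2, 1, 1, 1, 0], [1, 1, 1, 1, 1, 1, 1, 1], [0, 1, 1, 2, 2, 1, 1, 0], [0, 1,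
    1, 2, 1, 1, 1, 1] | yq16]);
  %[[1, 1, 1, 1, 1, 1, 1, 0], [1, 0, 1, 1, 1, 1,
    1, 1], [0, 1, 1, 2, 2, 1, 0, 0], [0, 1, 1, 2, 1, 1, 1, 0], [0, 1, 1, 1, 1, 1, 1, 1], [1, 1, 2, 2, 1, 1, 0, 0],
    [1, 1, 1, 2, 2, 1, 0, 0] | yq15]);
  (let yq17 : type_of% yq14 := (let yq18 : type_of% yq14 := %[[0, 1, 0, 1, 1, 1, 1, 1], [0, 0, 1, 1,
    1, 1, 1, 1], [1, 1, 2, 2, 1, 0, 0, 0], [1, 1, 1, 2, 1, 1, 0, 0] | yq14];
  %[[1, 1, 1, 1, 1, 1, 0, 0], [1, 0,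
    1, 1, 1, 1, 1, 0], [0, 1, 1, 2, 1, 1, 0, 0], [0, 1, 1, 1, 1, 1, 1, 0] | yq18]);
  %[[1, 0, 1, 1, 1, 1, 0, 0], [0, 1, 1, 2, 1, 0, 0, 0], [0, 1, 1, 1, 1, 1, 0, 0], [0, 1, 0, 1, 1, 1, 1, 0],
    [0, 0, 1, 1, 1, 1, 1, 0], [0, 0, 0, 1, 1, 1, 1, 1], [1, 1, 1, 2, 1, 0, 0, 0] | yq17]));
  (let yq19 : type_of% yq13 := (let yq20 : type_of% yq13 := (let yq21 : type_of% yq13 := %[[0, 0, 1, 1, 1, 1, 0, 0], [0, 0, 0, 1, 1, 1, 1, 0], [0, 0, 0, 0, 1, 1, 1, 1], [1, 1, 1, 1, 1, 0,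
    0, 0] | yq13];
  %[[1, 1, 1, 1, 0, 0, 0, 0], [1, 0, 1, 1, 1, 0, 0, 0], [0, 1, 1, 1, 1, 0, 0, 0], [0, 1, 0, 1,
    1, 1, 0, 0] | yq21]);
  %[[1, 0, 1, 1, 0, 0, 0, 0], [0, 1, 1, 1, 0, 0, 0, 0],
    [0, 1, 0, 1, 1, 0, 0, 0], [0, 0, 1, 1, 1, 0, 0, 0], [0, 0, 0, 1, 1, 1, 0, 0], [0, 0, 0, 0, 1, 1, 1, 0], [0, 0,
    0, 0, 0, 1, 1, 1] | yq20]);
  (let yq22 : type_of% yq19 := (let yq23 : type_of% yq19 := %[[0, 0, 0, 1, 1, 0, 0, 0], [0, 0, 0, 0, 1, 1,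
    0, 0], [0, 0, 0, 0, 0, 1, 1, 0], [0, 0, 0, 0, 0, 0, 1, 1] | yq19];
  %[[0, 0, 0, 0, 0, 0, 0, 1], [1, 0, 1, 0,
    0, 0, 0, 0], [0, 1, 0, 1, 0, 0, 0, 0], [0, 0, 1, 1, 0, 0, 0, 0] | yq23]);
  %[[1, 0, 0, 0, 0, 0, 0, 0], [0, 1, 0, 0, 0, 0, 0, 0], [0, 0, 1, 0, 0, 0, 0, 0], [0, 0, 0, 1, 0, 0, 0, 0], [0, 0,
    0, 0, 1, 0, 0, 0], [0, 0, 0, 0, 0, 1, 0, 0], [0, 0, 0, 0, 0, 0, 1, 0] | yq22]))))

theorem rtE8_ok : rootsOK tyE8 rtE8 = true := by decide +kernel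

def cf7 : Cf where
  wd := [1, 3, 4, 5, 6, 7]
  gt := [1, 1, 1, 1, 1, 1]
  a := 0
  b := 0
  B := 210
  xs :=
    [[0, 1, -1, 0, 0, 0, 0, 1], [0, -1, -1, 1, 0, 0, 0, 1], [0, 0, 0, -1, 1, 0, 0, 1], [0, 0, 0, 0, -1, 1, 0, 1],
    [0, 0, 0, 0, 0, -1, 1, 1], [0, 0, 0, 0, 0, 0, -1, 2]]
  Us :=
    (let yq24 : List (List ℤ) := (let yq25 : List (List ℤ) := (let yq26 : List (List ℤ) := (let yq27 : List (List ℤ) := (let yq28 : List (List ℤ) := %[[0, 0, -1, 0, 0, 0], [0, -1, 0, 0, 0, 0], [-1,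
    0, 0, 0, 0, 0], [1, 1, 1, 1, 1, 1] | []];
  %[[0, 0, 0, 0, 0, 1],
    [0, 0, 0, 0, 0, -1], [0, 0, 0, 0, -1, 0], [0, 0, 0, -1, 0, 0] | yq28]);
  %[[1, 1, 0, 1, 1, 1], [0, 0, 1, 0, 0, 0], [0, 0, 0,
    1, 0, 0], [0, 0, 0, 1, 0, 0], [0, 0, 0, 0, 1, 0], [0, 0, 0, 0, 1, 0], [0, 0, 0, 0, 0, 1] | yq27]);
  (let yq29 : type_of% yq26 := (let yq30 : type_of% yq26 := %[[0, 1, 0, 0, 0, 0],
    [0, 0, 1, 0, 1, 1], [0, 1, 0, 0, 0, 0], [0, 0, 1, 0, 0, 0] | yq26];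
  %[[1, 0, 0, 0, 0, 0], [-1, 0, -1, 0, 0, 0], [0, 0, 1, 1, 0, 1], [1, 0, 0, 0, 0, 0] | yq30]);
  %[[1, 1, 1, 1, 0, 1], [0, 1, 0, 1,
    1, 0], [-1, -1, -1, -1, -1, -1], [1, 0, 0, 0, 1, 1], [0, 1, 1, 1, 1, 1], [0, -1, 0, 0, 0, -1], [-1, -1, -1, -1,
    -1, -1] | yq29]));
  (let yq31 : type_of% yq25 := (let yq32 : type_of% yq25 := (let yq33 : type_of% yq25 := %[[1, 0,
    1, 1, 1, 1], [0, 1, 1, 0, 1, 0], [-1, 0, 0, -1, 0, 0], [0, -1, -1, 0, 0, 0] | yq25];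
  %[[1, 1, 1, 1, 1, 0], [-1, 0, 0, 0, -1, 0], [-1, -1, -1, 0, -1, 0], [0, 0, 0, -1, -1, 0] | yq33]);
  %[[-1, -1, 0, 0, 0, 0], [0,
    0, 0, -1, 0, -1], [1, 0, 1, 1, 0, 0], [0, 1, 0, 1, 0, 1], [0, -1, 0, -1, 0, 0], [1, 1, 0, 0, 0, 1], [-1, -1,
    -1, 0, 0, -1] | yq32]);
  (let yq34 : type_of% yq31 := (let yq35 : type_of% yq31 := %[[1, 1, 0, 1, 0, 0], [1, 0, 0, 1, 1, 0], [0, 1, 0, 1, 0, 1], [-1, 0, -1, -1, -1, 0] | yq31];
  %[[1, 0, 0, 1, 1, 0], [0, -1, 0, 0, -1, 0], [0, 0, -1, -1, 0, 0], [-1, 0, 0, 0, 0, -1] | yq35]);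
  %[[-1, -1, 0, -1, 0,
    -1], [0, 0, 0, 1, 1, 1], [0, -1, -1, -1, 0, -1], [0, 0, 0, 0, -1, -1], [1, 1, 1, 0, 1, 1], [-1, -1, 0, -1, 0,
    -1], [0, 0, 0, 1, 1, 1] | yq34])));
  (let yq36 : type_of% yq24 := (let yq37 : type_of% yq24 := (let yq38 : type_of% yq24 := (let yq39 : type_of% yq24 := %[[0, 0, -1, 0, -1, 0], [-1, 0, 0, -1, -1, -1], [0, 1, 0, 0, 1, 1], [1, 1, 1, 0, 0, 0] | yq24];
  %[[-1, -1, -1, -1, 0, 0], [0, 1, 1, 0, 0, 1], [0, 1, 0, 0, 1, 1], [1, 1, 1, 0, 0,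
    0] | yq39]);
  %[[0, 1, 1,
    1, 0, 0], [1, 0, 1, 0, 1, 0], [1, 0, 0, 1, 0, 1], [-1, -1, -1, -1, 0, 0], [0, 1, 1, 0, 0, 1], [0, -1, 0, -1,
    -1, -1], [1, 0, 0, 1, 0, 1] | yq38]);
  (let yq40 : type_of% yq37 := (let yq41 : type_of% yq37 := %[[1, 2, 3, 4, 5, 6], [1, 0, 1, 0, 1, 0], [0, 0, -1, 0, 0, -1], [-1, -1, 0, -1, -1, 0] | yq37];
  %[[0, -1, -1, -1, -1, 0], [-1, -1, 0, 0, -1, -1], [-1, -1, 0, -1, -1, 0], [0,
    1, 1, 1, 0, 0] | yq41]);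
  %[[0, 0, 1, 1,
    1, 0], [-1, 0, -1, -1, 0, -1], [0, -1, -1, -1, -1, 0], [-3, 1, -2, 2, -1, 3], [-1, -1, 0, 0, -1, -1], [4, 1, 5,
    2, 6, 3], [-1, 0, -1, -1, 0, -1] | yq40]));
  (let yq42 : type_of% yq36 := (let yq43 : type_of% yq36 := (let yq44 : type_of% yq36 := %[[0, 0, 1, 1, 1, 0], [-2, 3, 1, -1, 4, 2], [5, 3, 1, 6, 4, 2], [0, -1, -1, 0, -1, -1] | yq36];
  %[[1, 0, 1, 0, 0, 1], [0, 0, -1, -1, -1, -1], [0, -1, -1, 0, -1, -1], [-2, -4, 1,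
    -1, -3, 2] | yq44]);
  %[[1, 1, 0,
    0, 1, 0], [1, 0, 1, 0, 0, 1], [2, 4, -1, 1, 3, 5], [0, 0, -1, -1, -1, -1], [2, -3, -1, 1, 3, -2], [-5, -3, -1,
    1, -4, -2], [2, 4, 6, 1, 3, 5] | yq43]);
  (let yq45 : type_of% yq42 := (let yq46 : type_of% yq42 := %[[-4, -1, -5, -2, 1, -3], [3, -1, 2, 5, 1, 4], [-4, -1, 2, -2, 1, -3], [3, 6, 2, 5, 1, 4] | yq42];
  %[[6, 5, 4, 3, 2, 1], [-1, 0, -1, 0, -1, -1], [3, -1, 2, -2, 1, 4], [1, 1, 0,
    0, 1, 0] | yq46]);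
  %[[], [-1, -2, -3, -4, -5, 1], [-1, 0, -1, 0, -1, -1], [-1, -2, -3, -4, 2, 1], [-1, -2, -3, 3, 2, 1], [-1, -2,
    4, 3, 2, 1], [-1, 5, 4, 3, 2, 1] | yq45]))))

theorem cf7_ok : cf7.ok tyE8 rtE8 = true := by decide +kernel

def cf18 : Cf where
  wd :=
    (let yq47 : List ℕ := (let yq48 : List ℕ := (let yq49 : List ℕ := (let yq50 : List ℕ := %[2, 3,
    0, 2, 1 | []];
  %[2, 1, 3, 4, 0 | yq50]);
  (let yq51 : type_of% yq49 := %[3, 4, 5, 4, 3 | yq49];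
  %[2, 3, 0, 2, 1 | yq51]));
  (let yq52 : type_of% yq48 := (let yq53 : type_of% yq48 := %[5, 6, 1, 3, 4 | yq48];
  %[0, 2, 1, 3, 4 | yq53]);
  (let yq54 : type_of% yq52 := %[1, 3, 4, 2, 3 | yq52];
  %[2, 3, 4, 5 | yq54])));
  (let yq55 : type_of% yq47 := (let yq56 : type_of% yq47 := (let yq57 : type_of% yq47 := %[3, 4, 5, 6,
    7 | yq47];
  %[2, 3, 0, 2, 1 | yq57]);
  (let yq58 : type_of% yq56 := %[4, 5, 1, 3, 4 | yq56];
  %[6, 0, 2, 3 | yq58]));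
  (let yq59 : type_of% yq55 := (let yq60 : type_of% yq55 := %[2, 1, 3, 4, 5 | yq55];
  %[5, 6, 7, 4, 3 | yq60]);
  (let yq61 : type_of% yq59 := %[0, 2, 1, 3, 4 | yq59];
  %[3, 4, 2, 3 | yq61]))))
  gt := [0, 0, -1, 0, 0, 1]
  a := 6
  b := 7
  B := 210
  xs :=
    [[2, -1, -1, 2, -2, 1, 0, 0], [-2, 4, 1, -2, -1, 1, 0, 0], [-1, -4, -1, 2, 1, 0, 0, 0], [-1, 2, 2, -4, 4, -2,
    0, 0], [4, -2, -2, 1, -1, 1, 0, 0], [-1, 2, -1, 2, -2, 0, 0, 0]]
  Us :=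
    (let yq62 : List (List ℤ) := (let yq63 : List (List ℤ) := (let yq64 : List (List ℤ) := (let yq65 : List (List ℤ) := (let yq66 : List (List ℤ) := %[[2, 2, 2, -1, -2, -2], [-1, 0, 0, 1, 1, 2], [-1, 0, 0,
    1, 1, 2], [-1, 0, 0, 1, 1, 2] | []];
  %[[1, 1, 1, 0, 0, 0], [-1, -1, -1,
    0, 0, 1], [-2, -2, -2, 0, 1, 2], [0, -1, -2, -2, -1, 0] | yq66]);
  %[[0, 0, 1, 1, 0, 0], [-1, -1, -1, 1, 1, 2], [-1, -1, 0, 1, 1, 1], [0,
    0, 1, 1, 1, 1], [-2, -2, -1, 2, 2, 2], [1, 2, 2, 1, 0, 0], [0, 0, 1, 2, 2, 1] | yq65]);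
  (let yq67 : type_of% yq64 := (let yq68 : type_of% yq64 := %[[-1, -2, -1, 0, 0, 0], [0, 0, 0, 1, 1, 1], [2,
    1, 0, -3, -3, -2], [0, -1, -1, 0, 1, 1] | yq64];
  %[[-1, -2, -1, 0, 0, 0],
    [2, 1, 1, 0, 0, -1], [0, 0, 0, 0, 1, 1], [2, 1, 0, -3, -3, -2] | yq68]);
  %[[-2, -2, -1, 2, 3, 3], [-1, 0, 1, 3, 2, 2], [-1, -2, -1, 0, 0,
    0], [2, 1, 1, 0, 0, -1], [0, 1, 2, 1, 0, 0], [-1, 0, 0, 1, 0, 1], [2, 1, 0, -3, -3, -2] | yq67]));
  (let yq69 : type_of% yq63 := (let yq70 : type_of% yq63 := (let yq71 : type_of% yq63 := %[[-1, 0, 1, 3, 2, 2], [-1, -1, -2, 0,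
    1, 2], [2, 1, 1, 0, 0, -1], [0, 1, 2, 1, 0, 0] | yq63];
  %[[-1, -1, -2,
    0, 1, 2], [-1, -1, 0, 0, 1, 1], [0, 1, 2, 1, 0, 0], [-2, -2, -1, 2, 3, 3] | yq71]);
  %[[-1, -1, -2, 0, 1, 2], [0, 0, 0, -1, -2, -1], [-1, -1, 0,
    0, 1, 1], [0, 1, 0, 1, 0, 1], [-2, -2, -1, 2, 3, 3], [2, 1, 0, -2, -1, -1], [-1, 0, 1, 3, 2, 2] | yq70]);
  (let yq72 : type_of% yq69 := (let yq73 : type_of% yq69 := %[[-1, -2, -2, -2, -1, 0], [0, 1, 0,
    1, 0, 1], [0, -1, 0, 1, 1, 1], [2, 1, 0, -2, -1, -1] | yq69];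
  %[[0, -1, 0, 1,
    1, 1], [2, 1, 0, -2, -1, -1], [0, 0, 0, -1, -2, -1], [-1, -1, 0, 0, 1, 1] | yq73]);
  %[[0, -1, 0, 1, 1, 1], [2, 2, 3, 1, 0, -1], [0, 0, 0, -1,
    -2, -1], [-1, -2, -2, -2, -1, 0], [0, -1, -1, -1, 0, 1], [0, 1, 0, 1, 0, 1], [1, 1, 1, 0, -1, 0] | yq72])));
  (let yq74 : type_of% yq62 := (let yq75 : type_of% yq62 := (let yq76 : type_of% yq62 := (let yq77 : type_of% yq62 := %[[-1, -2, -2, -2, -1, 0], [0, -1, -1,
    -1, 0, 1], [1, 1, 1, 0, -1, 0], [3, 3, 2, -1, -2, -2] | yq62];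
  %[[3, 3, 2, -1,
    -2, -2], [0, 1, 2, 2, 2, 1], [2, 2, 3, 1, 0, -1], [-2, -3, -3, 0, 1, 2] | yq77]);
  %[[0, 1, 2, 2, 2, 1], [-3, -2, -2, 2, 2, 3], [2, 2, 3, 1, 0,
    -1], [-2, -3, -3, 0, 1, 2], [-1, -2, -1, 1, 2, 1], [0, -1, -1, -1, 0, 1], [1, 1, 1, 0, -1, 0] | yq76]);
  (let yq78 : type_of% yq75 := (let yq79 : type_of% yq75 := %[[1, 0, 1, 0, 1, 0], [-1, -1, -1, 1, 0,
    1], [0, 0, 0, -1, -1, 0], [3, 3, 2, -1, -2, -2] | yq75];
  %[[0, 1, 2, 2, 2,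
    1], [-3, -2, -2, 2, 2, 3], [-2, -3, -3, 0, 1, 2], [-1, -2, -1, 1, 2, 1] | yq79]);
  %[[-3, -2, -2, 2, 2, 3], [1, 0, 0, -1, -1, -1], [-1, -2, -1,
    1, 2, 1], [1, 0, 1, 0, 1, 0], [-1, -1, -1, 1, 0, 1], [0, 0, 1, 2, 1, 0], [1, 1, 0, -1, -1, 0] | yq78]));
  (let yq80 : type_of% yq74 := (let yq81 : type_of% yq74 := (let yq82 : type_of% yq74 := %[[-1, -1, -1, 1, 0, 1], [0, 0, 1, 2,
    1, 0], [-1, 0, 1, 1, 1, 0], [1, 1, 1, -1, -1, -1] | yq74];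
  %[[1, 0, 0, -2,
    -1, -1], [1, 1, 0, -1, -2, -1], [1, 0, 0, -2, -2, -2], [1, 0, 1, 0, 1, 0] | yq82]);
  %[[0, 0, -1, -1, -1, 0], [0, -1, -1, -1, 0, 0], [1, 0, 1,
    0, 0, -1], [0, -1, -1, -1, -1, 0], [0, 0, 1, 2, 1, 0], [-1, 0, 1, 1, 1, 0], [-1, 0, -1, 1, 1, 1] | yq81]);
  (let yq83 : type_of% yq80 := (let yq84 : type_of% yq80 := %[[1, 1, 1, 0,
    -1, -1], [-1, 0, 1, 1, 1, 0], [-1, 0, -1, 1, 1, 1], [] | yq80];
  %[[], [-1, -1, -1, -1, 0, 0], [2, 1, 1, -1, -1, -1], [0, -1, -1, 0, 0, 0] | yq84]);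
  %[[1, 2, 1, 0, -1, -1], [2, 2, 2, 0, 0, -1], [-1, -1, 0, 0, 0, 0], [2, 1, 0, -2, -2, -2], [1, 1, 2, 0, 0, -1],
    [-1, 0, -1, 1, 1, 1], [] | yq83]))))

theorem cf18_ok : cf18.ok tyE8 rtE8 = true := by decide +kernel

end Cfsg.Agent.VAN.E
end

-- part: VAN/E/Semi
section
/-!
# S4942: sums over the `p`-elements modulo `r` (helper5)

* `semi` : `χ (z c) ≠ 0` for an `r`-element `z` and an `r'`-element `c` of its centraliser gives a character `ψ` of the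
  centraliser with `ψ c ≠ 0` whose central character on the `p`-elements is congruent to the one of `χ`;
* `om_cases` : the values of this central character in a group of rank one.
-/

set_option autoImplicit false

namespace Cfsg.Agent.VAN.E

open Cfsg Cfsg.Agent.Characters Cfsg.Agent.H730.OZ Cfsg.Agent.H695.OneZero Cfsg.Agent.Blocks.Basic

universe u

variable {G : Type u} [Group G]

/-- the central character on the `p`-elements is `ω` -/
def Om (p : ℕ) (χ : G → ℂ) (ω : ℤ) : Prop := ∑ᶠ u ∈ pSet p G, χ u = (ω : ℂ) * χ 1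

theorem conj_mem_pSet {p : ℕ} (g h : G) : h * g * h⁻¹ ∈ pSet p G ↔ g ∈ pSet p G := by
  have e : orderOf (h * g * h⁻¹) = orderOf g :=
    orderOf_injective (MulAut.conj h).toMonoidHom (MulAut.conj h).injective g
  show (∃ k : ℕ, orderOf (h * g * h⁻¹) = p ^ k) ↔ ∃ k : ℕ, orderOf g = p ^ k
  rw [e]

theorem Om.sum_eq [Fintype G] {p : ℕ} {χ : G → ℂ} {ω : ℤ} (h : Om p χ ω) (h1 : χ 1 ≠ 0) [DecidablePred (· ∈ pSet p G)] :
    ∑ g : G, (if g ∈ pSet p G then (1 : ℂ) else 0) * (χ g / χ 1) = ω := by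
  rw [Om, finsum_pSet] at h
  rw [Finset.sum_congr rfl (g := fun g => if g ∈ pSet p G then χ g / χ 1 else 0) fun g _ => by split_ifs <;> simp,
    ← Finset.sum_filter, ← Finset.sum_div, h, mul_div_cancel_right₀ _ h1]

/-- **The congruence.** -/
theorem semi [Finite G] {p r : ℕ} (hr : r.Prime) {z c : G} (hz : ∃ k : ℕ, orderOf z = r ^ k)
    (hc : c ∈ Subgroup.centralizer ({z} : Set G)) (hcr : ¬ r ∣ orderOf c) {χ : G → ℂ} (hχ : IsIrrCharacter G χ)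
    (h0 : χ (z * c) ≠ 0) {lam : ℤ} (hs : Om p χ lam) :
    ∃ ψ : Subgroup.centralizer ({z} : Set G) → ℂ, IsIrrCharacter _ ψ ∧ ψ ⟨c, hc⟩ ≠ 0 ∧
      ∀ ω : ℤ, Om p ψ ω → (r : ℤ) ∣ lam - ω := by
  classical
  have := Fintype.ofFinite G
  have : Fact r.Prime := ⟨hr⟩
  obtain ⟨M, hM⟩ := Cfsg.Agent.Blocks.ExistsModular.exists_isPModular hr
  have hMp : M.IsPrime := hM.2.1.isPrime
  have hfin := Core.finite_irr (G := Subgroup.centralizer ({z} : Set G))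
  have : Fintype (IrrCharacter (Subgroup.centralizer ({z} : Set G))) := Fintype.ofFinite _
  have hB : IsPBlock M (blockOf M χ) := ⟨⟨χ, hχ⟩, rfl⟩
  have h1 := apply_eq_sum_induced hM hz hB (mem_blockOf_self ⟨χ, hχ⟩)
    (Finset.univ.filter fun ψ => IsInducedBlock M (Subgroup.centralizer ({z} : Set G)) (blockOf M ψ.1) (blockOf M χ))
    (fun ψ => by simp) ⟨c, hc⟩ (by rwa [Subgroup.orderOf_mk])
  obtain ⟨ψ, hψ, h2⟩ := Finset.exists_ne_zero_of_sum_ne_zero (fun h => h0 (h1.trans h))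
  refine ⟨ψ.1, ψ.2, right_ne_zero_of_mul h2, fun ω hω => ?_⟩
  have h3 := (Finset.mem_filter.1 hψ).2.2.2 ψ (mem_blockOf_self ψ) ⟨χ, hχ⟩ (mem_blockOf_self ⟨χ, hχ⟩)
  have h4 := Blocks.ClassSum.memLocalIdeal_of_induced (M := M) _ (irr_isClassFunction hχ) h3
    (f := fun g => if g ∈ pSet p G then (1 : ℂ) else 0) (fun g h => by simp only [conj_mem_pSet]) (fun g => by
      split_ifs
      · exact Blocks.Local.memLocalRing_one
      · exact Blocks.Local.memLocalRing_zero)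
  have h5 : ∀ x : Subgroup.centralizer ({z} : Set G), (x : G) ∈ pSet p G ↔ x ∈ pSet p _ := fun x => by
    show (∃ k : ℕ, orderOf (x : G) = p ^ k) ↔ ∃ k : ℕ, orderOf x = p ^ k
    rw [Subgroup.orderOf_coe]
  simp only [h5] at h4
  rw [hω.sum_eq (irr_one_ne_zero ψ.2), hs.sum_eq (irr_one_ne_zero hχ)] at h4
  have h6 : (ω : ℂ) - lam = ((ω - lam : ℤ) : ℂ) := by simp
  rw [h6, Blocks.Local.memLocalIdeal_intCast_iff hM (ω - lam)] at h4
  rwa [dvd_sub_comm]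

section Rank

variable [Finite G] {U T : Subgroup G} {n0 : G} (h : Rk1 U T n0)

/-- a group of rank one as a split pair -/
def toSplit : H664.R1.Split G where
  B := h.bor
  U := U
  T := T
  w := n0
  UB := h.U_le
  TB := h.T_le
  nU _ hb _ hu := h.conj_mem_U hb hu
  dec _ hb := hb
  disj := h.UT
  comm := h.comm
  wT := h.n0T
  wT' := by
    intro t ht
    let f : T → T := fun t => ⟨n0⁻¹ * t * n0, h.n0T t t.2⟩
    have hf : Function.Injective f := fun a b hab =>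
      Subtype.ext (mul_left_cancel (mul_right_cancel (congrArg Subtype.val hab : n0⁻¹ * (a : G) * n0 = n0⁻¹ * b * n0)))
    obtain ⟨s, hs⟩ := (Finite.injective_iff_surjective.1 hf) ⟨t, ht⟩
    have h1 : n0⁻¹ * (s : G) * n0 = t := congrArg Subtype.val hs
    have h2 : n0 * t * n0⁻¹ = s := by rw [← h1]; group
    rw [h2]
    exact s.2
  cap _ hb hb' := h.mem_T_of hb hb'
  big _ hx := by
    obtain ⟨u, hu, b, hb, e⟩ := h.exists_of_notMem hx
    exact ⟨u, h.U_le hu, b, hb, e⟩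
  wB := h.n0_notMem

open Cfsg.Agent.Characters.Core Cfsg.Agent.H664.R1 in
/-- the characters according to their fixed vectors -/
theorem split_cases [Fintype G] (D : Split G) [Fintype D.U] {χ : G → ℂ} (hχ : IsIrrCharacter G χ) :
    (∑ u : D.U, χ u = 0) ∨ (∑ u : D.U, χ u = 2 * Nat.card D.U ∧ χ 1 = Nat.card D.U + 1 ∧
      ∀ g, (∀ x : G, x⁻¹ * g * x ∉ D.B) → χ g = 0) ∨
    ∃ d d' : ℕ, 0 < d ∧ 0 < d' ∧ χ 1 = d ∧ d + d' = Nat.card D.U + 1 ∧ ∑ u : D.U, χ u = Nat.card D.U ∧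
      d ∣ (Nat.card D.U + 1) * Nat.card D.U ∧ d' ∣ (Nat.card D.U + 1) * Nat.card D.U := by
  classical
  have hsum : ∀ {φ : G → ℂ} {k : ℂ}, classInner (fun u : D.U => φ u) 1 = k → ∑ u : D.U, φ u = k * Nat.card D.U := by
    intro φ k hk
    rw [Core.classInner_def] at hk
    simp only [Pi.one_apply, map_one, mul_one] at hk
    rw [← hk, mul_comm, ← mul_assoc, mul_inv_cancel₀ card_ne_zero_complex, one_mul]
  by_cases h0 : ∑ u : D.U, χ u = 0
  · exact Or.inl h0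
  refine Or.inr ?_
  have h1 : classInner (fun u : D.U => χ u) 1 ≠ 0 := fun h => h0 (by rw [hsum h, zero_mul])
  obtain ⟨f, hf, hne⟩ := D.exists_ps hχ h1
  have h7 := D.inner_U_one f hf
  by_cases hinv : ∀ t, ∀ ht : t ∈ D.T, f ⟨t, D.TB ht⟩ = f ⟨D.w⁻¹ * t * D.w, D.TB (D.wT t ht)⟩
  swap
  · left
    push Not at hinv
    have h2 := D.isIrr_ps f hinv
    have h3 : χ = D.ps f := by
      by_contra h3
      exact hne (classInner_irr_ne h2 hχ (fun h => h3 h.symm))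
    rw [h3]
    exact ⟨hsum h7, D.ps_one f, fun g hg => H956.OZ.R1.ps_zero D f hg⟩
  right
  obtain ⟨χ', hχ', hne', hs⟩ : ∃ χ' : G → ℂ, IsIrrCharacter G χ' ∧ χ' ≠ χ ∧ D.ps f = χ + χ' := by
    obtain ⟨a, b, hab, h⟩ := exists_two (D.isCharacter_ps f) (D.norm_ps f hinv)
    by_cases ha : (a : G → ℂ) = χ
    · exact ⟨b, b.2, fun hb => hab (Subtype.ext (ha.trans hb.symm)), by rw [h, ha]⟩
    by_cases hb : (b : G → ℂ) = χ
    · exact ⟨a, a.2, ha, by rw [h, hb, add_comm]⟩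
    · exfalso
      apply hne
      rw [h, classInner_add_left, classInner_irr_ne a.2 hχ ha, classInner_irr_ne b.2 hχ hb, add_zero]
  obtain ⟨k, hk⟩ := classInner_isNat (isCharacter_comp D.U.subtype (isIrr_isCharacter hχ)) (isCharacter_one (G := D.U))
  obtain ⟨k', hk'⟩ := classInner_isNat (isCharacter_comp D.U.subtype (isIrr_isCharacter hχ'))
    (isCharacter_one (G := D.U))
  have e1 : classInner (fun u : D.U => χ u) 1 = k := hk
  have e2 : classInner (fun u : D.U => χ' u) 1 = k' := hk'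
  have h6 : classInner (fun u : D.U => χ' u) 1 ≠ 0 := by
    apply D.inner_ne_zero f hf hχ'
    rw [hs, classInner_add_left, classInner_irr_self hχ', classInner_irr_ne hχ hχ' hne'.symm, zero_add]
    exact one_ne_zero
  rw [hs] at h7
  have h8 := D.inner_add_U χ χ' (1 : D.U → ℂ)
  rw [h7, e1, e2] at h8
  have h9 : 2 = k + k' := by exact_mod_cast h8
  have hk0 : k ≠ 0 := by rintro rfl; exact h1 (by rw [e1, Nat.cast_zero])
  have hk0' : k' ≠ 0 := by rintro rfl; exact h6 (by rw [e2, Nat.cast_zero])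
  have hk1 : k = 1 := by omega
  have hk1' : k' = 1 := by omega
  obtain ⟨d, hd0, hd⟩ := isIrr_apply_one hχ
  obtain ⟨d', hd0', hd'⟩ := isIrr_apply_one hχ'
  refine ⟨d, d', hd0, hd0', hd, ?_, ?_, ?_, ?_⟩
  · have := congrFun hs 1
    rw [D.ps_one, Pi.add_apply, hd, hd'] at this
    exact_mod_cast this.symm
  · rw [hsum e1, hk1, Nat.cast_one, one_mul]
  · have := H956.OZ.R1.deg_dvd D hχ hd e1
    rwa [hk1, mul_one] at this
  · have := H956.OZ.R1.deg_dvd D hχ' hd' e2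
    rwa [hk1', mul_one] at this

include h in
/-- **The central character in rank one.** -/
theorem om_cases {p v : ℕ} (hp : p.Prime) (hU : Nat.card U = p ^ v) (hT : ¬ p ∣ Nat.card T) {ψ : G → ℂ}
    (hψ : IsIrrCharacter G ψ) :
    Om p ψ (-(p : ℤ) ^ v) ∨ (Om p ψ ((p : ℤ) ^ v) ∧ ∀ g, (∀ x : G, x⁻¹ * g * x ∉ h.bor) → ψ g = 0) ∨
      ∃ j d : ℕ, j ≤ 2 * v ∧ Om p ψ ((p : ℤ) ^ j) ∧ ψ 1 = d ∧ d * (p ^ v + p ^ j) = p ^ v * (p ^ v + 1) ∧
        p ^ v + p ^ (2 * v - j) ∣ p ^ v * (p ^ v + 1) ∧ ∑ᶠ u : U, ψ u = (p : ℂ) ^ v := by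
  classical
  have := Fintype.ofFinite G
  have hfU : Fintype U := Fintype.ofFinite _
  have hS := h.sum_pel hp (IsPGroup.of_card hU) hT ψ (fun x v => irr_conj hψ v x)
    (Finset.univ.filter (· ∈ pSet p G)) fun v => by
      rw [Finset.mem_filter]; exact ⟨fun h => h.2, fun h => ⟨Finset.mem_univ _, h⟩⟩
  rw [← finsum_pSet, hU] at hS
  have hc := @split_cases G _ _ _ (toSplit h) hfU ψ hψ
  have e : Nat.card (toSplit h).U = p ^ v := hU
  rw [e] at hc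
  rcases hc with h1 | ⟨h1, h2, h3⟩ | ⟨d, d', hd, hd', h1, h2, h3, h4, h5⟩
  · left
    have h1' : ∑ u : U, ψ u = 0 := h1
    rw [Om, hS, h1']
    push_cast
    ring
  · right; left
    have h1' : ∑ u : U, ψ u = 2 * ((p ^ v : ℕ) : ℂ) := h1
    refine ⟨?_, h3⟩
    rw [Om, hS, h1', h2]
    push_cast
    ring
  · right; right
    have h3' : ∑ u : U, ψ u = ((p ^ v : ℕ) : ℂ) := h3
    obtain ⟨Q, hQ⟩ : ∃ Q, Q = p ^ v := ⟨_, rfl⟩
    rw [← hQ] at h2 h4 h5 hS h3'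
    have hQ0 : 0 < Q := hQ ▸ pow_pos hp.pos v
    -- `ω d = Q d'`, `ω' d' = Q d`
    have key : ∀ {d d' : ℕ}, d + d' = Q + 1 → d ∣ (Q + 1) * Q → ∃ ω, ω * d = Q * d' := by
      intro d d' h2 h4
      rw [← h2, add_mul] at h4
      obtain ⟨ω, hω⟩ := (Nat.dvd_add_right (Dvd.intro _ rfl)).1 h4
      exact ⟨ω, by rw [mul_comm Q, hω, mul_comm]⟩
    obtain ⟨ω, hω⟩ := key h2 h4
    obtain ⟨ω', hω'⟩ := key (by rw [add_comm]; exact h2) h5
    have h6 : ω * ω' = p ^ (2 * v) := by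
      apply Nat.eq_of_mul_eq_mul_right (Nat.mul_pos hd hd')
      calc ω * ω' * (d * d') = (ω * d) * (ω' * d') := by ring
        _ = _ := by rw [hω, hω', hQ]; ring
    obtain ⟨j, hj, rfl⟩ := (Nat.dvd_prime_pow hp).1 (Dvd.intro _ h6)
    have h7 : ω' = p ^ (2 * v - j) := by
      apply Nat.eq_of_mul_eq_mul_left (pow_pos hp.pos j)
      rw [h6, ← pow_add, Nat.add_sub_cancel' hj]
    refine ⟨j, d, hj, ?_, h1, ?_, ?_, ?_⟩
    · rw [Om, hS, h3', h1]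
      have e1 : ((p ^ j * d : ℕ) : ℂ) = ((Q * d' : ℕ) : ℂ) := by rw [hω]
      have e2 : ((d + d' : ℕ) : ℂ) = ((Q + 1 : ℕ) : ℂ) := by rw [h2]
      push_cast at e1 e2 ⊢
      linear_combination (-1 : ℂ) * e1 - Q * e2
    · rw [← hQ, ← h2, mul_add, mul_add, ← hω]
      ring
    · rw [← hQ, ← h7]
      refine Dvd.intro_left d' ?_
      rw [← h2, mul_add, mul_add, ← hω']
      ring
    · rw [finsum_eq_sum_of_fintype, h3', hQ, Nat.cast_pow]

end Rank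

end Cfsg.Agent.VAN.E
end

-- part: VAN/E/Abs
section
/-!
# S4942: elements with a centraliser of rank one (helper5)

`RC.card_U` : the order of `U`; `RC.ell` : an element `z y`, `y` elliptic; `RC.uni` : an element `z u`, `u` unipotent.
-/

set_option autoImplicit false

namespace Cfsg.Agent.VAN.E

open Cfsg Cfsg.Agent.Characters Cfsg.Agent.H730.OZ Cfsg.Agent.H695.OneZero Cfsg.Agent.Blocks.Basic

universe u

section Rank

variable {C : Type u} [Group C] [Finite C] {U T : Subgroup C} {n0 : C} (h : Rk1 U T n0)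

include h

theorem ncard_pSet {p : ℕ} (hp : p.Prime) (hU : IsPGroup p U) (hT : ¬ p ∣ Nat.card T) :
    (pSet p C).ncard = Nat.card U ^ 2 := by
  classical
  have := Fintype.ofFinite C
  have := Fintype.ofFinite U
  have h1 := h.sum_pel hp hU hT (fun _ => 1) (fun _ _ => rfl) (pSet p C).toFinset fun v => Set.mem_toFinset
  rw [Finset.sum_const, Finset.sum_const, Finset.card_univ, ← Nat.card_eq_fintype_card, ← Set.ncard_eq_toFinset_card'] at h1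
  have h2 : (((pSet p C).ncard : ℕ) : ℂ) = ((Nat.card U ^ 2 : ℕ) : ℂ) := by
    simp only [nsmul_eq_mul, mul_one] at h1
    rw [h1]
    push_cast
    ring
  exact_mod_cast h2

/-- `r`-elements of the torus are central -/
theorem central (hT : Tr U T) {r : ℕ} (hr : r.Prime) (hrU : ¬ r ∣ Nat.card U - 1) {t : C} (ht : t ∈ T) {k : ℕ}
    (hk : t ^ r ^ k = 1) (g : C) : t * g = g * t := by
  classical
  have : Fact r.Prime := ⟨hr⟩
  have key : ∀ t ∈ T, t ^ r ^ k = 1 → ∀ u ∈ U, t * u * t⁻¹ = u := by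
    intro t ht hk u hu
    by_cases hu1 : u = 1
    · rw [hu1, mul_one, mul_inv_cancel]
    have := Fintype.ofFinite U
    let f : Function.End {u : U // u ≠ 1} := fun v => ⟨⟨t * v.1 * t⁻¹, h.TU t ht _ v.1.2⟩, fun e =>
      v.2 (Subtype.ext (conj_eq_one_iff.1 (congrArg Subtype.val e)))⟩
    have h1 : ∀ n : ℕ, ∀ v, (((f ^ n) v).1 : C) = t ^ n * v.1 * (t ^ n)⁻¹ := fun n => by
      induction n with
      | zero => intro v; simp; rfl
      | succ n ih =>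
        intro v
        rw [pow_succ', pow_succ']
        show t * ((f ^ n) v).1 * t⁻¹ = _
        rw [ih]
        group
    have h2 := Equiv.Perm.card_fixedPoints_modEq (f := f) (p := r) (n := k) (funext fun v =>
      Subtype.ext (Subtype.ext (by rw [h1, hk]; simp; rfl)))
    rw [Fintype.card_subtype_compl, Fintype.card_subtype_eq, ← Nat.card_eq_fintype_card] at h2
    obtain ⟨v, hv⟩ : Nonempty f.fixedPoints := by
      by_contra hne
      rw [not_nonempty_iff] at hne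
      rw [Fintype.card_eq_zero] at h2
      exact hrU ((Nat.modEq_zero_iff_dvd).1 h2)
    have h3 : t * v.1 * t⁻¹ = v.1 := congrArg (fun x => (x.1 : C)) hv
    obtain ⟨s, hs, e⟩ := hT _ v.1.2 u hu (fun e => v.2 (Subtype.ext e)) hu1
    calc t * u * t⁻¹ = (t * s) * v.1 * (t * s)⁻¹ := by rw [← e]; group
      _ = s * (t * v.1 * t⁻¹) * s⁻¹ := by rw [h.comm t ht s hs]; group
      _ = u := by rw [h3, e]
  let Z := Subgroup.centralizer ({t} : Set C)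
  have hZ : ∀ g, t * g * t⁻¹ = g → g ∈ Z := fun g e x hx => by rw [hx, ← mul_inv_eq_iff_eq_mul, e]
  have hB : h.bor ≤ Z := by
    rintro _ ⟨u, hu, s, hs, rfl⟩
    exact mul_mem (hZ u (key t ht hk u hu)) (hZ s (by rw [h.comm t ht s hs, mul_inv_cancel_right]))
  have hn : n0 ∈ Z := by
    obtain ⟨u, hu, hu1⟩ := h.U1
    have h1 : n0⁻¹ * u * n0 ∉ h.bor := fun ⟨v, hv, s, hs, e⟩ => hu1 (h.disj u hu v hv s hs e)
    obtain ⟨v, hv, b, hb, e⟩ := h.exists_of_notMem h1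
    have h2 : n0⁻¹ * u * n0 ∈ Z := hZ _ (by
      have h3 := key _ ((toSplit h).wT' t ht) (by rw [conj_pow, hk, mul_one, mul_inv_cancel]) u hu
      have h4 : n0 * t * n0⁻¹ * u * (n0 * t * n0⁻¹)⁻¹ = u := h3
      conv_rhs => rw [← h4]
      group)
    have h3 := mul_mem (mul_mem (inv_mem (hB (h.U_le hv))) h2) (inv_mem (hB hb))
    rwa [e, mul_assoc v, inv_mul_cancel_left, mul_inv_cancel_right] at h3
  have hg : g ∈ Z := by
    by_cases hg : g ∈ h.bor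
    · exact hB hg
    · obtain ⟨v, hv, b, hb, rfl⟩ := h.exists_of_notMem hg
      exact mul_mem (mul_mem (hB (h.U_le hv)) hn) (hB hb)
  exact hg t rfl

/-- an elliptic element of order prime to `r` -/
theorem exists_ell (hT : Tr U T) {r : ℕ} (hr : r.Prime) (h0 : ¬ r ∣ Nat.card U - 1) (h1 : ¬ r ∣ Nat.card U)
    (h2 : ¬ r ∣ Nat.card U + 1) : ∃ y : C, ¬ r ∣ orderOf y ∧ ∀ x : C, x⁻¹ * y * x ∉ h.bor := by
  have : Fact r.Prime := ⟨hr⟩
  obtain ⟨g, hg⟩ := H395.Jordan.exists_not_conj_mem h.bor_ne_top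
  obtain ⟨s, y, rfl, -, -, -, ⟨k, hk⟩, hy⟩ := Blocks.RegularCount.exists_pPart (p := r) g
  refine ⟨y, hy, fun x hx => hg x ?_⟩
  have h3 : IsPGroup r (Subgroup.zpowers s) := IsPGroup.of_card (n := k) (by rw [Nat.card_zpowers, hk])
  have h4 : Nat.card (C ⧸ T) = (Nat.card U + 1) * Nat.card U := by
    apply Nat.eq_of_mul_eq_mul_right (Nat.card_pos (α := T))
    rw [← Subgroup.card_eq_card_quotient_mul_card_subgroup, Subgroup.card_eq_card_quotient_mul_card_subgroup h.bor,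
      h.card_quot, h.card_bor, mul_assoc]
  obtain ⟨c, hc⟩ := h3.nonempty_fixed_point_of_prime_not_dvd_card (C ⧸ T) (by
    rw [h4, hr.dvd_mul]
    exact fun h => h.elim h2 h1)
  obtain ⟨c, rfl⟩ := QuotientGroup.mk_surjective c
  have h5 : c⁻¹ * (s * c) ∈ T := QuotientGroup.eq.1 (hc ⟨s, Subgroup.mem_zpowers s⟩).symm
  have h6 := central h hT hr h0 h5 (k := k) (by
    rw [← mul_assoc, ← inv_inv c, inv_inv c⁻¹, conj_pow, ← hk, pow_orderOf_eq_one, mul_one, mul_inv_cancel])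
  have h7 : x⁻¹ * (s * y) * x = c⁻¹ * (s * c) * (x⁻¹ * y * x) := by
    have h8 : s = c⁻¹ * (s * c) := by
      have := h6 c⁻¹
      rw [mul_assoc, mul_inv_cancel_right, mul_right_inj] at this
      exact this
    rw [← mul_assoc, ← mul_assoc, ← mul_assoc, h6 x⁻¹, ← h8]
  rw [h7]
  exact mul_mem (h.T_le h5) hx

/-- the central character for a transitive torus -/
theorem om_tr (hT : Tr U T) {p v : ℕ} (hp : p.Prime) (hU : Nat.card U = p ^ v) (hpT : ¬ p ∣ Nat.card T) {ψ : C → ℂ}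
    (hψ : IsIrrCharacter C ψ) {y : C} (hy : ∀ x : C, x⁻¹ * y * x ∉ h.bor) (h0 : ψ y ≠ 0) :
    Om p ψ (-(p : ℤ) ^ v) ∨ Om p ψ 1 ∨ Om p ψ ((p : ℤ) ^ (2 * v)) := by
  classical
  rcases om_cases h hp hU hpT hψ with h1 | ⟨-, h1⟩ | ⟨j, d, -, h1, h2, h3, -, h4⟩
  · exact Or.inl h1
  · exact absurd (h1 y hy) h0
  right
  have := Fintype.ofFinite U
  obtain ⟨u, hu, hu1⟩ := h.U1
  obtain ⟨n, hn⟩ : ∃ n, p ^ v = n + 1 := ⟨p ^ v - 1, by have := pow_pos hp.pos v; omega⟩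
  have h5 : ∑ x ∈ Finset.univ.erase (1 : U), ψ x = n * ψ u := by
    rw [Finset.sum_congr rfl (g := fun _ => ψ u) fun x hx => by
      obtain ⟨s, -, e⟩ := hT u hu x x.2 hu1 fun e => (Finset.mem_erase.1 hx).1 (Subtype.ext e)
      rw [← e, irr_conj hψ], Finset.sum_const, Finset.card_erase_of_mem (Finset.mem_univ _), Finset.card_univ,
      ← Nat.card_eq_fintype_card, hU, hn, Nat.add_sub_cancel, nsmul_eq_mul]
  rw [finsum_eq_sum_of_fintype, ← Finset.add_sum_erase _ _ (Finset.mem_univ 1), h5, ← Nat.cast_pow, hn,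
    Subgroup.coe_one, h2] at h4
  have h6 := PermutationGroups.Subdegree.dvd_of_isIntegral (f := n) (k := 1 - d)
    (z := ψ u - 1) (by push_cast at h4 ⊢; linear_combination -h4)
    ((GaloisBasic.isIntegral_apply (Core.isIrr_isCharacter hψ) u).sub isIntegral_one)
  have hj := pow_pos hp.pos j
  rw [hn] at h3
  have hd0 : d ≠ 0 := by
    rintro rfl
    rw [zero_mul] at h3
    exact absurd h3.symm (by positivity)
  have hd : d ≤ n + 1 := by
    by_contra hd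
    nlinarith
  have h7 : d = 1 ∨ d = n + 1 := by
    by_contra hc
    have h8 : (n : ℤ) ∣ ((d - 1 : ℕ) : ℤ) := by
      rw [Nat.cast_sub (by omega), ← dvd_neg, neg_sub]
      exact h6
    have := Nat.le_of_dvd (by omega) (Int.natCast_dvd_natCast.1 h8)
    omega
  rcases h7 with rfl | rfl
  · right
    have h8 : p ^ j = p ^ (2 * v) := by rw [mul_comm 2, pow_mul, hn]; nlinarith
    rwa [Nat.pow_right_injective hp.two_le h8] at h1
  · left
    have h8 : p ^ j = p ^ 0 := by rw [pow_zero]; nlinarith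
    rwa [Nat.pow_right_injective hp.two_le h8, pow_zero] at h1

end Rank

variable {G : Type u} [Group G] [Finite G] {p r m : ℕ} {z : G} {U T : Subgroup (Subgroup.centralizer ({z} : Set G))}
  {n0 : Subgroup.centralizer ({z} : Set G)} (h : RC p r m z U T n0) (hp : p.Prime) (hr : r.Prime)

include h hp hr

theorem RC.card_U : ∃ v, 0 < v ∧ v ≤ m ∧ Nat.card U = p ^ v ∧ (pSet p G).ncard ≡ p ^ (2 * v) [MOD r] := by
  classical
  have : Fact r.Prime := ⟨hr⟩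
  have : Fact p.Prime := ⟨hp⟩
  obtain ⟨v, hv⟩ := IsPGroup.iff_card.1 h.pU
  refine ⟨v, Nat.pos_of_ne_zero ?_, (Nat.pow_le_pow_iff_right hp.one_lt).1 (hv ▸ h.cU), hv, ?_⟩
  · rintro rfl
    obtain ⟨u, hu, hu1⟩ := h.rk.U1
    rw [pow_zero, Subgroup.card_eq_one] at hv
    exact hu1 (by rwa [hv] at hu)
  have := Fintype.ofFinite G
  let f : Function.End (pSet p G) := fun v => ⟨z * v * z⁻¹, (conj_mem_pSet _ _).2 v.2⟩
  have h1 : ∀ n : ℕ, ∀ v, ((f ^ n) v : G) = z ^ n * v * (z ^ n)⁻¹ := fun n => by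
    induction n with
    | zero => intro v; simp; rfl
    | succ n ih =>
      intro v
      rw [pow_succ', pow_succ']
      show z * ((f ^ n) v : G) * z⁻¹ = _
      rw [ih]
      group
  have h2 := Equiv.Perm.card_fixedPoints_modEq (f := f) (p := r) (n := 1) (funext fun v =>
    Subtype.ext (by rw [h1, pow_one, h.zr]; simp; rfl))
  rw [← Nat.card_eq_fintype_card, ← Nat.card_eq_fintype_card, Nat.card_coe_set_eq] at h2
  rw [mul_comm, pow_mul, ← hv, ← ncard_pSet h.rk hp h.pU h.cT,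
    ← Nat.card_coe_set_eq (pSet p (Subgroup.centralizer ({z} : Set G)))]
  refine h2.trans ?_
  rw [Nat.card_congr (β := pSet p (Subgroup.centralizer ({z} : Set G)))
    { toFun := fun x => ⟨⟨x.1, fun y hy => by rw [hy, ← mul_inv_eq_iff_eq_mul]; exact congrArg Subtype.val x.2⟩,
        x.1.2.imp fun _ e => (Subgroup.orderOf_mk _ _).trans e⟩
      invFun := fun x => ⟨⟨x.1, x.2.imp fun _ e => by rwa [Subgroup.orderOf_coe]⟩,
        Subtype.ext (mul_inv_eq_iff_eq_mul.2 (x.1.2 z rfl))⟩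
      left_inv := fun _ => rfl
      right_inv := fun _ => rfl }]

omit hp [Finite G] in
theorem RC.ord : ∃ k : ℕ, orderOf z = r ^ k :=
  ((Nat.dvd_prime_pow hr).1 (orderOf_dvd_of_pow_eq_one (n := r ^ 1) (by rw [pow_one, h.zr]))).imp fun _ e => e.2

/-- an element with elliptic `r'`-part -/
theorem RC.ell (hT : Tr U T) {v : ℕ} (hU : Nat.card U = p ^ v) (h0 : ¬ r ∣ p ^ v - 1) (h1 : r ≠ p)
    (h2 : ¬ r ∣ p ^ v + 1) : ∃ y : G, ∀ χ, IsIrrCharacter G χ → χ y ≠ 0 → ∀ lam : ℤ, Om p χ lam →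
      (r : ℤ) ∣ lam + p ^ v ∨ (r : ℤ) ∣ lam - 1 ∨ (r : ℤ) ∣ lam - p ^ (2 * v) := by
  obtain ⟨y, hy, hy'⟩ := exists_ell h.rk hT hr (hU ▸ h0)
    (hU ▸ fun e => h1 ((Nat.prime_dvd_prime_iff_eq hr hp).1 (hr.dvd_of_dvd_pow e))) (hU ▸ h2)
  refine ⟨z * y, fun χ hχ h3 lam hl => ?_⟩
  obtain ⟨ψ, hψ, h4, h5⟩ := semi hr (h.ord hr) y.2 (by rwa [Subgroup.orderOf_coe]) hχ h3 hl
  refine (om_tr h.rk hT hp hU h.cT hψ hy' h4).imp (fun e => ?_) (Or.imp (h5 _) (h5 _))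
  simpa using h5 _ e

/-- an element with unipotent `r'`-part -/
theorem RC.uni {v : ℕ} (hU : Nat.card U = p ^ v) (h1 : r ≠ p) : ∃ g : G, p ∣ orderOf g ∧
    ∀ χ, IsIrrCharacter G χ → χ g ≠ 0 → ∀ lam : ℤ, Om p χ lam → (r : ℤ) ∣ lam + p ^ v ∨ (r : ℤ) ∣ lam - p ^ v ∨
      ∃ j ≤ 2 * v, (r : ℤ) ∣ lam - p ^ j ∧ p ^ v + p ^ j ∣ p ^ v * (p ^ v + 1) ∧
        p ^ v + p ^ (2 * v - j) ∣ p ^ v * (p ^ v + 1) := by
  obtain ⟨u, hu, hu1⟩ := h.rk.U1
  obtain ⟨k, hk⟩ := h.pU ⟨u, hu⟩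
  obtain ⟨k, -, hk⟩ := (Nat.dvd_prime_pow hp).1 (orderOf_dvd_of_pow_eq_one (x := u) (congrArg Subtype.val hk))
  have hpr : ¬ p ∣ r := fun e => h1 ((Nat.prime_dvd_prime_iff_eq hp hr).1 e).symm
  refine ⟨z * u, ?_, fun χ hχ h3 lam hl => ?_⟩
  · have hc : Commute z (u : G) := u.2 z rfl
    have h2 : (u : G) ^ (r * orderOf (z * u)) = 1 := by
      have h3 : (z * u) ^ (r * orderOf (z * u)) = 1 := by rw [mul_comm r, pow_mul, pow_orderOf_eq_one, one_pow]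
      rwa [hc.mul_pow, pow_mul z, h.zr, one_pow, one_mul] at h3
    have h3 := orderOf_dvd_of_pow_eq_one h2
    rw [Subgroup.orderOf_coe, hk] at h3
    have h4 : k ≠ 0 := by
      rintro rfl
      exact hu1 (orderOf_eq_one_iff.1 hk)
    exact ((hp.dvd_mul).1 ((dvd_pow_self p h4).trans h3)).resolve_left hpr
  obtain ⟨ψ, hψ, -, h5⟩ := semi hr (h.ord hr) u.2 (by
    rw [Subgroup.orderOf_coe, hk]
    exact fun e => h1 ((Nat.prime_dvd_prime_iff_eq hr hp).1 (hr.dvd_of_dvd_pow e))) hχ h3 hl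
  rcases om_cases h.rk hp hU h.cT hψ with e | ⟨e, -⟩ | ⟨j, d, hj, e, -, h6, h7, -⟩
  · exact Or.inl (by simpa using h5 _ e)
  · exact Or.inr (Or.inl (h5 _ e))
  · exact Or.inr (Or.inr ⟨j, hj, h5 _ e, Dvd.intro_left d h6, h7⟩)

end Cfsg.Agent.VAN.E
end

-- part: VAN/E/E8
section
/-!
# S4942: the row `E₈` (helper5)

The three elements: a `Φ₂₀`-element, a regular element of the torus `Φ₇ Φ₁ Φ₂`, and the product of a `Φ₁₈`-element with
a unipotent element of its centraliser.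
-/

set_option autoImplicit false

namespace Cfsg.Agent.VAN.E

open Cfsg Cfsg.Agent.H727.TC Cfsg.Agent.H448.Van Cfsg.Agent.H730.OZ Cfsg.Lie Cfsg.Agent.DL.Rows.Cert
  Cfsg.Agent.ChevalleyStructure.CoxeterGeomTypes Cfsg.Agent.Nodes.RGDChev

universe u

theorem cong_ord {b r D : ℕ} (hr : r.Prime) (h2 : 2 < r) (ho : orderOf (b : ZMod r) = D) (hD : 0 < D) {e s : ℤ}
    (he : e = 1 ∨ e = -1) (hs : s = 1 ∨ s = -1) {m j : ℕ} (h : (r : ℤ) ∣ e * b ^ m - s * b ^ j) :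
    2 * m ≡ 2 * j [MOD D] ∧ (e = s ↔ m ≡ j [MOD D]) := by
  have := Fact.mk hr
  subst ho
  have hx := orderOf_pos_iff.1 hD
  have h1 := (ZMod.intCast_zmod_eq_zero_iff_dvd _ r).2 h
  have h3 : (2 : ZMod r) ≠ 0 := fun h0 =>
    absurd (Nat.le_of_dvd two_pos ((ZMod.natCast_eq_zero_iff 2 r).1 (by exact_mod_cast h0))) (by omega)
  have h4 : (b : ZMod r) ^ j ≠ 0 := (hx.isUnit.pow j).ne_zero
  rw [← hx.pow_eq_pow_iff_modEq, ← hx.pow_eq_pow_iff_modEq, pow_mul', pow_mul']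
  rcases he with rfl | rfl <;> rcases hs with rfl | rfl <;> push_cast at h1
  · have h5 : (b : ZMod r) ^ m = b ^ j := by linear_combination h1
    exact ⟨by rw [h5], by simp [h5]⟩
  · have h5 : (b : ZMod r) ^ m = -b ^ j := by linear_combination h1
    exact ⟨by rw [h5, neg_sq], by omega, fun h6 => absurd (by linear_combination h5 - h6) (mul_ne_zero h3 h4)⟩
  · have h5 : (b : ZMod r) ^ m = -b ^ j := by linear_combination -h1
    exact ⟨by rw [h5, neg_sq], by omega, fun h6 => absurd (by linear_combination h5 - h6) (mul_ne_zero h3 h4)⟩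
  · have h5 : (b : ZMod r) ^ m = b ^ j := by linear_combination -h1
    exact ⟨by rw [h5], by simp [h5]⟩

theorem cong_nat {b r D m j : ℕ} (ho : orderOf (b : ZMod r) = D) (hD : 0 < D) (h : b ^ m ≡ b ^ j [MOD r]) :
    m ≡ j [MOD D] := by
  subst ho
  rw [← (orderOf_pos_iff.1 hD).pow_eq_pow_iff_modEq]
  exact_mod_cast (ZMod.natCast_eq_natCast_iff _ _ _).2 h

theorem pow_ne_one {r D : ℕ} {x : ZMod r} (ho : orderOf x = D) {n : ℕ} (hn : ¬ D ∣ n) : x ^ n - 1 ≠ 0 :=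
  fun h => hn (ho ▸ orderOf_dvd_of_pow_eq_one (sub_eq_zero.1 h))

theorem phi7 {r q : ℕ} (hr : r.Prime) (ho : orderOf (q : ZMod r) = 7) : (r : ℤ) ∣ peval (1 :: cf7.gt) (q : ℤ) := by
  have := Fact.mk hr
  rw [← ZMod.intCast_zmod_eq_zero_iff_dvd, peval_cast]
  have h1 := pow_orderOf_eq_one (q : ZMod r)
  rw [ho] at h1
  refine mul_left_cancel₀ (pow_ne_one ho (n := 1) (by norm_num)) ?_
  simp only [cf7, peval_cons, peval_nil]
  push_cast
  linear_combination h1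

theorem phi18 {r q : ℕ} (hr : r.Prime) (ho : orderOf (q : ZMod r) = 18) : (r : ℤ) ∣ peval (1 :: cf18.gt) (q : ℤ) := by
  have := Fact.mk hr
  rw [← ZMod.intCast_zmod_eq_zero_iff_dvd, peval_cast]
  have h1 := pow_orderOf_eq_one (q : ZMod r)
  rw [ho] at h1
  refine mul_left_cancel₀ (mul_ne_zero (pow_ne_one ho (n := 9) (by norm_num)) (pow_ne_one ho (n := 6) (by norm_num))) ?_
  simp only [cf18, peval_cons, peval_nil]
  push_cast
  linear_combination ((q : ZMod r) ^ 3 - 1) * h1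

theorem not_dvd_cube {q : ℕ} (hq : 2 ≤ q) : ¬ q ^ 3 + q ∣ q ^ 3 * (q ^ 3 + 1) := fun h => by
  have h1 : q ^ 2 + 1 ∣ q ^ 2 * (q ^ 3 + 1) :=
    Nat.dvd_of_mul_dvd_mul_left (k := q) (by omega) (by convert h using 1 <;> ring)
  have h2 : q ^ 2 + 1 ∣ q ^ 3 + 1 := (Nat.Coprime.dvd_mul_left (by
    rw [Nat.Coprime, Nat.gcd_self_add_left]; exact Nat.gcd_one_left _)).1 h1
  have h3 := Nat.dvd_sub (Dvd.intro_left q rfl : q ^ 2 + 1 ∣ q * (q ^ 2 + 1)) h2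
  have h4 : q * (q ^ 2 + 1) - (q ^ 3 + 1) = q - 1 := by
    rw [show q * (q ^ 2 + 1) = q ^ 3 + q by ring]
    omega
  have := Nat.le_of_dvd (by omega) (h4 ▸ h3)
  nlinarith [Nat.sub_le q 1]

theorem v_E8 {F : Type} [Field F] [Fintype F] {p a : ℕ} (hp : p.Prime) (ha : 0 < a) (hF : Fintype.card F = p ^ a) :
    (Nat.card ↥(chevE8.group F)).factorization p = 120 * a := by
  have hG := Cfsg.Agent.S1065.result hF
  have hL : (([2, 8, 12, 14, 18, 20, 24, 30] : List ℕ).map fun d => (p ^ a) ^ d - 1).prod =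
      ((p ^ a) ^ 2 - 1) * ((p ^ a) ^ 8 - 1) * ((p ^ a) ^ 12 - 1) * ((p ^ a) ^ 14 - 1) * ((p ^ a) ^ 18 - 1) *
      ((p ^ a) ^ 20 - 1) * ((p ^ a) ^ 24 - 1) * ((p ^ a) ^ 30 - 1) := by
    simp only [List.map_cons, List.map_nil, List.prod_cons, List.prod_nil, mul_one, mul_assoc]
  have hG' : 1 * Nat.card ↥(chevE8.group F) =
      p ^ (120 * a) * (([2, 8, 12, 14, 18, 20, 24, 30] : List ℕ).map fun d => (p ^ a) ^ d - 1).prod := by
    rw [one_mul, hG, hL]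
    simp only [← pow_mul]
    rw [mul_comm a 120]
    ring
  exact fact_of hp (fun h => hp.one_lt.ne' (Nat.dvd_one.1 h))
    (not_dvd_prod hp ha (fun d hd => by simp at hd; omega)) Nat.card_pos.ne' hG'

theorem big_of_prime {r : ℕ} (hr : r.Prime) (h : 7 < r) : 9 < r ∧ ¬ r ∣ 210 := by
  refine ⟨?_, fun hd => ?_⟩
  · by_contra h1
    obtain rfl | rfl : r = 8 ∨ r = 9 := by omega
    all_goals exact absurd hr (by norm_num)
  · have h1 : r ∣ 2 * (3 * (5 * 7)) := hd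
    simp only [hr.dvd_mul] at h1
    rcases h1 with h1 | h1 | h1 | h1 <;> have := Nat.le_of_dvd (by norm_num) h1 <;> omega

/-- **`E₈(q)`** -/
theorem row_e8 : VAN.Row.{u} (fun G _ => Lie.IsoE8 G) := by
  rintro G _ _ hs _ ⟨F, i1, i2, ⟨e⟩⟩
  obtain ⟨p, a, hp', _, _, ha, hF, hk⟩ := DL.Ex.exists_closure F
  have hp : p.Prime := hp'.out
  have : IsSimpleGroup ↥(chevE8.group F) := (MulEquiv.isSimpleGroup_congr e).1 hs
  have : Finite ↥(chevE8.group F) := Finite.of_equiv _ e.toEquiv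
  have hK := H279.OZ.kaw_of_hasRGD hp (Nodes.RGDChev.hasRGD_E8 F p)
  have hv := v_E8 hp ha hF
  have hc := hK.card
  rw [hv] at hc
  have hT : IsType chevE8 8 CoxeterMatrix.E₈ := by simp [IsType, typeList]
  have O := DL.Ex.over_E8 (algebraMap F (AlgebraicClosure F)) hF hT
  obtain ⟨r, hr, hro⟩ := good_E8 (m := 20) hp ha hF (Or.inr (Or.inl rfl))
  have hr4 := H504.TC.four_le hr.prime (by omega) hro
  obtain ⟨x, hx⟩ := Isol.of_iso hr.iso (by omega)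
  obtain ⟨s, hs, hsp, hso, hsq, hsa⟩ := exists_prim (d := 7) hp ha (by omega) (by omega)
  obtain ⟨t, ht, htp, hto, htq, hta⟩ := exists_prim (d := 18) hp ha (by omega) (by omega)
  have hs9 := big_of_prime hs (by omega)
  have ht9 := big_of_prime ht (by omega)
  obtain ⟨z, U, V, n0, h1, h2⟩ := rc_of_cert (T := tyE8) hT (by decide +kernel) okE8 rtE8_ok cf7_ok hk ha O hs hsp
    hs9.1 hs9.2 (by exact_mod_cast phi7 hs hsq)
  obtain ⟨z', U', V', n0', h3, -⟩ := rc_of_cert (T := tyE8) hT (by decide +kernel) okE8 rtE8_ok cf18_ok hk ha O ht htp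
    ht9.1 ht9.2 (by exact_mod_cast phi18 ht htq)
  obtain ⟨v, -, hv1, hU, hv2⟩ := h1.card_U hp hs
  obtain ⟨w, -, hw1, hU', hw2⟩ := h3.card_U hp ht
  replace hv1 : v ≤ a * 1 := hv1
  replace hw1 : w ≤ a * 3 := hw1
  rw [hc] at hv2 hw2
  obtain rfl : a = v := by
    have h4 : 2 * a ≡ 2 * (120 * a) [MOD a * 7] := (Nat.modEq_iff_dvd' (by omega)).2 ⟨34, by omega⟩
    have := (h4.trans (cong_nat hso (by omega) hv2)).eq_of_lt_of_lt (by omega) (by omega)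
    omega
  obtain rfl : w = a * 3 := by
    have h4 : 6 * a ≡ 2 * (120 * a) [MOD a * 18] := (Nat.modEq_iff_dvd' (by omega)).2 ⟨13, by omega⟩
    have := (h4.trans (cong_nat hto (by omega) hw2)).eq_of_lt_of_lt (by omega) (by omega)
    omega
  have h5 : ∀ σ : ℤ, σ = 1 ∨ σ = -1 → ¬ (s : ℤ) ∣ (p : ℤ) ^ a - σ := fun σ hσ hd => by
    have := (cong_ord hs (by omega) hsq (by omega) (Or.inl rfl) hσ (m := 1) (j := 0) (by simpa using hd)).1
    simp [Nat.ModEq] at this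
  obtain ⟨y, hy⟩ := h1.ell hp hs (h2 rfl) hU (fun hd => h5 1 (Or.inl rfl) (by
      have := Int.natCast_dvd_natCast.2 hd
      rwa [Nat.cast_sub (Nat.one_le_pow _ _ hp.pos), Nat.cast_pow] at this)) hsp
    fun hd => h5 (-1) (Or.inr rfl) (by rw [sub_neg_eq_add]; exact_mod_cast hd)
  obtain ⟨g, hg, hg'⟩ := h3.uni hp ht hU' htp
  refine Van3.of_equiv (Rk.van3_of_mid hp hK x y hg ?_) e.symm
  rintro χ ⟨hχx, hχy, m, ε, hε, hm, hm0, hm1⟩
  by_contra hχg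
  have hO : Om p χ.1 (ε * p ^ m) := by rw [Om, hm]; push_cast; rfl
  obtain ⟨a1, a2⟩ := cong_ord hr.prime (by omega) hro (by omega) hε (Or.inl rfl) (m := m) (j := 0) (by
    simpa using hx.cong hp χ (hx.not_dvd χ (isPPart_self hx.prime hx.ord) (Subgroup.mem_zpowers x) hχx) hm)
  obtain ⟨k, hk'⟩ := Nat.modEq_zero_iff_dvd.1 a1
  obtain rfl : m = a * (10 * k) := by linarith
  rw [Nat.modEq_zero_iff_dvd, Nat.mul_dvd_mul_iff_left ha] at a2
  have hk0 : k < 24 := by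
    by_contra h6
    rw [hv] at hm1
    have := Nat.mul_le_mul_left a (show 240 ≤ 10 * k by omega)
    omega
  have hk1 : k = 5 ∨ k = 19 ∨ k = 10 ∨ k = 14 := by
    have h0 : k ≠ 0 := by
      rintro rfl
      simp at hm0
    have h6 : ∀ (σ : ℤ) (j : ℕ), σ = 1 ∨ σ = -1 → (s : ℤ) ∣ ε * p ^ (a * (10 * k)) - σ * p ^ (a * j) →
        2 * (10 * k) % 7 = 2 * j % 7 ∧ (ε = σ ↔ 10 * k % 7 = j % 7) := fun σ j hσ hd =>
      cong_ord hs (by omega) hsq (by omega) hε hσ (by push_cast; rwa [← pow_mul, ← pow_mul])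
    rcases hy χ.1 χ.2 hχy _ hO with h | h | h
    · have := h6 (-1) 1 (Or.inr rfl) (by simpa using h)
      omega
    · have := h6 1 0 (Or.inl rfl) (by simpa using h)
      omega
    · have := h6 1 2 (Or.inl rfl) (by rwa [one_mul, mul_comm a 2])
      omega
  have h6 : ∀ (σ : ℤ) (j : ℕ), σ = 1 ∨ σ = -1 → (t : ℤ) ∣ ε * p ^ (a * (10 * k)) - σ * p ^ j → j ≤ a * 6 →
      j = a ∨ j = a * 5 := fun σ j hσ hd hj => by
    have h7 := (cong_ord ht (by omega) hto (by omega) hε hσ hd).1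
    have h8 : ∀ i c, 20 * k = 2 * i + 18 * c → i < 9 → j = a * i := fun i c h9 hi => by
      have h11 : 2 * (a * (10 * k)) = a * 18 * c + 2 * (a * i) := by linear_combination a * h9
      have h12 : a * i < a * 9 := Nat.mul_lt_mul_of_pos_left hi ha
      have h10 : 2 * (a * i) ≡ 2 * (a * (10 * k)) [MOD a * 18] :=
        (Nat.modEq_iff_dvd' (h11 ▸ Nat.le_add_left _ _)).2 ⟨c, Nat.sub_eq_of_eq_add h11⟩
      have := (h10.trans h7).eq_of_lt_of_lt (by omega) (by omega)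
      omega
    rcases hk1 with rfl | rfl | rfl | rfl
    · exact Or.inr (h8 5 5 rfl (by omega))
    · exact Or.inl ((h8 1 21 rfl (by omega)).trans (mul_one a))
    · exact Or.inl ((h8 1 11 rfl (by omega)).trans (mul_one a))
    · exact Or.inr (h8 5 15 rfl (by omega))
  have h7 := not_dvd_cube (q := p ^ a) (hp.two_le.trans (Nat.le_self_pow ha.ne' p))
  rw [← pow_mul] at h7
  rcases hg' χ.1 χ.2 hχg _ hO with h | h | ⟨j, hj, h, h8, h9⟩
  · have := h6 (-1) (a * 3) (Or.inr rfl) (by simpa using h) (by omega)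
    omega
  · have := h6 1 (a * 3) (Or.inl rfl) (by simpa using h) (by omega)
    omega
  · rcases h6 1 j (Or.inl rfl) (by simpa using h) (by omega) with rfl | rfl
    · exact h7 h8
    · rw [show 2 * (a * 3) - a * 5 = a by omega] at h9
      exact h7 h9

end Cfsg.Agent.VAN.E
end

-- part: VAN/Fin/Red
section
/-! # S4942: reduction to the last rows (helper82) -/

set_option autoImplicit false

namespace Cfsg.Agent.VAN.Fin

universe u

theorem main_of (psp : Row.{u} fun G _ => IsPSp G) (oodd : Row.{u} fun G _ => IsPOmegaOdd G)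
    (oplus : Row.{u} fun G _ => IsPOmegaPlus G) (f4t : Row.{u} fun G _ => Lie.Iso2F4 G)
    (f42 : ∀ (F : Type) [Field F] [Fintype F], Fintype.card F = 2 → Van3 (Lie.chevF4.group F))
    (fi23 : Van3 Spor.Fi23) (fi24 : Van3 Spor.Fi24') (hn : Van3 Spor.HN) (b : Van3 Spor.BabyMonster)
    {G : Type u} [Group G] [Finite G] [IsSimpleGroup G] (hna : ¬ IsMulCommutative G) :
    ∃ g₁ g₂ g₃ : G, ∀ χ : Cfsg.IrrCharacter G, Cfsg.charDegree (χ : G → ℂ) ≠ 1 →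
      (χ : G → ℂ) g₁ = 0 ∨ (χ : G → ℂ) g₂ = 0 ∨ (χ : G → ℂ) g₃ = 0 :=
  VAN.main (fun _ _ _ _ => S0000.result) Alt.altRow ⟨Lin.row_psl, psp, Lin.row_psu, oodd, oplus, C.row_ominus⟩
    ⟨Rk.row_g2, F.row_f4_of f42, Rk.row_e6, Rk.row_e7, E.row_e8, Rk.row_e6t, Rk.row_d4t, Rk.row_sz, Rk.row_ree, f4t⟩
    (spor_of (fun _ _ _ _ _ h => h.elim fun e => fi23.of_equiv e.symm)
      (fun _ _ _ _ _ h => h.elim fun e => fi24.of_equiv e.symm) (fun _ _ _ _ _ h => h.elim fun e => hn.of_equiv e.symm)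
      fun _ _ _ _ _ h => h.elim fun e => b.of_equiv e.symm) hna

end Cfsg.Agent.VAN.Fin
end

-- part: VAN/Rk/TF4
section
/-!
# S4942: the row `²F₄(q)`, `q > 2` (helper77)
-/

set_option autoImplicit false
set_option linter.unusedSectionVars false

namespace Cfsg.Agent.VAN.Rk

open Cfsg Cfsg.Agent.SplitTwo Cfsg.Agent.SplitTwo.ZS Cfsg.Agent.SplitTwo.RootSysZ
open Cfsg.Agent.KFacts.TwF4 Cfsg.Agent.KFacts.TwF4.Irr Cfsg.Agent.H628.Sq.TwFNorm Cfsg.Agent.H628.Sq.TwFHC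
open Cfsg.Agent.H654.OZ (Ro Re Dih re1 re2 bruhat' BB_form' alt_maps lt1 lt2 exists_wd T_inf_J frP frB)
open Cfsg.Agent.LieExceptional.BNPairCore

universe u

namespace TF

variable {F : Type*} [Field F] {σ : F →+* F} {G : Type u} [Group G] (S : Full σ G) [Finite F] (hF : ∃ c : Fˣ, c ≠ 1)

include hF in
theorem not_nine : ¬ S.XZ 9 ≤ J S.XZ 1 8 := fun h => by
  obtain ⟨c, hc⟩ := hF
  have h1 := T_inf_J S (S.mem_T.2 ⟨c, c, rfl⟩)
    ((sup_le (X_le_J le_rfl (by norm_num)) h : S.LO ≤ J S.XZ 1 8) (H42.Deg.F4.TM_le_LO S ⟨c, rfl⟩))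
  exact hc (S.h_inj _ _ _ _ (h1.trans S.h_one.symm)).1

include hF in
theorem not_zero : ¬ S.XZ 0 ≤ J S.XZ 1 8 := fun h => by
  obtain ⟨c, hc⟩ := hF
  have h1 := T_inf_J S (S.mem_T.2 ⟨_, c, rfl⟩)
    ((sup_le h (X_le_J (by norm_num) le_rfl) : L4 S ≤ J S.XZ 1 8) (H42.Deg.F4B.TE_le_L4 S ⟨c, rfl⟩))
  exact hc (S.h_inj _ _ _ _ (h1.trans S.h_one.symm)).2

theorem back {g x : G} (hg : g ∈ BB S) (h : g⁻¹ * x * g ∈ J S.XZ 1 8) : x ∈ J S.XZ 1 8 := by
  have := BB_norm S hg h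
  rwa [show g * (g⁻¹ * x * g) * g⁻¹ = x by group] at this

include hF in
theorem ro_B {g : G} {c : ℤ} (h : Ro S g c) (h1 : -3 ≤ c) (h2 : c ≤ 4) (hg : g ∈ BB S) : c = 0 := by
  by_contra h0
  rcases lt_or_gt_of_ne h0 with h3 | h3
  · exact not_zero S hF fun x hx => back S hg (h.arc (by omega) (by omega) (mem_J hx le_rfl le_rfl))
  · exact not_nine S hF fun x hx => back S hg (h.arc (by omega) (by omega) (mem_J hx le_rfl le_rfl))

include hF in
theorem re_B {g : G} {c : ℤ} (h : Re S g c) : g ∉ BB S := fun hg => by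
  obtain ⟨c, h1, h2, h⟩ := h.red 1
  rcases le_or_gt c 4 with h3 | h3
  · exact not_zero S hF fun x hx => back S hg (h.arc (by omega) (by omega) (mem_J hx le_rfl le_rfl))
  · exact not_nine S hF fun x hx => back S hg (h.arc (by omega) (by omega) (mem_J hx le_rfl le_rfl))

include hF in
theorem mem_T {g : G} (hg : g ∈ BB S) (h : Dih S g) : g ∈ S.T := by
  obtain ⟨c, h | h⟩ := h
  · obtain ⟨c, h1, h2, h⟩ := h.red (-3)
    rw [ro_B S hF h h1 (by omega) hg] at h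
    exact Ro.zero_iff.1 h
  · exact absurd hg (re_B S hF h)

/-- the group `N` -/
def NN : Subgroup G where
  carrier := {w | Dih S w}
  one_mem' := ⟨0, Or.inl (Ro.zero_iff.2 (one_mem _))⟩
  mul_mem' := by
    rintro a b ⟨c, h | h⟩ ⟨d, k | k⟩
    · exact ⟨_, Or.inl (h.mul k)⟩
    · exact ⟨_, Or.inr (h.mulRe k)⟩
    · exact ⟨_, Or.inr (h.mulRo k)⟩
    · exact ⟨_, Or.inl (h.mul k)⟩
  inv_mem' := by
    rintro a ⟨c, h | h⟩
    · exact ⟨_, Or.inl h.inv⟩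
    · exact ⟨_, Or.inr h.inv⟩

/-- the simple reflections -/
def nn (i : Bool) : G := cond i S.n1 S.n2

/-- the simple root groups -/
def XX (i : Bool) : Subgroup G := cond i (S.XZ 1) (S.XZ 8)

/-- the unipotent radicals -/
def VV (i : Bool) : Subgroup G := cond i (J S.XZ 2 8) (J S.XZ 1 7)

theorem re_n (i : Bool) : Re S (nn S i) (cond i 5 4) := by
  cases i
  · exact re2 S
  · exact re1 S

theorem n_sq (i : Bool) : nn S i * nn S i = 1 := by
  cases i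
  · exact S.n2_sq
  · exact S.n1_sq

theorem n_inv (i : Bool) : (nn S i)⁻¹ = nn S i := inv_eq_of_mul_eq_one_right (n_sq S i)

theorem XU (i : Bool) : XX S i ≤ J S.XZ 1 8 := by
  cases i
  · exact (X_le_J (by norm_num) le_rfl : S.XZ 8 ≤ J S.XZ 1 8)
  · exact (X_le_J le_rfl (by norm_num) : S.XZ 1 ≤ J S.XZ 1 8)

theorem dec (i : Bool) {u : G} (hu : u ∈ J S.XZ 1 8) : ∃ v ∈ VV S i, ∃ x ∈ XX S i, u = v * x := by
  cases i
  · obtain ⟨v, hv, x, hx, e⟩ := S.zsys8.split_rr (by norm_num) (by norm_num) hu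
    exact ⟨v, (J_mono le_rfl (by norm_num) : _ ≤ J S.XZ 1 7) hv, x, hx, e⟩
  · obtain ⟨v, hv, x, hx, e⟩ := S.zsys8.split_lr (by norm_num) (by norm_num) hu
    exact ⟨v, (J_mono (by norm_num) le_rfl : _ ≤ J S.XZ 2 8) hv, x, hx, e⟩

theorem nV (i : Bool) {v : G} (hv : v ∈ VV S i) : nn S i * v * (nn S i)⁻¹ ∈ J S.XZ 1 8 := by
  cases i
  · exact (re2 S).arc' (by norm_num) (by norm_num) hv
  · exact (re1 S).arc' (by norm_num) (by norm_num) hv

theorem rk (i : Bool) {x : G} (hx : x ∈ XX S i) (h1 : x ≠ 1) :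
    ∃ u ∈ XX S i, ∃ t ∈ S.T, ∃ u' ∈ XX S i, nn S i * x * (nn S i)⁻¹ = u * t * nn S i * u' := by
  have h2 : nn S i * x * (nn S i)⁻¹ ≠ 1 := fun h => h1 (by rwa [mul_inv_eq_one, mul_eq_left] at h)
  obtain ⟨a, ha, b, hb, h⟩ : ∃ a ∈ XX S i, ∃ b ∈ XX S i, Re S (a * (nn S i * x * (nn S i)⁻¹) * b) (cond i 5 4) := by
    cases i
    · have h3 : S.n2 * x * S.n2⁻¹ ∈ S.XZ 0 :=
        mem_of_J_self ((re2 S).arc' (by norm_num) (by norm_num) (mem_J hx le_rfl le_rfl)) le_rfl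
      obtain ⟨a, ha, b, hb, h⟩ := (rgdz S.R).muJ _ h3 h2
      exact ⟨a, ha, b, hb, h.congr fun k => by simp⟩
    · have h3 : S.n1 * x * S.n1⁻¹ ∈ S.XZ 9 :=
        mem_of_J_self ((re1 S).arc' (by norm_num) (by norm_num) (mem_J hx le_rfl le_rfl)) le_rfl
      obtain ⟨a, ha, b, hb, h⟩ := (rgdz S.R).muI _ h3 h2
      exact ⟨a, ha, b, hb, h.congr fun k => by norm_num⟩
  have h4 := h.mul (re_n S i).inv
  rw [sub_self, Ro.zero_iff] at h4
  exact ⟨a⁻¹, inv_mem ha, _, h4, b⁻¹, inv_mem hb, by group⟩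

theorem dich (i : Bool) {w : G} (h : Dih S w) : (∀ x ∈ XX S i, w⁻¹ * x * w ∈ J S.XZ 1 8) ∨
    ∀ x ∈ XX S i, (nn S i * w)⁻¹ * x * (nn S i * w) ∈ J S.XZ 1 8 := by
  cases i
  · exact h.eight
  · exact h.one

theorem alt_mem {K : Subgroup G} (k : ℕ) : ∀ {a b : G}, a ∈ K → b ∈ K → H654.OZ.alt a b k ∈ K := by
  induction k with
  | zero => exact fun _ _ => one_mem _
  | succ k ih => exact fun ha hb => mul_mem ha (ih hb ha)

theorem alt_eq (n : Bool → G) (i : Bool) (j : ℕ) : alt n i j = H654.OZ.alt (n (!(lt i j))) (n (lt i j)) j := by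
  induction j with
  | zero => rfl
  | succ j ih => rw [alt_succ, ih, lt_succ, Bool.not_not]; rfl

/-- the BN pair -/
def bn : BNPair G where
  B := BB S
  N := NN S
  S := Set.range (nn S)
  sup_eq_top := by
    rw [eq_top_iff]
    intro g _
    obtain ⟨b, hb, w, hw, b', hb', rfl⟩ := bruhat' (S := S) g
    exact mul_mem (mul_mem (Subgroup.mem_sup_left hb) (Subgroup.mem_sup_right hw)) (Subgroup.mem_sup_left hb')
  conj_mem n hn t ht := by
    have := Dih.tor ((NN S).inv_mem hn) (mem_T S hF ht.1 ht.2)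
    rw [inv_inv] at this
    exact T_le_BB S this
  subset := by
    rintro _ ⟨i, rfl⟩
    exact ⟨_, Or.inr (re_n S i)⟩
  sq_mem := by
    rintro _ ⟨i, rfl⟩
    rw [n_sq]
    exact one_mem _
  inj := by
    rintro _ ⟨i, rfl⟩ _ ⟨j, rfl⟩ h
    have h1 := ro_B S hF ((re_n S i).inv.mul (re_n S j)) (by cases i <;> cases j <;> simp) (by cases i <;> cases j <;> simp) h
    cases i <;> cases j <;> simp at h1 ⊢
  closure_sup := by
    refine le_antisymm (sup_le ((Subgroup.closure_le _).2 ?_) inf_le_right) fun w hw => ?_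
    · rintro _ ⟨i, rfl⟩
      exact ⟨_, Or.inr (re_n S i)⟩
    · obtain ⟨i, hi⟩ := exists_wd S hw
      have h1 : S.n1 ∈ Subgroup.closure (Set.range (nn S)) := Subgroup.subset_closure ⟨true, rfl⟩
      have h2 : S.n2 ∈ Subgroup.closure (Set.range (nn S)) := Subgroup.subset_closure ⟨false, rfl⟩
      rw [← mul_inv_cancel_left (H654.OZ.wd S i) w]
      refine mul_mem (Subgroup.mem_sup_left ?_) (Subgroup.mem_sup_right ⟨T_le_BB S hi, 0, Or.inl (Ro.zero_iff.2 hi)⟩)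
      unfold H654.OZ.wd
      split_ifs
      · exact alt_mem _ h2 h1
      · exact alt_mem _ h1 h2
  mul_mem_union := by
    rintro _ ⟨i, rfl⟩ w hw b hb
    obtain ⟨u, hu, t, ht, rfl⟩ := BB_form' S hb
    obtain ⟨v, hv, x, hx, rfl⟩ := dec S i hu
    have a1 := J_le_BB S (nV S i hv)
    have a2 := T_le_BB S (Dih.tor hw ht)
    have left : w⁻¹ * x * w ∈ J S.XZ 1 8 →
        nn S i * (v * x * t) * w ∈ DoubleCoset.doubleCoset (nn S i * w) (BB S : Set G) (BB S) := fun h =>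
      DoubleCoset.mem_doubleCoset.2 ⟨_, a1, _, mul_mem (J_le_BB S h) a2, by group⟩
    rcases dich S i hw with h | h
    · exact Or.inl (left (h x hx))
    by_cases h1 : x = 1
    · exact Or.inl (left (by rw [h1, mul_one, inv_mul_cancel]; exact one_mem _))
    obtain ⟨a, ha, s, hs, a', ha', e⟩ := rk S i hx h1
    refine Or.inr (DoubleCoset.mem_doubleCoset.2 ⟨_, mul_mem (mul_mem a1 (J_le_BB S (XU S i ha))) (T_le_BB S hs), _,
      mul_mem (J_le_BB S (h a' ha')) a2, ?_⟩)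
    calc _ = nn S i * v * (nn S i)⁻¹ * (nn S i * x * (nn S i)⁻¹) * nn S i * t * w := by group
      _ = nn S i * v * (nn S i)⁻¹ * a * s * (nn S i)⁻¹ * a' * nn S i * t * w := by rw [e, n_inv]; group
      _ = _ := by group
  conj_ne := by
    rintro _ ⟨i, rfl⟩ h
    obtain ⟨x, hx⟩ := Subgroup.ne_bot_iff_exists_ne_one.1
      (show XX S i ≠ ⊥ by cases i <;> exact S.zsys8.ne_bot _)
    obtain ⟨a, ha, s, hs, a', ha', e⟩ := rk S i x.2 fun e => hx (Subtype.ext e)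
    have h1 : nn S i * x * nn S i ∈ BB S := by
      rw [← SetLike.mem_coe, ← h]
      exact ⟨x, J_le_BB S (XU S i x.2), rfl⟩
    rw [n_inv] at e
    rw [e] at h1
    exact re_B S hF (re_n S i) ((Subgroup.mul_mem_cancel_left _ (mul_mem (J_le_BB S (XU S i ha)) (T_le_BB S hs))).1
      ((Subgroup.mul_mem_cancel_right _ (J_le_BB S (XU S i ha'))).1 h1))

/-- the datum -/
def r2 : R2 G where
  P := bn S hF
  U := J S.XZ 1 8
  T := S.T
  X := XX S
  V := VV S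
  n := nn S
  m := 8
  mem_B g := ⟨fun h => BB_form' S h, by
    rintro ⟨u, hu, t, ht, rfl⟩
    exact mul_mem (J_le_BB S hu) (T_le_BB S ht)⟩
  S_eq := rfl
  TN t ht := ⟨0, Or.inl (Ro.zero_iff.2 ht)⟩
  BN g := mem_T S hF
  comm s hs t ht := H42.Deg.F4.T_comm S hs ht
  TU t ht u hu := S.T_conj_J ht hu
  XU := XU S
  VU i := by
    cases i
    · exact J_mono le_rfl (by norm_num)
    · exact J_mono (by norm_num) le_rfl
  dec i u := dec S i
  UV i u hu v hv := by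
    cases i
    · exact PB_norm S (H654.OZ.BB_le_PB (J_le_BB S hu)) hv
    · exact PP_norm S (BB_le_PP S (J_le_BB S hu)) hv
  nV i v := nV S i
  rk1 i x hx h1 := by
    obtain ⟨a, ha, s, hs, a', ha', e⟩ := rk S i hx h1
    rw [n_inv] at e ⊢
    exact ⟨a, XU S i ha, s, hs, a', XU S i ha', e⟩
  rk1' i x hx h1 := by
    obtain ⟨a, ha, s, hs, a', ha', e⟩ := rk S i hx h1
    exact ⟨a, XU S i ha, s, hs, a', XU S i ha', e⟩
  m_pos := by norm_num
  red i j hj x hx := by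
    rw [alt_eq]
    revert hx
    cases lt i j
    · exact lt2 S hj
    · exact lt1 S hj
  braid := by
    rw [alt_eq, alt_eq, ← Ro.zero_iff]
    exact ((alt_maps S 4).2.1.inv.mul (alt_maps S 4).1.1).cong (by decide)

include S in
theorem van3 [Finite G] {m : ℕ} (hm : 1 ≤ m) (hq : Nat.card F = 2 ^ (2 * m + 1))
    (hG : Nat.card G = Nat.card F ^ 12 * ((Nat.card F - 1) * (Nat.card F ^ 3 + 1) * (Nat.card F ^ 4 - 1) * (Nat.card F ^ 6 + 1)))
    (hperf : commutator G = ⊤) : Van3 G := by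
  obtain ⟨h3, h4, -, h2⟩ := H654.OZ.three_dvd hm
  have hF : ∃ c : Fˣ, c ≠ 1 := by
    have := Fintype.ofFinite F
    obtain ⟨c, hc⟩ := exists_unit_pow_ne (K := F) one_pos (by rw [← Nat.card_eq_fintype_card, hq]; omega)
    exact ⟨c, by rwa [pow_one] at hc⟩
  have hU : IsPGroup 2 (r2 S hF).U := IsPGroup.of_card (n := (2 * m + 1) * 12) (by
    show Nat.card (J S.XZ 1 8) = _
    rw [(H654.OZ.card_J18 S).1, hq, pow_mul])
  have hT : ∀ t ∈ (r2 S hF).T, t ^ (2 ^ (2 * m + 1) - 1) = 1 := fun t ht => by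
    obtain ⟨c, d, rfl⟩ := S.mem_T.1 ht
    rw [Arc.h_pow, ← hq, ← Nat.card_units, pow_card_eq_one', pow_card_eq_one', S.h_one]
  obtain ⟨l, ⟨E⟩⟩ := (r2 S hF).exists_num (p := 2) (h := 4) (k := 2 * m + 1)
    (c := (Nat.card F - 1) * (Nat.card F ^ 3 + 1) * (Nat.card F ^ 4 - 1) * (Nat.card F ^ 6 + 1))
    (fun b => cond b (2 * m + 1) ((2 * m + 1) * 2)) Nat.prime_two rfl (by norm_num) (by rintro (_ | _) <;> simp)
    (by
      rintro (_ | _)
      · exact (H654.OZ.card_even S 4).trans (by rw [hq, ← pow_mul]; rfl)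
      · exact (H654.OZ.card_odd S 0).trans hq) hU hT (by omega)
    (by show 2 * m + 1 < 4 * (2 * m + 1 + (2 * m + 1) * 2); omega)
    (by
      show _ = 2 ^ (4 * (2 * m + 1 + (2 * m + 1) * 2)) * _
      rw [hG, show 4 * (2 * m + 1 + (2 * m + 1) * 2) = (2 * m + 1) * 12 by ring, pow_mul, ← hq])
    (by
      rw [← hq] at h2 h4
      have a : ∀ k, 0 < k → 2 ∣ Nat.card F ^ k ∧ 0 < Nat.card F ^ k := fun k hk =>
        ⟨h2.trans (dvd_pow_self _ hk.ne'), pow_pos (by omega) _⟩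
      have a3 := a 3 (by norm_num)
      have a4 := a 4 (by norm_num)
      have a6 := a 6 (by norm_num)
      simp only [Nat.prime_two.dvd_mul]
      omega)
    (by show ¬ (2 = 2 ∧ 4 * (2 * m + 1 + (2 * m + 1) * 2) = 6); omega)
  obtain ⟨z, b, -, -, -, El, -, -, -, h5⟩ := H654.OZ.el_one S hm hq hF
  obtain ⟨z', hz, hz1, hz2⟩ := H42.Deg.F4B.exists_z0 S hF
  obtain ⟨x, hx⟩ := Subgroup.ne_bot_iff_exists_ne_one.1 (S.zsys8.ne_bot 8)
  have hxU := XU S false x.2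
  have hc : Commute z' x := mul_inv_eq_iff_eq_mul.1 (hz1 x (X8_L4 S x.2))
  obtain ⟨k, hk⟩ := hU ⟨x, hxU⟩
  have hxo : orderOf (x : G) ∣ 2 ^ k := orderOf_dvd_of_pow_eq_one (congrArg Subtype.val hk)
  have hco : (orderOf z').Coprime (orderOf (x : G)) :=
    Nat.Coprime.of_dvd (orderOf_dvd_of_pow_eq_one (hT z' hz)) hxo
      (Nat.Coprime.pow_right _ ((Nat.coprime_two_right).2 (Nat.not_even_iff_odd.1 (by rw [even_iff_two_dvd]; omega))))
  refine R2.van3 E hperf true (g := z * b) (g' := z' * x) ?_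
    (fun y _ => (r2 S hF).ell_of_order hU hT (fun j hj => ?_) y) El.free ?_
    ((r2 S hF).B_le_Par _ (mul_mem (T_le_BB S hz) (J_le_BB S hxU))) fun v hv h => ?_
  · rcases (frP S).bru _ El.mem with h | ⟨a, ha, c, hc, e⟩
    · exact Or.inl ((frP S).CB h)
    · exact Or.inr (mem_C.2 ⟨a, (frP S).CB ha, c, (frP S).CB hc, e⟩)
  · rcases Nat.prime_three.dvd_mul.1 (h5.trans hj) with h | h
    · omega
    · exact absurd (Nat.prime_three.dvd_of_dvd_pow h) (by norm_num)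
  · rw [hc.orderOf_mul_eq_mul_orderOf_of_coprime hco]
    obtain ⟨j, -, hj⟩ := (Nat.dvd_prime_pow Nat.prime_two).1 hxo
    refine Dvd.dvd.mul_left (hj ▸ dvd_pow_self 2 fun e => hx (Subtype.ext ?_)) _
    rw [e, pow_zero] at hj
    exact orderOf_eq_one_iff.1 hj
  · obtain ⟨j, hj⟩ := H654.OZ.exists_zpow hc hco
    have h1 := (show Commute _ v from h).zpow_left j
    rw [hj] at h1
    exact hz2 v hv (by rw [h1.eq, mul_inv_cancel_right])

end TF

/-- **the row `²F₄(q)`** -/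
theorem row_f4t : Row.{u} (fun G _ => Lie.Iso2F4 G) := by
  rintro G _ _ _ hna ⟨K, _, _, m, hm, hK, ⟨e⟩⟩
  have hch := ChevalleyStructure.TwF4.Twisted.charP_two hK
  have hfin : Finite ↥(Lie.twistedF4 K (2 ^ m)) := Finite.of_equiv G e.toEquiv
  obtain ⟨φ, hφ⟩ := ChevalleyStructure.TwF4.TwistedFix.exists_rln hK
  have hq : Nat.card K = 2 ^ (2 * m + 1) := by rw [Nat.card_eq_fintype_card, hK]
  refine (TF.van3 (Inst.full hK hφ) hm hq ?_ (perfect_of_equiv (perfect_of_simple hna) e)).of_equiv e.symm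
  rw [S1068.result hK, hq]
  ring

end Cfsg.Agent.VAN.Rk
end

-- part: VAN/Rk/All
section
/-!
# S4942: the rows of rank at most two (helper77)
-/

set_option autoImplicit false

namespace Cfsg.Agent.VAN.Rk

universe u

end Cfsg.Agent.VAN.Rk
end

-- part: VAN/Fin/Four
section
/-! # S4942: reduction to four tables (helper82) -/

set_option autoImplicit false

namespace Cfsg.Agent.VAN.Fin

universe u

theorem main_four (f42 : TAB.F42.In) (fi23 : TAB.F23.In) (fi24 : TAB.F24.In0) (hn : Van3 Spor.HN)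
    {G : Type u} [Group G] [Finite G] [IsSimpleGroup G] (hna : ¬ IsMulCommutative G) :
    ∃ g₁ g₂ g₃ : G, ∀ χ : Cfsg.IrrCharacter G, Cfsg.charDegree (χ : G → ℂ) ≠ 1 →
      (χ : G → ℂ) g₁ = 0 ∨ (χ : G → ℂ) g₂ = 0 ∨ (χ : G → ℂ) g₃ = 0 :=
  main_of C.row_psp C.row_oodd C.row_oplus Rk.row_f4t (fun F _ _ hF => TAB.F42.van_in f42 F hF)
    (TAB.F23.van_of fi23) (TAB.F24.van_of fi24) hn TAB.B.Fin.van hna

end Cfsg.Agent.VAN.Fin
end

-- part: VAN/Fin/Two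
section
/-! # S4942: reduction to the tables of the two large Fischer groups (helper82) -/

set_option autoImplicit false

namespace Cfsg.Agent.VAN.Fin

universe u

theorem main_two (fi23 : TAB.F23.In) (fi24 : TAB.F24.In0)
    {G : Type u} [Group G] [Finite G] [IsSimpleGroup G] (hna : ¬ IsMulCommutative G) :
    ∃ g₁ g₂ g₃ : G, ∀ χ : Cfsg.IrrCharacter G, Cfsg.charDegree (χ : G → ℂ) ≠ 1 →
      (χ : G → ℂ) g₁ = 0 ∨ (χ : G → ℂ) g₂ = 0 ∨ (χ : G → ℂ) g₃ = 0 :=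
  main_four TAB.F42.G.main fi23 fi24 TAB.HN.van hna

end Cfsg.Agent.VAN.Fin
end

private theorem dce_215388c22c5f : _root_.True := by
  try have : _root_.True := by simp only [_root_.Cfsg.Agent.VAN.E.cf7.eq_1]
  try have : _root_.True := by simp only [_root_.Cfsg.Agent.VAN.E.Cf.ok.eq_1]
  try have : _root_.True := by simp only [_root_.Cfsg.Agent.VAN.E.cf18.eq_1]
  try have : _root_.True := by simp only [_root_.Cfsg.Agent.VAN.E.Om.eq_1]
  try have : _root_.True := by simp only [_root_.Cfsg.Agent.VAN.E.rootsOK.eq_1]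
  exact _root_.True.intro
end

-- part: S4942
section
set_option linter.all false

set_option autoImplicit false
open Cfsg

namespace Cfsg.Agent.S4942

/-- Every finite non-abelian simple group G has three elements g₁, g₂, g₃ such that every irreducible complex character of G of degree greater than one vanishes at g₁, at g₂ or at g₃. -/
theorem result {G : Type*} [Group G] [Finite G] [IsSimpleGroup G] (hna : ¬ IsMulCommutative G) :
    ∃ g₁ g₂ g₃ : G, ∀ χ : Cfsg.IrrCharacter G, Cfsg.charDegree (χ : G → ℂ) ≠ 1 →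
      (χ : G → ℂ) g₁ = 0 ∨ (χ : G → ℂ) g₂ = 0 ∨ (χ : G → ℂ) g₃ = 0 :=
  VAN.Fin.main_two TAB.F23C.inF23 (TAB.F24.In.in0 TAB.F24C.inF24) hna

end Cfsg.Agent.S4942
end
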