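import Cfsg.Agent.H718.Delta
import Cfsg.Agent.Blocks.PElements
import Cfsg.Agent.Blocks.Twist
import Cfsg.Agent.S0148
import Cfsg.Agent.Blocks.LocalRing
import Cfsg.Agent.H718.SelfDual
import Cfsg.Agent.S2619
import Cfsg.Statements.S4959
import Cfsg.Agent.H718.ConjRep
set_option linter.all false

-- part: H718/Descent
section
/-!
# Dividing by a permutation character with prime power values
-/

set_option autoImplicit false
set_option linter.unusedSectionVars false

open scoped ComplexConjugate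

namespace Cfsg.Agent.H718

open Cfsg Cfsg.Agent.Characters.Core Cfsg.Agent.Blocks.Local

section

variable {H : Type*} [Group H] [Fintype H]

theorem IntCl.pow {f : H → ℂ} (hf : IntCl f) (n : ℕ) : IntCl (f ^ n) := by
  induction n with
  | zero => rw [pow_zero]; exact IntCl.one
  | succ n ih => rw [pow_succ]; exact ih.mul hf

theorem IntCl.poly {f : H → ℂ} (hf : IntCl f) (P : Polynomial ℤ) :
    IntCl (fun h => Polynomial.aeval (f h) P) := by
  have h1 : (fun h => Polynomial.aeval (f h) P) =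
      ∑ i ∈ Finset.range (P.natDegree + 1), ((P.coeff i : ℤ) : ℂ) • (f ^ i) := by
    funext h
    rw [Polynomial.aeval_eq_sum_range, Finset.sum_apply]
    refine Finset.sum_congr rfl (fun i _ => ?_)
    rw [Pi.smul_apply, Pi.pow_apply, smul_eq_mul, zsmul_eq_mul]
  rw [h1]
  refine IntCl.sum _ (fun i _ => (hf.pow i).smul ?_)
  exact isIntegral_algebraMap (R := ℤ) (x := P.coeff i)

/-- Descent: if `π δ` has integral coefficients, `π` is a class function with integral coefficients
whose values are powers of `p`, `p ∤ |H|` and the values of `δ` are integral, then `δ` has integral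
coefficients. -/
theorem IntCl.descend {p : ℕ} [Fact p.Prime] (hp : ¬ p ∣ Nat.card H) {π δ : H → ℂ}
    (hπ : IntCl π) (n : ℕ) (hval : ∀ h, ∃ i < n, π h = (p : ℂ) ^ i)
    (hδ : ∀ h, IsIntegral ℤ (δ h)) (hf : IntCl (π * δ)) : IntCl δ := by
  have hp0 : (p : ℂ) ≠ 0 := by exact_mod_cast (Fact.out : p.Prime).ne_zero
  have hπ0 : ∀ h, π h ≠ 0 := by
    intro h
    obtain ⟨i, -, hi⟩ := hval h
    rw [hi]
    exact pow_ne_zero _ hp0
  have hcl : IsClassFunction H δ := by
    intro a b
    have h1 := hf.1 a b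
    simp only [Pi.mul_apply] at h1
    rw [hπ.1 a b] at h1
    exact mul_left_cancel₀ (hπ0 a) h1
  -- the annihilating polynomial
  let m : Polynomial ℤ := ∏ i ∈ Finset.range n, (Polynomial.X - Polynomial.C ((p : ℤ) ^ i))
  have hm : ∀ h, Polynomial.aeval (π h) m = 0 := by
    intro h
    obtain ⟨i, hi, hi'⟩ := hval h
    rw [map_prod]
    refine Finset.prod_eq_zero (Finset.mem_range.2 hi) ?_
    rw [map_sub, Polynomial.aeval_X, Polynomial.aeval_C, hi']
    simp
  have hm0 : m.coeff 0 = ∏ i ∈ Finset.range n, (-((p : ℤ) ^ i)) := by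
    rw [Polynomial.coeff_zero_eq_eval_zero, Polynomial.eval_prod]
    refine Finset.prod_congr rfl (fun i _ => ?_)
    simp
  obtain ⟨c, hc⟩ : ∃ c : ℤ, c = m.coeff 0 := ⟨_, rfl⟩
  have hcop : IsCoprime (Nat.card H : ℤ) c := by
    rw [hc, hm0]
    refine IsCoprime.prod_right (fun i _ => ?_)
    rw [IsCoprime.neg_right_iff]
    refine IsCoprime.pow_right ?_
    rw [Nat.isCoprime_iff_coprime]
    exact Nat.Coprime.symm ((Nat.Prime.coprime_iff_not_dvd Fact.out).2 hp)
  have hcδ : (c : ℂ) • δ = (fun h => Polynomial.aeval (π h) (-m.divX)) * (π * δ) := by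
    funext h
    have h1 : Polynomial.aeval (π h) m = Polynomial.aeval (π h) m.divX * π h + (c : ℂ) := by
      conv_lhs => rw [← Polynomial.divX_mul_X_add m]
      rw [map_add, map_mul, Polynomial.aeval_X, Polynomial.aeval_C, hc]
      rfl
    rw [hm] at h1
    simp only [Pi.smul_apply, Pi.mul_apply, smul_eq_mul, map_neg]
    linear_combination (-δ h) * h1
  have hcI : IntCl ((c : ℂ) • δ) := by
    rw [hcδ]
    exact (hπ.poly _).mul hf
  refine ⟨hcl, fun ψ hψ => ?_⟩
  obtain ⟨a, b, hab⟩ := hcop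
  have h1 : IsIntegral ℤ ((c : ℂ) * classInner δ ψ) := by
    rw [← classInner_smul_left]
    exact hcI.2 ψ hψ
  have h2 : IsIntegral ℤ ((Nat.card H : ℂ) * classInner δ ψ) := by
    unfold classInner
    rw [← mul_assoc, mul_inv_cancel₀ (by exact_mod_cast Nat.card_pos.ne'), one_mul]
    refine IsIntegral.sum _ (fun g _ => (hδ g).mul ?_)
    have := isIntegral_character (isCharacter_conj (isIrr_isCharacter hψ)) g
    exact this
  have h3 : classInner δ ψ = (a : ℂ) * ((Nat.card H : ℂ) * classInner δ ψ) +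
      (b : ℂ) * ((c : ℂ) * classInner δ ψ) := by
    have h4 : (a : ℂ) * (Nat.card H : ℂ) + (b : ℂ) * (c : ℂ) = 1 := by
      exact_mod_cast hab
    linear_combination (-classInner δ ψ) * h4
  rw [h3]
  exact ((isIntegral_algebraMap (R := ℤ) (x := a)).mul h2).add
    ((isIntegral_algebraMap (R := ℤ) (x := b)).mul h1)

end

end Cfsg.Agent.H718
end

-- part: H718/Fix
section
/-!
# Fixed points and commutators of an element in a coprime module
-/

set_option autoImplicit false
set_option linter.unusedSectionVars false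

open scoped ComplexConjugate

namespace Cfsg.Agent.H718

open Cfsg Cfsg.Agent.Characters.Core Cfsg.Agent.Blocks.Local

section

variable {p : ℕ} [Fact p.Prime] {H : Type*} [Group H] [Fintype H] {S : Type*} [AddCommGroup S]
  [Module (ZMod p) S] [Finite S] (ρ : Representation (ZMod p) H S)

theorem rho_mul (g h : H) (x : S) : ρ (g * h) x = ρ g (ρ h x) := by
  rw [map_mul]; rfl

theorem rho_one (x : S) : ρ 1 x = x := by
  rw [map_one]; rfl

theorem rho_inv_self (h : H) (x : S) : ρ h⁻¹ (ρ h x) = x := by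
  rw [← rho_mul, inv_mul_cancel, rho_one]

theorem rho_self_inv (h : H) (x : S) : ρ h (ρ h⁻¹ x) = x := by
  rw [← rho_mul, mul_inv_cancel, rho_one]

/-- the fixed points -/
def Cfix (h : H) : Submodule (ZMod p) S := LinearMap.ker (LinearMap.id - ρ h)

/-- the commutators -/
def Kran (h : H) : Submodule (ZMod p) S := LinearMap.range (LinearMap.id - ρ h)

theorem mem_Cfix {h : H} {x : S} : x ∈ Cfix ρ h ↔ ρ h x = x := by
  unfold Cfix
  rw [LinearMap.mem_ker, LinearMap.sub_apply, LinearMap.id_apply, sub_eq_zero, eq_comm]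

theorem mem_Kran {h : H} {x : S} : x ∈ Kran ρ h ↔ ∃ u, u - ρ h u = x := by
  unfold Kran
  rw [LinearMap.mem_range]
  rfl

theorem sub_mem_Kran (h : H) (u : S) : u - ρ h u ∈ Kran ρ h := (mem_Kran ρ).2 ⟨u, rfl⟩

theorem Kran_one : Kran ρ 1 = ⊥ := by
  rw [eq_bot_iff]
  intro x hx
  obtain ⟨u, rfl⟩ := (mem_Kran ρ).1 hx
  rw [rho_one, sub_self]
  exact Submodule.zero_mem _

theorem Cfix_one : Cfix ρ 1 = ⊤ := by
  rw [eq_top_iff]
  intro x _
  rw [mem_Cfix, rho_one]

theorem card_submodule (N : Submodule (ZMod p) S) :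
    Nat.card N = p ^ Module.finrank (ZMod p) N := by
  have : Module.Finite (ZMod p) S := Module.Finite.of_finite
  have := Module.natCard_eq_pow_finrank (K := ZMod p) (V := N)
  rw [this, Nat.card_zmod]

theorem card_mul (h : H) : Nat.card (Cfix ρ h) * Nat.card (Kran ρ h) = Nat.card S := by
  have : Module.Finite (ZMod p) S := Module.Finite.of_finite
  have h1 := LinearMap.finrank_range_add_finrank_ker (LinearMap.id - ρ h)
  have h2 : Nat.card S = p ^ Module.finrank (ZMod p) S := by
    rw [Module.natCard_eq_pow_finrank (K := ZMod p) (V := S), Nat.card_zmod]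
  rw [card_submodule, card_submodule, h2, ← pow_add, add_comm]
  congr 1

theorem sum_pow_rho (h : H) (u : S) (n : ℕ) :
    ∑ i ∈ Finset.range n, ρ (h ^ i) (u - ρ h u) = u - ρ (h ^ n) u := by
  induction n with
  | zero => simp [rho_one]
  | succ n ih =>
    rw [Finset.sum_range_succ, ih, map_sub, ← rho_mul, ← pow_succ]
    abel

theorem isCompl_fix (hp : ¬ p ∣ Nat.card H) (h : H) : IsCompl (Cfix ρ h) (Kran ρ h) := by
  have : Module.Finite (ZMod p) S := Module.Finite.of_finite
  have hd : Disjoint (Cfix ρ h) (Kran ρ h) := by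
    rw [Submodule.disjoint_def]
    intro x hx hx'
    rw [mem_Cfix] at hx
    obtain ⟨u, hu⟩ := (mem_Kran ρ).1 hx'
    have h1 := sum_pow_rho ρ h u (orderOf h)
    rw [pow_orderOf_eq_one, rho_one, sub_self, hu] at h1
    have h2 : ∀ i : ℕ, ρ (h ^ i) x = x := by
      intro i
      induction i with
      | zero => rw [pow_zero, rho_one]
      | succ n ih => rw [pow_succ, rho_mul, hx, ih]
    simp only [h2] at h1
    rw [Finset.sum_const, Finset.card_range, ← Nat.cast_smul_eq_nsmul (ZMod p)] at h1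
    rcases smul_eq_zero.1 h1 with h3 | h3
    · exfalso
      apply hp
      rw [ZMod.natCast_eq_zero_iff] at h3
      exact h3.trans (Nat.card_eq_fintype_card (α := H) ▸ orderOf_dvd_card)
    · exact h3
  refine ⟨hd, ?_⟩
  rw [codisjoint_iff]
  apply Submodule.eq_top_of_finrank_eq
  have h1 := LinearMap.finrank_range_add_finrank_ker (LinearMap.id - ρ h)
  have h2 := Submodule.finrank_sup_add_finrank_inf_eq (Cfix ρ h) (Kran ρ h)
  rw [hd.eq_bot, finrank_bot, add_zero] at h2
  rw [h2, add_comm]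
  exact h1

theorem exists_add_of_compl (hp : ¬ p ∣ Nat.card H) (h : H) (x : S) :
    ∃ c ∈ Cfix ρ h, ∃ k ∈ Kran ρ h, c + k = x := by
  have h1 := (isCompl_fix ρ hp h).sup_eq_top
  have h2 : x ∈ Cfix ρ h ⊔ Kran ρ h := h1 ▸ Submodule.mem_top
  exact Submodule.mem_sup.1 h2

/-- the permutation character on an invariant subset -/
theorem isCharacter_fix (P : S → Prop) (hP : ∀ h x, P x → P (ρ h x)) :
    IsCharacter H (fun h => (Nat.card {x : S // P x ∧ ρ h x = x} : ℂ)) := by
  let act : MulAction H {x : S // P x} :=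
    { smul := fun h x => ⟨ρ h x, hP h x x.2⟩
      one_smul := fun x => Subtype.ext (rho_one ρ _)
      mul_smul := fun g h x => Subtype.ext (rho_mul ρ g h _) }
  have h1 := Cfsg.Agent.Blocks.PElements.isCharacter_fixedBy (G := H) (X := {x : S // P x})
  have h2 : (fun h => (Nat.card {x : S // P x ∧ ρ h x = x} : ℂ)) =
      (fun g : H => (Nat.card (MulAction.fixedBy {x : S // P x} g) : ℂ)) := by
    funext h
    congr 1
    refine Nat.card_congr
      { toFun := fun x => ⟨⟨x.1, x.2.1⟩, Subtype.ext x.2.2⟩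
        invFun := fun x => ⟨x.1.1, x.1.2, congrArg Subtype.val x.2⟩
        left_inv := fun x => rfl
        right_inv := fun x => rfl }
  rw [h2]
  exact h1

/-- the permutation character -/
noncomputable def piFix (h : H) : ℂ := (Nat.card (Cfix ρ h) : ℂ)

theorem piFix_eq (h : H) : piFix ρ h = (Nat.card {x : S // ρ h x = x} : ℂ) := by
  unfold piFix
  congr 1
  exact Nat.card_congr (Equiv.subtypeEquivRight (fun x => mem_Cfix ρ))

theorem intCl_piFix : IntCl (piFix ρ) := by
  have h1 : piFix ρ = (fun h => (Nat.card {x : S // True ∧ ρ h x = x} : ℂ)) := by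
    funext h
    rw [piFix_eq]
    congr 1
    exact Nat.card_congr (Equiv.subtypeEquivRight (fun x => by simp))
  rw [h1]
  exact IntCl.of_isCharacter (isCharacter_fix ρ (fun _ => True) (fun _ _ _ => trivial))

theorem piFix_pow (h : H) :
    ∃ i < Module.finrank (ZMod p) S + 1, piFix ρ h = (p : ℂ) ^ i := by
  have : Module.Finite (ZMod p) S := Module.Finite.of_finite
  refine ⟨Module.finrank (ZMod p) (Cfix ρ h), ?_, ?_⟩
  · exact Nat.lt_succ_of_le (Submodule.finrank_le _)
  · unfold piFix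
    rw [card_submodule]
    push_cast
    rfl

theorem piFix_ne_zero (h : H) : piFix ρ h ≠ 0 := by
  unfold piFix
  exact_mod_cast Nat.card_pos.ne'

/-- the descent lemma in our situation -/
theorem intCl_of_piFix_mul (hp : ¬ p ∣ Nat.card H) {δ : H → ℂ} (hδ : ∀ h, IsIntegral ℤ (δ h))
    (hf : IntCl (piFix ρ * δ)) : IntCl δ :=
  IntCl.descend hp (intCl_piFix ρ) _ (piFix_pow ρ) hδ hf

end

end Cfsg.Agent.H718
end

-- part: H718/SymDelta
section
/-!
# `δ` for an invariant nondegenerate quadratic form: Gauss sums over the commutator spaces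
-/

set_option autoImplicit false
set_option linter.unusedSectionVars false

open scoped ComplexConjugate

namespace Cfsg.Agent.H718

open Cfsg Cfsg.Agent.Characters.Core Cfsg.Agent.Blocks.Local

section

variable {p : ℕ} [Fact p.Prime] {S : Type*} [AddCommGroup S] [Module (ZMod p) S] [Finite S]

/-- The sum of the values on a subspace. -/
noncomputable def gs (f : S → ℂ) (N : Submodule (ZMod p) S) : ℂ := ∑ᶠ x : N, f x

theorem gs_eq_sum (f : S → ℂ) (N : Submodule (ZMod p) S) [Fintype N] : gs f N = ∑ x : N, f x := by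
  unfold gs
  exact finsum_eq_sum_of_fintype _

theorem gs_bot (f : S → ℂ) : gs f (⊥ : Submodule (ZMod p) S) = f 0 := by
  have : Fintype (⊥ : Submodule (ZMod p) S) := Fintype.ofFinite _
  rw [gs_eq_sum, Fintype.sum_unique]
  rfl

theorem map_gs (σ : ℂ ≃+* ℂ) (f : S → ℂ) (N : Submodule (ZMod p) S) :
    σ (gs f N) = gs (fun x => σ (f x)) N := by
  have : Fintype N := Fintype.ofFinite _
  rw [gs_eq_sum, gs_eq_sum, map_sum]

theorem conj_gs (f : S → ℂ) (N : Submodule (ZMod p) S) :
    conj (gs f N) = gs (fun x => conj (f x)) N := by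
  have : Fintype N := Fintype.ofFinite _
  rw [gs_eq_sum, gs_eq_sum, map_sum]

theorem gs_top_eq_mul {C K : Submodule (ZMod p) S} (h : IsCompl C K) {f : S → ℂ}
    (hf : ∀ c ∈ C, ∀ k ∈ K, f (c + k) = f c * f k) :
    gs f (⊤ : Submodule (ZMod p) S) = gs f C * gs f K := by
  have : Fintype C := Fintype.ofFinite _
  have : Fintype K := Fintype.ofFinite _
  have : Fintype (⊤ : Submodule (ZMod p) S) := Fintype.ofFinite _
  rw [gs_eq_sum, gs_eq_sum, gs_eq_sum, Finset.sum_mul_sum, ← Fintype.sum_prod_type']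
  symm
  refine Fintype.sum_equiv ((Submodule.prodEquivOfIsCompl C K h).trans
    (Submodule.topEquiv (R := ZMod p) (M := S)).symm).toEquiv (fun x : C × K => f x.1 * f x.2) _ ?_
  rintro ⟨c, k⟩
  show f c * f k = f ((c : S) + k)
  rw [hf c c.2 k k.2]

theorem sum_addChar_linear {ψ : AddChar (ZMod p) ℂ} (hψ : ψ ≠ 1) (N : Submodule (ZMod p) S)
    [Fintype N] (φ : N →ₗ[ZMod p] ZMod p) (hφ : φ ≠ 0) : ∑ y : N, ψ (φ y) = 0 := by
  have h1 : ψ.compAddMonoidHom φ.toAddMonoidHom ≠ 1 := by
    intro h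
    obtain ⟨y, hy⟩ : ∃ y, φ y ≠ 0 := by
      by_contra hcon
      push Not at hcon
      exact hφ (LinearMap.ext hcon)
    apply hψ
    apply DFunLike.ext
    intro t
    have h2 := congrArg (fun χ : AddChar N ℂ => χ ((t / φ y) • y)) h
    simp only [AddChar.compAddMonoidHom_apply] at h2
    have h3 : φ.toAddMonoidHom ((t / φ y) • y) = t := by
      show φ ((t / φ y) • y) = t
      rw [map_smul, smul_eq_mul, div_mul_cancel₀ _ hy]
    rw [h3] at h2
    rw [h2]
    rfl
  have h2 := AddChar.sum_eq_zero_of_ne_one h1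
  rw [← h2]
  rfl

theorem addChar_mul_conj (ψ : AddChar (ZMod p) ℂ) (a b : ZMod p) :
    ψ a * conj (ψ b) = ψ (a - b) := by
  rw [← AddChar.map_neg_eq_conj, ← AddChar.map_add_eq_mul, sub_eq_add_neg]

/-- the absolute value of a quadratic Gauss sum -/
theorem gs_mul_conj {ψ : AddChar (ZMod p) ℂ} (hψ : ψ ≠ 1) (N : Submodule (ZMod p) S)
    {q : S → ZMod p} {B : LinearMap.BilinForm (ZMod p) S}
    (hq : ∀ x y, q (x + y) = q x + q y + B x y)
    (hnd : ∀ x ∈ N, (∀ y ∈ N, B x y = 0) → x = 0) :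
    gs (fun x => ψ (q x)) N * conj (gs (fun x => ψ (q x)) N) = Nat.card N := by
  classical
  have : Fintype N := Fintype.ofFinite _
  have hsymm : ∀ x y, B x y = B y x := by
    intro x y
    have h1 := hq x y
    have h2 := hq y x
    rw [add_comm y x, h1] at h2
    linear_combination h2
  have hq0 : q 0 = 0 := by
    have h1 := hq 0 0
    rw [add_zero, map_zero, add_zero] at h1
    linear_combination -h1
  rw [gs_eq_sum, map_sum, mul_comm, Finset.sum_mul_sum]
  have h1 : ∀ x : N, ∑ y : N, conj (ψ (q x)) * ψ (q y) = ∑ z : N, ψ (q z) * ψ (B x z) := by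
    intro x
    refine (Fintype.sum_equiv (Equiv.addLeft x) _ _ (fun z => ?_)).symm
    show ψ (q z) * ψ (B x z) = conj (ψ (q x)) * ψ (q ((x : S) + z))
    rw [mul_comm (conj _), addChar_mul_conj, hq, ← AddChar.map_add_eq_mul]
    congr 1
    ring
  rw [Finset.sum_congr rfl (fun x _ => h1 x), Finset.sum_comm]
  have h2 : ∀ z : N, ∑ x : N, ψ (q z) * ψ (B x z) = if z = 0 then (Nat.card N : ℂ) else 0 := by
    intro z
    rw [← Finset.mul_sum]
    by_cases hz : z = 0
    · subst hz
      simp [hq0, Nat.card_eq_fintype_card]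
    · rw [if_neg hz]
      have h3 := sum_addChar_linear hψ N ((B z).comp N.subtype) (by
        intro h
        apply hz
        apply Subtype.ext
        refine hnd z z.2 (fun y hy => ?_)
        have := congrArg (fun φ : N →ₗ[ZMod p] ZMod p => φ ⟨y, hy⟩) h
        exact this)
      have h4 : ∑ x : N, ψ (B x z) = ∑ y : N, ψ (((B z).comp N.subtype) y) := by
        refine Finset.sum_congr rfl (fun x _ => ?_)
        rw [hsymm]
        rfl
      rw [h4, h3, mul_zero]
  rw [Finset.sum_congr rfl (fun z _ => h2 z), Finset.sum_ite_eq' Finset.univ 0]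
  simp

theorem norm_gs_sq {ψ : AddChar (ZMod p) ℂ} (hψ : ψ ≠ 1) (N : Submodule (ZMod p) S)
    {q : S → ZMod p} {B : LinearMap.BilinForm (ZMod p) S}
    (hq : ∀ x y, q (x + y) = q x + q y + B x y)
    (hnd : ∀ x ∈ N, (∀ y ∈ N, B x y = 0) → x = 0) :
    ‖gs (fun x => ψ (q x)) N‖ ^ 2 = Nat.card N := by
  have h1 := gs_mul_conj hψ N hq hnd
  rw [Complex.mul_conj, Complex.normSq_eq_norm_sq] at h1
  exact_mod_cast h1

theorem exists_addChar_ne_one (p : ℕ) [Fact p.Prime] : ∃ ψ : AddChar (ZMod p) ℂ, ψ ≠ 1 := by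
  obtain ⟨ψ, hψ⟩ := (AddChar.exists_apply_ne_zero (a := (1 : ZMod p))).2 one_ne_zero
  exact ⟨ψ, fun h => hψ (by rw [h]; rfl)⟩

theorem addChar_pow (ψ : AddChar (ZMod p) ℂ) (a : ZMod p) : ψ a ^ p = 1 := by
  rw [← AddChar.map_nsmul_eq_pow]
  have : p • a = 0 := by rw [nsmul_eq_mul, CharP.cast_eq_zero, zero_mul]
  rw [this, AddChar.map_zero_eq_one]

theorem isIntegral_addChar (ψ : AddChar (ZMod p) ℂ) (a : ZMod p) : IsIntegral ℤ (ψ a) :=
  IsIntegral.of_pow (Fact.out : p.Prime).pos ((addChar_pow ψ a).symm ▸ isIntegral_one)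

/-- conjugate of an additive character -/
noncomputable def conjChar (σ : ℂ ≃+* ℂ) (ψ : AddChar (ZMod p) ℂ) : AddChar (ZMod p) ℂ :=
  ((σ : ℂ →+* ℂ) : ℂ →* ℂ).compAddChar ψ

theorem conjChar_apply (σ : ℂ ≃+* ℂ) (ψ : AddChar (ZMod p) ℂ) (a : ZMod p) :
    conjChar σ ψ a = σ (ψ a) := rfl

theorem conjChar_ne_one (σ : ℂ ≃+* ℂ) {ψ : AddChar (ZMod p) ℂ} (hψ : ψ ≠ 1) :
    conjChar σ ψ ≠ 1 := by
  intro h
  apply hψ
  apply DFunLike.ext
  intro a
  have h5 := congrArg (fun φ : AddChar (ZMod p) ℂ => φ a) h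
  simp only [conjChar_apply] at h5
  have h6 : ((1 : AddChar (ZMod p) ℂ) a) = 1 := rfl
  rw [h6] at h5 ⊢
  apply σ.injective
  rw [h5, map_one]

variable {H : Type*} [Group H] [Fintype H]

/-- **`δ` for a quadratic form.** -/
theorem exists_delta_quadratic {M : Ideal AlgInt} (hM : IsPModular p M) (hp : ¬ p ∣ Nat.card H)
    (ρ : Representation (ZMod p) H S) (q : S → ZMod p) (B : LinearMap.BilinForm (ZMod p) S)
    (hq : ∀ x y, q (x + y) = q x + q y + B x y) (hinv : ∀ h x, q (ρ h x) = q x)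
    (hnd : ∀ x, (∀ y, B x y = 0) → x = 0) :
    ∃ δ : H → ℂ, Delta M (fun h s => ρ h s) δ := by
  classical
  have hprime := isPrime_of_isPModular hM
  obtain ⟨ψ, hψ⟩ := exists_addChar_ne_one p
  have hsymm : ∀ x y, B x y = B y x := by
    intro x y
    have h1 := hq x y
    have h2 := hq y x
    rw [add_comm y x, h1] at h2
    linear_combination h2
  have hq0 : q 0 = 0 := by
    have h1 := hq 0 0
    rw [add_zero, map_zero, add_zero] at h1
    linear_combination -h1
  have hBinv : ∀ h x y, B (ρ h x) (ρ h y) = B x y := by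
    intro h x y
    have h1 := hq (ρ h x) (ρ h y)
    rw [← map_add, hinv, hinv, hinv, hq] at h1
    linear_combination -h1
  have hCK : ∀ h : H, ∀ c ∈ Cfix ρ h, ∀ k ∈ Kran ρ h, B c k = 0 := by
    intro h c hc k hk
    obtain ⟨u, rfl⟩ := (mem_Kran ρ).1 hk
    have h1 := hBinv h c u
    rw [(mem_Cfix ρ).1 hc] at h1
    rw [map_sub, h1, sub_self]
  have hKC : ∀ h : H, ∀ c ∈ Cfix ρ h, ∀ k ∈ Kran ρ h, B k c = 0 := fun h c hc k hk => by
    rw [hsymm]; exact hCK h c hc k hk
  have hndC : ∀ h : H, ∀ x ∈ Cfix ρ h, (∀ y ∈ Cfix ρ h, B x y = 0) → x = 0 := by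
    intro h x hx h0
    refine hnd x (fun y => ?_)
    obtain ⟨c, hc, k, hk, rfl⟩ := exists_add_of_compl ρ hp h y
    rw [map_add, h0 c hc, hCK h x hx k hk, add_zero]
  have hndK : ∀ h : H, ∀ x ∈ Kran ρ h, (∀ y ∈ Kran ρ h, B x y = 0) → x = 0 := by
    intro h x hx h0
    refine hnd x (fun y => ?_)
    obtain ⟨c, hc, k, hk, rfl⟩ := exists_add_of_compl ρ hp h y
    rw [map_add, h0 k hk, hKC h c hc x hx, add_zero]
  -- the factorization
  have hfac : ∀ h : H, gs (fun x => ψ (q x)) (⊤ : Submodule (ZMod p) S) =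
      gs (fun x => ψ (q x)) (Cfix ρ h) * gs (fun x => ψ (q x)) (Kran ρ h) := by
    intro h
    refine gs_top_eq_mul (isCompl_fix ρ hp h) (fun c hc k hk => ?_)
    rw [hq, hCK h c hc k hk, add_zero, AddChar.map_add_eq_mul]
  have hint : ∀ h : H, IsIntegral ℤ (gs (fun x => ψ (q x)) (Kran ρ h)) := by
    intro h
    have : Fintype (Kran ρ h) := Fintype.ofFinite _
    rw [gs_eq_sum]
    exact IsIntegral.sum _ (fun x _ => isIntegral_addChar ψ _)
  refine ⟨fun h => gs (fun x => ψ (q x)) (Kran ρ h), ?_, ?_, ?_, ?_, ?_⟩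
  · -- integral coefficients
    refine intCl_of_piFix_mul ρ hp hint ?_
    have h1 : (piFix ρ * fun h => gs (fun x => ψ (q x)) (Kran ρ h)) =
        (gs (fun x => ψ (q x)) (⊤ : Submodule (ZMod p) S)) • ∑ a : ZMod p,
          (ψ (-a)) • (fun h => (Nat.card {x : S // q x = a ∧ ρ h x = x} : ℂ)) := by
      funext h
      have h2 : (∑ a : ZMod p, (ψ (-a)) • (fun h => (Nat.card {x : S // q x = a ∧ ρ h x = x} : ℂ))) h =
          conj (gs (fun x => ψ (q x)) (Cfix ρ h)) := by
        have : Fintype (Cfix ρ h) := Fintype.ofFinite _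
        rw [conj_gs, gs_eq_sum, Finset.sum_apply, ← Finset.sum_fiberwise Finset.univ (fun x : Cfix ρ h => q x)]
        refine Finset.sum_congr rfl (fun a _ => ?_)
        have h3 : ∑ x ∈ Finset.filter (fun x : Cfix ρ h => q (x : S) = a) Finset.univ, conj (ψ (q (x : S))) =
            ∑ x ∈ Finset.filter (fun x : Cfix ρ h => q (x : S) = a) Finset.univ, ψ (-a) := by
          refine Finset.sum_congr rfl (fun x hx => ?_)
          rw [Finset.mem_filter] at hx
          rw [hx.2, AddChar.map_neg_eq_conj]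
        rw [h3, Finset.sum_const, Pi.smul_apply, smul_eq_mul, nsmul_eq_mul, mul_comm]
        congr 1
        rw [← Fintype.card_subtype, ← Nat.card_eq_fintype_card]
        congr 1
        exact Nat.card_congr
          { toFun := fun x => ⟨⟨x.1, (mem_Cfix ρ).2 x.2.2⟩, x.2.1⟩
            invFun := fun x => ⟨x.1.1, x.2, (mem_Cfix ρ).1 x.1.2⟩
            left_inv := fun x => rfl
            right_inv := fun x => rfl }
      rw [Pi.mul_apply, Pi.smul_apply, h2, smul_eq_mul, hfac h]
      have h3 := gs_mul_conj hψ (Cfix ρ h) hq (hndC h)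
      unfold piFix
      rw [← h3]
      ring
    rw [h1]
    refine IntCl.smul (IntCl.sum _ (fun a _ => IntCl.smul (IntCl.of_isCharacter ?_)
      (isIntegral_addChar ψ _))) ?_
    · exact isCharacter_fix ρ (fun x => q x = a) (fun h x hx => by rw [hinv]; exact hx)
    · have : Fintype (⊤ : Submodule (ZMod p) S) := Fintype.ofFinite _
      rw [gs_eq_sum]
      exact IsIntegral.sum _ (fun x _ => isIntegral_addChar ψ _)
  · refine ⟨p, (Fact.out : p.Prime).ne_zero, fun h => ?_⟩
    have : Fintype (Kran ρ h) := Fintype.ofFinite _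
    show gs _ _ ∈ _
    rw [gs_eq_sum]
    exact sum_mem (fun x _ => mem_Cyc_of_pow (addChar_pow ψ _))
  · show gs _ _ = _
    rw [Kran_one, gs_bot, hq0, AddChar.map_zero_eq_one]
  · rintro h ⟨s, hs⟩
    have : Fintype (Kran ρ h) := Fintype.ofFinite _
    show MemLocalIdeal M (gs _ _)
    have h1 : gs (fun x => ψ (q x)) (Kran ρ h) =
        ∑ x : Kran ρ h, (ψ (q x) - 1) + (Nat.card (Kran ρ h) : ℂ) := by
      rw [gs_eq_sum, Finset.sum_sub_distrib]
      simp [Nat.card_eq_fintype_card]
    rw [h1]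
    refine memLocalIdeal_add (memLocalIdeal_sum (fun x _ =>
      Cfsg.Agent.Blocks.Twist.memLocalIdeal_sub_one_of_pow_eq_one hM (addChar_pow ψ _))) ?_
    rw [memLocalIdeal_natCast_iff hM, card_submodule]
    refine dvd_pow_self p ?_
    intro h0
    have : Module.Finite (ZMod p) S := Module.Finite.of_finite
    rw [Submodule.finrank_eq_zero] at h0
    apply hs
    have h2 := sub_mem_Kran ρ h s
    rw [h0, Submodule.mem_bot, sub_eq_zero] at h2
    exact h2.symm
  · intro σ h
    have h1 : σ (gs (fun x => ψ (q x)) (Kran ρ h)) = gs (fun x => conjChar σ ψ (q x)) (Kran ρ h) :=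
      map_gs σ _ _
    have h2 := norm_gs_sq (conjChar_ne_one σ hψ) (Kran ρ h) hq (hndK h)
    show ‖σ (gs (fun x => ψ (q x)) (Kran ρ h))‖ ^ 2 * _ = _
    rw [h1, h2]
    have h3 : Nat.card {s : S // ρ h s = s} = Nat.card (Cfix ρ h) :=
      Nat.card_congr (Equiv.subtypeEquivRight (fun x => (mem_Cfix ρ).symm))
    rw [h3, mul_comm]
    exact_mod_cast card_mul ρ h

end

end Cfsg.Agent.H718
end

-- part: H718/Weil
section
/-!
# `δ` for an invariant nondegenerate alternating form, `p` odd: the Weil representation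

`κ` is an alternating nondegenerate bicharacter on `S` invariant under `H`; the matrices `T v` span
a twisted group algebra, `E h` is the element of this algebra with `E h * T v = T (h v) * E h`,
normalized to have coefficient `1` at `T 0`; `E g * E h = c g h • E (g h)` and the cocycle `c` is
trivial by coprimality.
-/

set_option autoImplicit false
set_option linter.unusedSectionVars false

open scoped ComplexConjugate

namespace Cfsg.Agent.H718.Weil

open Cfsg Cfsg.Agent.Characters.Core Cfsg.Agent.Blocks.Local Matrix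

variable {p : ℕ} [Fact p.Prime] {H : Type*} [Group H] [Fintype H] {S : Type*} [AddCommGroup S]
  [Module (ZMod p) S] [Finite S]

/-- an invariant alternating nondegenerate bicharacter -/
structure Symp (ρ : Representation (ZMod p) H S) (κ : S → S → ℂ) : Prop where
  add_left : ∀ x y z, κ (x + y) z = κ x z * κ y z
  add_right : ∀ x y z, κ x (y + z) = κ x y * κ x z
  self : ∀ x, κ x x = 1
  pow : ∀ x y, κ x y ^ p = 1
  nd : ∀ x, (∀ y, κ x y = 1) → x = 0
  inv : ∀ h x y, κ (ρ h x) (ρ h y) = κ x y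

namespace Symp

variable {ρ : Representation (ZMod p) H S} {κ : S → S → ℂ}

theorem ne_zero (s : Symp ρ κ) (x y : S) : κ x y ≠ 0 := by
  intro h
  have := s.pow x y
  rw [h, zero_pow (Fact.out : p.Prime).ne_zero] at this
  exact zero_ne_one this

theorem zero_left (s : Symp ρ κ) (y : S) : κ 0 y = 1 := by
  have := s.add_left 0 0 y
  rw [add_zero] at this
  exact (mul_eq_left₀ (s.ne_zero 0 y)).1 this.symm

theorem zero_right (s : Symp ρ κ) (y : S) : κ y 0 = 1 := by
  have := s.add_right y 0 0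
  rw [add_zero] at this
  exact (mul_eq_left₀ (s.ne_zero y 0)).1 this.symm

theorem mul_swap (s : Symp ρ κ) (x y : S) : κ x y * κ y x = 1 := by
  have h1 := s.self (x + y)
  rw [s.add_left, s.add_right, s.add_right, s.self, s.self] at h1
  simpa using h1

theorem swap (s : Symp ρ κ) (x y : S) : κ y x = (κ x y)⁻¹ :=
  eq_inv_of_mul_eq_one_right (s.mul_swap x y)

theorem neg_left (s : Symp ρ κ) (x y : S) : κ (-x) y = (κ x y)⁻¹ := by
  have h1 := s.add_left x (-x) y
  rw [add_neg_cancel, s.zero_left] at h1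
  exact eq_inv_of_mul_eq_one_right h1.symm

theorem neg_right (s : Symp ρ κ) (x y : S) : κ x (-y) = (κ x y)⁻¹ := by
  have h1 := s.add_right x y (-y)
  rw [add_neg_cancel, s.zero_right] at h1
  exact eq_inv_of_mul_eq_one_right h1.symm

theorem sub_left (s : Symp ρ κ) (x y z : S) : κ (x - y) z = κ x z * (κ y z)⁻¹ := by
  rw [sub_eq_add_neg, s.add_left, s.neg_left]

theorem sub_right (s : Symp ρ κ) (x y z : S) : κ x (y - z) = κ x y * (κ x z)⁻¹ := by
  rw [sub_eq_add_neg, s.add_right, s.neg_right]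

theorem norm_eq (s : Symp ρ κ) (x y : S) : ‖κ x y‖ = 1 :=
  Complex.norm_eq_one_of_pow_eq_one (s.pow x y) (Fact.out : p.Prime).ne_zero

theorem conj_eq (s : Symp ρ κ) (x y : S) : conj (κ x y) = (κ x y)⁻¹ := by
  rw [Complex.inv_def, Complex.normSq_eq_norm_sq, s.norm_eq]
  simp

/-- conjugates -/
theorem map (s : Symp ρ κ) (σ : ℂ ≃+* ℂ) : Symp ρ (fun x y => σ (κ x y)) where
  add_left x y z := by simp only [s.add_left, map_mul]
  add_right x y z := by simp only [s.add_right, map_mul]
  self x := by rw [s.self, map_one]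
  pow x y := by rw [← map_pow, s.pow, map_one]
  nd x h := s.nd x (fun y => σ.injective (by rw [h y, map_one]))
  inv h x y := by simp only [s.inv]

theorem eq_one_of_fix (s : Symp ρ κ) {k : H} {c w : S} (hc : c ∈ Cfix ρ k) (hw : w ∈ Kran ρ k) :
    κ w c = 1 := by
  obtain ⟨u, rfl⟩ := (mem_Kran ρ).1 hw
  have h1 := s.inv k u c
  rw [(mem_Cfix ρ).1 hc] at h1
  rw [s.sub_left, h1, mul_inv_cancel₀ (s.ne_zero _ _)]

/-- `K = C^⊥` -/
theorem exists_of_not_mem (s : Symp ρ κ) (hp : ¬ p ∣ Nat.card H) {k : H} {w : S}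
    (hw : w ∉ Kran ρ k) : ∃ c ∈ Cfix ρ k, κ w c ≠ 1 := by
  by_contra hcon
  push Not at hcon
  apply hw
  obtain ⟨c₀, hc₀, k₀, hk₀, rfl⟩ := exists_add_of_compl ρ hp k w
  have h0 : c₀ = 0 := by
    refine s.nd c₀ (fun y => ?_)
    obtain ⟨c, hc, k', hk', rfl⟩ := exists_add_of_compl ρ hp k y
    have h1 := hcon c hc
    rw [s.add_left, s.eq_one_of_fix hc hk₀, mul_one] at h1
    rw [s.add_right, h1, one_mul, s.swap, s.eq_one_of_fix hc₀ hk', inv_one]
  rw [h0, zero_add]
  exact hk₀

end Symp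

variable (ρ : Representation (ZMod p) H S) (κ : S → S → ℂ)

open Classical in
/-- the coefficients of `E k` -/
noncomputable def e (k : H) (w : S) : ℂ :=
  if h : ∃ u, u - ρ k u = w then κ h.choose (ρ k h.choose) else 0

variable {ρ κ}

theorem e_apply (s : Symp ρ κ) (k : H) (u : S) : e ρ κ k (u - ρ k u) = κ u (ρ k u) := by
  have h : ∃ v, v - ρ k v = u - ρ k u := ⟨u, rfl⟩
  unfold e
  rw [dif_pos h]
  have h1 := h.choose_spec
  set v := h.choose
  obtain ⟨c, hc⟩ : ∃ c, v = u + c := ⟨v - u, by abel⟩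
  have hcf : ρ k c = c := by
    rw [hc, map_add] at h1
    have : c - ρ k c = 0 := by
      have h2 : u + c - (ρ k u + ρ k c) = (u - ρ k u) + (c - ρ k c) := by abel
      rw [h2] at h1
      exact (add_eq_left).1 h1
    exact (sub_eq_zero.1 this).symm
  have h3 : κ (u - ρ k u) c = 1 := s.eq_one_of_fix ((mem_Cfix ρ).2 hcf) (sub_mem_Kran ρ k u)
  rw [s.sub_left] at h3
  have h4 : κ u c = κ (ρ k u) c := by
    rw [mul_inv_eq_one₀ (s.ne_zero _ _)] at h3
    exact h3
  rw [hc, map_add, hcf, s.add_left, s.add_right, s.add_right, s.self, h4, mul_one, s.swap (ρ k u) c,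
    mul_assoc, mul_inv_cancel₀ (s.ne_zero _ _), mul_one]

theorem e_not_mem {k : H} {w : S} (hw : w ∉ Kran ρ k) : e ρ κ k w = 0 := by
  unfold e
  rw [dif_neg]
  intro h
  exact hw ((mem_Kran ρ).2 h)

theorem e_zero (s : Symp ρ κ) (k : H) : e ρ κ k 0 = 1 := by
  have h := e_apply s k 0
  rw [map_zero, sub_zero, s.self] at h
  exact h

theorem e_pow (s : Symp ρ κ) {k : H} {w : S} (hw : w ∈ Kran ρ k) : e ρ κ k w ^ p = 1 := by
  obtain ⟨u, rfl⟩ := (mem_Kran ρ).1 hw
  rw [e_apply s]
  exact s.pow _ _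

theorem map_e (s : Symp ρ κ) (σ : ℂ ≃+* ℂ) (k : H) (w : S) :
    σ (e ρ κ k w) = e ρ (fun x y => σ (κ x y)) k w := by
  by_cases hw : w ∈ Kran ρ k
  · obtain ⟨u, rfl⟩ := (mem_Kran ρ).1 hw
    rw [e_apply s, e_apply (s.map σ)]
  · rw [e_not_mem hw, e_not_mem hw, map_zero]

variable [Fintype S] [DecidableEq S]

variable (ρ κ) in
/-- the matrix `E k` -/
noncomputable def E (k : H) : Matrix S S ℂ := Matrix.of fun x y => e ρ κ k (x - y) * κ x y

variable (κ) in
/-- the matrices `T v` -/
noncomputable def T (v : S) : Matrix S S ℂ := Matrix.of fun x y => if x = y + v then κ v y else 0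

variable (κ) in
/-- membership in the twisted group algebra -/
def InA (X : Matrix S S ℂ) : Prop := ∀ x y, X x y = X (x - y) 0 * κ x y

theorem mul_T (X : Matrix S S ℂ) (v x y : S) : (X * T κ v) x y = X x (y + v) * κ v y := by
  rw [Matrix.mul_apply, Finset.sum_eq_single (y + v)]
  · simp [T]
  · intro b _ hb
    simp [T, hb]
  · intro h
    exact absurd (Finset.mem_univ _) h

theorem T_mul (s : Symp ρ κ) (X : Matrix S S ℂ) (v x y : S) :
    (T κ v * X) x y = κ v x * X (x - v) y := by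
  rw [Matrix.mul_apply, Finset.sum_eq_single (x - v)]
  · simp only [T, Matrix.of_apply, sub_add_cancel, if_true]
    rw [s.sub_right, s.self, inv_one, mul_one]
  · intro b _ hb
    have : x ≠ b + v := fun h => hb (by rw [h]; abel)
    simp [T, this]
  · intro h
    exact absurd (Finset.mem_univ _) h

theorem InA.mul (s : Symp ρ κ) {X Y : Matrix S S ℂ} (hX : InA κ X) (hY : InA κ Y) :
    InA κ (X * Y) := by
  intro x y
  rw [Matrix.mul_apply, Matrix.mul_apply, Finset.sum_mul]
  refine Fintype.sum_equiv (Equiv.subRight y) _ _ (fun z => ?_)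
  show X x z * Y z y = X (x - y) (z - y) * Y (z - y) 0 * κ x y
  rw [hX x z, hY z y, hX (x - y) (z - y)]
  have h1 : x - y - (z - y) = x - z := by abel
  rw [h1, s.sub_left, s.sub_right, s.sub_right, s.self, inv_one, mul_one, s.swap z y]
  have := s.ne_zero x y
  field_simp

theorem E_inA (s : Symp ρ κ) (k : H) : InA κ (E ρ κ k) := by
  intro x y
  simp only [E, Matrix.of_apply, sub_zero]
  rw [s.zero_right, mul_one]

theorem E_zero_zero (s : Symp ρ κ) (k : H) : E ρ κ k 0 0 = 1 := by
  simp only [E, Matrix.of_apply, sub_zero]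
  rw [e_zero s, s.self, mul_one]

/-- intertwining -/
theorem E_mul_T (s : Symp ρ κ) (k : H) (v : S) : E ρ κ k * T κ v = T κ (ρ k v) * E ρ κ k := by
  ext x y
  rw [mul_T, T_mul s]
  simp only [E, Matrix.of_apply]
  by_cases hw : x - (y + v) ∈ Kran ρ k
  · obtain ⟨u, hu⟩ := (mem_Kran ρ).1 hw
    have hx : x = u - ρ k u + (y + v) := by rw [hu]; abel
    have h2 : x - ρ k v - y = (u + v) - ρ k (u + v) := by
      rw [hx, map_add]; abel
    rw [h2, e_apply s, ← hu, e_apply s, map_add, hx]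
    simp only [s.add_left, s.add_right, s.sub_left, s.sub_right, s.self, mul_one]
    rw [s.inv k v u, s.swap u v, s.swap v y, s.swap u (ρ k v), s.swap v (ρ k v),
      s.swap v (ρ k u)]
    have a1 := s.ne_zero u v
    have a2 := s.ne_zero v y
    have a3 := s.ne_zero (ρ k v) y
    have a4 := s.ne_zero v (ρ k u)
    have a5 := s.ne_zero v (ρ k v)
    have a6 := s.ne_zero u (ρ k v)
    have a7 := s.ne_zero u y
    have a8 := s.ne_zero (ρ k u) y
    have a9 := s.ne_zero u (ρ k u)
    field_simp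
  · have hw' : x - ρ k v - y ∉ Kran ρ k := by
      intro h
      apply hw
      have h1 : x - (y + v) = (x - ρ k v - y) - (v - ρ k v) := by abel
      rw [h1]
      exact Submodule.sub_mem _ h (sub_mem_Kran ρ k v)
    rw [e_not_mem hw, e_not_mem hw']
    ring

/-- uniqueness of the intertwiners -/
theorem eq_smul (s : Symp ρ κ) (hp : ¬ p ∣ Nat.card H) (hp2 : p ≠ 2) {X : Matrix S S ℂ}
    (hX : InA κ X) (k : H) (hT : ∀ v, X * T κ v = T κ (ρ k v) * X) : X = X 0 0 • E ρ κ k := by
  have h1 : ∀ x v, X x v = κ (ρ k v) x * X (x - ρ k v) 0 := by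
    intro x v
    have h2 := congrArg (fun Y : Matrix S S ℂ => Y x 0) (hT v)
    simp only [mul_T, T_mul s] at h2
    rw [zero_add, s.zero_right, mul_one] at h2
    exact h2
  have h3 : ∀ w, X w 0 = X 0 0 * e ρ κ k w := by
    intro w
    by_cases hw : w ∈ Kran ρ k
    · obtain ⟨u, rfl⟩ := (mem_Kran ρ).1 hw
      have h4 := h1 u u
      rw [hX u u, sub_self, s.self, mul_one] at h4
      rw [e_apply s, h4, s.swap u (ρ k u)]
      have := s.ne_zero u (ρ k u)
      field_simp
    · rw [e_not_mem hw, mul_zero]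
      obtain ⟨c, hc, hc1⟩ := s.exists_of_not_mem hp hw
      have h4 := h1 (w + c) c
      rw [hX (w + c) c, (mem_Cfix ρ).1 hc, add_sub_cancel_right, s.add_left, s.add_right, s.self,
        mul_one, mul_one, s.swap w c] at h4
      by_contra hne
      have h5 : κ w c ^ 2 = 1 := by
        have h6 : κ w c = (κ w c)⁻¹ := by
          apply mul_left_cancel₀ hne
          rw [h4, mul_comm]
        rw [sq]
        nth_rewrite 2 [h6]
        exact mul_inv_cancel₀ (s.ne_zero _ _)
      apply hc1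
      have h7 : Nat.gcd 2 p = 1 := by
        rw [← Nat.coprime_iff_gcd_eq_one]
        exact (Nat.coprime_primes Nat.prime_two Fact.out).2 (Ne.symm hp2)
      have h8 : κ w c ^ Nat.gcd 2 p = 1 := pow_gcd_eq_one.2 ⟨h5, s.pow w c⟩
      rwa [h7, pow_one] at h8
  ext x y
  rw [Matrix.smul_apply, smul_eq_mul, hX x y, h3]
  simp only [E, Matrix.of_apply]
  ring

/-- the product of two of the matrices -/
theorem E_mul_E (s : Symp ρ κ) (hp : ¬ p ∣ Nat.card H) (hp2 : p ≠ 2) (g h : H) :
    E ρ κ g * E ρ κ h = (E ρ κ g * E ρ κ h) 0 0 • E ρ κ (g * h) := by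
  refine eq_smul s hp hp2 ((E_inA s g).mul s (E_inA s h)) (g * h) (fun v => ?_)
  rw [Matrix.mul_assoc, E_mul_T s h, ← Matrix.mul_assoc, E_mul_T s g, Matrix.mul_assoc, rho_mul]

theorem E_one (s : Symp ρ κ) : E ρ κ (1 : H) = 1 := by
  ext x y
  simp only [E, Matrix.of_apply]
  by_cases h : x = y
  · subst h
    rw [sub_self, e_zero s, s.self, mul_one, Matrix.one_apply_eq]
  · rw [Matrix.one_apply_ne h, e_not_mem, zero_mul]
    rw [Kran_one, Submodule.mem_bot, sub_eq_zero]
    exact h

theorem T_conjTranspose (s : Symp ρ κ) (v : S) : (T κ v)ᴴ = T κ (-v) := by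
  ext x y
  rw [Matrix.conjTranspose_apply]
  simp only [T, Matrix.of_apply]
  by_cases h : y = x + v
  · have h' : x = y + -v := by rw [h]; abel
    rw [if_pos h, if_pos h', h]
    rw [← starRingEnd_apply, s.conj_eq, s.neg_left, s.add_right, s.self, mul_one]
  · have h' : x ≠ y + -v := fun h' => h (by rw [h']; abel)
    rw [if_neg h, if_neg h', star_zero]

/-- `E k` is unitary up to a scalar -/
theorem E_mul_conjTranspose (s : Symp ρ κ) (hp : ¬ p ∣ Nat.card H) (hp2 : p ≠ 2) (k : H) :
    E ρ κ k * (E ρ κ k)ᴴ = (Nat.card (Kran ρ k) : ℂ) • (1 : Matrix S S ℂ) := by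
  have hT : ∀ v, (E ρ κ k)ᴴ * T κ v = T κ (ρ k⁻¹ v) * (E ρ κ k)ᴴ := by
    intro v
    have h1 := congrArg Matrix.conjTranspose (E_mul_T s k (-(ρ k⁻¹ v)))
    rw [Matrix.conjTranspose_mul, Matrix.conjTranspose_mul, T_conjTranspose s, T_conjTranspose s,
      map_neg, rho_self_inv, neg_neg, neg_neg] at h1
    exact h1.symm
  have hA : InA κ (E ρ κ k)ᴴ := by
    intro x y
    rw [Matrix.conjTranspose_apply, Matrix.conjTranspose_apply]
    simp only [E, Matrix.of_apply]
    rw [s.zero_left, mul_one, zero_sub, neg_sub, star_mul', ← starRingEnd_apply (κ y x), s.conj_eq,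
      ← s.swap y x]
  have h1 := eq_smul s hp hp2 ((E_inA s k).mul s hA) (1 : H) (fun v => by
    rw [Matrix.mul_assoc, hT, ← Matrix.mul_assoc, E_mul_T s, Matrix.mul_assoc, rho_self_inv,
      rho_one])
  rw [h1, E_one s]
  congr 1
  rw [Matrix.mul_apply]
  classical
  have h2 : ∀ z : S, E ρ κ k 0 z * (E ρ κ k)ᴴ z 0 = if -z ∈ Kran ρ k then 1 else 0 := by
    intro z
    rw [Matrix.conjTranspose_apply]
    simp only [E, Matrix.of_apply]
    rw [s.zero_left, mul_one, zero_sub, ← starRingEnd_apply, Complex.mul_conj,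
      Complex.normSq_eq_norm_sq]
    by_cases hz : -z ∈ Kran ρ k
    · rw [if_pos hz, Complex.norm_eq_one_of_pow_eq_one (e_pow s hz) (Fact.out : p.Prime).ne_zero]
      simp
    · rw [if_neg hz, e_not_mem hz]
      simp
  rw [Finset.sum_congr rfl (fun z _ => h2 z)]
  have h3 : ∑ z : S, (if -z ∈ Kran ρ k then (1 : ℂ) else 0) =
      ∑ z : S, (if z ∈ Kran ρ k then (1 : ℂ) else 0) :=
    Fintype.sum_equiv (Equiv.neg S) _ _ (fun z => rfl)
  rw [h3, Finset.sum_boole, Nat.card_eq_fintype_card, Fintype.card_subtype]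

theorem det_E_ne_zero (s : Symp ρ κ) (hp : ¬ p ∣ Nat.card H) (hp2 : p ≠ 2) (k : H) :
    (E ρ κ k).det ≠ 0 := by
  intro h
  have h1 := congrArg Matrix.det (E_mul_conjTranspose s hp hp2 k)
  rw [Matrix.det_mul, h, zero_mul, Matrix.det_smul, Matrix.det_one, mul_one] at h1
  exact (pow_ne_zero _ (by exact_mod_cast Nat.card_pos.ne')) h1.symm

/-- the coprime cocycle is trivial -/
theorem exists_mu {n : ℕ} {ι : Type*} [Fintype ι] [DecidableEq ι] (hn : Fintype.card ι = n)
    (hcop : Nat.Coprime n (Nat.card H)) (F : H → Matrix ι ι ℂ) (c : H → H → ℂ)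
    (hc : ∀ g h, F g * F h = c g h • F (g * h)) (hdet : ∀ g, (F g).det ≠ 0) (h1 : F 1 = 1)
    (hi : Nonempty ι) :
    ∃ μ : H → ℂ, (∀ h, μ h ≠ 0) ∧ (∀ g h, μ g * μ h = c g h * μ (g * h)) ∧ μ 1 = 1 := by
  have hc0 : ∀ g h, c g h ≠ 0 := by
    intro g h h0
    have h2 := congrArg Matrix.det (hc g h)
    rw [h0, zero_smul, Matrix.det_mul, Matrix.det_zero] at h2
    exact (mul_ne_zero (hdet g) (hdet h)) h2
  have hF0 : ∀ g, F g ≠ 0 := by
    intro g h0
    apply hdet g
    rw [h0, Matrix.det_zero]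
  have hd : ∀ g h, (F g).det * (F h).det = c g h ^ n * (F (g * h)).det := by
    intro g h
    rw [← Matrix.det_mul, hc, Matrix.det_smul, hn]
  have hassoc : ∀ g h k, c g h * c (g * h) k = c h k * c g (h * k) := by
    intro g h k
    have h2 : F g * F h * F k = F g * (F h * F k) := Matrix.mul_assoc _ _ _
    rw [hc g h, hc h k, Matrix.smul_mul, Matrix.mul_smul, hc, hc, smul_smul, smul_smul,
      mul_assoc g h k] at h2
    have h3 : (c g h * c (g * h) k - c h k * c g (h * k)) • F (g * (h * k)) = 0 := by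
      rw [sub_smul, h2, sub_self]
    rcases smul_eq_zero.1 h3 with h4 | h4
    · exact sub_eq_zero.1 h4
    · exact absurd h4 (hF0 _)
  set f : H → ℂ := fun h => ∏ g : H, c g h with hf
  have hf0 : ∀ h, f h ≠ 0 := fun h => Finset.prod_ne_zero_iff.2 (fun g _ => hc0 g h)
  have hfm : ∀ h k, f h * f k = c h k ^ (Nat.card H) * f (h * k) := by
    intro h k
    have h2 : ∏ g : H, (c g h * c (g * h) k) = ∏ g : H, (c h k * c g (h * k)) :=
      Finset.prod_congr rfl (fun g _ => hassoc g h k)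
    rw [Finset.prod_mul_distrib, Finset.prod_mul_distrib, Finset.prod_const, Finset.card_univ,
      ← Nat.card_eq_fintype_card] at h2
    have h3 : ∏ g : H, c (g * h) k = f k :=
      Fintype.prod_equiv (Equiv.mulRight h) _ _ (fun g => rfl)
    rw [h3] at h2
    exact h2
  obtain ⟨a, b, hab⟩ : IsCoprime (n : ℤ) (Nat.card H : ℤ) := Nat.isCoprime_iff_coprime.2 hcop
  have hmul : ∀ g h, ((F g).det ^ a * f g ^ b) * ((F h).det ^ a * f h ^ b) =
      c g h * ((F (g * h)).det ^ a * f (g * h) ^ b) := by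
    intro g h
    have e1 : ((F g).det ^ a * f g ^ b) * ((F h).det ^ a * f h ^ b) =
        ((F g).det * (F h).det) ^ a * (f g * f h) ^ b := by
      rw [mul_zpow, mul_zpow]; ring
    rw [e1, hd, hfm, mul_zpow, mul_zpow, ← zpow_natCast, ← zpow_natCast, ← _root_.zpow_mul,
      ← _root_.zpow_mul]
    have e2 : c g h = c g h ^ ((n : ℤ) * a) * c g h ^ ((Nat.card H : ℤ) * b) := by
      rw [← zpow_add₀ (hc0 g h)]
      have : (n : ℤ) * a + (Nat.card H : ℤ) * b = 1 := by linarith
      rw [this, zpow_one]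
    conv_rhs => rw [e2]
    ring
  have hne : ∀ g, (F g).det ^ a * f g ^ b ≠ 0 := fun g =>
    mul_ne_zero (zpow_ne_zero _ (hdet g)) (zpow_ne_zero _ (hf0 g))
  refine ⟨fun g => (F g).det ^ a * f g ^ b, hne, hmul, ?_⟩
  have h2 := hmul 1 1
  have h3 : c 1 1 = 1 := by
    have h4 := hc 1 1
    rw [mul_one, h1, mul_one] at h4
    have h5 := congrArg (fun X : Matrix ι ι ℂ => X hi.some hi.some) h4
    simpa using h5.symm
  rw [mul_one, h3, one_mul] at h2
  exact (mul_eq_left₀ (hne 1)).1 h2

theorem E_pow_mul_conj (s : Symp ρ κ) (hp : ¬ p ∣ Nat.card H) (hp2 : p ≠ 2) (k : H) (N : ℕ) :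
    E ρ κ k ^ N * ((E ρ κ k)ᴴ) ^ N = ((Nat.card (Kran ρ k) : ℂ) ^ N) • (1 : Matrix S S ℂ) := by
  induction N with
  | zero => simp
  | succ N ih =>
    rw [pow_succ, pow_succ', Matrix.mul_assoc, ← Matrix.mul_assoc (E ρ κ k),
      E_mul_conjTranspose s hp hp2, Matrix.smul_mul, Matrix.one_mul, Matrix.mul_smul, ih, smul_smul,
      pow_succ, mul_comm]

theorem norm_of_pow (s : Symp ρ κ) (hp : ¬ p ∣ Nat.card H) (hp2 : p ≠ 2) (k : H) {N : ℕ} {l : ℂ}
    (h : E ρ κ k ^ N = l • (1 : Matrix S S ℂ)) : ‖l‖ ^ 2 = (Nat.card (Kran ρ k) : ℝ) ^ N := by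
  have h1 := E_pow_mul_conj s hp hp2 k N
  rw [← Matrix.conjTranspose_pow, h, Matrix.conjTranspose_smul, Matrix.conjTranspose_one,
    Matrix.smul_mul, Matrix.one_mul, smul_smul] at h1
  have h2 := congrArg (fun X : Matrix S S ℂ => X 0 0) h1
  simp only [Matrix.smul_apply, Matrix.one_apply_eq, smul_eq_mul, mul_one] at h2
  rw [← starRingEnd_apply, Complex.mul_conj, Complex.normSq_eq_norm_sq] at h2
  exact_mod_cast h2

theorem map_E (s : Symp ρ κ) (σ : ℂ ≃+* ℂ) (k : H) :
    (σ : ℂ →+* ℂ).mapMatrix (E ρ κ k) = E ρ (fun x y => σ (κ x y)) k := by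
  ext x y
  rw [RingHom.mapMatrix_apply, Matrix.map_apply]
  simp only [E, Matrix.of_apply]
  rw [← map_e s σ]
  exact map_mul σ _ _

theorem map_of_pow (s : Symp ρ κ) (σ : ℂ ≃+* ℂ) (k : H) {N : ℕ} {l : ℂ}
    (h : E ρ κ k ^ N = l • (1 : Matrix S S ℂ)) :
    E ρ (fun x y => σ (κ x y)) k ^ N = σ l • (1 : Matrix S S ℂ) := by
  rw [← map_E s, ← map_pow, h]
  ext x y
  rw [RingHom.mapMatrix_apply, Matrix.map_apply, Matrix.smul_apply, Matrix.smul_apply,
    smul_eq_mul, smul_eq_mul]
  by_cases hxy : x = y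
  · subst hxy
    rw [Matrix.one_apply_eq, mul_one, mul_one]
    rfl
  · rw [Matrix.one_apply_ne hxy, mul_zero, mul_zero]
    exact map_zero σ

theorem isIntegral_of_pow_p {z : ℂ} (h : z ^ p = 1) : IsIntegral ℤ z :=
  IsIntegral.of_pow (Fact.out : p.Prime).pos (h.symm ▸ isIntegral_one)

theorem isIntegral_e (s : Symp ρ κ) (k : H) (w : S) : IsIntegral ℤ (e ρ κ k w) := by
  by_cases hw : w ∈ Kran ρ k
  · exact isIntegral_of_pow_p (e_pow s hw)
  · rw [e_not_mem hw]
    exact isIntegral_zero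

theorem isIntegral_E (s : Symp ρ κ) (k : H) (x y : S) : IsIntegral ℤ (E ρ κ k x y) := by
  simp only [E, Matrix.of_apply]
  exact (isIntegral_e s k _).mul (isIntegral_of_pow_p (s.pow x y))

theorem isIntegral_E_pow (s : Symp ρ κ) (k : H) (N : ℕ) (x y : S) :
    IsIntegral ℤ ((E ρ κ k ^ N) x y) := by
  induction N generalizing x y with
  | zero =>
    rw [pow_zero, Matrix.one_apply]
    split_ifs
    · exact isIntegral_one
    · exact isIntegral_zero
  | succ N ih =>
    rw [pow_succ, Matrix.mul_apply]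
    exact IsIntegral.sum _ (fun z _ => (ih x z).mul (isIntegral_E s k z y))

theorem colsum_mem {M : Ideal AlgInt} (hM : IsPModular p M) (s : Symp ρ κ) {k : H}
    (hk : Kran ρ k ≠ ⊥) (z : S) : MemLocalIdeal M (∑ x, E ρ κ k x z) := by
  classical
  have hprime := isPrime_of_isPModular hM
  have h1 : ∑ x, E ρ κ k x z = ∑ w, e ρ κ k w * κ (w + z) z := by
    refine Fintype.sum_equiv (Equiv.subRight z) _ _ (fun x => ?_)
    show E ρ κ k x z = e ρ κ k (x - z) * κ (x - z + z) z
    rw [sub_add_cancel]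
    rfl
  have h2 : ∀ w, e ρ κ k w * κ (w + z) z = (if w ∈ Kran ρ k then
      (e ρ κ k w * κ (w + z) z - 1) else 0) + (if w ∈ Kran ρ k then 1 else 0) := by
    intro w
    by_cases hw : w ∈ Kran ρ k
    · rw [if_pos hw, if_pos hw]; ring
    · rw [if_neg hw, if_neg hw, e_not_mem hw]; ring
  rw [h1, Finset.sum_congr rfl (fun w _ => h2 w), Finset.sum_add_distrib]
  refine memLocalIdeal_add (memLocalIdeal_sum (fun w _ => ?_)) ?_
  · by_cases hw : w ∈ Kran ρ k
    · rw [if_pos hw]
      apply Cfsg.Agent.Blocks.Twist.memLocalIdeal_sub_one_of_pow_eq_one hM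
      rw [mul_pow, e_pow s hw, s.pow, mul_one]
    · rw [if_neg hw]
      exact memLocalIdeal_zero
  · rw [Finset.sum_boole, ← Fintype.card_subtype, ← Nat.card_eq_fintype_card]
    have h3 : Nat.card {x // x ∈ Kran ρ k} = Nat.card (Kran ρ k) := rfl
    rw [h3, Cfsg.Agent.Blocks.Local.memLocalIdeal_natCast_iff hM, card_submodule]
    refine dvd_pow_self p ?_
    intro h0
    have : Module.Finite (ZMod p) S := Module.Finite.of_finite
    rw [Submodule.finrank_eq_zero] at h0
    exact hk h0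

theorem mem_of_pow {M : Ideal AlgInt} (hM : IsPModular p M) (s : Symp ρ κ) {k : H}
    (hk : Kran ρ k ≠ ⊥) {N : ℕ} (hN : N ≠ 0) {l : ℂ}
    (h : E ρ κ k ^ N = l • (1 : Matrix S S ℂ)) : MemLocalIdeal M l := by
  have hprime := isPrime_of_isPModular hM
  obtain ⟨N, rfl⟩ := Nat.exists_eq_succ_of_ne_zero hN
  have h1 : l = ∑ x, (E ρ κ k ^ (N + 1)) x 0 := by
    rw [h, Finset.sum_eq_single 0]
    · simp
    · intro b _ hb
      rw [Matrix.smul_apply, Matrix.one_apply_ne hb, smul_zero]
    · intro h0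
      exact absurd (Finset.mem_univ _) h0
  rw [h1, pow_succ']
  simp_rw [Matrix.mul_apply]
  rw [Finset.sum_comm]
  refine memLocalIdeal_sum (fun z _ => ?_)
  rw [← Finset.sum_mul]
  exact memLocalIdeal_mul_right (colsum_mem hM s hk z)
    (memLocalRing_of_isIntegral (isIntegral_E_pow s k N z 0))

/-- **`δ` for an alternating form.** -/
theorem exists_delta_symp {M : Ideal AlgInt} (hM : IsPModular p M) (s : Symp ρ κ)
    (hp : ¬ p ∣ Nat.card H) (hp2 : p ≠ 2) : ∃ δ : H → ℂ, Delta M (fun h s => ρ h s) δ := by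
  have hprime := isPrime_of_isPModular hM
  have : Module.Finite (ZMod p) S := Module.Finite.of_finite
  have hcop : Nat.Coprime (Fintype.card S) (Nat.card H) := by
    rw [← Nat.card_eq_fintype_card, Module.natCard_eq_pow_finrank (K := ZMod p) (V := S),
      Nat.card_zmod]
    exact Nat.Coprime.pow_left _ ((Nat.Prime.coprime_iff_not_dvd Fact.out).2 hp)
  obtain ⟨μ, hμ0, hμ, hμ1⟩ := exists_mu rfl hcop (fun g : H => E ρ κ g)
    (fun g h => (E ρ κ g * E ρ κ h) 0 0) (E_mul_E s hp hp2) (det_E_ne_zero s hp hp2) (E_one s) ⟨0⟩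
  let Ω : H →* Matrix S S ℂ :=
    { toFun := fun h => (μ h)⁻¹ • E ρ κ h
      map_one' := by rw [hμ1, inv_one, one_smul, E_one s]
      map_mul' := by
        intro g h
        rw [Matrix.smul_mul, Matrix.mul_smul, smul_smul, E_mul_E s hp hp2, smul_smul]
        congr 1
        have h1 := hμ g h
        have h2 := hμ0 g
        have h3 := hμ0 h
        have h4 := hμ0 (g * h)
        field_simp
        rw [h1, mul_comm] }
  have hΩ : ∀ h, Ω h = (μ h)⁻¹ • E ρ κ h := fun h => rfl
  have hpow : ∀ h : H, E ρ κ h ^ (Nat.card H) = (μ h ^ (Nat.card H)) • (1 : Matrix S S ℂ) := by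
    intro h
    have h1 : E ρ κ h = μ h • Ω h := by
      rw [hΩ, smul_smul, mul_inv_cancel₀ (hμ0 h), one_smul]
    rw [h1, smul_pow, ← map_pow, pow_card_eq_one', map_one]
  have hΘ := Cfsg.Agent.S0148.isCharacter_of_matrix Ω
  have hΘ' : ∀ h, (Ω h).trace = (μ h)⁻¹ * (Nat.card S : ℂ) := by
    intro h
    rw [hΩ, Matrix.trace_smul, smul_eq_mul]
    congr 1
    unfold Matrix.trace
    have h1 : ∀ x : S, (E ρ κ h).diag x = 1 := by
      intro x
      simp only [Matrix.diag_apply, E, Matrix.of_apply]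
      rw [sub_self, e_zero s, s.self, mul_one]
    rw [Finset.sum_congr rfl (fun x _ => h1 x)]
    simp [Nat.card_eq_fintype_card]
  have hcardH : Nat.card H ≠ 0 := Nat.card_pos.ne'
  have hnorm : ∀ (σ : ℂ ≃+* ℂ) (h : H), ‖σ (μ h)‖ ^ 2 = Nat.card (Kran ρ h) := by
    intro σ h
    have h1 := norm_of_pow (s.map σ) hp hp2 h (map_of_pow s σ h (hpow h))
    rw [map_pow, norm_pow, ← pow_mul, mul_comm, pow_mul] at h1
    exact (pow_left_inj₀ (by positivity) (by positivity) hcardH).1 h1
  have hprod : ∀ h : H, piFix ρ h * μ h = conj ((Ω h).trace) := by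
    intro h
    rw [hΘ', map_mul, map_inv₀, Complex.conj_natCast]
    have h1 := hnorm (RingEquiv.refl ℂ) h
    have h2 : μ h * conj (μ h) = (Nat.card (Kran ρ h) : ℂ) := by
      rw [Complex.mul_conj, Complex.normSq_eq_norm_sq]
      have h3 : (RingEquiv.refl ℂ) (μ h) = μ h := rfl
      rw [h3] at h1
      rw [h1]
      push_cast
      rfl
    have h4 : conj (μ h) ≠ 0 := by
      rw [Ne, map_eq_zero]
      exact hμ0 h
    rw [← card_mul ρ h]
    push_cast
    rw [← h2]
    unfold piFix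
    field_simp
  have hint : ∀ h, IsIntegral ℤ (μ h) := by
    intro h
    have h1 := isIntegral_E_pow s h (Nat.card H) 0 0
    rw [hpow, Matrix.smul_apply, Matrix.one_apply_eq, smul_eq_mul, mul_one] at h1
    exact IsIntegral.of_pow Nat.card_pos h1
  refine ⟨μ, ?_, ?_, hμ1, ?_, ?_⟩
  · refine intCl_of_piFix_mul ρ hp hint ?_
    have h1 : piFix ρ * μ = fun h => conj ((Ω h).trace) := by
      funext h
      exact hprod h
    rw [h1]
    exact IntCl.of_isCharacter (isCharacter_conj hΘ)
  · refine ⟨Nat.card H, hcardH, fun h => ?_⟩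
    have h1 : μ h = conj ((Ω h).trace) / piFix ρ h := by
      rw [← hprod, mul_div_cancel_left₀ _ (piFix_ne_zero ρ h)]
    rw [h1]
    refine div_mem (character_mem_Cyc (isCharacter_conj hΘ) hcardH dvd_rfl h) ?_
    unfold piFix
    exact natCast_mem _ _
  · rintro h ⟨x, hx⟩
    have hK : Kran ρ h ≠ ⊥ := by
      intro h0
      apply hx
      have h2 := sub_mem_Kran ρ h x
      rw [h0, Submodule.mem_bot, sub_eq_zero] at h2
      exact h2.symm
    rw [← Cfsg.Agent.Blocks.LocalRing.memLocalIdeal_pow_iff hM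
      (memLocalRing_of_isIntegral (hint h)) hcardH]
    exact mem_of_pow hM s hK hcardH (hpow h)
  · intro σ h
    rw [hnorm]
    have h3 : Nat.card {s : S // ρ h s = s} = Nat.card (Cfix ρ h) :=
      Nat.card_congr (Equiv.subtypeEquivRight (fun x => (mem_Cfix ρ).symm))
    rw [h3, mul_comm]
    exact_mod_cast card_mul ρ h

theorem symp_of_form (B : LinearMap.BilinForm (ZMod p) S) (halt : ∀ x, B x x = 0)
    (hinv : ∀ h x y, B (ρ h x) (ρ h y) = B x y) (hnd : ∀ x, (∀ y, B x y = 0) → x = 0)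
    {ψ : AddChar (ZMod p) ℂ} (hψ : ψ ≠ 1) : Symp ρ (fun x y => ψ (B x y)) where
  add_left x y z := by
    show ψ (B (x + y) z) = ψ (B x z) * ψ (B y z)
    rw [map_add, LinearMap.add_apply, AddChar.map_add_eq_mul]
  add_right x y z := by
    show ψ (B x (y + z)) = ψ (B x y) * ψ (B x z)
    rw [map_add, AddChar.map_add_eq_mul]
  self x := by
    show ψ (B x x) = 1
    rw [halt, AddChar.map_zero_eq_one]
  pow x y := addChar_pow ψ _
  nd x h := by
    refine hnd x (fun y => ?_)
    by_contra h0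
    apply hψ
    apply DFunLike.ext
    intro t
    have h1 := h ((t / B x y) • y)
    rw [map_smul, smul_eq_mul, div_mul_cancel₀ _ h0] at h1
    rw [h1]
    rfl
  inv h x y := by
    show ψ (B (ρ h x) (ρ h y)) = ψ (B x y)
    rw [hinv]

theorem exists_delta_alternating {M : Ideal AlgInt} (hM : IsPModular p M) (hp : ¬ p ∣ Nat.card H)
    (hp2 : p ≠ 2) (B : LinearMap.BilinForm (ZMod p) S) (halt : ∀ x, B x x = 0)
    (hinv : ∀ h x y, B (ρ h x) (ρ h y) = B x y) (hnd : ∀ x, (∀ y, B x y = 0) → x = 0) :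
    ∃ δ : H → ℂ, Delta M (fun h s => ρ h s) δ := by
  obtain ⟨ψ, hψ⟩ := exists_addChar_ne_one p
  exact exists_delta_symp hM (symp_of_form B halt hinv hnd hψ) hp hp2

end Cfsg.Agent.H718.Weil
end

-- part: H718/FormDelta
section
/-!
# `δ` for self-dual coprime modules
-/

set_option autoImplicit false
set_option linter.unusedSectionVars false

open scoped ComplexConjugate

namespace Cfsg.Agent.H718

open Cfsg Cfsg.Agent.Characters.Core Cfsg.Agent.Blocks.Local

section

variable {p : ℕ} [Fact p.Prime] {H : Type*} [Group H] [Fintype H] {S : Type*} [AddCommGroup S]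
  [Module (ZMod p) S] [Finite S]

/-- restriction of a representation to an invariant subspace -/
def restr (ρ : Representation (ZMod p) H S) (U : Submodule (ZMod p) S)
    (hU : SelfDual.Inv ρ U) : Representation (ZMod p) H U where
  toFun h := (ρ h).restrict (hU h)
  map_one' := by
    ext x
    rw [LinearMap.restrict_apply]
    exact rho_one ρ _
  map_mul' g h := by
    ext x
    rw [LinearMap.restrict_apply]
    exact rho_mul ρ g h _

theorem restr_apply (ρ : Representation (ZMod p) H S) (U : Submodule (ZMod p) S)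
    (hU : SelfDual.Inv ρ U) (h : H) (x : U) : ((restr ρ U hU h x : U) : S) = ρ h x := rfl

/-- an invariant alternating form in characteristic two comes from an invariant quadratic form -/
theorem exists_delta_two {M : Ideal AlgInt} (hM : IsPModular p M) (hp : ¬ p ∣ Nat.card H)
    (hp2 : p = 2) (ρ : Representation (ZMod p) H S) (B : LinearMap.BilinForm (ZMod p) S)
    (halt : ∀ x, B x x = 0)
    (hinv : ∀ h x y, B (ρ h x) (ρ h y) = B x y) (hnd : ∀ x, (∀ y, B x y = 0) → x = 0) :
    ∃ δ : H → ℂ, Delta M (fun h s => ρ h s) δ := by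
  subst hp2
  obtain ⟨Q, ⟨hQ, -⟩, -⟩ := Cfsg.Agent.S2619.result (Module.finBasis (ZMod 2) S) B halt (fun _ => 0)
  have hQ' : ∀ x y, Q (x + y) = Q x + Q y + B x y := by
    intro x y
    rw [← hQ, QuadraticMap.polarBilin_apply_apply, QuadraticMap.polar]
    ring
  have h1 : (Nat.card H : ZMod 2) = 1 := by
    rw [ZMod.natCast_eq_one_iff_odd]
    rw [Nat.odd_iff]
    omega
  refine exists_delta_quadratic hM hp ρ (fun x => ∑ h : H, Q (ρ h x)) B ?_ ?_ hnd
  · intro x y
    have h2 : ∀ h : H, Q (ρ h (x + y)) = Q (ρ h x) + Q (ρ h y) + B x y := by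
      intro h
      rw [map_add, hQ', hinv]
    rw [Finset.sum_congr rfl (fun h _ => h2 h), Finset.sum_add_distrib, Finset.sum_add_distrib,
      Finset.sum_const, Finset.card_univ, ← Nat.card_eq_fintype_card, nsmul_eq_mul, h1, one_mul]
  · intro h x
    refine Fintype.sum_equiv (Equiv.mulRight h) _ _ (fun g => ?_)
    show Q (ρ g (ρ h x)) = Q (ρ (g * h) x)
    rw [rho_mul]

theorem exists_delta_selfdual {M : Ideal AlgInt} (hM : IsPModular p M) (hp : ¬ p ∣ Nat.card H)
    (ρ : Representation (ZMod p) H S) (B : LinearMap.BilinForm (ZMod p) S)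
    (hinv : ∀ h x y, B (ρ h x) (ρ h y) = B x y) (hnd : ∀ x, (∀ y, B x y = 0) → x = 0) :
    ∃ δ : H → ℂ, Delta M (fun h s => ρ h s) δ := by
  classical
  have hprime := isPrime_of_isPModular hM
  have : Module.Finite (ZMod p) S := Module.Finite.of_finite
  have hG : (Nat.card H : ZMod p) ≠ 0 := by
    intro h
    exact hp ((ZMod.natCast_eq_zero_iff _ _).1 h)
  obtain ⟨U, W, h⟩ := SelfDual.main ρ p hG B hinv _ ⊤ rfl (fun g x _ => Submodule.mem_top)
    (fun x _ hx => hnd x fun y => hx y Submodule.mem_top)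
  have hcompl : IsCompl U W := ⟨h.disj, codisjoint_iff.2 h.sup⟩
  obtain ⟨A, hA⟩ := h.alt
  obtain ⟨S', hS'⟩ := h.sym
  -- the alternating part
  obtain ⟨δ₁, h₁⟩ : ∃ δ : H → ℂ, Delta M (fun h s => restr ρ U (‹SelfDual.Split ρ p ⊤ U W›).invU h s) δ := by
    have a1 : ∀ x : U, (A.restrict U) x x = 0 := fun x => hA.tau x
    have a2 : ∀ (g : H) (x y : U), (A.restrict U) (restr ρ U h.invU g x) (restr ρ U h.invU g y) =
        (A.restrict U) x y := fun g x y => hA.inv g x x.2 y y.2
    have a3 : ∀ x : U, (∀ y, (A.restrict U) x y = 0) → x = 0 := fun x hx =>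
      Subtype.ext (hA.nd x x.2 (fun y hy => hx ⟨y, hy⟩))
    by_cases hp2 : p = 2
    · exact exists_delta_two hM hp hp2 _ (A.restrict U) a1 a2 a3
    · have : Fintype U := Fintype.ofFinite _
      exact Weil.exists_delta_alternating hM hp hp2 (A.restrict U) a1 a2 a3
  obtain ⟨δ₂, h₂⟩ : ∃ δ : H → ℂ, Delta M (fun h s => restr ρ W ‹SelfDual.Split ρ p ⊤ U W›.invW h s) δ := by
    by_cases hp2 : p = 2
    · exact ⟨1, Delta.of_trivial (fun g x => Subtype.ext (h.triv hp2 g x x.2))⟩
    · have h2 : (2 : ZMod p) ≠ 0 := by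
        intro h0
        have h0' : ((2 : ℕ) : ZMod p) = 0 := by exact_mod_cast h0
        rw [ZMod.natCast_eq_zero_iff] at h0'
        exact hp2 ((Nat.prime_dvd_prime_iff_eq Fact.out Nat.prime_two).1 h0')
      refine exists_delta_quadratic hM hp _ (fun x : W => (2 : ZMod p)⁻¹ * S' x x)
        (S'.restrict W) ?_ ?_ ?_
      · intro x y
        show (2 : ZMod p)⁻¹ * S' ((x : S) + y) ((x : S) + y) = _ + _ + S' x y
        simp only [map_add, LinearMap.add_apply]
        rw [hS'.tau y x]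
        field_simp
        ring
      · intro g x
        show (2 : ZMod p)⁻¹ * S' (ρ g x) (ρ g x) = _
        rw [hS'.inv g x x.2 x x.2]
      · exact fun x hx => Subtype.ext (hS'.nd x x.2 (fun y hy => hx ⟨y, hy⟩))
  refine ⟨δ₁ * δ₂, (Delta.prod hprime h₁ h₂).congr
    (Submodule.prodEquivOfIsCompl U W hcompl).toEquiv (fun g x => ?_)⟩
  show ((restr ρ U h.invU g x.1 : U) : S) + ((restr ρ W h.invW g x.2 : W) : S) =
    ρ g ((x.1 : S) + (x.2 : S))
  rw [map_add]
  rfl

end

end Cfsg.Agent.H718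
end

-- part: S4959
section
set_option autoImplicit false
open Cfsg

namespace Cfsg.Agent.S4959

open Cfsg.Agent.H718

/-- a bilinear form from a bi-additive map -/
theorem exists_bilin {p : ℕ} [Fact p.Prime] {E : Type*} [AddCommGroup E] [Module (ZMod p) E]
    (b : E → E → ZMod p) (hl : ∀ x y z, b (x + y) z = b x z + b y z)
    (hr : ∀ x y z, b x (y + z) = b x y + b x z) :
    ∃ B : LinearMap.BilinForm (ZMod p) E, ∀ x y, B x y = b x y := by
  let f : E → (E →ₗ[ZMod p] ZMod p) := fun x =>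
    (AddMonoidHom.mk' (b x) (hr x)).toZModLinearMap p
  let B : E →ₗ[ZMod p] (E →ₗ[ZMod p] ZMod p) :=
    (AddMonoidHom.mk' f (fun x y => LinearMap.ext (fun z => hl x y z))).toZModLinearMap p
  exact ⟨B, fun x y => rfl⟩

/-- Let X be a finite group and V a normal subgroup of X in which every element has order dividing the prime p, whose index in X is prime to p and which is its own centralizer in X; so V is an elementary abelian normal Sylow p-subgroup, and any complement G to V in X is a group of order prime to p acting faithfully on the vector space V by conjugation (the coprime linear setting of the k(GV) problem). Let G be a complement to V in X, let v be in V and let H be the centralizer of v in G. Suppose there is a subgroup U of V normalized by H, on which H acts faithfully, and carrying an H-invariant bi-additive pairing β with values in the integers modulo p that is nondegenerate on U (equivalently: the restriction of the module V to H has a faithful self-dual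 submodule; such a v is called a real vector for G). Then the number of conjugacy classes of X is at most the order of V (the real-vector criterion for the k(GV) problem). The pairing is given as a function on X whose relevant values are those on pairs from U. -/
theorem result {X : Type*} [Group X] [Finite X] (p : ℕ) [Fact p.Prime] (V : Subgroup X) [V.Normal] (hVexp : ∀ v ∈ V, v ^ p = 1) (hidx : ¬ p ∣ V.index) (hself : Subgroup.centralizer (V : Set X) = V) (G : Subgroup X) (hGV : Subgroup.IsComplement' V G) (v : X) (hv : v ∈ V) (U : Subgroup X) (hUV : U ≤ V) (hUinv : ∀ h ∈ G, h * v * h⁻¹ = v → ∀ u ∈ U, h * u * h⁻¹ ∈ U) (hUfaith : ∀ h ∈ G, h * v * h⁻¹ = v → (∀ u ∈ U, h * u * h⁻¹ = u) → h = 1) (β : X → X → ZMod p) (hβl : ∀ u ∈ U, ∀ u' ∈ U, ∀ w ∈ U, β (u * u') w = β u w + β u' w) (hβr : ∀ u ∈ U, ∀ w ∈ U, ∀ w' ∈ U, β u (w * w') = β u w + β u w') (hβinv : ∀ h ∈ G, h * v * h⁻¹ = v → ∀ u ∈ U, ∀ w ∈ U, β (h * u * h⁻¹) (h * w * h⁻¹) = β u w) (hβnd : ∀ u ∈ U, (∀ w ∈ U, β u w =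 0) → u = 1) : Nat.card (ConjClasses X) ≤ Nat.card V := by
  classical
  set H : Subgroup X := G ⊓ Subgroup.centralizer ({v} : Set X) with hH
  have : Fintype H := Fintype.ofFinite _
  have hGidx : V.index = Nat.card G := hGV.symm.index_eq_card
  have hG : ¬ p ∣ Nat.card G := hGidx ▸ hidx
  have hHcard : ¬ p ∣ Nat.card H := fun h => hG (h.trans (Subgroup.card_dvd_of_le inf_le_left))
  have hVab : ∀ a ∈ V, ∀ b ∈ V, a * b = b * a := by
    intro a ha b hb
    have h1 : a ∈ Subgroup.centralizer (V : Set X) := by rw [hself]; exact ha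
    exact (Subgroup.mem_centralizer_iff.1 h1 b hb).symm
  have hVp : IsPGroup p V := by
    intro x
    refine ⟨1, ?_⟩
    rw [pow_one]
    exact Subtype.ext (hVexp x x.2)
  have hHG : ∀ h ∈ H, h ∈ G := fun h hh => (Subgroup.mem_inf.1 hh).1
  have hHv : ∀ h ∈ H, h * v * h⁻¹ = v := by
    intro h hh
    have h1 := Subgroup.mem_centralizer_singleton_iff.1 (Subgroup.mem_inf.1 hh).2
    rw [h1]
    group
  obtain ⟨M, hM⟩ := Cfsg.Agent.Blocks.ExistsModular.exists_isPModular (Fact.out : p.Prime)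
  obtain ⟨E, _, _, _, e, ρ, he, hρ⟩ := exists_conjRep p H U
    (fun a ha b hb => hVab a (hUV ha) b (hUV hb)) (fun u hu => hVexp u (hUV hu))
    (fun h hh u hu => hUinv h (hHG h hh) (hHv h hh) u hu)
  obtain ⟨B, hB⟩ := exists_bilin (fun a b : E => β (e a) (e b))
    (fun x y z => by
      rw [he]
      exact hβl _ (e x).2 _ (e y).2 _ (e z).2)
    (fun x y z => by
      rw [he]
      exact hβr _ (e x).2 _ (e y).2 _ (e z).2)
  have he0 : e 0 = 1 := by
    have h1 := he 0 0
    rw [add_zero] at h1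
    exact left_eq_mul.1 h1
  obtain ⟨δ, hδ⟩ := exists_delta_selfdual hM hHcard ρ B
    (fun h x y => by
      rw [hB, hB, hρ, hρ]
      exact hβinv h (hHG h h.2) (hHv h h.2) _ (e x).2 _ (e y).2)
    (fun x hx => by
      apply e.injective
      rw [he0]
      apply Subtype.ext
      refine hβnd _ (e x).2 (fun w hw => ?_)
      have h1 := hx (e.symm ⟨w, hw⟩)
      rw [hB, e.apply_symm_apply] at h1
      exact h1)
  have hδ' := hδ.congr (act' := fun h u => e (ρ h (e.symm u))) e
    (fun h s => by rw [e.symm_apply_apply])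
  refine card_conjClasses_le_of_Delta hVp hidx hVab G hGV hv H hH hM U hUV _ ?_ ?_ hδ'
  · intro h u
    rw [hρ, e.apply_symm_apply]
  · intro h hu
    apply Subtype.ext
    refine hUfaith h (hHG h h.2) (hHv h h.2) (fun u hu' => ?_)
    have h2 := congrArg (Subtype.val) (hu ⟨u, hu'⟩)
    rw [hρ, e.apply_symm_apply] at h2
    exact h2

end Cfsg.Agent.S4959
end
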