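import Cfsg.Agent.H477.HC.N5
import Cfsg.Agent.Characters.GaloisBasic
import Cfsg.Agent.ClassicalGeometry.OrthDickson
import Cfsg.Agent.LieClassical.OrthForms
import Cfsg.Agent.H722.HC.PrPlus
import Cfsg.Agent.H477.HC.Rk3Chars_m3
import Cfsg.Agent.H579.RkMinus_m3
import Cfsg.Agent.Characters.Counting
import Cfsg.Agent.H749.TwoMinus
import Cfsg.Agent.H477.HC.SpSix
import Cfsg.Agent.H967.Two.Minus8
import Cfsg.Agent.H678.Codeg
import Cfsg.Statements.S4984
import Cfsg.Agent.FastGrp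
import Cfsg.Agent.Prune
set_option linter.all false

section
prune_inst 0x7ffcadf8eba83bffdfff7e3fa6dccff813c00fffe6dff943ffe0e9bf0bdf130209c5ab858de050fe1e56621410b87843fb7eeeffe06fdc7ffffdffb01ffbee4fe5f7b50811dc88b4062c0fff03f0570e6f3ffff7f7ffffffffffffffffffffbeffbfebfeffff

-- part: H477/HC/N9
section
prune_inst 0x152001000c0002000000001212004200280000020040000090600a00024316620502a02100000c120802000000010000001000000000000000040000000001208000140011000099060009002208000000008000000000000000000000041000010000000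
set_option linter.all false
open scoped Cfsg.Agent.FastGrp

-- part: H477/HC/N6
section
/-!
# Norm `2`: congruences for the parameter (hub H5, helper477)

`sum_fix` : a sum invariant under a permutation of prime order; `HN.A_mod` : the parameter `A` modulo a prime `r`,
from the fixed pairs of an element of order `r`; `HN.two_pow'` : the degrees together with the parameter.
-/

set_option autoImplicit false
set_option linter.unusedSectionVars false

open scoped ComplexConjugate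
open Cfsg

namespace Cfsg.Agent.H477.HC

open Cfsg.Agent.OddOrderCharacters.Clifford Cfsg.Agent.Characters Module

universe u v

/-- **a sum invariant under a permutation of prime order** -/
theorem sum_fix {S : Type*} [Fintype S] [DecidableEq S] {r : ℕ} [hr : Fact r.Prime] (σ : Equiv.Perm S) (hσ : σ ^ r = 1) (F : S → ℂ)
    (hF : ∀ s, F (σ s) = F s) (hint : ∀ s, IsIntegral ℤ (F s)) :
    ∃ c : ℂ, IsIntegral ℤ c ∧ ∑ s, F s = ∑ s ∈ Finset.univ.filter (fun s => σ s = s), F s + r * c := by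
  classical
  have key : ∀ v : ℂ, ∃ k : ℤ, ((Finset.univ.filter (fun s => F s = v)).card : ℤ) =
      ((Finset.univ.filter (fun s => σ s = s ∧ F s = v)).card : ℤ) + r * k := by
    intro v
    let τ : Equiv.Perm {s // F s = v} := σ.subtypePerm (fun s => by rw [hF])
    have hτ : (⇑τ)^[r ^ 1] = id := by
      have h2 : τ ^ r = 1 := by
        rw [Equiv.Perm.subtypePerm_pow]
        ext s
        simp only [hσ, _root_.Equiv.Perm.subtypePerm_apply, _root_.Equiv.Perm.coe_one, _root_.id_eq, _root_.Subtype.coe_eta]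
      rw [pow_one, ← Equiv.Perm.coe_pow, h2]
      rfl
    have h1 := Equiv.Perm.card_fixedPoints_modEq (p := r) (n := 1) hτ
    have e1 : Fintype.card {s // F s = v} = (Finset.univ.filter (fun s => F s = v)).card := Fintype.card_subtype _
    have e2 : Fintype.card (Function.fixedPoints τ) =
        (Finset.univ.filter (fun s => σ s = s ∧ F s = v)).card := by
      rw [← Fintype.card_subtype]
      refine Fintype.card_congr
        { toFun := fun x => ⟨(x.1 : S), ⟨congrArg Subtype.val x.2, x.1.2⟩⟩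
          invFun := fun x => ⟨⟨x.1, x.2.2⟩, Subtype.ext x.2.1⟩
          left_inv := fun x => rfl
          right_inv := fun x => rfl }
    rw [e1, e2] at h1
    obtain ⟨k, hk⟩ := (Nat.modEq_iff_dvd.1 h1.symm)
    exact ⟨k, by linarith only [hk]⟩
  choose k hk using key
  have e1 : ∑ s, F s = ∑ v ∈ Finset.univ.image F, ((Finset.univ.filter (fun s => F s = v)).card : ℂ) * v := by
    rw [← Finset.sum_fiberwise_of_maps_to (g := F) (t := Finset.univ.image F)
      (fun s _ => Finset.mem_image_of_mem _ (Finset.mem_univ _))]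
    refine Finset.sum_congr rfl fun v _ => ?_
    rw [Finset.sum_congr rfl (fun s hs => (Finset.mem_filter.1 hs).2), Finset.sum_const, nsmul_eq_mul]
  have e2 : ∑ s ∈ Finset.univ.filter (fun s => σ s = s), F s =
      ∑ v ∈ Finset.univ.image F, ((Finset.univ.filter (fun s => σ s = s ∧ F s = v)).card : ℂ) * v := by
    rw [← Finset.sum_fiberwise_of_maps_to (g := F) (t := Finset.univ.image F)
      (fun s _ => Finset.mem_image_of_mem _ (Finset.mem_univ _))]
    refine Finset.sum_congr rfl fun v _ => ?_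
    rw [Finset.sum_congr rfl (fun s hs => (Finset.mem_filter.1 hs).2), Finset.sum_const, nsmul_eq_mul,
      Finset.filter_filter]
  refine ⟨∑ v ∈ Finset.univ.image F, (k v : ℂ) * v, ?_, ?_⟩
  · refine IsIntegral.sum _ fun v hv => ?_
    obtain ⟨s, -, rfl⟩ := Finset.mem_image.1 hv
    exact IsIntegral.mul (isIntegral_algebraMap (x := k (F s)) (R := ℤ) (A := ℂ)) (hint s)
  · rw [e1, e2, Finset.mul_sum, ← Finset.sum_add_distrib]
    refine Finset.sum_congr rfl fun v _ => ?_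
    have : ((Finset.univ.filter (fun s => F s = v)).card : ℂ) =
        ((Finset.univ.filter (fun s => σ s = s ∧ F s = v)).card : ℂ) + r * k v := by
      exact_mod_cast hk v
    rw [this]
    ring

section Machine

variable {G : Type u} [Group G] [Fintype G] {P : Subgroup G} [Fintype P] {M : Type v} [AddCommGroup M] [Module ℂ M]
  {ρ : Representation ℂ P M} {U : Subgroup G} {w : G}

/-- the value of `A` -/
theorem HN.A_apply (h : HN P U w ρ) [Fintype U] {A : ℂ}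
    (hTT : (Top U w * Ep P ρ) * (Top U w * Ep P ρ) = A • (Top U w * Ep P ρ) + (Nat.card U : ℂ) • Ep P ρ) (m : M) :
    A • m = ∑ x : U × U, fm P ρ m (w * x.1 * w * x.2 * w) := by
  classical
  have hf := inV_fm (P := P) (ρ := ρ) m
  have h1 := congrFun (LinearMap.congr_fun hTT (fm P ρ m)) w
  change Top U w (Ep P ρ (Top U w (Ep P ρ (fm P ρ m)))) w = A • Top U w (Ep P ρ (fm P ρ m)) w +
    (Nat.card U : ℂ) • Ep P ρ (fm P ρ m) w at h1
  rw [Ep_of_inV P ρ hf, Ep_of_inV P ρ (h.inV_Top hf), fm_not m h.wP, smul_zero, add_zero] at h1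
  have h2 : Top U w (fm P ρ m) w = m := by
    rw [Top_apply, Finset.sum_eq_single (1 : U)]
    · obtain ⟨q, hq, hq1⟩ := h.ww
      have e1 : w * ((1 : U) : G) * w = q := by
        rw [hq, OneMemClass.coe_one, mul_one]
      rw [e1, fm_of m q.2]
      have : (⟨(q : G), q.2⟩ : P)⁻¹ = q⁻¹ := rfl
      rw [this, map_inv_of_one hq1]
      rfl
    · intro u _ hu
      exact fm_not m fun h' => hu (Subtype.ext (h.opp u u.2 h'))
    · intro h'
      exact absurd (Finset.mem_univ _) h'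
  rw [h2] at h1
  rw [← h1, Top_apply, Fintype.sum_prod_type]
  refine Finset.sum_congr rfl fun u _ => ?_
  rw [Top_apply]

open Classical in
/-- the trace of `A` -/
theorem HN.A_trace (h : HN P U w ρ) [Fintype U] [FiniteDimensional ℂ M] {A : ℂ}
    (hTT : (Top U w * Ep P ρ) * (Top U w * Ep P ρ) = A • (Top U w * Ep P ρ) + (Nat.card U : ℂ) • Ep P ρ) :
    A * ρ.character 1 = ∑ x : U × U, extendByZero P ρ.character (w * x.1 * w * x.2 * w)⁻¹ := by
  have h1 : A • (1 : M →ₗ[ℂ] M) = ∑ x : U × U, (if hx : (w * x.1 * w * x.2 * w : G) ∈ P then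
      ρ (⟨w * x.1 * w * x.2 * w, hx⟩ : P)⁻¹ else 0) := by
    refine LinearMap.ext fun m => ?_
    rw [LinearMap.smul_apply, LinearMap.sum_apply]
    change A • m = _
    rw [h.A_apply hTT m]
    refine Finset.sum_congr rfl fun x _ => ?_
    by_cases hx : (w * x.1 * w * x.2 * w : G) ∈ P
    · rw [dif_pos hx, fm_of m hx]
    · rw [dif_neg hx, fm_not m hx, LinearMap.zero_apply]
  have h2 := congrArg (LinearMap.trace ℂ M) h1
  rw [map_smul, map_sum, smul_eq_mul] at h2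
  have h3 : ρ.character 1 = LinearMap.trace ℂ M 1 := by
    unfold Representation.character
    rw [map_one]
  rw [h3, h2]
  refine Finset.sum_congr rfl fun x _ => ?_
  by_cases hx : (w * x.1 * w * x.2 * w : G) ∈ P
  · rw [dif_pos hx, ext_apply_mem _ _ _ (P.inv_mem hx)]
    rfl
  · rw [dif_neg hx, ext_apply_not_mem _ _ _ (fun h' => hx (by simpa only [_root_.mul_inv_rev, _root_.inv_inv] using P.inv_mem h')), map_zero]

open Classical in
/-- **`A` modulo a prime** -/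
theorem HN.A_mod (h : HN P U w ρ) [Fintype U] [FiniteDimensional ℂ M] {A : ℂ}
    (hTT : (Top U w * Ep P ρ) * (Top U w * Ep P ρ) = A • (Top U w * Ep P ρ) + (Nat.card U : ℂ) • Ep P ρ)
    {r : ℕ} (hr : r.Prime) {t t₁ : G} (ht : t ∈ P) (ht₁ : t₁ ∈ P) (hr1 : t ^ r = 1) (hr2 : t₁ ^ r = 1)
    (e1 : t * w = w * t₁) (e2 : t₁ * w = w * t) :
    ∃ c : ℂ, IsIntegral ℤ c ∧ A * ρ.character 1 =
      ∑ x ∈ Finset.univ.filter (fun x : U × U => t₁ * x.1 = x.1 * t₁ ∧ t * x.2 = x.2 * t),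
        extendByZero P ρ.character (w * x.1 * w * x.2 * w)⁻¹ + r * c := by
  have : Fact r.Prime := ⟨hr⟩
  have hρ : ρ ⟨t₁, ht₁⟩ = ρ ⟨t, ht⟩ := by
    obtain ⟨u, hu, p', e, e'⟩ := h.big ⟨t, ht⟩
    have h1 : u * w * p' = 1 * w * (⟨t₁, ht₁⟩ : P) := by
      rw [← e]
      change t * w = 1 * w * t₁
      rw [one_mul, e1]
    obtain ⟨-, h2⟩ := h.inj hu U.one_mem p'.2 (⟨t₁, ht₁⟩ : P).2 h1
    rw [← e']
    congr 1
    exact (Subtype.ext h2).symm
  let cj : G → G → G := fun a b => a * b * a⁻¹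
  have hcj : ∀ {a : G}, a ∈ P → ∀ b ∈ U, a * b * a⁻¹ ∈ U := fun {a} ha b hb => h.nor a ha b hb
  -- conjugation as a permutation of `U`
  let γ : P →* Equiv.Perm U :=
    { toFun := fun a =>
        { toFun := fun b => ⟨a * b * (a : G)⁻¹, h.nor a a.2 b b.2⟩
          invFun := fun b => ⟨(a : G)⁻¹ * b * a, by
            have := h.nor (a : G)⁻¹ (P.inv_mem a.2) b b.2
            rwa [inv_inv] at this⟩
          left_inv := fun b => by
            apply Subtype.ext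
            change (a : G)⁻¹ * (a * b * (a : G)⁻¹) * a = b
            group
          right_inv := fun b => by
            apply Subtype.ext
            change (a : G) * ((a : G)⁻¹ * b * a) * (a : G)⁻¹ = b
            group }
      map_one' := by
        ext b
        change (1 : G) * b * (1 : G)⁻¹ = b
        group
      map_mul' := fun a a' => by
        ext b
        change ((a : G) * a') * b * ((a : G) * a')⁻¹ = a * (a' * b * (a' : G)⁻¹) * (a : G)⁻¹
        group }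
  have hγ : ∀ (a : P) (b : U), ((γ a b : U) : G) = a * b * (a : G)⁻¹ := fun _ _ => rfl
  let σ : Equiv.Perm (U × U) := Equiv.prodCongr (γ ⟨t₁, ht₁⟩) (γ ⟨t, ht⟩)
  have hσ1 : ∀ n : ℕ, ∀ x : U × U, (σ ^ n) x = ((γ ⟨t₁, ht₁⟩ ^ n) x.1, (γ ⟨t, ht⟩ ^ n) x.2) := by
    intro n
    induction n with
    | zero => intro x; rfl
    | succ n ih =>
      intro x
      rw [pow_succ', Equiv.Perm.mul_apply, ih, pow_succ', pow_succ', Equiv.Perm.mul_apply, Equiv.Perm.mul_apply]
      rfl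
  have hσ : σ ^ r = 1 := by
    apply Equiv.ext
    intro x
    rw [hσ1, ← map_pow, ← map_pow]
    have a1 : (⟨t₁, ht₁⟩ : P) ^ r = 1 := Subtype.ext hr2
    have a2 : (⟨t, ht⟩ : P) ^ r = 1 := Subtype.ext hr1
    rw [a1, a2, map_one]
    rfl
  obtain ⟨c, hc, hsum⟩ := sum_fix (r := r) σ hσ (fun x : U × U => extendByZero P ρ.character (w * x.1 * w * x.2 * w)⁻¹)
    (fun x => by
      have e3 : w * ((σ x).1 : G) * w * ((σ x).2 : G) * w = t * (w * x.1 * w * x.2 * w) * t₁⁻¹ := by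
        have b1 : ((σ x).1 : G) = t₁ * x.1 * t₁⁻¹ := rfl
        have b2 : ((σ x).2 : G) = t * x.2 * t⁻¹ := rfl
        have b3 : t₁⁻¹ * w * t = w := by
          rw [mul_assoc, ← e2]; group
        have b4 : t⁻¹ * w = w * t₁⁻¹ := by
          rw [inv_mul_eq_iff_eq_mul, ← mul_assoc, e1]; group
        rw [b1, b2]
        calc w * (t₁ * x.1 * t₁⁻¹) * w * (t * x.2 * t⁻¹) * w
            = (w * t₁) * x.1 * (t₁⁻¹ * w * t) * x.2 * (t⁻¹ * w) := by group
          _ = (t * w) * x.1 * w * x.2 * (w * t₁⁻¹) := by rw [b3, b4, ← e1]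
          _ = _ := by group
      change extendByZero P ρ.character (w * ((σ x).1 : G) * w * ((σ x).2 : G) * w)⁻¹ = _
      rw [e3]
      by_cases hx : (w * x.1 * w * x.2 * w : G) ∈ P
      · have hx' : t * (w * x.1 * w * x.2 * w) * t₁⁻¹ ∈ P := P.mul_mem (P.mul_mem ht hx) (P.inv_mem ht₁)
        rw [ext_apply_mem _ _ _ (P.inv_mem hx), ext_apply_mem _ _ _ (P.inv_mem hx')]
        have a1 : (⟨(t * (w * x.1 * w * x.2 * w) * t₁⁻¹)⁻¹, P.inv_mem hx'⟩ : P) =
            ⟨t₁, ht₁⟩ * ⟨(w * x.1 * w * x.2 * w)⁻¹, P.inv_mem hx⟩ * (⟨t, ht⟩ : P)⁻¹ := by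
          apply Subtype.ext
          change (t * (w * x.1 * w * x.2 * w) * t₁⁻¹)⁻¹ = t₁ * (w * x.1 * w * x.2 * w)⁻¹ * t⁻¹
          group
        rw [a1]
        unfold Representation.character
        have a2 : ∀ a b c : P, ρ (a * b * c) = ρ a * ρ b * ρ c := fun a b c => by rw [map_mul, map_mul]
        rw [a2, hρ, LinearMap.trace_mul_comm, ← mul_assoc, ← map_mul ρ (⟨t, ht⟩ : P)⁻¹, inv_mul_cancel,
          map_one, one_mul]
      · rw [ext_apply_not_mem P ρ.character (w * x.1 * w * x.2 * w)⁻¹ (fun h' => hx (by simpa only [_root_.mul_inv_rev, _root_.inv_inv] using P.inv_mem h')),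
          ext_apply_not_mem]
        intro h'
        apply hx
        have h2 := P.mul_mem (P.mul_mem (P.inv_mem ht) (P.inv_mem h')) ht₁
        have e : t⁻¹ * ((t * (w * x.1 * w * x.2 * w) * t₁⁻¹)⁻¹)⁻¹ * t₁ = w * x.1 * w * x.2 * w := by group
        rwa [e] at h2)
    (fun x => by
      by_cases hx : (w * x.1 * w * x.2 * w : G)⁻¹ ∈ P
      · rw [ext_apply_mem _ _ _ hx]
        exact GaloisBasic.isIntegral_apply (Core.isCharacter_of_rep ρ) _
      · rw [ext_apply_not_mem _ _ _ hx]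
        exact isIntegral_zero)
  refine ⟨c, hc, ?_⟩
  rw [h.A_trace hTT, hsum]
  congr 2
  ext x
  simp only [Finset.mem_filter, Finset.mem_univ, true_and]
  constructor
  · intro hx
    have a1 : t₁ * (x.1 : G) * t₁⁻¹ = x.1 := congrArg (fun y : U × U => (y.1 : G)) hx
    have a2 : t * (x.2 : G) * t⁻¹ = x.2 := congrArg (fun y : U × U => (y.2 : G)) hx
    exact ⟨by rw [← mul_inv_eq_iff_eq_mul]; exact a1, by rw [← mul_inv_eq_iff_eq_mul]; exact a2⟩
  · rintro ⟨a1, a2⟩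
    refine Prod.ext (Subtype.ext ?_) (Subtype.ext ?_)
    · change t₁ * (x.1 : G) * t₁⁻¹ = x.1
      rw [a1]; group
    · change t * (x.2 : G) * t⁻¹ = x.2
      rw [a2]; group

/-- **`A` modulo a prime** -/
theorem HN.A_mod' (h : HN P U w ρ) [Fintype U] [FiniteDimensional ℂ M] {A : ℂ}
    (hTT : (Top U w * Ep P ρ) * (Top U w * Ep P ρ) = A • (Top U w * Ep P ρ) + (Nat.card U : ℂ) • Ep P ρ)
    {r : ℕ} (hr : r.Prime) {t t₁ : G} (ht : t ∈ P) (ht₁ : t₁ ∈ P) (hr1 : t ^ r = 1) (hr2 : t₁ ^ r = 1)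
    (e1 : t * w = w * t₁) (e2 : t₁ * w = w * t) (S : Finset (U × U))
    (hS : ∀ x : U × U, x ∈ S ↔ t₁ * x.1 = x.1 * t₁ ∧ t * x.2 = x.2 * t) :
    ∃ c : ℂ, IsIntegral ℤ c ∧ A * ρ.character 1 =
      ∑ x ∈ S, extendByZero P ρ.character (w * x.1 * w * x.2 * w)⁻¹ + r * c := by
  classical
  obtain ⟨c, hc, h1⟩ := h.A_mod hTT hr ht ht₁ hr1 hr2 e1 e2
  refine ⟨c, hc, ?_⟩
  rw [h1]
  congr 2
  ext x
  rw [hS, Finset.mem_filter]
  exact ⟨fun h => h.2, fun h => ⟨Finset.mem_univ _, h⟩⟩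

/-- **the degrees** -/
theorem HN.two_pow' (h : HN P U w ρ) [Fintype U] [FiniteDimensional ℂ M] (hirr : IsIrrCharacter P ρ.character)
    {p N : ℕ} (hp : p.Prime) (hN : Nat.card U = p ^ N) (hρ : ∀ x, ∃ q : ℚ, ρ.character x = q) {D : ℕ}
    (hD : (P.index : ℂ) * ρ.character 1 = D) :
    ∃ (A : ℤ) (b d : ℕ) (χ₁ χ₂ : G → ℂ), (IsIrrCharacter G χ₁ ∧ IsIrrCharacter G χ₂ ∧
      χ₁ + χ₂ = indFun P ρ.character ∧
      χ₁ 1 = ((p ^ b * d : ℕ) : ℂ) ∧ χ₂ 1 = (d : ℂ) ∧ (p ^ b + 1) * d = D ∧ b ≤ N ∧ (b ≠ 0 → Even (b + N))) ∧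
      (∀ z : P, (∀ g : G, g * z = z * g) → ρ z = 1 → χ₁ z = χ₁ 1 ∧ χ₂ z = χ₂ 1) ∧
      (Top U w * Ep P ρ) * (Top U w * Ep P ρ) = (A : ℂ) • (Top U w * Ep P ρ) + (Nat.card U : ℂ) • Ep P ρ ∧
      A ^ 2 + 2 * p ^ N = p ^ (N + b) + p ^ (N - b) ∧
      ∀ x : G, (∀ g : G, ∀ u ∈ U, ∀ p ∈ P, g⁻¹ * x * g ≠ u * w * p) → χ₁ x = (p : ℂ) ^ b * χ₂ x := by
  classical
  obtain ⟨A, hA⟩ := h.quad hirr
  obtain ⟨q, hq⟩ := h.A_rat hirr hρ hA
  obtain ⟨lam, mu, χ₁, χ₂, ⟨i1, i2, e1, e2, n1, n2, hs, hd, hz⟩, htr⟩ := h.two' hirr hA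
  obtain ⟨B, hB⟩ := int_of_rat (z := A) (by rw [← e1]; exact n1.add n2) hq
  obtain ⟨d₁, hd₁, c1⟩ := Core.isIrr_apply_one i1
  obtain ⟨d₂, hd₂, c2⟩ := Core.isIrr_apply_one i2
  have hx0 : ∀ x : G, (∀ g : G, ∀ u ∈ U, ∀ p ∈ P, g⁻¹ * x * g ≠ u * w * p) → lam * χ₁ x + mu * χ₂ x = 0 :=
    fun x hx => by rw [htr, h.trace_Lt_Top hx]
  rw [hN] at e2
  rw [c1, c2] at hd
  have hsum : d₁ + d₂ = D := by
    have h1 := congrFun hs 1
    rw [Pi.add_apply, Cfsg.Agent.H53.HC.indFun_one, hD, c1, c2] at h1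
    exact_mod_cast h1
  obtain ⟨i, hi, l1, l2, l3⟩ := ratio_pow hp n1 n2 e2 hd hd₁ hd₂
  have hBA : (B : ℂ) ^ 2 + 2 * (p : ℂ) ^ N = (p : ℂ) ^ i + (p : ℂ) ^ (2 * N - i) := by
    rw [← hB, ← e1]
    push_cast at l1 l2 e2
    rw [← l1, ← l2]
    linear_combination 2 * e2
  have hp0 : 0 < p := hp.pos
  have hpc : (p : ℂ) ≠ 0 := Nat.cast_ne_zero.2 hp.ne_zero
  have hlam : lam ≠ 0 := by
    rintro rfl
    rw [zero_mul] at e2
    have : ((p ^ N : ℕ) : ℂ) = 0 := neg_eq_zero.1 e2.symm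
    push_cast at this
    exact pow_ne_zero _ hpc this
  have hmu : mu ≠ 0 := by
    rintro rfl
    rw [mul_zero] at e2
    have : ((p ^ N : ℕ) : ℂ) = 0 := neg_eq_zero.1 e2.symm
    push_cast at this
    exact pow_ne_zero _ hpc this
  have hc1 : (d₁ : ℂ) ≠ 0 := by exact_mod_cast hd₁.ne'
  have hc2 : (d₂ : ℂ) ≠ 0 := by exact_mod_cast hd₂.ne'
  rw [hq] at e1
  rcases Nat.lt_or_ge N i with hi' | hi'
  · have h1 : p ^ (i - N) * d₁ = d₂ := by
      have h2 : p ^ N * (p ^ (i - N) * d₁) = p ^ N * d₂ := by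
        rw [← mul_assoc, ← pow_add, Nat.add_sub_cancel' hi'.le, l3]
      exact Nat.eq_of_mul_eq_mul_left (Nat.pos_of_ne_zero (pow_ne_zero _ hp.ne_zero)) h2
    refine ⟨B, i - N, d₁, χ₂, χ₁, ⟨i2, i1, by rw [add_comm]; exact hs, by rw [c2, h1], c1, ?_, by omega, fun _ => ?_⟩,
      fun z hz' hz1 => (hz z hz' hz1).symm, by rw [← hB]; exact hA, ?_, fun x hx => ?_⟩
    · rw [add_mul, one_mul, h1, ← hsum]; ring
    · rw [Nat.sub_add_cancel hi'.le]
      exact parity hp l1 l2 hi hi'.ne' e1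
    · have h3 : N + (i - N) = i := by omega
      have h4 : N - (i - N) = 2 * N - i := by omega
      rw [h3, h4]
      exact_mod_cast hBA
    · have h5 := hx0 x hx
      have h6 : (d₂ : ℂ) = (p : ℂ) ^ (i - N) * d₁ := by rw [← h1]; push_cast; ring
      rw [h6] at hd
      have h7 : lam = -(mu * (p : ℂ) ^ (i - N)) := by
        apply mul_right_cancel₀ hc1
        linear_combination hd
      rw [h7] at h5
      apply mul_left_cancel₀ hmu
      linear_combination h5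
  · have h1 : d₁ = p ^ (N - i) * d₂ := by
      have h2 : p ^ i * d₁ = p ^ i * (p ^ (N - i) * d₂) := by
        rw [← mul_assoc, ← pow_add, Nat.add_sub_cancel' hi', l3]
      exact Nat.eq_of_mul_eq_mul_left (Nat.pos_of_ne_zero (pow_ne_zero _ hp.ne_zero)) h2
    refine ⟨B, N - i, d₂, χ₁, χ₂, ⟨i1, i2, hs, by rw [c1, h1], c2, ?_, by omega, fun h0 => ?_⟩, hz,
      by rw [← hB]; exact hA, ?_, fun x hx => ?_⟩
    · rw [add_mul, one_mul, ← h1, hsum]
    · have h3 : Even i := parity hp l1 l2 hi (by omega) e1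
      obtain ⟨k, hk⟩ := h3
      exact ⟨N - k, by omega⟩
    · have h3 : N + (N - i) = 2 * N - i := by omega
      have h4 : N - (N - i) = i := by omega
      rw [h3, h4, add_comm ((p : ℤ) ^ (2 * N - i))]
      exact_mod_cast hBA
    · have h5 := hx0 x hx
      have h6 : (d₁ : ℂ) = (p : ℂ) ^ (N - i) * d₂ := by rw [h1]; push_cast; ring
      rw [h6] at hd
      have h7 : mu = -(lam * (p : ℂ) ^ (N - i)) := by
        apply mul_right_cancel₀ hc2
        linear_combination hd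
      rw [h7] at h5
      apply mul_left_cancel₀ hlam
      linear_combination h5

end Machine

end Cfsg.Agent.H477.HC
end

-- part: H477/HC/N8
section
/-!
# The norm-two induction for a frame, with the parameter (hub H5, helper477)
-/

set_option autoImplicit false

open scoped ComplexConjugate
open Cfsg

namespace Cfsg.Agent.H477.HC

open Cfsg.Agent.OddOrderCharacters.Clifford Cfsg.Agent.Characters MulAction Module Cfsg.Agent.H53.HC
open Cfsg.Agent.H749.Two

universe u v w x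

namespace CForm

section

variable {K : Type u} [Field K] {V : Type v} [AddCommGroup V] [Module K V] {F : CForm K V}
  {X : Type w} [AddCommGroup X] [Module K X] {F' : CForm K X} {k : ℕ} {e f : Fin k → V} {j : X →ₗ[K] V}

theorem Frm.w_sq [FiniteDimensional K V] (h : Frm F F' e f j) (hε : F.ε = 1)
    {w : F.iso} (hw1 : ∀ i, (w : V ≃ₗ[K] V) (e i) = f i) (hw2 : ∀ i, (w : V ≃ₗ[K] V) (f i) = F.ε • e i)
    (hw3 : ∀ v, (∀ i, F.B v (e i) = 0) → (∀ i, F.B v (f i) = 0) → (w : V ≃ₗ[K] V) v = v) : w * w = 1 := by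
  apply Subtype.ext
  apply LinearEquiv.ext
  intro v
  change ((w * w : F.iso) : V ≃ₗ[K] V) v = v
  have a1 : ∀ l, F.B (∑ i, F.B v (f i) • e i) (e l) = 0 := fun l => by
    rw [B_sum_left]; exact Finset.sum_eq_zero fun i _ => by rw [h.hee, mul_zero]
  have a2 : ∀ l, F.B (∑ i, F.B v (f i) • e i) (f l) = F.B v (f l) := fun l => by
    rw [B_sum_left]; simp only [h.hef]; rw [sum_delta (fun i => F.B v (f i)) l]
  have a3 : ∀ l, F.B (∑ i, F.B v (e i) • f i) (f l) = 0 := fun l => by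
    rw [B_sum_left]; exact Finset.sum_eq_zero fun i _ => by rw [h.hff, mul_zero]
  have a4 : ∀ l, F.B (∑ i, F.B v (e i) • f i) (e l) = F.B v (e l) := fun l => by
    rw [B_sum_left]; simp only [h.hfe, hε]; rw [sum_delta (fun i => F.B v (e i)) l]
  have e0 : v = (v - ∑ i, F.B v (f i) • e i - ∑ i, F.B v (e i) • f i) +
    (∑ i, F.B v (f i) • e i + ∑ i, F.B v (e i) • f i) := by abel
  have hz : (w : V ≃ₗ[K] V) (v - ∑ i, F.B v (f i) • e i - ∑ i, F.B v (e i) • f i) =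
      v - ∑ i, F.B v (f i) • e i - ∑ i, F.B v (e i) • f i :=
    hw3 _ (fun l => by rw [F.B_sub_left, F.B_sub_left, a1, a4]; ring)
      (fun l => by rw [F.B_sub_left, F.B_sub_left, a2, a3]; ring)
  have he : (w : V ≃ₗ[K] V) (∑ i, F.B v (f i) • e i) = ∑ i, F.B v (f i) • f i := by
    rw [map_sum]; exact Finset.sum_congr rfl fun i _ => by rw [map_smul, hw1]
  have hf : (w : V ≃ₗ[K] V) (∑ i, F.B v (e i) • f i) = ∑ i, F.B v (e i) • e i := by
    rw [map_sum]; exact Finset.sum_congr rfl fun i _ => by rw [map_smul, hw2, hε, one_smul]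
  have he' : (w : V ≃ₗ[K] V) (∑ i, F.B v (e i) • e i) = ∑ i, F.B v (e i) • f i := by
    rw [map_sum]; exact Finset.sum_congr rfl fun i _ => by rw [map_smul, hw1]
  have hf' : (w : V ≃ₗ[K] V) (∑ i, F.B v (f i) • f i) = ∑ i, F.B v (f i) • e i := by
    rw [map_sum]; exact Finset.sum_congr rfl fun i _ => by rw [map_smul, hw2, hε, one_smul]
  rw [mul_apply']
  conv_lhs => rw [e0, map_add, map_add, hz, map_add, map_add, hz, he, hf, hf', he']
  exact e0.symm

/-- **the data of the norm-two induction** -/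
theorem Frm.two_data [FiniteDimensional K V] [FiniteDimensional K X] [Finite V] [Finite K] (h : Frm F F' e f j)
    (hσ : F.σ = F'.σ) (hk : 0 < k) (hε : F.ε = 1)
    [Fintype F.iso] [Fintype (stabW F.iso.subtype (Submodule.span K (Set.range e)))] [Fintype (Us F e)]
    {w : F.iso} (hw1 : ∀ i, (w : V ≃ₗ[K] V) (e i) = f i) (hw2 : ∀ i, (w : V ≃ₗ[K] V) (f i) = F.ε • e i)
    (hw3 : ∀ v, (∀ i, F.B v (e i) = 0) → (∀ i, F.B v (f i) = 0) → (w : V ≃ₗ[K] V) v = v)
    (b : Basis (Fin k) K (Submodule.span K (Set.range e)))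
    {c : GL (Fin k) K →* ℂˣ} (hc : ∀ A, c (F.iota k A) = c A) (hcusp : _root_.Cfsg.Agent.H53.HC.IsCusp (cfun c))
    (hcq : ∀ A, ∃ q : ℚ, ((c A : ℂˣ) : ℂ) = q)
    {pr : stabW F.iso.subtype (Submodule.span K (Set.range e)) →* F'.iso}
    (hρ1 : ∀ (g : stabW F.iso.subtype (Submodule.span K (Set.range e))) y,
      ((g : F.iso) : V ≃ₗ[K] V) (j y) - j ((pr g : X ≃ₗ[K] X) y) ∈ Submodule.span K (Set.range e))
    (hρ2 : ∀ g : stabW F.iso.subtype (Submodule.span K (Set.range e)),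
      (g : F.iso) ∈ F.TT (Submodule.span K (Set.range e)) → pr g = 1)
    (hsurj : Function.Surjective pr)
    {M : Type x} [AddCommGroup M] [Module ℂ M] [FiniteDimensional ℂ M] (ρ₀ : Representation ℂ F'.iso M)
    (hψ : IsIrrCharacter _ ρ₀.character) {n₀ : ℕ} (hψ1 : ρ₀.character 1 = n₀)
    (hψq : ∀ g, ∃ q : ℚ, ρ₀.character g = q)
    (hperp : ∀ W' ∈ F.Om k, Submodule.span K (Set.range e) ≤ F.perp W' → Submodule.span K (Set.range e) ⊓ W' = ⊥ →
      F.Van (cfun c) (psf F (Submodule.span K (Set.range e)) (ρ₀.character ∘ pr)) (Submodule.span K (Set.range e)) W')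
    {p N : ℕ} (hp : p.Prime) (hN : Nat.card (Us F e) = p ^ N) :
    HN (stabW F.iso.subtype (Submodule.span K (Set.range e))) (Us F e) w (crep b c pr ρ₀) ∧
    ∃ (A : ℤ) (b' d : ℕ) (χ₁ χ₂ : F.iso → ℂ), (IsIrrCharacter F.iso χ₁ ∧ IsIrrCharacter F.iso χ₂ ∧
      χ₁ + χ₂ = indFun (stabW F.iso.subtype (Submodule.span K (Set.range e))) (crep b c pr ρ₀).character ∧
      χ₁ 1 = ((p ^ b' * d : ℕ) : ℂ) ∧ χ₂ 1 = (d : ℂ) ∧ (p ^ b' + 1) * d = Nat.card (F.Om k) * n₀ ∧
      b' ≤ N ∧ (b' ≠ 0 → Even (b' + N))) ∧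
      (∀ z : stabW F.iso.subtype (Submodule.span K (Set.range e)), (∀ g : F.iso, g * z = z * g) →
        crep b c pr ρ₀ z = 1 → χ₁ z = χ₁ 1 ∧ χ₂ z = χ₂ 1) ∧
      (Top (Us F e) w * Ep (stabW F.iso.subtype (Submodule.span K (Set.range e))) (crep b c pr ρ₀)) *
        (Top (Us F e) w * Ep (stabW F.iso.subtype (Submodule.span K (Set.range e))) (crep b c pr ρ₀)) =
        (A : ℂ) • (Top (Us F e) w * Ep (stabW F.iso.subtype (Submodule.span K (Set.range e))) (crep b c pr ρ₀)) +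
        (Nat.card (Us F e) : ℂ) • Ep (stabW F.iso.subtype (Submodule.span K (Set.range e))) (crep b c pr ρ₀) ∧
      A ^ 2 + 2 * p ^ N = p ^ (N + b') + p ^ (N - b') ∧
      ∀ x : F.iso, (∀ g : F.iso, ∀ u ∈ Us F e, ∀ p ∈ stabW F.iso.subtype (Submodule.span K (Set.range e)),
        g⁻¹ * x * g ≠ u * w * p) → χ₁ x = (p : ℂ) ^ b' * χ₂ x := by
  classical
  have hn := h.hn hσ hk hε hw1 hw2 hw3 b hc hcusp hρ1 hρ2 ρ₀ hperp
  have hchar := crep_char b c pr ρ₀
  have hcl : IsClassFunction (stabW F.iso.subtype (Submodule.span K (Set.range e))) (ρ₀.character ∘ pr) :=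
    Core.isCharacter_isClassFunction (Core.isCharacter_comp pr (Core.isCharacter_of_rep ρ₀))
  obtain ⟨W₁, hW₁, hopp⟩ := F.exists_opp h.mem_Om
  have hirr : IsIrrCharacter _ (crep b c pr ρ₀).character := by
    have h1 : (crep b c pr ρ₀).character = fun g : stabW F.iso.subtype (Submodule.span K (Set.range e)) =>
        flagTerm F.iso.subtype (cfun c) g (Submodule.span K (Set.range e)) *
          psf F (Submodule.span K (Set.range e)) (ρ₀.character ∘ pr) g (Submodule.span K (Set.range e)) := by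
      funext g
      rw [hchar, psf_self hcl]
    rw [h1]
    refine F.isIrr_stab ?_ (fun W hWk g hg => ?_) h.mem_Om hW₁ hopp ?_
    · exact isIrr_cfun c
    · obtain ⟨x, hx⟩ := F.trans_Om h.mem_Om hWk
      have h1 := TT_conj hx hg
      have h2 : x⁻¹ * 1 * x ∈ stabW F.iso.subtype (Submodule.span K (Set.range e)) := by
        rw [mul_one, inv_mul_cancel]; exact Subgroup.one_mem _
      rw [psf_eq hcl hx h1.1, psf_eq hcl hx h2, Function.comp_apply, hρ2 _ h1, Function.comp_apply]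
      congr 1
      have : (⟨x⁻¹ * 1 * x, h2⟩ : stabW F.iso.subtype (Submodule.span K (Set.range e))) = 1 := by
        apply Subtype.ext
        change x⁻¹ * 1 * x = 1
        group
      rw [this, map_one]
    · have : (fun g : stabW F.iso.subtype (Submodule.span K (Set.range e)) =>
          psf F (Submodule.span K (Set.range e)) (ρ₀.character ∘ pr) g (Submodule.span K (Set.range e))) =
          ρ₀.character ∘ pr := by
        funext g
        exact psf_self hcl g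
      rw [this]
      exact Core.isIrr_comp pr hsurj hψ
  have hq : ∀ g, ∃ q : ℚ, (crep b c pr ρ₀).character g = q := by
    intro g
    obtain ⟨q₁, h1⟩ := hcq (glE b (resHom F.iso.subtype (Submodule.span K (Set.range e)) g))
    obtain ⟨q₂, h2⟩ := hψq (pr g)
    refine ⟨q₁ * q₂, ?_⟩
    rw [hchar, flagTerm_cfun b, h1, Function.comp_apply, h2]
    push_cast
    rfl
  have hD : ((stabW F.iso.subtype (Submodule.span K (Set.range e))).index : ℂ) * (crep b c pr ρ₀).character 1 =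
      ((Nat.card (F.Om k) * n₀ : ℕ) : ℂ) := by
    rw [index_stab h.mem_Om, hchar, flagTerm_cfun b, Function.comp_apply, map_one pr, hψ1, map_one, map_one, map_one,
      Units.val_one, one_mul]
    push_cast
    rfl
  exact ⟨hn, hn.two_pow' hirr hp hN hq hD⟩

end

end CForm

end Cfsg.Agent.H477.HC
end

-- part: H477/HC/N9
section
/-!
# `Ω⁻₈(2)` : a character of degree divisible by `10` (hub H5, helper477)

The class of reflections acts as a scalar on the induced module (no reflection is in the big cell), hence the two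
constituents do not vanish at the reflections, and stay irreducible on the commutator subgroup.
-/

set_option autoImplicit false

open scoped ComplexConjugate
open Cfsg

namespace Cfsg.Agent.H477.HC

open Cfsg.Agent.OddOrderCharacters.Clifford Cfsg.Agent.Characters MulAction Module Cfsg.Agent.H53.HC
open Cfsg.Agent.H749.Two

universe u v w x

/-- restriction to a subgroup of index two -/
theorem irr_res_of_ne {G : Type*} [Group G] [Finite G] {H : Subgroup G} (hH : H.index = 2) {χ : G → ℂ}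
    (hχ : IsIrrCharacter G χ) {x : G} (hx : x ∉ H) (h0 : χ x ≠ 0) : IsIrrCharacter H (χ ∘ H.subtype) := by
  classical
  have := Fintype.ofFinite G
  have := Fintype.ofFinite H
  have hc : IsCharacter H (χ ∘ H.subtype) := Core.isCharacter_comp H.subtype (Core.isIrr_isCharacter hχ)
  obtain ⟨n, hn⟩ := Core.classInner_isNat hc hc
  have hcG : (Nat.card G : ℂ) ≠ 0 := by exact_mod_cast (Nat.card_pos (α := G)).ne'
  have hcH : (Nat.card H : ℂ) ≠ 0 := by exact_mod_cast (Nat.card_pos (α := H)).ne'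
  have h1 : ∑ g : G, ‖χ g‖ ^ 2 = (Nat.card G : ℝ) := by
    have h := Core.classInner_irr_self hχ
    rw [Core.classInner_def, inv_mul_eq_iff_eq_mul₀ hcG, mul_one] at h
    have h1 : ((∑ g : G, ‖χ g‖ ^ 2 : ℝ) : ℂ) = (Nat.card G : ℂ) := by
      rw [← h, Complex.ofReal_sum]
      refine Finset.sum_congr rfl fun g _ => ?_
      rw [Complex.mul_conj, Complex.normSq_eq_norm_sq]
    exact_mod_cast h1
  have h2 : ∑ g : H, ‖χ g‖ ^ 2 = (Nat.card H * n : ℝ) := by
    have h := hn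
    rw [Core.classInner_def, inv_mul_eq_iff_eq_mul₀ hcH] at h
    have h1 : ((∑ g : H, ‖χ g‖ ^ 2 : ℝ) : ℂ) = (Nat.card H * n : ℂ) := by
      rw [← h, Complex.ofReal_sum]
      refine Finset.sum_congr rfl fun g _ => ?_
      rw [Complex.mul_conj, Complex.normSq_eq_norm_sq]
      rfl
    exact_mod_cast h1
  have h3 : ∑ g ∈ Finset.univ.filter (fun g : G => g ∈ H), ‖χ g‖ ^ 2 = ∑ n : H, ‖χ n‖ ^ 2 :=
    Finset.sum_subtype _ (fun g => by simp) (fun g => ‖χ g‖ ^ 2)
  have h4 := Finset.sum_filter_add_sum_filter_not (Finset.univ : Finset G) (fun g : G => g ∈ H)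
    (fun g => ‖χ g‖ ^ 2)
  have h5 : 0 < ∑ g ∈ Finset.univ.filter (fun g : G => g ∉ H), ‖χ g‖ ^ 2 := by
    refine Finset.sum_pos' (fun g _ => by (clear * -; positivity)) ⟨x, by simp [hx], ?_⟩
    have := norm_pos_iff.2 h0
    positivity
  have h6 : (Nat.card G : ℝ) = 2 * (Nat.card H : ℝ) := by
    rw [← H.index_mul_card, hH]; push_cast; ring
  rw [h3, h2, h1, h6] at h4
  have hpos : (0 : ℝ) < Nat.card H := by exact_mod_cast Nat.card_pos
  have h7 : (n : ℝ) < 2 := by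
    by_contra h
    push Not at h
    nlinarith only [h4, h5, h]
  have h8 : n < 2 := by exact_mod_cast h7
  have h9 : n ≠ 0 := by
    rintro rfl
    rw [Nat.cast_zero] at hn
    have := Core.classInner_self_eq_zero hn
    have h10 := congrFun this 1
    exact Core.isIrr_apply_one_ne_zero hχ h10
  have h10 : n = 1 := by omega
  exact Core.isIrr_of_classInner_self hc (by rw [hn, h10, Nat.cast_one])

namespace CForm

section

variable {V : Type v} [AddCommGroup V] [Module (ZMod 2) V] {F : CForm (ZMod 2) V}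
  {X : Type w} [AddCommGroup X] [Module (ZMod 2) X] {F' : CForm (ZMod 2) X} {k : ℕ} {e f : Fin k → V}
  {j : X →ₗ[ZMod 2] V}

/-- `r` is the reflection in `n` -/
def IsRefl (F : CForm (ZMod 2) V) (r : F.iso) (n : V) : Prop :=
  F.Q n = 1 ∧ ∀ v, (r : V ≃ₗ[ZMod 2] V) v = v + F.B v n • n

theorem IsRefl.conj {r : F.iso} {n : V} (h : F.IsRefl r n) (g : F.iso) :
    F.IsRefl (g⁻¹ * r * g) (((g⁻¹ : F.iso) : V ≃ₗ[ZMod 2] V) n) := by
  refine ⟨by rw [F.iso_Q, h.1], fun v => ?_⟩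
  rw [mul_apply', mul_apply', h.2, map_add, inv_apply', map_smul, B_inv_right]

theorem eq_one2 : ∀ x : ZMod 2, x ≠ 0 → x = 1 := by decide

/-- a reflection is not in the big cell -/
theorem Frm.refl_big [FiniteDimensional (ZMod 2) V] (h : Frm F F' e f j) (hk : 2 ≤ k) {w : F.iso}
    (hw1 : ∀ i, (w : V ≃ₗ[ZMod 2] V) (e i) = f i) {r : F.iso} {n : V} (hr : F.IsRefl r n) (g : F.iso) :
    ∀ u ∈ Us F e, ∀ p ∈ stabW F.iso.subtype (Submodule.span (ZMod 2) (Set.range e)), g⁻¹ * r * g ≠ u * w * p := by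
  intro u hu p hp heq
  obtain ⟨n', hn'⟩ : ∃ n', F.IsRefl (g⁻¹ * r * g) n' := ⟨_, hr.conj g⟩
  rw [heq] at hn'
  -- a vector of `W₀` orthogonal to `n'`
  let l : Submodule.span (ZMod 2) (Set.range e) →ₗ[ZMod 2] ZMod 2 := (F.lf n').comp (Submodule.subtype _)
  obtain ⟨v, hv0, hv⟩ : ∃ v : Submodule.span (ZMod 2) (Set.range e), v ≠ 0 ∧ l v = 0 := by
    by_contra hcon
    push Not at hcon
    have hinj : Function.Injective l := by
      rw [injective_iff_map_eq_zero]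
      intro v hv
      by_contra h0
      exact hcon v h0 hv
    have h1 := LinearMap.finrank_le_finrank_of_injective hinj
    rw [h.finrank_e, finrank_self] at h1
    omega
  have hv' : F.B (v : V) n' = 0 := hv
  have h1 : ((u * w * p : F.iso) : V ≃ₗ[ZMod 2] V) v = v := by
    rw [hn'.2, hv', zero_smul, add_zero]
  obtain ⟨a, ha⟩ := (Submodule.mem_span_range_iff_exists_fun (ZMod 2)).1 (par_mem hp v.2)
  have h2 : ((u * w * p : F.iso) : V ≃ₗ[ZMod 2] V) v = (u : V ≃ₗ[ZMod 2] V) (∑ i, a i • f i) := by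
    rw [mul_apply', mul_apply', ← ha]
    congr 1
    rw [map_sum]
    exact Finset.sum_congr rfl fun i _ => by rw [map_smul, hw1]
  have h3 : (∑ i, a i • f i : V) = v := by
    have h4 := inv_apply' u (∑ i, a i • f i)
    rw [← h2, h1] at h4
    rw [← h4]
    exact Us_span (Subgroup.inv_mem _ hu) v.2
  have h4 : ∀ l, a l = 0 := by
    intro l
    have h5 : F.B (∑ i, a i • f i) (e l) = 0 := by
      rw [h3]
      exact h.tse.2 _ v.2 _ (Submodule.subset_span ⟨l, rfl⟩)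
    rw [B_sum_left] at h5
    simp only [h.hfe] at h5
    rw [sum_deltaε a F.ε l] at h5
    exact (mul_eq_zero.1 h5).resolve_right F.ε_ne
  apply hv0
  apply Subtype.ext
  rw [← h3]
  exact Finset.sum_eq_zero fun i _ => by rw [h4, zero_smul]

/-- the value at a reflection of the parabolic subgroup -/
theorem Frm.refl_par [FiniteDimensional (ZMod 2) V] [FiniteDimensional (ZMod 2) X] (h : Frm F F' e f j)
    (hσ : F.σ = F'.σ)
    (b : Basis (Fin k) (ZMod 2) (Submodule.span (ZMod 2) (Set.range e)))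
    {c : GL (Fin k) (ZMod 2) →* ℂˣ}
    {pr : stabW F.iso.subtype (Submodule.span (ZMod 2) (Set.range e)) →* F'.iso}
    (hρ1 : ∀ (g : stabW F.iso.subtype (Submodule.span (ZMod 2) (Set.range e))) y,
      ((g : F.iso) : V ≃ₗ[ZMod 2] V) (j y) - j ((pr g : X ≃ₗ[ZMod 2] X) y) ∈ Submodule.span (ZMod 2) (Set.range e))
    {M : Type x} [AddCommGroup M] [Module ℂ M] [FiniteDimensional ℂ M] (ρ₀ : Representation ℂ F'.iso M)
    (hval : ∀ r n, F'.IsRefl r n → ρ₀.character r = 1) {r : F.iso} {n : V} (hr : F.IsRefl r n)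
    (hrP : r ∈ stabW F.iso.subtype (Submodule.span (ZMod 2) (Set.range e))) :
    (crep b c pr ρ₀).character ⟨r, hrP⟩ = 1 := by
  -- `n` is orthogonal to `W₀`
  have hn : ∀ v ∈ Submodule.span (ZMod 2) (Set.range e), F.B v n = 0 := by
    intro v hv
    by_contra h0
    have h1 := par_mem hrP hv
    rw [hr.2, eq_one2 _ h0, one_smul] at h1
    have h2 : n ∈ Submodule.span (ZMod 2) (Set.range e) := by
      have := Submodule.sub_mem _ h1 hv
      rwa [add_sub_cancel_left] at this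
    have h3 := h.tse.1 n h2
    rw [hr.1] at h3
    exact absurd h3 (by decide)
  have hn' : n ∈ F.perp (Submodule.span (ZMod 2) (Set.range e)) := fun w hw => F.B_eq_zero (hn w hw)
  obtain ⟨w₀, hw₀, x, hx⟩ := (h.cmp hσ).j2 n hn'
  obtain ⟨q, hq, hqj, hqW⟩ := (h.cmp hσ).exists_proj
  have hres : resHom F.iso.subtype (Submodule.span (ZMod 2) (Set.range e)) ⟨r, hrP⟩ = 1 := by
    ext v
    change (r : V ≃ₗ[ZMod 2] V) v = v
    rw [hr.2, hn _ v.2, zero_smul, add_zero]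
  rw [crep_char, flagTerm_cfun b, hres, map_one, map_one, Units.val_one, one_mul, Function.comp_apply]
  refine hval _ x ⟨?_, fun y => ?_⟩
  · rw [← hr.1, hx, F.Q_add, h.tse.1 _ hw₀, h.hjQ]
    have : F.B w₀ (j x) = 0 := F.B_eq_zero ((h.cmp hσ).j1 x w₀ hw₀)
    rw [this, F.T_zero]
    ring
  · have h1 := hqW _ (hρ1 ⟨r, hrP⟩ y)
    rw [map_sub, hqj, sub_eq_zero] at h1
    rw [← h1]
    change q ((r : V ≃ₗ[ZMod 2] V) (j y)) = _
    rw [hr.2, map_add, map_smul, hqj, hx, map_add, hqj, hqW _ hw₀, zero_add, F.B_add_right, h.hjB]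
    have : F.B (j y) w₀ = 0 := (h.cmp hσ).j1 y w₀ hw₀
    rw [this, zero_add]

/-- the induced character does not vanish at the reflections of the parabolic subgroup -/
theorem Frm.ind_refl [FiniteDimensional (ZMod 2) V] [FiniteDimensional (ZMod 2) X] (h : Frm F F' e f j)
    (hσ : F.σ = F'.σ) [Fintype F.iso] [Fintype (stabW F.iso.subtype (Submodule.span (ZMod 2) (Set.range e)))]
    (b : Basis (Fin k) (ZMod 2) (Submodule.span (ZMod 2) (Set.range e)))
    {c : GL (Fin k) (ZMod 2) →* ℂˣ}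
    {pr : stabW F.iso.subtype (Submodule.span (ZMod 2) (Set.range e)) →* F'.iso}
    (hρ1 : ∀ (g : stabW F.iso.subtype (Submodule.span (ZMod 2) (Set.range e))) y,
      ((g : F.iso) : V ≃ₗ[ZMod 2] V) (j y) - j ((pr g : X ≃ₗ[ZMod 2] X) y) ∈ Submodule.span (ZMod 2) (Set.range e))
    {M : Type x} [AddCommGroup M] [Module ℂ M] [FiniteDimensional ℂ M] (ρ₀ : Representation ℂ F'.iso M)
    (hval : ∀ r n, F'.IsRefl r n → ρ₀.character r = 1) {r : F.iso} {n : V} (hr : F.IsRefl r n)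
    (hn : ∀ i, F.B (e i) n = 0) :
    indFun (stabW F.iso.subtype (Submodule.span (ZMod 2) (Set.range e))) (crep b c pr ρ₀).character r ≠ 0 := by
  classical
  have hrP : r ∈ stabW F.iso.subtype (Submodule.span (ZMod 2) (Set.range e)) := by
    rw [mem_par]
    intro i
    rw [hr.2, hn, zero_smul, add_zero]
    exact Submodule.subset_span ⟨i, rfl⟩
  have h1 : ∀ g : F.iso, extendByZero (stabW F.iso.subtype (Submodule.span (ZMod 2) (Set.range e)))
      (crep b c pr ρ₀).character (g⁻¹ * r * g) =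
      ((if g⁻¹ * r * g ∈ stabW F.iso.subtype (Submodule.span (ZMod 2) (Set.range e)) then 1 else 0 : ℕ) : ℂ) := by
    intro g
    by_cases hg : g⁻¹ * r * g ∈ stabW F.iso.subtype (Submodule.span (ZMod 2) (Set.range e))
    · rw [if_pos hg, ext_apply_mem _ _ _ hg, h.refl_par hσ b hρ1 ρ₀ hval (hr.conj g) hg, Nat.cast_one]
    · rw [if_neg hg, ext_apply_not_mem _ _ _ hg, Nat.cast_zero]
  rw [indFun_apply, Finset.sum_congr rfl fun g _ => h1 g, ← Nat.cast_sum]
  refine mul_ne_zero (inv_ne_zero card_ne_zero') (Nat.cast_ne_zero.2 ?_)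
  refine (Finset.sum_pos' (fun _ _ => Nat.zero_le _) ⟨1, Finset.mem_univ _, ?_⟩).ne'
  rw [if_pos]
  · exact Nat.one_pos
  · rw [inv_one, one_mul, mul_one]; exact hrP

end

end CForm

end Cfsg.Agent.H477.HC
end
end

-- part: S4984
section
prune_inst 0x10000000000000000000000000001000000000008000000000000000800000000000000000080000000000000000000000100000000000004000000000000000020020400000000000000000000000000080000000000000000000000000000000000
set_option linter.all false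
open scoped Cfsg.Agent.FastGrp

-- part: H477/HC/N7
section
/-!
# `PSp₈(2)` : a character of degree divisible by `14` (hub H5, helper477)
-/

set_option autoImplicit false

open scoped ComplexConjugate
open Cfsg

namespace Cfsg.Agent.H477.HC

open Cfsg.Agent.OddOrderCharacters.Clifford Cfsg.Agent.Characters MulAction Module Cfsg.Agent.H53.HC
open Cfsg.Agent.H749.Two

universe u v w x

/-- from `Sp_{2m}(2)` to `PSp_{2m}(K)` -/
theorem psp_two (K : Type u) [Field K] [Finite K] (hK : Nat.card K = 2) (m : ℕ)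
    {χ : (CForm.spF (ZMod 2) m).iso → ℂ} (hχ : IsIrrCharacter _ χ) {d : ℕ} (hd : χ 1 = d) : Ch (PSp m K) d := by
  classical
  let _ := Fintype.ofFinite K
  have hF : Fintype.card K = 2 := by rw [← Nat.card_eq_fintype_card, hK]
  have hfin : Finite (Matrix.symplecticGroup (Fin m) (ZMod 2)) := inferInstance
  have hχ' : IsIrrCharacter _ (χ ∘ (isoSp m (ZMod 2)).toMonoidHom) :=
    Core.isIrr_comp (isoSp m (ZMod 2)).toMonoidHom (isoSp m (ZMod 2)).surjective hχ
  obtain ⟨η, hη, hη'⟩ := exists_quot (Subgroup.center (Matrix.symplecticGroup (Fin m) (ZMod 2))) hχ' (fun z hz => by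
    change χ (isoSp m (ZMod 2) z) = χ (isoSp m (ZMod 2) 1)
    have hz1 : z = 1 := by
      apply Subtype.ext
      rcases Cfsg.Agent.ClassicalGeometry.SympInvolutions.center_eq hz with h | h
      · exact h
      · rw [h]
        change -(1 : Matrix (Fin m ⊕ Fin m) (Fin m ⊕ Fin m) (ZMod 2)) = 1
        ext i l
        rw [Matrix.neg_apply]
        exact (by decide : ∀ x : ZMod 2, -x = x) _
    rw [hz1])
  have hη1 : η 1 = (d : ℂ) := by
    have := hη' 1
    rw [QuotientGroup.mk_one] at this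
    rw [this]
    change χ (isoSp m (ZMod 2) 1) = _
    rw [map_one, hd]
  have e0 : K ≃+* ZMod 2 := FiniteField.ringEquivOfCardEq (by rw [hF, ZMod.card 2])
  let E : PSp m K ≃* PSp m (ZMod 2) := Cfsg.Agent.LieClassical.FieldTransfer.pspCongr m e0
  refine ⟨η ∘ E.toMonoidHom, Core.isIrr_comp E.toMonoidHom E.surjective hη, ?_⟩
  change η ((E 1 :)) = _
  rw [map_one, hη1]

namespace CForm

variable {K : Type u} [Field K] {V : Type v} [AddCommGroup V] [Module K V] {F : CForm K V}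
  {X : Type w} [AddCommGroup X] [Module K X] {F' : CForm K X} {k : ℕ} {e f : Fin k → V} {j : X →ₗ[K] V}

theorem psf_const {W₀ : Submodule K V} {ψ : stabW F.iso.subtype W₀ → ℂ} (hψ : ∀ g, ψ g = 1) {x g : F.iso}
    {W : Submodule K V} (hx : W₀.map (F.iso.subtype x : V →ₗ[K] V) = W) (hg : x⁻¹ * g * x ∈ stabW F.iso.subtype W₀) :
    psf F W₀ ψ g W = 1 := by
  have hcl : IsClassFunction _ ψ := fun g h => by rw [hψ, hψ]
  rw [psf_eq hcl hx hg, hψ]

/-- the vanishing condition for `ψ₀ = 1`, `k ≥ 2` -/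
theorem van_const [FiniteDimensional K V] [Finite V] (hk : 2 ≤ k) {c : GL (Fin k) K → ℂ}
    (hcf : IsClassFunction _ c) (hcusp : _root_.Cfsg.Agent.H53.HC.IsCusp c) {W₀ W' : Submodule K V} {ψ : stabW F.iso.subtype W₀ → ℂ}
    (hψ : ∀ g, ψ g = 1)
    (hW₀ : W₀ ∈ F.Om k) (hW' : W' ∈ F.Om k) (hperp : W₀ ≤ F.perp W') (h0 : W₀ ⊓ W' = ⊥) :
    F.Van c (psf F W₀ ψ) W₀ W' := by
  obtain ⟨L, hL1, hL2, hL⟩ := van_case3 (F := F) hk hcf hcusp (ψ := fun _ _ => 1) (fun _ _ => rfl) hW₀ hW' hperp h0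
  refine ⟨L, hL1, hL2, fun {_} => ?_⟩
  rw [← hL]
  refine Finset.sum_congr rfl fun l _ => ?_
  obtain ⟨x, hx⟩ := F.trans_Om hW₀ hW'
  rw [psf_const hψ (x := 1) (g := (l : F.iso)) (W := W₀) (by rw [map_one]; exact Submodule.map_id _)
    (by rw [inv_one, one_mul, mul_one]; exact hL1 l.2), psf_const hψ hx]
  change W₀.map (F.iso.subtype (x⁻¹ * (l : F.iso) * x) : V →ₗ[K] V) = W₀
  have h1 : W'.map (F.iso.subtype (l : F.iso) : V →ₗ[K] V) = W' := hL2 l.2
  have h2 : W'.map (F.iso.subtype x⁻¹ : V →ₗ[K] V) = W₀ := by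
    rw [← hx, ← map_mul_apply, inv_mul_cancel, map_one]
    exact Submodule.map_id _
  rw [map_mul_apply, map_mul_apply, hx, h1, h2]

end CForm

/-- `Sp₈(2)` -/
theorem ch_sp8 : ∃ (c d : ℕ) (χ₁ χ₂ : (CForm.spF (ZMod 2) 4).iso → ℂ),
    IsIrrCharacter (CForm.spF (ZMod 2) 4).iso χ₁ ∧ IsIrrCharacter (CForm.spF (ZMod 2) 4).iso χ₂ ∧
      χ₁ 1 = ((2 ^ c * d : ℕ) : ℂ) ∧ χ₂ 1 = (d : ℂ) ∧ (2 ^ c + 1) * d = 5355 := by
  obtain ⟨e, f, j, h⟩ := CForm.frm_sp (K := ZMod 2) (k := 2) (n := 2) (m := 4) rfl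
  have hU : Nat.card (CForm.Us (CForm.spF (ZMod 2) 4) e) = 2 ^ 11 := by
    rw [h.card_Us_sp (fun v => (CForm.spF (ZMod 2) 4).alt v rfl) (fun x => rfl) (fun x => rfl)]
    rw [Nat.card_eq_fintype_card]
    simp
  obtain ⟨c, d, χ₁, χ₂, h1, h2, h3, h4, h5, h6, h7⟩ := h.exists_two rfl (by norm_num) CForm.ε_two
    (sgnGL_iota _) sgnGL_cusp (fun A => ⟨((sgM (A : Matrix (Fin 2) (Fin 2) (ZMod 2)) : ℤ) : ℚ), by
      rw [sgnGL_val]; push_cast; rfl⟩) (ψ₀ := 1) Core.isIrr_one (n₀ := 1) (by simp) (fun g => ⟨1, by simp⟩)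
      Nat.prime_two hU
    (fun pr _ _ W' hW' k1 k2 => CForm.van_const (by norm_num) (CForm.cfun_cl _) sgnGL_cusp (fun _ => rfl) h.mem_Om hW'
      k1 k2)
  refine ⟨c, d, χ₁, χ₂, h1, h2, h3, h4, ?_⟩
  rw [h5]
  have h8 := (CForm.spF (ZMod 2) 4).card_iso_eq h.mem_Om
  rw [h.card_par rfl, hU, card_GL22, card_spF, card_spF, Nat.card_zmod] at h8
  obtain ⟨n, hn⟩ : ∃ n, n = Nat.card ((CForm.spF (ZMod 2) 4).Om 2) := ⟨_, rfl⟩
  rw [← hn] at h8 ⊢
  norm_num [Finset.prod_range_succ] at h8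
  omega

/-- **`PSp₈(2)`** -/
theorem sp8_two (K : Type u) [Field K] [Finite K] (hK : Nat.card K = 2) : ∃ d, 14 ∣ d ∧ Ch (PSp 4 K) d := by
  obtain ⟨c, d, χ₁, χ₂, h1, -, h3, -, h5⟩ := ch_sp8
  refine ⟨2 ^ c * d, ?_, psp_two K hK 4 h1 h3⟩
  have h7 : 7 ∣ d := by
    have h6 : 7 ∣ (2 ^ c + 1) * d := by rw [h5]; norm_num
    refine (Nat.Prime.dvd_mul (by norm_num)).1 h6 |>.resolve_left fun h8 => ?_
    have h9 : ∀ n : ℕ, ¬ 7 ∣ 2 ^ n + 1 := by
      intro n
      have h10 : 2 ^ n % 7 = 1 ∨ 2 ^ n % 7 = 2 ∨ 2 ^ n % 7 = 4 := by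
        induction n with
        | zero => left; rfl
        | succ n ih => rw [pow_succ]; (clear * - ih; solve | lia | omega)
      omega
    exact h9 c h8
  have h2 : 2 ∣ 2 ^ c := by
    rcases Nat.eq_zero_or_pos c with rfl | h0
    · omega
    · exact dvd_pow_self 2 h0.ne'
  exact Nat.mul_dvd_mul h2 h7

end Cfsg.Agent.H477.HC
end

-- part: H477/HC/N10
section
/-!
# `Ω⁻₈(2)` : a character of degree divisible by `10` (hub H5, helper477)
-/

set_option autoImplicit false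

open scoped ComplexConjugate
open Cfsg

namespace Cfsg.Agent.H477.HC

open Cfsg.Agent.OddOrderCharacters.Clifford Cfsg.Agent.Characters MulAction Module Cfsg.Agent.H53.HC
open Cfsg.Agent.H749.Two Cfsg.Agent.ClassicalGeometry.Reflection Cfsg.Agent.ClassicalGeometry.OrthDickson

universe u v w x

theorem cnt3 : ∀ a b : ZMod 2, (∀ z₁ z₂ : ZMod 2, z₁ ^ 2 + a * z₁ * z₂ + b * z₂ ^ 2 = 0 → z₁ = 0 ∧ z₂ = 0) →
    ∀ x : (Fin 1 ⊕ Fin 1) ⊕ Fin 2 → ZMod 2, quadFormMinus 1 (ZMod 2) a b x = 1 →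
    (Finset.univ.filter (fun v : (Fin 1 ⊕ Fin 1) ⊕ Fin 2 → ZMod 2 => v ≠ 0 ∧ quadFormMinus 1 (ZMod 2) a b v = 0 ∧
      quadFormMinus 1 (ZMod 2) a b (v + x) - quadFormMinus 1 (ZMod 2) a b v - quadFormMinus 1 (ZMod 2) a b x = 0)).card = 3 := by
  decide +kernel

theorem CForm.IsRefl.fix_iff {V : Type v} [AddCommGroup V] [Module (ZMod 2) V] {F : CForm (ZMod 2) V} {r : F.iso} {n : V}
    (hr : F.IsRefl r n) {v : V} (h0 : v ≠ 0) (hv : F.Sing v) : r • F.pt v h0 hv = F.pt v h0 hv ↔ F.B v n = 0 := by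
  have hn0 : n ≠ 0 := by
    rintro rfl
    have := hr.1
    rw [F.Q_zero] at this
    exact absurd this (by decide)
  rw [CForm.smul_pt, CForm.pt_eq_iff]
  constructor
  · rintro ⟨c, hc, h3⟩
    rw [CForm.eq_one2 c hc, one_smul, hr.2] at h3
    exact (smul_eq_zero.1 (add_eq_left.1 h3)).resolve_right hn0
  · intro h
    exact ⟨1, one_ne_zero, by rw [hr.2, h, zero_smul, add_zero, one_smul]⟩

theorem CForm.IsRefl.sq {V : Type v} [AddCommGroup V] [Module (ZMod 2) V] {F : CForm (ZMod 2) V} {r : F.iso} {n : V}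
    (hr : F.IsRefl r n) (halt : ∀ v, F.B v v = 0) : r * r = 1 := by
  apply Subtype.ext
  apply LinearEquiv.ext
  intro v
  change ((r * r : F.iso) : V ≃ₗ[ZMod 2] V) v = v
  have e1 := hr.2 v
  rw [CForm.mul_apply', e1, map_add, map_smul, e1, hr.2 n, halt, zero_smul, add_zero,
    add_assoc, ← two_smul (ZMod 2), show (2 : ZMod 2) = 0 from rfl, zero_smul, add_zero]

section psi5

variable (a b : ZMod 2) (hab : ∀ z₁ z₂ : ZMod 2, z₁ ^ 2 + a * z₁ * z₂ + b * z₂ ^ 2 = 0 → z₁ = 0 ∧ z₂ = 0)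

theorem nf_refl (r : (CForm.minusF (ZMod 2) 1 a b hab).iso) (n : (Fin 1 ⊕ Fin 1) ⊕ Fin 2 → ZMod 2)
    (hr : (CForm.minusF (ZMod 2) 1 a b hab).IsRefl r n) :
    Cfsg.Agent.H621.AltChar.nf (CForm.minusF (ZMod 2) 1 a b hab).Pt r = 3 := by
  have h1 := cnt3 a b hab n hr.1
  have hB : ∀ v, (CForm.minusF (ZMod 2) 1 a b hab).B v n = quadFormMinus 1 (ZMod 2) a b (v + n) -
      quadFormMinus 1 (ZMod 2) a b v - quadFormMinus 1 (ZMod 2) a b n := fun v => minus_hB (ZMod 2) 1 a b hab v n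
  unfold Cfsg.Agent.H621.AltChar.nf
  rw [← h1, ← Fintype.card_subtype, ← Nat.card_eq_fintype_card]
  symm
  refine Nat.card_congr (Equiv.ofBijective (fun v => ⟨(CForm.minusF (ZMod 2) 1 a b hab).pt v.1 v.2.1
    ⟨v.2.2.1, (CForm.minusF (ZMod 2) 1 a b hab).alt _ v.2.2.1⟩, ?_⟩) ⟨?_, ?_⟩)
  · exact (hr.fix_iff _ _).2 (by rw [hB]; exact v.2.2.2)
  · rintro ⟨v, hv⟩ ⟨v', hv'⟩ he
    obtain ⟨c, hc, h3⟩ := (CForm.pt_eq_iff (CForm.minusF (ZMod 2) 1 a b hab) (h0 := hv.1) (h0' := hv'.1)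
      (hv := ⟨hv.2.1, (CForm.minusF (ZMod 2) 1 a b hab).alt _ hv.2.1⟩)
      (hw := ⟨hv'.2.1, (CForm.minusF (ZMod 2) 1 a b hab).alt _ hv'.2.1⟩)).1 (congrArg Subtype.val he)
    apply Subtype.ext
    rw [CForm.eq_one2 c hc, one_smul] at h3
    exact h3
  · rintro ⟨y, hy⟩
    obtain ⟨v, hv0, hv, rfl⟩ := CForm.exists_pt _ y
    have h5 : (CForm.minusF (ZMod 2) 1 a b hab).B v n = 0 := (hr.fix_iff hv0 hv).1 hy
    exact ⟨⟨v, hv0, hv.1, by rw [← hB]; exact h5⟩, rfl⟩

/-- the character of degree `5` of `O⁻₄(2)` -/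
theorem exists_psi5' : ∃ ψ : (CForm.minusF (ZMod 2) 1 a b hab).iso → ℂ,
    IsIrrCharacter (CForm.minusF (ZMod 2) 1 a b hab).iso ψ ∧ ψ 1 = ((5 : ℕ) : ℂ) ∧ (∀ g, ∃ q : ℚ, ψ g = q) ∧
    ∀ r n, (CForm.minusF (ZMod 2) 1 a b hab).IsRefl r n → ψ r = 1 := by
  classical
  have : Finite (CForm.minusF (ZMod 2) 1 a b hab).Pt :=
    inferInstanceAs (Finite {W : Submodule (ZMod 2) ((Fin 1 ⊕ Fin 1) ⊕ Fin 2 → ZMod 2) //
      W ∈ (CForm.minusF (ZMod 2) 1 a b hab).Om 1})
  have := finite_iso (CForm.minusF (ZMod 2) 1 a b hab)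
  let _ : Fintype (CForm.minusF (ZMod 2) 1 a b hab).iso := Fintype.ofFinite _
  have h1 := Cfsg.Agent.H621.AltChar.irr_a (CForm.minusF (ZMod 2) 1 a b hab).iso (CForm.minusF (ZMod 2) 1 a b hab).Pt
    (card_pt5 a b hab).ge (multiTrans (perm_surj a b hab) 4)
  refine ⟨_, h1, ?_, fun g => ⟨(((Cfsg.Agent.H621.AltChar.nf (CForm.minusF (ZMod 2) 1 a b hab).Pt g : ℚ) ^ 2 -
    3 * Cfsg.Agent.H621.AltChar.nf (CForm.minusF (ZMod 2) 1 a b hab).Pt g +
    Cfsg.Agent.H621.AltChar.nu (CForm.minusF (ZMod 2) 1 a b hab).Pt g) / 2), by push_cast; rfl⟩, fun r n hr => ?_⟩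
  · rw [Cfsg.Agent.H621.AltChar.nf_one, Cfsg.Agent.H621.AltChar.nu_one, card_pt5]
    norm_num
  · have h2 := Cfsg.Agent.H621.AltChar.nf_mul_self (Ω := (CForm.minusF (ZMod 2) 1 a b hab).Pt) r
    have h3 : r * r = 1 :=
      hr.sq (CForm.alt_of_hB (F := CForm.minusF (ZMod 2) 1 a b hab) (minus_hB (ZMod 2) 1 a b hab))
    rw [h3, Cfsg.Agent.H621.AltChar.nf_one, card_pt5, nf_refl a b hab r n hr] at h2
    have h4 : Cfsg.Agent.H621.AltChar.nu (CForm.minusF (ZMod 2) 1 a b hab).Pt r = 2 := by omega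
    change ((Cfsg.Agent.H621.AltChar.nf (CForm.minusF (ZMod 2) 1 a b hab).Pt r : ℂ) ^ 2 -
      3 * Cfsg.Agent.H621.AltChar.nf (CForm.minusF (ZMod 2) 1 a b hab).Pt r +
      Cfsg.Agent.H621.AltChar.nu (CForm.minusF (ZMod 2) 1 a b hab).Pt r) / 2 = 1
    rw [h4, nf_refl a b hab r n hr]
    norm_num

end psi5

/-- the reflections as isometries -/
theorem exists_refl {ι : Type} [Fintype ι] [DecidableEq ι] {q : (ι → ZMod 2) → ZMod 2} (Q : QuadraticForm (ZMod 2) (ι → ZMod 2))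
    (e : ⇑Q = q) (hnd' : Cfsg.Agent.LieClassical.OrthCore.Nondeg Q) (h4 : Fintype.card ι ≠ 4) {n : ι → ZMod 2} (hn : q n = 1) :
    ∃ r : isometryGroup (ZMod 2) q, r ∉ commutator (isometryGroup (ZMod 2) q) ∧
      ∀ v, ((r : GL ι (ZMod 2)) : Matrix ι ι (ZMod 2)).mulVec v = v + (q (v + n) - q v - q n) • n := by
  subst e
  have hnd : (QuadraticMap.polarBilin Q).Nondegenerate := ⟨hnd', fun y hy => hnd' y fun x => by
    rw [QuadraticMap.polar_comm]; exact hy x⟩
  have hn' : Q n ≠ 0 := by rw [hn]; exact one_ne_zero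
  refine ⟨reflIso Q n hn', refl_notMem_commutator Q hnd (Or.inr h4) n hn', fun v => ?_⟩
  have e1 : Q (v + n) - Q v - Q n = QuadraticMap.polar Q v n := rfl
  rw [coe_reflIso, reflectionMatrix_mulVec, e1, hn, inv_one, one_mul, QuadraticMap.polar_comm, sub_eq_add_neg,
    ← neg_smul]
  congr 2
  exact (by decide : ∀ x : ZMod 2, -x = x) _

section main

variable (a b : ZMod 2) (hab : ∀ z₁ z₂ : ZMod 2, z₁ ^ 2 + a * z₁ * z₂ + b * z₂ ^ 2 = 0 → z₁ = 0 ∧ z₂ = 0)

/-- `O⁻₈(2)` -/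
theorem ch_o8m' : ∃ (c d : ℕ) (χ₁ : (CForm.minusF (ZMod 2) 3 a b hab).iso → ℂ),
    IsIrrCharacter (CForm.minusF (ZMod 2) 3 a b hab).iso χ₁ ∧ χ₁ 1 = ((2 ^ c * d : ℕ) : ℂ) ∧ (2 ^ c + 1) * d = 5355 ∧
    c ≤ 9 ∧ (c ≠ 0 → Even (c + 9)) ∧
    ∃ n, (CForm.minusF (ZMod 2) 3 a b hab).Q n = 1 ∧
      ∀ r, (CForm.minusF (ZMod 2) 3 a b hab).IsRefl r n → χ₁ r ≠ 0 := by
  classical
  obtain ⟨e, f, j, h⟩ := CForm.frm_minus (K := ZMod 2) hab (k := 2) (n := 1) (m := 3) rfl
  obtain ⟨ψ, hψ, hψ1, hψq, hψr⟩ := exists_psi5' a b hab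
  have halt := CForm.alt_of_hB (F := CForm.minusF (ZMod 2) 3 a b hab) (minus_hB (ZMod 2) 3 a b hab)
  have hU : Nat.card (CForm.Us (CForm.minusF (ZMod 2) 3 a b hab) e) = 2 ^ 9 := by
    rw [h.card_Us_orth halt (fun x => rfl)]
    rw [Nat.card_eq_fintype_card]
    simp
  have hno : ∀ W' ∈ (CForm.minusF (ZMod 2) 3 a b hab).Om 2, Submodule.span (ZMod 2) (Set.range e) ≤
      (CForm.minusF (ZMod 2) 3 a b hab).perp W' → Submodule.span (ZMod 2) (Set.range e) ⊓ W' = ⊥ → False :=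
    no_disj (m := 3) (fun W hW => minus_witt (ZMod 2) a b hab 3 W hW) (by norm_num) h.mem_Om
  have := finite_iso (CForm.minusF (ZMod 2) 3 a b hab)
  let _ : Fintype (CForm.minusF (ZMod 2) 3 a b hab).iso := Fintype.ofFinite _
  let _ : Fintype (stabW (CForm.minusF (ZMod 2) 3 a b hab).iso.subtype (Submodule.span (ZMod 2) (Set.range e))) :=
    Fintype.ofFinite _
  let _ : Fintype (CForm.Us (CForm.minusF (ZMod 2) 3 a b hab) e) := Fintype.ofFinite _
  obtain ⟨w, hw1, hw2, hw3⟩ := h.exists_w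
  have hcmp := h.cmp rfl
  obtain ⟨pr, hρ1, hρ2, hρ3⟩ := hcmp.exists_rho
  have hsurj : Function.Surjective pr := fun b => by
    obtain ⟨g, hg, -⟩ := hρ3 1 b
    exact ⟨g, hg⟩
  obtain ⟨m, ρ₀, hρ₀, rfl⟩ := id hψ
  let bb : Basis (Fin 2) (ZMod 2) (Submodule.span (ZMod 2) (Set.range e)) := finBasisOfFinrankEq (ZMod 2) _ h.mem_Om.2
  obtain ⟨-, A, c, d, χ₁, h88⟩ := h.two_data rfl (by norm_num) CForm.ε_two
    hw1 hw2 hw3 bb (sgnGL_iota _) sgnGL_cusp (fun A => ⟨((sgM (A : Matrix (Fin 2) (Fin 2) (ZMod 2)) : ℤ) : ℚ), by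
      rw [sgnGL_val]; push_cast; rfl⟩) hρ1 hρ2 hsurj ρ₀ hψ hψ1 hψq
    (fun W' hW' k1 k2 => (hno W' hW' k1 k2).elim) Nat.prime_two hU
  revert h88; rintro ⟨χ₂, h88⟩
  revert h88; rintro ⟨⟨h1, h2, hs, h3, h4, h5, h6, h7⟩, h88⟩
  revert h88; rintro ⟨-, -, -, hx⟩
  refine ⟨c, d, χ₁, h1, h3, ?_, h6, h7, ?_⟩
  · rw [h5]
    have h8 := (CForm.minusF (ZMod 2) 3 a b hab).card_iso_eq h.mem_Om
    rw [h.card_par rfl, hU, card_GL22, card_o4, card_minusF, Nat.card_zmod] at h8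
    obtain ⟨n, hn⟩ : ∃ n, n = Nat.card ((CForm.minusF (ZMod 2) 3 a b hab).Om 2) := ⟨_, rfl⟩
    rw [← hn] at h8 ⊢
    norm_num [Finset.prod_range_succ] at h8
    omega
  · -- a reflection
    let x₀ : (Fin 1 ⊕ Fin 1) ⊕ Fin 2 → ZMod 2 := Sum.elim (fun _ => 0) ![1, 0]
    have hx₀ : quadFormMinus 1 (ZMod 2) a b x₀ = 1 := by simp [quadFormMinus, x₀]
    refine ⟨j x₀, by rw [h.hjQ]; exact hx₀, fun r hr h0 => ?_⟩
    have h8 := h.ind_refl rfl bb (c := sgnGL) hρ1 ρ₀ hψr hr (fun i => (CForm.minusF (ZMod 2) 3 a b hab).B_eq_zero (h.hje _ _))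
    have h9 := congrFun hs r
    have h10 := hx r (fun g => h.refl_big le_rfl hw1 hr g)
    rw [h0] at h10
    have h11 : χ₂ r = 0 := by
      rcases mul_eq_zero.1 h10.symm with h12 | h12
      · exact absurd h12 (pow_ne_zero _ (by norm_num))
      · exact h12
    apply h8
    rw [← h9, Pi.add_apply, h0, h11, add_zero]

include hab in
/-- **`Ω⁻₈(2)` has an irreducible character of degree divisible by `10`** -/
theorem o8m_zmod' : ∃ d, 10 ∣ d ∧ Ch (POmega (ZMod 2) (quadFormMinus 3 (ZMod 2) a b)) d := by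
  obtain ⟨c, d, χ₁, h1, h3, h5, h6, h7, n, hn, hr⟩ := ch_o8m' a b hab
  obtain ⟨h8, h9⟩ := arith_o8m h5 h6 h7
  have : Fact (Nat.Prime 2) := ⟨Nat.prime_two⟩
  have : CharP (ZMod 2) 2 := ZMod.charP 2
  obtain ⟨r, hr1, hr2⟩ := exists_refl (Cfsg.Agent.LieClassical.OrthForms.minusForm 3 (ZMod 2) a b)
    (Cfsg.Agent.LieClassical.OrthForms.coe_minusForm 3 (ZMod 2) a b)
    (Cfsg.Agent.LieClassical.OrthForms.nondeg_minusForm 3 (ZMod 2) a b hab) (by simp) hn
  have hidx : (Omega (ZMod 2) (quadFormMinus 3 (ZMod 2) a b)).index = 2 := by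
    have h10 := minus_idx_mul (ZMod 2) a b hab (l := 3) le_rfl
    rw [Nat.card_zmod] at h10
    have h11 : Nat.gcd 4 (2 ^ (3 + 1) + 1) = 1 := by decide
    rw [h11] at h10
    have h12 : (Omega (ZMod 2) (quadFormMinus 3 (ZMod 2) a b)).index ∣ 2 := Dvd.intro _ h10
    rcases (Nat.dvd_prime Nat.prime_two).1 h12 with h13 | h13
    · rw [Subgroup.index_eq_one] at h13
      refine absurd ?_ hr1
      have h14 := Subgroup.mem_top r
      rw [← h13] at h14
      exact h14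
    · exact h13
  let E := isoQuad (CForm.minusF (ZMod 2) 3 a b hab) (minus_hB (ZMod 2) 3 a b hab)
  have hχ' : IsIrrCharacter _ (χ₁ ∘ E.toMonoidHom) := Core.isIrr_comp _ E.surjective h1
  have hne : (χ₁ ∘ E.toMonoidHom) r ≠ 0 := by
    refine hr (E r) ⟨hn, fun v => ?_⟩
    have e1 : (CForm.minusF (ZMod 2) 3 a b hab).B v n = quadFormMinus 3 (ZMod 2) a b (v + n) -
      quadFormMinus 3 (ZMod 2) a b v - quadFormMinus 3 (ZMod 2) a b n := minus_hB (ZMod 2) 3 a b hab v n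
    rw [e1]
    exact hr2 v
  have hθ := irr_res_of_ne hidx hχ' hr1 hne
  obtain ⟨η, hη, hη'⟩ := exists_quot (Subgroup.center (Omega (ZMod 2) (quadFormMinus 3 (ZMod 2) a b))) hθ (fun z hz => by
    have h10 : omMat z = 1 := minus_cen (ZMod 2) (p := 2) a b hab z hz
    have h11 : z = 1 := Subtype.ext (Subtype.ext (Units.ext h10))
    rw [h11])
  refine ⟨2 ^ c * d, ?_, η, hη, ?_⟩
  · have h10 : 5 ∣ d := Dvd.dvd.trans (by norm_num) h8
    have h11 : 2 ∣ 2 ^ c := by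
      rcases Nat.eq_zero_or_pos c with rfl | h0
      · omega
      · exact dvd_pow_self 2 h0.ne'
    exact Nat.mul_dvd_mul h11 h10
  · have := hη' 1
    rw [QuotientGroup.mk_one] at this
    rw [this]
    change χ₁ (E 1) = _
    rw [map_one, h3]

end main

seal _root_.Finset.sum _root_.dotProduct in
/-- **`Ω⁻₈(2)` has an irreducible character of degree divisible by `10`** -/
theorem o8m_ten {K : Type u} [Field K] [Finite K] (hK : Nat.card K = 2) {a b : K}
    (hab : ∀ z₁ z₂ : K, z₁ ^ 2 + a * z₁ * z₂ + b * z₂ ^ 2 = 0 → z₁ = 0 ∧ z₂ = 0) :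
    ∃ d, 10 ∣ d ∧ Ch (POmega K (quadFormMinus 3 K a b)) d := by
  classical
  let _ := Fintype.ofFinite K
  have hF : Fintype.card K = 2 := by rw [← Nat.card_eq_fintype_card, hK]
  let σ : K ≃+* ZMod 2 := FiniteField.ringEquivOfCardEq (by rw [hF, ZMod.card 2])
  have hab' : ∀ z₁ z₂ : ZMod 2, z₁ ^ 2 + σ a * z₁ * z₂ + σ b * z₂ ^ 2 = 0 → z₁ = 0 ∧ z₂ = 0 := by
    intro z₁ z₂ h
    have h1 := hab (σ.symm z₁) (σ.symm z₂) (σ.injective (by
      rw [map_zero, map_add, map_add, map_mul, map_mul, map_mul, map_pow, map_pow, RingEquiv.apply_symm_apply,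
        RingEquiv.apply_symm_apply]
      exact h))
    exact ⟨(map_eq_zero_iff σ.symm σ.symm.injective).1 h1.1, (map_eq_zero_iff σ.symm σ.symm.injective).1 h1.2⟩
  obtain ⟨d, h1, χ, hχ, hχ1⟩ := o8m_zmod' (σ a) (σ b) hab'
  obtain ⟨E⟩ := Cfsg.Agent.UGT.U2.Rec.Congr.nonempty_POmega σ (Q := quadFormMinus 3 K a b)
    (Q' := quadFormMinus 3 (ZMod 2) (σ a) (σ b)) (quadFormMinus_map σ 3 a b)
  refine ⟨d, h1, χ ∘ E.toMonoidHom, Core.isIrr_comp E.toMonoidHom E.surjective hχ, ?_⟩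
  change χ ((E 1 :)) = _
  rw [map_one, hχ1]

end Cfsg.Agent.H477.HC
end

-- part: H477/HC/N11
section
/-!
# The parameter modulo `3`, for `k = 2` over `𝔽₂` (hub H5, helper477)

`Frm.A_ne_zero` : `A ≠ 0` if `3 ∤ n₀`; `Ω⁺₁₀(2)` : a character of degree divisible by `14`.
-/

set_option autoImplicit false
set_option linter.unusedSimpArgs false
set_option linter.unusedSectionVars false

open scoped ComplexConjugate
open Cfsg

namespace Cfsg.Agent.H477.HC

open Cfsg.Agent.OddOrderCharacters.Clifford Cfsg.Agent.Characters MulAction Module Cfsg.Agent.H53.HC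
open Cfsg.Agent.H749.Two

universe u v w x

namespace CForm

section

variable {V : Type v} [AddCommGroup V] [Module (ZMod 2) V] [FiniteDimensional (ZMod 2) V] [Finite V]
  {F : CForm (ZMod 2) V} {X : Type w} [AddCommGroup X] [Module (ZMod 2) X] {F' : CForm (ZMod 2) X} {e f : Fin 2 → V}
  {j : X →ₗ[ZMod 2] V}

theorem add_self_V (v : V) : v + v = 0 := by
  rw [← two_smul (ZMod 2), show (2 : ZMod 2) = 0 from rfl, zero_smul]

theorem Frm.ef00 (h : Frm F F' e f j) : F.B (e 0) (f 0) = 1 := by rw [h.hef, if_pos rfl]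
theorem Frm.ef11 (h : Frm F F' e f j) : F.B (e 1) (f 1) = 1 := by rw [h.hef, if_pos rfl]
theorem Frm.ef01 (h : Frm F F' e f j) : F.B (e 0) (f 1) = 0 := by rw [h.hef, if_neg (by decide)]
theorem Frm.ef10 (h : Frm F F' e f j) : F.B (e 1) (f 0) = 0 := by rw [h.hef, if_neg (by decide)]
theorem Frm.fe00 (h : Frm F F' e f j) : F.B (f 0) (e 0) = 1 := by rw [h.hfe, if_pos rfl, ε_two]
theorem Frm.fe11 (h : Frm F F' e f j) : F.B (f 1) (e 1) = 1 := by rw [h.hfe, if_pos rfl, ε_two]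
theorem Frm.fe01 (h : Frm F F' e f j) : F.B (f 0) (e 1) = 0 := by rw [h.hfe, if_neg (by decide)]
theorem Frm.fe10 (h : Frm F F' e f j) : F.B (f 1) (e 0) = 0 := by rw [h.hfe, if_neg (by decide)]

theorem one_add_one2 : (1 : ZMod 2) + 1 = 0 := by decide

/-- the long root element -/
theorem Frm.exists_z (h : Frm F F' e f j) :
    ∃ z : F.iso, z ∈ Us F e ∧ (z : V ≃ₗ[ZMod 2] V) (f 0) = f 0 + e 1 ∧ (z : V ≃ₗ[ZMod 2] V) (f 1) = f 1 + e 0 ∧
      ∀ v, (∀ i, F.B v (e i) = 0) → (z : V ≃ₗ[ZMod 2] V) v = v := by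
  obtain ⟨u, h1, h2, h3⟩ := h.exists_unip (y := ![f 0 + e 1, f 1 + e 0])
    (by
      intro i l
      (revert i l; simp only [F.B_add_right, h.hee, h.ef00, h.ef01, h.ef10, h.ef11, _root_.Fin.forall_fin_succ, Fin.isValue, _root_.Matrix.cons_val_zero, _root_.add_zero, _root_.Matrix.cons_val_succ, _root_.Matrix.cons_val_fin_one, _root_.Fin.succ_zero_eq_one, _root_.IsEmpty.forall_iff, _root_.and_true, ↓reduceIte, _root_.zero_ne_one, _root_.and_self, _root_.Fin.succ_ne_zero]))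
    (by
      intro i l
      (revert i l; simp only [F.B_add_right, F.B_add_left, h.hee, h.hff, h.ef00, h.ef01, h.ef10, h.ef11, h.fe00, h.fe01, h.fe10, h.fe11, one_add_one2, _root_.Fin.forall_fin_succ, Fin.isValue, _root_.Matrix.cons_val_zero, _root_.Matrix.cons_val_succ, _root_.Matrix.cons_val_fin_one, _root_.forall_const, _root_.add_zero, _root_.zero_add, _root_.and_self, _root_.implies_true]))
    (by
      intro i
      fin_cases i <;> simp [F.Q_add, h.hQe, h.hQf, h.fe01, h.fe10, F.T_zero])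
  have h4 : ∀ v, (∀ i, F.B v (e i) = 0) → (u : V ≃ₗ[ZMod 2] V) v = v := by
    intro v hv
    rw [h3 v hv, Fin.sum_univ_two]
    simp [F.B_sub_right, F.B_add_right, hv]
  refine ⟨u, ⟨h1, fun v hv => by rw [h4 v hv, sub_self]; exact Submodule.zero_mem _⟩, h2 0, h2 1, h4⟩

/-- a second frame on the same subspaces -/
theorem Frm.frame' (h : Frm F F' e f j) : Frm F F' ![e 0, e 0 + e 1] ![f 0 + f 1, f 1] j where
  hee := by
    intro i l
    (revert i l; simp only [F.B_add_right, F.B_add_left, h.hee, _root_.Fin.forall_fin_succ, _root_.Nat.succ_eq_add_one, Nat.reduceAdd, Fin.isValue, _root_.Matrix.cons_val_zero, _root_.Matrix.cons_val_succ, _root_.Matrix.cons_val_fin_one, _root_.forall_const, _root_.add_zero, _root_.and_self, _root_.implies_true])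
  hff := by
    intro i l
    (revert i l; simp only [F.B_add_right, F.B_add_left, h.hff, _root_.Fin.forall_fin_succ, _root_.Nat.succ_eq_add_one, Nat.reduceAdd, Fin.isValue, _root_.Matrix.cons_val_zero, _root_.Matrix.cons_val_succ, _root_.Matrix.cons_val_fin_one, _root_.forall_const, _root_.add_zero, _root_.and_self, _root_.implies_true])
  hef := by
    intro i l
    fin_cases i <;> fin_cases l <;>
      simp [F.B_add_right, F.B_add_left, h.ef00, h.ef01, h.ef10, h.ef11, one_add_one2]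
  hQe := by
    intro i
    fin_cases i <;> simp [F.Q_add, h.hQe, h.hee, F.T_zero]
  hQf := by
    intro i
    fin_cases i <;> simp [F.Q_add, h.hQf, h.hff, F.T_zero]
  hjB := h.hjB
  hjQ := h.hjQ
  hje := by
    intro x i
    fin_cases i <;> simp [F.B_add_right, h.hje]
  hjf := by
    intro x i
    fin_cases i <;> simp [F.B_add_right, h.hjf]
  hdim := h.hdim

/-- the element of order three -/
theorem Frm.exists_t (h : Frm F F' e f j) {w : F.iso}
    (hw1 : ∀ i, (w : V ≃ₗ[ZMod 2] V) (e i) = f i) (hw2 : ∀ i, (w : V ≃ₗ[ZMod 2] V) (f i) = F.ε • e i)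
    (hw3 : ∀ v, (∀ i, F.B v (e i) = 0) → (∀ i, F.B v (f i) = 0) → (w : V ≃ₗ[ZMod 2] V) v = v) :
    ∃ t : F.iso, t * w = w * t⁻¹ ∧ t⁻¹ * w = w * t ∧ (t : V ≃ₗ[ZMod 2] V) (e 0) = e 1 ∧
      (t : V ≃ₗ[ZMod 2] V) (e 1) = e 0 + e 1 ∧ (t : V ≃ₗ[ZMod 2] V) (f 0) = f 0 + f 1 ∧
      (t : V ≃ₗ[ZMod 2] V) (f 1) = f 0 ∧
      (∀ v, (∀ i, F.B v (e i) = 0) → (∀ i, F.B v (f i) = 0) → (t : V ≃ₗ[ZMod 2] V) v = v) ∧ t ^ 3 = 1 := by
  have hww := h.w_sq ε_two hw1 hw2 hw3
  obtain ⟨w', a1, a2, a3⟩ := h.frame'.exists_w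
  have hww' := h.frame'.w_sq ε_two a1 a2 a3
  have b1 : (w' : V ≃ₗ[ZMod 2] V) (e 0) = f 0 + f 1 := a1 0
  have b2 : (w' : V ≃ₗ[ZMod 2] V) (e 0 + e 1) = f 1 := a1 1
  have b3 : (w' : V ≃ₗ[ZMod 2] V) (f 0 + f 1) = e 0 := by
    have := a2 0
    rw [ε_two, one_smul] at this
    exact this
  have b4 : (w' : V ≃ₗ[ZMod 2] V) (f 1) = e 0 + e 1 := by
    have := a2 1
    rw [ε_two, one_smul] at this
    exact this
  have b5 : (w' : V ≃ₗ[ZMod 2] V) (e 1) = f 0 := by
    have e1 : e 1 = (e 0 + e 1) + e 0 := by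
      rw [add_comm (e 0) (e 1), add_assoc, add_self_V, add_zero]
    rw [e1, map_add, b2, b1, add_comm (f 0) (f 1), ← add_assoc, add_self_V, zero_add]
  have b6 : (w' : V ≃ₗ[ZMod 2] V) (f 0) = e 1 := by
    have e1 : f 0 = (f 0 + f 1) + f 1 := by rw [add_assoc, add_self_V, add_zero]
    rw [e1, map_add, b3, b4, ← add_assoc, add_self_V, zero_add]
  have b7 : ∀ v, (∀ i, F.B v (e i) = 0) → (∀ i, F.B v (f i) = 0) → (w' : V ≃ₗ[ZMod 2] V) v = v := by
    intro v h1 h2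
    refine a3 v (fun i => ?_) (fun i => ?_)
    · fin_cases i <;> simp [F.B_add_right, h1]
    · fin_cases i <;> simp [F.B_add_right, h2]
  have c1 : ((w' * w : F.iso) : V ≃ₗ[ZMod 2] V) (e 0) = e 1 := by rw [mul_apply', hw1, b6]
  have c2 : ((w' * w : F.iso) : V ≃ₗ[ZMod 2] V) (e 1) = e 0 + e 1 := by rw [mul_apply', hw1, b4]
  have c3 : ((w' * w : F.iso) : V ≃ₗ[ZMod 2] V) (f 0) = f 0 + f 1 := by
    rw [mul_apply', hw2, ε_two, one_smul, b1]
  have c4 : ((w' * w : F.iso) : V ≃ₗ[ZMod 2] V) (f 1) = f 0 := by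
    rw [mul_apply', hw2, ε_two, one_smul, b5]
  have c5 : ∀ v, (∀ i, F.B v (e i) = 0) → (∀ i, F.B v (f i) = 0) → ((w' * w : F.iso) : V ≃ₗ[ZMod 2] V) v = v := by
    intro v h1 h2
    rw [mul_apply', hw3 v h1 h2, b7 v h1 h2]
  have hinv : (w' * w)⁻¹ = w * w' := by
    rw [mul_inv_rev, inv_eq_of_mul_eq_one_left hww, inv_eq_of_mul_eq_one_left hww']
  refine ⟨w' * w, ?_, ?_, c1, c2, c3, c4, c5, ?_⟩
  · rw [hinv, mul_assoc, hww, mul_one, ← mul_assoc, hww, one_mul]
  · rw [hinv, mul_assoc]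
  · -- order three
    have d1 : ∀ v, (((w' * w) ^ 3 : F.iso) : V ≃ₗ[ZMod 2] V) v = ((w' * w : F.iso) : V ≃ₗ[ZMod 2] V)
        (((w' * w : F.iso) : V ≃ₗ[ZMod 2] V) (((w' * w : F.iso) : V ≃ₗ[ZMod 2] V) v)) := by
      intro v
      rw [pow_succ, pow_two, mul_apply', mul_apply']
    have d2 : ∀ i, (((w' * w) ^ 3 : F.iso) : V ≃ₗ[ZMod 2] V) (e i) = e i := by
      intro i
      rw [d1]
      fin_cases i
      · change ((w' * w : F.iso) : V ≃ₗ[ZMod 2] V) (((w' * w : F.iso) : V ≃ₗ[ZMod 2] V)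
          (((w' * w : F.iso) : V ≃ₗ[ZMod 2] V) (e 0))) = e 0
        rw [c1, c2, map_add, c1, c2, add_comm (e 0) (e 1), ← add_assoc, add_self_V, zero_add]
      · change ((w' * w : F.iso) : V ≃ₗ[ZMod 2] V) (((w' * w : F.iso) : V ≃ₗ[ZMod 2] V)
          (((w' * w : F.iso) : V ≃ₗ[ZMod 2] V) (e 1))) = e 1
        rw [c2, map_add, c1, c2, add_comm (e 0) (e 1), ← add_assoc, add_self_V, zero_add, c1]
    have d3 : ∀ i, (((w' * w) ^ 3 : F.iso) : V ≃ₗ[ZMod 2] V) (f i) = f i := by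
      intro i
      rw [d1]
      fin_cases i
      · change ((w' * w : F.iso) : V ≃ₗ[ZMod 2] V) (((w' * w : F.iso) : V ≃ₗ[ZMod 2] V)
          (((w' * w : F.iso) : V ≃ₗ[ZMod 2] V) (f 0))) = f 0
        rw [c3, map_add, c3, c4, add_comm (f 0) (f 1), add_assoc, add_self_V, add_zero, c4]
      · change ((w' * w : F.iso) : V ≃ₗ[ZMod 2] V) (((w' * w : F.iso) : V ≃ₗ[ZMod 2] V)
          (((w' * w : F.iso) : V ≃ₗ[ZMod 2] V) (f 1))) = f 1
        rw [c4, c3, map_add, c3, c4, add_comm (f 0) (f 1), add_assoc, add_self_V, add_zero]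
    refine h.Us_eq_one ⟨d2, fun v hv => ?_⟩ (fun i => by rw [d3]; exact Submodule.subset_span ⟨i, rfl⟩)
    -- `v = (∑ B v f e) + s`
    have d4 : ∀ s : V, (∀ i, F.B s (e i) = 0) → (∀ i, F.B s (f i) = 0) →
        (((w' * w) ^ 3 : F.iso) : V ≃ₗ[ZMod 2] V) s = s := by
      intro s h1 h2
      rw [d1, c5 s h1 h2, c5 s h1 h2, c5 s h1 h2]
    have d5 := d4 (v - ∑ i, F.B v (f i) • e i)
      (fun l => by
        rw [F.B_sub_left, B_sum_left, hv, zero_sub, neg_eq_zero]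
        exact Finset.sum_eq_zero fun i _ => by rw [h.hee, mul_zero])
      (fun l => by
        rw [F.B_sub_left, B_sum_left]
        simp only [h.hef]
        rw [sum_delta (fun i => F.B v (f i)) l, sub_self])
    have d6 : (((w' * w) ^ 3 : F.iso) : V ≃ₗ[ZMod 2] V) (∑ i, F.B v (f i) • e i) = ∑ i, F.B v (f i) • e i := by
      rw [map_sum]
      exact Finset.sum_congr rfl fun i _ => by rw [map_smul, d2]
    rw [map_sub, d6, sub_left_inj] at d5
    rw [d5, sub_self]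
    exact Submodule.zero_mem _

/-- the centralizer of `t` in the unipotent radical -/
theorem Frm.cent_t [FiniteDimensional (ZMod 2) X] (h : Frm F F' e f j)
    (hσ : F.σ = F'.σ) (hT : ∀ x, F.T x = x) {t : F.iso}
    (t1 : (t : V ≃ₗ[ZMod 2] V) (e 0) = e 1) (t2 : (t : V ≃ₗ[ZMod 2] V) (e 1) = e 0 + e 1)
    (t3 : (t : V ≃ₗ[ZMod 2] V) (f 0) = f 0 + f 1) (t4 : (t : V ≃ₗ[ZMod 2] V) (f 1) = f 0)
    (t5 : ∀ v, (∀ i, F.B v (e i) = 0) → (∀ i, F.B v (f i) = 0) → (t : V ≃ₗ[ZMod 2] V) v = v)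
    {z : F.iso} (hz : z ∈ Us F e) (z1 : (z : V ≃ₗ[ZMod 2] V) (f 0) = f 0 + e 1)
    (z2 : (z : V ≃ₗ[ZMod 2] V) (f 1) = f 1 + e 0) {u : F.iso} (hu : u ∈ Us F e) (htu : t * u = u * t) :
    u = 1 ∨ u = z := by
  obtain ⟨q, hq, hqj, hqW⟩ := (h.cmp hσ).exists_proj
  have hmem : ∀ i, (u : V ≃ₗ[ZMod 2] V) (f i) - f i ∈ F.perp (Submodule.span (ZMod 2) (Set.range e)) := by
    intro i w hw
    have h1 : F.B ((u : V ≃ₗ[ZMod 2] V) (f i) - f i) w = 0 := by
      rw [F.B_sub_left]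
      nth_rw 1 [← Us_span hu hw]
      rw [F.iso_B, sub_self]
    exact h1
  have hdec : ∀ i, ∃ w ∈ Submodule.span (ZMod 2) (Set.range e), ∃ x, (u : V ≃ₗ[ZMod 2] V) (f i) = f i + (w + j x) := by
    intro i
    obtain ⟨w, hw, x, hx⟩ := (h.cmp hσ).j2 _ (hmem i)
    exact ⟨w, hw, x, by rw [← hx]; abel⟩
  obtain ⟨w0, hw0, x0, e0⟩ := hdec 0
  obtain ⟨w1, hw1, x1, e1⟩ := hdec 1
  have htw : ∀ w ∈ Submodule.span (ZMod 2) (Set.range e), (t : V ≃ₗ[ZMod 2] V) w ∈ Submodule.span (ZMod 2) (Set.range e) := by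
    intro w hw
    refine par_mem ((mem_par e t).2 fun i => ?_) hw
    fin_cases i
    · change (t : V ≃ₗ[ZMod 2] V) (e 0) ∈ _
      rw [t1]; exact Submodule.subset_span ⟨1, rfl⟩
    · change (t : V ≃ₗ[ZMod 2] V) (e 1) ∈ _
      rw [t2]; exact Submodule.add_mem _ (Submodule.subset_span ⟨0, rfl⟩) (Submodule.subset_span ⟨1, rfl⟩)
  have htj : ∀ x, (t : V ≃ₗ[ZMod 2] V) (j x) = j x := fun x => t5 _ (h.hje x) (h.hjf x)
  have hcomm : ∀ v, (t : V ≃ₗ[ZMod 2] V) ((u : V ≃ₗ[ZMod 2] V) v) = (u : V ≃ₗ[ZMod 2] V) ((t : V ≃ₗ[ZMod 2] V) v) := by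
    intro v
    rw [← mul_apply', htu, mul_apply']
  -- the components in `X`
  have hx1 : x0 = x1 := by
    have h1 := hcomm (f 1)
    rw [t4, e0, e1, map_add, t4, map_add, htj] at h1
    have h2 := congrArg q (add_left_cancel h1)
    rw [map_add, map_add, hqj, hqj, hqW _ hw0, hqW _ (htw _ hw1), zero_add, zero_add] at h2
    exact h2.symm
  have hx0 : x1 = 0 := by
    have h1 := hcomm (f 0)
    rw [t3, map_add, e0, e1, map_add, t3, map_add, htj] at h1
    have h3 : f 0 + (w0 + j x0) + (f 1 + (w1 + j x1)) = f 0 + f 1 + ((w0 + j x0) + (w1 + j x1)) := by abel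
    rw [h3] at h1
    have h2 := congrArg q (add_left_cancel h1)
    rw [map_add, map_add, map_add, map_add, hqj, hqj, hqW _ hw0, hqW _ hw1, hqW _ (htw _ hw0), zero_add, zero_add] at h2
    exact (add_eq_left.1 h2.symm)
  rw [hx1, hx0, map_zero, add_zero] at e0
  rw [hx0, map_zero, add_zero] at e1
  obtain ⟨a, ha⟩ := (Submodule.mem_span_range_iff_exists_fun (ZMod 2)).1 hw0
  obtain ⟨b, hb⟩ := (Submodule.mem_span_range_iff_exists_fun (ZMod 2)).1 hw1
  rw [Fin.sum_univ_two] at ha hb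
  rw [← ha] at e0
  rw [← hb] at e1
  have q0 : a 0 = 0 := by
    have h1 : F.Q ((u : V ≃ₗ[ZMod 2] V) (f 0)) = F.Q (f 0) := F.iso_Q u _
    rw [e0, F.Q_add, h.hQf, hT, F.B_add_right, F.B_smul_right, F.B_smul_right, h.fe00, h.fe01, σ_two, σ_two, F.Q_add,
      F.Q_smul, F.Q_smul, h.hQe, h.hQe, hT, F.B_smul_left, F.B_smul_right, h.hee] at h1
    simpa using h1
  have q1 : b 1 = 0 := by
    have h1 : F.Q ((u : V ≃ₗ[ZMod 2] V) (f 1)) = F.Q (f 1) := F.iso_Q u _
    rw [e1, F.Q_add, h.hQf, hT, F.B_add_right, F.B_smul_right, F.B_smul_right, h.fe10, h.fe11, σ_two, σ_two, F.Q_add,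
      F.Q_smul, F.Q_smul, h.hQe, h.hQe, hT, F.B_smul_left, F.B_smul_right, h.hee] at h1
    simpa using h1
  rw [q0, zero_smul, zero_add] at e0
  rw [q1, zero_smul, add_zero] at e1
  have q2 : b 0 + a 1 = 0 := by
    have h1 : F.B ((u : V ≃ₗ[ZMod 2] V) (f 0)) ((u : V ≃ₗ[ZMod 2] V) (f 1)) = F.B (f 0) (f 1) := F.iso_B u _ _
    rw [e0, e1, F.B_add_left, F.B_add_right, F.B_add_right, F.B_smul_right, F.B_smul_right, F.B_smul_left,
      F.B_smul_left, h.hff, h.fe00, h.ef11, h.hee, σ_two] at h1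
    simpa only [_root_.Fin.isValue, _root_.mul_one, _root_.zero_add, _root_.MulZeroClass.mul_zero, _root_.add_zero] using h1
  have q3 : b 0 = a 1 := by
    have : ∀ x y : ZMod 2, x + y = 0 → x = y := by decide
    exact this _ _ q2
  rcases eq_or_ne (a 1) 0 with h0 | h0
  · left
    rw [h0, zero_smul, add_zero] at e0
    rw [q3, h0, zero_smul, add_zero] at e1
    refine h.Us_eq_one hu fun i => ?_
    fin_cases i
    · change (u : V ≃ₗ[ZMod 2] V) (f 0) ∈ _
      rw [e0]; exact Submodule.subset_span ⟨0, rfl⟩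
    · change (u : V ≃ₗ[ZMod 2] V) (f 1) ∈ _
      rw [e1]; exact Submodule.subset_span ⟨1, rfl⟩
  · right
    have h1 := eq_one2 _ h0
    rw [h1, one_smul] at e0
    rw [q3, h1, one_smul] at e1
    have h2 : z⁻¹ * u = 1 := by
      refine h.Us_eq_one (Subgroup.mul_mem _ (Subgroup.inv_mem _ hz) hu) fun i => ?_
      rw [mul_apply']
      fin_cases i
      · change ((z⁻¹ : F.iso) : V ≃ₗ[ZMod 2] V) ((u : V ≃ₗ[ZMod 2] V) (f 0)) ∈ _
        rw [e0, ← z1, inv_apply']; exact Submodule.subset_span ⟨0, rfl⟩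
      · change ((z⁻¹ : F.iso) : V ≃ₗ[ZMod 2] V) ((u : V ≃ₗ[ZMod 2] V) (f 1)) ∈ _
        rw [e1, ← z2, inv_apply']; exact Submodule.subset_span ⟨1, rfl⟩
    exact (inv_mul_eq_one.1 h2).symm

/-- **`A ≠ 0`** -/
theorem Frm.A_ne_zero [FiniteDimensional (ZMod 2) X] (h : Frm F F' e f j)
    (hσ : F.σ = F'.σ) (hT : ∀ x, F.T x = x)
    [Fintype F.iso] [Fintype (stabW F.iso.subtype (Submodule.span (ZMod 2) (Set.range e)))] [Fintype (Us F e)]
    {w : F.iso} (hw1 : ∀ i, (w : V ≃ₗ[ZMod 2] V) (e i) = f i) (hw2 : ∀ i, (w : V ≃ₗ[ZMod 2] V) (f i) = F.ε • e i)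
    (hw3 : ∀ v, (∀ i, F.B v (e i) = 0) → (∀ i, F.B v (f i) = 0) → (w : V ≃ₗ[ZMod 2] V) v = v)
    (b : Basis (Fin 2) (ZMod 2) (Submodule.span (ZMod 2) (Set.range e)))
    {pr : stabW F.iso.subtype (Submodule.span (ZMod 2) (Set.range e)) →* F'.iso}
    (hρ1 : ∀ (g : stabW F.iso.subtype (Submodule.span (ZMod 2) (Set.range e))) y,
      ((g : F.iso) : V ≃ₗ[ZMod 2] V) (j y) - j ((pr g : X ≃ₗ[ZMod 2] X) y) ∈ Submodule.span (ZMod 2) (Set.range e))
    {M : Type x} [AddCommGroup M] [Module ℂ M] [FiniteDimensional ℂ M] (ρ₀ : Representation ℂ F'.iso M)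
    {n₀ : ℕ} (hψ1 : ρ₀.character 1 = n₀) (h3 : ¬ 3 ∣ n₀)
    (hn : HN (stabW F.iso.subtype (Submodule.span (ZMod 2) (Set.range e))) (Us F e) w (crep b sgnGL pr ρ₀))
    {A : ℂ} (hTT : (Top (Us F e) w * Ep (stabW F.iso.subtype (Submodule.span (ZMod 2) (Set.range e))) (crep b sgnGL pr ρ₀)) *
        (Top (Us F e) w * Ep (stabW F.iso.subtype (Submodule.span (ZMod 2) (Set.range e))) (crep b sgnGL pr ρ₀)) =
        A • (Top (Us F e) w * Ep (stabW F.iso.subtype (Submodule.span (ZMod 2) (Set.range e))) (crep b sgnGL pr ρ₀)) +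
        (Nat.card (Us F e) : ℂ) • Ep (stabW F.iso.subtype (Submodule.span (ZMod 2) (Set.range e))) (crep b sgnGL pr ρ₀)) :
    A ≠ 0 := by
  classical
  have hww := h.w_sq ε_two hw1 hw2 hw3
  obtain ⟨t, s1, s2, t1, t2, t3, t4, t5, t6⟩ := h.exists_t hw1 hw2 hw3
  obtain ⟨z, hz, z1, z2, z3⟩ := h.exists_z
  have htP : t ∈ stabW F.iso.subtype (Submodule.span (ZMod 2) (Set.range e)) := by
    rw [mem_par]
    intro i
    fin_cases i
    · change (t : V ≃ₗ[ZMod 2] V) (e 0) ∈ _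
      rw [t1]; exact Submodule.subset_span ⟨1, rfl⟩
    · change (t : V ≃ₗ[ZMod 2] V) (e 1) ∈ _
      rw [t2]; exact Submodule.add_mem _ (Submodule.subset_span ⟨0, rfl⟩) (Submodule.subset_span ⟨1, rfl⟩)
  have t7 : t⁻¹ ^ 3 = 1 := by rw [inv_pow, t6, inv_one]
  obtain ⟨c, hc, hA⟩ := hn.A_mod' hTT Nat.prime_three htP (Subgroup.inv_mem _ htP) t6 t7 s1 s2
    (Finset.univ.filter (fun x : Us F e × Us F e => t⁻¹ * (x.1 : F.iso) = x.1 * t⁻¹ ∧ t * (x.2 : F.iso) = x.2 * t))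
    (fun x => by simp only [Finset.mem_filter, Finset.mem_univ, true_and])
  have hwz : ∀ i, (z : V ≃ₗ[ZMod 2] V) (e i) = e i := fun i => Us_e hz i
  have w1' : ∀ i, (w : V ≃ₗ[ZMod 2] V) (f i) = e i := fun i => by rw [hw2, ε_two, one_smul]
  -- the element `g₀`
  have g1 : ((w * z * w * z * w : F.iso) : V ≃ₗ[ZMod 2] V) (e 0) = e 1 := by
    rw [mul_apply', mul_apply', mul_apply', mul_apply', hw1, z1, map_add, w1', hw1, map_add, hwz, z2, add_comm (f 1),
      ← add_assoc, add_self_V, zero_add, w1']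
  have g2 : ((w * z * w * z * w : F.iso) : V ≃ₗ[ZMod 2] V) (e 1) = e 0 := by
    rw [mul_apply', mul_apply', mul_apply', mul_apply', hw1, z2, map_add, w1', hw1, map_add, hwz, z1, add_comm (f 0),
      ← add_assoc, add_self_V, zero_add, w1']
  have g3 : ∀ y, ((w * z * w * z * w : F.iso) : V ≃ₗ[ZMod 2] V) (j y) = j y := by
    intro y
    have a1 : (w : V ≃ₗ[ZMod 2] V) (j y) = j y := hw3 _ (h.hje y) (h.hjf y)
    have a2 : (z : V ≃ₗ[ZMod 2] V) (j y) = j y := z3 _ (h.hje y)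
    rw [mul_apply', mul_apply', mul_apply', mul_apply', a1, a2, a1, a2, a1]
  have g4 : (w * z * w * z * w : F.iso) ∈ stabW F.iso.subtype (Submodule.span (ZMod 2) (Set.range e)) := by
    rw [mem_par]
    intro i
    fin_cases i
    · change ((w * z * w * z * w : F.iso) : V ≃ₗ[ZMod 2] V) (e 0) ∈ _
      rw [g1]; exact Submodule.subset_span ⟨1, rfl⟩
    · change ((w * z * w * z * w : F.iso) : V ≃ₗ[ZMod 2] V) (e 1) ∈ _
      rw [g2]; exact Submodule.subset_span ⟨0, rfl⟩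
  -- its image
  obtain ⟨q, hq, hqj, hqW⟩ := (h.cmp hσ).exists_proj
  have g5 : pr ⟨w * z * w * z * w, g4⟩ = 1 := by
    apply Subtype.ext
    apply LinearEquiv.ext
    intro y
    have a1 := hqW _ (hρ1 ⟨w * z * w * z * w, g4⟩ y)
    rw [map_sub, hqj, sub_eq_zero] at a1
    rw [← a1]
    change q (((w * z * w * z * w : F.iso) : V ≃ₗ[ZMod 2] V) (j y)) = y
    rw [g3, hqj]
  let R := resHom F.iso.subtype (Submodule.span (ZMod 2) (Set.range e)) ⟨w * z * w * z * w, g4⟩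
  have hR : ∀ v : Submodule.span (ZMod 2) (Set.range e), ((R v : Submodule.span (ZMod 2) (Set.range e)) : V) =
      ((w * z * w * z * w : F.iso) : V ≃ₗ[ZMod 2] V) v := fun _ => rfl
  have g6 : R * R = 1 := by
    apply LinearEquiv.ext
    intro v
    apply Subtype.ext
    change ((R (R v) : Submodule.span (ZMod 2) (Set.range e)) : V) = v
    rw [hR, hR]
    obtain ⟨a, ha⟩ := (Submodule.mem_span_range_iff_exists_fun (ZMod 2)).1 v.2
    rw [← ha, Fin.sum_univ_two, map_add, map_add, map_smul, map_smul, map_smul, map_smul, g1, g2, g1]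
  have g7 : R ≠ 1 := by
    intro h1
    have h2 : ((w * z * w * z * w : F.iso) : V ≃ₗ[ZMod 2] V) (e 0) = e 0 :=
      congrArg Subtype.val (LinearEquiv.congr_fun h1 ⟨e 0, Submodule.subset_span ⟨0, rfl⟩⟩)
    rw [g1] at h2
    have h3 := h.ef11
    rw [h2, h.ef01] at h3
    exact absurd h3 (by decide)
  have g8 : ((sgnGL (glE b R) : ℂˣ) : ℂ) = -1 := by
    rw [sgnGL_val, sgM_invol]
    · norm_num
    · have : glE b R * glE b R = 1 := by rw [← map_mul, g6, map_one]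
      exact congrArg Units.val this
    · intro h1
      apply g7
      apply (glE b).injective
      rw [map_one]
      exact Units.ext h1
  have g9 : extendByZero (stabW F.iso.subtype (Submodule.span (ZMod 2) (Set.range e))) (crep b sgnGL pr ρ₀).character
      (w * z * w * z * w)⁻¹ = -(n₀ : ℂ) := by
    rw [ext_apply_mem _ _ _ (Subgroup.inv_mem _ g4)]
    have e1 : (⟨(w * z * w * z * w)⁻¹, Subgroup.inv_mem _ g4⟩ :
        stabW F.iso.subtype (Submodule.span (ZMod 2) (Set.range e))) = ⟨w * z * w * z * w, g4⟩⁻¹ := rfl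
    have e2 : sgnGL (glE b R) = -1 := Units.ext g8
    rw [e1, crep_char, flagTerm_cfun b, map_inv, map_inv, map_inv, Function.comp_apply, map_inv, g5, inv_one, hψ1]
    change (((sgnGL (glE b R))⁻¹ : ℂˣ) : ℂ) * (n₀ : ℂ) = _
    rw [e2]
    simp
  have hchar1 : (crep b sgnGL pr ρ₀).character 1 = n₀ := by
    rw [crep_char, flagTerm_cfun b, Function.comp_apply, map_one pr, hψ1, map_one, map_one, map_one, Units.val_one,
      one_mul]
  rw [hchar1, Finset.sum_eq_single ((⟨z, hz⟩, ⟨z, hz⟩) : Us F e × Us F e)] at hA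
  · intro h0
    rw [h0, zero_mul, g9] at hA
    have h4 : (n₀ : ℂ) = 3 * c := by
      push_cast at hA
      linear_combination hA
    have h5 : c = (((n₀ : ℚ) / 3 : ℚ) : ℂ) := by
      push_cast
      rw [h4]
      field_simp
    obtain ⟨m, hm⟩ := int_of_rat hc h5
    rw [hm] at h4
    have h6 : (n₀ : ℤ) = 3 * m := by exact_mod_cast h4
    exact h3 (by exact_mod_cast Dvd.intro _ h6.symm)
  · rintro ⟨u, u'⟩ hx hne
    rw [Finset.mem_filter] at hx
    obtain ⟨-, h1, h2⟩ := hx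
    have h1' : t * (u : F.iso) = u * t := by
      have h1'' : t⁻¹ * (u : F.iso) = u * t⁻¹ := h1
      calc t * (u : F.iso) = t * (u * t⁻¹) * t := by group
        _ = t * (t⁻¹ * u) * t := by rw [h1'']
        _ = u * t := by group
    have wP := hn.wP
    have c1 := h.cent_t hσ hT t1 t2 t3 t4 t5 hz z1 z2 u.2 h1'
    have c2 := h.cent_t hσ hT t1 t2 t3 t4 t5 hz z1 z2 u'.2 h2
    rw [ext_apply_not_mem]
    intro hP
    have hP' := Subgroup.inv_mem _ hP
    rw [inv_inv] at hP'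
    rcases c1 with c1 | c1
    · change w * (u : F.iso) * w * (u' : F.iso) * w ∈ _ at hP'
      rw [c1, mul_one, hww, one_mul] at hP'
      apply wP
      have := Subgroup.mul_mem _ (Subgroup.inv_mem _ (hn.le u'.2)) hP'
      rwa [inv_mul_cancel_left] at this
    · rcases c2 with c2 | c2
      · change w * (u : F.iso) * w * (u' : F.iso) * w ∈ _ at hP'
        rw [c2, mul_one, mul_assoc, hww, mul_one] at hP'
        apply wP
        have := Subgroup.mul_mem _ hP' (Subgroup.inv_mem _ (hn.le u.2))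
        rwa [mul_inv_cancel_right] at this
      · exact hne (Prod.ext (Subtype.ext c1) (Subtype.ext c2))
  · intro h1
    have k0 : ((t⁻¹ : F.iso) : V ≃ₗ[ZMod 2] V) (f 0) = f 1 := by
      have := inv_apply' t (f 1)
      rwa [t4] at this
    have k1 : ((t⁻¹ : F.iso) : V ≃ₗ[ZMod 2] V) (f 1) = f 0 + f 1 := by
      have := inv_apply' t (f 0)
      rw [t3, map_add, k0] at this
      calc ((t⁻¹ : F.iso) : V ≃ₗ[ZMod 2] V) (f 1) = f 1 + (f 1 + ((t⁻¹ : F.iso) : V ≃ₗ[ZMod 2] V) (f 1)) := by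
            rw [← add_assoc, add_self_V, zero_add]
        _ = f 0 + f 1 := by rw [this, add_comm]
    have k2 : z⁻¹ * (t * z * t⁻¹) = 1 := by
      refine h.Us_eq_one (Subgroup.mul_mem _ (Subgroup.inv_mem _ hz) (h.Us_nor htP hz)) fun i => ?_
      rw [mul_apply', mul_apply', mul_apply']
      fin_cases i
      · change ((z⁻¹ : F.iso) : V ≃ₗ[ZMod 2] V) ((t : V ≃ₗ[ZMod 2] V) ((z : V ≃ₗ[ZMod 2] V)
          (((t⁻¹ : F.iso) : V ≃ₗ[ZMod 2] V) (f 0)))) ∈ _
        rw [k0, z2, map_add, t4, t1, ← z1, inv_apply']; exact Submodule.subset_span ⟨0, rfl⟩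
      · change ((z⁻¹ : F.iso) : V ≃ₗ[ZMod 2] V) ((t : V ≃ₗ[ZMod 2] V) ((z : V ≃ₗ[ZMod 2] V)
          (((t⁻¹ : F.iso) : V ≃ₗ[ZMod 2] V) (f 1)))) ∈ _
        have k3 : (t : V ≃ₗ[ZMod 2] V) ((z : V ≃ₗ[ZMod 2] V) (f 0 + f 1)) = (z : V ≃ₗ[ZMod 2] V) (f 1) := by
          rw [map_add, z1, z2, map_add, map_add, map_add, t3, t4, t1, t2]
          have : f 0 + f 1 + (e 0 + e 1) + (f 0 + e 1) = (f 0 + f 0) + (e 1 + e 1) + (f 1 + e 0) := by abel
          rw [this, add_self_V, add_self_V, add_zero, zero_add]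
        rw [k1, k3, inv_apply']; exact Submodule.subset_span ⟨1, rfl⟩
    have k4 : t * z = z * t := by
      have := (inv_mul_eq_one.1 k2)
      calc t * z = (t * z * t⁻¹) * t := by group
        _ = z * t := by rw [← this]
    refine absurd ?_ h1
    rw [Finset.mem_filter]
    refine ⟨Finset.mem_univ _, ?_, k4⟩
    change t⁻¹ * z = z * t⁻¹
    calc t⁻¹ * z = t⁻¹ * (z * t) * t⁻¹ := by group
      _ = t⁻¹ * (t * z) * t⁻¹ := by rw [k4]
      _ = z * t⁻¹ := by group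

end

end CForm

end Cfsg.Agent.H477.HC
end

-- part: H477/HC/N12
section
/-!
# `Ω⁺₁₀(2)` : a character of degree divisible by `14` (hub H5, helper477)
-/

set_option autoImplicit false

open scoped ComplexConjugate
open Cfsg

namespace Cfsg.Agent.H477.HC

open Cfsg.Agent.OddOrderCharacters.Clifford Cfsg.Agent.Characters MulAction Module Cfsg.Agent.H53.HC
open Cfsg.Agent.H749.Two Cfsg.Agent.H722.HC

universe u v w x

/-- two distinct constituents -/
theorem deg_two_le {G : Type*} [Group G] [Fintype G] {θ α β : G → ℂ} (hθ : IsCharacter G θ) (hα : IsIrrCharacter G α)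
    (hβ : IsIrrCharacter G β) (hne : α ≠ β) (h1 : classInner θ α ≠ 0) (h2 : classInner θ β ≠ 0) {a b n : ℕ}
    (ha : α 1 = a) (hb : β 1 = b) (hn : θ 1 = n) : a + b ≤ n := by
  classical
  have := Core.finite_irr (G := G)
  have := Fintype.ofFinite (IrrCharacter G)
  have h3 := congrFun (Core.classFunction_eq_sum (Core.isCharacter_isClassFunction hθ)) 1
  have h4 : ∀ χ : IrrCharacter G, ∃ m : ℕ, classInner θ χ.1 = m := fun χ =>
    Core.classInner_isNat hθ (Core.isIrr_isCharacter χ.2)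
  have h5 : ∀ χ : IrrCharacter G, ∃ m : ℕ, χ.1 1 = (m : ℂ) := fun χ => by
    obtain ⟨m, -, hm⟩ := Core.isIrr_apply_one χ.2
    exact ⟨m, hm⟩
  choose c hc using h4
  choose d hd using h5
  have h6 : (n : ℂ) = ((∑ χ : IrrCharacter G, c χ * d χ : ℕ) : ℂ) := by
    rw [← hn, h3]
    simp only [Finset.sum_apply, Pi.smul_apply, smul_eq_mul]
    push_cast
    refine Finset.sum_congr rfl fun χ _ => ?_
    rw [hc, hd]
  have h7 : n = ∑ χ : IrrCharacter G, c χ * d χ := by exact_mod_cast h6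
  have h8 : ∑ χ ∈ ({⟨α, hα⟩, ⟨β, hβ⟩} : Finset (IrrCharacter G)), c χ * d χ ≤ n := by
    rw [h7]
    exact Finset.sum_le_univ_sum_of_nonneg fun _ => Nat.zero_le _
  rw [Finset.sum_pair (fun h => hne (congrArg Subtype.val h))] at h8
  have ha' : d ⟨α, hα⟩ = a := by
    have h9 : α 1 = d ⟨α, hα⟩ := hd ⟨α, hα⟩
    rw [ha] at h9
    exact_mod_cast h9.symm
  have hb' : d ⟨β, hβ⟩ = b := by
    have h9 : β 1 = d ⟨β, hβ⟩ := hd ⟨β, hβ⟩
    rw [hb] at h9
    exact_mod_cast h9.symm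
  have hc1 : 1 ≤ c ⟨α, hα⟩ := by
    rcases Nat.eq_zero_or_pos (c ⟨α, hα⟩) with h | h
    · have := hc ⟨α, hα⟩
      rw [h, Nat.cast_zero] at this
      exact absurd this h1
    · exact h
  have hc2 : 1 ≤ c ⟨β, hβ⟩ := by
    rcases Nat.eq_zero_or_pos (c ⟨β, hβ⟩) with h | h
    · have := hc ⟨β, hβ⟩
      rw [h, Nat.cast_zero] at this
      exact absurd this h2
    · exact h
  rw [ha', hb'] at h8
  nlinarith only [h8, hc1, hc2]

/-- **a rationality criterion**: `ψ` is a constituent of a rational character `ψ + θ`, `θ` has a constituent of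
degree `b ≠ ψ 1`, and `θ 1 < ψ 1 + b`. -/
theorem rat_of_perm {G : Type*} [Group G] [Finite G] {ψ ψ' θ θ' : G → ℂ} (hψ : IsIrrCharacter G ψ)
    (hψ' : IsIrrCharacter G ψ') (hθ : IsCharacter G θ) (hθ' : IsCharacter G θ') (he : ψ + θ = ψ' + θ')
    (hr : ∀ g, ∃ q : ℚ, (ψ + θ) g = q) {a b n : ℕ} (ha : ψ 1 = a) (hb : ψ' 1 = b) (hn : θ 1 = n) (hab : a ≠ b)
    (hlt : n < a + b) (g : G) : ∃ q : ℚ, ψ g = q := by
  classical
  have := Fintype.ofFinite G
  refine GaloisBasic.exists_rat_of_forall_ringEquiv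
    ((GaloisBasic.isIntegral_apply (Core.isIrr_isCharacter hψ) g).tower_top) fun σ => ?_
  have h1 := GaloisIrr.isIrr_map σ hψ
  by_contra hne
  have hne' : (fun g => σ (ψ g)) ≠ ψ := fun h => hne (congrFun h g)
  have hψψ' : ψ ≠ ψ' := by
    rintro rfl
    rw [ha] at hb
    exact hab (by exact_mod_cast hb)
  have hσ1 : (fun g => σ (ψ g)) 1 = (a : ℂ) := by
    change σ (ψ 1) = _
    rw [ha, map_natCast]
  have hσψ' : (fun g => σ (ψ g)) ≠ ψ' := by
    intro h
    have h2 : (fun g => σ (ψ g)) 1 = ψ' 1 := congrFun h 1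
    rw [hσ1, hb] at h2
    exact hab (by exact_mod_cast h2)
  -- the constituents of `θ`
  have hadd : ∀ β : G → ℂ, classInner (ψ + θ) β = classInner ψ β + classInner θ β := fun β => Core.classInner_add_left _ _ _
  have h2 : classInner θ ψ' ≠ 0 := by
    have h3 := hadd ψ'
    rw [Core.classInner_irr_ne hψ hψ' hψψ', zero_add, he, Core.classInner_add_left, Core.classInner_irr_self hψ'] at h3
    rw [← h3]
    obtain ⟨m, hm⟩ := Core.classInner_isNat hθ' (Core.isIrr_isCharacter hψ')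
    rw [hm]
    intro h4
    have : (1 + m : ℕ) = 0 := by exact_mod_cast h4
    omega
  have h3 : classInner θ (fun g => σ (ψ g)) ≠ 0 := by
    have h4 := hadd (fun g => σ (ψ g))
    rw [Core.classInner_irr_ne hψ h1 (Ne.symm hne'), zero_add] at h4
    rw [← h4]
    have h5 : ψ + θ = fun g => σ ((ψ + θ) g) := by
      ext x
      obtain ⟨q, hq⟩ := hr x
      rw [hq]
      simp
    rw [h5, GaloisIrr.classInner_map σ (Core.isIrr_isCharacter hψ), hadd, Core.classInner_irr_self hψ]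
    obtain ⟨m, hm⟩ := Core.classInner_isNat hθ (Core.isIrr_isCharacter hψ)
    rw [hm]
    intro h6
    have h7 : (1 : ℂ) + m = 0 := σ.injective (by rw [h6, map_zero])
    have : (1 + m : ℕ) = 0 := by exact_mod_cast h7
    omega
  have h4 := deg_two_le hθ h1 hψ' hσψ' h3 h2 hσ1 hb hn
  omega

/-- the character of degree `14` of `O⁺₆(2)` -/
theorem exists_psi14 : ∃ ψ θ : (CForm.plusF (ZMod 2) 3).iso → ℂ,
    IsIrrCharacter (CForm.plusF (ZMod 2) 3).iso ψ ∧ IsCharacter (CForm.plusF (ZMod 2) 3).iso θ ∧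
    (∀ g, ψ g + θ g = (Nat.card {y : (CForm.plusF (ZMod 2) 3).Pt // g • y = y} : ℂ)) ∧
    ψ 1 = ((14 : ℕ) : ℂ) ∧ ∀ g, ∃ q : ℚ, ψ g = q := by
  have := finite_iso (CForm.plusF (ZMod 2) 3)
  obtain ⟨ψ₁, ψ₂, θ₁, θ₂, a, b, h1, h2, h3, h4, h5, h6, h7, h8, h9, h10, -⟩ := chars_plus (ZMod 2) (m := 3) (by norm_num)
  rw [Nat.card_zmod] at h5 h6
  have ha : a = 14 := by
    push_cast at h5
    have : (a : ℤ) = 14 := by linarith
    exact_mod_cast this
  have hb : b = 20 := by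
    push_cast at h6
    have : (b : ℤ) = 20 := by linarith only [h6]
    exact_mod_cast this
  subst ha hb
  have hcard : Nat.card (CForm.plusF (ZMod 2) 3).Pt = 35 := by
    have hq := (CForm.plusF (ZMod 2) 3).card_sing
    have hs : Nat.card {v // (CForm.plusF (ZMod 2) 3).Q v = 0} = _ := S0289.result (F := ZMod 2) (ZMod.card 2) 3 (by norm_num)
    rw [card_Sing_quad, hs, Nat.card_zmod] at hq
    norm_num only [_root_.one_mul] at hq
    omega
  have hn : θ₁ 1 = ((21 : ℕ) : ℂ) := by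
    have h11 := h9 1
    have h12 : Nat.card {y : (CForm.plusF (ZMod 2) 3).Pt // (1 : (CForm.plusF (ZMod 2) 3).iso) • y = y} = 35 := by
      rw [← hcard]
      exact Nat.card_congr (Equiv.subtypeUnivEquiv fun y => one_smul _ y)
    rw [h12, h3] at h11
    push_cast at h11 ⊢
    linear_combination h11
  refine ⟨ψ₁, θ₁, h1, h7, h9, h3, rat_of_perm h1 h2 h7 h8 ?_ ?_ h3 h4 hn (by norm_num) (by norm_num)⟩
  · ext g
    rw [Pi.add_apply, Pi.add_apply, h9, h10]
  · intro g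
    exact ⟨(Nat.card {y : (CForm.plusF (ZMod 2) 3).Pt // g • y = y} : ℚ), by rw [Pi.add_apply, h9]; push_cast; rfl⟩

/-- `O⁺₁₀(2)` -/
theorem ch_o10p : ∃ (b d : ℕ) (χ₁ : (CForm.plusF (ZMod 2) 5).iso → ℂ),
    IsIrrCharacter (CForm.plusF (ZMod 2) 5).iso χ₁ ∧ χ₁ 1 = ((2 ^ b * d : ℕ) : ℂ) ∧ (2 ^ b + 1) * d = 23715 * 14 ∧
    b ≤ 13 ∧ b ≠ 0 ∧ Even (b + 13) := by
  classical
  obtain ⟨e, f, j, h⟩ := CForm.frm_plus (K := ZMod 2) (k := 2) (n := 3) (m := 5) rfl
  obtain ⟨ψ, θ, hψ, hθ, hsum, hψ1, hψq⟩ := exists_psi14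
  have halt := CForm.alt_of_hB (F := CForm.plusF (ZMod 2) 5) (plus_hB (ZMod 2) 5)
  have hU : Nat.card (CForm.Us (CForm.plusF (ZMod 2) 5) e) = 2 ^ 13 := by
    rw [h.card_Us_orth halt (fun x => rfl)]
    rw [Nat.card_eq_fintype_card]
    simp
  have := finite_iso (CForm.plusF (ZMod 2) 5)
  let _ : Fintype (CForm.plusF (ZMod 2) 5).iso := Fintype.ofFinite _
  let _ : Fintype (stabW (CForm.plusF (ZMod 2) 5).iso.subtype (Submodule.span (ZMod 2) (Set.range e))) :=
    Fintype.ofFinite _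
  let _ : Fintype (CForm.Us (CForm.plusF (ZMod 2) 5) e) := Fintype.ofFinite _
  obtain ⟨w, hw1, hw2, hw3⟩ := h.exists_w
  have hcmp := h.cmp rfl
  obtain ⟨pr, hρ1, hρ2, hρ3⟩ := hcmp.exists_rho
  have hsurj : Function.Surjective pr := fun b => by
    obtain ⟨g, hg, -⟩ := hρ3 1 b
    exact ⟨g, hg⟩
  obtain ⟨m, ρ₀, hρ₀, rfl⟩ := id hψ
  let bb : Basis (Fin 2) (ZMod 2) (Submodule.span (ZMod 2) (Set.range e)) := finBasisOfFinrankEq (ZMod 2) _ h.mem_Om.2
  obtain ⟨hn, A, c, d, χ₁, h88⟩ := h.two_data rfl (by norm_num) CForm.ε_two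
    hw1 hw2 hw3 bb (sgnGL_iota _) sgnGL_cusp (fun A => ⟨((sgM (A : Matrix (Fin 2) (Fin 2) (ZMod 2)) : ℤ) : ℚ), by
      rw [sgnGL_val]; push_cast; rfl⟩) hρ1 hρ2 hsurj ρ₀ hψ hψ1 hψq
    (fun W' hW' k1 k2 => CForm.van_pt hcmp le_rfl (Core.isIrr_isCharacter (CForm.isIrr_cfun _)) sgnGL_cusp
      (Core.isIrr_isCharacter hψ) hθ hsum hρ1 hρ2 h.mem_Om hW' k1 k2) Nat.prime_two hU
  revert h88; rintro ⟨χ₂, h88⟩
  revert h88; rintro ⟨⟨h1, h2, hs, h3, h4, h5, h6, h7⟩, h88⟩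
  revert h88; rintro ⟨-, hTT, hA, -⟩
  have hA0 : (A : ℂ) ≠ 0 := h.A_ne_zero rfl (fun x => rfl) hw1 hw2 hw3 bb hρ1 ρ₀ hψ1 (by norm_num) hn hTT
  have hc0 : c ≠ 0 := by
    rintro rfl
    apply hA0
    rw [add_zero, Nat.sub_zero] at hA
    have : A ^ 2 = 0 := by linarith only [hA]
    rw [pow_eq_zero_iff two_ne_zero] at this
    rw [this, Int.cast_zero]
  refine ⟨c, d, χ₁, h1, h3, ?_, h6, hc0, h7 hc0⟩
  rw [h5]
  have h8 := (CForm.plusF (ZMod 2) 5).card_iso_eq h.mem_Om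
  rw [h.card_par rfl, hU, card_GL22, card_plusF (ZMod 2) (by norm_num), card_plusF (ZMod 2) (by norm_num),
    Nat.card_zmod] at h8
  obtain ⟨n, hn⟩ : ∃ n, n = Nat.card ((CForm.plusF (ZMod 2) 5).Om 2) := ⟨_, rfl⟩
  rw [← hn] at h8 ⊢
  norm_num [Finset.prod_range_succ] at h8
  omega

theorem arith_o10p {b d : ℕ} (h1 : (2 ^ b + 1) * d = 23715 * 14) (h2 : b ≤ 13) (h3 : b ≠ 0) (h4 : Even (b + 13)) :
    28 ∣ 2 ^ b * d := by
  have h5 : b = 1 ∨ b = 3 ∨ b = 5 ∨ b = 7 ∨ b = 9 ∨ b = 11 ∨ b = 13 := by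
    obtain ⟨x, hx⟩ := h4
    omega
  rcases h5 with rfl | rfl | rfl | rfl | rfl | rfl | rfl <;> norm_num only [] at h1 ⊢ <;> (clear * - h1; omega)

/-- **`Ω⁺₁₀(2)` has an irreducible character of degree divisible by `14`** -/
theorem o10p_zmod : ∃ d, 14 ∣ d ∧ Ch (POmega (ZMod 2) (quadFormPlus 5 (ZMod 2))) d := by
  obtain ⟨b, d, χ, h1, h2, h3, h4, h5, h6⟩ := ch_o10p
  have h7 := arith_o10p h3 h4 h5 h6
  have h8 := plus_idx_mul (ZMod 2) (m := 5) (by norm_num)
  rw [Nat.card_zmod, show Nat.gcd 4 (2 ^ 5 - 1) = 1 by decide] at h8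
  obtain ⟨e, i, h9, h10, h11, h12⟩ := plus_dn (ZMod 2) (m := 5) (t := 1) (by norm_num)
    (by rw [pow_one]; exact Dvd.intro _ (h8.trans (mul_one 2))) h1 h2 (fun z c _ hz => by
      have hc : c = 1 := Subsingleton.elim _ _
      congr 1
      apply Subtype.ext
      ext v : 1
      rw [hz, hc, Units.val_one, one_smul]
      rfl)
  refine ⟨e, ?_, h9⟩
  rw [h10] at h7
  interval_cases i
  · rw [pow_zero, mul_one] at h7
    exact Dvd.dvd.trans (by norm_num) h7
  · rw [pow_one] at h7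
    exact Nat.dvd_of_mul_dvd_mul_right (by norm_num) h7

seal _root_.Finset.sum _root_.dotProduct in
/-- **`Ω⁺₁₀(2)` has an irreducible character of degree divisible by `14`** -/
theorem o10p_two {K : Type u} [Field K] [Finite K] (hK : Nat.card K = 2) :
    ∃ d, 14 ∣ d ∧ Ch (POmega K (quadFormPlus 5 K)) d := by
  classical
  let _ := Fintype.ofFinite K
  have hF : Fintype.card K = 2 := by rw [← Nat.card_eq_fintype_card, hK]
  let σ : K ≃+* ZMod 2 := FiniteField.ringEquivOfCardEq (by rw [hF, ZMod.card 2])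
  obtain ⟨d, h1, χ, hχ, hχ1⟩ := o10p_zmod
  obtain ⟨E⟩ := Cfsg.Agent.UGT.U2.Rec.Congr.nonempty_POmega σ (Q := quadFormPlus 5 K)
    (Q' := quadFormPlus 5 (ZMod 2)) (fun v => by simp [quadFormPlus, map_sum, map_mul])
  refine ⟨d, h1, χ ∘ E.toMonoidHom, Core.isIrr_comp E.toMonoidHom E.surjective hχ, ?_⟩
  change χ ((E 1 :)) = _
  rw [map_one, hχ1]

end Cfsg.Agent.H477.HC
end

-- part: H925/Np/Sp63
section
/-!
# `PSp_6(3)` and `PSp_4(3)`: the pairs of odd and even primes different from `3` (helper925, S4984)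

`sp63` : `PSp_6(3)` has an irreducible character of degree a multiple of `2 * 5 * 7 * 13`;
`adj_sp63`, `adj_sp43` : the adjacencies.
-/

set_option autoImplicit false

open Cfsg

namespace Cfsg.Agent.H925.Np

open Cfsg.Agent.Characters Cfsg.Agent.H477.HC Cfsg.Agent.H749.Two Cfsg.Agent.H671.H5 Module

universe u

/-- an involution in the centre acts as `± 1` -/
theorem central_inv {N : Type*} [Group N] [Finite N] {θ : N → ℂ} (hθ : IsIrrCharacter N θ) {z : N}
    (hz : z ∈ Subgroup.center N) (hz2 : z * z = 1) : θ z = θ 1 ∨ θ z = -θ 1 := by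
  obtain ⟨l, hl⟩ := central_mul hθ hz
  have h0 := Core.isIrr_apply_one_ne_zero hθ
  have h1 := hl 1
  have h2 := hl z
  rw [one_mul] at h1
  rw [hz2, h1] at h2
  have h3 : (l - 1) * (l + 1) = 0 := by
    have h4 : θ 1 * ((l - 1) * (l + 1)) = 0 := by linear_combination -h2
    exact (mul_eq_zero.1 h4).resolve_left h0
  rcases mul_eq_zero.1 h3 with h | h
  · left; rw [h1, sub_eq_zero.1 h, one_mul]
  · right
    have h5 : l = -1 := eq_neg_of_add_eq_zero_left h
    rw [h1, h5]; ring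

/-- a faithful sign -/
theorem exists_neg {N : Type*} [Group N] [Finite N] {z : N} (hz : z ∈ Subgroup.center N) (hz2 : z * z = 1) (h1 : z ≠ 1) :
    ∃ θ : N → ℂ, IsIrrCharacter N θ ∧ θ z = -θ 1 := by
  classical
  have := Core.finite_irr (G := N)
  have := Fintype.ofFinite (IrrCharacter N)
  by_contra hcon
  push Not at hcon
  have h2 : ∀ χ : IrrCharacter N, (χ : N → ℂ) z = (χ : N → ℂ) 1 := fun χ =>
    (central_inv χ.2 hz hz2).resolve_right (hcon _ χ.2)
  have h3 := Counting.sum_irr_one_mul z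
  have h4 := Counting.sum_irr_one_mul (1 : N)
  rw [if_neg h1] at h3
  rw [if_pos rfl] at h4
  have h5 : ∑ χ : IrrCharacter N, (χ : N → ℂ) 1 * (χ : N → ℂ) z = ∑ χ : IrrCharacter N, (χ : N → ℂ) 1 * (χ : N → ℂ) 1 :=
    Finset.sum_congr rfl fun χ _ => by rw [h2]
  rw [h3, h4] at h5
  exact Core.card_ne_zero_complex h5.symm

section

variable {K : Type u} [Field K] [Finite K]

omit [Finite K] in
/-- the element `-1` -/
theorem exists_neg_one {V : Type*} [AddCommGroup V] [Module K V] (F : CForm K V) :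
    ∃ z : F.iso, (∀ v, (z : V ≃ₗ[K] V) v = -v) ∧ z * z = 1 ∧ z ∈ Subgroup.center F.iso := by
  have hB : ∀ u v, F.B (-u) (-v) = F.B u v := by
    intro u v
    have h1 : (-u : V) = (-1 : K) • u := (neg_one_smul K u).symm
    have h2 : (-v : V) = (-1 : K) • v := (neg_one_smul K v).symm
    rw [h1, h2, F.B_smul_left, F.B_smul_right, map_neg, map_one]
    ring
  have hQ : ∀ v, F.Q (-v) = F.Q v := by
    intro v
    rw [(neg_one_smul K v).symm, F.Q_smul, map_neg, map_one]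
    ring
  refine ⟨⟨LinearEquiv.neg K, hB, hQ⟩, fun v => rfl, ?_, ?_⟩
  · apply Subtype.ext
    ext v
    exact neg_neg v
  · rw [Subgroup.mem_center_iff]
    intro g
    apply Subtype.ext
    ext v
    exact map_neg (g : V ≃ₗ[K] V) v

theorem sp63 (hK : Nat.card K = 3) : ∃ d, 7280 ∣ d ∧ Ch (PSp 3 K) d := by
  classical
  obtain ⟨p, hp⟩ := CharP.exists K
  let _ := Fintype.ofFinite K
  have hpr : p.Prime := (CharP.char_is_prime_or_zero K p).resolve_right (CharP.char_ne_zero_of_finite K p)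
  have : Fact p.Prime := ⟨hpr⟩
  have hp3 : p = 3 := by
    obtain ⟨⟨n, hn⟩, -, hc⟩ := FiniteField.card K p
    rw [← Nat.card_eq_fintype_card, hK] at hc
    have : p ∣ 3 := by rw [hc]; exact dvd_pow_self p hn.ne'
    exact (Nat.prime_dvd_prime_iff_eq hpr Nat.prime_three).1 this
  subst hp3
  obtain ⟨W₀, hW₀, hcmp⟩ := spF_cmp (K := K) 2 1
  obtain ⟨c, hc⟩ := exists_cus_one (K := K) hK 2 (by norm_num) (by norm_num) (by rintro ⟨h, -⟩; omega)
  have hdisj := no_disj (F := CForm.spF K (2 + 1)) (m := 3) (fun W hW => by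
    have h1 := two_finrank_le (F := CForm.spF K (2 + 1)) hW
    rw [Module.finrank_fintype_fun_eq_card, Fintype.card_sum, Fintype.card_fin] at h1
    omega) (by norm_num) hW₀
  obtain ⟨z₀, hz₀, hz₀2, hz₀c⟩ := exists_neg_one (CForm.spF K 1)
  have hz₀1 : z₀ ≠ 1 := by
    intro h
    have h1 := hz₀ (fun _ => 1)
    rw [h] at h1
    have h2 := congrFun h1 (Sum.inl 0)
    change (1 : K) = -1 at h2
    have h3 : (2 : K) = 0 := by linear_combination h2
    have h4 : (3 : K) = 0 := CharP.cast_eq_zero K 3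
    have h5 : (1 : K) = 0 := by linear_combination h4 - h3
    exact one_ne_zero h5
  -- the sign of `c` at `-1`
  have hcs := central_inv hc.irr (z := Matrix.GeneralLinearGroup.scalar (Fin 2) (-1 : Kˣ)) (by
    rw [Subgroup.mem_center_iff]
    intro g
    apply Units.ext
    exact (Matrix.scalar_commute _ (fun r => Commute.all _ r) _).eq.symm) (by
      rw [← map_mul]; simp)
  have hfin1 := finite_iso (CForm.spF K 1)
  obtain ⟨ψ₀, hψ₀, hψ⟩ : ∃ ψ₀ : (CForm.spF K 1).iso → ℂ, IsIrrCharacter _ ψ₀ ∧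
      c (Matrix.GeneralLinearGroup.scalar (Fin 2) (-1 : Kˣ)) * ψ₀ z₀ = c 1 * ψ₀ 1 := by
    rcases hcs with h | h
    · exact ⟨1, Core.isIrr_one, by rw [h]; rfl⟩
    · obtain ⟨θ, hθ, hθ'⟩ := exists_neg hz₀c hz₀2 hz₀1
      exact ⟨θ, hθ, by rw [h, hθ']; ring⟩
  obtain ⟨χ, hχ, hχ1, hχz⟩ := exists_hc hcmp hc hW₀ hψ₀ hdisj
  obtain ⟨n, hn0, hn⟩ := Core.isIrr_apply_one hψ₀
  have hdvd : 7280 ∣ dg (CForm.spF K (2 + 1)) 2 := by
    obtain ⟨e, he⟩ := psp_dvd K (p := 3) (k := 2) (n := 1) (by norm_num)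
    rw [hK] at he
    have h1 : ∏ i ∈ Finset.Ico 1 (2 + 1), (3 ^ (2 * (i + 1)) - 1) = 7280 * 8 := by decide
    rw [h1, show 3 ^ 2 - 1 = 8 by norm_num, ← mul_assoc] at he
    have h2 := Nat.dvd_of_mul_dvd_mul_right (by norm_num : 0 < 8) he
    exact (Nat.Coprime.pow_right e (by norm_num : Nat.Coprime 7280 3)).dvd_of_dvd_mul_left h2
  refine ⟨dg (CForm.spF K (2 + 1)) 2 * n, hdvd.mul_right _, ?_⟩
  have hfin : Finite (Matrix.symplecticGroup (Fin (2 + 1)) K) := inferInstance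
  have hχ' : IsIrrCharacter _ (χ ∘ (isoSp (2 + 1) K).toMonoidHom) :=
    Core.isIrr_comp (isoSp (2 + 1) K).toMonoidHom (isoSp (2 + 1) K).surjective hχ
  obtain ⟨η, hη, hη'⟩ := exists_quot (Subgroup.center (Matrix.symplecticGroup (Fin (2 + 1)) K)) hχ' (fun z hz => by
    change χ (isoSp (2 + 1) K z) = χ (isoSp (2 + 1) K 1)
    rw [map_one]
    rcases Cfsg.Agent.ClassicalGeometry.SympInvolutions.center_eq hz with h | h
    · refine hχz _ 1 (fun v => ?_) fun z' hz' => ?_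
      · rw [isoSp_apply, h, Matrix.one_mulVec, Units.val_one, one_smul]
      · have h1 : z' = 1 := Subtype.ext (LinearEquiv.ext fun x => by rw [hz', Units.val_one, one_smul]; rfl)
        rw [h1, map_one]
    · refine hχz _ (-1) (fun v => ?_) fun z' hz' => ?_
      · rw [isoSp_apply, h, Matrix.neg_mulVec, Matrix.one_mulVec, Units.val_neg, Units.val_one, neg_one_smul]
      · have h1 : z' = z₀ := Subtype.ext (LinearEquiv.ext fun x => by
          rw [hz', hz₀, Units.val_neg, Units.val_one, neg_one_smul])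
        rw [h1]
        exact hψ)
  refine ⟨η, hη, ?_⟩
  have h2 := hη' 1
  rw [QuotientGroup.mk_one] at h2
  rw [h2]
  change χ (isoSp (2 + 1) K 1) = _
  rw [map_one, hχ1, hn]
  push_cast
  ring

/-- **`PSp_6(3)`** -/
theorem adj_sp63 (hK : Nat.card K = 3) {r s : ℕ} (hrs : r ≠ s) (hr : r ∈ ({2, 5, 7, 13} : Finset ℕ))
    (hs : s ∈ ({2, 5, 7, 13} : Finset ℕ)) : Adj r s (PSp 3 K) := by
  obtain ⟨d, hd, hch⟩ := sp63 hK
  have h1 : ∀ t ∈ ({2, 5, 7, 13} : Finset ℕ), t.Prime ∧ t ∣ 7280 := by decide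
  exact adj_of_ch hch (h1 r hr).1 (h1 s hs).1 hrs ((h1 r hr).2.trans hd) ((h1 s hs).2.trans hd)

/-- **`PSp_4(3)`** -/
theorem adj_sp43 (hK : Nat.card K = 3) : Adj 2 5 (PSp 2 K) := by
  let _ := Fintype.ofFinite K
  obtain ⟨χ, -, h, -, h1, -⟩ := H113.PSU.Left43.sp43 (F := K) (by rw [← Nat.card_eq_fintype_card]; exact hK)
  exact adj_of_ch ⟨χ, h, by rw [h1]; norm_num⟩ Nat.prime_two Nat.prime_five (by norm_num) (by norm_num : 2 ∣ 20) (by norm_num)

end

end Cfsg.Agent.H925.Np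
end

-- part: H722/HC/PrOdd
section
/-!
# `Ω_{2m+1}(q)`: the characteristic `p` is adjacent to every prime divisor of the order (helper722, for S4984)
-/

set_option autoImplicit false

open scoped ComplexConjugate
open Cfsg

namespace Cfsg.Agent.H722.HC

open Cfsg.Agent.Characters Module Cfsg.Agent.H53.HC Cfsg.Agent.H477.HC Cfsg.Agent.H749.Two Cfsg.Agent.H671.H5

universe u v w

/-- **(p, r) for `Ω_{2m+1}(q)`** -/
theorem pr_odd (K : Type u) [Field K] [Finite K] {p : ℕ} [Fact p.Prime] [CharP K p] {m : ℕ}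
    (ho : Odd (Nat.card K)) (hm : 3 ≤ m) {r : ℕ} (hr : r.Prime) (hrp : r ≠ p)
    (hd : r ∣ Nat.card (POmega K (quadFormOdd m K))) : Adj p r (POmega K (quadFormOdd m K)) := by
  have hp : p.Prime := Fact.out
  have h2 := two_ne_zero_of_odd (K := K) (p := p) ho
  have hp2 : p ≠ 2 := char_ne_two_of_odd (K := K) ho
  have hpq := char_dvd K (p := p)
  have hq2 : 2 ≤ Nat.card K := Finite.one_lt_card
  have hpr : r ∣ ∏ i ∈ Finset.range m, (Nat.card K ^ (2 * (i + 1)) - 1) := by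
    by_cases hr2 : r = 2
    · subst hr2
      exact dvd_prod_idx (i := 0) (Finset.mem_range.2 (by omega))
        ((dvd_pow_self 2 (by norm_num : 3 ≠ 0)).trans (two_pow_sq ho))
    · exact odd_prod K (p := p) ho hr hrp hr2 hd
  rcases bc_split hm hq2 hr hpr with h4 | ⟨h4, -, h6, h7⟩
  · obtain ⟨e, i, e', i', -, hb, -, h6, -, h8, -⟩ := odd_pair K (p := p) ho h2 hm
    obtain ⟨x, hx⟩ := bc_key hm hq2 (odd_dvd K h2 ho (p := p) (k := m - 1) (n := 1) (by omega))
    have h10 := rm_p (p := p) hr hrp h4 hx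
    have h11 : r = 2 → 2 ^ (3 + 1) ∣ dg (CForm.oddF K (m - 1 + 1) h2) (m - 1) := fun _ =>
      prime_pow_dvd Nat.prime_two hp hp2.symm ((two_P2 ho).trans hx)
    exact adj_of_ch hb hp hr (Ne.symm hrp)
      (dvd_down hp h6 h8 (fun h => absurd h hp2) (Dvd.dvd.mul_left hpq _))
      (dvd_down hr h6 h8 (fun h => Dvd.dvd.mul_right (h11 h) _) (Dvd.dvd.mul_right h10 _))
  · obtain ⟨f, g, -, h14, -, h15⟩ := rk3_odd K h2 ho hm
    refine adj_of_ch h14 hp hr (Ne.symm hrp)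
      (p_dvd_rk hp hpq (fun h => absurd h hp2) (h15.trans (mul_assoc _ _ _))) ?_
    have h9 : ((Nat.card K ^ (m - 1) - 1 : ℕ) : ℤ) = (Nat.card K : ℤ) ^ (m - 1) - 1 := by
      rw [Nat.cast_sub (Nat.one_le_pow _ _ (by omega))]; push_cast; ring
    refine r_dvd_rk hr h7 (by omega) (X := (Nat.card K : ℤ) ^ (m - 1) - 1)
      (Y := (Nat.card K : ℤ) * ((Nat.card K : ℤ) ^ m + 1)) (by rw [h15]; ring) ?_
    rw [← h9]
    exact_mod_cast h6

end Cfsg.Agent.H722.HC
end

-- part: H477/HC/Fin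
section
/-!
# The degree graphs of the symplectic and orthogonal simple groups are complete (hub H5, helper477, for S4984)

`np_sp_all`, `np_minus_all` : two primes `≠ p`; `sp_all`, `odd_all`, `plus_all`, `minus_all` : two primes.
-/

set_option autoImplicit false

open scoped ComplexConjugate
open Cfsg

namespace Cfsg.Agent.H477.HC

open Cfsg.Agent.Characters Module Cfsg.Agent.H53.HC Cfsg.Agent.H671.H5

/-! ### two primes different from `p` -/

section np

variable (K : Type) [Field K] [Finite K] {p : ℕ} [Fact p.Prime] [CharP K p]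

theorem mem_of_dvd {r : ℕ} (hr : r.Prime) {n : ℕ} {l : List ℕ} (hl : ∀ x ∈ l, x.Prime) (hn : n ∣ (l.map fun x => x ^ 12).prod)
    (h : r ∣ n) : r ∈ l := by
  have h1 := h.trans hn
  rw [Prime.dvd_prod_iff hr.prime] at h1
  obtain ⟨a, ha, h2⟩ := h1
  obtain ⟨x, hx, rfl⟩ := List.mem_map.1 ha
  have := (Nat.prime_dvd_prime_iff_eq hr (hl x hx)).1 (hr.dvd_of_dvd_pow h2)
  rw [this]
  exact hx

theorem char_of_card {t : ℕ} (ht : t.Prime) (h : Nat.card K = t) : p = t := by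
  obtain ⟨s, hs⟩ := card_pow K p
  have h1 : p ∣ Nat.card K := H749.Two.char_dvd K (p := p)
  rw [h] at h1
  exact (Nat.prime_dvd_prime_iff_eq Fact.out ht).1 h1

/-- **`PSp_{2m}(q)`, two primes `≠ p`** -/
theorem np_sp_all {m : ℕ} (hm : 2 ≤ m) (h22 : ¬ (m = 2 ∧ Nat.card K = 2)) {r s : ℕ} (hr : r.Prime) (hs : s.Prime)
    (hrp : r ≠ p) (hsp : s ≠ p) (hrs : r ≠ s) (hd : r ∣ Nat.card (PSp m K)) (hd' : s ∣ Nat.card (PSp m K)) :
    Adj r s (PSp m K) := by
  have hq : 2 ≤ Nat.card K := Finite.one_lt_card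
  let _ := Fintype.ofFinite K
  by_cases hA : m = 2 ∧ Nat.card K < 4
  · obtain ⟨rfl, h4⟩ := hA
    have h3 : Nat.card K = 3 := by
      have : Nat.card K ≠ 2 := fun h => h22 ⟨rfl, h⟩
      omega
    have h5 : ∀ t : ℕ, t.Prime → t ≠ p → t ∣ Nat.card (PSp 2 K) → t ∈ [2, 5] := by
      intro t ht htp h
      have h6 := sp_prod K (p := p) ht htp h
      rw [h3] at h6
      exact mem_of_dvd ht (by decide) (by norm_num [Finset.prod_range_succ]) h6
    have h6 := h5 r hr hrp hd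
    have h7 := h5 s hs hsp hd'
    simp only [List.mem_cons, List.not_mem_nil, or_false] at h6 h7
    have h8 := H925.Np.adj_sp43 h3
    rcases h6 with rfl | rfl <;> rcases h7 with rfl | rfl
    · exact absurd rfl hrs
    · exact h8
    · exact h8.symm
    · exact absurd rfl hrs
  by_cases hB : m = 3 ∧ Nat.card K = 2
  · obtain ⟨rfl, h2⟩ := hB
    have hp2 := char_of_card K (p := p) Nat.prime_two h2
    have h5 : ∀ t : ℕ, t.Prime → t ≠ p → t ∣ Nat.card (PSp 3 K) → t ∣ 210 := by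
      intro t ht htp h
      have h6 := sp_prod K (p := p) ht htp h
      rw [h2] at h6
      have h7 : t ∈ [3, 5, 7] := mem_of_dvd ht (by decide) (by norm_num [Finset.prod_range_succ]) h6
      simp only [List.mem_cons, List.not_mem_nil, or_false] at h7
      rcases h7 with rfl | rfl | rfl <;> norm_num
    obtain ⟨d, h6, h7⟩ := tsp62 K (by rw [← Nat.card_eq_fintype_card]; exact h2)
    exact adj_of_ch h7 hr hs hrs ((h5 r hr hrp hd).trans h6) ((h5 s hs hsp hd').trans h6)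
  by_cases hC : m = 3 ∧ Nat.card K = 3
  · obtain ⟨rfl, h3⟩ := hC
    have h5 : ∀ t : ℕ, t.Prime → t ≠ p → t ∣ Nat.card (PSp 3 K) → t ∈ ({2, 5, 7, 13} : Finset ℕ) := by
      intro t ht htp h
      have h6 := sp_prod K (p := p) ht htp h
      rw [h3] at h6
      have h7 : t ∈ [2, 5, 7, 13] := mem_of_dvd ht (by decide) (by norm_num [Finset.prod_range_succ]) h6
      simpa using h7
    exact H925.Np.adj_sp63 h3 hrs (h5 r hr hrp hd) (h5 s hs hsp hd')
  exact np_sp K (p := p) hm (fun h => by by_contra h'; exact hA ⟨h, by omega⟩) hr hs hrp hsp hrs hd hd'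
    (fun h h' => absurd ⟨h, h'⟩ hB) (fun h h' => absurd ⟨h, h'⟩ hC)

variable (a b : K) (hab : ∀ z₁ z₂ : K, z₁ ^ 2 + a * z₁ * z₂ + b * z₂ ^ 2 = 0 → z₁ = 0 ∧ z₂ = 0)

include hab

theorem minus_key {l : ℕ} {r s : ℕ} (hr : r.Prime) (hs : s.Prime) (hrp : r ≠ p) (hsp : s ≠ p) (hrs : r ≠ s)
    (k n M : ℕ) (hkn : k + n = l) (hl : 3 ≤ l) (hk : 2 ≤ k) (hk2 : Nat.card K = 2 → 3 ≤ k)
    (hk3 : Nat.card K = 3 → k = 2 → Odd n) (hM : ∃ e, M ∣ p ^ e * dg (CForm.minusF K (k + n) a b hab) k)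
    (h16 : Odd (Nat.card K) → 2 ^ 4 ∣ M) (h5 : r ∣ M) (h6 : s ∣ M) : Adj r s (POmega K (quadFormMinus l K a b)) := by
  have hp : p.Prime := Fact.out
  obtain ⟨e, he⟩ := hM
  obtain ⟨d, hd1, hd2, hd3⟩ := minus_ch K (p := p) a b hab hkn hl hk hk2 hk3
  have h7 : ∀ r : ℕ, r.Prime → r ≠ p → r ∣ M → r ∣ d := by
    intro r hr hrp h
    by_cases hr2 : r = 2
    · have := hd3 1 (prime_pow_dvd Nat.prime_two hp (by rw [← hr2]; exact hrp)
        ((h16 (two_cases K hrp hr2)).trans he))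
      rwa [hr2, ← pow_one 2]
    · have := hd2 r 1 hr hr2 (by rw [pow_one]; exact rm_p (p := p) hr hrp h he)
      rwa [pow_one] at this
  exact adj_of_ch hd1 hr hs hrs (h7 r hr hrp h5) (h7 s hs hsp h6)

/-- the pair `(q³ - 1, q² + 1)`, `q ≥ 3` -/
theorem minus_psi (hq3 : 3 ≤ Nat.card K) {r s : ℕ} (hr : r.Prime) (hs : s.Prime) (hrp : r ≠ p) (hsp : s ≠ p)
    (hrs : r ≠ s) (h1 : r ∣ Nat.card K ^ 3 - 1) (h2 : s ∣ Nat.card K ^ 2 + 1) :
    Adj r s (POmega K (quadFormMinus 3 K a b)) := by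
  have hq2 : 2 ≤ Nat.card K := by omega
  have h3 : r ∣ (Nat.card K ^ 4 + 1) * (Nat.card K ^ 6 - 1) :=
    Dvd.dvd.mul_left (h1.trans (pow_sub_one_dvd _ ⟨2, by norm_num⟩)) _
  have hM := td_key_three hq2 (minus_dvd K (p := p) a b hab (k := 2) (n := 1) (by omega))
  by_cases hs2 : s = 2
  · refine minus_key K a b hab hr hs hrp hsp hrs 2 1 _ rfl le_rfl le_rfl (fun h => by omega) (fun _ _ => odd_one) hM
      (fun ho => two_M3 ho) h3 ?_
    rw [hs2]
    exact (dvd_pow_self 2 (by norm_num : 4 ≠ 0)).trans (two_M3 (two_cases K hsp hs2))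
  by_cases hr2 : r = 2
  · refine minus_key K a b hab hr hs hrp hsp hrs 3 0 _ rfl le_rfl (by norm_num) (fun _ => le_rfl) (fun _ h => by omega)
      (minus_dvd_top K (p := p) a b hab (l := 3) (by omega))
      (fun ho => (pow_dvd_pow 2 (by norm_num)).trans (two_M1 ho le_rfl)) ?_ ?_
    · rw [hr2]
      exact (dvd_pow_self 2 (by norm_num : 5 ≠ 0)).trans (two_M1 (two_cases K hrp hr2) le_rfl)
    · have h4 : Nat.card K ^ (2 * (1 + 1)) - 1 = (Nat.card K ^ 2 + 1) * (Nat.card K ^ 2 - 1) := sq_sub _ 2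
      refine Dvd.dvd.mul_left (dvd_prod_idx (i := 1) (Finset.mem_Ico.2 ⟨le_rfl, by omega⟩) ?_) _
      rw [h4]
      exact Dvd.dvd.mul_right h2 _
  obtain ⟨ψ, n, hψ, hψ1, hsn, hn0⟩ := H967.Two.exists_psi_dvd hab h2
  obtain ⟨x, hx⟩ := H967.Two.psi_dn hab p hq3 hψ hψ1
  obtain ⟨e, he⟩ := hM
  exact adj_of_ch hx.1 hr hs hrs (hx.dvd_odd hr hr2 (Dvd.dvd.mul_right (rm_p (p := p) hr hrp h3 he) _))
    (hx.dvd_odd hs hs2 (Dvd.dvd.mul_left hsn _))

/-- **`PΩ⁻_{2l+2}(q)`, two primes `≠ p`** -/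
theorem np_minus_all {l : ℕ} (hl : 3 ≤ l) {r s : ℕ} (hr : r.Prime) (hs : s.Prime) (hrp : r ≠ p) (hsp : s ≠ p)
    (hrs : r ≠ s) (hd : r ∣ Nat.card (POmega K (quadFormMinus l K a b)))
    (hd' : s ∣ Nat.card (POmega K (quadFormMinus l K a b))) : Adj r s (POmega K (quadFormMinus l K a b)) := by
  have hq : 2 ≤ Nat.card K := Finite.one_lt_card
  by_cases hA : l = 3 ∧ Nat.card K = 2
  · obtain ⟨rfl, h2⟩ := hA
    have hp2 := char_of_card K (p := p) Nat.prime_two h2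
    have h5 : ∀ t : ℕ, t.Prime → t ≠ p → t ∣ Nat.card (POmega K (quadFormMinus 3 K a b)) → t ∈ [3, 5, 7, 17] := by
      intro t ht htp h
      have h6 := minus_prod K a b hab ht htp h
      rw [h2] at h6
      exact mem_of_dvd ht (by decide) (by norm_num [MG, Finset.prod_range_succ]) h6
    obtain ⟨d, h6, -, h7⟩ := o8m_two h2 hab
    obtain ⟨x, y, h8, -, h9, -⟩ := rk3_minus K a b hab (l := 3) le_rfl
    have h10 : x = 84 := by
      rw [h2] at h9
      norm_num at h9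
      omega
    rw [h10] at h8
    have h11 : ∀ t : ℕ, t.Prime → t ∈ [3, 5, 7, 17] → t ≠ 7 → Adj t 7 (POmega K (quadFormMinus 3 K a b)) := by
      intro t ht h12 h13
      simp only [List.mem_cons, List.not_mem_nil, or_false] at h12
      rcases h12 with rfl | rfl | rfl | rfl
      · exact adj_of_ch h8 (by norm_num) (by norm_num) (by norm_num) (by norm_num) (by norm_num)
      · exact adj_of_ch h7 (by norm_num) (by norm_num) (by norm_num) (Dvd.dvd.trans (by norm_num) h6)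
          (Dvd.dvd.trans (by norm_num) h6)
      · exact absurd rfl h13
      · exact adj_of_ch h7 (by norm_num) (by norm_num) (by norm_num) (Dvd.dvd.trans (by norm_num) h6)
          (Dvd.dvd.trans (by norm_num) h6)
    by_cases hs7 : s = 7
    · subst hs7
      exact h11 r hr (h5 r hr hrp hd) hrs
    by_cases hr7 : r = 7
    · subst hr7
      exact (h11 s hs (h5 s hs hsp hd') hs7).symm
    rcases np_minus K a b hab hl hr hs hrp hsp hrs hd hd' (fun _ _ => ⟨hr7, hs7⟩) with h12 | ⟨-, h12⟩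
    · exact h12
    · exfalso
      rw [h2] at h12
      have h13 : ∀ t : ℕ, t.Prime → t ∣ 2 ^ 3 - 1 → t = 7 := fun t ht h =>
        (Nat.prime_dvd_prime_iff_eq ht (by norm_num)).1 (by norm_num at h; exact h)
      rcases h12 with h12 | h12
      · exact hr7 (h13 r hr h12.1)
      · exact hs7 (h13 s hs h12.1)
  rcases np_minus K a b hab hl hr hs hrp hsp hrs hd hd' (fun h h' => absurd ⟨h, h'⟩ hA) with h12 | ⟨rfl, h12⟩
  · exact h12
  · have hq3 : 3 ≤ Nat.card K := by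
      have : Nat.card K ≠ 2 := fun h => hA ⟨rfl, h⟩
      omega
    rcases h12 with h12 | h12
    · exact minus_psi K a b hab hq3 hr hs hrp hsp hrs h12.1 h12.2
    · exact (minus_psi K a b hab hq3 hs hr hsp hrp hrs.symm h12.1 h12.2).symm

end np

/-! ### two primes -/

section all

variable (K : Type) [Field K] [Finite K]

/-- combination -/
theorem all_of {p : ℕ} {S : Type} [Group S] {r s : ℕ} (h1 : ∀ t : ℕ, t.Prime → t ≠ p → t ∣ Nat.card S → Adj p t S)
    (h2 : r ≠ p → s ≠ p → Adj r s S) (hr : r.Prime) (hs : s.Prime) (hrs : r ≠ s) (hd : r ∣ Nat.card S)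
    (hd' : s ∣ Nat.card S) : Adj r s S := by
  by_cases hrp : r = p
  · subst hrp
    exact h1 s hs hrs.symm hd'
  by_cases hsp : s = p
  · subst hsp
    exact (h1 r hr hrs hd).symm
  exact h2 hrp hsp

/-- **`PSp_{2m}(q)`** -/
theorem sp_all {m : ℕ} (hm : 2 ≤ m) (h22 : ¬ (m = 2 ∧ Nat.card K = 2)) {r s : ℕ} (hr : r.Prime) (hs : s.Prime)
    (hrs : r ≠ s) (hd : r ∣ Nat.card (PSp m K)) (hd' : s ∣ Nat.card (PSp m K)) : Adj r s (PSp m K) := by
  obtain ⟨p, hp⟩ := CharP.exists K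
  have hpr : p.Prime := (CharP.char_is_prime_or_zero K p).resolve_right (CharP.char_ne_zero_of_finite K p)
  have : Fact p.Prime := ⟨hpr⟩
  refine all_of (p := p) (fun t ht htp htd => ?_)
    (fun hrp hsp => np_sp_all K (p := p) hm h22 hr hs hrp hsp hrs hd hd') hr hs hrs hd hd'
  by_cases hA : m = 4 ∧ Nat.card K = 2 ∧ t = 7
  · obtain ⟨rfl, h2, rfl⟩ := hA
    obtain ⟨d, h3, h4⟩ := sp8_two K h2
    rw [char_of_card K (p := p) Nat.prime_two h2]
    exact adj_of_ch h4 Nat.prime_two ht (by norm_num) (Dvd.dvd.trans (by norm_num) h3) (Dvd.dvd.trans (by norm_num) h3)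
  · exact H722.HC.pr_sp K hm h22 ht htp htd (fun h1 h2 h3 => hA ⟨h1, h2, h3⟩)

/-- **`PΩ_{2m+1}(q)`** -/
theorem odd_all {m : ℕ} (ho : Odd (Nat.card K)) (hm : 3 ≤ m) {r s : ℕ} (hr : r.Prime) (hs : s.Prime)
    (hrs : r ≠ s) (hd : r ∣ Nat.card (POmega K (quadFormOdd m K))) (hd' : s ∣ Nat.card (POmega K (quadFormOdd m K))) :
    Adj r s (POmega K (quadFormOdd m K)) := by
  obtain ⟨p, hp⟩ := CharP.exists K
  have hpr : p.Prime := (CharP.char_is_prime_or_zero K p).resolve_right (CharP.char_ne_zero_of_finite K p)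
  have : Fact p.Prime := ⟨hpr⟩
  exact all_of (p := p) (fun t ht htp htd => H722.HC.pr_odd K ho hm ht htp htd)
    (fun hrp hsp => np_odd K (p := p) ho hm hr hs hrp hsp hrs hd hd') hr hs hrs hd hd'

/-- **`PΩ⁺_{2m}(q)`** -/
theorem plus_all {m : ℕ} (hm : 4 ≤ m) {r s : ℕ} (hr : r.Prime) (hs : s.Prime)
    (hrs : r ≠ s) (hd : r ∣ Nat.card (POmega K (quadFormPlus m K))) (hd' : s ∣ Nat.card (POmega K (quadFormPlus m K))) :
    Adj r s (POmega K (quadFormPlus m K)) := by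
  obtain ⟨p, hp⟩ := CharP.exists K
  have hpr : p.Prime := (CharP.char_is_prime_or_zero K p).resolve_right (CharP.char_ne_zero_of_finite K p)
  have : Fact p.Prime := ⟨hpr⟩
  refine all_of (p := p) (fun t ht htp htd => ?_)
    (fun hrp hsp => np_plus K (p := p) hm hr hs hrp hsp hrs hd hd') hr hs hrs hd hd'
  by_cases hA : m = 5 ∧ Nat.card K = 2 ∧ t = 7
  · obtain ⟨rfl, h2, rfl⟩ := hA
    obtain ⟨d, h3, h4⟩ := o10p_two h2
    rw [char_of_card K (p := p) Nat.prime_two h2]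
    exact adj_of_ch h4 Nat.prime_two ht (by norm_num) (Dvd.dvd.trans (by norm_num) h3) (Dvd.dvd.trans (by norm_num) h3)
  · exact H722.HC.pr_plus K hm ht htp htd (fun h1 h2 h3 => hA ⟨h1, h2, h3⟩)

/-- the remaining case `(PΩ⁻_8(3), 5)` -/
def OM3 : Prop := ∀ (K : Type) [Field K] [Finite K], Nat.card K = 3 → ∀ a b : K,
  (∀ z₁ z₂ : K, z₁ ^ 2 + a * z₁ * z₂ + b * z₂ ^ 2 = 0 → z₁ = 0 ∧ z₂ = 0) →
  ∃ d, 15 ∣ d ∧ Ch (POmega K (quadFormMinus 3 K a b)) d

/-- **`PΩ⁻_{2l+2}(q)`** -/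
theorem minus_all (hOM : OM3) (a b : K) (hab : ∀ z₁ z₂ : K, z₁ ^ 2 + a * z₁ * z₂ + b * z₂ ^ 2 = 0 → z₁ = 0 ∧ z₂ = 0)
    {l : ℕ} (hl : 3 ≤ l) {r s : ℕ} (hr : r.Prime) (hs : s.Prime)
    (hrs : r ≠ s) (hd : r ∣ Nat.card (POmega K (quadFormMinus l K a b)))
    (hd' : s ∣ Nat.card (POmega K (quadFormMinus l K a b))) : Adj r s (POmega K (quadFormMinus l K a b)) := by
  obtain ⟨p, hp⟩ := CharP.exists K
  have hpr : p.Prime := (CharP.char_is_prime_or_zero K p).resolve_right (CharP.char_ne_zero_of_finite K p)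
  have : Fact p.Prime := ⟨hpr⟩
  have hq : 2 ≤ Nat.card K := Finite.one_lt_card
  refine all_of (p := p) (fun t ht htp htd => ?_)
    (fun hrp hsp => np_minus_all K a b hab (p := p) hl hr hs hrp hsp hrs hd hd') hr hs hrs hd hd'
  by_cases hA : l = 3 ∧ Nat.card K ≤ 3 ∧ t = 5
  · obtain ⟨rfl, h2, rfl⟩ := hA
    have h3 : Nat.card K = 2 ∨ Nat.card K = 3 := by omega
    rcases h3 with h3 | h3
    · obtain ⟨d, h4, h5⟩ := o8m_ten h3 hab
      rw [char_of_card K (p := p) Nat.prime_two h3]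
      exact adj_of_ch h5 Nat.prime_two ht (by norm_num) (Dvd.dvd.trans (by norm_num) h4)
        (Dvd.dvd.trans (by norm_num) h4)
    · obtain ⟨d, h4, h5⟩ := hOM K h3 a b hab
      rw [char_of_card K (p := p) Nat.prime_three h3]
      exact adj_of_ch h5 Nat.prime_three ht (by norm_num) (Dvd.dvd.trans (by norm_num) h4)
        (Dvd.dvd.trans (by norm_num) h4)
  · exact H722.HC.pr_minus K a b hab hl ht htp htd (fun h1 h2 h3 => hA ⟨h1, h2, h3⟩)

end all

/-- **S4984** -/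
theorem main4984 (hOM : OM3) {G : Type*} [Group G] [Finite G]
    (h : IsPSp G ∨ IsPOmegaOdd G ∨ IsPOmegaPlus G ∨ IsPOmegaMinus G) (r s : ℕ) (hr : r ∈ degreePrimes G)
    (hs : s ∈ degreePrimes G) (hrs : r ≠ s) : (degreeGraph G).Adj r s := by
  have hdv : ∀ t ∈ degreePrimes G, t.Prime ∧ t ∣ Nat.card G := by
    rintro t ⟨ht, d, ⟨χ, rfl⟩, hd⟩
    exact ⟨ht, hd.trans (H678.Codeg.charDegree_dvd_card χ)⟩
  obtain ⟨hr1, hr2⟩ := hdv r hr
  obtain ⟨hs1, hs2⟩ := hdv s hs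
  rcases h with ⟨F, _, _, m, hm, h1, ⟨e⟩⟩ | ⟨F, _, _, m, hm, h1, ⟨e⟩⟩ | ⟨F, _, _, m, hm, ⟨e⟩⟩ | ⟨F, _, _, m, a, b, hm, hab, ⟨e⟩⟩
  · rw [Nat.card_congr e.toEquiv] at hr2 hs2
    refine (adj_congr e).2 (sp_all F hm ?_ hr1 hs1 hrs hr2 hs2)
    rintro ⟨h2, h3⟩
    have := h1 h2
    rw [Nat.card_eq_fintype_card] at h3
    omega
  · rw [Nat.card_congr e.toEquiv] at hr2 hs2
    exact (adj_congr e).2 (odd_all F (by rw [Nat.card_eq_fintype_card]; exact h1) hm hr1 hs1 hrs hr2 hs2)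
  · rw [Nat.card_congr e.toEquiv] at hr2 hs2
    exact (adj_congr e).2 (plus_all F hm hr1 hs1 hrs hr2 hs2)
  · rw [Nat.card_congr e.toEquiv] at hr2 hs2
    exact (adj_congr e).2 (minus_all F hOM a b hab (by omega) hr1 hs1 hrs hr2 hs2)

end Cfsg.Agent.H477.HC
end

-- part: H722/HC/O8m3
section
/-!
# `Ω⁻₈(3)` : a character of degree divisible by `15` (helper722, for S4984)
-/

set_option autoImplicit false

open scoped ComplexConjugate
open Cfsg

namespace Cfsg.Agent.H722.HC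

open Cfsg.Agent.OddOrderCharacters.Clifford Cfsg.Agent.Characters MulAction Module Cfsg.Agent.H53.HC
open Cfsg.Agent.H477.HC Cfsg.Agent.H477.HC.CForm Cfsg.Agent.H749.Two

universe u v w x

/-- a constituent of a rank 3 permutation character is rational -/
theorem rat_of_sum {G : Type u} [Group G] [Finite G] {Y : Type v} [MulAction G Y] {ψ₁ ψ₂ : G → ℂ}
    (h1 : IsIrrCharacter G ψ₁) (h2 : IsIrrCharacter G ψ₂)
    (hsum : ∀ g : G, (Nat.card {y : Y // g • y = y} : ℂ) = 1 + ψ₁ g + ψ₂ g) {a b : ℕ} (ha : ψ₁ 1 = a) (hb : ψ₂ 1 = b)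
    (hab : a ≠ b) (ha1 : a ≠ 1) (g : G) : ∃ q : ℚ, ψ₁ g = q := by
  classical
  have := Fintype.ofFinite G
  refine GaloisBasic.exists_rat_of_forall_ringEquiv
    (GaloisBasic.isIntegral_apply (Core.isIrr_isCharacter h1) g).tower_top fun σ => ?_
  have hσ1 : IsIrrCharacter G (fun g => σ (ψ₁ g)) := GaloisIrr.isIrr_map σ h1
  have hσ2 : IsIrrCharacter G (fun g => σ (ψ₂ g)) := GaloisIrr.isIrr_map σ h2
  have key : (fun g => σ (ψ₁ g)) = ψ₁ := by
    by_contra hne
    have d1 : (fun g => σ (ψ₁ g)) ≠ (1 : G → ℂ) := by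
      intro h
      have h3 : σ (ψ₁ 1) = 1 := congrFun h 1
      rw [ha, map_natCast] at h3
      exact ha1 (by exact_mod_cast h3)
    have d2 : (fun g => σ (ψ₁ g)) ≠ ψ₂ := by
      intro h
      have h3 : σ (ψ₁ 1) = ψ₂ 1 := congrFun h 1
      rw [ha, map_natCast, hb] at h3
      exact hab (by exact_mod_cast h3)
    have e : (1 : G → ℂ) + (fun g => σ (ψ₁ g)) + (fun g => σ (ψ₂ g)) = (1 : G → ℂ) + ψ₁ + ψ₂ := by
      funext g
      have h3 := congrArg σ (hsum g)
      rw [map_natCast, map_add, map_add, map_one, hsum] at h3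
      exact h3.symm
    have i1 : classInner (fun g => σ (ψ₁ g)) ((1 : G → ℂ) + ψ₁ + ψ₂) = 0 := by
      rw [Core.classInner_add_right, Core.classInner_add_right, Core.classInner_irr_ne hσ1 Core.isIrr_one d1,
        Core.classInner_irr_ne hσ1 h1 hne, Core.classInner_irr_ne hσ1 h2 d2]
      ring
    obtain ⟨n, hn⟩ := Core.classInner_isNat (Core.isIrr_isCharacter hσ1) (Core.isIrr_isCharacter hσ2)
    rw [← e, Core.classInner_add_right, Core.classInner_add_right, Core.classInner_irr_ne hσ1 Core.isIrr_one d1,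
      Core.classInner_irr_self hσ1, hn] at i1
    rw [zero_add] at i1
    have i3 : 1 + n = 0 := by exact_mod_cast i1
    omega
  exact congrFun key g

/-- the nontrivial linear character of a group of order two -/
theorem exists_sign {G : Type u} [Group G] (h : Nat.card G = 2) :
    ∃ c : G →* ℂˣ, c ≠ 1 ∧ ∀ A, ∃ q : ℚ, ((c A : ℂˣ) : ℂ) = q := by
  classical
  obtain ⟨y, hy, hu⟩ := (Nat.card_eq_two_iff' (1 : G)).1 h
  have hyy : y * y = 1 := by
    by_contra h1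
    have h2 := hu _ h1
    exact hy (mul_eq_left.1 h2)
  have h3 : ∀ A : G, A = 1 ∨ A = y := fun A => by
    by_cases hA : A = 1
    · exact Or.inl hA
    · exact Or.inr (hu A hA)
  refine ⟨{ toFun := fun A => if A = 1 then 1 else -1, map_one' := if_pos rfl, map_mul' := fun A B => ?_ },
    fun hc => ?_, fun A => ?_⟩
  · rcases h3 A with rfl | rfl
    · rw [one_mul, if_pos rfl, one_mul]
    · rcases h3 B with rfl | rfl
      · rw [mul_one, if_pos rfl, mul_one]
      · rw [hyy, if_pos rfl, if_neg hy]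
        simp
  · have h4 := DFunLike.congr_fun hc y
    change (if y = 1 then (1 : ℂˣ) else -1) = 1 at h4
    rw [if_neg hy] at h4
    have h5 : ((-1 : ℂˣ) : ℂ) = ((1 : ℂˣ) : ℂ) := by rw [h4]
    norm_num at h5
  · change ∃ q : ℚ, (((if A = 1 then (1 : ℂˣ) else -1) : ℂˣ) : ℂ) = q
    by_cases hA : A = 1
    · exact ⟨1, by rw [if_pos hA]; simp⟩
    · exact ⟨-1, by rw [if_neg hA]; simp⟩

theorem inv_of_two {G : Type u} [Group G] (h : Nat.card G = 2) {φ : G →* G} (hφ : ∀ A, φ (φ A) = A)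
    {c : G →* ℂˣ} (A : G) : c (φ A) = c A := by
  obtain ⟨y, hy, hu⟩ := (Nat.card_eq_two_iff' (1 : G)).1 h
  by_cases hA : A = 1
  · rw [hA, map_one]
  · have h1 : φ A ≠ 1 := fun h1 => hA (by rw [← hφ A, h1, map_one])
    rw [hu _ h1, hu _ hA]

section k1

variable {K : Type u} [Field K] {V : Type v} [AddCommGroup V] [Module K V] {F : CForm K V}
  {X : Type w} [AddCommGroup X] [Module K X] {F' : CForm K X} {e f : Fin 1 → V} {j : X →ₗ[K] V}

theorem isCusp_fin1 (c : GL (Fin 1) K →* ℂˣ) : _root_.Cfsg.Agent.H53.HC.IsCusp (cfun c) := by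
  intro D h0 h1
  exfalso
  have h2 : 0 < finrank K D := Module.finrank_pos_iff.2 (Submodule.nontrivial_iff_ne_bot.2 h0)
  have h3 : finrank K D < finrank K (Fin 1 → K) := Submodule.finrank_lt h1
  rw [Module.finrank_fin_fun] at h3
  omega

theorem dec1 [FiniteDimensional K V] (h : Frm F F' e f j) (hε : F.ε = 1) (v : V) :
    ∃ x, v = F.B v (f 0) • e 0 + F.B v (e 0) • f 0 + j x := by
  have h1 := h.hyp
  have hfe : F.B (f 0) (e 0) = 1 := by rw [h.hfe, if_pos rfl, hε]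
  obtain ⟨x, hx⟩ := h1.dec (v - F.B v (f 0) • e 0 - F.B v (e 0) • f 0) (by
    rw [F.B_sub_left, F.B_sub_left, F.B_smul_left, F.B_smul_left, h.hee, hfe]
    ring) (by
    rw [F.B_sub_left, F.B_sub_left, F.B_smul_left, F.B_smul_left, h.hff, h.hef, if_pos rfl]
    ring)
  exact ⟨x, by rw [← hx]; abel⟩

theorem ext1 [FiniteDimensional K V] (h : Frm F F' e f j) (hε : F.ε = 1) {g g' : F.iso}
    (he : (g : V ≃ₗ[K] V) (e 0) = (g' : V ≃ₗ[K] V) (e 0)) (hf : (g : V ≃ₗ[K] V) (f 0) = (g' : V ≃ₗ[K] V) (f 0))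
    (hj : ∀ x, (g : V ≃ₗ[K] V) (j x) = (g' : V ≃ₗ[K] V) (j x)) : g = g' := by
  apply Subtype.ext
  apply LinearEquiv.ext
  intro v
  obtain ⟨x, hx⟩ := dec1 h hε v
  rw [hx, map_add, map_add, map_smul, map_smul, map_add, map_add, map_smul, map_smul, he, hf, hj]

theorem glue1 [FiniteDimensional K V] [FiniteDimensional K X] (h : Frm F F' e f j) (hσ : F.σ = F'.σ) (b : F'.iso) :
    ∃ g : F.iso, (g : V ≃ₗ[K] V) (e 0) = e 0 ∧ (g : V ≃ₗ[K] V) (f 0) = f 0 ∧
      ∀ x, (g : V ≃ₗ[K] V) (j x) = j ((b : X ≃ₗ[K] X) x) := by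
  obtain ⟨r, hr, hrj, hrW⟩ := (h.cmp hσ).exists_proj
  have hre : r (e 0) = 0 := hrW _ (Submodule.subset_span ⟨0, rfl⟩)
  have hrf : r (f 0) = 0 := F'.nondeg _ fun y => F'.B_eq_zero (by rw [← hr]; exact h.hjf y 0)
  have hjr : ∀ v y, F.B (j y) (v - j (r v)) = 0 := by
    intro v y
    rw [F.B_sub_right, hr, h.hjB, sub_self]
  have hjr' : ∀ v y, F.B (v - j (r v)) (j y) = 0 := fun v y => F.B_eq_zero (hjr v y)
  let m : V →ₗ[K] V := (LinearMap.id - j.comp r) + j.comp (((b : X ≃ₗ[K] X) : X →ₗ[K] X).comp r)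
  have hm : ∀ v, m v = (v - j (r v)) + j ((b : X ≃ₗ[K] X) (r v)) := fun v => rfl
  obtain ⟨g, hg⟩ := F.exists_iso m (fun v u => by
      have e1 : F.B v u = F.B ((v - j (r v)) + j (r v)) ((u - j (r u)) + j (r u)) := by
        rw [sub_add_cancel, sub_add_cancel]
      rw [hm, hm, e1, F.B_add_left, F.B_add_right, F.B_add_right, F.B_add_left, F.B_add_right, F.B_add_right,
        hjr', hjr, hjr', hjr, h.hjB, h.hjB, F'.iso_B])
    (fun v => by
      have e1 : F.Q v = F.Q ((v - j (r v)) + j (r v)) := by rw [sub_add_cancel]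
      rw [hm, e1, F.Q_add, F.Q_add, hjr', hjr', h.hjQ, h.hjQ, F'.iso_Q])
  refine ⟨g, ?_, ?_, fun x => ?_⟩
  · rw [hg, hm, hre, map_zero, map_zero, map_zero, sub_zero, add_zero]
  · rw [hg, hm, hrf, map_zero, map_zero, map_zero, sub_zero, add_zero]
  · rw [hg, hm, hrj, sub_self, zero_add]

/-- the order of the unipotent radical, `k = 1` -/
theorem card_Us1 [FiniteDimensional K V] (h : Frm F F' e f j) (hε : F.ε = 1) (hσ : ∀ x, F.σ x = x)
    (hT : ∀ x, F.T x = x) : Nat.card (Us F e) = Nat.card X := by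
  classical
  have hjinj : Function.Injective j := h.hyp.inj
  have hfe : F.B (f 0) (e 0) = 1 := by rw [h.hfe, if_pos rfl, hε]
  have hfin : ∀ i : Fin 1, i = 0 := fun i => Subsingleton.elim _ _
  have hQ : ∀ (s : K) (x : X), F.Q (f 0 + j x + s • e 0) = F'.Q x + s := by
    intro s x
    rw [F.Q_add, F.Q_add, F.Q_smul, h.hQf, h.hQe, h.hjQ, hT, hT, F.B_smul_right, F.B_add_left, hfe, hσ,
      F.B_eq_zero (h.hjf x 0), h.hje]
    ring
  have hU : ∀ x : X, ∃ u : Us F e, ((u : F.iso) : V ≃ₗ[K] V) (f 0) = f 0 + j x + (-F'.Q x) • e 0 := by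
    intro x
    have hq : F.Q (f 0 + j x + (-F'.Q x) • e 0) = 0 := by rw [hQ]; ring
    obtain ⟨u, hu1, hu2, hu3⟩ := h.exists_unip (y := fun _ => f 0 + j x + (-F'.Q x) • e 0) (fun i l => by
        rw [hfin i, hfin l, if_pos rfl, F.B_add_right, F.B_add_right, F.B_smul_right, h.hef, if_pos rfl,
          F.B_eq_zero (h.hje x 0), h.hee]
        ring)
      (fun i l => F.alt _ hq) (fun i => hq)
    refine ⟨⟨u, fun i => hu1 i, fun v hv => ?_⟩, hu2 0⟩
    rw [hu3 v hv, sub_sub_cancel_left]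
    refine Submodule.neg_mem _ (Submodule.sum_mem _ fun i _ => Submodule.smul_mem _ _ (Submodule.subset_span ⟨i, rfl⟩))
  choose U hU using hU
  refine (Nat.card_congr (Equiv.ofBijective U ⟨fun x y hxy => ?_, fun u => ?_⟩)).symm
  · have h1 := hU x
    rw [hxy, hU y] at h1
    apply hjinj
    have h2 : ∀ z : X, F.B (j z) (j y) = F.B (j z) (j x) := by
      intro z
      have h3 := congrArg (fun v => F.B (j z) v) h1
      simp only [F.B_add_right, F.B_smul_right, h.hjf, h.hje] at h3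
      simpa using h3
    have h4 : y = x := by
      rw [← sub_eq_zero]
      refine F'.nondeg _ fun z => F'.B_eq_zero ?_
      rw [F'.B_sub_right, ← h.hjB, ← h.hjB, h2, sub_self]
    rw [h4]
  · obtain ⟨x, hx⟩ := dec1 h hε (((u : F.iso) : V ≃ₗ[K] V) (f 0))
    have h1 : F.B (((u : F.iso) : V ≃ₗ[K] V) (f 0)) (e 0) = 1 := by
      nth_rewrite 1 [← Us_e u.2 0]
      rw [F.iso_B, hfe]
    rw [h1, one_smul] at hx
    have h2 : F.Q (((u : F.iso) : V ≃ₗ[K] V) (f 0)) = 0 := by rw [F.iso_Q, h.hQf]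
    have h3 : ((u : F.iso) : V ≃ₗ[K] V) (f 0) = f 0 + j x + F.B (((u : F.iso) : V ≃ₗ[K] V) (f 0)) (f 0) • e 0 := by
      nth_rewrite 1 [hx]
      abel
    have h4 : F.B (((u : F.iso) : V ≃ₗ[K] V) (f 0)) (f 0) = -F'.Q x := by
      have h5 := hQ (F.B (((u : F.iso) : V ≃ₗ[K] V) (f 0)) (f 0)) x
      rw [← h3, h2] at h5
      linear_combination h5.symm
    rw [h4] at h3
    refine ⟨x, ?_⟩
    have h5 : (U x : F.iso)⁻¹ * u = 1 := by
      refine h.Us_eq_one ((Us F e).mul_mem ((Us F e).inv_mem (U x).2) u.2) fun i => ?_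
      rw [hfin i, mul_apply', h3, ← hU x, inv_apply']
      exact Submodule.subset_span ⟨0, rfl⟩
    exact Subtype.ext (inv_mul_eq_one.1 h5)

end k1

/-- an element of order `7` on `F₃⁶` has no fixed vector -/
theorem fix_zero {K : Type u} [Field K] [Finite K] {X : Type w} [AddCommGroup X] [Module K X] [Finite X]
    (hK : Nat.card K = 3) (hX : Nat.card X = 3 ^ 6) {b : X ≃ₗ[K] X} (hb : orderOf b = 7) {x : X} (hx : b x = x) :
    x = 0 := by
  classical
  have : Fact (Nat.Prime 7) := ⟨by norm_num⟩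
  have hfd : FiniteDimensional K X := Module.Finite.of_finite
  let W : Submodule K X := LinearMap.ker ((b : X →ₗ[K] X) - LinearMap.id)
  have hW : ∀ x, x ∈ W ↔ b x = x := fun x => by
    rw [LinearMap.mem_ker, LinearMap.sub_apply, sub_eq_zero]
    rfl
  have h1 : IsPGroup 7 (Subgroup.zpowers b) := IsPGroup.of_card (n := 1) (by rw [Nat.card_zpowers, hb, pow_one])
  have h2 := h1.card_modEq_card_fixedPoints X
  have h3 : Nat.card (fixedPoints (Subgroup.zpowers b) X) = Nat.card W := by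
    refine Nat.card_congr (Equiv.subtypeEquivRight fun x => ?_)
    rw [hW]
    constructor
    · intro h
      exact h ⟨b, Subgroup.mem_zpowers b⟩
    · rintro h ⟨g, hg⟩
      obtain ⟨n, rfl⟩ := Subgroup.mem_zpowers_iff.1 hg
      change (b ^ n) x = x
      have h4 : b ∈ MulAction.stabilizer (X ≃ₗ[K] X) x := h
      exact Subgroup.zpow_mem _ h4 n
  have h4 : Nat.card W = 3 ^ finrank K W := by rw [Module.natCard_eq_pow_finrank (K := K), hK]
  have h5 : finrank K X = 6 := by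
    have h6 := Module.natCard_eq_pow_finrank (K := K) (V := X)
    rw [hX, hK] at h6
    exact (Nat.pow_right_injective (le_refl 2 |>.trans (by norm_num)) h6).symm
  have h6 : finrank K W ≤ 6 := h5 ▸ Submodule.finrank_le W
  rw [h3, h4, hX] at h2
  obtain ⟨i, hi⟩ : ∃ i, i = finrank K W := ⟨_, rfl⟩
  rw [← hi] at h2 h6
  have h7 : i = 0 ∨ i = 6 := by
    revert h2
    interval_cases i <;> decide
  rcases h7 with h7 | h7
  · rw [hi, finrank_eq_zero_iff_of_free] at h7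
    have h8 := (hW x).2 hx
    exact congrArg Subtype.val (Subsingleton.elim (⟨x, h8⟩ : W) 0)
  · exfalso
    have h8 : W = ⊤ := Submodule.eq_top_of_finrank_eq (by rw [← hi, h7, h5])
    have h9 : b = 1 := by
      apply LinearEquiv.ext
      intro y
      exact (hW y).1 (by rw [h8]; trivial)
    rw [h9, orderOf_one] at hb
    norm_num at hb

section main

variable (K : Type u) [Field K] [Finite K] (a b : K)
  (hab : ∀ z₁ z₂ : K, z₁ ^ 2 + a * z₁ * z₂ + b * z₂ ^ 2 = 0 → z₁ = 0 ∧ z₂ = 0)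

theorem card_GL1 : Nat.card (GL (Fin 1) K) = Nat.card K - 1 := by
  let _ := Fintype.ofFinite K
  have h := Matrix.card_GL_field (𝔽 := K) 1
  rw [h, Nat.card_eq_fintype_card]
  simp only [_root_.Finset.univ_unique, _root_.Fin.default_eq_zero, _root_.Fin.isValue, _root_.pow_one, _root_.Fin.val_eq_zero, _root_.pow_zero, _root_.Finset.prod_const, _root_.Finset.card_singleton]

/-- `O⁻₈(3)` -/
theorem ch_o8m3 (hK : Nat.card K = 3) : ∃ (χ : (CForm.minusF K 3 a b hab).iso → ℂ) (d : ℕ),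
    IsIrrCharacter (CForm.minusF K 3 a b hab).iso χ ∧ χ 1 = (d : ℂ) ∧ 15 ∣ d := by
  classical
  obtain ⟨e, f, j, h⟩ := CForm.frm_minus (K := K) hab (k := 1) (n := 2) (m := 3) rfl
  obtain ⟨ψ, ψ', s, t, hψ, hψ', hψ1, hψ1', hs, ht, hsum, -⟩ := sum_minus K a b hab (l := 2) le_rfl
  have := finite_iso (CForm.minusF K 2 a b hab)
  rw [hK] at hs ht
  norm_num at hs ht
  have es : s = 90 := by omega
  have et : t = 21 := by omega
  subst es
  subst et
  have hψq : ∀ g, ∃ q : ℚ, ψ g = q := rat_of_sum hψ hψ' hsum hψ1 hψ1' (by norm_num) (by norm_num)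
  have hX : Nat.card ((Fin 2 ⊕ Fin 2) ⊕ Fin 2 → K) = 3 ^ 6 := by
    rw [Nat.card_fun, hK]
    simp
  have hU : Nat.card (CForm.Us (CForm.minusF K 3 a b hab) e) = 3 ^ 6 := by
    rw [card_Us1 h rfl (fun x => rfl) (fun x => rfl), hX]
  have := finite_iso (CForm.minusF K 3 a b hab)
  let _ : Fintype (CForm.minusF K 3 a b hab).iso := Fintype.ofFinite _
  let _ : Fintype (stabW (CForm.minusF K 3 a b hab).iso.subtype (Submodule.span K (Set.range e))) :=
    Fintype.ofFinite _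
  let _ : Fintype (CForm.Us (CForm.minusF K 3 a b hab) e) := Fintype.ofFinite _
  obtain ⟨w, hw1, hw2, hw3⟩ := h.exists_w
  have hcmp := h.cmp rfl
  obtain ⟨pr, hρ1, hρ2, hρ3⟩ := hcmp.exists_rho
  have hsurj : Function.Surjective pr := fun b => by
    obtain ⟨g, hg, -⟩ := hρ3 1 b
    exact ⟨g, hg⟩
  obtain ⟨m, ρ₀, hρ₀, rfl⟩ := id hψ
  let bb : Basis (Fin 1) K (Submodule.span K (Set.range e)) := finBasisOfFinrankEq K _ h.mem_Om.2
  have hG : Nat.card (GL (Fin 1) K) = 2 := by rw [card_GL1, hK]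
  obtain ⟨c, hc1, hcq⟩ := exists_sign hG
  have hcf : cfun c ≠ 1 := by
    intro h1
    apply hc1
    ext A
    exact congrFun h1 A
  have hone : IsCharacter (CForm.minusF K 2 a b hab).iso (fun _ => (1 : ℂ)) := Core.isIrr_isCharacter Core.isIrr_one
  have hθ := Core.isCharacter_add hone (Core.isIrr_isCharacter hψ')
  obtain ⟨hn, A, c', d, χ₁, χ₂, ⟨h1, h2, -, h3, h4, h5, h6, h7⟩, -, hTT, hA2, -⟩ := h.two_data rfl one_pos rfl
    hw1 hw2 hw3 bb (c := c) (fun A => inv_of_two hG (φ := (CForm.minusF K 3 a b hab).iota 1)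
      (CForm.minusF K 3 a b hab).iota_iota A) (isCusp_fin1 c) hcq hρ1 hρ2 hsurj ρ₀ hψ hψ1 hψq
    (fun W' hW' k1 k2 => CForm.van_pt1 hcmp (isIrr_cfun c) hcf (Core.isIrr_isCharacter hψ) hθ
      (fun g => by rw [hsum g, Pi.add_apply]; ring) hρ1 hρ2 h.mem_Om hW' k1 k2) Nat.prime_three hU
  -- the number of points
  have hOm : Nat.card ((CForm.minusF K 3 a b hab).Om 1) = 1066 := by
    have h8 := (CForm.minusF K 3 a b hab).card_iso_eq h.mem_Om
    rw [h.card_par rfl, hU, hG, card_minusF, card_minusF, hK] at h8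
    obtain ⟨n, hn⟩ : ∃ n, n = Nat.card ((CForm.minusF K 3 a b hab).Om 1) := ⟨_, rfl⟩
    rw [← hn] at h8 ⊢
    norm_num [Finset.prod_range_succ] at h8
    omega
  rw [hOm] at h5
  -- the element of order `7`
  have h7A : 7 ∣ A := by
    obtain ⟨t, ht⟩ : ∃ t : (CForm.minusF K 2 a b hab).iso, orderOf t = 7 := by
      have : Fact (Nat.Prime 7) := ⟨by norm_num⟩
      refine exists_prime_orderOf_dvd_card' 7 ?_
      rw [card_minusF, hK]
      norm_num [Finset.prod_range_succ]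
    obtain ⟨g, ge, gf, gj⟩ := glue1 h rfl t
    have gpow : ∀ n : ℕ, ((g ^ n : (CForm.minusF K 3 a b hab).iso) : _ ≃ₗ[K] _) (e 0) = e 0 ∧
        ((g ^ n : (CForm.minusF K 3 a b hab).iso) : _ ≃ₗ[K] _) (f 0) = f 0 ∧
        ∀ x, ((g ^ n : (CForm.minusF K 3 a b hab).iso) : _ ≃ₗ[K] _) (j x) =
          j (((t ^ n : (CForm.minusF K 2 a b hab).iso) : _ ≃ₗ[K] _) x) := by
      intro n
      induction n with
      | zero => exact ⟨rfl, rfl, fun x => rfl⟩
      | succ n ih =>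
        rw [pow_succ', pow_succ']
        refine ⟨?_, ?_, fun x => ?_⟩
        · rw [mul_apply', ih.1, ge]
        · rw [mul_apply', ih.2.1, gf]
        · rw [mul_apply', ih.2.2, gj, mul_apply']
    have hg7 : g ^ 7 = 1 := by
      have h8 := gpow 7
      refine ext1 h rfl h8.1 h8.2.1 fun x => ?_
      rw [h8.2.2, ← ht, pow_orderOf_eq_one]
      rfl
    have hgP : g ∈ stabW (CForm.minusF K 3 a b hab).iso.subtype (Submodule.span K (Set.range e)) := by
      rw [mem_par]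
      intro i
      rw [Subsingleton.elim i 0, ge]
      exact Submodule.subset_span ⟨0, rfl⟩
    have hwj : ∀ x, (w : _ ≃ₗ[K] _) (j x) = j x := fun x => hw3 _ (fun i => h.hje x i) (fun i => h.hjf x i)
    have hgw : g * w = w * g := by
      refine ext1 h rfl ?_ ?_ fun x => ?_
      · rw [mul_apply', mul_apply', hw1, ge, hw1, gf]
      · rw [mul_apply', mul_apply', hw2, gf, hw2, map_smul, ge]
      · rw [mul_apply', mul_apply', hwj, gj, hwj]
    have htc : orderOf (t : ((Fin 2 ⊕ Fin 2) ⊕ Fin 2 → K) ≃ₗ[K] ((Fin 2 ⊕ Fin 2) ⊕ Fin 2 → K)) = 7 := by rw [← ht]; exact Subgroup.orderOf_coe t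
    have hfix : ∀ v, (g : _ ≃ₗ[K] _) v = v → ∃ x y : K, v = x • e 0 + y • f 0 := by
      intro v hv
      obtain ⟨x, hx⟩ := dec1 h rfl v
      have h8 : (t : _ ≃ₗ[K] _) x = x := by
        apply h.hyp.inj
        rw [← gj]
        rw [hx, map_add, map_add, map_smul, map_smul, ge, gf] at hv
        exact add_left_cancel hv
      have h9 := fix_zero hK hX htc h8
      rw [h9, map_zero, add_zero] at hx
      exact ⟨_, _, hx⟩
    have hcU : ∀ u : CForm.Us (CForm.minusF K 3 a b hab) e, g * (u : (CForm.minusF K 3 a b hab).iso) = u * g →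
        u = 1 := by
      intro u hu
      have h8 : (g : _ ≃ₗ[K] _) (((u : (CForm.minusF K 3 a b hab).iso) : ((Fin 3 ⊕ Fin 3) ⊕ Fin 2 → K) ≃ₗ[K] ((Fin 3 ⊕ Fin 3) ⊕ Fin 2 → K)) (f 0)) =
          ((u : (CForm.minusF K 3 a b hab).iso) : ((Fin 3 ⊕ Fin 3) ⊕ Fin 2 → K) ≃ₗ[K] ((Fin 3 ⊕ Fin 3) ⊕ Fin 2 → K)) (f 0) := by
        rw [← mul_apply', hu, mul_apply', gf]
      obtain ⟨x, y, hxy⟩ := hfix _ h8
      have h9 : (CForm.minusF K 3 a b hab).Q (((u : (CForm.minusF K 3 a b hab).iso) : ((Fin 3 ⊕ Fin 3) ⊕ Fin 2 → K) ≃ₗ[K] ((Fin 3 ⊕ Fin 3) ⊕ Fin 2 → K)) (f 0)) = 0 := by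
        rw [(CForm.minusF K 3 a b hab).iso_Q, h.hQf]
      have h10 : (CForm.minusF K 3 a b hab).B (((u : (CForm.minusF K 3 a b hab).iso) : ((Fin 3 ⊕ Fin 3) ⊕ Fin 2 → K) ≃ₗ[K] ((Fin 3 ⊕ Fin 3) ⊕ Fin 2 → K)) (f 0)) (e 0) = 1 := by
        nth_rewrite 1 [← Us_e u.2 0]
        rw [(CForm.minusF K 3 a b hab).iso_B, h.hfe, if_pos rfl]
        rfl
      have hσ : ∀ x, (CForm.minusF K 3 a b hab).σ x = x := fun x => rfl
      have hT : ∀ x, (CForm.minusF K 3 a b hab).T x = x := fun x => rfl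
      rw [hxy, (CForm.minusF K 3 a b hab).B_add_left, (CForm.minusF K 3 a b hab).B_smul_left,
        (CForm.minusF K 3 a b hab).B_smul_left, h.hee, h.hfe, if_pos rfl] at h10
      have h11 : y = 1 := by
        have : x * 0 + y * (1 : K) = 1 := h10
        linear_combination this
      rw [hxy, (CForm.minusF K 3 a b hab).Q_add, (CForm.minusF K 3 a b hab).Q_smul,
        (CForm.minusF K 3 a b hab).Q_smul, h.hQe, h.hQf, hT, (CForm.minusF K 3 a b hab).B_smul_left,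
        (CForm.minusF K 3 a b hab).B_smul_right, h.hef, if_pos rfl, hσ, h11] at h9
      have h12 : x = 0 := by
        simp only [map_one, mul_zero, mul_one, zero_add] at h9
        exact h9
      apply Subtype.ext
      refine h.Us_eq_one u.2 fun i => ?_
      rw [Subsingleton.elim i 0, hxy, h12, h11, zero_smul, zero_add, one_smul]
      exact Submodule.subset_span ⟨0, rfl⟩
    obtain ⟨z, hz, hAz⟩ := hn.A_mod hTT (r := 7) (by norm_num) hgP hgP hg7 hg7 hgw hgw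
    have hww : w * w = 1 := h.w_sq rfl hw1 hw2 hw3
    rw [Finset.sum_eq_zero ?hz0, zero_add] at hAz
    case hz0 =>
      intro x hx
      simp only [Finset.mem_filter, Finset.mem_univ, true_and] at hx
      obtain ⟨hx1, hx2⟩ := hx
      have e1 := hcU x.1 hx1
      have e2 := hcU x.2 hx2
      rw [e1, e2, OneMemClass.coe_one, mul_one, mul_one, hww, one_mul]
      exact ext_apply_not_mem _ _ _ (fun h' => hn.wP (by simpa using Subgroup.inv_mem _ h'))
    have h90 : (crep bb c pr ρ₀).character 1 = 90 := by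
      have e1 : (crep bb c pr ρ₀).character 1 = ρ₀.character 1 := by
        rw [Representation.char_one, Representation.char_one]
      rw [e1, hψ1]
      norm_num
    rw [h90] at hAz
    obtain ⟨n, hn'⟩ := int_of_rat (z := z) hz (q := (A : ℚ) * 90 / 7) (by
      push_cast
      push_cast at hAz
      rw [eq_div_iff (by norm_num), hAz]
      ring)
    rw [hn'] at hAz
    have h8 : A * 90 = 7 * n := by exact_mod_cast hAz
    omega
  -- arithmetic
  refine ⟨χ₁, 3 ^ c' * d, h1, h3, ?_⟩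
  obtain ⟨k, rfl⟩ := h7A
  interval_cases c'
  · omega
  · exact absurd (h7 (by norm_num)) (by decide)
  · exfalso
    norm_num at hA2
    have h8 : (7 * k) ^ 2 = 49 * k ^ 2 := by ring
    rw [h8] at hA2
    obtain ⟨y, hy⟩ : ∃ y, y = k ^ 2 := ⟨_, rfl⟩
    rw [← hy] at hA2
    omega
  · exact absurd (h7 (by norm_num)) (by decide)
  · omega
  · exact absurd (h7 (by norm_num)) (by decide)
  · omega

include hab in
/-- **`PΩ⁻₈(3)` has an irreducible character of degree divisible by `15`** -/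
theorem o8m_three (hK : Nat.card K = 3) : ∃ d, 15 ∣ d ∧ Ch (POmega K (quadFormMinus 3 K a b)) d := by
  obtain ⟨p, hp⟩ := CharP.exists K
  have hpr : p.Prime := (CharP.char_is_prime_or_zero K p).resolve_right (CharP.char_ne_zero_of_finite K p)
  have : Fact p.Prime := ⟨hpr⟩
  obtain ⟨χ, d, hχ, hχ1, h15⟩ := ch_o8m3 K a b hab hK
  obtain ⟨t, ht, hidx, -⟩ := minus_t K a b hab (l := 3) le_rfl
  obtain ⟨e, i, h3, h4, h5, h6⟩ := minus_down3 K (p := p) a b hab hidx hχ hχ1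
  refine ⟨e, ?_, h3⟩
  rw [h4] at h15
  exact Nat.Coprime.dvd_of_dvd_mul_right (Nat.Coprime.pow_right _ (by norm_num)) h15

end main

end Cfsg.Agent.H722.HC
end

-- part: S4984
section
set_option autoImplicit false
open Cfsg

namespace Cfsg.Agent.S4984

/-- Let G be a finite simple symplectic group PSp_{2m}(q) (m ≥ 2, excluding PSp₄(2)) or a finite simple orthogonal group PΩ_{2m+1}(q) (m ≥ 3, q odd), PΩ⁺_{2m}(q) or PΩ⁻_{2m}(q) (m ≥ 4). Then the character degree graph of G is complete: for any two distinct primes each dividing some irreducible complex character degree of G, their product divides some irreducible character degree of G. -/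
theorem result {G : Type*} [Group G] [Finite G] (h : Cfsg.IsPSp G ∨ Cfsg.IsPOmegaOdd G ∨ Cfsg.IsPOmegaPlus G ∨ Cfsg.IsPOmegaMinus G) (r s : ℕ) (hr : r ∈ Cfsg.degreePrimes G) (hs : s ∈ Cfsg.degreePrimes G) (hrs : r ≠ s) : (Cfsg.degreeGraph G).Adj r s :=
  Cfsg.Agent.H477.HC.main4984 (fun K _ _ hK a b hab => Cfsg.Agent.H722.HC.o8m_three K a b hab hK) h r s hr hs hrs

end Cfsg.Agent.S4984
end

private theorem dce_2b9e255ec790 : _root_.True := by
  try have : _root_.True := by simp only [_root_.Cfsg.Agent.H477.HC.MG.eq_1]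
  exact _root_.True.intro
end
end
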