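import Cfsg.Statements.S4997
import Cfsg.Agent.H727.VanOne
set_option linter.all false

set_option autoImplicit false
open Cfsg

namespace Cfsg.Agent.S4997

theorem oneVan {G : Type*} [Group G] [Finite G] (p : ℕ)
    (h1 : Set.ncard {C : ConjClasses G | (∀ g ∈ C.carrier, ∃ χ : Cfsg.IrrCharacter G,
      (χ : G → ℂ) g = 0) ∧ ∃ g ∈ C.carrier, p ∣ orderOf g} = 1) :
    Cfsg.Agent.H727.VanEl.OneVan p G := by
  intro x y hx hxp hy hyp
  obtain ⟨C, hC⟩ := Set.ncard_eq_one.1 h1
  have hmem : ∀ z : G, Cfsg.Agent.H727.VanEl.Van z → p ∣ orderOf z →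
      ConjClasses.mk z ∈ {C : ConjClasses G | (∀ g ∈ C.carrier, ∃ χ : Cfsg.IrrCharacter G,
      (χ : G → ℂ) g = 0) ∧ ∃ g ∈ C.carrier, p ∣ orderOf g} := by
    intro z hz hzp
    refine ⟨fun g hg => ?_, z, ConjClasses.mem_carrier_mk, hzp⟩
    have h2 : IsConj z g := by
      rw [ConjClasses.mem_carrier_iff_mk_eq, ConjClasses.mk_eq_mk_iff_isConj] at hg
      exact hg.symm
    exact Cfsg.Agent.H727.VanEl.van_of_conj h2 hz
  have hx' := hmem x hx hxp
  have hy' := hmem y hy hyp
  rw [hC, Set.mem_singleton_iff] at hx' hy'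
  exact ConjClasses.mk_eq_mk_iff_isConj.1 (hx'.trans hy'.symm)

/-- Let p be an odd prime and G a finite solvable group with exactly one conjugacy class consisting of vanishing elements (elements at which some irreducible complex character is zero) of order divisible by p. Let P be a Sylow p-subgroup of G. Then the order of P is at most p times the order of the largest normal p-subgroup of G. -/
theorem result {G : Type*} [Group G] [Finite G] (hsolv : Group.IsSolvable G) (p : ℕ) [Fact p.Prime] (hp : p ≠ 2) (h1 : Set.ncard {C : ConjClasses G | (∀ g ∈ C.carrier, ∃ χ : Cfsg.IrrCharacter G, (χ : G → ℂ) g = 0) ∧ ∃ g ∈ C.carrier, p ∣ orderOf g} = 1) (P : Sylow p G) : Nat.card ↥(P : Subgroup G) ≤ p * Nat.card ↥(Cfsg.pCore p G) := by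
  have h2 := Cfsg.Agent.H727.VanEl.not_sq_dvd_index_pCore (p := p) _ G rfl hsolv (oneVan p h1)
  have hle : Cfsg.pCore p G ≤ (P : Subgroup G) := Cfsg.Agent.Lib.Cores.pCore_le_sylow P
  have hcard : (Cfsg.pCore p G).relIndex (P : Subgroup G) * Nat.card ↥(Cfsg.pCore p G) =
      Nat.card ↥(P : Subgroup G) := by
    have h3 := Subgroup.relIndex_mul_relIndex ⊥ (Cfsg.pCore p G) (P : Subgroup G) bot_le hle
    rw [Subgroup.relIndex_bot_left, Subgroup.relIndex_bot_left, mul_comm] at h3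
    exact h3
  rw [← hcard]
  refine Nat.mul_le_mul_right _ ?_
  have hdvd : (Cfsg.pCore p G).relIndex (P : Subgroup G) ∣ (Cfsg.pCore p G).index :=
    Subgroup.relIndex_dvd_index_of_le hle
  obtain ⟨k, hk⟩ := IsPGroup.iff_card.1 P.isPGroup'
  have hdvd2 : (Cfsg.pCore p G).relIndex (P : Subgroup G) ∣ p ^ k := by
    rw [← hk, ← hcard]
    exact Dvd.intro _ rfl
  obtain ⟨j, -, hj⟩ := (Nat.dvd_prime_pow (Fact.out : p.Prime)).1 hdvd2
  rw [hj] at hdvd ⊢
  have hj2 : j < 2 := by
    by_contra hcon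
    exact h2 ((pow_dvd_pow p (not_lt.1 hcon)).trans hdvd)
  calc p ^ j ≤ p ^ 1 := Nat.pow_le_pow_right (Fact.out : p.Prime).pos (by omega)
    _ = p := pow_one p

end Cfsg.Agent.S4997
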