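import Cfsg.Agent.H771.FunctorQd
import Cfsg.Agent.H782.QdIff
import Cfsg.Agent.H40.ZJFunctor
import Cfsg.Agent.H40.QdTwo
import Cfsg.Agent.TwoFusion.S4FreeFunctor
import Cfsg.Agent.S0664
import Cfsg.Agent.S0665
import Cfsg.Statements.S5282
import Cfsg.Agent.H759.FusSolvable
import Cfsg.Agent.S5090
set_option linter.all false

-- part: H753/QdNormal
section
/-!
# Saturated systems without natural sections have a nontrivial normal subgroup
-/

set_option autoImplicit false
universe u
open Cfsg Cfsg.FusionSystem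
open Cfsg.Agent.H782.QdFus

namespace Cfsg.Agent.H753

/-- A nontrivial characteristic functor whose value at a Sylow `p`-subgroup is normal in every `Qd(p)`-free group
of characteristic `p`. -/
theorem exists_qd_functor (p : ℕ) [Fact p.Prime] : ∃ W : ∀ (Q : Type u) [Group Q], Subgroup Q,
    (∀ (Q : Type u) [Group Q] [Finite Q], IsPGroup p Q → Nontrivial Q → W Q ≠ ⊥) ∧
    (∀ (Q R : Type u) [Group Q] [Group R] [Finite Q], IsPGroup p Q → ∀ φ : Q ≃* R,
      (W Q).map φ.toMonoidHom = W R) ∧
    (∀ (L : Type u) [Group L] [Finite L] (P : Sylow p L),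
      Subgroup.centralizer ((Cfsg.pCore p L : Subgroup L) : Set L) ≤ Cfsg.pCore p L →
      ¬ Cfsg.Involves ↥(Cfsg.qd p) L →
      (((W ↥(P : Subgroup L)).map (P : Subgroup L).subtype : Subgroup L)).Normal) := by
  by_cases hp : p = 2
  · subst hp
    refine ⟨fun Q _ => TwoFusion.S4FreeFunctor.WS Q, ?_, ?_, ?_⟩
    · intro Q _ _ hQ hnt
      obtain ⟨W, h1, h2, h3⟩ := Cfsg.Agent.S0665.result hQ
      intro h
      apply h1
      rw [eq_bot_iff]
      calc W ≤ TwoFusion.S4FreeFunctor.WS Q := le_sSup ⟨h2, h3⟩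
        _ = ⊥ := h
    · intro Q R _ _ _ _ φ
      exact TwoFusion.S4FreeFunctor.map_WS φ
    · intro L _ _ P hc hi
      refine (TwoFusion.S4FreeFunctor.good_WS (P : Subgroup L)).2 L (P : Subgroup L).subtype
        (P : Subgroup L).subtype_injective ⟨P, (Subgroup.range_subtype _).symm⟩ ?_ hc
      rintro ⟨K, R, hR, ⟨e⟩⟩
      obtain ⟨e'⟩ := Cfsg.Agent.H40.QdTwo.qd_two
      exact hi ⟨K, R, hR, ⟨e.trans e'.symm⟩⟩
  · refine ⟨fun Q _ => Cfsg.Agent.H40.ZJFunctor.zj Q, ?_, ?_, ?_⟩
    · intro Q _ _ hQ hnt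
      exact (Cfsg.Agent.H40.ZJFunctor.isCharPFunctor_zj p).1 Q hQ hnt
    · intro Q R _ _ _ hQ φ
      exact (Cfsg.Agent.H40.ZJFunctor.isCharPFunctor_zj p).2 Q R hQ φ
    · intro L _ _ P hc hi
      have h1 := Cfsg.Agent.S0664.result hp hi hc P
      rw [← Cfsg.Agent.H40.ZJFunctor.induced_zj] at h1
      exact h1

/-- **A saturated system over a nontrivial finite `p`-group without natural sections (that is, `Qd(p)`-free) has a
nontrivial normal subgroup.** -/
theorem exists_isNormal_of_not_hasNat {Ω : Type u} [Group Ω] {S : Subgroup Ω} [Finite S] {p : ℕ}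
    [Fact p.Prime] (hS : IsPGroup p S) (hS1 : S ≠ ⊥) (F : FusionSystem S) (hF : F.IsSaturated p)
    (hnat : ¬ HasNat p F) : ∃ W : Subgroup Ω, W ≠ ⊥ ∧ F.IsNormal W := by
  obtain ⟨W, hW1, hW2, hW3⟩ := exists_qd_functor.{u} p
  have hn := Cfsg.Agent.H771.functor_isNormal W hW1 hW2 hW3 hS F hF hnat
  have hnt : Nontrivial S := (Subgroup.nontrivial_iff_ne_bot S).2 hS1
  refine ⟨(W S).map S.subtype, ?_, hn⟩
  intro h
  rw [Subgroup.map_eq_bot_iff_of_injective _ S.subtype_injective] at h
  exact hW1 S hS hnt h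

end Cfsg.Agent.H753
end

-- part: S5282
section
set_option autoImplicit false
open Cfsg

namespace Cfsg.Agent.S5282

/-- Let p be a prime and F a saturated fusion system over a finite p-group S that is Qd(p)-free: the semidirect product of an elementary abelian group of order p² by SL₂(p) acting naturally (the symmetric group of degree 4 when p = 2) is not involved in any model of the normalizer system of a fully normalized F-centric subgroup. Then F is realizable — it is the fusion system of some finite group on a Sylow p-subgroup — and F is a solvable fusion system. -/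
theorem result {Ω : Type*} [Group Ω] {S : Subgroup Ω} [Finite S] (p : ℕ) [Fact p.Prime] (hS : IsPGroup p ↥S) (F : Cfsg.FusionSystem S) (hF : F.IsSaturated p) (hfree : F.IsSectionFree p ↥(Cfsg.qd p)) : F.IsRealizable p ∧ F.IsSolvableSystem := by
  have hnat := (Cfsg.Agent.H782.QdIff.isSectionFree_qd_iff hS hF).1 hfree
  have hsol : F.IsSolvableSystem := by
    intro R hR hRS _ E hE
    have hEsat : E.IsSaturated p := Cfsg.Agent.H759.isSaturated_factor hS hF hR hE
    have hEnat : ¬ Cfsg.Agent.H782.QdFus.HasNat p E :=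
      fun h => hnat (Cfsg.Agent.H771.hasNat_of_factor hE h)
    have htop : IsPGroup p ↥(⊤ : Subgroup (↥S ⧸ R.subgroupOf S)) :=
      (hS.to_quotient (R.subgroupOf S)).to_subgroup ⊤
    have hne : (⊤ : Subgroup (↥S ⧸ R.subgroupOf S)) ≠ ⊥ := by
      intro h
      apply hRS
      apply le_antisymm hR.1
      have h1 : R.subgroupOf S = ⊤ := by
        rw [← QuotientGroup.ker_mk' (R.subgroupOf S), MonoidHom.ker_eq_top_iff]
        ext x
        have := Subgroup.mem_top (QuotientGroup.mk' (R.subgroupOf S) x)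
        rw [h, Subgroup.mem_bot] at this
        simpa using this
      exact Subgroup.subgroupOf_eq_top.1 h1
    obtain ⟨W, hW, hWn⟩ := Cfsg.Agent.H753.exists_isNormal_of_not_hasNat htop hne E hEsat hEnat
    intro hcore
    apply hW
    rw [eq_bot_iff, ← hcore]
    exact le_sSup hWn
  refine ⟨?_, hsol⟩
  have hch := Cfsg.Agent.H759.hasChain_of_isSolvableSystem hS hF hsol ⊥
    Cfsg.Agent.H759.StronglyClosed.bot
  have hcon := Cfsg.Agent.H759.isConstrained_of_hasChain hS hF hch
  obtain ⟨G, hG, ι, hM⟩ := Cfsg.Agent.S5090.result p hS F hcon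
  exact ⟨G, hG, hM.1, ι, hM.2.1, hM.2.2.1⟩

end Cfsg.Agent.S5282
end
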