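import Cfsg.Agent.H751.Constr
import Cfsg.Agent.HexGlob.Bend
import Cfsg.Agent.StrongEmb.Strong
import Cfsg.Agent.S1169
import Cfsg.Statements.S5147
import Cfsg.Agent.FastGrp
import Cfsg.Agent.Prune
set_option linter.all false
open scoped Cfsg.Agent.FastGrp

-- part: H745/GoldConstr
section
/-!
# Simple groups whose 2-fusion system has a nontrivial normal subgroup (helper745)

* `isNormal_self_of_ti`: a TI Sylow subgroup is normal in its fusion system.
* `isNormal_map_center`: normal subgroups of the fusion system of `K` and the factor group by a central subgroup.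
* `isNormal_self_of_simple`: in a nonabelian simple group whose 2-fusion system has a nontrivial normal subgroup, the
  Sylow 2-subgroup is normal in the fusion system (Goldschmidt, Bender).
* `isConstrained_center_quotient`: quasisimple groups with constrained 2-fusion system.
-/

set_option autoImplicit false

namespace Cfsg.Agent.H745

open Cfsg Cfsg.FusionSystem Subgroup

universe u

/-- Conjugation by an element of `N_G(S)` is a map of the fusion system with image `S`. -/
theorem conjHom_map_self {G : Type*} [Group G] {S P : Subgroup G} (hP : P ≤ S) {g : G}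
    (hg : g ∈ normalizer (S : Set G)) :
    conjHom (P ⊔ S) g ∈ (groupFusionSystem S).Hom (P ⊔ S) ∧
      (S.subgroupOf (P ⊔ S)).map (conjHom (P ⊔ S) g) = S := by
  have hPS : P ⊔ S ≤ S := sup_le hP le_rfl
  refine ⟨⟨hPS, fun x => ?_, g, fun x => rfl⟩, ?_⟩
  · exact (mem_normalizer_iff.1 hg _).1 (hPS x.2)
  · ext y
    constructor
    · rintro ⟨x, hx, rfl⟩
      exact (mem_normalizer_iff.1 hg _).1 hx
    · intro hy
      have h1 : g⁻¹ * y * g ∈ S := by
        have h2 := (mem_normalizer_iff.1 (inv_mem hg) y).1 hy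
        rwa [inv_inv] at h2
      refine ⟨⟨g⁻¹ * y * g, (le_sup_right : S ≤ P ⊔ S) h1⟩, h1, ?_⟩
      show g * (g⁻¹ * y * g) * g⁻¹ = y
      group

/-- A TI subgroup is normal in its fusion system. -/
theorem isNormal_self_of_ti {G : Type*} [Group G] {S : Subgroup G}
    (h : ∀ g : G, ∀ x ∈ S, x ≠ 1 → g * x * g⁻¹ ∈ S → g ∈ normalizer (S : Set G)) :
    (groupFusionSystem S).IsNormal S := by
  refine ⟨le_rfl, ?_⟩
  rintro P φ ⟨hP, hφS, g, hg⟩
  by_cases hex : ∃ x : P, x ≠ 1
  · obtain ⟨x, hx⟩ := hex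
    have hgN : g ∈ normalizer (S : Set G) := by
      refine h g x (hP x.2) (fun h1 => hx (Subtype.ext h1)) ?_
      rw [← hg]; exact hφS x
    obtain ⟨h1, h2⟩ := conjHom_map_self hP hgN
    exact ⟨_, h1, fun x => (hg x).symm, h2⟩
  · push Not at hex
    obtain ⟨h1, h2⟩ := conjHom_map_self hP (one_mem (normalizer (S : Set G)))
    refine ⟨_, h1, fun x => ?_, h2⟩
    rw [hex x, map_one, map_one, map_one]

/-- If the Sylow subgroup is normal in the fusion system, the system is constrained. -/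
theorem isConstrained_of_isNormal_self {Ω : Type*} [Group Ω] {S : Subgroup Ω} [Finite S]
    {F : FusionSystem S} {p : ℕ} (hF : F.IsSaturated p) (h : F.IsNormal S) : F.IsConstrained p := by
  refine ⟨hF, S, h, le_rfl, ?_⟩
  rintro R ⟨φ, hφ, rfl⟩ z hz
  have h1 : φ.range = S := H802.range_eq_of_mapsTo hφ (H802.hom_apply_mem hφ)
  rw [h1]
  exact hz.1

/-- Normal subgroups of the fusion system pass to the quotient by a central subgroup. -/
theorem isNormal_map_center {K : Type*} [Group K] [Finite K] {p : ℕ} [Fact p.Prime] (T : Sylow p K)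
    {Q : Subgroup K} (hQ : (groupFusionSystem (T : Subgroup K)).IsNormal Q) :
    (groupFusionSystem ((T : Subgroup K).map (QuotientGroup.mk' (center K)))).IsNormal
      (Q.map (QuotientGroup.mk' (center K))) := by
  set π := QuotientGroup.mk' (center K) with hπ
  refine ⟨map_mono hQ.1, ?_⟩
  rintro P' φ' ⟨hP', hφ', g', hg'⟩
  obtain ⟨g, rfl⟩ := QuotientGroup.mk'_surjective (center K) g'
  rw [← hπ] at hg'
  set P := (T : Subgroup K) ⊓ P'.comap π with hP
  have hPT : P ≤ (T : Subgroup K) := inf_le_left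
  have hPmap : P.map π = P' := by
    apply le_antisymm
    · rintro _ ⟨x, hx, rfl⟩
      exact hx.2
    · intro x hx
      obtain ⟨t, ht, rfl⟩ := hP' hx
      exact ⟨t, ⟨ht, hx⟩, rfl⟩
  -- conjugation by `g` carries `P` into `T`
  have hgT : ∀ x ∈ P, g * x * g⁻¹ ∈ (T : Subgroup K) := by
    intro x hx
    have h1 : π g * π x * (π g)⁻¹ ∈ (T : Subgroup K).map π := by
      have h2 := hφ' ⟨π x, hx.2⟩
      rw [hg'] at h2
      exact h2
    rw [← map_mul, ← map_inv, ← map_mul] at h1
    obtain ⟨t, ht, htx⟩ := h1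
    have h3 : t⁻¹ * (g * x * g⁻¹) ∈ center K := QuotientGroup.eq.1 htx
    have hN : g * x * g⁻¹ ∈ normalizer ((T : Subgroup K) : Set K) := by
      have h4 : g * x * g⁻¹ = t * (t⁻¹ * (g * x * g⁻¹)) := by group
      rw [h4]
      refine mul_mem (le_normalizer ht) ?_
      exact ((Subgroup.center_le_centralizer _).trans (centralizer_le_normalizer _)) h3
    have h5 : g * x * g⁻¹ ∈ (T : Subgroup K).map (MulAut.conj g).toMonoidHom := ⟨x, hx.1, rfl⟩
    exact (((T.2.map (MulAut.conj g).toMonoidHom).inf_normalizer_sylow T).le ⟨h5, hN⟩).2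
  obtain ⟨ψ, ⟨hψ1, hψ2, k, hψ3⟩, h1, h2⟩ := hQ.2 P (conjHom P g) ⟨hPT, fun x => hgT x x.2, g, fun x => rfl⟩
  have hsup : P' ⊔ Q.map π = (P ⊔ Q).map π := by rw [Subgroup.map_sup, hPmap]
  refine ⟨conjHom (P' ⊔ Q.map π) (π k), ⟨sup_le hP' (map_mono hQ.1), fun x => ?_, π k, fun x => rfl⟩,
    fun x => ?_, ?_⟩
  · have hx : (x : K ⧸ center K) ∈ (P ⊔ Q).map π := by rw [← hsup]; exact x.2
    obtain ⟨y, hy, hyx⟩ := hx
    have h4 := hψ2 ⟨y, hy⟩
    rw [hψ3] at h4
    refine ⟨_, h4, ?_⟩
    show π (k * y * k⁻¹) = π k * (x : K ⧸ center K) * (π k)⁻¹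
    rw [map_mul, map_mul, map_inv, hyx]
  · have hx : (x : K ⧸ center K) ∈ P.map π := by rw [hPmap]; exact x.2
    obtain ⟨y, hy, hyx⟩ := hx
    have h4 : k * y * k⁻¹ = g * y * g⁻¹ := by
      have h5 := h1 ⟨y, hy⟩
      rw [hψ3] at h5
      exact h5
    rw [hg']
    show π k * (x : K ⧸ center K) * (π k)⁻¹ = π g * x * (π g)⁻¹
    rw [← hyx, ← map_mul, ← map_inv, ← map_mul, h4, map_mul, map_mul, map_inv]
  · have hkQ : ∀ y, y ∈ Q → k * y * k⁻¹ ∈ Q := by
      intro y hy
      have h4 : ψ ⟨y, (le_sup_right : Q ≤ P ⊔ Q) hy⟩ ∈ (Q.subgroupOf (P ⊔ Q)).map ψ := ⟨_, hy, rfl⟩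
      rw [h2, hψ3] at h4
      exact h4
    ext z
    constructor
    · rintro ⟨x, hx, rfl⟩
      obtain ⟨y, hy, hyx⟩ : (x : K ⧸ center K) ∈ Q.map π := hx
      refine ⟨_, hkQ y hy, ?_⟩
      show π (k * y * k⁻¹) = π k * (x : K ⧸ center K) * (π k)⁻¹
      rw [map_mul, map_mul, map_inv, hyx]
    · rintro ⟨y, hy, rfl⟩
      have hy' : y ∈ (Q.subgroupOf (P ⊔ Q)).map ψ := by rw [h2]; exact hy
      obtain ⟨w, hw, hwy⟩ := hy'
      rw [hψ3] at hwy
      have hwQ : (w : K) ∈ Q := hw
      refine ⟨⟨π w, (le_sup_right : Q.map π ≤ P' ⊔ Q.map π) ⟨w, hwQ, rfl⟩⟩, ⟨w, hwQ, rfl⟩, ?_⟩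
      show π k * π w * (π k)⁻¹ = π y
      rw [← hwy, map_mul, map_mul, map_inv]

/-- In a nonabelian simple group whose 2-fusion system has a nontrivial normal subgroup, the Sylow 2-subgroup is
normal in the fusion system. -/
theorem isNormal_self_of_simple {G : Type u} [Group G] [Finite G] [IsSimpleGroup G]
    (hna : ∃ a b : G, a * b ≠ b * a) (S : Sylow 2 G) {Q : Subgroup G}
    (hQ : (groupFusionSystem (S : Subgroup G)).IsNormal Q) (hQ1 : Q ≠ ⊥) :
    (groupFusionSystem (S : Subgroup G)).IsNormal (S : Subgroup G) := by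
  have hsat := H802.groupFusionSystem_isSaturated S
  have hcc := H751.stronglyClosed_map_char hQ (Subgroup.center Q)
  set A := (Subgroup.center Q).map Q.subtype with hA
  have hAS : A ≤ (S : Subgroup G) := hcc.1
  have hQS : Q ≤ (S : Subgroup G) := hQ.1
  have hQp : IsPGroup 2 Q := S.2.to_le hQS
  have hA1 : A ≠ ⊥ := by
    intro h
    have hnt : Nontrivial Q := (Subgroup.nontrivial_iff_ne_bot Q).2 hQ1
    have h1 := hQp.bot_lt_center
    rw [hA, Subgroup.map_eq_bot_iff_of_injective _ Q.subtype_injective] at h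
    exact h1.ne' h
  have hAc : IsMulCommutative A := by
    refine ⟨⟨?_⟩⟩
    rintro ⟨_, x, hx, rfl⟩ ⟨_, y, hy, rfl⟩
    apply Subtype.ext
    show (x : G) * y = y * x
    exact congrArg Subtype.val (Subgroup.mem_center_iff.1 hy x)
  have hAsc : IsStronglyClosed A (S : Subgroup G) := by
    refine ⟨hAS, fun a ha g hg => ?_⟩
    have hz : zpowers a ≤ A := by rw [zpowers_le]; exact ha
    have h1 : ∀ x ∈ zpowers a, g * x * g⁻¹ ∈ (S : Subgroup G) := by
      rintro _ ⟨i, rfl⟩
      show g * a ^ i * g⁻¹ ∈ (S : Subgroup G)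
      rw [← conj_zpow]
      exact zpow_mem hg i
    exact hcc.2 (zpowers a) hz (conjHom (zpowers a) g)
      ⟨hz.trans hAS, fun x => h1 x x.2, g, fun x => rfl⟩ ⟨a, mem_zpowers a⟩
  rcases S1169.result S A hA1 hAc hAsc with hab | ⟨H, hH⟩
  · refine H759.isNormal_of_abelian S.2 hsat H759.StronglyClosed.top ?_
    rw [Subgroup.commutator_eq_bot_iff_le_centralizer]
    intro x hx
    rw [mem_centralizer_iff]
    intro y hy
    exact congrArg Subtype.val (hab.is_comm.comm (⟨y, hy⟩ : (S : Subgroup G)) ⟨x, hx⟩)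
  · obtain ⟨R, hR, hRp⟩ := StrongEmb.Strong.exists_isSplit hna H hH
    obtain ⟨P, hPH, hHP⟩ := HexGlob.Bend.exists_sylow_of_isSplit hH hR hRp
    obtain ⟨k, hk⟩ := MulAction.exists_smul_eq G P S
    have hS : ∀ x : G, x ∈ (S : Subgroup G) ↔ k⁻¹ * x * k ∈ (P : Subgroup G) := by
      intro x
      rw [← hk, Sylow.coe_subgroup_smul, Subgroup.mem_pointwise_smul_iff_inv_smul_mem]
      have h1 : (MulAut.conj k)⁻¹ • x = k⁻¹ * x * k := by
        rw [← map_inv]
        show k⁻¹ * x * k⁻¹⁻¹ = _
        rw [inv_inv]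
      rw [h1]
    apply isNormal_self_of_ti
    intro g x hx hx1 hgx
    set y := k⁻¹ * x * k with hy
    have hyP : y ∈ (P : Subgroup G) := (hS x).1 hx
    have hy1 : y ≠ 1 := by
      intro h
      apply hx1
      have : x = k * y * k⁻¹ := by rw [hy]; group
      rw [this, h]; group
    set g1 := k⁻¹ * g * k with hg1
    have hg1y : g1 * y * g1⁻¹ ∈ (P : Subgroup G) := by
      have h1 := (hS _).1 hgx
      have h2 : g1 * y * g1⁻¹ = k⁻¹ * (g * x * g⁻¹) * k := by rw [hg1, hy]; group
      rw [h2]; exact h1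
    obtain ⟨j, hj⟩ := (IsPGroup.iff_orderOf.1 P.2) ⟨y, hyP⟩
    rw [Subgroup.orderOf_mk] at hj
    have hj0 : j ≠ 0 := by
      intro h
      rw [h, pow_zero, orderOf_eq_one_iff] at hj
      exact hy1 hj
    obtain ⟨i, hi⟩ : ∃ i, j = i + 1 := ⟨j - 1, by omega⟩
    have hord : orderOf (y ^ 2 ^ i) = 2 := by
      rw [orderOf_pow_of_dvd (by positivity) (by rw [hj]; exact pow_dvd_pow 2 (by omega)), hj, hi,
        pow_succ]
      exact Nat.mul_div_cancel_left 2 (by positivity)
    have hg1H : g1 ∈ H := by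
      refine TwoFusion.StronglyEmbeddedBasic.mem_of_conj_mem hH (hPH (pow_mem hyP (2 ^ i))) hord ?_
      rw [← conj_pow]
      exact hPH (pow_mem hg1y _)
    have hg1N := hHP hg1H
    rw [mem_normalizer_iff]
    intro z
    have h3 := mem_normalizer_iff.1 hg1N (k⁻¹ * z * k)
    have h4 : g1 * (k⁻¹ * z * k) * g1⁻¹ = k⁻¹ * (g * z * g⁻¹) * k := by rw [hg1]; group
    rw [h4] at h3
    exact (hS z).trans (h3.trans (hS _).symm)

/-- The trivial subgroup. -/
theorem isNormal_self_of_eq_bot {G : Type*} [Group G] {S : Subgroup G} (h : S = ⊥) :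
    (groupFusionSystem S).IsNormal S := by
  apply isNormal_self_of_ti
  intro g x hx hx1
  rw [h, mem_bot] at hx
  exact absurd hx hx1

/-- **Quasisimple groups with constrained 2-fusion system.** -/
theorem isConstrained_center_quotient {K : Type u} [Group K] [Finite K] (hK : IsQuasisimple K)
    (T : Sylow 2 K) (hT : (groupFusionSystem (T : Subgroup K)).IsConstrained 2) :
    (groupFusionSystem ((T : Subgroup K).map (QuotientGroup.mk' (Subgroup.center K)))).IsConstrained 2 := by
  obtain ⟨hperf, hsimp⟩ := hK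
  set π := QuotientGroup.mk' (Subgroup.center K) with hπ
  have hsurj : Function.Surjective π := QuotientGroup.mk'_surjective _
  obtain ⟨T', hT'⟩ : ∃ T' : Sylow 2 (K ⧸ Subgroup.center K), (T' : Subgroup _) = (T : Subgroup K).map π :=
    ⟨T.mapSurjective hsurj, rfl⟩
  have hna : ∃ a b : K ⧸ Subgroup.center K, a * b ≠ b * a := by
    by_contra hcon
    push Not at hcon
    have h1 : _root_.commutator (K ⧸ Subgroup.center K) = ⊥ := by
      rw [_root_.commutator_eq_bot_iff_center_eq_top]
      rw [Subgroup.eq_top_iff']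
      intro x
      rw [Subgroup.mem_center_iff]
      intro y
      exact hcon y x
    have h2 : _root_.commutator K = ⊤ := hperf.commutator_eq_top
    have h3 : (_root_.commutator K).map π = _root_.commutator (K ⧸ Subgroup.center K) := by
      rw [_root_.commutator_def, _root_.commutator_def, Subgroup.map_commutator,
        Subgroup.map_top_of_surjective π hsurj]
    rw [h2, Subgroup.map_top_of_surjective π hsurj, h1] at h3
    exact top_ne_bot h3
  obtain ⟨-, Q, hQn, hQc⟩ := hT
  have hQ' := isNormal_map_center T hQn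
  rw [← hπ, ← hT'] at hQ'
  rw [← hT']
  refine isConstrained_of_isNormal_self (H802.groupFusionSystem_isSaturated T') ?_
  by_cases hbot : Q.map π = ⊥
  · apply isNormal_self_of_eq_bot
    have h1 : Q ≤ Subgroup.center K := by
      rw [Subgroup.map_eq_bot_iff, hπ, QuotientGroup.ker_mk'] at hbot
      exact hbot
    have h2 := hQc.2 Q (H802.isConj_refl _ hQc.1)
    have h3 : (T : Subgroup K) ≤ Q := by
      refine le_trans (fun t ht => ?_) h2
      refine ⟨ht, Subgroup.mem_centralizer_iff.2 fun q hq => ?_⟩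
      exact (Subgroup.mem_center_iff.1 (h1 hq) t).symm
    rw [hT', Subgroup.map_eq_bot_iff, hπ, QuotientGroup.ker_mk']
    exact h3.trans h1
  · exact isNormal_self_of_simple hna T' hQ' hbot

end Cfsg.Agent.H745
end

-- part: S5147
section
set_option autoImplicit false
open Cfsg

namespace Cfsg.Agent.S5147

/-- Let G be a finite group with Sylow 2-subgroup S whose 2-fusion system on S is constrained, and L a component of G (a subnormal quasisimple subgroup). Then the 2-fusion system of L/Z(L) on the image of S ∩ L is constrained. -/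
theorem result {G : Type*} [Group G] [Finite G] (S : Sylow 2 G) (hF : (Cfsg.groupFusionSystem (S : Subgroup G)).IsConstrained 2) (L : Subgroup G) (hL : Cfsg.IsComponent L) : (Cfsg.groupFusionSystem (((S : Subgroup G).subgroupOf L).map (QuotientGroup.mk' (Subgroup.center L)))).IsConstrained 2 := by
  obtain ⟨T, rfl, hT, h⟩ := H751.isConstrained_of_isSubnormal S hF hL.1
  have h1 := H751.isConstrained_subgroupOf hT h
  obtain ⟨T', hT'⟩ := hT.exists_sylow
  rw [Subgroup.inf_subgroupOf_right] at h1 hT'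
  rw [← hT'] at h1 ⊢
  exact H745.isConstrained_center_quotient hL.2 T' h1

end Cfsg.Agent.S5147
end
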