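import Cfsg.Statements.S5170
import Cfsg.Agent.H868.FusSimple
import Cfsg.Agent.H868.ClosedM24
import Cfsg.Agent.S2882
import Cfsg.Agent.S0364
import Cfsg.Agent.Prune
set_option linter.all false
open scoped Cfsg.Agent.FastGrp

set_option autoImplicit false
open Cfsg

namespace Cfsg.Agent.S5170

/-- The 2-fusion system of the Mathieu group M₂₄ (as the explicit permutation group of the 24 points preserving the binary Golay code) on a Sylow 2-subgroup is simple: saturated, over a nontrivial 2-group, with no normal subsystem other than the trivial one and itself. -/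
theorem result (S : Sylow 2 Cfsg.M24) : (Cfsg.groupFusionSystem (S : Subgroup Cfsg.M24)).IsSimple 2 := by
  have hc := Cfsg.Agent.S0364.result
  have hf : Finite Cfsg.M24 := Nat.finite_of_card_ne_zero (by rw [hc]; norm_num)
  refine Cfsg.Agent.H868.FusSimple.isSimple_of S ?_ (Cfsg.Agent.H868.ClosedM24.closed24 S)
    (Cfsg.Agent.S2882.result S).le
  rw [hc]
  norm_num

end Cfsg.Agent.S5170
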