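import Cfsg.Agent.H767.TEElimNN
import Cfsg.Agent.H767.TEModel
import Cfsg.Agent.H759.FusNormal
import Cfsg.Agent.Lib.DihedralRecog
import Cfsg.Agent.S0245
import Cfsg.Agent.Transfer.TausskyTwoGroup
import Cfsg.Agent.H767.TEElimNR
import Cfsg.Agent.J2Type.ExtCube
import Cfsg.Statements.S5189
set_option linter.all false

-- part: H767/TEThird
section
/-!
# The natural/natural case: other essential subgroups (helper767)
-/

set_option autoImplicit false
set_option linter.unusedSectionVars false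
set_option linter.unusedVariables false

namespace Cfsg.Agent.H767.TE

open Subgroup
open scoped commutatorElement

section abs

variable {V : Type*} [CommGroup V] [Finite V] {p : ℕ} [hp : Fact p.Prime]

theorem dvd_choose_two {n : ℕ} (hn : Odd n) : n ∣ n.choose 2 := by
  obtain ⟨m, hm⟩ := hn
  rw [Nat.choose_two_right]
  have h1 : n - 1 = m * 2 := by omega
  rw [h1, ← mul_assoc, Nat.mul_div_cancel _ (by norm_num)]
  exact Dvd.intro m rfl

/-- the stabiliser of a chain in a `p`-group is a `p`-group -/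
theorem isPGroup_stab' (hV : IsPGroup p V) (h2 : p ≠ 2) (c1 c2 : Subgroup V) (hle : c1 ≤ c2) :
    IsPGroup p (stab (MonoidHom.id (MulAut V)) c1 c2 hle) := by
  obtain ⟨k, hk⟩ := IsPGroup.iff_card.1 hV
  have hodd : Odd (p ^ k) := (hp.out.odd_of_ne_two h2).pow
  rintro ⟨x, hx1, hx2, hx3⟩
  refine ⟨k, ?_⟩
  apply Subtype.ext
  show x ^ p ^ k = 1
  have hx1' : ∀ v, dl x v ∈ c2 := hx1
  have hx2' : ∀ v ∈ c2, dl x v ∈ c1 := hx2
  have hx3' : ∀ v ∈ c1, x v = v := hx3
  ext v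
  have e := pow_apply_choose x (v := v) (a := dl x v) (b := dl x (dl x v)) (apply_eq _ _)
    (apply_eq _ _) (hx3' _ (hx2' _ (hx1' v))) (p ^ k)
  obtain ⟨m, hm⟩ := dvd_choose_two hodd
  have h4 : ∀ u : V, u ^ p ^ k = 1 := fun u => by rw [← hk]; exact pow_card_eq_one'
  rw [h4, mul_one, hm, pow_mul, h4, one_pow, mul_one] at e
  exact e

theorem dl_mul_comm (α : MulAut V) (u v : V) : dl α (u * v) = dl α u * dl α v := map_mul _ _ _

theorem mem_ker_dl {α : MulAut V} {v : V} : v ∈ (dl α).ker ↔ α v = v := by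
  rw [MonoidHom.mem_ker, dl_apply, mul_inv_eq_one]

theorem fix_zpow {α : MulAut V} {v : V} (h : α v = v) (n : ℤ) : (α ^ n) v = v := by
  have := zpow_apply α (v := v) (a := 1) (by rw [mul_one]; exact h) (map_one _) n
  rwa [one_zpow, mul_one] at this

/-- the pair lemma -/
theorem third_pair (hV : IsPGroup p V) (h2 : p ≠ 2) {A : Subgroup (MulAut V)} {a b : MulAut V} (ha : a ∈ A) (hb : b ∈ A)
    (hqa : ∀ v, a (dl a v) = dl a v) (hqb : ∀ v, b (dl b v) = dl b v)
    (hsyl : ∀ R : Subgroup (MulAut V), R ≤ A → IsPGroup p R → a ∈ R → R ≤ zpowers a)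
    (h : (∀ v, b (dl a v) = dl a v) ∨ (∀ v, a (dl b v) = dl b v)) : b ∈ zpowers a := by
  rcases h with h | h
  · have hle : (dl a).range ≤ (dl a).range ⊔ (dl b).range := le_sup_left
    have hs := isPGroup_stab' hV h2 _ _ hle
    have haS : a ∈ stab (MonoidHom.id (MulAut V)) _ _ hle := by
      refine ⟨fun v => hle ⟨v, rfl⟩, fun v _ => ⟨v, rfl⟩, ?_⟩
      rintro _ ⟨v, rfl⟩
      exact hqa v
    have hbS : b ∈ stab (MonoidHom.id (MulAut V)) _ _ hle := by
      refine ⟨fun v => (le_sup_right : (dl b).range ≤ _) ⟨v, rfl⟩, fun v hv => ?_, ?_⟩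
      · obtain ⟨x, ⟨x', rfl⟩, y, ⟨y', rfl⟩, rfl⟩ := Subgroup.mem_sup.1 hv
        show b (dl a x' * dl b y') * (dl a x' * dl b y')⁻¹ ∈ _
        rw [map_mul, h, hqb, mul_inv_cancel]
        exact one_mem _
      · rintro _ ⟨v, rfl⟩
        exact h v
    have h3 := hsyl (stab (MonoidHom.id (MulAut V)) _ _ hle ⊓ A) inf_le_right (hs.to_le inf_le_left) ⟨haS, ha⟩
    exact h3 ⟨hbS, hb⟩
  · have hle : (dl b).range ≤ (dl b).range ⊔ (dl a).range := le_sup_left
    have hs := isPGroup_stab' hV h2 _ _ hle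
    have hbS : b ∈ stab (MonoidHom.id (MulAut V)) _ _ hle := by
      refine ⟨fun v => hle ⟨v, rfl⟩, fun v _ => ⟨v, rfl⟩, ?_⟩
      rintro _ ⟨v, rfl⟩
      exact hqb v
    have haS : a ∈ stab (MonoidHom.id (MulAut V)) _ _ hle := by
      refine ⟨fun v => (le_sup_right : (dl a).range ≤ _) ⟨v, rfl⟩, fun v hv => ?_, ?_⟩
      · obtain ⟨x, ⟨x', rfl⟩, y, ⟨y', rfl⟩, rfl⟩ := Subgroup.mem_sup.1 hv
        show a (dl b x' * dl a y') * (dl b x' * dl a y')⁻¹ ∈ _
        rw [map_mul, h, hqa, mul_inv_cancel]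
        exact one_mem _
      · rintro _ ⟨v, rfl⟩
        exact h v
    have h3 := hsyl (stab (MonoidHom.id (MulAut V)) _ _ hle ⊓ A) inf_le_right (hs.to_le inf_le_left) ⟨haS, ha⟩
    exact h3 ⟨hbS, hb⟩

/-- the key step: a conjugate `b` of `a` centralises `T` -/
theorem third_key (hV : IsPGroup p V) (h2 : p ≠ 2) {A : Subgroup (MulAut V)} {a b : MulAut V} (ha : a ∈ A) (hb : b ∈ A)
    (hca : Nat.card (dl a).range = p) (hcb : Nat.card (dl b).range = p)
    (hqa : ∀ v, a (dl a v) = dl a v) (hqb : ∀ v, b (dl b v) = dl b v)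
    (hsyl : ∀ R : Subgroup (MulAut V), R ≤ A → IsPGroup p R → a ∈ R → R ≤ zpowers a)
    {T : Subgroup V} (hTa : ∀ t ∈ T, a t = t) (hTi : T ⊓ (dl a).range = ⊥)
    (hext : ∀ w ∈ A, w * a = a * w → ∀ t ∈ T, w t ∈ T) : ∀ t ∈ T, b t = t := by
  by_cases hcase : (∀ v, b (dl a v) = dl a v) ∨ (∀ v, a (dl b v) = dl b v)
  · intro t ht
    obtain ⟨n, hn⟩ := third_pair hV h2 ha hb hqa hqb hsyl hcase
    simp only at hn
    rw [← hn]
    exact fix_zpow (hTa t ht) n
  · push Not at hcase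
    obtain ⟨⟨v1, hv1⟩, v2, hv2⟩ := hcase
    set f := dl b v2 with hf
    set e := dl a f with he
    have hae : a e = e := hqa f
    have haf : a f = f * e := apply_eq _ _
    have hbf : b f = f := hqb v2
    have he1 : e ≠ 1 := by
      intro h1
      rw [h1, mul_one] at haf
      exact hv2 haf
    have hf1 : f ≠ 1 := by
      intro h1
      apply hv2
      rw [h1, map_one]
    have hRe : zpowers e = (dl a).range := zpowers_eq_of_prime hca ⟨f, rfl⟩ he1
    have hRf : zpowers f = (dl b).range := zpowers_eq_of_prime hcb ⟨v2, rfl⟩ hf1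
    have hbe : b e ≠ e := by
      intro h1
      apply hv1
      have h3 : dl a v1 ∈ zpowers e := by rw [hRe]; exact ⟨v1, rfl⟩
      obtain ⟨n, hn⟩ := h3
      simp only at hn
      rw [← hn, map_zpow, h1]
    set f1 := dl b e with hf1'
    have hf11 : f1 ≠ 1 := by
      intro h1
      apply hbe
      rw [apply_eq b e, ← hf1', h1, mul_one]
    have hbe' : b e = e * f1 := apply_eq _ _
    have hbf1 : b f1 = f1 := hqb e
    have hRf1 : zpowers f1 = zpowers f := by
      rw [hRf]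
      exact zpowers_eq_of_prime hcb ⟨e, rfl⟩ hf11
    have hoe : orderOf e = p := by rw [← Nat.card_zpowers, hRe, hca]
    have hof : orderOf f = p := by rw [← Nat.card_zpowers, hRf, hcb]
    obtain ⟨m, hm⟩ : ∃ m : ℤ, f1 ^ m = f⁻¹ := by
      have h1 : f⁻¹ ∈ zpowers f1 := by rw [hRf1]; exact inv_mem (mem_zpowers f)
      exact h1
    set k := b ^ m with hk
    have hke : k e = e * f⁻¹ := by rw [hk, zpow_apply b hbe' hbf1 m, hm]
    have hkf : k f = f := fix_zpow hbf m
    set w := a * k * a with hw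
    have hwe : w e = f⁻¹ := by
      rw [hw, MulAut.mul_apply, MulAut.mul_apply, hae, hke, map_mul, map_inv, hae, haf, mul_inv,
        mul_comm f⁻¹, mul_inv_cancel_left]
    have hwf : w f = e := by
      rw [hw, MulAut.mul_apply, MulAut.mul_apply, haf, map_mul, hke, hkf, mul_comm e,
        mul_inv_cancel_left, hae]
    have hwwe : (w * w) e = e⁻¹ := by rw [MulAut.mul_apply, hwe, map_inv, hwf]
    have hwwf : (w * w) f = f⁻¹ := by rw [MulAut.mul_apply, hwf, hwe]
    have hwwc : ∀ c, a c = c → b c = c → (w * w) c = c := by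
      intro c h3 h4
      have h5 : k c = c := fix_zpow h4 m
      have h6 : w c = c := by rw [hw, MulAut.mul_apply, MulAut.mul_apply, h3, h5, h3]
      rw [MulAut.mul_apply, h6, h6]
    -- decomposition
    have hdec : ∀ v : V, ∃ (i j : ℤ) (c : V), a c = c ∧ b c = c ∧ v = e ^ i * f ^ j * c := by
      intro v
      have h1 : dl a v ∈ zpowers e := by rw [hRe]; exact ⟨v, rfl⟩
      obtain ⟨j, hj⟩ := h1
      simp only at hj
      have h3 : dl b (v * (f ^ j)⁻¹) ∈ zpowers f1 := by rw [hRf1, hRf]; exact ⟨_, rfl⟩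
      obtain ⟨i, hi⟩ := h3
      simp only at hi
      have hde : dl a e = 1 := by rw [dl_apply, hae, mul_inv_cancel]
      have hdf : dl a f = e := rfl
      have hde' : dl b e = f1 := rfl
      refine ⟨i, j, v * (f ^ j)⁻¹ * (e ^ i)⁻¹, ?_, ?_, ?_⟩
      · rw [← mem_ker_dl, MonoidHom.mem_ker, map_mul, map_mul, map_inv, map_inv, map_zpow, map_zpow, hdf, hde, ← hj, one_zpow,
          inv_one, mul_one, mul_inv_cancel]
      · rw [← mem_ker_dl, MonoidHom.mem_ker, map_mul, ← hi, map_inv, map_zpow, hde', mul_inv_cancel]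
      · rw [mul_assoc v, ← mul_inv_rev, mul_left_comm, mul_inv_cancel, mul_one]
    have hwA : w ∈ A := A.mul_mem (A.mul_mem ha (A.zpow_mem hb m)) ha
    have hcomm : w * w * a = a * (w * w) := by
      ext v
      obtain ⟨i, j, c, hc1, hc2, rfl⟩ := hdec v
      have e1 : a (e ^ i * f ^ j * c) = e ^ i * (f ^ j * e ^ j) * c := by
        rw [map_mul, map_mul, map_zpow, map_zpow, hae, haf, hc1, mul_zpow]
      have e2 : (w * w) (e ^ i * f ^ j * c) = (e ^ i)⁻¹ * (f ^ j)⁻¹ * c := by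
        rw [map_mul, map_mul, map_zpow, map_zpow, hwwe, hwwf, hwwc c hc1 hc2, inv_zpow, inv_zpow]
      show (w * w) (a (e ^ i * f ^ j * c)) = a ((w * w) (e ^ i * f ^ j * c))
      rw [e1, e2, map_mul, map_mul, map_mul, map_zpow, map_zpow, map_zpow, hwwe, hwwf,
        hwwc c hc1 hc2, map_mul, map_mul, map_inv, map_inv, map_zpow, map_zpow, hae, haf, hc1, inv_zpow, inv_zpow, inv_zpow,
        mul_zpow, mul_inv]
    intro t ht
    have h3 := hext _ (A.mul_mem hwA hwA) hcomm t ht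
    obtain ⟨i, j, c, hc1, hc2, hte⟩ := hdec t
    have h4 : (w * w) t = (e ^ i)⁻¹ * (f ^ j)⁻¹ * c := by
      rw [hte, map_mul, map_mul, map_zpow, map_zpow, hwwe, hwwf, hwwc c hc1 hc2, inv_zpow, inv_zpow]
    rw [h4] at h3
    have h5 : (e ^ i * f ^ j) * (e ^ i * f ^ j) ∈ T := by
      have := T.mul_mem ht (T.inv_mem h3)
      have e1 : t * ((e ^ i)⁻¹ * (f ^ j)⁻¹ * c)⁻¹ = (e ^ i * f ^ j) * (e ^ i * f ^ j) := by
        rw [hte, mul_inv, mul_inv, inv_inv, inv_inv, mul_mul_mul_comm, mul_inv_cancel, mul_one]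
      rwa [e1] at this
    -- `p` is odd
    have hdiv : ∀ (x : V) (n : ℤ), orderOf x = p → x ^ n * x ^ n = 1 → x ^ n = 1 := by
      intro x n hx hn
      rw [← zpow_add, ← orderOf_dvd_iff_zpow_eq_one, hx, ← two_mul] at hn
      have hcop : IsCoprime (p : ℤ) 2 := by
        rw [Int.isCoprime_iff_gcd_eq_one]
        have : Nat.Coprime p 2 := (Nat.coprime_primes hp.out Nat.prime_two).2 h2
        exact_mod_cast this
      have h6 := hcop.dvd_of_dvd_mul_left hn
      rw [← orderOf_dvd_iff_zpow_eq_one, hx]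
      exact h6
    have h6 := hTa _ h5
    have h7 : a ((e ^ i * f ^ j) * (e ^ i * f ^ j)) = (e ^ i * f ^ j) * (e ^ i * f ^ j) * (e ^ j * e ^ j) := by
      rw [map_mul, map_mul, map_zpow, map_zpow, hae, haf, mul_zpow]
      rw [← mul_assoc (e ^ i), mul_mul_mul_comm (e ^ i * f ^ j)]
    rw [h7] at h6
    have h8 : e ^ j * e ^ j = 1 := mul_eq_left.1 h6
    have h9 := hdiv e j hoe h8
    have h10 : f ^ j = 1 := by
      rw [← orderOf_dvd_iff_zpow_eq_one, hoe] at h9
      rw [← orderOf_dvd_iff_zpow_eq_one, hof]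
      exact h9
    rw [h10, mul_one] at h5
    have h11 : e ^ i * e ^ i ∈ T ⊓ (dl a).range := by
      refine ⟨h5, ?_⟩
      rw [← hRe]
      exact mul_mem (zpow_mem (mem_zpowers e) i) (zpow_mem (mem_zpowers e) i)
    rw [hTi, Subgroup.mem_bot] at h11
    have h12 := hdiv e i hoe h11
    rw [hte, h10, h12, one_mul, one_mul]
    exact hc2

theorem dl_conj (g a : MulAut V) (v : V) : dl (g * a * g⁻¹) v = g (dl a (g⁻¹ v)) := by
  rw [dl_apply, dl_apply, map_mul, map_inv, MulAut.apply_inv_self, MulAut.mul_apply, MulAut.mul_apply]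

/-- **The third essential subgroup**: `T` is invariant. -/
theorem third_abs (hV : IsPGroup p V) (h2 : p ≠ 2) {A : Subgroup (MulAut V)} {a : MulAut V} (ha : a ∈ A)
    (hca : Nat.card (dl a).range = p)
    (hqa : ∀ v, a (dl a v) = dl a v)
    (hsyl : ∀ R : Subgroup (MulAut V), R ≤ A → IsPGroup p R → a ∈ R → R ≤ zpowers a)
    {T : Subgroup V} (hTa : ∀ t ∈ T, a t = t) (hTi : T ⊓ (dl a).range = ⊥) (hidx : T.relIndex (dl a).ker ∣ p)
    (hext : ∀ w ∈ A, w * a = a * w → ∀ t ∈ T, w t ∈ T)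
    (hrad : ∀ N : Subgroup (MulAut V), N ≤ A → (∀ α ∈ A, ∀ n ∈ N, α * n * α⁻¹ ∈ N) → IsPGroup p N → N = ⊥) :
    ∀ w ∈ A, ∀ t ∈ T, w t ∈ T := by
  have hane : a ≠ 1 := by
    rintro rfl
    have h1 : (dl (1 : MulAut V)).range = ⊥ := by
      rw [eq_bot_iff]
      rintro _ ⟨v, rfl⟩
      rw [Subgroup.mem_bot, dl_apply, MulAut.one_apply, mul_inv_cancel]
    rw [h1, Subgroup.card_bot] at hca
    exact hp.out.one_lt.ne hca
  have key : ∀ g ∈ A, ∀ t ∈ T, (g * a * g⁻¹) t = t := by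
    intro g hg
    have hr : (dl (g * a * g⁻¹)).range = (dl a).range.map g.toMonoidHom := by
      apply le_antisymm
      · rintro _ ⟨v, rfl⟩
        exact ⟨dl a (g⁻¹ v), ⟨_, rfl⟩, (dl_conj g a v).symm⟩
      · rintro _ ⟨_, ⟨v, rfl⟩, rfl⟩
        refine ⟨g v, ?_⟩
        rw [dl_conj, MulAut.inv_apply_self]
        rfl
    refine third_key hV h2 ha (A.mul_mem (A.mul_mem hg ha) (A.inv_mem hg)) hca ?_ hqa ?_ hsyl hTa hTi hext
    · rw [hr, Subgroup.card_map_of_injective g.injective, hca]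
    · intro v
      rw [dl_conj, MulAut.mul_apply, MulAut.mul_apply, MulAut.inv_apply_self, hqa]
  let C : Subgroup V :=
    { carrier := {x | ∀ g ∈ A, (g * a * g⁻¹) x = x}
      one_mem' := fun g _ => map_one _
      mul_mem' := fun {x y} hx hy g hg => by rw [map_mul, hx g hg, hy g hg]
      inv_mem' := fun {x} hx g hg => by rw [map_inv, hx g hg] }
  have hCinv : ∀ w ∈ A, ∀ x ∈ C, w x ∈ C := by
    intro w hw x hx g hg
    have h3 := hx (w⁻¹ * g) (A.mul_mem (A.inv_mem hw) hg)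
    have e1 : (w⁻¹ * g) * a * (w⁻¹ * g)⁻¹ = w⁻¹ * (g * a * g⁻¹) * w := by group
    rw [e1, MulAut.mul_apply, MulAut.mul_apply] at h3
    have h4 := congrArg w h3
    rwa [MulAut.apply_inv_self] at h4
  have hTC : T ≤ C := fun t ht g hg => key g hg t ht
  have hCk : C ≤ (dl a).ker := by
    intro x hx
    rw [mem_ker_dl]
    have h3 := hx 1 A.one_mem
    rwa [one_mul, inv_one, mul_one] at h3
  have hCT : C = T := by
    have h3 := Subgroup.relIndex_mul_relIndex T C (dl a).ker hTC hCk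
    rw [← h3] at hidx
    rcases (Nat.dvd_prime hp.out).1 (dvd_of_mul_right_dvd hidx) with h4 | h4
    · rw [Subgroup.relIndex_eq_one] at h4
      exact le_antisymm h4 hTC
    · exfalso
      have h5 : C.relIndex (dl a).ker = 1 := by
        rw [h4] at hidx
        have h6 : p * C.relIndex (dl a).ker ∣ p * 1 := by rwa [mul_one]
        exact Nat.dvd_one.1 (Nat.dvd_of_mul_dvd_mul_left hp.out.pos h6)
      rw [Subgroup.relIndex_eq_one] at h5
      have h6 : C = (dl a).ker := le_antisymm hCk h5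
      have hN := hrad (stab (MonoidHom.id (MulAut V)) C C le_rfl ⊓ A) inf_le_right (by
        rintro α hα n ⟨⟨hn1, hn2, hn3⟩, hnA⟩
        have hn1' : ∀ v, n v * v⁻¹ ∈ C := hn1
        have hn3' : ∀ v ∈ C, n v = v := hn3
        have hfix : ∀ v ∈ C, (α * n * α⁻¹) v = v := by
          intro v hv
          rw [MulAut.mul_apply, MulAut.mul_apply, hn3' _ (hCinv _ (A.inv_mem hα) v hv), MulAut.apply_inv_self]
        refine ⟨⟨fun v => ?_, fun v hv => ?_, hfix⟩, A.mul_mem (A.mul_mem hα hnA) (A.inv_mem hα)⟩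
        · have h7 := hCinv α hα _ (hn1' (α⁻¹ v))
          rw [map_mul, map_inv, MulAut.apply_inv_self] at h7
          exact h7
        · show (α * n * α⁻¹) v * v⁻¹ ∈ C
          rw [hfix v hv, mul_inv_cancel]
          exact C.one_mem) ((isPGroup_stab' hV h2 C C le_rfl).to_le inf_le_left)
      have haN : a ∈ stab (MonoidHom.id (MulAut V)) C C le_rfl ⊓ A := by
        have hfix : ∀ v ∈ C, a v = v := fun v hv => mem_ker_dl.1 (hCk hv)
        refine ⟨⟨fun v => ?_, fun v hv => ?_, hfix⟩, ha⟩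
        · show dl a v ∈ C
          rw [h6, mem_ker_dl]
          exact hqa v
        · show a v * v⁻¹ ∈ C
          rw [hfix v hv, mul_inv_cancel]
          exact C.one_mem
      rw [hN, Subgroup.mem_bot] at haN
      exact hane haN
  intro w hw t ht
  rw [← hCT] at ht ⊢
  exact hCinv w hw t ht

end abs

section third

variable {S : Type*} [Group S] [Finite S] {p : ℕ} [hp : Fact p.Prime]

variable {E1 E2 : Subgroup S} [hE1 : E1.Normal] [hE2 : E2.Normal] {A1 : Subgroup (MulAut E1)} {A2 : Subgroup (MulAut E2)}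
  {B : Subgroup (MulAut S)} {K1 W1 K2 W2 : Subgroup S} {τ1 τ2 : MulAut S}

theorem ED0.exists_notMem {E : Subgroup S} [hE : E.Normal] {A : Subgroup (MulAut E)} (D : ED0 p E A B) : ∃ y : S, y ∉ E := by
  by_contra h
  push Not at h
  have h1 : E = ⊤ := by
    rw [eq_top_iff]
    exact fun x _ => h x
  have h2 := D.index
  rw [h1, Subgroup.index_top] at h2
  exact hp.out.one_lt.ne h2

/-- generating `S` by `E` and `y` -/
theorem exists_zpow_of_index {E : Subgroup S} [hE : E.Normal] (hi : E.index = p) {y : S} (hy : y ∉ E) (s : S) :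
    ∃ (n : ℤ) (e : S), e ∈ E ∧ s = y ^ n * e := by
  have hc : Nat.card (S ⧸ E) = p := hi
  have : IsCyclic (S ⧸ E) := isCyclic_of_prime_card hc
  have h1 : (QuotientGroup.mk y : S ⧸ E) ≠ 1 := fun h => hy ((QuotientGroup.eq_one_iff y).1 h)
  have h2 : zpowers (QuotientGroup.mk y : S ⧸ E) = ⊤ := by
    apply Subgroup.eq_top_of_le_card
    rw [hc, Nat.card_zpowers]
    have h3 : orderOf (QuotientGroup.mk y : S ⧸ E) ∣ p := by
      rw [← hc]
      exact orderOf_dvd_natCard _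
    rcases (Nat.dvd_prime hp.out).1 h3 with h4 | h4
    · exact (h1 (orderOf_eq_one_iff.1 h4)).elim
    · exact h4.ge
  have h3 : (QuotientGroup.mk s : S ⧸ E) ∈ zpowers (QuotientGroup.mk y : S ⧸ E) := by rw [h2]; exact mem_top _
  obtain ⟨n, hn⟩ := h3
  simp only at hn
  rw [← QuotientGroup.mk_zpow, QuotientGroup.eq] at hn
  exact ⟨n, (y ^ n)⁻¹ * s, hn, by group⟩

/-- facts on the natural/natural case -/
theorem nn_center (D1 : EssData p E1 A1 B) (D2 : EssData p E2 A2 B) (hDc : ∀ d ∈ E1 ⊓ E2, ∀ s, ⁅d, s⁆ ∈ (⊥ : Subgroup S)) {v : S} :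
    v ∈ E1 ⊓ E2 ↔ ∀ s : S, v * s = s * v := by
  constructor
  · intro hv s
    have h1 := hDc v hv s
    rw [Subgroup.mem_bot] at h1
    exact commutatorElement_eq_one_iff_mul_comm.1 h1
  · intro h
    exact ⟨D1.cent v (fun e _ => h e), D2.cent v (fun e _ => h e)⟩

theorem nn_index (D1 : EssData p E1 A1 B) (D2 : EssData p E2 A2 B) (hne : E1 ≠ E2) : (E1 ⊓ E2).index = p * p := by
  have h1 := Subgroup.relIndex_mul_index (inf_le_left : E1 ⊓ E2 ≤ E1)
  rw [pair_idx1 D1 D2 hne, D1.index] at h1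
  exact h1.symm

theorem nn_third (D1 : EssData p E1 A1 B) (D2 : EssData p E2 A2 B) (hne : E1 ≠ E2) (hS : IsPGroup p S) (h2 : p ≠ 2)
    (N1 : NT p E1 A1 B K1 W1 τ1) (hKD : K1 ≤ E1 ⊓ E2)
    (hDc : ∀ d ∈ E1 ⊓ E2, ∀ s, ⁅d, s⁆ ∈ (⊥ : Subgroup S))
    {E3 : Subgroup S} [hE3 : E3.Normal] {A3 : Subgroup (MulAut E3)} (D3 : ED0 p E3 A3 B) : Inv A3 K1 := by
  have hcen : ∀ {v : S}, v ∈ E1 ⊓ E2 ↔ ∀ s : S, v * s = s * v := nn_center D1 D2 hDc
  have hK1n := N1.invK.normal D1
  -- `D ≤ E3`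
  have hD3 : E1 ⊓ E2 ≤ E3 := fun d hd => D3.cent d (fun e _ => hcen.1 hd e)
  have hidx3 : (E1 ⊓ E2).relIndex E3 = p := by
    have h1 := Subgroup.relIndex_mul_index hD3
    rw [D3.index, nn_index D1 D2 hne] at h1
    exact Nat.eq_of_mul_eq_mul_right hp.out.pos h1
  have hab : ∀ a ∈ E3, ∀ b ∈ E3, a * b = b * a := by
    have hn : (⊥ : Subgroup S).Normal := inferInstance
    have h1 := abel_of_index (N := ⊥) hD3 (dvd_of_eq hidx3) (fun d hd e _ => hDc d hd e)
    intro a ha b hb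
    have h3 := h1 a ha b hb
    rw [Subgroup.mem_bot] at h3
    exact commutatorElement_eq_one_iff_mul_comm.1 h3
  letI i3 : CommGroup E3 := { (inferInstance : Group E3) with mul_comm := fun a b => Subtype.ext (hab a a.2 b b.2) }
  obtain ⟨y, hy⟩ := D3.exists_notMem
  set a : MulAut E3 := MulAut.conjNormal (H := E3) y with ha
  have haA : a ∈ A3 := D3.conjA y
  have hdl : ∀ v : E3, ((dl a v : E3) : S) = ⁅y, (v : S)⁆ := by
    intro v
    rw [dl_apply, Subgroup.coe_mul, ha, MulAut.conjNormal_apply, Subgroup.coe_inv, commutatorElement_def]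
  have hcomm : ∀ u v : S, ⁅u, v⁆ ∈ E1 ⊓ E2 := pair_comm D1 D2
  have hqa : ∀ v, a (dl a v) = dl a v := by
    intro v
    apply Subtype.ext
    rw [ha, MulAut.conjNormal_apply, ← ha, hdl]
    have h1 := hcen.1 (hcomm y v) y
    rw [← h1, mul_inv_cancel_right]
  -- the kernel
  have hker : (dl a).ker = (E1 ⊓ E2).subgroupOf E3 := by
    ext v
    rw [MonoidHom.mem_ker, Subgroup.mem_subgroupOf]
    constructor
    · intro h1
      have h3 : ⁅y, (v : S)⁆ = 1 := by rw [← hdl, h1]; rfl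
      rw [commutatorElement_eq_one_iff_mul_comm] at h3
      rw [hcen]
      intro s
      obtain ⟨n, e, he, rfl⟩ := exists_zpow_of_index D3.index hy s
      have h4 : Commute (v : S) (y ^ n) := Commute.zpow_right (show (v : S) * y = y * v from h3.symm) n
      have h5 : Commute (v : S) e := hab v v.2 e he
      exact (h4.mul_right h5).eq
    · intro h1
      apply Subtype.ext
      rw [hdl]
      have := hcen.1 h1 y
      show ⁅y, (v : S)⁆ = 1
      rw [commutatorElement_eq_one_iff_mul_comm]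
      exact this.symm
  have hca : Nat.card (dl a).range = p := by
    rw [← Subgroup.index_ker, hker]
    exact hidx3
  -- `S` modulo the inner part
  have hconj : ∀ s : S, ∃ n : ℤ, MulAut.conjNormal (H := E3) s = a ^ n := by
    intro s
    obtain ⟨n, e, he, rfl⟩ := exists_zpow_of_index D3.index hy s
    refine ⟨n, ?_⟩
    have h1 : MulAut.conjNormal (H := E3) e = 1 := by
      ext x
      rw [MulAut.conjNormal_apply, hab e he x x.2, mul_inv_cancel_right]
      rfl
    rw [map_mul, h1, mul_one, map_zpow]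
  have hsyl : ∀ R : Subgroup (MulAut E3), R ≤ A3 → IsPGroup p R → a ∈ R → R ≤ zpowers a := by
    intro R hR hRp haR
    have h1 := D3.sylow R hR hRp (by
      rintro _ ⟨s, rfl⟩
      obtain ⟨n, hn⟩ := hconj s
      rw [hn]
      exact R.zpow_mem haR n)
    rw [h1]
    rintro _ ⟨s, rfl⟩
    obtain ⟨n, hn⟩ := hconj s
    exact ⟨n, hn.symm⟩
  have hTa : ∀ t ∈ K1.subgroupOf E3, a t = t := by
    intro t ht
    have h1 : t ∈ (dl a).ker := by
      rw [hker]
      exact hKD ht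
    exact mem_ker_dl.1 h1
  have hTi : K1.subgroupOf E3 ⊓ (dl a).range = ⊥ := by
    rw [eq_bot_iff]
    rintro t ⟨ht, ht2⟩
    rw [Subgroup.mem_bot]
    by_contra hne1
    have h1 : zpowers t = (dl a).range := zpowers_eq_of_prime hca ht2 hne1
    have h3 : ∀ v : E3, ⁅y, (v : S)⁆ ∈ K1 := by
      intro v
      have h4 : dl a v ∈ zpowers t := by rw [h1]; exact ⟨v, rfl⟩
      have h5 : zpowers t ≤ K1.subgroupOf E3 := by
        rw [zpowers_le]
        exact ht
      have h6 : ((dl a v : E3) : S) ∈ K1 := h5 h4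
      rwa [hdl] at h6
    have h4 : ∀ s : S, ∀ e ∈ E3, ⁅e, s⁆ ∈ K1 := by
      intro s e he
      obtain ⟨n, e', he', rfl⟩ := exists_zpow_of_index D3.index hy s
      have h5 : ⁅e, e'⁆ ∈ K1 := by
        rw [commutatorElement_eq_one_iff_mul_comm.2 (hab e he e' he')]
        exact K1.one_mem
      have h6 : ⁅y ^ n, e⁆ ∈ K1 := cm_zpow_left (h3 ⟨e, he⟩) n
      exact cm_mul_right (cm_symm h6) h5
    apply N1.notcent D1 hS h2
    intro e he s
    obtain ⟨n, x, hx, rfl⟩ := exists_zpow_of_index D3.index hy e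
    refine cm_mul_left ?_ (h4 s x hx)
    refine cm_zpow_left ?_ n
    obtain ⟨m, x', hx', rfl⟩ := exists_zpow_of_index D3.index hy s
    refine cm_mul_right ?_ (h3 ⟨x', hx'⟩)
    have : ⁅y, y ^ m⁆ = 1 := by
      rw [commutatorElement_eq_one_iff_mul_comm]
      exact (Commute.refl y).zpow_right m
    rw [this]
    exact K1.one_mem
  have hidx : (K1.subgroupOf E3).relIndex (dl a).ker ∣ p := by
    rw [hker]
    have h1 : (K1.subgroupOf E3).relIndex ((E1 ⊓ E2).subgroupOf E3) = K1.relIndex (E1 ⊓ E2) := by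
      rw [Subgroup.relIndex_subgroupOf hD3]
    rw [h1, idxKF D1 D2 hne N1 hKD]
  have hmain := third_abs (V := E3) (hS.to_subgroup E3) h2 haA hca hqa hsyl hTa hTi hidx (by
    intro w hw hwa t ht
    obtain ⟨β, hβ, h⟩ := D3.ext w hw (by
      intro s
      obtain ⟨n, hn⟩ := hconj s
      refine ⟨s, ?_⟩
      have h1 : w * a ^ n = a ^ n * w := (Commute.zpow_right (show w * a = a * w from hwa) n).eq
      rw [hn, h1, mul_inv_cancel_right])
    rw [Subgroup.mem_subgroupOf, ← h]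
    exact N1.invK.map D1 hβ ht) (by
    intro N hN hNn hNp
    rw [eq_bot_iff]
    intro n hn
    obtain ⟨e, he, rfl⟩ := D3.radical N hN hNn hNp n hn
    rw [Subgroup.mem_bot]
    ext x
    rw [MulAut.conjNormal_apply, hab e he x x.2, mul_inv_cancel_right]
    rfl)
  exact ⟨hKD.trans hD3, fun α hα x hx => hmain α hα x hx⟩

/-- a nonabelian group of order `p³` has sectional rank at most two -/
theorem sectional_two (hS : Nat.card S = p ^ 3) (hna : ∃ a b : S, a * b ≠ b * a) : Cfsg.SectionalPRankLE p 2 S := by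
  intro H N hN A hA hexp
  have hpA : IsPGroup p A := by
    rintro ⟨a, ha⟩
    exact ⟨1, Subtype.ext (by rw [pow_one]; exact hexp a ha)⟩
  obtain ⟨k, hk⟩ := IsPGroup.iff_card.1 hpA
  rw [hk]
  by_contra hcon
  push Not at hcon
  have hk3 : 3 ≤ k := by
    by_contra h
    have : k ≤ 2 := by omega
    exact absurd (Nat.pow_le_pow_right hp.out.pos this) (not_le.2 hcon)
  have h1 : p ^ 3 ≤ Nat.card A := by rw [hk]; exact Nat.pow_le_pow_right hp.out.pos hk3
  have h2 : Nat.card A ≤ Nat.card (H ⧸ N) := Subgroup.card_le_card_group A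
  have h3 : Nat.card H = Nat.card (H ⧸ N) * Nat.card N := Subgroup.card_eq_card_quotient_mul_card_subgroup N
  have h4 : Nat.card H ≤ p ^ 3 := by rw [← hS]; exact Subgroup.card_le_card_group H
  have hNpos : 0 < Nat.card N := Nat.card_pos
  have h5 : Nat.card (H ⧸ N) ≤ Nat.card H := by
    rw [h3]
    exact Nat.le_mul_of_pos_right _ hNpos
  have h6 : Nat.card H = p ^ 3 := le_antisymm h4 (h1.trans (h2.trans h5))
  have h7 : Nat.card (H ⧸ N) = p ^ 3 := le_antisymm (h5.trans h4) (h1.trans h2)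
  have h8 : Nat.card N = 1 := by
    rw [h6, h7] at h3
    have : p ^ 3 * 1 = p ^ 3 * Nat.card N := by rw [mul_one]; exact h3
    exact (Nat.eq_of_mul_eq_mul_left (pow_pos hp.out.pos 3) this).symm
  have hN1 : N = ⊥ := Subgroup.eq_bot_of_card_eq _ h8
  have hHtop : H = ⊤ := by
    apply Subgroup.eq_top_of_card_eq
    rw [h6, hS]
  have hAtop : A = ⊤ := by
    apply Subgroup.eq_top_of_le_card
    rw [h7]
    exact h1
  obtain ⟨a, b, hab⟩ := hna
  apply hab
  have haH : a ∈ H := by rw [hHtop]; exact mem_top a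
  have hbH : b ∈ H := by rw [hHtop]; exact mem_top b
  have hc := hA.is_comm.comm (⟨QuotientGroup.mk ⟨a, haH⟩, by rw [hAtop]; exact mem_top _⟩ : A)
    ⟨QuotientGroup.mk ⟨b, hbH⟩, by rw [hAtop]; exact mem_top _⟩
  have hc' : (QuotientGroup.mk ((⟨a, haH⟩ : H) * ⟨b, hbH⟩) : H ⧸ N) = QuotientGroup.mk ((⟨b, hbH⟩ : H) * ⟨a, haH⟩) :=
    congrArg Subtype.val hc
  rw [QuotientGroup.eq, hN1, Subgroup.mem_bot, inv_mul_eq_one] at hc'
  exact congrArg Subtype.val hc'

/-- if `K₁ = 1` then the sectional rank is two -/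
theorem nn_rank (D1 : EssData p E1 A1 B) (D2 : EssData p E2 A2 B) (hne : E1 ≠ E2) (hS : IsPGroup p S) (h2 : p ≠ 2)
    (N1 : NT p E1 A1 B K1 W1 τ1) (hK : K1 = ⊥) : Cfsg.SectionalPRankLE p 2 S := by
  apply sectional_two
  · have h1 := Subgroup.relIndex_mul_index (bot_le : (⊥ : Subgroup S) ≤ E1)
    have h3 := N1.idx
    rw [hK] at h3
    rw [h3, D1.index, Subgroup.index_bot] at h1
    rw [← h1, pow_succ p 2]
  · by_contra hcon
    push Not at hcon
    apply N1.notcent D1 hS h2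
    intro e _ s
    rw [commutatorElement_eq_one_iff_mul_comm.2 (hcon e s)]
    exact K1.one_mem

end third

end Cfsg.Agent.H767.TE
end

-- part: H767/TENNFin
section
/-!
# The natural/natural case: the final contradiction (helper767)
-/

set_option autoImplicit false
set_option linter.unusedSectionVars false
set_option linter.unusedVariables false

namespace Cfsg.Agent.H767.TE

open Subgroup Cfsg Cfsg.FusionSystem Cfsg.Agent.H802
open scoped commutatorElement

universe u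

variable {Ω : Type u} [Group Ω] {S : Subgroup Ω} {p : ℕ} [hp : Fact p.Prime]

/-- the subsystem of the maps respecting `T` -/
def respSys (F : FusionSystem S) (T : Subgroup Ω) (hT : ∀ g ∈ S, ∀ x ∈ S, (g * x * g⁻¹ ∈ T ↔ x ∈ T)) :
    FusionSystem S where
  Hom P := {φ | φ ∈ F.Hom P ∧ ∀ x : P, φ x ∈ T ↔ (x : Ω) ∈ T}
  le_of_mem h := F.le_of_mem h.1
  injective_of_mem h := F.injective_of_mem h.1
  conj_mem := fun {P g} hP hg => ⟨F.conj_mem hP hg, fun x => hT g hg x (hP x.2)⟩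
  comp_mem := fun {P Q φ ψ} hφ hψ h => ⟨F.comp_mem hφ.1 hψ.1 h, fun x => (hψ.2 _).trans (hφ.2 x)⟩
  inv_mem := fun {P φ} hφ => by
    obtain ⟨ψ, hψ, h⟩ := F.inv_mem hφ.1
    refine ⟨ψ, ⟨hψ, ?_⟩, h⟩
    rintro ⟨_, x, rfl⟩
    rw [h x]
    exact (hφ.2 x).symm

/-- a subgroup invariant under `Aut_F(S)` and all `Aut_F(Q)`, `Q` essential, is strongly closed -/
theorem stronglyClosed_of_ess [Finite S] (hS : IsPGroup p S) {F : FusionSystem S} (hF : F.IsSaturated p) (T : Subgroup Ω)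
    (hTS : T ≤ S) (hB : ∀ β ∈ F.autGroup S, ∀ x : S, (x : Ω) ∈ T → ((β x : S) : Ω) ∈ T)
    (hess : ∀ Q : Subgroup Ω, F.IsEssential p Q → ∀ α ∈ F.autGroup Q, ∀ x : Q, (x : Ω) ∈ T → ((α x : Q) : Ω) ∈ T) :
    F.StronglyClosed T := by
  have hT : ∀ g ∈ S, ∀ x ∈ S, (g * x * g⁻¹ ∈ T ↔ x ∈ T) := by
    have h1 : ∀ g ∈ S, ∀ x ∈ S, x ∈ T → g * x * g⁻¹ ∈ T := by
      intro g hg x hx hxT
      exact hB _ (conj_mem_autTop F ⟨g, hg⟩) ⟨x, hx⟩ hxT
    intro g hg x hx
    refine ⟨fun h => ?_, h1 g hg x hx⟩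
    have h3 := h1 g⁻¹ (S.inv_mem hg) _ (S.mul_mem (S.mul_mem hg hx) (S.inv_mem hg)) h
    have e : g⁻¹ * (g * x * g⁻¹) * g⁻¹⁻¹ = x := by group
    rwa [e] at h3
  have hmem : ∀ Q : Subgroup Ω, Q ≤ S → (∀ α ∈ F.autGroup Q, ∀ x : Q, (x : Ω) ∈ T → ((α x : Q) : Ω) ∈ T) →
      F.autGroup Q ≤ (respSys F T hT).autGroup Q := by
    intro Q hQ h α hα
    rw [mem_autGroup_iff _ hQ]
    refine ⟨(mem_autGroup_iff F hQ α).1 hα, fun x => ⟨fun h1 => ?_, h α hα x⟩⟩
    have h3 := h α⁻¹ ((F.autGroup Q).inv_mem hα) (α x) h1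
    rwa [MulAut.inv_apply_self] at h3
  have hall := le_of_essential hS hF (respSys F T hT) (hmem S le_rfl hB) (fun Q hQ _ => hmem Q hQ.1.1 (hess Q hQ))
  exact ⟨hTS, fun R hR φ hφ x => ((hall R hφ).2 x).2 (hR x.2)⟩

variable [Finite S] {F : FusionSystem S} {E₁ E₂ : Subgroup Ω}

theorem nn_false (h2 : p ≠ 2) (hS : IsPGroup p S) (hR : Rk p S) (hR2 : ¬ Cfsg.SectionalPRankLE p 2 S) (hF : F.IsSaturated p)
    (hO : F.core = ⊥) (hne : E₁.subgroupOf S ≠ E₂.subgroupOf S)
    [hn1 : (E₁.subgroupOf S).Normal] [hn2 : (E₂.subgroupOf S).Normal]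
    {A1 : Subgroup (MulAut (E₁.subgroupOf S))} {A2 : Subgroup (MulAut (E₂.subgroupOf S))}
    {K1 W1 K2 W2 : Subgroup S} {τ1 τ2 : MulAut S}
    (D1 : EssData p (E₁.subgroupOf S) A1 (F.autGroup S)) (D2 : EssData p (E₂.subgroupOf S) A2 (F.autGroup S))
    (N1 : NT p (E₁.subgroupOf S) A1 (F.autGroup S) K1 W1 τ1) (N2 : NT p (E₂.subgroupOf S) A2 (F.autGroup S) K2 W2 τ2) : False := by
  obtain ⟨hKK, hKD, hDc⟩ := nn_main D1 D2 hne hS h2 hR N1 N2
  set T : Subgroup Ω := K1.map S.subtype with hT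
  have hTS : T ≤ S := Subgroup.map_subtype_le _
  have hTm : ∀ x : S, (x : Ω) ∈ T ↔ x ∈ K1 := by
    intro x
    constructor
    · rintro ⟨y, hy, hxy⟩
      have : y = x := Subtype.ext hxy
      rwa [← this]
    · intro h
      exact ⟨x, h, rfl⟩
  have hcen : ∀ {v : S}, v ∈ E₁.subgroupOf S ⊓ E₂.subgroupOf S ↔ ∀ s : S, v * s = s * v := nn_center D1 D2 hDc
  have hsc : F.StronglyClosed T := by
    refine stronglyClosed_of_ess hS hF T hTS ?_ ?_
    · intro β hβ x hx
      rw [hTm] at hx ⊢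
      exact N1.invK.map D1 hβ hx
    · intro Q hQ α hα x hx
      have hQS : Q ≤ S := hQ.1.1
      -- `Q` contains the centre
      have hDQ : (E₁.subgroupOf S) ⊓ (E₂.subgroupOf S) ≤ Q.subgroupOf S := by
        intro d hd
        have h1 : (d : Ω) ∈ centralizerIn S Q := by
          refine ⟨d.2, Subgroup.mem_centralizer_iff.2 fun z hz => ?_⟩
          have h3 := hcen.1 hd ⟨z, hQS hz⟩
          exact (congrArg Subtype.val h3).symm
        exact hQ.1.2 Q (isConj_refl F hQS) h1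
      have hn : (Q.subgroupOf S).Normal := by
        refine ⟨fun n hn g => ?_⟩
        have h1 := hDQ (pair_comm D1 D2 g n)
        rw [commutatorElement_def] at h1
        have h3 := (Q.subgroupOf S).mul_mem h1 hn
        rwa [inv_mul_cancel_right] at h3
      have hfin : Finite Q := finite_of_le hQS
      have D3 := ed0_of hS hF hQ (index_of hS h2 hR hF hQ)
      have h3 := nn_third D1 D2 hne hS h2 N1 hKD hDc D3
      have h4 := h3.inv _ (symm_mem_AF hα) ((eS hQS).symm x) (by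
        rw [← hTm]
        exact hx)
      rw [← hTm, congr_symm_coe, MulEquiv.apply_symm_apply] at h4
      exact h4
  have hnorm : F.IsNormal T := by
    refine Cfsg.Agent.H759.isNormal_of_abelian hS hF hsc ?_
    rw [eq_bot_iff, Subgroup.commutator_le]
    intro a ha b hb
    rw [Subgroup.mem_bot, commutatorElement_eq_one_iff_mul_comm]
    have h1 := hcen.1 (hKD ((hTm ⟨a, hTS ha⟩).1 ha)) ⟨b, hTS hb⟩
    exact congrArg Subtype.val h1
  have hTb : T = ⊥ := by
    rw [eq_bot_iff, ← hO]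
    exact Cfsg.Agent.H759.IsNormal.le_core hnorm
  have hK : K1 = ⊥ := by
    rw [eq_bot_iff]
    intro x hx
    have h1 := (hTm x).2 hx
    rw [hTb, Subgroup.mem_bot] at h1
    rw [Subgroup.mem_bot]
    exact Subtype.ext h1
  exact hR2 (nn_rank D1 D2 hne hS h2 N1 hK)

end Cfsg.Agent.H767.TE
end

-- part: H767/Sp4Syl
section
/-!
# Recognition of the Sylow `p`-subgroup of `Sp₄(p)` (helper767)

`iso_sylow_sp4` : for `p` odd a group of order `p⁴` with pairwise commuting elements `v₀, v₁, v₂` of order dividing `p`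
and an element `x` with `xᵖ = 1`, `v₀^x = v₀v₁`, `v₁^x = v₁v₂`, `v₂^x = v₂ ≠ 1` is isomorphic to a Sylow `p`-subgroup of
`Sp₄(p)`.
-/

set_option autoImplicit false
set_option linter.unusedSectionVars false
set_option linter.unusedVariables false
set_option linter.unusedSimpArgs false
set_option linter.unnecessarySeqFocus false

namespace Cfsg.Agent.H767.Sp4Syl

open Cfsg.Agent.Lib.DihedralRecog

/-- the additive group of order `p³` -/
abbrev Vec (p : ℕ) : Type := ZMod p × ZMod p × ZMod p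

/-- the regular unipotent automorphism -/
def T (p : ℕ) : Vec p ≃+ Vec p where
  toFun a := (a.1, a.2.1 + a.1, a.2.2 + a.2.1)
  invFun a := (a.1, a.2.1 - a.1, a.2.2 - a.2.1 + a.1)
  left_inv a := by
    ext <;> simp
    ring
  right_inv a := by
    ext <;> simp
  map_add' a b := by
    ext <;> simp <;> ring

/-- `T` as an automorphism of the multiplicative group -/
def Tm (p : ℕ) : MulAut (Multiplicative (Vec p)) := AddEquiv.toMultiplicative (T p)

theorem Tm_apply (p : ℕ) (a : Multiplicative (Vec p)) :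
    Tm p a = Multiplicative.ofAdd (a.toAdd.1, a.toAdd.2.1 + a.toAdd.1, a.toAdd.2.2 + a.toAdd.2.1) := rfl

theorem Tm_pow_apply (p n : ℕ) (a : Multiplicative (Vec p)) :
    (Tm p ^ n) a = Multiplicative.ofAdd
      (a.toAdd.1, a.toAdd.2.1 + n * a.toAdd.1, a.toAdd.2.2 + n * a.toAdd.2.1 + (n.choose 2 : ℕ) * a.toAdd.1) := by
  induction n with
  | zero => simp
  | succ n ih =>
    rw [pow_succ', MulAut.mul_apply, ih, Tm_apply]
    have h2 : ((n + 1).choose 2 : ℕ) = n.choose 2 + n := by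
      rw [Nat.choose_succ_succ' n 1, Nat.choose_one_right]
      ring
    rw [h2]
    apply Multiplicative.toAdd.injective
    ext
    · rfl
    · simp only [toAdd_ofAdd]
      push_cast
      ring
    · simp only [toAdd_ofAdd]
      push_cast
      ring

theorem Tm_pow_prime {p : ℕ} (hp : p.Prime) (h2 : p ≠ 2) : Tm p ^ p = 1 := by
  ext a : 1
  rw [Tm_pow_apply]
  have h1 : ((p.choose 2 : ℕ) : ZMod p) = 0 :=
    (ZMod.natCast_eq_zero_iff _ _).2 (hp.dvd_choose_self (by norm_num) (lt_of_le_of_ne hp.two_le (Ne.symm h2)))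
  rw [h1]
  simp

/-- the homomorphism from `ZMod m` given by an element of order dividing `m` -/
def zh {G : Type*} [Group G] {m : ℕ} (g : G) (hg : g ^ m = 1) : Multiplicative (ZMod m) →* G :=
  AddMonoidHom.toMultiplicativeLeft (zmodPowHom g hg)

theorem zh_apply {G : Type*} [Group G] {m : ℕ} (g : G) (hg : g ^ m = 1) (i : ZMod m) :
    zh g hg (Multiplicative.ofAdd i) = zpw g hg i := rfl

/-- the model group of order `p⁴` -/
abbrev Model {p : ℕ} (hp : p.Prime) (h2 : p ≠ 2) : Type :=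
  Multiplicative (Vec p) ⋊[zh (Tm p) (Tm_pow_prime hp h2)] Multiplicative (ZMod p)

theorem card_model {p : ℕ} (hp : p.Prime) (h2 : p ≠ 2) : Nat.card (Model hp h2) = p ^ 4 := by
  rw [SemidirectProduct.card, Nat.card_congr (Multiplicative.toAdd), Nat.card_congr (Multiplicative.toAdd),
    Nat.card_prod, Nat.card_prod, Nat.card_zmod]
  ring

section hom

variable {G : Type*} [Group G] {p : ℕ}

/-- the data: commuting elements and a regular unipotent action -/
structure Data (p : ℕ) (v0 v1 v2 x : G) : Prop where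
  h0 : v0 ^ p = 1
  h1 : v1 ^ p = 1
  h2 : v2 ^ p = 1
  hx : x ^ p = 1
  c01 : Commute v0 v1
  c02 : Commute v0 v2
  c12 : Commute v1 v2
  x0 : x * v0 * x⁻¹ = v0 * v1
  x1 : x * v1 * x⁻¹ = v1 * v2
  x2 : x * v2 * x⁻¹ = v2

theorem zpw_eq_pow {m : ℕ} [NeZero m] (g : G) (hg : g ^ m = 1) (i : ZMod m) : zpw g hg i = g ^ i.val := by
  conv_lhs => rw [← ZMod.natCast_zmod_val i]
  rw [zpw_natCast]

theorem zpw_commute {m : ℕ} [NeZero m] {g h : G} (hg : g ^ m = 1) (hh : h ^ m = 1) (hc : Commute g h) (i j : ZMod m) :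
    Commute (zpw g hg i) (zpw h hh j) := by
  rw [zpw_eq_pow, zpw_eq_pow]
  exact hc.pow_pow _ _

theorem conj_zpw_mul {m : ℕ} [NeZero m] {g h x : G} (hg : g ^ m = 1) (hh : h ^ m = 1) (hc : Commute g h)
    (hx : x * g * x⁻¹ = g * h) (i : ZMod m) : x * zpw g hg i * x⁻¹ = zpw g hg i * zpw h hh i := by
  rw [zpw_eq_pow, zpw_eq_pow, ← hc.mul_pow, ← hx, conj_pow]

theorem conj_zpw_self {m : ℕ} [NeZero m] {g x : G} (hg : g ^ m = 1)
    (hx : x * g * x⁻¹ = g) (i : ZMod m) : x * zpw g hg i * x⁻¹ = zpw g hg i := by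
  rw [zpw_eq_pow]
  conv_rhs => rw [← hx, conj_pow]

variable [NeZero p] {v0 v1 v2 x : G} (D : Data p v0 v1 v2 x)

/-- the homomorphism `(a, b, c) ↦ v₀ᵃv₁ᵇv₂ᶜ` -/
def f1 : Multiplicative (Vec p) →* G where
  toFun a := zpw v0 D.h0 a.toAdd.1 * zpw v1 D.h1 a.toAdd.2.1 * zpw v2 D.h2 a.toAdd.2.2
  map_one' := by
    show zpw v0 D.h0 0 * zpw v1 D.h1 0 * zpw v2 D.h2 0 = 1
    rw [zpw_zero, zpw_zero, zpw_zero, one_mul, one_mul]
  map_mul' a b := by
    show zpw v0 D.h0 (a.toAdd.1 + b.toAdd.1) * zpw v1 D.h1 (a.toAdd.2.1 + b.toAdd.2.1) *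
      zpw v2 D.h2 (a.toAdd.2.2 + b.toAdd.2.2) = _
    rw [zpw_add, zpw_add, zpw_add]
    have e1 := (zpw_commute D.h0 D.h1 D.c01 b.toAdd.1 a.toAdd.2.1).eq
    have e2 := (zpw_commute D.h0 D.h2 D.c02 b.toAdd.1 a.toAdd.2.2).eq
    have e3 := (zpw_commute D.h1 D.h2 D.c12 b.toAdd.2.1 a.toAdd.2.2).eq
    simp only [mul_assoc]
    rw [← mul_assoc (zpw v0 D.h0 b.toAdd.1) (zpw v1 D.h1 a.toAdd.2.1), e1]
    simp only [mul_assoc]
    rw [← mul_assoc (zpw v1 D.h1 b.toAdd.2.1) (zpw v2 D.h2 a.toAdd.2.2), e3]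
    simp only [mul_assoc]
    rw [← mul_assoc (zpw v0 D.h0 b.toAdd.1) (zpw v2 D.h2 a.toAdd.2.2), e2]
    simp only [mul_assoc]

theorem f1_apply (a b c : ZMod p) : f1 D (Multiplicative.ofAdd (a, b, c)) =
    zpw v0 D.h0 a * zpw v1 D.h1 b * zpw v2 D.h2 c := rfl

theorem conj_f1 (a : Multiplicative (Vec p)) : x * f1 D a * x⁻¹ = f1 D (Tm p a) := by
  show x * (zpw v0 D.h0 a.toAdd.1 * zpw v1 D.h1 a.toAdd.2.1 * zpw v2 D.h2 a.toAdd.2.2) * x⁻¹ =
    zpw v0 D.h0 a.toAdd.1 * zpw v1 D.h1 (a.toAdd.2.1 + a.toAdd.1) * zpw v2 D.h2 (a.toAdd.2.2 + a.toAdd.2.1)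
  have e0 := conj_zpw_mul D.h0 D.h1 D.c01 D.x0 a.toAdd.1
  have e1 := conj_zpw_mul D.h1 D.h2 D.c12 D.x1 a.toAdd.2.1
  have e2 := conj_zpw_self D.h2 D.x2 a.toAdd.2.2
  rw [zpw_add, zpw_add]
  calc x * (zpw v0 D.h0 a.toAdd.1 * zpw v1 D.h1 a.toAdd.2.1 * zpw v2 D.h2 a.toAdd.2.2) * x⁻¹
      = (x * zpw v0 D.h0 a.toAdd.1 * x⁻¹) * (x * zpw v1 D.h1 a.toAdd.2.1 * x⁻¹) *
        (x * zpw v2 D.h2 a.toAdd.2.2 * x⁻¹) := by group
    _ = _ := by
        rw [e0, e1, e2]
        have c1 := (zpw_commute D.h1 D.h1 (Commute.refl _) a.toAdd.1 a.toAdd.2.1).eq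
        have c2 := (zpw_commute D.h2 D.h2 (Commute.refl _) a.toAdd.2.1 a.toAdd.2.2).eq
        simp only [mul_assoc]
        rw [← mul_assoc (zpw v1 D.h1 a.toAdd.1), c1, c2]
        simp only [mul_assoc]

theorem conj_pow_f1 (n : ℕ) (a : Multiplicative (Vec p)) : x ^ n * f1 D a * (x ^ n)⁻¹ = f1 D ((Tm p ^ n) a) := by
  induction n with
  | zero => simp
  | succ n ih =>
    rw [pow_succ', pow_succ', MulAut.mul_apply, ← conj_f1, ← ih]
    group

theorem f1_injective (hp : p.Prime) (hne : v2 ≠ 1) : Function.Injective (f1 D) := by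
  have : Fact p.Prime := ⟨hp⟩
  have ho : orderOf v2 = p := orderOf_eq_prime D.h2 hne
  have key : ∀ i : ZMod p, zpw v2 D.h2 i = 1 → i = 0 := fun i hi =>
    zpw_inj v2 D.h2 ho i 0 (by rw [hi, zpw_zero])
  have step : ∀ a b c : ZMod p, f1 D (Multiplicative.ofAdd (a, b, c)) = 1 →
      f1 D (Multiplicative.ofAdd (0, a, b)) = 1 := by
    intro a b c h
    have h1 := conj_f1 D (Multiplicative.ofAdd (a, b, c))
    rw [h, mul_one, mul_inv_cancel] at h1
    have h2 : Tm p (Multiplicative.ofAdd (a, b, c)) =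
        Multiplicative.ofAdd (a, b, c) * Multiplicative.ofAdd ((0, a, b) : Vec p) := by
      rw [Tm_apply, ← ofAdd_add]
      simp
    rw [h2, map_mul, h, one_mul] at h1
    exact h1.symm
  rw [injective_iff_map_eq_one]
  intro a ha
  obtain ⟨a0, b0, c0, rfl⟩ : ∃ a0 b0 c0 : ZMod p, a = Multiplicative.ofAdd (a0, b0, c0) :=
    ⟨a.toAdd.1, a.toAdd.2.1, a.toAdd.2.2, rfl⟩
  have h1 := step _ _ _ ha
  have h2 := step _ _ _ h1
  rw [f1_apply, zpw_zero, zpw_zero, one_mul, one_mul] at h2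
  have ha0 := key _ h2
  subst ha0
  rw [f1_apply, zpw_zero, zpw_zero, one_mul, one_mul] at h1
  have hb0 := key _ h1
  subst hb0
  rw [f1_apply, zpw_zero, zpw_zero, one_mul, one_mul] at ha
  have hc0 := key _ ha
  subst hc0
  rfl

theorem f1_comm (a b : Multiplicative (Vec p)) : f1 D a * f1 D b = f1 D b * f1 D a := by
  rw [← map_mul, ← map_mul, mul_comm]

/-- the homomorphism from the model -/
def modelHom (hp : p.Prime) (hp2 : p ≠ 2) : Model hp hp2 →* G :=
  SemidirectProduct.lift (f1 D) (zh x D.hx) (by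
    intro g
    refine MonoidHom.ext fun (a : Multiplicative (Vec p)) => ?_
    show f1 D (zh (Tm p) (Tm_pow_prime hp hp2) g a) = zh x D.hx g * f1 D a * (zh x D.hx g)⁻¹
    have e1 : zh (Tm p) (Tm_pow_prime hp hp2) g = Tm p ^ (g.toAdd.val) :=
      zpw_eq_pow (Tm p) (Tm_pow_prime hp hp2) g.toAdd
    have e2 : zh x D.hx g = x ^ (g.toAdd.val) := zpw_eq_pow x D.hx g.toAdd
    rw [e1, e2, conj_pow_f1])

theorem modelHom_injective (hp : p.Prime) (hp2 : p ≠ 2) (hne : v2 ≠ 1) :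
    Function.Injective (modelHom D hp hp2) := by
  have : Fact p.Prime := ⟨hp⟩
  rw [injective_iff_map_eq_one]
  rintro ⟨a, g⟩ h
  have h1 : f1 D a * zh x D.hx g = 1 := h
  have hxr : x ∉ (f1 D).range := by
    rintro ⟨b, hb⟩
    have e0 : f1 D (Multiplicative.ofAdd (1, 0, 0)) = v0 := by
      rw [f1_apply, zpw_zero, zpw_zero, zpw_one, mul_one, mul_one]
    have e1 := f1_comm D b (Multiplicative.ofAdd (1, 0, 0))
    rw [hb, e0] at e1
    have e2 := D.x0
    rw [e1, mul_inv_cancel_right] at e2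
    have e3 : v1 = 1 := by
      have : v0 * 1 = v0 * v1 := by rw [mul_one]; exact e2
      exact (mul_left_cancel this).symm
    have e4 := D.x1
    rw [e3, mul_one, mul_inv_cancel, one_mul] at e4
    exact hne e4.symm
  have hg : zh x D.hx g ∈ (f1 D).range := by
    refine ⟨a⁻¹, ?_⟩
    rw [map_inv]
    exact (eq_inv_of_mul_eq_one_right h1).symm
  have hx1 : x ≠ 1 := by
    rintro rfl
    exact hxr (one_mem _)
  have hox : orderOf x = p := orderOf_eq_prime D.hx hx1
  have hg0 : g = 1 := by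
    by_contra hg1
    apply hxr
    have e2 : zh x D.hx g = x ^ (g.toAdd.val) := zpw_eq_pow x D.hx g.toAdd
    rw [e2] at hg
    have hcop : Nat.Coprime (g.toAdd.val) p := by
      rw [Nat.coprime_comm, Nat.Prime.coprime_iff_not_dvd hp]
      intro hd
      have h3 : ((g.toAdd.val : ℕ) : ZMod p) = 0 := (ZMod.natCast_eq_zero_iff _ _).2 hd
      rw [ZMod.natCast_zmod_val] at h3
      exact hg1 (Multiplicative.toAdd.injective h3)
    obtain ⟨m, hm⟩ : ∃ m : ℕ, (x ^ (g.toAdd.val)) ^ m = x := by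
      have h4 := exists_pow_eq_self_of_coprime (x := x) (n := g.toAdd.val) (by rw [hox]; exact hcop)
      exact h4
    have h5 := pow_mem hg m
    rwa [hm] at h5
  subst hg0
  rw [map_one, mul_one] at h1
  have ha : a = 1 := f1_injective D hp hne (by rw [h1, map_one])
  subst ha
  rfl

end hom

/-- Two groups of order `p⁴` with these data are isomorphic to the model. -/
theorem iso_model {G : Type*} [Group G] {p : ℕ} [NeZero p] {v0 v1 v2 x : G} (D : Data p v0 v1 v2 x) (hp : p.Prime)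
    (hp2 : p ≠ 2) (hne : v2 ≠ 1) (hcard : Nat.card G = p ^ 4) : Nonempty (Model hp hp2 ≃* G) := by
  have hfin : Finite G := Nat.finite_of_card_ne_zero (by rw [hcard]; exact pow_ne_zero _ hp.ne_zero)
  refine ⟨MulEquiv.ofBijective (modelHom D hp hp2) ?_⟩
  rw [Nat.bijective_iff_injective_and_card]
  exact ⟨modelHom_injective D hp hp2 hne, by rw [card_model, hcard]⟩

section sp

open Matrix

variable {p : ℕ} [Fact p.Prime]

local notation "SpG" => Matrix.symplecticGroup (Fin 2) (ZMod p)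

/-- block upper unitriangular elements -/
def N (B : Matrix (Fin 2) (Fin 2) (ZMod p)) (hB : Bᵀ = B) : SpG :=
  ⟨fromBlocks 1 B 0 1, by
    rw [SymplecticGroup.fromBlocks_mem_iff]
    simp [hB]⟩

theorem N_mul (B C : Matrix (Fin 2) (Fin 2) (ZMod p)) (hB : Bᵀ = B) (hC : Cᵀ = C) :
    N B hB * N C hC = N (B + C) (by rw [transpose_add, hB, hC]) := by
  apply Subtype.ext
  show fromBlocks 1 B 0 1 * fromBlocks 1 C 0 1 = fromBlocks 1 (B + C) 0 1
  rw [fromBlocks_multiply]
  simp [add_comm]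

theorem N_pow (B : Matrix (Fin 2) (Fin 2) (ZMod p)) (hB : Bᵀ = B) (n : ℕ) :
    N B hB ^ n = N (n • B) (by rw [transpose_smul, hB]) := by
  induction n with
  | zero =>
    apply Subtype.ext
    show (1 : Matrix (Fin 2 ⊕ Fin 2) (Fin 2 ⊕ Fin 2) (ZMod p)) = fromBlocks 1 (0 • B) 0 1
    rw [zero_smul, fromBlocks_one]
  | succ n ih =>
    rw [pow_succ, ih, N_mul]
    congr 1
    rw [succ_nsmul]

theorem N_pow_prime (B : Matrix (Fin 2) (Fin 2) (ZMod p)) (hB : Bᵀ = B) : N B hB ^ p = 1 := by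
  rw [N_pow]
  apply Subtype.ext
  show fromBlocks 1 (p • B) 0 1 = (1 : Matrix (Fin 2 ⊕ Fin 2) (Fin 2 ⊕ Fin 2) (ZMod p))
  have : p • B = 0 := by
    ext i j
    simp
  rw [this, fromBlocks_one]

theorem N_comm (B C : Matrix (Fin 2) (Fin 2) (ZMod p)) (hB : Bᵀ = B) (hC : Cᵀ = C) :
    Commute (N B hB) (N C hC) := by
  show N B hB * N C hC = N C hC * N B hB
  rw [N_mul, N_mul]
  congr 1
  rw [add_comm]

/-- the Levi part -/
def X (n : ZMod p) : SpG :=
  ⟨fromBlocks !![1, n; 0, 1] 0 0 !![1, 0; -n, 1], by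
    rw [SymplecticGroup.fromBlocks_mem_iff]
    refine ⟨by simp, by simp, ?_⟩
    ext i j
    fin_cases i <;> fin_cases j <;> simp [Matrix.mul_apply, Fin.sum_univ_two]⟩

theorem X_mul (m n : ZMod p) : X m * X n = X (m + n) := by
  apply Subtype.ext
  show fromBlocks !![1, m; 0, 1] 0 0 !![1, 0; -m, 1] * fromBlocks !![1, n; 0, 1] 0 0 !![1, 0; -n, 1] =
    fromBlocks !![1, m + n; 0, 1] 0 0 !![1, 0; -(m + n), 1]
  rw [fromBlocks_multiply]
  congr 1
  · ext i j
    fin_cases i <;> fin_cases j <;> simp [Matrix.mul_apply, Fin.sum_univ_two, add_comm]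
  · simp
  · simp
  · ext i j
    fin_cases i <;> fin_cases j <;> simp [Matrix.mul_apply, Fin.sum_univ_two, add_comm]

theorem X_zero : X (0 : ZMod p) = 1 := by
  apply Subtype.ext
  show fromBlocks !![1, 0; 0, 1] 0 0 !![1, 0; -0, 1] = (1 : Matrix (Fin 2 ⊕ Fin 2) (Fin 2 ⊕ Fin 2) (ZMod p))
  rw [← fromBlocks_one]
  congr 1
  · ext i j
    fin_cases i <;> fin_cases j <;> simp
  · ext i j
    fin_cases i <;> fin_cases j <;> simp

theorem X_pow (n : ℕ) : X (1 : ZMod p) ^ n = X (n : ZMod p) := by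
  induction n with
  | zero => rw [pow_zero, Nat.cast_zero, X_zero]
  | succ n ih => rw [pow_succ, ih, X_mul, Nat.cast_succ]

theorem X_conj (B C : Matrix (Fin 2) (Fin 2) (ZMod p)) (hB : Bᵀ = B) (hC : Cᵀ = C)
    (h : !![1, 1; 0, 1] * B = C * !![1, 0; -1, 1]) : X 1 * N B hB * (X 1)⁻¹ = N C hC := by
  rw [mul_inv_eq_iff_eq_mul]
  apply Subtype.ext
  show fromBlocks !![1, 1; 0, 1] 0 0 !![1, 0; -1, 1] * fromBlocks 1 B 0 1 =
    fromBlocks 1 C 0 1 * fromBlocks !![1, 1; 0, 1] 0 0 !![1, 0; -1, 1]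
  rw [fromBlocks_multiply, fromBlocks_multiply]
  congr 1
  · simp
  · simp only [Matrix.zero_mul, add_zero, Matrix.mul_one, Matrix.mul_zero, zero_add, Matrix.one_mul]
    exact h
  · simp
  · simp

theorem data_sp : Data p
    (N (!![0, 0; 0, 1] : Matrix (Fin 2) (Fin 2) (ZMod p)) (by ext i j; fin_cases i <;> fin_cases j <;> rfl))
    (N !![1, 1; 1, 0] (by ext i j; fin_cases i <;> fin_cases j <;> rfl))
    (N !![2, 0; 0, 0] (by ext i j; fin_cases i <;> fin_cases j <;> rfl)) (X 1) where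
  h0 := N_pow_prime _ _
  h1 := N_pow_prime _ _
  h2 := N_pow_prime _ _
  hx := by rw [X_pow, CharP.cast_eq_zero, X_zero]
  c01 := N_comm _ _ _ _
  c02 := N_comm _ _ _ _
  c12 := N_comm _ _ _ _
  x0 := by
    rw [N_mul]
    apply X_conj
    ext i j
    fin_cases i <;> fin_cases j <;> simp [Matrix.mul_apply, Fin.sum_univ_two]
  x1 := by
    rw [N_mul]
    apply X_conj
    ext i j
    fin_cases i <;> fin_cases j <;> simp [Matrix.mul_apply, Fin.sum_univ_two] <;> ring
  x2 := by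
    apply X_conj
    ext i j
    fin_cases i <;> fin_cases j <;> simp [Matrix.mul_apply, Fin.sum_univ_two]

theorem n2_ne (hp2 : p ≠ 2) : N (!![2, 0; 0, 0] : Matrix (Fin 2) (Fin 2) (ZMod p))
    (by ext i j; fin_cases i <;> fin_cases j <;> rfl) ≠ 1 := by
  intro h
  have h1 := congrArg Subtype.val h
  have h2 : fromBlocks (1 : Matrix (Fin 2) (Fin 2) (ZMod p)) (!![2, 0; 0, 0] : Matrix (Fin 2) (Fin 2) (ZMod p))
      (0 : Matrix (Fin 2) (Fin 2) (ZMod p)) (1 : Matrix (Fin 2) (Fin 2) (ZMod p)) =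
      fromBlocks 1 (0 : Matrix (Fin 2) (Fin 2) (ZMod p)) 0 1 := by
    rw [fromBlocks_one]
    exact h1
  have h3 := (fromBlocks_inj.1 h2).2.1
  have h4 := congrFun (congrFun h3 0) 0
  have h5 : (2 : ZMod p) = 0 := h4
  have h6 : ((2 : ℕ) : ZMod p) = 0 := by exact_mod_cast h5
  rw [ZMod.natCast_eq_zero_iff] at h6
  exact hp2 ((Nat.prime_dvd_prime_iff_eq Fact.out Nat.prime_two).1 h6)

/-- A Sylow `p`-subgroup of `Sp₄(p)`. -/
theorem exists_sylow_sp (hp2 : p ≠ 2) : ∃ P : Sylow p SpG, Nonempty (Model (Fact.out : p.Prime) hp2 ≃* (P : Subgroup SpG)) := by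
  have hp : p.Prime := Fact.out
  have hinj := modelHom_injective (data_sp (p := p)) hp hp2 (n2_ne hp2)
  have hcard : Nat.card (modelHom (data_sp (p := p)) hp hp2).range = p ^ 4 := by
    rw [← Nat.card_congr (MonoidHom.ofInjective hinj).toEquiv, card_model]
  have hG := Cfsg.Agent.S0245.result (F := ZMod p) (q := p) (ZMod.card p) 2
  have hndvd : ¬ p ∣ ∏ i ∈ Finset.range 2, (p ^ (2 * (i + 1)) - 1) := by
    intro h
    obtain ⟨i, hi, hd⟩ := (Prime.dvd_finsetProd_iff hp.prime _).1 h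
    have h1 : p ∣ p ^ (2 * (i + 1)) := dvd_pow_self p (by omega)
    have h2 : 1 ≤ p ^ (2 * (i + 1)) := Nat.one_le_pow _ _ hp.pos
    have h3 := (Nat.dvd_sub h1 hd)
    rw [Nat.sub_sub_self h2] at h3
    exact hp.one_lt.ne' (Nat.dvd_one.1 h3)
  have hidx : ¬ p ∣ (modelHom (data_sp (p := p)) hp hp2).range.index := by
    have h1 := (modelHom (data_sp (p := p)) hp hp2).range.card_mul_index
    rw [hcard, hG] at h1
    have h2 : p ^ 2 ^ 2 = p ^ 4 := by norm_num
    rw [h2] at h1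
    have h3 := Nat.eq_of_mul_eq_mul_left (Nat.pow_pos hp.pos) h1
    rw [h3]
    exact hndvd
  let P : Sylow p SpG := (IsPGroup.of_card hcard).toSylow hidx
  refine ⟨P, ⟨MonoidHom.ofInjective hinj⟩⟩

/-- **Recognition of the Sylow `p`-subgroup of `Sp₄(p)`.** -/
theorem iso_sylow_sp4 {G : Type*} [Group G] {v0 v1 v2 x : G} (D : Data p v0 v1 v2 x)
    (hp2 : p ≠ 2) (hne : v2 ≠ 1) (hcard : Nat.card G = p ^ 4) :
    ∃ P : Sylow p SpG, Nonempty (G ≃* (P : Subgroup SpG)) := by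
  obtain ⟨P, ⟨e⟩⟩ := exists_sylow_sp (p := p) hp2
  obtain ⟨e'⟩ := iso_model D Fact.out hp2 hne hcard
  exact ⟨P, ⟨e'.symm.trans e⟩⟩

end sp

/-- Recognition in terms of an elementary abelian maximal subgroup `E` and `x` acting on it as a regular unipotent. -/
theorem iso_sylow_of_regular {G : Type*} [Group G] {p : ℕ} [hp : Fact p.Prime] (hp2 : p ≠ 2) (hcard : Nat.card G = p ^ 4)
    {E : Subgroup G} (hEn : E.Normal) (hEc : ∀ a ∈ E, ∀ b ∈ E, a * b = b * a) (hEp : ∀ a ∈ E, a ^ p = 1)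
    (hE3 : Nat.card E = p ^ 3) {x : G} (hx : x ^ p = 1) {v : G} (hv : v ∈ E)
    (hvx : x * (v⁻¹ * (x * v * x⁻¹)) * x⁻¹ ≠ v⁻¹ * (x * v * x⁻¹)) :
    ∃ P : Sylow p (Matrix.symplecticGroup (Fin 2) (ZMod p)),
      Nonempty (G ≃* (P : Subgroup (Matrix.symplecticGroup (Fin 2) (ZMod p)))) := by
  have hfin : Finite G := Nat.finite_of_card_ne_zero (by rw [hcard]; exact pow_ne_zero _ hp.out.ne_zero)
  -- commutator with `x` on `E`
  have hconj : ∀ a ∈ E, x * a * x⁻¹ ∈ E := fun a ha => hEn.conj_mem a ha x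
  let δ : E →* E :=
    { toFun := fun a => ⟨(a : G)⁻¹ * (x * a * x⁻¹), E.mul_mem (E.inv_mem a.2) (hconj a a.2)⟩
      map_one' := Subtype.ext (by simp)
      map_mul' := fun a b => Subtype.ext (by
        show ((a : G) * b)⁻¹ * (x * (a * b) * x⁻¹) = ((a : G)⁻¹ * (x * a * x⁻¹)) * ((b : G)⁻¹ * (x * b * x⁻¹))
        have e1 := hEc _ (E.inv_mem b.2) _ (E.mul_mem (E.inv_mem a.2) (hconj a a.2))
        calc ((a : G) * b)⁻¹ * (x * (a * b) * x⁻¹)
            = ((b : G)⁻¹ * ((a : G)⁻¹ * (x * a * x⁻¹))) * (x * b * x⁻¹) := by group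
          _ = _ := by rw [e1]; group) }
  have hδ : ∀ a : E, ((δ a : E) : G) = (a : G)⁻¹ * (x * a * x⁻¹) := fun a => rfl
  set v0 : E := ⟨v, hv⟩ with hv0
  set v1 := δ v0 with hv1
  set v2 := δ v1 with hv2
  have hv2ne : v2 ≠ 1 := by
    intro h
    apply hvx
    have h1 := congrArg Subtype.val h
    rw [hv2, hδ] at h1
    have h2 : ((v1 : E) : G)⁻¹ * (x * v1 * x⁻¹) = 1 := h1
    rw [inv_mul_eq_one] at h2
    exact h2.symm
  -- nilpotency: `δ³ = 1`
  have hGp : IsPGroup p G := IsPGroup.of_card hcard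
  have hxE : x ∉ E := by
    intro hxE
    apply hvx
    have h1 : x * v * x⁻¹ = v := by rw [hEc x hxE v hv, mul_inv_cancel_right]
    rw [h1, inv_mul_cancel, mul_one, mul_inv_cancel]
  have htop : E ⊔ Subgroup.zpowers x = ⊤ := by
    apply Subgroup.eq_top_of_le_card
    rw [hcard]
    have h2 : Nat.card (E ⊔ Subgroup.zpowers x : Subgroup G) ∣ p ^ 4 := by
      rw [← hcard]
      exact Subgroup.card_subgroup_dvd_card _
    obtain ⟨k, hk, hk'⟩ := (Nat.dvd_prime_pow hp.out).1 h2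
    have h3 : Nat.card E ≤ Nat.card (E ⊔ Subgroup.zpowers x : Subgroup G) := Subgroup.card_le_of_le le_sup_left
    rw [hE3, hk'] at h3
    have h4 := (Nat.pow_le_pow_iff_right hp.out.one_lt).1 h3
    have h5 : k ≠ 3 := by
      rintro rfl
      have h6 : E = E ⊔ Subgroup.zpowers x := Subgroup.eq_of_le_of_card_ge le_sup_left (by rw [hk', hE3])
      apply hxE
      rw [h6]
      exact (le_sup_right : Subgroup.zpowers x ≤ _) (Subgroup.mem_zpowers x)
    have h6 : k = 4 := by omega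
    rw [hk', h6]
  have hstep : ∀ W : Subgroup E, W.map δ ≤ W → W = ⊥ ∨ p * Nat.card (W.map δ) ≤ Nat.card W := by
    intro W hW
    by_cases hWb : W = ⊥
    · exact Or.inl hWb
    right
    -- a nontrivial element of `W` killed by `δ`
    have hWn : (W.map E.subtype).Normal := by
      rw [← Subgroup.normalizer_eq_top_iff, eq_top_iff, ← htop]
      refine sup_le ?_ ?_
      · intro e he
        rw [Subgroup.mem_normalizer_iff]
        have h1 : ∀ z : G, z ∈ E → e * z * e⁻¹ = z := fun z hz => by rw [hEc e he z hz, mul_inv_cancel_right]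
        intro z
        constructor
        · rintro ⟨w, hw, rfl⟩
          refine ⟨w, hw, ?_⟩
          exact (h1 _ w.2).symm
        · rintro ⟨w, hw, hwz⟩
          refine ⟨w, hw, ?_⟩
          have h2 : z = e⁻¹ * (w : G) * e := by
            have h3 : (w : G) = e * z * e⁻¹ := hwz
            rw [h3]
            group
          have h3 : e⁻¹ * (w : G) * e = w := by
            rw [hEc _ (E.inv_mem he) _ w.2, inv_mul_cancel_right]
          rw [h2, h3]
          rfl
      · rw [Subgroup.zpowers_le]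
        -- it suffices that `x` maps `W` into itself
        have h1 : (W.map E.subtype).map (MulAut.conj x).toMonoidHom ≤ W.map E.subtype := by
          rintro _ ⟨_, ⟨w, hw, rfl⟩, rfl⟩
          refine ⟨w * δ w, W.mul_mem hw (hW ⟨w, hw, rfl⟩), ?_⟩
          show (w : G) * ((w : G)⁻¹ * (x * w * x⁻¹)) = x * w * x⁻¹
          group
        have h2 : (W.map E.subtype).map (MulAut.conj x).toMonoidHom = W.map E.subtype :=
          Subgroup.eq_of_le_of_card_ge h1
            (Subgroup.card_map_of_injective (f := (MulAut.conj x).toMonoidHom) (MulAut.conj x).injective).ge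
        rw [Subgroup.mem_normalizer_iff]
        intro z
        constructor
        · intro hz
          rw [← h2]
          exact ⟨z, hz, rfl⟩
        · intro hz
          rw [← h2] at hz
          obtain ⟨z', hz', hzz⟩ := hz
          have h3 : z' = z := (MulAut.conj x).injective hzz
          rwa [← h3]
    have hWne : W.map E.subtype ≠ ⊥ := by
      rw [Ne, Subgroup.map_eq_bot_iff_of_injective _ E.subtype_injective]
      exact hWb
    obtain ⟨Z, hZW, hZc, hZp⟩ :=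
      Cfsg.Agent.Transfer.TausskyTwoGroup.exists_central_card_prime_le hGp (W.map E.subtype) hWne
    -- the kernel of `δ` on `W` has order at least `p`
    have h1 := ((δ.comp W.subtype).ker).card_mul_index
    rw [Subgroup.index_ker] at h1
    have h2 : (δ.comp W.subtype).range = W.map δ := by
      rw [MonoidHom.range_comp, Subgroup.range_subtype]
    rw [h2] at h1
    rw [← h1]
    apply Nat.mul_le_mul_right
    rw [← hZp]
    have hmem : ∀ z : Z, ∃ w : (δ.comp W.subtype).ker, (((w : W) : E) : G) = z := by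
      intro z
      obtain ⟨w, hw, hwz⟩ := hZW z.2
      refine ⟨⟨⟨w, hw⟩, ?_⟩, hwz⟩
      show δ w = 1
      apply Subtype.ext
      rw [hδ]
      have h3 := Subgroup.mem_center_iff.1 (hZc z.2) x
      have h4 : (w : G) = z := hwz
      rw [h4, h3, mul_inv_cancel_right, inv_mul_cancel]
      rfl
    choose f hf using hmem
    exact Nat.card_le_card_of_injective f (fun a b hab => Subtype.ext (by rw [← hf a, ← hf b, hab]))
  have hpos := hp.out.pos
  have h3 : δ v2 = 1 := by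
    have hle : ∀ W : Subgroup E, W.map δ ≤ W → (W.map δ).map δ ≤ W.map δ := fun W hW => Subgroup.map_mono hW
    have m0 : (⊤ : Subgroup E).map δ ≤ ⊤ := le_top
    have m1 := hle _ m0
    have m2 := hle _ m1
    have m3 := hle _ m2
    have hv1m : v1 ∈ (⊤ : Subgroup E).map δ := ⟨v0, Subgroup.mem_top _, rfl⟩
    have hv2m : v2 ∈ ((⊤ : Subgroup E).map δ).map δ := ⟨v1, hv1m, rfl⟩
    have hv3m : δ v2 ∈ (((⊤ : Subgroup E).map δ).map δ).map δ := ⟨v2, hv2m, rfl⟩
    have hb : ((((⊤ : Subgroup E).map δ).map δ).map δ) = ⊥ := by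
      rcases hstep _ m0 with h | h
      · rw [h, Subgroup.mem_map] at hv1m
        obtain ⟨a, ha, ha'⟩ := hv1m
        rw [Subgroup.mem_bot] at ha
        rw [ha, map_one] at ha'
        rw [← ha', map_one] at hv2
        exact (hv2ne hv2).elim
      · rcases hstep _ m1 with h' | h'
        · rw [h', Subgroup.map_bot, Subgroup.map_bot]
        · rcases hstep _ m2 with h'' | h''
          · rw [h'', Subgroup.map_bot]
          · rw [Subgroup.card_top, hE3] at h
            apply Subgroup.eq_bot_of_card_le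
            set c1 := Nat.card ((⊤ : Subgroup E).map δ)
            set c2 := Nat.card (((⊤ : Subgroup E).map δ).map δ)
            set c3 := Nat.card ((((⊤ : Subgroup E).map δ).map δ).map δ)
            have e1 : p * (p * (p * c3)) ≤ p ^ 3 :=
              (Nat.mul_le_mul_left p ((Nat.mul_le_mul_left p h'').trans h')).trans h
            have e2 : p ^ 3 * c3 ≤ p ^ 3 * 1 := by
              calc p ^ 3 * c3 = p * (p * (p * c3)) := by ring
                _ ≤ p ^ 3 * 1 := by rw [mul_one]; exact e1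
            exact Nat.le_of_mul_le_mul_left e2 (Nat.pow_pos hpos)
    rw [hb, Subgroup.mem_bot] at hv3m
    exact hv3m
  have D : Data p (v0 : G) (v1 : G) (v2 : G) x :=
    { h0 := hEp _ v0.2
      h1 := hEp _ v1.2
      h2 := hEp _ v2.2
      hx := hx
      c01 := hEc _ v0.2 _ v1.2
      c02 := hEc _ v0.2 _ v2.2
      c12 := hEc _ v1.2 _ v2.2
      x0 := by
        have h4 : (v1 : G) = (v0 : G)⁻¹ * (x * v0 * x⁻¹) := hδ v0
        rw [h4]
        group
      x1 := by
        have h4 : (v2 : G) = (v1 : G)⁻¹ * (x * v1 * x⁻¹) := hδ v1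
        rw [h4]
        group
      x2 := by
        have h4 := congrArg Subtype.val h3
        rw [hδ] at h4
        have h5 : (v2 : G)⁻¹ * (x * v2 * x⁻¹) = 1 := h4
        rw [inv_mul_eq_one] at h5
        exact h5.symm }
  refine iso_sylow_sp4 D hp2 ?_ hcard
  intro h
  exact hv2ne (Subtype.ext h)

end Cfsg.Agent.H767.Sp4Syl
end

-- part: H767/TEConcl
section
/-!
# Two essential subgroups invariant under `Aut_F(S)`: the conclusion (helper767)
-/

set_option autoImplicit false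
set_option linter.unusedSectionVars false
set_option linter.unusedVariables false

namespace Cfsg.Agent.H767.TE

open Subgroup Cfsg Cfsg.FusionSystem Cfsg.Agent.H802
open scoped commutatorElement

universe u

variable {Ω : Type u} [Group Ω] {S : Subgroup Ω} {p : ℕ} [hp : Fact p.Prime]
variable [Finite S]

theorem nr_iso (h2 : p ≠ 2) {E1 E2 : Subgroup S} (hE2 : E2.Normal) (C : NRConcl p E1 E2) :
    ∃ P : Sylow p ↥(Matrix.symplecticGroup (Fin 2) (ZMod p)),
        Nonempty (↥S ≃* ↥(P : Subgroup ↥(Matrix.symplecticGroup (Fin 2) (ZMod p)))) := by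
  obtain ⟨y, hy, v, hv, hne⟩ := C.reg
  refine Cfsg.Agent.H767.Sp4Syl.iso_sylow_of_regular h2 C.card hE2 C.comm2 C.exp2 C.card2 (C.exp1 y hy) hv ?_
  intro h
  apply hne
  have h1 : y * v * y⁻¹ ∈ E2 := hE2.conj_mem v hv y
  have h3 : ⁅y, v⁆ = v⁻¹ * (y * v * y⁻¹) := by
    rw [commutatorElement_def]
    exact C.comm2 _ h1 _ (E2.inv_mem hv)
  rw [commutatorElement_def y ⁅y, v⁆, h3, h, mul_inv_cancel]

theorem nr_struct {E₁ E₂ : Subgroup Ω} (h1 : E₁ ≤ S) (h2 : E₂ ≤ S) (C : NRConcl p (E₁.subgroupOf S) (E₂.subgroupOf S)) :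
    Cfsg.IsExtraspecial p ↥E₁ ∧ Nat.card E₁ = p ^ 3 ∧ (∀ x ∈ E₁, x ^ p = 1) ∧
          Cfsg.IsElementaryAbelian p E₂ ∧ Nat.card E₂ = p ^ 3 := by
  have hfin1 : Finite E₁ := finite_of_le h1
  have hc1 : Nat.card E₁ = p ^ 3 := by
    rw [← C.card1]
    exact (Nat.card_congr (eS h1).toEquiv).symm
  have hc2 : Nat.card E₂ = p ^ 3 := by
    rw [← C.card2]
    exact (Nat.card_congr (eS h2).toEquiv).symm
  refine ⟨?_, hc1, ?_, ⟨⟨⟨?_⟩⟩, ?_⟩, hc2⟩
  · apply Cfsg.Agent.J2Type.ExtCube.isExtraspecial_of_card_cube hc1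
    obtain ⟨a, ha, b, hb, hab⟩ := C.ncomm1
    refine ⟨⟨a, ha⟩, ⟨b, hb⟩, fun h => hab ?_⟩
    apply Subtype.ext
    exact congrArg (fun z : E₁ => (z : Ω)) h
  · intro x hx
    have h3 := C.exp1 ⟨x, h1 hx⟩ hx
    exact congrArg Subtype.val h3
  · intro a b
    have h3 := C.comm2 ⟨a, h2 a.2⟩ a.2 ⟨b, h2 b.2⟩ b.2
    apply Subtype.ext
    exact congrArg (fun z : S => (z : Ω)) h3
  · intro a ha
    have h3 := C.exp2 ⟨a, h2 ha⟩ ha
    exact congrArg Subtype.val h3

end Cfsg.Agent.H767.TE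
end

-- part: S5189
section
set_option autoImplicit false
universe u
open Cfsg
open scoped commutatorElement

namespace Cfsg.Agent.S5189

/-- Let p be an odd prime, S a finite p-group of sectional p-rank exactly 3, and F a saturated fusion system over S whose largest subgroup normal in F is trivial. Suppose S has two distinct essential subgroups E₁, E₂ each of which is invariant under every F-automorphism of S. Then S is isomorphic to a Sylow p-subgroup of Sp(4,p), and one of E₁, E₂ is extraspecial of order p³ and exponent p while the other is elementary abelian of order p³. -/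
theorem result {Ω : Type u} [Group Ω] {S : Subgroup Ω} [Finite S] (p : ℕ) [Fact p.Prime] (hp : Odd p) (hS : IsPGroup p S)
    (hsr : Cfsg.SectionalPRankLE p 3 ↥S ∧ ¬ Cfsg.SectionalPRankLE p 2 ↥S)
    (F : Cfsg.FusionSystem S) (hF : F.IsSaturated p) (hO : F.core = ⊥)
    (E₁ E₂ : Subgroup Ω) (hne : E₁ ≠ E₂) (hE₁ : F.IsEssential p E₁) (hE₂ : F.IsEssential p E₂)
    (hc₁ : (∀ φ : MulAut ↥S, φ ∈ F.autGroup S → (E₁.subgroupOf S).map φ.toMonoidHom = E₁.subgroupOf S))
    (hc₂ : (∀ φ : MulAut ↥S, φ ∈ F.autGroup S → (E₂.subgroupOf S).map φ.toMonoidHom = E₂.subgroupOf S)) :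
    (∃ P : Sylow p ↥(Matrix.symplecticGroup (Fin 2) (ZMod p)),
        Nonempty (↥S ≃* ↥(P : Subgroup ↥(Matrix.symplecticGroup (Fin 2) (ZMod p))))) ∧
      ((Cfsg.IsExtraspecial p ↥E₁ ∧ Nat.card E₁ = p ^ 3 ∧ (∀ x ∈ E₁, x ^ p = 1) ∧
          Cfsg.IsElementaryAbelian p E₂ ∧ Nat.card E₂ = p ^ 3) ∨
        (Cfsg.IsExtraspecial p ↥E₂ ∧ Nat.card E₂ = p ^ 3 ∧ (∀ x ∈ E₂, x ^ p = 1) ∧
          Cfsg.IsElementaryAbelian p E₁ ∧ Nat.card E₁ = p ^ 3)) := by
  have h2 : p ≠ 2 := by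
    rintro rfl
    exact absurd hp (by decide)
  have hR := H767.TE.rk_of_sectional hsr.1
  have hn1 : (E₁.subgroupOf S).Normal := H767.TE.normal_of_inv F hc₁
  have hn2 : (E₂.subgroupOf S).Normal := H767.TE.normal_of_inv F hc₂
  have hS1 : E₁ ≤ S := hE₁.1.1
  have hS2 : E₂ ≤ S := hE₂.1.1
  have D1 := H767.TE.essData_of hS hF hE₁ hc₁ (H767.TE.index_of hS h2 hR hF hE₁)
  have D2 := H767.TE.essData_of hS hF hE₂ hc₂ (H767.TE.index_of hS h2 hR hF hE₂)
  have hne' : E₁.subgroupOf S ≠ E₂.subgroupOf S := by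
    intro h
    apply hne
    have h3 := congrArg (Subgroup.map S.subtype) h
    rwa [Subgroup.subgroupOf_map_subtype, Subgroup.subgroupOf_map_subtype, inf_eq_left.2 hS1, inf_eq_left.2 hS2] at h3
  obtain ⟨y1, hy1⟩ := D1.exists_notMem
  obtain ⟨y2, hy2⟩ := D2.exists_notMem
  by_cases hq1 : ∀ e ∈ E₁.subgroupOf S, ⁅y1, ⁅y1, e⁆⁆ ∈ H767.TE.Fr (E₁.subgroupOf S)
  · obtain ⟨K1, W1, τ1, N1⟩ := D1.nat hS h2 hR hy1 hq1
    by_cases hq2 : ∀ e ∈ E₂.subgroupOf S, ⁅y2, ⁅y2, e⁆⁆ ∈ H767.TE.Fr (E₂.subgroupOf S)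
    · obtain ⟨K2, W2, τ2, N2⟩ := D2.nat hS h2 hR hy2 hq2
      exact (H767.TE.nn_false h2 hS hR hsr.2 hF hO hne' D1 D2 N1 N2).elim
    · have R2 := D2.regular hS h2 hR hy2 hq2
      have C := H767.TE.nr_main D1 D2 hne' hS h2 hR N1 R2
      exact ⟨H767.TE.nr_iso h2 hn2 C, Or.inl (H767.TE.nr_struct hS1 hS2 C)⟩
  · have R1 := D1.regular hS h2 hR hy1 hq1
    by_cases hq2 : ∀ e ∈ E₂.subgroupOf S, ⁅y2, ⁅y2, e⁆⁆ ∈ H767.TE.Fr (E₂.subgroupOf S)
    · obtain ⟨K2, W2, τ2, N2⟩ := D2.nat hS h2 hR hy2 hq2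
      have C := H767.TE.nr_main D2 D1 hne'.symm hS h2 hR N2 R1
      exact ⟨H767.TE.nr_iso h2 hn1 C, Or.inr (H767.TE.nr_struct hS2 hS1 C)⟩
    · have R2 := D2.regular hS h2 hR hy2 hq2
      obtain ⟨G1, _, _, ι1, M1⟩ := H767.TE.exists_mdl hS hF hE₁
      obtain ⟨G2, _, _, ι2, M2⟩ := H767.TE.exists_mdl hS hF hE₂
      exact (H767.TE.rr_false D1 D2 hne' hS h2 hR R1 R2 M1 M2).elim

end Cfsg.Agent.S5189
end
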