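import Cfsg.Statements.S5191
import Cfsg.Agent.Lib.Cores
set_option linter.all false

set_option autoImplicit false
open Cfsg

namespace Cfsg.Agent.S5191

open scoped Pointwise

/-- Fusion in a finite group G and in its quotient by O_{p'}(G) agree. Let S be a Sylow p-subgroup of G, N = O_{p'}(G) and P ≤ S. If an element of G/N conjugates the image of P into the image of S, then some element g of G conjugates P into S and induces the same map on P modulo N. (Together with the injectivity of S → G/N this says that g ↦ gN induces an isomorphism of the fusion system of G on S with that of G/N on SN/N.) -/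
theorem result {G : Type*} [Group G] [Finite G] {p : ℕ} [Fact p.Prime]
    [hN : (Cfsg.pPrimeCore p G).Normal] (S : Sylow p G) (P : Subgroup G) (hP : P ≤ (S : Subgroup G))
    (γ : G ⧸ Cfsg.pPrimeCore p G)
    (hγ : ∀ x ∈ P, γ * QuotientGroup.mk x * γ⁻¹ ∈ ((S : Subgroup G).map (QuotientGroup.mk' (Cfsg.pPrimeCore p G)))) :
    ∃ g : G, ∀ x ∈ P, g * x * g⁻¹ ∈ S ∧
      (QuotientGroup.mk (g * x * g⁻¹) : G ⧸ Cfsg.pPrimeCore p G) = γ * QuotientGroup.mk x * γ⁻¹ := by
  obtain ⟨g₀, rfl⟩ := QuotientGroup.mk_surjective γ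
  set N := Cfsg.pPrimeCore p G with hNdef
  set H : Subgroup G := (S : Subgroup G) ⊔ N with hH
  have hSH : (S : Subgroup G) ≤ H := le_sup_left
  -- the conjugate of P
  have hQ : ∀ x ∈ P, g₀ * x * g₀⁻¹ ∈ H := by
    intro x hx
    obtain ⟨s, hs, hsx⟩ := hγ x hx
    have h1 : (QuotientGroup.mk s : G ⧸ N) = QuotientGroup.mk (g₀ * x * g₀⁻¹) := by
      simpa using hsx
    rw [QuotientGroup.eq] at h1
    have : g₀ * x * g₀⁻¹ = s * (s⁻¹ * (g₀ * x * g₀⁻¹)) := by group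
    rw [this]
    exact H.mul_mem (hSH hs) ((le_sup_right : N ≤ H) h1)
  set Q : Subgroup G := P.map (MulAut.conj g₀).toMonoidHom with hQdef
  have hQH : Q ≤ H := by
    rintro _ ⟨x, hx, rfl⟩
    exact hQ x hx
  have hQp : IsPGroup p Q := (S.isPGroup'.to_le hP).map _
  have hQHp : IsPGroup p (Q.subgroupOf H) := hQp.comap_subtype
  obtain ⟨R, hR⟩ := hQHp.exists_le_sylow
  let S' : Sylow p H := S.subtype hSH
  obtain ⟨h, hh⟩ := MulAction.exists_smul_eq H R S'
  have hconj : ∀ y ∈ Q, (h : G) * y * (h : G)⁻¹ ∈ S := by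
    intro y hy
    have h1 : (⟨y, hQH hy⟩ : H) ∈ (R : Subgroup H) := hR (by simpa [Subgroup.mem_subgroupOf] using hy)
    have h2 : h * ⟨y, hQH hy⟩ * h⁻¹ ∈ (h • R : Sylow p H) := by
      rw [← SetLike.mem_coe, Sylow.coe_smul]
      exact ⟨_, h1, rfl⟩
    rw [hh] at h2
    exact h2
  have hhS : (h : G) ∈ (S : Subgroup G) ⊔ N := h.2
  rw [Subgroup.mem_sup_of_normal_right] at hhS
  obtain ⟨s, hs, n, hn, hsn⟩ := hhS
  refine ⟨n * g₀, fun x hx => ?_⟩
  have hy : g₀ * x * g₀⁻¹ ∈ Q := ⟨x, hx, rfl⟩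
  have h3 := hconj _ hy
  constructor
  · have : n * g₀ * x * (n * g₀)⁻¹ = s⁻¹ * ((h : G) * (g₀ * x * g₀⁻¹) * (h : G)⁻¹) * s := by
      rw [← hsn]; group
    rw [this]
    exact (S : Subgroup G).mul_mem ((S : Subgroup G).mul_mem ((S : Subgroup G).inv_mem hs) h3) hs
  · rw [← QuotientGroup.mk_mul, ← QuotientGroup.mk_inv, ← QuotientGroup.mk_mul, QuotientGroup.eq]
    have h4 : (n * g₀ * x * (n * g₀)⁻¹)⁻¹ * (g₀ * x * g₀⁻¹)
        = n * (g₀ * x⁻¹ * g₀⁻¹ * n⁻¹ * (g₀ * x⁻¹ * g₀⁻¹)⁻¹) := by group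
    rw [h4]
    exact N.mul_mem hn (hN.conj_mem _ (N.inv_mem hn) _)

end Cfsg.Agent.S5191
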