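import Cfsg.Statements.S5193
import Cfsg.Agent.H184.JWeak
import Cfsg.Agent.H768.ZPack
import Cfsg.Agent.H793.ZCenterOdd
import Cfsg.Agent.Lib.Involves
set_option linter.all false

set_option autoImplicit false
open Cfsg

namespace Cfsg.Agent.S5193

open Cfsg.FusionSystem Cfsg.Agent.H752 Cfsg.Agent.H793 Cfsg.Agent.H768

/-- An element of the centre of a Sylow subgroup of a constrained group which is weakly closed is central. -/
theorem central_of_weakly_closed {L : Type*} [Group L] [Finite L] {p : ℕ} [Fact p.Prime]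
    (T : Sylow p L) (hC : Subgroup.centralizer ((pCore p L : Subgroup L) : Set L) ≤ pCore p L)
    {z : L} (hz : ∀ t ∈ (T : Subgroup L), t * z = z * t)
    (hw : ∀ g : L, g * z * g⁻¹ ∈ (T : Subgroup L) → g * z * g⁻¹ = z) (g : L) :
    g * z = z * g := by
  have hcore : z ∈ pCore p L := by
    refine hC (Subgroup.mem_centralizer_iff.2 fun u hu => ?_)
    exact hz u (Cfsg.Agent.Lib.Cores.pCore_le_sylow T hu)
  have hn : (pCore p L).Normal := inferInstance
  have h1 := hw g (Cfsg.Agent.Lib.Cores.pCore_le_sylow T (hn.conj_mem z hcore g))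
  calc g * z = g * z * g⁻¹ * g := by group
    _ = z * g := by rw [h1]

/-- Glauberman's Theorem for fusion systems. Let F be a saturated fusion system over a finite p-group S, let J(S) be the subgroup generated by the abelian subgroups of S of largest order, and let N be the normalizer fusion system of J(S) in F (a fusion system over N_S(J(S)) = S). Then every p-th power of an element of Z(S) that lies in the centre of N lies in the centre of F; and if p is odd, or if the symmetric group of degree 4 is not involved in any model of the normalizer system of a fully normalized F-centric subgroup (F is S₄-free), then the centre of N equals the centre of F. -/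
theorem result {Ω : Type*} [Group Ω] {S : Subgroup Ω} [Finite S] (p : ℕ) [Fact p.Prime] (hS : IsPGroup p S) (F : Cfsg.FusionSystem S) (hF : F.IsSaturated p) (N : Cfsg.FusionSystem (Cfsg.FusionSystem.normalizerIn S (Cfsg.thompsonSubgroupAOf S))) (hN : F.IsNormalizerSystem (Cfsg.thompsonSubgroupAOf S) N) : Subgroup.closure ((fun z : Ω => z ^ p) '' ((S ⊓ Subgroup.centralizer (S : Set Ω) : Subgroup Ω) : Set Ω)) ⊓ N.center ≤ F.center ∧ (p ≠ 2 ∨ F.IsSectionFree p (Equiv.Perm (Fin 4)) → N.center = F.center) := by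
  have hQS : thompsonSubgroupAOf S ≤ S := PLocal.ThompsonJA.thompsonSubgroupAOf_le S
  have hSN : S ≤ Subgroup.normalizer (thompsonSubgroupAOf S : Set Ω) :=
    Subgroup.le_normalizer.trans (PLocal.ThompsonJA.normalizer_le_normalizer_thompsonSubgroupAOf S)
  have hZ : S ⊓ Subgroup.centralizer (S : Set Ω) ≤ thompsonSubgroupAOf S :=
    fun x hx => mem_thompson_of_center hx
  constructor
  · rintro x ⟨hxp, hxN⟩
    obtain ⟨hx, hg⟩ := (mem_center_normalizer_iff hQS hSN hZ hN x).1 hxN
    -- `x` is a `p`-th power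
    have hxpow : ∃ y ∈ S ⊓ Subgroup.centralizer (S : Set Ω), y ^ p = x := by
      refine Subgroup.closure_induction (p := fun x _ => ∃ y ∈ S ⊓ Subgroup.centralizer (S : Set Ω),
        y ^ p = x) ?_ ?_ ?_ ?_ hxp
      · rintro _ ⟨y, hy, rfl⟩
        exact ⟨y, hy, rfl⟩
      · exact ⟨1, one_mem _, one_pow p⟩
      · rintro _ _ _ _ ⟨y, hy, rfl⟩ ⟨z, hz, rfl⟩
        refine ⟨y * z, mul_mem hy hz, ?_⟩
        have hyz : Commute y z := Subgroup.mem_centralizer_iff.1 hz.2 y hy.1
        exact hyz.mul_pow p
      · rintro _ _ ⟨y, hy, rfl⟩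
        exact ⟨y⁻¹, inv_mem hy, by rw [inv_pow]⟩
    obtain ⟨y, hy, hyx⟩ := hxpow
    refine mem_center_of_local hS hF hx hg ?_
    intro Q hQn hQc hxQ E hE L _ _ ι hm hQL hxT hJL
    obtain ⟨P, hP⟩ := hm.2.2.1
    have hyT : y ∈ normalizerIn S Q := by
      refine ⟨hy.1, ?_⟩
      exact Subgroup.centralizer_le_normalizer (Q : Set Ω)
        (Subgroup.centralizer_le hQn.1 hy.2)
    rw [← hP] at hJL
    have hcomm : ∀ z : Ω, ∀ hz : z ∈ normalizerIn S Q, z ∈ Subgroup.centralizer (S : Set Ω) →
        ∀ t ∈ (P : Subgroup L), t * ι ⟨z, hz⟩ = ι ⟨z, hz⟩ * t := by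
      intro z hz hzC t ht
      rw [hP] at ht
      obtain ⟨s, rfl⟩ := ht
      rw [← map_mul, ← map_mul]
      congr 1
      apply Subtype.ext
      exact Subgroup.mem_centralizer_iff.1 hzC s s.2.1
    refine central_of_weakly_closed P hm.2.2.2 (hcomm x hxT hx.2) fun g hg => ?_
    refine H184.JWeak.weakly_closed_pow P (ι ⟨y, hyT⟩) (ι ⟨x, hxT⟩) ⟨?_, ?_⟩ ?_ hJL g hg
    · rw [hP]
      exact ⟨_, rfl⟩
    · exact Subgroup.mem_centralizer_iff.2 fun t ht => hcomm y hyT hy.2 t ht
    · rw [← map_pow]
      congr 1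
      exact Subtype.ext hyx
  · intro h
    apply le_antisymm
    · intro x hxN
      obtain ⟨hx, hg⟩ := (mem_center_normalizer_iff hQS hSN hZ hN x).1 hxN
      by_cases hp : p = 2
      · subst hp
        have hfree : F.IsSectionFree 2 (Equiv.Perm (Fin 4)) := h.resolve_left (fun h => h rfl)
        refine mem_center_of_local hS hF hx hg ?_
        intro Q hQn hQc hxQ E hE L _ _ ι hm hQL hxT hJL
        obtain ⟨P, hP⟩ := hm.2.2.1
        rw [← hP] at hJL
        have hcomm : ∀ t ∈ (P : Subgroup L), t * ι ⟨x, hxT⟩ = ι ⟨x, hxT⟩ * t := by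
          intro t ht
          rw [hP] at ht
          obtain ⟨s, rfl⟩ := ht
          rw [← map_mul, ← map_mul]
          congr 1
          apply Subtype.ext
          exact Subgroup.mem_centralizer_iff.1 hx.2 s s.2.1
        refine central_of_weakly_closed P hm.2.2.2 hcomm fun g hg => ?_
        refine H184.JWeak.weakly_closed_two ?_ P (ι ⟨x, hxT⟩) ?_ hJL g hg
        · intro hinv
          exact hfree Q hQn hQc E hE L ι hm (by
            obtain ⟨K, M, hM, ⟨e⟩⟩ := Cfsg.Agent.Lib.Involves.involves_iff.1 hinv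
            exact ⟨K, M, hM, ⟨e⟩⟩)
        · rw [hP]
          exact ⟨_, rfl⟩
      · exact (mem_center_iff_odd hp hS hF x).2 ⟨hx, hg⟩
    · exact center_le_center_normalizer hQS hSN hZ hN

end Cfsg.Agent.S5193
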