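import Cfsg.Statements.S5194
import Cfsg.Agent.S5193
import Cfsg.Agent.H797.Gruen
set_option linter.all false

set_option autoImplicit false
open Cfsg

namespace Cfsg.Agent.S5194

open Cfsg.FusionSystem Cfsg.Agent.H752 Cfsg.Agent.H793 Cfsg.Agent.H768

theorem normalizerIn_J {Ω : Type*} [Group Ω] (S : Subgroup Ω) :
    normalizerIn S (thompsonSubgroupAOf S) = S :=
  inf_eq_left.2 (Subgroup.le_normalizer.trans
    (PLocal.ThompsonJA.normalizer_le_normalizer_thompsonSubgroupAOf S))

theorem centralizerIn_Z {Ω : Type*} [Group Ω] (S : Subgroup Ω) :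
    centralizerIn S (S ⊓ Subgroup.centralizer (S : Set Ω)) = S := by
  refine inf_eq_left.2 fun s hs => Subgroup.mem_centralizer_iff.2 fun z hz => ?_
  exact (Subgroup.mem_centralizer_iff.1 hz.2 s hs).symm

/-- Thompson's normal `p`-complement theorem, in terms of the normalizer system of `J(S)` and the extension property
of the centralizer of `Z(S)`. -/
theorem inner_of_center {Ω : Type*} [Group Ω] {S : Subgroup Ω} [Finite S] {p : ℕ} [Fact p.Prime]
    (hS : IsPGroup p S) (F : FusionSystem S) (hF : F.IsSaturated p)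
    (hp : p ≠ 2 ∨ F.IsSectionFree p (Equiv.Perm (Fin 4)))
    (hC : ∀ C : FusionSystem (centralizerIn S (S ⊓ Subgroup.centralizer (S : Set Ω))),
      F.IsCentralizerSystem (S ⊓ Subgroup.centralizer (S : Set Ω)) C → ∀ P : Subgroup Ω,
      C.Hom P ⊆ (innerFusionSystem S).Hom P)
    (hN : ∀ N : FusionSystem (normalizerIn S (thompsonSubgroupAOf S)),
      F.IsNormalizerSystem (thompsonSubgroupAOf S) N →
      N.Hom (thompsonSubgroupAOf S) ⊆ (innerFusionSystem S).Hom (thompsonSubgroupAOf S)) :
    ∀ P : Subgroup Ω, F.Hom P = (innerFusionSystem S).Hom P := by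
  have hQS : thompsonSubgroupAOf S ≤ S := PLocal.ThompsonJA.thompsonSubgroupAOf_le S
  have hSN : S ≤ Subgroup.normalizer (thompsonSubgroupAOf S : Set Ω) :=
    Subgroup.le_normalizer.trans (PLocal.ThompsonJA.normalizer_le_normalizer_thompsonSubgroupAOf S)
  have hZJ : S ⊓ Subgroup.centralizer (S : Set Ω) ≤ thompsonSubgroupAOf S :=
    fun x hx => mem_thompson_of_center hx
  obtain ⟨N, hNs⟩ := H802.exists_normalizerSystem F hQS
  have hZS : S ⊓ Subgroup.centralizer (S : Set Ω) ≤ S := inf_le_left
  obtain ⟨C, hCs⟩ := H802.exists_centralizerSystem F hZS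
  have hcen : S ⊓ Subgroup.centralizer (S : Set Ω) ≤ F.center := by
    rw [← (S5193.result p hS F hF N hNs).2 hp]
    intro x hx
    refine (mem_center_normalizer_iff hQS hSN hZJ hNs x).2 ⟨hx, ?_⟩
    intro f hf hfJ hxJ
    have hfin : Finite (thompsonSubgroupAOf S : Subgroup Ω) := H802.finite_of_le hQS
    have hNf : Mp N (thompsonSubgroupAOf S) f := by
      refine (H753.mp_normalizerSystem_iff hNs).2 ⟨hf, ?_, ?_, f, ?_, fun x _ => rfl, hfJ, ?_⟩
      · rw [normalizerIn_J]
        exact hQS
      · rw [normalizerIn_J]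
        exact fun x hx => hQS (hfJ x hx)
      · rwa [sup_idem]
      · exact fun y hy => hf.surj hfJ hy
    obtain ⟨φ, hφ, hφf⟩ := hNf
    obtain ⟨-, g, hg, hφg⟩ := hN N hNs hφ
    rw [← hφf x hxJ, hφg]
    have := Subgroup.mem_centralizer_iff.1 hx.2 g hg
    show g * x * g⁻¹ = x
    rw [this]
    group
  intro P
  apply Set.Subset.antisymm
  · intro φ hφ
    have hcent : F.IsCentral F.center := H797.isCentral_center
    have hceq : F.center = S ⊓ Subgroup.centralizer (S : Set Ω) :=
      le_antisymm (H792.center_le_center F) hcen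
    rw [hceq] at hcent
    obtain ⟨ψ, hψ, h1, h2⟩ := hcent.2 P φ hφ
    obtain ⟨hPS, hφS⟩ := F.le_of_mem hφ
    refine hC C hCs P ?_
    rw [hCs]
    refine ⟨hφ, ?_, ?_, ψ, hψ, h1, h2⟩
    · rw [centralizerIn_Z]
      exact hPS
    · rw [centralizerIn_Z]
      exact hφS
  · rintro φ ⟨hP, g, hg, hφg⟩
    have : φ = conjHom P g := by
      ext x
      rw [hφg]
      rfl
    rw [this]
    exact F.conj_mem hP hg

/-- Thompson's normal p-complement Theorem for fusion systems. Let F be a saturated fusion system over a finite p-group S such that p is odd or F is S₄-free (the symmetric group of degree 4 is not involved in any model of the normalizer system of a fully normalized F-centric subgroup), and let J(S) be the subgroup generated by the abelian subgroups of S of largest order. If the centralizer fusion system of Z(S) in F is the inner fusion system of C_S(Z(S)) = S and the normalizer fusion system of J(S) in F is the inner fusion system of N_S(J(S)) = S, then F is the inner fusion system of S. -/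
theorem result {Ω : Type*} [Group Ω] {S : Subgroup Ω} [Finite S] (p : ℕ) [Fact p.Prime] (hS : IsPGroup p S) (F : Cfsg.FusionSystem S) (hF : F.IsSaturated p) (hp : p ≠ 2 ∨ F.IsSectionFree p (Equiv.Perm (Fin 4))) (hC : ∀ C : Cfsg.FusionSystem (Cfsg.FusionSystem.centralizerIn S (S ⊓ Subgroup.centralizer (S : Set Ω))), F.IsCentralizerSystem (S ⊓ Subgroup.centralizer (S : Set Ω)) C → ∀ P : Subgroup Ω, C.Hom P = (Cfsg.innerFusionSystem (Cfsg.FusionSystem.centralizerIn S (S ⊓ Subgroup.centralizer (S : Set Ω)))).Hom P) (hN : ∀ N : Cfsg.FusionSystem (Cfsg.FusionSystem.normalizerIn S (Cfsg.thompsonSubgroupAOf S)), F.IsNormalizerSystem (Cfsg.thompsonSubgroupAOf S) N → ∀ P : Subgroup Ω, N.Hom P = (Cfsg.innerFusionSystem (Cfsg.FusionSystem.normalizerIn S (Cfsg.thompsonSubgroupAOf S))).Hom P) : ∀ P : Subgroup Ω, F.Hom P = (Cfsg.innerFusionSystem S).Hom P := by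
  refine inner_of_center hS F hF hp ?_ ?_
  · intro C hCs P φ hφ
    rw [hC C hCs P] at hφ
    obtain ⟨hP, g, hg, hφg⟩ := hφ
    rw [centralizerIn_Z] at hP hg
    exact ⟨hP, g, hg, hφg⟩
  · intro N hNs φ hφ
    rw [hN N hNs] at hφ
    obtain ⟨hP, g, hg, hφg⟩ := hφ
    rw [normalizerIn_J] at hP hg
    exact ⟨hP, g, hg, hφg⟩

end Cfsg.Agent.S5194
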