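import Cfsg.Statements.S5213
import Cfsg.Agent.H773.RankTwoMain
set_option linter.all false

set_option autoImplicit false
open Cfsg

namespace Cfsg.Agent.S5213

open Cfsg.Agent.H773 Cfsg.Agent.H802 Cfsg.FusionSystem Cfsg.Agent.TwoFusion.RankTwoBasic in
/-- Let S be a finite 2-group of 2-rank 2 (it has an elementary abelian subgroup of order 4 and none of order 8) and F a saturated fusion system over S with trivial centre. Then S is dihedral, semidihedral, wreathed, homocyclic abelian (a direct product of cyclic groups of one common order), or isomorphic to a Sylow 2-subgroup of the projective special unitary group PSU₃(4) (realised over the field with 16 elements). -/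
theorem result {Ω : Type*} [Group Ω] {S : Subgroup Ω} [Finite S] (hS : IsPGroup 2 S) (F : Cfsg.FusionSystem S) (hF : F.IsSaturated 2) (hr : Cfsg.PRankAtLeast 2 2 ↥S ∧ ¬ Cfsg.PRankAtLeast 2 3 ↥S) (hZ : F.center = ⊥) {K : Type*} [Field K] [Fintype K] (hK : Fintype.card K = 16) : (∃ m : ℕ, Nonempty (↥S ≃* DihedralGroup m)) ∨ Cfsg.IsQuasiDihedral ↥S ∨ Cfsg.IsWreathed ↥S ∨ (∃ n k : ℕ, Nonempty (↥S ≃* Multiplicative (Fin k → ZMod (2 ^ n)))) ∨ ∃ T : Sylow 2 (Cfsg.PSU 3 K 4), Nonempty (↥S ≃* ↥(T : Subgroup (Cfsg.PSU 3 K 4))) := by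
  classical
  have : Fact (Nat.Prime 2) := ⟨Nat.prime_two⟩
  have h2 : PRankLE 2 2 S := pRankLE_of_not_atLeast hS hr.2
  have h1 : ¬ PRankLE 2 1 S := not_pRankLE_of_atLeast hr.1
  obtain ⟨P⟩ : Nonempty (Sylow 2 (Cfsg.PSU 3 K 4)) := inferInstance
  rcases analysis hS hF h2 h1 hZ with (⟨m, -, h⟩ | h) | ⟨z, t, hz, ht, hf, -, -, hinv, α, -, hαz, hαt⟩ |
    ⟨z, t, s₀, h, α, -, hαz, hαt⟩
  · exact Or.inl ⟨m, h⟩
  · exact Or.inr (Or.inl h)
  · have hf' : Four (⟨z, hz⟩ : S) ⟨t, ht⟩ := ⟨Subtype.ext hf.zz, Subtype.ext hf.tt,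
      Subtype.ext hf.comm, fun h => hf.z1 (congrArg Subtype.val h),
      fun h => hf.t1 (congrArg Subtype.val h), fun h => hf.ne (congrArg Subtype.val h)⟩
    have hinv' : ∀ x : S, x * x = 1 → x = 1 ∨ x = ⟨z, hz⟩ ∨ x = ⟨t, ht⟩ ∨
        x = (⟨z, hz⟩ : S) * ⟨t, ht⟩ := by
      intro x hx
      rcases hinv x x.2 (congrArg Subtype.val hx) with h | h | h | h
      · exact Or.inl (Subtype.ext h)
      · exact Or.inr (Or.inl (Subtype.ext h))
      · exact Or.inr (Or.inr (Or.inl (Subtype.ext h)))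
      · exact Or.inr (Or.inr (Or.inr (Subtype.ext h)))
    rcases types_of_aut h2 hS hf' hinv' α hαz hαt hK P with ⟨n, -, ⟨e⟩⟩ | h
    · right; right; right; left
      refine ⟨n, 2, ⟨e.trans ?_⟩⟩
      exact AddEquiv.toMultiplicative (LinearEquiv.finTwoArrow ℕ (ZMod (2 ^ n))).symm.toAddEquiv
    · exact Or.inr (Or.inr (Or.inr (Or.inr ⟨P, h⟩)))
  · have hf := h.four
    have hRS : Rt S t ≤ S := inf_le_left
    have hfinR : Finite (Rt S t) := finite_of_le hRS
    have hf' : Four (⟨z, h.z_mem⟩ : Rt S t) ⟨t, h.t_mem⟩ := ⟨Subtype.ext hf.zz, Subtype.ext hf.tt,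
      Subtype.ext hf.comm, fun h => hf.z1 (congrArg Subtype.val h),
      fun h => hf.t1 (congrArg Subtype.val h), fun h => hf.ne (congrArg Subtype.val h)⟩
    have hinv' : ∀ x : Rt S t, x * x = 1 → x = 1 ∨ x = ⟨z, h.z_mem⟩ ∨ x = ⟨t, h.t_mem⟩ ∨
        x = (⟨z, h.z_mem⟩ : Rt S t) * ⟨t, h.t_mem⟩ := by
      intro x hx
      rcases h.R_inv h2 x x.2 (congrArg Subtype.val hx) with h | h | h | h
      · exact Or.inl (Subtype.ext h)
      · exact Or.inr (Or.inl (Subtype.ext h))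
      · exact Or.inr (Or.inr (Or.inl (Subtype.ext h)))
      · exact Or.inr (Or.inr (Or.inr (Subtype.ext h)))
    have h2R : PRankLE 2 2 (Rt S t) := by
      intro A hA hA2
      have e1 : A ≃* A.map (Subgroup.inclusion hRS) :=
        A.equivMapOfInjective _ (Subgroup.inclusion_injective hRS)
      rw [Nat.card_congr e1.toEquiv]
      refine h2 _ inferInstance ?_
      rintro _ ⟨a, ha, rfl⟩
      rw [← map_pow, hA2 a ha, map_one]
    rcases types_of_aut h2R (hS.to_le hRS) hf' hinv' α hαz hαt hK P with ⟨n, hn, ⟨e⟩⟩ | ⟨⟨e⟩⟩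
    · have e' : (Rt S t).subgroupOf S ≃* Multiplicative (ZMod (2 ^ n) × ZMod (2 ^ n)) :=
        (Subgroup.subgroupOfEquivOfLe hRS).trans e
      rcases Cfsg.Agent.TwoFusion.RankTwoWreath.wreathed_or_dihedral
        ((Rt S t).subgroupOf S) h.index_two n hn e' ⟨s₀, h.hs₀⟩ ⟨t, h.ht⟩
        (by rw [Subgroup.mem_subgroupOf]; exact h.t_mem) (Subtype.ext hf.tt)
        (fun h' => hf.ztnet (h.hs₀t.symm.trans (congrArg Subtype.val h'))) with ⟨m, -, h⟩ | h
      · exact Or.inl ⟨m, h⟩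
      · exact Or.inr (Or.inr (Or.inl h))
    · exfalso
      obtain ⟨σ, hσ⟩ := exists_conjAut h.s₀_normalizes
      have hs₀z : s₀ * z * s₀⁻¹ = z := by rw [h.hzc s₀ h.hs₀, mul_assoc, mul_inv_cancel, mul_one]
      refine no_psu_aut hf' hinv' α hαz hαt σ (Subtype.ext ?_) (Subtype.ext ?_)
        ⟨s₀ * s₀, h.sq_mem_R h.hs₀⟩ ?_ hK P e
      · rw [hσ]; exact hs₀z
      · rw [hσ]; exact h.hs₀t
      · intro x
        apply Subtype.ext
        rw [hσ, hσ]
        simp only [Subgroup.coe_mul, Subgroup.coe_inv]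
        group

end Cfsg.Agent.S5213
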