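import Mathlib.LinearAlgebra.Charpoly.ToMatrix
import Mathlib.LinearAlgebra.Matrix.CharP
import Mathlib.Algebra.CharP.Lemmas
import Mathlib.RingTheory.Nilpotent.Lemmas
import Mathlib.LinearAlgebra.Eigenspace.Zero
import Mathlib.GroupTheory.OrderOfElement
import Mathlib.GroupTheory.QuotientGroup.Basic
import Mathlib.GroupTheory.Subgroup.Center
import Cfsg.Agent.H458.Ab3_mg_m3
import Mathlib.GroupTheory.SpecificGroups.Alternating
import Mathlib.GroupTheory.Perm.ViaEmbedding
import Mathlib.Data.ZMod.Basic
import Cfsg.Agent.H341.ThreeList_m3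
import Cfsg.Agent.S0279
import Cfsg.Agent.LieClassical.OmegaReindex
import Mathlib.LinearAlgebra.Matrix.SpecialLinearGroup
import Cfsg.Agent.H109.ROrthA
import Cfsg.Agent.LieClassical.OmegaCenter
import Cfsg.Agent.S0292
import Cfsg.Agent.S0293
import Cfsg.Agent.S0294
import Cfsg.Agent.H325.RowPSU_m3
import Cfsg.Agent.OrdDiv.Table
import Cfsg.Agent.S0000
import Cfsg.Agent.H777.Th3.ThNV
import Cfsg.Agent.H777.Prune
import Cfsg.Agent.H777.PGrp
import Cfsg.Agent.H759.FusNormal
import Cfsg.Agent.H802.FusGroup
import Cfsg.Agent.H777.Th3.ThEl_m3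
import Cfsg.Agent.H759.FusTransportD
import Cfsg.Statements.S5229
import Cfsg.Agent.Th.Bit3W
import Cfsg.Agent.FastGrp
import Cfsg.Agent.Prune
set_option linter.all false

section
prune_inst 0x7ff2f8fbabf835deffff7e77f6fccffc3b91dfffa6dffb4bffece9ff2fdf231219e5fbad9de0d0fc0ed6c23e10b87853fbffe67feb6bdc7ffffd5ff45ffbee1ff7ffbd2971f78c340f3c6ffff3f07f8e7f3fffffffffffffffffffffffffffbeffbfffffffff

-- part: H777/ElimTh
section
prune_inst 0x10104500442210000000000000000000200000000000000000200000010800008000000000002000000000000000000001880000420000000a000000000400000001000000100000000000000000000000000000000000000000000000000000000000000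
set_option linter.all false
open scoped Cfsg.Agent.FastGrp

-- part: H352/Th/No27
section
/-!
# No elements of order 27 in linear groups of degree at most 9 in characteristic 3 modulo the centre (helper352)
-/

set_option autoImplicit false

namespace Cfsg.Agent.H352.Th

variable {F : Type*} [Field F] [CharP F 3] {ι : Type*} [Fintype ι] [DecidableEq ι]

theorem pow_nine (hn : Fintype.card ι ≤ 9) {A : Matrix ι ι F} {k : ℕ} (h : A ^ 3 ^ k = 1) : A ^ 9 = 1 := by
  have : Fact (Nat.Prime 3) := ⟨Nat.prime_three⟩
  rcases isEmpty_or_nonempty ι with he | he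
  · exact Subsingleton.elim _ _
  have h1 : (A - 1) ^ 3 ^ k = 0 := by
    rw [sub_pow_char_pow_of_commute 3 k (Commute.one_right A), h, one_pow, sub_self]
  have h2 : IsNilpotent (Matrix.toLin' (A - 1)) := by
    refine ⟨3 ^ k, ?_⟩
    rw [← Matrix.toLin'_pow, h1, map_zero]
  have h3 := (LinearMap.charpoly_nilpotent_tfae (Matrix.toLin' (A - 1))).out 0 1
  have h4 := h3.1 h2
  have h5 := LinearMap.aeval_self_charpoly (Matrix.toLin' (A - 1))
  rw [h4, map_pow, Polynomial.aeval_X, Module.finrank_fintype_fun_eq_card, ← Matrix.toLin'_pow] at h5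
  have h6 : (A - 1) ^ Fintype.card ι = 0 := (Matrix.toLin' (R := F)).injective (by rw [h5, map_zero])
  have h7 : (A - 1) ^ 3 ^ 2 = 0 := pow_eq_zero_of_le (by simpa using hn) h6
  rw [sub_pow_char_pow_of_commute 3 2 (Commute.one_right A), one_pow, sub_eq_zero] at h7
  exact h7

theorem no27 (hn : Fintype.card ι ≤ 9) {M : Type*} [Group M] (ρ : M →* Matrix ι ι F)
    (hρ : Function.Injective ρ) (hc : (Nat.card (Subgroup.center M)).Coprime 3) (x : M ⧸ Subgroup.center M) :
    orderOf x ≠ 27 := by
  intro hx
  obtain ⟨y, rfl⟩ := QuotientGroup.mk_surjective x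
  set c := Nat.card (Subgroup.center M) with hcdef
  have h1 : y ^ 27 ∈ Subgroup.center M := by
    rw [← QuotientGroup.eq_one_iff, QuotientGroup.mk_pow, ← hx]
    exact pow_orderOf_eq_one _
  have h2 : (y ^ c) ^ 3 ^ 3 = 1 := by
    rw [← pow_mul, mul_comm, pow_mul]
    have := congrArg Subtype.val (pow_card_eq_one' (x := (⟨y ^ 27, h1⟩ : Subgroup.center M)))
    exact this
  have h3 : (ρ (y ^ c)) ^ 9 = 1 := by
    apply pow_nine hn (k := 3)
    rw [← map_pow, h2, map_one]
  have h4 : (y ^ c) ^ 9 = 1 := hρ (by rw [map_pow, h3, map_one])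
  have h5 : orderOf (QuotientGroup.mk y : M ⧸ Subgroup.center M) ∣ c * 9 := by
    apply orderOf_dvd_of_pow_eq_one
    rw [pow_mul, ← QuotientGroup.mk_pow, ← QuotientGroup.mk_pow, h4]
    rfl
  rw [hx] at h5
  have h6 : (27 : ℕ) ∣ 9 := by
    refine Nat.Coprime.dvd_of_dvd_mul_left ?_ h5
    exact (show (27 : ℕ) = 3 ^ 3 by norm_num) ▸ (hc.symm.pow_left 3)
  revert h6; decide

theorem no27' (hn : Fintype.card ι ≤ 9) {M : Type*} [Group M] (ρ : M →* Matrix ι ι F)
    (hρ : Function.Injective ρ) (hc : (Nat.card (Subgroup.center M)).Coprime 3) {K : Type*} [Group K]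
    (e : K ≃* M ⧸ Subgroup.center M) (h : ∃ x : K, orderOf x = 27) : False := by
  obtain ⟨x, hx⟩ := h
  exact no27 hn ρ hρ hc (e x) (by rw [← hx]; exact MulEquiv.orderOf_eq e x)

end Cfsg.Agent.H352.Th
end

-- part: H352/Th/AltBig
section
/-!
# Six disjoint 3-cycles (helper352)
-/

set_option autoImplicit false

namespace Cfsg.Agent.H352.Th

open Cfsg.Agent.H777.Elim

/-- the translations in the rows -/
def shiftHom (k : ℕ) : Multiplicative (Fin k → ZMod 3) →* Equiv.Perm (Fin k × ZMod 3) where
  toFun v :=
    { toFun := fun x => (x.1, x.2 + (Multiplicative.toAdd v) x.1)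
      invFun := fun x => (x.1, x.2 - (Multiplicative.toAdd v) x.1)
      left_inv := fun x => by simp
      right_inv := fun x => by simp }
  map_one' := by ext x <;> simp only [_root_.toAdd_one, _root_.Pi.zero_apply, _root_.add_zero, _root_.Prod.mk.eta, _root_.sub_zero, _root_.Equiv.coe_fn_mk, _root_.Equiv.Perm.coe_one, _root_.id_eq]
  map_mul' v w := by
    apply Equiv.ext
    intro x
    refine Prod.ext rfl ?_
    show x.2 + (Multiplicative.toAdd v + Multiplicative.toAdd w) x.1 =
      (x.2 + (Multiplicative.toAdd w) x.1) + (Multiplicative.toAdd v) x.1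
    rw [Pi.add_apply]
    ring

theorem shiftHom_inj (k : ℕ) : Function.Injective (shiftHom k) := by
  intro v w h
  apply Multiplicative.toAdd.injective
  funext i
  have := congrArg (fun g : Equiv.Perm (Fin k × ZMod 3) => (g (i, 0)).2) h
  simpa only [shiftHom, _root_.MonoidHom.coe_mk, _root_.OneHom.coe_mk, _root_.Equiv.coe_fn_mk, _root_.zero_add] using this

theorem exists_emb {k n : ℕ} (hn : 3 * k ≤ n) : Nonempty (Fin k × ZMod 3 ↪ Fin n) := by
  apply Function.Embedding.nonempty_of_card_le
  rw [Fintype.card_prod, Fintype.card_fin, Fintype.card_fin, ZMod.card]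
  omega

/-- `3 ^ k` elements of exponent 3 in the alternating group -/
theorem exists_hom {k n : ℕ} (hn : 3 * k ≤ n) :
    ∃ f : Multiplicative (Fin k → ZMod 3) →* alternatingGroup (Fin n), Function.Injective f := by
  obtain ⟨ι⟩ := exists_emb hn
  let g := (Equiv.Perm.viaEmbeddingHom ι).comp (shiftHom k)
  have hg : Function.Injective g := (Equiv.Perm.viaEmbeddingHom_injective ι).comp (shiftHom_inj k)
  have h3 : ∀ v, g v ∈ alternatingGroup (Fin n) := by
    intro v
    rw [Equiv.Perm.mem_alternatingGroup]
    have h1 : v ^ 3 = 1 := by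
      apply Multiplicative.toAdd.injective
      funext i
      show (3 • Multiplicative.toAdd v) i = 0
      rw [Pi.smul_apply]
      generalize (Multiplicative.toAdd v) i = a
      revert a; decide
    have h2 : (Equiv.Perm.sign (g v)) ^ 3 = 1 := by
      rw [← map_pow, ← map_pow, h1, map_one, map_one]
    rcases Int.units_eq_one_or (Equiv.Perm.sign (g v)) with h | h
    · exact h
    · rw [h] at h2
      exact absurd h2 (by decide)
  refine ⟨g.codRestrict (alternatingGroup (Fin n)) h3, ?_⟩
  intro v w h
  exact hg (congrArg Subtype.val h)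

theorem alt_big {n : ℕ} (hn : 18 ≤ n) : Big (alternatingGroup (Fin n)) := by
  obtain ⟨f, hf⟩ := exists_hom (k := 6) (n := n) (by omega)
  have hc : Nat.card (Multiplicative (Fin 6 → ZMod 3)) = 3 ^ 6 := by
    rw [Nat.card_congr Multiplicative.toAdd, Nat.card_eq_fintype_card]
    simp
  have hc' : Nat.card ↥(⊤ : Subgroup (Multiplicative (Fin 6 → ZMod 3))) = 3 ^ 6 := by
    rw [Subgroup.card_top, hc]
  exact Big.of_hom (A := ⊤) f (IsPGroup.of_card hc') (fun x _ y _ => mul_comm x y) (le_of_eq hc'.symm)
    (fun x _ h => hf (by rw [h, map_one]))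

end Cfsg.Agent.H352.Th
end

-- part: H352/Th/Rest
section
/-!
# The elimination of the simple groups with Sylow 3-subgroup of order `3 ^ 10`: assembly (helper352, task 498)
-/

set_option autoImplicit false

namespace Cfsg.Agent.H352.Th

open Cfsg Cfsg.Agent.OrdDiv Cfsg.Agent.H777.Elim

universe u

/-- the rows of the groups of Lie type in characteristic different from 3 -/
structure Rows : Prop where
  psl : ∀ {n : ℕ}, 2 ≤ n → ∀ {F : Type} [Field F] [Fintype F], (3 : F) ≠ 0 →
    Row (Matrix.ProjectiveSpecialLinearGroup (Fin n) F)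
  psu : ∀ {n q : ℕ}, 3 ≤ n → ∀ {F : Type} [Field F] [Fintype F], Fintype.card F = q ^ 2 → (3 : F) ≠ 0 →
    Row (PSU n F q)
  psp : ∀ {m : ℕ}, 1 ≤ m → ∀ {F : Type} [Field F] [Fintype F], (3 : F) ≠ 0 → Row (PSp m F)
  oodd : ∀ {m : ℕ}, 3 ≤ m → ∀ {F : Type} [Field F] [Fintype F], Odd (Fintype.card F) → (3 : F) ≠ 0 →
    Row (POmega F (quadFormOdd m F))
  oplus : ∀ {m : ℕ}, 4 ≤ m → ∀ {F : Type} [Field F] [Fintype F], (3 : F) ≠ 0 → Row (POmega F (quadFormPlus m F))
  ominus : ∀ {m : ℕ}, 4 ≤ m → ∀ {F : Type} [Field F] [Fintype F] {a b : F},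
    (∀ z₁ z₂ : F, z₁ ^ 2 + a * z₁ * z₂ + b * z₂ ^ 2 = 0 → z₁ = 0 ∧ z₂ = 0) → (3 : F) ≠ 0 →
    Row (POmega F (quadFormMinus (m - 1) F a b))
  g2 : ∀ {F : Type} [Field F] [Fintype F], (3 : F) ≠ 0 → Row ↥(Lie.chevG2.group F)
  f4 : ∀ {F : Type} [Field F] [Fintype F], (3 : F) ≠ 0 → Row ↥(Lie.chevF4.group F)
  e6 : ∀ {F : Type} [Field F] [Fintype F], (3 : F) ≠ 0 → Row ↥(Lie.chevE6.group F)
  e7 : ∀ {F : Type} [Field F] [Fintype F], (3 : F) ≠ 0 → Row ↥(Lie.chevE7.group F)
  e8 : ∀ {F : Type} [Field F] [Fintype F], (3 : F) ≠ 0 → Row ↥(Lie.chevE8.group F)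
  te6 : ∀ {F : Type} [Field F] [Fintype F] {q : ℕ}, IsPrimePow q → Fintype.card F = q ^ 2 → (3 : F) ≠ 0 →
    Row ↥(Lie.twistedE6 F q)
  td4 : ∀ {F : Type} [Field F] [Fintype F] {q : ℕ}, IsPrimePow q → Fintype.card F = q ^ 3 → (3 : F) ≠ 0 →
    Row ↥(Lie.twistedD4 F q)
  tf4 : ∀ {F : Type} [Field F] [Fintype F] {m : ℕ}, 1 ≤ m → Fintype.card F = 2 ^ (2 * m + 1) →
    Row ↥(Lie.twistedF4 F (2 ^ m))

/-! ### characteristic three -/

theorem three_ne {F : Type*} [Field F] [Fintype F] (h : ¬ 3 ∣ Fintype.card F) : (3 : F) ≠ 0 := by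
  intro h3
  apply h
  obtain ⟨p, hp⟩ := CharP.exists F
  have hpp : p.Prime := (CharP.char_is_prime_or_zero F p).resolve_right (by
    intro h0
    subst h0
    have := CharP.charP_to_charZero F
    exact not_finite F)
  obtain ⟨n, hn⟩ := FiniteField.card F p
  have h1 : p ∣ 3 := (CharP.cast_eq_zero_iff F p 3).1 (by exact_mod_cast h3)
  have h2 : p = 3 := (Nat.prime_dvd_prime_iff_eq hpp Nat.prime_three).1 h1
  rw [hn.2, h2]
  exact dvd_pow_self 3 n.ne_zero

theorem three_ne_of_pow {F : Type*} [Field F] [Fintype F] {q k : ℕ} (hF : Fintype.card F = q ^ k) (h : ¬ 3 ∣ q) :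
    (3 : F) ≠ 0 := three_ne (by rw [hF]; exact fun h1 => h (Nat.prime_three.dvd_of_dvd_pow h1))

theorem charP_three {F : Type*} [Field F] [Fintype F] (h : 3 ∣ Fintype.card F) : CharP F 3 := by
  obtain ⟨p, hp⟩ := CharP.exists F
  have hpp : p.Prime := (CharP.char_is_prime_or_zero F p).resolve_right (by
    intro h0
    subst h0
    have := CharP.charP_to_charZero F
    exact not_finite F)
  obtain ⟨n, hn⟩ := FiniteField.card F p
  rw [hn.2] at h
  have h1 : p = 3 := ((Nat.prime_dvd_prime_iff_eq Nat.prime_three hpp).1 (Nat.prime_three.dvd_of_dvd_pow h)).symm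
  rwa [h1] at hp

/-- the 3-part of a group of Lie type in characteristic three is at least `q ^ e` -/
theorem le_ten {q e d N u : ℕ} (hq : IsPrimePow q) (h3 : 3 ∣ q) (hd : d.Coprime q) (h : d * N = q ^ e * u)
    (hV : ¬ 3 ^ 11 ∣ N) : ∃ f, 1 ≤ f ∧ q = 3 ^ f ∧ f * e ≤ 10 := by
  obtain ⟨p, f, hp, hf, rfl⟩ := (isPrimePow_nat_iff q).1 hq
  have hp3 : p = 3 := ((Nat.prime_dvd_prime_iff_eq Nat.prime_three hp).1 (Nat.prime_three.dvd_of_dvd_pow h3)).symm
  subst hp3
  refine ⟨f, hf, rfl, ?_⟩
  by_contra hlt
  push Not at hlt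
  have h1 : (3 ^ f) ^ e ∣ N :=
    Nat.Coprime.dvd_of_dvd_mul_left (Nat.Coprime.pow_left _ hd.symm) (Dvd.intro _ h.symm)
  rw [← pow_mul] at h1
  exact hV ((pow_dvd_pow 3 (by omega)).trans h1)

theorem eq_ten {q e d N u : ℕ} (hq : IsPrimePow q) (h3 : 3 ∣ q) (hd : d.Coprime q) (hu : u.Coprime q)
    (h : d * N = q ^ e * u) (hV : 3 ^ 10 ∣ N ∧ ¬ 3 ^ 11 ∣ N) : ∃ f, 1 ≤ f ∧ q = 3 ^ f ∧ f * e = 10 := by
  obtain ⟨f, hf, rfl, hle⟩ := le_ten hq h3 hd h hV.2
  refine ⟨f, hf, rfl, le_antisymm hle ?_⟩
  have h1 : 3 ^ 10 ∣ (3 ^ f) ^ e * u := by rw [← h]; exact hV.1.mul_left d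
  have h2 : (3 ^ 10).Coprime u := (Nat.Coprime.coprime_dvd_right h3 hu).symm.pow_left 10
  have h4 := h2.dvd_of_dvd_mul_right h1
  rw [← pow_mul] at h4
  exact (Nat.pow_dvd_pow_iff_le_right (by norm_num)).1 h4

theorem cop3 {q d : ℕ} (h3 : 3 ∣ q) (h : d.Coprime q) : d.Coprime 3 := Nat.Coprime.coprime_dvd_right h3 h

/-! ### the classical families -/

section

variable {X : Type*} [Group X]

theorem psl_case (R : Rows) {F : Type} [Field F] [Fintype F] {n : ℕ} (hn : 2 ≤ n)
    (hV : Vn 10 X) (h27 : ∃ x : X, orderOf x = 27) (hB : ¬ Big X)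
    (e : X ≃* Matrix.ProjectiveSpecialLinearGroup (Fin n) F) : False := by
  by_cases ho : 3 ∣ Fintype.card F
  swap
  · exact hB ((R.psl hn (three_ne ho)).congr e.symm hV)
  have hq : 1 < Fintype.card F := Fintype.one_lt_card
  have h1 := cop_sub (q := Fintype.card F) (k := 1) (by omega) le_rfl
  rw [pow_one] at h1
  have hc := S0243.result (F := F) rfl n hn
  rw [Fin.prod_univ_eq_prod_range (fun i => Fintype.card F ^ n - Fintype.card F ^ i) n, ← prod_list] at hc
  have hc' : Nat.gcd n (Fintype.card F - 1) * (Fintype.card F - 1) *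
      Nat.card (Matrix.ProjectiveSpecialLinearGroup (Fin n) F) = glN n (Fintype.card F) := by
    rw [mul_assoc]; exact hc
  obtain ⟨u, hu⟩ := pow_dvd_glN n (Fintype.card F)
  rw [hu] at hc'
  obtain ⟨f, hf, -, hle⟩ := le_ten Fintype.isPrimePow_card_of_field ho
    (Nat.Coprime.mul_left (Nat.Coprime.coprime_dvd_left (Nat.gcd_dvd_right _ _) h1) h1) hc'
    (by rw [← Nat.card_congr e.toEquiv]; exact hV.2)
  have hn5 : n ≤ 9 := by
    by_contra hlt
    push Not at hlt
    have h2 : 10 * 9 ≤ n * (n - 1) := Nat.mul_le_mul (by omega) (by omega)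
    have h3 : 45 ≤ n * (n - 1) / 2 := by omega
    have : 1 * 45 ≤ f * (n * (n - 1) / 2) := Nat.mul_le_mul hf h3
    omega
  have := charP_three ho
  refine no27' (F := F) (ι := Fin n) (by rw [Fintype.card_fin]; exact hn5)
    ((Units.coeHom (Matrix (Fin n) (Fin n) F)).comp Matrix.SpecialLinearGroup.toGL) (by
      intro a b hab
      exact Subtype.ext hab) ?_ e h27
  rw [Nat.card_congr (Matrix.SpecialLinearGroup.center_equiv_rootsOfUnity (n := Fin n) (R := F)).toEquiv]
  have h5 : Nat.card ↥(rootsOfUnity (max (Fintype.card (Fin n)) 1) F) ∣ Fintype.card F - 1 := by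
    have h6 := Subgroup.card_subgroup_dvd_card (rootsOfUnity (max (Fintype.card (Fin n)) 1) F)
    rwa [Nat.card_units, Nat.card_eq_fintype_card (α := F)] at h6
  exact Nat.Coprime.coprime_dvd_left h5 (cop3 ho h1)

theorem psp_case (R : Rows) {F : Type} [Field F] [Fintype F] {m : ℕ} (hm : 2 ≤ m)
    (hV : Vn 10 X) (h27 : ∃ x : X, orderOf x = 27) (hB : ¬ Big X)
    (e : X ≃* PSp m F) : False := by
  by_cases ho : 3 ∣ Fintype.card F
  swap
  · exact hB ((R.psp (by omega) (three_ne ho)).congr e.symm hV)
  have hq : 1 < Fintype.card F := Fintype.one_lt_card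
  have h1 := cop_sub (q := Fintype.card F) (k := 1) (by omega) le_rfl
  rw [pow_one] at h1
  have hd : (Nat.gcd 2 (Fintype.card F - 1)).Coprime (Fintype.card F) :=
    Nat.Coprime.coprime_dvd_left (Nat.gcd_dvd_right _ _) h1
  have hc : Nat.gcd 2 (Fintype.card F - 1) * Nat.card (PSp m F) =
      Fintype.card F ^ (m ^ 2) * ∏ i ∈ Finset.range m, (Fintype.card F ^ (2 * (i + 1)) - 1) := by
    have h1 := S0245.result (F := F) rfl m
    have h2 := S0246.result (F := F) rfl m (by omega)
    have h3 := Subgroup.card_eq_card_quotient_mul_card_subgroup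
      (Subgroup.center (Matrix.symplecticGroup (Fin m) F))
    rw [h1, h2] at h3
    rw [mul_comm]
    exact h3.symm
  obtain ⟨f, hf, -, hle⟩ := le_ten Fintype.isPrimePow_card_of_field ho hd hc
    (by rw [← Nat.card_congr e.toEquiv]; exact hV.2)
  have hm3 : m ≤ 3 := by
    by_contra hlt
    push Not at hlt
    have h2 : 4 * 4 ≤ m * m := Nat.mul_le_mul (by omega) (by omega)
    rw [← sq m] at h2
    have : 1 * 16 ≤ f * m ^ 2 := Nat.mul_le_mul hf h2
    omega
  have := charP_three ho
  refine no27' (F := F) (ι := Fin m ⊕ Fin m) (by rw [Fintype.card_sum, Fintype.card_fin]; omega)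
    (Submonoid.subtype (Matrix.symplecticGroup (Fin m) F)) Subtype.val_injective ?_ e h27
  rw [S0246.result (F := F) rfl m (by omega)]
  exact cop3 ho hd

theorem psu_case (R : Rows) {F : Type} [Field F] [Fintype F] {n q : ℕ} (hF : Fintype.card F = q ^ 2) (hn : 3 ≤ n)
    (hV : Vn 10 X) (h27 : ∃ x : X, orderOf x = 27) (hB : ¬ Big X) (e : X ≃* PSU n F q) : False := by
  have hq2 : IsPrimePow (q ^ 2) := hF ▸ Fintype.isPrimePow_card_of_field
  have hqp : IsPrimePow q := (isPrimePow_pow_iff (by norm_num)).1 hq2
  by_cases ho : 3 ∣ q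
  swap
  · exact hB ((R.psu hn hF (three_ne_of_pow hF ho)).congr e.symm hV)
  have h1 := cop_add (q := q) (k := 1) le_rfl
  rw [pow_one] at h1
  have hc := S0280.result hF n (by omega)
  rw [← mul_assoc] at hc
  obtain ⟨f, hf, -, hle⟩ := le_ten hqp ho
    (Nat.Coprime.mul_left (Nat.Coprime.coprime_dvd_left (Nat.gcd_dvd_right _ _) h1) h1) hc
    (by rw [← Nat.card_congr e.toEquiv]; exact hV.2)
  have hn5 : n ≤ 9 := by
    by_contra hlt
    push Not at hlt
    have h2 : 10 * 9 ≤ n * (n - 1) := Nat.mul_le_mul (by omega) (by omega)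
    have h3 : 45 ≤ n * (n - 1) / 2 := by omega
    have : 1 * 45 ≤ f * (n * (n - 1) / 2) := Nat.mul_le_mul hf h3
    omega
  have := charP_three (F := F) (by rw [hF]; exact dvd_pow ho (by norm_num))
  refine no27' (F := F) (ι := Fin n) (by rw [Fintype.card_fin]; exact hn5)
    ((slToMat n F).comp (SU n F q).subtype) (by
      intro a b hab
      exact Subtype.ext (Subtype.ext hab)) ?_ e h27
  rw [S0279.result hF n hn]
  exact Nat.Coprime.coprime_dvd_left (Nat.gcd_dvd_right _ _) (cop3 ho h1)

theorem oodd_case (R : Rows) {F : Type} [Field F] [Fintype F] {m : ℕ} (hm : 3 ≤ m) (ho2 : Odd (Fintype.card F))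
    (hV : Vn 10 X) (hB : ¬ Big X) (e : X ≃* POmega F (quadFormOdd m F)) : False := by
  by_cases ho : 3 ∣ Fintype.card F
  swap
  · exact hB ((R.oodd hm ho2 (three_ne ho)).congr e.symm hV)
  have hc := S0292.result (F := F) rfl ho2 m hm
  have hcop : (∏ i ∈ Finset.range m, (Fintype.card F ^ (2 * (i + 1)) - 1)).Coprime (Fintype.card F) :=
    Nat.Coprime.prod_left fun i _ => cop_sub Fintype.card_pos (by omega)
  obtain ⟨f, hf, -, he⟩ := eq_ten Fintype.isPrimePow_card_of_field ho
    (by rw [Nat.coprime_two_left]; exact ho2) hcop hc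
    (by rw [← Nat.card_congr e.toEquiv]; exact hV)
  have h2 : 3 * 3 ≤ m * m := Nat.mul_le_mul (by omega) (by omega)
  have h3 : m ≤ 3 := by
    by_contra hlt
    push Not at hlt
    have h2 : 4 * 4 ≤ m * m := Nat.mul_le_mul (by omega) (by omega)
    rw [← sq m] at h2
    have : 1 * 16 ≤ f * m ^ 2 := Nat.mul_le_mul hf h2
    omega
  have h4 : m = 3 := by omega
  rw [h4] at he
  omega

theorem oplus_case (R : Rows) {F : Type} [Field F] [Fintype F] {m : ℕ} (hm : 4 ≤ m)
    (hV : Vn 10 X) (hB : ¬ Big X) (e : X ≃* POmega F (quadFormPlus m F)) : False := by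
  by_cases ho : 3 ∣ Fintype.card F
  swap
  · exact hB ((R.oplus hm (three_ne ho)).congr e.symm hV)
  have hc := S0293.result (F := F) rfl m hm
  rw [mul_assoc (Fintype.card F ^ (m * (m - 1)))] at hc
  obtain ⟨f, hf, -, he⟩ := le_ten Fintype.isPrimePow_card_of_field ho
    (Nat.Coprime.coprime_dvd_left (Nat.gcd_dvd_right _ _) (cop_sub Fintype.card_pos (by omega))) hc
    (by rw [← Nat.card_congr e.toEquiv]; exact hV.2)
  have h2 : 4 * 3 ≤ m * (m - 1) := Nat.mul_le_mul (by omega) (by omega)
  have : 1 * 12 ≤ f * (m * (m - 1)) := Nat.mul_le_mul hf h2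
  omega

theorem ominus_case (R : Rows) {F : Type} [Field F] [Fintype F] {m : ℕ} (hm : 4 ≤ m) {a b : F}
    (hab : ∀ z₁ z₂ : F, z₁ ^ 2 + a * z₁ * z₂ + b * z₂ ^ 2 = 0 → z₁ = 0 ∧ z₂ = 0)
    (hV : Vn 10 X) (hB : ¬ Big X) (e : X ≃* POmega F (quadFormMinus (m - 1) F a b)) : False := by
  by_cases ho : 3 ∣ Fintype.card F
  swap
  · exact hB ((R.ominus hm hab (three_ne ho)).congr e.symm hV)
  have hc := S0294.result (F := F) rfl m hm a b hab
  rw [mul_assoc (Fintype.card F ^ (m * (m - 1)))] at hc
  obtain ⟨f, hf, -, he⟩ := le_ten Fintype.isPrimePow_card_of_field ho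
    (Nat.Coprime.coprime_dvd_left (Nat.gcd_dvd_right _ _) (cop_add (by omega))) hc
    (by rw [← Nat.card_congr e.toEquiv]; exact hV.2)
  have h2 : 4 * 3 ≤ m * (m - 1) := Nat.mul_le_mul (by omega) (by omega)
  have : 1 * 12 ≤ f * (m * (m - 1)) := Nat.mul_le_mul hf h2
  omega

end

/-! ### alternating groups -/

theorem alt_case {X : Type*} [Group X] {n : ℕ} (hn : 5 ≤ n) (hV : Vn 10 X) (hB : ¬ Big X)
    (e : X ≃* ↥(alternatingGroup (Fin n))) : False := by
  have hc := alt_card hn e
  by_cases h18 : 18 ≤ n
  · exact hB ((alt_big h18).congr e.symm)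
  · have h1 : 3 ^ 10 ∣ n.factorial := by
      rw [hc]
      exact hV.1.mul_left 2
    have h2 : 3 ^ 10 ∣ (17).factorial := h1.trans (Nat.factorial_dvd_factorial (by omega))
    revert h2; decide

/-! ### the assembly -/

/-- the condition on the order -/
def P (c : ℕ) : Bool := (c % 3 ^ 10 == 0) && (c % 3 ^ 11 != 0)

theorem P_of {N : ℕ} (h : 3 ^ 10 ∣ N ∧ ¬ 3 ^ 11 ∣ N) : P N = true := by
  unfold P
  rw [Bool.and_eq_true]
  refine ⟨by simpa using Nat.mod_eq_zero_of_dvd h.1, ?_⟩
  have := h.2
  norm_num at this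
  simpa [Nat.dvd_iff_mod_eq_zero] using this

theorem big_contra {q e d N u : ℕ} (hq : IsPrimePow q) (h3 : 3 ∣ q) (hd : d.Coprime q) (h : d * N = q ^ e * u)
    (hV : ¬ 3 ^ 11 ∣ N) (he : 11 ≤ e) : False := by
  obtain ⟨f, hf, -, hle⟩ := le_ten hq h3 hd h hV
  have : 1 * 11 ≤ f * e := Nat.mul_le_mul hf he
  omega

/-- **Elimination**, with the rows as a hypothesis. -/
theorem elim_rows (R : Rows) (T : OrderTable.{u}) {K : Type u} [Group K] (h : IsKnownSimple' K)
    (hV : Vn 10 K) (h27 : ∃ x : K, orderOf x = 27) (hB : ¬ Big K) : Spor.IsoTh K := by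
  have key : ∀ (g : Grp), g ∈ spor.map (fun x => x.1) → g ≠ .th → Real g K → False := fun g hg hne hr => by
    obtain ⟨x, hx, rfl⟩ := List.mem_map.1 hg
    have h1 := P_of hV
    rw [T.spor K x hx hr] at h1
    have h2 : ∀ x ∈ spor, x.1 ≠ .th → P x.2 = false := by decide +kernel
    rw [h2 x hx hne] at h1
    exact absurd h1 (by decide)
  have hV' : ∀ {Y : Type} [Group Y] (e : K ≃* Y), 3 ^ 10 ∣ Nat.card Y ∧ ¬ 3 ^ 11 ∣ Nat.card Y := by
    intro Y _ e
    rw [← Nat.card_congr e.toEquiv]
    exact hV
  rcases h with h | h | h | h | h | h | h | h | h | h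
  · exfalso
    have h3 := (Nat.prime_dvd_prime_iff_eq Nat.prime_three h).1 ((dvd_pow_self 3 (by norm_num)).trans hV.1)
    have h4 := hV.1
    rw [← h3] at h4
    revert h4; decide
  · obtain ⟨n, hn, ⟨e⟩⟩ := h
    exact (alt_case hn hV hB e).elim
  · obtain ⟨F, _, _, n, hn, hn2, ⟨e⟩⟩ := h
    exact (psl_case R hn hV h27 hB e).elim
  · obtain ⟨F, _, _, n, hn, hn2, ⟨e⟩⟩ := h
    exact (psp_case R hn hV h27 hB e).elim
  · obtain ⟨F, _, _, n, q, hF, hn, hn2, ⟨e⟩⟩ := h
    exact (psu_case R hF hn hV h27 hB e).elim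
  · obtain ⟨F, _, _, n, hn, ho, ⟨e⟩⟩ := h
    exact (oodd_case R hn ho hV hB e).elim
  · obtain ⟨F, _, _, n, hn, ⟨e⟩⟩ := h
    exact (oplus_case R hn hV hB e).elim
  · obtain ⟨F, _, _, n, a, b, hn, hab, ⟨e⟩⟩ := h
    exact (ominus_case R hn hab hV hB e).elim
  · exfalso
    rcases h with h | h | h | h | h | h | h | h | h | h | h
    · -- `G₂`
      obtain ⟨F, _, _, hq, ⟨e⟩⟩ := h
      by_cases ho : 3 ∣ Fintype.card F
      · obtain ⟨f, hf, -, he⟩ := eq_ten (e := 6) (d := 1) (N := Nat.card ↥(Lie.chevG2.group F))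
          (u := (Fintype.card F ^ 2 - 1) * (Fintype.card F ^ 6 - 1)) Fintype.isPrimePow_card_of_field ho
          (Nat.coprime_one_left _)
          (Nat.Coprime.mul_left (cop_sub Fintype.card_pos (by norm_num)) (cop_sub Fintype.card_pos (by norm_num)))
          (by rw [T.g2 F]; ring) (hV' e)
        omega
      · exact hB ((R.g2 (three_ne ho)).congr e.symm hV)
    · -- `F₄`
      obtain ⟨F, _, _, ⟨e⟩⟩ := h
      by_cases ho : 3 ∣ Fintype.card F
      · have h1 := T.f4 F _ rfl
        simp only [mul_assoc] at h1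
        rw [← one_mul (Nat.card _)] at h1
        exact big_contra (e := 24) Fintype.isPrimePow_card_of_field ho
          (Nat.coprime_one_left _) h1 (hV' e).2 (by norm_num)
      · exact hB ((R.f4 (three_ne ho)).congr e.symm hV)
    · -- `E₆`
      obtain ⟨F, _, _, ⟨e⟩⟩ := h
      by_cases ho : 3 ∣ Fintype.card F
      · have h0 := cop_sub (q := Fintype.card F) (k := 1) Fintype.card_pos le_rfl
        rw [pow_one] at h0
        have h1 := T.e6 F _ rfl
        simp only [mul_assoc] at h1
        exact big_contra (e := 36) Fintype.isPrimePow_card_of_field ho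
          (Nat.Coprime.coprime_dvd_left (Nat.gcd_dvd_right 3 _) h0) h1 (hV' e).2 (by norm_num)
      · exact hB ((R.e6 (three_ne ho)).congr e.symm hV)
    · -- `E₇`
      obtain ⟨F, _, _, ⟨e⟩⟩ := h
      by_cases ho : 3 ∣ Fintype.card F
      · have h0 := cop_sub (q := Fintype.card F) (k := 1) Fintype.card_pos le_rfl
        rw [pow_one] at h0
        have h1 := T.e7 F _ rfl
        simp only [mul_assoc] at h1
        exact big_contra (e := 63) Fintype.isPrimePow_card_of_field ho
          (Nat.Coprime.coprime_dvd_left (Nat.gcd_dvd_right 2 _) h0) h1 (hV' e).2 (by norm_num)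
      · exact hB ((R.e7 (three_ne ho)).congr e.symm hV)
    · -- `E₈`
      obtain ⟨F, _, _, ⟨e⟩⟩ := h
      by_cases ho : 3 ∣ Fintype.card F
      · have h1 := T.e8 F _ rfl
        simp only [mul_assoc] at h1
        rw [← one_mul (Nat.card _)] at h1
        exact big_contra (e := 120) Fintype.isPrimePow_card_of_field ho
          (Nat.coprime_one_left _) h1 (hV' e).2 (by norm_num)
      · exact hB ((R.e8 (three_ne ho)).congr e.symm hV)
    · -- `²E₆`
      obtain ⟨F, _, _, q, hq, hF, ⟨e⟩⟩ := h
      by_cases ho : 3 ∣ q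
      · have h0 := cop_add (q := q) (k := 1) le_rfl
        rw [pow_one] at h0
        have h1 := T.te6 F q hq hF
        simp only [mul_assoc] at h1
        exact big_contra (e := 36) hq ho
          (Nat.Coprime.coprime_dvd_left (Nat.gcd_dvd_right 3 _) h0) h1 (hV' e).2 (by norm_num)
      · exact hB ((R.te6 hq hF (three_ne_of_pow hF ho)).congr e.symm hV)
    · -- `³D₄`
      obtain ⟨F, _, _, q, hq, hF, ⟨e⟩⟩ := h
      by_cases ho : 3 ∣ q
      · have h1 := T.td4 F q hq hF
        simp only [mul_assoc] at h1
        rw [← one_mul (Nat.card _)] at h1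
        exact big_contra (e := 12) hq ho
          (Nat.coprime_one_left _) h1 (hV' e).2 (by norm_num)
      · exact hB ((R.td4 hq hF (three_ne_of_pow hF ho)).congr e.symm hV)
    · -- Suzuki
      obtain ⟨F, _, _, m, hm, hF, ⟨e⟩⟩ := h
      have hd : 3 ∣ Nat.card K := (dvd_pow_self 3 (by norm_num)).trans hV.1
      rw [Nat.card_congr e.toEquiv, T.sz F m hm hF] at hd
      obtain ⟨k, rfl⟩ : ∃ k, m = k + 1 := ⟨m - 1, by omega⟩
      obtain ⟨h1, -, h2⟩ := odd_pow_mod k
      rw [show 2 * (k + 1) + 1 = 2 * k + 3 by ring] at hd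
      generalize 2 ^ (2 * k + 3) = q at hd h1 h2
      rcases (Nat.Prime.dvd_mul Nat.prime_three).1 hd with hd | hd
      · rcases (Nat.Prime.dvd_mul Nat.prime_three).1 hd with hd | hd
        · have := Nat.prime_three.dvd_of_dvd_pow hd
          omega
        · omega
      · have : q ^ 2 % 3 = 1 := by rw [Nat.pow_mod, h2]
        omega
    · -- Ree
      obtain ⟨F, _, _, m, hm, hF, ⟨e⟩⟩ := h
      have h1 := T.ree F m hm hF
      rw [mul_assoc, ← one_mul (Nat.card _)] at h1
      have hpp : IsPrimePow (3 ^ (2 * m + 1)) :=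
        (isPrimePow_nat_iff _).2 ⟨3, 2 * m + 1, Nat.prime_three, by omega, rfl⟩
      have h2 := cop_sub (q := 3 ^ (2 * m + 1)) (k := 1) (Nat.pos_of_ne_zero (by positivity)) le_rfl
      rw [pow_one] at h2
      obtain ⟨f, hf, -, he⟩ := eq_ten hpp (dvd_pow_self 3 (by omega)) (Nat.coprime_one_left _)
        (Nat.Coprime.mul_left h2 (cop_add (by norm_num))) h1 (hV' e)
      omega
    · -- `²F₄`
      obtain ⟨F, _, _, m, hm, hF, ⟨e⟩⟩ := h
      exact hB ((R.tf4 hm hF).congr e.symm hV)
    · exact key .tits (by decide) (by decide) h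
  · rcases h with h | h | h | h | h | h | h | h | h | h | h | h | h | h | h | h | h | h | h | h | h | h | h | h | h | h
    · exact (key .m11 (by decide) (by decide) h).elim
    · exact (key .m12 (by decide) (by decide) h).elim
    · exact (key .m22 (by decide) (by decide) h).elim
    · exact (key .m23 (by decide) (by decide) h).elim
    · exact (key .m24 (by decide) (by decide) h).elim
    · exact (key .j1 (by decide) (by decide) h).elim
    · exact (key .j2 (by decide) (by decide) h).elim
    · exact (key .j3 (by decide) (by decide) h).elim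
    · exact (key .j4 (by decide) (by decide) h).elim
    · exact (key .co1 (by decide) (by decide) h).elim
    · exact (key .co2 (by decide) (by decide) h).elim
    · exact (key .co3 (by decide) (by decide) h).elim
    · exact (key .mcl (by decide) (by decide) h).elim
    · exact (key .hs (by decide) (by decide) h).elim
    · exact (key .suz (by decide) (by decide) h).elim
    · exact (key .he (by decide) (by decide) h).elim
    · exact (key .ru (by decide) (by decide) h).elim
    · exact (key .on (by decide) (by decide) h).elim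
    · exact (key .ly (by decide) (by decide) h).elim
    · exact (key .fi22 (by decide) (by decide) h).elim
    · exact (key .fi23 (by decide) (by decide) h).elim
    · exact (key .fi24 (by decide) (by decide) h).elim
    · exact (key .hn (by decide) (by decide) h).elim
    · exact h
    · exact (key .b (by decide) (by decide) h).elim
    · exact (key .m (by decide) (by decide) h).elim

end Cfsg.Agent.H352.Th
end

-- part: H109/ROrth
section
/-!
# The orthogonal rows of `H777.Elim.Row` (helper109, task 496 of helper777, S5229, S5231)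

`row_oodd`, `row_oplus`, `row_ominus`: if the 3-part of the order of `PΩ(Q)`, `3 ∤ q`, is `3 ^ 10`, there is an abelian
3-subgroup of order at least `3 ^ 6`.
-/

set_option autoImplicit false

namespace Cfsg.Agent.H109.ROrth

open Matrix Subgroup QuadraticMap Cfsg.Agent.H423.PGOrth Cfsg.Agent.LieClassical.OmegaReindex
open Cfsg (POmega Omega quadFormOdd quadFormPlus quadFormMinus)
open scoped commutatorElement

section num

theorem v_small {k : ℕ} (hk : 1 ≤ k) (h6 : k ≤ 6) : padicValNat 3 k ≤ if 3 ∣ k then 1 else 0 := by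
  have : Fact (Nat.Prime 3) := ⟨Nat.prime_three⟩
  have h0 : k ≠ 0 := by omega
  split_ifs with h
  · by_contra hc
    have h1 : 3 ^ 2 ∣ k := (padicValNat_dvd_iff_le h0).2 (by omega)
    have := Nat.le_of_dvd (by omega) h1
    omega
  · exact (padicValNat.eq_zero_of_not_dvd h).le

theorem v_fac {q b k : ℕ} (h2 : 2 ≤ q) (h3 : ¬ 3 ∣ q) (hb : ¬ 3 ^ (b + 1) ∣ q ^ 2 - 1) (hk : 1 ≤ k) (h6 : k ≤ 6) :
    padicValNat 3 (q ^ (2 * k) - 1) ≤ b + if 3 ∣ k then 1 else 0 := by
  have : Fact (Nat.Prime 3) := ⟨Nat.prime_three⟩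
  have hq2 : 1 < q ^ 2 := by nlinarith only [h2]
  have h31 : 3 ∣ q ^ 2 - 1 := by
    have : q % 3 = 1 ∨ q % 3 = 2 := by omega
    have h4 : (q ^ 2) % 3 = 1 := by
      rw [pow_two, Nat.mul_mod]
      rcases this with h | h <;> simp [h]
    omega
  have h1 : padicValNat 3 ((q ^ 2) ^ k - 1 ^ k) = padicValNat 3 (q ^ 2 - 1) + padicValNat 3 k :=
    padicValNat.pow_sub_pow (by decide) hq2 h31 (fun h => h3 (Nat.prime_three.dvd_of_dvd_pow h)) (by omega)
  rw [one_pow] at h1
  rw [pow_mul, h1]
  have h5 : padicValNat 3 (q ^ 2 - 1) ≤ b := by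
    by_contra hc
    exact hb ((padicValNat_dvd_iff_le (by omega)).2 (by omega))
  have := v_small hk h6
  omega

theorem v_prod {q b m : ℕ} (h2 : 2 ≤ q) (h3 : ¬ 3 ∣ q) (hb : ¬ 3 ^ (b + 1) ∣ q ^ 2 - 1) (h6 : m ≤ 6) :
    padicValNat 3 (∏ i ∈ Finset.range m, (q ^ (2 * (i + 1)) - 1)) ≤ m * b + m / 3 := by
  have : Fact (Nat.Prime 3) := ⟨Nat.prime_three⟩
  induction m with
  | zero => simp
  | succ m ih =>
    have hne : ∀ k : ℕ, q ^ (2 * (k + 1)) - 1 ≠ 0 := by
      intro k
      have := Nat.one_lt_pow (n := 2 * (k + 1)) (by omega) (show 1 < q by omega)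
      omega
    rw [Finset.prod_range_succ, padicValNat.mul (Finset.prod_ne_zero_iff.2 fun i _ => hne i) (hne m)]
    have h1 := ih (by omega)
    have h4 := v_fac h2 h3 hb (k := m + 1) (by omega) h6
    have h5 : (m + 1) * b = m * b + b := by ring
    rw [h5]
    split_ifs at h4 with h7 <;> omega

theorem nums {q m h : ℕ} (h2 : 2 ≤ q) (h3 : ¬ 3 ∣ q)
    (hd : 3 ^ 10 ∣ ∏ i ∈ Finset.range m, (q ^ (2 * (i + 1)) - 1)) (hm : m ≤ h + 1) (hh : 3 ≤ h) :
    ∃ a, 3 ^ a ∣ q ^ 2 - 1 ∧ 6 ≤ (h / 2) * (2 * a) := by
  have : Fact (Nat.Prime 3) := ⟨Nat.prime_three⟩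
  have h31 : 3 ∣ q ^ 2 - 1 := by
    have : q % 3 = 1 ∨ q % 3 = 2 := by omega
    have h4 : (q ^ 2) % 3 = 1 := by
      rw [pow_two, Nat.mul_mod]
      rcases this with h | h <;> simp [h]
    omega
  have hne : ∏ i ∈ Finset.range m, (q ^ (2 * (i + 1)) - 1) ≠ 0 := by
    refine Finset.prod_ne_zero_iff.2 fun k _ => ?_
    have := Nat.one_lt_pow (n := 2 * (k + 1)) (by omega) (show 1 < q by omega)
    omega
  rw [padicValNat_dvd_iff_le hne] at hd
  rcases Nat.lt_or_ge h 6 with h6 | h6
  · by_cases h9 : 3 ^ 2 ∣ q ^ 2 - 1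
    · rcases Nat.lt_or_ge h 4 with h4 | h4
      · by_cases h27 : 3 ^ 3 ∣ q ^ 2 - 1
        · exact ⟨3, h27, by omega⟩
        · exfalso
          have := v_prod (m := m) h2 h3 h27 (by omega)
          omega
      · exact ⟨2, h9, by omega⟩
    · exfalso
      have := v_prod (m := m) (b := 1) h2 h3 h9 (by omega)
      omega
  · exact ⟨1, by simpa only [_root_.pow_one] using h31, by omega⟩

end num

section group

variable {F : Type*} [Field F] [Fintype F]

theorem big_of_inv {ι : Type} [Fintype ι] [DecidableEq ι] (Q : QuadraticForm F (ι → F))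
    (hQ : (polarBilin Q).Nondegenerate) (hn : 3 ≤ Fintype.card ι) (hs : ∃ u : ι → F, u ≠ 0 ∧ Q u = 0)
    {r : ℕ} (hr : 6 ≤ r) (h : Inv r ↥(Cfsg.isometryGroup F ⇑Q)) : Cfsg.Agent.H777.Elim.Big (POmega F ⇑Q) := by
  have : Fact (Nat.Prime 3) := ⟨Nat.prime_three⟩
  obtain ⟨A, s, hA, hs', hc⟩ := h
  have hpow : ∀ x ∈ A, x ^ (3 ^ r) = 1 := by
    intro x hx
    have h1 : (⟨x, hx⟩ : A) ^ Nat.card A = 1 := pow_card_eq_one'
    rw [hc] at h1
    exact congrArg Subtype.val h1
  have hle : A ≤ Omega F ⇑Q := by
    intro x hx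
    have h1 : ∃ k : ℕ, 3 ^ r = 2 * k + 1 := by
      have : Odd (3 ^ r) := Odd.pow (by decide)
      exact this
    obtain ⟨k, hk⟩ := h1
    have h2 : ⁅s, x ^ k⁆ = x := by
      have h3 := hs' (x ^ k) (pow_mem hx k)
      rw [commutatorElement_def, h3]
      have h4 : (x ^ k)⁻¹ * (x ^ k)⁻¹ * x ^ (3 ^ r) = x := by
        rw [hk]
        group
      rwa [hpow x hx, mul_one] at h4
    rw [← h2]
    exact Subgroup.commutator_mem_commutator (Subgroup.mem_top _) (Subgroup.mem_top _)
  refine Cfsg.Agent.H777.Elim.Big.of_hom (A := A.subgroupOf (Omega F ⇑Q))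
    (QuotientGroup.mk' (Subgroup.center (Omega F ⇑Q))) ?_ ?_ ?_ ?_
  · rw [IsPGroup.iff_card]
    refine ⟨r, ?_⟩
    rw [← hc]
    exact Nat.card_congr (Subgroup.subgroupOfEquivOfLe hle).toEquiv
  · intro x hx y hy
    exact Subtype.ext (hA _ hx _ hy)
  · rw [Nat.card_congr (Subgroup.subgroupOfEquivOfLe hle).toEquiv, hc]
    exact Nat.pow_le_pow_right (by norm_num) hr
  · intro x hx h1
    have h2 : x ∈ Subgroup.center (Omega F ⇑Q) := (QuotientGroup.eq_one_iff x).1 h1
    have h4 := (Cfsg.Agent.LieClassical.OmegaCenter.mem_center_omega_iff Q hQ hn hs x).1 h2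
    have h5 : x ^ 2 = 1 := by
      apply Cfsg.Agent.LieClassical.OmegaCenter.omega_ext
      show Cfsg.Agent.LieClassical.OmegaCenter.omegaMat x ^ 2 = 1
      rcases h4 with h4 | h4 <;> rw [h4] <;> simp only [_root_.one_pow, _root_.even_two, _root_.Even.neg_pow]
    have h6 : x ^ (3 ^ r) = 1 := Subtype.ext (hpow _ hx)
    have h7 : Nat.Coprime (3 ^ r) 2 := Nat.Coprime.pow_left _ (by norm_num)
    have h8 := (pow_gcd_eq_one (a := x)).2 ⟨h6, h5⟩
    rwa [h7, pow_one] at h8

theorem not_dvd (h3 : (3 : F) ≠ 0) : ¬ 3 ∣ Nat.card F := by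
  intro h
  obtain ⟨p, hp⟩ := CharP.exists F
  have hpp : p.Prime := CharP.char_is_prime F p
  obtain ⟨n, hp', hn⟩ := FiniteField.card F p
  rw [Nat.card_eq_fintype_card, hn] at h
  have h4 : 3 ∣ p := Nat.prime_three.dvd_of_dvd_pow h
  have h5 : p = 3 := ((Nat.prime_dvd_prime_iff_eq Nat.prime_three hpp).1 h4).symm
  subst h5
  apply h3
  exact_mod_cast CharP.cast_eq_zero F 3

theorem two_le_card : 2 ≤ Nat.card F := Finite.one_lt_card

theorem exists_inv {m h : ℕ} (h3 : (3 : F) ≠ 0)
    (hd : 3 ^ 10 ∣ ∏ i ∈ Finset.range m, (Nat.card F ^ (2 * (i + 1)) - 1)) (hm : m ≤ h + 1) (hh : 3 ≤ h) :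
    ∃ r, 6 ≤ r ∧ Inv r ↥(Cfsg.isometryGroup F (quadFormPlus h F)) := by
  obtain ⟨a, ha, h6⟩ := nums two_le_card (not_dvd h3) hd hm hh
  refine ⟨_, h6, ?_⟩
  have h1 := inv_plus (F := F) (not_dvd h3) ha (h / 2) (h % 2)
  rwa [Nat.div_add_mod] at h1

theorem three_dvd {k n x : ℕ} {q : ℕ} (hq : ¬ 3 ∣ q) (h : 3 ^ 10 ∣ q ^ n * x) (hk : x ∣ k) : 3 ^ 10 ∣ k := by
  refine dvd_trans (Nat.Coprime.dvd_of_dvd_mul_left ?_ h) hk
  apply Nat.Coprime.pow
  exact (Nat.Prime.coprime_iff_not_dvd Nat.prime_three).2 hq

/-- **`Ω_{2m+1}(q)`** -/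
theorem row_oodd {m : ℕ} (hm : 3 ≤ m) (ho : Odd (Fintype.card F)) (h3 : (3 : F) ≠ 0) :
    Cfsg.Agent.H777.Elim.Row (POmega F (quadFormOdd m F)) := by
  rintro ⟨hV, -⟩
  have h1 := Cfsg.Agent.S0292.result (F := F) rfl ho m hm
  rw [← Nat.card_eq_fintype_card] at h1
  have h2 : 3 ^ 10 ∣ Nat.card F ^ (m ^ 2) * ∏ i ∈ Finset.range m, (Nat.card F ^ (2 * (i + 1)) - 1) := by
    rw [← h1]
    exact Dvd.dvd.mul_left hV 2
  obtain ⟨r, hr, h4⟩ := exists_inv (m := m) (h := m) h3 (three_dvd (not_dvd h3) h2 dvd_rfl) (by omega) hm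
  have h5 := ((h4.prod (Inv.zero _)).map (isoBlk _ (spl_odd (F := F) m)) (isoBlk_injective _ _))
  have h20 : (2 : F) ≠ 0 := by
    intro h
    have hc : CharP F 2 := CharTwo.of_one_ne_zero_of_two_eq_zero one_ne_zero h
    obtain ⟨n, -, hn⟩ := FiniteField.card F 2
    rw [hn] at ho
    exact absurd ho (by rw [Nat.not_odd_iff_even]; exact (Nat.even_pow.2 ⟨even_two, n.ne_zero⟩))
  rw [← coe_quadOdd] at h5 ⊢
  exact big_of_inv _ (quadOdd_nondegenerate h20) (by simp only [_root_.Fintype.card_sum, _root_.Fintype.card_unique, _root_.Fintype.card_fin]; omega) (quadOdd_isotropic (by omega)) (by omega) h5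

/-- **`PΩ⁺_{2m}(q)`** -/
theorem row_oplus {m : ℕ} (hm : 4 ≤ m) (h3 : (3 : F) ≠ 0) :
    Cfsg.Agent.H777.Elim.Row (POmega F (quadFormPlus m F)) := by
  rintro ⟨hV, -⟩
  have h1 := Cfsg.Agent.S0293.result (F := F) rfl m hm
  rw [← Nat.card_eq_fintype_card] at h1
  have h2 : 3 ^ 10 ∣ Nat.card F ^ (m * (m - 1)) * ((Nat.card F ^ m - 1) *
      ∏ i ∈ Finset.range (m - 1), (Nat.card F ^ (2 * (i + 1)) - 1)) := by
    rw [← mul_assoc, ← h1]
    exact Dvd.dvd.mul_left hV _
  have h6 : (Nat.card F ^ m - 1) * ∏ i ∈ Finset.range (m - 1), (Nat.card F ^ (2 * (i + 1)) - 1) ∣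
      ∏ i ∈ Finset.range m, (Nat.card F ^ (2 * (i + 1)) - 1) := by
    obtain ⟨k, rfl⟩ : ∃ k, m = k + 1 := ⟨m - 1, by omega⟩
    rw [Finset.prod_range_succ, Nat.add_sub_cancel, mul_comm]
    refine mul_dvd_mul_left _ ?_
    exact Nat.pow_sub_one_dvd_pow_sub_one _ (Dvd.intro_left 2 rfl)
  obtain ⟨r, hr, h4⟩ := exists_inv (m := m) (h := m) h3 (three_dvd (not_dvd h3) h2 h6) (by omega) (by omega)
  rw [← coe_quadPlus] at h4 ⊢
  exact big_of_inv _ quadPlus_nondegenerate (by simp only [_root_.Fintype.card_sum, _root_.Fintype.card_fin]; omega) (quadPlus_isotropic (by omega)) hr h4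

/-- **`PΩ⁻_{2m}(q)`** -/
theorem row_ominus {m : ℕ} (hm : 4 ≤ m) {a b : F}
    (hab : ∀ z₁ z₂ : F, z₁ ^ 2 + a * z₁ * z₂ + b * z₂ ^ 2 = 0 → z₁ = 0 ∧ z₂ = 0) (h3 : (3 : F) ≠ 0) :
    Cfsg.Agent.H777.Elim.Row (POmega F (quadFormMinus (m - 1) F a b)) := by
  rintro ⟨hV, -⟩
  have h1 := Cfsg.Agent.S0294.result (F := F) rfl m hm a b hab
  rw [← Nat.card_eq_fintype_card] at h1
  have h2 : 3 ^ 10 ∣ Nat.card F ^ (m * (m - 1)) * ((Nat.card F ^ m + 1) *
      ∏ i ∈ Finset.range (m - 1), (Nat.card F ^ (2 * (i + 1)) - 1)) := by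
    rw [← mul_assoc, ← h1]
    exact Dvd.dvd.mul_left hV _
  have h6 : (Nat.card F ^ m + 1) * ∏ i ∈ Finset.range (m - 1), (Nat.card F ^ (2 * (i + 1)) - 1) ∣
      ∏ i ∈ Finset.range m, (Nat.card F ^ (2 * (i + 1)) - 1) := by
    obtain ⟨k, rfl⟩ : ∃ k, m = k + 1 := ⟨m - 1, by omega⟩
    rw [Finset.prod_range_succ, Nat.add_sub_cancel, mul_comm]
    refine mul_dvd_mul_left _ ?_
    refine ⟨Nat.card F ^ (k + 1) - 1, ?_⟩
    have := Nat.sq_sub_sq (Nat.card F ^ (k + 1)) 1
    rw [one_pow, ← pow_mul, mul_comm (k + 1) 2] at this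
    exact this
  obtain ⟨r, hr, h4⟩ := exists_inv (m := m) (h := m - 1) h3 (three_dvd (not_dvd h3) h2 h6) (by omega) (by omega)
  have h5 := ((h4.prod (Inv.zero _)).map (isoBlk _ (spl_minus (F := F) (m - 1) a b)) (isoBlk_injective _ _))
  rw [← coe_quadMinus] at h5 ⊢
  exact big_of_inv _ (quadMinus_nondegenerate hab) (by simp only [_root_.Fintype.card_sum, _root_.Fintype.card_fin, _root_.Nat.reduceLeDiff]; omega) (quadMinus_isotropic (by omega) a b)
    (by omega) h5

end group

end Cfsg.Agent.H109.ROrth
end

-- part: H777/ElimTh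
section
/-!
# Recognition of the Thompson group among the simple groups with Sylow 3-subgroup of order `3 ^ 10` (helper777)
-/

set_option autoImplicit false

namespace Cfsg.Agent.H777.Elim

open Cfsg

universe u

theorem rows : Cfsg.Agent.H352.Th.Rows where
  psl := by intro n hn F _ _ h3; exact Cfsg.Agent.H458.Ab3.row_psl hn h3
  psu := by intro n q hn F _ _ hq h3; exact Cfsg.Agent.H325.RowPSU.row_psu hn hq h3
  psp := by intro m hm F _ _ h3; exact Cfsg.Agent.H978.ThreeTor.row_psp hm h3
  oodd := by intro m hm F _ _ ho h3; exact Cfsg.Agent.H109.ROrth.row_oodd hm ho h3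
  oplus := by intro m hm F _ _ h3; exact Cfsg.Agent.H109.ROrth.row_oplus hm h3
  ominus := by intro m hm F _ _ a b hab h3; exact Cfsg.Agent.H109.ROrth.row_ominus hm hab h3
  g2 := by intro F _ _ h3; exact Cfsg.Agent.H984.ThreeExc.row_G2 h3
  f4 := by intro F _ _ h3; exact Cfsg.Agent.H984.ThreeExc.row_F4 h3
  e6 := by intro F _ _ h3; exact Cfsg.Agent.H984.ThreeExc.row_E6 h3
  e7 := by intro F _ _ h3; exact Cfsg.Agent.H984.ThreeExc.row_E7 h3
  e8 := by intro F _ _ h3; exact Cfsg.Agent.H984.ThreeExc.row_E8 h3
  te6 := by intro F _ _ q hq hK h3; exact Cfsg.Agent.H984.ThreeExc.row_twE6 hq hK h3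
  td4 := by intro F _ _ q hq hK h3; exact Cfsg.Agent.H984.ThreeExc.row_twD4 hq hK h3
  tf4 := by intro F _ _ m hm hK; exact Cfsg.Agent.H984.ThreeExc.row_twF4 hK

theorem elim {K : Type u} [Group K] [Finite K] [IsSimpleGroup K] (hV : Vn 10 K) (h27 : ∃ x : K, orderOf x = 27)
    (hB : ¬ Big K) : Cfsg.Spor.IsoTh K :=
  Cfsg.Agent.H352.Th.elim_rows rows Cfsg.Agent.OrdDiv.table Cfsg.Agent.S0000.result hV h27 hB

end Cfsg.Agent.H777.Elim
end

private theorem dce_e497ca4e1494 : _root_.True := by
  try have : _root_.True := by simp only [_root_.Cfsg.Agent.H352.Th.shiftHom.eq_1]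
  exact _root_.True.intro
end

-- part: S5229
section
prune_inst 0xc0600040388000000000809011003c46c2000592004b00011140090204865e6000002620f2801f1202080a040038000000100040000000000000800001180080042840008308a10c200000c09006000000000000000000000000000000041004000000000
set_option linter.all false
open scoped Cfsg.Agent.FastGrp

-- part: H777/Th3/Chain
section
/-!
# Strongly closed subgroups contain everything (helper777)
-/

set_option autoImplicit false
set_option linter.unusedSimpArgs false
set_option linter.unusedVariables false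
set_option synthInstance.maxHeartbeats 400000
set_option synthInstance.maxSize 2000

namespace Cfsg.Agent.H777.Th3

open Dat

theorem dec_span : ∀ q : Q4, ∃ i j k l : ZMod 3,
    q = i.val • ((0, 0, 1, 0) : Q4) + j.val • ((2, 0, 2, 1) : Q4) + k.val • sg (2, 0, 2, 1) +
      l.val • sg (sg (2, 0, 2, 1)) := by decide +kernel

theorem val_two' : (2 : ZMod 3).val = 2 := rfl

/-- evaluation of a product -/
theorem m2_conj_e2 : em2⁻¹ * thDat.uu (0, 2, 2, 1, 2) * em2 = thDat.uu (2, 0, 1, 2, 2) := by
  have c1 : ∀ {x w : Cfsg.Spor.Th}, x * em2 = em2 * w → em2⁻¹ * x * em2 = w := by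
    intro x w h
    rw [mul_assoc, h, inv_mul_cancel_left]
  have k2 : em2⁻¹ * thDat.u2 * em2 = thDat.u1 := c1 m2_u2
  have k3 : em2⁻¹ * thDat.u3 * em2 = thDat.u3 ^ 2 := c1 m2_u3
  have k4 : em2⁻¹ * thDat.u4 * em2 = thDat.u4 ^ 2 := c1 m2_u4
  have k5 : em2⁻¹ * thDat.u5 * em2 = thDat.u5 := c1 m2_u5
  have e1 : thDat.uu (0, 2, 2, 1, 2) = thDat.u2 ^ 2 * thDat.u3 ^ 2 * thDat.u4 * thDat.u5 ^ 2 := by
    simp [uu, val_two', ZMod.val_one]
  have e2 : em2⁻¹ * thDat.uu (0, 2, 2, 1, 2) * em2 =
      (em2⁻¹ * thDat.u2 * em2) ^ 2 * (em2⁻¹ * thDat.u3 * em2) ^ 2 * (em2⁻¹ * thDat.u4 * em2) *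
        (em2⁻¹ * thDat.u5 * em2) ^ 2 := by
    rw [e1]
    simp only [pow_two]
    group
  rw [e2, k2, k3, k4, k5]
  have e3 : (thDat.u3 ^ 2) ^ 2 = thDat.u3 := by
    have h := thDat.c3
    calc (thDat.u3 ^ 2) ^ 2 = thDat.u3 ^ 3 * thDat.u3 := by rw [← pow_mul, ← pow_succ]
      _ = thDat.u3 := by rw [h, one_mul]
  rw [e3]
  simp [uu, val_two', ZMod.val_one]

theorem chain (A : Subgroup Cfsg.Spor.Th) (hAS : A ≤ thDat.Sg)
    (hconj : ∀ s ∈ thDat.Sg, ∀ a ∈ A, s⁻¹ * a * s ∈ A)
    (hfuse : ∀ m e p₁ p₂ : Cfsg.Spor.Th, e ∈ A → m⁻¹ * e * m ∈ thDat.Sg → p₁ ∈ thDat.Sg → p₂ ∈ thDat.Sg →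
      p₁ * p₂ ≠ p₂ * p₁ → m⁻¹ * p₁ * m ∈ thDat.Sg → m⁻¹ * p₂ * m ∈ thDat.Sg → m⁻¹ * e * m ∈ A)
    (hu1 : thDat.u1 ∈ A) : A = thDat.Sg := by
  have h1 := th_u1_ne
  have c1 : ∀ {m x w : Cfsg.Spor.Th}, x * m = m * w → m⁻¹ * x * m = w := by
    intro m x w h
    rw [mul_assoc, h, inv_mul_cancel_left]
  have hU : ∀ e : V5, thDat.uu e ∈ thDat.Sg := fun e => thDat.U_le_Sg (thDat.uu_mem e)
  have hu : ∀ {x : Cfsg.Spor.Th}, x ∈ thDat.U → x ∈ thDat.Sg := fun h => thDat.U_le_Sg h
  -- the two nonabelian pairs
  have hne2 : thDat.u5 * thDat.v1 ≠ thDat.v1 * thDat.u5 := by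
    intro h
    have h2 : thDat.uu (0, 0, 0, 0, 1) * thDat.v1 = thDat.v1 * thDat.uu (0, 0, 0, 0, 1) := by
      rw [uu_5]; exact h
    have h3 := act_v1 (D := thDat) (0, 0, 0, 0, 1)
    rw [mul_assoc, h2, inv_mul_cancel_left] at h3
    exact absurd (uu_injective h1 h3) (by decide)
  have hne1 : thDat.r1 * thDat.r2 ≠ thDat.r2 * thDat.r1 := by
    intro h
    have h2 := thDat.j_r1_r2
    rw [h] at h2
    have h3 : thDat.r1 = thDat.u3 * thDat.u4 ^ 2 * thDat.u5 * thDat.r1 := by
      have h4 : thDat.r2 * thDat.r1 = thDat.r2 * (thDat.u3 * thDat.u4 ^ 2 * thDat.u5 * thDat.r1) := by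
        rw [h2]; simp only [mul_assoc]
      exact mul_left_cancel h4
    have h4 : thDat.u3 * thDat.u4 ^ 2 * thDat.u5 = 1 := by
      have h5 : 1 * thDat.r1 = (thDat.u3 * thDat.u4 ^ 2 * thDat.u5) * thDat.r1 := by rw [one_mul]; exact h3
      exact (mul_right_cancel h5).symm
    have h5 : thDat.uu (0, 0, 1, 2, 1) = thDat.uu 0 := by
      rw [uu_zero, ← h4]
      simp [uu, val_two', ZMod.val_one]
    exact absurd (uu_injective h1 h5) (by decide)
  have fuse2 : ∀ e w : Cfsg.Spor.Th, e ∈ A → em2⁻¹ * e * em2 = w → w ∈ thDat.Sg → w ∈ A := by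
    intro e w he hw hwS
    rw [← hw] at hwS ⊢
    refine hfuse em2 e thDat.u5 thDat.v1 he hwS (hu thDat.u5_mem) v1_Sg hne2 ?_ ?_
    · rw [c1 m2_u5]; exact hu thDat.u5_mem
    · rw [c1 (by rw [m2_v1, mul_assoc] : thDat.v1 * em2 = em2 * (thDat.u2 * thDat.v2 ^ 2))]
      exact thDat.Sg.mul_mem (hu thDat.u2_mem) (thDat.Sg.pow_mem v2_Sg 2)
  have fuse1 : ∀ e w : Cfsg.Spor.Th, e ∈ A → em1⁻¹ * e * em1 = w → w ∈ thDat.Sg → w ∈ A := by
    intro e w he hw hwS
    rw [← hw] at hwS ⊢
    refine hfuse em1 e thDat.r1 thDat.r2 he hwS r1_Sg r2_Sg hne1 ?_ ?_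
    · rw [c1 m1_r1]; exact thDat.Sg.pow_mem r1_Sg 2
    · rw [c1 (by rw [m1_r2, mul_assoc] : thDat.r2 * em1 = em1 * (thDat.u4 * thDat.r2 ^ 2))]
      exact thDat.Sg.mul_mem (hu thDat.u4_mem) (thDat.Sg.pow_mem r2_Sg 2)
  -- vectors
  have hadd : ∀ e f : V5, thDat.uu e ∈ A → thDat.uu f ∈ A → thDat.uu (e + f) ∈ A := fun e f he hf => by
    rw [uu_add]; exact A.mul_mem he hf
  have hnsmul : ∀ (n : ℕ) (e : V5), thDat.uu e ∈ A → thDat.uu (n • e) ∈ A := fun n e he => by
    rw [uu_nsmul]; exact A.pow_mem he n
  have a1 : thDat.uu (1, 0, 0, 0, 0) ∈ A := by rw [uu_1]; exact hu1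
  have a2 : thDat.uu (0, 1, 0, 0, 0) ∈ A := by
    have h2 := fuse2 _ _ hu1 (c1 m2_u1) (thDat.Sg.pow_mem (hu thDat.u2_mem) 2)
    have h3 : thDat.uu (0, 1, 0, 0, 0) = (thDat.u2 ^ 2) ^ 2 := by
      rw [uu_2]
      have h := thDat.c2
      symm
      calc (thDat.u2 ^ 2) ^ 2 = thDat.u2 ^ 3 * thDat.u2 := by rw [← pow_mul, ← pow_succ]
        _ = thDat.u2 := by rw [h, one_mul]
    rw [h3]
    exact A.pow_mem h2 2
  have a3 : thDat.uu (0, 2, 2, 1, 2) ∈ A := by
    have h2 : em1⁻¹ * thDat.u2 * em1 = thDat.uu (0, 2, 2, 1, 2) := by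
      rw [c1 (w := thDat.u2 ^ 2 * thDat.u3 ^ 2 * thDat.u4 * thDat.u5 ^ 2) (by rw [m1_u2]; simp only [mul_assoc])]
      simp [uu, val_two', ZMod.val_one]
    exact fuse1 _ _ (by rw [← uu_2]; exact a2) h2 (hU _)
  have a4 : thDat.uu (2, 0, 1, 2, 2) ∈ A := fuse2 _ _ a3 m2_conj_e2 (hU _)
  have a5 : thDat.uu (0, 0, 0, 0, 1) ∈ A := by
    have h2 := hadd _ _ (hadd _ _ (hadd _ _ a3 a4) a1) a2
    exact h2
  have a6 : thDat.uu (0, 0, 1, 0, 0) ∈ A := by
    have h2 := hconj _ thDat.x0_Sg _ a5
    rw [act_x0] at h2
    have h3 := hnsmul 2 _ h2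
    have h4 := hadd _ _ (hadd _ _ h3 a1) (hnsmul 2 _ a2)
    exact h4
  have a7 : thDat.uu (0, 0, 0, 1, 0) ∈ A := by
    have h2 := hadd _ _ (hadd _ _ (hadd _ _ a3 a2) a6) a5
    exact h2
  have hUA : thDat.U ≤ A := by
    intro x hx
    obtain ⟨e, rfl⟩ := (thDat.mem_U).1 hx
    rw [decomp e]
    exact hadd _ _ (hadd _ _ (hadd _ _ (hadd _ _ (hnsmul _ _ a1) (hnsmul _ _ a2)) (hnsmul _ _ a6)) (hnsmul _ _ a7))
      (hnsmul _ _ a5)
  -- the elements outside `U`
  have b1 : thDat.r1 ∈ A := by
    have hw : thDat.u1 * thDat.u2 * thDat.u3 ^ 2 * thDat.u4 ∈ thDat.U :=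
      thDat.U.mul_mem (thDat.U.mul_mem (thDat.U.mul_mem thDat.u1_mem thDat.u2_mem) (thDat.U.pow_mem thDat.u3_mem 2)) thDat.u4_mem
    have h2 := fuse1 _ _ (hUA thDat.u5_mem)
      (c1 (w := thDat.u1 * thDat.u2 * thDat.u3 ^ 2 * thDat.u4 * thDat.r1) (by rw [m1_u5]; simp only [mul_assoc]))
      (thDat.Sg.mul_mem (hu hw) r1_Sg)
    exact (A.mul_mem_cancel_left (hUA hw)).1 h2
  have b2 : thDat.v1 ^ 2 * thDat.r1 ^ 2 * thDat.r2 ∈ A := by
    have hw : thDat.u1 ^ 2 * thDat.u2 * thDat.u3 * thDat.u4 ∈ thDat.U :=
      thDat.U.mul_mem (thDat.U.mul_mem (thDat.U.mul_mem (thDat.U.pow_mem thDat.u1_mem 2) thDat.u2_mem) thDat.u3_mem) thDat.u4_mem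
    have hs : thDat.v1 ^ 2 * thDat.r1 ^ 2 * thDat.r2 ∈ thDat.Sg :=
      thDat.Sg.mul_mem (thDat.Sg.mul_mem (thDat.Sg.pow_mem v1_Sg 2) (thDat.Sg.pow_mem r1_Sg 2)) r2_Sg
    have h2 := fuse2 _ _ b1
      (c1 (w := (thDat.u1 ^ 2 * thDat.u2 * thDat.u3 * thDat.u4) * (thDat.v1 ^ 2 * thDat.r1 ^ 2 * thDat.r2))
        (by rw [m2_r1]; simp only [mul_assoc]))
      (thDat.Sg.mul_mem (hu hw) hs)
    exact (A.mul_mem_cancel_left (hUA hw)).1 h2
  -- all of `T`
  have hTA : thDat.Tg ≤ A := by
    have hT2 : thDat.v1 ^ 2 * thDat.r1 ^ 2 * thDat.r2 ∈ thDat.Tg :=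
      thDat.Tg.mul_mem (thDat.Tg.mul_mem (thDat.Tg.pow_mem thDat.v1_Tg 2) (thDat.Tg.pow_mem thDat.r1_Tg 2)) thDat.r2_Tg
    have hq2 : thDat.qT (thDat.v1 ^ 2 * thDat.r1 ^ 2 * thDat.r2) = (2, 0, 2, 1) := by
      have := qT_w4 h1 (D := thDat) 0 2 0 2 1
      rw [uu_zero, one_mul] at this
      rw [← this]
      simp [w4, val_two', ZMod.val_one]
    have hq1 : thDat.qT thDat.r1 = (0, 0, 1, 0) := by
      have := qT_w4 h1 (D := thDat) 0 0 0 1 0
      rw [uu_zero, one_mul] at this
      rw [← this]
      simp [w4, ZMod.val_one]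
    generalize thDat.v1 ^ 2 * thDat.r1 ^ 2 * thDat.r2 = y at b2 hT2 hq2
    have hT3 := thDat.conj_x0_Tg y hT2
    have hT4 := thDat.conj_x0_Tg _ hT3
    have hq3 := qT_conj_x0 h1 hT2
    have hq4 := qT_conj_x0 h1 hT3
    have hA3 := hconj _ thDat.x0_Sg _ b2
    have hA4 := hconj _ thDat.x0_Sg _ hA3
    rw [hq2] at hq3
    rw [hq3] at hq4
    generalize thDat.x0⁻¹ * (thDat.x0⁻¹ * y * thDat.x0) * thDat.x0 = y3 at hT4 hq4 hA4
    generalize thDat.x0⁻¹ * y * thDat.x0 = y2 at hT3 hq3 hA3
    intro x hx
    obtain ⟨i, j, k, l, hq⟩ := dec_span (thDat.qT x)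
    set w := thDat.r1 ^ i.val * y ^ j.val * y2 ^ k.val * y3 ^ l.val with hw
    have hwA : w ∈ A := A.mul_mem (A.mul_mem (A.mul_mem (A.pow_mem b1 _) (A.pow_mem b2 _)) (A.pow_mem hA3 _)) (A.pow_mem hA4 _)
    have hw1 := thDat.Tg.pow_mem thDat.r1_Tg i.val
    have hw2 := thDat.Tg.pow_mem hT2 j.val
    have hw3 := thDat.Tg.pow_mem hT3 k.val
    have hw4 := thDat.Tg.pow_mem hT4 l.val
    have hwT : w ∈ thDat.Tg := thDat.Tg.mul_mem (thDat.Tg.mul_mem (thDat.Tg.mul_mem hw1 hw2) hw3) hw4
    have hwq : thDat.qT w = thDat.qT x := by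
      rw [hw, qT_mul h1 (thDat.Tg.mul_mem (thDat.Tg.mul_mem hw1 hw2) hw3) hw4, qT_mul h1 (thDat.Tg.mul_mem hw1 hw2) hw3,
        qT_mul h1 hw1 hw2, qT_pow h1 thDat.r1_Tg, qT_pow h1 hT2, qT_pow h1 hT3, qT_pow h1 hT4, hq1, hq2, hq3, hq4, hq]
    have hxw : w⁻¹ * x ∈ thDat.U := by
      rw [mem_U_iff_qT h1 (thDat.Tg.mul_mem (thDat.Tg.inv_mem hwT) hx), qT_mul h1 (thDat.Tg.inv_mem hwT) hx,
        qT_inv h1 hwT, hwq, neg_add_cancel]
    have h2 := A.mul_mem hwA (hUA hxw)
    rwa [mul_inv_cancel_left] at h2
  have b3 : thDat.x0 ∈ A := by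
    have hw : thDat.u1 * thDat.u3 * thDat.r1 ^ 2 * thDat.r2 ^ 2 ∈ thDat.Tg :=
      thDat.Tg.mul_mem (thDat.Tg.mul_mem (thDat.Tg.mul_mem (thDat.U_le_Tg thDat.u1_mem) (thDat.U_le_Tg thDat.u3_mem))
        (thDat.Tg.pow_mem thDat.r1_Tg 2)) (thDat.Tg.pow_mem thDat.r2_Tg 2)
    have h2 := fuse1 _ _ (hTA (thDat.Tg.mul_mem thDat.v1_Tg thDat.v2_Tg))
      (c1 (w := thDat.u1 * thDat.u3 * thDat.r1 ^ 2 * thDat.r2 ^ 2 * thDat.x0) (by rw [m1_v1_v2]; simp only [mul_assoc]))
      (thDat.Sg.mul_mem (thDat.Tg_le_Sg hw) thDat.x0_Sg)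
    exact (A.mul_mem_cancel_left (hTA hw)).1 h2
  exact le_antisymm hAS (adj_le hTA b3)

end Cfsg.Agent.H777.Th3
end

-- part: H777/Th3/ThPrune
section
/-!
# The pruned fusion system on a Sylow 3-subgroup of the Thompson group (helper777)
-/

set_option autoImplicit false
set_option linter.unusedSimpArgs false
set_option linter.unusedVariables false

namespace Cfsg.Agent.H777.Th3

open Dat Cfsg Cfsg.FusionSystem Cfsg.Agent.H802 Cfsg.Agent.H777.Prune

instance fact3 : Fact (Nat.Prime 3) := ⟨Nat.prime_three⟩

/-- the Sylow 3-subgroup -/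
noncomputable def T0 : Sylow 3 Cfsg.Spor.Th := Sylow.ofCard thDat.Sg (by
  have h : (Nat.card Cfsg.Spor.Th).factorization 3 = 10 := by
    have h1 : 3 ^ 10 ∣ Nat.card Cfsg.Spor.Th := by rw [card_Th_eq]; norm_num
    have h2 := not_11
    rw [Nat.prime_three.pow_dvd_iff_le_factorization Nat.card_pos.ne'] at h1 h2
    omega
  rw [h, card_Sg th_u1_ne])

theorem T0_coe : (T0 : Subgroup Cfsg.Spor.Th) = thDat.Sg := rfl

/-- the fusion system of the Thompson group -/
def FTh : FusionSystem thDat.Sg := groupFusionSystem thDat.Sg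

theorem FTh_sat : FTh.IsSaturated 3 := groupFusionSystem_isSaturated T0

instance finSg : Finite thDat.Sg := inferInstance

theorem hSp : IsPGroup 3 thDat.Sg := isPGroup_Sg th_u1_ne

theorem Vs_le : thDat.Vs ≤ thDat.Sg := Vs_le_N.trans thDat.N_le_Sg

theorem Vs_ab : ∀ x ∈ thDat.Vs, ∀ y ∈ thDat.Vs, x * y = y * x := fun x hx y hy => Vs_comm hx hy

theorem nab : thDat.u5 * thDat.v1 ≠ thDat.v1 * thDat.u5 := by
  intro h
  have h2 : thDat.uu (0, 0, 0, 0, 1) * thDat.v1 = thDat.v1 * thDat.uu (0, 0, 0, 0, 1) := by
    rw [uu_5]; exact h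
  have h3 := act_v1 (D := thDat) (0, 0, 0, 0, 1)
  rw [mul_assoc, h2, inv_mul_cancel_left] at h3
  exact absurd (uu_injective th_u1_ne h3) (by decide)

theorem not_below_of_nab {P : Subgroup Cfsg.Spor.Th} {x y : Cfsg.Spor.Th} (hx : x ∈ P) (hy : y ∈ P)
    (h : x * y ≠ y * x) : ¬ Below FTh thDat.Vs P := fun hb => h (hb.comm Vs_ab x hx y hy)

theorem hnS : ¬ Below FTh thDat.Vs thDat.Sg :=
  not_below_of_nab (thDat.U_le_Sg thDat.u5_mem) v1_Sg nab

/-- the pruned system -/
def ETh : FusionSystem thDat.Sg := prune FTh thDat.Vs hnS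

theorem V_fn : FTh.IsFullyNormalized thDat.Vs := by
  refine ⟨Vs_le, ?_⟩
  rintro Q ⟨φ, ⟨-, hφS, g, hg⟩, hr⟩
  have hQ : ∀ x, x ∈ thDat.Vs ↔ g * x * g⁻¹ ∈ Q := by
    intro x
    rw [← hr]
    constructor
    · intro hx
      exact ⟨⟨x, hx⟩, hg _⟩
    · rintro ⟨y, hy⟩
      rw [hg] at hy
      have : (y : Cfsg.Spor.Th) = x := mul_left_cancel (mul_right_cancel hy)
      rw [← this]
      exact y.2
  have hNle : thDat.N ≤ normalizerIn thDat.Sg thDat.Vs := by
    intro x hx
    refine ⟨thDat.N_le_Sg hx, Subgroup.mem_normalizer_iff''.2 ?_⟩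
    exact conj_iff le_rfl (fun y hy => conj_Vs th_u1_ne hx hy)
  have h1 : 3 ^ 7 ≤ Nat.card (normalizerIn thDat.Sg thDat.Vs) := by
    rw [← card_N th_u1_ne]
    exact Nat.card_mono (Set.toFinite _) hNle
  refine le_trans ?_ h1
  have hX : cj (normalizerIn thDat.Sg Q) g ≤ Subgroup.normalizer (thDat.Vs : Set Cfsg.Spor.Th) := by
    intro y hy
    rw [mem_cj] at hy
    have h2 := Subgroup.mem_normalizer_iff.1 hy.2
    rw [Subgroup.mem_normalizer_iff]
    intro v
    rw [hQ, h2, hQ]
    have e1 : g * y * g⁻¹ * (g * v * g⁻¹) * (g * y * g⁻¹)⁻¹ = g * (y * v * y⁻¹) * g⁻¹ := by group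
    rw [e1]
  have hnle : normalizerIn thDat.Sg Q ≤ thDat.Sg := inf_le_left
  obtain ⟨k, hk⟩ := card_eq_pow th_u1_ne hnle
  have hk7 : k ≤ 7 := by
    by_contra hcon
    have h2 : 3 ^ 8 ∣ Nat.card (cj (normalizerIn thDat.Sg Q) g) := by
      rw [card_cj, hk]
      exact pow_dvd_pow 3 (by omega)
    refine not_dvd_norm_Th (L := Subgroup.normalizer (thDat.Vs : Set Cfsg.Spor.Th)) ?_ ?_
      (h2.trans (Subgroup.card_dvd_of_le hX))
    · exact hNle.trans inf_le_right
    · exact fun g hg x => Subgroup.mem_normalizer_iff''.1 hg x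
  rw [hk]
  exact Nat.pow_le_pow_right (by norm_num) hk7

theorem ETh_sat : ETh.IsSaturated 3 := prune_isSaturated hSp FTh_sat V_fn Vs_ab

/-- conjugation maps on nonabelian subgroups belong to the pruned system -/
theorem conj_mem_ETh {P : Subgroup Cfsg.Spor.Th} {g x y : Cfsg.Spor.Th} (hP : P ≤ thDat.Sg) (hx : x ∈ P) (hy : y ∈ P)
    (h : x * y ≠ y * x) (hg : ∀ x ∈ P, g * x * g⁻¹ ∈ thDat.Sg) : conjHom P g ∈ ETh.Hom P :=
  mem_prune (not_below_of_nab hx hy h) ⟨hP, fun x => hg x x.2, g, fun x => rfl⟩

/-- **Strongly closed subgroups.** -/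
theorem stronglyClosed_ETh {A : Subgroup Cfsg.Spor.Th} (hA : ETh.StronglyClosed A) : A = ⊥ ∨ A = thDat.Sg := by
  by_cases hA1 : A = ⊥
  · exact Or.inl hA1
  right
  obtain ⟨hAS, hcl⟩ := hA
  have hconj : ∀ s ∈ thDat.Sg, ∀ a ∈ A, s⁻¹ * a * s ∈ A := by
    intro s hs a ha
    have h1 : conjHom A s⁻¹ ∈ ETh.Hom A := ETh.conj_mem hAS (thDat.Sg.inv_mem hs)
    have h2 := hcl A le_rfl _ h1 ⟨a, ha⟩
    have h3 : s⁻¹ * a * s⁻¹⁻¹ ∈ A := h2
    rwa [inv_inv] at h3
  refine chain A hAS hconj ?_ ?_
  · intro m e p₁ p₂ he hem h1 h2 hne h1m h2m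
    set P := Subgroup.closure ({e, p₁, p₂} : Set Cfsg.Spor.Th) with hP
    have heP : e ∈ P := Subgroup.subset_closure (by simp)
    have h1P : p₁ ∈ P := Subgroup.subset_closure (by simp)
    have h2P : p₂ ∈ P := Subgroup.subset_closure (by simp)
    have hPS : P ≤ thDat.Sg := by
      rw [hP, Subgroup.closure_le]
      rintro x (rfl | rfl | rfl)
      · exact hAS he
      · exact h1
      · exact h2
    have hPm : P ≤ thDat.Sg.comap (MulAut.conj m⁻¹).toMonoidHom := by
      rw [hP, Subgroup.closure_le]
      rintro x (rfl | rfl | rfl)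
      · show m⁻¹ * x * m⁻¹⁻¹ ∈ thDat.Sg
        rw [inv_inv]; exact hem
      · show m⁻¹ * x * m⁻¹⁻¹ ∈ thDat.Sg
        rw [inv_inv]; exact h1m
      · show m⁻¹ * x * m⁻¹⁻¹ ∈ thDat.Sg
        rw [inv_inv]; exact h2m
    have hmem := conj_mem_ETh (g := m⁻¹) hPS h1P h2P hne (fun x hx => hPm hx)
    have hz : Subgroup.zpowers e ≤ P := by rw [Subgroup.zpowers_le]; exact heP
    have hr := restrict_mem hmem hz
    have h3 := hcl (Subgroup.zpowers e) (by rw [Subgroup.zpowers_le]; exact he) _ hr ⟨e, Subgroup.mem_zpowers e⟩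
    have h4 : m⁻¹ * e * m⁻¹⁻¹ ∈ A := h3
    rwa [inv_inv] at h4
  · have hn : (A.subgroupOf thDat.Sg).Normal := by
      refine ⟨fun a ha s => ?_⟩
      have h2 := hconj _ (thDat.Sg.inv_mem s.2) _ ha
      rw [inv_inv] at h2
      exact h2
    have hne : A.subgroupOf thDat.Sg ≠ ⊥ := by
      intro h
      apply hA1
      rw [Subgroup.subgroupOf_eq_bot] at h
      rw [eq_bot_iff]
      intro x hx
      have := h.le_bot ⟨hx, hAS hx⟩
      exact this
    obtain ⟨b, hb, hb1, hbc⟩ := PGrp.inf_center_ne_bot hSp hne hn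
    have hbc' : ∀ s ∈ thDat.Sg, (b : Cfsg.Spor.Th) * s = s * b := fun s hs => by
      have := hbc ⟨s, hs⟩
      exact (congrArg Subtype.val this).symm
    obtain ⟨k, hk⟩ := center_eq th_u1_ne b.2 hbc'
    have hbA : (b : Cfsg.Spor.Th) ∈ A := hb
    rw [hk] at hbA
    have hk3 : ∀ k : ZMod 3, k = 0 ∨ k = 1 ∨ k = 2 := by decide
    replace hk3 := hk3 k
    rcases hk3 with rfl | rfl | rfl
    · exact absurd (Subtype.ext (by rw [hk]; simp)) hb1
    · simpa [ZMod.val_one] using hbA
    · have h2 := A.pow_mem hbA 2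
      have h3 : (thDat.u1 ^ (2 : ZMod 3).val) ^ 2 = thDat.u1 := by
        show (thDat.u1 ^ 2) ^ 2 = thDat.u1
        have h := thDat.c1
        calc (thDat.u1 ^ 2) ^ 2 = thDat.u1 ^ 3 * thDat.u1 := by rw [← pow_mul, ← pow_succ]
          _ = thDat.u1 := by rw [h, one_mul]
      rwa [h3] at h2

end Cfsg.Agent.H777.Th3
end

-- part: H777/Th3/ThCore
section
/-!
# The core of the pruned system, and a map which is not in it (helper777)
-/

set_option autoImplicit false
set_option linter.unusedSimpArgs false
set_option linter.unusedVariables false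

namespace Cfsg.Agent.H777.Th3

open Dat Cfsg Cfsg.FusionSystem Cfsg.Agent.H802 Cfsg.Agent.H777.Prune

theorem c1' {m x w : Cfsg.Spor.Th} (h : x * m = m * w) : m⁻¹ * x * m = w := by
  rw [mul_assoc, h, inv_mul_cancel_left]

/-- the whole of `S` is not normal -/
theorem not_isNormal_top : ¬ ETh.IsNormal thDat.Sg := by
  rintro ⟨-, h⟩
  set P := Subgroup.closure ({thDat.u1, thDat.u5, thDat.v1} : Set Cfsg.Spor.Th) with hP
  have h1P : thDat.u1 ∈ P := Subgroup.subset_closure (by simp)
  have h5P : thDat.u5 ∈ P := Subgroup.subset_closure (by simp)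
  have hvP : thDat.v1 ∈ P := Subgroup.subset_closure (by simp)
  have hPS : P ≤ thDat.Sg := by
    rw [hP, Subgroup.closure_le]
    rintro x (rfl | rfl | rfl)
    · exact thDat.U_le_Sg thDat.u1_mem
    · exact thDat.U_le_Sg thDat.u5_mem
    · exact v1_Sg
  have hPm : P ≤ thDat.Sg.comap (MulAut.conj em2⁻¹).toMonoidHom := by
    rw [hP, Subgroup.closure_le]
    rintro x (rfl | rfl | rfl)
    · show em2⁻¹ * thDat.u1 * em2⁻¹⁻¹ ∈ thDat.Sg
      rw [inv_inv, c1' m2_u1]; exact thDat.Sg.pow_mem (thDat.U_le_Sg thDat.u2_mem) 2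
    · show em2⁻¹ * thDat.u5 * em2⁻¹⁻¹ ∈ thDat.Sg
      rw [inv_inv, c1' m2_u5]; exact thDat.U_le_Sg thDat.u5_mem
    · show em2⁻¹ * thDat.v1 * em2⁻¹⁻¹ ∈ thDat.Sg
      rw [inv_inv, c1' (by rw [m2_v1, mul_assoc] : thDat.v1 * em2 = em2 * (thDat.u2 * thDat.v2 ^ 2))]
      exact thDat.Sg.mul_mem (thDat.U_le_Sg thDat.u2_mem) (thDat.Sg.pow_mem v2_Sg 2)
  have hmem := conj_mem_ETh (g := em2⁻¹) hPS h5P hvP nab (fun x hx => hPm hx)
  obtain ⟨ψ, hψ, h2, h3⟩ := h P _ hmem
  have hψF := prune_le _ hψ
  obtain ⟨-, -, g, hg⟩ := hψF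
  have hx0 : thDat.x0 ∈ P ⊔ thDat.Sg := (le_sup_right : thDat.Sg ≤ P ⊔ thDat.Sg) thDat.x0_Sg
  -- `x0` is in the image
  have h4 : thDat.x0 ∈ (thDat.Sg.subgroupOf (P ⊔ thDat.Sg)).map ψ := by rw [h3]; exact thDat.x0_Sg
  obtain ⟨y, hy, hyx⟩ := h4
  have hyS : (y : Cfsg.Spor.Th) ∈ thDat.Sg := hy
  have h5 := h2 ⟨thDat.u1, h1P⟩
  rw [hg] at h5 hyx
  have h6 : g * thDat.u1 * g⁻¹ = thDat.u2 ^ 2 := by
    have h7 : g * thDat.u1 * g⁻¹ = em2⁻¹ * thDat.u1 * em2⁻¹⁻¹ := h5
    rw [h7, inv_inv, c1' m2_u1]
  have h8 : thDat.u1 * (y : Cfsg.Spor.Th) = y * thDat.u1 := by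
    have := conj_u1 hyS
    calc thDat.u1 * (y : Cfsg.Spor.Th) = y * ((y : Cfsg.Spor.Th)⁻¹ * thDat.u1 * y) := by group
      _ = y * thDat.u1 := by rw [this]
  have h9 : thDat.u2 ^ 2 * thDat.x0 = thDat.x0 * thDat.u2 ^ 2 := by
    rw [← h6, ← hyx]
    calc g * thDat.u1 * g⁻¹ * (g * (y : Cfsg.Spor.Th) * g⁻¹) = g * (thDat.u1 * y) * g⁻¹ := by group
      _ = g * (y * thDat.u1) * g⁻¹ := by rw [h8]
      _ = _ := by group
  have h10 := act_x0 (D := thDat) (0, 2, 0, 0, 0)
  have h11 : thDat.uu (0, 2, 0, 0, 0) = thDat.u2 ^ 2 := by simp [uu, val_two']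
  rw [h11, mul_assoc, h9, inv_mul_cancel_left, ← h11] at h10
  exact absurd (uu_injective th_u1_ne h10) (by decide)

theorem core_ETh : ETh.core = ⊥ := by
  unfold FusionSystem.core
  rw [eq_bot_iff]
  refine sSup_le fun Q hQ => ?_
  have h1 := Cfsg.Agent.H759.IsNormal.stronglyClosed hQ
  rcases stronglyClosed_ETh h1 with h | h
  · exact h.le
  · exfalso
    subst h
    exact not_isNormal_top hQ

/-- automorphisms of `V` fixing `V ∩ U` -/
def Dst : Subgroup (MulAut thDat.Vs) where
  carrier := {α | ∀ x : thDat.Vs, (x : Cfsg.Spor.Th) ∈ thDat.U ↔ (α x : Cfsg.Spor.Th) ∈ thDat.U}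
  one_mem' := fun x => Iff.rfl
  mul_mem' := fun {α β} hα hβ x => (hβ x).trans (hα _)
  inv_mem' := fun {α} hα x => by
    have := hα (α⁻¹ x)
    rw [MulAut.apply_inv_self] at this
    exact this.symm

theorem le_Dst : ∀ α ∈ FTh.autGroup thDat.Vs, Extends FTh thDat.Vs α → α ∈ Dst := by
  rintro α hα ⟨R, hVR, hcard, ψ, ⟨hRS, hψS, h, hh⟩, hψα⟩
  -- an element of `R` normalizing `V`
  have hRp : IsPGroup 3 R := hSp.to_le hRS
  have hfR : Finite R := inferInstance
  have hne : thDat.Vs ≠ R := by
    rintro rfl
    exact lt_irrefl _ hcard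
  have hlt := card_lt_card_normalizerIn hRp hVR hne
  have hex : ∃ y ∈ normalizerIn R thDat.Vs, y ∉ thDat.Vs := by
    by_contra hcon
    push Not at hcon
    have := Nat.card_mono (Set.toFinite _) (hcon : normalizerIn R thDat.Vs ≤ thDat.Vs)
    exact absurd hlt (not_lt.2 this)
  obtain ⟨y, ⟨hyR, hyn⟩, hyV⟩ := hex
  have hyn' := Subgroup.mem_normalizer_iff''.1 hyn
  have hyN : y ∈ thDat.N := mem_N_of_norm th_u1_ne (hRS hyR) (fun v hv => (hyn' v).1 hv)
  -- conjugation by `h` preserves `V`
  have hhV : ∀ x : thDat.Vs, h * x * h⁻¹ = α x := fun x => by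
    rw [← hψα x, hh]
  have hhV' : ∀ x, x ∈ thDat.Vs ↔ h * x * h⁻¹ ∈ thDat.Vs := by
    intro x
    constructor
    · intro hx
      have := hhV ⟨x, hx⟩
      have h2 : h * x * h⁻¹ = α ⟨x, hx⟩ := this
      rw [h2]
      exact (α ⟨x, hx⟩).2
    · intro hx
      obtain ⟨z, hz⟩ := α.surjective ⟨_, hx⟩
      have h2 := hhV z
      rw [hz] at h2
      have h3 : (z : Cfsg.Spor.Th) = x := mul_left_cancel (mul_right_cancel h2)
      rw [← h3]
      exact z.2
  set y' := h * y * h⁻¹ with hy'
  have hy'S : y' ∈ thDat.Sg := by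
    have := hψS ⟨y, hyR⟩
    rw [hh] at this
    exact this
  have hy'V : y' ∉ thDat.Vs := fun hc => hyV ((hhV' y).2 hc)
  have hy'N : y' ∈ thDat.N := by
    refine mem_N_of_norm th_u1_ne hy'S (fun v hv => ?_)
    have h2 : h⁻¹ * v * h ∈ thDat.Vs := by
      rw [hhV']
      have e1 : h * (h⁻¹ * v * h) * h⁻¹ = v := by group
      rw [e1]; exact hv
    have h3 := (hyn' _).1 h2
    have h4 := (hhV' _).1 h3
    have e2 : h * (y⁻¹ * (h⁻¹ * v * h) * y) * h⁻¹ = y'⁻¹ * v * y' := by rw [hy']; group
    rwa [e2] at h4
  intro x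
  have key : ∀ (v w : Cfsg.Spor.Th), v ∈ thDat.Vs → w ∈ thDat.N → w ∉ thDat.Vs → (v ∈ thDat.U ↔ v * w = w * v) :=
    fun v w hv hw hwV => ⟨fun hu => W_central th_u1_ne hv hu hw, fun hc => mem_W_of_comm th_u1_ne hv hw hwV hc⟩
  rw [key x y x.2 hyN hyV, key (α x) y' (α x).2 hy'N hy'V, ← hhV x, hy']
  have e1 : h * (x : Cfsg.Spor.Th) * h⁻¹ * (h * y * h⁻¹) = h * (x * y) * h⁻¹ := by group
  have e2 : h * y * h⁻¹ * (h * (x : Cfsg.Spor.Th) * h⁻¹) = h * (y * x) * h⁻¹ := by group
  rw [e1, e2]
  exact ⟨fun hc => by rw [hc], fun hc => mul_left_cancel (mul_right_cancel hc)⟩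

theorem Vs_ne_Sg : thDat.Vs ≠ thDat.Sg := by
  intro h
  have h1 := card_Vs th_u1_ne (D := thDat)
  rw [h, card_Sg th_u1_ne] at h1
  norm_num at h1

/-- a map of the fusion system of the Thompson group which is not in the pruned system -/
theorem exists_not_mem : ∃ φ ∈ FTh.Hom thDat.Vs, φ ∉ ETh.Hom thDat.Vs := by
  have hg : ∀ e : V5, eg⁻¹ * thDat.vv e * eg = thDat.vv (Gm e) := eg_actV
  have hgV : ∀ x, x ∈ thDat.Vs ↔ eg⁻¹ * x * eg ∈ thDat.Vs := by
    refine conj_iff le_rfl ?_
    intro x hx
    obtain ⟨e, rfl⟩ := (thDat.mem_Vs).1 hx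
    rw [hg]
    exact thDat.vv_mem _
  have hgV' : ∀ x ∈ thDat.Vs, eg⁻¹ * x * eg⁻¹⁻¹ ∈ thDat.Vs := fun x hx => by
    rw [inv_inv]; exact (hgV x).1 hx
  refine ⟨conjHom thDat.Vs eg⁻¹, ⟨Vs_le, fun x => Vs_le (hgV' x x.2), eg⁻¹, fun x => rfl⟩, ?_⟩
  intro hE
  let α : MulAut thDat.Vs :=
    { toFun := fun x => ⟨eg⁻¹ * x * eg⁻¹⁻¹, hgV' x x.2⟩
      invFun := fun x => ⟨eg * x * eg⁻¹, by
        rw [hgV]
        have : eg⁻¹ * (eg * (x : Cfsg.Spor.Th) * eg⁻¹) * eg = x := by group
        rw [this]
        exact x.2⟩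
      left_inv := fun x => Subtype.ext (by
        show eg * (eg⁻¹ * (x : Cfsg.Spor.Th) * eg⁻¹⁻¹) * eg⁻¹ = x
        group)
      right_inv := fun x => Subtype.ext (by
        show eg⁻¹ * (eg * (x : Cfsg.Spor.Th) * eg⁻¹) * eg⁻¹⁻¹ = x
        group)
      map_mul' := fun x y => Subtype.ext (by
        show eg⁻¹ * ((x : Cfsg.Spor.Th) * y) * eg⁻¹⁻¹ = (eg⁻¹ * (x : Cfsg.Spor.Th) * eg⁻¹⁻¹) * (eg⁻¹ * y * eg⁻¹⁻¹)
        group) }
  have hα : α ∈ ETh.autGroup thDat.Vs := by
    rw [mem_autGroup_iff _ Vs_le]
    exact mem_of_apply_eq hE (fun x => rfl)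
  have h2 := prune_autGroup_le hSp FTh_sat V_fn Vs_ne_Sg Dst le_Dst hα
  have h3 : thDat.vv (1, 0, 0, 0, 0) ∈ thDat.U := ((eta_vv (D := thDat) (1, 0, 0, 0, 0)).mem_U_iff th_u1_ne).2 rfl
  have h4 := (h2 ⟨_, thDat.vv_mem (1, 0, 0, 0, 0)⟩).1 h3
  have h5 : eg⁻¹ * thDat.vv (1, 0, 0, 0, 0) * eg⁻¹⁻¹ ∈ thDat.U := h4
  rw [inv_inv, hg] at h5
  have h6 := ((eta_vv (D := thDat) (Gm (1, 0, 0, 0, 0))).mem_U_iff th_u1_ne).1 h5
  exact absurd h6 (by decide)

end Cfsg.Agent.H777.Th3
end

-- part: H777/Th3/Ord27
section
/-!
# An element of order 27 in the Sylow 3-subgroup (helper777)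

The ninth power is computed in two steps, on the stored values of the words `w_v2`, `w_x0` and the stored cube `n_y3`
(memory of the kernel; helper129).
-/

set_option autoImplicit false
set_option Elab.async false
set_option maxRecDepth 100000

namespace Cfsg.Agent.H777.Th3

open Cfsg.Agent.Th.Words248 Cfsg.Agent.Th.Gen248 Cfsg.Agent.Th.Hom248

/-- packed value of `(v2 * x0) ^ 3` -/
def n_y3 : ℕ := 0x91a1a80616929a514825a180596908282a951988494260484924809668295a06484696904412141228618844a0911a409112694441996681242112a629a08144221a66181982a86884aa1259151200a890000659a102289420a98048a408a461111869640485a4a40260a65a926aa1a46220458a088286949800156a110568900569682194a2958950854a2441264144109a84a8655aa4626415099a660169852204524441981595596592625460a8800988000000104618000024460a61994449240a98191291646408606a945a8698a9464902a65a22889a562999852951aa50a98a09125154960986aa66129a6aa9a058228401a294600014a582aa1826096aa9854a20a450445001296861aa54a18a6008946a5194082604051166a69111202105922242164a94909a6a108a42568a4a216210825562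894404800890185999a1684219a049050aa26044a81845a06588491420691441522209a606a644528899220a542a0651aa5662881a1a5a81062566a484822a28066841405a851966449658228086a624564682a546a8959416104a6958a950a5a08a202a522002596418a1054568224002191905615820262598aa21a10946229a08682840508a802616a92a0009582a199860206a04522a5519a5a40424461685224a082a25125a252a245658996599609906aa11a996924645402a4691618aa045011018688458082a15151696a0594a59606961aa0a228054400164294841926290a61420800a14a11a419a18144552296046598069016a6696082621a25485a56986680a8056a569a92184025a540981061040256052294a46864a029950240a00119551a9849a8088688101851098522954695008545109a46085816a4561210264091580419565629a88a9a58884a102221682995611521946615000114141009205a9105846649180555a98650125102829a800586986a001a51995490a59258a015a6a0814422205a6115429045a22a028a8801802451104a95941996280a645649485546240968221aa021a640a96845460aa94245556a2189658994500689a401695486645260558280895a4158a41a25228902a969a0aa99860a8966024a894aaa58a452281589485291a5406691685a5a1858464a0650264a8419402929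1945465a416a2a85050191664a454494126590a094925a998195a45616101959145529928168aaaa5aa918466a54948856a52a14896128690452102886159841468594508aa06469816654965540481219a868266119988600088526802a9294a0a8a65284669048568948548222058482618864a655a414695426116021640064810084a845508581a0a42810482240a6851a496a55081259680468a08829a9a5508156a109a612921955514904089091220295562565a969211224920844125940a120606a1a800a81a0588000a1215462004944a0161662890281290601899188a86098664504a159500045261828a48089515aa219a42125a1625a804082691886440224610556095a4420916056944505648542965996049815840054a4656a18a02842651249851a481556812041241a19a5826466562258956449849141a2889a2424928a484859869210490a4826541689541492964892a909a188460595055622242561088a828aa5948484259664142a11aa958912a9a022a648265045825958054181460aa6650a6061851855024805aa4182045850986a468aa96851a46a549244281216a1821954184242a88666a820164a944459161524912a05819968a6949a295910884a18989010a06402815056809162855254a526992086a424129a9aa0825a5816810a54a464a28999894510a20a95286902514589006490a65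1a2050aa8996594559526aa1890114822a981449a6902269296a944290a4a66a020a12a8460a419a55a0a896628968956910061886a51100a118854568942009a25190689822a0a2291228142144a6244a24455aa64042669592588650214290a6991602a666aa8a8926186626a9582489a12062054165a1441601284a0a89a9a20001525051162114281288591885188a88a64961146145962160416469a9a8481a0529981a2800a4949a015a21164892aa6926a62020529058186040a18860469255006a144029aa25a1aa422268200908922962106285896616446900550666901949148281a1852091846a0a2814208084459a44411a816201254415884a2198a9a516a4a51a808692a915280aa250924090420a4a294601229a02a469959a4aa021444506186554851402444491121a9a012982a991802a9968a16a42120059511884519809051295294a61a04928159112422489052506942410224116424a10505661002806a880042015450829a06402a0999215882421a5824a2a8598881006428a8190449106426aa01254221a895914596a88062a12aaa8194212851a146900099685019828422856a2068550a4998424222910582498404655a0521112206181155941865a56961450629a4a495656681a92a8808555091540824544a49012655aa619950040a009248061668aa05a08a088808492049a54441a21aa929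094284969aa0aaaa8642446a2a48198491008846495822512aa8062841a4805540248a4041a0112a8a15825a6a260696aaa4225280006210881405a25282a55098a6a6085605988a99aa1266a192a0694622069918112629a5844281851684941004612145508504249a8925210184068859a0aa8051a948a449200a1a25821525652251954251a144829558929a244069241aa5a01644a955a064404510046464650011296159a95a116252a862a1011148056054494191682951149181a10552251686414a01621486aaa0a5a1aa4885460849826102165484a596a90a24984aa828210a129466128644951101a209aa6608500848906089064499045569048462414169408940049514184009144656a4a562290481290091aa0696895946859029a49921a894986989180a24022161214a55800a9241910606aa150895254822918119aa416890a12828aa5426596155024640594548066a00989211100652482658482642546065818955128a298a41890941865912a66514446a68818152a28688646654682684a5555818095821184889064686a62042a61a0504a6961519a01895026a6818808659501a6990049288a2248185a6622445a2a44555042554224155661965412a61156892601a899621a86689040aa64616aa8a9901640216910908009962a90281288695291188a8462526654166450295090a998168882a2a8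462981586245614298556805455492080a51655215a05a4a2a61a54182691a18a2592284a464815800694944209a655804910266a4990551918a96505aa0904154566890a124601921699999212225608946066a582169252056a0949a4520a96049595225a824a2a522941501229019266a9464652a04451129414090a2a90468a1a1656125552414a4051a18544002a1991951a2a55281565084aa51944806a95999820411482655951a1999a665a626154499658946008020241068a584482028418a88a089a64086511a94461a69005a146aa2426a5041416490010000001406890800001910042668a95990292a28685265a46a259205811a9a504120a4a25248466002a28a00886a6555086a15aa49a621855194a550551095a922166924a0100005aa6510496000968621255669580111192688229249519a054a15825846a15528188a6292a9296911649a94621a915516165662aa206055a62421866696569a21481546990625224658554655828a954a082054a0581622088604126956069009006086015900956849489008819a0912969025092969582586210852a14a854a4264402a94a80080644022a59849425200492aa289256824959a9541926a6454862005a82166456054aa10928260229042615169a1209188895a981689228099856648a00182484851252a248a65412aa491451a1a0a9521a94060a488a14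048905a550612994404645a4219904a5a4892029489018a95956112648462109101261869a45042a52444208206a9229058564248aa922528980a522268259292208a912521218899096684a082054191415418884846a215641568a9581629a5a852a950a1402215445a442545a01254118584825aa0951481a81644045549a9a64468646242040524616259899921582a90898558a14a46199a1a256885a96a6180a2a8910a11199808a5a02a96a25048910196611a525182696129a5025a562680846a88a4025126424a90486a9a0982455422699a926a109a582159829014a254699896541a56a441a56a5915545894a08494960008625000a902a25180a02a89a424514aa666969896614198596656805a606a051596465962a9665899550456009690a6594a522a5028a6a8619aa11a11129a24a165566612209188888565925051614a5559806a46146a9a40445265129510294a2a495a58a9a0068899611442204182492119a096641852516810a958040598899a2a26226610642541046015099484191596064488a95a96099a846a5a49115094219524151825288921a54a868858946414829908926922149964a4a99695114a50162516515945569501025a516915a09529505545819410895a405180855aa44641089648211052aaa81a00284420296262680446644415a02622a4065819656161298689211526986a5a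19124999a915828a18664120909694656a9986612896019546109815a895a8949868285441258848a68954469096a494840a22825a86105a6525505095418595451a98288615220110162aa8909582992080005a2821864aa99624908492041829480858900a20aa56a61841645542028419905a560a95028640a016a5455a60089408668a28146a112919492128821010655921169569825a95068a9a9450526528046249616a45450890a680a45602996a5149a825914146a550a55129a626292a5589528416528a1028665495914a149242a10500101928a62964590656459aa5488a16a9a46a902a15844269028208a50446a899891a96280a19208115215105826608489441a6009489645668415a0aa18808a82a10a05985a2a5245650689a6609a000481209688491a18a0aa55a529a462940410888a4140451429a4444201a6a196282085185162261415814200a88028a81a49100589568655a205948568292526a8a86a46242a40122120040208850651902a4020a219a456855968289266541609690a49445a6642228162426529a11a86104444526066451a204841556862096a188518855902222995a159481a09a025a4120a94200486a2148221269588a592918502115216a504414286a5a91a9240686490aa0961611149a8409021a84566244666a059250a58a1419652882a0562165a5291506100a62aa80a4049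085696252a50a252a24298a42640a29a505066619269a148194464a69aa9a60262486408511955114655084a29222185445012926456806a0689286684112409129a610055595412862208608a894646451001912a259852484a051aa5a80a1a161251001500882989a961815aa0a42654469658860545811284045965a21000988845545695a418191888a991810a121581986010462106846154222a40092a9845a2a880a086949950604069a6119816569065086906608a50125105a5650aa90a995865622202410512112955658920888145690186806058216980849a10048a2a62219196056986226202a26949494925a86142a541000626094194990a856165259826162542540859842101541240a061256692a8a26991912262998a10816909258188aa9a448a19548141058149666218aa04490926468a84aa24225262142a88022a0941224a605116012a942448554a661602852a194651512a96884a6448414482810a28066a99659514095884a12924488a52659299a28a2881a61141a640284684a5a6016a28a8a514aa26656485108a1844162912486aa10951aa5096468910199894522980480a04146165228128a86a00aaa126669a1a5142181141629651460a402a89225a82421084521a0558a85060626654889a126152a655095a969082902a512282a065a01846985206a61a26295866251a4122262400945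05545612569a524481969469862244980a962886a62606661268a106088082408a198a120644609094821425422164140291990986984942a4a00909696204522a2969548485262659429a9a1455140aa25245096261556aa8155a642051126846a98455299a1441549945116aa8a06a9285826589952595916491229918102825a29285a08200488a022aa4006529aa95242641269a242298a04a515258424981a4284029540026a1a045456902656a480a99896529818694409989209851025920669086952a52a46a08988022669526aa54aa186415981221512915a2428516549509542284508949a0296a98810126802865286096a495641a66441a84425a00415a00864a546146605a911524264811546194869a44149a6646502a8186450a1065a11026aa6a20585124291888a9a614924152aa86159646646608998241406056010625068a2899991011a426809105510852602860a1410a2242a290014012455696555aa2565a6a54602606246906046aaaa22965016151224002255a66894969246029625114966a5986426050482929a48081969944009aa2249225a6888550148a9151661690981a41564691842aa006989a5406aa9910a85669618a4a01a1a69622a554104244062a01950590859a8450821106184a60660904854828842950614080542a26a0620801a2189854429a82a2a62a628062148101026a54a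064414a14526806295a82962a564295094509a5006a8844090a26a8264154559040862985191281456525856661aa246a85aa5251a0a881a904598568006685192219501a8289009449215812a842629144858aa299688481259922954415595909648212a9159890228561102aa21564451a542216a101a081a196881629258158062a84920012a0aa495941a101012111251a51289896a5a05489a4288262681aa894525a88a96161620984920a48151161159a52695601060905146816828965a15090562545625aa9560452a9614204aa219668825040912a49a256a2810200025004606644a6422026290291a0a1881821080121699004a960621a829122996291998a8548a19160a20045211002644286201aa45a555450044615656022486a58049044969099529aa1a29446680a6a11189aa29812590419650aa026522992850a4088a450266a452a90898504a0285a28654856251015428001245842294595549469011651210520985414852a8946125a25560996a54a40525688658116618046015011010a00266864a02aa1a54a5a041a85206620008a688446846028a60588446022196221555a90911424108804084a0682904014242aa242a2444058a60808016445808258214151a0461a8914886a54a084696199a0a9290a5050219489490a200951824a6608a2a00a9a84a68869aa159209410982a9042581a115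00010255a00841086088a224940694921921466580198a0466a409258556181485a9191156a6556562005541a1465588594886161a8069144891509826a011801055a215556955a08a185841442658896618a44988a6019558658a208594441188a141216946404120a8580009a455a080001411a54a95124a8691822802289a6a0144858016808519a9554285000988101116882410a525424095aa8894614519a29910a926060840018894059128a45089219aa819a04641561480896a29a68414a56111518a5256295464521a615919692a18411685880442a6488814a6696081aa04a51990226499225aa186a1411a491a2028a224559a6a0549469a9aa41a01265681669029a028840584061aa5298a941081466556925804906a8496a254489aa0a62a19924516a6446120219445140a12909106216808a069924689a194258545544a8111229a8215588061289249680690a1a212586106614522996a61a9050115a82921181266a698049214694895a6065a49929a0121064a8a1254a6292a8a482218a6046564a5950080a042a90555524946961a1526a51a21009a611002196849688999189460196599a99965a652098850968686a668a482609a160120209016195069aa504a482856122595242a054985016608a5064aa909288215526819108582a999886a4a2902480656a650594809262a28aa895a98a0668600169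545a88510269992125084446a5580944a65a5860595489a8228221a9a960566050101948444408a10941995561a62981084168a4510228aa81806096aa42949406422120401068a102088110a164a84151861a1858a26561a254295a126060814421500606861002920581a10842a0a58a190024069990a42584858a59915184a59a55945566599226944900095104a465111990a9189802529989a4642aa22800899251944a505595948008a8914840812522209025054a998912900626484866a642a29685a84945659252560486404891a61854598a891994a15021929551652a648455a84928524a58456a92690205a1a616045562aa288105608252a0680665a5112910066084a81618410800985111a0699a169014a9a140116699164911986a8861951886a205a996805054aa582115891455045a9800415649025881495644816845688a40a10004aa5015210466451968040006a618814402409a8aa8a64411059820625420a950a66992a2a0688890426a564564955a609098881625915a168a4685450919681826556418a0900a49905605594619a120624a4422a26528514554092661419a6909a26688585aa92258164aaa914116886565124054a259a0215a41612a01964a689819562580501556a8a8812580802a8a0646098a5524450569521aa650206024969020556a5525a1568898015022514989688928a9805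250645a8a4011944995a6081819511455650a02a84695584899286889aa91966a0966641991242189984455601859a8451008525a558190960a046a0055191804004482a821100119a14414a94a916818658299819520146a464120206656626008a6601a40a600064590a8164a85a059955689855985166985a94846a199208125889a6190aa258a1804559066149942a52022454489165498498480aa86a455841a4a11485520899686244989544116a55824469016852469aa44a98a951106248622606252211599151194a460201968441150856252a164a1206614686944415a86a489496a1142a51a484124196580600426a2911958210192018a66a1140065a994a0182a666549a8600a5a4112a596205a8405a428a04215810498956015422100904929669521805612569255a5a0685a901a1a9414a110916844a14666688502152644142a8a824186240004491429669484409a1084a005866546422a418909294069018899261a8264a41599912221292a1411446825469411816a661a998a895194610102948542542a014609921a864a86a1098658a6169a665686501159480242092146944056681558118410aa544912185988440664252999681a5a558048066880860051a248046986a026451602606a446541082885498821989428856621644029a85a5968a98821425a81949112a41865649689018a98681251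04892940a10a252495228458814a928a9240646a8918599864455a085a6a50181aa419952540854199a88925864582a56014814442a9a884198654226226180988648a010a5281a244481562850a429181521289a5586650844a592580162a5a481661206a5a0a80159461a18022885944110264198825099692465941606925002948282a41a9168254a485a16546612152051a1916065016a5641960459408090a6188951555568188a5190aa0146225095626a5048482682814a0a1a6a2225086aa4964a4881a48086512914600959626a806a9562058211622aa16991084444619091861669a62850a4458908488406a948a22a506280696824218488aa09051a64a1212a49a69291a99268904465408819aa1854445991280969554196615a8094a88825444104654909464296119645980596081aa8a2a09861a1a66152849566850a256145860061244424a5190046a90121829222656499082898815184801aa58018118411529614860090a6510061a42286480599a116640242410518560200546586a5928566258a6062998050546845aa50952a268019aa88156209a205a8622005956429902a91051aa4465aa8a4a6559284508158209466994209541096499922580a864562a5221205298661664489219299a290099289241a10a456964a64002aa06028849026a6a201a592111411a6855a2894049a1a046996a500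941501aa911658029211211a24885a1a9992aa8542412a6606294a16aa6069845a81a04456188561626854a86a880618a61951905944a52998585446955a2a28a66519a5a14688aa49998a0464155216609690918162a4a664292864a021086954029695912200292409a5906812191914a26559891652269a8aa81656a90821151588a11069a14959542410a668814955a25a004920a421928216816a649a8a5454965992524849a0455aa1819928696901410012a091166510842124988a681aa81905415480a689659186a94540861124821588864580a25688908294806a400605098698211861011a64899428104261aa915828959252a5541565aa4a9188041a84825944a9510294609a221a95699992aa40126095aa15aa829044188952942aa4a16980664a682124a881914a4a2961564112610886a26a184105526128601248598a2a9a02618586956280a94a01046a52469a8828121190196695a49881226500a9908a2861996502155a6561896960520680094291a800426048140404a2242a05698852012569a600552849a4989a5205948a99121522595a9968a5949aa6185a509222120a524569825151229201800145a441545598a6852965998496445858990066195a466814002242449665424a9565aaa1991018212404805054222a854168214855215a69881a9485506682a8694402a1262a900460592441110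5091989842594968296180628622168004486410a90900044940210165a62626a84a18a648a941880294218a9224514210991544a451808868225609410a168508a41261a4a66084456859a1a01199a06429429899949a924a522029480480915588a12aa9988a2268215888598049552860504428552911660208655199a4a194191a12a11824659599140556169aa8a985a602964219a64024820888a8a85056155950921648100561954a408a16020899000640504a1892646a06999608805512061956112560564a9a8a9598458500495118618a2222a6481615aa516aa688052485008a85a5a014429a61644284904a2249284545150054a8046865946a8a98a998458a9880a90a44915294242a09119922956a94a12a500845a095405101501865604051419a298124204959644551a15088269189046486220260269202428818218968092a966064664a91a94540a569a14406581406999a06128696aaa89525116215682191a2a846845aa4884518a6451a959824a199a1a686541452a158a2452659aaa559529144142888406251a48190105042aa4a2088085682292a65a2a6299919642a0a4568291a906aa594a25a65962909900081456084a694196044254690a02144a259a4900040160982959a948a506265498a8159086a551145a0a81609428955a010292a9866a268a460515558a0228410521108659925609a1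5a50a4915542a80a25a9115692855008968895a0a415906882a625059958505125291168a42aa08a92a8109156089982a0a851561998198888a9500819990962820a40085646090028680a91956256021856a8055018a4695a52a08526a49a58aa9a6502124126098595459a860aa28901149621551049a606142aa04910a6058a999540aa61a055a169158a0849901689810891a800015418061556a18498090204010415896909582626240990480262aa0992484140a995a04a848a200690584408608aa956445821269a94905455666a9028625a508552420210968952445480195a69456102908525a94a422a5118202058a465160825911595628a48299a5a862109a26a5aa05186421908601202a69058608025a966219656946a254695982188052594199629280800a8a0098a924980a0414a502515400029249a0494646409250810a821461066012404802088685022888a8415208024a100a040004800a110500a8800001416001400009644461648421a25400480956008040811654595995506664494a20054168525242a2a90aa2040451a19408269864a228a8469a5568a02285508aa188659040202895990950544a01a24581a86996a58524040258a41882a4294a8a606259601891544a6a6095a2aa89889516a1241592420620582aa8015520a0169a98496848128251200648aa1910420582968509989a9152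06461a11850569569889a081420686a555a25928289464aa68a165955580202284125aa048659102599884121698a488a0889a8550651586984995509626049115548a5459526905164851a95a844469a21a5818a062a452a25912a42619119540656022205a06404528625698515a0a48061042952110480185a408959a985a028895a629086868124516442286188446891088191202554451166810814559629a0a820245602a944151860201519110249585a99a9681149aa65a1644a86a5145a46849856a05092499546691914a596211951624290a8a051540805a459166861a95061848011414668091996a55840a58aa995a8556844852a1a082466449406821484410a9566162412199a58016a220164084482a816a696104825a81096a864525204aa8a96280684a9859661512a085aa462082aaa0054020190916520140019aa64146202a81065845560120056165a941250898858a569544aa4048a402a25a0199816a495651448646925582149454645820842969061621100911a208014659618999800604942a945a491486a81a4816245264a164291042488500640541a02280850861655921009202825418561016a0409598225886494416585928a40264a0a5884a9850814a68a28056260a9520890891595a604466851858aaa98859689496506a8812944aa4140a9541550984004068614a1458915654a96a8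8681822951a5a42042a180210a92aaa8a0210a5a89609191004a856928a49182680a480259441a05a19569920142050461100188654008940a299049510a1a220a542114999569554a1656890961655a68809256952492185a284812925a09068a20a2506980020821558a1556aa061219a511611a0095625154116a8918a12186181a414920280a6549161841190590615826a2a59556964a826a065a81969a9180652698942240a4996065a00624569459a48620222055182840511a92011602a92a99156a90515481209584545a9944165a99a4506001a5229686a44068412a6aa0828a455914a994089214691059890514969a660091a4014289105605a6aa28046261005a4a26585898644211809645096a88a4908959425a8564821046a99aa68664210a95602588aaa042429a2589a58021448415916200558a1450a51509192896a851585501650022142a120492611051962020aa165a09141a99995805142a686221a0a0201406299a29814658a9060a55586a2149a9524012242509598216662629608052a21a651524612956485510109921a86406040a055060188152105894a0899546010a18652a22988a95218525680515186886895596699442221640661aa1662291452689819a9846819565505482159598411aaa40604019551404891a14992014251865889695481450586a1a595a9219989a80519954aa986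85560a60899942665aa196a866a8920661a0021658908281409062516900029a1550a56652562080699aa04080164809a428a09a80962a5564a55816669651159982aa99a1849a642441508428a0a6640654a262a1a56589849501a4a606118502962882410280a50641925a112a9a469102846a21545856026aa800a696a262525042508184959465525611060108864966541482954822148602a88a995464a418645649919164a25851806a499898a128581091454609291692a2a451912164889946048a1255516016410496210995a9a9149891204991169108265426825581a01a85a211a64840a060610095102546a8682021a11911a666998662645608154609229988815869a8456051542558a440894890299a8062a5411100410520914881966944a8a50584999249854a16596999064a0486a408112906211194814094249229905694a952a40a649496825522601a14565696015294a242924241085969986a1184a84115025465a61a049861922582a8a2a046084a4a14a98994905058282069948a58aa868950aaa191a40092164859a629162a12595486959065694658050122499910205898aa0165291a246488a54a109404488aa59949a129460191850204a420058a4a265111a655901a18929aa5485a6994641040a0856aa6818510a418a5a592451a15a251981a10a6881981080690554211921082a056a09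69a951a8a8096499a559686a9a18985a2a55a48201482555866545a81a84194699a9a1a6999a894a6964496250140182612658901008681a48042698929561024921a046562516408a6058548606a2655515242a129a01846460968652699aa411518aa50928988464929a488080a1169a06a609912449219142a61112224a54262160a129486a4440a498aa4894a195801a699095a8061609106951086841656126241062208184549609641948540209518192aaa81a5a28066996a85089a14499096814442206a851566a18554999856262569855681615591912a19a4411850525150026a2829898295aa92682804646060961a4945501a5285504219169a51aa806266a19a4510a4218510aa004a5550a81a694595688962026910a95612a2a26845022aa219984505511866444415444195612119aa9a044501aaa46956a66845042058424a42645060a4064421954662684a161a96a16409422602189851a856090658406961699140061111958aa05aa654140a42020a44485689a58456580a0452440420215a28049114522498008585619a948996446951a562a62a54150520805548a14a82a5a414a86290642541040a82a698a6a281646401228550404a581a1696128640125904918691015024a64986615405a651211a461a8541a26218226a08910266261aa46a26459946146281aa4642a159a885816685a1a02a2a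914121644411919961548859265256a9a985aa804a1818a9a22066462512106088018529294155128542aa869961041a8a002a692a501558590a980a82844280888a0a2a109a6650a1961688285529126a21200a8404a1a65a006812aa84592269840694692524454604806014481622a459646a905189584500468299845486495081844a84462962596659900a622840a860690a506512a869596650251280626a596041018a5581a8046915814592088412280a8910a8189259220a456885a4264854a65410a22a900518928a9654952108605a29119881562610448080555912084944128298189025545065154668929026814a5122a540286142559a019a4144929a9415a89a2a01105808461600509824244a00498869582a59011a4985906125006556a969928011225a190481162a54606668a66996114180210160aa90582296994a582098622648449591215902615505069a8555500886245a2a0624686a6260828881882258498164124054a882a0899951495a5696a444085506a8214159256a0a56a404a685459594145628aa95865a1664906180892841996482a65010295400511656a5a69a456aa20666681a4256605255480a9995606111824818550001940666690809028864429020851a844048569148a66168509586204aa445418608504141529158904a1556625a505a22905a2a6526504289829961665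11281192a920404891212806a0668221222928a2a224a2458416295649042588421985a68069866a995202156556909684a89582a60599158a85a50901195200995a59288a01191614a6660226a21859469590899009450648a24400255a609525940884008090a88008124446440045884588118194186a92196900a91a585a6288668a9691a5a1a09429682a48281206524590989846480958a6aa82884598a992585529499a52a090280950802a1015552455aa95160089a224a2915141811091a6124a8552422182016058585282506a118a058001210050212851a4a0681069621428818155aa1a10965a98828904110a8a55881586a5648440862a42aa829499a240914000aa845689198149aa04220a48a02a84826896458225a5a888805a2685805515822128545145a9062165088a2a558244a0681269860860a8a8046a1454825980516609a5684a81526a4612a555816294a694014110450908aa552984a52a88169988112165658449511195a086a8600000169155a01161a04082624491a2501186a6290500556401468698a9411698525515116584494624124a85180929a625552650964920448a15049694551259169819854aa811a02a599a6626489242588941929a1184265606a9059a6a42628a0a06059225506262696202255292600000245a12099509554aa84016400126210196908001529884a8219a160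90924044118240510820404481014a46490102140180580000062006440000000000000000000000000000000009a814240699a2851848148440600a619968a08082210068610120521086004044480111a1a5488404024422018800008000000000000000000000000000000000000000000000000000000000000000000000000000000000000000000000000000000000000000000000000000000026555901080069a6a8a292682186a69121a22152414229400210629851582248aa096a14688914a9a5886aa964900658a89845442a521625085690064150a222a8201054666222102166a009a0a098615a1286569951141919a4816a124648420816861a91150105a4252a94212058948405a68158461686a014166664522580882099a4965241690a06a26059001618449a2409452a622aa2911925598142a19160a2a9608a694952190866682622a485295661491198a840980458460044615aa898a56aa10298810a0188888612084100459196014625645581224a818290456a508a9128aa45509060a6469a625a11962a1666685a08606a209085024699a2482842449415246488a95116152829a0065a9828992a40099890118a0a18154889142a89469516a04514281912aaa4251849a4950258668060a2280926919144090a69222882462a4565452282059069a068656450aa096a5a822a5821624aa51451229a5a0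654a0814462661098845292208499a6a92129986041801650848544655a808265aa542422964588a1616a14a5011181410669052a2466822252624564645008519968188866a4641820816046415a60a90922860465a29282a616856a68868610a29809a88a2aa50600265a1aa1082566081900aa2825640614124190295648668450164890989451629969244a65880aa46191a155448595a00a98228544591a90988468050628698980aa452440016256218146890008181604105844140a2868010640245a69292968849484002098288626a1a9aaa96a9580699260240041200012a682a840586901559666929019445a8a061a2098a0a88945419689a140001a54150046a164424a22a84624aa41662a014916100924225145a6228120a444a506559a590a9412465208182260a8895641044406924965026a904a4a90221a202552a542486212a2865618a4086484a490882825865164658a64445458a512611a920250454646a444910a24a44a21608522541a00895015a48262059912aa2aa05554922586aa255194aa64592626515698916509156106692064521a429a9081052a05a6661118865258a6295588a0506a60854a2218a995161169421812516065198862291a82159a0a052a669466a019616461600a115829018a45519102082644a120aa062a251484619449aa4221a04115289a512246098801aa455a6a59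569a1189856425501895884451040a252065021825161440a9a60681186aa85214618a0424541898a0654825849564919645005596482502596540014162aa992601a4122262a8a0180a0a908411882518a8a546a192466691916121a65549186506809a4889a299955641a1011964a90111200a885525660a28a409804980295169494102102081688a15a0226114951a5a48008586a20865a811455428510286022a80a598464484a49a2010a09a89a942108558890a86240a140a85412849549801114a896922465962a508a5aa0261525850510a5902898aa5a10216a6a814144445a8191695658a26046965026026048045049609254a62a8a28284a1a1005052a14a81982a22464a8654569a861529520591a6164248544042129458124a862a289a590204691949152aa24588801201452612898510a42962088a862a951201a00a0409a94081a90095810118859924aa694a04245240a2801418956255520a1a8aa46250409669406666451655048211882a808991826166428621891819096015295591844aa09a0a20a915060202a6451451021a6115990a986822158498546aa8069088524689919005959411a29a2a08a54116291910046549a8a009201464a9a2651015a422a6816925588566a054809020a9426a18654626989640865014428046295066980200619a1065590481162a65a02510a2040061908655210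1180889591985686890a94212222648285a119290489a1648966186642229a62610a659248520014894458264406604525562a8942600901a96454a1600850868102260559845692104241a1549a4a1196a6a6a29464a1911191655aaa54644a88200a01505884895111802292061549a16522044909448a40620a56a11942a66a185a8985862465a625604420620a986560551895a5a2655aa4a14649a4156a9166048504aa69a19144858a46452aa2804124a88451695aa81526590048182428269999a29281520026aa8658248542a58a96a48484a8419a559591a9a2260821981a16948291951098921802a4a8aa890a254a8920848204802a40291195a8218a41412a1286641258228a8a0651a241a1058452500a51601425a2a6420144842a24916aa6242a24559a525459690252a85544849a0194061a86a816854a00666a0aa21914825698988046169256929a06a494524218640486a1021a660651958041a9624466522406521800184511619a004616a88a818a4484291462041460a01820599452402889a29655a245462104a6892815241854692a40a46021654691501890126156852891828159a85a4201211114a0aa620905506582146285026a1898a51195484a2984a680206168086952590160059296aa8880819290945520a52148158206981aa1818a945162225596a9190566800825a445aa4a81444060a4a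85a58141a596062a246118a6809a684a944a242119696aaaa24924980860a55858616891165a55505a02221816aa9892604a290a520861a16406805681406088a426121500154842a94825a48898968549444a0182a5994014aa022020a20a10966482018094192220a565092499858522142a1a919a0950859168969824299a0a9055482806a8854455608405249aa006a06860518486a452aa120a2420159589916049611a99855048465198551a26a14a8021469a054904825922845a48624942a051440aa44591094412290514291aa112a5645a690012a88a59140890988a91988460a8060522291564660a99048a6920846828105a02615405a98445504050641244aaa241599890408a25088a0a4456159a2590146111a9a6894861a9664901449961158245a599901548854a0aa28a1a461549589854600100214a45296a25980591aa1a859a4a91a645240a9229200425940246296459969104842806082a6902844a2a1118a6a4261466604000119166245255140648962901229209a8445805a2114420a61a4a04520069921a0592a981691112612966a61512286640284269564915864919845658512221a52a5482a0498226599202118866199545a4844aa8484a8445a66021a21129a2210212542a251121495a0a9220996299990a265a81595549a945a48495892a59569259a556a6281415656a4858aa845544914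01099052a19891489296a46894456255a648024aa45066282514895a06a044041209884680148025964892251a6486186a4206542142aa15a91a51a922840a0208895002982506882916695aa9588100926985555964489852558220962a624aa60a4109695182828a6a186010aa55a069816560262581511494844240088218a25085220a66a5808424a429286965889554109625518525044995548a5a61149092019914a882915565111428255180a81945416049162804215100424568892122858a24496252a152246166528a502469559a64a90264464984641699914650440552a61125188668150a42516280128211a812a164558542a8284908642146895194542016a196895598404181121489a80805689405192885a5599420a96482488961a599614aa690002149959441a1121589226a905425141599186145651848440518600a42066666a80a6064900a05065848288542660809462405a941615208a8996095545241115a289990848a8029a115862288249a4920a845a128489a565949286aa68085550569224900411619a88281261914480140890a595a501128856142252509a0541068058a00556484460050a9895952682652564449a24529261065a142985681610151685a464689590908012661201a155481a00804666446924a6a866826108a424059020a86005622616a4469a1a28916828009a9515248aa2a221a29a8901a401a8a6265688829412855899916222a44562465514545420222a451905a59824105a502904522965592119990549a041886211956512055996566946211069058802581a9a9296982081948a9415a010926922115a6429a08589a84852016668405829684642a2088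

theorem y3_eq : powN (Cfsg.Agent.Th.Words248.mul (expd n_v2) (expd n_x0)) 3 = expd n_y3 :=
  Nat.eq_of_beq_eq_true (by exact Cfsg.Agent.Th.Bit3.yes (by decide +kernel))

theorem y9_eq : powN (expd n_y3) 3 = expd n_u1 := Nat.eq_of_beq_eq_true (by exact Cfsg.Agent.Th.Bit3.yes (by decide +kernel))

theorem ck27 : Nat.beq (evN false (.pow (.mul w_v2 w_x0) 9)) (evN false w_u1) = true := by
  have hW : evN false (.mul w_v2 w_x0) = Cfsg.Agent.Th.Words248.mul (expd n_v2) (expd n_x0) :=
    evR_eq known (.mul (.at .v2) (.at .x0))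
  have hx : Ok (evN false (.mul w_v2 w_x0)) := (evN_spec _).1.1
  have s9 := powN_spec hx 9
  have s3 := powN_spec hx 3
  have h3 : powN (evN false (.mul w_v2 w_x0)) 3 = expd n_y3 := by rw [hW]; exact y3_eq
  rw [h3] at s3
  have s33 := powN_spec s3.1 3
  rw [y9_eq] at s33
  have h9 : powN (evN false (.mul w_v2 w_x0)) 9 = expd n_u1 :=
    mat_injective s9.1 s33.1 (by rw [s9.2, s33.2, s3.2, ← pow_mul])
  have hu : evN false w_u1 = expd n_u1 := known .u1
  have he : evN false (.pow (.mul w_v2 w_x0) 9) = evN false w_u1 := by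
    rw [hu, ← h9]; rfl
  rw [he]
  exact Nat.beq_refl _

theorem v2x0_pow9 : (thDat.v2 * thDat.x0) ^ 9 = thDat.u1 := by
  have h : el (.pow (.mul w_v2 w_x0) 9) = el w_u1 := el_eq ck27
  rw [el_pow, el_mul] at h
  exact h

theorem exists_order27 : ∃ y ∈ thDat.Sg, orderOf y = 27 := by
  refine ⟨thDat.v2 * thDat.x0, thDat.Sg.mul_mem Dat.v2_Sg thDat.x0_Sg, ?_⟩
  have h : orderOf (thDat.v2 * thDat.x0) = 3 ^ (2 + 1) := by
    apply orderOf_eq_prime_pow
    · show ¬ (thDat.v2 * thDat.x0) ^ 9 = 1
      rw [v2x0_pow9]
      exact th_u1_ne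
    · show (thDat.v2 * thDat.x0) ^ 27 = 1
      have : (thDat.v2 * thDat.x0) ^ 27 = ((thDat.v2 * thDat.x0) ^ 9) ^ 3 := by rw [← pow_mul]
      rw [this, v2x0_pow9, thDat.c1]
  rw [h]
  norm_num

end Cfsg.Agent.H777.Th3
end

-- part: H777/Th3/Exotic
section
/-!
# The pruned system is not realized by a finite group (helper777)
-/

set_option autoImplicit false
set_option linter.unusedSimpArgs false
set_option linter.unusedVariables false

namespace Cfsg.Agent.H777.Th3

open Dat Cfsg Cfsg.FusionSystem Cfsg.Agent.H802 Cfsg.Agent.H759 Cfsg.Agent.H777.Prune Cfsg.Agent.H777.Real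
  Cfsg.Agent.H777.Elim

universe u v

/-- **Non-realizability**, given the recognition of the Thompson group among the simple groups. -/
theorem not_realized {P : Type u} [Group P] [Finite P] {f : P →* Cfsg.Spor.Th} (hf : Function.Injective f)
    (hfr : f.range = thDat.Sg) {X : FusionSystem (⊤ : Subgroup P)} (hX : IsPush hf X ETh)
    {G : Type v} [Group G] [Finite G] (ι : P →* G) (hι : Function.Injective ι) (T : Sylow 3 G)
    (hT : (T : Subgroup G) = ι.range)
    (hreal : ∀ (Q : Subgroup P) (φ : Q →* P), φ ∈ X.Hom Q ↔ Fus ι φ)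
    (helim : ∀ (K : Type v) [Group K] [Finite K] [IsSimpleGroup K], Vn 10 K → (∃ x : K, orderOf x = 27) → ¬ Big K →
      Nonempty (K ≃* Cfsg.Spor.Th)) : False := by
  have hcP : Nat.card P = 3 ^ 10 := by
    rw [Nat.card_congr (MonoidHom.ofInjective hf).toEquiv, hfr, card_Sg th_u1_ne]
  have hP : IsPGroup 3 P := IsPGroup.of_card hcP
  have hmemf : ∀ x, f x ∈ thDat.Sg := fun x => by rw [← hfr]; exact ⟨x, rfl⟩
  have hsc : ∀ A : Subgroup P, (∀ a ∈ A, ∀ b : P, (∃ g : G, ι b = g * ι a * g⁻¹) → b ∈ A) → A = ⊥ ∨ A = ⊤ := by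
    intro A hA
    have h1 : X.StronglyClosed A := by
      refine ⟨le_top, fun R hR φ hφ x => ?_⟩
      obtain ⟨g, hg⟩ := (hreal R φ).1 hφ
      exact hA _ (hR x.2) _ ⟨g, hg x⟩
    rcases stronglyClosed_ETh (hX.stronglyClosed_iff.2 h1) with h | h
    · left
      exact (Subgroup.map_eq_bot_iff_of_injective _ hf).1 h
    · right
      apply Subgroup.map_injective hf
      rw [h, ← hfr, MonoidHom.range_eq_map]
  obtain ⟨z, hz⟩ : ∃ z, f z = thDat.u1 := by
    have h1 : thDat.u1 ∈ f.range := by rw [hfr]; exact thDat.U_le_Sg thDat.u1_mem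
    exact h1
  have hz1 : z ≠ 1 := by
    rintro rfl
    rw [map_one] at hz
    exact th_u1_ne hz.symm
  have hzmin : ∀ B : Subgroup P, B.Normal → B ≠ ⊥ → z ∈ B := by
    intro B hBn hB1
    obtain ⟨b, hb, hb1, hbc⟩ := PGrp.inf_center_ne_bot hP hB1 hBn
    have hbc' : ∀ s ∈ thDat.Sg, f b * s = s * f b := by
      intro s hs
      rw [← hfr] at hs
      obtain ⟨y, rfl⟩ := hs
      rw [← map_mul, ← map_mul, hbc y]
    obtain ⟨k, hk⟩ := center_eq th_u1_ne (hmemf b) hbc'
    have hk3 : ∀ k : ZMod 3, k = 0 ∨ k = 1 ∨ k = 2 := by decide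
    rcases hk3 k with rfl | rfl | rfl
    · exfalso
      apply hb1
      apply hf
      rw [hk, map_one]; simp
    · have h2 : b = z := by
        apply hf
        rw [hk, hz]
        simp [ZMod.val_one]
      rwa [← h2]
    · have h2 : b ^ 2 = z := by
        apply hf
        rw [map_pow, hk, hz]
        show (thDat.u1 ^ 2) ^ 2 = thDat.u1
        have h := thDat.c1
        calc (thDat.u1 ^ 2) ^ 2 = thDat.u1 ^ 3 * thDat.u1 := by rw [← pow_mul, ← pow_succ]
          _ = thDat.u1 := by rw [h, one_mul]
      rw [← h2]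
      exact B.pow_mem hb 2
  obtain ⟨K, _, _, κ, hs, hκ, ⟨T', hT'⟩, hfus⟩ := exists_simple hP ι hι T hT hsc z hz1 hzmin
  -- the order of `K`
  have hcard : Nat.card T' = 3 ^ 10 := by
    show Nat.card (T' : Subgroup K) = 3 ^ 10
    rw [hT', ← Nat.card_congr (MonoidHom.ofInjective hκ).toEquiv, hcP]
  have hV : Vn 10 K := by
    have h1 : (Nat.card K).factorization 3 = 10 := by
      have h2 := T'.card_eq_multiplicity
      rw [hcard] at h2
      exact (Nat.pow_right_injective (le_refl 2 |>.trans (by norm_num : 2 ≤ 3)) h2).symm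
    constructor
    · rw [Nat.prime_three.pow_dvd_iff_le_factorization Nat.card_pos.ne', h1]
    · rw [Nat.prime_three.pow_dvd_iff_le_factorization Nat.card_pos.ne', h1]
      norm_num
  have h27 : ∃ x : K, orderOf x = 27 := by
    obtain ⟨y, hy, hyo⟩ := exists_order27
    rw [← hfr] at hy
    obtain ⟨y, rfl⟩ := hy
    refine ⟨κ y, ?_⟩
    rw [orderOf_injective κ hκ]
    rwa [orderOf_injective f hf] at hyo
  -- conjugation of a 3-subgroup into the image of `κ`
  have hconj : ∀ A : Subgroup K, IsPGroup 3 A → ∃ g : K, ∀ a ∈ A, ∃ y : P, κ y = g * a * g⁻¹ := by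
    intro A hA
    obtain ⟨Q, hQ⟩ := hA.exists_le_sylow
    obtain ⟨g, hg⟩ := MulAction.exists_smul_eq K Q T'
    refine ⟨g, fun a ha => ?_⟩
    have h1 : g * a * g⁻¹ ∈ (T' : Subgroup K) := by
      rw [← hg, Sylow.coe_subgroup_smul]
      exact ⟨a, hQ ha, rfl⟩
    rw [hT'] at h1
    obtain ⟨y, hy⟩ := h1
    exact ⟨y, hy⟩
  have hB : ¬ Big K := by
    rintro (⟨A, hA, hab, hc⟩ | ⟨x, hx⟩)
    · obtain ⟨g, hg⟩ := hconj A hA
      set B : Subgroup P := (cj A g⁻¹).comap κ with hBdef
      have hmB : ∀ y, y ∈ B ↔ g⁻¹ * κ y * g ∈ A := by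
        intro y
        show g⁻¹ * κ y * g⁻¹⁻¹ ∈ A ↔ _
        rw [inv_inv]
      have hBab : ∀ x ∈ B.map f, ∀ y ∈ B.map f, x * y = y * x := by
        rintro _ ⟨x, hx, rfl⟩ _ ⟨y, hy, rfl⟩
        have h1 := hab _ ((hmB x).1 hx) _ ((hmB y).1 hy)
        have h2 : κ x * κ y = κ y * κ x := by
          have e1 : g⁻¹ * κ x * g * (g⁻¹ * κ y * g) = g⁻¹ * (κ x * κ y) * g := by group
          have e2 : g⁻¹ * κ y * g * (g⁻¹ * κ x * g) = g⁻¹ * (κ y * κ x) * g := by group
          rw [e1, e2] at h1
          exact mul_left_cancel (mul_right_cancel h1)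
        have h3 : x * y = y * x := hκ (by rw [map_mul, map_mul, h2])
        rw [← map_mul, ← map_mul, h3]
      have hle := abelian_Sg th_u1_ne (A := B.map f) (by
        rintro _ ⟨x, -, rfl⟩
        exact hmemf x) hBab
      rw [← Nat.card_congr (B.equivMapOfInjective f hf).toEquiv] at hle
      have h1 : Nat.card A ≤ Nat.card B := by
        choose y hy using hg
        refine Nat.card_le_card_of_injective (fun a : A => (⟨y a a.2, (hmB _).2 (by
          rw [hy]
          have : g⁻¹ * (g * (a : K) * g⁻¹) * g = a := by group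
          rw [this]
          exact a.2)⟩ : B)) ?_
        intro a a' h
        have h2 : y a a.2 = y a' a'.2 := congrArg Subtype.val h
        have h3 : g * (a : K) * g⁻¹ = g * (a' : K) * g⁻¹ := by rw [← hy a a.2, ← hy a' a'.2, h2]
        exact Subtype.ext (mul_left_cancel (mul_right_cancel h3))
      have h2 := hc.trans (h1.trans hle)
      norm_num at h2
    · have hA : IsPGroup 3 (Subgroup.zpowers x) := by
        apply IsPGroup.of_card (n := 4)
        rw [Nat.card_zpowers, hx]
        norm_num
      obtain ⟨g, hg⟩ := hconj _ hA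
      obtain ⟨y, hy⟩ := hg x (Subgroup.mem_zpowers x)
      have h1 : f y ^ 27 = 1 := pow27 th_u1_ne (hmemf y)
      have h2 : y ^ 27 = 1 := hf (by rw [map_pow, h1, map_one])
      have h3 : (g * x * g⁻¹) ^ 27 = 1 := by rw [← hy, ← map_pow, h2, map_one]
      rw [conj_pow] at h3
      have h4 : x ^ 27 = 1 := by
        calc x ^ 27 = g⁻¹ * (g * x ^ 27 * g⁻¹) * g := by group
          _ = 1 := by rw [h3]; group
      have h5 := orderOf_dvd_of_pow_eq_one h4
      rw [hx] at h5
      norm_num at h5
  obtain ⟨e⟩ := helim K hV h27 hB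
  -- the second embedding into the Thompson group
  set κ' : P →* Cfsg.Spor.Th := e.toMonoidHom.comp κ with hκ'
  have hκ'i : Function.Injective κ' := e.injective.comp hκ
  have hFκ : ∀ (Q : Subgroup P) (φ : Q →* P), Fus κ' φ ↔ Fus κ φ := by
    intro Q φ
    constructor
    · rintro ⟨g, hg⟩
      refine ⟨e.symm g, fun x => ?_⟩
      apply e.injective
      have h1 := hg x
      rw [map_mul, map_mul, map_inv, MulEquiv.apply_symm_apply]
      exact h1
    · rintro ⟨g, hg⟩
      refine ⟨e g, fun x => ?_⟩
      show e (κ (φ x)) = e g * e (κ x) * (e g)⁻¹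
      rw [hg, map_mul, map_mul, map_inv]
  let T₂ : Sylow 3 Cfsg.Spor.Th := Sylow.ofCard κ'.range (by
    rw [← Nat.card_congr (MonoidHom.ofInjective hκ'i).toEquiv, hcP, ← card_Sg (D := thDat) th_u1_ne]
    exact T0.card_eq_multiplicity)
  have hsub : ∀ (Q : Subgroup P) (φ : Q →* P), φ ∈ X.Hom Q → Fus f φ := by
    intro Q φ hφ
    have h1 := (hX.hom Q φ).2 hφ
    obtain ⟨-, -, g, hg⟩ := prune_le _ h1
    refine ⟨g, fun x => ?_⟩
    have h2 := hg (eqv hf Q x)
    rw [cb_eqv] at h2
    exact h2
  have hall := fus_iff_of_le (f := f) (κ := κ') hf hκ'i T0 T₂ (by rw [hfr]; rfl) rfl (fun Q φ h =>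
    hsub Q φ ((hreal Q φ).2 (hfus Q φ ((hFκ Q φ).1 h))))
  -- the contradiction
  obtain ⟨Q, hQ⟩ := exists_eq_map (f := f) (P' := thDat.Vs) (by rw [hfr]; exact Vs_le)
  have hex : ∃ φ ∈ FTh.Hom (Q.map f), φ ∉ ETh.Hom (Q.map f) := hQ ▸ exists_not_mem
  obtain ⟨φ', hφ', hnot⟩ := hex
  obtain ⟨φ, rfl⟩ := exists_eq_cb hf φ' (fun y => by rw [hfr]; exact (FTh.le_of_mem hφ').2 y)
  apply hnot
  rw [hX.hom, hreal]
  have h1 : Fus f φ := by
    obtain ⟨-, -, g, hg⟩ := hφ'
    refine ⟨g, fun x => ?_⟩
    have h2 := hg (eqv hf Q x)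
    rw [cb_eqv] at h2
    exact h2
  exact hfus Q φ ((hFκ Q φ).1 (hall Q φ h1))

end Cfsg.Agent.H777.Th3
end

-- part: S5229
section
set_option autoImplicit false
universe u
open Cfsg

namespace Cfsg.Agent.S5229

open Cfsg.FusionSystem Cfsg.Agent.H759 Cfsg.Agent.H777.Th3 Cfsg.Agent.H777.Real

/-- Let P be a finite group isomorphic to a Sylow 3-subgroup of the Thompson sporadic group. Then there is a saturated fusion system over P with no nontrivial normal subgroup (O₃(F) = 1) that is exotic: not the fusion system of any finite group on a Sylow 3-subgroup. -/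
theorem result [Fact (Nat.Prime 3)] {P : Type u} [Group P] [Finite P] (T : Sylow 3 Cfsg.Spor.Th) (e : P ≃* ↥(T : Subgroup Cfsg.Spor.Th)) : ∃ F : Cfsg.FusionSystem (⊤ : Subgroup P), F.core = ⊥ ∧ F.IsExotic 3 := by
  -- an embedding with image the standard Sylow subgroup
  obtain ⟨g, hg⟩ := MulAction.exists_smul_eq Cfsg.Spor.Th T T0
  let f : P →* Cfsg.Spor.Th := (MulAut.conj g).toMonoidHom.comp ((T : Subgroup Cfsg.Spor.Th).subtype.comp e.toMonoidHom)
  have hf : Function.Injective f :=
    (MulAut.conj g).injective.comp ((Subgroup.subtype_injective _).comp e.injective)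
  have hfr : f.range = thDat.Sg := by
    rw [← T0_coe, ← hg, Sylow.coe_subgroup_smul]
    ext y
    constructor
    · rintro ⟨x, rfl⟩
      exact ⟨e x, (e x).2, rfl⟩
    · rintro ⟨t, ht, rfl⟩
      refine ⟨e.symm ⟨t, ht⟩, ?_⟩
      show g * ((e (e.symm ⟨t, ht⟩) : (T : Subgroup Cfsg.Spor.Th)) : Cfsg.Spor.Th) * g⁻¹ = g * t * g⁻¹
      rw [MulEquiv.apply_symm_apply]
  obtain ⟨X, hX⟩ := exists_pull' (hf := hf) (T₁ := (⊤ : Subgroup P))
    (show thDat.Sg = (⊤ : Subgroup P).map f by rw [← hfr, MonoidHom.range_eq_map]) ETh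
  refine ⟨X, ?_, ?_, ?_⟩
  · have h1 := hX.core_eq
    rw [core_ETh] at h1
    exact (Subgroup.map_eq_bot_iff_of_injective _ hf).1 h1.symm
  · exact hX.isSaturated_iff.1 ETh_sat
  · rintro ⟨G, _, _, ι, hreal, S, hS⟩
    have hι : Function.Injective (ι.comp (Subgroup.topEquiv (G := P)).symm.toMonoidHom) :=
      hreal.1.comp (Subgroup.topEquiv (G := P)).symm.injective
    refine not_realized hf hfr hX (ι.comp (Subgroup.topEquiv (G := P)).symm.toMonoidHom) hι S ?_ ?_
      (fun K _ _ _ hV h27 hB => Cfsg.Agent.H777.Elim.elim hV h27 hB)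
    · rw [hS]
      ext y
      constructor
      · rintro ⟨x, rfl⟩
        exact ⟨x, rfl⟩
      · rintro ⟨x, rfl⟩
        exact ⟨_, rfl⟩
    · intro Q φ
      exact hreal.2 Q le_top φ (fun x => Subgroup.mem_top _)

end Cfsg.Agent.S5229
end
end
end
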