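import Cfsg.Agent.H777.Th3.SylI
import Mathlib.GroupTheory.Nilpotent
import Cfsg.Agent.H777.Th3.ThNV
import Cfsg.Agent.H775.Th.NotReal_mg
import Cfsg.Agent.S0292
import Cfsg.Agent.S0293
import Cfsg.Agent.S0294
import Cfsg.Agent.H325.RowPSU_m3
import Cfsg.Agent.H631.TwF4Nine
import Cfsg.Agent.H49.CoThreeThree
import Cfsg.Agent.SporRec.SuzPerm
import Cfsg.Agent.TypeM.FactsLy
import Cfsg.Agent.H341.ThreeList_m3
import Cfsg.Agent.S0279
import Cfsg.Agent.H846.Elim.PSLe
import Cfsg.Agent.LieClassical.OmegaReindex
import Mathlib.LinearAlgebra.Matrix.SpecialLinearGroup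
import Cfsg.Agent.OrdDiv.Table
import Cfsg.Agent.S0000
import Cfsg.Statements.S5231
import Cfsg.Agent.S5302
import Cfsg.Agent.CoOneType.CoW
import Cfsg.Agent.Th.Bit3W
import Cfsg.Agent.FastGrp
import Cfsg.Agent.Prune
set_option linter.all false
prune_inst 0x7ff3fffbfffd35dfffff7e7fffb9dffdfbfcffffffdff9fbfffcfbffafdf6b866be5fbafffeb90fd0ed6e2bc30f87bd3fbfffeffee6ffc7ffffdfff45ffbffdfffffbd8871d79c3e0f7c6ffffbf97fce7f3fffffffffffffffffffffffffffbeffffffffffff
open scoped Cfsg.Agent.FastGrp

-- part: H775/Th/Cent
section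
/-!
# The centralizer of the second centre of `Sg` (helper775)
-/

set_option autoImplicit false
set_option linter.unusedSimpArgs false

namespace Cfsg.Agent.H775.Th

open Cfsg.Agent.H777.Th3 Dat
open scoped commutatorElement

set_option synthInstance.maxSize 4000 in
set_option synthInstance.maxHeartbeats 200000 in
theorem dec_c1 : ∀ a b c d f : ZMod 3,
    (((Aq a b c d f (0, 1, 0, 0, 0) - (0, 1, 0, 0, 0)).2 = (0, 0, 0, 0)) ∧
     ((Aq a b c d f (0, 0, 1, 0, 0) - (0, 0, 1, 0, 0)).2 = (0, 0, 0, 0)) ∧
     ((Aq a b c d f (0, 0, 0, 1, 0) - (0, 0, 0, 1, 0)).2 = (0, 0, 0, 0)) ∧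
     ((Aq a b c d f (0, 0, 0, 0, 1) - (0, 0, 0, 0, 1)).2 = (0, 0, 0, 0)) ∧
     Aq a b c d f (T 1 0 0 0 (2, 0, 2, 1, 0)) = T 1 0 0 0 (2, 0, 2, 1, 0)) →
      a = 0 ∧ b = 0 ∧ c = 0 ∧ d = 0 ∧ f = 0 := by
  decide +kernel

theorem dec_c2 : ∀ e : V5, ((X e - e).2 = (0, 0, 0, 0) ∧ (T 1 0 0 0 e - e).2 = (0, 0, 0, 0)) → e.2.2 = (0, 0, 0) := by
  decide +kernel

variable {G : Type*} [Group G] {D : Dat G}

theorem pow_u1 (k : ZMod 3) : D.u1 ^ k.val = D.uu (k, 0, 0, 0, 0) := by
  unfold uu
  simp

/-- elements central modulo `⟨u1⟩` -/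
theorem mem_Z2 (h1 : D.u1 ≠ 1) {x : G} (hx : x ∈ D.Sg) (hc : ∀ s ∈ D.Sg, ∃ k : ZMod 3, x⁻¹ * s * x = s * D.u1 ^ k.val) :
    ∃ e : V5, e.2.2 = 0 ∧ x = D.uu e := by
  obtain ⟨a, b, c, d, f, ha⟩ := act_of_mem_Sg hx
  have k1 : ∀ e : V5, (Aq a b c d f e - e).2 = (0, 0, 0, 0) := by
    intro e
    obtain ⟨k, hk⟩ := hc _ (D.U_le_Sg (D.uu_mem e))
    rw [ha, pow_u1, ← uu_add] at hk
    have := uu_injective h1 hk
    rw [this, add_sub_cancel_left]
  have hu1 : ∀ s ∈ D.Sg, ∀ k : ZMod 3, s * D.u1 ^ k.val = D.u1 ^ k.val * s := by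
    intro s hs k
    have h2 := conj_u1 hs
    have h3 : D.u1 * s = s * D.u1 := by
      calc D.u1 * s = s * (s⁻¹ * D.u1 * s) := by group
        _ = s * D.u1 := by rw [h2]
    exact ((show Commute D.u1 s from h3).pow_left _).symm
  -- `x` commutes with the commutator of `v1` and `r1`
  have k2 : Aq a b c d f (T 1 0 0 0 (2, 0, 2, 1, 0)) = T 1 0 0 0 (2, 0, 2, 1, 0) := by
    obtain ⟨k, hk⟩ := hc _ v1_Sg
    obtain ⟨l, hl⟩ := hc _ r1_Sg
    have g1 : D.r1⁻¹ * D.v1 * D.r1 = D.uu (2, 0, 2, 1, 0) * D.v1 := by
      have := conj_eq_of (x := D.v1) (s := D.r1) (y := D.u1 ^ 2 * D.u3 ^ 2 * D.u4 * D.v1) (by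
        rw [D.j_v1_r1]; simp only [mul_assoc])
      rw [this]
      unfold uu
      simp [ZMod.val_one, val_two]
    have g2 : D.uu (T 1 0 0 0 (2, 0, 2, 1, 0)) = D.v1⁻¹ * (D.r1⁻¹ * D.v1 * D.r1) := by
      rw [g1, ← D.act_v1]
      group
    have g3 : x⁻¹ * (D.v1⁻¹ * (D.r1⁻¹ * D.v1 * D.r1)) * x = D.v1⁻¹ * (D.r1⁻¹ * D.v1 * D.r1) := by
      calc x⁻¹ * (D.v1⁻¹ * (D.r1⁻¹ * D.v1 * D.r1)) * x
          = (x⁻¹ * D.v1 * x)⁻¹ * ((x⁻¹ * D.r1 * x)⁻¹ * (x⁻¹ * D.v1 * x) * (x⁻¹ * D.r1 * x)) := by group
        _ = (D.v1 * D.u1 ^ k.val)⁻¹ * ((D.r1 * D.u1 ^ l.val)⁻¹ * (D.v1 * D.u1 ^ k.val) * (D.r1 * D.u1 ^ l.val)) := by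
            rw [hk, hl]
        _ = (D.v1 * D.u1 ^ k.val)⁻¹ * ((D.u1 ^ l.val)⁻¹ * D.r1⁻¹ * (D.v1 * (D.u1 ^ k.val * D.r1)) * D.u1 ^ l.val) := by
            group
        _ = (D.v1 * D.u1 ^ k.val)⁻¹ * ((D.u1 ^ l.val)⁻¹ * (D.r1⁻¹ * (D.v1 * D.r1)) * (D.u1 ^ k.val * D.u1 ^ l.val)) := by
            rw [← hu1 _ r1_Sg k]; group
        _ = (D.v1 * D.u1 ^ k.val)⁻¹ * ((D.u1 ^ l.val)⁻¹ * ((D.r1⁻¹ * (D.v1 * D.r1)) * D.u1 ^ l.val) * D.u1 ^ k.val) := by
            rw [← pow_add, add_comm, pow_add]; group
        _ = (D.v1 * D.u1 ^ k.val)⁻¹ * ((D.r1⁻¹ * (D.v1 * D.r1)) * D.u1 ^ k.val) := by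
            rw [hu1 _ (D.Sg.mul_mem (D.Sg.inv_mem r1_Sg) (D.Sg.mul_mem v1_Sg r1_Sg)) l]; group
        _ = _ := by
            rw [hu1 _ (D.Sg.mul_mem (D.Sg.inv_mem r1_Sg) (D.Sg.mul_mem v1_Sg r1_Sg)) k, hu1 _ v1_Sg k]; group
    rw [← g2, ha] at g3
    exact uu_injective h1 g3
  obtain ⟨rfl, rfl, rfl, rfl, rfl⟩ := dec_c1 a b c d f ⟨k1 _, k1 _, k1 _, k1 _, k2⟩
  have hU : x ∈ D.U := mem_U_of_act h1 hx (ha.congr (fun e => Aq_zero e))
  obtain ⟨e, rfl⟩ := (D.mem_U).1 hU
  refine ⟨e, ?_, rfl⟩
  have key : ∀ {s : G} {g : V5 → V5}, s ∈ D.Sg → D.Act s g → (g e - e).2 = (0, 0, 0, 0) := by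
    intro s g hs hg
    obtain ⟨k, hk⟩ := hc s hs
    have h2 : s⁻¹ * D.uu e * s = D.uu (e + (-k, 0, 0, 0, 0)) := by
      rw [uu_add]
      have h3 : D.uu (-k, 0, 0, 0, 0) = (D.u1 ^ k.val)⁻¹ := by
        rw [pow_u1, ← uu_neg]
        congr 1
        simp
      rw [h3]
      calc s⁻¹ * D.uu e * s = s⁻¹ * D.uu e * (D.uu e * s * (D.u1 ^ k.val) * (D.uu e)⁻¹ * (D.u1 ^ k.val)⁻¹ *
            ((D.u1 ^ k.val) * (D.uu e) * (D.u1 ^ k.val)⁻¹ * s⁻¹ * (D.uu e)⁻¹ * s)) := by group
        _ = s⁻¹ * D.uu e * (D.uu e * (s * (D.u1 ^ k.val)) * (D.uu e)⁻¹ * (D.u1 ^ k.val)⁻¹ *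
            ((D.u1 ^ k.val) * (D.uu e) * (D.u1 ^ k.val)⁻¹ * s⁻¹ * (D.uu e)⁻¹ * s)) := by group
        _ = s⁻¹ * D.uu e * s * 1 := by group
        _ = _ := ?_
      have h4 : s * D.u1 ^ k.val * (D.uu e)⁻¹ = (D.uu e)⁻¹ * s := by rw [← hk]; group
      have h5 : D.uu e * s * D.u1 ^ k.val = s * D.uu e := by
        calc D.uu e * s * D.u1 ^ k.val = D.uu e * (s * D.u1 ^ k.val * (D.uu e)⁻¹) * D.uu e := by group
          _ = s * D.uu e := by rw [h4]; group
      rw [mul_one]
      calc s⁻¹ * D.uu e * s = s⁻¹ * (D.uu e * s * D.u1 ^ k.val) * (D.u1 ^ k.val)⁻¹ := by group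
        _ = D.uu e * (D.u1 ^ k.val)⁻¹ := by rw [h5]; group
    rw [hg] at h2
    rw [uu_injective h1 h2, add_sub_cancel_left]
  exact dec_c2 e ⟨key D.x0_Sg D.act_x0, key v1_Sg D.act_v1⟩

section transport

variable {P : Type*} [Group P] {f : P →* G}

theorem mem_center_map (h1 : D.u1 ≠ 1) (hf : Function.Injective f) (hfr : f.range = D.Sg) {z : P} :
    z ∈ Subgroup.center P ↔ ∃ k : ZMod 3, f z = D.u1 ^ k.val := by
  have hm : ∀ x, f x ∈ D.Sg := fun x => by rw [← hfr]; exact ⟨x, rfl⟩
  constructor
  · intro hz
    apply center_eq h1 (hm z)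
    intro s hs
    rw [← hfr] at hs
    obtain ⟨y, rfl⟩ := hs
    rw [← map_mul, ← map_mul, Subgroup.mem_center_iff.1 hz y]
  · rintro ⟨k, hk⟩
    rw [Subgroup.mem_center_iff]
    intro g
    apply hf
    rw [map_mul, map_mul, hk]
    have h2 := conj_u1 (hm g)
    have h3 : D.u1 * f g = f g * D.u1 := by
      calc D.u1 * f g = f g * ((f g)⁻¹ * D.u1 * f g) := by group
        _ = f g * D.u1 := by rw [h2]
    exact ((show Commute D.u1 (f g) from h3).pow_left _).symm

theorem mem_ucs (x : P) : x ∈ Subgroup.upperCentralSeries P 2 ↔ ∀ y : P, x * y * x⁻¹ * y⁻¹ ∈ Subgroup.center P := by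
  have h : x ∈ Subgroup.upperCentralSeries P (1 + 1) ↔ ∀ y : P, ⁅x, y⁆ ∈ Subgroup.upperCentralSeries P 1 :=
    Subgroup.mem_upperCentralSeries_succ_iff
  rw [Subgroup.upperCentralSeries_one] at h
  exact h

/-- **the centralizer of the second centre** -/
theorem map_centralizer (h1 : D.u1 ≠ 1) (hf : Function.Injective f) (hfr : f.range = D.Sg) :
    (Subgroup.centralizer ((Subgroup.upperCentralSeries P 2 : Subgroup P) : Set P)).map f = D.Tg := by
  have hm : ∀ x, f x ∈ D.Sg := fun x => by rw [← hfr]; exact ⟨x, rfl⟩
  ext y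
  constructor
  · rintro ⟨y, hy, rfl⟩
    rw [mem_Tg_iff h1 (hm y)]
    -- `u2` is in the second centre
    obtain ⟨x0, hx0⟩ : ∃ x, f x = D.u2 := by
      have h2 : D.u2 ∈ f.range := by rw [hfr]; exact D.U_le_Sg D.u2_mem
      exact h2
    have h2 : x0 ∈ Subgroup.upperCentralSeries P 2 := by
      rw [mem_ucs]
      intro s
      rw [mem_center_map h1 hf hfr]
      obtain ⟨k, hk⟩ := conj_u2 (D.Sg.inv_mem (hm s))
      rw [inv_inv] at hk
      refine ⟨-k, ?_⟩
      rw [map_mul, map_mul, map_mul, map_inv, map_inv, hx0]
      have h3 : D.u2 * f s * D.u2⁻¹ * (f s)⁻¹ = D.u2 * (f s * D.u2 * (f s)⁻¹)⁻¹ := by group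
      rw [h3, hk, pow_u1, pow_u1, ← D.uu_2, ← uu_add, ← uu_neg, ← uu_add]
      congr 1
      simp
    have h3 := Subgroup.mem_centralizer_iff.1 hy x0 h2
    have h4 : D.u2 * f y = f y * D.u2 := by rw [← hx0, ← map_mul, h3, map_mul]
    rw [mul_assoc, h4, inv_mul_cancel_left]
  · intro hy
    obtain ⟨y, rfl⟩ : ∃ x, f x = y := by
      have h2 : y ∈ f.range := by rw [hfr]; exact D.Tg_le_Sg hy
      exact h2
    refine ⟨y, ?_, rfl⟩
    refine Subgroup.mem_centralizer_iff.2 fun x hx => ?_
    have hx' : x ∈ Subgroup.upperCentralSeries P 2 := hx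
    rw [mem_ucs] at hx'
    obtain ⟨e, he, hxe⟩ := mem_Z2 h1 (hm x) (by
      intro s hs
      rw [← hfr] at hs
      obtain ⟨s, rfl⟩ := hs
      obtain ⟨k, hk⟩ := (mem_center_map h1 hf hfr).1 (hx' (x⁻¹ * s * x))
      have hk' : f s * (f x)⁻¹ * (f s)⁻¹ * f x = D.u1 ^ k.val := by
        rw [← hk]
        have : x * (x⁻¹ * s * x) * x⁻¹ * (x⁻¹ * s * x)⁻¹ = s * x⁻¹ * s⁻¹ * x := by group
        rw [this]
        simp only [map_mul, map_inv]
      refine ⟨-k, ?_⟩
      have h5 : D.u1 * f s = f s * D.u1 := by
        have h2 := conj_u1 (hm s)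
        calc D.u1 * f s = f s * ((f s)⁻¹ * D.u1 * f s) := by group
          _ = f s * D.u1 := by rw [h2]
      have h6 : D.u1 ^ k.val * f s = f s * D.u1 ^ k.val := (show Commute D.u1 (f s) from h5).pow_left _
      have h7 : (f x)⁻¹ * (f s)⁻¹ * f x * f s = D.u1 ^ k.val := by
        calc (f x)⁻¹ * (f s)⁻¹ * f x * f s = (f s)⁻¹ * ((f s * (f x)⁻¹ * (f s)⁻¹ * f x) * f s) := by group
          _ = D.u1 ^ k.val := by rw [hk', h6, inv_mul_cancel_left]
      have h8 : D.u1 ^ (-k).val = (D.u1 ^ k.val)⁻¹ := by
        rw [pow_u1, pow_u1, ← uu_neg]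
        congr 1
        simp
      rw [h8, ← h7]
      group)
    apply hf
    rw [map_mul, map_mul, hxe]
    obtain ⟨a, b, c, d, ha⟩ := act_of_mem_Tg hy
    have h3 := ha e
    have h4 : T a b c d e = e := by
      obtain ⟨e1, e2, e3⟩ := e
      have : e3 = 0 := he
      subst this
      simp [T]
    rw [h4] at h3
    calc D.uu e * f y = f y * ((f y)⁻¹ * D.uu e * f y) := by group
      _ = f y * D.uu e := by rw [h3]

end transport

end Cfsg.Agent.H775.Th
end

-- part: H775/Th/TElDat
section
/-!
# An element of order 8 of the Thompson group: its packed matrix, two bits per entry (helper775)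
-/

set_option autoImplicit false

namespace Cfsg.Agent.H775.Th

/-- packed matrix -/
noncomputable def m_tt : Nat := (by
  refine (?fq1 : (Nat.add (Nat.add (Nat.add (Nat.add 
    (nat_lit 0xa158219695580a86816815646124000869168188295542a0401a55a4461246a98196280650006a2065015aa0898046920210641112245021816451a546505150a8040428814a4aaa480854049468a6592a20866940424092080aa00284281469586949165816960a4122902445211446444069852580149102a4111215a2152062a980aa046405a8011a80819a145a812888985129a21a8246294068142649911169229a8a48a805a0046169a90100a5690981065121222185061992590929a1089a08645525841246446456104628a8041524560a44a55aa81052591445012224110212514a0196a2aa92155911a512829095565a99562286266095582a066a42540091126a521660229a08148216640102906120019a4402a1561064055206aa042816a26224852a19a21562026612858a0824509812456198441809181a581016806241992011944a429a0049286284846259aa6a06498429a5a411268a822256a401661224a946a8aa61620a986aa1445611668661259594611860182661a269a21a2a862a2216821aa089461a089960a96248925202048001465a8092a91694908526520811560026051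09186212254a8298216a915412991081102a55528aa4a9926a44a64620828a02a5aa88956949808aa5a8091890a28081084266014018804050661556526a2a955021988a152992642a6181aa889526061a081012026a868256460956088a96a88040856a4604129a41051498829155181a262a1a9a84a119188a0408218404144a062915990a51a21915556595055aa405155440098629a69a418948255404a2508228622652460096a5504458886a0212508120846a9268628448625489421580858990aa8519081465a19a654a99150a844445818215405a280206904941a04a9026445692690256818410665264984aaa4849519890955498a4886965419881569a26a48816104a4996846aa664)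
    (Nat.shiftLeft 
    (nat_lit 0x62692195481545958860aaa866205a64a16a84824a212aa445559965a110aa861068691106aaaa01a451055195a5498558426a9524a59a0a8aa9404045a55604424a698a60958194001564054626a252165a600412666110025aa5444256455691910a6aaa16565591aa6521064018a802a2295690508085465924529884802040622a9a6264056165a44694606546880a05168680644054546a011015908442449040162699a46684a8459890189900545404a59811a44695a4124a49248a196159001215a26298a68a09966981615209154416a8828a1a654a180aa926966198496255a44996909606a626895aaaa486564249666281408896a4025a5a6064a61644264116600a9009a814050a10a05099468646466286991562a604a998692265099496a16820a25448958a0886212102a488482041600811856842a100140866619aa21260049964a6962405420aa22892164a922095485001042112514254990941a845405080588465591154256a25918868168548890954002269216619426a815685044818249469045a6a41905a09090154945a22525068402a1248464089a8281892429662222592aa414aa8644a5408040541055a6599619146109a6626526191a0a408040a5589205499892044642a5a5190249a4006950a25a258424460264122a10160891aa5619061188a42480154828444861015a00042a06924188906a4822599a101118051512a58295195554a98145456a2590854986511289851648a5a60956009a088125802245645921022522690104946821601668105a0292596290a4584a499459811901154244a4806a4a090918a812185582429466921965a00112526048504a9044129a055129a854008002908165950541499440a5516828956205a025648648825260a69211a8966095490a5114921822a6418615212a06484086a6200a668121a5a142452441a504269691026)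
    (nat_lit 5600)))
    (Nat.shiftLeft (Nat.add 
    (nat_lit 0x89aa6aa08a9915599a66154814422085426812640802a6a401582226998690294814406a99601262805555a296180459185068952044a28419a050a00284851916262411544a9668148205460a9658885021146504994600094156914982019529611111a0509420a94625259949a426806a0a5208886a40545a1251928559884008194a2888a0156945a455444802a2066244552a194a6a48019941a9826100811a05a6690555a95059a09862965648a944490018255a911950a520a912414042625122880121916514181955a81880a0841904059296928059282a96552862a29689455a2a4906a18918206892661a41461118166a80282485654998541a15aa52644895968204221524244a054054041a1161a0a82069818a50662106569909069128094aa029a2184168111899581541822a4884a284509654119804509582a1029259604216a666a9259006655521518a2524544201512288626290aa44a96a561a99a900a52888028a26119a885195a49081444949a01aa842090a894a089052042a0550542156964a1218125599558662266264591585016165545a51195605a420121260a18aa425004920406269420126505a8a02064044982a4864059a4894526a29412802a01814455965805609a2820621214496a9a45518586898001121151a9a5122941425149a124112a4a5009822154999065a069988a41441965205a1285019a2a8a6a826a80941164014011490120a0569466885805104a2081a121408959194455a4828258a1091525a141466aa181550150a480a588a520202514295a5205a085a2a681926844066851299a84081069585a84940068685a9849611a80092a509628a08aaa816242a2a2962a6a6558586964695a55a68082021165422a5958409815a522001461a5a226980a5058481a0a200428189429508526881886804906a9986588265129905a650858845616552a529)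
    (Nat.shiftLeft (Nat.add 
    (nat_lit 0x565a4225599212484a882446225a16555826010948486a01184a1601650806aa608428492649461210a849a88404688a86586698806a6862a45559665aa1216528a09a8a464181295a90a91816a1605608a02996509662099098828088a646a985a865816689290a20250221855610a58a1866926a465448a04508a992249514229084846102a80198a14228056a21228269a529a511421089668940486a846148558889510998a4a9558a24a8694a4221aa49598a425260868424415821506512895811894806822808a90651444421a415a10858660455966aa28969299646590602086694a150060801669262a8a258a896264aa09a6500006a2698562a9a1802850aaaa54aa5480186286a46264802a05028a68892999621010969696458a61641848661656191155991402546a689850a1850145049a296962259155686165565421591a604150191299005048a2869815a880442524249468059a601605112a08009006a65288a122a66218269586826069206a62242596686a261a421a94a69824148445592aa09a0012a026826001a062202515861808624412a9964628a0005585aa0651192292a2508518006554505a829265a699505585119aa4946050a10462521029905a190a1804252984aa184610a65284618200a09419a268544590560a189a8698819a06a52228a400aa556899954960a44044098568a401a10a241a88064a20a689122012199606a985246010a28240a92a01828199186a5104668442141190202a410588615855484606a22554592646494810084806a598982969405944566450045a90a1668211862a1211258082120105196542a9105a228805652a169aa99581a6a5a9104a50009818816a2582056684a1969124295225024a51108a899692680049180416695a5962655060a8a9521556808812494041088aa4118a56a85a28a990645055820a4846024142485658594)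
    (Nat.shiftLeft 
    (nat_lit 0x9841a149988808524249501a922805529108a812915201626a50a629494611260056642158aa92a69a644415209185a28424a56228810a48819aa2426540164a812106a986186024248060291162a0811a4282129221a8451a15a20990102a4815a4a05a95a2122150002154545a56828194a490226996a101255595190069a592411009949804024682a082a8552552994494828629a01626464a4aa6882a6985a46229211a46a9180a86950a1255aa20a491a491150168990a15114262848a42599161642014406aa808620a889aa169481562a94842060905a15445a1455445a8a286520a550a6545a5a65659a9860aa0a0a51041a109a680a28a012a84a06a0486a22594819629a45529826112460210954448162a994286256959005a99a80411a248600a88940a62024686162888a50828a2548884429946410558904aa0496a8649146998089484005529964599a9a86a40655504aa96a8814a2a8424999815591850aa4190428965241288aa2094a5484566059885820aa890869846a50186424069945a0486446aa1885995080a650550105269a6945880040a25410aa2684656855662484aa04620256aa4024158096a4268248a06062a552206691208000000000000000000000000a540145aa8559a15984945606426504662a9816a00192605a408a4891a502984022958a06144925449455661650258558a446991250245069aa068899a62262650886445666a49415596996214829a86144912695644610401a996168211a9499a09029959548849865500a02a409992541695a9a20552880154a9551095108aa4046a9194240944886409652229888182464866a9452a5550a50925101511122410209459452590225401444a2192552a6a208829a02a1208426140a6a08820052826124002a94145992806514544598646260a025456aaa055a11684141a624089a56669560044914152461406)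
    (nat_lit 5600)))
    (nat_lit 5600)))
    (nat_lit 11200)))
    (Nat.shiftLeft (Nat.add (Nat.add 
    (nat_lit 0x244854955918658095a5492251652540aa96a98509202a2694a9906aa65048868802286a8240900110a524560014152a14996846005058a0606a09990565a625981820608a5a55a1a886865625499a1649582801658462190211690aa902114180902516511529856584854501942008814a41969aa299a668a252185126925a91414186409681a29a499610259561a0961256a5682408248544946114a2954a6625150101218460a6600092186084950980994828649951a442560a498256858a48218100521059006849644a2162a1a1a162104611a49490428556102129114016842810290858a9551014298550494a911569116a445262912256855521150925a684049a048410682606180118a9148a1966089921a0161596229a852018448694a48824a824969210929410aa500561084119666a5555596255126aa5055aa00101698046a82a48489562a9544192189446222598250528091165449aa61a052a8281840a096021461861955582906891148aa11406690a4846884822449aa108195681a828186a629a6a58599996a55a481691984811690681296050a5a4919a518a269109084266809a046546a99562a96451018022114625694a5855560602149204a9285021015815285660512562a08516209149016995601116694a186226119a094800568619961228698610a8282829a5921a996419042a42164968229159849548668541618a20962206a99166a01285a128a8858545014648a000012aa60a800a406a8290952a5a8201a0a5449591906a08008a119a152286a84865269160988404a05a80224800000115a1491291442281a0056995612806159155585042a64221508a9116014162000094aa96a118a089150698865480885855801986594a684644208058216084218a48941651952441824889014981a142a804248408082a26aa0056a9820222462161096248418124001524)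
    (Nat.shiftLeft (Nat.add 
    (nat_lit 0x64911612698629aaa4a0511929151a2251248081204106142a8a00a8a6102010895a04996109806151066a95a495605150a50086a1866481940581540160521a952296a99285989a90145400545811a115286a192994608840609109019a80a61a910202440a19a1889185524645566529aa025986126a188942815202994219061a1124a66a082158018821104089824669526550516a08090591542419a1a65a54a2a1a0140296229419108014496a9509a888a88222a26a21166606141525886658946916442498184201909a88a2a68605864095252559800aa40956085a660541420550a1818a14a9959680aa1446929842819142212428898a2542841656944a1a96048464090542951890618191240a851201a9119590592116924695a65996a494840440a1955889490885162154a6860a09a644411191126691264188126482a29486246916a24698699286614864954059462a094665821909249096a1228181aa125a16516a118186981959182a8945914998128462a959869288088915a9198811598088a0545665020a84661282a5518a22455aaa8456a449464984a5510824098a481194911025156810090488858116912961088910414888a1464954546a898888100882a49a65011a1528819a454a92999918598880448849a9106a11510a446686a46a05268184019a5249414a2565a2905419995280494255690246998104a6248980080884a5446005491a2a590600251a221106a86606168965a2400494909411464191118902a999a6881142148589a2226428825a49a18040a2418542a94a246a46042a4a88a5990900699a292495259a2aa9800aa514261596a162102845108456110a905558a0654aa8a620a464948148651188958822040a2aa82045150529a81448a29994a5a2aa480408181a46a8a805249a945201096200695004aa9551614a1a62aa45a80166a6628a89255602)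
    (Nat.shiftLeft 
    (nat_lit 0x89411008058656592922489a1424916199a046900461925a965a8a8655880516429994801212006a4a9a44099a266262245948a0a948959562a000804a6a2809481a20849842229518a21a8192a06194800a054a4506909008466669244299a188194219a1169894a9a90168100861059524a10aa0005942840648981a2824842116a446819aa051996a8285a6496899a68aaa295141680a154a6a298090644425258922084114a20aa8a1249090451a28a2a5a206a4544888916591a6269552a0001a49441a0166a28085aa6666146491a8066106050080901644a16620450aa19192145596615068961841104962962a49406520a99a998865a588818a6580694992591896480099054919069a06a1860962008116016040894446196804a06a8112089a0a8181866a2a02a5615945486a684982928a4564524a998000444489a55921011965995a258060aa85625aa4441209a04500122159409558a91a2681998a450550024254aa0a0a861a6aa298a988168a606128159a80181664aa5841a900692555968a92609a0909859186858445296655852861511100189985a141550a5806152102882aa956586250860a869098201852458102290066690a24a500152a5845552896854529aa2a2611a45604a4094aa96608861a2001294592a8a04a10286158490154019a8495a545a8826406954a858016228581824694806989822499295066aa0648289950166605566a82a14505442910505592262a6802885195202495294a811642155a19880a6689651515411064596424a554a4185625059109914848961285109856994a1a1650440489425106459992988605a24a945a0609224a65a02514192a96616481288524a606209902500a12640610045440aa2921904989044a8a62454846816620a2a6a6252a518a496a58a4085612098456262051a5a118094295442a498180998895016a611849129254)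
    (nat_lit 5600)))
    (nat_lit 5600)))
    (Nat.shiftLeft (Nat.add 
    (nat_lit 0x109a892011aa0219aa19116905045885a2511a621a695a44aa485a62504660860041688a8845268a658a9869480a48411998a04a50899a604190290811928948108261094aaa5286551aa0822a02180868159a1a65544a98425220a8506284a11616a82815090919188594a5585595502568a01284642952900456064602055005a456946260611194094a848420698295951a81299196849a06aa9909648825a4569a4a62999828652488a508a28151111a025a018a26958a94096164026022294a26082846258400aaa4905900884084a52605142a186aa5585a0614688a0950185155211956a4091a2a81961845a62aa829090124292205468019a0541256964aa2a1180891a26686598184a61a48410518616a48601a0a1109628a2849819a04224a66685a6540a654a6012a65a211468291684080440a0a9828520a194891a19241689425a29029a58a58a0695682aa68a29a9a0866a40154822a2a698218100468aa6009559065654910a015066526a5a12228851a2066251512066184924451861499aa2aaa1568849898209a926529562928a4915a980056541111896819294a02a881001654258680414652198a24a15811048540026082098669069298419656912028952621129486988406a641920a09a8649928a4445121a90464868681905a141556900a186aa2810a89aa48510099169669a44a255026aa48a4a100090a50425448199868856991a191068004409028911190459169a2211596054922420a698a10a95011a454919081a52a605946848590861021801a044aa99195551805406544008a68096416a8929a266a514a5201268414821582215400542a26a8a4801a494562216a466008516a202081561290562584885440a12aa45a558404a8a18895084422aa2560488001951688040a12a6a20911446562461826000649454119995691626a28618582a4509595a80a6958661162)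
    (Nat.shiftLeft (Nat.add 
    (nat_lit 0x496a68a611a5509a9541055581525401295a44454908122545101a1888042a506012516286a15aa451498164504421658a250090496aa444600929a5905418609a8a594a08845a89186924a241a1685500420815a110584041a8658214954922081088aa191189a6252499a28612919024201296a622949195929889a56aa0619056a065a9902648192a904509659619044116829a95212062121544208a42052000012156a4091506228992152825440244a52429a9264452802662505a6420aaa4602159099a88092861254a18a8a9aa196a4a081550a64441950946841644220698010941a1685a568602a22a8100a2045682194840482909a21964908a9a9a50505186609488242582820569a9a506a40944a880464498218950a8a264589aa6468522161a528a162669444514818856a9142125640a2868589656a6a446858680211a99a855a20406a9166658990a815015291005881a85454081aa482482999256898208a199480a461498526aa924a166481225508140986069aa28a20006050aa96a1811025448629415616290a296252864996411a6824a0595452606a184a402152810891a6a69869109154456402a8586900a289468145518881922a8a68a2a655699a2662651a66155aaa5295610402846942a026688609a4061a9a1a5aa0445582464269a912450200986922822106802a45290a5409685925964999252a11481a244481185465944502920a886294200685008690464008690080252889080040902a5954608a46948221094856511815582214552a0a90091a602589a58a8881222042625a26461229a285a12184a15515a82529085554980960248288852869159500aa999215556a1a9141904610506aaa84095a1a1014962a8545424482a29811959a0492a140a88511829258414959890159a4156296846152110212041051a56118101565921a42591080a8542469919a65)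
    (Nat.shiftLeft 
    (nat_lit 0x15119420580a428251404a450829081680a9a81992aa6081469aa552940464a026a49955258959a162269219189520012401258a1a558190225254a809a989a06545a289449a298a15628869491092922884a68660895294945544aa1a9102940515408a66a06250424060a910959002544588aa885998590a952954929018295046551a989aa599198aa402a80415a9229585aa128482a088a125664986a21149119410298418188a5a66a51896954189901984a1648255014566209812448a80568944244469a18849aa9956a45166058601425a2a9145454109849191a8956a8808a25955552594218201a65104691292269588aa62466261691405a042099529596a29aa882a19566a61a61a468415a9828151a0628969418191a2180498818a61696a98452185082aa5a11888a9806444a51859449044898858152162161a6824884299018aa9122a8422804288609989482a42a9662646005895614660a4896096aa8a641089a41912950515824a9445209624949a6126a1690a15018005a8490402602429040a96889555450a6689990900615a52221a512a1902080429a995a0446940a990002088982a2990888a040490518148504008a1991122850aa501220a028105458a5582a425615a802516264a9251109a42545195928a54225429695920022556544889018059801516442928582054806a5a48594212285518556864a129054a50281604050560490854905955aa9628248860aa562916228641484590a5602098851825645698644a62021509884841a829120a21a82aa9aa9986245a1a1a2916984484151416a9620021a28069995a195089689081a696882492186991a0445a990582290595a162052a08802698aa9a910412009886a662926a8a1686880a5a0261561102a98415620604992861064599962265a49282a16105a9962456aa21a52a2a86a6412aa648a16424821888a62160)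
    (nat_lit 5600)))
    (nat_lit 5600)))
    (nat_lit 16800)))
    (nat_lit 28000)))
    (Nat.shiftLeft (Nat.add (Nat.add (Nat.add 
    (nat_lit 0x929046622886a28a09a55a25888a621511a22092854a82115140809266608a411a61a0485a80220261a041aa241658a08825212819910a229084550880252464a1429119420890950a44908662096104901914458a4624118019599898256105a86a0510459580500881408521446a1a6860069056140900495210a404a0109980a068844a8842a128249a2252a84645422a1a14018195656a9904460281256a4942129a8182156510a80100299190a85428280095a2999604a614641914a06284550456015696488869681622505a2958550825a0210a189269409041826521a05a4828184928148051a689862a5611641004109586a2a441a982646150224540422aa9669498442601a06a0486a4881955286a806a502110206a1404a90552a266924028506a60a14519954082922a9040656506a5515a5000462699192a85a5192269180a21021a82850666655806a5629258422580a42106918812441548299142aa808890a544846842a1a02141522161515a8aa0212250a80a8a926694554646262aa10642122a8195aa195464621158926008944056a9920a1959298495056406949418215581aa16594014a58819a1680a4124816a994a102a281495445961191951a5811605929242aa66181a18104a068904565491a9812001685a16aaa29245096a948198a2a9082582051900255980290592a2915591a2826a15814640a8400992915018881545a4a2185104441a986621469699861019869698825a184102a6260144524908140648515816656a18852692a50020a260518144aa04105684961690508085a6a8a8014429998589124269a26692828885929820929a60a544590115990994496a989a45290a69998a94a45965962582519695588951908a2aa065582218988608645282481a0148a192220941681405226218a6691219482528099115568a1558a41885a052182696a954621081a299)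
    (Nat.shiftLeft 
    (nat_lit 0x5a82aa56424a124998516229690026a2080659420a8665811621a46a655a855609a1258412868565a2191a61a1160a588a05619854059018a05402490162141969854a42688a2426a219420011148112695a1116408689650504002011559aa0a1052652552801a6651454544291956aaa2686a516648414046284916960a016a2158906a848261501800284694a41850511a15a68025685542860a942aa958964846994101201a51a824218a916458a90006965a1aa256a515a425a560a95890050056195008a2968260a4a445a101a0848052a1992066a802258608905995226a08145505a688968a901aa988598a22268565221495a22a262804950a162882426689100a299062652241981099962645026558066852646119a564509195a9169155281658510926814120299a42562526996005a8859468506621a2852911a56a260204090a6545a69012a065668288a105015692280024028229a8559a8aa1a008210a151204084508964956a26218102824854a15949691a1046160112654650852a2a211468a02159158445811468a985511062a9080a6aa5114121814a95228249666a811594528162625a90002a64a1480522521a96942a5a9194a149425529a8a022a24629548a4156698922a6442094a54a92a826020a1892816642221a4514269055a9840244445954105896609286a650091964241aa2a28aa44496529a622240a264a1aa92645a64528588496440046594a222a0199421a1a4409146a1258980648a892aa1191881a212a984082490206985265a4190a94402489181884624a66a1052a8a942285844529a621a698560665a901904186a9912a415220286681a1aaaa28604a819992500a106625185a8a141a9a0154089629494a80056928210191956569466169292a96a16665649422218690825420966448528559002580865550841064592a09615146488a681848982204029)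
    (nat_lit 5600)))
    (Nat.shiftLeft (Nat.add 
    (nat_lit 0x246542865a490215695a5012424a15400245a4868488090654a29585141054989a60a4a54998a040a91626625a041049640a984481a5a462014a60541560aa1a555405825519941905624941a88296a68489055404121204224161969465949a69815a1a09660104a1961911a889999a65125a458891299aa08a41a02081916a5956a92582625609495050660096a8811008294220180a996a216a5520aa81000114a26a8500a01699050a1154246841280a6155682911819a40681085221008626806a0105101902646292a24649981528a5162512001118944948206999a08a6660945886081992011145940085486614126a11508a68926840155110a22a5521aaa9a45411050544692290149981928424a80991910291141a50122916996250919210aa465869a686196949aaa589664846208668148081024216a489904a10499950059096529015255999a5441204182160a549aa10629a55482598451955948814418aa015696441289494a26a0925940904581182269961946161650119a100250086814181259a8626944a680804866642a0a00582554a00219919a2208a62829a665966608161691660929a26894008105a01a66588a18091859100146a1065800a922915a0214852a490605645824166088864512068a558850920060599488a460a8964a8a194489028688a8959412092140495484126210a6004602611226814094a45a6028a810a0a6299852226452142a111196612854aa0458155580146564960542a61a618895598a45259024a64a5518a6816849a0159a6494105a025a6806616946062a80459a8614a955964a16981248a0856585010682081295841996a94a6441212810a951464109158aa2216a191018a09088969915249445554562424545065608165584981201a10498a42089aa681a8a0aa81425621a21a5648228a6a6aa1991a92641a51a51149440945140158690)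
    (Nat.shiftLeft (Nat.add 
    (nat_lit 0x849905502929aa664a00210054164a8125544684a4969199a99956086160201588498415005025a664090610a12001961a41aaa050a0085112461282440601294a96512a261a0958860891694964a91096a56288581121564244854a1664899a68699851818819005856562aa8059052a982a54a29456181529262408a4a16140606484001a9808108544154459a8114a46805608000985a4a55a0986618115aa94188a5680480881189945a41829a11aa61298a60400252409894425261025181a9820a29045a5969581109698464155551282182540584448a0aa054209a12158482a52406a9a8641502241aa596692548155a6a822054060915208a1a618a06650220a090206490922154aa658561296108448a299245619990a8119a962608a599482494521840944292460264690281448aa65545985a8602998488655991985a910686009605510126924904046a699629aa50256519905a6165842654494898165668a00944560528a48865955119184280a0208814405690441a4222a861a499a912588894546a81819a4221680262561a55951492854969a5942a6242280006481506a16164a20845a4648151a005a0a518648844226506905a18a61a51115294a820999460409a1240560156806845266522115290201a5811a5485592909a2a4a4a2029669a6582660860602019029241a81851a908045a245226118485511815126068048051a6525459a626066812499968569889991a42812a8520244915a818985aa956809a50112a265694506251a0885522580589a885820a029549816265a10168a048605161862a996160189281018158a98a22409a8a284695520619146046a500aa428560955451129929060456456685a60045202a000888265858966a65665992a0a8a2462a24590980512a669964a829229088a945a064998a951884490226009646a581986445440041028660982491)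
    (Nat.shiftLeft 
    (nat_lit 0x89041a94a652029894652620a00842880824a18944858a255851982918058660aa480494926060548440181020a524640866890684455091a2415880a02905918159910159981150a1998424956494095a560591a0a444a20a29142266859968a54a411045860628446926062402590896820410621952596600846a08a290851246154440115044a0444865a6852488595588225818102824408982881828a184848652a01295a888a8a614a65186a069812858486884a451a20600085950481651461456612894028a29150825606501861581458122884522a884046958690a5209426020a28a1481868862014a409a681a050a0862a8a682a5aa122821a108a28618051818551510624a24662266562505460889a45060a5a5258122155820691846a2506210421220a498096a489191a1184866949a88812415896a885020a524892a654525a1646124a242144512a98026082a1911aaaa6099684802058862249552540299118884a580a596260952a6442648a28a02651a1aa426998a220500099662005925a06512a904a004a945065189aaaaaa618146444969255a990a405a2a089a4009446a550042921a18642a48a514a908919421969620968095868289a2a6995905911a10051246954a6429a655a51142a4a242188192914a28886518a448205516186526890a212024914819a90562a188069a99509695a0a02259199a61a08188909252208956a4666189a45089050610454494518a596915669645945a5461226650164a96a62292a1055914021159926595544868846a4490a258549692465590815920986169228656295515680196504a5041542a16898501066656401046a2429805a001804a962a582826580069220551009154aa68565546226285a22269052140460024086a6595206689592505694426aa691442a002926598511a59a49488a89a0a615582241828a1244491a5528)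
    (nat_lit 5600)))
    (nat_lit 5600)))
    (nat_lit 11200)))
    (Nat.shiftLeft (Nat.add (Nat.add 
    (nat_lit 0x8650524258a220166552889919028254121294a6209415aa29a65204428659202122819901a8002466a9059521840626849110595565426550a040a552a559284002a69480a04824695284250600455a2a451692291556a214060482642aaa614218801aa89649001189a6181545528901a64941a1268152620885566048988516aaa198055202400911581012486a01905a122669029265010a918a19524a666566a1488a054040015012921a22882965294161018952a4a2461980988164140225468141815684291514a10026aaa29016655995825885045111a8a49a458280210a496168649a22951442a51628905582208806a8192428944554824451a964860568882a62a2944695a448aa96064060869510a6529940954846159aa0a4a62526a65a26011096858a0584aa22664441689444259564aa419845614251425aa24216a82249a4820120a9a2102aa0408a8509161505a4200a66448029a648a6480688081005090940581a0089840984412aa889440819142128551421522466502018205414826622208821228a9a46a56496964512812106190528289155a16998196a219420a298121548999082980a9549982085809119449a008854922862a42009605845965180215649a14950a44911601266085148a8952588a02655581089866940520892999589019a106505a598aa25266a04089294149080292449192a4a2a59862141091a4425494689a0a20052a19a85594906a50618a585a05a92459225a2a1a69066562054680a1614a01105889101944124a0a588851a824684999a5620484a029020401880881444a14a8998816640a91414469a5240524011a68655215544190191a62a12646a9a5996261a5a5908a555604aa0681542616a2a241928a80144902aa844014840051a62a90601148826889168902618624a0160160665a9605006694a26a156416159608984065042492426)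
    (Nat.shiftLeft (Nat.add 
    (nat_lit 0x860846948012655668a815a488822450118610a65141591429080a249a81a4145186924816899811665a2a69159a846989a82224546541a219289610805a02a64821821105451106989a18951546140a526061989a0a08a92696182985660805282a994aa4554259812461a6a6925605964662558959a41021189410682128941a914840089a4aa106061145a620912560549a221046516a41a8a9a01116a56150812440105516a14619065a41186462802024a9519a886824aaa819a8541488a04525a9a9642964151090986051a562168155054589625a80592840624998480109055a6290a196aa6a888510109015914295a4618064469405422aa616a68a282464a6255aa9906228800089005a28aa66152a5a6a801149a950a50582a5202a8252142a495144901292102614241560286602a089991506a6aa9009069a0101144525519a29992a01a591085225a22445815a8a8809521665a129482800251a405125aaa424696825401806665628980818444a2a949869982a254911896204a0926a496881805969854a4658904584964a841941959418445608499a18916a01a2a6a1285442099158920022110005248482604060298a264a89605a421181115009269658916514122a498a8010229a481a169158629420291945420586189661921848551a25688955a2888826020a2656500a92511986452a1aa021a22a5488120442a9861551665961a22a62611414a4682244864a99445605222142a654694682a00996991006110a609242019252055252126a2606156aa56241a041564264155658a046865496251184448a8845620894264520088165215a19842a56aa968a6984514882a0684044590a4808562480501a41661a50160a84419004412290550801640446265892242a580516849156610aa29a4680a99a0614229615490a020890a5460944156818220a2a0962564545a1082551066a)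
    (Nat.shiftLeft 
    (nat_lit 0x245699804191868a04625599255a9660a182a696812555aa18891299420268286428521168a8466690a294912162a4651219596a98529016a69992066808180469482420619968546a08a5888211569066a494141a1914aa10a810a2004a16a11558808908001552a86824a8512156809141815025596491421125a21011065119601a002542664501a60a562a6629a88514008299a60042a405688a4244259459a02aa10284a6551a062a8859041125a049402a182805686689202816156145156885495442a416a55a96846556a01514651a844418a511414959a21825286a09aa94855110819a8a0511800155265091421845028855599966082208522988284a20a5496065669aa0a2856a9aa09819a88060619a5821115611a191218509498008a5195119148169151041061845a25245a86018646106a9646a8600a20644a00412860a4a82aa101466622a0491264184442962984509968aa094229210111820010089a41a16228aa05a0a0990996a26549259a88115889508549086249294611a881a010166586408115008a949215a5008121880828066a2125a45a45a9198999828144992954592048411804a041a1901a851281166919a146a51266a2888a248a6056491904041062524810210510011822521998946114995222111a5525112495896a082068862a06a6254694514a614890965405aa64689a8402858092695520914aa2a260a040000822802941449649424511464a629440869a21812466512a581261664906a866145a689a62805a609956598059a06919958299a286550200481140a90459286284a80280444a628aa188a6611185524650892450aa22801a009920089906650998aa2051a84051669a2989a22916209546a116550506519259586aa9a09a6250809a4910855266825851a8451980a18096529896410664644029412862645a44820a58020a419825941241000)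
    (nat_lit 5600)))
    (nat_lit 5600)))
    (Nat.shiftLeft (Nat.add 
    (nat_lit 0x8244429826590504a0812100229909991890484a84a20a0a198046a24589144152a2690104592105a10210422699199858266a2951888694156964a9585649a8294199a02408204a294411980244a440a0159061261a944241810a6a09805111a58a085521098946a04a0820901124a1456401a0006688650aa11a55aa460181a2899a1844552a60a9511946564a212a10604a8a544585986422aa64a6522164182994410a1a24401846a6855825948a9542105089506851991922584096658a0a24548096125602928550606a54505286928a41aa0529a609242028489a2904a84a85540a46a055a90a1919a894525a11964660a881628966060a5a1956aa6a05492498946980595a2125068a699262058a40000848450000194468414299611825a45a5610028862a089590018290952a59820099868a182aa589a61180a962850892410459664a900521519618041548509200290615981a2959006269a9220a92a006a4a09a598699a06658952548409a64a96585642106554195aa1a9600a88654902419a48a9905a14a080a9984058a665a8a0628518419502a219226444564261686456521820282502842a548454946500025242886608a915014156016102a58a68689891424610886a5aa5580622055a4660814185aa546619291485aa6108062269882814a8a202401a6291220805898a810aa52680a0a406114542804244520521958629a92a44299281415145882559160a4022062885990a0126159aa60922020200a9242a590589418152046a42110215809aaa41a14850945a845624a54992455520185981818164852099a0a1895461a126069688806a559486840402405141889415008485098a8a28526055a14928015a955608885518922298988225946600511699628a64419946204a80194862668a549211a98958109404a09a582418501a2125699446665691126581a0a40906194804)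
    (Nat.shiftLeft (Nat.add 
    (nat_lit 0x5165655a16a5a6066aa22192008160920a88a0a64285658058804044a4491696055a56169041054656a668502491625a2449551985865602888098951568a8825281291a2868544552008255a2840a12089910181a0681a5901556020696061944526a054992045089010aa40a81408a692946901a48a5998aa1601945a2490a0a281486480915099126864990590a06158510a925195a46a5a40a0540110098a5499098a86851a226919a9469689a99941465629588a51289944111a2529aaa16a0191a60841648166292029892a1005a15656845656229982559448a8998a4a998048188881644024514a9665105a0991891921544180661928856504a6625210242198445269a264a05118266105a81209056096a1969124a555054514658292625545020a005a06825a944220250195602616824890aa1041192a66455a49281a2aa2a45818452a4152a466a8840509808a0981184468459646666a22160806aaa65624402014a89129996540a2669261a50259a9606a4910a090961569992084226155186845a62085519992815921a0640a128584aa980659449016454a510212842922a50a0591460a4914a8118a08621a2a96a05414992800588a45606a4a2491665894491aa68202094a555a2a284a9a69648028990a81951990a2a49161241491a499254824a082a84204454986259001184a2890065186552a1562456289a5602524245602a09209190402a14600966064a12568892424856926456016150280146819999168186181a991455121091642242aaa66aa491924a0258866554a20a1058591288290420440545455a1008420569a198566061961842a2a0580828a591694592202981544266a41055659618800a000646241891a0a2142425246a896185122a944996864a80aa228a05a622a456980696a810a440a481114661628286688018944966912a654414982560a616a891962829)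
    (Nat.shiftLeft 
    (nat_lit 0x8402aa228809a1964050596064805a6a4a9a6191865902a55a996089511805608995465826401458420261a91644022808688825100411900828080498648129584605592204a841a6819509690128182884509912894200515a41468424408a0162951a62a80820a919a48128146421191880058998942691a4910668a208928a25606004a85016902a96112422822916a0659a611446895825951822aa09025628208a40916aa892948292a4a428851105641249980426190198281160a22291a6105a24290805894544502204069021066a1128455a6544168691195691a8661962662016154260454986189462664281118a559601222568641614962a086a681185aa521880a026450089a89595619a506a049a5652a4491424299910010599128a62044448466929051600245241629525595029265249405a9844891108055a15854495092804a946899108110809115898586968469288259029451654889905549a16a6044898518455aa2a016a8649a64410496090026929606028084a6659a08402a426249626251506a0526aaa999a2aa044841621889519a428295880465a98819218a0a0062526a82688a9aa9aa12a89a9a4025a011149255010424959925292581082620644654810618602a04186a8011529802092106a6006569855a1951a521094895250a51a18401a655484829a14a6a2492124a21261041884084449288a668494699502182911295061289490694869a9996aa02a529685119210800248a26a1084611294140a81aa64259109a0a892592664280642250a159182a4594012101a819260020805089651814519829492a8295242652098aa40519502541a82aa48a6425a96416a5629461226210912441964601211569a241828985582245124a61658128114268108645100111a4492a8a20554828588890682)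
    (nat_lit 5600)))
    (nat_lit 5600)))
    (nat_lit 16800)))
    (nat_lit 28000)))
    (nat_lit 61600)))
    = ?xq1 → Nat) ?hq1; (case hq1 => (conv => lhs; whnf)); intro _; exact OfNat.ofNat ?xq1 : Nat)

end Cfsg.Agent.H775.Th
end

-- part: H775/Th/TEl
section
/-!
# An element of order 8 of the Thompson group normalizing `Tg` and `Vs` (helper775)

The matrix of the element is stored (`m_tt`), the values of the other words are those of `H777.Th3.known`; every relation
is its own theorem (memory of the kernel).
-/

set_option autoImplicit false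
set_option Elab.async false
set_option maxRecDepth 100000

namespace Cfsg.Agent.H775.Th

open Cfsg.Agent.Th.Words248 Cfsg.Agent.Th.Gen248 Cfsg.Agent.Th.Hom248 Cfsg.Agent.H777.Th3

/-- the word of the element `t` -/
def w_tt : Wd := .mul (.mul (.mul (.mul (.mul w_gg w_u4) w_u4) w_gg) w_u4) w_gg

/-- words in the stored words and `t` -/
inductive Rx
  | one
  | tt
  | at (a : At)
  | mul (x y : Rx)
  | pow (x : Rx) (n : ℕ)

/-- the word -/
def toW : Rx → Wd
  | .one => .one
  | .tt => w_tt
  | .at a => atW a
  | .mul x y => .mul (toW x) (toW y)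
  | .pow x n => .pow (toW x) n

/-- its value, computed from the stored values -/
noncomputable def evX : Rx → ℕ
  | .one => idm
  | .tt => expd m_tt
  | .at a => atN a
  | .mul x y => Cfsg.Agent.Th.Words248.mul (evX x) (evX y)
  | .pow x n => powN (evX x) n

section bit
open Cfsg.Agent.Th.Bit3

theorem sim_tt : Sim (expd m_tt) (_root_.Cfsg.Agent.Th.Bit3.cmp m_tt) := Sim.expd (by decide +kernel)

/-- `evX` on bit planes -/
noncomputable def evX3 (r : Rx) : ℕ :=
  Rx.rec (motive := fun _ => ℕ) id3 (_root_.Cfsg.Agent.Th.Bit3.cmp m_tt) atZ (fun _ _ x y => mul3 x y) (fun _ n x => pow3 x n) r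

theorem sim_evX (r : Rx) : Sim (evX r) (evX3 r) := by
  induction r with
  | one => exact Sim.one
  | tt => exact sim_tt
  | «at» a => exact sim_at a
  | mul x y hx hy => exact hx.mul hy
  | pow x n hx => exact hx.powN n

theorem simN_evX (r : Rx) : SimN (evX r) (evX3 r) true := ⟨fun _ => sim_evX r⟩

theorem simN_at (a : At) : SimN (atN a) (atZ a) true := ⟨fun _ => sim_at a⟩

end bit

attribute [local instance] simN_evX simN_at

theorem b_tt : Nat.beq (Cfsg.Agent.Th.Words248.mul (Cfsg.Agent.Th.Words248.mul (Cfsg.Agent.Th.Words248.mul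
    (Cfsg.Agent.Th.Words248.mul (Cfsg.Agent.Th.Words248.mul (atN .gg) (atN .u4)) (atN .u4)) (atN .gg))
    (atN .u4)) (atN .gg)) (expd m_tt) = true := by exact Cfsg.Agent.Th.Bit3.yes (by decide +kernel)

theorem val_tt : evN false w_tt = expd m_tt := by
  have hg : evN false w_gg = atN .gg := known .gg
  have hu : evN false w_u4 = atN .u4 := known .u4
  show Cfsg.Agent.Th.Words248.mul (Cfsg.Agent.Th.Words248.mul (Cfsg.Agent.Th.Words248.mul
    (Cfsg.Agent.Th.Words248.mul (Cfsg.Agent.Th.Words248.mul (evN false w_gg) (evN false w_u4)) (evN false w_u4))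
    (evN false w_gg)) (evN false w_u4)) (evN false w_gg) = _
  rw [hg, hu]
  exact Nat.eq_of_beq_eq_true b_tt

theorem evX_eq (r : Rx) : evN false (toW r) = evX r := by
  induction r with
  | one => rfl
  | tt => exact val_tt
  | «at» a => exact known a
  | mul x y hx hy =>
    change Cfsg.Agent.Th.Words248.mul (evN false (toW x)) (evN false (toW y)) = _
    rw [hx, hy]; rfl
  | pow x n hx =>
    change powN (evN false (toW x)) n = _
    rw [hx]; rfl

theorem el_of {x y : Rx} (h : Nat.beq (evX x) (evX y) = true) : el (toW x) = el (toW y) := by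
  refine of_chkL [(toW x, toW y)] ?_ _ (List.mem_singleton.2 rfl)
  show (Bool.rec false true (Nat.beq (evN false (toW x)) (evN false (toW y))) : Bool) = true
  rw [evX_eq, evX_eq, h]

theorem c_u1 : Nat.beq (evX (.mul (.at .u1) .tt)) (evX (.mul (.mul .tt (.at .u1)) (.pow (.at .u2) 2))) = true := by exact Cfsg.Agent.Th.Bit3.yes (by decide +kernel)

theorem c_u2 : Nat.beq (evX (.mul (.at .u2) .tt)) (evX (.mul .tt (.pow (.at .u1) 2))) = true := by exact Cfsg.Agent.Th.Bit3.yes (by decide +kernel)

theorem c_u3 : Nat.beq (evX (.mul (.at .u3) .tt)) (evX (.mul .tt (.at .u3))) = true := by exact Cfsg.Agent.Th.Bit3.yes (by decide +kernel)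

theorem c_u4 : Nat.beq (evX (.mul (.at .u4) .tt)) (evX (.mul (.mul .tt (.pow (.at .u3) 2)) (.pow (.at .u5) 2))) = true := by exact Cfsg.Agent.Th.Bit3.yes (by decide +kernel)

theorem c_u5 : Nat.beq (evX (.mul (.at .u5) .tt)) (evX (.mul (.mul .tt (.at .u3)) (.at .u4))) = true := by exact Cfsg.Agent.Th.Bit3.yes (by decide +kernel)

theorem c_v1 : Nat.beq (evX (.mul (.at .v1) .tt)) (evX (.mul (.mul (.mul .tt (.pow (.at .u1) 2)) (.at .u2)) (.at .v2))) = true := by exact Cfsg.Agent.Th.Bit3.yes (by decide +kernel)

theorem c_v2 : Nat.beq (evX (.mul (.at .v2) .tt)) (evX (.mul (.mul (.mul (.mul .tt (.at .u1)) (.pow (.at .u3) 2)) (.at .v1)) (.pow (.at .v2) 2))) = true := by exact Cfsg.Agent.Th.Bit3.yes (by decide +kernel)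

theorem c_r1 : Nat.beq (evX (.mul (.at .r1) .tt)) (evX (.mul (.mul (.mul (.mul (.mul (.mul (.mul (.mul .tt (.pow (.at .r2) 2)) (.pow (.at .r1) 2)) (.at .v2)) (.pow (.at .v1) 2)) (.pow (.at .u1) 2)) (.pow (.at .u2) 2)) (.at .u4)) (.at .u5))) = true := by exact Cfsg.Agent.Th.Bit3.yes (by decide +kernel)

theorem c_r2 : Nat.beq (evX (.mul (.at .r2) .tt)) (evX (.mul (.mul (.mul (.mul (.mul (.mul (.mul .tt (.pow (.at .r2) 2)) (.at .r1)) (.pow (.at .v2) 2)) (.pow (.at .v1) 2)) (.pow (.at .u1) 2)) (.pow (.at .u3) 2)) (.at .u5))) = true := by exact Cfsg.Agent.Th.Bit3.yes (by decide +kernel)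

theorem c_pow : Nat.beq (evX (.pow .tt 8)) (evX .one) = true := by exact Cfsg.Agent.Th.Bit3.yes (by decide +kernel)

/-- the element `t` -/
def et : Cfsg.Spor.Th := el w_tt

theorem t_u1 : thDat.u1 * et = et * thDat.u1 * thDat.u2 ^ 2 := by
  have h : el (.mul w_u1 w_tt) = el (.mul (.mul w_tt w_u1) (.pow w_u2 2)) := el_of c_u1
  simp only [el_mul, el_pow, el_one] at h
  exact h

theorem t_u2 : thDat.u2 * et = et * thDat.u1 ^ 2 := by
  have h : el (.mul w_u2 w_tt) = el (.mul w_tt (.pow w_u1 2)) := el_of c_u2
  simp only [el_mul, el_pow, el_one] at h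
  exact h

theorem t_u3 : thDat.u3 * et = et * thDat.u3 := by
  have h : el (.mul w_u3 w_tt) = el (.mul w_tt w_u3) := el_of c_u3
  simp only [el_mul, el_pow, el_one] at h
  exact h

theorem t_u4 : thDat.u4 * et = et * thDat.u3 ^ 2 * thDat.u5 ^ 2 := by
  have h : el (.mul w_u4 w_tt) = el (.mul (.mul w_tt (.pow w_u3 2)) (.pow w_u5 2)) := el_of c_u4
  simp only [el_mul, el_pow, el_one] at h
  exact h

theorem t_u5 : thDat.u5 * et = et * thDat.u3 * thDat.u4 := by
  have h : el (.mul w_u5 w_tt) = el (.mul (.mul w_tt w_u3) w_u4) := el_of c_u5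
  simp only [el_mul, el_pow, el_one] at h
  exact h

theorem t_v1 : thDat.v1 * et = et * thDat.u1 ^ 2 * thDat.u2 * thDat.v2 := by
  have h : el (.mul w_v1 w_tt) = el (.mul (.mul (.mul w_tt (.pow w_u1 2)) w_u2) w_v2) := el_of c_v1
  simp only [el_mul, el_pow, el_one] at h
  exact h

theorem t_v2 : thDat.v2 * et = et * thDat.u1 * thDat.u3 ^ 2 * thDat.v1 * thDat.v2 ^ 2 := by
  have h : el (.mul w_v2 w_tt) = el (.mul (.mul (.mul (.mul w_tt w_u1) (.pow w_u3 2)) w_v1) (.pow w_v2 2)) := el_of c_v2
  simp only [el_mul, el_pow, el_one] at h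
  exact h

theorem t_r1 : thDat.r1 * et = et * thDat.r2 ^ 2 * thDat.r1 ^ 2 * thDat.v2 * thDat.v1 ^ 2 * thDat.u1 ^ 2 * thDat.u2 ^ 2 * thDat.u4 * thDat.u5 := by
  have h : el (.mul w_r1 w_tt) = el (.mul (.mul (.mul (.mul (.mul (.mul (.mul (.mul w_tt (.pow w_r2 2)) (.pow w_r1 2)) w_v2) (.pow w_v1 2)) (.pow w_u1 2)) (.pow w_u2 2)) w_u4) w_u5) := el_of c_r1
  simp only [el_mul, el_pow, el_one] at h
  exact h

theorem t_r2 : thDat.r2 * et = et * thDat.r2 ^ 2 * thDat.r1 * thDat.v2 ^ 2 * thDat.v1 ^ 2 * thDat.u1 ^ 2 * thDat.u3 ^ 2 * thDat.u5 := by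
  have h : el (.mul w_r2 w_tt) = el (.mul (.mul (.mul (.mul (.mul (.mul (.mul w_tt (.pow w_r2 2)) w_r1) (.pow w_v2 2)) (.pow w_v1 2)) (.pow w_u1 2)) (.pow w_u3 2)) w_u5) := el_of c_r2
  simp only [el_mul, el_pow, el_one] at h
  exact h

theorem t_pow : et ^ 8 = 1 := by
  have h : el (.pow w_tt 8) = el .one := el_of c_pow
  rw [el_pow, el_one] at h
  exact h

end Cfsg.Agent.H775.Th
end

-- part: H775/Th/Main
section
/-!
# The exotic fusion system over the centralizer of the second centre (helper775)
-/

set_option autoImplicit false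
set_option linter.unusedSimpArgs false

namespace Cfsg.Agent.H775.Th

open Cfsg Cfsg.FusionSystem Cfsg.Agent.H777.Th3 Dat Cfsg.Agent.H802
open Cfsg.Agent.H775 Cfsg.Agent.H759 Cfsg.Agent.H777.Real Cfsg.Agent.H777.Elim

universe u

/-- the relations in the Thompson group -/
theorem tRel : TRel thDat et where
  pow8 := t_pow
  u1 := t_u1
  u2 := t_u2
  u3 := t_u3
  u4 := t_u4
  u5 := t_u5
  v1 := t_v1
  v2 := t_v2
  r1 := t_r1
  r2 := t_r2

/-- the standard Sylow subgroup -/
noncomputable def SylS [Fact (Nat.Prime 3)] : Sylow 3 Cfsg.Spor.Th :=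
  haveI := finTh
  Sylow.ofCard thDat.Sg (by
    have h1 : (Nat.card Cfsg.Spor.Th).factorization 3 = 10 := by
      have h0 : Nat.card Cfsg.Spor.Th ≠ 0 := by rw [card_Th_eq]; norm_num
      apply le_antisymm
      · by_contra h
        push Not at h
        exact not_11 ((Nat.prime_three.pow_dvd_iff_le_factorization h0).2 h)
      · rw [← Nat.prime_three.pow_dvd_iff_le_factorization h0, card_Th_eq]
        norm_num
    rw [card_Sg th_u1_ne, h1])

theorem SylS_coe [Fact (Nat.Prime 3)] : (SylS : Subgroup Cfsg.Spor.Th) = thDat.Sg := rfl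

/-- **the exotic system** -/
theorem main [Fact (Nat.Prime 3)] {P : Type u} [Group P] [Finite P] (T : Sylow 3 Cfsg.Spor.Th)
    (e : P ≃* ↥(T : Subgroup Cfsg.Spor.Th))
    (h5302 : ∀ (H : Type u) [Group H] [Finite H] (A : Subgroup H), IsPGroup 3 A → A ≠ ⊥ →
      (∃ S : Sylow 3 H, IsStronglyClosed A (S : Subgroup H)) →
      (∀ B : Subgroup H, B ≤ A → B ≠ ⊥ → (∃ S : Sylow 3 H, IsStronglyClosed B (S : Subgroup H)) → B = A) →
      3 ∣ A.relIndex (Subgroup.normalClosure (A : Set H)) → IsElementaryAbelian 3 A)
    (helim : ∀ (K : Type u) [Group K] [Finite K] [IsSimpleGroup K], ¬ IsMulCommutative K → Vn 7 K →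
      Elim7.Big7 K) :
    ∃ F : Cfsg.FusionSystem (Subgroup.centralizer ((Subgroup.upperCentralSeries P 2 : Subgroup P) : Set P)),
      F.IsExotic 3 ∧ ¬ F.IsNormal (Subgroup.centralizer ((Subgroup.upperCentralSeries P 2 : Subgroup P) : Set P)) := by
  have := finTh
  -- an embedding with image the standard Sylow subgroup
  obtain ⟨g, hg⟩ := MulAction.exists_smul_eq Cfsg.Spor.Th T SylS
  let f : P →* Cfsg.Spor.Th := (MulAut.conj g).toMonoidHom.comp ((T : Subgroup Cfsg.Spor.Th).subtype.comp e.toMonoidHom)
  have hf : Function.Injective f :=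
    (MulAut.conj g).injective.comp ((Subgroup.subtype_injective _).comp e.injective)
  have hfr : f.range = thDat.Sg := by
    rw [← SylS_coe, ← hg, Sylow.coe_subgroup_smul]
    ext y
    constructor
    · rintro ⟨x, rfl⟩
      exact ⟨e x, (e x).2, rfl⟩
    · rintro ⟨t, ht, rfl⟩
      refine ⟨e.symm ⟨t, ht⟩, ?_⟩
      show g * ((e (e.symm ⟨t, ht⟩) : (T : Subgroup Cfsg.Spor.Th)) : Cfsg.Spor.Th) * g⁻¹ = g * t * g⁻¹
      rw [MulEquiv.apply_symm_apply]
  set C := Subgroup.centralizer ((Subgroup.upperCentralSeries P 2 : Subgroup P) : Set P) with hC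
  have hCf : C.map f = thDat.Tg := map_centralizer th_u1_ne hf hfr
  let k : C →* Cfsg.Spor.Th := f.comp C.subtype
  have hk : Function.Injective k := hf.comp C.subtype_injective
  have hkr : k.range = thDat.Tg := by
    rw [← hCf]
    show (f.comp C.subtype).range = _
    rw [MonoidHom.range_comp, Subgroup.range_subtype]
  obtain ⟨Y, hY⟩ := exists_pull' (hf := hk) (T₁ := (⊤ : Subgroup C))
    (show thDat.Tg = (⊤ : Subgroup C).map k by rw [← hkr, MonoidHom.range_eq_map])
    (Ext.ext tRel.F0 Vs_le_Tg (Phi (D := thDat) th_u1_ne).range)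
  obtain ⟨X, hX⟩ := exists_push' (hf := C.subtype_injective) (T₁ := (⊤ : Subgroup C)) (T₂ := C)
    (by rw [← MonoidHom.range_eq_map, Subgroup.range_subtype]) Y
  refine ⟨X, ⟨?_, ?_⟩, ?_⟩
  · rw [hX.isSaturated_iff, ← hY.isSaturated_iff]
    exact tRel.F_sat th_u1_ne
  · rintro ⟨G, _, _, ι, hreal, S, hS⟩
    refine tRel.not_fus th_u1_ne hk hkr hY ι hreal.1 S hS ?_ h5302 helim
    intro Q φ
    rw [← hX.hom Q φ, hreal.2 (Q.map C.subtype) (by
      rintro _ ⟨x, -, rfl⟩
      exact x.2) (cb C.subtype_injective φ) (by
      intro x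
      obtain ⟨y, rfl⟩ := (eqv C.subtype_injective Q).surjective x
      rw [cb_eqv]
      exact (φ y).2)]
    constructor
    · rintro ⟨g, hg⟩
      refine ⟨g, fun x => ?_⟩
      have h2 := hg (eqv C.subtype_injective Q x)
      have h3 : (⟨cb C.subtype_injective φ (eqv C.subtype_injective Q x), by
        rw [cb_eqv]
        exact (φ x).2⟩ : C) = φ x := Subtype.ext (cb_eqv C.subtype_injective φ x)
      rw [h3] at h2
      exact h2
    · rintro ⟨g, hg⟩
      refine ⟨g, fun x => ?_⟩
      obtain ⟨y, rfl⟩ := (eqv C.subtype_injective Q).surjective x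
      have h3 : (⟨cb C.subtype_injective φ (eqv C.subtype_injective Q y), by
        rw [cb_eqv]
        exact (φ y).2⟩ : C) = φ y := Subtype.ext (cb_eqv C.subtype_injective φ y)
      rw [h3]
      exact hg y
  · intro hn
    have h2 : X.IsNormal ((⊤ : Subgroup C).map C.subtype) := by
      rw [← MonoidHom.range_eq_map, Subgroup.range_subtype]
      exact hn
    have h3 := hY.isNormal_iff.2 (hX.isNormal_iff.1 h2)
    have h4 := tRel.normal_eq_bot th_u1_ne h3
    rw [← MonoidHom.range_eq_map, hkr] at h4
    have h5 : thDat.u1 ∈ thDat.Tg := thDat.U_le_Tg thDat.u1_mem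
    rw [h4, Subgroup.mem_bot] at h5
    exact th_u1_ne h5

end Cfsg.Agent.H775.Th
end

-- part: H953/SevenOrth
section
/-!
# Orthogonal rows of `H775.Elim7.Row7` (helper953, task 1310, S5231)
-/

set_option autoImplicit false

namespace Cfsg.Agent.H953.SevenOrth

open Cfsg Cfsg.Agent.H775.Elim7 Cfsg.Agent.H777.Elim Cfsg.Agent.H953.SevenRows

/-- a subgroup `SL₂(q)` of the isometry group, `q ≥ 8`, gives an element of order 9 -/
theorem big7_iso {F : Type*} [Field F] [Fintype F] (h3 : (3 : F) ≠ 0) (h9 : 9 ∣ Nat.card F ^ 2 - 1)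
    {H : Type*} [Group H] (f : Matrix.SpecialLinearGroup (Fin 2) F →* H) (hf : Function.Injective f) :
    Big7 (commutator H ⧸ Subgroup.center (commutator H)) := by
  have h4 : 4 ≤ Fintype.card F := by
    by_contra hlt
    have h1 : 1 < Nat.card F := Finite.one_lt_card
    rw [Nat.card_eq_fintype_card] at h1 h9
    have h5 : Fintype.card F = 2 ∨ Fintype.card F = 3 := by omega
    rcases h5 with h5 | h5 <;> rw [h5] at h9 <;> revert h9 <;> decide
  have h1 : ∀ x, f x ∈ commutator H := by
    intro x
    have hx : f x ∈ (commutator (Matrix.SpecialLinearGroup (Fin 2) F)).map f :=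
      ⟨x, by rw [Cfsg.Agent.H376.WordEmb.sl_two_perfect F h4]; trivial, rfl⟩
    rw [commutator_def, Subgroup.map_commutator] at hx
    rw [commutator_def]
    exact Subgroup.commutator_mono le_top le_top hx
  exact big7_sl h3 h9 (f.codRestrict _ h1) fun a b hab => hf (congrArg Subtype.val hab)

/-! ### arithmetic -/

section Num

theorem half {x : ℕ} (hx : 2 ≤ x) :
    ((x - 1).factorization 3 = 0 ∨ (x - 1).factorization 3 = (x ^ 2 - 1).factorization 3) ∧
      ((x + 1).factorization 3 = 0 ∨ (x + 1).factorization 3 = (x ^ 2 - 1).factorization 3) := by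
  have h1 : (x ^ 2 - 1).factorization 3 = (x + 1).factorization 3 + (x - 1).factorization 3 := by
    rw [sq_eq, Nat.factorization_mul (by omega) (by omega), Finsupp.add_apply]
  by_cases h : 3 ∣ x - 1
  · have h2 : (x + 1).factorization 3 = 0 := Nat.factorization_eq_zero_of_not_dvd (by omega)
    exact ⟨Or.inr (by omega), Or.inl h2⟩
  · have h2 : (x - 1).factorization 3 = 0 := Nat.factorization_eq_zero_of_not_dvd h
    exact ⟨Or.inl h2, Or.inr (by omega)⟩

/-- the product -/
def pr (q m : ℕ) : ℕ := ∏ i ∈ Finset.range m, (q ^ (2 * (i + 1)) - 1)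

variable {q : ℕ}

theorem pr_ne (hq : 1 < q) (m : ℕ) : pr q m ≠ 0 := by
  unfold pr
  rw [Finset.prod_ne_zero_iff]
  intro i _
  have : 1 < q ^ (2 * (i + 1)) := one_lt_pow₀ hq (by omega)
  omega

theorem three_sq (hq3 : ¬ 3 ∣ q) : 3 ∣ q ^ 2 - 1 := by
  rw [sq_eq]
  rcases (show q % 3 = 1 ∨ q % 3 = 2 by omega) with h | h
  · exact Dvd.dvd.mul_left (by omega) _
  · exact Dvd.dvd.mul_right (by omega) _

theorem fac_pr (hq : 1 < q) (hq3 : ¬ 3 ∣ q) (h9 : ¬ 9 ∣ q ^ 2 - 1) (m : ℕ) :
    (pr q m).factorization 3 = m + m.factorial.factorization 3 := by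
  unfold pr
  rw [Cfsg.Agent.H978.ThreeTor.fact_prod hq (fun h => hq3 (by exact_mod_cast h)), fac_one (three_sq hq3) h9, mul_one]

theorem pr_succ (m : ℕ) : (pr q (m + 1)) = pr q m * ((q ^ (m + 1)) ^ 2 - 1) := by
  unfold pr
  rw [Finset.prod_range_succ, ← pow_mul, mul_comm (m + 1) 2]

/-- no order with 3-part `3 ^ 7` -/
theorem no_order (hq : 1 < q) (hq3 : ¬ 3 ∣ q) (h9 : ¬ 9 ∣ q ^ 2 - 1) {m d N n y : ℕ} (hm : 1 ≤ m)
    (hy : y = q ^ m - 1 ∨ y = q ^ m + 1) (hd : ¬ 3 ∣ d)
    (h : d * N = q ^ n * y * pr q (m - 1)) (hN : N.factorization 3 = 7) : False := by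
  obtain ⟨k, rfl⟩ : ∃ k, m = k + 1 := ⟨m - 1, by omega⟩
  rw [Nat.add_sub_cancel] at h
  have hq1 : 2 ≤ q ^ (k + 1) := by
    have := Nat.one_lt_pow (n := k + 1) (by omega) hq
    omega
  have hy0 : y ≠ 0 := by omega
  have h1 : y.factorization 3 = 0 ∨ y.factorization 3 = ((q ^ (k + 1)) ^ 2 - 1).factorization 3 := by
    rcases hy with rfl | rfl
    · exact (half hq1).1
    · exact (half hq1).2
  have hN0 : N ≠ 0 := by
    rintro rfl
    simp at hN
  have hd0 : d ≠ 0 := by rintro rfl; exact hd (dvd_zero _)
  have h2 := congrArg (fun k : ℕ => k.factorization 3) h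
  rw [Nat.factorization_mul hd0 hN0, Nat.factorization_mul (mul_ne_zero (pow_ne_zero _ (by omega)) hy0) (pr_ne hq k),
    Nat.factorization_mul (pow_ne_zero _ (by omega)) hy0, Nat.factorization_pow] at h2
  simp only [Finsupp.add_apply, Finsupp.smul_apply, smul_eq_mul, Nat.factorization_eq_zero_of_not_dvd hq3,
    Nat.factorization_eq_zero_of_not_dvd hd, mul_zero, zero_add] at h2
  have h3 := fac_pr hq hq3 h9 k
  have h4 := fac_pr hq hq3 h9 (k + 1)
  have h5 : ((q ^ (k + 1)) ^ 2 - 1) ≠ 0 := by
    have : 1 < (q ^ (k + 1)) ^ 2 := Nat.one_lt_pow (by norm_num) (by omega)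
    omega
  rw [pr_succ, Nat.factorization_mul (pr_ne hq k) h5, Finsupp.add_apply] at h4
  have h6 := no7 k
  have h7 := no7 (k + 1)
  rcases h1 with h1 | h1 <;> (clear * - hN hm h2 h3 h4 h6 h7 h1; omega)

end Num

section rows

variable {F : Type} [Field F] [Fintype F]

theorem not_three (h3 : (3 : F) ≠ 0) : ¬ 3 ∣ Fintype.card F := fun h =>
  Cfsg.Agent.H978.ThreeTor.three_not_dvd h3 (by exact_mod_cast h)

theorem fac7 {K : Type*} [Group K] (hV : Vn 7 K) : (Nat.card K).factorization 3 = 7 :=
  Cfsg.Agent.H325.RowPSU.fac_eq hV.1 hV.2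

/-- **`Ω_{2m+1}(q)`** -/
theorem row7_oodd {m : ℕ} (hm : 3 ≤ m) (ho : Odd (Fintype.card F)) (h3 : (3 : F) ≠ 0) :
    Row7 (POmega F (quadFormOdd m F)) := by
  intro hV
  by_cases h9 : 9 ∣ Nat.card F ^ 2 - 1
  · obtain ⟨f, hf⟩ := Cfsg.Agent.H376.WordEmb.sl_two_sl (F := F) m (by omega)
    obtain ⟨g, hg⟩ := Cfsg.Agent.H376.WordEmb.sl_odd (F := F) m
    exact big7_iso h3 h9 (g.comp f) (hg.comp hf)
  exfalso
  have hq : 1 < Fintype.card F := Fintype.one_lt_card
  have hq3 := not_three h3
  rw [Nat.card_eq_fintype_card] at h9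
  have h1 := Cfsg.Agent.S0292.result (F := F) rfl ho m hm
  have h2 := congrArg (fun k : ℕ => k.factorization 3) h1
  have hN := fac7 hV
  have hN0 : Nat.card (POmega F (quadFormOdd m F)) ≠ 0 := by
    intro h
    rw [h] at hN
    simp at hN
  change (2 * Nat.card (POmega F (quadFormOdd m F))).factorization 3 =
    (Fintype.card F ^ (m ^ 2) * pr (Fintype.card F) m).factorization 3 at h2
  rw [Nat.factorization_mul (by norm_num) hN0, Nat.factorization_mul (pow_ne_zero _ (by omega)) (pr_ne hq m),
    Nat.factorization_pow] at h2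
  simp only [Finsupp.add_apply, Finsupp.smul_apply, smul_eq_mul, Nat.factorization_eq_zero_of_not_dvd hq3,
    Nat.factorization_eq_zero_of_not_dvd (show ¬ 3 ∣ 2 by norm_num), mul_zero, zero_add] at h2
  rw [fac_pr hq hq3 h9, hN] at h2
  exact no7 m h2.symm

/-- **`PΩ⁺_{2m}(q)`** -/
theorem row7_oplus {m : ℕ} (hm : 4 ≤ m) (h3 : (3 : F) ≠ 0) : Row7 (POmega F (quadFormPlus m F)) := by
  intro hV
  by_cases h9 : 9 ∣ Nat.card F ^ 2 - 1
  · obtain ⟨f, hf⟩ := Cfsg.Agent.H376.WordEmb.sl_two_sl (F := F) m (by omega)
    obtain ⟨g, hg⟩ := Cfsg.Agent.H376.WordEmb.sl_plus (F := F) m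
    exact big7_iso h3 h9 (g.comp f) (hg.comp hf)
  exfalso
  rw [Nat.card_eq_fintype_card] at h9
  refine no_order Fintype.one_lt_card (not_three h3) h9 (m := m) (by omega) (Or.inl rfl) (fun h => ?_)
    (Cfsg.Agent.S0293.result (F := F) rfl m hm) (fac7 hV)
  have h5 := h.trans (Nat.gcd_dvd_left 4 _)
  omega

/-- **`PΩ⁻_{2m}(q)`** -/
theorem row7_ominus {m : ℕ} (hm : 4 ≤ m) {a b : F}
    (hab : ∀ z₁ z₂ : F, z₁ ^ 2 + a * z₁ * z₂ + b * z₂ ^ 2 = 0 → z₁ = 0 ∧ z₂ = 0) (h3 : (3 : F) ≠ 0) :
    Row7 (POmega F (quadFormMinus (m - 1) F a b)) := by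
  intro hV
  by_cases h9 : 9 ∣ Nat.card F ^ 2 - 1
  · obtain ⟨f, hf⟩ := Cfsg.Agent.H376.WordEmb.sl_two_sl (F := F) (m - 1) (by omega)
    obtain ⟨g, hg⟩ := Cfsg.Agent.H376.WordEmb.sl_minus (F := F) (m - 1) a b
    exact big7_iso h3 h9 (g.comp f) (hg.comp hf)
  exfalso
  rw [Nat.card_eq_fintype_card] at h9
  refine no_order Fintype.one_lt_card (not_three h3) h9 (m := m) (by omega) (Or.inr rfl) (fun h => ?_)
    (Cfsg.Agent.S0294.result (F := F) rfl m hm a b hab) (fac7 hV)
  have h5 := h.trans (Nat.gcd_dvd_left 4 _)
  omega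

end rows

end Cfsg.Agent.H953.SevenOrth
end

-- part: H953/SevenExc
section
/-!
# Exceptional rows of `H775.Elim7.Row7` (helper953, task 1311, S5231)
-/

set_option autoImplicit false

namespace Cfsg.Agent.H953.SevenExc

open Subgroup Cfsg Cfsg.Lie
open Cfsg.Agent.H777.Elim (Vn)
open Cfsg.Agent.H775.Elim7 (Big7 Row7)
open Cfsg.Agent.H984.ThreeExc
open Cfsg.Agent.H356.SLTorus (exists_order)

section Groups

open Cfsg.Agent.ChevalleyStructure Cfsg.Agent.ChevalleyStructure.Elts Cfsg.Agent.H92.ExcSL2

variable {F : Type*} [Field F] [Fintype F]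

/-- an element of order 9 of a root `SL₂` -/
theorem big7_chev {D : ChevalleyDatum} (hD : InList D) (h3 : (3 : F) ≠ 0) (hm : 3 ^ 2 ∣ Nat.card F ^ 2 - 1)
    {r : ℕ} (hr : r < D.nroots) : Big7 ↥(D.group F) := by
  obtain ⟨y, hy⟩ := exists_order h3 hm
  refine Or.inr ⟨ph hD hr y, ?_⟩
  apply Nat.dvd_antisymm
  · have := orderOf_map_dvd (ph hD hr) y
    rwa [hy] at this
  · have h1 : ph hD hr (y ^ orderOf (ph hD hr y)) = 1 := by rw [map_pow, pow_orderOf_eq_one]
    have h2 : (y ^ orderOf (ph hD hr y)) ^ 2 = 1 := by
      rcases ph_eq_one hD hr h1 with h | h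
      · rw [h, one_pow]
      · rw [h, neg_one_sq]
    rw [← pow_mul] at h2
    have h4 := orderOf_dvd_of_pow_eq_one h2
    rw [hy] at h4
    have h5 : Nat.Coprime (3 ^ 2) 2 := by norm_num
    exact h5.dvd_of_dvd_mul_right h4

theorem row7_G2 (h3 : (3 : F) ≠ 0) : Row7 ↥(chevG2.group F) := by
  intro hV
  have hv := val_of_Vn hV
  have hq : 1 < Fintype.card F := Fintype.one_lt_card
  have hd := not_dvd_card h3
  rw [Cfsg.Agent.S1059.result (F := F) rfl] at hv
  have h := ((hv_pow hq hd 6).mul (hv_even hq hd 1 2 0 one_ne_zero rfl val_1)).mul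
    (hv_even hq hd 3 6 1 (by norm_num) rfl val_3)
  have h2 := h.2
  refine big7_chev (by simp) h3 ?_ (r := 0) (by decide +kernel)
  rw [Nat.card_eq_fintype_card]
  exact dvd_of_val hq (by omega)

theorem row7_F4 (h3 : (3 : F) ≠ 0) : Row7 ↥(chevF4.group F) := by
  intro hV
  exfalso
  have hv := val_of_Vn hV
  have hq : 1 < Fintype.card F := Fintype.one_lt_card
  have hd := not_dvd_card h3
  rw [Cfsg.Agent.S1062.result (F := F) rfl] at hv
  have h := ((((hv_pow hq hd 24).mul (hv_even hq hd 1 2 0 one_ne_zero rfl val_1)).mul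
    (hv_even hq hd 3 6 1 (by norm_num) rfl val_3)).mul (hv_even hq hd 4 8 0 (by norm_num) rfl val_4)).mul
    (hv_even hq hd 6 12 1 (by norm_num) rfl val_6)
  have h2 := h.2
  omega

theorem row7_E6 (h3 : (3 : F) ≠ 0) : Row7 ↥(chevE6.group F) := by
  intro hV
  exfalso
  have hv := val_of_Vn hV
  have hq : 1 < Fintype.card F := Fintype.one_lt_card
  have hd := not_dvd_card h3
  have hN : HV (Nat.card ↥(chevE6.group F)) 7 := ⟨Nat.card_pos.ne', hv⟩
  have hc := Cfsg.Agent.S1063.result (F := F) rfl
  have hm : Fintype.card F % 3 = 1 ∨ Fintype.card F % 3 = 2 := by omega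
  rcases hm with hm | hm
  · rw [gcd_three, if_pos (by omega)] at hc
    have h1 : HV (3 * Nat.card ↥(chevE6.group F)) (1 + 7) := HV.mul ⟨by norm_num, val_3⟩ hN
    have h := ((((((hv_pow hq hd 36).mul (hv_even hq hd 1 2 0 one_ne_zero rfl val_1)).mul
      (⟨ne_zero hq (by norm_num), by rw [val_one hq hm (by norm_num), val_5]⟩ :
        HV (Fintype.card F ^ 5 - 1) (padicValNat 3 (Fintype.card F ^ 2 - 1) + 0))).mul
      (hv_even hq hd 3 6 1 (by norm_num) rfl val_3)).mul (hv_even hq hd 4 8 0 (by norm_num) rfl val_4)).mul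
      (⟨ne_zero hq (by norm_num), by rw [val_one hq hm (by norm_num), val_9]⟩ :
        HV (Fintype.card F ^ 9 - 1) (padicValNat 3 (Fintype.card F ^ 2 - 1) + 2))).mul
      (hv_even hq hd 6 12 1 (by norm_num) rfl val_6)
    rw [hc] at h1
    have h2 := h.2
    have h3 := h1.2
    omega
  · rw [gcd_three, if_neg (by omega), one_mul] at hc
    have h1 := hN
    have h := ((((((hv_pow hq hd 36).mul (hv_even hq hd 1 2 0 one_ne_zero rfl val_1)).mul
      (⟨ne_zero hq (by norm_num), val_sub_zero hm (by decide)⟩ : HV (Fintype.card F ^ 5 - 1) 0)).mul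
      (hv_even hq hd 3 6 1 (by norm_num) rfl val_3)).mul (hv_even hq hd 4 8 0 (by norm_num) rfl val_4)).mul
      (⟨ne_zero hq (by norm_num), val_sub_zero hm (by decide)⟩ : HV (Fintype.card F ^ 9 - 1) 0)).mul
      (hv_even hq hd 6 12 1 (by norm_num) rfl val_6)
    rw [hc] at h1
    have h2 := h.2
    have h3' := h1.2
    omega

theorem row7_E7 (h3 : (3 : F) ≠ 0) : Row7 ↥(chevE7.group F) := by
  intro hV
  exfalso
  have hv := val_of_Vn hV
  have hq : 1 < Fintype.card F := Fintype.one_lt_card
  have hd := not_dvd_card h3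
  have hN : HV (Nat.card ↥(chevE7.group F)) 7 := ⟨Nat.card_pos.ne', hv⟩
  have hc := Cfsg.Agent.S1064.result (F := F) rfl
  have hg0 : HV (Nat.gcd 2 (Fintype.card F - 1)) 0 := by
    have h2 : Nat.gcd 2 (Fintype.card F - 1) = 1 ∨ Nat.gcd 2 (Fintype.card F - 1) = 2 :=
      (Nat.dvd_prime Nat.prime_two).1 (Nat.gcd_dvd_left _ _)
    rcases h2 with h2 | h2
    · rw [h2]; exact ⟨one_ne_zero, val_1⟩
    · rw [h2]; exact ⟨two_ne_zero, val_2⟩
  have h := (((((((hv_pow hq hd 63).mul (hv_even hq hd 1 2 0 one_ne_zero rfl val_1)).mul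
    (hv_even hq hd 3 6 1 (by norm_num) rfl val_3)).mul (hv_even hq hd 4 8 0 (by norm_num) rfl val_4)).mul
    (hv_even hq hd 5 10 0 (by norm_num) rfl val_5)).mul (hv_even hq hd 6 12 1 (by norm_num) rfl val_6)).mul
    (hv_even hq hd 7 14 0 (by norm_num) rfl val_7)).mul (hv_even hq hd 9 18 2 (by norm_num) rfl val_9)
  have h1 := hg0.mul hN
  rw [hc] at h1
  have h2 := h.2
  have h3 := h1.2
  have h4 := one_le_val hq hd
  omega

theorem row7_E8 (h3 : (3 : F) ≠ 0) : Row7 ↥(chevE8.group F) := by
  intro hV
  exfalso
  have hv := val_of_Vn hV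
  have hq : 1 < Fintype.card F := Fintype.one_lt_card
  have hd := not_dvd_card h3
  rw [Cfsg.Agent.S1065.result (F := F) rfl] at hv
  have h := ((((((((hv_pow hq hd 120).mul (hv_even hq hd 1 2 0 one_ne_zero rfl val_1)).mul
    (hv_even hq hd 4 8 0 (by norm_num) rfl val_4)).mul (hv_even hq hd 6 12 1 (by norm_num) rfl val_6)).mul
    (hv_even hq hd 7 14 0 (by norm_num) rfl val_7)).mul (hv_even hq hd 9 18 2 (by norm_num) rfl val_9)).mul
    (hv_even hq hd 10 20 0 (by norm_num) rfl val_10)).mul (hv_even hq hd 12 24 1 (by norm_num) rfl val_12)).mul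
    (hv_even hq hd 15 30 1 (by norm_num) rfl val_15)
  have h2 := h.2
  have h4 := one_le_val hq hd
  omega

end Groups

theorem row7_twE6 {K : Type*} [Field K] [Fintype K] {q : ℕ} (hq : IsPrimePow q) (hK : Fintype.card K = q ^ 2)
    (h3 : (3 : K) ≠ 0) : Row7 ↥(twistedE6 K q) := by
  intro hV
  exfalso
  have hv := val_of_Vn hV
  have hq1 : 1 < q := hq.one_lt
  have hd := not_dvd_of_card hK two_ne_zero h3
  have hN : HV (Nat.card ↥(twistedE6 K q)) 7 := ⟨Nat.card_pos.ne', hv⟩
  have hc := Cfsg.Agent.S1066.result hq hK
  have hm : q % 3 = 1 ∨ q % 3 = 2 := by omega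
  rcases hm with hm | hm
  · rw [gcd_three, if_neg (by omega), one_mul] at hc
    have h1 := hN
    have h := ((((((hv_pow hq1 hd 36).mul (hv_even hq1 hd 1 2 0 one_ne_zero rfl val_1)).mul
      (⟨by omega, val_add_zero hm _⟩ : HV (q ^ 5 + 1) 0)).mul
      (hv_even hq1 hd 3 6 1 (by norm_num) rfl val_3)).mul (hv_even hq1 hd 4 8 0 (by norm_num) rfl val_4)).mul
      (⟨by omega, val_add_zero hm _⟩ : HV (q ^ 9 + 1) 0)).mul
      (hv_even hq1 hd 6 12 1 (by norm_num) rfl val_6)
    rw [hc] at h1
    have h2 := h.2
    have h3' := h1.2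
    omega
  · rw [gcd_three, if_pos (by omega)] at hc
    have h1 : HV (3 * Nat.card ↥(twistedE6 K q)) (1 + 7) := HV.mul ⟨by norm_num, val_3⟩ hN
    have h := ((((((hv_pow hq1 hd 36).mul (hv_even hq1 hd 1 2 0 one_ne_zero rfl val_1)).mul
      (⟨by omega, by rw [val_two hq1 hm (by decide), val_5]⟩ : HV (q ^ 5 + 1) (padicValNat 3 (q ^ 2 - 1) + 0))).mul
      (hv_even hq1 hd 3 6 1 (by norm_num) rfl val_3)).mul (hv_even hq1 hd 4 8 0 (by norm_num) rfl val_4)).mul
      (⟨by omega, by rw [val_two hq1 hm (by decide), val_9]⟩ : HV (q ^ 9 + 1) (padicValNat 3 (q ^ 2 - 1) + 2))).mul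
      (hv_even hq1 hd 6 12 1 (by norm_num) rfl val_6)
    rw [hc] at h1
    have h2 := h.2
    have h3' := h1.2
    omega

theorem row7_twD4 {K : Type*} [Field K] [Fintype K] {q : ℕ} (hq : IsPrimePow q) (hK : Fintype.card K = q ^ 3)
    (h3 : (3 : K) ≠ 0) : Row7 ↥(twistedD4 K q) := by
  intro hV
  exfalso
  have hv := val_of_Vn hV
  have hq1 : 1 < q := hq.one_lt
  have hd := not_dvd_of_card hK three_ne_zero h3
  obtain ⟨k, hk⟩ := three_dvd hd
  have h8 : HV (q ^ 8 + q ^ 4 + 1) 1 := by
    have e2 : q ^ 2 = 3 * k + 1 := by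
      have := Nat.one_lt_pow two_ne_zero hq1
      omega
    have e8 : q ^ 8 + q ^ 4 + 1 = 3 * (3 * (9 * k ^ 4 + 12 * k ^ 3 + 7 * k ^ 2 + 2 * k) + 1) := by
      have h1 : q ^ 8 + q ^ 4 + 1 = (3 * k + 1) ^ 4 + (3 * k + 1) ^ 2 + 1 := by rw [← e2]; ring
      rw [h1]; ring
    rw [e8]
    exact HV.mul (k := 1) (l := 0) ⟨by norm_num, val_3⟩ ⟨by omega, padicValNat.eq_zero_of_not_dvd (by omega)⟩
  have h := (((hv_pow hq1 hd 12).mul (hv_even hq1 hd 1 2 0 one_ne_zero rfl val_1)).mul
    (hv_even hq1 hd 3 6 1 (by norm_num) rfl val_3)).mul h8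
  rw [Cfsg.Agent.S1067.result hq hK] at hv
  have h2 := h.2
  omega

theorem row7_twF4 {F : Type*} [Field F] [Fintype F] {m : ℕ} (hK : Fintype.card F = 2 ^ (2 * m + 1)) :
    Row7 ↥(twistedF4 F (2 ^ m)) := by
  intro hV
  have hv := val_of_Vn hV
  obtain ⟨j, hj⟩ := Cfsg.Agent.H680.CritExc.two_pow_odd m
  rw [Cfsg.Agent.S1068.result hK] at hv
  have hq1 : 1 < 2 ^ (2 * m + 1) := Nat.one_lt_pow (by omega) (by norm_num)
  have h9 : 9 ∣ 2 ^ (2 * m + 1) + 1 := by
    generalize 2 ^ (2 * m + 1) = q at *
    have hd : ¬ 3 ∣ q := by omega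
    have hm : q % 3 = 2 := by omega
    have h := ((((hv_pow hq1 hd 12).mul (⟨by omega, padicValNat.eq_zero_of_not_dvd (by omega)⟩ : HV (q - 1) 0)).mul
      (⟨by omega, by rw [val_two hq1 hm (by decide), val_3]⟩ : HV (q ^ 3 + 1) (padicValNat 3 (q ^ 2 - 1) + 1))).mul
      (hv_even hq1 hd 2 4 0 (by norm_num) rfl val_2)).mul
      (⟨by omega, by
        apply padicValNat.eq_zero_of_not_dvd
        have : q ^ 6 % 3 = 1 := by
          rw [Nat.pow_mod, hm]
        omega⟩ : HV (q ^ 6 + 1) 0)
    have h2 := h.2
    have h4 : 3 ^ 2 ∣ (q + 1) * (q - 1) := by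
      rw [← Cfsg.Agent.H953.SevenRows.sq_eq]
      exact dvd_of_val hq1 (by omega)
    refine Nat.Coprime.dvd_of_dvd_mul_right (k := 9) (m := q + 1) (n := q - 1) ?_ h4
    exact (Nat.Prime.coprime_iff_not_dvd Nat.prime_three).2 (by omega) |>.pow_left 2
  obtain ⟨g, hg, hg3⟩ := Cfsg.Agent.H631.TwF4Nine.exists_nine_of_card hK h9
  refine Or.inr ⟨g, ?_⟩
  exact orderOf_eq_prime_pow (p := 3) (n := 1) (by simpa only [_root_.pow_one, _root_.ne_eq] using hg3) (by simpa only [_root_.Nat.reduceAdd, _root_.Nat.reducePow] using hg)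

/-- The exceptional rows. -/
structure Exc : Prop where
  g2 : ∀ {F : Type} [Field F] [Fintype F], (3 : F) ≠ 0 → Row7 ↥(Lie.chevG2.group F)
  f4 : ∀ {F : Type} [Field F] [Fintype F], (3 : F) ≠ 0 → Row7 ↥(Lie.chevF4.group F)
  e6 : ∀ {F : Type} [Field F] [Fintype F], (3 : F) ≠ 0 → Row7 ↥(Lie.chevE6.group F)
  e7 : ∀ {F : Type} [Field F] [Fintype F], (3 : F) ≠ 0 → Row7 ↥(Lie.chevE7.group F)
  e8 : ∀ {F : Type} [Field F] [Fintype F], (3 : F) ≠ 0 → Row7 ↥(Lie.chevE8.group F)
  te6 : ∀ {F : Type} [Field F] [Fintype F] {q : ℕ}, IsPrimePow q → Fintype.card F = q ^ 2 → (3 : F) ≠ 0 →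
    Row7 ↥(Lie.twistedE6 F q)
  td4 : ∀ {F : Type} [Field F] [Fintype F] {q : ℕ}, IsPrimePow q → Fintype.card F = q ^ 3 → (3 : F) ≠ 0 →
    Row7 ↥(Lie.twistedD4 F q)
  tf4 : ∀ {F : Type} [Field F] [Fintype F] {m : ℕ}, 1 ≤ m → Fintype.card F = 2 ^ (2 * m + 1) →
    Row7 ↥(Lie.twistedF4 F (2 ^ m))

theorem row7_exc : Exc where
  g2 := row7_G2
  f4 := row7_F4
  e6 := row7_E6
  e7 := row7_E7
  e8 := row7_E8
  te6 := row7_twE6
  td4 := row7_twD4
  tf4 := fun _ => row7_twF4

end Cfsg.Agent.H953.SevenExc
end

-- part: H953/SevenSpor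
section
/-!
# Elements of order 9 in `Suz`, `Co₃`, `Ly` (helper953, task 1312, S5231)
-/

set_option autoImplicit false
set_option maxRecDepth 20000

namespace Cfsg.Agent.H953.SevenSpor

open Cfsg Cfsg.Agent.H775.Elim7

universe u

/-! ### `Suz` -/

section Suz

open Cfsg.Spor Cfsg.Agent.SporRec.SuzPerm

/-- the word -/
def w : List Suz.Gen := [.e, .a, .b, .c, .d, .a, .g, .b, .g, .f]

/-- the third power -/
def w3 : List Suz.Gen := w ++ (w ++ w)

/-- the ninth power -/
def w9 : List Suz.Gen := w3 ++ (w3 ++ w3)

theorem w3_ne : Nat.beq (tr w3 282) 282 = false := by decide +kernel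

theorem w9_eq : Nat.beq (tr w9 282) 282 = true := by decide +kernel

/-- the generators -/
def x (i : Suz.Gen) : Suz := PresentedGroup.mk (coxRelators Suz.edges ∪ {r | r ∈ Suz.extra}) (FreeGroup.of i)

/-- the element -/
def y : Suz := (w.map x).prod

theorem φ_y : φ y = (w.map gen).prod := by
  rw [y, map_list_prod, List.map_map]
  congr 1

theorem nine_dvd : 9 ∣ orderOf y := by
  have h3 : ¬ (φ y ^ 3) ⟨282, by norm_num⟩ = ⟨282, by norm_num⟩ := by
    have e : φ y ^ 3 = (w3.map gen).prod := by
      rw [w3, List.map_append, List.map_append, List.prod_append, List.prod_append, ← φ_y, ← mul_assoc, ← pow_two,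
        ← pow_succ]
    rw [e]
    intro h
    have h1 := congrArg Fin.val h
    rw [prod_val] at h1
    have h2 := w3_ne
    rw [h1] at h2
    exact absurd h2 (by decide)
  have h9 : (φ y ^ 9) ⟨282, by norm_num⟩ = ⟨282, by norm_num⟩ := by
    have e : φ y ^ 9 = (w9.map gen).prod := by
      rw [w9, List.map_append, List.map_append, List.prod_append, List.prod_append, w3, List.map_append,
        List.map_append, List.prod_append, List.prod_append, ← φ_y]
      simp only [pow_succ, pow_zero, one_mul, mul_assoc]
    rw [e]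
    apply Fin.ext
    rw [prod_val]
    exact Nat.eq_of_beq_eq_true w9_eq
  have : Fact (Nat.Prime 3) := ⟨Nat.prime_three⟩
  have h1 : Function.minimalPeriod (⇑(φ y)) (⟨282, by norm_num⟩ : Fin 1782) = 3 ^ (1 + 1) := by
    apply Function.minimalPeriod_eq_prime_pow
    · intro h
      apply h3
      rw [Function.IsPeriodicPt, Function.IsFixedPt, ← Equiv.Perm.coe_pow] at h
      exact h
    · rw [Function.IsPeriodicPt, Function.IsFixedPt, ← Equiv.Perm.coe_pow]
      exact h9
  have h2 : (9 : ℕ) = Function.minimalPeriod (⇑(φ y)) (⟨282, by norm_num⟩ : Fin 1782) := by rw [h1]; norm_num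
  rw [h2]
  apply Function.IsPeriodicPt.minimalPeriod_dvd
  rw [Function.IsPeriodicPt, Function.IsFixedPt, ← Equiv.Perm.coe_pow, ← map_pow, pow_orderOf_eq_one, map_one]
  rfl

theorem big7_suz {K : Type u} [Group K] [Finite K] (h : Spor.IsoSuz K) : Big7 K := by
  obtain ⟨e⟩ := h
  refine Big7.of_dvd (x := e.symm y) (orderOf_pos _).ne' ?_
  rw [MulEquiv.orderOf_eq]
  exact nine_dvd

end Suz

/-! ### `Co₃` -/

section Co3

open Cfsg.Agent.H49.MatCo3 Cfsg.Agent.H49.CoThreeThree Cfsg.Agent.H49.Stab
open Cfsg.Agent.LThreeCo1.Ev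

theorem c9 : eqB (xM M) [1, 4, 1, 4, 1, 4, 1, 4, 1, 4, 1, 4, 1, 4, 1, 4, 1, 4] [] = true := by (delta Cfsg.Agent.LThreeCo1.Ev.eqB; rewrite [Cfsg.Agent.CoOneType.CoW.of_eq Cfsg.Agent.LThreeCo1.Ev.foldZ_eq]; decide +kernel)

theorem c3 : neB' (xM M) [1, 4, 1, 4, 1, 4] [] = true := by (delta Cfsg.Agent.LThreeCo1.Ev.neB'; rewrite [Cfsg.Agent.CoOneType.CoW.of_eq Cfsg.Agent.LThreeCo1.Ev.foldZ_eq]; decide +kernel)

theorem nine_co3' : ∃ x : St Spor.leechV, orderOf x = 9 := by
  obtain ⟨a, ha⟩ : ∃ a : St Spor.leechV, a = xs okM fix 1 := ⟨_, rfl⟩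
  obtain ⟨b, hb⟩ : ∃ b : St Spor.leechV, b = xs okM fix 4 := ⟨_, rfl⟩
  have h9 : (a * b) ^ 9 = 1 := by
    have h := word_eq okM fix c9
    simp only [List.map_cons, List.map_nil, List.prod_cons, List.prod_nil, ← ha, ← hb, mul_one] at h
    rw [← h]
    simp only [pow_succ, pow_zero, one_mul, mul_assoc]
  have h3 : (a * b) ^ 3 ≠ 1 := by
    have h := word_ne okM fix c3
    simp only [List.map_cons, List.map_nil, List.prod_cons, List.prod_nil, ← ha, ← hb, mul_one] at h
    intro h1
    apply h
    rw [← h1]
    simp only [pow_succ, pow_zero, one_mul, mul_assoc]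
  have : Fact (Nat.Prime 3) := ⟨Nat.prime_three⟩
  exact ⟨a * b, orderOf_eq_prime_pow (p := 3) (n := 1) (by simpa only [_root_.pow_one, _root_.ne_eq] using h3) (by simpa only [_root_.Nat.reduceAdd, _root_.Nat.reducePow] using h9)⟩

theorem nine_co3 : ∃ x : Spor.Co3, orderOf x = 9 := nine_co3'

theorem big7_co3 {K : Type u} [Group K] (h : Spor.IsoCo3 K) : Big7 K := by
  obtain ⟨e⟩ := h
  obtain ⟨x, hx⟩ := nine_co3
  exact Or.inr ⟨e.symm x, by rw [MulEquiv.orderOf_eq, hx]⟩

end Co3

/-! ### `Ly` -/

section Ly

open Equiv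

/-- the 9-cycle -/
def t9 : Perm (Fin 11) := swap 0 1 * swap 1 2 * swap 2 3 * swap 3 4 * swap 4 5 * swap 5 6 * swap 6 7 * swap 7 8

theorem t9_order : orderOf t9 = 9 := by
  have : Fact (Nat.Prime 3) := ⟨Nat.prime_three⟩
  exact orderOf_eq_prime_pow (p := 3) (n := 1) (by decide +kernel) (by decide +kernel)

theorem t9_sign : Perm.sign t9 = 1 := by decide +kernel

theorem big7_ly {K : Type u} [Group K] [Finite K] (h : Spor.IsoLy K) : Big7 K := by
  obtain ⟨-, -, -, ⟨L⟩⟩ := Cfsg.Agent.TypeM.FactsLy.facts h
  obtain ⟨y, hy⟩ := L.K.exists_lift (Perm.mem_alternatingGroup.2 t9_sign)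
  refine Big7.of_dvd (x := (y : K)) (orderOf_pos _).ne' ?_
  rw [Subgroup.orderOf_coe, ← t9_order, ← hy]
  exact orderOf_map_dvd _ _

end Ly

end Cfsg.Agent.H953.SevenSpor
end

-- part: H953/SevenElim
section
/-!
# The simple groups with Sylow 3-subgroup of order `3 ^ 7`: assembly (helper953, task 1312, S5231)

`elim_known`: a known simple group whose order has 3-part `3 ^ 7` has an abelian 3-subgroup of order at least `3 ^ 6` or
an element of order 9. (Adapted from `H352/Th/Rest`.)
-/

set_option autoImplicit false

namespace Cfsg.Agent.H953.SevenElim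

open Cfsg Cfsg.Agent.OrdDiv Cfsg.Agent.H777.Elim Cfsg.Agent.H775.Elim7

universe u

/-! ### characteristic three -/

theorem three_ne {F : Type*} [Field F] [Fintype F] (h : ¬ 3 ∣ Fintype.card F) : (3 : F) ≠ 0 := by
  intro h3
  apply h
  obtain ⟨p, hp⟩ := CharP.exists F
  have hpp : p.Prime := (CharP.char_is_prime_or_zero F p).resolve_right (by
    intro h0
    subst h0
    have := CharP.charP_to_charZero F
    exact not_finite F)
  obtain ⟨n, hn⟩ := FiniteField.card F p
  have h1 : p ∣ 3 := (CharP.cast_eq_zero_iff F p 3).1 (by exact_mod_cast h3)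
  have h2 : p = 3 := (Nat.prime_dvd_prime_iff_eq hpp Nat.prime_three).1 h1
  rw [hn.2, h2]
  exact dvd_pow_self 3 n.ne_zero

theorem three_ne_of_pow {F : Type*} [Field F] [Fintype F] {q k : ℕ} (hF : Fintype.card F = q ^ k) (h : ¬ 3 ∣ q) :
    (3 : F) ≠ 0 := three_ne (by rw [hF]; exact fun h1 => h (Nat.prime_three.dvd_of_dvd_pow h1))

theorem charP_three {F : Type*} [Field F] [Fintype F] (h : 3 ∣ Fintype.card F) : CharP F 3 := by
  obtain ⟨p, hp⟩ := CharP.exists F
  have hpp : p.Prime := (CharP.char_is_prime_or_zero F p).resolve_right (by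
    intro h0
    subst h0
    have := CharP.charP_to_charZero F
    exact not_finite F)
  obtain ⟨n, hn⟩ := FiniteField.card F p
  rw [hn.2] at h
  have h1 : p = 3 := ((Nat.prime_dvd_prime_iff_eq Nat.prime_three hpp).1 (Nat.prime_three.dvd_of_dvd_pow h)).symm
  rwa [h1] at hp

/-- the 3-part of a group of Lie type in characteristic three is at least `q ^ e` -/
theorem le_seven {q e d N u : ℕ} (hq : IsPrimePow q) (h3 : 3 ∣ q) (hd : d.Coprime q) (h : d * N = q ^ e * u)
    (hV : ¬ 3 ^ 8 ∣ N) : ∃ f, 1 ≤ f ∧ q = 3 ^ f ∧ f * e ≤ 7 := by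
  obtain ⟨p, f, hp, hf, rfl⟩ := (isPrimePow_nat_iff q).1 hq
  have hp3 : p = 3 := ((Nat.prime_dvd_prime_iff_eq Nat.prime_three hp).1 (Nat.prime_three.dvd_of_dvd_pow h3)).symm
  subst hp3
  refine ⟨f, hf, rfl, ?_⟩
  by_contra hlt
  push Not at hlt
  have h1 : (3 ^ f) ^ e ∣ N :=
    Nat.Coprime.dvd_of_dvd_mul_left (Nat.Coprime.pow_left _ hd.symm) (Dvd.intro _ h.symm)
  rw [← pow_mul] at h1
  exact hV ((pow_dvd_pow 3 (by omega)).trans h1)

theorem eq_seven {q e d N u : ℕ} (hq : IsPrimePow q) (h3 : 3 ∣ q) (hd : d.Coprime q) (hu : u.Coprime q)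
    (h : d * N = q ^ e * u) (hV : 3 ^ 7 ∣ N ∧ ¬ 3 ^ 8 ∣ N) : ∃ f, 1 ≤ f ∧ q = 3 ^ f ∧ f * e = 7 := by
  obtain ⟨f, hf, rfl, hle⟩ := le_seven hq h3 hd h hV.2
  refine ⟨f, hf, rfl, le_antisymm hle ?_⟩
  have h1 : 3 ^ 7 ∣ (3 ^ f) ^ e * u := by rw [← h]; exact hV.1.mul_left d
  have h2 : (3 ^ 7).Coprime u := (Nat.Coprime.coprime_dvd_right h3 hu).symm.pow_left 7
  have h4 := h2.dvd_of_dvd_mul_right h1
  rw [← pow_mul] at h4
  exact (Nat.pow_dvd_pow_iff_le_right (by norm_num)).1 h4

/-- `q ≥ 3 ^ 6` is large enough for `PSL_n(q)` -/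
theorem big7_root {n : ℕ} (hn : 2 ≤ n) {F : Type*} [Field F] [Fintype F] (h3 : 3 ∣ Fintype.card F)
    (hq : 3 ^ 6 ≤ Fintype.card F) : Big7 (Matrix.ProjectiveSpecialLinearGroup (Fin n) F) := by
  have := charP_three h3
  have h3F := Fact.mk Nat.prime_three
  apply Big7.of_big
  obtain ⟨e, he⟩ : ∃ e : Fin n → F, e = Pi.single ⟨0, by omega⟩ 1 := ⟨_, rfl⟩
  obtain ⟨φ, hφ⟩ : ∃ φ : Fin n → F, φ = Pi.single ⟨1, by omega⟩ 1 := ⟨_, rfl⟩
  have h : φ ⬝ᵥ e = 0 := by
    rw [he, hφ, single_dotProduct, Pi.single_apply, if_neg (by simp), mul_zero]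
  have he0 : e ≠ 0 := by
    rw [he]
    intro h
    have := congrFun h ⟨0, by omega⟩
    simp at this
  have hφ0 : φ ≠ 0 := by
    rw [hφ]
    intro h
    have := congrFun h ⟨1, by omega⟩
    simp at this
  have hcube : ∀ x : Multiplicative F, x ^ 3 ^ 1 = 1 := by
    intro x
    rw [pow_one]
    apply Multiplicative.toAdd.injective
    rw [toAdd_pow, toAdd_one, nsmul_eq_mul]
    have := CharP.cast_eq_zero F 3
    rw [this, zero_mul]
  refine Big.of_hom (A := (⊤ : Subgroup (Multiplicative F)))
    ((QuotientGroup.mk' (Subgroup.center (Matrix.SpecialLinearGroup (Fin n) F))).comp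
      (Cfsg.Agent.H846.Elim.tvm e φ h)) ?_ ?_ ?_ ?_
  · rintro ⟨x, hx⟩
    exact ⟨1, Subtype.ext (hcube x)⟩
  · intro x _ y _
    exact mul_comm x y
  · rw [Subgroup.card_top, Nat.card_congr (Multiplicative.toAdd (α := F)), Nat.card_eq_fintype_card]
    exact hq
  · intro x _ hx
    have h1 := Cfsg.Agent.H846.Elim.sl_ker hn (Cfsg.Agent.H846.Elim.tvm e φ h x) hx 1 (by
      rw [← map_pow, hcube, map_one])
    exact Cfsg.Agent.H846.Elim.tvm_injective h he0 hφ0 (by rw [h1, map_one])

/-! ### the classical families -/

theorem glN_eq {q : ℕ} (hq : 1 ≤ q) (n : ℕ) :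
    glN n q = q ^ (n * (n - 1) / 2) * ∏ i ∈ Finset.range n, (q ^ (i + 1) - 1) := by
  unfold glN
  rw [prod_list, ← Finset.sum_range_id, ← Finset.prod_pow_eq_pow_sum,
    ← Finset.prod_range_reflect (fun i => q ^ (i + 1) - 1) n, ← Finset.prod_mul_distrib]
  refine Finset.prod_congr rfl fun i hi => ?_
  have hi' := Finset.mem_range.1 hi
  rw [Nat.mul_sub, mul_one, ← pow_add]
  congr 2
  omega

section

variable {X : Type*} [Group X]

theorem psl_case {F : Type} [Field F] [Fintype F] {n : ℕ} (hn : 2 ≤ n)
    (hV : Vn 7 X) (hB : ¬ Big7 X)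
    (e : X ≃* Matrix.ProjectiveSpecialLinearGroup (Fin n) F) : False := by
  by_cases ho : 3 ∣ Fintype.card F
  swap
  · exact hB ((SevenRows.row7_psl hn (three_ne ho)).congr e.symm hV)
  have hq1 : 1 < Fintype.card F := Fintype.one_lt_card
  have h1 := cop_sub (q := Fintype.card F) (k := 1) (by omega) le_rfl
  rw [pow_one] at h1
  have hc := S0243.result (F := F) rfl n hn
  rw [Fin.prod_univ_eq_prod_range (fun i => Fintype.card F ^ n - Fintype.card F ^ i) n, ← prod_list] at hc
  have hc' : Nat.gcd n (Fintype.card F - 1) * (Fintype.card F - 1) *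
      Nat.card (Matrix.ProjectiveSpecialLinearGroup (Fin n) F) = glN n (Fintype.card F) := by
    rw [mul_assoc]; exact hc
  rw [glN_eq (by omega)] at hc'
  obtain ⟨f, hf, hqf, hle⟩ := eq_seven Fintype.isPrimePow_card_of_field ho
    (Nat.Coprime.mul_left (Nat.Coprime.coprime_dvd_left (Nat.gcd_dvd_right _ _) h1) h1)
    (Nat.Coprime.prod_left fun i _ => cop_sub (by omega) (by omega)) hc'
    (by rw [← Nat.card_congr e.toEquiv]; exact hV)
  have hn5 : n ≤ 5 := by
    by_contra hlt
    push Not at hlt
    have h2 : 6 * 5 ≤ n * (n - 1) := Nat.mul_le_mul (by omega) (by omega)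
    have h3 : 15 ≤ n * (n - 1) / 2 := by omega
    have : 1 * 15 ≤ f * (n * (n - 1) / 2) := Nat.mul_le_mul hf h3
    omega
  have hf7 : 6 ≤ f := by interval_cases n <;> (clear * - hle; omega)
  exact hB ((big7_root hn ho (by rw [hqf]; exact Nat.pow_le_pow_right (by norm_num) hf7)).congr e.symm)

theorem psp_case {F : Type} [Field F] [Fintype F] {m : ℕ} (hm : 2 ≤ m)
    (hV : Vn 7 X) (hB : ¬ Big7 X)
    (e : X ≃* PSp m F) : False := by
  by_cases ho : 3 ∣ Fintype.card F
  swap
  · exact hB ((SevenRows.row7_psp (by omega) (three_ne ho)).congr e.symm hV)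
  have hq : 1 < Fintype.card F := Fintype.one_lt_card
  have h1 := cop_sub (q := Fintype.card F) (k := 1) (by omega) le_rfl
  rw [pow_one] at h1
  have hd : (Nat.gcd 2 (Fintype.card F - 1)).Coprime (Fintype.card F) :=
    Nat.Coprime.coprime_dvd_left (Nat.gcd_dvd_right _ _) h1
  have hc : Nat.gcd 2 (Fintype.card F - 1) * Nat.card (PSp m F) =
      Fintype.card F ^ (m ^ 2) * ∏ i ∈ Finset.range m, (Fintype.card F ^ (2 * (i + 1)) - 1) := by
    have h1 := S0245.result (F := F) rfl m
    have h2 := S0246.result (F := F) rfl m (by omega)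
    have h3 := Subgroup.card_eq_card_quotient_mul_card_subgroup
      (Subgroup.center (Matrix.symplecticGroup (Fin m) F))
    rw [h1, h2] at h3
    rw [mul_comm]
    exact h3.symm
  obtain ⟨f, hf, -, hle⟩ := eq_seven Fintype.isPrimePow_card_of_field ho hd
    (Nat.Coprime.prod_left fun i _ => cop_sub Fintype.card_pos (by omega)) hc
    (by rw [← Nat.card_congr e.toEquiv]; exact hV)
  have hm3 : m = 2 := by
    by_contra hlt
    have h2 : 3 * 3 ≤ m * m := Nat.mul_le_mul (by omega) (by omega)
    rw [← sq m] at h2
    have : 1 * 9 ≤ f * m ^ 2 := Nat.mul_le_mul hf h2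
    omega
  subst hm3
  omega

theorem psu_case {F : Type} [Field F] [Fintype F] {n q : ℕ} (hF : Fintype.card F = q ^ 2) (hn : 3 ≤ n)
    (hV : Vn 7 X) (hB : ¬ Big7 X) (e : X ≃* PSU n F q) : False := by
  have hq2 : IsPrimePow (q ^ 2) := hF ▸ Fintype.isPrimePow_card_of_field
  have hqp : IsPrimePow q := (isPrimePow_pow_iff (by norm_num)).1 hq2
  by_cases ho : 3 ∣ q
  swap
  · exact hB ((SevenRows.row7_psu hn hF (three_ne_of_pow hF ho)).congr e.symm hV)
  have h1 := cop_add (q := q) (k := 1) le_rfl
  rw [pow_one] at h1
  have hc := S0280.result hF n (by omega)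
  rw [← mul_assoc] at hc
  obtain ⟨f, hf, -, hle⟩ := eq_seven hqp ho
    (Nat.Coprime.mul_left (Nat.Coprime.coprime_dvd_left (Nat.gcd_dvd_right _ _) h1) h1)
    (Nat.Coprime.prod_left fun i _ => by
      split_ifs
      · exact cop_add (by omega)
      · exact cop_sub hqp.pos (by omega)) hc
    (by rw [← Nat.card_congr e.toEquiv]; exact hV)
  have hn5 : n ≤ 4 := by
    by_contra hlt
    push Not at hlt
    have h2 : 5 * 4 ≤ n * (n - 1) := Nat.mul_le_mul (by omega) (by omega)
    have h3 : 10 ≤ n * (n - 1) / 2 := by omega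
    have : 1 * 10 ≤ f * (n * (n - 1) / 2) := Nat.mul_le_mul hf h3
    omega
  interval_cases n <;> omega

theorem oodd_case {F : Type} [Field F] [Fintype F] {m : ℕ} (hm : 3 ≤ m) (ho2 : Odd (Fintype.card F))
    (hV : Vn 7 X) (hB : ¬ Big7 X) (e : X ≃* POmega F (quadFormOdd m F)) : False := by
  by_cases ho : 3 ∣ Fintype.card F
  swap
  · exact hB ((SevenOrth.row7_oodd hm ho2 (three_ne ho)).congr e.symm hV)
  have hc := S0292.result (F := F) rfl ho2 m hm
  obtain ⟨f, hf, -, he⟩ := le_seven Fintype.isPrimePow_card_of_field ho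
    (by rw [Nat.coprime_two_left]; exact ho2) hc
    (by rw [← Nat.card_congr e.toEquiv]; exact hV.2)
  have h2 : 3 * 3 ≤ m * m := Nat.mul_le_mul (by omega) (by omega)
  rw [← sq m] at h2
  have : 1 * 9 ≤ f * m ^ 2 := Nat.mul_le_mul hf h2
  omega

theorem oplus_case {F : Type} [Field F] [Fintype F] {m : ℕ} (hm : 4 ≤ m)
    (hV : Vn 7 X) (hB : ¬ Big7 X) (e : X ≃* POmega F (quadFormPlus m F)) : False := by
  by_cases ho : 3 ∣ Fintype.card F
  swap
  · exact hB ((SevenOrth.row7_oplus hm (three_ne ho)).congr e.symm hV)
  have hc := S0293.result (F := F) rfl m hm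
  rw [mul_assoc (Fintype.card F ^ (m * (m - 1)))] at hc
  obtain ⟨f, hf, -, he⟩ := le_seven Fintype.isPrimePow_card_of_field ho
    (Nat.Coprime.coprime_dvd_left (Nat.gcd_dvd_right _ _) (cop_sub Fintype.card_pos (by omega))) hc
    (by rw [← Nat.card_congr e.toEquiv]; exact hV.2)
  have h2 : 4 * 3 ≤ m * (m - 1) := Nat.mul_le_mul (by omega) (by omega)
  have : 1 * 12 ≤ f * (m * (m - 1)) := Nat.mul_le_mul hf h2
  omega

theorem ominus_case {F : Type} [Field F] [Fintype F] {m : ℕ} (hm : 4 ≤ m) {a b : F}
    (hab : ∀ z₁ z₂ : F, z₁ ^ 2 + a * z₁ * z₂ + b * z₂ ^ 2 = 0 → z₁ = 0 ∧ z₂ = 0)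
    (hV : Vn 7 X) (hB : ¬ Big7 X) (e : X ≃* POmega F (quadFormMinus (m - 1) F a b)) : False := by
  by_cases ho : 3 ∣ Fintype.card F
  swap
  · exact hB ((SevenOrth.row7_ominus hm hab (three_ne ho)).congr e.symm hV)
  have hc := S0294.result (F := F) rfl m hm a b hab
  rw [mul_assoc (Fintype.card F ^ (m * (m - 1)))] at hc
  obtain ⟨f, hf, -, he⟩ := le_seven Fintype.isPrimePow_card_of_field ho
    (Nat.Coprime.coprime_dvd_left (Nat.gcd_dvd_right _ _) (cop_add (by omega))) hc
    (by rw [← Nat.card_congr e.toEquiv]; exact hV.2)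
  have h2 : 4 * 3 ≤ m * (m - 1) := Nat.mul_le_mul (by omega) (by omega)
  have : 1 * 12 ≤ f * (m * (m - 1)) := Nat.mul_le_mul hf h2
  omega

end

/-! ### alternating groups -/

theorem alt_case {X : Type*} [Group X] {n : ℕ} (hV : Vn 7 X)
    (e : X ≃* ↥(alternatingGroup (Fin n))) (hn : 2 ≤ n) : False := by
  have hc : n.factorial = 2 * Nat.card X := by
    have : Nontrivial (Fin n) := Fin.nontrivial_iff_two_le.2 hn
    rw [Nat.card_congr e.toEquiv]
    have h := two_mul_nat_card_alternatingGroup (α := Fin n)
    rw [h, Nat.card_perm, Nat.card_fin]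
  by_cases h18 : 18 ≤ n
  · have h1 : 3 ^ 8 ∣ 2 * Nat.card X := by
      rw [← hc]
      exact (show 3 ^ 8 ∣ (18).factorial by decide).trans (Nat.factorial_dvd_factorial h18)
    exact hV.2 ((Nat.Coprime.dvd_of_dvd_mul_left (by norm_num) h1))
  · have h1 : 3 ^ 7 ∣ n.factorial := by
      rw [hc]
      exact hV.1.mul_left 2
    have h2 : 3 ^ 7 ∣ (17).factorial := h1.trans (Nat.factorial_dvd_factorial (by omega))
    revert h2; decide

/-! ### the assembly -/

/-- the condition on the order -/
def P (c : ℕ) : Bool := (c % 3 ^ 7 == 0) && (c % 3 ^ 8 != 0)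

theorem P_of {N : ℕ} (h : 3 ^ 7 ∣ N ∧ ¬ 3 ^ 8 ∣ N) : P N = true := by
  unfold P
  rw [Bool.and_eq_true]
  refine ⟨by simpa using Nat.mod_eq_zero_of_dvd h.1, ?_⟩
  have := h.2
  norm_num at this
  simpa [Nat.dvd_iff_mod_eq_zero] using this

theorem big_contra {q e d N u : ℕ} (hq : IsPrimePow q) (h3 : 3 ∣ q) (hd : d.Coprime q) (h : d * N = q ^ e * u)
    (hV : ¬ 3 ^ 8 ∣ N) (he : 8 ≤ e) : False := by
  obtain ⟨f, hf, -, hle⟩ := le_seven hq h3 hd h hV
  have : 1 * 8 ≤ f * e := Nat.mul_le_mul hf he
  omega

/-- **Elimination** for the known simple groups. -/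
theorem elim_known (T : OrderTable.{u}) {K : Type u} [Group K] [Finite K] (h : IsKnownSimple' K)
    (hV : Vn 7 K) : Big7 K := by
  have R := SevenExc.row7_exc
  by_contra hB
  have key : ∀ (g : Grp), g ∈ spor.map (fun x => x.1) → (g ≠ .suz ∧ g ≠ .co3 ∧ g ≠ .ly) → Real g K → False :=
    fun g hg hne hr => by
    obtain ⟨x, hx, rfl⟩ := List.mem_map.1 hg
    have h1 := P_of hV
    rw [T.spor K x hx hr] at h1
    have h2 : ∀ x ∈ spor, (x.1 ≠ .suz ∧ x.1 ≠ .co3 ∧ x.1 ≠ .ly) → P x.2 = false := by decide +kernel
    rw [h2 x hx hne] at h1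
    exact absurd h1 (by decide)
  have hV' : ∀ {Y : Type} [Group Y] (e : K ≃* Y), 3 ^ 7 ∣ Nat.card Y ∧ ¬ 3 ^ 8 ∣ Nat.card Y := by
    intro Y _ e
    rw [← Nat.card_congr e.toEquiv]
    exact hV
  rcases h with h | h | h | h | h | h | h | h | h | h
  · have h3 := (Nat.prime_dvd_prime_iff_eq Nat.prime_three h).1 ((dvd_pow_self 3 (by norm_num)).trans hV.1)
    have h4 := hV.1
    rw [← h3] at h4
    revert h4; decide
  · obtain ⟨n, hn, ⟨e⟩⟩ := h
    exact alt_case hV e (by omega)
  · obtain ⟨F, _, _, n, hn, hn2, ⟨e⟩⟩ := h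
    exact psl_case hn hV hB e
  · obtain ⟨F, _, _, n, hn, hn2, ⟨e⟩⟩ := h
    exact psp_case hn hV hB e
  · obtain ⟨F, _, _, n, q, hF, hn, hn2, ⟨e⟩⟩ := h
    exact psu_case hF hn hV hB e
  · obtain ⟨F, _, _, n, hn, ho, ⟨e⟩⟩ := h
    exact oodd_case hn ho hV hB e
  · obtain ⟨F, _, _, n, hn, ⟨e⟩⟩ := h
    exact oplus_case hn hV hB e
  · obtain ⟨F, _, _, n, a, b, hn, hab, ⟨e⟩⟩ := h
    exact ominus_case hn hab hV hB e
  · rcases h with h | h | h | h | h | h | h | h | h | h | h
    · -- `G₂`
      obtain ⟨F, _, _, hq, ⟨e⟩⟩ := h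
      by_cases ho : 3 ∣ Fintype.card F
      · obtain ⟨f, hf, -, he⟩ := eq_seven (e := 6) (d := 1) (N := Nat.card ↥(Lie.chevG2.group F))
          (u := (Fintype.card F ^ 2 - 1) * (Fintype.card F ^ 6 - 1)) Fintype.isPrimePow_card_of_field ho
          (Nat.coprime_one_left _)
          (Nat.Coprime.mul_left (cop_sub Fintype.card_pos (by norm_num)) (cop_sub Fintype.card_pos (by norm_num)))
          (by rw [T.g2 F]; ring) (hV' e)
        omega
      · exact hB ((R.g2 (three_ne ho)).congr e.symm hV)
    · -- `F₄`
      obtain ⟨F, _, _, ⟨e⟩⟩ := h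
      by_cases ho : 3 ∣ Fintype.card F
      · have h1 := T.f4 F _ rfl
        simp only [mul_assoc] at h1
        rw [← one_mul (Nat.card _)] at h1
        exact big_contra (e := 24) Fintype.isPrimePow_card_of_field ho
          (Nat.coprime_one_left _) h1 (hV' e).2 (by norm_num)
      · exact hB ((R.f4 (three_ne ho)).congr e.symm hV)
    · -- `E₆`
      obtain ⟨F, _, _, ⟨e⟩⟩ := h
      by_cases ho : 3 ∣ Fintype.card F
      · have h0 := cop_sub (q := Fintype.card F) (k := 1) Fintype.card_pos le_rfl
        rw [pow_one] at h0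
        have h1 := T.e6 F _ rfl
        simp only [mul_assoc] at h1
        exact big_contra (e := 36) Fintype.isPrimePow_card_of_field ho
          (Nat.Coprime.coprime_dvd_left (Nat.gcd_dvd_right 3 _) h0) h1 (hV' e).2 (by norm_num)
      · exact hB ((R.e6 (three_ne ho)).congr e.symm hV)
    · -- `E₇`
      obtain ⟨F, _, _, ⟨e⟩⟩ := h
      by_cases ho : 3 ∣ Fintype.card F
      · have h0 := cop_sub (q := Fintype.card F) (k := 1) Fintype.card_pos le_rfl
        rw [pow_one] at h0
        have h1 := T.e7 F _ rfl
        simp only [mul_assoc] at h1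
        exact big_contra (e := 63) Fintype.isPrimePow_card_of_field ho
          (Nat.Coprime.coprime_dvd_left (Nat.gcd_dvd_right 2 _) h0) h1 (hV' e).2 (by norm_num)
      · exact hB ((R.e7 (three_ne ho)).congr e.symm hV)
    · -- `E₈`
      obtain ⟨F, _, _, ⟨e⟩⟩ := h
      by_cases ho : 3 ∣ Fintype.card F
      · have h1 := T.e8 F _ rfl
        simp only [mul_assoc] at h1
        rw [← one_mul (Nat.card _)] at h1
        exact big_contra (e := 120) Fintype.isPrimePow_card_of_field ho
          (Nat.coprime_one_left _) h1 (hV' e).2 (by norm_num)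
      · exact hB ((R.e8 (three_ne ho)).congr e.symm hV)
    · -- `²E₆`
      obtain ⟨F, _, _, q, hq, hF, ⟨e⟩⟩ := h
      by_cases ho : 3 ∣ q
      · have h0 := cop_add (q := q) (k := 1) le_rfl
        rw [pow_one] at h0
        have h1 := T.te6 F q hq hF
        simp only [mul_assoc] at h1
        exact big_contra (e := 36) hq ho
          (Nat.Coprime.coprime_dvd_left (Nat.gcd_dvd_right 3 _) h0) h1 (hV' e).2 (by norm_num)
      · exact hB ((R.te6 hq hF (three_ne_of_pow hF ho)).congr e.symm hV)
    · -- `³D₄`
      obtain ⟨F, _, _, q, hq, hF, ⟨e⟩⟩ := h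
      by_cases ho : 3 ∣ q
      · have h1 := T.td4 F q hq hF
        simp only [mul_assoc] at h1
        rw [← one_mul (Nat.card _)] at h1
        exact big_contra (e := 12) hq ho
          (Nat.coprime_one_left _) h1 (hV' e).2 (by norm_num)
      · exact hB ((R.td4 hq hF (three_ne_of_pow hF ho)).congr e.symm hV)
    · -- Suzuki
      obtain ⟨F, _, _, m, hm, hF, ⟨e⟩⟩ := h
      have hd : 3 ∣ Nat.card K := (dvd_pow_self 3 (by norm_num)).trans hV.1
      rw [Nat.card_congr e.toEquiv, T.sz F m hm hF] at hd
      obtain ⟨k, rfl⟩ : ∃ k, m = k + 1 := ⟨m - 1, by omega⟩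
      obtain ⟨h1, -, h2⟩ := odd_pow_mod k
      rw [show 2 * (k + 1) + 1 = 2 * k + 3 by ring] at hd
      generalize 2 ^ (2 * k + 3) = q at hd h1 h2
      rcases (Nat.Prime.dvd_mul Nat.prime_three).1 hd with hd | hd
      · rcases (Nat.Prime.dvd_mul Nat.prime_three).1 hd with hd | hd
        · have := Nat.prime_three.dvd_of_dvd_pow hd
          omega
        · omega
      · have : q ^ 2 % 3 = 1 := by rw [Nat.pow_mod, h2]
        omega
    · -- Ree
      obtain ⟨F, _, _, m, hm, hF, ⟨e⟩⟩ := h
      have h1 := T.ree F m hm hF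
      rw [mul_assoc, ← one_mul (Nat.card _)] at h1
      have hpp : IsPrimePow (3 ^ (2 * m + 1)) :=
        (isPrimePow_nat_iff _).2 ⟨3, 2 * m + 1, Nat.prime_three, by omega, rfl⟩
      have h2 := cop_sub (q := 3 ^ (2 * m + 1)) (k := 1) (Nat.pos_of_ne_zero (by positivity)) le_rfl
      rw [pow_one] at h2
      obtain ⟨f, hf, -, he⟩ := eq_seven hpp (dvd_pow_self 3 (by omega)) (Nat.coprime_one_left _)
        (Nat.Coprime.mul_left h2 (cop_add (by norm_num))) h1 (hV' e)
      omega
    · -- `²F₄`
      obtain ⟨F, _, _, m, hm, hF, ⟨e⟩⟩ := h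
      exact hB ((R.tf4 hm hF).congr e.symm hV)
    · exact key .tits (by decide) (by decide) h
  · rcases h with h | h | h | h | h | h | h | h | h | h | h | h | h | h | h | h | h | h | h | h | h | h | h | h | h | h
    · exact key .m11 (by decide) (by decide) h
    · exact key .m12 (by decide) (by decide) h
    · exact key .m22 (by decide) (by decide) h
    · exact key .m23 (by decide) (by decide) h
    · exact key .m24 (by decide) (by decide) h
    · exact key .j1 (by decide) (by decide) h
    · exact key .j2 (by decide) (by decide) h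
    · exact key .j3 (by decide) (by decide) h
    · exact key .j4 (by decide) (by decide) h
    · exact key .co1 (by decide) (by decide) h
    · exact key .co2 (by decide) (by decide) h
    · exact hB (SevenSpor.big7_co3 h)
    · exact key .mcl (by decide) (by decide) h
    · exact key .hs (by decide) (by decide) h
    · exact hB (SevenSpor.big7_suz h)
    · exact key .he (by decide) (by decide) h
    · exact key .ru (by decide) (by decide) h
    · exact key .on (by decide) (by decide) h
    · exact hB (SevenSpor.big7_ly h)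
    · exact key .fi22 (by decide) (by decide) h
    · exact key .fi23 (by decide) (by decide) h
    · exact key .fi24 (by decide) (by decide) h
    · exact key .hn (by decide) (by decide) h
    · exact key .th (by decide) (by decide) h
    · exact key .b (by decide) (by decide) h
    · exact key .m (by decide) (by decide) h

end Cfsg.Agent.H953.SevenElim
end

-- part: H953/SevenFinal
section
/-!
# The simple groups with Sylow 3-subgroup of order `3 ^ 7` (helper953, task 1312, S5231)
-/

set_option autoImplicit false

namespace Cfsg.Agent.H953.SevenFinal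

open Cfsg Cfsg.Agent.H777.Elim Cfsg.Agent.H775.Elim7

universe u

/-- a simple group whose order has 3-part `3 ^ 7` has an abelian 3-subgroup of order at least `3 ^ 6` or an element of
order 9 -/
theorem elim7' {K : Type u} [Group K] [Finite K] [IsSimpleGroup K] (hV : Vn 7 K) : Big7 K :=
  Cfsg.Agent.H953.SevenElim.elim_known Cfsg.Agent.OrdDiv.table Cfsg.Agent.S0000.result hV

theorem elim7 {K : Type u} [Group K] [Finite K] [IsSimpleGroup K] (_hK : ¬ IsMulCommutative K) (hV : Vn 7 K) :
    Big7 K := elim7' hV

end Cfsg.Agent.H953.SevenFinal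
end

-- part: S5231
section
set_option autoImplicit false
universe u
open Cfsg

namespace Cfsg.Agent.S5231

/-- Let P be a finite group isomorphic to a Sylow 3-subgroup of the Thompson sporadic group and C = C_P(Z₂(P)) the centralizer of the second centre of P. Then there is an exotic saturated fusion system over C in which C is not normal. -/
theorem result [Fact (Nat.Prime 3)] {P : Type u} [Group P] [Finite P] (T : Sylow 3 Cfsg.Spor.Th) (e : P ≃* ↥(T : Subgroup Cfsg.Spor.Th)) : ∃ F : Cfsg.FusionSystem (Subgroup.centralizer ((upperCentralSeries P 2 : Subgroup P) : Set P)), F.IsExotic 3 ∧ ¬ F.IsNormal (Subgroup.centralizer ((upperCentralSeries P 2 : Subgroup P) : Set P)) :=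
  Cfsg.Agent.H775.Th.main T e
    (fun _ _ _ A hA hne hsc hmin hns =>
      Cfsg.Agent.S5302.result 3 (by norm_num) A hA hne hsc hmin hns)
    (fun _ _ _ _ hK hV => Cfsg.Agent.H953.SevenFinal.elim7 hK hV)

end Cfsg.Agent.S5231
end

private theorem dce_f8637c80147d : _root_.True := by
  try have : _root_.True := by simp only [_root_.Cfsg.Agent.H953.SevenSpor.w9.eq_1]
  try have : _root_.True := by simp only [_root_.Cfsg.Agent.H953.SevenSpor.w3.eq_1]
  try have : _root_.True := by simp only [_root_.Cfsg.Agent.H953.SevenSpor.y.eq_1]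
  try have : _root_.True := by simp only [_root_.Cfsg.Agent.H49.Stab.xs.congr_simp]
  exact _root_.True.intro
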