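import Cfsg.Statements.S5234
import Cfsg.Agent.H803.RankTwo
import Cfsg.Agent.S0638
set_option linter.all false

set_option autoImplicit false
open Cfsg

namespace Cfsg.Agent.S5234
open Cfsg.FusionSystem

/-- Let p be an odd prime, F a saturated fusion system over a finite p-group S and P a metacyclic subgroup of S strongly closed in F. Then P is normal in F. -/
theorem result {Ω : Type*} [Group Ω] {S : Subgroup Ω} [Finite S] (p : ℕ) [Fact p.Prime] (hS : IsPGroup p S) (F : Cfsg.FusionSystem S) (hF : F.IsSaturated p) (P : Subgroup Ω) (hP : F.StronglyClosed P) (hp : p ≠ 2) (hm : Cfsg.IsMetacyclic ↥P) : F.IsNormal P := by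
  have hfP : Finite P := H802.finite_of_le hP.1
  by_cases hc : IsCyclic P
  · refine H759.isNormal_of_abelian hS hF hP ?_
    rw [Subgroup.commutator_eq_bot_iff_le_centralizer]
    intro a ha
    refine Subgroup.mem_centralizer_iff.2 fun b hb => ?_
    let _ : CommGroup P := IsCyclic.commGroup
    exact congrArg Subtype.val (mul_comm (⟨b, hb⟩ : P) ⟨a, ha⟩)
  · obtain ⟨hE, hcard⟩ := S0638.result hp (hS.to_le hP.1) hm hc
    refine H803.isNormal_of_rank_two (W := (omegaOne p (⊤ : Subgroup P)).map P.subtype) hp hS hF hP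
      ?_ ?_ ?_
    · intro x
      constructor
      · rintro ⟨y, hy, rfl⟩
        refine ⟨y.2, ?_⟩
        have h1 := hE.2 y hy
        have := congrArg Subtype.val h1
        simpa using this
      · rintro ⟨hx, hxp⟩
        refine ⟨⟨x, hx⟩, Subgroup.subset_closure ⟨Subgroup.mem_top _, ?_⟩, rfl⟩
        exact Subtype.ext (by simpa using hxp)
    · rintro _ ⟨a, ha, rfl⟩ _ ⟨b, hb, rfl⟩
      have h0 := hE.1
      have h1 := mul_comm' (⟨a, ha⟩ : omegaOne p (⊤ : Subgroup P)) ⟨b, hb⟩
      exact congrArg (fun x : omegaOne p (⊤ : Subgroup P) => ((x : P) : Ω)) h1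
    · rw [← hcard]
      exact (Nat.card_congr ((omegaOne p (⊤ : Subgroup P)).equivMapOfInjective _
        (Subgroup.subtype_injective P)).toEquiv).symm

end Cfsg.Agent.S5234
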