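import Cfsg.Agent.H780.SpOddMain_mg
import Cfsg.Agent.LieClassical.SympCount
import Mathlib
import Cfsg.Agent.H780.SpTwo_mg
import Cfsg.Statements.S5260
import Cfsg.Agent.H780.SpFinal
set_option linter.all false

-- part: H956/SpSylow
section
/-!
# The Sylow subgroups of `Sp₄(K)` in the own characteristic have coordinates (helper956)
-/

set_option autoImplicit false

namespace Cfsg.Agent.H956.SpSylow

open Matrix Cfsg.Agent.H780

variable {K : Type*} [Field K]

/-- The element with coordinates `(t,s,u,z)`. -/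
def M (t s u z : K) : Matrix (Fin 2 ⊕ Fin 2) (Fin 2 ⊕ Fin 2) K :=
  Matrix.fromBlocks !![1, t; 0, 1] !![z - t * u, u; u - t * s, s] 0 !![1, 0; -t, 1]

theorem M_mul (t s u z t' s' u' z' : K) :
    M t s u z * M t' s' u' z' =
      M (t + t') (s + s') (u + u' + t * s') (z + z' + 2 * t * u' + t ^ 2 * s') := by
  unfold M
  rw [Matrix.fromBlocks_multiply]
  congr 1
  · ext i j
    fin_cases i <;> fin_cases j <;> simp [add_comm]
  · ext i j
    fin_cases i <;> fin_cases j <;> simp <;> ring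
  · simp
  · ext i j
    fin_cases i <;> fin_cases j <;> simp [add_comm]

theorem M_one : M (0 : K) 0 0 0 = 1 := by
  unfold M
  rw [← Matrix.fromBlocks_one]
  congr 1
  · ext i j
    fin_cases i <;> fin_cases j <;> simp
  · ext i j
    fin_cases i <;> fin_cases j <;> simp
  · ext i j
    fin_cases i <;> fin_cases j <;> simp

theorem M_mem (t s u z : K) : M t s u z ∈ Matrix.symplecticGroup (Fin 2) K := by
  unfold M
  rw [SymplecticGroup.fromBlocks_mem_iff]
  refine ⟨by simp, ?_, ?_⟩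
  · ext i j
    fin_cases i <;> fin_cases j <;>
      simp [Matrix.mul_apply, Fin.sum_univ_two] <;> ring
  · ext i j
    fin_cases i <;> fin_cases j <;> simp [Matrix.mul_apply, Fin.sum_univ_two]

theorem M_inj {t s u z t' s' u' z' : K} (h : M t s u z = M t' s' u' z') :
    t = t' ∧ s = s' ∧ u = u' ∧ z = z' := by
  have h1 : t = t' := by
    have := congrFun (congrFun h (Sum.inl 0)) (Sum.inl 1)
    simpa [M] using this
  have h2 : s = s' := by
    have := congrFun (congrFun h (Sum.inl 1)) (Sum.inr 1)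
    simpa [M] using this
  have h3 : u = u' := by
    have := congrFun (congrFun h (Sum.inl 0)) (Sum.inr 1)
    simpa [M] using this
  have h4 : z = z' := by
    have := congrFun (congrFun h (Sum.inl 0)) (Sum.inr 0)
    have h5 : z - t * u = z' - t' * u' := by simpa [M] using this
    rw [h1, h3] at h5
    exact sub_left_injective h5
  exact ⟨h1, h2, h3, h4⟩

/-- The subgroup of all `M t s u z`. -/
def U (K : Type*) [Field K] : Subgroup ↥(Matrix.symplecticGroup (Fin 2) K) where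
  carrier := {g | ∃ t s u z : K, (g : Matrix _ _ K) = M t s u z}
  mul_mem' := by
    rintro a b ⟨t, s, u, z, ha⟩ ⟨t', s', u', z', hb⟩
    exact ⟨_, _, _, _, by rw [Submonoid.coe_mul, ha, hb, M_mul]⟩
  one_mem' := ⟨0, 0, 0, 0, by rw [M_one]; rfl⟩
  inv_mem' := by
    rintro a ⟨t, s, u, z, ha⟩
    refine ⟨-t, -s, -u + t * s, -z + 2 * t * u - t ^ 2 * s, ?_⟩
    have h1 : (⟨M (-t) (-s) (-u + t * s) (-z + 2 * t * u - t ^ 2 * s), M_mem _ _ _ _⟩ :
        ↥(Matrix.symplecticGroup (Fin 2) K)) * a = 1 := by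
      apply Subtype.ext
      show M (-t) (-s) (-u + t * s) (-z + 2 * t * u - t ^ 2 * s) * (a : Matrix _ _ K) = 1
      rw [ha, M_mul, ← M_one]
      congr 1 <;> ring
    rw [← eq_inv_of_mul_eq_one_left h1]

theorem mem_U {g : ↥(Matrix.symplecticGroup (Fin 2) K)} :
    g ∈ U K ↔ ∃ t s u z : K, (g : Matrix _ _ K) = M t s u z := Iff.rfl

/-- The bijection `K⁴ ≃ U`. -/
noncomputable def equivU (K : Type*) [Field K] : (K × K × K × K) ≃ ↥(U K) :=
  Equiv.ofBijective (fun v => ⟨⟨M v.1 v.2.1 v.2.2.1 v.2.2.2, M_mem _ _ _ _⟩, v.1, v.2.1, v.2.2.1,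
    v.2.2.2, rfl⟩) (by
    constructor
    · rintro ⟨a, b, c, d⟩ ⟨a', b', c', d'⟩ h
      have h1 : M a b c d = M a' b' c' d' := congrArg Subtype.val (congrArg Subtype.val h)
      obtain ⟨h2, h3, h4, h5⟩ := M_inj h1
      rw [h2, h3, h4, h5]
    · rintro ⟨g, t, s, u, z, hg⟩
      exact ⟨(t, s, u, z), Subtype.ext (Subtype.ext hg.symm)⟩)

theorem coe_equivU (v : K × K × K × K) :
    (((equivU K v : ↥(U K)) : ↥(Matrix.symplecticGroup (Fin 2) K)) : Matrix _ _ K) =
      M v.1 v.2.1 v.2.2.1 v.2.2.2 := rfl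

theorem equivU_symm_mul (x y : ↥(U K)) :
    (equivU K).symm (x * y) =
      (((equivU K).symm x).1 + ((equivU K).symm y).1,
        ((equivU K).symm x).2.1 + ((equivU K).symm y).2.1,
        ((equivU K).symm x).2.2.1 + ((equivU K).symm y).2.2.1 +
          ((equivU K).symm x).1 * ((equivU K).symm y).2.1,
        ((equivU K).symm x).2.2.2 + ((equivU K).symm y).2.2.2 +
          2 * ((equivU K).symm x).1 * ((equivU K).symm y).2.2.1 +
          ((equivU K).symm x).1 ^ 2 * ((equivU K).symm y).2.1) := by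
  obtain ⟨a, rfl⟩ := (equivU K).surjective x
  obtain ⟨b, rfl⟩ := (equivU K).surjective y
  rw [Equiv.symm_apply_eq]
  apply Subtype.ext
  apply Subtype.ext
  show M a.1 a.2.1 a.2.2.1 a.2.2.2 * M b.1 b.2.1 b.2.2.1 b.2.2.2 = _
  rw [M_mul, coe_equivU, Equiv.symm_apply_apply, Equiv.symm_apply_apply]

/-- The coordinates on `U`. -/
noncomputable def coordU (K : Type*) [Field K] : SpCoord ↥(U K) K where
  t x := ((equivU K).symm x).1
  s x := ((equivU K).symm x).2.1
  u x := ((equivU K).symm x).2.2.1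
  z x := ((equivU K).symm x).2.2.2
  t_mul x y := by rw [equivU_symm_mul]
  s_mul x y := by rw [equivU_symm_mul]
  u_mul x y := by rw [equivU_symm_mul]
  z_mul x y := by rw [equivU_symm_mul]
  inj x y h1 h2 h3 h4 := by
    apply (equivU K).symm.injective
    exact Prod.ext h1 (Prod.ext h2 (Prod.ext h3 h4))
  surj a b c d := ⟨equivU K (a, b, c, d), by simp⟩

/-- Coordinates are transported by isomorphisms. -/
def SpCoord.congr {X Y : Type*} [Group X] [Group Y] (e : Y ≃* X) (C : SpCoord X K) :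
    SpCoord Y K where
  t y := C.t (e y)
  s y := C.s (e y)
  u y := C.u (e y)
  z y := C.z (e y)
  t_mul x y := by rw [map_mul, C.t_mul]
  s_mul x y := by rw [map_mul, C.s_mul]
  u_mul x y := by rw [map_mul, C.u_mul]
  z_mul x y := by rw [map_mul, C.z_mul]
  inj x y h1 h2 h3 h4 := e.injective (C.inj _ _ h1 h2 h3 h4)
  surj a b c d := by
    obtain ⟨x, hx⟩ := C.surj a b c d
    exact ⟨e.symm x, by simpa using hx⟩

theorem card_U [Fintype K] : Nat.card ↥(U K) = Fintype.card K ^ 4 := by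
  rw [← Nat.card_congr (equivU K), Nat.card_prod, Nat.card_prod, Nat.card_prod,
    Nat.card_eq_fintype_card]
  ring

/-- **Sylow `p`-subgroups of `Sp₄(K)` in characteristic `p` have symplectic coordinates.** -/
theorem nonempty_spCoord {K : Type*} [Field K] [Fintype K] {p : ℕ} [Fact p.Prime] [CharP K p]
    (T : Sylow p ↥(Matrix.symplecticGroup (Fin 2) K)) :
    Nonempty (Cfsg.Agent.H780.SpCoord ↥(T : Subgroup ↥(Matrix.symplecticGroup (Fin 2) K)) K) := by
  classical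
  have hp : p.Prime := Fact.out
  obtain ⟨n, -, hn⟩ := FiniteField.card K p
  have hcard : Nat.card ↥(Matrix.symplecticGroup (Fin 2) K) =
      Fintype.card K ^ 4 * ((Fintype.card K ^ 2 - 1) * (Fintype.card K ^ 4 - 1)) := by
    rw [Cfsg.Agent.LieClassical.SympCount.card_symplecticGroup]
    simp [Finset.prod_range_succ]
  have hq : p ∣ Fintype.card K := by
    rw [hn]
    exact dvd_pow_self p n.ne_zero
  have hsub : ∀ k : ℕ, k ≠ 0 → ¬ p ∣ Fintype.card K ^ k - 1 := by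
    intro k hk h
    have h1 : p ∣ Fintype.card K ^ k := hq.trans (dvd_pow_self _ hk)
    have h2 : 1 ≤ Fintype.card K ^ k := Nat.one_le_pow _ _ Fintype.card_pos
    have h3 : p ∣ 1 := by
      have := (Nat.dvd_sub h1 h)
      rwa [Nat.sub_sub_self h2] at this
    exact hp.one_lt.ne' (Nat.dvd_one.mp h3)
  have hfac : (Nat.card ↥(Matrix.symplecticGroup (Fin 2) K)).factorization p =
      (Fintype.card K ^ 4).factorization p := by
    have h0 : (Fintype.card K ^ 2 - 1) * (Fintype.card K ^ 4 - 1) ≠ 0 := by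
      intro h
      rcases Nat.mul_eq_zero.mp h with h | h
      · exact hsub 2 (by norm_num) (by rw [h]; exact dvd_zero p)
      · exact hsub 4 (by norm_num) (by rw [h]; exact dvd_zero p)
    have h1 : ¬ p ∣ (Fintype.card K ^ 2 - 1) * (Fintype.card K ^ 4 - 1) := by
      rw [hp.dvd_mul]
      rintro (h | h)
      · exact hsub 2 (by norm_num) h
      · exact hsub 4 (by norm_num) h
    rw [hcard, Nat.factorization_mul (pow_ne_zero _ Fintype.card_ne_zero) h0, Finsupp.add_apply,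
      Nat.factorization_eq_zero_of_not_dvd h1, add_zero]
  have hU : Nat.card ↥(U K) =
      p ^ (Nat.card ↥(Matrix.symplecticGroup (Fin 2) K)).factorization p := by
    rw [hfac, card_U, hn, ← pow_mul, Nat.factorization_pow, Finsupp.smul_apply,
      hp.factorization_self]
    simp
  exact ⟨SpCoord.congr (Sylow.equiv T (Sylow.ofCard (U K) hU)) (coordU K)⟩

end Cfsg.Agent.H956.SpSylow
end

-- part: H131/ExtTransfer
section
/-!
# Extending a central extension of a Sylow subgroup (helper131, for S5260)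

`T` a Sylow `p`-subgroup of the finite group `G`, `π : S →* G` with range `T` and central kernel `U`
a `p`-group, `χ : G →* MulAut U` trivial on `T`, and the extension is stable. Then `S` is contained in
an extension `E` of `G` by `U` on which `G` acts through `χ`.
-/

set_option autoImplicit false
set_option linter.unusedSectionVars false

namespace Cfsg.Agent.H131.ExtTransfer

universe u v

/-- pairs `(g, F)`, with product `(g, F) (g', F') = (g g', x ↦ F (g' x) F' x)`. -/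
@[ext] structure W (S : Type u) (G : Type v) (X : Type v) where
  fst : G
  snd : X → S

section W

variable {S : Type u} [Group S] {G : Type v} [Group G] {X : Type v} [MulAction G X]

instance : Mul (W S G X) := ⟨fun w w' => ⟨w.fst * w'.fst, fun x => w.snd (w'.fst • x) * w'.snd x⟩⟩

instance : One (W S G X) := ⟨⟨1, fun _ => 1⟩⟩

instance : Inv (W S G X) := ⟨fun w => ⟨w.fst⁻¹, fun x => (w.snd (w.fst⁻¹ • x))⁻¹⟩⟩

@[simp] theorem mul_fst (w w' : W S G X) : (w * w').fst = w.fst * w'.fst := rfl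

@[simp] theorem mul_snd (w w' : W S G X) (x : X) :
    (w * w').snd x = w.snd (w'.fst • x) * w'.snd x := rfl

@[simp] theorem one_fst : (1 : W S G X).fst = 1 := rfl

@[simp] theorem one_snd (x : X) : (1 : W S G X).snd x = 1 := rfl

@[simp] theorem inv_fst (w : W S G X) : (w⁻¹).fst = w.fst⁻¹ := rfl

@[simp] theorem inv_snd (w : W S G X) (x : X) : (w⁻¹).snd x = (w.snd (w.fst⁻¹ • x))⁻¹ := rfl

instance : Group (W S G X) := by
  refine Group.ofLeftAxioms ?_ ?_ ?_
  · intro a b c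
    ext x
    · simp [mul_assoc]
    · simp [mul_assoc, mul_smul]
  · intro a
    ext x
    · simp
    · simp
  · intro a
    ext x
    · simp
    · simp

instance [Finite S] [Finite G] [Finite X] : Finite (W S G X) :=
  Finite.of_injective (β := G × (X → S)) (fun w => (w.fst, w.snd)) (by
    rintro ⟨a, b⟩ ⟨c, d⟩ h
    simp only [Prod.mk.injEq] at h
    rw [h.1, h.2])

end W

variable {p : ℕ} {S : Type u} {G : Type v} [Group S] [Group G]

/-- lift of the partial map -/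
theorem exists_Phi (T : Subgroup G) (π : S →* G) (χ : G →* MulAut π.ker)
    (hlift : ∀ g : G, ∃ φ : (((T ⊓ T.map (MulAut.conj g).toMonoidHom).comap π : Subgroup S) →* S),
      (∀ x : ((T ⊓ T.map (MulAut.conj g).toMonoidHom).comap π : Subgroup S),
        π (φ x) = g⁻¹ * π (x : S) * g) ∧
      ∀ (x : ((T ⊓ T.map (MulAut.conj g).toMonoidHom).comap π : Subgroup S)) (u : π.ker),
        (x : S) = u → φ x = (χ g)⁻¹ u) :
    ∃ Φ : G → S → S, ∀ g : G,
      (∀ x y : S, π x ∈ T ⊓ T.map (MulAut.conj g).toMonoidHom →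
        π y ∈ T ⊓ T.map (MulAut.conj g).toMonoidHom → Φ g (x * y) = Φ g x * Φ g y) ∧
      (∀ x : S, π x ∈ T ⊓ T.map (MulAut.conj g).toMonoidHom → π (Φ g x) = g⁻¹ * π x * g) ∧
      ∀ u : π.ker, Φ g u = (χ g)⁻¹ u := by
  classical
  choose φ hφ1 hφ2 using hlift
  refine ⟨fun g x => if h : x ∈ ((T ⊓ T.map (MulAut.conj g).toMonoidHom).comap π : Subgroup S)
    then φ g ⟨x, h⟩ else 1, fun g => ⟨?_, ?_, ?_⟩⟩
  · intro x y hx hy
    have hx' : x ∈ ((T ⊓ T.map (MulAut.conj g).toMonoidHom).comap π : Subgroup S) := hx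
    have hy' : y ∈ ((T ⊓ T.map (MulAut.conj g).toMonoidHom).comap π : Subgroup S) := hy
    have hxy := mul_mem hx' hy'
    simp only [dif_pos hx', dif_pos hy', dif_pos hxy]
    rw [← map_mul]
    rfl
  · intro x hx
    have hx' : x ∈ ((T ⊓ T.map (MulAut.conj g).toMonoidHom).comap π : Subgroup S) := hx
    simp only [dif_pos hx']
    rw [hφ1]
  · intro u
    have hu : (u : S) ∈ ((T ⊓ T.map (MulAut.conj g).toMonoidHom).comap π : Subgroup S) := by
      rw [Subgroup.mem_comap, (MonoidHom.mem_ker).1 u.2]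
      exact one_mem _
    simp only [dif_pos hu]
    exact hφ2 g ⟨u, hu⟩ u rfl

/-- The main theorem. -/
theorem exists_ext [Fact p.Prime] [Finite S] [Finite G] (T : Sylow p G) (π : S →* G)
    (hπ : π.range = T)
    (hc : ∀ u ∈ π.ker, ∀ s, u * s = s * u) (hU : ∀ u ∈ π.ker, ∃ k, u ^ p ^ k = 1)
    (χ : G →* MulAut π.ker) (hχ : ∀ s, χ (π s) = 1)
    (hlift : ∀ g : G, ∃ φ : ((((T : Subgroup G) ⊓ (T : Subgroup G).map
        (MulAut.conj g).toMonoidHom).comap π : Subgroup S) →* S),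
      (∀ x : (((T : Subgroup G) ⊓ (T : Subgroup G).map (MulAut.conj g).toMonoidHom).comap π :
          Subgroup S), π (φ x) = g⁻¹ * π (x : S) * g) ∧
      ∀ (x : (((T : Subgroup G) ⊓ (T : Subgroup G).map (MulAut.conj g).toMonoidHom).comap π :
          Subgroup S)) (u : π.ker), (x : S) = u → φ x = (χ g)⁻¹ u) :
    ∃ (E : Type (max u v)) (_ : Group E) (_ : Finite E) (ι : S →* E) (ρ : E →* G),
      Function.Injective ι ∧ (∀ s, ρ (ι s) = π s) ∧ Function.Surjective ρ ∧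
        (∀ e, ρ e = 1 → ∃ u : π.ker, e = ι u) ∧
        (∀ e (u : π.ker), e * ι u * e⁻¹ = ι (χ (ρ e) u)) := by
  classical
  have hp : p.Prime := Fact.out
  obtain ⟨Φ, hΦ⟩ := exists_Phi (T : Subgroup G) π χ hlift
  -- commutativity of the kernel
  let _ : CommGroup π.ker :=
    { (inferInstance : Group π.ker) with
      mul_comm := fun a b => Subtype.ext (hc a a.2 b) }
  let X := G ⧸ (T : Subgroup G)
  have : Finite X := inferInstance
  have : Fintype X := Fintype.ofFinite X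
  have hTπ : ∀ t : G, t ∈ (T : Subgroup G) → ∃ s, π s = t := by
    intro t ht
    rw [← hπ] at ht
    exact ht
  have hπT : ∀ s, π s ∈ (T : Subgroup G) := by
    intro s
    rw [← hπ]
    exact ⟨s, rfl⟩
  -- orbit representatives
  let x0 : X → X := fun y => (Quotient.out (Quotient.mk (MulAction.orbitRel (T : Subgroup G) X) y))
  have hx0 : ∀ y : X, ∃ s : S, π s • x0 y = y := by
    intro y
    have h1 : (MulAction.orbitRel (T : Subgroup G) X).r (x0 y) y :=
      Quotient.exact (Quotient.out_eq _)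
    have h2 : x0 y ∈ MulAction.orbit (T : Subgroup G) y := h1
    obtain ⟨t, ht⟩ := h2
    obtain ⟨s, hs⟩ := hTπ _ (t⁻¹).2
    refine ⟨s, ?_⟩
    rw [← ht, hs]
    show (t⁻¹ : (T : Subgroup G)) • (t • y) = y
    rw [inv_smul_smul]
  have hx0' : ∀ (s : S) (y : X), x0 (π s • y) = x0 y := by
    intro s y
    have h1 : Quotient.mk (MulAction.orbitRel (T : Subgroup G) X) (π s • y) =
        Quotient.mk (MulAction.orbitRel (T : Subgroup G) X) y := by
      refine Quotient.sound ?_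
      show (π s • y) ∈ MulAction.orbit (T : Subgroup G) y
      exact ⟨⟨π s, hπT s⟩, rfl⟩
    show Quotient.out _ = Quotient.out _
    rw [h1]
  choose a ha using hx0
  let o : X → G := fun y => Quotient.out (x0 y)
  have ho : ∀ y, ((o y : G) : X) = x0 y := fun y => Quotient.out_eq' (x0 y)
  have ho' : ∀ (s : S) (y : X), o (π s • y) = o y := by
    intro s y
    show Quotient.out (x0 (π s • y)) = Quotient.out (x0 y)
    rw [hx0']
  let r : X → G := fun y => π (a y) * o y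
  have hr : ∀ y, ((r y : G) : X) = y := by
    intro y
    have h1 : ((r y : G) : X) = π (a y) • ((o y : G) : X) := rfl
    rw [h1, ho, ha]
  -- the group Γ
  let Γ : Subgroup (W S G X) :=
    { carrier := {w | ∀ x, π (w.snd x) = (r (w.fst • x))⁻¹ * w.fst * r x}
      mul_mem' := by
        intro w w' hw hw' x
        rw [mul_snd, map_mul, hw, hw', mul_fst, mul_smul]
        group
      one_mem' := by
        intro x
        simp
      inv_mem' := by
        intro w hw x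
        rw [inv_snd, map_inv, hw, inv_fst, smul_inv_smul]
        group }
  have hΓ : ∀ w : W S G X, w ∈ Γ ↔ ∀ x, π (w.snd x) = (r (w.fst • x))⁻¹ * w.fst * r x :=
    fun w => Iff.rfl
  let toU : S → π.ker := fun s => if h : s ∈ π.ker then ⟨s, h⟩ else 1
  have htoU : ∀ s (h : s ∈ π.ker), toU s = ⟨s, h⟩ := fun s h => dif_pos h
  let τ : W S G X → π.ker := fun w => ∏ x, χ (r x) (toU (w.snd x))
  have hker : ∀ w ∈ Γ, w.fst = 1 → ∀ x, w.snd x ∈ π.ker := by
    intro w hw h1 x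
    rw [MonoidHom.mem_ker, hw x, h1]
    simp
  have hτmul : ∀ w w' : W S G X, w ∈ Γ → w' ∈ Γ → w.fst = 1 → w'.fst = 1 →
      τ (w * w') = τ w * τ w' := by
    intro w w' hw hw' h1 h1'
    show ∏ x, χ (r x) (toU ((w * w').snd x)) =
      (∏ x, χ (r x) (toU (w.snd x))) * ∏ x, χ (r x) (toU (w'.snd x))
    rw [← Finset.prod_mul_distrib]
    refine Finset.prod_congr rfl fun x _ => ?_
    rw [← map_mul, mul_snd, h1', one_smul]
    have k1 := hker w hw h1 x
    have k2 := hker w' hw' h1' x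
    rw [htoU _ k1, htoU _ k2, htoU _ (mul_mem k1 k2)]
    rfl
  have hτconj : ∀ w v : W S G X, w ∈ Γ → v ∈ Γ → v.fst = 1 →
      τ (w * v * w⁻¹) = χ w.fst (τ v) := by
    intro w v hw hv h1
    show ∏ x, χ (r x) (toU ((w * v * w⁻¹).snd x)) = χ w.fst (∏ x, χ (r x) (toU (v.snd x)))
    rw [map_prod]
    rw [← Equiv.prod_comp (MulAction.toPerm w.fst : Equiv.Perm X)
      (fun x => χ (r x) (toU ((w * v * w⁻¹).snd x)))]
    refine Finset.prod_congr rfl fun x _ => ?_
    have h2 : (w * v * w⁻¹).snd (w.fst • x) = v.snd x := by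
      rw [mul_snd, mul_snd, inv_snd, inv_fst, inv_smul_smul, h1, one_smul]
      have k1 := hker v hv h1 x
      rw [mul_assoc, hc _ k1, ← mul_assoc, mul_inv_cancel, one_mul]
    have h3 : r (w.fst • x) = w.fst * r x * π ((w.snd x)⁻¹) := by
      rw [map_inv, hw x]
      group
    show χ (r (w.fst • x)) (toU ((w * v * w⁻¹).snd (w.fst • x))) = _
    rw [h2, h3, map_mul, map_mul, hχ, mul_one]
    rfl
  let N : Subgroup Γ :=
    { carrier := {w | w.1.fst = 1 ∧ τ w.1 = 1}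
      mul_mem' := by
        rintro w w' ⟨h1, h2⟩ ⟨h1', h2'⟩
        refine ⟨?_, ?_⟩
        · show (w.1 * w'.1).fst = 1
          rw [mul_fst, h1, h1', one_mul]
        · show τ (w.1 * w'.1) = 1
          rw [hτmul w.1 w'.1 w.2 w'.2 h1 h1', h2, h2', one_mul]
      one_mem' := by
        refine ⟨rfl, ?_⟩
        have h0 := hτmul 1 1 (one_mem Γ) (one_mem Γ) rfl rfl
        rw [one_mul] at h0
        exact (mul_eq_left.1 h0.symm)
      inv_mem' := by
        rintro w ⟨h1, h2⟩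
        have h3 : (w.1⁻¹).fst = 1 := by rw [inv_fst, h1, inv_one]
        refine ⟨h3, ?_⟩
        have h0 := hτmul w.1 (w.1⁻¹) w.2 (inv_mem w.2) h1 h3
        have h4 : τ 1 = 1 := by
          have h0 := hτmul 1 1 (one_mem Γ) (one_mem Γ) rfl rfl
          rw [one_mul] at h0
          exact (mul_eq_left.1 h0.symm)
        rw [mul_inv_cancel, h4, h2, one_mul] at h0
        exact h0.symm }
  have hN : ∀ w : Γ, w ∈ N ↔ w.1.fst = 1 ∧ τ w.1 = 1 := fun w => Iff.rfl
  have hNn : N.Normal := by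
    refine ⟨fun v hv w => ?_⟩
    rw [hN] at hv ⊢
    refine ⟨?_, ?_⟩
    · show (w.1 * v.1 * w.1⁻¹).fst = 1
      rw [mul_fst, mul_fst, inv_fst, hv.1, mul_one, mul_inv_cancel]
    · show τ (w.1 * v.1 * w.1⁻¹) = 1
      rw [hτconj w.1 v.1 w.2 v.2 hv.1, hv.2, map_one]
  -- the map S → Γ
  let F : S → X → S := fun s y => Φ (o y) ((a (π s • y))⁻¹ * s * a y)
  have hdom : ∀ (s : S) (y : X), π ((a (π s • y))⁻¹ * s * a y) ∈
      (T : Subgroup G) ⊓ (T : Subgroup G).map (MulAut.conj (o y)).toMonoidHom := by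
    intro s y
    refine ⟨hπT _, ?_⟩
    have h1 : π ((a (π s • y))⁻¹ * s * a y) • x0 y = x0 y := by
      rw [map_mul, map_mul, map_inv, mul_smul, mul_smul, ha]
      rw [inv_smul_eq_iff]
      conv_rhs => rw [← hx0' s y]
      rw [ha]
    rw [← ho y] at h1
    have h2 : (((π ((a (π s • y))⁻¹ * s * a y)) * o y : G) : X) = ((o y : G) : X) := h1
    have h3 := QuotientGroup.eq.1 h2.symm
    refine ⟨(o y)⁻¹ * (π ((a (π s • y))⁻¹ * s * a y) * o y), h3, ?_⟩
    show o y * ((o y)⁻¹ * (π ((a (π s • y))⁻¹ * s * a y) * o y)) * (o y)⁻¹ = _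
    group
  have hFΓ : ∀ s : S, (⟨π s, F s⟩ : W S G X) ∈ Γ := by
    intro s
    rw [hΓ]
    intro y
    show π (Φ (o y) ((a (π s • y))⁻¹ * s * a y)) = (r (π s • y))⁻¹ * π s * r y
    rw [(hΦ (o y)).2.1 _ (hdom s y)]
    show _ = (π (a (π s • y)) * o (π s • y))⁻¹ * π s * (π (a y) * o y)
    rw [ho', map_mul, map_mul, map_inv]
    group
  have hFmul : ∀ (s s' : S) (y : X), F (s * s') y = F s (π s' • y) * F s' y := by
    intro s s' y
    show Φ (o y) ((a (π (s * s') • y))⁻¹ * (s * s') * a y) =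
      Φ (o (π s' • y)) ((a (π s • π s' • y))⁻¹ * s * a (π s' • y)) *
        Φ (o y) ((a (π s' • y))⁻¹ * s' * a y)
    have h2 := hdom s (π s' • y)
    rw [ho'] at h2
    rw [ho', ← (hΦ (o y)).1 _ _ h2 (hdom s' y), map_mul, mul_smul]
    congr 1
    group
  let ι0 : S →* Γ :=
    { toFun := fun s => ⟨⟨π s, F s⟩, hFΓ s⟩
      map_one' := by
        have h1 : (⟨⟨π 1, F 1⟩, hFΓ 1⟩ : Γ) * ⟨⟨π 1, F 1⟩, hFΓ 1⟩ = ⟨⟨π 1, F 1⟩, hFΓ 1⟩ := by
          apply Subtype.ext
          apply W.ext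
          · show π 1 * π 1 = π 1
            rw [map_one, one_mul]
          · funext y
            show F 1 (π 1 • y) * F 1 y = F 1 y
            rw [← hFmul, one_mul]
        exact mul_eq_left.1 h1
      map_mul' := by
        intro s s'
        apply Subtype.ext
        apply W.ext
        · show π (s * s') = π s * π s'
          rw [map_mul]
        · funext y
          exact hFmul s s' y }
  -- values on the kernel
  have hFu : ∀ (u : π.ker) (y : X), F u y = (χ (o y))⁻¹ u := by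
    intro u y
    show Φ (o y) ((a (π (u : S) • y))⁻¹ * u * a y) = _
    have h1 : π (u : S) = 1 := (MonoidHom.mem_ker).1 u.2
    rw [h1, one_smul]
    have h2 : (a y)⁻¹ * (u : S) * a y = u := by
      rw [mul_assoc, hc u u.2, ← mul_assoc, inv_mul_cancel, one_mul]
    rw [h2, (hΦ (o y)).2.2 u]
  have hτu : ∀ u : π.ker, τ ⟨π (u : S), F u⟩ = u ^ Fintype.card X := by
    intro u
    show ∏ x, χ (r x) (toU (F u x)) = _
    have h1 : ∀ x ∈ (Finset.univ : Finset X), χ (r x) (toU (F u x)) = u := by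
      intro x _
      rw [hFu, htoU _ ((χ (o x))⁻¹ u).2]
      show χ (π (a x) * o x) ((χ (o x))⁻¹ u) = u
      rw [map_mul, hχ, one_mul, MulAut.apply_inv_self]
    rw [Finset.prod_congr rfl h1, Finset.prod_const, Finset.card_univ]
  -- coprimality
  have hcop : ∀ u : π.ker, (orderOf u).Coprime (Fintype.card X) := by
    intro u
    obtain ⟨k, hk⟩ := hU u u.2
    have h1 : u ^ p ^ k = 1 := Subtype.ext hk
    have h2 : orderOf u ∣ p ^ k := orderOf_dvd_of_pow_eq_one h1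
    have h3 : ¬ p ∣ Nat.card X := by
      have h4 : Nat.card X = (T : Subgroup G).index := rfl
      rw [h4]
      exact T.not_dvd_index
    rw [← Nat.card_eq_fintype_card (α := X)]
    exact Nat.Coprime.coprime_dvd_left h2 (Nat.Coprime.pow_left _ ((Nat.Prime.coprime_iff_not_dvd hp).2 h3))
  -- the projection
  let ρ0 : Γ →* G :=
    { toFun := fun w => w.1.fst
      map_one' := rfl
      map_mul' := fun _ _ => rfl }
  let ρ : Γ ⧸ N →* G := QuotientGroup.lift N ρ0 (fun w hw => hw.1)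
  have hρ : ∀ w : Γ, ρ (QuotientGroup.mk w) = w.1.fst := fun w => rfl
  -- equality criterion
  have hEq : ∀ w w' : Γ, w.1.fst = 1 → w'.1.fst = 1 → τ w.1 = τ w'.1 →
      (QuotientGroup.mk w : Γ ⧸ N) = QuotientGroup.mk w' := by
    intro w w' h1 h1' h2
    rw [QuotientGroup.eq]
    rw [hN]
    have h3 : (w⁻¹ * w').1 ∈ Γ := (w⁻¹ * w').2
    have h4 : (w⁻¹ * w').1.fst = 1 := by
      show w.1.fst⁻¹ * w'.1.fst = 1
      rw [h1, h1', inv_one, one_mul]
    refine ⟨h4, ?_⟩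
    have h5 := hτmul w.1 (w⁻¹ * w').1 w.2 h3 h1 h4
    have h6 : w.1 * (w⁻¹ * w').1 = w'.1 := by
      show w.1 * (w.1⁻¹ * w'.1) = w'.1
      rw [mul_inv_cancel_left]
    rw [h6, ← h2] at h5
    exact mul_eq_left.1 h5.symm
  have hFfst : ∀ u : π.ker, (ι0 u).1.fst = 1 := fun u => (MonoidHom.mem_ker).1 u.2
  have hτι : ∀ u : π.ker, τ (ι0 u).1 = u ^ Fintype.card X := hτu
  refine ⟨Γ ⧸ N, inferInstance, inferInstance, (QuotientGroup.mk' N).comp ι0, ρ, ?_, ?_, ?_, ?_, ?_⟩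
  · rw [injective_iff_map_eq_one]
    intro s hs
    have h1 : ι0 s ∈ N := (QuotientGroup.eq_one_iff _).1 hs
    have h2 : π s = 1 := h1.1
    have h3 : τ (ι0 s).1 = 1 := h1.2
    have h4 := hτι ⟨s, (MonoidHom.mem_ker).2 h2⟩
    have h5 : (⟨s, (MonoidHom.mem_ker).2 h2⟩ : π.ker) ^ Fintype.card X = 1 := by
      rw [← h4]; exact h3
    have h6 := orderOf_dvd_of_pow_eq_one h5
    have h7 := Nat.Coprime.eq_one_of_dvd (hcop _) h6
    rw [orderOf_eq_one_iff] at h7
    exact congrArg Subtype.val h7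
  · intro s
    rfl
  · intro g
    have h1 : ∀ x : X, ∃ s : S, π s = (r (g • x))⁻¹ * g * r x := by
      intro x
      apply hTπ
      have h2 : ((r (g • x) : G) : X) = ((g * r x : G) : X) := by
        rw [hr]
        show g • x = g • ((r x : G) : X)
        rw [hr]
      have h3 := QuotientGroup.eq.1 h2
      rw [← mul_assoc] at h3
      exact h3
    choose A hA using h1
    exact ⟨QuotientGroup.mk (⟨⟨g, A⟩, hA⟩ : Γ), rfl⟩
  · intro e
    refine QuotientGroup.induction_on e fun w => ?_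
    intro hw
    have hw1 : w.1.fst = 1 := hw
    obtain ⟨u, hu⟩ : ∃ u : π.ker, u ^ Fintype.card X = τ w.1 := by
      have h1 := hcop (τ w.1)
      obtain ⟨n, hn⟩ := exists_pow_eq_self_of_coprime h1.symm
      refine ⟨(τ w.1) ^ n, ?_⟩
      rw [← pow_mul, mul_comm, pow_mul]
      exact hn
    refine ⟨u, ?_⟩
    refine hEq w (ι0 u) hw1 (hFfst u) ?_
    rw [hτι, hu]
  · intro e
    refine QuotientGroup.induction_on e fun w => ?_
    intro u
    have h1 : (w * ι0 u * w⁻¹).1.fst = 1 := by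
      show w.1.fst * (ι0 u).1.fst * w.1.fst⁻¹ = 1
      rw [hFfst, mul_one, mul_inv_cancel]
    refine hEq (w * ι0 u * w⁻¹) (ι0 (χ w.1.fst u)) h1 (hFfst _) ?_
    have h2 := hτconj w.1 (ι0 u).1 w.2 (ι0 u).2 (hFfst u)
    have h3 : (w * ι0 u * w⁻¹).1 = w.1 * (ι0 u).1 * w.1⁻¹ := rfl
    rw [h3, h2, hτι, hτι, map_pow]

end Cfsg.Agent.H131.ExtTransfer
end

-- part: H971/GDSylow
section
/-!
# The upper unitriangular group is a Sylow `2`-subgroup of `SL₃(K) ≤ GD Δ ≤ GL₃(K)` (`K` finite of characteristic two)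

Also: the normaliser of `T` consists of the triangular matrices.
-/

set_option autoImplicit false

namespace Cfsg.Agent.H971.GDSylow

open Matrix Cfsg.Agent.H454.AlperinGL3
open scoped MatrixGroups

variable {K : Type*} [Field K] {Δ : Subgroup Kˣ}

/-- `T Δ` in coordinates. -/
noncomputable def equivT (Δ : Subgroup Kˣ) : K × K × K ≃ T Δ where
  toFun v := ⟨xx Δ v.1 v.2.1 v.2.2, xx_mem _ _ _⟩
  invFun x := (x.1.1.1 0 1, x.1.1.1 1 2, x.1.1.1 0 2)
  left_inv _ := rfl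
  right_inv x := Subtype.ext (eq_xx x.2).symm

theorem card_T (Δ : Subgroup Kˣ) : Nat.card (T Δ) = Nat.card K ^ 3 := by
  rw [← Nat.card_congr (equivT Δ), Nat.card_prod, Nat.card_prod]
  ring

theorem card_GL3 [Finite K] : Nat.card (GL (Fin 3) K) =
    Nat.card K ^ 3 * ((Nat.card K ^ 3 - 1) * (Nat.card K ^ 2 - 1) * (Nat.card K - 1)) := by
  have := Fintype.ofFinite K
  rw [Matrix.card_GL_field, Fin.prod_univ_three, ← Nat.card_eq_fintype_card]
  set q := Nat.card K with hq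
  have hq1 : 1 ≤ q := Nat.card_pos
  have h0 : q ^ 3 - q ^ ((0 : Fin 3) : ℕ) = q ^ 3 - 1 := by simp
  have h1 : q ^ 3 - q ^ ((1 : Fin 3) : ℕ) = q * (q ^ 2 - 1) := by
    have : ((1 : Fin 3) : ℕ) = 1 := rfl
    rw [this, Nat.mul_sub, pow_one, mul_one]
    congr 1
    ring
  have h2 : q ^ 3 - q ^ ((2 : Fin 3) : ℕ) = q ^ 2 * (q - 1) := by
    have : ((2 : Fin 3) : ℕ) = 2 := rfl
    rw [this, Nat.mul_sub, mul_one]
    congr 1
  rw [h0, h1, h2]
  ring

theorem not_two_dvd_index [Finite K] [CharP K 2] : ¬ 2 ∣ (T Δ).index := by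
  have hq : 2 ∣ Nat.card K := by
    have := Fintype.ofFinite K
    have : Fact (Nat.Prime 2) := ⟨Nat.prime_two⟩
    obtain ⟨n, -, hn⟩ := FiniteField.card K 2
    rw [Nat.card_eq_fintype_card, hn]
    exact dvd_pow_self 2 n.ne_zero
  have hpos : 0 < Nat.card K := Nat.card_pos
  have h1 : (T Δ).index * (GD Δ).index =
      (Nat.card K ^ 3 - 1) * (Nat.card K ^ 2 - 1) * (Nat.card K - 1) := by
    have h2 := (T Δ).card_mul_index
    have h3 := (GD Δ).card_mul_index
    rw [card_GL3, ← h2, card_T] at h3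
    apply Nat.eq_of_mul_eq_mul_left (pow_pos hpos 3)
    rw [← h3]; ring
  intro h
  have h2 : 2 ∣ (Nat.card K ^ 3 - 1) * (Nat.card K ^ 2 - 1) * (Nat.card K - 1) := h1 ▸ h.mul_right _
  have h3 : ∀ k : ℕ, 1 ≤ k → ¬ 2 ∣ Nat.card K ^ k - 1 := by
    intro k hk h4
    have h5 : 2 ∣ Nat.card K ^ k := dvd_pow hq (by omega)
    have h6 : 0 < Nat.card K ^ k := pow_pos hpos k
    omega
  rcases (Nat.Prime.dvd_mul Nat.prime_two).1 h2 with h4 | h4
  · rcases (Nat.Prime.dvd_mul Nat.prime_two).1 h4 with h5 | h5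
    · exact h3 3 (by norm_num) h5
    · exact h3 2 (by norm_num) h5
  · exact h3 1 le_rfl (by rwa [pow_one])

theorem isPGroup_T [Finite K] [CharP K 2] : IsPGroup 2 (T Δ) := by
  have := Fintype.ofFinite K
  have : Fact (Nat.Prime 2) := ⟨Nat.prime_two⟩
  obtain ⟨n, -, hn⟩ := FiniteField.card K 2
  apply IsPGroup.of_card (n := n * 3)
  rw [card_T, Nat.card_eq_fintype_card, hn, pow_mul]

/-- The unitriangular group as a Sylow `2`-subgroup. -/
noncomputable def sylowT [Finite K] [CharP K 2] (Δ : Subgroup Kˣ) : Sylow 2 (GD Δ) :=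
  (isPGroup_T (Δ := Δ)).toSylow not_two_dvd_index

theorem coe_sylowT [Finite K] [CharP K 2] (Δ : Subgroup Kˣ) : ((sylowT Δ : Sylow 2 (GD Δ)) : Subgroup (GD Δ)) = T Δ :=
  rfl

/-- the entries of `g x(a,b,c) g⁻¹` -/
theorem conj_entry_xx (a b c : K) (g : GD Δ) (i j : Fin 3) :
    (g * xx Δ a b c * g⁻¹).1.1 i j = (if i = j then 1 else 0) +
      (g.1.1 i 0 * (a * (g.1⁻¹).1 1 j + c * (g.1⁻¹).1 2 j) + g.1.1 i 1 * (b * (g.1⁻¹).1 2 j)) := by
  have e := mul_entry g.1 g.1⁻¹ i j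
  rw [mul_inv_cancel, one_entry] at e
  show (g.1 * (xx Δ a b c).1 * g.1⁻¹).1 i j = _
  rw [mul_entry, mul_entry, mul_entry, mul_entry, e, xx_val]
  simp
  ring

/-- `N(T)` consists of triangular matrices. -/
theorem up_of_mem_normalizer {g : GD Δ} (hg : g ∈ Subgroup.normalizer (T Δ : Set (GD Δ))) : Up g.1.1 := by
  rw [Subgroup.mem_normalizer_iff] at hg
  have hz := (hg _).1 (xx_mem (Δ := Δ) 0 0 1)
  have hb := (hg _).1 (xx_mem (Δ := Δ) 0 1 0)
  have ha := (hg _).1 (xx_mem (Δ := Δ) 1 0 0)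
  have ez : ∀ i j, (g * xx Δ 0 0 1 * g⁻¹).1.1 i j = (if i = j then 1 else 0) + g.1.1 i 0 * (g.1⁻¹).1 2 j :=
    fun i j => by rw [conj_entry_xx]; ring
  have eb : ∀ i j, (g * xx Δ 0 1 0 * g⁻¹).1.1 i j = (if i = j then 1 else 0) + g.1.1 i 1 * (g.1⁻¹).1 2 j :=
    fun i j => by rw [conj_entry_xx]; ring
  have ea : ∀ i j, (g * xx Δ 1 0 0 * g⁻¹).1.1 i j = (if i = j then 1 else 0) + g.1.1 i 0 * (g.1⁻¹).1 1 j :=
    fun i j => by rw [conj_entry_xx]; ring
  have e22 := mul_entry g.1⁻¹ g.1 2 2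
  rw [inv_mul_cancel, one_entry, if_pos rfl] at e22
  have e11 := mul_entry g.1⁻¹ g.1 1 1
  rw [inv_mul_cancel, one_entry, if_pos rfl] at e11
  -- `g 2 0 = 0`
  have z20 : g.1.1 2 0 * (g.1⁻¹).1 2 0 = 0 := by
    have := ez 2 0; rw [hz.1.2.1, if_neg (by decide)] at this; linear_combination -this
  have z21 : g.1.1 2 0 * (g.1⁻¹).1 2 1 = 0 := by
    have := ez 2 1; rw [hz.1.2.2, if_neg (by decide)] at this; linear_combination -this
  have z22 : g.1.1 2 0 * (g.1⁻¹).1 2 2 = 0 := by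
    have := ez 2 2; rw [hz.2, if_pos rfl] at this; linear_combination -this
  have h20 : g.1.1 2 0 = 0 := by
    linear_combination g.1.1 2 0 * e22 + g.1.1 0 2 * z20 + g.1.1 1 2 * z21 + g.1.1 2 2 * z22
  -- `g 2 1 = 0`
  have b20 : g.1.1 2 1 * (g.1⁻¹).1 2 0 = 0 := by
    have := eb 2 0; rw [hb.1.2.1, if_neg (by decide)] at this; linear_combination -this
  have b21 : g.1.1 2 1 * (g.1⁻¹).1 2 1 = 0 := by
    have := eb 2 1; rw [hb.1.2.2, if_neg (by decide)] at this; linear_combination -this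
  have b22 : g.1.1 2 1 * (g.1⁻¹).1 2 2 = 0 := by
    have := eb 2 2; rw [hb.2, if_pos rfl] at this; linear_combination -this
  have h21 : g.1.1 2 1 = 0 := by
    linear_combination g.1.1 2 1 * e22 + g.1.1 0 2 * b20 + g.1.1 1 2 * b21 + g.1.1 2 2 * b22
  -- `g 1 0 = 0`
  have a10 : g.1.1 1 0 * (g.1⁻¹).1 1 0 = 0 := by
    have := ea 1 0; rw [ha.1.1, if_neg (by decide)] at this; linear_combination -this
  have a11 : g.1.1 1 0 * (g.1⁻¹).1 1 1 = 0 := by
    have := ea 1 1; rw [ha.2, if_pos rfl] at this; linear_combination -this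
  have h10 : g.1.1 1 0 = 0 := by
    linear_combination g.1.1 1 0 * e11 + g.1.1 0 1 * a10 + g.1.1 1 1 * a11 +
      g.1.1 1 0 * (g.1⁻¹).1 1 2 * h21
  exact ⟨h10, h20, h21⟩

theorem mem_normalizer_T_iff {g : GD Δ} : g ∈ Subgroup.normalizer (T Δ : Set (GD Δ)) ↔ Up g.1.1 :=
  ⟨up_of_mem_normalizer, up_mem_normalizer⟩

end Cfsg.Agent.H971.GDSylow
end

-- part: H971/SpExt
section
/-!
# The extension of `GD Δ` by `Z₁` containing `S` (task S5260-R1)
-/

set_option autoImplicit false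

universe u v w

namespace Cfsg.Agent.H971.SpExt

open Cfsg Cfsg.FusionSystem Cfsg.Agent.H780 Cfsg.Agent.H454.AlperinGL3 Cfsg.Agent.H971.GDSylow
open Matrix

variable {Ω : Type u} [Group Ω] {S : Subgroup Ω} {K : Type v} [Field K]

/-- `π : S → GD Δ`. -/
noncomputable def pi (C : SpC S K) (Δ : Subgroup Kˣ) : ↥S →* GD Δ :=
  MonoidHom.mk' (fun x => xx Δ (C.t x) (C.s x) (C.u x)) (by
    intro x y
    have h := T_mul (xx_mem (Δ := Δ) (C.t x) (C.s x) (C.u x)) (xx_mem (Δ := Δ) (C.t y) (C.s y) (C.u y))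
    refine T_ext (xx_mem _ _ _) (mul_mem (xx_mem _ _ _) (xx_mem _ _ _)) ?_ ?_ ?_
    · rw [h.1]; exact C.t_mul x.2 y.2
    · rw [h.2.1]; exact C.s_mul x.2 y.2
    · rw [h.2.2]; exact C.u_mul x.2 y.2)

theorem pi_apply (C : SpC S K) (Δ : Subgroup Kˣ) (x : S) : pi C Δ x = xx Δ (C.t x) (C.s x) (C.u x) := rfl

variable (C : SpC S K) {Δ : Subgroup Kˣ}

theorem pi_eq_iff {x : S} {g : GD Δ} (hg : g ∈ T Δ) :
    pi C Δ x = g ↔ C.t x = g.1.1 0 1 ∧ C.s x = g.1.1 1 2 ∧ C.u x = g.1.1 0 2 := by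
  constructor
  · rintro rfl
    exact ⟨rfl, rfl, rfl⟩
  · rintro ⟨h1, h2, h3⟩
    exact T_ext (xx_mem _ _ _) hg h1 h2 h3

theorem mem_ker {x : S} : x ∈ (pi C Δ).ker ↔ (x : Ω) ∈ C.Z1 := by
  rw [MonoidHom.mem_ker, pi_eq_iff C (one_mem _)]
  have h : ∀ i j : Fin 3, i ≠ j → (1 : GD Δ).1.1 i j = 0 := by
    intro i j hij
    have := one_entry (K := K) i j
    rw [if_neg hij] at this
    exact this
  rw [h 0 1 (by decide), h 1 2 (by decide), h 0 2 (by decide)]
  exact ⟨fun h => ⟨x.2, h⟩, fun h => h.2⟩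

theorem range_pi : (pi C Δ).range = T Δ := by
  apply le_antisymm
  · rintro _ ⟨x, rfl⟩
    exact xx_mem _ _ _
  · intro g hg
    obtain ⟨x, hx, h1, h2, h3, -⟩ := C.surj (g.1.1 0 1) (g.1.1 1 2) (g.1.1 0 2) 0
    exact ⟨⟨x, hx⟩, (pi_eq_iff C hg).2 ⟨h1, h2, h3⟩⟩

/-- `z` on the kernel. -/
noncomputable def zHom (Δ : Subgroup Kˣ) : (pi C Δ).ker →* Multiplicative K :=
  MonoidHom.mk' (fun x => Multiplicative.ofAdd (C.z (x : S))) (by
    intro x y
    have hx := (mem_ker C).1 x.2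
    have hy := (mem_ker C).1 y.2
    apply Multiplicative.toAdd.injective
    change C.z ((x : S) * (y : S) : Ω) = C.z (x : S) + C.z (y : S)
    rw [C.z_mul hx.1 hy.1, hx.2.1]
    ring)

theorem zHom_bijective (Δ : Subgroup Kˣ) : Function.Bijective (zHom C Δ) := by
  constructor
  · intro x y h
    have hx := (mem_ker C).1 x.2
    have hy := (mem_ker C).1 y.2
    apply Subtype.ext
    apply Subtype.ext
    apply C.inj hx.1 hy.1
    · rw [hx.2.1, hy.2.1]
    · rw [hx.2.2.1, hy.2.2.1]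
    · rw [hx.2.2.2, hy.2.2.2]
    · exact congrArg Multiplicative.toAdd h
  · intro a
    obtain ⟨x, hx, h1, h2, h3, h4⟩ := C.surj 0 0 0 a.toAdd
    exact ⟨⟨⟨x, hx⟩, (mem_ker C).2 ⟨hx, h1, h2, h3⟩⟩, congrArg Multiplicative.ofAdd h4⟩

/-- `z` on the kernel. -/
noncomputable def zEquiv (Δ : Subgroup Kˣ) : (pi C Δ).ker ≃* Multiplicative K :=
  MulEquiv.ofBijective (zHom C Δ) (zHom_bijective C Δ)

theorem zEquiv_apply (x : (pi C Δ).ker) : zEquiv C Δ x = Multiplicative.ofAdd (C.z (x : S)) := rfl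

/-- `g` acts on the kernel as `det g⁻¹`. -/
noncomputable def chi (Δ : Subgroup Kˣ) : GD Δ →* MulAut (pi C Δ).ker :=
  ((MulAut.congr (zEquiv C Δ)).symm.toMonoidHom).comp
    (((MulAutMultiplicative K).symm.toMonoidHom).comp ((DistribMulAction.toAddAut Kˣ K).comp
      ((invMonoidHom : Kˣ →* Kˣ).comp
        ((Matrix.GeneralLinearGroup.det : GL (Fin 3) K →* Kˣ).comp (GD Δ).subtype))))

theorem chi_z (g : GD Δ) (x : (pi C Δ).ker) :
    C.z ((chi C Δ g x : (pi C Δ).ker) : S) =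
      (((Matrix.GeneralLinearGroup.det g.1)⁻¹ : Kˣ) : K) * C.z (x : S) := by
  have h : zEquiv C Δ (chi C Δ g x) = Multiplicative.ofAdd
      ((((Matrix.GeneralLinearGroup.det g.1)⁻¹ : Kˣ) : K) * C.z (x : S)) := by
    change zEquiv C Δ ((zEquiv C Δ).symm _) = _
    rw [MulEquiv.apply_symm_apply]
    rfl
  exact congrArg Multiplicative.toAdd h

theorem det_of_mem_T {g : GD Δ} (hg : g ∈ T Δ) : Matrix.GeneralLinearGroup.det g.1 = 1 := by
  obtain ⟨⟨h1, h2, h3⟩, h4⟩ := hg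
  apply Units.ext
  rw [det_entries, h1, h2, h3, h4, h4, h4, Units.val_one]
  ring

theorem chi_of_mem_T {g : GD Δ} (hg : g ∈ T Δ) : chi C Δ g = 1 := by
  apply MulEquiv.ext
  intro x
  apply (zEquiv C Δ).injective
  apply Multiplicative.toAdd.injective
  change C.z ((chi C Δ g x : (pi C Δ).ker) : S) = C.z (x : S)
  rw [chi_z, det_of_mem_T hg, inv_one, Units.val_one, one_mul]

/-- Lifts of the conjugation maps. -/
def L (Δ : Subgroup Kˣ) (P : Subgroup (GD Δ)) (g : GD Δ) : Prop :=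
  ∃ φ : ↥(P.comap (pi C Δ)) →* ↥S, (∀ x, pi C Δ (φ x) = g⁻¹ * pi C Δ x * g) ∧
    ∀ x : ↥(P.comap (pi C Δ)), ((x : S) : Ω) ∈ C.Z1 →
      C.z (φ x) = ((Matrix.GeneralLinearGroup.det g.1 : Kˣ) : K) * C.z (x : S)

theorem L.mono {P P' : Subgroup (GD Δ)} {g : GD Δ} (h : P' ≤ P) (hL : L C Δ P g) : L C Δ P' g := by
  obtain ⟨φ, h1, h2⟩ := hL
  refine ⟨φ.comp (Subgroup.inclusion (Subgroup.comap_mono h)), fun x => ?_, fun x hx => ?_⟩
  · exact h1 _
  · exact h2 _ hx

theorem L.comp {P : Subgroup (GD Δ)} {g g' : GD Δ} (hL : L C Δ P g)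
    (hL' : L C Δ (P.map (MulAut.conj g⁻¹).toMonoidHom) g') : L C Δ P (g * g') := by
  obtain ⟨φ, h1, h2⟩ := hL
  obtain ⟨φ', h1', h2'⟩ := hL'
  have hmem : ∀ x, φ x ∈ (P.map (MulAut.conj g⁻¹).toMonoidHom).comap (pi C Δ) := by
    intro x
    rw [Subgroup.mem_comap, h1]
    refine ⟨pi C Δ x, x.2, ?_⟩
    change g⁻¹ * pi C Δ x * g⁻¹⁻¹ = _
    rw [inv_inv]
  refine ⟨φ'.comp (φ.codRestrict _ hmem), fun x => ?_, fun x hx => ?_⟩
  · rw [MonoidHom.comp_apply, h1']
    change g'⁻¹ * pi C Δ (φ x) * g' = _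
    rw [h1]
    group
  · rw [MonoidHom.comp_apply, h2']
    · change _ * C.z (φ x) = _
      rw [h2 x hx]
      change _ = ((Matrix.GeneralLinearGroup.det (g.1 * g'.1) : Kˣ) : K) * _
      rw [map_mul, Units.val_mul]
      ring
    · change ((φ x : S) : Ω) ∈ C.Z1
      rw [← mem_ker C (Δ := Δ), MonoidHom.mem_ker, h1, MonoidHom.mem_ker.1 ((mem_ker C).2 hx)]
      group

theorem L.comp' {P : Subgroup (GD Δ)} {g g' : GD Δ} (hL : L C Δ P g) (hL' : L C Δ P g')
    (hg : g ∈ Subgroup.normalizer (P : Set (GD Δ))) : L C Δ P (g * g') :=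
  L.comp C hL (L.mono C (map_conj_le hg le_rfl) hL')

theorem L_of_mem_T {g : GD Δ} (hg : g ∈ T Δ) : L C Δ (T Δ) g := by
  obtain ⟨s, hs⟩ : g ∈ (pi C Δ).range := by rw [range_pi]; exact hg
  refine ⟨(MulAut.conj s⁻¹).toMonoidHom.comp (Subgroup.subtype _), fun x => ?_, fun x hx => ?_⟩
  · change pi C Δ (s⁻¹ * x * s⁻¹⁻¹) = _
    rw [map_mul, map_mul, inv_inv, map_inv, hs]
  · change C.z ((s : Ω)⁻¹ * (x : S) * (s : Ω)⁻¹⁻¹) = _
    rw [mul_assoc, C.Z1_comm hx (S.inv_mem (S.inv_mem s.2)), ← mul_assoc, mul_inv_cancel, one_mul,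
      det_of_mem_T hg, Units.val_one, one_mul]

/-- A diagonal matrix. -/
theorem L_of_diag [Finite K] (hK : ∀ c : K, c ≠ 0 → c ^ 3 = 1) {F : FusionSystem S} (D : TwoData F C Δ)
    {d : GD Δ} (hd : Dg d.1.1) : L C Δ (T Δ) d := by
  obtain ⟨h01, h02, h10, h12, h20, h21⟩ := hd
  have hdet := det_entries d.1
  rw [h01, h02, h12] at hdet
  have hdet' : ((Matrix.GeneralLinearGroup.det d.1 : Kˣ) : K) = d.1.1 0 0 * d.1.1 1 1 * d.1.1 2 2 := by
    rw [hdet]; ring
  have hne : d.1.1 0 0 * d.1.1 1 1 * d.1.1 2 2 ≠ 0 := by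
    rw [← hdet']; exact Units.ne_zero _
  have h0 : d.1.1 0 0 ≠ 0 := fun h => hne (by rw [h]; ring)
  have h1 : d.1.1 1 1 ≠ 0 := fun h => hne (by rw [h]; ring)
  have h2 : d.1.1 2 2 ≠ 0 := fun h => hne (by rw [h]; ring)
  let a : Kˣ := Units.mk0 (d.1.1 1 1 / d.1.1 0 0) (div_ne_zero h1 h0)
  let b : Kˣ := Units.mk0 (d.1.1 2 2 / d.1.1 1 1) (div_ne_zero h2 h1)
  have hab : a ^ 2 * b = Matrix.GeneralLinearGroup.det d.1 := by
    apply Units.ext
    rw [hdet']
    change (d.1.1 1 1 / d.1.1 0 0) ^ 2 * (d.1.1 2 2 / d.1.1 1 1) = _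
    have h3 := hK _ h0
    field_simp
    linear_combination -h3
  have hmem : a ^ 2 * b ∈ Δ := by
    rw [hab]; exact d.2
  obtain ⟨α, -, hα, hz⟩ := D.exS a b hmem
  refine ⟨α.toMonoidHom.comp (Subgroup.subtype _), fun x => ?_, fun x hx => ?_⟩
  · obtain ⟨k1, k2, k3⟩ := hα x
    have hup : Up d.1.1 := ⟨h10, h20, h21⟩
    have i0 := hup.diag_mul_inv 0
    have i1 := hup.diag_mul_inv 1
    have i2 := hup.diag_mul_inv 2
    -- entries of the inverse
    have e := fun i j => mul_entry d.1 d.1⁻¹ i j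
    simp only [mul_inv_cancel, one_entry] at e
    have e01 := e 0 1
    have e02 := e 0 2
    have e12 := e 1 2
    rw [if_neg (by decide), h01, h02] at e01 e02
    rw [if_neg (by decide), h10, h12] at e12
    have v01 : (d.1⁻¹).1 0 1 = 0 := by
      have : d.1.1 0 0 * (d.1⁻¹).1 0 1 = 0 := by linear_combination -e01
      exact (mul_eq_zero.1 this).resolve_left h0
    have v02 : (d.1⁻¹).1 0 2 = 0 := by
      have : d.1.1 0 0 * (d.1⁻¹).1 0 2 = 0 := by linear_combination -e02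
      exact (mul_eq_zero.1 this).resolve_left h0
    have v12 : (d.1⁻¹).1 1 2 = 0 := by
      have : d.1.1 1 1 * (d.1⁻¹).1 1 2 = 0 := by linear_combination -e12
      exact (mul_eq_zero.1 this).resolve_left h1
    have w0 : (d.1⁻¹).1 0 0 = (d.1.1 0 0)⁻¹ := eq_inv_of_mul_eq_one_right i0
    have w1 : (d.1⁻¹).1 1 1 = (d.1.1 1 1)⁻¹ := eq_inv_of_mul_eq_one_right i1
    rw [pi_eq_iff C]
    · have ee : ∀ i j, (d⁻¹ * pi C Δ (x : S) * d).1.1 i j = (if i = j then 1 else 0) +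
          ((d.1⁻¹).1 i 0 * (C.t (x : S) * d.1.1 1 j + C.u (x : S) * d.1.1 2 j) +
            (d.1⁻¹).1 i 1 * (C.s (x : S) * d.1.1 2 j)) := by
        intro i j
        have := conj_entry_xx (Δ := Δ) (C.t (x : S)) (C.s (x : S)) (C.u (x : S)) d⁻¹ i j
        rw [inv_inv] at this
        rw [pi_apply, this]
        change _ + ((d.1⁻¹).1 i 0 * (_ * (d.1⁻¹⁻¹).1 1 j + _ * (d.1⁻¹⁻¹).1 2 j) +
          (d.1⁻¹).1 i 1 * (_ * (d.1⁻¹⁻¹).1 2 j)) = _
        rw [inv_inv]
      refine ⟨?_, ?_, ?_⟩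
      · rw [ee, if_neg (by decide), h21, v01, w0]
        change C.t (α x : S) = _
        rw [k1]
        change d.1.1 1 1 / d.1.1 0 0 * _ = _
        ring
      · rw [ee, if_neg (by decide), w1]
        have v10 := hup.inv.1
        rw [v10]
        change C.s (α x : S) = _
        rw [k2]
        change d.1.1 2 2 / d.1.1 1 1 * _ = _
        ring
      · rw [ee, if_neg (by decide), h12, v01, w0]
        change C.u (α x : S) = _
        rw [k3]
        change (d.1.1 1 1 / d.1.1 0 0) * (d.1.1 2 2 / d.1.1 1 1) * _ = _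
        field_simp
        ring
    · have := (Subgroup.mem_normalizer_iff.1 (inv_mem (up_mem_normalizer (Δ := Δ) (b := d)
        ⟨h10, h20, h21⟩)) (pi C Δ (x : S))).1 (xx_mem _ _ _)
      rwa [inv_inv] at this
  · obtain ⟨-, k⟩ := hz x hx
    change C.z (α x : S) = _
    rw [k, ← Units.val_pow_eq_pow_val, ← Units.val_mul, hab]

/-- Triangular matrices. -/
theorem L_of_up [Finite K] (hK : ∀ c : K, c ≠ 0 → c ^ 3 = 1) {F : FusionSystem S} (D : TwoData F C Δ)
    {g : GD Δ} (hg : Up g.1.1) : L C Δ (T Δ) g := by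
  have hdet : ((Matrix.GeneralLinearGroup.det g.1 : Kˣ) : K) = g.1.1 0 0 * g.1.1 1 1 * g.1.1 2 2 := by
    rw [det_entries, hg.1, hg.2.1, hg.2.2]; ring
  obtain ⟨d, hd⟩ : ∃ d : GD Δ, d.1.1 = !![g.1.1 0 0, 0, 0; 0, g.1.1 1 1, 0; 0, 0, g.1.1 2 2] :=
    ⟨mk _ (Matrix.GeneralLinearGroup.det g.1) (by rw [hdet, Matrix.det_fin_three]; simp) g.2, rfl⟩
  have hD : Dg d.1.1 := by
    rw [hd]
    refine ⟨?_, ?_, ?_, ?_, ?_, ?_⟩ <;> simp
  have hn : d⁻¹ * g ∈ T Δ := by
    refine ⟨hD.up.inv.mul hg, fun i => ?_⟩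
    change (d.1⁻¹ * g.1).1 i i = 1
    rw [hD.up.inv.mul_diag hg]
    have h1 := hD.up.diag_mul_inv i
    have h2 : d.1.1 i i = g.1.1 i i := by
      rw [hd]; fin_cases i <;> simp
    rw [← h2, mul_comm]
    exact h1
  have := L.comp' C (L_of_diag C hK D hD) (L_of_mem_T C hn) (up_mem_normalizer hD.up)
  rwa [mul_inv_cancel_left] at this

theorem mem_M_comap {x : S} : x ∈ (M Δ).comap (pi C Δ) ↔ (x : Ω) ∈ C.M := by
  rw [Subgroup.mem_comap]
  constructor
  · rintro ⟨-, h⟩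
    exact ⟨x.2, h⟩
  · rintro ⟨-, h⟩
    exact ⟨xx_mem _ _ _, h⟩

theorem mem_M'_comap {x : S} : x ∈ (M' Δ).comap (pi C Δ) ↔ (x : Ω) ∈ C.L 0 := by
  rw [Subgroup.mem_comap]
  constructor
  · rintro ⟨-, h⟩
    exact ⟨x.2, by rw [zero_mul]; exact h⟩
  · rintro ⟨-, h⟩
    exact ⟨xx_mem _ _ _, by rw [zero_mul] at h; exact h⟩

/-- The restriction of an automorphism of `P ≤ S` to a homomorphism into `S`. -/
def homOf {P : Subgroup Ω} (hP : P ≤ S) (n : MulAut P) {Q : Subgroup S} (hQ : ∀ x ∈ Q, (x : Ω) ∈ P) :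
    ↥Q →* ↥S where
  toFun x := ⟨(n ⟨(x : S), hQ x x.2⟩ : P), hP (n ⟨(x : S), hQ x x.2⟩).2⟩
  map_one' := by
    apply Subtype.ext
    have : n ⟨((1 : Q) : S), hQ _ (1 : Q).2⟩ = 1 := by
      have h : (⟨((1 : Q) : S), hQ _ (1 : Q).2⟩ : P) = 1 := rfl
      rw [h, map_one]
    change ((n _ : P) : Ω) = 1
    rw [this]; rfl
  map_mul' := by
    intro x y
    apply Subtype.ext
    have h : (⟨((x * y : Q) : S), hQ _ (x * y).2⟩ : P) = ⟨(x : S), hQ x x.2⟩ * ⟨(y : S), hQ y y.2⟩ := rfl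
    change ((n _ : P) : Ω) = (n _ : P) * (n _ : P)
    rw [h, map_mul]; rfl

theorem coe_homOf {P : Subgroup Ω} (hP : P ≤ S) (n : MulAut P) {Q : Subgroup S} (hQ : ∀ x ∈ Q, (x : Ω) ∈ P)
    (x : Q) : ((homOf hP n hQ x : S) : Ω) = (n ⟨(x : S), hQ x x.2⟩ : P) := rfl

theorem L_s1 [CharP K 2] {F : FusionSystem S} (D : TwoData F C Δ) : L C Δ (M Δ) (s1 Δ) := by
  obtain ⟨n, -, hn1, hn2⟩ := D.nM
  refine ⟨homOf C.M_le n (fun x hx => (mem_M_comap C).1 hx), fun x => ?_, fun x hx => ?_⟩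
  · have hxM := (mem_M_comap C).1 x.2
    obtain ⟨k1, k2⟩ := hn2 ⟨_, hxM⟩
    have hcon : (s1 Δ)⁻¹ * pi C Δ (x : S) * s1 Δ ∈ T Δ := by
      have := (Subgroup.mem_normalizer_iff.1 (inv_mem (s1_mem (Δ := Δ))) (pi C Δ (x : S))).1 x.2
      rw [inv_inv] at this
      exact M_le_T this
    rw [pi_eq_iff C hcon]
    have e : ((s1 Δ)⁻¹ * pi C Δ (x : S) * s1 Δ).1.1 = _ := conj_s1 (Δ := Δ) (pi C Δ (x : S)).1
    rw [e, pi_apply, xx_val]
    refine ⟨?_, ?_, ?_⟩
    · change C.t (n ⟨_, hxM⟩ : C.M) = _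
      rw [(n ⟨_, hxM⟩).2.2]
      simp
    · change C.s (n ⟨_, hxM⟩ : C.M) = _
      rw [k1]
      simp
    · change C.u (n ⟨_, hxM⟩ : C.M) = _
      rw [k2]
      simp [CharTwo.neg_eq]
  · change C.z (n ⟨(x : S), _⟩ : C.M) = _
    rw [hn1 _ hx]
    have : Matrix.GeneralLinearGroup.det (s1 Δ).1 = 1 := by
      apply Units.ext
      rw [Matrix.GeneralLinearGroup.val_det_apply, s1_val]
      simp [Matrix.det_fin_three]
    rw [this, Units.val_one, one_mul]

theorem L_s2 [CharP K 2] {F : FusionSystem S} (D : TwoData F C Δ) : L C Δ (M' Δ) (s2 Δ) := by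
  obtain ⟨n, -, hn1, hn2⟩ := D.nL
  refine ⟨homOf (C.L_le 0) n (fun x hx => (mem_M'_comap C).1 hx), fun x => ?_, fun x hx => ?_⟩
  · have hxM := (mem_M'_comap C).1 x.2
    obtain ⟨k1, k2⟩ := hn2 ⟨_, hxM⟩
    have hcon : (s2 Δ)⁻¹ * pi C Δ (x : S) * s2 Δ ∈ T Δ := by
      have := (Subgroup.mem_normalizer_iff.1 (inv_mem (s2_mem (Δ := Δ))) (pi C Δ (x : S))).1 x.2
      rw [inv_inv] at this
      exact M'_le_T this
    rw [pi_eq_iff C hcon]
    have e : ((s2 Δ)⁻¹ * pi C Δ (x : S) * s2 Δ).1.1 = _ := conj_s2 (Δ := Δ) (pi C Δ (x : S)).1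
    rw [e, pi_apply, xx_val]
    refine ⟨?_, ?_, ?_⟩
    · change C.t (n ⟨_, hxM⟩ : C.L 0) = _
      rw [k1]
      simp [CharTwo.neg_eq]
    · change C.s (n ⟨_, hxM⟩ : C.L 0) = _
      rw [(n ⟨_, hxM⟩).2.2]
      simp
    · change C.u (n ⟨_, hxM⟩ : C.L 0) = _
      rw [k2]
      simp
  · change C.z (n ⟨(x : S), _⟩ : C.L 0) = _
    rw [hn1 _ hx]
    have : Matrix.GeneralLinearGroup.det (s2 Δ).1 = 1 := by
      apply Units.ext
      rw [Matrix.GeneralLinearGroup.val_det_apply, s2_val]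
      simp [Matrix.det_fin_three]
    rw [this, Units.val_one, one_mul]

/-- The normaliser of `M`. -/
theorem L_of_mem_normalizer_M [Finite K] [CharP K 2] (hK : ∀ c : K, c ≠ 0 → c ^ 3 = 1) {F : FusionSystem S}
    (D : TwoData F C Δ) {g : GD Δ} (hg : g ∈ Subgroup.normalizer (M Δ : Set (GD Δ))) : L C Δ (M Δ) g := by
  obtain ⟨h20, h21⟩ := mem_normalizer_M_iff.1 hg
  by_cases h10 : g.1.1 1 0 = 0
  · exact L.mono C M_le_T (L_of_up C hK D ⟨h10, h20, h21⟩)
  · set c := g.1.1 1 1 / g.1.1 1 0 with hc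
    set v : GD Δ := xx Δ c 0 0 with hv
    have hvup : Up v.1.1 := (xx_mem (Δ := Δ) c 0 0).1
    set b : GD Δ := g * v⁻¹ * (s1 Δ)⁻¹ with hb
    have hvi : (v.1⁻¹).1 = !![1, -c, 0; 0, 1, 0; 0, 0, 1] := by
      have : v⁻¹ = xx Δ (-c) 0 0 := by
        rw [inv_eq_iff_mul_eq_one]
        have h := T_mul (xx_mem (Δ := Δ) c 0 0) (xx_mem (Δ := Δ) (-c) 0 0)
        refine T_ext (mul_mem (xx_mem _ _ _) (xx_mem _ _ _)) (one_mem _) ?_ ?_ ?_
        · rw [h.1]
          have := one_entry (K := K) 0 1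
          rw [if_neg (by decide)] at this
          change c + -c = (1 : GL (Fin 3) K).1 0 1
          rw [this]; ring
        · rw [h.2.1]
          have := one_entry (K := K) 1 2
          rw [if_neg (by decide)] at this
          change (0 : K) + 0 = (1 : GL (Fin 3) K).1 1 2
          rw [this]; ring
        · rw [h.2.2]
          have := one_entry (K := K) 0 2
          rw [if_neg (by decide)] at this
          change (0 : K) + 0 + c * 0 = (1 : GL (Fin 3) K).1 0 2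
          rw [this]; ring
      have h2 : v.1⁻¹ = (xx Δ (-c) 0 0).1 := congrArg Subtype.val this
      rw [h2, xx_val]
    have eb : ∀ i j, b.1.1 i j = (g.1 * v.1⁻¹).1 i 0 * ((s1 Δ).1⁻¹).1 0 j + (g.1 * v.1⁻¹).1 i 1 *
        ((s1 Δ).1⁻¹).1 1 j + (g.1 * v.1⁻¹).1 i 2 * ((s1 Δ).1⁻¹).1 2 j := fun i j => mul_entry _ _ _ _
    have ev : ∀ i j, (g.1 * v.1⁻¹).1 i j = g.1.1 i 0 * (v.1⁻¹).1 0 j + g.1.1 i 1 * (v.1⁻¹).1 1 j +
        g.1.1 i 2 * (v.1⁻¹).1 2 j := fun i j => mul_entry _ _ _ _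
    have hbup : Up b.1.1 := by
      refine ⟨?_, ?_, ?_⟩
      · rw [eb, ev, ev, ev, hvi, s1_inv]
        simp
        rw [hc]
        field_simp
        ring
      · rw [eb, ev, ev, ev, hvi, s1_inv]
        simp [h20, h21]
      · rw [eb, ev, ev, ev, hvi, s1_inv]
        simp [h20]
    have hbM : b ∈ Subgroup.normalizer (M Δ : Set (GD Δ)) := mem_normalizer_M_iff.2 ⟨hbup.2.1, hbup.2.2⟩
    have eg : g = b * (s1 Δ * v) := by rw [hb]; group
    rw [eg]
    exact L.comp' C (L.mono C M_le_T (L_of_up C hK D hbup))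
      (L.comp' C (L_s1 C D) (L.mono C M_le_T (L_of_up C hK D hvup)) s1_mem) hbM

/-- The normaliser of `M'`. -/
theorem L_of_mem_normalizer_M' [Finite K] [CharP K 2] (hK : ∀ c : K, c ≠ 0 → c ^ 3 = 1) {F : FusionSystem S}
    (D : TwoData F C Δ) {g : GD Δ} (hg : g ∈ Subgroup.normalizer (M' Δ : Set (GD Δ))) : L C Δ (M' Δ) g := by
  obtain ⟨h10, h20⟩ := mem_normalizer_M'_iff.1 hg
  by_cases h21 : g.1.1 2 1 = 0
  · exact L.mono C M'_le_T (L_of_up C hK D ⟨h10, h20, h21⟩)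
  · set c := g.1.1 2 2 / g.1.1 2 1 with hc
    set v : GD Δ := xx Δ 0 c 0 with hv
    have hvup : Up v.1.1 := (xx_mem (Δ := Δ) 0 c 0).1
    set b : GD Δ := g * v⁻¹ * (s2 Δ)⁻¹ with hb
    have hvi : (v.1⁻¹).1 = !![1, 0, 0; 0, 1, -c; 0, 0, 1] := by
      have : v⁻¹ = xx Δ 0 (-c) 0 := by
        rw [inv_eq_iff_mul_eq_one]
        have h := T_mul (xx_mem (Δ := Δ) 0 c 0) (xx_mem (Δ := Δ) 0 (-c) 0)
        refine T_ext (mul_mem (xx_mem _ _ _) (xx_mem _ _ _)) (one_mem _) ?_ ?_ ?_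
        · rw [h.1]
          have := one_entry (K := K) 0 1
          rw [if_neg (by decide)] at this
          change (0 : K) + 0 = (1 : GL (Fin 3) K).1 0 1
          rw [this]; ring
        · rw [h.2.1]
          have := one_entry (K := K) 1 2
          rw [if_neg (by decide)] at this
          change c + -c = (1 : GL (Fin 3) K).1 1 2
          rw [this]; ring
        · rw [h.2.2]
          have := one_entry (K := K) 0 2
          rw [if_neg (by decide)] at this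
          change (0 : K) + 0 + 0 * -c = (1 : GL (Fin 3) K).1 0 2
          rw [this]; ring
      have h2 : v.1⁻¹ = (xx Δ 0 (-c) 0).1 := congrArg Subtype.val this
      rw [h2, xx_val]
    have eb : ∀ i j, b.1.1 i j = (g.1 * v.1⁻¹).1 i 0 * ((s2 Δ).1⁻¹).1 0 j + (g.1 * v.1⁻¹).1 i 1 *
        ((s2 Δ).1⁻¹).1 1 j + (g.1 * v.1⁻¹).1 i 2 * ((s2 Δ).1⁻¹).1 2 j := fun i j => mul_entry _ _ _ _
    have ev : ∀ i j, (g.1 * v.1⁻¹).1 i j = g.1.1 i 0 * (v.1⁻¹).1 0 j + g.1.1 i 1 * (v.1⁻¹).1 1 j +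
        g.1.1 i 2 * (v.1⁻¹).1 2 j := fun i j => mul_entry _ _ _ _
    have hbup : Up b.1.1 := by
      refine ⟨?_, ?_, ?_⟩
      · rw [eb, ev, ev, ev, hvi, s2_inv]
        simp [h10]
      · rw [eb, ev, ev, ev, hvi, s2_inv]
        simp [h20]
      · rw [eb, ev, ev, ev, hvi, s2_inv]
        simp
        rw [hc]
        field_simp
        ring
    have hbM : b ∈ Subgroup.normalizer (M' Δ : Set (GD Δ)) := mem_normalizer_M'_iff.2 ⟨hbup.1, hbup.2.1⟩
    have eg : g = b * (s2 Δ * v) := by rw [hb]; group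
    rw [eg]
    exact L.comp' C (L.mono C M'_le_T (L_of_up C hK D hbup))
      (L.comp' C (L_s2 C D) (L.mono C M'_le_T (L_of_up C hK D hvup)) s2_mem) hbM

/-- **The extension.** -/
theorem exists_extData [Finite K] [CharP K 2] [Finite S] (hS : IsPGroup 2 S) {F : FusionSystem S}
    {C : SpC S K} {Δ : Subgroup Kˣ} (hK : ∀ c : K, c ≠ 0 → c ^ 3 = 1) (D : TwoData F C Δ) :
    ∃ (E : Type (max u v)) (_ : Group E) (_ : Finite E) (ι : S →* E) (ρ : E →* GD Δ), ExtData C Δ ι ρ := by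
  have : Fact (Nat.Prime 2) := ⟨Nat.prime_two⟩
  have hall : ∀ P ≤ T Δ, ∀ g, P.map (MulAut.conj g⁻¹).toMonoidHom ≤ T Δ → L C Δ P g :=
    alperin_gl3 (L C Δ) (fun P P' g h hL => L.mono C h hL)
      (fun P g g' _ _ _ h h' => L.comp C h h')
      (fun g hg => L_of_up C hK D (up_of_mem_normalizer hg))
      (fun g hg => L_of_mem_normalizer_M C hK D hg)
      (fun g hg => L_of_mem_normalizer_M' C hK D hg)
  obtain ⟨E, i1, i2, ι, ρ, h1, h2, h3, h4, h5⟩ := Cfsg.Agent.H131.ExtTransfer.exists_ext (sylowT Δ) (pi C Δ)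
    (range_pi C)
    (fun u hu s => Subtype.ext (C.Z1_comm ((mem_ker C).1 hu) s.2))
    (fun u _ => hS u)
    (chi C Δ) (fun s => chi_of_mem_T C (xx_mem _ _ _))
    (fun g => by
      have hP : (T Δ ⊓ (T Δ).map (MulAut.conj g).toMonoidHom).map (MulAut.conj g⁻¹).toMonoidHom ≤ T Δ := by
        rintro _ ⟨x, ⟨-, y, hy, rfl⟩, rfl⟩
        change g⁻¹ * (g * y * g⁻¹) * g⁻¹⁻¹ ∈ T Δ
        have : g⁻¹ * (g * y * g⁻¹) * g⁻¹⁻¹ = y := by group
        rw [this]
        exact hy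
      obtain ⟨φ, hφ1, hφ2⟩ := hall _ inf_le_left g hP
      refine ⟨φ, hφ1, fun x u hxu => ?_⟩
      have hx : ((x : S) : Ω) ∈ C.Z1 := by rw [hxu]; exact (mem_ker C).1 u.2
      have h6 := hφ2 x hx
      have h7 : φ x ∈ (pi C Δ).ker := by
        have e1 : pi C Δ (φ x) = g⁻¹ * pi C Δ (x : S) * g := hφ1 x
        rw [MonoidHom.mem_ker]
        refine e1.trans ?_
        rw [MonoidHom.mem_ker.1 ((mem_ker C).2 hx)]
        group
      have h8 : (⟨φ x, h7⟩ : (pi C Δ).ker) = (chi C Δ g)⁻¹ u := by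
        rw [← map_inv]
        apply (zEquiv C Δ).injective
        apply Multiplicative.toAdd.injective
        change C.z (φ x) = C.z ((chi C Δ g⁻¹ u : (pi C Δ).ker) : S)
        rw [chi_z, h6, hxu]
        change _ = (((Matrix.GeneralLinearGroup.det (g.1⁻¹))⁻¹ : Kˣ) : K) * _
        rw [map_inv, inv_inv]
      exact congrArg Subtype.val h8)
  refine ⟨E, i1, i2, ι, ρ, ⟨h1, h2, h3, fun e he => ?_, fun e x y hx hy hz => ?_⟩⟩
  · obtain ⟨u, rfl⟩ := h4 e he
    exact ⟨u, (mem_ker C).1 u.2, rfl⟩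
  · have h6 := h5 e ⟨x, (mem_ker C).2 hx⟩
    rw [h6]
    have h8 : (chi C Δ (ρ e) ⟨x, (mem_ker C).2 hx⟩) = (⟨y, (mem_ker C).2 hy⟩ : (pi C Δ).ker) := by
      apply (zEquiv C Δ).injective
      apply Multiplicative.toAdd.injective
      change C.z ((chi C Δ (ρ e) ⟨x, (mem_ker C).2 hx⟩ : (pi C Δ).ker) : S) = C.z y
      rw [chi_z]
      change (((Matrix.GeneralLinearGroup.det (ρ e).1)⁻¹ : Kˣ) : K) * C.z x = C.z y
      rw [← hz, mul_comm (C.z (y : Ω)), ← mul_assoc, ← Units.val_mul, inv_mul_cancel, Units.val_one, one_mul]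
    rw [h8]

end Cfsg.Agent.H971.SpExt
end

-- part: S5260
section
set_option autoImplicit false
open Cfsg

namespace Cfsg.Agent.S5260

/-- Let p be a prime, K a finite field of characteristic p, and S a finite p-group isomorphic to a Sylow p-subgroup of the symplectic group Sp₄(K). Then every exotic fusion system F over S (saturated but not the fusion system of a finite group on a Sylow p-subgroup) has no nontrivial normal subgroup: O_p(F) = 1. -/
theorem result {Ω : Type*} [Group Ω] {S : Subgroup Ω} [Finite S] (p : ℕ) [Fact p.Prime] (hS : IsPGroup p S) (F : Cfsg.FusionSystem S) (hF : F.IsSaturated p) {K : Type*} [Field K] [Fintype K] [CharP K p] (T : Sylow p ↥(Matrix.symplecticGroup (Fin 2) K)) (e : ↥S ≃* ↥(T : Subgroup ↥(Matrix.symplecticGroup (Fin 2) K))) (hex : F.IsExotic p) : F.core = ⊥ := by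
  by_contra hcore
  obtain ⟨C₀⟩ := H956.SpSylow.nonempty_spCoord T
  let C : H780.SpC S K := (C₀.comap e).toSpC
  have main : ¬ ∃ Q : Subgroup _, F.IsNormal Q ∧ F.IsCentric Q := by
    rintro ⟨Q, hQn, hQc⟩
    obtain ⟨L, hL, ι, hι, -, -⟩ := H771.exists_model hS hF hQn hQc
    exact hex.2 ⟨L, hL, hι.1, ι, hι.2.1, hι.2.2.1⟩
  rcases (Fact.out : p.Prime).eq_two_or_odd' with rfl | hodd
  · obtain ⟨C, Δ, hK, -, -, D⟩ := C.exists_twoData hS hF hcore main
    obtain ⟨E, _, _, ι, ρ, h⟩ := H971.SpExt.exists_extData hS hK D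
    exact hex.2 (H780.isRealizable_of_extData hS hF hK D h)
  · have hp : p ≠ 2 := fun h => by rw [h] at hodd; exact absurd hodd (by decide)
    have h2 : (2 : K) ≠ 0 := by
      intro h
      have h3 : ((2 : ℕ) : K) = 0 := by exact_mod_cast h
      rw [CharP.cast_eq_zero_iff K p] at h3
      exact hp ((Nat.prime_dvd_prime_iff_eq Fact.out Nat.prime_two).1 h3)
    exact main (C.odd_main h2 H780.sl2Prop (H780.symProp hp) hS hF hcore)

end Cfsg.Agent.S5260
end
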