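import Cfsg.Agent.H785.FifthG
import Cfsg.Statements.S5264
set_option linter.all false

-- part: H785/FifthB
section
/-!
# Abelian essential subgroups of order `p³` in a group of order `p⁵`: first facts (helper785)
-/

set_option autoImplicit false
set_option linter.unusedSectionVars false
set_option linter.unusedVariables false
set_option linter.style.haveILetI false

namespace Cfsg.Agent.H785

open Cfsg Cfsg.FusionSystem Cfsg.Agent.H802
open scoped commutatorElement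

variable {Ω : Type*} [Group Ω] {S : Subgroup Ω} {p : ℕ} [hp : Fact p.Prime]

theorem no_gl3' {M : Type*} [Group M] [Finite M] (hcomm : ∀ x y : M, x * y = y * x)
    (hMc : Nat.card M = p ^ 3)
    {G D T : Subgroup (MulAut M)} (hTD : T ≤ D) (hDG : D ≤ G) (hne : D ≠ G) (hTp : IsPGroup p T)
    (hTc : Nat.card T = p ^ 2)
    (hmax : ∀ B : Subgroup (MulAut M), B ≤ G → IsPGroup p B → Nat.card B ≤ Nat.card T)
    (SE : ∀ α ∈ G, α ∉ D → ∀ β ∈ T, β ≠ 1 → α * β * α⁻¹ ∉ T) : False := by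
  letI : CommGroup M := { ‹Group M› with mul_comm := hcomm }
  exact no_gl3 hMc hTD hDG hne hTp hTc hmax SE

variable [Finite S] {F : FusionSystem S}

theorem Hyp.card_normalizer_three (H : Hyp p F) {A : Subgroup Ω} (hA : F.IsEssential p A)
    (hc : Nat.card A = p ^ 3) (hcomm : ∀ x ∈ A, ∀ y ∈ A, x * y = y * x) :
    Nat.card (normalizerIn S A) = p ^ 4 := by
  have hpp := hp.out
  have hAS := hA.1.1
  have hfA : Finite A := finite_of_le hAS
  have hne := ne_of_isEssential H.hS H.hF hA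
  have hNS : normalizerIn S A ≤ S := inf_le_left
  have hfN : Finite (normalizerIn S A) := finite_of_le hNS
  have h1 := card_lt_card_normalizerIn H.hS hAS hne
  have h3 := Subgroup.card_dvd_of_le hNS
  rw [H.card] at h3
  obtain ⟨k, hk, hke⟩ := (Nat.dvd_prime_pow hpp).1 h3
  rw [hc, hke] at h1
  have h4 := (Nat.pow_lt_pow_iff_right hpp.one_lt).1 h1
  rw [hke]
  have h5 : k = 4 ∨ k = 5 := by omega
  rcases h5 with h5 | h5
  · rw [h5]
  exfalso
  rw [h5] at hke
  have hcent : centralizerIn S A = A := by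
    refine le_antisymm (hA.1.2 A (isConj_refl F hAS)) fun x hx => ?_
    exact mem_centralizerIn.2 ⟨hAS hx, fun y hy => hcomm y hy x hx⟩
  have hTc : Nat.card (autInducedBy S A) = p ^ 2 := by
    have h6 := card_autInducedBy_mul S A
    rw [hcent, hc, hke] at h6
    exact Nat.eq_of_mul_eq_mul_right (pow_pos hpp.pos 3) (by rw [h6]; ring)
  obtain ⟨D, hD1, hD2, hD3⟩ := exists_proper_of_isEssential H.hS H.hF hA
  have hrcp := isReceptive_of_isFullyNormalized H.hS H.hF hA.2.1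
  have hfa := isFullyAutomized_of_isFullyNormalized H.hS H.hF hA.2.1
  have hcomm' : ∀ x y : A, x * y = y * x := fun x y => Subtype.ext (hcomm x x.2 y y.2)
  refine no_gl3' hcomm' hc (G := F.autGroup A) (D := D) (T := autInducedBy S A) ?_ hD1 hD2
    (isPGroup_autInducedBy H.hS A) hTc ?_ ?_
  · intro δ hδ
    exact hD3 δ (autInducedBy_le_autGroup F hAS hδ)
      (extends_of_mem_autInducedBy H.hS F hAS hne hδ)
  · intro B hB hBp
    rw [hTc]
    exact card_le_of_pgroup H.hS hfa hTc B hB hBp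
  · intro α hα hαD β hβ hβ1 hconj
    apply hαD
    obtain ⟨g, hg, hge⟩ := (mem_autInducedBy_iff S A β).1 hβ
    have hgA : g ∉ A := by
      intro hgA
      apply hβ1
      ext x
      rw [hge, hcomm g hgA x x.2, mul_inv_cancel_right]
      rfl
    exact hD3 α hα (extends_of_conj_mem hrcp hα hg hgA hge hconj)

theorem exists_conj_ne {A : Subgroup Ω} (hAS : A ≤ S) (h : ¬ Nrm S A) :
    ∃ s ∈ S, ∃ x ∈ A, s * x * s⁻¹ ∉ A := by
  by_contra hcon
  push Not at hcon
  exact h fun s hs x hx => hcon s hs x hx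

/-- The local data at an abelian essential subgroup of order `p³`. -/
structure Ab3 (p : ℕ) (F : FusionSystem S) (A C : Subgroup Ω) : Prop where
  ess : F.IsEssential p A
  card : Nat.card A = p ^ 3
  comm : ∀ x ∈ A, ∀ y ∈ A, x * y = y * x
  cN : Nat.card (normalizerIn S A) = p ^ 4
  cW : Nat.card (ZS (normalizerIn S A)) = p ^ 2
  cD : Nat.card (⁅normalizerIn S A, normalizerIn S A⁆ : Subgroup Ω) = p
  sec : Sec p F A C ⊥
  CD : ∀ x ∈ C, x ∈ ⁅normalizerIn S A, normalizerIn S A⁆ → x = 1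

set_option maxHeartbeats 2000000 in
theorem Hyp.exists_ab3 (H : Hyp p F) {A : Subgroup Ω} (hA : F.IsEssential p A)
    (hc : Nat.card A = p ^ 3) (hcomm : ∀ x ∈ A, ∀ y ∈ A, x * y = y * x) :
    ∃ C : Subgroup Ω, Ab3 p F A C := by
  have hpp := hp.out
  have hAS := hA.1.1
  have hfA : Finite A := finite_of_le hAS
  have hcN := H.card_normalizer_three hA hc hcomm
  set N := normalizerIn S A with hN
  have hNS : N ≤ S := inf_le_left
  have hAN : A ≤ N := le_normalizerIn hAS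
  have hfN : Finite N := finite_of_le hNS
  have hcS : Nat.card S = p * Nat.card N := by rw [H.card, hcN]; ring
  have hcNA : Nat.card N = p * Nat.card A := by rw [hcN, hc]; ring
  have hNn : Nrm S N := nrm_of_card H.hS hNS hcS
  have hNA : Nrm N A := nrm_normalizerIn S A
  have hcentA : centralizerIn S A ≤ A := hA.1.2 A (isConj_refl F hAS)
  have hnA : ¬ Nrm S A := by
    intro hn
    have h1 := normalizerIn_eq_of_nrm hAS hn
    rw [← hN] at h1
    rw [h1, H.card] at hcN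
    exact absurd (Nat.pow_right_injective hpp.two_le hcN) (by norm_num)
  have hZNA : ZS N ≤ A := by
    intro z hz
    exact hcentA (mem_centralizerIn.2 ⟨hNS (ZS_le hz), fun x hx => (mem_ZS.1 hz).2 x (hAN hx)⟩)
  have hfZN : Finite (ZS N) := finite_of_le hZNA
  have hNna : ¬ ∀ x ∈ N, ∀ y ∈ N, x * y = y * x := by
    intro h
    have := H.noab N hNS h
    rw [hcN] at this
    exact lt_irrefl _ this
  -- `|Z(N)| = p²`
  have hcW : Nat.card (ZS N) = p ^ 2 := by
    refine le_antisymm ?_ ?_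
    · refine card_lt_of_ne hc hZNA fun h1 => hNna ?_
      intro x hx y hy
      refine mul_comm_of_central (p := p) hAN hcNA (fun w hw x hx => ?_) hx hy
      rw [← h1] at hw
      exact (mem_ZS.1 hw).2 x hx
    · obtain ⟨s, hs, x₀, hx₀, hx₀'⟩ := exists_conj_ne hAS hnA
      set B := A.map (MulAut.conj s).toMonoidHom with hB
      have hmB : ∀ y, y ∈ B ↔ ∃ x ∈ A, s * x * s⁻¹ = y := fun y => Iff.rfl
      have hBN : B ≤ N := by
        rintro _ ⟨x, hx, rfl⟩
        exact hNn s hs x (hAN hx)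
      have hBc : Nat.card B = p ^ 3 := by
        rw [← hc]
        exact (Nat.card_congr (A.equivMapOfInjective _ (MulAut.conj s).injective).toEquiv).symm
      have hfB : Finite B := finite_of_le (hBN.trans hNS)
      have hBcomm : ∀ x ∈ B, ∀ y ∈ B, x * y = y * x := by
        rintro _ ⟨x, hx, rfl⟩ _ ⟨y, hy, rfl⟩
        rw [← map_mul, ← map_mul, hcomm x hx y hy]
      obtain ⟨b, hb, hbA⟩ : ∃ b ∈ B, b ∉ A := ⟨_, ⟨x₀, hx₀, rfl⟩, hx₀'⟩
      -- `A ∩ B` is central in `N`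
      have hcen : A ⊓ B ≤ ZS N := by
        rintro z ⟨hzA, hzB⟩
        rw [mem_ZS]
        refine ⟨hAN hzA, fun x hx => ?_⟩
        obtain ⟨j, hj⟩ := exists_zpow_mod hAN hNA hcNA (hBN hb) hbA hx
        have e : x = b ^ j * ((b ^ j)⁻¹ * x) := by group
        have h1 : Commute z (b ^ j) := (show Commute z b from hBcomm z hzB b hb).zpow_right j
        have h2 : Commute z ((b ^ j)⁻¹ * x) := hcomm z hzA _ hj
        have h3 := h1.mul_right h2
        rw [← e] at h3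
        exact h3.symm
      -- `|A ∩ B| ≥ p²`
      have hBn : Nrm N B := by
        have h1 : Nrm N (A.map (MulAut.conj s).toMonoidHom) := by
          rintro n hn _ ⟨x, hx, rfl⟩
          refine ⟨(s⁻¹ * n * s) * x * (s⁻¹ * n * s)⁻¹, ?_, ?_⟩
          · refine hNA _ ?_ x hx
            have := hNn s⁻¹ (S.inv_mem hs) n hn
            rwa [inv_inv] at this
          · show s * ((s⁻¹ * n * s) * x * (s⁻¹ * n * s)⁻¹) * s⁻¹ = n * (s * x * s⁻¹) * n⁻¹
            group
        exact h1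
      have hBnn : (B.subgroupOf N).Normal := hBn.normal
      have h1 : (B.subgroupOf N).relIndex (A.subgroupOf N) ∣ (B.subgroupOf N).index :=
        Subgroup.relIndex_dvd_index_of_normal _ _
      have h2 : (B.subgroupOf N).index = p := by
        have h3 := (B.subgroupOf N).card_mul_index
        rw [Nat.card_congr (Subgroup.subgroupOfEquivOfLe hBN).toEquiv, hBc, hcN, pow_succ] at h3
        exact Nat.eq_of_mul_eq_mul_left (pow_pos hpp.pos 3) h3
      rw [h2, Subgroup.relIndex_subgroupOf hAN] at h1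
      have h3 : Nat.card (A ⊓ B : Subgroup Ω) * B.relIndex A = Nat.card A := by
        have h4 := (B.subgroupOf A).card_mul_index
        have h5 : Nat.card (B.subgroupOf A) = Nat.card (A ⊓ B : Subgroup Ω) := by
          have h6 : (B.subgroupOf A) = (A ⊓ B).subgroupOf A := by
            rw [Subgroup.inf_subgroupOf_left]
          rw [h6]
          exact Nat.card_congr (Subgroup.subgroupOfEquivOfLe inf_le_left).toEquiv
        rw [h5] at h4
        exact h4
      have h4 : B.relIndex A ≤ p := Nat.le_of_dvd hpp.pos h1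
      have h5 : p ^ 2 ≤ Nat.card (A ⊓ B : Subgroup Ω) := by
        rw [hc] at h3
        by_contra hlt
        push Not at hlt
        have h6 : Nat.card (A ⊓ B : Subgroup Ω) * B.relIndex A ≤
            Nat.card (A ⊓ B : Subgroup Ω) * p := Nat.mul_le_mul le_rfl h4
        have h7 : Nat.card (A ⊓ B : Subgroup Ω) * p < p ^ 2 * p :=
          Nat.mul_lt_mul_of_pos_right hlt hpp.pos
        have h8 : p ^ 2 * p = p ^ 3 := by ring
        omega
      exact h5.trans (Nat.card_mono (Set.toFinite _) hcen)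
  obtain ⟨hcD, hDW⟩ := fourth_commutator hcN hcW
  -- the decomposition
  obtain ⟨n, hn, hnA'⟩ : ∃ n ∈ N, n ∉ A := exists_gen_of_essential H.hS H.hF hA
  obtain ⟨s, hs⟩ := exists_conjAut hn.2
  have hsS : s ∈ autInducedBy S A := conj_mem_autInducedBy hn.1 hs
  have hsA : s ∈ F.autGroup A := autInducedBy_le_autGroup F hAS hsS
  have hcent : centralizerIn S A = A := by
    refine le_antisymm hcentA fun x hx => ?_
    exact mem_centralizerIn.2 ⟨hAS hx, fun y hy => hcomm y hy x hx⟩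
  have hTc : Nat.card (autInducedBy S A) = p ^ 1 := by
    have h6 := card_autInducedBy_mul S A
    rw [hcent, hc, ← hN, hcN] at h6
    exact Nat.eq_of_mul_eq_mul_right (pow_pos hpp.pos 3) (by rw [h6]; ring)
  have hs1 : s ≠ 1 := by
    rintro rfl
    apply hnA'
    refine hcentA (mem_centralizerIn.2 ⟨hn.1, fun x hx => ?_⟩)
    have h1 := hs ⟨x, hx⟩
    rw [MulAut.one_apply] at h1
    exact (mul_inv_eq_iff_eq_mul.1 h1.symm).symm
  have hcp : Nat.card (autInducedBy S A) = p := by rw [hTc, pow_one]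
  have hsp : s ^ p = 1 := by
    have h1 := pow_card_eq_one' (x := (⟨s, hsS⟩ : autInducedBy S A))
    rw [hcp] at h1
    exact congrArg Subtype.val h1
  have hos : orderOf s = p := orderOf_eq_prime hsp hs1
  have hTz : autInducedBy S A = Subgroup.zpowers s :=
    (Subgroup.eq_of_le_of_card_ge (Subgroup.zpowers_le.2 hsS)
      (by rw [Nat.card_zpowers, hos, hcp])).symm
  have hcomm' : ∀ x y : A, x * y = y * x := fun x y => Subtype.ext (hcomm x x.2 y y.2)
  have hfa := isFullyAutomized_of_isFullyNormalized H.hS H.hF hA.2.1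
  have hmemZ : ∀ x : A, x ∈ (ZS N).subgroupOf A ↔ s x = x := by
    intro x
    rw [Subgroup.mem_subgroupOf]
    constructor
    · intro hx
      apply Subtype.ext
      rw [hs, (mem_ZS.1 hx).2 n hn, mul_inv_cancel_right]
    · intro hx
      have h1 : n * x * n⁻¹ = x := by rw [← hs, hx]
      rw [mem_ZS]
      refine ⟨hAN x.2, fun y hy => ?_⟩
      obtain ⟨j, hj⟩ := exists_zpow_mod hAN hNA hcNA hn hnA' hy
      have e : y = n ^ j * ((n ^ j)⁻¹ * y) := by group
      have h2 : Commute (x : Ω) (n ^ j) :=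
        (show Commute (x : Ω) n from (mul_inv_eq_iff_eq_mul.1 h1).symm).zpow_right j
      have h3 : Commute (x : Ω) ((n ^ j)⁻¹ * y) := hcomm x x.2 _ hj
      have h4 := h2.mul_right h3
      rw [← e] at h4
      exact h4.symm
  obtain ⟨α, hα, δ, hδ, hαδ⟩ := exists_not_normalize H.hS H.hF hA
  have hαs : α * s * α⁻¹ ∉ Subgroup.zpowers s := by
    intro h1
    apply hαδ
    rw [hTz] at hδ ⊢
    obtain ⟨j, rfl⟩ := Subgroup.mem_zpowers_iff.1 hδ
    rw [← conj_zpow]
    exact Subgroup.zpow_mem _ h1 j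
  obtain ⟨V, C, D, D', dec⟩ := exists_decomp (G := F.autGroup A) hcomm' (H.hS.to_le hAS)
    (fun B hB hBp => by
      have := card_le_of_pgroup H.hS hfa hTc B hB hBp
      rwa [pow_one] at this) hsA hos ((ZS N).subgroupOf A) hmemZ
    (by rw [Nat.card_congr (Subgroup.subgroupOfEquivOfLe hZNA).toEquiv, hcW, hc]; ring) hα hαs
  have hCc : Nat.card C = p := by
    have h1 : Nat.card A = Nat.card V * Nat.card C := by
      rw [← Nat.card_prod]
      refine (Nat.card_congr (Equiv.ofBijective (fun x : V × C => (x.1 : A) * x.2) ⟨?_, ?_⟩)).symm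
      · rintro ⟨a, b⟩ ⟨c, d⟩ hab
        have h1 : (a : A) * b = c * d := hab
        have h2 : (c : A)⁻¹ * a = d * (b : A)⁻¹ := by
          rw [inv_mul_eq_iff_eq_mul, ← mul_assoc, ← h1, mul_inv_cancel_right]
        have h3 := dec.V_inf ((c : A)⁻¹ * a) (V.mul_mem (V.inv_mem c.2) a.2)
          (h2 ▸ C.mul_mem d.2 (C.inv_mem b.2))
        have h4 : (a : A) = c := (inv_mul_eq_one.1 h3).symm
        rw [h3] at h2
        have h5 : (d : A) = b := mul_inv_eq_one.1 h2.symm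
        exact Prod.ext (Subtype.ext h4) (Subtype.ext h5.symm)
      · intro x
        obtain ⟨v, hv, c, hc, rfl⟩ := dec.exists_mul x
        exact ⟨(⟨v, hv⟩, ⟨c, hc⟩), rfl⟩
    rw [hc, dec.cardV] at h1
    exact Nat.eq_of_mul_eq_mul_left (pow_pos hpp.pos 2) (by rw [← h1]; ring)
  have hmC : ∀ x : A, (x : Ω) ∈ C.map A.subtype ↔ x ∈ C := by
    intro x
    constructor
    · rintro ⟨y, hy, hyx⟩
      have : y = x := Subtype.ext hyx
      rw [← this]
      exact hy
    · intro hx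
      exact ⟨x, hx, rfl⟩
  have hCc' : Nat.card (C.map A.subtype) = p := by
    rw [← hCc]
    exact (Nat.card_congr (C.equivMapOfInjective _ A.subtype_injective).toEquiv).symm
  -- `[N,N] = [A,s]`
  have hDN : D.map A.subtype = ⁅N, N⁆ := by
    have h1 : D.map A.subtype ≤ ⁅N, N⁆ := by
      rintro _ ⟨d, hd, rfl⟩
      obtain ⟨y, -, rfl⟩ := dec.onto d hd
      have e : A.subtype (y⁻¹ * s y) = ⁅(y : Ω)⁻¹, n⁆ := by
        show (y : Ω)⁻¹ * ((s y : A) : Ω) = _
        rw [hs, commutatorElement_def]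
        group
      rw [e]
      exact Subgroup.commutator_mem_commutator (N.inv_mem (hAN y.2)) hn
    have hfD : Finite (⁅N, N⁆ : Subgroup Ω) := finite_of_le (hDW.trans (ZS_le.trans hNS))
    refine Subgroup.eq_of_le_of_card_ge h1 ?_
    rw [hcD, ← dec.cardD]
    exact (Nat.card_congr (D.equivMapOfInjective _ A.subtype_injective).toEquiv).le
  refine ⟨C.map A.subtype, ⟨hA, hc, hcomm, hcN, hcW, hcD, ⟨hA, ?_, bot_le, ?_, ?_, ?_, ?_, ?_⟩, ?_⟩⟩
  · rintro _ ⟨x, -, rfl⟩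
    exact x.2
  · intro β hβ x hx
    rw [hmC] at hx ⊢
    exact dec.C_inv β hβ x hx
  · intro β _ x hx
    exact aut_bot β x hx
  · rw [hc, hCc']; ring
  · right
    rw [hCc', Subgroup.card_bot, mul_one]
  · left
    exact Subgroup.card_bot
  · rintro x ⟨c, hcC, rfl⟩ hxD
    rw [← hN, ← hDN] at hxD
    obtain ⟨d, hd, hdc⟩ := hxD
    have h1 : d = c := Subtype.ext hdc
    rw [h1] at hd
    have h2 := dec.V_inf c (dec.D_le hd) hcC
    rw [h2]
    rfl

end Cfsg.Agent.H785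
end

-- part: H785/FifthC
section
/-!
# Abelian essential subgroups of order `p³` in a group of order `p⁵`: weights (helper785)
-/

set_option autoImplicit false
set_option linter.unusedSectionVars false
set_option linter.unusedVariables false
set_option linter.style.haveILetI false

namespace Cfsg.Agent.H785

open Cfsg Cfsg.FusionSystem Cfsg.Agent.H802
open scoped commutatorElement

variable {Ω : Type*} [Group Ω] {S : Subgroup Ω} {p : ℕ} [hp : Fact p.Prime] [Finite S]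
  {F : FusionSystem S}

/-- An abelian subgroup of order `p³` is self-centralizing. -/
theorem Hyp.cent_three (H : Hyp p F) {X : Subgroup Ω} (hXS : X ≤ S) (hc : Nat.card X = p ^ 3)
    (hcomm : ∀ x ∈ X, ∀ y ∈ X, x * y = y * x) : centralizerIn S X ≤ X := by
  have hpp := hp.out
  intro y hy
  by_contra hyX
  have hy' := mem_centralizerIn.1 hy
  set K := Subgroup.closure ((X : Set Ω) ∪ {y}) with hK
  have hKS : K ≤ S := by
    rw [hK, Subgroup.closure_le]
    rintro x (hx | hx)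
    · exact hXS hx
    · rw [Set.mem_singleton_iff.1 hx]
      exact hy'.1
  have hfK : Finite K := finite_of_le hKS
  have hXK : X ≤ K := fun x hx => Subgroup.subset_closure (Or.inl hx)
  have hyK : y ∈ K := Subgroup.subset_closure (Or.inr rfl)
  have hgen : ∀ a ∈ (X : Set Ω) ∪ {y}, ∀ b ∈ (X : Set Ω) ∪ {y}, a * b = b * a := by
    rintro a (ha | ha) b (hb | hb)
    · exact hcomm a ha b hb
    · rw [Set.mem_singleton_iff.1 hb]
      exact hy'.2 a ha
    · rw [Set.mem_singleton_iff.1 ha]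
      exact (hy'.2 b hb).symm
    · rw [Set.mem_singleton_iff.1 ha, Set.mem_singleton_iff.1 hb]
  have hKc : ∀ a ∈ K, ∀ b ∈ K, a * b = b * a := by
    have h1 : K ≤ Subgroup.centralizer ((X : Set Ω) ∪ {y}) := by
      rw [hK, Subgroup.closure_le]
      intro a ha
      rw [SetLike.mem_coe, Subgroup.mem_centralizer_iff]
      intro b hb
      exact hgen b hb a ha
    have h2 : K ≤ Subgroup.centralizer (K : Set Ω) := by
      conv_lhs => rw [hK]
      rw [Subgroup.closure_le]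
      intro a ha
      rw [SetLike.mem_coe, Subgroup.mem_centralizer_iff]
      intro b hb
      exact (Subgroup.mem_centralizer_iff.1 (h1 hb) a ha).symm
    intro a ha b hb
    exact (Subgroup.mem_centralizer_iff.1 (h2 hb) a ha)
  have h1 := H.noab K hKS hKc
  have h2 : Nat.card X < Nat.card K := by
    refine lt_of_le_of_ne (Nat.card_mono (Set.toFinite _) hXK) fun h => hyX ?_
    rw [Subgroup.eq_of_le_of_card_ge hXK h.ge]
    exact hyK
  have h3 := Subgroup.card_dvd_of_le hKS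
  rw [H.card] at h3
  obtain ⟨k, hk, hke⟩ := (Nat.dvd_prime_pow hpp).1 h3
  rw [hke] at h1 h2
  rw [hc] at h2
  have h4 := (Nat.pow_lt_pow_iff_right hpp.one_lt).1 h1
  have h5 := (Nat.pow_lt_pow_iff_right hpp.one_lt).1 h2
  omega

/-- The subgroups attached to an abelian essential subgroup of order `p³`. -/
structure Ns (p : ℕ) (S N A₀ W D : Subgroup Ω) : Prop where
  pg : IsPGroup p S
  NS : N ≤ S
  cS : Nat.card S = p * Nat.card N
  nN : Nrm S N
  A₀N : A₀ ≤ N
  cN : Nat.card N = p * Nat.card A₀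
  nA₀ : Nrm S A₀
  WA₀ : W ≤ A₀
  cA₀ : Nat.card A₀ = p * Nat.card W
  nW : Nrm S W
  DW : D ≤ W
  cW : Nat.card W = p * Nat.card D
  nD : Nrm S D
  cD : Nat.card D = p
  eW : W = ZS N
  eD : D = ⁅N, N⁆
  mA₀ : ∀ x, x ∈ A₀ ↔ x ∈ N ∧ ∀ s ∈ S, ⁅x, s⁆ ∈ W
  r1 : ∃ x ∈ S, ∃ y ∈ N, ⁅x, y⁆ ∉ W

theorem comm_mem_symm {Y : Subgroup Ω} {x y : Ω} (h : ⁅x, y⁆ ∈ Y) : ⁅y, x⁆ ∈ Y := by
  rw [← commutatorElement_inv]
  exact Y.inv_mem h

theorem Ns.comm_A₀ {N A₀ W D : Subgroup Ω} (h : Ns p S N A₀ W D) {x y : Ω} (hx : x ∈ A₀)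
    (hy : y ∈ A₀) : x * y = y * x := by
  have hfA₀ : Finite A₀ := finite_of_le (h.A₀N.trans h.NS)
  refine mul_comm_of_central (p := p) h.WA₀ h.cA₀ (fun w hw x hx => ?_) hx hy
  rw [h.eW] at hw
  exact (mem_ZS.1 hw).2 x (h.A₀N hx)

theorem Ns.weights {N A₀ W D : Subgroup Ω} (h : Ns p S N A₀ W D) {τ : MulAut S} {α : MulAut N}
    (hα : ∀ (x : Ω) (hx : x ∈ N) (hx' : x ∈ S), ((τ ⟨x, hx'⟩ : S) : Ω) = (α ⟨x, hx⟩ : N)) :
    ∃ c d e f m : ℤ, Wt τ S N c ∧ Wt τ N A₀ d ∧ Wt τ A₀ W e ∧ Wt τ W D f ∧ Wt τ D ⊥ m ∧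
      (p : ℤ) ∣ c * d - e ∧ (p : ℤ) ∣ d * e - m ∧
      ((∃ x ∈ S, ∃ y ∈ W, ⁅x, y⁆ ≠ 1) → (p : ℤ) ∣ c * f - m) ∧
      ((∃ x ∈ S, ∃ y ∈ A₀, ⁅x, y⁆ ∉ D) → (p : ℤ) ∣ c * e - f) := by
  have hpp := hp.out
  have hA₀S := h.A₀N.trans h.NS
  have hWN := h.WA₀.trans h.A₀N
  have hWS := h.WA₀.trans hA₀S
  have hDN := h.DW.trans hWN
  have hDS := h.DW.trans hWS
  have hfN : Finite N := finite_of_le h.NS
  have hfA₀ : Finite A₀ := finite_of_le hA₀S
  have hfW : Finite W := finite_of_le hWS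
  have hfD : Finite D := finite_of_le hDS
  -- invariance
  have iN : ∀ x : S, (x : Ω) ∈ N → ((τ x : S) : Ω) ∈ N := by
    intro x hx
    rw [hα x hx x.2]
    exact (α _).2
  have iW : ∀ x : S, (x : Ω) ∈ W → ((τ x : S) : Ω) ∈ W := by
    intro x hx
    rw [hα x (hWN hx) x.2, h.eW]
    exact charIn_ZS N α ⟨x, hWN hx⟩ (by rw [← h.eW]; exact hx)
  have iD : ∀ x : S, (x : Ω) ∈ D → ((τ x : S) : Ω) ∈ D := by
    intro x hx
    rw [hα x (hDN hx) x.2, h.eD]
    exact charIn_commutator N α ⟨x, hDN hx⟩ (by rw [← h.eD]; exact hx)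
  have iA₀ : ∀ x : S, (x : Ω) ∈ A₀ → ((τ x : S) : Ω) ∈ A₀ := by
    intro x hx
    rw [h.mA₀] at hx ⊢
    refine ⟨iN x hx.1, fun s hs => ?_⟩
    have h1 := hx.2 _ (τ⁻¹ ⟨s, hs⟩).2
    have h2 : ((⁅x, τ⁻¹ ⟨s, hs⟩⁆ : S) : Ω) ∈ W := h1
    have h3 := iW _ h2
    rw [coe_commutator_apply, MulAut.apply_inv_self] at h3
    exact h3
  have cD' : Nat.card D = p * Nat.card (⊥ : Subgroup Ω) := by
    rw [h.cD, Subgroup.card_bot, mul_one]
  obtain ⟨c, hc⟩ := exists_wt (τ := τ) le_rfl h.NS h.nN h.cS (fun x _ => (τ x).2) iN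
  obtain ⟨d, hd⟩ := exists_wt (τ := τ) h.NS h.A₀N (h.nA₀.mono h.NS) h.cN iN iA₀
  obtain ⟨e, he⟩ := exists_wt (τ := τ) hA₀S h.WA₀ (h.nW.mono hA₀S) h.cA₀ iA₀ iW
  obtain ⟨f, hf⟩ := exists_wt (τ := τ) hWS h.DW (h.nD.mono hWS) h.cW iW iD
  obtain ⟨m, hm⟩ := exists_wt (τ := τ) hDS bot_le (nrm_bot _) cD' iD
    (fun x hx => by
      rw [Subgroup.mem_bot] at hx ⊢
      have : x = 1 := Subtype.ext hx
      rw [this, map_one]
      rfl)
  -- commutator facts
  have kNN : ∀ x ∈ N, ∀ y ∈ N, ⁅x, y⁆ ∈ D := fun x hx y hy => by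
    rw [h.eD]
    exact Subgroup.commutator_mem_commutator hx hy
  have kWN : ∀ w ∈ W, ∀ y ∈ N, y * w = w * y := fun w hw y hy => by
    rw [h.eW] at hw
    exact (mem_ZS.1 hw).2 y hy
  have kSA : ∀ x ∈ S, ∀ y ∈ A₀, ⁅x, y⁆ ∈ W := fun x hx y hy =>
    comm_mem_symm (((h.mA₀ y).1 hy).2 x hx)
  have kSW : ∀ x ∈ S, ∀ y ∈ W, ⁅x, y⁆ ∈ D := fun x hx y hy =>
    comm_mem_of_index' h.pg h.nW h.nD h.DW hWS (Or.inr h.cW) hy hx
  have kSD : ∀ x ∈ S, ∀ y ∈ D, ⁅x, y⁆ ∈ (⊥ : Subgroup Ω) := fun x hx y hy =>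
    comm_mem_of_index' h.pg h.nD (nrm_bot S) bot_le hDS (Or.inr cD') hy hx
  have one : ∀ {x y : Ω}, x * y = y * x → ⁅x, y⁆ ∈ (⊥ : Subgroup Ω) := fun h => by
    rw [Subgroup.mem_bot]
    exact commutatorElement_eq_one_iff_mul_comm.2 h
  refine ⟨c, d, e, f, m, hc, hd, he, hf, hm, ?_, ?_, ?_, ?_⟩
  · obtain ⟨x, hx, y, hy, hxy⟩ := h.r1
    refine Wt.rule h.nW hc hd he le_rfl h.NS h.A₀N (fun u hu y hy => h.DW (kNN u hu y hy)) kSA
      (fun z hz s hs => ((h.mA₀ z).1 hz).2 s hs)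
      (fun z hz => pow_mem_of_card (h.nW.mono hA₀S) h.WA₀ h.cA₀ hz) hx hy ?_ hxy
    exact comm_mem_of_index' h.pg h.nN h.nA₀ h.A₀N h.NS (Or.inr h.cN) hy hx
  · obtain ⟨x, hx, y, hy, hxy⟩ : ∃ x ∈ N, ∃ y ∈ A₀, ⁅x, y⁆ ∉ (⊥ : Subgroup Ω) := by
      by_contra hcon
      push Not at hcon
      have h1 : A₀ ≤ W := by
        intro z hz
        rw [h.eW]
        refine mem_ZS.2 ⟨h.A₀N hz, fun x hx => ?_⟩
        have := hcon x hx z hz
        rwa [Subgroup.mem_bot, commutatorElement_eq_one_iff_mul_comm] at this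
      have h2 : Nat.card A₀ ≤ Nat.card W := Nat.card_mono (Set.toFinite _) h1
      rw [h.cA₀] at h2
      have h3 : 0 < Nat.card W := Nat.card_pos
      nlinarith [hpp.one_lt]
    exact Wt.rule (nrm_bot S) hd he hm h.NS hA₀S h.WA₀ (fun u hu y hy => one (h.comm_A₀ hu hy))
      (fun x hx v hv => one (kWN v hv x hx))
      (fun z hz s hs => comm_mem_symm (kSD s hs z hz))
      (fun z hz => pow_mem_of_card (nrm_bot _) bot_le cD' hz) hx hy (kNN x hx y (h.A₀N hy)) hxy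
  · rintro ⟨x, hx, y, hy, hxy⟩
    exact Wt.rule (nrm_bot S) hc hf hm le_rfl hWS h.DW
      (fun u hu y hy => one (kWN y hy u hu)) kSD
      (fun z hz s hs => comm_mem_symm (kSD s hs z hz))
      (fun z hz => pow_mem_of_card (nrm_bot _) bot_le cD' hz) hx hy (kSW x hx y hy)
      (by rw [Subgroup.mem_bot]; exact hxy)
  · rintro ⟨x, hx, y, hy, hxy⟩
    exact Wt.rule h.nD hc he hf le_rfl hA₀S h.WA₀ (fun u hu y hy => kNN u hu y (h.A₀N hy)) kSW
      (fun z hz s hs => comm_mem_symm (kSW s hs z hz))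
      (fun z hz => pow_mem_of_card (h.nD.mono hWS) h.DW h.cW hz) hx hy (kSA x hx y hy) hxy

/-- `N_S(A)` is not essential. -/
theorem Hyp.ab3_not_essential (H : Hyp p F) {A C : Subgroup Ω} (h : Ab3 p F A C) :
    ¬ F.IsEssential p (normalizerIn S A) := by
  intro hNe
  have hpp := hp.out
  have hAS := h.ess.1.1
  have hfA : Finite A := finite_of_le hAS
  set N := normalizerIn S A with hN
  have hNS : N ≤ S := inf_le_left
  have hAN : A ≤ N := le_normalizerIn hAS
  have hfN : Finite N := finite_of_le hNS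
  have hcS : Nat.card S = p * Nat.card N := by rw [H.card, h.cN]; ring
  have hNn : Nrm S N := nrm_of_card H.hS hNS hcS
  have hcent := h.ess.1.2 A (isConj_refl F hAS)
  have hZNA : ZS N ≤ A := by
    intro z hz
    exact hcent (mem_centralizerIn.2 ⟨hNS (ZS_le hz), fun x hx => (mem_ZS.1 hz).2 x (hAN hx)⟩)
  have hfW : Finite (ZS N) := finite_of_le (hZNA.trans hAS)
  obtain ⟨h', hZ', hD'⟩ := H.four hNe h.cN
  obtain ⟨g, hg, hgN⟩ := h'.exists_gen H.hS H.hF
  obtain ⟨L, hWL, hLN, hLc, -, hLg, hmv, -⟩ := h'.exists_torus_aux H.hS H.hF hg hgN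
  have hfL : Finite L := finite_of_le (hLN.trans hNS)
  have hcAW : Nat.card A = p * Nat.card (ZS N) := by rw [h.card, h.cW]; ring
  have hWn : Nrm S (ZS N) := (charIn_ZS N).nrm_of ZS_le hNn
  obtain ⟨x, hx, hxW⟩ : ∃ x ∈ A, x ∉ ZS N := by
    by_contra hcon
    push Not at hcon
    have h1 : Nat.card A ≤ Nat.card (ZS N) := Nat.card_mono (Set.toFinite _) hcon
    rw [hcAW] at h1
    have h3 : 0 < Nat.card (ZS N) := Nat.card_pos
    nlinarith [hpp.one_lt]
  obtain ⟨β, hβ, hβx⟩ := hmv ⟨x, hAN hx⟩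
  -- `β(A) = L`
  have hφ := restrict_mem ((mem_autGroup_iff F hNS β).1 hβ) hAN
  set φ := (N.subtype.comp β.toMonoidHom).comp (Subgroup.inclusion hAN) with hφd
  have hφe : ∀ a : A, φ a = (β ⟨a, hAN a.2⟩ : N) := fun a => rfl
  have hle : φ.range ≤ L := by
    rintro _ ⟨a, rfl⟩
    obtain ⟨j, hj⟩ := exists_zpow_mod hZNA (hWn.mono hAS) hcAW hx hxW a.2
    have e : (⟨a, hAN a.2⟩ : N) = ⟨x, hAN hx⟩ ^ j * ⟨(x ^ j)⁻¹ * a, hAN (hZNA hj)⟩ := by
      apply Subtype.ext
      show (a : Ω) = x ^ j * ((x ^ j)⁻¹ * a)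
      group
    rw [hφe, e, map_mul, map_zpow, Subgroup.coe_mul, Subgroup.coe_zpow]
    exact L.mul_mem (L.zpow_mem hβx j) (hWL (charIn_ZS N β _ hj))
  have hcon : F.IsConj A φ.range := isConj_range hφ
  have hrL : φ.range = L := by
    refine Subgroup.eq_of_le_of_card_ge hle ?_
    rw [hLc, ← isConj_card_eq hcon, hcAW]
  rw [hrL] at hcon
  -- `L` is normal in `S`
  have hK : aK S L (ZS N) hWn = S := by
    refine eq_of_between (p := p) (Z := N) ?_ aK_le hcS ?_
    · intro n hn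
      exact ⟨hNS hn, fun y hy => comm_mem_of_card_sq (p := p) (nrm_ZS N) ZS_le
        (by rw [h.cN, h.cW]; ring) hn (hLN hy)⟩
    · intro h1
      apply hgN
      rw [← h1]
      exact ⟨hg.1, fun y hy => (hLg y (hLN hy)).2 hy⟩
  have hLn : Nrm S L := by
    intro s hs y hy
    rw [← hK] at hs
    have e : s * y * s⁻¹ = ⁅s, y⁆ * y := by rw [commutatorElement_def]; group
    rw [e]
    exact L.mul_mem (hWL (hs.2 y hy)) hy
  have h1 := h.ess.2.1.2 L hcon
  rw [normalizerIn_eq_of_nrm (hLN.trans hNS) hLn, h.cN, H.card] at h1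
  exact absurd ((Nat.pow_le_pow_iff_right hpp.one_lt).1 h1) (by norm_num)

/-- Extension of automorphisms of `A`. -/
theorem Hyp.ab3_ext (H : Hyp p F) {A C : Subgroup Ω} (h : Ab3 p F A C) {γ : MulAut A}
    (hγ : γ ∈ F.autGroup A) (hn : ∀ δ ∈ autInducedBy S A, γ * δ * γ⁻¹ ∈ autInducedBy S A) :
    ∃ α ∈ F.autGroup (normalizerIn S A), ∃ β ∈ F.autGroup S,
      (∀ (x : Ω) (hx : x ∈ normalizerIn S A) (hx' : x ∈ S),
        ((β ⟨x, hx'⟩ : S) : Ω) = (α ⟨x, hx⟩ : normalizerIn S A)) ∧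
      ∀ (x : Ω) (hx : x ∈ A) (hx' : x ∈ S), ((β ⟨x, hx'⟩ : S) : Ω) = (γ ⟨x, hx⟩ : A) := by
  have hAS := h.ess.1.1
  have hNS : normalizerIn S A ≤ S := inf_le_left
  have hAN : A ≤ normalizerIn S A := le_normalizerIn hAS
  obtain ⟨α, hα, e₁⟩ := exists_aut_normalizerIn
    (isReceptive_of_isFullyNormalized H.hS H.hF h.ess.2.1) hγ hn
  obtain ⟨β, hβ, e₂⟩ := H.ext_top_of_index (isCentric_of_le h.ess.1 hAN hNS) h.cN
    (H.ab3_not_essential h) hα
  exact ⟨α, hα, β, hβ, e₂, fun x hx hx' => by rw [e₂ x (hAN hx) hx', e₁ x hx (hAN hx)]⟩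

theorem Hyp.ab3_extTop (H : Hyp p F) {A C : Subgroup Ω} (h : Ab3 p F A C) : ExtTop F A := by
  intro γ hγ hn
  obtain ⟨-, -, β, hβ, -, h2⟩ := H.ab3_ext h hγ hn
  exact ⟨β, hβ, h2⟩

end Cfsg.Agent.H785
end

-- part: H785/FifthD
section
/-!
# Abelian essential subgroups of order `p³` in a group of order `p⁵`: then `p = 3` (helper785)
-/

set_option autoImplicit false
set_option linter.unusedSectionVars false
set_option linter.unusedVariables false
set_option linter.style.haveILetI false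

namespace Cfsg.Agent.H785

open Cfsg Cfsg.FusionSystem Cfsg.Agent.H802
open scoped commutatorElement

variable {Ω : Type*} [Group Ω] {S : Subgroup Ω} {p : ℕ} [hp : Fact p.Prime]

theorem Wt.congr {τ : MulAut S} {U V : Subgroup Ω} [Finite U] {k k' : ℤ} (h : Wt τ U V k)
    (hVU : V ≤ U) (hV : Nrm U V) (hc : Nat.card U = p * Nat.card V) (hk : (p : ℤ) ∣ k - k') :
    Wt τ U V k' := by
  obtain ⟨j, hj⟩ := hk
  intro x hx
  have h1 := h x hx
  have h2 : (x : Ω) ^ (k - k') ∈ V := by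
    rw [hj, zpow_mul, zpow_natCast]
    exact V.zpow_mem (pow_mem_of_card hV hVU hc hx) j
  have h3 := V.mul_mem h2 h1
  have e : (x : Ω) ^ (k - k') * (((x : Ω) ^ k)⁻¹ * (τ x : S)) = ((x : Ω) ^ k')⁻¹ * (τ x : S) := by
    rw [← mul_assoc, ← zpow_neg, ← zpow_neg, ← zpow_add]
    congr 2
    ring
  rwa [e] at h3

/-- A minimal step inside a section on which a `p`-group acts. -/
theorem exists_next_in {P X Y : Subgroup Ω} [Finite P] [Finite X] (hP : IsPGroup p P)
    (hX : Nrm P X) (hY : Nrm P Y) (hXY : Nrm X Y) (hle : Y ≤ X)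
    (hc : p ∣ Nat.card (X ⧸ Y.subgroupOf X)) :
    ∃ K : Subgroup Ω, Y ≤ K ∧ K ≤ X ∧ Nat.card K = p * Nat.card Y ∧
      ∀ k ∈ K, ∀ g ∈ P, ⁅k, g⁆ ∈ Y := by
  have hn : (Y.subgroupOf X).Normal := hXY.normal
  set N := Y.subgroupOf X with hN
  have hinv : ∀ (g : P), ∀ x ∈ N, conjHom P X hX g x ∈ N := fun g x hx => hY g g.2 x hx
  obtain ⟨h, hho, hfix⟩ := exists_fixed_group hP (quotAct (conjHom P X hX) N hinv) hc
  set K₀ := (Subgroup.zpowers h).comap (QuotientGroup.mk' N) with hK₀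
  refine ⟨K₀.map X.subtype, ?_, ?_, ?_, ?_⟩
  · intro y hy
    refine ⟨⟨y, hle hy⟩, ?_, rfl⟩
    have h0 : (QuotientGroup.mk' N) ⟨y, hle hy⟩ = 1 := (QuotientGroup.eq_one_iff _).2 hy
    have h1 : (QuotientGroup.mk' N) ⟨y, hle hy⟩ ∈ Subgroup.zpowers h := by
      rw [h0]
      exact Subgroup.one_mem _
    exact h1
  · rintro _ ⟨k, -, rfl⟩
    exact k.2
  · have h1 : Nat.card (K₀.map X.subtype) = Nat.card K₀ :=
      Nat.card_congr (K₀.equivMapOfInjective _ X.subtype_injective).symm.toEquiv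
    have h2 : Nat.card N = Nat.card Y := by
      rw [hN]
      exact Nat.card_congr (Subgroup.subgroupOfEquivOfLe hle).toEquiv
    rw [h1, hK₀, card_comap_mk, Nat.card_zpowers, hho, h2]
  · rintro _ ⟨k, hk, rfl⟩ g hg
    obtain ⟨i, hi⟩ := Subgroup.mem_zpowers_iff.1 hk
    have h1 : quotAct (conjHom P X hX) N hinv ⟨g, hg⟩ (QuotientGroup.mk' N k) =
        QuotientGroup.mk' N k := by
      rw [← hi, map_zpow, hfix]
    have h2 : QuotientGroup.mk' N (conjHom P X hX ⟨g, hg⟩ k) = QuotientGroup.mk' N k := h1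
    have h3 : QuotientGroup.mk' N (k * (conjHom P X hX ⟨g, hg⟩ k)⁻¹) = 1 := by
      rw [map_mul, map_inv, h2, mul_inv_cancel]
    have h4 : (k * (conjHom P X hX ⟨g, hg⟩ k)⁻¹ : X) ∈ N := (QuotientGroup.eq_one_iff _).1 h3
    have h5 : ((k * (conjHom P X hX ⟨g, hg⟩ k)⁻¹ : X) : Ω) ∈ Y := h4
    rw [Subgroup.coe_mul, Subgroup.coe_inv, coe_conjHom] at h5
    have e : (k : Ω) * (g * k * g⁻¹)⁻¹ = ⁅(k : Ω), g⁆ := by
      rw [commutatorElement_def]
      group
    rw [e] at h5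
    exact h5

variable [Finite S] {F : FusionSystem S}

theorem Ab3.not_nrm {A C : Subgroup Ω} (H : Hyp p F) (h : Ab3 p F A C) : ¬ Nrm S A := by
  intro hn
  have h1 := normalizerIn_eq_of_nrm h.ess.1.1 hn
  have h2 := h.cN
  rw [h1, H.card] at h2
  exact absurd (Nat.pow_right_injective hp.out.two_le h2) (by norm_num)

theorem Ab3.center_le {A C : Subgroup Ω} (h : Ab3 p F A C) : ZS (normalizerIn S A) ≤ A := by
  have hAS := h.ess.1.1
  have hNS : normalizerIn S A ≤ S := inf_le_left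
  intro z hz
  exact h.ess.1.2 A (isConj_refl F hAS) (mem_centralizerIn.2 ⟨hNS (ZS_le hz), fun x hx =>
    (mem_ZS.1 hz).2 x (le_normalizerIn hAS hx)⟩)

/-- The subgroups `A₀ ≥ W ≥ D`. -/
theorem Hyp.exists_ns (H : Hyp p F) {A C : Subgroup Ω} (h : Ab3 p F A C) : ∃ A₀ : Subgroup Ω,
    Ns p S (normalizerIn S A) A₀ (ZS (normalizerIn S A))
      ⁅normalizerIn S A, normalizerIn S A⁆ := by
  have hpp := hp.out
  have hAS := h.ess.1.1
  have hfA : Finite A := finite_of_le hAS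
  have hNA := h.not_nrm H
  have hZA := h.center_le
  have hcN := h.cN
  have hcW := h.cW
  have hcD := h.cD
  set N := normalizerIn S A with hN
  have hNS : N ≤ S := inf_le_left
  have hAN : A ≤ N := le_normalizerIn hAS
  have hfN : Finite N := finite_of_le hNS
  have hcS : Nat.card S = p * Nat.card N := by rw [H.card, hcN]; ring
  have nN : Nrm S N := nrm_of_card H.hS hNS hcS
  set W := ZS N with hW
  have hWN : W ≤ N := ZS_le
  have hWS := hWN.trans hNS
  have hfW : Finite W := finite_of_le hWS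
  have nW : Nrm S W := (charIn_ZS N).nrm_of hWN nN
  set D : Subgroup Ω := ⁅N, N⁆ with hD
  obtain ⟨-, hDW⟩ := fourth_commutator hcN hcW
  have hDN : D ≤ N := hDW.trans hWN
  have nD : Nrm S D := (charIn_commutator N).nrm_of hDN nN
  set A₀ : Subgroup Ω := N ⊓ up S W nW with hA₀
  have hA₀N : A₀ ≤ N := inf_le_left
  have hfA₀ : Finite A₀ := finite_of_le (hA₀N.trans hNS)
  have hm : ∀ x, x ∈ A₀ ↔ x ∈ N ∧ ∀ s ∈ S, ⁅x, s⁆ ∈ W := by
    intro x
    rw [hA₀, Subgroup.mem_inf, mem_up]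
    exact ⟨fun hx => ⟨hx.1, hx.2.2⟩, fun hx => ⟨hx.1, hNS hx.1, hx.2⟩⟩
  have hWA₀ : W ≤ A₀ := le_inf hWN (le_up hWS)
  have hne : A₀ ≠ N := by
    intro h1
    obtain ⟨s, hs, x, hx, hxA⟩ := exists_conj_ne hAS hNA
    apply hxA
    have h2 : x ∈ A₀ := by rw [h1]; exact hAN hx
    have h3 := ((hm x).1 h2).2 s hs
    have e : s * x * s⁻¹ = ⁅x, s⁆⁻¹ * x := by rw [commutatorElement_def]; group
    rw [e]
    exact A.mul_mem (A.inv_mem (hZA h3)) hx
  have hcNW : Nat.card N = p ^ 2 * Nat.card W := by rw [hcN, hcW]; ring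
  have hcA₀ : Nat.card A₀ = p ^ 3 := by
    refine le_antisymm (card_lt_of_ne hcN hA₀N hne) ?_
    obtain ⟨K, h1, h2, h3, h4⟩ := exists_next_in (p := p) H.hS nN nW (nW.mono hNS) hWN (by
      have h1 := (W.subgroupOf N).card_mul_index
      rw [Nat.card_congr (Subgroup.subgroupOfEquivOfLe hWN).toEquiv, hcNW, mul_comm] at h1
      have h2 : Nat.card (N ⧸ W.subgroupOf N) = p ^ 2 :=
        Nat.eq_of_mul_eq_mul_right Nat.card_pos h1
      rw [h2]
      exact dvd_pow_self p two_ne_zero)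
    have h5 : K ≤ A₀ := fun k hk => (hm k).2 ⟨h2 hk, fun s hs => h4 k hk s hs⟩
    have h6 : Nat.card K ≤ Nat.card A₀ := Nat.card_mono (Set.toFinite _) h5
    rw [h3, hcW] at h6
    calc p ^ 3 = p * p ^ 2 := by ring
      _ ≤ _ := h6
  refine ⟨A₀, ⟨H.hS, hNS, hcS, nN, hA₀N, by rw [hcN, hcA₀]; ring, nrm_of_le_up hWA₀ inf_le_right,
    hWA₀, by rw [hcA₀, hcW]; ring, nW, hDW, by rw [hcW, hcD]; ring, nD, hcD, rfl, rfl, hm, ?_⟩⟩
  by_contra hcon
  push Not at hcon
  exact hne (le_antisymm hA₀N fun x hx => (hm x).2 ⟨hx, fun s hs => comm_mem_symm (hcon s hs x hx)⟩)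

/-- Tori and their weights. -/
theorem Hyp.ab3_torus (H : Hyp p F) {A C A₀ W D : Subgroup Ω} (h : Ab3 p F A C)
    (hN : Ns p S (normalizerIn S A) A₀ W D) {l l' : ℤ} (hl : (p : ℤ) ∣ l * l' - 1) :
    ∃ τ ∈ F.autGroup S, ∃ c d e f m : ℤ, Wt τ S (normalizerIn S A) c ∧
      Wt τ (normalizerIn S A) A₀ d ∧ (p : ℤ) ∣ c * d - e ∧ (p : ℤ) ∣ d * e - m ∧
      ((∃ x ∈ S, ∃ y ∈ W, ⁅x, y⁆ ≠ 1) → (p : ℤ) ∣ c * f - m) ∧
      ((∃ x ∈ S, ∃ y ∈ A₀, ⁅x, y⁆ ∉ D) → (p : ℤ) ∣ c * e - f) ∧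
      (p : ℤ) ∣ d - l' ∧ (p : ℤ) ∣ m - l ∧ (p : ℤ) ∣ f - 1 := by
  have hpp := hp.out
  have hAS := h.ess.1.1
  have hfA : Finite A := finite_of_le hAS
  have hnA := h.not_nrm H
  have hZA := h.center_le
  have hCD := h.CD
  have hext : ∀ {γ : MulAut A}, γ ∈ F.autGroup A →
      (∀ δ ∈ autInducedBy S A, γ * δ * γ⁻¹ ∈ autInducedBy S A) →
      ∃ α ∈ F.autGroup (normalizerIn S A), ∃ β ∈ F.autGroup S,
      (∀ (x : Ω) (hx : x ∈ normalizerIn S A) (hx' : x ∈ S),
        ((β ⟨x, hx'⟩ : S) : Ω) = (α ⟨x, hx⟩ : normalizerIn S A)) ∧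
      ∀ (x : Ω) (hx : x ∈ A) (hx' : x ∈ S), ((β ⟨x, hx'⟩ : S) : Ω) = (γ ⟨x, hx⟩ : A) :=
    fun hγ hn => H.ab3_ext h hγ hn
  obtain ⟨g, hg, hgA⟩ := h.sec.exists_gen H.hS H.hF
  obtain ⟨L, hCL, hLA, hLc, -, hLg, htor⟩ := h.sec.exists_torus H.hS H.hF hg hgA
  set N := normalizerIn S A with hNd
  have hNS : N ≤ S := inf_le_left
  have hAN : A ≤ N := le_normalizerIn hAS
  have hfN : Finite N := finite_of_le hNS
  have hCc : Nat.card C = p := by
    have h1 := h.sec.cardQ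
    rw [h.card] at h1
    exact Nat.eq_of_mul_eq_mul_left (pow_pos hpp.pos 2) (by rw [← h1]; ring)
  have hfL : Finite L := finite_of_le (hLA.trans hAS)
  have hfC : Finite C := finite_of_le (hCL.trans (hLA.trans hAS))
  have hcW := h.cW
  rw [← hN.eW] at hcW hZA
  rw [← hN.eD] at hCD
  have hWL : W = L := by
    refine Subgroup.eq_of_le_of_card_ge (fun w hw => ?_) (by rw [hLc, hCc, hcW, sq])
    refine (hLg w (hZA hw)).1 ?_
    have hw' : w ∈ ZS N := by rw [← hN.eW]; exact hw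
    rw [commutatorElement_eq_one_iff_mul_comm.2 ((mem_ZS.1 hw').2 g hg)]
    exact C.one_mem
  have hfA₀ : Finite A₀ := finite_of_le (hN.A₀N.trans hNS)
  have hfW : Finite W := finite_of_le (hN.WA₀.trans (hN.A₀N.trans hNS))
  have hfD : Finite D := finite_of_le (hN.DW.trans (hN.WA₀.trans (hN.A₀N.trans hNS)))
  have hWS : W ≤ S := hN.WA₀.trans (hN.A₀N.trans hNS)
  have hDS : D ≤ S := hN.DW.trans hWS
  -- elements
  obtain ⟨x₁, hx₁, hx₁'⟩ : ∃ x ∈ A, x ∉ A₀ := by
    by_contra hcon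
    push Not at hcon
    apply hnA
    have h1 : A = A₀ := Subgroup.eq_of_le_of_card_ge hcon (by
      rw [hN.cA₀, hcW, h.card]; exact (by ring : p * p ^ 2 = p ^ 3).le)
    rw [h1]
    exact hN.nA₀
  have hD1 : 1 < Nat.card D := by rw [hN.cD]; exact hpp.one_lt
  obtain ⟨x₂, hx₂, hx₂'⟩ := (Subgroup.one_lt_card_iff_ne_bot D).1 hD1 |> fun hb =>
    (Subgroup.ne_bot_iff_exists_ne_one (H := D)).1 hb |> fun ⟨a, ha⟩ =>
      (⟨(a : Ω), a.2, fun h => ha (Subtype.ext h)⟩ : ∃ x ∈ D, x ≠ 1)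
  have hC1 : 1 < Nat.card C := by rw [hCc]; exact hpp.one_lt
  obtain ⟨x₃, hx₃, hx₃'⟩ := (Subgroup.one_lt_card_iff_ne_bot C).1 hC1 |> fun hb =>
    (Subgroup.ne_bot_iff_exists_ne_one (H := C)).1 hb |> fun ⟨a, ha⟩ =>
      (⟨(a : Ω), a.2, fun h => ha (Subtype.ext h)⟩ : ∃ x ∈ C, x ≠ 1)
  obtain ⟨t, ht, htn, ht1, ht2, -⟩ := htor l l' hl
  obtain ⟨α, hα, τ, hτ, hτα, hτt⟩ := hext (h.sec.tri_le ht) htn
  obtain ⟨c, d, e, f, m, hc, hd, he, hf, hm, r1, r2, r3, r4⟩ := hN.weights hτα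
  refine ⟨τ, hτ, c, d, e, f, m, hc, hd, r1, r2, r3, r4, ?_, ?_, ?_⟩
  · -- d ≡ l'
    refine wt_eq_of_mem hNS hN.A₀N (hN.nA₀.mono hNS) hN.cN hd (hAN hx₁) hx₁' ?_
    rw [hτt x₁ hx₁]
    have := ht1 ⟨x₁, hx₁⟩
    rw [← hWL] at this
    exact hN.WA₀ this
  · -- m ≡ l
    have hx₂A : x₂ ∈ A := hZA (hN.DW hx₂)
    have cD' : Nat.card D = p * Nat.card (⊥ : Subgroup Ω) := by
      rw [hN.cD, Subgroup.card_bot, mul_one]
    refine wt_eq_of_mem hDS bot_le (nrm_bot _) cD' hm hx₂ (by rwa [Subgroup.mem_bot]) ?_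
    have h1 : (x₂ ^ l)⁻¹ * ((t ⟨x₂, hx₂A⟩ : A) : Ω) ∈ C := by
      refine ht2 ⟨x₂, hx₂A⟩ ?_
      rw [← hWL]
      exact hN.DW hx₂
    rw [← hτt x₂ hx₂A (hDS hx₂)] at h1
    have h2 : ((τ ⟨x₂, hDS hx₂⟩ : S) : Ω) ∈ D := by
      have hx₂N : x₂ ∈ N := hAN hx₂A
      rw [hτα x₂ hx₂N, hN.eD]
      exact charIn_commutator N α ⟨x₂, hx₂N⟩ (by rw [← hN.eD]; exact hx₂)
    rw [Subgroup.mem_bot]
    exact hCD _ h1 (D.mul_mem (D.inv_mem (D.zpow_mem hx₂ l)) h2)
  · -- f ≡ 1
    have hx₃L : x₃ ∈ L := hCL hx₃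
    have hx₃A : x₃ ∈ A := hLA hx₃L
    have hx₃W : x₃ ∈ W := by rw [hWL]; exact hx₃L
    refine wt_eq_of_mem hWS hN.DW (hN.nD.mono hWS) hN.cW hf hx₃W (fun hx => hx₃' (hCD _ hx₃ hx)) ?_
    rw [hτt x₃ hx₃A]
    have h1 := (h.sec.mem_tri.1 ht).2.1 ⟨x₃, hx₃A⟩ hx₃
    have h2 : (x₃ ^ (1 : ℤ))⁻¹ * ((t ⟨x₃, hx₃A⟩ : A) : Ω) = 1 := by
      rw [zpow_one]
      rw [Subgroup.mem_bot] at h1
      exact h1
    rw [h2]
    exact D.one_mem

/-- An abelian essential subgroup of order `p³`: then `p = 3`. -/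
theorem Hyp.ab3_facts (H : Hyp p F) {A C A₀ W D : Subgroup Ω} (h : Ab3 p F A C)
    (hN : Ns p S (normalizerIn S A) A₀ W D) :
    p = 3 ∧ (∀ x ∈ S, ∀ y ∈ A₀, ⁅x, y⁆ ∈ D) ∧ (∃ x ∈ S, ∃ y ∈ W, ⁅x, y⁆ ≠ 1) ∧
      ∃ τ ∈ F.autGroup S, Wt τ S (normalizerIn S A) (-1) ∧ Wt τ (normalizerIn S A) A₀ (-1) := by
  have hpp := hp.out
  have hpz : Prime (p : ℤ) := Nat.prime_iff_prime_int.1 hpp
  have hNS : normalizerIn S A ≤ S := inf_le_left
  have hA₀S : A₀ ≤ S := hN.A₀N.trans hNS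
  have hWS : W ≤ S := hN.WA₀.trans hA₀S
  have hfN : Finite (normalizerIn S A) := finite_of_le hNS
  have hfA₀ : Finite A₀ := finite_of_le hA₀S
  have hfW : Finite W := finite_of_le hWS
  have hfD : Finite D := finite_of_le (hN.DW.trans hWS)
  have hcW := h.cW
  rw [← hN.eW] at hcW
  obtain ⟨τ, hτ, c, d, e, f, m, hc, hd, r1, r2, r3, r4, k1, k2, k3⟩ :=
    H.ab3_torus h hN (l := -1) (l' := -1) (by simp)
  have he1 : (p : ℤ) ∣ e - 1 := by
    have e1 : e - 1 = (d - -1) * e - (d * e - m) - (m - -1) := by ring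
    rw [e1]
    exact dvd_sub (dvd_sub (Dvd.dvd.mul_right k1 _) r2) k2
  have hc1 : (p : ℤ) ∣ c - -1 := by
    have e1 : c - -1 = c * (d - -1) - (c * d - e) - (e - 1) := by ring
    rw [e1]
    exact dvd_sub (dvd_sub (Dvd.dvd.mul_left k1 _) r1) he1
  have h2 : ¬ (p : ℤ) ∣ 2 := by
    intro h2
    have h3 : p ∣ 2 := by exact_mod_cast h2
    exact H.p2 ((Nat.prime_dvd_prime_iff_eq hpp Nat.prime_two).1 h3)
  have hstar : ∀ x ∈ S, ∀ y ∈ A₀, ⁅x, y⁆ ∈ D := by
    by_contra hcon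
    push Not at hcon
    have h3 := r4 hcon
    apply h2
    have e1 : (2 : ℤ) = (c - -1) * e - (c * e - f) - (f - 1) - (e - 1) := by ring
    rw [e1]
    exact dvd_sub (dvd_sub (dvd_sub (Dvd.dvd.mul_right hc1 _) h3) k3) he1
  have hW1 : ∃ x ∈ S, ∃ y ∈ W, ⁅x, y⁆ ≠ 1 := by
    by_contra hcon
    push Not at hcon
    obtain ⟨a, ha, haW⟩ : ∃ a ∈ A₀, a ∉ W := by
      by_contra hcon
      push Not at hcon
      have h1 : Nat.card A₀ ≤ Nat.card W := Nat.card_mono (Set.toFinite _) hcon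
      rw [hN.cA₀] at h1
      have h3 : 0 < Nat.card W := Nat.card_pos
      nlinarith [hpp.one_lt]
    have h1 := card_le_comm (A := S) (B := D) (x := a) (fun s hs => comm_mem_symm (hstar s hs a ha))
    have h3 : cz S a ≤ A₀ := by
      refine le_trans ?_ (H.cent_three hA₀S (by rw [hN.cA₀, hcW]; ring)
        (fun x hx y hy => hN.comm_A₀ hx hy))
      intro s hs
      rw [mem_cz] at hs
      refine mem_centralizerIn.2 ⟨hs.1, fun x hx => ?_⟩
      obtain ⟨j, hj⟩ := exists_zpow_mod hN.WA₀ (hN.nW.mono hA₀S) hN.cA₀ ha haW hx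
      have e : x = a ^ j * ((a ^ j)⁻¹ * x) := by group
      have h4 : Commute s (a ^ j) := (show Commute s a from hs.2).zpow_right j
      have h5 : Commute s ((a ^ j)⁻¹ * x) :=
        commutatorElement_eq_one_iff_mul_comm.1 (hcon s hs.1 _ hj)
      have h6 := h4.mul_right h5
      rw [← e] at h6
      exact h6.symm.eq
    have h4 : Nat.card (cz S a) ≤ Nat.card A₀ := Nat.card_mono (Set.toFinite _) h3
    rw [H.card, hN.cD] at h1
    rw [hN.cA₀, hcW] at h4
    have h5 : p ^ 5 ≤ p ^ 4 := h1.trans (le_trans (Nat.mul_le_mul le_rfl h4)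
      (by ring_nf; exact le_rfl))
    exact absurd ((Nat.pow_le_pow_iff_right hpp.one_lt).1 h5) (by norm_num)
  refine ⟨?_, hstar, hW1, τ, hτ, ?_, ?_⟩
  · obtain ⟨k, hk⟩ := hpp.odd_of_ne_two H.p2
    have hk' : (p : ℤ) = 2 * k + 1 := by exact_mod_cast hk
    obtain ⟨τ, hτ, c, d, e, f, m, -, -, r1, r2, r3, -, k1, k2, k3⟩ :=
      H.ab3_torus h hN (l := 2) (l' := (k : ℤ) + 1) (by
        have : (2 : ℤ) * ((k : ℤ) + 1) - 1 = (p : ℤ) := by rw [hk']; ring
        rw [this])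
    have r3 := r3 hW1
    -- 2 d ≡ 1, c ≡ 2, e ≡ 4
    have a1 : (p : ℤ) ∣ 2 * d - 1 := by
      have e1 : 2 * d - 1 = 2 * (d - ((k : ℤ) + 1)) + p := by rw [hk']; ring
      rw [e1]
      exact dvd_add (Dvd.dvd.mul_left k1 _) dvd_rfl
    have a2 : (p : ℤ) ∣ c - 2 := by
      have e1 : c - 2 = (c * f - m) + (m - 2) - c * (f - 1) := by ring
      rw [e1]
      exact dvd_sub (dvd_add r3 k2) (Dvd.dvd.mul_left k3 _)
    have a3 : (p : ℤ) ∣ e - 4 := by
      have e1 : e - 4 = 2 * (d * e - m) + 2 * (m - 2) - e * (2 * d - 1) := by ring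
      rw [e1]
      exact dvd_sub (dvd_add (Dvd.dvd.mul_left r2 _) (Dvd.dvd.mul_left k2 _))
        (Dvd.dvd.mul_left a1 _)
    have a4 : (p : ℤ) ∣ 3 := by
      have e1 : (3 : ℤ) = (c - 2) * d + (2 * d - 1) - (c * d - e) - (e - 4) := by ring
      rw [e1]
      exact dvd_sub (dvd_sub (dvd_add (Dvd.dvd.mul_right a2 _) a1) r1) a3
    have a5 : p ∣ 3 := by exact_mod_cast a4
    exact (Nat.prime_dvd_prime_iff_eq hpp Nat.prime_three).1 a5
  · exact hc.congr hNS hN.nN hN.cS hc1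
  · exact hd.congr hN.A₀N (hN.nA₀.mono hNS) hN.cN k1

end Cfsg.Agent.H785
end

-- part: H785/FifthH
section
/-!
# Splitting off a quotient, and the focal subgroup (helper785)
-/

set_option autoImplicit false
set_option linter.unusedSectionVars false
set_option linter.unusedVariables false
set_option linter.style.haveILetI false

namespace Cfsg.Agent.H785

open Cfsg Cfsg.FusionSystem Cfsg.Agent.H802
open scoped commutatorElement

variable {Ω : Type*} [Group Ω] {S : Subgroup Ω} {p : ℕ} [hp : Fact p.Prime] [Finite S]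
  {F : FusionSystem S}

/-- Commutators of `Aut_F(S)` act trivially on `S/[S,S]` when `S` has a characteristic chain with
factors of order `p`. -/
theorem comm_inn (hS : IsPGroup p S) (hF : F.IsSaturated p) (n : ℕ) (c : ℕ → Subgroup Ω)
    (h0 : c 0 = S) (hn : c n = ⊥) (hle : ∀ i ≤ n, c i ≤ S) (hch : ∀ i ≤ n, CharIn S (c i))
    (hmono : ∀ i < n, c (i + 1) ≤ c i) (hcard : ∀ i < n, Nat.card (c i) = p * Nat.card (c (i + 1)))
    {α t : MulAut S} (hα : α ∈ F.autGroup S) (ht : t ∈ F.autGroup S) (x : S) :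
    (x : Ω)⁻¹ * ((α * t * α⁻¹ * t⁻¹) x : S) ∈ ⁅S, S⁆ := by
  set κ := α * t * α⁻¹ * t⁻¹ with hκ
  have hκF : κ ∈ F.autGroup S := mul_mem (mul_mem (mul_mem hα ht) (inv_mem hα)) (inv_mem ht)
  obtain ⟨k, hk⟩ := Cfsg.Agent.H759.exists_pow_eq_one_of_chain hS κ n
    (fun i => (c i).subgroupOf S) (by
      show (c 0).subgroupOf S = ⊤
      rw [h0, Subgroup.subgroupOf_self]) (by
      show (c n).subgroupOf S = ⊥
      rw [hn, Subgroup.bot_subgroupOf])
    (fun i hi x hx => hch i hi κ x hx) (by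
      intro i hi x hx
      have hfc : Finite (c i) := finite_of_le (hle i hi.le)
      have hx' : (x : Ω) ∈ c i := hx
      have h1 := comm_trivial (α := α) (β := t) (hle i hi.le) (hmono i hi)
        (((hch (i + 1) hi).nrm (hle (i + 1) hi)).mono (hle i hi.le)) (hcard i hi)
        (fun x => ((hch i hi.le).mem_iff α x).symm) (fun x => ((hch i hi.le).mem_iff t x).symm)
        (fun x hx => hch (i + 1) hi α x hx) (fun x hx => hch (i + 1) hi t x hx) x hx'
      exact h1)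
  obtain ⟨g, hg⟩ := mem_inn_of_pow hS hF hκF hk
  have e : (x : Ω)⁻¹ * (κ x : S) = ⁅(x : Ω)⁻¹, (g : Ω)⁆ := by
    rw [← hg, MulAut.conj_apply, commutatorElement_def, Subgroup.coe_mul, Subgroup.coe_mul,
      Subgroup.coe_inv]
    group
  rw [e]
  exact Subgroup.commutator_mem_commutator (S.inv_mem x.2) g.2

/-- **Splitting.** -/
theorem exists_split (hS : IsPGroup p S) (hp2 : p ≠ 2) {V W : Subgroup Ω} (hWS : W ≤ S)
    (hVW : V ≤ W) (hne : V ≠ W) (hSV : ⁅S, S⁆ ≤ V)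
    (hV : ∀ α ∈ F.autGroup S, ∀ x : S, (x : Ω) ∈ V → ((α x : S) : Ω) ∈ V)
    {t : MulAut S} (ht : t ∈ F.autGroup S) (h1 : ∀ x : S, (x : Ω) * (t x : S) ∈ W)
    (h2 : ∀ α ∈ F.autGroup S, ∀ w : S, (w : Ω) ∈ W → (w : Ω)⁻¹ * (α w : S) ∈ V)
    (h3 : ∀ α ∈ F.autGroup S, ∀ x : S, (x : Ω)⁻¹ * ((α * t * α⁻¹ * t⁻¹) x : S) ∈ V) :
    ∃ R : Subgroup Ω, R ≤ S ∧ R ≠ S ∧ ⁅S, S⁆ ≤ R ∧
      ∀ α ∈ F.autGroup S, ∀ x : S, (x : Ω)⁻¹ * (α x : S) ∈ R := by
  have hVS : V ≤ S := hVW.trans hWS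
  have hVn : Nrm S V := nrm_of_commutator_le hVS hSV
  have hn : (V.subgroupOf S).Normal := hVn.normal
  set q := QuotientGroup.mk' (V.subgroupOf S) with hq
  have hq1 : ∀ z : S, q z = 1 ↔ (z : Ω) ∈ V := fun z => QuotientGroup.eq_one_iff z
  have hcomm : ∀ x y : S, q x * q y = q y * q x := by
    intro x y
    rw [← commutatorElement_eq_one_iff_mul_comm, ← map_commutatorElement, hq1]
    exact hSV (Subgroup.commutator_mem_commutator x.2 y.2)
  let f : S →* (S ⧸ V.subgroupOf S) := MonoidHom.mk' (fun x => q x * q (t x)) (by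
    intro x y
    rw [map_mul t, map_mul q, map_mul q]
    calc q x * q y * (q (t x) * q (t y)) = q x * (q y * q (t x)) * q (t y) := by group
      _ = q x * (q (t x) * q y) * q (t y) := by rw [hcomm y (t x)]
      _ = _ := by group)
  have hf : ∀ x, f x = q x * q (t x) := fun x => rfl
  have hmR : ∀ x : S, (x : Ω) ∈ f.ker.map S.subtype ↔ f x = 1 := by
    intro x
    constructor
    · rintro ⟨y, hy, hyx⟩
      have : y = x := Subtype.ext hyx
      rw [← this]
      exact hy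
    · intro hx
      exact ⟨x, hx, rfl⟩
  refine ⟨f.ker.map S.subtype, ?_, ?_, ?_, ?_⟩
  · rintro _ ⟨x, -, rfl⟩
    exact x.2
  · intro heq
    apply hne
    refine le_antisymm hVW fun w hw => ?_
    have h4 : f ⟨w, hWS hw⟩ = 1 := by
      rw [← hmR, heq]
      exact hWS hw
    rw [hf] at h4
    have h5 : q (⟨w, hWS hw⟩⁻¹ * t ⟨w, hWS hw⟩) = 1 := by
      rw [hq1]
      exact h2 t ht ⟨w, hWS hw⟩ hw
    rw [map_mul, map_inv, inv_mul_eq_one] at h5
    rw [← h5, ← sq, ← map_pow] at h4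
    obtain ⟨n, hn⟩ := hS ⟨w, hWS hw⟩
    obtain ⟨m, hm⟩ : Odd (p ^ n) := (hp.out.odd_of_ne_two hp2).pow
    have e : (⟨w, hWS hw⟩ : S) = (⟨w, hWS hw⟩ ^ 2) ^ (m + 1) := by
      rw [← pow_mul]
      have : 2 * (m + 1) = p ^ n + 1 := by omega
      rw [this, pow_succ, hn, one_mul]
    have h6 : q ⟨w, hWS hw⟩ = 1 := by
      rw [e, map_pow, h4, one_pow]
    exact (hq1 _).1 h6
  · intro x hx
    have hxS : x ∈ S := hVS (hSV hx)
    refine (hmR ⟨x, hxS⟩).2 ?_
    rw [hf, (hq1 ⟨x, hxS⟩).2 (hSV hx), (hq1 _).2 (hV t ht ⟨x, hxS⟩ (hSV hx)), one_mul]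
  · intro α hα x
    have h4 : q (α (t x)) = q (t (α x)) := by
      have h6 : (α * t * α⁻¹ * t⁻¹) (t (α x)) = α (t x) := by
        rw [MulAut.mul_apply, MulAut.mul_apply, MulAut.mul_apply, MulAut.inv_apply_self,
          MulAut.inv_apply_self]
      have h7 : q ((t (α x))⁻¹ * (α * t * α⁻¹ * t⁻¹) (t (α x))) = 1 :=
        (hq1 _).2 (h3 α hα (t (α x)))
      rw [h6, map_mul, map_inv, inv_mul_eq_one] at h7
      exact h7.symm
    have h5 : f (α x) = f x := by
      rw [hf, hf, ← h4, ← map_mul, ← map_mul, ← map_mul]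
      have h6 : q ((x * t x)⁻¹ * α (x * t x)) = 1 := (hq1 _).2 (h2 α hα (x * t x) (h1 x))
      rw [map_mul, map_inv, inv_mul_eq_one] at h6
      exact h6.symm
    have h6 : f (x⁻¹ * α x) = 1 := by
      rw [map_mul, map_inv, h5, inv_mul_cancel]
    exact (hmR (x⁻¹ * α x)).2 h6

/-- Under the standing hypotheses, no proper subgroup contains `[S,S]` and `[S, Aut_F(S)]`. -/
theorem Hyp.no_split (H : Hyp p F) (hhyp : F.hyperfocalSubgroup p = S) {R : Subgroup Ω}
    (hRS : R ≤ S) (hne : R ≠ S) (hR : ⁅S, S⁆ ≤ R)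
    (hβ : ∀ β ∈ F.autGroup S, ∀ x : S, (x : Ω)⁻¹ * (β x : S) ∈ R) : False := by
  have hpp := hp.out
  apply hne
  refine le_antisymm hRS ?_
  rw [← hhyp]
  refine hyp_le_of_inv H.hS H.hF R hβ ?_
  intro Q hQ
  obtain ⟨k, hk, hke⟩ := H.card_le_four hQ
  have hfQ : Finite Q := finite_of_le hQ.1.1
  interval_cases k
  · -- order 1
    exfalso
    rw [pow_zero] at hke
    refine not_essential_of_flag H.hS H.hF (Q := Q) 0 (fun _ => ⊤) rfl ?_
      (fun i hi α hα x hx => Subgroup.mem_top _) (fun i hi => absurd hi (by omega)) hQ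
    exact (Subgroup.eq_bot_of_card_eq _ (by rw [Subgroup.card_top, hke]))
  · -- order p
    exfalso
    rw [pow_one] at hke
    refine not_essential_of_flag H.hS H.hF (Q := Q) 1 (fun i => if i = 0 then ⊤ else ⊥) rfl rfl
      ?_ ?_ hQ
    · intro i hi α hα x hx
      interval_cases i
      · exact Subgroup.mem_top _
      · have hx' : x ∈ (⊥ : Subgroup Q) := hx
        rw [Subgroup.mem_bot] at hx'
        rw [hx', map_one]
        exact Subgroup.one_mem _
    · intro i hi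
      interval_cases i
      right
      show (⊥ : Subgroup Q).relIndex ⊤ = p
      rw [Subgroup.relIndex_top_right, Subgroup.index_bot, hke]
  · -- order p²
    obtain ⟨-, h, hext, -⟩ := H.pearl hQ hke
    exact h.foc H.hS H.hF H.p2 hRS hR hβ bot_le hext
  · -- order p³
    by_cases hcomm : ∀ x ∈ Q, ∀ y ∈ Q, x * y = y * x
    · obtain ⟨C, h⟩ := H.exists_ab3 hQ hke hcomm
      exact h.sec.foc H.hS H.hF H.p2 hRS hR hβ bot_le (H.ab3_extTop h)
    · exact (H.three_nonab hQ hke hcomm).elim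
  · -- order p⁴
    have h := (H.four hQ hke).1
    exact h.foc H.hS H.hF H.p2 hRS hR hβ ((Subgroup.commutator_mono hQ.1.1 hQ.1.1).trans hR)
      (H.ext_four hQ hke)

end Cfsg.Agent.H785
end

-- part: H785/FifthI
section
/-!
# The end of the proof: `p = 3` (helper785)
-/

set_option autoImplicit false
set_option linter.unusedSectionVars false
set_option linter.unusedVariables false
set_option linter.style.haveILetI false

namespace Cfsg.Agent.H785

open Cfsg Cfsg.FusionSystem Cfsg.Agent.H802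
open scoped commutatorElement

variable {Ω : Type*} [Group Ω] {S : Subgroup Ω} {p : ℕ} [hp : Fact p.Prime] [Finite S]
  {F : FusionSystem S}

theorem three_sq {a : ℤ} (h : ¬ (3 : ℤ) ∣ a) : (3 : ℤ) ∣ a ^ 2 - 1 := by
  have h1 : a % 3 = 1 ∨ a % 3 = 2 := by omega
  rcases h1 with h1 | h1
  · obtain ⟨k, hk⟩ : ∃ k, a = 3 * k + 1 := ⟨a / 3, by omega⟩
    rw [hk]
    exact ⟨3 * k ^ 2 + 2 * k, by ring⟩
  · obtain ⟨k, hk⟩ : ∃ k, a = 3 * k + 2 := ⟨a / 3, by omega⟩
    rw [hk]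
    exact ⟨3 * k ^ 2 + 4 * k + 1, by ring⟩

/-- Maximal class: no torus inverting `S/Γ` for `p = 3`. -/
theorem Hyp.mc_false (H : Hyp p F) (hhyp : F.hyperfocalSubgroup p = S) (h3 : p = 3) (h : MC p S)
    {τ : MulAut S} (hτ : τ ∈ F.autGroup S) (hw : ∀ a, Wt τ S (gam S) a → (p : ℤ) ∣ a - -1) :
    False := by
  have hpp := hp.out
  have hfG : Finite (gam S) := finite_of_le gam_le
  have hf2 : Finite (z2 S) := finite_of_le z2_le
  have hf3 : Finite (z3 S) := finite_of_le z3_le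
  have hfZ : Finite (ZS S) := finite_of_le ZS_le
  have k1 : Nat.card (gam S) = p * Nat.card (z3 S) := by rw [h.cG, h.c3]; ring
  have k2 : Nat.card (z3 S) = p * Nat.card (z2 S) := by rw [h.c3, h.c2]; ring
  have k3 : Nat.card (z2 S) = p * Nat.card (ZS S) := by rw [h.c2, h.c1]; ring
  have k4 : Nat.card (ZS S) = p * Nat.card (⊥ : Subgroup Ω) := by
    rw [h.c1, Subgroup.card_bot, mul_one]
  have hSV : ⁅S, S⁆ ≤ z3 S := by
    rw [Subgroup.commutator_le]
    intro x hx y hy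
    exact comm_mem_of_card_sq nrm_z3 z3_le (by rw [h.card, h.c3]; ring) hx hy
  have hτ1 : Wt τ S (gam S) (-1) := by
    obtain ⟨a, b, e, ha, -⟩ := h.weights τ
    exact ha.congr gam_le nrm_gam h.card_S (hw a ha)
  obtain ⟨R, hRS, hne, hR, hβ⟩ := exists_split (F := F) H.hS H.p2 gam_le h.z3_le_gam
    (by
      intro heq
      have h1 := h.cG
      rw [← heq, h.c3] at h1
      exact absurd (Nat.pow_right_injective hpp.two_le h1) (by norm_num)) hSV
    (fun α hα x hx => charIn_z3 α x hx) hτ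
    (fun x => by
      have := hτ1 x x.2
      rwa [zpow_neg_one, inv_inv] at this)
    (fun α hα w hw => by
      obtain ⟨a, b, e, ha, hb, he, hba, hea, hna⟩ := h.weights α
      have h1 : (p : ℤ) ∣ b - 1 := by
        have h2 : (p : ℤ) ∣ a ^ 2 - 1 := by
          rw [h3] at hna ⊢
          exact three_sq hna
        have e1 : b - 1 = (b - a ^ 2) + (a ^ 2 - 1) := by ring
        rw [e1]
        exact dvd_add hba h2
      have h2 := hb.congr h.z3_le_gam (nrm_z3.mono gam_le) k1 h1 w hw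
      rwa [zpow_one] at h2)
    (fun α hα x => hSV (comm_inn H.hS H.hF 5
      (fun i => if i = 0 then S else if i = 1 then gam S else if i = 2 then z3 S else
        if i = 3 then z2 S else if i = 4 then ZS S else ⊥) rfl rfl
      (by
        intro i hi
        interval_cases i
        · exact le_rfl
        · exact gam_le
        · exact z3_le
        · exact z2_le
        · exact ZS_le
        · exact bot_le)
      (by
        intro i hi
        interval_cases i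
        · exact fun α x _ => (α x).2
        · exact charIn_gam
        · exact charIn_z3
        · exact charIn_z2
        · exact charIn_ZS S
        · exact fun α x hx => aut_bot α x hx)
      (by
        intro i hi
        interval_cases i
        · exact gam_le
        · exact h.z3_le_gam
        · exact z2_le_z3
        · exact ZS_le_z2
        · exact bot_le)
      (by
        intro i hi
        interval_cases i
        · exact h.card_S
        · exact k1
        · exact k2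
        · exact k3
        · exact k4) hα hτ x))
  exact H.no_split hhyp hRS hne hR hβ

/-- The groups of order `p⁵` met in the case of an abelian essential subgroup of order `p³`. -/
structure MB (p : ℕ) (S : Subgroup Ω) : Prop where
  pg : IsPGroup p S
  card : Nat.card S = p ^ 5
  c1 : Nat.card (ZS S) = p
  c2 : Nat.card (z2 S) = p ^ 3
  z2c : ∀ x ∈ z2 S, ∀ y ∈ z2 S, x * y = y * x
  cent : centralizerIn S (z2 S) ≤ z2 S
  ZD : ZS S ≤ ⁅S, S⁆

namespace MB

theorem D_le (h : MB p S) : ⁅S, S⁆ ≤ z2 S := by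
  rw [Subgroup.commutator_le]
  intro x hx y hy
  exact comm_mem_of_card_sq nrm_z2 z2_le (by rw [h.card, h.c2]; ring) hx hy

theorem cardD (h : MB p S) : Nat.card (⁅S, S⁆ : Subgroup Ω) = p ^ 2 := by
  have hpp := hp.out
  have hfZ : Finite (ZS S) := finite_of_le ZS_le
  have hn : ((ZS S).subgroupOf S).Normal := (nrm_ZS S).normal
  set N := (ZS S).subgroupOf S with hN
  have hcN : Nat.card N = p := by
    rw [← h.c1]
    exact Nat.card_congr (Subgroup.subgroupOfEquivOfLe ZS_le).toEquiv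
  set q := QuotientGroup.mk' N with hq
  have hq1 : ∀ z : S, q z = 1 ↔ (z : Ω) ∈ ZS S := fun z => QuotientGroup.eq_one_iff z
  have hsurj : Function.Surjective q := QuotientGroup.mk'_surjective N
  have hG : Nat.card (⊤ : Subgroup (S ⧸ N)) = p ^ 4 := by
    rw [Subgroup.card_top]
    have h1 := N.card_mul_index
    rw [hcN, h.card, pow_succ'] at h1
    exact Nat.eq_of_mul_eq_mul_left hpp.pos h1
  have hcen : (ZS (⊤ : Subgroup (S ⧸ N))).comap q = (z2 S).subgroupOf S := by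
    ext z
    rw [Subgroup.mem_comap, mem_ZS, Subgroup.mem_subgroupOf, z2, mem_up]
    constructor
    · rintro ⟨-, hz⟩
      refine ⟨z.2, fun x hx => ?_⟩
      have h1 := hz (q ⟨x, hx⟩) (Subgroup.mem_top _)
      have h2 : q ⁅z, ⟨x, hx⟩⁆ = 1 := by
        rw [map_commutatorElement, commutatorElement_eq_one_iff_mul_comm, h1]
      exact (hq1 _).1 h2
    · rintro ⟨-, hz⟩
      refine ⟨Subgroup.mem_top _, fun x _ => ?_⟩
      obtain ⟨y, rfl⟩ := hsurj x
      have h2 : q ⁅z, y⁆ = 1 := (hq1 _).2 (hz y y.2)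
      rw [map_commutatorElement, commutatorElement_eq_one_iff_mul_comm] at h2
      exact h2.symm
  have hZc : Nat.card (ZS (⊤ : Subgroup (S ⧸ N))) = p ^ 2 := by
    have h1 := card_comap_mk N (ZS (⊤ : Subgroup (S ⧸ N)))
    rw [← hq, hcen, hcN, Nat.card_congr (Subgroup.subgroupOfEquivOfLe z2_le).toEquiv, h.c2,
      pow_succ] at h1
    exact (Nat.eq_of_mul_eq_mul_right hpp.pos h1).symm
  obtain ⟨h1, -⟩ := fourth_commutator hG hZc
  let K : Subgroup S := ⁅(⊤ : Subgroup S), ⊤⁆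
  have h2 : (⁅(⊤ : Subgroup (S ⧸ N)), ⊤⁆ : Subgroup (S ⧸ N)) = K.map q := by
    show _ = Subgroup.map q ⁅(⊤ : Subgroup S), ⊤⁆
    rw [Subgroup.map_commutator, ← MonoidHom.range_eq_map, MonoidHom.range_eq_top.2 hsurj]
  have h4 : (⁅S, S⁆ : Subgroup Ω) = K.map S.subtype := by
    show _ = Subgroup.map S.subtype ⁅(⊤ : Subgroup S), ⊤⁆
    rw [Subgroup.map_commutator, ← MonoidHom.range_eq_map, Subgroup.range_subtype]
  have hNK : q.ker ≤ K := by
    intro z hz
    have hz' : (z : Ω) ∈ ZS S := (hq1 z).1 hz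
    have h3 := h.ZD hz'
    rw [h4] at h3
    obtain ⟨y, hy, hyz⟩ := h3
    have : y = z := Subtype.ext hyz
    rw [← this]
    exact hy
  have h3 : Nat.card ((⁅(⊤ : Subgroup (S ⧸ N)), ⊤⁆ : Subgroup (S ⧸ N)).comap q) = p * p := by
    rw [hq, card_comap_mk, h1, hcN]
  rw [h2, Subgroup.comap_map_eq, sup_eq_left.2 hNK] at h3
  rw [h4, sq, ← h3]
  exact (Nat.card_congr (K.equivMapOfInjective _ S.subtype_injective).toEquiv).symm

/-- The centralizer of the commutator subgroup. -/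
def bet (S : Subgroup Ω) : Subgroup Ω := centralizerIn S ⁅S, S⁆

theorem bet_le : bet S ≤ S := centralizerIn_le

theorem D_le_S {S : Subgroup Ω} : (⁅S, S⁆ : Subgroup Ω) ≤ S :=
  Subgroup.commutator_le.2 fun x hx y hy =>
    S.mul_mem (S.mul_mem (S.mul_mem hx hy) (S.inv_mem hx)) (S.inv_mem hy)

theorem nrmD (S : Subgroup Ω) : Nrm S ⁅S, S⁆ := (charIn_commutator S).nrm D_le_S

theorem nrm_bet : Nrm S (bet S) := nrm_centralizerIn (nrmD S)

theorem charIn_bet : CharIn S (bet S) := charIn_centralizerIn D_le_S (charIn_commutator S)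

theorem z2_le_bet (h : MB p S) : z2 S ≤ bet S := fun w hw =>
  mem_centralizerIn.2 ⟨z2_le hw, fun x hx => h.z2c x (h.D_le hx) w hw⟩

theorem exists_SD (h : MB p S) : ∃ x ∈ S, ∃ y ∈ ⁅S, S⁆, ⁅x, y⁆ ≠ 1 := by
  by_contra hcon
  push Not at hcon
  have hf : Finite (ZS S) := finite_of_le ZS_le
  have h1 : ⁅S, S⁆ ≤ ZS S := fun y hy => mem_ZS.2 ⟨D_le_S hy, fun x hx =>
    commutatorElement_eq_one_iff_mul_comm.1 (hcon x hx y hy)⟩
  have h2 : Nat.card (⁅S, S⁆ : Subgroup Ω) ≤ Nat.card (ZS S) := Nat.card_mono (Set.toFinite _) h1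
  rw [h.cardD, h.c1] at h2
  nlinarith [hp.out.one_lt]

theorem cB (h : MB p S) : Nat.card (bet S) = p ^ 4 := by
  have hpp := hp.out
  have hfD : Finite (⁅S, S⁆ : Subgroup Ω) := finite_of_le D_le_S
  refine le_antisymm (card_lt_of_ne h.card bet_le fun heq => ?_) ?_
  · obtain ⟨x, hx, y, hy, hxy⟩ := h.exists_SD
    apply hxy
    rw [commutatorElement_eq_one_iff_mul_comm]
    rw [← heq] at hx
    exact ((mem_centralizerIn.1 hx).2 y hy).symm
  · have h1 := card_le_centralizerIn h.pg (nrmD S) h.cardD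
    rw [h.card, pow_succ'] at h1
    exact Nat.le_of_mul_le_mul_left h1 hpp.pos

theorem kS (h : MB p S) : Nat.card S = p * Nat.card (bet S) := by rw [h.card, h.cB]; ring

theorem kB (h : MB p S) : Nat.card (bet S) = p * Nat.card (z2 S) := by rw [h.cB, h.c2]; ring

theorem k2 (h : MB p S) : Nat.card (z2 S) = p * Nat.card (⁅S, S⁆ : Subgroup Ω) := by
  rw [h.c2, h.cardD]; ring

theorem kD (h : MB p S) : Nat.card (⁅S, S⁆ : Subgroup Ω) = p * Nat.card (ZS S) := by
  rw [h.cardD, h.c1]; ring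

theorem kZ (h : MB p S) : Nat.card (ZS S) = p * Nat.card (⊥ : Subgroup Ω) := by
  rw [h.c1, Subgroup.card_bot, mul_one]

theorem lt_of_card {U V : Subgroup Ω} [Finite V] (hc : Nat.card U = p * Nat.card V)
    (h : U ≤ V) : False := by
  have h2 : Nat.card U ≤ Nat.card V := Nat.card_mono (Set.toFinite _) h
  rw [hc] at h2
  have h3 : 0 < Nat.card V := Nat.card_pos
  nlinarith [hp.out.one_lt]

/-- `Aut(S)` acts on `Z₂(S)/[S,S]` by squares. -/
theorem weights (h : MB p S) (α : MulAut S) : ∃ a c : ℤ, Wt α (z2 S) ⁅S, S⁆ c ∧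
    (p : ℤ) ∣ c - a ^ 2 ∧ ¬ (p : ℤ) ∣ a := by
  have hfB : Finite (bet S) := finite_of_le bet_le
  have hf2 : Finite (z2 S) := finite_of_le z2_le
  have hfD : Finite (⁅S, S⁆ : Subgroup Ω) := finite_of_le D_le_S
  have hfZ : Finite (ZS S) := finite_of_le ZS_le
  have nD2 : Nrm (z2 S) ⁅S, S⁆ := (nrmD S).mono z2_le
  have nZD : Nrm (⁅S, S⁆ : Subgroup Ω) (ZS S) := (nrm_ZS S).mono D_le_S
  obtain ⟨a, ha⟩ := exists_wt (τ := α) le_rfl bet_le nrm_bet h.kS (fun x _ => (α x).2)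
    (charIn_bet α)
  obtain ⟨b, hb⟩ := exists_wt (τ := α) bet_le h.z2_le_bet (nrm_z2.mono bet_le) h.kB (charIn_bet α)
    (charIn_z2 α)
  obtain ⟨c, hc⟩ := exists_wt (τ := α) z2_le h.D_le nD2 h.k2 (charIn_z2 α)
    (charIn_commutator S α)
  obtain ⟨f, hf⟩ := exists_wt (τ := α) D_le_S h.ZD nZD h.kD (charIn_commutator S α)
    (charIn_ZS S α)
  obtain ⟨g, hg⟩ := exists_wt (τ := α) ZS_le bot_le (nrm_bot _) h.kZ (charIn_ZS S α)
    (fun x hx => aut_bot α x hx)
  have hna := wt_not_dvd le_rfl bet_le nrm_bet h.kS charIn_bet ha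
  have hnb := wt_not_dvd bet_le h.z2_le_bet (nrm_z2.mono bet_le) h.kB charIn_z2 hb
  have one : ∀ {x y : Ω}, x * y = y * x → ⁅x, y⁆ ∈ (⊥ : Subgroup Ω) := fun h => by
    rw [Subgroup.mem_bot]
    exact commutatorElement_eq_one_iff_mul_comm.2 h
  have e2 : ∀ z ∈ z2 S, ∀ s ∈ S, ⁅z, s⁆ ∈ ZS S := fun z hz s hs => (mem_up.1 hz).2 s hs
  have e2' : ∀ s ∈ S, ∀ z ∈ z2 S, ⁅s, z⁆ ∈ ZS S := fun s hs z hz => comm_mem_symm (e2 z hz s hs)
  have e1 : ∀ z ∈ ZS S, ∀ s ∈ S, ⁅z, s⁆ ∈ (⊥ : Subgroup Ω) := fun z hz s hs =>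
    one ((mem_ZS.1 hz).2 s hs).symm
  have e1' : ∀ s ∈ S, ∀ z ∈ ZS S, ⁅s, z⁆ ∈ (⊥ : Subgroup Ω) := fun s hs z hz =>
    one ((mem_ZS.1 hz).2 s hs)
  have eB : ∀ u ∈ bet S, ∀ y ∈ ⁅S, S⁆, ⁅u, y⁆ ∈ (⊥ : Subgroup Ω) := fun u hu y hy =>
    one ((mem_centralizerIn.1 hu).2 y hy).symm
  -- `[B,B] ≤ Z`
  have eBB : ∀ u ∈ bet S, ∀ y ∈ bet S, ⁅u, y⁆ ∈ ZS S := by
    obtain ⟨b₀, hb₀, hb₀'⟩ : ∃ b ∈ bet S, b ∉ z2 S := by
      by_contra hcon
      push Not at hcon
      exact lt_of_card h.kB hcon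
    intro u hu y hy
    obtain ⟨i, hi⟩ := exists_zpow_mod h.z2_le_bet (nrm_z2.mono bet_le) h.kB hb₀ hb₀' hu
    obtain ⟨j, hj⟩ := exists_zpow_mod h.z2_le_bet (nrm_z2.mono bet_le) h.kB hb₀ hb₀' hy
    have hn : ((ZS S).subgroupOf S).Normal := (nrm_ZS S).normal
    set q := QuotientGroup.mk' ((ZS S).subgroupOf S) with hq
    have hq1 : ∀ z : S, q z = 1 ↔ (z : Ω) ∈ ZS S := fun z => QuotientGroup.eq_one_iff z
    set B₀ : S := ⟨b₀, bet_le hb₀⟩ with hB₀
    set U : S := ⟨u, bet_le hu⟩ with hU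
    set Y : S := ⟨y, bet_le hy⟩ with hY
    set u' : S := (B₀ ^ i)⁻¹ * U with hu'
    set y' : S := (B₀ ^ j)⁻¹ * Y with hy'
    have hu2 : (u' : Ω) ∈ z2 S := hi
    have hy2 : (y' : Ω) ∈ z2 S := hj
    have hcom : ∀ z w : S, ⁅(z : Ω), (w : Ω)⁆ ∈ ZS S → Commute (q z) (q w) := by
      intro z w h
      rw [← commutatorElement_eq_one_iff_commute, ← map_commutatorElement, hq1]
      exact h
    have eU : U = B₀ ^ i * u' := by rw [hu']; group
    have eY : Y = B₀ ^ j * y' := by rw [hy']; group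
    clear_value u' y'
    have c1 : Commute (q U) (q Y) := by
      rw [eU, eY, map_mul, map_mul, map_zpow, map_zpow]
      have d1 : Commute (q B₀) (q y') := hcom _ _ (e2' _ B₀.2 _ hy2)
      have d2 : Commute (q u') (q B₀) := hcom _ _ (e2 _ hu2 _ B₀.2)
      have d3 : Commute (q u') (q y') := hcom _ _ (e2 _ hu2 _ y'.2)
      exact (((Commute.refl (q B₀)).zpow_zpow i j).mul_right (d1.zpow_left i)).mul_left
        ((d2.zpow_right j).mul_right d3)
    rw [← commutatorElement_eq_one_iff_commute, ← map_commutatorElement, hq1] at c1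
    exact c1
  -- the three rules
  have R1 : (p : ℤ) ∣ a * b - f := by
    obtain ⟨x, hx, y, hy, hxy⟩ : ∃ x ∈ S, ∃ y ∈ bet S, ⁅x, y⁆ ∉ ZS S := by
      by_contra hcon
      push Not at hcon
      exact lt_of_card h.kB fun y hy => mem_up.2 ⟨bet_le hy, fun s hs =>
        comm_mem_symm (hcon s hs y hy)⟩
    exact Wt.rule (nrm_ZS S) ha hb hf le_rfl bet_le h.z2_le_bet eBB e2'
      (fun z hz s hs => e2 z (h.D_le hz) s hs) (fun z hz => pow_mem_of_card nZD h.ZD h.kD hz)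
      hx hy (Subgroup.commutator_mem_commutator hx (bet_le hy)) hxy
  have R2 : (p : ℤ) ∣ a * f - g := by
    obtain ⟨x, hx, y, hy, hxy⟩ := h.exists_SD
    exact Wt.rule (nrm_bot S) ha hf hg le_rfl D_le_S h.ZD eB e1' e1
      (fun z hz => pow_mem_of_card (nrm_bot _) bot_le h.kZ hz) hx hy (e2' x hx y (h.D_le hy))
      (by rw [Subgroup.mem_bot]; exact hxy)
  have R3 : (p : ℤ) ∣ b * c - g := by
    obtain ⟨x, hx, y, hy, hxy⟩ : ∃ x ∈ bet S, ∃ y ∈ z2 S, ⁅x, y⁆ ≠ 1 := by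
      by_contra hcon
      push Not at hcon
      exact lt_of_card h.kB fun x hx => h.cent (mem_centralizerIn.2 ⟨bet_le hx, fun y hy =>
        (commutatorElement_eq_one_iff_mul_comm.1 (hcon x hx y hy)).symm⟩)
    exact Wt.rule (nrm_bot S) hb hc hg bet_le z2_le h.D_le
      (fun u hu y hy => one (h.z2c u hu y hy)) eB e1
      (fun z hz => pow_mem_of_card (nrm_bot _) bot_le h.kZ hz) hx hy (e2' x (bet_le hx) y hy)
      (by rw [Subgroup.mem_bot]; exact hxy)
  refine ⟨a, c, hc, ?_, hna⟩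
  have hpz : Prime (p : ℤ) := Nat.prime_iff_prime_int.1 hp.out
  have h1 : (p : ℤ) ∣ b * (c - a ^ 2) := by
    have e1 : b * (c - a ^ 2) = (b * c - g) - (a * f - g) - a * (a * b - f) := by ring
    rw [e1]
    exact dvd_sub (dvd_sub R3 R2) (Dvd.dvd.mul_left R1 _)
  exact (hpz.dvd_or_dvd h1).resolve_left hnb

end MB

/-- An automorphism inverting `S/N` and `N/U`, where `S/U` is abelian, has a cube inverting
`S/U`. -/
theorem cube_inv {N U : Subgroup Ω} (hU : Nrm S U) (hSU : ∀ x ∈ S, ∀ y ∈ S, ⁅x, y⁆ ∈ U)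
    (hUS : U ≤ S) (h3 : ∀ x ∈ N, x ^ 3 ∈ U) {τ : MulAut S} (hτU : CharIn S U)
    (h1 : Wt τ S N (-1)) (h2 : Wt τ N U (-1)) (x : S) : (x : Ω) * ((τ ^ 3) x : S) ∈ U := by
  have hn : (U.subgroupOf S).Normal := hU.normal
  set q := QuotientGroup.mk' (U.subgroupOf S) with hq
  have hq1 : ∀ z : S, q z = 1 ↔ (z : Ω) ∈ U := fun z => QuotientGroup.eq_one_iff z
  have hcomm : ∀ x y : S, Commute (q x) (q y) := by
    intro x y
    rw [← commutatorElement_eq_one_iff_commute, ← map_commutatorElement, hq1]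
    exact hSU x x.2 y y.2
  obtain ⟨n, hn'⟩ : ∃ n : S, n = x * τ x := ⟨_, rfl⟩
  have hnN : (n : Ω) ∈ N := by
    have := h1 x x.2
    rw [zpow_neg_one, inv_inv] at this
    rw [hn']
    exact this
  have hinv : ∀ m : S, (m : Ω) ∈ N → q (τ m) = (q m)⁻¹ := by
    intro m hm
    have h4 := h2 m hm
    rw [zpow_neg_one, inv_inv] at h4
    have h5 : q (m * τ m) = 1 := (hq1 _).2 h4
    rw [map_mul] at h5
    exact (eq_inv_of_mul_eq_one_right h5)
  have hq2 : ∀ m m' : S, q m = q m' → q (τ m) = q (τ m') := by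
    intro m m' h
    have h5 : q (m⁻¹ * m') = 1 := by rw [map_mul, map_inv, h, inv_mul_cancel]
    have h6 : q (τ (m⁻¹ * m')) = 1 := (hq1 _).2 (hτU τ _ ((hq1 _).1 h5))
    rw [map_mul, map_inv, map_mul, map_inv, inv_mul_eq_one] at h6
    exact h6
  -- q(τ x) = q(x)⁻¹ q(n)
  have s1 : q (τ x) = q (x⁻¹ * n) := by rw [hn']; congr 1; group
  have s2 : q (τ (τ x)) = q (x * n⁻¹ * n⁻¹) := by
    rw [hq2 _ _ s1, map_mul τ, map_inv τ, map_mul q, map_inv q, hinv n hnN, s1, map_mul, map_mul,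
      map_mul, map_inv, map_inv, mul_inv_rev, inv_inv]
    have := (hcomm n x)
    rw [(this.inv_left).eq]
  have s3 : q (τ (τ (τ x))) = q (x⁻¹ * n * n * n) := by
    rw [hq2 _ _ s2, map_mul τ, map_mul τ, map_inv τ, map_mul q, map_mul q, map_inv q, hinv n hnN,
      s1, map_mul q, map_inv q, inv_inv, map_mul, map_mul, map_mul, map_inv]
  have s4 : q (x * (τ ^ 3) x) = q (n ^ 3) := by
    have e : (τ ^ 3) x = τ (τ (τ x)) := by
      rw [pow_succ, pow_succ, pow_one, MulAut.mul_apply, MulAut.mul_apply]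
    rw [e, map_mul, s3, ← map_mul]
    congr 1
    rw [pow_succ, pow_succ, pow_one]
    group
  have s5 : q (n ^ 3) = 1 := (hq1 _).2 (h3 _ hnN)
  rw [s5] at s4
  exact (hq1 _).1 s4

end Cfsg.Agent.H785
end

-- part: H785/FifthJ
section
/-!
# The end of the proof (helper785)
-/

set_option autoImplicit false
set_option linter.unusedSectionVars false
set_option linter.unusedVariables false
set_option linter.style.haveILetI false

namespace Cfsg.Agent.H785

open Cfsg Cfsg.FusionSystem Cfsg.Agent.H802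
open scoped commutatorElement

variable {Ω : Type*} [Group Ω] {S : Subgroup Ω} {p : ℕ} [hp : Fact p.Prime] [Finite S]
  {F : FusionSystem S}

/-- No abelian essential subgroup of order `p³`. -/
theorem Hyp.ab3_false (H : Hyp p F) (hhyp : F.hyperfocalSubgroup p = S) {A C : Subgroup Ω}
    (h : Ab3 p F A C) : False := by
  have hpp := hp.out
  obtain ⟨A₀, hN⟩ := H.exists_ns h
  obtain ⟨h3, hstar, ⟨x₀, hx₀, y₀, hy₀, hxy₀⟩, τ, hτ, w1, w2⟩ := H.ab3_facts h hN
  have hAS := h.ess.1.1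
  have hNS : normalizerIn S A ≤ S := inf_le_left
  have hAN : A ≤ normalizerIn S A := le_normalizerIn hAS
  have hA₀S : A₀ ≤ S := hN.A₀N.trans hNS
  have hWS : ZS (normalizerIn S A) ≤ S := ZS_le.trans hNS
  have hDS := hN.DW.trans hWS
  have hfA : Finite A := finite_of_le hAS
  have hfN : Finite (normalizerIn S A) := finite_of_le hNS
  have hfA₀ : Finite A₀ := finite_of_le hA₀S
  have hfW : Finite (ZS (normalizerIn S A)) := finite_of_le hWS
  have hfZ : Finite (ZS S) := finite_of_le ZS_le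
  have hcA₀ : Nat.card A₀ = p ^ 3 := by rw [hN.cA₀, h.cW]; ring
  -- the centre
  have hZW : ZS S ≤ ZS (normalizerIn S A) :=
    Hyp.ZS_le_of_centric (isCentric_of_le h.ess.1 hAN hNS)
  have hZne : ZS S ≠ ZS (normalizerIn S A) := by
    intro heq
    rw [← heq] at hy₀
    exact hxy₀ (commutatorElement_eq_one_iff_mul_comm.2 ((mem_ZS.1 hy₀).2 x₀ hx₀))
  have hZc := card_lt_of_ne (n := 1) h.cW hZW hZne
  rw [pow_one] at hZc
  have hDZ := central_of_card H.hS hN.nD hDS hN.cD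
  have hZ : (⁅normalizerIn S A, normalizerIn S A⁆ : Subgroup Ω) = ZS S :=
    Subgroup.eq_of_le_of_card_ge hDZ (by rw [hN.cD]; exact hZc)
  -- the second centre
  have hz2 : z2 S = A₀ := by
    apply le_antisymm
    · intro z hz
      have hz' := mem_up.1 hz
      refine (hN.mA₀ z).2 ⟨mem_normalizerIn_of_comm hAS hz'.1 fun x hx => ?_, fun s hs =>
        hZW (hz'.2 s hs)⟩
      exact h.center_le (hZW (hz'.2 x (hAS hx)))
    · intro y hy
      refine mem_up.2 ⟨hA₀S hy, fun s hs => ?_⟩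
      rw [← hZ]
      exact comm_mem_symm (hstar s hs y hy)
  have hMB : MB p S := by
    refine ⟨H.hS, H.card, by rw [← hZ]; exact hN.cD, by rw [hz2]; exact hcA₀, ?_, ?_, ?_⟩
    · rw [hz2]
      exact fun x hx y hy => hN.comm_A₀ hx hy
    · rw [hz2]
      exact H.cent_three hA₀S hcA₀ (fun x hx y hy => hN.comm_A₀ hx hy)
    · rw [← hZ]
      exact Subgroup.commutator_mono hNS hNS
  have hfB : Finite (MB.bet S) := finite_of_le MB.bet_le
  have hf2 : Finite (z2 S) := finite_of_le z2_le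
  have hfD : Finite (⁅S, S⁆ : Subgroup Ω) := finite_of_le MB.D_le_S
  have hSz : ∀ x ∈ S, ∀ y ∈ S, ⁅x, y⁆ ∈ z2 S := fun x hx y hy =>
    comm_mem_of_card_sq nrm_z2 z2_le (by rw [H.card, hMB.c2]; ring) hx hy
  have hcube : ∀ x ∈ normalizerIn S A, x ^ 3 ∈ z2 S := by
    intro x hx
    have h1 : Nat.card (normalizerIn S A) = p * Nat.card (z2 S) := by rw [hz2]; exact hN.cN
    have h2 := pow_mem_of_card (nrm_z2.mono hNS) (by rw [hz2]; exact hN.A₀N) h1 hx
    rwa [h3] at h2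
  obtain ⟨R, hRS, hne, hR, hβ⟩ := exists_split (F := F) H.hS H.p2 z2_le hMB.D_le
    (by
      intro heq
      have h1 := hMB.c2
      rw [← heq, hMB.cardD] at h1
      exact absurd (Nat.pow_right_injective hpp.two_le h1) (by norm_num)) le_rfl
    (fun α hα x hx => charIn_commutator S α x hx) (pow_mem hτ 3)
    (fun x => cube_inv nrm_z2 hSz z2_le hcube charIn_z2 w1 (by rw [hz2]; exact w2) x)
    (fun α hα w hw => by
      obtain ⟨a, c, hc, hca, hna⟩ := hMB.weights α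
      have h1 : (p : ℤ) ∣ c - 1 := by
        have h2 : (p : ℤ) ∣ a ^ 2 - 1 := by
          rw [h3] at hna ⊢
          exact three_sq hna
        have e1 : c - 1 = (c - a ^ 2) + (a ^ 2 - 1) := by ring
        rw [e1]
        exact dvd_add hca h2
      have h2 := hc.congr hMB.D_le ((MB.nrmD S).mono z2_le) hMB.k2 h1 w hw
      rwa [zpow_one] at h2)
    (fun α hα x => comm_inn H.hS H.hF 5
      (fun i => if i = 0 then S else if i = 1 then MB.bet S else if i = 2 then z2 S else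
        if i = 3 then ⁅S, S⁆ else if i = 4 then ZS S else ⊥) rfl rfl
      (by
        intro i hi
        interval_cases i
        · exact le_rfl
        · exact MB.bet_le
        · exact z2_le
        · exact MB.D_le_S
        · exact ZS_le
        · exact bot_le)
      (by
        intro i hi
        interval_cases i
        · exact fun α x _ => (α x).2
        · exact MB.charIn_bet
        · exact charIn_z2
        · exact charIn_commutator S
        · exact charIn_ZS S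
        · exact fun α x hx => aut_bot α x hx)
      (by
        intro i hi
        interval_cases i
        · exact MB.bet_le
        · exact hMB.z2_le_bet
        · exact hMB.D_le
        · exact hMB.ZD
        · exact bot_le)
      (by
        intro i hi
        interval_cases i
        · exact hMB.kS
        · exact hMB.kB
        · exact hMB.k2
        · exact hMB.kD
        · exact hMB.kZ) hα (pow_mem hτ 3) x)
  exact H.no_split hhyp hRS hne hR hβ

/-- Essential subgroups have order at least `p²`. -/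
theorem Hyp.two_le (H : Hyp p F) {Q : Subgroup Ω} (hQ : F.IsEssential p Q) :
    ∃ k, 2 ≤ k ∧ k ≤ 4 ∧ Nat.card Q = p ^ k := by
  obtain ⟨k, hk, hke⟩ := H.card_le_four hQ
  refine ⟨k, ?_, hk, hke⟩
  have hfQ : Finite Q := finite_of_le hQ.1.1
  by_contra hcon
  have hk2 : k < 2 := by omega
  interval_cases k
  · rw [pow_zero] at hke
    refine not_essential_of_flag H.hS H.hF (Q := Q) 0 (fun _ => ⊤) rfl ?_
      (fun i hi α hα x hx => Subgroup.mem_top _) (fun i hi => absurd hi (by omega)) hQ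
    exact (Subgroup.eq_bot_of_card_eq _ (by rw [Subgroup.card_top, hke]))
  · rw [pow_one] at hke
    refine not_essential_of_flag H.hS H.hF (Q := Q) 1 (fun i => if i = 0 then ⊤ else ⊥) rfl rfl
      ?_ ?_ hQ
    · intro i hi α hα x hx
      interval_cases i
      · exact Subgroup.mem_top _
      · have hx' : x ∈ (⊥ : Subgroup Q) := hx
        rw [Subgroup.mem_bot] at hx'
        rw [hx', map_one]
        exact Subgroup.one_mem _
    · intro i hi
      interval_cases i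
      right
      show (⊥ : Subgroup Q).relIndex ⊤ = p
      rw [Subgroup.relIndex_top_right, Subgroup.index_bot, hke]

theorem Hyp.false_of (H : Hyp p F) (hhyp : F.hyperfocalSubgroup p = S) (hp7 : p ≠ 7) : False := by
  have hpp := hp.out
  obtain ⟨Q, hQ, hQc⟩ := H.exists_small
  obtain ⟨k, hk2, hk, hke⟩ := H.two_le hQ
  interval_cases k
  · have h3 := H.pearl_prime hQ hke hp7
    obtain ⟨hMC, -, -, htor⟩ := H.pearl hQ hke
    obtain ⟨τ, hτ, h1, -⟩ := htor (-1) (-1) (by simp)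
    exact H.mc_false hhyp h3 hMC hτ h1
  · by_cases hcomm : ∀ x ∈ Q, ∀ y ∈ Q, x * y = y * x
    · obtain ⟨C, h⟩ := H.exists_ab3 hQ hke hcomm
      exact H.ab3_false hhyp h
    · exact H.three_nonab hQ hke hcomm
  · rw [hke] at hQc
    exact absurd ((Nat.pow_le_pow_iff_right hpp.one_lt).1 hQc) (by norm_num)

/-- **Main theorem.** -/
theorem exists_abelian_of_fifth (hS : IsPGroup p S) (hF : F.IsSaturated p) (hp2 : p ≠ 2)
    (hp7 : p ≠ 7) (hcard : Nat.card S = p ^ 5) (hcore : F.core = ⊥)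
    (hhyp : F.hyperfocalSubgroup p = S) :
    ∃ A : Subgroup Ω, A ≤ S ∧ IsMulCommutative A ∧ (A.subgroupOf S).index = p := by
  have hpp := hp.out
  by_contra hcon
  push Not at hcon
  have key : ∀ A : Subgroup Ω, A ≤ S → (∀ x ∈ A, ∀ y ∈ A, x * y = y * x) →
      Nat.card A ≠ p ^ 4 := by
    intro A hA hcomm hc
    refine hcon A hA ⟨⟨fun x y => Subtype.ext (hcomm x x.2 y y.2)⟩⟩ ?_
    have h1 := (A.subgroupOf S).card_mul_index
    rw [Nat.card_congr (Subgroup.subgroupOfEquivOfLe hA).toEquiv, hc, hcard, pow_succ] at h1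
    exact Nat.eq_of_mul_eq_mul_left (pow_pos hpp.pos 4) h1
  refine Hyp.false_of (F := F) ⟨hS, hF, hp2, hcard, hcore, ?_⟩ hhyp hp7
  intro A hA hcomm
  by_contra hlt
  push Not at hlt
  have hfA : Finite A := finite_of_le hA
  have h1 := Subgroup.card_dvd_of_le hA
  rw [hcard] at h1
  obtain ⟨k, hk, hke⟩ := (Nat.dvd_prime_pow hpp).1 h1
  have h2 : p ^ 4 ∣ Nat.card A := by
    rw [hke] at hlt ⊢
    exact pow_dvd_pow p ((Nat.pow_le_pow_iff_right hpp.one_lt).1 hlt)
  obtain ⟨K, hK⟩ := Sylow.exists_subgroup_card_pow_prime p h2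
  refine key (K.map A.subtype) ?_ ?_ ?_
  · rintro _ ⟨x, -, rfl⟩
    exact hA x.2
  · rintro _ ⟨x, -, rfl⟩ _ ⟨y, -, rfl⟩
    exact hcomm x x.2 y y.2
  · rw [← hK]
    exact (Nat.card_congr (K.equivMapOfInjective _ A.subtype_injective).toEquiv).symm

end Cfsg.Agent.H785
end

-- part: S5264
section
set_option autoImplicit false
open Cfsg

namespace Cfsg.Agent.S5264

/-- Let p be an odd prime other than 7, S a finite p-group of order p^5, and F a saturated fusion system over S with no nontrivial normal subgroup and with hyperfocal subgroup equal to S (so F is its own p-residual subsystem). Then S has an abelian subgroup of index p. -/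
theorem result {Ω : Type*} [Group Ω] {S : Subgroup Ω} [Finite S] (p : ℕ) [Fact p.Prime] (hS : IsPGroup p ↥S) (F : Cfsg.FusionSystem S) (hF : F.IsSaturated p) (hp : p ≠ 2) (hp7 : p ≠ 7) (hcard : Nat.card S = p ^ 5) (hcore : F.core = ⊥) (hhyp : F.hyperfocalSubgroup p = S) : ∃ A : Subgroup Ω, A ≤ S ∧ IsMulCommutative ↥A ∧ (A.subgroupOf S).index = p :=
  Cfsg.Agent.H785.exists_abelian_of_fifth hS hF hp hp7 hcard hcore hhyp

end Cfsg.Agent.S5264
end
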