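import Cfsg.Statements.S5270
import Cfsg.Agent.H802.FusEss
import Cfsg.Agent.H787.MaxC
set_option linter.all false

set_option autoImplicit false
open Cfsg

namespace Cfsg.Agent.S5270

open Cfsg.FusionSystem Cfsg.Agent.H802

/-- The same with names for the second centre and the centre. -/
theorem aux {Ω : Type*} [Group Ω] {S : Subgroup Ω} [Finite S] (p : ℕ) [Fact p.Prime] (hS : IsPGroup p ↥S)
    (n : ℕ) (hn : Nat.card S = p ^ n) (h4 : 4 ≤ n) (hmax : Subgroup.lowerCentralSeries S (n - 2) ≠ ⊥)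
    (F : Cfsg.FusionSystem S) (hF : F.IsSaturated p) (Z₂ Z : Subgroup Ω)
    (hZ₂ : Z₂ = (Subgroup.upperCentralSeries ↥S 2).map S.subtype)
    (hZ : Z = (Subgroup.center ↥S).map S.subtype) (φ : ↥Z₂ →* Ω) (hφ : φ ∈ F.Hom Z₂)
    (hφZ : φ.range = Z₂) (hmove : ∃ (z : Ω) (hz : z ∈ Z₂), z ∈ Z ∧ φ ⟨z, hz⟩ ∉ Z) :
    F.IsEssential p (S ⊓ Subgroup.centralizer (Z₂ : Set Ω)) := by
  have hc := Cfsg.Agent.H787.nilpotencyClass_eq hn h4 hmax
  set C : Subgroup Ω := S ⊓ Subgroup.centralizer (Z₂ : Set Ω) with hC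
  have hZ₂S : Z₂ ≤ S := hZ₂ ▸ Subgroup.map_subtype_le _
  have hZS : Z ≤ S := hZ ▸ Subgroup.map_subtype_le _
  have hCS : C ≤ S := inf_le_left
  have hCC : C = centralizerIn S Z₂ := rfl
  have hZ₂mem : ∀ x : Ω, x ∈ Z₂ ↔ ∃ y : S, y ∈ Subgroup.upperCentralSeries S 2 ∧ (y : Ω) = x := by
    intro x
    rw [hZ₂]
    exact Iff.rfl
  have hZmem0 : ∀ x : Ω, x ∈ Z ↔ ∃ y : S, y ∈ Subgroup.center S ∧ (y : Ω) = x := by
    intro x
    rw [hZ]
    exact Iff.rfl
  have hZcomm : ∀ z ∈ Z, ∀ s ∈ S, s * z = z * s := by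
    intro z' hz' s hs
    obtain ⟨z, hz, rfl⟩ := (hZmem0 z').1 hz'
    exact congrArg Subtype.val (Subgroup.mem_center_iff.1 hz ⟨s, hs⟩)
  have hZmem : ∀ z ∈ S, (∀ s ∈ S, s * z = z * s) → z ∈ Z := by
    intro z hz h
    exact (hZmem0 z).2 ⟨⟨z, hz⟩, Subgroup.mem_center_iff.2 (fun s => Subtype.ext (h s s.2)), rfl⟩
  have hZ₂comm : ∀ x ∈ Z₂, ∀ y ∈ Z₂, x * y = y * x := by
    intro x' hx' y' hy'
    obtain ⟨x, hx, rfl⟩ := (hZ₂mem x').1 hx'
    obtain ⟨y, hy, rfl⟩ := (hZ₂mem y').1 hy'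
    exact congrArg Subtype.val (Cfsg.Agent.H787.ucs_two_comm hn hc h4 x hx y hy)
  have hZ₂C : Z₂ ≤ C := fun x hx => ⟨hZ₂S hx, Subgroup.mem_centralizer_iff.2 fun y hy => hZ₂comm y hy x hx⟩
  -- `Z₂` is normal in `S`
  have hZ₂n : S ≤ Subgroup.normalizer (Z₂ : Set Ω) := by
    have hn2 : (Subgroup.upperCentralSeries S 2).Normal := inferInstance
    have hstep : ∀ s ∈ S, ∀ x ∈ Z₂, s * x * s⁻¹ ∈ Z₂ := by
      intro s hs x' hx'
      obtain ⟨x, hx, rfl⟩ := (hZ₂mem x').1 hx'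
      have h1 := hn2.conj_mem x hx ⟨s, hs⟩
      exact (hZ₂mem _).2 ⟨_, h1, rfl⟩
    intro s hs
    rw [Subgroup.mem_normalizer_iff]
    intro x
    refine ⟨hstep s hs x, fun hx => ?_⟩
    have := hstep s⁻¹ (S.inv_mem hs) _ hx
    simpa [mul_assoc] using this
  have hCn : S ≤ Subgroup.normalizer (C : Set Ω) := by
    have hstep : ∀ s ∈ S, ∀ x ∈ C, s * x * s⁻¹ ∈ C := by
      rintro s hs x hx
      refine ⟨S.mul_mem (S.mul_mem hs hx.1) (S.inv_mem hs), Subgroup.mem_centralizer_iff.2 fun y hy => ?_⟩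
      have h1 : s⁻¹ * y * s ∈ Z₂ := by
        have := (Subgroup.mem_normalizer_iff.1 (hZ₂n (S.inv_mem hs)) y).1 hy
        simpa using this
      have h2 := Subgroup.mem_centralizer_iff.1 hx.2 _ h1
      calc y * (s * x * s⁻¹) = s * ((s⁻¹ * y * s) * x) * s⁻¹ := by group
        _ = s * (x * (s⁻¹ * y * s)) * s⁻¹ := by rw [h2]
        _ = s * x * s⁻¹ * y := by group
    intro s hs
    rw [Subgroup.mem_normalizer_iff]
    intro x
    refine ⟨hstep s hs x, fun hx => ?_⟩
    have := hstep s⁻¹ (S.inv_mem hs) _ hx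
    simpa [mul_assoc] using this
  -- normal subgroups are fully normalized
  have hfn : ∀ Q : Subgroup Ω, Q ≤ S → S ≤ Subgroup.normalizer (Q : Set Ω) → F.IsFullyNormalized Q := by
    intro Q hQ hQn
    refine ⟨hQ, fun R _ => ?_⟩
    have h1 : normalizerIn S Q = S := le_antisymm inf_le_left (le_inf le_rfl hQn)
    rw [h1]
    exact Nat.card_mono (Set.toFinite (S : Set Ω)) inf_le_left
  -- the index of `C`
  have hidx : C.relIndex S = p := by
    have h1 : C.subgroupOf S = Subgroup.centralizer (Subgroup.upperCentralSeries S 2 : Set S) := by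
      ext x
      rw [Subgroup.mem_subgroupOf]
      constructor
      · intro hx
        rw [Subgroup.mem_centralizer_iff]
        intro y hy
        exact Subtype.ext (Subgroup.mem_centralizer_iff.1 hx.2 y ((hZ₂mem y).2 ⟨y, hy, rfl⟩))
      · intro hx
        refine ⟨x.2, Subgroup.mem_centralizer_iff.2 ?_⟩
        intro y' hy'
        obtain ⟨y, hy, rfl⟩ := (hZ₂mem y').1 hy'
        exact congrArg Subtype.val (Subgroup.mem_centralizer_iff.1 hx y hy)
    rw [Subgroup.relIndex, h1]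
    exact Cfsg.Agent.H787.index_centralizer_ucs_two hn hc h4
  have hpp : p.Prime := Fact.out
  have hbig : ∀ R : Subgroup Ω, R ≤ S → C ≤ R → Nat.card C < Nat.card R → R = S := by
    intro R hRS hCR hcard
    have h1 := Subgroup.relIndex_mul_relIndex C R S hCR hRS
    rw [hidx] at h1
    have h2 : C.relIndex R ∣ p := ⟨_, h1.symm⟩
    rcases (Nat.dvd_prime hpp).1 h2 with h3 | h3
    · exfalso
      have h4 : R ≤ C := Subgroup.relIndex_eq_one.1 h3
      have hfin : Finite C := finite_of_le hCS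
      exact absurd (Nat.card_mono (Set.toFinite (C : Set Ω)) h4) (not_le.2 hcard)
    · rw [h3] at h1
      have h5 : R.relIndex S = 1 := by
        have := Nat.eq_of_mul_eq_mul_left hpp.pos (h1.trans (mul_one p).symm)
        exact this
      exact le_antisymm hRS (Subgroup.relIndex_eq_one.1 h5)
  have hCne : C ≠ S := by
    intro h
    rw [h, Subgroup.relIndex_self] at hidx
    exact hpp.one_lt.ne hidx
  have hfnC := hfn C hCS hCn
  have hcenC : centralizerIn S C ≤ C := by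
    intro x hx
    refine ⟨hx.1, Subgroup.mem_centralizer_iff.2 fun y hy => ?_⟩
    exact Subgroup.mem_centralizer_iff.1 hx.2 y (hZ₂C hy)
  have hcentric : F.IsCentric C :=
    isCentric_of_isFullyCentralized (isFullyCentralized_of_isFullyNormalized hS hF hfnC) hcenC
  -- the subgroup of automorphisms of `C` preserving `Z`
  let D : Subgroup (MulAut C) :=
    { carrier := {α | ∀ x : C, (x : Ω) ∈ Z ↔ ((α x : C) : Ω) ∈ Z}
      one_mem' := fun x => Iff.rfl
      mul_mem' := by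
        intro a b ha hb x
        rw [MulAut.mul_apply]
        exact (hb x).trans (ha (b x))
      inv_mem' := by
        intro a ha x
        have h1 := ha (a⁻¹ x)
        have h2 : a (a⁻¹ x) = x := a.apply_symm_apply x
        rw [h2] at h1
        exact h1.symm }
  have hDmem : ∀ α : MulAut C, α ∈ D ↔ ∀ x : C, (x : Ω) ∈ Z ↔ ((α x : C) : Ω) ∈ Z := fun α => Iff.rfl
  refine isEssential_of_not_le hS hF hfnC hcentric hCne D ?_ ?_
  · rintro α hα ⟨R, hCR, hcard, ψ, hψ, hψe⟩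
    have hRS : R = S := hbig R (hom_le hψ) hCR hcard
    subst hRS
    rw [hDmem]
    have hψr : ψ.range = R := range_eq_of_mapsTo hψ (fun x => hom_apply_mem hψ x)
    intro x
    rw [← hψe x]
    constructor
    · intro hx
      refine hZmem _ (hom_apply_mem hψ _) ?_
      intro s hs
      rw [← hψr] at hs
      obtain ⟨t, rfl⟩ := hs
      rw [← map_mul, ← map_mul]
      congr 1
      exact Subtype.ext (hZcomm x hx t t.2)
    · intro hx
      refine hZmem _ (hCS x.2) ?_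
      intro s hs
      have h1 := hZcomm _ hx (ψ ⟨s, hs⟩) (hom_apply_mem hψ _)
      rw [← map_mul, ← map_mul] at h1
      exact congrArg Subtype.val (F.injective_of_mem hψ h1)
  · -- the given map extends to `C`
    intro hle
    have hrec := isReceptive_of_isFullyNormalized hS hF (hfn Z₂ hZ₂S hZ₂n)
    obtain ⟨ψ, hψ, hψe⟩ := hrec.2 Z₂ φ hφ hφZ
    have hCE : C ≤ extender S Z₂ φ := hCC ▸ centralizerIn_le_extender S Z₂ φ
    have hψC : ∀ x : C, (ψ.comp (Subgroup.inclusion hCE)) x ∈ C := by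
      intro x
      refine ⟨hom_apply_mem hψ _, Subgroup.mem_centralizer_iff.2 fun y hy => ?_⟩
      have hy' : y ∈ φ.range := by rw [hφZ]; exact hy
      obtain ⟨t, rfl⟩ := hy'
      have h1 : ψ ⟨t, hCE (hZ₂C t.2)⟩ = φ t := hψe t t.2 _
      have h2 : (⟨t, hCE (hZ₂C t.2)⟩ : extender S Z₂ φ) * Subgroup.inclusion hCE x =
          Subgroup.inclusion hCE x * ⟨t, hCE (hZ₂C t.2)⟩ :=
        Subtype.ext (Subgroup.mem_centralizer_iff.1 x.2.2 t t.2)
      have h3 := congrArg ψ h2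
      rw [map_mul, map_mul, h1] at h3
      exact h3
    have hres := restrict_mem hψ hCE
    have hfinC : Finite C := finite_of_le hCS
    obtain ⟨α, hα, hαe⟩ := exists_aut hres (range_eq_of_mapsTo hres hψC)
    have hαD := (hDmem α).1 (hle hα)
    obtain ⟨z, hz, hzZ, hzφ⟩ := hmove
    have h1 := (hαD ⟨z, hZ₂C hz⟩).1 hzZ
    rw [hαe] at h1
    have h2 : (ψ.comp (Subgroup.inclusion hCE)) ⟨z, hZ₂C hz⟩ = φ ⟨z, hz⟩ := hψe z hz _
    rw [h2] at h1
    exact hzφ h1

/-- Let p ≥ 5 be a prime, S a finite p-group of maximal class of order p^n with n ≥ 4, and F a saturated fusion system over S. If some map of F defined on the second centre Z₂(S) with image Z₂(S) does not carry Z(S) into itself, then the centralizer C_S(Z₂(S)) is an F-essential subgroup. -/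
theorem result {Ω : Type*} [Group Ω] {S : Subgroup Ω} [Finite S] (p : ℕ) [Fact p.Prime] (hS : IsPGroup p ↥S) (n : ℕ) (hn : Nat.card S = p ^ n) (h4 : 4 ≤ n) (hmax : Subgroup.lowerCentralSeries S (n - 2) ≠ ⊥) (F : Cfsg.FusionSystem S) (hF : F.IsSaturated p) (hp : 5 ≤ p) (φ : ↥((Subgroup.upperCentralSeries ↥S 2).map S.subtype) →* Ω) (hφ : φ ∈ F.Hom ((Subgroup.upperCentralSeries ↥S 2).map S.subtype)) (hφZ : φ.range = ((Subgroup.upperCentralSeries ↥S 2).map S.subtype)) (hmove : ∃ (z : Ω) (hz : z ∈ ((Subgroup.upperCentralSeries ↥S 2).map S.subtype)), z ∈ ((Subgroup.center ↥S).map S.subtype) ∧ φ ⟨z, hz⟩ ∉ ((Subgroup.center ↥S).map S.subtype)) : F.IsEssential p (S ⊓ Subgroup.centralizer (((Subgroup.upperCentralSeries ↥S 2).map S.subtype) : Set Ω)) := by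
  exact aux p hS n hn h4 hmax F hF _ _ rfl rfl φ hφ hφZ hmove

end Cfsg.Agent.S5270
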