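import Cfsg.Agent.PLocal.ZJ
import Cfsg.Statements.S5275
import Cfsg.Agent.H801.FamilyFus
set_option linter.all false

-- part: H788/ZJClosed
section
set_option autoImplicit false

/-!
# Glauberman's ZJ theorem for strongly closed subgroups

`D` is strongly closed in the Sylow subgroup `S` with respect to `G`. Under the hypotheses of the ZJ theorem for
`G`, the centre of the Thompson subgroup of `D` (in the form of the intersection of the abelian subgroups of largest
order of `D`) is normal in `G`.
-/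

namespace Cfsg.Agent.H788

open Subgroup Cfsg.Agent.PLocal Cfsg.Agent.PLocal.ZJ
open scoped commutatorElement

variable {G : Type*} [Group G]

/-- **Glauberman's ZJ theorem relative to a strongly closed subgroup**, main step. `p` odd, `S` a Sylow
`p`-subgroup of `G`, `D ≤ S` strongly closed in `S` with respect to `G`, `B` a normal `p`-subgroup of `G` such that
`G` acts `p`-stably on the normal subgroups of `G` inside `B`. Then `B ∩ Z` is normal in `G`, where `Z` is the
intersection of the elementary abelian `e`-subgroups of largest order of `D` (`e` odd), or of the abelian subgroups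
of largest order of `D` (`e = 0`). -/
theorem inf_sInf_maxAb_normal_of_closed [Finite G] {p : ℕ} [Fact p.Prime] (hp : p ≠ 2) {e : ℕ}
    (he : e = 0 ∨ Odd e) (S : Sylow p G) (D : Subgroup G) (hDS : D ≤ (S : Subgroup G))
    (hD : ∀ g x : G, x ∈ D → g * x * g⁻¹ ∈ (S : Subgroup G) → g * x * g⁻¹ ∈ D)
    (B : Subgroup G) (hBn : B.Normal) (hB : IsPGroup p B)
    (hst : ∀ (P : Subgroup G) [P.Normal], P ≤ B → StableFor p (S : Subgroup G) P) :
    (B ⊓ sInf (maxAb e D)).Normal := by
  induction hn : Nat.card B using Nat.strong_induction_on generalizing B with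
  | _ n ih =>
  subst hn
  set Z : Subgroup G := sInf (maxAb e D) with hZdef
  have hSp : IsPGroup p (S : Subgroup G) := S.isPGroup'
  have hBS : B ≤ (S : Subgroup G) := hB.le_sylow_of_normal S
  have hZA : ∀ A ∈ maxAb e D, Z ≤ A := fun A hA => sInf_le hA
  obtain ⟨A00, hA00⟩ := maxAb_nonempty e D
  have hZc : ∀ x ∈ Z, ∀ y ∈ Z, x * y = y * x := fun x hx y hy =>
    Replacement.mul_comm_of_isMulCommutative hA00.2.1.1 (hZA _ hA00 hx) (hZA _ hA00 hy)
  have hDp : IsPGroup p D := hSp.to_le hDS
  have hnormD : ∀ g : G, (∀ s ∈ (S : Subgroup G), g * s * g⁻¹ ∈ (S : Subgroup G)) →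
      g ∈ normalizer (D : Set G) := by
    intro g hg
    refine Subgroup.mem_normalizer_fintype ?_
    intro x hx
    exact hD g x hx (hg x (hDS hx))
  have hSD : (S : Subgroup G) ≤ normalizer (D : Set G) := by
    intro g hg
    refine hnormD g (fun s hs => ?_)
    exact mul_mem (mul_mem hg hs) (inv_mem hg)
  have hSZ : (S : Subgroup G) ≤ normalizer (Z : Set G) :=
    hSD.trans (normalizer_le_normalizer_sInf e _)
  -- induction hypothesis in usable form
  have ih' : ∀ B' : Subgroup G, B'.Normal → B' < B → (B' ⊓ Z).Normal := by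
    intro B' hB'n hlt
    have hcard : Nat.card B' < Nat.card B := by
      refine lt_of_le_of_ne (Nat.card_le_card_of_injective _ (Subgroup.inclusion_injective hlt.le)) ?_
      intro h
      exact hlt.ne (Subgroup.eq_of_le_of_card_ge hlt.le h.ge)
    exact ih _ hcard B' hB'n (hB.to_le hlt.le) (fun P _ hP => hst P (hP.trans hlt.le)) rfl
  by_contra hcon
  -- step 1: B is the normal closure of B ⊓ Z
  have hB1 : normalClosure ((B ⊓ Z : Subgroup G) : Set G) = B := by
    have hle : normalClosure ((B ⊓ Z : Subgroup G) : Set G) ≤ B :=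
      Subgroup.normalClosure_le_normal (fun x hx => hx.1)
    by_contra hne
    have h1 := ih' _ Subgroup.normalClosure_normal (lt_of_le_of_ne hle hne)
    have h2 : normalClosure ((B ⊓ Z : Subgroup G) : Set G) ⊓ Z = B ⊓ Z := by
      apply le_antisymm
      · exact inf_le_inf_right _ hle
      · exact le_inf Subgroup.le_normalClosure inf_le_right
    rw [h2] at h1
    exact hcon h1
  have hBbot : B ≠ ⊥ := by
    rintro rfl
    apply hcon
    rw [bot_inf_eq]
    infer_instance
  -- step 2: B' < B
  have hBBn : (⁅B, B⁆ : Subgroup G).Normal := Subgroup.commutator_normal B B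
  have hBBle : ⁅B, B⁆ ≤ B := Subgroup.commutator_le_left B B
  have hBBlt : ⁅B, B⁆ < B := by
    refine lt_of_le_of_ne hBBle ?_
    intro h
    have : Group.IsNilpotent B := hB.isNilpotent
    have : Nontrivial B := (Subgroup.nontrivial_iff_ne_bot B).mpr hBbot
    have h1 : commutator B < ⊤ := Group.IsSolvable.commutator_lt_top_of_nontrivial B
    apply h1.ne
    have h2 : (commutator B).map B.subtype = ⁅B, B⁆ := by
      rw [commutator_def, Subgroup.map_commutator, ← MonoidHom.range_eq_map, Subgroup.range_subtype]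
    rw [h] at h2
    rw [eq_top_iff]
    intro x _
    have h3 : (x : G) ∈ (commutator B).map B.subtype := by rw [h2]; exact x.2
    obtain ⟨y, hy, hyx⟩ := h3
    have : y = x := Subtype.ext hyx
    rwa [← this]
  have hT : (⁅B, B⁆ ⊓ Z).Normal := ih' _ hBBn hBBlt
  -- step 3: ⁅B,B⁆ ≤ Z
  have hBZ : ⁅B, B⁆ ≤ ⁅B, B⁆ ⊓ Z := by
    have h1 : ⁅B, normalClosure ((B ⊓ Z : Subgroup G) : Set G)⁆ ≤ ⁅B, B⁆ ⊓ Z := by
      refine commutator_normalClosure_le hBn hT ?_
      intro b hb z hz
      refine ⟨Subgroup.commutator_mem_commutator hb hz.1, ?_⟩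
      rw [commutatorElement_def]
      exact Z.mul_mem ((Subgroup.mem_normalizer_iff.mp (hSZ (hBS hb)) z).mp hz.2) (Z.inv_mem hz.2)
    rwa [hB1] at h1
  have hBZ' : ⁅B, B⁆ ≤ Z := hBZ.trans inf_le_right
  -- step 4: class at most two
  have hcl : ⁅⁅B, B⁆, B⁆ = ⊥ := by
    rw [eq_bot_iff]
    have h1 : ⁅⁅B, B⁆, normalClosure ((B ⊓ Z : Subgroup G) : Set G)⁆ ≤ ⊥ := by
      refine commutator_normalClosure_le hBBn inferInstance ?_
      intro b hb z hz
      rw [Subgroup.mem_bot, commutatorElement_eq_one_iff_mul_comm]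
      exact hZc b (hBZ' hb) z hz.2
    rwa [hB1] at h1
  have hDB : D ≤ normalizer (B : Set G) := by
    rw [Subgroup.normalizer_eq_top]
    exact le_top
  have hBD : B ≤ D := by
    have hcl' : normalClosure ((B ⊓ Z : Subgroup G) : Set G) ≤ D := by
      refine (Subgroup.closure_le D).mpr ?_
      intro y hy
      obtain ⟨x, hx, hxy⟩ := Group.mem_conjugatesOfSet_iff.mp hy
      obtain ⟨g, rfl⟩ := isConj_iff.mp hxy
      exact hD g x ((hZA _ hA00).trans hA00.1 hx.2) (hBS (hBn.conj_mem x hx.1 g))
    rwa [hB1] at hcl'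
  -- stability
  set K : Subgroup G := kernelCore p B with hKdef
  have hstK : ∀ A ∈ maxAb e D, B ≤ normalizer (A : Set G) → A ≤ K :=
    fun A hA h => le_kernelCore (hst B le_rfl) (hA.1.trans hDS) hA.2.1.1 h
  -- step 5: choose A with |A ∩ B| maximal
  obtain ⟨A, hA, hAmax⟩ := Set.exists_max_image (maxAb e D)
    (fun A => Nat.card (A ⊓ B : Subgroup G)) (Set.toFinite _) ⟨A00, hA00⟩
  have card_lt : ∀ {X Y : Subgroup G}, X < Y → Nat.card X < Nat.card Y := by
    intro X Y hXY
    refine lt_of_le_of_ne (Nat.card_le_card_of_injective _ (Subgroup.inclusion_injective hXY.le)) ?_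
    intro h
    exact hXY.ne (Subgroup.eq_of_le_of_card_ge hXY.le h.ge)
  have hAN : B ≤ normalizer (A : Set G) := by
    by_contra hnot
    obtain ⟨A', hA', hlt, _⟩ := exists_replacement hp he hDp hA hBD hDB hcl
      (hBZ'.trans (hZA A hA)) hnot
    exact absurd (hAmax A' hA') (not_le.mpr (card_lt hlt))
  have hAK : A ≤ K := hstK A hA hAN
  have hAQ : A ≤ K ⊓ D := le_inf hAK hA.1
  have hmaxQ := maxAb_eq_of_le (S := D) (Q := K ⊓ D) inf_le_right hA hAQ
  -- Frattini
  obtain ⟨k, hk⟩ := kernelCore_relIndex p B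
  have hfr := frattini_sup S (centralizer (B : Set G)) K (kernelCore_normal p B) hk
  -- B ⊓ ZQ normal
  have hnormKD : normalizer ((K ⊓ (S : Subgroup G) : Subgroup G) : Set G) ≤
      normalizer ((K ⊓ D : Subgroup G) : Set G) := by
    intro g hg
    refine Subgroup.mem_normalizer_fintype ?_
    intro x hx
    have h1 := (Subgroup.mem_normalizer_iff.mp hg x).mp ⟨hx.1, hDS hx.2⟩
    exact ⟨h1.1, hD g x hx.2 h1.2⟩
  set ZQ : Subgroup G := sInf (maxAb e (K ⊓ D)) with hZQ
  have hZQn : (B ⊓ ZQ).Normal := by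
    rw [← Subgroup.normalizer_eq_top_iff, eq_top_iff, ← hfr]
    refine sup_le ?_ ?_
    · intro g hg
      rw [Subgroup.mem_normalizer_iff]
      have hcent : ∀ b ∈ B, g * b * g⁻¹ = b := by
        intro b hb
        rw [← Subgroup.mem_centralizer_iff.mp hg b hb, mul_inv_cancel_right]
      intro b
      constructor
      · intro hb
        rw [hcent b hb.1]
        exact hb
      · intro hb
        have hb' : b ∈ B := by
          have := hBn.conj_mem _ hb.1 g⁻¹
          simpa [mul_assoc] using this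
        rwa [hcent b hb'] at hb
    · intro g hg
      have h1 := normalizer_le_normalizer_sInf e _ (hnormKD hg)
      rw [Subgroup.mem_normalizer_iff] at h1 ⊢
      intro b
      constructor
      · intro hb
        exact ⟨hBn.conj_mem _ hb.1 g, (h1 b).mp hb.2⟩
      · intro hb
        refine ⟨?_, (h1 b).mpr hb.2⟩
        have := hBn.conj_mem _ hb.1 g⁻¹
        simpa [mul_assoc] using this
  have hZZQ : Z ≤ ZQ := by
    refine le_sInf fun A' hA' => ?_
    rw [hmaxQ] at hA'
    exact hZA A' hA'.1
  have hBZQ : B ≤ ZQ := by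
    have h1 : normalClosure ((B ⊓ Z : Subgroup G) : Set G) ≤ B ⊓ ZQ :=
      Subgroup.normalClosure_le_normal (fun x hx => ⟨hx.1, hZZQ hx.2⟩)
    rw [hB1] at h1
    exact h1.trans inf_le_right
  -- step 6
  by_cases hall : ∀ A' ∈ maxAb e D, A' ≤ K
  · have h1 : maxAb e (K ⊓ D) = maxAb e D := by
      rw [hmaxQ]
      ext A'
      exact ⟨fun h => h.1, fun h => ⟨h, le_inf (hall A' h) h.1⟩⟩
    rw [hZQ, h1] at hZQn
    exact hcon hZQn
  · push Not at hall
    obtain ⟨A1, ⟨hA1, hA1K⟩, hA1max⟩ := Set.exists_max_image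
      {A' | A' ∈ maxAb e D ∧ ¬ A' ≤ K}
      (fun A => Nat.card (A ⊓ B : Subgroup G)) (Set.toFinite _)
      (by obtain ⟨A1, h1, h2⟩ := hall; exact ⟨A1, h1, h2⟩)
    have hnot : ¬ B ≤ normalizer (A1 : Set G) := fun h => hA1K (hstK A1 hA1 h)
    obtain ⟨A', hA', hlt, hnorm⟩ := exists_replacement hp he hDp hA1 hBD hDB hcl
      (hBZ'.trans (hZA A1 hA1)) hnot
    have hA'K : A' ≤ K := by
      by_contra h
      exact absurd (hA1max A' ⟨hA', h⟩) (not_le.mpr (card_lt hlt))
    have hA'Q : A' ∈ maxAb e (K ⊓ D) := by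
      rw [hmaxQ]
      exact ⟨hA', le_inf hA'K hA'.1⟩
    exact hnot ((hBZQ.trans (sInf_le hA'Q)).trans hnorm)

/-- If `C_G(O_p(G)) ≤ O_p(G)` and `G` acts `p`-stably on the normal `p`-subgroups (`p` odd), then for a strongly
closed subgroup `D` of the Sylow subgroup `S` the intersection `⋂ maxAb e D` is normal in `G`. -/
theorem sInf_maxAb_normal_of_closed [Finite G] {p : ℕ} [Fact p.Prime] (hp : p ≠ 2) {e : ℕ}
    (he : e = 0 ∨ Odd e) (hc : centralizer (pCore p G : Set G) ≤ pCore p G)
    (S : Sylow p G) (D : Subgroup G) (hDS : D ≤ (S : Subgroup G))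
    (hD : ∀ g x : G, x ∈ D → g * x * g⁻¹ ∈ (S : Subgroup G) → g * x * g⁻¹ ∈ D)
    (hst : ∀ (P : Subgroup G) [P.Normal], IsPGroup p P → StableFor p (S : Subgroup G) P) :
    (sInf (maxAb e D)).Normal := by
  set Z : Subgroup G := sInf (maxAb e D) with hZdef
  have hO : (pCore p G).Normal := Cfsg.Agent.Lib.Cores.pCore_normal p
  have hOp : IsPGroup p (pCore p G) := Cfsg.Agent.Lib.Cores.pCore_isPGroup p
  have hOS : pCore p G ≤ (S : Subgroup G) := hOp.le_sylow_of_normal S
  obtain ⟨A0, hA0⟩ := maxAb_nonempty e D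
  have hZA0 : Z ≤ A0 := sInf_le hA0
  have hSD : (S : Subgroup G) ≤ normalizer (D : Set G) := by
    intro g hg
    refine Subgroup.mem_normalizer_fintype ?_
    intro x hx
    exact hD g x hx (mul_mem (mul_mem hg (hDS hx)) (inv_mem hg))
  have hSZ : (S : Subgroup G) ≤ normalizer (Z : Set G) :=
    hSD.trans (normalizer_le_normalizer_sInf e _)
  have hZK : Z ≤ kernelCore p (pCore p G) :=
    le_kernelCore (hst _ hOp) ((hZA0.trans hA0.1).trans hDS)
      (isElementaryAbelian_of_le hA0.2.1 hZA0).1 (hOS.trans hSZ)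
  have hKp : IsPGroup p (kernelCore p (pCore p G)) := by
    refine IsPGroup.comap_of_ker_isPGroup (Cfsg.Agent.Lib.Cores.pCore_isPGroup p) _ ?_
    rw [QuotientGroup.ker_mk']
    exact hOp.to_le hc
  have hKO : kernelCore p (pCore p G) ≤ pCore p G :=
    Cfsg.Agent.Lib.Cores.le_pCore (kernelCore_normal p _) hKp
  have h1 := inf_sInf_maxAb_normal_of_closed hp he S D hDS hD (pCore p G) hO hOp
    (fun P _ hP => hst P (hOp.to_le hP))
  rwa [inf_eq_right.mpr (hZK.trans hKO)] at h1

end Cfsg.Agent.H788
end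

-- part: S5275
section
set_option autoImplicit false
open Cfsg

namespace Cfsg.Agent.S5275

/-- A Glauberman–Thompson nilpotency criterion for fusion systems relative to a strongly closed subgroup. Let p be an odd prime, F a saturated fusion system over a finite p-group S, and D a subgroup of S that is strongly closed in F. Let Z(J(D)) be the centre of the subgroup of D generated by the abelian subgroups of D of largest order. Then F is the inner fusion system of S if and only if the normalizer fusion system of Z(J(D)) in F is the inner fusion system of N_S(Z(J(D))) = S. -/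
theorem result {Ω : Type*} [Group Ω] {S : Subgroup Ω} [Finite S] (p : ℕ) [Fact p.Prime] (hS : IsPGroup p ↥S) (F : Cfsg.FusionSystem S) (hF : F.IsSaturated p) (hp : p ≠ 2) (D : Subgroup Ω) (hD : F.StronglyClosed D) : (∀ P : Subgroup Ω, F.Hom P = (Cfsg.innerFusionSystem S).Hom P) ↔ ∀ N : Cfsg.FusionSystem (Cfsg.FusionSystem.normalizerIn S (Cfsg.centerThompsonAOf D)), F.IsNormalizerSystem (Cfsg.centerThompsonAOf D) N → ∀ P : Subgroup Ω, N.Hom P = (Cfsg.innerFusionSystem (Cfsg.FusionSystem.normalizerIn S (Cfsg.centerThompsonAOf D))).Hom P := by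
  constructor
  · intro h N hN P
    exact H801.normalizerSystem_inner h N hN P
  · intro hN P
    have hDS : D ≤ S := hD.1
    refine H801.inner_of_normal_in_models hp hS hF
      ((PLocal.ThompsonJA.centerThompsonAOf_le D).trans hDS) ?_ hN P
    intro E _ hEF L _ _ ι hmod hst
    obtain ⟨T, hT⟩ := hmod.2.2.1
    have hι := hmod.2.1.1
    have h1 : H801.up ι (centerThompsonAOf D) = centerThompsonAOf (H801.up ι D) := by
      have h2 : centerThompsonAOf D = (centerThompsonAOf (D.subgroupOf S)).map S.subtype := by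
        rw [PLocal.ThompsonJA.map_centerThompsonAOf S.subtype S.subtype_injective,
          Subgroup.map_subgroupOf_eq_of_le hDS]
      rw [h2, H801.up_map, PLocal.ThompsonJA.map_centerThompsonAOf ι hι]
      rfl
    rw [h1, PLocal.ZJ.centerThompsonAOf_eq]
    refine H788.sInf_maxAb_normal_of_closed hp (Or.inl rfl) hmod.2.2.2 T _ ?_ ?_ ?_
    · rw [hT]; exact H801.up_le_range D
    · intro g x hx hgx
      rw [hT] at hgx
      exact H801.up_conj_mem hmod.2.1 ⟨hDS, fun R hR φ hφ => hD.2 R hR φ (hEF R hφ)⟩ hx hgx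
    · intro V _ hV
      exact PLocal.ZJ.stableFor_of_isPStableOn _ V (hst V hV)

end Cfsg.Agent.S5275
end
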