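import Cfsg.Agent.FS.N.R.PG_m3
import Cfsg.Agent.H753.NormModel
import Cfsg.Agent.S5090
import Cfsg.Agent.S5095
import Cfsg.Agent.S5098
import Cfsg.Agent.H757.Constr
import Cfsg.Agent.H760.Layer
import Cfsg.Agent.S5118
import Cfsg.Agent.H759.FusSolvable
import Cfsg.Agent.FS.N.M.Low_m3
import Cfsg.Agent.FS.N.Sw.D.D54_mg_m3
import Cfsg.Agent.FS.N.Sw.D.D23_mg_m3
import Cfsg.Agent.FS.N.B.D.Pc1_m3
import Cfsg.Agent.FS.N.B.D.Nc5_m3
import Cfsg.Agent.FS.N.B.D.Pc3_m3
import Cfsg.Agent.FS.N.B.D.Nc4_m3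
import Cfsg.Agent.FS.N.B.D.Hc0_m3
import Cfsg.Agent.FS.N.M.L.dLy_mg_m3
import Cfsg.Agent.FS.N.M.All_m3
import Cfsg.Agent.FS.N.M.L.eLe1_mg_m3
import Cfsg.Agent.FS.N.M.F.La_m3
import Cfsg.Agent.FS.N.B.D.Nb2_m3
import Cfsg.Agent.FS.N.Sw.D.D03_mg_m3
import Cfsg.Agent.FS.N.B.D.C40_m3
import Cfsg.Agent.FS.N.B.D.C39_m3
import Cfsg.Agent.FS.N.B.D.C7_m3
import Cfsg.Agent.FS.N.B.D.C31_m3
import Cfsg.Agent.FS.N.B.D.C6_m3
import Cfsg.Agent.FS.N.Sw.D.D18_mg_m3
import Cfsg.Agent.FS.N.B.D.Pb1
import Cfsg.Agent.FS.N.B.D.Pc0_m3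
import Cfsg.Agent.FS.N.Sw.D.D05_mg_m3
import Cfsg.Agent.FS.N.B.D.Pd3_mg_m3
import Cfsg.Agent.FS.N.B.D.C11_m3
import Cfsg.Agent.FS.N.Sw.D.D59_mg_m3
import Cfsg.Agent.FS.N.B.D.C9_m3
import Cfsg.Agent.FS.N.B.D.C34_m3
import Cfsg.Agent.FS.N.B.D.C29_m3
import Cfsg.Agent.FS.N.B.D.C21_m3
import Cfsg.Agent.FS.N.B.D.C24_m3
import Cfsg.Agent.FS.N.B.D.Ne15_m3
import Cfsg.Agent.FS.N.B.D.C35_m3
import Cfsg.Agent.FS.N.B.D.C23_m3
import Cfsg.Agent.FS.N.B.D.C27_m3
import Cfsg.Agent.FS.N.B.D.F7_m3
import Cfsg.Agent.FS.N.B.D.C38_m3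
import Cfsg.Agent.FS.N.B.D.C32_m3
import Cfsg.Agent.FS.N.B.D.C8_m3
import Cfsg.Agent.FS.N.B.D.C46_m3
import Cfsg.Agent.FS.N.B.D.C36_m3
import Cfsg.Agent.FS.N.B.D.C43_m3
import Cfsg.Agent.FS.N.B.D.C4_m3
import Cfsg.Agent.FS.N.Sw.D.D72_m3
import Cfsg.Agent.FS.N.B.D.C44_m3
import Cfsg.Agent.FS.N.B.D.C45
import Cfsg.Agent.FS.N.Sw.D.D51_m3
import Cfsg.Agent.FS.N.B.D.C5_m3
import Cfsg.Agent.FS.N.G.Has9_m3
import Cfsg.Agent.FS.N.B.D.Hc1_m3
import Cfsg.Agent.FS.N.B.D.Hc5
import Cfsg.Agent.FS.N.B.D.Pc2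
import Cfsg.Agent.FS.N.B.D.Pd26_m3
import Cfsg.Agent.FS.N.G.Zc_m3
import Cfsg.Statements.S5288
import Cfsg.Agent.FS.N.Sw.Dn_m3
import Cfsg.Agent.Lib.ListFast
import Cfsg.Agent.FastGrp
import Cfsg.Agent.Prune
set_option linter.all false

section
prune_inst 0x7f00000000000000000000000000000000000000000000000000000000000000000000000000000000000000000000000000000000000000000000000000000000000000000000000000000000000000003fffffffffffffffffffffffffffbeffbdffffffff

-- part: FS/N/R/Main
section
set_option linter.all false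
open scoped Cfsg.Agent.FastGrp

-- part: FS/N/R/Model
section
/-!
# The model of the normalizer of a strongly closed centric subgroup (helper6, project FS, folder FS/N/R)
-/

set_option autoImplicit false

namespace Cfsg.Agent.FS.N.R

open Cfsg Cfsg.FusionSystem Cfsg.Agent.H752 Cfsg.Agent.FS.Th Cfsg.Agent.FS.Real

variable {A : Type} [Group A] [Finite A] {F : Sys A}

omit [Finite A] in
theorem ind_of_realizedBy {G : Type*} [Group G] {ι : (⊤ : Subgroup A) →* G} (h : F.IsRealizedBy ι) :
    Ind F (ι.comp (Subgroup.topEquiv (G := A)).symm.toMonoidHom) := fun P a => by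
  constructor
  · intro ha
    obtain ⟨g, hg⟩ := H753.exists_conj_of_mp h ha
    exact ⟨g, fun x hx => (hg x hx trivial).2⟩
  · rintro ⟨g, hg⟩
    obtain ⟨b, hb, h1⟩ := H753.exists_mp_of_conj h (P := P) le_top g fun x => ⟨⟨a x, trivial⟩, hg x x.2⟩
    exact hb.congr fun x hx => congrArg Subtype.val (h.1 ((hg x hx).trans (h1 x hx).2.symm))

omit [Finite A] in
theorem exists_mp_of_ind {G : Type*} [Group G] {ι : A →* G} (h : Ind F ι) {P : Subgroup A} {g : G}
    (hg : ∀ x ∈ P, ∃ y, ι y = g * ι x * g⁻¹) : ∃ a, Mp F P a ∧ ∀ x ∈ P, ι (a x) = g * ι x * g⁻¹ := by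
  choose! a ha using hg
  exact ⟨a, (h P a).2 ⟨g, ha⟩, ha⟩

/-- the model of a constrained system -/
theorem exists_model_of (hA : IsPGroup 2 A) (hF : F.IsSaturated 2) {U : Subgroup A} (hU : F.IsNormal U)
    (hC : F.IsCentric U) : ∃ (M : Type) (_ : Group M) (_ : Finite M) (ι : A →* M), Function.Injective ι ∧
      (∃ S : Sylow 2 M, (S : Subgroup M) = ι.range) ∧ Ind F ι ∧
      (∀ m : M, ∃ a, Mp F U a ∧ ∀ x ∈ U, ι (a x) = m * ι x * m⁻¹) ∧
      ∀ m : M, (∀ u ∈ U, m * ι u = ι u * m) → m ∈ U.map ι := by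
  have : Fact (Nat.Prime 2) := ⟨Nat.prime_two⟩
  have hS : IsPGroup 2 (⊤ : Subgroup A) := hA.to_subgroup _
  obtain ⟨M, _, ι₀, _, hr, ⟨S, hS₀⟩, hcen⟩ := S5090.result 2 hS F ⟨hF, U, hU, hC⟩
  have hI := ind_of_realizedBy hr
  have hinj : Function.Injective (ι₀.comp (Subgroup.topEquiv (G := A)).symm.toMonoidHom) :=
    hr.1.comp (Subgroup.topEquiv (G := A)).symm.injective
  have hSr : (S : Subgroup M) = (ι₀.comp (Subgroup.topEquiv (G := A)).symm.toMonoidHom).range := by
    rw [hS₀]
    ext y
    exact ⟨fun ⟨x, hx⟩ => ⟨x, hx⟩, fun ⟨x, hx⟩ => ⟨_, hx⟩⟩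
  generalize ι₀.comp (Subgroup.topEquiv (G := A)).symm.toMonoidHom = ι at hI hinj hSr
  have sU := H759.IsNormal.stronglyClosed hU
  have nU := normal_of_sc sU
  have hO : ∀ y ∈ pCore 2 M, ∃ x, ι x = y := fun y hy => by
    have h1 := Lib.Cores.pCore_le_sylow S hy
    rwa [hSr] at h1
  have nO := Lib.Cores.pCore_normal (G := M) 2
  have key : ∀ m : M, ∃ a, Mp F ((pCore 2 M).comap ι) a ∧ ∀ x ∈ (pCore 2 M).comap ι, ι (a x) = m * ι x * m⁻¹ :=
    fun m => exists_mp_of_ind hI fun x hx => hO _ (nO.conj_mem _ hx m)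
  have key2 : ∀ g m : M, (∀ x ∈ (pCore 2 M).comap ι, g * ι x * g⁻¹ = m * ι x * m⁻¹) → ∃ x, ι x = g⁻¹ * m :=
    fun g m h => hO _ (hcen fun y hy => by
      obtain ⟨x, rfl⟩ := hO y hy
      calc ι x * (g⁻¹ * m) = g⁻¹ * (g * ι x * g⁻¹) * m := by group
        _ = g⁻¹ * (m * ι x * m⁻¹) * m := by rw [h x hy]
        _ = g⁻¹ * m * ι x := by group)
  have hb : ∀ m : M, ∃ a, Mp F U a ∧ ∀ x ∈ U, ι (a x) = m * ι x * m⁻¹ := fun m => by
    obtain ⟨a, ha, h1⟩ := key m
    obtain ⟨b, hb, h2⟩ := mp_normal hU ha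
    obtain ⟨g, hg⟩ := (hI _ _).1 hb
    obtain ⟨n, hn⟩ := key2 g m fun x hx => by rw [← hg x (le_sup_left (b := U) hx), h2 x hx, h1 x hx]
    refine ⟨_, (mp_conj F le_top (s := n) trivial).comp (hb.res le_sup_right) fun x hx => nU.conj_mem x hx n,
      fun x hx => ?_⟩
    rw [hg _ (le_sup_right (b := U) (nU.conj_mem x hx n)), map_mul, map_mul, map_inv, hn]
    group
  refine ⟨M, inferInstance, inferInstance, ι, hinj, ⟨S, hSr⟩, hI, hb, fun m hm => ?_⟩
  have hUO : U ≤ (pCore 2 M).comap ι := Subgroup.map_le_iff_le_comap.1 (Lib.Cores.le_pCore ⟨by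
    rintro _ ⟨x, hx, rfl⟩ g
    obtain ⟨a, ha, h1⟩ := hb g
    exact ⟨_, mp_mem_of_stronglyClosed sU ha hx hx, h1 x hx⟩⟩ ((hA.to_subgroup U).map ι))
  obtain ⟨a, ⟨φ, hφ, h1⟩, h2⟩ := key m
  obtain ⟨z, -, -, hz⟩ := S5095.result 2 hS F hF _ U hUO hC _ φ (F.conj_mem le_top (Subgroup.one_mem _)) hφ fun x hx => by
    refine hinj ?_
    rw [h1 x x.2, h2 x x.2, hm x hx, mul_inv_cancel_right]
    exact congrArg ι (show 1 * (x : A) * 1⁻¹ = x by group)
  obtain ⟨n, hn⟩ := key2 (ι z) m fun x hx => by
    rw [← h2 x hx, ← h1 x hx, hz ⟨x, hx⟩, ← map_inv, ← map_mul, ← map_mul]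
    exact congrArg ι (show (z : A) * x * (z : A)⁻¹ = 1 * (z * x * (z : A)⁻¹) * 1⁻¹ by group)
  have h3 : ι (z * n) = m := by rw [map_mul, hn, mul_inv_cancel_left]
  refine ⟨z * n, hC.2 U (H802.isConj_refl F le_top) ⟨trivial, fun u hu => hinj ?_⟩, h3⟩
  rw [map_mul ι u, map_mul ι _ u, h3, hm u hu]

/-- the model of `N_F(U)` -/
theorem exists_model (hA : IsPGroup 2 A) (hF : F.IsSaturated 2) {U : Subgroup A} (hU : F.StronglyClosed U)
    (hC : centralizerIn ⊤ U ≤ U) : ∃ (M : Type) (_ : Group M) (_ : Finite M) (ι : A →* M), Function.Injective ι ∧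
      (∃ S : Sylow 2 M, (S : Subgroup M) = ι.range) ∧
      (∀ P a, U ≤ P → Mp F P a → ∃ m : M, ∀ x ∈ P, ι (a x) = m * ι x * m⁻¹) ∧
      (∀ m : M, ∃ a, Mp F U a ∧ ∀ x ∈ U, ι (a x) = m * ι x * m⁻¹) ∧
      ∀ m : M, (∀ u ∈ U, m * ι u = ι u * m) → m ∈ U.map ι := by
  have : Fact (Nat.Prime 2) := ⟨Nat.prime_two⟩
  have hS : IsPGroup 2 (⊤ : Subgroup A) := hA.to_subgroup _
  have nU := normal_of_sc hU
  have hc : F.IsCentric U := ⟨le_top, by
    rintro _ ⟨φ, hφ, rfl⟩
    rwa [H802.range_eq_of_mapsTo hφ fun x => hU.2 U le_rfl φ hφ x]⟩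
  have hN : normalizerIn ⊤ U = ⊤ := by
    rw [eq_top_iff]
    exact fun x _ => ⟨trivial, Subgroup.normalizer_eq_top U ▸ Subgroup.mem_top x⟩
  obtain ⟨E, hE⟩ := H802.exists_normalizerSystem F (Q := U) le_top
  have h1 := S5098.result 2 hS F hF U (isFullyNormalized_of_normal F le_top fun s _ x hx => nU.conj_mem x hx s) E hE
  have h2 := H753.isNormal_normalizerSystem le_top hE
  have h3 := H753.isCentric_normalizerSystem hE hc
  have h4 : ∀ P a, Mp E P a → Mp F P a := fun P a ha => ((H753.mp_normalizerSystem_iff hE).1 ha).1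
  have h5 : ∀ P a, U ≤ P → Mp F P a → Mp E P a := fun P a hP ha => by
    have h6 : ∀ x ∈ U, a x ∈ U := fun x hx => mp_mem_of_stronglyClosed hU ha (hP hx) hx
    exact (H753.mp_normalizerSystem_iff hE).2 ⟨ha, le_top.trans hN.ge, fun _ _ => hN.ge (Subgroup.mem_top _), a,
      by rwa [sup_eq_left.2 hP], fun _ _ => rfl, h6, fun y hy => (ha.res hP).surj h6 hy⟩
  clear hE
  generalize normalizerIn ⊤ U = W at hN E h1 h2 h3 h4 h5
  subst hN
  obtain ⟨M, _, _, ι, k1, k2, k3, k4, k5⟩ := exists_model_of hA h1 h2 h3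
  exact ⟨M, inferInstance, inferInstance, ι, k1, k2, fun P a hP ha => (k3 P a).1 (h5 P a hP ha), fun m => by
    obtain ⟨a, ha, h6⟩ := k4 m
    exact ⟨a, h4 _ _ ha, h6⟩, k5⟩

end Cfsg.Agent.FS.N.R
end

-- part: FS/N/R/Bad
section
/-!
# The case `T / V = UT₃(4)`: assembly (helper6, project FS, folder FS/N/R)
-/

set_option autoImplicit false

namespace Cfsg.Agent.FS.N.R

open Cfsg Cfsg.FusionSystem Cfsg.Agent.H752 Cfsg.Agent.FS.Th Cfsg.Agent.FS.Real

/-- the configuration -/
structure Cfg {A G : Type} [Group A] [Group G] (F : Sys A) (T R : Subgroup A) (E : FusionSystem T) (f : A →* G)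
    (N : Subgroup G) (τ : G) : Prop where
  sat : F.IsSaturated 2
  satE : E.IsSaturated 2
  scT : F.StronglyClosed T
  nR : F.IsNormal R
  cenV : E.IsCentral (T ⊓ R)
  cz : Cz F E R
  comm : ∀ x ∈ T ⊔ R, ∀ r ∈ R, x * r = r * x
  fac : Fac F R f
  nN : N.Normal
  inf : ∀ x, f x ∈ N ↔ x ∈ T ⊔ R
  res : ∀ x, f x ∈ pResidual 2 G ↔ x ∈ T ⊔ R
  down : ∀ P a, Mp E P a → ∃ n ∈ N, ∀ x ∈ P, f (a x) = n * f x * n⁻¹
  up : ∀ P : Subgroup A, P ≤ T → ∀ n ∈ N, (∀ x ∈ P, ∃ y ∈ T, f y = n * f x * n⁻¹) →
    ∃ a, Mp E P a ∧ ∀ x ∈ P, f (a x) = n * f x * n⁻¹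
  idx : (T ⊔ R).index ∣ 2
  ut : UT (T.map f)
  cG : Subgroup.centralizer ((T.map f : Subgroup G) : Set G) ≤ T.map f
  bor : ∀ g ∈ N, g ∈ Subgroup.normalizer ((T.map f : Subgroup G) : Set G) → ∃ x ∈ T, ∃ e : ℕ, g = f x * τ ^ e
  nz : ∀ g : G, (∀ z ∈ zc (T.map f), g * z * g⁻¹ ∈ zc (T.map f)) →
    g ∈ Subgroup.normalizer ((T.map f : Subgroup G) : Set G)
  h1 : ∀ P : Subgroup G, P ≤ T.map f → Nat.card P = 16 → (∀ x ∈ P, x * x = 1) → ∀ s, s ∉ T ⊔ R →
    (∀ x ∈ P, f s * x * (f s)⁻¹ ∈ P) → ∀ x ∈ P, f s * x = x * f s → ∃ y ∈ P, x = f s * y * (f s)⁻¹ * y⁻¹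
  tN : τ ∈ N
  tn : τ ∈ Subgroup.normalizer ((T.map f : Subgroup G) : Set G)
  t3 : τ ^ 3 = 1
  fpf : ∀ y ∈ T.map f, τ * y = y * τ → y = 1

namespace Cfg

variable {A G : Type} [Group A] [Group G] {F : Sys A} {T R : Subgroup A} {E : FusionSystem T} {f : A →* G}
  {N : Subgroup G} {τ : G} (h : Cfg F T R E f N τ)
include h

theorem ker (x : A) : f x = 1 ↔ x ∈ R := h.fac.ker x trivial

theorem dec {x : A} (hx : x ∈ T ⊔ R) : ∃ t ∈ T, ∃ r ∈ R, t * r = x :=
  (mem_sup_comm fun t ht r hr => h.comm t (le_sup_left (b := R) ht) r hr).1 hx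

theorem map_sup : (T ⊔ R).map f = T.map f := by
  refine le_antisymm ?_ (Subgroup.map_mono le_sup_left)
  rintro _ ⟨x, hx, rfl⟩
  obtain ⟨t, ht, r, hr, rfl⟩ := h.dec hx
  exact ⟨t, ht, by rw [map_mul, (h.ker r).2 hr, mul_one]⟩

theorem mem_map {x : A} : f x ∈ T.map f ↔ x ∈ T ⊔ R := by
  refine ⟨fun ⟨t, ht, e⟩ => ?_, fun hx => h.map_sup ▸ ⟨x, hx, rfl⟩⟩
  have h1 := Subgroup.mul_mem_sup ht ((h.fac.eq_iff trivial trivial).1 e)
  rwa [mul_inv_cancel_left] at h1

theorem scU : F.StronglyClosed (T ⊔ R) := stronglyClosed_of_mp le_top fun P a ha hP x hx => by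
  obtain ⟨t, ht, r, hr, rfl⟩ := h.dec (hP hx)
  obtain ⟨b, hb, h1⟩ := mp_normal h.nR ha
  have h2 : r ∈ P ⊔ R := le_sup_right (a := P) hr
  have h3 : t ∈ P ⊔ R := ((P ⊔ R).mul_mem_cancel_right h2).1 (le_sup_left (b := R) hx)
  rw [← h1 _ hx, hb.mul h3 h2]
  exact Subgroup.mul_mem_sup (mp_mem_of_stronglyClosed h.scT hb h3 ht)
    (mp_mem_of_stronglyClosed (H759.IsNormal.stronglyClosed h.nR) hb h2 hr)

theorem cen_le : centralizerIn ⊤ (T ⊔ R) ≤ T ⊔ R := fun x hx => h.mem_map.1 (h.cG (by
  rintro _ ⟨t, ht, rfl⟩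
  rw [← map_mul, ← map_mul, hx.2 t (le_sup_left (b := R) ht)]))

variable [Finite G]

theorem exists_sylow : ∃ S : Sylow 2 N, (S : Subgroup N).map N.subtype = T.map f := by
  have : Fact (Nat.Prime 2) := ⟨Nat.prime_two⟩
  have := h.nN
  obtain ⟨S, hS⟩ := h.fac.syl
  refine ⟨(S.isPGroup'.comap_subtype (K := N)).toSylow fun k => S.not_dvd_index (k.trans (relIndex_dvd_index _ N)), ?_⟩
  ext y
  constructor
  · rintro ⟨n, hn, rfl⟩
    obtain ⟨x, -, e⟩ := (hS _).1 hn
    have e' : f x = N.subtype n := e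
    rw [← e', h.mem_map, ← h.inf, e']
    exact n.2
  · rintro ⟨t, ht, rfl⟩
    exact ⟨⟨f t, (h.inf t).2 (le_sup_left (b := R) ht)⟩, (hS _).2 ⟨t, trivial, rfl⟩, rfl⟩

theorem exists_ce [Finite A] (hA : IsPGroup 2 A) (hCE : BoxCE) :
    ∃ (L : Type) (_ : Group L) (_ : Finite L) (p : L →* G) (j : A → L), p.range = N ∧ Fac E ⊥ j ∧
      (∀ x ∈ T, p (j x) = f x) ∧ (∀ l, p l = 1 → ∃ v ∈ T ⊓ R, l = j v) ∧ ∀ v ∈ T ⊓ R, ∀ l, j v * l = l * j v := by
  classical
  let g : A → N := fun x => if hx : f x ∈ N then ⟨f x, hx⟩ else 1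
  have hg : ∀ x ∈ T, (g x : G) = f x := fun x hx => by
    show ((if hx : f x ∈ N then (⟨f x, hx⟩ : N) else 1 : N) : G) = f x
    rw [dif_pos ((h.inf x).2 (le_sup_left (b := R) hx))]
  obtain ⟨S, hS⟩ := h.exists_sylow
  obtain ⟨L, _, _, p, j, h1, h2, h3, h4, h5⟩ := hCE A hA T (T ⊓ R) E h.satE h.cenV N g
    ⟨fun x hx y hy => Subtype.ext (by rw [Subgroup.coe_mul, hg x hx, hg y hy, hg _ (T.mul_mem hx hy), map_mul]),
      fun x hx => by rw [Subtype.ext_iff, hg x hx, Subgroup.coe_one, h.ker, Subgroup.mem_inf, and_iff_right hx],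
      ⟨S, fun y => by
        rw [← Subgroup.mem_map_iff_mem (Subgroup.subtype_injective N), hS]
        exact ⟨fun ⟨x, hx, e⟩ => ⟨x, hx, Subtype.ext ((hg x hx).trans e)⟩,
          fun ⟨x, hx, e⟩ => ⟨x, hx, (hg x hx).symm.trans (congrArg Subtype.val e)⟩⟩⟩,
      fun P a ha => by
        obtain ⟨n, hn, h1⟩ := h.down P a ha
        exact ⟨⟨n, hn⟩, fun x hx => Subtype.ext (by
          rw [hg _ (ha.mem hx), h1 x hx, ← hg x (ha.le hx)]
          rfl)⟩,
      fun P hP n hn => by
        obtain ⟨a, ha, h1⟩ := h.up P hP n n.2 fun x hx => by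
          obtain ⟨y, hy, h1⟩ := hn x hx
          exact ⟨y, hy, by rw [← hg y hy, h1, ← hg x (hP hx)]; rfl⟩
        exact ⟨a, ha, fun x hx => Subtype.ext (by
          rw [hg _ (ha.mem hx), h1 x hx, ← hg x (hP hx)]
          rfl)⟩⟩
  refine ⟨L, inferInstance, inferInstance, N.subtype.comp p, j, ?_, h2, fun x hx => ?_,
    fun l hl => h4 l (Subtype.ext hl), h5⟩
  · rw [MonoidHom.range_comp, MonoidHom.range_eq_top.2 h1, ← MonoidHom.range_eq_map, Subgroup.range_subtype]
  · show (p (j x) : G) = f x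
    rw [h3 x hx, hg x hx]

/-- **The bad case.** -/
theorem real [Finite A] (hA : IsPGroup 2 A) (hCE : BoxCE) (hPG : BoxPG) (hAU : BoxAU) (hAG : BoxAG) :
    F.IsRealizable 2 := by
  have : Fact (Nat.Prime 2) := ⟨Nat.prime_two⟩
  have nN := h.nN
  have sR := H759.IsNormal.stronglyClosed h.nR
  have hTU : T ≤ T ⊔ R := le_sup_left
  have hRU : R ≤ T ⊔ R := le_sup_right
  obtain ⟨L, _, _, p, j, hp, hj, pj, pker, pcen⟩ := h.exists_ce hA hCE
  obtain ⟨M, _, _, ι, hι, hsyl, m1, m2, m3⟩ := exists_model hA h.sat h.scU h.cen_le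
  have jinj : ∀ x ∈ T, ∀ y ∈ T, j x = j y → x = y := fun x hx y hy e =>
    inv_mul_eq_one.1 (Subgroup.mem_bot.1 ((hj.eq_iff hx hy).1 e))
  have hnor : ∀ X : Subgroup A, F.StronglyClosed X → X ≤ T ⊔ R → (X.map ι).Normal := fun X hX hle => ⟨by
    rintro _ ⟨x, hx, rfl⟩ m
    obtain ⟨a, ha, h1⟩ := m2 m
    exact ⟨_, mp_mem_of_stronglyClosed hX ha (hle hx) hx, h1 x (hle hx)⟩⟩
  obtain ⟨H, _, _, lam, μ, q, hH⟩ := hPG A M L G T R ι f j p τ
    ⟨hA, hι, hsyl, hnor T h.scT hTU, hnor R sR hRU, m3, h.comm, h.ker, hj.mul,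
      fun x hx e => Subgroup.mem_bot.1 ((hj.ker x hx).1 e), hj.syl, pj, pker, pcen, hp ▸ nN, h.cG, hp ▸ h.bor, hp ▸ h.tN,
      h.tn, h.t3, h.fpf, fun m => by
        obtain ⟨a, ha, h1⟩ := m2 m
        obtain ⟨g, hg⟩ := h.fac.down _ a ha
        exact ⟨g, fun x hx y hy => by rw [hι (hy.trans (h1 x (hTU hx)).symm), hg x (hTU hx)]⟩, fun l hl => by
        obtain ⟨a, ha, h1⟩ := hj.up T le_rfl l hl
        obtain ⟨b, hb, h2, h3⟩ := h.cz T a ha
        obtain ⟨m, hm⟩ := m1 _ b le_rfl hb
        refine ⟨m, fun x hx y hy e => ?_, fun r hr => ?_⟩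
        · rw [jinj y hy _ (ha.mem hx) (e.trans (h1 x hx).symm), ← h2 x hx, hm x (hTU hx)]
        · have h4 := hm r (hRU hr)
          rw [h3 r hr] at h4
          exact mul_inv_eq_iff_eq_mul.1 h4.symm⟩
  obtain ⟨S', hS'⟩ := hH.syl
  have hι' : Function.Injective (μ.comp ι) := hH.inj.comp hι
  obtain ⟨F', hF'⟩ := exists_ind (μ.comp ι) hι'
  have sat' := sat_of_ind hF' hι' S' hS'
  -- conjugation by an element of `L`
  have lmap : ∀ l : L, ∃ (P : Subgroup A) (b : A → A), Mp F P b ∧
      (∀ t ∈ T, ∀ r ∈ R, (∃ y ∈ T, j y = l * j t * l⁻¹) → t * r ∈ P) ∧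
      ∀ x ∈ P, μ (ι (b x)) = lam l * μ (ι x) * (lam l)⁻¹ := fun l => by
    let P := hj.mul.pre ((hj.mul.im T).comap (MulAut.conj l).toMonoidHom)
    have hP : ∀ t, t ∈ P ↔ t ∈ T ∧ ∃ y ∈ T, j y = l * j t * l⁻¹ := fun t =>
      hj.mul.mem_pre.trans (and_congr_right fun _ => hj.mul.mem_im le_rfl)
    have hPT : P ≤ T := fun t ht => ((hP t).1 ht).1
    obtain ⟨a, ha, h1⟩ := hj.up P hPT l fun x hx => ((hP x).1 hx).2
    obtain ⟨b, hb, h2, h3⟩ := h.cz P a ha
    refine ⟨_, b, hb, fun t ht r hr e => Subgroup.mul_mem_sup ((hP t).2 ⟨ht, e⟩) hr, fun x hx => ?_⟩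
    obtain ⟨t, ht, r, hr, rfl⟩ := (mem_sup_comm fun t ht r hr => h.comm t (hTU (hPT ht)) r hr).1 hx
    rw [hb.mul (le_sup_left (b := R) ht) (le_sup_right (a := P) hr), h2 t ht, h3 r hr, map_mul, map_mul, map_mul, map_mul,
      ← hH.am _ (ha.mem ht), ← hH.am t (hPT ht), h1 t ht, map_mul, map_mul, map_inv, mul_assoc _ _ (μ (ι r)),
      mul_assoc _ _ (lam l)⁻¹, mul_assoc _ _ (lam l)⁻¹, ← map_inv, hH.comm l⁻¹ r hr, mul_assoc]
  have low : ∀ P a, P ≤ T ⊔ R → Mp F' P a → Mp F P a := fun P a hP ha => by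
    obtain ⟨g, hg⟩ := (hF' P a).1 ha
    obtain ⟨l, m, rfl⟩ := hH.dec g
    obtain ⟨c, hc, h1⟩ := m2 m
    obtain ⟨Q, b, hb, h2, h3⟩ := lmap l
    have h4 : ∀ x ∈ P, μ (ι (a x)) = lam l * μ (ι (c x)) * (lam l)⁻¹ := fun x hx => by
      rw [h1 x (hP hx), map_mul, map_mul, map_inv]
      exact (hg x hx).trans (by
        show lam l * μ m * μ (ι x) * _ = _
        group)
    have h5 : ∀ x ∈ P, c x ∈ Q := fun x hx => by
      obtain ⟨t, ht, r, hr, e⟩ := h.dec (mp_mem_of_stronglyClosed h.scU hc (hP hx) (hP hx))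
      have h6 : lam (l * j t * l⁻¹) = μ (ι (a x * r⁻¹)) := by
        rw [map_mul ι, map_mul μ, h4 x hx, ← e, map_mul ι, map_mul μ, map_mul, map_mul, hH.am t ht, map_inv, map_inv ι,
          map_inv μ, eq_mul_inv_iff_mul_eq, mul_assoc _ _ (μ (ι r)), ← map_inv lam, hH.comm l⁻¹ r hr]
        group
      obtain ⟨y, hy, h7⟩ := hH.inf _ _ h6
      rw [← e]
      exact h2 t ht r hr ⟨y, hy, hH.linj (by rw [hH.am y hy, h7, h6])⟩
    exact ((hc.res hP).comp hb h5).congr fun x hx => hι' ((h4 x hx).trans (h3 _ (h5 x hx)).symm)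
  have high : ∀ P a, T ⊔ R ≤ P → Mp F P a → Mp F' P a := fun P a hP ha => by
    obtain ⟨m, hm⟩ := m1 P a hP ha
    exact (hF' P a).2 ⟨μ m, fun x hx => by
      show μ (ι (a x)) = μ m * μ (ι x) * _
      rw [hm x hx, map_mul, map_mul, map_inv]⟩
  have act : ∀ (m : M) (c : A → A), Mp F (T ⊔ R) c → (∀ x ∈ T ⊔ R, ι (c x) = m * ι x * m⁻¹) →
      ∀ x ∈ T ⊔ R, f (c x) = q (μ m) * f x * (q (μ m))⁻¹ := fun m c hc h1 x hx => by
    rw [← hH.qm _ (mp_mem_of_stronglyClosed h.scU hc hx hx), h1 x hx, map_mul, map_mul, map_mul, map_mul, map_inv,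
      map_inv, hH.qm x hx]
  have cent : ∀ g g' : G, (∀ x ∈ T ⊔ R, g * f x * g⁻¹ = g' * f x * g'⁻¹) → ∃ t ∈ T, f t = g⁻¹ * g' := fun g g' e =>
    h.cG (by
      rintro _ ⟨x, hx, rfl⟩
      calc f x * (g⁻¹ * g') = g⁻¹ * (g * f x * g⁻¹) * g' := by group
        _ = g⁻¹ * (g' * f x * g'⁻¹) * g' := by rw [e x (hTU hx)]
        _ = g⁻¹ * g' * f x := by group)
  have low' : ∀ P a, P ≤ T ⊔ R → Mp F P a → Mp F' P a := by
    refine hAU A hA F F' (T ⊔ R) R h.sat h.nR h.scU hRU h.comm (fun a => high _ a le_rfl) fun P a hRP hP ha => ?_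
    obtain ⟨g, hg⟩ := h.fac.down P a ha
    obtain ⟨S, hS⟩ := h.exists_sylow
    have h1 := Sylow.normalizer_sup_eq_top S
    rw [hS] at h1
    obtain ⟨k, hk, n, hn, rfl⟩ := Subgroup.mem_sup_of_normal_right.1 (h1.ge (Subgroup.mem_top g))
    obtain ⟨c, hc, h2⟩ := h.fac.up (T ⊔ R) le_top k fun x hx => by
      obtain ⟨y, -, e⟩ := (Subgroup.mem_normalizer_iff.1 hk _).1 (h.mem_map.2 hx)
      exact ⟨y, trivial, e⟩
    obtain ⟨m, hm⟩ := m1 _ c le_rfl hc
    obtain ⟨l, hl⟩ : k * n * k⁻¹ ∈ p.range := hp ▸ nN.conj_mem n hn k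
    obtain ⟨Q, b, hb, h3, h4⟩ := lmap l
    have h5 : ∀ x ∈ P, f (a x) = p l * f (c x) * (p l)⁻¹ := fun x hx => by
      rw [hg x hx, hl, h2 x (hP hx)]
      group
    have h6 : ∀ x ∈ P, c x ∈ Q := fun x hx => by
      obtain ⟨t, ht, r, hr, e⟩ := h.dec (mp_mem_of_stronglyClosed h.scU hc (hP hx) (hP hx))
      obtain ⟨t', ht', r', hr', e'⟩ := h.dec (mp_mem_of_stronglyClosed h.scU ha hx (hP hx))
      obtain ⟨v, hv, h7⟩ := pker ((j t')⁻¹ * (l * j t * l⁻¹)) (by
        have h8 := h5 x hx
        rw [← e, ← e', map_mul, map_mul, (h.ker r).2 hr, (h.ker r').2 hr', mul_one, mul_one] at h8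
        rw [map_mul, map_mul, map_mul, map_inv, map_inv, pj t ht, pj t' ht', h8, inv_mul_cancel])
      rw [← e]
      exact h3 t ht r hr ⟨t' * v, T.mul_mem ht' hv.1, by rw [hj.mul _ ht' _ hv.1, ← h7, mul_inv_cancel_left]⟩
    have h7 := (hc.res hP).comp hb h6
    refine ⟨_, h7, (hF' P _).2 ⟨lam l * μ m, fun x hx => ?_⟩, fun x hx => (h.fac.eq_iff trivial trivial).1 ?_⟩
    · show μ (ι (b (c x))) = lam l * μ m * μ (ι x) * _
      rw [h4 _ (h6 x hx), hm x (hP hx), map_mul, map_mul, map_inv]
      group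
    · rw [h5 x hx, ← hH.qm _ (mp_mem_of_stronglyClosed h.scU h7 hx (hP hx)), h4 _ (h6 x hx), map_mul, map_mul, map_inv,
        hH.ql, hH.qm _ (mp_mem_of_stronglyClosed h.scU hc (hP hx) (hP hx))]
  have hle := hAG A G hA F F' (T ⊔ R) R f τ ⟨h.sat, sat', h.nR, h.scU, hRU, h.comm, h.idx, h.fac, h.map_sup ▸ h.ut,
    h.map_sup ▸ h.nz, h.map_sup ▸ h.h1, h.map_sup ▸ h.tn, h.t3, h.map_sup ▸ h.fpf,
    fun P a hP => ⟨low' P a hP, low P a hP⟩, high⟩
  have hyp' : hyp F' ≤ T ⊔ R := fun x hx => by
    have h1 : q (μ (ι x)) ∈ pResidual 2 G :=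
      TwoFusion.PResidual.map_pResidual_le 2 q ⟨_, (mem_hyp_iff_of_ind hF' hι' S' hS' x).1 hx, rfl⟩
    obtain ⟨t, ht, h2⟩ := cent (q (μ (ι x))) (f x) fun y hy => by
      rw [← act (ι x) _ (mp_conj F le_top (s := x) trivial) (fun y _ => by rw [map_mul, map_mul, map_inv]) y hy, map_mul,
        map_mul, map_inv]
    have h3 := (pResidual 2 G).mul_mem h1 ((h.res t).2 (hTU ht))
    rw [h2, mul_inv_cancel_left] at h3
    exact (h.res x).1 h3
  have hge := eq_of_odd (hA.to_subgroup _) h.sat sat' (isSubsystemOf_of_mp hle) fun P a hP ha =>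
    low P a (hP.trans hyp') ha.1
  exact Ind.isRealizable (F := F) (fun P a => (⟨hle P a, hge P a⟩ : Mp F P a ↔ Mp F' P a).trans (hF' P a)) hι' S' hS'

end Cfg

end Cfsg.Agent.FS.N.R
end

-- part: FS/N/R/Nrm
section
/-!
# The subsystem `E / V` is the system of `N` (helper6, project FS, folder FS/N/R)
-/

set_option autoImplicit false

namespace Cfsg.Agent.FS.N.R

open Cfsg Cfsg.FusionSystem Cfsg.Agent.H752 Cfsg.Agent.FS.Th Cfsg.Agent.FS.Real

theorem mp_sub_iff {G : Type*} [Group G] {H T P : Subgroup G} {h : T ≤ H} {a : G → G} :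
    Mp (fusionSystemOfSubgroup H T h) P a ↔ P ≤ T ∧ (∀ x ∈ P, a x ∈ T) ∧ ∃ g ∈ H, ∀ x ∈ P, a x = g * x * g⁻¹ := by
  constructor
  · rintro ⟨φ, ⟨h1, h2, g, hg, h3⟩, h4⟩
    exact ⟨h1, fun x hx => h4 x hx ▸ h2 ⟨x, hx⟩, g, hg, fun x hx => (h4 x hx).symm.trans (h3 ⟨x, hx⟩)⟩
  · rintro ⟨h1, h2, g, hg, h3⟩
    exact ⟨conjHom P g, ⟨h1, fun x => (show g * x * g⁻¹ ∈ T from h3 x x.2 ▸ h2 x x.2), g, hg, fun _ => rfl⟩,
      fun x hx => (h3 x hx).symm⟩

theorem mp_grp_iff {G : Type*} [Group G] {T P : Subgroup G} {a : G → G} :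
    Mp (groupFusionSystem T) P a ↔ P ≤ T ∧ (∀ x ∈ P, a x ∈ T) ∧ ∃ g, ∀ x ∈ P, a x = g * x * g⁻¹ := by
  constructor
  · rintro ⟨φ, ⟨h1, h2, g, h3⟩, h4⟩
    exact ⟨h1, fun x hx => h4 x hx ▸ h2 ⟨x, hx⟩, g, fun x hx => (h4 x hx).symm.trans (h3 ⟨x, hx⟩)⟩
  · rintro ⟨h1, h2, g, h3⟩
    exact ⟨conjHom P g, ⟨h1, fun x => (show g * x * g⁻¹ ∈ T from h3 x x.2 ▸ h2 x x.2), g, fun _ => rfl⟩,
      fun x hx => (h3 x hx).symm⟩

/-- the normal subsystem induced by a normal subgroup -/
theorem exists_nsys {B G : Type} [Group B] [Finite B] [Group G] [Finite G] {F : Sys B} {f : B →* G} (hI : Ind F f)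
    (hf : Function.Injective f) (S : Sylow 2 G) (hS : (S : Subgroup G) = f.range) (N : Subgroup G) [N.Normal]
    {U : Subgroup B} (hU : (S : Subgroup G) ⊓ N = U.map f) :
    ∃ D : FusionSystem U, D.IsNormalIn F 2 ∧
      ∀ P a, Mp D P a ↔ P ≤ U ∧ (∀ x ∈ P, a x ∈ U) ∧ ∃ n ∈ N, ∀ x ∈ P, f (a x) = n * f x * n⁻¹ := by
  have : Fact (Nat.Prime 2) := ⟨Nat.prime_two⟩
  obtain ⟨D, hD⟩ := H759.exists_pull' (hf := hf) hU (fusionSystemOfSubgroup N ((S : Subgroup G) ⊓ N) inf_le_right)
  obtain ⟨M, hM⟩ := H759.exists_pull' (hf := hf) (T₁ := ⊤) (hS.trans (MonoidHom.range_eq_map f))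
    (groupFusionSystem (S : Subgroup G))
  have hb : ∀ (P : Subgroup B) (a : B → B), ∀ x ∈ P, (fun t => f (a (Function.invFun f t))) (f x) = f (a x) :=
    fun P a x _ => congrArg (fun y => f (a y)) (Function.leftInverse_invFun hf x)
  have h1 : M = F := H758.ext_of_mp fun P a => by
    rw [← mp_push_iff hM (b := fun t => f (a (Function.invFun f t))) (hb P a), mp_grp_iff, hI, hS]
    constructor
    · rintro ⟨-, -, g, hg⟩
      exact ⟨g, fun x hx => (hb P a x hx).symm.trans (hg _ ⟨x, hx, rfl⟩)⟩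
    · rintro ⟨g, hg⟩
      refine ⟨Subgroup.map_le_range f P, fun _ _ => ⟨_, rfl⟩, g, ?_⟩
      rintro _ ⟨x, hx, rfl⟩
      exact (hb P a x hx).trans (hg x hx)
  refine ⟨D, h1 ▸ (hD.isNormalIn_iff hM).1 (S5118.result 2 S N), fun P a => ?_⟩
  rw [← mp_push_iff hD (b := fun t => f (a (Function.invFun f t))) (hb P a), mp_sub_iff, hU,
    Subgroup.map_le_map_iff_of_injective hf]
  refine and_congr_right fun _ => and_congr ⟨fun h x hx => ?_, ?_⟩ (exists_congr fun n => and_congr_right fun _ => ⟨?_, ?_⟩)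
  · exact (Subgroup.mem_map_iff_mem hf).1 (hb P a x hx ▸ h _ ⟨x, hx, rfl⟩)
  · rintro h _ ⟨x, hx, rfl⟩
    exact ⟨_, h x hx, (hb P a x hx).symm⟩
  · exact fun h x hx => (hb P a x hx).symm.trans (h _ ⟨x, hx, rfl⟩)
  · rintro h _ ⟨x, hx, rfl⟩
    exact (hb P a x hx).trans (h x hx)

/-- two normal subsystems over the same subgroup are compared on the top level -/
theorem le_of_aut {B : Type} [Group B] [Finite B] (hB : IsPGroup 2 B) {F : Sys B} {U : Subgroup B}
    {D E : FusionSystem U} (hD : D.IsNormalIn F 2) (hE : E.IsNormalIn F 2) (h : ∀ a, Mp D U a → Mp E U a) :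
    ∀ P a, Mp D P a → Mp E P a := by
  have : Fact (Nat.Prime 2) := ⟨Nat.prime_two⟩
  have hU : IsPGroup 2 U := hB.to_subgroup U
  obtain ⟨O, hO⟩ := S5140.result 2 hU D hD.1.1
  have h1 := S5141.result 2 hU D hD.1.1 D (H760.isNormalIn_self hD.1.1).1 O hO
  have h2 := S5142.result 2 (hB.to_subgroup ⊤) F hD.1.2.1 D hD O hO E hE
  intro P a ha
  obtain ⟨b, hb, c, hc, h3⟩ := (isInvariantIn_iff.1 h1.1.2.2).2.2.2 P a ha.le ha
  exact ((mp_mono h2 hc).comp (h b hb) fun x hx => hc.mem hx).congr h3

/-- the image of the minimal system is minimal -/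
theorem Su.le_of_nor {A B : Type} [Group A] [Finite A] [Group B] [Finite B] {F : Sys A} {T R : Subgroup A}
    {E : FusionSystem T} (h : Su F T R E) (hA : IsPGroup 2 A) (hB : IsPGroup 2 B) {π : A →* B} {F' : Sys B}
    (hF' : Fq F R π F') {E' : FusionSystem (T.map π)} (hE' : Fq E (T ⊓ R) π E') {D : FusionSystem (T.map π)}
    (hD : D.IsNormalIn F' 2) {P : Subgroup A} {a : A → A} (ha : Mp E P a) :
    ∃ b, Mp D (P.map π) b ∧ ∀ x ∈ P, b (π x) = π (a x) := by
  have : Fact (Nat.Prime 2) := ⟨Nat.prime_two⟩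
  have hT : IsPGroup 2 T := hA.to_subgroup T
  obtain ⟨O, hO⟩ := S5140.result 2 (hB.to_subgroup _) E' hE'.sat
  have h1 := S5141.result 2 (hB.to_subgroup _) E' hE'.sat E' (H760.isNormalIn_self hE'.sat).1 O hO
  have h2 := S5142.result 2 (hB.to_subgroup ⊤) F' hF'.sat E' (h.nor_fq hA hF' hE') O hO D hD
  have h3 := H757.CF.exists_lift (⟨hT, h.satE, h.central hA, hE'.fac⟩ : H757.CF E (T ⊓ R) (rs π T) E' 2) h1
  have h4 : preimageAlong (rs π T) (T.map π) = T := by
    rw [pre_rs]
    exact inf_eq_left.2 (Subgroup.le_comap_map π T)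
  generalize preimageAlong (rs π T) (T.map π) = W at h3 h4
  subst h4
  obtain ⟨L, hL, h5⟩ := h3
  obtain ⟨O₀, hO₀⟩ := S5140.result 2 hT E h.satE
  have h6 := S5142.result 2 hT E h.satE E (H760.isNormalIn_self h.satE) O₀ hO₀ L hL
  have h7 := h.min O₀ (S5141.result 2 (hA.to_subgroup ⊤) F h.sat E h.nor.1 O₀ hO₀)
  obtain ⟨-, -, b, hb, h8⟩ := h5 P a (mp_mono h6 (mp_mono h7 ha))
  rw [image_rs ha.le] at hb
  exact ⟨b, mp_mono h2 hb, fun x hx => by rw [← tx_rs (ha.le hx), h8 x hx, tx_rs (ha.mem hx)]⟩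

/-- the normalizer of `H` in `N` is generated by `H` and `τ` -/
theorem bor_of {G : Type*} [Group G] [Finite G] {H N : Subgroup G} {τ : G} (hH : Nat.card H = 64) (hle : H ≤ N)
    (hc : Nat.card ↥(N ⊓ Subgroup.normalizer (H : Set G)) = 192) (tN : τ ∈ N) (tn : τ ∈ Subgroup.normalizer (H : Set G))
    (fpf : ∀ y ∈ H, τ * y = y * τ → y = 1) :
    ∀ g ∈ N, g ∈ Subgroup.normalizer (H : Set G) → ∃ x ∈ H, ∃ e : ℕ, g = x * τ ^ e := by
  intro g hg hn
  have : Fact (Nat.Prime 3) := ⟨Nat.prime_three⟩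
  set K := N ⊓ Subgroup.normalizer (H : Set G) with hK
  have hHK : H ≤ K := le_inf hle Subgroup.le_normalizer
  have nH : (H.subgroupOf K).Normal := (Subgroup.normal_subgroupOf_iff hHK).2 fun x k hx hk =>
    (Subgroup.mem_normalizer_iff.1 hk.2 x).1 hx
  have h1 := card_inf_mul_relIndex H K
  rw [inf_eq_left.2 hHK, hH, hc] at h1
  have h2 : Nat.card (K ⧸ H.subgroupOf K) = 3 := show H.relIndex K = 3 by omega
  have h3 : (QuotientGroup.mk' (H.subgroupOf K) ⟨τ, tN, tn⟩) ≠ 1 := fun e => by
    have h4 : τ = 1 := fpf τ ((QuotientGroup.eq_one_iff (N := H.subgroupOf K) _).1 e) rfl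
    have h5 : H = ⊥ := le_bot_iff.1 fun y hy => fpf y hy (by rw [h4, one_mul, mul_one])
    rw [h5, Subgroup.card_bot] at hH
    omega
  obtain ⟨e, he⟩ := mem_powers_of_prime_card h2 h3 (g' := QuotientGroup.mk' (H.subgroupOf K) ⟨g, hg, hn⟩)
  have h4 : (⟨g, hg, hn⟩ : K) / ⟨τ, tN, tn⟩ ^ e ∈ H.subgroupOf K :=
    QuotientGroup.eq_iff_div_mem.1 (he.symm.trans (map_pow (QuotientGroup.mk' (H.subgroupOf K)) _ e).symm)
  exact ⟨g / τ ^ e, h4, e, (div_mul_cancel _ _).symm⟩

end Cfsg.Agent.FS.N.R
end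

-- part: FS/N/R/Cf
section
/-!
# The configuration of the bad case (helper6, project FS, folder FS/N/R)
-/

set_option autoImplicit false

namespace Cfsg.Agent.FS.N.R

open Cfsg Cfsg.FusionSystem Cfsg.Agent.H752 Cfsg.Agent.FS.Th Cfsg.Agent.FS.Real

/-- a fixed point free automorphism of the whole group -/
theorem exists_fpf {A : Type} [Group A] {F : Sys A} (h : R34 F) (hh : hyp F = ⊤) :
    ∃ c, Mp F ⊤ c ∧ ∀ y, c y = y → y = 1 := by
  obtain ⟨G, _, _, f, -, -, hI, hf, -, -, -, -, -, -, -, t, -, tn, -, fpf⟩ := h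
  rw [hh] at tn fpf
  have h1 : ∀ y, f (Function.invFun f (t * f y * t⁻¹)) = t * f y * t⁻¹ := fun y => by
    obtain ⟨w, -, e⟩ := (Subgroup.mem_normalizer_iff.1 tn (f y)).1 ⟨y, trivial, rfl⟩
    exact Function.invFun_eq ⟨w, e⟩
  refine ⟨fun y => Function.invFun f (t * f y * t⁻¹), (hI _ _).2 ⟨t, fun y _ => h1 y⟩, fun y hy => hf ?_⟩
  have h2 := h1 y
  rw [show Function.invFun f (t * f y * t⁻¹) = y from hy] at h2
  rw [map_one]
  exact fpf _ ⟨y, trivial, rfl⟩ (mul_inv_eq_iff_eq_mul.1 h2.symm)

variable {A B : Type} [Group A] [Finite A] [Group B] [Finite B] {F : Sys A} {T R : Subgroup A} {E : FusionSystem T}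
  {π : A →* B} {F' : Sys B} {E' : FusionSystem (T.map π)}

omit [Finite A] [Finite B] in
theorem comap_map_of (hk : ∀ x, π x = 1 ↔ x ∈ R) : (T.map π).comap π = T ⊔ R := by
  rw [Subgroup.comap_map_eq]
  exact congrArg _ (Subgroup.ext hk)

theorem Su.real_bad {dU : PcD} (hL : Low dU) (hU : BoxUT dU) (hCE : BoxCE) (hPG : BoxPG) (hAU : BoxAU) (hAG : BoxAG)
    (h : Su F T R E) (hA : IsPGroup 2 A) (hB : IsPGroup 2 B) (h7 : Nat.card B ≤ 2 ^ 7) (hπ : Function.Surjective π)
    (hk : ∀ x, π x = 1 ↔ x ∈ R) (hF' : Fq F R π F') (hE' : Fq E (T ⊓ R) π E') (nR : F.IsNormal R)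
    (ab : ∀ x ∈ R, ∀ y ∈ R, x * y = y * x) (hq : F'.core = ⊥) {w : ℕ → T.map π} (hG : Gen dU ⊤ w)
    (idx : (T.map π).index ∣ 2) : F.IsRealizable 2 := by
  have hn := h.nor_fq hA hF' hE'
  have sc := hn.1.2.2.2.1
  have htop : (⊤ : Subgroup (T.map π)).map (T.map π).subtype = T.map π := by
    rw [← MonoidHom.range_eq_map, Subgroup.range_subtype]
  have hG' := hG.map _ (Subgroup.subtype_injective (T.map π))
  rw [htop] at hG'
  have hh : hyp F' = T.map π := le_antisymm (hyp_le_of_od fun P a ha x hx =>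
    mod_of_index (X := ⊤) (by rwa [Subgroup.relIndex_top_right]) (fun _ _ _ => trivial)
      (fun x hx => ⟨mp_mem_of_stronglyClosed sc ha.1 hx, mp_mem_of_stronglyClosed' sc ha.1 hx⟩) hx trivial) (by
    have h1 := H770.hyp_mono hn.1.2.2.1 2
    rwa [hE'.hyp, h.perf] at h1)
  obtain ⟨G, _, _, f, S, N, hI, hf, hS, nN, hSN, cG, c192, nz, h1, τ, tN, tn, t3, fpf⟩ :=
    hL.l34 B hB h7 F' ⟨hF'.sat, hq⟩ ⟨_, by rw [hh]; exact hG'⟩
  have res := mem_hyp_iff_of_ind hI hf S hS
  rw [show F'.hyperfocalSubgroup 2 = T.map π from hh] at res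
  rw [hh] at hSN cG c192 nz h1 tn fpf
  have hmap : T.map (f.comp π) = (T.map π).map f := (Subgroup.map_map _ _ _).symm
  have hmem : ∀ x, π x ∈ T.map π ↔ x ∈ T ⊔ R := fun x => by
    rw [← comap_map_of hk]
    rfl
  have ut := hU G _ _ (hG'.map f hf)
  have hle : (T.map π).map f ≤ N := hSN ▸ inf_le_right
  have bor := bor_of ut.card hle c192 tN tn fpf
  obtain ⟨D, hD, hDm⟩ := exists_nsys hI hf S hS N hSN
  have down : ∀ P a, Mp E P a → ∃ n ∈ N, ∀ x ∈ P, f (π (a x)) = n * f (π x) * n⁻¹ := fun P a ha => by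
    obtain ⟨b, hb, h2⟩ := h.le_of_nor hA hB hF' hE' hD ha
    obtain ⟨-, -, n, hn, h3⟩ := (hDm _ _).1 hb
    exact ⟨n, hn, fun x hx => by rw [← h2 x hx, h3 _ ⟨x, hx, rfl⟩]⟩
  have hnz : ∀ (n : G) (b : B → B), (∀ y ∈ T.map π, b y ∈ T.map π) → (∀ y ∈ T.map π, f (b y) = n * f y * n⁻¹) →
      n ∈ Subgroup.normalizer (((T.map π).map f : Subgroup G) : Set G) := fun n b hb e =>
    Subgroup.mem_normalizer_fintype (by
      rintro _ ⟨y, hy, rfl⟩
      exact ⟨_, hb y hy, e y hy⟩)
  -- the elements which induce maps of `E'`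
  let K : Submonoid G :=
    { carrier := {g | ∃ b, Mp E' (T.map π) b ∧ ∀ y ∈ T.map π, f (b y) = g * f y * g⁻¹}
      one_mem' := ⟨_, mp_id E' le_rfl, fun y _ => by rw [one_mul, inv_one, mul_one]⟩
      mul_mem' := by
        rintro g g' ⟨b, hb, e⟩ ⟨b', hb', e'⟩
        exact ⟨_, hb'.comp hb fun y hy => hb'.mem hy, fun y hy => by
          rw [e _ (hb'.mem hy), e' y hy]
          group⟩ }
  have hK : ∀ g ∈ (T.map π).map f, g ∈ K := by
    rintro _ ⟨s, hs, rfl⟩
    exact ⟨_, mp_conj E' le_rfl hs, fun y _ => by rw [map_mul, map_mul, map_inv]⟩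
  have hτ : τ ∈ K := by
    obtain ⟨D₀, hD₀, k1, k2⟩ := h.exists_pull hA hk hE'
    obtain ⟨c, hc, k3⟩ := exists_fpf (hL.l34 _ (hB.to_subgroup _) ((Subgroup.card_le_card_group _).trans h7) D₀ k1
      ⟨_, k2 ▸ hG⟩) k2
    have k4 := (mp_push_iff hD₀ (P := ⊤) (a := c) (b := ex fun x => (c x : B)) fun x _ => ex_coe _ x).2 hc
    rw [htop] at k4
    obtain ⟨a, ha, k5⟩ := hE'.up _ _ k4
    obtain ⟨n, hn, k6⟩ := down _ a ha
    have k7 : ∀ y ∈ T.map π, f (ex (fun x : T.map π => (c x : B)) y) = n * f y * n⁻¹ := by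
      rintro _ ⟨x, hx, rfl⟩
      rw [k5 x ⟨hx, x, hx, rfl⟩, k6 x ⟨hx, x, hx, rfl⟩]
    obtain ⟨x, hx, e, rfl⟩ := bor n hn (hnz n _ (fun y hy => k4.mem hy) k7)
    have k8 := K.mul_mem (hK _ (inv_mem hx)) ⟨_, k4, k7⟩
    rw [inv_mul_cancel_left, pow_eq_pow_mod e t3] at k8
    rw [pow_eq_pow_mod e t3] at k7
    have k9 : e % 3 = 0 ∨ e % 3 = 1 ∨ e % 3 = 2 := by omega
    rcases k9 with k9 | k9 | k9
    · exfalso
      obtain ⟨⟨_, ⟨y, hy, rfl⟩, hz⟩, hz1⟩ := (Subgroup.ne_bot_iff_exists_ne_one (H := zc ((T.map π).map f))).1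
        ((Subgroup.one_lt_card_iff_ne_bot _).1 (by rw [ut.cardZ]; omega))
      have k10 := k7 y hy
      rw [k9, pow_zero, mul_one, hz x hx, mul_inv_cancel_right, ex_apply _ hy] at k10
      have k11 := congrArg Subtype.val (k3 ⟨y, hy⟩ (Subtype.ext (hf k10)))
      exact hz1 (Subtype.ext ((congrArg f k11).trans (map_one f)))
    · rwa [k9, pow_one] at k8
    · have k10 := K.mul_mem k8 k8
      rwa [k9, ← pow_add, show 2 + 2 = 3 + 1 from rfl, pow_succ, t3, one_mul] at k10
  have hDE := le_of_aut hB hD hn fun a ha => by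
    obtain ⟨-, k1, n, hn, k2⟩ := (hDm _ _).1 ha
    obtain ⟨x, hx, e, rfl⟩ := bor n hn (hnz n a k1 k2)
    obtain ⟨b, hb, k3⟩ := K.mul_mem (hK x hx) (K.pow_mem hτ e)
    exact hb.congr fun y hy => hf ((k2 y hy).trans (k3 y hy).symm)
  have hinv : ∀ {g y : G}, (∃ z, f (π z) = g * y * g⁻¹) → f (Function.invFun f (g * y * g⁻¹)) = g * y * g⁻¹ :=
    fun ⟨z, e⟩ => Function.invFun_eq ⟨_, e⟩
  refine Cfg.real (F := F) (T := T) (R := R) (E := E) (f := f.comp π) (N := N) (τ := τ)
    ⟨h.sat, h.satE, h.scT, nR, h.central hA, h.cz, fun x hx r hr => ?_,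
      ⟨fun x _ y _ => map_mul _ x y, fun x _ => (map_eq_one_iff f hf).trans (hk x), ⟨S, fun y => ?_⟩, fun P a ha => ?_,
        fun P _ g hg => ?_⟩, nN, fun x => ?_, fun x => (res (π x)).symm.trans (hmem x), down, fun P hP n hn k => ?_, ?_,
      hmap ▸ ut, hmap ▸ cG, fun g hg k => ?_, ?_, ?_, tN, hmap ▸ tn, t3, hmap ▸ fpf⟩ hA hCE hPG hAU hAG
  · exact ((sup_le (fun t ht y hy => (h.comm t ht y hy).symm) (fun t ht y hy => ab y hy t ht) :
      T ⊔ R ≤ Subgroup.centralizer (R : Set A)) hx r hr).symm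
  · rw [hS]
    exact ⟨fun ⟨b, e⟩ => (hπ b).imp fun x k => ⟨trivial, (congrArg f k).trans e⟩, fun ⟨x, _, e⟩ => ⟨_, e⟩⟩
  · obtain ⟨b, hb, k1⟩ := hF'.down P a ha
    obtain ⟨g, k2⟩ := (hI _ _).1 hb
    exact ⟨g, fun x hx => (congrArg f (k1 x hx)).symm.trans (k2 _ ⟨x, hx, rfl⟩)⟩
  · have k1 : ∀ x ∈ P, f (Function.invFun f (g * f (π x) * g⁻¹)) = g * f (π x) * g⁻¹ := fun x hx =>
      hinv ((hg x hx).imp fun _ k => k.2)
    obtain ⟨a, ha, k2⟩ := hF'.up _ _ ((hI (P.map π) fun y => Function.invFun f (g * f y * g⁻¹)).2 ⟨g, by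
      rintro _ ⟨x, hx, rfl⟩
      exact k1 x hx⟩)
    have k3 : P ≤ ⊤ ⊓ (P.map π).comap π := fun x hx => ⟨trivial, x, hx, rfl⟩
    exact ⟨a, ha.res k3, fun x hx => (congrArg f (k2 x (k3 hx))).symm.trans (k1 x hx)⟩
  · rw [← hmem, ← Subgroup.mem_map_iff_mem hf, ← hSN, hS]
    exact ⟨fun k => ⟨⟨_, rfl⟩, k⟩, fun k => k.2⟩
  · have k1 : ∀ x ∈ P, f (Function.invFun f (n * f (π x) * n⁻¹)) = n * f (π x) * n⁻¹ := fun x hx =>
      hinv ((k x hx).imp fun _ k => k.2)
    obtain ⟨a, ha, k2⟩ := hE'.up _ _ (hDE _ _ ((hDm (P.map π) fun y => Function.invFun f (n * f y * n⁻¹)).2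
      ⟨Subgroup.map_mono hP, by
        rintro _ ⟨x, hx, rfl⟩
        obtain ⟨y, hy, e⟩ := k x hx
        exact ⟨y, hy, hf (e.trans (k1 x hx).symm)⟩, n, hn, by
        rintro _ ⟨x, hx, rfl⟩
        exact k1 x hx⟩))
    have k3 : P ≤ T ⊓ (P.map π).comap π := fun x hx => ⟨hP hx, x, hx, rfl⟩
    exact ⟨a, ha.res k3, fun x hx => (congrArg f (k2 x (k3 hx))).symm.trans (k1 x hx)⟩
  · rwa [← comap_map_of hk, Subgroup.index_comap_of_surjective _ hπ]
  · obtain ⟨_, ⟨_, ⟨x, hx, rfl⟩, rfl⟩, e, rfl⟩ := bor g hg (hmap ▸ k)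
    exact ⟨x, hx, e, rfl⟩
  · rw [hmap]
    exact fun g hg => nz g fun z hz hc =>
      (hg z ⟨hz, fun y hy => (hc y hy).symm⟩).imp_right fun k y hy => (k y hy).symm
  · rw [hmap]
    intro P hP hc hsq s hs hn x hx e
    obtain ⟨Q, rfl⟩ : ∃ Q : Subgroup B, Q.map f = P :=
      ⟨_, Subgroup.map_comap_eq_self (hP.trans (Subgroup.map_le_range f _))⟩
    obtain ⟨x, hx, rfl⟩ := hx
    obtain ⟨y, hy, k⟩ := h1 Q ((Subgroup.map_le_map_iff_of_injective hf).1 hP)
      ((Subgroup.card_map_of_injective hf).symm.trans hc)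
      (fun y hy => hf (by rw [map_mul, hsq _ ⟨y, hy, rfl⟩, map_one])) (π s) (mt (hmem s).1 hs)
      (fun y hy => (Subgroup.mem_map_iff_mem hf).1 (by
        rw [map_mul, map_mul, map_inv]
        exact hn _ ⟨y, hy, rfl⟩)) x hx (hf (by rw [map_mul, map_mul]; exact e))
    exact ⟨f y, ⟨y, hy, rfl⟩, by rw [k, map_mul, map_mul, map_mul, map_inv, map_inv]; rfl⟩

end Cfsg.Agent.FS.N.R
end

-- part: FS/N/R/Swap
section
/-!
# The case `S = T × X` with `X` nonabelian of order `8` (helper6, project FS, folder FS/N/R)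
-/

set_option autoImplicit false

namespace Cfsg.Agent.FS.N.R

open Cfsg Cfsg.FusionSystem Cfsg.Agent.H752 Cfsg.Agent.FS.Th Cfsg.Agent.FS.Real

variable {A : Type} [Group A] [Finite A] {F : Sys A}

omit [Finite A] in
theorem comm_of_relIndex {X : Subgroup A} (h : (zc X).relIndex X ∣ 2) : ∀ x ∈ X, ∀ y ∈ X, x * y = y * x := by
  intro x hx y hy
  by_cases h1 : x ∈ zc X
  · exact (h1.2 y hy).symm
  by_cases h2 : y ∈ zc X
  · exact h2.2 x hx
  rcases (Nat.dvd_prime Nat.prime_two).1 h with h | h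
  · exact absurd (Subgroup.relIndex_eq_one.1 h hx) h1
  · have h4 : x⁻¹ * y ∈ zc X := (Subgroup.mul_mem_iff_of_index_two h (a := (⟨x, hx⟩ : X)⁻¹) (b := ⟨y, hy⟩)).2 (by
      rw [inv_mem_iff]
      exact ⟨fun k => absurd k h1, fun k => absurd k h2⟩)
    have h5 := h4.2 x hx
    rw [mul_inv_cancel_left] at h5
    calc x * y = x * (x⁻¹ * y * x) := by rw [← h5]
      _ = y * x := by group

theorem card_zc (hA : IsPGroup 2 A) {X : Subgroup A} [X.Normal] (h8 : Nat.card X = 8)
    (hn : ¬ ∀ x ∈ X, ∀ y ∈ X, x * y = y * x) : Nat.card (zc X) = 2 := by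
  have : Fact (Nat.Prime 2) := ⟨Nat.prime_two⟩
  have h1 := card_inf_mul_relIndex (zc X) X
  rw [inf_eq_left.2 (show zc X ≤ X from inf_le_left), h8] at h1
  have h2 : ¬ (zc X).relIndex X ∣ 2 := fun k => hn (comm_of_relIndex k)
  obtain ⟨z, hz, hzc, hz1⟩ := GTwoFour.Tools.exists_mem_center_of_normal hA X (by
    rintro rfl
    rw [Subgroup.card_bot] at h8
    omega)
  have h3 : 1 < Nat.card (zc X) := (Subgroup.one_lt_card_iff_ne_bot _).2 fun e => hz1 (Subgroup.mem_bot.1 (by
    rw [← e]
    exact ⟨hz, fun y _ => Subgroup.mem_center_iff.1 hzc y⟩))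
  obtain ⟨i, hi, h4⟩ := (Nat.dvd_prime_pow Nat.prime_two (m := 3)).1 ⟨_, h1.symm⟩
  rw [h4] at h1 h3 ⊢
  interval_cases i
  · omega
  · rfl
  · exact absurd (by rw [show (zc X).relIndex X = 2 by omega]) h2
  · exact absurd (by rw [show (zc X).relIndex X = 1 by omega]; exact one_dvd _) h2

theorem zc_iff {X : Subgroup A} {a : A → A} (ha : Mp F X a) (hm : ∀ x ∈ X, a x ∈ X) {x : A} (hx : x ∈ X) :
    x ∈ zc X ↔ a x ∈ zc X := by
  refine ⟨fun h => ⟨hm x hx, fun y hy => ?_⟩, fun h => ⟨hx, fun y hy => ?_⟩⟩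
  · obtain ⟨w, hw, rfl⟩ := ha.surj hm hy
    rw [← ha.mul hw hx, ← ha.mul hx hw, h.2 w hw]
  · refine ha.inj (X.mul_mem hy hx) (X.mul_mem hx hy) ?_
    rw [ha.mul hy hx, ha.mul hx hy]
    exact h.2 _ (hm y hy)

omit [Finite A] in
theorem bot_iff {X : Subgroup A} {a : A → A} (ha : Mp F X a) {x : A} (hx : x ∈ X) :
    x ∈ (⊥ : Subgroup A) ↔ a x ∈ (⊥ : Subgroup A) :=
  ⟨fun k => by rw [Subgroup.mem_bot.1 k, ha.one]; exact Subgroup.one_mem _,
    fun k => ha.inj hx X.one_mem ((Subgroup.mem_bot.1 k).trans ha.one.symm)⟩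

theorem real_swap (hA : IsPGroup 2 A) (hI : IH (Nat.card A)) (hF : F.IsSaturated 2) (hc : F.center = ⊥)
    {T X : Subgroup A} (hT : F.StronglyClosed T) (hX : F.StronglyClosed X) (hT1 : T ≠ ⊥) (hsup : X ⊔ T = ⊤)
    (h8 : Nat.card X = 8) (hn : ¬ ∀ x ∈ X, ∀ y ∈ X, x * y = y * x) (hV : F.IsNormal (T ⊓ X)) (hVX : T ⊓ X ≤ zc X)
    (hQX : F.core ≤ X) (h4 : 4 ≤ Nat.card F.core) : F.IsRealizable 2 := by
  have : Fact (Nat.Prime 2) := ⟨Nat.prime_two⟩
  have hS : IsPGroup 2 (⊤ : Subgroup A) := hA.to_subgroup _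
  have nT := normal_of_sc hT
  have nX := normal_of_sc hX
  have hQ : F.IsNormal F.core := H759.isNormal_core
  have sQ := H759.IsNormal.stronglyClosed hQ
  have nQ := normal_of_sc sQ
  have h2 := card_zc hA h8 hn
  have hi : T ⊓ X = ⊥ := bot_of_card hA hF hc hV (h2 ▸ Subgroup.card_dvd_of_le hVX)
  have hz : ∀ a, Mp F X a → ∀ x ∈ zc X, a x = x := fun a ha x hx => by
    have hm : ∀ x ∈ X, a x ∈ X := fun x hx => mp_mem_of_stronglyClosed hX ha hx hx
    exact (inv_mul_eq_one.1 (Subgroup.mem_bot.1 (mod_of_index (P := X) (Y := ⊥) (X := zc X) (a := a)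
      (by rw [Subgroup.relIndex_bot_left, h2]) (fun y hy k => (zc_iff ha hm hy).1 k) (fun y hy => bot_iff ha hy) hx.1
      hx))).symm
  obtain ⟨z, hz1, hzc, hz2⟩ := GTwoFour.Tools.exists_mem_center_of_normal hA F.core (by
    intro e
    rw [e, Subgroup.card_bot] at h4
    omega)
  have hz3 : z ∈ zc X := ⟨hQX hz1, fun y _ => Subgroup.mem_center_iff.1 hzc y⟩
  have h5 := card_inf_mul_relIndex F.core X
  rw [inf_eq_left.2 hQX, h8] at h5
  have hne : F.core.relIndex X ≠ 1 := fun e => by
    have h6 : F.core = X := le_antisymm hQX (Subgroup.relIndex_eq_one.1 e)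
    exact hz2 (one_of_fix hS hF hc hQ hz1 fun a ha => hz a (h6 ▸ ha) z hz3)
  have h6 : F.core.relIndex X = 2 := by
    have h7 : F.core.relIndex X ≠ 0 := fun e => by rw [e] at h5; omega
    have h9 : F.core.relIndex X < 3 := by
      by_contra h9
      have := Nat.mul_le_mul h4 (not_lt.1 h9)
      omega
    omega
  have h7 := card_inf_mul_relIndex (zc X) F.core
  have h9 : Nat.card ↥(zc X ⊓ F.core) = 2 := by
    have h10 : 1 < Nat.card ↥(zc X ⊓ F.core) := (Subgroup.one_lt_card_iff_ne_bot _).2 fun e => hz2 (Subgroup.mem_bot.1 (by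
      rw [← e]
      exact ⟨hz3, hz1⟩))
    have h11 := Subgroup.card_le_of_le (inf_le_left : zc X ⊓ F.core ≤ zc X)
    omega
  rw [h6] at h5
  rw [h9] at h7
  refine real_of_pair hA hI hF hX hT (fun e => by rw [e, Subgroup.card_bot] at h8; omega) hT1
    (by rw [inf_comm, hi]) (fun x hx y hy => (Subgroup.commute_of_normal_of_disjoint X T nX nT
      (by rw [disjoint_iff, inf_comm, hi]) x y hx hy).eq) (by rw [hsup]; exact le_top) fun a ha => ?_
  refine ⟨fun x => x, mp_id F le_top, fun x hx => ?_, fun _ _ => rfl⟩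
  have hq : ∀ x ∈ X, x ∈ F.core ↔ a x ∈ F.core := fun x hx =>
    ⟨mp_mem_of_stronglyClosed sQ ha.1 hx, mp_mem_of_stronglyClosed' sQ ha.1 hx⟩
  have h10 : ∀ x ∈ X, x⁻¹ * a x ∈ zc X := fun x hx => D.Od.two hS ha (Q := F.core)
    (fun y hy => mod_of_index (P := X) (by rw [h6]) (fun w hw _ => ha.2.1 w hw) hq hy hy)
    (fun y hy k => mod_of_index (P := X) (by rw [show (zc X).relIndex F.core = 2 by omega])
      (fun w hw k => (hq w hw).1 k) (fun w hw => zc_iff ha.1 ha.2.1 hw) hy k) hx
  exact inv_mul_eq_one.1 (Subgroup.mem_bot.1 (D.Od.two hS ha h10 (fun y _ k => by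
    rw [hz a ha.1 y k, inv_mul_cancel]
    exact Subgroup.one_mem _) hx))

end Cfsg.Agent.FS.N.R
end

-- part: FS/N/R/Main
section
/-!
# `BoxR3` from the boxes (helper6, project FS, folder FS/N/R)
-/

set_option autoImplicit false

namespace Cfsg.Agent.FS.N.R

open Cfsg Cfsg.FusionSystem Cfsg.Agent.H752 Cfsg.Agent.FS.Th Cfsg.Agent.FS.Real

theorem comm_bot {A : Type*} [Group A] {X : Subgroup A} (h : ∀ x ∈ X, ∀ y ∈ X, x * y = y * x) : ⁅X, X⁆ = ⊥ :=
  le_bot_iff.1 (Subgroup.commutator_le.2 fun x hx y hy => by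
    rw [commutatorElement_def, h x hx y hy, mul_inv_cancel_right, mul_inv_cancel]
    exact Subgroup.one_mem _)

variable {A B : Type} [Group A] [Finite A] [Group B] [Finite B] {F : Sys A} {T R : Subgroup A} {E : FusionSystem T}
  {π : A →* B} {F' : Sys B} {E' : FusionSystem (T.map π)}

theorem Su.core_inf (h : Su F T R E) (hA : IsPGroup 2 A) (hB : IsPGroup 2 B) (hk : ∀ x, π x = 1 ↔ x ∈ R)
    (hF' : Fq F R π F') (hE' : Fq E (T ⊓ R) π E') : T.map π ⊓ F'.core = ⊥ := by
  have : Fact (Nat.Prime 2) := ⟨Nat.prime_two⟩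
  have hn := h.nor_fq hA hF' hE'
  have hQ : F'.IsNormal F'.core := H759.isNormal_core
  have n1 := normal_of_sc hn.1.2.2.2.1
  have n2 := normal_of_sc (H759.IsNormal.stronglyClosed hQ)
  by_contra hne
  obtain ⟨z, hz, hzc, hz1⟩ := GTwoFour.Tools.exists_mem_center_of_normal hB _ hne
  have h1 := H759.IsNormal.le_core (H759.isNormal_of_abelian (hB.to_subgroup _) hE'.sat
    (H760.stronglyClosed_inf_sub hn.1.2.2.1 (H759.stronglyClosed_center_of_isNormal hQ)) (comm_bot (by
      rintro _ ⟨-, x, hx, rfl⟩ _ ⟨-, y, -, rfl⟩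
      exact congrArg Subtype.val (Subgroup.mem_center_iff.1 hx y).symm)))
  rw [h.core_eq hA hk hE'] at h1
  exact hz1 (h1 ⟨hz.1, ⟨z, hz.2⟩, Subgroup.mem_center_iff.2 fun y => Subtype.ext (Subgroup.mem_center_iff.1 hzc y), rfl⟩)

/-- the quotient has a nontrivial core -/
theorem Su.real_core (h : Su F T R E) (hA : IsPGroup 2 A) (hI : IH (Nat.card A)) (hc : F.center = ⊥)
    (h4 : 4 ≤ Nat.card F.core) (hB : IsPGroup 2 B) (hπ : Function.Surjective π) (hk : ∀ x, π x = 1 ↔ x ∈ R)
    (hF' : Fq F R π F') (hE' : Fq E (T ⊓ R) π E') (hq : F'.core ≠ ⊥) (hcard : Nat.card A = Nat.card B * Nat.card R)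
    (idx : (T.map π).index = 1 ∨ (T.map π).index = 2 ∧ Nat.card R = 4) : F.IsRealizable 2 := by
  have : Fact (Nat.Prime 2) := ⟨Nat.prime_two⟩
  have hS : IsPGroup 2 (⊤ : Subgroup A) := hA.to_subgroup _
  have hi := h.core_inf hA hB hk hF' hE'
  have sQ := H759.IsNormal.stronglyClosed (H759.isNormal_core (F := F'))
  have n0 := normal_of_sc h.scT
  have n1 := normal_of_sc (h.nor_fq hA hF' hE').1.2.2.2.1
  have n2 := normal_of_sc sQ
  have h1 := card_inf_mul_relIndex (T.map π) F'.core
  rw [hi, Subgroup.card_bot, one_mul] at h1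
  have h2 := Subgroup.relIndex_dvd_index_of_normal (T.map π) F'.core
  have h3 := (Subgroup.one_lt_card_iff_ne_bot _).2 hq
  rw [h1] at h2
  obtain ⟨i2, r4⟩ := idx.resolve_left fun e => by
    rw [e, Nat.dvd_one] at h2
    omega
  rw [i2] at h2
  have h5 : Nat.card F'.core = 2 := le_antisymm (Nat.le_of_dvd two_pos h2) h3
  have hRX : R ≤ F'.core.comap π := fun r hr => show π r ∈ F'.core from (hk r).2 hr ▸ Subgroup.one_mem _
  have sX : F.StronglyClosed (F'.core.comap π) := by
    have k := H759.stronglyClosed_preimage hS h.sat h.sc hF'.fac sQ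
    rwa [pre_rs, top_inf_eq] at k
  have h8 : Nat.card (F'.core.comap π) = 8 := by
    have k1 := Subgroup.card_mul_index (F'.core.comap π)
    have k2 := Subgroup.card_mul_index F'.core
    have k3 : F'.core.index ≠ 0 := Subgroup.index_ne_zero_of_finite
    rw [Subgroup.index_comap_of_surjective _ hπ, hcard, ← k2, h5, r4] at k1
    exact Nat.eq_of_mul_eq_mul_right (Nat.pos_of_ne_zero k3) (k1.trans (by ring))
  have hb : ∀ x, π x ∈ T.map π → π x ∈ F'.core → x ∈ R := fun x k1 k2 =>
    (hk x).1 (Subgroup.mem_bot.1 (hi ▸ (⟨k1, k2⟩ : π x ∈ T.map π ⊓ F'.core)))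
  have hV : T ⊓ F'.core.comap π = T ⊓ R :=
    le_antisymm (fun t ht => ⟨ht.1, hb t ⟨t, ht.1, rfl⟩ ht.2⟩) (inf_le_inf_left _ hRX)
  refine real_swap hA hI h.sat hc h.scT sX (fun e => h.nle (e ▸ bot_le)) (top_le_iff.1 fun g _ => ?_) h8 (fun ab => ?_)
    (hV ▸ h.normalV hA) (fun v hv => ⟨hv.2, fun x hx => ?_⟩) (h.le.trans hRX) h4
  · have k1 : ∀ y, π y ∈ T.map π → y ∈ F'.core.comap π ⊔ T := fun y hy =>
      (sup_le le_sup_right (hRX.trans le_sup_left) : T ⊔ R ≤ _) (comap_map_of hk ▸ hy)
    by_cases k2 : π g ∈ T.map π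
    · exact k1 g k2
    obtain ⟨⟨y, hy⟩, hy1⟩ := Subgroup.ne_bot_iff_exists_ne_one.1 hq
    obtain ⟨x, rfl⟩ := hπ y
    have k3 := k1 (x⁻¹ * g) (by
      rw [map_mul, Subgroup.mul_mem_iff_of_index_two i2, map_inv, inv_mem_iff]
      exact ⟨fun k => absurd (Subtype.ext ((hk x).2 (hb x k hy))) hy1, fun k => absurd k k2⟩)
    exact (Subgroup.mul_mem_cancel_left _ (inv_mem (le_sup_left (b := T) hy))).1 k3
  · have k1 := Subgroup.card_le_of_le
      ((H759.IsNormal.le_core (H759.isNormal_of_abelian hS h.sat sX (comm_bot ab))).trans h.le)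
    omega
  · refine mul_inv_eq_iff_eq_mul.1 (agree_comm (mp_conj F le_top (s := x) trivial) (mp_id F le_top) (fun _ k => k)
      (fun t ht => ?_) v (h.le_comm hA (hV ▸ hv)))
    have k1 : t⁻¹ * (x * t * x⁻¹) ∈ T := T.mul_mem (T.inv_mem ht) (n0.conj_mem t ht x)
    refine ⟨k1, fun u hu => h.comm u hu _ (hb _ ⟨_, k1, rfl⟩ ?_)⟩
    rw [show t⁻¹ * (x * t * x⁻¹) = t⁻¹ * x * t⁻¹⁻¹ * x⁻¹ by group, map_mul, map_mul, map_mul, map_inv π t⁻¹, map_inv π x]
    exact mul_mem (n2.conj_mem _ hx _) (inv_mem hx)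

theorem boxR3_of {dU : PcD} (hU : BoxUT dU) (hCE : BoxCE) (hPG : BoxPG) (hAU : BoxAU) (hAG : BoxAG) : BoxR3 dU := by
  intro hL A _ _ hA h9 hI F hF hc hq hn
  have : Fact (Nat.Prime 2) := ⟨Nat.prime_two⟩
  obtain ⟨T, R, E, h⟩ := exists_su hA hF hn
  have nR := normal_of_sc h.sc
  have hk : ∀ x, QuotientGroup.mk' R x = 1 ↔ x ∈ R := QuotientGroup.eq_one_iff
  have hπ := QuotientGroup.mk'_surjective R
  have hB : IsPGroup 2 (A ⧸ R) := hA.to_quotient R
  have hcard := Subgroup.card_eq_card_quotient_mul_card_subgroup R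
  generalize QuotientGroup.mk' R = π at hk hπ
  obtain ⟨F', hF'⟩ := exists_fq (π := π) hA hF h.sc (fun x _ => hk x) (S' := ⊤) (Subgroup.map_top_of_surjective π hπ).symm
  obtain ⟨E', hE'⟩ := exists_fq (π := π) hA h.satE (H760.stronglyClosed_inf_sub h.sub h.sc)
    (fun x hx => (hk x).trans ⟨fun k => ⟨hx, k⟩, fun k => k.2⟩) rfl
  obtain ⟨D, hD, k1, k2⟩ := h.exists_pull hA hk hE'
  have h4 : 4 ≤ Nat.card F.core := by
    obtain ⟨n, hn⟩ := IsPGroup.iff_card.1 (hA.to_subgroup F.core)
    by_contra hlt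
    refine hq (bot_of_card hA hF hc H759.isNormal_core ?_)
    rw [hn] at hlt ⊢
    rcases n with _ | _ | n
    · exact one_dvd _
    · exact dvd_rfl
    · exact absurd (Nat.pow_le_pow_right two_pos (by omega : 2 ≤ n + 1 + 1)) hlt
  have hR4 := h4.trans (Subgroup.card_le_of_le h.le)
  have h7 : Nat.card (A ⧸ R) ≤ 2 ^ 7 := by nlinarith
  rcases hL.top _ (hB.to_subgroup _) ((Subgroup.card_le_card_group _).trans h7) D k1 k2 with ⟨w, hG⟩ | hg
  swap
  · exact h.real_good hA hI hc hq fun a ha => h.good_mod hA hk hF' hE' hD hg ha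
  have h64 : Nat.card (T.map π) = 64 := Subgroup.card_top.symm.trans (hU _ _ _ hG).card
  have hi := Subgroup.card_mul_index (T.map π)
  have hi0 : (T.map π).index ≠ 0 := Subgroup.index_ne_zero_of_finite
  obtain ⟨r, hr⟩ := IsPGroup.iff_card.1 (hA.to_subgroup R)
  have h8 : (T.map π).index * Nat.card R ≤ 8 := by
    rw [hcard, ← hi, h64, mul_assoc] at h9
    omega
  have hR : Nat.card R = 4 ∨ Nat.card R = 8 := by
    have k3 : Nat.card R ≤ 8 := le_trans (Nat.le_mul_of_pos_left _ (Nat.pos_of_ne_zero hi0)) h8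
    rw [hr] at hR4 k3 ⊢
    have k4 : r ≤ 3 := (Nat.pow_le_pow_iff_right one_lt_two).1 k3
    interval_cases r <;> omega
  have idx : (T.map π).index = 1 ∨ (T.map π).index = 2 ∧ Nat.card R = 4 := by
    rcases hR with k | k <;> rw [k] at h8 <;> omega
  by_cases ab : ∀ x ∈ R, ∀ y ∈ R, x * y = y * x
  · by_cases hq' : F'.core = ⊥
    · exact h.real_bad hL hU hCE hPG hAU hAG hA hB h7 hπ hk hF' hE'
        (H759.isNormal_of_abelian (hA.to_subgroup _) hF h.sc (comm_bot ab)) ab hq' hG
        (idx.elim (fun k => k ▸ one_dvd _) fun k => k.1 ▸ dvd_rfl)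
    · exact h.real_core hA hI hc h4 hB hπ hk hF' hE' hq' hcard idx
  have r8 : Nat.card R = 8 := hR.resolve_left fun k => ab fun x hx y hy =>
    congrArg Subtype.val (IsPGroup.commutative_of_card_eq_prime_sq (p := 2) k ⟨x, hx⟩ ⟨y, hy⟩)
  have i1 : T.map π = ⊤ := Subgroup.index_eq_one.1 (idx.resolve_right fun k => by omega)
  exact real_swap hA hI hF hc h.scT h.sc (fun e => h.nle (e ▸ bot_le))
    (by rw [sup_comm, ← comap_map_of hk, i1, Subgroup.comap_top]) r8 ab (h.normalV hA)
    (fun v hv => ⟨hv.2, fun y hy => (h.comm v hv.1 y hy).symm⟩) h.le h4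

end Cfsg.Agent.FS.N.R
end
end

-- part: FS/N/A/Fin
section
set_option linter.all false

/-!
# S5288 from the levels (helper49, project FS)
-/

set_option autoImplicit false

namespace Cfsg.Agent.FS.N.A

open Cfsg Cfsg.Agent.FS.Real Cfsg.Agent.FS.N.M

universe u

theorem boxR3 : BoxR3 dU34 := R.boxR3_of R.boxUT R.boxCE R.boxPG R.boxAU R.boxAG

/-- **S5288 from the levels `3` to `9`.** -/
theorem final (h3 : Lev 3 (Ents3.map Prod.fst)) (h4 : Lev 4 (Ents4.map Prod.fst)) (h5 : Lev 5 (Ents5.map Prod.fst))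
    (h6 : Lev 6 (Ents6.map Prod.fst)) (h7 : Lev 7 (Ents7.map Prod.fst)) {L8 L9 : List Ent} (h8 : Lev 8 L8)
    (h9 : Lev 9 L9) {Ω : Type u} [Group Ω] {S : Subgroup Ω} [Finite S] (hS : IsPGroup 2 S) (F : FusionSystem S)
    (hF : F.IsSaturated 2) (hcard : Nat.card S ≤ 2 ^ 9) : F.IsRealizable 2 :=
  final_of R.boxFP D.boxD2 boxR3 (low h3 h4 h5 h6 h7) (base_of_lev fun n hn => by
    interval_cases n
    exacts [⟨_, G.lev0⟩, ⟨_, G.lev1⟩, ⟨_, G.lev2⟩, ⟨_, h3⟩, ⟨_, h4⟩, ⟨_, h5⟩, ⟨_, h6⟩, ⟨_, h7⟩, ⟨_, h8⟩, ⟨_, h9⟩])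
    hS F hF hcard

end Cfsg.Agent.FS.N.A
end

-- part: S5288
section
set_option linter.all false
open scoped Cfsg.Agent.FastGrp
private noncomputable def lq260d0090aa {T : Sort _} (f :
    type_of% (@_root_.Cfsg.Agent.FS.NB.Ct.kil) →
    type_of% (@_root_.Cfsg.Agent.FS.NB.sl) →
    type_of% (@_root_.Cfsg.Agent.FS.NB.Ct.cons) →
    type_of% (@_root_.Cfsg.Agent.FS.NB.Ct.nil) →
    type_of% (@_root_.Cfsg.Agent.FS.NB.Ct.br) →
    type_of% (@_root_.Cfsg.Agent.FS.NB.Ct.v1) →
    type_of% (@_root_.Cfsg.Agent.FS.NB.Ct.ur) →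
    type_of% (@_root_.List.cons.{0}) →
    type_of% (@_root_.Cfsg.Agent.FS.NB.Ct.lf) →
    type_of% (@_root_.Cfsg.Agent.FS.NB.Ct.mc) →
    type_of% (@_root_.List.nil.{0}) →
    type_of% (@_root_.Cfsg.Agent.FS.NB.Ct.ine) →
    type_of% (@_root_.Cfsg.Agent.FS.NB.Ct.ref) →
    type_of% (@_root_.Cfsg.Agent.FS.NB.Vd.mk) →
    type_of% (@_root_.Cfsg.Agent.FS.NB.Ds.mk) →
    type_of% (@_root_.Cfsg.Agent.FS.NB.Nd.mk) →
    type_of% (@_root_.Cfsg.Agent.FS.NB.Gh.mk) →
    type_of% (@_root_.Bool.false) → T) : T :=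
  f (@_root_.Cfsg.Agent.FS.NB.Ct.kil) (@_root_.Cfsg.Agent.FS.NB.sl) (@_root_.Cfsg.Agent.FS.NB.Ct.cons) (@_root_.Cfsg.Agent.FS.NB.Ct.nil) (@_root_.Cfsg.Agent.FS.NB.Ct.br) (@_root_.Cfsg.Agent.FS.NB.Ct.v1) (@_root_.Cfsg.Agent.FS.NB.Ct.ur) (@_root_.List.cons.{0}) (@_root_.Cfsg.Agent.FS.NB.Ct.lf) (@_root_.Cfsg.Agent.FS.NB.Ct.mc) (@_root_.List.nil.{0}) (@_root_.Cfsg.Agent.FS.NB.Ct.ine) (@_root_.Cfsg.Agent.FS.NB.Ct.ref) (@_root_.Cfsg.Agent.FS.NB.Vd.mk) (@_root_.Cfsg.Agent.FS.NB.Ds.mk) (@_root_.Cfsg.Agent.FS.NB.Nd.mk) (@_root_.Cfsg.Agent.FS.NB.Gh.mk) (@_root_.Bool.false)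

-- part: FS/N/B/D/F9
section
set_option maxRecDepth 100000
set_option linter.all false
set_option Elab.async false

namespace Cfsg.Agent.FS.NB.D

private noncomputable def _root_.Cfsg.Agent.LsF.f1e0820_4 : {f // @Cfsg.Agent.FS.Pc.par = f} := ⟨_, by first | (delta Cfsg.Agent.FS.Pc.par Cfsg.Agent.FS.Pc.par._f Nat.brecOn.go Nat.brecOn; rewrite [Cfsg.Agent.LsF.testBit_eq, Cfsg.Agent.LsF.bxor_eq]; (try delta Cfsg.Agent.FS.Pc.el.match_1); (try delta Nat.casesOn); first | dsimp -zeta only | exact rfl) | exact rfl⟩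
private noncomputable def _root_.Cfsg.Agent.LsF.f1e0820_5 : {f // @Cfsg.Agent.FS.NB.parT = f} := ⟨_, by first | (delta Cfsg.Agent.FS.NB.parT; rewrite [Cfsg.Agent.LsF.f1e0820_4.2]; exact rfl) | exact rfl⟩
private noncomputable def _root_.Cfsg.Agent.LsF.f1e0820_6 : {f // @Cfsg.Agent.FS.Real.PcD.N = f} := ⟨_, by first | (delta Cfsg.Agent.FS.Real.PcD.N; rewrite [Cfsg.Agent.LsF.npow_pat]; exact rfl) | exact rfl⟩
private noncomputable def _root_.Cfsg.Agent.LsF.f1e0820_7 : {f // @Cfsg.Agent.FS.Real.allB = f} := ⟨_, by first | (delta Cfsg.Agent.FS.Real.allB; rewrite [Cfsg.Agent.LsF.and_eq]; exact rfl) | exact rfl⟩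
private noncomputable def _root_.Cfsg.Agent.LsF.f1e0820_8 : {f // @Cfsg.Agent.FS.Real.tb = f} := ⟨_, by first | (delta Cfsg.Agent.FS.Real.tb; rewrite [Cfsg.Agent.LsF.nmod_pat, Cfsg.Agent.LsF.nshr_pat]; exact rfl) | exact rfl⟩
private noncomputable def _root_.Cfsg.Agent.LsF.f1e0820_9 : {f // @Cfsg.Agent.FS.Asm.imgT = f} := ⟨_, by first | (delta Cfsg.Agent.FS.Asm.imgT; rewrite [Cfsg.Agent.LsF.f1e0820_8.2, Cfsg.Agent.LsF.cond_eq]; exact rfl) | exact rfl⟩
private noncomputable def _root_.Cfsg.Agent.LsF.f1e0820_10 : {f // @Cfsg.Agent.FS.Real.get = f} := ⟨_, by first | (delta Cfsg.Agent.FS.Real.get; rewrite [Cfsg.Agent.LsF.nmul_pat, Cfsg.Agent.LsF.nmod_pat, Cfsg.Agent.LsF.npow_pat, Cfsg.Agent.LsF.nshr_pat]; exact rfl) | exact rfl⟩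
private noncomputable def _root_.Cfsg.Agent.LsF.f1e0820_11 : {f // @Cfsg.Agent.FS.Real.PcD.rel = f} := ⟨_, by first | (delta Cfsg.Agent.FS.Real.PcD.rel; rewrite [Cfsg.Agent.LsF.f1e0820_10.2, Cfsg.Agent.LsF.nadd_pat, Cfsg.Agent.LsF.nmul_pat]; exact rfl) | exact rfl⟩
private noncomputable def _root_.Cfsg.Agent.LsF.f1e0820_12 : {f // @Cfsg.Agent.FS.Asm.chkT = f} := ⟨_, by first | (delta Cfsg.Agent.FS.Asm.chkT; rewrite [Cfsg.Agent.LsF.f1e0820_6.2, Cfsg.Agent.LsF.f1e0820_7.2, Cfsg.Agent.LsF.f1e0820_9.2, Cfsg.Agent.LsF.f1e0820_11.2, Cfsg.Agent.LsF.and_eq, Cfsg.Agent.LsF.not_eq, Cfsg.Agent.LsF.all_eq]; exact rfl) | exact rfl⟩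
private noncomputable def _root_.Cfsg.Agent.LsF.f1e0820_13 : {f // @Cfsg.Agent.FS.NB.Gp.ker = f} := ⟨_, by first | (delta Cfsg.Agent.FS.NB.Gp.ker; rewrite [Cfsg.Agent.LsF.f1e0820_9.2]; exact rfl) | exact rfl⟩
private noncomputable def _root_.Cfsg.Agent.LsF.f1e0820_14 : {f // @Cfsg.Agent.FS.NB.Gp.vdE = f} := ⟨_, by first | (delta Cfsg.Agent.FS.NB.Gp.vdE; rewrite [Cfsg.Agent.LsF.f1e0820_6.2, Cfsg.Agent.LsF.f1e0820_12.2, Cfsg.Agent.LsF.f1e0820_13.2, Cfsg.Agent.LsF.length_eq]; exact rfl) | exact rfl⟩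
private noncomputable def _root_.Cfsg.Agent.LsF.f1e0820_15 : {f // @Cfsg.Agent.FS.NB.Gp.vds = f} := ⟨_, by first | (delta Cfsg.Agent.FS.NB.Gp.vds; rewrite [Cfsg.Agent.LsF.f1e0820_5.2, Cfsg.Agent.LsF.f1e0820_14.2, Cfsg.Agent.LsF.length_eq]; exact rfl) | exact rfl⟩
private noncomputable def _root_.Cfsg.Agent.LsF.f1e0820_16 : {f // @Cfsg.Agent.FS.NB.Gh.finR = f} := ⟨_, by first | (delta Cfsg.Agent.FS.NB.Gh.finR; rewrite [Cfsg.Agent.LsF.f1e0820_15.2, Cfsg.Agent.LsF.instNBEq_pat, Cfsg.Agent.LsF.beq_eq]; exact rfl) | exact rfl⟩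
theorem fc220 : ClF 9 cc220.R true [] :=
  Gh.clR bc220 sc220 (E := []) (fun _ h => nomatch h) (vs := [⟨0x20001000200010, 0x1000080004000800540, 0, 0, 0, 0, 0, [], 0⟩,
 ⟨0x20001000200010, 0x1000080004000800540, 0, 0, 0, 0, 0, [], 0⟩]) (by ((try (rewrite [Cfsg.Agent.LsF.f1e0820_16.2])); decide +kernel))
private noncomputable def _root_.Cfsg.Agent.LsF.f1e0820_0 : {f // @Cfsg.Agent.FS.Pc.tri = f} := ⟨_, by first | (delta Cfsg.Agent.FS.Pc.tri; rewrite [Cfsg.Agent.LsF.nadd_pat, Cfsg.Agent.LsF.nmul_pat, Cfsg.Agent.LsF.ndiv_pat]; exact rfl) | exact rfl⟩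
private noncomputable def _root_.Cfsg.Agent.LsF.f1e0820_32 : {f // @Cfsg.Agent.FS.NB.Gp.ok = f} := ⟨_, by first | (delta Cfsg.Agent.FS.NB.Gp.ok; rewrite [Cfsg.Agent.LsF.f1e0820_0.2]; exact rfl) | exact rfl⟩
private noncomputable def _root_.Cfsg.Agent.LsF.f1e0820_33 : {f // @Cfsg.Agent.FS.NB.Gp.cln = f} := ⟨_, by first | (delta Cfsg.Agent.FS.NB.Gp.cln; rewrite [Cfsg.Agent.LsF.f1e0820_5.2]; exact rfl) | exact rfl⟩
private noncomputable def _root_.Cfsg.Agent.LsF.f1e0820_34 : {f // @Cfsg.Agent.FS.NB.Gh.cln = f} := ⟨_, by first | (delta Cfsg.Agent.FS.NB.Gh.cln; rewrite [Cfsg.Agent.LsF.f1e0820_32.2, Cfsg.Agent.LsF.f1e0820_33.2]; exact rfl) | exact rfl⟩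
theorem tc220 : Cm 9 cc220.R I8 [] :=
  .of_p fc220 (Gh.clN (c := cc220) (by ((try (rewrite [Cfsg.Agent.LsF.f1e0820_34.2])); decide +kernel)))
theorem fc223 : ClF 9 cc223.R false [] :=
  Gh.clR bc223 sc223 (E := []) (fun _ h => nomatch h) (vs := [⟨0x1000080004000800540, 0x20001000200010, 0, 0, 0, 0, 0, [], 0⟩,
 ⟨0x1000080004000800540, 0x20001000200010, 0, 0, 0, 0, 0, [], 0⟩,
 ⟨0x140008001400080, 0x20001000200010, 0, 0, 0, 0, 0, [], 0⟩,
 ⟨0x140008001400080, 0x20001000200010, 0, 0, 0, 0, 0, [], 0⟩]) (by ((try (rewrite [Cfsg.Agent.LsF.f1e0820_16.2])); decide +kernel))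
theorem tc223 {I} : Cm 9 cc223.R I [] := .of_f fc223
theorem fc262 : ClF 9 cc262.R false (N.M.E_eL454.map Prod.fst) :=
  Gh.clR bc262 sc262 N.M.E_eL454_ok (vs := [⟨0, 0, 0, 0, (sl 0x1000300050066000d013801a601050024128a0e89), 0x10000900050003005500300, 16, [0], 0x1000000000001⟩]) (by ((try (rewrite [Cfsg.Agent.LsF.f1e0820_16.2])); decide +kernel))
theorem tc262 {I} : Cm 9 cc262.R I (N.M.E_eL454.map Prod.fst) := .of_f fc262
theorem ic262 : InI 9 cc262.R I9 := Gh.inI (c := cc262) (by decide +kernel)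
theorem fc265 : ClF 9 cc265.R false (N.M.E_dS63.map Prod.fst) :=
  Gh.clR bc265 sc265 N.M.E_dS63_ok (vs := [⟨0, 0, 0, 0, (sl 0x10002003400250017003d012200b000fd067824bb), 0, 0, [0], 0⟩]) (by ((try (rewrite [Cfsg.Agent.LsF.f1e0820_16.2])); decide +kernel))
theorem tc265 {I} : Cm 9 cc265.R I (N.M.E_dS63.map Prod.fst) := .of_f fc265
theorem ic265 : InI 9 cc265.R I9 := Gh.inI (c := cc265) (by decide +kernel)
private noncomputable def _root_.Cfsg.Agent.LsF.f1e0820_17 : {f // @Cfsg.Agent.FS.NB.Gh.aft = f} := ⟨_, by first | (delta Cfsg.Agent.FS.NB.Gh.aft; rewrite [Cfsg.Agent.LsF.foldl_eq]; exact rfl) | exact rfl⟩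
private noncomputable def _root_.Cfsg.Agent.LsF.f1e0820_60 : {f // @Cfsg.Agent.FS.NB.D.lc370_0 = f} := ⟨_, by first | (delta Cfsg.Agent.FS.NB.D.lc370_0; rewrite [Cfsg.Agent.LsF.f1e0820_17.2]; exact rfl) | exact rfl⟩
private noncomputable def _root_.Cfsg.Agent.LsF.f1e0820_61 : {f // @Cfsg.Agent.FS.NB.D.lc370_1 = f} := ⟨_, by first | (delta Cfsg.Agent.FS.NB.D.lc370_1; rewrite [Cfsg.Agent.LsF.f1e0820_17.2, Cfsg.Agent.LsF.f1e0820_60.2]; exact rfl) | exact rfl⟩
private noncomputable def _root_.Cfsg.Agent.LsF.f1e0820_62 : {f // @Cfsg.Agent.FS.NB.D.lc370_2 = f} := ⟨_, by first | (delta Cfsg.Agent.FS.NB.D.lc370_2; rewrite [Cfsg.Agent.LsF.f1e0820_17.2, Cfsg.Agent.LsF.f1e0820_61.2]; exact rfl) | exact rfl⟩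
private noncomputable def _root_.Cfsg.Agent.LsF.f1e0820_63 : {f // @Cfsg.Agent.FS.NB.D.lc370_3 = f} := ⟨_, by first | (delta Cfsg.Agent.FS.NB.D.lc370_3; rewrite [Cfsg.Agent.LsF.f1e0820_17.2, Cfsg.Agent.LsF.f1e0820_62.2]; exact rfl) | exact rfl⟩
private noncomputable def _root_.Cfsg.Agent.LsF.f1e0820_64 : {f // @Cfsg.Agent.FS.NB.D.lc370_4 = f} := ⟨_, by first | (delta Cfsg.Agent.FS.NB.D.lc370_4; rewrite [Cfsg.Agent.LsF.f1e0820_17.2, Cfsg.Agent.LsF.f1e0820_63.2]; exact rfl) | exact rfl⟩
private noncomputable def _root_.Cfsg.Agent.LsF.f1e0820_65 : {f // @Cfsg.Agent.FS.NB.D.lc370_5 = f} := ⟨_, by first | (delta Cfsg.Agent.FS.NB.D.lc370_5; rewrite [Cfsg.Agent.LsF.f1e0820_17.2, Cfsg.Agent.LsF.f1e0820_64.2]; exact rfl) | exact rfl⟩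
private noncomputable def _root_.Cfsg.Agent.LsF.f1e0820_66 : {f // @Cfsg.Agent.FS.NB.D.lc370_6 = f} := ⟨_, by first | (delta Cfsg.Agent.FS.NB.D.lc370_6; rewrite [Cfsg.Agent.LsF.f1e0820_17.2, Cfsg.Agent.LsF.f1e0820_65.2]; exact rfl) | exact rfl⟩
private noncomputable def _root_.Cfsg.Agent.LsF.f1e0820_67 : {f // @Cfsg.Agent.FS.NB.D.lc370_7 = f} := ⟨_, by first | (delta Cfsg.Agent.FS.NB.D.lc370_7; rewrite [Cfsg.Agent.LsF.f1e0820_17.2, Cfsg.Agent.LsF.f1e0820_66.2]; exact rfl) | exact rfl⟩
private noncomputable def _root_.Cfsg.Agent.LsF.f1e0820_68 : {f // @Cfsg.Agent.FS.NB.D.lc370_8 = f} := ⟨_, by first | (delta Cfsg.Agent.FS.NB.D.lc370_8; rewrite [Cfsg.Agent.LsF.f1e0820_17.2, Cfsg.Agent.LsF.f1e0820_67.2]; exact rfl) | exact rfl⟩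
private noncomputable def _root_.Cfsg.Agent.LsF.f1e0820_69 : {f // @Cfsg.Agent.FS.NB.D.lc370_9 = f} := ⟨_, by first | (delta Cfsg.Agent.FS.NB.D.lc370_9; rewrite [Cfsg.Agent.LsF.f1e0820_17.2, Cfsg.Agent.LsF.f1e0820_68.2]; exact rfl) | exact rfl⟩
private noncomputable def _root_.Cfsg.Agent.LsF.f1e0820_70 : {f // @Cfsg.Agent.FS.NB.D.lc370 = f} := ⟨_, by first | (delta Cfsg.Agent.FS.NB.D.lc370; rewrite [Cfsg.Agent.LsF.f1e0820_69.2]; exact rfl) | exact rfl⟩
theorem fc370 : ClF 9 cc370.R false [] :=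
  Gh.clR bc370 sc370 (E := []) (fun _ h => nomatch h) (vs := (beta% delta% lq260d0090aa fun _ _ _ _ _ _ _ h _ _ k _ _ n _ _ _ _ =>
 (h (n 0x80000800800008 0x20000400200004 0 0 0 0 0 k 0)<|
 h (n 0x100008001000080 0x20000400200004 0 0 0 0 0 k 0)<|
 h (n 0x100008001000080 0x50002000500020 0 0 0 0 0 k 0)<|
 h (n 0x100008001000080 0x20000400200004 0 0 0 0 0 k 0)<|
 h (n 0x100008001000080 0x20000400200004 0 0 0 0 0 k 0)<|
 h (n 0x100008001000080 0x20000400200004 0 0 0 0 0 k 0)<|
 h (n 0x100008001000080 0x50002000500020 0 0 0 0 0 k 0)<|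
 h (n 0x80000800800008 0x50002000500020 0 0 0 0 0 k 0)<|k))) (by ((try (rewrite [Cfsg.Agent.LsF.f1e0820_16.2, Cfsg.Agent.LsF.f1e0820_70.2])); decide +kernel))
theorem tc370 {I} : Cm 9 cc370.R I [] := .of_f fc370
theorem fc1091 : ClF 9 cc1091.R true [] :=
  Gh.clR bc1091 sc1091 (E := []) (fun _ h => nomatch h) (vs := [⟨0x100008001000080, 0x40002000400020, 0, 0, 0, 0, 0, [], 0⟩]) (by ((try (rewrite [Cfsg.Agent.LsF.f1e0820_16.2])); decide +kernel))
theorem tc1091 : Cm 9 cc1091.R I8 [] :=
  .of_p fc1091 (Gh.clN (c := cc1091) (by ((try (rewrite [Cfsg.Agent.LsF.f1e0820_34.2])); decide +kernel)))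
theorem fc1093 : ClF 9 cc1093.R true [] :=
  Gh.clR bc1093 sc1093 (E := []) (fun _ h => nomatch h) (vs := [⟨0x100008001000080, 0x40002000400020, 0, 0, 0, 0, 0, [], 0⟩]) (by ((try (rewrite [Cfsg.Agent.LsF.f1e0820_16.2])); decide +kernel))
theorem tc1093 : Cm 9 cc1093.R I8 [] :=
  .of_p fc1093 (Gh.clN (c := cc1093) (by ((try (rewrite [Cfsg.Agent.LsF.f1e0820_34.2])); decide +kernel)))
theorem fc1552 : ClF 9 cc1552.R false [] :=
  Gh.clR bc1552 sc1552 (E := []) (fun _ h => nomatch h) (vs := [⟨0xb4004100b40041, 0xa0004900a00049, 0, 0, 0, 0, 0, [], 0⟩]) (by ((try (rewrite [Cfsg.Agent.LsF.f1e0820_16.2])); decide +kernel))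
theorem tc1552 {I} : Cm 9 cc1552.R I [] := .of_f fc1552
theorem fc1674 : ClF 9 cc1674.R false (N.M.E_d9.map Prod.fst) :=
  Gh.clR bc1674 sc1674 N.M.E_d9_ok (vs := (beta% delta% lq260d0090aa fun _ b _ _ _ _ _ h _ _ k _ _ n _ _ _ _ =>
 (h (n 0 0 0 0 (b 0x100020009001100040101004b00820025082a08d6) 0 0 (h 0<|h 1<|h 2<|k) 0)<|
 h (n 0 0 0 0 (b 0x100020009001100040101004b00820025082a08d6) 0 0 (h 0<|h 1<|h 2<|k) 0)<|
 h (n 0 0 0 0 (b 0x100020009001100040101004b00820025082a08d6) 0 0 (h 0<|h 1<|h 2<|k) 0)<|k))) (by ((try (rewrite [Cfsg.Agent.LsF.f1e0820_16.2])); decide +kernel))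
theorem tc1674 {I} : Cm 9 cc1674.R I (N.M.E_d9.map Prod.fst) := .of_f fc1674
theorem ic1674 : InI 9 cc1674.R I9 := Gh.inI (c := cc1674) (by decide +kernel)
theorem fc1998 : ClF 9 cc1998.R false (N.M.E_eWb3.map Prod.fst) :=
  Gh.clR bc1998 sc1998 N.M.E_eWb3_ok (vs := [⟨0, 0, 0, 0, (sl 0x100060002001f000a01c5008500c600e70f9407e5), 0x1000080004000800540, 32, [0, 1], 0x1000000000001⟩,
 ⟨0, 0, 0, 0, (sl 0x100060002001f000a01c5008500c600e70f9407e5), 0x1000080004000800540, 32, [0, 1], 0x1000000000001⟩]) (by ((try (rewrite [Cfsg.Agent.LsF.f1e0820_16.2])); decide +kernel))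
theorem tc1998 {I} : Cm 9 cc1998.R I (N.M.E_eWb3.map Prod.fst) := .of_f fc1998
theorem ic1998 : InI 9 cc1998.R I9 := Gh.inI (c := cc1998) (by decide +kernel)
theorem fc2029 : ClF 9 cc2029.R false (N.M.E_eL433.map Prod.fst) :=
  Gh.clR bc2029 sc2029 N.M.E_eL433_ok (vs := (beta% delta% lq260d0090aa fun _ b _ _ _ _ _ h _ _ k _ _ n _ _ _ _ =>
 (h (n 0x101001c0101001c 0x109001801090018 0x4000000000 0 0 0 0 k 0)<|
 h (n 0 0 0 2 (b 0x100020006001d00150109004400f7002309f308e3) 0x1000080004000800540 32 (h 1<|h 2<|k) 0x1000000000001)<|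
 h (n 0 0 0 2 (b 0x100020006001d00150109004400f7002309f308e3) 0x1000080004000800540 32 (h 1<|h 2<|k) 0x1000000000001)<|k))) (by ((try (rewrite [Cfsg.Agent.LsF.f1e0820_16.2])); decide +kernel))
theorem tc2029 {I} : Cm 9 cc2029.R I (N.M.E_eL433.map Prod.fst) := .of_f fc2029
theorem ic2029 : InI 9 cc2029.R I9 := Gh.inI (c := cc2029) (by decide +kernel)
theorem fc2034 : ClF 9 cc2034.R false (N.M.E_eL455.map Prod.fst) :=
  Gh.clR bc2034 sc2034 N.M.E_eL455_ok (vs := [⟨0, 0, 0, 0, (sl 0x100030006000d0044005d011d006200d904ef126d), 0x10000400020001005200150, 128, [0], 0x1000000000001⟩]) (by ((try (rewrite [Cfsg.Agent.LsF.f1e0820_16.2])); decide +kernel))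
theorem tc2034 {I} : Cm 9 cc2034.R I (N.M.E_eL455.map Prod.fst) := .of_f fc2034
theorem ic2034 : InI 9 cc2034.R I9 := Gh.inI (c := cc2034) (by decide +kernel)
theorem fc2312 : ClF 9 cc2312.R false [] :=
  Gh.clR bc2312 sc2312 (E := []) (fun _ h => nomatch h) (vs := [⟨0x80001000800010, 0x40002000400020, 0, 0, 0, 0, 0, [], 0⟩,
 ⟨0x100008001000080, 0x40002000400020, 0, 0, 0, 0, 0, [], 0⟩,
 ⟨0x80001000800010, 0x40002000400020, 0, 0, 0, 0, 0, [], 0⟩]) (by ((try (rewrite [Cfsg.Agent.LsF.f1e0820_16.2])); decide +kernel))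
theorem tc2312 {I} : Cm 9 cc2312.R I [] := .of_f fc2312
theorem fc2313 : ClF 9 cc2313.R true [] :=
  Gh.clR bc2313 sc2313 (E := []) (fun _ h => nomatch h) (vs := [⟨0x100008001000080, 0x40002000400020, 0, 0, 0, 0, 0, [], 0⟩]) (by ((try (rewrite [Cfsg.Agent.LsF.f1e0820_16.2])); decide +kernel))
theorem tc2313 : Cm 9 cc2313.R I8 [] :=
  .of_p fc2313 (Gh.clN (c := cc2313) (by ((try (rewrite [Cfsg.Agent.LsF.f1e0820_34.2])); decide +kernel)))
theorem fc2316 : ClF 9 cc2316.R true [] :=
  Gh.clR bc2316 sc2316 (E := []) (fun _ h => nomatch h) (vs := [⟨0x100008001000080, 0x40002000400020, 0, 0, 0, 0, 0, [], 0⟩]) (by ((try (rewrite [Cfsg.Agent.LsF.f1e0820_16.2])); decide +kernel))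
theorem tc2316 : Cm 9 cc2316.R I8 [] :=
  .of_p fc2316 (Gh.clN (c := cc2316) (by ((try (rewrite [Cfsg.Agent.LsF.f1e0820_34.2])); decide +kernel)))
theorem fc2317 : ClF 9 cc2317.R true [] :=
  Gh.clR bc2317 sc2317 (E := []) (fun _ h => nomatch h) (vs := [⟨0x100008001000080, 0x40002000400020, 0, 0, 0, 0, 0, [], 0⟩]) (by ((try (rewrite [Cfsg.Agent.LsF.f1e0820_16.2])); decide +kernel))
theorem tc2317 : Cm 9 cc2317.R I8 [] :=
  .of_p fc2317 (Gh.clN (c := cc2317) (by ((try (rewrite [Cfsg.Agent.LsF.f1e0820_34.2])); decide +kernel)))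
theorem fc2328 : ClF 9 cc2328.R true [] :=
  Gh.clR bc2328 sc2328 (E := []) (fun _ h => nomatch h) (vs := [⟨0x40002000400020, 0x100008001000080, 0, 0, 0, 0, 0, [], 0⟩]) (by ((try (rewrite [Cfsg.Agent.LsF.f1e0820_16.2])); decide +kernel))
theorem tc2328 : Cm 9 cc2328.R I8 [] :=
  .of_p fc2328 (Gh.clN (c := cc2328) (by ((try (rewrite [Cfsg.Agent.LsF.f1e0820_34.2])); decide +kernel)))
theorem fc2329 : ClF 9 cc2329.R true [] :=
  Gh.clR bc2329 sc2329 (E := []) (fun _ h => nomatch h) (vs := [⟨0x100008001000080, 0x40002000400020, 0, 0, 0, 0, 0, [], 0⟩]) (by ((try (rewrite [Cfsg.Agent.LsF.f1e0820_16.2])); decide +kernel))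
theorem tc2329 : Cm 9 cc2329.R I8 [] :=
  .of_p fc2329 (Gh.clN (c := cc2329) (by ((try (rewrite [Cfsg.Agent.LsF.f1e0820_34.2])); decide +kernel)))
theorem fc2911 : ClF 9 cc2911.R false (N.M.E_eL450.map Prod.fst) :=
  Gh.clR bc2911 sc2911 N.M.E_eL450_ok (vs := [⟨0, 0, 0, 0, (sl 0x100020004000e004f005500be006b0169046c113b), 0x8000400020001002a00150, 256, [0], 0x1000000000002⟩]) (by ((try (rewrite [Cfsg.Agent.LsF.f1e0820_16.2])); decide +kernel))
theorem tc2911 {I} : Cm 9 cc2911.R I (N.M.E_eL450.map Prod.fst) := .of_f fc2911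
theorem ic2911 : InI 9 cc2911.R I9 := Gh.inI (c := cc2911) (by decide +kernel)
theorem fc3219 : ClF 9 cc3219.R false (N.M.E_eLd1.map Prod.fst) :=
  Gh.clR bc3219 sc3219 N.M.E_eLd1_ok (vs := [⟨0, 0, 0, 0, (sl 0x1000300040011008600d30009002a01a007691348), 0x8000400020004002a0, 256, [0], 0x1000000000001⟩]) (by ((try (rewrite [Cfsg.Agent.LsF.f1e0820_16.2])); decide +kernel))
theorem tc3219 {I} : Cm 9 cc3219.R I (N.M.E_eLd1.map Prod.fst) := .of_f fc3219
theorem ic3219 : InI 9 cc3219.R I9 := Gh.inI (c := cc3219) (by decide +kernel)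
theorem fc3222 : ClF 9 cc3222.R false (N.M.E_eLc7.map Prod.fst) :=
  Gh.clR bc3222 sc3222 N.M.E_eLc7_ok (vs := [⟨0, 0, 0, 0, (sl 0x1000300070011005700d30009002a017907691001), 0x8000400020004002a0, 256, [0, 1], 0x1000000000001⟩,
 ⟨0, 0, 0, 0, (sl 0x1000300070011005700d30009002a017907691001), 0x8000400020004002a0, 256, [0, 1], 0x1000000000001⟩]) (by ((try (rewrite [Cfsg.Agent.LsF.f1e0820_16.2])); decide +kernel))
theorem tc3222 {I} : Cm 9 cc3222.R I (N.M.E_eLc7.map Prod.fst) := .of_f fc3222
theorem ic3222 : InI 9 cc3222.R I9 := Gh.inI (c := cc3222) (by decide +kernel)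
theorem fc3223 : ClF 9 cc3223.R false (N.M.E_eLe1.map Prod.fst) :=
  Gh.clR bc3223 sc3223 N.M.E_eLe1_ok (vs := [⟨0, 0, 0, 0, (sl 0x100030006000d001b00ad00ce002101af063e0db7), 0x8000400020004002a0, 256, [0], 0x1000000000001⟩]) (by ((try (rewrite [Cfsg.Agent.LsF.f1e0820_16.2])); decide +kernel))
theorem tc3223 {I} : Cm 9 cc3223.R I (N.M.E_eLe1.map Prod.fst) := .of_f fc3223
theorem ic3223 : InI 9 cc3223.R I9 := Gh.inI (c := cc3223) (by decide +kernel)
theorem fc3224 : ClF 9 cc3224.R false (N.M.E_eLd7.map Prod.fst) :=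
  Gh.clR bc3224 sc3224 N.M.E_eLd7_ok (vs := [⟨0, 0, 0, 0, (sl 0x100020006000f001d004300c60020012103e00d33), 0x8000400020004002a0, 256, [0, 1], 0x1000000000001⟩,
 ⟨0, 0, 0, 0, (sl 0x100020006000f001d004300c60020012103e00d33), 0x8000400020004002a0, 256, [0, 1], 0x1000000000001⟩]) (by ((try (rewrite [Cfsg.Agent.LsF.f1e0820_16.2])); decide +kernel))
theorem tc3224 {I} : Cm 9 cc3224.R I (N.M.E_eLd7.map Prod.fst) := .of_f fc3224
theorem ic3224 : InI 9 cc3224.R I9 := Gh.inI (c := cc3224) (by decide +kernel)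
theorem fc3239 : ClF 9 cc3239.R false (N.M.E_dHS.map Prod.fst) :=
  Gh.clR bc3239 sc3239 N.M.E_dHS_ok (vs := [⟨0, 0, 0, 0, (sl 0x1000200140012000f003200a20049011503ff11eb), 0, 0, [0], 0⟩]) (by ((try (rewrite [Cfsg.Agent.LsF.f1e0820_16.2])); decide +kernel))
theorem tc3239 {I} : Cm 9 cc3239.R I (N.M.E_dHS.map Prod.fst) := .of_f fc3239
theorem ic3239 : InI 9 cc3239.R I9 := Gh.inI (c := cc3239) (by decide +kernel)
theorem fc3250 : ClF 9 cc3250.R false [] :=
  Gh.clR bc3250 sc3250 (E := []) (fun _ h => nomatch h) (vs := [⟨0x89002500890025, 0x81002000810020, 0x14000000000, 0, 0, 0, 0, [], 0⟩]) (by ((try (rewrite [Cfsg.Agent.LsF.f1e0820_16.2])); decide +kernel))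
theorem tc3250 {I} : Cm 9 cc3250.R I [] := .of_f fc3250
theorem fc3256 : ClF 9 cc3256.R false (N.M.E_eS440.map Prod.fst) :=
  Gh.clR bc3256 sc3256 N.M.E_eS440_ok (vs := [⟨0, 0, 0, 0, (sl 0x700260001000300120127000b008c005b192813e8), 0x10000800010000805100288, 64, [0], 0x1000000000001⟩]) (by ((try (rewrite [Cfsg.Agent.LsF.f1e0820_16.2])); decide +kernel))
theorem tc3256 {I} : Cm 9 cc3256.R I (N.M.E_eS440.map Prod.fst) := .of_f fc3256
theorem ic3256 : InI 9 cc3256.R I9 := Gh.inI (c := cc3256) (by decide +kernel)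
theorem fc3326 : ClF 9 cc3326.R false (N.M.E_dON.map Prod.fst) :=
  Gh.clR bc3326 sc3326 N.M.E_dON_ok (vs := [⟨0, 0, 0, 0, (sl 0x100030009000c003a00120044010b00c104080e95), 0, 0, [0], 0⟩]) (by ((try (rewrite [Cfsg.Agent.LsF.f1e0820_16.2])); decide +kernel))
theorem tc3326 {I} : Cm 9 cc3326.R I (N.M.E_dON.map Prod.fst) := .of_f fc3326
theorem ic3326 : InI 9 cc3326.R I9 := Gh.inI (c := cc3326) (by decide +kernel)
theorem fc3362 : ClF 9 cc3362.R false [] :=
  Gh.clR bc3362 sc3362 (E := []) (fun _ h => nomatch h) (vs := [⟨0x40000c0040000c, 0x50000800500008, 0, 0, 0, 0, 0, [], 0⟩]) (by ((try (rewrite [Cfsg.Agent.LsF.f1e0820_16.2])); decide +kernel))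
theorem tc3362 {I} : Cm 9 cc3362.R I [] := .of_f fc3362
theorem fc3367 : ClF 9 cc3367.R false (N.M.E_dL53.map Prod.fst) :=
  Gh.clR bc3367 sc3367 N.M.E_dL53_ok (vs := [⟨0x41000c0041000c, 0x51000800510008, 0, 0, 0, 0, 0, [], 0⟩,
 ⟨0xa0004100a00041, 0x80005100800051, 0, 0, 0, 0, 0, [], 0⟩,
 ⟨0, 0, 0, 0, (sl 0x1000300070008001d00530032010401e804e20b93), 0, 0, [2], 0⟩]) (by ((try (rewrite [Cfsg.Agent.LsF.f1e0820_16.2])); decide +kernel))
theorem tc3367 {I} : Cm 9 cc3367.R I (N.M.E_dL53.map Prod.fst) := .of_f fc3367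
theorem ic3367 : InI 9 cc3367.R I9 := Gh.inI (c := cc3367) (by decide +kernel)
theorem fc3371 : ClF 9 cc3371.R false (N.M.E_eS492.map Prod.fst) :=
  Gh.clR bc3371 sc3371 N.M.E_eS492_ok (vs := [⟨0x41000c0041000c, 0x51000800510008, 0, 0, 0, 0, 0, [], 0⟩,
 ⟨0, 0, 0, 0, (sl 0x100030006000b003100110112004000c0031f1042), 0x1000040002000400520, 128, [1], 0x1000000000001⟩]) (by ((try (rewrite [Cfsg.Agent.LsF.f1e0820_16.2])); decide +kernel))
theorem tc3371 {I} : Cm 9 cc3371.R I (N.M.E_eS492.map Prod.fst) := .of_f fc3371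
theorem ic3371 : InI 9 cc3371.R I9 := Gh.inI (c := cc3371) (by decide +kernel)
theorem fc3374 : ClF 9 cc3374.R false (N.M.E_eLf1.map Prod.fst) :=
  Gh.clR bc3374 sc3374 N.M.E_eLf1_ok (vs := [⟨0, 0, 0, 0, (sl 0x100030007000f001f003e01560183011605a710a7), 0x14000c0014000c0, 64, [0], 0x1000000000001⟩]) (by ((try (rewrite [Cfsg.Agent.LsF.f1e0820_16.2])); decide +kernel))
theorem tc3374 {I} : Cm 9 cc3374.R I (N.M.E_eLf1.map Prod.fst) := .of_f fc3374
theorem ic3374 : InI 9 cc3374.R I9 := Gh.inI (c := cc3374) (by decide +kernel)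
theorem fc3376 : ClF 9 cc3376.R false (N.M.E_eLe5.map Prod.fst) :=
  Gh.clR bc3376 sc3376 N.M.E_eLe5_ok (vs := [⟨0, 0, 0, 2, (sl 0x100030007000f001f003f00aa0181004005aa0c75), 0x140008001400080, 64, [0, 1], 0x1000000000001⟩,
 ⟨0, 0, 0, 2, (sl 0x100030007000f001f003f00aa0181004005aa0c75), 0x140008001400080, 64, [0, 1], 0x1000000000001⟩]) (by ((try (rewrite [Cfsg.Agent.LsF.f1e0820_16.2])); decide +kernel))
theorem tc3376 {I} : Cm 9 cc3376.R I (N.M.E_eLe5.map Prod.fst) := .of_f fc3376
theorem ic3376 : InI 9 cc3376.R I9 := Gh.inI (c := cc3376) (by decide +kernel)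
theorem fc3456 : ClF 9 cc3456.R false (N.M.E_eWc0.map Prod.fst) :=
  Gh.clR bc3456 sc3456 N.M.E_eWc0_ok (vs := [⟨0, 0, 0, 0, (sl 0x100020006000a001b0049006d014500b004a60ad3), 0, 0, [0], 0⟩]) (by ((try (rewrite [Cfsg.Agent.LsF.f1e0820_16.2])); decide +kernel))
theorem tc3456 {I} : Cm 9 cc3456.R I (N.M.E_eWc0.map Prod.fst) := .of_f fc3456
theorem ic3456 : InI 9 cc3456.R I9 := Gh.inI (c := cc3456) (by decide +kernel)
theorem fc3462 : ClF 9 cc3462.R false (N.M.E_eLd2.map Prod.fst) :=
  Gh.clR bc3462 sc3462 N.M.E_eLd2_ok (vs := [⟨0, 0, 0, 0, (sl 0x10003000600160036008e001d007301a806d60cde), 0x8000400020004002a0, 256, [0], 0x1000000000001⟩]) (by ((try (rewrite [Cfsg.Agent.LsF.f1e0820_16.2])); decide +kernel))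
theorem tc3462 {I} : Cm 9 cc3462.R I (N.M.E_eLd2.map Prod.fst) := .of_f fc3462
theorem ic3462 : InI 9 cc3462.R I9 := Gh.inI (c := cc3462) (by decide +kernel)
theorem fc3483 : ClF 9 cc3483.R false (N.M.E_eLe2.map Prod.fst) :=
  Gh.clR bc3483 sc3483 N.M.E_eLe2_ok (vs := [⟨0, 0, 0, 0, (sl 0x100030007000e001c003800d0007d01fc046a0ea4), 0x8000400020004002a0, 256, [0], 0x1000000000001⟩]) (by ((try (rewrite [Cfsg.Agent.LsF.f1e0820_16.2])); decide +kernel))
theorem tc3483 {I} : Cm 9 cc3483.R I (N.M.E_eLe2.map Prod.fst) := .of_f fc3483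
theorem ic3483 : InI 9 cc3483.R I9 := Gh.inI (c := cc3483) (by decide +kernel)
theorem fc3491 : ClF 9 cc3491.R false (N.M.E_eLf0.map Prod.fst) :=
  Gh.clR bc3491 sc3491 N.M.E_eLf0_ok (vs := [⟨0, 0, 0, 1, (sl 0x100030007000e001d003a007400ab019804a20c8d), 0x80004000800040, 256, [0], 0x1000000000001⟩,
 ⟨0, 0, 0, 0, (sl 0x100030007000e001d003a00740161019805580c8d), 0, 0, [1], 0⟩]) (by ((try (rewrite [Cfsg.Agent.LsF.f1e0820_16.2])); decide +kernel))
theorem tc3491 {I} : Cm 9 cc3491.R I (N.M.E_eLf0.map Prod.fst) := .of_f fc3491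
theorem ic3491 : InI 9 cc3491.R I9 := Gh.inI (c := cc3491) (by decide +kernel)
theorem fc3492 : ClF 9 cc3492.R false (N.M.E_eLf2.map Prod.fst) :=
  Gh.clR bc3492 sc3492 N.M.E_eLf2_ok (vs := [⟨0, 0, 0, 1, (sl 0x100020005000b0016002d005a00a5016e03930a38), 0x80004000800040, 256, [0], 0x1000000000001⟩,
 ⟨0, 0, 0, 0, (sl 0x100020005000b0016002d005a00a5016e03930a38), 0, 0, [1], 0⟩]) (by ((try (rewrite [Cfsg.Agent.LsF.f1e0820_16.2])); decide +kernel))
theorem tc3492 {I} : Cm 9 cc3492.R I (N.M.E_eLf2.map Prod.fst) := .of_f fc3492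
theorem ic3492 : InI 9 cc3492.R I9 := Gh.inI (c := cc3492) (by decide +kernel)

noncomputable def lF9 : List ℕ := (beta% delta% lq260d0090aa fun _ _ _ _ _ _ _ h _ _ k _ _ _ _ _ _ _ =>
 (h cc220.R<|h cc223.R<|h cc370.R<|h cc1091.R<|h cc1093.R<|h cc1552.R<|h cc2312.R<|h cc2313.R<|h cc2316.R<|h cc2317.R<|h cc2328.R<|h cc2329.R<|
 h cc3250.R<|h cc3362.R<|k))
theorem aF9 : Cms 9 I8 lF9 :=
  .cons tc220 <| .cons tc223 <| .cons tc370 <| .cons tc1091 <| .cons tc1093 <| .cons tc1552 <|
  .cons tc2312 <| .cons tc2313 <| .cons tc2316 <| .cons tc2317 <| .cons tc2328 <| .cons tc2329 <|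
  .cons tc3250 <| .cons tc3362 <| .nil

end Cfsg.Agent.FS.NB.D
end

-- part: FS/N/B/D/Nb0
section
set_option maxRecDepth 100000
set_option linter.all false
set_option Elab.async false

namespace Cfsg.Agent.FS.NB.D

noncomputable def cb133 : Gh := (beta% delta% lq260d0090aa fun _ b _ _ _ _ _ h _ _ k _ _ _ o _ q r =>
 (q 8 0x800440020001000080004000200010000002000100009000500020001000000120008000400020001000000080004000200010000000400020001000100020001000000010000 0xf100f000f300f200f400f500f600f700f800f900fa00fb00fd00fc00ff00fe00e300e200e100e000e600e700e400e500ea00eb00e800e900ef00ee00ed00ec00d300d200d100d000d600d700d400d500da00db00d800d900df00de00dd00dc00c300c200c100c000c600c700c400c500ca00cb00c800c900cf00ce00cd00cc00b400b500b600b700b100b000b300b200bc00bd00be00bf00b900b800bb00ba00a600a700a400a500a300a200a100a000ae00af00ac00ad00ab00aa00a900a800960097009400950093009200910090009e009f009c009d009b009a0099009800860087008400850083008200810080008e008f008c008d008b008a00890088007c007d007e0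07f00780079007a007b00750074007700760071007000730072006e006f006c006d006a006b0068006900670066006500640063006200610060005e005f005c005d005a005b0058005900570056005500540053005200510050004e004f004c004d004a004b0048004900470046004500440043004200410040003c003d003e003f00390038003b003a00340035003600370031003000330032002e002f002c002d002b002a0029002800260027002400250023002200210020001e001f001c001d001b001a0019001800160017001400150013001200110010000e000f000c000d000b000a0009000800060007000400050003000200010000 (h (h 0x900400020002000100010004500080048000428caad9c<|h 0x8c0080002000200010001000880004485441f4<|h 0x800080004000400012001000100002452a4512<|h 0x800080004000400022002000200002458a4562<|k)<|k)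
 (h (o 0x80002000100004029000a4 (b 0x102020000000000010001001d000200010001000000000001000100000001000100000000000231261d94) 0x8000300004 64)<|h (o 0x8000400010000202900142 (b 0x100010000000000010001244700020001020200000000000100010000000200010000000000013d002797) 0xc000840080 32)<|h (o 0x8000400020000202a00142 (b 0x100010000000000010001244700020001020200000000000100010000000200010000000000013d002797) 0xc000840080 16)<|h (o 0x40002000100008000400a80694 (b 0x1020229a0000100010001000000000001000104370002000102020000000000010001000000020001000000000001f0eb0fc3) 0x300004 128)<|k)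
 (o 0x8000400020001002a00150 (b 0x1020200000000000100010001000100010000000000020ce88302) 0xc0008000340030 0) r))
noncomputable def db133 : List Ds := (beta% delta% lq260d0090aa fun _ b _ _ _ _ _ h _ _ k _ _ _ o _ _ _ =>
 (h (o 0x8000100004000202840052 (b 0x1000100000000000100010001000200010000000000020cd00ce6) 0x800004 32)<|h (o 0x80002000040002028400a2 0 0x800004 16)<|h (o 0x4000200010000c015000ac 0 0x30000c 4)<|h (o 0x400010000c0002014c0052 0 12 4)<|h (o 0x400020000c0002014c00a2 0 12 4)<|h (o 0x4000100008000400020054066a (b 0x100010000000000010001020300020001020200000002000100000000000127393d8f) 4 32)<|h (o 0x40002000080004000200a4066a 0 4 16)<|k))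
noncomputable def pb133 : Ct := ((beta% delta% lq260d0090aa fun _ b c d e _ g _ i _ _ _ _ _ _ _ _ _ =>
 c 0 0 (e 0 (b 0x40000000010000004400000000000000100000a371) (b 0x100be000100b7000100ae000100a7000100bc000100ba000200ba000100b5000100b2000200b2000100ac000100aa000200aa000100a5000100a2000200a20001003e0002003a00020036000100320001002e0002002a0002002600010022000100b8000200b8000000b8000100b0000200b0000000b0000100a8000200a8000000a8000100a0000200a0000000a00001003c0000003c0002003800000038000200340000003400010030000000300001002c0000002c000200280000002800020024000000240001002000000020e7474d14) (c 32 0 (e 1 64 8 (c 1 0 (e 8 0 0 (c 8 0 (i (b 0x800010020004000030045016b)) (c 9 0 (i (b 0x80001000000000003000500cb)) d))) (c 8 1 (i (b 0x100010000000000030005001c)) d))) (c 36 0 (e 8 0 0 (c 8 0 (i (b 0x800010024004000030045017f)) (c 9 0 (i (b 0x80001000000000003000500cb)) d))) (c 40 0 (e 1 0 0 (c 1 0 (e 8 0 0 (c 8 0 (i (b 0x8000100280040000300450193)) (c 9 0 (i (b 0x80001000000000003000500cb)) d)))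 (c 8 1 (i (b 0x100010000000000030005001c)) (c 9 1 (i (b 0x100010000000000030005001c)) d)))) (c 44 0 (e 8 0 0 (c 8 0 (i (b 0x80001002c00400003004501a7)) (c 9 0 (i (b 0x80001000000000003000500cb)) d)))
 (c 48 0 (g (b 0x19009f000400130002002102871007)) (c 52 0 (g (b 0x19009f000400130003002102881007)) (c 56 0 (g (b 0x19009f000400130002002102871007)) (c 60 0 (g (b 0x19009f000400130003002102881007))
 (c 160 0 (e 1 0 0 (c 1 0 (i (b 0x8000100a000400003004503eb)) (c 9 0 (i (b 0x100010000000000030005001c)) d))) (c 176 0 (g (b 0x19009f00040013000a0021028f1007)) (c 168 0 (e 1 0 0 (c 1 0 (i (b 0x8000100a80040000300450413)) (c 9 0 (i (b 0x100010000000000030005001c)) d))) (c 184 0 (g (b 0x19009f00040013000a0021028f1007))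
 d)))))))))))))
 (c 8589934756 0 d
 (c 0 0 (g (b 0x5f006f007f000c001402370bd6))
 (c 0 0 (g (b 0x4f0053005f0002001401a109a6))
 (c 12884901940 0 d
 (c 0 0 (e 0 (b 0x10000000000000000000000900000010d) (b 0x1007e000100760001006e0001006600010079000000790001007100000071000100690000006900010061000000610001007f0000007f00010077000000770001006f0000006f00010067000000670001003e0001003a00010036000100320001002e0001002a000100260001002200010078000000780001007000000070000100680000006800010060000000600001003c0000003c0001003800000038000100340000003400010030000000300001002c0000002c0001002800000028000100240000002400010020000000206f805acc) (c 32 0 (e 1 0 0 (c 1 0 (e 2 32 0x1100000010 (c 2 0 (g (b 0x5f00040012001f000c00120002002130630576)) (c 3 0 (i (b 0x2000100000000000300050035)) (c 16 1 (i (b 0x20001002000800003008500d5)) (c 17 1 (i (b 0x20001002000800003008500d5))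
 d))))) d)) (c 36 0 (e 2 32 0x1100000010 (c 2 0 (g (b 0x5f00040012001f000c00120002002130630576)) (c 3 0 (i (b 0x2000100000000000300050035)) (c 16 1 (i (b 0x20001002400800003008500e9)) (c 17 1 (i (b 0x20001002400800003008500e9))
 d))))) (c 40 0 (e 1 0 0 (c 1 0 (e 2 32 0x1100000010 (c 2 0 (g (b 0x5f00040012001f000c00120002002130630576)) (c 3 0 (i (b 0x2000100000000000300050035)) (c 16 1 (i (b 0x20001002800800003008500fd)) (c 17 1 (i (b 0x20001002800800003008500fd))
 d))))) d)) (c 44 0 (e 2 32 0x1100000010 (c 2 0 (g (b 0x5f00040012001f000c00120002002130630576)) (c 3 0 (i (b 0x2000100000000000300050035)) (c 16 1 (i (b 0x20001002c0080000300850111)) (c 17 1 (i (b 0x20001002c0080000300850111))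
 d)))))
 (c 48 0 (g (b 0x5f00040012001f000c00120002002130630576)) (c 52 0 (g (b 0x5f00040012001f000c00120003002130640576)) (c 56 0 (g (b 0x5f00040012001f000c00120002002130630576)) (c 60 0 (g (b 0x5f00040012001f000c00120003002130640576))
 (c 96 0 (e 1 0 0 (c 1 0 (e 2 32 0x1100000010 (c 2 0 (g (b 0x5f00040012001f000c00120002002130630576)) (c 3 0 (i (b 0x2000100000000000300050035)) (c 16 1 (i (b 0x2000100600080000300850215)) (c 17 1 (i (b 0x2000100600080000300850215))
 d))))) d)) (c 104 0 (e 2 32 0x1100000010 (c 2 0 (g (b 0x5f00040012001f000c00120002002130630576)) (c 3 0 (i (b 0x2000100000000000300050035)) (c 16 1 (i (b 0x200010068008000030085023d)) (c 17 1 (i (b 0x200010068008000030085023d))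
 d))))) (c 112 0 (g (b 0x5f00040012001f000c00120002002130630576)) (c 120 0 (g (b 0x5f00040012001f000c00120003002130640576))
 d)))))))))))))
 (c 8589934756 0 d
 d))))))))
theorem bb133 : cb133.Base :=
  Gh.base (DL := db133) (C := (sl 0x800800008008000080080000800800008000000080000000800000008000000000000000000000000000000000000000000000000000000000000000000000007008000070080000700800007008000070000000700000007000000070000000000000000000000000000000000000000000000000000000000000000000000060080000600800006008000060080000600000006000000060000000600000000000000000000000000000000000000000000000000000000000000000000000000000000000000000000000000000000000000000000000000000000000000000000000000000000000000000000000500000005000000050000000500000000000000000000000000000000000000020000000200000002000000020000000000000000000000000000000000000004000000040000000400000004000000000000000000000000000000000000000100000001000000010000000100000000000000000000000000000000000000000000000000000000000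0000000000000000000000000000000000000000000000000000000000000000000000000000000000000000000000000000000000000000000000000000000000000000000000000000000000000000000000000000000000000000000000000000000000000000000000000000000000000000000000000000000000000000000000000000000000000000000000000000000000000000000000000000000000000000000000000000000000000000000000000000000000000000000000000000000000000000000000000000000000000000000000000000000000000000000000000000000000000000000000000000000000000000000000000000000000000000000000000000000000000000000000000000000000000000000000000000000000000000000000000000000000000000000000000000000000000000000000000000a0000000a0000000a0000000a0000000a0000000a0000000a0000000a00000009000000090000000900000009000000090000000900000009000000090000000300000003000000030000000300000003000000030000000300000003000000000000000000000000000000000000000000000000000000000000000000000002000000020000000200000002000000020000000200000002000000020000000100000001000000010000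0001000000010000000100000001000000010000000000000000000000000000000000000000000000000000000000000000000000000000000000000000000000000000000000000000000000000000000000000000000000000000000000000000000000000000000000000000000000000000000000000000000000000000000000000000000000000000000000000000000000000000000000000000000000000000000000000000000000000000000000000003000000030000000300000003000000030000000300000003000000030000000300000003000000030000000300000003000000030000000300000003000000000000000000000000000000000000000000000000000000000000000000000000000000000000000000000000000000000000000000000000000000000000000000000000000000000000000000000000000000000000000000000000000000000000000000000000000000000000000000000000000000000000000000000000000000000000000000000000000000000000000000000000000000000000000000000000000000000000000000000000000000000000000000000000000000000000000000000000000000000000000000000000000000000000000000000000000000000000000000000000000000000000000000000000000000000000000000000000000000000000000000000000000000000000000000000000000000000000000000000000000000000000000000000000000000000000000000000708e966))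 (pool := (sl 0x83004000110021000800040002000141ca228e00000081004000110021000800040002000140d0228e00000082004200210010000800040002000142dd21df000000000000000000000000000000000000000000005c5b603d)) (ps := pb133) (by decide +kernel)
noncomputable def nb133_0 : List Nd := (beta% delta% lq260d0090aa fun a b c d e f g h i _ k l _ _ _ p _ _ =>
 (h (p (h 0x900400020002000100010004500080048000428caad9c<|h 0x8c0080002000200010001000880004485441f4<|h 0x800080004000400012001000100002452a4512<|h 0x800080004000400022002000200002458a4562<|k) 0 0 0 0 0 392 (b 0x9000000010007000000010005000000010000000400030000000200000088004000200010000800050002000145b220ea00000000000000000000000000000000000000000000000000000000000000000000000000000000000000000000000000364c9852)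
 (g (b 0x8000010040000100100001003000014540009c))
 (c 0 0 (e 0 (b 0x100000000000000020000000000000008000002ab0) (b 0x200fc000200f4000200ec000200e4000100dc000100d40002007c000200740002006c000200640001005c00010054000200f9000000f9000200f1000000f1000200e9000000e9000200e1000000e1000100d9000000d9000100d1000000d1000000cb000000c9000000c3000000c10002007900000079000200710000007100020069000000690002006100000061000100590000005900010051000000510000004b000000490000004300000041000200fd000000fd000200f5000000f5000200ed000000ed000200e5000000e5000100dd000000dd000100d5000000d5000000cf000000cd000000c7000000c50002007d0000007d00020075000000750002006d0000006d00020065000000650001005d0000005d00010055000000550000004f0000004d0000004700000045000200f8000000f8000200f0000000f0000200e8000000e8000200e0000000e0000100d8000000d8000100d0000000d0000000ca000000c8000000c2000000c00002007800000078000200700000007000020068000000680002006000000060000100580000005800010050000000500000004a000000480000004200000040dd895e41) (c 64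 0 (e 1 64 8 (c 1 0 (e 8 0 0 (c 8 0 (e 2 64 10 (c 2 0 (e 128 0 0 (c 128 1 (g (b 0x2b00100012008500800022050d044b)) (a 129 0 (b 0x80000100000000000300050c83) (a 130 0 (b 0x80000100000000000300050c83) (a 131 0 (b 0x80000100000000000300050c83) (a 136 0 (b 0x80000100000000000300050c83) (a 137 0 (b 0x80000100000000000300050c83) (a 138 0 (b 0x80000100000000000300050c83) (a 139 0 (b 0x80000100000000000300050c83)
 d))))))))) (a 3 0 (b 0x2000100000000000300050035) (a 10 0 0x20001 d)))) (c 9 0 (i (b 0x80001000000000003000500cb)) d))) (c 8 1 (e 2 0 0 (c 2 0 (e 48 0 0 (c 48 0 (e 16 16 (b 0x29000000280000002100000020000018b2) (c 16 0 (e 4 0 0 (a 128 1 (b 0x40003000000000003000f0067) (a 129 1 (b 0x40003000000000003000f0067) (a 130 1 (b 0x40003000000000003000f0067) (a 131 1 (b 0x40003000000000003000f0067) (c 136 1 (l 0x50000) (c 137 1 (f 0xc0002000c0002 0x8000400020001002a00150 (b 0x50000000100000005000000870000) 1) (c 138 1 (f 0xc0002000c0002 0x8000400020001002a00150 0x2000000050000 1) (c 139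 1 (f 0xc0002000c0002 0x8000400020001002a00150 (b 0x50000000100000005000000870000) 1)
 d))))))))) (a 17 0 0x100001 (a 18 0 (b 0x10000100000000000300050193) (a 19 0 0x100001 (a 24 0 0x100001 (c 25 0 (f 0x2000100020001 0x8000400020001002a00150 (b 0x8000000050000000100000007000000050000163a0000) 1) (a 26 0 0x100001 (a 27 0 (b 0x110001000000000003000501ac)
 (a 32 0 0x100001 (a 33 0 0x100001 (a 40 0 0x100001 (a 41 0 0x100001 d))))))))))))) (a 49 0 0x300001 (a 50 0 (b 0x300001000000000003000504b3) (a 51 0 0x300001 (a 56 0 0x300001 (c 57 0 (f 0x3000080001000800f1 0x8000400020001002a00150 (b 0x50000000100000005000000870000) 1) (a 58 0 0x300001 (a 59 0 (b 0x310001000000000003000504cc)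
 d))))))))) (a 3 0 0x20001 (a 10 0 0x20001 (c 11 0 (f 0x2000100020001 0x8000400020001002a00150 (b 0x50000000100000005000000870000) 1)
 d))))) d))) (c 66 0 (e 1 64 8 (c 1 0 (e 8 0 0 (c 8 0 (e 2 64 10 (c 2 0 (e 128 0 0 (c 128 1 (g (b 0x2b00100012008500800022050d044b)) (a 129 0 (b 0x80000100000000000300050c83) (a 130 0 (b 0x80000100000000000300050c83) (a 131 0 (b 0x80000100000000000300050c83) (a 136 0 (b 0x80000100000000000300050c83) (a 137 0 (b 0x80000100000000000300050c83) (a 138 0 (b 0x80000100000000000300050c83) (a 139 0 (b 0x80000100000000000300050c83)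
 d))))))))) (a 3 0 (b 0x2000100000000000300050035) (a 10 0 0x20001 d)))) (c 9 0 (i (b 0x80001000000000003000500cb)) d))) (c 8 1 (e 2 0 0 (c 2 0 (e 48 0 0 (c 48 0 (e 16 16 (b 0x29000000280000002100000020000018b2) (c 16 0 (e 4 0 0 (a 128 1 (b 0x40003000000000003000f0067) (a 129 1 (b 0x40003000000000003000f0067) (a 130 1 (b 0x40003000000000003000f0067) (a 131 1 (b 0x40003000000000003000f0067) (c 136 1 (l 0x50000) (c 137 1 (f 0xc0002000c0002 0x8000400020001002a00150 (b 0x50000000100000005000000870000) 1) (c 138 1 (f 0xc0002000c0002 0x8000400020001002a00150 0x2000000050000 1) (c 139 1 (f 0xc0002000c0002 0x8000400020001002a00150 (b 0x50000000100000005000000870000) 1)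
 d))))))))) (a 17 0 0x100001 (a 18 0 (b 0x10000100000000000300050193) (a 19 0 0x100001 (a 24 0 0x100001 (c 25 0 (f 0x2000100020001 0x8000400020001002a00150 (b 0x8000000050000000100000007000000050000163a0000) 1) (a 26 0 0x100001 (a 27 0 (b 0x110001000000000003000501ac)
 (a 32 0 0x100001 (a 33 0 0x100001 (a 40 0 0x100001 (a 41 0 0x100001 d))))))))))))) (a 49 0 0x300001 (a 50 0 (b 0x300001000000000003000504b3) (a 51 0 0x300001 (a 56 0 0x300001 (c 57 0 (f 0x3000080001000800f1 0x8000400020001002a00150 (b 0x50000000100000005000000870000) 1) (a 58 0 0x300001 (a 59 0 (b 0x310001000000000003000504cc)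
 d))))))))) (a 3 0 0x20001 (a 10 0 0x20001 (c 11 0 (f 0x2000100020001 0x8000400020001002a00150 (b 0x50000000100000005000000870000) 1)
 d))))) d))) (c 72 0 (e 8 0 0 (c 8 0 (e 2 68 10 (c 2 0 (e 128 0 0 (c 128 1 (g (b 0x2b00100012008500800022050d044b)) (a 129 0 (b 0x80000100000000000300050c83) (a 130 0 (b 0x80000100000000000300050c83) (a 131 0 (b 0x80000100000000000300050c83) (a 136 0 (b 0x80000100000000000300050c83) (a 137 0 (b 0x80000100000000000300050c83) (a 138 0 (b 0x80000100000000000300050c83) (a 139 0 (b 0x80000100000000000300050c83)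
 d))))))))) (a 3 0 (b 0x2000100000000000300050035) (a 10 0 0x20001 d)))) (c 9 0 (i (b 0x80001000000000003000500cb)) d))) (c 74 0 (e 8 0 0 (c 8 0 (e 2 68 10 (c 2 0 (e 128 0 0 (c 128 1 (g (b 0x2b00100012008500800022050d044b)) (a 129 0 (b 0x80000100000000000300050c83) (a 130 0 (b 0x80000100000000000300050c83) (a 131 0 (b 0x80000100000000000300050c83) (a 136 0 (b 0x80000100000000000300050c83) (a 137 0 (b 0x80000100000000000300050c83) (a 138 0 (b 0x80000100000000000300050c83) (a 139 0 (b 0x80000100000000000300050c83)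
 d))))))))) (a 3 0 (b 0x2000100000000000300050035) (a 10 0 0x20001 d)))) (c 9 0 (i (b 0x80001000000000003000500cb)) d)))
 (c 80 0 (e 1 64 8 (c 1 0 (e 8 0 0 (c 8 0 (e 2 64 10 (c 2 0 (e 128 0 0 (c 128 1 (g (b 0x2b00100012008500800022050d044b)) (a 129 0 (b 0x80000100000000000300050c83) (a 130 0 (b 0x80000100000000000300050c83) (a 131 0 (b 0x80000100000000000300050c83) (a 136 0 (b 0x80000100000000000300050c83) (a 137 0 (b 0x80000100000000000300050c83) (a 138 0 (b 0x80000100000000000300050c83) (a 139 0 (b 0x80000100000000000300050c83)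
 d))))))))) (a 3 0 (b 0x2000100000000000300050035) (a 10 0 0x20001 d)))) (c 9 0 (i (b 0x80001000000000003000500cb)) d))) (c 8 1 (e 2 0 0 (c 2 0 (e 48 0 0 (c 48 0 (e 16 16 (b 0x29000000280000002100000020000018b2) (c 16 0 (e 4 0 0 (a 128 1 (b 0x40003000000000003000f0067) (a 129 1 (b 0x40003000000000003000f0067) (a 130 1 (b 0x40003000000000003000f0067) (a 131 1 (b 0x40003000000000003000f0067) (c 136 1 (l 0x50000) (c 137 1 (f 0xc0002000c0002 0x8000400020001002a00150 (b 0x50000000100000005000000870000) 1) (c 138 1 (f 0xc0002000c0002 0x8000400020001002a00150 0x2000000050000 1) (c 139 1 (f 0xc0002000c0002 0x8000400020001002a00150 (b 0x50000000100000005000000870000) 1)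
 d))))))))) (a 17 0 0x100001 (a 18 0 (b 0x10000100000000000300050193) (a 19 0 0x100001 (a 24 0 0x100001 (c 25 0 (f 0x2000100020001 0x8000400020001002a00150 (b 0x8000000050000000100000007000000050000163a0000) 1) (a 26 0 0x100001 (a 27 0 (b 0x110001000000000003000501ac)
 (a 32 0 (b 0x100002000000000003000a0193) (a 33 0 0x100001 (a 40 0 0x100001 (a 41 0 (b 0x110002000000000003000a01ac) d))))))))))))) (a 49 0 0x300001 (a 50 0 (b 0x300001000000000003000504b3) (a 51 0 0x300001 (a 56 0 0x300001 (c 57 0 (f 0x3000080001000800f1 0x8000400020001002a00150 (b 0x50000000100000005000000870000) 1) (a 58 0 0x300001 (a 59 0 (b 0x310001000000000003000504cc)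
 d))))))))) (a 3 0 0x20001 (a 10 0 0x20001 (c 11 0 (f 0x2000100020001 0x8000400020001002a00150 (b 0x50000000100000005000000870000) 1)
 d))))) d))) (c 88 0 (e 8 0 0 (c 8 0 (e 2 68 10 (c 2 0 (e 128 0 0 (c 128 1 (g (b 0x2b00100012008500800022050d044b)) (a 129 0 (b 0x80000100000000000300050c83) (a 130 0 (b 0x80000100000000000300050c83) (a 131 0 (b 0x80000100000000000300050c83) (a 136 0 (b 0x80000100000000000300050c83) (a 137 0 (b 0x80000100000000000300050c83) (a 138 0 (b 0x80000100000000000300050c83) (a 139 0 (b 0x80000100000000000300050c83)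
 d))))))))) (a 3 0 (b 0x2000100000000000300050035) (a 10 0 0x20001 d)))) (c 9 0 (i (b 0x80001000000000003000500cb)) d))) (c 96 0 (e 1 64 8 (c 1 0 (e 8 0 0 (c 8 0 (e 2 64 10 (c 2 0 (e 128 0 0 (c 128 1 (g (b 0x2b00100012008500800022050d044b)) (a 129 0 (b 0x80000100000000000300050c83) (a 130 0 (b 0x80000100000000000300050c83) (a 131 0 (b 0x80000100000000000300050c83) (a 136 0 (b 0x80000100000000000300050c83) (a 137 0 (b 0x80000100000000000300050c83) (a 138 0 (b 0x80000100000000000300050c83) (a 139 0 (b 0x80000100000000000300050c83)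
 d))))))))) (a 3 0 (b 0x2000100000000000300050035) (a 10 0 0x20001 d)))) (c 9 0 (i (b 0x80001000000000003000500cb)) d))) (c 8 1 (e 2 0 0 (c 2 0 (e 48 0 0 (c 48 0 (e 16 0 0 (c 16 0 (e 4 0 0 (a 128 1 (b 0x40003000000000003000f0067) (a 129 1 (b 0x40003000000000003000f0067) (a 130 1 (b 0x40003000000000003000f0067) (a 131 1 (b 0x40003000000000003000f0067) (c 136 1 (l 0x50000) (c 137 1 (f 0xc0002000c0002 0x8000400020001002a00150 (b 0x50000000100000005000000870000) 1) (c 138 1 (f 0xc0002000c0002 0x8000400020001002a00150 0x2000000050000 1) (c 139 1 (f 0xc0002000c0002 0x8000400020001002a00150 (b 0x50000000100000005000000870000) 1)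
 d))))))))) (a 17 0 0x100001 (a 18 0 (b 0x10000100000000000300050193) (a 19 0 0x100001 (a 24 0 0x100001 (c 25 0 (f 0x2000100020001 0x8000400020001002a00150 (b 0x8000000050000000100000007000000050000163a0000) 1) (a 26 0 0x100001 (a 27 0 (b 0x110001000000000003000501ac)
 (a 32 0 (b 0x100002000000000003000a0193) (a 33 0 0x100001 (a 34 0 (b 0x100002000000000003000a0193) (a 35 0 0x100001 (a 40 0 0x100001 (a 41 0 (b 0x110002000000000003000a01ac) (a 42 0 0x100001 (a 43 0 (b 0x110002000000000003000a01ac)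
 d))))))))))))))))) (a 49 0 0x300001 (a 50 0 (b 0x300001000000000003000504b3) (a 51 0 0x300001 (a 56 0 0x300001 (c 57 0 (f 0x3000080001000800f1 0x8000400020001002a00150 (b 0x50000000100000005000000870000) 1) (a 58 0 0x300001 (a 59 0 (b 0x310001000000000003000504cc)
 d))))))))) (a 3 0 0x20001 (a 10 0 0x20001 (c 11 0 (f 0x2000100020001 0x8000400020001002a00150 (b 0x50000000100000005000000870000) 1)
 d))))) d))) (c 104 0 (e 8 0 0 (c 8 0 (e 2 68 10 (c 2 0 (e 128 0 0 (c 128 1 (g (b 0x2b00100012008500800022050d044b)) (a 129 0 (b 0x80000100000000000300050c83) (a 130 0 (b 0x80000100000000000300050c83) (a 131 0 (b 0x80000100000000000300050c83) (a 136 0 (b 0x80000100000000000300050c83) (a 137 0 (b 0x80000100000000000300050c83) (a 138 0 (b 0x80000100000000000300050c83) (a 139 0 (b 0x80000100000000000300050c83)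
 d))))))))) (a 3 0 (b 0x2000100000000000300050035) (a 10 0 0x20001 d)))) (c 9 0 (i (b 0x80001000000000003000500cb)) d)))
 (c 112 0 (e 1 64 8 (c 1 0 (e 8 0 0 (c 8 0 (e 128 0 0 (c 128 1 (g (b 0x2b00100012008500800022050d044b)) (a 129 0 (b 0x80000100000000000300050c83) (a 130 0 (b 0x80000100000000000300050c83) (a 131 0 (b 0x80000100000000000300050c83) (a 136 0 (b 0x80000100000000000300050c83) (a 137 0 (b 0x80000100000000000300050c83) (a 138 0 (b 0x80000100000000000300050c83) (a 139 0 (b 0x80000100000000000300050c83)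
 d))))))))) (a 9 0 (b 0x80001000000000003000500cb) d))) (c 8 1 (e 48 0 0 (c 48 0 (e 16 0 0 (c 16 0 (e 4 0 0 (a 128 1 (b 0x40003000000000003000f0067) (a 129 1 (b 0x40003000000000003000f0067) (a 130 1 (b 0x40003000000000003000f0067) (a 131 1 (b 0x40003000000000003000f0067) (c 136 1 (l 0x50000) (c 137 1 (f 0xc0002000c0002 0x8000400020001002a00150 (b 0x50000000100000005000000870000) 1) (c 138 1 (f 0xc0002000c0002 0x8000400020001002a00150 0x2000000050000 1) (c 139 1 (f 0xc0002000c0002 0x8000400020001002a00150 (b 0x50000000100000005000000870000) 1)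
 d))))))))) (a 17 0 0x100001 (a 18 0 (b 0x10000100000000000300050193) (a 19 0 0x100001 (a 24 0 0x100001 (c 25 0 (f 0x2000100020001 0x8000400020001002a00150 (b 0x8000000050000000100000007000000050000163a0000) 1) (a 26 0 0x100001 (a 27 0 (b 0x110001000000000003000501ac)
 (a 32 0 0x100001 (a 33 0 0x100001 (a 34 0 0x100001 (a 35 0 0x100001 (a 40 0 0x100001 (a 41 0 0x100001 (a 42 0 0x100001 (a 43 0 0x100001
 d))))))))))))))))) (a 49 0 0x300001 (a 50 0 (b 0x300001000000000003000504b3) (a 51 0 0x300001 (a 56 0 0x300001 (c 57 0 (f 0x3000080001000800f1 0x8000400020001002a00150 (b 0x50000000100000005000000870000) 1) (a 58 0 0x300001 (a 59 0 (b 0x310001000000000003000504cc)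
 d))))))))) d))) (c 120 0 (e 1 68 8 (c 1 0 (e 8 0 0 (c 8 0 (e 128 0 0 (c 128 1 (g (b 0x2b00100012008500800022050d044b)) (a 129 0 (b 0x80000100000000000300050c83) (a 130 0 (b 0x80000100000000000300050c83) (a 131 0 (b 0x80000100000000000300050c83) (a 136 0 (b 0x80000100000000000300050c83) (a 137 0 (b 0x80000100000000000300050c83) (a 138 0 (b 0x80000100000000000300050c83) (a 139 0 (b 0x80000100000000000300050c83)
 d))))))))) (a 9 0 (b 0x80001000000000003000500cb) d))) (c 8 1 (f 0x2000100020001 0x8000400020001002a00150 (b 0x50000000100000005000000870000) 1) d))) (c 192 0 (g (b 0x800001002b00100012000d00210076432e)) (c 194 0 (g (b 0x800001002b00100012000d00210076432e))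
 (c 208 0 (g (b 0x800001002b00100012000d00210076432e)) (c 224 0 (g (b 0x800001002b00100012000d00210076432e)) (c 240 0 (g (b 0x800001002b00100012000f00210078432e)) (c 200 0 (g (b 0x800001002b00100012000c00210075432e))
 (c 202 0 (g (b 0x800001002b00100012000c00210075432e)) (c 216 0 (g (b 0x800001002b00100012000c00210075432e)) (c 232 0 (g (b 0x800001002b00100012000c00210075432e)) (c 248 0 (g (b 0x800001002b00100012000e00210077432e))
 d)))))))))))))))))))))
 (c 0 0 (e 0 (b 0x1000000001000000b40000000000000040000000000000009000059b09) (b 0x200f3000200f1000200e3000200e1000200b6000200b7000200a6000200a700030061000100fd000000fd000200f2000200f4000300f4000200f7000300f7000100f7000000f7000100ef000000ef000200e2000200e4000300e4000200e7000300e7000100e7000000e7000200b4000200b3000100b3000200b5000200b2000100b2000200a4000200a3000100a3000200a5000200a2000100a2000000790002007f0003007f000200770003007700010077000000770002006a000300690003006f0002006200030067000000670002003e0001003a000100360002002e0001002a000200f0000300f0000100f0000000f0000200e0000300e0000100e0000000e0000200b1000100b1000000b1000200b0000100b0000000b0000200a1000100a1000000a1000200a0000100a0000000a000020078000300780001007800000078000200700003007000000070000200680003006800010068000000680002006000030060000000600002003c0000003c0001003800000038000100340000003400000031000000300002002c0000002c000100280000002800020024000100240000002400000021000000204673ed66)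 (c 32 0 (e 1 0 0 (c 1 0 (e 8 0 0 (c 8 0 (e 4 32 0x1500000014 (c 4 0 (e 2 32 0x1100000010 (c 2 0 (g (b 0x80000100160040001200020021015b4121)) (a 3 0 (b 0x2000100000000000300050035) (c 16 1 (e 128 0 0 (c 128 0 (e 64 64 (b 0x56000000540000004600000044000033d4) (c 64 0 (l 0x70000) (a 65 0 (b 0x40000100000000000300050643) (a 66 0 0x400001 (a 67 0 0x400001 (a 68 0 0x400001 (a 70 0 0x400001 (a 80 0 0x400001 (a 81 0 0x400001
 (c 82 0 (f 0x2000100020001 0x8000400020001002a00150 (b 0x70000000600000004000000010000000700000003000000050000ff810005) 1) (a 83 0 (b 0x42000100000000000300050675) (a 84 0 0x400001 (a 86 0 0x400001 d))))))))))))) (a 129 0 (b 0x80000100000000000300050c83) (a 130 0 0x800001 (a 131 0 0x800001 (a 136 0 (b 0x80000100000000000300050c83) (a 137 0 (b 0x80000100000000000300050c83) (a 138 0 0x800001 (a 139 0 0x800001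
 (a 144 0 0x800001 (a 145 0 0x800001 (c 146 0 (f 0xc0002000c0002 0x8000400020001002a00150 (b 0x700000006000000010000000700000005000014460000) 1) (a 147 0 (b 0x82000100000000000300050cb5) (a 152 0 0x800001 (a 153 0 0x800001 (a 154 0 (b 0x82000100000000000300050cb5) (a 155 0 (b 0x82000100000000000300050cb5)
 d))))))))))))))))) (c 17 1 (f 0x2000100020001 0x8000400020001002a00150 0x2000000070000 1)
 d))))) (a 5 0 (b 0x4000100000000000300050067) (a 6 0 0xc0002 (a 7 0 0xc0002 (a 20 0 0xc0002 (a 21 0 0xc0002 d))))))) (c 9 0 (i (b 0x80001000000000003000500cb)) d))) d)) (c 33 0 (e 1 0 0 (c 1 0 (e 8 0 0 (c 8 0 (e 4 32 0x1500000014 (c 4 0 (e 2 32 0x1100000010 (c 2 0 (g (b 0x80000100160040001200020021015b4121)) (a 3 0 (b 0x2000100000000000300050035) (c 16 1 (e 128 0 0 (c 128 0 (e 64 64 (b 0x56000000540000004600000044000033d4) (c 64 0 (l 0x70000) (a 65 0 (b 0x40000100000000000300050643) (a 66 0 0x400001 (a 67 0 0x400001 (a 68 0 0x400001 (a 70 0 0x400001 (a 80 0 0x400001 (a 81 0 0x400001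
 (c 82 0 (f 0x2000100020001 0x8000400020001002a00150 (b 0x70000000600000004000000010000000700000003000000050000ff810005) 1) (a 83 0 (b 0x42000100000000000300050675) (a 84 0 0x400001 (a 86 0 0x400001 d))))))))))))) (a 129 0 (b 0x80000100000000000300050c83) (a 130 0 0x800001 (a 131 0 0x800001 (a 136 0 (b 0x80000100000000000300050c83) (a 137 0 (b 0x80000100000000000300050c83) (a 138 0 0x800001 (a 139 0 0x800001
 (a 144 0 0x800001 (a 145 0 0x800001 (c 146 0 (f 0xc0002000c0002 0x8000400020001002a00150 (b 0x700000006000000010000000700000005000014460000) 1) (a 147 0 (b 0x82000100000000000300050cb5) (a 152 0 0x800001 (a 153 0 0x800001 (a 154 0 (b 0x82000100000000000300050cb5) (a 155 0 (b 0x82000100000000000300050cb5)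
 d))))))))))))))))) (c 17 1 (f 0x2000100020001 0x8000400020001002a00150 0x2000000070000 1)
 d))))) (a 5 0 (b 0x4000100000000000300050067) (a 6 0 0xc0002 (a 7 0 0xc0002 (a 20 0 0xc0002 (a 21 0 0xc0002 d))))))) (c 9 0 (i (b 0x80001000000000003000500cb)) d))) d)) (c 36 0 (e 8 0 0 (c 8 0 (e 4 32 0x1500000014 (c 4 0 (e 2 32 0x1100000010 (c 2 0 (g (b 0x80000100160040001200020021015b4121)) (a 3 0 (b 0x2000100000000000300050035) (c 16 1 (e 128 0 0 (c 128 0 (e 64 0 0 (c 64 0 (l 0x70000) (a 65 0 (b 0x40000100000000000300050643) (a 66 0 0x400001 (a 67 0 0x400001 (a 68 0 0x400001 (a 69 0 0x400001 (a 70 0 0x400001 (a 71 0 0x400001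
 (a 80 0 0x400001 (a 81 0 0x400001 (c 82 0 (f 0x2000100020001 0x8000400020001002a00150 (b 0x70000000600000004000000010000000700000003000000050000ff810005) 1) (a 83 0 (b 0x42000100000000000300050675) (a 84 0 0x400001 (a 85 0 0x400001 (a 86 0 0x400001 (a 87 0 0x400001
 d))))))))))))))))) (a 129 0 (b 0x80000100000000000300050c83) (a 130 0 0x800001 (a 131 0 0x800001 (a 136 0 (b 0x80000100000000000300050c83) (a 137 0 (b 0x80000100000000000300050c83) (a 138 0 0x800001 (a 139 0 0x800001
 (a 144 0 0x800001 (a 145 0 0x800001 (c 146 0 (f 0xc0002000c0002 0x8000400020001002a00150 (b 0x700000006000000010000000700000005000014460000) 1) (a 147 0 (b 0x82000100000000000300050cb5) (a 152 0 0x800001 (a 153 0 0x800001 (a 154 0 (b 0x82000100000000000300050cb5) (a 155 0 (b 0x82000100000000000300050cb5)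
 d))))))))))))))))) (c 17 1 (f 0x2000100020001 0x8000400020001002a00150 0x2000000070000 1)
 d))))) (a 5 0 (b 0x4000100000000000300050067) (a 6 0 0xc0002 (a 7 0 0xc0002 (a 20 0 0xc0002 (a 21 0 0xc0002 d))))))) (c 9 0 (i (b 0x80001000000000003000500cb)) d))) (c 40 0 (e 1 0 0 (c 1 0 (e 8 0 0 (c 8 0 (e 4 32 0x1500000014 (c 4 0 (e 2 32 0x1100000010 (c 2 0 (g (b 0x80000100160040001200020021015b4121)) (a 3 0 (b 0x2000100000000000300050035) (c 16 1 (e 128 0 0 (c 128 0 (e 64 0 0 (c 64 0 (l 0x70000) (a 65 0 (b 0x40000100000000000300050643) (a 66 0 0x400001 (a 67 0 0x400001 (a 68 0 0x400001 (a 69 0 0x400001 (a 70 0 0x400001 (a 71 0 0x400001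
 (a 80 0 0x400001 (a 81 0 0x400001 (c 82 0 (f 0x2000100020001 0x8000400020001002a00150 (b 0x70000000600000004000000010000000700000003000000050000ff810005) 1) (a 83 0 (b 0x42000100000000000300050675) (a 84 0 0x400001 (a 85 0 0x400001 (a 86 0 0x400001 (a 87 0 0x400001
 d))))))))))))))))) (a 129 0 (b 0x80000100000000000300050c83) (a 130 0 0x800001 (a 131 0 0x800001 (a 136 0 (b 0x80000100000000000300050c83) (a 137 0 (b 0x80000100000000000300050c83) (a 138 0 0x800001 (a 139 0 0x800001
 (a 144 0 0x800001 (a 145 0 0x800001 (c 146 0 (f 0xc0002000c0002 0x8000400020001002a00150 (b 0x700000006000000010000000700000005000014460000) 1) (a 147 0 (b 0x82000100000000000300050cb5) (a 152 0 0x800001 (a 153 0 0x800001 (a 154 0 (b 0x82000100000000000300050cb5) (a 155 0 (b 0x82000100000000000300050cb5)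
 d))))))))))))))))) (c 17 1 (f 0x2000100020001 0x8000400020001002a00150 0x2000000070000 1)
 d))))) (a 5 0 (b 0x4000100000000000300050067) (a 6 0 0xc0002 (a 7 0 0xc0002 (a 20 0 0xc0002 (a 21 0 0xc0002 d))))))) (c 9 0 (i (b 0x80001000000000003000500cb)) d))) d))
 (c 44 0 (e 12 0 0 (c 12 0 (e 4 32 0x1500000014 (c 4 0 (e 2 32 0x1100000010 (c 2 0 (g (b 0x80000100160040001200020021015b4121)) (a 3 0 (b 0x2000100000000000300050035) (c 16 1 (e 128 0 0 (c 128 0 (e 64 64 (b 0x56000000540000004600000044000033d4) (c 64 0 (l 0x70000) (a 65 0 (b 0x40000100000000000300050643) (a 66 0 0x400001 (a 67 0 0x400001 (a 68 0 0x400001 (a 70 0 0x400001 (a 80 0 0x400001 (a 81 0 0x400001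
 (c 82 0 (f 0x2000100020001 0x8000400020001002a00150 (b 0x70000000600000004000000010000000700000003000000050000ff810005) 1) (a 83 0 (b 0x42000100000000000300050675) (a 84 0 0x400001 (a 86 0 0x400001 d))))))))))))) (a 129 0 (b 0x80000100000000000300050c83) (a 130 0 0x800001 (a 131 0 0x800001 (a 136 0 (b 0x80000100000000000300050c83) (a 137 0 (b 0x80000100000000000300050c83) (a 138 0 0x800001 (a 139 0 0x800001
 (a 144 0 0x800001 (a 145 0 0x800001 (c 146 0 (f 0xc0002000c0002 0x8000400020001002a00150 (b 0x700000006000000010000000700000005000014460000) 1) (a 147 0 (b 0x82000100000000000300050cb5) (a 152 0 0x800001 (a 153 0 0x800001 (a 154 0 (b 0x82000100000000000300050cb5) (a 155 0 (b 0x82000100000000000300050cb5)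
 d))))))))))))))))) (c 17 1 (f 0x2000100020001 0x8000400020001002a00150 0x2000000070000 1)
 d))))) (a 5 0 (b 0x4000100000000000300050067) (a 6 0 0x90002 (a 7 0 0x90002 (a 20 0 0x90002 (a 21 0 0x90002 d))))))) (c 13 0 (i (b 0xc00010000000000030005012f)) d))) (c 48 0 (g (b 0x80000100160040001200020021015b4121)) (c 49 0 (g (b 0x80000100160040001200020021015b4121)) (c 52 0 (g (b 0x80000100160040001200030021015c4121))
 (c 56 0 (g (b 0x80000100160040001200020021015b4121)) (c 60 0 (g (b 0x80000100160040001200030021015c4121)) (c 96 0 (e 1 0 0 (c 1 0 (e 8 0 0 (c 8 0 (e 4 32 0x1500000014 (c 4 0 (e 2 32 0x1100000010 (c 2 0 (g (b 0x80000100160040001200020021015b4121)) (a 3 0 (b 0x2000100000000000300050035) (c 16 1 (e 128 0 0 (c 128 0 (e 64 64 (b 0x56000000540000004600000044000033d4) (c 64 0 (l 0x70000) (a 65 0 (b 0x40000100000000000300050643) (a 66 0 0x400001 (a 67 0 0x400001 (a 68 0 (b 0x400002000000000003000a0643) (a 70 0 0x400001 (a 80 0 0x400001 (a 81 0 0x400001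
 (c 82 0 (f 0x2000100020001 0x8000400020001002a00150 (b 0x70000000600000004000000010000000700000003000000050000ff810005) 1) (a 83 0 (b 0x42000100000000000300050675) (a 84 0 0x400001 (a 86 0 (b 0x420002000000000003000a0675) d))))))))))))) (a 129 0 (b 0x80000100000000000300050c83) (a 130 0 0x800001 (a 131 0 0x800001 (a 136 0 0x800001 (a 137 0 0x800001 (a 138 0 0x800001 (a 139 0 0x800001
 (a 144 0 0x800001 (a 145 0 0x800001 (c 146 0 (f 0xc0002000c0002 0x8000400020001002a00150 (b 0x700000006000000010000000700000005000014460000) 1) (a 147 0 (b 0x82000100000000000300050cb5) (a 152 0 0x800001 (a 153 0 0x800001 (a 154 0 0x800001 (a 155 0 0x800001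
 d))))))))))))))))) (c 17 1 (f 0x2000100020001 0x8000400020001002a00150 0x2000000070000 1)
 d))))) (a 5 0 (b 0x4000100000000000300050067) (a 6 0 0xc0002 (a 7 0 0xc0002 (a 20 0 0xc0002 (a 21 0 0xc0002 d))))))) (c 9 0 (i (b 0x80001000000000003000500cb)) d))) d)) (c 104 0 (e 8 0 0 (c 8 0 (e 4 32 0x1500000014 (c 4 0 (e 2 32 0x1100000010 (c 2 0 (g (b 0x80000100160040001200020021015b4121)) (a 3 0 (b 0x2000100000000000300050035) (c 16 1 (e 128 0 0 (c 128 0 (e 64 0 0 (c 64 0 (l 0x70000) (a 65 0 (b 0x40000100000000000300050643) (a 66 0 0x400001 (a 67 0 0x400001 (a 68 0 (b 0x400002000000000003000a0643) (a 69 0 (b 0x400002000000000003000a0643) (a 70 0 0x400001 (a 71 0 0x400001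
 (a 80 0 0x400001 (a 81 0 0x400001 (c 82 0 (f 0x2000100020001 0x8000400020001002a00150 (b 0x70000000600000004000000010000000700000003000000050000ff810005) 1) (a 83 0 (b 0x42000100000000000300050675) (a 84 0 0x400001 (a 85 0 0x400001 (a 86 0 (b 0x420002000000000003000a0675) (a 87 0 (b 0x420002000000000003000a0675)
 d))))))))))))))))) (a 129 0 (b 0x80000100000000000300050c83) (a 130 0 0x800001 (a 131 0 0x800001 (a 136 0 0x800001 (a 137 0 0x800001 (a 138 0 0x800001 (a 139 0 0x800001
 (a 144 0 0x800001 (a 145 0 0x800001 (c 146 0 (f 0xc0002000c0002 0x8000400020001002a00150 (b 0x700000006000000010000000700000005000014460000) 1) (a 147 0 (b 0x82000100000000000300050cb5) (a 152 0 0x800001 (a 153 0 0x800001 (a 154 0 0x800001 (a 155 0 0x800001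
 d))))))))))))))))) (c 17 1 (f 0x2000100020001 0x8000400020001002a00150 0x2000000070000 1)
 d))))) (a 5 0 (b 0x4000100000000000300050067) (a 6 0 0xc0002 (a 7 0 0xc0002 (a 20 0 0xc0002 (a 21 0 0xc0002 d))))))) (c 9 0 (i (b 0x80001000000000003000500cb)) d)))
 (c 112 0 (g (b 0x80000100160040001200020021015b4121)) (c 120 0 (g (b 0x80000100160040001200030021015c4121)) (c 160 0 (e 1 0 0 (c 1 0 (e 4 32 0x1500000014 (c 4 0 (e 2 32 0x1100000010 (c 2 0 (g (b 0x80000100160040001200020021015b4121)) (a 3 0 (b 0x2000100000000000300050035) (c 16 1 (e 128 0 0 (c 128 0 (e 64 0 0 (c 64 0 (l 0x70000) (a 65 0 (b 0x40000100000000000300050643) (a 66 0 0x400001 (a 67 0 0x400001 (a 68 0 0x400001 (a 69 0 0x400001 (a 70 0 0x400001 (a 71 0 0x400001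
 (a 80 0 0x400001 (a 81 0 0x400001 (c 82 0 (f 0x2000100020001 0x8000400020001002a00150 (b 0x70000000600000004000000010000000700000003000000050000ff810005) 1) (a 83 0 (b 0x42000100000000000300050675) (a 84 0 0x400001 (a 85 0 0x400001 (a 86 0 0x400001 (a 87 0 0x400001
 d))))))))))))))))) (a 129 0 (b 0x80000100000000000300050c83) (a 130 0 0x800001 (a 131 0 0x800001 (a 136 0 (b 0x80000100000000000300050c83) (a 137 0 (b 0x80000100000000000300050c83) (a 138 0 0x800001 (a 139 0 0x800001
 (a 144 0 0x800001 (a 145 0 0x800001 (c 146 0 (f 0xc0002000c0002 0x8000400020001002a00150 (b 0x700000006000000010000000700000005000014460000) 1) (a 147 0 (b 0x82000100000000000300050cb5) (a 152 0 0x800001 (a 153 0 0x800001 (a 154 0 (b 0x82000100000000000300050cb5) (a 155 0 (b 0x82000100000000000300050cb5)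
 d))))))))))))))))) (c 17 1 (f 0x2000100020001 0x8000400020001002a00150 0x2000000070000 1)
 d))))) (a 5 0 (b 0x4000100000000000300050067) (a 6 0 0xc0002 (a 7 0 0xc0002 (a 20 0 0xc0002 (a 21 0 0xc0002 d))))))) d)) (c 161 0 (e 1 0 0 (c 1 0 (e 4 32 0x1500000014 (c 4 0 (e 2 32 0x1100000010 (c 2 0 (g (b 0x80000100160040001200020021015b4121)) (a 3 0 (b 0x2000100000000000300050035) (c 16 1 (e 128 0 0 (c 128 0 (e 64 0 0 (c 64 0 (l 0x70000) (a 65 0 (b 0x40000100000000000300050643) (a 66 0 0x400001 (a 67 0 0x400001 (a 68 0 0x400001 (a 69 0 0x400001 (a 70 0 0x400001 (a 71 0 0x400001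
 (a 80 0 0x400001 (a 81 0 0x400001 (c 82 0 (f 0x2000100020001 0x8000400020001002a00150 (b 0x70000000600000004000000010000000700000003000000050000ff810005) 1) (a 83 0 (b 0x42000100000000000300050675) (a 84 0 0x400001 (a 85 0 0x400001 (a 86 0 0x400001 (a 87 0 0x400001
 d))))))))))))))))) (a 129 0 (b 0x80000100000000000300050c83) (a 130 0 0x800001 (a 131 0 0x800001 (a 136 0 (b 0x80000100000000000300050c83) (a 137 0 (b 0x80000100000000000300050c83) (a 138 0 0x800001 (a 139 0 0x800001
 (a 144 0 0x800001 (a 145 0 0x800001 (c 146 0 (f 0xc0002000c0002 0x8000400020001002a00150 (b 0x700000006000000010000000700000005000014460000) 1) (a 147 0 (b 0x82000100000000000300050cb5) (a 152 0 0x800001 (a 153 0 0x800001 (a 154 0 (b 0x82000100000000000300050cb5) (a 155 0 (b 0x82000100000000000300050cb5)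
 d))))))))))))))))) (c 17 1 (f 0x2000100020001 0x8000400020001002a00150 0x2000000070000 1)
 d))))) (a 5 0 (b 0x4000100000000000300050067) (a 6 0 0xc0002 (a 7 0 0xc0002 (a 20 0 0xc0002 (a 21 0 0xc0002 d))))))) d))
 (c 176 0 (g (b 0x800001001600400012000a002101634121)) (c 177 0 (g (b 0x800001001600400012000a002101634121)) (c 224 0 (e 4 32 0x1500000014 (c 4 0 (e 2 32 0x1100000010 (c 2 0 (g (b 0x80000100160040001200020021015b4121)) (a 3 0 (b 0x2000100000000000300050035) (c 16 1 (e 128 0 0 (c 128 0 (e 64 0 0 (c 64 0 (l 0x70000) (a 65 0 (b 0x40000100000000000300050643) (a 66 0 0x400001 (a 67 0 0x400001 (a 68 0 (b 0x400002000000000003000a0643) (a 69 0 (b 0x400002000000000003000a0643) (a 70 0 0x400001 (a 71 0 0x400001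
 (a 80 0 0x400001 (a 81 0 0x400001 (c 82 0 (f 0x2000100020001 0x8000400020001002a00150 (b 0x70000000600000004000000010000000700000003000000050000ff810005) 1) (a 83 0 (b 0x42000100000000000300050675) (a 84 0 0x400001 (a 85 0 0x400001 (a 86 0 (b 0x420002000000000003000a0675) (a 87 0 (b 0x420002000000000003000a0675)
 d))))))))))))))))) (a 129 0 (b 0x80000100000000000300050c83) (a 130 0 0x800001 (a 131 0 0x800001 (a 136 0 0x800001 (a 137 0 0x800001 (a 138 0 0x800001 (a 139 0 0x800001
 (a 144 0 0x800001 (a 145 0 0x800001 (c 146 0 (f 0xc0002000c0002 0x8000400020001002a00150 (b 0x700000006000000010000000700000005000014460000) 1) (a 147 0 (b 0x82000100000000000300050cb5) (a 152 0 0x800001 (a 153 0 0x800001 (a 154 0 0x800001 (a 155 0 0x800001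
 d))))))))))))))))) (c 17 1 (f 0x2000100020001 0x8000400020001002a00150 0x2000000070000 1)
 d))))) (c 5 0 (i (b 0x4000100000000000300050067)) (a 6 0 0x80002 (a 7 0 0x80002 (a 20 0 0x80002 (a 21 0 0x80002 d))))))) (c 240 0 (g (b 0x800001001600400012000f002101684121))
 d)))))))))))))))))))))
 (c 0 0 (e 0 (b 0x200000000100000000000000000000004000000000000000a00007b435) (b 0x300ff000200f3000200f1000300df000200d3000200d1000200b6000200b700020096000200970003007e00030076000300710003005e0003005600030051000300f9000000f9000300f4000200f4000300f7000200f7000100f7000000f7000300d9000000d9000300d4000200d4000300d7000200d7000100d7000000d7000200b4000200b3000100b3000200b5000200b2000100b2000200940002009300010093000200950002009200010092000300790003007f0002007f000300770001007700000077000300590003005f0002005f0003005700010057000000570002003e0001003a000100360002001e0001001a00010016000300f0000200f0000100f0000000f0000300d0000200d0000100d0000000d0000200b1000100b1000000b1000200b0000100b0000000b0000200910001009100000091000200900001009000000090000300780001007800000078000300700000007000030058000100580000005800030050000000500002003c0000003c0001003800000038000100340000003400000031000000300002001c0000001c000100180000001800010014000000140000001100000010b4841d46)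 (c 16 0 (e 1 0 0 (c 1 0 (e 8 0 0 (c 8 0 (e 4 16 0x2500000024 (c 4 0 (e 2 16 0x2100000020 (c 2 0 (g (b 0x80000100260040001200020021015b42b1)) (a 3 0 (b 0x2000100000000000300050035) (c 32 1 (e 128 0 0 (c 128 0 (e 64 64 (b 0x6600000064000000460000004400003d34) (c 64 0 (l 0x90000) (a 65 0 (b 0x40000100000000000300050643) (a 66 0 0x400001 (a 67 0 0x400001 (a 68 0 0x400001 (a 70 0 0x400001 (a 96 0 0x400001 (a 97 0 0x400001
 (c 98 0 (f 0x2000100020001 0x8000400020001002a00150 (b 0x9000000060000000400000001000000090000000300000005000079c5000a) 1) (a 99 0 (b 0x42000100000000000300050675) (a 100 0 0x400001 (a 102 0 0x400001 d))))))))))))) (a 129 0 (b 0x80000100000000000300050c83) (a 130 0 0x800001 (a 131 0 0x800001 (a 136 0 (b 0x80000100000000000300050c83) (a 137 0 (b 0x80000100000000000300050c83) (a 138 0 0x800001 (a 139 0 0x800001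
 (a 160 0 0x800001 (a 161 0 0x800001 (c 162 0 (f 0xc0002000c0002 0x8000400020001002a00150 (b 0x900000006000000010000000900000005000019320000) 1) (a 163 0 (b 0x82000100000000000300050cb5) (a 168 0 0x800001 (a 169 0 0x800001 (a 170 0 (b 0x82000100000000000300050cb5) (a 171 0 (b 0x82000100000000000300050cb5)
 d))))))))))))))))) (c 33 1 (f 0x2000100020001 0x8000400020001002a00150 0x2000000090000 1)
 d))))) (a 5 0 (b 0x4000100000000000300050067) (a 6 0 0xc0002 (a 7 0 0xc0002 (a 36 0 0xc0002 (a 37 0 0xc0002 d))))))) (c 9 0 (i (b 0x80001000000000003000500cb)) d))) d)) (c 17 0 (e 1 0 0 (c 1 0 (e 8 0 0 (c 8 0 (e 4 16 0x2500000024 (c 4 0 (e 2 16 0x2100000020 (c 2 0 (g (b 0x80000100260040001200020021015b42b1)) (a 3 0 (b 0x2000100000000000300050035) (c 32 1 (e 128 0 0 (c 128 0 (e 64 64 (b 0x6600000064000000460000004400003d34) (c 64 0 (l 0x90000) (a 65 0 (b 0x40000100000000000300050643) (a 66 0 0x400001 (a 67 0 0x400001 (a 68 0 0x400001 (a 70 0 0x400001 (a 96 0 0x400001 (a 97 0 0x400001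
 (c 98 0 (f 0x2000100020001 0x8000400020001002a00150 (b 0x9000000060000000400000001000000090000000300000005000079c5000a) 1) (a 99 0 (b 0x42000100000000000300050675) (a 100 0 0x400001 (a 102 0 0x400001 d))))))))))))) (a 129 0 (b 0x80000100000000000300050c83) (a 130 0 0x800001 (a 131 0 0x800001 (a 136 0 (b 0x80000100000000000300050c83) (a 137 0 (b 0x80000100000000000300050c83) (a 138 0 0x800001 (a 139 0 0x800001
 (a 160 0 0x800001 (a 161 0 0x800001 (c 162 0 (f 0xc0002000c0002 0x8000400020001002a00150 (b 0x900000006000000010000000900000005000019320000) 1) (a 163 0 (b 0x82000100000000000300050cb5) (a 168 0 0x800001 (a 169 0 0x800001 (a 170 0 (b 0x82000100000000000300050cb5) (a 171 0 (b 0x82000100000000000300050cb5)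
 d))))))))))))))))) (c 33 1 (f 0x2000100020001 0x8000400020001002a00150 0x2000000090000 1)
 d))))) (a 5 0 (b 0x4000100000000000300050067) (a 6 0 0xc0002 (a 7 0 0xc0002 (a 36 0 0xc0002 (a 37 0 0xc0002 d))))))) (c 9 0 (i (b 0x80001000000000003000500cb)) d))) d)) (c 20 0 (e 8 0 0 (c 8 0 (e 4 16 0x2500000024 (c 4 0 (e 2 16 0x2100000020 (c 2 0 (g (b 0x80000100260040001200020021015b42b1)) (a 3 0 (b 0x2000100000000000300050035) (c 32 1 (e 128 0 0 (c 128 0 (e 64 0 0 (c 64 0 (l 0x90000) (a 65 0 (b 0x40000100000000000300050643) (a 66 0 0x400001 (a 67 0 0x400001 (a 68 0 0x400001 (a 69 0 0x400001 (a 70 0 0x400001 (a 71 0 0x400001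
 (a 96 0 0x400001 (a 97 0 0x400001 (c 98 0 (f 0x2000100020001 0x8000400020001002a00150 (b 0x9000000060000000400000001000000090000000300000005000079c5000a) 1) (a 99 0 (b 0x42000100000000000300050675) (a 100 0 0x400001 (a 101 0 0x400001 (a 102 0 0x400001 (a 103 0 0x400001
 d))))))))))))))))) (a 129 0 (b 0x80000100000000000300050c83) (a 130 0 0x800001 (a 131 0 0x800001 (a 136 0 (b 0x80000100000000000300050c83) (a 137 0 (b 0x80000100000000000300050c83) (a 138 0 0x800001 (a 139 0 0x800001
 (a 160 0 0x800001 (a 161 0 0x800001 (c 162 0 (f 0xc0002000c0002 0x8000400020001002a00150 (b 0x900000006000000010000000900000005000019320000) 1) (a 163 0 (b 0x82000100000000000300050cb5) (a 168 0 0x800001 (a 169 0 0x800001 (a 170 0 (b 0x82000100000000000300050cb5) (a 171 0 (b 0x82000100000000000300050cb5)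
 d))))))))))))))))) (c 33 1 (f 0x2000100020001 0x8000400020001002a00150 0x2000000090000 1)
 d))))) (a 5 0 (b 0x4000100000000000300050067) (a 6 0 0xc0002 (a 7 0 0xc0002 (a 36 0 0xc0002 (a 37 0 0xc0002 d))))))) (c 9 0 (i (b 0x80001000000000003000500cb)) d))) (c 24 0 (e 1 0 0 (c 1 0 (e 8 0 0 (c 8 0 (e 4 16 0x2500000024 (c 4 0 (e 2 16 0x2100000020 (c 2 0 (g (b 0x80000100260040001200020021015b42b1)) (a 3 0 (b 0x2000100000000000300050035) (c 32 1 (e 128 0 0 (c 128 0 (e 64 0x100000000 (b 0x6600000064000000460000004400003d34) (c 64 0 (l 0x90000) (a 65 0 (b 0x40000100000000000300050643) (a 66 0 0x400001 (a 67 0 0x400001 (a 68 0 0x400001 (a 70 0 0x400001 (a 96 0 0x400001 (a 97 0 0x400001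
 (c 98 0 (f 0x2000100020001 0x8000400020001002a00150 (b 0x9000000060000000400000001000000090000000300000005000079c5000a) 1) (a 99 0 (b 0x42000100000000000300050675) (a 100 0 0x400001 (a 102 0 0x400001 d))))))))))))) (a 129 0 (b 0x80000100000000000300050c83) (a 130 0 0x800001 (a 131 0 0x800001 (a 136 0 (b 0x80000100000000000300050c83) (a 137 0 (b 0x80000100000000000300050c83) (a 138 0 0x800001 (a 139 0 0x800001
 (a 160 0 0x800001 (a 161 0 0x800001 (c 162 0 (f 0xc0002000c0002 0x8000400020001002a00150 (b 0x900000006000000010000000900000005000019320000) 1) (a 163 0 (b 0x82000100000000000300050cb5) (a 168 0 0x800001 (a 169 0 0x800001 (a 170 0 (b 0x82000100000000000300050cb5) (a 171 0 (b 0x82000100000000000300050cb5)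
 d))))))))))))))))) (c 33 1 (f 0x2000100020001 0x8000400020001002a00150 0x2000000090000 1)
 d))))) (a 5 0 (b 0x4000100000000000300050067) (a 6 0 0xc0002 (a 7 0 0xc0002 (a 36 0 0xc0002 (a 37 0 0xc0002 d))))))) (c 9 0 (i (b 0x80001000000000003000500cb)) d))) d))
 (c 28 0 (e 12 0 0 (c 12 0 (e 4 16 0x2500000024 (c 4 0 (e 2 16 0x2100000020 (c 2 0 (g (b 0x80000100260040001200020021015b42b1)) (a 3 0 (b 0x2000100000000000300050035) (c 32 1 (e 128 0 0 (c 128 0 (e 64 64 (b 0x6600000064000000460000004400003d34) (c 64 0 (l 0x90000) (a 65 0 (b 0x40000100000000000300050643) (a 66 0 0x400001 (a 67 0 0x400001 (a 68 0 0x400001 (a 70 0 0x400001 (a 96 0 0x400001 (a 97 0 0x400001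
 (c 98 0 (f 0x2000100020001 0x8000400020001002a00150 (b 0x9000000060000000400000001000000090000000300000005000079c5000a) 1) (a 99 0 (b 0x42000100000000000300050675) (a 100 0 0x400001 (a 102 0 0x400001 d))))))))))))) (a 129 0 (b 0x80000100000000000300050c83) (a 130 0 0x800001 (a 131 0 0x800001 (a 136 0 (b 0x80000100000000000300050c83) (a 137 0 (b 0x80000100000000000300050c83) (a 138 0 0x800001 (a 139 0 0x800001
 (a 160 0 0x800001 (a 161 0 0x800001 (c 162 0 (f 0xc0002000c0002 0x8000400020001002a00150 (b 0x900000006000000010000000900000005000019320000) 1) (a 163 0 (b 0x82000100000000000300050cb5) (a 168 0 0x800001 (a 169 0 0x800001 (a 170 0 (b 0x82000100000000000300050cb5) (a 171 0 (b 0x82000100000000000300050cb5)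
 d))))))))))))))))) (c 33 1 (f 0x2000100020001 0x8000400020001002a00150 0x2000000090000 1)
 d))))) (a 5 0 (b 0x4000100000000000300050067) (a 6 0 0x90002 (a 7 0 0x90002 (a 36 0 0x90002 (a 37 0 0x90002 d))))))) (c 13 0 (i (b 0xc00010000000000030005012f)) d))) (c 48 0 (g (b 0x80000100260040001200020021015b42b1)) (c 49 0 (g (b 0x80000100260040001200020021015b42b1)) (c 52 0 (g (b 0x80000100260040001200030021015c42b1))
 (c 56 0 (g (b 0x80000100260040001200020021015b42b1)) (c 60 0 (g (b 0x80000100260040001200030021015c42b1)) (c 80 0 (e 1 0 0 (c 1 0 (e 8 0 0 (c 8 0 (e 4 16 0x2500000024 (c 4 0 (e 2 16 0x2100000020 (c 2 0 (g (b 0x80000100260040001200020021015b42b1)) (a 3 0 (b 0x2000100000000000300050035) (c 32 1 (e 128 0 0 (c 128 0 (e 64 64 (b 0x6600000064000000460000004400003d34) (c 64 0 (l 0x90000) (a 65 0 (b 0x40000100000000000300050643) (a 66 0 0x400001 (a 67 0 0x400001 (a 68 0 (b 0x400002000000000003000a0643) (a 70 0 0x400001 (a 96 0 0x400001 (a 97 0 0x400001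
 (c 98 0 (f 0x2000100020001 0x8000400020001002a00150 (b 0x9000000060000000400000001000000090000000300000005000079c5000a) 1) (a 99 0 (b 0x42000100000000000300050675) (a 100 0 0x400001 (a 102 0 (b 0x420002000000000003000a0675) d))))))))))))) (a 129 0 (b 0x80000100000000000300050c83) (a 130 0 0x800001 (a 131 0 0x800001 (a 136 0 0x800001 (a 137 0 0x800001 (a 138 0 0x800001 (a 139 0 0x800001
 (a 160 0 0x800001 (a 161 0 0x800001 (c 162 0 (f 0xc0002000c0002 0x8000400020001002a00150 (b 0x900000006000000010000000900000005000019320000) 1) (a 163 0 (b 0x82000100000000000300050cb5) (a 168 0 0x800001 (a 169 0 0x800001 (a 170 0 0x800001 (a 171 0 0x800001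
 d))))))))))))))))) (c 33 1 (f 0x2000100020001 0x8000400020001002a00150 0x2000000090000 1)
 d))))) (a 5 0 (b 0x4000100000000000300050067) (a 6 0 0xc0002 (a 7 0 0xc0002 (a 36 0 0xc0002 (a 37 0 0xc0002 d))))))) (c 9 0 (i (b 0x80001000000000003000500cb)) d))) d)) (c 88 0 (e 8 0 0 (c 8 0 (e 4 16 0x2500000024 (c 4 0 (e 2 16 0x2100000020 (c 2 0 (g (b 0x80000100260040001200020021015b42b1)) (a 3 0 (b 0x2000100000000000300050035) (c 32 1 (e 128 0 0 (c 128 0 (e 64 0x100000000 (b 0x6600000064000000460000004400003d34) (c 64 0 (l 0x90000) (a 65 0 (b 0x40000100000000000300050643) (a 66 0 0x400001 (a 67 0 0x400001 (a 68 0 (b 0x400002000000000003000a0643) (a 70 0 0x400001 (a 96 0 0x400001 (a 97 0 0x400001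
 (c 98 0 (f 0x2000100020001 0x8000400020001002a00150 (b 0x9000000060000000400000001000000090000000300000005000079c5000a) 1) (a 99 0 (b 0x42000100000000000300050675) (a 100 0 0x400001 (a 102 0 (b 0x420002000000000003000a0675) d))))))))))))) (a 129 0 (b 0x80000100000000000300050c83) (a 130 0 0x800001 (a 131 0 0x800001 (a 136 0 0x800001 (a 137 0 0x800001 (a 138 0 0x800001 (a 139 0 0x800001
 (a 160 0 0x800001 (a 161 0 0x800001 (c 162 0 (f 0xc0002000c0002 0x8000400020001002a00150 (b 0x900000006000000010000000900000005000019320000) 1) (a 163 0 (b 0x82000100000000000300050cb5) (a 168 0 0x800001 (a 169 0 0x800001 (a 170 0 0x800001 (a 171 0 0x800001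
 d))))))))))))))))) (c 33 1 (f 0x2000100020001 0x8000400020001002a00150 0x2000000090000 1)
 d))))) (a 5 0 (b 0x4000100000000000300050067) (a 6 0 0xc0002 (a 7 0 0xc0002 (a 36 0 0xc0002 (a 37 0 0xc0002 d))))))) (c 9 0 (i (b 0x80001000000000003000500cb)) d)))
 (c 112 0 (g (b 0x80000100260040001200020021015b42b1)) (c 120 0 (g (b 0x80000100260040001200030021015c42b1)) (c 144 0 (e 1 0 0 (c 1 0 (e 4 16 0x2500000024 (c 4 0 (e 2 16 0x2100000020 (c 2 0 (g (b 0x80000100260040001200020021015b42b1)) (a 3 0 (b 0x2000100000000000300050035) (c 32 1 (e 128 0 0 (c 128 0 (e 64 0 0 (c 64 0 (l 0x90000) (a 65 0 (b 0x40000100000000000300050643) (a 66 0 0x400001 (a 67 0 0x400001 (a 68 0 0x400001 (a 69 0 0x400001 (a 70 0 0x400001 (a 71 0 0x400001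
 (a 96 0 0x400001 (a 97 0 0x400001 (c 98 0 (f 0x2000100020001 0x8000400020001002a00150 (b 0x9000000060000000400000001000000090000000300000005000079c5000a) 1) (a 99 0 (b 0x42000100000000000300050675) (a 100 0 0x400001 (a 101 0 0x400001 (a 102 0 0x400001 (a 103 0 0x400001
 d))))))))))))))))) (a 129 0 (b 0x80000100000000000300050c83) (a 130 0 0x800001 (a 131 0 0x800001 (a 136 0 (b 0x80000100000000000300050c83) (a 137 0 (b 0x80000100000000000300050c83) (a 138 0 0x800001 (a 139 0 0x800001
 (a 160 0 0x800001 (a 161 0 0x800001 (c 162 0 (f 0xc0002000c0002 0x8000400020001002a00150 (b 0x900000006000000010000000900000005000019320000) 1) (a 163 0 (b 0x82000100000000000300050cb5) (a 168 0 0x800001 (a 169 0 0x800001 (a 170 0 (b 0x82000100000000000300050cb5) (a 171 0 (b 0x82000100000000000300050cb5)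
 d))))))))))))))))) (c 33 1 (f 0x2000100020001 0x8000400020001002a00150 0x2000000090000 1)
 d))))) (a 5 0 (b 0x4000100000000000300050067) (a 6 0 0xc0002 (a 7 0 0xc0002 (a 36 0 0xc0002 (a 37 0 0xc0002 d))))))) d)) (c 145 0 (e 1 0 0 (c 1 0 (e 4 16 0x2500000024 (c 4 0 (e 2 16 0x2100000020 (c 2 0 (g (b 0x80000100260040001200020021015b42b1)) (a 3 0 (b 0x2000100000000000300050035) (c 32 1 (e 128 0 0 (c 128 0 (e 64 0 0 (c 64 0 (l 0x90000) (a 65 0 (b 0x40000100000000000300050643) (a 66 0 0x400001 (a 67 0 0x400001 (a 68 0 0x400001 (a 69 0 0x400001 (a 70 0 0x400001 (a 71 0 0x400001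
 (a 96 0 0x400001 (a 97 0 0x400001 (c 98 0 (f 0x2000100020001 0x8000400020001002a00150 (b 0x9000000060000000400000001000000090000000300000005000079c5000a) 1) (a 99 0 (b 0x42000100000000000300050675) (a 100 0 0x400001 (a 101 0 0x400001 (a 102 0 0x400001 (a 103 0 0x400001
 d))))))))))))))))) (a 129 0 (b 0x80000100000000000300050c83) (a 130 0 0x800001 (a 131 0 0x800001 (a 136 0 (b 0x80000100000000000300050c83) (a 137 0 (b 0x80000100000000000300050c83) (a 138 0 0x800001 (a 139 0 0x800001
 (a 160 0 0x800001 (a 161 0 0x800001 (c 162 0 (f 0xc0002000c0002 0x8000400020001002a00150 (b 0x900000006000000010000000900000005000019320000) 1) (a 163 0 (b 0x82000100000000000300050cb5) (a 168 0 0x800001 (a 169 0 0x800001 (a 170 0 (b 0x82000100000000000300050cb5) (a 171 0 (b 0x82000100000000000300050cb5)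
 d))))))))))))))))) (c 33 1 (f 0x2000100020001 0x8000400020001002a00150 0x2000000090000 1)
 d))))) (a 5 0 (b 0x4000100000000000300050067) (a 6 0 0xc0002 (a 7 0 0xc0002 (a 36 0 0xc0002 (a 37 0 0xc0002 d))))))) d))
 (c 176 0 (g (b 0x800001002600400012000a0021016342b1)) (c 177 0 (g (b 0x800001002600400012000a0021016342b1)) (c 208 0 (e 4 16 0x2500000024 (c 4 0 (e 2 16 0x2100000020 (c 2 0 (g (b 0x80000100260040001200020021015b42b1)) (a 3 0 (b 0x2000100000000000300050035) (c 32 1 (e 128 0 0 (c 128 0 (e 64 0 0 (c 64 0 (l 0x90000) (a 65 0 (b 0x40000100000000000300050643) (a 66 0 0x400001 (a 67 0 0x400001 (a 68 0 (b 0x400002000000000003000a0643) (a 69 0 (b 0x400002000000000003000a0643) (a 70 0 0x400001 (a 71 0 0x400001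
 (a 96 0 0x400001 (a 97 0 0x400001 (c 98 0 (f 0x2000100020001 0x8000400020001002a00150 (b 0x9000000060000000400000001000000090000000300000005000079c5000a) 1) (a 99 0 (b 0x42000100000000000300050675) (a 100 0 0x400001 (a 101 0 0x400001 (a 102 0 (b 0x420002000000000003000a0675) (a 103 0 (b 0x420002000000000003000a0675)
 d))))))))))))))))) (a 129 0 (b 0x80000100000000000300050c83) (a 130 0 0x800001 (a 131 0 0x800001 (a 136 0 0x800001 (a 137 0 0x800001 (a 138 0 0x800001 (a 139 0 0x800001
 (a 160 0 0x800001 (a 161 0 0x800001 (c 162 0 (f 0xc0002000c0002 0x8000400020001002a00150 (b 0x900000006000000010000000900000005000019320000) 1) (a 163 0 (b 0x82000100000000000300050cb5) (a 168 0 0x800001 (a 169 0 0x800001 (a 170 0 0x800001 (a 171 0 0x800001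
 d))))))))))))))))) (c 33 1 (f 0x2000100020001 0x8000400020001002a00150 0x2000000090000 1)
 d))))) (c 5 0 (i (b 0x4000100000000000300050067)) (a 6 0 0x80002 (a 7 0 0x80002 (a 36 0 0x80002 (a 37 0 0x80002 d))))))) (c 240 0 (g (b 0x800001002600400012000f0021016842b1))
 d)))))))))))))))))))))
 (c 0 0 (e 0 (b 0x900000000000000020000000010000000000000000000000400022a3ed) (b 0x300ea000200d8000200ff000300fe000300fc000300ee000300e2000100e2000000e2000300ec000200dd000200d1000200dc000300dc000300ce000300cc000300bd000300bc000300ad000300ac0002009d0002009c000200f7000300f7000100f7000000f7000200f9000300f9000200f4000100f4000300e7000100e7000000e7000300e9000300e4000100e4000200d5000100d5000000d5000200d9000200d4000100d4000100c7000000c7000100c6000100c5000000c5000100c4000300b9000300b4000100b4000300b8000300b5000100b5000300a9000300a4000100a4000300a8000300a5000100a500020099000200940001009400020098000200950001009500010086000100870001008400010085000200f0000300f0000100f0000000f0000300e0000100e0000000e0000200d0000300d0000100d0000000d0000300c2000100c2000000c2000300c0000100c0000000c0000300b1000100b1000000b1000300b0000100b0000000b0000300a1000100a1000000a1000300a0000100a0000000a000020091000100910000009100020090000100900000009000010083000000830001008200000082000100810000008100010080000000808e26964c)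 (c 128 0 (g (b 0x400001000c00010023001000120008002100eea602)) (c 129 0 (g (b 0x400001000c00010023001000120008002100eea602)) (c 130 0 (g (b 0x400001000c00010023001000120008002100eea602)) (c 131 0 (g (b 0x400001000c00010023001000120008002100eea602))
 (c 144 0 (g (b 0x400001000c00010023001000120008002100eea602)) (c 145 0 (g (b 0x400001000c00010023001000120008002100eea602)) (c 160 0 (g (b 0x400001000c00010023001000120008002100eea602)) (c 161 0 (g (b 0x400001000c00010023001000120008002100eea602))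
 (c 176 0 (g (b 0x400001000c0001002300100012000a002100f0a602)) (c 177 0 (g (b 0x400001000c0001002300100012000a002100f0a602)) (c 192 0 (e 2 0 0 (c 2 0 (e 48 0 0 (c 48 0 (e 16 16 0x2100000020 (c 16 0 (e 4 0 0 (c 4 0 (g (b 0x400001000400100030000d0024007620b8)) (a 5 0 (b 0x4000100000000000300050067) (a 6 0 (b 0x4000100000000000300050067) (a 7 0 (b 0x4000100000000000300050067) (c 72 1 (l 0x30000) (c 73 1 (l 0x4000030000) (c 74 1 (f 0x2000100020001 0x8000400020001002a00150 (b 0x6000000020000000300000005000003340000) 1) (c 75 1 (f 0x2000100020001 0x8000400020001002a00150 (b 0x5000000020000000300000005000002b70000) 1)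
 (c 76 1 (l 0x4400040000) (c 77 1 (l 0x40000) (c 78 1 (f 0x2000100020001 0x8000400020001002a00150 (b 0x50000000100000003000000050000029e0000) 1) (c 79 1 (f 0x2000100020001 0x8000400020001002a00150 (b 0x60000000100000003000000050000031b0000) 1)
 d))))))))))))) (a 17 0 (b 0x10000100000000000300050193) (a 18 0 (b 0x10000100000000000300050193) (a 19 0 (b 0x10000100000000000300050193) (a 32 0 0x100001 (a 33 0 0x100001 d))))))) (a 49 0 (b 0x300001000000000003000504b3) (a 50 0 (b 0x300001000000000003000504b3) (a 51 0 (b 0x300001000000000003000504b3) d))))) (c 3 0 (i (b 0x2000100000000000300050035)) d))) (c 194 0 (e 2 0 0 (c 2 0 (e 48 0 0 (c 48 0 (e 16 16 0x2100000020 (c 16 0 (e 4 0 0 (c 4 0 (g (b 0x400001000400100030000d0024007620b8)) (a 5 0 (b 0x4000100000000000300050067) (a 6 0 (b 0x4000100000000000300050067) (a 7 0 (b 0x4000100000000000300050067) (c 72 1 (l 0x30000) (c 73 1 (l 0x4000030000) (c 74 1 (f 0x2000100020001 0x8000400020001002a00150 (b 0x6000000020000000300000005000003340000)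 1) (c 75 1 (f 0x2000100020001 0x8000400020001002a00150 (b 0x5000000020000000300000005000002b70000) 1)
 (c 76 1 (l 0x4400040000) (c 77 1 (l 0x40000) (c 78 1 (f 0x2000100020001 0x8000400020001002a00150 (b 0x50000000100000003000000050000029e0000) 1) (c 79 1 (f 0x2000100020001 0x8000400020001002a00150 (b 0x60000000100000003000000050000031b0000) 1)
 d))))))))))))) (a 17 0 (b 0x10000100000000000300050193) (a 18 0 (b 0x10000100000000000300050193) (a 19 0 (b 0x10000100000000000300050193) (a 32 0 0x100001 (a 33 0 0x100001 d))))))) (a 49 0 (b 0x300001000000000003000504b3) (a 50 0 (b 0x300001000000000003000504b3) (a 51 0 (b 0x300001000000000003000504b3) d))))) (c 3 0 (i (b 0x2000100000000000300050035)) d)))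
 (c 208 0 (e 2 0 0 (c 2 0 (e 48 0 0 (c 48 0 (e 16 16 0x2100000020 (c 16 0 (e 4 0 0 (c 4 0 (g (b 0x400001000400100030000d0024007620b8)) (a 5 0 (b 0x4000100000000000300050067) (a 6 0 (b 0x4000100000000000300050067) (a 7 0 (b 0x4000100000000000300050067) (c 72 1 (l 0x30000) (c 73 1 (l 0x4000030000) (c 74 1 (f 0x2000100020001 0x8000400020001002a00150 (b 0x6000000020000000300000005000003340000) 1) (c 75 1 (f 0x2000100020001 0x8000400020001002a00150 (b 0x5000000020000000300000005000002b70000) 1)
 (c 76 1 (l 0x4400040000) (c 77 1 (l 0x40000) (c 78 1 (f 0x2000100020001 0x8000400020001002a00150 (b 0x50000000100000003000000050000029e0000) 1) (c 79 1 (f 0x2000100020001 0x8000400020001002a00150 (b 0x60000000100000003000000050000031b0000) 1)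
 d))))))))))))) (a 17 0 (b 0x10000100000000000300050193) (a 18 0 (b 0x10000100000000000300050193) (a 19 0 (b 0x10000100000000000300050193) (a 32 0 (b 0x100002000000000003000a0193) (a 33 0 (b 0x100002000000000003000a0193) d))))))) (a 49 0 (b 0x300001000000000003000504b3) (a 50 0 (b 0x300001000000000003000504b3) (a 51 0 (b 0x300001000000000003000504b3) d))))) (c 3 0 (i (b 0x2000100000000000300050035)) d))) (c 224 0 (e 2 0 0 (c 2 0 (e 48 0 0 (c 48 0 (e 16 0 0 (c 16 0 (e 4 0 0 (c 4 0 (g (b 0x400001000400100030000d0024007620b8)) (a 5 0 (b 0x4000100000000000300050067) (a 6 0 (b 0x4000100000000000300050067) (a 7 0 (b 0x4000100000000000300050067) (c 72 1 (l 0x30000) (c 73 1 (l 0x4000030000) (c 74 1 (f 0x2000100020001 0x8000400020001002a00150 (b 0x6000000020000000300000005000003340000) 1) (c 75 1 (f 0x2000100020001 0x8000400020001002a00150 (b 0x5000000020000000300000005000002b70000) 1)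
 (c 76 1 (l 0x4400040000) (c 77 1 (l 0x40000) (c 78 1 (f 0x2000100020001 0x8000400020001002a00150 (b 0x50000000100000003000000050000029e0000) 1) (c 79 1 (f 0x2000100020001 0x8000400020001002a00150 (b 0x60000000100000003000000050000031b0000) 1)
 d))))))))))))) (a 17 0 (b 0x10000100000000000300050193) (a 18 0 (b 0x10000100000000000300050193) (a 19 0 (b 0x10000100000000000300050193) (a 32 0 (b 0x100002000000000003000a0193) (a 33 0 (b 0x100002000000000003000a0193) (a 34 0 (b 0x100002000000000003000a0193) (a 35 0 (b 0x100002000000000003000a0193)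
 d))))))))) (a 49 0 (b 0x300001000000000003000504b3) (a 50 0 (b 0x300001000000000003000504b3) (a 51 0 (b 0x300001000000000003000504b3) d))))) (c 3 0 (i (b 0x2000100000000000300050035)) d))) (c 240 0 (e 2 0 0 (c 2 0 (e 48 0 0 (c 48 0 (e 16 0 0 (c 16 0 (e 4 0 0 (c 4 0 (g (b 0x400001000400100030000f0024007820b8)) (a 5 0 (b 0x4000100000000000300050067) (a 6 0 (b 0x4000100000000000300050067) (a 7 0 (b 0x4000100000000000300050067) (c 72 1 (l 0x30000) (c 73 1 (l 0x4000030000) (c 74 1 (f 0x2000100020001 0x8000400020001002a00150 (b 0x6000000020000000300000005000003340000) 1) (c 75 1 (f 0x2000100020001 0x8000400020001002a00150 (b 0x5000000020000000300000005000002b70000) 1)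
 (c 76 1 (l 0x4400040000) (c 77 1 (l 0x40000) (c 78 1 (f 0x2000100020001 0x8000400020001002a00150 (b 0x50000000100000003000000050000029e0000) 1) (c 79 1 (f 0x2000100020001 0x8000400020001002a00150 (b 0x60000000100000003000000050000031b0000) 1)
 d))))))))))))) (a 17 0 (b 0x10000100000000000300050193) (a 18 0 (b 0x10000100000000000300050193) (a 19 0 (b 0x10000100000000000300050193) (a 32 0 0x100001 (a 33 0 0x100001 (a 34 0 0x100001 (a 35 0 0x100001
 d))))))))) (a 49 0 (b 0x300001000000000003000504b3) (a 50 0 (b 0x300001000000000003000504b3) (a 51 0 (b 0x300001000000000003000504b3) d))))) (c 3 0 (i (b 0x2000100000000000300050035)) d))) d))))))))))))))))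
 d)))) k d)<|k))
noncomputable def lb133_0 : List (List ℕ) := Gh.aft nb133_0 []
theorem sb133_0 : cb133.NCs lb133_0 := Gh.step bb133 Gh.nil (by decide +kernel)
noncomputable def nb133_1 : List Nd := (beta% delta% lq260d0090aa fun a b c d e f g h i j k _ m _ _ p _ _ =>
 (h (p (h 0x900400020002000100010004500080048000428caad9c<|h 0x8c0080002000200010001000880004485441f4<|h 0x800080004000400012001000100002452a4512<|k) 1 0x10000200100002 0 0 0 344 (b 0x7000000010005000000010000000400030000000200000088004000200010000800050002000145b220ea0000000000000000000000000000000000000000000000000000000000000000000000000000000000000070bca3b0)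
 (g (b 0x8000010040000100100001003000014540009c))
 (c 0 0 (e 0 (b 0x100000000000000020000000000000008000002ab0) (b 0x200fc000200f4000200ec000200e4000100dc000100d40002007c000200740002006c000200640001005c00010054000200f9000000f9000200f1000000f1000200e9000000e9000200e1000000e1000100d9000000d9000100d1000000d1000000cb000000c9000000c3000000c10002007900000079000200710000007100020069000000690002006100000061000100590000005900010051000000510000004b000000490000004300000041000200fd000000fd000200f5000000f5000200ed000000ed000200e5000000e5000100dd000000dd000100d5000000d5000000cf000000cd000000c7000000c50002007d0000007d00020075000000750002006d0000006d00020065000000650001005d0000005d00010055000000550000004f0000004d0000004700000045000200f8000000f8000200f0000000f0000200e8000000e8000200e0000000e0000100d8000000d8000100d0000000d0000000ca000000c8000000c2000000c00002007800000078000200700000007000020068000000680002006000000060000100580000005800010050000000500000004a000000480000004200000040dd895e41) (c 64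 0 (e 1 64 8 (c 1 0 (e 8 0 0 (c 8 0 (e 2 64 10 (c 2 0 (e 16 (b 0x100000000000000050000001e0) (b 0x1002b000100280000002800000021000000200000001a00000018494a9e4a) (c 16 0 (j 0x10000200100002) (a 17 0 (b 0x10000100000000000300050193) (a 18 0 (b 0x10000100000000000300050193) (a 19 0 (b 0x10000100000000000300050193) (a 24 0 0x100001 (a 26 0 0x100001 (a 32 1 (b 0x10000100000000000300050193) (a 33 1 (b 0x10000100000000000300050193)
 (a 40 1 (b 0x39000100000000000300050594) d)))))))))) (a 3 0 (b 0x2000100000000000300050035) (a 10 0 0x20001 d)))) (c 9 0 (i (b 0x80001000000000003000500cb)) d))) (c 8 1 (e 2 0 0 (c 2 0 (e 16 16 (b 0x29000000280000002100000020000018b2) (c 16 0 (j 0x10000200100002) (a 17 0 0x100001 (a 18 0 (b 0x10000100000000000300050193) (a 19 0 0x100001 (a 24 0 0x100001 (c 25 0 (f 0x2000100020001 0x8000400020001002a00150 (b 0x8000000050000000100000007000000050000163a0000) 1) (a 26 0 0x100001 (a 27 0 (b 0x110001000000000003000501ac)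
 (a 32 1 (b 0x10000100000000000300050193) (a 33 1 (b 0x10000100000000000300050193) (a 40 1 (b 0x110001000000000003000501ac) (a 41 1 (b 0x110001000000000003000501ac) d))))))))))))) (a 3 0 0x20001 (a 10 0 0x20001 (c 11 0 (f 0x2000100020001 0x8000400020001002a00150 (b 0x50000000100000005000000870000) 1)
 d))))) d))) (c 66 0 (e 1 64 8 (c 1 0 (e 8 0 0 (c 8 0 (e 2 64 10 (c 2 0 (e 16 (b 0x100000000000000050000001e0) (b 0x1002b000100280000002800000021000000200000001a00000018494a9e4a) (c 16 0 (j 0x10000200100002) (a 17 0 (b 0x10000100000000000300050193) (a 18 0 (b 0x10000100000000000300050193) (a 19 0 (b 0x10000100000000000300050193) (a 24 0 0x100001 (a 26 0 0x100001 (a 32 1 (b 0x10000100000000000300050193) (a 33 1 (b 0x10000100000000000300050193)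
 (a 40 1 (b 0x39000100000000000300050594) d)))))))))) (a 3 0 (b 0x2000100000000000300050035) (a 10 0 0x20001 d)))) (c 9 0 (i (b 0x80001000000000003000500cb)) d))) (c 8 1 (e 2 0 0 (c 2 0 (e 16 16 (b 0x29000000280000002100000020000018b2) (c 16 0 (j 0x10000200100002) (a 17 0 0x100001 (a 18 0 (b 0x10000100000000000300050193) (a 19 0 0x100001 (a 24 0 0x100001 (c 25 0 (f 0x2000100020001 0x8000400020001002a00150 (b 0x8000000050000000100000007000000050000163a0000) 1) (a 26 0 0x100001 (a 27 0 (b 0x110001000000000003000501ac)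
 (a 32 1 (b 0x10000100000000000300050193) (a 33 1 (b 0x10000100000000000300050193) (a 40 1 (b 0x110001000000000003000501ac) (a 41 1 (b 0x110001000000000003000501ac) d))))))))))))) (a 3 0 0x20001 (a 10 0 0x20001 (c 11 0 (f 0x2000100020001 0x8000400020001002a00150 (b 0x50000000100000005000000870000) 1)
 d))))) d))) (c 72 0 (e 8 0 0 (c 8 0 (e 2 68 10 (c 2 0 (e 16 (b 0x100000000000000054000001e4) (b 0x1002b000100280000002800000021000000200000001a00000018494a9e4a) (c 16 0 (j 0x10000200100002) (a 17 0 (b 0x10000100000000000300050193) (a 18 0 (b 0x10000100000000000300050193) (a 19 0 (b 0x10000100000000000300050193) (a 24 0 0x100001 (a 26 0 0x100001 (a 32 1 (b 0x10000100000000000300050193) (a 33 1 (b 0x10000100000000000300050193)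
 (a 40 1 (b 0x39000100000000000300050594) d)))))))))) (a 3 0 (b 0x2000100000000000300050035) (a 10 0 0x20001 d)))) (c 9 0 (i (b 0x80001000000000003000500cb)) d))) (c 74 0 (e 8 0 0 (c 8 0 (e 2 68 10 (c 2 0 (e 16 (b 0x100000000000000054000001e4) (b 0x1002b000100280000002800000021000000200000001a00000018494a9e4a) (c 16 0 (j 0x10000200100002) (a 17 0 (b 0x10000100000000000300050193) (a 18 0 (b 0x10000100000000000300050193) (a 19 0 (b 0x10000100000000000300050193) (a 24 0 0x100001 (a 26 0 0x100001 (a 32 1 (b 0x10000100000000000300050193) (a 33 1 (b 0x10000100000000000300050193)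
 (a 40 1 (b 0x39000100000000000300050594) d)))))))))) (a 3 0 (b 0x2000100000000000300050035) (a 10 0 0x20001 d)))) (c 9 0 (i (b 0x80001000000000003000500cb)) d)))
 (c 80 0 (e 1 64 8 (c 1 0 (e 8 0 0 (c 8 0 (e 2 64 10 (c 2 0 (e 16 (b 0x100000000000000050000001e0) (b 0x1002b000100280000002800000021000000200000001a00000018494a9e4a) (c 16 0 (j 0x10000200100002) (a 17 0 (b 0x10000100000000000300050193) (a 18 0 (b 0x10000100000000000300050193) (a 19 0 (b 0x10000100000000000300050193) (a 24 0 0x100001 (a 26 0 0x100001 (a 32 1 (b 0x100002000000000003000a0193) (a 33 1 (b 0x100002000000000003000a0193)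
 (a 40 1 (b 0x3b0001000000000003000505c6) d)))))))))) (a 3 0 (b 0x2000100000000000300050035) (a 10 0 0x20001 d)))) (c 9 0 (i (b 0x80001000000000003000500cb)) d))) (c 8 1 (e 2 0 0 (c 2 0 (e 16 16 (b 0x29000000280000002100000020000018b2) (c 16 0 (j 0x10000200100002) (a 17 0 0x100001 (a 18 0 (b 0x10000100000000000300050193) (a 19 0 0x100001 (a 24 0 0x100001 (c 25 0 (f 0x2000100020001 0x8000400020001002a00150 (b 0x8000000050000000100000007000000050000163a0000) 1) (a 26 0 0x100001 (a 27 0 (b 0x110001000000000003000501ac)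
 (a 32 1 (b 0x100002000000000003000a0193) (a 33 1 (b 0x100002000000000003000a0193) (a 40 1 (b 0x110002000000000003000a01ac) (a 41 1 (b 0x110002000000000003000a01ac) d))))))))))))) (a 3 0 0x20001 (a 10 0 0x20001 (c 11 0 (f 0x2000100020001 0x8000400020001002a00150 (b 0x50000000100000005000000870000) 1)
 d))))) d))) (c 88 0 (e 8 0 0 (c 8 0 (e 2 68 10 (c 2 0 (e 16 (b 0x100000000000000054000001e4) (b 0x1002b000100280000002800000021000000200000001a00000018494a9e4a) (c 16 0 (j 0x10000200100002) (a 17 0 (b 0x10000100000000000300050193) (a 18 0 (b 0x10000100000000000300050193) (a 19 0 (b 0x10000100000000000300050193) (a 24 0 0x100001 (a 26 0 0x100001 (a 32 1 (b 0x100002000000000003000a0193) (a 33 1 (b 0x100002000000000003000a0193)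
 (a 40 1 (b 0x3b0001000000000003000505c6) d)))))))))) (a 3 0 (b 0x2000100000000000300050035) (a 10 0 0x20001 d)))) (c 9 0 (i (b 0x80001000000000003000500cb)) d))) (c 96 0 (e 1 64 8 (c 1 0 (e 8 0 0 (c 8 0 (e 2 64 10 (c 2 0 (e 16 64 (b 0x2a000000280000001a0000001800001904) (c 16 0 (j 0x10000200100002) (a 17 0 (b 0x10000100000000000300050193) (a 18 0 (b 0x10000100000000000300050193) (a 19 0 (b 0x10000100000000000300050193) (a 24 0 0x100001 (a 26 0 0x100001 (a 32 1 (b 0x100002000000000003000a0193) (a 33 1 (b 0x100002000000000003000a0193)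
 (a 34 1 (b 0x100002000000000003000a0193) (a 35 1 (b 0x100002000000000003000a0193) (a 40 1 (b 0x39000100000000000300050594) (a 42 1 (b 0x3b0001000000000003000505c6) d))))))))))))) (a 3 0 (b 0x2000100000000000300050035) (a 10 0 0x20001 d)))) (c 9 0 (i (b 0x80001000000000003000500cb)) d))) (c 8 1 (e 2 0 0 (c 2 0 (e 16 0 0 (c 16 0 (j 0x10000200100002) (a 17 0 0x100001 (a 18 0 (b 0x10000100000000000300050193) (a 19 0 0x100001 (a 24 0 0x100001 (c 25 0 (f 0x2000100020001 0x8000400020001002a00150 (b 0x8000000050000000100000007000000050000163a0000) 1) (a 26 0 0x100001 (a 27 0 (b 0x110001000000000003000501ac)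
 (a 32 1 (b 0x100002000000000003000a0193) (a 33 1 (b 0x100002000000000003000a0193) (a 34 1 (b 0x100002000000000003000a0193) (a 35 1 (b 0x100002000000000003000a0193) (a 40 1 (b 0x110002000000000003000a01ac) (a 41 1 (b 0x110002000000000003000a01ac) (a 42 1 (b 0x110002000000000003000a01ac) (a 43 1 (b 0x110002000000000003000a01ac)
 d))))))))))))))))) (a 3 0 0x20001 (a 10 0 0x20001 (c 11 0 (f 0x2000100020001 0x8000400020001002a00150 (b 0x50000000100000005000000870000) 1)
 d))))) d))) (c 104 0 (e 8 0 0 (c 8 0 (e 2 68 10 (c 2 0 (e 16 68 (b 0x2a000000280000001a0000001800001904) (c 16 0 (j 0x10000200100002) (a 17 0 (b 0x10000100000000000300050193) (a 18 0 (b 0x10000100000000000300050193) (a 19 0 (b 0x10000100000000000300050193) (a 24 0 0x100001 (a 26 0 0x100001 (a 32 1 (b 0x100002000000000003000a0193) (a 33 1 (b 0x100002000000000003000a0193)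
 (a 34 1 (b 0x100002000000000003000a0193) (a 35 1 (b 0x100002000000000003000a0193) (a 40 1 (b 0x39000100000000000300050594) (a 42 1 (b 0x3b0001000000000003000505c6) d))))))))))))) (a 3 0 (b 0x2000100000000000300050035) (a 10 0 0x20001 d)))) (c 9 0 (i (b 0x80001000000000003000500cb)) d)))
 (c 112 0 (e 1 64 8 (c 1 0 (e 16 64 (b 0x2a000000280000001a0000001800001904) (c 16 0 (j 0x10000200100002) (a 17 0 (b 0x10000100000000000300050193) (a 18 0 (b 0x10000100000000000300050193) (a 19 0 (b 0x10000100000000000300050193) (a 24 1 (b 0xb000100000000000300050116) (a 26 1 (b 0x90001000000000003000500e4) (a 32 1 (b 0x10000100000000000300050193) (a 33 1 (b 0x10000100000000000300050193)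
 (a 34 1 (b 0x10000100000000000300050193) (a 35 1 (b 0x10000100000000000300050193) (a 40 1 (b 0x3b0001000000000003000505c6) (a 42 1 (b 0x39000100000000000300050594) d))))))))))))) (c 8 1 (e 16 0 0 (c 16 0 (j 0x10000200100002) (a 17 0 0x100001 (a 18 0 (b 0x10000100000000000300050193) (a 19 0 0x100001 (a 24 0 0x100001 (c 25 0 (f 0x2000100020001 0x8000400020001002a00150 (b 0x8000000050000000100000007000000050000163a0000) 1) (a 26 0 0x100001 (a 27 0 (b 0x110001000000000003000501ac)
 (a 32 1 (b 0x10000100000000000300050193) (a 33 1 (b 0x10000100000000000300050193) (a 34 1 (b 0x10000100000000000300050193) (a 35 1 (b 0x10000100000000000300050193) (a 40 1 (b 0x110001000000000003000501ac) (a 41 1 (b 0x110001000000000003000501ac) (a 42 1 (b 0x110001000000000003000501ac) (a 43 1 (b 0x110001000000000003000501ac)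
 d))))))))))))))))) d))) (c 120 0 (e 1 68 8 (c 1 0 (e 16 68 (b 0x2a000000280000001a0000001800001904) (c 16 0 (j 0x10000200100002) (a 17 0 (b 0x10000100000000000300050193) (a 18 0 (b 0x10000100000000000300050193) (a 19 0 (b 0x10000100000000000300050193) (a 24 1 (b 0xb000100000000000300050116) (a 26 1 (b 0x90001000000000003000500e4) (a 32 1 (b 0x10000100000000000300050193) (a 33 1 (b 0x10000100000000000300050193)
 (a 34 1 (b 0x10000100000000000300050193) (a 35 1 (b 0x10000100000000000300050193) (a 40 1 (b 0x3b0001000000000003000505c6) (a 42 1 (b 0x39000100000000000300050594) d))))))))))))) (c 8 1 (f 0x2000100020001 0x8000400020001002a00150 (b 0x50000000100000005000000870000) 1) d))) (c 192 0 (g (b 0x800001002b00100012000d00210076432e)) (c 194 0 (g (b 0x800001002b00100012000d00210076432e))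
 (c 208 0 (g (b 0x800001002b00100012000d00210076432e)) (c 224 0 (g (b 0x800001002b00100012000d00210076432e)) (c 240 0 (g (b 0x800001002b00100012000f00210078432e)) (c 200 0 (g (b 0x800001002b00100012000c00210075432e))
 (c 202 0 (g (b 0x800001002b00100012000c00210075432e)) (c 216 0 (g (b 0x800001002b00100012000c00210075432e)) (c 232 0 (g (b 0x800001002b00100012000c00210075432e)) (c 248 0 (g (b 0x800001002b00100012000e00210077432e))
 d)))))))))))))))))))))
 (c 0 0 (e 0 (b 0x100000000100000064000000000000004000000000000000900004d7b9) (b 0x200f6000200f5000200f3000200f1000200e6000200e5000200e3000200e1000200b6000200b7000200a6000200a70003007e0003006e00030066000200f2000200f4000300f4000200f7000300f7000100f7000000f7000200e2000200e4000300e4000200e7000300e7000100e7000000e7000200b4000200b3000100b3000200b5000200b2000100b2000200a4000200a3000100a3000200a5000200a2000100a200030079000000790003007f0002007700030077000100770000007700030069000000690003006f0002006200030067000100670002003e000100360002002e0001002a00010026000200f0000300f0000100f0000000f0000200e0000300e0000100e0000000e0000200b1000100b1000000b1000200b0000100b0000000b0000200a1000100a1000000a1000200a0000100a0000000a00003007800010078000000780002007000030070000000700003006800010068000000680002006000030060000000600002003c0000003c000200380001003800000038000100340000003400000031000000300002002c0000002c00010028000000280001002400000024000000210000002034183d34)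 (c 32 0 (e 1 0 0 (c 1 0 (e 8 0 0 (c 8 0 (e 4 32 0x1500000014 (c 4 0 (e 2 32 0x1100000010 (c 2 0 (g (b 0x80000100160040001200020021015b4121)) (a 3 0 (b 0x2000100000000000300050035) (c 16 1 (j 0x10000200100002) (c 17 1 (f 0x2000100020001 0x8000400020001002a00150 0x2000000070000 1)
 d))))) (a 5 0 (b 0x4000100000000000300050067) (a 6 0 0xc0002 (a 7 0 0xc0002 (a 20 0 0xc0002 (a 21 0 0xc0002 d))))))) (c 9 0 (i (b 0x80001000000000003000500cb)) d))) d)) (c 33 0 (e 1 0 0 (c 1 0 (e 8 0 0 (c 8 0 (e 4 32 0x1500000014 (c 4 0 (e 2 32 0x1100000010 (c 2 0 (g (b 0x80000100160040001200020021015b4121)) (a 3 0 (b 0x2000100000000000300050035) (c 16 1 (j 0x10000200100002) (c 17 1 (f 0x2000100020001 0x8000400020001002a00150 0x2000000070000 1)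
 d))))) (a 5 0 (b 0x4000100000000000300050067) (a 6 0 0xc0002 (a 7 0 0xc0002 (a 20 0 0xc0002 (a 21 0 0xc0002 d))))))) (c 9 0 (i (b 0x80001000000000003000500cb)) d))) d)) (c 36 0 (e 8 0 0 (c 8 0 (e 4 32 0x1500000014 (c 4 0 (e 2 32 0x1100000010 (c 2 0 (g (b 0x80000100160040001200020021015b4121)) (a 3 0 (b 0x2000100000000000300050035) (c 16 1 (j 0x10000200100002) (c 17 1 (f 0x2000100020001 0x8000400020001002a00150 0x2000000070000 1)
 d))))) (a 5 0 (b 0x4000100000000000300050067) (a 6 0 0xc0002 (a 7 0 0xc0002 (a 20 0 0xc0002 (a 21 0 0xc0002 d))))))) (c 9 0 (i (b 0x80001000000000003000500cb)) d))) (c 40 0 (e 1 0 0 (c 1 0 (e 8 0 0 (c 8 0 (e 4 32 0x1500000014 (c 4 0 (e 2 32 0x1100000010 (c 2 0 (g (b 0x80000100160040001200020021015b4121)) (a 3 0 (b 0x2000100000000000300050035) (c 16 1 (j 0x10000200100002) (c 17 1 (f 0x2000100020001 0x8000400020001002a00150 0x2000000070000 1)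
 d))))) (a 5 0 (b 0x4000100000000000300050067) (a 6 0 0xc0002 (a 7 0 0xc0002 (a 20 0 0xc0002 (a 21 0 0xc0002 d))))))) (c 9 0 (i (b 0x80001000000000003000500cb)) d))) d))
 (c 44 0 (e 12 0 0 (c 12 0 (e 4 32 0x1500000014 (c 4 0 (e 2 32 0x1100000010 (c 2 0 (g (b 0x80000100160040001200020021015b4121)) (a 3 0 (b 0x2000100000000000300050035) (c 16 1 (j 0x10000200100002) (c 17 1 (f 0x2000100020001 0x8000400020001002a00150 0x2000000070000 1)
 d))))) (a 5 0 (b 0x4000100000000000300050067) (a 6 0 0x90002 (a 7 0 0x90002 (a 20 0 0x90002 (a 21 0 0x90002 d))))))) (c 13 0 (i (b 0xc00010000000000030005012f)) d))) (c 48 0 (g (b 0x80000100160040001200020021015b4121)) (c 49 0 (g (b 0x80000100160040001200020021015b4121)) (c 52 0 (g (b 0x80000100160040001200030021015c4121))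
 (c 56 0 (g (b 0x80000100160040001200020021015b4121)) (c 60 0 (g (b 0x80000100160040001200030021015c4121)) (c 96 0 (e 1 0 0 (c 1 0 (e 8 0 0 (c 8 0 (e 4 32 0x1500000014 (c 4 0 (e 2 32 0x1100000010 (c 2 0 (g (b 0x80000100160040001200020021015b4121)) (a 3 0 (b 0x2000100000000000300050035) (c 16 1 (j 0x10000200100002) (c 17 1 (f 0x2000100020001 0x8000400020001002a00150 0x2000000070000 1)
 d))))) (a 5 0 (b 0x4000100000000000300050067) (a 6 0 0xc0002 (a 7 0 0xc0002 (a 20 0 0xc0002 (a 21 0 0xc0002 d))))))) (c 9 0 (i (b 0x80001000000000003000500cb)) d))) d)) (c 104 0 (e 8 0 0 (c 8 0 (e 4 32 0x1500000014 (c 4 0 (e 2 32 0x1100000010 (c 2 0 (g (b 0x80000100160040001200020021015b4121)) (a 3 0 (b 0x2000100000000000300050035) (c 16 1 (j 0x10000200100002) (c 17 1 (f 0x2000100020001 0x8000400020001002a00150 0x2000000070000 1)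
 d))))) (a 5 0 (b 0x4000100000000000300050067) (a 6 0 0xc0002 (a 7 0 0xc0002 (a 20 0 0xc0002 (a 21 0 0xc0002 d))))))) (c 9 0 (i (b 0x80001000000000003000500cb)) d)))
 (c 112 0 (g (b 0x80000100160040001200020021015b4121)) (c 120 0 (g (b 0x80000100160040001200030021015c4121)) (c 160 0 (e 1 0 0 (c 1 0 (e 4 32 0x1500000014 (c 4 0 (e 2 32 0x1100000010 (c 2 0 (g (b 0x80000100160040001200020021015b4121)) (a 3 0 (b 0x2000100000000000300050035) (c 16 1 (j 0x10000200100002) (c 17 1 (f 0x2000100020001 0x8000400020001002a00150 0x2000000070000 1)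
 d))))) (a 5 0 (b 0x4000100000000000300050067) (a 6 0 0xc0002 (a 7 0 0xc0002 (a 20 0 0xc0002 (a 21 0 0xc0002 d))))))) d)) (c 161 0 (e 1 0 0 (c 1 0 (e 4 32 0x1500000014 (c 4 0 (e 2 32 0x1100000010 (c 2 0 (g (b 0x80000100160040001200020021015b4121)) (a 3 0 (b 0x2000100000000000300050035) (c 16 1 (j 0x10000200100002) (c 17 1 (f 0x2000100020001 0x8000400020001002a00150 0x2000000070000 1)
 d))))) (a 5 0 (b 0x4000100000000000300050067) (a 6 0 0xc0002 (a 7 0 0xc0002 (a 20 0 0xc0002 (a 21 0 0xc0002 d))))))) d))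
 (c 176 0 (g (b 0x800001001600400012000a002101634121)) (c 177 0 (g (b 0x800001001600400012000a002101634121)) (c 224 0 (e 4 32 0x1500000014 (c 4 0 (e 2 32 0x1100000010 (c 2 0 (g (b 0x80000100160040001200020021015b4121)) (a 3 0 (b 0x2000100000000000300050035) (c 16 1 (j 0x10000200100002) (c 17 1 (f 0x2000100020001 0x8000400020001002a00150 0x2000000070000 1)
 d))))) (c 5 0 (i (b 0x4000100000000000300050067)) (a 6 0 0x80002 (a 7 0 0x80002 (a 20 0 0x80002 (a 21 0 0x80002 d))))))) (c 240 0 (g (b 0x800001001600400012000f002101684121))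
 d)))))))))))))))))))))
 (c 0 0 (e 0 (b 0x200000000100000000000000000000004000000000000000a00007b435) (b 0x300ff000200f3000200f1000300df000200d3000200d1000200b6000200b700020096000200970003007e00030076000300710003005e0003005600030051000300f9000000f9000300f4000200f4000300f7000200f7000100f7000000f7000300d9000000d9000300d4000200d4000300d7000200d7000100d7000000d7000200b4000200b3000100b3000200b5000200b2000100b2000200940002009300010093000200950002009200010092000300790003007f0002007f000300770001007700000077000300590003005f0002005f0003005700010057000000570002003e0001003a000100360002001e0001001a00010016000300f0000200f0000100f0000000f0000300d0000200d0000100d0000000d0000200b1000100b1000000b1000200b0000100b0000000b0000200910001009100000091000200900001009000000090000300780001007800000078000300700000007000030058000100580000005800030050000000500002003c0000003c0001003800000038000100340000003400000031000000300002001c0000001c000100180000001800010014000000140000001100000010b4841d46) (c 16 0 (e 1 0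 0 (c 1 0 (e 8 0 0 (c 8 0 (e 4 16 0x2500000024 (c 4 0 (e 2 16 0x2100000020 (c 2 0 (g (b 0x80000100260040001200020021015b42b1)) (a 3 0 (b 0x2000100000000000300050035) (c 32 1 (e 128 0 0 (c 128 0 (e 64 64 (b 0x6600000064000000460000004400003d34) (c 64 0 (m 0 0x80004000200010000800040002000141ca20e5 (b 0x1000000010007000000010005000000010003000000010f2811a4)) (a 65 0 (b 0x40000100000000000300050643) (a 66 0 0x400001 (a 67 0 0x400001 (a 68 0 0x400001 (a 70 0 0x400001 (a 96 0 0x400001 (a 97 0 0x400001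
 (c 98 0 (f 0x2000100020001 0x8000400020001002a00150 (b 0x1000000060000000400000001000000030000000100000005000090dd0000) 1) (a 99 0 (b 0x42000100000000000300050675) (a 100 0 0x400001 (a 102 0 0x400001 d))))))))))))) (a 129 0 (b 0x80000100000000000300050c83) (a 130 0 0x800001 (a 131 0 0x800001 (a 136 0 (b 0x80000100000000000300050c83) (a 137 0 (b 0x80000100000000000300050c83) (a 138 0 0x800001 (a 139 0 0x800001
 (a 160 0 0x800001 (a 161 0 0x800001 (c 162 0 (f 0xc0002000c0002 0x8000400020001002a00150 (b 0x100000006000000010000000500000001000005920000) 1) (a 163 0 (b 0x82000100000000000300050cb5) (a 168 0 0x800001 (a 169 0 0x800001 (a 170 0 (b 0x82000100000000000300050cb5) (a 171 0 (b 0x82000100000000000300050cb5)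
 d))))))))))))))))) (c 33 1 (f 0x2000100020001 0x8000400020001002a00150 (b 0x50000000200000005000000010000000500000db60000) 1)
 d))))) (a 5 0 (b 0x4000100000000000300050067) (a 6 0 0xc0002 (a 7 0 0xc0002 (a 36 0 0xc0002 (a 37 0 0xc0002 d))))))) (c 9 0 (i (b 0x80001000000000003000500cb)) d))) d)) (c 17 0 (e 1 0 0 (c 1 0 (e 8 0 0 (c 8 0 (e 4 16 0x2500000024 (c 4 0 (e 2 16 0x2100000020 (c 2 0 (g (b 0x80000100260040001200020021015b42b1)) (a 3 0 (b 0x2000100000000000300050035) (c 32 1 (e 128 0 0 (c 128 0 (e 64 64 (b 0x6600000064000000460000004400003d34) (c 64 0 (m 0 0x80004000200010000800040002000141ca20e5 (b 0x1000000010007000000010005000000010003000000010f2811a4)) (a 65 0 (b 0x40000100000000000300050643) (a 66 0 0x400001 (a 67 0 0x400001 (a 68 0 0x400001 (a 70 0 0x400001 (a 96 0 0x400001 (a 97 0 0x400001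
 (c 98 0 (f 0x2000100020001 0x8000400020001002a00150 (b 0x1000000060000000400000001000000030000000100000005000090dd0000) 1) (a 99 0 (b 0x42000100000000000300050675) (a 100 0 0x400001 (a 102 0 0x400001 d))))))))))))) (a 129 0 (b 0x80000100000000000300050c83) (a 130 0 0x800001 (a 131 0 0x800001 (a 136 0 (b 0x80000100000000000300050c83) (a 137 0 (b 0x80000100000000000300050c83) (a 138 0 0x800001 (a 139 0 0x800001
 (a 160 0 0x800001 (a 161 0 0x800001 (c 162 0 (f 0xc0002000c0002 0x8000400020001002a00150 (b 0x100000006000000010000000500000001000005920000) 1) (a 163 0 (b 0x82000100000000000300050cb5) (a 168 0 0x800001 (a 169 0 0x800001 (a 170 0 (b 0x82000100000000000300050cb5) (a 171 0 (b 0x82000100000000000300050cb5)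
 d))))))))))))))))) (c 33 1 (f 0x2000100020001 0x8000400020001002a00150 (b 0x50000000200000005000000010000000500000db60000) 1)
 d))))) (a 5 0 (b 0x4000100000000000300050067) (a 6 0 0xc0002 (a 7 0 0xc0002 (a 36 0 0xc0002 (a 37 0 0xc0002 d))))))) (c 9 0 (i (b 0x80001000000000003000500cb)) d))) d)) (c 20 0 (e 8 0 0 (c 8 0 (e 4 16 0x2500000024 (c 4 0 (e 2 16 0x2100000020 (c 2 0 (g (b 0x80000100260040001200020021015b42b1)) (a 3 0 (b 0x2000100000000000300050035) (c 32 1 (e 128 0 0 (c 128 0 (e 64 0 0 (c 64 0 (m 0 0x80004000200010000800040002000141ca20e5 (b 0x1000000010007000000010005000000010003000000010f2811a4)) (a 65 0 (b 0x40000100000000000300050643) (a 66 0 0x400001 (a 67 0 0x400001 (a 68 0 0x400001 (a 69 0 0x400001 (a 70 0 0x400001 (a 71 0 0x400001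
 (a 96 0 0x400001 (a 97 0 0x400001 (c 98 0 (f 0x2000100020001 0x8000400020001002a00150 (b 0x1000000060000000400000001000000030000000100000005000090dd0000) 1) (a 99 0 (b 0x42000100000000000300050675) (a 100 0 0x400001 (a 101 0 0x400001 (a 102 0 0x400001 (a 103 0 0x400001
 d))))))))))))))))) (a 129 0 (b 0x80000100000000000300050c83) (a 130 0 0x800001 (a 131 0 0x800001 (a 136 0 (b 0x80000100000000000300050c83) (a 137 0 (b 0x80000100000000000300050c83) (a 138 0 0x800001 (a 139 0 0x800001
 (a 160 0 0x800001 (a 161 0 0x800001 (c 162 0 (f 0xc0002000c0002 0x8000400020001002a00150 (b 0x100000006000000010000000500000001000005920000) 1) (a 163 0 (b 0x82000100000000000300050cb5) (a 168 0 0x800001 (a 169 0 0x800001 (a 170 0 (b 0x82000100000000000300050cb5) (a 171 0 (b 0x82000100000000000300050cb5)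
 d))))))))))))))))) (c 33 1 (f 0x2000100020001 0x8000400020001002a00150 (b 0x50000000200000005000000010000000500000db60000) 1)
 d))))) (a 5 0 (b 0x4000100000000000300050067) (a 6 0 0xc0002 (a 7 0 0xc0002 (a 36 0 0xc0002 (a 37 0 0xc0002 d))))))) (c 9 0 (i (b 0x80001000000000003000500cb)) d))) (c 24 0 (e 1 0 0 (c 1 0 (e 8 0 0 (c 8 0 (e 4 16 0x2500000024 (c 4 0 (e 2 16 0x2100000020 (c 2 0 (g (b 0x80000100260040001200020021015b42b1)) (a 3 0 (b 0x2000100000000000300050035) (c 32 1 (e 128 0 0 (c 128 0 (e 64 0x100000000 (b 0x6600000064000000460000004400003d34) (c 64 0 (m 0 0x80004000200010000800040002000141ca20e5 (b 0x1000000010007000000010005000000010003000000010f2811a4)) (a 65 0 (b 0x40000100000000000300050643) (a 66 0 0x400001 (a 67 0 0x400001 (a 68 0 0x400001 (a 70 0 0x400001 (a 96 0 0x400001 (a 97 0 0x400001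
 (c 98 0 (f 0x2000100020001 0x8000400020001002a00150 (b 0x1000000060000000400000001000000030000000100000005000090dd0000) 1) (a 99 0 (b 0x42000100000000000300050675) (a 100 0 0x400001 (a 102 0 0x400001 d))))))))))))) (a 129 0 (b 0x80000100000000000300050c83) (a 130 0 0x800001 (a 131 0 0x800001 (a 136 0 (b 0x80000100000000000300050c83) (a 137 0 (b 0x80000100000000000300050c83) (a 138 0 0x800001 (a 139 0 0x800001
 (a 160 0 0x800001 (a 161 0 0x800001 (c 162 0 (f 0xc0002000c0002 0x8000400020001002a00150 (b 0x100000006000000010000000500000001000005920000) 1) (a 163 0 (b 0x82000100000000000300050cb5) (a 168 0 0x800001 (a 169 0 0x800001 (a 170 0 (b 0x82000100000000000300050cb5) (a 171 0 (b 0x82000100000000000300050cb5)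
 d))))))))))))))))) (c 33 1 (f 0x2000100020001 0x8000400020001002a00150 (b 0x50000000200000005000000010000000500000db60000) 1)
 d))))) (a 5 0 (b 0x4000100000000000300050067) (a 6 0 0xc0002 (a 7 0 0xc0002 (a 36 0 0xc0002 (a 37 0 0xc0002 d))))))) (c 9 0 (i (b 0x80001000000000003000500cb)) d))) d))
 (c 28 0 (e 12 0 0 (c 12 0 (e 4 16 0x2500000024 (c 4 0 (e 2 16 0x2100000020 (c 2 0 (g (b 0x80000100260040001200020021015b42b1)) (a 3 0 (b 0x2000100000000000300050035) (c 32 1 (e 128 0 0 (c 128 0 (e 64 64 (b 0x6600000064000000460000004400003d34) (c 64 0 (m 0 0x80004000200010000800040002000141ca20e5 (b 0x1000000010007000000010005000000010003000000010f2811a4)) (a 65 0 (b 0x40000100000000000300050643) (a 66 0 0x400001 (a 67 0 0x400001 (a 68 0 0x400001 (a 70 0 0x400001 (a 96 0 0x400001 (a 97 0 0x400001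
 (c 98 0 (f 0x2000100020001 0x8000400020001002a00150 (b 0x1000000060000000400000001000000030000000100000005000090dd0000) 1) (a 99 0 (b 0x42000100000000000300050675) (a 100 0 0x400001 (a 102 0 0x400001 d))))))))))))) (a 129 0 (b 0x80000100000000000300050c83) (a 130 0 0x800001 (a 131 0 0x800001 (a 136 0 (b 0x80000100000000000300050c83) (a 137 0 (b 0x80000100000000000300050c83) (a 138 0 0x800001 (a 139 0 0x800001
 (a 160 0 0x800001 (a 161 0 0x800001 (c 162 0 (f 0xc0002000c0002 0x8000400020001002a00150 (b 0x100000006000000010000000500000001000005920000) 1) (a 163 0 (b 0x82000100000000000300050cb5) (a 168 0 0x800001 (a 169 0 0x800001 (a 170 0 (b 0x82000100000000000300050cb5) (a 171 0 (b 0x82000100000000000300050cb5)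
 d))))))))))))))))) (c 33 1 (f 0x2000100020001 0x8000400020001002a00150 (b 0x50000000200000005000000010000000500000db60000) 1)
 d))))) (a 5 0 (b 0x4000100000000000300050067) (a 6 0 0x90002 (a 7 0 0x90002 (a 36 0 0x90002 (a 37 0 0x90002 d))))))) (c 13 0 (i (b 0xc00010000000000030005012f)) d))) (c 48 0 (g (b 0x80000100260040001200020021015b42b1)) (c 49 0 (g (b 0x80000100260040001200020021015b42b1)) (c 52 0 (g (b 0x80000100260040001200030021015c42b1))
 (c 56 0 (g (b 0x80000100260040001200020021015b42b1)) (c 60 0 (g (b 0x80000100260040001200030021015c42b1)) (c 80 0 (e 1 0 0 (c 1 0 (e 8 0 0 (c 8 0 (e 4 16 0x2500000024 (c 4 0 (e 2 16 0x2100000020 (c 2 0 (g (b 0x80000100260040001200020021015b42b1)) (a 3 0 (b 0x2000100000000000300050035) (c 32 1 (e 128 0 0 (c 128 0 (e 64 64 (b 0x6600000064000000460000004400003d34) (c 64 0 (m 0 0x80004000200010000800040002000141ca20e5 (b 0x1000000010007000000010005000000010003000000010f2811a4)) (a 65 0 (b 0x40000100000000000300050643) (a 66 0 0x400001 (a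 67 0 0x400001 (a 68 0 (b 0x400002000000000003000a0643) (a 70 0 0x400001 (a 96 0 0x400001 (a 97 0 0x400001
 (c 98 0 (f 0x2000100020001 0x8000400020001002a00150 (b 0x1000000060000000400000001000000030000000100000005000090dd0000) 1) (a 99 0 (b 0x42000100000000000300050675) (a 100 0 0x400001 (a 102 0 (b 0x420002000000000003000a0675) d))))))))))))) (a 129 0 (b 0x80000100000000000300050c83) (a 130 0 0x800001 (a 131 0 0x800001 (a 136 0 0x800001 (a 137 0 0x800001 (a 138 0 0x800001 (a 139 0 0x800001
 (a 160 0 0x800001 (a 161 0 0x800001 (c 162 0 (f 0xc0002000c0002 0x8000400020001002a00150 (b 0x100000006000000010000000500000001000005920000) 1) (a 163 0 (b 0x82000100000000000300050cb5) (a 168 0 0x800001 (a 169 0 0x800001 (a 170 0 0x800001 (a 171 0 0x800001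
 d))))))))))))))))) (c 33 1 (f 0x2000100020001 0x8000400020001002a00150 (b 0x50000000200000005000000010000000500000db60000) 1)
 d))))) (a 5 0 (b 0x4000100000000000300050067) (a 6 0 0xc0002 (a 7 0 0xc0002 (a 36 0 0xc0002 (a 37 0 0xc0002 d))))))) (c 9 0 (i (b 0x80001000000000003000500cb)) d))) d)) (c 88 0 (e 8 0 0 (c 8 0 (e 4 16 0x2500000024 (c 4 0 (e 2 16 0x2100000020 (c 2 0 (g (b 0x80000100260040001200020021015b42b1)) (a 3 0 (b 0x2000100000000000300050035) (c 32 1 (e 128 0 0 (c 128 0 (e 64 0x100000000 (b 0x6600000064000000460000004400003d34) (c 64 0 (m 0 0x80004000200010000800040002000141ca20e5 (b 0x1000000010007000000010005000000010003000000010f2811a4)) (a 65 0 (b 0x40000100000000000300050643) (a 66 0 0x400001 (a 67 0 0x400001 (a 68 0 (b 0x400002000000000003000a0643) (a 70 0 0x400001 (a 96 0 0x400001 (a 97 0 0x400001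
 (c 98 0 (f 0x2000100020001 0x8000400020001002a00150 (b 0x1000000060000000400000001000000030000000100000005000090dd0000) 1) (a 99 0 (b 0x42000100000000000300050675) (a 100 0 0x400001 (a 102 0 (b 0x420002000000000003000a0675) d))))))))))))) (a 129 0 (b 0x80000100000000000300050c83) (a 130 0 0x800001 (a 131 0 0x800001 (a 136 0 0x800001 (a 137 0 0x800001 (a 138 0 0x800001 (a 139 0 0x800001
 (a 160 0 0x800001 (a 161 0 0x800001 (c 162 0 (f 0xc0002000c0002 0x8000400020001002a00150 (b 0x100000006000000010000000500000001000005920000) 1) (a 163 0 (b 0x82000100000000000300050cb5) (a 168 0 0x800001 (a 169 0 0x800001 (a 170 0 0x800001 (a 171 0 0x800001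
 d))))))))))))))))) (c 33 1 (f 0x2000100020001 0x8000400020001002a00150 (b 0x50000000200000005000000010000000500000db60000) 1)
 d))))) (a 5 0 (b 0x4000100000000000300050067) (a 6 0 0xc0002 (a 7 0 0xc0002 (a 36 0 0xc0002 (a 37 0 0xc0002 d))))))) (c 9 0 (i (b 0x80001000000000003000500cb)) d)))
 (c 112 0 (g (b 0x80000100260040001200020021015b42b1)) (c 120 0 (g (b 0x80000100260040001200030021015c42b1)) (c 144 0 (e 1 0 0 (c 1 0 (e 4 16 0x2500000024 (c 4 0 (e 2 16 0x2100000020 (c 2 0 (g (b 0x80000100260040001200020021015b42b1)) (a 3 0 (b 0x2000100000000000300050035) (c 32 1 (e 128 0 0 (c 128 0 (e 64 0 0 (c 64 0 (m 0 0x80004000200010000800040002000141ca20e5 (b 0x1000000010007000000010005000000010003000000010f2811a4)) (a 65 0 (b 0x40000100000000000300050643) (a 66 0 0x400001 (a 67 0 0x400001 (a 68 0 0x400001 (a 69 0 0x400001 (a 70 0 0x400001 (a 71 0 0x400001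
 (a 96 0 0x400001 (a 97 0 0x400001 (c 98 0 (f 0x2000100020001 0x8000400020001002a00150 (b 0x1000000060000000400000001000000030000000100000005000090dd0000) 1) (a 99 0 (b 0x42000100000000000300050675) (a 100 0 0x400001 (a 101 0 0x400001 (a 102 0 0x400001 (a 103 0 0x400001
 d))))))))))))))))) (a 129 0 (b 0x80000100000000000300050c83) (a 130 0 0x800001 (a 131 0 0x800001 (a 136 0 (b 0x80000100000000000300050c83) (a 137 0 (b 0x80000100000000000300050c83) (a 138 0 0x800001 (a 139 0 0x800001
 (a 160 0 0x800001 (a 161 0 0x800001 (c 162 0 (f 0xc0002000c0002 0x8000400020001002a00150 (b 0x100000006000000010000000500000001000005920000) 1) (a 163 0 (b 0x82000100000000000300050cb5) (a 168 0 0x800001 (a 169 0 0x800001 (a 170 0 (b 0x82000100000000000300050cb5) (a 171 0 (b 0x82000100000000000300050cb5)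
 d))))))))))))))))) (c 33 1 (f 0x2000100020001 0x8000400020001002a00150 (b 0x50000000200000005000000010000000500000db60000) 1)
 d))))) (a 5 0 (b 0x4000100000000000300050067) (a 6 0 0xc0002 (a 7 0 0xc0002 (a 36 0 0xc0002 (a 37 0 0xc0002 d))))))) d)) (c 145 0 (e 1 0 0 (c 1 0 (e 4 16 0x2500000024 (c 4 0 (e 2 16 0x2100000020 (c 2 0 (g (b 0x80000100260040001200020021015b42b1)) (a 3 0 (b 0x2000100000000000300050035) (c 32 1 (e 128 0 0 (c 128 0 (e 64 0 0 (c 64 0 (m 0 0x80004000200010000800040002000141ca20e5 (b 0x1000000010007000000010005000000010003000000010f2811a4)) (a 65 0 (b 0x40000100000000000300050643) (a 66 0 0x400001 (a 67 0 0x400001 (a 68 0 0x400001 (a 69 0 0x400001 (a 70 0 0x400001 (a 71 0 0x400001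
 (a 96 0 0x400001 (a 97 0 0x400001 (c 98 0 (f 0x2000100020001 0x8000400020001002a00150 (b 0x1000000060000000400000001000000030000000100000005000090dd0000) 1) (a 99 0 (b 0x42000100000000000300050675) (a 100 0 0x400001 (a 101 0 0x400001 (a 102 0 0x400001 (a 103 0 0x400001
 d))))))))))))))))) (a 129 0 (b 0x80000100000000000300050c83) (a 130 0 0x800001 (a 131 0 0x800001 (a 136 0 (b 0x80000100000000000300050c83) (a 137 0 (b 0x80000100000000000300050c83) (a 138 0 0x800001 (a 139 0 0x800001
 (a 160 0 0x800001 (a 161 0 0x800001 (c 162 0 (f 0xc0002000c0002 0x8000400020001002a00150 (b 0x100000006000000010000000500000001000005920000) 1) (a 163 0 (b 0x82000100000000000300050cb5) (a 168 0 0x800001 (a 169 0 0x800001 (a 170 0 (b 0x82000100000000000300050cb5) (a 171 0 (b 0x82000100000000000300050cb5)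
 d))))))))))))))))) (c 33 1 (f 0x2000100020001 0x8000400020001002a00150 (b 0x50000000200000005000000010000000500000db60000) 1)
 d))))) (a 5 0 (b 0x4000100000000000300050067) (a 6 0 0xc0002 (a 7 0 0xc0002 (a 36 0 0xc0002 (a 37 0 0xc0002 d))))))) d))
 (c 176 0 (g (b 0x800001002600400012000a0021016342b1)) (c 177 0 (g (b 0x800001002600400012000a0021016342b1)) (c 208 0 (e 4 16 0x2500000024 (c 4 0 (e 2 16 0x2100000020 (c 2 0 (g (b 0x80000100260040001200020021015b42b1)) (a 3 0 (b 0x2000100000000000300050035) (c 32 1 (e 128 0 0 (c 128 0 (e 64 0 0 (c 64 0 (m 0 0x80004000200010000800040002000141ca20e5 (b 0x1000000010007000000010005000000010003000000010f2811a4)) (a 65 0 (b 0x40000100000000000300050643) (a 66 0 0x400001 (a 67 0 0x400001 (a 68 0 (b 0x400002000000000003000a0643) (a 69 0 (b 0x400002000000000003000a0643) (a 70 0 0x400001 (a 71 0 0x400001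
 (a 96 0 0x400001 (a 97 0 0x400001 (c 98 0 (f 0x2000100020001 0x8000400020001002a00150 (b 0x1000000060000000400000001000000030000000100000005000090dd0000) 1) (a 99 0 (b 0x42000100000000000300050675) (a 100 0 0x400001 (a 101 0 0x400001 (a 102 0 (b 0x420002000000000003000a0675) (a 103 0 (b 0x420002000000000003000a0675)
 d))))))))))))))))) (a 129 0 (b 0x80000100000000000300050c83) (a 130 0 0x800001 (a 131 0 0x800001 (a 136 0 0x800001 (a 137 0 0x800001 (a 138 0 0x800001 (a 139 0 0x800001
 (a 160 0 0x800001 (a 161 0 0x800001 (c 162 0 (f 0xc0002000c0002 0x8000400020001002a00150 (b 0x100000006000000010000000500000001000005920000) 1) (a 163 0 (b 0x82000100000000000300050cb5) (a 168 0 0x800001 (a 169 0 0x800001 (a 170 0 0x800001 (a 171 0 0x800001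
 d))))))))))))))))) (c 33 1 (f 0x2000100020001 0x8000400020001002a00150 (b 0x50000000200000005000000010000000500000db60000) 1)
 d))))) (c 5 0 (i (b 0x4000100000000000300050067)) (a 6 0 0x80002 (a 7 0 0x80002 (a 36 0 0x80002 (a 37 0 0x80002 d))))))) (c 240 0 (g (b 0x800001002600400012000f0021016842b1))
 d)))))))))))))))))))))
 (c 0 0 (e 0 (b 0x900000000000000020000000010000000000000000000000400022a3ed) (b 0x300ea000200d8000200ff000300fe000300fc000300ee000300e2000100e2000000e2000300ec000200dd000200d1000200dc000300dc000300ce000300cc000300bd000300bc000300ad000300ac0002009d0002009c000200f7000300f7000100f7000000f7000200f9000300f9000200f4000100f4000300e7000100e7000000e7000300e9000300e4000100e4000200d5000100d5000000d5000200d9000200d4000100d4000100c7000000c7000100c6000100c5000000c5000100c4000300b9000300b4000100b4000300b8000300b5000100b5000300a9000300a4000100a4000300a8000300a5000100a500020099000200940001009400020098000200950001009500010086000100870001008400010085000200f0000300f0000100f0000000f0000300e0000100e0000000e0000200d0000300d0000100d0000000d0000300c2000100c2000000c2000300c0000100c0000000c0000300b1000100b1000000b1000300b0000100b0000000b0000300a1000100a1000000a1000300a0000100a0000000a000020091000100910000009100020090000100900000009000010083000000830001008200000082000100810000008100010080000000808e26964c)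 (c 128 0 (g (b 0x400001000c00010023001000120008002100eea602)) (c 129 0 (g (b 0x400001000c00010023001000120008002100eea602)) (c 130 0 (g (b 0x400001000c00010023001000120008002100eea602)) (c 131 0 (g (b 0x400001000c00010023001000120008002100eea602))
 (c 144 0 (g (b 0x400001000c00010023001000120008002100eea602)) (c 145 0 (g (b 0x400001000c00010023001000120008002100eea602)) (c 160 0 (g (b 0x400001000c00010023001000120008002100eea602)) (c 161 0 (g (b 0x400001000c00010023001000120008002100eea602))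
 (c 176 0 (g (b 0x400001000c0001002300100012000a002100f0a602)) (c 177 0 (g (b 0x400001000c0001002300100012000a002100f0a602)) (c 192 0 (e 2 0 0 (c 2 0 (e 16 16 0x2100000020 (c 16 0 (j 0x10000200100002) (a 17 0 (b 0x10000100000000000300050193) (a 18 0 (b 0x10000100000000000300050193) (a 19 0 (b 0x10000100000000000300050193) (a 32 1 (b 0x10000100000000000300050193) (a 33 1 (b 0x10000100000000000300050193) d))))))) (c 3 0 (i (b 0x2000100000000000300050035)) d))) (c 194 0 (e 2 0 0 (c 2 0 (e 16 16 0x2100000020 (c 16 0 (j 0x10000200100002) (a 17 0 (b 0x10000100000000000300050193) (a 18 0 (b 0x10000100000000000300050193) (a 19 0 (b 0x10000100000000000300050193) (a 32 1 (b 0x10000100000000000300050193) (a 33 1 (b 0x10000100000000000300050193) d))))))) (c 3 0 (i (b 0x2000100000000000300050035)) d)))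
 (c 208 0 (e 2 0 0 (c 2 0 (e 16 16 0x2100000020 (c 16 0 (j 0x10000200100002) (a 17 0 (b 0x10000100000000000300050193) (a 18 0 (b 0x10000100000000000300050193) (a 19 0 (b 0x10000100000000000300050193) (a 32 1 (b 0x100002000000000003000a0193) (a 33 1 (b 0x100002000000000003000a0193) d))))))) (c 3 0 (i (b 0x2000100000000000300050035)) d))) (c 224 0 (e 2 0 0 (c 2 0 (e 16 0 0 (c 16 0 (j 0x10000200100002) (a 17 0 (b 0x10000100000000000300050193) (a 18 0 (b 0x10000100000000000300050193) (a 19 0 (b 0x10000100000000000300050193) (a 32 1 (b 0x100002000000000003000a0193) (a 33 1 (b 0x100002000000000003000a0193) (a 34 1 (b 0x100002000000000003000a0193) (a 35 1 (b 0x100002000000000003000a0193)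
 d))))))))) (c 3 0 (i (b 0x2000100000000000300050035)) d))) (c 240 0 (e 2 0 0 (c 2 0 (e 16 0 0 (c 16 0 (j 0x10000200100002) (a 17 0 (b 0x10000100000000000300050193) (a 18 0 (b 0x10000100000000000300050193) (a 19 0 (b 0x10000100000000000300050193) (a 32 1 (b 0x10000100000000000300050193) (a 33 1 (b 0x10000100000000000300050193) (a 34 1 (b 0x10000100000000000300050193) (a 35 1 (b 0x10000100000000000300050193)
 d))))))))) (c 3 0 (i (b 0x2000100000000000300050035)) d))) d))))))))))))))))
 d)))) k d)<|k))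
noncomputable def lb133_1 : List (List ℕ) := Gh.aft nb133_1 lb133_0
theorem sb133_1 : cb133.NCs lb133_1 := Gh.step bb133 sb133_0 (by decide +kernel)
noncomputable def nb133_2 : List Nd := (beta% delta% lq260d0090aa fun a b c d e f g h i j k _ m _ _ p _ _ =>
 (h (p (h 0x900400020002000100010004500080048000428caad9c<|h 0x8c0080002000200010001000880004485441f4<|k) 1 0x200000002 0 0 0 296 (b 0x5000000010000000400030000000200000088004000200010000800050002000145b220ea0500000001000000040003000000020000008800400010002000080005000200014422227a00000000000000000000000000000000000000000000000000000000000000000000000000b81d7d68)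
 (g (b 0x8000010040000100100001003000014540009c))
 (c 0 0 (e 0 (b 0x10000000010000008000000000000000200000000000000080000518e5) (b 0x200f3000300f4000200db000100dc000200d3000100d40002005b0001005c0002005300010054000000fc000200f7000200f1000300f1000000f1000000e6000200df000200d9000100d9000000d9000000ee000200d7000200d1000100d1000000d1000200c3000000c3000200c1000000c1000200790000007900020071000000710000006f0002005f00020059000100590000005900000067000200570002005100010051000000510000004b000000490000004300000041000000fe000200f2000200f5000300f5000000f5000000e4000200da000200dd000100dd000000dd000000ec000200d2000200d5000100d5000000d5000000ce000200c7000000c7000000cc000200c5000000c50000007f0000007d00000077000000750000006d0002005a0002005d0001005d0000005d00000065000200520002005500010055000000550000004f0000004d0000004700000045000200f0000300f0000000f0000200d8000100d8000000d8000200d0000100d0000000d0000200c2000000c2000200c0000000c00002007800030078000000780002007000030070000000700002005800010058000000580002005000010050000000500000004a0000004800000042000000408e74a044)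 (c 64 0 (e 2 64 10 (c 2 0 (j 0x200000002) (c 3 1 (i (b 0x2000100000000000300050035)) (c 10 1 (f 0x2000100020001 0x8000400020001002a00150 (b 0x500000002000000050000008c0000) 1) d)))) (c 66 0 (e 2 64 10 (c 2 0 (j 0x200000002) (c 3 1 (i (b 0x2000100000000000300050035)) (c 10 1 (f 0x2000100020001 0x8000400020001002a00150 (b 0x500000002000000050000008c0000) 1) d)))) (c 72 0 (e 2 68 10 (c 2 0 (j 0x200000002) (c 3 0 (i (b 0x2000100000000000300050035)) (c 10 1 (i (b 0x90001000000000003000500e4)) d)))) (c 74 0 (e 2 68 10 (c 2 0 (j 0x200000002) (c 3 0 (i (b 0x2000100000000000300050035)) (c 10 1 (i (b 0x90001000000000003000500e4)) d))))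
 (c 80 0 (e 2 64 10 (c 2 0 (j 0x200000002) (c 3 1 (i (b 0x2000100000000000300050035)) (c 10 1 (f 0x2000100020001 0x8000400020001002a00150 (b 0x500000002000000050000008c0000) 1) d)))) (c 88 0 (e 2 68 10 (c 2 0 (j 0x200000002) (c 3 0 (i (b 0x2000100000000000300050035)) (c 10 1 (i (b 0x90001000000000003000500e4)) d)))) (c 112 0 (j 0x200000002) (c 120 0 (e 1 68 8 (c 1 0 (j 0x200000002) (c 8 1 (f 0x2000100020001 0x8000400020001002a00150 (b 0x50000000100000005000000870000) 1) d)))
 (c 192 0 (g (b 0x800001002b00100012000d00210076432e)) (c 194 0 (g (b 0x800001002b00100012000d00210076432e)) (c 208 0 (g (b 0x800001002b00100012000d00210076432e)) (c 240 0 (g (b 0x800001002b00100012000f00210078432e))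
 (c 216 0 (g (b 0x800001002b00100012000c00210075432e)) d))))))))))))))
 (c 0 0 (e 0 (b 0x100000000200000050000000000000004000000000000000900004b31a) (b 0x200f6000200f5000200f3000200f1000200e6000200e5000200e3000200e1000200b6000200b7000200a6000200a700030076000300710003006600030061000200f2000200f4000300f4000200f7000300f7000100f7000000f7000200e2000200e4000300e4000200e7000300e7000100e7000000e7000200b4000200b3000100b3000200b5000200b2000100b2000200a4000200a3000100a3000200a5000200a2000100a2000000790002007f0003007f000300770001007700000077000000690002006f0003006f0003006700010067000000670002003e000100360002002e00010026000200f0000300f0000100f0000000f0000200e0000300e0000100e0000000e0000200b1000100b1000000b1000200b0000100b0000000b0000200a1000100a1000000a1000200a0000100a0000000a00002007800030078000100780000007800030070000000700002006800030068000100680000006800030060000000600002003c0000003c000200380001003800000038000100340000003400000031000000300002002c0000002c000200280001002800000028000100240000002400000021000000202286e6ab)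 (c 32 0 (e 1 0 0 (c 1 0 (e 8 0 0 (c 8 0 (e 4 32 0x1500000014 (c 4 0 (e 2 32 0x1100000010 (c 2 0 (j 0x200000002) (a 3 0 (b 0x2000100000000000300050035) (c 16 1 (e 128 0 0 (c 128 0 (e 64 64 (b 0x56000000540000004600000044000033d4) (c 64 0 (m 0 0x80004000200010000800040002000141ca20e5 (b 0x100000001000500000001000300000001008202fe)) (a 65 0 (b 0x40000100000000000300050643) (a 66 0 0x400001 (a 67 0 0x400001 (a 68 0 0x400001 (a 70 0 0x400001 (a 80 0 0x400001 (a 81 0 0x400001
 (c 82 0 (f 0x2000100020001 0x8000400020001002a00150 (b 0x1000000060000000400000001000000030000000100000005000090dd0000) 1) (a 83 0 (b 0x42000100000000000300050675) (a 84 0 0x400001 (a 86 0 0x400001 d))))))))))))) (a 129 0 (b 0x80000100000000000300050c83) (a 130 0 0x800001 (a 131 0 0x800001 (a 136 0 (b 0x80000100000000000300050c83) (a 137 0 (b 0x80000100000000000300050c83) (a 138 0 0x800001 (a 139 0 0x800001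
 (a 144 0 0x800001 (a 145 0 0x800001 (c 146 0 (f 0xc0002000c0002 0x8000400020001002a00150 (b 0x100000006000000010000000500000001000005920000) 1) (a 147 0 (b 0x82000100000000000300050cb5) (a 152 0 0x800001 (a 153 0 0x800001 (a 154 0 (b 0x82000100000000000300050cb5) (a 155 0 (b 0x82000100000000000300050cb5)
 d))))))))))))))))) (c 17 1 (f 0x2000100020001 0x8000400020001002a00150 (b 0x50000000200000005000000010000000500000db60000) 1)
 d))))) (a 5 0 (b 0x4000100000000000300050067) (a 6 0 0xc0002 (a 7 0 0xc0002 (a 20 0 0xc0002 (a 21 0 0xc0002 d))))))) (c 9 0 (i (b 0x80001000000000003000500cb)) d))) d)) (c 33 0 (e 1 0 0 (c 1 0 (e 8 0 0 (c 8 0 (e 4 32 0x1500000014 (c 4 0 (e 2 32 0x1100000010 (c 2 0 (j 0x200000002) (a 3 0 (b 0x2000100000000000300050035) (c 16 1 (e 128 0 0 (c 128 0 (e 64 64 (b 0x56000000540000004600000044000033d4) (c 64 0 (m 0 0x80004000200010000800040002000141ca20e5 (b 0x100000001000500000001000300000001008202fe)) (a 65 0 (b 0x40000100000000000300050643) (a 66 0 0x400001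 (a 67 0 0x400001 (a 68 0 0x400001 (a 70 0 0x400001 (a 80 0 0x400001 (a 81 0 0x400001
 (c 82 0 (f 0x2000100020001 0x8000400020001002a00150 (b 0x1000000060000000400000001000000030000000100000005000090dd0000) 1) (a 83 0 (b 0x42000100000000000300050675) (a 84 0 0x400001 (a 86 0 0x400001 d))))))))))))) (a 129 0 (b 0x80000100000000000300050c83) (a 130 0 0x800001 (a 131 0 0x800001 (a 136 0 (b 0x80000100000000000300050c83) (a 137 0 (b 0x80000100000000000300050c83) (a 138 0 0x800001 (a 139 0 0x800001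
 (a 144 0 0x800001 (a 145 0 0x800001 (c 146 0 (f 0xc0002000c0002 0x8000400020001002a00150 (b 0x100000006000000010000000500000001000005920000) 1) (a 147 0 (b 0x82000100000000000300050cb5) (a 152 0 0x800001 (a 153 0 0x800001 (a 154 0 (b 0x82000100000000000300050cb5) (a 155 0 (b 0x82000100000000000300050cb5)
 d))))))))))))))))) (c 17 1 (f 0x2000100020001 0x8000400020001002a00150 (b 0x50000000200000005000000010000000500000db60000) 1)
 d))))) (a 5 0 (b 0x4000100000000000300050067) (a 6 0 0xc0002 (a 7 0 0xc0002 (a 20 0 0xc0002 (a 21 0 0xc0002 d))))))) (c 9 0 (i (b 0x80001000000000003000500cb)) d))) d)) (c 36 0 (e 8 0 0 (c 8 0 (e 4 32 0x1500000014 (c 4 0 (e 2 32 0x1100000010 (c 2 0 (j 0x200000002) (a 3 0 (b 0x2000100000000000300050035) (c 16 1 (e 128 0 0 (c 128 0 (e 64 0 0 (c 64 0 (m 0 0x80004000200010000800040002000141ca20e5 (b 0x100000001000500000001000300000001008202fe)) (a 65 0 (b 0x40000100000000000300050643) (a 66 0 0x400001 (a 67 0 0x400001 (a 68 0 0x400001 (a 69 0 0x400001 (a 70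 0 0x400001 (a 71 0 0x400001
 (a 80 0 0x400001 (a 81 0 0x400001 (c 82 0 (f 0x2000100020001 0x8000400020001002a00150 (b 0x1000000060000000400000001000000030000000100000005000090dd0000) 1) (a 83 0 (b 0x42000100000000000300050675) (a 84 0 0x400001 (a 85 0 0x400001 (a 86 0 0x400001 (a 87 0 0x400001
 d))))))))))))))))) (a 129 0 (b 0x80000100000000000300050c83) (a 130 0 0x800001 (a 131 0 0x800001 (a 136 0 (b 0x80000100000000000300050c83) (a 137 0 (b 0x80000100000000000300050c83) (a 138 0 0x800001 (a 139 0 0x800001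
 (a 144 0 0x800001 (a 145 0 0x800001 (c 146 0 (f 0xc0002000c0002 0x8000400020001002a00150 (b 0x100000006000000010000000500000001000005920000) 1) (a 147 0 (b 0x82000100000000000300050cb5) (a 152 0 0x800001 (a 153 0 0x800001 (a 154 0 (b 0x82000100000000000300050cb5) (a 155 0 (b 0x82000100000000000300050cb5)
 d))))))))))))))))) (c 17 1 (f 0x2000100020001 0x8000400020001002a00150 (b 0x50000000200000005000000010000000500000db60000) 1)
 d))))) (a 5 0 (b 0x4000100000000000300050067) (a 6 0 0xc0002 (a 7 0 0xc0002 (a 20 0 0xc0002 (a 21 0 0xc0002 d))))))) (c 9 0 (i (b 0x80001000000000003000500cb)) d))) (c 40 0 (e 1 0 0 (c 1 0 (e 8 0 0 (c 8 0 (e 4 32 0x1500000014 (c 4 0 (e 2 32 0x1100000010 (c 2 0 (j 0x200000002) (a 3 0 (b 0x2000100000000000300050035) (c 16 1 (e 128 0 0 (c 128 0 (e 64 0 0 (c 64 0 (m 0 0x80004000200010000800040002000141ca20e5 (b 0x100000001000500000001000300000001008202fe)) (a 65 0 (b 0x40000100000000000300050643) (a 66 0 0x400001 (a 67 0 0x400001 (a 68 0 0x400001 (a 69 0 0x400001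 (a 70 0 0x400001 (a 71 0 0x400001
 (a 80 0 0x400001 (a 81 0 0x400001 (c 82 0 (f 0x2000100020001 0x8000400020001002a00150 (b 0x1000000060000000400000001000000030000000100000005000090dd0000) 1) (a 83 0 (b 0x42000100000000000300050675) (a 84 0 0x400001 (a 85 0 0x400001 (a 86 0 0x400001 (a 87 0 0x400001
 d))))))))))))))))) (a 129 0 (b 0x80000100000000000300050c83) (a 130 0 0x800001 (a 131 0 0x800001 (a 136 0 (b 0x80000100000000000300050c83) (a 137 0 (b 0x80000100000000000300050c83) (a 138 0 0x800001 (a 139 0 0x800001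
 (a 144 0 0x800001 (a 145 0 0x800001 (c 146 0 (f 0xc0002000c0002 0x8000400020001002a00150 (b 0x100000006000000010000000500000001000005920000) 1) (a 147 0 (b 0x82000100000000000300050cb5) (a 152 0 0x800001 (a 153 0 0x800001 (a 154 0 (b 0x82000100000000000300050cb5) (a 155 0 (b 0x82000100000000000300050cb5)
 d))))))))))))))))) (c 17 1 (f 0x2000100020001 0x8000400020001002a00150 (b 0x50000000200000005000000010000000500000db60000) 1)
 d))))) (a 5 0 (b 0x4000100000000000300050067) (a 6 0 0xc0002 (a 7 0 0xc0002 (a 20 0 0xc0002 (a 21 0 0xc0002 d))))))) (c 9 0 (i (b 0x80001000000000003000500cb)) d))) d))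
 (c 44 0 (e 12 0 0 (c 12 0 (e 4 32 0x1500000014 (c 4 0 (e 2 32 0x1100000010 (c 2 0 (j 0x200000002) (a 3 0 (b 0x2000100000000000300050035) (c 16 1 (e 128 0 0 (c 128 0 (e 64 64 (b 0x56000000540000004600000044000033d4) (c 64 0 (m 0 0x80004000200010000800040002000141ca20e5 (b 0x100000001000500000001000300000001008202fe)) (a 65 0 (b 0x40000100000000000300050643) (a 66 0 0x400001 (a 67 0 0x400001 (a 68 0 0x400001 (a 70 0 0x400001 (a 80 0 0x400001 (a 81 0 0x400001
 (c 82 0 (f 0x2000100020001 0x8000400020001002a00150 (b 0x1000000060000000400000001000000030000000100000005000090dd0000) 1) (a 83 0 (b 0x42000100000000000300050675) (a 84 0 0x400001 (a 86 0 0x400001 d))))))))))))) (a 129 0 (b 0x80000100000000000300050c83) (a 130 0 0x800001 (a 131 0 0x800001 (a 136 0 (b 0x80000100000000000300050c83) (a 137 0 (b 0x80000100000000000300050c83) (a 138 0 0x800001 (a 139 0 0x800001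
 (a 144 0 0x800001 (a 145 0 0x800001 (c 146 0 (f 0xc0002000c0002 0x8000400020001002a00150 (b 0x100000006000000010000000500000001000005920000) 1) (a 147 0 (b 0x82000100000000000300050cb5) (a 152 0 0x800001 (a 153 0 0x800001 (a 154 0 (b 0x82000100000000000300050cb5) (a 155 0 (b 0x82000100000000000300050cb5)
 d))))))))))))))))) (c 17 1 (f 0x2000100020001 0x8000400020001002a00150 (b 0x50000000200000005000000010000000500000db60000) 1)
 d))))) (a 5 0 (b 0x4000100000000000300050067) (a 6 0 0x90002 (a 7 0 0x90002 (a 20 0 0x90002 (a 21 0 0x90002 d))))))) (c 13 0 (i (b 0xc00010000000000030005012f)) d))) (c 48 0 (j 0x200000002) (c 49 0 (j 0x200000002) (c 52 0 (g (b 0x80000100160040001200030021015c4121))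
 (c 56 0 (j 0x200000002) (c 60 0 (g (b 0x80000100160040001200030021015c4121)) (c 96 0 (e 1 0 0 (c 1 0 (e 8 0 0 (c 8 0 (e 4 32 0x1500000014 (c 4 0 (e 2 32 0x1100000010 (c 2 0 (j 0x200000002) (a 3 0 (b 0x2000100000000000300050035) (c 16 1 (e 128 0 0 (c 128 0 (e 64 64 (b 0x56000000540000004600000044000033d4) (c 64 0 (m 0 0x80004000200010000800040002000141ca20e5 (b 0x100000001000500000001000300000001008202fe)) (a 65 0 (b 0x40000100000000000300050643) (a 66 0 0x400001 (a 67 0 0x400001 (a 68 0 (b 0x400002000000000003000a0643) (a 70 0 0x400001 (a 80 0 0x400001 (a 81 0 0x400001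
 (c 82 0 (f 0x2000100020001 0x8000400020001002a00150 (b 0x1000000060000000400000001000000030000000100000005000090dd0000) 1) (a 83 0 (b 0x42000100000000000300050675) (a 84 0 0x400001 (a 86 0 (b 0x420002000000000003000a0675) d))))))))))))) (a 129 0 (b 0x80000100000000000300050c83) (a 130 0 0x800001 (a 131 0 0x800001 (a 136 0 0x800001 (a 137 0 0x800001 (a 138 0 0x800001 (a 139 0 0x800001
 (a 144 0 0x800001 (a 145 0 0x800001 (c 146 0 (f 0xc0002000c0002 0x8000400020001002a00150 (b 0x100000006000000010000000500000001000005920000) 1) (a 147 0 (b 0x82000100000000000300050cb5) (a 152 0 0x800001 (a 153 0 0x800001 (a 154 0 0x800001 (a 155 0 0x800001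
 d))))))))))))))))) (c 17 1 (f 0x2000100020001 0x8000400020001002a00150 (b 0x50000000200000005000000010000000500000db60000) 1)
 d))))) (a 5 0 (b 0x4000100000000000300050067) (a 6 0 0xc0002 (a 7 0 0xc0002 (a 20 0 0xc0002 (a 21 0 0xc0002 d))))))) (c 9 0 (i (b 0x80001000000000003000500cb)) d))) d)) (c 104 0 (e 8 0 0 (c 8 0 (e 4 32 0x1500000014 (c 4 0 (e 2 32 0x1100000010 (c 2 0 (j 0x200000002) (a 3 0 (b 0x2000100000000000300050035) (c 16 1 (e 128 0 0 (c 128 0 (e 64 0 0 (c 64 0 (m 0 0x80004000200010000800040002000141ca20e5 (b 0x100000001000500000001000300000001008202fe)) (a 65 0 (b 0x40000100000000000300050643) (a 66 0 0x400001 (a 67 0 0x400001 (a 68 0 (b 0x400002000000000003000a0643) (a 69 0 (b 0x400002000000000003000a0643) (a 70 0 0x400001 (a 71 0 0x400001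
 (a 80 0 0x400001 (a 81 0 0x400001 (c 82 0 (f 0x2000100020001 0x8000400020001002a00150 (b 0x1000000060000000400000001000000030000000100000005000090dd0000) 1) (a 83 0 (b 0x42000100000000000300050675) (a 84 0 0x400001 (a 85 0 0x400001 (a 86 0 (b 0x420002000000000003000a0675) (a 87 0 (b 0x420002000000000003000a0675)
 d))))))))))))))))) (a 129 0 (b 0x80000100000000000300050c83) (a 130 0 0x800001 (a 131 0 0x800001 (a 136 0 0x800001 (a 137 0 0x800001 (a 138 0 0x800001 (a 139 0 0x800001
 (a 144 0 0x800001 (a 145 0 0x800001 (c 146 0 (f 0xc0002000c0002 0x8000400020001002a00150 (b 0x100000006000000010000000500000001000005920000) 1) (a 147 0 (b 0x82000100000000000300050cb5) (a 152 0 0x800001 (a 153 0 0x800001 (a 154 0 0x800001 (a 155 0 0x800001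
 d))))))))))))))))) (c 17 1 (f 0x2000100020001 0x8000400020001002a00150 (b 0x50000000200000005000000010000000500000db60000) 1)
 d))))) (a 5 0 (b 0x4000100000000000300050067) (a 6 0 0xc0002 (a 7 0 0xc0002 (a 20 0 0xc0002 (a 21 0 0xc0002 d))))))) (c 9 0 (i (b 0x80001000000000003000500cb)) d)))
 (c 112 0 (j 0x200000002) (c 120 0 (g (b 0x80000100160040001200030021015c4121)) (c 160 0 (e 1 0 0 (c 1 0 (e 4 32 0x1500000014 (c 4 0 (e 2 32 0x1100000010 (c 2 0 (j 0x200000002) (a 3 0 (b 0x2000100000000000300050035) (c 16 1 (e 128 0 0 (c 128 0 (e 64 0 0 (c 64 0 (m 0 0x80004000200010000800040002000141ca20e5 (b 0x100000001000500000001000300000001008202fe)) (a 65 0 (b 0x40000100000000000300050643) (a 66 0 0x400001 (a 67 0 0x400001 (a 68 0 0x400001 (a 69 0 0x400001 (a 70 0 0x400001 (a 71 0 0x400001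
 (a 80 0 0x400001 (a 81 0 0x400001 (c 82 0 (f 0x2000100020001 0x8000400020001002a00150 (b 0x1000000060000000400000001000000030000000100000005000090dd0000) 1) (a 83 0 (b 0x42000100000000000300050675) (a 84 0 0x400001 (a 85 0 0x400001 (a 86 0 0x400001 (a 87 0 0x400001
 d))))))))))))))))) (a 129 0 (b 0x80000100000000000300050c83) (a 130 0 0x800001 (a 131 0 0x800001 (a 136 0 (b 0x80000100000000000300050c83) (a 137 0 (b 0x80000100000000000300050c83) (a 138 0 0x800001 (a 139 0 0x800001
 (a 144 0 0x800001 (a 145 0 0x800001 (c 146 0 (f 0xc0002000c0002 0x8000400020001002a00150 (b 0x100000006000000010000000500000001000005920000) 1) (a 147 0 (b 0x82000100000000000300050cb5) (a 152 0 0x800001 (a 153 0 0x800001 (a 154 0 (b 0x82000100000000000300050cb5) (a 155 0 (b 0x82000100000000000300050cb5)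
 d))))))))))))))))) (c 17 1 (f 0x2000100020001 0x8000400020001002a00150 (b 0x50000000200000005000000010000000500000db60000) 1)
 d))))) (a 5 0 (b 0x4000100000000000300050067) (a 6 0 0xc0002 (a 7 0 0xc0002 (a 20 0 0xc0002 (a 21 0 0xc0002 d))))))) d)) (c 161 0 (e 1 0 0 (c 1 0 (e 4 32 0x1500000014 (c 4 0 (e 2 32 0x1100000010 (c 2 0 (j 0x200000002) (a 3 0 (b 0x2000100000000000300050035) (c 16 1 (e 128 0 0 (c 128 0 (e 64 0 0 (c 64 0 (m 0 0x80004000200010000800040002000141ca20e5 (b 0x100000001000500000001000300000001008202fe)) (a 65 0 (b 0x40000100000000000300050643) (a 66 0 0x400001 (a 67 0 0x400001 (a 68 0 0x400001 (a 69 0 0x400001 (a 70 0 0x400001 (a 71 0 0x400001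
 (a 80 0 0x400001 (a 81 0 0x400001 (c 82 0 (f 0x2000100020001 0x8000400020001002a00150 (b 0x1000000060000000400000001000000030000000100000005000090dd0000) 1) (a 83 0 (b 0x42000100000000000300050675) (a 84 0 0x400001 (a 85 0 0x400001 (a 86 0 0x400001 (a 87 0 0x400001
 d))))))))))))))))) (a 129 0 (b 0x80000100000000000300050c83) (a 130 0 0x800001 (a 131 0 0x800001 (a 136 0 (b 0x80000100000000000300050c83) (a 137 0 (b 0x80000100000000000300050c83) (a 138 0 0x800001 (a 139 0 0x800001
 (a 144 0 0x800001 (a 145 0 0x800001 (c 146 0 (f 0xc0002000c0002 0x8000400020001002a00150 (b 0x100000006000000010000000500000001000005920000) 1) (a 147 0 (b 0x82000100000000000300050cb5) (a 152 0 0x800001 (a 153 0 0x800001 (a 154 0 (b 0x82000100000000000300050cb5) (a 155 0 (b 0x82000100000000000300050cb5)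
 d))))))))))))))))) (c 17 1 (f 0x2000100020001 0x8000400020001002a00150 (b 0x50000000200000005000000010000000500000db60000) 1)
 d))))) (a 5 0 (b 0x4000100000000000300050067) (a 6 0 0xc0002 (a 7 0 0xc0002 (a 20 0 0xc0002 (a 21 0 0xc0002 d))))))) d))
 (c 176 0 (g (b 0x800001001600400012000a002101634121)) (c 177 0 (g (b 0x800001001600400012000a002101634121)) (c 224 0 (e 4 32 0x1500000014 (c 4 0 (e 2 32 0x1100000010 (c 2 0 (j 0x200000002) (a 3 0 (b 0x2000100000000000300050035) (c 16 1 (e 128 0 0 (c 128 0 (e 64 0 0 (c 64 0 (m 0 0x80004000200010000800040002000141ca20e5 (b 0x100000001000500000001000300000001008202fe)) (a 65 0 (b 0x40000100000000000300050643) (a 66 0 0x400001 (a 67 0 0x400001 (a 68 0 (b 0x400002000000000003000a0643) (a 69 0 (b 0x400002000000000003000a0643) (a 70 0 0x400001 (a 71 0 0x400001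
 (a 80 0 0x400001 (a 81 0 0x400001 (c 82 0 (f 0x2000100020001 0x8000400020001002a00150 (b 0x1000000060000000400000001000000030000000100000005000090dd0000) 1) (a 83 0 (b 0x42000100000000000300050675) (a 84 0 0x400001 (a 85 0 0x400001 (a 86 0 (b 0x420002000000000003000a0675) (a 87 0 (b 0x420002000000000003000a0675)
 d))))))))))))))))) (a 129 0 (b 0x80000100000000000300050c83) (a 130 0 0x800001 (a 131 0 0x800001 (a 136 0 0x800001 (a 137 0 0x800001 (a 138 0 0x800001 (a 139 0 0x800001
 (a 144 0 0x800001 (a 145 0 0x800001 (c 146 0 (f 0xc0002000c0002 0x8000400020001002a00150 (b 0x100000006000000010000000500000001000005920000) 1) (a 147 0 (b 0x82000100000000000300050cb5) (a 152 0 0x800001 (a 153 0 0x800001 (a 154 0 0x800001 (a 155 0 0x800001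
 d))))))))))))))))) (c 17 1 (f 0x2000100020001 0x8000400020001002a00150 (b 0x50000000200000005000000010000000500000db60000) 1)
 d))))) (c 5 0 (i (b 0x4000100000000000300050067)) (a 6 0 0x80002 (a 7 0 0x80002 (a 20 0 0x80002 (a 21 0 0x80002 d))))))) (c 240 0 (g (b 0x800001001600400012000f002101684121))
 d)))))))))))))))))))))
 (c 4294967440 0 d
 (c 0 0 (e 0 (b 0x9000000002000000000000000100000000000000000000004000226e37) (b 0x100e2000200d3000100ef0002009600020097000100e7000200d6000100eb000100d8000300e4000200ea000100ea000000ea00020093000200af000100af00020092000200ae000100ae000300fc000300f2000200fe000300fe000200ed000300e0000200ee000300ee000100ee000000ee000300dc000200ec000300ec000300ce000300cc000200ab000100ab000200ad000300ad000200aa000100aa000200ac000300ac000200f7000300f7000100f7000000f7000200f4000300f4000100f4000200d5000100d5000000d5000200e9000300e9000200d4000100d4000100c7000000c7000100c6000100c5000000c5000100c4000200b4000300b4000100b4000200b5000300b5000100b5000200a9000300a90002009400010094000200a8000300a8000200950001009500010086000100870001008400010085000200f0000300f0000100f0000000f0000200d0000300d0000100d0000000d0000300c2000100c2000000c2000300c0000100c0000000c0000200b1000300b1000100b1000000b1000200b0000300b0000100b0000000b00002009100010091000000910002009000010090000000900001008300000083000100820000008200010081000000810001008000000080b7ba995d)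 (c 128 0 (g (b 0x400001000c00010023001000120008002100eea602)) (c 129 0 (g (b 0x400001000c00010023001000120008002100eea602)) (c 130 0 (g (b 0x400001000c00010023001000120008002100eea602)) (c 131 0 (g (b 0x400001000c00010023001000120008002100eea602))
 (c 144 0 (g (b 0x400001000c00010023001000120008002100eea602)) (c 145 0 (g (b 0x400001000c00010023001000120008002100eea602)) (c 176 0 (g (b 0x400001000c0001002300100012000a002100f0a602)) (c 177 0 (g (b 0x400001000c0001002300100012000a002100f0a602))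
 (c 192 0 (e 2 0 0 (c 2 0 (j 0x200000002) (c 3 0 (i (b 0x2000100000000000300050035)) d))) (c 194 0 (e 2 0 0 (c 2 0 (j 0x200000002) (c 3 0 (i (b 0x2000100000000000300050035)) d))) (c 208 0 (e 2 0 0 (c 2 0 (j 0x200000002) (c 3 0 (i (b 0x2000100000000000300050035)) d))) (c 240 0 (e 2 0 0 (c 2 0 (j 0x200000002) (c 3 0 (i (b 0x2000100000000000300050035)) d)))
 d)))))))))))))
 d)))) k d)<|
 h (p (h 0x900400020002000100010004500080048000428caad9c<|k) 1 0x100000001 0 0 0 232 (b 0x30000000100000083004000110020000800040002000141ca22750400030000000200000089004000110021000800050002000144b82293040003000000020000008a004000210010000800050002000146c520ea00000300000001000000810040002000100008000400020001424720e500000300000001000000830040002000100008000400020001434120e50000030000000100000081004000110021000800040002000140d0228e0000000000000000000000000000000000000000000000000000000000a850d007)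
 (j 0x100000001)
 (c 0 0 (e 0 (b 0x10000000000000002000000005000000c40000000000000080000434c5) (b 0x100f6000100de000100d60001005e00010056000100f3000100f4000300f4000100db000100dc000200dc000100d3000100d4000200d4000100c6000100c40001005b0001005c0002005c000100530001005400020054000100f7000100f1000300f1000000f1000100df000100d9000200d9000000d9000100d7000100d1000200d1000000d1000100c3000000c3000100c1000000c10001007900000079000300710001005f000100590002005900000059000100570001005100020051000000510000004b00000049000100f2000100f5000300f5000000f5000100da000100dd000200dd000000dd000100d2000100d5000200d5000000d5000100c7000000c7000100c5000000c50001007d0000007d0001007200030075000000750001005a0001005d0002005d0000005d000100520001005500020055000000550000004f0000004d0000004700000045000100f0000300f0000000f0000100d8000200d8000000d8000100d0000200d0000000d0000100c2000000c2000100c0000000c00001007800030078000000780001007000030070000000700001005800020058000000580001005000020050000000500000004a0000004800010042000000420001004000000040bb686870)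 (c 64 0 (e 1 64 8 (c 1 0 (j 0x100000001) (c 8 1 (e 4 (b 0x20000001000000001000000000000028f) (b 0x1008900010081000100880000008800010080000000800f3015fe) (c 128 1 (i (b 0x40003000000000003000f0067)) (c 136 1 (e 2 0 0 (c 2 0 (e 48 0 0 (c 48 0 (e 16 16 (b 0x29000000280000002100000020000018b2) (c 16 0 (m 0 0x80004000200010000800040002000141ca20e5 (b 0x100000001000300000001001e0010)) (a 17 0 0x100001 (a 18 0 (b 0x10000100000000000300050193) (a 19 0 0x100001 (a 24 0 0x100001 (c 25 0 (m 0 0x800040001100230008000400020001405322c0 (b 0x100000001000300000001001e0010)) (a 26 0 0x100001 (a 27 0 (b 0x110001000000000003000501ac)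
 (a 32 0 0x100001 (a 33 0 0x100001 (a 40 0 0x100001 (a 41 0 0x100001 d))))))))))))) (a 49 0 0x300001 (a 50 0 (b 0x300001000000000003000504b3) (a 51 0 0x300001 (a 56 0 0x300001 (c 57 0 (e 16 16 (b 0x29000000280000002100000020000018b2) (c 16 0 (m 0 0x80004000210012000800040002000141e32117 (b 0x100000001000300000001001e0010)) (a 17 0 0x100001 (a 18 0 (b 0x10000100000000000300050193) (a 19 0 0x100001 (a 24 0 0x100001 (c 25 0 (m 0 0x800040001300220008000400020001408522a7 (b 0x100000001000300000001001e0010)) (a 26 0 0x100001 (a 27 0 (b 0x110001000000000003000501ac)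
 (a 32 0 0x100001 (a 33 0 0x100001 (a 40 0 0x100001 (a 41 0 0x100001 d))))))))))))) (a 58 0 0x300001 (a 59 0 (b 0x310001000000000003000504cc)
 d))))))))) (a 3 0 0x20001 (a 10 0 0x20001 (c 11 0 (e 48 0 0 (a 180 0 0x300001 (c 181 0 (f 0x800030000400300284 0x8000400020001002a00150 (b 0x100100001001000010000001f01e0) 1) (a 182 0 (b 0x3c0001000000000003000505df) (a 183 0 0x300001 (c 188 0 (f 0x800030000400300284 0x8000400020001002a00150 (b 0x100100001001000010000001f01e0) 1) (a 189 0 0x300001 (a 190 0 0x300001 (a 191 0 (b 0x3d0001000000000003000505f8)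
 d)))))))))
 d))))) d))) d))) (c 66 0 (e 1 64 8 (c 1 0 (j 0x100000001) (c 8 1 (e 4 (b 0x2000000000000000100000000000000ff) (b 0x1008900010081000100880000008800010080000000800f3015fe) (c 128 1 (i (b 0x40003000000000003000f0067)) (c 136 1 (e 2 0 0 (c 2 0 (e 48 0 0 (c 48 0 (e 16 16 (b 0x29000000280000002100000020000018b2) (c 16 0 (m 0 0x80004000200010000800040002000141ca20e5 (b 0x100000001000300000001001e0010)) (a 17 0 0x100001 (a 18 0 (b 0x10000100000000000300050193) (a 19 0 0x100001 (a 24 0 0x100001 (c 25 0 (m 0 0x800040001100230008000400020001405322c0 (b 0x100000001000300000001001e0010)) (a 26 0 0x100001 (a 27 0 (b 0x110001000000000003000501ac)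
 (a 32 0 0x100001 (a 33 0 0x100001 (a 40 0 0x100001 (a 41 0 0x100001 d))))))))))))) (a 49 0 0x300001 (a 50 0 (b 0x300001000000000003000504b3) (a 51 0 0x300001 (a 56 0 0x300001 (c 57 0 (e 16 16 (b 0x29000000280000002100000020000018b2) (c 16 0 (m 0 0x80004000210012000800040002000141e32117 (b 0x100000001000300000001001e0010)) (a 17 0 0x100001 (a 18 0 (b 0x10000100000000000300050193) (a 19 0 0x100001 (a 24 0 0x100001 (c 25 0 (m 0 0x800040001300220008000400020001408522a7 (b 0x100000001000300000001001e0010)) (a 26 0 0x100001 (a 27 0 (b 0x110001000000000003000501ac)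
 (a 32 0 0x100001 (a 33 0 0x100001 (a 40 0 0x100001 (a 41 0 0x100001 d))))))))))))) (a 58 0 0x300001 (a 59 0 (b 0x310001000000000003000504cc)
 d))))))))) (a 3 0 0x20001 (a 10 0 0x20001 (c 11 0 (e 48 0 0 (a 180 0 0x300001 (c 181 0 (f 0x800030000400300284 0x8000400020001002a00150 (b 0x100100001001000010000001f01e0) 1) (a 182 0 (b 0x3c0001000000000003000505df) (a 183 0 0x300001 (c 188 0 (f 0x800030000400300284 0x8000400020001002a00150 (b 0x100100001001000010000001f01e0) 1) (a 189 0 0x300001 (a 190 0 0x300001 (a 191 0 (b 0x3d0001000000000003000505f8)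
 d)))))))))
 d))))) d))) d))) (c 72 0 (j 0x100000001) (c 74 0 (j 0x100000001)
 (c 80 0 (e 1 64 8 (c 1 0 (j 0x100000001) (c 8 1 (e 4 (b 0x300000010000000020000000000000311) (b 0x1008b00010083000100880000008800010080000000800f30334a) (c 128 1 (i (b 0x40003000000000003000f0067)) (c 136 1 (e 2 0 0 (c 2 0 (e 48 0 0 (c 48 0 (e 16 16 (b 0x29000000280000002100000020000018b2) (c 16 0 (m 0 0x80004000200010000800040002000141ca20e5 (b 0x100000001000300000001001e0010)) (a 17 0 0x100001 (a 18 0 (b 0x10000100000000000300050193) (a 19 0 0x100001 (a 24 0 0x100001 (c 25 0 (m 0 0x800040001100230008000400020001405322c0 (b 0x100000001000300000001001e0010)) (a 26 0 0x100001 (a 27 0 (b 0x110001000000000003000501ac)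
 (a 32 0 (b 0x100002000000000003000a0193) (a 33 0 0x100001 (a 40 0 0x100001 (a 41 0 (b 0x110002000000000003000a01ac) d))))))))))))) (a 49 0 0x300001 (a 50 0 (b 0x300001000000000003000504b3) (a 51 0 0x300001 (a 56 0 0x300001 (c 57 0 (e 16 16 (b 0x29000000280000002100000020000018b2) (c 16 0 (m 0 0x80004000210012000800040002000141e32117 (b 0x100000001000300000001001e0010)) (a 17 0 0x100001 (a 18 0 (b 0x10000100000000000300050193) (a 19 0 0x100001 (a 24 0 0x100001 (c 25 0 (m 0 0x800040001300220008000400020001408522a7 (b 0x100000001000300000001001e0010)) (a 26 0 0x100001 (a 27 0 (b 0x110001000000000003000501ac)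
 (a 32 0 0x100001 (a 33 0 (b 0x100002000000000003000a0193) (a 40 0 (b 0x110002000000000003000a01ac) (a 41 0 0x100001 d))))))))))))) (a 58 0 0x300001 (a 59 0 (b 0x310001000000000003000504cc)
 d))))))))) (a 3 0 0x20001 (a 10 0 0x20001 (c 11 0 (e 48 0 0 (c 180 0 (f 0x800030000400300284 0x8000400020001002a00150 (b 0x100100001001000010000001f01e0) 1) (a 181 0 0x300001 (a 182 0 0x300001 (a 183 0 (b 0x34000100000000000300050517) (a 188 0 0x300001 (c 189 0 (f 0x800030000400300284 0x8000400020001002a00150 (b 0x100100001001000010000001f01e0) 1) (a 190 0 (b 0x35000100000000000300050530) (a 191 0 0x300001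
 d)))))))))
 d))))) d))) d))) (c 88 0 (j 0x100000001) (c 112 0 (e 1 64 8 (c 1 0 (j 0x100000001) (c 8 1 (e 52 (b 0x4000000040000000200000000000000010000001000003ba7) (b 0x200b2000200b3000200b1000100b1000200b0000100b0000000b09847152f) (c 176 1 (e 4 0 0 (a 128 0 (b 0x340003000000000003000f0517) (a 129 0 0x40001 (a 130 0 (b 0x300001000000000003000504b3) (a 131 0 0x40001 (a 136 0 0x40001 (c 137 0 (e 16 0 0 (c 16 0 (m 0 0x810040002300100008000400020001429220e5 (b 0x100000001000300000001001e0010)) (a 17 0 0x100001 (a 18 0 (b 0x10000100000000000300050193) (a 19 0 0x100001 (a 24 0 0x100001 (c 25 0 (m 0 0x81004000110020000800040002000140d02275 (b 0x100000001000300000001001e0010)) (a 26 0 0x100001 (a 27 0 (b 0x110001000000000003000501ac)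
 (a 32 0 0x100001 (a 33 0 0x100001 (a 34 0 0x100001 (a 35 0 0x100001 (a 40 0 0x100001 (a 41 0 0x100001 (a 42 0 0x100001 (a 43 0 0x100001
 d))))))))))))))))) (a 138 0 0x40001 (a 139 0 (b 0x310001000000000003000504cc)
 d))))))))) d)) d))) (c 120 0 (e 1 68 8 (c 1 0 (j 0x100000001) (c 8 1 (e 48 (b 0x20000000000000001000000100000010f) (b 0x100bd000100b5000100bc000000bc000100b4000000b40f332f66) (c 180 1 (f 0x3000080001000800f1 0x8000400020001002a00150 (b 0x1001000020000000200100001000000ba0820) 1) (c 188 1 (f 0x3000080001000800f1 0x8000400020001002a00150 (b 0x1001000020000000200100001000000ba0820) 1) d))) d)))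
 (c 192 0 (j 0x100000001) (c 208 0 (j 0x100000001) (c 240 0 (j 0x100000001) (c 194 0 (j 0x100000001)
 (c 216 0 (j 0x100000001) d))))))))))))))
 (c 0 0 (j 0x100000001)
 (c 25769803956 0 d
 (c 0 0 (j 0x100000001)
 d)))) k d)<|k))
noncomputable def lb133_2 : List (List ℕ) := Gh.aft nb133_2 lb133_1
theorem sb133_2 : cb133.NCs lb133_2 := Gh.step bb133 sb133_1 (by decide +kernel)
noncomputable def nb133_3 : List Nd := (beta% delta% lq260d0090aa fun a b c d e _ g h i j k _ m _ _ p _ _ =>
 (h (p k 1 0x8000100080001 0 0 0 176 (b 0x89004000110020000800050002000144b8227a000000810040002000100008000400020001424720e500000082004200200010000800040002000142c421df00000080004200110021000800040002000140532388000000000000000000000000000000000000000000000d31cdba)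
 (j 0x8000100080001)
 (c 0 0 (j 0x8000100080001)
 (c 0 0 (j 0x8000100080001)
 (c 4294967348 0 d
 (c 0 0 (e 0 (b 0x9000000001000000000000000400000044000000000000004000226a1d) (b 0x1009b0002009b000100f5000100f6000100ee000200ee000000ee000100e1000200e1000000e1000100c30001009f0002009f000100ab000200ab0001009900020099000100a6000200a6000100f1000100f3000100f2000300f2000000f2000100ea000200ea000100e4000200e4000300e8000300e6000100d1000200d1000200e9000300e9000100e7000300e7000100c7000100c1000200c1000100c6000100b6000100b7000100af000200af0001009d0002009d000100a3000200a3000100a9000200a9000300a9000100a4000300a4000100f7000300f7000000f7000100f4000300f4000200ec000300ec000100e3000300e3000100d5000200d5000000d5000100d4000200d4000100c2000100c5000200c5000000c5000100c4000200c4000100b3000100b4000300b4000100b2000100b5000300b5000100ad000200ad000300ad000100a1000300a1000100950002009500010086000100870001008400010085000100f0000300f0000000f0000100d0000200d0000300d0000000d0000100c0000200c0000300c0000000c0000100b1000300b1000000b1000100b0000300b0000000b00001009000020090000000900001008300000083000100820000008200010081000000810001008000000080b15f1d74)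 (c 128 0 (j 0x8000100080001) (c 144 0 (j 0x8000100080001) (c 176 0 (g (b 0x400001000c0001002300100012000a002100f0a602)) (c 192 0 (e 2 0 0 (c 2 0 (e 48 0 0 (c 48 0 (e 16 16 0x2100000020 (c 16 0 (e 4 (b 0x3000000040000000200000000000001e5) (b 0x1004e0001004a0001004c0000004c00010048000000480f2c9b08) (c 4 0 (j 0x8000100080001) (a 5 0 (b 0x4000100000000000300050067) (a 6 0 (b 0x4000100000000000300050067) (a 7 0 (b 0x4000100000000000300050067) (c 72 1 (m 0 0x80004000200010000800040002000141ca20e5 0x100000001) (c 76 1 (m 0 0x87004400100023000900050002000143aa24b9 0x100000001) d))))))) (a 17 0 (b 0x10000100000000000300050193) (a 18 0 (b 0x10000100000000000300050193) (a 19 0 (b 0x10000100000000000300050193) (a 32 0 0x100001 (a 33 0 0x100001 d))))))) (a 49 0 (b 0x300001000000000003000504b3) (a 50 0 (b 0x300001000000000003000504b3) (a 51 0 (b 0x300001000000000003000504b3) d))))) (c 3 0 (i (b 0x2000100000000000300050035)) d)))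
 (c 208 0 (e 2 0 0 (c 2 0 (e 48 0 0 (c 48 0 (e 16 16 0x2100000020 (c 16 0 (e 4 (b 0x3000000040000000200000000000001e5) (b 0x1004e0001004a0001004c0000004c00010048000000480f2c9b08) (c 4 0 (j 0x8000100080001) (a 5 0 (b 0x4000100000000000300050067) (a 6 0 (b 0x4000100000000000300050067) (a 7 0 (b 0x4000100000000000300050067) (c 72 1 (m 0 0x80004000200010000800040002000141ca20e5 0x100000001) (c 76 1 (m 0 0x87004400100023000900050002000143aa24b9 0x100000001) d))))))) (a 17 0 (b 0x10000100000000000300050193) (a 18 0 (b 0x10000100000000000300050193) (a 19 0 (b 0x10000100000000000300050193) (a 32 0 (b 0x100002000000000003000a0193) (a 33 0 (b 0x100002000000000003000a0193) d))))))) (a 49 0 (b 0x300001000000000003000504b3) (a 50 0 (b 0x300001000000000003000504b3) (a 51 0 (b 0x300001000000000003000504b3) d))))) (c 3 0 (i (b 0x2000100000000000300050035)) d))) (c 240 0 (e 2 0 0 (c 2 0 (e 48 0 0 (c 48 0 (e 16 0 0 (c 16 0 (e 4 (b 0x3000000040000000100000000000001e0) (b 0x1004e0001004a0001004c0000004c00010048000000480f2c9b08)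 (c 4 0 (j 0x8000100080001) (a 5 0 (b 0x4000100000000000300050067) (a 6 0 (b 0x4000100000000000300050067) (a 7 0 (b 0x4000100000000000300050067) (c 72 1 (m 0 0x80004000200010000800040002000141ca20e5 0x100000001) (c 76 1 (m 0 0x87004400100023000900050002000143aa24b9 0x100000001) d))))))) (a 17 0 (b 0x10000100000000000300050193) (a 18 0 (b 0x10000100000000000300050193) (a 19 0 (b 0x10000100000000000300050193) (a 32 0 0x100001 (a 33 0 0x100001 (a 34 0 0x100001 (a 35 0 0x100001
 d))))))))) (a 49 0 (b 0x300001000000000003000504b3) (a 50 0 (b 0x300001000000000003000504b3) (a 51 0 (b 0x300001000000000003000504b3) d))))) (c 3 0 (i (b 0x2000100000000000300050035)) d))) (c 129 0 (j 0x8000100080001) (c 130 0 (j 0x8000100080001)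
 (c 131 0 (j 0x8000100080001) (c 177 0 (g (b 0x400001000c0001002300100012000a002100f0a602)) d)))))))))))
 d)))) k d)<|k))
noncomputable def lb133_3 : List (List ℕ) := Gh.aft nb133_3 lb133_2
theorem sb133_3 : cb133.NCs lb133_3 := Gh.step bb133 sb133_2 (by decide +kernel)
noncomputable def lb133 : List (List ℕ) := lb133_3
theorem sb133 : cb133.NCs lb133 := sb133_3

end Cfsg.Agent.FS.NB.D
end

-- part: FS/N/B/D/F8
section
set_option maxRecDepth 100000
set_option linter.all false
set_option Elab.async false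

namespace Cfsg.Agent.FS.NB.D

private noncomputable def _root_.Cfsg.Agent.LsF.f1e0820_246 : {f // @Cfsg.Agent.FS.NB.D.lb133_0 = f} := ⟨_, by first | (delta Cfsg.Agent.FS.NB.D.lb133_0; rewrite [Cfsg.Agent.LsF.f1e0820_17.2]; exact rfl) | exact rfl⟩
private noncomputable def _root_.Cfsg.Agent.LsF.f1e0820_247 : {f // @Cfsg.Agent.FS.NB.D.lb133_1 = f} := ⟨_, by first | (delta Cfsg.Agent.FS.NB.D.lb133_1; rewrite [Cfsg.Agent.LsF.f1e0820_17.2, Cfsg.Agent.LsF.f1e0820_246.2]; exact rfl) | exact rfl⟩
private noncomputable def _root_.Cfsg.Agent.LsF.f1e0820_248 : {f // @Cfsg.Agent.FS.NB.D.lb133_2 = f} := ⟨_, by first | (delta Cfsg.Agent.FS.NB.D.lb133_2; rewrite [Cfsg.Agent.LsF.f1e0820_17.2, Cfsg.Agent.LsF.f1e0820_247.2]; exact rfl) | exact rfl⟩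
private noncomputable def _root_.Cfsg.Agent.LsF.f1e0820_249 : {f // @Cfsg.Agent.FS.NB.D.lb133_3 = f} := ⟨_, by first | (delta Cfsg.Agent.FS.NB.D.lb133_3; rewrite [Cfsg.Agent.LsF.f1e0820_17.2, Cfsg.Agent.LsF.f1e0820_248.2]; exact rfl) | exact rfl⟩
private noncomputable def _root_.Cfsg.Agent.LsF.f1e0820_250 : {f // @Cfsg.Agent.FS.NB.D.lb133 = f} := ⟨_, by first | (delta Cfsg.Agent.FS.NB.D.lb133; rewrite [Cfsg.Agent.LsF.f1e0820_249.2]; exact rfl) | exact rfl⟩
theorem fb133 : ClF 8 cb133.R false [] :=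
  Gh.clR bb133 sb133 (E := []) (fun _ h => nomatch h) (vs := [⟨0x80004000800040, 0x20001000200010, 0, 0, 0, 0, 0, [], 0⟩]) (by ((try (rewrite [Cfsg.Agent.LsF.f1e0820_16.2, Cfsg.Agent.LsF.f1e0820_250.2])); decide +kernel))
theorem tb133 {I} : Cm 8 cb133.R I [] := .of_f fb133
theorem fb183 : ClF 8 cb183.R false (N.M.E_dS44.map Prod.fst) :=
  Gh.clR bb183 sb183 N.M.E_dS44_ok (vs := [⟨0, 0, 0, 0, (sl 0xe0001000d00090066002f0092008e0aab02d7), 0, 0, [0], 0⟩]) (by ((try (rewrite [Cfsg.Agent.LsF.f1e0820_16.2])); decide +kernel))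
theorem tb183 {I} : Cm 8 cb183.R I (N.M.E_dS44.map Prod.fst) := .of_f fb183
theorem ib183 : InI 8 cb183.R I8 := Gh.inI (c := cb183) (by decide +kernel)
theorem fb221 : ClF 8 cb221.R false (N.M.E_eL451.map Prod.fst) :=
  Gh.clR bb221 sb221 N.M.E_eL451_ok (vs := [⟨0, 0, 0, 0, (sl 0x10003000a0051000f008300a9009c026b0c8b), 0x8000500020005002a0, 16, [0], 0x1000000000001⟩]) (by ((try (rewrite [Cfsg.Agent.LsF.f1e0820_16.2])); decide +kernel))
theorem tb221 {I} : Cm 8 cb221.R I (N.M.E_eL451.map Prod.fst) := .of_f fb221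
theorem ib221 : InI 8 cb221.R I8 := Gh.inI (c := cb221) (by decide +kernel)
theorem fb222 : ClF 8 cb222.R false (N.M.E_dM222.map Prod.fst) :=
  Gh.clR bb222 sb222 N.M.E_dM222_ok (vs := [⟨0, 0, 0, 0, (sl 0x1000200090006004b00800032001103070421), 0x8000400030004002b0, 16, [0, 1], 0x1000000000001⟩,
 ⟨0, 0, 0, 0, (sl 0x1000200090006004b00800032001103070421), 0x8000400030004002b0, 16, [0, 1], 0x1000000000001⟩]) (by ((try (rewrite [Cfsg.Agent.LsF.f1e0820_16.2])); decide +kernel))
theorem tb222 {I} : Cm 8 cb222.R I (N.M.E_dM222.map Prod.fst) := .of_f fb222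
theorem ib222 : InI 8 cb222.R I8 := Gh.inI (c := cb222) (by decide +kernel)
theorem fb226 : ClF 8 cb226.R false (N.M.E_dS10.map Prod.fst) :=
  Gh.clR bb226 sb226 N.M.E_dS10_ok (vs := (beta% delta% lq260d0090aa fun _ b _ _ _ _ _ h _ _ k _ _ n _ _ _ _ =>
 (h (n 0x48002100480021 0x40002500400025 0 0 0 0 0 k 0)<|
 h (n 0 0 0 0 (b 0x10002000a000600270053008f001002c9033f) 0x8000500020005002a0 16 (h 1<|h 2<|k) 0x1000000000001)<|
 h (n 0 0 0 0 (b 0x10002000a000600270053008f001002c9033f) 0x8000500020005002a0 16 (h 1<|h 2<|k) 0x1000000000001)<|k))) (by ((try (rewrite [Cfsg.Agent.LsF.f1e0820_16.2])); decide +kernel))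
theorem tb226 {I} : Cm 8 cb226.R I (N.M.E_dS10.map Prod.fst) := .of_f fb226
theorem ib226 : InI 8 cb226.R I8 := Gh.inI (c := cb226) (by decide +kernel)
theorem fb255 : ClF 8 cb255.R true [] :=
  Gh.clR bb255 sb255 (E := []) (fun _ h => nomatch h) (vs := [⟨0x20001000200010, 0x80004000800040, 0, 0, 0, 0, 0, [], 0⟩]) (by ((try (rewrite [Cfsg.Agent.LsF.f1e0820_16.2])); decide +kernel))
theorem tb255 : Cm 8 cb255.R I7 [] :=
  .of_p fb255 (Gh.clN (c := cb255) (by ((try (rewrite [Cfsg.Agent.LsF.f1e0820_34.2])); decide +kernel)))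
theorem fb257 : ClF 8 cb257.R true [] :=
  Gh.clR bb257 sb257 (E := []) (fun _ h => nomatch h) (vs := [⟨0x80004000800040, 0x20001000200010, 0, 0, 0, 0, 0, [], 0⟩]) (by ((try (rewrite [Cfsg.Agent.LsF.f1e0820_16.2])); decide +kernel))
theorem tb257 : Cm 8 cb257.R I7 [] :=
  .of_p fb257 (Gh.clN (c := cb257) (by ((try (rewrite [Cfsg.Agent.LsF.f1e0820_34.2])); decide +kernel)))
theorem fb260 : ClF 8 cb260.R true [] :=
  Gh.clR bb260 sb260 (E := []) (fun _ h => nomatch h) (vs := [⟨0x80004000800040, 0x20001000200010, 0, 0, 0, 0, 0, [], 0⟩]) (by ((try (rewrite [Cfsg.Agent.LsF.f1e0820_16.2])); decide +kernel))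
theorem tb260 : Cm 8 cb260.R I7 [] :=
  .of_p fb260 (Gh.clN (c := cb260) (by ((try (rewrite [Cfsg.Agent.LsF.f1e0820_34.2])); decide +kernel)))
theorem fb261 : ClF 8 cb261.R false [] :=
  Gh.clR bb261 sb261 (E := []) (fun _ h => nomatch h) (vs := [⟨0x40000800400008, 0x20001000200010, 0, 0, 0, 0, 0, [], 0⟩,
 ⟨0x80004000800040, 0x20001000200010, 0, 0, 0, 0, 0, [], 0⟩,
 ⟨0x40000800400008, 0x20001000200010, 0, 0, 0, 0, 0, [], 0⟩]) (by ((try (rewrite [Cfsg.Agent.LsF.f1e0820_16.2])); decide +kernel))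
theorem tb261 {I} : Cm 8 cb261.R I [] := .of_f fb261
theorem fb265 : ClF 8 cb265.R true [] :=
  Gh.clR bb265 sb265 (E := []) (fun _ h => nomatch h) (vs := [⟨0x80004000800040, 0x20001000200010, 0, 0, 0, 0, 0, [], 0⟩]) (by ((try (rewrite [Cfsg.Agent.LsF.f1e0820_16.2])); decide +kernel))
theorem tb265 : Cm 8 cb265.R I7 [] :=
  .of_p fb265 (Gh.clN (c := cb265) (by ((try (rewrite [Cfsg.Agent.LsF.f1e0820_34.2])); decide +kernel)))
theorem fb390 : ClF 8 cb390.R false (N.M.E_eWb2.map Prod.fst) :=
  Gh.clR bb390 sb390 N.M.E_eWb2_ok (vs := [⟨0, 0, 0, 0, (sl 0x1000200070012001a0092004c002201fa05b8), 0x80004000800040, 32, [0], 0x1000000000001⟩]) (by ((try (rewrite [Cfsg.Agent.LsF.f1e0820_16.2])); decide +kernel))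
theorem tb390 {I} : Cm 8 cb390.R I (N.M.E_eWb2.map Prod.fst) := .of_f fb390
theorem ib390 : InI 8 cb390.R I8 := Gh.inI (c := cb390) (by decide +kernel)
theorem fb428 : ClF 8 cb428.R false (N.M.E_eLc1.map Prod.fst) :=
  Gh.clR bb428 sb428 N.M.E_eLc1_ok (vs := [⟨0, 0, 0, 0, (sl 0x1000300090029006e0004001500ba03990646), 0x400020001000200150, 128, [0], 0x1000000000002⟩]) (by ((try (rewrite [Cfsg.Agent.LsF.f1e0820_16.2])); decide +kernel))
theorem tb428 {I} : Cm 8 cb428.R I (N.M.E_eLc1.map Prod.fst) := .of_f fb428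
theorem ib428 : InI 8 cb428.R I8 := Gh.inI (c := cb428) (by decide +kernel)
theorem fb429 : ClF 8 cb429.R false (N.M.E_eLd3.map Prod.fst) :=
  Gh.clR bb429 sb429 N.M.E_eLd3_ok (vs := [⟨0, 0, 0, 0, (sl 0x100030007000f00280060001000800204054e), 0x400020001000200150, 128, [0], 0x1000000000001⟩]) (by ((try (rewrite [Cfsg.Agent.LsF.f1e0820_16.2])); decide +kernel))
theorem tb429 {I} : Cm 8 cb429.R I (N.M.E_eLd3.map Prod.fst) := .of_f fb429
theorem ib429 : InI 8 cb429.R I8 := Gh.inI (c := cb429) (by decide +kernel)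
theorem fb430 : ClF 8 cb430.R false (N.M.E_eLc8.map Prod.fst) :=
  Gh.clR bb430 sb430 N.M.E_eLc8_ok (vs := [⟨0, 0, 0, 0, (sl 0x100030005000a0037007d00100080021d0562), 0x400020001000200150, 128, [0, 1], 0x1000000000001⟩,
 ⟨0, 0, 0, 0, (sl 0x100030005000a0037007d00100080021d0562), 0x400020001000200150, 128, [0, 1], 0x1000000000001⟩]) (by ((try (rewrite [Cfsg.Agent.LsF.f1e0820_16.2])); decide +kernel))
theorem tb430 {I} : Cm 8 cb430.R I (N.M.E_eLc8.map Prod.fst) := .of_f fb430
theorem ib430 : InI 8 cb430.R I8 := Gh.inI (c := cb430) (by decide +kernel)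
theorem fb464 : ClF 8 cb464.R false (N.M.E_dG27.map Prod.fst) :=
  Gh.clR bb464 sb464 N.M.E_dG27_ok (vs := [⟨0, 0, 0, 1, (sl 0x10007000300190060006e002a008602d20888), 0xc0002000c00020, 64, [0], 0x1000000000001⟩,
 ⟨0, 0, 0, 0, (sl 0x1000700050018006600700050008303480876), 0, 0, [1], 0⟩]) (by ((try (rewrite [Cfsg.Agent.LsF.f1e0820_16.2])); decide +kernel))
theorem tb464 {I} : Cm 8 cb464.R I (N.M.E_dG27.map Prod.fst) := .of_f fb464
theorem ib464 : InI 8 cb464.R I8 := Gh.inI (c := cb464) (by decide +kernel)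
theorem fb471 : ClF 8 cb471.R false (N.M.E_eWb1.map Prod.fst) :=
  Gh.clR bb471 sb471 N.M.E_eWb1_ok (vs := [⟨0, 0, 0, 0, (sl 0x100070005001e001700ff002a007a01970bce), 0xc0002000c00020, 64, [0], 0x1000000000001⟩]) (by ((try (rewrite [Cfsg.Agent.LsF.f1e0820_16.2])); decide +kernel))
theorem tb471 {I} : Cm 8 cb471.R I (N.M.E_eWb1.map Prod.fst) := .of_f fb471
theorem ib471 : InI 8 cb471.R I8 := Gh.inI (c := cb471) (by decide +kernel)
private noncomputable def _root_.Cfsg.Agent.LsF.f1e0820_318 : {f // @Cfsg.Agent.FS.NB.D.lb488_0 = f} := ⟨_, by first | (delta Cfsg.Agent.FS.NB.D.lb488_0; rewrite [Cfsg.Agent.LsF.f1e0820_17.2]; exact rfl) | exact rfl⟩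
private noncomputable def _root_.Cfsg.Agent.LsF.f1e0820_319 : {f // @Cfsg.Agent.FS.NB.D.lb488_1 = f} := ⟨_, by first | (delta Cfsg.Agent.FS.NB.D.lb488_1; rewrite [Cfsg.Agent.LsF.f1e0820_17.2, Cfsg.Agent.LsF.f1e0820_318.2]; exact rfl) | exact rfl⟩
private noncomputable def _root_.Cfsg.Agent.LsF.f1e0820_320 : {f // @Cfsg.Agent.FS.NB.D.lb488_2 = f} := ⟨_, by first | (delta Cfsg.Agent.FS.NB.D.lb488_2; rewrite [Cfsg.Agent.LsF.f1e0820_17.2, Cfsg.Agent.LsF.f1e0820_319.2]; exact rfl) | exact rfl⟩
private noncomputable def _root_.Cfsg.Agent.LsF.f1e0820_321 : {f // @Cfsg.Agent.FS.NB.D.lb488_3 = f} := ⟨_, by first | (delta Cfsg.Agent.FS.NB.D.lb488_3; rewrite [Cfsg.Agent.LsF.f1e0820_17.2, Cfsg.Agent.LsF.f1e0820_320.2]; exact rfl) | exact rfl⟩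
private noncomputable def _root_.Cfsg.Agent.LsF.f1e0820_322 : {f // @Cfsg.Agent.FS.NB.D.lb488_4 = f} := ⟨_, by first | (delta Cfsg.Agent.FS.NB.D.lb488_4; rewrite [Cfsg.Agent.LsF.f1e0820_17.2, Cfsg.Agent.LsF.f1e0820_321.2]; exact rfl) | exact rfl⟩
private noncomputable def _root_.Cfsg.Agent.LsF.f1e0820_323 : {f // @Cfsg.Agent.FS.NB.D.lb488_5 = f} := ⟨_, by first | (delta Cfsg.Agent.FS.NB.D.lb488_5; rewrite [Cfsg.Agent.LsF.f1e0820_17.2, Cfsg.Agent.LsF.f1e0820_322.2]; exact rfl) | exact rfl⟩
private noncomputable def _root_.Cfsg.Agent.LsF.f1e0820_324 : {f // @Cfsg.Agent.FS.NB.D.lb488_6 = f} := ⟨_, by first | (delta Cfsg.Agent.FS.NB.D.lb488_6; rewrite [Cfsg.Agent.LsF.f1e0820_17.2, Cfsg.Agent.LsF.f1e0820_323.2]; exact rfl) | exact rfl⟩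
private noncomputable def _root_.Cfsg.Agent.LsF.f1e0820_325 : {f // @Cfsg.Agent.FS.NB.D.lb488 = f} := ⟨_, by first | (delta Cfsg.Agent.FS.NB.D.lb488; rewrite [Cfsg.Agent.LsF.f1e0820_324.2]; exact rfl) | exact rfl⟩
theorem fb488 : ClF 8 cb488.R false (N.M.E_dLy.map Prod.fst) :=
  Gh.clR bb488 sb488 N.M.E_dLy_ok (vs := (beta% delta% lq260d0090aa fun _ b _ _ _ _ _ h _ _ k _ _ n _ _ _ _ =>
 (h (n 0 0 0 2 (b 0x100030004000e002c001c00510090020e03f1) 0x800040000800400288 32 (h 0<|h 3<|h 4<|h 6<|k) (b 0x1000100fc00010001000100f3000100010001000000000001000000000001a4047e95))<|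
 h (n 0 0 0 1 (b 0x100030004000e002c001c00510090020e03f1) 0x800020001000200290 64 (h 0<|h 1<|h 4<|h 5<|k) (b 0x1000100fc00010001000100f3000100010001000000000001000000000001a4047e95))<|
 h (n 0 0 0 0 (b 0x100030004000e002c001c00510090020e03f1) 0 0 (h 2<|k) 0)<|
 h (n 0 0 0 2 (b 0x100030004000e002c001c00510090020e03f1) 0x800040000800400288 32 (h 0<|h 3<|h 4<|h 6<|k) (b 0x1000100fc00010001000100f3000100010001000000000001000000000001a4047e95))<|
 h (n 0 0 0 2 (b 0x100030004000e002c001c00510090020e03f1) 0x800040000800400288 32 (h 0<|h 3<|h 4<|h 6<|k) (b 0x1000100fc00010001000100f3000100010001000000000001000000000001a4047e95))<|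
 h (n 0 0 0 1 (b 0x100030004000e002c001c00510090020e03f1) 0x800020001000200290 64 (h 0<|h 1<|h 4<|h 5<|k) (b 0x1000100fc00010001000100f3000100010001000000000001000000000001a4047e95))<|
 h (n 0 0 0 2 (b 0x100030004000e002c001c00510090020e03f1) 0x800040000800400288 32 (h 0<|h 3<|h 4<|h 6<|k) (b 0x1000100fc00010001000100f3000100010001000000000001000000000001a4047e95))<|k))) (by ((try (rewrite [Cfsg.Agent.LsF.f1e0820_16.2, Cfsg.Agent.LsF.f1e0820_325.2])); decide +kernel))
theorem tb488 {I} : Cm 8 cb488.R I (N.M.E_dLy.map Prod.fst) := .of_f fb488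
theorem ib488 : InI 8 cb488.R I8 := Gh.inI (c := cb488) (by decide +kernel)
private noncomputable def _root_.Cfsg.Agent.LsF.f1e0820_326 : {f // @Cfsg.Agent.FS.NB.D.lb489_0 = f} := ⟨_, by first | (delta Cfsg.Agent.FS.NB.D.lb489_0; rewrite [Cfsg.Agent.LsF.f1e0820_17.2]; exact rfl) | exact rfl⟩
private noncomputable def _root_.Cfsg.Agent.LsF.f1e0820_327 : {f // @Cfsg.Agent.FS.NB.D.lb489_1 = f} := ⟨_, by first | (delta Cfsg.Agent.FS.NB.D.lb489_1; rewrite [Cfsg.Agent.LsF.f1e0820_17.2, Cfsg.Agent.LsF.f1e0820_326.2]; exact rfl) | exact rfl⟩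
private noncomputable def _root_.Cfsg.Agent.LsF.f1e0820_328 : {f // @Cfsg.Agent.FS.NB.D.lb489_2 = f} := ⟨_, by first | (delta Cfsg.Agent.FS.NB.D.lb489_2; rewrite [Cfsg.Agent.LsF.f1e0820_17.2, Cfsg.Agent.LsF.f1e0820_327.2]; exact rfl) | exact rfl⟩
private noncomputable def _root_.Cfsg.Agent.LsF.f1e0820_329 : {f // @Cfsg.Agent.FS.NB.D.lb489_3 = f} := ⟨_, by first | (delta Cfsg.Agent.FS.NB.D.lb489_3; rewrite [Cfsg.Agent.LsF.f1e0820_17.2, Cfsg.Agent.LsF.f1e0820_328.2]; exact rfl) | exact rfl⟩
private noncomputable def _root_.Cfsg.Agent.LsF.f1e0820_330 : {f // @Cfsg.Agent.FS.NB.D.lb489_4 = f} := ⟨_, by first | (delta Cfsg.Agent.FS.NB.D.lb489_4; rewrite [Cfsg.Agent.LsF.f1e0820_17.2, Cfsg.Agent.LsF.f1e0820_329.2]; exact rfl) | exact rfl⟩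
private noncomputable def _root_.Cfsg.Agent.LsF.f1e0820_331 : {f // @Cfsg.Agent.FS.NB.D.lb489 = f} := ⟨_, by first | (delta Cfsg.Agent.FS.NB.D.lb489; rewrite [Cfsg.Agent.LsF.f1e0820_330.2]; exact rfl) | exact rfl⟩
theorem fb489 : ClF 8 cb489.R false (N.M.E_eL430.map Prod.fst) :=
  Gh.clR bb489 sb489 N.M.E_eL430_ok (vs := [⟨0x81001c0081001c, 0x89001800890018, 0x2000000000, 0, 0, 0, 0, [], 0⟩,
 ⟨0, 0, 0, 0, (sl 0x100020005001d000e00900044006d0184070c), 0x800040000800400288, 32, [1], 0x1000000000001⟩]) (by ((try (rewrite [Cfsg.Agent.LsF.f1e0820_16.2, Cfsg.Agent.LsF.f1e0820_331.2])); decide +kernel))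
theorem tb489 {I} : Cm 8 cb489.R I (N.M.E_eL430.map Prod.fst) := .of_f fb489
theorem ib489 : InI 8 cb489.R I8 := Gh.inI (c := cb489) (by decide +kernel)
private noncomputable def _root_.Cfsg.Agent.LsF.f1e0820_332 : {f // @Cfsg.Agent.FS.NB.D.lb490_0 = f} := ⟨_, by first | (delta Cfsg.Agent.FS.NB.D.lb490_0; rewrite [Cfsg.Agent.LsF.f1e0820_17.2]; exact rfl) | exact rfl⟩
private noncomputable def _root_.Cfsg.Agent.LsF.f1e0820_333 : {f // @Cfsg.Agent.FS.NB.D.lb490_1 = f} := ⟨_, by first | (delta Cfsg.Agent.FS.NB.D.lb490_1; rewrite [Cfsg.Agent.LsF.f1e0820_17.2, Cfsg.Agent.LsF.f1e0820_332.2]; exact rfl) | exact rfl⟩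
private noncomputable def _root_.Cfsg.Agent.LsF.f1e0820_334 : {f // @Cfsg.Agent.FS.NB.D.lb490_2 = f} := ⟨_, by first | (delta Cfsg.Agent.FS.NB.D.lb490_2; rewrite [Cfsg.Agent.LsF.f1e0820_17.2, Cfsg.Agent.LsF.f1e0820_333.2]; exact rfl) | exact rfl⟩
private noncomputable def _root_.Cfsg.Agent.LsF.f1e0820_335 : {f // @Cfsg.Agent.FS.NB.D.lb490_3 = f} := ⟨_, by first | (delta Cfsg.Agent.FS.NB.D.lb490_3; rewrite [Cfsg.Agent.LsF.f1e0820_17.2, Cfsg.Agent.LsF.f1e0820_334.2]; exact rfl) | exact rfl⟩
private noncomputable def _root_.Cfsg.Agent.LsF.f1e0820_336 : {f // @Cfsg.Agent.FS.NB.D.lb490_4 = f} := ⟨_, by first | (delta Cfsg.Agent.FS.NB.D.lb490_4; rewrite [Cfsg.Agent.LsF.f1e0820_17.2, Cfsg.Agent.LsF.f1e0820_335.2]; exact rfl) | exact rfl⟩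
private noncomputable def _root_.Cfsg.Agent.LsF.f1e0820_337 : {f // @Cfsg.Agent.FS.NB.D.lb490_5 = f} := ⟨_, by first | (delta Cfsg.Agent.FS.NB.D.lb490_5; rewrite [Cfsg.Agent.LsF.f1e0820_17.2, Cfsg.Agent.LsF.f1e0820_336.2]; exact rfl) | exact rfl⟩
private noncomputable def _root_.Cfsg.Agent.LsF.f1e0820_338 : {f // @Cfsg.Agent.FS.NB.D.lb490 = f} := ⟨_, by first | (delta Cfsg.Agent.FS.NB.D.lb490; rewrite [Cfsg.Agent.LsF.f1e0820_337.2]; exact rfl) | exact rfl⟩
theorem fb490 : ClF 8 cb490.R false (N.M.E_dS47.map Prod.fst) :=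
  Gh.clR bb490 sb490 N.M.E_dS47_ok (vs := (beta% delta% lq260d0090aa fun _ b _ _ _ _ _ h _ _ k _ _ n _ _ _ _ =>
 (h (n 0x81001c0081001c 0x89001800890018 0x2000000000 0 0 0 0 k 0)<|
 h (n 0 0 0 1 (b 0x100020005000b001200910051002901a5050b) 0x800040000800400288 32 (h 1<|k) 0x1000000000001)<|
 h (n 0 0 0 0 (b 0x1000300050010000d009f0026004501610667) 0 0 (h 2<|k) 0)<|k))) (by ((try (rewrite [Cfsg.Agent.LsF.f1e0820_16.2, Cfsg.Agent.LsF.f1e0820_338.2])); decide +kernel))
theorem tb490 {I} : Cm 8 cb490.R I (N.M.E_dS47.map Prod.fst) := .of_f fb490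
theorem ib490 : InI 8 cb490.R I8 := Gh.inI (c := cb490) (by decide +kernel)
private noncomputable def _root_.Cfsg.Agent.LsF.f1e0820_339 : {f // @Cfsg.Agent.FS.NB.D.lb491_0 = f} := ⟨_, by first | (delta Cfsg.Agent.FS.NB.D.lb491_0; rewrite [Cfsg.Agent.LsF.f1e0820_17.2]; exact rfl) | exact rfl⟩
private noncomputable def _root_.Cfsg.Agent.LsF.f1e0820_340 : {f // @Cfsg.Agent.FS.NB.D.lb491 = f} := ⟨_, by first | (delta Cfsg.Agent.FS.NB.D.lb491; rewrite [Cfsg.Agent.LsF.f1e0820_339.2]; exact rfl) | exact rfl⟩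
theorem fb491 : ClF 8 cb491.R false (N.M.E_eLd8.map Prod.fst) :=
  Gh.clR bb491 sb491 N.M.E_eLd8_ok (vs := [⟨0, 0, 0, 2, (sl 0x100020005000a0014005200d80021023603af), 0xa0004000a00040, 32, [0, 1], 0x1000000000001⟩,
 ⟨0, 0, 0, 2, (sl 0x100020005000a0014005200d80021023603af), 0xa0004000a00040, 32, [0, 1], 0x1000000000001⟩]) (by ((try (rewrite [Cfsg.Agent.LsF.f1e0820_16.2, Cfsg.Agent.LsF.f1e0820_340.2])); decide +kernel))
theorem tb491 {I} : Cm 8 cb491.R I (N.M.E_eLd8.map Prod.fst) := .of_f fb491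
theorem ib491 : InI 8 cb491.R I8 := Gh.inI (c := cb491) (by decide +kernel)
private noncomputable def _root_.Cfsg.Agent.LsF.f1e0820_341 : {f // @Cfsg.Agent.FS.NB.D.lb493_0 = f} := ⟨_, by first | (delta Cfsg.Agent.FS.NB.D.lb493_0; rewrite [Cfsg.Agent.LsF.f1e0820_17.2]; exact rfl) | exact rfl⟩
private noncomputable def _root_.Cfsg.Agent.LsF.f1e0820_342 : {f // @Cfsg.Agent.FS.NB.D.lb493 = f} := ⟨_, by first | (delta Cfsg.Agent.FS.NB.D.lb493; rewrite [Cfsg.Agent.LsF.f1e0820_341.2]; exact rfl) | exact rfl⟩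
theorem fb493 : ClF 8 cb493.R false (N.M.E_eLe3.map Prod.fst) :=
  Gh.clR bb493 sb493 N.M.E_eLe3_ok (vs := [⟨0, 0, 0, 0, (sl 0x10002000400080011006300d30021020903d2), 0xa0006000a00060, 32, [0], 0x1000000000001⟩]) (by ((try (rewrite [Cfsg.Agent.LsF.f1e0820_16.2, Cfsg.Agent.LsF.f1e0820_342.2])); decide +kernel))
theorem tb493 {I} : Cm 8 cb493.R I (N.M.E_eLe3.map Prod.fst) := .of_f fb493
theorem ib493 : InI 8 cb493.R I8 := Gh.inI (c := cb493) (by decide +kernel)
private noncomputable def _root_.Cfsg.Agent.LsF.f1e0820_343 : {f // @Cfsg.Agent.FS.NB.D.lb511_0 = f} := ⟨_, by first | (delta Cfsg.Agent.FS.NB.D.lb511_0; rewrite [Cfsg.Agent.LsF.f1e0820_17.2]; exact rfl) | exact rfl⟩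
private noncomputable def _root_.Cfsg.Agent.LsF.f1e0820_344 : {f // @Cfsg.Agent.FS.NB.D.lb511 = f} := ⟨_, by first | (delta Cfsg.Agent.FS.NB.D.lb511; rewrite [Cfsg.Agent.LsF.f1e0820_343.2]; exact rfl) | exact rfl⟩
theorem fb511 : ClF 8 cb511.R false (N.M.E_eLc2.map Prod.fst) :=
  Gh.clR bb511 sb511 N.M.E_eLc2_ok (vs := [⟨0, 0, 0, 0, (sl 0x1000300090013004d000d003d00ff031c0492), 0x400020001000200150, 128, [0], 0x1000000000001⟩]) (by ((try (rewrite [Cfsg.Agent.LsF.f1e0820_16.2, Cfsg.Agent.LsF.f1e0820_344.2])); decide +kernel))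
theorem tb511 {I} : Cm 8 cb511.R I (N.M.E_eLc2.map Prod.fst) := .of_f fb511
theorem ib511 : InI 8 cb511.R I8 := Gh.inI (c := cb511) (by decide +kernel)
private noncomputable def _root_.Cfsg.Agent.LsF.f1e0820_345 : {f // @Cfsg.Agent.FS.NB.D.lb519_0 = f} := ⟨_, by first | (delta Cfsg.Agent.FS.NB.D.lb519_0; rewrite [Cfsg.Agent.LsF.f1e0820_17.2]; exact rfl) | exact rfl⟩
private noncomputable def _root_.Cfsg.Agent.LsF.f1e0820_346 : {f // @Cfsg.Agent.FS.NB.D.lb519 = f} := ⟨_, by first | (delta Cfsg.Agent.FS.NB.D.lb519; rewrite [Cfsg.Agent.LsF.f1e0820_345.2]; exact rfl) | exact rfl⟩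
theorem fb519 : ClF 8 cb519.R false (N.M.E_eLd4.map Prod.fst) :=
  Gh.clR bb519 sb519 N.M.E_eLd4_ok (vs := [⟨0, 0, 0, 0, (sl 0x100020004000900120045003c00b8017703ec), 0x400020001000200150, 128, [0], 0x1000000000001⟩]) (by ((try (rewrite [Cfsg.Agent.LsF.f1e0820_16.2, Cfsg.Agent.LsF.f1e0820_346.2])); decide +kernel))
theorem tb519 {I} : Cm 8 cb519.R I (N.M.E_eLd4.map Prod.fst) := .of_f fb519
theorem ib519 : InI 8 cb519.R I8 := Gh.inI (c := cb519) (by decide +kernel)
private noncomputable def _root_.Cfsg.Agent.LsF.f1e0820_347 : {f // @Cfsg.Agent.FS.NB.D.lb529_0 = f} := ⟨_, by first | (delta Cfsg.Agent.FS.NB.D.lb529_0; rewrite [Cfsg.Agent.LsF.f1e0820_17.2]; exact rfl) | exact rfl⟩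
private noncomputable def _root_.Cfsg.Agent.LsF.f1e0820_348 : {f // @Cfsg.Agent.FS.NB.D.lb529 = f} := ⟨_, by first | (delta Cfsg.Agent.FS.NB.D.lb529; rewrite [Cfsg.Agent.LsF.f1e0820_347.2]; exact rfl) | exact rfl⟩
theorem fb529 : ClF 8 cb529.R false (N.M.E_dQ256.map Prod.fst) :=
  Gh.clR bb529 sb529 N.M.E_dQ256_ok (vs := [⟨0, 0, 0, 1, (sl 0x100020005000a0014002800f2004902500305), 0x40002000400020, 128, [0], 0x1000000000001⟩,
 ⟨0, 0, 0, 0, (sl 0x100020005000a0014002800f2004902500305), 0, 0, [1], 0⟩]) (by ((try (rewrite [Cfsg.Agent.LsF.f1e0820_16.2, Cfsg.Agent.LsF.f1e0820_348.2])); decide +kernel))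
theorem tb529 {I} : Cm 8 cb529.R I (N.M.E_dQ256.map Prod.fst) := .of_f fb529
theorem ib529 : InI 8 cb529.R I8 := Gh.inI (c := cb529) (by decide +kernel)
private noncomputable def _root_.Cfsg.Agent.LsF.f1e0820_349 : {f // @Cfsg.Agent.FS.NB.D.lb530_0 = f} := ⟨_, by first | (delta Cfsg.Agent.FS.NB.D.lb530_0; rewrite [Cfsg.Agent.LsF.f1e0820_17.2]; exact rfl) | exact rfl⟩
private noncomputable def _root_.Cfsg.Agent.LsF.f1e0820_350 : {f // @Cfsg.Agent.FS.NB.D.lb530 = f} := ⟨_, by first | (delta Cfsg.Agent.FS.NB.D.lb530; rewrite [Cfsg.Agent.LsF.f1e0820_349.2]; exact rfl) | exact rfl⟩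
theorem fb530 : ClF 8 cb530.R false (N.M.E_dD256.map Prod.fst) :=
  Gh.clR bb530 sb530 N.M.E_dD256_ok (vs := [⟨0, 0, 0, 1, (sl 0x10002000400080011002300e7006d021d02de), 0x40002000400020, 128, [0], 0x1000000000001⟩,
 ⟨0, 0, 0, 0, (sl 0x10002000400080011002300e7006d021d02de), 0, 0, [1], 0⟩]) (by ((try (rewrite [Cfsg.Agent.LsF.f1e0820_16.2, Cfsg.Agent.LsF.f1e0820_350.2])); decide +kernel))
theorem tb530 {I} : Cm 8 cb530.R I (N.M.E_dD256.map Prod.fst) := .of_f fb530
theorem ib530 : InI 8 cb530.R I8 := Gh.inI (c := cb530) (by decide +kernel)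

noncomputable def lF8 : List ℕ := [cb133.R, cb255.R, cb257.R, cb260.R, cb261.R, cb265.R]
theorem aF8 : Cms 8 I7 lF8 :=
  .cons tb133 <| .cons tb255 <| .cons tb257 <| .cons tb260 <| .cons tb261 <| .cons tb265 <|
  .nil

end Cfsg.Agent.FS.NB.D
end

-- part: FS/N/B/D/Lv8
section
set_option maxRecDepth 100000
set_option linter.all false
set_option Elab.async false

namespace Cfsg.Agent.FS.NB.D

noncomputable def el8 : List ℕ := lB0 ++ (lB1 ++ (lB2 ++ (lB3 ++ (lB4))))
theorem ea8 : Clf 8 el8 := .app aB0 (.app aB1 (.app aB2 (.app aB3 (aB4))))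
noncomputable def xl8 : List ℕ := lPb0 ++ (lPb1 ++ (lPb2 ++ (lHb0 ++ (lF8))))
theorem xa8 : Cms 8 I7 xl8 := .app aPb0 (.app aPb1 (.app aPb2 (.app aHb0.cms (aF8))))
noncomputable def rl8 : List ℕ := (beta% delta% lq260d0090aa fun _ _ _ _ _ _ _ h _ _ k _ _ _ _ _ _ _ =>
 (h cb183.R<|h cb221.R<|h cb222.R<|h cb226.R<|h cb390.R<|h cb428.R<|h cb429.R<|h cb430.R<|h cb464.R<|h cb471.R<|h cb488.R<|h cb489.R<|
 h cb490.R<|h cb491.R<|h cb493.R<|h cb511.R<|h cb519.R<|h cb529.R<|h cb530.R<|k))
theorem ra8 : Crs 8 I7 I8 (N.M.Ents8.map Prod.fst) rl8 :=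
  .cons tb183 (fun _ h => List.map_subset _ (show N.M.E_dS44 ⊆ N.M.Ents8 from (List.subset_append_of_subset_right _ (List.subset_append_of_subset_right _ (List.subset_append_of_subset_right _ (List.subset_append_of_subset_right _ (List.subset_append_of_subset_right _ (List.subset_append_of_subset_right _ (List.subset_append_of_subset_right _ (List.subset_append_of_subset_right _ (List.subset_append_of_subset_right _ (List.subset_append_of_subset_right _ (List.subset_append_of_subset_right _ (List.subset_append_of_subset_right _ (List.subset_append_of_subset_right _ (List.subset_append_of_subset_right _ (List.subset_append_of_subset_right _ (List.subset_append_of_subset_right _ (List.subset_append_of_subset_right _ (List.subset_append_of_subset_right _ (List.Subset.refl _)))))))))))))))))))) h) ib183 <|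
  .cons tb221 (fun _ h => List.map_subset _ (show N.M.E_eL451 ⊆ N.M.Ents8 from (List.subset_append_of_subset_right _ (List.subset_append_of_subset_right _ (List.subset_append_of_subset_right _ (List.subset_append_of_subset_right _ (List.subset_append_of_subset_right _ (List.subset_append_of_subset_right _ (List.subset_append_of_subset_right _ (List.subset_append_of_subset_right _ (List.subset_append_of_subset_right _ (List.subset_append_of_subset_right _ (List.subset_append_of_subset_right _ (List.subset_append_of_subset_right _ (List.subset_append_of_subset_right _ (List.subset_append_of_subset_right _ (List.subset_append_of_subset_right _ (List.subset_append_left _ _))))))))))))))))) h) ib221 <|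
  .cons tb222 (fun _ h => List.map_subset _ (show N.M.E_dM222 ⊆ N.M.Ents8 from (List.subset_append_of_subset_right _ (List.subset_append_of_subset_right _ (List.subset_append_of_subset_right _ (List.subset_append_of_subset_right _ (List.subset_append_of_subset_right _ (List.subset_append_of_subset_right _ (List.subset_append_of_subset_right _ (List.subset_append_of_subset_right _ (List.subset_append_of_subset_right _ (List.subset_append_of_subset_right _ (List.subset_append_of_subset_right _ (List.subset_append_of_subset_right _ (List.subset_append_of_subset_right _ (List.subset_append_of_subset_right _ (List.subset_append_of_subset_right _ (List.subset_append_of_subset_right _ (List.subset_append_left _ _)))))))))))))))))) h) ib222 <|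
  .cons tb226 (fun _ h => List.map_subset _ (show N.M.E_dS10 ⊆ N.M.Ents8 from (List.subset_append_of_subset_right _ (List.subset_append_of_subset_right _ (List.subset_append_of_subset_right _ (List.subset_append_of_subset_right _ (List.subset_append_of_subset_right _ (List.subset_append_of_subset_right _ (List.subset_append_of_subset_right _ (List.subset_append_of_subset_right _ (List.subset_append_of_subset_right _ (List.subset_append_of_subset_right _ (List.subset_append_of_subset_right _ (List.subset_append_of_subset_right _ (List.subset_append_of_subset_right _ (List.subset_append_left _ _))))))))))))))) h) ib226 <|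
  .cons tb390 (fun _ h => List.map_subset _ (show N.M.E_eWb2 ⊆ N.M.Ents8 from (List.subset_append_of_subset_right _ (List.subset_append_of_subset_right _ (List.subset_append_of_subset_right _ (List.subset_append_of_subset_right _ (List.subset_append_of_subset_right _ (List.subset_append_of_subset_right _ (List.subset_append_of_subset_right _ (List.subset_append_of_subset_right _ (List.subset_append_of_subset_right _ (List.subset_append_of_subset_right _ (List.subset_append_of_subset_right _ (List.subset_append_left _ _))))))))))))) h) ib390 <|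
  .cons tb428 (fun _ h => List.map_subset _ (show N.M.E_eLc1 ⊆ N.M.Ents8 from (List.subset_append_left _ _)) h) ib428 <|
  .cons tb429 (fun _ h => List.map_subset _ (show N.M.E_eLd3 ⊆ N.M.Ents8 from (List.subset_append_of_subset_right _ (List.subset_append_of_subset_right _ (List.subset_append_of_subset_right _ (List.subset_append_left _ _))))) h) ib429 <|
  .cons tb430 (fun _ h => List.map_subset _ (show N.M.E_eLc8 ⊆ N.M.Ents8 from (List.subset_append_of_subset_right _ (List.subset_append_of_subset_right _ (List.subset_append_left _ _)))) h) ib430 <|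
  .cons tb464 (fun _ h => List.map_subset _ (show N.M.E_dG27 ⊆ N.M.Ents8 from (List.subset_append_of_subset_right _ (List.subset_append_of_subset_right _ (List.subset_append_of_subset_right _ (List.subset_append_of_subset_right _ (List.subset_append_of_subset_right _ (List.subset_append_of_subset_right _ (List.subset_append_of_subset_right _ (List.subset_append_of_subset_right _ (List.subset_append_of_subset_right _ (List.subset_append_left _ _))))))))))) h) ib464 <|
  .cons tb471 (fun _ h => List.map_subset _ (show N.M.E_eWb1 ⊆ N.M.Ents8 from (List.subset_append_of_subset_right _ (List.subset_append_of_subset_right _ (List.subset_append_of_subset_right _ (List.subset_append_of_subset_right _ (List.subset_append_of_subset_right _ (List.subset_append_of_subset_right _ (List.subset_append_of_subset_right _ (List.subset_append_of_subset_right _ (List.subset_append_of_subset_right _ (List.subset_append_of_subset_right _ (List.subset_append_left _ _)))))))))))) h) ib471 <|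
  .cons tb488 (fun _ h => List.map_subset _ (show N.M.E_dLy ⊆ N.M.Ents8 from (List.subset_append_of_subset_right _ (List.subset_append_of_subset_right _ (List.subset_append_of_subset_right _ (List.subset_append_of_subset_right _ (List.subset_append_of_subset_right _ (List.subset_append_of_subset_right _ (List.subset_append_of_subset_right _ (List.subset_append_of_subset_right _ (List.subset_append_of_subset_right _ (List.subset_append_of_subset_right _ (List.subset_append_of_subset_right _ (List.subset_append_of_subset_right _ (List.subset_append_of_subset_right _ (List.subset_append_of_subset_right _ (List.subset_append_of_subset_right _ (List.subset_append_of_subset_right _ (List.subset_append_of_subset_right _ (List.subset_append_left _ _))))))))))))))))))) h) ib488 <|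
  .cons tb489 (fun _ h => List.map_subset _ (show N.M.E_eL430 ⊆ N.M.Ents8 from (List.subset_append_of_subset_right _ (List.subset_append_of_subset_right _ (List.subset_append_of_subset_right _ (List.subset_append_of_subset_right _ (List.subset_append_of_subset_right _ (List.subset_append_of_subset_right _ (List.subset_append_of_subset_right _ (List.subset_append_of_subset_right _ (List.subset_append_of_subset_right _ (List.subset_append_of_subset_right _ (List.subset_append_of_subset_right _ (List.subset_append_of_subset_right _ (List.subset_append_left _ _)))))))))))))) h) ib489 <|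
  .cons tb490 (fun _ h => List.map_subset _ (show N.M.E_dS47 ⊆ N.M.Ents8 from (List.subset_append_of_subset_right _ (List.subset_append_of_subset_right _ (List.subset_append_of_subset_right _ (List.subset_append_of_subset_right _ (List.subset_append_of_subset_right _ (List.subset_append_of_subset_right _ (List.subset_append_of_subset_right _ (List.subset_append_of_subset_right _ (List.subset_append_of_subset_right _ (List.subset_append_of_subset_right _ (List.subset_append_of_subset_right _ (List.subset_append_of_subset_right _ (List.subset_append_of_subset_right _ (List.subset_append_of_subset_right _ (List.subset_append_left _ _)))))))))))))))) h) ib490 <|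
  .cons tb491 (fun _ h => List.map_subset _ (show N.M.E_eLd8 ⊆ N.M.Ents8 from (List.subset_append_of_subset_right _ (List.subset_append_of_subset_right _ (List.subset_append_of_subset_right _ (List.subset_append_of_subset_right _ (List.subset_append_of_subset_right _ (List.subset_append_left _ _))))))) h) ib491 <|
  .cons tb493 (fun _ h => List.map_subset _ (show N.M.E_eLe3 ⊆ N.M.Ents8 from (List.subset_append_of_subset_right _ (List.subset_append_of_subset_right _ (List.subset_append_of_subset_right _ (List.subset_append_of_subset_right _ (List.subset_append_of_subset_right _ (List.subset_append_of_subset_right _ (List.subset_append_of_subset_right _ (List.subset_append_left _ _))))))))) h) ib493 <|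
  .cons tb511 (fun _ h => List.map_subset _ (show N.M.E_eLc2 ⊆ N.M.Ents8 from (List.subset_append_of_subset_right _ (List.subset_append_left _ _))) h) ib511 <|
  .cons tb519 (fun _ h => List.map_subset _ (show N.M.E_eLd4 ⊆ N.M.Ents8 from (List.subset_append_of_subset_right _ (List.subset_append_of_subset_right _ (List.subset_append_of_subset_right _ (List.subset_append_of_subset_right _ (List.subset_append_left _ _)))))) h) ib519 <|
  .cons tb529 (fun _ h => List.map_subset _ (show N.M.E_dQ256 ⊆ N.M.Ents8 from (List.subset_append_of_subset_right _ (List.subset_append_of_subset_right _ (List.subset_append_of_subset_right _ (List.subset_append_of_subset_right _ (List.subset_append_of_subset_right _ (List.subset_append_of_subset_right _ (List.subset_append_of_subset_right _ (List.subset_append_of_subset_right _ (List.subset_append_left _ _)))))))))) h) ib529 <|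
  .cons tb530 (fun _ h => List.map_subset _ (show N.M.E_dD256 ⊆ N.M.Ents8 from (List.subset_append_of_subset_right _ (List.subset_append_of_subset_right _ (List.subset_append_of_subset_right _ (List.subset_append_of_subset_right _ (List.subset_append_of_subset_right _ (List.subset_append_of_subset_right _ (List.subset_append_left _ _)))))))) h) ib530 <|
  .nil
private noncomputable def frc (f : ℕ → ℕ) (n : ℕ) : ℕ := Nat.rec (f 0) (fun k _ => f (Nat.succ k)) n
private theorem frc_eq (f : ℕ → ℕ) (n : ℕ) : frc f n = f n := by cases n <;> rfl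
private noncomputable def rp (k P : ℕ) : ℕ := Nat.rec 0 (fun i r => Nat.add r
  (Nat.shiftLeft (Nat.mod (Nat.shiftRight P (Nat.add 64 (Nat.mul 8 i))) 256) (Nat.mul 16 i))) k
private theorem rp_eq (R : ℕ) {s : ℕ} (hs : s < 2 ^ 64) : ∀ k, rp k (R <<< 64 + s) = Cfsg.Agent.FS.N.G.rep16 8 R k
  | 0 => rfl
  | k + 1 => by
    have h1 : rp (k + 1) (R <<< 64 + s) = rp k (R <<< 64 + s) + ((R <<< 64 + s) >>> (64 + 8 * k) % 256) <<< (16 * k) := rfl
    have h2 : (R <<< 64 + s) >>> 64 = R := by
      rw [Nat.shiftRight_eq_div_pow, Nat.shiftLeft_eq, Nat.add_comm, Nat.add_mul_div_right _ _ (Nat.two_pow_pos 64),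
        Nat.div_eq_of_lt hs, Nat.zero_add]
    rw [h1, rp_eq R hs k, Nat.shiftRight_add, h2]
    rfl
private theorem gl8 : N.A.gl 8 = (Sw.S 8).flatten.map fun T =>
    frc (rp 36) (Nat.add (Nat.shiftLeft T.rel 64) (Nat.mod T.rel 18446744073709551557)) := by
  refine List.map_congr_left fun T _ => ?_
  rw [frc_eq]
  exact (rp_eq T.rel (lt_trans (Nat.mod_lt _ (by decide)) (by decide)) 36).symm
theorem lev8 : N.Lev 8 (N.M.Ents8.map Prod.fst) ∧ N.LevI 8 I8 :=
  lev_of2 (gl := N.A.gl 8) (N.A.hl_old (by decide) (by decide)) lev7.2 ea8 xa8 ra8 (by rw [gl8]; decide +kernel)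

end Cfsg.Agent.FS.NB.D
end

-- part: FS/N/B/D/Lv9
section
set_option maxRecDepth 100000
set_option linter.all false
set_option Elab.async false

namespace Cfsg.Agent.FS.NB.D

noncomputable def el9 : List ℕ := lC0 ++ (lC1 ++ (lC2 ++ (lC3 ++ (lC4 ++ (lC5 ++ (lC6 ++ (lC7 ++ (lC8 ++ (lC9 ++ (lC10 ++ (lC11 ++ (lC12 ++ (lC13 ++ (lC14 ++ (lC15 ++ (lC16 ++ (lC17 ++ (lC18 ++ (lC19 ++ (lC20 ++ (lC21 ++ (lC22 ++ (lC23 ++ (lC24 ++ (lC25 ++ (lC26 ++ (lC27 ++ (lC28 ++ (lC29 ++ (lC30 ++ (lC31 ++ (lC32 ++ (lC33 ++ (lC34 ++ (lC35 ++ (lC36 ++ (lC37 ++ (lC38 ++ (lC39 ++ (lC40 ++ (lC41 ++ (lC42 ++ (lC43 ++ (lC44 ++ (lC45 ++ (lC46 ++ (lC47)))))))))))))))))))))))))))))))))))))))))))))))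
theorem ea9 : Clf 9 el9 := .app aC0 (.app aC1 (.app aC2 (.app aC3 (.app aC4 (.app aC5 (.app aC6 (.app aC7 (.app aC8 (.app aC9 (.app aC10 (.app aC11 (.app aC12 (.app aC13 (.app aC14 (.app aC15 (.app aC16 (.app aC17 (.app aC18 (.app aC19 (.app aC20 (.app aC21 (.app aC22 (.app aC23 (.app aC24 (.app aC25 (.app aC26 (.app aC27 (.app aC28 (.app aC29 (.app aC30 (.app aC31 (.app aC32 (.app aC33 (.app aC34 (.app aC35 (.app aC36 (.app aC37 (.app aC38 (.app aC39 (.app aC40 (.app aC41 (.app aC42 (.app aC43 (.app aC44 (.app aC45 (.app aC46 (aC47)))))))))))))))))))))))))))))))))))))))))))))))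
noncomputable def xl9 : List ℕ := lPc0 ++ (lPc1 ++ (lPc2 ++ (lPc3 ++ (lHc1 ++ (lHc2 ++ (lHc3 ++ (lHc4 ++ (lHc5 ++ (lF9 ++ (lPd26))))))))))
theorem xa9 : Cms 9 I8 xl9 := .app aPc0 (.app aPc1 (.app aPc2 (.app aPc3 (.app aHc1.cms (.app aHc2.cms (.app aHc3.cms (.app aHc4.cms (.app aHc5.cms (.app aF9 (aPd26))))))))))
noncomputable def rl9 : List ℕ := (beta% delta% lq260d0090aa fun _ _ _ _ _ _ _ h _ _ k _ _ _ _ _ _ _ =>
 (h cc262.R<|h cc265.R<|h cc1674.R<|h cc1998.R<|h cc2029.R<|h cc2034.R<|h cc2911.R<|h cc3219.R<|h cc3222.R<|h cc3223.R<|h cc3224.R<|h cc3239.R<|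
 h cc3256.R<|h cc3326.R<|h cc3367.R<|h cc3371.R<|h cc3374.R<|h cc3376.R<|h cc3456.R<|h cc3462.R<|h cc3483.R<|h cc3491.R<|h cc3492.R<|h cc3358.R<|
 h cx0.R<|h cx1.R<|k))
theorem ra9 : Crs 9 I8 I9 (N.M.Ents9.map Prod.fst) rl9 :=
  .cons tc262 (fun _ h => List.map_subset _ (show N.M.E_eL454 ⊆ N.M.Ents9 from (List.subset_append_of_subset_right _ (List.subset_append_of_subset_right _ (List.subset_append_of_subset_right _ (List.subset_append_of_subset_right _ (List.subset_append_of_subset_right _ (List.subset_append_of_subset_right _ (List.subset_append_of_subset_right _ (List.subset_append_of_subset_right _ (List.subset_append_of_subset_right _ (List.subset_append_of_subset_right _ (List.subset_append_of_subset_right _ (List.subset_append_of_subset_right _ (List.subset_append_of_subset_right _ (List.subset_append_of_subset_right _ (List.subset_append_left _ _)))))))))))))))) h) ic262 <|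
  .cons tc265 (fun _ h => List.map_subset _ (show N.M.E_dS63 ⊆ N.M.Ents9 from (List.subset_append_of_subset_right _ (List.subset_append_of_subset_right _ (List.subset_append_of_subset_right _ (List.subset_append_of_subset_right _ (List.subset_append_of_subset_right _ (List.subset_append_of_subset_right _ (List.subset_append_of_subset_right _ (List.subset_append_of_subset_right _ (List.subset_append_of_subset_right _ (List.subset_append_of_subset_right _ (List.subset_append_of_subset_right _ (List.subset_append_of_subset_right _ (List.subset_append_of_subset_right _ (List.subset_append_of_subset_right _ (List.subset_append_of_subset_right _ (List.subset_append_of_subset_right _ (List.subset_append_of_subset_right _ (List.subset_append_of_subset_right _ (List.subset_append_of_subset_right _ (List.subset_append_of_subset_right _ (List.subset_append_of_subset_right _ (List.subset_append_of_subset_right _ (List.subset_append_left _ _)))))))))))))))))))))))) h) ic265 <|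
  .cons tc1674 (fun _ h => List.map_subset _ (show N.M.E_d9 ⊆ N.M.Ents9 from (List.subset_append_of_subset_right _ (List.subset_append_of_subset_right _ (List.subset_append_of_subset_right _ (List.subset_append_of_subset_right _ (List.subset_append_of_subset_right _ (List.subset_append_of_subset_right _ (List.subset_append_of_subset_right _ (List.subset_append_of_subset_right _ (List.subset_append_of_subset_right _ (List.subset_append_of_subset_right _ (List.subset_append_of_subset_right _ (List.subset_append_of_subset_right _ (List.subset_append_of_subset_right _ (List.subset_append_of_subset_right _ (List.subset_append_of_subset_right _ (List.subset_append_of_subset_right _ (List.subset_append_of_subset_right _ (List.subset_append_of_subset_right _ (List.subset_append_of_subset_right _ (List.subset_append_of_subset_right _ (List.subset_append_of_subset_right _ (List.subset_append_of_subset_right _ (List.subset_append_of_subset_right _ (List.subset_append_of_subset_right _ (List.subset_append_of_subset_right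 _ (List.Subset.refl _))))))))))))))))))))))))))) h) ic1674 <|
  .cons tc1998 (fun _ h => List.map_subset _ (show N.M.E_eWb3 ⊆ N.M.Ents9 from (List.subset_append_of_subset_right _ (List.subset_append_of_subset_right _ (List.subset_append_of_subset_right _ (List.subset_append_of_subset_right _ (List.subset_append_of_subset_right _ (List.subset_append_of_subset_right _ (List.subset_append_of_subset_right _ (List.subset_append_of_subset_right _ (List.subset_append_of_subset_right _ (List.subset_append_of_subset_right _ (List.subset_append_left _ _)))))))))))) h) ic1998 <|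
  .cons tc2029 (fun _ h => List.map_subset _ (show N.M.E_eL433 ⊆ N.M.Ents9 from (List.subset_append_of_subset_right _ (List.subset_append_of_subset_right _ (List.subset_append_of_subset_right _ (List.subset_append_of_subset_right _ (List.subset_append_of_subset_right _ (List.subset_append_of_subset_right _ (List.subset_append_of_subset_right _ (List.subset_append_of_subset_right _ (List.subset_append_of_subset_right _ (List.subset_append_of_subset_right _ (List.subset_append_of_subset_right _ (List.subset_append_of_subset_right _ (List.subset_append_left _ _)))))))))))))) h) ic2029 <|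
  .cons tc2034 (fun _ h => List.map_subset _ (show N.M.E_eL455 ⊆ N.M.Ents9 from (List.subset_append_of_subset_right _ (List.subset_append_of_subset_right _ (List.subset_append_of_subset_right _ (List.subset_append_of_subset_right _ (List.subset_append_of_subset_right _ (List.subset_append_of_subset_right _ (List.subset_append_of_subset_right _ (List.subset_append_of_subset_right _ (List.subset_append_of_subset_right _ (List.subset_append_of_subset_right _ (List.subset_append_of_subset_right _ (List.subset_append_of_subset_right _ (List.subset_append_of_subset_right _ (List.subset_append_of_subset_right _ (List.subset_append_of_subset_right _ (List.subset_append_left _ _))))))))))))))))) h) ic2034 <|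
  .cons tc2911 (fun _ h => List.map_subset _ (show N.M.E_eL450 ⊆ N.M.Ents9 from (List.subset_append_of_subset_right _ (List.subset_append_of_subset_right _ (List.subset_append_of_subset_right _ (List.subset_append_of_subset_right _ (List.subset_append_of_subset_right _ (List.subset_append_of_subset_right _ (List.subset_append_of_subset_right _ (List.subset_append_of_subset_right _ (List.subset_append_of_subset_right _ (List.subset_append_of_subset_right _ (List.subset_append_of_subset_right _ (List.subset_append_of_subset_right _ (List.subset_append_of_subset_right _ (List.subset_append_left _ _))))))))))))))) h) ic2911 <|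
  .cons tc3219 (fun _ h => List.map_subset _ (show N.M.E_eLd1 ⊆ N.M.Ents9 from (List.subset_append_of_subset_right _ (List.subset_append_left _ _))) h) ic3219 <|
  .cons tc3222 (fun _ h => List.map_subset _ (show N.M.E_eLc7 ⊆ N.M.Ents9 from (List.subset_append_left _ _)) h) ic3222 <|
  .cons tc3223 (fun _ h => List.map_subset _ (show N.M.E_eLe1 ⊆ N.M.Ents9 from (List.subset_append_of_subset_right _ (List.subset_append_of_subset_right _ (List.subset_append_of_subset_right _ (List.subset_append_of_subset_right _ (List.subset_append_left _ _)))))) h) ic3223 <|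
  .cons tc3224 (fun _ h => List.map_subset _ (show N.M.E_eLd7 ⊆ N.M.Ents9 from (List.subset_append_of_subset_right _ (List.subset_append_of_subset_right _ (List.subset_append_of_subset_right _ (List.subset_append_left _ _))))) h) ic3224 <|
  .cons tc3239 (fun _ h => List.map_subset _ (show N.M.E_dHS ⊆ N.M.Ents9 from (List.subset_append_of_subset_right _ (List.subset_append_of_subset_right _ (List.subset_append_of_subset_right _ (List.subset_append_of_subset_right _ (List.subset_append_of_subset_right _ (List.subset_append_of_subset_right _ (List.subset_append_of_subset_right _ (List.subset_append_of_subset_right _ (List.subset_append_of_subset_right _ (List.subset_append_of_subset_right _ (List.subset_append_of_subset_right _ (List.subset_append_of_subset_right _ (List.subset_append_of_subset_right _ (List.subset_append_of_subset_right _ (List.subset_append_of_subset_right _ (List.subset_append_of_subset_right _ (List.subset_append_of_subset_right _ (List.subset_append_of_subset_right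 _ (List.subset_append_of_subset_right _ (List.subset_append_of_subset_right _ (List.subset_append_left _ _)))))))))))))))))))))) h) ic3239 <|
  .cons tc3256 (fun _ h => List.map_subset _ (show N.M.E_eS440 ⊆ N.M.Ents9 from (List.subset_append_of_subset_right _ (List.subset_append_of_subset_right _ (List.subset_append_of_subset_right _ (List.subset_append_of_subset_right _ (List.subset_append_of_subset_right _ (List.subset_append_of_subset_right _ (List.subset_append_of_subset_right _ (List.subset_append_of_subset_right _ (List.subset_append_of_subset_right _ (List.subset_append_of_subset_right _ (List.subset_append_of_subset_right _ (List.subset_append_of_subset_right _ (List.subset_append_of_subset_right _ (List.subset_append_of_subset_right _ (List.subset_append_of_subset_right _ (List.subset_append_of_subset_right _ (List.subset_append_of_subset_right _ (List.subset_append_of_subset_right _ (List.subset_append_left _ _)))))))))))))))))))) h) ic3256 <|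
  .cons tc3326 (fun _ h => List.map_subset _ (show N.M.E_dON ⊆ N.M.Ents9 from (List.subset_append_of_subset_right _ (List.subset_append_of_subset_right _ (List.subset_append_of_subset_right _ (List.subset_append_of_subset_right _ (List.subset_append_of_subset_right _ (List.subset_append_of_subset_right _ (List.subset_append_of_subset_right _ (List.subset_append_of_subset_right _ (List.subset_append_of_subset_right _ (List.subset_append_of_subset_right _ (List.subset_append_of_subset_right _ (List.subset_append_of_subset_right _ (List.subset_append_of_subset_right _ (List.subset_append_of_subset_right _ (List.subset_append_of_subset_right _ (List.subset_append_of_subset_right _ (List.subset_append_of_subset_right _ (List.subset_append_of_subset_right _ (List.subset_append_of_subset_right _ (List.subset_append_left _ _))))))))))))))))))))) h) ic3326 <|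
  .cons tc3367 (fun _ h => List.map_subset _ (show N.M.E_dL53 ⊆ N.M.Ents9 from (List.subset_append_of_subset_right _ (List.subset_append_of_subset_right _ (List.subset_append_of_subset_right _ (List.subset_append_of_subset_right _ (List.subset_append_of_subset_right _ (List.subset_append_of_subset_right _ (List.subset_append_of_subset_right _ (List.subset_append_of_subset_right _ (List.subset_append_of_subset_right _ (List.subset_append_of_subset_right _ (List.subset_append_of_subset_right _ (List.subset_append_of_subset_right _ (List.subset_append_of_subset_right _ (List.subset_append_of_subset_right _ (List.subset_append_of_subset_right _ (List.subset_append_of_subset_right _ (List.subset_append_of_subset_right _ (List.subset_append_of_subset_right _ (List.subset_append_of_subset_right _ (List.subset_append_of_subset_right _ (List.subset_append_of_subset_right _ (List.subset_append_left _ _))))))))))))))))))))))) h) ic3367 <|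
  .cons tc3371 (fun _ h => List.map_subset _ (show N.M.E_eS492 ⊆ N.M.Ents9 from (List.subset_append_of_subset_right _ (List.subset_append_of_subset_right _ (List.subset_append_of_subset_right _ (List.subset_append_of_subset_right _ (List.subset_append_of_subset_right _ (List.subset_append_of_subset_right _ (List.subset_append_of_subset_right _ (List.subset_append_of_subset_right _ (List.subset_append_of_subset_right _ (List.subset_append_of_subset_right _ (List.subset_append_of_subset_right _ (List.subset_append_of_subset_right _ (List.subset_append_of_subset_right _ (List.subset_append_of_subset_right _ (List.subset_append_of_subset_right _ (List.subset_append_of_subset_right _ (List.subset_append_of_subset_right _ (List.subset_append_left _ _))))))))))))))))))) h) ic3371 <|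
  .cons tc3374 (fun _ h => List.map_subset _ (show N.M.E_eLf1 ⊆ N.M.Ents9 from (List.subset_append_of_subset_right _ (List.subset_append_of_subset_right _ (List.subset_append_of_subset_right _ (List.subset_append_of_subset_right _ (List.subset_append_of_subset_right _ (List.subset_append_of_subset_right _ (List.subset_append_of_subset_right _ (List.subset_append_of_subset_right _ (List.subset_append_left _ _)))))))))) h) ic3374 <|
  .cons tc3376 (fun _ h => List.map_subset _ (show N.M.E_eLe5 ⊆ N.M.Ents9 from (List.subset_append_of_subset_right _ (List.subset_append_of_subset_right _ (List.subset_append_of_subset_right _ (List.subset_append_of_subset_right _ (List.subset_append_of_subset_right _ (List.subset_append_of_subset_right _ (List.subset_append_left _ _)))))))) h) ic3376 <|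
  .cons tc3456 (fun _ h => List.map_subset _ (show N.M.E_eWc0 ⊆ N.M.Ents9 from (List.subset_append_of_subset_right _ (List.subset_append_of_subset_right _ (List.subset_append_of_subset_right _ (List.subset_append_of_subset_right _ (List.subset_append_of_subset_right _ (List.subset_append_of_subset_right _ (List.subset_append_of_subset_right _ (List.subset_append_of_subset_right _ (List.subset_append_of_subset_right _ (List.subset_append_of_subset_right _ (List.subset_append_of_subset_right _ (List.subset_append_left _ _))))))))))))) h) ic3456 <|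
  .cons tc3462 (fun _ h => List.map_subset _ (show N.M.E_eLd2 ⊆ N.M.Ents9 from (List.subset_append_of_subset_right _ (List.subset_append_of_subset_right _ (List.subset_append_left _ _)))) h) ic3462 <|
  .cons tc3483 (fun _ h => List.map_subset _ (show N.M.E_eLe2 ⊆ N.M.Ents9 from (List.subset_append_of_subset_right _ (List.subset_append_of_subset_right _ (List.subset_append_of_subset_right _ (List.subset_append_of_subset_right _ (List.subset_append_of_subset_right _ (List.subset_append_left _ _))))))) h) ic3483 <|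
  .cons tc3491 (fun _ h => List.map_subset _ (show N.M.E_eLf0 ⊆ N.M.Ents9 from (List.subset_append_of_subset_right _ (List.subset_append_of_subset_right _ (List.subset_append_of_subset_right _ (List.subset_append_of_subset_right _ (List.subset_append_of_subset_right _ (List.subset_append_of_subset_right _ (List.subset_append_of_subset_right _ (List.subset_append_left _ _))))))))) h) ic3491 <|
  .cons tc3492 (fun _ h => List.map_subset _ (show N.M.E_eLf2 ⊆ N.M.Ents9 from (List.subset_append_of_subset_right _ (List.subset_append_of_subset_right _ (List.subset_append_of_subset_right _ (List.subset_append_of_subset_right _ (List.subset_append_of_subset_right _ (List.subset_append_of_subset_right _ (List.subset_append_of_subset_right _ (List.subset_append_of_subset_right _ (List.subset_append_of_subset_right _ (List.subset_append_left _ _))))))))))) h) ic3492 <|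
  .cons tc3358 (fun _ h => List.map_subset _ (show N.M.E_dL47 ⊆ N.M.Ents9 from (List.subset_append_of_subset_right _ (List.subset_append_of_subset_right _ (List.subset_append_of_subset_right _ (List.subset_append_of_subset_right _ (List.subset_append_of_subset_right _ (List.subset_append_of_subset_right _ (List.subset_append_of_subset_right _ (List.subset_append_of_subset_right _ (List.subset_append_of_subset_right _ (List.subset_append_of_subset_right _ (List.subset_append_of_subset_right _ (List.subset_append_of_subset_right _ (List.subset_append_of_subset_right _ (List.subset_append_of_subset_right _ (List.subset_append_of_subset_right _ (List.subset_append_of_subset_right _ (List.subset_append_left _ _)))))))))))))))))) h) ic3358 <|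
  .cons tx0 (fun _ h => List.map_subset _ (show N.M.E_dW3 ⊆ N.M.Ents9 from (List.subset_append_of_subset_right _ (List.subset_append_of_subset_right _ (List.subset_append_of_subset_right _ (List.subset_append_of_subset_right _ (List.subset_append_of_subset_right _ (List.subset_append_of_subset_right _ (List.subset_append_of_subset_right _ (List.subset_append_of_subset_right _ (List.subset_append_of_subset_right _ (List.subset_append_of_subset_right _ (List.subset_append_of_subset_right _ (List.subset_append_of_subset_right _ (List.subset_append_of_subset_right _ (List.subset_append_of_subset_right _ (List.subset_append_of_subset_right _ (List.subset_append_of_subset_right _ (List.subset_append_of_subset_right _ (List.subset_append_of_subset_right _ (List.subset_append_of_subset_right _ (List.subset_append_of_subset_right _ (List.subset_append_of_subset_right _ (List.subset_append_of_subset_right _ (List.subset_append_of_subset_right _ (List.subset_append_of_subset_right _ (List.subset_append_left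 _ _)))))))))))))))))))))))))) h) ix0 <|
  .cons tx1 (fun _ h => List.map_subset _ (show N.M.E_dL38 ⊆ N.M.Ents9 from (List.subset_append_of_subset_right _ (List.subset_append_of_subset_right _ (List.subset_append_of_subset_right _ (List.subset_append_of_subset_right _ (List.subset_append_of_subset_right _ (List.subset_append_of_subset_right _ (List.subset_append_of_subset_right _ (List.subset_append_of_subset_right _ (List.subset_append_of_subset_right _ (List.subset_append_of_subset_right _ (List.subset_append_of_subset_right _ (List.subset_append_of_subset_right _ (List.subset_append_of_subset_right _ (List.subset_append_of_subset_right _ (List.subset_append_of_subset_right _ (List.subset_append_of_subset_right _ (List.subset_append_of_subset_right _ (List.subset_append_of_subset_right _ (List.subset_append_of_subset_right _ (List.subset_append_of_subset_right _ (List.subset_append_of_subset_right _ (List.subset_append_of_subset_right _ (List.subset_append_of_subset_right _ (List.subset_append_left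 _ _))))))))))))))))))))))))) h) ix1 <|
  .nil
theorem lev9 (hl : N.A.Hl 9 (N.C2.Mod.R1 :: N.C2.UT.R2 :: N.G.rels N.G.S9)) :
    N.Lev 9 (N.M.Ents9.map Prod.fst) ∧ N.LevI 9 I9 :=
  lev_of2 hl lev8.2 ea9 xa9 ra9 (by decide +kernel)

end Cfsg.Agent.FS.NB.D
end

-- part: S5288
section
set_option autoImplicit false
open Cfsg

namespace Cfsg.Agent.S5288

/-- Let S be a finite 2-group of order at most 2^9 and F a saturated fusion system over S. Then F is realizable: it is the fusion system of some finite group on a Sylow 2-subgroup. -/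
theorem result {Ω : Type*} [Group Ω] {S : Subgroup Ω} [Finite S]
    (hS : IsPGroup 2 ↥S) (F : Cfsg.FusionSystem S) (hF : F.IsSaturated 2) (hcard : Nat.card S ≤ 2 ^ 9) : F.IsRealizable 2 :=
  FS.N.A.final FS.NB.D.lev3.1 FS.NB.D.lev4.1 FS.NB.D.lev5.1 FS.NB.D.lev6.1 FS.NB.D.lev7.1 FS.NB.D.lev8.1
    (FS.NB.D.lev9 (FS.N.A.hl9 FS.N.G.has9 FS.N.Sw.swp9 FS.N.G.w16_S9)).1 hS F hF hcard

end Cfsg.Agent.S5288
end
end
end
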