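import Cfsg.Agent.H791.TwoDim
import Cfsg.Agent.Classification.TypeZ.Critical
import Cfsg.Agent.PLocal.ZJ
import Cfsg.Agent.Lib.NormalAbelian
import Cfsg.Agent.S0126
import Cfsg.Agent.H802.FusAlp
import Cfsg.Agent.H802.FusSub
import Cfsg.Statements.S5289
set_option linter.all false

-- part: H791/Section
section
/-!
# Automorphisms acting on a section of order `p ^ 2` (helper791)

`exists_diag_section`: the element-wise form of `exists_diag` for a group of automorphisms of `Q` acting on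
a section `E / K` of order `p ^ 2`, `E` and `K` characteristic in `Q`.
-/

set_option autoImplicit false

namespace Cfsg.Agent.H791

open Subgroup
open scoped commutatorElement

variable {Q : Type*} [Group Q]

theorem char_apply_mem {H : Subgroup Q} (hH : H.Characteristic) (α : MulAut Q) {x : Q} (hx : x ∈ H) :
    α x ∈ H :=
  characteristic_iff_le_comap.1 hH α hx

/-- the action on a section `E / K` -/
theorem section_mem {K : Subgroup Q} (hK : K.Characteristic) (α : MulAut Q) {x y : Q}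
    (h : x⁻¹ * y ∈ K) : (α x)⁻¹ * α y ∈ K := by
  rw [← map_inv, ← map_mul]
  exact char_apply_mem hK α h

/-- the automorphism induced on the section -/
def secAut (E K : Subgroup Q) (hE : E.Characteristic) (hK : K.Characteristic)
    [(K.subgroupOf E).Normal] : MulAut Q →* MulAut (E ⧸ K.subgroupOf E) where
  toFun α :=
    { toFun := Quotient.map' (fun x : E => (⟨α x, char_apply_mem hE α x.2⟩ : E)) (by
        intro x y hxy
        rw [QuotientGroup.leftRel_apply] at hxy ⊢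
        rw [mem_subgroupOf] at hxy ⊢
        exact section_mem hK α hxy)
      invFun := Quotient.map' (fun x : E => (⟨α⁻¹ x, char_apply_mem hE α⁻¹ x.2⟩ : E)) (by
        intro x y hxy
        rw [QuotientGroup.leftRel_apply] at hxy ⊢
        rw [mem_subgroupOf] at hxy ⊢
        exact section_mem hK α⁻¹ hxy)
      left_inv := by
        intro q
        induction q using Quotient.inductionOn' with
        | h x =>
          simp only [Quotient.map'_mk'']
          congr 1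
          exact Subtype.ext (MulAut.inv_apply_self _ _ _)
      right_inv := by
        intro q
        induction q using Quotient.inductionOn' with
        | h x =>
          simp only [Quotient.map'_mk'']
          congr 1
          exact Subtype.ext (MulAut.apply_inv_self _ _ _)
      map_mul' := by
        intro q r
        induction q using Quotient.inductionOn' with
        | h x =>
        induction r using Quotient.inductionOn' with
        | h y =>
          show Quotient.map' _ _ (Quotient.mk'' (x * y)) = _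
          simp only [Quotient.map'_mk'']
          show Quotient.mk'' _ = Quotient.mk'' _
          congr 1
          exact Subtype.ext (map_mul α _ _) }
  map_one' := by
    apply MulEquiv.ext
    intro q
    induction q using Quotient.inductionOn' with
    | h x => rfl
  map_mul' := by
    intro α β
    apply MulEquiv.ext
    intro q
    induction q using Quotient.inductionOn' with
    | h x => rfl

/-- `A` induces on the section `E / K` the group `SL(2, p)` in the sense of this file: `(a, b)` is a basis of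
`E / K`, all elements of `R` act as `a ↦ a`, `b ↦ a ^ i * b`, the elements `u ∈ R` and `v` act as the two
unit shears and the diagonal matrices of determinant 1 are induced by elements normalizing `R`. -/
def HasDiag (p : ℕ) (A : Subgroup (MulAut Q)) (R : Subgroup A) (E K : Subgroup Q) : Prop :=
  ∃ u ∈ R, ∃ (v : A), ∃ a ∈ E, ∃ b ∈ E, a ∉ K ∧ b ∉ zpowers a ⊔ K ∧
    (∀ x ∈ E, ∃ i j : ℤ, x⁻¹ * (a ^ i * b ^ j) ∈ K) ∧
    a⁻¹ * (u : MulAut Q) a ∈ K ∧ (a * b)⁻¹ * (u : MulAut Q) b ∈ K ∧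
    (a * b)⁻¹ * (v : MulAut Q) a ∈ K ∧ b⁻¹ * (v : MulAut Q) b ∈ K ∧ (∃ k, v ^ p ^ k = 1) ∧
    (∀ g ∈ R, a⁻¹ * (g : MulAut Q) a ∈ K ∧ ∃ i : ℤ, (a ^ i * b)⁻¹ * (g : MulAut Q) b ∈ K) ∧
    ∀ m n : ℤ, m * n ≡ 1 [ZMOD p] → ∃ h : A, (a ^ m)⁻¹ * (h : MulAut Q) a ∈ K ∧
      (b ^ n)⁻¹ * (h : MulAut Q) b ∈ K ∧ ∀ g ∈ R, h * g * h⁻¹ ∈ R

/-- **Action on a section of order `p ^ 2`**, element-wise. -/
theorem exists_diag_section {p : ℕ} [hp : Fact p.Prime] [Finite Q] (A : Subgroup (MulAut Q))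
    (I : Subgroup A) (hI : IsPGroup p I) (hIn : I.Normal)
    (hmax : ∀ N : Subgroup A, N.Normal → IsPGroup p N → N ≤ I) (R : Sylow p A)
    (hR : ¬ (R : Subgroup A) ≤ I) {E K : Subgroup Q} (hE : E.Characteristic) (hK : K.Characteristic)
    (hKE : K ≤ E) (hcard : Nat.card E = p ^ 2 * Nat.card K) (hcomm : ∀ x ∈ E, ∀ y ∈ E, ⁅x, y⁆ ∈ K)
    (hpow : ∀ x ∈ E, x ^ p ∈ K)
    (hfaith : ∀ α ∈ A, (orderOf α).Coprime p → (∀ x ∈ E, x⁻¹ * α x ∈ K) → α = 1) :
    (∀ g : A, g ∈ I ↔ ∀ x ∈ E, x⁻¹ * (g : MulAut Q) x ∈ K) ∧ HasDiag p A R E K := by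
  have hn : (K.subgroupOf E).Normal := by
    refine ⟨fun x hx y => ?_⟩
    rw [mem_subgroupOf] at hx ⊢
    have h1 := K.mul_mem (hcomm y y.2 x x.2) hx
    have h2 : ⁅(y : Q), (x : Q)⁆ * x = ((y * x * y⁻¹ : E) : Q) := by
      push_cast
      rw [commutatorElement_def]
      group
    rwa [h2] at h1
  set V := E ⧸ K.subgroupOf E with hVdef
  have hmk : ∀ x y : E, (QuotientGroup.mk x : V) = QuotientGroup.mk y ↔ (x : Q)⁻¹ * y ∈ K := by
    intro x y
    rw [QuotientGroup.eq, mem_subgroupOf]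
    rfl
  let _ : CommGroup V :=
    { (inferInstance : Group V) with
      mul_comm := by
        intro q r
        obtain ⟨x, rfl⟩ := QuotientGroup.mk_surjective q
        obtain ⟨y, rfl⟩ := QuotientGroup.mk_surjective r
        rw [← QuotientGroup.mk_mul, ← QuotientGroup.mk_mul, hmk]
        have h1 := hcomm _ (E.inv_mem y.2) _ (E.inv_mem x.2)
        have h2 : ⁅(y : Q)⁻¹, (x : Q)⁻¹⁆ = ((x * y : E) : Q)⁻¹ * ((y * x : E) : Q) := by
          push_cast
          rw [commutatorElement_def]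
          group
        rwa [h2] at h1 }
  have hV : Nat.card V = p ^ 2 := by
    have h1 : Nat.card E = Nat.card V * Nat.card (K.subgroupOf E) :=
      card_eq_card_quotient_mul_card_subgroup _
    have h2 : Nat.card (K.subgroupOf E) = Nat.card K :=
      Nat.card_congr (subgroupOfEquivOfLe hKE).toEquiv
    rw [h2, hcard] at h1
    exact (Nat.eq_of_mul_eq_mul_right Nat.card_pos h1).symm
  have hVp : ∀ v : V, v ^ p = 1 := by
    intro v
    obtain ⟨x, rfl⟩ := QuotientGroup.mk_surjective v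
    rw [← QuotientGroup.mk_pow, QuotientGroup.eq_one_iff, mem_subgroupOf]
    exact hpow x x.2
  let ρ : A →* MulAut V := (secAut E K hE hK).comp A.subtype
  have hρ : ∀ (g : A) (x : E), ρ g (QuotientGroup.mk x) =
      QuotientGroup.mk (⟨(g : MulAut Q) x, char_apply_mem hE _ x.2⟩ : E) := fun g x => rfl
  have hkermem : ∀ g : A, g ∈ ρ.ker ↔ ∀ x ∈ E, x⁻¹ * (g : MulAut Q) x ∈ K := by
    intro g
    rw [MonoidHom.mem_ker]
    constructor
    · intro h x hx
      have h1 : ρ g (QuotientGroup.mk (⟨x, hx⟩ : E)) = QuotientGroup.mk (⟨x, hx⟩ : E) := by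
        rw [h, MulAut.one_apply]
      rw [hρ] at h1
      exact (hmk _ _).1 h1.symm
    · intro h
      apply MulEquiv.ext
      intro q
      obtain ⟨x, rfl⟩ := QuotientGroup.mk_surjective q
      rw [hρ, MulAut.one_apply]
      exact ((hmk _ _).2 (h x x.2)).symm
  have hker : IsPGroup p ρ.ker := by
    rw [IsPGroup.iff_card]
    have h0 : Nat.card ρ.ker ≠ 0 := Nat.card_pos.ne'
    refine ⟨(Nat.card ρ.ker).primeFactorsList.length, Nat.eq_prime_pow_of_unique_prime_dvd h0 ?_⟩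
    intro q hq hqd
    by_contra hne
    have : Fact q.Prime := ⟨hq⟩
    obtain ⟨g, hg⟩ := exists_prime_orderOf_dvd_card' q hqd
    have h1 : orderOf ((g : A) : MulAut Q) = q := by
      rw [orderOf_submonoid, orderOf_submonoid, hg]
    have h2 : ((g : A) : MulAut Q) = 1 := by
      refine hfaith _ (g : A).2 ?_ ((hkermem _).1 g.2)
      rw [h1]
      exact (Nat.coprime_primes hq hp.out).2 hne
    rw [h2, orderOf_one] at h1
    exact hq.one_lt.ne h1
  obtain ⟨hkerI, u, huR, v, a, b, ha, hb, hua, hub, hva, hvb, hvp, hRR, hdiag⟩ :=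
    exists_diag hV hVp ρ hker I hI hIn hmax R hR
  refine ⟨fun g => by rw [← hkerI]; exact hkermem g, u, huR, v, ?_⟩
  obtain ⟨a, rfl⟩ := QuotientGroup.mk_surjective a
  obtain ⟨b, rfl⟩ := QuotientGroup.mk_surjective b
  have hmkz : ∀ (x : E) (i : ℤ), (QuotientGroup.mk x : V) ^ i = QuotientGroup.mk (x ^ i) :=
    fun x i => rfl
  have hmkm : ∀ (x y : E), (QuotientGroup.mk x : V) * QuotientGroup.mk y = QuotientGroup.mk (x * y) :=
    fun x y => rfl
  refine ⟨a, a.2, b, b.2, ?_, ?_, ?_, ?_, ?_, ?_, ?_, hvp, ?_, ?_⟩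
  · intro h
    apply ha
    rw [QuotientGroup.eq_one_iff, mem_subgroupOf]
    exact h
  · intro h
    apply hb
    have hKn : K.Normal := normal_of_characteristic K
    obtain ⟨y, ⟨i, hi⟩, k, hk, hyk⟩ := mem_sup_of_normal_right.1 h
    have hi' : (a : Q) ^ i = y := hi
    refine ⟨i, ?_⟩
    show (QuotientGroup.mk a : V) ^ i = QuotientGroup.mk b
    rw [hmkz, hmk]
    have : ((a ^ i : E) : Q)⁻¹ * b = k := by
      rw [← hyk, ← hi']
      push_cast
      group
    rw [this]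
    exact hk
  · intro x hx
    obtain ⟨i, j, hij⟩ := exists_coord hV hVp ha hb (QuotientGroup.mk (⟨x, hx⟩ : E))
    rw [hmkz, hmkz, hmkm, hmk] at hij
    exact ⟨i, j, hij⟩
  · rw [hρ] at hua
    exact (hmk _ _).1 hua.symm
  · rw [hρ, hmkm] at hub
    exact (hmk _ _).1 hub.symm
  · rw [hρ, hmkm] at hva
    exact (hmk _ _).1 hva.symm
  · rw [hρ] at hvb
    exact (hmk _ _).1 hvb.symm
  · intro g hg
    obtain ⟨h1, i, h2⟩ := hRR g hg
    rw [hρ] at h1
    rw [hρ, hmkz, hmkm] at h2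
    exact ⟨(hmk _ _).1 h1.symm, i, (hmk _ _).1 h2.symm⟩
  · intro m n hmn
    obtain ⟨h, h1, h2, h3⟩ := hdiag m n hmn
    rw [hρ, hmkz] at h1 h2
    exact ⟨h, (hmk _ _).1 h1.symm, (hmk _ _).1 h2.symm, h3⟩

end Cfsg.Agent.H791
end

-- part: H791/RankTwo
section
/-!
# `p`-groups of rank at most 2 with a large group of automorphisms (helper791)
-/

set_option autoImplicit false

namespace Cfsg.Agent.H791

open Subgroup
open scoped commutatorElement

variable {p : ℕ} [hp : Fact p.Prime] {R : Type*} [Group R]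

/-- the centre of `H`, as a subgroup of the whole group -/
def zOf (H : Subgroup R) : Subgroup R := H ⊓ centralizer (H : Set R)

theorem mem_zOf {H : Subgroup R} {x : R} : x ∈ zOf H ↔ x ∈ H ∧ ∀ y ∈ H, y * x = x * y := by
  rw [zOf, mem_inf, mem_centralizer_iff]
  exact Iff.rfl

theorem zOf_le (H : Subgroup R) : zOf H ≤ H := inf_le_left

theorem zOf_char {H : Subgroup R} (hH : H.Characteristic) : (zOf H).Characteristic := by
  rw [characteristic_iff_le_comap]
  intro α x hx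
  rw [mem_comap]
  rw [mem_zOf] at hx ⊢
  refine ⟨char_apply_mem hH α hx.1, fun y hy => ?_⟩
  have h1 := hx.2 (α⁻¹ y) (char_apply_mem hH α⁻¹ hy)
  have h2 := congrArg α h1
  rw [map_mul, map_mul, MulAut.apply_inv_self] at h2
  exact h2

omit hp in
theorem mem_of_comm [Finite R] (hrk : ∀ E : Subgroup R, IsElementaryAbelian p E → Nat.card E ≤ p ^ 2)
    {E : Subgroup R} (hE : IsElementaryAbelian p E) (hc : Nat.card E = p ^ 2) {t : R}
    (ht : t ^ p = 1) (hcomm : ∀ a ∈ E, a * t = t * a) : t ∈ E := by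
  by_contra h
  have h1 := hrk _ (Cfsg.Agent.PLocal.ZJ.isElementaryAbelian_sup_zpowers hE ht hcomm)
  have h2 : E < E ⊔ zpowers t := by
    refine lt_of_le_of_ne le_sup_left fun heq => h ?_
    rw [heq]
    exact (le_sup_right : zpowers t ≤ _) (mem_zpowers t)
  have h3 : Nat.card E < Nat.card (E ⊔ zpowers t : Subgroup R) :=
    Set.ncard_lt_ncard h2 (Set.toFinite _)
  omega

/-- The structure of a nonabelian subgroup of class 2 and exponent `p` in a group of rank at most 2. -/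
theorem card_of_class_two [Finite R] (hR : IsPGroup p R)
    (hrk : ∀ E : Subgroup R, IsElementaryAbelian p E → Nat.card E ≤ p ^ 2) {H : Subgroup R}
    (hexp : ∀ x ∈ H, x ^ p = 1) (hcl : ∀ x ∈ H, ∀ y ∈ H, ⁅x, y⁆ ∈ zOf H)
    (hna : ∃ x ∈ H, ∃ y ∈ H, x * y ≠ y * x) : Nat.card (zOf H) = p ∧ Nat.card H = p ^ 3 := by
  have hZel : IsElementaryAbelian p (zOf H) := by
    refine ⟨⟨⟨fun x y => Subtype.ext ?_⟩⟩, fun x hx => hexp x (zOf_le H hx)⟩
    exact (mem_zOf.1 y.2).2 x (zOf_le H x.2)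
  obtain ⟨x, hx, y, hy, hxy⟩ := hna
  have hxZ : x ∉ zOf H := fun h => hxy ((mem_zOf.1 h).2 y hy).symm
  have hcne : ⁅x, y⁆ ≠ 1 := by
    intro h
    exact hxy (commutatorElement_eq_one_iff_mul_comm.1 h)
  obtain ⟨k, hk⟩ := IsPGroup.iff_card.1 (hR.to_subgroup (zOf H))
  have hk2 : k ≤ 2 := by
    have := hrk _ hZel
    rw [hk] at this
    exact (Nat.pow_le_pow_iff_right hp.out.one_lt).1 this
  have hk0 : k ≠ 0 := by
    rintro rfl
    rw [pow_zero, Subgroup.card_eq_one] at hk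
    apply hcne
    have := hcl x hx y hy
    rwa [hk, mem_bot] at this
  have hkne : k ≠ 2 := by
    rintro rfl
    exact hxZ (mem_of_comm hrk hZel hk (hexp x hx) fun a ha => ((mem_zOf.1 ha).2 x hx).symm)
  have hk1 : k = 1 := by omega
  subst hk1
  rw [pow_one] at hk
  refine ⟨hk, ?_⟩
  -- the subgroup `E = Z ⟨x⟩`
  have hEel := Cfsg.Agent.PLocal.ZJ.isElementaryAbelian_sup_zpowers hZel (hexp x hx)
    (fun a ha => ((mem_zOf.1 ha).2 x hx).symm)
  set E : Subgroup R := zOf H ⊔ zpowers x with hE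
  have hEle : E ≤ H := sup_le (zOf_le H) (by rwa [zpowers_le])
  have hxE : x ∈ E := (le_sup_right : zpowers x ≤ _) (mem_zpowers x)
  have hZE : zOf H < E := by
    refine lt_of_le_of_ne le_sup_left fun heq => hxZ ?_
    rw [heq]
    exact hxE
  have hcardE : Nat.card E = p ^ 2 := by
    have h1 : Nat.card (zOf H) < Nat.card E := Set.ncard_lt_ncard hZE (Set.toFinite _)
    obtain ⟨l, hl⟩ := IsPGroup.iff_card.1 (hR.to_subgroup E)
    have h2 := hrk _ hEel
    rw [hl] at h1 h2 ⊢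
    rw [hk] at h1
    have h3 : l ≤ 2 := (Nat.pow_le_pow_iff_right hp.out.one_lt).1 h2
    have h4 : 1 < l := by
      rw [← Nat.pow_lt_pow_iff_right hp.out.one_lt]
      rwa [pow_one]
    have h5 : l = 2 := by omega
    rw [h5]
  -- the homomorphism `y ↦ ⁅y, x⁆`
  have hcent : ∀ c ∈ zOf H, ∀ z ∈ H, z * c = c * z := fun c hc z hz => (mem_zOf.1 hc).2 z hz
  let f : H →* zOf H :=
    { toFun := fun y => ⟨⁅(y : R), x⁆, hcl y y.2 x hx⟩
      map_one' := Subtype.ext (by simp)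
      map_mul' := fun y z => Subtype.ext (by
        show ⁅(y : R) * z, x⁆ = ⁅(y : R), x⁆ * ⁅(z : R), x⁆
        have h1 : ⁅(y : R) * z, x⁆ = (y : R) * ⁅(z : R), x⁆ * (y : R)⁻¹ * ⁅(y : R), x⁆ := by
          simp only [commutatorElement_def]
          group
        rw [h1, hcent _ (hcl z z.2 x hx) y y.2, mul_inv_cancel_right]
        exact hcent _ (hcl y y.2 x hx) _ (zOf_le H (hcl z z.2 x hx))) }
  have hker : Nat.card f.ker ≤ p ^ 2 := by
    rw [← hcardE]
    refine Nat.card_le_card_of_injective (fun y : f.ker => (⟨(y : H), ?_⟩ : E)) ?_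
    · have h1 : f (y : H) = 1 := y.2
      have h2 : ⁅((y : H) : R), x⁆ = 1 := congrArg Subtype.val h1
      have h3 := commutatorElement_eq_one_iff_mul_comm.1 h2
      refine mem_of_comm hrk hEel hcardE (hexp _ (y : H).2) fun a ha => ?_
      -- `y` commutes with `Z` and `x`
      have h4 : E ≤ centralizer {((y : H) : R)} := by
        refine sup_le ?_ ?_
        · intro c hc
          rw [mem_centralizer_singleton_iff]
          exact (hcent c hc _ (y : H).2).symm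
        · rw [zpowers_le, mem_centralizer_singleton_iff]
          exact h3.symm
      exact mem_centralizer_singleton_iff.1 (h4 ha)
    · intro y z hyz
      have := congrArg Subtype.val hyz
      exact Subtype.ext (Subtype.ext this)
  have hrange : Nat.card f.range ≤ p := by
    rw [← hk]
    exact card_le_card_group f.range
  have hcard : Nat.card H ≤ p ^ 3 := by
    have h1 : Nat.card H = Nat.card f.ker * Nat.card f.range := by
      rw [card_eq_card_quotient_mul_card_subgroup f.ker, mul_comm]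
      congr 1
      exact Nat.card_congr (QuotientGroup.quotientKerEquivRange f).toEquiv
    rw [h1]
    calc Nat.card f.ker * Nat.card f.range ≤ p ^ 2 * p := Nat.mul_le_mul hker hrange
      _ = p ^ 3 := by ring
  have hlt : Nat.card E < Nat.card H := by
    have hne : E ≠ H := by
      intro heq
      have hyE : y ∈ E := by rwa [heq]
      have := hEel.1.1.1 ⟨x, hxE⟩ ⟨y, hyE⟩
      exact hxy (congrArg Subtype.val this)
    have hElt : E < H := lt_of_le_of_ne hEle hne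
    exact Set.ncard_lt_ncard hElt (Set.toFinite _)
  obtain ⟨l, hl⟩ := IsPGroup.iff_card.1 (hR.to_subgroup H)
  rw [hl, hcardE] at hlt
  rw [hl] at hcard ⊢
  have h3 : l ≤ 3 := (Nat.pow_le_pow_iff_right hp.out.one_lt).1 hcard
  have h4 : 2 < l := (Nat.pow_lt_pow_iff_right hp.out.one_lt).1 hlt
  have h5 : l = 3 := by omega
  rw [h5]

/-- commutators with central commutator: `⁅x ^ i, y⁆ = ⁅x, y⁆ ^ i` -/
theorem comm_zpow_left {G : Type*} [Group G] {x y : G} (h : Commute ⁅x, y⁆ x) (i : ℤ) :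
    ⁅x ^ i, y⁆ = ⁅x, y⁆ ^ i := by
  have h1 : y * x * y⁻¹ = ⁅x, y⁆⁻¹ * x := by
    rw [commutatorElement_def]
    group
  have h2 : y * x ^ i * y⁻¹ = ⁅x, y⁆⁻¹ ^ i * x ^ i := by
    rw [← (h.inv_left).mul_zpow, ← h1, conj_zpow]
  have h3 : ⁅x ^ i, y⁆ = x ^ i * (y * x ^ i * y⁻¹)⁻¹ := by
    rw [commutatorElement_def]
    group
  rw [h3, h2, mul_inv_rev, mul_inv_cancel_left, inv_zpow, inv_inv]

/-- commutators with central commutator: `⁅x, y ^ j⁆ = ⁅x, y⁆ ^ j` -/
theorem comm_zpow_right {G : Type*} [Group G] {x y : G} (h : Commute ⁅x, y⁆ y) (j : ℤ) :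
    ⁅x, y ^ j⁆ = ⁅x, y⁆ ^ j := by
  have h1 : x * y * x⁻¹ = ⁅x, y⁆ * y := by
    rw [commutatorElement_def]
    group
  have h2 : x * y ^ j * x⁻¹ = ⁅x, y⁆ ^ j * y ^ j := by
    rw [← h.mul_zpow, ← h1, conj_zpow]
  rw [commutatorElement_def, h2, mul_inv_cancel_right]

/-- generation of `H` by two noncommuting elements and the centre -/
theorem le_of_generators [Finite R] (hR : IsPGroup p R)
    {H : Subgroup R} (hZ : Nat.card (zOf H) = p) (hH : Nat.card H = p ^ 3)
    {x y : R} (hx : x ∈ H) (hy : y ∈ H) (hxy : x * y ≠ y * x) {L : Subgroup R} (h1 : zOf H ≤ L)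
    (h2 : x ∈ L) (h3 : y ∈ L) : H ≤ L := by
  have hlt : ∀ {A B : Subgroup R}, A < B → p * Nat.card A ≤ Nat.card B := by
    intro A B hAB
    obtain ⟨l, hl⟩ := IsPGroup.iff_card.1 (hR.to_subgroup A)
    obtain ⟨k, hk⟩ := IsPGroup.iff_card.1 (hR.to_subgroup B)
    have h4 : Nat.card A < Nat.card B := Set.ncard_lt_ncard hAB (Set.toFinite _)
    rw [hl, hk] at h4 ⊢
    have h5 := (Nat.pow_lt_pow_iff_right hp.out.one_lt).1 h4
    rw [← pow_succ']
    exact Nat.pow_le_pow_right hp.out.pos (by omega)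
  have hxZ : x ∉ zOf H := fun h => hxy ((mem_zOf.1 h).2 y hy).symm
  have h4 : zOf H < H ⊓ L ⊓ centralizer {x} := by
    refine lt_of_le_of_ne (le_inf (le_inf (zOf_le H) h1) ?_) ?_
    · intro c hc
      rw [mem_centralizer_singleton_iff]
      exact ((mem_zOf.1 hc).2 x hx).symm
    · intro heq
      apply hxZ
      rw [heq]
      exact ⟨⟨hx, h2⟩, mem_centralizer_singleton_iff.2 rfl⟩
  have h5 : H ⊓ L ⊓ centralizer {x} < H ⊓ L := by
    refine lt_of_le_of_ne inf_le_left ?_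
    intro heq
    have : y ∈ H ⊓ L ⊓ centralizer {x} := by
      rw [heq]
      exact ⟨hy, h3⟩
    exact hxy (mem_centralizer_singleton_iff.1 this.2).symm
  have h6 := hlt h4
  have h7 := hlt h5
  have h8 : Nat.card H ≤ Nat.card (H ⊓ L : Subgroup R) := by
    rw [hH]
    rw [hZ] at h6
    calc p ^ 3 = p * (p * p) := by ring
      _ ≤ p * Nat.card (H ⊓ L ⊓ centralizer {x} : Subgroup R) := Nat.mul_le_mul_left _ h6
      _ ≤ _ := h7
  have h9 := eq_of_le_of_card_ge inf_le_left h8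
  rw [← h9]
  exact inf_le_right

/-- every element of a subgroup of order `p` is a power of any nontrivial element -/
theorem exists_zpow_of_card_prime {Z : Subgroup R} (hZ : Nat.card Z = p) {z : R} (hz : z ∈ Z)
    (hz1 : z ≠ 1) {y : R} (hy : y ∈ Z) : ∃ i : ℤ, y = z ^ i := by
  have h1 : (⟨z, hz⟩ : Z) ≠ 1 := fun h => hz1 (congrArg Subtype.val h)
  have h2 := mem_zpowers_of_prime_card hZ (g := ⟨z, hz⟩) (g' := ⟨y, hy⟩) h1
  obtain ⟨i, hi⟩ := h2
  exact ⟨i, (congrArg Subtype.val hi).symm⟩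

/-- an automorphism acting trivially on `H / Z(H)` fixes `Z(H)` -/
theorem fix_center {H : Subgroup R} (hZ : Nat.card (zOf H) = p)
    (hcl : ∀ x ∈ H, ∀ y ∈ H, ⁅x, y⁆ ∈ zOf H) (hna : ∃ x ∈ H, ∃ y ∈ H, x * y ≠ y * x)
    {α : MulAut R} (hα : ∀ x ∈ H, x⁻¹ * α x ∈ zOf H) {z : R} (hz : z ∈ zOf H) : α z = z := by
  obtain ⟨x, hx, y, hy, hxy⟩ := hna
  have hcne : ⁅x, y⁆ ≠ 1 := fun h => hxy (commutatorElement_eq_one_iff_mul_comm.1 h)
  have hc := hcl x hx y hy
  have h1 : ∀ c ∈ zOf H, ∀ d ∈ H, d * c = c * d := fun c hc d hd => (mem_zOf.1 hc).2 d hd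
  obtain ⟨c, hc', hxc⟩ : ∃ c ∈ zOf H, α x = x * c := ⟨_, hα x hx, by group⟩
  obtain ⟨d, hd', hyd⟩ : ∃ d ∈ zOf H, α y = y * d := ⟨_, hα y hy, by group⟩
  have h2 : α ⁅x, y⁆ = ⁅x, y⁆ := by
    rw [map_commutatorElement, hxc, hyd]
    have hcx : Commute x c := h1 c hc' x hx
    have hcy : Commute y c := h1 c hc' y hy
    have hdx : Commute x d := h1 d hd' x hx
    have hdy : Commute y d := h1 d hd' y hy
    have hcd : Commute c d := h1 d hd' c (zOf_le H hc')
    simp only [commutatorElement_def, mul_inv_rev]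
    calc x * c * (y * d) * (c⁻¹ * x⁻¹) * (d⁻¹ * y⁻¹)
        = x * (c * y) * d * c⁻¹ * x⁻¹ * d⁻¹ * y⁻¹ := by group
      _ = x * (y * c) * d * c⁻¹ * x⁻¹ * d⁻¹ * y⁻¹ := by rw [hcy.eq]
      _ = x * y * (c * d) * c⁻¹ * x⁻¹ * d⁻¹ * y⁻¹ := by group
      _ = x * y * (d * c) * c⁻¹ * x⁻¹ * d⁻¹ * y⁻¹ := by rw [hcd.eq]
      _ = x * y * (d * x⁻¹) * d⁻¹ * y⁻¹ := by group
      _ = x * y * (x⁻¹ * d) * d⁻¹ * y⁻¹ := by rw [hdx.inv_left.eq]
      _ = x * y * x⁻¹ * y⁻¹ := by group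
  obtain ⟨i, rfl⟩ := exists_zpow_of_card_prime hZ hc hcne hz
  rw [map_zpow, h2]

/-- an automorphism acting trivially on `H / Z(H)` is inner on `H` -/
theorem exists_inner [Finite R] (hR : IsPGroup p R) {H : Subgroup R}
    (hZ : Nat.card (zOf H) = p) (hHc : Nat.card H = p ^ 3)
    (hcl : ∀ x ∈ H, ∀ y ∈ H, ⁅x, y⁆ ∈ zOf H) (hna : ∃ x ∈ H, ∃ y ∈ H, x * y ≠ y * x)
    {α : MulAut R} (hα : ∀ x ∈ H, x⁻¹ * α x ∈ zOf H) : ∃ h ∈ H, ∀ x ∈ H, α x = h * x * h⁻¹ := by
  have hfix := fun z hz => fix_center hZ hcl hna hα (z := z) hz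
  obtain ⟨x, hx, y, hy, hxy⟩ := hna
  have hcne : ⁅x, y⁆ ≠ 1 := fun h => hxy (commutatorElement_eq_one_iff_mul_comm.1 h)
  have hc := hcl x hx y hy
  have h1 : ∀ c ∈ zOf H, ∀ d ∈ H, Commute d c := fun c hc d hd => (mem_zOf.1 hc).2 d hd
  obtain ⟨i, hi⟩ := exists_zpow_of_card_prime hZ hc hcne (hα x hx)
  obtain ⟨j, hj⟩ := exists_zpow_of_card_prime hZ hc hcne (hα y hy)
  set z := ⁅x, y⁆ with hz
  have hzx : Commute z x := (h1 z hc x hx).symm
  have hzy : Commute z y := (h1 z hc y hy).symm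
  have hi' : α x = x * z ^ i := by rw [← hi]; group
  have hj' : α y = y * z ^ j := by rw [← hj]; group
  -- conjugation by powers
  have hyx : ∀ t : ℤ, y ^ t * x * (y ^ t)⁻¹ = x * z ^ (-t) := by
    intro t
    have h2 : ⁅x, y ^ t⁆ = z ^ t := comm_zpow_right hzy t
    have h3 : y ^ t * x * (y ^ t)⁻¹ = ⁅x, y ^ t⁆⁻¹ * x := by
      rw [commutatorElement_def]
      group
    rw [h3, h2, ← zpow_neg]
    exact (hzx.zpow_left (-t)).eq
  have hxy' : ∀ t : ℤ, x ^ t * y * (x ^ t)⁻¹ = y * z ^ t := by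
    intro t
    have h2 : ⁅x ^ t, y⁆ = z ^ t := comm_zpow_left hzx t
    have h3 : x ^ t * y * (x ^ t)⁻¹ = ⁅x ^ t, y⁆ * y := by
      rw [commutatorElement_def]
      group
    rw [h3, h2]
    exact (hzy.zpow_left t).eq
  set h := x ^ j * y ^ (-i) with hh
  have hhH : h ∈ H := mul_mem (zpow_mem hx _) (zpow_mem hy _)
  refine ⟨h, hhH, ?_⟩
  have hL := le_of_generators hR hZ hHc hx hy hxy
    (L := MonoidHom.eqLocus α.toMonoidHom (MulAut.conj h).toMonoidHom) ?_ ?_ ?_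
  · intro w hw
    exact hL hw
  · intro w hw
    show α w = h * w * h⁻¹
    rw [hfix w hw, (h1 w hw h hhH).eq, mul_inv_cancel_right]
  · show α x = h * x * h⁻¹
    have h2 : h * x * h⁻¹ = x ^ j * (y ^ (-i) * x * (y ^ (-i))⁻¹) * (x ^ j)⁻¹ := by
      rw [hh]
      group
    rw [h2, hyx, neg_neg, hi']
    have h3 : Commute (x ^ j) (x * z ^ i) :=
      ((Commute.refl x).zpow_left j).mul_right ((hzx.zpow_left i).symm.zpow_left j)
    rw [h3.eq, mul_inv_cancel_right]
  · show α y = h * y * h⁻¹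
    have h2 : h * y * h⁻¹ = x ^ j * (y ^ (-i) * y * (y ^ (-i))⁻¹) * (x ^ j)⁻¹ := by
      rw [hh]
      group
    have h3 : y ^ (-i) * y * (y ^ (-i))⁻¹ = y := by group
    rw [h2, h3, hxy', hj']

/-- a fixed-point-free involutory automorphism inverts every element -/
theorem inv_of_fpf [Finite R] {t : MulAut R} (ht : t * t = 1) (hfix : ∀ x, t x = x → x = 1) (x : R) :
    t x = x⁻¹ := by
  have h1 : MonoidHom.FixedPointFree t.toMonoidHom := fun x hx => hfix x hx
  have h2 : Function.Involutive t.toMonoidHom := fun x => by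
    show t (t x) = x
    rw [← MulAut.mul_apply, ht, MulAut.one_apply]
  exact congrFun (h1.coe_eq_inv_of_involutive h2) x

/-- a `p`-power-order automorphism acts trivially on an invariant subgroup of order dividing `p` -/
theorem fix_of_card_le {H : Subgroup R} [Finite R] (hR : IsPGroup p R) (hexp : ∀ x ∈ H, x ^ p = 1)
    (hc : Nat.card H ≤ p)
    {g : MulAut R} (hg : ∀ x ∈ H, g x ∈ H) {k : ℕ} (hk : g ^ p ^ k = 1) {x : R} (hx : x ∈ H) :
    g x = x := by
  by_cases hx1 : x = 1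
  · rw [hx1, map_one]
  have hcard : Nat.card H = p := by
    obtain ⟨l, hl⟩ := IsPGroup.iff_card.1 (hR.to_subgroup H)
    have h1 : l ≤ 1 := by
      rw [hl] at hc
      rw [← Nat.pow_le_pow_iff_right hp.out.one_lt]
      rwa [pow_one]
    have h2 : l ≠ 0 := by
      rintro rfl
      rw [pow_zero, Subgroup.card_eq_one] at hl
      exact hx1 (by rwa [hl, mem_bot] at hx)
    have h3 : l = 1 := by omega
    rw [hl, h3, pow_one]
  obtain ⟨j, hj⟩ := exists_zpow_of_card_prime hcard hx hx1 (hg x hx)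
  have key : ∀ n : ℕ, (g ^ n) x = x ^ (j ^ n) := by
    intro n
    induction n with
    | zero => simp
    | succ n ih => rw [pow_succ', MulAut.mul_apply, ih, map_zpow, hj, ← zpow_mul, pow_succ']
  have h1 := key (p ^ k)
  rw [hk, MulAut.one_apply] at h1
  have h2 : j ^ p ^ k ≡ 1 [ZMOD p] := by
    refine modEq_of_zpow_eq (hexp x hx) hx1 ?_
    rw [← h1, zpow_one]
  have h3 : j ^ p ^ k ≡ j [ZMOD p] := by
    rw [← ZMod.intCast_eq_intCast_iff]
    push_cast
    rw [ZMod.pow_card_pow]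
  rw [hj, zpow_congr (hexp x hx) (h3.symm.trans h2), zpow_one]

/-- Case 1 of `structure_of_rank_two`: `R` is abelian with `Ω_1(R) = E` of order `p ^ 2`, inverted by some element of
`A`, and `A` is faithful on `E`. -/
def CaseOne (p : ℕ) (A : Subgroup (MulAut R)) (P : Subgroup A) : Prop :=
  ∃ E : Subgroup R, (∀ x, x ∈ E ↔ x ^ p = 1) ∧ E.Characteristic ∧ Nat.card E = p ^ 2 ∧
    (∀ x y : R, x * y = y * x) ∧ (∃ t ∈ A, ∀ x : R, t x = x⁻¹) ∧
    (∀ g ∈ A, (∀ x ∈ E, g x = x) → g = 1) ∧ HasDiag p A P E ⊥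

/-- Case 2 of `structure_of_rank_two`: `R = E C_R(E)` with `E` characteristic, nonabelian of order `p ^ 3` and
exponent `p`. -/
def CaseTwo (p : ℕ) (A : Subgroup (MulAut R)) (P : Subgroup A) : Prop :=
  ∃ E : Subgroup R, E.Characteristic ∧ (∀ x ∈ E, x ^ p = 1) ∧ Nat.card E = p ^ 3 ∧
    Nat.card (zOf E) = p ∧ (∀ x ∈ E, ∀ y ∈ E, ⁅x, y⁆ ∈ zOf E) ∧ (∃ x ∈ E, ∃ y ∈ E, x * y ≠ y * x) ∧
    (∀ g : R, ∃ e ∈ E, ∀ x ∈ E, g * x * g⁻¹ = e * x * e⁻¹) ∧
    (∀ g ∈ A, (∀ x ∈ E, x⁻¹ * g x ∈ zOf E) → ∃ x : R, g = MulAut.conj x) ∧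
    HasDiag p A P E (zOf E)

/-- **Structure of a `p`-group of rank at most 2 with a non-`p`-closed group of automorphisms without normal
`p`-subgroups outside `Inn`.** -/
theorem structure_of_rank_two [Finite R] (hp2 : p ≠ 2) (hR : IsPGroup p R)
    (hrk : ∀ E : Subgroup R, IsElementaryAbelian p E → Nat.card E ≤ p ^ 2)
    (A : Subgroup (MulAut R)) (hInn : ∀ g : R, MulAut.conj g ∈ A)
    (hmax : ∀ N : Subgroup A, N.Normal → IsPGroup p N → ∀ g ∈ N, ∃ x : R, (g : MulAut R) = MulAut.conj x)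
    (P : Sylow p A) (hP : ∃ g ∈ P, ∀ x : R, (g : MulAut R) ≠ MulAut.conj x) :
    CaseOne p A P ∨ CaseTwo p A P := by
  obtain ⟨C, H, hC, hH, hHC, hcc, hCC, hfaith⟩ :=
    Cfsg.Agent.Classification.TypeZ.Critical.exists_critical_group hp2 hR
  -- the subgroup of inner automorphisms
  let I : Subgroup A := (MulAut.conj (G := R)).range.subgroupOf A
  have hImem : ∀ g : A, g ∈ I ↔ ∃ x : R, (g : MulAut R) = MulAut.conj x := by
    intro g
    rw [mem_subgroupOf]
    constructor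
    · rintro ⟨x, hx⟩
      exact ⟨x, hx.symm⟩
    · rintro ⟨x, hx⟩
      exact ⟨x, hx.symm⟩
  have hI : IsPGroup p I := by
    have h1 : IsPGroup p (MulAut.conj (G := R)).range := by
      rintro ⟨_, x, rfl⟩
      obtain ⟨k, hk⟩ := hR x
      refine ⟨k, Subtype.ext ?_⟩
      show (MulAut.conj x) ^ p ^ k = 1
      rw [← map_pow, hk, map_one]
    exact h1.comap_subtype
  have hIn : I.Normal := by
    refine ⟨fun g hg a => ?_⟩
    rw [hImem] at hg ⊢
    obtain ⟨x, hx⟩ := hg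
    refine ⟨(a : MulAut R) x, ?_⟩
    push_cast
    rw [hx]
    apply MulEquiv.ext
    intro y
    simp [MulAut.mul_apply, MulAut.conj_apply]
  have hmaxI : ∀ N : Subgroup A, N.Normal → IsPGroup p N → N ≤ I := fun N hN hNp g hg =>
    (hImem g).2 (hmax N hN hNp g hg)
  have hPI : ¬ (P : Subgroup A) ≤ I := by
    intro h
    obtain ⟨g, hg, hgx⟩ := hP
    obtain ⟨x, hx⟩ := (hImem g).1 (h hg)
    exact hgx x hx
  by_cases hab : ∀ x ∈ H, ∀ y ∈ H, x * y = y * x
  · left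
    have hexp : ∀ x ∈ H, x ^ p = 1 := fun x hx => ((hHC x).1 hx).2
    have hHel : IsElementaryAbelian p H :=
      ⟨⟨⟨fun x y => Subtype.ext (hab x x.2 y y.2)⟩⟩, hexp⟩
    have hle := hrk H hHel
    -- the kernel on `H`
    let N : Subgroup A :=
      { carrier := {g | ∀ x ∈ H, (g : MulAut R) x = x}
        one_mem' := fun x _ => rfl
        mul_mem' := fun {a b} ha hb x hx => by
          show (a : MulAut R) ((b : MulAut R) x) = x
          rw [hb x hx, ha x hx]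
        inv_mem' := fun {a} ha x hx => by
          show (a : MulAut R)⁻¹ x = x
          rw [MulAut.inv_apply, MulEquiv.symm_apply_eq]
          exact (ha x hx).symm }
    have hNn : N.Normal := by
      refine ⟨fun g hg a x hx => ?_⟩
      show (a : MulAut R) ((g : MulAut R) ((a : MulAut R)⁻¹ x)) = x
      rw [hg _ (char_apply_mem hH _ hx), MulAut.apply_inv_self]
    have hNp : IsPGroup p N := by
      rw [IsPGroup.iff_card]
      have h0 : Nat.card N ≠ 0 := Nat.card_pos.ne'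
      refine ⟨(Nat.card N).primeFactorsList.length, Nat.eq_prime_pow_of_unique_prime_dvd h0 ?_⟩
      intro q hq hqd
      by_contra hne
      have : Fact q.Prime := ⟨hq⟩
      obtain ⟨g, hg⟩ := exists_prime_orderOf_dvd_card' q hqd
      have h1 : orderOf ((g : A) : MulAut R) = q := by
        rw [orderOf_submonoid, orderOf_submonoid, hg]
      have h2 : ((g : A) : MulAut R) = 1 := by
        refine hfaith _ ?_ g.2
        rw [h1]
        exact (Nat.coprime_primes hq hp.out).2 hne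
      rw [h2, orderOf_one] at h1
      exact hq.one_lt.ne h1
    have hppow : ∀ g ∈ P, ∃ k, (g : MulAut R) ^ p ^ k = 1 := by
      intro g hg
      obtain ⟨k, hk⟩ := P.isPGroup' ⟨g, hg⟩
      exact ⟨k, by simpa using congrArg (fun t : (P : Subgroup A) => ((t : A) : MulAut R)) hk⟩
    have hHcard : Nat.card H = p ^ 2 := by
      by_contra hne
      have h1 : Nat.card H ≤ p := by
        obtain ⟨l, hl⟩ := IsPGroup.iff_card.1 (hR.to_subgroup H)
        rw [hl] at hle hne ⊢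
        have h2 := (Nat.pow_le_pow_iff_right hp.out.one_lt).1 hle
        have h3 : l ≠ 2 := fun h => hne (by rw [h])
        calc p ^ l ≤ p ^ 1 := Nat.pow_le_pow_right hp.out.pos (by omega)
          _ = p := pow_one p
      apply hPI
      refine le_trans (fun g hg => ?_) (hmaxI N hNn hNp)
      intro x hx
      obtain ⟨k, hk⟩ := hppow g hg
      exact fix_of_card_le hR hexp h1 (fun x hx => char_apply_mem hH _ hx) hk hx
    have hbot : (⊥ : Subgroup R).Characteristic := inferInstance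
    obtain ⟨h1, h2⟩ := exists_diag_section A I hI hIn hmaxI P hPI hH hbot bot_le
      (by rw [hHcard, Subgroup.card_bot, mul_one])
      (fun x hx y hy => by
        rw [mem_bot, commutatorElement_eq_one_iff_mul_comm]
        exact hab x hx y hy)
      (fun x hx => by rw [hexp x hx]; exact one_mem _)
      (fun α _ hα hα' => hfaith α hα fun x hx => by
        have := hα' x hx
        rw [mem_bot, inv_mul_eq_one] at this
        exact this.symm)
    have hItriv : ∀ g : A, g ∈ I ↔ ∀ x ∈ H, (g : MulAut R) x = x := by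
      intro g
      rw [h1]
      refine forall₂_congr fun x _ => ?_
      rw [mem_bot, inv_mul_eq_one]
      exact eq_comm
    -- an involution inverting `H`
    obtain ⟨t, htA, htt, htH⟩ : ∃ t ∈ A, t * t = 1 ∧ ∀ x ∈ H, t x = x⁻¹ := by
      obtain ⟨u, -, v, a, haH, b, hbH, -, -, hgen, -, -, -, -, -, -, hd⟩ := h2
      obtain ⟨h, hha, hhb, -⟩ := hd (-1) (-1) (by norm_num)
      rw [mem_bot, inv_mul_eq_one, zpow_neg_one] at hha hhb
      have hh : ∀ x ∈ H, (h : MulAut R) x = x⁻¹ := by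
        intro x hx
        obtain ⟨i, j, hij⟩ := hgen x hx
        rw [mem_bot, inv_mul_eq_one] at hij
        rw [hij, map_mul, map_zpow, map_zpow, ← hha, ← hhb, mul_inv_rev, inv_zpow, inv_zpow]
        exact hab _ (inv_mem (zpow_mem haH i)) _ (inv_mem (zpow_mem hbH j))
      have hh2 : h * h ∈ I := by
        rw [hItriv]
        intro x hx
        show (h : MulAut R) ((h : MulAut R) x) = x
        rw [hh x hx, map_inv, hh x hx, inv_inv]
      obtain ⟨k, hk⟩ := hI ⟨h * h, hh2⟩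
      have hk' : ((h : MulAut R) * h) ^ p ^ k = 1 := by
        simpa using congrArg (fun t : I => ((t : A) : MulAut R)) hk
      have hodd : Odd (p ^ k) := (hp.out.odd_of_ne_two hp2).pow
      refine ⟨(h : MulAut R) ^ p ^ k, pow_mem h.2 _, ?_, fun x hx => ?_⟩
      · rw [← (Commute.refl _).mul_pow, hk']
      · have key : ∀ n : ℕ, ∀ x ∈ H, ((h : MulAut R) ^ (2 * n)) x = x := by
          intro n
          induction n with
          | zero => intro x _; simp
          | succ n ih =>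
            intro x hx
            have e1 : 2 * (n + 1) = 2 * n + 2 := by ring
            rw [e1, pow_add, MulAut.mul_apply, pow_two, MulAut.mul_apply, hh x hx, map_inv, hh x hx,
              inv_inv, ih x hx]
        obtain ⟨m, hm⟩ := hodd
        rw [hm, pow_succ', MulAut.mul_apply, key m x hx, hh x hx]
    -- `t` is fixed-point-free on the whole group
    have hfpf : ∀ x, t x = x → x = 1 := by
      intro x hx
      by_contra hx1
      obtain ⟨k, hk⟩ := IsPGroup.iff_orderOf.1 hR x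
      have hk0 : k ≠ 0 := by
        rintro rfl
        rw [pow_zero, orderOf_eq_one_iff] at hk
        exact hx1 hk
      obtain ⟨l, rfl⟩ := Nat.exists_eq_succ_of_ne_zero hk0
      set y := x ^ p ^ l with hy
      have hyp : y ^ p = 1 := by
        rw [hy, ← pow_mul, ← pow_succ, ← hk, pow_orderOf_eq_one]
      have hy1 : y ≠ 1 := by
        intro h
        have h3 := orderOf_dvd_of_pow_eq_one h
        rw [hk] at h3
        have h4 := Nat.le_of_dvd (pow_pos hp.out.pos l) h3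
        exact absurd h4 (not_le.2 (Nat.pow_lt_pow_right hp.out.one_lt (Nat.lt_succ_self l)))
      have hty : t y = y := by rw [hy, map_pow, hx]
      have hyH : y ∈ H := by
        refine mem_of_comm hrk hHel hHcard hyp fun a ha => ?_
        have h3 := (hItriv ⟨MulAut.conj y, hInn y⟩).1 ((hImem _).2 ⟨y, rfl⟩) a ha
        have h4 : y * a * y⁻¹ = a := h3
        calc a * y = y * a * y⁻¹ * y := by rw [h4]
          _ = y * a := by group
      have h5 := htH y hyH
      rw [hty] at h5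
      have h6 : y ^ 2 = 1 := by
        rw [pow_two]
        nth_rewrite 1 [h5]
        exact inv_mul_cancel y
      have h7 : orderOf y ∣ Nat.gcd 2 p := Nat.dvd_gcd (orderOf_dvd_of_pow_eq_one h6)
        (orderOf_dvd_of_pow_eq_one hyp)
      have h8 : Nat.gcd 2 p = 1 := (Nat.coprime_primes Nat.prime_two hp.out).2 (Ne.symm hp2)
      rw [h8, Nat.dvd_one, orderOf_eq_one_iff] at h7
      exact hy1 h7
    have htinv := inv_of_fpf htt hfpf
    have hcommR : ∀ x y : R, x * y = y * x := by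
      intro x y
      have h3 : t (x⁻¹ * y⁻¹) = t x⁻¹ * t y⁻¹ := map_mul t _ _
      rw [htinv, htinv, htinv, mul_inv_rev, inv_inv, inv_inv] at h3
      exact h3.symm
    have hCtop : ∀ x, x ∈ C := by
      intro x
      apply hCC
      rw [mem_centralizer_iff]
      intro y _
      exact hcommR y x
    refine ⟨H, fun x => ⟨fun hx => hexp x hx, fun hx => (hHC x).2 ⟨hCtop x, hx⟩⟩, hH, hHcard, hcommR,
      ⟨t, htA, htinv⟩, fun g hg hgx => ?_, h2⟩
    obtain ⟨x, hx⟩ := (hImem ⟨g, hg⟩).1 ((hItriv _).2 hgx)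
    have hx' : g = MulAut.conj x := hx
    rw [hx']
    apply MulEquiv.ext
    intro y
    rw [MulAut.conj_apply, hcommR x y, mul_inv_cancel_right, MulAut.one_apply]
  · right
    push Not at hab
    have hcl : ∀ x ∈ H, ∀ y ∈ H, ⁅x, y⁆ ∈ zOf H := by
      intro x hx y hy
      rw [mem_zOf]
      refine ⟨?_, fun z hz => ?_⟩
      · rw [commutatorElement_def]
        exact mul_mem (mul_mem (mul_mem hx hy) (inv_mem hx)) (inv_mem hy)
      · exact (hcc x ((hHC x).1 hx).1 y z ((hHC z).1 hz).1).eq.symm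
    have hexp : ∀ x ∈ H, x ^ p = 1 := fun x hx => ((hHC x).1 hx).2
    obtain ⟨hZ, hHc⟩ := card_of_class_two hR hrk hexp hcl hab
    obtain ⟨h1, h2⟩ := exists_diag_section A I hI hIn hmaxI P hPI hH (zOf_char hH) (zOf_le H)
      (by rw [hZ, hHc]; ring) hcl (fun x hx => by rw [hexp x hx]; exact one_mem _)
      (fun α _ hα hα' => by
        refine hfaith α hα fun x hx => ?_
        refine Cfsg.Agent.Classification.TypeZ.Critical.fix_of_fix_div hR α hα x ?_
        exact fix_center hZ hcl hab hα' (hα' x hx))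
    refine ⟨H, hH, hexp, hHc, hZ, hcl, hab, fun g => ?_,
      fun g hg hgx => (hImem ⟨g, hg⟩).1 ((h1 ⟨g, hg⟩).2 hgx), h2⟩
    have h3 := (h1 ⟨MulAut.conj g, hInn g⟩).1 ((hImem _).2 ⟨g, rfl⟩)
    exact exists_inner hR hZ hHc hcl hab (α := MulAut.conj g) h3

end Cfsg.Agent.H791
end

-- part: H791/LemB
section
/-!
# An eigenvalue argument in `p`-groups of rank at most 2 (helper791)
-/

set_option autoImplicit false

namespace Cfsg.Agent.H791

open Subgroup
open scoped commutatorElement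

variable {p : ℕ} [hp : Fact p.Prime] {N : Type*} [Group N]

theorem exists_central_mod [Finite N] (hN : IsPGroup p N) {E Z : Subgroup N} (hE : E.Normal)
    (hZ : Z.Normal) (hZE : ¬ E ≤ Z) : ∃ w ∈ E, w ∉ Z ∧ ∀ g : N, ⁅g, w⁆ ∈ Z := by
  have h1 : IsPGroup p (N ⧸ Z) := hN.to_quotient Z
  have h2 : Group.IsNilpotent (N ⧸ Z) := h1.isNilpotent
  have h3 : (E.map (QuotientGroup.mk' Z)).Normal := hE.map _ (QuotientGroup.mk'_surjective Z)
  have h4 : E.map (QuotientGroup.mk' Z) ≠ ⊥ := by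
    intro h
    apply hZE
    rw [Subgroup.map_eq_bot_iff, QuotientGroup.ker_mk'] at h
    exact h
  have h5 := Cfsg.Agent.Lib.NormalAbelian.normal_inf_center_ne_bot (E.map (QuotientGroup.mk' Z)) h4
  obtain ⟨x, hx, hx1⟩ : ∃ x, x ∈ E.map (QuotientGroup.mk' Z) ⊓ Subgroup.center (N ⧸ Z) ∧ x ≠ 1 := by
    by_contra hcon
    push Not at hcon
    exact h5 ((Subgroup.eq_bot_iff_forall _).2 hcon)
  obtain ⟨⟨w, hw, rfl⟩, hc⟩ := hx
  refine ⟨w, hw, fun h => hx1 ((QuotientGroup.eq_one_iff w).2 h), fun g => ?_⟩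
  rw [← QuotientGroup.eq_one_iff]
  have h6 := Subgroup.mem_center_iff.1 hc (QuotientGroup.mk' Z g)
  show QuotientGroup.mk' Z ⁅g, w⁆ = 1
  rw [map_commutatorElement]
  exact commutatorElement_eq_one_iff_mul_comm.2 h6

/-- the elements of `E` which are central modulo `Z` -/
def cmod (E Z : Subgroup N) (hZ : Z.Normal) : Subgroup N where
  carrier := {x | x ∈ E ∧ ∀ g : N, ⁅g, x⁆ ∈ Z}
  one_mem' := ⟨E.one_mem, fun g => by rw [commutatorElement_one_right]; exact Z.one_mem⟩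
  mul_mem' := by
    rintro x y ⟨hx, hx'⟩ ⟨hy, hy'⟩
    refine ⟨E.mul_mem hx hy, fun g => ?_⟩
    have h : ⁅g, x * y⁆ = ⁅g, x⁆ * (x * ⁅g, y⁆ * x⁻¹) := by
      simp only [commutatorElement_def]
      group
    rw [h]
    exact Z.mul_mem (hx' g) (hZ.conj_mem _ (hy' g) x)
  inv_mem' := by
    rintro x ⟨hx, hx'⟩
    refine ⟨E.inv_mem hx, fun g => ?_⟩
    have h : ⁅g, x⁻¹⁆ = x⁻¹ * ⁅g, x⁆⁻¹ * x⁻¹⁻¹ := by
      simp only [commutatorElement_def]
      group
    rw [h]
    exact hZ.conj_mem _ (Z.inv_mem (hx' g)) _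

theorem mem_cmod {E Z : Subgroup N} {hZ : Z.Normal} {x : N} :
    x ∈ cmod E Z hZ ↔ x ∈ E ∧ ∀ g : N, ⁅g, x⁆ ∈ Z := Iff.rfl

theorem cmod_normal {E Z : Subgroup N} (hZ : Z.Normal) (hE : E.Normal) : (cmod E Z hZ).Normal := by
  refine ⟨fun x hx y => ⟨hE.conj_mem _ hx.1 y, fun g => ?_⟩⟩
  have h : ⁅g, y * x * y⁻¹⁆ = y * ⁅y⁻¹ * g * y, x⁆ * y⁻¹ := by
    simp only [commutatorElement_def]
    group
  rw [h]
  exact hZ.conj_mem _ (hx.2 _) y

/-- a subgroup strictly above one of index `p` -/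
theorem eq_of_lt_of_card [Finite N] (hN : IsPGroup p N) {A B C : Subgroup N} (h1 : A < B) (h2 : B ≤ C)
    {k : ℕ} (hA : Nat.card A = p ^ k) (hC : Nat.card C = p ^ (k + 1)) : B = C := by
  refine eq_of_le_of_card_ge h2 ?_
  obtain ⟨l, hl⟩ := IsPGroup.iff_card.1 (hN.to_subgroup B)
  have h4 : Nat.card A < Nat.card B := Set.ncard_lt_ncard h1 (Set.toFinite _)
  rw [hl, hA] at h4
  rw [hC, hl]
  exact Nat.pow_le_pow_right hp.out.pos ((Nat.pow_lt_pow_iff_right hp.out.one_lt).1 h4)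

/-- in an abelian `p`-group `C` (given by central elements) with a unique subgroup of order `p` -/
theorem mem_zpowers_of_orderOf [Finite N] {C Z : Subgroup N} (hCcomm : ∀ x ∈ C, ∀ y ∈ C, Commute x y)
    (hN : IsPGroup p N) (hZ : Nat.card Z = p) (hΩ : ∀ c ∈ C, c ^ p = 1 → c ∈ Z) :
    ∀ (s : ℕ) (y c : N), y ∈ C → c ∈ C → orderOf y = p ^ s → orderOf y ∣ orderOf c →
      y ∈ zpowers c := by
  intro s
  induction s with
  | zero =>
    intro y c _ _ hy _
    rw [pow_zero, orderOf_eq_one_iff] at hy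
    rw [hy]
    exact one_mem _
  | succ s ih =>
    intro y c hyC hcC hy hyc
    obtain ⟨r, hr⟩ := IsPGroup.iff_orderOf.1 hN c
    have hsr : s + 1 ≤ r := by
      rw [hy, hr] at hyc
      exact (Nat.pow_dvd_pow_iff_le_right hp.out.one_lt).1 hyc
    -- the subgroup of order `p` in `⟨c⟩`
    obtain ⟨r', rfl⟩ : ∃ r', r = r' + 1 := ⟨r - 1, by omega⟩
    have hc1 : (c ^ p ^ r') ^ p = 1 := by rw [← pow_mul, ← pow_succ, ← hr, pow_orderOf_eq_one]
    have hc2 : c ^ p ^ r' ≠ 1 := by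
      intro h
      have h3 := Nat.le_of_dvd (pow_pos hp.out.pos _) (hr ▸ orderOf_dvd_of_pow_eq_one h)
      exact absurd h3 (not_le.2 (Nat.pow_lt_pow_right hp.out.one_lt (Nat.lt_succ_self _)))
    have hcZ : c ^ p ^ r' ∈ Z := hΩ _ (C.pow_mem hcC _) hc1
    -- induction for `y ^ p`
    have hyp : orderOf (y ^ p) = p ^ s := by
      rw [orderOf_pow_of_dvd hp.out.ne_zero (by rw [hy, pow_succ]; exact dvd_mul_left _ _), hy,
        pow_succ, Nat.mul_div_cancel _ hp.out.pos]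
    have h1 : y ^ p ∈ zpowers c := by
      refine ih (y ^ p) c (C.pow_mem hyC _) hcC hyp ?_
      rw [hyp, hr]
      exact pow_dvd_pow _ (by omega)
    obtain ⟨i, hi⟩ := h1
    have hi' : c ^ i = y ^ p := hi
    -- `p ∣ i`
    have hpi : (p : ℤ) ∣ i := by
      have h2 : c ^ (i * (p : ℤ) ^ s) = 1 := by
        rw [zpow_mul, hi']
        have : ((p : ℤ) ^ s) = ((p ^ s : ℕ) : ℤ) := by push_cast; rfl
        rw [this, zpow_natCast, ← hyp, pow_orderOf_eq_one]
      have h3 := orderOf_dvd_iff_zpow_eq_one.2 h2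
      rw [hr] at h3
      have h4 : (p : ℤ) * (p : ℤ) ^ s ∣ i * (p : ℤ) ^ s := by
        refine dvd_trans ?_ h3
        push_cast
        rw [← pow_succ']
        exact pow_dvd_pow _ (by omega)
      exact (mul_dvd_mul_iff_right (pow_ne_zero _ (by exact_mod_cast hp.out.ne_zero))).1 h4
    obtain ⟨i', rfl⟩ := hpi
    have h5 : (y * (c ^ i')⁻¹) ^ p = 1 := by
      have h6 : Commute y (c ^ i')⁻¹ := (hCcomm y hyC _ (C.zpow_mem hcC i')).inv_right
      rw [h6.mul_pow, inv_pow, ← zpow_natCast (c ^ i'), ← zpow_mul, mul_comm i', hi', mul_inv_cancel]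
    have h7 : y * (c ^ i')⁻¹ ∈ Z := hΩ _ (C.mul_mem hyC (C.inv_mem (C.zpow_mem hcC i'))) h5
    obtain ⟨j, hj⟩ := exists_zpow_of_card_prime hZ hcZ hc2 h7
    have h8 : y = (c ^ p ^ r') ^ j * c ^ i' := by rw [← hj, inv_mul_cancel_right]
    rw [h8]
    exact mul_mem (zpow_mem (pow_mem (mem_zpowers c) _) _) (zpow_mem (mem_zpowers c) _)

theorem lemma_b [Finite N] (hN : IsPGroup p N)
    (hrk : ∀ E : Subgroup N, IsElementaryAbelian p E → Nat.card E ≤ p ^ 2) {E : Subgroup N}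
    (hEn : E.Normal) (hexp : ∀ x ∈ E, x ^ p = 1) (hEc : Nat.card E = p ^ 3)
    (hZc : Nat.card (zOf E) = p) (hcl : ∀ x ∈ E, ∀ y ∈ E, ⁅x, y⁆ ∈ zOf E)
    (hC : ∀ c, (∀ x ∈ E, c * x = x * c) → ∀ y : N, c * y = y * c) (α : MulAut N)
    (hαE : ∀ x ∈ E, α x ∈ E) {e : N} (he : e ∈ E) {g : N} (heg : ⁅g, e⁆ ∉ zOf E) {b : ℤ}
    (hb : ∀ g : N, ⁅g, (e ^ b)⁻¹ * α e⁆ ∈ zOf E) : b * b ≡ 1 [ZMOD p] := by
  set Z := zOf E with hZdef
  -- `Z` is central
  have hZcen : ∀ z ∈ Z, ∀ y : N, Commute z y := fun z hz y =>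
    hC z (fun x hx => ((mem_zOf.1 hz).2 x hx).symm) y
  have hZn : Z.Normal := by
    refine ⟨fun z hz y => ?_⟩
    rw [← (hZcen z hz y).eq, mul_inv_cancel_right]
    exact hz
  have hZE : Z ≤ E := zOf_le E
  have hEZ : ¬ E ≤ Z := by
    intro h
    have h1 := Nat.card_mono (Set.toFinite (Z : Set N)) h
    have h2 : Nat.card E ≤ Nat.card Z := h1
    rw [hEc, hZc] at h2
    have h3 : p ^ 3 ≤ p ^ 1 := by rwa [pow_one]
    have h4 := (Nat.pow_le_pow_iff_right hp.out.one_lt).1 h3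
    omega
  -- the subgroup `W`
  set W := cmod E Z hZn with hW
  have hWn : W.Normal := cmod_normal hZn hEn
  have hWE : W ≤ E := fun x hx => hx.1
  have heW : e ∉ W := fun h => heg (h.2 g)
  have hEW : ¬ E ≤ W := fun h => heW (h he)
  have hZW : Z ≤ W := by
    intro z hz
    refine ⟨hZE hz, fun g => ?_⟩
    rw [commutatorElement_eq_one_iff_mul_comm.2 (hZcen z hz g).symm.eq]
    exact Z.one_mem
  obtain ⟨w₀, hw₀E, hw₀Z, hw₀⟩ := exists_central_mod hN hEn hZn hEZ
  have hw₀W : w₀ ∈ W := ⟨hw₀E, hw₀⟩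
  have hZWlt : Z < W := lt_of_le_of_ne hZW fun h => hw₀Z (h ▸ hw₀W)
  have hWElt : W < E := lt_of_le_of_ne hWE fun h => hEW h.ge
  have hWc : Nat.card W = p ^ 2 := by
    obtain ⟨l, hl⟩ := IsPGroup.iff_card.1 (hN.to_subgroup W)
    have h1 : Nat.card Z < Nat.card W := Set.ncard_lt_ncard hZWlt (Set.toFinite _)
    have h2 : Nat.card W < Nat.card E := Set.ncard_lt_ncard hWElt (Set.toFinite _)
    rw [hl, hZc] at h1
    rw [hl, hEc] at h2
    have h3 : 1 < l := by
      rw [← Nat.pow_lt_pow_iff_right hp.out.one_lt]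
      rwa [pow_one]
    have h4 : l < 3 := (Nat.pow_lt_pow_iff_right hp.out.one_lt).1 h2
    have h5 : l = 2 := by omega
    rw [hl, h5]
  have hWcomm : ∀ x ∈ W, ∀ y ∈ W, Commute x y := by
    have := IsPGroup.isMulCommutative_of_card_eq_prime_sq hWc
    intro x hx y hy
    exact congrArg Subtype.val (mul_comm' (⟨x, hx⟩ : W) ⟨y, hy⟩)
  have hWel : IsElementaryAbelian p W :=
    ⟨⟨⟨fun x y => Subtype.ext (hWcomm x x.2 y y.2).eq⟩⟩, fun x hx => hexp x (hWE hx)⟩
  -- `N` acts trivially on `E / W`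
  have hEW' : ∀ y ∈ E, ∀ g : N, ⁅g, y⁆ ∈ W := by
    obtain ⟨w', hw'E, hw'W, hw'⟩ := exists_central_mod hN hEn hWn hEW
    have h1 : W < cmod E W hWn := by
      refine lt_of_le_of_ne (fun x hx => ⟨hWE hx, fun g => ?_⟩) fun h => hw'W ?_
      · rw [commutatorElement_def]
        exact W.mul_mem (hWn.conj_mem x hx g) (W.inv_mem hx)
      · rw [h]
        exact ⟨hw'E, hw'⟩
    have h2 := eq_of_lt_of_card hN h1 (C := E) (fun x hx => hx.1) hWc hEc
    intro y hy
    rw [← h2] at hy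
    exact hy.2
  -- the centralizer in `E` of a subgroup
  have hcentE : ∀ t : N, (∀ x ∈ W, Commute t x) → Commute t e → ∀ x ∈ E, t * x = x * t := by
    intro t h1 h2
    have h3 : W < E ⊓ centralizer {t} := by
      refine lt_of_le_of_ne (le_inf hWE fun x hx => ?_) fun h => heW ?_
      · exact mem_centralizer_singleton_iff.2 (h1 x hx).symm.eq
      · rw [h]
        exact ⟨he, mem_centralizer_singleton_iff.2 h2.symm.eq⟩
    have h4 := eq_of_lt_of_card hN h3 inf_le_left hWc hEc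
    intro x hx
    rw [← h4] at hx
    exact (mem_centralizer_singleton_iff.1 hx.2).symm
  have hwe : ∀ w ∈ W, w ∉ Z → ⁅w, e⁆ ≠ 1 := by
    intro w hw hwZ h
    apply hwZ
    rw [hZdef, mem_zOf]
    refine ⟨hWE hw, fun y hy => (hcentE w (fun x hx => hWcomm w hw x hx) ?_ y hy).symm⟩
    exact commutatorElement_eq_one_iff_mul_comm.1 h
  -- an element centralizing `W`, not acting as an inner automorphism
  obtain ⟨x, hxW, hxe⟩ : ∃ x : N, (∀ y ∈ W, Commute x y) ∧ ⁅x, e⁆ ∉ Z := by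
    have h1 : ⁅w₀, e⁆ ∈ Z := hcl w₀ hw₀E e he
    obtain ⟨k, hk⟩ := exists_zpow_of_card_prime hZc h1 (hwe w₀ hw₀W hw₀Z) (hw₀ g)
    have h2 : ⁅e, w₀⁆ ∈ Z := hcl e he w₀ hw₀E
    have h3 : ⁅e ^ k, w₀⁆ = ⁅e, w₀⁆ ^ k := comm_zpow_left (hZcen _ h2 e) k
    have h4 : ⁅e ^ k * g, w₀⁆ = 1 := by
      have h5 : ⁅e ^ k * g, w₀⁆ = e ^ k * ⁅g, w₀⁆ * (e ^ k)⁻¹ * ⁅e ^ k, w₀⁆ := by
        simp only [commutatorElement_def]
        group
      rw [h5, ← (hZcen _ (hw₀ g) (e ^ k)).eq, mul_inv_cancel_right, hk, h3,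
        ← commutatorElement_inv w₀ e, inv_zpow, mul_inv_cancel]
    refine ⟨e ^ k * g, ?_, ?_⟩
    · have h5 : Commute (e ^ k * g) w₀ := commutatorElement_eq_one_iff_mul_comm.1 h4
      have h6 : Z < W ⊓ centralizer {e ^ k * g} := by
        refine lt_of_le_of_ne (le_inf hZW fun z hz => ?_) fun h => hw₀Z ?_
        · exact mem_centralizer_singleton_iff.2 (hZcen z hz _).eq
        · rw [h]
          exact ⟨hw₀W, mem_centralizer_singleton_iff.2 h5.symm.eq⟩
      have h7 := eq_of_lt_of_card hN h6 inf_le_left (k := 1) (by rw [hZc, pow_one]) hWc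
      intro y hy
      rw [← h7] at hy
      exact (mem_centralizer_singleton_iff.1 hy.2).symm
    · intro h5
      apply heg
      have h6 : ⁅e ^ k * g, e⁆ = e ^ k * ⁅g, e⁆ * (e ^ k)⁻¹ := by
        have h7 : e ^ k * e * (e ^ k)⁻¹ = e := by
          rw [(Commute.refl e).zpow_left k |>.eq, mul_inv_cancel_right]
        calc ⁅e ^ k * g, e⁆ = e ^ k * ⁅g, e⁆ * (e ^ k)⁻¹ * (e ^ k * e * (e ^ k)⁻¹) * e⁻¹ := by
              simp only [commutatorElement_def]
              group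
          _ = e ^ k * ⁅g, e⁆ * (e ^ k)⁻¹ := by rw [h7, mul_inv_cancel_right]
      rw [h6] at h5
      have h8 := hZn.conj_mem _ h5 (e ^ k)⁻¹
      have h9 : (e ^ k)⁻¹ * (e ^ k * ⁅g, e⁆ * (e ^ k)⁻¹) * (e ^ k)⁻¹⁻¹ = ⁅g, e⁆ := by group
      rwa [h9] at h8
  set w := ⁅x, e⁆ with hwdef
  have hwW : w ∈ W := hEW' e he x
  have hwE : w ∈ E := hWE hwW
  set z := ⁅w, e⁆ with hzdef
  have hzZ : z ∈ Z := hcl w hwE e he
  have hz1 : z ≠ 1 := hwe w hwW hxe
  have hw1 : w ≠ 1 := fun h => hxe (h ▸ Z.one_mem)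
  -- elements of `W`
  have hWgen : ∀ y ∈ W, ∃ i j : ℤ, y = w ^ i * z ^ j := by
    have h1 : Z < W ⊓ (zpowers w ⊔ Z) := by
      refine lt_of_le_of_ne (le_inf hZW le_sup_right) fun h => hxe ?_
      rw [h]
      exact ⟨hwW, (le_sup_left : zpowers w ≤ _) (mem_zpowers w)⟩
    have h2 := eq_of_lt_of_card hN h1 inf_le_left (k := 1) (by rw [hZc, pow_one]) hWc
    intro y hy
    rw [← h2] at hy
    obtain ⟨_, ⟨i, rfl⟩, z', hz', rfl⟩ := mem_sup_of_normal_right.1 hy.2
    obtain ⟨j, rfl⟩ := exists_zpow_of_card_prime hZc hzZ hz1 hz'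
    exact ⟨i, j, rfl⟩
  -- commutators with `e`
  have hcomm : ∀ s t : N, (∀ y ∈ W, Commute s y) → ⁅t, e⁆ ∈ W → ⁅s * t, e⁆ = ⁅t, e⁆ * ⁅s, e⁆ := by
    intro s t hs ht
    have h1 : ⁅s * t, e⁆ = s * ⁅t, e⁆ * s⁻¹ * ⁅s, e⁆ := by
      simp only [commutatorElement_def]
      group
    rw [h1, (hs _ ht).eq, mul_inv_cancel_right]
  have hxz : ∀ i : ℤ, ⁅x ^ i, e⁆ = w ^ i := fun i => comm_zpow_left (hxW _ hwW).symm i
  have hwz : ∀ i : ℤ, ⁅w ^ i, e⁆ = z ^ i := fun i => comm_zpow_left (hZcen _ hzZ w) i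
  -- `x ^ p` is central
  have hwp : w ^ p = 1 := hexp w hwE
  have hzp : z ^ p = 1 := hexp z (hZE hzZ)
  have hep : e ^ p = 1 := hexp e he
  have hxpcen : ∀ y : N, x ^ p * y = y * x ^ p := by
    refine hC _ (hcentE _ (fun y hy => (hxW y hy).pow_left p) ?_)
    refine commutatorElement_eq_one_iff_mul_comm.1 ?_
    have h1 := hxz p
    rw [zpow_natCast, zpow_natCast, hwp] at h1
    exact h1
  set C : Subgroup N := Subgroup.center N with hCdef
  have hCcen : ∀ c ∈ C, ∀ y : N, Commute c y := fun c hc y => (Subgroup.mem_center_iff.1 hc y).symm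
  have hxpC : x ^ p ∈ C := Subgroup.mem_center_iff.2 fun y => (hxpcen y).symm
  have hΩ : ∀ c ∈ C, c ^ p = 1 → c ∈ Z := by
    intro c hc hcp
    have h1 : c ∈ W := mem_of_comm hrk hWel hWc hcp fun a _ => (hCcen c hc a).symm.eq
    rw [hZdef, mem_zOf]
    exact ⟨hWE h1, fun y _ => (hCcen c hc y).symm.eq⟩
  have hxpne : ∀ c ∈ C, x ^ p ≠ c ^ p := by
    intro c hc h
    have h1 : (x * c⁻¹) ^ p = 1 := by
      rw [(hCcen c hc x).symm.inv_right.mul_pow, inv_pow, h, mul_inv_cancel]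
    have h2 : x * c⁻¹ ∈ W := by
      refine mem_of_comm hrk hWel hWc h1 fun a ha => ?_
      exact ((hxW a ha).mul_left (hCcen c hc a).inv_left).symm.eq
    have h3 : ⁅x * c⁻¹, e⁆ ∈ Z := hcl _ (hWE h2) e he
    have h4 : ⁅x * c⁻¹, e⁆ = w := by
      have h5 : ⁅c⁻¹, e⁆ = 1 := commutatorElement_eq_one_iff_mul_comm.2 (hCcen c hc e).inv_left.eq
      rw [hcomm x c⁻¹ hxW (by rw [h5]; exact W.one_mem), h5, one_mul]
    rw [h4] at h3
    exact hxe h3
  -- `C` is generated by `x ^ p`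
  have hCcomm : ∀ a ∈ C, ∀ b ∈ C, Commute a b := fun a ha b _ => hCcen a ha b
  have hCgen : ∀ c ∈ C, c ∈ zpowers (x ^ p) := by
    intro c hc
    obtain ⟨s, hs⟩ := IsPGroup.iff_orderOf.1 hN c
    obtain ⟨r, hr⟩ := IsPGroup.iff_orderOf.1 hN (x ^ p)
    by_cases hsr : s ≤ r
    · refine mem_zpowers_of_orderOf hCcomm hN hZc hΩ s c (x ^ p) hc hxpC hs ?_
      rw [hs, hr]
      exact pow_dvd_pow _ hsr
    · exfalso
      have h1 : x ^ p ∈ zpowers c := by
        refine mem_zpowers_of_orderOf hCcomm hN hZc hΩ r (x ^ p) c hxpC hc hr ?_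
        rw [hs, hr]
        exact pow_dvd_pow _ (by omega)
      obtain ⟨i, hi⟩ := h1
      have hi' : c ^ i = x ^ p := hi
      have h2 : (p : ℤ) ∣ i := by
        have h3 : c ^ (i * (p : ℤ) ^ r) = 1 := by
          rw [zpow_mul, hi']
          have : ((p : ℤ) ^ r) = ((p ^ r : ℕ) : ℤ) := by push_cast; rfl
          rw [this, zpow_natCast, ← hr, pow_orderOf_eq_one]
        have h4 := orderOf_dvd_iff_zpow_eq_one.2 h3
        rw [hs] at h4
        have h5 : (p : ℤ) * (p : ℤ) ^ r ∣ i * (p : ℤ) ^ r := by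
          refine dvd_trans ?_ h4
          push_cast
          rw [← pow_succ']
          exact pow_dvd_pow _ (by omega)
        exact (mul_dvd_mul_iff_right (pow_ne_zero _ (by exact_mod_cast hp.out.ne_zero))).1 h5
      obtain ⟨i', rfl⟩ := h2
      apply hxpne (c ^ i') (C.zpow_mem hc i')
      rw [← hi', ← zpow_natCast (c ^ i'), ← zpow_mul, mul_comm i']
  -- `α` and the subgroups
  have hαE' : ∀ y ∈ E, α⁻¹ y ∈ E := by
    have h1 : E.map α.toMonoidHom ≤ E := by
      rintro _ ⟨y, hy, rfl⟩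
      exact hαE y hy
    have h2 : Nat.card E ≤ Nat.card (E.map α.toMonoidHom) :=
      (Nat.card_congr (E.equivMapOfInjective α.toMonoidHom α.injective).toEquiv).le
    have h3 := eq_of_le_of_card_ge h1 h2
    intro y hy
    rw [← h3] at hy
    obtain ⟨y', hy', rfl⟩ := hy
    have : α⁻¹ (α.toMonoidHom y') = y' := α.symm_apply_apply y'
    rw [this]
    exact hy'
  have hαZ : ∀ (β : MulAut N), (∀ y ∈ E, β y ∈ E) → (∀ y ∈ E, β⁻¹ y ∈ E) → ∀ z ∈ Z, β z ∈ Z := by
    intro β h1 h2 z hz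
    rw [hZdef, mem_zOf] at hz ⊢
    refine ⟨h1 z hz.1, fun y hy => ?_⟩
    have h3 := congrArg β (hz.2 (β⁻¹ y) (h2 y hy))
    rw [map_mul, map_mul, MulAut.apply_inv_self] at h3
    exact h3
  have hαZ1 : ∀ z ∈ Z, α z ∈ Z := hαZ α hαE hαE'
  have hαZ2 : ∀ z ∈ Z, α⁻¹ z ∈ Z := hαZ α⁻¹ hαE' (by rwa [inv_inv])
  have hαW : ∀ (β : MulAut N), (∀ y ∈ E, β y ∈ E) → (∀ y ∈ Z, β y ∈ Z) → ∀ y ∈ W, β y ∈ W := by
    intro β h1 h2 y hy
    refine ⟨h1 y hy.1, fun g => ?_⟩
    have h3 : ⁅g, β y⁆ = β ⁅β⁻¹ g, y⁆ := by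
      rw [map_commutatorElement, MulAut.apply_inv_self]
    rw [h3]
    exact h2 _ (hy.2 _)
  have hαW1 : ∀ y ∈ W, α y ∈ W := hαW α hαE hαZ1
  have hαW2 : ∀ y ∈ W, α⁻¹ y ∈ W := hαW α⁻¹ hαE' hαZ2
  have hαxW : ∀ y ∈ W, Commute (α x) y := by
    intro y hy
    have h1 := (hxW _ (hαW2 y hy)).map α.toMonoidHom
    have h2 : α.toMonoidHom (α⁻¹ y) = y := α.apply_symm_apply y
    rw [h2] at h1
    exact h1
  -- the element `α x`
  obtain ⟨κ, j, hκj⟩ := hWgen _ (hEW' e he (α x))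
  obtain ⟨c, hc, hαx⟩ : ∃ c ∈ C, α x = x ^ κ * w ^ j * c := by
    set t := x ^ κ * w ^ j with ht
    have htW : ∀ y ∈ W, Commute t y := fun y hy =>
      ((hxW y hy).zpow_left κ).mul_left ((hWcomm w hwW y hy).zpow_left j)
    have hte : ⁅t, e⁆ = ⁅α x, e⁆ := by
      rw [hκj, ht, hcomm _ _ (fun y hy => (hxW y hy).zpow_left κ)
        (by rw [hwz]; exact hZW (Z.zpow_mem hzZ j)), hwz, hxz]
      exact (hZcen _ (Z.zpow_mem hzZ j) _).eq
    refine ⟨t⁻¹ * α x, ?_, by rw [mul_inv_cancel_left]⟩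
    refine Subgroup.mem_center_iff.2 fun y => (hC _ (hcentE _ (fun y hy => ?_) ?_) y).symm
    · exact (htW y hy).inv_left.mul_left (hαxW y hy)
    · have h1 : t * e * t⁻¹ = α x * e * (α x)⁻¹ := by
        rw [commutatorElement_def, commutatorElement_def] at hte
        exact mul_right_cancel hte
      show t⁻¹ * α x * e = e * (t⁻¹ * α x)
      calc t⁻¹ * α x * e = t⁻¹ * (α x * e * (α x)⁻¹) * α x := by group
        _ = t⁻¹ * (t * e * t⁻¹) * α x := by rw [h1]
        _ = e * (t⁻¹ * α x) := by group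
  -- the action on the centre
  have hαz : α z = z ^ κ := by
    obtain ⟨l, hl⟩ := hCgen c hc
    have hl' : (x ^ p) ^ l = c := hl
    obtain ⟨m, hm⟩ := hCgen z (Subgroup.mem_center_iff.2 fun y => (hZcen z hzZ y).symm.eq)
    have hm' : (x ^ p) ^ m = z := hm
    have h1 : α (x ^ p) = (x ^ p) ^ (κ + p * l) := by
      have h2 : Commute (x ^ κ * w ^ j) c := (hCcen c hc _).symm
      have h3 : Commute (x ^ κ) (w ^ j) := ((hxW w hwW).zpow_left κ).zpow_right j
      rw [map_pow, hαx, h2.mul_pow, h3.mul_pow]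
      have h4 : (w ^ j) ^ p = 1 := by
        rw [← zpow_natCast (w ^ j), ← zpow_mul, mul_comm, zpow_mul, zpow_natCast, hwp, one_zpow]
      rw [h4, mul_one, ← hl', zpow_add]
      congr 1
      · rw [← zpow_natCast (x ^ κ), ← zpow_mul, mul_comm, zpow_mul, zpow_natCast]
      · rw [← zpow_natCast ((x ^ p) ^ l), ← zpow_mul, mul_comm l]
    rw [← hm', map_zpow, h1, ← zpow_mul, mul_comm, zpow_mul, hm', zpow_add, zpow_mul,
      zpow_natCast, hzp, one_zpow, mul_one]
  -- the action on `W / Z`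
  set y := (e ^ b)⁻¹ * α e with hy
  have hyW : y ∈ W := ⟨E.mul_mem (E.inv_mem (E.zpow_mem he b)) (hαE e he), hb⟩
  have hαe : α e = e ^ b * y := by rw [hy, mul_inv_cancel_left]
  have hcomm2 : ∀ t : N, (∀ y ∈ W, Commute t y) → ⁅t, α e⁆ = ⁅t, e ^ b⁆ := by
    intro t ht
    rw [hαe]
    have h1 : ⁅t, e ^ b * y⁆ = ⁅t, e ^ b⁆ * (e ^ b * ⁅t, y⁆ * (e ^ b)⁻¹) := by
      simp only [commutatorElement_def]
      group
    rw [h1, commutatorElement_eq_one_iff_mul_comm.2 (ht y hyW).eq, mul_one, mul_inv_cancel, mul_one]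
  have hαw : ∃ z' ∈ Z, α w = w ^ (κ * b) * z' := by
    have h1 : α w = ⁅α x, e ^ b⁆ := by
      rw [hwdef, map_commutatorElement, hcomm2 _ hαxW]
    have h2 : ⁅α x, e ^ b⁆ = (⁅α x, e⁆ * e) ^ b * (e ^ b)⁻¹ := by
      rw [commutatorElement_def, ← conj_zpow]
      congr 2
      rw [commutatorElement_def]
      group
    refine ⟨(w ^ (κ * b))⁻¹ * α w, ?_, by rw [mul_inv_cancel_left]⟩
    rw [← QuotientGroup.eq_one_iff]
    have h3 : (QuotientGroup.mk' Z) (⁅α x, e⁆) = QuotientGroup.mk' Z w ^ κ := by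
      rw [hκj, map_mul, map_zpow, map_zpow]
      have : QuotientGroup.mk' Z z = 1 := (QuotientGroup.eq_one_iff z).2 hzZ
      rw [this, one_zpow, mul_one]
    have h4 : Commute (QuotientGroup.mk' Z w) (QuotientGroup.mk' Z e) := by
      have : (QuotientGroup.mk' Z) ⁅w, e⁆ = 1 := (QuotientGroup.eq_one_iff _).2 hzZ
      rw [map_commutatorElement] at this
      exact commutatorElement_eq_one_iff_mul_comm.1 this
    show (QuotientGroup.mk' Z) ((w ^ (κ * b))⁻¹ * α w) = 1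
    rw [h1, h2, map_mul, map_inv, map_zpow, map_mul, map_zpow, map_mul, h3, map_inv, map_zpow,
      (h4.zpow_left κ).mul_zpow, mul_inv_cancel_right, ← zpow_mul, inv_mul_cancel]
  obtain ⟨z', hz', hαw⟩ := hαw
  have hαz2 : α z = z ^ (κ * b * b) := by
    have h1 : α z = ⁅α w, e ^ b⁆ := by
      rw [hzdef, map_commutatorElement, hcomm2 _ (fun y hy => hWcomm _ (hαW1 w hwW) y hy)]
    have h2 : ⁅w ^ (κ * b) * z', e ^ b⁆ = ⁅w ^ (κ * b), e ^ b⁆ := by
      have h3 : ⁅w ^ (κ * b) * z', e ^ b⁆ = w ^ (κ * b) * ⁅z', e ^ b⁆ * (w ^ (κ * b))⁻¹ *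
          ⁅w ^ (κ * b), e ^ b⁆ := by
        simp only [commutatorElement_def]
        group
      rw [h3, commutatorElement_eq_one_iff_mul_comm.2 (hZcen z' hz' _).eq, mul_one,
        mul_inv_cancel, one_mul]
    rw [h1, hαw, h2]
    have h4 : ⁅w ^ (κ * b), e⁆ = z ^ (κ * b) := hwz _
    have h5 := comm_zpow_right (x := w ^ (κ * b)) (y := e)
      (by rw [h4]; exact hZcen _ (Z.zpow_mem hzZ _) e) b
    rw [h5, h4, ← zpow_mul]
  -- conclusion
  have h1 : κ ≡ κ * b * b [ZMOD p] := modEq_of_zpow_eq hzp hz1 (by rw [← hαz, ← hαz2])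
  have h2 : ¬ (p : ℤ) ∣ κ := by
    rintro ⟨l, hl⟩
    have h3 : α w ∈ Z := by
      rw [hαw, hl, mul_assoc, zpow_mul, zpow_natCast, hwp, one_zpow, one_mul]
      exact hz'
    have h4 := hαZ2 _ h3
    rw [MulAut.inv_apply_self] at h4
    exact hxe h4
  have h3 : (p : ℤ) ∣ κ * (b * b - 1) := by
    have := h1.dvd
    have h4 : κ * b * b - κ = κ * (b * b - 1) := by ring
    rwa [h4] at this
  have h4 := (Nat.prime_iff_prime_int.1 hp.out).dvd_or_dvd h3
  have h5 := h4.resolve_left h2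
  exact (Int.modEq_iff_dvd.2 h5).symm

end Cfsg.Agent.H791
end

-- part: H791/CaseTwo
section
/-!
# The extraspecial case is impossible for `p ≥ 5` (helper791)
-/

set_option autoImplicit false

namespace Cfsg.Agent.H791

open Subgroup
open scoped commutatorElement

variable {p : ℕ} [hp : Fact p.Prime]

theorem map_zOf {R N : Type*} [Group R] [Group N] {i : R →* N} (hi : Function.Injective i)
    (E : Subgroup R) : zOf (E.map i) = (zOf E).map i := by
  ext x
  rw [mem_zOf]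
  constructor
  · rintro ⟨⟨r, hr, rfl⟩, h⟩
    refine ⟨r, mem_zOf.2 ⟨hr, fun y hy => hi ?_⟩, rfl⟩
    rw [map_mul, map_mul]
    exact h _ ⟨y, hy, rfl⟩
  · rintro ⟨r, hr, rfl⟩
    have hr' := mem_zOf.1 hr
    refine ⟨⟨r, hr'.1, rfl⟩, ?_⟩
    rintro _ ⟨y, hy, rfl⟩
    rw [← map_mul, ← map_mul, hr'.2 y hy]

theorem card_map_inj {R N : Type*} [Group R] [Group N] {i : R →* N} (hi : Function.Injective i)
    (E : Subgroup R) : Nat.card (E.map i) = Nat.card E :=
  (Nat.card_congr (E.equivMapOfInjective i hi).toEquiv).symm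

omit hp in
theorem rank_of_injective {R N : Type*} [Group R] [Group N] {i : R →* N} (hi : Function.Injective i)
    (hrk : ∀ E : Subgroup N, IsElementaryAbelian p E → Nat.card E ≤ p ^ 2) :
    ∀ E : Subgroup R, IsElementaryAbelian p E → Nat.card E ≤ p ^ 2 := by
  intro E hE
  rw [← card_map_inj hi]
  refine hrk _ ⟨⟨⟨?_⟩⟩, ?_⟩
  · rintro ⟨_, x, hx, rfl⟩ ⟨_, y, hy, rfl⟩
    apply Subtype.ext
    have := congrArg Subtype.val (hE.1.1.1 ⟨x, hx⟩ ⟨y, hy⟩)
    show i x * i y = i y * i x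
    rw [← map_mul, ← map_mul]
    exact congrArg i this
  · rintro _ ⟨x, hx, rfl⟩
    rw [← map_pow, hE.2 x hx, map_one]

theorem case_two {R N : Type*} [Group R] [Group N] [Finite N] (hp5 : 5 ≤ p) (hN : IsPGroup p N)
    (hrk : ∀ E : Subgroup N, IsElementaryAbelian p E → Nat.card E ≤ p ^ 2) {i : R →* N}
    (hi : Function.Injective i) (c : N →* MulAut R) (hc : ∀ (y : N) (x : R), i (c y x) = y * i x * y⁻¹)
    (hcinn : ∀ (y : N) (x : R), c y = MulAut.conj x → y ∈ i.range)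
    (A : Subgroup (MulAut R)) (P : Subgroup A) (hPp : IsPGroup p P)
    (hcP : ∀ y : N, ∃ g ∈ P, (g : MulAut R) = c y)
    (hPc : ∀ g ∈ P, ∃ y : N, (g : MulAut R) = c y)
    (hext : ∀ h : A, (∀ g ∈ P, h * g * h⁻¹ ∈ P) →
      ∃ α : MulAut N, ∀ x, α (i x) = i ((h : MulAut R) x))
    {E : Subgroup R} (hE : E.Characteristic) (hexp : ∀ x ∈ E, x ^ p = 1) (hEc : Nat.card E = p ^ 3)
    (hZc : Nat.card (zOf E) = p) (hcl : ∀ x ∈ E, ∀ y ∈ E, ⁅x, y⁆ ∈ zOf E)
    (hinn : ∀ g : R, ∃ e ∈ E, ∀ x ∈ E, g * x * g⁻¹ = e * x * e⁻¹)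
    (hker : ∀ g ∈ A, (∀ x ∈ E, x⁻¹ * g x ∈ zOf E) → ∃ x : R, g = MulAut.conj x)
    (hdiag : HasDiag p A P E (zOf E)) : False := by
  have hp2 : p ≠ 2 := by omega
  have hR : IsPGroup p R := hN.of_injective i hi
  have hRfin : Finite R := Finite.of_injective i hi
  have hrkR := rank_of_injective hi hrk
  obtain ⟨u, huP, v, a, haE, b, hbE, haZ, hbaZ, hgen, hua, hub, -, -, -, hPab, hd⟩ := hdiag
  -- the centralizer of `E` in `R` is cyclic
  set D : Subgroup R := centralizer (E : Set R) with hD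
  have hDchar : D.Characteristic := by
    rw [characteristic_iff_le_comap]
    intro α x hx
    rw [mem_comap, hD, mem_centralizer_iff]
    intro y hy
    rw [hD, mem_centralizer_iff] at hx
    have h1 := hx (α⁻¹ y) (char_apply_mem hE α⁻¹ hy)
    have h2 := congrArg α h1
    rw [map_mul, map_mul, MulAut.apply_inv_self] at h2
    exact h2
  have hDΩ : ∀ x ∈ D, x ^ p = 1 → x ∈ zOf E := by
    intro x hx hxp
    -- the elementary abelian subgroup `Z ⟨a⟩`
    have hZel : IsElementaryAbelian p (zOf E) := by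
      refine ⟨⟨⟨fun x y => Subtype.ext ?_⟩⟩, fun x hx => hexp x (zOf_le E hx)⟩
      exact (mem_zOf.1 y.2).2 x (zOf_le E x.2)
    have h1 := Cfsg.Agent.PLocal.ZJ.isElementaryAbelian_sup_zpowers hZel (hexp a haE)
      (fun y hy => ((mem_zOf.1 hy).2 a haE).symm)
    have h2 : zOf E < zOf E ⊔ zpowers a := by
      refine lt_of_le_of_ne le_sup_left fun h => haZ ?_
      rw [h]
      exact (le_sup_right : zpowers a ≤ _) (mem_zpowers a)
    have h3 : Nat.card (zOf E ⊔ zpowers a : Subgroup R) = p ^ 2 := by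
      obtain ⟨l, hl⟩ := IsPGroup.iff_card.1 (hR.to_subgroup (zOf E ⊔ zpowers a))
      have h4 : Nat.card (zOf E) < Nat.card (zOf E ⊔ zpowers a : Subgroup R) :=
        Set.ncard_lt_ncard h2 (Set.toFinite _)
      have h5 := hrkR _ h1
      rw [hl] at h4 h5 ⊢
      rw [hZc] at h4
      have h6 : l ≤ 2 := (Nat.pow_le_pow_iff_right hp.out.one_lt).1 h5
      have h7 : 1 < l := by
        rw [← Nat.pow_lt_pow_iff_right hp.out.one_lt]
        rwa [pow_one]
      have h8 : l = 2 := by omega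
      rw [h8]
    have h4 : zOf E ⊔ zpowers a ≤ E := sup_le (zOf_le E) (by rwa [zpowers_le])
    have h5 : x ∈ zOf E ⊔ zpowers a := by
      refine mem_of_comm hrkR h1 h3 hxp fun y hy => ?_
      exact mem_centralizer_iff.1 hx y (h4 hy)
    exact mem_zOf.2 ⟨h4 h5, fun y hy => mem_centralizer_iff.1 hx y hy⟩
  have hDcyc : IsCyclic D := by
    by_contra hnc
    obtain ⟨B, -, hBel, hBc⟩ := Cfsg.Agent.S0126.result hp2 (hR.to_subgroup D) hnc
    have h1 : B.map D.subtype ≤ zOf E := by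
      rintro _ ⟨x, hx, rfl⟩
      refine hDΩ _ x.2 ?_
      rw [← map_pow, hBel.2 x hx, map_one]
    have h2 : Nat.card (B.map D.subtype) ≤ Nat.card (zOf E) := Nat.card_mono (Set.toFinite _) h1
    rw [card_map_inj D.subtype_injective, hBc, hZc] at h2
    have h3 : p ^ 2 ≤ p ^ 1 := by rwa [pow_one]
    have h4 := (Nat.pow_le_pow_iff_right hp.out.one_lt).1 h3
    omega
  obtain ⟨d, hd0⟩ := hDcyc.exists_generator
  have hDpow : ∀ (β : MulAut R), ∃ k : ℤ, ∀ x ∈ D, β x = x ^ k := by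
    intro β
    obtain ⟨k, hk⟩ := mem_zpowers_iff.1 (hd0 ⟨β d, char_apply_mem hDchar β d.2⟩)
    have hk' : (d : R) ^ k = β d := congrArg Subtype.val hk
    refine ⟨k, fun x hx => ?_⟩
    obtain ⟨l, hl⟩ := mem_zpowers_iff.1 (hd0 ⟨x, hx⟩)
    have hl' : (d : R) ^ l = x := congrArg Subtype.val hl
    rw [← hl', map_zpow, ← hk', ← zpow_mul, ← zpow_mul, mul_comm]
  have hDcommA : ∀ (β γ : MulAut R), ∀ x ∈ D, β (γ x) = γ (β x) := by
    intro β γ x hx
    obtain ⟨k, hk⟩ := hDpow β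
    obtain ⟨l, hl⟩ := hDpow γ
    rw [hl x hx, hk x hx, map_zpow, map_zpow, hk x hx, hl x hx, ← zpow_mul, ← zpow_mul, mul_comm]
  have hDabel : ∀ x ∈ D, ∀ y ∈ D, x * y = y * x := by
    intro x hx y hy
    obtain ⟨k, hk⟩ := mem_zpowers_iff.1 (hd0 ⟨x, hx⟩)
    obtain ⟨l, hl⟩ := mem_zpowers_iff.1 (hd0 ⟨y, hy⟩)
    have hk' : (d : R) ^ k = x := congrArg Subtype.val hk
    have hl' : (d : R) ^ l = y := congrArg Subtype.val hl
    rw [← hk', ← hl', ← zpow_add, ← zpow_add, add_comm]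
  have hinnD : ∀ (g : R), ∀ x ∈ D, MulAut.conj g x = x := by
    intro g x hx
    obtain ⟨e, he, hge⟩ := hinn g
    have h1 : e⁻¹ * g ∈ D := by
      rw [hD, mem_centralizer_iff]
      intro y hy
      have h2 := hge y hy
      calc y * (e⁻¹ * g) = e⁻¹ * (e * y * e⁻¹) * g := by group
        _ = e⁻¹ * (g * y * g⁻¹) * g := by rw [h2]
        _ = e⁻¹ * g * y := by group
    have h3 : e * x = x * e := mem_centralizer_iff.1 hx e he
    have h4 := hDabel _ h1 x hx
    rw [MulAut.conj_apply]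
    calc g * x * g⁻¹ = e * ((e⁻¹ * g) * x) * g⁻¹ := by group
      _ = e * (x * (e⁻¹ * g)) * g⁻¹ := by rw [h4]
      _ = (e * x) * e⁻¹ := by group
      _ = (x * e) * e⁻¹ := by rw [h3]
      _ = x := by group
  -- the action on `E / Z`
  have hZchar := zOf_char hE
  have hZn : (zOf E).Normal := normal_of_characteristic _
  let V := E ⧸ (zOf E).subgroupOf E
  have hmk : ∀ x y : E, (QuotientGroup.mk x : V) = QuotientGroup.mk y ↔ (x : R)⁻¹ * y ∈ zOf E := by
    intro x y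
    rw [QuotientGroup.eq, mem_subgroupOf]
    rfl
  let ρ : MulAut R →* MulAut V := secAut E (zOf E) hE hZchar
  have hρ : ∀ (g : MulAut R) (x : E), ρ g (QuotientGroup.mk x) =
      QuotientGroup.mk (⟨g x, char_apply_mem hE _ x.2⟩ : E) := fun g x => rfl
  have hVc : ∀ v w : V, v * w = w * v := by
    intro q r
    obtain ⟨x, rfl⟩ := QuotientGroup.mk_surjective q
    obtain ⟨y, rfl⟩ := QuotientGroup.mk_surjective r
    rw [← QuotientGroup.mk_mul, ← QuotientGroup.mk_mul, hmk]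
    have h1 := hcl _ (E.inv_mem y.2) _ (E.inv_mem x.2)
    have h2 : ⁅(y : R)⁻¹, (x : R)⁻¹⁆ = ((x * y : E) : R)⁻¹ * ((y * x : E) : R) := by
      push_cast
      rw [commutatorElement_def]
      group
    rwa [h2] at h1
  set a' : V := QuotientGroup.mk (⟨a, haE⟩ : E) with ha'
  set b' : V := QuotientGroup.mk (⟨b, hbE⟩ : E) with hb'
  have hVp : ∀ v : V, v ^ p = 1 := by
    intro v
    obtain ⟨x, rfl⟩ := QuotientGroup.mk_surjective v
    rw [← QuotientGroup.mk_pow]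
    have : x ^ p = 1 := Subtype.ext (by push_cast; exact hexp x x.2)
    rw [this, QuotientGroup.mk_one]
  have hVgen : ∀ v : V, ∃ i j : ℤ, v = a' ^ i * b' ^ j := by
    intro v
    obtain ⟨x, rfl⟩ := QuotientGroup.mk_surjective v
    obtain ⟨i, j, hij⟩ := hgen x x.2
    exact ⟨i, j, (hmk _ (⟨a, haE⟩ ^ i * ⟨b, hbE⟩ ^ j)).2 hij⟩
  have hext' : ∀ f g : MulAut V, f a' = g a' → f b' = g b' → f = g := by
    intro f g h1 h2
    apply MulEquiv.ext
    intro v
    obtain ⟨i, j, rfl⟩ := hVgen v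
    rw [map_mul, map_mul, map_zpow, map_zpow, map_zpow, map_zpow, h1, h2]
  have hkerD : ∀ (g h : A), ρ g = ρ h → ∀ x ∈ D, (g : MulAut R) x = (h : MulAut R) x := by
    intro g h hgh x hx
    have h1 : ∀ y ∈ E, y⁻¹ * ((h⁻¹ * g : A) : MulAut R) y ∈ zOf E := by
      intro y hy
      have h2 : ρ ((h⁻¹ * g : A) : MulAut R) (QuotientGroup.mk (⟨y, hy⟩ : E)) =
          QuotientGroup.mk (⟨y, hy⟩ : E) := by
        push_cast
        rw [map_mul, map_inv, hgh, inv_mul_cancel, MulAut.one_apply]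
      rw [hρ] at h2
      exact (hmk _ _).1 h2.symm
    obtain ⟨r, hr⟩ := hker _ (h⁻¹ * g).2 h1
    have h3 := hinnD r x hx
    rw [← hr] at h3
    have h4 := congrArg (h : MulAut R) h3
    have h5 : (h : MulAut R) (((h⁻¹ * g : A) : MulAut R) x) = (g : MulAut R) x := by
      push_cast
      rw [← MulAut.mul_apply, mul_inv_cancel_left]
    rwa [h5] at h4
  -- `P` acts trivially on `D`
  have hPD : ∀ g ∈ P, ∀ x ∈ D, (g : MulAut R) x = x := by
    intro g hg x hx
    obtain ⟨n, hn⟩ : ∃ n : ℤ, 2 * n ≡ 1 [ZMOD p] := by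
      refine exists_inv_mod fun h => ?_
      have h1 := Int.le_of_dvd (by norm_num) (Int.modEq_zero_iff_dvd.1 h)
      omega
    obtain ⟨h, hha, hhb, -⟩ := hd 2 n hn
    obtain ⟨hga, i, hgb⟩ := hPab g hg
    have e1 : ρ h a' = a' ^ (2 : ℤ) := by
      rw [ha', hρ]
      exact ((hmk ((⟨a, haE⟩ : E) ^ (2 : ℤ)) ⟨(h : MulAut R) a, char_apply_mem hE _ haE⟩).2 hha).symm
    have e2 : ρ h b' = b' ^ n := by
      rw [hb', hρ]
      exact ((hmk ((⟨b, hbE⟩ : E) ^ n) ⟨(h : MulAut R) b, char_apply_mem hE _ hbE⟩).2 hhb).symm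
    have e3 : ρ g a' = a' := by
      rw [ha', hρ]
      exact ((hmk _ _).2 hga).symm
    have e4 : ρ g b' = a' ^ i * b' := by
      rw [hb', hρ]
      exact ((hmk ((⟨a, haE⟩ : E) ^ i * ⟨b, hbE⟩) ⟨(g : MulAut R) b, char_apply_mem hE _ hbE⟩).2 hgb).symm
    have e5 : ∀ k : ℕ, ρ ((g : MulAut R) ^ k) a' = a' ∧ ρ ((g : MulAut R) ^ k) b' = a' ^ (i * k) * b' := by
      intro k
      induction k with
      | zero => simp
      | succ k ih =>
        refine ⟨by rw [pow_succ', map_mul, MulAut.mul_apply, ih.1, e3], ?_⟩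
        rw [pow_succ', map_mul, MulAut.mul_apply, ih.2, map_mul, map_zpow, e3, e4, ← mul_assoc,
          ← zpow_add]
        congr 2
        push_cast
        ring
    have e6 : ρ ((h * g : A) : MulAut R) = ρ ((g ^ 4 * h : A) : MulAut R) := by
      push_cast
      refine hext' _ _ ?_ ?_
      · rw [map_mul, map_mul, MulAut.mul_apply, MulAut.mul_apply, e3, e1, map_zpow, (e5 4).1]
      · rw [map_mul, map_mul, MulAut.mul_apply, MulAut.mul_apply, e4, map_mul, map_zpow, e1, e2,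
          map_zpow, (e5 4).2, (show Commute (a' ^ (i * ((4 : ℕ) : ℤ))) b' from hVc _ _).mul_zpow]
        congr 1
        rw [← zpow_mul, ← zpow_mul]
        apply zpow_congr (hVp a')
        calc 2 * i = 2 * i * 1 := by ring
          _ ≡ 2 * i * (2 * n) [ZMOD p] := Int.ModEq.mul_left _ hn.symm
          _ = i * ((4 : ℕ) : ℤ) * n := by push_cast; ring
    have e7 := hkerD _ _ e6 x hx
    push_cast at e7
    rw [MulAut.mul_apply, MulAut.mul_apply, hDcommA ((g : MulAut R) ^ 4) h x hx] at e7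
    have e8 := (h : MulAut R).injective e7
    -- `g x = g ^ 4 x`
    have e9 : ((g : MulAut R) ^ 3) x = x := by
      have h1 : (g : MulAut R) (((g : MulAut R) ^ 3) x) = (g : MulAut R) x := by
        rw [← MulAut.mul_apply, ← pow_succ', ← e8]
      exact (g : MulAut R).injective h1
    obtain ⟨k, hk⟩ := hPp ⟨g, hg⟩
    have hk' : (g : MulAut R) ^ p ^ k = 1 := by
      simpa using congrArg (fun t : P => ((t : A) : MulAut R)) hk
    have h3 : Nat.Coprime 3 (orderOf (g : MulAut R)) := by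
      refine Nat.Coprime.coprime_dvd_right (orderOf_dvd_of_pow_eq_one hk') ?_
      refine Nat.Coprime.pow_right k ?_
      rw [Nat.coprime_primes Nat.prime_three hp.out]
      omega
    obtain ⟨m, hm⟩ := exists_pow_eq_self_of_coprime h3
    have e10 : ∀ m : ℕ, (((g : MulAut R) ^ 3) ^ m) x = x := by
      intro m
      induction m with
      | zero => simp
      | succ m ih => rw [pow_succ', MulAut.mul_apply, ih, e9]
    rw [← hm]
    exact e10 m
  -- the automorphism of `N`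
  obtain ⟨m, hm⟩ : ∃ m : ℤ, 2 * m ≡ 1 [ZMOD p] := by
    refine exists_inv_mod fun h => ?_
    have h1 := Int.le_of_dvd (by norm_num) (Int.modEq_zero_iff_dvd.1 h)
    omega
  rw [mul_comm] at hm
  obtain ⟨h, -, hhb, hhP⟩ := hd m 2 hm
  obtain ⟨α, hα⟩ := hext h hhP
  obtain ⟨yu, hyu⟩ := hPc u huP
  have hZ' := map_zOf hi E
  have hEn : (E.map i).Normal := by
    refine ⟨?_⟩
    rintro _ ⟨x, hx, rfl⟩ y
    rw [← hc]
    exact ⟨_, char_apply_mem hE _ hx, rfl⟩
  have hZn' : (zOf (E.map i)).Normal := by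
    rw [hZ']
    refine ⟨?_⟩
    rintro _ ⟨x, hx, rfl⟩ y
    rw [← hc]
    exact ⟨_, char_apply_mem hZchar _ hx, rfl⟩
  have hfin := lemma_b (E := E.map i) hN hrk hEn ?_ ?_ ?_ ?_ ?_ α ?_ (e := i b) ⟨b, hbE, rfl⟩
    (g := yu) ?_ (b := 2) ?_
  · have h1 : (p : ℤ) ∣ 1 - 2 * 2 := hfin.dvd
    have h2 : (p : ℤ) ∣ 3 := by
      have h3 : (1 - 2 * 2 : ℤ) = -3 := by norm_num
      rw [h3] at h1
      exact (dvd_neg.1 h1)
    have h3 := Int.le_of_dvd (by norm_num) h2
    omega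
  · rintro _ ⟨x, hx, rfl⟩
    rw [← map_pow, hexp x hx, map_one]
  · rw [card_map_inj hi, hEc]
  · rw [hZ', card_map_inj hi, hZc]
  · rintro _ ⟨x, hx, rfl⟩ _ ⟨y, hy, rfl⟩
    rw [← map_commutatorElement, hZ']
    exact ⟨_, hcl x hx y hy, rfl⟩
  · -- the centralizer of `E` is central
    intro t ht y
    have h1 : ∀ x ∈ E, c t x = x := by
      intro x hx
      apply hi
      rw [hc, ht _ ⟨x, hx, rfl⟩, mul_inv_cancel_right]
    obtain ⟨g, hgP, hg⟩ := hcP t
    obtain ⟨r, hr⟩ := hker (c t) (hg ▸ g.2) (fun x hx => by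
      rw [h1 x hx, inv_mul_cancel]
      exact one_mem _)
    obtain ⟨x, rfl⟩ := hcinn t r hr
    have hxD : x ∈ D := by
      rw [hD, mem_centralizer_iff]
      intro y hy
      apply hi
      rw [map_mul, map_mul]
      exact (ht _ ⟨y, hy, rfl⟩).symm
    obtain ⟨g', hg'P, hg'⟩ := hcP y
    have h2 := hPD g' hg'P x hxD
    rw [hg'] at h2
    have h3 := hc y x
    rw [h2] at h3
    calc i x * y = (y * i x * y⁻¹) * y := by rw [← h3]
      _ = y * i x := by group
  · rintro _ ⟨x, hx, rfl⟩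
    rw [hα]
    exact ⟨_, char_apply_mem hE _ hx, rfl⟩
  · rw [hZ']
    rintro ⟨x, hx, hx'⟩
    have h1 : i x = i ((u : MulAut R) b * b⁻¹) := by
      rw [hx', commutatorElement_def, ← hc, ← hyu, ← map_inv, ← map_mul]
    have h2 := hi h1
    apply haZ
    -- `u b = a b z`
    have h3 : a = ((u : MulAut R) b * b⁻¹) * (b * ((a * b)⁻¹ * (u : MulAut R) b)⁻¹ * b⁻¹) := by
      group
    rw [h3, ← h2]
    exact mul_mem hx (hZn.conj_mem _ (inv_mem hub) b)
  · intro g
    have h1 : (i b ^ (2 : ℤ))⁻¹ * α (i b) ∈ zOf (E.map i) := by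
      rw [hZ', hα, ← map_zpow, ← map_inv, ← map_mul]
      exact ⟨_, hhb, rfl⟩
    rw [commutatorElement_def]
    exact mul_mem (hZn'.conj_mem _ h1 g) (inv_mem h1)

end Cfsg.Agent.H791
end

-- part: H791/Homocyclic
section
/-!
# No shears of order `p` on homocyclic groups of rank 2 and exponent at least `p ^ 2`, `p ≥ 5` (helper791)
-/

set_option autoImplicit false

namespace Cfsg.Agent.H791

open Subgroup

variable {p : ℕ} [hp : Fact p.Prime] {Q : Type*} [CommGroup Q]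

/-- `x ↦ x⁻¹ * u x` -/
def dif (u : MulAut Q) : Q →* Q where
  toFun x := x⁻¹ * u x
  map_one' := by simp
  map_mul' x y := by
    rw [map_mul, mul_inv_rev]
    exact (by
      calc y⁻¹ * x⁻¹ * (u x * u y) = (x⁻¹ * u x) * (y⁻¹ * u y) := by
            rw [mul_comm y⁻¹ x⁻¹, mul_mul_mul_comm])

theorem dif_apply (u : MulAut Q) (x : Q) : dif u x = x⁻¹ * u x := rfl

theorem apply_eq (u : MulAut Q) (x : Q) : u x = x * dif u x := by
  rw [dif_apply, mul_inv_cancel_left]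

/-- powers of a unipotent automorphism -/
theorem pow_apply_of_dif_four (u : MulAut Q) {x : Q} (h : dif u (dif u (dif u (dif u x))) = 1) (n : ℕ) :
    (u ^ n) x = x * dif u x ^ n * dif u (dif u x) ^ (n.choose 2) *
      dif u (dif u (dif u x)) ^ (n.choose 3) := by
  induction n with
  | zero => simp
  | succ n ih =>
    have e0 : u x = x * dif u x := apply_eq u x
    have e1 : u (dif u x) = dif u x * dif u (dif u x) := apply_eq u _
    have e2 : u (dif u (dif u x)) = dif u (dif u x) * dif u (dif u (dif u x)) := apply_eq u _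
    have e3 : u (dif u (dif u (dif u x))) = dif u (dif u (dif u x)) := by
      rw [apply_eq, h, mul_one]
    rw [pow_succ', MulAut.mul_apply, ih]
    simp only [map_mul, map_pow]
    rw [e3, e2, e1, e0, Nat.choose_succ_succ n 1, Nat.choose_succ_succ n 2, Nat.choose_one_right]
    simp only [mul_pow, pow_add, pow_one]
    generalize dif u x ^ n = X1
    generalize dif u (dif u x) ^ n = X2
    generalize dif u (dif u x) ^ n.choose 2 = X3
    generalize dif u (dif u (dif u x)) ^ n.choose 2 = X4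
    generalize dif u (dif u (dif u x)) ^ n.choose 3 = X5
    simp only [mul_assoc, mul_left_comm, mul_comm]

theorem exp_p_of_shear [Finite Q] (hp5 : 5 ≤ p) (hQ : IsPGroup p Q) {u v : MulAut Q} {a b : Q}
    (ha : a ^ p = 1) (hb : b ^ p = 1) (ha1 : a ≠ 1)
    (hE : ∀ x : Q, x ^ p = 1 → ∃ i j : ℤ, x = a ^ i * b ^ j)
    (hua : u a = a) (hub : u b = a * b) (hva : v a = a * b) (hup : u ^ p = 1)
    (x : Q) : x ^ p = 1 := by
  by_contra hx
  -- the set `M` of `p`-th powers of elements of order dividing `p ^ 2`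
  let M : Subgroup Q :=
    { carrier := {y | ∃ x : Q, x ^ (p ^ 2) = 1 ∧ x ^ p = y}
      one_mem' := ⟨1, one_pow _, one_pow _⟩
      mul_mem' := by
        rintro _ _ ⟨x, hx, rfl⟩ ⟨y, hy, rfl⟩
        exact ⟨x * y, by rw [mul_pow, hx, hy, mul_one], mul_pow _ _ _⟩
      inv_mem' := by
        rintro _ ⟨x, hx, rfl⟩
        exact ⟨x⁻¹, by rw [inv_pow, hx, inv_one], inv_pow _ _⟩ }
  have hMinv : ∀ (w : MulAut Q), ∀ y ∈ M, w y ∈ M := by
    rintro w _ ⟨x, hx, rfl⟩
    exact ⟨w x, by rw [← map_pow, hx, map_one], (map_pow w x p).symm⟩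
  -- a nontrivial element of `M`
  obtain ⟨m, hmM, hm1⟩ : ∃ m ∈ M, m ≠ 1 := by
    obtain ⟨k, hk⟩ := IsPGroup.iff_orderOf.1 hQ x
    have hk2 : 2 ≤ k := by
      by_contra hlt
      apply hx
      have h1 : orderOf x ∣ p := by
        rw [hk]
        calc p ^ k ∣ p ^ 1 := pow_dvd_pow _ (by omega)
          _ = p := pow_one p
      exact orderOf_dvd_iff_pow_eq_one.1 h1
    obtain ⟨l, rfl⟩ : ∃ l, k = l + 2 := ⟨k - 2, by omega⟩
    refine ⟨(x ^ p ^ l) ^ p, ⟨x ^ p ^ l, ?_, rfl⟩, ?_⟩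
    · rw [← pow_mul, ← pow_add, ← hk, pow_orderOf_eq_one]
    · rw [← pow_mul, ← pow_succ]
      intro h
      have h2 := orderOf_dvd_of_pow_eq_one h
      rw [hk] at h2
      have h3 := Nat.le_of_dvd (pow_pos hp.out.pos _) h2
      exact absurd h3 (not_le.2 (Nat.pow_lt_pow_right hp.out.one_lt (by omega)))
  have hMp : ∀ y ∈ M, y ^ p = 1 := by
    rintro _ ⟨x, hx, rfl⟩
    rw [← pow_mul, ← pow_two, hx]
  have hzM : ∀ {c : Q} {i : ℤ}, c ^ p = 1 → ¬ i ≡ 0 [ZMOD p] → c ^ i ∈ M → c ∈ M := by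
    intro c i hc hi h
    obtain ⟨j, hj⟩ := exists_inv_mod hi
    have h1 := zpow_mem h j
    rwa [← zpow_mul, zpow_congr hc hj, zpow_one] at h1
  have haM : a ∈ M := by
    obtain ⟨i, j, rfl⟩ := hE m (hMp m hmM)
    by_cases hj : j ≡ 0 [ZMOD p]
    · rw [zpow_congr hb hj, zpow_zero, mul_one] at hmM hm1
      refine hzM ha (fun hi => hm1 ?_) hmM
      rw [zpow_congr ha hi, zpow_zero]
    · have h1 := M.mul_mem (M.inv_mem hmM) (hMinv u _ hmM)
      have h2 : (a ^ i * b ^ j)⁻¹ * u (a ^ i * b ^ j) = a ^ j := by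
        rw [map_mul, map_zpow, map_zpow, hua, hub, mul_zpow]
        have : a ^ i * (a ^ j * b ^ j) = a ^ i * b ^ j * a ^ j := by
          rw [mul_comm (a ^ j) (b ^ j), mul_assoc]
        rw [this, inv_mul_cancel_left]
      rw [h2] at h1
      exact hzM ha hj h1
  have hbM : b ∈ M := by
    have h1 := M.mul_mem (M.inv_mem haM) (hMinv v _ haM)
    rwa [hva, inv_mul_cancel_left] at h1
  have hEM : ∀ x : Q, x ^ p = 1 → x ∈ M := by
    intro x hx
    obtain ⟨i, j, rfl⟩ := hE x hx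
    exact M.mul_mem (M.zpow_mem haM i) (M.zpow_mem hbM j)
  -- `dif u` squared is trivial on `E`
  have hD2 : ∀ x : Q, x ^ p = 1 → dif u (dif u x) = 1 := by
    intro x hx
    obtain ⟨i, j, rfl⟩ := hE x hx
    have h1 : dif u a = 1 := by rw [dif_apply, hua, inv_mul_cancel]
    have h2 : dif u b = a := by rw [dif_apply, hub, mul_comm a b, inv_mul_cancel_left]
    rw [map_mul, map_zpow, map_zpow, h1, h2, one_zpow, one_mul, map_zpow, h1, one_zpow]
  have hD2p : ∀ x : Q, x ^ (p ^ 2) = 1 → dif u (dif u x) ^ p = 1 := by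
    intro x hx
    rw [← map_pow, ← map_pow]
    apply hD2
    rw [← pow_mul, ← pow_two, hx]
  have hD4 : ∀ x : Q, x ^ (p ^ 2) = 1 → dif u (dif u (dif u (dif u x))) = 1 := by
    intro x hx
    obtain ⟨r, hr, hr'⟩ := hEM _ (hD2p x hx)
    rw [← hr', map_pow, map_pow]
    exact hD2p r hr
  -- conclusion
  obtain ⟨y, hy, hyb⟩ := hbM
  have h1 := pow_apply_of_dif_four u (hD4 y hy) p
  have hdvd2 : p ∣ p.choose 2 := hp.out.dvd_choose_self (by norm_num) (by omega)
  have hdvd3 : p ∣ p.choose 3 := hp.out.dvd_choose_self (by norm_num) (by omega)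
  have h2 : dif u (dif u y) ^ p.choose 2 = 1 := by
    obtain ⟨c, hc⟩ := hdvd2
    rw [hc, pow_mul, hD2p y hy, one_pow]
  have h3 : dif u (dif u (dif u y)) ^ p.choose 3 = 1 := by
    obtain ⟨c, hc⟩ := hdvd3
    rw [hc, pow_mul, ← map_pow, hD2p y hy, map_one, one_pow]
  rw [hup, MulAut.one_apply, h2, h3, mul_one, mul_one] at h1
  have h4 : dif u y ^ p = 1 := by
    have := h1.symm
    rwa [mul_eq_left] at this
  rw [← map_pow, hyb, dif_apply, hub, mul_comm a b, inv_mul_cancel_left] at h4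
  exact ha1 h4

end Cfsg.Agent.H791
end

-- part: H791/Fusion
section
/-!
# Extension of automorphisms over a normal `p`-subgroup of the automizer, and resistant groups (helper791)

* `preim S Q K`: the elements of `S` inducing on `Q` an element of `K`;
* `exists_extension_preim`: if `K` is a subgroup of `Aut_S(Q)` normalized by `Aut_F(Q)` and `Q` is receptive, every
  `α ∈ Aut_F(Q)` extends to `preim S Q K`, with values in `preim S Q K`;
* `isNormal_of_no_bad`: if no proper fully normalized centric `Q` has `O_p(Aut_F(Q)) = Inn(Q)`, then `S` is normal in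
  the saturated system `F` (Alperin's fusion theorem).
-/

set_option autoImplicit false

namespace Cfsg.Agent.H791

open Subgroup Cfsg Cfsg.FusionSystem
open Cfsg.Agent.H802

variable {Ω : Type*} [Group Ω] {S : Subgroup Ω}

/-- the elements of `S` inducing on `Q` an element of `K` -/
def preim (S Q : Subgroup Ω) (K : Subgroup (MulAut Q)) : Subgroup Ω where
  carrier := {y | y ∈ S ∧ ∃ k ∈ K, ∀ x : Q, ((k x : Q) : Ω) = y * x * y⁻¹}
  one_mem' := ⟨S.one_mem, 1, K.one_mem, fun x => by simp⟩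
  mul_mem' := by
    rintro a b ⟨ha, k, hk, hka⟩ ⟨hb, l, hl, hlb⟩
    refine ⟨S.mul_mem ha hb, k * l, K.mul_mem hk hl, fun x => ?_⟩
    rw [MulAut.mul_apply, hka, hlb]
    group
  inv_mem' := by
    rintro a ⟨ha, k, hk, hka⟩
    refine ⟨S.inv_mem ha, k⁻¹, K.inv_mem hk, fun x => ?_⟩
    have h1 := hka (k⁻¹ x)
    rw [MulAut.apply_inv_self] at h1
    rw [h1]
    group

theorem mem_preim {S Q : Subgroup Ω} {K : Subgroup (MulAut Q)} {y : Ω} :
    y ∈ preim S Q K ↔ y ∈ S ∧ ∃ k ∈ K, ∀ x : Q, ((k x : Q) : Ω) = y * x * y⁻¹ := Iff.rfl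

theorem preim_le (S Q : Subgroup Ω) (K : Subgroup (MulAut Q)) : preim S Q K ≤ S := fun _ h => h.1

theorem preim_le_normalizer (S Q : Subgroup Ω) (K : Subgroup (MulAut Q)) :
    preim S Q K ≤ normalizer (Q : Set Ω) := by
  rintro y ⟨-, k, -, hk⟩
  exact mem_normalizer_of_aut hk

theorem le_preim {Q : Subgroup Ω} (hQ : Q ≤ S) {K : Subgroup (MulAut Q)}
    (hK : ∀ x : Q, MulAut.conj x ∈ K) : Q ≤ preim S Q K := by
  intro y hy
  exact ⟨hQ hy, MulAut.conj ⟨y, hy⟩, hK _, fun x => rfl⟩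

/-- Extension of automorphisms over `preim S Q K`. -/
theorem exists_extension_preim [Finite S] {F : FusionSystem S} {Q : Subgroup Ω}
    (hQ : F.IsReceptive Q) {K : Subgroup (MulAut Q)} (hK : K ≤ autInducedBy S Q)
    (hQK : Q ≤ preim S Q K) {α : MulAut Q} (hα : α ∈ F.autGroup Q)
    (hαK : ∀ k ∈ K, α * k * α⁻¹ ∈ K) :
    ∃ ψ ∈ F.Hom (preim S Q K), (∀ (x : Ω) (hx : x ∈ Q), ψ ⟨x, hQK hx⟩ = (α ⟨x, hx⟩ : Q)) ∧
      ∀ y : preim S Q K, ψ y ∈ preim S Q K := by
  have hQS := hQ.1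
  have hfin : Finite Q := finite_of_le hQS
  have hα' := (mem_autGroup_iff F hQS α).1 hα
  obtain ⟨ψ, hψ, hψe⟩ := hQ.2 Q _ hα' (range_eq_of_mapsTo hα' (fun x => (α x).2))
  have hle : preim S Q K ≤ extender S Q (Q.subtype.comp α.toMonoidHom) := by
    intro g hg
    rw [mem_extender_iff]
    refine ⟨hg.1, preim_le_normalizer S Q K hg, ?_⟩
    obtain ⟨-, k, hk, hkg⟩ := hg
    obtain ⟨h, hh, hhe⟩ := (mem_autInducedBy_iff S Q _).1 (hK (hαK k hk))
    refine ⟨h, hh, fun x hx => ?_⟩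
    have h1 := hhe (α x)
    rw [MulAut.mul_apply, MulAut.mul_apply, MulAut.inv_apply_self] at h1
    show ((α ⟨g * x * g⁻¹, hx⟩ : Q) : Ω) = h * ((α x : Q) : Ω) * h⁻¹
    rw [← h1]
    have h3 : (⟨g * x * g⁻¹, hx⟩ : Q) = k x := Subtype.ext (hkg x).symm
    rw [h3]
  refine ⟨_, restrict_mem hψ hle, fun x hx => hψe x hx _, fun y => ?_⟩
  have hψQ : ∀ (x : Ω) (hx : x ∈ Q) (hx' : x ∈ extender S Q (Q.subtype.comp α.toMonoidHom)),
      ψ ⟨x, hx'⟩ = (α ⟨x, hx⟩ : Q) := fun x hx hx' => hψe x hx hx'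
  obtain ⟨hyS, k, hk, hky⟩ := y.2
  refine ⟨hom_apply_mem hψ _, α * k * α⁻¹, hαK k hk, fun x => ?_⟩
  have h1 : (((α * k * α⁻¹) x : Q) : Ω) = ψ ⟨((k (α⁻¹ x) : Q) : Ω), hle (hQK (k (α⁻¹ x)).2)⟩ := by
    rw [hψQ _ (k (α⁻¹ x)).2]
    rfl
  have h2 : (⟨((k (α⁻¹ x) : Q) : Ω), hle (hQK (k (α⁻¹ x)).2)⟩ :
      extender S Q (Q.subtype.comp α.toMonoidHom)) =
      ⟨(y : Ω), hle y.2⟩ * ⟨((α⁻¹ x : Q) : Ω), hle (hQK (α⁻¹ x).2)⟩ * ⟨(y : Ω), hle y.2⟩⁻¹ :=
    Subtype.ext (hky _)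
  rw [h1, h2, map_mul, map_mul, map_inv, hψQ _ (α⁻¹ x).2]
  have h3 : α (⟨((α⁻¹ x : Q) : Ω), (α⁻¹ x).2⟩ : Q) = x := MulAut.apply_inv_self _ _ _
  rw [h3]
  rfl

/-- A normal `p`-subgroup `M` of `Aut_F(Q)` containing the inner automorphisms. -/
theorem exists_extension_of_normal {p : ℕ} [Fact p.Prime] [Finite S] (hS : IsPGroup p S)
    {F : FusionSystem S} (hF : F.IsSaturated p) {Q : Subgroup Ω} (hQ : F.IsFullyNormalized Q)
    {M : Subgroup (F.autGroup Q)} (hM : M.Normal) (hMp : IsPGroup p M)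
    (hIM : ∀ x : Q, ∃ g ∈ M, (g : MulAut Q) = MulAut.conj x) :
    M.map (F.autGroup Q).subtype ≤ autInducedBy S Q ∧
    ∃ hQT : Q ≤ preim S Q (M.map (F.autGroup Q).subtype), ∀ α ∈ F.autGroup Q,
      ∃ ψ ∈ F.Hom (preim S Q (M.map (F.autGroup Q).subtype)),
        (∀ (x : Ω) (hx : x ∈ Q), ψ ⟨x, hQT hx⟩ = (α ⟨x, hx⟩ : Q)) ∧
        ∀ y : preim S Q (M.map (F.autGroup Q).subtype),
          ψ y ∈ preim S Q (M.map (F.autGroup Q).subtype) := by
  have hfin : Finite Q := finite_of_le hQ.1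
  obtain ⟨-, R, hR⟩ := isFullyAutomized_of_isFullyNormalized hS hF hQ
  have h1 : M ≤ R := normal_le_sylow hMp hM R
  have h2 : M.map (F.autGroup Q).subtype ≤ autInducedBy S Q := by
    rintro _ ⟨g, hg, rfl⟩
    have := h1 hg
    rw [hR] at this
    exact this
  have h3 : Q ≤ preim S Q (M.map (F.autGroup Q).subtype) := by
    refine le_preim hQ.1 fun x => ?_
    obtain ⟨g, hg, hgx⟩ := hIM x
    exact ⟨g, hg, hgx⟩
  refine ⟨h2, h3, fun α hα => ?_⟩
  refine exists_extension_preim (isReceptive_of_isFullyNormalized hS hF hQ) h2 h3 hα ?_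
  rintro _ ⟨g, hg, rfl⟩
  exact ⟨⟨α, hα⟩ * g * ⟨α, hα⟩⁻¹, hM.conj_mem g hg _, rfl⟩

/-- inner automorphisms of a subgroup of `S` belong to the system -/
theorem conj_mem_autGroup (F : FusionSystem S) {Q : Subgroup Ω} (hQ : Q ≤ S) (x : Q) :
    MulAut.conj x ∈ F.autGroup Q :=
  autInducedBy_le_autGroup F hQ ((mem_autInducedBy_iff S Q _).2 ⟨x, hQ x.2, fun _ => rfl⟩)

/-- the subgroup of inner automorphisms in `Aut_F(Q)` -/
def innIn (F : FusionSystem S) (Q : Subgroup Ω) : Subgroup (F.autGroup Q) :=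
  (MulAut.conj (G := Q)).range.subgroupOf (F.autGroup Q)

theorem mem_innIn {F : FusionSystem S} {Q : Subgroup Ω} {g : F.autGroup Q} :
    g ∈ innIn F Q ↔ ∃ x : Q, (g : MulAut Q) = MulAut.conj x := by
  rw [innIn, mem_subgroupOf]
  constructor
  · rintro ⟨x, hx⟩
    exact ⟨x, hx.symm⟩
  · rintro ⟨x, hx⟩
    exact ⟨x, hx.symm⟩

theorem innIn_normal (F : FusionSystem S) (Q : Subgroup Ω) : (innIn F Q).Normal := by
  refine ⟨fun g hg a => ?_⟩
  rw [mem_innIn] at hg ⊢
  obtain ⟨x, hx⟩ := hg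
  refine ⟨(a : MulAut Q) x, ?_⟩
  push_cast
  rw [hx]
  apply MulEquiv.ext
  intro y
  simp [MulAut.mul_apply, MulAut.conj_apply]

theorem innIn_isPGroup {p : ℕ} {F : FusionSystem S} {Q : Subgroup Ω} (hQ : IsPGroup p Q) :
    IsPGroup p (innIn F Q) := by
  have h1 : IsPGroup p (MulAut.conj (G := Q)).range := by
    rintro ⟨_, x, rfl⟩
    obtain ⟨k, hk⟩ := hQ x
    refine ⟨k, Subtype.ext ?_⟩
    show (MulAut.conj x) ^ p ^ k = 1
    rw [← map_pow, hk, map_one]
  exact h1.comap_subtype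

/-- `O_p(Aut_F(Q)) = Inn(Q)`, in elementary form -/
def NoNormal (p : ℕ) (F : FusionSystem S) (Q : Subgroup Ω) : Prop :=
  ∀ N : Subgroup (F.autGroup Q), N.Normal → IsPGroup p N → ∀ g ∈ N, ∃ x : Q,
    (g : MulAut Q) = MulAut.conj x

/-- If `O_p(Aut_F(Q)) > Inn(Q)`, every automorphism extends to a larger subgroup. -/
theorem exists_large_extension {p : ℕ} [Fact p.Prime] [Finite S] (hS : IsPGroup p S)
    {F : FusionSystem S} (hF : F.IsSaturated p) {Q : Subgroup Ω} (hQ : F.IsFullyNormalized Q)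
    (hno : ¬ NoNormal p F Q) :
    ∃ T : Subgroup Ω, T ≤ S ∧ T ≤ normalizer (Q : Set Ω) ∧ Nat.card Q < Nat.card T ∧
      ∃ hQT : Q ≤ T, ∀ α ∈ F.autGroup Q,
      ∃ ψ ∈ F.Hom T, (∀ (x : Ω) (hx : x ∈ Q), ψ ⟨x, hQT hx⟩ = (α ⟨x, hx⟩ : Q)) ∧
        ∀ y : T, ψ y ∈ T := by
  unfold NoNormal at hno
  push Not at hno
  obtain ⟨N, hN, hNp, g, hg, hgx⟩ := hno
  have hfin : Finite Q := finite_of_le hQ.1
  have hIn := innIn_normal F Q
  have hIp : IsPGroup p (innIn F Q) := innIn_isPGroup (hS.to_le hQ.1)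
  have hMn : (N ⊔ innIn F Q).Normal := sup_normal N (innIn F Q)
  have hMp : IsPGroup p (N ⊔ innIn F Q : Subgroup (F.autGroup Q)) :=
    hNp.to_sup_of_normal_right hIp
  obtain ⟨h1, hQT, h2⟩ := exists_extension_of_normal hS hF hQ hMn hMp (fun x =>
    ⟨⟨MulAut.conj x, conj_mem_autGroup F hQ.1 x⟩,
      (le_sup_right : innIn F Q ≤ _) (mem_innIn.2 ⟨x, rfl⟩), rfl⟩)
  refine ⟨_, preim_le _ _ _, preim_le_normalizer _ _ _, ?_, hQT, h2⟩
  have hfinT : Finite (preim S Q ((N ⊔ innIn F Q).map (F.autGroup Q).subtype)) :=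
    finite_of_le (preim_le _ _ _)
  have hgM : (g : MulAut Q) ∈ (N ⊔ innIn F Q).map (F.autGroup Q).subtype :=
    ⟨g, (le_sup_left : N ≤ _) hg, rfl⟩
  obtain ⟨y, hyS, hy⟩ := (mem_autInducedBy_iff S Q _).1 (h1 hgM)
  have hyT : y ∈ preim S Q ((N ⊔ innIn F Q).map (F.autGroup Q).subtype) := ⟨hyS, g, hgM, hy⟩
  have hyQ : y ∉ Q := by
    intro hyQ
    apply hgx ⟨y, hyQ⟩
    apply MulEquiv.ext
    intro x
    exact Subtype.ext (hy x)
  have hlt : Q < preim S Q ((N ⊔ innIn F Q).map (F.autGroup Q).subtype) :=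
    lt_of_le_of_ne hQT fun h => hyQ (by rw [h]; exact hyT)
  exact Set.ncard_lt_ncard hlt (Set.toFinite _)

/-- the system generated by a group of automorphisms of `S` -/
def autSystem (A : Subgroup (MulAut S)) (hA : ∀ x : S, MulAut.conj x ∈ A) : FusionSystem S where
  Hom P := {φ | ∃ hP : P ≤ S, ∃ α ∈ A, ∀ x : P, φ x = (α ⟨x, hP x.2⟩ : S)}
  le_of_mem := by
    rintro P φ ⟨hP, α, -, h⟩
    exact ⟨hP, fun x => (h x) ▸ (α _).2⟩
  injective_of_mem := by
    rintro P φ ⟨hP, α, -, h⟩ x y hxy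
    rw [h, h] at hxy
    have h1 := α.injective (Subtype.ext hxy)
    have h2 : (x : Ω) = y := congrArg (fun t : S => (t : Ω)) h1
    exact Subtype.ext h2
  conj_mem := by
    intro P g hP hg
    exact ⟨hP, MulAut.conj ⟨g, hg⟩, hA _, fun x => rfl⟩
  comp_mem := by
    rintro P Q φ ψ ⟨hP, α, hα, h⟩ ⟨hQ, β, hβ, h'⟩ hh
    refine ⟨hP, β * α, A.mul_mem hβ hα, fun x => ?_⟩
    show ψ ⟨φ x, hh x⟩ = _
    rw [h', MulAut.mul_apply]
    have h1 : (⟨φ x, hQ (hh x)⟩ : S) = α ⟨x, hP x.2⟩ := Subtype.ext (h x)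
    exact congrArg (fun t : S => ((β t : S) : Ω)) h1
  inv_mem := by
    rintro P φ ⟨hP, α, hα, h⟩
    have hr : φ.range ≤ S := by
      rintro _ ⟨x, rfl⟩
      rw [h]
      exact (α _).2
    refine ⟨S.subtype.comp ((α⁻¹ : MulAut S).toMonoidHom.comp (inclusion hr)),
      ⟨hr, α⁻¹, A.inv_mem hα, fun y => rfl⟩, fun x => ?_⟩
    show ((α⁻¹ ⟨φ x, _⟩ : S) : Ω) = x
    have h1 : (⟨φ x, hr ⟨x, rfl⟩⟩ : S) = α ⟨x, hP x.2⟩ := Subtype.ext (h x)
    have h2 : α⁻¹ (⟨φ x, hr ⟨x, rfl⟩⟩ : S) = ⟨x, hP x.2⟩ := by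
      rw [h1, MulAut.inv_apply_self]
    exact congrArg Subtype.val h2

/-- **Resistance criterion.** -/
theorem exists_aut_of_no_bad {p : ℕ} [Fact p.Prime] [Finite S] (hS : IsPGroup p S)
    {F : FusionSystem S} (hF : F.IsSaturated p)
    (h : ∀ Q : Subgroup Ω, F.IsFullyNormalized Q → F.IsCentric Q → Q ≠ S → ¬ NoNormal p F Q)
    {P : Subgroup Ω} {φ : P →* Ω} (hφ : φ ∈ F.Hom P) :
    ∃ hP : P ≤ S, ∃ α ∈ F.autGroup S, ∀ x : P, φ x = (α ⟨x, hP x.2⟩ : S) := by
  refine le_of_centric hS hF (autSystem (F.autGroup S) (conj_mem_autGroup F le_rfl)) ?_ P hφ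
  intro Q hQ hc hbig α hα
  rw [mem_autGroup_iff _ hQ.1]
  by_cases hQS : Q = S
  · subst hQS
    exact ⟨le_rfl, α, hα, fun x => rfl⟩
  · obtain ⟨T, hTS, -, hcard, hQT, hext⟩ := exists_large_extension hS hF hQ (h Q hQ hc hQS)
    obtain ⟨ψ, hψ, hψe, -⟩ := hext α hα
    exact mem_of_agree (hbig T hcard hψ) hQT (fun x hx => (hψe x hx).symm)

theorem isNormal_of_no_bad {p : ℕ} [Fact p.Prime] [Finite S] (hS : IsPGroup p S)
    {F : FusionSystem S} (hF : F.IsSaturated p)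
    (h : ∀ Q : Subgroup Ω, F.IsFullyNormalized Q → F.IsCentric Q → Q ≠ S → ¬ NoNormal p F Q) :
    F.IsNormal S := by
  refine ⟨le_rfl, fun P φ hφ => ?_⟩
  obtain ⟨hP, α, hα, hαφ⟩ := exists_aut_of_no_bad hS hF h hφ
  have hsup : P ⊔ S = S := sup_eq_right.2 hP
  have h1 := (mem_autGroup_iff F le_rfl α).1 hα
  have hle : P ⊔ S ≤ S := hsup.le
  refine ⟨(S.subtype.comp α.toMonoidHom).comp (inclusion hle), restrict_mem h1 hle, fun x => ?_, ?_⟩
  · exact (hαφ x).symm
  · ext y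
    constructor
    · rintro ⟨x, -, rfl⟩
      exact (α _).2
    · intro hy
      have h2 : (α (α⁻¹ ⟨y, hy⟩) : S) = ⟨y, hy⟩ := MulAut.apply_inv_self _ _ _
      refine ⟨⟨(α⁻¹ ⟨y, hy⟩ : S), (le_sup_right : S ≤ P ⊔ S) (α⁻¹ ⟨y, hy⟩ : S).2⟩,
        (α⁻¹ ⟨y, hy⟩ : S).2, ?_⟩
      exact congrArg Subtype.val h2

end Cfsg.Agent.H791
end

-- part: H791/Bad
section
/-!
# Essential-like subgroups of `p`-groups of rank at most 2 (helper791)
-/

set_option autoImplicit false

namespace Cfsg.Agent.H791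

open Subgroup Cfsg Cfsg.FusionSystem
open Cfsg.Agent.H802
open scoped commutatorElement

variable {Ω : Type*} [Group Ω] {S : Subgroup Ω} {p : ℕ} [hp : Fact p.Prime]

omit hp in
theorem rank_le {T : Subgroup Ω} (hT : T ≤ S)
    (hrk : ∀ E : Subgroup Ω, E ≤ S → IsElementaryAbelian p E → Nat.card E ≤ p ^ 2) :
    ∀ E : Subgroup T, IsElementaryAbelian p E → Nat.card E ≤ p ^ 2 := by
  intro E hE
  rw [← card_map_inj T.subtype_injective]
  refine hrk _ ((map_subtype_le E).trans hT) ⟨⟨⟨?_⟩⟩, ?_⟩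
  · rintro ⟨_, x, hx, rfl⟩ ⟨_, y, hy, rfl⟩
    apply Subtype.ext
    have h1 : x * y = y * x := congrArg Subtype.val (hE.1.1.1 ⟨x, hx⟩ ⟨y, hy⟩)
    exact congrArg (fun t : T => (t : Ω)) h1
  · rintro _ ⟨x, hx, rfl⟩
    rw [← map_pow, hE.2 x hx, map_one]

/-- the Sylow subgroup `Aut_S(Q)` and an element outside `Inn(Q)` -/
theorem exists_sylow_of_centric [Finite S] (hS : IsPGroup p S)
    {F : FusionSystem S} (hF : F.IsSaturated p) {Q : Subgroup Ω} (hQ : F.IsFullyNormalized Q)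
    (hc : F.IsCentric Q) (hne : Q ≠ S) :
    ∃ P : Sylow p (F.autGroup Q), (P : Subgroup (F.autGroup Q)) =
      (autInducedBy S Q).subgroupOf (F.autGroup Q) ∧
      (∃ g ∈ P, ∀ x : Q, (g : MulAut Q) ≠ MulAut.conj x) := by
  obtain ⟨-, P, hP⟩ := isFullyAutomized_of_isFullyNormalized hS hF hQ
  refine ⟨P, hP, ?_⟩
  have hlt := card_lt_card_normalizerIn hS hQ.1 hne
  obtain ⟨y, hyN, hyQ⟩ : ∃ y ∈ normalizerIn S Q, y ∉ Q := by
    by_contra hcon
    push Not at hcon
    have hfin : Finite Q := finite_of_le hQ.1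
    have h1 : Nat.card (normalizerIn S Q) ≤ Nat.card Q := Nat.card_mono (Set.toFinite _) hcon
    omega
  obtain ⟨α, hα⟩ := exists_conjAut hyN.2
  have hαS : α ∈ autInducedBy S Q := (mem_autInducedBy_iff S Q α).2 ⟨y, hyN.1, hα⟩
  refine ⟨⟨α, autInducedBy_le_autGroup F hQ.1 hαS⟩, ?_, fun x hx => hyQ ?_⟩
  · rw [← SetLike.mem_coe, ← Sylow.coe_coe, SetLike.mem_coe, hP]
    exact hαS
  · have hx' : α = MulAut.conj x := hx
    have h1 : (x : Ω)⁻¹ * y ∈ centralizerIn S Q := by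
      refine ⟨S.mul_mem (S.inv_mem (hQ.1 x.2)) hyN.1, mem_centralizer_iff.2 fun z hz => ?_⟩
      have h2 := hα ⟨z, hz⟩
      rw [hx'] at h2
      have h3 : (x : Ω) * z * (x : Ω)⁻¹ = y * z * y⁻¹ := h2
      calc z * ((x : Ω)⁻¹ * y) = (x : Ω)⁻¹ * ((x : Ω) * z * (x : Ω)⁻¹) * y := by group
        _ = (x : Ω)⁻¹ * (y * z * y⁻¹) * y := by rw [h3]
        _ = (x : Ω)⁻¹ * y * z := by group
    have h2 := hc.2 Q (isConj_refl F hQ.1) h1
    have h3 := Q.mul_mem x.2 h2
    rwa [mul_inv_cancel_left] at h3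

/-- the hypotheses of `structure_of_rank_two` -/
theorem bad_structure [Finite S] (hp2 : p ≠ 2) (hS : IsPGroup p S)
    {F : FusionSystem S} (hF : F.IsSaturated p)
    (hrk : ∀ E : Subgroup Ω, E ≤ S → IsElementaryAbelian p E → Nat.card E ≤ p ^ 2)
    {Q : Subgroup Ω} (hQ : F.IsFullyNormalized Q) (hc : F.IsCentric Q) (hne : Q ≠ S)
    (hno : NoNormal p F Q) :
    ∃ P : Sylow p (F.autGroup Q), (P : Subgroup (F.autGroup Q)) =
      (autInducedBy S Q).subgroupOf (F.autGroup Q) ∧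
      (CaseOne p (F.autGroup Q) P ∨ CaseTwo p (F.autGroup Q) P) := by
  obtain ⟨P, hP, hg⟩ := exists_sylow_of_centric hS hF hQ hc hne
  have hfin : Finite Q := finite_of_le hQ.1
  exact ⟨P, hP, structure_of_rank_two hp2 (hS.to_le hQ.1) (rank_le hQ.1 hrk) _
    (conj_mem_autGroup F hQ.1) hno P hg⟩

/-- for `p ≥ 5` only the first case -/
theorem bad_not_case_two [Finite S] (hp5 : 5 ≤ p) (hS : IsPGroup p S)
    {F : FusionSystem S} (hF : F.IsSaturated p)
    (hrk : ∀ E : Subgroup Ω, E ≤ S → IsElementaryAbelian p E → Nat.card E ≤ p ^ 2)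
    {Q : Subgroup Ω} (hQ : F.IsFullyNormalized Q) (hc : F.IsCentric Q)
    (P : Sylow p (F.autGroup Q)) (hP : (P : Subgroup (F.autGroup Q)) =
      (autInducedBy S Q).subgroupOf (F.autGroup Q)) : ¬ CaseTwo p (F.autGroup Q) P := by
  rintro ⟨E, hE, hexp, hEc, hZc, hcl, -, hinn, hker, hdiag⟩
  have hfinN : Finite (normalizerIn S Q) := finite_of_le inf_le_left
  have hfin : Finite Q := finite_of_le hQ.1
  have hmemP : ∀ g : F.autGroup Q, g ∈ (P : Subgroup (F.autGroup Q)) ↔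
      (g : MulAut Q) ∈ autInducedBy S Q := by
    intro g
    rw [hP, mem_subgroupOf]
  refine case_two (R := Q) (N := normalizerIn S Q) hp5 (hS.to_le inf_le_left)
    (rank_le inf_le_left hrk) (i := inclusion (le_normalizerIn hQ.1)) (inclusion_injective _)
    (Q.normalizerMonoidHom.comp (inclusion (inf_le_right : normalizerIn S Q ≤ _))) (fun y x => rfl)
    ?_ (F.autGroup Q) P P.isPGroup' ?_ ?_ ?_ hE hexp hEc hZc hcl hinn hker hdiag
  · intro y x hyx
    -- `x⁻¹ y` centralizes `Q`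
    have h1 : (x : Ω)⁻¹ * y ∈ centralizerIn S Q := by
      refine ⟨S.mul_mem (S.inv_mem (hQ.1 x.2)) y.2.1, mem_centralizer_iff.2 fun z hz => ?_⟩
      have h2 : (y : Ω) * z * (y : Ω)⁻¹ = x * z * (x : Ω)⁻¹ := by
        have h3 := congrArg (fun f : MulAut Q => ((f ⟨z, hz⟩ : Q) : Ω)) hyx
        exact h3
      calc z * ((x : Ω)⁻¹ * y) = (x : Ω)⁻¹ * ((x : Ω) * z * (x : Ω)⁻¹) * y := by group
        _ = (x : Ω)⁻¹ * (y * z * (y : Ω)⁻¹) * y := by rw [h2]
        _ = (x : Ω)⁻¹ * y * z := by group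
    have h2 := hc.2 Q (isConj_refl F hQ.1) h1
    have h3 := Q.mul_mem x.2 h2
    rw [mul_inv_cancel_left] at h3
    exact ⟨⟨y, h3⟩, rfl⟩
  · intro y
    have h1 : (Q.normalizerMonoidHom.comp (inclusion (inf_le_right : normalizerIn S Q ≤ _))) y ∈
        autInducedBy S Q := (mem_autInducedBy_iff S Q _).2 ⟨y, y.2.1, fun x => rfl⟩
    exact ⟨⟨_, autInducedBy_le_autGroup F hQ.1 h1⟩, (hmemP _).2 h1, rfl⟩
  · intro g hg
    obtain ⟨y, hy, hyg⟩ := (mem_autInducedBy_iff S Q _).1 ((hmemP g).1 hg)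
    have hyN : y ∈ normalizerIn S Q := ⟨hy, mem_normalizer_of_aut hyg⟩
    refine ⟨⟨y, hyN⟩, ?_⟩
    apply MulEquiv.ext
    intro x
    exact Subtype.ext (hyg x)
  · intro h hh
    obtain ⟨ψ, hψ, hψe⟩ := exists_extension_of_normalizes
      (isReceptive_of_isFullyNormalized hS hF hQ) h.2 (fun δ hδ => by
        have h1 := hh ⟨δ, autInducedBy_le_autGroup F hQ.1 hδ⟩ ((hmemP _).2 hδ)
        exact (hmemP _).1 h1)
    have h1 : ∀ y : normalizerIn S Q, ψ y ∈ normalizerIn S Q := by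
      refine apply_mem_normalizerIn (P := Q)
        (φ := Q.subtype.comp (h : MulAut Q).toMonoidHom) hψ (le_normalizerIn hQ.1) inf_le_right ?_
        (fun x hx => hψe x hx _)
      exact range_eq_of_mapsTo ((mem_autGroup_iff F hQ.1 _).1 h.2) (fun x => ((h : MulAut Q) x).2)
    obtain ⟨α, -, hα⟩ := exists_aut hψ (range_eq_of_mapsTo hψ h1)
    refine ⟨α, fun x => Subtype.ext ?_⟩
    rw [hα]
    exact hψe x x.2 _

/-- for `p ≥ 5` bad subgroups are elementary abelian of order `p ^ 2` -/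
theorem bad_elementary [Finite S] (hp5 : 5 ≤ p) (hS : IsPGroup p S)
    {F : FusionSystem S} (hF : F.IsSaturated p)
    (hrk : ∀ E : Subgroup Ω, E ≤ S → IsElementaryAbelian p E → Nat.card E ≤ p ^ 2)
    {Q : Subgroup Ω} (hQ : F.IsFullyNormalized Q) (hc : F.IsCentric Q) (hne : Q ≠ S)
    (hno : NoNormal p F Q) :
    ∃ P : Sylow p (F.autGroup Q), (P : Subgroup (F.autGroup Q)) =
      (autInducedBy S Q).subgroupOf (F.autGroup Q) ∧ Nat.card Q = p ^ 2 ∧ (∀ x : Q, x ^ p = 1) ∧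
      (∀ x y : Q, x * y = y * x) ∧ HasDiag p (F.autGroup Q) P ⊤ ⊥ := by
  have hp2 : p ≠ 2 := by omega
  obtain ⟨P, hP, h1 | h2⟩ := bad_structure hp2 hS hF hrk hQ hc hne hno
  · have hfin : Finite Q := finite_of_le hQ.1
    refine ⟨P, hP, ?_⟩
    obtain ⟨E, hE, hEchar, hEc, hcomm, -, hfaith, hdiag⟩ := h1
    let _ : CommGroup Q := { (inferInstance : Group Q) with mul_comm := hcomm }
    have hexp : ∀ x : Q, x ^ p = 1 := by
      obtain ⟨u, huP, v, a, haE, b, hbE, haZ, -, hgen, hua, hub, hva, hvb, -⟩ := hdiag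
      rw [mem_bot, inv_mul_eq_one] at hua hub hva
      have hap : a ^ p = 1 := (hE a).1 haE
      have hbp : b ^ p = 1 := (hE b).1 hbE
      have hup : (u : MulAut Q) ^ p = 1 := by
        refine hfaith _ (pow_mem u.2 p) fun x hx => ?_
        obtain ⟨i, j, hij⟩ := hgen x hx
        rw [mem_bot, inv_mul_eq_one] at hij
        have key : ∀ n : ℕ, ((u : MulAut Q) ^ n) a = a ∧ ((u : MulAut Q) ^ n) b = a ^ n * b := by
          intro n
          induction n with
          | zero => simp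
          | succ n ih =>
            refine ⟨by rw [pow_succ', MulAut.mul_apply, ih.1, ← hua], ?_⟩
            rw [pow_succ', MulAut.mul_apply, ih.2, map_mul, map_pow, ← hua, ← hub, ← mul_assoc,
              pow_succ]
        rw [hij, map_mul, map_zpow, map_zpow, (key p).1, (key p).2, hap, one_mul]
      exact exp_p_of_shear hp5 (hS.to_le hQ.1) hap hbp (fun h => haZ (by rw [h]; exact one_mem _))
        (fun x hx => by
          obtain ⟨i, j, hij⟩ := hgen x ((hE x).2 hx)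
          rw [mem_bot, inv_mul_eq_one] at hij
          exact ⟨i, j, hij⟩) hua.symm hub.symm hva.symm hup
    have hEtop : E = ⊤ := (eq_top_iff' E).2 fun x => (hE x).2 (hexp x)
    subst hEtop
    rw [card_top] at hEc
    exact ⟨hEc, hexp, hcomm, hdiag⟩
  · exact absurd h2 (bad_not_case_two hp5 hS hF hrk hQ hc P hP)

end Cfsg.Agent.H791
end

-- part: H791/Resist
section
/-!
# `p`-groups of rank 2 are resistant for `p ≥ 5`, except the extraspecial one (helper791)
-/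

set_option autoImplicit false

namespace Cfsg.Agent.H791

open Subgroup Cfsg Cfsg.FusionSystem
open Cfsg.Agent.H802
open scoped commutatorElement

variable {p : ℕ} [hp : Fact p.Prime]

/-- a group of order `p ^ 3` has class at most 2 -/
theorem comm_mem_center {G : Type*} [Group G] (hG : Nat.card G = p ^ 3) (x y : G) :
    ⁅x, y⁆ ∈ center G := by
  have hfin : Finite G := Nat.finite_of_card_ne_zero (by rw [hG]; exact pow_ne_zero _ hp.out.ne_zero)
  have hGp : IsPGroup p G := IsPGroup.of_card hG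
  obtain ⟨k, hk0, hk⟩ := IsPGroup.card_center_eq_prime_pow hG (by norm_num)
  have h1 := card_eq_card_quotient_mul_card_subgroup (center G)
  rw [hG, hk] at h1
  obtain ⟨l, hl⟩ := IsPGroup.iff_card.1 (hGp.to_quotient (center G))
  rw [hl, ← pow_add] at h1
  have h2 : 3 = l + k := Nat.pow_right_injective hp.out.two_le h1
  have hcomm : ∀ a b : G ⧸ center G, a * b = b * a := by
    have h3 : l = 0 ∨ l = 1 ∨ l = 2 := by omega
    rcases h3 with rfl | rfl | rfl
    · rw [pow_zero] at hl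
      have := (Nat.card_eq_one_iff_unique.1 hl).1
      intro a b
      exact Subsingleton.elim _ _
    · rw [pow_one] at hl
      have hcyc : IsCyclic (G ⧸ center G) := isCyclic_of_prime_card hl
      intro a b
      obtain ⟨g, hg⟩ := hcyc.exists_generator
      obtain ⟨i, rfl⟩ := mem_zpowers_iff.1 (hg a)
      obtain ⟨j, rfl⟩ := mem_zpowers_iff.1 (hg b)
      rw [← zpow_add, ← zpow_add, add_comm]
    · have := IsPGroup.isMulCommutative_of_card_eq_prime_sq hl
      exact fun a b => mul_comm' a b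
  have h4 : (QuotientGroup.mk' (center G)) ⁅x, y⁆ = 1 := by
    rw [map_commutatorElement]
    exact commutatorElement_eq_one_iff_mul_comm.2 (hcomm _ _)
  exact (QuotientGroup.eq_one_iff _).1 h4

/-- a normal subgroup of order `p` of a `p`-group is central -/
theorem central_of_card_prime {N : Type*} [Group N] [Finite N] (hN : IsPGroup p N) {Z : Subgroup N}
    (hZ : Z.Normal) (hZc : Nat.card Z = p) {z : N} (hz : z ∈ Z) (y : N) : z * y = y * z := by
  have h1 : ¬ Z ≤ ⊥ := by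
    intro h
    rw [le_bot_iff.1 h, card_bot] at hZc
    exact hp.out.one_lt.ne hZc
  obtain ⟨w, hwZ, hw1, hw⟩ := exists_central_mod hN hZ (inferInstance : (⊥ : Subgroup N).Normal) h1
  rw [mem_bot] at hw1
  obtain ⟨i, rfl⟩ := exists_zpow_of_card_prime hZc hwZ hw1 hz
  have h2 := hw y
  rw [mem_bot, commutatorElement_eq_one_iff_mul_comm] at h2
  exact (show Commute y w from h2).symm.zpow_left i

variable {Ω : Type*} [Group Ω] {S : Subgroup Ω}

theorem no_bad [Finite S] (hp5 : 5 ≤ p) (hS : IsPGroup p S)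
    {F : FusionSystem S} (hF : F.IsSaturated p)
    (hrk : ∀ E : Subgroup Ω, E ≤ S → IsElementaryAbelian p E → Nat.card E ≤ p ^ 2)
    (hnotE : ¬ (Nat.card S = p ^ 3 ∧ Monoid.exponent ↥S = p))
    {Q : Subgroup Ω} (hQ : F.IsFullyNormalized Q) (hc : F.IsCentric Q) (hne : Q ≠ S)
    (hno : NoNormal p F Q) : False := by
  have hp2 : p ≠ 2 := by omega
  obtain ⟨P, hP, hQc, hQp, hQcomm, hdiag⟩ := bad_elementary hp5 hS hF hrk hQ hc hne hno
  obtain ⟨u, huP, v, a, -, b, -, ha1, hba, hgen, -, -, -, -, -, hPab, hd⟩ := hdiag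
  have hfin : Finite Q := finite_of_le hQ.1
  have hfinN : Finite (normalizerIn S Q) := finite_of_le inf_le_left
  rw [mem_bot] at ha1
  rw [sup_bot_eq] at hba
  have hmemP : ∀ g : F.autGroup Q, g ∈ (P : Subgroup (F.autGroup Q)) ↔
      (g : MulAut Q) ∈ autInducedBy S Q := by
    intro g
    rw [hP, mem_subgroupOf]
  set N := normalizerIn S Q with hNdef
  have hQN : Q ≤ N := le_normalizerIn hQ.1
  have hNS : N ≤ S := inf_le_left
  -- the action of `N` on `Q`
  have f1 : ∀ y ∈ N, y * (a : Ω) * y⁻¹ = a ∧ ∃ i : ℤ, y * (b : Ω) * y⁻¹ = (a : Ω) ^ i * b := by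
    intro y hy
    obtain ⟨α, hα⟩ := exists_conjAut hy.2
    have hαS : α ∈ autInducedBy S Q := (mem_autInducedBy_iff S Q α).2 ⟨y, hy.1, hα⟩
    obtain ⟨h1, i, h2⟩ := hPab ⟨α, autInducedBy_le_autGroup F hQ.1 hαS⟩ ((hmemP _).2 hαS)
    rw [mem_bot, inv_mul_eq_one] at h1 h2
    refine ⟨?_, i, ?_⟩
    · rw [← hα, ← h1]
    · rw [← hα, ← h2]
      rfl
  have f2 : ∀ x : Q, ∃ i j : ℤ, x = a ^ i * b ^ j := by
    intro x
    obtain ⟨i, j, hij⟩ := hgen x (mem_top x)
    rw [mem_bot, inv_mul_eq_one] at hij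
    exact ⟨i, j, hij⟩
  have f3 : ∀ t ∈ S, t * (a : Ω) = a * t → t * (b : Ω) = b * t → t ∈ Q := by
    intro t ht h1 h2
    refine hc.2 Q (isConj_refl F hQ.1) ⟨ht, mem_centralizer_iff.2 fun z hz => ?_⟩
    obtain ⟨i, j, hij⟩ := f2 ⟨z, hz⟩
    have h3 : z = (a : Ω) ^ i * (b : Ω) ^ j := congrArg Subtype.val hij
    rw [h3]
    exact (((show Commute t a from h1).zpow_right i).mul_right
      ((show Commute t b from h2).zpow_right j)).symm
  -- the order of `N`
  have hNp : IsPGroup p N := hS.to_le hNS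
  have hcaS : ∀ y ∈ N, Commute y (a : Ω) := by
    intro y hy
    have := (f1 y hy).1
    exact mul_inv_eq_iff_eq_mul.1 this
  have hNc : Nat.card N = p ^ 3 := by
    have h1 : ∀ y : N, (y : Ω) * b * (y : Ω)⁻¹ * (b : Ω)⁻¹ ∈ zpowers (a : Ω) := by
      intro y
      obtain ⟨i, hi⟩ := (f1 y y.2).2
      rw [hi, mul_inv_cancel_right]
      exact ⟨i, rfl⟩
    let f : N →* zpowers (a : Ω) :=
      { toFun := fun y => ⟨(y : Ω) * b * (y : Ω)⁻¹ * (b : Ω)⁻¹, h1 y⟩
        map_one' := Subtype.ext (by simp)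
        map_mul' := fun y z => Subtype.ext (by
          show ((y : Ω) * z) * b * ((y : Ω) * z)⁻¹ * (b : Ω)⁻¹ = ((y : Ω) * b * (y : Ω)⁻¹ * (b : Ω)⁻¹) *
            ((z : Ω) * b * (z : Ω)⁻¹ * (b : Ω)⁻¹)
          obtain ⟨i, hi⟩ := (f1 y y.2).2
          obtain ⟨j, hj⟩ := (f1 z z.2).2
          have e1 : ((y : Ω) * z) * b * ((y : Ω) * z)⁻¹ = y * (z * b * (z : Ω)⁻¹) * (y : Ω)⁻¹ := by
            group
          have e2 : (y : Ω) * (a : Ω) ^ j = (a : Ω) ^ j * y := (hcaS y y.2).zpow_right j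
          rw [e1, hj, hi]
          calc (y : Ω) * ((a : Ω) ^ j * b) * (y : Ω)⁻¹ * (b : Ω)⁻¹
              = ((y : Ω) * (a : Ω) ^ j) * b * (y : Ω)⁻¹ * (b : Ω)⁻¹ := by group
            _ = (a : Ω) ^ j * (y * b * (y : Ω)⁻¹) * (b : Ω)⁻¹ := by rw [e2]; group
            _ = (a : Ω) ^ j * ((a : Ω) ^ i * b) * (b : Ω)⁻¹ := by rw [hi]
            _ = (a : Ω) ^ i * (b : Ω) * (b : Ω)⁻¹ * ((a : Ω) ^ j * b * (b : Ω)⁻¹) := by
              rw [mul_inv_cancel_right, mul_inv_cancel_right, ← mul_assoc, mul_inv_cancel_right,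
                ← zpow_add, ← zpow_add, add_comm]) }
    have hker : Nat.card f.ker ≤ p ^ 2 := by
      rw [← hQc]
      refine Nat.card_le_card_of_injective (fun y : f.ker => (⟨((y : N) : Ω), ?_⟩ : Q)) ?_
      · have h2 : f (y : N) = 1 := y.2
        have h3 : ((y : N) : Ω) * b * ((y : N) : Ω)⁻¹ * (b : Ω)⁻¹ = 1 := congrArg Subtype.val h2
        refine f3 _ (hNS (y : N).2) (hcaS _ (y : N).2).eq ?_
        exact mul_inv_eq_iff_eq_mul.1 (mul_inv_eq_one.1 h3)
      · intro y z hyz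
        have := congrArg Subtype.val hyz
        exact Subtype.ext (Subtype.ext this)
    have hap : Nat.card (zpowers (a : Ω)) = p := by
      rw [Nat.card_zpowers]
      refine orderOf_eq_prime ?_ ?_
      · exact congrArg Subtype.val (hQp a)
      · intro h
        exact ha1 (Subtype.ext h)
    have hrange : Nat.card f.range ≤ p := by
      have hfin' : Finite (zpowers (a : Ω)) :=
        Nat.finite_of_card_ne_zero (by rw [hap]; exact hp.out.ne_zero)
      rw [← hap]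
      exact card_le_card_group f.range
    have hcard : Nat.card N ≤ p ^ 3 := by
      have h1 : Nat.card N = Nat.card f.ker * Nat.card f.range := by
        rw [card_eq_card_quotient_mul_card_subgroup f.ker, mul_comm]
        congr 1
        exact Nat.card_congr (QuotientGroup.quotientKerEquivRange f).toEquiv
      rw [h1]
      calc Nat.card f.ker * Nat.card f.range ≤ p ^ 2 * p := Nat.mul_le_mul hker hrange
        _ = p ^ 3 := by ring
    have hlt := card_lt_card_normalizerIn hS hQ.1 hne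
    obtain ⟨l, hl⟩ := IsPGroup.iff_card.1 hNp
    rw [← hNdef, hQc, hl] at hlt
    rw [hl] at hcard ⊢
    have h3 : l ≤ 3 := (Nat.pow_le_pow_iff_right hp.out.one_lt).1 hcard
    have h4 : 2 < l := (Nat.pow_lt_pow_iff_right hp.out.one_lt).1 hlt
    have h5 : l = 3 := by omega
    rw [h5]
  -- extension of elements of `Aut_F(Q)` normalizing `Aut_S(Q)`
  have hext : ∀ h : F.autGroup Q, (∀ g ∈ P, h * g * h⁻¹ ∈ P) →
      ∃ α ∈ F.autGroup N, ∀ x : Q, ((α ⟨x, hQN x.2⟩ : N) : Ω) = ((h : MulAut Q) x : Q) := by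
    intro h hh
    obtain ⟨ψ, hψ, hψe⟩ := exists_extension_of_normalizes
      (isReceptive_of_isFullyNormalized hS hF hQ) h.2 (fun δ hδ => by
        have h1 := hh ⟨δ, autInducedBy_le_autGroup F hQ.1 hδ⟩ ((hmemP _).2 hδ)
        exact (hmemP _).1 h1)
    have h1 : ∀ y : normalizerIn S Q, ψ y ∈ normalizerIn S Q := by
      refine apply_mem_normalizerIn (P := Q)
        (φ := Q.subtype.comp (h : MulAut Q).toMonoidHom) hψ (le_normalizerIn hQ.1) inf_le_right ?_
        (fun x hx => hψe x hx _)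
      exact range_eq_of_mapsTo ((mem_autGroup_iff F hQ.1 _).1 h.2) (fun x => ((h : MulAut Q) x).2)
    obtain ⟨α, hαF, hα⟩ := exists_aut hψ (range_eq_of_mapsTo hψ h1)
    exact ⟨α, hαF, fun x => by rw [hα]; exact hψe x x.2 _⟩
  -- the exponent of `N`
  have hNexp : ∀ y ∈ N, y ^ p = 1 := by
    intro y hy
    obtain ⟨h, hha, hhb, hhP⟩ := hd (-1) (-1) (by norm_num)
    rw [mem_bot, inv_mul_eq_one, zpow_neg_one] at hha hhb
    obtain ⟨α, -, hα⟩ := hext h hhP
    have hinv : ∀ x : Q, (h : MulAut Q) x = x⁻¹ := by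
      intro x
      obtain ⟨i, j, rfl⟩ := f2 x
      rw [map_mul, map_zpow, map_zpow, ← hha, ← hhb, mul_inv_rev, inv_zpow, inv_zpow]
      exact hQcomm _ _
    have hαQ : ∀ (x : Ω) (hx : x ∈ Q), ((α ⟨x, hQN hx⟩ : N) : Ω) = x⁻¹ := by
      intro x hx
      rw [hα ⟨x, hx⟩, hinv]
      rfl
    set y' : N := ⟨y, hy⟩ with hy'
    obtain ⟨i, hi⟩ := (f1 y hy).2
    -- `α y` acts on `Q` as `y`
    have h1 : ((α y' : N) : Ω) * (b : Ω)⁻¹ * ((α y' : N) : Ω)⁻¹ = ((a : Ω) ^ i * b)⁻¹ := by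
      have e1 : ((α (y' * ⟨b, hQN b.2⟩ * y'⁻¹) : N) : Ω) =
          ((α y' : N) : Ω) * (b : Ω)⁻¹ * ((α y' : N) : Ω)⁻¹ := by
        rw [map_mul, map_mul, map_inv]
        push_cast
        rw [hαQ b b.2]
      have e2 : (y' * ⟨b, hQN b.2⟩ * y'⁻¹ : N) = ⟨(a : Ω) ^ i * b, hQN (a ^ i * b : Q).2⟩ :=
        Subtype.ext hi
      rw [← e1, e2]
      exact hαQ _ (a ^ i * b : Q).2
    have h2 : ((α y' : N) : Ω) * (b : Ω) * ((α y' : N) : Ω)⁻¹ = y * b * y⁻¹ := by
      rw [hi]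
      have := congrArg (fun t => t⁻¹) h1
      simp only [mul_inv_rev, inv_inv] at this
      rw [← mul_assoc] at this
      rw [this]
    have h3 : ((α y' : N) : Ω) * y⁻¹ ∈ Q := by
      refine f3 _ (hNS (N.mul_mem (α y').2 (N.inv_mem hy))) ?_ ?_
      · exact ((hcaS _ (α y').2).mul_left (hcaS y hy).inv_left).eq
      · have e3 : y⁻¹ * (((α y' : N) : Ω) * b * ((α y' : N) : Ω)⁻¹) * y = b := by
          rw [h2]
          group
        -- conjugating by `(α y) y⁻¹`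
        have e4 : ((α y' : N) : Ω)⁻¹ * (y * b * y⁻¹) * (α y' : N) = b := by
          rw [← h2]
          group
        calc ((α y' : N) : Ω) * y⁻¹ * b
            = ((α y' : N) : Ω) * (y⁻¹ * b * y) * y⁻¹ := by group
          _ = b * (((α y' : N) : Ω) * y⁻¹) := by
            -- use the inverse automorphism relation
            have e5 : ((α y' : N) : Ω) * (y⁻¹ * b * y) * ((α y' : N) : Ω)⁻¹ = b := by
              obtain ⟨j, hj⟩ := (f1 y⁻¹ (N.inv_mem hy)).2
              rw [inv_inv] at hj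
              rw [hj]
              have e6 : ((α y' : N) : Ω) * ((a : Ω) ^ j * b) * ((α y' : N) : Ω)⁻¹ =
                  (a : Ω) ^ j * (((α y' : N) : Ω) * b * ((α y' : N) : Ω)⁻¹) := by
                have e7 : ((α y' : N) : Ω) * (a : Ω) ^ j = (a : Ω) ^ j * (α y' : N) :=
                  (hcaS _ (α y').2).zpow_right j
                calc ((α y' : N) : Ω) * ((a : Ω) ^ j * b) * ((α y' : N) : Ω)⁻¹
                    = (((α y' : N) : Ω) * (a : Ω) ^ j) * b * ((α y' : N) : Ω)⁻¹ := by group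
                  _ = _ := by rw [e7]; group
              rw [e6, h2]
              have e8 : y * (a : Ω) ^ j = (a : Ω) ^ j * y := (hcaS y hy).zpow_right j
              calc (a : Ω) ^ j * (y * b * y⁻¹) = ((a : Ω) ^ j * y) * b * y⁻¹ := by group
                _ = y * ((a : Ω) ^ j * b) * y⁻¹ := by rw [← e8]; group
                _ = y * (y⁻¹ * b * y) * y⁻¹ := by rw [hj]
                _ = b := by group
            have e9 := mul_inv_eq_iff_eq_mul.1 e5
            rw [e9, mul_assoc]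
    -- `α y = q y`
    obtain ⟨q, hq, hqy⟩ : ∃ q ∈ Q, ((α y' : N) : Ω) = q * y :=
      ⟨_, h3, by rw [inv_mul_cancel_right]⟩
    -- `y ^ p ∈ Q`
    have hypQ : y ^ p ∈ Q := by
      refine f3 _ (hNS (N.pow_mem hy p)) ((hcaS y hy).pow_left p).eq ?_
      have key : ∀ n : ℕ, y ^ n * (b : Ω) * (y ^ n)⁻¹ = (a : Ω) ^ (i * n) * b := by
        intro n
        induction n with
        | zero => simp
        | succ n ih =>
          have e1 : y ^ (n + 1) * (b : Ω) * (y ^ (n + 1))⁻¹ = y * (y ^ n * b * (y ^ n)⁻¹) * y⁻¹ := by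
            rw [pow_succ']
            group
          have e2 : y * (a : Ω) ^ (i * n) = (a : Ω) ^ (i * n) * y := (hcaS y hy).zpow_right _
          rw [e1, ih]
          calc y * ((a : Ω) ^ (i * n) * b) * y⁻¹ = (y * (a : Ω) ^ (i * n)) * b * y⁻¹ := by group
            _ = (a : Ω) ^ (i * n) * (y * b * y⁻¹) := by rw [e2]; group
            _ = (a : Ω) ^ (i * n) * ((a : Ω) ^ i * b) := by rw [hi]
            _ = (a : Ω) ^ (i * (n + 1 : ℕ)) * b := by
              rw [← mul_assoc, ← zpow_add]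
              congr 2
              push_cast
              ring
      have e1 := key p
      have e2 : (a : Ω) ^ (i * (p : ℤ)) = 1 := by
        have : (a : Ω) ^ p = 1 := congrArg Subtype.val (hQp a)
        rw [mul_comm, zpow_mul, zpow_natCast, this, one_zpow]
      rw [e2, one_mul] at e1
      exact mul_inv_eq_iff_eq_mul.1 e1
    -- commutators of `y` with `Q` are powers of `a`
    have hyq : ⁅y, q⁆ ∈ zpowers (a : Ω) := by
      obtain ⟨k, l, hkl⟩ := f2 ⟨q, hq⟩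
      have hkl' : q = (a : Ω) ^ k * (b : Ω) ^ l := congrArg Subtype.val hkl
      have e1 : y * (b : Ω) ^ l * y⁻¹ = ((a : Ω) ^ i * b) ^ l := by
        rw [← hi, conj_zpow]
      have hab : Commute ((a : Ω) ^ i) (b : Ω) := by
        have := hQcomm (a ^ i) b
        exact congrArg (fun t : Q => (t : Ω)) this
      have e2 : y * (a : Ω) ^ k = (a : Ω) ^ k * y := (hcaS y hy).zpow_right _
      have e3 : ⁅y, q⁆ = (a : Ω) ^ (k + i * l - k) := by
        rw [commutatorElement_def, hkl']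
        calc y * ((a : Ω) ^ k * (b : Ω) ^ l) * y⁻¹ * ((a : Ω) ^ k * (b : Ω) ^ l)⁻¹
            = (y * (a : Ω) ^ k) * (b : Ω) ^ l * y⁻¹ * ((b : Ω) ^ l)⁻¹ * ((a : Ω) ^ k)⁻¹ := by group
          _ = (a : Ω) ^ k * (y * (b : Ω) ^ l * y⁻¹) * ((b : Ω) ^ l)⁻¹ * ((a : Ω) ^ k)⁻¹ := by
            rw [e2]; group
          _ = (a : Ω) ^ (k + i * l - k) := by
            rw [e1, hab.mul_zpow, ← mul_assoc, mul_inv_cancel_right, ← zpow_mul, ← zpow_add,
              ← zpow_neg, ← zpow_add, sub_eq_add_neg]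
      exact ⟨_, e3.symm⟩
    have hqa : Commute q (a : Ω) := hcaS q (hQN hq)
    have h4 : ((α y' : N) : Ω) ^ p = y ^ p := by
      obtain ⟨k, hk⟩ := hyq
      have hk' : (a : Ω) ^ k = ⁅y, q⁆ := hk
      rw [hqy, Cfsg.Agent.Lib.CoprimeStab.mul_pow_prime_of_class_two hp.out hp2 (x := q) (y := y)
        (by rw [← hk']; exact (hqa.zpow_right k).symm) (by rw [← hk']; exact ((hcaS y hy).zpow_right k).symm)]
      · have : q ^ p = 1 := congrArg Subtype.val (hQp ⟨q, hq⟩)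
        rw [this, one_mul]
      · have : q ^ p = 1 := congrArg Subtype.val (hQp ⟨q, hq⟩)
        rw [this]
        exact Commute.one_left y
    have h5 : ((α y' : N) : Ω) ^ p = (y ^ p)⁻¹ := by
      have e1 := hαQ _ hypQ
      rw [← e1]
      have e2 : (⟨y ^ p, hQN hypQ⟩ : N) = y' ^ p := Subtype.ext rfl
      rw [e2, map_pow]
      rfl
    rw [h4] at h5
    have h6 : (y ^ p) ^ 2 = 1 := by
      rw [pow_two]
      nth_rewrite 1 [h5]
      exact inv_mul_cancel _
    have h7 : (y ^ p) ^ p = 1 := congrArg Subtype.val (hQp ⟨_, hypQ⟩)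
    have h8 : orderOf (y ^ p) ∣ Nat.gcd 2 p := Nat.dvd_gcd (orderOf_dvd_of_pow_eq_one h6)
      (orderOf_dvd_of_pow_eq_one h7)
    have h9 : Nat.gcd 2 p = 1 := (Nat.coprime_primes Nat.prime_two hp.out).2 (Ne.symm hp2)
    rwa [h9, Nat.dvd_one, orderOf_eq_one_iff] at h8
  -- `N ≠ S`
  have hNne : N ≠ S := by
    intro h
    apply hnotE
    rw [← h]
    refine ⟨hNc, ?_⟩
    have h1 : Monoid.exponent N ∣ p := by
      rw [Monoid.exponent_dvd_iff_forall_pow_eq_one]
      intro y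
      exact Subtype.ext (hNexp y y.2)
    rcases (Nat.dvd_prime hp.out).1 h1 with h2 | h2
    · exfalso
      have h3 : Subsingleton N := Monoid.exp_eq_one_iff.1 h2
      have h4 : Nat.card N = 1 := Nat.card_of_subsingleton 1
      rw [hNc] at h4
      exact absurd h4 (Nat.one_lt_pow (by norm_num) hp.out.one_lt).ne'
    · exact h2
  -- a fully normalized conjugate of `N`
  have hNcen : F.IsCentric N := isCentric_of_le hc hQN hNS
  obtain ⟨N₁, hNN₁, hN₁⟩ := exists_isFullyNormalized hS hF hNS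
  have hN₁cen : F.IsCentric N₁ := isCentric_of_isConj hNcen hNN₁
  have hN₁c : Nat.card N₁ = p ^ 3 := by rw [← isConj_card_eq hNN₁, hNc]
  have hN₁ne : N₁ ≠ S := by
    intro h
    apply hNne
    refine eq_of_le_of_card_ge hNS ?_
    rw [← h, hN₁c, hNc]
  by_cases hno₁ : NoNormal p F N₁
  · obtain ⟨-, -, h1, -⟩ := bad_elementary hp5 hS hF hrk hN₁ hN₁cen hN₁ne hno₁
    rw [hN₁c] at h1
    have := Nat.pow_right_injective hp.out.two_le h1
    omega
  obtain ⟨T, hTS, hTn, hTc, hN₁T, hText⟩ := exists_large_extension hS hF hN₁ hno₁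
  obtain ⟨φ, hφ, hφr⟩ := hNN₁
  have hφinj := F.injective_of_mem hφ
  have hφmem : ∀ x : N, φ x ∈ N₁ := fun x => hφr ▸ ⟨x, rfl⟩
  -- the automorphism
  obtain ⟨m, hm⟩ : ∃ m : ℤ, 2 * m ≡ 1 [ZMOD p] := by
    refine exists_inv_mod fun h => ?_
    have h1 := Int.le_of_dvd (by norm_num) (Int.modEq_zero_iff_dvd.1 h)
    omega
  rw [mul_comm] at hm
  obtain ⟨h, -, hhb, hhP⟩ := hd m 2 hm
  rw [mem_bot, inv_mul_eq_one] at hhb
  obtain ⟨α, hαF, hα⟩ := hext h hhP
  have hα₁ := congr_mem_autGroup hφ hφr hαF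
  set α₁ : MulAut N₁ := MulAut.congr (isoOf φ (F.injective_of_mem hφ) hφr) α with hα₁def
  have hα₁app : ∀ x : N, α₁ ⟨φ x, hφmem x⟩ = ⟨φ (α x), hφmem _⟩ := by
    intro x
    have e1 : (⟨φ x, hφmem x⟩ : N₁) = isoOf φ (F.injective_of_mem hφ) hφr x := Subtype.ext rfl
    rw [e1, hα₁def]
    apply Subtype.ext
    show ((isoOf φ (F.injective_of_mem hφ) hφr (α ((isoOf φ (F.injective_of_mem hφ) hφr).symm
      (isoOf φ (F.injective_of_mem hφ) hφr x))) : N₁) : Ω) = φ (α x)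
    rw [MulEquiv.symm_apply_apply]
    rfl
  obtain ⟨ψ, hψ, hψe, hψT⟩ := hText α₁ hα₁
  have hfinT : Finite T := finite_of_le hTS
  obtain ⟨β, -, hβ⟩ := exists_aut hψ (range_eq_of_mapsTo hψ hψT)
  have hβ' : ∀ (x : Ω) (hx : x ∈ N₁), ((β ⟨x, hN₁T hx⟩ : T) : Ω) = (α₁ ⟨x, hx⟩ : N₁) := by
    intro x hx
    rw [hβ]
    exact hψe x hx
  -- the subgroup `E` of `T`
  have hTp : IsPGroup p T := hS.to_le hTS
  have hrkT := rank_le hTS hrk
  set E : Subgroup T := N₁.subgroupOf T with hEdef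
  have hEc : Nat.card E = p ^ 3 := by
    rw [← hN₁c]
    exact Nat.card_congr (subgroupOfEquivOfLe hN₁T).toEquiv
  have hEmem : ∀ x : T, x ∈ E ↔ (x : Ω) ∈ N₁ := fun x => mem_subgroupOf
  have hEn : E.Normal := by
    refine ⟨fun x hx y => ?_⟩
    rw [hEmem] at hx ⊢
    exact (mem_normalizer_iff.1 (hTn y.2) x).1 hx
  have hN₁exp : ∀ x ∈ N₁, x ^ p = 1 := by
    intro x hx
    rw [← hφr] at hx
    obtain ⟨y, rfl⟩ := hx
    rw [← map_pow]
    have : y ^ p = 1 := Subtype.ext (hNexp y y.2)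
    rw [this, map_one]
  have hexpE : ∀ x ∈ E, x ^ p = 1 := fun x hx => Subtype.ext (hN₁exp x ((hEmem x).1 hx))
  have hclE : ∀ x ∈ E, ∀ y ∈ E, ⁅x, y⁆ ∈ zOf E := by
    intro x hx y hy
    have h1 := comm_mem_center (G := E) hEc ⟨x, hx⟩ ⟨y, hy⟩
    rw [mem_zOf]
    refine ⟨(⁅(⟨x, hx⟩ : E), ⟨y, hy⟩⁆ : E).2, fun z hz => ?_⟩
    exact congrArg Subtype.val (mem_center_iff.1 h1 ⟨z, hz⟩)
  -- `N` is not abelian
  obtain ⟨y₀, hy₀N, hy₀⟩ : ∃ y ∈ N, ¬ (y * (b : Ω) = b * y) := by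
    by_contra hcon
    push Not at hcon
    have h1 : N ≤ Q := fun y hy => f3 y (hNS hy) (hcaS y hy).eq (hcon y hy)
    have h2 : Nat.card N ≤ Nat.card Q := Nat.card_mono (Set.toFinite _) h1
    rw [hNc, hQc] at h2
    have := (Nat.pow_le_pow_iff_right hp.out.one_lt).1 h2
    omega
  set b₁ : N := ⟨b, hQN b.2⟩ with hb₁
  set a₁ : N := ⟨a, hQN a.2⟩ with ha₁
  have hnaE : ∃ x ∈ E, ∃ y ∈ E, x * y ≠ y * x := by
    refine ⟨⟨φ ⟨y₀, hy₀N⟩, hN₁T (hφmem _)⟩, hφmem _, ⟨φ b₁, hN₁T (hφmem _)⟩, hφmem _, fun h => hy₀ ?_⟩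
    have h1 : φ ⟨y₀, hy₀N⟩ * φ b₁ = φ b₁ * φ ⟨y₀, hy₀N⟩ := congrArg Subtype.val h
    rw [← map_mul, ← map_mul] at h1
    exact congrArg Subtype.val (hφinj h1)
  obtain ⟨hZc, -⟩ := card_of_class_two hTp hrkT hexpE hclE hnaE
  -- elements of the centre
  have hZn : (zOf E).Normal := by
    refine ⟨fun z hz y => ?_⟩
    rw [mem_zOf] at hz ⊢
    refine ⟨hEn.conj_mem _ hz.1 y, fun w hw => ?_⟩
    have h1 := hz.2 (y⁻¹ * w * y⁻¹⁻¹) (hEn.conj_mem _ hw y⁻¹)
    rw [inv_inv] at h1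
    calc w * (y * z * y⁻¹) = y * ((y⁻¹ * w * y) * z) * y⁻¹ := by group
      _ = y * (z * (y⁻¹ * w * y)) * y⁻¹ := by rw [h1]
      _ = y * z * y⁻¹ * w := by group
  have hZcen : ∀ z ∈ zOf E, ∀ y : T, z * y = y * z := fun z hz y =>
    central_of_card_prime hTp hZn hZc hz y
  set e : T := ⟨φ b₁, hN₁T (hφmem _)⟩ with hedef
  set e' : T := ⟨φ a₁, hN₁T (hφmem _)⟩ with he'def
  have he'Z : e' ∈ zOf E := by
    rw [mem_zOf]
    refine ⟨hφmem _, fun y hy => Subtype.ext ?_⟩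
    rw [hEmem, ← hφr] at hy
    obtain ⟨y', hy'⟩ := hy
    show (y : Ω) * φ a₁ = φ a₁ * y
    rw [← hy', ← map_mul, ← map_mul]
    congr 1
    exact Subtype.ext (hcaS _ y'.2).eq
  have he'1 : e' ≠ 1 := by
    intro h1
    have h2 : φ a₁ = 1 := congrArg Subtype.val h1
    have h3 : a₁ = 1 := hφinj (by rw [h2, map_one])
    exact ha1 (Subtype.ext (congrArg (fun t : N => (t : Ω)) h3))
  -- the image of `Q`
  set Q₁ : Subgroup Ω := (Q.subgroupOf N).map φ with hQ₁
  have hQQ₁ : F.IsConj Q Q₁ := by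
    refine ⟨φ.comp (inclusion hQN), restrict_mem hφ hQN, ?_⟩
    rw [hQ₁]
    ext x
    constructor
    · rintro ⟨y, rfl⟩
      exact ⟨inclusion hQN y, y.2, rfl⟩
    · rintro ⟨y, hy, rfl⟩
      exact ⟨⟨y, hy⟩, rfl⟩
  obtain ⟨g, hg⟩ : ∃ g : T, ⁅g, e⁆ ∉ zOf E := by
    by_contra hcon
    push Not at hcon
    have hTN : T ≤ normalizerIn S Q₁ := by
      have key : ∀ g ∈ T, ∀ x ∈ Q₁, g * x * g⁻¹ ∈ Q₁ := by
        rintro g hg _ ⟨y, hy, rfl⟩
        obtain ⟨i, j, hij⟩ := f2 ⟨y, hy⟩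
        have hy' : y = a₁ ^ i * b₁ ^ j := Subtype.ext (congrArg (fun t : Q => (t : Ω)) hij)
        have h1 := hcon ⟨g, hg⟩
        obtain ⟨k, hk⟩ := exists_zpow_of_card_prime hZc he'Z he'1 h1
        have hk' : g * φ b₁ * g⁻¹ * (φ b₁)⁻¹ = (φ a₁) ^ k := by
          have := congrArg Subtype.val hk
          exact this
        have h2 : g * φ b₁ * g⁻¹ = φ (a₁ ^ k * b₁) := by
          rw [map_mul, map_zpow, ← hk', inv_mul_cancel_right]
        have h3 : g * φ a₁ * g⁻¹ = φ a₁ := by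
          have := congrArg Subtype.val (hZcen e' he'Z ⟨g, hg⟩)
          have h4 : φ a₁ * g = g * φ a₁ := this
          rw [← h4, mul_inv_cancel_right]
        have h4 : g * φ y * g⁻¹ = φ (a₁ ^ i * (a₁ ^ k * b₁) ^ j) := by
          rw [hy', map_mul, map_zpow, map_zpow]
          have h5 : g * ((φ a₁) ^ i * (φ b₁) ^ j) * g⁻¹ =
              (g * φ a₁ * g⁻¹) ^ i * (g * φ b₁ * g⁻¹) ^ j := by
            rw [conj_zpow, conj_zpow]
            group
          rw [h5, h3, h2, map_mul φ (a₁ ^ i), map_zpow, map_zpow]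
        rw [h4]
        exact ⟨_, Q.mul_mem (Q.zpow_mem a.2 i) (Q.zpow_mem (Q.mul_mem (Q.zpow_mem a.2 k) b.2) j), rfl⟩
      intro g hg
      refine ⟨hTS hg, mem_normalizer_iff.2 fun x => ⟨key g hg x, fun hx => ?_⟩⟩
      have h1 := key g⁻¹ (T.inv_mem hg) _ hx
      have h2 : g⁻¹ * (g * x * g⁻¹) * g⁻¹⁻¹ = x := by group
      rwa [h2] at h1
    have hfinN₁ : Finite (normalizerIn S Q₁) := finite_of_le inf_le_left
    have h1 : Nat.card T ≤ Nat.card (normalizerIn S Q₁) := Nat.card_mono (Set.toFinite _) hTN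
    have h2 := hQ.2 Q₁ hQQ₁
    rw [← hNdef, hNc, ← hN₁c] at h2
    omega
  have hfin := lemma_b (E := E) hTp hrkT hEn hexpE hEc hZc hclE ?_ β ?_ (e := e) (hφmem _) hg
    (b := 2) ?_
  · have h1 : (p : ℤ) ∣ 1 - 2 * 2 := hfin.dvd
    have h2 : (p : ℤ) ∣ 3 := by
      have h3 : (1 - 2 * 2 : ℤ) = -3 := by norm_num
      rw [h3] at h1
      exact (dvd_neg.1 h1)
    have h3 := Int.le_of_dvd (by norm_num) h2
    omega
  · intro c hcE
    have h1 : (c : Ω) ∈ N₁ := by
      refine hN₁cen.2 N₁ (isConj_refl F hN₁.1) ⟨hTS c.2, mem_centralizer_iff.2 fun z hz => ?_⟩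
      exact (congrArg Subtype.val (hcE ⟨z, hN₁T hz⟩ hz)).symm
    have h2 : c ∈ zOf E := mem_zOf.2 ⟨h1, fun y hy => (hcE y hy).symm⟩
    exact hZcen c h2
  · intro x hx
    have hx' : (x : Ω) ∈ N₁ := hx
    show ((β x : T) : Ω) ∈ N₁
    have h1 := hβ' x hx'
    have h2 : (⟨(x : Ω), hN₁T hx'⟩ : T) = x := rfl
    rw [h2] at h1
    rw [h1]
    exact (α₁ _).2
  · have h1 : β e = e ^ (2 : ℤ) := by
      apply Subtype.ext
      have h2 := hβ' (φ b₁) (hφmem _)
      have h3 : (⟨φ b₁, hN₁T (hφmem _)⟩ : T) = e := rfl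
      rw [h3, hα₁app] at h2
      rw [h2]
      have h4 : α b₁ = b₁ ^ (2 : ℤ) := by
        apply Subtype.ext
        rw [hα b, ← hhb]
        rfl
      show φ (α b₁) = (φ b₁) ^ (2 : ℤ)
      rw [h4, map_zpow]
    intro g
    rw [h1, inv_mul_cancel, commutatorElement_one_right]
    exact one_mem _

end Cfsg.Agent.H791
end

-- part: S5289
section
set_option autoImplicit false
open Cfsg

namespace Cfsg.Agent.S5289

/-- Let p ≥ 5 be a prime and S a finite p-group of p-rank two (it has an elementary abelian subgroup of order p² and none of order p³) which is not the extraspecial group of order p³ and exponent p. Then S is resistant: for every saturated fusion system F over S, S is normal in F, that is, every map of F extends to an F-automorphism of S. -/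
theorem result {Ω : Type*} [Group Ω] {S : Subgroup Ω} [Finite S] (p : ℕ) [Fact p.Prime] (hS : IsPGroup p S)
    (F : Cfsg.FusionSystem S) (hF : F.IsSaturated p)
    (hp : 5 ≤ p)
    (hrank2 : ∃ E : Subgroup Ω, E ≤ S ∧ Cfsg.IsElementaryAbelian p E ∧ Nat.card E = p ^ 2)
    (hrank3 : ∀ E : Subgroup Ω, E ≤ S → Cfsg.IsElementaryAbelian p E → Nat.card E ≤ p ^ 2)
    (hnotE : ¬ (Nat.card S = p ^ 3 ∧ Monoid.exponent ↥S = p)) : F.IsNormal S :=
  Cfsg.Agent.H791.isNormal_of_no_bad hS hF fun _ hQ hc hne hno =>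
    Cfsg.Agent.H791.no_bad hp hS hF hrank3 hnotE hQ hc hne hno

end Cfsg.Agent.S5289
end
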