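import Cfsg.Agent.H698.U33.Clo.Rows_m3
import Cfsg.Agent.H995.U33.Pair_m3
import Cfsg.Agent.H264.U33.StO_mg_m3
import Cfsg.Agent.H979.U33.CloseF
import Cfsg.Agent.BMx.Bridge
import Cfsg.Agent.H405.U33.All_m3
import Cfsg.Agent.H149.U33.Inj_m3
import Cfsg.Statements.S5525
import Cfsg.Agent.BMx.Low
import Cfsg.Agent.FastGrp
import Cfsg.Agent.Prune
set_option linter.all false

-- part: H841/U33/Fin
section
set_option linter.all false
open scoped Cfsg.Agent.FastGrp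

-- part: H921/U33/TypeTwoAsm
section
/-!
# S5525, type II: assembly and tests (helper921)

* `typeII` : the box II of `H524/U33/Glue` from `core`, in the frame `c P c⁻¹`;
* `nfw` : the word of a normal form, `g_nfw`;
* `not_trip_rel` (and `not_trip_qx`, `not_trip_yq`, `not_trip_xw`) : a kernel test `ne` refutes a triple.
-/

set_option autoImplicit false

namespace Cfsg.Agent.H921.U33

open Cfsg.Agent.H819.U33 Cfsg.Agent.H863.U33 Cfsg.Agent.H524.U33
open Cfsg.Agent.BabyM.Conc Cfsg.Agent.BabyM.TransInv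

/-- **Box II.** -/
theorem typeII {y1 c : G} {e : Fin 8 → G} {t : G} {w : Fin 6 → G} {k : Fin 2 → G} {n : G}
    (hc : c⁻¹ * g wy * c = y1) (h : TB y1 e t w k n) (hNF : StNF) {u : G} (hu : c⁻¹ * g wu * c = u)
    (a : Fin 4 → G) (A : Fin 4 → Fin 8 → Fin 8 → ZMod 3)
    (C : Fin 4 → Fin 8 → ZMod 3) (hau : ∀ i, a i * u = u * a i) (hay : ∀ i, a i * y1 = y1 * a i)
    (ha1 : ∀ i, a i ≠ 1) (ha2 : ∀ i, i ≠ 3 → a i * a i = 1)
    (hae : ∀ i j, (a i)⁻¹ * e j * a i = nf y1 e (A i j) (C i j))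
    (reps : List (Fin 8 → ZMod 3)) (hrep : ∀ v ∈ reps, ∀ b, ¬ Trip u y1 (nf y1 e v b))
    (hfin : ∀ v, ∃ l : List (Fin 4), (∃ i, i ≠ 3 ∧ act (A i) (acts A v l) = acts A v l) ∨ acts A v l ∈ reps) :
    ∀ p ∈ PP y1 e, Trip (g wu) (g wy) (c * p * c⁻¹) → Cen (g wu) (g wy) (c * p * c⁻¹) := by
  intro p hp ht
  have h1 := ht.conj c
  have h2 : c⁻¹ * (c * p * c⁻¹) * c = p := by group
  rw [hc, hu, h2] at h1
  apply Cen.conj (k := c⁻¹)
  rw [inv_inv, hc, hu, h2]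
  exact core h hNF u a A C hau hay ha1 ha2 hae reps hrep hfin p hp h1

theorem g_ne_one {v : List Ltr} (h : ne v [] = true) : g v ≠ 1 := by
  intro h1
  exact ne_of h (by rw [h1, g_nil])

end Cfsg.Agent.H921.U33
end

-- part: H827/U33/GBase
section
/-! # S5525, part G: the link (helper827) -/

set_option autoImplicit false

namespace Cfsg.Agent.H827.U33

open Cfsg.Agent.BabyM.Conc Cfsg.Agent.BabyM.Inst Cfsg.Agent.BabyM.TransInv Cfsg.Agent.H819.U33 Cfsg.Agent.H863.U33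
open Cfsg.Agent.BM.StageW

private theorem batG0_0 : Cfsg.Agent.BMx.Fast.allEq [
    ((wy ++ wc), (wc ++ wy1)),
    ((wu ++ wc), (wc ++ wu1))] = true := by decide +kernel

theorem c_y : chk (wy ++ wc) (wc ++ wy1) = true :=
  Cfsg.Agent.BMx.Bridge.hd batG0_0

theorem c_u : chk (wu ++ wc) (wc ++ wu1) = true :=
  Cfsg.Agent.BMx.Bridge.hd (Cfsg.Agent.BMx.Bridge.tl batG0_0)

end Cfsg.Agent.H827.U33
end

-- part: H921/U33/TypeTwoFin
section
/-!
# S5525, box II from the kernel checks (helper921)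

`boxII_of` : the hypotheses are the kernel checks of helper827 (`GAct*`, `GRel*`) and helper109's finite check (`FinG`).
-/

set_option autoImplicit false

namespace Cfsg.Agent.H921.U33

open Cfsg.Agent.H819.U33 Cfsg.Agent.H524.U33 Cfsg.Agent.H827.U33
open Cfsg.Agent.BabyM.Conc Cfsg.Agent.BabyM.TransInv Cfsg.Agent.BM.StageW
open Cfsg.Agent.H863.U33 (PP nf eG tb we wy1 of_chk)

theorem link_y : (g wc)⁻¹ * g wy * g wc = g wy1 := by
  have h := eq_of c_y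
  rw [g_append, g_append] at h
  rw [mul_assoc, h, inv_mul_cancel_left]

theorem link_u : (g wc)⁻¹ * g wu * g wc = g wu1 := by
  have h := eq_of c_u
  rw [g_append, g_append] at h
  rw [mul_assoc, h, inv_mul_cancel_left]

theorem not_trip_rep {v : Fin 8 → ZMod 3} (hv : v ∈ repL) (b : ZMod 3) (y : G) :
    ¬ Trip (g wu1) y (nf (g wy1) eG v b) := by
  rw [← Cfsg.Agent.H863.U33.g_nfw]
  exact fun ht => Bt.nt_rep hv b ht.xw

/-- **Box II from the checks.** -/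
theorem boxII_of (hact : ∀ (i : Fin 4) (j : Fin 8), chk (we j ++ wa i) (wa i ++ Cfsg.Agent.H863.U33.nfw (AG i j) (CG i j)) = true)
    (hcu : ∀ i : Fin 4, g (wa i) * g wu1 = g wu1 * g (wa i)) (hcy : ∀ i : Fin 4, g (wa i) * g wy1 = g wy1 * g (wa i))
    (hn : ∀ i : Fin 4, g (wa i) ≠ 1) (hsq : ∀ i : Fin 4, i ≠ 3 → g (wa i) * g (wa i) = 1)
    (hfin : ∀ v, ∃ l : List (Fin 4), (∃ i, i ≠ 3 ∧ act (AG i) (acts AG v l) = acts AG v l) ∨ acts AG v l ∈ repL) :
    ∀ p ∈ PP (g wy1) eG, Trip (g wu) (g wy) (g wc * p * (g wc)⁻¹) → Cen (g wu) (g wy) (g wc * p * (g wc)⁻¹) := by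
  refine typeII link_y tb Cfsg.Agent.H649.U33.stNF link_u (fun i => g (wa i)) AG CG hcu hcy hn hsq ?_ repL ?_ hfin
  · intro i j
    exact of_chk (hact i) j
  · intro v hv b
    exact not_trip_rep hv b _

end Cfsg.Agent.H921.U33
end

-- part: H827/U33/GAct0
section
/-! # S5525, part G: action of `wa 0` (helper827) -/

set_option autoImplicit false
set_option Elab.async false

namespace Cfsg.Agent.H827.U33

open Cfsg.Agent.BabyM.Conc Cfsg.Agent.BabyM.Inst Cfsg.Agent.BabyM.TransInv Cfsg.Agent.H819.U33 Cfsg.Agent.H863.U33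
open Cfsg.Agent.BM.StageW

private theorem batG1_0 : Cfsg.Agent.BMx.Fast.allEq [
    ((we 0 ++ wa 0), (wa 0 ++ nfw (AG 0 0) (CG 0 0))),
    ((we 1 ++ wa 0), (wa 0 ++ nfw (AG 0 1) (CG 0 1)))] = true := by decide +kernel

theorem act0_0 : chk (we 0 ++ wa 0) (wa 0 ++ nfw (AG 0 0) (CG 0 0)) = true :=
  Cfsg.Agent.BMx.Bridge.hd batG1_0

theorem act0_1 : chk (we 1 ++ wa 0) (wa 0 ++ nfw (AG 0 1) (CG 0 1)) = true :=
  Cfsg.Agent.BMx.Bridge.hd (Cfsg.Agent.BMx.Bridge.tl batG1_0)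

private theorem batG1_1 : Cfsg.Agent.BMx.Fast.allEq [
    ((we 2 ++ wa 0), (wa 0 ++ nfw (AG 0 2) (CG 0 2))),
    ((we 3 ++ wa 0), (wa 0 ++ nfw (AG 0 3) (CG 0 3)))] = true := by decide +kernel

theorem act0_2 : chk (we 2 ++ wa 0) (wa 0 ++ nfw (AG 0 2) (CG 0 2)) = true :=
  Cfsg.Agent.BMx.Bridge.hd batG1_1

theorem act0_3 : chk (we 3 ++ wa 0) (wa 0 ++ nfw (AG 0 3) (CG 0 3)) = true :=
  Cfsg.Agent.BMx.Bridge.hd (Cfsg.Agent.BMx.Bridge.tl batG1_1)

private theorem batG1_2 : Cfsg.Agent.BMx.Fast.allEq [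
    ((we 4 ++ wa 0), (wa 0 ++ nfw (AG 0 4) (CG 0 4))),
    ((we 5 ++ wa 0), (wa 0 ++ nfw (AG 0 5) (CG 0 5)))] = true := by decide +kernel

theorem act0_4 : chk (we 4 ++ wa 0) (wa 0 ++ nfw (AG 0 4) (CG 0 4)) = true :=
  Cfsg.Agent.BMx.Bridge.hd batG1_2

theorem act0_5 : chk (we 5 ++ wa 0) (wa 0 ++ nfw (AG 0 5) (CG 0 5)) = true :=
  Cfsg.Agent.BMx.Bridge.hd (Cfsg.Agent.BMx.Bridge.tl batG1_2)

private theorem batG1_3 : Cfsg.Agent.BMx.Fast.allEq [
    ((we 6 ++ wa 0), (wa 0 ++ nfw (AG 0 6) (CG 0 6))),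
    ((we 7 ++ wa 0), (wa 0 ++ nfw (AG 0 7) (CG 0 7)))] = true := by decide +kernel

theorem act0_6 : chk (we 6 ++ wa 0) (wa 0 ++ nfw (AG 0 6) (CG 0 6)) = true :=
  Cfsg.Agent.BMx.Bridge.hd batG1_3

theorem act0_7 : chk (we 7 ++ wa 0) (wa 0 ++ nfw (AG 0 7) (CG 0 7)) = true :=
  Cfsg.Agent.BMx.Bridge.hd (Cfsg.Agent.BMx.Bridge.tl batG1_3)


theorem act0 (j : Fin 8) : chk (we j ++ wa 0) (wa 0 ++ nfw (AG 0 j) (CG 0 j)) = true := by
  fin_cases j
  · exact act0_0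
  · exact act0_1
  · exact act0_2
  · exact act0_3
  · exact act0_4
  · exact act0_5
  · exact act0_6
  · exact act0_7

private theorem batG2_0 : Cfsg.Agent.BMx.Fast.allEq [
    ((wa 0 ++ wu1), (wu1 ++ wa 0)),
    ((wa 0 ++ wy1), (wy1 ++ wa 0))] = true := by decide +kernel

theorem cu0 : chk (wa 0 ++ wu1) (wu1 ++ wa 0) = true :=
  Cfsg.Agent.BMx.Bridge.hd batG2_0

theorem cy0 : chk (wa 0 ++ wy1) (wy1 ++ wa 0) = true :=
  Cfsg.Agent.BMx.Bridge.hd (Cfsg.Agent.BMx.Bridge.tl batG2_0)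

theorem n1_0 : ne (wa 0) [] = true := by decide +kernel

private theorem batG3_0 : Cfsg.Agent.BMx.Fast.allEq [
    ((wa 0 ++ wa 0), [])] = true := by decide +kernel

theorem sq0 : chk (wa 0 ++ wa 0) [] = true :=
  Cfsg.Agent.BMx.Bridge.hd batG3_0

end Cfsg.Agent.H827.U33
end

-- part: H827/U33/GAct1
section
/-! # S5525, part G: action of `wa 1` (helper827) -/

set_option autoImplicit false
set_option Elab.async false

namespace Cfsg.Agent.H827.U33

open Cfsg.Agent.BabyM.Conc Cfsg.Agent.BabyM.Inst Cfsg.Agent.BabyM.TransInv Cfsg.Agent.H819.U33 Cfsg.Agent.H863.U33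
open Cfsg.Agent.BM.StageW

private theorem batG4_0 : Cfsg.Agent.BMx.Fast.allEq [
    ((we 0 ++ wa 1), (wa 1 ++ nfw (AG 1 0) (CG 1 0))),
    ((we 1 ++ wa 1), (wa 1 ++ nfw (AG 1 1) (CG 1 1)))] = true := by decide +kernel

theorem act1_0 : chk (we 0 ++ wa 1) (wa 1 ++ nfw (AG 1 0) (CG 1 0)) = true :=
  Cfsg.Agent.BMx.Bridge.hd batG4_0

theorem act1_1 : chk (we 1 ++ wa 1) (wa 1 ++ nfw (AG 1 1) (CG 1 1)) = true :=
  Cfsg.Agent.BMx.Bridge.hd (Cfsg.Agent.BMx.Bridge.tl batG4_0)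

private theorem batG4_1 : Cfsg.Agent.BMx.Fast.allEq [
    ((we 2 ++ wa 1), (wa 1 ++ nfw (AG 1 2) (CG 1 2))),
    ((we 3 ++ wa 1), (wa 1 ++ nfw (AG 1 3) (CG 1 3)))] = true := by decide +kernel

theorem act1_2 : chk (we 2 ++ wa 1) (wa 1 ++ nfw (AG 1 2) (CG 1 2)) = true :=
  Cfsg.Agent.BMx.Bridge.hd batG4_1

theorem act1_3 : chk (we 3 ++ wa 1) (wa 1 ++ nfw (AG 1 3) (CG 1 3)) = true :=
  Cfsg.Agent.BMx.Bridge.hd (Cfsg.Agent.BMx.Bridge.tl batG4_1)

private theorem batG4_2 : Cfsg.Agent.BMx.Fast.allEq [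
    ((we 4 ++ wa 1), (wa 1 ++ nfw (AG 1 4) (CG 1 4))),
    ((we 5 ++ wa 1), (wa 1 ++ nfw (AG 1 5) (CG 1 5)))] = true := by decide +kernel

theorem act1_4 : chk (we 4 ++ wa 1) (wa 1 ++ nfw (AG 1 4) (CG 1 4)) = true :=
  Cfsg.Agent.BMx.Bridge.hd batG4_2

theorem act1_5 : chk (we 5 ++ wa 1) (wa 1 ++ nfw (AG 1 5) (CG 1 5)) = true :=
  Cfsg.Agent.BMx.Bridge.hd (Cfsg.Agent.BMx.Bridge.tl batG4_2)

private theorem batG4_3 : Cfsg.Agent.BMx.Fast.allEq [
    ((we 6 ++ wa 1), (wa 1 ++ nfw (AG 1 6) (CG 1 6))),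
    ((we 7 ++ wa 1), (wa 1 ++ nfw (AG 1 7) (CG 1 7)))] = true := by decide +kernel

theorem act1_6 : chk (we 6 ++ wa 1) (wa 1 ++ nfw (AG 1 6) (CG 1 6)) = true :=
  Cfsg.Agent.BMx.Bridge.hd batG4_3

theorem act1_7 : chk (we 7 ++ wa 1) (wa 1 ++ nfw (AG 1 7) (CG 1 7)) = true :=
  Cfsg.Agent.BMx.Bridge.hd (Cfsg.Agent.BMx.Bridge.tl batG4_3)


theorem act1 (j : Fin 8) : chk (we j ++ wa 1) (wa 1 ++ nfw (AG 1 j) (CG 1 j)) = true := by
  fin_cases j
  · exact act1_0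
  · exact act1_1
  · exact act1_2
  · exact act1_3
  · exact act1_4
  · exact act1_5
  · exact act1_6
  · exact act1_7

private theorem batG5_0 : Cfsg.Agent.BMx.Fast.allEq [
    ((wa 1 ++ wu1), (wu1 ++ wa 1)),
    ((wa 1 ++ wy1), (wy1 ++ wa 1))] = true := by decide +kernel

theorem cu1 : chk (wa 1 ++ wu1) (wu1 ++ wa 1) = true :=
  Cfsg.Agent.BMx.Bridge.hd batG5_0

theorem cy1 : chk (wa 1 ++ wy1) (wy1 ++ wa 1) = true :=
  Cfsg.Agent.BMx.Bridge.hd (Cfsg.Agent.BMx.Bridge.tl batG5_0)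

theorem n1_1 : ne (wa 1) [] = true := by decide +kernel

private theorem batG6_0 : Cfsg.Agent.BMx.Fast.allEq [
    ((wa 1 ++ wa 1), [])] = true := by decide +kernel

theorem sq1 : chk (wa 1 ++ wa 1) [] = true :=
  Cfsg.Agent.BMx.Bridge.hd batG6_0

end Cfsg.Agent.H827.U33
end

-- part: H827/U33/GAct2
section
/-! # S5525, part G: action of `wa 2` (helper827) -/

set_option autoImplicit false
set_option Elab.async false

namespace Cfsg.Agent.H827.U33

open Cfsg.Agent.BabyM.Conc Cfsg.Agent.BabyM.Inst Cfsg.Agent.BabyM.TransInv Cfsg.Agent.H819.U33 Cfsg.Agent.H863.U33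
open Cfsg.Agent.BM.StageW

private theorem batG7_0a : Cfsg.Agent.BMx.Fast.allEq [
    ((we 0 ++ wa 2), (wa 2 ++ nfw (AG 2 0) (CG 2 0)))] = true := by decide +kernel

private theorem batG7_0b : Cfsg.Agent.BMx.Fast.allEq [
    ((we 1 ++ wa 2), (wa 2 ++ nfw (AG 2 1) (CG 2 1)))] = true := by decide +kernel

theorem act2_0 : chk (we 0 ++ wa 2) (wa 2 ++ nfw (AG 2 0) (CG 2 0)) = true :=
  Cfsg.Agent.BMx.Bridge.hd batG7_0a

theorem act2_1 : chk (we 1 ++ wa 2) (wa 2 ++ nfw (AG 2 1) (CG 2 1)) = true :=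
  Cfsg.Agent.BMx.Bridge.hd batG7_0b

private theorem batG7_1a : Cfsg.Agent.BMx.Fast.allEq [
    ((we 2 ++ wa 2), (wa 2 ++ nfw (AG 2 2) (CG 2 2)))] = true := by decide +kernel

private theorem batG7_1b : Cfsg.Agent.BMx.Fast.allEq [
    ((we 3 ++ wa 2), (wa 2 ++ nfw (AG 2 3) (CG 2 3)))] = true := by decide +kernel

theorem act2_2 : chk (we 2 ++ wa 2) (wa 2 ++ nfw (AG 2 2) (CG 2 2)) = true :=
  Cfsg.Agent.BMx.Bridge.hd batG7_1a

theorem act2_3 : chk (we 3 ++ wa 2) (wa 2 ++ nfw (AG 2 3) (CG 2 3)) = true :=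
  Cfsg.Agent.BMx.Bridge.hd batG7_1b

private theorem batG7_2a : Cfsg.Agent.BMx.Fast.allEq [
    ((we 4 ++ wa 2), (wa 2 ++ nfw (AG 2 4) (CG 2 4)))] = true := by decide +kernel

private theorem batG7_2b : Cfsg.Agent.BMx.Fast.allEq [
    ((we 5 ++ wa 2), (wa 2 ++ nfw (AG 2 5) (CG 2 5)))] = true := by decide +kernel

theorem act2_4 : chk (we 4 ++ wa 2) (wa 2 ++ nfw (AG 2 4) (CG 2 4)) = true :=
  Cfsg.Agent.BMx.Bridge.hd batG7_2a

theorem act2_5 : chk (we 5 ++ wa 2) (wa 2 ++ nfw (AG 2 5) (CG 2 5)) = true :=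
  Cfsg.Agent.BMx.Bridge.hd batG7_2b

private theorem batG7_3a : Cfsg.Agent.BMx.Fast.allEq [
    ((we 6 ++ wa 2), (wa 2 ++ nfw (AG 2 6) (CG 2 6)))] = true := by decide +kernel

private theorem batG7_3b : Cfsg.Agent.BMx.Fast.allEq [
    ((we 7 ++ wa 2), (wa 2 ++ nfw (AG 2 7) (CG 2 7)))] = true := by decide +kernel

theorem act2_6 : chk (we 6 ++ wa 2) (wa 2 ++ nfw (AG 2 6) (CG 2 6)) = true :=
  Cfsg.Agent.BMx.Bridge.hd batG7_3a

theorem act2_7 : chk (we 7 ++ wa 2) (wa 2 ++ nfw (AG 2 7) (CG 2 7)) = true :=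
  Cfsg.Agent.BMx.Bridge.hd batG7_3b


theorem act2 (j : Fin 8) : chk (we j ++ wa 2) (wa 2 ++ nfw (AG 2 j) (CG 2 j)) = true := by
  fin_cases j
  · exact act2_0
  · exact act2_1
  · exact act2_2
  · exact act2_3
  · exact act2_4
  · exact act2_5
  · exact act2_6
  · exact act2_7

private theorem batG8_0 : Cfsg.Agent.BMx.Fast.allEq [
    ((wa 2 ++ wu1), (wu1 ++ wa 2)),
    ((wa 2 ++ wy1), (wy1 ++ wa 2))] = true := by decide +kernel

theorem cu2 : chk (wa 2 ++ wu1) (wu1 ++ wa 2) = true :=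
  Cfsg.Agent.BMx.Bridge.hd batG8_0

theorem cy2 : chk (wa 2 ++ wy1) (wy1 ++ wa 2) = true :=
  Cfsg.Agent.BMx.Bridge.hd (Cfsg.Agent.BMx.Bridge.tl batG8_0)

theorem n1_2 : ne (wa 2) [] = true := by decide +kernel

private theorem batG9_0 : Cfsg.Agent.BMx.Fast.allEq [
    ((wa 2 ++ wa 2), [])] = true := by decide +kernel

theorem sq2 : chk (wa 2 ++ wa 2) [] = true :=
  Cfsg.Agent.BMx.Bridge.hd batG9_0

end Cfsg.Agent.H827.U33
end

-- part: H827/U33/GAct3
section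
/-! # S5525, part G: action of `wa 3` (helper827) -/

set_option autoImplicit false
set_option Elab.async false

namespace Cfsg.Agent.H827.U33

open Cfsg.Agent.BabyM.Conc Cfsg.Agent.BabyM.Inst Cfsg.Agent.BabyM.TransInv Cfsg.Agent.H819.U33 Cfsg.Agent.H863.U33
open Cfsg.Agent.BM.StageW

private theorem batG10_0 : Cfsg.Agent.BMx.Fast.allEq [
    ((we 0 ++ wa 3), (wa 3 ++ nfw (AG 3 0) (CG 3 0))),
    ((we 1 ++ wa 3), (wa 3 ++ nfw (AG 3 1) (CG 3 1)))] = true := by decide +kernel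

theorem act3_0 : chk (we 0 ++ wa 3) (wa 3 ++ nfw (AG 3 0) (CG 3 0)) = true :=
  Cfsg.Agent.BMx.Bridge.hd batG10_0

theorem act3_1 : chk (we 1 ++ wa 3) (wa 3 ++ nfw (AG 3 1) (CG 3 1)) = true :=
  Cfsg.Agent.BMx.Bridge.hd (Cfsg.Agent.BMx.Bridge.tl batG10_0)

private theorem batG10_1 : Cfsg.Agent.BMx.Fast.allEq [
    ((we 2 ++ wa 3), (wa 3 ++ nfw (AG 3 2) (CG 3 2))),
    ((we 3 ++ wa 3), (wa 3 ++ nfw (AG 3 3) (CG 3 3)))] = true := by decide +kernel

theorem act3_2 : chk (we 2 ++ wa 3) (wa 3 ++ nfw (AG 3 2) (CG 3 2)) = true :=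
  Cfsg.Agent.BMx.Bridge.hd batG10_1

theorem act3_3 : chk (we 3 ++ wa 3) (wa 3 ++ nfw (AG 3 3) (CG 3 3)) = true :=
  Cfsg.Agent.BMx.Bridge.hd (Cfsg.Agent.BMx.Bridge.tl batG10_1)

private theorem batG10_2 : Cfsg.Agent.BMx.Fast.allEq [
    ((we 4 ++ wa 3), (wa 3 ++ nfw (AG 3 4) (CG 3 4))),
    ((we 5 ++ wa 3), (wa 3 ++ nfw (AG 3 5) (CG 3 5)))] = true := by decide +kernel

theorem act3_4 : chk (we 4 ++ wa 3) (wa 3 ++ nfw (AG 3 4) (CG 3 4)) = true :=
  Cfsg.Agent.BMx.Bridge.hd batG10_2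

theorem act3_5 : chk (we 5 ++ wa 3) (wa 3 ++ nfw (AG 3 5) (CG 3 5)) = true :=
  Cfsg.Agent.BMx.Bridge.hd (Cfsg.Agent.BMx.Bridge.tl batG10_2)

private theorem batG10_3 : Cfsg.Agent.BMx.Fast.allEq [
    ((we 6 ++ wa 3), (wa 3 ++ nfw (AG 3 6) (CG 3 6))),
    ((we 7 ++ wa 3), (wa 3 ++ nfw (AG 3 7) (CG 3 7)))] = true := by decide +kernel

theorem act3_6 : chk (we 6 ++ wa 3) (wa 3 ++ nfw (AG 3 6) (CG 3 6)) = true :=
  Cfsg.Agent.BMx.Bridge.hd batG10_3

theorem act3_7 : chk (we 7 ++ wa 3) (wa 3 ++ nfw (AG 3 7) (CG 3 7)) = true :=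
  Cfsg.Agent.BMx.Bridge.hd (Cfsg.Agent.BMx.Bridge.tl batG10_3)


theorem act3 (j : Fin 8) : chk (we j ++ wa 3) (wa 3 ++ nfw (AG 3 j) (CG 3 j)) = true := by
  fin_cases j
  · exact act3_0
  · exact act3_1
  · exact act3_2
  · exact act3_3
  · exact act3_4
  · exact act3_5
  · exact act3_6
  · exact act3_7

private theorem batG11_0 : Cfsg.Agent.BMx.Fast.allEq [
    ((wa 3 ++ wu1), (wu1 ++ wa 3)),
    ((wa 3 ++ wy1), (wy1 ++ wa 3))] = true := by decide +kernel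

theorem cu3 : chk (wa 3 ++ wu1) (wu1 ++ wa 3) = true :=
  Cfsg.Agent.BMx.Bridge.hd batG11_0

theorem cy3 : chk (wa 3 ++ wy1) (wy1 ++ wa 3) = true :=
  Cfsg.Agent.BMx.Bridge.hd (Cfsg.Agent.BMx.Bridge.tl batG11_0)

theorem n1_3 : ne (wa 3) [] = true := by decide +kernel

end Cfsg.Agent.H827.U33
end

-- part: H921/U33/BoxII
section
/-!
# S5525, box II (helper921)

`boxII` : in the group, for every `p` of the normal form set `PP (g wy1) eG`, a triple `(u₀, y₀, c p c⁻¹)` has a nontrivial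
centralizing element.
-/

set_option autoImplicit false

namespace Cfsg.Agent.H921.U33

open Cfsg.Agent.H819.U33 Cfsg.Agent.H524.U33 Cfsg.Agent.H827.U33
open Cfsg.Agent.BabyM.Conc Cfsg.Agent.BabyM.TransInv Cfsg.Agent.BM.StageW
open Cfsg.Agent.H863.U33 (PP nf eG tb we wy1 of_chk)

theorem hactG (i : Fin 4) (j : Fin 8) :
    chk (we j ++ wa i) (wa i ++ Cfsg.Agent.H863.U33.nfw (AG i j) (CG i j)) = true := by
  fin_cases i
  · exact act0 j
  · exact act1 j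
  · exact act2 j
  · exact act3 j

theorem hcuG (i : Fin 4) : g (wa i) * g wu1 = g wu1 * g (wa i) := by
  fin_cases i
  · exact comm_of cu0
  · exact comm_of cu1
  · exact comm_of cu2
  · exact comm_of cu3

theorem hcyG (i : Fin 4) : g (wa i) * g wy1 = g wy1 * g (wa i) := by
  fin_cases i
  · exact comm_of cy0
  · exact comm_of cy1
  · exact comm_of cy2
  · exact comm_of cy3

theorem hnG (i : Fin 4) : g (wa i) ≠ 1 := by
  fin_cases i
  · exact g_ne_one n1_0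
  · exact g_ne_one n1_1
  · exact g_ne_one n1_2
  · exact g_ne_one n1_3

theorem sq_of {w : List Ltr} (h : chk (w ++ w) [] = true) : g w * g w = 1 := by
  have h1 := eq_of h
  rw [g_append, g_nil] at h1
  exact h1

theorem hsqG (i : Fin 4) (hi : i ≠ 3) : g (wa i) * g (wa i) = 1 := by
  fin_cases i
  · exact sq_of sq0
  · exact sq_of sq1
  · exact sq_of sq2
  · exact absurd rfl hi

/-- **Box II.** -/
theorem boxII : ∀ p ∈ PP (g wy1) eG, Trip (g wu) (g wy) (g wc * p * (g wc)⁻¹) →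
    Cen (g wu) (g wy) (g wc * p * (g wc)⁻¹) :=
  boxII_of hactG hcuG hcyG hnG hsqG Cfsg.Agent.H109.U33.hfinG

end Cfsg.Agent.H921.U33
end

-- part: H841/U33/Fin
section
/-!
# S5525 from box I (helper841)
-/

set_option autoImplicit false

namespace Cfsg.Agent.H841.U33

open Cfsg Cfsg.Agent.H819.U33 Cfsg.Agent.H524.U33

theorem wc_eq : H863.U33.wc = H827.U33.wc := rfl

/-- **S5525** from the enumeration of type I. -/
theorem result_of
    (hI : ∀ h ∈ XX, Trip (g wu) (g wf) (h⁻¹ * g H863.U33.wx27 * h) → Cen (g wu) (g wf) (h⁻¹ * g H863.U33.wx27 * h))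
    {F : Type*} [Field F] [Fintype F] (hF : Fintype.card F = 9) (H : Subgroup Cfsg.Spor.BabyMonster)
    (hH : Nonempty (↥H ≃* Cfsg.PSU 3 F 3)) : Subgroup.centralizer (H : Set Cfsg.Spor.BabyMonster) ≠ ⊥ := by
  have hII := H921.U33.boxII
  rw [← wc_eq] at hII
  exact H979.U33.result_of ⟨H863.U33.hc, H863.U33.hl1, H863.U33.hl2, H863.U33.hs1, H863.U33.hs2⟩ hI hII hF H hH

end Cfsg.Agent.H841.U33
end
end

-- part: H924/U33/Om
section
set_option linter.all false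
open scoped Cfsg.Agent.FastGrp
set_option Elab.async false

/-!
# S5525, box H2: `ω` of the closure certificate is the transposition 53 (helper924)
-/

set_option autoImplicit false
set_option maxRecDepth 100000

namespace Cfsg.Agent.H924.U33.Om

open Cfsg.Agent.BabyM.Conc Cfsg.Agent.H819.U33 Cfsg.Agent.H924.U33 Cfsg.Agent.H924.U33.Rel
open Cfsg.Agent.H698.U33 Cfsg.Agent.H698.U33.Clo

theorem om_chk : BM.StageW.chk (flat 18 L18 om) (tw 53) = true :=
  Cfsg.Agent.BMx.Bridge.chk_of_eqF (by decide +kernel)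

/-- **`ω` is the transposition 53.** -/
theorem homt : wd 18 S18 om = Cfsg.Agent.H698.U33.tn Cfsg.Agent.H924.U33.Fin.t i0 := by
  rw [tn_of _ (show i0 < 3510 by unfold i0; norm_num), wd_flat, eq_of om_chk]
  exact (T_eq 53).symm

end Cfsg.Agent.H924.U33.Om
end

-- part: S5525
section
set_option linter.all false
open scoped Cfsg.Agent.FastGrp

-- part: H698/U33/Clo/Cen
section
/-!
# S5525: elements of `R` commuting with or inverting the representatives (helper698; data of helper819, helper763)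
-/

set_option autoImplicit false
set_option maxRecDepth 100000
set_option Elab.async false

namespace Cfsg.Agent.H698.U33.Clo

theorem cen14 : cenb 18 3510 ps18 base7 rgR x14 [0, 2] 0 = true := by decide +kernel
theorem cen32 : cenb 18 3510 ps18 base7 rgR x32 [0, 2] 0 = true := by decide +kernel
theorem cen160 : cenb 18 3510 ps18 base7 rgR x160 [1, 0, 1, 2, 0, 4, 3, 4] 0 = true := by decide +kernel

end Cfsg.Agent.H698.U33.Clo
end

-- part: H698/U33/Fin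
section
/-!
# S5525, type I: the conclusion from the table and the refutations (helper698)

`hI_of` : `t : Fin 3510 → G` injective, the letters `τ, w4, w5` act on it with the tables of helper763, `t 53` is the word `om`,
and the 279 representatives are refuted; then the triples `(u, f, h⁻¹ x27 h)`, `h ∈ XX`, have a centralizer.
-/

set_option autoImplicit false
set_option maxRecDepth 100000

namespace Cfsg.Agent.H698.U33

open Cfsg.Agent.BabyM.Conc Cfsg.Agent.H819.U33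
open Cfsg.Agent.H763.U33.Dat (tabs)

/-- half of the word of `x27` (= `H863.U33.wx27h`) -/
def w27h : List Ltr :=
  [.X10, .X0, .X1, .X4, .X5, .X8, .Z2, .Z9, .y4, .xi, .y7, .p9, .y3, .xii, .p5, .xi, .p3, .y7, .X4, .taui, .X4,
  .y7, .p8, .xii, .p6, .xi, .y3, .p2, .y7, .xii, .y4, .X3, .X4, .X5, .X6, .Z5, .z, .tau]

/-- the word of `x27` (= `H863.U33.wx27`) -/
def w27 : List Ltr := w27h ++ w27h

theorem c27 : BM.StageW.chk (flat 18 L18 (winv 18 (rword rgR [4, 3, 1, 3, 1, 3, 4, 3, 4, 3, 1]) ++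
    (sgn 18 false Clo.x13 ++ rword rgR [4, 3, 1, 3, 1, 3, 4, 3, 4, 3, 1]))) w27 = true := by (first | (delta BM.StageW.chk; exact Cfsg.Agent.BMx.Low.chk_of_eqF (by decide +kernel)) | decide +kernel)

theorem hI_of {t : Fin 3510 → G} (ht : Function.Injective t)
    (hact : ∀ k < 3, ∀ i : Fin 3510, ∃ j : Fin 3510, (j : ℕ) = H123.Cls.lk 12 (H123.Cls.nth tabs k) i ∧
      (S3 k)⁻¹ * t i * S3 k = t j)
    (homt : wd 18 S18 Clo.om = tn t Clo.i0)
    (hnt : ∀ x ∈ Clo.xs, x = Clo.x14 ∨ x = Clo.x32 ∨ x = Clo.x160 ∨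
      (¬ Trip (g wu) (g wf) (g (flat 18 L18 x)) ∧ ¬ Trip (g wu) (g wf) (g (flat 18 L18 x))⁻¹)) :
    ∀ h ∈ XX, Trip (g wu) (g wf) (h⁻¹ * g w27 * h) → H524.U33.Cen (g wu) (g wf) (h⁻¹ * g w27 * h) := by
  refine typeI_of ht hact (valid_of Clo.om_valid) (by decide : Clo.i0 < 3510) homt Clo.orb_ok
    (fun x hx => valid_of (List.all_eq_true.1 Clo.xs_valid x hx)) Clo.closed Clo.gen_ok (x0 := Clo.x13) ?_ c27
    fun x hx => ?_
  · rw [Clo.xs_eq]
    exact List.mem_append_right _ (List.mem_append_left _ (by decide))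
  · rcases hnt x hx with rfl | rfl | rfl | h
    · exact Or.inl ⟨_, _, Clo.cen14⟩
    · exact Or.inl ⟨_, _, Clo.cen32⟩
    · exact Or.inl ⟨_, _, Clo.cen160⟩
    · exact Or.inr (Or.inr h)

end Cfsg.Agent.H698.U33
end

-- part: H698/U33/BoxI
section
/-!
# S5525: box I (helper698)

The table of helper924, the refutations of helper405 / helper919, the closure certificate.
-/

set_option autoImplicit false

namespace Cfsg.Agent.H698.U33

open Cfsg.Agent.H819.U33 Cfsg.Agent.H524.U33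

/-- **Type I.** -/
theorem boxI : ∀ h ∈ XX, Trip (g wu) (g wf) (h⁻¹ * g H863.U33.wx27 * h) →
    Cen (g wu) (g wf) (h⁻¹ * g H863.U33.wx27 * h) :=
  hI_of H924.U33.Fin.inj H924.U33.Fin.hact H924.U33.Om.homt H405.U33.ref_all

end Cfsg.Agent.H698.U33
end

-- part: S5525
section
-- import your own Cfsg.Agent.* helpers here

set_option autoImplicit false
open Cfsg

namespace Cfsg.Agent.S5525

/-- In the Baby Monster B (the finitely presented group of the definitions), every subgroup isomorphic to the unitary group PSU₃(3) (realised over a field with 9 elements) has non-trivial centralizer in B. -/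
theorem result {F : Type*} [Field F] [Fintype F] (hF : Fintype.card F = 9) (H : Subgroup Cfsg.Spor.BabyMonster)
    (hH : Nonempty (↥H ≃* Cfsg.PSU 3 F 3)) : Subgroup.centralizer (H : Set Cfsg.Spor.BabyMonster) ≠ ⊥ := by
  exact Cfsg.Agent.H841.U33.result_of Cfsg.Agent.H698.U33.boxI hF H hH

end Cfsg.Agent.S5525
end
end
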