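import Cfsg.Agent.Bimonster.Split
import Cfsg.Agent.MonsterN.LitFin
import Cfsg.Agent.H850.MonSub
import Cfsg.Agent.MonsterP.H1Abs_mg_m3
import Cfsg.Statements.S5589
import Cfsg.Agent.FastGrp
import Cfsg.Agent.Prune
set_option linter.all false
prune_inst 0x7f00000000000000000000000000000000000000000000000000000000000000000000000000000000000000000000000000000000000000000000000000000000000000000000000000000000000000003fffffffffffffffffffffffffffbeffbdffffffff
open scoped Cfsg.Agent.FastGrp

-- part: H862/PMSplit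
section
/-!
# Perfect central extensions of the presented group of the Monster are trivial

`PRel x`: the relations of the presentation of the Monster on the nodes of `Y553`.  By `Bimonster/Split.lean` the
kernel of a perfect central extension of the presented group has exponent three; the obstruction is the value `s` of
the spider word in the extension.  If some element exchanges the first two arms of `Y222`, then `s = s⁻¹`, so the
kernel is trivial (`eq_one_of_swap`).
-/

set_option autoImplicit false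

namespace Cfsg.Agent.H862.PMSplit

open Cfsg.Agent.Bimonster Cfsg.Agent.Bimonster.Tits

universe u

/-- `m` exchanges the first two arms of `Y222` -/
def Swaps {P : Type*} [Group P] (x : ℕ → P) (m : P) : Prop := ∀ i ∈ spW, m * x i * m⁻¹ = x (swp i)

variable {E P : Type*} [Group E] [Group P] {π : E →* P}

theorem ev_mul_cen {y k : ℕ → E} {w : List ℕ} (hk : ∀ i ∈ w, ∀ g, k i * g = g * k i) :
    ev (fun i => k i * y i) w = ev k w * ev y w := by
  induction w with
  | nil => simp
  | cons i w ih =>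
    have h1 := ih fun j hj => hk j (by simp [hj])
    have h2 := hk i (by simp)
    rw [ev_cons, h1, ev_cons, ev_cons]
    have h3 : ∀ g, ev k w * g = g * ev k w := by
      have hk' : ∀ j ∈ w, ∀ g, k j * g = g * k j := fun j hj => hk j (by simp [hj])
      clear h1 ih hk
      intro g
      induction w with
      | nil => simp
      | cons j w ih =>
        rw [ev_cons, mul_assoc, ih (fun l hl => hk' l (by simp [hl])), ← mul_assoc, hk' j (by simp), mul_assoc]
    calc k i * y i * (ev k w * ev y w) = k i * (y i * ev k w) * ev y w := by simp only [mul_assoc]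
      _ = k i * (ev k w * y i) * ev y w := by rw [h3]
      _ = _ := by simp only [mul_assoc]

theorem ev_cen_sq {k : ℕ → E} {w : List ℕ} (hk : ∀ i ∈ w, ∀ g, k i * g = g * k i)
    (h2 : ∀ i ∈ w, k i * k i = 1) : (∀ g, ev k w * g = g * ev k w) ∧ ev k w * ev k w = 1 := by
  induction w with
  | nil => simp
  | cons i w ih =>
    obtain ⟨h3, h4⟩ := ih (fun j hj => hk j (by simp [hj])) (fun j hj => h2 j (by simp [hj]))
    have h5 := hk i (by simp)
    have h6 := h2 i (by simp)
    refine ⟨fun g => ?_, ?_⟩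
    · rw [ev_cons, mul_assoc, h3, ← mul_assoc, h5, mul_assoc]
    · rw [ev_cons]
      calc k i * ev k w * (k i * ev k w) = k i * (ev k w * k i) * ev k w := by simp only [mul_assoc]
        _ = k i * (k i * ev k w) * ev k w := by rw [h3]
        _ = (k i * k i) * (ev k w * ev k w) := by simp only [mul_assoc]
        _ = 1 := by rw [h6, h4, mul_one]

/-- The value of the spider relation in a central extension is an involution if the arms can be exchanged. -/
theorem spider_sq (h : Ext π) {x : ℕ → P} {y : ℕ → E} (hy : ∀ i, π (y i) = x i) (hc : CoxRel 14 y)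
    (hs : ev x spW ^ 10 = 1) {m : P} (hm : Swaps x m) : ev y spW ^ 10 * ev y spW ^ 10 = 1 := by
  set s := ev y spW ^ 10 with hsdef
  have hxy : (fun i => π (y i)) = x := funext hy
  have hπs : π s = 1 := by rw [hsdef, map_pow, map_ev, hxy, hs]
  have hsc := h.cen s hπs
  have hcj : ∀ g : E, g * s * g⁻¹ = s := fun g => by rw [← hsc g]; group
  obtain ⟨M, rfl⟩ := h.surj m
  -- the factors
  have hk : ∀ i : ℕ, ∃ k : E, (i ∈ spW → π k = 1 ∧ M * y i * M⁻¹ = k * y (swp i)) := by
    intro i
    by_cases hi : i ∈ spW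
    · obtain ⟨k, hk, hk2⟩ := h.eq_mul (a := M * y i * M⁻¹) (b := y (swp i)) (by
        rw [map_mul, map_mul, map_inv, hy, hy]; exact hm i hi)
      exact ⟨k, fun _ => ⟨hk, hk2⟩⟩
    · exact ⟨1, fun h => absurd h hi⟩
  choose k hk using hk
  have hlt : ∀ i ∈ spW, i < 14 ∧ swp i < 14 := by decide
  have hkc : ∀ i ∈ spW, ∀ g, k i * g = g * k i := fun i hi => h.cen _ (hk i hi).1
  have hk2 : ∀ i ∈ spW, k i * k i = 1 := by
    intro i hi
    have h1 := (hk i hi).2
    have h2 := hc.sq i (hlt i hi).1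
    have h3 := hc.sq (swp i) (hlt i hi).2
    have h4 : M * y i * M⁻¹ * (M * y i * M⁻¹) = 1 := by
      calc M * y i * M⁻¹ * (M * y i * M⁻¹) = M * (y i * y i) * M⁻¹ := by group
        _ = 1 := by rw [h2]; group
    rw [h1] at h4
    calc k i * k i = k i * k i * (y (swp i) * y (swp i)) := by rw [h3, mul_one]
      _ = k i * (k i * y (swp i)) * y (swp i) := by simp only [mul_assoc]
      _ = k i * (y (swp i) * k i) * y (swp i) := by rw [hkc i hi (y (swp i))]
      _ = k i * y (swp i) * (k i * y (swp i)) := by simp only [mul_assoc]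
      _ = 1 := h4
  obtain ⟨hKc, hK2⟩ := ev_cen_sq hkc hk2
  have e1 : M * ev y spW * M⁻¹ = ev k spW * ev (fun i => y (swp i)) spW := by
    rw [← ev_mul_cen hkc]
    have : MulAut.conj M (ev y spW) = ev (fun i => MulAut.conj M (y i)) spW :=
      map_ev (MulAut.conj M).toMonoidHom y spW
    rw [MulAut.conj_apply] at this
    rw [this]
    apply ev_congr
    intro i hi
    rw [MulAut.conj_apply]
    exact (hk i hi).2
  have e2 : M * s * M⁻¹ = ev y (spW.map swp) ^ 10 := by
    rw [hsdef, ← conj_pow, e1, (show Commute (ev k spW) (ev (fun i => y (swp i)) spW) from hKc _).mul_pow,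
      ev_swp, show (10 : ℕ) = 2 * 5 by norm_num, pow_mul (ev k spW), pow_two, hK2, one_pow, one_mul]
  have e3 : ev y spW' ^ 10 = s⁻¹ := by
    have h1 := eq_of_run hc.valid sq_ok
    rw [one_pow, ev_append, ev_append, ev_append, ev_rep, ev_rep,
      ev_reverse (sq_of_lt hc (by decide)), ← hsdef, hcj] at h1
    exact (inv_eq_of_mul_eq_one_right h1).symm
  have e4 : ev y (spW.map swp) ^ 10 = s⁻¹ := by
    have f1 : ev y (spW.map swp) = ev y [0, 6, 7, 0, 1, 2] * ev y [0, 11, 12] := by rw [← ev_append]; rfl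
    have f2 : ev y spW' = ev y [0, 11, 12] * ev y [0, 6, 7, 0, 1, 2] := by rw [← ev_append]; rfl
    have f3 : ev y (spW.map swp) = (ev y [0, 11, 12])⁻¹ * ev y spW' * ((ev y [0, 11, 12])⁻¹)⁻¹ := by
      rw [f1, f2]; group
    rw [f3, conj_pow, e3]
    have := hcj (ev y [0, 11, 12])⁻¹
    calc (ev y [0, 11, 12])⁻¹ * s⁻¹ * ((ev y [0, 11, 12])⁻¹)⁻¹ =
        ((ev y [0, 11, 12])⁻¹ * s * ((ev y [0, 11, 12])⁻¹)⁻¹)⁻¹ := by group
      _ = s⁻¹ := by rw [this]
  rw [hcj, e4] at e2
  nth_rewrite 1 [e2]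
  exact inv_mul_cancel s

/-- **A perfect central extension of the presented group is trivial, if the arms can be exchanged.** -/
theorem eq_one_of_swap (hF : FiFacts) {E : Type u} {P : Type*} [Group E] [Group P] {π : E →* P}
    (h : Ext π) (hperf : commutator E = ⊤) {x : ℕ → P} (hx : PRel x)
    (hgen : Subgroup.closure (nodes 14 x) = ⊤) (hU : Univ.{u} x) {m : P} (hm : Swaps x m) :
    ∀ c, π c = 1 → c = 1 := by
  obtain ⟨y, hy, hcox, h3⟩ := h.exists_cox_lift hx.cox hx.f3a
  have hs2 := spider_sq h hy hcox hx.spider hm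
  set s := ev y spW ^ 10 with hs
  have hxy : (fun i => π (y i)) = x := funext hy
  have hπs : π s = 1 := by rw [hs, map_pow, map_ev, hxy, hx.spider]
  have hsc := h.cen s hπs
  have hs3 : s * s * s = 1 := by
    obtain ⟨g, k, hgk⟩ := sp_good hcox
    rw [← hs] at hgk
    have e1 : ∀ g : E, g * s * g⁻¹ = s := fun g => by rw [← hsc g]; group
    rwa [e1, e1] at hgk
  have hs1 : s = 1 := by rwa [hs2, one_mul] at hs3
  have hyP : PRel y := h.prel_of_spider hF hx hy hcox h3 (by rw [← hs]; exact hs1)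
  intro c hc
  exact h.trivial_of_prel hperf hgen hU hy hyP hc

end Cfsg.Agent.H862.PMSplit
end

-- part: H862/ArmSwap
section
/-!
# An element of the Monster exchanging two arms of `Y333`

`exists_swap`: in the model of the Monster there are nodes `v` with `PRel v` and an element exchanging the first two
arms of `Y333`; `exists_swap_PM`: the same for the presented group `PM`.
-/

set_option autoImplicit false

open Subgroup

namespace Cfsg.Agent.H862.ArmSwap

open Cfsg Cfsg.Lie Cfsg.Agent.Bimonster Cfsg.Agent.BabyU Cfsg.Agent.TwoESix.Cover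
open Cfsg.Agent.MonsterX.KSide Cfsg.Agent.MonsterX.KLift Cfsg.Agent.MonsterX.KModel
open Cfsg.Agent.MonsterX.Model Cfsg.Agent.MonsterX.MainPack Cfsg.Agent.MonsterX.MainSimple
open Cfsg.Agent.MonsterX.MainBasic Cfsg.Agent.MonsterU.Assembly Cfsg.Agent.MonsterN.Lit
open Cfsg.Agent.MonsterN.LitInst Cfsg.Agent.MonsterU.Lam2 Cfsg.Agent.MonsterU.TwoCls
open Cfsg.Agent.MonsterN Cfsg.Agent.BabyU.OutFree Cfsg.Agent.TwoESix.Cox10

variable {V P W : Type} [AddCommGroup V] [Module ℚ V] [Group P] [AddCommGroup W] [Module ℚ W]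
  {D : MData V} {M : KS ↥D.G V P W} {x₀ : P} {θ : leechLattice → P} {K₀ : Type} [Group K₀]

/-- **An element of the model of the Monster exchanging the first two arms.** -/
theorem exists_swap (A : All D K₀) (H : Link D M x₀) (L : Lift M θ) {τ : D.G} {y' : P}
    (T : Cfsg.Agent.MonsterU.InvTwo.TauHyp M θ ⊤ τ y') {y : ℕ → D.G} (hP : PRel y) (hne : y 0 ≠ y 1)
    (hy : ∃ g : D.G, g * tG A.hG A.hR * g⁻¹ = y 10) :
    ∃ (v : ℕ → D.G) (m : D.G), PRel v ∧ v 10 ≠ 1 ∧ ∀ i, m * v (nl i) * m⁻¹ = v (nl (pAB i)) := by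
  have hfin : Finite D.G := G_finite A.hO
  have hB : Cfsg.IsB Cfsg.Spor.BabyMonster := Cfsg.Agent.S1704.result
  obtain ⟨⟨h1, h2, h3⟩, h43⟩ := ModelB.fieldsKS A H L hP hne hy hB H.x₀_mem
  obtain ⟨f₁, f₂, f₃, f₄, Fc, hcz, hcd, p, hp, hp2, hp2'⟩ := FusInst.exists_facts A H L T H.x₀_mem
  have hzm : M.z ∈ BB M x₀ := mem_centralizer_singleton_iff.2 (by
    show M.ι M.zc * M.ι x₀ = M.ι x₀ * M.ι M.zc
    rw [← map_mul, ← map_mul, M.zc_comm])
  have hE : Emb (BB M x₀).subtype M.z (tb M x₀) f₁ f₂ f₃ :=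
    ⟨Subtype.val_injective, nineteen H A, ((BB M x₀).subtype.map_isConj (hcz hzm)).symm, hcd⟩
  -- the group `²E₆(2)`
  let K := GaloisField 2 2
  let _i : Fintype K := Fintype.ofFinite K
  have hK : Fintype.card K = 4 := by
    rw [← Nat.card_eq_fintype_card]
    exact GaloisField.card 2 2 (by norm_num)
  have hsE := EInst.isSimple K hK
  obtain ⟨e0, r, he0, hgen, hr, -, hconj⟩ := TwoESix.GoodInst.exists_good K hK
  have hR : ∀ i, e0 i ∈ rootClass K := fun i => by
    obtain ⟨g, hg⟩ := hconj i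
    exact ⟨g, r, hr, hg⟩
  have hHB : Finite HB := Cfsg.Agent.BM.HBFinal.finite_HB
  have hcard := Cfsg.Agent.BM.HBFinal.hcard K hK
  have N : Nodes (tb M x₀) (rootClass K) :=
    NodesLit.nodes he0 hgen hcard (Cfsg.Agent.BM.HBFinal.card_E K hK) hR h1 h2 h3 Fc hE
  have EF : EFacts (F := K) (by rw [hK]; norm_num) (twistedE6 K 2) (rootClass K) := by
    obtain ⟨yB, h, π, -, -, DK⟩ := N
    exact EInst.eFacts K hK _ hHB hcard DK
  obtain ⟨yB, h, π, h10, hgen', DK⟩ := N
  obtain ⟨M', _, hcov⟩ := EF.cov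
  have hc5 := conj_five Fc hE EF.nineteen h10 DK
  have h19 : 19 ∣ Nat.card (centralizer ({f₁} : Set (BB M x₀))) := by
    rw [card_centralizer_conj hc5, DK.card_centralizer_five fun x => by rw [h10]; exact Fc.cen x]
    exact Dvd.dvd.mul_left EF.nineteen 4
  have hconj' : IsConj ((BB M x₀).subtype (tb M x₀)) ((BB M x₀).subtype f₁) := by
    have e1 : (BB M x₀).subtype f₁ = M.ι p := hp
    rw [e1]
    exact (FusInst.hyp A H L T H.x₀_mem).conj_short hp2
  have hφr : ∀ x : D.G, x ∈ (BB M x₀).subtype.range ↔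
      x * (BB M x₀).subtype (tb M x₀) = (BB M x₀).subtype (tb M x₀) * x := by
    intro x
    rw [Subgroup.range_subtype]
    exact mem_centralizer_singleton_iff
  obtain ⟨n, hn1, hn2⟩ := MonsterN.exists_swap Fc
    (hdist_of hE.inj Fc.cen hE.nineteen hE.conj_z hE.conj_d h19) Subtype.val_injective hφr hconj'
  obtain ⟨c, hc⟩ := isConj_iff.1 hc5
  set φ := (BB M x₀).subtype with hφdef
  have hφ : Function.Injective φ := Subtype.val_injective
  have hcτ : (φ c)⁻¹ * φ (tb M x₀) * φ c = φ (tb M x₀) := by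
    have : φ (tb M x₀) * φ c = φ c * φ (tb M x₀) := by rw [← map_mul, ← map_mul, Fc.cen]
    calc (φ c)⁻¹ * φ (tb M x₀) * φ c = (φ c)⁻¹ * (φ (tb M x₀) * φ c) := by group
      _ = _ := by rw [this]; group
  have hcτ' : φ c * φ (tb M x₀) * (φ c)⁻¹ = φ (tb M x₀) := by
    calc φ c * φ (tb M x₀) * (φ c)⁻¹ = φ c * ((φ c)⁻¹ * φ (tb M x₀) * φ c) * (φ c)⁻¹ := by rw [hcτ]
      _ = φ (tb M x₀) := by group
  have h5' : φ (yB 5) = φ c * φ f₁ * (φ c)⁻¹ := by rw [← hc, map_mul, map_mul, map_inv]
  have hr' : ∀ x : D.G, x * φ (yB 10) = φ (yB 10) * x → x ∈ φ.range := fun x hx => by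
    rw [h10] at hx
    exact (hφr x).2 hx
  have DG := DK.transport hφ hr'
  have m1 : φ c * n * (φ c)⁻¹ * φ (yB 10) * (φ c * n * (φ c)⁻¹)⁻¹ = φ (yB 5) := by
    rw [h10, h5', ← hn1]
    calc φ c * n * (φ c)⁻¹ * φ (tb M x₀) * (φ c * n * (φ c)⁻¹)⁻¹ =
        φ c * n * ((φ c)⁻¹ * φ (tb M x₀) * φ c) * n⁻¹ * (φ c)⁻¹ := by group
      _ = _ := by rw [hcτ]; group
  have m2 : φ c * n * (φ c)⁻¹ * φ (yB 5) * (φ c * n * (φ c)⁻¹)⁻¹ = φ (yB 10) := by
    rw [h10, h5']
    calc φ c * n * (φ c)⁻¹ * (φ c * φ f₁ * (φ c)⁻¹) * (φ c * n * (φ c)⁻¹)⁻¹ =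
        φ c * (n * φ f₁ * n⁻¹) * (φ c)⁻¹ := by group
      _ = φ (tb M x₀) := by rw [hn2, hcτ']
  obtain ⟨α, hα⟩ := DG.exists_auto m1 m2
  have hfinHB := EF.fin
  obtain ⟨m, -, -, hm, hPv⟩ := exists_prel hcov EF.card EF.nc EF.hyp EF.root DG m1 m2 (fun k hk => by
    rw [← hα]; exact EF.aut α _ hk)
  refine ⟨_, m, hPv, ?_, ?_⟩
  · rw [if_neg (by norm_num)]
    exact fun h1 => DK.ne2 (hφ (by rw [map_one]; exact h1))
  · have hnl : ∀ i : Fin 10, nl i ≠ 9 := by decide
    intro i
    rw [if_neg (hnl i), if_neg (hnl _)]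
    exact hm i

/-- the relation `Swaps` from the exchange of the arms -/
theorem swaps_of {G : Type*} [Group G] {v : ℕ → G} {m : G} (hm : ∀ i, m * v (nl i) * m⁻¹ = v (nl (pAB i))) :
    PMSplit.Swaps v m := by
  have key : ∀ i ∈ spW, ∃ j : Fin 10, nl j = i ∧ nl (pAB j) = swp i := by decide
  intro i hi
  obtain ⟨j, h1, h2⟩ := key i hi
  have := hm j
  rwa [h1, h2] at this

/-- **An element of the presented group exchanging the first two arms.** -/
theorem exists_swap_PM (A : All D K₀) (H : Link D M x₀) (L : Lift M θ) {τ : D.G} {y' : P}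
    (T : Cfsg.Agent.MonsterU.InvTwo.TauHyp M θ ⊤ τ y') {y : ℕ → D.G} (hP : PRel y) (hne : y 0 ≠ y 1)
    (hy : ∃ g : D.G, g * tG A.hG A.hR * g⁻¹ = y 10) (ePM : Nonempty (PM ≃* D.G)) :
    ∃ m : PM, ∀ i, m * xM (nl i) * m⁻¹ = xM (nl (pAB i)) := by
  obtain ⟨v, m, hv, hv1, hm⟩ := exists_swap A H L T hP hne hy
  obtain ⟨σ, hσ⟩ := xM_univ D.G v hv
  obtain ⟨e⟩ := ePM
  have hfin : Finite D.G := G_finite A.hO
  have hsM : IsSimpleGroup D.G := A.isM.1
  have hsPM : IsSimpleGroup PM := LitPar.isSimple_of_equiv e hsM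
  have hfinPM : Finite PM := Finite.of_equiv _ e.symm.toEquiv
  have hker : σ.ker = ⊥ := by
    rcases hsPM.eq_bot_or_eq_top_of_normal σ.ker inferInstance with h | h
    · exact h
    · exfalso
      apply hv1
      rw [← hσ 10 (by norm_num), ← MonoidHom.mem_ker, h]
      exact Subgroup.mem_top _
  have hinj : Function.Injective σ := (MonoidHom.ker_eq_bot_iff σ).1 hker
  have hbij : Function.Bijective σ :=
    (Nat.bijective_iff_injective_and_card (f := σ)).mpr ⟨hinj, Nat.card_congr e.toEquiv⟩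
  obtain ⟨m0, rfl⟩ := hbij.2 m
  refine ⟨m0, fun i => hinj ?_⟩
  have hlt : ∀ i : Fin 10, nl i < 14 := by decide
  rw [map_mul, map_mul, map_inv, hσ _ (hlt _), hσ _ (hlt _)]
  exact hm i

end Cfsg.Agent.H862.ArmSwap
end

-- part: H862/PMFacts
section
/-!
# Facts on the presented group of the Monster

* `exists_swaps` : an element of `PM` exchanges the first two arms of `Y333`;
* `zrel` : the relations for the element of order three;
* `center_eq_one` : the centre is trivial;
* `eq_one` : **every perfect central extension of `PM` is trivial** (any kernel, any universe).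
-/

set_option autoImplicit false

namespace Cfsg.Agent.H862.PMFacts

open Cfsg Cfsg.Agent Cfsg.Agent.Bimonster Cfsg.Agent.Bimonster.Tits Cfsg.Agent.MonsterX Cfsg.Agent.MonsterP

universe u

/-- An element exchanging the first two arms. -/
theorem exists_arms : ∃ m : PM, ∀ i, m * xM (MonsterN.nl i) * m⁻¹ = xM (MonsterN.nl (TwoESix.Cox10.pAB i)) :=
  ArmSwap.exists_swap_PM MonsterN.LitFin.all KDone.lnk KDone.lft
    (MonsterU.TauInst.tauHyp (MonsterU.Final.cent InstanceFinal.mOrbit Instance.mTrans))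
    (NodesGrp.prel MonsterN.LitFin.H) (NodesNe.ne MonsterN.LitFin.H) MonsterN.LitFin.conj_ten Equiv.equivPM

theorem exists_swaps : ∃ m : PM, PMSplit.Swaps xM m := by
  obtain ⟨m, hm⟩ := exists_arms
  exact ⟨m, ArmSwap.swaps_of hm⟩

theorem center_eq_one (c : PM) (hc : ∀ p, c * p = p * c) : c = 1 := by
  obtain ⟨e⟩ := Equiv.equivPM
  have h1 : ∀ q : ↥InstData.M.G, e c * q = q * e c := by
    intro q
    obtain ⟨p, rfl⟩ := e.surjective q
    rw [← map_mul, ← map_mul, hc]
  have h2 : e c = 1 := isM_center EquivOf.isM_model (e c) h1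
  apply e.injective
  rw [h2, map_one]

theorem zrel_of {G : Type} [Group G] {v : ℕ → G} (e : PM ≃* G) (he : ∀ i < 14, e (xM i) = v i) (hz : ZRel v) :
    ZRel xM := by
  have hev : ∀ w : List ℕ, (∀ i ∈ w, i < 14) → e (ev xM w) = ev v w := by
    intro w hw
    have := map_ev e.toMonoidHom xM w
    rw [show e (ev xM w) = e.toMonoidHom (ev xM w) from rfl, this]
    exact ev_congr fun i hi => he i (hw i hi)
  have hz14 : ∀ i ∈ zW, i < 14 := fun i hi => lt_trans (Setup.zW_lt i hi) (by norm_num)
  refine ⟨?_, ?_, ?_⟩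
  · apply e.injective; rw [map_pow, hev _ hz14, hz.cube, map_one]
  · intro i hi
    apply e.injective
    rw [map_mul, map_mul, map_inv, hev _ hz14, he i (by omega), hz.inv i hi]
  · apply e.injective; rw [map_pow, map_mul, hev _ hz14, he 13 (by norm_num), hz.ord, map_one]

theorem zrel : ZRel xM := by
  obtain ⟨e, he⟩ := (EquivOf.both fi_facts BFactsInst.bFacts S1704.result).1
  exact zrel_of e he (BaseOf.zrel_conj Lit.gG (NodesDone.nodesIn InstanceFinal.mOrbit S1704.result).zrel)

end Cfsg.Agent.H862.PMFacts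
end

-- part: H862/BiWr
section
/-!
# The structure of the Bimonster

`Setup t x φ sgn` (`Bimonster/Struct.lean`): `G` is generated by nodes `t` with the relations of the Bimonster, `P` is
the group presented by the relations of the Monster.  If `φ` is injective, `P` has trivial centre and the perfect
central extensions of `P` are trivial (`eq_one_of_swap`), then `commutator G` has index 2 and is isomorphic to
`P × P`, and the centre of `G` is trivial.
-/

set_option autoImplicit false

namespace Cfsg.Agent.H862.BiWr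

open Cfsg.Agent.Bimonster Cfsg.Agent.Bimonster.Tits Cfsg.Agent.Bimonster.Setup

variable {G P : Type} [Group G] [Group P] {t : ℕ → G} {x : ℕ → P} {φ : P →* G} {sgn : G →* ℤˣ}

theorem index_commutator (h : Setup t x φ sgn) : (commutator G).index = 2 := by
  have hk : sgn.ker = commutator G := by
    apply le_antisymm
    · intro g hg
      rw [h.commutator_eq]
      exact h.mem_DD_of_sgn hg
    · exact Abelianization.commutator_subset_ker sgn
  rw [← hk, Subgroup.index_ker]
  have hr : sgn.range = ⊤ := by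
    rw [eq_top_iff]
    intro u _
    rcases Int.units_eq_one_or u with rfl | rfl
    · exact Subgroup.one_mem _
    · exact ⟨t 15, h.hsgn 15 (by norm_num)⟩
  rw [hr, Subgroup.card_top]
  simp

/-- The kernel of the projection of the first factor is trivial. -/
theorem pr_eq_one (h : Setup t x φ sgn) (hF : FiFacts) (hφ : Function.Injective φ) (hU : Univ.{0} x)
    {m : P} (hm : PMSplit.Swaps x m) {a : A0 t x φ} (ha : h.pr hφ a = 1) : a = 1 :=
  PMSplit.eq_one_of_swap hF (h.pr_ext hφ) h.A0_perfect h.xrel h.xgen hU hm a ha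

theorem inf_eq_one (h : Setup t x φ sgn) (hF : FiFacts) (hφ : Function.Injective φ) (hU : Univ.{0} x)
    {m : P} (hm : PMSplit.Swaps x m) (hZ : ∀ c : P, (∀ p, c * p = p * c) → c = 1) {c : G}
    (hA : c ∈ A0 t x φ) (hB : c ∈ B0 t x φ) : c = 1 := by
  have h1 : h.pr hφ ⟨c, hA⟩ = 1 := by
    apply hZ
    intro p
    obtain ⟨a, rfl⟩ := (h.pr_ext hφ).surj p
    rw [← map_mul, ← map_mul]
    congr 1
    exact Subtype.ext (h.AB_comm a.2 hB).symm
  exact congrArg Subtype.val (pr_eq_one h hF hφ hU hm h1)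

theorem center_eq (h : Setup t x φ sgn) (hF : FiFacts) (hφ : Function.Injective φ) (hU : Univ.{0} x)
    (hZ : ∀ c : P, (∀ p, c * p = p * c) → c = 1) (hP : Nontrivial P) : Subgroup.center G = ⊥ := by
  rw [Subgroup.eq_bot_iff_forall]
  intro c hc
  rw [Subgroup.mem_center_iff] at hc
  have hce := centralizer_eq h hF hφ hU hZ
  -- the part in the commutator subgroup
  have key : ∀ d : G, (∀ p, d * φ p = φ p * d) → t 15 * d = d * t 15 → d ∈ h.DD → d = 1 := by
    intro d hd1 hd2 hd3
    have h1 : d ∈ Subgroup.centralizer {t 15} ⊓ commutator G := by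
      have h0 : d ∈ Subgroup.centralizer {t 15} := by
        rw [Subgroup.mem_centralizer_iff]
        rintro _ rfl
        exact hd2
      exact ⟨h0, by rw [h.commutator_eq]; exact hd3⟩
    rw [hce] at h1
    obtain ⟨p, rfl⟩ := h1
    have h2 : p = 1 := by
      apply hZ
      intro q
      apply hφ
      rw [map_mul, map_mul]
      exact hd1 q
    rw [h2, map_one]
  rcases h.mem_or c with h1 | h1
  · exact key c (fun p => (hc _).symm) (hc _) h1
  · exfalso
    have h2 : t 15 * c = 1 := by
      apply key _ _ _ h1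
      · intro p
        rw [mul_assoc, ← hc (φ p), ← mul_assoc, h.f_phi, mul_assoc]
      · rw [mul_assoc, ← hc (t 15)]
    have h3 : c = t 15 := by
      have := eq_inv_of_mul_eq_one_right h2
      rwa [Square.inv_of_sq h.ff] at this
    subst h3
    -- all nodes are equal
    have e1 : t 14 = t 15 := by
      have h4 := h.efe
      rw [hc (t 14), mul_assoc, h.ee, mul_one] at h4
      rw [mul_assoc, hc (t 14), ← mul_assoc, h.ff, one_mul] at h4
      exact h4.symm
    have e2 : t 13 = t 14 := by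
      have h4 := h.ede
      have h5 := hc (t 13)
      rw [← e1] at h5
      rw [← h5, mul_assoc, h.ee, mul_one] at h4
      have h6 : t 13 * t 13 = 1 := h.rel.cox.sq 13 (by norm_num)
      rw [h5, mul_assoc, h6, mul_one] at h4
      exact h4
    have e3 : φ (x 13) = 1 := by rw [h.hphi 13 (by norm_num), e2, e1, h.ff]
    have e4 : x 13 = 1 := hφ (by rw [e3, map_one])
    -- all `x i` are trivial
    have hbr : ∀ i j, i < 14 → j < 14 → adjB i j = true → x i = 1 → x j = 1 := by
      intro i j hi hj hij hx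
      have h7 := h.xrel.cox.br i hi j hj hij
      have h8 := h.xrel.cox.sq j hj
      simp only [hx, one_mul, mul_one] at h7
      rw [h8] at h7
      exact h7
    have f12 := hbr 13 12 (by norm_num) (by norm_num) (by decide) e4
    have f11 := hbr 12 11 (by norm_num) (by norm_num) (by decide) f12
    have f0 := hbr 11 0 (by norm_num) (by norm_num) (by decide) f11
    have f1 := hbr 0 1 (by norm_num) (by norm_num) (by decide) f0
    have f2 := hbr 1 2 (by norm_num) (by norm_num) (by decide) f1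
    have f3 := hbr 2 3 (by norm_num) (by norm_num) (by decide) f2
    have f4 := hbr 3 4 (by norm_num) (by norm_num) (by decide) f3
    have f5 := hbr 4 5 (by norm_num) (by norm_num) (by decide) f4
    have f6 := hbr 0 6 (by norm_num) (by norm_num) (by decide) f0
    have f7 := hbr 6 7 (by norm_num) (by norm_num) (by decide) f6
    have f8 := hbr 7 8 (by norm_num) (by norm_num) (by decide) f7
    have f9 := hbr 8 9 (by norm_num) (by norm_num) (by decide) f8
    have f10 := hbr 9 10 (by norm_num) (by norm_num) (by decide) f9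
    have htop : (⊤ : Subgroup P) ≤ ⊥ := by
      rw [← h.xgen, Subgroup.closure_le]
      rintro _ ⟨i, hi, rfl⟩
      have : x i = 1 := by interval_cases i <;> assumption
      rw [this]
      exact Subgroup.one_mem _
    obtain ⟨p, hp⟩ := exists_ne (1 : P)
    exact hp (Subgroup.mem_bot.1 (htop (Subgroup.mem_top p)))

theorem map_A0 (h : Setup t x φ sgn) : (A0 t x φ).map (MulAut.conj (t 15)).toMonoidHom = B0 t x φ := by
  have hi := Square.inv_of_sq h.ff
  ext g
  constructor
  · rintro ⟨a, ha, rfl⟩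
    have := h.f_A0 ha
    show t 15 * a * (t 15)⁻¹ ∈ _
    rwa [hi]
  · intro hg
    refine ⟨t 15 * g * t 15, h.f_B0 hg, ?_⟩
    show t 15 * (t 15 * g * t 15) * (t 15)⁻¹ = g
    rw [hi]
    calc t 15 * (t 15 * g * t 15) * t 15 = (t 15 * t 15) * g * (t 15 * t 15) := by simp only [mul_assoc]
      _ = g := by rw [h.ff, one_mul, mul_one]

/-- **The commutator subgroup is the direct product of two copies of `P`.** -/
theorem commutator_equiv (h : Setup t x φ sgn) (hF : FiFacts) (hφ : Function.Injective φ) (hU : Univ.{0} x)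
    {m : P} (hm : PMSplit.Swaps x m) (hZ : ∀ c : P, (∀ p, c * p = p * c) → c = 1) :
    Nonempty (↥(commutator G) ≃* P × P) := by
  -- the first factor
  have hinj : Function.Injective (h.pr hφ) := by
    rw [injective_iff_map_eq_one]
    intro a ha
    exact pr_eq_one h hF hφ hU hm ha
  let e1 : A0 t x φ ≃* P := MulEquiv.ofBijective (h.pr hφ) ⟨hinj, (h.pr_ext hφ).surj⟩
  have e2 : A0 t x φ ≃* B0 t x φ :=
    ((A0 t x φ).equivMapOfInjective _ (MulAut.conj (t 15)).injective).trans (MulEquiv.subgroupCongr (map_A0 h))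
  let f : A0 t x φ × B0 t x φ →* G :=
    MonoidHom.noncommCoprod (A0 t x φ).subtype (B0 t x φ).subtype fun a b => h.AB_comm a.2 b.2
  have hf : ∀ a b, f (a, b) = a.1 * b.1 := fun a b => rfl
  have hfinj : Function.Injective f := by
    rw [injective_iff_map_eq_one]
    rintro ⟨a, b⟩ hab
    rw [hf] at hab
    have h1 : a.1 = b.1⁻¹ := eq_inv_of_mul_eq_one_left hab
    have h2 : a.1 = 1 := inf_eq_one h hF hφ hU hm hZ a.2 (by rw [h1]; exact Subgroup.inv_mem _ b.2)
    rw [h2, one_mul] at hab
    exact Prod.ext (Subtype.ext h2) (Subtype.ext hab)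
  have hrange : f.range = commutator G := by
    rw [h.commutator_eq]
    ext g
    constructor
    · rintro ⟨⟨a, b⟩, rfl⟩
      exact ⟨a.1, a.2, b.1, b.2, rfl⟩
    · rintro ⟨a, ha, b, hb, rfl⟩
      exact ⟨(⟨a, ha⟩, ⟨b, hb⟩), rfl⟩
  have e3 : ↥(commutator G) ≃* A0 t x φ × B0 t x φ :=
    (MulEquiv.subgroupCongr hrange.symm).trans (MonoidHom.ofInjective hfinj).symm
  exact ⟨e3.trans (e1.prodCongr (e2.symm.trans e1))⟩

end Cfsg.Agent.H862.BiWr
end

-- part: S5589
section
set_option autoImplicit false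
open Cfsg

namespace Cfsg.Agent.S5589

open Cfsg.Agent.Bimonster Cfsg.Agent.Bimonster.Tits Cfsg.Agent.H862

theorem exists_setup : ∃ (φ : PM →* Spor.Bimonster) (sgn : Spor.Bimonster →* ℤˣ), Setup tB xM φ sgn ∧
    Function.Injective φ := by
  obtain ⟨φ, hφ⟩ := xM_univ Spor.Bimonster _ tB_birel.prel
  obtain ⟨sgn, hsgn⟩ := exists_sgn
  have hS : Setup tB xM φ sgn := ⟨tB_birel, tB_gen, xM_prel, PMFacts.zrel, xM_gen, hφ, hsgn⟩
  obtain ⟨Ψ, hΨ⟩ := bi_univ (wT_birel xM_prel PMFacts.zrel)
  have hcomp : ∀ p : PM, Ψ (φ p) = wL p := by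
    intro p
    have hp : p ∈ Subgroup.closure (nodes 14 xM) := by rw [xM_gen]; trivial
    induction hp using Subgroup.closure_induction with
    | mem y hy =>
      obtain ⟨i, hi, rfl⟩ := hy
      rw [hφ i hi, map_mul, hΨ 15 (by norm_num), hΨ i (by omega), wT_15, wT_lt xM hi, ← mul_assoc,
        wS_sq, one_mul]
    | one => simp only [map_one]
    | mul y z _ _ hy hz => rw [map_mul, map_mul, hy, hz, ← map_mul]
    | inv y _ hy => rw [map_inv, map_inv, hy, ← map_inv]
  refine ⟨φ, sgn, hS, fun p q hpq => ?_⟩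
  apply wL_inj
  rw [← hcomp, ← hcomp, hpq]

/-- The presented Bimonster is the wreath product of the Monster by a group of order 2: its commutator subgroup has index 2 and is isomorphic to the direct product of two copies of the Monster (the Monster being realised as in the definitions inside that commutator subgroup), and the Bimonster has trivial centre. -/
theorem result :
    (commutator Cfsg.Spor.Bimonster).index = 2 ∧ Subgroup.center Cfsg.Spor.Bimonster = ⊥ ∧
    Nonempty (↥(commutator Cfsg.Spor.Bimonster) ≃* Cfsg.Spor.Monster × Cfsg.Spor.Monster) := by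
  obtain ⟨φ, sgn, hS, hφ⟩ := exists_setup
  obtain ⟨m, hm⟩ := PMFacts.exists_swaps
  have hP : Nontrivial PM := MonsterP.Equiv.simple.toNontrivial
  refine ⟨BiWr.index_commutator hS, BiWr.center_eq hS fi_facts hφ xM_univ PMFacts.center_eq_one hP, ?_⟩
  obtain ⟨e⟩ := BiWr.commutator_equiv hS fi_facts hφ xM_univ hm PMFacts.center_eq_one
  obtain ⟨e'⟩ := MonsterP.Equiv.equivM
  exact ⟨e.trans (e'.symm.prodCongr e'.symm)⟩

end Cfsg.Agent.S5589
end
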