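import Mathlib
import Cfsg.Agent.B5591.Final_m3
import Cfsg.Agent.H863.SFin
import Cfsg.Agent.BabyM.ThetaN
import Cfsg.Agent.H863.BTI
import Cfsg.Agent.BMx.Low
import Cfsg.Agent.Lib.ListFast
import Cfsg.Agent.BabyM.Conc
import Cfsg.Statements.S5591
import Cfsg.Agent.Monster.VecFast
import Cfsg.Agent.FastGrp
import Cfsg.Agent.Prune
set_option linter.all false

section
prune_inst 0x7ffcfffbeff8bddfffff7e7ff7fccffdf9f93fffe6fffdfbffe0efff3fdf7b2d8fe5fbafefeb90fcfff6e21c10f87b53fffffeffe26ffc7ffffdfff45ffbffcfffffbd0871ff9cbe1fbe4ffff3f07f8a7f3fffffffffffffffffffffffffffffffbfffffffff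

-- part: B5591/LG_mg
section
prune_inst 0x9000000000400004020000200000000000040010000000000000000000000000100000000000000000000000000000100000000000000000000000000000000000000000000000000000000000000000000
set_option linter.all false
open scoped Cfsg.Agent.FastGrp

-- part: B5591/LGData
section
/-!
# S5591: the finite configuration of lines (transporters)
-/

set_option autoImplicit false
set_option Elab.async false

namespace Cfsg.Agent.B5591.LGData

open Cfsg.Agent.BabyM.Conc Cfsg.Agent.BabyM Cfsg.Agent.BabyM.KQ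
open Cfsg.Agent.H863.BRep Cfsg.Agent.H863.SMod
open Cfsg.Agent.B5591.Geo Cfsg.Agent.B5591.LGAbs Cfsg.Agent.B5591.LGSet
open Cfsg.Spor.BabyMonster

theorem eM1 : Edge zz pp (q 0x4ea) (q 0x400) (q 0x6b4) :=
  edge_of (w := [.h, .p, .h, .p, .h]) (by decide +kernel)

theorem eP1 : Edge zz pp (q 0x4ea) (q 0x6b4) (q 0x57742f) :=
  edge_of (w := [.h, .p, .p, .p, .p, .h, .p, .p, .p, .p, .y1, .xi, .h, .p, .h, .p, .h]) (by decide +kernel)

theorem eM3 : Edge zz pp (q 0x4ea) (q 0x400) (q 0x2f0) :=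
  edge_of (w := [.h, .p, .h, .p, .h, .p, .p, .p, .p, .p, .h, .p, .y5]) (by decide +kernel)

theorem eP3 : Edge zz pp (q 0x4ea) (q 0x2f0) (q 0x5efdf3) :=
  edge_of (w := [.h, .y2, .xi, .h, .y2, .xi, .y1, .xi, .h]) (by decide +kernel)

theorem eM7 : Edge zz pp (q 0x4ea) (q 0x400) (q 0x208) :=
  edge_of (w := [.h, .p, .h, .p, .h, .p, .h, .y4]) (by decide +kernel)

theorem eP7 : Edge zz pp (q 0x4ea) (q 0x208) (q 0x4fb42c) :=
  edge_of (w := [.h, .xi, .h, .y2, .xi, .y1, .xi, .h, .p]) (by decide +kernel)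

theorem eM10 : Edge zz pp (q 0x4ea) (q 0x400) (q 0x4bc) :=
  edge_of (w := [.p, .h, .p, .p, .h, .p, .p, .p, .p, .p]) (by decide +kernel)

theorem eP10 : Edge zz pp (q 0x4ea) (q 0x4bc) (q 0x1f7a49) :=
  edge_of (w := [.p, .h, .p, .p, .h, .p, .h, .y1, .xi, .p, .xi, .y1, .xi, .h, .p, .p]) (by decide +kernel)

theorem eQ1_3 : Edge zz pp (q 0x4ea) (q 0x400) (q 0x2a5) :=
  edge_of (w := [.h, .p, .p, .p, .p, .p, .p, .p, .p, .p, .y1]) (by decide +kernel)

theorem tM1_3 : Tri zz pp (q 0x4ea) (q 0x9) (q 0x6b4) (q 0x2a5) (q 0x400) :=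
  tri_of (w := [.p, .h, .p, .p, .p, .h, .p, .p, .p, .h, .p, .p, .h, .p, .p, .p, .y4, .xi, .h, .p, .h, .p, .h]) (by decide +kernel)

theorem tP1_3 : Tri zz pp (q 0x4ea) (q 0x9) (q 0x57742f) (q 0x2a5) (q 0x6b4) :=
  tri_of (w := [.h, .p, .p, .p, .p, .p, .h, .p, .h, .p, .p, .h, .p, .p, .p, .p, .p, .p, .p, .p, .xi, .p, .xi, .p, .p, .h, .p]) (by decide +kernel)

theorem tM3_1 : Tri zz pp (q 0x4ea) (q 0x9) (q 0x2f0) (q 0x2a5) (q 0x400) :=
  tri_of (w := [.p, .p, .p, .h, .p, .h, .p, .p, .p, .p, .p, .p, .h, .p, .p, .p, .h, .y4, .xi, .h, .y2, .xi, .y1, .xi, .h]) (by decide +kernel)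

theorem tP3_1 : Tri zz pp (q 0x4ea) (q 0x9) (q 0x5efdf3) (q 0x2a5) (q 0x2f0) :=
  tri_of (w := [.p, .h, .p, .p, .p, .p, .p, .p, .p, .p, .p, .p, .h, .p, .p, .p, .p, .p, .p, .p, .y5, .xi, .h, .xi, .y10]) (by decide +kernel)

theorem oA1_3 : Tri zz pp (q 0x4ea) (q 0x9) (q 0x2a5) (q 0x544503) (q 0x57742f) :=
  tri_of (w := [.p, .p, .p, .p, .p, .h, .p, .h, .p, .h, .p, .p, .p, .p, .h, .p, .p, .p, .p, .xi, .h, .y2, .xi, .y1, .y5, .xi]) (by decide +kernel)

theorem oB1_3 : Tri zz pp (q 0x4ea) (q 0x9) (q 0x2a5) (q 0x544503) (q 0x5efdf3) :=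
  tri_of (w := [.h, .p, .h, .p, .h, .p, .h, .p, .y6, .xi, .h, .y2, .xi, .y1, .y5, .xi]) (by decide +kernel)

theorem eQ1_7 : Edge zz pp (q 0x4ea) (q 0x400) (q 0x9e) :=
  edge_of (w := [.p, .p, .p, .p, .p, .h, .p, .h, .p, .p, .p, .p, .p, .y2]) (by decide +kernel)

theorem tM1_7 : Tri zz pp (q 0x4ea) (q 0x9) (q 0x6b4) (q 0x9e) (q 0x400) :=
  tri_of (w := [.p, .p, .h, .p, .p, .p, .p, .p, .h, .p, .p, .p, .p, .p, .h, .p, .h, .p, .h, .p, .y6, .xi, .h, .p, .h, .p, .h]) (by decide +kernel)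

theorem tP1_7 : Tri zz pp (q 0x4ea) (q 0x9) (q 0x57742f) (q 0x9e) (q 0x6b4) :=
  tri_of (w := [.h, .p, .h, .p, .p, .h, .p, .h, .p, .p, .h, .p, .p, .h, .p, .p, .p, .p, .p, .h, .p, .xi, .p, .xi, .p, .p, .h, .p]) (by decide +kernel)

theorem tM7_1 : Tri zz pp (q 0x4ea) (q 0x9) (q 0x208) (q 0x9e) (q 0x400) :=
  tri_of (w := [.p, .p, .p, .h, .p, .h, .p, .p, .p, .p, .p, .p, .h, .p, .p, .p, .h, .y2, .xi, .h, .y2, .xi, .y1, .xi, .h, .p]) (by decide +kernel)

theorem tP7_1 : Tri zz pp (q 0x4ea) (q 0x9) (q 0x4fb42c) (q 0x9e) (q 0x208) :=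
  tri_of (w := [.p, .p, .p, .p, .p, .h, .p, .h, .p, .p, .p, .p, .xi, .p, .xi]) (by decide +kernel)

theorem oA1_7 : Tri zz pp (q 0x4ea) (q 0x9) (q 0x9e) (q 0x413119) (q 0x57742f) :=
  tri_of (w := [.h, .p, .p, .h, .p, .h, .p, .p, .p, .h, .p, .p, .p, .p, .p, .p, .y3, .xi, .h, .xi, .y5, .xi, .p]) (by decide +kernel)

theorem oB1_7 : Tri zz pp (q 0x4ea) (q 0x9) (q 0x9e) (q 0x413119) (q 0x4fb42c) :=
  tri_of (w := [.h, .p, .p, .p, .h, .p, .p, .p, .h, .p, .p, .h, .p, .h, .p, .h, .p, .y4, .h, .xi, .h, .xi, .y5, .xi, .p]) (by decide +kernel)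

theorem eQ1_10 : Edge zz pp (q 0x4ea) (q 0x400) (q 0x62a) :=
  edge_of (w := [.h, .p, .p, .p, .h, .p, .p, .p, .p, .h]) (by decide +kernel)

theorem tM1_10 : Tri zz pp (q 0x4ea) (q 0x9) (q 0x6b4) (q 0x62a) (q 0x400) :=
  tri_of (w := [.p, .p, .h, .p, .p, .p, .p, .p, .h, .p, .p, .p, .p, .p, .h, .p, .h, .p, .h, .p, .y2, .xi, .h, .p, .h, .p, .h]) (by decide +kernel)

theorem tP1_10 : Tri zz pp (q 0x4ea) (q 0x9) (q 0x57742f) (q 0x62a) (q 0x6b4) :=
  tri_of (w := [.p, .p, .p, .h, .p, .h, .p, .p, .p, .p, .p, .h, .p, .p, .p, .p, .xi, .p, .xi, .p, .p, .h, .p]) (by decide +kernel)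

theorem tM10_1 : Tri zz pp (q 0x4ea) (q 0x9) (q 0x4bc) (q 0x62a) (q 0x400) :=
  tri_of (w := [.p, .h, .p, .h, .p, .h, .p, .p, .p, .p, .p, .p, .p, .h, .p, .p, .p, .p, .p, .y6, .xi, .p, .xi, .y1, .xi, .h, .p, .p]) (by decide +kernel)

theorem tP10_1 : Tri zz pp (q 0x4ea) (q 0x9) (q 0x1f7a49) (q 0x62a) (q 0x4bc) :=
  tri_of (w := [.p, .p, .p, .p, .p, .h, .p, .h, .p, .p, .p, .p, .p, .xi, .p, .h, .xi, .h, .xi, .y2, .y7, .xi]) (by decide +kernel)

theorem oA1_10 : Tri zz pp (q 0x4ea) (q 0x9) (q 0x62a) (q 0x462464) (q 0x57742f) :=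
  tri_of (w := [.h, .p, .h, .p, .p, .p, .h, .p, .p, .p, .h, .p, .p, .p, .p, .y4, .xi, .h, .p, .xi, .p, .p, .h, .p, .h]) (by decide +kernel)

theorem oB1_10 : Tri zz pp (q 0x4ea) (q 0x9) (q 0x62a) (q 0x462464) (q 0x1f7a49) :=
  tri_of (w := [.h, .p, .p, .h, .p, .h, .p, .h, .p, .p, .h, .p, .p, .h, .p, .h, .p, .p, .h, .y3, .xi, .h, .p, .xi, .p, .p, .h, .p, .h]) (by decide +kernel)

theorem eQ3_7 : Edge zz pp (q 0x4ea) (q 0x400) (q 0x4ea) :=
  edge_of (w := []) (by decide +kernel)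

theorem tM3_7 : Tri zz pp (q 0x4ea) (q 0x9) (q 0x2f0) (q 0x4ea) (q 0x400) :=
  tri_of (w := [.p, .p, .p, .h, .p, .h, .p, .p, .p, .p, .p, .p, .h, .p, .h, .p, .p, .h, .y6, .xi, .h, .y2, .xi, .y1, .xi, .h]) (by decide +kernel)

theorem tP3_7 : Tri zz pp (q 0x4ea) (q 0x9) (q 0x5efdf3) (q 0x4ea) (q 0x2f0) :=
  tri_of (w := [.h, .p, .h, .p, .h, .p, .p, .h, .p, .p, .p, .p, .h, .p, .p, .p, .p, .p, .p, .p, .y5, .xi, .h, .xi, .y10]) (by decide +kernel)

theorem tM7_3 : Tri zz pp (q 0x4ea) (q 0x9) (q 0x208) (q 0x4ea) (q 0x400) :=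
  tri_of (w := [.h, .p, .h, .p, .h, .p, .p, .p, .h, .p, .p, .h, .p, .h, .y4, .xi, .h, .y2, .xi, .y1, .xi, .h, .p]) (by decide +kernel)

theorem tP7_3 : Tri zz pp (q 0x4ea) (q 0x9) (q 0x4fb42c) (q 0x4ea) (q 0x208) :=
  tri_of (w := [.h, .p, .h, .p, .h, .p, .p, .h, .p, .p, .p, .p, .h, .p, .p, .p, .p, .p, .p, .p, .xi, .p, .xi]) (by decide +kernel)

theorem oA3_7 : Tri zz pp (q 0x4ea) (q 0x9) (q 0x4ea) (q 0x4a9425) (q 0x5efdf3) :=
  tri_of (w := [.p, .p, .p, .p, .h, .p, .h, .p, .h, .p, .p, .p, .p, .h, .p, .xi]) (by decide +kernel)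

theorem oB3_7 : Tri zz pp (q 0x4ea) (q 0x9) (q 0x4ea) (q 0x4a9425) (q 0x4fb42c) :=
  tri_of (w := [.h, .p, .p, .h, .p, .p, .h, .p, .p, .p, .p, .p, .p, .h, .p, .p, .p, .h, .y6, .xi]) (by decide +kernel)

theorem eQ3_10 : Edge zz pp (q 0x4ea) (q 0x400) (q 0x64f) :=
  edge_of (w := [.p, .p, .p, .p, .p, .p, .p, .p, .p, .p]) (by decide +kernel)

theorem tM3_10 : Tri zz pp (q 0x4ea) (q 0x9) (q 0x2f0) (q 0x64f) (q 0x400) :=
  tri_of (w := [.h, .p, .h, .p, .h, .p, .p, .p, .h, .p, .p, .h, .p, .h, .y4, .xi, .h, .y2, .xi, .y1, .xi, .h]) (by decide +kernel)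

theorem tP3_10 : Tri zz pp (q 0x4ea) (q 0x9) (q 0x5efdf3) (q 0x64f) (q 0x2f0) :=
  tri_of (w := [.p, .p, .p, .p, .p, .p, .h, .p, .p, .p, .p, .y7, .xi, .h, .xi, .y10]) (by decide +kernel)

theorem tM10_3 : Tri zz pp (q 0x4ea) (q 0x9) (q 0x4bc) (q 0x64f) (q 0x400) :=
  tri_of (w := [.p, .h, .p, .p, .p, .h, .p, .p, .p, .p, .p, .p, .h, .p, .p, .y4, .xi, .p, .xi, .y1, .xi, .h, .p, .p]) (by decide +kernel)

theorem tP10_3 : Tri zz pp (q 0x4ea) (q 0x9) (q 0x1f7a49) (q 0x64f) (q 0x4bc) :=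
  tri_of (w := [.p, .p, .p, .p, .p, .p, .h, .p, .p, .p, .p, .p, .xi, .p, .h, .xi, .h, .xi, .y2, .y7, .xi]) (by decide +kernel)

theorem oA3_10 : Tri zz pp (q 0x4ea) (q 0x9) (q 0x64f) (q 0x5c3a04) (q 0x5efdf3) :=
  tri_of (w := [.h, .p, .h, .p, .p, .h, .p, .h, .p, .p, .h, .p, .h, .p, .p, .p, .y1, .p, .xi, .h, .xi, .h, .y2, .xi]) (by decide +kernel)

theorem oB3_10 : Tri zz pp (q 0x4ea) (q 0x9) (q 0x64f) (q 0x5c3a04) (q 0x1f7a49) :=
  tri_of (w := [.h, .p, .p, .p, .p, .h, .p, .p, .h, .p, .h, .p, .p, .h, .p, .h, .y1, .p, .xi, .h, .xi, .h, .y2, .xi]) (by decide +kernel)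

theorem eQ7_10 : Edge zz pp (q 0x4ea) (q 0x400) (q 0x296) :=
  edge_of (w := [.h, .p, .p, .p, .p, .p, .p, .p, .p, .p, .p, .y2]) (by decide +kernel)

theorem tM7_10 : Tri zz pp (q 0x4ea) (q 0x9) (q 0x208) (q 0x296) (q 0x400) :=
  tri_of (w := [.p, .p, .p, .h, .p, .h, .p, .p, .p, .p, .p, .p, .h, .p, .p, .p, .h, .y4, .xi, .h, .y2, .xi, .y1, .xi, .h, .p]) (by decide +kernel)

theorem tP7_10 : Tri zz pp (q 0x4ea) (q 0x9) (q 0x4fb42c) (q 0x296) (q 0x208) :=
  tri_of (w := [.p, .h, .p, .p, .p, .p, .p, .p, .p, .p, .p, .p, .h, .p, .p, .p, .p, .p, .p, .p, .xi, .p, .xi]) (by decide +kernel)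

theorem tM10_7 : Tri zz pp (q 0x4ea) (q 0x9) (q 0x4bc) (q 0x296) (q 0x400) :=
  tri_of (w := [.p, .h, .p, .h, .p, .h, .p, .p, .p, .p, .p, .p, .p, .h, .p, .p, .p, .p, .p, .y2, .xi, .p, .xi, .y1, .xi, .h, .p, .p]) (by decide +kernel)

theorem tP10_7 : Tri zz pp (q 0x4ea) (q 0x9) (q 0x1f7a49) (q 0x296) (q 0x4bc) :=
  tri_of (w := [.p, .h, .p, .p, .h, .p, .p, .h, .p, .p, .p, .h, .p, .p, .p, .p, .p, .h, .xi, .p, .h, .xi, .h, .xi, .y2, .y7, .xi]) (by decide +kernel)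

theorem oA7_10 : Tri zz pp (q 0x4ea) (q 0x9) (q 0x296) (q 0x462464) (q 0x4fb42c) :=
  tri_of (w := [.p, .h, .p, .h, .p, .h, .p, .h, .p, .p, .p, .p, .p, .p, .h, .p, .p, .p, .y1, .xi, .p, .y3, .xi, .y3, .xi]) (by decide +kernel)

theorem oB7_10 : Tri zz pp (q 0x4ea) (q 0x9) (q 0x296) (q 0x462464) (q 0x1f7a49) :=
  tri_of (w := [.p, .h, .p, .h, .p, .p, .p, .p, .h, .p, .h, .p, .p, .h, .p, .p, .p, .h, .y6, .xi, .p, .y3, .xi, .y3, .xi]) (by decide +kernel)

end Cfsg.Agent.B5591.LGData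
end

-- part: B5591/LGChk
section
/-!
# S5591: the finite configuration of lines (commutations)
-/

set_option autoImplicit false
set_option Elab.async false

namespace Cfsg.Agent.B5591.LGChk

open Cfsg.Agent.BabyM.Conc Cfsg.Agent.BabyM Cfsg.Agent.BabyM.KQ
open Cfsg.Agent.H863.BRep Cfsg.Agent.H863.SMod
open Cfsg.Agent.B5591.Geo Cfsg.Agent.B5591.LGAbs Cfsg.Agent.B5591.LGSet
open Cfsg.Spor.BabyMonster

theorem cq {t : Gen} {v : List Ltr} {c : ℕ} (h1 : v.all isq = true) (h2 : cw v = c)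
    (h : BM.StageW.chk (v ++ BM.StageW.tw t) (BM.StageW.tw t ++ v) = true) : q c * x t = x t * q c := by
  have h3 := comm_chk h
  rwa [gW_R h1, h2] at h3

theorem m5_1 : q 0x6b4 * x .t5 = x .t5 * q 0x6b4 :=
  cq (v := [.Z2, .Z4, .Z5, .Z7, .Z9, .Z10]) (by decide) (by (first | (delta BM.StageW.chk; exact Cfsg.Agent.BMx.Low.chk_of_eqF (by decide +kernel)) | decide +kernel)) (by (first | (delta BM.StageW.chk; exact Cfsg.Agent.BMx.Low.chk_of_eqF (by decide +kernel)) | decide +kernel))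

theorem m1 : q 0x6b4 * x .t1 = x .t1 * q 0x6b4 :=
  cq (v := [.Z2, .Z4, .Z5, .Z7, .Z9, .Z10]) (by decide) (by (first | (delta BM.StageW.chk; exact Cfsg.Agent.BMx.Low.chk_of_eqF (by decide +kernel)) | decide +kernel)) (by (first | (delta BM.StageW.chk; exact Cfsg.Agent.BMx.Low.chk_of_eqF (by decide +kernel)) | decide +kernel))

theorem m5_3 : q 0x2f0 * x .t5 = x .t5 * q 0x2f0 :=
  cq (v := [.Z4, .Z5, .Z6, .Z7, .Z9]) (by decide) (by (first | (delta BM.StageW.chk; exact Cfsg.Agent.BMx.Low.chk_of_eqF (by decide +kernel)) | decide +kernel)) (by (first | (delta BM.StageW.chk; exact Cfsg.Agent.BMx.Low.chk_of_eqF (by decide +kernel)) | decide +kernel))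

theorem m3 : q 0x2f0 * x .t3 = x .t3 * q 0x2f0 :=
  cq (v := [.Z4, .Z5, .Z6, .Z7, .Z9]) (by decide) (by (first | (delta BM.StageW.chk; exact Cfsg.Agent.BMx.Low.chk_of_eqF (by decide +kernel)) | decide +kernel)) (by (first | (delta BM.StageW.chk; exact Cfsg.Agent.BMx.Low.chk_of_eqF (by decide +kernel)) | decide +kernel))

theorem m5_7 : q 0x208 * x .t5 = x .t5 * q 0x208 :=
  cq (v := [.Z3, .Z9]) (by decide) (by (first | (delta BM.StageW.chk; exact Cfsg.Agent.BMx.Low.chk_of_eqF (by decide +kernel)) | decide +kernel)) (by (first | (delta BM.StageW.chk; exact Cfsg.Agent.BMx.Low.chk_of_eqF (by decide +kernel)) | decide +kernel))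

theorem m7 : q 0x208 * x .t7 = x .t7 * q 0x208 :=
  cq (v := [.Z3, .Z9]) (by decide) (by (first | (delta BM.StageW.chk; exact Cfsg.Agent.BMx.Low.chk_of_eqF (by decide +kernel)) | decide +kernel)) (by (first | (delta BM.StageW.chk; exact Cfsg.Agent.BMx.Low.chk_of_eqF (by decide +kernel)) | decide +kernel))

theorem m5_10 : q 0x4bc * x .t5 = x .t5 * q 0x4bc :=
  cq (v := [.Z2, .Z3, .Z4, .Z5, .Z7, .Z10]) (by decide) (by (first | (delta BM.StageW.chk; exact Cfsg.Agent.BMx.Low.chk_of_eqF (by decide +kernel)) | decide +kernel)) (by (first | (delta BM.StageW.chk; exact Cfsg.Agent.BMx.Low.chk_of_eqF (by decide +kernel)) | decide +kernel))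

theorem m10 : q 0x4bc * x .t10 = x .t10 * q 0x4bc :=
  cq (v := [.Z2, .Z3, .Z4, .Z5, .Z7, .Z10]) (by decide) (by (first | (delta BM.StageW.chk; exact Cfsg.Agent.BMx.Low.chk_of_eqF (by decide +kernel)) | decide +kernel)) (by (first | (delta BM.StageW.chk; exact Cfsg.Agent.BMx.Low.chk_of_eqF (by decide +kernel)) | decide +kernel))

theorem q5_1_3 : q 0x2a5 * x .t5 = x .t5 * q 0x2a5 :=
  cq (v := [.Z0, .Z2, .Z5, .Z7, .Z9]) (by decide) (by (first | (delta BM.StageW.chk; exact Cfsg.Agent.BMx.Low.chk_of_eqF (by decide +kernel)) | decide +kernel)) (by (first | (delta BM.StageW.chk; exact Cfsg.Agent.BMx.Low.chk_of_eqF (by decide +kernel)) | decide +kernel))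

theorem q5_1_7 : q 0x9e * x .t5 = x .t5 * q 0x9e :=
  cq (v := [.Z1, .Z2, .Z3, .Z4, .Z7]) (by decide) (by (first | (delta BM.StageW.chk; exact Cfsg.Agent.BMx.Low.chk_of_eqF (by decide +kernel)) | decide +kernel)) (by (first | (delta BM.StageW.chk; exact Cfsg.Agent.BMx.Low.chk_of_eqF (by decide +kernel)) | decide +kernel))

theorem q5_1_10 : q 0x62a * x .t5 = x .t5 * q 0x62a :=
  cq (v := [.Z1, .Z3, .Z5, .Z9, .Z10]) (by decide) (by (first | (delta BM.StageW.chk; exact Cfsg.Agent.BMx.Low.chk_of_eqF (by decide +kernel)) | decide +kernel)) (by (first | (delta BM.StageW.chk; exact Cfsg.Agent.BMx.Low.chk_of_eqF (by decide +kernel)) | decide +kernel))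

theorem qA1_3 : q 0x2a5 * x .t1 = x .t1 * q 0x2a5 :=
  cq (v := [.Z0, .Z2, .Z5, .Z7, .Z9]) (by decide) (by (first | (delta BM.StageW.chk; exact Cfsg.Agent.BMx.Low.chk_of_eqF (by decide +kernel)) | decide +kernel)) (by (first | (delta BM.StageW.chk; exact Cfsg.Agent.BMx.Low.chk_of_eqF (by decide +kernel)) | decide +kernel))

theorem qB1_3 : q 0x2a5 * x .t3 = x .t3 * q 0x2a5 :=
  cq (v := [.Z0, .Z2, .Z5, .Z7, .Z9]) (by decide) (by (first | (delta BM.StageW.chk; exact Cfsg.Agent.BMx.Low.chk_of_eqF (by decide +kernel)) | decide +kernel)) (by (first | (delta BM.StageW.chk; exact Cfsg.Agent.BMx.Low.chk_of_eqF (by decide +kernel)) | decide +kernel))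

theorem rA1_3 : q 0x544503 * x .t1 = x .t1 * q 0x544503 :=
  cq (v := [.Z0, .Z1, .Z8, .Z10, .X3, .X7, .X9, .z]) (by decide) (by (first | (delta BM.StageW.chk; exact Cfsg.Agent.BMx.Low.chk_of_eqF (by decide +kernel)) | decide +kernel)) (by (first | (delta BM.StageW.chk; exact Cfsg.Agent.BMx.Low.chk_of_eqF (by decide +kernel)) | decide +kernel))

theorem rB1_3 : q 0x544503 * x .t3 = x .t3 * q 0x544503 :=
  cq (v := [.Z0, .Z1, .Z8, .Z10, .X3, .X7, .X9, .z]) (by decide) (by (first | (delta BM.StageW.chk; exact Cfsg.Agent.BMx.Low.chk_of_eqF (by decide +kernel)) | decide +kernel)) (by (first | (delta BM.StageW.chk; exact Cfsg.Agent.BMx.Low.chk_of_eqF (by decide +kernel)) | decide +kernel))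

theorem qA1_7 : q 0x9e * x .t1 = x .t1 * q 0x9e :=
  cq (v := [.Z1, .Z2, .Z3, .Z4, .Z7]) (by decide) (by (first | (delta BM.StageW.chk; exact Cfsg.Agent.BMx.Low.chk_of_eqF (by decide +kernel)) | decide +kernel)) (by (first | (delta BM.StageW.chk; exact Cfsg.Agent.BMx.Low.chk_of_eqF (by decide +kernel)) | decide +kernel))

theorem qB1_7 : q 0x9e * x .t7 = x .t7 * q 0x9e :=
  cq (v := [.Z1, .Z2, .Z3, .Z4, .Z7]) (by decide) (by (first | (delta BM.StageW.chk; exact Cfsg.Agent.BMx.Low.chk_of_eqF (by decide +kernel)) | decide +kernel)) (by (first | (delta BM.StageW.chk; exact Cfsg.Agent.BMx.Low.chk_of_eqF (by decide +kernel)) | decide +kernel))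

theorem rA1_7 : q 0x413119 * x .t1 = x .t1 * q 0x413119 :=
  cq (v := [.Z0, .Z3, .Z4, .Z8, .X1, .X2, .X5, .z]) (by decide) (by (first | (delta BM.StageW.chk; exact Cfsg.Agent.BMx.Low.chk_of_eqF (by decide +kernel)) | decide +kernel)) (by (first | (delta BM.StageW.chk; exact Cfsg.Agent.BMx.Low.chk_of_eqF (by decide +kernel)) | decide +kernel))

theorem rB1_7 : q 0x413119 * x .t7 = x .t7 * q 0x413119 :=
  cq (v := [.Z0, .Z3, .Z4, .Z8, .X1, .X2, .X5, .z]) (by decide) (by (first | (delta BM.StageW.chk; exact Cfsg.Agent.BMx.Low.chk_of_eqF (by decide +kernel)) | decide +kernel)) (by (first | (delta BM.StageW.chk; exact Cfsg.Agent.BMx.Low.chk_of_eqF (by decide +kernel)) | decide +kernel))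

theorem qA1_10 : q 0x62a * x .t1 = x .t1 * q 0x62a :=
  cq (v := [.Z1, .Z3, .Z5, .Z9, .Z10]) (by decide) (by (first | (delta BM.StageW.chk; exact Cfsg.Agent.BMx.Low.chk_of_eqF (by decide +kernel)) | decide +kernel)) (by (first | (delta BM.StageW.chk; exact Cfsg.Agent.BMx.Low.chk_of_eqF (by decide +kernel)) | decide +kernel))

theorem qB1_10 : q 0x62a * x .t10 = x .t10 * q 0x62a :=
  cq (v := [.Z1, .Z3, .Z5, .Z9, .Z10]) (by decide) (by (first | (delta BM.StageW.chk; exact Cfsg.Agent.BMx.Low.chk_of_eqF (by decide +kernel)) | decide +kernel)) (by (first | (delta BM.StageW.chk; exact Cfsg.Agent.BMx.Low.chk_of_eqF (by decide +kernel)) | decide +kernel))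

theorem rA1_10 : q 0x462464 * x .t1 = x .t1 * q 0x462464 :=
  cq (v := [.Z2, .Z5, .Z6, .Z10, .X2, .X6, .X7, .z]) (by decide) (by (first | (delta BM.StageW.chk; exact Cfsg.Agent.BMx.Low.chk_of_eqF (by decide +kernel)) | decide +kernel)) (by (first | (delta BM.StageW.chk; exact Cfsg.Agent.BMx.Low.chk_of_eqF (by decide +kernel)) | decide +kernel))

theorem rB1_10 : q 0x462464 * x .t10 = x .t10 * q 0x462464 :=
  cq (v := [.Z2, .Z5, .Z6, .Z10, .X2, .X6, .X7, .z]) (by decide) (by (first | (delta BM.StageW.chk; exact Cfsg.Agent.BMx.Low.chk_of_eqF (by decide +kernel)) | decide +kernel)) (by (first | (delta BM.StageW.chk; exact Cfsg.Agent.BMx.Low.chk_of_eqF (by decide +kernel)) | decide +kernel))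

theorem qA3_7 : q 0x4ea * x .t3 = x .t3 * q 0x4ea :=
  cq (v := [.Z1, .Z3, .Z5, .Z6, .Z7, .Z10]) (by decide) (by (first | (delta BM.StageW.chk; exact Cfsg.Agent.BMx.Low.chk_of_eqF (by decide +kernel)) | decide +kernel)) (by (first | (delta BM.StageW.chk; exact Cfsg.Agent.BMx.Low.chk_of_eqF (by decide +kernel)) | decide +kernel))

theorem qB3_7 : q 0x4ea * x .t7 = x .t7 * q 0x4ea :=
  cq (v := [.Z1, .Z3, .Z5, .Z6, .Z7, .Z10]) (by decide) (by (first | (delta BM.StageW.chk; exact Cfsg.Agent.BMx.Low.chk_of_eqF (by decide +kernel)) | decide +kernel)) (by (first | (delta BM.StageW.chk; exact Cfsg.Agent.BMx.Low.chk_of_eqF (by decide +kernel)) | decide +kernel))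

theorem rA3_7 : q 0x4a9425 * x .t3 = x .t3 * q 0x4a9425 :=
  cq (v := [.Z0, .Z2, .Z5, .Z10, .X1, .X4, .X6, .X8, .z]) (by decide) (by (first | (delta BM.StageW.chk; exact Cfsg.Agent.BMx.Low.chk_of_eqF (by decide +kernel)) | decide +kernel)) (by (first | (delta BM.StageW.chk; exact Cfsg.Agent.BMx.Low.chk_of_eqF (by decide +kernel)) | decide +kernel))

theorem rB3_7 : q 0x4a9425 * x .t7 = x .t7 * q 0x4a9425 :=
  cq (v := [.Z0, .Z2, .Z5, .Z10, .X1, .X4, .X6, .X8, .z]) (by decide) (by (first | (delta BM.StageW.chk; exact Cfsg.Agent.BMx.Low.chk_of_eqF (by decide +kernel)) | decide +kernel)) (by (first | (delta BM.StageW.chk; exact Cfsg.Agent.BMx.Low.chk_of_eqF (by decide +kernel)) | decide +kernel))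

theorem qA3_10 : q 0x64f * x .t3 = x .t3 * q 0x64f :=
  cq (v := [.Z0, .Z1, .Z2, .Z3, .Z6, .Z9, .Z10]) (by decide) (by (first | (delta BM.StageW.chk; exact Cfsg.Agent.BMx.Low.chk_of_eqF (by decide +kernel)) | decide +kernel)) (by (first | (delta BM.StageW.chk; exact Cfsg.Agent.BMx.Low.chk_of_eqF (by decide +kernel)) | decide +kernel))

theorem qB3_10 : q 0x64f * x .t10 = x .t10 * q 0x64f :=
  cq (v := [.Z0, .Z1, .Z2, .Z3, .Z6, .Z9, .Z10]) (by decide) (by (first | (delta BM.StageW.chk; exact Cfsg.Agent.BMx.Low.chk_of_eqF (by decide +kernel)) | decide +kernel)) (by (first | (delta BM.StageW.chk; exact Cfsg.Agent.BMx.Low.chk_of_eqF (by decide +kernel)) | decide +kernel))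

theorem rA3_10 : q 0x5c3a04 * x .t3 = x .t3 * q 0x5c3a04 :=
  cq (v := [.Z2, .Z9, .X0, .X1, .X2, .X7, .X8, .X9, .z]) (by decide) (by (first | (delta BM.StageW.chk; exact Cfsg.Agent.BMx.Low.chk_of_eqF (by decide +kernel)) | decide +kernel)) (by (first | (delta BM.StageW.chk; exact Cfsg.Agent.BMx.Low.chk_of_eqF (by decide +kernel)) | decide +kernel))

theorem rB3_10 : q 0x5c3a04 * x .t10 = x .t10 * q 0x5c3a04 :=
  cq (v := [.Z2, .Z9, .X0, .X1, .X2, .X7, .X8, .X9, .z]) (by decide) (by (first | (delta BM.StageW.chk; exact Cfsg.Agent.BMx.Low.chk_of_eqF (by decide +kernel)) | decide +kernel)) (by (first | (delta BM.StageW.chk; exact Cfsg.Agent.BMx.Low.chk_of_eqF (by decide +kernel)) | decide +kernel))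

theorem qA7_10 : q 0x296 * x .t7 = x .t7 * q 0x296 :=
  cq (v := [.Z1, .Z2, .Z4, .Z7, .Z9]) (by decide) (by (first | (delta BM.StageW.chk; exact Cfsg.Agent.BMx.Low.chk_of_eqF (by decide +kernel)) | decide +kernel)) (by (first | (delta BM.StageW.chk; exact Cfsg.Agent.BMx.Low.chk_of_eqF (by decide +kernel)) | decide +kernel))

theorem qB7_10 : q 0x296 * x .t10 = x .t10 * q 0x296 :=
  cq (v := [.Z1, .Z2, .Z4, .Z7, .Z9]) (by decide) (by (first | (delta BM.StageW.chk; exact Cfsg.Agent.BMx.Low.chk_of_eqF (by decide +kernel)) | decide +kernel)) (by (first | (delta BM.StageW.chk; exact Cfsg.Agent.BMx.Low.chk_of_eqF (by decide +kernel)) | decide +kernel))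

theorem rA7_10 : q 0x462464 * x .t7 = x .t7 * q 0x462464 :=
  cq (v := [.Z2, .Z5, .Z6, .Z10, .X2, .X6, .X7, .z]) (by decide) (by (first | (delta BM.StageW.chk; exact Cfsg.Agent.BMx.Low.chk_of_eqF (by decide +kernel)) | decide +kernel)) (by (first | (delta BM.StageW.chk; exact Cfsg.Agent.BMx.Low.chk_of_eqF (by decide +kernel)) | decide +kernel))

theorem rB7_10 : q 0x462464 * x .t10 = x .t10 * q 0x462464 :=
  cq (v := [.Z2, .Z5, .Z6, .Z10, .X2, .X6, .X7, .z]) (by decide) (by (first | (delta BM.StageW.chk; exact Cfsg.Agent.BMx.Low.chk_of_eqF (by decide +kernel)) | decide +kernel)) (by (first | (delta BM.StageW.chk; exact Cfsg.Agent.BMx.Low.chk_of_eqF (by decide +kernel)) | decide +kernel))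

theorem f3 : q 0x475 * x .t3 = x .t3 * q 0x475 :=
  cq (v := [.Z0, .Z2, .Z4, .Z5, .Z6, .Z10]) (by decide) (by (first | (delta BM.StageW.chk; exact Cfsg.Agent.BMx.Low.chk_of_eqF (by decide +kernel)) | decide +kernel)) (by (first | (delta BM.StageW.chk; exact Cfsg.Agent.BMx.Low.chk_of_eqF (by decide +kernel)) | decide +kernel))

theorem f5 : q 0x475 * x .t5 = x .t5 * q 0x475 :=
  cq (v := [.Z0, .Z2, .Z4, .Z5, .Z6, .Z10]) (by decide) (by (first | (delta BM.StageW.chk; exact Cfsg.Agent.BMx.Low.chk_of_eqF (by decide +kernel)) | decide +kernel)) (by (first | (delta BM.StageW.chk; exact Cfsg.Agent.BMx.Low.chk_of_eqF (by decide +kernel)) | decide +kernel))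

theorem f7 : q 0x475 * x .t7 = x .t7 * q 0x475 :=
  cq (v := [.Z0, .Z2, .Z4, .Z5, .Z6, .Z10]) (by decide) (by (first | (delta BM.StageW.chk; exact Cfsg.Agent.BMx.Low.chk_of_eqF (by decide +kernel)) | decide +kernel)) (by (first | (delta BM.StageW.chk; exact Cfsg.Agent.BMx.Low.chk_of_eqF (by decide +kernel)) | decide +kernel))

theorem f10 : q 0x475 * x .t10 = x .t10 * q 0x475 :=
  cq (v := [.Z0, .Z2, .Z4, .Z5, .Z6, .Z10]) (by decide) (by (first | (delta BM.StageW.chk; exact Cfsg.Agent.BMx.Low.chk_of_eqF (by decide +kernel)) | decide +kernel)) (by (first | (delta BM.StageW.chk; exact Cfsg.Agent.BMx.Low.chk_of_eqF (by decide +kernel)) | decide +kernel))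

end Cfsg.Agent.B5591.LGChk
end

-- part: B5591/Spider3
section
/-!
# S5591: the spider relator is central in an extension without `2`-torsion

`x 1, ..., x 11` satisfy the Coxeter relations of `Y433` in `E`, the kernel of `π : E →* G` has no involutions, the three
additional relators hold after applying `π`, and some involution `φ` over the centre of the `E₇` with long arm
`x 4, x 3, x 2` commutes with `x 2, ..., x 7, x 9, x 10`.  Then the two `E₇` relators hold in `E` and the tenth power of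
the spider commutes with all `x i`.
-/

set_option autoImplicit false

namespace Cfsg.Agent.B5591.Spider3

open Cfsg.Agent.H138.CoxEng

def sW : List ℕ := [5, 4, 3, 5, 6, 7, 5, 9, 10]
def tT : List ℕ := [9, 5, 4, 3, 6, 5, 4, 7, 6, 5, 9, 5, 6, 7, 4, 5, 6, 3, 4, 5, 9, 10]
def s0 : List ℕ := [3, 4, 5, 9, 10, 6, 5, 9, 4, 5, 6, 3, 4, 5, 9, 10, 7, 6, 5, 9, 4, 5, 6, 3, 4, 5, 9, 10, 7, 6, 5, 9,
  4, 5, 6, 3, 4, 5, 9, 10, 7, 6, 5, 9, 4, 5, 6, 7]
def g3 : List ℕ := [4, 5, 9, 10, 3, 4, 5, 9]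
def g7 : List ℕ := [7, 6, 5, 9, 10, 7, 6, 5, 9]
def wD : List ℕ := [8, 7, 6, 5, 4, 3]
def c1 : List ℕ := [5, 4, 3, 6, 7, 8, 9]
def c2 : List ℕ := [5, 9, 10, 6, 7, 8, 4]
def c3 : List ℕ := [5, 4, 3, 6, 9, 10, 11]
def c4 : List ℕ := [5, 6, 7, 4, 9, 10, 11]
def c5 : List ℕ := [5, 4, 3, 2, 6, 7, 9]
def c6 : List ℕ := [5, 4, 3, 2, 9, 10, 6]
def d8 : List ℕ := pw [7, 5, 8, 6, 4, 9] 5
def d11 : List ℕ := pw [10, 5, 11, 9, 4, 6] 5
def d2 : List ℕ := pw [3, 5, 2, 4, 6, 9] 5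
def a8 : List ℕ := [3, 4, 5, 6, 7, 8, 9, 5, 4, 3, 6, 5, 4, 7, 6, 5, 9, 5, 6, 7, 4, 5, 6, 3, 4, 5, 9, 8, 7, 6, 5, 4, 3]
def b8 : List ℕ :=
  [10, 9, 5, 4, 6, 5, 7, 6, 8, 7, 9, 5, 4, 6, 5, 9, 10, 9, 5, 6, 4, 5, 9, 7, 8, 6, 7, 5, 6, 4, 5, 9, 10]
def a11 : List ℕ :=
  [3, 4, 5, 6, 9, 5, 4, 3, 10, 9, 5, 4, 6, 5, 9, 10, 11, 10, 9, 5, 6, 4, 5, 9, 10, 3, 4, 5, 9, 6, 5, 4, 3]
def b11 : List ℕ :=
  [7, 6, 5, 4, 9, 5, 6, 7, 10, 9, 5, 4, 6, 5, 9, 10, 11, 10, 9, 5, 6, 4, 5, 9, 10, 7, 6, 5, 9, 4, 5, 6, 7]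
def a2 : List ℕ := [7, 6, 5, 4, 3, 2, 9, 5, 4, 3, 6, 5, 4, 7, 6, 5, 9, 5, 6, 7, 4, 5, 6, 3, 4, 5, 9, 2, 3, 4, 5, 6, 7]
def b2 : List ℕ :=
  [10, 9, 5, 4, 3, 2, 6, 5, 4, 3, 9, 5, 4, 6, 5, 9, 10, 9, 5, 6, 4, 5, 9, 3, 4, 5, 6, 2, 3, 4, 5, 9, 10]
def h8 : List ℕ := [3, 4, 5, 9, 10, 6, 5, 9, 4, 5, 6, 3, 4, 5, 9, 10, 7, 6, 5, 9, 4, 5, 6, 3, 4, 5, 9, 7, 6, 5, 4, 3]
def h11 : List ℕ := [3, 4, 5, 9, 10, 6, 5, 9, 4, 5, 6, 3, 4, 5, 9, 10, 7, 6, 5, 9, 4, 5, 6, 7]
def h2 : List ℕ := [3, 4, 5, 9, 10, 6, 5, 9, 4, 5, 6, 3, 4, 5, 9, 10]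

private noncomputable def _root_.Cfsg.Agent.LsF.fd79e85_6 : {f // @Cfsg.Agent.H138.CoxEng.good = f} := ⟨_, by first | (delta Cfsg.Agent.H138.CoxEng.good; rewrite [Cfsg.Agent.LsF.and_eq, Cfsg.Agent.LsF.all_eq]; exact rfl) | exact rfl⟩
private noncomputable def _root_.Cfsg.Agent.LsF.fd79e85_7 : {f // @Cfsg.Agent.H138.CoxEng.ones = f} := ⟨_, by first | (delta Cfsg.Agent.H138.CoxEng.ones List.brecOn List.brecOn.go Cfsg.Agent.H138.CoxEng.ones._f; rewrite [Cfsg.Agent.LsF.and_eq, Cfsg.Agent.LsF.instIDecEq_eq, Cfsg.Agent.LsF.decide_eq]; (try delta Cfsg.Agent.H138.CoxEng.ones.match_1); (try delta List.casesOn); first | dsimp -zeta only | exact rfl) | exact rfl⟩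
private noncomputable def _root_.Cfsg.Agent.LsF.fd79e85_8 : {f // @Cfsg.Agent.H138.CoxEng.st = f} := ⟨_, by first | (delta Cfsg.Agent.H138.CoxEng.st; rewrite [Cfsg.Agent.LsF.imul_pat, Cfsg.Agent.LsF.isub_pat, Cfsg.Agent.LsF.zipWith_eq, Cfsg.Agent.LsF.getD_eq]; exact rfl) | exact rfl⟩
private noncomputable def _root_.Cfsg.Agent.LsF.fd79e85_9 : {f // @Cfsg.Agent.H138.CoxEng.act = f} := ⟨_, by first | (delta Cfsg.Agent.H138.CoxEng.act List.brecOn List.brecOn.go Cfsg.Agent.H138.CoxEng.act._f; rewrite [Cfsg.Agent.LsF.fd79e85_8.2, Cfsg.Agent.LsF.nsub_pat]; (try delta Cfsg.Agent.H138.CoxEng.act.match_1); (try delta List.casesOn); first | dsimp -zeta only | exact rfl) | exact rfl⟩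
private noncomputable def _root_.Cfsg.Agent.LsF.fd79e85_10 : {f // @Cfsg.Agent.H138.CoxEng.chk = f} := ⟨_, by first | (delta Cfsg.Agent.H138.CoxEng.chk; rewrite [Cfsg.Agent.LsF.fd79e85_6.2, Cfsg.Agent.LsF.fd79e85_7.2, Cfsg.Agent.LsF.fd79e85_9.2, Cfsg.Agent.LsF.lappend_pat, Cfsg.Agent.LsF.and_eq, Cfsg.Agent.LsF.reverse_eq]; exact rfl) | exact rfl⟩
private noncomputable def _root_.Cfsg.Agent.LsF.fd79e85_11 : {f // @Cfsg.Agent.H138.CoxEng.pw = f} := ⟨_, by first | (delta Cfsg.Agent.H138.CoxEng.pw Nat.brecOn.go Nat.brecOn Cfsg.Agent.H138.CoxEng.pw._f; rewrite [Cfsg.Agent.LsF.lappend_pat]; (try delta Cfsg.Agent.H138.CoxEng.pw.match_1); (try delta Nat.casesOn); first | dsimp -zeta only | exact rfl) | exact rfl⟩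
theorem q1 : chk (pw c1 9 ++ pw c1 9) [] = true := by ((try (rewrite [Cfsg.Agent.LsF.fd79e85_10.2, Cfsg.Agent.LsF.fd79e85_11.2, Cfsg.Agent.LsF.lappend_pat])); decide +kernel)
theorem q2 : chk (pw c2 9 ++ pw c2 9) [] = true := by ((try (rewrite [Cfsg.Agent.LsF.fd79e85_10.2, Cfsg.Agent.LsF.fd79e85_11.2, Cfsg.Agent.LsF.lappend_pat])); decide +kernel)
theorem q3 : chk (pw c3 9 ++ pw c3 9) [] = true := by ((try (rewrite [Cfsg.Agent.LsF.fd79e85_10.2, Cfsg.Agent.LsF.fd79e85_11.2, Cfsg.Agent.LsF.lappend_pat])); decide +kernel)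
theorem q4 : chk (pw c4 9 ++ pw c4 9) [] = true := by ((try (rewrite [Cfsg.Agent.LsF.fd79e85_10.2, Cfsg.Agent.LsF.fd79e85_11.2, Cfsg.Agent.LsF.lappend_pat])); decide +kernel)
theorem q5 : chk (pw c5 9 ++ pw c5 9) [] = true := by ((try (rewrite [Cfsg.Agent.LsF.fd79e85_10.2, Cfsg.Agent.LsF.fd79e85_11.2, Cfsg.Agent.LsF.lappend_pat])); decide +kernel)
theorem q6 : chk (pw c6 9 ++ pw c6 9) [] = true := by ((try (rewrite [Cfsg.Agent.LsF.fd79e85_10.2, Cfsg.Agent.LsF.fd79e85_11.2, Cfsg.Agent.LsF.lappend_pat])); decide +kernel)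
private noncomputable def _root_.Cfsg.Agent.LsF.fd79e85_12 : {f // @Cfsg.Agent.B5591.Spider3.d8 = f} := ⟨_, by first | (delta Cfsg.Agent.B5591.Spider3.d8; rewrite [Cfsg.Agent.LsF.fd79e85_11.2]; exact rfl) | exact rfl⟩
theorem f1 : chk (pw c1 9) (d8 ++ a8) = true := by ((try (rewrite [Cfsg.Agent.LsF.fd79e85_10.2, Cfsg.Agent.LsF.fd79e85_11.2, Cfsg.Agent.LsF.fd79e85_12.2, Cfsg.Agent.LsF.lappend_pat])); decide +kernel)
theorem f2 : chk (pw c2 9) (d8 ++ b8) = true := by ((try (rewrite [Cfsg.Agent.LsF.fd79e85_10.2, Cfsg.Agent.LsF.fd79e85_11.2, Cfsg.Agent.LsF.fd79e85_12.2, Cfsg.Agent.LsF.lappend_pat])); decide +kernel)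
private noncomputable def _root_.Cfsg.Agent.LsF.fd79e85_13 : {f // @Cfsg.Agent.B5591.Spider3.d11 = f} := ⟨_, by first | (delta Cfsg.Agent.B5591.Spider3.d11; rewrite [Cfsg.Agent.LsF.fd79e85_11.2]; exact rfl) | exact rfl⟩
theorem f3 : chk (pw c3 9) (d11 ++ a11) = true := by ((try (rewrite [Cfsg.Agent.LsF.fd79e85_10.2, Cfsg.Agent.LsF.fd79e85_11.2, Cfsg.Agent.LsF.fd79e85_13.2, Cfsg.Agent.LsF.lappend_pat])); decide +kernel)
theorem f4 : chk (pw c4 9) (d11 ++ b11) = true := by ((try (rewrite [Cfsg.Agent.LsF.fd79e85_10.2, Cfsg.Agent.LsF.fd79e85_11.2, Cfsg.Agent.LsF.fd79e85_13.2, Cfsg.Agent.LsF.lappend_pat])); decide +kernel)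
private noncomputable def _root_.Cfsg.Agent.LsF.fd79e85_14 : {f // @Cfsg.Agent.B5591.Spider3.d2 = f} := ⟨_, by first | (delta Cfsg.Agent.B5591.Spider3.d2; rewrite [Cfsg.Agent.LsF.fd79e85_11.2]; exact rfl) | exact rfl⟩
theorem f5 : chk (pw c5 9) (d2 ++ a2) = true := by ((try (rewrite [Cfsg.Agent.LsF.fd79e85_10.2, Cfsg.Agent.LsF.fd79e85_11.2, Cfsg.Agent.LsF.fd79e85_14.2, Cfsg.Agent.LsF.lappend_pat])); decide +kernel)
theorem f6 : chk (pw c6 9) (d2 ++ b2) = true := by ((try (rewrite [Cfsg.Agent.LsF.fd79e85_10.2, Cfsg.Agent.LsF.fd79e85_11.2, Cfsg.Agent.LsF.fd79e85_14.2, Cfsg.Agent.LsF.lappend_pat])); decide +kernel)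
theorem e8 : chk ([8] ++ h8) (h8 ++ a8) = true := by ((try (rewrite [Cfsg.Agent.LsF.fd79e85_10.2, Cfsg.Agent.LsF.lappend_pat])); decide +kernel)
theorem e8' : chk (s0 ++ ([8] ++ (s0.reverse ++ h8))) (h8 ++ b8) = true := by ((try (rewrite [Cfsg.Agent.LsF.fd79e85_10.2, Cfsg.Agent.LsF.lappend_pat, Cfsg.Agent.LsF.reverse_eq])); decide +kernel)
theorem e11 : chk ([11] ++ h11) (h11 ++ b11) = true := by decide +kernel
theorem e11' : chk (s0 ++ ([11] ++ (s0.reverse ++ h11))) (h11 ++ a11) = true := by ((try (rewrite [Cfsg.Agent.LsF.fd79e85_10.2, Cfsg.Agent.LsF.lappend_pat, Cfsg.Agent.LsF.reverse_eq])); decide +kernel)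
theorem e2 : chk ([2] ++ h2) (h2 ++ b2) = true := by decide +kernel
theorem e2' : chk (s0 ++ ([2] ++ (s0.reverse ++ h2))) (h2 ++ a2) = true := by ((try (rewrite [Cfsg.Agent.LsF.fd79e85_10.2, Cfsg.Agent.LsF.lappend_pat, Cfsg.Agent.LsF.reverse_eq])); decide +kernel)
theorem k8 : chk (pw (b8 ++ [10]) 3) [] = true := by ((try (rewrite [Cfsg.Agent.LsF.fd79e85_10.2, Cfsg.Agent.LsF.fd79e85_11.2, Cfsg.Agent.LsF.lappend_pat])); decide +kernel)
theorem k12 : chk (wD ++ (a8 ++ [10])) (tT ++ wD) = true := by decide +kernel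
theorem k13 : chk ([10] ++ (pw sW 10 ++ ([10] ++ pw tT 3))) (pw sW 10) = true := by ((try (rewrite [Cfsg.Agent.LsF.fd79e85_10.2, Cfsg.Agent.LsF.fd79e85_11.2, Cfsg.Agent.LsF.lappend_pat])); decide +kernel)
theorem k14 : chk (pw sW 10) ([3] ++ (s0 ++ ([3] ++ ([9] ++ (pw tT 3 ++ [9]))))) = true := by ((try (rewrite [Cfsg.Agent.LsF.fd79e85_10.2, Cfsg.Agent.LsF.fd79e85_11.2, Cfsg.Agent.LsF.lappend_pat])); decide +kernel)
theorem k3 : chk ([3] ++ (s0 ++ ([3] ++ g3))) (s0 ++ (g3 ++ pw tT 3)) = true := by ((try (rewrite [Cfsg.Agent.LsF.fd79e85_10.2, Cfsg.Agent.LsF.fd79e85_11.2, Cfsg.Agent.LsF.lappend_pat])); decide +kernel)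
theorem k7 : chk ([7] ++ (s0 ++ ([7] ++ g7))) (s0 ++ (g7 ++ pw tT 3)) = true := by ((try (rewrite [Cfsg.Agent.LsF.fd79e85_10.2, Cfsg.Agent.LsF.fd79e85_11.2, Cfsg.Agent.LsF.lappend_pat])); decide +kernel)
theorem kc : ∀ i ∈ [1, 4, 5, 6, 9, 10], chk (s0 ++ [i]) ([i] ++ s0) = true := by (refine of_decide_eq_true ?_; (try (rewrite [Cfsg.Agent.LsF.fd79e85_10.2, Cfsg.Agent.LsF.lappend_pat, Cfsg.Agent.LsF.dBoolEq_eq, Cfsg.Agent.LsF.dBAll_eq, Cfsg.Agent.LsF.decide_eq])); decide +kernel)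
theorem gs0 : good s0 = true := by decide +kernel

variable {E G : Type*} [Group E] [Group G]

theorem comm_P {x : ℕ → E} {φ : E} (w : List ℕ) (h : ∀ i ∈ w, Commute φ (x i)) : Commute φ (P x w) := by
  induction w with
  | nil => exact Commute.one_right φ
  | cons n w ih =>
    rw [P_cons]
    exact (h n List.mem_cons_self).mul_right (ih fun i hi => h i (List.mem_cons_of_mem _ hi))

/-- **The spider relator is central.** -/
theorem central (π : E →* G) (x : ℕ → E)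
    (sq : ∀ i, 1 ≤ i → i ≤ 11 → x i * x i = 1)
    (cm : ∀ i j, 1 ≤ i → i < j → j ≤ 11 → (i, j) ∉ edges → x i * x j = x j * x i)
    (br : ∀ i j, (i, j) ∈ edges → x i * x j * x i = x j * x i * x j)
    (n2 : ∀ a, π a = 1 → a * a = 1 → a = 1)
    (g0 : π ((x 5 * x 4 * x 3 * x 5 * x 6 * x 7 * x 5 * x 9 * x 10) ^ 10) = 1)
    (g1 : π ((x 5 * x 4 * x 3 * x 6 * x 7 * x 8 * x 9) ^ 9) = 1)
    (g2 : π ((x 5 * x 4 * x 3 * x 6 * x 9 * x 10 * x 11) ^ 9) = 1)
    (φ : E) (hφ2 : φ * φ = 1) (hφc : ∀ i ∈ [2, 3, 4, 5, 6, 7, 9, 10], Commute φ (x i))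
    (hφπ : π φ = π ((x 5 * x 4 * x 3 * x 2 * x 6 * x 7 * x 9) ^ 9)) :
    (∀ i, 1 ≤ i → i ≤ 11 → Commute ((x 5 * x 4 * x 3 * x 5 * x 6 * x 7 * x 5 * x 9 * x 10) ^ 10) (x i)) ∧
      (x 5 * x 4 * x 3 * x 6 * x 7 * x 8 * x 9) ^ 9 = 1 ∧
      (x 5 * x 4 * x 3 * x 6 * x 9 * x 10 * x 11) ^ 9 = 1 := by
  have we : ∀ u v : List ℕ, chk u v = true → P x u = P x v := wordEq sq cm br
  have hs : x 5 * x 4 * x 3 * x 5 * x 6 * x 7 * x 5 * x 9 * x 10 = P x sW := by
    simp [P, sW, mul_assoc]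
  have h1 : x 5 * x 4 * x 3 * x 6 * x 7 * x 8 * x 9 = P x c1 := by
    simp [P, c1, mul_assoc]
  have h3 : x 5 * x 4 * x 3 * x 6 * x 9 * x 10 * x 11 = P x c3 := by
    simp [P, c3, mul_assoc]
  have h5 : x 5 * x 4 * x 3 * x 2 * x 6 * x 7 * x 9 = P x c5 := by
    simp [P, c5, mul_assoc]
  rw [hs] at g0 ⊢
  rw [h1] at g1 ⊢
  rw [h3] at g2 ⊢
  rw [h5] at hφπ
  clear hs h1 h3 h5
  have Q : ∀ c : List ℕ, chk (pw c 9 ++ pw c 9) [] = true → P x c ^ 9 * P x c ^ 9 = 1 := fun c hc => by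
    have h := we _ _ hc
    rwa [P_append, P_pw, P_nil] at h
  have Fd : ∀ c d a : List ℕ, chk (pw c 9) (d ++ a) = true → P x c ^ 9 = P x d * P x a := fun c d a hc => by
    have h := we _ _ hc
    rwa [P_append, P_pw] at h
  -- the relations between the arms
  have Ex : ∀ (e : ℕ) (h a b : List ℕ), chk ([e] ++ h) (h ++ a) = true →
      chk (s0 ++ ([e] ++ (s0.reverse ++ h))) (h ++ b) = true →
      (π (P x s0) = 1 → π (P x a) = π (P x b)) ∧ (P x a = P x b → Commute (P x s0) (x e)) := by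
    intro e h a b u v
    have u' := we _ _ u
    have v' := we _ _ v
    rw [P_append, P_append, P_single] at u'
    rw [P_append, P_append, P_append, P_append, P_single, P_reverse sq _ gs0] at v'
    constructor
    · intro h0
      have u'' := congrArg π u'
      have v'' := congrArg π v'
      simp only [map_mul, map_inv, h0, inv_one, one_mul] at u'' v''
      exact mul_left_cancel (u''.symm.trans v'')
    · intro h0
      rw [← h0, ← u', ← mul_assoc, ← mul_assoc] at v'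
      have h2 := mul_right_cancel v'
      rw [commute_iff_eq, ← mul_inv_eq_iff_eq_mul]
      exact h2
  -- the images
  have e13 := we _ _ k13
  rw [P_append, P_append, P_append, P_pw, P_pw, P_single] at e13
  have e14 := we _ _ k14
  rw [P_append, P_append, P_append, P_append, P_append, P_pw, P_pw, P_single, P_single] at e14
  have s3 := sq 3 (by norm_num) (by norm_num)
  have s7 := sq 7 (by norm_num) (by norm_num)
  have s9 := sq 9 (by norm_num) (by norm_num)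
  have s10 := sq 10 (by norm_num) (by norm_num)
  have pT : π (P x tT ^ 3) = 1 := by
    have h := congrArg π e13
    rw [map_mul, map_mul, map_mul, g0, one_mul, ← mul_assoc, ← map_mul, s10, map_one, one_mul] at h
    exact h
  have p0 : π (P x s0) = 1 := by
    have h := congrArg π e14
    rw [g0, map_mul, map_mul, map_mul, map_mul, map_mul, pT, one_mul, ← map_mul π (x 9), s9, map_one,
      mul_one] at h
    have h' : π (x 3) * π (x 3) = 1 := by rw [← map_mul, s3, map_one]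
    have h2 : π (x 3) * (π (P x s0) * π (x 3)) = π (x 3) * (1 * π (x 3)) := by rw [← h, one_mul, h']
    exact mul_right_cancel (mul_left_cancel h2)
  -- the arm of `x 8`
  have z1 : P x c1 ^ 9 = 1 := n2 _ g1 (Q _ q1)
  have z2 : P x c2 ^ 9 = 1 := by
    refine n2 _ ?_ (Q _ q2)
    rw [Fd _ _ _ f2, map_mul, ← (Ex 8 _ _ _ e8 e8').1 p0, ← map_mul, ← Fd _ _ _ f1, g1]
  have ab8 : P x a8 = P x b8 := by
    have h := z1.trans z2.symm
    rw [Fd _ _ _ f1, Fd _ _ _ f2] at h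
    exact mul_left_cancel h
  -- the arm of `x 11`
  have z3 : P x c3 ^ 9 = 1 := n2 _ g2 (Q _ q3)
  have z4 : P x c4 ^ 9 = 1 := by
    refine n2 _ ?_ (Q _ q4)
    rw [Fd _ _ _ f4, map_mul, (Ex 11 _ _ _ e11 e11').1 p0, ← map_mul, ← Fd _ _ _ f3, g2]
  have ab11 : P x b11 = P x a11 := by
    have h := z4.trans z3.symm
    rw [Fd _ _ _ f3, Fd _ _ _ f4] at h
    exact mul_left_cancel h
  -- the arm of `x 2`
  have key : ∀ c : List ℕ, (∀ i ∈ c, i ∈ [2, 3, 4, 5, 6, 7, 9, 10]) → chk (pw c 9 ++ pw c 9) [] = true →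
      π φ = π (P x c ^ 9) → φ = P x c ^ 9 := by
    intro c hc hq hp
    have hcm : Commute φ (P x c ^ 9) := (comm_P c fun i hi => hφc i (hc i hi)).pow_right 9
    have h := n2 (φ * P x c ^ 9) (by rw [map_mul, hp, ← map_mul, Q c hq, map_one]) (by
      calc φ * P x c ^ 9 * (φ * P x c ^ 9) = φ * (P x c ^ 9 * φ) * P x c ^ 9 := by simp only [mul_assoc]
        _ = (φ * φ) * (P x c ^ 9 * P x c ^ 9) := by rw [← hcm.eq]; simp only [mul_assoc]
        _ = 1 := by rw [hφ2, Q c hq, one_mul])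
    exact mul_right_cancel (h.trans (Q c hq).symm)
  have z5 := key c5 (by decide) q5 hφπ
  have z6 := key c6 (by decide) q6 (by
    rw [hφπ, Fd _ _ _ f5, Fd _ _ _ f6, map_mul, map_mul, (Ex 2 _ _ _ e2 e2').1 p0])
  have ab2 : P x b2 = P x a2 := by
    have h := z6.symm.trans z5
    rw [Fd _ _ _ f5, Fd _ _ _ f6] at h
    exact mul_left_cancel h
  -- the translations
  have hT : P x tT ^ 3 = 1 := by
    have h := we _ _ k12
    rw [P_append, P_append, P_append, P_single, ab8] at h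
    have h' := we _ _ k8
    rw [P_pw, P_append, P_single, P_nil] at h'
    have h2 : P x tT = P x wD * (P x b8 * x 10) * (P x wD)⁻¹ := by rw [h, mul_inv_cancel_right]
    rw [h2, conj_pow, h', mul_one, mul_inv_cancel]
  have ci : ∀ (i : ℕ) (g : List ℕ), x i * x i = 1 →
      chk ([i] ++ (s0 ++ ([i] ++ g))) (s0 ++ (g ++ pw tT 3)) = true → Commute (P x s0) (x i) := by
    intro i g hi hk
    have h := we _ _ hk
    rw [P_append, P_append, P_append, P_append, P_append, P_pw, P_single, hT, mul_one, ← mul_assoc,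
      ← mul_assoc] at h
    have h2 := mul_right_cancel h
    calc P x s0 * x i = (x i * x i) * P x s0 * x i := by rw [hi, one_mul]
      _ = x i * (x i * P x s0 * x i) := by simp only [mul_assoc]
      _ = x i * P x s0 := by rw [h2]
  have c3' := ci 3 g3 s3 k3
  have c7' := ci 7 g7 s7 k7
  have cc : ∀ i ∈ [1, 4, 5, 6, 9, 10], Commute (P x s0) (x i) := by
    intro i hi
    have h := we _ _ (kc i hi)
    rw [P_append, P_append, P_single] at h
    exact h
  have hs0 : P x sW ^ 10 = P x s0 := by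
    rw [e14, hT, one_mul, s9, mul_one, c3'.eq, ← mul_assoc, s3, one_mul]
  refine ⟨fun i h1 h11 => ?_, z1, z3⟩
  rw [hs0]
  interval_cases i
  · exact cc 1 (by decide)
  · exact (Ex 2 _ _ _ e2 e2').2 ab2
  · exact c3'
  · exact cc 4 (by decide)
  · exact cc 5 (by decide)
  · exact cc 6 (by decide)
  · exact c7'
  · exact (Ex 8 _ _ _ e8 e8').2 ab8
  · exact cc 9 (by decide)
  · exact cc 10 (by decide)
  · exact (Ex 11 _ _ _ e11 e11').2 ab11

end Cfsg.Agent.B5591.Spider3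
end

-- part: B5591/SpB
section
/-!
# S5591: from Coxeter lifts to a section over the Baby Monster (box SPLIT, part B)

Valid for every module without `2`-torsion on which the Baby Monster fixes no non-zero vector.
-/

set_option autoImplicit false

namespace Cfsg.Agent.B5591.Sp

open Cfsg Cfsg.Spor Cfsg.Spor.BabyMonster
open Cfsg.Agent.H863.SExt Cfsg.Agent.H863.SAsm

variable {F V G : Type*} [Field F] [AddCommGroup V] [Module F V] [Group G] {σ : G →* Module.End F V}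
  {E : Type*} [Group E] (X : _root_.Cfsg.Agent.H863.SExt.Ext σ E)

theorem gen_surj (t : Gen) : ∃ i, 1 ≤ i ∧ i ≤ 11 ∧ gen i = t := by
  cases t
  exacts [⟨1, by decide, by decide, rfl⟩, ⟨2, by decide, by decide, rfl⟩, ⟨3, by decide, by decide, rfl⟩,
    ⟨4, by decide, by decide, rfl⟩, ⟨5, by decide, by decide, rfl⟩, ⟨6, by decide, by decide, rfl⟩,
    ⟨7, by decide, by decide, rfl⟩, ⟨8, by decide, by decide, rfl⟩, ⟨9, by decide, by decide, rfl⟩,
    ⟨10, by decide, by decide, rfl⟩, ⟨11, by decide, by decide, rfl⟩]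

/-- All relators of the Baby Monster hold for Coxeter lifts. -/
theorem rel_of_cox (h2 : (2 : F) ≠ 0) (θ : BabyMonster →* G) (y : Gen → E)
    (hπ : ∀ t, X.π (y t) = θ (PresentedGroup.of t))
    (hcox : ∀ a b, (y a * y b) ^ coxLabel edges a b = 1)
    (φ : E) (hφ2 : φ * φ = 1)
    (hφc : ∀ t ∈ [Gen.t2, .t3, .t4, .t5, .t6, .t7, .t9, .t10], φ * y t = y t * φ)
    (hφπ : X.π φ = X.π ((y .t5 * y .t4 * y .t3 * y .t2 * y .t6 * y .t7 * y .t9) ^ 9))
    (h0 : ∀ v : V, (∀ t, σ (θ (PresentedGroup.of t)) v = v) → v = 0) :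
    ∀ r ∈ coxRelators BabyMonster.edges ∪ {r | r ∈ BabyMonster.extra}, FreeGroup.lift y r = 1 := by
  have hsq : ∀ t, y t * y t = 1 := fun t => by
    have h := hcox t t
    have e : coxLabel edges t t = 1 := if_pos rfl
    rwa [e, pow_one] at h
  have hl : ∀ r : FreeGroup Gen, X.π (FreeGroup.lift y r) =
      θ (PresentedGroup.mk (coxRelators BabyMonster.edges ∪ {r | r ∈ BabyMonster.extra}) r) := by
    intro r
    have e : X.π.comp (FreeGroup.lift y) =
        θ.comp (PresentedGroup.mk (coxRelators BabyMonster.edges ∪ {r | r ∈ BabyMonster.extra})) := by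
      ext t
      show X.π (FreeGroup.lift y (FreeGroup.of t)) = _
      rw [FreeGroup.lift_apply_of, hπ]
      rfl
    exact DFunLike.congr_fun e r
  have hx : ∀ r ∈ BabyMonster.extra, X.π (FreeGroup.lift y r) = 1 := by
    intro r hr
    rw [hl, PresentedGroup.one_of_mem (Or.inr hr), map_one]
  have g0 := hx _ (List.mem_cons_self)
  have g1 := hx _ (List.mem_cons_of_mem _ List.mem_cons_self)
  have g2 := hx _ (List.mem_cons_of_mem _ (List.mem_cons_of_mem _ List.mem_cons_self))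
  rw [map_pow (FreeGroup.lift y)] at g0 g1 g2
  simp only [map_mul (FreeGroup.lift y), FreeGroup.lift_apply_of] at g0 g1 g2
  obtain ⟨k0, k2, k3⟩ := Spider3.central X.π (fun i => y (gen i)) (fun i _ _ => hsq _)
    (fun i j h1 h4 h5 h6 => comm_of_two (hsq _) (hsq _) (by
      have := hcox (gen i) (gen j)
      rwa [lab2 i (by omega) j (by omega) h4 h1 h6] at this))
    (fun i j h => braid_of_three (hsq _) (hsq _) (by
      have := hcox (gen i) (gen j)
      rwa [lab3 (i, j) h] at this))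
    (fun a ha haa => by
      obtain ⟨u, rfl⟩ := X.ker a ha
      rw [← X.j_add, ← X.j_zero] at haa
      have h1 := X.j_inj haa
      rw [← two_smul F] at h1
      rw [(smul_eq_zero.1 h1).resolve_left h2, X.j_zero])
    g0 g1 g2 φ hφ2
    (by
      intro i hi
      simp only [List.mem_cons, List.not_mem_nil, or_false] at hi
      rcases hi with rfl | rfl | rfl | rfl | rfl | rfl | rfl | rfl
      all_goals exact hφc _ (by decide))
    hφπ
  have k1 : (y .t5 * y .t4 * y .t3 * y .t5 * y .t6 * y .t7 * y .t5 * y .t9 * y .t10) ^ 10 = 1 := by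
    obtain ⟨v, hv⟩ := X.ker _ g0
    have h1 : v = 0 := by
      apply h0
      intro t
      obtain ⟨i, hi1, hi2, rfl⟩ := gen_surj t
      have h3 : Commute ((y .t5 * y .t4 * y .t3 * y .t5 * y .t6 * y .t7 * y .t5 * y .t9 * y .t10) ^ 10)
        (y (gen i)) := k0 i hi1 hi2
      rw [hv] at h3
      rw [← hπ]
      exact fixed_of_j_comm h3.symm.eq
    rw [hv, h1, X.j_zero]
  rintro r (⟨a, -, b, -, rfl⟩ | hr)
  · rw [map_pow, map_mul, FreeGroup.lift_apply_of, FreeGroup.lift_apply_of]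
    exact hcox a b
  · have hr' : r ∈ BabyMonster.extra := hr
    unfold BabyMonster.extra at hr'
    simp only [List.mem_cons, List.not_mem_nil, or_false] at hr'
    rcases hr' with rfl | rfl | rfl
    · simpa only [map_pow, map_mul, FreeGroup.lift_apply_of] using k1
    · simpa only [map_pow, map_mul, FreeGroup.lift_apply_of, gen] using k2
    · simpa only [map_pow, map_mul, FreeGroup.lift_apply_of, gen] using k3

/-- A section over the Baby Monster from Coxeter lifts. -/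
theorem sec_of_cox (h2 : (2 : F) ≠ 0) (θ : BabyMonster →* G) (y : Gen → E)
    (hπ : ∀ t, X.π (y t) = θ (PresentedGroup.of t))
    (hcox : ∀ a b, (y a * y b) ^ coxLabel edges a b = 1)
    (φ : E) (hφ2 : φ * φ = 1)
    (hφc : ∀ t ∈ [Gen.t2, .t3, .t4, .t5, .t6, .t7, .t9, .t10], φ * y t = y t * φ)
    (hφπ : X.π φ = X.π ((y .t5 * y .t4 * y .t3 * y .t2 * y .t6 * y .t7 * y .t9) ^ 9))
    (h0 : ∀ v : V, (∀ t, σ (θ (PresentedGroup.of t)) v = v) → v = 0) :
    ∃ s : BabyMonster →* E, ∀ g, X.π (s g) = θ g := by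
  let s : BabyMonster →* E := PresentedGroup.toGroup (rel_of_cox X h2 θ y hπ hcox φ hφ2 hφc hφπ h0)
  have hs : ∀ t : Gen, s (PresentedGroup.of t) = y t := fun t => PresentedGroup.toGroup.of _
  refine ⟨s, fun g => ?_⟩
  have h4 : X.π.comp s = θ := by
    apply PresentedGroup.ext
    intro t
    show X.π (s (PresentedGroup.of t)) = θ (PresentedGroup.of t)
    rw [hs, hπ]
  exact DFunLike.congr_fun h4 g

/-- The same, as a splitting over the whole group when `θ` is onto. -/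
theorem spl_of_sec (θ : BabyMonster ≃* G) {s : BabyMonster →* E} (hs : ∀ g, X.π (s g) = θ g) : Spl X ⊤ := by
  refine ⟨s.range, ?_, ?_⟩
  · rintro _ ⟨g, rfl⟩ h
    rw [hs, map_eq_one_iff _ θ.injective] at h
    rw [h, map_one]
  · rw [eq_top_iff]
    intro g _
    exact ⟨s (θ.symm g), ⟨_, rfl⟩, by rw [hs, MulEquiv.apply_symm_apply]⟩

end Cfsg.Agent.B5591.Sp
end

-- part: B5591/SpiderFin
section
/-!
# S5591: Coxeter lifts of the generators of the model give a splitting (box SpiderFin)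
-/

set_option autoImplicit false

namespace Cfsg.Agent.B5591

open Cfsg Cfsg.Spor Cfsg.Spor.BabyMonster
open Cfsg.Agent.Monster.VecEngine Cfsg.Agent.BabyM.Conc Cfsg.Agent.BabyM.WordsInst
open Cfsg.Agent.H863 Cfsg.Agent.H863.SExt Cfsg.Agent.H863.BRep Cfsg.Agent.H863.BGrp Cfsg.Agent.H863.SMod

namespace SpiderFin

/-- The involution `(t5 t4 t3 t2 t6 t7 t9)^9`. -/
def wf : List Ltr := [.Z10, .Z6, .Z5, .Z4, .Z2, .Z0]

/-- The Coxeter element of type `E₇`. -/
def ec : List Ltr := BM.StageW.tw .t9 ++ BM.StageW.tw .t7 ++ BM.StageW.tw .t6 ++ BM.StageW.tw .t2 ++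
  BM.StageW.tw .t3 ++ BM.StageW.tw .t4 ++ BM.StageW.tw .t5

theorem ecf : BM.StageW.chk (ec ++ ec ++ ec ++ ec ++ ec ++ ec ++ ec ++ ec ++ ec) wf = true := by (first | (delta BM.StageW.chk; exact Cfsg.Agent.BMx.Low.chk_of_eqF (by decide +kernel)) | decide +kernel)

theorem gW_wf : gW wf = Geo.q 0x475 := by
  rw [gW_R (by decide), show BabyM.KQ.cw wf = 0x475 by decide +kernel]
  rfl

theorem f12 : (x .t5 * x .t4 * x .t3 * x .t2 * x .t6 * x .t7 * x .t9) ^ 9 = Geo.q 0x475 := by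
  have h := gW_eq ecf
  have e : gW ec = x .t5 * x .t4 * x .t3 * x .t2 * x .t6 * x .t7 * x .t9 := by
    unfold ec
    simp only [gW_append, mul_assoc]
    rfl
  rw [← e, ← gW_wf, ← h]
  simp only [gW_append, pow_succ, pow_zero, one_mul, mul_assoc]

theorem iso_of (t : Gen) : BGL.iso (PresentedGroup.of t) = x t := BM.KHAll.iso_gB t

theorem closure_x : Subgroup.closure (Set.range x) = ⊤ := by
  rw [eq_top_iff]
  intro g _
  obtain ⟨b, rfl⟩ := BGL.iso.surjective g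
  have h : b ∈ Subgroup.closure (Set.range (PresentedGroup.of : Gen → BabyMonster)) := by
    rw [PresentedGroup.closure_range_of]
    exact Subgroup.mem_top _
  have h1 := Subgroup.mem_map_of_mem (BGL.iso : BabyMonster →* G) h
  rw [MonoidHom.map_closure, ← Set.range_comp] at h1
  have e : ((BGL.iso : BabyMonster →* G) ∘ PresentedGroup.of) = x := funext iso_of
  rw [e] at h1
  exact h1

end SpiderFin

/-- **SpiderFin.** -/
theorem spiderFin {F M : Type*} [Field F] [AddCommGroup M] [Module F M] {σ : G →* Module.End F M}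
    {E : Type*} [Group E] (X : _root_.Cfsg.Agent.H863.SExt.Ext σ E) (h2 : (2 : F) ≠ 0) (h0 : Fx σ ⊤) (y : Gen → E)
    (hπ : ∀ t, X.π (y t) = x t) (hcox : ∀ a b, (y a * y b) ^ coxLabel edges a b = 1)
    (φ : E) (hφ2 : φ * φ = 1) (hφπ : X.π φ = Geo.q 0x475)
    (hφc : ∀ t ∈ [Gen.t2, .t3, .t4, .t5, .t6, .t7, .t9, .t10], φ * y t = y t * φ) : Spl X ⊤ := by
  obtain ⟨s, hs⟩ := Sp.sec_of_cox X h2 (BGL.iso : BabyMonster →* G) y
    (fun t => (hπ t).trans (SpiderFin.iso_of t).symm) hcox φ hφ2 hφc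
    (by
      rw [hφπ, ← SpiderFin.f12]
      simp only [map_pow, map_mul, hπ])
    (by
      intro v hv
      apply h0
      intro g hg
      rw [← SpiderFin.closure_x] at hg
      induction hg using Subgroup.closure_induction with
      | mem g hg =>
        obtain ⟨t, rfl⟩ := hg
        rw [← SpiderFin.iso_of]
        exact hv t
      | one => exact act_one v
      | mul g h _ _ ihg ihh => rw [act_mul, ihh, ihg]
      | inv g _ ih =>
        conv_lhs => rw [← ih]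
        exact act_inv_act g v)
  exact Sp.spl_of_sec X BGL.iso hs

end Cfsg.Agent.B5591
end

-- part: B5591/LG
section
/-!
# S5591: the local-to-global theorem
-/

set_option autoImplicit false

namespace Cfsg.Agent.B5591.LG

open Cfsg Cfsg.Agent.Monster Cfsg.Agent.Monster.PauliBits
open Cfsg.Agent.BabyM.Conc Cfsg.Agent.BabyM Cfsg.Agent.BabyM.KQ
open Cfsg.Agent.H863 Cfsg.Agent.H863.BRep Cfsg.Agent.H863.SExt Cfsg.Agent.H863.SMod Cfsg.Agent.H863.SAsm
open Cfsg.Agent.B5591.Geo Cfsg.Agent.B5591.LGAbs Cfsg.Agent.B5591.LGSet Cfsg.Agent.B5591.LGData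
open Cfsg.Spor Cfsg.Spor.BabyMonster Subgroup

theorem q_mul {a b c : ℕ} (h : mulN 11 a b = c) : q c = q a * q b := by
  unfold q
  rw [← map_mul, ← dec_mulN (by norm_num), h]

theorem zz_eq : zz = q 0x400000 := Subtype.ext E_z

theorem sw {t : Gen} {w a : ℕ} (f : Fct t w) (h : mulN 11 0x400000 w = a) :
    x t * zz * (x t)⁻¹ = zz * q a ∧ x t * q a * (x t)⁻¹ = q a :=
  sw_of (w := q w) (x_sq t) zz_sq f.za (by rw [zz_eq]; exact q_mul h) (q_z w)

theorem sw1 : x .t1 * zz * (x .t1)⁻¹ = zz * q 0x57742f ∧ x .t1 * q 0x57742f * (x .t1)⁻¹ = q 0x57742f :=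
  sw SPair.f1 (by decide +kernel)

theorem sw3 : x .t3 * zz * (x .t3)⁻¹ = zz * q 0x5efdf3 ∧ x .t3 * q 0x5efdf3 * (x .t3)⁻¹ = q 0x5efdf3 :=
  sw SPair.f3 (by decide +kernel)

theorem sw5 : x .t5 * zz * (x .t5)⁻¹ = zz * pp ∧ x .t5 * pp * (x .t5)⁻¹ = pp := by
  rw [pp_eq]
  exact sw SPair.f5 (by decide +kernel)

theorem sw7 : x .t7 * zz * (x .t7)⁻¹ = zz * q 0x4fb42c ∧ x .t7 * q 0x4fb42c * (x .t7)⁻¹ = q 0x4fb42c :=
  sw SPair.f7 (by decide +kernel)

theorem sw10 : x .t10 * zz * (x .t10)⁻¹ = zz * q 0x1f7a49 ∧ x .t10 * q 0x1f7a49 * (x .t10)⁻¹ = q 0x1f7a49 :=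
  sw SPair.f10 (by decide +kernel)

theorem x_odd {t : Gen} (h : ev t = false) : x t = q (cw (BM.StageW.tw t)) := gW_R (odd_q h)

theorem f_odd {t : Gen} (h : ev t = false) : q 0x475 * x t = x t * q 0x475 := by
  rw [x_odd h]
  apply comm_codes
  cases t <;> first | exact absurd h (by decide) | decide +kernel

theorem f_sq : q 0x475 * q 0x475 = 1 := by
  unfold q
  rw [← map_mul, BGrp.mul_sq_pure _ (by norm_num), map_one]

variable {M : Type} [AddCommGroup M] [Module F3 M] {σ : G →* Module.End F3 M} {E : Type} [Group E] {X : _root_.Cfsg.Agent.H863.SExt.Ext σ E}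

/-- The Coxeter relations from the local lifts. -/
theorem cox_of {y : Gen → E} (hπ : ∀ t, X.π (y t) = x t) {S : Gen → Subgroup E} {K : Gen → Subgroup G}
    (hS : ∀ a, IsLift X (S a) (K a)) (hK : ∀ a, Fx σ (K a)) (h1 : ∀ a, y a ∈ normalizer (S a : Set E))
    (h2 : ∀ a t, ev t = false → y t ∈ normalizer (S a : Set E))
    (hc : ∀ a b, ev a = true → ev b = true → a ≠ b → y a * y b = y b * y a) (a b : Gen) :
    (y a * y b) ^ coxLabel edges a b = 1 := by
  have key : ∀ c, y a ∈ normalizer (S c : Set E) → y b ∈ normalizer (S c : Set E) →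
      (y a * y b) ^ coxLabel edges a b = 1 := fun c ha hb =>
    norm_one (hS c) (hK c) (pow_mem (mul_mem ha hb) _) (by rw [map_pow, map_mul, hπ, hπ, cox_G])
  have sq : ∀ c, y c * y c = 1 := fun c =>
    norm_one (hS c) (hK c) (mul_mem (h1 c) (h1 c)) (by rw [map_mul, hπ, x_sq])
  cases h : ev a
  · exact key b (h2 b a h) (h1 b)
  · cases h' : ev b
    · exact key a (h1 a) (h2 a b h')
    · by_cases hab : a = b
      · subst hab
        exact key a (h1 a) (h1 a)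
      · rw [ev_label h h' hab]
        exact two_of_comm (sq a) (sq b) (hc a b h h' hab)

theorem split {S0 : Subgroup E} (U : Setting2 X zz pp (q 0x4ea) (q 0x9) S0) : Spl X ⊤ := by
  have eM1' := eM1
  have eM3' := eM3
  have eM7' := eM7
  have eM10' := eM10
  have eQ1_3' := eQ1_3
  have eQ1_7' := eQ1_7
  have eQ1_10' := eQ1_10
  have eQ3_7' := eQ3_7
  have eQ3_10' := eQ3_10
  have eQ7_10' := eQ7_10
  have tM1_3' := tM1_3
  have tM1_7' := tM1_7
  have tM1_10' := tM1_10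
  have tM3_1' := tM3_1
  have tM3_7' := tM3_7
  have tM3_10' := tM3_10
  have tM7_1' := tM7_1
  have tM7_3' := tM7_3
  have tM7_10' := tM7_10
  have tM10_1' := tM10_1
  have tM10_3' := tM10_3
  have tM10_7' := tM10_7
  rw [← pp_eq] at eM1' eM3' eM7' eM10' eQ1_3' eQ1_7' eQ1_10' eQ3_7' eQ3_10' eQ7_10' tM1_3' tM1_7' tM1_10' tM3_1'
  rw [← pp_eq] at tM3_7' tM3_10' tM7_1' tM7_3' tM7_10' tM10_1' tM10_3' tM10_7'
  obtain ⟨S1, P1⟩ := U.exists_path eM1' eP1
  obtain ⟨S3, P3⟩ := U.exists_path eM3' eP3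
  obtain ⟨S7, P7⟩ := U.exists_path eM7' eP7
  obtain ⟨S10, P10⟩ := U.exists_path eM10' eP10
  have mp : ∀ c, Md zz pp (q c * pp * (q c)⁻¹) := fun c => by rw [pp_eq]; exact md_Q _ _
  have lq : ∀ c, ∃ e ∈ normalizer (S0 : Set E), X.π e = q c := fun c =>
    U.T.exists_norm_md adm_base (qz c) (mp c)
  choose sq hsq πsq using lq
  have nq : ∀ {S : Subgroup E} {m a : ℕ}, _root_.Cfsg.Agent.B5591.LGAbs.Path X zz pp S0 S (q m) (q a) → Edge zz pp (q 0x4ea) pp (q m) →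
      Edge zz pp (q 0x4ea) (q m) (q a) → ∀ c, sq c ∈ normalizer (S : Set E) := by
    intro S m a P e1 e2 c
    refine U.path_norm P e1 e2 (hsq c) ?_ ?_ ?_ ?_ <;> rw [πsq]
    exacts [qz c, mp c, md_Q _ _, md_Q _ _]
  obtain ⟨y1, n1, π1⟩ := U.path_sw P1 sw1
  obtain ⟨y3, n3, π3⟩ := U.path_sw P3 sw3
  obtain ⟨y5, n5, π5⟩ := U.T.exists_norm_sw adm_base sw5.1 sw5.2
  obtain ⟨y7, n7, π7⟩ := U.path_sw P7 sw7
  obtain ⟨y10, n10, π10⟩ := U.path_sw P10 sw10
  have c51 : y5 * y1 = y1 * y5 := U.comm0 P1 tM1_3' tP1_3 n5 n1 (π5 ▸ sw5) (π5 ▸ LGChk.m5_1) (π5 ▸ LGChk.q5_1_3)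
    (π1 ▸ sw1) (π1 ▸ LGChk.m1) (π1 ▸ LGChk.qA1_3) (by rw [π5, π1]; exact SPair.c1_5.symm)
  have c53 : y5 * y3 = y3 * y5 := U.comm0 P3 tM3_1' tP3_1 n5 n3 (π5 ▸ sw5) (π5 ▸ LGChk.m5_3) (π5 ▸ LGChk.q5_1_3)
    (π3 ▸ sw3) (π3 ▸ LGChk.m3) (π3 ▸ LGChk.qB1_3) (by rw [π5, π3]; exact SPair.c3_5.symm)
  have c57 : y5 * y7 = y7 * y5 := U.comm0 P7 tM7_1' tP7_1 n5 n7 (π5 ▸ sw5) (π5 ▸ LGChk.m5_7) (π5 ▸ LGChk.q5_1_7)
    (π7 ▸ sw7) (π7 ▸ LGChk.m7) (π7 ▸ LGChk.qB1_7) (by rw [π5, π7]; exact SPair.c5_7)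
  have c510 : y5 * y10 = y10 * y5 := U.comm0 P10 tM10_1' tP10_1 n5 n10 (π5 ▸ sw5) (π5 ▸ LGChk.m5_10)
    (π5 ▸ LGChk.q5_1_10) (π10 ▸ sw10) (π10 ▸ LGChk.m10) (π10 ▸ LGChk.qB1_10) (by rw [π5, π10]; exact SPair.c5_10)
  have c13 : y1 * y3 = y3 * y1 := U.comm1 P1 P3 eQ1_3' tM1_3' tP1_3 tM3_1' tP3_1 oA1_3 oB1_3 n1 n3
    (π1 ▸ sw1) (π1 ▸ LGChk.qA1_3) (π1 ▸ LGChk.rA1_3) (π3 ▸ sw3) (π3 ▸ LGChk.qB1_3) (π3 ▸ LGChk.rB1_3)
    (by rw [π1, π3]; exact SPair.c1_3)
  have c17 : y1 * y7 = y7 * y1 := U.comm1 P1 P7 eQ1_7' tM1_7' tP1_7 tM7_1' tP7_1 oA1_7 oB1_7 n1 n7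
    (π1 ▸ sw1) (π1 ▸ LGChk.qA1_7) (π1 ▸ LGChk.rA1_7) (π7 ▸ sw7) (π7 ▸ LGChk.qB1_7) (π7 ▸ LGChk.rB1_7)
    (by rw [π1, π7]; exact SPair.c1_7)
  have c110 : y1 * y10 = y10 * y1 := U.comm1 P1 P10 eQ1_10' tM1_10' tP1_10 tM10_1' tP10_1 oA1_10 oB1_10 n1 n10
    (π1 ▸ sw1) (π1 ▸ LGChk.qA1_10) (π1 ▸ LGChk.rA1_10) (π10 ▸ sw10) (π10 ▸ LGChk.qB1_10) (π10 ▸ LGChk.rB1_10)
    (by rw [π1, π10]; exact SPair.c1_10)
  have c37 : y3 * y7 = y7 * y3 := U.comm1 P3 P7 eQ3_7' tM3_7' tP3_7 tM7_3' tP7_3 oA3_7 oB3_7 n3 n7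
    (π3 ▸ sw3) (π3 ▸ LGChk.qA3_7) (π3 ▸ LGChk.rA3_7) (π7 ▸ sw7) (π7 ▸ LGChk.qB3_7) (π7 ▸ LGChk.rB3_7)
    (by rw [π3, π7]; exact SPair.c3_7)
  have c310 : y3 * y10 = y10 * y3 := U.comm1 P3 P10 eQ3_10' tM3_10' tP3_10 tM10_3' tP10_3 oA3_10 oB3_10 n3 n10
    (π3 ▸ sw3) (π3 ▸ LGChk.qA3_10) (π3 ▸ LGChk.rA3_10) (π10 ▸ sw10) (π10 ▸ LGChk.qB3_10) (π10 ▸ LGChk.rB3_10)
    (by rw [π3, π10]; exact SPair.c3_10)
  have c710 : y7 * y10 = y10 * y7 := U.comm1 P7 P10 eQ7_10' tM7_10' tP7_10 tM10_7' tP10_7 oA7_10 oB7_10 n7 n10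
    (π7 ▸ sw7) (π7 ▸ LGChk.qA7_10) (π7 ▸ LGChk.rA7_10) (π10 ▸ sw10) (π10 ▸ LGChk.qB7_10) (π10 ▸ LGChk.rB7_10)
    (by rw [π7, π10]; exact SPair.c7_10)
  let y : Gen → E := fun t => match t with
    | .t1 => y1
    | .t3 => y3
    | .t5 => y5
    | .t7 => y7
    | .t10 => y10
    | t => sq (cw (BM.StageW.tw t))
  let S : Gen → Subgroup E := fun t => match t with
    | .t1 => S1
    | .t3 => S3
    | .t7 => S7
    | .t10 => S10
    | _ => S0
  let K : Gen → Subgroup G := fun t => match t with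
    | .t1 => centralizer {zz, q 0x57742f}
    | .t3 => centralizer {zz, q 0x5efdf3}
    | .t7 => centralizer {zz, q 0x4fb42c}
    | .t10 => centralizer {zz, q 0x1f7a49}
    | _ => centralizer {zz, pp}
  have ho : ∀ t, ev t = false → y t = sq (cw (BM.StageW.tw t)) := by
    intro t h
    cases t <;> first | exact absurd h (by decide) | rfl
  have hπ : ∀ t, X.π (y t) = x t := by
    intro t
    cases h : ev t
    · rw [ho t h, πsq, x_odd h]
    · cases t <;> first | exact absurd h (by decide) | assumption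
  have hS : ∀ a, IsLift X (S a) (K a) := by
    intro a
    cases a
    case t1 => exact U.path_lift P1
    case t3 => exact U.path_lift P3
    case t7 => exact U.path_lift P7
    case t10 => exact U.path_lift P10
    all_goals exact U.T.lift
  have hK : ∀ a, Fx σ (K a) := by
    intro a
    cases a
    case t1 => exact U.path_fx eP1
    case t3 => exact U.path_fx eP3
    case t7 => exact U.path_fx eP7
    case t10 => exact U.path_fx eP10
    all_goals exact U.fx2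
  have hq : ∀ a c, sq c ∈ normalizer (S a : Set E) := by
    intro a c
    cases a
    case t1 => exact nq P1 eM1' eP1 c
    case t3 => exact nq P3 eM3' eP3 c
    case t7 => exact nq P7 eM7' eP7 c
    case t10 => exact nq P10 eM10' eP10 c
    all_goals exact hsq c
  have h1 : ∀ a, y a ∈ normalizer (S a : Set E) := by
    intro a
    cases h : ev a
    · rw [ho a h]
      exact hq _ _
    · cases a <;> first | exact absurd h (by decide) | assumption
  have hc : ∀ a b : Gen, ev a = true → ev b = true → a ≠ b → y a * y b = y b * y a := by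
    intro a b ha hb hab
    cases a <;> first | exact absurd ha (by decide) | skip
    all_goals cases b <;> first | exact absurd hb (by decide) | exact absurd rfl hab | skip
    exacts [c13, c51.symm, c17, c110, c13.symm, c53.symm, c37, c310, c51, c53, c57, c510, c17.symm, c37.symm,
      c57.symm, c710, c110.symm, c310.symm, c510.symm, c710.symm]
  have hcox := cox_of hπ hS hK h1 (fun a t h => by rw [ho t h]; exact hq _ _) hc
  refine spiderFin X two_ne (U.fx2.mono le_top) y hπ hcox (sq 0x475)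
    (norm_one U.T.lift U.fx2 (mul_mem (hsq _) (hsq _)) (by rw [map_mul, πsq, f_sq])) (πsq _) ?_
  intro t ht
  refine norm_inj (hS t) (hK t) (mul_mem (hq _ _) (h1 t)) (mul_mem (h1 t) (hq _ _)) ?_
  rw [map_mul, map_mul, πsq, hπ]
  simp only [List.mem_cons, List.not_mem_nil, or_false] at ht
  rcases ht with rfl | rfl | rfl | rfl | rfl | rfl | rfl | rfl
  exacts [f_odd rfl, LGChk.f3, f_odd rfl, LGChk.f5, f_odd rfl, LGChk.f7, f_odd rfl, LGChk.f10]

/-- **The local-to-global theorem.** -/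
theorem lg (bS : BoxKS) (b0 : BoxGen0) (bP : BoxGenP) : BoxLG := by
  intro M _ _ σ E _ X hf ⟨S0, h0⟩
  exact split (setting bS b0 bP hf h0)

end Cfsg.Agent.B5591.LG
end

-- part: B5591/SylR0
section
/-!
# S5591: the permutation of the 24 points attached to an element of `NN`; its kernel is `R0`
-/

set_option autoImplicit false

namespace Cfsg.Agent.B5591.Geo

open Cfsg Cfsg.Agent.Leech Cfsg.Agent.Leech.Code Cfsg.Agent.Leech.Basic Cfsg.Agent.Leech.Co0Elts
open Cfsg.Agent.Leech.Min Cfsg.Agent.Leech.Trans Cfsg.Agent.Leech.TransPair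
open Cfsg.Agent.BabyM.Co2Gen Cfsg.Agent.BabyM.Co2GenStd Cfsg.Agent.SporadicA
open Cfsg.Agent.BabyM.Conc Cfsg.Agent.BabyM Cfsg.Agent.H863.BRep
open Cfsg.Agent.BabyM.ThetaInst Cfsg.Agent.BabyM.ThetaHom
open Cfsg.Agent.Leech.FrameAux (e8 coe_e8)
open Cfsg.Agent.BabyM.NbAct (w₀ pPerm hPerm pPerm_tab hPerm_tab)

/-! ### Monomial elements of `Co0` -/

/-- `c` is monomial with permutation `σ`. -/
def Mono (c : Co0) (σ : Equiv.Perm GolayPt) : Prop :=
  ∀ (v : leechLattice) (x : GolayPt),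
    ((c • v : leechLattice) : GolayPt → ℤ) (σ x) ^ 2 = (v : GolayPt → ℤ) x ^ 2

theorem Mono.one : Mono 1 1 := fun v x => by rw [one_smul]; rfl

theorem Mono.mul {c d : Co0} {σ τ : Equiv.Perm GolayPt} (h : Mono c σ) (h' : Mono d τ) :
    Mono (c * d) (σ * τ) := fun v x => by
  rw [mul_smul, Equiv.Perm.mul_apply, h, h']

theorem Mono.inv {c : Co0} {σ : Equiv.Perm GolayPt} (h : Mono c σ) : Mono c⁻¹ σ⁻¹ := fun v x => by
  have h1 := h (c⁻¹ • v) (σ⁻¹ x)
  rw [smul_inv_smul, show σ (σ⁻¹ x) = x from σ.apply_symm_apply x] at h1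
  exact h1.symm

theorem Mono.unique {c : Co0} {σ τ : Equiv.Perm GolayPt} (h : Mono c σ) (h' : Mono c τ) : σ = τ := by
  apply Equiv.ext
  intro x
  have h1 := h (e8 x) x
  have h2 := h' (e8 x) (τ⁻¹ (σ x))
  rw [show τ (τ⁻¹ (σ x)) = σ x from τ.apply_symm_apply _, h1, coe_e8, Pi.single_eq_same] at h2
  by_contra hne'
  rw [Pi.single_eq_of_ne] at h2
  · exact absurd h2 (by norm_num)
  · intro h3
    apply hne'
    rw [Equiv.Perm.inv_eq_iff_eq] at h3
    exact h3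

theorem mono_sgn (s : Finset GolayPt) (hs : s ∈ Words) : Mono (sgn s hs) 1 := fun v x => by
  rw [sgn_coe, sgnMap_apply, Equiv.Perm.one_apply]
  split_ifs
  · exact neg_sq _
  · rfl

theorem mono_perm (σ : Equiv.Perm GolayPt) (hσ : σ ∈ M24) : Mono (Co0Elts.perm σ hσ) σ := fun v x => by
  rw [perm_coe, permMap_apply, Equiv.symm_apply_apply]

/-- A monomial element of the frame stabiliser with trivial permutation is a sign change. -/
theorem Mono.sgn_of {c : Co0} (hc : c ∈ NbAct.NN) (h : Mono c 1) :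
    ∃ (s : Finset GolayPt) (hs : s ∈ Words), none ∉ s ∧ some 0 ∉ s ∧ c = sgn s hs := by
  obtain ⟨h1, h2 | h2⟩ := hc
  · obtain ⟨σ, hσ, s, hs, -, -, h3, h4, e⟩ := exists_monomial_of_fix c h1 h2
    have h5 : Mono c (1 * σ) := by
      rw [e]
      exact (mono_sgn s hs).mul (mono_perm σ hσ)
    have h6 : σ = 1 := by
      have := h5.unique h
      rwa [one_mul] at this
    subst h6
    exact ⟨s, hs, h3, h4, by rw [e, perm_one, mul_one]⟩
  · exfalso
    have h3 := h (e8 none) none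
    rw [e8_left hne, smul_add_co0, h1, h2] at h3
    revert h3
    show ¬ (two none (some 0) 4 (-4) none + -two none (some 0) 4 4 none) ^ 2 =
      (two none (some 0) 4 (-4) none + two none (some 0) 4 4 none) ^ 2
    rw [two_left, two_left]
    norm_num

/-! ### The permutation of an element of `G` -/

/-- `g` acts on the head as a monomial element with permutation `σ`. -/
def Pm (g : G) (σ : Equiv.Perm GolayPt) : Prop := ∃ c : Co0, _root_.Cfsg.Agent.BabyM.ThetaInst.Rel g.1 c ∧ Mono c σ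

theorem Pm.one : Pm 1 1 := ⟨1, Rel.one, Mono.one⟩

theorem Pm.mul {g g' : G} {σ τ : Equiv.Perm GolayPt} (h : Pm g σ) (h' : Pm g' τ) : Pm (g * g') (σ * τ) := by
  obtain ⟨c, h1, h2⟩ := h
  obtain ⟨d, h3, h4⟩ := h'
  exact ⟨c * d, h1.mul h3, h2.mul h4⟩

theorem Pm.inv {g : G} {σ : Equiv.Perm GolayPt} (h : Pm g σ) : Pm g⁻¹ σ⁻¹ := by
  obtain ⟨c, h1, h2⟩ := h
  exact ⟨c⁻¹, h1.inv, h2.inv⟩

theorem Pm.unique {g : G} {σ τ : Equiv.Perm GolayPt} (h : Pm g σ) (h' : Pm g τ) : σ = τ := by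
  obtain ⟨c, h1, h2⟩ := h
  obtain ⟨d, h3, h4⟩ := h'
  rw [← h1.unique h3] at h4
  exact h2.unique h4

theorem mem_QQ {g : G} : g ∈ QQ ↔ g.1 ∈ Q := by
  rw [KQ.Q_eq]
  constructor
  · rintro ⟨x, rfl⟩
    exact ⟨x, rfl⟩
  · rintro ⟨x, hx⟩
    exact ⟨x, Subtype.ext hx⟩

theorem QQ_le_NN : QQ ≤ NN := fun _ h => CertInv.Q_le_N (mem_QQ.1 h)

theorem NN_le_CC : NN ≤ CC := fun _ h => CertInv.N_le_C h

theorem gE_mem_NN {l : Ltr} (h : CertVec.isN l = true) : gE l ∈ NN := CertInv.E_mem_N h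

theorem rel_of_QQ {g : G} (h : g ∈ QQ) : _root_.Cfsg.Agent.BabyM.ThetaInst.Rel g.1 1 :=
  (GroupInst.rel_iff KLink.link (NN_le_CC (QQ_le_NN h))).2 (mem_QQ.1 h)

theorem QQ_of_rel {g : G} (hg : g ∈ CC) (h : _root_.Cfsg.Agent.BabyM.ThetaInst.Rel g.1 1) : g ∈ QQ :=
  mem_QQ.2 ((GroupInst.rel_iff KLink.link hg).1 h)

theorem pm_Q {g : G} (h : g ∈ QQ) : Pm g 1 := ⟨1, rel_of_QQ h, Mono.one⟩

theorem pm_y {l : Ltr} {k : ℕ} (h : yIdx l = some k) : Pm (gE l) 1 := ⟨_, rel_y h, mono_sgn _ _⟩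

theorem pm_p : Pm (gE .p) pPerm := ⟨_, rel_p, mono_perm _ _⟩

theorem pm_h : Pm (gE .h) hPerm := by
  refine ⟨_, rel_h, ?_⟩
  have h1 := (mono_sgn Finset.univ univ_mem).mul (mono_perm hPerm (DuadGen.h_mem hPerm_tab))
  rw [one_mul] at h1
  exact h1

theorem pPerm_mem : pPerm ∈ DuadGen.duad :=
  DuadGen.closure_le pPerm_tab hPerm_tab (Subgroup.subset_closure (Or.inl rfl))

theorem hPerm_mem : hPerm ∈ DuadGen.duad :=
  DuadGen.closure_le pPerm_tab hPerm_tab (Subgroup.subset_closure (Or.inr rfl))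

/-- Induction over the letters of `NN`. -/
theorem NN_ind {P : G → Prop} (hl : ∀ l, CertVec.isN l = true → P (gE l)) (h1 : P 1)
    (hm : ∀ a b, a ∈ NN → b ∈ NN → P a → P b → P (a * b)) (hi : ∀ a, a ∈ NN → P a → P a⁻¹) {g : G}
    (hg : g ∈ NN) : P g := by
  have key : ∀ (a : V ≃ₗ[ℚ] V) (ha : a ∈ CertInv.N), P ⟨a, InstMem.C_le_G (CertInv.N_le_C ha)⟩ := by
    intro a ha
    induction ha using Subgroup.closure_induction with
    | mem a ha =>
      obtain ⟨l, h, rfl⟩ := ha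
      exact hl l h
    | one => exact h1
    | mul a b ha hb iha ihb => exact hm _ _ ha hb iha ihb
    | inv a ha ih => exact hi _ ha ih
  exact key g.1 hg

theorem exists_pm {g : G} (hg : g ∈ NN) : ∃ σ ∈ DuadGen.duad, Pm g σ := by
  refine NN_ind (P := fun g => ∃ σ ∈ DuadGen.duad, Pm g σ) ?_ ⟨1, one_mem _, Pm.one⟩ ?_ ?_ hg
  · intro l hl
    rcases ThetaN.cases_isN hl with ⟨h1, -⟩ | ⟨k, hk, -⟩ | rfl | rfl
    · exact ⟨1, one_mem _, 1, rel_Q h1, Mono.one⟩
    · exact ⟨1, one_mem _, pm_y hk⟩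
    · exact ⟨_, pPerm_mem, pm_p⟩
    · exact ⟨_, hPerm_mem, pm_h⟩
  · rintro a b - - ⟨σ, h1, h2⟩ ⟨τ, h3, h4⟩
    exact ⟨σ * τ, mul_mem h1 h3, h2.mul h4⟩
  · rintro a - ⟨σ, h1, h2⟩
    exact ⟨σ⁻¹, inv_mem h1, h2.inv⟩

/-! ### The kernel -/

theorem y_cases {l : Ltr} (h : l ∈ [Ltr.y1, .y2, .y3, .y4, .y5, .y6, .y7, .y8, .y9, .y10]) :
    CertVec.isN l = true ∧ ∃ k, yIdx l = some k := by
  simp only [List.mem_cons, List.not_mem_nil, or_false] at h
  rcases h with rfl | rfl | rfl | rfl | rfl | rfl | rfl | rfl | rfl | rfl <;> exact ⟨rfl, _, rfl⟩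

theorem R0_le {H : Subgroup G} (h1 : QQ ≤ H)
    (h2 : ∀ l ∈ [Ltr.y1, .y2, .y3, .y4, .y5, .y6, .y7, .y8, .y9, .y10], gE l ∈ H) : R0 ≤ H := by
  unfold R0
  rw [Subgroup.closure_le]
  rintro g (hg | ⟨l, hl, rfl⟩)
  · exact h1 hg
  · exact h2 l hl

theorem R0_le_NN : R0 ≤ NN := R0_le QQ_le_NN fun _ hl => gE_mem_NN (y_cases hl).1

theorem pm_of_R0 {g : G} (hg : g ∈ R0) : Pm g 1 := by
  let H : Subgroup G :=
    { carrier := {g | Pm g 1}
      one_mem' := Pm.one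
      mul_mem' := fun ha hb => by
        have h := Pm.mul ha hb
        rwa [one_mul] at h
      inv_mem' := fun ha => by
        have h := Pm.inv ha
        rwa [inv_one] at h }
  refine R0_le (H := H) (fun _ h => pm_Q h) (fun l hl => ?_) hg
  obtain ⟨-, k, hk⟩ := y_cases hl
  exact pm_y hk

theorem exists_R0_sgn {s : Finset GolayPt} (hs : s ∈ Words) (h1 : none ∉ s) (h2 : some 0 ∉ s) :
    ∃ ρ ∈ R0, _root_.Cfsg.Agent.BabyM.ThetaInst.Rel ρ.1 (sgn s hs) := by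
  let H : Subgroup Co0 :=
    { carrier := {c | ∃ ρ ∈ R0, _root_.Cfsg.Agent.BabyM.ThetaInst.Rel ρ.1 c}
      one_mem' := ⟨1, one_mem _, Rel.one⟩
      mul_mem' := by
        rintro a b ⟨ρ, h1, h2⟩ ⟨ρ', h3, h4⟩
        exact ⟨ρ * ρ', mul_mem h1 h3, h2.mul h4⟩
      inv_mem' := by
        rintro a ⟨ρ, h1, h2⟩
        exact ⟨ρ⁻¹, inv_mem h1, h2.inv⟩ }
  refine sgn_mem_of (H := H) (fun k hk => ?_) hs h1 h2
  have : ∃ l ∈ [Ltr.y1, .y2, .y3, .y4, .y5, .y6, .y7, .y8, .y9, .y10], yIdx l = some k := by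
    interval_cases k
    · exact ⟨.y1, by simp, rfl⟩
    · exact ⟨.y2, by simp, rfl⟩
    · exact ⟨.y3, by simp, rfl⟩
    · exact ⟨.y4, by simp, rfl⟩
    · exact ⟨.y5, by simp, rfl⟩
    · exact ⟨.y6, by simp, rfl⟩
    · exact ⟨.y7, by simp, rfl⟩
    · exact ⟨.y8, by simp, rfl⟩
    · exact ⟨.y9, by simp, rfl⟩
    · exact ⟨.y10, by simp, rfl⟩
  obtain ⟨l, hl, hk'⟩ := this
  exact ⟨gE l, gE_mem_R0 hl, rel_y hk'⟩

theorem sgn_of_pm {g : G} (hg : g ∈ NN) (h : Pm g 1) :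
    ∃ (s : Finset GolayPt) (hs : s ∈ Words), none ∉ s ∧ some 0 ∉ s ∧ _root_.Cfsg.Agent.BabyM.ThetaInst.Rel g.1 (sgn s hs) := by
  obtain ⟨c, h1, h2⟩ := h
  obtain ⟨s, hs, h3, h4, rfl⟩ := h2.sgn_of (ThetaN.rel_NN hg h1)
  exact ⟨s, hs, h3, h4, h1⟩

theorem R0_of_pm {g : G} (hg : g ∈ NN) (h : Pm g 1) : g ∈ R0 := by
  obtain ⟨s, hs, h3, h4, h1⟩ := sgn_of_pm hg h
  obtain ⟨ρ, h5, h6⟩ := exists_R0_sgn hs h3 h4
  have h7 : g * ρ⁻¹ ∈ QQ := by
    apply QQ_of_rel (NN_le_CC (mul_mem hg (inv_mem (R0_le_NN h5))))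
    have := h1.mul h6.inv
    rwa [mul_inv_cancel] at this
  have h8 := mul_mem (QQ_le_R0 h7) h5
  rwa [inv_mul_cancel_right] at h8

theorem conj_mem_R0 {n g : G} (hn : n ∈ NN) (hg : g ∈ R0) : n * g * n⁻¹ ∈ R0 := by
  obtain ⟨σ, -, h⟩ := exists_pm hn
  apply R0_of_pm (mul_mem (mul_mem hn (R0_le_NN hg)) (inv_mem hn))
  have h1 := (h.mul (pm_of_R0 hg)).mul h.inv
  rwa [mul_one, mul_inv_cancel] at h1

/-- **`R0` is normal in `NN`.** -/
theorem R0_norm : NN ≤ Subgroup.normalizer (R0 : Set G) := by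
  intro n hn
  rw [Subgroup.mem_normalizer_iff]
  intro g
  refine ⟨conj_mem_R0 hn, fun h => ?_⟩
  have h1 := conj_mem_R0 (inv_mem hn) h
  have e : n⁻¹ * (n * g * n⁻¹) * n⁻¹⁻¹ = g := by group
  rwa [e] at h1

/-! ### Orders -/

theorem sgn_sq (s : Finset GolayPt) (hs : s ∈ Words) : sgn s hs * sgn s hs = 1 := by
  apply Cfsg.Agent.Leech.FrameAux.co0_ext
  intro v
  rw [mul_smul, sgn_coe, sgn_coe, sgnMap_sgnMap, one_smul]

theorem QQ_pow {g : G} (h : g ∈ QQ) : g ^ 4 = 1 := by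
  have h1 := Instance.all.grp.Q_sq g.1 (mem_QQ.1 h)
  have h2 : g * g = 1 ∨ g * g = gE .z := h1.imp (fun h => Subtype.ext h) (fun h => Subtype.ext h)
  have e : g ^ 4 = (g * g) * (g * g) := by
    rw [show (4 : ℕ) = 1 + 1 + 1 + 1 from rfl, pow_succ, pow_succ, pow_succ, pow_one, mul_assoc]
  rcases h2 with h2 | h2
  · rw [e, h2, one_mul]
  · rw [e, h2, H863.BGrp.z_sq]

theorem R0_pow {g : G} (h : g ∈ R0) : g ^ 2 ^ 3 = 1 := by
  obtain ⟨s, hs, -, -, h1⟩ := sgn_of_pm (R0_le_NN h) (pm_of_R0 h)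
  have h2 : g * g ∈ QQ := by
    apply QQ_of_rel (NN_le_CC (R0_le_NN (mul_mem h h)))
    have := h1.mul h1
    rwa [sgn_sq] at this
  have h3 := QQ_pow h2
  rw [← pow_two, ← pow_mul] at h3
  exact h3

theorem R0_pgroup : IsPGroup 2 R0 := fun g => ⟨3, Subtype.ext (R0_pow g.2)⟩

theorem R0_card : ∃ k, Nat.card R0 = 2 ^ k := by
  have : Fact (Nat.Prime 2) := ⟨Nat.prime_two⟩
  exact IsPGroup.iff_card.1 R0_pgroup

theorem R0_three : ¬ 3 ∣ Nat.card R0 := by
  obtain ⟨k, hk⟩ := R0_card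
  rw [hk]
  intro h
  exact absurd (Nat.prime_three.dvd_of_dvd_pow h) (by norm_num)

/-- The permutation of an element of `NN`. -/
noncomputable def per : NN →* Equiv.Perm GolayPt where
  toFun g := (exists_pm g.2).choose
  map_one' := (exists_pm (1 : NN).2).choose_spec.2.unique Pm.one
  map_mul' a b := (exists_pm (a * b).2).choose_spec.2.unique
    ((exists_pm a.2).choose_spec.2.mul (exists_pm b.2).choose_spec.2)

theorem pm_per (g : NN) : Pm g.1 (per g) := (exists_pm g.2).choose_spec.2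

theorem per_mem (g : NN) : per g ∈ DuadGen.duad := (exists_pm g.2).choose_spec.1

theorem per_ker : per.ker = R0.subgroupOf NN := by
  ext g
  rw [MonoidHom.mem_ker, Subgroup.mem_subgroupOf]
  constructor
  · intro h
    exact R0_of_pm g.2 (h ▸ pm_per g)
  · intro h
    exact (pm_per g).unique (pm_of_R0 h)

theorem card_NN : ∃ k m, m ∣ 887040 ∧ Nat.card NN = m * 2 ^ k := by
  obtain ⟨k, hk⟩ := R0_card
  refine ⟨k, Nat.card per.range, ?_, ?_⟩
  · rw [← DuadGen.card_duad]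
    apply Subgroup.card_dvd_of_le
    rintro _ ⟨g, rfl⟩
    exact per_mem g
  · rw [← hk, ← Nat.card_congr (Subgroup.subgroupOfEquivOfLe R0_le_NN).toEquiv, ← per_ker,
      ← Nat.card_congr (QuotientGroup.quotientKerEquivRange per).toEquiv]
    exact Subgroup.card_eq_card_quotient_mul_card_subgroup _

/-- **The Sylow `3`-subgroups of `NN` have order at most nine.** -/
theorem NN_27 : ¬ 27 ∣ Nat.card NN := by
  obtain ⟨k, m, hm, h⟩ := card_NN
  rw [h]
  intro h1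
  have h2 : Nat.Coprime 27 (2 ^ k) := Nat.Coprime.pow_right k (by norm_num)
  exact absurd ((h2.dvd_of_dvd_mul_right h1).trans hm) (by norm_num)

end Cfsg.Agent.B5591.Geo
end

-- part: B5591/SylBox
section
/-!
# S5591: the boxes `BoxSyl` and `BoxR`
-/

set_option autoImplicit false

namespace Cfsg.Agent.B5591.Geo

open Cfsg Cfsg.Agent.Leech Cfsg.Agent.Leech.Code Cfsg.Agent.Leech.Basic Cfsg.Agent.Leech.Co0Elts
open Cfsg.Agent.Leech.Min Cfsg.Agent.Leech.Trans Cfsg.Agent.Leech.TransPair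
open Cfsg.Agent.BabyM.Co2Gen Cfsg.Agent.BabyM.Co2GenStd Cfsg.Agent.SporadicA
open Cfsg.Agent.Monster Cfsg.Agent.Monster.VecEngine Cfsg.Agent.Monster.VecSpace Cfsg.Agent.Monster.PauliBasic
open Cfsg.Agent.BabyM.Conc Cfsg.Agent.BabyM Cfsg.Agent.H863 Cfsg.Agent.H863.BRep Cfsg.Agent.H863.BVec
open Cfsg.Agent.BabyM.ThetaInst Cfsg.Agent.BabyM.ThetaHom
open Cfsg.Agent.BabyM.NbAct (w₀)

/-! ### The vector of the frame -/

theorem pt_ne {k : ℕ} (h0 : k ≠ 0) (hk : k < 23) : GolayBase.pt k ≠ none ∧ GolayBase.pt k ≠ some 0 := by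
  constructor
  · intro h
    have h1 := congrArg GolayBase.idx h
    rw [GolayBase.idx_pt (by omega), idx_none] at h1
    omega
  · intro h
    have h1 := congrArg GolayBase.idx h
    rw [GolayBase.idx_pt (by omega), idx_zero] at h1
    omega

theorem θ_w₀ : θ w₀ = (4 : ℚ) • b 0 := by
  unfold θ
  rw [Finset.sum_eq_single 0]
  · rw [coef_zero]
    congr 1
    show (((two none (some 0) 4 4 none : ℤ) : ℚ) + ((two none (some 0) 4 4 (some 0) : ℤ) : ℚ)) / 2 = 4
    rw [two_left, two_right hne]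
    norm_num
  · intro k hk h0
    rw [Finset.mem_range] at hk
    rw [coef_pos h0]
    have h1 : (w₀ : GolayPt → ℤ) (GolayBase.pt k) = 0 := two_other (pt_ne h0 hk).1 (pt_ne h0 hk).2 _ _
    rw [h1]
    simp
  · intro h
    exact absurd (Finset.mem_range.2 (by norm_num)) h

theorem b_eq {k : ℕ} (i : Lane U) (h : i.1 = 1344 + k) : b k = Pi.single i 1 := by
  funext j
  rw [b_apply, Pi.single_apply]
  exact if_congr (by rw [← h]; exact Subtype.ext_iff.symm) rfl rfl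

theorem tau_b0 : (gE .tau).1 (b 0) = b 0 := E_b chk_t_I

theorem tau_w₀ : (gE .tau).1 (θ w₀) = θ w₀ := by rw [θ_w₀, map_smul, tau_b0]

theorem R0_w₀ {g : G} (hg : g ∈ R0) : g.1 (θ w₀) = θ w₀ := by
  obtain ⟨s, hs, h1, h2, h3⟩ := sgn_of_pm (R0_le_NN hg) (pm_of_R0 hg)
  rw [h3.2, NbAct.sgn_w₀ hs h1 h2]

theorem R0_b0 {g : G} (hg : g ∈ R0) : g.1 (b 0) = b 0 := by
  have h := R0_w₀ hg
  rw [θ_w₀, map_smul] at h
  exact smul_right_injective _ (by norm_num : (4 : ℚ) ≠ 0) h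

theorem QQ_conj {g x : G} (hg : g ∈ CC) (hx : x ∈ QQ) : g * x * g⁻¹ ∈ QQ :=
  mem_QQ.2 (Instance.all.grp.Q_normal g.1 hg x.1 (mem_QQ.1 hx))

/-! ### `N0 ≤ NN` -/

theorem tau_y {l : Ltr} {k : ℕ} (h : yIdx l = some k) : (gE .tau)⁻¹ * gE l * gE .tau ∈ QQ := by
  rw [mem_QQ]
  show τ⁻¹ * _root_.Cfsg.Agent.BabyM.Conc.E l * τ ∈ Q
  cases l
  case y1 => rw [ConcGrp.conj_of' ConcRelT.taui_y1]; exact ConcGrp.W_mem_Q rfl
  case y2 => rw [ConcGrp.conj_of' ConcRelT.taui_y2]; exact ConcGrp.W_mem_Q rfl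
  case y3 => rw [ConcGrp.conj_of' ConcRelT.taui_y3]; exact ConcGrp.W_mem_Q rfl
  case y4 => rw [ConcGrp.conj_of' ConcRelT.taui_y4]; exact ConcGrp.W_mem_Q rfl
  case y5 => rw [ConcGrp.conj_of' ConcRelT.taui_y5]; exact ConcGrp.W_mem_Q rfl
  case y6 => rw [ConcGrp.conj_of' ConcRelT.taui_y6]; exact ConcGrp.W_mem_Q rfl
  case y7 => rw [ConcGrp.conj_of' ConcRelT.taui_y7]; exact ConcGrp.W_mem_Q rfl
  case y8 => rw [ConcGrp.conj_of' ConcRelT.taui_y8]; exact ConcGrp.W_mem_Q rfl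
  case y9 => rw [ConcGrp.conj_of' ConcRelT.taui_y9]; exact ConcGrp.W_mem_Q rfl
  case y10 => rw [ConcGrp.conj_of' ConcRelT.taui_y10]; exact ConcGrp.W_mem_Q rfl
  all_goals exact absurd h (by simp [yIdx])

theorem exists_y (k : ℕ) (hk : k < 10) :
    ∃ l ∈ [Ltr.y1, .y2, .y3, .y4, .y5, .y6, .y7, .y8, .y9, .y10], yIdx l = some k := by
  interval_cases k
  · exact ⟨.y1, by simp, rfl⟩
  · exact ⟨.y2, by simp, rfl⟩
  · exact ⟨.y3, by simp, rfl⟩
  · exact ⟨.y4, by simp, rfl⟩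
  · exact ⟨.y5, by simp, rfl⟩
  · exact ⟨.y6, by simp, rfl⟩
  · exact ⟨.y7, by simp, rfl⟩
  · exact ⟨.y8, by simp, rfl⟩
  · exact ⟨.y9, by simp, rfl⟩
  · exact ⟨.y10, by simp, rfl⟩

theorem dMask_cover : ∀ j < 23, j ≠ 0 → ∃ k < 10, (dMask k).testBit j = true := by decide +kernel

theorem N0_zz {g : G} (hg : g ∈ N0) : g * gE .z = gE .z * g :=
  (Subgroup.mem_centralizer_iff.1 hg zz (Set.mem_insert _ _)).symm

theorem N0_pp {g : G} (hg : g ∈ N0) : g * gE .Z10 = gE .Z10 * g :=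
  (Subgroup.mem_centralizer_iff.1 hg pp (Set.mem_insert_of_mem _ rfl)).symm

theorem N0_le_CC : N0 ≤ CC := fun _ hg => BGrp.cent (N0_zz hg)

theorem N0_tau {g : G} (hg : g ∈ N0) : (gE .tau)⁻¹ * g * gE .tau ∈ CC := by
  apply BGrp.cent
  calc (gE .tau)⁻¹ * g * gE .tau * gE .z = (gE .tau)⁻¹ * g * (gE .tau * gE .z) := by group
    _ = (gE .tau)⁻¹ * (g * gE .Z10) * gE .tau := by rw [BGrp.tz]; group
    _ = (gE .tau)⁻¹ * (gE .Z10 * gE .tau) * ((gE .tau)⁻¹ * g * gE .tau) := by rw [N0_pp hg]; group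
    _ = gE .z * ((gE .tau)⁻¹ * g * gE .tau) := by rw [← BGrp.tz]; group

theorem y_fix {g : G} (hg : g ∈ N0) {l : Ltr} {k : ℕ} (h : yIdx l = some k) :
    (gE l).1 (g.1 (θ w₀)) = g.1 (θ w₀) := by
  have h1 := QQ_conj (inv_mem (N0_tau hg)) (tau_y h)
  have h2 := R0_w₀ (QQ_le_R0 h1)
  have e : gE l * g * gE .tau = g * gE .tau *
      (((gE .tau)⁻¹ * g * gE .tau)⁻¹ * ((gE .tau)⁻¹ * gE l * gE .tau) * ((gE .tau)⁻¹ * g * gE .tau)⁻¹⁻¹) := by
    group
  have h3 : (gE l * g * gE .tau).1 (θ w₀) = (gE l).1 (g.1 ((gE .tau).1 (θ w₀))) := rfl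
  rw [tau_w₀] at h3
  have h4 : ∀ a b : G, ∀ v : V, (a * b).1 v = a.1 (b.1 v) := fun _ _ _ => rfl
  rw [← h3, e, h4, h2, h4, tau_w₀]

/-- **The centraliser of the line lies in `NN`.** -/
theorem N0_le_NN : N0 ≤ NN := by
  intro g hg
  obtain ⟨c, hc⟩ := rel_C g.1 (N0_le_CC hg)
  refine ThetaN.mem_N_of (GroupInst.ker_rel KLink.link) (N0_le_CC hg) ⟨hc.1, ?_⟩ hc
  have hz : ∀ x : GolayPt, x ≠ none → x ≠ some 0 → ((c • w₀ : leechLattice) : GolayPt → ℤ) x = 0 := by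
    intro x h1 h2
    have h3 : GolayBase.idx x ≠ 23 := fun h => h1 (GolayBase.idx_injective h)
    have h4 : GolayBase.idx x ≠ 0 := fun h => h2 (GolayBase.idx_injective h)
    have h5 := GolayBase.idx_lt x
    obtain ⟨k, hk, h6⟩ := dMask_cover _ (by omega) h4
    obtain ⟨l, -, hl⟩ := exists_y k hk
    have h7 := y_fix hg hl
    have hy := rel_y hl
    rw [hc.2] at h7
    have h8 : sgn _ (fin_dMask_mem k (yIdx_lt hl)) • c • w₀ = c • w₀ := by
      apply θ_inj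
      · rw [← hy.2]
        exact h7
      · have h9 := dotInt_smul (sgn _ (fin_dMask_mem k (yIdx_lt hl))) l₀ (c • w₀)
        rw [hy.1] at h9
        exact h9
    have h9 := congrFun (congrArg Subtype.val h8) x
    rw [sgn_coe, sgnMap_apply, if_pos (GolayBase.mem_fin.2 h6)] at h9
    omega
  have hd : ((c • w₀ : leechLattice) : GolayPt → ℤ) none = ((c • w₀ : leechLattice) : GolayPt → ℤ) (some 0) := by
    have h1 := dotInt_smul c l₀ w₀
    rw [hc.1, dot_v0, dot_v0] at h1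
    have h2 : (w₀ : GolayPt → ℤ) none = 4 := two_left none (some 0) 4 4
    have h3 : (w₀ : GolayPt → ℤ) (some 0) = 4 := two_right hne 4 4
    rw [h2, h3] at h1
    omega
  have hn : sqNorm ((c • w₀ : leechLattice) : GolayPt → ℤ) = 32 := by
    rw [sqNorm_smul]
    exact sqNorm_lv _ _ _ _ _ _ _
  unfold sqNorm at hn
  rw [Finset.sum_eq_add none (some 0) hne (fun i _ hi => by rw [hz i hi.1 hi.2]; rfl)
    (fun h => absurd (Finset.mem_univ _) h) (fun h => absurd (Finset.mem_univ _) h), ← hd] at hn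
  have key : ∀ a : ℤ, ((c • w₀ : leechLattice) : GolayPt → ℤ) none = a →
      ((c • w₀ : leechLattice) : GolayPt → ℤ) = two none (some 0) a a := by
    intro a ha
    funext x
    by_cases h1 : x = none
    · rw [h1, two_left, ha]
    · by_cases h2 : x = some 0
      · rw [h2, two_right hne, ← hd, ha]
      · rw [two_other h1 h2, hz x h1 h2]
  have h4 : ((c • w₀ : leechLattice) : GolayPt → ℤ) none ^ 2 = 4 ^ 2 := by omega
  rcases sq_eq_sq_iff_eq_or_eq_neg.1 h4 with h5 | h5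
  · exact Or.inl (Subtype.ext (key _ h5))
  · right
    rw [← neg_lv hne]
    exact Subtype.ext (key _ h5)

theorem boxSyl : BoxSyl := ⟨N0_le_NN, NN_27⟩

/-! ### The fixed points of `R0` on the module -/

theorem R0_wV {g : G} (hg : g ∈ R0) : σV g wV = wV := by
  have h1 := R0_b0 hg
  rw [b_eq bI rfl] at h1
  have h2 := tr_mono two_ne (g := g) (i := bI) (j := bI) (s := 0) (by rw [sg_zero, one_smul]; exact h1)
  rw [sg_zero, one_smul] at h2
  exact h2

theorem y_A (j : Fin 22) : ∃ g ∈ R0, σV g (Pi.single (bA j) 1) = -Pi.single (bA j) 1 := by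
  obtain ⟨k, hk, h6⟩ := dMask_cover (j.1 + 1) (by omega) (by omega)
  obtain ⟨l, hl', hl⟩ := exists_y k hk
  refine ⟨gE l, gE_mem_R0 hl', ?_⟩
  have h1 := E_b (y_check l (dMask k) (by rw [hl]; rfl) (j.1 + 1) (by omega))
  rw [res_eq, if_pos h6, id, b_eq (bA j) rfl] at h1
  have h2 := tr_mono two_ne (g := gE l) (i := bA j) (j := bA j) (s := 1) (by rw [sg_one]; exact h1)
  rw [sg_one, neg_one_smul] at h2
  exact h2

theorem R0_fixed {v : V3} (h : ∀ g ∈ R0, σV g v = v) : v = v bI • wV := by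
  have hU : v ∈ BE.U (BInst.M two_ne) := (BE.mem_U _).2 fun x => h (r x) (QQ_le_R0 ⟨x, rfl⟩)
  funext i
  rw [Pi.smul_apply, smul_eq_mul]
  by_cases hi : i = bI
  · rw [hi]
    show _ = _ * (Pi.single bI (1 : F3) : V3) bI
    rw [Pi.single_eq_same, mul_one]
  · have h0 : wV i = 0 := Pi.single_eq_of_ne hi _
    rw [h0, mul_zero]
    by_cases hu : KTab.Cd.isU i
    · rcases BTI.U_cases i hu with h1 | ⟨j, rfl⟩
      · exact absurd h1 hi
      · obtain ⟨g, hg, h2⟩ := y_A j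
        have h3 := dot_inv g v (Pi.single (bA j) 1)
        rw [h g hg, h2, dotW_comm, ← neg_one_smul F3, dotW_smul_left, dotW_comm, neg_one_mul] at h3
        have h4 := eq_zero_of_eq_neg3 h3.symm
        rw [dotW_single] at h4
        exact (mul_eq_zero.1 h4).resolve_left (zpow_ne_zero _ two_ne)
    · exact hU i hu

theorem boxR : BoxR :=
  ⟨R0, R0_three, R0_le_NN, R0_norm, QQ_le_R0, fun _ h => gE_mem_R0 h, fun _ h => R0_wV h,
    fun v h => ⟨v bI, R0_fixed h⟩⟩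

end Cfsg.Agent.B5591.Geo
end

-- part: B5591/GenA
section
/-!
# S5591: the action of `NN` on the classes of the points, and lifts of permutations
-/

set_option autoImplicit false

namespace Cfsg.Agent.B5591.Geo

open Cfsg Cfsg.Agent.SporadicA Cfsg.Agent.SporadicA.M24Gens
open Cfsg.Agent.Monster Cfsg.Agent.Monster.PauliBasic Cfsg.Agent.Monster.PauliClif Cfsg.Agent.Monster.PauliBits
open Cfsg.Agent.BabyM.Conc Cfsg.Agent.BabyM Cfsg.Agent.H863 Cfsg.Agent.H863.BRep Cfsg.Agent.H863.BCode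
open Cfsg.Agent.BabyM.KTab
open Cfsg.Agent.BabyM.NbAct (pPerm hPerm pPerm_tab hPerm_tab)

/-! ### Conjugation of classes -/

theorem ab_self (a : B 11 × B 11) : a + a = 0 := Prod.ext (add_self _) (add_self _)

theorem ab_inv_mul {p : Pauli 11} {x x' : ℕ} (hp : ab p = ab (dec 11 (x ^^^ x'))) :
    ab ((dec 11 x)⁻¹ * p) = ab (dec 11 x') := by
  rw [ab_mul, hp, BCode.ab_dec_xor]
  show ab (dec 11 x) + _ = _
  rw [← add_assoc, ab_self, zero_add]

theorem ab_z (p : Pauli 11) : ab (p * Pauli.z 11) = ab p := by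
  rw [Pauli.mul_z]
  rfl

theorem cj_xor {g : G} {x y x' y' : ℕ} (h : Cj g.1 x y) (h' : Cj g.1 x' y') : Cj g.1 (x ^^^ x') (y ^^^ y') := by
  intro p hp
  obtain ⟨q1, h1, h2⟩ := h (dec 11 x) rfl
  obtain ⟨q2, h3, h4⟩ := h' _ (ab_inv_mul hp)
  refine ⟨q1 * q2, ?_, by rw [ab_mul, h2, h4, BCode.ab_dec_xor]⟩
  calc g.1 * Cd.R p = g.1 * Cd.R (dec 11 x) * Cd.R ((dec 11 x)⁻¹ * p) := by
        rw [mul_assoc, ← map_mul, mul_inv_cancel_left]
    _ = Cd.R (q1 * q2) * g.1 := by rw [h1, mul_assoc, h3, map_mul, mul_assoc]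

theorem cj_uniq {g : G} {x y y' : ℕ} (h : Cj g.1 x y) (h' : Cj g.1 x y') (hy : y < 2 ^ 22) (hy' : y' < 2 ^ 22) :
    y = y' := by
  obtain ⟨q1, h1, h2⟩ := h (dec 11 x) rfl
  obtain ⟨q2, h3, h4⟩ := h' (dec 11 x) rfl
  have h5 : q1 = q2 := Cd.R_injective (mul_right_cancel (h1.symm.trans h3))
  exact eq_of_ab_dec hy hy' (by rw [← h2, ← h4, h5])

theorem cj_mk {g : G} (hg : g ∈ CC) {x y : ℕ} {p0 q0 : Pauli 11} (hp : ab p0 = ab (dec 11 x))
    (hq : ab q0 = ab (dec 11 y)) (h : g * r p0 = r q0 * g) : Cj g.1 x y := by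
  intro p hp'
  rcases BGrp.eq_or_of_ab (hp'.trans hp.symm) with rfl | rfl
  · exact ⟨q0, congrArg Subtype.val h, hq⟩
  · refine ⟨q0 * Pauli.z 11, ?_, (ab_z _).trans hq⟩
    have h1 : g * r (p0 * Pauli.z 11) = r (q0 * Pauli.z 11) * g := by
      rw [map_mul, map_mul, ← BGrp.gE_z, ← mul_assoc, h, mul_assoc, BGrp.z_comm hg, mul_assoc]
    exact congrArg Subtype.val h1

theorem cj_ex {g : G} {x y : ℕ} (h : Cj g.1 x y) : ∃ w, ab w = ab (dec 11 y) ∧ g * q x = r w * g := by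
  obtain ⟨w, h1, h2⟩ := h (dec 11 x) rfl
  exact ⟨w, h2, Subtype.ext h1⟩

theorem cj_inv {g : G} (hg : g ∈ CC) {x y : ℕ} (h : Cj g.1 x y) : Cj (g⁻¹).1 y x := by
  obtain ⟨w, h1, h2⟩ := cj_ex h
  refine cj_mk (inv_mem hg) h1 rfl ?_
  calc g⁻¹ * r w = g⁻¹ * (r w * g) * g⁻¹ := by group
    _ = q x * g⁻¹ := by rw [← h2]; group

theorem cj_mul {g h : G} {x y w : ℕ} (h1 : Cj g.1 x y) (h2 : Cj h.1 y w) : Cj (h * g).1 x w := h1.comp h2

theorem cj_of_comm {g : G} (hg : g ∈ CC) {c : ℕ} (h : g * q c = q c * g) : Cj g.1 c c := cj_mk hg rfl rfl h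

theorem cj_Q {g : G} (hg : g ∈ QQ) (c : ℕ) : Cj g.1 c c := by
  obtain ⟨w, rfl⟩ := hg
  refine cj_mk (r_mem w) rfl (q0 := w * dec 11 c * w⁻¹) ?_ ?_
  · rw [Pauli.conj_eq]
    rfl
  · rw [← map_mul, ← map_mul, inv_mul_cancel_right]

theorem xor_xor (y : ℕ) : y ^^^ 0x400 ^^^ 0x400 = y := by rw [Nat.xor_assoc, Nat.xor_self, Nat.xor_zero]

/-- Conjugation of classes modulo the line. -/
def Ac (g : G) (x y : ℕ) : Prop := Cj g.1 x y ∨ Cj g.1 x (y ^^^ 0x400)

theorem Ac.xor {g : G} {x y x' y' : ℕ} (h : Ac g x y) (h' : Ac g x' y') : Ac g (x ^^^ x') (y ^^^ y') := by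
  have e1 : (y ^^^ 0x400) ^^^ y' = (y ^^^ y') ^^^ 0x400 := by
    rw [Nat.xor_assoc, Nat.xor_comm 0x400, ← Nat.xor_assoc]
  have e2 : (y ^^^ 0x400) ^^^ (y' ^^^ 0x400) = y ^^^ y' := by
    rw [← Nat.xor_assoc, e1, xor_xor]
  rcases h with h | h <;> rcases h' with h' | h'
  · exact Or.inl (cj_xor h h')
  · exact Or.inr (Nat.xor_assoc _ _ _ ▸ cj_xor h h')
  · exact Or.inr (e1 ▸ cj_xor h h')
  · exact Or.inl (e2 ▸ cj_xor h h')

theorem Ac.comp {g h : G} {x y w : ℕ} (h1 : Ac g x y) (h2 : Ac h y w) (hp : Cj h.1 0x400 0x400) :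
    Ac (h * g) x w := by
  rcases h1 with h1 | h1 <;> rcases h2 with h2 | h2
  · exact Or.inl (cj_mul h1 h2)
  · exact Or.inr (cj_mul h1 h2)
  · exact Or.inr (cj_mul h1 (cj_xor h2 hp))
  · exact Or.inl (xor_xor w ▸ cj_mul h1 (cj_xor h2 hp))

theorem Ac.uniq {g : G} {x y y' : ℕ} (h : Ac g x y) (h' : Ac g x y') (hy : y < 2 ^ 10) (hy' : y' < 2 ^ 10) :
    y = y' := by
  have l1 : ∀ {a : ℕ}, a < 2 ^ 10 → a < 2 ^ 22 := fun h => lt_trans h (by norm_num)
  have l2 : ∀ {a : ℕ}, a < 2 ^ 10 → a ^^^ 0x400 < 2 ^ 22 := fun h => Nat.xor_lt_two_pow (l1 h) (by norm_num)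
  have l3 : ∀ {a b : ℕ}, a < 2 ^ 10 → b < 2 ^ 10 → a ≠ b ^^^ 0x400 := by
    intro a b ha hb e
    have h1 := congrArg (fun n => Nat.testBit n 10) e
    simp only [Nat.testBit_xor, Nat.testBit_lt_two_pow ha, Nat.testBit_lt_two_pow hb] at h1
    exact absurd h1 (by decide)
  rcases h with h | h <;> rcases h' with h' | h'
  · exact cj_uniq h h' (l1 hy) (l1 hy')
  · exact absurd (cj_uniq h h' (l1 hy) (l2 hy')) (l3 hy hy')
  · exact absurd (cj_uniq h' h (l1 hy') (l2 hy)) (l3 hy' hy)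
  · rw [← xor_xor y, cj_uniq h h' (l2 hy) (l2 hy'), xor_xor]

/-! ### The classes of the points -/

/-- The codes of the points. -/
def kap (j : ℕ) : ℕ :=
  [0, 0x75, 0x9f, 0x14b, 0x2e3, 0x1b3, 0x366, 0x2cc, 0x1ed, 0x3da, 0x3b4, 0x31d, 0x23a, 0x1, 0x2, 0x4, 0x8, 0x10,
    0x20, 0x40, 0x80, 0x100, 0x200, 0].getD j 0

theorem kap_lt : ∀ j < 24, kap j < 2 ^ 10 := by decide +kernel

theorem kap_y : ∀ l ∈ [Ltr.y1, .y2, .y3, .y4, .y5, .y6, .y7, .y8, .y9, .y10], inW l = true ∧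
    ln (Ic l) 0x400 = 0x400 ∧ ∀ j < 24, ln (Ic l) (kap j) = kap j ∨ ln (Ic l) (kap j) = kap j ^^^ 0x400 := by
  decide +kernel

theorem kap_p : ∀ j < 24, ln (Ic .p) (kap j) = kap (DuadGen.tabP.getD j 0) := by decide +kernel

theorem kap_h : ∀ j < 24, ln (Ic .h) (kap j) = kap (DuadGen.tabH.getD j 0) := by decide +kernel

theorem R0_link {g : G} (hg : g ∈ R0) : Cj g.1 0x400 0x400 ∧ ∀ j < 24, Ac g (kap j) (kap j) := by
  let H : Subgroup G :=
    { carrier := {g | g ∈ CC ∧ Cj g.1 0x400 0x400 ∧ ∀ j < 24, Ac g (kap j) (kap j)}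
      one_mem' := ⟨one_mem _, Cj.one _, fun _ _ => Or.inl (Cj.one _)⟩
      mul_mem' := by
        rintro a b ⟨h1, h2, h3⟩ ⟨h4, h5, h6⟩
        exact ⟨mul_mem h1 h4, cj_mul h5 h2, fun j hj => (h6 j hj).comp (h3 j hj) h2⟩
      inv_mem' := by
        rintro a ⟨h1, h2, h3⟩
        refine ⟨inv_mem h1, cj_inv h1 h2, fun j hj => ?_⟩
        rcases h3 j hj with h4 | h4
        · exact Or.inl (cj_inv h1 h4)
        · have h5 := cj_xor (cj_inv h1 h4) (cj_inv h1 h2)
          rw [xor_xor] at h5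
          exact Or.inr h5 }
  refine (R0_le (H := H) (fun x hx => ?_) (fun l hl => ?_) hg).2
  · exact ⟨NN_le_CC (QQ_le_NN hx), cj_Q hx _, fun _ _ => Or.inl (cj_Q hx _)⟩
  · obtain ⟨h1, h2, h3⟩ := kap_y l hl
    have h5 := Cj_letter h1 0x400
    rw [h2] at h5
    refine ⟨NN_le_CC (gE_mem_NN (y_cases hl).1), h5, fun j hj => ?_⟩
    have h6 := Cj_letter h1 (kap j)
    rcases h3 j hj with h4 | h4 <;> rw [h4] at h6
    · exact Or.inl h6
    · exact Or.inr h6

theorem mem_N0 {g : G} (h1 : g * gE .z = gE .z * g) (h2 : g * gE .Z10 = gE .Z10 * g) : g ∈ N0 := by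
  apply Subgroup.mem_centralizer_iff.2
  rintro t (rfl | rfl)
  · exact h1.symm
  · exact h2.symm

theorem lift_T {σ : Equiv.Perm GolayPt} (hσ : σ ∈ DuadGen.duad) :
    ∃ t ∈ N0, Pm t σ ∧ ∀ x, Cj t.1 (kap (pidx x)) (kap (pidx (σ x))) := by
  rw [← DuadGen.closure_eq pPerm_tab hPerm_tab] at hσ
  induction hσ using Subgroup.closure_induction with
  | mem σ hσ =>
    rcases hσ with rfl | rfl
    · refine ⟨gE .p, mem_N0 (BGrp.z_comm (BGrp.gE_mem rfl)) (BTI.comm_D rfl), pm_p, fun x => ?_⟩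
      rw [pPerm_tab, ← kap_p _ (pidx_lt x)]
      exact Cj_letter rfl _
    · refine ⟨gE .h, mem_N0 (BGrp.z_comm (BGrp.gE_mem rfl)) (BTI.comm_D rfl), pm_h, fun x => ?_⟩
      rw [hPerm_tab, ← kap_h _ (pidx_lt x)]
      exact Cj_letter rfl _
  | one => exact ⟨1, one_mem _, Pm.one, fun _ => Cj.one _⟩
  | mul σ τ _ _ ih ih' =>
    obtain ⟨a, h1, h2, h3⟩ := ih
    obtain ⟨b, h4, h5, h6⟩ := ih'
    exact ⟨a * b, mul_mem h1 h4, h2.mul h5, fun x => cj_mul (h6 x) (h3 (τ x))⟩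
  | inv σ _ ih =>
    obtain ⟨a, h1, h2, h3⟩ := ih
    refine ⟨a⁻¹, inv_mem h1, h2.inv, fun x => ?_⟩
    have h4 := cj_inv (N0_le_CC h1) (h3 (σ⁻¹ x))
    rwa [show σ (σ⁻¹ x) = x from σ.apply_symm_apply x] at h4

theorem Pm.duad {g : G} (hg : g ∈ NN) {σ : Equiv.Perm GolayPt} (h : Pm g σ) : σ ∈ DuadGen.duad := by
  obtain ⟨τ, h1, h2⟩ := exists_pm hg
  rw [h.unique h2]
  exact h1

theorem R0_of_pm2 {g t : G} (hg : g ∈ NN) (ht : t ∈ NN) {σ : Equiv.Perm GolayPt} (h1 : Pm g σ) (h2 : Pm t σ) :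
    g * t⁻¹ ∈ R0 := by
  apply R0_of_pm (mul_mem hg (inv_mem ht))
  have h := h1.mul h2.inv
  rwa [mul_inv_cancel] at h

theorem link {g : G} (hg : g ∈ NN) {σ : Equiv.Perm GolayPt} (h : Pm g σ) (x : GolayPt) :
    Ac g (kap (pidx x)) (kap (pidx (σ x))) := by
  obtain ⟨t, h1, h2, h3⟩ := lift_T (h.duad hg)
  obtain ⟨h4, h5⟩ := R0_link (R0_of_pm2 hg (N0_le_NN h1) h h2)
  have h6 := Ac.comp (Or.inl (h3 x)) (h5 _ (pidx_lt (σ x))) h4
  rwa [inv_mul_cancel_right] at h6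

/-- The code of the image of a duad. -/
def kk (σ : Equiv.Perm GolayPt) (a b : GolayPt) : ℕ := kap (pidx (σ a)) ^^^ kap (pidx (σ b))

theorem kk_lt (σ : Equiv.Perm GolayPt) (a b : GolayPt) : kk σ a b < 2 ^ 10 :=
  Nat.xor_lt_two_pow (kap_lt _ (pidx_lt _)) (kap_lt _ (pidx_lt _))

theorem link2 {g : G} (hg : g ∈ NN) {σ : Equiv.Perm GolayPt} (h : Pm g σ) (a b : GolayPt) :
    Ac g (kk 1 a b) (kk σ a b) := (link hg h a).xor (link hg h b)

theorem kk_of_cj {g : G} (hg : g ∈ NN) {σ : Equiv.Perm GolayPt} (h : Pm g σ) {a b : GolayPt}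
    (hc : Cj g.1 (kk 1 a b) (kk 1 a b)) : kk σ a b = kk 1 a b :=
  (link2 hg h a b).uniq (Or.inl hc) (kk_lt _ _ _) (kk_lt _ _ _)

theorem kk1 : kk 1 (some 1) (some 2) = 0xea := by decide +kernel

theorem kk2 : kk 1 (some 13) (some 16) = 0x9 := by decide +kernel

theorem kk3 : kk 1 (some 19) (some 21) = 0x140 := by decide +kernel

theorem kk4 : kk 1 (some 4) (some 22) = 0xe3 := by decide +kernel

/-! ### The normaliser of `KO` -/

/-- The class `y` is centralised by `KO`. -/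
def Cm (y : ℕ) : Prop := ∀ k ∈ KO, ∀ w : Pauli 11, ab w = ab (dec 11 y) → k * r w = r w * k

theorem KO_zz {k : G} (hk : k ∈ KO) : k * gE .z = gE .z * k := N0_zz (KP_le_N0 (KS_le_KP (KO_le_KS hk)))

theorem cm_of {y : ℕ} (h : ∀ k ∈ KO, k * q y = q y * k) : Cm y := by
  intro k hk w hw
  rcases BGrp.eq_or_of_ab hw with rfl | rfl
  · exact h k hk
  · have h1 : k * r (dec 11 y) = r (dec 11 y) * k := h k hk
    rw [map_mul, ← BGrp.gE_z, ← mul_assoc, h1, mul_assoc, KO_zz hk, mul_assoc]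

theorem Cm.xor {y y' : ℕ} (h : Cm y) (h' : Cm y') : Cm (y ^^^ y') := by
  intro k hk w hw
  have h1 := h k hk _ rfl
  have h2 := h' k hk _ (ab_inv_mul hw)
  have e : r w = r (dec 11 y) * r ((dec 11 y)⁻¹ * w) := by rw [← map_mul, mul_inv_cancel_left]
  rw [e, ← mul_assoc, h1, mul_assoc, h2, mul_assoc]

theorem Cm.xor' {y y' w : ℕ} (h : Cm y) (h' : Cm y') (e : y ^^^ y' = w) : Cm w := e ▸ h.xor h'

theorem pp_eq : pp = q 0x400 := BGrp.gE_Z10

theorem cm_p : Cm 0x400 := cm_of fun _ hk =>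
  (Subgroup.mem_centralizer_iff.1 hk _ (Or.inr (Or.inl pp_eq.symm))).symm

theorem cm_1 : Cm 0xea := cm_of fun _ hk =>
  (Subgroup.mem_centralizer_iff.1 hk _ (Or.inr (Or.inr (Or.inl rfl)))).symm

theorem cm_2 : Cm 0x9 := cm_of fun _ hk =>
  (Subgroup.mem_centralizer_iff.1 hk _ (Or.inr (Or.inr (Or.inr (Or.inl rfl))))).symm

theorem cm_3 : Cm 0x140 := cm_of fun _ hk =>
  (Subgroup.mem_centralizer_iff.1 hk _ (Or.inr (Or.inr (Or.inr (Or.inr rfl))))).symm

/-- The codes of `Ω` modulo the line. -/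
def sp : List ℕ := [0xea, 0x9, 0xe3, 0x140, 0x1aa, 0x149, 0x1a3]

theorem cm_sp {y : ℕ} (h : y ∈ sp) : Cm y := by
  simp only [sp, List.mem_cons, List.not_mem_nil, or_false] at h
  rcases h with rfl | rfl | rfl | rfl | rfl | rfl | rfl
  · exact cm_1
  · exact cm_2
  · exact cm_1.xor' cm_2 (by decide)
  · exact cm_3
  · exact cm_1.xor' cm_3 (by decide)
  · exact cm_2.xor' cm_3 (by decide)
  · exact (cm_1.xor cm_2).xor' cm_3 (by decide)

theorem conj_comm {g k : G} (hk : k ∈ KO) {c y : ℕ} (h : Ac g c y) (hy : y ∈ sp) :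
    q c * (g⁻¹ * k * g⁻¹⁻¹) = g⁻¹ * k * g⁻¹⁻¹ * q c := by
  have key : ∀ y', Cj g.1 c y' → Cm y' → q c * (g⁻¹ * k * g⁻¹⁻¹) = g⁻¹ * k * g⁻¹⁻¹ * q c := by
    intro y' h1 h2
    obtain ⟨w, h3, h4⟩ := cj_ex h1
    have h5 := h2 k hk w h3
    calc q c * (g⁻¹ * k * g⁻¹⁻¹) = g⁻¹ * (g * q c) * g⁻¹ * k * g := by group
      _ = g⁻¹ * (r w * k) * g := by rw [h4]; group
      _ = g⁻¹ * k * (r w * g) := by rw [← h5]; group
      _ = g⁻¹ * k * g⁻¹⁻¹ * q c := by rw [← h4]; group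
  rcases h with h | h
  · exact key _ h (cm_sp hy)
  · exact key _ h ((cm_sp hy).xor cm_p)

theorem norm_KO {g : G} (hg : g ∈ N0) {σ : Equiv.Perm GolayPt} (h : Pm g σ) (h1 : kk σ (some 1) (some 2) ∈ sp)
    (h2 : kk σ (some 13) (some 16) ∈ sp) (h3 : kk σ (some 19) (some 21) ∈ sp) :
    g ∈ Subgroup.normalizer (KO : Set G) := by
  rw [← inv_mem_iff]
  apply Subgroup.mem_normalizer_fintype
  intro k hk
  have hN : g⁻¹ * k * g⁻¹⁻¹ ∈ N0 :=
    mul_mem (mul_mem (inv_mem hg) (KP_le_N0 (KS_le_KP (KO_le_KS hk)))) (inv_mem (inv_mem hg))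
  apply Subgroup.mem_centralizer_iff.2
  rintro t (rfl | rfl | rfl | rfl | rfl)
  · exact (N0_zz hN).symm
  · exact (N0_pp hN).symm
  · exact conj_comm hk (kk1 ▸ link2 (N0_le_NN hg) h _ _) h1
  · exact conj_comm hk (kk2 ▸ link2 (N0_le_NN hg) h _ _) h2
  · exact conj_comm hk (kk3 ▸ link2 (N0_le_NN hg) h _ _) h3

theorem R0_norm_KO {g : G} (hg : g ∈ N0) (h : g ∈ R0) : g ∈ Subgroup.normalizer (KO : Set G) :=
  norm_KO hg (pm_of_R0 h) (by rw [kk1]; decide) (by rw [kk2]; decide) (by rw [kk3]; decide)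

/-! ### Lifts to `KP` and `KS` -/

theorem mem_KP {g : G} (hg : g ∈ N0) (h : g * q 0xea = q 0xea * g) : g ∈ KP := by
  apply Subgroup.mem_centralizer_iff.2
  rintro t (rfl | rfl | rfl)
  · exact (N0_zz hg).symm
  · exact (N0_pp hg).symm
  · exact h.symm

theorem KP_1 {g : G} (hg : g ∈ KP) : g * q 0xea = q 0xea * g :=
  (Subgroup.mem_centralizer_iff.1 hg _ (Or.inr (Or.inr rfl))).symm

theorem mem_KS {g : G} (hg : g ∈ KP) (h : g * q 0x9 = q 0x9 * g) : g ∈ KS := by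
  apply Subgroup.mem_centralizer_iff.2
  rintro t (rfl | rfl | rfl | rfl)
  · exact (N0_zz (KP_le_N0 hg)).symm
  · exact (N0_pp (KP_le_N0 hg)).symm
  · exact (KP_1 hg).symm
  · exact h.symm

theorem KS_2 {g : G} (hg : g ∈ KS) : g * q 0x9 = q 0x9 * g :=
  (Subgroup.mem_centralizer_iff.1 hg _ (Or.inr (Or.inr (Or.inr rfl)))).symm

theorem q_N0 {c : ℕ} (h : fm c 0x400 = false) : q c ∈ N0 :=
  mem_N0 (BGrp.z_comm (r_mem _)) (by rw [BGrp.gE_Z10]; exact SMod.comm_codes h)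

theorem adjust {t : G} {c d : ℕ} (h : Cj t.1 c c) (hd : fm d c = true) :
    t * q c = q c * t ∨ q d * t * q c = q c * (q d * t) := by
  rcases BGrp.of_Cj h (p := dec 11 c) rfl (w := dec 11 c) rfl with h1 | h1
  · exact Or.inl h1
  · right
    have h2 : q d * q c = gE .z * q c * q d := SMod.anti_codes hd
    have h3 : t * q c = q c * gE .z * t := h1
    have h4 : q d * gE .z = gE .z * q d := BGrp.z_comm (r_mem _)
    have h5 : q c * gE .z = gE .z * q c := BGrp.z_comm (r_mem _)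
    calc q d * t * q c = (q d * q c) * gE .z * t := by rw [mul_assoc, h3]; group
      _ = gE .z * q c * (q d * gE .z) * t := by rw [h2]; group
      _ = (gE .z * gE .z) * q c * (q d * t) := by rw [h4, ← mul_assoc, mul_assoc _ (q c), h5]; group
      _ = q c * (q d * t) := by rw [BGrp.z_sq, one_mul]

theorem pm_q {t : G} {σ : Equiv.Perm GolayPt} (h : Pm t σ) (d : ℕ) : Pm (q d * t) σ := by
  have h1 := (pm_Q (g := q d) ⟨_, rfl⟩).mul h
  rwa [one_mul] at h1

theorem lift_P {σ : Equiv.Perm GolayPt} (hσ : σ ∈ DuadGen.duad) (h1 : kk σ (some 1) (some 2) = 0xea) :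
    ∃ t ∈ KP, Pm t σ ∧ ∀ a b, Cj t.1 (kk 1 a b) (kk σ a b) := by
  obtain ⟨t, h2, h3, h4⟩ := lift_T hσ
  have h5 : ∀ a b, Cj t.1 (kk 1 a b) (kk σ a b) := fun a b => cj_xor (h4 a) (h4 b)
  have h6 := h5 (some 1) (some 2)
  rw [kk1, h1] at h6
  rcases adjust h6 (d := 0x1000) (by decide +kernel) with h7 | h7
  · exact ⟨t, mem_KP h2 h7, h3, h5⟩
  · exact ⟨q 0x1000 * t, mem_KP (mul_mem (q_N0 (by decide +kernel)) h2) h7, pm_q h3 _,
      fun a b => cj_mul (h5 a b) (cj_Q ⟨_, rfl⟩ _)⟩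

theorem lift_S {σ : Equiv.Perm GolayPt} (hσ : σ ∈ DuadGen.duad) (h1 : kk σ (some 1) (some 2) = 0xea)
    (h2 : kk σ (some 13) (some 16) = 0x9) : ∃ t ∈ KS, Pm t σ := by
  obtain ⟨t, h3, h4, h5⟩ := lift_P hσ h1
  have h6 := h5 (some 13) (some 16)
  rw [kk2, h2] at h6
  rcases adjust h6 (d := 0x800) (by decide +kernel) with h7 | h7
  · exact ⟨t, mem_KS h3 h7, h4⟩
  · exact ⟨q 0x800 * t, mem_KS (mul_mem (mem_KP (q_N0 (by decide +kernel))
      (SMod.comm_codes (by decide +kernel))) h3) h7, pm_q h4 _⟩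

theorem kk_KP {g : G} (hg : g ∈ KP) {σ : Equiv.Perm GolayPt} (h : Pm g σ) : kk σ (some 1) (some 2) = 0xea := by
  rw [← kk1]
  apply kk_of_cj (N0_le_NN (KP_le_N0 hg)) h
  rw [kk1]
  exact cj_of_comm (N0_le_CC (KP_le_N0 hg)) (KP_1 hg)

end Cfsg.Agent.B5591.Geo
end

-- part: B5591/GenB
section
/-!
# S5591: the boxes `BoxGen0`, `BoxGenP`, `BoxKS`
-/

set_option autoImplicit false

namespace Cfsg.Agent.B5591.Geo

open Cfsg Cfsg.Agent.SporadicA Cfsg.Agent.SporadicA.M24Gens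
open Cfsg.Agent.BabyM.Conc Cfsg.Agent.BabyM Cfsg.Agent.H863 Cfsg.Agent.H863.BRep Cfsg.Agent.H863.BCode
open Cfsg.Agent.BabyM.NbAct (pPerm hPerm pPerm_tab hPerm_tab)
open Cfsg.Agent.BabyM.DuadGen (duad evalW)

/-! ### Words in the duad group -/

/-- The permutations of the elements of a subgroup. -/
def PH (H : Subgroup G) : Subgroup (Equiv.Perm GolayPt) where
  carrier := {σ | ∃ t ∈ H, Pm t σ}
  one_mem' := ⟨1, one_mem _, Pm.one⟩
  mul_mem' := by
    rintro a b ⟨s, h1, h2⟩ ⟨t, h3, h4⟩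
    exact ⟨s * t, mul_mem h1 h3, h2.mul h4⟩
  inv_mem' := by
    rintro a ⟨s, h1, h2⟩
    exact ⟨s⁻¹, inv_mem h1, h2.inv⟩

/-- `σ` has the table of the word `w`. -/
def Tb (σ : Equiv.Perm GolayPt) (w : List ℕ) : Prop := ∀ x, pidx (σ x) = evalW w (pidx x)

theorem exists_word {w : List ℕ} (hw : ∀ i ∈ w, i < 31) : ∃ σ ∈ duad, Tb σ w := by
  obtain ⟨σ, h1, h2, -⟩ := DuadGen.word_spec pPerm_tab hPerm_tab [] w
    fun i hi => ⟨hw i hi, fun _ hb => absurd hb List.not_mem_nil⟩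
  exact ⟨σ, DuadGen.closure_le pPerm_tab hPerm_tab h1, h2⟩

theorem pieces {P : Subgroup (Equiv.Perm GolayPt)} {L : List (List ℕ)} (h : ∀ w ∈ L, ∃ σ ∈ P, Tb σ w) :
    ∃ σ ∈ P, Tb σ L.flatten := by
  induction L with
  | nil => exact ⟨1, one_mem _, fun _ => rfl⟩
  | cons w L ih =>
    obtain ⟨σ, h1, h2⟩ := h w List.mem_cons_self
    obtain ⟨τ, h3, h4⟩ := ih fun v hv => h v (List.mem_cons_of_mem _ hv)
    refine ⟨σ * τ, mul_mem h1 h3, fun x => ?_⟩
    rw [Equiv.Perm.mul_apply, h2, h4, List.flatten_cons]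
    unfold evalW
    rw [List.foldr_append]

/-- The code of the image of a duad under a word. -/
def kw (w : List ℕ) (a b : ℕ) : ℕ := kap (evalW w a) ^^^ kap (evalW w b)

theorem Tb.kk_eq {σ : Equiv.Perm GolayPt} {w : List ℕ} (h : Tb σ w) (a b : GolayPt) :
    kk σ a b = kw w (pidx a) (pidx b) := by
  unfold kk kw
  rw [h a, h b]

theorem Tb.k1 {σ : Equiv.Perm GolayPt} {w : List ℕ} (h : Tb σ w) : kk σ (some 1) (some 2) = kw w 1 2 :=
  h.kk_eq _ _

theorem Tb.k2 {σ : Equiv.Perm GolayPt} {w : List ℕ} (h : Tb σ w) : kk σ (some 13) (some 16) = kw w 13 16 :=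
  h.kk_eq _ _

theorem Tb.k3 {σ : Equiv.Perm GolayPt} {w : List ℕ} (h : Tb σ w) : kk σ (some 19) (some 21) = kw w 19 21 :=
  h.kk_eq _ _

/-! ### Generation of `N0` -/

/-- The test for a piece. -/
abbrev Ok0 (w : List ℕ) : Prop := (∀ i ∈ w, i < 31) ∧
  ((kw w 1 2 ∈ sp ∧ kw w 13 16 ∈ sp ∧ kw w 19 21 ∈ sp) ∨ (kw w 1 2 = 0xea ∧ kw w 13 16 = 0x9))

/-- The generated subgroup. -/
noncomputable def H0 : Subgroup G :=
  Subgroup.closure (((N0 ⊓ Subgroup.normalizer (KO : Set G) : Subgroup G) : Set G) ∪ KS)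

theorem H0_le : H0 ≤ N0 := by
  unfold H0
  rw [Subgroup.closure_le]
  rintro g (hg | hg)
  · exact hg.1
  · exact KP_le_N0 (KS_le_KP hg)

theorem piece0 {w : List ℕ} (h : Ok0 w) : ∃ σ ∈ PH H0, Tb σ w := by
  obtain ⟨σ, h1, h2⟩ := exists_word h.1
  refine ⟨σ, ?_, h2⟩
  rcases h.2 with ⟨h3, h4, h5⟩ | ⟨h3, h4⟩
  · obtain ⟨t, h6, h7, -⟩ := lift_T h1
    exact ⟨t, Subgroup.subset_closure (Or.inl ⟨h6, norm_KO h6 h7 (by rw [h2.k1]; exact h3)
      (by rw [h2.k2]; exact h4) (by rw [h2.k3]; exact h5)⟩), h7⟩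
  · obtain ⟨t, h6, h7⟩ := lift_S h1 (h2.k1.trans h3) (h2.k2.trans h4)
    exact ⟨t, Subgroup.subset_closure (Or.inr h6), h7⟩

/-- The pieces of `p`. -/
def Lp : List (List ℕ) := [[9, 28, 24, 3], [21, 24], [4, 20, 3], [21, 24], [24], [21, 24], [7, 15, 17, 19, 0]]

/-- The pieces of `h`. -/
def Lh : List (List ℕ) := [[16, 10, 9, 21], [10, 20, 12], [21, 24], [4, 20, 3], [21, 24], [24], [21, 24], [11, 1, 17, 0]]

private noncomputable def _root_.Cfsg.Agent.LsF.fd79e85_18 : {f // @Cfsg.Agent.B5591.Geo.kap = f} := ⟨_, by first | (delta Cfsg.Agent.B5591.Geo.kap; rewrite [Cfsg.Agent.LsF.getD_eq]; exact rfl) | exact rfl⟩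
private noncomputable def _root_.Cfsg.Agent.LsF.fd79e85_19 : {f // @Cfsg.Agent.BabyM.DuadGen.evalW = f} := ⟨_, by first | (delta Cfsg.Agent.BabyM.DuadGen.evalW; rewrite [Cfsg.Agent.LsF.foldr_eq, Cfsg.Agent.LsF.getD_eq]; exact rfl) | exact rfl⟩
private noncomputable def _root_.Cfsg.Agent.LsF.fd79e85_20 : {f // @Cfsg.Agent.B5591.Geo.kw = f} := ⟨_, by first | (delta Cfsg.Agent.B5591.Geo.kw; rewrite [Cfsg.Agent.LsF.fd79e85_18.2, Cfsg.Agent.LsF.fd79e85_19.2, Cfsg.Agent.LsF.nxor_pat]; exact rfl) | exact rfl⟩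
theorem Lp_ok : (∀ w ∈ Lp, Ok0 w) ∧ ∀ j < 24, evalW Lp.flatten j = DuadGen.tabP.getD j 0 := by (refine of_decide_eq_true ?_; (try (delta Cfsg.Agent.B5591.Geo.Ok0; rewrite [Cfsg.Agent.LsF.dMemE_pat, Cfsg.Agent.LsF.fd79e85_20.2, Cfsg.Agent.LsF.fd79e85_19.2, Cfsg.Agent.LsF.instDecEq_eq, Cfsg.Agent.LsF.decLt_eq, Cfsg.Agent.LsF.flatten_eq, Cfsg.Agent.LsF.getD_eq, Cfsg.Agent.LsF.dAnd_eq, Cfsg.Agent.LsF.dOr_eq, Cfsg.Agent.LsF.dBAll_eq, Cfsg.Agent.LsF.dBallLT_eq, Cfsg.Agent.LsF.decide_eq])); decide +kernel)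

theorem Lh_ok : (∀ w ∈ Lh, Ok0 w) ∧ ∀ j < 24, evalW Lh.flatten j = DuadGen.tabH.getD j 0 := by (refine of_decide_eq_true ?_; (try (delta Cfsg.Agent.B5591.Geo.Ok0; rewrite [Cfsg.Agent.LsF.dMemE_pat, Cfsg.Agent.LsF.fd79e85_20.2, Cfsg.Agent.LsF.fd79e85_19.2, Cfsg.Agent.LsF.instDecEq_eq, Cfsg.Agent.LsF.decLt_eq, Cfsg.Agent.LsF.flatten_eq, Cfsg.Agent.LsF.getD_eq, Cfsg.Agent.LsF.dAnd_eq, Cfsg.Agent.LsF.dOr_eq, Cfsg.Agent.LsF.dBAll_eq, Cfsg.Agent.LsF.dBallLT_eq, Cfsg.Agent.LsF.decide_eq])); decide +kernel)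

theorem duad_le : duad ≤ PH H0 := by
  rw [← DuadGen.closure_eq pPerm_tab hPerm_tab, Subgroup.closure_le]
  rintro g (rfl | rfl)
  · obtain ⟨σ, h1, h2⟩ := pieces fun w hw => piece0 (Lp_ok.1 w hw)
    have e : σ = pPerm := Equiv.ext fun x => pidx_injective (by rw [h2 x, pPerm_tab, Lp_ok.2 _ (pidx_lt x)])
    exact e ▸ h1
  · obtain ⟨σ, h1, h2⟩ := pieces fun w hw => piece0 (Lh_ok.1 w hw)
    have e : σ = hPerm := Equiv.ext fun x => pidx_injective (by rw [h2 x, hPerm_tab, Lh_ok.2 _ (pidx_lt x)])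
    exact e ▸ h1

theorem boxGen0 : BoxGen0 := by
  intro g hg
  obtain ⟨σ, h1, h2⟩ := exists_pm (N0_le_NN hg)
  obtain ⟨t, h3, h4⟩ := duad_le h1
  have h5 : g * t⁻¹ ∈ N0 := mul_mem hg (inv_mem (H0_le h3))
  have h6 : g * t⁻¹ ∈ H0 := Subgroup.subset_closure (Or.inl ⟨h5, R0_norm_KO h5
    (R0_of_pm2 (N0_le_NN hg) (N0_le_NN (H0_le h3)) h2 h4)⟩)
  have h7 := mul_mem h6 h3
  rwa [inv_mul_cancel_right] at h7

/-! ### Generation of `KP` -/

/-- The test for a piece. -/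
abbrev OkP (w : List ℕ) : Prop := (∀ i ∈ w, i < 31) ∧ kw w 1 2 = 0xea ∧
  ((kw w 13 16 ∈ sp ∧ kw w 19 21 ∈ sp) ∨ kw w 13 16 = 0x9)

/-- The generated subgroup. -/
noncomputable def HP : Subgroup G :=
  Subgroup.closure (((KP ⊓ Subgroup.normalizer (KO : Set G) : Subgroup G) : Set G) ∪ KS)

theorem HP_le : HP ≤ KP := by
  unfold HP
  rw [Subgroup.closure_le]
  rintro g (hg | hg)
  · exact hg.1
  · exact KS_le_KP hg

theorem pieceP {w : List ℕ} (h : OkP w) : ∃ σ ∈ PH HP, Tb σ w := by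
  obtain ⟨σ, h1, h2⟩ := exists_word h.1
  refine ⟨σ, ?_, h2⟩
  have h3 := h2.k1.trans h.2.1
  rcases h.2.2 with ⟨h4, h5⟩ | h4
  · obtain ⟨t, h6, h7, -⟩ := lift_P h1 h3
    exact ⟨t, Subgroup.subset_closure (Or.inl ⟨h6, norm_KO (KP_le_N0 h6) h7 (by rw [h3]; decide)
      (by rw [h2.k2]; exact h4) (by rw [h2.k3]; exact h5)⟩), h7⟩
  · obtain ⟨t, h6, h7⟩ := lift_S h1 h3 (h2.k2.trans h4)
    exact ⟨t, Subgroup.subset_closure (Or.inr h6), h7⟩

/-- A transversal for the thirty duads. -/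
def LP : List (List (List ℕ)) :=
  [[],
   [[24]],
   [[26]],
   [[18, 12]],
   [[28, 12]],
   [[22, 14]],
   [[24], [21, 24]],
   [[24], [22, 29]],
   [[24], [12, 20, 14]],
   [[24], [21, 30, 25]],
   [[24], [21, 24], [24]],
   [[24], [21, 24], [18, 12]],
   [[24], [21, 24], [28, 12]],
   [[24], [21, 24], [30, 12]],
   [[24], [21, 24], [22, 14]],
   [[24], [21, 24], [20, 19]],
   [[24], [21, 24], [14, 20]],
   [[24], [21, 24], [0, 19, 6]],
   [[24], [21, 24], [24], [21, 24]],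
   [[24], [21, 24], [24], [12, 20, 14]],
   [[24], [21, 24], [24], [25, 20, 14]],
   [[24], [21, 24], [24], [18, 23, 18]],
   [[24], [21, 24], [24], [12, 18, 5, 2]],
   [[24], [21, 24], [24], [25, 18, 5, 2]],
   [[24], [21, 24], [24], [12, 1, 6, 4]],
   [[24], [21, 24], [24], [25, 1, 6, 4]],
   [[24], [21, 24], [24], [21, 24], [18, 12]],
   [[24], [21, 24], [24], [21, 24], [18, 27]],
   [[24], [21, 24], [24], [21, 24], [2, 15, 5]],
   [[24], [21, 24], [24], [21, 24], [8, 14, 17]]]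

/-- The set of the codes of duads. -/
def DD : ℕ := 0x61020484d8414021079811024100284804241d42401086024100842b22860018009188e14207118061040288042180114200248024890014d842401240101976008b22104122840089e2408810840210124284018808e094208108120410917016024088204108190080241e881811728b2402140210917042181178117177f

theorem LP_ok : ∀ L ∈ LP, ∀ w ∈ L, OkP w := by (refine of_decide_eq_true ?_; (try (delta Cfsg.Agent.B5591.Geo.OkP; rewrite [Cfsg.Agent.LsF.dMemE_pat, Cfsg.Agent.LsF.fd79e85_20.2, Cfsg.Agent.LsF.instDecEq_eq, Cfsg.Agent.LsF.decLt_eq, Cfsg.Agent.LsF.dAnd_eq, Cfsg.Agent.LsF.dOr_eq, Cfsg.Agent.LsF.dBAll_eq, Cfsg.Agent.LsF.decide_eq])); decide +kernel)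

theorem DD_ok : ∀ a < 24, ∀ b < 24, DD.testBit (kap a ^^^ kap b) = true := by decide +kernel

set_option synthInstance.maxSize 1024 in
theorem LP_cover : ∀ u < 24, ∀ v < 24, DD.testBit (0xea ^^^ (kap u ^^^ kap v)) = true → u ≠ v →
    u ∉ [0, 23, 1, 2] → v ∉ [0, 23, 1, 2] → ∃ L ∈ LP, kw L.flatten u v = 0x9 := by (refine of_decide_eq_true ?_; (try (rewrite [Cfsg.Agent.LsF.dMemE_pat, Cfsg.Agent.LsF.fd79e85_18.2, Cfsg.Agent.LsF.fd79e85_20.2, Cfsg.Agent.LsF.nxor_pat, Cfsg.Agent.LsF.instDecEq_eq, Cfsg.Agent.LsF.testBit_eq, Cfsg.Agent.LsF.flatten_eq, Cfsg.Agent.LsF.dNot_eq, Cfsg.Agent.LsF.dBoolEq_eq, Cfsg.Agent.LsF.dBEx_eq, Cfsg.Agent.LsF.dBallLT_eq, Cfsg.Agent.LsF.dAllP_eq, Cfsg.Agent.LsF.decide_eq])); decide +kernel)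

theorem duad_1 : ∀ a < 24, ∀ b < 24, kap a ^^^ kap b = 0xea → (a = 1 ∧ b = 2) ∨ (a = 2 ∧ b = 1) := by
  decide +kernel

theorem duad_2 : ∀ a < 24, ∀ b < 24, kap a ^^^ kap b = 0x9 → (a = 13 ∧ b = 16) ∨ (a = 16 ∧ b = 13) := by
  decide +kernel

theorem duad_4 : ∀ a < 24, ∀ b < 24, kap a ^^^ kap b = 0xe3 → (a = 4 ∧ b = 22) ∨ (a = 22 ∧ b = 4) := by
  decide +kernel

theorem swap_of {σ : Equiv.Perm GolayPt} {a b : GolayPt}
    (h : (pidx (σ a) = pidx a ∧ pidx (σ b) = pidx b) ∨ (pidx (σ a) = pidx b ∧ pidx (σ b) = pidx a)) :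
    (σ a = a ∧ σ b = b) ∨ (σ a = b ∧ σ b = a) :=
  h.imp (fun h => ⟨pidx_injective h.1, pidx_injective h.2⟩) fun h => ⟨pidx_injective h.1, pidx_injective h.2⟩

theorem ne_of_swap {σ : Equiv.Perm GolayPt} {a b x : GolayPt} (h : (σ a = a ∧ σ b = b) ∨ (σ a = b ∧ σ b = a))
    (ha : x ≠ a) (hb : x ≠ b) : σ x ≠ a ∧ σ x ≠ b := by
  rcases h with ⟨h1, h2⟩ | ⟨h1, h2⟩
  · exact ⟨fun h => ha (σ.injective (h.trans h1.symm)), fun h => hb (σ.injective (h.trans h2.symm))⟩
  · exact ⟨fun h => hb (σ.injective (h.trans h2.symm)), fun h => ha (σ.injective (h.trans h1.symm))⟩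

theorem avoid {σ : Equiv.Perm GolayPt} (hσ : σ ∈ duad) (h1 : kk σ (some 1) (some 2) = 0xea) {x : GolayPt}
    (hx : x ≠ none ∧ x ≠ some 0 ∧ x ≠ some 1 ∧ x ≠ some 2) : pidx (σ x) ∉ [0, 23, 1, 2] := by
  have h2 := ne_of_swap hσ.2 hx.1 hx.2.1
  have h3 := ne_of_swap (swap_of (a := some 1) (b := some 2) (duad_1 _ (pidx_lt _) _ (pidx_lt _) h1))
    hx.2.2.1 hx.2.2.2
  have key : ∀ y : GolayPt, y ≠ none → y ≠ some 0 → y ≠ some 1 → y ≠ some 2 → pidx y ∉ [0, 23, 1, 2] := by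
    decide +kernel
  exact key _ h2.1 h2.2 h3.1 h3.2

theorem boxGenP : BoxGenP := by
  intro g hg
  have hN := N0_le_NN (KP_le_N0 hg)
  obtain ⟨σ, h1, h2⟩ := exists_pm hN
  have h3 := kk_KP hg h2
  have h4 : 0xea ^^^ kk σ (some 13) (some 16) = kk σ (some 4) (some 22) := by
    have h5 := (link2 hN h2 (some 1) (some 2)).xor (link2 hN h2 (some 13) (some 16))
    have h6 := link2 hN h2 (some 4) (some 22)
    have e : (0xea ^^^ 0x9 : ℕ) = 0xe3 := by decide
    rw [kk1, kk2, e, h3] at h5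
    rw [kk4] at h6
    exact h5.uniq h6 (Nat.xor_lt_two_pow (by norm_num) (kk_lt _ _ _)) (kk_lt _ _ _)
  obtain ⟨L, hL, h5⟩ := LP_cover _ (pidx_lt (σ (some 13))) _ (pidx_lt (σ (some 16)))
    (by
      have h6 := DD_ok _ (pidx_lt (σ (some 4))) _ (pidx_lt (σ (some 22)))
      unfold kk at h4
      rw [h4]
      exact h6)
    (fun h => absurd (σ.injective (pidx_injective h)) (by decide))
    (avoid h1 h3 (by decide)) (avoid h1 h3 (by decide))
  obtain ⟨τ, ⟨t, h6, h7⟩, h8⟩ := pieces fun w hw => pieceP (LP_ok L hL w hw)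
  have h9 : t * g ∈ KP := mul_mem (HP_le h6) hg
  have h10 := h7.mul h2
  have h11 : kk (τ * σ) (some 13) (some 16) = 0x9 := (h8.kk_eq (σ (some 13)) (σ (some 16))).trans h5
  obtain ⟨s, h12, h13⟩ := lift_S (h10.duad (N0_le_NN (KP_le_N0 h9))) (kk_KP h9 h10) h11
  have h14 : t * g * s⁻¹ ∈ KP := mul_mem h9 (inv_mem (KS_le_KP h12))
  have h15 : t * g * s⁻¹ ∈ HP := Subgroup.subset_closure (Or.inl ⟨h14, R0_norm_KO (KP_le_N0 h14)
    (R0_of_pm2 (N0_le_NN (KP_le_N0 h9)) (N0_le_NN (KP_le_N0 (KS_le_KP h12))) h10 h13)⟩)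
  have h16 : s ∈ HP := Subgroup.subset_closure (Or.inr h12)
  have h17 := mul_mem (inv_mem h6) (mul_mem h15 h16)
  rwa [inv_mul_cancel_right, inv_mul_cancel_left] at h17

/-! ### The order of `KS` -/

theorem fix_of_swap {σ : Equiv.Perm GolayPt} (h3 : σ ^ 3 = 1) {a b : GolayPt}
    (h : (σ a = a ∧ σ b = b) ∨ (σ a = b ∧ σ b = a)) : σ a = a ∧ σ b = b := by
  rcases h with h | ⟨h1, h2⟩
  · exact h
  · have h4 : σ (σ (σ a)) = a := by
      have h5 := congrArg (fun τ : Equiv.Perm GolayPt => τ a) h3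
      simpa only [pow_succ, pow_zero, one_mul, Equiv.Perm.mul_apply, Equiv.Perm.one_apply] using h5
    rw [h1, h2, h1] at h4
    subst h4
    exact ⟨h1, h1⟩

/-- An element of order dividing three fixing the base octad pointwise is trivial. -/
theorem eq_one_of_octad {σ : Equiv.Perm GolayPt} (hσ : σ ∈ duad) (h3 : σ ^ 3 = 1)
    (h : ∀ x, pidx x ∈ [0, 23, 1, 2, 3, 5, 14, 17] → σ x = x) : σ = 1 := by
  have hex : ∃ o, pidx o ∉ [0, 23, 1, 2, 3, 5, 14, 17] ∧ σ o = o := by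
    by_contra hn
    have : Fact (Nat.Prime 3) := ⟨Nat.prime_three⟩
    have h1 := Equiv.Perm.card_compl_support_modEq (p := 3) (n := 1) (σ := σ) (by rw [pow_one]; exact h3)
    have h2 : σ.supportᶜ = Finset.univ.filter fun x => pidx x ∈ [0, 23, 1, 2, 3, 5, 14, 17] := by
      ext x
      rw [Finset.mem_compl, Equiv.Perm.notMem_support, Finset.mem_filter_univ]
      refine ⟨fun hx => ?_, h x⟩
      by_contra h4
      exact hn ⟨x, h4, hx⟩
    rw [h2] at h1
    revert h1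
    decide +kernel
  obtain ⟨o, ho, h1⟩ := hex
  have hA : ∀ y : GolayPt, pidx y ∉ [0, 23, 1, 2, 3, 5, 14, 17] → pidx y ∈ DuadGen.allowed.getD 5 [] := by
    decide +kernel
  obtain ⟨u, hu, h2, h4⟩ := DuadGen.exists_level pPerm_tab hPerm_tab 5 (by norm_num) (some 4) o rfl (hA o ho)
  have hu' := DuadGen.closure_le pPerm_tab hPerm_tab hu
  have h0 : u (some 0) = some 0 := h2 _ (by decide)
  have hn : u none = none := by
    rcases hu'.2 with ⟨h5, -⟩ | ⟨-, h5⟩
    · exact h5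
    · rw [h0] at h5
      exact absurd h5 (by decide)
  have key : ∀ x, u x = x → σ x = x → (u⁻¹ * σ * u) x = x := by
    intro x h5 h6
    rw [Equiv.Perm.mul_apply, Equiv.Perm.mul_apply, h5, h6, Equiv.Perm.inv_eq_iff_eq, h5]
  have h5 : u⁻¹ * σ * u = 1 := by
    refine M24Upper.eq_one_of_fix (mul_mem (mul_mem (inv_mem hu'.1) hσ.1) hu'.1) (key _ hn (h _ (by decide)))
      (key _ h0 (h _ (by decide))) (key _ (h2 _ (by decide)) (h _ (by decide)))
      (key _ (h2 _ (by decide)) (h _ (by decide))) (key _ (h2 _ (by decide)) (h _ (by decide)))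
      (key _ (h2 _ (by decide)) (h _ (by decide))) ?_
    rw [Equiv.Perm.mul_apply, Equiv.Perm.mul_apply, h4, h1, Equiv.Perm.inv_eq_iff_eq, h4]
  calc σ = u * (u⁻¹ * σ * u) * u⁻¹ := by group
    _ = 1 := by rw [h5, mul_one, mul_inv_cancel]

theorem boxKS : BoxKS := by
  intro hd
  have : Fact (Nat.Prime 3) := ⟨Nat.prime_three⟩
  obtain ⟨⟨x, hx⟩, ho⟩ := exists_prime_orderOf_dvd_card' 3 hd
  have ho' : orderOf x = 3 := (Subgroup.orderOf_mk x hx).symm.trans ho
  have hx3 : x ^ 3 = 1 := ho' ▸ pow_orderOf_eq_one x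
  have hP := KS_le_KP hx
  have hN := N0_le_NN (KP_le_N0 hP)
  obtain ⟨σ, h1, h2⟩ := exists_pm hN
  have h3 : σ ^ 3 = 1 := by
    have h4 := (h2.mul h2).mul h2
    rw [← pow_three', ← pow_three', hx3] at h4
    exact h4.unique Pm.one
  have c1 := cj_of_comm (NN_le_CC hN) (KP_1 hP)
  have c2 := cj_of_comm (NN_le_CC hN) (KS_2 hx)
  have c4 := cj_xor c1 c2
  have e : (0xea ^^^ 0x9 : ℕ) = 0xe3 := by decide
  rw [e, ← kk4] at c4
  rw [← kk2] at c2
  have f0 := fix_of_swap h3 h1.2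
  have f1 := fix_of_swap h3 (swap_of (a := some 1) (b := some 2)
    (duad_1 _ (pidx_lt _) _ (pidx_lt _) (kk_KP hP h2)))
  have f2 := fix_of_swap h3 (swap_of (a := some 13) (b := some 16)
    (duad_2 _ (pidx_lt _) _ (pidx_lt _) ((kk_of_cj hN h2 c2).trans kk2)))
  have f4 := fix_of_swap h3 (swap_of (a := some 4) (b := some 22)
    (duad_4 _ (pidx_lt _) _ (pidx_lt _) ((kk_of_cj hN h2 c4).trans kk4)))
  have hf : ∀ y, pidx y ∈ [0, 23, 1, 2, 13, 16, 4, 22] → σ y = y := by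
    intro y hy
    have key : ∀ y : GolayPt, pidx y ∈ [0, 23, 1, 2, 13, 16, 4, 22] → y = none ∨ y = some 0 ∨ y = some 1 ∨
        y = some 2 ∨ y = some 13 ∨ y = some 16 ∨ y = some 4 ∨ y = some 22 := by decide +kernel
    rcases key y hy with rfl | rfl | rfl | rfl | rfl | rfl | rfl | rfl
    exacts [f0.1, f0.2, f1.1, f1.2, f2.1, f2.2, f4.1, f4.2]
  obtain ⟨m, hm, hm'⟩ := exists_word (w := [5]) (by decide)
  have hc : ∀ j < 24, j ∈ [0, 23, 1, 2, 3, 5, 14, 17] → evalW [5] j ∈ [0, 23, 1, 2, 13, 16, 4, 22] := by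
    decide +kernel
  have h5 : m⁻¹ * σ * m = 1 := by
    apply eq_one_of_octad (mul_mem (mul_mem (inv_mem hm) h1) hm)
    · have e2 : m⁻¹ * σ * m = m⁻¹ * σ * m⁻¹⁻¹ := by rw [inv_inv]
      rw [e2, conj_pow, h3, mul_one, mul_inv_cancel]
    · intro y hy
      rw [Equiv.Perm.mul_apply, Equiv.Perm.mul_apply, hf (m y) (by rw [hm' y]; exact hc _ (pidx_lt y) hy),
        Equiv.Perm.inv_eq_iff_eq]
  have h6 : σ = 1 := by
    calc σ = m * (m⁻¹ * σ * m) * m⁻¹ := by group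
      _ = 1 := by rw [h5, mul_one, mul_inv_cancel]
  have h7 := orderOf_dvd_of_pow_eq_one (R0_pow (R0_of_pm hN (h6 ▸ h2)))
  rw [ho'] at h7
  exact absurd h7 (by norm_num)

end Cfsg.Agent.B5591.Geo
end

private theorem dce_30279889cb72 : _root_.True := by
  try have : _root_.True := by simp only [_root_.Cfsg.Agent.B5591.Spider3.sW.eq_1]
  try have : _root_.True := by simp only [_root_.Cfsg.Agent.B5591.Spider3.c5.eq_1]
  try have : _root_.True := by simp only [_root_.Cfsg.Agent.B5591.Spider3.c3.eq_1]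
  try have : _root_.True := by simp only [_root_.Cfsg.Agent.B5591.Geo.sp.eq_1]
  try have : _root_.True := by simp only [_root_.Cfsg.Agent.B5591.Spider3.c1.eq_1]
  exact _root_.True.intro
end

-- part: B5591/Asm
section
set_option linter.all false
open scoped Cfsg.Agent.FastGrp

/-!
# S5591: all boxes except `BoxNeg`
-/

set_option autoImplicit false

namespace Cfsg.Agent.B5591.Geo

theorem uA_eq : uA = LocFill.uG := rfl

theorem vA_eq : vA = LocFill.vG := rfl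

theorem boxLG : BoxLG := LG.lg boxKS boxGen0 boxGenP

theorem locA : Nonempty (LocData uA vA) := by
  rw [uA_eq, vA_eq]
  exact LocFill.loc

end Cfsg.Agent.B5591.Geo
end

-- part: S5591
section
prune_inst 0x30004100002200000000000030002060080000000000000090000000084406000000000040302000000200804008000000000000000000002000820000010000040240000200000402000080f802400000000000000000000000000000000000000000000
set_option linter.all false
open scoped Cfsg.Agent.FastGrp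

-- part: B5591/NegData
section
/-!
# S5591: data for the negators (generated)
-/

set_option autoImplicit false

namespace Cfsg.Agent.B5591.NegData

open Cfsg.Agent.BabyM.Conc

/-- The 330 triples of codes, 30 bits for each. -/
def tT : ℕ := 0x9a575222a572c118dda31df132800694c3002a8c64c6e9d53327904204281043002aa540442c847102a3e4ccdf8117531e1d20874a2d160a27a4809b4e48819663410bf1042f07e0149cead90b30329149c559d4a002675410a9805201ee2a42cbc49c4105208298748813337e2d7b01fae9b41825353ca08dc420267a56c9d94d752434508818c0050086105c80a809800623764c0c4b0c004a56440f598d0123e967800994dda0d5082402f8b4971d20261428638240464049cbfae5b400e405ac848052025e044e44ba7d801f5101ec06b39660523e240429015c2220157097930bc00d272106e90127212636c4059995b2065353c3ac545e0be56480c08e08117a3b5ac824209b1ba083a812a2c600528b408488b5102222071812ae9201df1c26c288209e17b152045e4b0811df0e12c3a81d801f56d31c189e91d2761a500ea420bc1963b23c77a018e0462042cf5a8dcb0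1aae50c14cd09b10a3274405d14cc0861a528d2c5450086105000a805272427553ca08756b3650834824875c60bea5660429995b3aa6342cbfa0157033263a812874440c1021041fbb14307e4f4e4828756b20aae61460cd042027192787d25c50092f0500039e96626e08178308f97537e3e5e09d8a90121256638358697230259528d98e0b31d2a54585580830016a511011a590202715204778047b0194f08818420f500e665acdf93d4f2f3192407dd14f500d80180054048f1227a474a6811752222a4e4a681dcb0d6ba68c77841cb0889d110219d57825e402cc0c8b51038f0027421820841baeb49c14420410be665ac84809aa0631523c778409b0a20830012c4cd901a4f41081a590217a4f410bf8104800f8214005880c70622d480cc570970931523c2f841782cec871812805cb0194f27822bb1ec07e044e48894c30016e16a8119a50b3da9167c28b11ef0460827822d40880867541097bcde003253500a0a2db118269404cc8dda3025161043a9e9662823e5d490cd0b3142916387d880ed062594103a8113e23c8214024ae54000e026b41fa0102122b94745e81172302204e4ed9592026f4b2402f869783e20267c35820bc1128b40814b55020262d220449015c2ce01570ed93d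4f20ae241012a7d801825352890809980be0267c28820440c10210414b0d0207e5941097cac60046634040a5248f0bf3a2785e9653e276c36b41fc006e07e204cc0a9a54f209201dc0cc382804a0260005524c70923b4407b8ed663d63e4f8d2841d10888811021a59cb089b11800572c24045082f0039d54f27b643000c40484122564409e94d4002a020bc1f47441092da6c8064209b10a3764c42480c00330d2104890110222204040a8e09b1bab44cc55d148408b2125c504cc4102a0712c30b354f0621d56c9d8ed1d3e259500e3a8d1001aae18014ab90110a2a4cc9e840810a280110118414a26e2d480978208408bcc08414ad1ad1de1d274448810131e5378005a7d161f6e7600188055b3a90810424c344800f0020850a0193032207b012ecc500154028009e242105108240428113e3031529850841402a70e180115acd901a4f5c881804901f51d274658108f122a368c6ec54d90863b5988f8f93e2767a28006a315708b3438c09d14ed0611d20824811fd00e3b474824102804a07614484409e1f6634f88f8f93312e371dc0ca01021563b440f58755b3d92c2a465a018e122105c8818e0a911140024ea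

/-- The action of `p`. -/
def tP : ℕ := 0x1f506a152293469137e1130a2a025b475bcdc1944954a45b437889e832429cae80db5f2612d3f9f4f49f3c6aceddc1661cd274b59ccd48a920d4e08336104991f17544520533993de62d18ecbe5065504b9d92c8733c547c88c24c12774a8e4a6d91c86411f8f3ce391a8046ce0dd04c6630fd8b4558b13894421ec186c32170a73bacfc7983a2e0b047040e02ff7f251f8fb013e5f0f6563d5e84879291e06354bbdda0472ba820723a3a0284a732f196e4718e9c4e10e2c5bcd617b71b4556cb61aead6a275a6d2633419ccd662e994c864b1c6ec434b0980bf5eaed72b85b2d166b2581455eae422ad54594429d4ca5000cc4aa250a7d3c9c4da6932974a88d2691482391a8c452250e8642a0d04813f978fa7b3d1e0ee5b3b1d4e671379b8d86b351a0ce6632188c25f2e970b4582b958a8521f1409c4d2612c9247231108642200fc7a3c1d8e470361a8d06431180b8582b148a04c24110843e1e0e86c32180b85426120883c1c0d058281007030140601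

/-- The action of `h`. -/
def tH : ℕ := 0x29340a3cee753da1cce63489fcf2893ea351673388acbe1b0ca14ca83079b486031b7f3f1f2f881bd64af491bca5d208cc15db1c9639a3f1871c5a6ee17b449bce487b726b3485b69aed39834a3d0493b365acc7fcad932a7db1e53286244e4d24604897ad8652e63ab85b3a964e857c695d108bb8a28a652c45450e50c2984f084a71369f844192ebf4ab3a050048bbdfa8e7d23518f74536512f36821de2865da15dcec41bad04b459ba4feb073b94f67a482a8f07753b81be7338b75b66e6a278d8d66aa68fa686899d9e664999196ab313218cc52fb0d825d5f2f1745a5bad5025758959325456ab0a4a9541d8ea4d52131464b37a80929d351ac8c984b25086922123c8840458fd105c1ea107858401f8727c1c1e46c501a8d0e872380c4da30239a45c613298c56602f0a4b6591d898aa53121449e4e108c894480f1143a2c2086c7c280c8e830370b88866150f8bc5a12150444e2511838400d07870340a098582807058400a08060181201018000802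

/-- The negators. -/
def bs : ℕ → List (ℕ × List Ltr)
  | 0 => [(182, [.p, .h, .p, .p, .p, .p, .p, .p, .p, .p, .p, .p]), (157, [.p, .p, .p, .p, .p, .p, .p, .p, .h, .p, .p, .p])]
  | 1 => [(0, [.y1, .y4, .y5, .y6]), (1, [.y1, .y2, .y5, .y6, .y9]), (7, [.y1, .y4, .y5, .y6])]
  | 2 => [(0, [.X0, .X1, .X2, .X3, .X5, .X7]), (1, [.X1, .X2, .X3, .X5, .X6, .X8]), (7, [.X2, .X5, .X6])]
  | 3 => [(235, [.h, .p, .h, .p, .p, .p, .p, .p, .p, .p, .p, .p, .p, .h])]
  | 4 => [(0, [.X0, .X1, .X3, .X4, .X6, .X7, .X8, .Z1]), (1, [.X0, .X2, .X6, .X7, .Z1]), (4, [.X1, .X2, .X4, .X6, .X8, .X9, .Z1]), (5, [.X1, .X2, .X4, .X6, .X8, .Z0, .Z1])]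
  | 5 => [(0, [.X1, .X6, .X8, .Z0]), (1, [.X0, .X2, .X3, .X6, .X9]), (3, [.X1, .X2, .X3, .X4, .X5, .X6, .X8]), (43, [.Z1]), (310, [.X6, .X7])]
  | 6 => [(280, [.h, .X1, .X2, .X3, .X7, .Z0])]
  | 7 => [(0, [.y3, .Z2, .Z5]), (1, [.y4, .y6, .Z1, .Z5]), (4, [.y5, .Z1, .Z4]), (5, [.y2, .y3, .y4, .Z5])]
  | 8 => [(0, [.Z1]), (13, [.Z1]), (14, [.X0, .X2, .X3, .X8])]
  | 9 => [(146, [.p, .p, .p, .p, .p, .p, .p, .p, .p, .p, .h, .p, .Z2, .Z4]), (106, [.p, .p, .p, .p, .p, .p, .p, .p, .p, .p, .h, .p, .Z2, .Z4]), (41, [.p, .p, .p, .p, .p, .h, .p, .p, .p, .p, .p, .p, .y3, .y5, .y6, .y10, .X2, .X4, .X5, .X9, .Z2, .Z4, .Z6, .Z8, .Z9])]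
  | 10 => [(0, [.y1, .y4, .y6, .y10, .Z1, .Z6, .Z7]), (1, [.y1, .y2, .y4, .y5, .y6, .y8, .y9, .y10, .Z1, .Z2, .Z3, .Z4, .Z5]), (3, [.y1, .y4, .y6, .y7, .y8, .y10, .Z0, .Z1, .Z5, .Z6, .Z7, .Z8]), (18, [.y1, .y4, .y6, .y10, .Z1, .Z6, .Z7]), (222, [.y1, .y4, .y6, .y10, .Z1, .Z6, .Z7])]
  | 11 => [(0, [.Z1]), (13, [.Z1]), (14, [.Z1])]
  | 12 => [(295, [.p, .p, .p, .p, .p, .p, .h, .p, .p, .p, .p, .p, .Z1, .Z4, .Z6, .Z7]), (32, [.h, .p, .p, .p, .h, .p, .p, .p, .p, .p, .p, .p, .p, .h, .y9, .y10, .Z1, .Z2, .Z3, .Z6, .Z9])]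
  | 13 => [(0, [.X0, .X3, .X5, .X9, .Z2, .Z6, .Z7, .Z8]), (1, [.X0, .X1, .X3, .X4, .X5, .X7, .X8, .X9, .Z0, .Z1, .Z2, .Z3, .Z6, .Z7]), (3, [.X0, .X3, .X5, .X6, .X7, .X9]), (18, [.X0, .X3, .X5, .X9, .Z2, .Z6, .Z7, .Z8]), (222, [.X0, .X3, .X5, .X9, .Z2, .Z6, .Z7, .Z8])]
  | 14 => [(0, [.Z0, .Z1, .Z2, .Z3, .Z4, .Z7, .z]), (1, [.Z0, .Z1, .Z2, .Z3, .Z4, .Z7, .z]), (4, [.Z0, .Z1, .Z2, .Z3, .Z4, .Z7, .z]), (5, [.Z0, .Z1, .Z2, .Z3, .Z4, .Z7, .z])]
  | 15 => [(308, [.p, .p, .p, .p, .p, .p, .h, .p, .p, .p, .p, .p, .Z1, .Z4, .Z6, .Z7]), (215, [.p, .p, .p, .p, .p, .p, .p, .h, .p, .p, .p, .p, .Z3, .Z4, .Z5, .Z6, .Z7])]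
  | 16 => [(0, [.X0, .X1, .X3, .X9, .Z0, .Z1, .Z4, .Z7, .Z10]), (1, [.X0, .X1, .X3, .X9, .Z0, .Z1, .Z4, .Z7, .Z10]), (2, [.X0, .X2, .X3, .X4, .X7, .X8, .X9, .Z2, .Z3, .Z6, .Z10])]
  | 17 => [(0, [.y1, .y4, .y5, .y6, .X0, .X3, .X4, .X5, .Z3, .Z5, .Z9, .Z10, .z]), (1, [.y1, .y2, .y5, .y6, .y9, .X0, .X1, .X4, .X5, .X8, .Z3, .Z7, .Z10, .z]), (7, [.y1, .y4, .y5, .y6, .X0, .X3, .X4, .X5, .Z3, .Z5, .Z9, .Z10, .z])]
  | _ => [(131, [.p, .p, .h, .p, .p, .p, .p, .p, .p, .p, .p, .p, .X4, .X6, .X8, .X9, .Z0, .Z1, .Z5, .Z6, .z])]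

/-- The order of the search, 9 bits for each entry. -/
def od : ℕ → ℕ
  | 0 => 0xeb4941328b0a8ee5e32d266f129d4b59ac7a3b6958869e48014d152b05530291b3e36e26ecce392630840923d885022815750f932672d3d9f6131b2d682375c355caf321c681635194bc9abf090bdac4ca3309c7002cac4de040312a1a7354250ad2221175d0294d9f9305f389a882f162c75782d70094b0f031b2948c036b98749277b852104672f573282d9150a8a48bc97730923d01cf8044160efd9e8357cde1392258cb109e6227207ac9aeb40b24c7e7f381423eb798c2cece428ace714853b19890629bb66b361614a2a3153030388074910d8887b88dfc227e4043f1901b2517214b07a4f039daad02023c23c9689580521ea31c3b9a0749f10138a102d146682972ea2f293aa88d67a3415cc1349cb0e4ac80386caa9e89d1068644ba3534540c3e860af3d918787c3e865a828a13610e69664223d431ca7c571847439f30995365eaae270ee14242e3b1a6eb13431fe843120c12db6e081182e3305dbee70d0467e4f56aa8dd2b0011c0295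
  | 1 => 0x44bf15154a98cb598aedb6e68f0b47cc38da5e6efa494a1acc76e026721e51a082f42980ba3a2f258a57a8b6c374810753b4e24786248211417e10811292e19dd3492d93a353e5e488631f1ba0de6e366128c0eb4f344083a2ea3520d5091408b3a999d64a241a315931354d100aed4980e06a20a1ea1e6343881561f9e968860e773009a6965c4090f5a3a6c780b961a9fe1c0eaca6423680d64e747c414b12b7b054b26456034647e78c8466be1c33892464e1ac0d3b5fa688e253b11130ef653f436b97f45dd92d13be472b8440992c0f2b3c842b727c10ca53781ba8c8ca41a1544c392055e1844ad0503685b05671c70c8e6c0c0d23c328a8002a4c801ea14267008256032e572821cf73d984fe7973a955ade544e07e771dcd5c514923d0c51948b919eba2a9c52899832867e4158b69be026a150de9d8c23990e0978590c662bd15b230a18adaf0a161b0f89f75430e6a44245a786d61424445e5833604a67db48fb40293a2690d72ad8a311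
  | 2 => 0x19471202528914ac65a1d373e62bc84f392b4383a648399a6e350f3ed38800a22d22326341048fc992ba008613325baf97e8cd205f0ac6a4ccf2e8b89ac36e12d06fa1f00e60bf539b67929411162c5b82cba5431089a81c1393a5588d84ccb288174f1f9d3472c44c2115890158ece152a9c0bd054b4e12898bc0682d4b2ac42d242232211b698bdaa718cc18168f5c8ea3b1f79bb8d2484bb08f0e492d0c52743a8c034ba0f86606422e4ee430988ad26b0c39b29fcb875cccceec49cfc81012a92510e671bc4dc3742a340823069689c9231c88aef6768f1eebc313e0a6b7041b0454857b048e541da7cfe982f0d8de029b03191020e385d50f5b421a11e3d50a9246a08f56460282522e1ba3285cad15f1c850d7294e15aa830910594074294ee7634105e9140948e312f713d6753d032d5b2430b28c724f079adbee73c8fd66b1261f04a7b6d47268ff77b3540595daa656c01014614b06a205348e924368a096db31bc1844c2d4ca43eb58569d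
  | 3 => 0xbd2d4945e40a03e9080987bfa0ca372d1ca073714f83aea14308b8477c3e498466ed227ec598c583e91448d9d27e02a914b09a08c1a2422a1f50a9c3fb5cdc607795ca6a90f515b45f76cc26e7610319611296b64712c82c12869e8502094035a31da4ff788b5c64485ab817219d8f82d188d43482a24acf65cb52ebd954e191099d82590280e278603c09cc84b4a052cb113808a0a3abcd192b4cbca52a79c92e2b49a3229166f4c12524948a2e9506d1dc1e3c629e0c4c2641a1a610330e04284cf60819cc0e9932594a67e10c051f0a8e564bf809c1aae4332ed62b38c8346ed0338b11c633ba1d04792425d702b8e4e842f58bb3833102b0b9588d7da684ecc3e34d7c902f3589f1b2a850083f9194a886a28a6c6ad895091009340848f4726f96e70ab931a030c37ea3e4ee75e03d72599a220cad40b8ca001b062bdee83744d8751d1ecccb0079ac0d0c9f508a988cd924313adc5bcbe263c7a378d6016dad8d90e2684e220056c08e81a7708c227b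
  | 4 => 0x26f61abb45b27654d0d60b22bf97b186d9b8a9070d81d32b8948fa28c2793be1d199fa80688014a6d0ccc26d0a88983682a6f2127afc2ad580c912873073e09d3d541bd4e7d2580cc93b7991a4408331042125253c4f85b42522824950c10a25f98a251b3c86be5e01a9ac78652f972e62c5313a98c60d152958c88293e870ab17bf680e610ad0d428991563e1e210dd6471623908e574d2bd5424859e4791362b8246659c87d52488e81886924b470c0e23417880938d4f978e33fa0413469c4c123260cb39190695c48589c3d985610959c28eebb8420dff47644b19e112b4560aea079d9a745511d404dd313622e5c6d32c4450364403b364eab95ad43a4ea069e63b45488242ad9f72d4bd24888b61c3c2cc94abadb85a4fb6546701cc8162330b8f5f9286b241588ea1bde55117ab04405818addca8780341bc2b47860ba6766ccc18b50a08c98be1f964607e86408e4df6b87236ba1d3b876ec1b385cee83d1a4f08a12bd1a42674b005c12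
  | 5 => 0x13911028f8f25f154f132282dc86ce5c309a2308a4ee84397043cead03f3a8ee71941fcc0e959869da3c6e8548edf1c041b4e8920823621168782cff8fb1916f35dc75c892618c4b919a24aa12db2a0751b4669458ac7942b0013047c8a1303b9d0d9e2a878360db1e6e400b0594c84e5c2f66ad5c53394af0fa07a0131b265079edf8251d2f4a5454ba8490579f8082837408105ca7661acd89e81c6064ab75a6d0d079ab55ed1a23191652513cf510b66bb3d96c43b52220f8963e8851106ad2427231a44544a4101602e193924b7264820dc6fb9021e46d37ac15942c772ba9211379c127377f2a946675f89100d4733dca6c5471d162ef463b09d0d05820f44b7287032234d1a192339c198bb2256a7080c152cc22a17842e4243d6f281ac297ea912b1395c2914891f4187e5e1a45e7d2d85bd12d1c0c1ce1894a0ae98e4d4f916246e311065f3c06146860e30a7544c82d019584434a3c365f98cd1ce4f0fd1c6b0e57aa560a6421a84d02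
  | 6 => 0x12a6a1aa6ea90f948a9064bce85e9019249c8ad57218c10c763f9e8c26d90084f95d3cc06506e1d822ea6abbe29281e8227a39a2c8c68638b39cb44e9c9cdf85947930a27d15cb526a764499611c970b85a5b42135aec998c44ceb6541be66e134295f4fd66af5734221c347f3ea40488857a0438f6f220840343119c4cab3b11b0db46104bfe60b8488d9becc439c8740a7186e42e987b1e2e189002ccc822315a6c2850961567893c41bb414c22e3b0894be28e497893d46ca40c6cb9358d42e1462700316707770653f00079e8912b0397c3c7769c7982ed4b05658ac5dac43ae69930154c510494ea7f8fc65eade13238523b4e0041b01740906ec64d409ecb51f018f8646799532384a17838a0098090ab71aa0c8a8810a915f040a0111abf3f1c6689d511b9645d40448a74323a265e16138c1e0a635b6078d26b3ed9cf74508a7eb40bd262a9b160a81cd038511ca959c2f17c6d02894e92468b88f3036c9a5192275a79966c25cf21346621280105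
  | 7 => 0x773b202968ca7544822eda12cf656ff8ab2a246f55ca8ed0f3c306804c6c1f8b2c90c992286371239741562c9dde655dc350a90061b9a14808169b8507633842e5a13cd36e35a24c533235a4970c8974848a9606c0d52832b2fc6a9e77318aa2e211b10c874e398464e75b0c704707978948420c94754498cce36a605415e02d0344df8690da0a023e0e41c6d26800d1405b3336488b710024d51f38889641e01b7546fd7d14478e83a39cee270fb4672117ccb66b168f02d8ed60d4381c73a1cbc274750858288a4fa5cc42c01505974929331ea7d18c467c7c3aaa930df30a747a2427c927edb9e461da2a4a1e9f71903c21fc32564dd88681ba312230041fc3a807234d81381c935610957898be330c3aa746029ada46998e99e58e95ac10925c259523495441607ef40b9ee16d759b48e5288e2e5484821ca5aa46983dd7c57910a056e144ab8f28d4d4d1f0bd36bda0cf140d145f368617614d479335847045a89bd0256a3dc0cf5e44024b1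
  | 8 => 0x1b1fe08828446a24808c96c508601c6d1b3a95a227a4dbe4f31a7ab31c2d852c399d2d99be90aa21f008c6984e9c244e898b25a80f150c0626458cc0307745b2c8e411e3f4766837cdc02782ec8c386081ad5380636d154088a4afd9e764f9367e901face76978ea58e72e3e92c42f6352b0e33235ad15e6e632b9882919a51713e01ae8e92c0faf44ef1a315e909589459cc516fcad78c54c952161d4301600bb0b3be1f0a1629e731f0f0516f171304a6a10168bc40536b47268e569955a082a123deeb96128c46d1438695045782c91ae08c132704069204c4f2581109c370ab1d26092c4808cc111129bc4276c854d3d49391f67e823e1c6e266cd949476e0acbd2486ce906484637486eea18e033448cbd018136d8124c3a3e39cfe7242364be257499a78fc764a500eb0b96a0e8a8ac09347b0593d226784ab556c389ca97d2830a25fc286bd00a4ea8a0e492ca47421aaa12d9a468592e50554da88418362e8f279e6655482981271ec965ec8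
  | 9 => 0x31292ce33c90ed032c415f47303836223511269b1353f00d46bd54099ca3b433b430934dad1ed288c4f67c161190dd64d2e18952fe0f8c1fa546a33dc09010abd189e78946628459aba550f9593a08373d0813e6f07b72703d8fa658ccd7c132446518c8217404c34c2308664dc514174178be4b17245711a2db0902da52b8d6e6ca1471ae8d7b9e40a3415ad5a0df3e04c331919095e439851c12aefa44edd2594145e6863651912cc8248b16d4743c00207d5f0fc0cbb1b0f85456a293c189c70c18846638b2e60973d901ab15949067e46343aa42e2a3079566e61b6d06ac649ac1cb996200390797b91ff398b4b45ea64511408c07a025cd125537428de440e9128f50cf18b0289cb824539d3f1e6c15fbb9492713a14aa0a8e921790d68a2d1c473fc30947453b65a4573c0ccef1036c7a02946386cc1230d02174f02d055f252931d43b3273974a03c1c18416fb8db5a6d14349116525012b53a72a20061c2d58ccd44f50bbb048b00050e12a0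
  | 10 => 0x8f0394e032e3f2b4c4df64b556b042e990168a623d61aa42e1d2633e6388c2c4677bad78399042c311871b4a52f10e9c01e4e7dc6d25240426234c63f90cac384bc1894413b054d312604e0503484391009136cce0ebea2162286e7d5259d0a0e425a88e4da30b54125b4e3e2e5b8de8c197ed0964dc4acac806750a0c9e3f541a8846c292d1969009afc6a857ba206c7a82b08aeb915bb53cfc8e2bca22068328b33b10878ea87458c586e84d31436ea879f452308f2522ecc89c94e72f88141b33053c0c2328a407d74b82f2107d3a6791ca881a3914ca639b81218775549d606166b89fea608032693ca1bce008d51ca90c49933b05ad668a64e29c990a89111a01f0d025730ea3a2c6080876fe39224f6b30d4b5e8e11ecf4aaae1e4d646d802c3a2aee9136cc09f37aee33396d11104f9528c81cf2782b00ce935c082ee52d8bd90e0120cc28bd8b1e0cc4c112c56cd73ca5952262fd15264d51025ba277b4b01b217c4d956a0054fd3ae7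
  | 11 => 0xccef46933849ec52e0c46b0e46415e4bc0cd0d450d7740568d32b19e410c7f9ada4a340cae733141d21bad12f1b04f2f88861cd379c3d038fd8bd1d6c034d0b1b68b9916cc9421d1627e1d3519454011b1a0127b890e0889f093b08ca77432d560c8537d88f36730cf0885ed05524096cf90d16a4845644c572ed04608c4a88a6e030c150790abe886c209a1452ba5bae4e263500dd9ea5581c9d33c721cd1cea8a8b549357189a3c2f7d840371a3ab055e7a4d808a22b1dab5284da2139202499afc469568028d2c60a21d91245a83cc44849a5e008f7caf8100b2ed15985902369124a9388a0c8071080b4394f41e6cd66a9c1f82e9142cec8d961d250ac23a60791b2b868ab1302c742c320f07db1306e425626f6a2cca42873b79ae66a02a8967d4b0f652e58412638a69a40a28f0638f9323f2a14232f536bd9390f9d2e0687f30c41fc422fbb594cd490865c7e75c9542f777c8e073b03b8242d93e0942ef882229e31f20a7508c09e94d9291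
  | 12 => 0x918ea6ac07b4bcaee63e8f96cfea3c0c15084a01a00c641c392ceb5923dd86634430c62753cd04aa94c87c6f49654a4d73f61478aa21219819cfd243fe0ef7213e940af4d9012eab1e175eb4859d15423423c7026e17c9a558c44107a0cdd4907264e570345da6c530ca66ea5e495f920471b6423552c5d8e7a42845b423042fa602a6a994124e5a03e7d0ba21d0ecb057170f8ee6fd08a0953dc98c841388646072350a4f08403bd232b82d8c674e9894f0ea4c823cdc645291ce5c5a0d0bdb6c57dc68166f2ccddac5633b0592629650626cb46014bce719c2848891d984a8b7720fd5a1095858be380eb64dc9c4421d9b148ebc82a4a5f88914cc940e43702968122a4d8da196a4f543781b4391360eee86850102f188b5ce03d25b72728b86ae60abd1b2c522589b2e944f816c062cef07424fcaa519fd352a3c899a4494803230bb15d18253b29b0dc4980b851a6d44ece262cf520013e8001b20311017144508d78490593d8f8048c024f111270f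
  | 13 => 0xe53828a68e26b3428aad86ca62eeb7f9d59af69bceda487722be0ee0472f01f3d02b4dc63c9f1702141852359c7d45c612aea47891dcc88e4d4601e5191deef91f9207015a3c658a087887199005728101265abcdbedc6216c5223904692451a301e670f4c404626263886130b2abf46c1422900223b3315808133536882974f8293271990d562e95f509ab24779385a184d3ea2673632acda745bc6e291ea19190d1f0e9914c7f04b08693a5a37580ba53908d90340b0494bd94240eccf2bcfd3b2c448341c33874945ef56482c92ec2ecc522b2258e42d2a6548ca62233a0cde7c34950a4881429404840f8e87cdb2206a18e14b2a4d7083926d49049596114936c4b9d0d49e1f89e7832c762d4842c1486a1128a84f3088afde49e5cacdcf217c018f6611e97c406e7da522b2f61c88d04c414e224635daa220cb7a2c16d277e1e5fd029b510365a0c8de802c731793906303c1542b19098185917231b2b89cb45db2d3b85c9b493d141aeac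
  | 14 => 0xea9b2e3652a1648c34c6a490b5584e28c241b7162d28568082f29dc82c24a203a8665c5d8239951121f04423c81c607786a3d295cbd9f6ea0302990d02b884762826d028c3872af8e2472d901924a079524adc21488333e4f8ba20550f09960738cafc553c3484c16ed4cc8d94658ab1c86bb6b49e872d9a8561d089c00d44ab4e5260c8aa44f634d87347e24225908178803f8c4c8680836940095bc824c8c1242d12ae742bc4f1b7c15a26ff06c51fc3581af4a6a98eccdc0ac5b2099e9e9d1156a1f4a345027620b8da650621f6766a1b29586a3294ad9c3f7eaa1e23414965e6972face147b6a2a930183a4267f37a3b163934942490611240311c85978fa58fc311f0048b258c2614537895ea9336331ba6ea0939d8f746a747ad76f9e55a517ccba0acd35ce574a69219c6f1117999f44c3811a0ec60a0ccba610b9dd3472808c80eb80da583823993b90f421d4d9c30c15a3e883c738b49e6d3d3ae00583c2c5e90298b49e0e93f301bc12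
  | 15 => 0x7ca021d2e2a81c75197f22a4e9a07cc44cd3581ee148c2712d0c94049a00c6c242b034c04f238de62113c1860a16ac56c5a13c52673021a1c570247a75b83c7d25e12468826076d4578c27c5138ab5f10818ca152d12dc561b1370bcd9ae226ad5c0dd67ae9b48b410a9d4be5e0454ca883cfe354127960060d803ec9535991d4252fa38dc6c1d50341dc201a28cd53875b9d368d01090bc76764a8b87f20038ae325131a0ca57e50d9804108e47d217bc74d70553ca4a4b96da4a2cde4b45e30e6260b272730f31170bd9da7d9cca6aa909254591e16605741f4525f1c24c84b44a850e85d5bb48ccf2a4c6e385377c8cac23061a426fd17a16489964210893c9038ddb048f304c61544448830fa1511bee47a9de230b0818690ab281f02e2e0c8fe566d9d2fccee55db098e1c9b99436c505c30f4080fc95234050a05b072448f42c1837271b2d69b3246a6041ba65a909eb2c8f1f573c466791419245467b405fe5922d14e001554b20600931f9e825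
  | 16 => 0xc62fc83c8c7a45338ed9a59138c18d1c1316e501c8c209270f7ecf498f50ba593ec9152f047264c1fc405c5faca064e51b88ac545c93c724180039da1156920fa7e9f1b1c0b60d411bf0d2a926691d958f82b05671e83a6e54ba81e992c45c643f293acde13432f9e62f398628276843e1f4223042d4c1f8fc2906814db22541e650b10e255a25584eea3489ca0c230dd581025a9100dc9d3f8512d03ce186f6621ad6e0a5d3328e7c90a281a4d1a9a14a4478aa92e842515cead8a11a4873f288d9a737a0369452f6a4645c088b0a4cb200b36e481942a413c068d011964098b4812783a3d0d50c598e14e726f06dde9a5dd16932767b91d8f02f4951c5f74d21166355bfcc41421185ef0673b98e2893335d80a1478922433870ae032e4a4ce26e32d34277397411da28c543e55f2c02a34a13099175389da23762b028f2c4dab58dd0de4a048cd44314381ec68e11e366200b63b15253c9b04a22645eb056077441e5acfb948b612b8570e9aa53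
  | 17 => 0x14ceb3f15484a0580d8e1334743cb8c6423eb6d7e0304cc964c78dafa7496563e92ea1674b15ce568ca952cb684f40ae98f200b70433d1601133d154922453b48686b6a8e49cb948bf1db053c30a886e49855f20b7815c7a59620f24ccc19bda0232369c0e90f1bc19b86a3126e32ee0547544d950082522f6c25096cf7b97dea2196a11d717181345c48871991f1f083756e8ca12a934810f48a609545b4d8a5a894ad6ce30791504fb98970bb4955a0c107e99ca1cedf1dac4fe5270049c4147941c813e8427910fe6184d0abb5ac5682ec51a4178567c3a15ea5391bd3a793e0ac8ea686c6038c806bccc13c27c9d7a8a5d5186b375c1c41c86030c6163f261b0a8a8111044b3591a911cc09c87ccb037889e77167e8682cd625179bc764fad1b477848d830e17fcbce6f41f48086e60c8b592114e1a622d48535ca27b8a32a6d2414a4a341d1d50c8c2c30ce1674856bbd9aea86190462692a348889a02c205340bc418cc14c0a2380c72010d002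
  | _ => 0xba23900a3999042290174a94f49e5a9bce426093318e22244ce3ee3178d5113769a5e51293f446689257b76565b249ac50136a2d9d88f2bb4168533b3c09e7f0521a400d9c82128e8504d93a2b871a654b018905850a229102adc253a8fa660a3e9e6364ad013ebc66a8902ed5618e866c3e30c9a653bc41ad0f6d3ad67354dcf46ebe1f945bedb473e4c2201f1d5fc4c65878f66082265f72233d142c91671a242476f3140c6d8f1c05b0956b55ca3a1a01c8403398c8bd0b86139cd039e3b994a6590960d000daa1f9135c4bd082944a2a1a1c2c4ec58e743add206a0101060aa9d4201ec68c9ba0e237fcc5ecbd4e2a43a52964b9174979504553e70262609a46c70e88593c9878a725805b0212d4e1aec05dafe841aa418943052b3d68f252817dee33061e67eb9a303992c14985e24274133e0438923be5b1752460306404aace2ae70c8dfa197c07c5c5c693107a402c891b31d08c6cf0e27a45476a32ea5918806895190462aae9e31a8b2c48600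

end Cfsg.Agent.B5591.NegData
end

-- part: B5591/NegA
section
/-!
# S5591: the 330 conjugates of `Ω` through the line `ℓ`; transport of negators
-/

set_option autoImplicit false

namespace Cfsg.Agent.B5591.Neg

open Cfsg.Agent.Monster Cfsg.Agent.Monster.VecEngine Cfsg.Agent.Monster.VecSpace
open Cfsg.Agent.Monster.PauliBasic Cfsg.Agent.Monster.PauliBits
open Cfsg.Agent.BabyM.Conc Cfsg.Agent.BabyM Cfsg.Agent.BabyM.KQ Cfsg.Agent.BabyM.KRow Cfsg.Agent.BabyM.KTab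
open Cfsg.Agent.H863.BRep Cfsg.Agent.H863.BCode Cfsg.Agent.H863.BGrp Cfsg.Agent.H863.SMod
open Cfsg.Agent.B5591.Geo Cfsg.Agent.B5591.NegData
open Cfsg.Agent.Lib.PermNet (seq seq_eq seqB seqB_eq)

/-! ### Products of codes -/

theorem q_zero : q 0 = 1 := by rw [q, dec_zero, map_one]

theorem q_top : q 0x400000 = zz := by rw [q, KQ.dec_z]; exact gE_z.symm

theorem q_xor (x : ℕ) {c : ℕ} (h : (dec 11 c).a = 0) : q (x ^^^ c) = q x * q c := by
  rw [q, q, q, ← map_mul]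
  refine congrArg _ (Pauli.ext ?_ ?_ ?_)
  · rw [Pauli.mul_s, h, dotProduct_zero, add_zero]
    exact bit_xor _ _ _
  · funext i
    exact bit_xor _ _ _
  · funext i
    exact bit_xor _ _ _

theorem a_top : (dec 11 0x400000).a = 0 := by rw [KQ.dec_z]; rfl

theorem a_pure {c : ℕ} (h : c < 2 ^ 11) : (dec 11 c).a = 0 := by rw [dec_pure c h]

/-- Membership in the span of a list of codes. -/
noncomputable def inSp (l : List ℕ) : ℕ → Bool :=
  List.rec (motive := fun _ => ℕ → Bool) (fun y => Nat.beq y 0) (fun c _ ih y => or (ih y) (seqB (Nat.xor y c) ih)) l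

theorem inSp_sound {k : G} {l : List ℕ} (h : ∀ c ∈ l, (dec 11 c).a = 0 ∧ Commute k (q c)) {y : ℕ}
    (hy : inSp l y = true) : Commute k (q y) := by
  induction l generalizing y with
  | nil =>
    have h1 : y = 0 := Nat.eq_of_beq_eq_true hy
    rw [h1, q_zero]
    exact Commute.one_right k
  | cons c l ih =>
    have h1 : or (inSp l y) (seqB (Nat.xor y c) (inSp l)) = true := hy
    have h2 : ∀ c ∈ l, (dec 11 c).a = 0 ∧ Commute k (q c) := fun c hc => h c (List.mem_cons_of_mem _ hc)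
    rw [seqB_eq, Bool.or_eq_true] at h1
    rcases h1 with h1 | h1
    · exact ih h2 h1
    · have h3 := h c List.mem_cons_self
      have e : y = (y ^^^ c) ^^^ c := by rw [Nat.xor_assoc, Nat.xor_self, Nat.xor_zero]
      rw [e, q_xor _ h3.1]
      exact (ih h2 h1).mul_right h3.2

/-! ### The exact action of the letters on codes -/

/-- The code is the product of its generators. -/
noncomputable def okx (x : ℕ) : Bool := Nat.beq (wfold (fun k => 2 ^ k) x pos (Nat.land x 0x400000)) x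

/-- The image of a code under a letter. -/
noncomputable def ex (l : Ltr) (x : ℕ) : ℕ :=
  Bool.rec (wfold (im (Ic l)) x pos (Nat.land x 0x400000))
    (Bool.rec x (Nat.xor x 0x400000) (fm (cl l) x)) (isq l)

theorem land_top (x : ℕ) : Nat.land x 0x400000 = 0 ∨ Nat.land x 0x400000 = 0x400000 := by
  have h : x &&& 2 ^ 22 = (x.testBit 22).toNat * 2 ^ 22 := Nat.and_two_pow x 22
  show x &&& 2 ^ 22 = 0 ∨ x &&& 2 ^ 22 = 2 ^ 22
  rw [h]
  cases x.testBit 22
  · left; rfl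
  · right; rfl

theorem ex_sound {l : Ltr} (hl : or (isq l) (inW l) = true) {x : ℕ} (hx : okx x = true) :
    gE l * q x = q (ex l x) * gE l := by
  unfold ex
  cases h : isq l
  · rw [h, Bool.false_or] at hl
    obtain ⟨α, hα⟩ := KCore.exists_aut Cd.R Cd.R_injective (E l) closure_gens (by
      rintro x ⟨k, hk, rfl⟩
      exact ⟨_, rel hl k hk⟩)
    have hk : ∀ k < 22, α (dec 11 (2 ^ k)) = dec 11 (im (Ic l) k) := by
      intro k hk
      apply Cd.R_injective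
      exact mul_right_cancel ((hα _).symm.trans (rel hl k hk))
    have h0 : α (dec 11 (Nat.land x 0x400000)) = dec 11 (Nat.land x 0x400000) := by
      rcases land_top x with e | e
      · rw [e, dec_zero, map_one]
      · rw [e, KQ.dec_z]
        apply Cd.R_injective
        have h1 : E l * E .z = E .z * E l :=
          congrArg Subtype.val (z_comm (g := gE l) (E_mem_C (isC_of_inW hl)))
        rw [E_z'] at h1
        exact mul_right_cancel ((hα _).symm.trans h1)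
    have h1 := wfold_sound hk x pos (by decide) _ _ h0
    rw [Nat.eq_of_beq_eq_true hx] at h1
    apply Subtype.ext
    have h2 := hα (dec 11 x)
    rw [h1] at h2
    exact h2
  · have e : gE l = r (dec 11 (cl l)) := Subtype.ext (E_cl h)
    rw [e]
    cases h2 : fm (cl l) x
    · exact comm_codes h2
    · show _ = q (x ^^^ 0x400000) * _
      rw [q_xor _ a_top, q_top]
      have h3 : q x * zz = zz * q x := z_comm (r_mem _)
      rw [h3]
      exact anti_codes h2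

theorem gW_cons (l : Ltr) (w : List Ltr) : gW (l :: w) = gW w * gE l := Subtype.ext (W_cons l w)

/-- The word maps the code `x` to the code `x0`. -/
noncomputable def fixW (w : List Ltr) (x0 : ℕ) : ℕ → Bool :=
  List.rec (motive := fun _ => ℕ → Bool) (fun x => Nat.beq x x0)
    (fun l _ ih x => and (or (isq l) (inW l)) (and (okx x) (seqB (ex l x) ih))) w

theorem fixW_sound {w : List Ltr} {x0 x : ℕ} (h : fixW w x0 x = true) : gW w * q x = q x0 * gW w := by
  induction w generalizing x with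
  | nil =>
    have h1 : x = x0 := Nat.eq_of_beq_eq_true h
    have h2 : gW [] = 1 := Subtype.ext W_nil
    rw [h1, h2, one_mul, mul_one]
  | cons l w ih =>
    have h1 : and (or (isq l) (inW l)) (and (okx x) (seqB (ex l x) (fixW w x0))) = true := h
    rw [seqB_eq, Bool.and_eq_true, Bool.and_eq_true] at h1
    rw [gW_cons, mul_assoc, ex_sound h1.1 h1.2.1, ← mul_assoc, ih h1.2.2, mul_assoc]

/-! ### The 330 subgroups -/

/-- Entries of ten bits. -/
noncomputable def l10 (n : ℕ) : ℕ := Nat.land (Nat.shiftRight tT (Nat.mul 10 n)) 1023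

theorem l10_lt (n : ℕ) : l10 n < 2 ^ 11 := lt_of_le_of_lt Nat.and_le_right (by norm_num)

/-- The generators of the subgroup number `i`. -/
noncomputable def gl (i : ℕ) : List ℕ :=
  [0x400000, 0x400, l10 (Nat.mul 3 i), l10 (Nat.add (Nat.mul 3 i) 1), l10 (Nat.add (Nat.mul 3 i) 2)]

theorem gl_a (i : ℕ) : ∀ c ∈ gl i, (dec 11 c).a = 0 := by
  intro c hc
  simp only [gl, List.mem_cons, List.not_mem_nil, or_false] at hc
  rcases hc with rfl | rfl | rfl | rfl | rfl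
  · exact a_top
  · exact a_pure (by norm_num)
  · exact a_pure (l10_lt _)
  · exact a_pure (l10_lt _)
  · exact a_pure (l10_lt _)

/-- `k` centralises the subgroup number `i`. -/
def Cen (i : ℕ) (k : G) : Prop := ∀ c ∈ gl i, Commute k (q c)

theorem gl_zero : gl 0 = [0x400000, 0x400, 0xea, 0x9, 0x140] := by decide +kernel

theorem Cen.ko {k : G} (h : Cen 0 k) : k ∈ KO := by
  unfold Cen at h
  rw [gl_zero] at h
  rw [KO, Subgroup.mem_centralizer_iff]
  intro y hy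
  simp only [Set.mem_insert_iff, Set.mem_singleton_iff] at hy
  rcases hy with rfl | rfl | rfl | rfl | rfl
  · rw [← q_top]; exact (h _ (by simp)).symm.eq
  · have e : pp = q 0x400 := gE_Z10
    rw [e]; exact (h _ (by simp)).symm.eq
  · exact (h _ (by simp)).symm.eq
  · exact (h _ (by simp)).symm.eq
  · exact (h _ (by simp)).symm.eq

/-- `g` maps the subgroup number `i` into the subgroup number `j`. -/
def Tr (g : G) (i j : ℕ) : Prop := ∀ k, Cen j k → Cen i (g⁻¹ * k * g)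

theorem Tr.one (i : ℕ) : Tr 1 i i := fun k hk => by rwa [inv_one, one_mul, mul_one]

theorem Tr.mul {g h : G} {i j m : ℕ} (h1 : Tr g i j) (h2 : Tr h j m) : Tr (h * g) i m := fun k hk => by
  have h3 := h1 _ (h2 k hk)
  have e : (h * g)⁻¹ * k * (h * g) = g⁻¹ * (h⁻¹ * k * h) * g := by group
  rwa [e]

/-- Entries of nine bits. -/
noncomputable def l9 (t n : ℕ) : ℕ := Nat.land (Nat.shiftRight t (Nat.mul 9 n)) 511

/-- The action of the letters on the numbers. -/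
noncomputable def la : Ltr → ℕ → ℕ
  | .p, i => l9 tP i
  | .h, i => l9 tH i
  | _, i => i

/-- Strict application. -/
noncomputable def frc (x : ℕ) (f : ℕ → Bool) : Bool := Nat.rec (f 0) (fun m _ => f (Nat.succ m)) x

theorem frc_eq (x : ℕ) (f : ℕ → Bool) : frc x f = f x := by cases x <;> rfl

/-- Strict application. -/
noncomputable def frn (x : ℕ) (f : ℕ → ℕ) : ℕ := Nat.rec (f 0) (fun m _ => f (Nat.succ m)) x

theorem frn_eq (x : ℕ) (f : ℕ → ℕ) : frn x f = f x := by cases x <;> rfl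

/-- `wfold`, strict. -/
noncomputable def wf (img : ℕ → ℕ) (m : ℕ) (l : List ℕ) : ℕ → ℕ :=
  List.rec (motive := fun _ => ℕ → ℕ) (fun acc => acc)
    (fun k _ ih acc => Bool.rec (ih acc) (frn (mulK acc (img k)) ih) (tb m k)) l

theorem wfold_cons (img : ℕ → ℕ) (m k : ℕ) (l : List ℕ) (acc : ℕ) :
    wfold img m (k :: l) acc = wfold img m l (Bool.rec acc (mulK acc (img k)) (tb m k)) := seq_eq _ _

theorem wf_eq (img : ℕ → ℕ) (m m' : ℕ) (l : List ℕ) (h : ∀ k ∈ l, tb m k = tb m' k) (acc : ℕ) :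
    wfold img m l acc = wf img m' l acc := by
  induction l generalizing acc with
  | nil => rfl
  | cons k l ih =>
    have e : wf img m' (k :: l) acc =
      Bool.rec (wf img m' l acc) (frn (mulK acc (img k)) (wf img m' l)) (tb m' k) := rfl
    rw [wfold_cons, ih (fun k hk => h k (List.mem_cons_of_mem _ hk)), e, frn_eq, h k List.mem_cons_self]
    cases tb m' k <;> rfl

theorem wfold_skip (img : ℕ → ℕ) (m : ℕ) (l : List ℕ) (h : ∀ k ∈ l, tb m k = false) (acc : ℕ) :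
    wfold img m l acc = acc := by
  induction l generalizing acc with
  | nil => rfl
  | cons k l ih =>
    rw [wfold_cons, ih (fun k hk => h k (List.mem_cons_of_mem _ hk)), h k List.mem_cons_self]

theorem wfold_append (img : ℕ → ℕ) (m : ℕ) (l l' : List ℕ) (acc : ℕ) :
    wfold img m (l ++ l') acc = wfold img m l' (wfold img m l acc) := by
  induction l generalizing acc with
  | nil => rfl
  | cons k l ih => rw [List.cons_append, wfold_cons, wfold_cons, ih]

/-- The image of a code below 1024. -/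
noncomputable def fast (img : ℕ → ℕ) (c : ℕ) : ℕ :=
  frn (Nat.land c 31) fun a => frn (wf img a [0, 1, 2, 3, 4] 0) (wf img c [5, 6, 7, 8, 9])

theorem fast_eq (img : ℕ → ℕ) {c : ℕ} (hc : c < 2 ^ 10) :
    wfold img c pos (Nat.land c 0x400000) = fast img c := by
  have h0 : ∀ k, 10 ≤ k → tb c k = false := fun k hk => by
    rw [tb_eq]
    exact Nat.testBit_lt_two_pow (lt_of_lt_of_le hc (Nat.pow_le_pow_right (by norm_num) hk))
  have h1 : Nat.land c 0x400000 = 0 := by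
    have h : c &&& 2 ^ 22 = (c.testBit 22).toNat * 2 ^ 22 := Nat.and_two_pow c 22
    rw [← tb_eq, h0 22 (by norm_num)] at h
    exact h
  have h2 : ∀ k ∈ [0, 1, 2, 3, 4], tb c k = tb (Nat.land c 31) k := fun k hk => by
    have hk5 : k < 5 := by
      revert k
      decide
    have e : (c &&& (2 ^ 5 - 1)).testBit k = (c.testBit k && decide (k < 5)) := by
      rw [Nat.testBit_and, Nat.testBit_two_pow_sub_one]
    rw [tb_eq, tb_eq]
    rw [decide_eq_true hk5, Bool.and_true] at e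
    exact e.symm
  have e : pos = [11, 12, 13, 14, 15, 16, 17, 18, 19, 20, 21] ++ ([0, 1, 2, 3, 4] ++ ([5, 6, 7, 8, 9] ++ [10])) := rfl
  rw [e, wfold_append, wfold_append, wfold_append, h1,
    wfold_skip img c [11, 12, 13, 14, 15, 16, 17, 18, 19, 20, 21] (fun k hk => h0 k (by revert k; decide)),
    wfold_skip img c [10] (fun k hk => h0 k (by revert k; decide)), wf_eq img c _ _ h2,
    wf_eq img c c _ (fun _ _ => rfl), fast, frn_eq, frn_eq]

theorem okx_tab : allN 10 (fun i => frc i fun i => Nat.beq (fast (fun k => 2 ^ k) i) i) 0 = true := by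
  decide +kernel

theorem okx_low {c : ℕ} (hc : c < 2 ^ 10) : okx c = true := by
  have h := allN_spec okx_tab (Nat.zero_le c) (by rw [zero_add]; exact hc)
  rw [frc_eq] at h
  rw [okx, fast_eq _ hc]
  exact h

theorem l10_lt' (n : ℕ) : l10 n < 2 ^ 10 := lt_of_le_of_lt Nat.and_le_right (by norm_num)

theorem okx_gl (i : ℕ) : ∀ c ∈ gl i, okx c = true := by
  intro c hc
  simp only [gl, List.mem_cons, List.not_mem_nil, or_false] at hc
  rcases hc with rfl | rfl | rfl | rfl | rfl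
  · decide +kernel
  · decide +kernel
  · exact okx_low (l10_lt' _)
  · exact okx_low (l10_lt' _)
  · exact okx_low (l10_lt' _)

theorem tr_of {l : Ltr} {i j : ℕ} (hl : or (isq l) (inW l) = true)
    (h : ∀ c ∈ gl i, ∀ k, Cen j k → Commute k (q (ex l c))) : Tr (gE l) i j := by
  intro k hk c hc
  have h3 := ex_sound hl (okx_gl i c hc)
  have h4 := (h c hc k hk).eq
  show (gE l)⁻¹ * k * gE l * q c = q c * ((gE l)⁻¹ * k * gE l)
  have h5 : (gE l)⁻¹ * q (ex l c) = q c * (gE l)⁻¹ := by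
    rw [inv_mul_eq_iff_eq_mul, ← mul_assoc, h3, mul_inv_cancel_right]
  rw [mul_assoc, h3, ← mul_assoc, mul_assoc _ k, h4, ← mul_assoc, h5]
  simp only [mul_assoc]

theorem tr_q {l : Ltr} (hl : isq l = true) (i : ℕ) : Tr (gE l) i i := by
  refine tr_of (by rw [hl]; rfl) fun c hc k hk => ?_
  unfold ex
  rw [hl]
  cases fm (cl l) c
  · exact hk c hc
  · show Commute k (q (c ^^^ 0x400000))
    rw [q_xor _ a_top]
    exact (hk c hc).mul_right (hk _ List.mem_cons_self)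

/-- `inSp`, strict. -/
noncomputable def inS (l : List ℕ) : ℕ → Bool :=
  List.rec (motive := fun _ => ℕ → Bool) (fun y => Nat.beq y 0)
    (fun c _ ih y => Bool.rec (frc (Nat.xor y c) ih) true (ih y)) l

theorem inS_eq (l : List ℕ) (y : ℕ) : inS l y = inSp l y := by
  induction l generalizing y with
  | nil => rfl
  | cons c l ih =>
    show Bool.rec (frc (Nat.xor y c) (inS l)) true (inS l y) = or (inSp l y) (seqB (Nat.xor y c) (inSp l))
    rw [frc_eq, seqB_eq, ih, ih]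
    cases inSp l y <;> rfl

theorem inSp_append {l l' : List ℕ} {y t : ℕ} (h : inSp l t = true) (h' : inSp l' y = true) :
    inSp (l ++ l') (y ^^^ t) = true := by
  induction l generalizing t with
  | nil =>
    have h1 : t = 0 := Nat.eq_of_beq_eq_true h
    rw [h1, Nat.xor_zero]
    exact h'
  | cons c l ih =>
    have h1 : or (inSp l t) (seqB (Nat.xor t c) (inSp l)) = true := h
    show or (inSp (l ++ l') (y ^^^ t)) (seqB ((y ^^^ t) ^^^ c) (inSp (l ++ l'))) = true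
    rw [seqB_eq, Bool.or_eq_true] at h1 ⊢
    rcases h1 with h1 | h1
    · exact Or.inl (ih h1)
    · rw [Nat.xor_assoc]
      exact Or.inr (ih h1)

theorem inSp_zero (l : List ℕ) : inSp l 0 = true := by
  induction l with
  | nil => rfl
  | cons c l ih =>
    show or (inSp l 0) _ = true
    rw [ih, Bool.true_or]

/-- The check of one code. -/
noncomputable def okJ (img : ℕ → ℕ) (a b c x : ℕ) : Bool :=
  frc (fast img x) fun y => frc (Nat.land y 0x400400) fun t =>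
    Bool.rec false (frc (Nat.xor y t) (inS [a, b, c])) (inS [0x400000, 0x400] t)

theorem okJ_sound {img : ℕ → ℕ} {a b c x : ℕ} (h : okJ img a b c x = true) :
    inSp [0x400000, 0x400, a, b, c] (fast img x) = true := by
  unfold okJ at h
  rw [frc_eq, frc_eq, frc_eq, inS_eq, inS_eq] at h
  cases h1 : inSp [0x400000, 0x400] (Nat.land (fast img x) 0x400400)
  · rw [h1] at h
    exact absurd h Bool.false_ne_true
  · rw [h1] at h
    have h2 := inSp_append h1 h
    have e : Nat.xor (fast img x) (Nat.land (fast img x) 0x400400) ^^^ Nat.land (fast img x) 0x400400 = fast img x := by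
      generalize Nat.land (fast img x) 0x400400 = t
      show (fast img x ^^^ t) ^^^ t = _
      rw [Nat.xor_assoc, Nat.xor_self, Nat.xor_zero]
    rw [e] at h2
    exact h2

theorem rec_and (a b : Bool) : (Bool.rec false b a : Bool) = and a b := by cases a <;> rfl

/-- The check of a letter at one number. -/
noncomputable def okI (l : Ltr) (i : ℕ) : Bool :=
  frc (la l i) fun j => Bool.rec false
    (frc (l10 (Nat.mul 3 j)) fun a => frc (l10 (Nat.add (Nat.mul 3 j) 1)) fun b =>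
      frc (l10 (Nat.add (Nat.mul 3 j) 2)) fun c =>
        Bool.rec false (Bool.rec false (frc (l10 (Nat.add (Nat.mul 3 i) 2)) (okJ (im (Ic l)) a b c))
          (frc (l10 (Nat.add (Nat.mul 3 i) 1)) (okJ (im (Ic l)) a b c)))
          (frc (l10 (Nat.mul 3 i)) (okJ (im (Ic l)) a b c)))
    (Nat.ble j 329)

/-- The check of a letter. -/
noncomputable def okL (l : Ltr) : Bool :=
  and (and (not (isq l)) (inW l))
    (and (and (inSp [0x400000, 0x400] (ex l 0x400000)) (inSp [0x400000, 0x400] (ex l 0x400)))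
      (allN 9 (fun i => frc i fun i => Bool.rec (okI l i) true (Nat.ble 330 i)) 0))

theorem okL_sound {l : Ltr} (h : okL l = true) {i : ℕ} (hi : i < 330) : la l i < 330 ∧ Tr (gE l) i (la l i) := by
  unfold okL at h
  simp only [Bool.and_eq_true, Bool.not_eq_true'] at h
  obtain ⟨⟨hq, hw⟩, ⟨h6, h7⟩, h8⟩ := h
  have h1 := allN_spec h8 (Nat.zero_le i) (by omega)
  have h9 : Nat.ble 330 i = false := by
    cases h9 : Nat.ble 330 i
    · rfl
    · have := Nat.le_of_ble_eq_true h9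
      omega
  rw [frc_eq, h9] at h1
  have h2 : okI l i = true := h1
  unfold okI at h2
  rw [frc_eq, frc_eq, frc_eq, frc_eq, frc_eq, frc_eq, frc_eq, rec_and, rec_and, rec_and, Bool.and_eq_true,
    Bool.and_eq_true, Bool.and_eq_true] at h2
  obtain ⟨h3, ha, hb, hc⟩ := h2
  refine ⟨Nat.lt_succ_of_le (Nat.le_of_ble_eq_true h3), tr_of (by rw [hw, Bool.or_true]) fun c hc' k hk => ?_⟩
  refine inSp_sound (fun c hc => ⟨gl_a _ c hc, hk c hc⟩) ?_
  have e : ∀ n, ex l (l10 n) = fast (im (Ic l)) (l10 n) := fun n => by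
    unfold ex
    rw [hq]
    exact fast_eq _ (l10_lt' n)
  simp only [gl, List.mem_cons, List.not_mem_nil, or_false] at hc'
  rcases hc' with rfl | rfl | rfl | rfl | rfl
  · have h4 := inSp_append h6 (inSp_zero [l10 (Nat.mul 3 (la l i)), l10 (Nat.add (Nat.mul 3 (la l i)) 1),
      l10 (Nat.add (Nat.mul 3 (la l i)) 2)])
    rw [Nat.zero_xor] at h4
    exact h4
  · have h4 := inSp_append h7 (inSp_zero [l10 (Nat.mul 3 (la l i)), l10 (Nat.add (Nat.mul 3 (la l i)) 1),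
      l10 (Nat.add (Nat.mul 3 (la l i)) 2)])
    rw [Nat.zero_xor] at h4
    exact h4
  · rw [e]
    exact okJ_sound ha
  · rw [e]
    exact okJ_sound hb
  · rw [e]
    exact okJ_sound hc

/-- The action of a word on the numbers. -/
noncomputable def aw (w : List Ltr) : ℕ → ℕ :=
  List.rec (motive := fun _ => ℕ → ℕ) (fun i => i) (fun l _ ih i => seq (la l i) ih) w

/-- Some element centralising the subgroup number `i` negates `x`. -/
def Ng (x : V) (i : ℕ) : Prop := ∃ k : G, Cen i k ∧ k.1 x = -x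

theorem Ng.of {g : G} {x : V} {i j : ℕ} (h : Tr g i j) (hx : Ng (g.1 x) j) : Ng x i := by
  obtain ⟨k, hk, h1⟩ := hx
  refine ⟨_, h k hk, ?_⟩
  show (g.1)⁻¹ (k.1 (g.1 x)) = -x
  rw [h1, map_neg]
  congr 1
  exact g.1.symm_apply_apply x

/-- The check of the negators. -/
noncomputable def baseOK (P : Pl) (L : List (ℕ × List Ltr)) : Bool :=
  L.all fun p => and ((gl p.1).all fun c => fixW p.2 c c) (check (p.2.map Ltr.prog) P [] (VecEngine.neg U P))

/-- The set of the numbers of a list. -/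
noncomputable def msk (L : List (ℕ × List Ltr)) : ℕ :=
  List.rec (motive := fun _ => ℕ) 0 (fun p _ ih => Nat.lor ih (Nat.pow 2 p.1)) L

theorem vecU_neg (P : Pl) : vecU ℚ U (VecEngine.neg U P) = -vecU ℚ U P := by
  funext i
  show ((val (VecEngine.neg U P) i.1 : ℤ) : ℚ) = -((val P i.1 : ℤ) : ℚ)
  rw [val_neg, if_pos i.2, Int.cast_neg]

theorem bit_lor {B i n : ℕ} (h : (Nat.lor B (Nat.pow 2 i)).testBit n = true) : B.testBit n = true ∨ n = i := by
  have h1 : (B ||| 2 ^ i).testBit n = true := h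
  rw [Nat.testBit_or, Bool.or_eq_true, Nat.testBit_two_pow, decide_eq_true_eq] at h1
  exact h1.imp id Eq.symm

theorem base_sound {P : Pl} {L : List (ℕ × List Ltr)} (h : baseOK P L = true) {n : ℕ}
    (hn : (msk L).testBit n = true) : Ng ((1 / 8 : ℚ) • vecU ℚ U P) n := by
  induction L with
  | nil => exact absurd hn (by simp [msk])
  | cons p L ih =>
    unfold baseOK at h
    rw [List.all_cons, Bool.and_eq_true, Bool.and_eq_true, List.all_eq_true] at h
    rcases bit_lor (show (Nat.lor (msk L) (Nat.pow 2 p.1)).testBit n = true from hn) with h1 | rfl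
    · exact ih h.2 h1
    · refine ⟨gW p.2, fun c hc => fixW_sound (h.1.1 c hc), ?_⟩
      have h2 := W_eq_of_check (v₂ := []) h.1.2
      rw [W_nil, vecU_neg] at h2
      show W p.2 _ = _
      rw [map_smul, h2]
      exact smul_neg _ _

/-- The search. -/
noncomputable def grow (s t : List Ltr) (T B0 : ℕ) : ℕ → ℕ :=
  Nat.rec (motive := fun _ => ℕ) B0 (fun n B => seq B fun B => seq (l9 T n) fun i =>
    Bool.rec B (Nat.lor B (Nat.pow 2 i))
      (and (Nat.ble i 329) (or (tb B (aw s i)) (tb B (aw t i)))))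

end Cfsg.Agent.B5591.Neg
end

-- part: B5591/Neg
section
/-!
# S5591: every signed axis is negated by an element centralising `Ω`
-/

set_option autoImplicit false
set_option Elab.async false

namespace Cfsg.Agent.B5591.Neg

open Cfsg.Agent.Monster Cfsg.Agent.Monster.VecEngine Cfsg.Agent.Monster.VecSpace
open Cfsg.Agent.BabyM.Conc Cfsg.Agent.BabyM Cfsg.Agent.BabyM.KRow Cfsg.Agent.BabyM.CertVec Cfsg.Agent.BabyM.CertStab
open Cfsg.Agent.H863.BRep
open Cfsg.Agent.B5591.Geo Cfsg.Agent.B5591.NegData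
open Cfsg.Agent.Lib.PermNet (seq seq_eq seqB seqB_eq)

theorem okY : [Ltr.y1, .y2, .y3, .y4, .y5, .y6, .y7, .y8, .y9, .y10, .p, .h].all okL = true := by decide +kernel

theorem okN {l : Ltr} (h : isN l = true) {i : ℕ} (hi : i < 330) : la l i < 330 ∧ Tr (gE l) i (la l i) := by
  have h3 := okY
  simp only [List.all_cons, List.all_nil, Bool.and_eq_true, and_true] at h3
  obtain ⟨c0, c1, c2, c3, c4, c5, c6, c7, c8, c9, c10, c11⟩ := h3
  cases l with
  | X0 => exact ⟨hi, tr_q rfl i⟩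
  | X1 => exact ⟨hi, tr_q rfl i⟩
  | X2 => exact ⟨hi, tr_q rfl i⟩
  | X3 => exact ⟨hi, tr_q rfl i⟩
  | X4 => exact ⟨hi, tr_q rfl i⟩
  | X5 => exact ⟨hi, tr_q rfl i⟩
  | X6 => exact ⟨hi, tr_q rfl i⟩
  | X7 => exact ⟨hi, tr_q rfl i⟩
  | X8 => exact ⟨hi, tr_q rfl i⟩
  | X9 => exact ⟨hi, tr_q rfl i⟩
  | X10 => exact ⟨hi, tr_q rfl i⟩
  | Z0 => exact ⟨hi, tr_q rfl i⟩
  | Z1 => exact ⟨hi, tr_q rfl i⟩
  | Z2 => exact ⟨hi, tr_q rfl i⟩
  | Z3 => exact ⟨hi, tr_q rfl i⟩
  | Z4 => exact ⟨hi, tr_q rfl i⟩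
  | Z5 => exact ⟨hi, tr_q rfl i⟩
  | Z6 => exact ⟨hi, tr_q rfl i⟩
  | Z7 => exact ⟨hi, tr_q rfl i⟩
  | Z8 => exact ⟨hi, tr_q rfl i⟩
  | Z9 => exact ⟨hi, tr_q rfl i⟩
  | Z10 => exact ⟨hi, tr_q rfl i⟩
  | y1 => exact okL_sound c0 hi
  | y2 => exact okL_sound c1 hi
  | y3 => exact okL_sound c2 hi
  | y4 => exact okL_sound c3 hi
  | y5 => exact okL_sound c4 hi
  | y6 => exact okL_sound c5 hi
  | y7 => exact okL_sound c6 hi
  | y8 => exact okL_sound c7 hi
  | y9 => exact okL_sound c8 hi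
  | y10 => exact okL_sound c9 hi
  | p => exact okL_sound c10 hi
  | h => exact okL_sound c11 hi
  | _ => exact absurd (show false = true from h) Bool.false_ne_true

theorem aw_sound {w : List Ltr} (h : w.all isN = true) {i : ℕ} (hi : i < 330) :
    aw w i < 330 ∧ Tr (gW w) i (aw w i) := by
  induction w generalizing i with
  | nil =>
    have h2 : gW [] = 1 := Subtype.ext W_nil
    rw [h2]
    exact ⟨hi, Tr.one i⟩
  | cons l w ih =>
    rw [List.all_cons, Bool.and_eq_true] at h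
    obtain ⟨h1, h2⟩ := okN h.1 hi
    have e : aw (l :: w) i = aw w (la l i) := seq_eq _ _
    rw [e, gW_cons]
    exact ⟨(ih h.2 h1).1, h2.mul (ih h.2 h1).2⟩

theorem grow_sound {x : V} {s t : List Ltr} (hs : s.all isN = true) (ht : t.all isN = true) (fs : W s x = x)
    (ft : W t x = x) {T B0 : ℕ} (h0 : ∀ i, B0.testBit i = true → Ng x i) (n : ℕ) :
    ∀ i, (grow s t T B0 n).testBit i = true → Ng x i := by
  induction n with
  | zero => exact h0
  | succ n ih =>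
    have e : grow s t T B0 (n + 1) = seq (grow s t T B0 n) fun B => seq (l9 T n) fun i =>
      Bool.rec B (Nat.lor B (Nat.pow 2 i))
        (and (Nat.ble i 329) (or (tb B (aw s i)) (tb B (aw t i)))) := rfl
    rw [e, seq_eq, seq_eq]
    cases h : and (Nat.ble (l9 T n) 329) (or (tb (grow s t T B0 n) (aw s (l9 T n)))
      (tb (grow s t T B0 n) (aw t (l9 T n))))
    · exact ih
    · intro i hi
      rcases bit_lor hi with h1 | rfl
      · exact ih i h1
      · rw [Bool.and_eq_true, Bool.or_eq_true, tb_eq, tb_eq] at h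
        have h2 : l9 T n < 330 := Nat.lt_succ_of_le (Nat.le_of_ble_eq_true h.1)
        rcases h.2 with h3 | h3
        · refine Ng.of (aw_sound hs h2).2 ?_
          show Ng (W s x) _
          rw [fs]
          exact ih _ h3
        · refine Ng.of (aw_sound ht h2).2 ?_
          show Ng (W t x) _
          rw [ft]
          exact ih _ h3

/-- The tables of a word. -/
noncomputable def tabs (w : List Ltr) : List ℕ :=
  List.rec (motive := fun _ => List ℕ) [] (fun l _ ih => match l with | .p => tP :: ih | .h => tH :: ih | _ => ih) w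

/-- The action of a list of tables. -/
noncomputable def awT (L : List ℕ) : ℕ → ℕ :=
  List.rec (motive := fun _ => ℕ → ℕ) (fun i => i)
    (fun T _ ih i => ih (Nat.land (Nat.shiftRight T (Nat.mul 9 i)) 511)) L

theorem aw_eq (w : List Ltr) (i : ℕ) : aw w i = awT (tabs w) i := by
  induction w generalizing i with
  | nil => rfl
  | cons l w ih =>
    have e : aw (l :: w) i = aw w (la l i) := seq_eq _ _
    rw [e, ih]
    cases l <;> rfl

/-- The search, fast. -/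
noncomputable def growF (s t : List ℕ) (T B0 : ℕ) : ℕ → ℕ :=
  Nat.rec (motive := fun _ => ℕ) B0 (fun n B => frn B fun B =>
    frn (Nat.land (Nat.shiftRight T (Nat.mul 9 n)) 511) fun i =>
      Bool.rec B (Nat.lor B (Nat.pow 2 i)) (Bool.rec false
        (Bool.rec (Nat.beq (Nat.land (Nat.shiftRight B (awT t i)) 1) 1) true
          (Nat.beq (Nat.land (Nat.shiftRight B (awT s i)) 1) 1)) (Nat.ble i 329)))

theorem rec_or (a b : Bool) : (Bool.rec b true a : Bool) = or a b := by cases a <;> rfl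

theorem grow_eq (s t : List Ltr) (T B0 n : ℕ) : grow s t T B0 n = growF (tabs s) (tabs t) T B0 n := by
  induction n with
  | zero => rfl
  | succ n ih =>
    have e : grow s t T B0 (n + 1) = seq (grow s t T B0 n) fun B => seq (l9 T n) fun i =>
      Bool.rec B (Nat.lor B (Nat.pow 2 i))
        (and (Nat.ble i 329) (or (tb B (aw s i)) (tb B (aw t i)))) := rfl
    have e' : growF (tabs s) (tabs t) T B0 (n + 1) = frn (growF (tabs s) (tabs t) T B0 n) fun B => frn (l9 T n) fun i =>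
      Bool.rec B (Nat.lor B (Nat.pow 2 i)) (Bool.rec false
        (Bool.rec (tb B (awT (tabs t) i)) true (tb B (awT (tabs s) i))) (Nat.ble i 329)) := rfl
    rw [e, e', seq_eq, seq_eq, frn_eq, frn_eq, ih, aw_eq, aw_eq, rec_and, rec_or]

/-- The check for one representative. -/
noncomputable def repOK (r : ℕ) : Bool :=
  and (baseOK (yv r) (bs r)) (Nat.beq (growF (tabs (s0 r)) (tabs (s1 r)) (od r) (msk (bs r)) 330) (2 ^ 330 - 1))

theorem rep_sound (r : Fin 19) (h : repOK r = true) {i : ℕ} (hi : i < 330) : Ng (CertInv.v r) i := by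
  unfold repOK at h
  rw [Bool.and_eq_true, ← grow_eq] at h
  refine grow_sound (isN_s0 r r.2) (isN_s1 r r.2) ?_ ?_ (T := od r) (fun i hi => base_sound h.1 hi) 330 i ?_
  · show W (s0 r) ((1 / 8 : ℚ) • vecU ℚ U (yv r)) = (1 / 8 : ℚ) • vecU ℚ U (yv r)
    rw [map_smul, fix0 r r.2]
  · show W (s1 r) ((1 / 8 : ℚ) • vecU ℚ U (yv r)) = (1 / 8 : ℚ) • vecU ℚ U (yv r)
    rw [map_smul, fix1 r r.2]
  · rw [Nat.eq_of_beq_eq_true h.2, Nat.testBit_two_pow_sub_one]
    exact decide_eq_true hi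

theorem rep0 : repOK 0 = true := by
  delta repOK baseOK; rewrite [Cfsg.Agent.Monster.VecFast.check_eq]; decide +kernel
theorem rep1 : repOK 1 = true := by
  delta repOK baseOK; rewrite [Cfsg.Agent.Monster.VecFast.check_eq]; decide +kernel
theorem rep2 : repOK 2 = true := by
  delta repOK baseOK; rewrite [Cfsg.Agent.Monster.VecFast.check_eq]; decide +kernel
theorem rep3 : repOK 3 = true := by
  delta repOK baseOK; rewrite [Cfsg.Agent.Monster.VecFast.check_eq]; decide +kernel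
theorem rep4 : repOK 4 = true := by
  delta repOK baseOK; rewrite [Cfsg.Agent.Monster.VecFast.check_eq]; decide +kernel
theorem rep5 : repOK 5 = true := by
  delta repOK baseOK; rewrite [Cfsg.Agent.Monster.VecFast.check_eq]; decide +kernel
theorem rep6 : repOK 6 = true := by
  delta repOK baseOK; rewrite [Cfsg.Agent.Monster.VecFast.check_eq]; decide +kernel
theorem rep7 : repOK 7 = true := by
  delta repOK baseOK; rewrite [Cfsg.Agent.Monster.VecFast.check_eq]; decide +kernel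
theorem rep8 : repOK 8 = true := by
  delta repOK baseOK; rewrite [Cfsg.Agent.Monster.VecFast.check_eq]; decide +kernel
theorem rep9 : repOK 9 = true := by
  delta repOK baseOK; rewrite [Cfsg.Agent.Monster.VecFast.check_eq]; decide +kernel
theorem rep10 : repOK 10 = true := by
  delta repOK baseOK; rewrite [Cfsg.Agent.Monster.VecFast.check_eq]; decide +kernel
theorem rep11 : repOK 11 = true := by
  delta repOK baseOK; rewrite [Cfsg.Agent.Monster.VecFast.check_eq]; decide +kernel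
theorem rep12 : repOK 12 = true := by
  delta repOK baseOK; rewrite [Cfsg.Agent.Monster.VecFast.check_eq]; decide +kernel
theorem rep13 : repOK 13 = true := by
  delta repOK baseOK; rewrite [Cfsg.Agent.Monster.VecFast.check_eq]; decide +kernel
theorem rep14 : repOK 14 = true := by
  delta repOK baseOK; rewrite [Cfsg.Agent.Monster.VecFast.check_eq]; decide +kernel
theorem rep15 : repOK 15 = true := by
  delta repOK baseOK; rewrite [Cfsg.Agent.Monster.VecFast.check_eq]; decide +kernel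
theorem rep16 : repOK 16 = true := by
  delta repOK baseOK; rewrite [Cfsg.Agent.Monster.VecFast.check_eq]; decide +kernel
theorem rep17 : repOK 17 = true := by
  delta repOK baseOK; rewrite [Cfsg.Agent.Monster.VecFast.check_eq]; decide +kernel
theorem rep18 : repOK 18 = true := by
  delta repOK baseOK; rewrite [Cfsg.Agent.Monster.VecFast.check_eq]; decide +kernel

theorem repAll (r : Fin 19) : repOK r = true := by
  fin_cases r
  exacts [rep0, rep1, rep2, rep3, rep4, rep5, rep6, rep7, rep8, rep9, rep10, rep11, rep12, rep13, rep14, rep15, rep16,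
    rep17, rep18]

theorem finG : Finite G := Nat.finite_of_card_ne_zero (by rw [Instance.isB.2]; norm_num)

/-- The elements permuting the 330 subgroups. -/
def InvG : Subgroup G where
  carrier := {g | ∀ i < 330, ∃ j < 330, Tr g i j}
  one_mem' i hi := ⟨i, hi, Tr.one i⟩
  mul_mem' {a b} ha hb i hi := by
    obtain ⟨j, hj, h1⟩ := hb i hi
    obtain ⟨m, hm, h2⟩ := ha j hj
    exact ⟨m, hm, h1.mul h2⟩
  inv_mem' {a} ha := by
    have hf := finG
    have key : ∀ n : ℕ, ∀ i < 330, ∃ j < 330, Tr (a ^ n) i j := by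
      intro n
      induction n with
      | zero => exact fun i hi => ⟨i, hi, by rw [pow_zero]; exact Tr.one i⟩
      | succ n ih =>
        intro i hi
        obtain ⟨j, hj, h1⟩ := ha i hi
        obtain ⟨m, hm, h2⟩ := ih j hj
        exact ⟨m, hm, by rw [pow_succ]; exact h1.mul h2⟩
    have e : a⁻¹ = a ^ (orderOf a - 1) := by
      rw [inv_eq_iff_mul_eq_one, ← pow_succ', Nat.sub_add_cancel (orderOf_pos a), pow_orderOf_eq_one]
    rw [e]
    exact key _

theorem N_le : CertInv.N ≤ InvG.map Inst.M.G.subtype := by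
  unfold CertInv.N
  rw [Subgroup.closure_le]
  rintro _ ⟨l, hl, rfl⟩
  exact ⟨gE l, fun i hi => ⟨_, okN hl hi⟩, rfl⟩

theorem cover (d : Ax) : ∃ r : Fin 19, (d : V) ∈ MulAction.orbit CertInv.N (CertInv.v r) := by
  have h1 : (d : V) ∈ Inst.M.D := by
    rw [Count.D_eq_orbit Instance.all.orb]
    exact d.2
  obtain ⟨j, g, hg, h2⟩ := h1
  have H := OrbInst.nb KLink.link
  obtain ⟨r, -, hr⟩ := (CertAsm.tab H).cov H.xi j (d : V) ⟨⟨g, hg⟩, h2.symm⟩
  exact ⟨r, hr⟩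

/-- **Box Neg.** -/
theorem boxNeg : BoxNeg := by
  intro d
  obtain ⟨r, n, hn⟩ := cover d
  obtain ⟨g, hg, e⟩ := N_le n.2
  obtain ⟨j, hj, h1⟩ := InvG.inv_mem hg 0 (by norm_num)
  have h2 : (g⁻¹).1 (d : V) = CertInv.v r := by
    have h3 : g.1 (CertInv.v r) = (d : V) := by
      have e' : g.1 = n.1 := e
      rw [e']
      exact hn
    rw [← h3]
    exact g.1.symm_apply_apply _
  obtain ⟨k, hk, h4⟩ := Ng.of h1 (by rw [h2]; exact rep_sound r (repAll r) hj)
  exact ⟨k, hk.ko, Subtype.ext h4⟩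

end Cfsg.Agent.B5591.Neg
end

-- part: S5591
section
set_option autoImplicit false
open Cfsg

namespace Cfsg.Agent.S5591

/-- Let ρ be a faithful linear representation of the Baby Monster of degree 4371 over the field of three elements. Then there is, up to isomorphism, exactly one non-split extension of the Baby Monster by the corresponding module: some group E with an abelian normal subgroup A, E/A identified with the Baby Monster and A identified additively with the module compatibly with ρ, has no complement to A; and any two such non-split groups are isomorphic. -/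
theorem result (ρ : Cfsg.Spor.BabyMonster →* GL (Fin 4371) (ZMod 3)) (hρ : Function.Injective ρ) :
    (∃ (E : Type) (_ : Group E) (A : Subgroup E) (_ : A.Normal) (e : E ⧸ A ≃* Cfsg.Spor.BabyMonster) (φ : Additive ↥A ≃+ (Fin 4371 → ZMod 3)),
      (∀ (g : E) (a b : ↥A), (b : E) = g * a * g⁻¹ → φ (Additive.ofMul b) =
        (ρ (e (QuotientGroup.mk g)) : Matrix (Fin 4371) (Fin 4371) (ZMod 3)).mulVec (φ (Additive.ofMul a))) ∧
      ∀ K : Subgroup E, ¬ A.IsComplement' K) ∧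
    ∀ (E : Type*) [Group E] (A : Subgroup E) [A.Normal] (e : E ⧸ A ≃* Cfsg.Spor.BabyMonster) (φ : Additive ↥A ≃+ (Fin 4371 → ZMod 3)),
      (∀ (g : E) (a b : ↥A), (b : E) = g * a * g⁻¹ → φ (Additive.ofMul b) =
        (ρ (e (QuotientGroup.mk g)) : Matrix (Fin 4371) (Fin 4371) (ZMod 3)).mulVec (φ (Additive.ofMul a))) →
      (∀ K : Subgroup E, ¬ A.IsComplement' K) →
      ∀ (E' : Type*) [Group E'] (A' : Subgroup E') [A'.Normal] (e' : E' ⧸ A' ≃* Cfsg.Spor.BabyMonster) (φ' : Additive ↥A' ≃+ (Fin 4371 → ZMod 3)),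
        (∀ (g : E') (a b : ↥A'), (b : E') = g * a * g⁻¹ → φ' (Additive.ofMul b) =
          (ρ (e' (QuotientGroup.mk g)) : Matrix (Fin 4371) (Fin 4371) (ZMod 3)).mulVec (φ' (Additive.ofMul a))) →
        (∀ K : Subgroup E', ¬ A'.IsComplement' K) → Nonempty (E ≃* E') := by
  exact Cfsg.Agent.B5591.Geo.final Cfsg.Agent.B5591.Neg.boxNeg Cfsg.Agent.B5591.Geo.boxKS Cfsg.Agent.B5591.Geo.boxSyl
    Cfsg.Agent.B5591.Geo.boxR Cfsg.Agent.B5591.Geo.boxLG Cfsg.Agent.B5591.Geo.boxA0 Cfsg.Agent.B5591.Geo.locA ρ hρ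

end Cfsg.Agent.S5591
end

private theorem dce_bbf77b83d094 : _root_.True := by
  try have : _root_.True := by simp only [_root_.Cfsg.Agent.B5591.Neg.gl.eq_1]
  try have : _root_.True := by simp only [_root_.Cfsg.Agent.B5591.Neg.msk.eq_1]
  try have : _root_.True := by simp only [_root_.Cfsg.Agent.B5591.Geo.KO.eq_1]
  try have : _root_.True := by simp only [_root_.Cfsg.Agent.B5591.Geo.q.eq_1]
  exact _root_.True.intro
end
end
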