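import Mathlib
import Cfsg.Agent.H892.GroupB
import Cfsg.Agent.GTwoRows.Base
import Cfsg.Prelude.Def_RootSubgroups
import Cfsg.Agent.S0265
import Cfsg.Agent.S0813
import Cfsg.Agent.LieClassical.SLGen
import Cfsg.Agent.Transfer.ResidualComplement
import Cfsg.Agent.Transfer.SL23Recog
import Cfsg.Agent.GH.Cov.SLTwoFacts
import Cfsg.Agent.StdL2.Cover
import Cfsg.Statements.S5720
import Cfsg.Agent.S0205
import Cfsg.Agent.S0483
import Cfsg.Agent.FastGrp
import Cfsg.Agent.Prune
set_option linter.all false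
prune_inst 0x7f00000000000000000000000000000000000000000000000000000000000000000000000000000000000000000000000000000000000000000000000000000000000000000000000000000000000000003fffffffffffffffffffffffffffbeffbdffffffff
open scoped Cfsg.Agent.FastGrp

-- part: H892/GroupC
section
/-!
# Perfect groups without the four configurations: the field
-/

set_option autoImplicit false

namespace Cfsg.Agent.H892.GroupC

open Subgroup Cfsg.Agent.H892.ModCase Cfsg.Agent.H892.GroupA Cfsg.Agent.H892.GroupB
open Cfsg.Agent.ClassicalGeometry.SplitTorus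

/-- `A₇` is not a quotient. -/
theorem no_alt_seven {L : Type*} [Group L] [Finite L] (hC : ¬ Conf L) {f : L →* alternatingGroup (Fin 7)}
    (hf : Function.Surjective f) : False := by
  have hfact : Fact (Nat.Prime 3) := ⟨by norm_num⟩
  let a : alternatingGroup (Fin 7) := ⟨c[0, 1, 2], by rw [Equiv.Perm.mem_alternatingGroup]; decide⟩
  let b : alternatingGroup (Fin 7) := ⟨c[3, 4, 5], by rw [Equiv.Perm.mem_alternatingGroup]; decide⟩
  have ha : orderOf a = 3 := by
    apply orderOf_eq_prime
    · apply Subtype.ext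
      decide
    · intro h
      have := congrArg (fun x : alternatingGroup (Fin 7) => (x : Equiv.Perm (Fin 7)) 0) h
      revert this
      decide
  have hb : orderOf b = 3 := by
    apply orderOf_eq_prime
    · apply Subtype.ext
      decide
    · intro h
      have := congrArg (fun x : alternatingGroup (Fin 7) => (x : Equiv.Perm (Fin 7)) 3) h
      revert this
      decide
  have hab : Commute a b := by
    apply Subtype.ext
    decide
  have h1 := quot_unique hf (fun P => GroupA.isCyclic hC (by norm_num) (by norm_num) P.2) ha hb hab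
  have h2 : zpowers b ≤ (MulAction.stabilizer (Equiv.Perm (Fin 7)) (0 : Fin 7)).comap (alternatingGroup (Fin 7)).subtype := by
    rw [zpowers_le, mem_comap, MulAction.mem_stabilizer_iff]
    decide
  have h3 := h2 h1
  rw [mem_comap, MulAction.mem_stabilizer_iff] at h3
  revert h3
  decide

theorem orderOf_up {F : Type*} [Field F] {p : ℕ} [Fact p.Prime] [CharP F p] {c : F} (hc : c ≠ 0) : orderOf (up c) = p := by
  have hpow : ∀ k : ℕ, (up c) ^ k = up (k * c) := by
    intro k
    induction k with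
    | zero => simp [up_zero]
    | succ k ih =>
      rw [pow_succ, ih, ← up_add]
      congr 1
      push_cast
      ring
  apply orderOf_eq_prime
  · rw [hpow, CharP.cast_eq_zero, zero_mul, up_zero]
  · intro h
    apply hc
    have := congrArg (fun x : Matrix.SpecialLinearGroup (Fin 2) F => x 0 1) h
    simpa using this

/-- If Sylow `p`-subgroups are cyclic in characteristic `p` then the field is the prime field. -/
theorem card_eq_char {F : Type*} [Field F] [Fintype F] {p : ℕ} [hp : Fact p.Prime] [CharP F p] {L : Type*} [Group L] [Finite L]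
    (hcyc : ∀ P : Sylow p L, IsCyclic P) {f : L →* Matrix.SpecialLinearGroup (Fin 2) F} (hf : Function.Surjective f) :
    Fintype.card F = p := by
  let i : ZMod p →+* F := ZMod.castHom (dvd_refl p) F
  by_contra hne
  obtain ⟨c, hc⟩ : ∃ c : F, c ∉ Set.range i := by
    by_contra hcon
    push Not at hcon
    apply hne
    have hb : Function.Bijective i := ⟨i.injective, hcon⟩
    rw [← Fintype.card_of_bijective hb, ZMod.card]
  have hc0 : c ≠ 0 := by
    rintro rfl
    exact hc ⟨0, map_zero i⟩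
  have hcomm : Commute (up (1 : F)) (up c) := by
    rw [Commute, SemiconjBy, ← up_add, ← up_add, add_comm]
  have h1 := quot_unique hf hcyc (orderOf_up one_ne_zero) (orderOf_up hc0) hcomm.symm.symm
  -- all powers of `up c` are `up (i k * c)`
  have h2 : ∀ x ∈ zpowers (up c), ∃ k : ZMod p, x = up (i k * c) := by
    intro x hx
    rw [mem_zpowers_iff] at hx
    obtain ⟨k, rfl⟩ := hx
    refine ⟨(k : ZMod p), ?_⟩
    rw [map_intCast]
    induction k with
    | zero => simp [up_zero]
    | succ k ih =>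
      rw [zpow_add_one, ih, ← up_add]
      congr 1
      push_cast
      ring
    | pred k ih =>
      rw [zpow_sub_one, ih, ← up_neg, ← up_add]
      congr 1
      push_cast
      ring
  obtain ⟨k, hk⟩ := h2 _ h1
  have h3 := congrArg (fun x : Matrix.SpecialLinearGroup (Fin 2) F => x 0 1) hk
  simp only [up01] at h3
  apply hc
  have hk0 : k ≠ 0 := by
    rintro rfl
    rw [map_zero, zero_mul] at h3
    exact one_ne_zero h3
  refine ⟨k⁻¹, ?_⟩
  rw [map_inv₀]
  rw [inv_eq_iff_eq_inv]
  exact (eq_inv_of_mul_eq_one_left h3.symm)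

theorem char_cases {F : Type} [Field F] [Fintype F] (hodd : Odd (Fintype.card F)) {p : ℕ} [hp : Fact p.Prime] [CharP F p]
    {L : Type*} [Group L] [Finite L] (hL : commutator L = ⊤) (hC : ¬ Conf L)
    {f : L →* Matrix.SpecialLinearGroup (Fin 2) F} (hf : Function.Surjective f) :
    Fintype.card F = 5 ∨ 7 ≤ p := by
  have hpF : p ∣ Fintype.card F := by
    obtain ⟨n, hn, hn'⟩ := FiniteField.card F p
    rw [hn']
    exact dvd_pow_self p n.ne_zero
  have hp2 : p ≠ 2 := by
    rintro rfl
    exact (Nat.not_even_iff_odd.2 hodd) (even_iff_two_dvd.2 hpF)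
  have hp3 : p ≠ 3 := by
    rintro rfl
    have h1 := card_eq_char (F := F) (fun P => GroupA.isCyclic hC (by norm_num) (by norm_num) P.2) hf
    have h2 := GTwoRows.isSolvable_sl_three h1
    have h3 := subsingleton_of_solvable (perfect_map hL hf) h2
    exact absurd (Subsingleton.elim (up (1 : F)) 1) (by
      intro h
      have := congrArg (fun x : Matrix.SpecialLinearGroup (Fin 2) F => x 0 1) h
      simp at this)
  have hpp := hp.out
  by_cases hp5 : p = 5
  · subst hp5
    left
    exact card_eq_char (F := F) (fun P => GroupA.isCyclic hC (by norm_num) (by norm_num) P.2) hf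
  · right
    have h2 := hpp.two_le
    by_contra hcon
    push Not at hcon
    interval_cases p
    · exact hp2 rfl
    · exact hp3 rfl
    · exact absurd hpp (by norm_num)
    · exact hp5 rfl
    · exact absurd hpp (by norm_num)

end Cfsg.Agent.H892.GroupC
end

-- part: H892/GroupD
section
/-!
# The index of the solvable radical when the residual involves one simple group
-/

set_option autoImplicit false

namespace Cfsg.Agent.H892.GroupD

open Subgroup Cfsg.Agent.H892.GroupB

/-- automorphisms act on characteristic quotients -/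
def quotAut {L : Type*} [Group L] (K : Subgroup L) [K.Normal] [hK : K.Characteristic] : MulAut L →* MulAut (L ⧸ K) where
  toFun e := QuotientGroup.congr K K e (characteristic_iff_map_eq.1 hK e)
  map_one' := by
    ext x
    induction x using QuotientGroup.induction_on with
    | _ x => rfl
  map_mul' e e' := by
    ext x
    induction x using QuotientGroup.induction_on with
    | _ x => rfl

theorem quotAut_mk {L : Type*} [Group L] (K : Subgroup L) [K.Normal] [hK : K.Characteristic] (e : MulAut L) (x : L) :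
    quotAut K e (x : L ⧸ K) = ((e x : L) : L ⧸ K) := rfl

theorem index_le {H : Type*} [Group H] [Finite H] (L : Subgroup H) [L.Normal] (hperf : commutator L = ⊤)
    (hsol : Group.IsSolvable (H ⧸ L)) {Q : Type*} [Group Q] [Finite Q] [IsSimpleGroup Q]
    (f : L →* Q) (hf : Function.Surjective f) (hker : Group.IsSolvable f.ker) :
    (Cfsg.solvableRadical H).index ≤ Nat.card (MulAut Q) := by
  have hQp := perfect_map hperf hf
  have hQns : ¬ Group.IsSolvable Q := fun h => by
    have := subsingleton_of_solvable hQp h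
    exact not_subsingleton Q this
  have hQc : center Q = ⊥ := by
    rcases IsSimpleGroup.eq_bot_or_eq_top_of_normal (center Q) inferInstance with h | h
    · exact h
    · exfalso
      apply hQns
      have : IsMulCommutative Q := center_eq_top_iff.1 h
      apply Group.isSolvable_of_comm
      exact fun a b => this.is_comm.comm a b
  have hchar : f.ker.Characteristic := by
    rw [characteristic_iff_map_le]
    intro e
    have hn1 : (f.ker.map e.toMonoidHom).Normal := (inferInstance : f.ker.Normal).map _ e.surjective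
    have hn2 : ((f.ker.map e.toMonoidHom).map f).Normal := hn1.map f hf
    rcases IsSimpleGroup.eq_bot_or_eq_top_of_normal _ hn2 with h | h
    · intro x hx
      rw [MonoidHom.mem_ker]
      have : f x ∈ (f.ker.map e.toMonoidHom).map f := mem_map_of_mem f hx
      rw [h, mem_bot] at this
      exact this
    · exfalso
      apply hQns
      have h1 : Function.Surjective ((f.comp e.toMonoidHom).comp f.ker.subtype) := by
        intro y
        have hy : y ∈ (f.ker.map e.toMonoidHom).map f := by rw [h]; trivial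
        obtain ⟨_, ⟨k, hk, rfl⟩, rfl⟩ := hy
        exact ⟨⟨k, hk⟩, rfl⟩
      exact Group.isSolvable_of_surjective h1
  set Φ : H →* MulAut (L ⧸ f.ker) := (quotAut f.ker).comp MulAut.conjNormal with hΦ
  set C := Φ.ker with hC
  have hCmem : ∀ c ∈ C, ∀ l : L, (MulAut.conjNormal c l : L)⁻¹ * l ∈ f.ker := by
    intro c hc l
    rw [hC, MonoidHom.mem_ker, hΦ] at hc
    have h1 : quotAut f.ker (MulAut.conjNormal c) (l : L ⧸ f.ker) = l := by
      have := congrArg (fun e : MulAut (L ⧸ f.ker) => e (l : L ⧸ f.ker)) hc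
      exact this
    rw [quotAut_mk, QuotientGroup.eq] at h1
    exact h1
  have hCL : ∀ c ∈ C, ∀ (hcL : c ∈ L), (⟨c, hcL⟩ : L) ∈ f.ker := by
    intro c hc hcL
    have h1 : f ⟨c, hcL⟩ ∈ center Q := by
      rw [mem_center_iff]
      intro y
      obtain ⟨l, rfl⟩ := hf y
      have h2 := hCmem c hc l
      have h3 : (MulAut.conjNormal c l : L) = ⟨c, hcL⟩ * l * ⟨c, hcL⟩⁻¹ := by
        apply Subtype.ext
        rw [MulAut.conjNormal_apply]
        rfl
      rw [h3, MonoidHom.mem_ker, map_mul, map_inv, inv_mul_eq_one, map_mul, map_mul, map_inv] at h2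
      rw [mul_inv_eq_iff_eq_mul] at h2
      exact h2.symm
    rw [hQc, mem_bot] at h1
    exact h1
  have hCsol : Group.IsSolvable C := by
    let g : C →* H ⧸ L := (QuotientGroup.mk' L).comp C.subtype
    have hg : ∀ x : g.ker, ((x : C) : H) ∈ L := by
      intro x
      have h1 : g x = 1 := x.2
      have h2 : (QuotientGroup.mk' L) ((x : C) : H) = 1 := h1
      rwa [QuotientGroup.mk'_apply, QuotientGroup.eq_one_iff] at h2
    have h1 : Group.IsSolvable g.ker := by
      let i : g.ker →* f.ker :=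
        { toFun := fun x => ⟨⟨((x : C) : H), hg x⟩, hCL _ (x : C).2 (hg x)⟩
          map_one' := rfl
          map_mul' := fun x y => rfl }
      have hi : Function.Injective i := by
        intro x y hxy
        apply Subtype.ext
        apply Subtype.ext
        exact congrArg (fun z : f.ker => ((z : L) : H)) hxy
      exact Group.isSolvable_of_isSolvable_injective hi
    exact Group.isSolvable_of_ker_le_range g.ker.subtype g (by rw [range_subtype])
  have hCle : C ≤ Cfsg.solvableRadical H := by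
    apply le_sSup
    exact ⟨inferInstance, hCsol⟩
  have h1 : (Cfsg.solvableRadical H).index ≤ C.index :=
    Nat.le_of_dvd (Nat.pos_of_ne_zero index_ne_zero_of_finite) (index_dvd_of_le hCle)
  have h2 : C.index = Nat.card Φ.range := index_ker Φ
  have hfin : Finite (L ⧸ f.ker) := inferInstance
  have h3 : Nat.card Φ.range ≤ Nat.card (MulAut (L ⧸ f.ker)) := card_le_card_group _
  have h4 : Nat.card (MulAut (L ⧸ f.ker)) = Nat.card (MulAut Q) :=
    Nat.card_congr (MulAut.congr (QuotientGroup.quotientKerEquivOfSurjective f hf)).toEquiv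
  omega

theorem card_mulAut_psl_five {F : Type*} [Field F] [Fintype F] (hF : Fintype.card F = 5) :
    Nat.card (MulAut (Matrix.ProjectiveSpecialLinearGroup (Fin 2) F)) = 120 := by
  have : Fact (Nat.Prime 5) := ⟨by norm_num⟩
  rw [S0813.result (F := F) 5 1 le_rfl (by rw [hF, pow_one]) 2 le_rfl (by norm_num)]
  have h1 := S0265.card_GL_eq_PGL (F := F) (n := 2) (by norm_num)
  rw [Matrix.card_GL_field, Fin.prod_univ_two, hF, Nat.card_units, Nat.card_eq_fintype_card, hF] at h1
  simp only [if_true]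
  norm_num at h1
  omega

end Cfsg.Agent.H892.GroupD
end

-- part: H892/GroupE
section
/-!
# Perfect groups with cyclic Sylow `3`-subgroups: normal subgroups of odd order
-/

set_option autoImplicit false

namespace Cfsg.Agent.H892.GroupE

open Subgroup Cfsg.Agent.H892.GroupB
open scoped commutatorElement

theorem isCyclic_of_le {G : Type*} [Group G] {A B : Subgroup G} (h : A ≤ B) (hB : IsCyclic B) : IsCyclic A :=
  isCyclic_of_injective (inclusion h) (inclusion_injective h)

/-- Elements normalising a cyclic group act on it by commuting automorphisms. -/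
theorem comm_of_cyclic {G : Type*} [Group G] {T : Subgroup G} (hT : IsCyclic T) {a b : G}
    (ha : a ∈ normalizer (T : Set G)) (hb : b ∈ normalizer (T : Set G)) {x : G} (hx : x ∈ T) :
    a * b * x * (a * b)⁻¹ = b * a * x * (b * a)⁻¹ := by
  obtain ⟨⟨g, hg⟩, hgen⟩ := hT.exists_generator
  have hz : ∀ y ∈ T, ∃ k : ℤ, y = g ^ k := by
    intro y hy
    obtain ⟨k, hk⟩ := mem_zpowers_iff.1 (hgen ⟨y, hy⟩)
    exact ⟨k, (congrArg Subtype.val hk).symm⟩
  obtain ⟨i, hi⟩ := hz _ ((mem_normalizer_iff.1 ha g).1 hg)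
  obtain ⟨j, hj⟩ := hz _ ((mem_normalizer_iff.1 hb g).1 hg)
  have ha' : ∀ k : ℤ, a * g ^ k * a⁻¹ = g ^ (i * k) := by
    intro k
    rw [← conj_zpow, hi, zpow_mul]
  have hb' : ∀ k : ℤ, b * g ^ k * b⁻¹ = g ^ (j * k) := by
    intro k
    rw [← conj_zpow, hj, zpow_mul]
  obtain ⟨k, rfl⟩ := hz x hx
  have h1 : a * b * g ^ k * (a * b)⁻¹ = a * (b * g ^ k * b⁻¹) * a⁻¹ := by group
  have h2 : b * a * g ^ k * (b * a)⁻¹ = b * (a * g ^ k * a⁻¹) * b⁻¹ := by group
  rw [h1, h2, ha', hb', ha', hb']
  congr 1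
  ring

/-- In a perfect group with cyclic Sylow `3`-subgroups, normal subgroups of odd order have order prime to `3`. -/
theorem not_three_dvd {L : Type*} [Group L] [Finite L] (hL : commutator L = ⊤)
    (hcyc : ∀ P : Sylow 3 L, IsCyclic P) (M : Subgroup L) [hM : M.Normal] (hodd : ¬ 2 ∣ Nat.card M) :
    ¬ 3 ∣ Nat.card M := by
  intro h3
  have hfact : Fact (Nat.Prime 3) := ⟨by norm_num⟩
  obtain ⟨P0⟩ : Nonempty (Sylow 3 M) := inferInstance
  set T0 := (P0 : Subgroup M).map M.subtype with hT0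
  have hT0p : IsPGroup 3 T0 := P0.2.map _
  obtain ⟨T, hT⟩ := hT0p.exists_le_sylow
  have hTc := hcyc T
  have hT0c : IsCyclic T0 := isCyclic_of_le hT hTc
  have hP0c : IsCyclic P0 := isCyclic_of_injective (M.subtype.subgroupMap (P0 : Subgroup M)) (by
    intro x y hxy
    apply Subtype.ext
    apply Subtype.ext
    exact congrArg (fun w : (P0 : Subgroup M).map M.subtype => (w : L)) hxy)
  have hmin : (Nat.card M).minFac = 3 := by
    have h1 := Nat.minFac_le_of_dvd (by norm_num) h3
    have hne : Nat.card M ≠ 1 := by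
      intro h
      rw [h] at h3
      norm_num at h3
    have h2 := (Nat.minFac_prime hne).two_le
    have h4 : (Nat.card M).minFac ≠ 2 := by
      intro h
      rw [Nat.minFac_eq_two_iff] at h
      exact hodd h
    omega
  have hNC := hP0c.normalizer_le_centralizer hmin
  set Y := normalizer (T0 : Set L) with hY
  have hfr : Y ⊔ M = ⊤ := Sylow.normalizer_sup_eq_top P0
  -- `Y ∩ M` centralises `T0`
  have hYM : ∀ y ∈ Y, y ∈ M → ∀ x ∈ T0, y * x = x * y := by
    intro y hy hyM x hx
    obtain ⟨x', hx', rfl⟩ := hx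
    have h1 : (⟨y, hyM⟩ : M) ∈ normalizer ((P0 : Subgroup M) : Set M) := by
      rw [mem_normalizer_iff]
      intro w
      have h2 := mem_normalizer_iff.1 hy (w : L)
      have h3 : ∀ w : M, (w : L) ∈ T0 ↔ w ∈ P0 := by
        intro w
        rw [hT0]
        constructor
        · rintro ⟨w', hw', h⟩
          have : w' = w := Subtype.ext h
          rwa [← this]
        · intro h
          exact ⟨w, h, rfl⟩
      change w ∈ P0 ↔ (⟨y, hyM⟩ : M) * w * (⟨y, hyM⟩ : M)⁻¹ ∈ P0
      rw [← h3 w, ← h3]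
      exact h2
    have h2 := mem_centralizer_iff.1 (hNC h1) x' hx'
    have := congrArg (M.subtype) h2
    simpa using this.symm
  -- the derived subgroup of `Y` centralises `T0`
  have hYY : ⁅Y, Y⁆ ≤ centralizer (T0 : Set L) := by
    rw [commutator_le]
    intro a ha b hb
    rw [mem_centralizer_iff]
    intro x hx
    have h1 : a⁻¹ ∈ Y := inv_mem ha
    have h2 : b⁻¹ ∈ Y := inv_mem hb
    have h4 : b⁻¹ * a⁻¹ * x * (b⁻¹ * a⁻¹)⁻¹ ∈ T0 := (mem_normalizer_iff.1 (mul_mem h2 h1) x).1 hx
    have h5 := comm_of_cyclic hT0c h1 h2 hx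
    have h6 : ⁅a, b⁆ * x * ⁅a, b⁆⁻¹ = x := by
      have h7 := comm_of_cyclic hT0c ha hb ((mem_normalizer_iff.1 (mul_mem h1 h2) x).1 hx)
      calc ⁅a, b⁆ * x * ⁅a, b⁆⁻¹ = a * b * (a⁻¹ * b⁻¹ * x * (a⁻¹ * b⁻¹)⁻¹) * (a * b)⁻¹ := by
            rw [commutatorElement_def]; group
        _ = b * a * (a⁻¹ * b⁻¹ * x * (a⁻¹ * b⁻¹)⁻¹) * (b * a)⁻¹ := h7
        _ = x := by group
    calc x * ⁅a, b⁆ = ⁅a, b⁆ * x * ⁅a, b⁆⁻¹ * ⁅a, b⁆ := by rw [h6]
      _ = ⁅a, b⁆ * x := by group
  have hYC : Y ≤ centralizer (T0 : Set L) := by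
    intro c hc
    set q := QuotientGroup.mk' M with hq
    have hmap : Y.map q = ⊤ := by
      rw [eq_top_iff]
      intro w _
      obtain ⟨w, rfl⟩ := QuotientGroup.mk'_surjective M w
      have hw : w ∈ Y ⊔ M := by rw [hfr]; trivial
      obtain ⟨y, hy, m, hm, rfl⟩ := mem_sup_of_normal_right.1 hw
      refine ⟨y, hy, ?_⟩
      rw [map_mul]
      have : (QuotientGroup.mk' M) m = 1 := by rwa [QuotientGroup.mk'_apply, QuotientGroup.eq_one_iff]
      rw [this, mul_one]
    have hD : (⁅Y, Y⁆ : Subgroup L).map q = ⊤ := by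
      rw [map_commutator, hmap, ← _root_.commutator_def]
      exact perfect_map hL (QuotientGroup.mk'_surjective M)
    have h1 : q c ∈ (⁅Y, Y⁆ : Subgroup L).map q := by rw [hD]; trivial
    obtain ⟨d, hd, hdc⟩ := h1
    have hdY : d ∈ Y := (commutator_le_self Y) hd
    have h2 : d⁻¹ * c ∈ M := by
      rw [← QuotientGroup.eq_one_iff, ← QuotientGroup.mk'_apply, map_mul, map_inv]
      rw [← hq, hdc, inv_mul_cancel]
    have h4 : d⁻¹ * c ∈ centralizer (T0 : Set L) := by
      rw [mem_centralizer_iff]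
      intro x hx
      exact (hYM _ (mul_mem (inv_mem hdY) hc) h2 x hx).symm
    have := mul_mem (hYY hd) h4
    rwa [mul_inv_cancel_left] at this
  -- `T0 = T ∩ M`
  have hTM : T0 = (T : Subgroup L) ⊓ M := by
    apply le_antisymm
    · apply le_inf hT
      rintro _ ⟨x, _, rfl⟩
      exact x.2
    · have h1 : IsPGroup 3 ((T : Subgroup L).subgroupOf M) := by
        have : IsPGroup 3 ((T : Subgroup L) ⊓ M : Subgroup L) := T.2.to_le inf_le_left
        exact T.2.comap_subtype
      have h2 : (P0 : Subgroup M) ≤ (T : Subgroup L).subgroupOf M := by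
        intro x hx
        rw [mem_subgroupOf]
        exact hT ⟨x, hx, rfl⟩
      have h4 := P0.3 h1 h2
      rintro x ⟨hx, hxM⟩
      refine ⟨⟨x, hxM⟩, ?_, rfl⟩
      rw [← h4]
      exact hx
  have hTcomm : IsMulCommutative T := IsCyclic.isMulCommutative
  have hhom : ∀ (f : L →* T) (x : L), f x = 1 := by
    intro f x
    have : Group.IsSolvable T := Group.isSolvable_of_comm fun a b => hTcomm.is_comm.comm a b
    exact TwoFusion.PerfectOnTwo.hom_eq_one hL f x
  obtain ⟨z, hz⟩ := exists_prime_orderOf_dvd_card' (G := P0) 3 (by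
    rw [P0.card_eq_multiplicity]
    apply dvd_pow_self
    exact (Nat.Prime.factorization_pos_of_dvd hfact.out Nat.card_pos.ne' h3).ne')
  have hzT0 : ((z : M) : L) ∈ T0 := ⟨z, z.2, rfl⟩
  have h1 := Transfer.ResidualComplement.eq_one_of_mem_center_normalizer T hhom ((z : M) : L) (hT hzT0) (by
    intro n hn
    have hnY : n ∈ Y := by
      rw [hY, mem_normalizer_iff]
      intro w
      rw [hTM]
      have h5 := mem_normalizer_iff.1 hn w
      constructor
      · rintro ⟨h6, h7⟩
        exact ⟨h5.1 h6, hM.conj_mem w h7 n⟩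
      · rintro ⟨h6, h7⟩
        refine ⟨h5.2 h6, ?_⟩
        have := hM.conj_mem _ h7 n⁻¹
        have e : n⁻¹ * (n * w * n⁻¹) * n⁻¹⁻¹ = w := by group
        rwa [e] at this
    exact (mem_centralizer_iff.1 (hYC hnY) _ hzT0).symm)
  have h2 : z = 1 := by
    apply Subtype.ext
    apply Subtype.ext
    exact h1
  rw [h2, orderOf_one] at hz
  norm_num at hz

end Cfsg.Agent.H892.GroupE
end

-- part: H892/GroupF
section
/-!
# `SL₂(3)` acting on a normal subgroup of order prime to six
-/

set_option autoImplicit false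
set_option linter.unusedSimpArgs false

namespace Cfsg.Agent.H892.GroupF

open Subgroup Cfsg.Agent.H892.ModCase Cfsg.Agent.H892.GroupB Cfsg.Agent.Transfer.SL23Recog
open scoped commutatorElement

universe u

variable {L : Type u} [Group L]

theorem comm_of_sq {a b : L} {n : ℕ} (hn : Odd n) (ha : a ^ n = 1) (h : a ^ 2 * b = b * a ^ 2) : a * b = b * a := by
  obtain ⟨k, hk⟩ := hn
  have h1 : Commute (a ^ 2) b := h
  have h2 : Commute ((a ^ 2) ^ (k + 1)) b := h1.pow_left _
  have h3 : (a ^ 2) ^ (k + 1) = a := by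
    rw [← pow_mul]
    have : 2 * (k + 1) = n + 1 := by omega
    rw [this, pow_succ, ha, one_mul]
  rw [h3] at h2
  exact h2

theorem eq_one_of_sq {a : L} {n : ℕ} (hn : Odd n) (ha : a ^ n = 1) (h : a * a = 1) : a = 1 := by
  obtain ⟨k, hk⟩ := hn
  have h1 : a ^ n = a := by
    rw [hk, pow_succ, pow_mul, pow_two, h, one_pow, one_mul]
  rw [← h1, ha]

/-- fixed points of a product `x x^g` -/
theorem fixed_of_sq {D : Subgroup L} {n : ℕ} (hn : Odd n) (hD : ∀ d ∈ D, d ^ n = 1) {g : L}
    (hgg : ∀ x, g * g * x = x * (g * g)) (hgD : ∀ d ∈ D, g * d * g⁻¹ ∈ D)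
    (hgD' : ∀ d ∈ ⁅D, D⁆, g * d * g⁻¹ = d) {x : L} (hx : x ∈ D) :
    g * (x * (g * x * g⁻¹)) * g⁻¹ = x * (g * x * g⁻¹) := by
  have h1 : g * (g * x * g⁻¹) * g⁻¹ = x := by
    calc g * (g * x * g⁻¹) * g⁻¹ = g * g * x * (g * g)⁻¹ := by group
      _ = x := by rw [hgg, mul_inv_cancel_right]
  set q := x * (g * x * g⁻¹) with hq
  have h2 : g * q * g⁻¹ = (g * x * g⁻¹) * x := by
    calc g * q * g⁻¹ = (g * x * g⁻¹) * (g * (g * x * g⁻¹) * g⁻¹) := by rw [hq]; group
      _ = _ := by rw [h1]
  set d := q⁻¹ * (g * q * g⁻¹) with hd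
  have hd' : d ∈ ⁅D, D⁆ := by
    have : d = ⁅(g * x * g⁻¹)⁻¹, x⁻¹⁆ := by
      rw [hd, h2, hq, commutatorElement_def]
      group
    rw [this]
    exact commutator_mem_commutator (inv_mem (hgD x hx)) (inv_mem hx)
  have h3 : g * q * g⁻¹ = q * d := by rw [hd, mul_inv_cancel_left]
  have h4 : g * (g * q * g⁻¹) * g⁻¹ = q := by
    calc g * (g * q * g⁻¹) * g⁻¹ = g * g * q * (g * g)⁻¹ := by group
      _ = q := by rw [hgg, mul_inv_cancel_right]
  have h5 : q = q * (d * d) := by
    calc q = g * (g * q * g⁻¹) * g⁻¹ := h4.symm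
      _ = g * (q * d) * g⁻¹ := by rw [h3]
      _ = (g * q * g⁻¹) * (g * d * g⁻¹) := by group
      _ = q * d * d := by rw [h3, hgD' d hd']
      _ = q * (d * d) := by rw [mul_assoc]
  have h6 : d * d = 1 := (mul_eq_left.1 h5.symm)
  have h7 : d = 1 := eq_one_of_sq hn (hD d (commutator_le_self D hd')) h6
  rw [h3, h7, mul_one]

theorem exists_three [Finite L] (hFT : FT.{u}) {M : Subgroup L} [hM : M.Normal] (hodd : Odd (Nat.card M))
    (h3 : Nat.Coprime 3 (Nat.card M)) {i j w : L} (hrel : SLRel i j w) (hw : orderOf w = 3)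
    (hz : ∀ x, i * i * x = x * (i * i)) (hjj : j * j = i * i) (hne : ∃ m ∈ M, i * m ≠ m * i) : Conf L := by
  have hw3 : w ^ 3 = 1 := by rw [← hw, pow_orderOf_eq_one]
  have hMn : ∀ m ∈ M, m ^ Nat.card M = 1 := by
    intro m hm
    have := pow_card_eq_one' (x := (⟨m, hm⟩ : M))
    exact congrArg Subtype.val this
  -- the minimal subgroup
  let S : Set (Subgroup L) := {D | D ≤ M ∧ (∀ d ∈ D, i * d * i⁻¹ ∈ D) ∧ (∀ d ∈ D, j * d * j⁻¹ ∈ D) ∧
    (∀ d ∈ D, w * d * w⁻¹ ∈ D) ∧ ∃ d ∈ D, i * d ≠ d * i}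
  have hSne : S.Nonempty := ⟨M, le_rfl, fun d hd => hM.conj_mem d hd i, fun d hd => hM.conj_mem d hd j,
    fun d hd => hM.conj_mem d hd w, hne⟩
  obtain ⟨D, ⟨hDM, hDi, hDj, hDw, hDne⟩, hDmin⟩ := WellFounded.has_min (wellFounded_lt (α := Subgroup L)) S hSne
  have hDn : ∀ m ∈ D, m ^ Nat.card M = 1 := fun m hm => hMn m (hDM hm)
  have hDw' : ∀ d ∈ D, w⁻¹ * d * w ∈ D := by
    intro d hd
    have h1 := hDw _ (hDw d hd)
    have h2 : w * (w * d * w⁻¹) * w⁻¹ = w⁻¹ * d * w := by
      calc w * (w * d * w⁻¹) * w⁻¹ = w⁻¹ * w ^ 3 * d * (w ^ 3)⁻¹ * w := by simp only [pow_succ, pow_zero, one_mul, mul_inv_rev, inv_inv, mul_assoc, mul_inv_cancel_left, inv_mul_cancel_left, mul_inv_cancel, inv_mul_cancel, mul_one, inv_one]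
        _ = w⁻¹ * d * w := by rw [hw3]; group
    rwa [h2] at h1
  have hwi : w * i * w⁻¹ = j := hrel.hti
  have hwj : w * j * w⁻¹ = i * j := hrel.htj
  have hji : j * i * j = i := by
    have h1 : j * i * j⁻¹ = i⁻¹ := hrel.hji
    calc j * i * j = (j * i * j⁻¹) * (j * j) := by group
      _ = i := by rw [h1, hjj]; group
  have hwk : w * (i * j) * w⁻¹ = i := by
    calc w * (i * j) * w⁻¹ = (w * i * w⁻¹) * (w * j * w⁻¹) := by group
      _ = i := by rw [hwi, hwj, ← mul_assoc, hji]
  -- the commutator subgroup of `D` is centralised by `i`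
  have hD'lt : ⁅D, D⁆ < D := by
    refine lt_of_le_of_ne (commutator_le_self D) ?_
    intro h
    have h1 := perfect_of_commutator_eq h
    have h2 : Odd (Nat.card D) := Odd.of_dvd_nat hodd (card_dvd_of_le hDM)
    have h4 := subsingleton_of_solvable h1 (hFT D h2)
    obtain ⟨d, hd, hd'⟩ := hDne
    apply hd'
    have h5 : (⟨d, hd⟩ : D) = 1 := Subsingleton.elim _ _
    have h6 : d = 1 := congrArg Subtype.val h5
    rw [h6, mul_one, one_mul]
  have hconj : ∀ g : L, (∀ d ∈ D, g * d * g⁻¹ ∈ D) → ∀ d ∈ ⁅D, D⁆, g * d * g⁻¹ ∈ ⁅D, D⁆ := by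
    intro g hg d hd
    have h1 : ⁅D, D⁆ ≤ (⁅D, D⁆).comap (MulAut.conj g).toMonoidHom := by
      rw [commutator_le]
      intro a ha b hb
      rw [mem_comap]
      have h2 : (MulAut.conj g).toMonoidHom ⁅a, b⁆ = ⁅g * a * g⁻¹, g * b * g⁻¹⁆ := by
        rw [map_commutatorElement]
        rfl
      rw [h2]
      exact commutator_mem_commutator (hg a ha) (hg b hb)
    exact h1 hd
  have hD'i : ∀ d ∈ ⁅D, D⁆, i * d = d * i := by
    by_contra hcon
    push Not at hcon
    exact hDmin ⁅D, D⁆ ⟨hD'lt.le.trans hDM, hconj i hDi, hconj j hDj, hconj w hDw, hcon⟩ hD'lt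
  have hD'i' : ∀ d ∈ ⁅D, D⁆, i * d * i⁻¹ = d := fun d hd => by rw [hD'i d hd, mul_inv_cancel_right]
  have hw'conj : ∀ d ∈ ⁅D, D⁆, w⁻¹ * d * w ∈ ⁅D, D⁆ := by
    intro d hd
    have h1 := hconj w⁻¹ (fun d hd => by
      have := hDw' d hd
      rwa [inv_inv]) d hd
    rwa [inv_inv] at h1
  have hD'j' : ∀ d ∈ ⁅D, D⁆, j * d * j⁻¹ = d := by
    intro d hd
    have h1 := hD'i' _ (hw'conj d hd)
    calc j * d * j⁻¹ = w * (i * (w⁻¹ * d * w) * i⁻¹) * w⁻¹ := by rw [← hwi]; group
      _ = d := by rw [h1]; group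
  have hD'k' : ∀ d ∈ ⁅D, D⁆, (i * j) * d * (i * j)⁻¹ = d := by
    intro d hd
    calc (i * j) * d * (i * j)⁻¹ = i * (j * d * j⁻¹) * i⁻¹ := by group
      _ = d := by rw [hD'j' d hd, hD'i' d hd]
  have hzj : ∀ x, j * j * x = x * (j * j) := by rw [hjj]; exact hz
  have hkk : (i * j) * (i * j) = i * i := by
    calc (i * j) * (i * j) = i * (j * i * j) := by group
      _ = i * i := by rw [hji]
  have hzk : ∀ x, (i * j) * (i * j) * x = x * ((i * j) * (i * j)) := by rw [hkk]; exact hz
  have hDk : ∀ d ∈ D, (i * j) * d * (i * j)⁻¹ ∈ D := by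
    intro d hd
    have := hDi _ (hDj d hd)
    have e : i * (j * d * j⁻¹) * i⁻¹ = (i * j) * d * (i * j)⁻¹ := by group
    rwa [e] at this
  -- an element fixed by `i` and not by `j`
  obtain ⟨y0, hy0D, hy0i, hy0j⟩ : ∃ y ∈ D, i * y * i⁻¹ = y ∧ j * y * j⁻¹ ≠ y := by
    by_contra hcon
    push Not at hcon
    have H1 : ∀ y ∈ D, j * y * j⁻¹ = y → (i * j) * y * (i * j)⁻¹ = y := by
      intro y hy hyj
      have h1 := hcon (w⁻¹ * y * w) (hDw' y hy) (by
        calc i * (w⁻¹ * y * w) * i⁻¹ = w⁻¹ * ((w * i * w⁻¹) * y * (w * i * w⁻¹)⁻¹) * w := by group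
          _ = w⁻¹ * y * w := by rw [hwi, hyj])
      calc (i * j) * y * (i * j)⁻¹ = (w * j * w⁻¹) * y * (w * j * w⁻¹)⁻¹ := by rw [hwj]
        _ = w * (j * (w⁻¹ * y * w) * j⁻¹) * w⁻¹ := by group
        _ = y := by rw [h1]; group
    have H2 : ∀ y ∈ D, (i * j) * y * (i * j)⁻¹ = y → i * y * i⁻¹ = y := by
      intro y hy hyk
      have h1 := H1 (w⁻¹ * y * w) (hDw' y hy) (by
        calc j * (w⁻¹ * y * w) * j⁻¹ = w⁻¹ * ((w * j * w⁻¹) * y * (w * j * w⁻¹)⁻¹) * w := by group
          _ = w⁻¹ * y * w := by rw [hwj, hyk])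
      calc i * y * i⁻¹ = (w * (i * j) * w⁻¹) * y * (w * (i * j) * w⁻¹)⁻¹ := by rw [hwk]
        _ = w * ((i * j) * (w⁻¹ * y * w) * (i * j)⁻¹) * w⁻¹ := by group
        _ = y := by rw [h1]; group
    obtain ⟨x, hx, hxi⟩ := hDne
    apply hxi
    set c1 := x * (i * x * i⁻¹) with hc1
    set c2 := x * (j * x * j⁻¹) with hc2
    set c3 := x * ((i * j) * x * (i * j)⁻¹) with hc3
    have m1 : c1 ∈ D := mul_mem hx (hDi x hx)
    have m2 : c2 ∈ D := mul_mem hx (hDj x hx)
    have m3 : c3 ∈ D := mul_mem hx (hDk x hx)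
    have f1 : i * c1 * i⁻¹ = c1 := fixed_of_sq hodd hDn hz hDi hD'i' hx
    have f2 : j * c2 * j⁻¹ = c2 := fixed_of_sq hodd hDn hzj hDj hD'j' hx
    have f3 : (i * j) * c3 * (i * j)⁻¹ = c3 := fixed_of_sq hodd hDn hzk hDk hD'k' hx
    have f2' : i * c2 * i⁻¹ = c2 := H2 _ m2 (H1 _ m2 f2)
    have f3' : i * c3 * i⁻¹ = c3 := H2 _ m3 f3
    have e1 : i * x * i⁻¹ = x⁻¹ * c1 := by rw [hc1, inv_mul_cancel_left]
    have e2 : j * x * j⁻¹ = x⁻¹ * c2 := by rw [hc2, inv_mul_cancel_left]
    have e3 : (i * j) * x * (i * j)⁻¹ = x⁻¹ * c3 := by rw [hc3, inv_mul_cancel_left]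
    have e4 : (i * j) * x * (i * j)⁻¹ = c1⁻¹ * x * c2 := by
      calc (i * j) * x * (i * j)⁻¹ = i * (j * x * j⁻¹) * i⁻¹ := by group
        _ = i * (x⁻¹ * c2) * i⁻¹ := by rw [e2]
        _ = (i * x * i⁻¹)⁻¹ * (i * c2 * i⁻¹) := by group
        _ = c1⁻¹ * x * c2 := by rw [e1, f2']; group
    have e5 : x * c1⁻¹ * x * c2 = c3 := by
      calc x * c1⁻¹ * x * c2 = x * (c1⁻¹ * x * c2) := by group
        _ = c3 := by rw [← e4, e3, mul_inv_cancel_left]
    have e6 : x⁻¹ * x⁻¹ * c1 * c2 = c3 := by
      calc x⁻¹ * x⁻¹ * c1 * c2 = (x⁻¹ * c1) * c1⁻¹ * (x⁻¹ * c1) * c2 := by group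
        _ = (i * x * i⁻¹) * (i * c1 * i⁻¹)⁻¹ * (i * x * i⁻¹) * (i * c2 * i⁻¹) := by rw [e1, f1, f2']
        _ = i * (x * c1⁻¹ * x * c2) * i⁻¹ := by group
        _ = c3 := by rw [e5, f3']
    have e7 : x * x = c1 * c2 * c3⁻¹ := by
      rw [← e6]
      simp only [pow_succ, pow_zero, one_mul, mul_inv_rev, inv_inv, mul_assoc, mul_inv_cancel_left, inv_mul_cancel_left, mul_inv_cancel, inv_mul_cancel, mul_one, inv_one]
    have e8 : i * (x * x) * i⁻¹ = x * x := by
      calc i * (x * x) * i⁻¹ = (i * c1 * i⁻¹) * (i * c2 * i⁻¹) * (i * c3 * i⁻¹)⁻¹ := by rw [e7]; group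
        _ = x * x := by rw [f1, f2', f3', e7]
    have e9 : x ^ 2 * i = i * x ^ 2 := by
      rw [pow_two]
      calc x * x * i = (i * (x * x) * i⁻¹) * i := by rw [e8]
        _ = i * (x * x) := by group
    exact (comm_of_sq hodd (hDn x hx) e9).symm
  -- the inverted element
  set y := y0⁻¹ * (j * y0 * j⁻¹) with hy
  have hyD : y ∈ D := mul_mem (inv_mem hy0D) (hDj _ hy0D)
  have hy1 : y ≠ 1 := by
    intro h
    apply hy0j
    rw [hy, inv_mul_eq_one] at h
    exact h.symm
  have hjy : j * y * j⁻¹ = y⁻¹ := by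
    calc j * y * j⁻¹ = (j * y0 * j⁻¹)⁻¹ * (j * j * y0 * (j * j)⁻¹) := by rw [hy]; group
      _ = y⁻¹ := by rw [hzj, mul_inv_cancel_right, hy]; group
  have hiy : i * y * i⁻¹ = y := by
    have h1 : i * (j * y0 * j⁻¹) * i⁻¹ = j * y0 * j⁻¹ := by
      have h2 : i * j = j * i * (i * i)⁻¹ := by
        have h4 : j * i * j⁻¹ = i⁻¹ := hrel.hji
        have h5 : i * i * (i * i) = 1 := by
          have := hrel.hi
          rw [← this]
          simp only [pow_succ, pow_zero, one_mul, mul_inv_rev, inv_inv, mul_assoc, mul_inv_cancel_left, inv_mul_cancel_left, mul_inv_cancel, inv_mul_cancel, mul_one, inv_one]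
        calc i * j = (j * i * j⁻¹)⁻¹ * j := by rw [h4, inv_inv]
          _ = j * i⁻¹ := by group
          _ = j * i * (i * i)⁻¹ := by group
      calc i * (j * y0 * j⁻¹) * i⁻¹ = (i * j) * y0 * (i * j)⁻¹ := by group
        _ = j * i * ((i * i)⁻¹ * y0) * (i * i) * i⁻¹ * j⁻¹ := by rw [h2]; group
        _ = j * i * (y0 * (i * i)⁻¹) * (i * i) * i⁻¹ * j⁻¹ := by
          have h6 : (i * i)⁻¹ * y0 = y0 * (i * i)⁻¹ := by
            rw [inv_mul_eq_iff_eq_mul, ← mul_assoc, hz, mul_inv_cancel_right]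
          rw [h6]
        _ = j * (i * y0 * i⁻¹) * j⁻¹ := by group
        _ = j * y0 * j⁻¹ := by rw [hy0i]
    calc i * y * i⁻¹ = (i * y0 * i⁻¹)⁻¹ * (i * (j * y0 * j⁻¹) * i⁻¹) := by rw [hy]; group
      _ = y := by rw [hy0i, h1]
  set y1 := w * y * w⁻¹ with hy1'
  have hy1D : y1 ∈ D := hDw y hyD
  have hjy1 : j * y1 * j⁻¹ = y1 := by
    calc j * y1 * j⁻¹ = w * (i * y * i⁻¹) * w⁻¹ := by rw [hy1', ← hwi]; group
      _ = y1 := by rw [hiy]
  have hky1 : (i * j) * y1 * (i * j)⁻¹ = y1⁻¹ := by
    calc (i * j) * y1 * (i * j)⁻¹ = w * (j * y * j⁻¹) * w⁻¹ := by rw [hy1', ← hwj]; group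
      _ = y1⁻¹ := by rw [hjy, hy1']; group
  have hiy1 : i * y1 * i⁻¹ = y1⁻¹ := by
    calc i * y1 * i⁻¹ = i * (j * y1 * j⁻¹) * i⁻¹ := by rw [hjy1]
      _ = (i * j) * y1 * (i * j)⁻¹ := by group
      _ = y1⁻¹ := hky1
  have hcomm : y1 * y = y * y1 := by
    have h1 := hD'i' ⁅y, y1⁆ (commutator_mem_commutator hyD hy1D)
    have h2 : i * ⁅y, y1⁆ * i⁻¹ = y * y1⁻¹ * y⁻¹ * y1 := by
      calc i * ⁅y, y1⁆ * i⁻¹ = (i * y * i⁻¹) * (i * y1 * i⁻¹) * (i * y * i⁻¹)⁻¹ * (i * y1 * i⁻¹)⁻¹ := by
            rw [commutatorElement_def]; group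
        _ = y * y1⁻¹ * y⁻¹ * y1 := by rw [hiy, hiy1, inv_inv]
    rw [h2, commutatorElement_def] at h1
    have h4 : y1⁻¹ * y⁻¹ * y1 = y1 * y⁻¹ * y1⁻¹ := by
      calc y1⁻¹ * y⁻¹ * y1 = y⁻¹ * (y * y1⁻¹ * y⁻¹ * y1) := by group
        _ = y1 * y⁻¹ * y1⁻¹ := by rw [h1]; group
    have h5 : y1 ^ 2 * y⁻¹ = y⁻¹ * y1 ^ 2 := by
      calc y1 ^ 2 * y⁻¹ = y1 * (y1 * y⁻¹ * y1⁻¹) * y1 := by simp only [pow_succ, pow_zero, one_mul, mul_inv_rev, inv_inv, mul_assoc, mul_inv_cancel_left, inv_mul_cancel_left, mul_inv_cancel, inv_mul_cancel, mul_one, inv_one]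
        _ = y1 * (y1⁻¹ * y⁻¹ * y1) * y1 := by rw [h4]
        _ = y⁻¹ * y1 ^ 2 := by simp only [pow_succ, pow_zero, one_mul, mul_inv_rev, inv_inv, mul_assoc, mul_inv_cancel_left, inv_mul_cancel_left, mul_inv_cancel, inv_mul_cancel, mul_one, inv_one]
    have h6 := comm_of_sq hodd (hDn y1 hy1D) h5
    have h7 : Commute y1 y⁻¹ := h6
    exact (Commute.inv_right_iff.1 h7)
  set y2 := w * y1 * w⁻¹ with hy2
  have hwy2 : w * y2 * w⁻¹ = y := by
    calc w * y2 * w⁻¹ = w ^ 3 * y * (w ^ 3)⁻¹ := by rw [hy2, hy1']; simp only [pow_succ, pow_zero, one_mul, mul_inv_rev, inv_inv, mul_assoc, mul_inv_cancel_left, inv_mul_cancel_left, mul_inv_cancel, inv_mul_cancel, mul_one, inv_one]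
      _ = y := by rw [hw3]; group
  have c01 : Commute y y1 := hcomm.symm
  have c12 : Commute y1 y2 := by
    have : y1 * y2 = y2 * y1 := by
      calc y1 * y2 = w * (y * y1) * w⁻¹ := by rw [hy2]; nth_rewrite 1 [hy1']; group
        _ = w * (y1 * y) * w⁻¹ := by rw [hcomm]
        _ = y2 * y1 := by rw [hy2]; nth_rewrite 3 [hy1']; group
    exact this
  have c20 : Commute y2 y := by
    have : y2 * y = y * y2 := by
      calc y2 * y = w * (y1 * y2) * w⁻¹ := by
            conv_lhs => rw [← hwy2]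
            rw [hy2]; group
        _ = w * (y2 * y1) * w⁻¹ := by rw [c12.eq]
        _ = y * y2 := by
            conv_rhs => rw [← hwy2]
            rw [hy2]; group
    exact this
  have hgw : w * (y * y1⁻¹) * w⁻¹ = y1 * y2⁻¹ := by rw [hy2, hy1']; group
  have hgw2 : w ^ 2 * (y * y1⁻¹) * (w ^ 2)⁻¹ = y2 * y⁻¹ := by
    calc w ^ 2 * (y * y1⁻¹) * (w ^ 2)⁻¹ = w * (w * (y * y1⁻¹) * w⁻¹) * w⁻¹ := by simp only [pow_succ, pow_zero, one_mul, mul_inv_rev, inv_inv, mul_assoc, mul_inv_cancel_left, inv_mul_cancel_left, mul_inv_cancel, inv_mul_cancel, mul_one, inv_one]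
      _ = w * (y1 * y2⁻¹) * w⁻¹ := by rw [hgw]
      _ = (w * y1 * w⁻¹) * (w * y2 * w⁻¹)⁻¹ := by group
      _ = y2 * y⁻¹ := by rw [hwy2]
  refine Conf.three w (y * y1⁻¹) hw ?_ (Nat.card M) h3 (hDn _ (mul_mem hyD (inv_mem hy1D))) ?_ ?_
  · intro h
    have h1 : y = y1 := mul_inv_eq_one.1 h
    have h2 : y = y⁻¹ := by
      calc y = i * y * i⁻¹ := hiy.symm
        _ = i * y1 * i⁻¹ := by rw [← h1]
        _ = y⁻¹ := by rw [hiy1, ← h1]
    apply hy1
    apply eq_one_of_sq hodd (hDn y hyD)
    nth_rewrite 2 [h2]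
    exact mul_inv_cancel y
  · rw [hgw]
    exact (c01.mul_right c20.symm.inv_right).mul_left ((Commute.refl y1).mul_right c12.inv_right).inv_left
  · rw [hgw, hgw2]
    calc y * y1⁻¹ * (y1 * y2⁻¹) * (y2 * y⁻¹) = 1 := by group

end Cfsg.Agent.H892.GroupF
end

-- part: H892/GroupG
section
/-!
# Finite groups whose solvable radical has index more than 120 contain one of four configurations
-/

set_option autoImplicit false

namespace Cfsg.Agent.H892.GroupG

open Subgroup Cfsg.Agent.H892.ModCase Cfsg.Agent.H892.GroupA Cfsg.Agent.H892.GroupB Cfsg.Agent.H892.CoprimeChar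
open Cfsg.Agent.Transfer.SL23Recog Cfsg.Agent.ClassicalGeometry.SplitTorus
open Cfsg.Agent.SylowSp4

universe u

/-- Subgroups of order prime to the kernel lift. -/
theorem exists_section {L N : Type*} [Group L] [Finite L] [Group N] {π : L →* N} (hπ : Function.Surjective π)
    {X : Subgroup N} (hX : Nat.Coprime (Nat.card π.ker) (Nat.card X)) : ∃ σ : X →* L, ∀ x, π (σ x) = x := by
  let f : X.comap π →* X := π.subgroupComap X
  have hf : Function.Surjective f := by
    rintro ⟨x, hx⟩
    obtain ⟨l, rfl⟩ := hπ x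
    exact ⟨⟨l, hx⟩, rfl⟩
  have hk : Nat.card f.ker ∣ Nat.card π.ker := by
    let i : f.ker →* π.ker :=
      { toFun := fun x => ⟨((x : X.comap π) : L), by
          have h1 : f x = 1 := x.2
          exact congrArg Subtype.val h1⟩
        map_one' := rfl
        map_mul' := fun _ _ => rfl }
    apply Subgroup.card_dvd_of_injective i
    intro x y hxy
    apply Subtype.ext
    apply Subtype.ext
    exact congrArg (fun z : π.ker => (z : L)) hxy
  have hi : f.ker.index = Nat.card X := by
    rw [index_ker, MonoidHom.range_eq_top.2 hf, Subgroup.card_top]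
  obtain ⟨C, hC⟩ := Subgroup.exists_right_complement'_of_coprime (N := f.ker) (by
    rw [hi]
    exact Nat.Coprime.coprime_dvd_left hk hX)
  have hbij : Function.Bijective (f.comp C.subtype) := by
    constructor
    · rw [injective_iff_map_eq_one]
      intro x hx
      have h1 : (x : X.comap π) ∈ f.ker ⊓ C := ⟨hx, x.2⟩
      rw [hC.disjoint.eq_bot, mem_bot] at h1
      exact Subtype.ext h1
    · intro y
      obtain ⟨x, rfl⟩ := hf y
      obtain ⟨⟨a, b⟩, rfl⟩ := hC.2 x
      refine ⟨b, ?_⟩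
      have h2 : f a = 1 := a.2
      rw [map_mul, h2, one_mul]
      rfl
  let e : C ≃* X := MulEquiv.ofBijective _ hbij
  refine ⟨(X.comap π).subtype.comp (C.subtype.comp e.symm.toMonoidHom), fun x => ?_⟩
  have h1 : e (e.symm x) = x := e.apply_symm_apply x
  exact congrArg Subtype.val h1

theorem conf_sl {p : ℕ} [hp : Fact p.Prime] (hp7 : 7 ≤ p) : Conf (SS p) := by
  have hpp := hp.out
  by_cases h3 : p % 3 = 2
  · refine Conf.sl p hpp ?_ h3 (MonoidHom.id _) Function.injective_id
    by_contra hcon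
    push Not at hcon
    interval_cases p
    · norm_num at h3
    · exact absurd hpp (by norm_num)
    · exact absurd hpp (by norm_num)
    · exact absurd hpp (by norm_num)
  · have h30 : p % 3 ≠ 0 := by
      intro h
      have h1 : 3 ∣ p := Nat.dvd_of_mod_eq_zero h
      rw [Nat.prime_dvd_prime_iff_eq Nat.prime_three hpp] at h1
      omega
    have h31 : 3 ∣ p - 1 := by omega
    have : Fact (Nat.Prime 3) := ⟨Nat.prime_three⟩
    obtain ⟨ω, hω⟩ : ∃ ω : (ZMod p)ˣ, orderOf ω = 3 := by
      apply exists_prime_orderOf_dvd_card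
      rw [ZMod.card_units]
      exact h31
    have hω3 : ω ^ 3 = 1 := by rw [← hω, pow_orderOf_eq_one]
    have hω1 : ω ≠ 1 := by
      intro h
      rw [h, orderOf_one] at hω
      norm_num at hω
    set a : ZMod p := (ω : ZMod p) with ha
    have ha3 : a ^ 3 = 1 := by
      rw [ha, ← Units.val_pow_eq_pow_val, hω3, Units.val_one]
    have ha1 : a ≠ 1 := by
      intro h
      exact hω1 (Units.ext h)
    have haa : 1 + a + a ^ 2 = 0 := by
      have h1 : (a - 1) * (1 + a + a ^ 2) = 0 := by
        calc (a - 1) * (1 + a + a ^ 2) = a ^ 3 - 1 := by ring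
          _ = 0 := by rw [ha3, sub_self]
      rcases mul_eq_zero.1 h1 with h | h
      · exact absurd (sub_eq_zero.1 h) ha1
      · exact h
    have hc1 : dg ω * up 1 * (dg ω)⁻¹ = up (a ^ 2) := by rw [dg_conj_up, mul_one]
    have hc2 : dg ω ^ 2 * up 1 * (dg ω ^ 2)⁻¹ = up a := by
      rw [pow_two, ← dg_mul, dg_conj_up]
      congr 1
      rw [Units.val_mul]
      calc (a * a) ^ 2 * 1 = a ^ 3 * a := by ring
        _ = a := by rw [ha3, one_mul]
    refine Conf.three (dg ω) (up 1) ?_ (up_ne_one p) p ?_ ?_ ?_ ?_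
    · apply orderOf_eq_prime
      · have : dg ω ^ 3 = dg (ω ^ 3) := by
          have := (dgHom (ZMod p)).map_pow ω 3
          exact this.symm
        rw [this, hω3, dg_one]
      · intro h
        have h1 := congrArg (fun x : SS p => x 0 0) h
        simp only [dg00] at h1
        exact ha1 h1
    · rw [Nat.coprime_primes Nat.prime_three hpp]
      omega
    · have h1 := pow_orderOf_eq_one (up 1 : SS p)
      rwa [GroupC.orderOf_up (F := ZMod p) (p := p) one_ne_zero] at h1
    · rw [hc1, Commute, SemiconjBy, ← up_add, ← up_add, add_comm]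
    · rw [hc1, hc2, ← up_add, ← up_add]
      have : (1 : ZMod p) + a ^ 2 + a = 0 := by
        calc (1 : ZMod p) + a ^ 2 + a = 1 + a + a ^ 2 := by ring
          _ = 0 := haa
      rw [this, up_zero]

theorem conf_of_sl {F : Type} [Field F] {p : ℕ} [hp : Fact p.Prime] [CharP F p] (hp7 : 7 ≤ p)
    {L : Type*} [Group L] (e : Matrix.SpecialLinearGroup (Fin 2) F ≃* L) : Conf L := by
  let i : ZMod p →+* F := ZMod.castHom (dvd_refl p) F
  let f : SS p →* Matrix.SpecialLinearGroup (Fin 2) F := Matrix.SpecialLinearGroup.map i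
  have hf : Function.Injective f := by
    intro x y hxy
    ext a b
    have h1 : i (x a b) = i (y a b) := congrArg (fun z : Matrix.SpecialLinearGroup (Fin 2) F => z a b) hxy
    exact i.injective h1
  exact (conf_sl hp7).map (e.toMonoidHom.comp f) (e.injective.comp hf)

/-- The kernel of the map to `PSL₂`. -/
theorem ker_cases {L : Type*} [Group L] {F : Type*} [Field F]
    {π : L →* Matrix.SpecialLinearGroup (Fin 2) F} {c i j w : Matrix.SpecialLinearGroup (Fin 2) F}
    (h : GH.Cov.SLTwoFacts.SLFacts c i j w) {x : L}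
    (hx : x ∈ ((QuotientGroup.mk' (center (Matrix.SpecialLinearGroup (Fin 2) F))).comp π).ker) :
    π x = 1 ∨ π x = c := by
  rw [MonoidHom.mem_ker, MonoidHom.comp_apply, QuotientGroup.mk'_apply, QuotientGroup.eq_one_iff, mem_center_iff] at hx
  exact h.cent _ (hx i).symm (hx j).symm

theorem solvable_ker {L : Type*} [Group L] {F : Type*} [Field F]
    {π : L →* Matrix.SpecialLinearGroup (Fin 2) F} (hk : Group.IsSolvable π.ker) :
    Group.IsSolvable ((QuotientGroup.mk' (center (Matrix.SpecialLinearGroup (Fin 2) F))).comp π).ker := by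
  set f := (QuotientGroup.mk' (center (Matrix.SpecialLinearGroup (Fin 2) F))).comp π with hf
  have hle : π.ker ≤ f.ker := by
    intro x hx
    rw [MonoidHom.mem_ker] at hx
    rw [hf, MonoidHom.mem_ker, MonoidHom.comp_apply, hx, map_one]
  have hmem : ∀ x : f.ker, π x ∈ center (Matrix.SpecialLinearGroup (Fin 2) F) := by
    intro x
    have hx : (QuotientGroup.mk' (center (Matrix.SpecialLinearGroup (Fin 2) F))) (π x) = 1 := x.2
    rwa [QuotientGroup.mk'_apply, QuotientGroup.eq_one_iff] at hx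
  have hcs : Group.IsSolvable (center (Matrix.SpecialLinearGroup (Fin 2) F)) :=
    Group.isSolvable_of_comm (fun a b => Subtype.ext (mem_center_iff.1 b.2 a))
  let g : f.ker →* center (Matrix.SpecialLinearGroup (Fin 2) F) :=
    { toFun := fun x => ⟨π x, hmem x⟩
      map_one' := Subtype.ext (map_one π)
      map_mul' := fun x y => Subtype.ext (map_mul π _ _) }
  refine Group.isSolvable_of_ker_le_range (inclusion hle) g ?_
  intro x hx
  have h1 : π x = 1 := congrArg Subtype.val (show g x = 1 from hx)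
  exact ⟨⟨x, h1⟩, rfl⟩

theorem main_case (hFT : FT.{u}) {L : Type u} [Group L] [Finite L] (hL : commutator L = ⊤) (hC : ¬ Conf L)
    {z : L} (hz2 : orderOf z = 2)
    (hzc : ∀ y, y * z = z * y) {F : Type} [Field F] [Fintype F] (hodd : Odd (Fintype.card F))
    (e : L ⧸ Cfsg.oddCore L ≃* Matrix.SpecialLinearGroup (Fin 2) F) {p : ℕ} [hp : Fact p.Prime] [CharP F p]
    (hp7 : 7 ≤ p) : False := by
  classical
  have hn : (Cfsg.oddCore L).Normal := Cfsg.Agent.Lib.Cores.pPrimeCore_normal 2
  set M := Cfsg.oddCore L with hM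
  have hMco := Cfsg.Agent.Lib.Cores.pPrimeCore_coprime (G := L) 2
  have h2M : ¬ 2 ∣ Nat.card M := (Nat.Prime.coprime_iff_not_dvd Nat.prime_two).1 hMco.symm
  have hModd : Odd (Nat.card M) := by
    rw [← Nat.not_even_iff_odd, even_iff_two_dvd]
    exact h2M
  have h3M : ¬ 3 ∣ Nat.card M := by
    have : Fact (Nat.Prime 3) := ⟨Nat.prime_three⟩
    exact GroupE.not_three_dvd hL (fun P => GroupA.isCyclic hC (by norm_num) (by norm_num) P.2) M h2M
  have h3M' : Nat.Coprime 3 (Nat.card M) := (Nat.Prime.coprime_iff_not_dvd Nat.prime_three).2 h3M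
  set π : L →* Matrix.SpecialLinearGroup (Fin 2) F := e.toMonoidHom.comp (QuotientGroup.mk' M) with hπ
  have hπs : Function.Surjective π := e.surjective.comp (QuotientGroup.mk'_surjective M)
  have hπk : π.ker = M := by
    ext x
    rw [MonoidHom.mem_ker, hπ, MonoidHom.comp_apply]
    change e ((QuotientGroup.mk' M) x) = 1 ↔ _
    rw [EmbeddingLike.map_eq_one_iff, QuotientGroup.mk'_apply, QuotientGroup.eq_one_iff]
  obtain ⟨c, i, j, w, h⟩ := GH.Cov.SLTwoFacts.exists_sl (K := F) hodd
  -- lift `SL₂(3)`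
  have hXM : Nat.Coprime (Nat.card π.ker) (Nat.card (closure ({i, j, w} : Set (Matrix.SpecialLinearGroup (Fin 2) F)))) := by
    rw [h.card_B, hπk]
    have : (24 : ℕ) = 2 ^ 3 * 3 := by norm_num
    rw [this]
    exact Nat.Coprime.mul_right (Nat.Coprime.pow_right 3 hMco) h3M'.symm
  obtain ⟨σ, hσ⟩ := exists_section hπs hXM
  have hi : i ∈ closure ({i, j, w} : Set (Matrix.SpecialLinearGroup (Fin 2) F)) := subset_closure (by simp)
  have hj : j ∈ closure ({i, j, w} : Set (Matrix.SpecialLinearGroup (Fin 2) F)) := subset_closure (by simp)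
  have hw : w ∈ closure ({i, j, w} : Set (Matrix.SpecialLinearGroup (Fin 2) F)) := subset_closure (by simp)
  set i' := σ ⟨i, hi⟩ with hi'
  set j' := σ ⟨j, hj⟩ with hj'
  set w' := σ ⟨w, hw⟩ with hw'
  have hπi : π i' = i := hσ _
  have hπw : π w' = w := hσ _
  have hrel : SLRel i' j' w' :=
    { hi := by rw [hi', ← map_pow, ← map_one σ]; exact congrArg σ (Subtype.ext h.rel.hi)
      hj := by rw [hi', hj', ← map_pow, ← map_pow]; exact congrArg σ (Subtype.ext h.rel.hj)
      hji := by rw [hi', hj', ← map_inv, ← map_inv, ← map_mul, ← map_mul]; exact congrArg σ (Subtype.ext h.rel.hji)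
      hti := by rw [hi', hj', hw', ← map_inv, ← map_mul, ← map_mul]; exact congrArg σ (Subtype.ext h.rel.hti)
      htj := by
        rw [hi', hj', hw', ← map_inv, ← map_mul, ← map_mul, ← map_mul]
        exact congrArg σ (Subtype.ext h.rel.htj) }
  have hw3 : orderOf w' = 3 := by
    have : Fact (Nat.Prime 3) := ⟨Nat.prime_three⟩
    apply orderOf_eq_prime
    · rw [hw', ← map_pow, ← map_one σ]
      exact congrArg σ (Subtype.ext h.w3)
    · intro h1
      have h2 := h.orderOf_w
      rw [← hπw, h1, map_one, orderOf_one] at h2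
      norm_num at h2
  have hii : orderOf (i' * i') = 2 := by
    apply orderOf_eq_prime
    · have := hrel.hi
      rw [← this]
      simp only [pow_succ, pow_zero, one_mul, mul_assoc]
    · intro h1
      apply h.c_ne
      rw [← h.ii, ← hπi, ← map_mul, h1, map_one]
  have hiic : ∀ x, i' * i' * x = x * (i' * i') := fun x => (invol_central hC hii x).symm
  have hjj : j' * j' = i' * i' := by
    have := hrel.hj
    rwa [pow_two, pow_two] at this
  have hcent : ∀ m ∈ M, i' * m = m * i' := by
    by_contra hcon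
    push Not at hcon
    exact hC (GroupF.exists_three hFT hModd h3M' hrel hw3 hiic hjj hcon)
  -- the map to `PSL₂`
  set f : L →* Matrix.ProjectiveSpecialLinearGroup (Fin 2) F :=
    (QuotientGroup.mk' (center (Matrix.SpecialLinearGroup (Fin 2) F))).comp π with hf
  have hfs : Function.Surjective f := (QuotientGroup.mk'_surjective _).comp hπs
  have hperf : commutator (Matrix.SpecialLinearGroup (Fin 2) F) = ⊤ := perfect_map hL hπs
  have hsimple : IsSimpleGroup (Matrix.ProjectiveSpecialLinearGroup (Fin 2) F) :=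
    LieClassical.SLGen.psl_isSimpleGroup_of_perfect hperf
  have hMsol : Group.IsSolvable M := hFT M hModd
  have hKsol : Group.IsSolvable f.ker := solvable_ker (by rw [hπk]; exact hMsol)
  set C := centralizer (M : Set L) with hCdef
  have hCn : C.Normal := by
    rw [hCdef]
    infer_instance
  have hi'C : i' ∈ C := by
    rw [hCdef, mem_centralizer_iff]
    intro m hm
    exact (hcent m hm).symm
  have hCf : C.map f = ⊤ := by
    rcases IsSimpleGroup.eq_bot_or_eq_top_of_normal _ (hCn.map f hfs) with h1 | h1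
    · exfalso
      have h2 : f i' ∈ C.map f := mem_map_of_mem f hi'C
      rw [h1, mem_bot] at h2
      have h3 : π i' = 1 ∨ π i' = c := ker_cases h h2
      rw [hπi] at h3
      have h4 : ∀ x, i * x = x * i := by
        rcases h3 with h3 | h3
        · intro x
          rw [h3, one_mul, mul_one]
        · rw [h3]
          exact h.central
      have h5 := h.rel.hji
      rw [← h4, mul_inv_cancel_right] at h5
      apply h.c_ne
      rw [← h.ii]
      nth_rewrite 2 [h5]
      exact mul_inv_cancel i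
    · exact h1
  have hCtop : C = ⊤ := by
    have h1 : Function.Surjective ((QuotientGroup.mk' C).comp f.ker.subtype) := by
      intro y
      obtain ⟨x, rfl⟩ := QuotientGroup.mk'_surjective C y
      have h2 : f x ∈ C.map f := by rw [hCf]; trivial
      obtain ⟨k, hk, hkx⟩ := h2
      refine ⟨⟨x * k⁻¹, ?_⟩, ?_⟩
      · rw [MonoidHom.mem_ker, map_mul, map_inv, hkx, mul_inv_cancel]
      · change (QuotientGroup.mk' C) (x * k⁻¹) = _
        rw [map_mul, map_inv]
        have h3 : (QuotientGroup.mk' C) k = 1 := by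
          rw [QuotientGroup.mk'_apply, QuotientGroup.eq_one_iff]
          exact hk
        rw [h3, inv_one, mul_one]
    have h2 : Group.IsSolvable (L ⧸ C) := Group.isSolvable_of_surjective h1
    have h3 := subsingleton_of_solvable (perfect_map hL (QuotientGroup.mk'_surjective C)) h2
    exact QuotientGroup.subsingleton_iff.1 h3
  have hMc : M ≤ center L := by
    intro m hm
    rw [mem_center_iff]
    intro g
    have h1 : g ∈ C := by rw [hCtop]; trivial
    rw [hCdef, mem_centralizer_iff] at h1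
    exact (h1 m hm).symm
  have hπz : π z = c := by
    have h1 : π z * π z = 1 := by
      rw [← map_mul]
      have h2 := pow_orderOf_eq_one z
      rw [hz2, pow_two] at h2
      rw [h2, map_one]
    rcases h.uniq _ h1 with h2 | h2
    · exfalso
      have h3 : z ∈ M := by rw [← hπk]; exact h2
      have h4 : orderOf (⟨z, h3⟩ : M) ∣ Nat.card M := orderOf_dvd_natCard _
      rw [← Subgroup.orderOf_coe, hz2] at h4
      exact h2M h4
    · exact h2
  have hKc : f.ker ≤ center L := by
    intro x hx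
    rcases ker_cases h hx with h1 | h1
    · apply hMc
      rw [← hπk]
      exact h1
    · have h2 : x * z⁻¹ ∈ M := by
        rw [← hπk, MonoidHom.mem_ker, map_mul, map_inv, h1, hπz, mul_inv_cancel]
      have h3 : z ∈ center L := mem_center_iff.2 hzc
      have h4 := mul_mem (hMc h2) h3
      rwa [inv_mul_cancel_right] at h4
  have hpF : p ∣ Fintype.card F := by
    obtain ⟨n, hn, hn'⟩ := FiniteField.card F p
    rw [hn']
    exact dvd_pow_self p n.ne_zero
  have hpc : p ≤ Fintype.card F := Nat.le_of_dvd Fintype.card_pos hpF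
  have h9 : Fintype.card F ≠ 9 := by
    intro h1
    rw [h1] at hpF
    have h2 : p ∣ 3 ^ 2 := hpF
    have h3 := (Nat.prime_dvd_prime_iff_eq hp.out Nat.prime_three).1 (hp.out.dvd_of_dvd_pow h2)
    omega
  have hMbot : M = ⊥ := by
    by_contra hne
    have h1 : Nat.card M ≠ 1 := fun h => hne (Subgroup.card_eq_one.1 h)
    obtain ⟨q, hq, hqd⟩ := Nat.exists_prime_and_dvd h1
    have := Fact.mk hq
    refine Lib.PSL2Mult.not_dvd_ker hodd (by omega) h9 hfs hKc hL (p := q) ?_ (hqd.trans (card_dvd_of_le ?_))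
    · rintro rfl
      exact h2M hqd
    · intro x hx
      rw [← hπk, MonoidHom.mem_ker] at hx
      rw [hf, MonoidHom.mem_ker, MonoidHom.comp_apply, hx, map_one]
  have hinj : Function.Injective π := by
    rw [← MonoidHom.ker_eq_bot_iff, hπk, hMbot]
  exact hC (conf_of_sl hp7 (MulEquiv.ofBijective π ⟨hinj, hπs⟩).symm)

theorem conf_of_index (hFT : FT.{u}) (hGW : Hyps.GW.{u}) {H : Type u} [Group H] [Finite H]
    (h : 120 < (Cfsg.solvableRadical H).index) : Conf H := by
  classical
  by_contra hC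
  obtain ⟨L, hLn, hLL, hLs⟩ := exists_residual H
  have hL := perfect_of_commutator_eq hLL
  have hCL : ¬ Conf L := fun h => hC (h.map L.subtype L.subtype_injective)
  have hLnt : Nontrivial L := by
    by_contra hnt
    rw [not_nontrivial_iff_subsingleton] at hnt
    have h1 : L = ⊥ := by
      rw [eq_bot_iff]
      intro x hx
      have : (⟨x, hx⟩ : L) = 1 := Subsingleton.elim _ _
      exact congrArg Subtype.val this
    have h2 : Group.IsSolvable H := by
      have h3 : Function.Injective (QuotientGroup.mk' L) := by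
        rw [← MonoidHom.ker_eq_bot_iff, QuotientGroup.ker_mk', h1]
      exact Group.isSolvable_of_isSolvable_injective h3
    have h3 : (⊤ : Subgroup H) ≤ Cfsg.solvableRadical H := by
      apply le_sSup
      refine ⟨inferInstance, ?_⟩
      exact Group.isSolvable_of_isSolvable_injective (⊤ : Subgroup H).subtype_injective
    rw [top_le_iff.1 h3, index_top] at h
    omega
  obtain ⟨z, hz2, hzc, h1 | ⟨f, hf⟩⟩ := exists_sl_or hFT hGW hL hCL
  · obtain ⟨F, hF, hFf, hodd, ⟨e⟩⟩ := h1
    have hn : (Cfsg.oddCore L).Normal := Cfsg.Agent.Lib.Cores.pPrimeCore_normal 2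
    set π : L →* Matrix.SpecialLinearGroup (Fin 2) F := e.toMonoidHom.comp (QuotientGroup.mk' (Cfsg.oddCore L)) with hπ
    have hπs : Function.Surjective π := e.surjective.comp (QuotientGroup.mk'_surjective _)
    obtain ⟨p, hp⟩ := CharP.exists F
    have hpf : Fact p.Prime := ⟨CharP.char_is_prime F p⟩
    rcases GroupC.char_cases hodd hL hCL (p := p) hπs with h5 | h7
    · have hperf : commutator (Matrix.SpecialLinearGroup (Fin 2) F) = ⊤ := perfect_map hL hπs
      have hsimple : IsSimpleGroup (Matrix.ProjectiveSpecialLinearGroup (Fin 2) F) :=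
        LieClassical.SLGen.psl_isSimpleGroup_of_perfect hperf
      have hπk : π.ker = Cfsg.oddCore L := by
        ext x
        rw [MonoidHom.mem_ker, hπ, MonoidHom.comp_apply]
        change e ((QuotientGroup.mk' (Cfsg.oddCore L)) x) = 1 ↔ _
        rw [EmbeddingLike.map_eq_one_iff, QuotientGroup.mk'_apply, QuotientGroup.eq_one_iff]
      have hMco := Cfsg.Agent.Lib.Cores.pPrimeCore_coprime (G := L) 2
      have h2M : ¬ 2 ∣ Nat.card (Cfsg.oddCore L) := (Nat.Prime.coprime_iff_not_dvd Nat.prime_two).1 hMco.symm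
      have hModd : Odd (Nat.card (Cfsg.oddCore L)) := by
        rw [← Nat.not_even_iff_odd, even_iff_two_dvd]
        exact h2M
      have hKsol := solvable_ker (π := π) (by rw [hπk]; exact hFT _ hModd)
      have h8 := GroupD.index_le L hL hLs
        ((QuotientGroup.mk' (center (Matrix.SpecialLinearGroup (Fin 2) F))).comp π)
        ((QuotientGroup.mk'_surjective _).comp hπs) hKsol
      have h9 : Nat.card (MulAut (Matrix.ProjectiveSpecialLinearGroup (Fin 2) F)) = 120 :=
        GroupD.card_mulAut_psl_five h5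
      rw [← h9] at h
      exact absurd h8 (not_le.2 h)
    · exact main_case hFT hL hCL hz2 hzc hodd e h7
  · exact GroupC.no_alt_seven hCL hf

end Cfsg.Agent.H892.GroupG
end

-- part: S5720
section
set_option autoImplicit false
open Cfsg

namespace Cfsg.Agent.S5720

/-- Let H be a finite group whose soluble radical (largest soluble normal subgroup) has index greater than 120. Then for every field K and every finite-dimensional K-linear representation of H on a space V there is a non-identity element h of H whose fixed-point subspace on V has dimension at least (dim V)/6. -/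
theorem result {H : Type*} [Group H] [Finite H] (hR : 120 < (Cfsg.solvableRadical H).index)
    {K V : Type*} [Field K] [AddCommGroup V] [Module K V] [FiniteDimensional K V] (ρ : Representation K H V) :
    ∃ h : H, h ≠ 1 ∧ (Module.finrank K V : ℚ) / 6 ≤ Module.finrank K (LinearMap.ker (ρ h - 1)) :=
  (H892.GroupG.conf_of_index (fun _ _ _ h => Cfsg.Agent.S0205.result h)
    (fun _ _ _ _ S n hn hS => Cfsg.Agent.S0483.result S n hn hS) hR).exists_fixed ρ

end Cfsg.Agent.S5720
end

private theorem dce_3b0f2a165e4e : _root_.True := by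
  try have : _root_.True := by simp only [_root_.Matrix.ProjGenLinGroup.congr_simp]
  exact _root_.True.intro
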