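import Mathlib
import Cfsg.Agent.S3549
import Cfsg.Statements.S5732
import Cfsg.Agent.H393.BcgrC
set_option linter.all false

-- part: H895/DerIdx
section
/-!
# Index of the derangement subgroup: reduction to the primitive case
-/

set_option autoImplicit false

namespace Cfsg.Agent.H895

open MulAction
open Cfsg.Agent.H393

theorem index_bound_of {G Ω : Type*} [Group G] [Finite G] [MulAction G Ω] [FaithfulSMul G Ω]
    [Fintype Ω]
    (hbcgr : MulAction.IsPreprimitive G Ω → ∀ (D : Subgroup G), D.Normal →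
      MulAction.IsPretransitive D Ω → (∀ g : G, g ∉ D → Nat.card (MulAction.fixedBy Ω g) = 1) →
      (∃ g : G, g ≠ 1 ∧ 1 < Nat.card (MulAction.fixedBy Ω g)) →
      (D.index + 1) ^ 2 ≤ Nat.card Ω)
    (htr : MulAction.IsPretransitive G Ω) (hN : 4 ≤ Fintype.card Ω) :
    (MulAction.IsPreprimitive G Ω ∧ (MulAction.IsPretransitive G Ω ∧
      (∃ g : G, g ≠ 1 ∧ ∃ ω : Ω, g • ω = ω) ∧
        ∀ g : G, g ≠ 1 → Nat.card (MulAction.fixedBy Ω g) ≤ 1)) ∨
      ((Subgroup.closure {g : G | ∀ ω : Ω, g • ω ≠ ω}).index : ℝ) ≤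
        Real.sqrt (Fintype.card Ω) - 1 := by
  have hne : Nonempty Ω := Fintype.card_pos_iff.1 (by omega)
  by_cases hprim : MulAction.IsPreprimitive G Ω
  swap
  · right
    have h := Cfsg.Agent.S3549.result htr hprim
    rwa [Nat.card_eq_fintype_card] at h
  by_cases hF : ∃ g : G, g ≠ 1 ∧ 1 < Nat.card (MulAction.fixedBy Ω g)
  · right
    have ht := pretransitive_of_card_orbits_eq_one _ _ (derSub_key G Ω htr).1
    have h := hbcgr hprim (derSub G Ω) (derSub_normal G Ω) ht (derSub_key G Ω htr).2 hF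
    rw [Nat.card_eq_fintype_card] at h
    have i4 : (((derSub G Ω).index : ℝ) + 1) ^ 2 ≤ (Fintype.card Ω : ℝ) := by
      exact_mod_cast h
    have i5 := Real.le_sqrt_of_sq_le i4
    change ((derSub G Ω).index : ℝ) ≤ _
    linarith
  push Not at hF
  by_cases hx : ∃ g : G, g ≠ 1 ∧ ∃ ω : Ω, g • ω = ω
  · exact Or.inl ⟨hprim, htr, hx, hF⟩
  · right
    push Not at hx
    have h1 : Subgroup.closure {g : G | ∀ ω : Ω, g • ω ≠ ω} = ⊤ := by
      rw [eq_top_iff]
      intro g _
      by_cases hg : g = 1
      · rw [hg]; exact one_mem _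
      · exact Subgroup.subset_closure (fun ω => hx g hg ω)
    rw [h1, Subgroup.index_top]
    have h2 : (2 : ℝ) ≤ Real.sqrt (Fintype.card Ω) := by
      apply Real.le_sqrt_of_sq_le
      have : (4 : ℝ) ≤ (Fintype.card Ω : ℝ) := by exact_mod_cast hN
      linarith
    push_cast
    linarith

end Cfsg.Agent.H895
end

-- part: S5732
section
set_option autoImplicit false
open Cfsg

namespace Cfsg.Agent.S5732

/-- There is a bound N such that for every finite group G acting faithfully and transitively on a set with n ≥ N points, either G is primitive and a Frobenius permutation group (Frobenius as a permutation group: transitive, some non-identity element fixes a point, and no non-identity element fixes two points), or the subgroup generated by the derangements of G has index at most √n − 1 in G. -/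
theorem result : ∃ N : ℕ, ∀ (G Ω : Type*) [Group G] [Finite G] [MulAction G Ω] [FaithfulSMul G Ω] [Fintype Ω],
      MulAction.IsPretransitive G Ω → N ≤ Fintype.card Ω →
      (MulAction.IsPreprimitive G Ω ∧ (MulAction.IsPretransitive G Ω ∧ (∃ g : G, g ≠ 1 ∧ ∃ ω : Ω, g • ω = ω) ∧ ∀ g : G, g ≠ 1 → Nat.card (MulAction.fixedBy Ω g) ≤ 1)) ∨
      ((Subgroup.closure {g : G | ∀ ω : Ω, g • ω ≠ ω}).index : ℝ) ≤ Real.sqrt (Fintype.card Ω) - 1 := by
  refine ⟨4, ?_⟩
  intro G Ω _ _ _ _ _ htr hN
  exact Cfsg.Agent.H895.index_bound_of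
    (fun hprim D hDn hDt hD hnF => Cfsg.Agent.H393.Bcgr.bcgr hprim D hDn hDt hD hnF) htr hN

end Cfsg.Agent.S5732
end
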