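import Cfsg.Agent.StdU3.URelModel
import Cfsg.Agent.H896.SzEven
import Cfsg.Statements.S5735
import Cfsg.Agent.StrongEmb.Strong
import Cfsg.Agent.FastGrp
import Cfsg.Agent.Prune
set_option linter.all false
prune_inst 0x7ffffcf8ffb8eddfdfff7e7ffedfdffdfff97fffffdfff4bffe4e1ff0fdf7b0afde56b8d9feb50ff0ff7e29630f87bd3fffffeffee6ffc7ffffdfff45ffbff8fedf7bd8851de8cb40fbc0fff63f07f8e7f3fffffffffffffffffffffffffffbeffffffffffff
open scoped Cfsg.Agent.FastGrp

-- part: H896/URelX
section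
/-!
# `PSU₃(q)`, `q` even: the relation between `w` and the unipotent elements (helper896)
-/

set_option autoImplicit false
set_option linter.unusedSectionVars false

namespace Cfsg.Agent.H896

open Matrix Cfsg.Agent.LieRecognition Cfsg.Agent.LieRecognition.HermHeis
  Cfsg.Agent.LieRecognition.PSUThreeSylow Cfsg.Agent.LieRecognition.RankOneAbstract
  Cfsg.Agent.SuzukiRankOne.PSUModel Cfsg.Agent.StdU3.URel Cfsg.Agent.StdU3.URelModel

section Model

variable {F : Type*} [Field F] [CharP F 2] {σ : F →+* F} [hσ : Fact (∀ x, σ (σ x) = x)]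

/-- left point map -/
def fl (x : Heis σ) (hx : x.b ≠ 0) : Heis σ :=
  ⟨x.a / σ x.b, (x.b)⁻¹, by
    have h1 : σ x.b ≠ 0 := (map_ne_zero σ).mpr hx
    have h := x.h
    rw [map_div₀, map_inv₀, HermHeis.sig]
    field_simp
    linear_combination h⟩

/-- right point map -/
def fr (x : Heis σ) (hx : x.b ≠ 0) : Heis σ :=
  ⟨x.a / x.b, (x.b)⁻¹, by
    have h1 : σ x.b ≠ 0 := (map_ne_zero σ).mpr hx
    have h := x.h
    rw [map_div₀, map_inv₀]
    field_simp
    linear_combination h⟩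

@[simp] theorem fl_a (x : Heis σ) (hx : x.b ≠ 0) : (fl x hx).a = x.a / σ x.b := rfl
@[simp] theorem fl_b (x : Heis σ) (hx : x.b ≠ 0) : (fl x hx).b = (x.b)⁻¹ := rfl
@[simp] theorem fr_a (x : Heis σ) (hx : x.b ≠ 0) : (fr x hx).a = x.a / x.b := rfl
@[simp] theorem fr_b (x : Heis σ) (hx : x.b ≠ 0) : (fr x hx).b = (x.b)⁻¹ := rfl

theorem wel_rel (x : Heis σ) (hx : x.b ≠ 0) :
    wel σ * emb σ x * wel σ = emb σ (fl x hx) * wel σ * del σ (Units.mk0 x.b hx) * emb σ (fr x hx) := by
  have h1 : σ x.b ≠ 0 := (map_ne_zero σ).mpr hx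
  have h := x.h
  apply Subtype.ext
  apply Subtype.ext
  simp only [coe_mul_SUJ, emb_val, wel_val, del_val]
  ext i j
  (revert i j; simp only [dmat, umat, Jm, Matrix.mul_apply, Fin.sum_univ_three, HermHeis.sig, _root_.Fin.forall_fin_succ, _root_.Matrix.cons_mul, _root_.Nat.succ_eq_add_one, Nat.reduceAdd, _root_.Matrix.vecMul_cons, _root_.Matrix.head_cons, _root_.zero_smul, _root_.Matrix.tail_cons, _root_.one_smul, _root_.Matrix.empty_vecMul, _root_.add_zero, _root_.zero_add, _root_.Matrix.empty_mul, _root_.Equiv.symm_apply_apply, _root_.Matrix.of_apply, _root_.Matrix.cons_val', _root_.Matrix.cons_val_fin_one, Fin.isValue, _root_.Matrix.cons_val_zero, _root_.Matrix.cons_val_one, _root_.Matrix.cons_val, _root_.Cfsg.Agent.H896.fl_a, _root_.Cfsg.Agent.H896.fl_b, _root_.map_div₀, _root_.Cfsg.Agent.LieRecognition.HermHeis.sig, _root_.Matrix.smul_cons, _root_.smul_eq_mul, _root_.MulZeroClass.mul_zero, _root_.mul_one, _root_.Matrix.smul_empty, _root_.Matrix.add_cons,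 _root_.Matrix.empty_add_empty, _root_.Units.val_mk0, _root_.Cfsg.Agent.H896.fr_a, _root_.Cfsg.Agent.H896.fr_b, _root_.Matrix.cons_val_succ, _root_.forall_const, _root_.MulZeroClass.zero_mul, _root_.and_true, _root_.true_and]) <;> (repeat' with_reducible apply And.intro)
  · field_simp
  · field_simp
    linear_combination -CharTwo.add_self_eq_zero x.a
  · field_simp
    linear_combination h - CharTwo.add_self_eq_zero x.b - CharTwo.add_self_eq_zero (σ x.b)
  · field_simp
  · field_simp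
    linear_combination h - CharTwo.add_self_eq_zero (σ x.b)
  · field_simp
    linear_combination -CharTwo.add_self_eq_zero (σ x.a)
  · field_simp
  · field_simp

end Model

/-- a parametrisation of `J` as a unitary group of dimension three, with the relation between `w` and the
unipotent elements -/
structure URelX (J : Type*) [Group J] {F : Type*} [Field F] [CharP F 2] (σ : F →+* F)
    [hσ : Fact (∀ x, σ (σ x) = x)] extends URel J σ where
  rel : ∀ (x : Heis σ) (hx : x.b ≠ 0),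
    w * u x * w = u (fl x hx) * w * d (Units.mk0 x.b hx) * u (fr x hx)

section PSU

variable {F : Type*} [Field F] [Finite F] [CharP F 2] {σ : F →+* F}
  [hσ : Fact (∀ x, σ (σ x) = x)] {n : ℕ}

theorem nonempty_urelx (hn : 1 ≤ n) (hs : ∀ x, σ x = x ^ (2 ^ n)) (hF : Nat.card F = (2 ^ n) ^ 2) :
    Nonempty (URelX (Cfsg.PSU 3 F (2 ^ n)) σ) := by
  have hq : 1 < 2 ^ n := Nat.one_lt_two_pow (by omega)
  obtain ⟨x₀, hx₀⟩ := HermHeis.exists_heis_a (σ := σ) hq hs hF 1
  have hx : ∃ x : Heis σ, x.a ≠ 0 := ⟨x₀, by rw [hx₀]; exact one_ne_zero⟩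
  obtain ⟨c, hc⟩ := HermHeis.exists_not_fixed (σ := σ) hq hs hF
  obtain ⟨T, T', hTT', hT⟩ := exists_T hc
  let e : SUJ σ ≃* Cfsg.SU 3 F (2 ^ n) :=
    ((conjT hTT').subgroupMap (SUJ σ)).trans (MulEquiv.subgroupCongr (SU_eq_map hs hTT' hT))
  let π : SUJ σ →* Cfsg.PSU 3 F (2 ^ n) :=
    (QuotientGroup.mk' (Subgroup.center (Cfsg.SU 3 F (2 ^ n)))).comp e.toMonoidHom
  have hπ : Function.Surjective π := (QuotientGroup.mk'_surjective _).comp e.surjective
  have hker : ∀ g, π g = 1 ↔ g ∈ Subgroup.center (SUJ σ) := by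
    intro g
    have h1 : π g = 1 ↔ e g ∈ Subgroup.center (Cfsg.SU 3 F (2 ^ n)) := by
      rw [← QuotientGroup.eq_one_iff]
      exact Iff.rfl
    rw [h1, Subgroup.mem_center_iff, Subgroup.mem_center_iff]
    constructor
    · intro h k
      apply e.injective
      rw [map_mul, map_mul]
      exact h (e k)
    · intro h k
      obtain ⟨k, rfl⟩ := e.surjective k
      rw [← map_mul, ← map_mul, h k]
  have hkB : ∀ g, π g = 1 → g ∈ _root_.Cfsg.Agent.SuzukiRankOne.PSUModel.borel σ := fun g hg => center_le_borel hx ((hker g).mp hg)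
  have hinj : ∀ x : Heis σ, π (emb σ x) = 1 → x = 1 := by
    intro x h
    exact eq_one_of_mem_center ((hker _).mp h)
  have hinj2 : Function.Injective (π.comp (emb σ)) := by
    rw [injective_iff_map_eq_one]
    exact hinj
  exact ⟨
    { u := π.comp (emb σ)
      u_inj := hinj2
      d := π.comp (delHom σ)
      w := π (wel σ)
      d_u := fun l x => by
        show π (del σ l) * π (emb σ x) = π (emb σ (act l x)) * π (del σ l)
        rw [← map_mul, del_mul_emb, map_mul]
      d_one_of := fun l h => (hker _).mpr (del_mem_center h)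
      w_w := by rw [← map_mul, wel_mul_wel, map_one]
      w_d := fun l => by
        show π (wel σ) * π (del σ l) = π (del σ (hat σ l)) * π (wel σ)
        rw [← map_mul, wel_mul_del, map_mul]
      w_ne := fun x l h => by
        have h : π (wel σ) = π (emb σ x) * π (del σ l) := h
        have h1 : π ((emb σ x * del σ l)⁻¹ * wel σ) = 1 := by
          rw [map_mul, map_inv, map_mul, h, inv_mul_cancel]
        have h2 := hkB _ h1
        have h3 : emb σ x * del σ l ∈ _root_.Cfsg.Agent.SuzukiRankOne.PSUModel.borel σ :=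
          mul_mem (data_SUJ.le ⟨x, rfl⟩) (del_mem_borel l)
        apply (data_SUJ (σ := σ)).w_not_mem
        have h4 := mul_mem h3 h2
        rwa [mul_inv_cancel_left] at h4
      bruhat := fun g' => by
        obtain ⟨g, rfl⟩ := hπ g'
        by_cases hg : g ∈ _root_.Cfsg.Agent.SuzukiRankOne.PSUModel.borel σ
        · left
          obtain ⟨x, l, h⟩ := exists_of_borel hg
          exact ⟨x, l, by rw [h, map_mul]; rfl⟩
        · right
          obtain ⟨_, ⟨x, rfl⟩, h⟩ := data_SUJ.bruhat g hg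
          obtain ⟨y, l, h'⟩ := exists_of_borel h
          refine ⟨x, y, l, ?_⟩
          have h2 : g = emb σ x * wel σ * (emb σ y * del σ l) := by
            rw [← h', mul_inv_cancel_left]
          rw [h2, map_mul, map_mul, map_mul]; rfl
      inter := fun x y l h => by
        have h : π (wel σ) * π (emb σ x) * π (wel σ) = π (emb σ y) * π (del σ l) := h
        have h1 : π ((emb σ y * del σ l)⁻¹ * (wel σ * emb σ x * wel σ)) = 1 := by
          rw [map_mul, map_inv, map_mul, map_mul, map_mul, h, inv_mul_cancel]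
        have h2 := hkB _ h1
        have h3 : emb σ y * del σ l ∈ _root_.Cfsg.Agent.SuzukiRankOne.PSUModel.borel σ :=
          mul_mem (data_SUJ.le ⟨y, rfl⟩) (del_mem_borel l)
        have h4 := mul_mem h3 h2
        rw [mul_inv_cancel_left] at h4
        have h5 := data_SUJ.inter (emb σ x) ⟨x, rfl⟩ (by rw [wel_inv]; exact h4)
        exact emb_injective (by rw [h5, map_one])
      rel := fun x hx => by
        show π (wel σ) * π (emb σ x) * π (wel σ) =
          π (emb σ (fl x hx)) * π (wel σ) * π (del σ (Units.mk0 x.b hx)) * π (emb σ (fr x hx))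
        rw [← map_mul, ← map_mul, ← map_mul, ← map_mul, ← map_mul, wel_rel x hx] }⟩

end PSU

end Cfsg.Agent.H896
end

-- part: H896/PSU
section
/-!
# Binary actions of `PSU₃(2^n)` with point stabilisers of even order (helper896)
-/

set_option autoImplicit false
set_option linter.unusedSectionVars false

namespace Cfsg.Agent.H896

open Cfsg.Agent.LieRecognition Cfsg.Agent.LieRecognition.HermHeis
  Cfsg.Agent.LieRecognition.RankOneAbstract Cfsg.Agent.StdU3.URel

variable {F : Type*} [Field F] [CharP F 2] {σ : F →+* F} [hσ : Fact (∀ x, σ (σ x) = x)]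

theorem heis_b_ne {x : Heis σ} (hx : x ≠ 1) : x.b ≠ 0 := by
  intro h
  apply hx
  have h1 := x.h
  rw [h, map_zero, add_zero, eq_comm, mul_eq_zero, map_eq_zero, or_self] at h1
  ext
  · exact h1
  · exact h

theorem heis_b_ne' {x : Heis σ} (hx : x.a ≠ 0) : x.b ≠ 0 := by
  apply heis_b_ne
  rintro rfl
  exact hx rfl

namespace URelX

variable {J : Type*} [Group J] (R : URelX J σ)

/-- the subgroup of elements of square one -/
def Z : Subgroup J where
  carrier := {g | ∃ x : Heis σ, x.a = 0 ∧ R.u x = g}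
  mul_mem' := by
    rintro _ _ ⟨x, hx, rfl⟩ ⟨y, hy, rfl⟩
    exact ⟨x * y, by rw [mul_a, hx, hy, add_zero], by rw [map_mul]⟩
  one_mem' := ⟨1, rfl, map_one _⟩
  inv_mem' := by
    rintro _ ⟨x, hx, rfl⟩
    exact ⟨x⁻¹, by rw [inv_a, hx], by rw [map_inv]⟩

theorem u_mem_Z {x : Heis σ} : R.u x ∈ Z R ↔ x.a = 0 := by
  constructor
  · rintro ⟨y, hy, h⟩
    rw [← R.u_inj h, hy]
  · intro h
    exact ⟨x, h, rfl⟩

theorem pow_form (x : Heis σ) (l : Fˣ) (m : ℕ) : ∃ z, (R.u x * R.d l) ^ m = R.u z * R.d l ^ m := by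
  induction m with
  | zero => exact ⟨1, by simp⟩
  | succ m ih =>
    obtain ⟨z, hz⟩ := ih
    refine ⟨z * act (l ^ m) x, ?_⟩
    have h := R.d_u (l ^ m) x
    rw [map_pow] at h
    calc (R.u x * R.d l) ^ (m + 1) = R.u z * (R.d l ^ m * R.u x) * R.d l := by
          rw [pow_succ, hz]; group
      _ = _ := by
          rw [h, map_mul, pow_succ]; group

theorem torus_form {t : J} (ht : t ∈ R.B) (htw : R.w⁻¹ * t * R.w ∈ R.B) : ∃ l, t = R.d l := by
  obtain ⟨x, l, rfl⟩ := ht
  have e : R.w⁻¹ * (R.u x * R.d l) * R.w = (R.w * R.u x * R.w) * (R.w * R.d l * R.w) := by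
    rw [R.w_inv]
    have : R.w * R.u x * R.w * (R.w * R.d l * R.w) = R.w * R.u x * (R.w * R.w) * R.d l * R.w := by group
    rw [this, R.w_w]; group
  rw [e, R.w_d'] at htw
  have h1 := R.B.mul_mem htw (R.B.inv_mem (R.d_mem_B (hat σ l)))
  rw [mul_inv_cancel_right] at h1
  have h2 := R.eq_one_of_conj h1
  exact ⟨l, by rw [h2, map_one, one_mul]⟩

theorem data : Data R.B R.T R.w where
  w_not_mem := R.w_not_mem
  le := R.T_le_B
  norm := by
    rintro h hh _ ⟨x, rfl⟩
    obtain ⟨y, hy⟩ := R.conj_T_of_B hh x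
    exact ⟨y, hy.symm⟩
  bruhat := by
    intro g hg
    rcases R.bruhat g with h | ⟨x, y, l, h⟩
    · exact absurd h hg
    · refine ⟨R.u x, R.u_mem x, ?_⟩
      have : (R.u x * R.w)⁻¹ * g = R.u y * R.d l := by rw [h]; group
      rw [this]
      exact ⟨y, l, rfl⟩
  inter := by
    rintro _ ⟨x, rfl⟩ h
    rw [R.w_inv] at h
    rw [R.eq_one_of_conj h, map_one]

variable [Finite F]

theorem frame {n : ℕ} (hn : 1 ≤ n) (hs : ∀ x, σ x = x ^ (2 ^ n)) (hF : Nat.card F = (2 ^ n) ^ 2) :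
    Frame R.B R.T (Z R) R.w where
  data := data R
  ww := R.w_w
  ZU := by
    rintro _ ⟨x, -, rfl⟩
    exact R.u_mem x
  Zn := by
    rintro _ ⟨y, l, rfl⟩ _ ⟨x, hx, rfl⟩
    rw [R.conj_a_of_B, u_mem_Z]
    simp [hx, CharTwo.add_self_eq_zero]
  inv := by
    rintro _ ⟨x, hx, rfl⟩
    rw [← map_mul, (HermHeis.mul_self_eq_one_iff x).2 hx, map_one]
  inv' := by
    rintro _ ⟨x, rfl⟩ h
    rw [u_mem_Z, ← HermHeis.mul_self_eq_one_iff]
    apply R.u_inj
    rw [map_mul, h, map_one]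
  two := by
    rintro _ ⟨x, l, rfl⟩ m hm
    obtain ⟨z, hz⟩ := pow_form R x l (2 ^ m)
    rw [hz] at hm
    have h1 : R.u z * R.d (l ^ 2 ^ m) = R.u 1 * R.d 1 := by rw [map_pow, hm, map_one, map_one, one_mul]
    have h2 := (R.ud_inj h1).2
    rw [map_pow, map_one] at h2
    have h3 : R.d l ^ Nat.card Fˣ = 1 := by rw [← map_pow, pow_card_eq_one', map_one]
    have hodd : Odd (Nat.card Fˣ) := by
      rw [Nat.card_units, hF]
      refine Nat.Even.sub_odd ?_ ?_ odd_one
      · exact Nat.one_le_pow _ _ (by positivity)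
      · exact (Nat.even_pow' (by norm_num)).mpr ((Nat.even_pow' (by omega)).mpr even_two)
    have h4 : R.d l = 1 := by
      rw [← orderOf_eq_one_iff, ← Nat.dvd_one]
      have hc : Nat.Coprime (2 ^ m) (Nat.card Fˣ) :=
        Nat.Coprime.pow_left m (Nat.coprime_two_left.2 hodd)
      rw [← Nat.Coprime.gcd_eq_one hc]
      exact Nat.dvd_gcd (orderOf_dvd_of_pow_eq_one h2) (orderOf_dvd_of_pow_eq_one h3)
    rw [h4, mul_one]
    exact R.u_mem x
  twoU := by
    rintro ⟨_, x, rfl⟩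
    refine ⟨2, Subtype.ext ?_⟩
    show R.u x ^ (2 ^ 2) = 1
    have h1 : (x * x) * (x * x) = 1 := by
      rw [HermHeis.mul_self_eq_one_iff]
      simp [CharTwo.add_self_eq_zero]
    have h2 : R.u x ^ (2 ^ 2) = R.u ((x * x) * (x * x)) := by
      rw [map_mul, map_mul, show (2 ^ 2 : ℕ) = 1 + 1 + 1 + 1 from rfl, pow_add, pow_add, pow_add, pow_one]
      group
    rw [h2, h1, map_one]
  Tw := by
    intro t ht htw
    obtain ⟨l, rfl⟩ := torus_form R ht htw
    rw [R.w_inv, R.w_d', Subgroup.mem_zpowers_iff]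
    refine ⟨-(2 ^ n : ℕ), ?_⟩
    rw [zpow_neg, zpow_natCast, ← map_pow, ← map_inv]
    congr 1
    apply Units.ext
    rw [hat_val, hs, Units.val_inv_eq_inv_val, Units.val_pow_eq_pow_val]
  TZ := by
    rintro t ht htw _ ⟨x, hx, rfl⟩ hx1 h _ ⟨y, hy, rfl⟩
    obtain ⟨l, rfl⟩ := torus_form R ht htw
    rw [R.d_u] at h ⊢
    have hxb : x.b ≠ 0 := heis_b_ne (by rintro rfl; exact hx1 (map_one _))
    have h1 : act l x = x := R.u_inj (mul_right_cancel h)
    have h2 := congrArg Heis.b h1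
    rw [act_b] at h2
    have h3 : nm σ l = 1 := by
      apply mul_right_cancel₀ hxb
      rw [h2, one_mul]
    have h4 : act l y = y := by
      ext
      · rw [act_a, hy, mul_zero]
      · rw [act_b, h3, one_mul]
    rw [h4]

/-- the first coordinates of the unipotent elements of `H` -/
def As (H : Subgroup J) : Set F := {a | ∃ y : Heis σ, R.u y ∈ H ∧ y.a = a}

theorem As_add {H : Subgroup J} {a b : F} (ha : a ∈ As R H) (hb : b ∈ As R H) : a + b ∈ As R H := by
  obtain ⟨x, hx, rfl⟩ := ha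
  obtain ⟨y, hy, rfl⟩ := hb
  exact ⟨x * y, by rw [map_mul]; exact H.mul_mem hx hy, rfl⟩

theorem As_zero (H : Subgroup J) : (0 : F) ∈ As R H := ⟨1, by rw [map_one]; exact H.one_mem, rfl⟩

theorem As_wt {H : Subgroup J} {z : Heis σ} {m : Fˣ} (hg : R.u z * R.d m ∈ H) {a : F}
    (ha : a ∈ As R H) : wt σ m * a ∈ As R H := by
  obtain ⟨x, hx, rfl⟩ := ha
  refine ⟨z * act m x * z⁻¹, ?_, ?_⟩
  · rw [← R.conj_a_of_B]
    exact H.mul_mem (H.mul_mem hg hx) (H.inv_mem hg)
  · simp only [mul_a, act_a, inv_a]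
    linear_combination CharTwo.add_self_eq_zero z.a

theorem u_mem_of_As {H : Subgroup J} (hZ : Z R ≤ H) {x : Heis σ} (hx : x.a ∈ As R H) : R.u x ∈ H := by
  obtain ⟨y, hy, hyx⟩ := hx
  have h1 : R.u (y⁻¹ * x) ∈ H := by
    apply hZ
    rw [u_mem_Z, mul_a, inv_a, hyx, CharTwo.add_self_eq_zero]
  have : x = y * (y⁻¹ * x) := by group
  rw [this, map_mul]
  exact H.mul_mem hy h1

/-- a subset of a finite field invariant under multiplication by `μ ≠ 0` is invariant under division -/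
theorem div_mem {A : Set F} {μ : F} (hμ : μ ≠ 0) (h : ∀ t ∈ A, μ * t ∈ A) {t : F} (ht : μ * t ∈ A) :
    t ∈ A := by
  have hpow : ∀ k : ℕ, ∀ t ∈ A, μ ^ k * t ∈ A := by
    intro k
    induction k with
    | zero => intro t ht; simpa using ht
    | succ k ih =>
      intro t ht
      rw [pow_succ', mul_assoc]
      exact h _ (ih t ht)
  have hc : μ ^ Nat.card Fˣ = 1 := by
    have : (Units.mk0 μ hμ) ^ Nat.card Fˣ = 1 := pow_card_eq_one'
    have h2 := congrArg Units.val this
    rwa [Units.val_pow_eq_pow_val, Units.val_mk0, Units.val_one] at h2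
  have hpos : 0 < Nat.card Fˣ := Nat.card_pos
  have := hpow (Nat.card Fˣ - 1) _ ht
  rwa [← mul_assoc, ← pow_succ, Nat.sub_add_cancel hpos, hc, one_mul] at this

/-- **the three point argument** -/
theorem three_false {H : Subgroup J} (hb : Binary H) (hZ : Z R ≤ H) {l : Fˣ} (hl : R.d l ∈ H)
    (hwt : wt σ l ≠ 1) {x : Heis σ} (hx : x.a ∉ As R H)
    (hB : ∀ g ∈ H, (R.u (x * act l x))⁻¹ * g * R.u (x * act l x) ∈ H → g ∈ R.B) : False := by
  have e1 : R.d l * R.u x * (R.d l)⁻¹ = R.u (act l x) := (R.u_act l x).symm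
  have e2 : R.u x * R.u (act l x) = R.u (x * act l x) := (map_mul _ _ _).symm
  obtain ⟨g, hg, h1, h2⟩ := hb.three (v := R.u x) hl (by
    apply hZ
    rw [e1, ← map_inv, ← map_inv, ← map_mul, ← map_mul, ← map_mul, u_mem_Z]
    simp only [mul_a, inv_a]
    linear_combination CharTwo.add_self_eq_zero x.a + CharTwo.add_self_eq_zero (act l x).a)
  rw [e1, e2] at h1
  rw [e1] at h2
  obtain ⟨z, m, rfl⟩ := hB g hg h1
  set lam := wt σ l with hlam
  set psi := wt σ m with hpsi
  have hne : 1 + lam ≠ 0 := by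
    intro h
    apply hwt
    exact (CharTwo.add_eq_zero.1 h).symm
  have key : ∀ y y' : Heis σ, (R.u y')⁻¹ * (R.u z * R.d m) * R.u y ∈ H → y'.a + psi * y.a ∈ As R H := by
    intro y y' h
    have h3 := H.mul_mem h (H.inv_mem hg)
    have e : (R.u y')⁻¹ * (R.u z * R.d m) * R.u y * (R.u z * R.d m)⁻¹ = R.u (y'⁻¹ * (z * act m y * z⁻¹)) := by
      rw [map_mul, ← R.conj_a_of_B, map_inv]; group
    rw [e] at h3
    refine ⟨_, h3, ?_⟩
    simp only [mul_a, inv_a, act_a]
    linear_combination CharTwo.add_self_eq_zero z.a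
  have k1 := key _ _ h1
  have k2 := key _ _ h2
  simp only [mul_a, act_a] at k1 k2
  have hlA : ∀ t ∈ As R H, lam * t ∈ As R H := fun t ht => As_wt R (z := 1) (by rw [map_one, one_mul]; exact hl) ht
  have hpA : ∀ t ∈ As R H, psi * t ∈ As R H := fun t ht => As_wt R hg ht
  have hlA' : ∀ t ∈ As R H, (1 + lam) * t ∈ As R H := fun t ht => by
    rw [add_mul, one_mul]; exact As_add R ht (hlA t ht)
  have hpA' : ∀ t ∈ As R H, (1 + psi) * t ∈ As R H := fun t ht => by
    rw [add_mul, one_mul]; exact As_add R ht (hpA t ht)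
  apply hx
  apply div_mem hne hlA'
  by_cases hp : psi = 1
  · rw [hp] at k2
    have : (1 + lam) * x.a = lam * x.a + 1 * x.a := by ring
    rw [this]; exact k2
  · have hne' : 1 + psi ≠ 0 := by
      intro h
      apply hp
      exact (CharTwo.add_eq_zero.1 h).symm
    apply div_mem hne' hpA'
    rw [← hlam] at k1
    have : (1 + psi) * ((1 + lam) * x.a) = x.a + lam * x.a + psi * (x.a + lam * x.a) := by ring
    rw [this]; exact k1

variable {n : ℕ}

/-- `H ≤ B` containing `Z` and a torus element centralising `Z` -/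
theorem torus_false (hn : 1 ≤ n) (hs : ∀ x, σ x = x ^ (2 ^ n)) (hF : Nat.card F = (2 ^ n) ^ 2)
    {H : Subgroup J} (hb : Binary H) (hZ : Z R ≤ H) (hHB : H ≤ R.B) {k : J} (hk : k ∈ H) (hk1 : k ≠ 1)
    (hkw : R.w⁻¹ * k * R.w ∈ R.B) (hkZ : ∀ z ∈ Z R, k * z = z * k) : False := by
  obtain ⟨l, rfl⟩ := torus_form R (hHB hk) hkw
  have hwt : wt σ l ≠ 1 := fun h => hk1 (R.d_one_of l h)
  by_cases hall : ∀ x : Heis σ, x.a ∈ As R H
  swap
  · push Not at hall
    obtain ⟨x, hx⟩ := hall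
    exact three_false R hb hZ hk hwt hx (fun g hg _ => hHB hg)
  have hUH : ∀ x : Heis σ, R.u x ∈ H := fun x => u_mem_of_As R hZ (hall x)
  -- `l` has norm one
  set z₁ : Heis σ := zet 1 (map_one σ) with hz₁
  have hnm : nm σ l = 1 := by
    have h1 := hkZ (R.u z₁) ((u_mem_Z R).2 rfl)
    rw [R.d_u] at h1
    have h2 := congrArg Heis.b (R.u_inj (mul_right_cancel h1))
    rw [act_b, hz₁, zet_b, mul_one] at h2
    exact h2
  obtain ⟨x', hx'⟩ := Cfsg.Agent.SuzukiRankOne.PSUModel.exists_b (σ := σ) hn hs hF (l : F)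
  have hl0 := l.ne_zero
  have hxb : x'.b ≠ 0 := by rw [hx']; exact hl0
  have hxa : x'.a ≠ 0 := by
    intro h
    have h1 := b_fixed_of_a_eq_zero h
    rw [hx'] at h1
    have h2 : (l : F) * (l : F) = 1 := by
      have := hnm
      unfold nm at this
      rwa [h1] at this
    have h3 : ((l : F) + 1) * ((l : F) + 1) = 0 := by
      linear_combination h2 + CharTwo.add_self_eq_zero (l : F) + CharTwo.add_self_eq_zero (1 : F)
    have h4 : (l : F) = 1 := by
      rcases mul_eq_zero.1 h3 with h | h <;> exact CharTwo.add_eq_zero.1 h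
    apply hwt
    have : l = 1 := Units.ext h4
    rw [this, wt_one]
  have hz1b : z₁.b ≠ 0 := one_ne_zero
  have r1 := R.rel z₁ hz1b
  have r2 := R.rel x' hxb
  have hmk : Units.mk0 x'.b hxb = l := Units.ext (by rw [Units.val_mk0, hx'])
  have hmk1 : Units.mk0 z₁.b hz1b = 1 := Units.ext rfl
  rw [hmk] at r2
  rw [hmk1, map_one, mul_one] at r1
  have hw := R.w_inv
  have hww := R.w_w
  have e1 : R.u z₁ * R.w = R.w * (R.u (fl z₁ hz1b) * R.w * R.u (fr z₁ hz1b)) := by
    rw [← r1, ← mul_assoc, ← mul_assoc, hww, one_mul]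
  have e2 : R.u x' * R.w = R.w * (R.u (fl x' hxb) * R.w * R.d l * R.u (fr x' hxb)) := by
    rw [← r2, ← mul_assoc, ← mul_assoc, hww, one_mul]
  obtain ⟨a, ha, h1, h2⟩ := hb.ternary (x := R.u x' * (R.u z₁)⁻¹)
    (y := R.w * (R.u (fl x' hxb) * (R.u (fl z₁ hz1b))⁻¹) * R.w) (g₂ := R.w) (g₃ := R.u z₁ * R.w)
    (H.mul_mem (hUH _) (H.inv_mem (hUH _)))
    (by
      have : R.w⁻¹ * (R.w * (R.u (fl x' hxb) * (R.u (fl z₁ hz1b))⁻¹) * R.w) * R.w =
          (R.u (fl x' hxb) * (R.u (fl z₁ hz1b))⁻¹) * (R.w * R.w) := by group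
      rw [this, hww, mul_one]
      exact H.mul_mem (hUH _) (H.inv_mem (hUH _)))
    (by
      have : (R.u z₁ * R.w)⁻¹ * ((R.u x' * (R.u z₁)⁻¹)⁻¹ *
          (R.w * (R.u (fl x' hxb) * (R.u (fl z₁ hz1b))⁻¹) * R.w)) * (R.u z₁ * R.w) =
          (R.u x' * R.w)⁻¹ * (R.w * (R.u (fl x' hxb) * (R.u (fl z₁ hz1b))⁻¹) * R.w) *
            (R.u z₁ * R.w) := by group
      rw [this, e1, e2]
      have : (R.w * (R.u (fl x' hxb) * R.w * R.d l * R.u (fr x' hxb)))⁻¹ *
          (R.w * (R.u (fl x' hxb) * (R.u (fl z₁ hz1b))⁻¹) * R.w) *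
          (R.w * (R.u (fl z₁ hz1b) * R.w * R.u (fr z₁ hz1b))) =
          (R.u (fr x' hxb))⁻¹ * (R.d l)⁻¹ * (R.w⁻¹ * (R.u (fl z₁ hz1b))⁻¹ * (R.w * R.w) *
            R.u (fl z₁ hz1b) * R.w) * R.u (fr z₁ hz1b) := by group
      rw [this, hww, mul_one]
      have : R.w⁻¹ * (R.u (fl z₁ hz1b))⁻¹ * R.u (fl z₁ hz1b) * R.w = 1 := by group
      rw [this, mul_one]
      exact H.mul_mem (H.mul_mem (H.inv_mem (hUH _)) (H.inv_mem hk)) (hUH _))
  obtain ⟨m, rfl⟩ := torus_form R (hHB ha) (hHB h1)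
  have h3 : (R.u z₁ * R.w)⁻¹ * ((R.u x' * (R.u z₁)⁻¹)⁻¹ * R.d m) * (R.u z₁ * R.w) =
      (R.w * R.u (x'⁻¹ * act m z₁) * R.w) * (R.w⁻¹ * R.d m * R.w) := by
    rw [map_mul, R.u_act, map_inv]
    have : (R.u z₁ * R.w)⁻¹ * ((R.u x' * (R.u z₁)⁻¹)⁻¹ * R.d m) * (R.u z₁ * R.w) =
      (R.w⁻¹ * ((R.u x')⁻¹ * (R.d m * R.u z₁ * (R.d m)⁻¹)) * R.w) * (R.w⁻¹ * R.d m * R.w) := by group
    rw [this, hw]
  rw [h3] at h2
  have h4 := R.B.mul_mem (hHB h2) (R.B.inv_mem (hHB h1))
  rw [mul_inv_cancel_right] at h4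
  have h5 := R.eq_one_of_conj h4
  have h6 : x' = act m z₁ := inv_mul_eq_one.1 h5
  apply hxa
  rw [h6, act_a, hz₁, zet_a, mul_zero]

end URelX

end Cfsg.Agent.H896
end

-- part: H896/PSUMain
section
/-!
# Binary actions of `PSU₃(2^n)` with point stabilisers of even order, main cases (helper896)
-/

set_option autoImplicit false
set_option linter.unusedSectionVars false

namespace Cfsg.Agent.H896

open Cfsg.Agent.LieRecognition Cfsg.Agent.LieRecognition.HermHeis
  Cfsg.Agent.LieRecognition.RankOneAbstract Cfsg.Agent.StdU3.URel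

variable {F : Type*} [Field F] [CharP F 2] {σ : F →+* F} [hσ : Fact (∀ x, σ (σ x) = x)]

namespace URelX

variable {J : Type*} [Group J] (R : URelX J σ)

/-- elements of order three -/
theorem cube (y : Heis σ) (α : Fˣ) (h : (α : F) * y.b = σ (α : F) ^ 2) :
    (R.u y * R.d α * R.w) * (R.u y * R.d α * R.w) * (R.u y * R.d α * R.w) = 1 := by
  have hα : (α : F) ≠ 0 := α.ne_zero
  have hσα : σ (α : F) ≠ 0 := sig_ne σ α
  have hy : y.b ≠ 0 := by
    intro h0
    rw [h0, mul_zero] at h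
    exact pow_ne_zero 2 hσα h.symm
  have hσy : σ y.b ≠ 0 := (map_ne_zero σ).mpr hy
  have hb : y.b = σ (α : F) ^ 2 / α := by field_simp; linear_combination h
  have hb' : σ y.b = (α : F) ^ 2 / σ α := by
    rw [hb, map_div₀, map_pow, HermHeis.sig]
  have r := R.rel y hy
  have hww := R.w_w
  -- step 1
  have e1 : R.u (act α (fl y hy)) = R.u y⁻¹ := by
    congr 1
    ext
    · simp only [act_a, fl_a, inv_a]
      unfold wt
      rw [hb']
      field_simp
    · simp only [act_b, fl_b, inv_b]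
      unfold nm
      rw [hb', hb]
      field_simp
  have e2 : R.d α * R.u (fl y hy) = R.u y⁻¹ * R.d α := by rw [R.d_u, e1]
  have e3 : R.d α * R.w = R.w * R.d (hat σ α) := by
    have := R.w_d' α
    rw [← this, ← mul_assoc, ← mul_assoc, hww, one_mul]
  have e4 : R.d (hat σ α) * R.d (Units.mk0 y.b hy) = R.d (α⁻¹ * Units.map (σ : F →* F) α) := by
    rw [← map_mul]
    congr 1
    apply Units.ext
    rw [Units.val_mul, Units.val_mul, hat_val, Units.val_mk0, Units.val_inv_eq_inv_val, hb]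
    show (σ α)⁻¹ * (σ (α : F) ^ 2 / α) = (α : F)⁻¹ * σ α
    field_simp
  have e5 : R.u (act (Units.map (σ : F →* F) α) (fr y hy)) = R.u y⁻¹ := by
    have hm : ((Units.map (σ : F →* F) α : Fˣ) : F) = σ α := rfl
    congr 1
    ext
    · simp only [act_a, fr_a, inv_a]
      unfold wt
      rw [hm, HermHeis.sig, hb]
      field_simp
    · simp only [act_b, fr_b, inv_b]
      unfold nm
      rw [hm, HermHeis.sig, hb', hb]
      field_simp
  have e6 : R.d (Units.map (σ : F →* F) α) * R.u (fr y hy) =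
      R.u y⁻¹ * R.d (Units.map (σ : F →* F) α) := by rw [R.d_u, e5]
  have e7 : R.d (Units.map (σ : F →* F) α) * R.d (hat σ α) = 1 := by
    rw [← map_mul]
    have : Units.map (σ : F →* F) α * hat σ α = 1 := by
      unfold hat
      rw [mul_inv_cancel]
    rw [this, map_one]
  calc (R.u y * R.d α * R.w) * (R.u y * R.d α * R.w) * (R.u y * R.d α * R.w)
      = R.u y * R.d α * (R.w * R.u y * R.w) * (R.w⁻¹ * R.d α * R.w) * (R.u y * R.d α * R.w) := by
        group
    _ = R.u y * (R.d α * R.u (fl y hy)) * R.w * R.d (Units.mk0 y.b hy) * R.u (fr y hy) *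
          R.d (hat σ α) * (R.u y * R.d α * R.w) := by
        rw [r, R.w_inv, R.w_d']; group
    _ = (R.d α * R.w) * R.d (Units.mk0 y.b hy) * R.u (fr y hy) *
          R.d (hat σ α) * (R.u y * R.d α * R.w) := by
        rw [e2, map_inv]; group
    _ = R.w * (R.d (hat σ α) * R.d (Units.mk0 y.b hy)) * R.u (fr y hy) *
          R.d (hat σ α) * (R.u y * R.d α * R.w) := by
        rw [e3]; group
    _ = R.w * R.d α⁻¹ * (R.d (Units.map (σ : F →* F) α) * R.u (fr y hy)) *
          R.d (hat σ α) * (R.u y * R.d α * R.w) := by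
        rw [e4, map_mul]; group
    _ = R.w * R.d α⁻¹ * R.u y⁻¹ * (R.d (Units.map (σ : F →* F) α) *
          R.d (hat σ α)) * (R.u y * R.d α * R.w) := by
        rw [e6]; group
    _ = 1 := by
        rw [e7, map_inv, map_inv, mul_one]
        have : R.w * (R.d α)⁻¹ * (R.u y)⁻¹ * (R.u y * R.d α * R.w) = R.w * R.w := by group
        rw [this, hww]

variable [Finite F] {n : ℕ}

theorem exists_alpha (hn : 2 ≤ n) (hs : ∀ x, σ x = x ^ (2 ^ n)) (hF : Nat.card F = (2 ^ n) ^ 2)
    {N : F} (hN : N ≠ 0) (hNs : σ N = N) :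
    ∃ (α : Fˣ) (δ : F), (α : F) * δ = σ (α : F) ^ 2 ∧ δ + σ δ = N := by
  -- an element whose cube is not fixed
  obtain ⟨α₀, hα₀⟩ : ∃ α₀ : Fˣ, σ (α₀ : F) ^ 3 ≠ (α₀ : F) ^ 3 := by
    by_contra hcon
    push Not at hcon
    obtain ⟨g, hg⟩ := IsCyclic.exists_generator (α := Fˣ)
    have h1 := hcon g
    rw [hs, ← pow_mul] at h1
    have h2 : g ^ (2 ^ n * 3) = g ^ 3 := Units.ext (by rw [Units.val_pow_eq_pow_val, Units.val_pow_eq_pow_val, h1])
    have h3 : g ^ ((2 ^ n - 1) * 3) = 1 := by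
      have h4 : 2 ^ n * 3 = (2 ^ n - 1) * 3 + 3 := by
        have : 1 ≤ 2 ^ n := Nat.one_le_two_pow
        omega
      rw [h4, pow_add] at h2
      exact mul_eq_right.1 h2
    have h5 : orderOf g = (2 ^ n) ^ 2 - 1 := by
      rw [orderOf_eq_card_of_forall_mem_zpowers hg, Nat.card_units, hF]
    have h6 := orderOf_dvd_of_pow_eq_one h3
    rw [h5] at h6
    have hq : 4 ≤ 2 ^ n := by
      calc 4 = 2 ^ 2 := by norm_num
        _ ≤ 2 ^ n := Nat.pow_le_pow_right (by norm_num) hn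
    have h7 : (2 ^ n) ^ 2 - 1 = (2 ^ n - 1) * (2 ^ n + 1) := by
      obtain ⟨m, hm⟩ : ∃ m, 2 ^ n = m + 1 := ⟨2 ^ n - 1, by omega⟩
      rw [hm]
      have : (m + 1) ^ 2 = m * (m + 1 + 1) + 1 := by ring
      rw [this]
      simp only [_root_.add_tsub_cancel_right]
    rw [h7] at h6
    have h8 := Nat.dvd_of_mul_dvd_mul_left (by omega) h6
    have := Nat.le_of_dvd (by norm_num) h8
    omega
  have ha := α₀.ne_zero
  have hσa := sig_ne σ α₀
  set δ₀ : F := σ (α₀ : F) ^ 2 / α₀ with hδ₀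
  have hσδ : σ δ₀ = (α₀ : F) ^ 2 / σ α₀ := by rw [hδ₀, map_div₀, map_pow, HermHeis.sig]
  have hne : δ₀ + σ δ₀ ≠ 0 := by
    intro h
    apply hα₀
    have h1 := CharTwo.add_eq_zero.1 h
    rw [hσδ, hδ₀, div_eq_div_iff ha hσa] at h1
    linear_combination h1
  set μ : F := N / (δ₀ + σ δ₀) with hμ
  have hμ0 : μ ≠ 0 := div_ne_zero hN hne
  have hμs : σ μ = μ := by
    rw [hμ, map_div₀, hNs, map_add, HermHeis.sig, add_comm (σ δ₀)]
  refine ⟨Units.mk0 μ hμ0 * α₀, μ * δ₀, ?_, ?_⟩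
  · rw [Units.val_mul, Units.val_mk0, map_mul, hμs, hδ₀]
    field_simp
  · rw [map_mul, hμs, ← mul_add, hμ]
    field_simp

/-- a binary `H` between `Z` and `U` is `Z` -/
theorem unip_eq (hn : 2 ≤ n) (hs : ∀ x, σ x = x ^ (2 ^ n)) (hF : Nat.card F = (2 ^ n) ^ 2)
    {H : Subgroup J} (hb : Binary H) (hZ : Z R ≤ H) (hHU : H ≤ R.T) : H = Z R := by
  refine le_antisymm ?_ hZ
  intro X hX
  obtain ⟨x, rfl⟩ := hHU hX
  rw [u_mem_Z]
  by_contra ha
  have hxb : x.b ≠ 0 := heis_b_ne' ha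
  have hσa : σ x.a ≠ 0 := (map_ne_zero σ).mpr ha
  have hσb : σ x.b ≠ 0 := (map_ne_zero σ).mpr hxb
  set c : F := σ x.b / σ x.a with hc
  have hσc : σ c = x.b / x.a := by rw [hc, map_div₀, HermHeis.sig, HermHeis.sig]
  have hc0 : c ≠ 0 := div_ne_zero hσb hσa
  obtain ⟨α, δ, h1, h2⟩ := exists_alpha hn hs hF (N := c * σ c)
    (mul_ne_zero hc0 ((map_ne_zero σ).mpr hc0)) (by rw [map_mul, HermHeis.sig, mul_comm])
  set y : Heis σ := ⟨c, δ, h2⟩ with hy
  have c1 := R.cube y α h1
  have c2 := R.cube (x * y) α (by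
    rw [mul_b]
    show (α : F) * (x.b + δ + x.a * σ c) = _
    rw [hσc]
    have : x.b + δ + x.a * (x.b / x.a) = δ := by
      field_simp
      linear_combination CharTwo.add_self_eq_zero x.b
    rw [this, h1])
  set g := R.u y * R.d α * R.w with hg
  have e : R.u (x * y) * R.d α * R.w = R.u x * g := by rw [map_mul, hg]; group
  rw [e] at c2
  have hgB : g ∉ R.B := by
    intro h
    apply R.w_not_mem
    have h3 := R.B.mul_mem (R.B.inv_mem (R.B.mul_mem (R.T_le_B (R.u_mem y)) (R.d_mem_B α))) h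
    rwa [hg, inv_mul_cancel_left] at h3
  have hd := data R
  obtain ⟨A, hA, h3, h4⟩ := hb.ternary (x := R.u x) (y := g⁻¹ * (R.u x)⁻¹ * g) (g₂ := g⁻¹) (g₃ := g) hX
    (by
      have : g⁻¹⁻¹ * (g⁻¹ * (R.u x)⁻¹ * g) * g⁻¹ = (R.u x)⁻¹ := by group
      rw [this]; exact H.inv_mem hX)
    (by
      have : g⁻¹ * ((R.u x)⁻¹ * (g⁻¹ * (R.u x)⁻¹ * g)) * g = R.u x := by
        have h5 : R.u x * g * (R.u x * g) * (R.u x * g) = 1 := c2
        have h6 : (R.u x * g)⁻¹ * (R.u x * g)⁻¹ = R.u x * g := by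
          rw [← mul_inv_rev]
          exact inv_eq_of_mul_eq_one_right h5
        have h7 : g⁻¹ * ((R.u x)⁻¹ * (g⁻¹ * (R.u x)⁻¹ * g)) * g =
            ((R.u x * g)⁻¹ * (R.u x * g)⁻¹) * (g * g) := by group
        rw [h7, h6]
        have h8 : R.u x * g * (g * g) = R.u x * (g * g * g) := by group
        rw [h8, c1, mul_one]
      rw [this]; exact hX)
  rw [inv_inv] at h3
  have key : ∀ X ∈ R.T, ∀ k : J, k ∉ R.B → k⁻¹ * X * k ∈ R.B → X = 1 := by
    intro X hX k hk h
    by_contra hX1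
    exact hk ((frame R (by omega) hs hF).mem_B_of_conj hX hX1 h)
  have hA1 : A = 1 := by
    apply key A (hHU hA) g⁻¹ (fun h => hgB (by simpa using R.B.inv_mem h))
    rw [inv_inv]
    exact R.T_le_B (hHU h3)
  rw [hA1, mul_one] at h4
  have h5 := key _ (R.T.inv_mem (R.u_mem x)) g hgB (R.T_le_B (hHU h4))
  rw [inv_eq_one] at h5
  have h6 : x = 1 := R.u_inj (by rw [h5, map_one])
  exact ha (by rw [h6]; rfl)

/-- `Z` and `wZw` in `H` is impossible -/
theorem two_false (hn : 2 ≤ n) (hs : ∀ x, σ x = x ^ (2 ^ n)) (hF : Nat.card F = (2 ^ n) ^ 2)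
    {H : Subgroup J} (hb : Binary H) (hH : H ≠ ⊤) (hZ : Z R ≤ H)
    (hZw : ∀ z ∈ Z R, R.w * z * R.w ∈ H) : False := by
  have hww := R.w_w
  have hq : 4 ≤ 2 ^ n := by
    calc 4 = 2 ^ 2 := by norm_num
      _ ≤ 2 ^ n := Nat.pow_le_pow_right (by norm_num) hn
  -- `K` contains `w` and the torus over the fixed field
  have hgen : ∀ K : Subgroup J, Z R ≤ K → (∀ z ∈ Z R, R.w * z * R.w ∈ K) →
      R.w ∈ K ∧ ∀ l : Fˣ, σ (l : F) = l → R.d l ∈ K := by
    intro K hK hKw
    have hw : R.w ∈ K := by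
      set z₁ : Heis σ := zet 1 (map_one σ) with hz₁
      have hz1b : z₁.b ≠ 0 := one_ne_zero
      have r := R.rel z₁ hz1b
      have hmk1 : Units.mk0 z₁.b hz1b = 1 := Units.ext rfl
      rw [hmk1, map_one, mul_one] at r
      have h1 : R.u (fl z₁ hz1b) ∈ K := hK ((u_mem_Z R).2 (by simp [hz₁]))
      have h2 : R.u (fr z₁ hz1b) ∈ K := hK ((u_mem_Z R).2 (by simp [hz₁]))
      have h3 := hKw _ ((u_mem_Z R).2 (show z₁.a = 0 from rfl))
      rw [r] at h3
      have h4 := K.mul_mem (K.mul_mem (K.inv_mem h1) h3) (K.inv_mem h2)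
      have : (R.u (fl z₁ hz1b))⁻¹ * (R.u (fl z₁ hz1b) * R.w * R.u (fr z₁ hz1b)) *
        (R.u (fr z₁ hz1b))⁻¹ = R.w := by group
      rwa [this] at h4
    refine ⟨hw, fun l hl => ?_⟩
    set z₁ : Heis σ := zet (l : F) hl with hz₁
    have hz1b : z₁.b ≠ 0 := l.ne_zero
    have r := R.rel z₁ hz1b
    have hmk1 : Units.mk0 z₁.b hz1b = l := Units.ext rfl
    rw [hmk1] at r
    have h1 : R.u (fl z₁ hz1b) ∈ K := hK ((u_mem_Z R).2 (by simp [hz₁]))
    have h2 : R.u (fr z₁ hz1b) ∈ K := hK ((u_mem_Z R).2 (by simp [hz₁]))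
    have h3 := hKw _ ((u_mem_Z R).2 (show z₁.a = 0 from rfl))
    rw [r] at h3
    have h4 := K.mul_mem (K.mul_mem (K.inv_mem (K.mul_mem h1 hw)) h3) (K.inv_mem h2)
    have : (R.u (fl z₁ hz1b) * R.w)⁻¹ * (R.u (fl z₁ hz1b) * R.w * R.d l * R.u (fr z₁ hz1b)) *
      (R.u (fr z₁ hz1b))⁻¹ = R.d l := by group
    rwa [this] at h4
  obtain ⟨hw, hd⟩ := hgen H hZ hZw
  have hfixA : ∀ p : F, σ p = p → ∀ a ∈ As R H, p * a ∈ As R H := by
    intro p hp a ha
    by_cases hp0 : p = 0
    · rw [hp0, zero_mul]; exact As_zero R H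
    · have h1 := As_wt R (z := 1) (m := Units.mk0 p hp0) (by
        rw [map_one, one_mul]; exact hd _ hp) ha
      rwa [wt_of_fixed (σ := σ) (l := Units.mk0 p hp0) hp] at h1
  obtain ⟨lam, hlam0, hlam1, hlams⟩ : ∃ lam : F, lam ≠ 0 ∧ lam ≠ 1 ∧ σ lam = lam := by
    have h1 := (card_fixed (σ := σ) (q := 2 ^ n) (by omega) hs hF).1
    have hfin : Finite {x : F // σ x = x} := inferInstance
    by_contra hcon
    push Not at hcon
    have h2 : ∀ x : {x : F // σ x = x}, (x : F) = 0 ∨ (x : F) = 1 := by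
      rintro ⟨x, hx⟩
      by_contra h
      push Not at h
      exact hcon x h.1 h.2 hx
    classical
    let f : {x : F // σ x = x} → Bool := fun x => decide ((x : F) = 0)
    have hf : Function.Injective f := by
      intro x y hxy
      apply Subtype.ext
      have hxy' : decide ((x : F) = 0) = decide ((y : F) = 0) := hxy
      rw [decide_eq_decide] at hxy'
      rcases h2 x with hx | hx <;> rcases h2 y with hy | hy
      · rw [hx, hy]
      · rw [hy, hx] at hxy'; simp at hxy'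
      · rw [hy, hx] at hxy'; simp at hxy'
      · rw [hx, hy]
    have h3 := Nat.card_le_card_of_injective f hf
    rw [h1] at h3
    have h4 : Nat.card Bool = 2 := by simp
    rw [h4] at h3
    omega
  have hwtl : wt σ (Units.mk0 lam hlam0) = lam := wt_of_fixed (σ := σ) hlams
  have hne : 1 + lam ≠ 0 := by
    intro h
    exact hlam1 (CharTwo.add_eq_zero.1 h).symm
  have hlA : ∀ t ∈ As R H, (1 + lam) * t ∈ As R H :=
    hfixA _ (by rw [map_add, map_one, hlams])
  -- the Bruhat decomposition of the elements of `H`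
  have hbig : ∀ (x : Heis σ) (b : J), b ∈ R.B → R.u x * R.w * b ∈ H → x.a ∈ As R H := by
    intro x b hbB h
    -- the conjugate subgroup
    have h1 : R.d (Units.mk0 lam hlam0) ∈ cj (R.u x)⁻¹ H := by
      apply (hgen (cj (R.u x)⁻¹ H) ?_ ?_).2 _ hlams
      · intro z hz
        rw [mem_cj, inv_inv]
        exact hZ ((frame R (by omega) hs hF).Zn _ (R.T_le_B (R.u_mem x)) z hz)
      · intro z hz
        rw [mem_cj, inv_inv]
        have e : R.u x * (R.w * z * R.w) * (R.u x)⁻¹ =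
            (R.u x * R.w * b) * (b⁻¹ * z * b) * (R.u x * R.w * b)⁻¹ := by
          have : (R.u x * R.w * b) * (b⁻¹ * z * b) * (R.u x * R.w * b)⁻¹ =
            R.u x * (R.w * z * R.w⁻¹) * (R.u x)⁻¹ := by group
          rw [this, R.w_inv]
        rw [e]
        exact H.mul_mem (H.mul_mem h (hZ ((frame R (by omega) hs hF).Zn' hbB hz))) (H.inv_mem h)
    rw [mem_cj, inv_inv] at h1
    have h2 := H.mul_mem h1 (H.inv_mem (hd (Units.mk0 lam hlam0) hlams))
    have e : R.u x * R.d (Units.mk0 lam hlam0) * (R.u x)⁻¹ * (R.d (Units.mk0 lam hlam0))⁻¹ =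
        R.u (x * (act (Units.mk0 lam hlam0) x)⁻¹) := by
      rw [map_mul, map_inv, R.u_act]; group
    rw [e] at h2
    have h3 : (1 + lam) * x.a ∈ As R H := by
      refine ⟨_, h2, ?_⟩
      simp only [mul_a, inv_a, act_a]
      rw [hwtl]; ring
    exact div_mem hne hlA h3
  by_cases hall : ∀ y : Heis σ, R.u y ∈ H → y.a = 0
  · -- `As H = 0`
    obtain ⟨x, hx⟩ := HermHeis.exists_heis_a (σ := σ) (q := 2 ^ n) (by omega) hs hF 1
    have hzero : ∀ a ∈ As R H, a = 0 := by
      rintro _ ⟨y, hy, rfl⟩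
      exact hall y hy
    apply three_false R hb hZ (l := Units.mk0 lam hlam0) (hd _ hlams) (by rw [hwtl]; exact hlam1) (x := x)
      (by
        intro h
        have := hzero _ h
        rw [hx] at this
        exact one_ne_zero this)
    intro g hg hg2
    rcases R.bruhat g with h | ⟨z, y, l, h⟩
    · exact h
    · exfalso
      have hb1 : R.u y * R.d l ∈ R.B := ⟨y, l, rfl⟩
      have k1 := hzero _ (hbig z _ hb1 (by rw [← h]; exact hg))
      have k2 := hzero _ (hbig ((x * act (Units.mk0 lam hlam0) x)⁻¹ * z)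
        (R.u y * R.d l * R.u (x * act (Units.mk0 lam hlam0) x))
        (R.B.mul_mem hb1 (R.T_le_B (R.u_mem _))) (by
          rw [h] at hg2
          rw [map_mul, map_inv]
          have : (R.u (x * act (Units.mk0 lam hlam0) x))⁻¹ * R.u z * R.w *
            (R.u y * R.d l * R.u (x * act (Units.mk0 lam hlam0) x)) =
            (R.u (x * act (Units.mk0 lam hlam0) x))⁻¹ * (R.u z * R.w * (R.u y * R.d l)) *
              R.u (x * act (Units.mk0 lam hlam0) x) := by group
          rw [this]; exact hg2))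
      simp only [mul_a, inv_a, act_a] at k2
      rw [k1, hwtl, hx] at k2
      apply hne
      linear_combination k2
  · push Not at hall
    obtain ⟨y, hy, hya⟩ := hall
    have hyb : y.b ≠ 0 := heis_b_ne' hya
    have hσb : σ y.b ≠ 0 := (map_ne_zero σ).mpr hyb
    have hσa : σ y.a ≠ 0 := (map_ne_zero σ).mpr hya
    have h1 : (fl y hyb).a ∈ As R H := by
      apply hbig (fl y hyb) (R.d (Units.mk0 y.b hyb) * R.u (fr y hyb))
        (R.B.mul_mem (R.d_mem_B _) (R.T_le_B (R.u_mem _)))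
      rw [← mul_assoc, ← R.rel y hyb]
      exact H.mul_mem (H.mul_mem hw hy) hw
    rw [fl_a] at h1
    have hya' : y.a ∈ As R H := ⟨y, hy, rfl⟩
    have hnf : (σ y.b)⁻¹ + (y.b)⁻¹ ≠ 0 := by
      intro h
      have h2 := CharTwo.add_eq_zero.1 h
      rw [inv_inj] at h2
      have h3 := y.h
      rw [h2, CharTwo.add_self_eq_zero, eq_comm] at h3
      exact (mul_ne_zero hya hσa) h3
    have hAall : ∀ t : F, t ∈ As R H := by
      intro t
      set s : F := t / y.a with hs'
      set r : F := (s + σ s) / ((σ y.b)⁻¹ + (y.b)⁻¹) with hr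
      have hrs : σ r = r := by
        rw [hr, map_div₀, map_add, map_add, HermHeis.sig, map_inv₀, map_inv₀, HermHeis.sig,
          add_comm (σ s), add_comm (y.b)⁻¹]
      set p : F := s + r * (σ y.b)⁻¹ with hp
      have hps : σ p = p := by
        rw [hp, map_add, map_mul, hrs, map_inv₀, HermHeis.sig]
        have h2 : r * ((σ y.b)⁻¹ + (y.b)⁻¹) = s + σ s := by
          rw [hr]; exact div_mul_cancel₀ _ hnf
        linear_combination -h2 + CharTwo.add_self_eq_zero (r * (y.b)⁻¹) - CharTwo.add_self_eq_zero s + CharTwo.add_self_eq_zero (σ s) - CharTwo.add_self_eq_zero (σ s)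
      have h2 := As_add R (hfixA p hps _ hya') (hfixA r hrs _ h1)
      have h3 : p * y.a + r * (y.a / σ y.b) = t := by
        have h4 : t = s * y.a := by rw [hs']; field_simp
        rw [h4, hp]
        have h5 : r * (y.a / σ y.b) = r * (σ y.b)⁻¹ * y.a := by field_simp
        rw [h5]
        linear_combination CharTwo.add_self_eq_zero (r * (σ y.b)⁻¹ * y.a)
      rwa [h3] at h2
    have hUH : ∀ x : Heis σ, R.u x ∈ H := fun x => u_mem_of_As R hZ (hAall _)
    have hdH : ∀ l : Fˣ, R.d l ∈ H := by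
      intro l
      obtain ⟨x, hx⟩ := Cfsg.Agent.SuzukiRankOne.PSUModel.exists_b (σ := σ) (by omega) hs hF (l : F)
      have hxb : x.b ≠ 0 := by rw [hx]; exact l.ne_zero
      have r := R.rel x hxb
      have hmk : Units.mk0 x.b hxb = l := Units.ext (by rw [Units.val_mk0, hx])
      rw [hmk] at r
      have h2 := H.mul_mem (H.mul_mem hw (hUH x)) hw
      rw [r] at h2
      have h4 := H.mul_mem (H.mul_mem (H.inv_mem (H.mul_mem (hUH (fl x hxb)) hw)) h2)
        (H.inv_mem (hUH (fr x hxb)))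
      have : (R.u (fl x hxb) * R.w)⁻¹ * (R.u (fl x hxb) * R.w * R.d l * R.u (fr x hxb)) *
        (R.u (fr x hxb))⁻¹ = R.d l := by group
      rwa [this] at h4
    apply hH
    rw [eq_top_iff]
    intro g _
    rcases R.bruhat g with ⟨x, l, h⟩ | ⟨x, y, l, h⟩
    · rw [h]; exact H.mul_mem (hUH _) (hdH _)
    · rw [h]; exact H.mul_mem (H.mul_mem (hUH _) hw) (H.mul_mem (hUH _) (hdH _))

theorem Z_ne_bot : Z R ≠ ⊥ := by
  intro h
  have h1 : R.u (zet 1 (map_one σ)) ∈ Z R := (u_mem_Z R).2 rfl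
  rw [h, Subgroup.mem_bot] at h1
  have h2 : (zet 1 (map_one σ) : Heis σ) = 1 := R.u_inj (by rw [h1, map_one])
  exact one_ne_zero (congrArg Heis.b h2)

theorem mem_Z_iff (hn : 1 ≤ n) (hs : ∀ x, σ x = x ^ (2 ^ n)) (hF : Nat.card F = (2 ^ n) ^ 2) :
    ∀ x ∈ R.T, x ∈ Z R ↔ ∀ y ∈ R.T, y * x = x * y := by
  have hq : 1 < 2 ^ n := Nat.one_lt_two_pow (by omega)
  rintro _ ⟨x, rfl⟩
  rw [u_mem_Z, ← HermHeis.mem_center_iff hq hs hF, Subgroup.mem_center_iff]
  constructor
  · rintro h _ ⟨y, rfl⟩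
    rw [← map_mul, ← map_mul, h]
  · intro h y
    apply R.u_inj
    rw [map_mul, map_mul]
    exact h _ ⟨y, rfl⟩

include R in
/-- **Binary actions of `PSU₃(2^n)` on the cosets of subgroups of even order.** -/
theorem binary_iff [Finite J] (hn : 2 ≤ n) (hs : ∀ x, σ x = x ^ (2 ^ n)) (hF : Nat.card F = (2 ^ n) ^ 2)
    (hone : ∀ s t : J, orderOf s = 2 → orderOf t = 2 → IsConj s t)
    {H : Subgroup J} (hH : H ≠ ⊤) (heven : Even (Nat.card H)) :
    Binary H ↔ ∃ P : Sylow 2 J, H = (Subgroup.center (P : Subgroup J)).map (P : Subgroup J).subtype := by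
  have hf := frame R (by omega) hs hF
  rw [hf.center_iff (Z_ne_bot R) (mem_Z_iff R (by omega) hs hF)]
  constructor
  · intro hb
    exact hf.eq_cj (Z_ne_bot R) hb hone heven hH
      (fun H hb hZ hHU => unip_eq R hn hs hF hb hZ hHU)
      (fun H hb hZ hHB k hk hk1 hkw hkZ => torus_false R (by omega) hs hF hb hZ hHB hk hk1 hkw hkZ)
      (fun H hb hH hZ hZw => two_false R hn hs hF hb hH hZ hZw)
  · rintro ⟨g, rfl⟩
    exact hf.binary_cj_Z g

/-- transport along an isomorphism -/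
def map {K : Type*} [Group K] (f : J ≃* K) : URelX K σ where
  toURel := R.toURel.map f
  rel x hx := by
    show f R.w * f (R.u x) * f R.w =
      f (R.u (fl x hx)) * f R.w * f (R.d (Units.mk0 x.b hx)) * f (R.u (fr x hx))
    rw [← map_mul, ← map_mul, ← map_mul, ← map_mul, ← map_mul, R.rel]

end URelX

/-- **Binary actions of groups isomorphic to `PSU₃(2^n)` on the cosets of subgroups of even order.** -/
theorem psu_binary_iff {G : Type*} [Group G] [Finite G] {F : Type*} [Field F] [Finite F] {n : ℕ}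
    (hn : 2 ≤ n) (hF : Nat.card F = (2 ^ n) ^ 2) (e : Nonempty (G ≃* Cfsg.PSU 3 F (2 ^ n)))
    (hone : ∀ s t : G, orderOf s = 2 → orderOf t = 2 → IsConj s t)
    {H : Subgroup G} (hH : H ≠ ⊤) (heven : Even (Nat.card H)) :
    Binary H ↔ ∃ P : Sylow 2 G, H = (Subgroup.center (P : Subgroup G)).map (P : Subgroup G).subtype := by
  obtain ⟨h2, σ, hσ, hs, -, -⟩ := PSUThreeSylow.exists_heis_equiv F (n := n) (by omega) hF
  obtain ⟨R⟩ := nonempty_urelx (σ := σ) (n := n) (by omega) hs hF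
  obtain ⟨e⟩ := e
  exact (R.map e.symm).binary_iff hn hs hF hone hH heven

end Cfsg.Agent.H896
end

-- part: H896/SLTwo
section
/-!
# Binary actions of `SL₂(2^a)` with point stabilisers of even order (helper896)
-/

set_option autoImplicit false
set_option linter.unusedSectionVars false

namespace Cfsg.Agent.H896

open Matrix Cfsg.Agent.LieRecognition.RankOneAbstract

namespace SLTwo

variable {F : Type*} [Field F]

/-- unipotent elements -/
def u (b : F) : Matrix.SpecialLinearGroup (Fin 2) F :=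
  ⟨!![1, b; 0, 1], by simp [Matrix.det_fin_two]⟩

/-- diagonal elements -/
def d (k : Fˣ) : Matrix.SpecialLinearGroup (Fin 2) F :=
  ⟨!![(k : F), 0; 0, ((k⁻¹ : Fˣ) : F)], by simp [Matrix.det_fin_two]⟩

variable [CharP F 2]

/-- the Weyl element -/
def w : Matrix.SpecialLinearGroup (Fin 2) F :=
  ⟨!![0, 1; 1, 0], by simp [Matrix.det_fin_two, CharTwo.neg_eq]⟩

omit [CharP F 2] in
theorem u_mul (b c : F) : u b * u c = u (b + c) := by
  apply Subtype.ext
  show (!![1, b; 0, 1] : Matrix (Fin 2) (Fin 2) F) * !![1, c; 0, 1] = !![1, b + c; 0, 1]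
  ext i j
  (revert i j; simp only [Matrix.mul_apply, Fin.sum_univ_two, add_comm, _root_.Fin.forall_fin_succ, _root_.Matrix.of_apply, _root_.Matrix.cons_val', _root_.Matrix.cons_val_fin_one, Fin.isValue, _root_.Matrix.cons_val_zero, _root_.Matrix.cons_val_one, _root_.mul_one, _root_.MulZeroClass.mul_zero, _root_.zero_add, _root_.Matrix.cons_val_succ, _root_.forall_const, _root_.true_and, _root_.one_mul, _root_.MulZeroClass.zero_mul, _root_.implies_true, _root_.and_self])

omit [CharP F 2] in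
theorem u_zero : u (0 : F) = 1 := by
  apply Subtype.ext
  ext i j
  (revert i j; simp only [u, _root_.Fin.forall_fin_succ, _root_.Matrix.of_apply, _root_.Matrix.cons_val', _root_.Matrix.cons_val_fin_one, _root_.Matrix.SpecialLinearGroup.coe_one, Fin.isValue, _root_.Matrix.cons_val_zero, _root_.Matrix.cons_val_succ, _root_.IsEmpty.forall_iff, _root_.and_true, _root_.Matrix.one_apply_eq, Nat.reduceAdd, _root_.Fin.succ_zero_eq_one, _root_.ne_eq, _root_.zero_ne_one, _root_.not_false_eq_true, _root_.Matrix.one_apply_ne, _root_.and_self, _root_.Fin.succ_ne_zero, _root_.true_and])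

omit [CharP F 2] in
theorem d_mul (k l : Fˣ) : d k * d l = d (k * l) := by
  apply Subtype.ext
  show (!![(k : F), 0; 0, ((k⁻¹ : Fˣ) : F)] : Matrix (Fin 2) (Fin 2) F) *
    !![(l : F), 0; 0, ((l⁻¹ : Fˣ) : F)] = !![((k * l : Fˣ) : F), 0; 0, (((k * l)⁻¹ : Fˣ) : F)]
  ext i j
  (revert i j; simp only [Matrix.mul_apply, Fin.sum_univ_two, mul_comm, _root_.Fin.forall_fin_succ, _root_.Units.val_inv_eq_inv_val, _root_.Matrix.of_apply, _root_.Matrix.cons_val', _root_.Matrix.cons_val_fin_one, Fin.isValue, _root_.Matrix.cons_val_zero, _root_.Matrix.cons_val_one, _root_.Units.val_mul, _root_.mul_inv_rev, _root_.MulZeroClass.zero_mul, _root_.add_zero, _root_.Matrix.cons_val_succ, _root_.zero_add, _root_.forall_const, _root_.MulZeroClass.mul_zero, _root_.and_self, _root_.implies_true])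

omit [CharP F 2] in
theorem d_one : d (1 : Fˣ) = 1 := by
  apply Subtype.ext
  ext i j
  (revert i j; simp only [d, _root_.Fin.forall_fin_succ, _root_.Units.val_one, _root_.inv_one, _root_.Matrix.of_apply, _root_.Matrix.cons_val', _root_.Matrix.cons_val_fin_one, _root_.Matrix.SpecialLinearGroup.coe_one, Fin.isValue, _root_.Matrix.cons_val_zero, _root_.Matrix.cons_val_succ, _root_.IsEmpty.forall_iff, _root_.and_true, _root_.Matrix.one_apply_eq, Nat.reduceAdd, _root_.Fin.succ_zero_eq_one, _root_.ne_eq, _root_.zero_ne_one, _root_.not_false_eq_true, _root_.Matrix.one_apply_ne, _root_.and_self, _root_.Fin.succ_ne_zero, _root_.true_and])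

omit [CharP F 2] in
theorem d_inv (k : Fˣ) : (d k)⁻¹ = d k⁻¹ := by
  apply inv_eq_of_mul_eq_one_right
  rw [d_mul, mul_inv_cancel, d_one]

omit [CharP F 2] in
theorem d_mul_u (k : Fˣ) (b : F) : d k * u b = u ((k : F) ^ 2 * b) * d k := by
  apply Subtype.ext
  show (!![(k : F), 0; 0, ((k⁻¹ : Fˣ) : F)] : Matrix (Fin 2) (Fin 2) F) * !![1, b; 0, 1] =
    !![1, (k : F) ^ 2 * b; 0, 1] * !![(k : F), 0; 0, ((k⁻¹ : Fˣ) : F)]
  have hk : (k : F) ≠ 0 := k.ne_zero
  ext i j
  (revert i j; simp only [Matrix.mul_apply, Fin.sum_univ_two, _root_.Fin.forall_fin_succ, _root_.Units.val_inv_eq_inv_val, _root_.Matrix.of_apply, _root_.Matrix.cons_val', _root_.Matrix.cons_val_fin_one, Fin.isValue, _root_.Matrix.cons_val_zero, _root_.Matrix.cons_val_one, _root_.mul_one, _root_.MulZeroClass.mul_zero, _root_.add_zero, _root_.Matrix.cons_val_succ, _root_.zero_add, _root_.forall_const, _root_.one_mul, _root_.MulZeroClass.zero_mul, _root_.implies_true, _root_.and_true, _root_.true_and])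 <;> (repeat' with_reducible apply And.intro)
  field_simp

theorem w_mul_w : (w : Matrix.SpecialLinearGroup (Fin 2) F) * w = 1 := by
  apply Subtype.ext
  show (!![0, 1; 1, 0] : Matrix (Fin 2) (Fin 2) F) * !![0, 1; 1, 0] = 1
  ext i j
  (revert i j; simp only [Matrix.mul_apply, Fin.sum_univ_two, _root_.Fin.forall_fin_succ, _root_.Matrix.of_apply, _root_.Matrix.cons_val', _root_.Matrix.cons_val_fin_one, Fin.isValue, _root_.Matrix.cons_val_zero, _root_.Matrix.cons_val_one, _root_.MulZeroClass.mul_zero, _root_.mul_one, _root_.zero_add, _root_.Matrix.cons_val_succ, _root_.add_zero, _root_.IsEmpty.forall_iff, _root_.and_true, _root_.Matrix.one_apply_eq, Nat.reduceAdd, _root_.Fin.succ_zero_eq_one, _root_.ne_eq, _root_.zero_ne_one, _root_.not_false_eq_true, _root_.Matrix.one_apply_ne, _root_.and_self, _root_.Fin.succ_ne_zero, _root_.true_and])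

theorem w_inv : (w : Matrix.SpecialLinearGroup (Fin 2) F)⁻¹ = w := inv_eq_of_mul_eq_one_right w_mul_w

theorem w_mul_d (k : Fˣ) : w * d k = d k⁻¹ * w := by
  apply Subtype.ext
  show (!![0, 1; 1, 0] : Matrix (Fin 2) (Fin 2) F) * !![(k : F), 0; 0, ((k⁻¹ : Fˣ) : F)] =
    !![((k⁻¹ : Fˣ) : F), 0; 0, ((k⁻¹⁻¹ : Fˣ) : F)] * !![0, 1; 1, 0]
  ext i j
  (revert i j; simp only [Matrix.mul_apply, Fin.sum_univ_two, _root_.Fin.forall_fin_succ, _root_.Units.val_inv_eq_inv_val, _root_.Matrix.of_apply, _root_.Matrix.cons_val', _root_.Matrix.cons_val_fin_one, Fin.isValue, _root_.Matrix.cons_val_zero, _root_.Matrix.cons_val_one, _root_.inv_inv, _root_.MulZeroClass.mul_zero, _root_.add_zero, _root_.mul_one, _root_.zero_add, _root_.Matrix.cons_val_succ, _root_.forall_const, _root_.MulZeroClass.zero_mul, _root_.one_mul, _root_.and_self, _root_.implies_true])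

omit [CharP F 2] in
/-- the Borel subgroup -/
def B (F : Type*) [Field F] : Subgroup (Matrix.SpecialLinearGroup (Fin 2) F) where
  carrier := {g | g.1 1 0 = 0}
  mul_mem' := by
    intro a b ha hb
    have ha : a.1 1 0 = 0 := ha
    have hb : b.1 1 0 = 0 := hb
    show (a.1 * b.1) 1 0 = 0
    rw [Matrix.mul_apply, Fin.sum_univ_two, ha, hb]
    ring
  one_mem' := by
    show (1 : Matrix (Fin 2) (Fin 2) F) 1 0 = 0
    simp
  inv_mem' := by
    intro a ha
    have ha : a.1 1 0 = 0 := ha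
    show (a⁻¹).1 1 0 = 0
    rw [Matrix.SpecialLinearGroup.SL2_inv_expl]
    simp [ha]

omit [CharP F 2] in
theorem mem_B {g : Matrix.SpecialLinearGroup (Fin 2) F} : g ∈ B F ↔ g.1 1 0 = 0 := Iff.rfl

omit [CharP F 2] in
theorem mem_B_iff {g : Matrix.SpecialLinearGroup (Fin 2) F} : g ∈ B F ↔ ∃ b k, g = u b * d k := by
  constructor
  · intro h
    rw [mem_B] at h
    have hdet := g.2
    rw [Matrix.det_fin_two, h, mul_zero, sub_zero] at hdet
    have h0 : g.1 0 0 ≠ 0 := by
      intro h1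
      rw [h1, zero_mul] at hdet
      exact zero_ne_one hdet
    refine ⟨g.1 0 1 * g.1 0 0, Units.mk0 _ h0, ?_⟩
    apply Subtype.ext
    show g.1 = !![1, g.1 0 1 * g.1 0 0; 0, 1] *
      !![((Units.mk0 _ h0 : Fˣ) : F), 0; 0, (((Units.mk0 _ h0)⁻¹ : Fˣ) : F)]
    ext i j
    (revert i j; simp only [Matrix.mul_apply, Fin.sum_univ_two, h, _root_.Fin.forall_fin_succ, Fin.isValue, _root_.Units.val_mk0, _root_.Units.val_inv_eq_inv_val, _root_.Matrix.of_apply, _root_.Matrix.cons_val', _root_.Matrix.cons_val_fin_one, _root_.Matrix.cons_val_zero, _root_.Matrix.cons_val_one, _root_.MulZeroClass.mul_zero, _root_.add_zero, _root_.Matrix.cons_val_succ, _root_.zero_add, _root_.Fin.succ_zero_eq_one, _root_.IsEmpty.forall_iff, _root_.one_mul, _root_.MulZeroClass.zero_mul, _root_.and_true, _root_.true_and]) <;> (repeat' with_reducible apply And.intro)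
    · field_simp
    · field_simp
      linear_combination hdet
  · rintro ⟨b, k, rfl⟩
    rw [mem_B]
    show ((!![1, b; 0, 1] : Matrix (Fin 2) (Fin 2) F) * !![(k : F), 0; 0, ((k⁻¹ : Fˣ) : F)]) 1 0 = 0
    simp [Matrix.mul_apply, Fin.sum_univ_two]

omit [CharP F 2] in
/-- the unipotent subgroup -/
def U (F : Type*) [Field F] : Subgroup (Matrix.SpecialLinearGroup (Fin 2) F) where
  carrier := {g | ∃ b, g = u b}
  mul_mem' := by
    rintro _ _ ⟨b, rfl⟩ ⟨c, rfl⟩
    exact ⟨_, u_mul b c⟩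
  one_mem' := ⟨0, u_zero.symm⟩
  inv_mem' := by
    rintro _ ⟨b, rfl⟩
    refine ⟨-b, inv_eq_of_mul_eq_one_right ?_⟩
    rw [u_mul, add_neg_cancel, u_zero]

omit [CharP F 2] in
theorem u_mem (b : F) : u b ∈ U F := ⟨b, rfl⟩

omit [CharP F 2] in
theorem u_inj {b c : F} (h : u b = u c) : b = c := by
  have h1 : (u b).1 0 1 = (u c).1 0 1 := by rw [h]
  simpa [u] using h1

omit [CharP F 2] in
theorem u_mul_d_inj {b c : F} {k l : Fˣ} (h : u b * d k = u c * d l) : b = c ∧ k = l := by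
  have h2 : (u b * d k).1 0 0 = (u c * d l).1 0 0 := by rw [h]
  have h3 : k = l := by
    apply Units.ext
    have e : ∀ (b : F) (k : Fˣ), (u b * d k).1 0 0 = k := by
      intro b k
      show ((!![1, b; 0, 1] : Matrix (Fin 2) (Fin 2) F) * !![(k : F), 0; 0, ((k⁻¹ : Fˣ) : F)]) 0 0 = k
      simp [Matrix.mul_apply, Fin.sum_univ_two]
    rwa [e, e] at h2
  refine ⟨?_, h3⟩
  rw [h3] at h
  exact u_inj (mul_right_cancel h)

omit [CharP F 2] in
theorem U_le_B : U F ≤ B F := by
  rintro _ ⟨b, rfl⟩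
  exact mem_B_iff.2 ⟨b, 1, by rw [d_one, mul_one]⟩

omit [CharP F 2] in
theorem conj_U {h : Matrix.SpecialLinearGroup (Fin 2) F} (hh : h ∈ B F) (c : F) :
    ∃ k : Fˣ, h * u c * h⁻¹ = u ((k : F) ^ 2 * c) := by
  obtain ⟨b, k, rfl⟩ := mem_B_iff.1 hh
  refine ⟨k, ?_⟩
  have : u b * d k * u c * (u b * d k)⁻¹ = u b * (d k * u c) * (d k)⁻¹ * (u b)⁻¹ := by group
  rw [this, d_mul_u]
  have : u b * (u ((k : F) ^ 2 * c) * d k) * (d k)⁻¹ * (u b)⁻¹ = u b * u ((k : F) ^ 2 * c) * (u b)⁻¹ := by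
    group
  rw [this, u_mul, mul_inv_eq_iff_eq_mul, u_mul, add_comm]

theorem inter {b : F} (h : w⁻¹ * u b * w ∈ B F) : b = 0 := by
  rw [w_inv, mem_B] at h
  have h : ((!![0, 1; 1, 0] : Matrix (Fin 2) (Fin 2) F) * (!![1, b; 0, 1] : Matrix (Fin 2) (Fin 2) F) *
    (!![0, 1; 1, 0] : Matrix (Fin 2) (Fin 2) F)) 1 0 = 0 := h
  simpa [Matrix.mul_apply, Fin.sum_univ_two] using h

theorem w_not_mem : (w : Matrix.SpecialLinearGroup (Fin 2) F) ∉ B F := by
  intro h
  rw [mem_B] at h
  have h : (!![0, 1; 1, 0] : Matrix (Fin 2) (Fin 2) F) 1 0 = 0 := h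
  simp at h

theorem data : Data (B F) (U F) w where
  w_not_mem := w_not_mem
  le := U_le_B
  norm := by
    rintro h hh _ ⟨c, rfl⟩
    obtain ⟨k, hk⟩ := conj_U hh c
    rw [hk]
    exact u_mem _
  bruhat := by
    intro g hg
    rw [mem_B] at hg
    refine ⟨u (g.1 0 0 / g.1 1 0), u_mem _, ?_⟩
    have e : (u (g.1 0 0 / g.1 1 0) * w)⁻¹ * g = w * u (-(g.1 0 0 / g.1 1 0)) * g := by
      have h1 : (u (g.1 0 0 / g.1 1 0))⁻¹ = u (-(g.1 0 0 / g.1 1 0)) := by
        apply inv_eq_of_mul_eq_one_right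
        rw [u_mul, add_neg_cancel, u_zero]
      rw [_root_.mul_inv_rev, w_inv, h1]
    rw [e, mem_B]
    show ((!![0, 1; 1, 0] : Matrix (Fin 2) (Fin 2) F) *
      (!![1, -(g.1 0 0 / g.1 1 0); 0, 1] : Matrix (Fin 2) (Fin 2) F) * g.1) 1 0 = 0
    simp only [Matrix.mul_apply, Fin.sum_univ_two, _root_.Fin.isValue, _root_.Matrix.cons_mul, _root_.Nat.succ_eq_add_one, _root_.Nat.reduceAdd, _root_.Matrix.vecMul_cons, _root_.Matrix.head_cons, _root_.zero_smul, _root_.Matrix.tail_cons, _root_.one_smul, _root_.Matrix.empty_vecMul, _root_.add_zero, _root_.zero_add, _root_.Matrix.empty_mul, _root_.Equiv.symm_apply_apply, _root_.Matrix.of_apply, _root_.Matrix.cons_val', _root_.Matrix.cons_val_fin_one, _root_.Matrix.cons_val_one, _root_.Matrix.cons_val_zero, _root_.one_mul, _root_.neg_mul]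
    field_simp
    ring
  inter := by
    rintro _ ⟨b, rfl⟩ h
    rw [inter h, u_zero]

theorem w_conj_d (k : Fˣ) : w⁻¹ * d k * w = d k⁻¹ := by
  rw [w_inv, w_mul_d, mul_assoc, w_mul_w, mul_one]

theorem torus_form {t : Matrix.SpecialLinearGroup (Fin 2) F} (ht : t ∈ B F) (htw : w⁻¹ * t * w ∈ B F) :
    ∃ k, t = d k := by
  obtain ⟨b, k, rfl⟩ := mem_B_iff.1 ht
  have e : w⁻¹ * (u b * d k) * w = (w⁻¹ * u b * w) * (w⁻¹ * d k * w) := by group
  rw [e, w_conj_d] at htw
  have h1 := (B F).mul_mem htw ((B F).inv_mem (mem_B_iff.2 ⟨0, k⁻¹, by rw [u_zero, one_mul]⟩ : d k⁻¹ ∈ B F))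
  rw [mul_inv_cancel_right] at h1
  exact ⟨k, by rw [inter h1, u_zero, one_mul]⟩

theorem pow_form (b : F) (k : Fˣ) (m : ℕ) : ∃ c, (u b * d k) ^ m = u c * d (k ^ m) := by
  induction m with
  | zero => exact ⟨0, by rw [pow_zero, pow_zero, u_zero, d_one, one_mul]⟩
  | succ m ih =>
    obtain ⟨c, h⟩ := ih
    refine ⟨c + ((k ^ m : Fˣ) : F) ^ 2 * b, ?_⟩
    rw [pow_succ (u b * d k) m, h, ← u_mul, pow_succ k m, ← d_mul]
    have := d_mul_u (k ^ m) b
    calc u c * d (k ^ m) * (u b * d k) = u c * (d (k ^ m) * u b) * d k := by group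
      _ = _ := by rw [this]; group

theorem sq_inj {x y : F} (h : x ^ 2 = y ^ 2) : x = y := by
  have : (x + y) ^ 2 = 0 := by
    linear_combination h + (x * y) * (CharTwo.two_eq_zero (R := F)) + y ^ 2 * (CharTwo.two_eq_zero (R := F))
  exact CharTwo.add_eq_zero.1 (pow_eq_zero_iff two_ne_zero |>.1 this)

theorem frame [Finite F] : Frame (B F) (U F) (U F) w where
  data := data
  ww := w_mul_w
  ZU := le_rfl
  Zn := fun b hb z hz => (data (F := F)).norm b hb z hz
  inv := by
    rintro _ ⟨b, rfl⟩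
    rw [u_mul, CharTwo.add_self_eq_zero, u_zero]
  inv' := fun x hx _ => hx
  two := by
    intro x hx m hm
    obtain ⟨b, k, rfl⟩ := mem_B_iff.1 hx
    obtain ⟨c, h⟩ := pow_form b k (2 ^ m)
    have hm' : u c * d (k ^ 2 ^ m) = u 0 * d 1 := by
      rw [← h, hm, u_zero, d_one, one_mul]
    have h2 := (u_mul_d_inj hm').2
    have h3 : k ^ Nat.card Fˣ = 1 := pow_card_eq_one'
    have hodd : Odd (Nat.card Fˣ) := by
      rw [Nat.card_units]
      let _ : Fintype F := Fintype.ofFinite F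
      obtain ⟨n, -, hn⟩ := FiniteField.card F 2
      rw [Nat.card_eq_fintype_card, hn]
      exact Nat.Even.sub_odd (Nat.one_le_pow _ _ (by norm_num)) (Nat.even_pow.mpr ⟨even_two, n.ne_zero⟩)
        odd_one
    have h5 : k = 1 := by
      rw [← orderOf_eq_one_iff, ← Nat.dvd_one]
      have hc : Nat.Coprime (2 ^ m) (Nat.card Fˣ) :=
        Nat.Coprime.pow_left m (Nat.coprime_two_left.2 hodd)
      rw [← Nat.Coprime.gcd_eq_one hc]
      exact Nat.dvd_gcd (orderOf_dvd_of_pow_eq_one h2) (orderOf_dvd_of_pow_eq_one h3)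
    rw [h5, d_one, mul_one]
    exact u_mem b
  twoU := by
    rintro ⟨_, b, rfl⟩
    refine ⟨1, Subtype.ext ?_⟩
    show u b ^ (2 ^ 1) = 1
    rw [pow_one, pow_two, u_mul, CharTwo.add_self_eq_zero, u_zero]
  Tw := by
    intro t ht htw
    obtain ⟨k, rfl⟩ := torus_form ht htw
    rw [w_conj_d, ← d_inv]
    exact Subgroup.inv_mem _ (Subgroup.mem_zpowers _)
  TZ := by
    rintro t ht htw _ ⟨b, rfl⟩ hb1 h _ ⟨c, rfl⟩
    obtain ⟨k, rfl⟩ := torus_form ht htw
    rw [d_mul_u] at h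
    have h2 := u_inj (mul_right_cancel h)
    have hb : b ≠ 0 := by
      rintro rfl
      exact hb1 u_zero
    have h3 : (k : F) ^ 2 = 1 := by
      apply mul_right_cancel₀ hb
      rw [h2, one_mul]
    rw [d_mul_u, h3, one_mul]

theorem U_ne_bot : U F ≠ ⊥ := by
  intro h
  have h1 : u (1 : F) ∈ U F := u_mem 1
  rw [h, Subgroup.mem_bot, ← u_zero] at h1
  exact one_ne_zero (u_inj h1)

theorem two_top {H : Subgroup (Matrix.SpecialLinearGroup (Fin 2) F)} (hZ : U F ≤ H)
    (hZw : ∀ z ∈ U F, w * z * w ∈ H) : H = ⊤ := by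
  have key : ∀ k : Fˣ, d k * w = u (k : F) * (w * u ((k⁻¹ : Fˣ) : F) * w) * u (k : F) := by
    intro k
    apply Subtype.ext
    show (!![(k : F), 0; 0, ((k⁻¹ : Fˣ) : F)] : Matrix (Fin 2) (Fin 2) F) * !![0, 1; 1, 0] =
      !![1, (k : F); 0, 1] * (!![0, 1; 1, 0] * !![1, ((k⁻¹ : Fˣ) : F); 0, 1] * !![0, 1; 1, 0]) *
        !![1, (k : F); 0, 1]
    have hk : (k : F) ≠ 0 := k.ne_zero
    ext i j
    (revert i j; simp only [Matrix.mul_apply, Fin.sum_univ_two, CharTwo.add_self_eq_zero, hk, _root_.Fin.forall_fin_succ, _root_.Units.val_inv_eq_inv_val, _root_.Matrix.of_apply, _root_.Matrix.cons_val', _root_.Matrix.cons_val_fin_one, Fin.isValue, _root_.Matrix.cons_val_zero, _root_.Matrix.cons_val_one, _root_.Matrix.cons_mul, _root_.Nat.succ_eq_add_one, Nat.reduceAdd, _root_.Matrix.vecMul_cons, _root_.Matrix.head_cons, _root_.zero_smul, _root_.Matrix.tail_cons, _root_.one_smul, _root_.Matrix.empty_vecMul, _root_.add_zero, _root_.zero_add, _root_.Matrix.empty_mul,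 _root_.Equiv.symm_apply_apply, _root_.Matrix.smul_cons, _root_.smul_eq_mul, _root_.mul_one, _root_.MulZeroClass.mul_zero, _root_.Matrix.smul_empty, _root_.Matrix.add_cons, _root_.Matrix.empty_add_empty, _root_.ne_eq, _root_.not_false_eq_true, _root_.mul_inv_cancel₀, _root_.Matrix.cons_val_succ, _root_.forall_const, _root_.true_and, _root_.MulZeroClass.zero_mul, _root_.inv_mul_cancel₀, _root_.implies_true, _root_.and_self])
  have hdw : ∀ k : Fˣ, d k * w ∈ H := by
    intro k
    rw [key]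
    exact H.mul_mem (H.mul_mem (hZ (u_mem _)) (hZw _ (u_mem _))) (hZ (u_mem _))
  have hw : w ∈ H := by
    have := hdw 1
    rwa [d_one, one_mul] at this
  have hd : ∀ k, d k ∈ H := by
    intro k
    have := H.mul_mem (hdw k) hw
    rwa [mul_assoc, w_mul_w, mul_one] at this
  rw [eq_top_iff]
  intro g _
  have hB : ∀ g ∈ B F, g ∈ H := by
    intro g hg
    obtain ⟨b, k, rfl⟩ := mem_B_iff.mp hg
    exact H.mul_mem (hZ (u_mem _)) (hd k)
  by_cases hg : g ∈ B F
  · exact hB g hg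
  · obtain ⟨s, hs, h⟩ := (data (F := F)).bruhat g hg
    have h1 := H.mul_mem (H.mul_mem (hZ hs) hw) (hB _ h)
    rwa [mul_inv_cancel_left] at h1

theorem one_class [Finite F] : ∀ s t : Matrix.SpecialLinearGroup (Fin 2) F,
    orderOf s = 2 → orderOf t = 2 → IsConj s t := by
  apply frame.one_class U_ne_bot
  rintro _ ⟨b, rfl⟩ _ ⟨c, rfl⟩ h1 h2
  have hb : b ≠ 0 := by
    rintro rfl
    exact h1 u_zero
  have hc : c ≠ 0 := by
    rintro rfl
    exact h2 u_zero
  have hs : Function.Surjective (fun x : F => x ^ 2) :=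
    Finite.surjective_of_injective (fun x y h => sq_inj h)
  obtain ⟨k, hk⟩ := hs (c / b)
  have hk : k ^ 2 = c / b := hk
  have hk0 : k ≠ 0 := by
    rintro rfl
    rw [zero_pow two_ne_zero] at hk
    exact div_ne_zero hc hb hk.symm
  refine isConj_iff.2 ⟨d (Units.mk0 k hk0), ?_⟩
  rw [mul_inv_eq_iff_eq_mul, d_mul_u, Units.val_mk0, hk]
  have : c / b * b = c := by field_simp
  rw [this]

theorem binary_iff [Finite F] {H : Subgroup (Matrix.SpecialLinearGroup (Fin 2) F)} (hH : H ≠ ⊤)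
    (heven : Even (Nat.card H)) :
    Binary H ↔ ∃ P : Sylow 2 (Matrix.SpecialLinearGroup (Fin 2) F), H = P := by
  have hf := frame (F := F)
  have key : (∃ P : Sylow 2 (Matrix.SpecialLinearGroup (Fin 2) F), H = P) ↔ ∃ g, H = cj g (U F) := by
    constructor
    · rintro ⟨P, rfl⟩
      exact hf.sylow_conj U_ne_bot P
    · rintro ⟨g, rfl⟩
      obtain ⟨P, hP⟩ := hf.exists_sylow_cj U_ne_bot g
      exact ⟨P, hP.symm⟩
  rw [key]
  constructor
  · intro hb
    exact hf.eq_cj U_ne_bot hb one_class heven hH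
      (fun K hb hZ hKU => le_antisymm hKU hZ)
      (fun K hb hZ hHB k hk hk1 hkw hkZ => by
        obtain ⟨l, rfl⟩ := torus_form (hHB hk) hkw
        have h1 := hkZ (u 1) (u_mem 1)
        rw [d_mul_u] at h1
        have h2 := u_inj (mul_right_cancel h1)
        rw [mul_one] at h2
        apply hk1
        have h3 : l = 1 := by
          apply Units.ext
          apply sq_inj
          rw [h2, Units.val_one, one_pow]
        rw [h3, d_one])
      (fun K hb hK hZ hZw => hK (two_top hZ hZw))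
  · rintro ⟨g, rfl⟩
    exact hf.binary_cj_Z g

end SLTwo

/-- **Binary actions of groups isomorphic to `SL₂(2^a)`, subgroups of even order.** -/
theorem sl_binary_iff {G : Type*} [Group G] [Finite G] {F : Type*} [Field F] [Finite F] [CharP F 2]
    (e : Nonempty (G ≃* Matrix.SpecialLinearGroup (Fin 2) F))
    {H : Subgroup G} (hH : H ≠ ⊤) (heven : Even (Nat.card H)) :
    Binary H ↔ ∃ P : Sylow 2 G, H = P := by
  obtain ⟨e⟩ := e
  rw [← sylow_congr e, ← binary_congr e]
  apply SLTwo.binary_iff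
  · exact map_ne_top e hH
  · rwa [card_map_equiv]

end Cfsg.Agent.H896
end

-- part: H896/Even
section
/-!
# `PSL₂(2^a)` is `SL₂(2^a)` (helper896)
-/

set_option autoImplicit false

namespace Cfsg.Agent.H896

open Matrix

section

variable {F : Type*} [Field F] [CharP F 2]

theorem center_sl_two : Subgroup.center (Matrix.SpecialLinearGroup (Fin 2) F) = ⊥ := by
  rw [eq_bot_iff]
  intro A hA
  rw [Matrix.SpecialLinearGroup.mem_center_iff] at hA
  obtain ⟨r, hr, h⟩ := hA
  have h1 : r = 1 := by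
    apply SLTwo.sq_inj
    rw [one_pow]
    simpa only [_root_.sq_eq_one_iff, _root_.Fintype.card_fin] using hr
  rw [Subgroup.mem_bot]
  apply Subtype.ext
  rw [← h, h1]
  simp

/-- `PSL₂(2^a)` is `SL₂(2^a)` -/
noncomputable def pslEquiv :
    Matrix.ProjectiveSpecialLinearGroup (Fin 2) F ≃* Matrix.SpecialLinearGroup (Fin 2) F :=
  (QuotientGroup.quotientMulEquivOfEq center_sl_two).trans QuotientGroup.quotientBot

end

theorem charP_two_of_card_pow {F : Type*} [Field F] [Fintype F] {a : ℕ} (hF : Fintype.card F = 2 ^ a) :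
    CharP F 2 := by
  have h1 : ((Fintype.card F : ℕ) : F) = 0 := FiniteField.cast_card_eq_zero F
  rw [hF] at h1
  push_cast at h1
  have h2 : (2 : F) = 0 := by
    by_contra h
    exact pow_ne_zero a h h1
  exact CharTwo.of_one_ne_zero_of_two_eq_zero one_ne_zero h2

end Cfsg.Agent.H896
end

-- part: S5735
section
set_option autoImplicit false
open Cfsg

namespace Cfsg.Agent.S5735

open Cfsg.Agent.H896

/-- Let G be a finite simple group with exactly one conjugacy class of involutions, and let H be a proper subgroup of even order. Then the action of G on the cosets of H is binary if and only if one of the following holds: G ≅ SL₂(2^a) with a ≥ 2 and H is a Sylow 2-subgroup; G is a Suzuki group Sz(2^(2a+1)) with a ≥ 1 and H is the centre of a Sylow 2-subgroup; G ≅ PSU₃(2^a) with a ≥ 2 and H is the centre of a Sylow 2-subgroup. Here an action is binary (relational complexity 2) when, for every n ≥ 2 and all n-tuples I, J of points, if for every pair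 of positions some group element carries the corresponding pair of entries of I to those of J, then a single group element carries I to J. -/
theorem result {G : Type*} [Group G] [Finite G] [IsSimpleGroup G] (hinv : ∃ s : G, orderOf s = 2)
    (hone : ∀ s t : G, orderOf s = 2 → orderOf t = 2 → IsConj s t)
    (H : Subgroup G) (hH : H ≠ ⊤) (heven : Even (Nat.card H)) :
    (∀ (n : ℕ) (I J : Fin n → G ⧸ H), 2 ≤ n →
        (∀ i j : Fin n, i ≠ j → ∃ g : G, g • I i = J i ∧ g • I j = J j) → ∃ g : G, ∀ i, g • I i = J i) ↔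
      (((∃ (F : Type) (_ : Field F) (_ : Fintype F) (a : ℕ), 2 ≤ a ∧ Fintype.card F = 2 ^ a ∧ Nonempty (G ≃* Matrix.SpecialLinearGroup (Fin 2) F)) ∧
          ∃ P : Sylow 2 G, H = P) ∨
        (Cfsg.Lie.IsoSuzuki G ∧ ∃ P : Sylow 2 G, H = (Subgroup.center (P : Subgroup G)).map (P : Subgroup G).subtype) ∨
        ((∃ (F : Type) (_ : Field F) (_ : Fintype F) (a : ℕ), 2 ≤ a ∧ Fintype.card F = (2 ^ a) ^ 2 ∧ Nonempty (G ≃* Cfsg.PSU 3 F (2 ^ a))) ∧
          ∃ P : Sylow 2 G, H = (Subgroup.center (P : Subgroup G)).map (P : Subgroup G).subtype)) := by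
  show Binary H ↔ _
  constructor
  · intro hb
    obtain ⟨M, hM⟩ := exists_stronglyEmbedded hb hone hH heven
    have hna : ∃ a b : G, a * b ≠ b * a := by
      by_contra hcon
      push Not at hcon
      -- `H` would be normal
      have hn : H.Normal := ⟨fun n hn g => by
        rw [hcon g n, mul_inv_cancel_right]; exact hn⟩
      rcases hn.eq_bot_or_eq_top with h | h
      · rw [h, Subgroup.card_bot] at heven
        exact (by decide : ¬ Even 1) heven
      · exact hH h
    rcases Cfsg.Agent.StrongEmb.Strong.result hna M hM with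
      ⟨F, i1, i2, ⟨a, ha, hF⟩, ⟨e⟩⟩ | h | ⟨F, i1, i2, n, hn, hF, e⟩
    · left
      have := charP_two_of_card_pow hF
      have e' : G ≃* Matrix.SpecialLinearGroup (Fin 2) F := e.trans pslEquiv
      exact ⟨⟨F, i1, i2, a, ha, hF, ⟨e'⟩⟩, (sl_binary_iff ⟨e'⟩ hH heven).1 hb⟩
    · right; left
      refine ⟨h, ?_⟩
      obtain ⟨F, i1, i2, m, hm, hF, e⟩ := h
      exact (sz_binary_iff hm hF e hH heven).1 hb
    · right; right
      exact ⟨⟨F, i1, i2, n, hn, hF, e⟩,
        (psu_binary_iff hn (by rw [Nat.card_eq_fintype_card, hF]) e hone hH heven).1 hb⟩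
  · rintro (⟨⟨F, i1, i2, a, ha, hF, e⟩, h⟩ | ⟨⟨F, i1, i2, m, hm, hF, e⟩, h⟩ | ⟨⟨F, i1, i2, n, hn, hF, e⟩, h⟩)
    · have := charP_two_of_card_pow hF
      exact (sl_binary_iff e hH heven).2 h
    · exact (sz_binary_iff hm hF e hH heven).2 h
    · exact (psu_binary_iff hn (by rw [Nat.card_eq_fintype_card, hF]) e hone hH heven).2 h

end Cfsg.Agent.S5735
end

private theorem dce_319aa7056585 : _root_.True := by
  try have : _root_.True := by simp only [_root_.Cfsg.Agent.H896.fr.congr_simp]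
  try have : _root_.True := by simp only [_root_.Cfsg.Agent.H896.fl.congr_simp]
  try have : _root_.True := by simp only [_root_.Cfsg.Agent.H896.SLTwo.w.congr_simp]
  try have : _root_.True := by simp only [_root_.Cfsg.Agent.H896.SLTwo.d.eq_1]
  try have : _root_.True := by simp only [_root_.Cfsg.Agent.H896.SLTwo.u.eq_1]
  try have : _root_.True := by simp only [_root_.Cfsg.Agent.LieRecognition.HermHeis.zet.congr_simp]
  exact _root_.True.intro
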