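import Cfsg.Agent.H896.SzEven
import Cfsg.Agent.S5735
import Cfsg.Agent.TwoFusion.SLTwoFacts
import Cfsg.Agent.ClassicalGeometry.SLTwoFour
import Cfsg.Agent.S0799
import Cfsg.Agent.ClassicalGeometry.PSL2Solvable
import Cfsg.Agent.ClassicalGeometry.PSL2Basic
import Cfsg.Statements.S5736
import Cfsg.Agent.FastGrp
import Cfsg.Agent.Prune
set_option linter.all false
prune_inst 0x7f00000000000000000000000000000000000000000000000000000000000000000000000000000000000000000000000000000000000000000000000000000000000000000000000000000000000000003fffffffffffffffffffffffffffbeffbdffffffff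
open scoped Cfsg.Agent.FastGrp

-- part: H896/PSLAlg
section
/-!
# Two by two matrices of determinant one: commuting elements, traces (helper896)
-/

set_option autoImplicit false
set_option linter.unusedSectionVars false

namespace Cfsg.Agent.H896

namespace PL

open Matrix

variable {F : Type*} [Field F]

theorem m00 (X Y : Matrix.SpecialLinearGroup (Fin 2) F) :
    (X * Y).1 0 0 = X.1 0 0 * Y.1 0 0 + X.1 0 1 * Y.1 1 0 := by
  rw [Matrix.SpecialLinearGroup.coe_mul, Matrix.mul_apply, Fin.sum_univ_two]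

theorem m01 (X Y : Matrix.SpecialLinearGroup (Fin 2) F) :
    (X * Y).1 0 1 = X.1 0 0 * Y.1 0 1 + X.1 0 1 * Y.1 1 1 := by
  rw [Matrix.SpecialLinearGroup.coe_mul, Matrix.mul_apply, Fin.sum_univ_two]

theorem m10 (X Y : Matrix.SpecialLinearGroup (Fin 2) F) :
    (X * Y).1 1 0 = X.1 1 0 * Y.1 0 0 + X.1 1 1 * Y.1 1 0 := by
  rw [Matrix.SpecialLinearGroup.coe_mul, Matrix.mul_apply, Fin.sum_univ_two]

theorem m11 (X Y : Matrix.SpecialLinearGroup (Fin 2) F) :
    (X * Y).1 1 1 = X.1 1 0 * Y.1 0 1 + X.1 1 1 * Y.1 1 1 := by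
  rw [Matrix.SpecialLinearGroup.coe_mul, Matrix.mul_apply, Fin.sum_univ_two]

theorem i00 (X : Matrix.SpecialLinearGroup (Fin 2) F) : (X⁻¹).1 0 0 = X.1 1 1 := by
  rw [Matrix.SpecialLinearGroup.SL2_inv_expl]; rfl

theorem i01 (X : Matrix.SpecialLinearGroup (Fin 2) F) : (X⁻¹).1 0 1 = -X.1 0 1 := by
  rw [Matrix.SpecialLinearGroup.SL2_inv_expl]; rfl

theorem i10 (X : Matrix.SpecialLinearGroup (Fin 2) F) : (X⁻¹).1 1 0 = -X.1 1 0 := by
  rw [Matrix.SpecialLinearGroup.SL2_inv_expl]; rfl

theorem i11 (X : Matrix.SpecialLinearGroup (Fin 2) F) : (X⁻¹).1 1 1 = X.1 0 0 := by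
  rw [Matrix.SpecialLinearGroup.SL2_inv_expl]; rfl

theorem o00 : (1 : Matrix.SpecialLinearGroup (Fin 2) F).1 0 0 = 1 := by
  show (1 : Matrix (Fin 2) (Fin 2) F) 0 0 = 1
  simp

theorem o11 : (1 : Matrix.SpecialLinearGroup (Fin 2) F).1 1 1 = 1 := by
  show (1 : Matrix (Fin 2) (Fin 2) F) 1 1 = 1
  simp

theorem dt (X : Matrix.SpecialLinearGroup (Fin 2) F) :
    X.1 0 0 * X.1 1 1 - X.1 0 1 * X.1 1 0 = 1 := by
  rw [← Matrix.det_fin_two]
  exact X.2

theorem ext' {X Y : Matrix.SpecialLinearGroup (Fin 2) F} (h00 : X.1 0 0 = Y.1 0 0)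
    (h01 : X.1 0 1 = Y.1 0 1) (h10 : X.1 1 0 = Y.1 1 0) (h11 : X.1 1 1 = Y.1 1 1) : X = Y := by
  apply Subtype.ext
  ext i j
  fin_cases i <;> fin_cases j
  · exact h00
  · exact h01
  · exact h10
  · exact h11

/-- trace -/
def tr (X : Matrix.SpecialLinearGroup (Fin 2) F) : F := X.1 0 0 + X.1 1 1

theorem mem_center {X : Matrix.SpecialLinearGroup (Fin 2) F} :
    X ∈ Subgroup.center (Matrix.SpecialLinearGroup (Fin 2) F) ↔
      X.1 0 1 = 0 ∧ X.1 1 0 = 0 ∧ X.1 0 0 = X.1 1 1 := by
  rw [Matrix.SpecialLinearGroup.mem_center_iff]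
  constructor
  · rintro ⟨r, -, h⟩
    have h' : X.1 = Matrix.scalar (Fin 2) r := h.symm
    rw [h']
    simp
  · rintro ⟨h1, h2, h3⟩
    refine ⟨X.1 0 0, ?_, ?_⟩
    · have := dt X
      rw [h1, ← h3] at this
      simp only [Fintype.card_fin]
      linear_combination this
    · ext i j
      fin_cases i <;> fin_cases j
      · simp
      · simp
        exact h1.symm
      · simp
        exact h2.symm
      · simp
        exact h3

theorem comm_iff {X Y : Matrix.SpecialLinearGroup (Fin 2) F} : X * Y = Y * X ↔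
    X.1 0 1 * Y.1 1 0 = X.1 1 0 * Y.1 0 1 ∧
    Y.1 0 1 * (X.1 0 0 - X.1 1 1) = X.1 0 1 * (Y.1 0 0 - Y.1 1 1) ∧
    X.1 1 0 * (Y.1 0 0 - Y.1 1 1) = Y.1 1 0 * (X.1 0 0 - X.1 1 1) := by
  constructor
  · intro h
    have h00 : (X * Y).1 0 0 = (Y * X).1 0 0 := by rw [h]
    have h01 : (X * Y).1 0 1 = (Y * X).1 0 1 := by rw [h]
    have h10 : (X * Y).1 1 0 = (Y * X).1 1 0 := by rw [h]
    rw [m00, m00] at h00
    rw [m01, m01] at h01
    rw [m10, m10] at h10
    refine ⟨by linear_combination h00, by linear_combination h01, by linear_combination h10⟩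
  · rintro ⟨h1, h2, h3⟩
    apply ext'
    · rw [m00, m00]; linear_combination h1
    · rw [m01, m01]; linear_combination h2
    · rw [m10, m10]; linear_combination h3
    · rw [m11, m11]; linear_combination -h1

/-- commuting is transitive on elements outside the centre -/
theorem comm_trans {A X Y : Matrix.SpecialLinearGroup (Fin 2) F}
    (hA : A ∉ Subgroup.center (Matrix.SpecialLinearGroup (Fin 2) F)) (hX : A * X = X * A)
    (hY : A * Y = Y * A) : X * Y = Y * X := by
  rw [mem_center] at hA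
  rw [comm_iff] at hX hY ⊢
  obtain ⟨x1, x2, x3⟩ := hX
  obtain ⟨y1, y2, y3⟩ := hY
  generalize A.1 0 1 = p at *
  generalize A.1 1 0 = q at *
  generalize hr : A.1 0 0 - A.1 1 1 = r at *
  generalize X.1 0 1 = p' at *
  generalize X.1 1 0 = q' at *
  generalize X.1 0 0 - X.1 1 1 = r' at *
  generalize Y.1 0 1 = p'' at *
  generalize Y.1 1 0 = q'' at *
  generalize Y.1 0 0 - Y.1 1 1 = r'' at *
  by_cases hp : p = 0
  · by_cases hq : q = 0
    · have hr0 : r ≠ 0 := by
        rw [← hr]
        intro h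
        exact hA ⟨hp, hq, sub_eq_zero.1 h⟩
      subst hp hq
      have e1 : p' = 0 := by
        apply mul_right_cancel₀ hr0
        linear_combination x2
      have e2 : q' = 0 := by
        apply mul_right_cancel₀ hr0
        linear_combination -x3
      have e3 : p'' = 0 := by
        apply mul_right_cancel₀ hr0
        linear_combination y2
      have e4 : q'' = 0 := by
        apply mul_right_cancel₀ hr0
        linear_combination -y3
      subst e1 e2 e3 e4
      simp
    · subst hp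
      have e1 : p' = 0 := by
        apply mul_left_cancel₀ hq
        linear_combination -x1
      have e3 : p'' = 0 := by
        apply mul_left_cancel₀ hq
        linear_combination -y1
      subst e1 e3
      refine ⟨by ring, by ring, ?_⟩
      apply mul_left_cancel₀ hq
      linear_combination q' * y3 - q'' * x3
  · have h2 : p'' * r' = p' * r'' := by
      apply mul_left_cancel₀ hp
      linear_combination p' * y2 - p'' * x2
    refine ⟨?_, h2, ?_⟩
    · apply mul_left_cancel₀ hp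
      linear_combination p' * y1 - p'' * x1
    · apply mul_left_cancel₀ hp
      linear_combination r'' * x1 - r' * y1 - q * h2

theorem tr_conj (X Y : Matrix.SpecialLinearGroup (Fin 2) F) : tr (Y * X * Y⁻¹) = tr X := by
  unfold tr
  rw [m00 (Y * X), m11 (Y * X), m00, m01, m10, m11, i00, i01, i10, i11]
  linear_combination (X.1 0 0 + X.1 1 1) * dt Y

theorem cube {g : Matrix.SpecialLinearGroup (Fin 2) F} (h : tr g * tr g = 1) :
    g * g * g ∈ Subgroup.center (Matrix.SpecialLinearGroup (Fin 2) F) := by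
  have hd := dt g
  unfold tr at h
  rw [mem_center, m00 (g * g), m01 (g * g), m10 (g * g), m11 (g * g), m00, m01, m10, m11]
  refine ⟨?_, ?_, ?_⟩
  · linear_combination g.1 0 1 * h - g.1 0 1 * hd
  · linear_combination g.1 1 0 * h - g.1 1 0 * hd
  · linear_combination (g.1 0 0 - g.1 1 1) * h - (g.1 0 0 - g.1 1 1) * hd

theorem of_cube {g : Matrix.SpecialLinearGroup (Fin 2) F}
    (hg : g ∉ Subgroup.center (Matrix.SpecialLinearGroup (Fin 2) F))
    (h : g * g * g ∈ Subgroup.center (Matrix.SpecialLinearGroup (Fin 2) F)) : tr g * tr g = 1 := by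
  have hd := dt g
  rw [mem_center, m00 (g * g), m01 (g * g), m10 (g * g), m11 (g * g), m00, m01, m10, m11] at h
  obtain ⟨h1, h2, h3⟩ := h
  rw [mem_center] at hg
  unfold tr
  have e1 : g.1 0 1 * ((g.1 0 0 + g.1 1 1) * (g.1 0 0 + g.1 1 1) - 1) = 0 := by
    linear_combination h1 + g.1 0 1 * hd
  have e2 : g.1 1 0 * ((g.1 0 0 + g.1 1 1) * (g.1 0 0 + g.1 1 1) - 1) = 0 := by
    linear_combination h2 + g.1 1 0 * hd
  have e3 : (g.1 0 0 - g.1 1 1) * ((g.1 0 0 + g.1 1 1) * (g.1 0 0 + g.1 1 1) - 1) = 0 := by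
    linear_combination h3 + (g.1 0 0 - g.1 1 1) * hd
  by_contra hne
  have hne' : (g.1 0 0 + g.1 1 1) * (g.1 0 0 + g.1 1 1) - 1 ≠ 0 := fun h => hne (sub_eq_zero.1 h)
  exact hg ⟨(mul_eq_zero.1 e1).resolve_right hne', (mul_eq_zero.1 e2).resolve_right hne',
    sub_eq_zero.1 ((mul_eq_zero.1 e3).resolve_right hne')⟩

theorem cube00 {g : Matrix.SpecialLinearGroup (Fin 2) F} (h : tr g * tr g = 1) :
    (g * g * g).1 0 0 = - tr g := by
  have hd := dt g
  unfold tr at *
  rw [m00 (g * g), m00, m01]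
  linear_combination g.1 0 0 * h - (2 * g.1 0 0 + g.1 1 1) * hd

/-- elements commuting with `X` with the same trace -/
theorem eq_or_inv {X Y : Matrix.SpecialLinearGroup (Fin 2) F}
    (hX : X ∉ Subgroup.center (Matrix.SpecialLinearGroup (Fin 2) F)) (h4 : tr X * tr X ≠ 4)
    (hc : X * Y = Y * X) (ht : tr Y = tr X) : Y = X ∨ Y = X⁻¹ := by
  have hdX := dt X
  have hdY := dt Y
  rw [mem_center] at hX
  rw [comm_iff] at hc
  obtain ⟨c1, c2, c3⟩ := hc
  obtain ⟨s, s1, s2, s3⟩ : ∃ s : F, Y.1 0 1 = s * X.1 0 1 ∧ Y.1 1 0 = s * X.1 1 0 ∧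
      Y.1 0 0 - Y.1 1 1 = s * (X.1 0 0 - X.1 1 1) := by
    by_cases h1 : X.1 0 1 = 0
    · by_cases h2 : X.1 1 0 = 0
      · have h3 : X.1 0 0 - X.1 1 1 ≠ 0 := fun h => hX ⟨h1, h2, sub_eq_zero.1 h⟩
        refine ⟨(Y.1 0 0 - Y.1 1 1) / (X.1 0 0 - X.1 1 1), ?_, ?_, by field_simp⟩
        · rw [h1, mul_zero]
          apply mul_right_cancel₀ h3
          rw [c2, h1]; ring
        · rw [h2, mul_zero]
          apply mul_right_cancel₀ h3
          rw [← c3, h2]; ring
      · refine ⟨Y.1 1 0 / X.1 1 0, ?_, by field_simp, ?_⟩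
        · field_simp
          linear_combination -c1
        · field_simp
          linear_combination c3
    · refine ⟨Y.1 0 1 / X.1 0 1, by field_simp, ?_, ?_⟩
      · field_simp
        linear_combination c1
      · field_simp
        linear_combination -c2
  have hss : (s - 1) * (s + 1) = 0 := by
    have h5 : (s * s - 1) * (tr X * tr X - 4) = 0 := by
      have e1 : tr X * tr X - 4 = (X.1 0 0 - X.1 1 1) ^ 2 + 4 * (X.1 0 1 * X.1 1 0) := by
        unfold tr
        linear_combination 4 * hdX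
      have e2 : tr X * tr X - 4 = (Y.1 0 0 - Y.1 1 1) ^ 2 + 4 * (Y.1 0 1 * Y.1 1 0) := by
        rw [← ht]
        unfold tr
        linear_combination 4 * hdY
      rw [s1, s2, s3] at e2
      linear_combination s * s * e1 - e2
    have h6 : tr X * tr X - 4 ≠ 0 := fun h => h4 (sub_eq_zero.1 h)
    have := (mul_eq_zero.1 h5).resolve_right h6
    linear_combination this
  unfold tr at ht
  have hs2 : s * s = 1 := by linear_combination hss
  have hprod : (Y.1 0 0 - X.1 0 0) * (Y.1 0 0 - X.1 1 1) = 0 := by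
    rw [s1, s2] at hdY
    linear_combination (-(Y.1 0 0)) * ht * (-1) - hdY + hdX - X.1 0 1 * X.1 1 0 * hs2
  rcases mul_eq_zero.1 hss with h | h
  · have hs : s = 1 := sub_eq_zero.1 h
    rw [hs] at s1 s2 s3
    rcases mul_eq_zero.1 hprod with h0 | h0
    · left
      apply ext'
      · linear_combination h0
      · linear_combination s1
      · linear_combination s2
      · linear_combination ht - h0
    · by_cases h2 : (2 : F) = 0
      · right
        apply ext'
        · rw [i00]; linear_combination h0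
        · rw [i01]; linear_combination s1 + X.1 0 1 * h2
        · rw [i10]; linear_combination s2 + X.1 1 0 * h2
        · rw [i11]; linear_combination ht - h0
      · left
        have h3 : X.1 0 0 = X.1 1 1 := by
          apply mul_left_cancel₀ h2
          linear_combination 2 * h0 - s3 - ht
        apply ext'
        · linear_combination h0 - h3
        · linear_combination s1
        · linear_combination s2
        · linear_combination ht - h0 + h3
  · have hs : s = -1 := by linear_combination h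
    rw [hs] at s1 s2 s3
    rcases mul_eq_zero.1 hprod with h0 | h0
    · by_cases h2 : (2 : F) = 0
      · left
        apply ext'
        · linear_combination h0
        · linear_combination s1 - X.1 0 1 * h2
        · linear_combination s2 - X.1 1 0 * h2
        · linear_combination ht - h0
      · right
        have h3 : X.1 0 0 = X.1 1 1 := by
          apply mul_left_cancel₀ h2
          linear_combination s3 - 2 * h0 + ht
        apply ext'
        · rw [i00]; linear_combination h0 + h3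
        · rw [i01]; linear_combination s1
        · rw [i10]; linear_combination s2
        · rw [i11]; linear_combination ht - h0 - h3
    · right
      apply ext'
      · rw [i00]; linear_combination h0
      · rw [i01]; linear_combination s1
      · rw [i10]; linear_combination s2
      · rw [i11]; linear_combination ht - h0

/-- an element inverting `X` has trace zero -/
theorem tr_of_inv {X Y : Matrix.SpecialLinearGroup (Fin 2) F}
    (hX : X ∉ Subgroup.center (Matrix.SpecialLinearGroup (Fin 2) F)) (h : Y * X * Y⁻¹ = X⁻¹) :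
    tr Y = 0 := by
  rw [mem_center] at hX
  have h' : Y * X = X⁻¹ * Y := mul_inv_eq_iff_eq_mul.1 h
  have h00 : (Y * X).1 0 0 = (X⁻¹ * Y).1 0 0 := by rw [h']
  have h01 : (Y * X).1 0 1 = (X⁻¹ * Y).1 0 1 := by rw [h']
  have h10 : (Y * X).1 1 0 = (X⁻¹ * Y).1 1 0 := by rw [h']
  have h11 : (Y * X).1 1 1 = (X⁻¹ * Y).1 1 1 := by rw [h']
  rw [m00, m00, i00, i01] at h00
  rw [m01, m01, i00, i01] at h01
  rw [m10, m10, i10, i11] at h10
  rw [m11, m11, i10, i11] at h11
  unfold tr
  have e1 : X.1 0 1 * (Y.1 0 0 + Y.1 1 1) = 0 := by linear_combination h01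
  have e2 : X.1 1 0 * (Y.1 0 0 + Y.1 1 1) = 0 := by linear_combination h10
  have e3 : (X.1 0 0 - X.1 1 1) * (Y.1 0 0 + Y.1 1 1) = 0 := by linear_combination h00 - h11
  by_contra hne
  exact hX ⟨(mul_eq_zero.1 e1).resolve_right hne, (mul_eq_zero.1 e2).resolve_right hne,
    sub_eq_zero.1 ((mul_eq_zero.1 e3).resolve_right hne)⟩

/-- the matrix with the given entries -/
def mk2 (a b c d : F) (h : a * d - b * c = 1) : Matrix.SpecialLinearGroup (Fin 2) F :=
  ⟨!![a, b; c, d], by rw [Matrix.det_fin_two_of, h]⟩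

theorem k00 (a b c d : F) (h : a * d - b * c = 1) : (mk2 a b c d h).1 0 0 = a := rfl
theorem k01 (a b c d : F) (h : a * d - b * c = 1) : (mk2 a b c d h).1 0 1 = b := rfl
theorem k10 (a b c d : F) (h : a * d - b * c = 1) : (mk2 a b c d h).1 1 0 = c := rfl
theorem k11 (a b c d : F) (h : a * d - b * c = 1) : (mk2 a b c d h).1 1 1 = d := rfl

theorem tr_mk2 (a b c d : F) (h : a * d - b * c = 1) : tr (mk2 a b c d h) = a + d := rfl

theorem tr_mul_mk2 (X : Matrix.SpecialLinearGroup (Fin 2) F) (a b c d : F) (h : a * d - b * c = 1) :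
    tr (X * mk2 a b c d h) = X.1 0 0 * a + X.1 0 1 * c + (X.1 1 0 * b + X.1 1 1 * d) := by
  unfold tr
  rw [m00, m11]
  rfl

attribute [irreducible] mk2

/-- elements `g` with prescribed traces of `g` and `X g` -/
theorem exists_g {X : Matrix.SpecialLinearGroup (Fin 2) F}
    (hX : X ∉ Subgroup.center (Matrix.SpecialLinearGroup (Fin 2) F)) {ε₁ ε₂ y z : F}
    (h : z * z + y * y - tr X * z * y - ε₁ * z + ε₂ * y + 1 = 0) :
    ∃ g : Matrix.SpecialLinearGroup (Fin 2) F, tr g = ε₁ ∧ tr (X * g) = ε₂ ∧ (y ≠ 1 → g ≠ X) := by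
  have hdX := dt X
  rw [mem_center] at hX
  by_cases h2 : X.1 1 0 = 0
  · by_cases h1 : X.1 0 1 = 0
    · have h3 : X.1 1 1 - X.1 0 0 ≠ 0 := fun h => hX ⟨h1, h2, (sub_eq_zero.1 h).symm⟩
      set z' : F := (ε₂ - X.1 0 0 * ε₁) / (X.1 1 1 - X.1 0 0) with hz'
      refine ⟨mk2 (ε₁ - z') ((ε₁ - z') * z' - 1) 1 z' (by ring), ?_, ?_, ?_⟩
      · rw [tr_mk2]; ring
      · rw [tr_mul_mk2, h1, h2, hz']
        field_simp
        ring
      · intro _ hg
        have h5 : (mk2 _ _ _ _ _).1 1 0 = X.1 1 0 := congrArg (fun Y : Matrix.SpecialLinearGroup (Fin 2) F => Y.1 1 0) hg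
        rw [k10, h2] at h5
        exact one_ne_zero h5
    · refine ⟨mk2 (ε₁ - z + X.1 0 0 * y) (X.1 0 1 * y)
        (((ε₂ + y - tr X * z + X.1 0 0 * z) - (ε₁ - z + X.1 0 0 * y) * X.1 0 0) / X.1 0 1)
          (z - X.1 0 0 * y) (by
        field_simp
        linear_combination -h), ?_, ?_, ?_⟩
      · rw [tr_mk2]; ring
      · rw [tr_mul_mk2]
        unfold tr
        field_simp
        linear_combination -y * hdX
      · intro hy hg
        have h5 : (mk2 _ _ _ _ _).1 0 1 = X.1 0 1 := congrArg (fun Y : Matrix.SpecialLinearGroup (Fin 2) F => Y.1 0 1) hg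
        rw [k01] at h5
        apply hy
        apply mul_left_cancel₀ h1
        rw [h5, mul_one]
  · refine ⟨mk2 (ε₁ - z + X.1 0 0 * y)
        (((ε₂ + y - tr X * z + X.1 0 0 * z) - (ε₁ - z + X.1 0 0 * y) * X.1 0 0) / X.1 1 0)
        (X.1 1 0 * y) (z - X.1 0 0 * y) (by
      field_simp
      linear_combination -h), ?_, ?_, ?_⟩
    · rw [tr_mk2]; ring
    · rw [tr_mul_mk2]
      unfold tr
      field_simp
      linear_combination -y * hdX
    · intro hy hg
      have h5 : (mk2 _ _ _ _ _).1 1 0 = X.1 1 0 := congrArg (fun Y : Matrix.SpecialLinearGroup (Fin 2) F => Y.1 1 0) hg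
      rw [k10] at h5
      apply hy
      apply mul_left_cancel₀ h2
      rw [h5, mul_one]

/-- **the ternary obstruction** -/
theorem tern_false {K : Subgroup (Matrix.SpecialLinearGroup (Fin 2) F)} (hb : Binary K)
    (hcen : Subgroup.center (Matrix.SpecialLinearGroup (Fin 2) F) ≤ K)
    {X g : Matrix.SpecialLinearGroup (Fin 2) F} (hX : X ∈ K)
    (hcomm : ∀ Y ∈ K, X * Y = Y * X) (h1 : tr g * tr g = 1) (h2 : tr (X * g) * tr (X * g) = 1)
    (hne : X * (g * X * g⁻¹) ≠ (g * X * g⁻¹) * X) : False := by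
  set c₁ := g * g * g with hc₁
  set c₂ := (X * g) * (X * g) * (X * g) with hc₂
  have k1 := cube h1
  have k2 := cube h2
  have z1 : ∀ Y, Y * c₁ = c₁ * Y := Subgroup.mem_center_iff.1 k1
  have z2 : ∀ Y, Y * c₂ = c₂ * Y := Subgroup.mem_center_iff.1 k2
  have e1 : (g * g)⁻¹ * (X⁻¹⁻¹ * (g * X * g⁻¹)) * (g * g) = c₂ * (c₁⁻¹ * X⁻¹) := by
    have e2 : (g * g)⁻¹ * (X⁻¹⁻¹ * (g * X * g⁻¹)) * (g * g) = (g * g)⁻¹ * (c₂ * (X * g)⁻¹) := by
      rw [hc₂]; group
    rw [e2, ← mul_assoc, z2, mul_assoc, hc₁]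
    congr 1
    group
  obtain ⟨a, ha, ha2, ha3⟩ := hb.ternary (x := X⁻¹) (y := g * X * g⁻¹) (g₂ := g) (g₃ := g * g)
    (K.inv_mem hX)
    (by
      have : g⁻¹ * (g * X * g⁻¹) * g = X := by group
      rw [this]; exact hX)
    (by
      rw [e1]
      exact K.mul_mem (hcen k2) (K.mul_mem (K.inv_mem (hcen k1)) (K.inv_mem hX)))
  rw [inv_inv] at ha3
  by_cases hac : a ∈ Subgroup.center (Matrix.SpecialLinearGroup (Fin 2) F)
  · have z3 : ∀ Y, Y * a = a * Y := Subgroup.mem_center_iff.1 hac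
    have e3 : (g * g)⁻¹ * (X * a) * (g * g) = (g * g)⁻¹ * X * (g * g) * a := by
      calc (g * g)⁻¹ * (X * a) * (g * g) = (g * g)⁻¹ * X * (a * (g * g)) := by group
        _ = (g * g)⁻¹ * X * ((g * g) * a) := by rw [z3]
        _ = _ := by group
    rw [e3] at ha3
    have h3 := K.mul_mem ha3 (K.inv_mem ha)
    rw [mul_inv_cancel_right] at h3
    have h4 := hcomm _ h3
    set X₃ := (g * g) * X * (g * g)⁻¹ with hX₃
    have h5 : Commute X X₃ := by
      show X * X₃ = X₃ * X
      have e4 : X * X₃ = (g * g) * ((g * g)⁻¹ * X * (g * g) * X) * (g * g)⁻¹ := by rw [hX₃]; group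
      have e5 : X₃ * X = (g * g) * (X * ((g * g)⁻¹ * X * (g * g))) * (g * g)⁻¹ := by rw [hX₃]; group
      rw [e4, e5, h4]
    have e6 : g * X * g⁻¹ = X⁻¹ * (c₂ * c₁⁻¹) * X₃⁻¹ := by
      rw [hc₂, hc₁, hX₃]; group
    apply hne
    have h6 : Commute X (g * X * g⁻¹) := by
      rw [e6]
      have h7 : Commute X c₂ := z2 X
      have h8 : Commute X c₁ := z1 X
      exact (((Commute.refl X).inv_right).mul_right (h7.mul_right h8.inv_right)).mul_right h5.inv_right
    exact h6
  · apply hne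
    apply comm_trans hac (hcomm a ha).symm
    have h4 := hcomm _ ha2
    have e4 : a * (g * X * g⁻¹) = g * ((g⁻¹ * a * g) * X) * g⁻¹ := by group
    have e5 : g * X * g⁻¹ * a = g * (X * (g⁻¹ * a * g)) * g⁻¹ := by group
    rw [e4, e5, h4]

end PL

end Cfsg.Agent.H896
end

-- part: H896/PSLCases
section
/-!
# Binary actions of `SL₂(q)` modulo the centre: the two cases of point stabilisers of odd order (helper896)
-/

set_option autoImplicit false
set_option linter.unusedSectionVars false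

namespace Cfsg.Agent.H896

namespace PL

open Matrix

variable {F : Type*} [Field F]

theorem noncomm {X g : Matrix.SpecialLinearGroup (Fin 2) F}
    (hX : X ∉ Subgroup.center (Matrix.SpecialLinearGroup (Fin 2) F)) (h4 : tr X * tr X ≠ 4)
    (h1 : tr g * tr g = 1) (h2 : tr (X * g) * tr (X * g) = 1) (hg : X * g ≠ g * X) :
    X * (g * X * g⁻¹) ≠ (g * X * g⁻¹) * X := by
  intro h
  rcases eq_or_inv hX h4 h (tr_conj X g) with h3 | h3
  · apply hg
    exact (mul_inv_eq_iff_eq_mul.1 h3).symm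
  · apply hX
    have e1 : (X * g) * (X * g) * (X * g) = X * (g * X * g⁻¹) * (g * (g * X * g⁻¹) * g⁻¹) * (g * g * g) := by
      group
    have e2 : g * X⁻¹ * g⁻¹ = X := by
      have : g * X⁻¹ * g⁻¹ = (g * X * g⁻¹)⁻¹ := by group
      rw [this, h3, inv_inv]
    rw [h3, e2, mul_inv_cancel, one_mul] at e1
    have h5 := Subgroup.mul_mem _ (cube h2) (Subgroup.inv_mem _ (cube h1))
    rw [e1, mul_inv_cancel_right] at h5
    exact h5

theorem not_comm_of_ne {X g : Matrix.SpecialLinearGroup (Fin 2) F}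
    (hX : X ∉ Subgroup.center (Matrix.SpecialLinearGroup (Fin 2) F)) (hα : tr X * tr X ≠ 1)
    (h1 : tr g * tr g = 1) (h2 : tr (X * g) * tr (X * g) = 1) : X * g ≠ g * X := by
  intro h
  apply hα
  apply of_cube hX
  have hc : Commute X g := h
  have e1 : X * X * X = (X * g) * (X * g) * (X * g) * (g * g * g)⁻¹ := by
    have e2 : (X * g) * (X * g) * (X * g) = X * (g * X) * (g * X) * g := by group
    have e3 : X * (g * X) * (g * X) * g = X * (X * g) * (X * g) * g := by rw [h]
    have e4 : X * (X * g) * (X * g) * g = X * X * (g * X) * g * g := by group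
    have e5 : X * X * (g * X) * g * g = X * X * (X * g) * g * g := by rw [h]
    rw [e2, e3, e4, e5]; group
  rw [e1]
  exact Subgroup.mul_mem _ (cube h2) (Subgroup.inv_mem _ (cube h1))

theorem not_comm_of_odd {X g : Matrix.SpecialLinearGroup (Fin 2) F}
    (hX : X ∉ Subgroup.center (Matrix.SpecialLinearGroup (Fin 2) F)) (h0 : (2 : F) ≠ 0)
    (hα : tr X * tr X = 1)
    (h1 : tr g * tr g = 1) (h2 : tr (X * g) * tr (X * g) = 1) (h3 : tr g * tr (X * g) = tr X) :
    X * g ≠ g * X := by
  intro h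
  have e1 : (X * g) * (X * g) * (X * g) = (X * X * X) * (g * g * g) := by
    have e2 : (X * g) * (X * g) * (X * g) = X * (g * X) * (g * X) * g := by group
    have e3 : X * (g * X) * (g * X) * g = X * (X * g) * (X * g) * g := by rw [h]
    have e4 : X * (X * g) * (X * g) * g = X * X * (g * X) * g * g := by group
    have e5 : X * X * (g * X) * g * g = X * X * (X * g) * g * g := by rw [h]
    rw [e2, e3, e4, e5]; group
  have e2 : ((X * g) * (X * g) * (X * g)).1 0 0 = ((X * X * X) * (g * g * g)).1 0 0 := by rw [e1]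
  have e3 : (X * X * X).1 0 1 = 0 := (mem_center.1 (cube hα)).1
  rw [m00 (X * X * X), cube00 h2, cube00 hα, cube00 h1, e3, zero_mul, add_zero] at e2
  have h5 : 2 * tr X = 0 := by
    have : -(tr g * tr (X * g)) = tr X := by
      linear_combination tr g * e2 + tr X * h1
    linear_combination -h3 - this
  have h6 := (mul_eq_zero.1 h5).resolve_left h0
  rw [h6, mul_zero] at hα
  exact zero_ne_one hα

section Exists

variable [Finite F]

theorem exists_conic_odd (h0 : (2 : F) ≠ 0) {α ε₁ ε₂ : F} (h4 : α * α ≠ 4) :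
    ∃ y z : F, z * z + y * y - α * z * y - ε₁ * z + ε₂ * y + 1 = 0 := by
  classical
  let _ : Fintype F := Fintype.ofFinite F
  have hodd : Fintype.card F % 2 = 1 := by
    have h3 : ringChar F ≠ 2 := by
      intro h
      apply h0
      have := ringChar.Nat.cast_ringChar (R := F)
      rw [h] at this
      exact_mod_cast this
    exact FiniteField.odd_card_of_char_ne_two h3
  have hc : -(α * α - 4) ≠ 0 := neg_ne_zero.2 (sub_ne_zero.2 h4)
  obtain ⟨w, y, h⟩ := FiniteField.exists_root_sum_quadratic (R := F)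
    (f := Polynomial.C 1 * Polynomial.X ^ 2 + Polynomial.C 0 * Polynomial.X + Polynomial.C 0)
    (g := Polynomial.C (-(α * α - 4)) * Polynomial.X ^ 2 +
      Polynomial.C (-(2 * α * ε₁ - 4 * ε₂)) * Polynomial.X + Polynomial.C (-(ε₁ * ε₁ - 4)))
    (Polynomial.degree_quadratic one_ne_zero) (Polynomial.degree_quadratic hc) hodd
  simp only [Polynomial.eval_add, Polynomial.eval_mul, Polynomial.eval_C, Polynomial.eval_pow,
    Polynomial.eval_X] at h
  have h40 : (4 : F) ≠ 0 := by
    have : (4 : F) = 2 * 2 := by norm_num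
    rw [this]
    exact mul_ne_zero h0 h0
  refine ⟨y, (w + α * y + ε₁) / 2, ?_⟩
  apply mul_left_cancel₀ h40
  rw [mul_zero]
  field_simp
  linear_combination 4 * h

theorem exists_conic_even [CharP F 2] {α : F} (hα : α ≠ 0) :
    ∃ y z : F, z * z + y * y - α * z * y - 1 * z + 1 * y + 1 = 0 := by
  have hs : Function.Surjective (fun x : F => x ^ 2) :=
    Finite.surjective_of_injective (fun x y h => by
      have h' : x ^ 2 = y ^ 2 := h
      have : (x + y) ^ 2 = 0 := by
        linear_combination h' + (x * y) * (CharTwo.two_eq_zero (R := F)) +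
          y ^ 2 * (CharTwo.two_eq_zero (R := F))
      exact CharTwo.add_eq_zero.1 (pow_eq_zero_iff two_ne_zero |>.1 this))
  obtain ⟨z, hz⟩ := hs (α⁻¹ * α⁻¹ + α⁻¹ + 1)
  have hz : z ^ 2 = α⁻¹ * α⁻¹ + α⁻¹ + 1 := hz
  refine ⟨α⁻¹, z, ?_⟩
  have e1 : α * z * α⁻¹ = z := by field_simp
  rw [e1]
  linear_combination hz + (α⁻¹ * α⁻¹ + α⁻¹ + 1 - z) * (CharTwo.two_eq_zero (R := F))

/-- **abelian case, `q` odd** -/
theorem false_odd (h0 : (2 : F) ≠ 0) {K : Subgroup (Matrix.SpecialLinearGroup (Fin 2) F)} (hb : Binary K)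
    (hcen : Subgroup.center (Matrix.SpecialLinearGroup (Fin 2) F) ≤ K)
    {X : Matrix.SpecialLinearGroup (Fin 2) F} (hX : X ∈ K)
    (hXc : X ∉ Subgroup.center (Matrix.SpecialLinearGroup (Fin 2) F))
    (hcomm : ∀ Y ∈ K, X * Y = Y * X) (h4 : tr X * tr X ≠ 4) : False := by
  by_cases hα : tr X * tr X = 1
  · obtain ⟨y, z, h⟩ := exists_conic_odd h0 (α := tr X) (ε₁ := 1) (ε₂ := tr X) h4
    obtain ⟨g, h1, h2, -⟩ := exists_g hXc h
    have h1' : tr g * tr g = 1 := by rw [h1, mul_one]
    have h2' : tr (X * g) * tr (X * g) = 1 := by rw [h2, hα]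
    exact tern_false hb hcen hX hcomm h1' h2' (noncomm hXc h4 h1' h2'
      (not_comm_of_odd hXc h0 hα h1' h2' (by rw [h1, h2, one_mul])))
  · obtain ⟨y, z, h⟩ := exists_conic_odd h0 (α := tr X) (ε₁ := 1) (ε₂ := 1) h4
    obtain ⟨g, h1, h2, -⟩ := exists_g hXc h
    have h1' : tr g * tr g = 1 := by rw [h1, mul_one]
    have h2' : tr (X * g) * tr (X * g) = 1 := by rw [h2, mul_one]
    exact tern_false hb hcen hX hcomm h1' h2' (noncomm hXc h4 h1' h2'
      (not_comm_of_ne hXc hα h1' h2'))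

/-- **abelian case, `q` even, `X³ ≠ 1`** -/
theorem false_even [CharP F 2] {K : Subgroup (Matrix.SpecialLinearGroup (Fin 2) F)} (hb : Binary K)
    (hcen : Subgroup.center (Matrix.SpecialLinearGroup (Fin 2) F) ≤ K)
    {X : Matrix.SpecialLinearGroup (Fin 2) F} (hX : X ∈ K)
    (hXc : X ∉ Subgroup.center (Matrix.SpecialLinearGroup (Fin 2) F))
    (hcomm : ∀ Y ∈ K, X * Y = Y * X) (h4 : tr X ≠ 0) (hα : tr X ≠ 1) : False := by
  have h2 := CharTwo.two_eq_zero (R := F)
  have h4' : tr X * tr X ≠ 4 := by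
    have : (4 : F) = 0 := by linear_combination 2 * h2
    rw [this]
    exact mul_ne_zero h4 h4
  have hα' : tr X * tr X ≠ 1 := by
    intro h
    apply hα
    have h5 : (tr X + 1) ^ 2 = 0 := by linear_combination h + (tr X + 1) * h2
    exact CharTwo.add_eq_zero.1 (pow_eq_zero_iff two_ne_zero |>.1 h5)
  obtain ⟨y, z, h⟩ := exists_conic_even h4
  obtain ⟨g, h1, h2, -⟩ := exists_g hXc h
  have h1' : tr g * tr g = 1 := by rw [h1, mul_one]
  have h2' : tr (X * g) * tr (X * g) = 1 := by rw [h2, mul_one]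
  exact tern_false hb hcen hX hcomm h1' h2' (noncomm hXc h4' h1' h2'
    (not_comm_of_ne hXc hα' h1' h2'))

end Exists

/-- **abelian case, `q = 4^k`, `X³ = 1`** -/
theorem false_three [CharP F 2] {K : Subgroup (Matrix.SpecialLinearGroup (Fin 2) F)} (hb : Binary K)
    (hcen : Subgroup.center (Matrix.SpecialLinearGroup (Fin 2) F) ≤ K)
    {X : Matrix.SpecialLinearGroup (Fin 2) F} (hX : X ∈ K)
    (hXc : X ∉ Subgroup.center (Matrix.SpecialLinearGroup (Fin 2) F))
    (hcomm : ∀ Y ∈ K, X * Y = Y * X) (hα : tr X = 1) {ω : F} (hω : ω * ω + ω + 1 = 0) : False := by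
  have h2 := CharTwo.two_eq_zero (R := F)
  have h4 : tr X * tr X ≠ 4 := by
    have : (4 : F) = 0 := by linear_combination 2 * h2
    rw [this, hα, mul_one]
    exact one_ne_zero
  have h : ω * ω + 0 * 0 - tr X * ω * 0 - 1 * ω + 1 * 0 + 1 = 0 := by
    linear_combination hω - ω * h2
  obtain ⟨g, h1, h5, h6⟩ := exists_g hXc h
  have hgX : g ≠ X := h6 zero_ne_one
  have h1' : tr g * tr g = 1 := by rw [h1, mul_one]
  have h2' : tr (X * g) * tr (X * g) = 1 := by rw [h5, mul_one]
  refine tern_false hb hcen hX hcomm h1' h2' (noncomm hXc h4 h1' h2' ?_)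
  intro hc
  rcases eq_or_inv hXc h4 hc (by rw [h1, hα]) with h7 | h7
  · exact hgX h7
  · rw [h7, mul_inv_cancel] at h5
    unfold tr at h5
    rw [o00, o11] at h5
    have : (1 : F) = 0 := by linear_combination -h5 + h2
    exact one_ne_zero this

/-! ### Borel type -/

/-- the Weyl element -/
def w2 (F : Type*) [Field F] : Matrix.SpecialLinearGroup (Fin 2) F := mk2 0 1 (-1) 0 (by ring)

theorem w2_conj (X : Matrix.SpecialLinearGroup (Fin 2) F) :
    ((w2 F)⁻¹ * X * w2 F).1 1 0 = -X.1 0 1 := by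
  rw [m10 ((w2 F)⁻¹ * X), m10, m11, i10, i11]
  unfold w2
  simp only [k00, k10]
  ring

/-- **unipotent case** -/
theorem false_unip (h0 : (2 : F) ≠ 0) {K : Subgroup (Matrix.SpecialLinearGroup (Fin 2) F)} (hb : Binary K)
    (hcen : Subgroup.center (Matrix.SpecialLinearGroup (Fin 2) F) ≤ K)
    (hB : ∀ Y ∈ K, Y.1 1 0 = 0) (hU : ∀ Y ∈ K, Y.1 0 0 = Y.1 1 1)
    {X : Matrix.SpecialLinearGroup (Fin 2) F} (hX : X ∈ K)
    (hXc : X ∉ Subgroup.center (Matrix.SpecialLinearGroup (Fin 2) F)) : False := by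
  have hX10 := hB X hX
  have hX00 := hU X hX
  have hX01 : X.1 0 1 ≠ 0 := fun h => hXc (mem_center.2 ⟨h, hX10, hX00⟩)
  have hdX := dt X
  have hcommX : ∀ Y ∈ K, X * Y = Y * X := by
    intro Y hY
    rw [comm_iff, hX10, hB Y hY, hX00, hU Y hY]
    refine ⟨by ring, by ring, by ring⟩
  set e := X.1 0 0 with he
  have hee : e * e = 1 := by
    rw [← hX00, hX10] at hdX
    linear_combination hdX
  have he0 : e ≠ 0 := by
    intro h
    rw [h, zero_mul] at hee
    exact zero_ne_one hee
  set g := mk2 (0 : F) (-(X.1 0 1 * e) / 2) (2 * e / X.1 0 1) (-1) (by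
    field_simp
    linear_combination hee) with hg
  have htg : tr g = -1 := by rw [hg, tr_mk2]; ring
  have htXg : tr (X * g) = e := by
    rw [hg, tr_mul_mk2, ← he, ← hX00, hX10]
    field_simp
    ring
  refine tern_false hb hcen hX hcommX (g := g) (by rw [htg]; ring) (by rw [htXg, hee]) ?_
  intro h
  rw [comm_iff] at h
  have h1 := h.1
  rw [hX10, zero_mul] at h1
  have h2 := (mul_eq_zero.1 h1).resolve_left hX01
  rw [m10 (g * X), m10, m11, i00, i10, hX10, ← hX00] at h2
  rw [hg, k10, k11] at h2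
  apply h0
  have h3 : (2 * e / X.1 0 1) * (2 * e / X.1 0 1) * X.1 0 1 = 0 := by linear_combination -h2
  field_simp at h3
  have h4 : (2 : F) * 2 = 0 := by linear_combination h3 - 4 * hee
  exact (mul_self_eq_zero.1 h4)

/-- **Borel case** -/
theorem false_borel {K : Subgroup (Matrix.SpecialLinearGroup (Fin 2) F)} (hb : Binary K)
    (hB : ∀ Y ∈ K, Y.1 1 0 = 0) (hO : ∀ Y ∈ K, tr Y ≠ 0)
    {X k : Matrix.SpecialLinearGroup (Fin 2) F} (hX : X ∈ K) (hX00 : X.1 0 0 = X.1 1 1)
    (hX01 : X.1 0 1 ≠ 0) (hk : k ∈ K) (hk01 : k.1 0 1 = 0) (hkne : k.1 0 0 ≠ k.1 1 1) : False := by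
  have hX10 := hB X hX
  have hk10 := hB k hk
  have hdX := dt X
  have hdk := dt k
  rw [hX10, ← hX00] at hdX
  rw [hk10] at hdk
  have hkw : (w2 F)⁻¹ * k * w2 F = k⁻¹ := by
    apply ext'
    · rw [m00 ((w2 F)⁻¹ * k), m00, m01, i00, i01, i00, hk01, hk10]
      unfold w2
      simp only [k00, k01, k10, k11]; ring
    · rw [m01 ((w2 F)⁻¹ * k), m00, m01, i00, i01, i01, hk01, hk10]
      unfold w2
      simp only [k00, k01, k10, k11]; ring
    · rw [w2_conj, i10, hk01, hk10]
    · rw [m11 ((w2 F)⁻¹ * k), m10, m11, i10, i11, i11, hk01, hk10]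
      unfold w2
      simp only [k00, k01, k10, k11]; ring
  set v' := k * X * k⁻¹ with hv'
  have v00 : v'.1 0 0 = X.1 0 0 := by
    rw [hv', m00 (k * X), m00, m01, i00, i10, hk01, hk10, hX10]
    linear_combination X.1 0 0 * hdk
  have v01 : v'.1 0 1 = k.1 0 0 * k.1 0 0 * X.1 0 1 := by
    rw [hv', m01 (k * X), m00, m01, i01, i11, hk01, hX10]
    ring
  have v10 : v'.1 1 0 = 0 := by
    rw [hv', m10 (k * X), m10, m11, i00, i10, hk10, hX10]
    ring
  have v11 : v'.1 1 1 = X.1 0 0 := by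
    rw [hv', m11 (k * X), m10, m11, i01, i11, hk01, hk10, hX10, ← hX00]
    linear_combination X.1 0 0 * hdk
  obtain ⟨g, hg, h1, h2, h3⟩ := hb.four (k := k) (v := X) (w := w2 F) (by
      rw [hkw]; exact K.inv_mem hk) hX hk (by
      rw [← hv', comm_iff, v10, hX10, v00, v11, ← hX00]
      refine ⟨by ring, by ring, by ring⟩)
  rw [← hv'] at h2 h3
  have hg10 := hB g hg
  have hg01 : g.1 0 1 = 0 := by
    have := hB _ h1
    rw [w2_conj] at this
    linear_combination -this
  have hdg := dt g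
  rw [hg10, hg01] at hdg
  -- the second fixed point
  have hxx : g.1 0 0 = g.1 1 1 := by
    have h4 := hB _ h2
    have e1 : (X * v' * w2 F)⁻¹ * g * (X * v' * w2 F) =
        (w2 F)⁻¹ * ((X * v')⁻¹ * g * (X * v')) * w2 F := by group
    rw [e1, w2_conj, m01 ((X * v')⁻¹ * g), m00 (X * v')⁻¹, m01 (X * v')⁻¹, i00, i01, m01, m11,
      v01, v11, hX10, ← hX00, hg01, hg10] at h4
    have h5 : X.1 0 0 * X.1 0 0 * X.1 0 0 * X.1 0 1 * ((k.1 0 0 * k.1 0 0 + 1) * (g.1 0 0 - g.1 1 1)) = 0 := by
      linear_combination -h4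
    have hx0 : X.1 0 0 ≠ 0 := by
      intro h
      rw [h] at hdX
      simp at hdX
    have h6 : k.1 0 0 * k.1 0 0 + 1 ≠ 0 := by
      intro h
      apply hO k hk
      unfold tr
      have hk0 : k.1 0 0 ≠ 0 := by
        intro h
        rw [h] at hdk
        simp at hdk
      apply mul_left_cancel₀ hk0
      linear_combination h + hdk
    have h7 := (mul_eq_zero.1 h5).resolve_left
      (mul_ne_zero (mul_ne_zero (mul_ne_zero hx0 hx0) hx0) hX01)
    exact sub_eq_zero.1 ((mul_eq_zero.1 h7).resolve_left h6)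
  have h4 := hB _ h3
  have e1 : (v' * w2 F)⁻¹ * g * (X * w2 F) = (w2 F)⁻¹ * (v'⁻¹ * g * X) * w2 F := by group
  rw [e1, w2_conj, m01 (v'⁻¹ * g), m00 v'⁻¹, m01 v'⁻¹, i00, i01, v01, v11, hg01, hg10, ← hX00,
    ← hxx] at h4
  have hg0 : g.1 0 0 ≠ 0 := by
    intro h
    rw [h] at hdg
    simp at hdg
  have hx0 : X.1 0 0 ≠ 0 := by
    intro h
    rw [h] at hdX
    simp at hdX
  have h5 : X.1 0 0 * g.1 0 0 * X.1 0 1 * (k.1 0 0 * k.1 0 0 - 1) = 0 := by
    linear_combination h4
  have h6 := (mul_eq_zero.1 h5).resolve_left (mul_ne_zero (mul_ne_zero hx0 hg0) hX01)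
  apply hkne
  have hk0 : k.1 0 0 ≠ 0 := by
    intro h
    rw [h] at hdk
    simp at hdk
  apply mul_left_cancel₀ hk0
  linear_combination h6 - hdk

end PL

end Cfsg.Agent.H896
end

-- part: H896/PSLEven
section
/-!
# `PSL₂(q)`, `q` odd: no binary action with point stabilisers of even order (helper896)
-/

set_option autoImplicit false
set_option linter.unusedSectionVars false

namespace Cfsg.Agent.H896

/-- involutions commuting with an involution commute -/
def CentComm (G : Type*) [Group G] : Prop :=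
  ∀ t s₁ s₂ : G, orderOf t = 2 → orderOf s₁ = 2 → orderOf s₂ = 2 → s₁ * t = t * s₁ → s₂ * t = t * s₂ →
    s₁ * s₂ = s₂ * s₁

theorem Frame.centComm {G : Type*} [Group G] [Finite G] {B U Z : Subgroup G} {w : G}
    (F : Frame B U Z w) (hZ : Z ≠ ⊥) : CentComm G := by
  intro t s₁ s₂ ht hs₁ hs₂ h1 h2
  obtain ⟨g, hg⟩ := F.exists_conj_Z hZ ht
  have hne : g * t * g⁻¹ ≠ 1 := by
    intro h
    apply ne_one_of_orderOf ht
    have : t = g⁻¹ * (g * t * g⁻¹) * g := by group
    rw [this, h]; group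
  have key : ∀ s : G, orderOf s = 2 → s * t = t * s → g * s * g⁻¹ ∈ Z := by
    intro s hs hst
    apply F.cent _ hg hne
    · have : g * s * g⁻¹ * (g * s * g⁻¹) = g * (s * s) * g⁻¹ := by group
      rw [this, mul_self_of_orderOf hs]; group
    · have e1 : g * s * g⁻¹ * (g * t * g⁻¹) = g * (s * t) * g⁻¹ := by group
      have e2 : g * t * g⁻¹ * (g * s * g⁻¹) = g * (t * s) * g⁻¹ := by group
      rw [e1, e2, hst]
  have h3 := F.comm (key s₁ hs₁ h1) (key s₂ hs₂ h2)
  have e1 : g * s₁ * g⁻¹ * (g * s₂ * g⁻¹) = g * (s₁ * s₂) * g⁻¹ := by group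
  have e2 : g * s₂ * g⁻¹ * (g * s₁ * g⁻¹) = g * (s₂ * s₁) * g⁻¹ := by group
  rw [e1, e2] at h3
  exact mul_left_cancel (mul_right_cancel h3)

theorem CentComm.of_equiv {G G' : Type*} [Group G] [Group G'] (e : G ≃* G') (h : CentComm G') :
    CentComm G := by
  intro t s₁ s₂ ht hs₁ hs₂ h1 h2
  apply e.injective
  rw [map_mul, map_mul]
  apply h (e t) (e s₁) (e s₂)
  · rw [MulEquiv.orderOf_eq, ht]
  · rw [MulEquiv.orderOf_eq, hs₁]
  · rw [MulEquiv.orderOf_eq, hs₂]
  · rw [← map_mul, h1, map_mul]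
  · rw [← map_mul, h2, map_mul]

theorem centComm_sl {G : Type*} [Group G] {F : Type*} [Field F] [Fintype F] {a : ℕ}
    (hF : Fintype.card F = 2 ^ a) (e : Nonempty (G ≃* Matrix.SpecialLinearGroup (Fin 2) F)) :
    CentComm G := by
  have := charP_two_of_card_pow hF
  obtain ⟨e⟩ := e
  exact CentComm.of_equiv e (SLTwo.frame.centComm SLTwo.U_ne_bot)

theorem centComm_sz {G : Type*} [Group G] {F : Type*} [Field F] [Fintype F] {m : ℕ}
    (hF : Fintype.card F = 2 ^ (2 * m + 1))
    (e : Nonempty (G ≃* Cfsg.Lie.Sz F (2 ^ (m + 1)))) : CentComm G := by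
  obtain ⟨e⟩ := e
  have hg := Cfsg.Agent.LieRecognition.SzMatrix.good hF
  exact CentComm.of_equiv e ((SzG.frame hg).centComm (SzG.Z_ne_bot hg))

theorem centComm_psu {G : Type*} [Group G] {F : Type*} [Field F] [Finite F] {n : ℕ}
    (hn : 1 ≤ n) (hF : Nat.card F = (2 ^ n) ^ 2) (e : Nonempty (G ≃* Cfsg.PSU 3 F (2 ^ n))) :
    CentComm G := by
  obtain ⟨h2, σ, hσ, hs, -, -⟩ :=
    Cfsg.Agent.LieRecognition.PSUThreeSylow.exists_heis_equiv F (n := n) hn hF
  obtain ⟨R⟩ := nonempty_urelx (σ := σ) (n := n) hn hs hF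
  obtain ⟨e⟩ := e
  have : Finite (Cfsg.PSU 3 F (2 ^ n)) := inferInstance
  exact CentComm.of_equiv e ((URelX.frame R hn hs hF).centComm (URelX.Z_ne_bot R))

section Odd

open Matrix

variable {F : Type*} [Field F]

/-- the Weyl element -/
def wl (F : Type*) [Field F] : Matrix.SpecialLinearGroup (Fin 2) F :=
  ⟨!![0, 1; -1, 0], by simp [Matrix.det_fin_two]⟩

/-- the elements anticommuting with `wl` -/
def yl (a b : F) (h : a * a + b * b = -1) : Matrix.SpecialLinearGroup (Fin 2) F :=
  ⟨!![a, b; b, -a], by rw [Matrix.det_fin_two_of]; linear_combination -h⟩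

theorem eq_neg_iff_mk {A B : Matrix.SpecialLinearGroup (Fin 2) F}
    (h : (QuotientGroup.mk A : Matrix.ProjectiveSpecialLinearGroup (Fin 2) F) = QuotientGroup.mk B) :
    ∃ r : F, r * r = 1 ∧ ∀ i j, B.1 i j = r * A.1 i j := by
  rw [QuotientGroup.eq, Matrix.SpecialLinearGroup.mem_center_iff] at h
  obtain ⟨r, hr, h⟩ := h
  refine ⟨r, by simpa only [pow_two, _root_.Fintype.card_fin] using hr, fun i j => ?_⟩
  have h1 : B.1 = A.1 * (A⁻¹ * B).1 := by
    rw [← Matrix.SpecialLinearGroup.coe_mul, mul_inv_cancel_left]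
  rw [h1, ← h]
  simp only [Matrix.mul_apply, Matrix.scalar_apply, Matrix.diagonal_apply, mul_comm, _root_.ite_mul, _root_.MulZeroClass.zero_mul, _root_.Finset.sum_ite_eq', _root_.Finset.mem_univ, ↓ _root_.reduceIte]

theorem mk_eq_of_neg {A B : Matrix.SpecialLinearGroup (Fin 2) F} (h : B.1 = - A.1) :
    (QuotientGroup.mk A : Matrix.ProjectiveSpecialLinearGroup (Fin 2) F) = QuotientGroup.mk B := by
  rw [QuotientGroup.eq, Matrix.SpecialLinearGroup.mem_center_iff]
  refine ⟨-1, by simp only [_root_.Fintype.card_fin, _root_.even_two, _root_.Even.neg_pow, _root_.one_pow], ?_⟩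
  have h1 : (A⁻¹ * B).1 = - (A⁻¹ * A).1 := by
    rw [Matrix.SpecialLinearGroup.coe_mul, Matrix.SpecialLinearGroup.coe_mul, h, Matrix.mul_neg]
  have h2 : ((A⁻¹ * B : Matrix.SpecialLinearGroup (Fin 2) F) : Matrix (Fin 2) (Fin 2) F) = (A⁻¹ * B).1 := rfl
  rw [h2, h1, inv_mul_cancel]
  ext i j
  (revert i j; simp only [_root_.Fin.forall_fin_succ, _root_.Matrix.scalar_apply, _root_.Matrix.SpecialLinearGroup.coe_one, _root_.Matrix.neg_apply, Fin.isValue, _root_.Fin.succ_zero_eq_one, _root_.IsEmpty.forall_iff, _root_.and_true, _root_.Matrix.diagonal_apply_eq, _root_.Matrix.one_apply_eq, _root_.ne_eq, _root_.zero_ne_one, _root_.not_false_eq_true, _root_.Matrix.diagonal_apply_ne, Nat.reduceAdd, _root_.Matrix.one_apply_ne, _root_.neg_zero, _root_.and_self, _root_.Fin.succ_ne_zero, _root_.true_and])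

theorem order_wl :
    orderOf (QuotientGroup.mk (wl F) : Matrix.ProjectiveSpecialLinearGroup (Fin 2) F) = 2 := by
  apply orderOf_eq_two
  · rw [← QuotientGroup.mk_mul]
    symm
    have : (1 : Matrix.ProjectiveSpecialLinearGroup (Fin 2) F) =
      QuotientGroup.mk (1 : Matrix.SpecialLinearGroup (Fin 2) F) := rfl
    rw [this]
    apply mk_eq_of_neg
    show (!![0, 1; -1, 0] : Matrix (Fin 2) (Fin 2) F) * !![0, 1; -1, 0] = -1
    ext i j
    (revert i j; simp only [Matrix.mul_apply, Fin.sum_univ_two, _root_.Fin.forall_fin_succ, _root_.Matrix.of_apply, _root_.Matrix.cons_val', _root_.Matrix.cons_val_fin_one, Fin.isValue, _root_.Matrix.cons_val_zero, _root_.Matrix.cons_val_one, _root_.Matrix.neg_apply, _root_.MulZeroClass.mul_zero, _root_.mul_neg, _root_.mul_one, _root_.zero_add, _root_.neg_inj, _root_.Matrix.cons_val_succ, _root_.add_zero, _root_.IsEmpty.forall_iff, _root_.and_true, _root_.Matrix.one_apply_eq, Nat.reduceAdd, _root_.Fin.succ_zero_eq_one, _root_.ne_eq,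 _root_.zero_ne_one, _root_.not_false_eq_true, _root_.Matrix.one_apply_ne, _root_.neg_zero, _root_.and_self, _root_.Fin.succ_ne_zero, _root_.true_and])
  · intro h
    obtain ⟨r, hr, h1⟩ := eq_neg_iff_mk (B := 1) h
    have := h1 0 0
    simp only [wl, _root_.Fin.isValue, _root_.Matrix.SpecialLinearGroup.coe_one, _root_.Matrix.one_apply_eq, _root_.Matrix.of_apply, _root_.Matrix.cons_val', _root_.Matrix.cons_val_zero, _root_.Matrix.cons_val_fin_one, _root_.MulZeroClass.mul_zero, _root_.one_ne_zero] at this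

theorem order_yl (h2 : (2 : F) ≠ 0) (a b : F) (h : a * a + b * b = -1) :
    orderOf (QuotientGroup.mk (yl a b h) : Matrix.ProjectiveSpecialLinearGroup (Fin 2) F) = 2 := by
  apply orderOf_eq_two
  · rw [← QuotientGroup.mk_mul]
    symm
    have : (1 : Matrix.ProjectiveSpecialLinearGroup (Fin 2) F) =
      QuotientGroup.mk (1 : Matrix.SpecialLinearGroup (Fin 2) F) := rfl
    rw [this]
    apply mk_eq_of_neg
    show (!![a, b; b, -a] : Matrix (Fin 2) (Fin 2) F) * !![a, b; b, -a] = -1
    ext i j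
    (revert i j; simp only [Matrix.mul_apply, Fin.sum_univ_two, _root_.Fin.forall_fin_succ, _root_.Matrix.of_apply, _root_.Matrix.cons_val', _root_.Matrix.cons_val_fin_one, Fin.isValue, _root_.Matrix.cons_val_zero, _root_.Matrix.cons_val_one, _root_.Matrix.neg_apply, _root_.Matrix.cons_val_succ, _root_.mul_neg, _root_.IsEmpty.forall_iff, _root_.Matrix.one_apply_eq, Nat.reduceAdd, _root_.Fin.succ_zero_eq_one, _root_.ne_eq, _root_.zero_ne_one, _root_.not_false_eq_true, _root_.Matrix.one_apply_ne, _root_.neg_zero, _root_.neg_mul, _root_.Fin.succ_ne_zero, _root_.neg_neg, _root_.and_true, _root_.true_and]) <;> (repeat' with_reducible apply And.intro)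
    · linear_combination h
    · ring
    · ring
    · linear_combination h
  · intro h1
    obtain ⟨r, hr, h3⟩ := eq_neg_iff_mk (B := 1) h1
    have e1 := h3 0 0
    have e2 := h3 1 1
    simp only [yl, _root_.Fin.isValue, _root_.Matrix.SpecialLinearGroup.coe_one, _root_.Matrix.one_apply_eq, _root_.Matrix.of_apply, _root_.Matrix.cons_val', _root_.Matrix.cons_val_zero, _root_.Matrix.cons_val_fin_one, _root_.Matrix.cons_val_one, _root_.mul_neg] at e1 e2
    apply h2
    linear_combination e1 + e2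

theorem comm_wl_yl (a b : F) (h : a * a + b * b = -1) :
    (QuotientGroup.mk (yl a b h) * QuotientGroup.mk (wl F) : Matrix.ProjectiveSpecialLinearGroup (Fin 2) F) =
      QuotientGroup.mk (wl F) * QuotientGroup.mk (yl a b h) := by
  rw [← QuotientGroup.mk_mul, ← QuotientGroup.mk_mul]
  apply mk_eq_of_neg
  show (!![0, 1; -1, 0] : Matrix (Fin 2) (Fin 2) F) * !![a, b; b, -a] =
    - ((!![a, b; b, -a] : Matrix (Fin 2) (Fin 2) F) * !![0, 1; -1, 0])
  ext i j
  (revert i j; simp only [Matrix.mul_apply, Fin.sum_univ_two, _root_.Fin.forall_fin_succ, _root_.Matrix.of_apply, _root_.Matrix.cons_val', _root_.Matrix.cons_val_fin_one, Fin.isValue, _root_.Matrix.cons_val_zero, _root_.Matrix.cons_val_one, _root_.Matrix.cons_mul, _root_.Nat.succ_eq_add_one, Nat.reduceAdd, _root_.Matrix.vecMul_cons, _root_.Matrix.head_cons, _root_.Matrix.smul_cons, _root_.smul_eq_mul, _root_.MulZeroClass.mul_zero, _root_.mul_one, _root_.Matrix.smul_empty, _root_.Matrix.tail_cons, _root_.mul_neg, _root_.Matrix.empty_vecMul,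 _root_.add_zero, _root_.Matrix.add_cons, _root_.zero_add, _root_.Matrix.empty_add_empty, _root_.neg_smul, _root_.Matrix.neg_cons, _root_.neg_neg, _root_.neg_zero, _root_.Matrix.neg_empty, _root_.Matrix.empty_mul, _root_.Equiv.symm_apply_apply, _root_.Matrix.neg_apply, _root_.Matrix.cons_val_succ, _root_.forall_const, _root_.MulZeroClass.zero_mul, _root_.one_mul, _root_.and_self, _root_.neg_mul, _root_.implies_true])

theorem not_comm_yl (h2 : (2 : F) ≠ 0) {a b a' b' : F} (h : a * a + b * b = -1) (h' : a' * a' + b' * b' = -1)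
    (hc : a * b' - b * a' ≠ 0) (hd : a * a' + b * b' ≠ 0) :
    (QuotientGroup.mk (yl a b h) * QuotientGroup.mk (yl a' b' h') :
      Matrix.ProjectiveSpecialLinearGroup (Fin 2) F) ≠
      QuotientGroup.mk (yl a' b' h') * QuotientGroup.mk (yl a b h) := by
  rw [← QuotientGroup.mk_mul, ← QuotientGroup.mk_mul]
  intro h3
  obtain ⟨r, hr, h4⟩ := eq_neg_iff_mk h3
  have e1 : ((!![a', b'; b', -a'] : Matrix (Fin 2) (Fin 2) F) *
    (!![a, b; b, -a] : Matrix (Fin 2) (Fin 2) F)) 0 0 = r * ((!![a, b; b, -a] : Matrix (Fin 2) (Fin 2) F) *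
    (!![a', b'; b', -a'] : Matrix (Fin 2) (Fin 2) F)) 0 0 := h4 0 0
  have e2 : ((!![a', b'; b', -a'] : Matrix (Fin 2) (Fin 2) F) *
    (!![a, b; b, -a] : Matrix (Fin 2) (Fin 2) F)) 0 1 = r * ((!![a, b; b, -a] : Matrix (Fin 2) (Fin 2) F) *
    (!![a', b'; b', -a'] : Matrix (Fin 2) (Fin 2) F)) 0 1 := h4 0 1
  simp only [Matrix.mul_apply, Fin.sum_univ_two, _root_.Fin.isValue, _root_.Matrix.of_apply, _root_.Matrix.cons_val', _root_.Matrix.cons_val_fin_one, _root_.Matrix.cons_val_zero, _root_.Matrix.cons_val_one, _root_.mul_neg] at e1 e2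
  have h5 : (r - 1) * (a * a' + b * b') = 0 := by linear_combination -e1
  have h6 : (r + 1) * (a * b' - b * a') = 0 := by linear_combination -e2
  have h7 := (mul_eq_zero.1 h5).resolve_right hd
  have h8 := (mul_eq_zero.1 h6).resolve_right hc
  apply h2
  linear_combination h8 - h7

theorem not_centComm [Fintype F] (hodd : Odd (Fintype.card F)) (h5 : 5 < Fintype.card F) :
    ¬ CentComm (Matrix.ProjectiveSpecialLinearGroup (Fin 2) F) := by
  intro hcc
  have h2 : (2 : F) ≠ 0 := by
    have h3 : ringChar F ≠ 2 := by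
      intro h3
      have := FiniteField.even_card_iff_char_two.1 h3
      rw [Nat.odd_iff] at hodd
      omega
    exact Ring.two_ne_zero h3
  obtain ⟨a, b, h⟩ : ∃ a b : F, a * a + b * b = -1 := by
    obtain ⟨p, hp⟩ := CharP.exists F
    have hp' : p.Prime := (CharP.char_is_prime_or_zero F p).resolve_right (by
      rintro rfl
      exact (CharP.char_ne_zero_of_finite F 0) rfl)
    have : NeZero p := ⟨hp'.ne_zero⟩
    obtain ⟨a, b, hab⟩ := CharP.sq_add_sq F p (-1)
    refine ⟨a, b, ?_⟩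
    have : ((-1 : ℤ) : F) = -1 := by push_cast; rfl
    rw [this] at hab
    linear_combination hab
  -- a rotation with nonzero entries
  obtain ⟨g, hg⟩ := IsCyclic.exists_generator (α := Fˣ)
  have hg4 : g ^ 4 ≠ 1 := by
    intro h4
    have h6 := orderOf_dvd_of_pow_eq_one h4
    rw [orderOf_eq_card_of_forall_mem_zpowers hg, Nat.card_units, Nat.card_eq_fintype_card] at h6
    have := Nat.le_of_dvd (by norm_num) h6
    omega
  set m : F := (g : F) with hm
  have hm0 : m ≠ 0 := g.ne_zero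
  have hm4 : m ^ 4 ≠ 1 := by
    intro h4
    apply hg4
    apply Units.ext
    rw [Units.val_pow_eq_pow_val, Units.val_one]
    exact h4
  have hm1 : 1 - m ^ 2 ≠ 0 := by
    intro h4
    apply hm4
    linear_combination (-1 - m ^ 2) * h4
  have hm2 : 1 + m ^ 2 ≠ 0 := by
    intro h4
    apply hm4
    linear_combination (-1 + m ^ 2) * h4
  set c : F := (1 - m ^ 2) / (1 + m ^ 2) with hc
  set s : F := 2 * m / (1 + m ^ 2) with hs
  have hcs : c ^ 2 + s ^ 2 = 1 := by
    rw [hc, hs]
    field_simp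
    ring
  have hc0 : c ≠ 0 := div_ne_zero hm1 hm2
  have hs0 : s ≠ 0 := div_ne_zero (mul_ne_zero h2 hm0) hm2
  have h' : (c * a - s * b) * (c * a - s * b) + (s * a + c * b) * (s * a + c * b) = -1 := by
    linear_combination (a * a + b * b) * hcs + h
  apply not_comm_yl h2 h h'
  · have : a * (s * a + c * b) - b * (c * a - s * b) = -s := by linear_combination s * h
    rw [this]
    exact neg_ne_zero.2 hs0
  · have : a * (c * a - s * b) + b * (s * a + c * b) = -c := by linear_combination c * h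
    rw [this]
    exact neg_ne_zero.2 hc0
  · exact hcc _ _ _ order_wl (order_yl h2 _ _ _) (order_yl h2 _ _ _) (comm_wl_yl _ _ _)
      (comm_wl_yl _ _ _)

/-- **no binary action of `PSL₂(q)`, `q > 5` odd, has point stabilisers of even order** -/
theorem psl_even_false [Fintype F] (hodd : Odd (Fintype.card F)) (h5 : 5 < Fintype.card F)
    {H : Subgroup (Matrix.ProjectiveSpecialLinearGroup (Fin 2) F)} (hH : H ≠ ⊤)
    (heven : Even (Nat.card H)) (hb : Binary H) : False := by
  have hsimp : IsSimpleGroup (Matrix.ProjectiveSpecialLinearGroup (Fin 2) F) :=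
    Cfsg.Agent.TwoFusion.SLTwoFacts.isSimpleGroup_psl (by omega)
  have hone := Cfsg.Agent.ClassicalGeometry.SLTwoFour.psl_isConj (F := F) hodd
  have : Fact (Nat.Prime 2) := ⟨Nat.prime_two⟩
  obtain ⟨t, ht⟩ := exists_prime_orderOf_dvd_card' (G := H) 2 heven.two_dvd
  have hinv : ∃ s : Matrix.ProjectiveSpecialLinearGroup (Fin 2) F, orderOf s = 2 :=
    ⟨t, by rw [Subgroup.orderOf_coe, ht]⟩
  apply not_centComm hodd h5
  rcases (Cfsg.Agent.S5735.result hinv hone H hH heven).1 hb with
    ⟨⟨K, i1, i2, a, ha, hK, e⟩, -⟩ | ⟨⟨K, i1, i2, m, hm, hK, e⟩, -⟩ | ⟨⟨K, i1, i2, n, hn, hK, e⟩, -⟩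
  · exact centComm_sl hK e
  · exact centComm_sz hK e
  · exact centComm_psu (by omega) (by rw [Nat.card_eq_fintype_card, hK]) e

end Odd

end Cfsg.Agent.H896
end

-- part: H896/PSLOdd
section
/-!
# Binary actions of `PSL₂(q)` with point stabilisers of odd order (helper896)
-/

set_option autoImplicit false
set_option linter.unusedSectionVars false

namespace Cfsg.Agent.H896

/-- in a nontrivial solvable group some nontrivial element commutes with all its conjugates -/
theorem exists_comm_conj {G : Type*} [Group G] [Nontrivial G] (hG : Group.IsSolvable G) :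
    ∃ c : G, c ≠ 1 ∧ ∀ x : G, c * (x * c * x⁻¹) = (x * c * x⁻¹) * c := by
  classical
  have h1 := hG.solvable
  have h0 : Nat.find h1 ≠ 0 := by
    intro h
    have h2 := Nat.find_spec h1
    rw [h, derivedSeries_zero] at h2
    exact top_ne_bot h2
  obtain ⟨m, hm⟩ := Nat.exists_eq_succ_of_ne_zero h0
  have h2 := Nat.find_spec h1
  rw [hm, Nat.succ_eq_add_one, derivedSeries_succ] at h2
  have h3 : derivedSeries G m ≠ ⊥ := Nat.find_min h1 (by omega)
  obtain ⟨⟨c, hc⟩, hx⟩ := Subgroup.ne_bot_iff_exists_ne_one.1 h3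
  have hc1 : c ≠ 1 := fun h => hx (Subtype.ext h)
  refine ⟨c, hc1, fun x => ?_⟩
  have h4 : x * c * x⁻¹ ∈ derivedSeries G m :=
    (inferInstance : (derivedSeries G m).Normal).conj_mem c hc x
  have h5 := (Subgroup.commutator_eq_bot_iff_le_centralizer.1 h2) hc
  exact (Subgroup.mem_centralizer_iff.1 h5 _ h4).symm

namespace PL

open Matrix

theorem card_psl_even {L : Type*} [Field L] [Finite L] :
    Even (Nat.card (Matrix.ProjectiveSpecialLinearGroup (Fin 2) L)) := by
  have h1 := order_wl (F := L)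
  have h2 := orderOf_dvd_natCard
    (QuotientGroup.mk (wl L) : Matrix.ProjectiveSpecialLinearGroup (Fin 2) L)
  rw [h1] at h2
  exact even_iff_two_dvd.2 h2

theorem card_pgl_even {L : Type*} [Field L] [Fintype L] :
    Even (Nat.card (Matrix.ProjGenLinGroup (Fin 2) L)) := by
  rw [Cfsg.Agent.ClassicalGeometry.PSL2Basic.card_PGL2]
  rcases Nat.even_or_odd (Fintype.card L) with h | h
  · exact h.mul_right _
  · apply Even.mul_left
    exact Nat.Odd.sub_odd (h.pow) odd_one

theorem solvable_of_odd {F : Type*} [Field F] [Fintype F]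
    (H : Subgroup (Matrix.ProjectiveSpecialLinearGroup (Fin 2) F)) (hodd : Odd (Nat.card H)) :
    Group.IsSolvable H := by
  obtain ⟨p, hp⟩ := CharP.exists F
  have hp' : p.Prime := (CharP.char_is_prime_or_zero F p).resolve_right (by
    rintro rfl
    exact (CharP.char_ne_zero_of_finite F 0) rfl)
  have : Fact p.Prime := ⟨hp'⟩
  have key : ∀ {L : Type} [Group L], Nonempty (H ≃* L) → Even (Nat.card L) → Group.IsSolvable H := by
    rintro L _ ⟨e⟩ h
    rw [← Nat.card_congr e.toEquiv] at h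
    exact absurd h (Nat.not_even_iff_odd.2 hodd)
  rcases Cfsg.Agent.S0799.result rfl p H with ⟨k, -, ⟨hc, -⟩ | ⟨⟨e⟩⟩⟩ | ⟨P, K, hK, ⟨e⟩⟩ | h | h | h |
    ⟨L, i1, i2, m, -, h | h⟩
  · have := hc
    exact Group.isSolvable_of_comm (fun a b => by
      have := IsCyclic.commGroup (α := H)
      exact Std.Commutative.comm a b)
  · exfalso
    have := Nat.card_congr e.toEquiv
    rw [DihedralGroup.nat_card] at this
    rw [this] at hodd
    exact (Nat.not_even_iff_odd.2 hodd) (even_two_mul k)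
  · have h1 := Cfsg.Agent.ClassicalGeometry.PSL2Solvable.isSolvable_of_le_normalizer p P K hK
    exact Group.isSolvable_of_isSolvable_injective (f := e.toMonoidHom) e.injective
  · refine key h ?_
    rw [nat_card_alternatingGroup, Nat.card_eq_fintype_card, Fintype.card_fin]
    decide
  · refine key h ?_
    rw [Nat.card_perm, Nat.card_eq_fintype_card, Fintype.card_fin]
    decide
  · refine key h ?_
    rw [nat_card_alternatingGroup, Nat.card_eq_fintype_card, Fintype.card_fin]
    decide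
  · exact key h card_psl_even
  · exact key h card_pgl_even

/-! ### the unipotent case -/

section Four

variable {F : Type*} [Field F]

/-- `tr X² = 4`, with `X` upper triangular -/
theorem false_four_upper (h0 : (2 : F) ≠ 0) {K : Subgroup (Matrix.SpecialLinearGroup (Fin 2) F)}
    (hb : Binary K) (hcen : Subgroup.center (Matrix.SpecialLinearGroup (Fin 2) F) ≤ K)
    (hO : ∀ Y ∈ K, tr Y = 0 → Y ∈ Subgroup.center (Matrix.SpecialLinearGroup (Fin 2) F))
    {X : Matrix.SpecialLinearGroup (Fin 2) F} (hX : X ∈ K)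
    (hXc : X ∉ Subgroup.center (Matrix.SpecialLinearGroup (Fin 2) F)) (hX10 : X.1 1 0 = 0)
    (hX00 : X.1 0 0 = X.1 1 1)
    (hcZ : ∀ Y ∈ K, X * (Y * X * Y⁻¹) = (Y * X * Y⁻¹) * X) : False := by
  have hX01 : X.1 0 1 ≠ 0 := fun h => hXc (mem_center.2 ⟨h, hX10, hX00⟩)
  have hB : ∀ Y ∈ K, Y.1 1 0 = 0 := by
    intro Y hY
    have h1 := (comm_iff.1 (hcZ Y hY)).1
    rw [hX10, zero_mul] at h1
    have h2 := (mul_eq_zero.1 h1).resolve_left hX01
    rw [m10 (Y * X), m10, m11, i00, i10, hX10, ← hX00] at h2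
    have h3 : X.1 0 1 * (Y.1 1 0 * Y.1 1 0) = 0 := by linear_combination -h2
    exact mul_self_eq_zero.1 ((mul_eq_zero.1 h3).resolve_left hX01)
  by_cases hU : ∀ Y ∈ K, Y.1 0 0 = Y.1 1 1
  · exact false_unip h0 hb hcen hB hU hX hXc
  · push Not at hU
    obtain ⟨k, hk, hkne⟩ := hU
    have hk10 := hB k hk
    have hne' : k.1 1 1 - k.1 0 0 ≠ 0 := fun h => hkne (sub_eq_zero.1 h).symm
    set t : F := k.1 0 1 / (k.1 1 1 - k.1 0 0) with ht
    have htt : t * (k.1 1 1 - k.1 0 0) = k.1 0 1 := by rw [ht]; field_simp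
    set s : Matrix.SpecialLinearGroup (Fin 2) F := mk2 1 t 0 1 (by ring) with hs
    have s00 : s.1 0 0 = 1 := by rw [hs, k00]
    have s01 : s.1 0 1 = t := by rw [hs, k01]
    have s10 : s.1 1 0 = 0 := by rw [hs, k10]
    have s11 : s.1 1 1 = 1 := by rw [hs, k11]
    have hmem : ∀ Y, Y ∈ cj s⁻¹ K ↔ s * Y * s⁻¹ ∈ K := by
      intro Y
      rw [mem_cj, inv_inv]
    have hinv : ∀ Y, Y ∈ K → s⁻¹ * Y * s ∈ cj s⁻¹ K := by
      intro Y hY
      rw [hmem]
      have : s * (s⁻¹ * Y * s) * s⁻¹ = Y := by group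
      rwa [this]
    have hB' : ∀ Y ∈ cj s⁻¹ K, Y.1 1 0 = 0 := by
      intro Y hY
      have h1 := hB _ ((hmem Y).1 hY)
      rw [m10 (s * Y), m10, m11, i00, i10, s10, s11] at h1
      linear_combination h1
    refine false_borel (K := cj s⁻¹ K) (binary_cj.2 hb) hB' ?_ (X := s⁻¹ * X * s) (k := s⁻¹ * k * s)
      (hinv X hX) ?_ ?_ (hinv k hk) ?_ ?_
    · intro Y hY h
      have h1 := hO _ ((hmem Y).1 hY) (by rw [tr_conj, h])
      have h2 := mem_center.1 h1
      have h3 := dt (s * Y * s⁻¹)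
      have h4 : tr (s * Y * s⁻¹) = 0 := by rw [tr_conj, h]
      unfold tr at h4
      rw [h2.1, h2.2.2] at h3
      rw [h2.2.2] at h4
      have h5 : (s * Y * s⁻¹).1 1 1 = 0 := by
        apply mul_left_cancel₀ h0
        linear_combination h4
      rw [h5] at h3
      simp only [_root_.MulZeroClass.mul_zero, _root_.Fin.isValue, _root_.Matrix.SpecialLinearGroup.coe_mul, _root_.Matrix.SpecialLinearGroup.coe_inv, _root_.MulZeroClass.zero_mul, _root_.sub_self, _root_.zero_ne_one] at h3
    · rw [m00 (s⁻¹ * X), m11 (s⁻¹ * X), m00, m01, m10, m11, i00, i01, i10, i11, s00, s01, s10, s11,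
        hX10, hX00]
      ring
    · rw [m01 (s⁻¹ * X), m00, m01, i00, i01, s01, s11, hX10, hX00]
      have : (1 * X.1 1 1 + -t * 0) * t + (1 * X.1 0 1 + -t * X.1 1 1) * 1 = X.1 0 1 := by ring
      rw [this]
      exact hX01
    · rw [m01 (s⁻¹ * k), m00, m01, i00, i01, s01, s11, hk10]
      linear_combination -htt
    · rw [m00 (s⁻¹ * k), m11 (s⁻¹ * k), m00, m01, m10, m11, i00, i01, i10, i11, s00, s01, s10, s11,
        hk10]
      intro h
      apply hkne
      linear_combination h

/-- `tr X² = 4` -/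
theorem false_four (h0 : (2 : F) ≠ 0) {K : Subgroup (Matrix.SpecialLinearGroup (Fin 2) F)}
    (hb : Binary K) (hcen : Subgroup.center (Matrix.SpecialLinearGroup (Fin 2) F) ≤ K)
    (hO : ∀ Y ∈ K, tr Y = 0 → Y ∈ Subgroup.center (Matrix.SpecialLinearGroup (Fin 2) F))
    {X : Matrix.SpecialLinearGroup (Fin 2) F} (hX : X ∈ K)
    (hXc : X ∉ Subgroup.center (Matrix.SpecialLinearGroup (Fin 2) F)) (h4 : tr X * tr X = 4)
    (hcZ : ∀ Y ∈ K, X * (Y * X * Y⁻¹) = (Y * X * Y⁻¹) * X) : False := by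
  have hdX := dt X
  unfold tr at h4
  by_cases hX10 : X.1 1 0 = 0
  · refine false_four_upper h0 hb hcen hO hX hXc hX10 ?_ hcZ
    rw [hX10] at hdX
    have : (X.1 0 0 - X.1 1 1) * (X.1 0 0 - X.1 1 1) = 0 := by
      linear_combination h4 - 4 * hdX
    exact sub_eq_zero.1 (mul_self_eq_zero.1 this)
  · set x : F := (X.1 0 0 - X.1 1 1) / (2 * X.1 1 0) with hx
    have hxx : 2 * X.1 1 0 * x = X.1 0 0 - X.1 1 1 := by rw [hx]; field_simp
    set s : Matrix.SpecialLinearGroup (Fin 2) F := mk2 x (-1) 1 0 (by ring) with hs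
    have s00 : s.1 0 0 = x := by rw [hs, k00]
    have s01 : s.1 0 1 = -1 := by rw [hs, k01]
    have s10 : s.1 1 0 = 1 := by rw [hs, k10]
    have s11 : s.1 1 1 = 0 := by rw [hs, k11]
    have hmem : ∀ Y, Y ∈ cj s⁻¹ K ↔ s * Y * s⁻¹ ∈ K := by
      intro Y
      rw [mem_cj, inv_inv]
    have hcs : ∀ Y, s * Y * s⁻¹ ∈ Subgroup.center (Matrix.SpecialLinearGroup (Fin 2) F) →
        Y ∈ Subgroup.center (Matrix.SpecialLinearGroup (Fin 2) F) := by
      intro Y h
      have h1 := (inferInstance : (Subgroup.center (Matrix.SpecialLinearGroup (Fin 2) F)).Normal).conj_mem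
        _ h s⁻¹
      have h2 : s⁻¹ * (s * Y * s⁻¹) * s⁻¹⁻¹ = Y := by group
      rwa [h2] at h1
    have h40 : (4 : F) ≠ 0 := by
      have : (4 : F) = 2 * 2 := by norm_num
      rw [this]
      exact mul_ne_zero h0 h0
    have hX'10 : (s⁻¹ * X * s).1 1 0 = 0 := by
      rw [m10 (s⁻¹ * X), m10, m11, i10, i11, s00, s10]
      apply mul_left_cancel₀ (mul_ne_zero h40 hX10)
      linear_combination -h4 + 4 * hdX + (2 * X.1 1 0 * x - (X.1 0 0 - X.1 1 1)) * hxx
    refine false_four_upper (K := cj s⁻¹ K) h0 (binary_cj.2 hb) ?_ ?_ (X := s⁻¹ * X * s) ?_ ?_ hX'10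
      ?_ ?_
    · intro Y hY
      rw [hmem]
      exact hcen ((inferInstance :
        (Subgroup.center (Matrix.SpecialLinearGroup (Fin 2) F)).Normal).conj_mem _ hY s)
    · intro Y hY h
      apply hcs
      exact hO _ ((hmem Y).1 hY) (by rw [tr_conj, h])
    · rw [hmem]
      have : s * (s⁻¹ * X * s) * s⁻¹ = X := by group
      rwa [this]
    · intro h
      apply hXc
      have h1 := (inferInstance : (Subgroup.center (Matrix.SpecialLinearGroup (Fin 2) F)).Normal).conj_mem
        _ h s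
      have h2 : s * (s⁻¹ * X * s) * s⁻¹ = X := by group
      rwa [h2] at h1
    · have h5 := dt (s⁻¹ * X * s)
      have h6 : tr (s⁻¹ * X * s) = tr X := by
        have := tr_conj X s⁻¹
        rwa [inv_inv] at this
      unfold tr at h6
      rw [hX'10] at h5
      rw [← h6] at h4
      have : ((s⁻¹ * X * s).1 0 0 - (s⁻¹ * X * s).1 1 1) * ((s⁻¹ * X * s).1 0 0 - (s⁻¹ * X * s).1 1 1) = 0 := by
        linear_combination h4 - 4 * h5
      exact sub_eq_zero.1 (mul_self_eq_zero.1 this)
    · intro Y hY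
      have h1 := hcZ _ ((hmem Y).1 hY)
      have e1 : s⁻¹ * X * s * (Y * (s⁻¹ * X * s) * Y⁻¹) =
          s⁻¹ * (X * (s * Y * s⁻¹ * X * (s * Y * s⁻¹)⁻¹)) * s := by group
      have e2 : Y * (s⁻¹ * X * s) * Y⁻¹ * (s⁻¹ * X * s) =
          s⁻¹ * ((s * Y * s⁻¹ * X * (s * Y * s⁻¹)⁻¹) * X) * s := by group
      rw [e1, e2, h1]

end Four

/-! ### the main theorem for odd order -/

section Main

variable {F : Type*} [Field F] [Fintype F]

theorem exists_omega {a : ℕ} (hF : Fintype.card F = 2 ^ a) (ha : Even a) :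
    ∃ ω : F, ω * ω + ω + 1 = 0 := by
  obtain ⟨b, rfl⟩ := ha
  have : Fact (Nat.Prime 3) := ⟨Nat.prime_three⟩
  have h3 : 3 ∣ Nat.card Fˣ := by
    rw [Nat.card_units, Nat.card_eq_fintype_card, hF, ← mul_two, mul_comm, pow_mul]
    have h1 : (4 : ℕ) - 1 ∣ 4 ^ b - 1 := by simpa only [_root_.Nat.add_one_sub_one, _root_.one_pow] using Nat.sub_dvd_pow_sub_pow 4 1 b
    simpa only [_root_.Nat.reducePow, _root_.Nat.add_one_sub_one] using h1
  obtain ⟨x, hx⟩ := exists_prime_orderOf_dvd_card' (G := Fˣ) 3 h3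
  have h1 : x ^ 3 = 1 := by rw [← hx, pow_orderOf_eq_one]
  have h2 : x ≠ 1 := by
    rintro rfl
    rw [orderOf_one] at hx
    omega
  have h4 : (x : F) ^ 3 = 1 := by rw [← Units.val_pow_eq_pow_val, h1, Units.val_one]
  have h5 : (x : F) ≠ 1 := fun h => h2 (Units.ext h)
  refine ⟨x, ?_⟩
  apply mul_left_cancel₀ (sub_ne_zero.2 h5)
  linear_combination h4

theorem no_omega {a : ℕ} (hF : Fintype.card F = 2 ^ a) (ha : Odd a) (ω : F) :
    ω * ω + ω + 1 ≠ 0 := by
  intro h
  have := charP_two_of_card_pow hF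
  have h2 := CharTwo.two_eq_zero (R := F)
  have h3 : ω ^ 3 = 1 := by linear_combination (ω - 1) * h
  have hω0 : ω ≠ 0 := by
    rintro rfl
    simp at h
  have h1 : ω ≠ 1 := by
    rintro rfl
    have : (1 : F) = 0 := by linear_combination h - h2
    exact one_ne_zero this
  set x : Fˣ := Units.mk0 ω hω0 with hx
  have hx3 : x ^ 3 = 1 := Units.ext (by rw [Units.val_pow_eq_pow_val, hx, Units.val_mk0, h3, Units.val_one])
  have hx1 : x ≠ 1 := by
    intro h
    apply h1
    have := congrArg Units.val h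
    simpa [hx] using this
  have : Fact (Nat.Prime 3) := ⟨Nat.prime_three⟩
  have ho : orderOf x = 3 := orderOf_eq_prime hx3 hx1
  have hd := orderOf_dvd_natCard x
  rw [ho, Nat.card_units, Nat.card_eq_fintype_card, hF] at hd
  obtain ⟨b, rfl⟩ := ha
  rw [pow_succ, pow_mul] at hd
  have h5 : (4 : ℕ) ^ b % 3 = 1 := by
    rw [Nat.pow_mod]
    simp
  have h6 : (2 ^ 2 : ℕ) = 4 := by norm_num
  rw [h6] at hd
  have h7 : 0 < 4 ^ b := by positivity
  omega

theorem odd_main {H : Subgroup (Matrix.ProjectiveSpecialLinearGroup (Fin 2) F)}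
    (hodd : Odd (Nat.card H)) (hne : H ≠ ⊥) (hb : Binary H) :
    (∃ a : ℕ, Odd a ∧ Fintype.card F = 2 ^ a) ∧ Nat.card H = 3 := by
  set π := QuotientGroup.mk' (Subgroup.center (Matrix.SpecialLinearGroup (Fin 2) F)) with hπ
  have hπs : Function.Surjective π := QuotientGroup.mk'_surjective _
  set K := H.comap π with hK
  have hmemK : ∀ Y, Y ∈ K ↔ π Y ∈ H := fun Y => Iff.rfl
  have hbK : Binary K := (binary_comap π hπs H).2 hb
  have hker : ∀ Y, π Y = 1 ↔ Y ∈ Subgroup.center (Matrix.SpecialLinearGroup (Fin 2) F) :=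
    fun Y => QuotientGroup.eq_one_iff Y
  have hcen : Subgroup.center (Matrix.SpecialLinearGroup (Fin 2) F) ≤ K := fun Y hY => by
    rw [hmemK, (hker Y).2 hY]
    exact H.one_mem
  have hH2 : ∀ x ∈ H, x * x = 1 → x = 1 := by
    intro x hx hxx
    have h1 : orderOf x ∣ 2 := orderOf_dvd_of_pow_eq_one (by rw [pow_two, hxx])
    have h2 : orderOf x ∣ Nat.card H := Subgroup.orderOf_dvd_natCard H hx
    have h3 : Nat.Coprime 2 (Nat.card H) := (Nat.coprime_two_left).2 hodd
    have h4 : orderOf x ∣ 1 := by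
      rw [← h3.gcd_eq_one]
      exact Nat.dvd_gcd h1 h2
    exact orderOf_eq_one_iff.1 (Nat.dvd_one.1 h4)
  have hO : ∀ Y ∈ K, tr Y = 0 → Y ∈ Subgroup.center (Matrix.SpecialLinearGroup (Fin 2) F) := by
    intro Y hY h
    rw [← hker]
    apply hH2 _ hY
    rw [← map_mul, hker, mem_center, m01, m10, m00, m11]
    unfold tr at h
    refine ⟨by linear_combination Y.1 0 1 * h, by linear_combination Y.1 1 0 * h,
      by linear_combination (Y.1 0 0 - Y.1 1 1) * h⟩
  -- a suitable element
  have hnt : Nontrivial H := (Subgroup.nontrivial_iff_ne_bot H).2 hne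
  obtain ⟨⟨c, hcH⟩, hc1, hcc⟩ := exists_comm_conj (solvable_of_odd H hodd)
  have hc1' : c ≠ 1 := fun h => hc1 (Subtype.ext h)
  have hcc' : ∀ x ∈ H, c * (x * c * x⁻¹) = (x * c * x⁻¹) * c := fun x hx =>
    congrArg Subtype.val (hcc ⟨x, hx⟩)
  obtain ⟨X, hXc'⟩ := hπs c
  have hX : X ∈ K := by rw [hmemK, hXc']; exact hcH
  have hXc : X ∉ Subgroup.center (Matrix.SpecialLinearGroup (Fin 2) F) := by
    rw [← hker, hXc']
    exact hc1'
  have hXt : tr X ≠ 0 := fun h => hXc (hO X hX h)
  have hcZ : ∀ Y ∈ K, X * (Y * X * Y⁻¹) = (Y * X * Y⁻¹) * X := by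
    intro Y hY
    have h1 := hcc' (π Y) hY
    rw [← hXc', ← map_mul, ← map_inv, ← map_mul, ← map_mul, ← map_mul] at h1
    obtain ⟨r, hr, h2⟩ := eq_neg_iff_mk h1
    by_cases hr1 : r = 1
    · apply Subtype.ext
      ext i j
      have := h2 i j
      rw [hr1, one_mul] at this
      exact this.symm
    · exfalso
      have hr' : r = -1 := by
        have : (r - 1) * (r + 1) = 0 := by linear_combination hr
        have h3 := (mul_eq_zero.1 this).resolve_left (sub_ne_zero.2 hr1)
        linear_combination h3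
      have h20 : (2 : F) ≠ 0 := by
        intro h
        apply hr1
        rw [hr']
        linear_combination -h
      set Z := Y * X * Y⁻¹ with hZ
      have h3 := dt X
      have e00 := h2 0 0
      have e01 := h2 0 1
      have e10 := h2 1 0
      have e11 := h2 1 1
      have htZ : tr Z = tr X := tr_conj X Y
      clear_value Z
      rw [hr', m00 Z X, m00 X Z] at e00
      rw [hr', m01 Z X, m01 X Z] at e01
      rw [hr', m10 Z X, m10 X Z] at e10
      rw [hr', m11 Z X, m11 X Z] at e11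
      have h4 : 2 * tr X = 0 := by
        rw [← htZ]
        unfold tr
        linear_combination X.1 1 1 * e00 - X.1 0 1 * e10 - X.1 1 0 * e01 + X.1 0 0 * e11 -
          2 * (Z.1 0 0 + Z.1 1 1) * h3
      exact hXt ((mul_eq_zero.1 h4).resolve_left h20)
  by_cases h4 : tr X * tr X = 4
  · exfalso
    by_cases h0 : (2 : F) = 0
    · apply hXt
      apply mul_self_eq_zero.1
      rw [h4]
      linear_combination 2 * h0
    · exact false_four h0 hbK hcen hO hX hXc h4 hcZ
  · -- the centralizer of `X`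
    have hcomm : ∀ Y ∈ K, X * Y = Y * X := by
      intro Y hY
      rcases eq_or_inv hXc h4 (hcZ Y hY) (tr_conj X Y) with h5 | h5
      · exact (mul_inv_eq_iff_eq_mul.1 h5).symm
      · have h6 := hO Y hY (tr_of_inv hXc h5)
        exact Subgroup.mem_center_iff.1 h6 X
    by_cases h0 : (2 : F) = 0
    · have : CharP F 2 := CharTwo.of_one_ne_zero_of_two_eq_zero one_ne_zero h0
      obtain ⟨n, -, hn⟩ := FiniteField.card F 2
      have hall : ∀ Y ∈ K, Y ∉ Subgroup.center (Matrix.SpecialLinearGroup (Fin 2) F) → tr Y = 1 := by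
        intro Y hY hYc
        by_contra h5
        exact false_even hbK hcen hY hYc (fun Z hZ => comm_trans hXc (hcomm Y hY) (hcomm Z hZ))
          (fun h => hYc (hO Y hY h)) h5
      have hX1 := hall X hX hXc
      have hω : ∀ ω : F, ω * ω + ω + 1 ≠ 0 := fun ω h =>
        false_three hbK hcen hX hXc hcomm hX1 h
      refine ⟨⟨n, ?_, hn⟩, ?_⟩
      · rw [← Nat.not_even_iff_odd]
        intro h
        obtain ⟨ω, h'⟩ := exists_omega hn h
        exact hω ω h'
      · have hmem : ∀ x ∈ H, x = 1 ∨ x = c ∨ x = c⁻¹ := by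
          intro x hx
          obtain ⟨Y, rfl⟩ := hπs x
          by_cases hY : Y ∈ Subgroup.center (Matrix.SpecialLinearGroup (Fin 2) F)
          · exact Or.inl ((hker Y).2 hY)
          · right
            rcases eq_or_inv hXc h4 (hcomm Y hx) (by rw [hall Y hx hY, hX1]) with h5 | h5
            · left; rw [h5, hXc']
            · right; rw [h5, map_inv, hXc']
        have hcc3 : c * c = c⁻¹ := by
          rcases hmem (c * c) (H.mul_mem hcH hcH) with h5 | h5 | h5
          · exact absurd (hH2 c hcH h5) hc1'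
          · exact absurd (mul_eq_left.1 h5) hc1'
          · exact h5
        have ho : orderOf c = 3 := by
          have : Fact (Nat.Prime 3) := ⟨Nat.prime_three⟩
          apply orderOf_eq_prime _ hc1'
          rw [pow_succ, pow_two, hcc3, inv_mul_cancel]
        have hHz : H = Subgroup.zpowers c := by
          apply le_antisymm
          · intro x hx
            rcases hmem x hx with rfl | rfl | rfl
            · exact Subgroup.one_mem _
            · exact Subgroup.mem_zpowers _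
            · exact Subgroup.inv_mem _ (Subgroup.mem_zpowers _)
          · rw [Subgroup.zpowers_le]
            exact hcH
        rw [hHz, Nat.card_zpowers, ho]
    · exact absurd (false_odd h0 hbK hcen hX hXc hcomm h4) id

end Main

end PL

end Cfsg.Agent.H896
end

-- part: H896/PSLThree
section
/-!
# The binary action of `PSL₂(2^a)`, `a` odd, with point stabilisers of order three (helper896)
-/

set_option autoImplicit false
set_option linter.unusedSectionVars false

namespace Cfsg.Agent.H896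

namespace PL

open Matrix

variable {F : Type*} [Field F] [CharP F 2]

theorem eq_of_tr (hω : ∀ ω : F, ω * ω + ω + 1 ≠ 0) {A B : Matrix.SpecialLinearGroup (Fin 2) F}
    (hA : tr A = 1) (hB : tr B = 1) (hAB : tr (A * B) = 1) : A = B := by
  have h2 := CharTwo.two_eq_zero (R := F)
  have dA := dt A
  have dB := dt B
  unfold tr at hA hB hAB
  rw [m00, m11] at hAB
  have hA' : A.1 1 1 = 1 - A.1 0 0 := by linear_combination hA
  have hB' : B.1 1 1 = 1 - B.1 0 0 := by linear_combination hB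
  rw [hA'] at dA
  rw [hB'] at dB
  rw [hA', hB'] at hAB
  have h1 : (A.1 0 0 + B.1 0 0) * (A.1 0 0 + B.1 0 0) +
      (A.1 0 1 + B.1 0 1) * (A.1 1 0 + B.1 1 0) = 0 := by
    linear_combination -dA - dB + hAB + (A.1 0 0 + B.1 0 0 - 1) * h2
  have h3 : (A.1 0 0 + B.1 0 0) + A.1 1 0 * (A.1 0 1 + B.1 0 1) + A.1 0 1 * (A.1 1 0 + B.1 1 0) = 0 := by
    linear_combination hAB + (A.1 0 0 + B.1 0 0 + A.1 0 1 * A.1 1 0 - A.1 0 0 * B.1 0 0) * h2
  by_cases hn : A.1 0 1 + B.1 0 1 = 0
  · rw [hn, zero_mul, add_zero] at h1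
    have h4 := mul_self_eq_zero.1 h1
    rw [hn, h4, mul_zero, add_zero, zero_add] at h3
    rcases mul_eq_zero.1 h3 with h5 | h5
    · exfalso
      apply hω (A.1 0 0)
      rw [h5, zero_mul, sub_zero] at dA
      linear_combination -dA + A.1 0 0 * h2
    · apply ext'
      · linear_combination h4 - B.1 0 0 * h2
      · linear_combination hn - B.1 0 1 * h2
      · linear_combination h5 - B.1 1 0 * h2
      · rw [hA', hB']
        linear_combination -h4 + B.1 0 0 * h2
  · exfalso
    set n := A.1 0 1 + B.1 0 1 with hndef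
    set m := (A.1 0 0 + B.1 0 0) / n with hm
    have hm' : A.1 0 0 + B.1 0 0 = m * n := by rw [hm]; field_simp
    rw [hm'] at h1 h3
    have h4 : A.1 1 0 + B.1 1 0 = - (m * m * n) := by
      apply mul_left_cancel₀ hn
      linear_combination h1
    have h5 : m + A.1 1 0 - A.1 0 1 * (m * m) = 0 := by
      apply mul_left_cancel₀ hn
      rw [h4] at h3
      linear_combination h3
    apply hω (A.1 0 0 + A.1 0 1 * m)
    linear_combination -A.1 0 1 * h5 - dA + (A.1 0 0 + A.1 0 0 * A.1 0 1 * m + A.1 0 1 * m) * h2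

theorem tr_eq_one {x : Matrix.SpecialLinearGroup (Fin 2) F} (hx : x ≠ 1) (h : x * x * x = 1) :
    tr x = 1 := by
  have h2 := CharTwo.two_eq_zero (R := F)
  have h1 : tr x * tr x = 1 := by
    apply of_cube
    · rw [center_sl_two, Subgroup.mem_bot]
      exact hx
    · rw [h]
      exact Subgroup.one_mem _
  have h5 : (tr x + 1) ^ 2 = 0 := by linear_combination h1 + (tr x + 1) * h2
  exact CharTwo.add_eq_zero.1 (pow_eq_zero_iff two_ne_zero |>.1 h5)

theorem binary_three (hω : ∀ ω : F, ω * ω + ω + 1 ≠ 0)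
    {K : Subgroup (Matrix.SpecialLinearGroup (Fin 2) F)} (hK : Nat.card K = 3) : Binary K := by
  have : Fact (Nat.Prime 3) := ⟨Nat.prime_three⟩
  have hcube : ∀ x ∈ K, x * x * x = 1 := by
    intro x hx
    have h1 : (⟨x, hx⟩ : K) ^ 3 = 1 := by
      rw [← hK]
      exact pow_card_eq_one'
    have h2 := congrArg Subtype.val h1
    rw [pow_succ, pow_two] at h2
    exact h2
  have hcube' : ∀ a x, a⁻¹ * x * a ∈ K → x * x * x = 1 := by
    intro a x h
    have h1 := hcube _ h
    have h2 : a⁻¹ * x * a * (a⁻¹ * x * a) * (a⁻¹ * x * a) = a⁻¹ * (x * x * x) * a := by group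
    rw [h2] at h1
    have h3 : x * x * x = a * (a⁻¹ * (x * x * x) * a) * a⁻¹ := by group
    rw [h3, h1]; group
  have hgen : ∀ x ∈ K, x ≠ 1 → ∀ y ∈ K, ∃ n : ℤ, y = x ^ n := by
    intro x hx hx1 y hy
    have h1 : (⟨y, hy⟩ : K) ∈ Subgroup.zpowers (⟨x, hx⟩ : K) :=
      mem_zpowers_of_prime_card hK (fun h => hx1 (congrArg Subtype.val h))
    obtain ⟨n, hn⟩ := Subgroup.mem_zpowers_iff.1 h1
    refine ⟨n, ?_⟩
    have := congrArg Subtype.val hn
    simpa using this.symm
  apply binary_of_ti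
  · intro g x hx hx1 hgx y hy
    obtain ⟨n, rfl⟩ := hgen x hx hx1 y hy
    have : g⁻¹ * x ^ n * g = (g⁻¹ * x * g) ^ n := by
      have := conj_zpow (i := n) (a := g⁻¹) (b := x)
      rw [inv_inv] at this
      exact this.symm
    rw [this]
    exact K.zpow_mem hgx n
  · intro a b c p q r hp hq hr hp1 hq1 hr1 hqpr
    have h3p := hcube' a p hp
    have h3q := hcube' b q hq
    have h3r := hcube' c r hr
    have hpr : p = r := eq_of_tr hω (tr_eq_one hp1 h3p) (tr_eq_one hr1 h3r)
      (by rw [← hqpr]; exact tr_eq_one hq1 h3q)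
    have hpq : p = q * q := by
      rw [hqpr, ← hpr]
      calc p = p * p * p * p := by rw [h3p, one_mul]
        _ = p * p * (p * p) := by group
    rw [hpq]
    have : b⁻¹ * (q * q) * b = (b⁻¹ * q * b) * (b⁻¹ * q * b) := by group
    rw [this]
    exact K.mul_mem hq hq

end PL

end Cfsg.Agent.H896
end

-- part: S5736
section
set_option autoImplicit false
open Cfsg

namespace Cfsg.Agent.S5736

open Cfsg.Agent.H896

/-- Let F be a finite field with q ≥ 4 elements, q ≠ 5, let G = PSL₂(F) and let H be a proper subgroup of G. Then the action of G on the cosets of H is binary if and only if H is trivial, or q is a power of 2 and H is a Sylow 2-subgroup, or q = 2^a with a odd and H has order 3. Here an action is binary (relational complexity 2) when, for every n ≥ 2 and all n-tuples I, J of points, if for every pair of positions some group element carries the corresponding pair of entries of I to those of J, then a single group element carries I to J. -/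
theorem result {F : Type*} [Field F] [Fintype F] (h4 : 4 ≤ Fintype.card F) (h5 : Fintype.card F ≠ 5)
    (H : Subgroup (Matrix.ProjectiveSpecialLinearGroup (Fin 2) F)) (hH : H ≠ ⊤) :
    (∀ (n : ℕ) (I J : Fin n → Matrix.ProjectiveSpecialLinearGroup (Fin 2) F ⧸ H), 2 ≤ n →
        (∀ i j : Fin n, i ≠ j → ∃ g : Matrix.ProjectiveSpecialLinearGroup (Fin 2) F, g • I i = J i ∧ g • I j = J j) → ∃ g : Matrix.ProjectiveSpecialLinearGroup (Fin 2) F, ∀ i, g • I i = J i) ↔
      (H = ⊥ ∨ ((∃ a : ℕ, Fintype.card F = 2 ^ a) ∧ ∃ P : Sylow 2 (Matrix.ProjectiveSpecialLinearGroup (Fin 2) F), H = P) ∨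
        ((∃ a : ℕ, Odd a ∧ Fintype.card F = 2 ^ a) ∧ Nat.card H = 3)) := by
  show Binary H ↔ _
  constructor
  · intro hb
    by_cases heven : Even (Nat.card H)
    · right; left
      rcases Nat.even_or_odd (Fintype.card F) with hF | hF
      · obtain ⟨p, hp⟩ := CharP.exists F
        obtain ⟨n, hpp, hn⟩ := FiniteField.card F p
        have h2 : p = 2 := by
          rw [hn] at hF
          exact (Nat.prime_dvd_prime_iff_eq Nat.prime_two hpp).1
            (Nat.prime_two.dvd_of_dvd_pow hF.two_dvd) |>.symm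
        subst h2
        exact ⟨⟨n, hn⟩, (sl_binary_iff ⟨pslEquiv⟩ hH heven).1 hb⟩
      · exfalso
        have h7 : 5 < Fintype.card F := by
          obtain ⟨k, hk⟩ := hF
          omega
        exact psl_even_false hF h7 hH heven hb
    · rw [Nat.not_even_iff_odd] at heven
      by_cases hbot : H = ⊥
      · exact Or.inl hbot
      · right; right
        exact PL.odd_main heven hbot hb
  · rintro (rfl | ⟨⟨a, ha⟩, P, rfl⟩ | ⟨⟨a, hodd, ha⟩, h3⟩)
    · exact binary_bot
    · have := charP_two_of_card_pow ha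
      have : Fact (Nat.Prime 2) := ⟨Nat.prime_two⟩
      refine (sl_binary_iff ⟨pslEquiv⟩ hH ?_).2 ⟨P, rfl⟩
      exact even_iff_two_dvd.2 (P.dvd_card_of_dvd_card PL.card_psl_even.two_dvd)
    · have := charP_two_of_card_pow ha
      rw [← binary_congr pslEquiv]
      apply PL.binary_three (PL.no_omega ha hodd)
      rw [card_map_equiv, h3]

end Cfsg.Agent.S5736
end

private theorem dce_0d8e2a26b470 : _root_.True := by
  try have : _root_.True := by simp only [_root_.Cfsg.Agent.H896.yl.eq_1]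
  try have : _root_.True := by simp only [_root_.Cfsg.Agent.H896.wl.eq_1]
  try have : _root_.True := by simp only [_root_.Cfsg.Agent.H896.PL.mk2.congr_simp]
  exact _root_.True.intro
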