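import Cfsg.Statements.S5740
import Cfsg.Agent.H897.Fin
set_option linter.all false

set_option autoImplicit false
open Cfsg

namespace Cfsg.Agent.S5740

/-- In the simple group ²E₆(2) (the twisted group of type E₆ over the field with 4 elements), for every prime p > 5 no p-local subgroup is maximal: the normaliser of a non-trivial p-subgroup is never a maximal subgroup. -/
theorem result {K : Type*} [Field K] [Fintype K] (hK : Fintype.card K = 4) (p : ℕ) (hp : p.Prime) (h5 : 5 < p)
    (P : Subgroup (Cfsg.Lie.twistedE6 K 2)) (hP : IsPGroup p P) (hP1 : P ≠ ⊥) :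
    ¬ IsCoatom (Subgroup.normalizer (P : Set (Cfsg.Lie.twistedE6 K 2))) := by
  classical
  have hchar : CharP K 2 := by
    obtain ⟨q, hq⟩ := CharP.exists K
    have hqp : q.Prime := CharP.char_is_prime K q
    obtain ⟨n, -, hn⟩ := FiniteField.card K q
    rw [hK] at hn
    have h1 : q ∣ 2 ^ 2 := by
      have : q ∣ q ^ (n : ℕ) := dvd_pow_self q n.ne_zero
      rw [← hn] at this
      exact this
    have h2 : q = 2 := (Nat.prime_dvd_prime_iff_eq hqp Nat.prime_two).1 (hqp.dvd_of_dvd_pow h1)
    rwa [← h2]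
  let _ : Algebra (ZMod 2) K := ZMod.algebra K 2
  have hfin : Module.Finite (ZMod 2) K := Module.Finite.of_finite
  have halg : Algebra.IsAlgebraic (ZMod 2) K := Algebra.IsAlgebraic.of_finite (ZMod 2) K
  let f : K →ₐ[ZMod 2] AlgebraicClosure (ZMod 2) := IsAlgClosed.lift
  have hk : Cfsg.Agent.BpExc.TowChev.LocFin (AlgebraicClosure (ZMod 2)) :=
    Cfsg.Agent.BpExc.TowChev.locFin_of_isAlgebraic 2 _
  exact Cfsg.Agent.H897.Fin.main hK hk (f : K →+* AlgebraicClosure (ZMod 2)) hp h5 hP hP1

end Cfsg.Agent.S5740
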