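import Cfsg.Statements.S5749
import Cfsg.Agent.R2.H14.E11.Fin
set_option linter.all false

set_option autoImplicit false
open Cfsg

namespace Cfsg.Agent.S5749

/-- Let G be the Chevalley group of type E₆ over a finite field of characteristic p. Then no maximal subgroup H of G has generalised Fitting subgroup isomorphic to PSL₂(p^a) (a ≥ 1, the same prime p). -/
theorem result {F : Type*} [Field F] [Fintype F] (p : ℕ) [Fact p.Prime] [CharP F p]
    (H : Subgroup (Cfsg.Lie.chevE6.group F)) (hH : IsCoatom H)
    {K : Type*} [Field K] [Fintype K] (a : ℕ) (ha : 1 ≤ a) (hK : Fintype.card K = p ^ a) :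
    IsEmpty (Cfsg.generalizedFittingSubgroup H ≃* Matrix.ProjectiveSpecialLinearGroup (Fin 2) K) := by
  exact Cfsg.Agent.R2.H8.Core.e6_of_rest p H hH a ha hK fun _ _ _ _ h => Cfsg.Agent.R2.H14.E11X.rest11 h

end Cfsg.Agent.S5749
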