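import Cfsg.Agent.ChevStructure.PosUnip
import Cfsg.Agent.ChevalleyStructure.Elts
import Cfsg.Agent.S1095
import Cfsg.Prelude.Def_ChevStructure
import Cfsg.Prelude.Def_ChevE8
import Cfsg.Agent.ChevalleyStructure.NConj
import Cfsg.Agent.S1025
import Mathlib
import Cfsg.Agent.LieExceptional.BNPairCore
import Cfsg.Agent.S1042
import Cfsg.Statements.S5751
import Cfsg.Agent.S1054
set_option linter.all false

-- part: H899/ChevLv
section
/-!
Level functions on the coordinates of a tabulated Chevalley datum: constant on the Cartan part, given by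
`m : ℕ → ℕ` on the roots.
-/

set_option autoImplicit false

namespace Cfsg.Agent.H899.ChevLv

open Cfsg.Lie Cfsg.Agent.ChevStructure.Level Cfsg.Agent.ChevalleyStructure.Elts

/-- The level function with value `off` on the Cartan part and `m s` on the root `s`. -/
def lv (D : ChevalleyDatum) (off : ℕ) (m : ℕ → ℕ) : D.Idx → ℕ
  | Sum.inl _ => off
  | Sum.inr s => m s.val

variable {D : ChevalleyDatum} {F : Type*} [Field F] {off : ℕ} {m : ℕ → ℕ}

@[simp] theorem lv_inl (i : Fin D.rank) : lv D off m (Sum.inl i) = off := rfl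
@[simp] theorem lv_inr (s : Fin D.nroots) : lv D off m (Sum.inr s) = m s.val := rfl

/-- `x_r(t) - 1` raises the level by `a`. -/
theorem raises_xMat {r : ℕ} (hr : r < D.nroots) {a : ℕ} (h1 : m r = off + a)
    (h2 : m (D.negIdx.getD r 0) + a = off)
    (h3 : ∀ e ∈ (D.chain.getD r #[]).toList, ∀ q ∈ e.2.toList, m e.1 + a ≤ m q.1) (t : F) :
    Raises (lv D off m) a (D.xMat F ⟨r, hr⟩ t - 1) := by
  intro row col hne
  rw [Matrix.sub_apply] at hne
  have hxm : D.xMat F ⟨r, hr⟩ t row col ≠ (1 : Matrix D.Idx D.Idx F) row col :=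
    fun h => hne (by rw [h, sub_self])
  clear hne
  rcases col with i | s
  · rcases row with i' | u
    · exfalso
      apply hxm
      show (if i' = i then (1 : F) else 0) = _
      rw [Matrix.one_apply]
      by_cases h : i' = i
      · rw [if_pos h, if_pos (by rw [h])]
      · rw [if_neg h, if_neg (fun h' => h (Sum.inl_injective h'))]
    · show off + a ≤ m u.val
      by_cases hu : u = ⟨r, hr⟩
      · subst hu
        show off + a ≤ m r
        omega
      · exfalso
        apply hxm
        show (if u = ⟨r, hr⟩ then _ else (0 : F)) = _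
        rw [if_neg hu, Matrix.one_apply, if_neg (by simp)]
  · by_cases hs : s = ⟨r, hr⟩
    · exfalso
      apply hxm
      subst hs
      rcases row with i | u
      · show (if (⟨r, hr⟩ : Fin D.nroots) = ⟨r, hr⟩ then (0 : F) else _) = _
        rw [if_pos rfl, Matrix.one_apply, if_neg (by simp)]
      · show (if (⟨r, hr⟩ : Fin D.nroots) = ⟨r, hr⟩ then (if u = ⟨r, hr⟩ then (1 : F) else 0)
          else _) = _
        rw [if_pos rfl, Matrix.one_apply]
        by_cases hu : u = ⟨r, hr⟩
        · rw [if_pos hu, if_pos (by rw [hu])]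
        · rw [if_neg hu, if_neg (fun h' => hu (Sum.inr_injective h'))]
    · by_cases hs' : s.val = D.negIdx.getD r 0
      · rcases row with i | u
        · show m s.val + a ≤ off
          rw [hs']
          omega
        · show m s.val + a ≤ m u.val
          by_cases hu : u = s
          · exfalso
            apply hxm
            show (if s = ⟨r, hr⟩ then (if u = ⟨r, hr⟩ then (1 : F) else 0)
              else if s.val = D.negIdx.getD r 0 then (if u = s then (1 : F) else _) else _) = _
            rw [if_neg hs, if_pos hs', if_pos hu, Matrix.one_apply, if_pos (by rw [hu])]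
          · by_cases hu' : u = ⟨r, hr⟩
            · subst hu'
              show m s.val + a ≤ m r
              rw [hs']
              omega
            · exfalso
              apply hxm
              show (if s = ⟨r, hr⟩ then (if u = ⟨r, hr⟩ then (1 : F) else 0)
                else if s.val = D.negIdx.getD r 0 then
                  (if u = s then (1 : F) else if u = ⟨r, hr⟩ then -(t ^ 2) else 0) else _) = _
              rw [if_neg hs, if_pos hs', if_neg hu, if_neg hu', Matrix.one_apply,
                if_neg (fun h' => hu (Sum.inr_injective h'))]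
      · rcases row with i | u
        · exfalso
          apply hxm
          show (if s = ⟨r, hr⟩ then (0 : F) else if s.val = D.negIdx.getD r 0 then _ else (0 : F))
            = _
          rw [if_neg hs, if_neg hs', Matrix.one_apply, if_neg (by simp)]
        · show m s.val + a ≤ m u.val
          have hne : D.chainCoeff r s.val u.val ≠ [] := by
            intro hnil
            apply hxm
            show (if s = ⟨r, hr⟩ then (if u = ⟨r, hr⟩ then (1 : F) else 0)
                else if s.val = D.negIdx.getD r 0 then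
                  (if u = s then (1 : F) else if u = ⟨r, hr⟩ then -(t ^ 2) else 0) else
                  (if u = s then (1 : F) else 0) +
                    ((D.chainCoeff r s.val u.val).map fun km => ((km.2 : ℤ) : F) * t ^ km.1).sum)
                    = _
            rw [if_neg hs, if_neg hs', hnil, List.map_nil, List.sum_nil, add_zero,
              Matrix.one_apply]
            by_cases hu : u = s
            · rw [if_pos hu, if_pos (by rw [hu])]
            · rw [if_neg hu, if_neg (fun h' => hu (Sum.inr_injective h'))]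
          obtain ⟨km, hkm⟩ := List.exists_mem_of_ne_nil _ hne
          rw [Cfsg.Agent.ChevStructure.PosUnip.chainCoeff_def, List.mem_flatMap] at hkm
          obtain ⟨e, he, hkm⟩ := hkm
          rw [List.mem_filter] at he
          rw [List.mem_map] at hkm
          obtain ⟨q, hq, -⟩ := hkm
          rw [List.mem_filter] at hq
          have h4 := h3 e he.1 q.1 (List.fst_mem_of_mem_zipIdx hq.1)
          have h5 : e.1 = s := by simpa using he.2
          have h6 : q.1.1 = u := by simpa using hq.2
          rw [← h5, ← h6]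
          exact h4

/-- The level data of the root `r` for `(off, m)`: `x_r(t) - 1` raises the level by `a`. -/
structure Up (D : ChevalleyDatum) (off : ℕ) (m : ℕ → ℕ) (r a : ℕ) : Prop where
  root : m r = off + a
  neg : m (D.negIdx.getD r 0) + a = off
  chain : ∀ e ∈ (D.chain.getD r #[]).toList, ∀ q ∈ e.2.toList, m e.1 + a ≤ m q.1

theorem Up.raises {r a : ℕ} (hr : r < D.nroots) (h : Up D off m r a) (t : F) :
    Raises (lv D off m) a (D.x F r t - 1) := by
  rw [x_of_lt hr]
  exact raises_xMat hr h.root h.neg h.chain t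

theorem Up.raises_zero {r a : ℕ} (hr : r < D.nroots) (h : Up D off m r a) (t : F) :
    Raises (lv D off m) 0 (D.x F r t) := by
  have h1 : Raises (lv D off m) 0 (D.x F r t - 1) := Raises.mono (h.raises hr t) (Nat.zero_le _)
  have h2 := h1.add raises_one
  rwa [sub_add_cancel] at h2

/-- The entry of `x_r(t)` at `(β, h_i)`. -/
theorem x_entry {r : ℕ} (hr : r < D.nroots) (t : F) (β : Fin D.nroots) (i : Fin D.rank) :
    D.x F r t (Sum.inr β) (Sum.inl i) =
      if β.val = r then - ((D.cartan i r : ℤ) : F) * t else 0 := by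
  rw [x_of_lt hr]
  show (if β = ⟨r, hr⟩ then _ else (0 : F)) = _
  by_cases h : β = ⟨r, hr⟩
  · rw [if_pos h, if_pos (by rw [h])]
    rfl
  · rw [if_neg h, if_neg (fun h' => h (Fin.ext h'))]

/-! ### The monomial pattern of `n_p` -/

theorem nMat_pattern (hD : InList D) {i : ℕ} (hi : i < D.rank) {row col : D.Idx}
    (h : D.nMat F (D.simple i) 1 row col ≠ 0) :
    lv D off m row = lv D off (fun s => m (D.reflectRoot i s)) col := by
  obtain ⟨η, -, -, -, -, h5⟩ := S1095.result (F := F) D hD i hi
  rw [h5] at h
  rcases row with j' | s' <;> rcases col with j | s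
  · rfl
  · exact absurd rfl h
  · exact absurd rfl h
  · show m s'.val = m (D.reflectRoot i s.val)
    by_cases hs : (s' : ℕ) = D.reflectRoot i s
    · rw [hs]
    · exfalso
      apply h
      show (if (s' : ℕ) = D.reflectRoot i s then ((η s : ℤ) : F) else 0) = 0
      rw [if_neg hs]

/-- Conjugating by `n_p` a matrix raising the level `m` gives one raising `m ∘ w_p`
(`N`, `N'` matrices with the pattern of `n_p`). -/
theorem raises_conj (hD : InList D) {i : ℕ} (hi : i < D.rank) {k : ℕ} {X : Matrix D.Idx D.Idx F}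
    (hinv : ∀ s < D.nroots, m (D.reflectRoot i (D.reflectRoot i s)) = m s)
    (hX : Raises (lv D off m) k X) :
    Raises (lv D off (fun s => m (D.reflectRoot i s))) k
      (D.nMat F (D.simple i) 1 * X * D.nMat F (D.simple i) 1) := by
  intro a b h
  rw [Matrix.mul_apply] at h
  obtain ⟨d, -, hd⟩ := Finset.exists_ne_zero_of_sum_ne_zero h
  have h1 := left_ne_zero_of_mul hd
  have h2 := right_ne_zero_of_mul hd
  rw [Matrix.mul_apply] at h1
  obtain ⟨c, -, hc⟩ := Finset.exists_ne_zero_of_sum_ne_zero h1
  have h3 := left_ne_zero_of_mul hc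
  have h4 := right_ne_zero_of_mul hc
  have h5 := hX c d h4
  have h6 := nMat_pattern (off := off) (m := m) hD hi h2
  have h7 := nMat_pattern (off := off) (m := fun s => m (D.reflectRoot i s)) hD hi h3
  have h8 : lv D off (fun s => m (D.reflectRoot i (D.reflectRoot i s))) c = lv D off m c := by
    rcases c with j | s
    · rfl
    · exact hinv s.val s.2
  have h9 : lv D off (fun s => m (D.reflectRoot i s)) a = lv D off m c := by rw [h7]; exact h8
  rw [h9, ← h6]
  exact h5

theorem lv_congr {m m' : ℕ → ℕ} (h : ∀ s < D.nroots, m s = m' s) : lv D off m = lv D off m' := by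
  funext x
  rcases x with i | s
  · rfl
  · exact h s.val s.2

end Cfsg.Agent.H899.ChevLv
end

-- part: H899/E8Tab
section
/-!
Tables for the maximal parabolic subgroup of type `A₁A₂A₄` (branch node) of `E₈`, and kernel checks.
-/

set_option autoImplicit false

namespace Cfsg.Agent.H899.E8Tab

open Cfsg.Lie

/-- level (coefficient on the branch node) plus 6, 8 bits per root -/
def levT : ℕ := 0xc0c0c0c0c0b0b0b0b0a0a0a0a0a0b0b0a0a0a0a0a0a0a0a0a0a09090909090909090909090909090909090909090808080808080808080808080808080808080808070707070707070707070606080808080808080808080707070707070707070706070707070706070707070706060606060606060606060606060606060606060505050505060505050505060505050505050505050504040404040404040404060605050505050505050505040404040404040404040404040404040404040403030303030303030303030303030303030303030202020202020202020201010202020202010101010000000000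
/-- generic height refining the level, plus 4000, 16 bits per root -/
def lamT : ℕ := 0x1c211c141c091bfb1bef19fb19f919f719f5180117f517e717dc17cf19f619f217fe17f217e417d917cc17fc17f017e217d717ca15fc15ee15e315d615e215d715ca15c915bc15b115f815ea15df15d215de15d315c615c515b815ad13ea13df13d213d113c413b913c513b813ad139f13e813dd13d013cf13c213b713c313b613ab139d11cf11c211b711a9119d11cb11be11b311a511990fa50fa313e513da13cd13cc13bf13b413c013b313a8139a11cc11bf11b411a6119a11ca11bd11b211a411980fa411c811bb11b011a211960fa211c611b911ae11a011940fd20fc50fba0fac0fc60fb90fae0fb80fab0fad0f930f950f880f920f870f7a0f940f860f7b0f6e0dac0da00d920d870d7a0f9e0daa0d9e0d900d850d780f9c0da80d9c0d8e0d830d760da60d9a0d8c0d810d740ba60b980b8d0b800b8c0b810b740b730b660b5b0f9d0f9b0da70d9b0d8d0d820d750da30d970d890d7e0d710ba30b950b8a0b7d0b890b7e0b710b700b630b580ba10b930b880b7b0b870b7c0b6f0b6e0b610b5609930988097b097a096d0962096e096109560948098f0984097709760969095e096a095d0952094407760769075e0750074407740767075c074e0742054e054a077107640759074b073f054b054905470545035103450337032c031f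
/-- reflections, 8 bits per root -/
def reflT : List ℕ := [
  0xefeeedecebeae1e8e0dfdedddcdbe9e7e6e5e4e3e2dad9d8d7d6d5d4d3d2d1d0cfcecdcccbcac9c8c7c6c5c4c3c2c1c0bfbebdbcbbbab9b8a1a09f9e9d9c9b9a999897969594938c8b8a8988874db7b6b5b4b3b2b1b0afaeadacabaaa99291908f8e8da8a7a6a5a4a3868584838281807f7e7d7c7b7a797877767574737271706f6e6d6c6b6a694c4b4a4948476261605f5e5d464544434241403f3e3d3c3b3a3938a26867666564635c5b5a595857565554535251504f4e37363534333231302f2e2d2c2b2a292827262524232221201f1e1d1c1b1a19181716150d0c0b0a09080614131211100f070e050403020100,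
  0xefeeedecebe8e7eae9e6e5e4e3e2e0e1dfdedddcdbdad9d8d7d6cbcac9c8c7c6c5c4c3c2d5d4d3d2d1d0cfcecdccc1c0bfbebdbcbbbab9b8b7b6b5b4b3b2b1b0afaea8a7a6a5a4adacabaaa9a3a2a1a09f9e9d9c9b9a99988c8b8a89888685848382629796959493879291908f8e81807f7e7d7c7b7a797877767574737271706f6e61605f5e5d685c5b5a59588d6d6c6b6a69676665646357565554535251504f4e4d4c46454443424b4a49484741403f3e3d3c3b3a393837363534333231302f2e232221201f1e1d1c1b1a2d2c2b2a292827262524191817161514131211100e0f0d0c0b0a09060508070403020100,
  0xefeeedecebe9eae7e8e6e5e4e3e2e1e0dad9d8d7d6dfdedddcdbd5d4d3d2d1d0cfcecdcccbcac9c8c7c6c5c4c3c2b7b6b5b4b3b2b1b0afaec1c0bfbebdbcbbbab9b8adacabaaa9a8a7a6a5a4a2a3a1a09f9e9d9c9b9a99989291908f8e97969594938d8685848382688c8b8a898881807f7e7d7c7b7a797877767574737271706f6e6766656463876d6c6b6a69625c5b5a595861605f5e5d57565554535251504f4e4c4d4b4a494847464544434237363534333231302f2e41403f3e3d3c3b3a39382d2c2b2a292827262524232221201f1e1d1c1b1a141312111019181716150f0e0d0c0b0a09070805060403020100,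
  0xefeeedeceaebe9e8e6e7e5e4e3e2e1dfe0dedddcdbdad5d4d3d2d9d8d7d6d1d0cfcecdcccbcac9c8c1c0bfbebdbcc7c6c5c4c3c2bbbab9b8b7b6b5b4b3b2adacabaab1b0afaea9a8a7a6a5a3a4a2a1a09f9e9d9c979695949b9a9998939291908f8d8e8c8b8a89878881807f7e6d868584837d7c7b7a79787776757473726c6b6a698271706f6e6768666564636162605f5e5d5c575655545b5a5958535251504f4e4d4b4c4a4948474641403f3e454443423d3c3b3a3938373635342d2c2b2a2928333231302f2e27262524232221201f1e191817161d1c1b1a15141312110f100e0d0c0b0a08090706040503020100,
  0xefeeedebeceae9e8e7e5e6e4e3e2e1e0dedfdddcdbd9dad8d7d6d5d1d0cfd4d3d2cecdcccbc7c6c5cac9c8c4c3c2c1c0bfbbbab9bebdbcb8b7b6b5b1b0afb4b3b2aeadacaba9aaa8a7a6a4a5a3a2a1a09f9b9a999e9d9c9897969593949291908e8f8d8c8b8a88898786858482837d7c7b7181807f7a7978777675706f6e7e7473726c6d6b6a696866676564636260615f5e5d5b5c5a595857535251565554504f4e4d4c4a4b4948474546444342413d3c3b403f3e3a393837333231363534302f2e2d2c2b2726252a2928242322211d1c1b201f1e1a191817151614131210110f0e0d0c0b090a080706050304020100,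
  0xefeeecedebeae9e8e7e6e4e5e3e2e1e0dfdddedcdbdad8d9d7d6d4d5d3d2d1cecdd0cfcccacbc9c8c7c4c3c6c5c2c1bebdc0bfbcbbbab8b9b7b4b3b6b5b2b1b0aeafadacaaaba9a8a7a5a6a4a3a2a19e9da09f9c9b9a9899979694959392918f908e8d8c8b898a8887868583848281807e7f7a79747d7c787773727b767570716f6e6d6b6c6a6968676566646362615f605e5d5c5a5b59585657555453504f52514e4d4c4b494a4847464445434240413f3e3d3a393c3b383637353433302f32312e2d2a292c2b282726242523201f22211e1d1c1a1b191816171514131112100f0e0d0c0a0b09080706050402030100,
  0xefedeeecebeae9e8e7e6e5e3e4e2e1e0dfdedcdddbdad9d7d8d6d5d3d4d2d0d1cfcecccdcbc9cac8c6c7c5c4c2c3c0c1bfbebcbdbbb9bab8b6b7b5b4b2b3b1afb0aeadabacaaa9a8a6a7a5a4a3a2a0a19f9e9c9d9b999a9897959694939290918f8e8d8c8a8b8988878684858382817f807e7d7b7c78767a757977737472716f706e6d6c6a6b696867666465636261605e5f5d5c5b595a5857555654525351504e4f4d4c4b4a4849474645434442413f403e3c3d3b3a383937353634323331302e2f2c2d2b2a282927252624222321201e1f1d1b1c1a191718161514121311100f0e0d0b0c0a09080706050403010200,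
  0xeeefedecebeae9e8e7e6e5e4e2e3e1e0dfdedddbdcdad9d8d6d7d5d4d2d3d1cfd0cdcecccbcac8c9c7c5c6c3c4c2c1bfc0bdbebcbabbb9b8b7b5b6b3b4b2b0b1afaeacadabaaa9a7a8a6a5a4a3a2a19fa09d9e9c9a9b999896979594939192908f8e8d8b8c8a898887858684838280817f7e7c7d7b797a7778757674727371706e6f6d6c6b696a6867666563646261605f5d5e5c5b5a5859575654555351524f504e4d4c4b4a494748464544424341403e3f3d3b3c393a38373634353331322f302e2d2b2c292a28262725242321221f201e1c1d1b1a181917161513141211100f0e0c0d0b0a09080706050403020001]
/-- the level functions `lev ∘ w₃ ∘ w` (`w` in the Levi Weyl group), 8 bits per root -/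
def rowT : List ℕ := [
  0xc0c0c0c0b0c0b0b0a0b0a0a0a0a0b0a0b0a0a0a0a0a090909090a0a0a0a090909090909090909090808080808080909090909090808080808080808080807070707080808080707070707060706080808080808070707070808080807070707070607070707070607060606060507070707060606060606060606060606050505050706060606050605050505050605050505050404040405050505040404040404060506050505050504040404050505050404040404040404040403030303030304040404040403030303030303030303020202020303030302020202020102010202020201020101000100000000,
  0xc0c0c0c0b0b0a0c0b0b0a0a0a0a0a0b0b0a0a0a0a0a09090909090909090808080808080a0a0a0a0909090909090909090909090808080808080808080807070707070707070608080808070706080808080808070707070707070706060606060505080808080707070707070607070707060606060606060606060606050505050605050505050504040404070706060606060505050505050505040404040404060505040404040605050505050505050404040404040404040403030303030303030303030302020202040404040404030303030303030302020202020101020202020201010002010100000000,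
  0xc0c0c0c0b0b0c0a0b0b0a0a0a0a0b0a0a090909090b0a0a0a0a0a0a0a0a090909090909090909090808080808080808080808080707070709090909090908080808080808080707070707060607080808080808070707070707070706080808080707060606060505070707070607070707060606060606060606060606050505050605050505070706060606050504040404060505050505050505040404040404050606050505050504040404040404040303030303030505050504040404040404040404040403030303030303030303020202020202020201030303030202010202020201010200010100000000,
  0xc0c0c0b0c0c0b0b0a0a0b0a0a0a0b0a0a0b0a0a0a090a0909090a0909090a0a0a090909090808080909090808080909090808080909090808080807070708080807080808070807070706070706080808070707080808070808080708070707060707070707060707060606050606060605070707060606060606050505070606060607060606050506050505050506050505040504040405040404050505040404060505060505050405040404050404040505050404040403030304040403030304040403030304040403030303020202030303020303030203020202010202010202020102020101000001000000,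
  0xc0c0c0c0b0a0b0b0c0b0a0a0a0a0a0b0a090909090b0a0a0a0a090909090808080808080a0a0a0a0909090909090808080808080707070709090909090908080808070707070608080808070607080808080808070707070606060605070707070605070707070605080808080707070707060606060606060606060606050505050504040404070605050505070605050505070606060605050505040404040404050605040404040605050505040404040303030303030505050504040404040403030303030302020202040404040404030303030202020201030303030201020202020201000101020100000000,
  0xc0c0c0b0c0b0a0c0b0a0b0a0a0a0a0b0a0b0a0a0a090a090909090808080909090808080a0909090a0a0a0909090909090808080909090808080807070708080807070707060708080807080706080808070707080808070707070607060606050605080808070807070707060706060605070707060606060606050505070606060506050505050405040404070607060606050605050505040404050505040404060504050404040506050505050404040505050404040403030304040403030303030302020203030302040404030303040404030303030203020202010201020202020102010002010001000000,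
  0xc0c0c0c0b0b0b0a0a0a090909090c0b0b0a0a0a0a0b0a0a0a0a0a0a0a0a090909090909090909090808080808080808080808080707070708080808080807070707070707070606060606050505090909090909080808080808080807080808080707070707070606070707070607070707060606060606060606060606050505050605050505060605050505050504040404050404040404040404030303030303070707060606060605050505050505050404040404040505050504040404040404040404040403030303030303030303020202020202020201020202020101000303030302020201010100000000,
  0xc0c0c0b0c0b0c0a0b0a0b0a0a0a0b0a090a0909090a0b0a0a0a0a0909090a0a0a090909090808080909090808080808080707070808080709090908080809090908080808070807070706070607080808070707080808070707070607080808070807060606050605070707060706060605070707060606060606050505070606060506050505070607060606050405040404050605050505040404050505040404050605060505050405040404040303030404040303030504040405050504040404040403030304040403030303020202030303020202020102030303020302010202020102010200010001000000,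
  0xc0c0b0c0c0c0b0b0a0a0a0b0a0a0b0a0a0a0b0a0a09090a0909090a09090a09090a0a09080908080908080909080908080909080909080908070708080708080708080807080807070607070706080707080807080807080808070808070706070707070706070707060605060606060506060605070706060505070606060706060606070606050505060505050505060505040405040404050404050404050504060505050605050404050404040504040504040505040304030304030304040304030304040304040304030202030302030302030303020303020201020202010202010202020101000000010000,
  0xc0c0c0c0b0a0a0b0b0a090909090b0c0b0a0a0a0a0b0a0a0a0a090909090808080808080a0a0a0a0909090909090808080808080707070708080808080807070707060606060507070707060505090909090909080808080707070706070707070605080808080706080808080707070707060606060606060606060606050505050504040404060504040404070605050505060505050504040404030303030303070706050505050706060606050505050404040404040505050504040404040403030303030302020202040404040404030303030202020201020202020100010303030302010102020100000000,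
  0xc0c0c0b0c0a0b0b0c0a0b0a0a0a0a0b090a0909090a0b0a0a0a090808080909090808080a0909090a0a0a0909090808080707070808080709090908080809090908070707060708080807080607080808070707080808070606060506070707060705070707060705080808070806060605070707060606060606050505070606060405040404070506050505070506050505060706060605040404050505040404050604050404040506050505040303030404040303030504040405050504040403030302020203030302040404030303040404030202020102030303020301020202020102000101020001000000,
  0xc0c0b0c0c0b0a0c0b0a0a0b0a0a0a0b0a0a0b0a0a09090a090908090808090808090908090a09090a09090a0a090908080909080909080908070708080708080708070706070708080708080706080707080807080807080707060707060605060605080807080807070706070706060506060605070706060505070606060706060505060505050404050404070606070606050506050504050404050404050504060504040504040505060505040504040504040505040304030304030304040303020203030203030203040303040403040403040303020303020201020201020202010202010002010000010000,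
  0xc0c0c0b0c0b0b0a0a090a0909090c0b0a0b0a0a0a0a0b0a0a0a0a0909090a0a0a090909090808080909090808080808080707070808080708080807070708080807070707060706060605060505090909080808090909080808080708080808070807070707060706070707060706060605070707060606060606050505070606060506050505060506050505050405040404040504040404030303040404030303070706070606060506050505050404040505050404040504040405050504040404040403030304040403030303020202030303020202020102020202010201000303030203020201010001000000,
  0xc0c0b0c0c0b0c0a0b0a0a0b0a0a0b0a09090a09090a0a0b0a0a090a09090a09090a0a09080908080908080909080807070808070808070809080809090809090809080807080807070607070607080707080807080807080707060707080807080807060605060605070706070706060506060605070706060505070606060706060505060505070606070606050404050404050506050504050404050404050504050605050605050404050404030403030403030404030405040405040405050404030304040304040304030202030302030302030202010202030302030302010202010202010200010000010000,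
  0xc0b0c0c0c0c0b0b0a0a0a0a0b0a0b0a0a0a0a0b0a0909090a0909090a09090a090a090a080809080809080908090809080908090908090907080708070808070808080708080807060707070706070807080708080708080807080808070607070707070607070707060506060606050606060506060507050706060706060607060606060706050505050605050505050605040404050404040504040504050405060505050506050404040504040405040405040504050303040303040304030403040304030404030404020302030203030203030302030303020102020202010201020202020101000000000100,
  0xc0c0c0b0c0a0a0b0b090a0909090b0c0a0b0a0a0a0a0b0a0a0a090808080909090808080a0909090a0a0a0909090808080707070808080708080807070708080807060606050607070706070505090909080808090909080707070607070707060705080808070806080808070806060605070707060606060606050505070606060405040404060405040404070506050505050605050504030303040404030303070705060505050607060606050404040505050404040504040405050504040403030302020203030302040404030303040404030202020102020202010200010303030203010102020001000000,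
  0xc0c0b0c0c0a0b0b0c0a0a0b0a0a0a0b09090a09090a0a0b0a0a08090808090808090908090a09090a09090a0a090807070808070808070809080809090809090809070706070708080708080607080707080807080807080606050606070706070705070706070705080807080806060506060605070706060505070606060706060404050404070505060505070505060505060607060604050404050404050504050604040504040505060505030403030403030404030405040405040405050403020203030203030203040303040403040403040202010202030302030301020202010202000101020000010000,
  0xc0b0c0c0c0b0a0c0b0a0a0a0b0a0a0b0a0a0a0b0a0909090a090808090808090809080909090a09090a090a090a0809080908090908090907080708070808070808070607070708070808080706070807080708080708080706070707060506060605080708080807070607070706050606060506060507050706060706060607060505050605050404040504070606060706050505060504040504040504050405060504040405040505050605040405040405040504050303040303040304030402030203020303020303030403040304040304040302030303020102020201020201020202010002010000000100,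
  0xc0c0b0c0c0b0b0a0a09090a09090c0b0a0a0b0a0a0a0a0b0a0a090a09090a09090a0a09080908080908080909080807070808070808070808070708080708080708070706070706060506060505090808090908090908090808070808080807080807070706070706070706070706060506060605070706060505070606060706060505060505060505060505050404050404040405040403040303040303040403070706060706060505060505040504040504040505040405040405040405050404030304040304040304030202030302030302030202010202020201020201000303020303020201010000010000,
  0xc0b0c0c0c0b0c0a0b0a0a0a0b0a0b0a0909090a090a0a0a0b0a09090a09090a090a090a080809080809080908090708070807080807080808090809080909080909080708080807060707070607070807080708080708080706070707080708080807060506060605070607070706050606060506060507050706060706060607060505050605070606060706050404040504050505060504040504040504050405050605050506050404040504030304030304030403040404050404050405040503040304030404030404020302030203030203030201020202030203030302010201020202010200010000000100,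
  0xb0c0c0c0c0c0b0b0a0a0a0a0a0b0b0a0a0a0a0a0b090909090a0909090a09090a090a0a080808090808090809090808090809090809090907070807080807080808070808080806070707070706070708070808070808080708080808060707070707060707070707050606060605060606050606050605070607060607060606070606060607050505050506050505050506040404040504040405040405040505060505050505060404040405040404050404050405050303030403030403040403030403040403040404020203020303020303030203030303010202020202010102020202020101000000000001,
  0xc0c0b0c0c0a0a0b0b09090a09090b0c0a0a0b0a0a0a0a0b0a0a08090808090808090908090a09090a09090a0a090807070808070808070808070708080708080708060605060607070607070505090808090908090908090707060707070706070705080807080806080807080806060506060605070706060505070606060706060404050404060404050404070505060505050506050503040303040303040403070705050605050606070606040504040504040505040405040405040405050403020203030203030203040303040403040403040202010202020201020200010303020303010102020000010000,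
  0xc0b0c0c0c0a0b0b0c0a0a0a0b0a0a0b0909090a090a0a0a0b0a0808090808090809080909090a09090a090a090a0708070807080807080808090809080909080909070607070708070808080607070807080708080708080605060606070607070705070607070705080708080806050606060506060507050706060706060607060404040504070505050605070505050605060606070604040504040504050405050604040405040505050605030304030304030403040404050404050405040502030203020303020303030403040304040304040201020202030203030301020201020202000101020000000100,
  0xb0c0c0c0c0b0a0c0b0a0a0a0a0b0a0b0a0a0a0a0b090909090a080808090808090809090909090a09090a090a0a0808090809090809090907070807080807080808060707070707080808080706070708070808070808080607070707050606060605070808080807060707070705060606050606050605070607060607060606070505050506050404040405070606060607050505050604040405040405040505060504040404050505050506040404050404050405050303030403030403040402020302030302030303030304030404030404040203030303010202020201020102020202010002010000000001,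
  0xc0b0c0c0c0b0b0a0a0909090a090c0b0a0a0a0b0a0a0a0a0b0a09090a09090a090a090a080809080809080908090708070807080807080807080708070808070808070607070706050606060505080908090809090809090807080808080708080807070607070706070607070706050606060506060507050706060706060607060505050605060505050605050404040504040404050403030403030403040304070706060607060505050605040405040405040504050404050404050405040503040304030404030404020302030203030203030201020202020102020201000302030303020201010000000100,
  0xb0c0c0c0c0b0c0a0b0a0a0a0a0b0b0a090909090a0a0a0a0a0b0909090a09090a090a0a080808090808090809090707080708080708080808080908090908090909070808080806070707070607070708070808070808080607070707070808080807050606060605060707070705060606050606050605070607060607060606070505050506070606060607050404040405050505050604040405040405040505050605050505060404040405030303040303040304040404040504040504050503030403040403040404020203020303020303030102020202020303030302010102020202010200010000000001,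
  0xc0b0c0c0c0a0a0b0b0909090a090b0c0a0a0a0b0a0a0a0a0b0a0808090808090809080909090a09090a090a090a0708070807080807080807080708070808070808060506060607060707070505080908090809090809090706070707070607070705080708080806080708080806050606060506060507050706060706060607060404040504060404040504070505050605050505060503030403030403040304070705050506050606060706040405040405040504050404050404050405040502030203020303020303030403040304040304040201020202020102020200010302030303010102020000000100,
  0xb0c0c0c0c0a0b0b0c0a0a0a0a0b0a0b090909090a0a0a0a0a0b080808090808090809090909090a09090a090a0a0707080708080708080808080908090908090909060707070707080808080607070708070808070808080506060606060707070705060707070705070808080805060606050606050605070607060607060606070404040405070505050506070505050506060606060704040405040405040505050604040404050505050506030303040303040304040404040504040504050502020302030302030303030304030404030404040102020202020303030301020102020202000101020000000001,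
  0xb0c0c0c0c0b0b0a0a090909090a0c0b0a0a0a0a0b0a0a0a0a0b0909090a09090a090a0a080808090808090809090707080708080708080807070807080807080808060707070705060606060505080809080909080909090708080808070808080807060707070706060707070705060606050606050605070607060607060606070505050506060505050506050404040405040404040503030304030304030404070706060606070505050506040404050404050405050404040504040504050503030403040403040404020203020303020303030102020202010202020201000203030303020201010000000001,
  0xb0c0c0c0c0a0a0b0b090909090a0b0c0a0a0a0a0b0a0a0a0a0b080808090808090809090909090a09090a090a0a0707080708080708080807070807080807080808050606060606070707070505080809080909080909090607070707060707070705070808080806070808080805060606050606050605070607060607060606070404040405060404040405070505050506050505050603030304030304030404070705050505060606060607040404050404050405050404040504040504050502020302030302030303030304030404030404040102020202010202020200010203030303010102020000000001]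
/-- (parent, reflection) for the rows after the first -/
def rowP : List (ℕ × ℕ) := [
  (0, 3), (0, 1), (0, 2), (0, 4), (1, 2), (1, 4), (2, 0), (2, 4), (3, 5), (4, 0), (4, 4), (5, 5), (6, 4), (7, 5), (8, 6), (9, 4), (10, 5), (11, 6), (12, 5), (13, 6), (14, 7), (15, 5), (16, 6), (17, 7), (18, 6), (19, 7), (21, 6), (22, 7), (24, 7), (26, 7)]

def get8 (T s : ℕ) : ℕ := (T >>> (8 * s)) % 256
def get16 (T s : ℕ) : ℕ := (T >>> (16 * s)) % 65536

def lev (s : ℕ) : ℕ := get8 levT s
def lam (s : ℕ) : ℕ := get16 lamT s
def refl (j s : ℕ) : ℕ := get8 (reflT.getD j 0) s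
def row (k s : ℕ) : ℕ := get8 (rowT.getD k 0) s

/-- `p` holds for all `s < 240` -/
def allR (p : ℕ → Bool) : Bool := (List.range 240).all p

theorem of_allR {p : ℕ → Bool} (h : allR p = true) {s : ℕ} (hs : s < 240) : p s = true :=
  List.all_eq_true.1 h s (List.mem_range.2 hs)

/-! ### signs, negatives -/

theorem rank_eq : chevE8.rank = 8 := rfl
theorem nroots_eq : chevE8.nroots = 240 := rfl

theorem neg_check : allR (fun r => Nat.beq (chevE8.negIdx.getD r 0) (239 - r)) = true := by
  decide +kernel

theorem neg_def (D : ChevalleyDatum) (r : ℕ) : D.neg r = D.negIdx.getD r 0 := rfl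

theorem neg_eq {r : ℕ} (hr : r < 240) : chevE8.neg r = 239 - r := by
  have h := of_allR neg_check hr
  rw [neg_def]
  exact Nat.eq_of_beq_eq_true h

theorem pos_check : allR (fun r => decide (chevE8.IsPosRoot r) == Nat.ble 120 r) = true := by
  decide +kernel

theorem pos_iff {r : ℕ} : chevE8.IsPosRoot r ↔ r < 240 ∧ 120 ≤ r := by
  constructor
  · intro h
    have hr : r < 240 := h.1
    have h1 := of_allR pos_check hr
    rw [decide_eq_true h] at h1
    exact ⟨hr, Nat.le_of_ble_eq_true (by simpa using h1)⟩
  · rintro ⟨hr, h⟩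
    have h1 := of_allR pos_check hr
    have h2 : Nat.ble 120 r = true := Nat.ble_eq_true_of_le h
    rw [h2] at h1
    simpa using h1

/-! ### additivity on the chain tables -/

def addCheck (D : ChevalleyDatum) (m : ℕ → ℕ) (off r : ℕ) : Bool :=
  Nat.beq (m (D.negIdx.getD r 0) + m r) (2 * off) &&
  (D.chain.getD r #[]).toList.all fun e => e.2.toList.all fun q =>
    Nat.beq (m q.1 + off) (m e.1 + m r)

structure Add (D : ChevalleyDatum) (m : ℕ → ℕ) (off r : ℕ) : Prop where
  neg : m (D.negIdx.getD r 0) + m r = 2 * off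
  chain : ∀ e ∈ (D.chain.getD r #[]).toList, ∀ q ∈ e.2.toList, m q.1 + off = m e.1 + m r

theorem add_of_check {D : ChevalleyDatum} {m : ℕ → ℕ} {off r : ℕ} (h : addCheck D m off r = true) :
    Add D m off r := by
  unfold addCheck at h
  rw [Bool.and_eq_true] at h
  refine ⟨Nat.eq_of_beq_eq_true h.1, fun e he q hq => ?_⟩
  have h1 := List.all_eq_true.1 h.2 e he
  exact Nat.eq_of_beq_eq_true (List.all_eq_true.1 h1 q hq)

theorem lev_check : allR (addCheck chevE8 lev 6) = true := by decide +kernel
theorem lam_check : allR (addCheck chevE8 lam 4000) = true := by decide +kernel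

theorem lev_add {r : ℕ} (hr : r < 240) : Add chevE8 lev 6 r := add_of_check (of_allR lev_check hr)
theorem lam_add {r : ℕ} (hr : r < 240) : Add chevE8 lam 4000 r := add_of_check (of_allR lam_check hr)

/-- chain tables: singleton chains; sums of positive roots are positive -/
def chCheck (D : ChevalleyDatum) (r : ℕ) : Bool :=
  (D.chain.getD r #[]).toList.all fun e => Nat.beq e.2.toList.length 1 &&
    e.2.toList.all fun q => Nat.blt q.1 240 && (Nat.blt r 120 || Nat.blt e.1 120 || Nat.ble 120 q.1)

theorem ch_check : allR (chCheck chevE8) = true := by decide +kernel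

theorem ch_spec {D : ChevalleyDatum} (h : allR (chCheck D) = true) {r : ℕ} (hr : r < 240) :
    ∀ e ∈ (D.chain.getD r #[]).toList, e.2.toList.length = 1 ∧ ∀ q ∈ e.2.toList, q.1 < 240 ∧
      (120 ≤ r → 120 ≤ e.1 → 120 ≤ q.1) := by
  intro e he
  have h1 := List.all_eq_true.1 (of_allR h hr) e he
  rw [Bool.and_eq_true] at h1
  refine ⟨Nat.eq_of_beq_eq_true h1.1, fun q hq => ?_⟩
  have h2 := List.all_eq_true.1 h1.2 q hq
  rw [Bool.and_eq_true, Bool.or_eq_true, Bool.or_eq_true, Nat.blt_eq, Nat.blt_eq, Nat.blt_eq,
    Nat.ble_eq] at h2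
  refine ⟨h2.1, fun h3 h4 => ?_⟩
  rcases h2.2 with (h5 | h5) | h5 <;> omega

/-! ### reflections -/

/-- the check of the reflection `j` -/
def rflB (j : ℕ) : Bool := allR fun s =>
    Nat.beq (chevE8.reflectRoot j s) (refl j s) && Nat.blt (refl j s) 240 &&
      Nat.beq (refl j (refl j s)) s && (Nat.beq j 3 || Nat.beq (lev (refl j s)) (lev s))

theorem rflB_0 : rflB 0 = true := by decide +kernel
theorem rflB_1 : rflB 1 = true := by decide +kernel
theorem rflB_2 : rflB 2 = true := by decide +kernel
theorem rflB_3 : rflB 3 = true := by decide +kernel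
theorem rflB_4 : rflB 4 = true := by decide +kernel
theorem rflB_5 : rflB 5 = true := by decide +kernel
theorem rflB_6 : rflB 6 = true := by decide +kernel
theorem rflB_7 : rflB 7 = true := by decide +kernel

theorem refl_check : ((List.range 8).all fun j => allR fun s =>
    Nat.beq (chevE8.reflectRoot j s) (refl j s) && Nat.blt (refl j s) 240 &&
      Nat.beq (refl j (refl j s)) s && (Nat.beq j 3 || Nat.beq (lev (refl j s)) (lev s))) = true := by
  have h : ∀ j ∈ List.range 8, rflB j = true := by
    intro j hj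
    rw [List.mem_range] at hj
    interval_cases j
    exacts [rflB_0, rflB_1, rflB_2, rflB_3, rflB_4, rflB_5, rflB_6, rflB_7]
  exact List.all_eq_true.2 h

theorem refl_spec {j s : ℕ} (hj : j < 8) (hs : s < 240) :
    chevE8.reflectRoot j s = refl j s ∧ refl j s < 240 ∧ refl j (refl j s) = s ∧
      (j ≠ 3 → lev (refl j s) = lev s) := by
  have h1 := List.all_eq_true.1 refl_check j (List.mem_range.2 hj)
  have h2 := of_allR h1 hs
  rw [Bool.and_eq_true, Bool.and_eq_true, Bool.and_eq_true, Bool.or_eq_true] at h2
  refine ⟨Nat.eq_of_beq_eq_true h2.1.1.1, ?_, Nat.eq_of_beq_eq_true h2.1.2, fun hj3 => ?_⟩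
  · have h3 := h2.1.1.2
    rwa [Nat.blt_eq] at h3
  · rcases h2.2 with h3 | h3
    · exact absurd (Nat.eq_of_beq_eq_true h3) hj3
    · exact Nat.eq_of_beq_eq_true h3

theorem refl3_check : (allR fun s =>
    (Nat.blt (lev s) 8 || Nat.ble (lev s) (lev (refl 3 s) + 1)) &&
    (Nat.blt (lev s) 7 || Nat.ble 120 s) && Nat.blt (lev s) 13) = true := by
  decide +kernel

theorem refl3_spec {s : ℕ} (hs : s < 240) :
    (8 ≤ lev s → lev s ≤ lev (refl 3 s) + 1) ∧ (7 ≤ lev s → 120 ≤ s) ∧ lev s < 13 := by
  have h := of_allR refl3_check hs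
  rw [Bool.and_eq_true, Bool.and_eq_true, Bool.or_eq_true, Bool.or_eq_true, Nat.blt_eq, Nat.blt_eq,
    Nat.blt_eq, Nat.ble_eq, Nat.ble_eq] at h
  refine ⟨fun h1 => ?_, fun h1 => ?_, h.2⟩
  · rcases h.1.1 with h2 | h2 <;> omega
  · rcases h.1.2 with h2 | h2 <;> omega

/-! ### rows -/

theorem row_check0 : (allR fun s => Nat.beq (row 0 s) (lev (refl 3 s))) = true := by decide +kernel

theorem row_check : ((List.range 30).all fun k => Nat.beq k 0 ||
    (Nat.blt (rowP.getD k (0, 0)).1 k && Nat.blt (rowP.getD k (0, 0)).2 8 &&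
      !(Nat.beq (rowP.getD k (0, 0)).2 3) &&
      allR fun s => Nat.beq (row k s) (row (rowP.getD k (0, 0)).1 (refl (rowP.getD k (0, 0)).2 s)))) = true := by
  decide +kernel

theorem row_zero {s : ℕ} (hs : s < 240) : row 0 s = lev (refl 3 s) :=
  Nat.eq_of_beq_eq_true (of_allR row_check0 hs)

theorem row_succ {k : ℕ} (hk : k < 30) (hk0 : k ≠ 0) : ∃ p < k, ∃ j < 8, j ≠ 3 ∧
    ∀ s < 240, row k s = row p (refl j s) := by
  have h1 := List.all_eq_true.1 row_check k (List.mem_range.2 hk)
  rw [Bool.or_eq_true] at h1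
  rcases h1 with h1 | h1
  · exact absurd (Nat.eq_of_beq_eq_true h1) hk0
  · rw [Bool.and_eq_true, Bool.and_eq_true, Bool.and_eq_true, Nat.blt_eq, Nat.blt_eq] at h1
    refine ⟨_, h1.1.1.1, _, h1.1.1.2, ?_, fun s hs => Nat.eq_of_beq_eq_true (of_allR h1.2 hs)⟩
    intro h3
    have h4 := h1.1.2
    rw [h3] at h4
    exact absurd h4 (by decide)

theorem any_spec {p : ℕ → Bool} (h : (List.range 30).any p = true) : ∃ k < 30, p k = true := by
  obtain ⟨k, hk, h1⟩ := List.any_eq_true.1 h
  exact ⟨k, List.mem_range.1 hk, h1⟩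

/-- levels `k ≥ 1`: some row is `< k` -/
theorem ex_pos : (allR fun s => Nat.blt (lev s) 7 ||
    (List.range 30).any fun k => Nat.blt (row k s) (lev s)) = true := by decide +kernel

theorem ex_pos_spec {s : ℕ} (hs : s < 240) (h : 7 ≤ lev s) : ∃ k < 30, row k s < lev s := by
  have h1 := of_allR ex_pos hs
  rw [Bool.or_eq_true, Nat.blt_eq] at h1
  rcases h1 with h1 | h1
  · omega
  · obtain ⟨k, hk, h2⟩ := any_spec h1
    rw [Nat.blt_eq] at h2
    exact ⟨k, hk, h2⟩

/-- level `1`: some row is negative -/
theorem ex_one : (allR fun s => !(Nat.beq (lev s) 7) ||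
    (List.range 30).any fun k => Nat.blt (row k s) 6) = true := by decide +kernel

theorem ex_one_spec {s : ℕ} (hs : s < 240) (h : lev s = 7) : ∃ k < 30, row k s < 6 := by
  have h1 := of_allR ex_one hs
  rw [Bool.or_eq_true, h] at h1
  rcases h1 with h1 | h1
  · exact absurd h1 (by decide)
  · obtain ⟨k, hk, h2⟩ := any_spec h1
    rw [Nat.blt_eq] at h2
    exact ⟨k, hk, h2⟩

/-- level `0`: some row is negative, some is positive -/
theorem ex_zero : (allR fun s => !(Nat.beq (lev s) 6) ||
    (((List.range 30).any fun k => Nat.blt (row k s) 6) &&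
     ((List.range 30).any fun k => Nat.blt 6 (row k s)))) = true := by decide +kernel

theorem ex_zero_spec {s : ℕ} (hs : s < 240) (h : lev s = 6) :
    (∃ k < 30, row k s < 6) ∧ ∃ k < 30, 6 < row k s := by
  have h1 := of_allR ex_zero hs
  rw [Bool.or_eq_true, h] at h1
  rcases h1 with h1 | h1
  · exact absurd h1 (by decide)
  · rw [Bool.and_eq_true] at h1
    obtain ⟨k, hk, h2⟩ := any_spec h1.1
    obtain ⟨l, hl, h3⟩ := any_spec h1.2
    rw [Nat.blt_eq] at h2 h3
    exact ⟨⟨k, hk, h2⟩, l, hl, h3⟩

/-- two roots of the same level are separated by a row -/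
theorem ex_sep : (allR fun s => allR fun t => !(Nat.beq (lev s) (lev t)) || Nat.beq s t ||
    (List.range 30).any fun k => Nat.blt (row k s) (row k t)) = true := by decide +kernel

theorem ex_sep_spec {s t : ℕ} (hs : s < 240) (ht : t < 240) (h : lev s = lev t) (hne : s ≠ t) :
    ∃ k < 30, row k s < row k t := by
  have h1 := of_allR (of_allR ex_sep hs) ht
  rw [Bool.or_eq_true, Bool.or_eq_true, h] at h1
  rcases h1 with (h1 | h1) | h1
  · rw [Bool.not_eq_true', Nat.beq_refl] at h1
    exact absurd h1 (by decide)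
  · exact absurd (Nat.eq_of_beq_eq_true h1) hne
  · obtain ⟨k, hk, h2⟩ := any_spec h1
    rw [Nat.blt_eq] at h2
    exact ⟨k, hk, h2⟩

/-! ### the refined height -/

theorem lam_pos : (allR fun s => Nat.blt s 120 || Nat.blt 4000 (lam s)) = true := by decide +kernel

theorem lam_pos_spec {s : ℕ} (hs : s < 240) (h : 120 ≤ s) : 4000 < lam s := by
  have h1 := of_allR lam_pos hs
  rw [Bool.or_eq_true, Nat.blt_eq, Nat.blt_eq] at h1
  omega

theorem lam_ref : (allR fun s =>
    (Nat.ble 6 (lev s) || Nat.blt (lam s) 4000) && (Nat.ble (lev s) 6 || Nat.blt 4000 (lam s)) &&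
    (Nat.blt s 120 || (Nat.ble (500 * (lev s)) (lam s - 1000) &&
      Nat.blt (lam s - 1000) (500 * (lev s + 1)))) &&
    allR fun t => Nat.ble (lev t) (lev s) || Nat.blt (lam s) (lam t)) = true := by decide +kernel

theorem lam_ref_spec {s : ℕ} (hs : s < 240) : (lev s < 6 → lam s < 4000) ∧ (6 < lev s → 4000 < lam s) ∧
    (120 ≤ s → 500 * lev s ≤ lam s - 1000 ∧ lam s - 1000 < 500 * (lev s + 1)) ∧
    ∀ t < 240, lev s < lev t → lam s < lam t := by
  have h1 := of_allR lam_ref hs
  rw [Bool.and_eq_true, Bool.and_eq_true, Bool.and_eq_true, Bool.or_eq_true, Bool.or_eq_true,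
    Bool.or_eq_true, Bool.and_eq_true, Nat.ble_eq, Nat.ble_eq, Nat.ble_eq, Nat.blt_eq, Nat.blt_eq,
    Nat.blt_eq, Nat.blt_eq] at h1
  refine ⟨by omega, by omega, by omega, fun t ht hlt => ?_⟩
  have h2 := of_allR h1.2 ht
  rw [Bool.or_eq_true, Nat.ble_eq, Nat.blt_eq] at h2
  omega

theorem lam_inj : (allR fun s => allR fun t => Nat.blt s 120 || Nat.blt t 120 ||
    !(Nat.beq (lam s) (lam t)) || Nat.beq s t) = true := by decide +kernel

theorem lam_inj_spec {s t : ℕ} (hs : s < 240) (ht : t < 240) (h1 : 120 ≤ s) (h2 : 120 ≤ t)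
    (h : lam s = lam t) : s = t := by
  have h3 := of_allR (of_allR lam_inj hs) ht
  rw [Bool.or_eq_true, Bool.or_eq_true, Bool.or_eq_true, Nat.blt_eq, Nat.blt_eq, h] at h3
  rcases h3 with ((h3 | h3) | h3) | h3
  · omega
  · omega
  · rw [Bool.not_eq_true', Nat.beq_refl] at h3
    exact absurd h3 (by decide)
  · exact Nat.eq_of_beq_eq_true h3

theorem simple_check : ((List.range 8).all fun j => Nat.blt (chevE8.simple j) 240 &&
    Nat.ble 120 (chevE8.simple j)) = true := by decide +kernel

theorem simple_spec {j : ℕ} (hj : j < 8) : chevE8.simple j < 240 ∧ 120 ≤ chevE8.simple j := by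
  have h1 := List.all_eq_true.1 simple_check j (List.mem_range.2 hj)
  rw [Bool.and_eq_true, Nat.blt_eq, Nat.ble_eq] at h1
  exact h1

/-- each positive root has a Cartan integer `±1` with a simple root -/
theorem cartan_check : (allR fun s =>
    (List.range 8).any fun i => decide (chevE8.cartan i s = 1) || decide (chevE8.cartan i s = -1)) = true := by
  decide +kernel

theorem cartan_spec {s : ℕ} (hs : s < 240) :
    ∃ i < 8, chevE8.cartan i s = 1 ∨ chevE8.cartan i s = -1 := by
  obtain ⟨i, hi, h1⟩ := List.any_eq_true.1 (of_allR cartan_check hs)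
  refine ⟨i, List.mem_range.1 hi, ?_⟩
  rw [Bool.or_eq_true, decide_eq_true_eq, decide_eq_true_eq] at h1
  exact h1

/-- The facts about the tables of `E₈` used below. -/
structure Tab (D : ChevalleyDatum) : Prop where
  rank : D.rank = 8
  nroots : D.nroots = 240
  neg_eq : ∀ r < 240, D.neg r = 239 - r
  pos_iff : ∀ r, D.IsPosRoot r ↔ r < 240 ∧ 120 ≤ r
  lev_add : ∀ r < 240, Add D lev 6 r
  lam_add : ∀ r < 240, Add D lam 4000 r
  ch : ∀ r < 240, ∀ e ∈ (D.chain.getD r #[]).toList, e.2.toList.length = 1 ∧
    ∀ q ∈ e.2.toList, q.1 < 240 ∧ (120 ≤ r → 120 ≤ e.1 → 120 ≤ q.1)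
  refl_eq : ∀ j < 8, ∀ s < 240, D.reflectRoot j s = refl j s
  simple : ∀ j < 8, D.simple j < 240 ∧ 120 ≤ D.simple j
  cartan : ∀ s < 240, ∃ i < 8, D.cartan i s = 1 ∨ D.cartan i s = -1

theorem tabE8 : Tab chevE8 where
  rank := rank_eq
  nroots := nroots_eq
  neg_eq := fun _ hr => neg_eq hr
  pos_iff := fun _ => pos_iff
  lev_add := fun _ hr => lev_add hr
  lam_add := fun _ hr => lam_add hr
  ch := fun _ hr => ch_spec ch_check hr
  refl_eq := fun _ hj _ hs => (refl_spec hj hs).1
  simple := fun _ hj => simple_spec hj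
  cartan := fun _ hs => cartan_spec hs

end Cfsg.Agent.H899.E8Tab
end

-- part: H899/ChevNS
section
/-!
Subgroups generated by the root elements `x_r(1)`, `r ∈ R`, over the field with two elements, in a
Chevalley datum whose tables satisfy `E8Tab.Tab`.
-/

set_option autoImplicit false

namespace Cfsg.Agent.H899.ChevNS

open Cfsg.Lie Cfsg.Agent.ChevStructure.Level Cfsg.Agent.ChevalleyStructure.Elts
  Cfsg.Agent.ChevalleyStructure.NConj Cfsg.Agent.H899.ChevLv Cfsg.Agent.H899.E8Tab

universe u

variable {D : ChevalleyDatum} (hD : InList D) {F : Type u} [Field F]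

/-- The subgroup generated by the `x_r(1)`, `r ∈ R`. -/
def NS (F : Type u) [Field F] (R : Set ℕ) : Subgroup (GL D.Idx F) :=
  Subgroup.closure {g | ∃ r ∈ R, g = xG hD r (1 : F)}

theorem NS_mono {R R' : Set ℕ} (h : R ⊆ R') : NS hD F R ≤ NS hD F R' := by
  refine (Subgroup.closure_le _).2 ?_
  rintro g ⟨r, hr, rfl⟩
  exact Subgroup.subset_closure ⟨r, h hr, rfl⟩

theorem one_mem_NS {R : Set ℕ} {r : ℕ} (hr : r ∈ R) : xG hD r (1 : F) ∈ NS hD F R :=
  Subgroup.subset_closure ⟨r, hr, rfl⟩

section two

variable (hF : ∀ t : F, t = 0 ∨ t = 1)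

include hF in
theorem one_add_one : (1 : F) + 1 = 0 := by
  rcases hF (1 + 1) with h | h
  · exact h
  · exact absurd (add_eq_left.1 h) one_ne_zero

include hF in
theorem neg_one_eq : (-1 : F) = 1 := by
  rw [neg_eq_iff_add_eq_zero]
  exact one_add_one hF

include hF in
theorem xG_sq (r : ℕ) : xG hD r (1 : F) * xG hD r 1 = 1 := by
  rw [xG_add, one_add_one hF, xG_zero]

include hF in
theorem xG_inv_one (r : ℕ) : (xG hD r (1 : F))⁻¹ = xG hD r 1 :=
  inv_eq_of_mul_eq_one_right (xG_sq hD hF r)

include hF in
theorem nG_inv_one (r : ℕ) : (nG hD r (1 : F))⁻¹ = nG hD r 1 := by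
  rw [nG_inv, neg_one_eq hF]

include hF in
theorem xG_mem_NS {R : Set ℕ} {r : ℕ} (hr : r ∈ R) (t : F) : xG hD r t ∈ NS hD F R := by
  rcases hF t with rfl | rfl
  · rw [xG_zero]; exact one_mem _
  · exact one_mem_NS hD hr

include hD hF in
theorem diagonal_eq_bot : D.diagonalSubgroup F = ⊥ := by
  rw [eq_bot_iff, diagonal_le_iff hD]
  intro r _ t ht
  rcases hF t with rfl | rfl
  · exact absurd rfl ht
  · rw [hG_one]
    exact one_mem _

/-! ### Commutators -/

/-- With singleton chains the commutator terms are the entries of the chain table. -/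
theorem commTerms_spec (hT : Tab D) {r s : ℕ} (hr : r < 240) (hs : s < 240) {c : ℕ × ℤ × ℕ × ℕ}
    (hc : c ∈ D.commTerms r s) :
    ∃ e ∈ (D.chain.getD r #[]).toList, e.1 = s ∧ ∃ q ∈ e.2.toList, q.1 = c.1 := by
  have hlen : ∀ r < 240, ∀ s, (D.chainEntry r s).length ≤ 1 := by
    intro r hr s
    unfold ChevalleyDatum.chainEntry
    cases hf : (D.chain.getD r #[]).toList.find? (fun e => e.1 = s) with
    | none => exact Nat.zero_le _
    | some e =>
      have h1 := List.mem_of_find?_eq_some hf
      have h2 := (hT.ch r hr e h1).1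
      show e.2.toList.length ≤ 1
      exact h2.le
  have hnone : ∀ r < 240, ∀ s i, 2 ≤ i → D.chainRoot r s i = none := by
    intro r hr s i hi
    unfold ChevalleyDatum.chainRoot
    rw [List.getElem?_eq_none (by have := hlen r hr s; omega)]
    rfl
  unfold ChevalleyDatum.commTerms at hc
  simp only [hnone r hr s 2 le_rfl, hnone s hs r 2 le_rfl, hnone r hr s 3 (by norm_num),
    hnone s hs r 3 (by norm_num), Option.bind_none, List.filterMap_cons, Option.map_none,
    List.filterMap_nil] at hc
  cases hcr : D.chainRoot r s 1 with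
  | none =>
    rw [hcr] at hc
    simp at hc
  | some k =>
    rw [hcr] at hc
    simp only [Option.map_some, List.mem_singleton] at hc
    unfold ChevalleyDatum.chainRoot ChevalleyDatum.chainEntry at hcr
    cases hf : (D.chain.getD r #[]).toList.find? (fun e => e.1 = s) with
    | none =>
      rw [hf] at hcr
      simp at hcr
    | some e =>
      rw [hf] at hcr
      have h1 := List.mem_of_find?_eq_some hf
      have h2 := List.find?_some hf
      refine ⟨e, h1, by simpa using h2, ?_⟩
      obtain ⟨q, hq, hqk⟩ := Option.map_eq_some_iff.1 hcr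
      exact ⟨q, List.mem_of_getElem? hq, by rw [hqk, hc]⟩

include hF in
theorem comm_conj {r s : ℕ} (hr : r < D.nroots) (hs : s < D.nroots) (hrs : s ≠ r)
    (hneg : s ≠ D.neg r) {R : Set ℕ} (hsR : s ∈ R) (hc : ∀ c ∈ D.commTerms r s, c.1 ∈ R) (t u : F) :
    (xG hD r t)⁻¹ * xG hD s u * xG hD r t ∈ NS hD F R := by
  have h1 := S1025.result (F := F) D hD r s hr hs hrs hneg t u
  have h2 : xG hD s u * xG hD r t = xG hD r t * xG hD s u * wordG hD (D.commWord F r s t u) := by
    apply Units.ext
    rw [Units.val_mul, Units.val_mul, Units.val_mul, coe_wordG]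
    exact h1
  rw [mul_assoc, h2, mul_assoc, inv_mul_cancel_left]
  refine mul_mem (xG_mem_NS hD hF hsR u) (mem_of_xG_mem hD ?_)
  intro p hp
  unfold ChevalleyDatum.commWord at hp
  obtain ⟨c, hc', rfl⟩ := List.mem_map.1 hp
  exact xG_mem_NS hD hF (hc c hc') _

/-- The positive roots `r` with `a ≤ f r`. -/
def Rf (f : ℕ → ℕ) (a : ℕ) : Set ℕ := {r | r < 240 ∧ 120 ≤ r ∧ a ≤ f r}

/-- `f` is additive with offset `off` on the tables and `≥ off` on positive roots. -/
structure Good (D : ChevalleyDatum) (f : ℕ → ℕ) (off : ℕ) : Prop where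
  add : ∀ r < 240, Add D f off r
  pos : ∀ r < 240, 120 ≤ r → off ≤ f r

include hF in
theorem conj_x_NS (hT : Tab D) {f : ℕ → ℕ} {off : ℕ} (hf : Good D f off) {a : ℕ} {r : ℕ}
    (hr : r < 240) (hr' : 120 ≤ r) (t : F) {g : GL D.Idx F} (hg : g ∈ NS hD F (Rf f a)) :
    (xG hD r t)⁻¹ * g * xG hD r t ∈ NS hD F (Rf f a) := by
  have hle : NS hD F (Rf f a) ≤ (NS hD F (Rf f a)).comap (MulAut.conj (xG hD r t)⁻¹).toMonoidHom := by
    refine (Subgroup.closure_le _).2 ?_
    rintro g ⟨s, ⟨hs, hs', hfs⟩, rfl⟩
    show (xG hD r t)⁻¹ * xG hD s 1 * ((xG hD r t)⁻¹)⁻¹ ∈ NS hD F (Rf f a)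
    rw [inv_inv]
    by_cases hsr : s = r
    · subst hsr
      rw [mul_assoc, xG_add, xG_inv, xG_add, neg_add_cancel_comm_assoc]
      exact one_mem_NS hD ⟨hs, hs', hfs⟩
    · refine comm_conj hD hF (R := Rf f a) (by rw [hT.nroots]; exact hr) (by rw [hT.nroots]; exact hs) hsr ?_
        ⟨hs, hs', hfs⟩ ?_ t 1
      · rw [hT.neg_eq r hr]
        omega
      · intro c hc
        obtain ⟨e, he, hes, q, hq, hqc⟩ := commTerms_spec hT hr hs hc
        have h1 := (hT.ch r hr e he).2 q hq
        have h2 := (hf.add r hr).chain e he q hq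
        have h3 := hf.pos r hr hr'
        rw [← hqc]
        refine ⟨h1.1, h1.2 hr' (by omega), ?_⟩
        rw [hes] at h2
        omega
  have := hle hg
  have h2 : (xG hD r t)⁻¹ * g * ((xG hD r t)⁻¹)⁻¹ ∈ NS hD F (Rf f a) := this
  rwa [inv_inv] at h2

include hF in
/-- Conjugation by `n_j` on subgroups generated by root elements. -/
theorem conj_n_NS (hT : Tab D) {R R' : Set ℕ} {j : ℕ} (hj : j < 8)
    (h : ∀ s ∈ R, s < 240 ∧ refl j s ∈ R') {g : GL D.Idx F} (hg : g ∈ NS hD F R) :
    nS hD F j * g * (nS hD F j)⁻¹ ∈ NS hD F R' := by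
  have hle : NS hD F R ≤ (NS hD F R').comap (MulAut.conj (nS hD F j)).toMonoidHom := by
    refine (Subgroup.closure_le _).2 ?_
    rintro g ⟨s, hs, rfl⟩
    show nS hD F j * xG hD s 1 * (nS hD F j)⁻¹ ∈ NS hD F R'
    obtain ⟨hs1, hs2⟩ := h s hs
    obtain ⟨η, -, h1, -⟩ := conj_x (F := F) hD (by rw [hT.rank]; exact hj)
      (by rw [hT.nroots]; exact hs1)
    rw [h1, hT.refl_eq j hj s hs1]
    exact xG_mem_NS hD hF hs2 _
  exact hle hg

/-! ### Levels -/

theorem Good.up {f : ℕ → ℕ} {off : ℕ} (hf : Good D f off) {r : ℕ} (hr : r < 240) (hr' : 120 ≤ r) :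
    Up D off f r (f r - off) := by
  have h1 := hf.pos r hr hr'
  have h2 := hf.add r hr
  refine ⟨by omega, by have := h2.neg; omega, fun e he q hq => ?_⟩
  have := h2.chain e he q hq
  omega

theorem exists_bound (D : ChevalleyDatum) (off : ℕ) (f : ℕ → ℕ) : ∃ n, ∀ i, lv D off f i < n := by
  obtain ⟨M, hM⟩ := Finite.exists_le (lv D off f)
  exact ⟨M + 1, fun i => Nat.lt_succ_of_le (hM i)⟩

/-- Elements of `N_{off+k+1}` minus one raise the level by `k + 1`. -/
theorem NS_raises (hT : Tab D) {f : ℕ → ℕ} {off : ℕ} (hf : Good D f off) {k : ℕ}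
    {g : GL D.Idx F} (hg : g ∈ NS hD F (Rf f (off + (k + 1)))) :
    Raises (lv D off f) (k + 1) ((g : Matrix D.Idx D.Idx F) - 1) := by
  obtain ⟨n, hn⟩ := exists_bound D off f
  have hle : NS hD F (Rf f (off + (k + 1))) ≤ unip F (lv D off f) n hn k := by
    refine (Subgroup.closure_le _).2 ?_
    rintro g ⟨s, ⟨hs, hs', hfs⟩, rfl⟩
    have h1 := (hf.up hs hs').raises (F := F) (by rw [hT.nroots]; exact hs) 1
    exact h1.mono (by omega)
  exact hle hg

end two

end Cfsg.Agent.H899.ChevNS
end

-- part: H899/ChevElim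
section
/-!
Elimination: an element of `U` (over the field with two elements) whose entries `(β, h_i)` vanish for all
positive roots `β` of level `< a` lies in the subgroup generated by the `x_r(1)` with `lev r ≥ a`.
-/

set_option autoImplicit false

namespace Cfsg.Agent.H899.ChevElim

open Cfsg.Lie Cfsg.Agent.ChevStructure.Level Cfsg.Agent.ChevalleyStructure.Elts
  Cfsg.Agent.ChevalleyStructure.NConj Cfsg.Agent.H899.ChevLv Cfsg.Agent.H899.E8Tab
  Cfsg.Agent.H899.ChevNS

universe u

variable {D : ChevalleyDatum} (hD : InList D) {F : Type u} [Field F]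
  (hF : ∀ t : F, t = 0 ∨ t = 1)

theorem good_lam (hT : Tab D) : Good D lam 4000 :=
  ⟨hT.lam_add, fun _ hr hr' => (lam_pos_spec hr hr').le⟩

theorem good_lev (hT : Tab D) : Good D lev 6 := by
  refine ⟨hT.lev_add, fun r hr hr' => ?_⟩
  by_contra h
  have h1 := (lam_ref_spec hr).1 (by omega)
  have h2 := lam_pos_spec hr hr'
  omega

include hF in
theorem elim_step (hT : Tab D) {m : ℕ} (hm : 4001 ≤ m) {g : GL D.Idx F}
    (hg : g ∈ NS hD F (Rf lam m))
    (hz : ∀ β : Fin D.nroots, 120 ≤ β.val → lam β.val = m → ∀ i : Fin D.rank,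
      (g : Matrix D.Idx D.Idx F) (Sum.inr β) (Sum.inl i) = 0) :
    g ∈ NS hD F (Rf lam (m + 1)) := by
  by_cases h : ∃ β < 240, 120 ≤ β ∧ lam β = m
  · obtain ⟨β, hβ, hβ', hβm⟩ := h
    set x := xG hD β (1 : F) with hx
    have hxx : x * x = 1 := xG_sq hD hF β
    have hxi : x⁻¹ = x := inv_eq_of_mul_eq_one_right hxx
    have hconj : ∀ a ∈ NS hD F (Rf lam (m + 1)), x * a * x ∈ NS hD F (Rf lam (m + 1)) := by
      intro a ha
      have := conj_x_NS hD hF hT (good_lam hT) hβ hβ' (1 : F) ha
      rwa [← hx, hxi] at this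
    have key : ∀ g ∈ NS hD F (Rf lam m), g ∈ NS hD F (Rf lam (m + 1)) ∨
        x * g ∈ NS hD F (Rf lam (m + 1)) := by
      intro g hg
      change g ∈ Subgroup.closure _ at hg
      induction hg using Subgroup.closure_induction with
      | mem g hg =>
        obtain ⟨r, ⟨hr, hr', hrm⟩, rfl⟩ := hg
        by_cases he : lam r = m
        · right
          rw [lam_inj_spec hr hβ hr' hβ' (he.trans hβm.symm), ← hx, hxx]
          exact one_mem _
        · left
          exact one_mem_NS hD ⟨hr, hr', by omega⟩
      | one => exact Or.inl (one_mem _)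
      | mul a b _ _ ha hb =>
        rcases ha with ha | ha <;> rcases hb with hb | hb
        · exact Or.inl (mul_mem ha hb)
        · right
          have h1 := mul_mem (hconj a ha) hb
          have h2 : x * a * x * (x * b) = x * (a * b) := by
            calc x * a * x * (x * b) = x * a * (x * x) * b := by group
              _ = x * (a * b) := by rw [hxx]; group
          rwa [h2] at h1
        · right
          rw [← mul_assoc]
          exact mul_mem ha hb
        · left
          have h1 := mul_mem (hconj _ ha) hb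
          have h2 : x * (x * a) * x * (x * b) = a * b := by
            calc x * (x * a) * x * (x * b) = (x * x) * a * (x * x) * b := by group
              _ = a * b := by rw [hxx]; group
          rwa [h2] at h1
      | inv a _ ha =>
        rcases ha with ha | ha
        · exact Or.inl (inv_mem ha)
        · right
          have h1 := hconj _ (inv_mem ha)
          have h2 : x * (x * a)⁻¹ * x = x * a⁻¹ := by
            rw [mul_inv_rev, hxi]
            calc x * (a⁻¹ * x) * x = x * a⁻¹ * (x * x) := by group
              _ = x * a⁻¹ := by rw [hxx, mul_one]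
          rwa [h2] at h1
    rcases key g hg with h1 | h1
    · exact h1
    · exfalso
      obtain ⟨k, hk⟩ : ∃ k, m = 4000 + (k + 1) := ⟨m - 4001, by omega⟩
      have hg' : g = x * (x * g) := by rw [← mul_assoc, hxx, one_mul]
      set g' := x * g with hg'def
      have h2 : Raises (lv D 4000 lam) (k + 1 + 1) ((g' : Matrix D.Idx D.Idx F) - 1) := by
        refine NS_raises hD hT (good_lam hT) ?_
        rw [hk] at h1
        exact h1
      have h3 := ((good_lam hT).up hβ hβ').raises_zero (F := F) (by rw [hT.nroots]; exact hβ) 1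
      have h4 := h3.mul h2
      obtain ⟨i, hi, hci⟩ := hT.cartan β hβ
      have hi' : i < D.rank := by rw [hT.rank]; exact hi
      have hβ'' : β < D.nroots := by rw [hT.nroots]; exact hβ
      have h5 := hz ⟨β, hβ''⟩ hβ' hβm ⟨i, hi'⟩
      have h6 : (g : Matrix D.Idx D.Idx F) = D.x F β 1 + D.x F β 1 * ((g' : Matrix D.Idx D.Idx F) - 1) := by
        rw [hg', Units.val_mul, mul_sub, mul_one]
        show D.x F β 1 * _ = _
        abel
      rw [h6, Matrix.add_apply, x_entry hβ'', if_pos rfl] at h5
      have h7 : (D.x F β 1 * ((g' : Matrix D.Idx D.Idx F) - 1)) (Sum.inr ⟨β, hβ''⟩) (Sum.inl ⟨i, hi'⟩) = 0 := by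
        by_contra hne
        have := h4 _ _ hne
        rw [lv_inl, lv_inr] at this
        show False
        have h8 : (⟨β, hβ''⟩ : Fin D.nroots).val = β := rfl
        rw [h8] at this
        omega
      rw [h7, add_zero, mul_one] at h5
      have h8 : (⟨i, hi'⟩ : Fin D.rank).val = i := rfl
      rw [h8] at h5
      rcases hci with hci | hci <;> rw [hci] at h5 <;> simp at h5
  · have hsub : Rf lam m ⊆ Rf lam (m + 1) := by
      rintro r ⟨hr, hr', hrm⟩
      refine ⟨hr, hr', ?_⟩
      by_contra hlt
      exact h ⟨r, hr, hr', by omega⟩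
    exact NS_mono hD hsub hg

include hF in
theorem posUnipotent_le (hT : Tab D) : D.posUnipotent F ≤ NS hD F (Rf lam 0) := by
  rw [posUnipotent_le_iff hD]
  intro r hr t
  have h1 := (hT.pos_iff r).1 hr
  exact xG_mem_NS hD hF (R := Rf lam 0) ⟨h1.1, h1.2, Nat.zero_le _⟩ t

include hF in
theorem elim (hT : Tab D) {a : ℕ} {g : GL D.Idx F} (hg : g ∈ D.posUnipotent F)
    (hz : ∀ β : Fin D.nroots, 120 ≤ β.val → lev β.val < a → ∀ i : Fin D.rank,
      (g : Matrix D.Idx D.Idx F) (Sum.inr β) (Sum.inl i) = 0) :
    g ∈ NS hD F (Rf lev a) := by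
  have key : ∀ m, m ≤ 500 * a + 1000 → g ∈ NS hD F (Rf lam m) := by
    intro m
    induction m with
    | zero => exact fun _ => posUnipotent_le hD hF hT hg
    | succ m ih =>
      intro hm
      have h1 := ih (by omega)
      by_cases hm' : m ≤ 4000
      · refine NS_mono hD ?_ h1
        rintro r ⟨hr, hr', -⟩
        exact ⟨hr, hr', by have := lam_pos_spec hr hr'; omega⟩
      · refine elim_step hD hF hT (by omega) h1 ?_
        intro β hβ hβm i
        refine hz β hβ ?_ i
        have h2 := ((lam_ref_spec (lt_of_lt_of_eq β.2 hT.nroots)).2.2.1 hβ).1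
        omega
  refine NS_mono hD ?_ (key _ le_rfl)
  rintro r ⟨hr, hr', hrm⟩
  refine ⟨hr, hr', ?_⟩
  have h2 := ((lam_ref_spec hr).2.2.1 hr').2
  omega

theorem NS_le_posUnipotent (hT : Tab D) {f : ℕ → ℕ} {a : ℕ} :
    NS hD F (Rf f a) ≤ D.posUnipotent F := by
  refine (Subgroup.closure_le _).2 ?_
  rintro g ⟨r, ⟨hr, hr', -⟩, rfl⟩
  exact xG_mem_posUnipotent hD ((hT.pos_iff r).2 ⟨hr, hr'⟩) 1

end Cfsg.Agent.H899.ChevElim
end

-- part: H899/IterCore
section
/-!
Iterated cores of two conjugate subgroups `M₁`, `M₂ = n M₁ n⁻¹` (`n` an involution), bounded above and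
below by a descending chain of normal subgroups `N k` of `M₁`.
-/

set_option autoImplicit false

namespace Cfsg.Agent.H899.IterCore

variable {G : Type*} [Group G]

/-- The core in `M` of `Y ⊓ M`. -/
def cc (M Y : Subgroup G) : Subgroup G := (Y.subgroupOf M).normalCore.map M.subtype

theorem cc_le_left (M Y : Subgroup G) : cc M Y ≤ M := by
  rintro _ ⟨x, -, rfl⟩
  exact x.2

theorem cc_le_right (M Y : Subgroup G) : cc M Y ≤ Y := by
  rintro _ ⟨x, hx, rfl⟩
  exact Subgroup.mem_subgroupOf.1 (Subgroup.normalCore_le _ hx)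

theorem cc_conj {M Y : Subgroup G} {m a : G} (hm : m ∈ M) (ha : a ∈ cc M Y) :
    m * a * m⁻¹ ∈ cc M Y := by
  obtain ⟨x, hx, rfl⟩ := ha
  exact ⟨⟨m, hm⟩ * x * ⟨m, hm⟩⁻¹, (Subgroup.normalCore_normal _).conj_mem x hx ⟨m, hm⟩, rfl⟩

theorem le_cc {M Y K : Subgroup G} (h1 : K ≤ M) (h2 : K ≤ Y)
    (h3 : ∀ m ∈ M, ∀ a ∈ K, m * a * m⁻¹ ∈ K) : K ≤ cc M Y := by
  intro a ha
  refine ⟨⟨a, h1 ha⟩, ?_, rfl⟩
  rintro ⟨m, hm⟩
  exact Subgroup.mem_subgroupOf.2 (h2 (h3 m hm a ha))

/-- The two sequences. -/
def seq (M₁ M₂ : Subgroup G) : ℕ → Subgroup G × Subgroup G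
  | 0 => (M₁, M₂)
  | i + 1 => (cc M₁ ((seq M₁ M₂ i).1 ⊓ (seq M₁ M₂ i).2), cc M₂ ((seq M₁ M₂ i).1 ⊓ (seq M₁ M₂ i).2))

variable {M₁ M₂ : Subgroup G} {n : G}

theorem seq_conj (hn : n * n = 1) (h2 : ∀ x, x ∈ M₂ ↔ n * x * n ∈ M₁) (i : ℕ) :
    ∀ x, x ∈ (seq M₁ M₂ i).2 ↔ n * x * n ∈ (seq M₁ M₂ i).1 := by
  have hnn : ∀ x, n * (n * x * n) * n = x := by
    intro x
    calc n * (n * x * n) * n = (n * n) * x * (n * n) := by group
      _ = x := by rw [hn, one_mul, mul_one]
  have hninv : n⁻¹ = n := inv_eq_of_mul_eq_one_right hn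
  have hmul : ∀ x y, n * (x * y * x⁻¹) * n = (n * x * n) * (n * y * n) * (n * x * n)⁻¹ := by
    intro x y
    rw [mul_inv_rev, mul_inv_rev, hninv]
    calc n * (x * y * x⁻¹) * n = n * x * 1 * y * 1 * x⁻¹ * n := by group
      _ = n * x * (n * n) * y * (n * n) * x⁻¹ * n := by rw [hn]
      _ = _ := by group
  induction i with
  | zero => exact h2
  | succ i ih =>
    -- `cc M₂ Y` and `cc M₁ Y` correspond under conjugation by `n`
    have hY : ∀ x, x ∈ (seq M₁ M₂ i).1 ⊓ (seq M₁ M₂ i).2 ↔
        n * x * n ∈ (seq M₁ M₂ i).1 ⊓ (seq M₁ M₂ i).2 := by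
      intro x
      rw [Subgroup.mem_inf, Subgroup.mem_inf, ih x, ih (n * x * n), hnn]
      exact and_comm
    set Y := (seq M₁ M₂ i).1 ⊓ (seq M₁ M₂ i).2 with hYdef
    have key : ∀ M M' : Subgroup G, (∀ x, x ∈ M' ↔ n * x * n ∈ M) →
        ∀ x, n * x * n ∈ cc M Y → x ∈ cc M' Y := by
      intro M M' hM x hx
      -- the subgroup `n (cc M Y) n`
      have h1 : (cc M Y).comap (MulAut.conj n).toMonoidHom ≤ cc M' Y := by
        refine le_cc ?_ ?_ ?_
        · intro a ha
          have ha' : n * a * n⁻¹ ∈ cc M Y := ha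
          rw [hninv] at ha'
          exact (hM a).2 (cc_le_left _ _ ha')
        · intro a ha
          have ha' : n * a * n⁻¹ ∈ cc M Y := ha
          rw [hninv] at ha'
          exact (hY a).2 (cc_le_right _ _ ha')
        · intro m hm a ha
          have ha' : n * a * n⁻¹ ∈ cc M Y := ha
          rw [hninv] at ha'
          show n * (m * a * m⁻¹) * n⁻¹ ∈ cc M Y
          rw [hninv, hmul]
          exact cc_conj ((hM m).1 hm) ha'
      refine h1 ?_
      show n * x * n⁻¹ ∈ cc M Y
      rwa [hninv]
    intro x
    constructor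
    · intro hx
      refine key M₂ M₁ ?_ (n * x * n) ?_
      · intro y
        rw [h2 (n * y * n), hnn]
      · rw [hnn]
        exact hx
    · intro hx
      exact key M₁ M₂ h2 x hx

theorem main (M₁ : Subgroup G) (n : G) (hn : n * n = 1) (N : ℕ → Subgroup G)
    (hN1 : N 1 ≤ M₁)
    (hNconj : ∀ k, 1 ≤ k → ∀ m ∈ M₁, ∀ a ∈ N k, m * a * m⁻¹ ∈ N k)
    (hanti : ∀ k, 1 ≤ k → N (k + 1) ≤ N k)
    (hNn : ∀ k, 1 ≤ k → ∀ a ∈ N (k + 1), n * a * n ∈ N k)
    (h6 : N 6 ≠ ⊥) (h7 : N 7 = ⊥)
    (hup1 : ∀ K : Subgroup G, K ≤ M₁ → (∀ m ∈ M₁, ∀ a ∈ K, m * a * m⁻¹ ∈ K) →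
      (∀ a ∈ K, n * a * n ∈ M₁) → K ≤ N 2)
    (hup : ∀ k, 2 ≤ k → ∀ K : Subgroup G, K ≤ M₁ → K ≤ N k →
      (∀ m ∈ M₁, ∀ a ∈ K, m * a * m⁻¹ ∈ K) → (∀ a ∈ K, n * a * n ∈ N k) → K ≤ N (k + 1)) :
    ∃ (M₂ : Subgroup G) (g : G) (A B : ℕ → Subgroup G),
      M₂ = M₁.map (MulAut.conj g).toMonoidHom ∧ M₁ ≠ M₂ ∧ A 0 = M₁ ∧ B 0 = M₂ ∧
      (∀ i, A (i + 1) = ((A i ⊓ B i).subgroupOf M₁).normalCore.map M₁.subtype) ∧
      (∀ i, B (i + 1) = ((A i ⊓ B i).subgroupOf M₂).normalCore.map M₂.subtype) ∧
      A 6 = ⊥ ∧ A 5 ≠ ⊥ := by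
  have hninv : n⁻¹ = n := inv_eq_of_mul_eq_one_right hn
  have hnn : ∀ x, n * (n * x * n) * n = x := by
    intro x
    calc n * (n * x * n) * n = (n * n) * x * (n * n) := by group
      _ = x := by rw [hn, one_mul, mul_one]
  set M₂ : Subgroup G := M₁.map (MulAut.conj n).toMonoidHom with hM₂
  have h2 : ∀ x, x ∈ M₂ ↔ n * x * n ∈ M₁ := by
    intro x
    rw [hM₂, Subgroup.mem_map]
    constructor
    · rintro ⟨y, hy, rfl⟩
      show n * (n * y * n⁻¹) * n ∈ M₁
      rw [hninv, hnn]
      exact hy
    · intro hx
      refine ⟨n * x * n, hx, ?_⟩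
      show n * (n * x * n) * n⁻¹ = x
      rw [hninv, hnn]
  have hsw := seq_conj hn h2
  have hup' : ∀ i, (seq M₁ M₂ (i + 1)).1 ≤ N (i + 2) := by
    intro i
    induction i with
    | zero =>
      refine hup1 _ (cc_le_left _ _) (fun m hm a ha => cc_conj hm ha) ?_
      intro a ha
      have h3 : a ∈ M₁ ⊓ M₂ := cc_le_right _ _ ha
      exact (h2 a).1 h3.2
    | succ i ih =>
      refine hup (i + 2) (by omega) _ (cc_le_left _ _) ?_ (fun m hm a ha => cc_conj hm ha) ?_
      · intro a ha
        have h3 : a ∈ (seq M₁ M₂ (i + 1)).1 ⊓ (seq M₁ M₂ (i + 1)).2 := cc_le_right _ _ ha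
        exact ih h3.1
      · intro a ha
        have h3 : a ∈ (seq M₁ M₂ (i + 1)).1 ⊓ (seq M₁ M₂ (i + 1)).2 := cc_le_right _ _ ha
        exact ih ((hsw (i + 1) a).1 h3.2)
  have hlow : ∀ i, N (i + 1) ≤ (seq M₁ M₂ i).1 := by
    have hNle : ∀ i, N (i + 1) ≤ M₁ := by
      intro i
      induction i with
      | zero => exact hN1
      | succ i ih => exact (hanti (i + 1) (by omega)).trans ih
    intro i
    induction i with
    | zero => exact hN1
    | succ i ih =>
      refine le_cc (hNle _) (le_inf ((hanti (i + 1) (by omega)).trans ih) ?_) (hNconj _ (by omega))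
      intro a ha
      exact (hsw i a).2 (ih (hNn (i + 1) (by omega) a ha))
  refine ⟨M₂, n, fun i => (seq M₁ M₂ i).1, fun i => (seq M₁ M₂ i).2, rfl, ?_, rfl, rfl,
    fun i => rfl, fun i => rfl, ?_, ?_⟩
  · intro heq
    have hM : ∀ a ∈ M₁, n * a * n ∈ M₁ := by
      intro a ha
      rw [← h2, ← heq]
      exact ha
    have hMc : ∀ m ∈ M₁, ∀ a ∈ M₁, m * a * m⁻¹ ∈ M₁ := fun m hm a ha =>
      mul_mem (mul_mem hm ha) (inv_mem hm)
    have h3 : ∀ i, M₁ ≤ N (i + 2) := by
      intro i
      induction i with
      | zero => exact hup1 M₁ le_rfl hMc hM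
      | succ i ih => exact hup (i + 2) (by omega) M₁ le_rfl ih hMc fun a ha => ih (hM a ha)
    have h4 : M₁ = ⊥ := by
      rw [eq_bot_iff, ← h7]
      exact h3 5
    apply h6
    rw [eq_bot_iff, ← h4]
    exact hlow 5 |>.trans (by
      show cc M₁ _ ≤ M₁
      exact cc_le_left _ _)
  · have := hup' 5
    rw [eq_bot_iff, ← h7]
    exact this
  · intro h5
    apply h6
    rw [eq_bot_iff]
    have := hlow 5
    exact this.trans (le_of_eq h5)

end Cfsg.Agent.H899.IterCore
end

-- part: H899/ChevPar
section
/-!
The maximal parabolic subgroup of `E₈(2)` of the branch node and its conjugate by the simple reflection: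
the iterated cores vanish at the sixth step only.
-/

set_option autoImplicit false

namespace Cfsg.Agent.H899.ChevPar

open Cfsg Cfsg.Lie Cfsg.Agent.ChevStructure.Level Cfsg.Agent.ChevalleyStructure.Elts
  Cfsg.Agent.ChevalleyStructure.NConj Cfsg.Agent.H899.ChevLv Cfsg.Agent.H899.E8Tab
  Cfsg.Agent.H899.ChevNS Cfsg.Agent.H899.ChevElim Cfsg.Agent.LieExceptional.BNPairCore

universe u

variable {D : ChevalleyDatum} (hD : InList D) {F : Type u} [Field F]
  (hF : ∀ t : F, t = 0 ∨ t = 1)

/-- `x_r(1)` in the Chevalley group. -/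
def xg (F : Type u) [Field F] (r : ℕ) : ↥(D.group F) := ⟨xG hD r (1 : F), xG_mem_group hD r 1⟩

/-- `n_j` in the Chevalley group. -/
def ng (F : Type u) [Field F] (j : ℕ) : ↥(D.group F) := ⟨nS hD F j, nG_mem_group hD _ 1⟩

/-- The matrix of an element of the Chevalley group. -/
abbrev mt (g : ↥(D.group F)) : Matrix D.Idx D.Idx F := ((g : GL D.Idx F) : Matrix D.Idx D.Idx F)

theorem mt_mul (g h : ↥(D.group F)) : mt (g * h) = mt g * mt h := rfl
theorem mt_one : mt (1 : ↥(D.group F)) = 1 := rfl
theorem mt_ng (j : ℕ) : mt (ng hD F j) = D.nMat F (D.simple j) 1 := coe_nG hD _ 1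

include hF in
theorem xg_sq (r : ℕ) : xg hD F r * xg hD F r = 1 := Subtype.ext (xG_sq hD hF r)

include hF in
theorem xg_inv (r : ℕ) : (xg hD F r)⁻¹ = xg hD F r := inv_eq_of_mul_eq_one_right (xg_sq hD hF r)

include hF in
theorem ng_inv (j : ℕ) : (ng hD F j)⁻¹ = ng hD F j := Subtype.ext (nG_inv_one hD hF _)

include hF in
theorem ng_sq (j : ℕ) : ng hD F j * ng hD F j = 1 := by
  conv_lhs => rw [← ng_inv hD hF j]
  rw [ng_inv hD hF j, mul_eq_one_iff_inv_eq, ng_inv hD hF j]

/-- The stabiliser of the filtration defined by a level function. -/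
def Fil (D : ChevalleyDatum) (F : Type u) [Field F] (ℓ : D.Idx → ℕ) : Subgroup ↥(D.group F) where
  carrier := {g | Raises ℓ 0 (mt g) ∧ Raises ℓ 0 (mt g⁻¹)}
  one_mem' := by
    refine ⟨raises_one, ?_⟩
    rw [inv_one]
    exact raises_one
  mul_mem' := by
    rintro a b ⟨ha, ha'⟩ ⟨hb, hb'⟩
    refine ⟨by simpa [mt_mul] using ha.mul hb, ?_⟩
    rw [mul_inv_rev]
    simpa [mt_mul] using hb'.mul ha'
  inv_mem' := by
    rintro a ⟨ha, ha'⟩
    refine ⟨ha', ?_⟩
    rw [inv_inv]
    exact ha

theorem mem_Fil {ℓ : D.Idx → ℕ} {g : ↥(D.group F)} :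
    g ∈ Fil D F ℓ ↔ Raises ℓ 0 (mt g) ∧ Raises ℓ 0 (mt g⁻¹) := Iff.rfl

include hF in
theorem xg_mem_Fil (hT : Tab D) {f : ℕ → ℕ} {off : ℕ} (hf : Good D f off) {r : ℕ} (hr : r < 240)
    (hr' : 120 ≤ r) : xg hD F r ∈ Fil D F (lv D off f) := by
  have h1 : Raises (lv D off f) 0 (mt (xg hD F r)) :=
    (hf.up hr hr').raises_zero (F := F) (by rw [hT.nroots]; exact hr) 1
  refine ⟨h1, ?_⟩
  rw [xg_inv hD hF]
  exact h1

include hF in
theorem ng_mem_Fil (hT : Tab D) {j : ℕ} (hj : j < 8) (hj3 : j ≠ 3) :
    ng hD F j ∈ Fil D F (lv D 6 lev) := by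
  have h1 : Raises (lv D 6 lev) 0 (mt (ng hD F j)) := by
    intro row col h
    rw [mt_ng] at h
    have h2 := nMat_pattern (off := 6) (m := lev) hD (by rw [hT.rank]; exact hj) h
    have h3 : lv D 6 (fun s => lev (D.reflectRoot j s)) = lv D 6 lev := by
      refine lv_congr fun s hs => ?_
      rw [hT.nroots] at hs
      rw [hT.refl_eq j hj s hs]
      exact (refl_spec hj hs).2.2.2 hj3
    rw [h3] at h2
    omega
  refine ⟨h1, ?_⟩
  rw [ng_inv hD hF]
  exact h1

/-- `n_j` does not preserve a filtration whose level separates `±α_j`. -/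
theorem ng_not_mem_Fil (hT : Tab D) {f : ℕ → ℕ} {off : ℕ} (hf : ∀ r < 240, Add D f off r) {j : ℕ}
    (hj : j < 8) (hpos : off < f (D.simple j)) : ng hD F j ∉ Fil D F (lv D off f) := by
  intro h
  have h1 := (mem_Fil.1 h).1
  rw [mt_ng] at h1
  obtain ⟨η, h2, h3, -, -, h5⟩ := S1095.result (F := F) D hD j (by rw [hT.rank]; exact hj)
  have hs := (hT.simple j hj).1
  have hn : D.neg (D.simple j) < D.nroots := by rw [hT.nroots, hT.neg_eq _ hs]; omega
  have h6 : D.nMat F (D.simple j) 1 (Sum.inr ⟨D.neg (D.simple j), hn⟩)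
      (Sum.inr ⟨D.simple j, by rw [hT.nroots]; exact hs⟩) ≠ 0 := by
    rw [h5]
    show (if D.neg (D.simple j) = D.reflectRoot j (D.simple j) then ((η (D.simple j) : ℤ) : F) else 0) ≠ 0
    have hr : D.reflectRoot j (D.simple j) = D.neg (D.simple j) := if_pos rfl
    rw [if_pos hr.symm, h3]
    simp
  have h7 := h1 _ _ h6
  have h8 : f (D.simple j) + 0 ≤ f (D.neg (D.simple j)) := h7
  have h9 : f (D.neg (D.simple j)) + f (D.simple j) = 2 * off := (hf _ hs).neg
  omega

/-! ### The parabolic subgroup -/

/-- The representatives of the simple reflections other than the branch node. -/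
def JS (D : ChevalleyDatum) (F : Type u) [Field F] : Set ↥(D.group F) :=
  {n | ∃ i < D.rank, i ≠ 3 ∧ mt n = D.nMat F (D.simple i) 1}

section BN

variable {P : BNPair ↥(D.group F)}
  (hPB : P.B = (D.borelSubgroup F).subgroupOf (D.group F))
  (hPS : P.S = {n : ↥(D.group F) | ∃ i < D.rank, mt n = D.nMat F (D.simple i) 1})

theorem eq_ng {i : ℕ} {n : ↥(D.group F)} (h : mt n = D.nMat F (D.simple i) 1) : n = ng hD F i :=
  Subtype.ext ((eq_nG_iff hD _ _ _).2 h)

include hPB hD hF in
theorem B_le_of (K : Subgroup ↥(D.group F)) (hT : Tab D) (h : ∀ r < 240, 120 ≤ r → xg hD F r ∈ K) :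
    P.B ≤ K := by
  have hU : D.posUnipotent F ≤ K.map (D.group F).subtype := by
    rw [posUnipotent_le_iff hD]
    intro r hr t
    have h1 := (hT.pos_iff r).1 hr
    rcases hF t with rfl | rfl
    · rw [xG_zero]
      exact one_mem _
    · exact ⟨xg hD F r, h r h1.1 h1.2, rfl⟩
  intro g hg
  rw [hPB, Subgroup.mem_subgroupOf] at hg
  have h2 : D.borelSubgroup F = D.posUnipotent F := by
    show D.posUnipotent F ⊔ D.diagonalSubgroup F = _
    rw [diagonal_eq_bot hD hF, sup_bot_eq]
  rw [h2] at hg
  obtain ⟨k, hk, hkg⟩ := hU hg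
  have : k = g := Subtype.ext hkg
  rwa [← this]

include hPB in
theorem mem_B_of_posUnipotent {g : ↥(D.group F)} (hg : (g : GL D.Idx F) ∈ D.posUnipotent F) :
    g ∈ P.B := by
  rw [hPB, Subgroup.mem_subgroupOf]
  exact (le_sup_left : D.posUnipotent F ≤ D.borelSubgroup F) hg

include hPB hD hF in
theorem posUnipotent_of_mem_B {g : ↥(D.group F)} (hg : g ∈ P.B) :
    (g : GL D.Idx F) ∈ D.posUnipotent F := by
  rw [hPB, Subgroup.mem_subgroupOf] at hg
  have h2 : D.borelSubgroup F = D.posUnipotent F := by
    show D.posUnipotent F ⊔ D.diagonalSubgroup F = _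
    rw [diagonal_eq_bot hD hF, sup_bot_eq]
  rwa [h2] at hg

include hPB hD hF in
theorem parabolic_le_of (K : Subgroup ↥(D.group F)) (hT : Tab D)
    (h : ∀ r < 240, 120 ≤ r → xg hD F r ∈ K) (hn : ∀ j < 8, j ≠ 3 → ng hD F j ∈ K) :
    P.parabolic (JS D F) ≤ K := by
  refine sup_le (B_le_of hD hF hPB K hT h) ((Subgroup.closure_le _).2 ?_)
  rintro n ⟨i, hi, hi3, hn'⟩
  rw [eq_ng hD hn']
  exact hn i (by rw [← hT.rank]; exact hi) hi3

theorem ng_mem_parabolic (hT : Tab D) {j : ℕ} (hj : j < 8) (hj3 : j ≠ 3) :
    ng hD F j ∈ P.parabolic (JS D F) :=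
  (le_sup_right : _ ≤ P.parabolic (JS D F))
    (Subgroup.subset_closure ⟨j, by rw [hT.rank]; exact hj, hj3, mt_ng hD j⟩)

include hPB hD hF in
theorem parabolic_le_Fil (hT : Tab D) : P.parabolic (JS D F) ≤ Fil D F (lv D 6 lev) :=
  parabolic_le_of hD hF hPB _ hT (fun _ hr hr' => xg_mem_Fil hD hF hT (good_lev hT) hr hr')
    fun _ hj hj3 => ng_mem_Fil hD hF hT hj hj3

include hD hF hPB hPS in
theorem isCoatom (hT : Tab D) (h3 : 6 < lev (D.simple 3)) : IsCoatom (P.parabolic (JS D F)) := by
  constructor
  · intro htop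
    have h1 : ng hD F 3 ∈ Fil D F (lv D 6 lev) := by
      apply parabolic_le_Fil hD hF hPB hT
      rw [htop]
      exact Subgroup.mem_top _
    exact ng_not_mem_Fil hD hT hT.lev_add (by norm_num) h3 h1
  · intro M hM
    have hBM : P.B ≤ M := le_sup_left.trans hM.le
    by_cases h : ng hD F 3 ∈ M
    · have hS : P.S ⊆ M := by
        intro n hn
        rw [hPS] at hn
        obtain ⟨i, hi, hn⟩ := hn
        rw [eq_ng hD hn]
        by_cases hi3 : i = 3
        · rw [hi3]; exact h
        · exact hM.le (ng_mem_parabolic hD hT (by rw [← hT.rank]; exact hi) hi3)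
      rw [eq_top_iff, ← P.sup_eq_top, ← P.closure_sup]
      refine sup_le hBM (sup_le ((Subgroup.closure_le _).2 hS) (inf_le_left.trans hBM))
    · exfalso
      have h1 : M ≤ P.parabolic (JS D F) := by
        rw [eq_parabolic hBM]
        refine sup_le le_sup_left ?_
        refine ((Subgroup.closure_le _).2 ?_).trans le_sup_right
        rintro n ⟨hnS, hnM⟩
        refine Subgroup.subset_closure ?_
        rw [hPS] at hnS
        obtain ⟨i, hi, hn⟩ := hnS
        refine ⟨i, hi, ?_, hn⟩
        rintro rfl
        exact h (by rw [← eq_ng hD hn]; exact hnM)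
      exact hM.not_ge h1

/-! ### The subgroups `N k` -/

/-- generated by the root elements of level at least `k`. -/
def Nk (F : Type u) [Field F] (k : ℕ) : Subgroup ↥(D.group F) :=
  (NS hD F (Rf lev (6 + k))).subgroupOf (D.group F)

theorem mem_Nk {k : ℕ} {g : ↥(D.group F)} :
    g ∈ Nk hD F k ↔ (g : GL D.Idx F) ∈ NS hD F (Rf lev (6 + k)) := Subgroup.mem_subgroupOf

include hF in
theorem conj_Nk_x (hT : Tab D) {k : ℕ} {r : ℕ} (hr : r < 240) (hr' : 120 ≤ r) {a : ↥(D.group F)}
    (ha : a ∈ Nk hD F k) : xg hD F r * a * (xg hD F r)⁻¹ ∈ Nk hD F k := by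
  rw [mem_Nk] at ha ⊢
  have h1 := conj_x_NS hD hF hT (good_lev hT) hr hr' (1 : F) ha
  have h2 : (((xg hD F r * a * (xg hD F r)⁻¹ : ↥(D.group F))) : GL D.Idx F) =
      (xG hD r (1 : F))⁻¹ * (a : GL D.Idx F) * xG hD r 1 := by
    rw [xG_inv_one hD hF]
    show xG hD r 1 * (a : GL D.Idx F) * (xG hD r 1)⁻¹ = _
    rw [xG_inv_one hD hF]
  rw [h2]
  exact h1

include hF in
theorem conj_Nk_n (hT : Tab D) {k : ℕ} (hk : 1 ≤ k) {j : ℕ} (hj : j < 8) (hj3 : j ≠ 3)
    {a : ↥(D.group F)} (ha : a ∈ Nk hD F k) : ng hD F j * a * (ng hD F j)⁻¹ ∈ Nk hD F k := by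
  rw [mem_Nk] at ha ⊢
  refine conj_n_NS hD hF hT hj (R := Rf lev (6 + k)) ?_ ha
  rintro s ⟨hs, hs', hsk⟩
  obtain ⟨-, h2, -, h4⟩ := refl_spec hj hs
  have h5 := h4 hj3
  refine ⟨hs, h2, ?_, by omega⟩
  exact (refl3_spec h2).2.1 (by omega)

include hF in
theorem conj_Nk_n3 (hT : Tab D) {k : ℕ} (hk : 1 ≤ k) {a : ↥(D.group F)} (ha : a ∈ Nk hD F (k + 1)) :
    ng hD F 3 * a * ng hD F 3 ∈ Nk hD F k := by
  rw [mem_Nk] at ha ⊢
  have h1 := conj_n_NS hD hF hT (j := 3) (by norm_num) (R := Rf lev (6 + (k + 1)))
    (R' := Rf lev (6 + k)) ?_ ha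
  · rw [nG_inv_one hD hF] at h1
    exact h1
  · rintro s ⟨hs, hs', hsk⟩
    obtain ⟨-, h2, -, -⟩ := refl_spec (j := 3) (by norm_num) hs
    have h5 := (refl3_spec hs).1 (by omega)
    refine ⟨hs, h2, ?_, by omega⟩
    exact (refl3_spec h2).2.1 (by omega)

include hF hPB in
theorem conj_Nk (hT : Tab D) {k : ℕ} (hk : 1 ≤ k) {m a : ↥(D.group F)}
    (hm : m ∈ P.parabolic (JS D F)) (ha : a ∈ Nk hD F k) : m * a * m⁻¹ ∈ Nk hD F k := by
  have hinvol : ∀ x : ↥(D.group F), x⁻¹ = x → (∀ a ∈ Nk hD F k, x * a * x⁻¹ ∈ Nk hD F k) →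
      x ∈ Subgroup.normalizer (Nk hD F k : Set ↥(D.group F)) := by
    intro x hx h
    rw [Subgroup.mem_normalizer_iff]
    intro a
    constructor
    · exact h a
    · intro h1
      have h2 := h _ h1
      have h3 : x * (x * a * x⁻¹) * x⁻¹ = a := by
        nth_rw 1 [← hx]
        nth_rw 3 [hx]
        group
      rwa [h3] at h2
  have hle : P.parabolic (JS D F) ≤ Subgroup.normalizer (Nk hD F k : Set ↥(D.group F)) := by
    refine parabolic_le_of hD hF hPB _ hT ?_ ?_
    · intro r hr hr'
      exact hinvol _ (xg_inv hD hF r) fun a ha => conj_Nk_x hD hF hT hr hr' ha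
    · intro j hj hj3
      exact hinvol _ (ng_inv hD hF j) fun a ha => conj_Nk_n hD hF hT hk hj hj3 ha
  exact (Subgroup.mem_normalizer_iff.1 (hle hm) a).1 ha

/-! ### Upper bounds -/

theorem raises_sub_one_zero {ℓ : D.Idx → ℕ} {g : ↥(D.group F)} (h : Raises ℓ 0 (mt g)) :
    Raises ℓ 0 (mt g - 1) := h.sub raises_one

include hF in
/-- Conjugating an element by `n_j`: levels are composed with the reflection. -/
theorem raises_conj_ng (hT : Tab D) {j : ℕ} (hj : j < 8) {k : ℕ} {m : ℕ → ℕ} {g : ↥(D.group F)}
    (h : Raises (lv D 6 m) k (mt (ng hD F j * g * (ng hD F j)⁻¹) - 1)) :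
    Raises (lv D 6 (fun s => m (refl j s))) k (mt g - 1) := by
  have h1 := raises_conj (off := 6) (m := m) (i := j) hD (by rw [hT.rank]; exact hj) (F := F) ?_ h
  · have h2 : D.nMat F (D.simple j) 1 * (mt (ng hD F j * g * (ng hD F j)⁻¹) - 1) *
        D.nMat F (D.simple j) 1 = mt g - 1 := by
      rw [← mt_ng hD j, mul_sub, mul_one, sub_mul, ← mt_mul, ← mt_mul, ← mt_mul]
      have h3 : ng hD F j * (ng hD F j * g * (ng hD F j)⁻¹) * ng hD F j = g := by
        have h4 := ng_sq hD hF j
        calc ng hD F j * (ng hD F j * g * (ng hD F j)⁻¹) * ng hD F j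
            = (ng hD F j * ng hD F j) * g := by group
          _ = g := by rw [h4, one_mul]
      rw [h3, ng_sq hD hF, mt_one]
    rw [h2] at h1
    have h3 : lv D 6 (fun s => m (D.reflectRoot j s)) = lv D 6 (fun s => m (refl j s)) := by
      refine lv_congr fun s hs => ?_
      rw [hT.nroots] at hs
      rw [hT.refl_eq j hj s hs]
    rw [h3] at h1
    exact h1
  · intro s hs
    rw [hT.nroots] at hs
    obtain ⟨-, h5, h6, -⟩ := refl_spec hj hs
    rw [hT.refl_eq j hj s hs, hT.refl_eq j hj _ h5, h6]

include hF in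
/-- All the row levels are raised. -/
theorem raises_rows (hT : Tab D) {K : Subgroup ↥(D.group F)}
    (hK : ∀ j < 8, j ≠ 3 → ∀ a ∈ K, ng hD F j * a * (ng hD F j)⁻¹ ∈ K) {k : ℕ}
    (h0 : ∀ g ∈ K, Raises (lv D 6 (row 0)) k (mt g - 1)) (t : ℕ) (ht : t < 30) :
    ∀ g ∈ K, Raises (lv D 6 (row t)) k (mt g - 1) := by
  induction t using Nat.strong_induction_on with
  | _ t ih =>
    by_cases ht0 : t = 0
    · rw [ht0]; exact h0
    · intro g hg
      obtain ⟨p, hp, j, hj, hj3, hrow⟩ := row_succ ht ht0
      have h1 := ih p hp (by omega) _ (hK j hj hj3 g hg)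
      have h2 := raises_conj_ng hD hF hT hj h1
      have h3 : lv D 6 (row t) = lv D 6 (fun s => row p (refl j s)) := by
        refine lv_congr fun s hs => ?_
        rw [hT.nroots] at hs
        exact hrow s hs
      rw [h3]
      exact h2

include hF in
theorem raises_row_zero (hT : Tab D) {k : ℕ} {g : ↥(D.group F)}
    (h : Raises (lv D 6 lev) k (mt (ng hD F 3 * g * ng hD F 3) - 1)) :
    Raises (lv D 6 (row 0)) k (mt g - 1) := by
  have h1 : Raises (lv D 6 lev) k (mt (ng hD F 3 * g * (ng hD F 3)⁻¹) - 1) := by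
    rw [ng_inv hD hF]; exact h
  have h2 := raises_conj_ng hD hF hT (by norm_num) h1
  have h3 : lv D 6 (row 0) = lv D 6 (fun s => lev (refl 3 s)) := by
    refine lv_congr fun s hs => ?_
    rw [hT.nroots] at hs
    exact row_zero hs
  rw [h3]
  exact h2

theorem entry_sub_one (M : Matrix D.Idx D.Idx F) (β : Fin D.nroots) (i : Fin D.rank) :
    (M - 1) (Sum.inr β) (Sum.inl i) = M (Sum.inr β) (Sum.inl i) := by
  rw [Matrix.sub_apply, Matrix.one_apply_ne (by simp), sub_zero]

include hF hPB hPS in
theorem upper_one (hT : Tab D) {K : Subgroup ↥(D.group F)} (hKM : K ≤ P.parabolic (JS D F))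
    (hK : ∀ m ∈ P.parabolic (JS D F), ∀ a ∈ K, m * a * m⁻¹ ∈ K)
    (hKn : ∀ a ∈ K, ng hD F 3 * a * ng hD F 3 ∈ P.parabolic (JS D F)) : K ≤ Nk hD F 2 := by
  have hrow : ∀ t < 30, ∀ g ∈ K, Raises (lv D 6 (row t)) 0 (mt g - 1) := by
    refine raises_rows hD hF hT (fun j hj hj3 a ha => hK _ (ng_mem_parabolic hD hT hj hj3) a ha) ?_
    intro g hg
    refine raises_row_zero hD hF hT (raises_sub_one_zero ?_)
    exact (parabolic_le_Fil hD hF hPB hT (hKn g hg)).1
  have hlev : ∀ g ∈ K, Raises (lv D 6 lev) 0 (mt g) := fun g hg =>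
    (parabolic_le_Fil hD hF hPB hT (hKM hg)).1
  have hrow' : ∀ t < 30, ∀ g ∈ K, Raises (lv D 6 (row t)) 0 (mt g) := by
    intro t ht g hg
    have h2 := (hrow t ht g hg).add raises_one
    rwa [sub_add_cancel] at h2
  -- `K` preserves the `lam` filtration
  have hlam : ∀ g ∈ K, Raises (lv D 4000 lam) 0 (mt g) := by
    intro g hg a b h
    have h1 := hlev g hg a b h
    have h2 : ∀ t < 30, lv D 6 (row t) b + 0 ≤ lv D 6 (row t) a := fun t ht => hrow' t ht g hg a b h
    rcases a with i | s <;> rcases b with j | s'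
    · exact le_rfl
    · have hs : s'.val < 240 := lt_of_lt_of_eq s'.2 hT.nroots
      have h3 : lev s' + 0 ≤ 6 := h1
      show lam s' + 0 ≤ 4000
      have h4 := lam_ref_spec hs
      by_cases h5 : lev s' < 6
      · have := h4.1 h5
        omega
      · exfalso
        obtain ⟨-, t, ht, h6⟩ := ex_zero_spec hs (by omega)
        have h7 : row t s' + 0 ≤ 6 := h2 t ht
        omega
    · have hs : s.val < 240 := lt_of_lt_of_eq s.2 hT.nroots
      have h3 : 6 + 0 ≤ lev s := h1
      show 4000 + 0 ≤ lam s
      have h4 := lam_ref_spec hs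
      by_cases h5 : 6 < lev s
      · have := h4.2.1 h5
        omega
      · exfalso
        obtain ⟨⟨t, ht, h6⟩, -⟩ := ex_zero_spec hs (by omega)
        have h7 : 6 + 0 ≤ row t s := h2 t ht
        omega
    · have hs : s.val < 240 := lt_of_lt_of_eq s.2 hT.nroots
      have hs' : s'.val < 240 := lt_of_lt_of_eq s'.2 hT.nroots
      have h3 : lev s' + 0 ≤ lev s := h1
      show lam s' + 0 ≤ lam s
      by_cases h5 : lev s' < lev s
      · have := (lam_ref_spec hs').2.2.2 s hs h5
        omega
      · by_cases h6 : s.val = s'.val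
        · rw [h6]; omega
        · exfalso
          obtain ⟨t, ht, h7⟩ := ex_sep_spec hs hs' (by omega) h6
          have h8 : row t s' + 0 ≤ row t s := h2 t ht
          omega
  have hKQ : K ≤ Fil D F (lv D 4000 lam) := fun g hg => ⟨hlam g hg, hlam g⁻¹ (inv_mem hg)⟩
  have hBQ : P.B ≤ Fil D F (lv D 4000 lam) :=
    B_le_of hD hF hPB _ hT fun _ hr hr' => xg_mem_Fil hD hF hT (good_lam hT) hr hr'
  have hSQ : P.S ∩ (Fil D F (lv D 4000 lam) : Set ↥(D.group F)) = ∅ := by
    rw [Set.eq_empty_iff_forall_notMem]
    rintro n ⟨hnS, hnQ⟩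
    rw [hPS] at hnS
    obtain ⟨i, hi, hn⟩ := hnS
    rw [hT.rank] at hi
    rw [eq_ng hD hn] at hnQ
    exact ng_not_mem_Fil hD hT hT.lam_add hi
      (lam_pos_spec (hT.simple i hi).1 (hT.simple i hi).2) hnQ
  have hQB : Fil D F (lv D 4000 lam) = P.B := by
    rw [eq_parabolic hBQ, hSQ]
    show P.B ⊔ Subgroup.closure ∅ = P.B
    rw [Subgroup.closure_empty, sup_bot_eq]
  intro g hg
  have hgB : g ∈ P.B := by
    rw [← hQB]
    exact hKQ hg
  rw [mem_Nk]
  refine elim hD hF hT (posUnipotent_of_mem_B hD hF hPB hgB) ?_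
  intro β hβ hlt i
  by_contra hne
  have hs : β.val < 240 := lt_of_lt_of_eq β.2 hT.nroots
  have h1 : 6 + 0 ≤ lev β := hlev g hg _ _ hne
  have h2 : ∀ t < 30, 6 + 0 ≤ row t β := fun t ht => hrow' t ht g hg _ _ hne
  by_cases h6 : lev β = 6
  · obtain ⟨⟨t, ht, h7⟩, -⟩ := ex_zero_spec hs h6
    have := h2 t ht
    omega
  · obtain ⟨t, ht, h7⟩ := ex_one_spec hs (by omega)
    have := h2 t ht
    omega

include hF in
theorem upper_step (hT : Tab D) {k : ℕ} (hk : 2 ≤ k) {K : Subgroup ↥(D.group F)}
    (hKN : K ≤ Nk hD F k)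
    (hK : ∀ m ∈ P.parabolic (JS D F), ∀ a ∈ K, m * a * m⁻¹ ∈ K)
    (hKn : ∀ a ∈ K, ng hD F 3 * a * ng hD F 3 ∈ Nk hD F k) : K ≤ Nk hD F (k + 1) := by
  obtain ⟨k', rfl⟩ : ∃ k', k = k' + 1 := ⟨k - 1, by omega⟩
  have hraise : ∀ g ∈ Nk hD F (k' + 1), Raises (lv D 6 lev) (k' + 1) (mt g - 1) := by
    intro g hg
    exact NS_raises hD hT (good_lev hT) ((mem_Nk hD).1 hg)
  have hrow : ∀ t < 30, ∀ g ∈ K, Raises (lv D 6 (row t)) (k' + 1) (mt g - 1) := by
    refine raises_rows hD hF hT (fun j hj hj3 a ha => hK _ (ng_mem_parabolic hD hT hj hj3) a ha) ?_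
    intro g hg
    exact raises_row_zero hD hF hT (hraise _ (hKn g hg))
  intro g hg
  rw [mem_Nk]
  refine elim hD hF hT (NS_le_posUnipotent hD hT ((mem_Nk hD).1 (hKN hg))) ?_
  intro β hβ hlt i
  by_contra hne
  have hs : β.val < 240 := lt_of_lt_of_eq β.2 hT.nroots
  have hne' : (mt g - 1) (Sum.inr β) (Sum.inl i) ≠ 0 := by
    rw [entry_sub_one]
    exact hne
  have h1 : 6 + (k' + 1) ≤ lev β := hraise g (hKN hg) _ _ hne'
  obtain ⟨t, ht, h2⟩ := ex_pos_spec hs (by omega)
  have h3 : 6 + (k' + 1) ≤ row t β := hrow t ht g hg _ _ hne'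
  omega

end BN

include hD hF in
theorem main (hT : Tab D) (h3 : 6 < lev (D.simple 3)) (h239 : lev 239 = 12)
    (hsimple : IsSimpleGroup ↥(D.group F)) :
    ∃ (M₁ M₂ : Subgroup ↥(D.group F)) (g : ↥(D.group F)) (A B : ℕ → Subgroup ↥(D.group F)),
      IsCoatom M₁ ∧ M₂ = M₁.map (MulAut.conj g).toMonoidHom ∧ M₁ ≠ M₂ ∧ M₁.normalCore = ⊥ ∧
      A 0 = M₁ ∧ B 0 = M₂ ∧
      (∀ i, A (i + 1) = ((A i ⊓ B i).subgroupOf M₁).normalCore.map M₁.subtype) ∧
      (∀ i, B (i + 1) = ((A i ⊓ B i).subgroupOf M₂).normalCore.map M₂.subtype) ∧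
      A 6 = ⊥ ∧ A 5 ≠ ⊥ := by
  obtain ⟨P, hPB, -, hPS⟩ := Cfsg.Agent.S1042.result (F := F) D hD
  have hco := isCoatom hD hF hPB hPS hT h3
  have hmain := Cfsg.Agent.H899.IterCore.main (P.parabolic (JS D F)) (ng hD F 3) (ng_sq hD hF 3)
    (Nk hD F) ?_ (fun k hk m hm a ha => conj_Nk hD hF hPB hT hk hm ha) ?_
    (fun k hk a ha => conj_Nk_n3 hD hF hT hk ha) ?_ ?_
    (fun K h1 h2 h3 => upper_one hD hF hPB hPS hT h1 h2 h3)
    (fun k hk K _ h2 h3 h4 => upper_step hD hF hT hk h2 h3 h4)
  · obtain ⟨M₂, g, A, B, e1, e2, e3, e4, e5, e6, e7, e8⟩ := hmain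
    refine ⟨P.parabolic (JS D F), M₂, g, A, B, hco, e1, e2, ?_, e3, e4, e5, e6, e7, e8⟩
    rcases hsimple.eq_bot_or_eq_top_of_normal _ (Subgroup.normalCore_normal (P.parabolic (JS D F)))
      with h | h
    · exact h
    · exfalso
      apply hco.1
      rw [eq_top_iff, ← h]
      exact Subgroup.normalCore_le _
  · intro g hg
    refine (le_sup_left : P.B ≤ _) (mem_B_of_posUnipotent hPB ?_)
    exact NS_le_posUnipotent hD hT ((mem_Nk hD).1 hg)
  · intro k _ g hg
    rw [mem_Nk] at hg ⊢
    refine NS_mono hD ?_ hg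
    rintro r ⟨hr, hr', hrk⟩
    exact ⟨hr, hr', by omega⟩
  · intro h
    have h1 : xg hD F 239 ∈ Nk hD F 6 := by
      rw [mem_Nk]
      exact one_mem_NS hD ⟨by norm_num, by norm_num, by rw [h239]⟩
    rw [h, Subgroup.mem_bot] at h1
    have h2 : xG hD 239 (1 : F) = 1 := congrArg Subtype.val h1
    rw [xG_eq_one_iff hD (by rw [hT.nroots]; norm_num)] at h2
    exact one_ne_zero h2
  · rw [eq_bot_iff]
    intro g hg
    rw [mem_Nk] at hg
    have h1 : Rf lev (6 + 7) = ∅ := by
      rw [Set.eq_empty_iff_forall_notMem]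
      rintro r ⟨hr, -, hrk⟩
      have := (refl3_spec hr).2.2
      omega
    rw [h1] at hg
    have h2 : NS hD F (∅ : Set ℕ) = ⊥ := by
      rw [eq_bot_iff]
      refine (Subgroup.closure_le _).2 ?_
      rintro x ⟨r, hr, -⟩
      exact absurd hr (Set.notMem_empty r)
    rw [h2, Subgroup.mem_bot] at hg
    rw [Subgroup.mem_bot]
    exact Subtype.ext hg

end Cfsg.Agent.H899.ChevPar
end

-- part: S5751
section
set_option autoImplicit false
open Cfsg

namespace Cfsg.Agent.S5751

open Cfsg.Lie Cfsg.Agent.H899.E8Tab

theorem inListE8 : chevE8 ∈ [chevG2, chevB2, chevD4, chevF4, chevE6, chevE7, chevE8] := by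
  simp only [List.mem_cons, List.not_mem_nil, or_false, or_true]

theorem zmod2 : ∀ t : ZMod 2, t = 0 ∨ t = 1 := by decide

theorem lev_simple3 : 6 < lev (chevE8.simple 3) := by decide +kernel

theorem lev_239 : lev 239 = 12 := by decide +kernel

/-- An extremal example for iterated cores of conjugate maximal subgroups: there exist a finite group G and two distinct conjugate maximal subgroups M₁, M₂ of G, with M₁ having trivial core in G, such that, if we define two descending sequences of subgroups by A₀ = M₁, B₀ = M₂ and, for every i, A_{i+1} = the core in M₁ of A_i ∩ B_i and B_{i+1} = the core in M₂ of A_i ∩ B_i (the core in M of a subgroup Y ≤ M is the largest normal subgroup of M contained in Y), the subgroup A₆ is trivial while A₅ is not (so the index 6 cannot be lowered to 5). (One example is a maximal parabolic subgroup of the Chevalley group of type E₈ over a finite field and a suitable conjugate of it.) -/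
theorem result :
    ∃ (G : Type) (_ : Group G) (_ : Finite G) (M₁ M₂ : Subgroup G) (g : G) (A B : ℕ → Subgroup G),
      IsCoatom M₁ ∧ M₂ = M₁.map (MulAut.conj g).toMonoidHom ∧ M₁ ≠ M₂ ∧ M₁.normalCore = ⊥ ∧ A 0 = M₁ ∧ B 0 = M₂ ∧
      (∀ i, A (i + 1) = ((A i ⊓ B i).subgroupOf M₁).normalCore.map M₁.subtype) ∧
      (∀ i, B (i + 1) = ((A i ⊓ B i).subgroupOf M₂).normalCore.map M₂.subtype) ∧ A 6 = ⊥ ∧ A 5 ≠ ⊥ := by
  haveI : Fact (Nat.Prime 2) := ⟨Nat.prime_two⟩
  obtain ⟨hs, -⟩ := Cfsg.Agent.S1054.result (F := ZMod 2) chevE8 (by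
    simp only [List.mem_cons, List.not_mem_nil, or_false, or_true])
  have hfin : Finite ↥(chevE8.group (ZMod 2)) := by
    haveI : Finite (GL chevE8.Idx (ZMod 2)) := inferInstance
    infer_instance
  exact ⟨↥(chevE8.group (ZMod 2)), inferInstance, hfin,
    Cfsg.Agent.H899.ChevPar.main inListE8 zmod2 tabE8 lev_simple3 lev_239 hs⟩

end Cfsg.Agent.S5751
end
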