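import Cfsg.Statements.S5764
import Cfsg.Agent.H786.FC.Final
set_option linter.all false

set_option autoImplicit false
open Cfsg

namespace Cfsg.Agent.S5764

/-- Let G be a finite almost simple group whose socle T (a non-abelian simple normal subgroup with trivial centralizer) is isomorphic to a linear group PSL_n(q), a unitary group PSU_n(q) or a symplectic group PSp_n(q) (in the sense of this problem's definitions, which already exclude the non-simple small cases; the derived group of PSp₄(2) is the alternating group of degree 6 ≅ PSL₂(9) and is covered). Then every solvable subgroup S of G has five conjugates with trivial intersection: S ∩ S^{x₁} ∩ S^{x₂} ∩ S^{x₃} ∩ S^{x₄} = 1 for some x₁, …, x₄ ∈ G. -/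
theorem result {G : Type*} [Group G] [Finite G] (T : Subgroup G) (hT : T.Normal) (hTs : IsSimpleGroup ↥T) (hTc : ¬ IsMulCommutative ↥T)
    (hTcent : Subgroup.centralizer (T : Set G) = ⊥) (hsoc : Cfsg.IsPSL ↥T ∨ Cfsg.IsPSU ↥T ∨ Cfsg.IsPSp ↥T)
    (S : Subgroup G) (hS : Group.IsSolvable ↥S) :
    ∃ x₁ x₂ x₃ x₄ : G, S ⊓ (S).map (MulAut.conj x₁).toMonoidHom ⊓ (S).map (MulAut.conj x₂).toMonoidHom ⊓ (S).map (MulAut.conj x₃).toMonoidHom ⊓ (S).map (MulAut.conj x₄).toMonoidHom = ⊥ := by
  exact H786.FC.final T hT hTs hTc hTcent hsoc S hS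

end Cfsg.Agent.S5764
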