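import Cfsg.Agent.Depth.S.GH4_m3
import Cfsg.Agent.Depth.N.Main_m3
import Cfsg.Agent.Depth.L.N59s2_m3
import Cfsg.Agent.Depth.K.Fin_m3
import Cfsg.Agent.Depth.P.Id_m3
import Cfsg.Agent.Depth.F.W24b_m3
import Cfsg.Agent.Depth.N.Run2_m3
import Cfsg.Agent.Depth.L.N59s4_m3
import Cfsg.Agent.Depth.L.N47s4_m3
import Cfsg.Statements.S5768
import Cfsg.Agent.Depth.P.T.Main
set_option linter.all false

-- part: Depth/K/Fin_mg
section

end

-- part: Depth/Top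
section
set_option linter.all false

/-!
# Depth (S5768): assembly
-/

set_option autoImplicit false

namespace Cfsg.Agent.Depth

theorem pi_weak {W : ℕ} {x lo up lo' up' : ℝ} (h : PI W (Real.exp x) lo up) (h1 : lo' ≤ lo) (h2 : up ≤ up') :
    PI W (Real.exp x) lo' up' := fun c y hc hy => by
  have hy0 : 0 ≤ y := (Real.exp_pos x).le.trans hy
  exact ⟨le_trans (by gcongr) (h c y hc hy).1, (h c y hc hy).2.trans (by gcongr)⟩

theorem piTab (h : P.Tabs) : N.PITab := by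
  refine ⟨⟨pi_weak (P.pi_60_0 h) ?_ ?_, pi_weak (P.pi_120_0 h) ?_ ?_, pi_weak (P.pi_840_0 h) ?_ ?_,
      pi_weak (P.pi_1320_0 h) ?_ ?_, pi_weak (P.pi_1560_0 h) ?_ ?_, pi_weak (P.pi_2040_0 h) ?_ ?_,
      pi_weak (P.pi_2280_0 h) ?_ ?_⟩,
    ⟨pi_weak (P.pi_60_1 h) ?_ ?_, pi_weak (P.pi_120_1 h) ?_ ?_, pi_weak (P.pi_840_1 h) ?_ ?_,
      pi_weak (P.pi_1320_1 h) ?_ ?_, pi_weak (P.pi_1560_1 h) ?_ ?_, pi_weak (P.pi_2040_1 h) ?_ ?_,
      pi_weak (P.pi_2280_1 h) ?_ ?_⟩,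
    ⟨pi_weak (P.pi_60_2 h) ?_ ?_, pi_weak (P.pi_120_2 h) ?_ ?_, pi_weak (P.pi_840_2 h) ?_ ?_,
      pi_weak (P.pi_1320_2 h) ?_ ?_, pi_weak (P.pi_1560_2 h) ?_ ?_, pi_weak (P.pi_2040_2 h) ?_ ?_,
      pi_weak (P.pi_2280_2 h) ?_ ?_⟩⟩ <;> norm_num

theorem goal_top (hL59 : LBox 59) (hL47 : LBox 47) (hP : P.Tabs) : Goal :=
  K.goal_of hL59 hL47 (M.mainBox (P.pp60 hP)) D.boxNu (R.boxR S.lemE S.gh4)
    (N.boxNum_of (piTab hP) D.boxM1' D.boxM3 D.boxM4' D.boxM5')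

end Cfsg.Agent.Depth
end

-- part: S5768
section
set_option linter.all false

set_option autoImplicit false
open Cfsg

namespace Cfsg.Agent.S5768

/-- Every alternating group has an unrefinable chain of subgroups of length at most 23: for every n there are t ≤ 23 and subgroups A_n = G₀ > G₁ > ⋯ > G_t = 1 with each G_{i+1} a maximal subgroup of G_i. (The known proof uses the classification of the finite simple groups and the ternary Goldbach theorem.) -/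
theorem result (n : ℕ) :
    ∃ (t : ℕ) (c : Fin (t + 1) → Subgroup ↥(alternatingGroup (Fin n))), t ≤ 23 ∧ c 0 = ⊤ ∧ c (Fin.last t) = ⊥ ∧
      ∀ i : Fin t, c i.succ ⋖ c i.castSucc := by
  exact Cfsg.Agent.Depth.goal_top Cfsg.Agent.Depth.L.lBox59 Cfsg.Agent.Depth.L.lBox47 Cfsg.Agent.Depth.P.T.tabs n

end Cfsg.Agent.S5768
end
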