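import Cfsg.Agent.H783.U34B
import Cfsg.Agent.H102.E7V.Pos_m3
import Cfsg.Statements.S5770
import Cfsg.Agent.H943.E7V.AdmMain
import Cfsg.Agent.H102.E7V.Psl34
import Cfsg.Agent.H62.GTwoEmb
set_option linter.all false

-- part: H783/U34
section
/-!
# `U₃(4)` is not in `E₇(2)` (task 2447, for S5770)
-/

set_option autoImplicit false

namespace Cfsg.Agent.H783.U34

theorem pos.{u} : U34A.Pos.{u} := by
  intro p M V hM hV G _ _ n σ χ hχ h0
  exact Cfsg.Agent.H484.Pos.pos hM hV σ hχ h0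

/-- **`U₃(4)` is not admissible.** -/
theorem not_psu34 {K : Type*} [Field K] [Fintype K] (hK : Fintype.card K = 16) :
    ¬ Cfsg.Agent.H943.E7V.Adm (Cfsg.PSU 3 K 4) :=
  U34B.not_psu34 pos hK

end Cfsg.Agent.H783.U34
end

-- part: S5770
section
set_option autoImplicit false
open Cfsg

namespace Cfsg.Agent.S5770

open Cfsg.Agent.H943.E7V in
/-- if the generalized Fitting subgroup of a subgroup of E7(2) is isomorphic to `S`, then `S` is admissible -/
theorem adm_of {S : Type*} [Group S] (H : Subgroup ↥(Cfsg.Lie.chevE7.group (ZMod 2)))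
    (e : ↥(Cfsg.generalizedFittingSubgroup ↥H) ≃* S) : Adm S :=
  AdmMain.adm.comap ((H.subtype.comp (Cfsg.generalizedFittingSubgroup ↥H).subtype).comp e.symm.toMonoidHom)
    ((H.subtype_injective.comp (Cfsg.generalizedFittingSubgroup ↥H).subtype_injective).comp e.symm.injective)

/-- The Chevalley group of type E₇ over the field with two elements (generated by its root elements in the adjoint representation; the simple group E₇(2)) has no maximal subgroup H whose generalized Fitting subgroup F*(H) is isomorphic to any of PSL₃(4), PSU₃(4), the Suzuki group Sz(8), the Chevalley group G₂(4) or PSL₃(16). Here F₄, F₈, F₁₆ denote fields with 4, 8 and 16 elements. -/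
theorem result {F₄ F₈ F₁₆ : Type*} [Field F₄] [Fintype F₄] (h4 : Fintype.card F₄ = 4) [Field F₈] [Fintype F₈] (h8 : Fintype.card F₈ = 8)
    [Field F₁₆] [Fintype F₁₆] (h16 : Fintype.card F₁₆ = 16) (H : Subgroup ↥(Cfsg.Lie.chevE7.group (ZMod 2))) (hH : IsCoatom H) :
    IsEmpty (↥(Cfsg.generalizedFittingSubgroup ↥H) ≃* Matrix.ProjectiveSpecialLinearGroup (Fin 3) F₄) ∧ IsEmpty (↥(Cfsg.generalizedFittingSubgroup ↥H) ≃* Cfsg.PSU 3 F₁₆ 4) ∧
    IsEmpty (↥(Cfsg.generalizedFittingSubgroup ↥H) ≃* ↥(Cfsg.Lie.Sz F₈ 4)) ∧ IsEmpty (↥(Cfsg.generalizedFittingSubgroup ↥H) ≃* ↥(Cfsg.Lie.chevG2.group F₄)) ∧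
    IsEmpty (↥(Cfsg.generalizedFittingSubgroup ↥H) ≃* Matrix.ProjectiveSpecialLinearGroup (Fin 3) F₁₆) := by
  refine ⟨⟨fun e => ?_⟩, ⟨fun e => ?_⟩, ⟨fun e => ?_⟩, ⟨fun e => ?_⟩, ⟨fun e => ?_⟩⟩
  · exact Cfsg.Agent.H102.E7V.not_psl34 h4 (adm_of H e)
  · exact Cfsg.Agent.H783.U34.not_psu34 h16 (adm_of H e)
  · exact Cfsg.Agent.H102.E7V.not_sz8 h8 (adm_of H e)
  · obtain ⟨f, hf⟩ := Cfsg.Agent.H62.GTwoEmb.psu_g2 h4 h16
    exact Cfsg.Agent.H783.U34.not_psu34 h16 ((adm_of H e).comap f hf)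
  · obtain ⟨f, hf⟩ := Cfsg.Agent.H62.GTwoEmb.psl_sub h4 h16
    exact Cfsg.Agent.H102.E7V.not_psl34 h4 ((adm_of H e).comap f hf)

end Cfsg.Agent.S5770
end
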