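import Cfsg.Agent.H880.UFinal
import Cfsg.Agent.H189.TraceFix
import Cfsg.Agent.H876.FrameSmall
import Cfsg.Agent.H880.TI
import Cfsg.Statements.S5801
import Cfsg.Agent.H876.SingMax
import Cfsg.Agent.H876.NondegMax
import Cfsg.Agent.H876.FrameMax
import Cfsg.Agent.H918.PairMax
import Cfsg.Agent.H930.GUSubG
import Cfsg.Agent.H930.SpInSU
import Cfsg.Agent.H927.OrthMax
import Cfsg.Agent.H913.UExt7
set_option linter.all false

-- part: H924/PTrace
section
/-!
**The partial trace on `End (U ⊗ W)`** (`U ⊗ W` is the space of `a × b` matrices): `lm c` is `c ⊗ 1`, `pt x` the partial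
trace of `x` over `W`, `pf x = pt x ⊗ 1`. `pf` commutes with the conjugation by tensors (`pf_cj`), and conversely `g` is a
tensor if `pf` commutes with the conjugation by `g` and `a < b` (`isTens_of_pf`).
-/

set_option autoImplicit false
set_option linter.unusedSectionVars false

namespace Cfsg.Agent.H924.PT

open Module Matrix Cfsg.Agent.H880

variable {F : Type*} [Field F] {a b : ℕ}

/-- Endomorphisms of `U ⊗ W`. -/
abbrev EM (a b : ℕ) (F : Type*) [Field F] := Mat a b F →ₗ[F] Mat a b F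

/-- The operator `c ⊗ 1`. -/
def lm (c : (Fin a → F) →ₗ[F] (Fin a → F)) : EM a b F where
  toFun X := fun i j => c (fun k => X k j) i
  map_add' X Y := by
    funext i j
    show c ((fun k => X k j) + fun k => Y k j) i = _
    rw [map_add]; rfl
  map_smul' s X := by
    funext i j
    show c (s • fun k => X k j) i = _
    rw [map_smul]; rfl

theorem lm_apply (c : (Fin a → F) →ₗ[F] (Fin a → F)) (X : Mat a b F) (i : Fin a) (j : Fin b) :
    lm c X i j = c (fun k => X k j) i := rfl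

theorem lm_pure (c : (Fin a → F) →ₗ[F] (Fin a → F)) (u : Fin a → F) (w : Fin b → F) :
    lm c (vecMulVec u w) = vecMulVec (c u) w := by
  funext i j
  rw [lm_apply]
  have h : (fun k => (vecMulVec u w : Mat a b F) k j) = w j • u := by
    funext k; simp [vecMulVec_apply, mul_comm]
  rw [h, map_smul]
  simp [vecMulVec_apply, mul_comm]

/-- The `j`-th column. -/
def col (j : Fin b) : Mat a b F →ₗ[F] (Fin a → F) where
  toFun X := fun i => X i j
  map_add' _ _ := rfl
  map_smul' _ _ := rfl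

theorem col_apply (j : Fin b) (X : Mat a b F) (i : Fin a) : col j X i = X i j := rfl

/-- The partial trace over `W`. -/
def pt (x : EM a b F) : (Fin a → F) →ₗ[F] (Fin a → F) :=
  ∑ l : Fin b, col l ∘ₗ x ∘ₗ pureL (Pi.single l 1)

theorem pt_apply (x : EM a b F) (u : Fin a → F) (i : Fin a) :
    pt x u i = ∑ l : Fin b, x (vecMulVec u (Pi.single l 1)) i l := by
  rw [pt, LinearMap.sum_apply, Finset.sum_apply]
  rfl

theorem pt_add (x y : EM a b F) : pt (x + y) = pt x + pt y := by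
  apply LinearMap.ext; intro u
  funext i
  rw [LinearMap.add_apply, Pi.add_apply, pt_apply, pt_apply, pt_apply, ← Finset.sum_add_distrib]
  rfl

theorem pt_smul (s : F) (x : EM a b F) : pt (s • x) = s • pt x := by
  apply LinearMap.ext; intro u
  funext i
  rw [LinearMap.smul_apply, Pi.smul_apply, pt_apply, pt_apply, smul_eq_mul, Finset.mul_sum]
  rfl

theorem lm_add (x y : (Fin a → F) →ₗ[F] (Fin a → F)) : (lm (x + y) : EM a b F) = lm x + lm y := rfl

theorem lm_smul (s : F) (x : (Fin a → F) →ₗ[F] (Fin a → F)) : (lm (s • x) : EM a b F) = s • lm x := rfl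

/-- The map `x ↦ pt x ⊗ 1`. -/
def pf : EM a b F →ₗ[F] EM a b F where
  toFun x := lm (pt x)
  map_add' x y := by rw [pt_add, lm_add]
  map_smul' s x := by rw [pt_smul, lm_smul]; rfl

theorem pf_apply (x : EM a b F) : pf x = lm (pt x) := rfl

/-- The coordinates of a matrix. -/
def coordE (a b : ℕ) (F : Type*) [Field F] : Mat a b F ≃ₗ[F] (Fin a × Fin b → F) where
  toFun X := fun p => X p.1 p.2
  invFun x := fun i j => x (i, j)
  map_add' _ _ := rfl
  map_smul' _ _ := rfl
  left_inv _ := rfl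
  right_inv _ := rfl

theorem coordE_symm_single (i : Fin a) (j : Fin b) :
    (coordE a b F).symm (Pi.single (i, j) 1) = vecMulVec (Pi.single i 1) (Pi.single j 1) := by
  funext k l
  show (Pi.single (i, j) (1 : F) : Fin a × Fin b → F) (k, l) = (Pi.single i (1 : F) : Fin a → F) k * (Pi.single j (1 : F) : Fin b → F) l
  simp only [Pi.single_apply, Prod.mk.injEq]
  by_cases h1 : k = i <;> by_cases h2 : l = j <;> simp [h1, h2]

theorem trace_eq (x : EM a b F) :
    LinearMap.trace F (Mat a b F) x = ∑ i : Fin a, ∑ j : Fin b, x (vecMulVec (Pi.single i 1) (Pi.single j 1)) i j := by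
  classical
  rw [LinearMap.trace_eq_matrix_trace F (Basis.ofEquivFun (coordE a b F)), Matrix.trace, Fintype.sum_prod_type]
  refine Finset.sum_congr rfl fun i _ => Finset.sum_congr rfl fun j _ => ?_
  rw [Matrix.diag_apply, LinearMap.toMatrix_apply, Basis.coe_ofEquivFun, Basis.ofEquivFun_repr_apply]
  show x ((coordE a b F).symm (Pi.single (i, j) 1)) i j = _
  rw [coordE_symm_single]

theorem trace_comp_lm (x : EM a b F) (c : (Fin a → F) →ₗ[F] (Fin a → F)) :
    LinearMap.trace F (Mat a b F) (x ∘ₗ lm c) = LinearMap.trace F (Fin a → F) (pt x ∘ₗ c) := by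
  classical
  rw [trace_eq, LinearMap.trace_eq_matrix_trace F (Pi.basisFun F (Fin a)), Matrix.trace]
  refine Finset.sum_congr rfl fun i _ => ?_
  rw [Matrix.diag_apply, LinearMap.toMatrix_apply, Pi.basisFun_apply, Pi.basisFun_repr, LinearMap.comp_apply, pt_apply]
  refine Finset.sum_congr rfl fun j _ => ?_
  rw [LinearMap.comp_apply, lm_pure]

theorem eq_of_trace {x y : (Fin a → F) →ₗ[F] (Fin a → F)}
    (h : ∀ c : (Fin a → F) →ₗ[F] (Fin a → F), LinearMap.trace F (Fin a → F) (x ∘ₗ c) = LinearMap.trace F (Fin a → F) (y ∘ₗ c)) :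
    x = y := by
  classical
  apply LinearMap.toMatrix'.injective
  rw [Matrix.ext_iff_trace_mul_right]
  intro C
  have h1 := h (Matrix.toLin' C)
  rw [LinearMap.trace_eq_matrix_trace F (Pi.basisFun F (Fin a)), LinearMap.trace_eq_matrix_trace F (Pi.basisFun F (Fin a))] at h1
  have h2 : ∀ z : (Fin a → F) →ₗ[F] (Fin a → F), LinearMap.toMatrix (Pi.basisFun F (Fin a)) (Pi.basisFun F (Fin a)) (z ∘ₗ Matrix.toLin' C)
      = LinearMap.toMatrix' z * C := by
    intro z
    show LinearMap.toMatrix' (z ∘ₗ Matrix.toLin' C) = _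
    rw [LinearMap.toMatrix'_comp, LinearMap.toMatrix'_toLin']
  rw [h2, h2] at h1
  exact h1

/-- Conjugation on endomorphisms. -/
def cj : (Mat a b F ≃ₗ[F] Mat a b F) →* Module.End F (EM a b F) where
  toFun g :=
    { toFun := fun x => (g : Mat a b F →ₗ[F] Mat a b F) ∘ₗ x ∘ₗ (g.symm : Mat a b F →ₗ[F] Mat a b F)
      map_add' := fun x y => by rw [LinearMap.add_comp, LinearMap.comp_add]
      map_smul' := fun s x => by rw [LinearMap.smul_comp, LinearMap.comp_smul, RingHom.id_apply] }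
  map_one' := by
    ext1 x
    rfl
  map_mul' g h := by
    ext1 x
    rfl

theorem cj_apply (g : Mat a b F ≃ₗ[F] Mat a b F) (x : EM a b F) (X : Mat a b F) : cj g x X = g (x (g.symm X)) := rfl

theorem cj_comp (g : Mat a b F ≃ₗ[F] Mat a b F) (x y : EM a b F) : cj g (x ∘ₗ y) = cj g x ∘ₗ cj g y := by
  ext1 X
  show g (x (y (g.symm X))) = g (x (g.symm (g (y (g.symm X)))))
  rw [LinearEquiv.symm_apply_apply]

theorem trace_cj (g : Mat a b F ≃ₗ[F] Mat a b F) (x : EM a b F) :
    LinearMap.trace F (Mat a b F) (cj g x) = LinearMap.trace F (Mat a b F) x := by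
  have h := LinearMap.trace_conj' x g
  rw [← h]
  rfl

theorem cj_lm {g : Mat a b F ≃ₗ[F] Mat a b F} {y : (Fin a → F) ≃ₗ[F] (Fin a → F)} {z : (Fin b → F) ≃ₗ[F] (Fin b → F)}
    (hg : ∀ u w, g (vecMulVec u w) = vecMulVec (y u) (z w)) (c : (Fin a → F) →ₗ[F] (Fin a → F)) :
    cj g (lm c) = lm ((y : (Fin a → F) →ₗ[F] (Fin a → F)) ∘ₗ c ∘ₗ (y.symm : (Fin a → F) →ₗ[F] (Fin a → F))) := by
  apply ext_pure
  intro u w
  have h1 : g.symm (vecMulVec u w) = vecMulVec (y.symm u) (z.symm w) := by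
    rw [LinearEquiv.symm_apply_eq, hg, LinearEquiv.apply_symm_apply, LinearEquiv.apply_symm_apply]
  rw [cj_apply, h1, lm_pure, hg, lm_pure, LinearEquiv.apply_symm_apply]
  rfl

theorem pt_cj {g : Mat a b F ≃ₗ[F] Mat a b F} {y : (Fin a → F) ≃ₗ[F] (Fin a → F)} {z : (Fin b → F) ≃ₗ[F] (Fin b → F)}
    (hg : ∀ u w, g (vecMulVec u w) = vecMulVec (y u) (z w)) (x : EM a b F) :
    pt (cj g x) = (y : (Fin a → F) →ₗ[F] (Fin a → F)) ∘ₗ pt x ∘ₗ (y.symm : (Fin a → F) →ₗ[F] (Fin a → F)) := by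
  apply eq_of_trace
  intro c
  set c' : (Fin a → F) →ₗ[F] (Fin a → F) :=
    (y.symm : (Fin a → F) →ₗ[F] (Fin a → F)) ∘ₗ c ∘ₗ (y : (Fin a → F) →ₗ[F] (Fin a → F)) with hc'
  have h1 : cj g (lm c') = lm c := by
    rw [cj_lm hg, hc']
    congr 1
    apply LinearMap.ext; intro u
    show y (y.symm (c (y (y.symm u)))) = c u
    rw [LinearEquiv.apply_symm_apply, LinearEquiv.apply_symm_apply]
  rw [← trace_comp_lm, ← h1, ← cj_comp, trace_cj, trace_comp_lm]
  have h2 := LinearMap.trace_conj' (pt x ∘ₗ c') y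
  rw [← h2]
  congr 1
  apply LinearMap.ext; intro u
  show y (pt x (y.symm (c (y (y.symm u))))) = y (pt x (y.symm (c u)))
  rw [LinearEquiv.apply_symm_apply]

/-- **`pf` commutes with the conjugation by tensors.** -/
theorem pf_cj {g : Mat a b F ≃ₗ[F] Mat a b F} (hg : IsTens g) (x : EM a b F) : pf (cj g x) = cj g (pf x) := by
  obtain ⟨y, z, hyz⟩ := hg
  rw [pf_apply, pf_apply, pt_cj hyz, cj_lm hyz]

/-- the columns of the image of `lm c` are in the image of `c` -/
def rangeLm (c : (Fin a → F) →ₗ[F] (Fin a → F)) :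
    LinearMap.range (lm c : EM a b F) ≃ₗ[F] (Fin b → LinearMap.range c) where
  toFun X := fun j => ⟨col j X.1, by
    obtain ⟨Y, hY⟩ := X.2
    rw [← hY]
    exact ⟨col j Y, rfl⟩⟩
  map_add' _ _ := rfl
  map_smul' _ _ := rfl
  invFun x := ⟨fun i j => (x j).1 i, by
    choose v hv using fun j => (x j).2
    refine ⟨fun i j => v j i, ?_⟩
    funext i j
    exact congrFun (hv j) i⟩
  left_inv _ := rfl
  right_inv _ := rfl

theorem finrank_range_lm (c : (Fin a → F) →ₗ[F] (Fin a → F)) :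
    finrank F (LinearMap.range (lm c : EM a b F)) = b * finrank F (LinearMap.range c) := by
  rw [LinearEquiv.finrank_eq (rangeLm c), Module.finrank_pi_fintype, Finset.sum_const, Finset.card_univ, Fintype.card_fin,
    smul_eq_mul]

theorem finrank_range_cj (g : Mat a b F ≃ₗ[F] Mat a b F) (x : EM a b F) :
    finrank F (LinearMap.range (cj g x)) = finrank F (LinearMap.range x) := by
  have h : LinearMap.range (cj g x) = (LinearMap.range x).map (g : Mat a b F →ₗ[F] Mat a b F) := by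
    ext X
    constructor
    · rintro ⟨Y, rfl⟩
      exact ⟨x (g.symm Y), ⟨_, rfl⟩, rfl⟩
    · rintro ⟨_, ⟨Y, rfl⟩, rfl⟩
      refine ⟨g Y, ?_⟩
      rw [cj_apply, LinearEquiv.symm_apply_apply]
      rfl
  rw [h, LinearEquiv.finrank_map_eq]

/-- **If `pf` commutes with the conjugation by `g`, then `g` is a tensor.** -/
theorem isTens_of_pf (ha : 1 ≤ a) (hab : a < b) {g : Mat a b F ≃ₗ[F] Mat a b F} (h : ∀ x : EM a b F, pf (cj g x) = cj g (pf x)) :
    IsTens g := by
  classical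
  apply isTens_of_pres ha hab
  intro u w
  by_cases hu : u = 0
  · subst hu
    refine ⟨0, 0, ?_⟩
    rw [zero_pure, map_zero, zero_pure]
  -- a projection onto the line of `u`
  obtain ⟨φ, hφ⟩ : ∃ φ : (Fin a → F) →ₗ[F] F, φ u = 1 := by
    obtain ⟨i, hi⟩ := Function.ne_iff.mp hu
    refine ⟨(u i)⁻¹ • LinearMap.proj i, ?_⟩
    show (u i)⁻¹ * u i = 1
    exact inv_mul_cancel₀ hi
  let E : (Fin a → F) →ₗ[F] (Fin a → F) := φ.smulRight u
  have hE : ∀ v, E v = φ v • u := fun v => rfl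
  let j0 : Fin b := ⟨0, by omega⟩
  let x : EM a b F := pureL (Pi.single j0 1) ∘ₗ E ∘ₗ col j0
  have hx : pt x = E := by
    apply LinearMap.ext; intro v
    funext i
    rw [pt_apply, Finset.sum_eq_single j0]
    · show (E (fun k => v k * (Pi.single j0 (1 : F) : Fin b → F) j0)) i * (Pi.single j0 (1 : F) : Fin b → F) j0 = _
      rw [Pi.single_eq_same, mul_one]
      have h9 : (fun k => v k * (1 : F)) = v := by
        funext k
        rw [mul_one]
      rw [h9]
    · intro l _ hl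
      show _ * (Pi.single j0 (1 : F) : Fin b → F) l = _
      rw [Pi.single_eq_of_ne hl, mul_zero]
    · intro h; exact absurd (Finset.mem_univ _) h
  have h1 : cj g (lm E) = lm (pt (cj g x)) := by
    have := h x
    rw [pf_apply, pf_apply, hx] at this
    exact this.symm
  set E' := pt (cj g x) with hE'
  have hrE : finrank F (LinearMap.range E) ≤ 1 := by
    have h2 : LinearMap.range E ≤ Submodule.span F {u} := by
      rintro _ ⟨v, rfl⟩
      rw [hE]
      exact Submodule.smul_mem _ _ (Submodule.mem_span_singleton_self u)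
    exact (Submodule.finrank_mono h2).trans (by rw [finrank_span_singleton hu])
  have hrE' : finrank F (LinearMap.range E') ≤ 1 := by
    have h2 := finrank_range_cj g (lm E)
    rw [h1, finrank_range_lm, finrank_range_lm] at h2
    have hb : 0 < b := by omega
    have h3 : finrank F (LinearMap.range E') = finrank F (LinearMap.range E) := Nat.eq_of_mul_eq_mul_left hb h2
    omega
  obtain ⟨u', hu'⟩ : ∃ u' : Fin a → F, ∀ v, ∃ s : F, E' v = s • u' := by
    obtain ⟨⟨u', hu'r⟩, hu'⟩ := finrank_le_one_iff.mp hrE'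
    refine ⟨u', fun v => ?_⟩
    obtain ⟨s, hs⟩ := hu' ⟨E' v, ⟨v, rfl⟩⟩
    exact ⟨s, (congrArg Subtype.val hs).symm⟩
  have h2 : g (vecMulVec u w) = lm E' (g (vecMulVec u w)) := by
    rw [← h1, cj_apply, LinearEquiv.symm_apply_apply, lm_pure, hE, hφ, one_smul]
  choose s hs using hu'
  refine ⟨u', fun j => s (col j (g (vecMulVec u w))), ?_⟩
  rw [h2]
  funext i j
  have h3 : lm E' (g (vecMulVec u w)) i j = E' (col j (g (vecMulVec u w))) i := rfl
  rw [h3, hs, Pi.smul_apply, smul_eq_mul, mul_comm, ← h2]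
  rfl

end Cfsg.Agent.H924.PT
end

-- part: H924/TUMain
section
/-!
**Overgroups of `SU_a ⊗ SU_b`, `2 ≤ a < b`, `b ≥ 3`, `q ≥ 3`** (`main_tens3`): the relative trace of the partial trace.
-/

set_option autoImplicit false
set_option linter.unusedSectionVars false

namespace Cfsg.Agent.H924.TU

open Module Matrix Cfsg.Agent.H880 Cfsg.Agent.ClassicalGeometry Cfsg.Agent.H924.PT

section Sum

variable {F : Type*} [Field F] [Finite F] {σ : F →+* F}

/-- The skew elements of the field. -/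
abbrev Sk (σ : F →+* F) := {l : F // l + σ l = 0}

theorem sum_skew [Fintype (Sk σ)] (hσ : σ ≠ RingHom.id F) (hσ2 : ∀ x : F, σ (σ x) = x) {ρ : F} (hρ : σ ρ = ρ) (hρ0 : ρ ≠ 0)
    (hρ1 : ρ ≠ 1) : (Fintype.card (Sk σ) : F) = 0 ∧ ∑ l : Sk σ, (l : F) = 0 := by
  obtain ⟨l0, hl0, hl⟩ := exists_skew hσ hσ2
  constructor
  · let e : Sk σ ≃ Sk σ :=
      { toFun := fun l => ⟨l.1 + l0, by rw [map_add]; linear_combination l.2 + hl⟩
        invFun := fun l => ⟨l.1 - l0, by rw [map_sub]; linear_combination l.2 - hl⟩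
        left_inv := fun l => Subtype.ext (by simp)
        right_inv := fun l => Subtype.ext (by simp) }
    have h1 : ∑ l : Sk σ, ((l : F) + l0) = ∑ l : Sk σ, (l : F) := Equiv.sum_comp e (fun l => (l : F))
    rw [Finset.sum_add_distrib, Finset.sum_const, Finset.card_univ, nsmul_eq_mul] at h1
    have h2 : (Fintype.card (Sk σ) : F) * l0 = 0 := by linear_combination h1
    exact (mul_eq_zero.mp h2).resolve_right hl0
  · let e : Sk σ ≃ Sk σ :=
      { toFun := fun l => ⟨ρ * l.1, by rw [map_mul, hρ]; linear_combination ρ * l.2⟩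
        invFun := fun l => ⟨ρ⁻¹ * l.1, by rw [map_mul, map_inv₀, hρ]; linear_combination ρ⁻¹ * l.2⟩
        left_inv := fun l => Subtype.ext (by simp [hρ0])
        right_inv := fun l => Subtype.ext (by simp [hρ0]) }
    have h1 : ∑ l : Sk σ, (ρ * (l : F)) = ∑ l : Sk σ, (l : F) := Equiv.sum_comp e (fun l => (l : F))
    rw [← Finset.mul_sum] at h1
    have h2 : (ρ - 1) * ∑ l : Sk σ, (l : F) = 0 := by linear_combination h1
    exact (mul_eq_zero.mp h2).resolve_left (sub_ne_zero.mpr hρ1)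

end Sum

section Tr

variable {F : Type*} [Field F] [Finite F] {σ : F →+* F} {a b : ℕ} {M : Subgroup (Mat a b F ≃ₗ[F] Mat a b F)}

/-- The nilpotent operator `Y ↦ (con w Y) ⊗ w`. -/
def nu (σ : F →+* F) (w : Fin b → F) : EM a b F := pureL w ∘ₗ con σ w

theorem nu_apply (w : Fin b → F) (Y : Mat a b F) : nu σ w Y = vecMulVec (con σ w Y) w := rfl

theorem nu_nu {w : Fin b → F} (hw : stB σ b w w = 0) (Y : Mat a b F) : nu σ w (nu σ w Y) = 0 := by
  rw [nu_apply, nu_apply, con_pure, hw, zero_smul, zero_pure]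

theorem rt_eq {w : Fin b → F} {l : F} {s : Mat a b F ≃ₗ[F] Mat a b F} (hs : IsRT σ w l s) (Y : Mat a b F) :
    s Y = Y + l • nu σ w Y := by
  rw [hs, nu_apply, Matrix.smul_vecMulVec]

theorem rt_symm_eq {w : Fin b → F} (hw : stB σ b w w = 0) {l : F} {s : Mat a b F ≃ₗ[F] Mat a b F} (hs : IsRT σ w l s)
    (Y : Mat a b F) : s.symm Y = Y - l • nu σ w Y := by
  rw [LinearEquiv.symm_apply_eq, rt_eq hs, map_sub, map_smul, nu_nu hw, smul_zero, sub_zero, sub_add_cancel]

/-- Conjugating by a root element. -/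
theorem cj_rt {w : Fin b → F} (hw : stB σ b w w = 0) {l : F} {s : Mat a b F ≃ₗ[F] Mat a b F} (hs : IsRT σ w l s)
    (x : EM a b F) : cj s x = x + l • (nu σ w ∘ₗ x - x ∘ₗ nu σ w) - (l * l) • (nu σ w ∘ₗ x ∘ₗ nu σ w) := by
  apply LinearMap.ext
  intro Y
  rw [cj_apply, rt_symm_eq hw hs, rt_eq hs, map_sub, map_smul, map_sub, map_smul]
  show x Y - l • x (nu σ w Y) + l • (nu σ w (x Y) - l • nu σ w (x (nu σ w Y))) =
    x Y + l • (nu σ w (x Y) - x (nu σ w Y)) - (l * l) • nu σ w (x (nu σ w Y))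
  rw [smul_sub, smul_sub, smul_smul]
  abel

/-- The group of root elements of `w` in `M`. -/
def rtG (hM : Over σ M) {w : Fin b → F} (hw : stB σ b w w = 0) : Subgroup M where
  carrier := {g | ∃ l : F, l + σ l = 0 ∧ IsRT σ w l g.1}
  one_mem' := ⟨0, by simp, fun X => by
    rw [zero_smul, zero_pure, add_zero]; rfl⟩
  mul_mem' := by
    rintro g h ⟨l, hl, hg⟩ ⟨m, hm, hh⟩
    refine ⟨l + m, by rw [map_add]; linear_combination hl + hm, fun X => ?_⟩
    show g.1 (h.1 X) = _
    rw [rt_eq hh, map_add, map_smul, rt_eq hg, rt_eq hg, nu_nu hw, smul_zero, add_zero, add_smul, Matrix.add_vecMulVec,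
      Matrix.smul_vecMulVec, Matrix.smul_vecMulVec, ← nu_apply]
    abel
  inv_mem' := by
    rintro g ⟨l, hl, hg⟩
    refine ⟨-l, by rw [map_neg]; linear_combination -hl, fun X => ?_⟩
    show g.1.symm X = _
    rw [rt_symm_eq hw hg, neg_smul, Matrix.neg_vecMulVec, Matrix.smul_vecMulVec, ← nu_apply]
    abel

/-- Skew elements give all elements of `rtG`. -/
theorem exists_rtEquiv (hσ2 : ∀ x : F, σ (σ x) = x) (hM : Over σ M) {w : Fin b → F} (hw0 : w ≠ 0) (ha : 1 ≤ a)
    (hw : stB σ b w w = 0) : ∃ e : Sk σ ≃ rtG hM hw, ∀ l, IsRT σ w l.1 ((e l : M) : Mat a b F ≃ₗ[F] Mat a b F) := by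
  choose s hsM hst hs using fun l : Sk σ => exists_rt (a := a) hσ2 hM hw l.2
  let f : Sk σ → rtG hM hw := fun l => ⟨⟨s l, hsM l⟩, ⟨l.1, l.2, hs l⟩⟩
  have hinj : ∀ l m : F, ∀ t : Mat a b F ≃ₗ[F] Mat a b F, IsRT σ w l t → IsRT σ w m t → l = m := by
    intro l m t hl hm
    obtain ⟨X, hX⟩ := con_surj (σ := σ) hw0 (Pi.single (⟨0, ha⟩ : Fin a) 1)
    have h1 : l • nu σ w X = m • nu σ w X := by
      have h2 := rt_eq hl X
      rw [rt_eq hm X] at h2
      exact (add_left_cancel h2).symm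
    have h2 : nu σ w X ≠ 0 := by
      rw [nu_apply, hX]
      exact pure_ne_zero (by
        intro h
        have := congrFun h ⟨0, ha⟩
        simp at this) hw0
    exact smul_left_injective F h2 h1
  have hf : Function.Bijective f := by
    constructor
    · intro l m h
      have h1 : s l = s m := congrArg (fun x : rtG hM hw => ((x : M) : Mat a b F ≃ₗ[F] Mat a b F)) h
      exact Subtype.ext (hinj _ _ _ (hs l) (h1 ▸ hs m))
    · rintro ⟨⟨g, hg⟩, l, hl, hgl⟩
      refine ⟨⟨l, hl⟩, ?_⟩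
      apply Subtype.ext
      apply Subtype.ext
      show s ⟨l, hl⟩ = g
      apply LinearEquiv.ext
      intro X
      rw [hs ⟨l, hl⟩ X]
      exact (hgl X).symm
  exact ⟨Equiv.ofBijective f hf, fun l => hs l⟩

/-- **The trace over a root group.** -/
theorem sum_rtG (hσ : σ ≠ RingHom.id F) (hσ2 : ∀ x : F, σ (σ x) = x) {ρ : F} (hρ : σ ρ = ρ) (hρ0 : ρ ≠ 0)
    (hρ1 : ρ ≠ 1) (hM : Over σ M) {w : Fin b → F} (hw0 : w ≠ 0) (ha : 1 ≤ a) (hw : stB σ b w w = 0)
    [Fintype (rtG hM hw)] (y : EM a b F) :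
    ∃ κ : F, ∑ c : rtG hM hw, cj ((c : M) : Mat a b F ≃ₗ[F] Mat a b F) y = κ • (nu σ w ∘ₗ y ∘ₗ nu σ w) := by
  classical
  have : Fintype (Sk σ) := Fintype.ofFinite _
  obtain ⟨e, he⟩ := exists_rtEquiv hσ2 hM hw0 ha hw
  obtain ⟨h1, h2⟩ := sum_skew hσ hσ2 hρ hρ0 hρ1
  refine ⟨-∑ l : Sk σ, ((l : F) * l), ?_⟩
  rw [← Equiv.sum_comp e]
  have h3 : ∀ l : Sk σ, cj ((e l : M) : Mat a b F ≃ₗ[F] Mat a b F) y =
      (y + (l : F) • (nu σ w ∘ₗ y - y ∘ₗ nu σ w)) - ((l : F) * l) • (nu σ w ∘ₗ y ∘ₗ nu σ w) := fun l => cj_rt hw (he l) y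
  rw [Finset.sum_congr rfl fun l _ => h3 l, Finset.sum_sub_distrib, Finset.sum_add_distrib, ← Finset.sum_smul, ← Finset.sum_smul,
    h2, zero_smul, Finset.sum_const, Finset.card_univ, ← Nat.cast_smul_eq_nsmul F, h1, zero_smul, add_zero, zero_sub]
  exact (neg_smul _ _).symm

/-- **The relative trace of `pf`.** -/
theorem exists_Phi (hσ : σ ≠ RingHom.id F) (hσ2 : ∀ x : F, σ (σ x) = x) {ρ : F} (hρ : σ ρ = ρ) (hρ0 : ρ ≠ 0)
    (hρ1 : ρ ≠ 1) (ha : 1 ≤ a) (hab : a < b) (hb : 3 ≤ b) (hM : Over σ M)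
    (hK : ∀ w : Fin b → F, w ≠ 0 → stB σ b w w = 0 → ∀ κ : (Fin a → F) →ₗ[F] (Fin a → F), InK σ M w κ →
      ∃ c : F, ∀ x, κ x = c • x) :
    ∃ Φ : EM a b F →ₗ[F] EM a b F, (∀ g ∈ M, ∀ x, Φ (cj g x) = cj g (Φ x)) ∧
      ∀ w : Fin b → F, w ≠ 0 → stB σ b w w = 0 → ∀ x : EM a b F, (∀ Y, x (nu σ w Y) = nu σ w (x Y)) →
        ∀ Y, ∃ u, Φ x Y - pf x Y = vecMulVec u w := by
  classical
  have : Finite M := inferInstance
  let ρ' : M →* Module.End F (EM a b F) := cj.comp M.subtype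
  let H : Subgroup M := (tensM M).subgroupOf M
  have hH : ∀ g : M, g ∈ H ↔ IsTens g.1 := by
    intro g
    rw [Subgroup.mem_subgroupOf]
    exact ⟨fun h => h.2, fun h => ⟨g.2, h⟩⟩
  obtain ⟨Φ, hΦ, hC⟩ := H189.TraceFix.exists_trace ρ' H pf (by
    intro h hh
    apply LinearMap.ext
    intro x
    exact (pf_cj ((hH h).mp hh) x).symm)
  refine ⟨Φ, fun g hg x => (LinearMap.congr_fun (hΦ ⟨g, hg⟩) x).symm, ?_⟩
  intro w hw0 hw x hx Y
  have : Fintype (rtG hM hw) := Fintype.ofFinite _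
  obtain ⟨y, hy⟩ := hC (rtG hM hw) (by
    rintro c ⟨l, hl, hcl⟩
    rw [hH]
    obtain ⟨s, hsM, hst, hs⟩ := exists_rt (a := a) hσ2 hM hw hl
    have h1 : c.1 = s := by
      apply LinearEquiv.ext
      intro X
      rw [hs X, hcl X]
    rw [h1]
    exact hst) (by
    rintro g hg c ⟨l, hl, hcl⟩ hcg
    by_contra hc1
    apply hg
    have hl0 : l ≠ 0 := by
      rintro rfl
      apply hc1
      apply Subtype.ext
      apply LinearEquiv.ext
      intro X
      rw [hcl X, zero_smul, zero_pure, add_zero]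
      rfl
    rw [hH] at hcg ⊢
    have h1 := ti_row hσ hσ2 ha hab hb hM hK hw0 hw hl0 hcl (g := g.1⁻¹) (M.inv_mem g.2) (by
      rw [inv_inv]; exact hcg)
    have h2 := h1.inv
    rwa [inv_inv] at h2) x (by
    rintro c ⟨l, hl, hcl⟩
    show cj c.1 x = x
    apply LinearMap.ext
    intro Z
    rw [cj_apply, rt_symm_eq hw hcl, rt_eq hcl, map_sub, map_smul, hx, map_sub, map_smul, nu_nu hw, smul_zero, sub_zero,
      sub_add_cancel])
  obtain ⟨κ, hκ⟩ := sum_rtG hσ hσ2 hρ hρ0 hρ1 hM hw0 ha hw y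
  have h3 : Φ x = pf x + κ • (nu σ w ∘ₗ y ∘ₗ nu σ w) := by
    rw [hy, ← hκ]
    rfl
  rw [h3]
  refine ⟨κ • con σ w (y (nu σ w Y)), ?_⟩
  rw [Matrix.smul_vecMulVec, ← nu_apply, LinearMap.add_apply, add_sub_cancel_left]
  rfl

/-- Two independent isotropic vectors in the orthogonal complement of a nonsingular vector. -/
theorem exists_two_isotropic (hσ : σ ≠ RingHom.id F) (hσ2 : ∀ x : F, σ (σ x) = x) (hb : 3 ≤ b) {v : Fin b → F}
    (hv : stB σ b v v ≠ 0) : ∃ w w' : Fin b → F, stB σ b w w = 0 ∧ stB σ b w' w' = 0 ∧ stB σ b w w' = 1 ∧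
      stB σ b v w = 0 ∧ stB σ b v w' = 0 := by
  have hS := stB_symm hσ2 b
  have hd := finrank_perp_one (B := stB σ b) v
  rw [finrank_fin_fun] at hd
  obtain ⟨w, hwv, hw0, hw⟩ := exists_isotropic (B := stB σ b) hσ hσ2 hS (perp (stB σ b) {v}) (by omega)
  have hvw : stB σ b v w = 0 := hwv v rfl
  have hwv' : stB σ b w v = 0 := symm_zero hS hvw
  obtain ⟨z0, hz0⟩ := exists_one_std (σ := σ) hw0
  obtain ⟨c, d, h1, h2⟩ := exists_partner (B := stB σ b) hσ hσ2 hS hw (z := z0 - (stB σ b v z0 / stB σ b v v) • v) (by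
    rw [map_sub, map_smul, hwv', hz0, smul_zero, sub_zero]
    exact one_ne_zero)
  refine ⟨w, _, hw, h2, h1, hvw, ?_⟩
  rw [map_add, map_smul, map_smul, map_sub, map_smul, hvw, smul_eq_mul, smul_eq_mul, smul_eq_mul, div_mul_cancel₀ _ hv, sub_self,
    mul_zero, mul_zero, add_zero]

/-- `Y ↦ c (con v Y) ⊗ w`. -/
def elm (σ : F →+* F) (c : (Fin a → F) →ₗ[F] (Fin a → F)) (v w : Fin b → F) : EM a b F := pureL w ∘ₗ c ∘ₗ con σ v

theorem elm_apply (c : (Fin a → F) →ₗ[F] (Fin a → F)) (v w : Fin b → F) (Y : Mat a b F) :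
    elm σ c v w Y = vecMulVec (c (con σ v Y)) w := rfl

/-- A scalar of prescribed norm, and a second one which is independent. -/
theorem exists_norms (hσ : σ ≠ RingHom.id F) (hσ2 : ∀ x : F, σ (σ x) = x) {ρ : F} (hρ : σ ρ = ρ) (hρ0 : ρ ≠ 0)
    (hρ1 : ρ ≠ 1) : ∃ l m : F, 1 + σ l * l ≠ 0 ∧ 1 + σ m * m ≠ 0 ∧ σ l * m ≠ l * σ m := by
  obtain ⟨l, hl0, hl⟩ := Cfsg.Agent.ClassicalGeometry.HermWitt.norm_surj σ hσ hσ2 (-ρ) (by rw [map_neg, hρ]) (by simpa using hρ0)
  obtain ⟨ζ, hζ, hζ1, hζ2⟩ := exists_norm_one hσ hσ2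
  have hσl : σ l ≠ 0 := by simpa using hl0
  have hl' : σ l * l = -ρ := by rw [← hl]; ring
  refine ⟨l, ζ * l, ?_, ?_, ?_⟩
  · rw [hl']
    intro h
    exact hρ1 (by linear_combination -h)
  · rw [map_mul]
    intro h
    apply hρ1
    linear_combination -h + (σ l * l) * hζ + hl'
  · rw [map_mul]
    intro h
    apply hζ2
    have h1 : (ζ - σ ζ) * (σ l * l) = 0 := by linear_combination h
    have h2 : ζ = σ ζ := by
      rcases mul_eq_zero.mp h1 with h3 | h3
      · exact sub_eq_zero.mp h3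
      · exact absurd h3 (mul_ne_zero hσl hl0)
    rw [sq]
    nth_rewrite 1 [h2]
    exact hζ

/-- **The relative trace of `pf` is `pf`.** -/
theorem pf_comm (hσ : σ ≠ RingHom.id F) (hσ2 : ∀ x : F, σ (σ x) = x) {ρ : F} (hρ : σ ρ = ρ) (hρ0 : ρ ≠ 0)
    (hρ1 : ρ ≠ 1) (ha : 1 ≤ a) (hab : a < b) (hb : 3 ≤ b) (hM : Over σ M)
    (hK : ∀ w : Fin b → F, w ≠ 0 → stB σ b w w = 0 → ∀ κ : (Fin a → F) →ₗ[F] (Fin a → F), InK σ M w κ →
      ∃ c : F, ∀ x, κ x = c • x) {g : Mat a b F ≃ₗ[F] Mat a b F} (hg : g ∈ M) (x : EM a b F) :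
    pf (cj g x) = cj g (pf x) := by
  classical
  obtain ⟨Φ, hΦ, hC⟩ := exists_Phi hσ hσ2 hρ hρ0 hρ1 ha hab hb hM hK
  have hS := stB_symm hσ2 b
  -- nonsingular vectors
  have h1 : ∀ (c : (Fin a → F) →ₗ[F] (Fin a → F)) (v : Fin b → F), stB σ b v v ≠ 0 → Φ (elm σ c v v) = pf (elm σ c v v) := by
    intro c v hv
    obtain ⟨w, w', hw, hw', hww', hvw, hvw'⟩ := exists_two_isotropic hσ hσ2 hb hv
    have hcom : ∀ z, stB σ b v z = 0 → ∀ Y, elm σ c v v (nu σ z Y) = nu σ z (elm σ c v v Y) := by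
      intro z hz Y
      rw [elm_apply, elm_apply, nu_apply, nu_apply, con_pure, con_pure, hz, symm_zero hS hz, zero_smul, zero_smul, map_zero,
        zero_pure, zero_pure]
    have hw0 : w ≠ 0 := by
      rintro rfl
      rw [map_zero, LinearMap.zero_apply] at hww'
      exact zero_ne_one hww'
    have hw0' : w' ≠ 0 := by
      rintro rfl
      rw [map_zero] at hww'
      exact zero_ne_one hww'
    apply LinearMap.ext
    intro Y
    obtain ⟨u, hu⟩ := hC w hw0 hw _ (hcom w hvw) Y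
    obtain ⟨u', hu'⟩ := hC w' hw0' hw' _ (hcom w' hvw') Y
    have h2 : vecMulVec u w = vecMulVec u' w' := by rw [← hu, hu']
    have h3 : u = 0 := by
      funext i
      have h4 : u i • w = u' i • w' := congrFun h2 i
      have h5 := congrArg (fun z => stB σ b z w') h4
      simp only [LinearMap.map_smulₛₗ₂, hw', hww', smul_eq_mul, mul_zero, mul_one] at h5
      have h6 : σ (u i) = 0 := h5
      simpa using h6
    rw [h3, zero_pure] at hu
    exact sub_eq_zero.mp hu
  -- polarisation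
  have e0 : ∀ i : Fin b, stB σ b (Pi.single i 1) (Pi.single i 1) = 1 := by
    intro i
    rw [stB_single_left, Pi.single_eq_same]
  have h2 : ∀ (c : (Fin a → F) →ₗ[F] (Fin a → F)) (i j : Fin b), Φ (elm σ c (Pi.single i 1) (Pi.single j 1)) =
      pf (elm σ c (Pi.single i 1) (Pi.single j 1)) := by
    intro c i j
    by_cases hij : i = j
    · subst hij
      exact h1 c _ (by rw [e0]; exact one_ne_zero)
    set v : Fin b → F := Pi.single i 1 with hv_def
    set w : Fin b → F := Pi.single j 1 with hw_def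
    have hv1 : stB σ b v v = 1 := e0 i
    have hw1 : stB σ b w w = 1 := e0 j
    have hvw : stB σ b v w = 0 := by
      rw [hv_def, stB_single_left, hw_def, Pi.single_eq_of_ne hij]
    have hwv : stB σ b w v = 0 := symm_zero hS hvw
    have key : ∀ l : F, 1 + σ l * l ≠ 0 →
        l • (Φ (elm σ c v w) - pf (elm σ c v w)) + σ l • (Φ (elm σ c w v) - pf (elm σ c w v)) = 0 := by
      intro l hl
      have h3 : stB σ b (v + l • w) (v + l • w) ≠ 0 := by
        simp only [map_add, LinearMap.add_apply, map_smul, LinearMap.map_smulₛₗ₂, hv1, hw1, hvw, hwv, smul_eq_mul, mul_zero,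
          mul_one, zero_add, add_zero]
        intro h; apply hl; linear_combination h
      have h4 : elm σ c (v + l • w) (v + l • w) = elm σ c v v + (σ l * l) • elm σ c w w + l • elm σ c v w + σ l • elm σ c w v := by
        apply LinearMap.ext
        intro Y
        simp only [LinearMap.add_apply, LinearMap.smul_apply, elm_apply, con_add, con_smul, map_add, map_smul,
          Matrix.add_vecMulVec, Matrix.vecMulVec_add, Matrix.smul_vecMulVec, Matrix.vecMulVec_smul, smul_add, smul_smul]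
        have e1 : ∀ (x y : F) (A : Mat a b F), (x * y) • A = (y * x) • A := fun x y A => by rw [mul_comm]
        rw [e1 l (σ l)]
        abel
      have h5 := h1 c _ h3
      have h6 := h1 c v (by rw [hv1]; exact one_ne_zero)
      have h7 := h1 c w (by rw [hw1]; exact one_ne_zero)
      rw [h4, map_add, map_add, map_add, map_add, map_add, map_add, map_smul, map_smul, map_smul, map_smul, map_smul, map_smul,
        h6, h7] at h5
      rw [smul_sub, smul_sub]
      have h8 : l • Φ (elm σ c v w) + σ l • Φ (elm σ c w v) = l • pf (elm σ c v w) + σ l • pf (elm σ c w v) := by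
        have h9 := h5
        rw [add_assoc, add_assoc (pf (elm σ c v v) + (σ l * l) • pf (elm σ c w w)) (l • pf (elm σ c v w))] at h9
        exact add_left_cancel h9
      have h9 := sub_eq_zero.mpr h8
      rw [← h9]
      abel
    obtain ⟨l, m, hl, hm, hlm⟩ := exists_norms hσ hσ2 hρ hρ0 hρ1
    have k1 := key l hl
    have k2 := key m hm
    set A := Φ (elm σ c v w) - pf (elm σ c v w)
    set B := Φ (elm σ c w v) - pf (elm σ c w v)
    have h9 : (l * σ m - σ l * m) • A = 0 := by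
      have e1 : (l * σ m - σ l * m) • A = σ m • (l • A + σ l • B) - σ l • (m • A + σ m • B) := by
        simp only [smul_add, smul_smul]
        rw [mul_comm l (σ m), mul_comm (σ l) (σ m), sub_smul (σ m * l) (σ l * m) A]
        abel
      rw [e1, k1, k2, smul_zero, smul_zero, sub_zero]
    have h10 : A = 0 := by
      rcases smul_eq_zero.mp h9 with h | h
      · exact absurd (sub_eq_zero.mp h).symm hlm
      · exact h
    exact sub_eq_zero.mp h10
  -- all endomorphisms
  have h3 : ∀ x : EM a b F, x = ∑ i : Fin b, ∑ j : Fin b, elm σ (col j ∘ₗ x ∘ₗ pureL (Pi.single i 1)) (Pi.single i 1) (Pi.single j 1) := by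
    intro x
    apply LinearMap.ext
    intro Y
    have h4 : Y = ∑ i : Fin b, vecMulVec (con σ (Pi.single i 1) Y) (Pi.single i 1) := by
      funext k l
      rw [Matrix.sum_apply, Finset.sum_eq_single l]
      · rw [vecMulVec_apply, con_apply, stB_single_left, Pi.single_eq_same, mul_one]
      · intro i _ hi
        rw [vecMulVec_apply, Pi.single_eq_of_ne (Ne.symm hi), mul_zero]
      · intro h; exact absurd (Finset.mem_univ _) h
    have h5 : ∀ Z : Mat a b F, Z = ∑ j : Fin b, vecMulVec (col j Z) (Pi.single j 1) := by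
      intro Z
      funext k l
      rw [Matrix.sum_apply, Finset.sum_eq_single l]
      · rw [vecMulVec_apply, PT.col_apply, Pi.single_eq_same, mul_one]
      · intro i _ hi
        rw [vecMulVec_apply, Pi.single_eq_of_ne (Ne.symm hi), mul_zero]
      · intro h; exact absurd (Finset.mem_univ _) h
    conv_lhs => rw [h4, map_sum]
    rw [LinearMap.sum_apply]
    refine Finset.sum_congr rfl fun i _ => ?_
    rw [LinearMap.sum_apply]
    exact h5 _
  have h4 : ∀ x : EM a b F, Φ x = pf x := by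
    intro x
    rw [h3 x, map_sum, map_sum]
    refine Finset.sum_congr rfl fun i _ => ?_
    rw [map_sum, map_sum]
    exact Finset.sum_congr rfl fun j _ => h2 _ _ _
  rw [← h4, ← h4, hΦ g hg]

/-- If the centres of the radicals are as small as possible, the overgroup consists of tensors. -/
theorem tens_of_hK (hσ : σ ≠ RingHom.id F) (hσ2 : ∀ x : F, σ (σ x) = x) {ρ : F} (hρ : σ ρ = ρ) (hρ0 : ρ ≠ 0)
    (hρ1 : ρ ≠ 1) (ha : 1 ≤ a) (hab : a < b) (hb : 3 ≤ b) (hM : Over σ M)
    (hK : ∀ w : Fin b → F, w ≠ 0 → stB σ b w w = 0 → ∀ κ : (Fin a → F) →ₗ[F] (Fin a → F), InK σ M w κ →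
      ∃ c : F, ∀ x, κ x = c • x) {g : Mat a b F ≃ₗ[F] Mat a b F} (hg : g ∈ M) : IsTens g :=
  isTens_of_pf ha hab fun x => pf_comm hσ hσ2 hρ hρ0 hρ1 ha hab hb hM hK hg x

/-- `HasT` for `u ⊗ s`, `u` isotropic, `s` arbitrary. -/
theorem gen_pure3 (hσ : σ ≠ RingHom.id F) (hσ2 : ∀ x : F, σ (σ x) = x) {ρ : F} (hρ : σ ρ = ρ) (hρ0 : ρ ≠ 0)
    (hρ1 : ρ ≠ 1) (hb : 3 ≤ b) (hM : Over σ M)
    (h0 : ∀ u w, stB σ a u u = 0 → stB σ b w w = 0 → HasT (BV σ a b) M (vecMulVec u w))
    (u : Fin a → F) (hu : stB σ a u u = 0) (s : Fin b → F) : HasT (BV σ a b) M (vecMulVec u s) := by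
  have hSa := stB_symm hσ2 a
  have hSb := stB_symm hσ2 b
  have hSV := BV_symm hσ2 a b
  by_cases hss : stB σ b s s = 0
  · exact h0 u s hu hss
  by_cases hu0 : u = 0
  · subst hu0
    rw [zero_pure]
    exact HasT.zero
  obtain ⟨u', huu', hu'⟩ := exists_partner_std hσ hσ2 hu0 hu
  have hu'u : stB σ a u' u = 1 := by rw [← hSa.eq, huu', map_one]
  obtain ⟨l, hl0, hl⟩ := exists_skew hσ hσ2
  have hσl : σ l = -l := by linear_combination hl
  have hs0 : s ≠ 0 := by
    rintro rfl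
    exact hss (by rw [map_zero])
  set n := stB σ b s s with hn_def
  have hσn : σ n = n := hSb.eq _ _
  -- an isotropic vector `r`
  obtain ⟨r, hsr, hr⟩ := exists_vec (B := stB σ b) hσ hσ2 hSb (stB_sepLeft b) (by rw [finrank_fin_fun]; omega)
    hs0 l 0 (map_zero _)
  have hrs : stB σ b r s = -l := by rw [← hSb.eq, hsr, hσl]
  -- a unit vector orthogonal to `s` and `r`
  obtain ⟨e, he1, he2, he3⟩ : ∃ e, stB σ b s e = 0 ∧ stB σ b r e = 0 ∧ stB σ b e e = 1 := by
    obtain ⟨e, he, hee⟩ := HermWitt.exists_apply_self_eq_one σ (stB σ b) hσ hσ2 hSb (perp (stB σ b) (Set.range ![s, r])) (by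
      have hd := finrank_perp_range (B := stB σ b) ![s, r]
      rw [Fintype.card_fin, finrank_fin_fun] at hd
      have h1 : 0 < finrank F (perp (stB σ b) (Set.range ![s, r])) := by omega
      obtain ⟨⟨x, hx⟩, hx0⟩ := Module.finrank_pos_iff_exists_ne_zero.mp h1
      have hx0' : x ≠ 0 := fun h => hx0 (Subtype.ext h)
      obtain ⟨z, hz⟩ := exists_one_std (σ := σ) hx0'
      have hsx : stB σ b s x = 0 := hx _ ⟨0, rfl⟩
      have hrx : stB σ b r x = 0 := hx _ ⟨1, rfl⟩
      have hxs := symm_zero hSb hsx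
      have hxr := symm_zero hSb hrx
      set α := -(stB σ b r z) / l with hα
      set β := (stB σ b s z - α * n) / l with hβ
      have hαl : α * l = -(stB σ b r z) := by rw [hα, div_mul_cancel₀ _ hl0]
      have hβl : β * l = stB σ b s z - α * n := by rw [hβ, div_mul_cancel₀ _ hl0]
      refine ⟨x, hx, z - α • s - β • r, ?_, ?_⟩
      · rintro _ ⟨i, rfl⟩
        fin_cases i
        · show stB σ b s _ = 0
          simp only [map_sub, map_smul, hsr, smul_eq_mul, ← hn_def]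
          linear_combination -hβl
        · show stB σ b r _ = 0
          simp only [map_sub, map_smul, hrs, hr, smul_eq_mul]
          linear_combination hαl
      · simp only [map_sub, map_smul, hxs, hxr, smul_eq_mul, mul_zero, sub_zero, hz]
        exact one_ne_zero)
    exact ⟨e, he _ ⟨0, rfl⟩, he _ ⟨1, rfl⟩, hee⟩
  have hes := symm_zero hSb he1
  have her := symm_zero hSb he2
  obtain ⟨y0, hy0⟩ := HermWitt.trace_surj σ hσ hσ2 ((1 - 2 * ρ) * n) (by
    rw [map_mul, map_sub, map_mul, map_one, hρ, hσn, map_ofNat])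
  obtain ⟨γ, hγ0, hγ⟩ := HermWitt.norm_surj σ hσ hσ2 (-(ρ * (1 - ρ) * n)) (by
    rw [map_neg, map_mul, map_mul, map_sub, map_one, hρ, hσn]) (by
    refine neg_ne_zero.mpr (mul_ne_zero (mul_ne_zero hρ0 ?_) hss)
    intro h
    exact hρ1 (by linear_combination -h))
  set y := y0 / l with hy
  have hyl : y * l = y0 := by rw [hy, div_mul_cancel₀ _ hl0]
  have hσy : σ y * l = -σ y0 := by
    have h1 := congrArg σ hyl
    rw [map_mul, hσl] at h1
    linear_combination -h1
  set s₁ : Fin b → F := ρ • s + y • r + γ • e with hs₁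
  set s₂ : Fin b → F := (1 - ρ) • s - y • r - γ • e with hs₂
  have hs12 : s₁ + s₂ = s := by
    rw [hs₁, hs₂, sub_smul, one_smul]
    abel
  have hs1 : stB σ b s₁ s₁ = 0 := by
    rw [hs₁]
    simp only [map_add, LinearMap.add_apply, LinearMap.map_smulₛₗ₂, map_smul, smul_eq_mul, hsr, hrs, hr, he1, he2, he3, hes, her,
      hρ, ← hn_def]
    linear_combination hγ + ρ * hyl - ρ * hσy + ρ * hy0
  have hs2 : stB σ b s₂ s₂ = 0 := by
    rw [hs₂]
    simp only [map_sub, LinearMap.sub_apply, LinearMap.map_smulₛₗ₂, map_smul, smul_eq_mul, hsr, hrs, hr, he1, he2, he3, hes, her,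
      hρ, ← hn_def, map_one]
    linear_combination hγ - (1 - ρ) * hyl + (1 - ρ) * hσy - (1 - ρ) * hy0
  have hs1r : stB σ b s₁ r = ρ * l := by
    rw [hs₁]
    simp only [map_add, LinearMap.add_apply, LinearMap.map_smulₛₗ₂, smul_eq_mul, hsr, hr, her, hρ]
    ring
  have hs2r : stB σ b s₂ r = (1 - ρ) * l := by
    rw [hs₂]
    simp only [map_sub, LinearMap.sub_apply, LinearMap.map_smulₛₗ₂, smul_eq_mul, hsr, hr, her, hρ, map_one]
    ring
  have hrs1 : stB σ b r s₁ = -(ρ * l) := by rw [← hSb.eq, hs1r, map_mul, hρ, hσl]; ring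
  have hrs2 : stB σ b r s₂ = -((1 - ρ) * l) := by
    rw [← hSb.eq, hs2r, map_mul, map_sub, map_one, hρ, hσl]; ring
  have h1ρ : 1 - ρ ≠ 0 := fun h => hρ1 (by linear_combination -h)
  have h1 : HasT (BV σ a b) M (vecMulVec u s₁ + vecMulVec u' r) := by
    refine HasT.add hSV hM.iso (h0 u s₁ hu hs1) (h0 u' r hu' hr) ?_ ?_
    · rw [BV_pure, hu'u, hrs1, one_mul]
      exact neg_ne_zero.mpr (mul_ne_zero hρ0 hl0)
    · simp only [map_add, LinearMap.add_apply, BV_pure, hu, hu', huu', hu'u, hs1r, hrs1]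
      ring
  have h2 : HasT (BV σ a b) M (vecMulVec u s₂ + vecMulVec u' (-r)) := by
    refine HasT.add hSV hM.iso (h0 u s₂ hu hs2) (h0 u' (-r) hu' (by rw [map_neg, map_neg, LinearMap.neg_apply, hr, neg_zero, neg_zero]))
      ?_ ?_
    · rw [BV_pure, hu'u, map_neg, LinearMap.neg_apply, hrs2, one_mul, neg_neg]
      exact mul_ne_zero h1ρ hl0
    · simp only [map_add, map_neg, LinearMap.neg_apply, LinearMap.add_apply, BV_pure, hu, hu', huu', hu'u, hs2r, hrs2]
      ring
  have h3 := HasT.add hSV hM.iso h1 h2 (by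
    simp only [map_add, map_neg, LinearMap.neg_apply, LinearMap.add_apply, BV_pure, hu, hu', huu', hu'u, hs2r, hrs1]
    intro h
    exact hl0 (by linear_combination h)) (by
    simp only [map_add, map_neg, LinearMap.neg_apply, LinearMap.add_apply, BV_pure, hu, hu', huu', hu'u, hs2r, hrs2, hs1r, hrs1]
    ring)
  have h4 : vecMulVec u s₁ + vecMulVec u' r + (vecMulVec u s₂ + vecMulVec u' (-r)) = (vecMulVec u s : Mat a b F) := by
    have h5 : (vecMulVec u s : Mat a b F) = vecMulVec u s₁ + vecMulVec u s₂ := by rw [← hs12, Matrix.vecMulVec_add]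
    rw [h5, Matrix.vecMulVec_neg]
    abel
  rw [h4] at h3
  exact h3

/-- **Overgroups of `SU_2 ⊗ SU_3`, `q ≥ 3`.** -/
theorem main_tens23 {M : Subgroup (Mat 2 3 F ≃ₗ[F] Mat 2 3 F)} (hσ : σ ≠ RingHom.id F) (hσ2 : ∀ x : F, σ (σ x) = x)
    (hq : ∃ ρ : F, σ ρ = ρ ∧ ρ ≠ 0 ∧ ρ ≠ 1) (hM : Over σ M) :
    (∀ g ∈ M, IsTens g) ∨ ∀ X, BV σ 2 3 X X = 0 → HasT (BV σ 2 3) M X := by
  obtain ⟨ρ, hρ, hρ0, hρ1⟩ := hq
  by_cases hK : ∀ w : Fin 3 → F, w ≠ 0 → stB σ 3 w w = 0 → ∀ κ : (Fin 2 → F) →ₗ[F] (Fin 2 → F), InK σ M w κ →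
      ∃ c : F, ∀ x, κ x = c • x
  · left
    intro g hg
    exact tens_of_hK hσ hσ2 hρ hρ0 hρ1 (by norm_num) (by norm_num) (by norm_num) hM hK hg
  · right
    push Not at hK
    obtain ⟨w, hw0, hw, κ, hκ, hns⟩ := hK
    have h1 := claimA hσ hσ2 (a := 2) (b := 3) (by norm_num) (by norm_num) (Or.inr ⟨ρ, hρ, hρ0, hρ1⟩) hM hw0 hw hκ
      (by push Not; exact hns)
    have h2 := gen_pure3 hσ hσ2 hρ hρ0 hρ1 (by norm_num) hM h1
    intro X hX
    have e : X = vecMulVec (Pi.single 0 1) (X 0) + vecMulVec (Pi.single 1 1) (X 1) := by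
      funext k
      show X k = (Pi.single 0 (1 : F) : Fin 2 → F) k • X 0 + (Pi.single 1 (1 : F) : Fin 2 → F) k • X 1
      fin_cases k
      · show X 0 = (Pi.single 0 (1 : F) : Fin 2 → F) 0 • X 0 + (Pi.single 1 (1 : F) : Fin 2 → F) 0 • X 1
        simp
      · show X 1 = (Pi.single 0 (1 : F) : Fin 2 → F) 1 • X 0 + (Pi.single 1 (1 : F) : Fin 2 → F) 1 • X 1
        simp
    rw [e]
    apply gen_rows_two hσ hσ2 hM (fun u w hu => h2 u hu w) (by decide)
    rw [BV_apply, Fin.sum_univ_two] at hX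
    exact hX

end Tr

end Cfsg.Agent.H924.TU
end

-- part: H924/TUFinal
section
/-!
**The stabiliser of a tensor decomposition into unitary spaces of dimensions `2` and `3` is maximal in `SU_6(q)`, `q ≥ 3`**
(`tensor23_maximal`).
-/

set_option autoImplicit false
set_option linter.unusedSectionVars false

namespace Cfsg.Agent.H924.TU

open Module Matrix Cfsg.Geo Cfsg.Agent.LieClassical.HermBasic Cfsg.Agent.H880
open scoped Kronecker

section Final

variable {F : Type*} [Field F] [Fintype F] {n q : ℕ}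

/-- **`GU_2(q) ⊗ GU_3(q)` is maximal in `SU_6(q)`, `q ≥ 3`.** -/
theorem tensor23_maximal (hF : Fintype.card F = q ^ 2) (hq3 : 3 ≤ q) (e : Fin n ≃ Fin 2 × Fin 3) (P : Matrix.GeneralLinearGroup (Fin n) F)
    (f₁ : (Fin 2 → F) → (Fin 2 → F) → F) (f₂ : (Fin 3 → F) → (Fin 3 → F) → F)
    (hf₁ : IsUnitaryFormPow q f₁) (hf₂ : IsUnitaryFormPow q f₂)
    (hT : IsTensorFormStructure (fun x : F => x ^ q) (Cfsg.hermForm n F q) f₁ f₂ e P) :
    IsMaximalIn (Cfsg.GU n F q ⊓ Cfsg.Geo.specialLinear (Fin n) F)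
      (tensorProductSubgroup 2 3 e P ⊓ (Cfsg.GU n F q ⊓ Cfsg.Geo.specialLinear (Fin n) F)) := by
  set σ : F →+* F := ((conj hF : F ≃+* F) : F →+* F) with hσ_def
  have hσx : ∀ x, σ x = x ^ q := fun x => rfl
  have hσ : σ ≠ RingHom.id F := by
    intro h
    obtain ⟨x, hx⟩ := exists_not_fixed hF
    exact hx (by rw [← hσx, h]; rfl)
  have hσ2 : ∀ x, σ (σ x) = x := fun x => by rw [hσx, hσx, pow_q_pow_q hF]
  have hn : n = 6 := by
    have h := Fintype.card_congr e
    rw [Fintype.card_prod, Fintype.card_fin, Fintype.card_fin, Fintype.card_fin] at h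
    rw [h]
  obtain ⟨Ψ, hΨ, hΨT⟩ := exists_coords hF (by omega) (by omega) e P f₁ f₂ hf₁ hf₂ hT
  have hq : ∃ ρ : F, σ ρ = ρ ∧ ρ ≠ 0 ∧ ρ ≠ 1 := by
    by_contra hcon
    push Not at hcon
    have hcard := card_fixed hF
    have hle : Nat.card {x : F // x ^ q = x} ≤ 2 := by
      classical
      have hsub : ∀ x : {x : F // x ^ q = x}, (x : F) = 0 ∨ (x : F) = 1 := by
        intro x
        by_cases h0 : (x : F) = 0
        · exact Or.inl h0
        · exact Or.inr (hcon x x.2 h0)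
      let φ : {x : F // x ^ q = x} → Bool := fun x => decide ((x : F) = 0)
      have hφ : Function.Injective φ := by
        intro x y hxy
        have h5 : ((x : F) = 0) ↔ ((y : F) = 0) := by simpa [φ] using hxy
        apply Subtype.ext
        rcases hsub x with hx | hx
        · rw [hx, h5.mp hx]
        · rcases hsub y with hy | hy
          · rw [h5.mpr hy] at hx
            exact absurd hx zero_ne_one
          · rw [hx, hy]
      have := Nat.card_le_card_of_injective φ hφ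
      simpa using this
    omega
  refine ⟨lt_of_le_of_ne inf_le_right ?_, ?_⟩
  · intro h
    have h5 : H918.SUg n F q ≤ tensorProductSubgroup 2 3 e P := by
      have h6 : H918.SUg n F q = tensorProductSubgroup 2 3 e P ⊓ (Cfsg.GU n F q ⊓ Cfsg.Geo.specialLinear (Fin n) F) := h.symm
      rw [h6]
      exact inf_le_left
    exact H918.SUg_not_le_tensorProductSubgroup hF (by omega) (by norm_num) (by norm_num) e P h5
  · intro M hHM hM
    let M' : Subgroup (Mat 2 3 F ≃ₗ[F] Mat 2 3 F) := M.comap (ofMat Ψ)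
    have hM'mem : ∀ k, k ∈ M' ↔ ofMat Ψ k ∈ M := fun k => Iff.rfl
    have hOver : Over σ M' :=
      { iso := fun k hk X Y => by
          have h5 := (H918.mem_SUg.mp (hM ((hM'mem k).mp hk))).1 (Ψ Y) (Ψ X)
          rw [ofMat_mulVec, ofMat_mulVec, hΨ, hΨ] at h5
          exact h5
        det := fun k hk => by
          have h5 := (H918.mem_SUg.mp (hM ((hM'mem k).mp hk))).2
          rw [ofMat_det] at h5
          exact h5
        ge := fun k h5 h6 h7 => by
          rw [hM'mem]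
          apply hHM
          refine ⟨hΨT k h7, H918.mem_SUg.mpr ⟨fun u v => ?_, by rw [ofMat_det, h6]⟩⟩
          obtain ⟨X, rfl⟩ := Ψ.surjective u
          obtain ⟨Y, rfl⟩ := Ψ.surjective v
          rw [ofMat_mulVec, ofMat_mulVec, hΨ, hΨ, h5] }
    rcases main_tens23 hσ hσ2 hq hOver with hl | hr
    · left
      refine le_antisymm (fun g hg => ⟨?_, hM hg⟩) hHM
      obtain ⟨k, rfl⟩ := ofMat_surjective Ψ g
      exact hΨT k (hl k hg)
    · right
      refine le_antisymm hM ?_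
      apply H918.SUg_le_of_tv hF (by omega)
      intro v c hv hc
      obtain ⟨X, rfl⟩ := Ψ.surjective v
      obtain ⟨k, hk, hkx⟩ := (hr X (by rw [← hΨ]; exact hv)).2 c (by rw [hσx]; exact hc)
      have h5 : ofMat Ψ k = H918.tv hF (Ψ X) c hv hc := by
        apply Units.ext
        apply Matrix.mulVec_injective
        funext x
        obtain ⟨Y, rfl⟩ := Ψ.surjective x
        rw [ofMat_mulVec, hkx, H918.tv_mulVec, map_add, map_smul, hΨ]
      rw [← h5]
      exact hk

end Final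

end Cfsg.Agent.H924.TU
end

-- part: H924/SixFrame
section
/-!
**Orthonormal frames in `SU_6(q)`, `q` odd**: the monomial group is maximal. The diagonal involutions `diag(-1,-1,1,1,1,1)`
are TI (`OddFrame.mono_of_conj`), so vectors with two zeros whose images have two zeros are moved like under a monomial
element (`transfer`); applied to the vectors supported on three coordinates this makes the six coordinate functionals a
Steiner triple system on six points, which does not exist.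
-/

set_option autoImplicit false
set_option linter.unusedSectionVars false

namespace Cfsg.Agent.H924.SixFrame

open Cfsg Cfsg.Agent.LieClassical.HermBasic Cfsg.Agent.LieClassical.HermSiegel Cfsg.Agent.H927
open Cfsg.Agent.H876.MonoBasic Cfsg.Agent.H876.OddFrame

variable {F : Type*} [Field F] {n q : ℕ}

/-- The monomial subgroup. -/
def monoG (n : ℕ) (F : Type*) [Field F] (q : ℕ) : Subgroup (SU n F q) where
  carrier := {g | IsMono g}
  one_mem' := isMono_one
  mul_mem' := fun h h' => IsMono.mul h h'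
  inv_mem' := fun h => IsMono.inv h

/-- The stabiliser of a vector. -/
def stabV (v : Fin n → F) : Subgroup (SU n F q) where
  carrier := {g | act g v = v}
  one_mem' := act_one v
  mul_mem' := by
    intro g h hg hh
    show act (g * h) v = v
    rw [act_mul, show act h v = v from hh, show act g v = v from hg]
  inv_mem' := by
    intro g hg
    show act g⁻¹ v = v
    have h1 : act g v = v := hg
    calc act g⁻¹ v = act g⁻¹ (act g v) := by rw [h1]
      _ = v := by rw [← act_mul, inv_mul_cancel, act_one]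

section Tr

variable [Fintype F] (hF : Fintype.card F = q ^ 2)
variable {X : Subgroup (SU n F q)} (hG : ∀ g : SU n F q, IsMono g → g ∈ X)
  (hstar : ∀ y ∈ X, ∀ (k : Fin n) (c : F), act y (Pi.single k 1) = c • Pi.single k 1 → IsMono y)
  (h2 : (2 : F) ≠ 0)
include hF hG hstar h2

/-- **Transfer**: vectors with two zeros whose images have two zeros. -/
theorem transfer (hn : 5 ≤ n) (hq : 3 ≤ q) {g : SU n F q} (hg : g ∈ X) {v : Fin n → F} {i j k l : Fin n} (hij : i ≠ j)
    (hkl : k ≠ l) (hi : v i = 0) (hj : v j = 0) (hk : act g v k = 0) (hl : act g v l = 0) :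
    ∃ h : SU n F q, IsMono h ∧ act g v = act h v := by
  obtain ⟨b, hb⟩ := exists_B (F := F) hF hij
  obtain ⟨b', hb'⟩ := exists_B (F := F) hF hkl
  have : Finite X := inferInstance
  obtain ⟨m, hm, h, hh, e⟩ := H880.ti_transfer_one Nat.prime_two X (monoG n F q) (fun x hx => hG x hx)
    {b | ∃ i j : Fin n, i ≠ j ∧ IsB b i j} (by
      rintro s ⟨i, j, _, hs⟩
      exact ⟨hs.isDiag.isMono, 1, by rw [pow_one, sq, hs.mul_self]⟩) (by
      rintro s ⟨i, j, hij, hs⟩ x hx hm
      have h1 := mono_of_conj hF hG hstar h2 hn hq (X.inv_mem hx) hij hs (by rw [inv_inv]; exact hm)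
      exact isMono_inv_iff.mp h1)
    (stabV v) (s := b) (t := b') ⟨i, j, hij, hb⟩ ⟨k, l, hkl, hb'⟩ (g := g⁻¹) (X.inv_mem hg) (by
      show act b v = v
      funext a
      rw [hb]
      split_ifs with h
      · rcases h with rfl | rfl
        · rw [hi, neg_zero]
        · rw [hj, neg_zero]
      · rfl) (by
      show act (g⁻¹ * b' * g⁻¹⁻¹) v = v
      have h1 : act b' (act g v) = act g v := by
        funext a
        rw [hb']
        split_ifs with h
        · rcases h with rfl | rfl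
          · rw [hk, neg_zero]
          · rw [hl, neg_zero]
        · rfl
      rw [inv_inv, act_mul, act_mul, h1, ← act_mul, inv_mul_cancel, act_one])
  have hm' : act m v = v := hm
  refine ⟨h⁻¹, IsMono.inv hh, ?_⟩
  have h3 : g = h⁻¹ * m⁻¹ := by rw [← inv_inv g, e, mul_inv_rev]
  have h4 : act m⁻¹ v = v := by
    calc act m⁻¹ v = act m⁻¹ (act m v) := by rw [hm']
      _ = v := by rw [← act_mul, inv_mul_cancel, act_one]
  rw [h3, act_mul, h4]

end Tr

open scoped Classical in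
/-- The number of zeros is invariant under monomial elements. -/
theorem card_zeros {h : SU n F q} (hh : IsMono h) (v : Fin n → F) :
    (Finset.univ.filter fun m => act h v m = 0).card = (Finset.univ.filter fun m => v m = 0).card := by
  classical
  obtain ⟨σ, d, hd0, hd⟩ := IsMono.exists_perm hh
  symm
  apply Finset.card_bij (fun m _ => σ m)
  · intro m hm
    rw [Finset.mem_filter] at hm ⊢
    exact ⟨Finset.mem_univ _, by rw [act_perm_apply hd, hm.2, mul_zero]⟩
  · intro a _ b _ hab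
    exact σ.injective hab
  · intro m hm
    refine ⟨σ.symm m, ?_, σ.apply_symm_apply m⟩
    rw [Finset.mem_filter] at hm ⊢
    refine ⟨Finset.mem_univ _, ?_⟩
    have h1 := act_perm_apply hd v (σ.symm m)
    rw [Equiv.apply_symm_apply, hm.2] at h1
    exact (mul_eq_zero.mp h1.symm).resolve_left (hd0 _)

section Six

variable [Fintype F] (hF : Fintype.card F = q ^ 2) {X : Subgroup (SU 6 F q)} (hG : ∀ g : SU 6 F q, IsMono g → g ∈ X)
  (hstar : ∀ y ∈ X, ∀ (k : Fin 6) (c : F), act y (Pi.single k 1) = c • Pi.single k 1 → IsMono y)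
  (h2 : (2 : F) ≠ 0)
include hF hG hstar h2

open scoped Classical in
/-- A non-zero vector supported on `0, 1, 2` whose image vanishes in `k, l`: all of `v 0`, `v 1`, `v 2` are non-zero and
the image has exactly three zeros. -/
theorem three_zeros (hq : 3 ≤ q) {g : SU 6 F q} (hg : g ∈ X) (hgm : ¬ IsMono g) {k l : Fin 6} (hkl : k ≠ l)
    {v : Fin 6 → F} (hv : v ≠ 0) (h3 : v 3 = 0) (h4 : v 4 = 0) (h5 : v 5 = 0) (hk : act g v k = 0) (hl : act g v l = 0) :
    v 0 ≠ 0 ∧ (Finset.univ.filter fun m => act g v m = 0).card = 3 := by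
  classical
  have hgm' : ¬ IsMono g⁻¹ := fun h => hgm (isMono_inv_iff.mp h)
  have key : ∀ i j m : Fin 6, i ≠ j → (∀ a, a ≠ i → a ≠ j → a = m ∨ a = 3 ∨ a = 4 ∨ a = 5) → v m ≠ 0 := by
    intro i j m hij hall hm
    refine no_two_zeros hF hG hstar h2 (by norm_num) hq (X.inv_mem hg) hgm' hij hkl (u := v) hv ?_ (by rw [inv_inv]; exact hk)
      (by rw [inv_inv]; exact hl)
    intro a hai haj
    rcases hall a hai haj with rfl | rfl | rfl | rfl
    · exact hm
    · exact h3
    · exact h4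
    · exact h5
  have e0 : v 0 ≠ 0 := key 1 2 0 (by decide) (by decide)
  have e1 : v 1 ≠ 0 := key 0 2 1 (by decide) (by decide)
  have e2 : v 2 ≠ 0 := key 0 1 2 (by decide) (by decide)
  refine ⟨e0, ?_⟩
  obtain ⟨h, hh, e⟩ := transfer hF hG hstar h2 (by norm_num) hq hg (i := 3) (j := 4) (by decide) hkl h3 h4 hk hl
  rw [e, card_zeros hh]
  have h6 : (Finset.univ.filter fun m => v m = 0) = {3, 4, 5} := by
    ext m
    rw [Finset.mem_filter]
    fin_cases m <;> simp [e0, e1, e2, h3, h4, h5]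
  rw [h6]
  rfl

/-- There is no non-monomial element. -/
theorem false_of_not_mono (hq : 3 ≤ q) {g : SU 6 F q} (hg : g ∈ X) (hgm : ¬ IsMono g) : False := by
  classical
  have hex : ∀ l : Fin 6, ∃ v : Fin 6 → F, v ≠ 0 ∧ v 3 = 0 ∧ v 4 = 0 ∧ v 5 = 0 ∧ act g v 0 = 0 ∧ act g v l = 0 := by
    intro l
    obtain ⟨v, hv0, hv, hvl⟩ := exists_supported (F := F) (n := 6) (r := 2) {0, 1, 2} (by decide) ![lin g 0, lin g l]
    exact ⟨v, hv0, hv 3 (by decide), hv 4 (by decide), hv 5 (by decide), hvl 0, hvl 1⟩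
  choose v hv0 hv3 hv4 hv5 hvk hvl using hex
  -- uniqueness up to scalars
  have huniq : ∀ (l : Fin 6), l ≠ 0 → ∀ w w' : Fin 6 → F, w ≠ 0 → w 3 = 0 → w 4 = 0 → w 5 = 0 → act g w 0 = 0 → act g w l = 0 →
      w' 3 = 0 → w' 4 = 0 → w' 5 = 0 → act g w' 0 = 0 → act g w' l = 0 → ∃ c : F, w' = c • w := by
    intro l hl0 w w' hw0 hw3 hw4 hw5 hwk hwl hw3' hw4' hw5' hwk' hwl'
    have hw := (three_zeros hF hG hstar h2 hq hg hgm (Ne.symm hl0) hw0 hw3 hw4 hw5 hwk hwl).1
    refine ⟨w' 0 / w 0, ?_⟩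
    by_contra hne
    have h6 : w' - (w' 0 / w 0) • w ≠ 0 := fun h => hne (sub_eq_zero.mp h)
    have hact : ∀ m, act g (w' - (w' 0 / w 0) • w) m = act g w' m - (w' 0 / w 0) * act g w m := by
      intro m
      rw [act_sub, act_smul]
      rfl
    have h7 := (three_zeros hF hG hstar h2 hq hg hgm (Ne.symm hl0) h6
      (by simp only [Pi.sub_apply, Pi.smul_apply, hw3, hw3', smul_zero, sub_zero])
      (by simp only [Pi.sub_apply, Pi.smul_apply, hw4, hw4', smul_zero, sub_zero])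
      (by simp only [Pi.sub_apply, Pi.smul_apply, hw5, hw5', smul_zero, sub_zero])
      (by rw [hact, hwk, hwk', mul_zero, sub_zero]) (by rw [hact, hwl, hwl', mul_zero, sub_zero])).1
    apply h7
    simp only [Pi.sub_apply, Pi.smul_apply, smul_eq_mul]
    field_simp
    ring
  -- the third zero
  have hthird : ∀ l : Fin 6, l ≠ 0 → ∃ m : Fin 6, m ≠ 0 ∧ m ≠ l ∧ act g (v l) m = 0 ∧
      ∀ m', act g (v l) m' = 0 → m' = 0 ∨ m' = l ∨ m' = m := by
    intro l hl0
    have h1 := (three_zeros hF hG hstar h2 hq hg hgm (Ne.symm hl0) (hv0 l) (hv3 l) (hv4 l) (hv5 l) (hvk l) (hvl l)).2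
    have h0 : (0 : Fin 6) ∈ (Finset.univ.filter fun m => act g (v l) m = 0) :=
      Finset.mem_filter.mpr ⟨Finset.mem_univ _, hvk l⟩
    have hl : l ∈ (Finset.univ.filter fun m => act g (v l) m = 0).erase 0 :=
      Finset.mem_erase.mpr ⟨hl0, Finset.mem_filter.mpr ⟨Finset.mem_univ _, hvl l⟩⟩
    have h3 : (((Finset.univ.filter fun m => act g (v l) m = 0).erase 0).erase l).card = 1 := by
      rw [Finset.card_erase_of_mem hl, Finset.card_erase_of_mem h0, h1]
    obtain ⟨m, hm⟩ := Finset.card_eq_one.mp h3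
    have hmm : m ∈ ((Finset.univ.filter fun m => act g (v l) m = 0).erase 0).erase l := by
      rw [hm]; exact Finset.mem_singleton_self m
    rw [Finset.mem_erase, Finset.mem_erase, Finset.mem_filter] at hmm
    refine ⟨m, hmm.2.1, hmm.1, hmm.2.2.2, fun m' hm' => ?_⟩
    by_cases e0 : m' = 0
    · exact Or.inl e0
    by_cases e1 : m' = l
    · exact Or.inr (Or.inl e1)
    right; right
    have : m' ∈ ((Finset.univ.filter fun m => act g (v l) m = 0).erase 0).erase l := by
      rw [Finset.mem_erase, Finset.mem_erase, Finset.mem_filter]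
      exact ⟨e1, e0, Finset.mem_univ _, hm'⟩
    rw [hm] at this
    exact Finset.mem_singleton.mp this
  choose t ht0 htl htz htu using hthird
  have hsum := Finset.sum_involution (s := (Finset.univ : Finset (Fin 6)).erase 0) (f := fun _ => (1 : ZMod 2))
    (fun l hl => t l (Finset.ne_of_mem_erase hl)) (fun _ _ => by decide)
    (fun l hl _ => htl l (Finset.ne_of_mem_erase hl))
    (fun l hl => Finset.mem_erase.mpr ⟨ht0 l _, Finset.mem_univ _⟩) (by
      intro l hl
      have hl0 := Finset.ne_of_mem_erase hl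
      have hm0 := ht0 l hl0
      -- `v (t l)` is proportional to `v l`
      obtain ⟨c, hc⟩ := huniq (t l hl0) hm0 (v l) (v (t l hl0)) (hv0 l) (hv3 l) (hv4 l) (hv5 l) (hvk l) (htz l hl0)
        (hv3 _) (hv4 _) (hv5 _) (hvk _) (hvl _)
      have h1 : act g (v (t l hl0)) l = 0 := by
        rw [hc, act_smul, Pi.smul_apply, hvl l, smul_zero]
      rcases htu (t l hl0) hm0 l h1 with h | h | h
      · exact absurd h hl0
      · exact absurd h.symm (htl l hl0)
      · exact h.symm)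
  have h5 : (∑ _x ∈ (Finset.univ : Finset (Fin 6)).erase 0, (1 : ZMod 2)) = 1 := by decide
  rw [h5] at hsum
  exact one_ne_zero hsum

end Six

/-- **Overgroups of the monomial group in `SU_6(q)`, `q` odd.** -/
theorem eq_top_six [Fintype F] (hF : Fintype.card F = q ^ 2) {X : Subgroup (SU 6 F q)}
    (hG : ∀ g : SU 6 F q, IsMono g → g ∈ X) (h2 : (2 : F) ≠ 0) (hq : 3 ≤ q) (hX : ∃ g ∈ X, ¬ IsMono g) : X = ⊤ := by
  by_contra htop
  have hstar : ∀ y ∈ X, ∀ (k : Fin 6) (c : F), act y (Pi.single k 1) = c • Pi.single k 1 → IsMono y := by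
    intro y hy k c hk
    by_contra hny
    exact htop (eq_top_of_fix hF hG (by norm_num) hq hy hny hk)
  obtain ⟨g, hg, hgm⟩ := hX
  exact false_of_not_mono hF hG hstar h2 hq hg hgm

/-- overgroups of the monomial group, `n ≥ 5`, `(n, q) ≠ (6, 2)`. -/
theorem frame_top [Fintype F] (hF : Fintype.card F = q ^ 2) (hn : 5 ≤ n) (h6 : n = 6 → q ≠ 2) (X : Subgroup (SU n F q))
    (hG : ∀ g, IsMono g → g ∈ X) (hX : ∃ g ∈ X, ¬ IsMono g) : X = ⊤ := by
  by_cases h : n = 6 ∧ (2 : F) ≠ 0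
  · obtain ⟨rfl, h2⟩ := h
    rcases H876.FrameMax.cases_q hF with rfl | ⟨h2', hq⟩ | ⟨h2', hq⟩
    · exact absurd rfl (h6 rfl)
    · exact absurd h2' h2
    · exact eq_top_six hF hG h2 hq hX
  · refine H876.FrameMax.frame_top_all hF hn (fun hn6 => ⟨?_, h6 hn6⟩) X hG hX
    by_contra h2
    exact h ⟨hn6, h2⟩

/-- **Stabilisers of orthonormal frames are maximal in `SU_n(q)`, `n ≥ 5`, `(n, q) ≠ (6, 2)`.** -/
theorem frame_maximal [Fintype F] (hF : Fintype.card F = q ^ 2) (hn : 5 ≤ n) (h6 : n = 6 → q ≠ 2) {t : ℕ}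
    (D : Fin t → Submodule F (Fin n → F))
    (hD : Cfsg.Geo.IsNondegenerateMDecomposition (Cfsg.hermForm n F q) 1 D) :
    Cfsg.Geo.IsMaximalIn (Cfsg.GU n F q ⊓ Cfsg.Geo.specialLinear (Fin n) F)
      (Cfsg.Geo.decompositionStabilizer D ⊓ (Cfsg.GU n F q ⊓ Cfsg.Geo.specialLinear (Fin n) F)) :=
  H876.FrameMax.frame_maximal hF (by omega) D hD (frame_top hF hn h6)

end Cfsg.Agent.H924.SixFrame
end

-- part: S5801
section
set_option autoImplicit false
open Cfsg

namespace Cfsg.Agent.S5801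

/-- Maximal subgroups of SU_6(q) of geometric type (any prime power q). Let F be the field with q² elements, f the standard unitary form Σ u_i v_i^q on F^6 and SU_6(q) its determinant-one isometry group inside GL_6(F). Each of the following, intersected with SU_6(q), is a maximal subgroup of SU_6(q): (1) the stabiliser of any non-zero subspace on which f vanishes identically (totally isotropic 1-, 2- and 3-spaces); (2) the stabiliser of any non-degenerate 1-space or 2-space; (3) for q ≥ 3, the stabiliser of any decomposition into six mutually orthogonal non-degenerate 1-spaces; (4) for q ≥ 3, the stabiliser of any decomposition into three mutually orthogonal non-degenerate 2-spaces; (5) the stabiliser of any decomposition into two mutually orthogonal non-degenerate 3-spaces; (6) the stabiliser of any decomposition into two totally isotropic 3-spaces; (7) for q ≥ 3, the normaliser of any degree-3 subfield of the matrix algebra closed under adjoints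 for f; (8) for q ≥ 3, the stabiliser of any tensor decomposition of f as (unitary form on F^2) ⊗ (unitary form on F^3) up to a scalar; (9) every subfield group for a subfield F₀ of odd prime index in F whose F₀-structure carries f; (10) every subfield group for the subfield F₀ of index 2 whose F₀-structure carries ζ f, vanishing on pairs (u, u), for a non-zero ζ with ζ + ζ^q = 0 (symplectic type); (11) for q odd, every subfield group for the subfield F₀ of index 2 whose F₀-structure carries f (orthogonal types, either sign). -/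
theorem result {F : Type*} [Field F] [Fintype F] (q : ℕ) (hF : Fintype.card F = q ^ 2) :
    (∀ W : Submodule F (Fin 6 → F), W ≠ ⊥ → Cfsg.Geo.IsTotallySingularFor (Cfsg.hermForm 6 F q) W → Cfsg.Geo.IsMaximalIn (Cfsg.GU 6 F q ⊓ Cfsg.Geo.specialLinear (Fin 6) F) (Cfsg.Geo.subspaceStabilizer W ⊓ (Cfsg.GU 6 F q ⊓ Cfsg.Geo.specialLinear (Fin 6) F))) ∧
    (∀ W : Submodule F (Fin 6 → F), W ≠ ⊥ → Cfsg.Geo.IsNondegenerateOn (Cfsg.hermForm 6 F q) W → 2 * Module.finrank F W < 6 → Cfsg.Geo.IsMaximalIn (Cfsg.GU 6 F q ⊓ Cfsg.Geo.specialLinear (Fin 6) F) (Cfsg.Geo.subspaceStabilizer W ⊓ (Cfsg.GU 6 F q ⊓ Cfsg.Geo.specialLinear (Fin 6) F))) ∧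
    (3 ≤ q → ∀ D : Fin 6 → Submodule F (Fin 6 → F), Cfsg.Geo.IsNondegenerateMDecomposition (Cfsg.hermForm 6 F q) 1 D → Cfsg.Geo.IsMaximalIn (Cfsg.GU 6 F q ⊓ Cfsg.Geo.specialLinear (Fin 6) F) (Cfsg.Geo.decompositionStabilizer D ⊓ (Cfsg.GU 6 F q ⊓ Cfsg.Geo.specialLinear (Fin 6) F))) ∧
    (3 ≤ q → ∀ D : Fin 3 → Submodule F (Fin 6 → F), Cfsg.Geo.IsNondegenerateMDecomposition (Cfsg.hermForm 6 F q) 2 D → Cfsg.Geo.IsMaximalIn (Cfsg.GU 6 F q ⊓ Cfsg.Geo.specialLinear (Fin 6) F) (Cfsg.Geo.decompositionStabilizer D ⊓ (Cfsg.GU 6 F q ⊓ Cfsg.Geo.specialLinear (Fin 6) F))) ∧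
    (∀ D : Fin 2 → Submodule F (Fin 6 → F), Cfsg.Geo.IsNondegenerateMDecomposition (Cfsg.hermForm 6 F q) 3 D → Cfsg.Geo.IsMaximalIn (Cfsg.GU 6 F q ⊓ Cfsg.Geo.specialLinear (Fin 6) F) (Cfsg.Geo.decompositionStabilizer D ⊓ (Cfsg.GU 6 F q ⊓ Cfsg.Geo.specialLinear (Fin 6) F))) ∧
    (∀ D : Fin 2 → Submodule F (Fin 6 → F), Cfsg.Geo.IsMDecomposition 3 D → (∀ i, Cfsg.Geo.IsTotallySingularFor (Cfsg.hermForm 6 F q) (D i)) → Cfsg.Geo.IsMaximalIn (Cfsg.GU 6 F q ⊓ Cfsg.Geo.specialLinear (Fin 6) F) (Cfsg.Geo.decompositionStabilizer D ⊓ (Cfsg.GU 6 F q ⊓ Cfsg.Geo.specialLinear (Fin 6) F))) ∧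
    (3 ≤ q → ∀ K : Subalgebra F (Matrix (Fin 6) (Fin 6) F), Cfsg.Geo.IsFieldSubalgebra 3 K → Cfsg.Geo.IsAdjointClosedFor (Cfsg.hermForm 6 F q) K → Cfsg.Geo.IsMaximalIn (Cfsg.GU 6 F q ⊓ Cfsg.Geo.specialLinear (Fin 6) F) (Cfsg.Geo.subalgebraNormalizer K ⊓ (Cfsg.GU 6 F q ⊓ Cfsg.Geo.specialLinear (Fin 6) F))) ∧
    (3 ≤ q → ∀ (e : Fin 6 ≃ Fin 2 × Fin 3) (P : Matrix.GeneralLinearGroup (Fin 6) F) (f₁ : (Fin 2 → F) → (Fin 2 → F) → F) (f₂ : (Fin 3 → F) → (Fin 3 → F) → F), Cfsg.Geo.IsUnitaryFormPow q f₁ → Cfsg.Geo.IsUnitaryFormPow q f₂ → Cfsg.Geo.IsTensorFormStructure (fun x : F => x ^ q) (Cfsg.hermForm 6 F q) f₁ f₂ e P → Cfsg.Geo.IsMaximalIn (Cfsg.GU 6 F q ⊓ Cfsg.Geo.specialLinear (Fin 6) F) (Cfsg.Geo.tensorProductSubgroup 2 3 e P ⊓ (Cfsg.GU 6 F q ⊓ Cfsg.Geo.specialLinear (Fin 6) F))) ∧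
    (∀ (F₀ : Subfield F) (r : ℕ) (P : Matrix.GeneralLinearGroup (Fin 6) F), r.Prime → Odd r → Fintype.card F = Nat.card F₀ ^ r → Cfsg.Geo.IsFormRationalStructure (Cfsg.hermForm 6 F q) F₀ 1 P → Cfsg.Geo.IsMaximalIn (Cfsg.GU 6 F q ⊓ Cfsg.Geo.specialLinear (Fin 6) F) (Cfsg.Geo.subfieldSubgroup F₀ P ⊓ (Cfsg.GU 6 F q ⊓ Cfsg.Geo.specialLinear (Fin 6) F))) ∧
    (∀ (F₀ : Subfield F) (P : Matrix.GeneralLinearGroup (Fin 6) F) (ζ : F), Fintype.card F = Nat.card F₀ ^ 2 → ζ ≠ 0 → ζ + ζ ^ q = 0 → Cfsg.Geo.IsFormRationalStructure (Cfsg.hermForm 6 F q) F₀ ζ P → (∀ u : Fin 6 → F, (∀ i, u i ∈ F₀) → (Cfsg.hermForm 6 F q) (Matrix.mulVec (P : Matrix (Fin 6) (Fin 6) F) u) (Matrix.mulVec (P : Matrix (Fin 6) (Fin 6) F) u) = 0) → Cfsg.Geo.IsMaximalIn (Cfsg.GU 6 F q ⊓ Cfsg.Geo.specialLinear (Fin 6) F) (Cfsg.Geo.subfieldSubgroup F₀ P ⊓ (Cfsg.GU 6 F q ⊓ Cfsg.Geo.specialLinear (Fin 6) F))) ∧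
    (Odd q → ∀ (F₀ : Subfield F) (P : Matrix.GeneralLinearGroup (Fin 6) F), Fintype.card F = Nat.card F₀ ^ 2 → Cfsg.Geo.IsFormRationalStructure (Cfsg.hermForm 6 F q) F₀ 1 P → Cfsg.Geo.IsMaximalIn (Cfsg.GU 6 F q ⊓ Cfsg.Geo.specialLinear (Fin 6) F) (Cfsg.Geo.subfieldSubgroup F₀ P ⊓ (Cfsg.GU 6 F q ⊓ Cfsg.Geo.specialLinear (Fin 6) F))) := by
  refine ⟨?_, ?_, ?_, ?_, ?_, ?_, ?_, ?_, ?_, ?_, ?_⟩
  · intro W hW0 hW
    exact Cfsg.Agent.H876.Sing.sing_maximal 6 q hF (by norm_num) (by omega) W hW0 hW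
  · intro W hW0 hW hd
    exact Cfsg.Agent.H876.nondeg_maximal 6 q hF (by norm_num) (by omega) W hW0 hW hd
  · intro hq D hD
    exact Cfsg.Agent.H924.SixFrame.frame_maximal hF (by norm_num) (by omega) D hD
  · intro hq D hD
    exact Cfsg.Agent.H876.odec_maximal 6 q hF (by norm_num) (by omega) 2 D hD le_rfl (Or.inl hq) (Or.inl (by norm_num))
  · intro D hD
    exact Cfsg.Agent.H876.odec_maximal 6 q hF (by norm_num) (by omega) 3 D hD (by norm_num) (Or.inr (by norm_num)) (Or.inr (by norm_num))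
  · intro D hD hts
    exact Cfsg.Agent.H918.Pair.pair_maximal hF (k := 3) (by norm_num) (by norm_num) D hD hts
  · intro hq K hK hadj
    exact Cfsg.Agent.H913.UExt.cubic_maximal hF hq hK hadj
  · intro hq e P f₁ f₂ hf₁ hf₂ hT
    exact Cfsg.Agent.H924.TU.tensor23_maximal hF hq e P f₁ f₂ hf₁ hf₂ hT
  · intro F₀ r P hr hro hcard hP
    have : Fintype F₀ := Fintype.ofFinite F₀
    exact Cfsg.Agent.H930.GUSub.maximal hF (by norm_num) hr hro hcard hP
  · intro F₀ P ζ hcard hζ hζq hP halt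
    exact Cfsg.Agent.H930.SpInSU.maximal hF hcard hζ hζq hP halt (by norm_num)
  · intro hodd F₀ P hcard hP
    exact Cfsg.Agent.H927.orthogonal_maximal hF (by norm_num) hodd F₀ hcard P hP

end Cfsg.Agent.S5801
end
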