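import Cfsg.Agent.H875.UnitSp
import Cfsg.Agent.H880.TI
import Cfsg.Statements.S5804
import Cfsg.Agent.H874.SpCOne
import Cfsg.Agent.H875.SpGenEven
import Cfsg.Agent.H910.QuadMax
import Cfsg.Agent.H914.SpFrames_mg
import Cfsg.Agent.H914.SpFields
import Cfsg.Agent.H914.TensMax
set_option linter.all false

-- part: H914/UniThree
section
/-!
# Overgroups of `GU₃(q).2` in `Sp₆(q)`, `q` odd (helper914)

`V` is a six-dimensional symplectic space with an endomorphism `κ`, `κ² = d` not a square, `f (κ x) y = - f x (κ y)`;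
`M` is a group of isometries containing all isometries commuting with `κ` up to sign.
-/

set_option autoImplicit false
set_option linter.unusedSectionVars false
set_option linter.unusedSimpArgs false

namespace Cfsg.Agent.H914.UniThree

open Module Cfsg.Agent.H879 Cfsg.Agent.H879.UnitSymp

variable {F V : Type*} [Field F] [AddCommGroup V] [Module F V]

/-- The hypotheses. -/
structure H6 (f : V →ₗ[F] V →ₗ[F] F) (κ : V →ₗ[F] V) (d : F) (M : Subgroup (V ≃ₗ[F] V)) : Prop where
  alt : ∀ x, f x x = 0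
  ndeg : ∀ x, x ≠ 0 → ∃ y, f x y ≠ 0
  two : (2 : F) ≠ 0
  sq : ∀ x, κ (κ x) = d • x
  nsq : ∀ c : F, c * c ≠ d
  norm : ∀ e : F, ∃ α β : F, α * α - d * (β * β) = e
  adj : ∀ x y, f (κ x) y = - f x (κ y)
  dim : finrank F V = 6
  pres : ∀ g ∈ M, ∀ x y, f (g x) (g y) = f x y
  mem : ∀ g : V ≃ₗ[F] V, (∀ x y, f (g x) (g y) = f x y) → ∀ ε : F, ε * ε = 1 → (∀ x, g (κ x) = ε • κ (g x)) → g ∈ M

variable {f : V →ₗ[F] V →ₗ[F] F} {κ : V →ₗ[F] V} {d : F} {M : Subgroup (V ≃ₗ[F] V)}

/-- A frame (with sign `ε`). -/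
structure Fr (f : V →ₗ[F] V →ₗ[F] F) (κ : V →ₗ[F] V) (ε : F) (v w v' : V) : Prop where
  vv : f (κ v) v = 0
  ww : f (κ w) w = ε
  pp : f (κ v') v' = 0
  vp : f v v' = 0
  kvp : f (κ v) v' = ε
  vw : f v w = 0
  kvw : f (κ v) w = 0
  wp : f w v' = 0
  kwp : f (κ w) v' = 0

namespace H6

variable (h : H6 f κ d M)
include h

theorem skew (x y : V) : f x y = - f y x := by
  have := h.alt (x + y)
  simp only [map_add, LinearMap.add_apply, h.alt, zero_add, add_zero] at this
  exact eq_neg_of_add_eq_zero_right this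

theorem kk (x y : V) : f (κ x) (κ y) = - (d * f x y) := by
  rw [h.adj, h.sq, map_smul, smul_eq_mul]

theorem symm (x y : V) : f (κ x) y = f (κ y) x := by
  rw [h.adj, h.skew x, neg_neg]

theorem d_ne : d ≠ 0 := by
  rintro rfl
  exact h.nsq 0 (mul_zero 0)

theorem finite : FiniteDimensional F V :=
  Module.finite_of_finrank_pos (by have := h.dim; omega)

theorem pres_inv {g : V ≃ₗ[F] V} (hg : g ∈ M) (x y : V) : f (g⁻¹ x) y = f x (g y) := by
  have h1 := h.pres g hg (g⁻¹ x) y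
  rw [apply_inv_apply] at h1
  exact h1.symm

theorem q_add (x y : V) : f (κ (x + y)) (x + y) = f (κ x) x + f (κ y) y + 2 * f (κ x) y := by
  simp only [map_add, LinearMap.add_apply]
  rw [h.symm y x]
  ring

theorem q_smul (c : F) (x : V) : f (κ (c • x)) (c • x) = c * c * f (κ x) x := by
  simp only [map_smul, LinearMap.smul_apply, smul_eq_mul]
  ring

theorem q_comb (α β : F) (x : V) :
    f (κ (α • x + β • κ x)) (α • x + β • κ x) = (α * α - d * (β * β)) * f (κ x) x := by
  simp only [map_add, map_smul, LinearMap.add_apply, LinearMap.smul_apply, smul_eq_mul, h.sq,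
    h.alt, h.skew x (κ x)]
  ring

theorem quad_ne {p p' : F} (hp : p ≠ 0 ∨ p' ≠ 0) : p' * p' - d * (p * p) ≠ 0 := by
  intro h0
  by_cases hp0 : p = 0
  · subst hp0
    rcases hp with hp | hp
    · exact hp rfl
    · have : p' * p' = 0 := by linear_combination h0
      exact hp (mul_self_eq_zero.1 this)
  · apply h.nsq (p' / p)
    field_simp
    linear_combination h0

/-- The basis attached to a frame. -/
theorem exists_basis {ε : F} (hε : ε * ε = 1) {v w v' : V} (hF : Fr f κ ε v w v') :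
    ∃ b : Basis (Fin 6) F V, ⇑b = ![v, ε • κ v, w, ε • κ w, v', ε • κ v'] := by
  have := h.finite
  have e1 : f v (κ v) = 0 := by rw [h.skew, hF.vv, neg_zero]
  have e2 : f w (κ w) = -ε := by rw [h.skew, hF.ww]
  have e3 : f v' (κ v') = 0 := by rw [h.skew, hF.pp, neg_zero]
  have e4 : f v' v = 0 := by rw [h.skew, hF.vp, neg_zero]
  have e5 : f v' (κ v) = -ε := by rw [h.skew, hF.kvp]
  have e6 : f w v = 0 := by rw [h.skew, hF.vw, neg_zero]
  have e7 : f w (κ v) = 0 := by rw [h.skew, hF.kvw, neg_zero]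
  have e8 : f v' w = 0 := by rw [h.skew, hF.wp, neg_zero]
  have e9 : f v' (κ w) = 0 := by rw [h.skew, hF.kwp, neg_zero]
  have g1 : f (κ v') v = ε := by rw [h.symm, hF.kvp]
  have g2 : f (κ w) v = 0 := by rw [h.symm, hF.kvw]
  have g3 : f (κ v') w = 0 := by rw [h.symm, hF.kwp]
  have hε0 : ε ≠ 0 := by
    rintro rfl
    rw [mul_zero] at hε
    exact zero_ne_one hε
  have hli : LinearIndependent F ![v, ε • κ v, w, ε • κ w, v', ε • κ v'] := by
    rw [Fintype.linearIndependent_iff]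
    intro c hc
    rw [Fin.sum_univ_six] at hc
    simp only [Matrix.cons_val_zero, Matrix.cons_val_one, Matrix.cons_val] at hc
    have t0 := congrArg (fun x => f x (κ v')) hc
    have t1 := congrArg (fun x => f x v') hc
    have t2 := congrArg (fun x => f x (κ w)) hc
    have t3 := congrArg (fun x => f x w) hc
    have t4 := congrArg (fun x => f x (κ v)) hc
    have t5 := congrArg (fun x => f x v) hc
    have k1 : f v (κ v') = -ε := by rw [h.skew, g1]
    have k2 : f w (κ v') = 0 := by rw [h.skew, g3, neg_zero]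
    have k3 : f v (κ w) = 0 := by rw [h.skew, g2, neg_zero]
    simp only [map_add, map_smul, LinearMap.add_apply, LinearMap.smul_apply, smul_eq_mul, map_zero,
      LinearMap.zero_apply, h.kk, h.alt, e1, e2, e3, e4, e5, e6, e7, e8, e9, g1, g2, g3, k1, k2, k3, hF.vv, hF.ww, hF.pp,
      hF.vp, hF.kvp, hF.vw, hF.kvw, hF.wp, hF.kwp, mul_zero, neg_zero, add_zero, zero_add] at t0 t1 t2 t3 t4 t5
    intro i
    fin_cases i
    · exact (mul_eq_zero.1 t0).resolve_right (neg_ne_zero.2 hε0)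
    · rw [hε, mul_one] at t1; exact t1
    · exact (mul_eq_zero.1 t2).resolve_right (neg_ne_zero.2 hε0)
    · rw [hε, mul_one] at t3; exact t3
    · exact (mul_eq_zero.1 t4).resolve_right (neg_ne_zero.2 hε0)
    · rw [hε, mul_one] at t5; exact t5
  exact ⟨basisOfLinearIndependentOfCardEqFinrank hli (by rw [h.dim]; rfl),
    coe_basisOfLinearIndependentOfCardEqFinrank hli (by rw [h.dim]; rfl)⟩

/-- The Gram matrix of a frame. -/
theorem gram {ε : F} (hε : ε * ε = 1) {v w v' : V} (hF : Fr f κ ε v w v') (i j : Fin 6) :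
    f (![v, ε • κ v, w, ε • κ w, v', ε • κ v'] i) (![v, ε • κ v, w, ε • κ w, v', ε • κ v'] j) =
      (![![0, 0, 0, 0, 0, -1], ![0, 0, 0, 0, 1, 0], ![0, 0, 0, -1, 0, 0], ![0, 0, 1, 0, 0, 0], ![0, -1, 0, 0, 0, 0],
        ![1, 0, 0, 0, 0, 0]] : Fin 6 → Fin 6 → F) i j := by
  have e1 : f v (κ v) = 0 := by rw [h.skew, hF.vv, neg_zero]
  have e2 : f w (κ w) = -ε := by rw [h.skew, hF.ww]
  have e3 : f v' (κ v') = 0 := by rw [h.skew, hF.pp, neg_zero]
  have e4 : f v' v = 0 := by rw [h.skew, hF.vp, neg_zero]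
  have e5 : f v' (κ v) = -ε := by rw [h.skew, hF.kvp]
  have e6 : f w v = 0 := by rw [h.skew, hF.vw, neg_zero]
  have e7 : f w (κ v) = 0 := by rw [h.skew, hF.kvw, neg_zero]
  have e8 : f v' w = 0 := by rw [h.skew, hF.wp, neg_zero]
  have e9 : f v' (κ w) = 0 := by rw [h.skew, hF.kwp, neg_zero]
  have g1 : f (κ v') v = ε := by rw [h.symm, hF.kvp]
  have g2 : f (κ w) v = 0 := by rw [h.symm, hF.kvw]
  have g3 : f (κ v') w = 0 := by rw [h.symm, hF.kwp]
  have k1 : f v (κ v') = -ε := by rw [h.skew, g1]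
  have k2 : f w (κ v') = 0 := by rw [h.skew, g3, neg_zero]
  have k3 : f v (κ w) = 0 := by rw [h.skew, g2, neg_zero]
  fin_cases i <;> fin_cases j <;>
    simp [h.kk, h.alt, e1, e2, e3, e4, e5, e6, e7, e8, e9, g1, g2, g3, k1, k2, k3, hF.vv, hF.ww, hF.pp,
      hF.vp, hF.kvp, hF.vw, hF.kvw, hF.wp, hF.kwp, hε]

/-- **Extension lemma**: frames are conjugate under the group. -/
theorem exists_ext {ε : F} (hε : ε * ε = 1) {v w v' v₁ w₁ v₁' : V} (hF : Fr f κ 1 v w v') (hF₁ : Fr f κ ε v₁ w₁ v₁') :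
    ∃ g ∈ M, (∀ x, g (κ x) = ε • κ (g x)) ∧ g v = v₁ ∧ g w = w₁ ∧ g v' = v₁' := by
  obtain ⟨b, hb⟩ := h.exists_basis (one_mul 1) hF
  obtain ⟨b₁, hb₁⟩ := h.exists_basis hε hF₁
  let g : V ≃ₗ[F] V := b.equiv b₁ (Equiv.refl _)
  have hg : ∀ i, g (b i) = b₁ i := fun i => b.equiv_apply i b₁ (Equiv.refl _)
  have g0 := hg 0
  have g1 := hg 1
  have g2 := hg 2
  have g3 := hg 3
  have g4 := hg 4
  have g5 := hg 5
  rw [hb, hb₁] at g0 g1 g2 g3 g4 g5
  simp only [Matrix.cons_val_zero, Matrix.cons_val_one, Matrix.cons_val, one_smul] at g0 g1 g2 g3 g4 g5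
  have hκ : ∀ x, g (κ x) = ε • κ (g x) := by
    have : (g : V →ₗ[F] V) ∘ₗ κ = ε • (κ ∘ₗ (g : V →ₗ[F] V)) := by
      apply b.ext
      intro i
      rw [hb]
      simp only [LinearMap.comp_apply, LinearMap.smul_apply, LinearEquiv.coe_coe]
      fin_cases i
      · simpa [g0] using g1
      · simp [g0, g1, h.sq, smul_smul, ← mul_assoc, hε]
      · simpa [g2] using g3
      · simp [g2, g3, h.sq, smul_smul, ← mul_assoc, hε]
      · simpa [g4] using g5
      · simp [g4, g5, h.sq, smul_smul, ← mul_assoc, hε]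
    intro x
    exact LinearMap.congr_fun this x
  have hiso : ∀ x y, f (g x) (g y) = f x y := by
    have : f.compl₁₂ (g : V →ₗ[F] V) (g : V →ₗ[F] V) = f := by
      apply LinearMap.ext_basis b b
      intro i j
      rw [LinearMap.compl₁₂_apply, LinearEquiv.coe_coe, hg, hg, hb, hb₁, h.gram hε hF₁]
      have := h.gram (one_mul 1) hF i j
      exact this.symm
    intro x y
    exact LinearMap.congr_fun₂ this x y
  exact ⟨g, h.mem g hiso ε hε hκ, hκ, g0, g2, g4⟩

/-- Existence of frames. -/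
theorem exists_frame {v : V} (hv : v ≠ 0) (hq : f (κ v) v = 0) : ∃ w v', Fr f κ 1 v w v' := by
  have := h.finite
  have h2 := h.two
  -- `v'`
  obtain ⟨v', p1, p2, p3⟩ : ∃ v', f (κ v) v' = 1 ∧ f v v' = 0 ∧ f (κ v') v' = 0 := by
    obtain ⟨z, hz⟩ := h.ndeg v hv
    -- the value of the hermitian form is non-zero; divide
    set p := f v z with hp
    set p' := f (κ v) z with hp'
    have hD : p' * p' - d * (p * p) ≠ 0 := h.quad_ne (Or.inl hz)
    set D := p' * p' - d * (p * p) with hDdef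
    let z₁ := (p' / D) • z + (p / D) • κ z
    have k2 : f v (κ z) = - f (κ v) z := by rw [h.adj, neg_neg]
    have k3 : f (κ v) (κ z) = - (d * f v z) := h.kk _ _
    have z1 : f (κ v) z₁ = 1 := by
      show f (κ v) ((p' / D) • z + (p / D) • κ z) = 1
      rw [map_add, map_smul, map_smul, smul_eq_mul, smul_eq_mul, ← hp', k3, ← hp]
      field_simp
      rw [hDdef]
      ring
    have z2 : f v z₁ = 0 := by
      show f v ((p' / D) • z + (p / D) • κ z) = 0
      rw [map_add, map_smul, map_smul, smul_eq_mul, smul_eq_mul, k2, ← hp, ← hp']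
      field_simp
      ring
    refine ⟨z₁ + (-(f (κ z₁) z₁ / 2)) • v, ?_, ?_, ?_⟩
    · rw [map_add, z1, map_smul, hq, smul_zero, add_zero]
    · rw [map_add, z2, map_smul, h.alt, smul_zero, add_zero]
    · rw [h.q_add, h.q_smul, hq, mul_zero, add_zero, map_smul, h.symm z₁ v, z1, smul_eq_mul]
      field_simp
      ring
  -- the orthogonal complement
  obtain ⟨w, hw0, w1, w2, w3, w4⟩ : ∃ w, w ≠ 0 ∧ f v w = 0 ∧ f (κ v) w = 0 ∧ f v' w = 0 ∧ f (κ v') w = 0 := by
    let L : V →ₗ[F] (Fin 4 → F) := LinearMap.pi ![f v, f (κ v), f v', f (κ v')]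
    have h1 := LinearMap.finrank_range_add_finrank_ker L
    have h2 : finrank F (LinearMap.range L) ≤ 4 := by
      have := Submodule.finrank_le (LinearMap.range L)
      simpa using this
    rw [h.dim] at h1
    have h3 : LinearMap.ker L ≠ ⊥ := by
      intro h0
      rw [h0, finrank_bot] at h1
      omega
    obtain ⟨w, hw, hw0⟩ := (Submodule.ne_bot_iff _).1 h3
    rw [LinearMap.mem_ker] at hw
    exact ⟨w, hw0, congrFun hw 0, congrFun hw 1, congrFun hw 2, congrFun hw 3⟩
  have hkadj : ∀ x e, f (κ x) e = 0 → f x (κ e) = 0 := by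
    intro x e hxe
    have := h.adj x e
    rw [hxe] at this
    exact neg_eq_zero.1 this.symm
  have hww : f (κ w) w ≠ 0 := by
    intro h0
    -- `w` is orthogonal to a basis
    have h0' : f w (κ w) = 0 := by rw [h.skew, h0, neg_zero]
    have hli : LinearIndependent F ![v, κ v, v', κ v', w, κ w] := by
      rw [Fintype.linearIndependent_iff]
      intro c hc
      rw [Fin.sum_univ_six] at hc
      simp only [Matrix.cons_val_zero, Matrix.cons_val_one, Matrix.cons_val] at hc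
      have e1 : f v (κ v) = 0 := by rw [h.skew, hq, neg_zero]
      have e3 : f v' (κ v') = 0 := by rw [h.skew, p3, neg_zero]
      have e4 : f v' v = 0 := by rw [h.skew, p2, neg_zero]
      have e5 : f v' (κ v) = -1 := by rw [h.skew, p1]
      have g1 : f (κ v') v = 1 := by rw [h.symm, p1]
      have k1 : f v (κ v') = -1 := by rw [h.skew, g1]
      have m1 : f w v = 0 := by rw [h.skew, w1, neg_zero]
      have m2 : f w (κ v) = 0 := by rw [h.skew, w2, neg_zero]
      have m3 : f w v' = 0 := by rw [h.skew, w3, neg_zero]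
      have m4 : f w (κ v') = 0 := by rw [h.skew, w4, neg_zero]
      have m5 : f (κ w) v = 0 := by rw [h.symm, w2]
      have m6 : f (κ w) v' = 0 := by rw [h.symm, w4]
      have t0 := congrArg (fun x => f x (κ v')) hc
      have t1 := congrArg (fun x => f x v') hc
      have t4 := congrArg (fun x => f x (κ v)) hc
      have t5 := congrArg (fun x => f x v) hc
      simp only [map_add, map_smul, LinearMap.add_apply, LinearMap.smul_apply, smul_eq_mul, map_zero,
        LinearMap.zero_apply, h.kk, h.alt, e1, e3, e4, e5, g1, k1, m1, m2, m3, m4, m5, m6, hq, p1, p2, p3,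
        mul_zero, neg_zero, add_zero, zero_add, mul_one] at t0 t1 t4 t5
      have c0 : c 0 = 0 := by simpa using t0
      have c1 : c 1 = 0 := t1
      have c2 : c 2 = 0 := by simpa using t4
      have c3 : c 3 = 0 := t5
      rw [c0, c1, c2, c3] at hc
      simp only [zero_smul, zero_add] at hc
      -- `c 4 • w + c 5 • κ w = 0`
      have hc' := congrArg (fun x => (c 4) • x - (c 5) • κ x) hc
      simp only [map_add, map_smul, h.sq, smul_zero, map_zero, sub_zero] at hc'
      have h5 : (c 4 * c 4 - d * (c 5 * c 5)) • w = 0 := by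
        rw [← hc']
        module
      have h6 := (smul_eq_zero.1 h5).resolve_right hw0
      have h7 : c 5 = 0 ∧ c 4 = 0 := by
        by_contra hcon
        have : c 5 ≠ 0 ∨ c 4 ≠ 0 := by
          by_contra hcon'
          push Not at hcon'
          exact hcon hcon'
        exact h.quad_ne this h6
      intro i
      fin_cases i
      · exact c0
      · exact c1
      · exact c2
      · exact c3
      · exact h7.2
      · exact h7.1
    let b := basisOfLinearIndependentOfCardEqFinrank hli (by rw [h.dim]; rfl)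
    have hb : ⇑b = ![v, κ v, v', κ v', w, κ w] := coe_basisOfLinearIndependentOfCardEqFinrank hli (by rw [h.dim]; rfl)
    obtain ⟨y, hy⟩ := h.ndeg w hw0
    apply hy
    have : f w = 0 := by
      apply b.ext
      intro i
      rw [hb]
      fin_cases i
      · simpa using (by rw [h.skew, w1, neg_zero] : f w v = 0)
      · simpa using (by rw [h.skew, w2, neg_zero] : f w (κ v) = 0)
      · simpa using (by rw [h.skew, w3, neg_zero] : f w v' = 0)
      · simpa using (by rw [h.skew, w4, neg_zero] : f w (κ v') = 0)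
      · simpa using h.alt w
      · simpa using h0'
    rw [this, LinearMap.zero_apply]
  obtain ⟨α, β, hαβ⟩ := h.norm (1 / f (κ w) w)
  refine ⟨α • w + β • κ w, v', ?_⟩
  have m5 : f v (κ w) = 0 := hkadj _ _ w2
  have m6 : f (κ v) (κ w) = 0 := by rw [h.kk, w1, mul_zero, neg_zero]
  have m7 : f w v' = 0 := by rw [h.skew, w3, neg_zero]
  have m8 : f (κ w) v' = 0 := by rw [h.symm, w4]
  refine ⟨hq, ?_, p3, p2, p1, ?_, ?_, ?_, ?_⟩
  · rw [h.q_comb, hαβ, one_div, inv_mul_cancel₀ hww]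
  · rw [map_add, map_smul, map_smul, w1, m5]; simp
  · rw [map_add, map_smul, map_smul, w2, m6]; simp
  · rw [map_add, map_smul, map_smul, LinearMap.add_apply, LinearMap.smul_apply, LinearMap.smul_apply, m7, m8]; simp
  · simp only [map_add, map_smul, h.sq, LinearMap.add_apply, LinearMap.smul_apply, m8, m7, smul_zero, add_zero]

end H6

end Cfsg.Agent.H914.UniThree
end

-- part: H914/UniThreeB
section
/-!
# Overgroups of `GU₃(q).2` in `Sp₆(q)`, II: transvections (helper914)
-/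

set_option autoImplicit false
set_option linter.unusedSectionVars false
set_option linter.unusedSimpArgs false

namespace Cfsg.Agent.H914.UniThree

open Module Cfsg.Agent.H879 Cfsg.Agent.H879.UnitSymp

variable {F V : Type*} [Field F] [AddCommGroup V] [Module F V]
variable {f : V →ₗ[F] V →ₗ[F] F} {κ : V →ₗ[F] V} {d : F} {M : Subgroup (V ≃ₗ[F] V)}

/-- The element of the unipotent radical attached to a symmetric tensor. -/
def Sm (f : V →ₗ[F] V →ₗ[F] F) (κ : V →ₗ[F] V) (v : V) (α β γ : F) (x : V) : V :=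
  x + (α * f x v + β * f x (κ v)) • v + (β * f x v + γ * f x (κ v)) • κ v

namespace H6

variable (h : H6 f κ d M)
include h

theorem Sm_comp {v : V} (hq : f (κ v) v = 0) (α β γ α' β' γ' : F) (x : V) :
    Sm f κ v α β γ (Sm f κ v α' β' γ' x) = Sm f κ v (α + α') (β + β') (γ + γ') x := by
  have e1 : f v (κ v) = 0 := by rw [h.skew, hq, neg_zero]
  unfold Sm
  simp only [map_add, map_smul, LinearMap.add_apply, LinearMap.smul_apply, smul_eq_mul, h.alt, e1, hq, mul_zero,
    add_zero]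
  module

theorem Sm_change {v : V} (a b α β γ : F) (x : V) :
    Sm f κ (a • v + b • κ v) α β γ x = Sm f κ v (α * a * a + 2 * β * a * b * d + γ * b * b * d * d)
      (α * a * b + β * (a * a + b * b * d) + γ * a * b * d) (α * b * b + 2 * β * a * b + γ * a * a) x := by
  unfold Sm
  simp only [map_add, map_smul, LinearMap.add_apply, LinearMap.smul_apply, smul_eq_mul, h.sq]
  module

theorem Sm_conj {v : V} {α β γ : F} (hm : Has M (Sm f κ v α β γ)) {g : V ≃ₗ[F] V} (hg : g ∈ M)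
    (hκ : g (κ v) = κ (g v)) : Has M (Sm f κ (g v) α β γ) := by
  refine (hm.conj hg).congr fun x => ?_
  unfold Sm
  simp only [map_add, map_smul, apply_inv_apply, h.pres_inv hg, hκ]

theorem Sm_inv {v : V} (hq : f (κ v) v = 0) {α β γ : F} (hm : Has M (Sm f κ v α β γ)) :
    Has M (Sm f κ v (-α) (-β) (-γ)) := by
  refine hm.inv fun x => ?_
  rw [h.Sm_comp hq]
  unfold Sm
  simp

theorem Sm_ut {v : V} (hq : f (κ v) v = 0) (hv : v ≠ 0) (c : F) : Has M (Sm f κ v (-(c * d)) 0 c) := by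
  have e1 : f v (κ v) = 0 := by rw [h.skew, hq, neg_zero]
  have key : ∀ x, Sm f κ v (-(c * d)) 0 c x = x - (c * d * f x v) • v + (c * f x (κ v)) • κ v := by
    intro x
    unfold Sm
    module
  let T : V →ₗ[F] V :=
    { toFun := Sm f κ v (-(c * d)) 0 c
      map_add' := fun x y => by
        simp only [key, map_add, LinearMap.add_apply]
        module
      map_smul' := fun a x => by
        simp only [key, map_smul, LinearMap.smul_apply, smul_eq_mul, RingHom.id_apply]
        module }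
  let T' : V →ₗ[F] V :=
    { toFun := Sm f κ v (-(-c * d)) 0 (-c)
      map_add' := fun x y => by
        simp only [Sm, map_add, LinearMap.add_apply]
        module
      map_smul' := fun a x => by
        simp only [Sm, map_smul, LinearMap.smul_apply, smul_eq_mul, RingHom.id_apply]
        module }
  let g : V ≃ₗ[F] V := LinearEquiv.ofLinear T T'
    (by
      ext x
      show Sm f κ v (-(c * d)) 0 c (Sm f κ v (-(-c * d)) 0 (-c) x) = x
      rw [h.Sm_comp hq]
      unfold Sm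
      simp)
    (by
      ext x
      show Sm f κ v (-(-c * d)) 0 (-c) (Sm f κ v (-(c * d)) 0 c x) = x
      rw [h.Sm_comp hq]
      unfold Sm
      simp)
  have hgx : ∀ x, g x = Sm f κ v (-(c * d)) 0 c x := fun x => rfl
  refine ⟨g, h.mem g ?_ 1 (one_mul 1) ?_, hgx⟩
  · intro x y
    rw [hgx, hgx, key, key]
    simp only [map_add, map_sub, map_smul, LinearMap.add_apply, LinearMap.sub_apply, LinearMap.smul_apply, smul_eq_mul,
      h.alt, e1, hq, h.skew v y, h.skew (κ v) y]
    ring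
  · intro x
    rw [hgx, hgx, key, key, one_smul]
    have k1 : f (κ x) v = - f x (κ v) := h.adj x v
    simp only [map_add, map_sub, map_smul, h.sq, h.kk, k1]
    module

/-- Multiplications by elements of `K` on an isotropic vector are induced by elements of `M`. -/
theorem exists_torus {v : V} (hv : v ≠ 0) (hq : f (κ v) v = 0) {a b : F} (hab : a ≠ 0 ∨ b ≠ 0) :
    ∃ g ∈ M, (∀ x, g (κ x) = κ (g x)) ∧ g v = a • v + b • κ v := by
  obtain ⟨w, v', hF⟩ := h.exists_frame hv hq
  have hD : a * a - d * (b * b) ≠ 0 := h.quad_ne hab.symm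
  have e1 : f v (κ v) = 0 := by rw [h.skew, hF.vv, neg_zero]
  have g1 : f (κ v') v = 1 := by rw [h.symm, hF.kvp]
  have k1 : f v (κ v') = -1 := by rw [h.skew, g1]
  have g2 : f (κ w) v = 0 := by rw [h.symm, hF.kvw]
  have k3 : f v (κ w) = 0 := by rw [h.skew, g2, neg_zero]
  have g3 : f (κ v') w = 0 := by rw [h.symm, hF.kwp]
  have k2 : f w (κ v') = 0 := by rw [h.skew, g3, neg_zero]
  set D := a * a - d * (b * b) with hDdef
  have hF₁ : Fr f κ 1 (a • v + b • κ v) w ((a / D) • v' + (b / D) • κ v') := by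
    refine ⟨?_, hF.ww, ?_, ?_, ?_, ?_, ?_, ?_, ?_⟩
    · rw [h.q_comb, hq, mul_zero]
    · rw [h.q_comb, hF.pp, mul_zero]
    · simp only [map_add, map_smul, LinearMap.add_apply, LinearMap.smul_apply, smul_eq_mul, hF.vp, hF.kvp, k1, h.kk,
        mul_zero, neg_zero, add_zero, zero_add]
      field_simp
      ring
    · simp only [map_add, map_smul, LinearMap.add_apply, LinearMap.smul_apply, smul_eq_mul, hF.vp, hF.kvp, k1, h.kk,
        h.sq, mul_zero, neg_zero, add_zero, zero_add]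
      field_simp
      rw [hDdef]
      ring
    · simp only [map_add, map_smul, LinearMap.add_apply, LinearMap.smul_apply, smul_eq_mul, hF.vw, hF.kvw]
      ring
    · simp only [map_add, map_smul, LinearMap.add_apply, LinearMap.smul_apply, smul_eq_mul, hF.vw, hF.kvw, h.sq]
      ring
    · simp only [map_add, map_smul, LinearMap.add_apply, LinearMap.smul_apply, smul_eq_mul, hF.wp, k2]
      ring
    · simp only [map_add, map_smul, LinearMap.add_apply, LinearMap.smul_apply, smul_eq_mul, hF.kwp, hF.wp, h.kk]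
      ring
  obtain ⟨g, hg, hκ, hgv, -, -⟩ := h.exists_ext (one_mul 1) hF hF₁
  exact ⟨g, hg, fun x => by rw [hκ, one_smul], hgv⟩

/-- The action of the torus on the radical. -/
theorem Sm_torus {v : V} (hv : v ≠ 0) (hq : f (κ v) v = 0) {α β γ : F} (hm : Has M (Sm f κ v α β γ)) (a b : F) :
    Has M (Sm f κ v (α * a * a + 2 * β * a * b * d + γ * b * b * d * d)
      (α * a * b + β * (a * a + b * b * d) + γ * a * b * d) (α * b * b + 2 * β * a * b + γ * a * a)) := by
  by_cases hab : a ≠ 0 ∨ b ≠ 0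
  · obtain ⟨g, hg, hκ, hgv⟩ := h.exists_torus hv hq hab
    have h1 := h.Sm_conj hm hg (hκ v)
    rw [hgv] at h1
    exact h1.congr fun x => h.Sm_change a b α β γ x
  · push Not at hab
    refine has_id.congr fun x => ?_
    rw [hab.1, hab.2]
    unfold Sm
    module

/-- **Lemma Q**. -/
theorem Sm_trans {v : V} (hv : v ≠ 0) (hq : f (κ v) v = 0) {α β γ : F} (hm : Has M (Sm f κ v α β γ))
    (hne : α + d * γ ≠ 0 ∨ β ≠ 0) (e : F) : Has M (tr f v e) := by
  have h2 := h.two
  have hΔ : (α + d * γ) * (α + d * γ) - d * ((2 * β) * (2 * β)) ≠ 0 := by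
    refine h.quad_ne ?_
    rcases hne with h1 | h1
    · exact Or.inr h1
    · exact Or.inl (mul_ne_zero h2 h1)
  set Δ := (α + d * γ) * (α + d * γ) - d * ((2 * β) * (2 * β)) with hΔd
  -- `z = e / σ = p + r κ`
  set p := e * (α + d * γ) / Δ with hp
  set r := -(2 * e * β) / Δ with hr
  have s1 := h.Sm_torus hv hq hm ((p + 1) / 2) (r / 2)
  have s2 := h.Sm_inv hq (h.Sm_torus hv hq hm ((p - 1) / 2) (r / 2))
  have s3 := s1.comp s2
  have e1 : p * (α + d * γ) + r * (2 * β) * d = e := by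
    rw [hp, hr]
    field_simp
    rw [hΔd]
    ring
  have e2 : p * (2 * β) + r * (α + d * γ) = 0 := by
    rw [hp, hr]
    field_simp
    ring
  -- the sum of the coefficients
  set A := α * ((p + 1) / 2) * ((p + 1) / 2) + 2 * β * ((p + 1) / 2) * (r / 2) * d + γ * (r / 2) * (r / 2) * d * d +
    -(α * ((p - 1) / 2) * ((p - 1) / 2) + 2 * β * ((p - 1) / 2) * (r / 2) * d + γ * (r / 2) * (r / 2) * d * d) with hA
  set B := α * ((p + 1) / 2) * (r / 2) + β * ((p + 1) / 2 * ((p + 1) / 2) + r / 2 * (r / 2) * d) +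
      γ * ((p + 1) / 2) * (r / 2) * d +
    -(α * ((p - 1) / 2) * (r / 2) + β * ((p - 1) / 2 * ((p - 1) / 2) + r / 2 * (r / 2) * d) +
      γ * ((p - 1) / 2) * (r / 2) * d) with hB
  set C := α * (r / 2) * (r / 2) + 2 * β * ((p + 1) / 2) * (r / 2) + γ * ((p + 1) / 2) * ((p + 1) / 2) +
    -(α * (r / 2) * (r / 2) + 2 * β * ((p - 1) / 2) * (r / 2) + γ * ((p - 1) / 2) * ((p - 1) / 2)) with hC
  have s4 : Has M (Sm f κ v A B C) := s3.congr fun x => h.Sm_comp hq _ _ _ _ _ _ x
  have hB0 : B = 0 := by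
    have : B = (p * (2 * β) + r * (α + d * γ)) / 2 := by rw [hB]; field_simp; ring
    rw [this, e2, zero_div]
  have hAC : A + d * C = e := by
    have : A + d * C = p * (α + d * γ) + r * (2 * β) * d := by rw [hA, hC]; field_simp; ring
    rw [this, e1]
  have s5 := s4.comp (h.Sm_ut hq hv (-C))
  refine s5.congr fun x => ?_
  rw [h.Sm_comp hq, hB0]
  have e3 : A + -(-C * d) = e := by rw [← hAC]; ring
  rw [e3]
  unfold Sm tr
  module

/-- sums of non-orthogonal vectors. -/
theorem tr_sum {y z : V} (hy : ∀ e : F, Has M (tr f y e)) (hz : ∀ e : F, Has M (tr f z e)) (hyz : f y z ≠ 0) (e : F) :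
    Has M (tr f (y + z) e) := by
  obtain ⟨g, hg, hge⟩ := hz (f y z)⁻¹
  have hgy : g y = y + z := by
    rw [hge]
    unfold tr
    rw [inv_mul_cancel₀ hyz, one_smul]
  refine ((hy e).conj hg).congr fun x => ?_
  unfold tr
  simp only [map_add, map_smul, apply_inv_apply, h.pres_inv hg, hgy]

/-- **All transvections from one**. -/
theorem all_of_first {v : V} (hv : v ≠ 0) (hq : f (κ v) v = 0) (ht : ∀ e : F, Has M (tr f v e)) (y : V) (e : F) :
    Has M (tr f y e) := by
  have h2 := h.two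
  obtain ⟨w, v', hF⟩ := h.exists_frame hv hq
  -- isotropic vectors
  have hiso : ∀ z : V, f (κ z) z = 0 → ∀ e : F, Has M (tr f z e) := by
    intro z hz e
    by_cases hz0 : z = 0
    · subst hz0
      refine has_id.congr fun x => ?_
      unfold tr
      simp
    obtain ⟨w₁, v₁', hF₁⟩ := h.exists_frame hz0 hz
    obtain ⟨g, hg, -, hgv, -, -⟩ := h.exists_ext (one_mul 1) hF hF₁
    refine ((ht e).conj hg).congr fun x => ?_
    unfold tr
    simp only [map_add, map_smul, apply_inv_apply, h.pres_inv hg, hgv]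
  by_cases hy : f (κ y) y = 0
  · exact hiso y hy e
  -- an isotropic vector `z` not `K`-orthogonal to `y`
  obtain ⟨z, hz, hzy⟩ : ∃ z, f (κ z) z = 0 ∧ (f z y ≠ 0 ∨ f (κ z) y ≠ 0) := by
    by_contra hno
    push Not at hno
    have hy0 : y ≠ 0 := by
      rintro rfl
      simp at hy
    obtain ⟨b, hb⟩ := h.exists_basis (one_mul 1) hF
    have a1 := hno v hF.vv
    have a2 := hno v' hF.pp
    have g2 : f (κ w) v = 0 := by rw [h.symm, hF.kvw]
    have m1 : f (κ v') v = 1 := by rw [h.symm, hF.kvp]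
    have a3 := hno ((-(1 / 2) : F) • v + w + v') (by
      simp only [map_add, map_smul, LinearMap.add_apply, LinearMap.smul_apply, smul_eq_mul, hF.vv, hF.ww, hF.pp, hF.kvp,
        hF.kvw, hF.kwp, g2, m1, h.symm v' w]
      field_simp
      ring)
    simp only [map_add, map_smul, LinearMap.add_apply, LinearMap.smul_apply, smul_eq_mul, a1.1, a1.2, a2.1, a2.2,
      mul_zero, add_zero, zero_add] at a3
    obtain ⟨x, hx⟩ := h.ndeg y hy0
    apply hx
    have : f y = 0 := by
      apply b.ext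
      intro i
      rw [hb]
      fin_cases i
      · simpa using (by rw [h.skew, a1.1, neg_zero] : f y v = 0)
      · simpa using (by rw [h.skew, a1.2, neg_zero] : f y (κ v) = 0)
      · simpa using (by rw [h.skew, a3.1, neg_zero] : f y w = 0)
      · simpa using (by rw [h.skew, a3.2, neg_zero] : f y (κ w) = 0)
      · simpa using (by rw [h.skew, a2.1, neg_zero] : f y v' = 0)
      · simpa using (by rw [h.skew, a2.2, neg_zero] : f y (κ v') = 0)
    rw [this, LinearMap.zero_apply]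
  -- scale `z`: `f (κ z) y = q y / 2`, `f z y = 1`
  set s := f (κ y) y with hs
  set P := f z y with hP
  set P' := f (κ z) y with hP'
  have hD : P' * P' - d * (P * P) ≠ 0 := h.quad_ne hzy
  set D := P' * P' - d * (P * P) with hDd
  -- `λ (P' + κ P) = s/2 + κ`, `λ = (s/2 + κ)(P' - κ P)/D`
  set a := (s / 2 * P' - d * P) / D with ha
  set b := (P' - s / 2 * P) / D with hb
  have hz1 : f (κ (a • z + b • κ z)) (a • z + b • κ z) = 0 := by rw [h.q_comb, hz, mul_zero]
  have hz2 : f (a • z + b • κ z) y = 1 := by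
    rw [map_add, map_smul, map_smul, LinearMap.add_apply, LinearMap.smul_apply, LinearMap.smul_apply, smul_eq_mul,
      smul_eq_mul, ← hP, ← hP', ha, hb]
    field_simp
    rw [hDd]
    ring
  have hz3 : f (κ (a • z + b • κ z)) y = s / 2 := by
    simp only [map_add, map_smul, LinearMap.add_apply, LinearMap.smul_apply, smul_eq_mul, h.sq]
    rw [← hP, ← hP', ha, hb]
    field_simp
    rw [hDd]
    ring
  set y₁ := a • z + b • κ z with hy₁
  have hy2 : f (κ (y - y₁)) (y - y₁) = 0 := by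
    simp only [map_sub, LinearMap.sub_apply, hz1, hz3, ← hs, h.symm y y₁]
    field_simp
    ring
  have h3 := h.tr_sum (hiso y₁ hz1) (hiso (y - y₁) hy2) (by
    rw [map_sub, hz2, h.alt, sub_zero]; exact one_ne_zero) e
  rwa [add_sub_cancel] at h3

end H6

end Cfsg.Agent.H914.UniThree
end

-- part: H914/UniThreeC
section
/-!
# Overgroups of `GU₃(q).2` in `Sp₆(q)`, III: the stabiliser of an isotropic `K`-line (helper914)
-/

set_option autoImplicit false
set_option linter.unusedSectionVars false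
set_option linter.unusedSimpArgs false

namespace Cfsg.Agent.H914.UniThree

open Module Cfsg.Agent.H879 Cfsg.Agent.H879.UnitSymp

variable {F V : Type*} [Field F] [AddCommGroup V] [Module F V]
variable {f : V →ₗ[F] V →ₗ[F] F} {κ : V →ₗ[F] V} {d : F} {M : Subgroup (V ≃ₗ[F] V)}

/-- The values of the form on a frame. -/
structure Vals (f : V →ₗ[F] V →ₗ[F] F) (κ : V →ₗ[F] V) (v w v' : V) : Prop where
  a1 : f v (κ v) = 0
  a2 : f w (κ w) = -1
  a3 : f v' (κ v') = 0
  a4 : f v' v = 0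
  a5 : f v' (κ v) = -1
  a6 : f w v = 0
  a7 : f w (κ v) = 0
  a8 : f v' w = 0
  a9 : f v' (κ w) = 0
  b1 : f (κ v') v = 1
  b2 : f (κ w) v = 0
  b3 : f (κ v') w = 0
  c1 : f v (κ v') = -1
  c2 : f w (κ v') = 0
  c3 : f v (κ w) = 0

namespace H6

variable (h : H6 f κ d M)
include h

theorem vals {v w v' : V} (hF : Fr f κ 1 v w v') : Vals f κ v w v' := by
  have g1 : f (κ v') v = 1 := by rw [h.symm, hF.kvp]
  have g2 : f (κ w) v = 0 := by rw [h.symm, hF.kvw]
  have g3 : f (κ v') w = 0 := by rw [h.symm, hF.kwp]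
  exact
    { a1 := by rw [h.skew, hF.vv, neg_zero]
      a2 := by rw [h.skew, hF.ww]
      a3 := by rw [h.skew, hF.pp, neg_zero]
      a4 := by rw [h.skew, hF.vp, neg_zero]
      a5 := by rw [h.skew, hF.kvp]
      a6 := by rw [h.skew, hF.vw, neg_zero]
      a7 := by rw [h.skew, hF.kvw, neg_zero]
      a8 := by rw [h.skew, hF.wp, neg_zero]
      a9 := by rw [h.skew, hF.kwp, neg_zero]
      b1 := g1
      b2 := g2
      b3 := g3
      c1 := by rw [h.skew, g1]
      c2 := by rw [h.skew, g3, neg_zero]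
      c3 := by rw [h.skew, g2, neg_zero] }

/-- The expansion of a vector in a frame. -/
theorem expand {v w v' : V} (hF : Fr f κ 1 v w v') (y : V) :
    y = (-(f y (κ v'))) • v + f y v' • κ v + (-(f y (κ w))) • w + f y w • κ w + (-(f y (κ v))) • v' + f y v • κ v' := by
  obtain ⟨b, hb⟩ := h.exists_basis (one_mul 1) hF
  have hV := h.vals hF
  have hs := b.sum_repr y
  rw [Fin.sum_univ_six, hb] at hs
  simp only [Matrix.cons_val_zero, Matrix.cons_val_one, Matrix.cons_val, one_smul] at hs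
  generalize b.repr y 0 = c0 at hs
  generalize b.repr y 1 = c1 at hs
  generalize b.repr y 2 = c2 at hs
  generalize b.repr y 3 = c3 at hs
  generalize b.repr y 4 = c4 at hs
  generalize b.repr y 5 = c5 at hs
  subst hs
  simp only [map_add, map_smul, LinearMap.add_apply, LinearMap.smul_apply, smul_eq_mul, h.kk, h.alt, hV.a1, hV.a2, hV.a3,
    hV.a4, hV.a5, hV.a6, hV.a7, hV.a8, hV.a9, hV.b1, hV.b2, hV.b3, hV.c1, hV.c2, hV.c3, hF.vv, hF.ww, hF.pp, hF.vp, hF.kvp,
    hF.vw, hF.kvw, hF.wp, hF.kwp, mul_zero, neg_zero, add_zero, zero_add, mul_one, mul_neg, neg_neg]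

/-- Vectors orthogonal to the isotropic line. -/
theorem expand_perp {v w v' : V} (hF : Fr f κ 1 v w v') {y : V} (h1 : f y v = 0) (h2 : f y (κ v) = 0) :
    y = (-(f y (κ v'))) • v + f y v' • κ v + (-(f y (κ w))) • w + f y w • κ w := by
  have := h.expand hF y
  rw [h1, h2] at this
  simpa using this

/-- Elements of `M` trivial on the perp of an isotropic line. -/
theorem eq_Sm {v w v' : V} (hF : Fr f κ 1 v w v') {c : V ≃ₗ[F] V} (hc : c ∈ M) (hv : c v = v) (hκv : c (κ v) = κ v)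
    (hw : c w = w) (hκw : c (κ w) = κ w) : ∃ α β γ : F, ∀ x, c x = Sm f κ v α β γ x := by
  have hV := h.vals hF
  -- `c x - x` is orthogonal to the fixed vectors
  have horth : ∀ x z, c z = z → f (c x - x) z = 0 := by
    intro x z hz
    rw [map_sub, LinearMap.sub_apply]
    nth_rewrite 1 [← hz]
    rw [h.pres c hc, sub_self]
  have hdiff : ∀ x, c x - x = (-(f (c x - x) (κ v'))) • v + f (c x - x) v' • κ v := by
    intro x
    have := h.expand hF (c x - x)
    rw [horth x v hv, horth x _ hκv, horth x w hw, horth x _ hκw] at this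
    simpa using this
  -- the values at `v'` and `κ v'`
  set A1 := -(f (c v' - v') (κ v')) with hA1
  set B1 := f (c v' - v') v' with hB1
  set A2 := -(f (c (κ v') - κ v') (κ v')) with hA2
  set B2 := f (c (κ v') - κ v') v' with hB2
  have e1 : c v' = v' + A1 • v + B1 • κ v := by rw [add_assoc, ← hdiff]; abel
  have e2 : c (κ v') = κ v' + A2 • v + B2 • κ v := by rw [add_assoc, ← hdiff]; abel
  have hsym : B2 = -A1 := by
    have h1 := h.pres c hc v' (κ v')
    rw [e1, e2] at h1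
    simp only [map_add, map_smul, LinearMap.add_apply, LinearMap.smul_apply, smul_eq_mul, h.kk, h.alt, hV.a1, hV.a2, hV.a3,
      hV.a4, hV.a5, hV.a6, hV.a7, hV.a8, hV.a9, hV.b1, hV.b2, hV.b3, hV.c1, hV.c2, hV.c3, hF.vv, hF.ww, hF.pp, hF.vp, hF.kvp,
      hF.vw, hF.kvw, hF.wp, hF.kwp, mul_zero, neg_zero, add_zero, zero_add, mul_one, mul_neg, neg_neg] at h1
    linear_combination -h1
  refine ⟨A2, B2, -B1, fun x => ?_⟩
  conv_lhs => rw [h.expand hF x]
  simp only [map_add, map_smul, hv, hκv, hw, hκw, e1, e2]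
  conv_rhs => unfold Sm
  conv_rhs => rw [show x + (A2 * f x v + B2 * f x (κ v)) • v + (B2 * f x v + -B1 * f x (κ v)) • κ v =
    ((-(f x (κ v'))) • v + f x v' • κ v + (-(f x (κ w))) • w + f x w • κ w + (-(f x (κ v))) • v' + f x v • κ v') +
      (A2 * f x v + B2 * f x (κ v)) • v + (B2 * f x v + -B1 * f x (κ v)) • κ v from by rw [← h.expand hF x]]
  rw [hsym]
  module

/-- The element `w ↦ w + v`. -/
theorem exists_u {v w v' : V} (hF : Fr f κ 1 v w v') :
    ∃ u ∈ M, (∀ x, u (κ x) = κ (u x)) ∧ u v = v ∧ u w = w + v ∧ u v' = v' - w - (1 / 2 : F) • v := by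
  have hV := h.vals hF
  have h2 := h.two
  have hF₁ : Fr f κ 1 v (w + v) (v' - w - (1 / 2 : F) • v) := by
    refine ⟨hF.vv, ?_, ?_, ?_, ?_, ?_, ?_, ?_, ?_⟩ <;>
    simp only [map_add, map_sub, map_smul, LinearMap.add_apply, LinearMap.sub_apply, LinearMap.smul_apply, smul_eq_mul, h.kk, h.alt, hV.a1, hV.a2, hV.a3,
      hV.a4, hV.a5, hV.a6, hV.a7, hV.a8, hV.a9, hV.b1, hV.b2, hV.b3, hV.c1, hV.c2, hV.c3, hF.vv, hF.ww, hF.pp, hF.vp, hF.kvp,
      hF.vw, hF.kvw, hF.wp, hF.kwp, mul_zero, neg_zero, add_zero, zero_add, mul_one, mul_neg, neg_neg, sub_zero, zero_sub]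
    · field_simp
      ring
    · ring
  obtain ⟨u, hu, hκ, u1, u2, u3⟩ := h.exists_ext (one_mul 1) hF hF₁
  exact ⟨u, hu, fun x => by rw [hκ, one_smul], u1, u2, u3⟩

/-- **Lemma R**. -/
theorem klin {v w v' : V} (hF : Fr f κ 1 v w v') (hnt : ¬ ∀ (y : V) (e : F), Has M (tr f y e)) {g : V ≃ₗ[F] V}
    (hg : g ∈ M) (hv : g v = v) (hκv : g (κ v) = κ v) {x₁ x₂ y₁ y₂ : F} (hw : g w = w + x₁ • v + x₂ • κ v)
    (hκw : g (κ w) = κ w + y₁ • v + y₂ • κ v) : y₁ = d * x₂ ∧ y₂ = x₁ := by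
  have hV := h.vals hF
  have h2 := h.two
  have hv0 : v ≠ 0 := by
    rintro rfl
    have := hF.kvp
    simp at this
  obtain ⟨u, hu, huκ, uv, uw, uv'⟩ := h.exists_u hF
  have uκv : u (κ v) = κ v := by rw [huκ, uv]
  have uκw : u (κ w) = κ w + κ v := by rw [huκ, uw, map_add]
  have uκv' : u (κ v') = κ v' - κ w - (1 / 2 : F) • κ v := by rw [huκ, uv', map_sub, map_sub, map_smul]
  set c := g * u * g⁻¹ * u⁻¹ with hc
  have hcM : c ∈ M := M.mul_mem (M.mul_mem (M.mul_mem hg hu) (M.inv_mem hg)) (M.inv_mem hu)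
  have hcug : ∀ z, c (u (g z)) = g (u z) := by
    intro z
    rw [hc, LinearEquiv.mul_apply, LinearEquiv.mul_apply, LinearEquiv.mul_apply, inv_apply_apply, inv_apply_apply]
  have c1 : c v = v := by
    have := hcug v
    rwa [hv, uv, hv] at this
  have c2 : c (κ v) = κ v := by
    have := hcug (κ v)
    rwa [hκv, uκv, hκv] at this
  have c3 : c w = w := by
    have := hcug w
    rw [hw] at this
    simp only [map_add, map_smul, uv, uw, uκv, hv, hκv, hw, c1, c2] at this
    have e : c w = c w + v + x₁ • v + x₂ • κ v - (v + x₁ • v + x₂ • κ v) := by abel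
    rw [e, this]
    abel
  have c4 : c (κ w) = κ w := by
    have := hcug (κ w)
    rw [hκw] at this
    simp only [map_add, map_smul, uv, uκw, uκv, hv, hκv, hκw, c1, c2] at this
    have e : c (κ w) = c (κ w) + κ v + y₁ • v + y₂ • κ v - (κ v + y₁ • v + y₂ • κ v) := by abel
    rw [e, this]
    abel
  obtain ⟨α, β, γ, hS⟩ := h.eq_Sm hF hcM c1 c2 c3 c4
  have hzero : α + d * γ = 0 ∧ β = 0 := by
    by_contra hcon
    have hne : α + d * γ ≠ 0 ∨ β ≠ 0 := by
      by_contra hcon'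
      push Not at hcon'
      exact hcon hcon'
    exact hnt (h.all_of_first hv0 hF.vv (h.Sm_trans hv0 hF.vv ⟨c, hcM, hS⟩ hne))
  -- the images of `v'` and `κ v'`
  have g1 : f (g v') v = 0 := by
    nth_rewrite 1 [← hv]
    rw [h.pres g hg, hV.a4]
  have g2 : f (g v') (κ v) = -1 := by
    nth_rewrite 1 [← hκv]
    rw [h.pres g hg, hV.a5]
  have g3 : f (g v') w = x₂ := by
    have e1 : w = g w - x₁ • v - x₂ • κ v := by rw [hw]; abel
    rw [e1, map_sub, map_sub, h.pres g hg, map_smul, map_smul, g1, g2, hV.a8]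
    simp
  have g4 : f (g v') (κ w) = y₂ := by
    have e1 : κ w = g (κ w) - y₁ • v - y₂ • κ v := by rw [hκw]; abel
    rw [e1, map_sub, map_sub, h.pres g hg, map_smul, map_smul, g1, g2, hV.a9]
    simp
  have k1 : f (g (κ v')) v = 1 := by
    nth_rewrite 1 [← hv]
    rw [h.pres g hg, hV.b1]
  have k2 : f (g (κ v')) (κ v) = 0 := by
    nth_rewrite 1 [← hκv]
    rw [h.pres g hg, h.kk, hV.a4, mul_zero, neg_zero]
  have k3 : f (g (κ v')) w = -x₁ := by
    have e1 : w = g w - x₁ • v - x₂ • κ v := by rw [hw]; abel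
    rw [e1, map_sub, map_sub, h.pres g hg, map_smul, map_smul, k1, k2, hV.b3]
    simp
  have k4 : f (g (κ v')) (κ w) = -y₁ := by
    have e1 : κ w = g (κ w) - y₁ • v - y₂ • κ v := by rw [hκw]; abel
    rw [e1, map_sub, map_sub, h.pres g hg, map_smul, map_smul, k1, k2, h.kk, hV.a8]
    simp
  have G1 := h.expand hF (g v')
  have G2 := h.expand hF (g (κ v'))
  rw [g1, g2, g3, g4] at G1
  rw [k1, k2, k3, k4] at G2
  set P := -(f (g v') (κ v')) with hP
  set Q := f (g v') v' with hQ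
  set P' := -(f (g (κ v')) (κ v')) with hP'
  set Q' := f (g (κ v')) v' with hQ'
  -- the two equations
  have E1 := hcug v'
  have E2 := hcug (κ v')
  have U1 : f (u (g v')) v = 0 := by
    nth_rewrite 1 [← uv]
    rw [h.pres u hu, g1]
  have U2 : f (u (g v')) (κ v) = -1 := by
    nth_rewrite 1 [← uκv]
    rw [h.pres u hu, g2]
  have U3 : f (u (g (κ v'))) v = 1 := by
    nth_rewrite 1 [← uv]
    rw [h.pres u hu, k1]
  have U4 : f (u (g (κ v'))) (κ v) = 0 := by
    nth_rewrite 1 [← uκv]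
    rw [h.pres u hu, k2]
  rw [hS, Sm, U1, U2, uv', map_sub, map_sub, map_smul, hv, hw, G1] at E1
  rw [hS, Sm, U3, U4, uκv', map_sub, map_sub, map_smul, hκv, hκw, G2] at E2
  simp only [map_add, map_smul, uv, uκv, uw, uκw, uv', uκv'] at E1 E2
  have E1' : (x₁ - y₂ - β) • v + (2 * x₂ - γ) • κ v = 0 := by
    have := sub_eq_zero.2 E1
    rw [← this]
    module
  have E2' : (α + 2 * y₁) • v + (β + y₂ - x₁) • κ v = 0 := by
    have := sub_eq_zero.2 E2
    rw [← this]
    module
  -- independence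
  have hind : ∀ s t : F, s • v + t • κ v = 0 → s = 0 ∧ t = 0 := by
    intro s t hst
    have t1 := congrArg (fun z => f z (κ v')) hst
    have t2 := congrArg (fun z => f z v') hst
    simp only [map_add, map_smul, LinearMap.add_apply, LinearMap.smul_apply, smul_eq_mul, h.kk, hV.c1, hF.vp, hF.kvp,
      map_zero, LinearMap.zero_apply, mul_zero, neg_zero, add_zero, zero_add, mul_one, mul_neg, neg_eq_zero] at t1 t2
    exact ⟨t1, t2⟩
  obtain ⟨r1, r2⟩ := hind _ _ E1'
  obtain ⟨r3, -⟩ := hind _ _ E2'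
  obtain ⟨z1, z2⟩ := hzero
  constructor
  · have : 2 * (y₁ - d * x₂) = 0 := by linear_combination r3 - z1 - d * r2
    exact sub_eq_zero.1 ((mul_eq_zero.1 this).resolve_left h2)
  · rw [z2] at r1
    linear_combination -r1

end H6

end Cfsg.Agent.H914.UniThree
end

-- part: H914/UniThreeD
section
/-!
# Overgroups of `GU₃(q).2` in `Sp₆(q)`, IV: the alternative (helper914)
-/

set_option autoImplicit false
set_option linter.unusedSectionVars false
set_option linter.unusedSimpArgs false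

namespace Cfsg.Agent.H914.UniThree

open Module Cfsg.Agent.H879 Cfsg.Agent.H879.UnitSymp

variable {F V : Type*} [Field F] [AddCommGroup V] [Module F V]
variable {f : V →ₗ[F] V →ₗ[F] F} {κ : V →ₗ[F] V} {d : F} {M : Subgroup (V ≃ₗ[F] V)}

namespace H6

variable (h : H6 f κ d M)
include h

/-- Lemma R for all vectors of the perp. -/
theorem klin' {v w v' : V} (hF : Fr f κ 1 v w v') (hnt : ¬ ∀ (y : V) (e : F), Has M (tr f y e)) {c : V ≃ₗ[F] V}
    (hc : c ∈ M) (hv : c v = v) (hκv : c (κ v) = κ v)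
    (hA : ∀ z, f z v = 0 → f z (κ v) = 0 → ∃ s t : F, c z = z + s • v + t • κ v) {z : V} (hz1 : f z v = 0)
    (hz2 : f z (κ v) = 0) : c (κ z) - κ z = κ (c z - z) := by
  have hV := h.vals hF
  obtain ⟨x₁, x₂, hw⟩ := hA w hV.a6 hV.a7
  obtain ⟨y₁, y₂, hκw⟩ := hA (κ w) hV.b2 (by rw [h.kk, hV.a6, mul_zero, neg_zero])
  obtain ⟨e1, e2⟩ := h.klin hF hnt hc hv hκv hw hκw
  have hexp := h.expand_perp hF hz1 hz2
  rw [hexp]
  simp only [map_add, map_smul, map_sub, hv, hκv, hw, hκw, h.sq, e1, e2]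
  module

/-- **Lemma N**: the stabiliser of an isotropic `K`-line is semilinear. -/
theorem semilinear_of_stab {v w v' : V} (hF : Fr f κ 1 v w v') (hnt : ¬ ∀ (y : V) (e : F), Has M (tr f y e))
    {g : V ≃ₗ[F] V} (hg : g ∈ M) {a₁ a₂ b₁ b₂ : F} (hgv : g v = a₁ • v + a₂ • κ v)
    (hgκv : g (κ v) = b₁ • v + b₂ • κ v) : ∃ ε : F, ε * ε = 1 ∧ ∀ x, g (κ x) = ε • κ (g x) := by
  have hV := h.vals hF
  have h2 := h.two
  have hd := h.d_ne
  have hv0 : v ≠ 0 := by
    rintro rfl
    have := hF.kvp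
    simp at this
  have hind : ∀ s t : F, s • v + t • κ v = 0 → s = 0 ∧ t = 0 := by
    intro s t hst
    have t1 := congrArg (fun z => f z (κ v')) hst
    have t2 := congrArg (fun z => f z v') hst
    simp only [map_add, map_smul, LinearMap.add_apply, LinearMap.smul_apply, smul_eq_mul, h.kk, hV.c1, hF.vp, hF.kvp,
      map_zero, LinearMap.zero_apply, mul_zero, neg_zero, add_zero, zero_add, mul_one, mul_neg, neg_eq_zero] at t1 t2
    exact ⟨t1, t2⟩
  -- `A` and its inverse image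
  have hdet : a₁ * b₂ - a₂ * b₁ ≠ 0 := by
    intro h0
    have e1 : g (b₂ • v - a₂ • κ v) = (0 : F) • v := by
      rw [map_sub, map_smul, map_smul, hgv, hgκv]
      have : b₂ • (a₁ • v + a₂ • κ v) - a₂ • (b₁ • v + b₂ • κ v) = (a₁ * b₂ - a₂ * b₁) • v := by module
      rw [this, h0]
    have e2 : g (b₁ • v - a₁ • κ v) = (0 : F) • v := by
      rw [map_sub, map_smul, map_smul, hgv, hgκv]
      have : b₁ • (a₁ • v + a₂ • κ v) - a₁ • (b₁ • v + b₂ • κ v) = (-(a₁ * b₂ - a₂ * b₁)) • κ v := by module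
      rw [this, h0]
      simp
    rw [zero_smul, LinearEquiv.map_eq_zero_iff, sub_eq_add_neg, ← neg_smul] at e1 e2
    obtain ⟨z1, z2⟩ := hind _ _ e1
    obtain ⟨z3, z4⟩ := hind _ _ e2
    rw [neg_eq_zero] at z2 z4
    rw [z4, z2, zero_smul, zero_smul, add_zero, LinearEquiv.map_eq_zero_iff] at hgv
    exact hv0 hgv
  have hinvv : ∃ s t : F, g⁻¹ v = s • v + t • κ v := by
    refine ⟨b₂ / (a₁ * b₂ - a₂ * b₁), -a₂ / (a₁ * b₂ - a₂ * b₁), ?_⟩
    apply g.injective
    rw [apply_inv_apply, map_add, map_smul, map_smul, hgv, hgκv]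
    have e : (b₂ / (a₁ * b₂ - a₂ * b₁)) • (a₁ • v + a₂ • κ v) + (-a₂ / (a₁ * b₂ - a₂ * b₁)) • (b₁ • v + b₂ • κ v) =
        (a₁ * b₂ - a₂ * b₁)⁻¹ • ((a₁ * b₂ - a₂ * b₁) • v) := by
      simp only [div_eq_mul_inv]
      generalize (a₁ * b₂ - a₂ * b₁)⁻¹ = D'
      module
    rw [e, inv_smul_smul₀ hdet]
  have hinvκv : ∃ s t : F, g⁻¹ (κ v) = s • v + t • κ v := by
    refine ⟨-b₁ / (a₁ * b₂ - a₂ * b₁), a₁ / (a₁ * b₂ - a₂ * b₁), ?_⟩
    apply g.injective
    rw [apply_inv_apply, map_add, map_smul, map_smul, hgv, hgκv]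
    have e : (-b₁ / (a₁ * b₂ - a₂ * b₁)) • (a₁ • v + a₂ • κ v) + (a₁ / (a₁ * b₂ - a₂ * b₁)) • (b₁ • v + b₂ • κ v) =
        (a₁ * b₂ - a₂ * b₁)⁻¹ • ((a₁ * b₂ - a₂ * b₁) • κ v) := by
      simp only [div_eq_mul_inv]
      generalize (a₁ * b₂ - a₂ * b₁)⁻¹ = D'
      module
    rw [e, inv_smul_smul₀ hdet]
  have hA : ∀ y, (∃ s t : F, y = s • v + t • κ v) → ∃ s t : F, g y = s • v + t • κ v := by
    rintro y ⟨s, t, rfl⟩
    refine ⟨s * a₁ + t * b₁, s * a₂ + t * b₂, ?_⟩
    rw [map_add, map_smul, map_smul, hgv, hgκv]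
    module
  have hA' : ∀ y, (∃ s t : F, y = s • v + t • κ v) → ∃ s t : F, g⁻¹ y = s • v + t • κ v := by
    rintro y ⟨s, t, rfl⟩
    obtain ⟨p, q, hp⟩ := hinvv
    obtain ⟨p', q', hp'⟩ := hinvκv
    refine ⟨s * p + t * p', s * q + t * q', ?_⟩
    rw [map_add, map_smul, map_smul, hp, hp']
    module
  -- `g` and `g⁻¹` preserve the perp
  have hperp : ∀ z, f z v = 0 ∧ f z (κ v) = 0 ↔ ∀ y, (∃ s t : F, y = s • v + t • κ v) → f z y = 0 := by
    intro z
    constructor
    · rintro ⟨z1, z2⟩ y ⟨s, t, rfl⟩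
      rw [map_add, map_smul, map_smul, z1, z2]
      simp
    · intro hz
      exact ⟨hz v ⟨1, 0, by simp⟩, hz (κ v) ⟨0, 1, by simp⟩⟩
  have hgp : ∀ z, f z v = 0 ∧ f z (κ v) = 0 → f (g z) v = 0 ∧ f (g z) (κ v) = 0 := by
    intro z hz
    rw [hperp] at hz ⊢
    intro y hy
    rw [← apply_inv_apply g y, h.pres g hg]
    exact hz _ (hA' y hy)
  have hgp' : ∀ z, f z v = 0 ∧ f z (κ v) = 0 → f (g⁻¹ z) v = 0 ∧ f (g⁻¹ z) (κ v) = 0 := by
    intro z hz
    rw [hperp] at hz ⊢
    intro y hy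
    rw [h.pres_inv hg]
    exact hz _ (hA y hy)
  have hkp : ∀ z, f z v = 0 ∧ f z (κ v) = 0 → f (κ z) v = 0 ∧ f (κ z) (κ v) = 0 := by
    rintro z ⟨z1, z2⟩
    refine ⟨by rw [h.adj, z2, neg_zero], by rw [h.kk, z1, mul_zero, neg_zero]⟩
  -- the elements `u₁ : w ↦ w + v` and `u₂ : w ↦ w + κ v`
  obtain ⟨u, hu, huκ, uv, uw, -⟩ := h.exists_u hF
  have uκv : u (κ v) = κ v := by rw [huκ, uv]
  obtain ⟨τ, hτ, hτκ, hτv⟩ := h.exists_torus hv0 hF.vv (a := 0) (b := 1) (Or.inr one_ne_zero)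
  rw [zero_smul, zero_add, one_smul] at hτv
  -- conjugate of `u` by the element `w ↦ κ v`-scaling
  have key : ∀ u ∈ M, (∀ x, u (κ x) = κ (u x)) → u v = v →
      (∀ z, f z v = 0 → f z (κ v) = 0 → ∃ s t : F, u z = z + s • v + t • κ v) →
      ∀ y, f y v = 0 ∧ f y (κ v) = 0 → g⁻¹ (κ (g (u y - y))) = u (g⁻¹ (κ (g y))) - g⁻¹ (κ (g y)) := by
    intro u hu huκ uv uA y hy
    have uκv : u (κ v) = κ v := by rw [huκ, uv]
    have huA : ∀ y, (∃ s t : F, y = s • v + t • κ v) → u y = y := by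
      rintro y ⟨s, t, rfl⟩
      rw [map_add, map_smul, map_smul, uv, uκv]
    set c := g * u * g⁻¹ with hc
    have hcM : c ∈ M := M.mul_mem (M.mul_mem hg hu) (M.inv_mem hg)
    have hcx : ∀ x, c x = g (u (g⁻¹ x)) := fun x => rfl
    have c1 : c v = v := by rw [hcx, huA _ hinvv, apply_inv_apply]
    have c2 : c (κ v) = κ v := by rw [hcx, huA _ hinvκv, apply_inv_apply]
    have c3 : ∀ z, f z v = 0 → f z (κ v) = 0 → ∃ s t : F, c z = z + s • v + t • κ v := by
      intro z z1 z2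
      obtain ⟨z3, z4⟩ := hgp' z ⟨z1, z2⟩
      obtain ⟨s, t, hst⟩ := uA _ z3 z4
      obtain ⟨s', t', hst'⟩ := hA (s • v + t • κ v) ⟨s, t, rfl⟩
      refine ⟨s', t', ?_⟩
      rw [hcx, hst, add_assoc, map_add, hst', apply_inv_apply, add_assoc]
    have hgy := hgp y hy
    have h3 := h.klin' hF hnt hcM c1 c2 c3 hgy.1 hgy.2
    rw [hcx, hcx, inv_apply_apply] at h3
    have h4 := congrArg (fun x => g⁻¹ x) h3
    simp only [map_sub, inv_apply_apply] at h4
    rw [h4]
    simp only [map_sub]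
  have uA1 : ∀ z, f z v = 0 → f z (κ v) = 0 → u z = z + (-(f z (κ w))) • v + f z w • κ v := by
    intro z z1 z2
    have hexp := h.expand_perp hF z1 z2
    have e1 : u z = (-(f z (κ v'))) • v + f z v' • κ v + (-(f z (κ w))) • (w + v) + f z w • κ (w + v) := by
      conv_lhs => rw [hexp]
      simp only [map_add, map_smul, uv, uκv, uw, huκ]
    rw [e1]
    conv_rhs => rw [show z + (-(f z (κ w))) • v + f z w • κ v = ((-(f z (κ v'))) • v + f z v' • κ v +
      (-(f z (κ w))) • w + f z w • κ w) + (-(f z (κ w))) • v + f z w • κ v from by rw [← hexp]]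
    rw [map_add]
    module
  -- the second element
  obtain ⟨u', hu', hu'κ, u'v, uA2⟩ : ∃ u' ∈ M, (∀ x, u' (κ x) = κ (u' x)) ∧ u' v = v ∧
      ∀ z, f z v = 0 → f z (κ v) = 0 → u' z = z + κ ((-(f z (κ w))) • v + f z w • κ v) := by
    have hF₁ : Fr f κ 1 v (w + κ v) (v' + κ w + (d / 2 : F) • v) := by
      refine ⟨hF.vv, ?_, ?_, ?_, ?_, ?_, ?_, ?_, ?_⟩ <;>
      simp only [map_add, map_sub, map_smul, LinearMap.add_apply, LinearMap.sub_apply, LinearMap.smul_apply, smul_eq_mul, h.kk, h.alt, h.sq, hV.a1, hV.a2, hV.a3,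
        hV.a4, hV.a5, hV.a6, hV.a7, hV.a8, hV.a9, hV.b1, hV.b2, hV.b3, hV.c1, hV.c2, hV.c3, hF.vv, hF.ww, hF.pp, hF.vp, hF.kvp,
        hF.vw, hF.kvw, hF.wp, hF.kwp, mul_zero, neg_zero, add_zero, zero_add, mul_one, mul_neg, neg_neg, sub_zero, zero_sub]
      · field_simp
        ring
      · ring
    obtain ⟨u', hu', hκ', u1, u2, -⟩ := h.exists_ext (one_mul 1) hF hF₁
    simp only [one_smul] at hκ'
    refine ⟨u', hu', hκ', u1, ?_⟩
    intro z z1 z2
    have hexp := h.expand_perp hF z1 z2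
    have e1 : u' z = (-(f z (κ v'))) • v + f z v' • κ v + (-(f z (κ w))) • (w + κ v) + f z w • κ (w + κ v) := by
      conv_lhs => rw [hexp]
      simp only [map_add, map_smul, u1, hκ', u2]
    rw [e1]
    conv_rhs => rw [show z + κ ((-(f z (κ w))) • v + f z w • κ v) = ((-(f z (κ v'))) • v + f z v' • κ v +
      (-(f z (κ w))) • w + f z w • κ w) + κ ((-(f z (κ w))) • v + f z w • κ v) from by rw [← hexp]]
    simp only [map_add, map_smul, h.sq]
    module
  have K1 := key u hu huκ uv (fun z z1 z2 => ⟨_, _, uA1 z z1 z2⟩)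
  have K2 := key u' hu' hu'κ u'v (fun z z1 z2 => ⟨f z w * d, -(f z (κ w)), by
    rw [uA2 z z1 z2]
    simp only [map_add, map_smul, h.sq]
    module⟩)
  -- `κ' = g⁻¹ κ g`
  set R : V → V := fun z => (-(f z (κ w))) • v + f z w • κ v with hR
  have KR1 : ∀ y, f y v = 0 ∧ f y (κ v) = 0 → g⁻¹ (κ (g (R y))) = R (g⁻¹ (κ (g y))) := by
    intro y hy
    have h3 := K1 y hy
    have hy' := hgp' _ (hkp _ (hgp y hy))
    rw [uA1 y hy.1 hy.2, uA1 _ hy'.1 hy'.2] at h3
    have e1 : y + (-(f y (κ w))) • v + f y w • κ v - y = R y := by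
      show _ = (-(f y (κ w))) • v + f y w • κ v
      abel
    rw [e1] at h3
    rw [h3]
    show _ = (-(f (g⁻¹ (κ (g y))) (κ w))) • v + f (g⁻¹ (κ (g y))) w • κ v
    abel
  have KR2 : ∀ y, f y v = 0 ∧ f y (κ v) = 0 → g⁻¹ (κ (g (κ (R y)))) = κ (R (g⁻¹ (κ (g y)))) := by
    intro y hy
    have h3 := K2 y hy
    have hy' := hgp' _ (hkp _ (hgp y hy))
    rw [uA2 y hy.1 hy.2, uA2 _ hy'.1 hy'.2] at h3
    have e1 : y + κ ((-(f y (κ w))) • v + f y w • κ v) - y = κ (R y) := by
      show _ = κ ((-(f y (κ w))) • v + f y w • κ v)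
      abel
    rw [e1] at h3
    rw [h3]
    show _ = κ ((-(f (g⁻¹ (κ (g y))) (κ w))) • v + f (g⁻¹ (κ (g y))) w • κ v)
    abel
  have hwperp : f w v = 0 ∧ f w (κ v) = 0 := ⟨hV.a6, hV.a7⟩
  have hRw : R w = v := by
    rw [hR]
    simp only [hV.a2, h.alt, neg_neg, one_smul, zero_smul, add_zero]
  -- `κ'` commutes with `κ` on `v`
  have hcomm : g⁻¹ (κ (g (κ v))) = κ (g⁻¹ (κ (g v))) := by
    have t1 := KR1 w hwperp
    have t2 := KR2 w hwperp
    rw [hRw] at t1 t2
    rw [t2, t1]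
  -- `κ' v ∈ K v`
  obtain ⟨a, b, hab⟩ : ∃ a b : F, g⁻¹ (κ (g v)) = a • v + b • κ v := by
    apply hA'
    refine ⟨a₂ * d, a₁, ?_⟩
    rw [hgv, map_add, map_smul, map_smul, h.sq]
    module
  have hκ'2 : ∀ x, g⁻¹ (κ (g (g⁻¹ (κ (g x))))) = d • x := by
    intro x
    rw [apply_inv_apply, h.sq, map_smul, inv_apply_apply]
  have hsq := hκ'2 v
  rw [hab] at hsq
  have e1 : g⁻¹ (κ (g (a • v + b • κ v))) = (a * a + b * b * d) • v + (2 * (a * b)) • κ v := by
    simp only [map_add, map_smul] at hcomm hab ⊢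
    rw [hcomm, hab]
    simp only [map_add, map_smul, h.sq]
    module
  rw [e1] at hsq
  have e2 : (a * a + b * b * d - d) • v + (2 * (a * b)) • κ v = 0 := by
    have := sub_eq_zero.2 hsq
    rw [← this]
    module
  obtain ⟨z1, z2⟩ := hind _ _ e2
  have ha0 : a = 0 := by
    by_contra ha
    have hb0 : b = 0 := (mul_eq_zero.1 ((mul_eq_zero.1 z2).resolve_left h2)).resolve_left ha
    rw [hb0] at z1
    exact h.nsq a (by linear_combination z1)
  rw [ha0] at z1 hab
  have hbb : b * b = 1 := by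
    have : d * (b * b - 1) = 0 := by linear_combination z1
    exact sub_eq_zero.1 ((mul_eq_zero.1 this).resolve_left hd)
  rw [zero_smul, zero_add] at hab
  -- `ε = b`
  have hgv1 : κ (g v) = b • g (κ v) := by
    have := congrArg (fun x => g x) hab
    simp only [apply_inv_apply, map_smul] at this
    exact this
  have hgv2 : g (κ v) = b • κ (g v) := by rw [hgv1, smul_smul, hbb, one_smul]
  -- `κ' w ≡ ε κ w`
  obtain ⟨s, t, hst⟩ : ∃ s t : F, g⁻¹ (κ (g w)) = b • κ w + s • v + t • κ v := by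
    have t1 := KR1 w hwperp
    rw [hRw, hab] at t1
    have hy' := hgp' _ (hkp _ (hgp w hwperp))
    have hexp := h.expand_perp hF hy'.1 hy'.2
    -- `R y = b • κ v` gives the coefficients
    have t1' : b • κ v = (-(f (g⁻¹ (κ (g w))) (κ w))) • v + f (g⁻¹ (κ (g w))) w • κ v := t1
    have t2 : (-(f (g⁻¹ (κ (g w))) (κ w))) • v + (f (g⁻¹ (κ (g w))) w - b) • κ v = 0 := by
      have := sub_eq_zero.2 t1'.symm
      rw [← this]
      module
    obtain ⟨q1, q2⟩ := hind _ _ t2
    rw [q1, sub_eq_zero.1 q2] at hexp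
    refine ⟨-(f (g⁻¹ (κ (g w))) (κ v')), f (g⁻¹ (κ (g w))) v', hexp.trans ?_⟩
    rw [zero_smul, add_zero]
    abel
  have hgw : κ (g w) = b • g (κ w) + s • g v + t • g (κ v) := by
    have := congrArg (fun x => g x) hst
    simp only [apply_inv_apply, map_add, map_smul] at this
    exact this
  have hgw2 : g (κ w) = b • κ (g w) - (b * s) • g v - (b * t) • g (κ v) := by
    rw [hgw]
    have : b • (b • g (κ w) + s • g v + t • g (κ v)) - (b * s) • g v - (b * t) • g (κ v) = (b * b) • g (κ w) := by module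
    rw [this, hbb, one_smul]
  -- the new frame
  have pr := h.pres g hg
  have q1 : f (κ (g v)) (g v) = 0 := by rw [hgv1, map_smul, LinearMap.smul_apply, pr, hF.vv, smul_zero]
  have q2 : f (κ (g w)) (g w) = b := by
    rw [hgw, map_add, map_add, map_smul, map_smul, map_smul, LinearMap.add_apply, LinearMap.add_apply,
      LinearMap.smul_apply, LinearMap.smul_apply, LinearMap.smul_apply, pr, pr, pr, hF.ww, hF.vw, hF.kvw]
    simp
  have q3 : f (g v) (g w) = 0 := by rw [pr, hF.vw]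
  have q4 : f (κ (g v)) (g w) = 0 := by rw [hgv1, map_smul, LinearMap.smul_apply, pr, hF.kvw, smul_zero]
  have q5 : f (g v) (g v') = 0 := by rw [pr, hF.vp]
  have q6 : f (κ (g v)) (g v') = b := by
    rw [hgv1, map_smul, LinearMap.smul_apply, pr, hF.kvp, smul_eq_mul, mul_one]
  have q7 : f (g w) (g v') = 0 := by rw [pr, hF.wp]
  set μ := f (κ (g w)) (g v') with hμ
  have q8 : f (g w) (g v) = 0 := by rw [h.skew, q3, neg_zero]
  have q9 : f (κ (g w)) (g v) = 0 := by rw [h.symm, q4]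
  set p := g v' + (-(b * μ)) • g w with hp
  set ν := -(b * f (κ p) p / 2) with hν
  have hb0 : b ≠ 0 := by
    rintro rfl
    rw [mul_zero] at hbb
    exact zero_ne_one hbb
  have hF₁ : Fr f κ b (g v) (g w) (p + ν • g v) := by
    refine ⟨q1, q2, ?_, ?_, ?_, q3, q4, ?_, ?_⟩
    · rw [h.q_add, h.q_smul, q1, mul_zero, add_zero, map_smul, h.symm p (g v), smul_eq_mul]
      have : f (κ (g v)) p = b := by
        rw [hp, map_add, map_smul, q6, q4, smul_zero, add_zero]
      rw [this, hν]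
      have e5 : f (κ p) p + 2 * (-(b * f (κ p) p / 2) * b) = f (κ p) p - (b * b) * f (κ p) p := by
        field_simp
        ring
      rw [e5, hbb]
      ring
    · rw [map_add, map_smul, hp, map_add, map_smul, q5, q3, h.alt]
      simp
    · rw [map_add, map_smul, hp, map_add, map_smul, q6, q4, q1]
      simp
    · rw [map_add, map_smul, hp, map_add, map_smul, q7, h.alt, q8]
      simp
    · rw [map_add, map_smul, hp, map_add, map_smul, ← hμ, q2, q9]
      have : μ + -(b * μ) * b = μ - (b * b) * μ := by ring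
      rw [smul_eq_mul, this, hbb]
      simp
  obtain ⟨k, hk, hkκ, k1, k2, -⟩ := h.exists_ext hbb hF hF₁
  -- `g' = k⁻¹ g`
  set g' := k⁻¹ * g with hg'
  have hg'M : g' ∈ M := M.mul_mem (M.inv_mem hk) hg
  have g'x : ∀ x, g' x = k⁻¹ (g x) := fun x => rfl
  have hkinv : ∀ x y, k x = y → k⁻¹ y = x := by
    rintro x _ rfl
    exact inv_apply_apply k x
  have r1 : g' v = v := by rw [g'x]; exact hkinv _ _ k1
  have r2 : g' (κ v) = κ v := by
    rw [g'x, hgv2]
    apply hkinv
    rw [hkκ, k1]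
  have r3 : g' w = w := by rw [g'x]; exact hkinv _ _ k2
  have r4 : g' (κ w) = κ w + (-(b * s)) • v + (-(b * t)) • κ v := by
    rw [g'x, hgw2]
    apply hkinv
    rw [map_add, map_add, map_smul, map_smul, hkκ, hkκ, k1, k2, hgv2]
    module
  obtain ⟨r5, r6⟩ := h.klin hF hnt hg'M r1 r2 (x₁ := 0) (x₂ := 0) (by rw [r3]; simp) r4
  rw [r5, r6] at r4
  simp only [mul_zero, zero_smul, add_zero] at r4
  obtain ⟨α, β, γ, hS⟩ := h.eq_Sm hF hg'M r1 r2 r3 r4
  have hzero : α + d * γ = 0 ∧ β = 0 := by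
    by_contra hcon
    have hne : α + d * γ ≠ 0 ∨ β ≠ 0 := by
      by_contra hcon'
      push Not at hcon'
      exact hcon hcon'
    exact hnt (h.all_of_first hv0 hF.vv (h.Sm_trans hv0 hF.vv ⟨g', hg'M, hS⟩ hne))
  have hlin : ∀ x, g' (κ x) = κ (g' x) := by
    intro x
    rw [hS, hS]
    unfold Sm
    rw [hzero.2, eq_neg_of_add_eq_zero_left hzero.1]
    have k1 : f (κ x) v = - f x (κ v) := h.adj x v
    simp only [map_add, map_smul, h.sq, h.kk, k1]
    module
  refine ⟨b, hbb, fun x => ?_⟩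
  have e6 : ∀ x, g x = k (g' x) := fun x => by rw [g'x, apply_inv_apply]
  rw [e6, e6, hlin, hkκ]

end H6

end Cfsg.Agent.H914.UniThree
end

-- part: H914/UniThreeE
section
/-!
# Overgroups of `GU₃(q).2` in `Sp₆(q)`, V: the alternative (helper914)
-/

set_option autoImplicit false
set_option linter.unusedSectionVars false
set_option linter.unusedSimpArgs false

namespace Cfsg.Agent.H914.UniThree

open Module Cfsg.Agent.H879 Cfsg.Agent.H879.UnitSymp

variable {F V : Type*} [Field F] [AddCommGroup V] [Module F V]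
variable {f : V →ₗ[F] V →ₗ[F] F} {κ : V →ₗ[F] V} {d : F} {M : Subgroup (V ≃ₗ[F] V)}

/-- The semilinear elements of `M`. -/
def semi (κ : V →ₗ[F] V) (M : Subgroup (V ≃ₗ[F] V)) : Subgroup (V ≃ₗ[F] V) where
  carrier := {g | g ∈ M ∧ ∃ ε : F, ε * ε = 1 ∧ ∀ x, g (κ x) = ε • κ (g x)}
  mul_mem' := by
    rintro a b ⟨ha, ε, hε, h1⟩ ⟨hb, ε', hε', h2⟩
    refine ⟨M.mul_mem ha hb, ε * ε', by linear_combination ε' * ε' * hε + hε', fun x => ?_⟩
    rw [LinearEquiv.mul_apply, LinearEquiv.mul_apply, h2, map_smul, h1, smul_smul, mul_comm]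
  one_mem' := ⟨M.one_mem, 1, one_mul 1, fun x => by rw [one_smul]; rfl⟩
  inv_mem' := by
    rintro a ⟨ha, ε, hε, h1⟩
    refine ⟨M.inv_mem ha, ε, hε, fun x => ?_⟩
    apply a.injective
    rw [apply_inv_apply, map_smul, h1, apply_inv_apply, smul_smul, hε, one_smul]

theorem mem_semi {g : V ≃ₗ[F] V} : g ∈ semi κ M ↔ g ∈ M ∧ ∃ ε : F, ε * ε = 1 ∧ ∀ x, g (κ x) = ε • κ (g x) := Iff.rfl

/-- The unitary transvections. -/
def DD (f : V →ₗ[F] V →ₗ[F] F) (κ : V →ₗ[F] V) (d : F) : Set (V ≃ₗ[F] V) :=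
  {s | ∃ v, v ≠ 0 ∧ f (κ v) v = 0 ∧ ∃ c : F, c ≠ 0 ∧ ∀ x, s x = Sm f κ v (-(c * d)) 0 c x}

namespace H6

variable (h : H6 f κ d M)
include h

theorem DD_mem {s : V ≃ₗ[F] V} (hs : s ∈ DD f κ d) : s ∈ semi κ M := by
  obtain ⟨v, hv, hq, c, hc, hx⟩ := hs
  have h1 : s ∈ M := by
    obtain ⟨g, hg, hge⟩ := h.Sm_ut hq hv c
    have : g = s := by
      ext x
      rw [hge, hx]
    rwa [← this]
  refine ⟨h1, 1, one_mul 1, fun x => ?_⟩
  rw [hx, hx, one_smul]
  unfold Sm
  have k1 : f (κ x) v = - f x (κ v) := h.adj x v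
  simp only [map_add, map_smul, h.sq, h.kk, k1]
  module

theorem DD_pow {p : ℕ} (hp : (p : F) = 0) {s : V ≃ₗ[F] V} (hs : s ∈ DD f κ d) : s ^ p = 1 := by
  obtain ⟨v, hv, hq, c, hc, hx⟩ := hs
  have key : ∀ n : ℕ, ∀ x, (s ^ n) x = Sm f κ v (-((n : F) * c * d)) 0 ((n : F) * c) x := by
    intro n
    induction n with
    | zero =>
      intro x
      rw [pow_zero]
      unfold Sm
      simp
    | succ n ih =>
      intro x
      rw [pow_succ', LinearEquiv.mul_apply, ih, hx, h.Sm_comp hq]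
      congr 1 <;> push_cast <;> ring
  ext x
  rw [key, hp]
  unfold Sm
  simp

/-- **The TI property**. -/
theorem ti (hnt : ¬ ∀ (y : V) (e : F), Has M (tr f y e)) {s : V ≃ₗ[F] V} (hs : s ∈ DD f κ d) {g : V ≃ₗ[F] V}
    (hg : g ∈ M) (hgs : g * s * g⁻¹ ∈ semi κ M) : g ∈ semi κ M := by
  obtain ⟨v, hv, hq, c, hc, hx⟩ := hs
  obtain ⟨-, ε, hε, hgsκ⟩ := hgs
  have := h.finite
  have hd := h.d_ne
  obtain ⟨w, v', hF⟩ := h.exists_frame hv hq
  have hV := h.vals hF
  have pr := h.pres g hg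
  -- the conjugate
  have hN : ∀ x, (g * s * g⁻¹) x = x + (c * f x (g (κ v))) • g (κ v) - (c * d * f x (g v)) • g v := by
    intro x
    rw [LinearEquiv.mul_apply, LinearEquiv.mul_apply, hx]
    unfold Sm
    simp only [map_add, map_smul, apply_inv_apply, h.pres_inv hg]
    module
  have hab : f (g v) (g (κ v)) = 0 := by rw [pr, hV.a1]
  have hba : f (g (κ v)) (g v) = 0 := by rw [pr, hF.vv]
  -- `ε = 1`
  have hε1 : ε = 1 := by
    obtain ⟨x, hx0, x1, x2, x3, x4⟩ : ∃ x, x ≠ 0 ∧ f (g v) x = 0 ∧ f (g (κ v)) x = 0 ∧ f (κ (g v)) x = 0 ∧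
        f (κ (g (κ v))) x = 0 := by
      let L : V →ₗ[F] (Fin 4 → F) := LinearMap.pi ![f (g v), f (g (κ v)), f (κ (g v)), f (κ (g (κ v)))]
      have h1 := LinearMap.finrank_range_add_finrank_ker L
      have h2 : finrank F (LinearMap.range L) ≤ 4 := by
        have := Submodule.finrank_le (LinearMap.range L)
        simpa using this
      rw [h.dim] at h1
      have h3 : LinearMap.ker L ≠ ⊥ := by
        intro h0
        rw [h0, finrank_bot] at h1
        omega
      obtain ⟨w, hw, hw0⟩ := (Submodule.ne_bot_iff _).1 h3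
      rw [LinearMap.mem_ker] at hw
      exact ⟨w, hw0, congrFun hw 0, congrFun hw 1, congrFun hw 2, congrFun hw 3⟩
    have h1 := hgsκ x
    have y1 : f x (g v) = 0 := by rw [h.skew, x1, neg_zero]
    have y2 : f x (g (κ v)) = 0 := by rw [h.skew, x2, neg_zero]
    have y3 : f (κ x) (g v) = 0 := by rw [h.symm, x3]
    have y4 : f (κ x) (g (κ v)) = 0 := by rw [h.symm, x4]
    rw [hN, hN, y1, y2, y3, y4] at h1
    simp only [mul_zero, zero_smul, add_zero, sub_zero] at h1
    have h4 : (1 - ε) • κ x = 0 := by rw [sub_smul, one_smul, ← h1, sub_self]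
    have h5 : κ x ≠ 0 := by
      intro h0
      have := h.sq x
      rw [h0, map_zero] at this
      exact hx0 ((smul_eq_zero.1 this.symm).resolve_left hd)
    exact (sub_eq_zero.1 ((smul_eq_zero.1 h4).resolve_right h5)).symm
  subst hε1
  -- `κ (g v)`
  have z1 : f (g (κ v')) (g v) = 1 := by rw [pr, hV.b1]
  have z2 : f (g (κ v')) (g (κ v)) = 0 := by rw [pr, h.kk, hV.a4, mul_zero, neg_zero]
  have h6 := hgsκ (g (κ v'))
  rw [hN, hN, z1, z2, one_smul] at h6
  set r := f (κ (g (κ v'))) (g v) with hr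
  set p := f (κ (g (κ v'))) (g (κ v)) with hp
  have h7 : κ (g v) = (-(p / d)) • g (κ v) + r • g v := by
    simp only [map_add, map_sub, map_smul, mul_zero, zero_smul, add_zero, mul_one, sub_zero, map_zero] at h6
    have h8 : (c * d) • κ (g v) = (c * d) • ((-(p / d)) • g (κ v) + r • g v) := by
      have h9 : (c * p) • g (κ v) - (c * d * r) • g v + (c * d) • κ (g v) = 0 := by
        have := sub_eq_zero.2 h6
        rw [← this]
        abel
      have h10 : (c * d) • ((-(p / d)) • g (κ v) + r • g v) = -((c * p) • g (κ v)) + (c * d * r) • g v := by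
        rw [smul_add, smul_smul, smul_smul]
        have : c * d * -(p / d) = -(c * p) := by field_simp
        rw [this, neg_smul]
      rw [h10]
      have := eq_neg_of_add_eq_zero_right h9
      rw [this]
      abel
    exact smul_right_injective V (mul_ne_zero hc hd) h8
  have hgq : f (κ (g v)) (g v) = 0 := by
    rw [h7, map_add, map_smul, map_smul, LinearMap.add_apply, LinearMap.smul_apply, LinearMap.smul_apply, hba, h.alt]
    simp
  have hgv0 : g v ≠ 0 := fun h0 => hv ((LinearEquiv.map_eq_zero_iff g).1 h0)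
  have hp0 : -(p / d) ≠ 0 := by
    intro h0
    rw [h0, zero_smul, zero_add] at h7
    have h8 := h.sq (g v)
    rw [h7, map_smul, h7, smul_smul] at h8
    apply h.nsq r
    have : (r * r - d) • g v = 0 := by rw [sub_smul, h8, sub_self]
    exact sub_eq_zero.1 ((smul_eq_zero.1 this).resolve_right hgv0)
  obtain ⟨w₁, v₁', hF₁⟩ := h.exists_frame hgv0 hgq
  obtain ⟨k, hk, hkκ, k1, -, -⟩ := h.exists_ext (one_mul 1) hF hF₁
  simp only [one_smul] at hkκ
  have hkM : k ∈ semi κ M := ⟨hk, 1, one_mul 1, fun x => by rw [hkκ, one_smul]⟩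
  have hkinv : ∀ x y, k x = y → k⁻¹ y = x := by
    rintro x _ rfl
    exact inv_apply_apply k x
  have hg'M : k⁻¹ * g ∈ M := M.mul_mem (M.inv_mem hk) hg
  have e1 : (k⁻¹ * g) v = (1 : F) • v + (0 : F) • κ v := by
    rw [LinearEquiv.mul_apply, hkinv v _ k1]
    simp
  have e2 : (k⁻¹ * g) (κ v) = (-(r * (-(p / d))⁻¹)) • v + (-(p / d))⁻¹ • κ v := by
    rw [LinearEquiv.mul_apply]
    apply hkinv
    rw [map_add, map_smul, map_smul, hkκ, k1, h7, smul_add, smul_smul, inv_mul_cancel₀ hp0, one_smul, smul_smul,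
      mul_comm r, neg_smul]
    abel
  obtain ⟨ε', hε', h9⟩ := h.semilinear_of_stab hF hnt hg'M e1 e2
  have h10 : k⁻¹ * g ∈ semi κ M := ⟨hg'M, ε', hε', h9⟩
  have h11 := (semi κ M).mul_mem hkM h10
  rwa [mul_inv_cancel_left] at h11

/-- An isotropic vector orthogonal to a given vector. -/
theorem exists_iso_perp {x : V} (hx : f (κ x) x ≠ 0) :
    ∃ v, v ≠ 0 ∧ f (κ v) v = 0 ∧ f x v = 0 ∧ f x (κ v) = 0 := by
  have := h.finite
  have hd := h.d_ne
  have hkadj : ∀ x e, f (κ x) e = 0 → f x (κ e) = 0 := by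
    intro x e hxe
    have := h.adj x e
    rw [hxe] at this
    exact neg_eq_zero.1 this.symm
  have hker : ∀ a b : V, ∃ y, y ≠ 0 ∧ f a y = 0 ∧ f (κ a) y = 0 ∧ f b y = 0 ∧ f (κ b) y = 0 := by
    intro a b
    let L : V →ₗ[F] (Fin 4 → F) := LinearMap.pi ![f a, f (κ a), f b, f (κ b)]
    have h1 := LinearMap.finrank_range_add_finrank_ker L
    have h2 : finrank F (LinearMap.range L) ≤ 4 := by
      have := Submodule.finrank_le (LinearMap.range L)
      simpa using this
    rw [h.dim] at h1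
    have h3 : LinearMap.ker L ≠ ⊥ := by
      intro h0
      rw [h0, finrank_bot] at h1
      omega
    obtain ⟨w, hw, hw0⟩ := (Submodule.ne_bot_iff _).1 h3
    rw [LinearMap.mem_ker] at hw
    exact ⟨w, hw0, congrFun hw 0, congrFun hw 1, congrFun hw 2, congrFun hw 3⟩
  obtain ⟨y, hy0, y1, y2, -, -⟩ := hker x x
  by_cases hqy : f (κ y) y = 0
  · exact ⟨y, hy0, hqy, y1, hkadj _ _ y2⟩
  obtain ⟨z, hz0, z1, z2, z3, z4⟩ := hker x y
  by_cases hqz : f (κ z) z = 0
  · exact ⟨z, hz0, hqz, z1, hkadj _ _ z2⟩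
  obtain ⟨α, β, hαβ⟩ := h.norm (-(f (κ y) y) / f (κ z) z)
  have z5 : f y (κ z) = 0 := hkadj _ _ z4
  have z6 : f (κ y) (κ z) = 0 := by rw [h.kk, z3, mul_zero, neg_zero]
  have z7 : f x (κ z) = 0 := hkadj _ _ z2
  have z8 : f (κ x) (κ z) = 0 := by rw [h.kk, z1, mul_zero, neg_zero]
  refine ⟨y + (α • z + β • κ z), ?_, ?_, ?_, ?_⟩
  · intro h0
    apply hqy
    have := congrArg (fun t => f (κ y) t) h0
    simp only [map_add, map_smul, z4, z6, map_zero, smul_zero, add_zero] at this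
    exact this
  · rw [h.q_add, h.q_comb, hαβ, div_mul_cancel₀ _ hqz, map_add, map_smul, map_smul, z4, z6]
    simp
  · rw [map_add, map_add, map_smul, map_smul, y1, z1, z7]
    simp
  · simp only [map_add, map_smul, h.sq, hkadj _ _ y2, z7, z1, smul_zero, add_zero]

/-- Isotropic vectors are mapped to isotropic vectors. -/
theorem isotropic_of (hfin : Finite F) (hnt : ¬ ∀ (y : V) (e : F), Has M (tr f y e)) {g : V ≃ₗ[F] V} (hg : g ∈ M) {v : V}
    (hv : f (κ v) v = 0) : f (κ (g v)) (g v) = 0 := by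
  by_contra hcon
  have := h.finite
  have hv0 : v ≠ 0 := by
    rintro rfl
    simp at hcon
  obtain ⟨v₁, hv1, hq1, x1, x2⟩ := h.exists_iso_perp hcon
  have hfV : Finite V := Module.finite_of_finite F
  have hfE : Finite (V ≃ₗ[F] V) := Finite.of_injective (fun g : V ≃ₗ[F] V => (g : V → V)) DFunLike.coe_injective
  have hfM : Finite M := Subtype.finite
  obtain ⟨p, hp, hp0⟩ : ∃ p : ℕ, p.Prime ∧ (p : F) = 0 := by
    refine ⟨ringChar F, CharP.char_is_prime F (ringChar F), CharP.cast_eq_zero F (ringChar F)⟩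
  obtain ⟨s, hs, hsx⟩ := h.Sm_ut hv hv0 1
  obtain ⟨t, ht, htx⟩ := h.Sm_ut hq1 hv1 1
  have hsD : s ∈ DD f κ d := ⟨v, hv0, hv, 1, one_ne_zero, hsx⟩
  have htD : t ∈ DD f κ d := ⟨v₁, hv1, hq1, 1, one_ne_zero, htx⟩
  let L : Subgroup (V ≃ₗ[F] V) :=
    { carrier := {m | m v = v}
      mul_mem' := by
        intro a b (ha : a v = v) (hb : b v = v)
        show (a * b) v = v
        rw [LinearEquiv.mul_apply, hb, ha]
      one_mem' := rfl
      inv_mem' := by
        intro a (ha : a v = v)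
        show a⁻¹ v = v
        nth_rewrite 1 [← ha]
        exact inv_apply_apply a v }
  have e1 : f v (κ v) = 0 := by rw [h.skew, hv, neg_zero]
  have hsL : s ∈ L := by
    show s v = v
    rw [hsx]
    unfold Sm
    rw [h.alt, e1]
    simp
  have htL : g⁻¹ * t * g⁻¹⁻¹ ∈ L := by
    show (g⁻¹ * t * g⁻¹⁻¹) v = v
    rw [inv_inv, LinearEquiv.mul_apply, LinearEquiv.mul_apply]
    have : t (g v) = g v := by
      rw [htx]
      unfold Sm
      rw [x1, x2]
      simp
    rw [this, inv_apply_apply]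
  obtain ⟨m, hm, k, hk, hgm⟩ := Cfsg.Agent.H880.ti_transfer_one hp M (semi κ M) (fun x hx => hx.1) (DD f κ d)
    (fun s hs => ⟨h.DD_mem hs, 1, by rw [pow_one]; exact h.DD_pow hp0 hs⟩)
    (fun s hs g hg hgs => h.ti hnt hs hg hgs) L hsD htD (M.inv_mem hg) hsL htL
  -- `g v = k⁻¹ v`
  have hgv : g v = k⁻¹ v := by
    have h1 : g = k⁻¹ * m⁻¹ := by
      rw [← inv_inj, hgm]
      group
    have h2 : m⁻¹ v = v := L.inv_mem hm
    rw [h1, LinearEquiv.mul_apply, h2]
  obtain ⟨hkM, ε, hε, hkκ⟩ := (semi κ M).inv_mem hk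
  apply hcon
  have h3 : κ (k⁻¹ v) = ε • k⁻¹ (κ v) := by rw [hkκ, smul_smul, hε, one_smul]
  rw [hgv, h3, map_smul, LinearMap.smul_apply, h.pres _ hkM, hv, smul_zero]

/-- **The alternative**. -/
theorem alternative (hfin : Finite F) : (∀ g ∈ M, ∃ ε : F, ε * ε = 1 ∧ ∀ x, g (κ x) = ε • κ (g x)) ∨
    ∀ (y : V) (e : F), Has M (tr f y e) := by
  by_cases hnt : ∀ (y : V) (e : F), Has M (tr f y e)
  · exact Or.inr hnt
  left
  intro g hg
  have h2 := h.two
  have hd := h.d_ne
  have hiso := fun (v : V) (hv : f (κ v) v = 0) => h.isotropic_of hfin hnt hg hv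
  -- an isotropic vector
  obtain ⟨v, hv0, hv⟩ : ∃ v : V, v ≠ 0 ∧ f (κ v) v = 0 := by
    have := h.finite
    have hnt' : Nontrivial V := Module.nontrivial_of_finrank_pos (R := F) (by rw [h.dim]; norm_num)
    obtain ⟨x, hx⟩ := exists_ne (0 : V)
    by_cases hq : f (κ x) x = 0
    · exact ⟨x, hx, hq⟩
    · obtain ⟨v, h1, h2, -, -⟩ := h.exists_iso_perp hq
      exact ⟨v, h1, h2⟩
  obtain ⟨w, v', hF⟩ := h.exists_frame hv0 hv
  have hV := h.vals hF
  have key : ∀ y, f (κ y) y = 0 → f (κ v) y = 0 → f (κ (g v)) (g y) = 0 := by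
    intro y hy hvy
    have h1 := hiso (v + y) (by rw [h.q_add, hv, hy, hvy]; ring)
    rw [map_add, h.q_add, hiso v hv, hiso y hy, zero_add, zero_add] at h1
    exact (mul_eq_zero.1 h1).resolve_left h2
  have y1 := key v hv hv
  have y2 := key (κ v) (by rw [h.sq, map_smul, LinearMap.smul_apply, hV.a1, smul_zero]) (h.alt _)
  have y3 := key (κ v') (by rw [h.sq, map_smul, LinearMap.smul_apply, hV.a3, smul_zero])
    (by rw [h.kk, hF.vp, mul_zero, neg_zero])
  have y4 := key ((1 / (2 * d) : F) • κ v + w + κ v') (by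
    simp only [map_add, map_smul, LinearMap.add_apply, LinearMap.smul_apply, smul_eq_mul, h.kk, h.alt, h.sq, hV.a1, hV.a2, hV.a3,
        hV.a4, hV.a5, hV.a6, hV.a7, hV.a8, hV.a9, hV.b1, hV.b2, hV.b3, hV.c1, hV.c2, hV.c3, hF.vv, hF.ww, hF.pp, hF.vp, hF.kvp,
        hF.vw, hF.kvw, hF.wp, hF.kwp, mul_zero, neg_zero, add_zero, zero_add, mul_one, mul_neg, neg_neg, sub_zero, zero_sub]
    field_simp
    ring) (by
    simp only [map_add, map_smul, h.alt, hF.kvw, h.kk, hF.vp, smul_zero, mul_zero, neg_zero, add_zero])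
  have y5 := key ((-(1 / 2) : F) • κ v + κ w + κ v') (by
    simp only [map_add, map_smul, LinearMap.add_apply, LinearMap.smul_apply, smul_eq_mul, h.kk, h.alt, h.sq, hV.a1, hV.a2, hV.a3,
        hV.a4, hV.a5, hV.a6, hV.a7, hV.a8, hV.a9, hV.b1, hV.b2, hV.b3, hV.c1, hV.c2, hV.c3, hF.vv, hF.ww, hF.pp, hF.vp, hF.kvp,
        hF.vw, hF.kvw, hF.wp, hF.kwp, mul_zero, neg_zero, add_zero, zero_add, mul_one, mul_neg, neg_neg, sub_zero, zero_sub]
    field_simp
    ring) (by
    simp only [map_add, map_smul, h.alt, hF.kvw, h.kk, hF.vp, hF.vw, smul_zero, mul_zero, neg_zero, add_zero])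
  have y6 : f (κ (g v)) (g w) = 0 := by
    simp only [map_add, map_smul, y2, y3, smul_zero, add_zero, zero_add] at y4
    exact y4
  have y7 : f (κ (g v)) (g (κ w)) = 0 := by
    simp only [map_add, map_smul, y2, y3, smul_zero, add_zero, zero_add] at y5
    exact y5
  -- `z = g⁻¹ κ g v`
  have hz : ∀ y, f (g⁻¹ (κ (g v))) y = f (κ (g v)) (g y) := fun y => h.pres_inv hg _ _
  have hexp := h.expand hF (g⁻¹ (κ (g v)))
  rw [hz, hz, hz, hz, hz, hz, y1, y2, y3, y6, y7] at hexp
  simp only [neg_zero, zero_smul, zero_add, add_zero] at hexp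
  set t := f (κ (g v)) (g v') with ht
  have hκg : κ (g v) = t • g (κ v) := by
    have := congrArg (fun x => g x) hexp
    simp only [apply_inv_apply, map_smul] at this
    exact this
  have hgv0 : g v ≠ 0 := fun h0 => hv0 ((LinearEquiv.map_eq_zero_iff g).1 h0)
  have ht0 : t ≠ 0 := by
    intro h0
    rw [h0, zero_smul] at hκg
    have := h.sq (g v)
    rw [hκg, map_zero] at this
    exact hgv0 ((smul_eq_zero.1 this.symm).resolve_left hd)
  obtain ⟨w₁, v₁', hF₁⟩ := h.exists_frame hgv0 (hiso v hv)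
  obtain ⟨k, hk, hkκ, k1, -, -⟩ := h.exists_ext (one_mul 1) hF hF₁
  simp only [one_smul] at hkκ
  have hkinv : ∀ x y, k x = y → k⁻¹ y = x := by
    rintro x _ rfl
    exact inv_apply_apply k x
  have hg'M : k⁻¹ * g ∈ M := M.mul_mem (M.inv_mem hk) hg
  have e1 : (k⁻¹ * g) v = (1 : F) • v + (0 : F) • κ v := by
    rw [LinearEquiv.mul_apply, hkinv v _ k1]
    simp
  have e2 : (k⁻¹ * g) (κ v) = (0 : F) • v + t⁻¹ • κ v := by
    rw [LinearEquiv.mul_apply]
    apply hkinv
    rw [zero_smul, zero_add, map_smul, hkκ, k1, hκg, smul_smul, inv_mul_cancel₀ ht0, one_smul]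
  obtain ⟨ε, hε, h9⟩ := h.semilinear_of_stab hF hnt hg'M e1 e2
  refine ⟨ε, hε, fun x => ?_⟩
  have h10 : ∀ x, g x = k ((k⁻¹ * g) x) := fun x => by rw [LinearEquiv.mul_apply, apply_inv_apply]
  rw [h10, h10 x, h9, map_smul, hkκ]

end H6

end Cfsg.Agent.H914.UniThree
end

-- part: H914/UniThreeMax
section
/-!
# `GU₃(q).2` is maximal in `Sp₆(q)`, `q` odd (helper914)
-/

set_option autoImplicit false
set_option linter.unusedSectionVars false
set_option linter.unusedSimpArgs false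

namespace Cfsg.Agent.H914.UniThree

open Module Cfsg.Agent.H879 Cfsg.Agent.H879.UnitSymp
open Cfsg Matrix Cfsg.Agent.ClassicalGeometry.SympBasic Cfsg.Agent.H875.UnitSp

theorem unit_maximal_aux {F : Type*} [Field F] [Fintype F] (m : ℕ) (hm : m = 3) (hodd : Odd (Fintype.card F)) (K : Subalgebra F (Matrix (Fin m ⊕ Fin m) (Fin m ⊕ Fin m) F)) (hK : Cfsg.Geo.IsFieldSubalgebra 2 K) (hac : Cfsg.Geo.IsAdjointClosedFor (Cfsg.sympForm m F) K) (hnsa : ¬ Cfsg.Geo.IsSelfAdjointFor (Cfsg.sympForm m F) K) : Cfsg.Geo.IsMaximalIn (Cfsg.spGL m F) (Cfsg.Geo.subalgebraNormalizer K ⊓ Cfsg.spGL m F) := by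
  refine isMaximalIn_of hK le_rfl (by omega) fun M hHM hMS => ?_
  -- the element κ
  obtain ⟨k, hk, hkn⟩ : ∃ k ∈ K, ¬ ∀ u v, sympForm m F (k *ᵥ u) v = sympForm m F u (k *ᵥ v) := by
    by_contra hcon
    push Not at hcon
    exact hnsa hcon
  obtain ⟨k', hk', hadj⟩ := hac k hk
  have hadj' : ∀ u v, sympForm m F (k' *ᵥ u) v = sympForm m F u (k *ᵥ v) := by
    intro u v
    rw [sympForm_swap, ← hadj, sympForm_swap, neg_neg]
  set κ : Matrix (Fin m ⊕ Fin m) (Fin m ⊕ Fin m) F := k - k' with hκ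
  have hκK : κ ∈ K := K.sub_mem hk hk'
  have hκadj : ∀ u v, sympForm m F (κ *ᵥ u) v = - sympForm m F u (κ *ᵥ v) := by
    intro u v
    rw [hκ, sub_mulVec, sub_mulVec, sympForm_sub_left, sympForm_sub_right, hadj, hadj']
    ring
  have hκ0 : κ ≠ 0 := by
    intro h0
    apply hkn
    intro u v
    rw [hadj, ← sub_eq_zero.1 h0]
  have htwo := two_ne hodd
  have hns : ∀ c : F, κ ≠ c • (1 : Matrix _ _ F) := by
    intro c hc
    have h1 : ∀ u v, 2 * (c * sympForm m F u v) = 0 := by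
      intro u v
      have := hκadj u v
      rw [hc, smul_mulVec, smul_mulVec, one_mulVec, one_mulVec, sympForm_smul_left,
        sympForm_smul_right] at this
      linear_combination this
    have hc0 : c = 0 := by
      by_contra hc0
      let i₀ : Fin m := ⟨0, by omega⟩
      have h2 : ∀ w, sympForm m F w (Pi.single (Sum.inl i₀) 1) = 0 := by
        intro w
        have := h1 w (Pi.single (Sum.inl i₀) 1)
        exact (mul_eq_zero.1 ((mul_eq_zero.1 this).resolve_left htwo)).resolve_left hc0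
      have h3 := congrFun (eq_zero_of_forall_sympForm_left h2) (Sum.inl i₀)
      rw [Pi.single_eq_same] at h3
      exact one_ne_zero h3
    rw [hc0, zero_smul] at hc
    exact hκ0 hc
  -- K is spanned by 1 and κ
  have hspan : ∀ x ∈ K, ∃ α β : F, x = α • (1 : Matrix _ _ F) + β • κ := by
    intro x hx
    have hli : LinearIndependent F ![(1 : K), ⟨κ, hκK⟩] := by
      rw [LinearIndependent.pair_iff]
      intro s t hst
      have h1 := congrArg Subtype.val hst
      change s • (1 : Matrix _ _ F) + t • κ = 0 at h1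
      have ht : t = 0 := by
        by_contra ht
        apply hns (-(t⁻¹ * s))
        have h2 : κ = t⁻¹ • (t • κ) := by rw [smul_smul, inv_mul_cancel₀ ht, one_smul]
        rw [h2, eq_neg_of_add_eq_zero_right h1, smul_neg, smul_smul, neg_smul]
      refine ⟨?_, ht⟩
      rw [ht, zero_smul, add_zero] at h1
      by_contra hs
      have h2 := congrFun (congrFun h1 (Sum.inl ⟨0, by omega⟩)) (Sum.inl ⟨0, by omega⟩)
      simp at h2
      exact hs h2
    have hfin : FiniteDimensional F K := Module.finite_of_finrank_pos (by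
      rw [hK.finrank_eq]; norm_num)
    have hsp := hli.span_eq_top_of_card_eq_finrank (by
      rw [hK.finrank_eq]; simp)
    have hx' : (⟨x, hx⟩ : K) ∈ Submodule.span F (Set.range ![(1 : K), ⟨κ, hκK⟩]) := by
      rw [hsp]; trivial
    rw [Submodule.mem_span_range_iff_exists_fun] at hx'
    obtain ⟨c, hc⟩ := hx'
    rw [Fin.sum_univ_two] at hc
    exact ⟨c 0, c 1, (congrArg Subtype.val hc).symm⟩
  obtain ⟨d, b, hdb⟩ := hspan (κ * κ) (K.mul_mem hκK hκK)
  have hb : b = 0 := by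
    by_contra hb
    -- κ² is self-adjoint
    have h1 : ∀ u v, sympForm m F ((κ * κ) *ᵥ u) v = sympForm m F u ((κ * κ) *ᵥ v) := by
      intro u v
      rw [← mulVec_mulVec, ← mulVec_mulVec, hκadj, hκadj, neg_neg]
    have h2 : ∀ u v, sympForm m F u (κ *ᵥ v) = 0 := by
      intro u v
      have := h1 u v
      rw [hdb, add_mulVec, add_mulVec, smul_mulVec, smul_mulVec, smul_mulVec, smul_mulVec,
        one_mulVec, one_mulVec, sympForm_add_left, sympForm_add_right, sympForm_smul_left,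
        sympForm_smul_left, sympForm_smul_right, sympForm_smul_right, hκadj] at this
      have h3 : 2 * (b * sympForm m F u (κ *ᵥ v)) = 0 := by linear_combination -this
      exact (mul_eq_zero.1 ((mul_eq_zero.1 h3).resolve_left htwo)).resolve_left hb
    apply hκ0
    apply Matrix.mulVec_injective
    funext v
    rw [zero_mulVec]
    exact eq_zero_of_forall_sympForm_left fun w => h2 w v
  rw [hb, zero_smul, add_zero] at hdb
  have hsq : ∀ x, κ *ᵥ (κ *ᵥ x) = d • x := by
    intro x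
    rw [mulVec_mulVec, hdb, smul_mulVec, one_mulVec]
  have hnsq : ∀ c : F, c * c ≠ d := by
    intro c hc
    have h1 : (κ - c • 1) * (κ + c • 1) = 0 := by
      rw [sub_mul, mul_add, mul_add, hdb, ← hc]
      simp only [Matrix.mul_smul, Matrix.smul_mul, mul_one, one_mul]
      module
    have h2 : κ - c • 1 ≠ 0 := sub_ne_zero.2 (hns c)
    obtain ⟨y, hy, hxy⟩ := hK.inv _ (K.sub_mem hκK (K.smul_mem K.one_mem c)) h2
    have h3 : κ + c • 1 = 0 := by
      have h4 : y * (κ - c • 1) = 1 := by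
        rw [hK.comm y hy _ (K.sub_mem hκK (K.smul_mem K.one_mem c)), hxy]
      calc κ + c • 1 = (y * (κ - c • 1)) * (κ + c • 1) := by rw [h4, one_mul]
        _ = 0 := by rw [mul_assoc, h1, mul_zero]
    apply hns (-c)
    rw [neg_smul]
    exact eq_neg_of_add_eq_zero_left h3
  have hd0 : d ≠ 0 := by
    rintro rfl
    exact hnsq 0 (mul_zero 0)
  -- the hypotheses
  have h : H6 (sympBilin m F) (Matrix.toLin' κ) d (M.map toEq.toMonoidHom) := by
    refine ⟨sympForm_self, ?_, htwo, ?_, hnsq, ?_, ?_, ?_, ?_, ?_⟩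
    · intro x hx
      by_contra hcon
      push Not at hcon
      exact hx (eq_zero_of_forall_sympForm_right hcon)
    · intro x
      rw [toLin'_apply, toLin'_apply, hsq]
    · intro e
      obtain ⟨α, β, hαβ⟩ := exists_quad hodd one_ne_zero (neg_ne_zero.2 hd0) e
      exact ⟨α, β, by linear_combination hαβ⟩
    · intro x y
      rw [toLin'_apply, toLin'_apply]
      exact hκadj x y
    · rw [finrank_fintype_fun_eq_card, Fintype.card_sum, Fintype.card_fin]
      omega
    · rintro _ ⟨g, hg, rfl⟩ x y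
      exact hMS hg x y
    · intro g hgiso ε hε hgκ
      obtain ⟨g₀, rfl⟩ := toEq.surjective g
      refine ⟨g₀, hHM ⟨?_, ?_⟩, rfl⟩
      · apply mem_subalgebraNormalizer_of_semilinear
        intro x hx
        obtain ⟨α, β, rfl⟩ := hspan x hx
        refine ⟨α • (1 : Matrix _ _ F) + (β * ε) • κ, K.add_mem (K.smul_mem K.one_mem _) (K.smul_mem hκK _), fun y => ?_⟩
        have h2 := hgκ y
        rw [toLin'_apply, toLin'_apply, toEq_apply, toEq_apply] at h2
        simp only [add_mulVec, smul_mulVec, one_mulVec, mulVec_add, mulVec_smul, h2, smul_smul]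
      · intro u v
        exact hgiso u v
  rcases h.alternative inferInstance with h1 | h1
  · left
    intro g hg
    apply mem_subalgebraNormalizer_of_semilinear
    intro x hx
    obtain ⟨ε, -, hε⟩ := h1 (toEq g) ⟨g, hg, rfl⟩
    obtain ⟨s, t, rfl⟩ := hspan x hx
    refine ⟨s • (1 : Matrix _ _ F) + (t * ε) • κ, ?_, fun y => ?_⟩
    · exact K.add_mem (K.smul_mem K.one_mem _) (K.smul_mem hκK _)
    · have h2 := hε y
      rw [toLin'_apply, toLin'_apply, toEq_apply, toEq_apply] at h2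
      simp only [add_mulVec, smul_mulVec, one_mulVec, mulVec_add, mulVec_smul, h2, smul_smul]
  · right
    apply spGL_le_of_has
    exact fun v c => h1 v c

/-- **Part (6) of S5804**: `GU₃(q).2` is maximal in `Sp₆(q)`, `q` odd. -/
theorem unit_maximal_three {F : Type*} [Field F] [Fintype F] (hodd : Odd (Fintype.card F))
    (K : Subalgebra F (Matrix (Fin 3 ⊕ Fin 3) (Fin 3 ⊕ Fin 3) F)) (hK : Cfsg.Geo.IsFieldSubalgebra 2 K)
    (hac : Cfsg.Geo.IsAdjointClosedFor (Cfsg.sympForm 3 F) K)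
    (hnsa : ¬ Cfsg.Geo.IsSelfAdjointFor (Cfsg.sympForm 3 F) K) :
    Cfsg.Geo.IsMaximalIn (Cfsg.spGL 3 F) (Cfsg.Geo.subalgebraNormalizer K ⊓ Cfsg.spGL 3 F) :=
  unit_maximal_aux 3 rfl hodd K hK hac hnsa

end Cfsg.Agent.H914.UniThree
end

-- part: S5804
section
set_option autoImplicit false
open Cfsg

namespace Cfsg.Agent.S5804

/-- Maximal subgroups of Sp_6(q) of geometric type (any q). Let F be a finite field with q elements, f the standard alternating form on F^6 (coordinates Fin 3 ⊕ Fin 3) and Sp_6(F) its isometry group inside GL_6(F). Each of the following, intersected with Sp_6(F), is a maximal subgroup of Sp_6(F): (1) the stabiliser of any non-zero totally isotropic subspace (dimensions 1, 2, 3); (2) the stabiliser of any non-degenerate 2-space; (3) for q ≥ 3, the stabiliser of any decomposition of F^6 into three mutually orthogonal non-degenerate 2-spaces; (4) for q odd, the stabiliser of any decomposition into two totally isotropic 3-spaces;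 (5) the normaliser of any degree-3 subfield K of the matrix algebra whose elements are self-adjoint for f with f(k v, v) = 0 (f is the trace of an alternating form over K); (6) for q odd, the normaliser of any degree-2 subfield of the matrix algebra that is closed under adjoints but not self-adjoint (f is the trace of a multiple of a unitary form over K); (7) for q odd with q ≥ 5, the stabiliser of any tensor decomposition of f as (alternating form on F^2) ⊗ (non-degenerate symmetric bilinear form on F^3) up to a scalar; (8) every subfield group for a subfield F₀ with |F| = |F₀|^r, r prime, whose F₀-structure carries a non-zero scalar multiple of f; (9) for q even, the similarity group of any non-degenerate quadratic form whose polar form is f (either Witt type); its intersection with Sp_6(F) is the orthogonal group of that form. -/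
theorem result {F : Type*} [Field F] [Fintype F] :
    (∀ W : Submodule F (Fin 3 ⊕ Fin 3 → F), W ≠ ⊥ → Cfsg.Geo.IsTotallySingularFor (Cfsg.sympForm 3 F) W → Cfsg.Geo.IsMaximalIn (Cfsg.spGL 3 F) (Cfsg.Geo.subspaceStabilizer W ⊓ Cfsg.spGL 3 F)) ∧
    (∀ W : Submodule F (Fin 3 ⊕ Fin 3 → F), W ≠ ⊥ → Cfsg.Geo.IsNondegenerateOn (Cfsg.sympForm 3 F) W → Module.finrank F W < 3 → Cfsg.Geo.IsMaximalIn (Cfsg.spGL 3 F) (Cfsg.Geo.subspaceStabilizer W ⊓ Cfsg.spGL 3 F)) ∧
    (3 ≤ Fintype.card F → ∀ D : Fin 3 → Submodule F (Fin 3 ⊕ Fin 3 → F), Cfsg.Geo.IsNondegenerateMDecomposition (Cfsg.sympForm 3 F) 2 D → Cfsg.Geo.IsMaximalIn (Cfsg.spGL 3 F) (Cfsg.Geo.decompositionStabilizer D ⊓ Cfsg.spGL 3 F)) ∧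
    (Odd (Fintype.card F) → ∀ D : Fin 2 → Submodule F (Fin 3 ⊕ Fin 3 → F), Cfsg.Geo.IsMDecomposition 3 D → (∀ i, Cfsg.Geo.IsTotallySingularFor (Cfsg.sympForm 3 F) (D i)) → Cfsg.Geo.IsMaximalIn (Cfsg.spGL 3 F) (Cfsg.Geo.decompositionStabilizer D ⊓ Cfsg.spGL 3 F)) ∧
    (∀ K : Subalgebra F (Matrix (Fin 3 ⊕ Fin 3) (Fin 3 ⊕ Fin 3) F), Cfsg.Geo.IsFieldSubalgebra 3 K → Cfsg.Geo.IsSelfAdjointFor (Cfsg.sympForm 3 F) K → (∀ k ∈ K, ∀ v : (Fin 3 ⊕ Fin 3 → F), (Cfsg.sympForm 3 F) (Matrix.mulVec k v) v = 0) → Cfsg.Geo.IsMaximalIn (Cfsg.spGL 3 F) (Cfsg.Geo.subalgebraNormalizer K ⊓ Cfsg.spGL 3 F)) ∧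
    (Odd (Fintype.card F) → ∀ K : Subalgebra F (Matrix (Fin 3 ⊕ Fin 3) (Fin 3 ⊕ Fin 3) F), Cfsg.Geo.IsFieldSubalgebra 2 K → Cfsg.Geo.IsAdjointClosedFor (Cfsg.sympForm 3 F) K → ¬ Cfsg.Geo.IsSelfAdjointFor (Cfsg.sympForm 3 F) K → Cfsg.Geo.IsMaximalIn (Cfsg.spGL 3 F) (Cfsg.Geo.subalgebraNormalizer K ⊓ Cfsg.spGL 3 F)) ∧
    (Odd (Fintype.card F) → 5 ≤ Fintype.card F → ∀ (e : (Fin 3 ⊕ Fin 3) ≃ Fin 2 × Fin 3) (P : Matrix.GeneralLinearGroup (Fin 3 ⊕ Fin 3) F) (f₁ : (Fin 2 → F) → (Fin 2 → F) → F) (f₂ : (Fin 3 → F) → (Fin 3 → F) → F), Cfsg.Geo.IsSymplecticForm f₁ → Cfsg.Geo.IsSymmetricForm f₂ → Cfsg.Geo.IsTensorFormStructure id (Cfsg.sympForm 3 F) f₁ f₂ e P → Cfsg.Geo.IsMaximalIn (Cfsg.spGL 3 F) (Cfsg.Geo.tensorProductSubgroup 2 3 e P ⊓ Cfsg.spGL 3 F)) ∧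
    (∀ (F₀ : Subfield F) (r : ℕ) (P : Matrix.GeneralLinearGroup (Fin 3 ⊕ Fin 3) F) (ζ : F), r.Prime → Fintype.card F = Nat.card F₀ ^ r → ζ ≠ 0 → Cfsg.Geo.IsFormRationalStructure (Cfsg.sympForm 3 F) F₀ ζ P → Cfsg.Geo.IsMaximalIn (Cfsg.spGL 3 F) (Cfsg.Geo.subfieldSubgroup F₀ P ⊓ Cfsg.spGL 3 F)) ∧
    (¬ Odd (Fintype.card F) → ∀ Q : (Fin 3 ⊕ Fin 3 → F) → F, Cfsg.Geo.IsNondegenerateQuadraticForm Q → (∀ u v : (Fin 3 ⊕ Fin 3 → F), QuadraticMap.polar Q u v = (Cfsg.sympForm 3 F) u v) → Cfsg.Geo.IsMaximalIn (Cfsg.spGL 3 F) (Cfsg.Geo.quadSimilarityGroup Q ⊓ Cfsg.spGL 3 F)) := by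
  classical
  refine ⟨?_, ?_, ?_, ?_, ?_, ?_, ?_, ?_, ?_⟩
  · intro W hW0 hW
    exact Cfsg.Agent.H874.SpCOne.singular_maximal W hW0 hW
  · intro W hW0 hW hdim
    refine Cfsg.Agent.H874.SpCOne.nondegenerate_maximal W hW0 ?_ hW (by omega)
    rintro rfl
    rw [finrank_top] at hdim
    simp at hdim
  · intro hq D hD
    exact Cfsg.Agent.H914.SpFrames.frame_maximal 3 2 D hD (fun h => by omega)
  · intro hodd D hD hts
    exact Cfsg.Agent.H914.SpPairs.pair_maximal 3 le_rfl hodd D hD hts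
  · intro K hK hsa halt
    exact Cfsg.Agent.H914.SpFields.field_maximal 3 le_rfl 3 Nat.prime_three K hK hsa halt
  · intro hodd K hK hac hnsa
    exact Cfsg.Agent.H914.UniThree.unit_maximal_three hodd K hK hac hnsa
  · intro hodd hq e P f₁ f₂ h1 h2 h
    exact Cfsg.Agent.H914.TensModel.tensor_two_three_maximal (Cfsg.Agent.H875.UnitSp.two_ne hodd)
      (by rw [Nat.card_eq_fintype_card]; exact hq) e P f₁ f₂ h1 h2 h
  · intro F₀ r P ζ hr hcard hζ hP
    exact Cfsg.Agent.H875.SpGenEven.sub_maximal_all 3 le_rfl F₀ r hr hcard P ζ hζ hP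
  · intro hodd Q hQ hpol
    have hchar : CharP F 2 := by
      have h1 : ringChar F = 2 := by
        by_contra hne
        apply hodd
        have := FiniteField.odd_card_of_char_ne_two hne
        exact Nat.odd_iff.mpr this
      exact ringChar.of_eq h1
    exact Cfsg.Agent.H910.quad_maximal (by norm_num) hQ hpol

end Cfsg.Agent.S5804
end
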